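import Mathlib

/-!
# An average of roots of unity that is an algebraic integer of absolute value less than one
vanishes
-/

set_option autoImplicit false
set_option linter.style.haveILetI false

namespace Cfsg.Agent.Helper6

open scoped ComplexConjugate

/-- If `α = (∑ μ i) / d` is an average of `d` roots of unity, is an algebraic integer and has
absolute value less than one, then `α = 0`. -/
theorem avg_roots_of_unity_eq_zero {ι : Type*} [Fintype ι] (μ : ι → ℂ) (n : ℕ) (hn : 0 < n)
    (hμ : ∀ i, μ i ^ n = 1) (hne : Nonempty ι)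
    (hint : IsIntegral ℤ ((∑ i, μ i) / (Fintype.card ι : ℂ)))
    (hlt : ‖(∑ i, μ i) / (Fintype.card ι : ℂ)‖ < 1) :
    (∑ i, μ i) / (Fintype.card ι : ℂ) = 0 := by
  classical
  set d : ℕ := Fintype.card ι with hd
  have hdpos : 0 < d := Fintype.card_pos
  have hdC : (d : ℂ) ≠ 0 := by exact_mod_cast hdpos.ne'
  -- the field generated by the roots of unity
  let K : IntermediateField ℚ ℂ := IntermediateField.adjoin ℚ (Set.range μ)
  have hμint : ∀ x ∈ Set.range μ, IsIntegral ℚ x := by
    rintro _ ⟨i, rfl⟩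
    exact IsIntegral.of_pow hn (by rw [hμ i]; exact isIntegral_one)
  haveI : FiniteDimensional ℚ K := IntermediateField.finiteDimensional_adjoin hμint
  let m : ι → K := fun i => ⟨μ i, IntermediateField.subset_adjoin ℚ _ ⟨i, rfl⟩⟩
  let a : K := (∑ i, m i) / (d : K)
  have ha : (a : ℂ) = (∑ i, μ i) / (d : ℂ) := by
    simp only [a, m]
    push_cast
    rfl
  -- each embedding sends `a` to something of norm at most one
  have hσ : ∀ σ : K →ₐ[ℚ] ℂ, ‖σ a‖ ≤ 1 := by
    intro σ
    have h1 : σ a = (∑ i, σ (m i)) / (d : ℂ) := by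
      simp only [a, map_div₀, map_sum, map_natCast]
    rw [h1, norm_div, Complex.norm_natCast]
    rw [div_le_one (by exact_mod_cast hdpos)]
    calc ‖∑ i, σ (m i)‖ ≤ ∑ i, ‖σ (m i)‖ := norm_sum_le _ _
      _ = ∑ _i : ι, (1 : ℝ) := by
        apply Finset.sum_congr rfl
        intro i _
        have : (σ (m i)) ^ n = 1 := by
          rw [← map_pow]
          have : (m i) ^ n = 1 := by
            apply Subtype.ext
            exact hμ i
          rw [this, map_one]
        exact Complex.norm_eq_one_of_pow_eq_one this hn.ne'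
      _ = (d : ℝ) := by simp [hd]
  -- the norm of `a`
  have hnorm := Algebra.norm_eq_prod_embeddings ℚ ℂ a
  have hlt2 : ‖∏ σ : K →ₐ[ℚ] ℂ, σ a‖ < 1 := by
    rw [norm_prod]
    have hσ0 : ‖(K.val : K →ₐ[ℚ] ℂ) a‖ < 1 := by
      change ‖(a : ℂ)‖ < 1
      rw [ha]
      exact hlt
    have hsplit := Finset.mul_prod_erase Finset.univ (fun σ : K →ₐ[ℚ] ℂ => ‖σ a‖)
      (Finset.mem_univ (K.val : K →ₐ[ℚ] ℂ))
    rw [← hsplit]
    calc ‖(K.val : K →ₐ[ℚ] ℂ) a‖ * ∏ σ ∈ Finset.univ.erase (K.val : K →ₐ[ℚ] ℂ), ‖σ a‖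
        ≤ ‖(K.val : K →ₐ[ℚ] ℂ) a‖ * 1 := by
          apply mul_le_mul_of_nonneg_left _ (norm_nonneg _)
          apply Finset.prod_le_one
          · intro σ _
            exact norm_nonneg _
          · intro σ _
            exact hσ σ
      _ < 1 := by rw [mul_one]; exact hσ0
  -- integrality of the norm
  have haint : IsIntegral ℤ a := by
    have : IsIntegral ℤ ((algebraMap K ℂ) a) := by
      change IsIntegral ℤ (a : ℂ)
      rw [ha]
      exact hint
    exact (isIntegral_algebraMap_iff (algebraMap K ℂ).injective).mp this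
  have hNint : IsIntegral ℤ (Algebra.norm ℚ a) := Algebra.isIntegral_norm ℚ haint
  obtain ⟨k, hk⟩ := IsIntegrallyClosed.isIntegral_iff.mp hNint
  rw [← hnorm, ← hk] at hlt2
  have hk0 : k = 0 := by
    have h1 : ‖((algebraMap ℚ ℂ) ((algebraMap ℤ ℚ) k))‖ = |(k : ℝ)| := by
      simp
    rw [h1] at hlt2
    have h2 : |k| < 1 := by exact_mod_cast hlt2
    exact Int.abs_lt_one_iff.mp h2
  rw [hk0, map_zero] at hk
  have ha0 : a = 0 := Algebra.norm_eq_zero_iff.mp hk.symm
  rw [← ha, ha0]
  rfl

end Cfsg.Agent.Helper6
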