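import Mathlib
import Cfsg.Prelude.Def_Characters

set_option autoImplicit false

namespace Cfsg.Agent.Helper6

open scoped ComplexConjugate

universe u
variable {G : Type u} [Group G] [Fintype G]

theorem classInner_def (φ ψ : G → ℂ) :
    Cfsg.classInner φ ψ = (Nat.card G : ℂ)⁻¹ * ∑ g : G, φ g * conj (ψ g) := rfl

theorem classInner_add_left (φ₁ φ₂ ψ : G → ℂ) :
    Cfsg.classInner (φ₁ + φ₂) ψ = Cfsg.classInner φ₁ ψ + Cfsg.classInner φ₂ ψ := by
  simp only [classInner_def, Pi.add_apply, add_mul, Finset.sum_add_distrib, mul_add]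

theorem classInner_add_right (φ ψ₁ ψ₂ : G → ℂ) :
    Cfsg.classInner φ (ψ₁ + ψ₂) = Cfsg.classInner φ ψ₁ + Cfsg.classInner φ ψ₂ := by
  simp only [classInner_def, Pi.add_apply, map_add, mul_add, Finset.sum_add_distrib]

theorem classInner_smul_left (c : ℂ) (φ ψ : G → ℂ) :
    Cfsg.classInner (c • φ) ψ = c * Cfsg.classInner φ ψ := by
  simp only [classInner_def, Pi.smul_apply, smul_eq_mul]
  rw [mul_left_comm c, Finset.mul_sum (a := c)]
  congr 1
  apply Finset.sum_congr rfl
  intro g _
  ring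

theorem classInner_smul_right (c : ℂ) (φ ψ : G → ℂ) :
    Cfsg.classInner φ (c • ψ) = conj c * Cfsg.classInner φ ψ := by
  simp only [classInner_def, Pi.smul_apply, smul_eq_mul, map_mul]
  rw [mul_left_comm (conj c), Finset.mul_sum (a := conj c)]
  congr 1
  apply Finset.sum_congr rfl
  intro g _
  ring

theorem classInner_zero_left (ψ : G → ℂ) : Cfsg.classInner (0 : G → ℂ) ψ = 0 := by
  simp [classInner_def]

theorem classInner_zero_right (φ : G → ℂ) : Cfsg.classInner φ (0 : G → ℂ) = 0 := by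
  simp [classInner_def]

theorem classInner_neg_left (φ ψ : G → ℂ) :
    Cfsg.classInner (-φ) ψ = - Cfsg.classInner φ ψ := by
  simp [classInner_def, Finset.sum_neg_distrib]

theorem classInner_neg_right (φ ψ : G → ℂ) :
    Cfsg.classInner φ (-ψ) = - Cfsg.classInner φ ψ := by
  simp [classInner_def, Finset.sum_neg_distrib]

theorem classInner_sub_left (φ₁ φ₂ ψ : G → ℂ) :
    Cfsg.classInner (φ₁ - φ₂) ψ = Cfsg.classInner φ₁ ψ - Cfsg.classInner φ₂ ψ := by
  rw [sub_eq_add_neg, classInner_add_left, classInner_neg_left, sub_eq_add_neg]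

theorem classInner_sub_right (φ ψ₁ ψ₂ : G → ℂ) :
    Cfsg.classInner φ (ψ₁ - ψ₂) = Cfsg.classInner φ ψ₁ - Cfsg.classInner φ ψ₂ := by
  rw [sub_eq_add_neg, classInner_add_right, classInner_neg_right, sub_eq_add_neg]

theorem classInner_sum_left {ι : Type*} (s : Finset ι) (φ : ι → G → ℂ) (ψ : G → ℂ) :
    Cfsg.classInner (∑ i ∈ s, φ i) ψ = ∑ i ∈ s, Cfsg.classInner (φ i) ψ := by
  classical
  induction s using Finset.induction_on with
  | empty => simp [classInner_zero_left]
  | insert a s ha ih => rw [Finset.sum_insert ha, Finset.sum_insert ha, classInner_add_left, ih]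

theorem classInner_sum_right {ι : Type*} (s : Finset ι) (φ : G → ℂ) (ψ : ι → G → ℂ) :
    Cfsg.classInner φ (∑ i ∈ s, ψ i) = ∑ i ∈ s, Cfsg.classInner φ (ψ i) := by
  classical
  induction s using Finset.induction_on with
  | empty => simp [classInner_zero_right]
  | insert a s ha ih => rw [Finset.sum_insert ha, Finset.sum_insert ha, classInner_add_right, ih]

theorem classInner_conj_symm (φ ψ : G → ℂ) :
    Cfsg.classInner ψ φ = conj (Cfsg.classInner φ ψ) := by
  simp only [classInner_def, map_mul, map_inv₀, map_natCast, map_sum, Complex.conj_conj]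
  congr 1
  apply Finset.sum_congr rfl
  intro g _
  ring

theorem classInner_self_eq (φ : G → ℂ) :
    Cfsg.classInner φ φ = (Nat.card G : ℂ)⁻¹ * ((∑ g : G, ‖φ g‖ ^ 2 : ℝ) : ℂ) := by
  rw [classInner_def]
  congr 1
  push_cast
  apply Finset.sum_congr rfl
  intro g _
  rw [Complex.mul_conj, Complex.normSq_eq_norm_sq]
  push_cast
  rfl

theorem classInner_self_eq_zero {φ : G → ℂ} (h : Cfsg.classInner φ φ = 0) : φ = 0 := by
  rw [classInner_self_eq] at h
  have hcard : (Nat.card G : ℂ)⁻¹ ≠ 0 := by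
    apply inv_ne_zero
    exact_mod_cast Nat.card_pos.ne'
  have h2 : ((∑ g : G, ‖φ g‖ ^ 2 : ℝ) : ℂ) = 0 := (mul_eq_zero.mp h).resolve_left hcard
  have h3 : (∑ g : G, ‖φ g‖ ^ 2 : ℝ) = 0 := by exact_mod_cast h2
  have h4 := (Finset.sum_eq_zero_iff_of_nonneg (fun g _ => by positivity)).mp h3
  ext g
  have := h4 g (Finset.mem_univ g)
  simpa using this

end Cfsg.Agent.Helper6
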