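import Mathlib

/-!
# Endomorphisms of finite order over ℂ: eigenbases, traces
-/

set_option autoImplicit false

namespace Cfsg.Agent.Helper6

open Module

/-- An endomorphism of finite order of a finite-dimensional complex vector space has a basis of
eigenvectors whose eigenvalues are roots of unity. -/
theorem exists_eigenbasis_of_pow_eq_one {V : Type*} [AddCommGroup V] [Module ℂ V]
    [FiniteDimensional ℂ V] (f : End ℂ V) (n : ℕ) (hn : 0 < n) (hf : f ^ n = 1) :
    ∃ (ι : Type) (_ : Fintype ι) (b : Basis ι ℂ V) (μ : ι → ℂ),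
      (∀ i, f (b i) = μ i • b i) ∧ ∀ i, μ i ^ n = 1 := by
  classical
  have hsep : (Polynomial.X ^ n - Polynomial.C (1 : ℂ)).Separable := by
    apply Polynomial.separable_X_pow_sub_C
    · exact_mod_cast hn.ne'
    · exact one_ne_zero
  have hss : f.IsSemisimple := by
    apply Module.End.isSemisimple_of_squarefree_aeval_eq_zero hsep.squarefree
    simp [hf]
  have htop := hss.iSup_eigenspace_eq_top
  have hind := f.eigenspaces_iSupIndep
  have hint := DirectSum.isInternal_submodule_of_iSupIndep_of_iSup_eq_top hind htop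
  let v : ∀ μ : ℂ, Basis (Fin (finrank ℂ (f.eigenspace μ))) ℂ (f.eigenspace μ) :=
    fun μ => Module.finBasis ℂ (f.eigenspace μ)
  let b := hint.collectedBasis v
  haveI : Finite (Σ μ : ℂ, Fin (finrank ℂ (f.eigenspace μ))) :=
    Module.Finite.finite_basis b
  haveI : Fintype (Σ μ : ℂ, Fin (finrank ℂ (f.eigenspace μ))) := Fintype.ofFinite _
  have hb : ∀ i, f (b i) = i.1 • b i := by
    rintro ⟨μ, k⟩
    have hmem : b ⟨μ, k⟩ ∈ f.eigenspace μ := hint.collectedBasis_mem v ⟨μ, k⟩
    exact Module.End.mem_eigenspace_iff.mp hmem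
  refine ⟨_, inferInstance, b, fun i => i.1, hb, ?_⟩
  intro i
  have hpow : ∀ k : ℕ, (f ^ k) (b i) = i.1 ^ k • b i := by
    intro k
    induction k with
    | zero => simp
    | succ k ih =>
      rw [pow_succ', Module.End.mul_apply, ih, map_smul, hb i, smul_smul, pow_succ]
  have h1 := hpow n
  rw [hf, Module.End.one_apply] at h1
  have hne : b i ≠ 0 := b.ne_zero i
  have : (i.1 ^ n - 1) • b i = 0 := by rw [sub_smul, one_smul, ← h1, sub_self]
  rcases smul_eq_zero.mp this with h | h
  · exact sub_eq_zero.mp h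
  · exact absurd h hne

/-- The trace in an eigenbasis. -/
theorem trace_eq_sum_of_eigenbasis {V : Type*} [AddCommGroup V] [Module ℂ V]
    {ι : Type*} [Fintype ι] (b : Basis ι ℂ V) (f : End ℂ V) (μ : ι → ℂ)
    (hb : ∀ i, f (b i) = μ i • b i) : LinearMap.trace ℂ V f = ∑ i, μ i := by
  classical
  rw [LinearMap.trace_eq_matrix_trace ℂ b f, Matrix.trace]
  apply Finset.sum_congr rfl
  intro i _
  simp [Matrix.diag, LinearMap.toMatrix_apply, hb i]

end Cfsg.Agent.Helper6
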