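import Mathlib
import Cfsg.Agent.Helper6.FinOrder

/-!
# Eigenbases for group elements in complex representations of finite groups
-/

set_option autoImplicit false

namespace Cfsg.Agent.Helper6

open Module
open scoped ComplexConjugate

variable {G : Type*} [Group G] [Finite G] {V : Type*} [AddCommGroup V] [Module ℂ V]
  [FiniteDimensional ℂ V]

/-- For a complex representation of a finite group, each group element is diagonalisable with
roots of unity as eigenvalues. -/
theorem exists_eigenbasis_rep (ρ : Representation ℂ G V) (g : G) :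
    ∃ (ι : Type) (_ : Fintype ι) (b : Basis ι ℂ V) (μ : ι → ℂ),
      (∀ i, ρ g (b i) = μ i • b i) ∧ (∀ i, μ i ^ orderOf g = 1) ∧
      Fintype.card ι = finrank ℂ V := by
  have hpos : 0 < orderOf g := orderOf_pos g
  have hpow : (ρ g) ^ orderOf g = 1 := by
    rw [← map_pow, pow_orderOf_eq_one, map_one]
  obtain ⟨ι, hι, b, μ, h1, h2⟩ := exists_eigenbasis_of_pow_eq_one (ρ g) (orderOf g) hpos hpow
  exact ⟨ι, hι, b, μ, h1, h2, (Module.finrank_eq_card_basis b).symm⟩

theorem eigen_pow (ρ : Representation ℂ G V) (g : G) {ι : Type*} (b : Basis ι ℂ V) (μ : ι → ℂ)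
    (h : ∀ i, ρ g (b i) = μ i • b i) (k : ℕ) (i : ι) : ρ (g ^ k) (b i) = μ i ^ k • b i := by
  induction k with
  | zero => simp
  | succ k ih =>
    rw [pow_succ', map_mul, Module.End.mul_apply, ih, map_smul, h i, smul_smul, pow_succ]

theorem eigen_inv (ρ : Representation ℂ G V) (g : G) {ι : Type*} (b : Basis ι ℂ V) (μ : ι → ℂ)
    (h : ∀ i, ρ g (b i) = μ i • b i) (hμ : ∀ i, μ i ≠ 0) (i : ι) :
    ρ g⁻¹ (b i) = (μ i)⁻¹ • b i := by
  have h1 : ρ g⁻¹ (ρ g (b i)) = b i := by
    rw [← Module.End.mul_apply, ← map_mul, inv_mul_cancel, map_one, Module.End.one_apply]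
  rw [h i, map_smul] at h1
  calc ρ g⁻¹ (b i) = (μ i)⁻¹ • (μ i • ρ g⁻¹ (b i)) := by
        rw [smul_smul, inv_mul_cancel₀ (hμ i), one_smul]
    _ = (μ i)⁻¹ • b i := by rw [h1]

theorem norm_eq_one_of_pow_eq_one {z : ℂ} {n : ℕ} (hn : 0 < n) (h : z ^ n = 1) : ‖z‖ = 1 :=
  Complex.norm_eq_one_of_pow_eq_one h hn.ne'

theorem inv_eq_conj_of_pow_eq_one {z : ℂ} {n : ℕ} (hn : 0 < n) (h : z ^ n = 1) : z⁻¹ = conj z :=
  Complex.inv_eq_conj (norm_eq_one_of_pow_eq_one hn h)

/-- `χ(g⁻¹) = conj χ(g)` for characters of complex representations of finite groups. -/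
theorem char_inv_eq_conj (ρ : Representation ℂ G V) (g : G) :
    ρ.character g⁻¹ = conj (ρ.character g) := by
  obtain ⟨ι, hι, b, μ, h1, h2, -⟩ := exists_eigenbasis_rep ρ g
  have hpos : 0 < orderOf g := orderOf_pos g
  have hne : ∀ i, μ i ≠ 0 := by
    intro i h0
    have := h2 i
    rw [h0, zero_pow hpos.ne'] at this
    exact zero_ne_one this
  have hinv := eigen_inv ρ g b μ h1 hne
  unfold Representation.character
  rw [trace_eq_sum_of_eigenbasis b (ρ g⁻¹) (fun i => (μ i)⁻¹) hinv,
    trace_eq_sum_of_eigenbasis b (ρ g) μ h1, map_sum]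
  apply Finset.sum_congr rfl
  intro i _
  exact inv_eq_conj_of_pow_eq_one hpos (h2 i)

/-- A character value has norm at most the degree. -/
theorem norm_char_le (ρ : Representation ℂ G V) (g : G) :
    ‖ρ.character g‖ ≤ (finrank ℂ V : ℝ) := by
  obtain ⟨ι, hι, b, μ, h1, h2, hcard⟩ := exists_eigenbasis_rep ρ g
  have hpos : 0 < orderOf g := orderOf_pos g
  unfold Representation.character
  rw [trace_eq_sum_of_eigenbasis b (ρ g) μ h1]
  calc ‖∑ i, μ i‖ ≤ ∑ i, ‖μ i‖ := norm_sum_le _ _
    _ = ∑ _i : ι, (1 : ℝ) := by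
      apply Finset.sum_congr rfl
      intro i _
      exact norm_eq_one_of_pow_eq_one hpos (h2 i)
    _ = (finrank ℂ V : ℝ) := by simp [hcard]

/-- Character values are algebraic integers. -/
theorem isIntegral_char (ρ : Representation ℂ G V) (g : G) : IsIntegral ℤ (ρ.character g) := by
  obtain ⟨ι, hι, b, μ, h1, h2, -⟩ := exists_eigenbasis_rep ρ g
  have hpos : 0 < orderOf g := orderOf_pos g
  unfold Representation.character
  rw [trace_eq_sum_of_eigenbasis b (ρ g) μ h1]
  apply IsIntegral.sum
  intro i _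
  exact IsIntegral.of_pow hpos (by rw [h2 i]; exact isIntegral_one)

end Cfsg.Agent.Helper6

namespace Cfsg.Agent.Helper6

open Module
open scoped ComplexConjugate

/-- If unit complex numbers `μ i` sum to something of norm equal to their number, they are all
equal to a common value. -/
theorem eq_of_norm_sum_eq_card {ι : Type*} [Fintype ι] (μ : ι → ℂ) (hμ : ∀ i, ‖μ i‖ = 1)
    (h : ‖∑ i, μ i‖ = (Fintype.card ι : ℝ)) (hne : Nonempty ι) :
    ∃ ω : ℂ, ‖ω‖ = 1 ∧ ∀ i, μ i = ω := by
  classical
  have hd : (0 : ℝ) < Fintype.card ι := by exact_mod_cast Fintype.card_pos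
  set s := ∑ i, μ i with hs
  set d : ℝ := (Fintype.card ι : ℝ) with hd'
  set ω : ℂ := s / (d : ℂ) with hω
  have hωn : ‖ω‖ = 1 := by
    rw [hω, norm_div, h, Complex.norm_real, Real.norm_of_nonneg hd.le, div_self hd.ne']
  refine ⟨ω, hωn, ?_⟩
  -- real parts
  have hre : ∀ i, (μ i * conj ω).re ≤ 1 := by
    intro i
    calc (μ i * conj ω).re ≤ ‖μ i * conj ω‖ := Complex.re_le_norm _
      _ = 1 := by rw [norm_mul, hμ i, Complex.norm_conj, hωn, one_mul]
  have hsum : ∑ i, (μ i * conj ω).re = d := by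
    have h1 : ∑ i, (μ i * conj ω) = s * conj ω := by rw [hs, Finset.sum_mul]
    have hdc : (d : ℂ) ≠ 0 := by exact_mod_cast hd.ne'
    have h2 : s = (d : ℂ) * ω := by
      rw [hω, mul_div_cancel₀ _ hdc]
    have h3 : s * conj ω = (d : ℂ) := by
      rw [h2, mul_assoc, Complex.mul_conj, Complex.normSq_eq_norm_sq, hωn]; simp
    rw [← Complex.re_sum, h1, h3, Complex.ofReal_re]
  have hall : ∀ i, (μ i * conj ω).re = 1 := by
    by_contra hcon
    push Not at hcon
    obtain ⟨j, hj⟩ := hcon
    have hlt : (μ j * conj ω).re < 1 := lt_of_le_of_ne (hre j) hj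
    have : ∑ i, (μ i * conj ω).re < ∑ _i : ι, (1 : ℝ) := by
      apply Finset.sum_lt_sum
      · intro i _; exact hre i
      · exact ⟨j, Finset.mem_univ j, hlt⟩
    rw [hsum] at this
    simp [hd'] at this
  intro i
  have hn1 : ‖μ i * conj ω‖ = 1 := by rw [norm_mul, hμ i, Complex.norm_conj, hωn, one_mul]
  have hz : μ i * conj ω = 1 := by
    set z := μ i * conj ω with hz
    have hre1 : z.re = 1 := hall i
    have hsq : z.re ^ 2 + z.im ^ 2 = 1 := by
      have := Complex.sq_norm z
      rw [hn1, Complex.normSq_apply] at this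
      nlinarith [this]
    have him : z.im = 0 := by
      rw [hre1] at hsq
      nlinarith [hsq]
    apply Complex.ext <;> simp [hre1, him]
  have hωne : ω ≠ 0 := by
    intro h0; rw [h0, norm_zero] at hωn; exact zero_ne_one hωn
  calc μ i = μ i * (conj ω * ω) := by
        rw [mul_comm (conj ω), Complex.mul_conj, Complex.normSq_eq_norm_sq, hωn]; simp
    _ = (μ i * conj ω) * ω := by ring
    _ = ω := by rw [hz, one_mul]

variable {G : Type*} [Group G] [Finite G] {V : Type*} [AddCommGroup V] [Module ℂ V]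
  [FiniteDimensional ℂ V]

/-- A character value has norm equal to the degree iff the element acts by a scalar. -/
theorem norm_char_eq_iff (ρ : Representation ℂ G V) (g : G) :
    ‖ρ.character g‖ = (finrank ℂ V : ℝ) ↔ ∃ ω : ℂ, ρ g = ω • (LinearMap.id : V →ₗ[ℂ] V) := by
  obtain ⟨ι, hι, b, μ, h1, h2, hcard⟩ := exists_eigenbasis_rep ρ g
  have hpos : 0 < orderOf g := orderOf_pos g
  have hμn : ∀ i, ‖μ i‖ = 1 := fun i => norm_eq_one_of_pow_eq_one hpos (h2 i)
  have htr : ρ.character g = ∑ i, μ i := by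
    unfold Representation.character
    exact trace_eq_sum_of_eigenbasis b (ρ g) μ h1
  constructor
  · intro h
    by_cases hne : Nonempty ι
    · rw [htr, ← hcard] at h
      obtain ⟨ω, -, hω⟩ := eq_of_norm_sum_eq_card μ hμn h hne
      refine ⟨ω, ?_⟩
      apply b.ext
      intro i
      rw [h1 i, hω i]; simp
    · refine ⟨1, ?_⟩
      apply b.ext
      intro i
      exact absurd ⟨i⟩ hne
  · rintro ⟨ω, hω⟩
    by_cases hne : Nonempty ι
    · obtain ⟨j⟩ := hne
      have hμω : ∀ i, μ i = ω := by
        intro i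
        have := h1 i
        rw [hω] at this
        simp only [LinearMap.smul_apply, LinearMap.id_coe, id_eq] at this
        have h3 : (ω - μ i) • b i = 0 := by rw [sub_smul, this, sub_self]
        rcases smul_eq_zero.mp h3 with h | h
        · exact (sub_eq_zero.mp h).symm
        · exact absurd h (b.ne_zero i)
      rw [htr]
      simp only [hμω, Finset.sum_const, Finset.card_univ, nsmul_eq_mul, norm_mul, Complex.norm_natCast]
      rw [← hμω j, hμn j, mul_one, hcard]
    · have : Fintype.card ι = 0 := by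
        rw [Fintype.card_eq_zero_iff]; exact ⟨fun i => hne ⟨i⟩⟩
      rw [htr, ← hcard, this]
      have : IsEmpty ι := ⟨fun i => hne ⟨i⟩⟩
      simp

/-- The character equals the degree exactly on the kernel. -/
theorem char_eq_finrank_iff (ρ : Representation ℂ G V) (g : G) :
    ρ.character g = (finrank ℂ V : ℂ) ↔ ρ g = LinearMap.id := by
  constructor
  · intro h
    have hn : ‖ρ.character g‖ = (finrank ℂ V : ℝ) := by
      rw [h, Complex.norm_natCast]
    obtain ⟨ω, hω⟩ := (norm_char_eq_iff ρ g).mp hn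
    by_cases hd : finrank ℂ V = 0
    · have : Subsingleton V := Module.finrank_zero_iff.mp hd
      apply LinearMap.ext
      intro v
      exact Subsingleton.elim _ _
    · have htr : ρ.character g = ω * (finrank ℂ V : ℂ) := by
        unfold Representation.character
        rw [hω, map_smul, LinearMap.trace_id, smul_eq_mul]
      rw [h] at htr
      have hdc : (finrank ℂ V : ℂ) ≠ 0 := by exact_mod_cast hd
      have : ω = 1 := by
        have h2 : (1 : ℂ) * (finrank ℂ V : ℂ) = ω * (finrank ℂ V : ℂ) := by rw [one_mul]; exact htr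
        exact (mul_right_cancel₀ hdc h2).symm
      rw [hω, this, one_smul]
  · intro h
    unfold Representation.character
    rw [h, LinearMap.trace_id]

end Cfsg.Agent.Helper6
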