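import Mathlib
import Cfsg.Prelude.Def_Characters
import Cfsg.Agent.Helper6.RepEigen
import Cfsg.Agent.Helper6.ClassInner

set_option autoImplicit false
set_option linter.style.haveILetI false

namespace Cfsg.Agent.Helper6

open Module Representation
open scoped ComplexConjugate

universe u v

section transport

variable {G : Type u} [Monoid G] {V : Type v} [AddCommGroup V] [Module ℂ V]

/-- Transport a representation along a linear equivalence. -/
noncomputable def transportRep {W : Type*} [AddCommGroup W] [Module ℂ W]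
    (ρ : Representation ℂ G V) (e : V ≃ₗ[ℂ] W) : Representation ℂ G W where
  toFun g := e.conjRingEquiv (ρ g)
  map_one' := by simp
  map_mul' g h := by simp

theorem transportRep_apply {W : Type*} [AddCommGroup W] [Module ℂ W]
    (ρ : Representation ℂ G V) (e : V ≃ₗ[ℂ] W) (g : G) (w : W) :
    transportRep ρ e g w = e (ρ g (e.symm w)) := rfl

/-- The equivalence between a representation and its transport. -/
noncomputable def transportEquiv {W : Type*} [AddCommGroup W] [Module ℂ W]
    (ρ : Representation ℂ G V) (e : V ≃ₗ[ℂ] W) : ρ.Equiv (transportRep ρ e) :=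
  Representation.Equiv.mk e (by
    intro g
    ext v
    simp [transportRep_apply])

/-- Irreducibility is invariant under equivalence of representations. -/
theorem isIrreducible_of_equiv {W : Type*} [AddCommGroup W] [Module ℂ W]
    {ρ : Representation ℂ G V} {σ : Representation ℂ G W} (φ : ρ.Equiv σ)
    (h : ρ.IsIrreducible) : σ.IsIrreducible := by
  rw [irreducible_iff_isSimpleModule_asModule] at h ⊢
  let l := IntertwiningMap.equivLinearMapAsModule ρ σ φ.toIntertwiningMap
  have hl : Function.Bijective l := φ.toLinearEquiv.bijective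
  exact (LinearMap.isSimpleModule_iff_of_bijective l hl).mp h

end transport

section basic

variable {G : Type u} [Group G]

/-- The character of any finite-dimensional complex representation is a character in the
sense of the Prelude. -/
theorem isCharacter_of_rep {V : Type v} [AddCommGroup V] [Module ℂ V] [FiniteDimensional ℂ V]
    (ρ : Representation ℂ G V) : Cfsg.IsCharacter G ρ.character := by
  let e : V ≃ₗ[ℂ] (Fin (finrank ℂ V) → ℂ) := (Module.finBasis ℂ V).equivFun
  exact ⟨finrank ℂ V, transportRep ρ e, (char_iso (transportEquiv ρ e)).symm⟩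

/-- The character of any irreducible finite-dimensional complex representation is an irreducible
character in the sense of the Prelude. -/
theorem isIrrCharacter_of_rep {V : Type v} [AddCommGroup V] [Module ℂ V] [FiniteDimensional ℂ V]
    (ρ : Representation ℂ G V) (h : ρ.IsIrreducible) : Cfsg.IsIrrCharacter G ρ.character := by
  let e : V ≃ₗ[ℂ] (Fin (finrank ℂ V) → ℂ) := (Module.finBasis ℂ V).equivFun
  exact ⟨finrank ℂ V, transportRep ρ e, isIrreducible_of_equiv (transportEquiv ρ e) h,
    (char_iso (transportEquiv ρ e)).symm⟩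

theorem IsIrrCharacter.isCharacter {χ : G → ℂ} (h : Cfsg.IsIrrCharacter G χ) :
    Cfsg.IsCharacter G χ := by
  obtain ⟨n, ρ, -, rfl⟩ := h
  exact ⟨n, ρ, rfl⟩

theorem IsCharacter.isClassFunction {χ : G → ℂ} (h : Cfsg.IsCharacter G χ) :
    Cfsg.IsClassFunction G χ := by
  obtain ⟨n, ρ, rfl⟩ := h
  intro g x
  exact char_conj ρ g x

theorem IsCharacter.apply_one {χ : G → ℂ} (h : Cfsg.IsCharacter G χ) : ∃ n : ℕ, χ 1 = n := by
  obtain ⟨n, ρ, rfl⟩ := h
  exact ⟨n, by simp⟩

theorem IsCharacter.inv_eq_conj [Finite G] {χ : G → ℂ} (h : Cfsg.IsCharacter G χ) (g : G) :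
    χ g⁻¹ = conj (χ g) := by
  obtain ⟨n, ρ, rfl⟩ := h
  exact char_inv_eq_conj ρ g

theorem IsCharacter.zero : Cfsg.IsCharacter G (0 : G → ℂ) := by
  refine ⟨0, 1, ?_⟩
  ext g
  simp [Representation.character]

theorem IsCharacter.add {χ ψ : G → ℂ} (h₁ : Cfsg.IsCharacter G χ) (h₂ : Cfsg.IsCharacter G ψ) :
    Cfsg.IsCharacter G (χ + ψ) := by
  obtain ⟨n, ρ, rfl⟩ := h₁
  obtain ⟨m, σ, rfl⟩ := h₂
  have : ρ.character + σ.character = (ρ.prod σ).character := by
    ext g
    simp only [Representation.character, Pi.add_apply]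
    rw [show (ρ.prod σ) g = (ρ g).prodMap (σ g) from rfl, LinearMap.trace_prodMap']
  rw [this]
  exact isCharacter_of_rep _

theorem IsCharacter.mul {χ ψ : G → ℂ} (h₁ : Cfsg.IsCharacter G χ) (h₂ : Cfsg.IsCharacter G ψ) :
    Cfsg.IsCharacter G (χ * ψ) := by
  obtain ⟨n, ρ, rfl⟩ := h₁
  obtain ⟨m, σ, rfl⟩ := h₂
  rw [← char_tensor]
  exact isCharacter_of_rep _

theorem isCharacter_one : Cfsg.IsCharacter G (fun _ => (1 : ℂ)) := by
  have : (fun _ : G => (1 : ℂ)) = (Representation.trivial ℂ G ℂ).character := by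
    ext g
    simp [Representation.character]
  rw [this]
  exact isCharacter_of_rep _

end basic


section orth

variable {G : Type u} [Group G]

theorem classInner_rep_eq [Fintype G] {V W : Type*} [AddCommGroup V] [Module ℂ V]
    [FiniteDimensional ℂ V] [AddCommGroup W] [Module ℂ W] [FiniteDimensional ℂ W]
    (ρ : Representation ℂ G V) (σ : Representation ℂ G W) :
    Cfsg.classInner ρ.character σ.character =
      (Nat.card G : ℂ)⁻¹ * ∑ g : G, ρ.character g * σ.character g⁻¹ := by
  unfold Cfsg.classInner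
  congr 1
  apply Finset.sum_congr rfl
  intro g _
  rw [char_inv_eq_conj]

theorem classInner_irr_self [Fintype G] {χ : G → ℂ} (hχ : Cfsg.IsIrrCharacter G χ) :
    Cfsg.classInner χ χ = 1 := by
  obtain ⟨n, ρ, hirr, rfl⟩ := hχ
  haveI : Invertible (Nat.card G : ℂ) :=
    invertibleOfNonzero (by exact_mod_cast Nat.card_pos.ne')
  haveI := hirr
  rw [classInner_rep_eq, char_orthonormal ρ ρ]
  rw [if_pos ⟨Representation.Equiv.refl ρ⟩]

theorem classInner_irr_ne [Fintype G] {χ ψ : G → ℂ} (hχ : Cfsg.IsIrrCharacter G χ)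
    (hψ : Cfsg.IsIrrCharacter G ψ) (hne : χ ≠ ψ) : Cfsg.classInner χ ψ = 0 := by
  obtain ⟨n, ρ, hirr, rfl⟩ := hχ
  obtain ⟨m, σ, hirr', rfl⟩ := hψ
  haveI : Invertible (Nat.card G : ℂ) :=
    invertibleOfNonzero (by exact_mod_cast Nat.card_pos.ne')
  haveI := hirr
  haveI := hirr'
  rw [classInner_rep_eq, char_orthonormal ρ σ]
  rw [if_neg]
  rintro ⟨φ⟩
  exact hne (char_iso φ).symm


end orth

end Cfsg.Agent.Helper6
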