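import Mathlib

/-!
# An induction principle for finite-dimensional complex representations of finite groups
(via Maschke's theorem)
-/

set_option autoImplicit false
set_option linter.style.haveILetI false

namespace Cfsg.Agent.Helper6

open Module Representation
open scoped MonoidAlgebra

universe u v

variable {G : Type u} [Group G]

section sub

variable {V : Type v} [AddCommGroup V] [Module ℂ V] {ρ : Representation ℂ G V}

/-- The subrepresentation attached to an atom of the lattice of subrepresentations is
irreducible. -/
theorem isIrreducible_of_isAtom (W : Subrepresentation ρ) (hW : IsAtom W) :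
    W.toRepresentation.IsIrreducible := by
  have hne : W ≠ ⊥ := hW.1
  refine { exists_pair_ne := ?_, eq_bot_or_eq_top := ?_ }
  · refine ⟨⊥, ⊤, ?_⟩
    intro h
    apply hne
    apply Subrepresentation.toSubmodule_injective
    show W.toSubmodule = (⊥ : Submodule ℂ V)
    rw [eq_bot_iff]
    intro v hv
    have hmem : (⟨v, hv⟩ : W.toSubmodule) ∈ (⊤ : Subrepresentation W.toRepresentation) :=
      Submodule.mem_top
    rw [← h] at hmem
    have h0 : (⟨v, hv⟩ : W.toSubmodule) = 0 := hmem
    have : v = 0 := congrArg Subtype.val h0
    rw [this]
    exact Submodule.zero_mem _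
  · intro U
    -- push U forward to a subrepresentation of ρ below W
    let U' : Subrepresentation ρ :=
      { toSubmodule := U.toSubmodule.map W.toSubmodule.subtype
        apply_mem_toSubmodule := by
          intro g v hv
          obtain ⟨w, hw, rfl⟩ := hv
          exact ⟨W.toRepresentation g w, U.apply_mem_toSubmodule g hw, rfl⟩ }
    have hle : U' ≤ W := by
      intro v hv
      obtain ⟨w, -, rfl⟩ := hv
      exact w.2
    rcases hW.le_iff.mp hle with h | h
    · left
      apply Subrepresentation.toSubmodule_injective
      have h1 : U.toSubmodule.map W.toSubmodule.subtype = ⊥ := congrArg Subrepresentation.toSubmodule h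
      have h2 : U.toSubmodule.map W.toSubmodule.subtype = (⊥ : Submodule ℂ W.toSubmodule).map W.toSubmodule.subtype := by
        rw [h1, Submodule.map_bot]
      exact Submodule.map_injective_of_injective (Submodule.injective_subtype _) h2
    · right
      apply Subrepresentation.toSubmodule_injective
      have h1 : U.toSubmodule.map W.toSubmodule.subtype = W.toSubmodule :=
        congrArg Subrepresentation.toSubmodule h
      show U.toSubmodule = (⊤ : Submodule ℂ W.toSubmodule)
      rw [eq_top_iff]
      intro w _
      have hw : (w : V) ∈ U.toSubmodule.map W.toSubmodule.subtype := by rw [h1]; exact w.2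
      obtain ⟨w', hw', hww'⟩ := hw
      have : w' = w := Subtype.ext hww'
      rw [← this]
      exact hw'

/-- Complementary subrepresentations give a decomposition as a product. -/
noncomputable def prodEquivOfIsCompl (W W' : Subrepresentation ρ)
    (h : IsCompl W.toSubmodule W'.toSubmodule) :
    (W.toRepresentation.prod W'.toRepresentation).Equiv ρ :=
  Representation.Equiv.mk (Submodule.prodEquivOfIsCompl W.toSubmodule W'.toSubmodule h) (by
    intro g
    apply LinearMap.ext
    rintro ⟨w, w'⟩
    simp only [LinearMap.coe_comp, LinearEquiv.coe_coe, Function.comp_apply,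
      Submodule.coe_prodEquivOfIsCompl', map_add]
    rfl)

theorem isCompl_toSubmodule {W W' : Subrepresentation ρ} (h : IsCompl W W') :
    IsCompl W.toSubmodule W'.toSubmodule := by
  constructor
  · rw [disjoint_iff]
    have := h.inf_eq_bot
    exact congrArg Subrepresentation.toSubmodule this
  · rw [codisjoint_iff]
    have := h.sup_eq_top
    exact congrArg Subrepresentation.toSubmodule this

end sub

variable [Finite G]

/-- Induction principle for finite-dimensional complex representations of a finite group:
a property that holds for zero-dimensional and irreducible representations, is invariant under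
equivalence and is closed under products, holds for all finite-dimensional representations. -/
theorem rep_induction
    (P : ∀ (V : Type v) [AddCommGroup V] [Module ℂ V], Representation ℂ G V → Prop)
    (h0 : ∀ (V : Type v) [AddCommGroup V] [Module ℂ V] (ρ : Representation ℂ G V),
      Subsingleton V → P V ρ)
    (hirr : ∀ (V : Type v) [AddCommGroup V] [Module ℂ V] [FiniteDimensional ℂ V]
      (ρ : Representation ℂ G V), ρ.IsIrreducible → P V ρ)
    (hequiv : ∀ (V W : Type v) [AddCommGroup V] [Module ℂ V] [AddCommGroup W] [Module ℂ W]
      [FiniteDimensional ℂ V] [FiniteDimensional ℂ W]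
      (ρ : Representation ℂ G V) (σ : Representation ℂ G W), ρ.Equiv σ → P V ρ → P W σ)
    (hprod : ∀ (V W : Type v) [AddCommGroup V] [Module ℂ V] [AddCommGroup W] [Module ℂ W]
      [FiniteDimensional ℂ V] [FiniteDimensional ℂ W]
      (ρ : Representation ℂ G V) (σ : Representation ℂ G W), P V ρ → P W σ → P (V × W) (ρ.prod σ))
    (V : Type v) [AddCommGroup V] [Module ℂ V] [FiniteDimensional ℂ V]
    (ρ : Representation ℂ G V) : P V ρ := by
  haveI : NeZero (Nat.card G : ℂ) := ⟨by exact_mod_cast Nat.card_pos.ne'⟩
  suffices H : ∀ (n : ℕ) (V : Type v) [AddCommGroup V] [Module ℂ V] [FiniteDimensional ℂ V]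
      (ρ : Representation ℂ G V), finrank ℂ V = n → P V ρ from H _ V ρ rfl
  intro n
  induction n using Nat.strong_induction_on with
  | _ n ih =>
    intro V _ _ _ ρ hn
    by_cases hV : Subsingleton V
    · exact h0 V ρ hV
    · rw [not_subsingleton_iff_nontrivial] at hV
      haveI : IsAtomic (Subrepresentation ρ) :=
        (Subrepresentation.subrepresentationSubmoduleOrderIso (ρ := ρ)).isAtomic_iff.mpr
          inferInstance
      have htop : (⊤ : Subrepresentation ρ) ≠ ⊥ := by
        intro h
        obtain ⟨v, hv⟩ := exists_ne (0 : V)
        have hmem : v ∈ (⊤ : Subrepresentation ρ) := Submodule.mem_top (R := ℂ)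
        rw [h] at hmem
        exact hv hmem
      obtain ⟨W, hW, -⟩ := (IsAtomic.eq_bot_or_exists_atom_le (⊤ : Subrepresentation ρ)).resolve_left htop
      obtain ⟨W', hW'⟩ := exists_isCompl W
      have hc := isCompl_toSubmodule hW'
      have hPW : P W.toSubmodule W.toRepresentation :=
        hirr _ _ (isIrreducible_of_isAtom W hW)
      have hlt : finrank ℂ W'.toSubmodule < n := by
        have hsum := Submodule.finrank_add_eq_of_isCompl hc
        have hpos : 0 < finrank ℂ W.toSubmodule := by
          rw [Module.finrank_pos_iff]
          have : W.toSubmodule ≠ ⊥ := by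
            intro h
            apply hW.1
            exact Subrepresentation.toSubmodule_injective h
          exact Submodule.nontrivial_iff_ne_bot.mpr this
        omega
      have hPW' : P W'.toSubmodule W'.toRepresentation := ih _ hlt _ _ rfl
      exact hequiv _ _ _ _ (prodEquivOfIsCompl W W' hc) (hprod _ _ _ _ hPW hPW')

end Cfsg.Agent.Helper6
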