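import Mathlib
import Cfsg.Prelude.Def_Characters
import Cfsg.Agent.Helper6.CharBasic
import Cfsg.Agent.Helper6.RepInduction

/-!
# Irreducible characters: linear independence, decomposition of characters
-/

set_option autoImplicit false
set_option linter.style.haveILetI false

namespace Cfsg.Agent.Helper6

open Module Representation
open scoped ComplexConjugate

universe u v

variable {G : Type u} [Group G]

/-- The irreducible characters are linearly independent. -/
theorem irr_linearIndependent [Finite G] :
    LinearIndependent ℂ (fun χ : Cfsg.IrrCharacter G => (χ : G → ℂ)) := by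
  haveI := Fintype.ofFinite G
  rw [linearIndependent_iff']
  intro s c hsum j hj
  have h1 : Cfsg.classInner (∑ i ∈ s, c i • (i : G → ℂ)) (j : G → ℂ) = 0 := by
    rw [hsum, classInner_zero_left]
  rw [classInner_sum_left] at h1
  rw [Finset.sum_eq_single j] at h1
  · rw [classInner_smul_left, classInner_irr_self j.2, mul_one] at h1
    exact h1
  · intro i _ hij
    rw [classInner_smul_left, classInner_irr_ne i.2 j.2, mul_zero]
    intro h
    exact hij (Subtype.ext h)
  · intro h
    exact absurd hj h

/-- A finite group has finitely many irreducible characters. -/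
theorem irr_finite [Finite G] : Finite (Cfsg.IrrCharacter G) :=
  (irr_linearIndependent (G := G)).finite_of_isNoetherian

/-- The character of any finite-dimensional complex representation lies in the additive
submonoid generated by the irreducible characters. -/
theorem char_mem_closure [Finite G] (V : Type v) [AddCommGroup V] [Module ℂ V]
    [FiniteDimensional ℂ V] (ρ : Representation ℂ G V) :
    (fun g => LinearMap.trace ℂ V (ρ g)) ∈
      AddSubmonoid.closure {ψ : G → ℂ | Cfsg.IsIrrCharacter G ψ} := by
  refine rep_induction
    (P := fun V _ _ ρ => (fun g => LinearMap.trace ℂ V (ρ g)) ∈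
      AddSubmonoid.closure {ψ : G → ℂ | Cfsg.IsIrrCharacter G ψ}) ?_ ?_ ?_ ?_ V ρ
  · intro V _ _ ρ hV
    have : (fun g => LinearMap.trace ℂ V (ρ g)) = 0 := by
      ext g
      have : ρ g = 0 := Subsingleton.elim _ _
      rw [this, map_zero]; rfl
    rw [this]
    exact zero_mem _
  · intro V _ _ _ ρ hirr
    apply AddSubmonoid.subset_closure
    exact isIrrCharacter_of_rep ρ hirr
  · intro V W _ _ _ _ _ _ ρ σ φ h
    have : (fun g => LinearMap.trace ℂ W (σ g)) = (fun g => LinearMap.trace ℂ V (ρ g)) :=
      (char_iso φ).symm
    rw [this]
    exact h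
  · intro V W _ _ _ _ _ _ ρ σ h₁ h₂
    have : (fun g => LinearMap.trace ℂ (V × W) ((ρ.prod σ) g)) =
        (fun g => LinearMap.trace ℂ V (ρ g)) + (fun g => LinearMap.trace ℂ W (σ g)) := by
      ext g
      rw [show (ρ.prod σ) g = (ρ g).prodMap (σ g) from rfl, LinearMap.trace_prodMap']
      rfl
    rw [this]
    exact add_mem h₁ h₂

/-- Characters are exactly the finite sums of irreducible characters. -/
theorem isCharacter_iff_mem_closure [Finite G] (χ : G → ℂ) :
    Cfsg.IsCharacter G χ ↔ χ ∈ AddSubmonoid.closure {ψ : G → ℂ | Cfsg.IsIrrCharacter G ψ} := by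
  constructor
  · rintro ⟨n, ρ, rfl⟩
    exact char_mem_closure _ ρ
  · intro h
    induction h using AddSubmonoid.closure_induction with
    | mem x hx => exact IsIrrCharacter.isCharacter hx
    | zero => exact IsCharacter.zero
    | add x y _ _ hx hy => exact IsCharacter.add hx hy

end Cfsg.Agent.Helper6
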