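import Mathlib
import Cfsg.Prelude.Def_Characters
import Cfsg.Agent.Helper6.IrrBasis

/-!
# Completeness of the irreducible characters among class functions
-/

set_option autoImplicit false
set_option linter.style.haveILetI false

namespace Cfsg.Agent.Helper6

open Module Representation
open scoped ComplexConjugate

universe u v

variable {G : Type u} [Group G] [Fintype G]

/-- The operator `∑ g, f g • ρ g` commutes with the representation when `f` is a class function. -/
theorem sum_smul_rep_comm {V : Type v} [AddCommGroup V] [Module ℂ V] (ρ : Representation ℂ G V)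
    (f : G → ℂ) (hf : Cfsg.IsClassFunction G f) (h : G) :
    (∑ g, f g • ρ g) ∘ₗ ρ h = ρ h ∘ₗ (∑ g, f g • ρ g) := by
  show (∑ g, f g • ρ g) * ρ h = ρ h * (∑ g, f g • ρ g)
  rw [Finset.sum_mul, Finset.mul_sum]
  have e1 : ∑ g, (f g • ρ g) * ρ h = ∑ g, f (g * h⁻¹) • ρ g := by
    rw [← Equiv.sum_comp (Equiv.mulRight h) (fun g => f (g * h⁻¹) • ρ g)]
    apply Finset.sum_congr rfl
    intro g _
    simp only [Equiv.coe_mulRight, mul_inv_cancel_right, map_mul, smul_mul_assoc]
  have e2 : ∑ g, ρ h * (f g • ρ g) = ∑ g, f (h⁻¹ * g) • ρ g := by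
    rw [← Equiv.sum_comp (Equiv.mulLeft h) (fun g => f (h⁻¹ * g) • ρ g)]
    apply Finset.sum_congr rfl
    intro g _
    simp only [Equiv.coe_mulLeft, inv_mul_cancel_left, map_mul, mul_smul_comm]
  rw [e1, e2]
  apply Finset.sum_congr rfl
  intro g _
  have : f (h⁻¹ * g) = f (g * h⁻¹) := by
    have := hf (h⁻¹ * g) h
    rw [← this]
    congr 1
    group
  rw [this]

/-- If a class function `f` satisfies `∑ g, f g * χ g = 0` for every irreducible character `χ`,
then `∑ g, f g • ρ g = 0` for every finite-dimensional representation `ρ`. -/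
theorem sum_smul_rep_eq_zero (f : G → ℂ) (hf : Cfsg.IsClassFunction G f)
    (horth : ∀ χ : G → ℂ, Cfsg.IsIrrCharacter G χ → ∑ g, f g * χ g = 0)
    (V : Type v) [AddCommGroup V] [Module ℂ V] [FiniteDimensional ℂ V]
    (ρ : Representation ℂ G V) : ∑ g, f g • ρ g = 0 := by
  refine rep_induction (P := fun V _ _ ρ => ∑ g, f g • ρ g = 0) ?_ ?_ ?_ ?_ V ρ
  · intro V _ _ ρ hV
    apply LinearMap.ext
    intro v
    exact Subsingleton.elim _ _
  · intro V _ _ _ ρ hirr
    haveI := hirr
    -- Schur's lemma
    let T : IntertwiningMap ρ ρ := ⟨∑ g, f g • ρ g, sum_smul_rep_comm ρ f hf⟩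
    obtain ⟨c, hc⟩ := (IsIrreducible.algebraMap_intertwiningMap_bijective_of_isAlgClosed
      (ρ := ρ)).2 T
    have hT : (∑ g, f g • ρ g) = c • (LinearMap.id : V →ₗ[ℂ] V) := by
      have := congrArg IntertwiningMap.toLinearMap hc
      rw [IntertwiningMap.algebraMap_apply] at this
      rw [show T.toLinearMap = ∑ g, f g • ρ g from rfl] at this
      rw [← this]
      rfl
    have htr : LinearMap.trace ℂ V (∑ g, f g • ρ g) = ∑ g, f g * ρ.character g := by
      rw [map_sum]
      apply Finset.sum_congr rfl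
      intro g _
      rw [map_smul, smul_eq_mul]
      rfl
    rw [horth _ (isIrrCharacter_of_rep ρ hirr), hT, map_smul, LinearMap.trace_id,
      smul_eq_mul] at htr
    have hV : Nontrivial V := by
      by_contra hV
      rw [not_nontrivial_iff_subsingleton] at hV
      have hbt : (⊥ : Subrepresentation ρ) = ⊤ := by
        apply Subrepresentation.toSubmodule_injective
        exact Subsingleton.elim _ _
      exact bot_ne_top hbt
    have hdim : (finrank ℂ V : ℂ) ≠ 0 := by
      have := Module.finrank_pos (R := ℂ) (M := V)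
      exact_mod_cast this.ne'
    have hc0 : c = 0 := (mul_eq_zero.mp htr).resolve_right hdim
    rw [hT, hc0, zero_smul]
  · intro V W _ _ _ _ _ _ ρ σ φ h
    have hconj : ∀ g, σ g = φ.toLinearEquiv.conj (ρ g) := fun g => (φ.conj_apply_self g).symm
    have : ∑ g, f g • σ g = φ.toLinearEquiv.conj (∑ g, f g • ρ g) := by
      rw [map_sum]
      apply Finset.sum_congr rfl
      intro g _
      rw [map_smul, hconj g]
    rw [this, h, map_zero]
  · intro V W _ _ _ _ _ _ ρ σ h₁ h₂
    have : ∑ g, f g • (ρ.prod σ) g = (∑ g, f g • ρ g).prodMap (∑ g, f g • σ g) := by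
      apply LinearMap.ext
      rintro ⟨v, w⟩
      simp only [LinearMap.sum_apply, LinearMap.smul_apply, LinearMap.prodMap_apply]
      rw [Prod.ext_iff]
      constructor
      · simp [Prod.fst_sum]
      · simp [Prod.snd_sum]
    rw [this, h₁, h₂]
    exact LinearMap.prodMap_zero

end Cfsg.Agent.Helper6

namespace Cfsg.Agent.Helper6

open Module Representation
open scoped ComplexConjugate MonoidAlgebra

universe u

variable {G : Type u} [Group G] [Fintype G]

/-- A class function `f` with `∑ g, f g * χ g = 0` for every irreducible character `χ`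
vanishes. -/
theorem eq_zero_of_sum_mul_irr_eq_zero (f : G → ℂ) (hf : Cfsg.IsClassFunction G f)
    (horth : ∀ χ : G → ℂ, Cfsg.IsIrrCharacter G χ → ∑ g, f g * χ g = 0) : f = 0 := by
  classical
  have h := sum_smul_rep_eq_zero f hf horth ℂ[G] (Representation.leftRegular ℂ G)
  have h1 := LinearMap.congr_fun h (MonoidAlgebra.single (1 : G) (1 : ℂ))
  simp only [LinearMap.sum_apply, LinearMap.smul_apply, LinearMap.zero_apply] at h1
  have h2 : ∀ g : G, Representation.leftRegular ℂ G g (MonoidAlgebra.single (1 : G) (1 : ℂ)) =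
      MonoidAlgebra.single g (1 : ℂ) := by
    intro g
    simp [Representation.leftRegular]
  simp only [h2] at h1
  ext x
  have h3 := congrArg (fun a : ℂ[G] => a.coeff x) h1
  simp only [MonoidAlgebra.coeff_sum, MonoidAlgebra.coeff_smul, MonoidAlgebra.coeff_single,
    MonoidAlgebra.coeff_zero, Finsupp.coe_finset_sum, Finsupp.coe_smul, Finset.sum_apply,
    Pi.smul_apply, smul_eq_mul, Finsupp.coe_zero, Pi.zero_apply] at h3
  rw [Finset.sum_eq_single x] at h3
  · simpa using h3
  · intro g _ hg
    rw [Finsupp.single_eq_of_ne (Ne.symm hg), mul_zero]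
  · intro hx
    exact absurd (Finset.mem_univ x) hx

/-- A class function orthogonal to every irreducible character vanishes. -/
theorem eq_zero_of_classInner_irr_eq_zero (φ : G → ℂ) (hφ : Cfsg.IsClassFunction G φ)
    (horth : ∀ χ : G → ℂ, Cfsg.IsIrrCharacter G χ → Cfsg.classInner φ χ = 0) : φ = 0 := by
  have hcard : (Nat.card G : ℂ)⁻¹ ≠ 0 := by
    apply inv_ne_zero
    exact_mod_cast Nat.card_pos.ne'
  have hf : Cfsg.IsClassFunction G (fun g => φ g⁻¹) := by
    intro g h
    have := hφ g⁻¹ h
    show φ (h * g * h⁻¹)⁻¹ = φ g⁻¹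
    rw [← this]
    congr 1
    group
  have h0 : (fun g => φ g⁻¹) = 0 := by
    apply eq_zero_of_sum_mul_irr_eq_zero _ hf
    intro χ hχ
    have h1 := horth χ hχ
    rw [classInner_def] at h1
    have h2 := (mul_eq_zero.mp h1).resolve_left hcard
    rw [← Equiv.sum_comp (Equiv.inv G)]
    simp only [Equiv.inv_apply, inv_inv]
    rw [← h2]
    apply Finset.sum_congr rfl
    intro g _
    rw [IsCharacter.inv_eq_conj (IsIrrCharacter.isCharacter hχ)]
  ext g
  have := congrFun h0 g⁻¹
  simpa using this

end Cfsg.Agent.Helper6
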