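import Mathlib
import Cfsg.Prelude.Def_Characters
import Cfsg.Agent.Helper6.Completeness

/-!
# Expansion of class functions in irreducible characters
-/

set_option autoImplicit false
set_option linter.style.haveILetI false

namespace Cfsg.Agent.Helper6

open Module Representation
open scoped ComplexConjugate

universe u

variable {G : Type u} [Group G]

theorem IsClassFunction.add {φ ψ : G → ℂ} (h₁ : Cfsg.IsClassFunction G φ)
    (h₂ : Cfsg.IsClassFunction G ψ) : Cfsg.IsClassFunction G (φ + ψ) := by
  intro g h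
  simp only [Pi.add_apply, h₁ g h, h₂ g h]

theorem IsClassFunction.smul {φ : G → ℂ} (c : ℂ) (h₁ : Cfsg.IsClassFunction G φ) :
    Cfsg.IsClassFunction G (c • φ) := by
  intro g h
  simp only [Pi.smul_apply, h₁ g h]

theorem IsClassFunction.neg {φ : G → ℂ} (h₁ : Cfsg.IsClassFunction G φ) :
    Cfsg.IsClassFunction G (-φ) := by
  intro g h
  simp only [Pi.neg_apply, h₁ g h]

theorem IsClassFunction.sub {φ ψ : G → ℂ} (h₁ : Cfsg.IsClassFunction G φ)
    (h₂ : Cfsg.IsClassFunction G ψ) : Cfsg.IsClassFunction G (φ - ψ) := by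
  intro g h
  simp only [Pi.sub_apply, h₁ g h, h₂ g h]

theorem IsClassFunction.zero : Cfsg.IsClassFunction G (0 : G → ℂ) := by
  intro g h
  rfl

theorem IsClassFunction.sum {ι : Type*} (s : Finset ι) (φ : ι → G → ℂ)
    (h : ∀ i ∈ s, Cfsg.IsClassFunction G (φ i)) : Cfsg.IsClassFunction G (∑ i ∈ s, φ i) := by
  intro g x
  simp only [Finset.sum_apply]
  apply Finset.sum_congr rfl
  intro i hi
  exact h i hi g x

theorem IsClassFunction.eq_of_isConj {φ : G → ℂ} (h : Cfsg.IsClassFunction G φ) {a b : G}
    (hab : IsConj a b) : φ a = φ b := by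
  obtain ⟨c, hc⟩ := isConj_iff.mp hab
  rw [← hc, h a c]

/-- Expansion of a class function in the irreducible characters (finite sum over a `Fintype`
structure on the irreducible characters). -/
theorem classFunction_expansion [Fintype G] [Fintype (Cfsg.IrrCharacter G)] (ψ : G → ℂ)
    (hψ : Cfsg.IsClassFunction G ψ) :
    ψ = ∑ χ : Cfsg.IrrCharacter G, Cfsg.classInner ψ (χ : G → ℂ) • (χ : G → ℂ) := by
  classical
  have hcf : Cfsg.IsClassFunction G
      (ψ - ∑ χ : Cfsg.IrrCharacter G, Cfsg.classInner ψ (χ : G → ℂ) • (χ : G → ℂ)) := by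
    apply IsClassFunction.sub hψ
    apply IsClassFunction.sum
    intro χ _
    exact IsClassFunction.smul _ (IsCharacter.isClassFunction (IsIrrCharacter.isCharacter χ.2))
  have h0 := eq_zero_of_classInner_irr_eq_zero _ hcf ?_
  · exact sub_eq_zero.mp h0
  · intro θ hθ
    rw [classInner_sub_left, classInner_sum_left]
    rw [Finset.sum_eq_single (⟨θ, hθ⟩ : Cfsg.IrrCharacter G)]
    · rw [classInner_smul_left, classInner_irr_self hθ, mul_one, sub_self]
    · intro χ _ hne
      rw [classInner_smul_left, classInner_irr_ne χ.2 hθ, mul_zero]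
      intro h
      exact hne (Subtype.ext h)
    · intro h
      exact absurd (Finset.mem_univ _) h

/-- Expansion of a class function, `finsum` version. -/
theorem classFunction_expansion_finsum [Fintype G] (ψ : G → ℂ)
    (hψ : Cfsg.IsClassFunction G ψ) :
    ψ = ∑ᶠ χ : Cfsg.IrrCharacter G, Cfsg.classInner ψ (χ : G → ℂ) • (χ : G → ℂ) := by
  haveI : Finite (Cfsg.IrrCharacter G) := irr_finite
  haveI : Fintype (Cfsg.IrrCharacter G) := Fintype.ofFinite _
  rw [finsum_eq_sum_of_fintype]
  exact classFunction_expansion ψ hψ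

end Cfsg.Agent.Helper6
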