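import Mathlib
import Cfsg.Prelude.Def_Characters
import Cfsg.Agent.Helper6.Expansion

/-!
# Class sizes and column orthogonality
-/

set_option autoImplicit false
set_option linter.style.haveILetI false

namespace Cfsg.Agent.Helper6

open Module Representation
open scoped ComplexConjugate

universe u

variable {G : Type u} [Group G]

/-- Orbit-stabiliser for conjugation, `Nat.card` form. -/
theorem card_conj_mul_card_centralizer [Finite G] (g : G) :
    Nat.card {x : G // IsConj g x} * Nat.card (Subgroup.centralizer ({g} : Set G)) =
      Nat.card G := by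
  classical
  haveI := Fintype.ofFinite G
  have h := MulAction.card_orbit_mul_card_stabilizer_eq_card_group (ConjAct G) g
  rw [← Nat.card_eq_fintype_card, ← Nat.card_eq_fintype_card, ← Nat.card_eq_fintype_card] at h
  rw [Subgroup.nat_card_centralizer_nat_card_stabilizer]
  have h2 : Nat.card (MulAction.orbit (ConjAct G) g) = Nat.card {x : G // IsConj g x} := by
    apply Nat.card_congr
    refine Equiv.subtypeEquivRight ?_
    intro x
    rw [ConjAct.mem_orbit_conjAct]
    exact ⟨fun h => h.symm, fun h => h.symm⟩
  rw [← h2, h]
  exact Nat.card_congr ConjAct.toConjAct.toEquiv.symm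

theorem index_centralizer_eq_card_conj [Finite G] (g : G) :
    (Subgroup.centralizer ({g} : Set G)).index = Nat.card {x : G // IsConj g x} := by
  have h1 := card_conj_mul_card_centralizer g
  have h2 := (Subgroup.centralizer ({g} : Set G)).index_mul_card
  have hpos : 0 < Nat.card (Subgroup.centralizer ({g} : Set G)) := Nat.card_pos
  rw [← h1] at h2
  exact Nat.eq_of_mul_eq_mul_right hpos h2

/-- The indicator function of the conjugacy class of `g`. -/
noncomputable def classIndicator (g : G) : G → ℂ :=
  fun x => by classical exact if IsConj g x then 1 else 0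

theorem classIndicator_apply (g x : G) [Decidable (IsConj g x)] :
    classIndicator g x = if IsConj g x then 1 else 0 := by
  unfold classIndicator
  congr

theorem classIndicator_isClassFunction (g : G) : Cfsg.IsClassFunction G (classIndicator g) := by
  classical
  intro x y
  rw [classIndicator_apply, classIndicator_apply]
  have : IsConj g (y * x * y⁻¹) ↔ IsConj g x := by
    constructor
    · intro h
      exact h.trans (isConj_iff.mpr ⟨y⁻¹, by group⟩)
    · intro h
      exact h.trans (isConj_iff.mpr ⟨y, rfl⟩)
  simp only [this]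

theorem classInner_classIndicator [Fintype G] (g : G) (χ : G → ℂ)
    (hχ : Cfsg.IsClassFunction G χ) :
    Cfsg.classInner (classIndicator g) χ =
      (Nat.card G : ℂ)⁻¹ * ((Nat.card {x : G // IsConj g x} : ℂ) * conj (χ g)) := by
  classical
  rw [classInner_def]
  congr 1
  have : ∀ x : G, classIndicator g x * conj (χ x) = if IsConj g x then conj (χ g) else 0 := by
    intro x
    rw [classIndicator_apply]
    split_ifs with h
    · rw [one_mul, IsClassFunction.eq_of_isConj hχ h]
    · rw [zero_mul]
  simp_rw [this]
  rw [← Finset.sum_filter, Finset.sum_const, nsmul_eq_mul]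
  congr 2
  rw [Nat.card_eq_fintype_card, Fintype.card_subtype]

/-- Column orthogonality, raw form. -/
theorem column_orthogonality_aux [Fintype G] [Fintype (Cfsg.IrrCharacter G)] (g h : G)
    [Decidable (IsConj g h)] :
    ∑ χ : Cfsg.IrrCharacter G, (χ : G → ℂ) g * conj ((χ : G → ℂ) h) =
      if IsConj g h then (Nat.card (Subgroup.centralizer ({g} : Set G)) : ℂ) else 0 := by
  classical
  have hexp := classFunction_expansion (classIndicator g) (classIndicator_isClassFunction g)
  have hev := congrFun hexp h
  rw [Finset.sum_apply] at hev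
  simp only [Pi.smul_apply, smul_eq_mul] at hev
  have hterm : ∀ χ : Cfsg.IrrCharacter G,
      Cfsg.classInner (classIndicator g) (χ : G → ℂ) * (χ : G → ℂ) h =
      (Nat.card G : ℂ)⁻¹ * (Nat.card {x : G // IsConj g x} : ℂ) *
        (conj ((χ : G → ℂ) g) * (χ : G → ℂ) h) := by
    intro χ
    rw [classInner_classIndicator g _
      (IsCharacter.isClassFunction (IsIrrCharacter.isCharacter χ.2))]
    ring
  simp_rw [hterm] at hev
  rw [← Finset.mul_sum] at hev
  have hcard := card_conj_mul_card_centralizer g
  have hG : (Nat.card G : ℂ) ≠ 0 := by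
    have : 0 < Nat.card G := Nat.card_pos
    exact_mod_cast this.ne'
  have hcl : (Nat.card {x : G // IsConj g x} : ℂ) ≠ 0 := by
    have : 0 < Nat.card {x : G // IsConj g x} := by
      haveI : Nonempty {x : G // IsConj g x} := ⟨⟨g, IsConj.refl g⟩⟩
      exact Nat.card_pos
    exact_mod_cast this.ne'
  have hcardC : (Nat.card {x : G // IsConj g x} : ℂ) *
      (Nat.card (Subgroup.centralizer ({g} : Set G)) : ℂ) = (Nat.card G : ℂ) := by
    exact_mod_cast hcard
  -- conjugate the evaluated identity
  have hev2 := congrArg conj hev
  rw [map_mul, map_mul, map_sum] at hev2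
  have hconjterm : ∀ χ : Cfsg.IrrCharacter G,
      conj (conj ((χ : G → ℂ) g) * (χ : G → ℂ) h) = (χ : G → ℂ) g * conj ((χ : G → ℂ) h) := by
    intro χ
    rw [map_mul, Complex.conj_conj]
  simp_rw [hconjterm] at hev2
  rw [map_inv₀, Complex.conj_natCast, Complex.conj_natCast] at hev2
  rw [classIndicator_apply] at hev2
  have hsum : ∑ χ : Cfsg.IrrCharacter G, (χ : G → ℂ) g * conj ((χ : G → ℂ) h) =
      (Nat.card G : ℂ) * (Nat.card {x : G // IsConj g x} : ℂ)⁻¹ *
        conj (if IsConj g h then (1 : ℂ) else 0) := by
    rw [hev2]
    field_simp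
  rw [hsum]
  split_ifs with hc
  · rw [map_one, mul_one, ← hcardC]
    field_simp
  · rw [map_zero, mul_zero]

end Cfsg.Agent.Helper6
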