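import Mathlib
import Cfsg.Prelude.Def_Characters
import Cfsg.Agent.Helper6.ColumnOrth

/-!
# Central characters and integrality
-/

set_option autoImplicit false
set_option linter.style.haveILetI false

namespace Cfsg.Agent.Helper6

open Module Representation
open scoped ComplexConjugate

universe u v

variable {G : Type u} [Group G]

/-- Sums of values of a representation are integral over `ℤ` in the endomorphism ring. -/
theorem isIntegral_sum_rep [Finite G] {V : Type v} [AddCommGroup V] [Module ℂ V]
    (ρ : Representation ℂ G V) (S : Finset G) :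
    IsIntegral ℤ (∑ x ∈ S, ρ x) := by
  classical
  let F : MonoidAlgebra ℤ G →ₐ[ℤ] Module.End ℂ V := MonoidAlgebra.lift ℤ (Module.End ℂ V) G ρ
  have h1 : IsIntegral ℤ (∑ x ∈ S, MonoidAlgebra.single x (1:ℤ)) := IsIntegral.of_finite ℤ _
  have h2 := h1.map F
  rw [map_sum] at h2
  simpa [F] using h2

/-- Schur's lemma: an endomorphism commuting with an irreducible representation is a scalar. -/
theorem exists_scalar_of_commute {V : Type v} [AddCommGroup V] [Module ℂ V]
    [FiniteDimensional ℂ V] (ρ : Representation ℂ G V) [ρ.IsIrreducible]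
    (T : V →ₗ[ℂ] V) (hT : ∀ g : G, T ∘ₗ ρ g = ρ g ∘ₗ T) :
    ∃ c : ℂ, T = c • (LinearMap.id : V →ₗ[ℂ] V) := by
  let f : IntertwiningMap ρ ρ := ⟨T, hT⟩
  obtain ⟨c, hc⟩ :=
    (Representation.IsIrreducible.algebraMap_intertwiningMap_bijective_of_isAlgClosed
      (ρ := ρ)).2 f
  refine ⟨c, ?_⟩
  have := congrArg IntertwiningMap.toLinearMap hc
  rw [IntertwiningMap.algebraMap_apply] at this
  exact this.symm

/-- A sum of `ρ x` over a conjugation-invariant set commutes with the representation. -/
theorem sum_rep_commute {V : Type v} [AddCommGroup V] [Module ℂ V]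
    (ρ : Representation ℂ G V) (S : Finset G)
    (hS : ∀ g x : G, x ∈ S → g * x * g⁻¹ ∈ S) (g : G) :
    (∑ x ∈ S, ρ x) ∘ₗ ρ g = ρ g ∘ₗ (∑ x ∈ S, ρ x) := by
  classical
  change (∑ x ∈ S, ρ x) * ρ g = ρ g * (∑ x ∈ S, ρ x)
  rw [Finset.sum_mul, Finset.mul_sum]
  symm
  apply Finset.sum_bij (fun x _ => g * x * g⁻¹)
  · intro x hx
    exact hS g x hx
  · intro a _ b _ hab
    have := mul_right_cancel hab
    exact mul_left_cancel this
  · intro b hb
    refine ⟨g⁻¹ * b * g, ?_, by group⟩
    have := hS g⁻¹ b hb
    rwa [inv_inv] at this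
  · intro x _
    change ρ g * ρ x = ρ (g * x * g⁻¹) * ρ g
    rw [← map_mul, ← map_mul]
    congr 1
    group

/-- The central character value attached to a conjugation-invariant set is an algebraic integer,
and is given by the usual formula. -/
theorem exists_central_value [Finite G] {V : Type v} [AddCommGroup V] [Module ℂ V]
    [FiniteDimensional ℂ V] (ρ : Representation ℂ G V) [hirr : ρ.IsIrreducible] (S : Finset G)
    (hS : ∀ g x : G, x ∈ S → g * x * g⁻¹ ∈ S) :
    ∃ c : ℂ, IsIntegral ℤ c ∧ (∑ x ∈ S, ρ x) = c • (LinearMap.id : V →ₗ[ℂ] V) ∧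
      c * (finrank ℂ V : ℂ) = ∑ x ∈ S, ρ.character x := by
  obtain ⟨c, hc⟩ := exists_scalar_of_commute ρ (∑ x ∈ S, ρ x) (sum_rep_commute ρ S hS)
  refine ⟨c, ?_, hc, ?_⟩
  · have hint := isIntegral_sum_rep ρ S
    rw [hc] at hint
    haveI : Nontrivial V := by
      by_contra hnt
      rw [not_nontrivial_iff_subsingleton] at hnt
      have hbt : (⊥ : Subrepresentation ρ) ≠ ⊤ := bot_ne_top
      apply hbt
      apply Subrepresentation.toSubmodule_injective
      exact Subsingleton.elim _ _
    have hinj : Function.Injective (algebraMap ℂ (Module.End ℂ V)) :=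
      FaithfulSMul.algebraMap_injective ℂ (Module.End ℂ V)
    have h2 : c • (LinearMap.id : V →ₗ[ℂ] V) = algebraMap ℂ (Module.End ℂ V) c := by
      rw [Algebra.algebraMap_eq_smul_one]
      rfl
    rw [h2] at hint
    exact (isIntegral_algebraMap_iff hinj).mp hint
  · have htr := congrArg (LinearMap.trace ℂ V) hc
    rw [map_sum, map_smul, LinearMap.trace_id, smul_eq_mul] at htr
    rw [← htr]
    rfl

/-- The conjugacy class of `g` as a finset. -/
noncomputable def classFinset [Fintype G] (g : G) : Finset G := by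
  classical exact Finset.univ.filter (fun x => IsConj g x)

theorem mem_classFinset [Fintype G] (g x : G) : x ∈ classFinset g ↔ IsConj g x := by
  classical
  unfold classFinset
  simp

theorem card_classFinset [Fintype G] (g : G) :
    (classFinset g).card = (Subgroup.centralizer ({g} : Set G)).index := by
  classical
  rw [index_centralizer_eq_card_conj, Nat.card_eq_fintype_card, Fintype.card_subtype]
  unfold classFinset
  congr 1

/-- `|K| χ(g) / χ(1)` is an algebraic integer. -/
theorem isIntegral_class_mul_char_div [Finite G] {V : Type v} [AddCommGroup V] [Module ℂ V]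
    [FiniteDimensional ℂ V] (ρ : Representation ℂ G V) [hirr : ρ.IsIrreducible] (g : G) :
    IsIntegral ℤ (((Subgroup.centralizer ({g} : Set G)).index : ℂ) * ρ.character g /
      (finrank ℂ V : ℂ)) := by
  classical
  haveI := Fintype.ofFinite G
  obtain ⟨c, hcint, -, hc⟩ := exists_central_value ρ (classFinset g) (by
    intro a x hx
    rw [mem_classFinset] at hx ⊢
    exact hx.trans (isConj_iff.mpr ⟨a, rfl⟩))
  have hsum : ∑ x ∈ classFinset g, ρ.character x =
      ((Subgroup.centralizer ({g} : Set G)).index : ℂ) * ρ.character g := by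
    rw [← card_classFinset, ← nsmul_eq_mul, ← Finset.sum_const]
    apply Finset.sum_congr rfl
    intro x hx
    rw [mem_classFinset] at hx
    obtain ⟨a, ha⟩ := isConj_iff.mp hx
    rw [← ha, char_conj]
  rw [hsum] at hc
  by_cases h0 : (finrank ℂ V : ℂ) = 0
  · rw [h0, div_zero]
    exact isIntegral_zero
  · rw [← hc, mul_div_assoc, div_self h0, mul_one]
    exact hcint

end Cfsg.Agent.Helper6
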