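import Mathlib
import Cfsg.Prelude.Def_Characters
import Cfsg.Agent.Helper6.CentralChar
import Cfsg.Agent.Helper6.CharBasic

/-!
# The degree of an irreducible representation divides the group order
-/

set_option autoImplicit false
set_option linter.style.haveILetI false

namespace Cfsg.Agent.Helper6

open Module Representation
open scoped ComplexConjugate

universe u v

variable {G : Type u} [Group G]

/-- If `a = d * A` with `A` an algebraic integer then `d ∣ a`. -/
theorem nat_dvd_of_isIntegral (a d : ℕ) (hd : d ≠ 0) (A : ℂ) (hA : IsIntegral ℤ A)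
    (h : (a : ℂ) = d * A) : d ∣ a := by
  have hdC : (d : ℂ) ≠ 0 := by exact_mod_cast hd
  have hAq : A = (((a : ℚ) / (d : ℚ) : ℚ) : ℂ) := by
    push_cast
    field_simp
    rw [h]; ring
  rw [hAq] at hA
  have hA' : IsIntegral ℤ ((a : ℚ) / (d : ℚ)) :=
    (isIntegral_algebraMap_iff (algebraMap ℚ ℂ).injective).mp hA
  obtain ⟨n, hn⟩ := IsIntegrallyClosed.isIntegral_iff.mp hA'
  have hdQ : (d : ℚ) ≠ 0 := by exact_mod_cast hd
  have h2 : (a : ℚ) = d * n := by
    have : (n : ℚ) = (a : ℚ) / d := hn
    rw [this]
    field_simp
  have h3 : (a : ℤ) = d * n := by exact_mod_cast h2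
  have : (d : ℤ) ∣ (a : ℤ) := ⟨n, h3⟩
  exact Int.natCast_dvd_natCast.mp this

theorem conj_char_isIntegral [Finite G] {V : Type v} [AddCommGroup V] [Module ℂ V]
    [FiniteDimensional ℂ V] (ρ : Representation ℂ G V) (g : G) :
    IsIntegral ℤ (conj (ρ.character g)) := by
  rw [← char_inv_eq_conj]
  exact isIntegral_char ρ g⁻¹

theorem irr_nontrivial {V : Type v} [AddCommGroup V] [Module ℂ V]
    (ρ : Representation ℂ G V) [hirr : ρ.IsIrreducible] : Nontrivial V := by
  by_contra hnt
  rw [not_nontrivial_iff_subsingleton] at hnt
  have hbt : (⊥ : Subrepresentation ρ) ≠ ⊤ := bot_ne_top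
  apply hbt
  apply Subrepresentation.toSubmodule_injective
  exact Subsingleton.elim _ _

/-- The degree of an irreducible representation divides the order of the group. -/
theorem finrank_dvd_card [Finite G] {V : Type v} [AddCommGroup V] [Module ℂ V]
    [FiniteDimensional ℂ V] (ρ : Representation ℂ G V) [hirr : ρ.IsIrreducible] :
    finrank ℂ V ∣ Nat.card G := by
  classical
  haveI := Fintype.ofFinite G
  haveI : Nontrivial V := irr_nontrivial ρ
  have hd : finrank ℂ V ≠ 0 := Module.finrank_pos.ne'
  -- central values for each class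
  have hcv : ∀ C : ConjClasses G, ∃ c : ℂ, IsIntegral ℤ c ∧
      c * (finrank ℂ V : ℂ) = ∑ x ∈ classFinset (Quotient.out C), ρ.character x := by
    intro C
    obtain ⟨c, hcint, -, hc⟩ := exists_central_value ρ (classFinset (Quotient.out C)) (by
      intro a x hx
      rw [mem_classFinset] at hx ⊢
      exact hx.trans (isConj_iff.mpr ⟨a, rfl⟩))
    exact ⟨c, hcint, hc⟩
  choose c hcint hc using hcv
  have hnorm : Cfsg.classInner ρ.character ρ.character = 1 :=
    classInner_irr_self (isIrrCharacter_of_rep ρ hirr)
  rw [classInner_def] at hnorm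
  have hG0 : (Nat.card G : ℂ) ≠ 0 := by
    have : 0 < Nat.card G := Nat.card_pos
    exact_mod_cast this.ne'
  have hsum : ∑ g : G, ρ.character g * conj (ρ.character g) = (Nat.card G : ℂ) := by
    field_simp at hnorm
    exact hnorm
  have hfib := Finset.sum_fiberwise (Finset.univ : Finset G) (fun g : G => ConjClasses.mk g)
    (fun g => ρ.character g * conj (ρ.character g))
  rw [hsum] at hfib
  have hclass : ∀ C : ConjClasses G,
      ∑ x ∈ Finset.univ.filter (fun g : G => ConjClasses.mk g = C),
        ρ.character x * conj (ρ.character x) =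
      (finrank ℂ V : ℂ) * (c C * conj (ρ.character (Quotient.out C))) := by
    intro C
    have hfilter : Finset.univ.filter (fun g : G => ConjClasses.mk g = C) =
        classFinset (Quotient.out C) := by
      ext x
      rw [mem_classFinset]
      simp only [Finset.mem_filter, Finset.mem_univ, true_and]
      constructor
      · intro h
        have h2 : ConjClasses.mk (Quotient.out C) = C := Quotient.out_eq C
        rw [← h2] at h
        exact (ConjClasses.mk_eq_mk_iff_isConj.mp h).symm
      · intro h
        have h2 : ConjClasses.mk (Quotient.out C) = C := Quotient.out_eq C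
        rw [← h2]
        exact (ConjClasses.mk_eq_mk_iff_isConj.mpr h).symm
    rw [hfilter]
    have : ∀ x ∈ classFinset (Quotient.out C), ρ.character x * conj (ρ.character x) =
        ρ.character x * conj (ρ.character (Quotient.out C)) := by
      intro x hx
      rw [mem_classFinset] at hx
      obtain ⟨a, ha⟩ := isConj_iff.mp hx
      rw [← ha, char_conj]
    rw [Finset.sum_congr rfl this, ← Finset.sum_mul, ← hc C]
    ring
  simp_rw [hclass] at hfib
  rw [← Finset.mul_sum] at hfib
  apply nat_dvd_of_isIntegral (Nat.card G) (finrank ℂ V) hd _ _ hfib.symm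
  apply IsIntegral.sum
  intro C _
  exact (hcint C).mul (conj_char_isIntegral ρ _)

end Cfsg.Agent.Helper6
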