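import Mathlib
import Cfsg.Prelude.Def_Characters
import Cfsg.Agent.Helper6.AvgRoots
import Cfsg.Agent.Helper6.DegreeDvd

/-!
# Burnside's lemma on characters and classes of coprime size
-/

set_option autoImplicit false
set_option linter.style.haveILetI false

namespace Cfsg.Agent.Helper6

open Module Representation
open scoped ComplexConjugate

universe u v

variable {G : Type u} [Group G]

/-- If the degree of an irreducible representation is coprime to the size of the class of `g`,
then the character vanishes at `g` or `g` acts as a scalar. -/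
theorem char_eq_zero_or_norm_eq_of_coprime [Finite G] {V : Type v} [AddCommGroup V] [Module ℂ V]
    [FiniteDimensional ℂ V] (ρ : Representation ℂ G V) [hirr : ρ.IsIrreducible] (g : G)
    (hcop : Nat.Coprime (finrank ℂ V) (Subgroup.centralizer ({g} : Set G)).index) :
    ρ.character g = 0 ∨ ‖ρ.character g‖ = (finrank ℂ V : ℝ) := by
  classical
  haveI : Nontrivial V := irr_nontrivial ρ
  have hd : finrank ℂ V ≠ 0 := Module.finrank_pos.ne'
  have hdC : (finrank ℂ V : ℂ) ≠ 0 := by exact_mod_cast hd
  have hdR : (0 : ℝ) < (finrank ℂ V : ℝ) := by exact_mod_cast Module.finrank_pos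
  obtain ⟨ι, hι, b, μ, h1, h2, hcard⟩ := exists_eigenbasis_rep ρ g
  have hpos : 0 < orderOf g := orderOf_pos g
  have htr : ρ.character g = ∑ i, μ i := by
    unfold Representation.character
    exact trace_eq_sum_of_eigenbasis b (ρ g) μ h1
  have hne : Nonempty ι := by
    rw [← Fintype.card_pos_iff, hcard]
    exact Module.finrank_pos
  -- α = χ(g)/d is an algebraic integer
  have hαint : IsIntegral ℤ (ρ.character g / (finrank ℂ V : ℂ)) := by
    obtain ⟨a, c, hac⟩ := (Nat.Coprime.isCoprime hcop)
    have h3 : ρ.character g / (finrank ℂ V : ℂ) = (a : ℂ) * ρ.character g +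
        (c : ℂ) * (((Subgroup.centralizer ({g} : Set G)).index : ℂ) * ρ.character g /
          (finrank ℂ V : ℂ)) := by
      have hacC : (a : ℂ) * (finrank ℂ V : ℂ) +
          (c : ℂ) * ((Subgroup.centralizer ({g} : Set G)).index : ℂ) = 1 := by
        exact_mod_cast hac
      field_simp
      linear_combination (-(ρ.character g)) * hacC
    rw [h3]
    apply IsIntegral.add
    · exact (isIntegral_algebraMap (R := ℤ) (A := ℂ) (x := a)).mul (isIntegral_char ρ g)
    · exact (isIntegral_algebraMap (R := ℤ) (A := ℂ) (x := c)).mul
        (isIntegral_class_mul_char_div ρ g)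
  by_cases hlt : ‖ρ.character g‖ < (finrank ℂ V : ℝ)
  · left
    have hα0 : (∑ i, μ i) / (Fintype.card ι : ℂ) = 0 := by
      apply avg_roots_of_unity_eq_zero μ (orderOf g) hpos h2 hne
      · rw [hcard, ← htr]
        exact hαint
      · rw [hcard, ← htr, norm_div, Complex.norm_natCast, div_lt_one hdR]
        exact hlt
    rw [hcard, ← htr] at hα0
    rcases div_eq_zero_iff.mp hα0 with h | h
    · exact h
    · exact absurd h hdC
  · right
    exact le_antisymm (norm_char_le ρ g) (not_lt.mp hlt)

end Cfsg.Agent.Helper6
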