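import Mathlib
import Cfsg.Prelude.Def_Characters
import Cfsg.Agent.Helper6.Expansion

/-!
# The induction map on functions
-/

set_option autoImplicit false
set_option linter.style.haveILetI false

namespace Cfsg.Agent.Helper6

open scoped ComplexConjugate

universe u

variable {G : Type u} [Group G]

theorem extendByZero_mem (H : Subgroup G) (θ : H → ℂ) {g : G} (hg : g ∈ H) :
    Cfsg.extendByZero H θ g = θ ⟨g, hg⟩ := by
  unfold Cfsg.extendByZero
  exact Subtype.val_injective.extend_apply θ 0 ⟨g, hg⟩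

theorem extendByZero_coe (H : Subgroup G) (θ : H → ℂ) (h : H) :
    Cfsg.extendByZero H θ (h : G) = θ h :=
  extendByZero_mem H θ h.2

theorem extendByZero_not_mem (H : Subgroup G) (θ : H → ℂ) {g : G} (hg : g ∉ H) :
    Cfsg.extendByZero H θ g = 0 := by
  unfold Cfsg.extendByZero
  rw [Function.extend_apply']
  · rfl
  · rintro ⟨a, rfl⟩
    exact hg a.2

theorem sum_extendByZero_mul [Fintype G] (H : Subgroup G) [Fintype H] (θ : H → ℂ)
    (f : G → ℂ) : ∑ g : G, Cfsg.extendByZero H θ g * f g = ∑ h : H, θ h * f h := by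
  classical
  have h1 : ∑ g : G, Cfsg.extendByZero H θ g * f g =
      ∑ g ∈ Finset.univ.filter (fun g : G => g ∈ H), Cfsg.extendByZero H θ g * f g := by
    rw [Finset.sum_filter]
    apply Finset.sum_congr rfl
    intro g _
    split_ifs with hg
    · rfl
    · rw [extendByZero_not_mem H θ hg, zero_mul]
  rw [h1]
  rw [Finset.sum_subtype (Finset.univ.filter (fun g : G => g ∈ H)) (p := fun g => g ∈ H)
    (by intro x; simp)]
  apply Finset.sum_congr rfl
  intro h _
  rw [extendByZero_coe]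

theorem sum_extendByZero [Fintype G] (H : Subgroup G) [Fintype H] (θ : H → ℂ) :
    ∑ g : G, Cfsg.extendByZero H θ g = ∑ h : H, θ h := by
  have := sum_extendByZero_mul H θ (fun _ => 1)
  simpa using this

theorem indFun_apply [Fintype G] (H : Subgroup G) (θ : H → ℂ) (g : G) :
    Cfsg.indFun H θ g = (Nat.card H : ℂ)⁻¹ * ∑ x : G, Cfsg.extendByZero H θ (x⁻¹ * g * x) :=
  rfl

theorem indFun_isClassFunction [Fintype G] (H : Subgroup G) (θ : H → ℂ) :
    Cfsg.IsClassFunction G (Cfsg.indFun H θ) := by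
  intro g y
  rw [indFun_apply, indFun_apply]
  congr 1
  apply Fintype.sum_equiv (Equiv.mulLeft y⁻¹)
  intro x
  congr 1
  simp only [Equiv.coe_mulLeft, mul_inv_rev, inv_inv]
  group

theorem indFun_add [Fintype G] (H : Subgroup G) (θ ψ : H → ℂ) :
    Cfsg.indFun H (θ + ψ) = Cfsg.indFun H θ + Cfsg.indFun H ψ := by
  ext g
  rw [Pi.add_apply, indFun_apply, indFun_apply, indFun_apply, ← mul_add, ← Finset.sum_add_distrib]
  congr 1
  apply Finset.sum_congr rfl
  intro x _
  by_cases hx : x⁻¹ * g * x ∈ H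
  · rw [extendByZero_mem H _ hx, extendByZero_mem H _ hx, extendByZero_mem H _ hx, Pi.add_apply]
  · rw [extendByZero_not_mem H _ hx, extendByZero_not_mem H _ hx, extendByZero_not_mem H _ hx,
      add_zero]

theorem indFun_smul [Fintype G] (H : Subgroup G) (c : ℂ) (θ : H → ℂ) :
    Cfsg.indFun H (c • θ) = c • Cfsg.indFun H θ := by
  ext g
  rw [Pi.smul_apply, indFun_apply, indFun_apply, smul_eq_mul, mul_left_comm]
  congr 1
  rw [Finset.mul_sum]
  apply Finset.sum_congr rfl
  intro x _
  by_cases hx : x⁻¹ * g * x ∈ H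
  · rw [extendByZero_mem H _ hx, extendByZero_mem H _ hx, Pi.smul_apply, smul_eq_mul]
  · rw [extendByZero_not_mem H _ hx, extendByZero_not_mem H _ hx, mul_zero]

theorem indFun_zero [Fintype G] (H : Subgroup G) :
    Cfsg.indFun H (0 : H → ℂ) = 0 := by
  have := indFun_smul H (0 : ℂ) (0 : H → ℂ)
  simpa using this

theorem indFun_neg [Fintype G] (H : Subgroup G) (θ : H → ℂ) :
    Cfsg.indFun H (-θ) = -Cfsg.indFun H θ := by
  have := indFun_smul H (-1 : ℂ) θ
  simpa using this

theorem indFun_sub [Fintype G] (H : Subgroup G) (θ ψ : H → ℂ) :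
    Cfsg.indFun H (θ - ψ) = Cfsg.indFun H θ - Cfsg.indFun H ψ := by
  rw [sub_eq_add_neg, indFun_add, indFun_neg, ← sub_eq_add_neg]

/-- Frobenius reciprocity on the level of functions. -/
theorem frobenius_reciprocity [Fintype G] (H : Subgroup G) [Fintype H] (θ : H → ℂ) (χ : G → ℂ)
    (hχ : Cfsg.IsClassFunction G χ) :
    Cfsg.classInner (Cfsg.indFun H θ) χ = Cfsg.classInner θ (fun h : H => χ h) := by
  rw [classInner_def, classInner_def]
  simp_rw [indFun_apply]
  have h1 : ∀ g : G, ((Nat.card H : ℂ)⁻¹ * ∑ x : G, Cfsg.extendByZero H θ (x⁻¹ * g * x)) *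
      conj (χ g) = (Nat.card H : ℂ)⁻¹ *
        ∑ x : G, Cfsg.extendByZero H θ (x⁻¹ * g * x) * conj (χ (x⁻¹ * g * x)) := by
    intro g
    rw [mul_assoc, Finset.sum_mul]
    congr 1
    apply Finset.sum_congr rfl
    intro x _
    congr 2
    have := hχ g x⁻¹
    rw [inv_inv] at this
    exact this.symm
  simp_rw [h1]
  rw [← Finset.mul_sum, Finset.sum_comm]
  have h2 : ∀ x : G, ∑ g : G, Cfsg.extendByZero H θ (x⁻¹ * g * x) * conj (χ (x⁻¹ * g * x)) =
      ∑ h : H, θ h * conj (χ h) := by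
    intro x
    rw [← sum_extendByZero_mul H θ (fun g => conj (χ g))]
    apply Fintype.sum_equiv ((Equiv.mulLeft x⁻¹).trans (Equiv.mulRight x))
    intro g
    rfl
  simp_rw [h2]
  rw [Finset.sum_const, Finset.card_univ, nsmul_eq_mul, ← Nat.card_eq_fintype_card]
  have hG : (Nat.card G : ℂ) ≠ 0 := by
    have : 0 < Nat.card G := Nat.card_pos
    exact_mod_cast this.ne'
  field_simp

end Cfsg.Agent.Helper6
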