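import Mathlib
import Cfsg.Prelude.Def_Characters
import Cfsg.Agent.Helper6.IndFun

/-!
# Transitivity of induction, induction from TI-sets
-/

set_option autoImplicit false
set_option linter.style.haveILetI false

namespace Cfsg.Agent.Helper6

open scoped ComplexConjugate

universe u

variable {G : Type u} [Group G]

/-- Transitivity of induction. -/
theorem indFun_trans [Fintype G] (H K : Subgroup G) [Fintype K] (hHK : H ≤ K) (θ : H → ℂ) :
    Cfsg.indFun K (Cfsg.indFun (H.subgroupOf K)
      (fun x => θ ⟨(x : K), Subgroup.mem_subgroupOf.mp x.2⟩)) = Cfsg.indFun H θ := by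
  classical
  ext g
  set θ' : H.subgroupOf K → ℂ := fun x => θ ⟨(x : K), Subgroup.mem_subgroupOf.mp x.2⟩ with hθ'
  have hcard : Nat.card (H.subgroupOf K) = Nat.card H :=
    Nat.card_congr (Subgroup.subgroupOfEquivOfLe hHK).toEquiv
  -- extension by zero of θ' agrees with that of θ on K
  have hext : ∀ k : K, Cfsg.extendByZero (H.subgroupOf K) θ' k = Cfsg.extendByZero H θ (k : G) := by
    intro k
    by_cases hk : (k : G) ∈ H
    · have hk' : k ∈ H.subgroupOf K := Subgroup.mem_subgroupOf.mpr hk
      rw [extendByZero_mem _ _ hk', extendByZero_mem _ _ hk]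
    · have hk' : k ∉ H.subgroupOf K := fun h => hk (Subgroup.mem_subgroupOf.mp h)
      rw [extendByZero_not_mem _ _ hk', extendByZero_not_mem _ _ hk]
  -- key pointwise identity
  have hkey : ∀ x : G, Cfsg.extendByZero K (Cfsg.indFun (H.subgroupOf K) θ') (x⁻¹ * g * x) =
      (Nat.card H : ℂ)⁻¹ * ∑ y : K, Cfsg.extendByZero H θ ((x * y)⁻¹ * g * (x * y)) := by
    intro x
    by_cases hx : x⁻¹ * g * x ∈ K
    · rw [extendByZero_mem _ _ hx, indFun_apply, hcard]
      congr 1
      apply Finset.sum_congr rfl
      intro y _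
      rw [hext]
      congr 1
      simp only [Subgroup.coe_mul, Subgroup.coe_inv, mul_inv_rev]
      group
    · rw [extendByZero_not_mem _ _ hx]
      symm
      rw [Finset.sum_eq_zero, mul_zero]
      intro y _
      apply extendByZero_not_mem
      intro hmem
      apply hx
      have h1 : (x * y)⁻¹ * g * (x * y) ∈ K := hHK hmem
      have h2 : x⁻¹ * g * x = (y : G) * ((x * y)⁻¹ * g * (x * y)) * (y : G)⁻¹ := by group
      rw [h2]
      exact K.mul_mem (K.mul_mem y.2 h1) (K.inv_mem y.2)
  rw [indFun_apply, indFun_apply]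
  simp_rw [hkey]
  rw [← Finset.mul_sum, Finset.sum_comm]
  have hinner : ∀ y : K, ∑ x : G, Cfsg.extendByZero H θ ((x * y)⁻¹ * g * (x * y)) =
      ∑ x : G, Cfsg.extendByZero H θ (x⁻¹ * g * x) := by
    intro y
    apply Fintype.sum_equiv (Equiv.mulRight (y : G))
    intro x
    rfl
  simp_rw [hinner]
  rw [Finset.sum_const, Finset.card_univ, nsmul_eq_mul, ← Nat.card_eq_fintype_card]
  have hK : (Nat.card K : ℂ) ≠ 0 := by
    have : 0 < Nat.card K := Nat.card_pos
    exact_mod_cast this.ne'
  field_simp

/-- Induction from the normalizer of a TI-set: values on the TI-set. -/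
theorem indFun_TI_apply [Fintype G] (T : Set G)
    (hTI : ∀ g : G, g ∉ Subgroup.normalizer T → ∀ t ∈ T, g * t * g⁻¹ ∈ T → t = 1)
    (ψ : Subgroup.normalizer T → ℂ)
    (hψ : Cfsg.IsClassFunction (Subgroup.normalizer T) ψ)
    (hψT : ∀ x : Subgroup.normalizer T, (x : G) ∉ T → ψ x = 0)
    (t : Subgroup.normalizer T) (htT : (t : G) ∈ T) (ht1 : t ≠ 1) :
    Cfsg.indFun (Subgroup.normalizer T) ψ t = ψ t := by
  classical
  haveI : Fintype (Subgroup.normalizer T) := Fintype.ofFinite _
  rw [indFun_apply]
  have hterm : ∀ x : G, Cfsg.extendByZero (Subgroup.normalizer T) ψ (x⁻¹ * (t : G) * x) =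
      if x ∈ Subgroup.normalizer T then ψ t else 0 := by
    intro x
    split_ifs with hx
    · have hmem : x⁻¹ * (t : G) * x ∈ Subgroup.normalizer T :=
        (Subgroup.normalizer T).mul_mem ((Subgroup.normalizer T).mul_mem
          ((Subgroup.normalizer T).inv_mem hx) t.2) hx
      rw [extendByZero_mem _ _ hmem]
      have := hψ t (⟨x, hx⟩⁻¹ : Subgroup.normalizer T)
      rw [inv_inv] at this
      rw [← this]
      rfl
    · by_cases hmem : x⁻¹ * (t : G) * x ∈ Subgroup.normalizer T
      · rw [extendByZero_mem _ _ hmem]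
        apply hψT
        intro hT
        have hx' : x⁻¹ ∉ Subgroup.normalizer T := by
          intro h
          apply hx
          have h2 := (Subgroup.normalizer T).inv_mem h
          rwa [inv_inv] at h2
        have hT' : x⁻¹ * (t : G) * x⁻¹⁻¹ ∈ T := by
          rw [inv_inv]
          exact hT
        have h3 := hTI x⁻¹ hx' (t : G) htT hT'
        exact ht1 (Subtype.ext h3)
      · exact extendByZero_not_mem _ _ hmem
  simp_rw [hterm]
  rw [← Finset.sum_filter, Finset.sum_const, nsmul_eq_mul]
  have hcard : (Finset.univ.filter (fun x : G => x ∈ Subgroup.normalizer T)).card =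
      Nat.card (Subgroup.normalizer T) := by
    rw [Nat.card_eq_fintype_card, Fintype.card_subtype]
  rw [hcard]
  have hN : (Nat.card (Subgroup.normalizer T) : ℂ) ≠ 0 := by
    have : 0 < Nat.card (Subgroup.normalizer T) := Nat.card_pos
    exact_mod_cast this.ne'
  field_simp

/-- Induction from the normalizer of a TI-set is an isometry on functions vanishing off the
TI-set, provided one of them vanishes at the identity. -/
theorem indFun_TI_inner [Fintype G] (T : Set G)
    (hTI : ∀ g : G, g ∉ Subgroup.normalizer T → ∀ t ∈ T, g * t * g⁻¹ ∈ T → t = 1)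
    [Fintype (Subgroup.normalizer T)]
    (ψ θ : Subgroup.normalizer T → ℂ)
    (hθ : Cfsg.IsClassFunction (Subgroup.normalizer T) θ)
    (hψT : ∀ x : Subgroup.normalizer T, (x : G) ∉ T → ψ x = 0)
    (hθT : ∀ x : Subgroup.normalizer T, (x : G) ∉ T → θ x = 0) (hψ1 : ψ 1 = 0) :
    Cfsg.classInner (Cfsg.indFun (Subgroup.normalizer T) ψ)
      (Cfsg.indFun (Subgroup.normalizer T) θ) = Cfsg.classInner ψ θ := by
  rw [frobenius_reciprocity _ _ _ (indFun_isClassFunction _ _)]
  rw [classInner_def, classInner_def]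
  congr 1
  apply Finset.sum_congr rfl
  intro n _
  by_cases hn : (n : G) ∈ T
  · by_cases hn1 : n = 1
    · rw [hn1, hψ1, zero_mul, zero_mul]
    · rw [indFun_TI_apply T hTI θ hθ hθT n hn hn1]
  · rw [hψT n hn, zero_mul, zero_mul]

end Cfsg.Agent.Helper6
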