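import Mathlib
import Cfsg.Prelude.Def_Characters
import Cfsg.Agent.Helper6.ColumnOrth

/-!
# Number of irreducible characters, sum of squares of degrees
-/

set_option autoImplicit false
set_option linter.style.haveILetI false

namespace Cfsg.Agent.Helper6

open Module Representation
open scoped ComplexConjugate

universe u

variable {G : Type u} [Group G]

theorem centralizer_one : Subgroup.centralizer ({1} : Set G) = ⊤ := by
  ext x
  simp [Subgroup.mem_centralizer_iff]

/-- The number of irreducible characters equals the number of conjugacy classes. -/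
theorem card_irr_eq_card_conjClasses [Finite G] :
    Nat.card (Cfsg.IrrCharacter G) = Nat.card (ConjClasses G) := by
  classical
  haveI := Fintype.ofFinite G
  haveI : Finite (Cfsg.IrrCharacter G) := irr_finite
  haveI : Fintype (Cfsg.IrrCharacter G) := Fintype.ofFinite _
  let Φ : (ConjClasses G → ℂ) →ₗ[ℂ] (G → ℂ) := LinearMap.funLeft ℂ ℂ ConjClasses.mk
  have hΦinj : Function.Injective Φ :=
    LinearMap.funLeft_injective_of_surjective _ _ _ ConjClasses.mk_surjective
  have hrange : LinearMap.range Φ =
      Submodule.span ℂ (Set.range (fun χ : Cfsg.IrrCharacter G => (χ : G → ℂ))) := by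
    apply le_antisymm
    · rintro _ ⟨f, rfl⟩
      have hcf : Cfsg.IsClassFunction G (Φ f) := by
        intro g h
        change f (ConjClasses.mk (h * g * h⁻¹)) = f (ConjClasses.mk g)
        congr 1
        rw [ConjClasses.mk_eq_mk_iff_isConj]
        exact (isConj_iff.mpr ⟨h, rfl⟩).symm
      rw [classFunction_expansion (Φ f) hcf]
      apply Submodule.sum_mem
      intro χ _
      apply Submodule.smul_mem
      apply Submodule.subset_span
      exact ⟨χ, rfl⟩
    · rw [Submodule.span_le]
      rintro _ ⟨χ, rfl⟩
      have hcf := IsCharacter.isClassFunction (IsIrrCharacter.isCharacter χ.2)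
      refine ⟨Quotient.lift (χ : G → ℂ) ?_, ?_⟩
      · intro a b hab
        exact IsClassFunction.eq_of_isConj hcf hab
      · ext g
        rfl
  have h1 : finrank ℂ (LinearMap.range Φ) = Fintype.card (ConjClasses G) := by
    rw [LinearMap.finrank_range_of_inj hΦinj, Module.finrank_fintype_fun_eq_card]
  have h2 : finrank ℂ (Submodule.span ℂ
      (Set.range (fun χ : Cfsg.IrrCharacter G => (χ : G → ℂ)))) =
      Fintype.card (Cfsg.IrrCharacter G) :=
    finrank_span_eq_card irr_linearIndependent
  rw [Nat.card_eq_fintype_card, Nat.card_eq_fintype_card, ← h1, ← h2, hrange]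

/-- Sum of squares of the degrees. -/
theorem sum_sq_degrees [Fintype G] [Fintype (Cfsg.IrrCharacter G)] :
    ∑ χ : Cfsg.IrrCharacter G, (χ : G → ℂ) 1 ^ 2 = (Nat.card G : ℂ) := by
  classical
  have h := column_orthogonality_aux (1 : G) (1 : G)
  rw [if_pos (IsConj.refl _), centralizer_one] at h
  rw [Nat.card_congr (Subgroup.topEquiv (G := G)).toEquiv] at h
  rw [← h]
  apply Finset.sum_congr rfl
  intro χ _
  obtain ⟨n, hn⟩ := IsCharacter.apply_one (IsIrrCharacter.isCharacter χ.2)
  rw [hn, Complex.conj_natCast, sq]

/-- Irreducible characters separate conjugacy classes. -/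
theorem isConj_iff_forall_irr [Finite G] (g h : G) :
    IsConj g h ↔ ∀ χ : Cfsg.IrrCharacter G, (χ : G → ℂ) g = (χ : G → ℂ) h := by
  classical
  haveI := Fintype.ofFinite G
  haveI : Finite (Cfsg.IrrCharacter G) := irr_finite
  haveI : Fintype (Cfsg.IrrCharacter G) := Fintype.ofFinite _
  constructor
  · intro hc χ
    exact IsClassFunction.eq_of_isConj
      (IsCharacter.isClassFunction (IsIrrCharacter.isCharacter χ.2)) hc
  · intro hall
    by_contra hc
    have h1 := column_orthogonality_aux g h
    rw [if_neg hc] at h1
    have h2 := column_orthogonality_aux g g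
    rw [if_pos (IsConj.refl _)] at h2
    have : ∑ χ : Cfsg.IrrCharacter G, (χ : G → ℂ) g * conj ((χ : G → ℂ) h) =
        ∑ χ : Cfsg.IrrCharacter G, (χ : G → ℂ) g * conj ((χ : G → ℂ) g) := by
      apply Finset.sum_congr rfl
      intro χ _
      rw [hall χ]
    rw [this, h2] at h1
    have hpos : 0 < Nat.card (Subgroup.centralizer ({g} : Set G)) := Nat.card_pos
    have : (Nat.card (Subgroup.centralizer ({g} : Set G)) : ℂ) ≠ 0 := by
      exact_mod_cast hpos.ne'
    exact this h1

end Cfsg.Agent.Helper6
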