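import Mathlib
import Cfsg.Prelude.Def_Characters
import Cfsg.Agent.Helper6.IndFun2
import Cfsg.Agent.Helper6.IrrCount

/-!
# Inner products of characters are natural numbers; induced characters are characters
-/

set_option autoImplicit false
set_option linter.style.haveILetI false

namespace Cfsg.Agent.Helper6

open Module Representation
open scoped ComplexConjugate

universe u v

variable {G : Type u} [Group G]

/-- Pull back a character along a group homomorphism. -/
theorem IsCharacter.comp_hom {H : Type v} [Group H] (f : H →* G) {χ : G → ℂ}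
    (h : Cfsg.IsCharacter G χ) : Cfsg.IsCharacter H (fun x => χ (f x)) := by
  obtain ⟨n, ρ, rfl⟩ := h
  exact ⟨n, ρ.comp f, rfl⟩

/-- Restriction of a character to a subgroup is a character. -/
theorem IsCharacter.restrict (H : Subgroup G) {χ : G → ℂ}
    (h : Cfsg.IsCharacter G χ) : Cfsg.IsCharacter H (fun x : H => χ x) :=
  IsCharacter.comp_hom H.subtype h

theorem classInner_irr_char_nat [Fintype G] {χ ψ : G → ℂ} (hχ : Cfsg.IsIrrCharacter G χ)
    (hψ : Cfsg.IsCharacter G ψ) : ∃ n : ℕ, Cfsg.classInner χ ψ = n := by
  classical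
  rw [isCharacter_iff_mem_closure] at hψ
  induction hψ using AddSubmonoid.closure_induction with
  | mem x hx =>
    by_cases h : χ = x
    · subst h
      exact ⟨1, by rw [classInner_irr_self hχ, Nat.cast_one]⟩
    · exact ⟨0, by rw [classInner_irr_ne hχ hx h, Nat.cast_zero]⟩
  | zero => exact ⟨0, by rw [classInner_zero_right, Nat.cast_zero]⟩
  | add x y _ _ hx hy =>
    obtain ⟨a, ha⟩ := hx
    obtain ⟨b, hb⟩ := hy
    exact ⟨a + b, by rw [classInner_add_right, ha, hb, Nat.cast_add]⟩

/-- The inner product of two characters is a natural number. -/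
theorem classInner_char_char_nat [Fintype G] {χ ψ : G → ℂ} (hχ : Cfsg.IsCharacter G χ)
    (hψ : Cfsg.IsCharacter G ψ) : ∃ n : ℕ, Cfsg.classInner χ ψ = n := by
  classical
  rw [isCharacter_iff_mem_closure] at hχ
  induction hχ using AddSubmonoid.closure_induction with
  | mem x hx => exact classInner_irr_char_nat hx hψ
  | zero => exact ⟨0, by rw [classInner_zero_left, Nat.cast_zero]⟩
  | add x y _ _ hx hy =>
    obtain ⟨a, ha⟩ := hx
    obtain ⟨b, hb⟩ := hy
    exact ⟨a + b, by rw [classInner_add_left, ha, hb, Nat.cast_add]⟩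

/-- A class function all of whose inner products with irreducible characters are natural
numbers is a character. -/
theorem isCharacter_of_classInner_nat [Fintype G] {φ : G → ℂ} (hφ : Cfsg.IsClassFunction G φ)
    (h : ∀ χ : G → ℂ, Cfsg.IsIrrCharacter G χ → ∃ n : ℕ, Cfsg.classInner φ χ = n) :
    Cfsg.IsCharacter G φ := by
  classical
  haveI : Finite (Cfsg.IrrCharacter G) := irr_finite
  haveI : Fintype (Cfsg.IrrCharacter G) := Fintype.ofFinite _
  rw [isCharacter_iff_mem_closure, classFunction_expansion φ hφ]
  apply AddSubmonoid.sum_mem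
  intro χ _
  obtain ⟨n, hn⟩ := h χ χ.2
  rw [hn, Nat.cast_smul_eq_nsmul]
  apply AddSubmonoid.nsmul_mem
  exact AddSubmonoid.subset_closure χ.2

/-- Inducing a character gives a character. -/
theorem isCharacter_indFun [Fintype G] (H : Subgroup G) (θ : H → ℂ)
    (hθ : Cfsg.IsCharacter H θ) : Cfsg.IsCharacter G (Cfsg.indFun H θ) := by
  classical
  haveI : Fintype H := Fintype.ofFinite H
  apply isCharacter_of_classInner_nat (indFun_isClassFunction H θ)
  intro χ hχ
  rw [frobenius_reciprocity H θ χ
    (IsCharacter.isClassFunction (IsIrrCharacter.isCharacter hχ))]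
  exact classInner_char_char_nat hθ (IsCharacter.restrict H (IsIrrCharacter.isCharacter hχ))

end Cfsg.Agent.Helper6
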