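import Mathlib
import Cfsg.Prelude.Def_Characters
import Cfsg.Agent.Helper6.Induced

/-!
# Irreducibility criterion, constituents
-/

set_option autoImplicit false
set_option linter.style.haveILetI false

namespace Cfsg.Agent.Helper6

open Module Representation
open scoped ComplexConjugate

universe u v

variable {G : Type u} [Group G]

/-- Norm-square of a class function in terms of its coefficients. -/
theorem classInner_self_expansion [Fintype G] [Fintype (Cfsg.IrrCharacter G)] (ψ : G → ℂ)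
    (hψ : Cfsg.IsClassFunction G ψ) (φ : G → ℂ) :
    Cfsg.classInner ψ φ =
      ∑ χ : Cfsg.IrrCharacter G, Cfsg.classInner ψ (χ : G → ℂ) * Cfsg.classInner (χ : G → ℂ) φ := by
  conv_lhs => rw [classFunction_expansion ψ hψ]
  rw [classInner_sum_left]
  apply Finset.sum_congr rfl
  intro χ _
  rw [classInner_smul_left]

/-- A character of norm one is irreducible. -/
theorem isIrrCharacter_of_classInner_self [Fintype G] {ψ : G → ℂ} (hψ : Cfsg.IsCharacter G ψ)
    (h1 : Cfsg.classInner ψ ψ = 1) : Cfsg.IsIrrCharacter G ψ := by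
  classical
  haveI : Finite (Cfsg.IrrCharacter G) := irr_finite
  haveI : Fintype (Cfsg.IrrCharacter G) := Fintype.ofFinite _
  have hcf := IsCharacter.isClassFunction hψ
  -- coefficients
  have hn : ∀ χ : Cfsg.IrrCharacter G, ∃ n : ℕ, Cfsg.classInner ψ (χ : G → ℂ) = n := fun χ =>
    classInner_char_char_nat hψ (IsIrrCharacter.isCharacter χ.2)
  choose n hn using hn
  have hn' : ∀ χ : Cfsg.IrrCharacter G, Cfsg.classInner (χ : G → ℂ) ψ = n χ := by
    intro χ
    rw [classInner_conj_symm, hn, Complex.conj_natCast]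
  have hsum : ((∑ χ : Cfsg.IrrCharacter G, n χ * n χ : ℕ) : ℂ) = 1 := by
    rw [← h1, classInner_self_expansion ψ hcf ψ]
    push_cast
    apply Finset.sum_congr rfl
    intro χ _
    rw [hn, hn']
  have hsumN : ∑ χ : Cfsg.IrrCharacter G, n χ * n χ = 1 := by exact_mod_cast hsum
  -- exactly one coefficient is nonzero, and it equals 1
  have hex : ∃ χ₀ : Cfsg.IrrCharacter G, n χ₀ ≠ 0 := by
    by_contra hcon
    push Not at hcon
    simp [hcon] at hsumN
  obtain ⟨χ₀, hχ₀⟩ := hex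
  have hsplit := Finset.add_sum_erase Finset.univ (fun χ => n χ * n χ) (Finset.mem_univ χ₀)
  rw [hsumN] at hsplit
  have hpos : 1 ≤ n χ₀ * n χ₀ := Nat.mul_pos (Nat.pos_of_ne_zero hχ₀) (Nat.pos_of_ne_zero hχ₀)
  have hrest : ∑ χ ∈ Finset.univ.erase χ₀, n χ * n χ = 0 := by omega
  have hone : n χ₀ * n χ₀ = 1 := by omega
  have hχ₀1 : n χ₀ = 1 := by
    exact Nat.eq_one_of_mul_eq_one_right hone
  have hothers : ∀ χ : Cfsg.IrrCharacter G, χ ≠ χ₀ → n χ = 0 := by
    intro χ hne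
    have := (Finset.sum_eq_zero_iff.mp hrest) χ (Finset.mem_erase.mpr ⟨hne, Finset.mem_univ _⟩)
    rcases Nat.mul_eq_zero.mp this with h | h <;> exact h
  have : ψ = (χ₀ : G → ℂ) := by
    rw [classFunction_expansion ψ hcf, Finset.sum_eq_single χ₀]
    · rw [hn, hχ₀1, Nat.cast_one, one_smul]
    · intro χ _ hne
      rw [hn, hothers χ hne, Nat.cast_zero, zero_smul]
    · intro h
      exact absurd (Finset.mem_univ _) h
  rw [this]
  exact χ₀.2

theorem isIrrCharacter_iff_classInner_self [Fintype G] {ψ : G → ℂ} :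
    Cfsg.IsIrrCharacter G ψ ↔ Cfsg.IsCharacter G ψ ∧ Cfsg.classInner ψ ψ = 1 :=
  ⟨fun h => ⟨IsIrrCharacter.isCharacter h, classInner_irr_self h⟩,
    fun h => isIrrCharacter_of_classInner_self h.1 h.2⟩

/-- Degree of a constituent is at most the degree of the character. -/
theorem degree_le_of_classInner_ne_zero [Fintype G] {ψ χ : G → ℂ} (hψ : Cfsg.IsCharacter G ψ)
    (hχ : Cfsg.IsIrrCharacter G χ) (hne : Cfsg.classInner ψ χ ≠ 0) :
    ∃ a b : ℕ, χ 1 = a ∧ ψ 1 = b ∧ a ≤ b := by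
  classical
  haveI : Finite (Cfsg.IrrCharacter G) := irr_finite
  haveI : Fintype (Cfsg.IrrCharacter G) := Fintype.ofFinite _
  have hcf := IsCharacter.isClassFunction hψ
  have hn : ∀ θ : Cfsg.IrrCharacter G, ∃ n : ℕ, Cfsg.classInner ψ (θ : G → ℂ) = n := fun θ =>
    classInner_char_char_nat hψ (IsIrrCharacter.isCharacter θ.2)
  choose n hn using hn
  have hd : ∀ θ : Cfsg.IrrCharacter G, ∃ d : ℕ, (θ : G → ℂ) 1 = d := fun θ =>
    IsCharacter.apply_one (IsIrrCharacter.isCharacter θ.2)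
  choose d hd using hd
  have hψ1 : ψ 1 = ((∑ θ : Cfsg.IrrCharacter G, n θ * d θ : ℕ) : ℂ) := by
    conv_lhs => rw [classFunction_expansion ψ hcf]
    rw [Finset.sum_apply]
    push_cast
    apply Finset.sum_congr rfl
    intro θ _
    rw [Pi.smul_apply, smul_eq_mul, hn, hd]
  refine ⟨d ⟨χ, hχ⟩, ∑ θ : Cfsg.IrrCharacter G, n θ * d θ, hd ⟨χ, hχ⟩, hψ1, ?_⟩
  have hnχ : n ⟨χ, hχ⟩ ≠ 0 := by
    intro h0
    apply hne
    have := hn ⟨χ, hχ⟩
    rw [h0, Nat.cast_zero] at this
    exact this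
  calc d ⟨χ, hχ⟩ ≤ n ⟨χ, hχ⟩ * d ⟨χ, hχ⟩ := Nat.le_mul_of_pos_left _ (Nat.pos_of_ne_zero hnχ)
    _ ≤ ∑ θ : Cfsg.IrrCharacter G, n θ * d θ :=
      Finset.single_le_sum (f := fun θ => n θ * d θ) (fun _ _ => Nat.zero_le _)
        (Finset.mem_univ _)

end Cfsg.Agent.Helper6
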