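import Mathlib
import Cfsg.Prelude.Def_Characters
import Cfsg.Agent.Helper6.IrrCrit

/-!
# Brauer's permutation lemma (counting version)
-/

set_option autoImplicit false
set_option linter.style.haveILetI false

namespace Cfsg.Agent.Helper6

open Module Representation
open scoped ComplexConjugate

universe u v

variable {G : Type u} [Group G]

theorem classInner_comp_equiv [Fintype G] (τ : G ≃ G) (φ ψ : G → ℂ) :
    Cfsg.classInner (φ ∘ τ) (ψ ∘ τ) = Cfsg.classInner φ ψ := by
  rw [classInner_def, classInner_def]
  congr 1
  exact Equiv.sum_comp τ (fun g => φ g * conj (ψ g))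

/-- Sum over the group of a class function weighted by inverse class sizes is the sum over
classes. -/
theorem sum_div_card_class [Fintype G] [DecidableEq G] [Fintype (ConjClasses G)]
    [DecidableEq (ConjClasses G)] (f : ConjClasses G → ℂ) :
    ∑ g : G, f (ConjClasses.mk g) *
      ((Nat.card (Subgroup.centralizer ({g} : Set G)) : ℂ) / (Nat.card G : ℂ)) =
    ∑ C : ConjClasses G, f C := by
  classical
  have hcl : ∀ g : G, ((Nat.card (Subgroup.centralizer ({g} : Set G)) : ℂ) / (Nat.card G : ℂ)) =
      ((Finset.univ.filter (fun x : G => ConjClasses.mk x = ConjClasses.mk g)).card : ℂ)⁻¹ := by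
    intro g
    have h1 := card_conj_mul_card_centralizer g
    have h2 : Nat.card {x : G // IsConj g x} =
        (Finset.univ.filter (fun x : G => ConjClasses.mk x = ConjClasses.mk g)).card := by
      rw [Nat.card_eq_fintype_card, Fintype.card_subtype]
      congr 1
      ext x
      simp only [Finset.mem_filter, Finset.mem_univ, true_and]
      rw [ConjClasses.mk_eq_mk_iff_isConj]
      exact ⟨fun h => h.symm, fun h => h.symm⟩
    rw [← h2, ← h1]
    have hpos1 : (Nat.card {x : G // IsConj g x} : ℂ) ≠ 0 := by
      haveI : Nonempty {x : G // IsConj g x} := ⟨⟨g, IsConj.refl g⟩⟩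
      have : 0 < Nat.card {x : G // IsConj g x} := Nat.card_pos
      exact_mod_cast this.ne'
    have hpos2 : (Nat.card (Subgroup.centralizer ({g} : Set G)) : ℂ) ≠ 0 := by
      have : 0 < Nat.card (Subgroup.centralizer ({g} : Set G)) := Nat.card_pos
      exact_mod_cast this.ne'
    push_cast
    field_simp
  simp_rw [hcl]
  have hcomp := Finset.sum_comp (s := (Finset.univ : Finset G))
    (fun C : ConjClasses G => f C *
      ((Finset.univ.filter (fun x : G => ConjClasses.mk x = C)).card : ℂ)⁻¹)
    (fun g : G => ConjClasses.mk g)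
  rw [hcomp]
  have himage : (Finset.univ : Finset G).image (fun g : G => ConjClasses.mk g) = Finset.univ := by
    rw [Finset.eq_univ_iff_forall]
    intro C
    obtain ⟨g, hg⟩ := ConjClasses.mk_surjective C
    exact Finset.mem_image.mpr ⟨g, Finset.mem_univ _, hg⟩
  rw [himage]
  apply Finset.sum_congr rfl
  intro C _
  obtain ⟨g, hg⟩ := ConjClasses.mk_surjective C
  have hne : ((Finset.univ.filter (fun x : G => ConjClasses.mk x = C)).card : ℂ) ≠ 0 := by
    have : 0 < (Finset.univ.filter (fun x : G => ConjClasses.mk x = C)).card := by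
      rw [Finset.card_pos]
      exact ⟨g, by simp [hg]⟩
    exact_mod_cast this.ne'
  rw [nsmul_eq_mul]
  field_simp

/-- Brauer's permutation lemma, counting form: if `τ : G ≃ G` preserves conjugacy and
composition with `τ` preserves irreducible characters, then the number of irreducible characters
fixed by `τ` equals the number of conjugacy classes fixed by `τ`. -/
theorem brauer_permutation_count [Finite G] (τ : G ≃ G)
    (hτirr : ∀ χ : G → ℂ, Cfsg.IsIrrCharacter G χ → Cfsg.IsIrrCharacter G (χ ∘ τ))
    (hτconj : ∀ a b : G, IsConj a b → IsConj (τ a) (τ b)) :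
    Nat.card {χ : Cfsg.IrrCharacter G // (χ : G → ℂ) ∘ τ = (χ : G → ℂ)} =
      Nat.card {C : ConjClasses G // ∀ g : G, ConjClasses.mk g = C → IsConj (τ g) g} := by
  classical
  haveI := Fintype.ofFinite G
  haveI : Finite (Cfsg.IrrCharacter G) := irr_finite
  haveI : Fintype (Cfsg.IrrCharacter G) := Fintype.ofFinite _
  -- character side
  have hchar : ∑ χ : Cfsg.IrrCharacter G, Cfsg.classInner ((χ : G → ℂ) ∘ τ) (χ : G → ℂ) =
      (Nat.card {χ : Cfsg.IrrCharacter G // (χ : G → ℂ) ∘ τ = (χ : G → ℂ)} : ℂ) := by
    have : ∀ χ : Cfsg.IrrCharacter G, Cfsg.classInner ((χ : G → ℂ) ∘ τ) (χ : G → ℂ) =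
        if (χ : G → ℂ) ∘ τ = (χ : G → ℂ) then 1 else 0 := by
      intro χ
      split_ifs with h
      · rw [h, classInner_irr_self χ.2]
      · exact classInner_irr_ne (hτirr _ χ.2) χ.2 h
    simp_rw [this]
    rw [Finset.sum_boole, Nat.card_eq_fintype_card, Fintype.card_subtype]
  -- class side
  let F : ConjClasses G → ℂ := fun C =>
    if ∀ g : G, ConjClasses.mk g = C → IsConj (τ g) g then 1 else 0
  have hF : ∀ g : G, F (ConjClasses.mk g) = if IsConj (τ g) g then 1 else 0 := by
    intro g
    have hiff : (∀ g' : G, ConjClasses.mk g' = ConjClasses.mk g → IsConj (τ g') g') ↔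
        IsConj (τ g) g := by
      constructor
      · intro h
        exact h g rfl
      · intro h g' hg'
        rw [ConjClasses.mk_eq_mk_iff_isConj] at hg'
        exact ((hτconj _ _ hg').trans h).trans hg'.symm
    simp only [F, hiff]
  have hclass : ∑ χ : Cfsg.IrrCharacter G, Cfsg.classInner ((χ : G → ℂ) ∘ τ) (χ : G → ℂ) =
      ∑ C : ConjClasses G, F C := by
    rw [← sum_div_card_class F]
    simp_rw [classInner_def, ← Finset.mul_sum]
    rw [Finset.sum_comm, Finset.mul_sum]
    apply Finset.sum_congr rfl
    intro g _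
    simp only [Function.comp_apply]
    have hco := column_orthogonality_aux g (τ g)
    have hco2 : ∑ χ : Cfsg.IrrCharacter G, (χ : G → ℂ) (τ g) * conj ((χ : G → ℂ) g) =
        if IsConj g (τ g) then (Nat.card (Subgroup.centralizer ({g} : Set G)) : ℂ) else 0 := by
      have := congrArg conj hco
      rw [map_sum] at this
      simp only [map_mul, Complex.conj_conj] at this
      rw [apply_ite conj, Complex.conj_natCast, map_zero] at this
      rw [← this]
      apply Finset.sum_congr rfl
      intro χ _
      ring
    rw [hco2, hF]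
    by_cases h : IsConj (τ g) g
    · rw [if_pos h, if_pos h.symm]
      ring
    · rw [if_neg h, if_neg (fun h' => h h'.symm)]
      ring
  have hfin : ∑ C : ConjClasses G, F C =
      (Nat.card {C : ConjClasses G // ∀ g : G, ConjClasses.mk g = C → IsConj (τ g) g} : ℂ) := by
    simp only [F]
    rw [Finset.sum_boole, Nat.card_eq_fintype_card, Fintype.card_subtype]
  have := hchar.symm.trans (hclass.trans hfin)
  exact_mod_cast this

end Cfsg.Agent.Helper6
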