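import Mathlib
import Cfsg.Prelude.Def_Characters
import Cfsg.Agent.Helper6.BrauerPerm

/-!
# Applications of Brauer's permutation lemma: automorphisms, real characters
-/

set_option autoImplicit false
set_option linter.style.haveILetI false

namespace Cfsg.Agent.Helper6

open Module Representation
open scoped ComplexConjugate

universe u v

variable {G : Type u} [Group G]

/-- Composition with a group isomorphism preserves irreducible characters. -/
theorem IsIrrCharacter.comp_mulEquiv [Finite G] {H : Type v} [Group H] [Finite H] (α : H ≃* G)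
    {χ : G → ℂ} (hχ : Cfsg.IsIrrCharacter G χ) : Cfsg.IsIrrCharacter H (χ ∘ α) := by
  classical
  haveI := Fintype.ofFinite G
  haveI := Fintype.ofFinite H
  apply isIrrCharacter_of_classInner_self
  · exact IsCharacter.comp_hom α.toMonoidHom (IsIrrCharacter.isCharacter hχ)
  · rw [← classInner_irr_self hχ, classInner_def, classInner_def]
    rw [Nat.card_congr α.toEquiv]
    congr 1
    exact Equiv.sum_comp α.toEquiv (fun g => χ g * conj (χ g))

theorem IsCharacter.comp_inv {χ : G → ℂ} (hχ : Cfsg.IsCharacter G χ) :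
    Cfsg.IsCharacter G (fun g => χ g⁻¹) := by
  obtain ⟨n, ρ, rfl⟩ := hχ
  have : (fun g => ρ.character g⁻¹) = ρ.dual.character := by
    ext g
    rw [char_dual]
  rw [this]
  exact isCharacter_of_rep _

theorem IsIrrCharacter.comp_inv [Finite G] {χ : G → ℂ} (hχ : Cfsg.IsIrrCharacter G χ) :
    Cfsg.IsIrrCharacter G (χ ∘ (Equiv.inv G)) := by
  classical
  haveI := Fintype.ofFinite G
  apply isIrrCharacter_of_classInner_self
  · exact IsCharacter.comp_inv (IsIrrCharacter.isCharacter hχ)
  · rw [classInner_comp_equiv, classInner_irr_self hχ]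

/-- Brauer's permutation lemma for an automorphism. -/
theorem card_fixed_classes_eq_card_fixed_irr [Finite G] (α : G ≃* G) :
    Nat.card {C : ConjClasses G // ConjClasses.map α.toMonoidHom C = C} =
      Nat.card {χ : Cfsg.IrrCharacter G // (χ : G → ℂ) ∘ α = (χ : G → ℂ)} := by
  have h := brauer_permutation_count α.toEquiv
    (fun χ hχ => IsIrrCharacter.comp_mulEquiv α hχ)
    (fun a b hab => by
      obtain ⟨c, hc⟩ := isConj_iff.mp hab
      refine isConj_iff.mpr ⟨α c, ?_⟩
      change α c * α a * (α c)⁻¹ = α b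
      rw [← map_inv, ← map_mul, ← map_mul, hc])
  rw [show (fun χ : Cfsg.IrrCharacter G => (χ : G → ℂ) ∘ α.toEquiv = (χ : G → ℂ)) =
    (fun χ : Cfsg.IrrCharacter G => (χ : G → ℂ) ∘ α = (χ : G → ℂ)) from rfl] at h
  rw [h]
  apply Nat.card_congr
  refine Equiv.subtypeEquivRight ?_
  intro C
  obtain ⟨g, rfl⟩ := ConjClasses.mk_surjective C
  constructor
  · intro h g' hg'
    rw [← hg'] at h
    have : ConjClasses.mk (α g') = ConjClasses.mk g' := h
    exact ConjClasses.mk_eq_mk_iff_isConj.mp this
  · intro h
    have := h g rfl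
    exact ConjClasses.mk_eq_mk_iff_isConj.mpr this

/-- The number of real-valued irreducible characters equals the number of real classes. -/
theorem card_real_irr_eq_card_real_classes [Finite G] :
    Nat.card {χ : Cfsg.IrrCharacter G // ∀ g : G, ((χ : G → ℂ) g).im = 0} =
      Nat.card {C : ConjClasses G // ∀ g : G, ConjClasses.mk g = C → IsConj g g⁻¹} := by
  have h := brauer_permutation_count (Equiv.inv G)
    (fun χ hχ => IsIrrCharacter.comp_inv hχ)
    (fun a b hab => by
      obtain ⟨c, hc⟩ := isConj_iff.mp hab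
      refine isConj_iff.mpr ⟨c, ?_⟩
      change c * a⁻¹ * c⁻¹ = b⁻¹
      rw [← hc]
      group)
  have h1 : Nat.card {χ : Cfsg.IrrCharacter G // ∀ g : G, ((χ : G → ℂ) g).im = 0} =
      Nat.card {χ : Cfsg.IrrCharacter G // (χ : G → ℂ) ∘ (Equiv.inv G) = (χ : G → ℂ)} := by
    apply Nat.card_congr
    refine Equiv.subtypeEquivRight ?_
    intro χ
    have hinv : ∀ g : G, (χ : G → ℂ) g⁻¹ = conj ((χ : G → ℂ) g) :=
      IsCharacter.inv_eq_conj (IsIrrCharacter.isCharacter χ.2)
    constructor
    · intro him
      ext g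
      change (χ : G → ℂ) g⁻¹ = _
      rw [hinv]
      exact Complex.conj_eq_iff_im.mpr (him g)
    · intro hfix g
      have := congrFun hfix g
      change (χ : G → ℂ) g⁻¹ = _ at this
      rw [hinv] at this
      exact Complex.conj_eq_iff_im.mp this
  rw [h1, h]
  apply Nat.card_congr
  refine Equiv.subtypeEquivRight ?_
  intro C
  constructor
  · intro h g hg
    exact (h g hg).symm
  · intro h g hg
    exact (h g hg).symm

end Cfsg.Agent.Helper6
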