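import Mathlib
import Cfsg.Prelude.Def_Characters
import Cfsg.Agent.Helper6.IrrCount

/-!
# Permutation characters and the regular character
-/

set_option autoImplicit false
set_option linter.style.haveILetI false

namespace Cfsg.Agent.Helper6

open Module Representation
open scoped ComplexConjugate

universe u

variable {G : Type u} [Group G]

/-- The character of a permutation representation counts fixed points. -/
theorem ofMulAction_character (X : Type*) [MulAction G X] [Fintype X] [DecidableEq X] (g : G) :
    (Representation.ofMulAction ℂ G X).character g = (Fintype.card {x : X // g • x = x} : ℂ) := by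
  unfold Representation.character
  rw [LinearMap.trace_eq_matrix_trace ℂ (MonoidAlgebra.basis X ℂ)]
  unfold Matrix.trace
  simp only [Matrix.diag_apply, LinearMap.toMatrix_apply, MonoidAlgebra.basis_apply,
    Representation.ofMulAction_single]
  have : ∀ x : X, ((MonoidAlgebra.basis X ℂ).repr (MonoidAlgebra.single (g • x) (1:ℂ))) x =
      if g • x = x then 1 else 0 := by
    intro x
    change (MonoidAlgebra.single (g • x) (1:ℂ)).coeff x = _
    rw [MonoidAlgebra.coeff_single, Finsupp.single_apply]
  simp_rw [this]
  rw [Finset.sum_boole, Fintype.card_subtype]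

/-- The regular character. -/
theorem leftRegular_character [Fintype G] [DecidableEq G] (g : G) :
    (Representation.leftRegular ℂ G).character g = if g = 1 then (Nat.card G : ℂ) else 0 := by
  rw [ofMulAction_character]
  split_ifs with h
  · subst h
    rw [Nat.card_eq_fintype_card]
    congr 1
    apply Fintype.card_congr
    exact Equiv.subtypeUnivEquiv (fun x => by simp)
  · have : IsEmpty {x : G // g • x = x} := by
      constructor
      rintro ⟨x, hx⟩
      apply h
      rw [smul_eq_mul] at hx
      exact mul_eq_right.mp hx
    rw [Fintype.card_eq_zero, Nat.cast_zero]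

/-- The "column orthogonality" against the identity: `∑ χ(1) χ(g)`. -/
theorem sum_degree_mul_irr [Fintype G] [Fintype (Cfsg.IrrCharacter G)] [DecidableEq G] (g : G) :
    ∑ χ : Cfsg.IrrCharacter G, (χ : G → ℂ) 1 * (χ : G → ℂ) g =
      if g = 1 then (Nat.card G : ℂ) else 0 := by
  classical
  have h := column_orthogonality_aux g (1 : G)
  have hterm : ∀ χ : Cfsg.IrrCharacter G, (χ : G → ℂ) g * conj ((χ : G → ℂ) 1) =
      (χ : G → ℂ) 1 * (χ : G → ℂ) g := by
    intro χ
    obtain ⟨n, hn⟩ := IsCharacter.apply_one (IsIrrCharacter.isCharacter χ.2)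
    rw [hn, Complex.conj_natCast, mul_comm]
  simp_rw [hterm] at h
  rw [h]
  have hiff : IsConj g 1 ↔ g = 1 := by
    constructor
    · intro hc
      exact isConj_one_left.mp hc
    · rintro rfl
      exact IsConj.refl _
  by_cases hg : g = 1
  · subst hg
    rw [if_pos (IsConj.refl _), if_pos rfl, centralizer_one,
      Nat.card_congr (Subgroup.topEquiv (G := G)).toEquiv]
  · rw [if_neg hg, if_neg (fun hc => hg (hiff.mp hc))]

/-- The regular character is `∑ χ(1) χ`. -/
theorem leftRegular_character_eq_sum [Fintype G] [Fintype (Cfsg.IrrCharacter G)] :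
    (Representation.leftRegular ℂ G).character =
      ∑ χ : Cfsg.IrrCharacter G, (χ : G → ℂ) 1 • (χ : G → ℂ) := by
  classical
  ext g
  rw [leftRegular_character, Finset.sum_apply]
  simp only [Pi.smul_apply, smul_eq_mul]
  rw [sum_degree_mul_irr]

end Cfsg.Agent.Helper6
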