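import Mathlib
import Cfsg.Prelude.Def_Characters
import Cfsg.Agent.Helper6.Regular

/-!
# Linear characters, abelian groups
-/

set_option autoImplicit false
set_option linter.style.haveILetI false

namespace Cfsg.Agent.Helper6

open Module Representation
open scoped ComplexConjugate

universe u

variable {G : Type u} [Group G]

/-- A one-dimensional representation is irreducible. -/
theorem isIrreducible_of_finrank_eq_one {V : Type*} [AddCommGroup V] [Module ℂ V]
    (ρ : Representation ℂ G V) (h : finrank ℂ V = 1) : ρ.IsIrreducible := by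
  haveI : IsSimpleModule ℂ V := isSimpleModule_iff_finrank_eq_one.mpr h
  refine { exists_pair_ne := ⟨⊥, ⊤, ?_⟩, eq_bot_or_eq_top := ?_ }
  · intro hbt
    have h1 : (⊥ : Submodule ℂ V) = ⊤ := congrArg Subrepresentation.toSubmodule hbt
    exact bot_ne_top h1
  · intro σ
    rcases eq_bot_or_eq_top σ.toSubmodule with h | h
    · left; exact Subrepresentation.toSubmodule_injective h
    · right; exact Subrepresentation.toSubmodule_injective h

/-- The representation on `Fin 1 → ℂ` attached to a homomorphism `G →* ℂˣ`. -/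
noncomputable def linRep (lam : G →* ℂˣ) : Representation ℂ G (Fin 1 → ℂ) where
  toFun g := ((lam g : ℂˣ) : ℂ) • LinearMap.id
  map_one' := by simp; rfl
  map_mul' g h := by
    ext v i
    simp only [map_mul, Units.val_mul, LinearMap.smul_apply, LinearMap.id_coe, id_eq,
      Module.End.mul_apply, LinearMap.coe_comp, Function.comp_apply, LinearMap.coe_single,
      Pi.smul_apply, smul_eq_mul]
    ring

theorem linRep_character (lam : G →* ℂˣ) :
    (linRep lam).character = fun g => ((lam g : ℂˣ) : ℂ) := by
  ext g
  unfold Representation.character linRep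
  simp

theorem isIrrCharacter_of_hom (lam : G →* ℂˣ) :
    Cfsg.IsIrrCharacter G (fun g => ((lam g : ℂˣ) : ℂ)) := by
  refine ⟨1, linRep lam, ?_, linRep_character lam⟩
  apply isIrreducible_of_finrank_eq_one
  simp

theorem trace_fin_one_mul (f g : (Fin 1 → ℂ) →ₗ[ℂ] (Fin 1 → ℂ)) :
    LinearMap.trace ℂ _ (f * g) = LinearMap.trace ℂ _ f * LinearMap.trace ℂ _ g := by
  rw [LinearMap.trace_eq_matrix_trace ℂ (Pi.basisFun ℂ (Fin 1)),
    LinearMap.trace_eq_matrix_trace ℂ (Pi.basisFun ℂ (Fin 1)),
    LinearMap.trace_eq_matrix_trace ℂ (Pi.basisFun ℂ (Fin 1)),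
    LinearMap.toMatrix_mul]
  simp [Matrix.trace_fin_one, Matrix.mul_apply]

/-- The character of a one-dimensional representation as a monoid hom. -/
noncomputable def charHom (ρ : Representation ℂ G (Fin 1 → ℂ)) : G →* ℂ where
  toFun g := ρ.character g
  map_one' := by
    unfold Representation.character
    rw [map_one]
    simp
  map_mul' g h := by
    unfold Representation.character
    rw [map_mul, trace_fin_one_mul]

/-- An irreducible character of degree one comes from a homomorphism to `ℂˣ`. -/
theorem exists_hom_of_irr_degree_one {χ : G → ℂ} (hχ : Cfsg.IsIrrCharacter G χ)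
    (h1 : χ 1 = 1) : ∃ lam : G →* ℂˣ, χ = fun g => ((lam g : ℂˣ) : ℂ) := by
  obtain ⟨n, ρ, hirr, hρ⟩ := hχ
  have hn : n = 1 := by
    have : ρ.character 1 = (finrank ℂ (Fin n → ℂ) : ℂ) := Representation.char_one ρ
    rw [hρ, h1] at this
    simp at this
    exact_mod_cast this.symm
  subst hn
  refine ⟨(charHom ρ).toHomUnits, ?_⟩
  ext g
  rw [← hρ]
  rfl

/-- Linear characters are in bijection with homomorphisms to `ℂˣ`. -/
noncomputable def homEquivLinearIrr :
    (G →* ℂˣ) ≃ {χ : Cfsg.IrrCharacter G // (χ : G → ℂ) 1 = 1} :=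
  Equiv.ofBijective
    (fun lam => ⟨⟨fun g => ((lam g : ℂˣ) : ℂ), isIrrCharacter_of_hom lam⟩, by simp⟩)
    (by
      constructor
      · intro lam mu h
        have h' : (fun g => ((lam g : ℂˣ) : ℂ)) = (fun g => ((mu g : ℂˣ) : ℂ)) := by
          have := congrArg (fun x => ((x : {χ : Cfsg.IrrCharacter G // (χ : G → ℂ) 1 = 1}) :
            Cfsg.IrrCharacter G).1) h
          exact this
        ext g
        exact congrFun h' g
      · rintro ⟨⟨χ, hχ⟩, h1⟩
        obtain ⟨lam, hlam⟩ := exists_hom_of_irr_degree_one hχ h1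
        refine ⟨lam, ?_⟩
        apply Subtype.ext
        apply Subtype.ext
        exact hlam.symm)

theorem card_hom_units [Finite G] : Nat.card (G →* ℂˣ) = (commutator G).index := by
  rw [Nat.card_congr (Abelianization.lift (G := G) (A := ℂˣ))]
  haveI : NeZero ((Monoid.exponent (Abelianization G) : ℕ) : ℂ) := by
    constructor
    have : Monoid.exponent (Abelianization G) ≠ 0 := Monoid.exponent_ne_zero_of_finite
    exact_mod_cast this
  rw [CommGroup.card_monoidHom_of_hasEnoughRootsOfUnity (Abelianization G) ℂ]
  rfl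

/-- The number of linear characters is the index of the commutator subgroup. -/
theorem card_linear_irr [Finite G] :
    Nat.card {χ : Cfsg.IrrCharacter G // (χ : G → ℂ) 1 = 1} = (commutator G).index := by
  rw [← Nat.card_congr (homEquivLinearIrr (G := G)), card_hom_units]

/-- A finite group is abelian iff every irreducible character has degree one. -/
theorem comm_iff_forall_irr_degree_one [Finite G] :
    (∀ a b : G, a * b = b * a) ↔ ∀ χ : Cfsg.IrrCharacter G, (χ : G → ℂ) 1 = 1 := by
  classical
  haveI := Fintype.ofFinite G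
  haveI : Finite (Cfsg.IrrCharacter G) := irr_finite
  haveI : Fintype (Cfsg.IrrCharacter G) := Fintype.ofFinite _
  constructor
  · intro hcomm χ
    obtain ⟨n, ρ, hirr, hρ⟩ := χ.2
    haveI : IsMulCommutative G := ⟨⟨hcomm⟩⟩
    have h1 : finrank ℂ (Fin n → ℂ) = 1 :=
      Representation.IsIrreducible.finrank_eq_one_of_isMulCommutative ρ
    have : ρ.character 1 = (finrank ℂ (Fin n → ℂ) : ℂ) := Representation.char_one ρ
    rw [← hρ, this, h1, Nat.cast_one]
  · intro hall
    have hsum := sum_sq_degrees (G := G)
    have h2 : ∑ χ : Cfsg.IrrCharacter G, (χ : G → ℂ) 1 ^ 2 =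
        (Fintype.card (Cfsg.IrrCharacter G) : ℂ) := by
      rw [Finset.sum_congr rfl (fun χ _ => by rw [hall χ, one_pow])]
      simp
    rw [h2] at hsum
    have hcard : Nat.card (ConjClasses G) = Nat.card G := by
      rw [← card_irr_eq_card_conjClasses, Nat.card_eq_fintype_card]
      exact_mod_cast hsum
    have hbij : Function.Bijective (ConjClasses.mk : G → ConjClasses G) := by
      rw [Nat.bijective_iff_surjective_and_card]
      exact ⟨ConjClasses.mk_surjective, hcard.symm⟩
    intro a b
    have : ConjClasses.mk (a * b * a⁻¹) = ConjClasses.mk b := by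
      rw [ConjClasses.mk_eq_mk_iff_isConj]
      exact (isConj_iff.mpr ⟨a, rfl⟩).symm
    have h3 := hbij.1 this
    calc a * b = a * b * a⁻¹ * a := by group
      _ = b * a := by rw [h3]

end Cfsg.Agent.Helper6
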