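import Mathlib
import Cfsg.Prelude.Def_Characters
import Cfsg.Agent.Helper6.BrauerPerm2
import Cfsg.Agent.Helper6.Linear

/-!
# Real characters of groups of odd order
-/

set_option autoImplicit false
set_option linter.style.haveILetI false

namespace Cfsg.Agent.Helper6

open Module Representation
open scoped ComplexConjugate

universe u v

variable {G : Type u} [Group G]

theorem isIrrCharacter_one : Cfsg.IsIrrCharacter G (fun _ => (1 : ℂ)) := by
  have := isIrrCharacter_of_hom (1 : G →* ℂˣ)
  simpa using this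

/-- In a group of odd order only the identity is conjugate to its inverse. -/
theorem eq_one_of_isConj_inv_of_odd [Finite G] (hodd : Odd (Nat.card G)) (g : G)
    (h : IsConj g g⁻¹) : g = 1 := by
  obtain ⟨x, hx⟩ := isConj_iff.mp h
  have hxodd : Odd (orderOf x) := Odd.of_dvd_nat hodd (orderOf_dvd_natCard x)
  obtain ⟨m, hm⟩ := hxodd
  have hx2 : Commute (x ^ 2) g := by
    have : x ^ 2 * g * (x ^ 2)⁻¹ = g := by
      calc x ^ 2 * g * (x ^ 2)⁻¹ = x * (x * g * x⁻¹) * x⁻¹ := by
            rw [pow_two, mul_inv_rev]; simp only [mul_assoc]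
        _ = x * g⁻¹ * x⁻¹ := by rw [hx]
        _ = (x * g * x⁻¹)⁻¹ := by group
        _ = g := by rw [hx, inv_inv]
    exact mul_inv_eq_iff_eq_mul.mp this
  have hxpow : x = (x ^ 2) ^ (m + 1) := by
    rw [← pow_mul, show 2 * (m + 1) = orderOf x + 1 by omega, pow_succ, pow_orderOf_eq_one,
      one_mul]
  have hcomm : Commute x g := by
    rw [hxpow]
    exact hx2.pow_left _
  have hgg : g = g⁻¹ := by
    rw [← hx, hcomm.eq, mul_inv_cancel_right]
  have hg2 : g ^ 2 = 1 := by
    rw [pow_two]
    nth_rewrite 1 [hgg]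
    exact inv_mul_cancel g
  have hgodd : Odd (orderOf g) := Odd.of_dvd_nat hodd (orderOf_dvd_natCard g)
  have hdvd : orderOf g ∣ 2 := orderOf_dvd_of_pow_eq_one hg2
  have : orderOf g = 1 := by
    rcases (Nat.dvd_prime Nat.prime_two).mp hdvd with h1 | h2
    · exact h1
    · rw [h2] at hgodd
      exact absurd hgodd (by decide)
  exact orderOf_eq_one_iff.mp this

/-- In a group of odd order, the only real-valued irreducible character is the trivial one. -/
theorem eq_one_of_real_of_odd [Finite G] (hodd : Odd (Nat.card G)) (χ : Cfsg.IrrCharacter G)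
    (hreal : ∀ g : G, ((χ : G → ℂ) g).im = 0) : (χ : G → ℂ) = fun _ => 1 := by
  have hcard := card_real_irr_eq_card_real_classes (G := G)
  have hsub : Subsingleton {C : ConjClasses G // ∀ g : G, ConjClasses.mk g = C → IsConj g g⁻¹} := by
    constructor
    rintro ⟨C, hC⟩ ⟨D, hD⟩
    apply Subtype.ext
    obtain ⟨g, hg⟩ := ConjClasses.mk_surjective C
    obtain ⟨g', hg'⟩ := ConjClasses.mk_surjective D
    change C = D
    rw [← hg, ← hg', eq_one_of_isConj_inv_of_odd hodd g (hC g hg),
      eq_one_of_isConj_inv_of_odd hodd g' (hD g' hg')]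
  have hle : Nat.card {C : ConjClasses G // ∀ g : G, ConjClasses.mk g = C → IsConj g g⁻¹} ≤ 1 :=
    Finite.card_le_one_iff_subsingleton.mpr hsub
  rw [← hcard] at hle
  haveI : Finite (Cfsg.IrrCharacter G) := irr_finite
  have hsub2 := Finite.card_le_one_iff_subsingleton.mp hle
  have := hsub2.elim ⟨χ, hreal⟩ ⟨⟨fun _ => 1, isIrrCharacter_one⟩, fun _ => by simp⟩
  exact congrArg (fun x => (x.1 : G → ℂ)) this

end Cfsg.Agent.Helper6
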