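import Mathlib
import Cfsg.Prelude.Def_Characters
import Cfsg.Agent.Helper6.CoprimeClass
import Cfsg.Agent.Helper6.Regular
import Cfsg.Agent.Helper6.OddReal

/-!
# Burnside: a simple group has no class of prime power size (other than the trivial cases)
-/

set_option autoImplicit false
set_option linter.style.haveILetI false

namespace Cfsg.Agent.Helper6

open Module Representation
open scoped ComplexConjugate

universe u v

variable {G : Type u} [Group G]

/-- A trivial irreducible representation has the principal character. -/
theorem char_eq_one_of_trivial [Finite G] {n : ℕ} (ρ : Representation ℂ G (Fin n → ℂ))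
    (hirr : ρ.IsIrreducible) (htriv : ∀ x : G, ρ x = 1) : ρ.character = fun _ => 1 := by
  classical
  haveI := Fintype.ofFinite G
  have hχ : ∀ x : G, ρ.character x = (n : ℂ) := by
    intro x
    unfold Representation.character
    rw [htriv x]
    simp
  have hnorm : Cfsg.classInner ρ.character ρ.character = 1 :=
    classInner_irr_self (isIrrCharacter_of_rep ρ hirr)
  rw [classInner_def] at hnorm
  simp_rw [hχ] at hnorm
  rw [Finset.sum_const, Finset.card_univ, nsmul_eq_mul, ← Nat.card_eq_fintype_card] at hnorm
  have hG0 : (Nat.card G : ℂ) ≠ 0 := by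
    have : 0 < Nat.card G := Nat.card_pos
    exact_mod_cast this.ne'
  rw [Complex.conj_natCast, ← mul_assoc, inv_mul_cancel₀ hG0, one_mul] at hnorm
  have hn : n * n = 1 := by exact_mod_cast hnorm
  have hn1 : n = 1 := Nat.eq_one_of_mul_eq_one_right hn
  ext x
  rw [hχ x, hn1, Nat.cast_one]

/-- Burnside: if a finite simple group has a non-identity element whose class has prime power
size then the group has prime order. -/
theorem prime_card_of_simple_of_class_prime_pow [Finite G] [IsSimpleGroup G] (p k : ℕ)
    (hp : p.Prime) (g : G) (hg : g ≠ 1)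
    (hclass : (Subgroup.centralizer ({g} : Set G)).index = p ^ k) : (Nat.card G).Prime := by
  classical
  by_cases hcomm : ∀ a b : G, a * b = b * a
  · let inst : CommGroup G := { ‹Group G› with mul_comm := hcomm }
    exact @IsSimpleGroup.prime_card G inst _
  exfalso
  haveI := Fintype.ofFinite G
  haveI : Finite (Cfsg.IrrCharacter G) := irr_finite
  haveI : Fintype (Cfsg.IrrCharacter G) := Fintype.ofFinite _
  -- the centre is trivial
  have hcenter : Subgroup.center G = ⊥ := by
    rcases (Subgroup.center G).normal_of_characteristic.eq_bot_or_eq_top with h | h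
    · exact h
    · exfalso
      apply hcomm
      intro a b
      have : a ∈ Subgroup.center G := by rw [h]; trivial
      exact (Subgroup.mem_center_iff.mp this b).symm
  -- Claim: for χ ≠ 1 of degree prime to p, χ(g) = 0
  have hclaim : ∀ χ : Cfsg.IrrCharacter G, (χ : G → ℂ) ≠ (fun _ => 1) →
      ∃ β : ℂ, IsIntegral ℤ β ∧ (χ : G → ℂ) 1 * (χ : G → ℂ) g = (p : ℂ) * β := by
    intro χ hχ1
    obtain ⟨n, ρ, hirr, hρ⟩ := χ.2
    haveI := hirr
    have hχ1' : (χ : G → ℂ) 1 = (n : ℂ) := by
      rw [← hρ, char_one]
      simp
    by_cases hpn : p ∣ n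
    · obtain ⟨m, hm⟩ := hpn
      refine ⟨(m : ℂ) * (χ : G → ℂ) g, ?_, ?_⟩
      · apply IsIntegral.mul
        · exact isIntegral_algebraMap (R := ℤ) (A := ℂ) (x := (m : ℤ))
        · rw [← hρ]
          exact isIntegral_char ρ g
      · rw [hχ1', hm]
        push_cast
        ring
    · refine ⟨0, isIntegral_zero, ?_⟩
      rw [mul_zero]
      have hcop : Nat.Coprime (finrank ℂ (Fin n → ℂ))
          (Subgroup.centralizer ({g} : Set G)).index := by
        rw [hclass]
        apply Nat.Coprime.pow_right
        have : finrank ℂ (Fin n → ℂ) = n := by simp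
        rw [this]
        exact ((Nat.Prime.coprime_iff_not_dvd hp).mpr hpn).symm
      rcases char_eq_zero_or_norm_eq_of_coprime ρ g hcop with h0 | hnorm
      · rw [← hρ, h0, mul_zero]
      · exfalso
        obtain ⟨ω, hω⟩ := (norm_char_eq_iff ρ g).mp hnorm
        -- kernel of ρ
        let N : Subgroup G := (Representation.asGroupHom ρ).ker
        have hNmem : ∀ x : G, x ∈ N ↔ ρ x = 1 := by
          intro x
          rw [MonoidHom.mem_ker]
          constructor
          · intro h
            have := congrArg Units.val h
            rwa [Representation.asGroupHom_apply] at this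
          · intro h
            apply Units.ext
            rw [Representation.asGroupHom_apply]
            exact h
        rcases (inferInstance : N.Normal).eq_bot_or_eq_top with hN | hN
        · -- faithful: g is central
          have hgc : g ∈ Subgroup.center G := by
            rw [Subgroup.mem_center_iff]
            intro x
            have h1 : ρ (x * g * x⁻¹ * g⁻¹) = 1 := by
              have hcomm2 : ρ x * ρ g = ρ g * ρ x := by
                rw [hω]
                ext v
                simp
              calc ρ (x * g * x⁻¹ * g⁻¹) = ρ x * ρ g * ρ x⁻¹ * ρ g⁻¹ := by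
                    rw [map_mul, map_mul, map_mul]
                _ = ρ g * ρ x * ρ x⁻¹ * ρ g⁻¹ := by rw [hcomm2]
                _ = ρ (g * x * x⁻¹ * g⁻¹) := by rw [map_mul, map_mul, map_mul]
                _ = 1 := by
                    have : g * x * x⁻¹ * g⁻¹ = 1 := by group
                    rw [this, map_one]
            have h2 : x * g * x⁻¹ * g⁻¹ ∈ N := (hNmem _).mpr h1
            rw [hN, Subgroup.mem_bot] at h2
            calc x * g = (x * g * x⁻¹ * g⁻¹) * (g * x) := by group
              _ = g * x := by rw [h2, one_mul]
          rw [hcenter, Subgroup.mem_bot] at hgc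
          exact hg hgc
        · -- trivial representation
          apply hχ1
          rw [← hρ]
          apply char_eq_one_of_trivial ρ hirr
          intro x
          apply (hNmem x).mp
          rw [hN]
          trivial
  choose! β hβint hβ using hclaim
  have hsum := sum_degree_mul_irr (G := G) g
  rw [if_neg hg] at hsum
  let χ₁ : Cfsg.IrrCharacter G := ⟨fun _ => 1, isIrrCharacter_one⟩
  rw [← Finset.add_sum_erase Finset.univ _ (Finset.mem_univ χ₁)] at hsum
  have hrest : ∑ χ ∈ Finset.univ.erase χ₁, (χ : G → ℂ) 1 * (χ : G → ℂ) g =
      (p : ℂ) * ∑ χ ∈ Finset.univ.erase χ₁, β χ := by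
    rw [Finset.mul_sum]
    apply Finset.sum_congr rfl
    intro χ hχ
    apply hβ
    intro h
    apply (Finset.mem_erase.mp hχ).1
    exact Subtype.ext h
  rw [hrest] at hsum
  have h1 : ((1 : ℕ) : ℂ) = (p : ℂ) * (-∑ χ ∈ Finset.univ.erase χ₁, β χ) := by
    have : (χ₁ : G → ℂ) 1 * (χ₁ : G → ℂ) g = 1 := by simp [χ₁]
    rw [this] at hsum
    push_cast
    linear_combination hsum
  have hdvd : p ∣ 1 := by
    apply nat_dvd_of_isIntegral 1 p hp.ne_zero _ _ h1
    apply IsIntegral.neg
    apply IsIntegral.sum
    intro χ hχ
    apply hβint
    intro h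
    apply (Finset.mem_erase.mp hχ).1
    exact Subtype.ext h
  exact hp.one_lt.ne' (Nat.dvd_one.mp hdvd)

end Cfsg.Agent.Helper6
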