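import Mathlib
import Cfsg.Prelude.Def_Characters
import Cfsg.Agent.Helper6.BurnsideSimple

/-!
# Burnside's `p^a q^b` theorem
-/

set_option autoImplicit false
set_option linter.style.haveILetI false

namespace Cfsg.Agent.Helper6

universe u

/-- In a nontrivial finite group whose order divides `p^a q^b`, either there is a proper
nontrivial normal subgroup, or the order is prime. -/
theorem exists_normal_or_prime_card {G : Type u} [Group G] [Finite G] [Nontrivial G]
    (p q a b : ℕ) (hp : p.Prime) (hq : q.Prime) (hcard : Nat.card G ∣ p ^ a * q ^ b) :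
    (∃ N : Subgroup G, N.Normal ∧ N ≠ ⊥ ∧ N ≠ ⊤) ∨ (Nat.card G).Prime := by
  classical
  by_cases hex : ∃ N : Subgroup G, N.Normal ∧ N ≠ ⊥ ∧ N ≠ ⊤
  · exact Or.inl hex
  right
  push Not at hex
  haveI : IsSimpleGroup G :=
    { exists_pair_ne := exists_pair_ne G
      eq_bot_or_eq_top_of_normal := by
        intro N hN
        by_cases h : N = ⊥
        · exact Or.inl h
        · exact Or.inr (hex N hN h) }
  -- a prime dividing the order
  have hne1 : Nat.card G ≠ 1 := by
    intro h
    have := (Nat.card_eq_one_iff_unique.mp h).1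
    exact not_subsingleton G this
  obtain ⟨r, hr, hrdvd⟩ := Nat.exists_prime_and_dvd hne1
  haveI : Fact r.Prime := ⟨hr⟩
  obtain ⟨R⟩ : Nonempty (Sylow r G) := inferInstance
  have hRnt : Nontrivial R := by
    have hc := R.card_eq_multiplicity
    have hpos : 0 < (Nat.card G).factorization r :=
      hr.factorization_pos_of_dvd Nat.card_pos.ne' hrdvd
    have : 1 < Nat.card R := by
      rw [hc]
      exact Nat.one_lt_pow hpos.ne' hr.one_lt
    exact Finite.one_lt_card_iff_nontrivial.mp this
  haveI := hRnt
  have hZnt : Nontrivial (Subgroup.center R) := R.isPGroup'.center_nontrivial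
  obtain ⟨z, hz⟩ := exists_ne (1 : Subgroup.center R)
  let g : G := ((z : R) : G)
  have hg : g ≠ 1 := by
    intro h
    apply hz
    apply Subtype.ext
    apply Subtype.ext
    exact h
  -- R is contained in the centralizer of g
  have hle : (R : Subgroup G) ≤ Subgroup.centralizer ({g} : Set G) := by
    intro x hx
    rw [Subgroup.mem_centralizer_iff]
    intro y hy
    rw [Set.mem_singleton_iff] at hy
    subst hy
    have hzc := Subgroup.mem_center_iff.mp z.2 ⟨x, hx⟩
    have := congrArg (fun t : R => (t : G)) hzc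
    exact this.symm
  have hidx : (Subgroup.centralizer ({g} : Set G)).index ∣ (R : Subgroup G).index :=
    Subgroup.index_dvd_of_le hle
  have hRidx : ¬ r ∣ (R : Subgroup G).index := R.not_dvd_index
  have hRdvd : (R : Subgroup G).index ∣ p ^ a * q ^ b :=
    ((R : Subgroup G).index_dvd_card).trans hcard
  have hcidx : ¬ r ∣ (Subgroup.centralizer ({g} : Set G)).index :=
    fun h => hRidx (h.trans hidx)
  have hcdvd : (Subgroup.centralizer ({g} : Set G)).index ∣ p ^ a * q ^ b := hidx.trans hRdvd
  have hrpq : r = p ∨ r = q := by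
    have h1 : r ∣ p ^ a * q ^ b := hrdvd.trans hcard
    rcases (Nat.Prime.dvd_mul hr).mp h1 with h | h
    · exact Or.inl ((Nat.prime_dvd_prime_iff_eq hr hp).mp (hr.dvd_of_dvd_pow h))
    · exact Or.inr ((Nat.prime_dvd_prime_iff_eq hr hq).mp (hr.dvd_of_dvd_pow h))
  rcases hrpq with rfl | rfl
  · -- index divides q^b
    have hcop : Nat.Coprime (Subgroup.centralizer ({g} : Set G)).index (r ^ a) :=
      Nat.Coprime.pow_right _ ((Nat.Prime.coprime_iff_not_dvd hr).mpr hcidx).symm
    have h2 : (Subgroup.centralizer ({g} : Set G)).index ∣ q ^ b :=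
      hcop.dvd_of_dvd_mul_left hcdvd
    obtain ⟨k, -, hk⟩ := (Nat.dvd_prime_pow hq).mp h2
    exact prime_card_of_simple_of_class_prime_pow q k hq g hg hk
  · have hcop : Nat.Coprime (Subgroup.centralizer ({g} : Set G)).index (r ^ b) :=
      Nat.Coprime.pow_right _ ((Nat.Prime.coprime_iff_not_dvd hr).mpr hcidx).symm
    have h2 : (Subgroup.centralizer ({g} : Set G)).index ∣ p ^ a :=
      hcop.dvd_of_dvd_mul_right hcdvd
    obtain ⟨k, -, hk⟩ := (Nat.dvd_prime_pow hp).mp h2
    exact prime_card_of_simple_of_class_prime_pow p k hp g hg hk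

theorem burnside_pq_aux (p q a b : ℕ) (hp : p.Prime) (hq : q.Prime) (n : ℕ) :
    ∀ (G : Type u) [Group G] [Finite G], Nat.card G = n → Nat.card G ∣ p ^ a * q ^ b →
      Group.IsSolvable G := by
  induction n using Nat.strong_induction_on with
  | _ n ih =>
    intro G _ _ hn hcard
    by_cases hsub : Subsingleton G
    · infer_instance
    rw [not_subsingleton_iff_nontrivial] at hsub
    rcases exists_normal_or_prime_card p q a b hp hq hcard with ⟨N, hN, hNbot, hNtop⟩ | hprime
    · haveI := hN
      have hNcard : Nat.card N < n := by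
        rw [← hn]
        apply lt_of_le_of_ne (Subgroup.card_le_card_group N)
        intro h
        exact hNtop (Subgroup.card_eq_iff_eq_top N |>.mp h)
      have hQcard : Nat.card (G ⧸ N) < n := by
        rw [← hn, ← Subgroup.index_eq_card, ← N.index_mul_card]
        have h1 : 1 < Nat.card N := by
          rw [Finite.one_lt_card_iff_nontrivial]
          exact (Subgroup.nontrivial_iff_ne_bot N).mpr hNbot
        have h2 : 0 < N.index := Nat.pos_of_ne_zero Subgroup.index_ne_zero_of_finite
        nlinarith
      have hN1 : Group.IsSolvable N :=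
        ih _ hNcard N rfl ((Subgroup.card_subgroup_dvd_card N).trans hcard)
      have hN2 : Group.IsSolvable (G ⧸ N) :=
        ih _ hQcard (G ⧸ N) rfl ((Subgroup.card_quotient_dvd_card N).trans hcard)
      exact (Group.isSolvable_iff_subgroup_quotient N).mpr ⟨hN1, hN2⟩
    · haveI : Fact (Nat.card G).Prime := ⟨hprime⟩
      haveI : IsCyclic G := isCyclic_of_prime_card rfl
      exact Group.isSolvable_of_comm (fun a b => IsCyclic.commGroup.mul_comm a b)

/-- Burnside's `p^a q^b` theorem. -/
theorem burnside_pq {G : Type u} [Group G] [Finite G] (p q a b : ℕ) (hp : p.Prime)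
    (hq : q.Prime) (hcard : Nat.card G = p ^ a * q ^ b) : Group.IsSolvable G :=
  burnside_pq_aux p q a b hp hq _ G rfl (hcard ▸ dvd_refl _)

end Cfsg.Agent.Helper6
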