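import Mathlib
import Cfsg.Prelude.Def_Characters
import Cfsg.Agent.Helper6.Regular
import Cfsg.Agent.Helper6.IrrCount
import Cfsg.Agent.Helper6.IrrBasis
import Cfsg.Agent.Helper6.CentralChar
import Cfsg.Agent.Helper6.DegreeDvd
import Cfsg.Agent.Helper6.Linear

/-!
# Faithful irreducible representations

* irreducible representations separate non-identity elements from the identity;
* a nontrivial normal subgroup of a `p`-group meets the centre nontrivially;
* a cyclic group has at most one subgroup of a given prime order;
* the centre of a group with a faithful irreducible representation is cyclic.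
-/

set_option autoImplicit false

namespace Cfsg.Agent.Helper6

open Module Representation

universe u

variable {G : Type u} [Group G]

/-- For `z ≠ 1` there is an irreducible representation not killing `z`. -/
theorem exists_irr_rep_ne_one [Finite G] (z : G) (hz : z ≠ 1) :
    ∃ (n : ℕ) (ρ : Representation ℂ G (Fin n → ℂ)), ρ.IsIrreducible ∧ ρ z ≠ 1 := by
  classical
  by_contra hcon
  push Not at hcon
  haveI : Fintype G := Fintype.ofFinite G
  haveI : Finite (Cfsg.IrrCharacter G) := irr_finite
  haveI : Fintype (Cfsg.IrrCharacter G) := Fintype.ofFinite _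
  have h1 := sum_degree_mul_irr z
  rw [if_neg hz] at h1
  have h2 := sum_sq_degrees (G := G)
  have h3 : ∀ χ : Cfsg.IrrCharacter G, (χ : G → ℂ) 1 * (χ : G → ℂ) z = (χ : G → ℂ) 1 ^ 2 := by
    intro χ
    obtain ⟨n, ρ, hirr, hχ⟩ := χ.2
    have := hcon n ρ hirr
    rw [← hχ, sq]
    congr 1
    unfold Representation.character
    rw [this, map_one ρ]
  rw [Finset.sum_congr rfl (fun χ _ => h3 χ), h2] at h1
  have : 0 < Nat.card G := Nat.card_pos
  have h4 : (Nat.card G : ℂ) ≠ 0 := by exact_mod_cast this.ne'
  exact h4 h1

/-- A nontrivial normal subgroup of a finite `p`-group contains a nontrivial central element. -/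
theorem exists_mem_center_of_normal_ne_bot [Finite G] (p : ℕ) [Fact p.Prime]
    (hG : IsPGroup p G) (N : Subgroup G) [N.Normal] (hN : N ≠ ⊥) :
    ∃ b ∈ N, b ∈ Subgroup.center G ∧ b ≠ 1 := by
  have hNp : IsPGroup p N := hG.to_subgroup N
  haveI : Nontrivial N := (Subgroup.nontrivial_iff_ne_bot N).mpr hN
  obtain ⟨n, hn, hcard⟩ := hNp.nontrivial_iff_card.mp inferInstance
  have hdvd : p ∣ Nat.card N := by rw [hcard]; exact dvd_pow_self p hn.ne'
  have hfix : (1 : N) ∈ MulAction.fixedPoints (ConjAct G) N := by
    intro g
    exact smul_one g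
  obtain ⟨b, hb, hb1⟩ :=
    (hG.of_equiv ConjAct.toConjAct).exists_fixed_point_of_prime_dvd_card_of_fixed_point N hdvd hfix
  refine ⟨(b : G), b.2, ?_, ?_⟩
  · rw [Subgroup.mem_center_iff]
    intro g
    have := hb (ConjAct.toConjAct g)
    have h2 := congrArg (fun t : N => (t : G)) this
    simp only [ConjAct.Subgroup.val_conj_smul, ConjAct.toConjAct_smul] at h2
    exact (eq_mul_of_mul_inv_eq h2)
  · intro h
    apply hb1
    apply Subtype.ext
    exact h.symm

/-- In a finite cyclic group, a subgroup of order `p` contains every element with `a ^ p = 1`. -/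
theorem mem_of_pow_eq_one_of_card_eq {C : Type*} [Group C] [Finite C] [IsCyclic C]
    (Z : Subgroup C) (p : ℕ) (hp : 0 < p) (hZ : Nat.card Z = p) (a : C) (ha : a ^ p = 1) :
    a ∈ Z := by
  classical
  haveI : Fintype C := Fintype.ofFinite C
  have hle := IsCyclic.card_pow_eq_one_le (α := C) hp
  let S : Finset C := Finset.univ.filter (fun a : C => a ^ p = 1)
  let T : Finset C := Finset.univ.filter (fun a : C => a ∈ Z)
  have hTS : T ⊆ S := by
    intro b hb
    have hbZ : b ∈ Z := (Finset.mem_filter.mp hb).2
    apply Finset.mem_filter.mpr ⟨Finset.mem_univ _, ?_⟩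
    have : (⟨b, hbZ⟩ : Z) ^ p = 1 := by
      rw [← hZ]; exact pow_card_eq_one'
    have h2 := congrArg (fun z : Z => (z : C)) this
    simpa using h2
  have hTcard : T.card = p := by
    rw [← hZ, Nat.card_eq_fintype_card, ← Finset.card_univ]
    symm
    apply Finset.card_bij (fun (z : Z) _ => (z : C))
    · intro z _; exact Finset.mem_filter.mpr ⟨Finset.mem_univ _, z.2⟩
    · intro z _ z' _ h; exact Subtype.ext h
    · intro b hb
      exact ⟨⟨b, (Finset.mem_filter.mp hb).2⟩, Finset.mem_univ _, rfl⟩
  have hST : S = T := by
    symm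
    apply Finset.eq_of_subset_of_card_le hTS
    rw [hTcard]; exact hle
  have : a ∈ S := Finset.mem_filter.mpr ⟨Finset.mem_univ _, ha⟩
  rw [hST] at this
  exact (Finset.mem_filter.mp this).2

/-- The centre of a finite group with a faithful irreducible representation is cyclic. -/
theorem isCyclic_center_of_faithful_irr [Finite G] {V : Type*} [AddCommGroup V] [Module ℂ V]
    [FiniteDimensional ℂ V] (ρ : Representation ℂ G V) [ρ.IsIrreducible]
    (hinj : Function.Injective ρ) : IsCyclic (Subgroup.center G) := by
  classical
  haveI : Nontrivial V := irr_nontrivial ρ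
  have hex : ∀ z : Subgroup.center G, ∃ c : ℂ, ρ (z : G) = c • (LinearMap.id : V →ₗ[ℂ] V) := by
    intro z
    apply exists_scalar_of_commute ρ
    intro g
    have hz : g * (z : G) = (z : G) * g := (Subgroup.mem_center_iff.mp z.2 g)
    calc ρ (z : G) ∘ₗ ρ g = ρ ((z : G) * g) := by rw [map_mul]; rfl
      _ = ρ (g * (z : G)) := by rw [hz]
      _ = ρ g ∘ₗ ρ (z : G) := by rw [map_mul]; rfl
  choose c hc using hex
  have hsinj : ∀ a b : ℂ, a • (LinearMap.id : V →ₗ[ℂ] V) = b • LinearMap.id → a = b := by
    intro a b hab
    obtain ⟨v, hv⟩ := exists_ne (0 : V)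
    have := LinearMap.congr_fun hab v
    simp only [LinearMap.smul_apply, LinearMap.id_coe, id_eq] at this
    exact smul_left_injective ℂ hv this
  let f : Subgroup.center G →* ℂ :=
    { toFun := c
      map_one' := by
        apply hsinj
        rw [← hc, one_smul]
        simp
        rfl
      map_mul' := by
        intro a b
        apply hsinj
        rw [← hc, Subgroup.coe_mul, map_mul, hc a, hc b]
        ext v
        simp [mul_smul, smul_comm (c a) (c b)] }
  have hf : Function.Injective f := by
    intro a b hab
    apply Subtype.ext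
    apply hinj
    rw [hc a, hc b]
    show f a • _ = f b • _
    rw [hab]
  exact isCyclic_of_injective_ringHom f hf

end Cfsg.Agent.Helper6
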