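import Mathlib
import Cfsg.Prelude.Def_Characters
import Cfsg.Agent.Helper6.OddReal

/-!
# Induction from a normal subgroup
-/

set_option autoImplicit false
set_option linter.style.haveILetI false

namespace Cfsg.Agent.Helper6

open Module Representation
open scoped ComplexConjugate

universe u v

variable {G : Type u} [Group G]

/-- The conjugate of a function on a normal subgroup. -/
def conjFun (H : Subgroup G) [hN : H.Normal] (θ : H → ℂ) (g : G) : H → ℂ :=
  fun h => θ ⟨g * h * g⁻¹, hN.conj_mem h h.2 g⟩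

theorem conjFun_eq_comp (H : Subgroup G) [hN : H.Normal] (θ : H → ℂ) (g : G) :
    conjFun H θ g = θ ∘ (MulAut.conjNormal g : H ≃* H) := rfl

theorem conjFun_isIrr [Finite G] (H : Subgroup G) [hN : H.Normal] {θ : H → ℂ}
    (hθ : Cfsg.IsIrrCharacter H θ) (g : G) : Cfsg.IsIrrCharacter H (conjFun H θ g) := by
  rw [conjFun_eq_comp]
  exact IsIrrCharacter.comp_mulEquiv _ hθ

theorem conjFun_mul (H : Subgroup G) [hN : H.Normal] (θ : H → ℂ) (a b : G) :
    conjFun H (conjFun H θ a) b = conjFun H θ (a * b) := by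
  ext h
  unfold conjFun
  congr 1
  apply Subtype.ext
  simp only [mul_inv_rev]
  group

theorem conjFun_one (H : Subgroup G) [hN : H.Normal] (θ : H → ℂ) :
    conjFun H θ 1 = θ := by
  ext h
  unfold conjFun
  congr 1
  apply Subtype.ext
  simp

/-- The stabilizer of a function on a normal subgroup. -/
def conjStab (H : Subgroup G) [hN : H.Normal] (θ : H → ℂ) : Subgroup G where
  carrier := {g | conjFun H θ g = θ}
  one_mem' := conjFun_one H θ
  mul_mem' := by
    intro a b ha hb
    change conjFun H θ (a * b) = θ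
    rw [← conjFun_mul, show conjFun H θ a = θ from ha]
    exact hb
  inv_mem' := by
    intro a ha
    change conjFun H θ a⁻¹ = θ
    have h1 : conjFun H θ a = θ := ha
    conv_lhs => rw [← h1]
    rw [conjFun_mul, mul_inv_cancel, conjFun_one]

theorem mem_conjStab (H : Subgroup G) [hN : H.Normal] (θ : H → ℂ) (g : G) :
    g ∈ conjStab H θ ↔ conjFun H θ g = θ := Iff.rfl

/-- Restriction to a normal subgroup of an induced function. -/
theorem indFun_normal_apply [Fintype G] (H : Subgroup G) [hN : H.Normal] (θ : H → ℂ) (h : H) :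
    Cfsg.indFun H θ h = (Nat.card H : ℂ)⁻¹ * ∑ x : G, conjFun H θ x⁻¹ h := by
  rw [indFun_apply]
  congr 1
  apply Finset.sum_congr rfl
  intro x _
  have hmem : x⁻¹ * (h : G) * x ∈ H := by
    have := hN.conj_mem h h.2 x⁻¹
    rwa [inv_inv] at this
  rw [extendByZero_mem _ _ hmem]
  unfold conjFun
  congr 1
  apply Subtype.ext
  simp

/-- Mackey-type formula for the norm of a function induced from a normal subgroup. -/
theorem card_mul_classInner_indFun_normal [Fintype G] (H : Subgroup G) [hN : H.Normal]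
    (θ : H → ℂ) (hθ : Cfsg.IsIrrCharacter H θ) :
    (Nat.card H : ℂ) * Cfsg.classInner (Cfsg.indFun H θ) (Cfsg.indFun H θ) =
      (Nat.card {g : G // conjFun H θ g = θ} : ℂ) := by
  classical
  haveI : Fintype H := Fintype.ofFinite H
  rw [frobenius_reciprocity H θ _ (indFun_isClassFunction H θ)]
  have hfun : (fun h : H => Cfsg.indFun H θ h) =
      ∑ x : G, (Nat.card H : ℂ)⁻¹ • conjFun H θ x⁻¹ := by
    ext h
    rw [indFun_normal_apply, Finset.sum_apply, Finset.mul_sum]
    rfl
  rw [hfun, classInner_sum_right]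
  have hterm : ∀ x : G, Cfsg.classInner θ ((Nat.card H : ℂ)⁻¹ • conjFun H θ x⁻¹) =
      (Nat.card H : ℂ)⁻¹ * if conjFun H θ x⁻¹ = θ then 1 else 0 := by
    intro x
    rw [classInner_smul_right, map_inv₀, Complex.conj_natCast]
    congr 1
    split_ifs with h
    · rw [h, classInner_irr_self hθ]
    · exact classInner_irr_ne hθ (conjFun_isIrr H hθ _) (fun h' => h h'.symm)
  simp_rw [hterm]
  rw [← Finset.mul_sum, Finset.sum_boole]
  have hH : (Nat.card H : ℂ) ≠ 0 := by
    have : 0 < Nat.card H := Nat.card_pos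
    exact_mod_cast this.ne'
  rw [← mul_assoc, mul_inv_cancel₀ hH, one_mul]
  congr 1
  rw [Nat.card_eq_fintype_card, Fintype.card_subtype]
  exact Finset.card_bij (fun x _ => x⁻¹) (by simp) (by simp) (by
    intro b hb
    refine ⟨b⁻¹, ?_, inv_inv b⟩
    simpa using hb)

/-- Conjugate of an induced function. -/
theorem conj_indFun [Fintype G] (H : Subgroup G) (θ : H → ℂ) :
    (fun g => conj (Cfsg.indFun H θ g)) = Cfsg.indFun H (fun h => conj (θ h)) := by
  ext g
  rw [indFun_apply, indFun_apply, map_mul, map_inv₀, Complex.conj_natCast, map_sum]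
  congr 1
  apply Finset.sum_congr rfl
  intro x _
  by_cases hx : x⁻¹ * g * x ∈ H
  · rw [extendByZero_mem _ _ hx, extendByZero_mem _ _ hx]
  · rw [extendByZero_not_mem _ _ hx, extendByZero_not_mem _ _ hx, map_zero]

theorem conj_isIrr [Finite G] {θ : G → ℂ} (hθ : Cfsg.IsIrrCharacter G θ) :
    Cfsg.IsIrrCharacter G (fun g => conj (θ g)) := by
  have h := IsIrrCharacter.comp_inv hθ
  have : (fun g => conj (θ g)) = θ ∘ (Equiv.inv G) := by
    ext g
    exact (IsCharacter.inv_eq_conj (IsIrrCharacter.isCharacter hθ) g).symm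
  rw [this]
  exact h

/-- For a group of odd order, a function induced from a non-principal irreducible character of a
normal subgroup is orthogonal to its complex conjugate. -/
theorem classInner_conj_indFun_of_odd [Fintype G] (hodd : Odd (Nat.card G)) (H : Subgroup G)
    [hN : H.Normal] (θ : H → ℂ) (hθ : Cfsg.IsIrrCharacter H θ) (hθ1 : θ ≠ fun _ => 1) :
    Cfsg.classInner (fun g => conj (Cfsg.indFun H θ g)) (Cfsg.indFun H θ) = 0 := by
  classical
  haveI : Fintype H := Fintype.ofFinite H
  rw [conj_indFun, frobenius_reciprocity H _ _ (indFun_isClassFunction H θ)]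
  have hfun : (fun h : H => Cfsg.indFun H θ h) =
      ∑ x : G, (Nat.card H : ℂ)⁻¹ • conjFun H θ x⁻¹ := by
    ext h
    rw [indFun_normal_apply, Finset.sum_apply, Finset.mul_sum]
    rfl
  rw [hfun, classInner_sum_right]
  apply Finset.sum_eq_zero
  intro x _
  rw [classInner_smul_right]
  have hbar : Cfsg.IsIrrCharacter H (fun h => conj (θ h)) := conj_isIrr hθ
  have hne : (fun h => conj (θ h)) ≠ conjFun H θ x⁻¹ := by
    intro heq
    -- then x⁻¹ ^ 2 stabilizes θ
    set y := x⁻¹ with hy
    have h2 : conjFun H θ (y * y) = θ := by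
      rw [← conjFun_mul, ← heq]
      ext h
      change conj (θ _) = θ h
      have := congrFun heq ⟨y * h * y⁻¹, hN.conj_mem h h.2 y⟩
      have h3 : conj (θ ⟨y * h * y⁻¹, hN.conj_mem h h.2 y⟩) =
          conjFun H θ y ⟨y * h * y⁻¹, hN.conj_mem h h.2 y⟩ := this
      have h4 := congrFun heq h
      have h5 : conj (θ h) = conjFun H θ y h := h4
      have h6 : conjFun H θ y h = θ ⟨y * h * y⁻¹, hN.conj_mem h h.2 y⟩ := rfl
      rw [← h6, ← h5, Complex.conj_conj]
    have hy2 : y ^ 2 ∈ conjStab H θ := by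
      rw [pow_two]
      exact h2
    have hyodd : Odd (orderOf y) := Odd.of_dvd_nat hodd (orderOf_dvd_natCard y)
    obtain ⟨m, hm⟩ := hyodd
    have hypow : y = (y ^ 2) ^ (m + 1) := by
      rw [← pow_mul, show 2 * (m + 1) = orderOf y + 1 by omega, pow_succ, pow_orderOf_eq_one,
        one_mul]
    have hymem : y ∈ conjStab H θ := by
      rw [hypow]
      exact Subgroup.pow_mem _ hy2 _
    have hstab : conjFun H θ y = θ := hymem
    rw [hstab] at heq
    -- θ is real
    have hreal : ∀ h : H, (θ h).im = 0 := by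
      intro h
      exact Complex.conj_eq_iff_im.mp (congrFun heq h)
    have hoddH : Odd (Nat.card H) := Odd.of_dvd_nat hodd (Subgroup.card_subgroup_dvd_card H)
    exact hθ1 (eq_one_of_real_of_odd hoddH ⟨θ, hθ⟩ hreal)
  rw [classInner_irr_ne hbar (conjFun_isIrr H hθ _) hne, mul_zero]

end Cfsg.Agent.Helper6
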