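import Mathlib
import Cfsg.Prelude.Def_Characters
import Cfsg.Agent.Helper6.NormalInd

/-!
# More on induction from a normal subgroup
-/

set_option autoImplicit false
set_option linter.style.haveILetI false

namespace Cfsg.Agent.Helper6

open Module Representation
open scoped ComplexConjugate

universe u v

variable {G : Type u} [Group G]

theorem conjFun_eq_iff (H : Subgroup G) [hN : H.Normal] (θ : H → ℂ) (g g₀ : G) :
    conjFun H θ g = conjFun H θ g₀ ↔ conjFun H θ (g * g₀⁻¹) = θ := by
  constructor
  · intro h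
    rw [← conjFun_mul, h, conjFun_mul, mul_inv_cancel, conjFun_one]
  · intro h
    have : conjFun H (conjFun H θ (g * g₀⁻¹)) g₀ = conjFun H θ g₀ := by rw [h]
    rw [conjFun_mul, inv_mul_cancel_right] at this
    exact this

/-- Sum of all conjugates over the group = stabilizer order times sum over distinct conjugates. -/
theorem sum_conjFun [Fintype G] (H : Subgroup G) [hN : H.Normal] (θ : H → ℂ) :
    ∑ g : G, conjFun H θ g =
      (Nat.card {g : G // conjFun H θ g = θ} : ℂ) •
        ∑ᶠ ψ ∈ {ψ : H → ℂ | ∃ g : G, ψ = conjFun H θ g}, ψ := by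
  classical
  have hcomp := Finset.sum_comp (s := (Finset.univ : Finset G))
    (fun ψ : H → ℂ => ψ) (fun g : G => conjFun H θ g)
  rw [hcomp]
  have hfib : ∀ ψ ∈ (Finset.univ : Finset G).image (fun g : G => conjFun H θ g),
      (Finset.univ.filter (fun g : G => conjFun H θ g = ψ)).card =
        Nat.card {g : G // conjFun H θ g = θ} := by
    intro ψ hψ
    obtain ⟨g₀, -, rfl⟩ := Finset.mem_image.mp hψ
    rw [Nat.card_eq_fintype_card, Fintype.card_subtype]
    apply Finset.card_bij (fun g _ => g * g₀⁻¹)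
    · intro g hg
      simp only [Finset.mem_filter, Finset.mem_univ, true_and] at hg ⊢
      exact (conjFun_eq_iff H θ g g₀).mp hg
    · intro a _ b _ hab
      exact mul_right_cancel hab
    · intro b hb
      simp only [Finset.mem_filter, Finset.mem_univ, true_and] at hb
      refine ⟨b * g₀, ?_, by simp⟩
      simp only [Finset.mem_filter, Finset.mem_univ, true_and]
      rw [conjFun_eq_iff, mul_inv_cancel_right]
      exact hb
  rw [Finset.sum_congr rfl (fun ψ hψ => by rw [hfib ψ hψ])]
  rw [← Finset.smul_sum, Nat.cast_smul_eq_nsmul]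
  congr 1
  have hset : {ψ : H → ℂ | ∃ g : G, ψ = conjFun H θ g} =
      ↑((Finset.univ : Finset G).image (fun g : G => conjFun H θ g)) := by
    ext ψ
    simp only [Set.mem_ofPred_eq, Finset.coe_image, Finset.coe_univ, Set.image_univ, Set.mem_range]
    constructor
    · rintro ⟨g, rfl⟩
      exact ⟨g, rfl⟩
    · rintro ⟨g, rfl⟩
      exact ⟨g, rfl⟩
  rw [hset, finsum_mem_coe_finset]

/-- Restriction of the induced function to a normal subgroup. -/
theorem indFun_normal_restrict [Fintype G] (H : Subgroup G) [hN : H.Normal] (θ : H → ℂ) :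
    (fun h : H => Cfsg.indFun H θ h) =
      ((Nat.card {g : G // conjFun H θ g = θ} : ℂ) / (Nat.card H : ℂ)) •
        ∑ᶠ ψ ∈ {ψ : H → ℂ | ∃ g : G, ψ = conjFun H θ g}, ψ := by
  have h1 : (fun h : H => Cfsg.indFun H θ h) = (Nat.card H : ℂ)⁻¹ • ∑ g : G, conjFun H θ g := by
    ext h
    rw [indFun_normal_apply, Pi.smul_apply, Finset.sum_apply, smul_eq_mul]
    congr 1
    exact Equiv.sum_comp (Equiv.inv G) (fun x => conjFun H θ x h)
  rw [h1, sum_conjFun, smul_smul]
  congr 1
  rw [div_eq_inv_mul]

theorem extendByZero_conjFun (H : Subgroup G) [hN : H.Normal] (θ : H → ℂ) (g y : G) :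
    Cfsg.extendByZero H (conjFun H θ g) y = Cfsg.extendByZero H θ (g * y * g⁻¹) := by
  by_cases hy : y ∈ H
  · rw [extendByZero_mem _ _ hy, extendByZero_mem _ _ (hN.conj_mem y hy g)]
    rfl
  · have hy' : g * y * g⁻¹ ∉ H := by
      intro h
      apply hy
      have := hN.conj_mem _ h g⁻¹
      simpa [mul_assoc] using this
    rw [extendByZero_not_mem _ _ hy, extendByZero_not_mem _ _ hy']

/-- Conjugate functions induce to the same function. -/
theorem indFun_conjFun [Fintype G] (H : Subgroup G) [hN : H.Normal] (θ : H → ℂ) (g : G) :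
    Cfsg.indFun H (conjFun H θ g) = Cfsg.indFun H θ := by
  ext k
  rw [indFun_apply, indFun_apply]
  congr 1
  simp_rw [extendByZero_conjFun]
  apply Fintype.sum_equiv (Equiv.mulRight g⁻¹)
  intro x
  congr 1
  simp only [Equiv.coe_mulRight, mul_inv_rev, inv_inv]
  group

/-- Non-conjugate irreducible characters of a normal subgroup induce to orthogonal functions. -/
theorem classInner_indFun_of_not_conj [Fintype G] (H : Subgroup G) [hN : H.Normal]
    (θ φ : H → ℂ) (hθ : Cfsg.IsIrrCharacter H θ) (hφ : Cfsg.IsIrrCharacter H φ)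
    (hne : ¬ ∃ g : G, φ = conjFun H θ g) :
    Cfsg.classInner (Cfsg.indFun H φ) (Cfsg.indFun H θ) = 0 := by
  classical
  haveI : Fintype H := Fintype.ofFinite H
  rw [frobenius_reciprocity H φ _ (indFun_isClassFunction H θ)]
  have hfun : (fun h : H => Cfsg.indFun H θ h) =
      ∑ x : G, (Nat.card H : ℂ)⁻¹ • conjFun H θ x⁻¹ := by
    ext h
    rw [indFun_normal_apply, Finset.sum_apply, Finset.mul_sum]
    rfl
  rw [hfun, classInner_sum_right]
  apply Finset.sum_eq_zero
  intro x _
  rw [classInner_smul_right, classInner_irr_ne hφ (conjFun_isIrr H hθ _), mul_zero]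
  intro h
  exact hne ⟨x⁻¹, h⟩

theorem IsCharacter.norm_le [Finite G] {χ : G → ℂ} (hχ : Cfsg.IsCharacter G χ) (g : G) :
    ‖χ g‖ ≤ (χ 1).re := by
  obtain ⟨n, ρ, rfl⟩ := hχ
  have := norm_char_le ρ g
  rw [char_one]
  simpa using this

/-- A normal subgroup `A ≤ H` lies in the kernel of `θ` iff it lies in the kernel of the induced
function. -/
theorem ker_indFun_iff [Fintype G] (A H : Subgroup G) [hA : A.Normal] [hN : H.Normal]
    (hAH : A ≤ H) (θ : H → ℂ) (hθ : Cfsg.IsCharacter H θ) :
    (∀ a : H, (a : G) ∈ A → θ a = θ 1) ↔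
      (∀ a : G, a ∈ A → Cfsg.indFun H θ a = Cfsg.indFun H θ 1) := by
  classical
  have hH0 : (Nat.card H : ℂ) ≠ 0 := by
    have : 0 < Nat.card H := Nat.card_pos
    exact_mod_cast this.ne'
  have hone : ∀ x : G, Cfsg.extendByZero H θ (x⁻¹ * 1 * x) = θ 1 := by
    intro x
    have h1 : x⁻¹ * 1 * x = ((1 : H) : G) := by simp
    rw [h1, extendByZero_coe]
  constructor
  · intro h a ha
    rw [indFun_apply, indFun_apply]
    congr 1
    apply Finset.sum_congr rfl
    intro x _
    have hmemA : x⁻¹ * a * x ∈ A := by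
      have := hA.conj_mem a ha x⁻¹
      rwa [inv_inv] at this
    rw [hone, extendByZero_mem _ _ (hAH hmemA)]
    exact h ⟨_, hAH hmemA⟩ hmemA
  · intro h a ha
    have h1 := h a ha
    rw [indFun_apply, indFun_apply] at h1
    have h2 := mul_left_cancel₀ (inv_ne_zero hH0) h1
    simp_rw [hone] at h2
    -- compare real parts
    have hterm : ∀ x : G, (Cfsg.extendByZero H θ (x⁻¹ * a * x)).re ≤ (θ 1).re := by
      intro x
      have hmemA : x⁻¹ * (a : G) * x ∈ A := by
        have := hA.conj_mem a ha x⁻¹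
        rwa [inv_inv] at this
      rw [extendByZero_mem _ _ (hAH hmemA)]
      exact (Complex.re_le_norm _).trans (IsCharacter.norm_le hθ _)
    have h3 := congrArg Complex.re h2
    rw [Complex.re_sum, Complex.re_sum] at h3
    have h4 := (Finset.sum_eq_sum_iff_of_le (fun x _ => hterm x)).mp h3 1 (Finset.mem_univ _)
    simp only [inv_one, one_mul, mul_one] at h4
    rw [extendByZero_coe] at h4
    -- re θ a = re θ 1 and norm bound give equality
    have hnorm := IsCharacter.norm_le hθ a
    have hθ1 : ∃ n : ℕ, θ 1 = n := IsCharacter.apply_one hθ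
    obtain ⟨n, hn⟩ := hθ1
    apply Complex.ext
    · exact h4
    · rw [hn, Complex.natCast_im]
      have h5 : ‖θ a‖ ^ 2 = (θ a).re ^ 2 + (θ a).im ^ 2 := by
        rw [← Complex.normSq_eq_norm_sq, Complex.normSq_apply]; ring
      have h6 : ‖θ a‖ ^ 2 ≤ (θ 1).re ^ 2 := by
        apply pow_le_pow_left₀ (norm_nonneg _) hnorm
      rw [h5, h4] at h6
      have : (θ a).im ^ 2 ≤ 0 := by linarith
      have := pow_eq_zero_iff (n := 2) (by norm_num) |>.mp (le_antisymm this (sq_nonneg _))
      exact this

end Cfsg.Agent.Helper6
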