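import Mathlib
import Cfsg.Prelude.Def_Characters
import Cfsg.Agent.Helper6.DegreeDvd
import Cfsg.Agent.Helper6.NormalInd2

/-!
# Degrees of irreducible characters are positive; elementary bounds
-/

set_option autoImplicit false

namespace Cfsg.Agent.Helper6

open Module Representation

universe u

variable {G : Type u} [Group G]

theorem IsIrrCharacter.apply_one_pos {χ : G → ℂ} (h : Cfsg.IsIrrCharacter G χ) :
    ∃ n : ℕ, 0 < n ∧ χ 1 = n := by
  obtain ⟨n, ρ, hirr, hρ⟩ := h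
  have := hirr
  have : Nontrivial (Fin n → ℂ) := irr_nontrivial ρ
  refine ⟨finrank ℂ (Fin n → ℂ), Module.finrank_pos, ?_⟩
  rw [← hρ, char_one]

theorem IsIrrCharacter.apply_one_ne_zero {χ : G → ℂ} (h : Cfsg.IsIrrCharacter G χ) :
    χ 1 ≠ 0 := by
  obtain ⟨n, hn, h1⟩ := IsIrrCharacter.apply_one_pos h
  rw [h1]
  exact_mod_cast hn.ne'

theorem IsIrrCharacter.one_le_norm_apply_one {χ : G → ℂ} (h : Cfsg.IsIrrCharacter G χ) :
    1 ≤ ‖χ 1‖ := by
  obtain ⟨n, hn, h1⟩ := IsIrrCharacter.apply_one_pos h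
  rw [h1, Complex.norm_natCast]
  exact_mod_cast hn

theorem IsCharacter.norm_le_norm_one [Finite G] {χ : G → ℂ} (hχ : Cfsg.IsCharacter G χ) (g : G) :
    ‖χ g‖ ≤ ‖χ 1‖ :=
  (IsCharacter.norm_le hχ g).trans (Complex.re_le_norm _)

/-- swapping a sum over a third index out of a double sum -/
theorem sum_comm3 {α β ι : Type*} [Fintype α] [Fintype β] [Fintype ι] {M : Type*}
    [AddCommMonoid M] (f : α → β → ι → M) :
    ∑ a : α, ∑ b : β, ∑ i : ι, f a b i = ∑ i : ι, ∑ a : α, ∑ b : β, f a b i := by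
  symm
  rw [Finset.sum_comm]
  apply Finset.sum_congr rfl
  intro a _
  rw [Finset.sum_comm]

end Cfsg.Agent.Helper6
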