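import Mathlib
import Cfsg.Prelude.Def_Characters
import Cfsg.Agent.Helper6.DegreeDvd

/-!
# Representations trivial on a normal subgroup: the degree divides the index
-/

set_option autoImplicit false

namespace Cfsg.Agent.Helper6

open Module Representation

universe u v

variable {G : Type u} [Group G]

/-- The representation of `G ⧸ N` induced by a representation trivial on `N`. -/
noncomputable def quotientRep {V : Type v} [AddCommGroup V] [Module ℂ V]
    (ρ : Representation ℂ G V) (N : Subgroup G) [N.Normal] (hN : ∀ n ∈ N, ρ n = 1) :
    Representation ℂ (G ⧸ N) V :=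
  QuotientGroup.lift N ρ (fun n hn => hN n hn)

theorem quotientRep_mk {V : Type v} [AddCommGroup V] [Module ℂ V]
    (ρ : Representation ℂ G V) (N : Subgroup G) [N.Normal] (hN : ∀ n ∈ N, ρ n = 1) (g : G) :
    quotientRep ρ N hN (QuotientGroup.mk g) = ρ g := rfl

theorem quotientRep_isIrreducible {V : Type v} [AddCommGroup V] [Module ℂ V]
    (ρ : Representation ℂ G V) [hirr : ρ.IsIrreducible] (N : Subgroup G) [N.Normal]
    (hN : ∀ n ∈ N, ρ n = 1) : (quotientRep ρ N hN).IsIrreducible := by
  haveI : Nontrivial V := irr_nontrivial ρ
  refine { exists_pair_ne := ⟨⊥, ⊤, ?_⟩, eq_bot_or_eq_top := ?_ }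
  · intro hbt
    have h1 : (⊥ : Submodule ℂ V) = ⊤ := congrArg Subrepresentation.toSubmodule hbt
    exact bot_ne_top h1
  · intro σ
    let σ' : Subrepresentation ρ :=
      ⟨σ.toSubmodule, fun g v hv => by
        have := σ.apply_mem_toSubmodule (QuotientGroup.mk g) hv
        rwa [quotientRep_mk] at this⟩
    rcases hirr.eq_bot_or_eq_top σ' with h | h
    · left
      apply Subrepresentation.toSubmodule_injective
      have h2 : σ'.toSubmodule = (⊥ : Subrepresentation ρ).toSubmodule :=
        congrArg Subrepresentation.toSubmodule h
      exact h2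
    · right
      apply Subrepresentation.toSubmodule_injective
      have h2 : σ'.toSubmodule = (⊤ : Subrepresentation ρ).toSubmodule :=
        congrArg Subrepresentation.toSubmodule h
      exact h2

/-- The degree of an irreducible representation trivial on `N` divides the index of `N`. -/
theorem finrank_dvd_index_of_ker [Finite G] {V : Type v} [AddCommGroup V] [Module ℂ V]
    [FiniteDimensional ℂ V] (ρ : Representation ℂ G V) [hirr : ρ.IsIrreducible]
    (N : Subgroup G) [N.Normal] (hN : ∀ n ∈ N, ρ n = 1) : finrank ℂ V ∣ N.index := by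
  haveI := quotientRep_isIrreducible ρ N hN
  have := finrank_dvd_card (quotientRep ρ N hN)
  rwa [← Subgroup.index_eq_card] at this

end Cfsg.Agent.Helper6
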