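import Mathlib
import Cfsg.Prelude.Def_Characters
import Cfsg.Agent.Helper6.CentralChar
import Cfsg.Agent.Helper6.IrrCount

/-!
# Vanishing of characters at elements acting fixed-point-freely on a normal subgroup
-/

set_option autoImplicit false
set_option linter.style.haveILetI false

namespace Cfsg.Agent.Helper6

open Module Representation
open scoped ComplexConjugate

universe u v

variable {G : Type u} [Group G]

/-- If `g` centralizes no non-identity element of the normal subgroup `H`, every element of the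
coset `gH` is conjugate to `g`. -/
theorem isConj_mul_of_centralizer_trivial [Finite G] (H : Subgroup G) [hH : H.Normal] (g : G)
    (hg : ∀ h ∈ H, h * g = g * h → h = 1) (h : G) (hh : h ∈ H) : IsConj g (g * h) := by
  let φ : H → H := fun u => ⟨g⁻¹ * u * g * (u : G)⁻¹, by
    have h1 : g⁻¹ * u * g ∈ H := by
      have := hH.conj_mem u u.2 g⁻¹
      rwa [inv_inv] at this
    exact H.mul_mem h1 (H.inv_mem u.2)⟩
  have hφinj : Function.Injective φ := by
    intro u v huv
    have h1 : g⁻¹ * u * g * (u : G)⁻¹ = g⁻¹ * v * g * (v : G)⁻¹ := congrArg Subtype.val huv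
    have h2 : ((v : G)⁻¹ * u) * g = g * ((v : G)⁻¹ * u) := by
      have h3 : (u : G) * g * (u : G)⁻¹ = v * g * (v : G)⁻¹ := by
        have := congrArg (fun x => g * x) h1
        simpa [mul_assoc] using this
      calc ((v : G)⁻¹ * u) * g = (v : G)⁻¹ * ((u : G) * g * (u : G)⁻¹) * u := by group
        _ = (v : G)⁻¹ * (v * g * (v : G)⁻¹) * u := by rw [h3]
        _ = g * ((v : G)⁻¹ * u) := by group
    have h4 := hg _ (H.mul_mem (H.inv_mem v.2) u.2) h2
    apply Subtype.ext
    have : (u : G) = v := by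
      calc (u : G) = v * ((v : G)⁻¹ * u) := by group
        _ = v := by rw [h4, mul_one]
    exact this
  have hφsurj : Function.Surjective φ := Finite.injective_iff_surjective.mp hφinj
  obtain ⟨u, hu⟩ := hφsurj ⟨h, hh⟩
  have hu' : g⁻¹ * u * g * (u : G)⁻¹ = h := congrArg Subtype.val hu
  rw [isConj_iff]
  refine ⟨u, ?_⟩
  rw [← hu']
  group

/-- For an irreducible representation whose kernel does not contain the normal subgroup `H`,
the sum of the character over any coset of `H` vanishes. -/
theorem sum_coset_char_eq_zero [Finite G] {V : Type v} [AddCommGroup V] [Module ℂ V]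
    [FiniteDimensional ℂ V] (ρ : Representation ℂ G V) [hirr : ρ.IsIrreducible] (H : Subgroup G)
    [hH : H.Normal] [Fintype H] (hker : ∃ h ∈ H, ρ h ≠ LinearMap.id) (x : G) :
    ∑ h : H, ρ.character (x * h) = 0 := by
  classical
  haveI := Fintype.ofFinite G
  let S : Finset G := Finset.univ.filter (fun y => y ∈ H)
  obtain ⟨c, -, hc, -⟩ := exists_central_value ρ S (by
    intro a y hy
    simp only [S, Finset.mem_filter, Finset.mem_univ, true_and] at hy ⊢
    exact hH.conj_mem y hy a)
  have hsumS : ∑ y ∈ S, ρ y = ∑ h : H, ρ (h : G) := by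
    rw [Finset.sum_subtype S (p := fun y => y ∈ H) (by intro y; simp [S])]
  rw [hsumS] at hc
  -- c = 0
  have hc0 : c = 0 := by
    by_contra hne
    obtain ⟨h₀, hh₀, hρ⟩ := hker
    apply hρ
    have h1 : (∑ h : H, ρ (h : G)) * ρ h₀ = ∑ h : H, ρ (h : G) := by
      rw [Finset.sum_mul]
      apply Fintype.sum_equiv (Equiv.mulRight (⟨h₀, hh₀⟩ : H))
      intro h
      rw [← map_mul]
      rfl
    rw [hc] at h1
    have h2 : c • ρ h₀ = c • (LinearMap.id : V →ₗ[ℂ] V) := by
      rw [← h1]
      ext v
      simp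
    exact smul_right_injective _ hne h2
  rw [hc0, zero_smul] at hc
  have h3 : ∑ h : H, ρ (x * h) = 0 := by
    have : ∑ h : H, ρ (x * h) = ρ x * ∑ h : H, ρ (h : G) := by
      rw [Finset.mul_sum]
      apply Finset.sum_congr rfl
      intro h _
      rw [map_mul]
    rw [this, hc, mul_zero]
  have h4 := congrArg (LinearMap.trace ℂ V) h3
  rw [map_sum, map_zero] at h4
  exact h4

/-- If `g` centralizes no non-identity element of the normal subgroup `H`, then every irreducible
character whose kernel does not contain `H` vanishes at `g`. -/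
theorem char_eq_zero_of_centralizer_trivial [Finite G] {V : Type v} [AddCommGroup V] [Module ℂ V]
    [FiniteDimensional ℂ V] (ρ : Representation ℂ G V) [hirr : ρ.IsIrreducible] (H : Subgroup G)
    [hH : H.Normal] (hker : ∃ h ∈ H, ρ h ≠ LinearMap.id) (g : G)
    (hg : ∀ h ∈ H, h * g = g * h → h = 1) : ρ.character g = 0 := by
  classical
  haveI := Fintype.ofFinite G
  haveI : Fintype H := Fintype.ofFinite H
  haveI : Finite (Cfsg.IrrCharacter G) := irr_finite
  haveI : Fintype (Cfsg.IrrCharacter G) := Fintype.ofFinite _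
  -- dichotomy for irreducible characters
  have hdich : ∀ χ : Cfsg.IrrCharacter G,
      (∀ h : H, (χ : G → ℂ) (g * h) = (χ : G → ℂ) g) ∨ ∑ h : H, (χ : G → ℂ) (g * h) = 0 := by
    intro χ
    obtain ⟨n, σ, hσirr, hσ⟩ := χ.2
    haveI := hσirr
    by_cases htriv : ∀ h ∈ H, σ h = LinearMap.id
    · left
      intro h
      rw [← hσ]
      unfold Representation.character
      rw [map_mul, htriv h h.2]
      rfl
    · right
      push Not at htriv
      rw [← hσ]
      exact sum_coset_char_eq_zero σ H htriv g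
  -- the double sum
  have hA : ∑ χ : Cfsg.IrrCharacter G, (∑ h : H, (χ : G → ℂ) (g * h)) * conj ((χ : G → ℂ) g) =
      (Nat.card H : ℂ) * (Nat.card (Subgroup.centralizer ({g} : Set G)) : ℂ) := by
    simp_rw [Finset.sum_mul]
    rw [Finset.sum_comm]
    have : ∀ h : H, ∑ χ : Cfsg.IrrCharacter G, (χ : G → ℂ) (g * h) * conj ((χ : G → ℂ) g) =
        (Nat.card (Subgroup.centralizer ({g} : Set G)) : ℂ) := by
      intro h
      have hconj : IsConj g (g * h) := isConj_mul_of_centralizer_trivial H g hg h h.2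
      have h1 := column_orthogonality_aux g (g * (h : G))
      rw [if_pos hconj] at h1
      have h2 := congrArg conj h1
      rw [map_sum, Complex.conj_natCast] at h2
      rw [← h2]
      apply Finset.sum_congr rfl
      intro χ _
      rw [map_mul, Complex.conj_conj, mul_comm]
    simp_rw [this]
    rw [Finset.sum_const, Finset.card_univ, nsmul_eq_mul, ← Nat.card_eq_fintype_card]
  have hB := column_orthogonality_aux g g
  rw [if_pos (IsConj.refl g)] at hB
  -- split according to the dichotomy
  have hterm : ∀ χ : Cfsg.IrrCharacter G,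
      (∑ h : H, (χ : G → ℂ) (g * h)) * conj ((χ : G → ℂ) g) =
      (Nat.card H : ℂ) * (if ∑ h : H, (χ : G → ℂ) (g * h) = 0 then 0 else
        (χ : G → ℂ) g * conj ((χ : G → ℂ) g)) := by
    intro χ
    split_ifs with h0
    · rw [h0, zero_mul, mul_zero]
    · rcases hdich χ with h1 | h1
      · simp_rw [h1]
        rw [Finset.sum_const, Finset.card_univ, nsmul_eq_mul, ← Nat.card_eq_fintype_card]
        ring
      · exact absurd h1 h0
  simp_rw [hterm] at hA
  rw [← Finset.mul_sum] at hA
  have hH0 : (Nat.card H : ℂ) ≠ 0 := by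
    have : 0 < Nat.card H := Nat.card_pos
    exact_mod_cast this.ne'
  have hA' := mul_left_cancel₀ hH0 hA
  -- so the terms with vanishing coset sum contribute zero
  have hdiff : ∑ χ : Cfsg.IrrCharacter G, (if ∑ h : H, (χ : G → ℂ) (g * h) = 0 then
      (χ : G → ℂ) g * conj ((χ : G → ℂ) g) else 0) = 0 := by
    have hsplit : ∀ χ : Cfsg.IrrCharacter G, (χ : G → ℂ) g * conj ((χ : G → ℂ) g) =
        (if ∑ h : H, (χ : G → ℂ) (g * h) = 0 then 0 else
          (χ : G → ℂ) g * conj ((χ : G → ℂ) g)) +
        (if ∑ h : H, (χ : G → ℂ) (g * h) = 0 then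
          (χ : G → ℂ) g * conj ((χ : G → ℂ) g) else 0) := by
      intro χ
      split_ifs <;> simp
    rw [Finset.sum_congr rfl (fun χ _ => hsplit χ), Finset.sum_add_distrib, hA'] at hB
    exact add_left_cancel (a := (Nat.card (Subgroup.centralizer ({g} : Set G)) : ℂ))
      (by rw [hB, add_zero])
  -- all terms are nonnegative reals
  have hnonneg : ∀ χ : Cfsg.IrrCharacter G, (if ∑ h : H, (χ : G → ℂ) (g * h) = 0 then
      (χ : G → ℂ) g * conj ((χ : G → ℂ) g) else 0) =
      ((if ∑ h : H, (χ : G → ℂ) (g * h) = 0 then ‖(χ : G → ℂ) g‖ ^ 2 else 0 : ℝ) : ℂ) := by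
    intro χ
    split_ifs
    · rw [Complex.mul_conj, Complex.normSq_eq_norm_sq]
    · simp
  simp_rw [hnonneg] at hdiff
  have hdiffR : ∑ χ : Cfsg.IrrCharacter G,
      (if ∑ h : H, (χ : G → ℂ) (g * h) = 0 then ‖(χ : G → ℂ) g‖ ^ 2 else 0 : ℝ) = 0 := by
    exact_mod_cast hdiff
  have hall := (Finset.sum_eq_zero_iff_of_nonneg (fun χ _ => by
    split_ifs
    · positivity
    · exact le_refl _)).mp hdiffR
  -- apply to our χ
  let χ₀ : Cfsg.IrrCharacter G := ⟨ρ.character, isIrrCharacter_of_rep ρ hirr⟩
  have h0 : ∑ h : H, (χ₀ : G → ℂ) (g * h) = 0 := sum_coset_char_eq_zero ρ H hker g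
  have := hall χ₀ (Finset.mem_univ _)
  rw [if_pos h0] at this
  have hn : ‖(χ₀ : G → ℂ) g‖ = 0 := by
    exact pow_eq_zero_iff (n := 2) (by norm_num) |>.mp this
  exact norm_eq_zero.mp hn

end Cfsg.Agent.Helper6
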