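import Mathlib
import Cfsg.Prelude.Def_Characters
import Cfsg.Prelude.Def_Blocks
import Cfsg.Agent.Helper6.QuotientRep
import Cfsg.Agent.Helper6.VanishOff
import Cfsg.Agent.Helper6.Regular
import Cfsg.Agent.Helper6.IrrCount
import Cfsg.Agent.Helper6.IrrDegree
import Cfsg.Agent.Helper6.IrrBasis

/-!
# Codegrees of irreducible characters
-/

set_option autoImplicit false
set_option linter.style.haveILetI false

namespace Cfsg.Agent.Helper6

open Module Representation ComplexConjugate

universe u v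

variable {G : Type u} [Group G]

/-- the kernel of a character as a set of elements -/
theorem charDegree_rep {n : ℕ} (ρ : Representation ℂ G (Fin n → ℂ)) :
    Cfsg.charDegree ρ.character = n := by
  unfold Cfsg.charDegree
  rw [Representation.char_one]
  simp

/-- Data for the kernel of an irreducible character: a normal subgroup `K` with underlying set
`{g | χ g = χ 1}` and such that `χ 1` divides the index. -/
theorem exists_kernel_data [Finite G] {χ : G → ℂ} (hχ : Cfsg.IsIrrCharacter G χ) :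
    ∃ K : Subgroup G, K.Normal ∧ (∀ g, g ∈ K ↔ χ g = χ 1) ∧ 0 < Cfsg.charDegree χ ∧
      χ 1 = (Cfsg.charDegree χ : ℂ) ∧ Cfsg.charDegree χ ∣ K.index := by
  obtain ⟨n, ρ, hirr, rfl⟩ := hχ
  refine ⟨MonoidHom.ker ρ, MonoidHom.normal_ker _, ?_, ?_, ?_, ?_⟩
  · intro g
    rw [MonoidHom.mem_ker, Representation.char_one, char_eq_finrank_iff]
    rfl
  · rw [charDegree_rep]
    haveI : Nontrivial (Fin n → ℂ) := irr_nontrivial ρ
    have : 0 < finrank ℂ (Fin n → ℂ) := Module.finrank_pos
    simpa using this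
  · rw [charDegree_rep, Representation.char_one]
    simp
  · rw [charDegree_rep]
    haveI : (MonoidHom.ker ρ).Normal := MonoidHom.normal_ker _
    have := finrank_dvd_index_of_ker ρ (MonoidHom.ker ρ) (fun n hn => MonoidHom.mem_ker.mp hn)
    simpa using this

/-- The codegree expression in terms of kernel data. -/
theorem codegree_eq [Finite G] {χ : G → ℂ} (_hχ : Cfsg.IsIrrCharacter G χ) (K : Subgroup G)
    (hK : ∀ g, g ∈ K ↔ χ g = χ 1) (_hd : 0 < Cfsg.charDegree χ) :
    Nat.card G / (Nat.card {g : G // χ g = χ 1} * Cfsg.charDegree χ) =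
      K.index / Cfsg.charDegree χ := by
  have h1 : Nat.card {g : G // χ g = χ 1} = Nat.card K := by
    apply Nat.card_congr
    exact Equiv.subtypeEquivRight (fun g => (hK g).symm)
  rw [h1, ← Nat.div_div_eq_div_mul]
  congr 1
  rw [← Subgroup.card_mul_index K]
  exact Nat.mul_div_cancel_left _ Nat.card_pos

/-- A `p`-subgroup lies in every normal subgroup of index prime to `p`. -/
theorem IsPGroup_le_of_normal_of_not_dvd_index [Finite G] {p : ℕ} [hp : Fact p.Prime]
    {P : Subgroup G} (hP : IsPGroup p P) (K : Subgroup G) [K.Normal] (hK : ¬ p ∣ K.index) :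
    P ≤ K := by
  intro g hg
  obtain ⟨k, hk⟩ := hP ⟨g, hg⟩
  have hk' : g ^ p ^ k = 1 := by
    have := congrArg Subtype.val hk
    simpa using this
  have h1 : orderOf (QuotientGroup.mk' K g) ∣ p ^ k := by
    apply orderOf_dvd_of_pow_eq_one
    rw [← map_pow, hk', map_one]
  have h2 : orderOf (QuotientGroup.mk' K g) ∣ K.index := by
    rw [Subgroup.index_eq_card]
    exact orderOf_dvd_natCard _
  have hcop : Nat.Coprime (p ^ k) K.index :=
    Nat.Coprime.pow_left _ ((Nat.Prime.coprime_iff_not_dvd hp.out).mpr hK)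
  have h3 : orderOf (QuotientGroup.mk' K g) = 1 := Nat.eq_one_of_dvd_coprimes hcop h1 h2
  rw [orderOf_eq_one_iff] at h3
  exact (QuotientGroup.eq_one_iff g).mp h3

/-- Sum over a normal subgroup of an irreducible character. -/
theorem sum_normal_irr [Finite G] (N : Subgroup G) [hN : N.Normal] [Fintype N] {χ : G → ℂ}
    (hχ : Cfsg.IsIrrCharacter G χ) [Decidable (∀ n ∈ N, χ n = χ 1)] :
    ∑ n : N, χ n = if (∀ n ∈ N, χ n = χ 1) then (Nat.card N : ℂ) * χ 1 else 0 := by
  obtain ⟨m, ρ, hirr, rfl⟩ := hχ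
  split_ifs with h
  · have : ∀ n : N, ρ.character n = ρ.character 1 := fun n => h n n.2
    simp only [this, Finset.sum_const, Finset.card_univ, nsmul_eq_mul]
    rw [Nat.card_eq_fintype_card]
  · push Not at h
    obtain ⟨n, hn, hne⟩ := h
    have hker : ∃ h ∈ N, ρ h ≠ LinearMap.id := by
      refine ⟨n, hn, ?_⟩
      intro hid
      apply hne
      rw [Representation.char_one]
      exact (char_eq_finrank_iff ρ n).mpr hid
    have := sum_coset_char_eq_zero ρ N hker 1
    simpa using this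

/-- The sum of the squares of the degrees of the irreducible characters with `N` in the kernel
is the index of `N`. -/
theorem sum_sq_degrees_of_le_ker [Finite G] [Fintype (Cfsg.IrrCharacter G)] (N : Subgroup G)
    [hN : N.Normal] [DecidablePred fun χ : Cfsg.IrrCharacter G => ∀ n ∈ N, (χ : G → ℂ) n =
      (χ : G → ℂ) 1] :
    ∑ χ ∈ Finset.univ.filter (fun χ : Cfsg.IrrCharacter G => ∀ n ∈ N, (χ : G → ℂ) n =
      (χ : G → ℂ) 1), Cfsg.charDegree (χ : G → ℂ) ^ 2 = N.index := by
  classical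
  haveI := Fintype.ofFinite G
  haveI : Fintype N := Fintype.ofFinite N
  have h1 : ∑ n : N, ∑ χ : Cfsg.IrrCharacter G, (χ : G → ℂ) 1 * (χ : G → ℂ) n =
      (Nat.card G : ℂ) := by
    simp only [sum_degree_mul_irr]
    rw [Finset.sum_eq_single (1 : N)]
    · simp
    · intro n _ hn
      rw [if_neg]
      intro h
      apply hn
      exact Subtype.ext h
    · intro h
      exact absurd (Finset.mem_univ _) h
  rw [Finset.sum_comm] at h1
  simp only [← Finset.mul_sum] at h1
  have h2 : ∀ χ : Cfsg.IrrCharacter G, (χ : G → ℂ) 1 * ∑ n : N, (χ : G → ℂ) n =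
      if (∀ n ∈ N, (χ : G → ℂ) n = (χ : G → ℂ) 1) then
        (Nat.card N : ℂ) * ((Cfsg.charDegree (χ : G → ℂ) ^ 2 : ℕ) : ℂ) else 0 := by
    intro χ
    rw [sum_normal_irr N χ.2]
    obtain ⟨K, -, -, -, hd, -⟩ := exists_kernel_data χ.2
    split_ifs
    · rw [hd]
      push_cast
      ring
    · rw [mul_zero]
  simp only [h2] at h1
  rw [← Finset.sum_filter, ← Finset.mul_sum] at h1
  have h3 : Nat.card N * ∑ χ ∈ Finset.univ.filter (fun χ : Cfsg.IrrCharacter G => ∀ n ∈ N,
      (χ : G → ℂ) n = (χ : G → ℂ) 1), Cfsg.charDegree (χ : G → ℂ) ^ 2 = Nat.card G := by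
    have : ((Nat.card N * ∑ χ ∈ Finset.univ.filter (fun χ : Cfsg.IrrCharacter G => ∀ n ∈ N,
      (χ : G → ℂ) n = (χ : G → ℂ) 1), Cfsg.charDegree (χ : G → ℂ) ^ 2 : ℕ) : ℂ) =
        (Nat.card G : ℂ) := by
      rw [← h1]
      push_cast
      rfl
    exact_mod_cast this
  rw [← Subgroup.card_mul_index N] at h3
  exact Nat.eq_of_mul_eq_mul_left Nat.card_pos h3

/-- The sum of the squares of the degrees, in `ℕ`. -/
theorem sum_sq_charDegree [Finite G] [Fintype (Cfsg.IrrCharacter G)] :
    ∑ χ : Cfsg.IrrCharacter G, Cfsg.charDegree (χ : G → ℂ) ^ 2 = Nat.card G := by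
  classical
  haveI := Fintype.ofFinite G
  have h := sum_sq_degrees (G := G)
  have : ((∑ χ : Cfsg.IrrCharacter G, Cfsg.charDegree (χ : G → ℂ) ^ 2 : ℕ) : ℂ) =
      (Nat.card G : ℂ) := by
    rw [← h]
    push_cast
    apply Finset.sum_congr rfl
    intro χ _
    obtain ⟨K, -, -, -, hd, -⟩ := exists_kernel_data χ.2
    rw [hd]
  exact_mod_cast this

/-- A prime divides the order iff it divides some codegree. -/
theorem prime_dvd_card_iff_dvd_codegree [Finite G] (p : ℕ) (hp : p.Prime) :
    p ∣ Nat.card G ↔ ∃ χ : Cfsg.IrrCharacter G,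
      p ∣ (Nat.card G / (Nat.card {g : G // (χ : G → ℂ) g = (χ : G → ℂ) 1} *
        Cfsg.charDegree (χ : G → ℂ))) := by
  classical
  haveI : Fact p.Prime := ⟨hp⟩
  haveI : Finite (Cfsg.IrrCharacter G) := irr_finite
  haveI : Fintype (Cfsg.IrrCharacter G) := Fintype.ofFinite _
  constructor
  · intro hpG
    by_contra hcon
    push Not at hcon
    obtain ⟨P⟩ : Nonempty (Sylow p G) := inferInstance
    set N : Subgroup G := Subgroup.normalClosure (P : Set G) with hNdef
    haveI : N.Normal := Subgroup.normalClosure_normal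
    have hPN : (P : Subgroup G) ≤ N := Subgroup.le_normalClosure
    have hNidx : ¬ p ∣ N.index := fun h =>
      P.not_dvd_index (h.trans (Subgroup.index_dvd_of_le hPN))
    have hkey : ∀ χ : Cfsg.IrrCharacter G, ¬ (∀ n ∈ N, (χ : G → ℂ) n = (χ : G → ℂ) 1) →
        p ∣ Cfsg.charDegree (χ : G → ℂ) := by
      intro χ hnot
      by_contra hpd
      apply hnot
      obtain ⟨K, hKn, hK, hd0, hd, hdvd⟩ := exists_kernel_data χ.2
      have hc := hcon χ
      rw [codegree_eq χ.2 K hK hd0] at hc
      have hidx : ¬ p ∣ K.index := by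
        obtain ⟨c, hc'⟩ := hdvd
        rw [hc', Nat.mul_div_cancel_left _ hd0] at hc
        rw [hc']
        exact Nat.Prime.not_dvd_mul hp hpd hc
      have hPK : (P : Subgroup G) ≤ K := IsPGroup_le_of_normal_of_not_dvd_index P.2 K hidx
      have hNK : N ≤ K := Subgroup.normalClosure_le_normal hPK
      intro n hn
      exact (hK n).mp (hNK hn)
    have h1 := sum_sq_charDegree (G := G)
    have h2 := sum_sq_degrees_of_le_ker (G := G) N
    rw [← Finset.sum_filter_add_sum_filter_not Finset.univ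
      (fun χ : Cfsg.IrrCharacter G => ∀ n ∈ N, (χ : G → ℂ) n = (χ : G → ℂ) 1), h2] at h1
    have h3 : p ∣ ∑ χ ∈ Finset.univ.filter (fun χ : Cfsg.IrrCharacter G =>
        ¬ ∀ n ∈ N, (χ : G → ℂ) n = (χ : G → ℂ) 1), Cfsg.charDegree (χ : G → ℂ) ^ 2 := by
      apply Finset.dvd_sum
      intro χ hχ
      rw [Finset.mem_filter] at hχ
      exact dvd_pow (hkey χ hχ.2) two_ne_zero
    apply hNidx
    rw [← h1] at hpG
    exact (Nat.dvd_add_left h3).mp hpG
  · rintro ⟨χ, hχ⟩
    obtain ⟨K, hKn, hK, hd0, hd, hdvd⟩ := exists_kernel_data χ.2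
    rw [codegree_eq χ.2 K hK hd0] at hχ
    have h1 : K.index / Cfsg.charDegree (χ : G → ℂ) ∣ K.index := Nat.div_dvd_of_dvd hdvd
    exact hχ.trans (h1.trans (Subgroup.index_dvd_card K))

end Cfsg.Agent.Helper6
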