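import Mathlib
import Cfsg.Prelude.Def_Characters
import Cfsg.Agent.Helper6.IrrCrit
import Cfsg.Agent.Helper6.Linear

/-!
# Some degree estimates
-/

set_option autoImplicit false
set_option linter.style.haveILetI false

namespace Cfsg.Agent.Helper6

open Module Representation
open scoped ComplexConjugate

universe u v

variable {G : Type u} [Group G]

theorem indFun_apply_one [Fintype G] (H : Subgroup G) (θ : H → ℂ) :
    Cfsg.indFun H θ 1 = (H.index : ℂ) * θ 1 := by
  rw [indFun_apply]
  have : ∀ x : G, Cfsg.extendByZero H θ (x⁻¹ * 1 * x) = θ 1 := by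
    intro x
    have h1 : x⁻¹ * 1 * x = ((1 : H) : G) := by simp
    rw [h1, extendByZero_coe]
  simp_rw [this]
  rw [Finset.sum_const, Finset.card_univ, nsmul_eq_mul, ← Nat.card_eq_fintype_card,
    ← H.index_mul_card]
  have hH : (Nat.card H : ℂ) ≠ 0 := by
    have : 0 < Nat.card H := Nat.card_pos
    exact_mod_cast this.ne'
  push_cast
  field_simp

/-- A nonzero character has an irreducible constituent. -/
theorem exists_irr_constituent [Fintype G] {ψ : G → ℂ} (hψ : Cfsg.IsCharacter G ψ)
    (hne : ψ ≠ 0) : ∃ χ : G → ℂ, Cfsg.IsIrrCharacter G χ ∧ Cfsg.classInner ψ χ ≠ 0 := by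
  classical
  haveI : Finite (Cfsg.IrrCharacter G) := irr_finite
  haveI : Fintype (Cfsg.IrrCharacter G) := Fintype.ofFinite _
  by_contra hcon
  push Not at hcon
  apply hne
  rw [classFunction_expansion ψ (IsCharacter.isClassFunction hψ)]
  apply Finset.sum_eq_zero
  intro χ _
  rw [hcon χ χ.2, zero_smul]

/-- The degree of an irreducible representation is at most the index of an abelian subgroup. -/
theorem finrank_le_index_of_abelian [Finite G] {V : Type v} [AddCommGroup V] [Module ℂ V]
    [FiniteDimensional ℂ V] (ρ : Representation ℂ G V) [hirr : ρ.IsIrreducible]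
    (A : Subgroup G) (hA : ∀ a ∈ A, ∀ b ∈ A, a * b = b * a) : finrank ℂ V ≤ A.index := by
  classical
  haveI := Fintype.ofFinite G
  haveI : Fintype A := Fintype.ofFinite A
  have hχ : Cfsg.IsIrrCharacter G ρ.character := isIrrCharacter_of_rep ρ hirr
  have hres : Cfsg.IsCharacter A (fun a : A => ρ.character a) :=
    IsCharacter.restrict A (IsIrrCharacter.isCharacter hχ)
  by_cases h0 : finrank ℂ V = 0
  · rw [h0]; exact Nat.zero_le _
  have hne : (fun a : A => ρ.character a) ≠ 0 := by
    intro h
    have h1 := congrFun h 1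
    simp only [Subgroup.coe_one, Pi.zero_apply, char_one] at h1
    exact h0 (by exact_mod_cast h1)
  obtain ⟨lam, hlam, hinner⟩ := exists_irr_constituent hres hne
  have hcommA : ∀ a b : A, a * b = b * a := by
    intro a b
    exact Subtype.ext (hA a a.2 b b.2)
  have hlam1 : lam 1 = 1 := (comm_iff_forall_irr_degree_one.mp hcommA) ⟨lam, hlam⟩
  have hind : Cfsg.IsCharacter G (Cfsg.indFun A lam) :=
    isCharacter_indFun A lam (IsIrrCharacter.isCharacter hlam)
  have hfr : Cfsg.classInner (Cfsg.indFun A lam) ρ.character ≠ 0 := by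
    rw [frobenius_reciprocity A lam _ (IsCharacter.isClassFunction (IsIrrCharacter.isCharacter hχ)),
      classInner_conj_symm]
    intro h
    apply hinner
    have := congrArg conj h
    rwa [Complex.conj_conj, map_zero] at this
  obtain ⟨a, b, ha, hb, hab⟩ := degree_le_of_classInner_ne_zero hind hχ hfr
  rw [char_one] at ha
  rw [indFun_apply_one, hlam1, mul_one] at hb
  have ha' : finrank ℂ V = a := by exact_mod_cast ha
  have hb' : A.index = b := by exact_mod_cast hb
  omega

/-- If a character vanishes off the identity on a subgroup, the order of the subgroup divides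
its degree. -/
theorem card_dvd_degree_of_vanishing [Finite G] (P : Subgroup G) (χ : G → ℂ)
    (hχ : Cfsg.IsCharacter G χ) (hvan : ∀ g : G, g ∈ P → g ≠ 1 → χ g = 0) :
    ∃ k : ℕ, χ 1 = (Nat.card P : ℂ) * k := by
  classical
  haveI : Fintype P := Fintype.ofFinite P
  have hres : Cfsg.IsCharacter P (fun a : P => χ a) := IsCharacter.restrict P hχ
  obtain ⟨k, hk⟩ := classInner_char_char_nat hres (isCharacter_one (G := P))
  refine ⟨k, ?_⟩
  rw [← hk, classInner_def]
  have hsum : ∑ g : P, (fun a : P => χ a) g * conj ((fun _ : P => (1 : ℂ)) g) = χ 1 := by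
    rw [Finset.sum_eq_single (1 : P)]
    · simp
    · intro b _ hb
      have : χ (b : G) = 0 := hvan b b.2 (fun h => hb (Subtype.ext h))
      simp [this]
    · intro h
      exact absurd (Finset.mem_univ _) h
  rw [hsum]
  have hP : (Nat.card P : ℂ) ≠ 0 := by
    have : 0 < Nat.card P := Nat.card_pos
    exact_mod_cast this.ne'
  field_simp

end Cfsg.Agent.Helper6
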