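import Mathlib
import Cfsg.Prelude.Def_Characters
import Cfsg.Agent.Helper6.Degrees
import Cfsg.Agent.Helper6.DegreeDvd

/-!
# Faithful representations of small degree
-/

set_option autoImplicit false
set_option linter.style.haveILetI false

namespace Cfsg.Agent.Helper6

open Module Representation
open scoped ComplexConjugate

universe u v

variable {G : Type u} [Group G]

/-- Degree of an irreducible character divides the group order. -/
theorem IsIrrCharacter.degree_dvd_card [Finite G] {χ : G → ℂ} (hχ : Cfsg.IsIrrCharacter G χ) :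
    ∃ n : ℕ, χ 1 = n ∧ n ∣ Nat.card G ∧ 0 < n := by
  obtain ⟨n, ρ, hirr, rfl⟩ := hχ
  haveI := hirr
  refine ⟨n, by simp, ?_, ?_⟩
  · have := finrank_dvd_card ρ
    simpa using this
  · haveI : Nontrivial (Fin n → ℂ) := irr_nontrivial ρ
    have : 0 < finrank ℂ (Fin n → ℂ) := Module.finrank_pos
    simpa using this

/-- If all irreducible constituents of the character of a representation are linear, then
commutators act trivially. -/
theorem commutator_acts_trivially [Fintype G] {V : Type v} [AddCommGroup V] [Module ℂ V]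
    [FiniteDimensional ℂ V] (ρ : Representation ℂ G V)
    (hlin : ∀ ψ : G → ℂ, Cfsg.IsIrrCharacter G ψ → Cfsg.classInner ρ.character ψ ≠ 0 → ψ 1 = 1)
    (a b : G) : ρ (a * b * a⁻¹ * b⁻¹) = LinearMap.id := by
  classical
  haveI : Finite (Cfsg.IrrCharacter G) := irr_finite
  haveI : Fintype (Cfsg.IrrCharacter G) := Fintype.ofFinite _
  rw [← char_eq_finrank_iff, ← char_one ρ]
  have hcf := IsCharacter.isClassFunction (isCharacter_of_rep ρ)
  have hexp := classFunction_expansion ρ.character hcf
  have h1 := congrFun hexp (a * b * a⁻¹ * b⁻¹)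
  have h2 := congrFun hexp 1
  rw [Finset.sum_apply] at h1 h2
  rw [h1, h2]
  apply Finset.sum_congr rfl
  intro ψ _
  simp only [Pi.smul_apply, smul_eq_mul]
  by_cases h0 : Cfsg.classInner ρ.character (ψ : G → ℂ) = 0
  · rw [h0, zero_mul, zero_mul]
  · congr 1
    have hψ1 := hlin ψ ψ.2 h0
    obtain ⟨lam, hlam⟩ := exists_hom_of_irr_degree_one ψ.2 hψ1
    rw [hlam]
    simp only [map_mul, map_inv, map_one, Units.val_one]
    have : lam a * lam b * (lam a)⁻¹ * (lam b)⁻¹ = 1 := by
      rw [mul_comm (lam a) (lam b), mul_inv_cancel_right, mul_inv_cancel]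
    rw [this, Units.val_one]

/-- A finite group with a faithful representation of degree less than every prime divisor of its
order is abelian. -/
theorem comm_of_faithful_small_degree [Finite G] {V : Type v} [AddCommGroup V] [Module ℂ V]
    [FiniteDimensional ℂ V] (ρ : Representation ℂ G V) (hfaithful : Function.Injective ρ)
    (hdeg : ∀ p : ℕ, p.Prime → p ∣ Nat.card G → finrank ℂ V < p) (a b : G) : a * b = b * a := by
  classical
  haveI := Fintype.ofFinite G
  have htriv : ρ (a * b * a⁻¹ * b⁻¹) = LinearMap.id := by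
    apply commutator_acts_trivially ρ
    intro ψ hψ hne
    obtain ⟨n, hn, hdvd, hpos⟩ := IsIrrCharacter.degree_dvd_card hψ
    obtain ⟨c, d, hc, hd, hcd⟩ := degree_le_of_classInner_ne_zero (isCharacter_of_rep ρ) hψ hne
    rw [char_one] at hd
    have hcn : c = n := by
      have : (c : ℂ) = n := by rw [← hc, ← hn]
      exact_mod_cast this
    have hdV : d = finrank ℂ V := by exact_mod_cast hd.symm
    rw [hn]
    by_contra hne1
    have hn1 : n ≠ 1 := by
      intro h
      apply hne1
      rw [h, Nat.cast_one]
    obtain ⟨p, hp, hpn⟩ := Nat.exists_prime_and_dvd hn1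
    have h1 := hdeg p hp (hpn.trans hdvd)
    have h2 : p ≤ n := Nat.le_of_dvd hpos hpn
    omega
  have h1 : ρ (a * b * a⁻¹ * b⁻¹) = ρ 1 := by rw [htriv, map_one]; rfl
  have h2 := hfaithful h1
  calc a * b = (a * b * a⁻¹ * b⁻¹) * (b * a) := by group
    _ = b * a := by rw [h2, one_mul]

end Cfsg.Agent.Helper6
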