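import Mathlib
import Cfsg.Prelude.Def_Characters
import Cfsg.Agent.Helper6.IrrCrit
import Cfsg.Agent.Helper6.SmallDegree

/-!
# Generalized characters of norm two vanishing at the identity
-/

set_option autoImplicit false
set_option linter.style.haveILetI false

namespace Cfsg.Agent.Helper6

open Module Representation
open scoped ComplexConjugate

universe u v

variable {G : Type u} [Group G]

theorem IsGeneralizedCharacter.isClassFunction {θ : G → ℂ}
    (h : Cfsg.IsGeneralizedCharacter G θ) : Cfsg.IsClassFunction G θ := by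
  obtain ⟨χ, ψ, hχ, hψ, rfl⟩ := h
  exact IsClassFunction.sub (IsCharacter.isClassFunction hχ) (IsCharacter.isClassFunction hψ)

/-- Inner products of generalized characters with irreducible characters are integers. -/
theorem IsGeneralizedCharacter.classInner_irr_int [Fintype G] {θ χ : G → ℂ}
    (h : Cfsg.IsGeneralizedCharacter G θ) (hχ : Cfsg.IsIrrCharacter G χ) :
    ∃ c : ℤ, Cfsg.classInner θ χ = c := by
  obtain ⟨α, β, hα, hβ, rfl⟩ := h
  obtain ⟨a, ha⟩ := classInner_char_char_nat hα (IsIrrCharacter.isCharacter hχ)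
  obtain ⟨b, hb⟩ := classInner_char_char_nat hβ (IsIrrCharacter.isCharacter hχ)
  refine ⟨(a : ℤ) - b, ?_⟩
  rw [classInner_sub_left, ha, hb]
  push_cast
  rfl

/-- A generalized character of norm `2` vanishing at `1` is a difference of two distinct
irreducible characters. -/
theorem exists_sub_of_norm_two [Fintype G] {θ : G → ℂ} (hθ : Cfsg.IsGeneralizedCharacter G θ)
    (hnorm : Cfsg.classInner θ θ = 2) (h1 : θ 1 = 0) :
    ∃ a b : G → ℂ, Cfsg.IsIrrCharacter G a ∧ Cfsg.IsIrrCharacter G b ∧ a ≠ b ∧ θ = a - b := by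
  classical
  haveI : Finite (Cfsg.IrrCharacter G) := irr_finite
  haveI : Fintype (Cfsg.IrrCharacter G) := Fintype.ofFinite _
  have hcf := IsGeneralizedCharacter.isClassFunction hθ
  have hc : ∀ χ : Cfsg.IrrCharacter G, ∃ c : ℤ, Cfsg.classInner θ (χ : G → ℂ) = c := fun χ =>
    IsGeneralizedCharacter.classInner_irr_int hθ χ.2
  choose c hc using hc
  have hc' : ∀ χ : Cfsg.IrrCharacter G, Cfsg.classInner (χ : G → ℂ) θ = c χ := by
    intro χ
    rw [classInner_conj_symm, hc, map_intCast]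
  have hsumC : ((∑ χ : Cfsg.IrrCharacter G, c χ * c χ : ℤ) : ℂ) = 2 := by
    rw [← hnorm, classInner_self_expansion θ hcf θ]
    push_cast
    apply Finset.sum_congr rfl
    intro χ _
    rw [hc, hc']
  have hsum : ∑ χ : Cfsg.IrrCharacter G, c χ * c χ = 2 := by exact_mod_cast hsumC
  -- first nonzero coefficient
  have hex1 : ∃ χ₁ : Cfsg.IrrCharacter G, c χ₁ ≠ 0 := by
    by_contra hcon
    push Not at hcon
    simp [hcon] at hsum
  obtain ⟨χ₁, hχ₁⟩ := hex1
  have hsplit1 := Finset.add_sum_erase Finset.univ (fun χ => c χ * c χ) (Finset.mem_univ χ₁)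
  rw [hsum] at hsplit1
  have hnn : ∀ s : Finset (Cfsg.IrrCharacter G), 0 ≤ ∑ χ ∈ s, c χ * c χ := fun s =>
    Finset.sum_nonneg (fun χ _ => mul_self_nonneg _)
  have hc1sq : c χ₁ * c χ₁ = 1 := by
    have hpos : 1 ≤ c χ₁ * c χ₁ := by
      have := mul_self_pos.mpr hχ₁
      omega
    have hle : c χ₁ * c χ₁ ≤ 2 := by
      have := hnn (Finset.univ.erase χ₁)
      omega
    by_contra hne
    have h2 : c χ₁ * c χ₁ = 2 := by omega
    have habs : |c χ₁| * |c χ₁| = 2 := by rw [← abs_mul, h2]; rfl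
    have : |c χ₁| ≤ 1 ∨ 2 ≤ |c χ₁| := by omega
    rcases this with h | h
    · have := abs_nonneg (c χ₁)
      nlinarith
    · nlinarith
  have hrest1 : ∑ χ ∈ Finset.univ.erase χ₁, c χ * c χ = 1 := by omega
  -- second nonzero coefficient
  have hex2 : ∃ χ₂ ∈ Finset.univ.erase χ₁, c χ₂ ≠ 0 := by
    by_contra hcon
    push Not at hcon
    rw [Finset.sum_eq_zero (fun χ hχ => by rw [hcon χ hχ, mul_zero])] at hrest1
    exact zero_ne_one hrest1
  obtain ⟨χ₂, hχ₂mem, hχ₂⟩ := hex2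
  have hne12 : χ₂ ≠ χ₁ := (Finset.mem_erase.mp hχ₂mem).1
  have hsplit2 := Finset.add_sum_erase (Finset.univ.erase χ₁) (fun χ => c χ * c χ) hχ₂mem
  rw [hrest1] at hsplit2
  have hc2sq : c χ₂ * c χ₂ = 1 := by
    have hpos : 1 ≤ c χ₂ * c χ₂ := by
      have := mul_self_pos.mpr hχ₂
      omega
    have := hnn ((Finset.univ.erase χ₁).erase χ₂)
    omega
  have hrest2 : ∑ χ ∈ (Finset.univ.erase χ₁).erase χ₂, c χ * c χ = 0 := by omega
  have hothers : ∀ χ : Cfsg.IrrCharacter G, χ ≠ χ₁ → χ ≠ χ₂ → c χ = 0 := by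
    intro χ hn1 hn2
    have hmem : χ ∈ (Finset.univ.erase χ₁).erase χ₂ :=
      Finset.mem_erase.mpr ⟨hn2, Finset.mem_erase.mpr ⟨hn1, Finset.mem_univ _⟩⟩
    have := (Finset.sum_eq_zero_iff_of_nonneg (fun χ _ => mul_self_nonneg (c χ))).mp hrest2 χ hmem
    exact mul_self_eq_zero.mp this
  -- expansion of θ
  have hexp : θ = (c χ₁ : ℂ) • (χ₁ : G → ℂ) + (c χ₂ : ℂ) • (χ₂ : G → ℂ) := by
    conv_lhs => rw [classFunction_expansion θ hcf]
    rw [← Finset.add_sum_erase Finset.univ _ (Finset.mem_univ χ₁),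
      ← Finset.add_sum_erase (Finset.univ.erase χ₁) _ hχ₂mem, hc, hc]
    rw [Finset.sum_eq_zero, add_zero]
    intro χ hχ
    have hn2 : χ ≠ χ₂ := (Finset.mem_erase.mp hχ).1
    have hn1 : χ ≠ χ₁ := (Finset.mem_erase.mp (Finset.mem_erase.mp hχ).2).1
    rw [hc, hothers χ hn1 hn2, Int.cast_zero, zero_smul]
  -- signs
  have hsign1 : c χ₁ = 1 ∨ c χ₁ = -1 := by
    have : (c χ₁ - 1) * (c χ₁ + 1) = 0 := by ring_nf; linarith
    rcases mul_eq_zero.mp this with h | h
    · left; omega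
    · right; omega
  have hsign2 : c χ₂ = 1 ∨ c χ₂ = -1 := by
    have : (c χ₂ - 1) * (c χ₂ + 1) = 0 := by ring_nf; linarith
    rcases mul_eq_zero.mp this with h | h
    · left; omega
    · right; omega
  obtain ⟨d₁, hd₁, -, hd₁pos⟩ := IsIrrCharacter.degree_dvd_card χ₁.2
  obtain ⟨d₂, hd₂, -, hd₂pos⟩ := IsIrrCharacter.degree_dvd_card χ₂.2
  have hval : (c χ₁ : ℂ) * d₁ + (c χ₂ : ℂ) * d₂ = 0 := by
    have := congrFun hexp 1
    rw [h1] at this
    simp only [Pi.add_apply, Pi.smul_apply, smul_eq_mul, hd₁, hd₂] at this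
    exact this.symm
  have hvalZ : c χ₁ * d₁ + c χ₂ * d₂ = 0 := by exact_mod_cast hval
  have hne12' : (χ₁ : G → ℂ) ≠ (χ₂ : G → ℂ) := fun h => hne12 (Subtype.ext h).symm
  rcases hsign1 with s1 | s1 <;> rcases hsign2 with s2 | s2
  · exfalso
    rw [s1, s2] at hvalZ
    have h1' : (0 : ℤ) < d₁ := by exact_mod_cast hd₁pos
    have h2' : (0 : ℤ) < d₂ := by exact_mod_cast hd₂pos
    omega
  · refine ⟨χ₁, χ₂, χ₁.2, χ₂.2, hne12', ?_⟩
    rw [hexp, s1, s2]
    simp [sub_eq_add_neg]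
  · refine ⟨χ₂, χ₁, χ₂.2, χ₁.2, fun h => hne12' h.symm, ?_⟩
    rw [hexp, s1, s2]
    simp [sub_eq_add_neg, add_comm]
  · exfalso
    rw [s1, s2] at hvalZ
    have h1' : (0 : ℤ) < d₁ := by exact_mod_cast hd₁pos
    have h2' : (0 : ℤ) < d₂ := by exact_mod_cast hd₂pos
    omega


theorem classInner_irr_ite [Fintype G] {χ ψ : G → ℂ} (hχ : Cfsg.IsIrrCharacter G χ)
    (hψ : Cfsg.IsIrrCharacter G ψ) : Cfsg.classInner χ ψ = if χ = ψ then 1 else 0 := by
  split_ifs with h
  · subst h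
    exact classInner_irr_self hχ
  · exact classInner_irr_ne hχ hψ h

/-- Combinatorial core of the isometry lemma. -/
theorem all_eq_or_all_eq {ι X : Type*} (a b : ι → X)
    (h2 : ∀ i j, i ≠ j → (a i = a j ∨ b i = b j)) :
    (∀ i j, a i = a j) ∨ (∀ i j, b i = b j) ∨ ∃ i j, i ≠ j ∧ a i = a j ∧ b i = b j := by
  classical
  by_contra h
  push Not at h
  obtain ⟨⟨i, j, hij⟩, ⟨k, l, hkl⟩, h3⟩ := h
  have hij' : i ≠ j := fun e => hij (e ▸ rfl)
  have hb : b i = b j := (h2 i j hij').resolve_left hij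
  have hall : ∀ m, b m = b i := by
    intro m
    by_cases hmi : m = i
    · rw [hmi]
    by_cases hmj : m = j
    · rw [hmj, hb]
    rcases h2 m i hmi with h | h
    · rcases h2 m j hmj with h' | h'
      · exact absurd (h.symm.trans h') hij
      · rw [h', hb]
    · exact h
  exact hkl ((hall k).trans (hall l).symm)

theorem indicator_aux (p q r s : Prop) [Decidable p] [Decidable q] [Decidable r] [Decidable s]
    (h : ((if p then (1 : ℂ) else 0) - (if q then 1 else 0)) -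
      ((if r then 1 else 0) - (if s then 1 else 0)) = 1)
    (hpq : ¬(p ∧ q)) (hpr : ¬(p ∧ r)) (hqs : ¬(q ∧ s)) (hrs : ¬(r ∧ s)) :
    ¬q ∧ ¬r ∧ (p ∨ s) ∧ ¬(p ∧ s) := by
  by_cases hp : p <;> by_cases hq : q <;> by_cases hr : r <;> by_cases hs : s <;>
    simp only [hp, hq, hr, hs, if_true, if_false, and_self, and_true, and_false, not_true,
      not_false_iff, or_true, or_false, true_and] at * <;> norm_num at h

/-- Gram relation for differences of irreducible characters. -/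
theorem irr_diff_gram [Fintype G] {a b a' b' : G → ℂ} (ha : Cfsg.IsIrrCharacter G a)
    (hb : Cfsg.IsIrrCharacter G b) (ha' : Cfsg.IsIrrCharacter G a')
    (hb' : Cfsg.IsIrrCharacter G b') (hab : a ≠ b) (hab' : a' ≠ b')
    (h : Cfsg.classInner (a - b) (a' - b') = 1) :
    a ≠ b' ∧ b ≠ a' ∧ (a = a' ∨ b = b') ∧ ¬(a = a' ∧ b = b') := by
  classical
  rw [classInner_sub_left, classInner_sub_right, classInner_sub_right,
    classInner_irr_ite ha ha', classInner_irr_ite ha hb', classInner_irr_ite hb ha',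
    classInner_irr_ite hb hb'] at h
  exact indicator_aux _ _ _ _ h (fun ⟨h1, h2⟩ => hab' (h1.symm.trans h2))
    (fun ⟨h1, h2⟩ => hab (h1.trans h2.symm)) (fun ⟨h1, h2⟩ => hab (h1.trans h2.symm))
    (fun ⟨h1, h2⟩ => hab' (h1.symm.trans h2))

end Cfsg.Agent.Helper6
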