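import Mathlib
import Cfsg.Prelude.Def_Characters
import Cfsg.Agent.Helper6.NormTwo

/-!
# Generalized characters of norm one
-/

set_option autoImplicit false
set_option linter.style.haveILetI false

namespace Cfsg.Agent.Helper6

open Module Representation
open scoped ComplexConjugate

universe u v

variable {G : Type u} [Group G]

/-- A generalized character of norm `1` is an irreducible character up to sign. -/
theorem exists_signed_irr_of_norm_one [Fintype G] {θ : G → ℂ}
    (hθ : Cfsg.IsGeneralizedCharacter G θ) (hnorm : Cfsg.classInner θ θ = 1) :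
    ∃ χ : G → ℂ, Cfsg.IsIrrCharacter G χ ∧ (θ = χ ∨ θ = -χ) := by
  classical
  haveI : Finite (Cfsg.IrrCharacter G) := irr_finite
  haveI : Fintype (Cfsg.IrrCharacter G) := Fintype.ofFinite _
  have hcf := IsGeneralizedCharacter.isClassFunction hθ
  have hc : ∀ χ : Cfsg.IrrCharacter G, ∃ c : ℤ, Cfsg.classInner θ (χ : G → ℂ) = c := fun χ =>
    IsGeneralizedCharacter.classInner_irr_int hθ χ.2
  choose c hc using hc
  have hc' : ∀ χ : Cfsg.IrrCharacter G, Cfsg.classInner (χ : G → ℂ) θ = c χ := by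
    intro χ
    rw [classInner_conj_symm, hc, map_intCast]
  have hsumC : ((∑ χ : Cfsg.IrrCharacter G, c χ * c χ : ℤ) : ℂ) = 1 := by
    rw [← hnorm, classInner_self_expansion θ hcf θ]
    push_cast
    apply Finset.sum_congr rfl
    intro χ _
    rw [hc, hc']
  have hsum : ∑ χ : Cfsg.IrrCharacter G, c χ * c χ = 1 := by exact_mod_cast hsumC
  have hex1 : ∃ χ₁ : Cfsg.IrrCharacter G, c χ₁ ≠ 0 := by
    by_contra hcon
    push Not at hcon
    simp [hcon] at hsum
  obtain ⟨χ₁, hχ₁⟩ := hex1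
  have hsplit1 := Finset.add_sum_erase Finset.univ (fun χ => c χ * c χ) (Finset.mem_univ χ₁)
  rw [hsum] at hsplit1
  have hnn : 0 ≤ ∑ χ ∈ Finset.univ.erase χ₁, c χ * c χ :=
    Finset.sum_nonneg (fun χ _ => mul_self_nonneg _)
  have hpos : 1 ≤ c χ₁ * c χ₁ := by
    have := mul_self_pos.mpr hχ₁
    omega
  have hc1sq : c χ₁ * c χ₁ = 1 := by omega
  have hrest : ∑ χ ∈ Finset.univ.erase χ₁, c χ * c χ = 0 := by omega
  have hothers : ∀ χ : Cfsg.IrrCharacter G, χ ≠ χ₁ → c χ = 0 := by
    intro χ hn1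
    have hmem : χ ∈ Finset.univ.erase χ₁ := Finset.mem_erase.mpr ⟨hn1, Finset.mem_univ _⟩
    have := (Finset.sum_eq_zero_iff_of_nonneg (fun χ _ => mul_self_nonneg (c χ))).mp hrest χ hmem
    exact mul_self_eq_zero.mp this
  have hexp : θ = (c χ₁ : ℂ) • (χ₁ : G → ℂ) := by
    conv_lhs => rw [classFunction_expansion θ hcf]
    rw [← Finset.add_sum_erase Finset.univ _ (Finset.mem_univ χ₁), hc]
    rw [Finset.sum_eq_zero, add_zero]
    intro χ hχ
    have hn1 : χ ≠ χ₁ := (Finset.mem_erase.mp hχ).1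
    rw [hc, hothers χ hn1, Int.cast_zero, zero_smul]
  have hsign : c χ₁ = 1 ∨ c χ₁ = -1 := by
    have : (c χ₁ - 1) * (c χ₁ + 1) = 0 := by ring_nf; linarith
    rcases mul_eq_zero.mp this with h | h
    · left; omega
    · right; omega
  refine ⟨χ₁, χ₁.2, ?_⟩
  rcases hsign with s | s
  · left
    rw [hexp, s]
    simp
  · right
    rw [hexp, s]
    simp

end Cfsg.Agent.Helper6
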