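import Mathlib
import Cfsg.Prelude.Def_Characters
import Cfsg.Prelude.Def_Solvable
import Cfsg.Agent.Helper6.NormOne
import Cfsg.Agent.Helper6.Induced
import Cfsg.Agent.Helper6.Degrees
import Cfsg.Agent.Helper6.Regular
import Cfsg.Agent.Helper6.OddReal
import Cfsg.Agent.Helper6.IrrDegree
import Cfsg.Agent.Helper6.Codegree
import Cfsg.Agent.Helper1.Frobenius

/-!
# Frobenius' theorem on the kernel of a Frobenius group
-/

set_option autoImplicit false
set_option linter.style.haveILetI false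

namespace Cfsg.Agent.Helper6

open Module Representation
open scoped ComplexConjugate Pointwise

universe u v

variable {G : Type u} [Group G]

/-- TI property of a Frobenius complement in elementwise form. -/
theorem frob_mem_of_conj_mem {H : Subgroup G}
    (hTI : ∀ g : G, g ∉ H → H ⊓ (MulAut.conj g • H) = ⊥)
    {x h : G} (hh : h ∈ H) (h1 : h ≠ 1) (hx : x⁻¹ * h * x ∈ H) : x ∈ H := by
  by_contra hxH
  have hbot := hTI x hxH
  have hmem : h ∈ H ⊓ (MulAut.conj x • H) :=
    Subgroup.mem_inf.mpr ⟨hh, Cfsg.Agent.Helper1.mem_conj_smul.mpr hx⟩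
  rw [hbot, Subgroup.mem_bot] at hmem
  exact h1 hmem

/-- For a TI subgroup equal to its normalizer, induction of class functions restricts back to
the original function on nonidentity elements. -/
theorem frob_indFun_apply [Fintype G] (H : Subgroup G)
    (hTI : ∀ g : G, g ∉ H → H ⊓ (MulAut.conj g • H) = ⊥) (θ : H → ℂ)
    (hθ : Cfsg.IsClassFunction H θ) (h : H) (h1 : h ≠ 1) :
    Cfsg.indFun H θ (h : G) = θ h := by
  classical
  haveI : Fintype H := Fintype.ofFinite H
  rw [indFun_apply]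
  have hterm : ∀ x : G, Cfsg.extendByZero H θ (x⁻¹ * (h : G) * x) =
      Cfsg.extendByZero H (fun _ => θ h) x := by
    intro x
    by_cases hx : x ∈ H
    · rw [extendByZero_mem H _ hx]
      have hmem : x⁻¹ * (h : G) * x ∈ H := H.mul_mem (H.mul_mem (H.inv_mem hx) h.2) hx
      rw [extendByZero_mem H θ hmem]
      have := hθ h (⟨x, hx⟩⁻¹ : H)
      rw [← this]
      congr 1
      apply Subtype.ext
      simp
    · rw [extendByZero_not_mem H _ hx, extendByZero_not_mem]
      intro hmem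
      exact hx (frob_mem_of_conj_mem hTI h.2 (fun e => h1 (Subtype.ext e)) hmem)
  simp_rw [hterm]
  rw [sum_extendByZero, Finset.sum_const, Finset.card_univ, nsmul_eq_mul,
    ← Nat.card_eq_fintype_card, ← mul_assoc, inv_mul_cancel₀, one_mul]
  exact Nat.cast_ne_zero.mpr Nat.card_pos.ne'

/-- Induced functions vanish off the conjugates of the subgroup. -/
theorem frob_indFun_apply_off [Fintype G] (H : Subgroup G) (θ : H → ℂ) (g : G)
    (hg : ∀ x : G, g ∉ MulAut.conj x • H) : Cfsg.indFun H θ g = 0 := by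
  rw [indFun_apply]
  have : ∀ x : G, Cfsg.extendByZero H θ (x⁻¹ * g * x) = 0 := by
    intro x
    apply extendByZero_not_mem
    intro hmem
    exact hg x (Cfsg.Agent.Helper1.mem_conj_smul.mpr hmem)
  simp [this]

theorem isCharacter_nsmul_aux {χ : G → ℂ} (hχ : Cfsg.IsCharacter G χ)
    (n : ℕ) : Cfsg.IsCharacter G (n • χ) := by
  induction n with
  | zero => rw [zero_smul]; exact IsCharacter.zero
  | succ n ih => rw [succ_nsmul]; exact IsCharacter.add ih hχ

/-- Every irreducible character of a Frobenius complement extends to an irreducible character of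
the whole group which is constant on the Frobenius kernel. -/
theorem frob_extend_irr [Fintype G] (H : Subgroup G)
    (hTI : ∀ g : G, g ∉ H → H ⊓ (MulAut.conj g • H) = ⊥) (φ : H → ℂ)
    (hφ : Cfsg.IsIrrCharacter H φ) :
    ∃ χ : G → ℂ, Cfsg.IsIrrCharacter G χ ∧ (∀ h : H, χ h = φ h) ∧
      ∀ g : G, (∀ x : G, g ∉ MulAut.conj x • H) → χ g = χ 1 := by
  classical
  haveI : Fintype H := Fintype.ofFinite H
  by_cases htriv : φ = fun _ => 1
  · subst htriv
    exact ⟨fun _ => 1, isIrrCharacter_one, fun _ => rfl, fun _ _ => rfl⟩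
  obtain ⟨d, hdpos, hd⟩ := IsIrrCharacter.apply_one_pos hφ
  have hirr1H : Cfsg.IsIrrCharacter H (fun _ => (1 : ℂ)) := isIrrCharacter_one
  have hirr1G : Cfsg.IsIrrCharacter G (fun _ => (1 : ℂ)) := isIrrCharacter_one
  have hθ1 : (φ - (d : ℂ) • (fun _ : H => (1 : ℂ))) 1 = 0 := by
    simp [hd]
  have hθcf : Cfsg.IsClassFunction H (φ - (d : ℂ) • (fun _ : H => (1 : ℂ))) :=
    IsClassFunction.sub (IsCharacter.isClassFunction (IsIrrCharacter.isCharacter hφ))
      (IsClassFunction.smul _ (IsCharacter.isClassFunction (IsIrrCharacter.isCharacter hirr1H)))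
  have hΘH : ∀ h : H, Cfsg.indFun H (φ - (d : ℂ) • (fun _ : H => (1 : ℂ))) (h : G) =
      (φ - (d : ℂ) • (fun _ : H => (1 : ℂ))) h := by
    intro h
    by_cases h1 : h = 1
    · subst h1
      rw [Subgroup.coe_one, indFun_apply_one, hθ1, mul_zero]
    · exact frob_indFun_apply H hTI _ hθcf h h1
  have hΘcf : Cfsg.IsClassFunction G (Cfsg.indFun H (φ - (d : ℂ) • (fun _ : H => (1 : ℂ)))) :=
    indFun_isClassFunction H _
  have h11 : Cfsg.classInner (fun _ : H => (1 : ℂ)) (fun _ : H => (1 : ℂ)) = 1 :=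
    classInner_irr_self hirr1H
  have hφφ : Cfsg.classInner φ φ = 1 := classInner_irr_self hφ
  have hφ1 : Cfsg.classInner φ (fun _ : H => (1 : ℂ)) = 0 := classInner_irr_ne hφ hirr1H htriv
  have h1φ : Cfsg.classInner (fun _ : H => (1 : ℂ)) φ = 0 :=
    classInner_irr_ne hirr1H hφ (Ne.symm htriv)
  have hθθ : Cfsg.classInner (φ - (d : ℂ) • (fun _ : H => (1 : ℂ)))
      (φ - (d : ℂ) • (fun _ : H => (1 : ℂ))) = 1 + (d : ℂ) ^ 2 := by
    rw [classInner_sub_left, classInner_sub_right, classInner_sub_right, classInner_smul_left,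
      classInner_smul_left, classInner_smul_right, classInner_smul_right, hφφ, hφ1, h1φ, h11]
    simp
    ring
  have hθone : Cfsg.classInner (φ - (d : ℂ) • (fun _ : H => (1 : ℂ))) (fun _ : H => (1 : ℂ)) =
      -(d : ℂ) := by
    rw [classInner_sub_left, classInner_smul_left, hφ1, h11]
    ring
  have hΘΘ : Cfsg.classInner (Cfsg.indFun H (φ - (d : ℂ) • (fun _ : H => (1 : ℂ))))
      (Cfsg.indFun H (φ - (d : ℂ) • (fun _ : H => (1 : ℂ)))) = 1 + (d : ℂ) ^ 2 := by
    rw [frobenius_reciprocity H _ _ hΘcf]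
    have : (fun h : H => Cfsg.indFun H (φ - (d : ℂ) • (fun _ : H => (1 : ℂ))) (h : G)) =
        (φ - (d : ℂ) • (fun _ : H => (1 : ℂ))) := funext hΘH
    rw [this, hθθ]
  have hΘone : Cfsg.classInner (Cfsg.indFun H (φ - (d : ℂ) • (fun _ : H => (1 : ℂ))))
      (fun _ : G => (1 : ℂ)) = -(d : ℂ) := by
    rw [frobenius_reciprocity H _ _
      (IsCharacter.isClassFunction (IsIrrCharacter.isCharacter hirr1G))]
    exact hθone
  have honeΘ : Cfsg.classInner (fun _ : G => (1 : ℂ))
      (Cfsg.indFun H (φ - (d : ℂ) • (fun _ : H => (1 : ℂ)))) = -(d : ℂ) := by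
    rw [classInner_conj_symm, hΘone]
    simp
  have hG11 : Cfsg.classInner (fun _ : G => (1 : ℂ)) (fun _ : G => (1 : ℂ)) = 1 :=
    classInner_irr_self hirr1G
  have hnorm : Cfsg.classInner
      (Cfsg.indFun H (φ - (d : ℂ) • (fun _ : H => (1 : ℂ))) + (d : ℂ) • (fun _ : G => (1 : ℂ)))
      (Cfsg.indFun H (φ - (d : ℂ) • (fun _ : H => (1 : ℂ))) + (d : ℂ) • (fun _ : G => (1 : ℂ)))
      = 1 := by
    rw [classInner_add_left, classInner_add_right, classInner_add_right, classInner_smul_left,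
      classInner_smul_left, classInner_smul_right, classInner_smul_right, hΘΘ, hΘone, honeΘ,
      hG11]
    simp
    ring
  have hgen : Cfsg.IsGeneralizedCharacter G
      (Cfsg.indFun H (φ - (d : ℂ) • (fun _ : H => (1 : ℂ))) +
        (d : ℂ) • (fun _ : G => (1 : ℂ))) := by
    refine ⟨Cfsg.indFun H φ + d • (fun _ : G => (1 : ℂ)),
      d • Cfsg.indFun H (fun _ : H => (1 : ℂ)),
      IsCharacter.add (isCharacter_indFun H φ (IsIrrCharacter.isCharacter hφ))
        (isCharacter_nsmul_aux (IsIrrCharacter.isCharacter hirr1G) d),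
      isCharacter_nsmul_aux (isCharacter_indFun H _ (IsIrrCharacter.isCharacter hirr1H)) d, ?_⟩
    rw [indFun_sub, indFun_smul]
    ext g
    simp only [Pi.add_apply, Pi.sub_apply, Pi.smul_apply, smul_eq_mul, nsmul_eq_mul,
      Pi.mul_apply, Pi.natCast_apply]
    ring
  obtain ⟨ψ, hψ, hor⟩ := exists_signed_irr_of_norm_one hgen hnorm
  have hχ1 : (Cfsg.indFun H (φ - (d : ℂ) • (fun _ : H => (1 : ℂ))) +
      (d : ℂ) • (fun _ : G => (1 : ℂ))) 1 = d := by
    rw [Pi.add_apply, indFun_apply_one, hθ1]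
    simp
  rcases hor with h | h
  · refine ⟨_, h ▸ hψ, ?_, ?_⟩
    · intro x
      rw [Pi.add_apply, hΘH x]
      simp
    · intro g hg
      rw [hχ1, Pi.add_apply, frob_indFun_apply_off H _ g hg]
      simp
  · exfalso
    obtain ⟨n, hnpos, hn⟩ := IsIrrCharacter.apply_one_pos hψ
    have h2 := congrFun h 1
    rw [hχ1, Pi.neg_apply, hn] at h2
    have h3 : ((d + n : ℕ) : ℂ) = 0 := by
      push_cast
      rw [h2]
      ring
    have h4 : d + n = 0 := by exact_mod_cast h3
    omega

/-- Frobenius' theorem. -/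
theorem frobenius_kernel_theorem [Finite G] (H : Subgroup G)
    (hH : Cfsg.IsFrobeniusComplement H) :
    ∃ N : Subgroup G, (N : Set G) = Cfsg.frobeniusKernel H ∧ N.Normal ∧
      Subgroup.IsComplement' N H := by
  classical
  haveI := Fintype.ofFinite G
  haveI : Fintype H := Fintype.ofFinite H
  haveI : Finite (Cfsg.IrrCharacter H) := irr_finite
  haveI : Fintype (Cfsg.IrrCharacter H) := Fintype.ofFinite _
  have hTI := hH.2.2
  have hext : ∀ φ : Cfsg.IrrCharacter H, ∃ K : Subgroup G, K.Normal ∧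
      (∀ h : H, (h : G) ∈ K → (φ : H → ℂ) h = (φ : H → ℂ) 1) ∧
      ∀ g : G, (∀ x : G, g ∉ MulAut.conj x • H) → g ∈ K := by
    intro φ
    obtain ⟨χ, hχ, hres, hoff⟩ := frob_extend_irr H hTI φ φ.2
    obtain ⟨K, hKn, hK, -⟩ := exists_kernel_data hχ
    refine ⟨K, hKn, ?_, ?_⟩
    · intro h hh
      have h1 := (hK h).mp hh
      rw [hres h] at h1
      rw [h1, ← hres 1, Subgroup.coe_one]
    · intro g hg
      exact (hK g).mpr (hoff g hg)
  choose K hKn hKH hKoff using hext
  have hMn : (⨅ φ, K φ).Normal := Subgroup.normal_iInf_normal hKn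
  have hMH : ∀ x : G, x ∈ (⨅ φ, K φ) → x ∈ H → x = 1 := by
    intro x hxM hxH
    by_contra hx1
    have hval : ∀ φ : Cfsg.IrrCharacter H, (φ : H → ℂ) ⟨x, hxH⟩ = (φ : H → ℂ) 1 :=
      fun φ => hKH φ ⟨x, hxH⟩ ((Subgroup.mem_iInf.mp hxM) φ)
    have h1 := sum_degree_mul_irr (G := H) (⟨x, hxH⟩ : H)
    have h2 := sum_degree_mul_irr (G := H) (1 : H)
    rw [if_neg (by intro e; exact hx1 (congrArg Subtype.val e))] at h1
    rw [if_pos rfl] at h2
    simp_rw [hval] at h1
    rw [h1] at h2
    exact (Nat.cast_ne_zero.mpr Nat.card_pos.ne') h2.symm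
  have hset : (((⨅ φ, K φ) : Subgroup G) : Set G) = Cfsg.frobeniusKernel H := by
    ext x
    simp only [SetLike.mem_coe, Cfsg.frobeniusKernel, Set.mem_ofPred_eq]
    constructor
    · intro hxM
      by_cases hx1 : x = 1
      · left; exact hx1
      · right
        intro g hg
        rw [Cfsg.Agent.Helper1.mem_conj_smul] at hg
        have hc : g⁻¹ * x * g ∈ (⨅ φ, K φ) := by
          have := hMn.conj_mem x hxM g⁻¹
          simpa using this
        have h1 := hMH _ hc hg
        apply hx1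
        have h2 : x = g * (g⁻¹ * x * g) * g⁻¹ := by group
        rw [h2, h1]
        group
    · rintro (rfl | hx)
      · exact Subgroup.one_mem _
      · exact Subgroup.mem_iInf.mpr (fun φ => hKoff φ x hx)
  refine ⟨⨅ φ, K φ, hset, hMn, ?_⟩
  have hcount := (Cfsg.Agent.Helper1.frobenius_count H hH).1
  have hMcard : Nat.card (⨅ φ, K φ : Subgroup G) = H.index := by
    rw [← hcount, ← hset]
    rfl
  apply Subgroup.isComplement'_of_card_mul_and_disjoint
  · rw [hMcard, mul_comm, Subgroup.card_mul_index]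
  · rw [Subgroup.disjoint_def]
    intro x hxM hxH
    exact hMH x hxM hxH

end Cfsg.Agent.Helper6
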