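import Mathlib
import Cfsg.Prelude.Def_Characters
import Cfsg.Prelude.Def_OddOrderChar
import Cfsg.Agent.Helper6.ClassInner
import Cfsg.Agent.Helper6.Induced

/-!
# Coherence systems: basic inner product facts
-/

set_option autoImplicit false
set_option linter.style.haveILetI false

namespace Cfsg.Agent.Helper6

open scoped ComplexConjugate

universe u

variable {G : Type u} [Group G]

/-- inner products of generalized characters are integers -/
theorem classInner_genchar_int [Fintype G] {θ η : G → ℂ}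
    (hθ : Cfsg.IsGeneralizedCharacter G θ) (hη : Cfsg.IsGeneralizedCharacter G η) :
    ∃ c : ℤ, Cfsg.classInner θ η = c := by
  obtain ⟨a, b, ha, hb, rfl⟩ := hθ
  obtain ⟨a', b', ha', hb', rfl⟩ := hη
  obtain ⟨n1, h1⟩ := classInner_char_char_nat ha ha'
  obtain ⟨n2, h2⟩ := classInner_char_char_nat ha hb'
  obtain ⟨n3, h3⟩ := classInner_char_char_nat hb ha'
  obtain ⟨n4, h4⟩ := classInner_char_char_nat hb hb'
  refine ⟨(n1 : ℤ) - n2 - (n3 - n4), ?_⟩
  rw [classInner_sub_left, classInner_sub_right, classInner_sub_right, h1, h2, h3, h4]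
  push_cast
  ring

/-- the inner product of the complex conjugates -/
theorem classInner_conjFun [Fintype G] (a b : G → ℂ) :
    Cfsg.classInner (Cfsg.conjFun a) (Cfsg.conjFun b) = conj (Cfsg.classInner a b) := by
  simp only [classInner_def, Cfsg.conjFun, map_mul, map_inv₀, map_natCast, map_sum]

/-- the key integer inequality: integers with sum `n` have sum of squares at least `n`, with
equality only when all are `0` or `1` -/
theorem sum_sq_ge_of_sum_eq {ι : Type*} (s : Finset ι) (c : ι → ℤ) :
    ∑ i ∈ s, c i ≤ ∑ i ∈ s, c i ^ 2 ∧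
      (∑ i ∈ s, c i ^ 2 ≤ ∑ i ∈ s, c i → ∀ i ∈ s, c i = 0 ∨ c i = 1) := by
  have hterm : ∀ i, c i ≤ c i ^ 2 := by
    intro i
    nlinarith [sq_nonneg (c i), sq_nonneg (c i - 1), sq_nonneg (c i + 1)]
  refine ⟨Finset.sum_le_sum (fun i _ => hterm i), ?_⟩
  intro hle i hi
  have h0 : ∑ i ∈ s, (c i ^ 2 - c i) = 0 := by
    rw [Finset.sum_sub_distrib]
    have := Finset.sum_le_sum (s := s) (fun i _ => hterm i)
    omega
  have h1 := (Finset.sum_eq_zero_iff_of_nonneg (fun i _ => sub_nonneg.mpr (hterm i))).mp h0 i hi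
  have h2 : c i * (c i - 1) = 0 := by
    have : c i * (c i - 1) = c i ^ 2 - c i := by ring
    rw [this, h1]
  rcases mul_eq_zero.mp h2 with h | h
  · exact Or.inl h
  · exact Or.inr (by omega)

end Cfsg.Agent.Helper6
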