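import Mathlib
import Cfsg.Prelude.Def_Characters
import Cfsg.Prelude.Def_OddOrderChar
import Cfsg.Agent.Helper6.CoherA
import Cfsg.Agent.Helper6.NormTwo
import Cfsg.Agent.Helper6.BrauerPerm2
import Cfsg.Agent.S1509

/-!
# Existence of a coherence system for a conjugation-closed set of irreducible characters
-/

set_option autoImplicit false
set_option linter.style.haveILetI false

namespace Cfsg.Agent.Helper6

open scoped ComplexConjugate

universe u v

variable {L : Type u} [Group L] {G : Type v} [Group G]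

/-- the complex conjugate of an irreducible character is irreducible -/
theorem conjFun_isIrrCharacter [Finite L] {χ : L → ℂ} (hχ : Cfsg.IsIrrCharacter L χ) :
    Cfsg.IsIrrCharacter L (Cfsg.conjFun χ) := by
  have h := IsIrrCharacter.comp_inv hχ
  have : Cfsg.conjFun χ = χ ∘ (Equiv.inv L) := by
    funext x
    show conj (χ x) = χ x⁻¹
    rw [IsCharacter.inv_eq_conj (IsIrrCharacter.isCharacter hχ)]
  rw [this]
  exact h

theorem conjFun_conjFun (χ : L → ℂ) : Cfsg.conjFun (Cfsg.conjFun χ) = χ := by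
  funext x
  show conj (conj (χ x)) = χ x
  rw [Complex.conj_conj]

/-- `χ − conj χ` is an integer combination of `S` vanishing at `1` -/
theorem sub_conjFun_mem_zspanOn (S : Set (L → ℂ)) (χ : L → ℂ) (hχ : χ ∈ S)
    (hχb : Cfsg.conjFun χ ∈ S) (hchar : Cfsg.IsCharacter L χ) :
    χ - Cfsg.conjFun χ ∈ Cfsg.zspanOn S {1}ᶜ := by
  refine ⟨Submodule.sub_mem _ (Submodule.subset_span hχ) (Submodule.subset_span hχb), ?_⟩
  intro x hx
  have hx1 : x = 1 := by simpa using hx
  obtain ⟨n, hn⟩ := IsCharacter.apply_one hchar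
  rw [hx1, Pi.sub_apply]
  show χ 1 - conj (χ 1) = 0
  rw [hn, Complex.conj_natCast, sub_self]

set_option maxHeartbeats 1600000 in
/-- a conjugation-closed set of non-real irreducible characters with an isometry on its integer
combinations vanishing at `1` carries a coherence system -/
theorem exists_coherenceSystem [Fintype L] [Fintype G] (S : Set (L → ℂ)) (hS : S.Nonempty)
    (hirr : ∀ χ ∈ S, Cfsg.IsIrrCharacter L χ)
    (hconj : ∀ χ ∈ S, Cfsg.conjFun χ ∈ S ∧ Cfsg.conjFun χ ≠ χ) (τ : (L → ℂ) → (G → ℂ))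
    (hτ : Cfsg.IsLinearIsometryOn (Cfsg.zspanOn S {1}ᶜ) τ)
    (hτ1 : ∀ α ∈ Cfsg.zspanOn S {1}ᶜ, τ α 1 = 0) :
    ∃ R : (L → ℂ) → Finset (G → ℂ), Cfsg.IsCoherenceSystem S τ R := by
  classical
  obtain ⟨-, -, hiso, hgen⟩ := id hτ
  have hmem : ∀ χ ∈ S, χ - Cfsg.conjFun χ ∈ Cfsg.zspanOn S {1}ᶜ := fun χ hχ =>
    sub_conjFun_mem_zspanOn S χ hχ (hconj χ hχ).1 (IsIrrCharacter.isCharacter (hirr χ hχ))
  have horth : ∀ χ ∈ S, Cfsg.classInner χ (Cfsg.conjFun χ) = 0 := fun χ hχ =>
    classInner_irr_ne (hirr χ hχ) (hirr _ (hconj χ hχ).1) (fun h => (hconj χ hχ).2 h.symm)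
  have horth' : ∀ χ ∈ S, Cfsg.classInner (Cfsg.conjFun χ) χ = 0 := fun χ hχ =>
    classInner_irr_ne (hirr _ (hconj χ hχ).1) (hirr χ hχ) (hconj χ hχ).2
  have hex : ∀ χ ∈ S, ∃ a b : G → ℂ, Cfsg.IsIrrCharacter G a ∧ Cfsg.IsIrrCharacter G b ∧ a ≠ b ∧
      τ (χ - Cfsg.conjFun χ) = a - b := by
    intro χ hχ
    apply exists_sub_of_norm_two (hgen _ (hmem χ hχ)) _ (hτ1 _ (hmem χ hχ))
    rw [hiso _ (hmem χ hχ) _ (hmem χ hχ), classInner_sub_left, classInner_sub_right,
      classInner_sub_right, classInner_irr_self (hirr χ hχ),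
      classInner_irr_self (hirr _ (hconj χ hχ).1), horth χ hχ, horth' χ hχ]
    norm_num
  choose! a b ha hb hab hτab using hex
  have hab0 : ∀ χ ∈ S, Cfsg.classInner (a χ) (b χ) = 0 := fun χ hχ =>
    classInner_irr_ne (ha χ hχ) (hb χ hχ) (hab χ hχ)
  have hba0 : ∀ χ ∈ S, Cfsg.classInner (b χ) (a χ) = 0 := fun χ hχ =>
    classInner_irr_ne (hb χ hχ) (ha χ hχ) (fun h => hab χ hχ h.symm)
  have hne : ∀ χ ∈ S, a χ ≠ -(b χ) := by
    intro χ hχ h
    have h1 := hab0 χ hχ
    rw [h, classInner_neg_left, classInner_irr_self (hb χ hχ)] at h1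
    norm_num at h1
  refine ⟨fun χ => {a χ, -(b χ)}, ?_⟩
  refine
    { nonempty := hS
      isCharacter := fun χ h => IsIrrCharacter.isCharacter (hirr χ h)
      conj_mem := fun χ h => (hconj χ h).1
      conj_ne := fun χ h => (hconj χ h).2
      isometry := hτ
      map_one := hτ1
      orthogonal := fun χ hχ φ hφ hne' => classInner_irr_ne (hirr χ hχ) (hirr φ hφ) hne'
      orthonormal := ?_
      virtual := ?_
      sum_eq := ?_
      disjoint := ?_ }
  · intro χ hχ α hα β hβ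
    simp only [Finset.mem_insert, Finset.mem_singleton] at hα hβ
    rcases hα with rfl | rfl <;> rcases hβ with rfl | rfl
    · rw [if_pos rfl, classInner_irr_self (ha χ hχ)]
    · rw [if_neg (hne χ hχ), classInner_neg_right, hab0 χ hχ, neg_zero]
    · rw [if_neg (fun h => hne χ hχ h.symm), classInner_neg_left, hba0 χ hχ, neg_zero]
    · rw [if_pos rfl, classInner_neg_left, classInner_neg_right, neg_neg,
        classInner_irr_self (hb χ hχ)]
  · intro χ hχ α hα
    simp only [Finset.mem_insert, Finset.mem_singleton] at hα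
    rcases hα with rfl | rfl
    · exact ⟨a χ, 0, IsIrrCharacter.isCharacter (ha χ hχ), IsCharacter.zero, (sub_zero _).symm⟩
    · exact ⟨0, b χ, IsCharacter.zero, IsIrrCharacter.isCharacter (hb χ hχ), (zero_sub _).symm⟩
  · intro χ hχ
    rw [Finset.sum_pair (hne χ hχ), hτab χ hχ, sub_eq_add_neg]
  · intro χ hχ φ hφ h1 h2 α hα β hβ
    have hmix : Cfsg.classInner (a φ - b φ) (((1 : ℝ) : ℂ) • a χ - ((1 : ℝ) : ℂ) • b χ) = 0 := by
      rw [Complex.ofReal_one, one_smul, one_smul, ← hτab φ hφ, ← hτab χ hχ,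
        hiso _ (hmem φ hφ) _ (hmem χ hχ), classInner_sub_left, classInner_sub_right,
        classInner_sub_right, h1, h2, classInner_conjFun, h1]
      have h3 : Cfsg.classInner (Cfsg.conjFun φ) χ = 0 := by
        have := classInner_conjFun φ (Cfsg.conjFun χ)
        rw [conjFun_conjFun, h2, map_zero] at this
        exact this
      rw [h3, map_zero]
      ring
    have e1 : a φ 1 = b φ 1 := by
      have := hτ1 _ (hmem φ hφ)
      rw [hτab φ hφ, Pi.sub_apply] at this
      exact sub_eq_zero.mp this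
    have e2 : ((1 : ℝ) : ℂ) * a χ 1 = ((1 : ℝ) : ℂ) * b χ 1 := by
      have := hτ1 _ (hmem χ hχ)
      rw [hτab χ hχ, Pi.sub_apply] at this
      rw [sub_eq_zero.mp this]
    obtain ⟨r1, r2, r3, r4⟩ := Cfsg.Agent.S1509.result (a φ) (b φ) (a χ) (b χ)
      (Or.inl (ha φ hφ)) (Or.inl (hb φ hφ)) (Or.inl (ha χ hχ)) (Or.inl (hb χ hχ)) 1 1
      one_ne_zero one_ne_zero (hab0 φ hφ) (hab0 χ hχ) hmix e1 e2
    simp only [Finset.mem_insert, Finset.mem_singleton] at hα hβ
    rcases hα with rfl | rfl <;> rcases hβ with rfl | rfl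
    · exact r1
    · rw [classInner_neg_right, r2, neg_zero]
    · rw [classInner_neg_left, r3, neg_zero]
    · rw [classInner_neg_left, classInner_neg_right, r4, neg_zero, neg_zero]

end Cfsg.Agent.Helper6
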