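import Mathlib
import Cfsg.Prelude.Def_Characters
import Cfsg.Prelude.Def_OddOrderChar
import Cfsg.Agent.Helper6.CoherA

/-!
# Orthonormal finite sets of virtual characters: projections with integer coefficients
-/

set_option autoImplicit false
set_option linter.style.haveILetI false

namespace Cfsg.Agent.Helper6

open scoped ComplexConjugate

universe u

variable {G : Type u} [Group G] [Fintype G]

theorem classInner_self_re_nonneg (φ : G → ℂ) : 0 ≤ (Cfsg.classInner φ φ).re := by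
  rw [classInner_self_eq]
  have h : ((Nat.card G : ℂ)⁻¹ * ((∑ g : G, ‖φ g‖ ^ 2 : ℝ) : ℂ)) =
      (((Nat.card G : ℝ)⁻¹ * ∑ g : G, ‖φ g‖ ^ 2 : ℝ) : ℂ) := by
    push_cast
    ring
  rw [h, Complex.ofReal_re]
  positivity

/-- inner product of two combinations of an orthonormal finite set -/
theorem classInner_sum_smul_orthonormal (T : Finset (G → ℂ))
    (hT : ∀ α ∈ T, ∀ β ∈ T, Cfsg.classInner α β = if α = β then 1 else 0)
    (a b : (G → ℂ) → ℂ) :
    Cfsg.classInner (∑ α ∈ T, a α • α) (∑ α ∈ T, b α • α) = ∑ α ∈ T, a α * conj (b α) := by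
  rw [classInner_sum_left]
  apply Finset.sum_congr rfl
  intro α hα
  rw [classInner_smul_left, classInner_sum_right, Finset.sum_eq_single α]
  · rw [classInner_smul_right, hT α hα α hα, if_pos rfl, mul_one]
  · intro β hβ hne
    rw [classInner_smul_right, hT α hα β hβ, if_neg (Ne.symm hne), mul_zero]
  · intro h
    exact absurd hα h

/-- inner product of combinations of two mutually orthogonal finite sets -/
theorem classInner_sum_smul_orthogonal (T₁ T₂ : Finset (G → ℂ))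
    (h : ∀ α ∈ T₁, ∀ β ∈ T₂, Cfsg.classInner α β = 0) (a b : (G → ℂ) → ℂ) :
    Cfsg.classInner (∑ α ∈ T₁, a α • α) (∑ β ∈ T₂, b β • β) = 0 := by
  rw [classInner_sum_left]
  apply Finset.sum_eq_zero
  intro α hα
  rw [classInner_smul_left, classInner_sum_right, Finset.sum_eq_zero, mul_zero]
  intro β hβ
  rw [classInner_smul_right, h α hα β hβ, mul_zero]

theorem classInner_right_sum_smul (T : Finset (G → ℂ)) (Y : G → ℂ) (b : (G → ℂ) → ℂ) :
    Cfsg.classInner Y (∑ α ∈ T, b α • α) = ∑ α ∈ T, conj (b α) * Cfsg.classInner Y α := by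
  rw [classInner_sum_right]
  apply Finset.sum_congr rfl
  intro α _
  rw [classInner_smul_right]

theorem classInner_left_sum_smul (T : Finset (G → ℂ)) (Y : G → ℂ) (a : (G → ℂ) → ℂ) :
    Cfsg.classInner (∑ α ∈ T, a α • α) Y = ∑ α ∈ T, a α * Cfsg.classInner α Y := by
  rw [classInner_sum_left]
  apply Finset.sum_congr rfl
  intro α _
  rw [classInner_smul_left]

/-- the union of two mutually orthogonal orthonormal sets is orthonormal -/
theorem orthonormal_union [DecidableEq (G → ℂ)] (T₁ T₂ : Finset (G → ℂ))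
    (hT₁ : ∀ α ∈ T₁, ∀ β ∈ T₁, Cfsg.classInner α β = if α = β then 1 else 0)
    (hT₂ : ∀ α ∈ T₂, ∀ β ∈ T₂, Cfsg.classInner α β = if α = β then 1 else 0)
    (h : ∀ α ∈ T₁, ∀ β ∈ T₂, Cfsg.classInner α β = 0) :
    Disjoint T₁ T₂ ∧
      ∀ α ∈ T₁ ∪ T₂, ∀ β ∈ T₁ ∪ T₂, Cfsg.classInner α β = if α = β then 1 else 0 := by
  have hne : ∀ α ∈ T₁, ∀ β ∈ T₂, α ≠ β := by
    intro α hα β hβ hαβ
    have h1 := hT₁ α hα α hα
    rw [if_pos rfl] at h1
    have h2 := h α hα β hβ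
    rw [← hαβ, h1] at h2
    exact one_ne_zero h2
  refine ⟨?_, ?_⟩
  · rw [Finset.disjoint_left]
    intro α h1 h2
    exact hne α h1 α h2 rfl
  · intro α hα β hβ
    rw [Finset.mem_union] at hα hβ
    rcases hα with hα | hα <;> rcases hβ with hβ | hβ
    · exact hT₁ α hα β hβ
    · rw [h α hα β hβ, if_neg (hne α hα β hβ)]
    · rw [classInner_conj_symm β α, h β hβ α hα, map_zero,
        if_neg (fun h' => hne β hβ α hα h'.symm)]
    · exact hT₂ α hα β hβ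

/-- the squared distance to the projection on an orthonormal set, with integer coefficients -/
theorem classInner_sub_proj_self (T : Finset (G → ℂ))
    (hT : ∀ α ∈ T, ∀ β ∈ T, Cfsg.classInner α β = if α = β then 1 else 0)
    (Y : G → ℂ) (c : (G → ℂ) → ℤ) (hc : ∀ α ∈ T, Cfsg.classInner Y α = c α) :
    Cfsg.classInner (Y - ∑ α ∈ T, (c α : ℂ) • α) (Y - ∑ α ∈ T, (c α : ℂ) • α) =
      Cfsg.classInner Y Y - ((∑ α ∈ T, c α ^ 2 : ℤ) : ℂ) := by
  have h1 : Cfsg.classInner Y (∑ α ∈ T, (c α : ℂ) • α) = ((∑ α ∈ T, c α ^ 2 : ℤ) : ℂ) := by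
    rw [classInner_right_sum_smul, Int.cast_sum]
    apply Finset.sum_congr rfl
    intro α hα
    rw [hc α hα, map_intCast]
    push_cast
    ring
  have h2 : Cfsg.classInner (∑ α ∈ T, (c α : ℂ) • α) Y = ((∑ α ∈ T, c α ^ 2 : ℤ) : ℂ) := by
    rw [classInner_conj_symm Y, h1, map_intCast]
  have h3 : Cfsg.classInner (∑ α ∈ T, (c α : ℂ) • α) (∑ α ∈ T, (c α : ℂ) • α) =
      ((∑ α ∈ T, c α ^ 2 : ℤ) : ℂ) := by
    rw [classInner_sum_smul_orthonormal T hT, Int.cast_sum]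
    apply Finset.sum_congr rfl
    intro α _
    rw [map_intCast]
    push_cast
    ring
  rw [classInner_sub_left, classInner_sub_right, classInner_sub_right, h1, h2, h3]
  ring

set_option maxHeartbeats 1600000 in
/-- A virtual character whose squared norm is the sum of its inner products with the sums of two
mutually orthogonal orthonormal sets of virtual characters (one taken negatively) is a
combination of them with coefficients `0`, `1` on the first set. -/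
theorem exists_int_decomp (T₁ T₂ : Finset (G → ℂ))
    (hT₁ : ∀ α ∈ T₁, ∀ β ∈ T₁, Cfsg.classInner α β = if α = β then 1 else 0)
    (hT₂ : ∀ α ∈ T₂, ∀ β ∈ T₂, Cfsg.classInner α β = if α = β then 1 else 0)
    (h : ∀ α ∈ T₁, ∀ β ∈ T₂, Cfsg.classInner α β = 0)
    (hv₁ : ∀ α ∈ T₁, Cfsg.IsGeneralizedCharacter G α)
    (hv₂ : ∀ α ∈ T₂, Cfsg.IsGeneralizedCharacter G α)
    (Y : G → ℂ) (hY : Cfsg.IsGeneralizedCharacter G Y) (n₁ n₂ : ℕ)
    (h1 : Cfsg.classInner Y (∑ α ∈ T₁, α) = n₁)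
    (h2 : Cfsg.classInner Y (∑ α ∈ T₂, α) = -(n₂ : ℂ))
    (hYY : Cfsg.classInner Y Y = (n₁ : ℂ) + n₂) :
    ∃ c : (G → ℂ) → ℤ, (∀ α ∈ T₁, c α = 0 ∨ c α = 1) ∧ (∑ α ∈ T₁, c α = n₁) ∧
      (∀ α ∈ T₁, Cfsg.classInner Y α = c α) ∧ (∀ β ∈ T₂, Cfsg.classInner Y β = c β) ∧
      Y = ∑ α ∈ T₁, (c α : ℂ) • α + ∑ β ∈ T₂, (c β : ℂ) • β := by
  classical
  have hcex : ∀ α ∈ T₁ ∪ T₂, ∃ c : ℤ, Cfsg.classInner Y α = c := by
    intro α hα
    rw [Finset.mem_union] at hα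
    rcases hα with hα | hα
    · exact classInner_genchar_int hY (hv₁ α hα)
    · exact classInner_genchar_int hY (hv₂ α hα)
  choose! c hc using hcex
  obtain ⟨hdisj, hT⟩ := orthonormal_union T₁ T₂ hT₁ hT₂ h
  have hZ := classInner_sub_proj_self (T₁ ∪ T₂) hT Y c hc
  have hs1 : ∑ α ∈ T₁, c α = n₁ := by
    have h3 : ((∑ α ∈ T₁, c α : ℤ) : ℂ) = ((n₁ : ℤ) : ℂ) := by
      rw [Int.cast_sum, Int.cast_natCast, ← h1, classInner_sum_right]
      exact Finset.sum_congr rfl (fun α hα => (hc α (Finset.mem_union_left _ hα)).symm)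
    exact_mod_cast h3
  have hs2 : ∑ α ∈ T₂, (-c α) = n₂ := by
    have h3 : ((∑ α ∈ T₂, (-c α) : ℤ) : ℂ) = ((n₂ : ℤ) : ℂ) := by
      rw [Finset.sum_neg_distrib, Int.cast_neg, Int.cast_sum, Int.cast_natCast]
      rw [← neg_neg (n₂ : ℂ), ← h2, classInner_sum_right]
      congr 1
      exact Finset.sum_congr rfl (fun α hα => (hc α (Finset.mem_union_right _ hα)).symm)
    exact_mod_cast h3
  obtain ⟨hge1, heq1⟩ := sum_sq_ge_of_sum_eq T₁ c
  obtain ⟨hge2, -⟩ := sum_sq_ge_of_sum_eq T₂ (fun α => -c α)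
  rw [hs1] at hge1 heq1
  rw [hs2] at hge2
  have hsq2 : ∑ α ∈ T₂, (-c α) ^ 2 = ∑ α ∈ T₂, c α ^ 2 :=
    Finset.sum_congr rfl (fun α _ => by ring)
  rw [hsq2] at hge2
  have hsplit : ∑ α ∈ T₁ ∪ T₂, c α ^ 2 = ∑ α ∈ T₁, c α ^ 2 + ∑ α ∈ T₂, c α ^ 2 :=
    Finset.sum_union hdisj
  have hnn := classInner_self_re_nonneg (Y - ∑ α ∈ T₁ ∪ T₂, (c α : ℂ) • α)
  rw [hZ, hYY, hsplit] at hnn
  have hcast : ((n₁ : ℂ) + n₂ - ((∑ α ∈ T₁, c α ^ 2 + ∑ α ∈ T₂, c α ^ 2 : ℤ) : ℂ)) =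
      ((((n₁ : ℤ) + n₂ - (∑ α ∈ T₁, c α ^ 2 + ∑ α ∈ T₂, c α ^ 2) : ℤ) : ℝ) : ℂ) := by
    push_cast
    ring
  rw [hcast, Complex.ofReal_re] at hnn
  have hle : ∑ α ∈ T₁, c α ^ 2 + ∑ α ∈ T₂, c α ^ 2 ≤ (n₁ : ℤ) + n₂ := by
    have h0 : (0 : ℤ) ≤ (n₁ : ℤ) + n₂ - (∑ α ∈ T₁, c α ^ 2 + ∑ α ∈ T₂, c α ^ 2) := by
      exact_mod_cast hnn
    omega
  have he1 : ∑ α ∈ T₁, c α ^ 2 ≤ (n₁ : ℤ) := by omega
  have hetot : ∑ α ∈ T₁, c α ^ 2 + ∑ α ∈ T₂, c α ^ 2 = (n₁ : ℤ) + n₂ := by omega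
  have hZ0 : Y - ∑ α ∈ T₁ ∪ T₂, (c α : ℂ) • α = 0 := by
    apply classInner_self_eq_zero
    rw [hZ, hYY, hsplit, hetot]
    push_cast
    ring
  refine ⟨c, heq1 he1, hs1, fun α hα => hc α (Finset.mem_union_left _ hα),
    fun α hα => hc α (Finset.mem_union_right _ hα), ?_⟩
  rw [← Finset.sum_union hdisj]
  exact sub_eq_zero.mp hZ0

end Cfsg.Agent.Helper6
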