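import Mathlib
import Cfsg.Prelude.Def_Characters
import Cfsg.Prelude.Def_OddOrderChar
import Cfsg.Agent.Helper6.CoherB
import Cfsg.Agent.Helper6.CoherC

/-!
# Coherence systems with equal degrees: the decomposition of `τ (χ₁ − χ)`
-/

set_option autoImplicit false
set_option linter.style.haveILetI false

namespace Cfsg.Agent.Helper6

open scoped ComplexConjugate

universe u v

section genchar

variable {G : Type u} [Group G]

theorem genchar_zero : Cfsg.IsGeneralizedCharacter G (0 : G → ℂ) :=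
  ⟨0, 0, IsCharacter.zero, IsCharacter.zero, by simp⟩

theorem genchar_add {f g : G → ℂ} (hf : Cfsg.IsGeneralizedCharacter G f)
    (hg : Cfsg.IsGeneralizedCharacter G g) : Cfsg.IsGeneralizedCharacter G (f + g) := by
  obtain ⟨a, b, ha, hb, rfl⟩ := hf
  obtain ⟨c, d, hc, hd, rfl⟩ := hg
  exact ⟨a + c, b + d, IsCharacter.add ha hc, IsCharacter.add hb hd, by abel⟩

theorem genchar_neg {f : G → ℂ} (hf : Cfsg.IsGeneralizedCharacter G f) :
    Cfsg.IsGeneralizedCharacter G (-f) := by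
  obtain ⟨a, b, ha, hb, rfl⟩ := hf
  exact ⟨b, a, hb, ha, by abel⟩

theorem genchar_sub {f g : G → ℂ} (hf : Cfsg.IsGeneralizedCharacter G f)
    (hg : Cfsg.IsGeneralizedCharacter G g) : Cfsg.IsGeneralizedCharacter G (f - g) := by
  rw [sub_eq_add_neg]
  exact genchar_add hf (genchar_neg hg)

theorem genchar_natCast_smul {f : G → ℂ} (hf : Cfsg.IsGeneralizedCharacter G f)
    (n : ℕ) : Cfsg.IsGeneralizedCharacter G ((n : ℂ) • f) := by
  induction n with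
  | zero =>
    rw [Nat.cast_zero, zero_smul]
    exact genchar_zero
  | succ k ih =>
    have : ((k + 1 : ℕ) : ℂ) • f = (k : ℂ) • f + f := by
      push_cast
      rw [add_smul, one_smul]
    rw [this]
    exact genchar_add ih hf

theorem genchar_intCast_smul {f : G → ℂ} (hf : Cfsg.IsGeneralizedCharacter G f)
    (n : ℤ) : Cfsg.IsGeneralizedCharacter G ((n : ℂ) • f) := by
  obtain ⟨k, rfl | rfl⟩ := Int.eq_nat_or_neg n
  · rw [Int.cast_natCast]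
    exact genchar_natCast_smul hf k
  · have : ((-(k : ℤ) : ℤ) : ℂ) • f = -((k : ℂ) • f) := by
      push_cast
      rw [neg_smul]
    rw [this]
    exact genchar_neg (genchar_natCast_smul hf k)

theorem genchar_sum {ι : Type*} (s : Finset ι) (f : ι → G → ℂ)
    (hf : ∀ i ∈ s, Cfsg.IsGeneralizedCharacter G (f i)) :
    Cfsg.IsGeneralizedCharacter G (∑ i ∈ s, f i) := by
  classical
  induction s using Finset.induction_on with
  | empty =>
    rw [Finset.sum_empty]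
    exact genchar_zero
  | insert a s ha ih =>
    rw [Finset.sum_insert ha]
    exact genchar_add (hf a (Finset.mem_insert_self a s))
      (ih (fun i hi => hf i (Finset.mem_insert_of_mem hi)))

end genchar

section zspanOn

variable {X : Type u}

theorem zspanOn_zero_mem (S : Set (X → ℂ)) (A : Set X) : (0 : X → ℂ) ∈ Cfsg.zspanOn S A :=
  ⟨Submodule.zero_mem _, fun _ _ => rfl⟩

theorem zspanOn_add_mem (S : Set (X → ℂ)) (A : Set X) {α β : X → ℂ}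
    (hα : α ∈ Cfsg.zspanOn S A) (hβ : β ∈ Cfsg.zspanOn S A) : α + β ∈ Cfsg.zspanOn S A :=
  ⟨Submodule.add_mem _ hα.1 hβ.1, fun x hx => by rw [Pi.add_apply, hα.2 x hx, hβ.2 x hx, add_zero]⟩

theorem zspanOn_zsmul_mem (S : Set (X → ℂ)) (A : Set X) {α : X → ℂ}
    (hα : α ∈ Cfsg.zspanOn S A) (n : ℤ) : n • α ∈ Cfsg.zspanOn S A :=
  ⟨Submodule.smul_mem _ n hα.1, fun x hx => by rw [Pi.smul_apply, hα.2 x hx, smul_zero]⟩

end zspanOn

variable {L : Type u} [Group L] [Fintype L] {G : Type v} [Group G] [Fintype G]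

/-- consequences of additivity and homogeneity of a linear isometry on `zspanOn` -/
theorem isometryOn_map_zero (S : Set (L → ℂ)) (A : Set L) (τ : (L → ℂ) → (G → ℂ))
    (hτ : Cfsg.IsLinearIsometryOn (Cfsg.zspanOn S A) τ) : τ 0 = 0 := by
  have h := hτ.2.1 0 (zspanOn_zero_mem S A) 0
  rw [zero_smul, zero_smul] at h
  exact h

theorem isometryOn_map_neg (S : Set (L → ℂ)) (A : Set L) (τ : (L → ℂ) → (G → ℂ))
    (hτ : Cfsg.IsLinearIsometryOn (Cfsg.zspanOn S A) τ) {α : L → ℂ}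
    (hα : α ∈ Cfsg.zspanOn S A) : τ (-α) = -τ α := by
  have h := hτ.2.1 α hα (-1)
  rw [neg_one_smul, neg_one_smul] at h
  exact h

theorem isometryOn_map_sub (S : Set (L → ℂ)) (A : Set L) (τ : (L → ℂ) → (G → ℂ))
    (hτ : Cfsg.IsLinearIsometryOn (Cfsg.zspanOn S A) τ) {α β : L → ℂ}
    (hα : α ∈ Cfsg.zspanOn S A) (hβ : β ∈ Cfsg.zspanOn S A) : τ (α - β) = τ α - τ β := by
  have hnβ : -β ∈ Cfsg.zspanOn S A := by
    have := zspanOn_zsmul_mem S A hβ (-1)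
    rwa [neg_one_smul] at this
  rw [sub_eq_add_neg, hτ.1 α hα (-β) hnβ, isometryOn_map_neg S A τ hτ hβ, sub_eq_add_neg]

/-- differences of members of equal degree vanish at one -/
theorem sub_mem_zspanOn_of_deg (S : Set (L → ℂ)) (hdeg : ∀ φ ∈ S, ∀ ψ ∈ S, φ 1 = ψ 1)
    (χ φ : L → ℂ) (hχ : χ ∈ S) (hφ : φ ∈ S) : χ - φ ∈ Cfsg.zspanOn S {1}ᶜ := by
  refine ⟨Submodule.sub_mem _ (Submodule.subset_span hχ) (Submodule.subset_span hφ), ?_⟩
  intro x hx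
  have hx1 : x = 1 := by simpa using hx
  rw [hx1, Pi.sub_apply, hdeg χ hχ φ hφ, sub_self]

theorem conjFun_ne_of_ne_conjFun {χ φ : L → ℂ} (h : χ ≠ Cfsg.conjFun φ) :
    Cfsg.conjFun χ ≠ φ := by
  intro h'
  apply h
  rw [← h', conjFun_conjFun]

set_option maxHeartbeats 1600000 in
/-- In a coherence system with equal degrees, `τ (χ₁ − χ)` is a combination of `R χ₁` and `R χ`
with coefficients `0`, `1` on `R χ₁`. -/
theorem cs_decomp (S : Set (L → ℂ)) (τ : (L → ℂ) → (G → ℂ)) (R : (L → ℂ) → Finset (G → ℂ))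
    (hS : Cfsg.IsCoherenceSystem S τ R) (hdeg : ∀ φ ∈ S, ∀ ψ ∈ S, φ 1 = ψ 1)
    (χ₁ χ : L → ℂ) (h₁ : χ₁ ∈ S) (hχ : χ ∈ S) (hne : χ ≠ χ₁) (hne' : χ ≠ Cfsg.conjFun χ₁)
    (n₁ : ℕ) (hn₁ : Cfsg.classInner χ₁ χ₁ = n₁) :
    ∃ c : (G → ℂ) → ℤ, (∀ α ∈ R χ₁, c α = 0 ∨ c α = 1) ∧ (∑ α ∈ R χ₁, c α = n₁) ∧
      (∀ α ∈ R χ₁, Cfsg.classInner (τ (χ₁ - χ)) α = c α) ∧
      (∀ β ∈ R χ, Cfsg.classInner (τ (χ₁ - χ)) β = c β) ∧
      τ (χ₁ - χ) = ∑ α ∈ R χ₁, (c α : ℂ) • α + ∑ β ∈ R χ, (c β : ℂ) • β := by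
  obtain ⟨-, -, hiso, hgen⟩ := id hS.isometry
  obtain ⟨n, hn⟩ := classInner_char_char_nat (hS.isCharacter χ hχ) (hS.isCharacter χ hχ)
  have hb₁ := hS.conj_mem χ₁ h₁
  have hb := hS.conj_mem χ hχ
  have o1 : Cfsg.classInner χ₁ χ = 0 := hS.orthogonal χ₁ h₁ χ hχ (Ne.symm hne)
  have o2 : Cfsg.classInner χ χ₁ = 0 := hS.orthogonal χ hχ χ₁ h₁ hne
  have o3 : Cfsg.classInner χ₁ (Cfsg.conjFun χ₁) = 0 :=
    hS.orthogonal χ₁ h₁ _ hb₁ (Ne.symm (hS.conj_ne χ₁ h₁))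
  have o4 : Cfsg.classInner χ (Cfsg.conjFun χ₁) = 0 := hS.orthogonal χ hχ _ hb₁ hne'
  have o5 : Cfsg.classInner χ₁ (Cfsg.conjFun χ) = 0 :=
    hS.orthogonal χ₁ h₁ _ hb (Ne.symm (conjFun_ne_of_ne_conjFun hne'))
  have o6 : Cfsg.classInner χ (Cfsg.conjFun χ) = 0 :=
    hS.orthogonal χ hχ _ hb (Ne.symm (hS.conj_ne χ hχ))
  have m1 := sub_mem_zspanOn_of_deg S hdeg χ₁ χ h₁ hχ
  have m2 := sub_mem_zspanOn_of_deg S hdeg χ₁ _ h₁ hb₁
  have m3 := sub_mem_zspanOn_of_deg S hdeg χ _ hχ hb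
  apply exists_int_decomp (R χ₁) (R χ) (hS.orthonormal χ₁ h₁) (hS.orthonormal χ hχ)
    (hS.disjoint χ hχ χ₁ h₁ o1 o5) (hS.virtual χ₁ h₁) (hS.virtual χ hχ) _ (hgen _ m1) n₁ n
  · rw [← hS.sum_eq χ₁ h₁, hiso _ m1 _ m2, classInner_sub_left, classInner_sub_right,
      classInner_sub_right, hn₁, o3, o2, o4]
    ring
  · rw [← hS.sum_eq χ hχ, hiso _ m1 _ m3, classInner_sub_left, classInner_sub_right,
      classInner_sub_right, o1, o5, hn, o6]
    ring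
  · rw [hiso _ m1 _ m1, classInner_sub_left, classInner_sub_right,
      classInner_sub_right, hn₁, o1, o2, hn]
    ring

/-- the candidate image of `χ₁`, from `0`-`1` coefficients on `R χ₁` summing to the norm -/
theorem cs_X_of_coeff (S : Set (L → ℂ)) (τ : (L → ℂ) → (G → ℂ)) (R : (L → ℂ) → Finset (G → ℂ))
    (hS : Cfsg.IsCoherenceSystem S τ R) (χ₁ : L → ℂ) (h₁ : χ₁ ∈ S) (n₁ : ℕ)
    (c : (G → ℂ) → ℤ) (hc01 : ∀ α ∈ R χ₁, c α = 0 ∨ c α = 1) (hcs : ∑ α ∈ R χ₁, c α = n₁) :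
    Cfsg.IsGeneralizedCharacter G (∑ α ∈ R χ₁, (c α : ℂ) • α) ∧
    Cfsg.classInner (∑ α ∈ R χ₁, (c α : ℂ) • α) (∑ α ∈ R χ₁, (c α : ℂ) • α) = n₁ ∧
    Cfsg.classInner (∑ α ∈ R χ₁, (c α : ℂ) • α) (τ (χ₁ - Cfsg.conjFun χ₁)) = n₁ := by
  have hcast : ((∑ α ∈ R χ₁, c α : ℤ) : ℂ) = (n₁ : ℂ) := by
    rw [hcs]
    simp
  rw [Int.cast_sum] at hcast
  refine ⟨?_, ?_, ?_⟩
  · apply genchar_sum
    intro α hα
    exact genchar_intCast_smul (hS.virtual χ₁ h₁ α hα) _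
  · rw [classInner_sum_smul_orthonormal _ (hS.orthonormal χ₁ h₁), ← hcast]
    apply Finset.sum_congr rfl
    intro α hα
    rw [map_intCast]
    rcases hc01 α hα with h | h <;> rw [h] <;> simp
  · rw [hS.sum_eq χ₁ h₁]
    have : ∑ α ∈ R χ₁, α = ∑ α ∈ R χ₁, ((fun _ => (1 : ℂ)) α) • α := by
      apply Finset.sum_congr rfl
      intro α _
      rw [one_smul]
    rw [this, classInner_sum_smul_orthonormal _ (hS.orthonormal χ₁ h₁), ← hcast]
    apply Finset.sum_congr rfl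
    intro α _
    rw [map_one, mul_one]

end Cfsg.Agent.Helper6
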