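import Mathlib
import Cfsg.Prelude.Def_Characters
import Cfsg.Prelude.Def_OddOrderChar
import Cfsg.Agent.Helper6.CoherD

/-!
# Coherence: linear isometries on integer spans, orthogonal projections, and the shape of a
coherent extension on a member (Peterfalvi (5.5))
-/

set_option autoImplicit false
set_option linter.style.haveILetI false

namespace Cfsg.Agent.Helper6

open scoped ComplexConjugate

universe u v

section span

variable {L : Type u} [Group L] [Fintype L] {G : Type v} [Group G] [Fintype G]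

theorem isometryOnSpan_map_zero (S : Set (L → ℂ)) (τ : (L → ℂ) → (G → ℂ))
    (hτ : Cfsg.IsLinearIsometryOn (Cfsg.zspan S) τ) : τ 0 = 0 := by
  have h := hτ.2.1 0 (Submodule.zero_mem _) 0
  rw [zero_smul, zero_smul] at h
  exact h

theorem isometryOnSpan_map_neg (S : Set (L → ℂ)) (τ : (L → ℂ) → (G → ℂ))
    (hτ : Cfsg.IsLinearIsometryOn (Cfsg.zspan S) τ) {α : L → ℂ}
    (hα : α ∈ Cfsg.zspan S) : τ (-α) = -τ α := by
  have h := hτ.2.1 α hα (-1)
  rw [neg_one_smul, neg_one_smul] at h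
  exact h

theorem isometryOnSpan_map_sub (S : Set (L → ℂ)) (τ : (L → ℂ) → (G → ℂ))
    (hτ : Cfsg.IsLinearIsometryOn (Cfsg.zspan S) τ) {α β : L → ℂ}
    (hα : α ∈ Cfsg.zspan S) (hβ : β ∈ Cfsg.zspan S) : τ (α - β) = τ α - τ β := by
  have hnβ : -β ∈ Cfsg.zspan S := Submodule.neg_mem _ hβ
  rw [sub_eq_add_neg, hτ.1 α hα (-β) hnβ, isometryOnSpan_map_neg S τ hτ hβ, sub_eq_add_neg]

theorem zspanOn_subset_zspan (S : Set (L → ℂ)) (A : Set L) {α : L → ℂ}
    (h : α ∈ Cfsg.zspanOn S A) : α ∈ Cfsg.zspan S := h.1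

theorem zspan_mono {S T : Set (L → ℂ)} (h : S ⊆ T) {α : L → ℂ} (hα : α ∈ Cfsg.zspan S) :
    α ∈ Cfsg.zspan T := Submodule.span_mono h hα

theorem zspanOn_mono {S T : Set (L → ℂ)} (h : S ⊆ T) (A : Set L) {α : L → ℂ}
    (hα : α ∈ Cfsg.zspanOn S A) : α ∈ Cfsg.zspanOn T A := ⟨zspan_mono h hα.1, hα.2⟩

end span

variable {G : Type u} [Group G] [Fintype G]

/-- the squared distance to the projection on an orthogonal family with natural squared norms
and integer coefficients -/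
theorem classInner_sub_orthproj_self {ι : Type*} [DecidableEq ι] (s : Finset ι) (v : ι → G → ℂ) (m : ι → ℕ)
    (hm : ∀ i ∈ s, m i ≠ 0)
    (hv : ∀ i ∈ s, ∀ j ∈ s, Cfsg.classInner (v i) (v j) = if i = j then (m i : ℂ) else 0)
    (Y : G → ℂ) (b : ι → ℤ) (hb : ∀ i ∈ s, Cfsg.classInner Y (v i) = b i) :
    Cfsg.classInner (Y - ∑ i ∈ s, ((b i : ℂ) / (m i : ℂ)) • v i)
        (Y - ∑ i ∈ s, ((b i : ℂ) / (m i : ℂ)) • v i) =
      Cfsg.classInner Y Y - ∑ i ∈ s, ((b i : ℂ) ^ 2 / (m i : ℂ)) := by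
  have hconj : ∀ i, conj ((b i : ℂ) / (m i : ℂ)) = (b i : ℂ) / (m i : ℂ) := by
    intro i
    rw [map_div₀, map_intCast, map_natCast]
  have h1 : Cfsg.classInner Y (∑ i ∈ s, ((b i : ℂ) / (m i : ℂ)) • v i) =
      ∑ i ∈ s, ((b i : ℂ) ^ 2 / (m i : ℂ)) := by
    rw [classInner_sum_right]
    apply Finset.sum_congr rfl
    intro i hi
    rw [classInner_smul_right, hconj, hb i hi]
    ring
  have h2 : Cfsg.classInner (∑ i ∈ s, ((b i : ℂ) / (m i : ℂ)) • v i) Y =
      ∑ i ∈ s, ((b i : ℂ) ^ 2 / (m i : ℂ)) := by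
    rw [classInner_conj_symm Y, h1, map_sum]
    apply Finset.sum_congr rfl
    intro i _
    rw [map_div₀, map_pow, map_intCast, map_natCast]
  have h3 : Cfsg.classInner (∑ i ∈ s, ((b i : ℂ) / (m i : ℂ)) • v i)
      (∑ i ∈ s, ((b i : ℂ) / (m i : ℂ)) • v i) = ∑ i ∈ s, ((b i : ℂ) ^ 2 / (m i : ℂ)) := by
    rw [classInner_sum_left]
    apply Finset.sum_congr rfl
    intro i hi
    rw [classInner_smul_left, classInner_sum_right, Finset.sum_eq_single i]
    · rw [classInner_smul_right, hconj, hv i hi i hi, if_pos rfl]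
      have hmi : (m i : ℂ) ≠ 0 := by exact_mod_cast hm i hi
      field_simp
    · intro j hj hne
      rw [classInner_smul_right, hv i hi j hj, if_neg (Ne.symm hne), mul_zero]
    · intro h
      exact absurd hi h
  rw [classInner_sub_left, classInner_sub_right, classInner_sub_right, h1, h2, h3]
  ring

end Cfsg.Agent.Helper6
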