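import Mathlib
import Cfsg.Prelude.Def_Characters
import Cfsg.Prelude.Def_OddOrderChar
import Cfsg.Agent.Helper6.CoherG
import Cfsg.Agent.Helper6.NormOne
import Cfsg.Agent.Helper6.IrrDegree
import Cfsg.Agent.Helper6.CharBasic

/-!
# Signed irreducible characters: a weighted orthogonality lemma
-/

set_option autoImplicit false
set_option linter.style.haveILetI false

namespace Cfsg.Agent.Helper6

open scoped ComplexConjugate

universe u

variable {X : Type u} [Group X] [Fintype X]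

/-- Let `a, b, c, e` be irreducible characters up to sign with `⟨a, b⟩ = ⟨c, e⟩ = 0`, and
`p, q, u, v` nonzero reals with `⟨p a − q b, u c − v e⟩ = 0`, `p a(1) = q b(1)` and
`u c(1) = v e(1)`. Then `⟨a, c⟩ = 0`. -/
theorem signed_irr_cross_zero (a b c e : X → ℂ)
    (ha : Cfsg.IsIrrCharacter X a ∨ Cfsg.IsIrrCharacter X (-a))
    (hb : Cfsg.IsIrrCharacter X b ∨ Cfsg.IsIrrCharacter X (-b))
    (hc : Cfsg.IsIrrCharacter X c ∨ Cfsg.IsIrrCharacter X (-c))
    (he : Cfsg.IsIrrCharacter X e ∨ Cfsg.IsIrrCharacter X (-e))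
    (p q u v : ℝ) (hp : p ≠ 0) (hq : q ≠ 0) (hu : u ≠ 0) (hv : v ≠ 0)
    (hab : Cfsg.classInner a b = 0) (hce : Cfsg.classInner c e = 0)
    (hmix : Cfsg.classInner ((p : ℂ) • a - (q : ℂ) • b) ((u : ℂ) • c - (v : ℂ) • e) = 0)
    (h1 : (p : ℂ) * a 1 = (q : ℂ) * b 1) (h2 : (u : ℂ) * c 1 = (v : ℂ) * e 1) :
    Cfsg.classInner a c = 0 := by
  classical
  have hsgn : ∀ f : X → ℂ, (Cfsg.IsIrrCharacter X f ∨ Cfsg.IsIrrCharacter X (-f)) →
      ∃ (s : ℂ) (χ : X → ℂ), (s = 1 ∨ s = -1) ∧ Cfsg.IsIrrCharacter X χ ∧ f = s • χ := by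
    intro f hf
    rcases hf with h | h
    · exact ⟨1, f, Or.inl rfl, h, by rw [one_smul]⟩
    · exact ⟨-1, -f, Or.inr rfl, h, by simp⟩
  have hconj : ∀ s : ℂ, (s = 1 ∨ s = -1) → (starRingEnd ℂ) s = s := by
    rintro s (rfl | rfl) <;> simp
  have hsq : ∀ s : ℂ, (s = 1 ∨ s = -1) → s * s = 1 := by
    rintro s (rfl | rfl) <;> simp
  have hne0 : ∀ s : ℂ, (s = 1 ∨ s = -1) → s ≠ 0 := by
    rintro s (rfl | rfl) <;> simp
  have hcases : ∀ f₁ f₂ : X → ℂ, (Cfsg.IsIrrCharacter X f₁ ∨ Cfsg.IsIrrCharacter X (-f₁)) →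
      (Cfsg.IsIrrCharacter X f₂ ∨ Cfsg.IsIrrCharacter X (-f₂)) →
      Cfsg.classInner f₁ f₂ = 0 ∨ ∃ s : ℂ, (s = 1 ∨ s = -1) ∧ f₁ = s • f₂ ∧ f₂ = s • f₁ := by
    intro f₁ f₂ h₁ h₂
    obtain ⟨s₁, χ₁, hs₁, hχ₁, rfl⟩ := hsgn f₁ h₁
    obtain ⟨s₂, χ₂, hs₂, hχ₂, rfl⟩ := hsgn f₂ h₂
    by_cases h : χ₁ = χ₂
    · right
      subst h
      refine ⟨s₁ * s₂, ?_, ?_, ?_⟩
      · rcases hs₁ with rfl | rfl <;> rcases hs₂ with rfl | rfl <;> simp
      · rw [smul_smul, mul_assoc, hsq s₂ hs₂, mul_one]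
      · rw [smul_smul, mul_comm s₁ s₂, mul_assoc, hsq s₁ hs₁, mul_one]
    · left
      rw [classInner_smul_left, classInner_smul_right, classInner_irr_ne hχ₁ hχ₂ h, mul_zero,
        mul_zero]
  have hdeg : ∀ f : X → ℂ, (Cfsg.IsIrrCharacter X f ∨ Cfsg.IsIrrCharacter X (-f)) → f 1 ≠ 0 := by
    intro f hf
    obtain ⟨s, χ, hs, hχ, rfl⟩ := hsgn f hf
    simp only [Pi.smul_apply, smul_eq_mul]
    exact mul_ne_zero (hne0 s hs) (IsIrrCharacter.apply_one_ne_zero hχ)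
  have hself : ∀ f : X → ℂ, (Cfsg.IsIrrCharacter X f ∨ Cfsg.IsIrrCharacter X (-f)) →
      Cfsg.classInner f f = 1 := by
    intro f hf
    obtain ⟨s, χ, hs, hχ, rfl⟩ := hsgn f hf
    rw [classInner_smul_left, classInner_smul_right, classInner_irr_self hχ, hconj s hs, mul_one,
      hsq s hs]
  have hba : Cfsg.classInner b a = 0 := by
    rw [classInner_conj_symm, hab, map_zero]
  have hmix' : (p : ℂ) * (u : ℂ) * Cfsg.classInner a c - (p : ℂ) * (v : ℂ) * Cfsg.classInner a e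
      - (q : ℂ) * (u : ℂ) * Cfsg.classInner b c + (q : ℂ) * (v : ℂ) * Cfsg.classInner b e = 0 := by
    simp only [classInner_sub_left, classInner_sub_right, classInner_smul_right,
      classInner_smul_left, Complex.conj_ofReal] at hmix
    linear_combination hmix
  have hpC : (p : ℂ) ≠ 0 := by exact_mod_cast hp
  have hqC : (q : ℂ) ≠ 0 := by exact_mod_cast hq
  have huC : (u : ℂ) ≠ 0 := by exact_mod_cast hu
  have hvC : (v : ℂ) ≠ 0 := by exact_mod_cast hv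
  by_contra hac
  rcases hcases a c ha hc with h0 | ⟨s, hs, hac1, hca1⟩
  · exact hac h0
  have hae : Cfsg.classInner a e = 0 := by
    rw [hac1, classInner_smul_left, hce, mul_zero]
  have hbc : Cfsg.classInner b c = 0 := by
    rw [hca1, classInner_smul_right, hba, mul_zero]
  have hac' : Cfsg.classInner a c = s := by
    rw [hac1, classInner_smul_left, hself c hc, mul_one]
  rw [hae, hbc, hac'] at hmix'
  rcases hcases b e hb he with h0 | ⟨t, ht, hbe1, heb1⟩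
  · rw [h0] at hmix'
    have : (p : ℂ) * (u : ℂ) * s = 0 := by linear_combination hmix'
    exact (mul_ne_zero (mul_ne_zero hpC huC) (hne0 s hs)) this
  have hbe' : Cfsg.classInner b e = t := by
    rw [hbe1, classInner_smul_left, hself e he, mul_one]
  rw [hbe'] at hmix'
  -- degrees
  have ea : a 1 = s * c 1 := by
    have := congrFun hac1 1
    simpa using this
  have eb : b 1 = t * e 1 := by
    have := congrFun hbe1 1
    simpa using this
  have hc1 : c 1 ≠ 0 := hdeg c hc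
  have he1 : e 1 ≠ 0 := hdeg e he
  rw [ea, eb] at h1
  -- p s v = q t u
  have e3 : (p : ℂ) * s * (v : ℂ) = (q : ℂ) * t * (u : ℂ) := by
    have e4 : ((p : ℂ) * s * (v : ℂ)) * c 1 = ((q : ℂ) * t * (u : ℂ)) * c 1 := by
      calc ((p : ℂ) * s * (v : ℂ)) * c 1 = (v : ℂ) * ((p : ℂ) * (s * c 1)) := by ring
        _ = (v : ℂ) * ((q : ℂ) * (t * e 1)) := by rw [h1]
        _ = (q : ℂ) * t * ((v : ℂ) * e 1) := by ring
        _ = (q : ℂ) * t * ((u : ℂ) * c 1) := by rw [h2]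
        _ = ((q : ℂ) * t * (u : ℂ)) * c 1 := by ring
    exact mul_right_cancel₀ hc1 e4
  -- p u s = - q v t
  have e5 : (p : ℂ) * (u : ℂ) * s = -((q : ℂ) * (v : ℂ) * t) := by linear_combination hmix'
  -- multiply
  have e6 : ((p : ℂ) ^ 2 + (q : ℂ) ^ 2) * ((u : ℂ) * (v : ℂ)) = 0 := by
    have hs2 := hsq s hs
    have ht2 := hsq t ht
    have e7 : ((p : ℂ) * s * (v : ℂ)) * ((p : ℂ) * (u : ℂ) * s) =
        ((q : ℂ) * t * (u : ℂ)) * (-((q : ℂ) * (v : ℂ) * t)) := by rw [e3, e5]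
    have e8 : ((p : ℂ) * s * (v : ℂ)) * ((p : ℂ) * (u : ℂ) * s) =
        (p : ℂ) ^ 2 * ((u : ℂ) * (v : ℂ)) * (s * s) := by ring
    have e9 : ((q : ℂ) * t * (u : ℂ)) * (-((q : ℂ) * (v : ℂ) * t)) =
        -((q : ℂ) ^ 2 * ((u : ℂ) * (v : ℂ)) * (t * t)) := by ring
    rw [e8, e9, hs2, ht2, mul_one, mul_one] at e7
    linear_combination e7
  rcases mul_eq_zero.mp e6 with h | h
  · have h' : ((p ^ 2 + q ^ 2 : ℝ) : ℂ) = 0 := by
      push_cast
      exact h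
    have h'' : p ^ 2 + q ^ 2 = 0 := by exact_mod_cast h'
    have : p = 0 := by nlinarith [sq_nonneg p, sq_nonneg q]
    exact hp this
  · exact (mul_ne_zero huC hvC) h

end Cfsg.Agent.Helper6
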