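import Mathlib
import Cfsg.Prelude.Def_Characters
import Cfsg.Prelude.Def_OddOrderChar
import Cfsg.Agent.Helper6.CoherK
import Cfsg.Agent.Helper6.IrrBasis

/-!
# Coherent extensions on disjoint sets of irreducible characters are orthogonal
-/

set_option autoImplicit false
set_option linter.style.haveILetI false

namespace Cfsg.Agent.Helper6

open scoped ComplexConjugate

universe u v

variable {N : Type u} [Group N] [Fintype N] {G : Type v} [Group G] [Fintype G]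

/-- the integer combination of two members with weights the degrees of the others vanishes at
one -/
theorem deg_comb_mem_zspanOn (X : Set (N → ℂ)) (χ χ' : N → ℂ) (hχ : χ ∈ X) (hχ' : χ' ∈ X)
    (p q : ℕ) (hp : χ' 1 = p) (hq : χ 1 = q) :
    (p : ℤ) • χ - (q : ℤ) • χ' ∈ Cfsg.zspanOn X {1}ᶜ := by
  refine ⟨Submodule.sub_mem _ (Submodule.smul_mem _ _ (Submodule.subset_span hχ))
    (Submodule.smul_mem _ _ (Submodule.subset_span hχ')), ?_⟩
  intro x hx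
  have hx1 : x = 1 := by simpa using hx
  rw [hx1, Pi.sub_apply, Pi.smul_apply, Pi.smul_apply, hp, hq]
  simp only [zsmul_eq_mul]
  push_cast
  ring

set_option maxHeartbeats 1600000 in
/-- Coherent extensions on disjoint sets of irreducible characters, each with at least two
members, have orthogonal images. -/
theorem coherent_ortho_irr (S X Y : Set (N → ℂ)) (hirr : ∀ ξ ∈ S, Cfsg.IsIrrCharacter N ξ)
    (hXS : X ⊆ S) (hYS : Y ⊆ S) (hXY : Disjoint X Y) (hX2 : ∃ a ∈ X, ∃ b ∈ X, a ≠ b)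
    (hY2 : ∃ a ∈ Y, ∃ b ∈ Y, a ≠ b) (α : (N → ℂ) → (G → ℂ))
    (hα : Cfsg.IsLinearIsometryOn (Cfsg.zspanOn S {1}ᶜ) α)
    (hα1 : ∀ θ ∈ Cfsg.zspanOn S {1}ᶜ, α θ 1 = 0) (σ τ : (N → ℂ) → (G → ℂ))
    (hσ : Cfsg.IsLinearIsometryOn (Cfsg.zspan X) σ)
    (hσα : ∀ θ ∈ Cfsg.zspanOn X {1}ᶜ, σ θ = α θ)
    (hτ : Cfsg.IsLinearIsometryOn (Cfsg.zspan Y) τ)
    (hτα : ∀ θ ∈ Cfsg.zspanOn Y {1}ᶜ, τ θ = α θ) :
    ∀ χ ∈ X, ∀ η ∈ Y, Cfsg.classInner (σ χ) (τ η) = 0 := by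
  classical
  intro χ hχ η hη
  obtain ⟨-, -, hisoα, -⟩ := id hα
  obtain ⟨-, hsmulσ, hisoσ, hgenσ⟩ := id hσ
  obtain ⟨-, hsmulτ, hisoτ, hgenτ⟩ := id hτ
  -- partners
  obtain ⟨χ', hχ', hne⟩ : ∃ χ' ∈ X, χ' ≠ χ := by
    obtain ⟨a, ha, b, hb, hab⟩ := hX2
    by_cases h : a = χ
    · exact ⟨b, hb, fun h' => hab (h.trans h'.symm)⟩
    · exact ⟨a, ha, h⟩
  obtain ⟨η', hη', hne'⟩ : ∃ η' ∈ Y, η' ≠ η := by
    obtain ⟨a, ha, b, hb, hab⟩ := hY2
    by_cases h : a = η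
    · exact ⟨b, hb, fun h' => hab (h.trans h'.symm)⟩
    · exact ⟨a, ha, h⟩
  have irχ := hirr χ (hXS hχ)
  have irχ' := hirr χ' (hXS hχ')
  have irη := hirr η (hYS hη)
  have irη' := hirr η' (hYS hη')
  obtain ⟨q, hq0, hq⟩ := IsIrrCharacter.apply_one_pos irχ
  obtain ⟨p, hp0, hp⟩ := IsIrrCharacter.apply_one_pos irχ'
  obtain ⟨v, hv0, hv⟩ := IsIrrCharacter.apply_one_pos irη
  obtain ⟨u, hu0, hu⟩ := IsIrrCharacter.apply_one_pos irη'
  have hdisj : ∀ ξ ∈ X, ∀ ζ ∈ Y, ξ ≠ ζ := by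
    intro ξ hξ ζ hζ h
    exact Set.disjoint_left.mp hXY hξ (h ▸ hζ)
  have mX := deg_comb_mem_zspanOn X χ χ' hχ hχ' p q hp hq
  have mY := deg_comb_mem_zspanOn Y η η' hη hη' u v hu hv
  have mχ : χ ∈ Cfsg.zspan X := Submodule.subset_span hχ
  have mχ' : χ' ∈ Cfsg.zspan X := Submodule.subset_span hχ'
  have mη : η ∈ Cfsg.zspan Y := Submodule.subset_span hη
  have mη' : η' ∈ Cfsg.zspan Y := Submodule.subset_span hη'
  have hσX : σ ((p : ℤ) • χ - (q : ℤ) • χ') = (p : ℤ) • σ χ - (q : ℤ) • σ χ' := by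
    rw [isometryOnSpan_map_sub X σ hσ (Submodule.smul_mem _ _ mχ) (Submodule.smul_mem _ _ mχ'),
      hsmulσ χ mχ, hsmulσ χ' mχ']
  have hτY : τ ((u : ℤ) • η - (v : ℤ) • η') = (u : ℤ) • τ η - (v : ℤ) • τ η' := by
    rw [isometryOnSpan_map_sub Y τ hτ (Submodule.smul_mem _ _ mη) (Submodule.smul_mem _ _ mη'),
      hsmulτ η mη, hsmulτ η' mη']
  have hsig : ∀ (ρ : (N → ℂ) → (G → ℂ)) (Z : Set (N → ℂ)),
      Cfsg.IsLinearIsometryOn (Cfsg.zspan Z) ρ → ∀ ξ ∈ Z, Cfsg.IsIrrCharacter N ξ →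
      (Cfsg.IsIrrCharacter G (ρ ξ) ∨ Cfsg.IsIrrCharacter G (-ρ ξ)) := by
    intro ρ Z hρ ξ hξ hirrξ
    have m : ξ ∈ Cfsg.zspan Z := Submodule.subset_span hξ
    obtain ⟨ψ, hψ, h | h⟩ := exists_signed_irr_of_norm_one (hρ.2.2.2 ξ m)
      (by rw [hρ.2.2.1 ξ m ξ m, classInner_irr_self hirrξ])
    · left
      rw [h]
      exact hψ
    · right
      rw [h, neg_neg]
      exact hψ
  have hcast : ∀ (k : ℕ) (f : G → ℂ), (k : ℤ) • f = (((k : ℝ) : ℂ)) • f := by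
    intro k f
    rw [← Int.cast_smul_eq_zsmul ℂ]
    push_cast
    rfl
  apply signed_irr_cross_zero (σ χ) (σ χ') (τ η) (τ η') (hsig σ X hσ χ hχ irχ)
    (hsig σ X hσ χ' hχ' irχ') (hsig τ Y hτ η hη irη) (hsig τ Y hτ η' hη' irη')
    (p : ℝ) (q : ℝ) (u : ℝ) (v : ℝ) (by exact_mod_cast hp0.ne') (by exact_mod_cast hq0.ne')
    (by exact_mod_cast hu0.ne') (by exact_mod_cast hv0.ne')
  · rw [hisoσ χ mχ χ' mχ']
    exact classInner_irr_ne irχ irχ' (Ne.symm hne)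
  · rw [hisoτ η mη η' mη']
    exact classInner_irr_ne irη irη' (Ne.symm hne')
  · rw [← hcast, ← hcast, ← hcast, ← hcast, ← hσX, ← hτY, hσα _ mX, hτα _ mY,
      hisoα _ (zspanOn_mono hXS _ mX) _ (zspanOn_mono hYS _ mY),
      ← Int.cast_smul_eq_zsmul ℂ, ← Int.cast_smul_eq_zsmul ℂ, ← Int.cast_smul_eq_zsmul ℂ,
      ← Int.cast_smul_eq_zsmul ℂ]
    simp only [classInner_sub_left, classInner_sub_right, classInner_smul_left,
      classInner_smul_right, classInner_irr_ne irχ irη (hdisj χ hχ η hη),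
      classInner_irr_ne irχ irη' (hdisj χ hχ η' hη'),
      classInner_irr_ne irχ' irη (hdisj χ' hχ' η hη),
      classInner_irr_ne irχ' irη' (hdisj χ' hχ' η' hη'), mul_zero, sub_zero]
  · have h1 := hα1 _ (zspanOn_mono hXS _ mX)
    rw [← hσα _ mX, hσX, Pi.sub_apply, Pi.smul_apply, Pi.smul_apply] at h1
    simp only [zsmul_eq_mul] at h1
    push_cast at h1 ⊢
    linear_combination h1
  · have h1 := hα1 _ (zspanOn_mono hYS _ mY)
    rw [← hτα _ mY, hτY, Pi.sub_apply, Pi.smul_apply, Pi.smul_apply] at h1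
    simp only [zsmul_eq_mul] at h1
    push_cast at h1 ⊢
    linear_combination h1

end Cfsg.Agent.Helper6
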