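import Mathlib
import Cfsg.Prelude.Def_Characters
import Cfsg.Prelude.Def_OddOrderChar
import Cfsg.Agent.Helper6.CoherL

/-!
# Gluing coherent extensions on disjoint sets of irreducible characters
-/

set_option autoImplicit false
set_option linter.style.haveILetI false

namespace Cfsg.Agent.Helper6

open scoped ComplexConjugate

universe u v

variable {N : Type u} [Group N] [Fintype N] {G : Type v} [Group G] [Fintype G]

set_option maxHeartbeats 6400000 in
/-- Coherent extensions on two disjoint sets of irreducible characters that are compatible on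
one mixed difference glue to a coherent extension on the union. -/
theorem coherent_union_irr (S X Y : Set (N → ℂ)) (hirr : ∀ ξ ∈ S, Cfsg.IsIrrCharacter N ξ)
    (hXS : X ⊆ S) (hYS : Y ⊆ S) (hXY : Disjoint X Y) (hX2 : ∃ a ∈ X, ∃ b ∈ X, a ≠ b)
    (hY2 : ∃ a ∈ Y, ∃ b ∈ Y, a ≠ b) (α : (N → ℂ) → (G → ℂ))
    (hα : Cfsg.IsLinearIsometryOn (Cfsg.zspanOn S {1}ᶜ) α)
    (hα1 : ∀ θ ∈ Cfsg.zspanOn S {1}ᶜ, α θ 1 = 0) (σ τ : (N → ℂ) → (G → ℂ))
    (hσ : Cfsg.IsLinearIsometryOn (Cfsg.zspan X) σ)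
    (hσα : ∀ θ ∈ Cfsg.zspanOn X {1}ᶜ, σ θ = α θ)
    (hτ : Cfsg.IsLinearIsometryOn (Cfsg.zspan Y) τ)
    (hτα : ∀ θ ∈ Cfsg.zspanOn Y {1}ᶜ, τ θ = α θ)
    (hglue : ∃ χ₀ ∈ X, ∃ η₀ ∈ Y, α (χ₀ 1 • η₀ - η₀ 1 • χ₀) = χ₀ 1 • τ η₀ - η₀ 1 • σ χ₀) :
    Cfsg.IsCoherent (X ∪ Y) {1}ᶜ α := by
  classical
  have hortho := coherent_ortho_irr S X Y hirr hXS hYS hXY hX2 hY2 α hα hα1 σ τ hσ hσα hτ hτα
  obtain ⟨haddα, hsmulα, hisoα, hgenα⟩ := id hα
  obtain ⟨haddσ, hsmulσ, hisoσ, hgenσ⟩ := id hσ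
  obtain ⟨haddτ, hsmulτ, hisoτ, hgenτ⟩ := id hτ
  have hcz : ∀ (k : ℤ) (f : N → ℂ), (k : ℂ) • f = k • f := fun k f =>
    Int.cast_smul_eq_zsmul ℂ k f
  have hczG : ∀ (k : ℤ) (f : G → ℂ), (k : ℂ) • f = k • f := fun k f =>
    Int.cast_smul_eq_zsmul ℂ k f
  have hdisj : ∀ ξ ∈ X, ∀ ζ ∈ Y, ξ ≠ ζ := by
    intro ξ hξ ζ hζ h
    exact Set.disjoint_left.mp hXY hξ (h ▸ hζ)
  have hUS : X ∪ Y ⊆ S := Set.union_subset hXS hYS
  -- finiteness of `X`
  have hirrfin : {ξ : N → ℂ | Cfsg.IsIrrCharacter N ξ}.Finite :=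
    Set.finite_coe_iff.mp (irr_finite (G := N))
  have hXfin : X.Finite := hirrfin.subset (fun ξ h => hirr ξ (hXS h))
  -- the projection on the span of `X`
  let P : (N → ℂ) → (N → ℂ) := fun f => ∑ ξ ∈ hXfin.toFinset, Cfsg.classInner f ξ • ξ
  have hPadd : ∀ f f', P (f + f') = P f + P f' := by
    intro f f'
    show ∑ ξ ∈ hXfin.toFinset, Cfsg.classInner (f + f') ξ • ξ =
      ∑ ξ ∈ hXfin.toFinset, Cfsg.classInner f ξ • ξ + ∑ ξ ∈ hXfin.toFinset, Cfsg.classInner f' ξ • ξ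
    simp only [classInner_add_left, add_smul, Finset.sum_add_distrib]
  have hPsmul : ∀ (k : ℤ) f, P (k • f) = k • P f := by
    intro k f
    show ∑ ξ ∈ hXfin.toFinset, Cfsg.classInner (k • f) ξ • ξ =
      k • ∑ ξ ∈ hXfin.toFinset, Cfsg.classInner f ξ • ξ
    rw [Finset.smul_sum]
    apply Finset.sum_congr rfl
    intro ξ _
    rw [← hcz k f, classInner_smul_left, ← hcz, smul_smul]
  have hPX : ∀ ξ ∈ X, P ξ = ξ := by
    intro ξ hξ
    show ∑ ξ' ∈ hXfin.toFinset, Cfsg.classInner ξ ξ' • ξ' = ξ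
    rw [Finset.sum_eq_single ξ]
    · rw [classInner_irr_self (hirr ξ (hXS hξ)), one_smul]
    · intro ξ' hξ' hne
      rw [Set.Finite.mem_toFinset] at hξ'
      rw [classInner_irr_ne (hirr ξ (hXS hξ)) (hirr ξ' (hXS hξ')) (Ne.symm hne), zero_smul]
    · intro h
      rw [Set.Finite.mem_toFinset] at h
      exact absurd hξ h
  have hPY : ∀ η ∈ Y, P η = 0 := by
    intro η hη
    show ∑ ξ' ∈ hXfin.toFinset, Cfsg.classInner η ξ' • ξ' = 0
    apply Finset.sum_eq_zero
    intro ξ' hξ'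
    rw [Set.Finite.mem_toFinset] at hξ'
    rw [classInner_irr_ne (hirr η (hYS hη)) (hirr ξ' (hXS hξ')) (Ne.symm (hdisj ξ' hξ' η hη)),
      zero_smul]
  have hPzero : P 0 = 0 := by
    have := hPsmul 0 0
    simpa using this
  have hPgX : ∀ g ∈ Cfsg.zspan X, P g = g := by
    intro g hg
    induction hg using Submodule.span_induction with
    | mem ξ hξ => exact hPX ξ hξ
    | zero => exact hPzero
    | add x y _ _ ihx ihy => rw [hPadd, ihx, ihy]
    | smul k x _ ihx => rw [hPsmul, ihx]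
  have hPgY : ∀ h ∈ Cfsg.zspan Y, P h = 0 := by
    intro h hh
    induction hh using Submodule.span_induction with
    | mem η hη => exact hPY η hη
    | zero => exact hPzero
    | add x y _ _ ihx ihy => rw [hPadd, ihx, ihy, add_zero]
    | smul k x _ ihx => rw [hPsmul, ihx, smul_zero]
  -- the glued map
  let ρ : (N → ℂ) → (G → ℂ) := fun f => σ (P f) + τ (f - P f)
  have hρ : ∀ g ∈ Cfsg.zspan X, ∀ h ∈ Cfsg.zspan Y, ρ (g + h) = σ g + τ h := by
    intro g hg h hh
    show σ (P (g + h)) + τ (g + h - P (g + h)) = _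
    rw [hPadd, hPgX g hg, hPgY h hh, add_zero, add_sub_cancel_left]
  have hdec : ∀ f ∈ Cfsg.zspan (X ∪ Y), ∃ g ∈ Cfsg.zspan X, ∃ h ∈ Cfsg.zspan Y, f = g + h := by
    intro f hf
    have hf' : f ∈ Submodule.span ℤ X ⊔ Submodule.span ℤ Y := by
      rw [← Submodule.span_union]
      exact hf
    obtain ⟨g, hg, h, hh, rfl⟩ := Submodule.mem_sup.mp hf'
    exact ⟨g, hg, h, hh, rfl⟩
  -- cross terms
  have hcrossσ : ∀ g ∈ Cfsg.zspan X, ∀ h ∈ Cfsg.zspan Y, Cfsg.classInner (σ g) (τ h) = 0 := by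
    intro g hg h hh
    induction hg using Submodule.span_induction with
    | mem ξ hξ =>
      induction hh using Submodule.span_induction with
      | mem η hη => exact hortho ξ hξ η hη
      | zero => rw [isometryOnSpan_map_zero Y τ hτ, classInner_zero_right]
      | add x y hx hy ihx ihy => rw [haddτ x hx y hy, classInner_add_right, ihx, ihy, add_zero]
      | smul k x hx ihx =>
        rw [hsmulτ x hx k, ← hczG, classInner_smul_right, ihx, mul_zero]
    | zero => rw [isometryOnSpan_map_zero X σ hσ, classInner_zero_left]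
    | add x y hx hy ihx ihy => rw [haddσ x hx y hy, classInner_add_left, ihx, ihy, add_zero]
    | smul k x hx ihx =>
      rw [hsmulσ x hx k, ← hczG, classInner_smul_left, ihx, mul_zero]
  have hcross : ∀ g ∈ Cfsg.zspan X, ∀ h ∈ Cfsg.zspan Y, Cfsg.classInner g h = 0 := by
    intro g hg h hh
    induction hg using Submodule.span_induction with
    | mem ξ hξ =>
      induction hh using Submodule.span_induction with
      | mem η hη =>
        exact classInner_irr_ne (hirr ξ (hXS hξ)) (hirr η (hYS hη)) (hdisj ξ hξ η hη)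
      | zero => rw [classInner_zero_right]
      | add x y _ _ ihx ihy => rw [classInner_add_right, ihx, ihy, add_zero]
      | smul k x _ ihx => rw [← hcz, classInner_smul_right, ihx, mul_zero]
    | zero => rw [classInner_zero_left]
    | add x y _ _ ihx ihy => rw [classInner_add_left, ihx, ihy, add_zero]
    | smul k x _ ihx => rw [← hcz, classInner_smul_left, ihx, mul_zero]
  -- integer degrees
  have hdegX : ∀ g ∈ Cfsg.zspan X, ∃ t : ℤ, g 1 = t := by
    intro g hg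
    induction hg using Submodule.span_induction with
    | mem ξ hξ =>
      obtain ⟨k, -, hk⟩ := IsIrrCharacter.apply_one_pos (hirr ξ (hXS hξ))
      exact ⟨k, by rw [hk]; simp⟩
    | zero => exact ⟨0, by simp⟩
    | add x y _ _ ihx ihy =>
      obtain ⟨t, ht⟩ := ihx
      obtain ⟨t', ht'⟩ := ihy
      exact ⟨t + t', by rw [Pi.add_apply, ht, ht']; push_cast; ring⟩
    | smul k x _ ihx =>
      obtain ⟨t, ht⟩ := ihx
      exact ⟨k * t, by rw [Pi.smul_apply, ht, zsmul_eq_mul]; push_cast; ring⟩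
  obtain ⟨χ₀, hχ₀, η₀, hη₀, hgl⟩ := hglue
  obtain ⟨c, hc0, hc⟩ := IsIrrCharacter.apply_one_pos (hirr χ₀ (hXS hχ₀))
  obtain ⟨e, he0, he⟩ := IsIrrCharacter.apply_one_pos (hirr η₀ (hYS hη₀))
  rw [hc, he] at hgl
  refine ⟨?_, ρ, ⟨?_, ?_, ?_, ?_⟩, ?_⟩
  · -- a nonzero member vanishing at one
    obtain ⟨a, ha, b, hb, hab⟩ := hX2
    obtain ⟨p, hp0, hp⟩ := IsIrrCharacter.apply_one_pos (hirr b (hXS hb))
    obtain ⟨q, hq0, hq⟩ := IsIrrCharacter.apply_one_pos (hirr a (hXS ha))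
    refine ⟨(p : ℤ) • a - (q : ℤ) • b,
      zspanOn_mono Set.subset_union_left _ (deg_comb_mem_zspanOn X a b ha hb p q hp hq), ?_⟩
    intro h0
    have h1 : Cfsg.classInner ((p : ℤ) • a - (q : ℤ) • b) a = p := by
      rw [← hcz, ← hcz, classInner_sub_left, classInner_smul_left, classInner_smul_left,
        classInner_irr_self (hirr a (hXS ha)),
        classInner_irr_ne (hirr b (hXS hb)) (hirr a (hXS ha)) (Ne.symm hab)]
      push_cast
      ring
    rw [h0, classInner_zero_left] at h1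
    have : (p : ℂ) ≠ 0 := by exact_mod_cast hp0.ne'
    exact this h1.symm
  · intro f hf f' hf'
    obtain ⟨g, hg, h, hh, rfl⟩ := hdec f hf
    obtain ⟨g', hg', h', hh', rfl⟩ := hdec f' hf'
    have hsplit : (g + h) + (g' + h') = (g + g') + (h + h') := by abel
    rw [hsplit, hρ _ (Submodule.add_mem _ hg hg') _ (Submodule.add_mem _ hh hh'), hρ g hg h hh,
      hρ g' hg' h' hh', haddσ g hg g' hg', haddτ h hh h' hh']
    abel
  · intro f hf k
    obtain ⟨g, hg, h, hh, rfl⟩ := hdec f hf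
    rw [smul_add, hρ _ (Submodule.smul_mem _ k hg) _ (Submodule.smul_mem _ k hh), hρ g hg h hh,
      hsmulσ g hg k, hsmulτ h hh k, smul_add]
  · intro f hf f' hf'
    obtain ⟨g, hg, h, hh, rfl⟩ := hdec f hf
    obtain ⟨g', hg', h', hh', rfl⟩ := hdec f' hf'
    have e1 : Cfsg.classInner (τ h) (σ g') = 0 := by
      rw [classInner_conj_symm (σ g') (τ h), hcrossσ g' hg' h hh, map_zero]
    have e2 : Cfsg.classInner h g' = 0 := by
      rw [classInner_conj_symm g' h, hcross g' hg' h hh, map_zero]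
    rw [hρ g hg h hh, hρ g' hg' h' hh']
    simp only [classInner_add_left, classInner_add_right, hcrossσ g hg h' hh', e1,
      hcross g hg h' hh', e2, hisoσ g hg g' hg', hisoτ h hh h' hh']
  · intro f hf
    obtain ⟨g, hg, h, hh, rfl⟩ := hdec f hf
    rw [hρ g hg h hh]
    exact genchar_add (hgenσ g hg) (hgenτ h hh)
  · intro f hf
    obtain ⟨g, hg, h, hh, rfl⟩ := hdec f hf.1
    rw [hρ g hg h hh]
    obtain ⟨t, ht⟩ := hdegX g hg
    have hh1 : h 1 = -(t : ℂ) := by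
      have := hf.2 1 (by simp)
      rw [Pi.add_apply, ht] at this
      linear_combination this
    have mχ₀ : χ₀ ∈ Cfsg.zspan X := Submodule.subset_span hχ₀
    have mη₀ : η₀ ∈ Cfsg.zspan Y := Submodule.subset_span hη₀
    -- the three pieces
    have mA : ((c * e : ℕ) : ℤ) • g - ((e : ℤ) * t) • χ₀ ∈ Cfsg.zspanOn X {1}ᶜ := by
      refine ⟨Submodule.sub_mem _ (Submodule.smul_mem _ _ hg) (Submodule.smul_mem _ _ mχ₀), ?_⟩
      intro x hx
      have hx1 : x = 1 := by simpa using hx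
      rw [hx1, Pi.sub_apply, Pi.smul_apply, Pi.smul_apply, ht, hc]
      simp only [zsmul_eq_mul]
      push_cast
      ring
    have mB : ((c * e : ℕ) : ℤ) • h + ((c : ℤ) * t) • η₀ ∈ Cfsg.zspanOn Y {1}ᶜ := by
      refine ⟨Submodule.add_mem _ (Submodule.smul_mem _ _ hh) (Submodule.smul_mem _ _ mη₀), ?_⟩
      intro x hx
      have hx1 : x = 1 := by simpa using hx
      rw [hx1, Pi.add_apply, Pi.smul_apply, Pi.smul_apply, hh1, he]
      simp only [zsmul_eq_mul]
      push_cast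
      ring
    have mΓ : (c : ℂ) • η₀ - (e : ℂ) • χ₀ ∈ Cfsg.zspanOn S {1}ᶜ := by
      have h1 : (c : ℂ) • η₀ = (c : ℤ) • η₀ := by rw [← hcz, Int.cast_natCast]
      have h2 : (e : ℂ) • χ₀ = (e : ℤ) • χ₀ := by rw [← hcz, Int.cast_natCast]
      refine ⟨?_, ?_⟩
      · rw [h1, h2]
        exact Submodule.sub_mem _ (Submodule.smul_mem _ _ (Submodule.subset_span (hYS hη₀)))
          (Submodule.smul_mem _ _ (Submodule.subset_span (hXS hχ₀)))
      · intro x hx
        have hx1 : x = 1 := by simpa using hx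
        rw [hx1, Pi.sub_apply, Pi.smul_apply, Pi.smul_apply, hc, he, smul_eq_mul, smul_eq_mul]
        ring
    have mAS := zspanOn_mono hXS _ mA
    have mBS := zspanOn_mono hYS _ mB
    have mΓt := zspanOn_zsmul_mem S _ mΓ (-t)
    have mfS : g + h ∈ Cfsg.zspanOn S {1}ᶜ := zspanOn_mono hUS _ hf
    have hsplit : ((c * e : ℕ) : ℤ) • (g + h) =
        (((c * e : ℕ) : ℤ) • g - ((e : ℤ) * t) • χ₀) +
        ((((c * e : ℕ) : ℤ) • h + ((c : ℤ) * t) • η₀) + (-t) • ((c : ℂ) • η₀ - (e : ℂ) • χ₀)) := by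
      rw [← hcz, ← hcz, ← hcz, ← hcz, ← hcz, ← hcz]
      push_cast
      module
    have hαf : ((c * e : ℕ) : ℤ) • α (g + h) = ((c * e : ℕ) : ℤ) • (σ g + τ h) := by
      rw [← hsmulα _ mfS, hsplit, haddα _ mAS _ (zspanOn_add_mem S _ mBS mΓt), haddα _ mBS _ mΓt,
        hsmulα _ mΓ, hgl, ← hσα _ mA, ← hτα _ mB,
        isometryOnSpan_map_sub X σ hσ (Submodule.smul_mem _ _ hg) (Submodule.smul_mem _ _ mχ₀),
        haddτ _ (Submodule.smul_mem _ _ hh) _ (Submodule.smul_mem _ _ mη₀),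
        hsmulσ g hg, hsmulσ χ₀ mχ₀, hsmulτ h hh, hsmulτ η₀ mη₀,
        ← hczG, ← hczG, ← hczG, ← hczG, ← hczG, ← hczG]
      push_cast
      module
    have hce0 : ((c * e : ℕ) : ℤ) ≠ 0 := by
      have : 0 < c * e := Nat.mul_pos hc0 he0
      exact_mod_cast this.ne'
    exact (smul_right_injective (G → ℂ) hce0 hαf).symm

end Cfsg.Agent.Helper6
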