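import Mathlib
import Cfsg.Prelude.Def_Characters
import Cfsg.Prelude.Def_OddOrderChar
import Cfsg.Agent.Helper6.CoherM

/-!
# Extending a coherent set of irreducible characters by one character: the key decomposition
-/

set_option autoImplicit false
set_option linter.style.haveILetI false

namespace Cfsg.Agent.Helper6

open scoped ComplexConjugate

universe u v

variable {N : Type u} [Group N] [Fintype N] {G : Type v} [Group G] [Fintype G]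

/-- integer arithmetic: the case distinction on `b` -/
theorem int_b_zero_or_one (a b z D Sg : ℤ) (ha : 0 < a) (hD : 0 < D) (hz : 0 ≤ z)
    (hSg : 2 * a * D ^ 2 < Sg) (h : D ^ 2 * z = D ^ 2 * (1 + 2 * a * b) - b ^ 2 * Sg) :
    b = 0 ∨ (b = 1 ∧ z = 0) := by
  by_cases hb : b = 0
  · exact Or.inl hb
  right
  have hb2 : 0 < b ^ 2 := by positivity
  have hD2 : 0 < D ^ 2 := by positivity
  have h1 : D ^ 2 * z < D ^ 2 * (1 + 2 * a * b - 2 * a * b ^ 2) := by nlinarith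
  have h2 : z < 1 + 2 * a * b - 2 * a * b ^ 2 := lt_of_mul_lt_mul_left h1 hD2.le
  have h3 : 0 ≤ a * (b * (b - 1)) := by
    have : 0 ≤ b * (b - 1) := by nlinarith [sq_nonneg (2 * b - 1)]
    positivity
  have hz0 : z = 0 := by nlinarith
  refine ⟨?_, hz0⟩
  rw [hz0] at h2
  have h4 : a * (b * (b - 1)) ≤ 0 := by nlinarith
  have h5 : a * (b * (b - 1)) = 0 := le_antisymm h4 h3
  rcases mul_eq_zero.mp h5 with h | h
  · omega
  · rcases mul_eq_zero.mp h with h | h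
    · exact absurd h hb
    · omega


set_option maxHeartbeats 6400000 in
/-- The key step for extending a coherent set of irreducible characters by `χ`:
`τ (χ − a ψ) = Z − a τ₁ ψ` with `Z` of norm one orthogonal to the images of the coherent set. -/
theorem irr_extend_key (S₀ : Finset (N → ℂ)) (χ : N → ℂ)
    (hirr : ∀ ξ ∈ S₀, Cfsg.IsIrrCharacter N ξ) (hχ : Cfsg.IsIrrCharacter N χ) (hχS : χ ∉ S₀)
    (d : (N → ℂ) → ℕ) (hd : ∀ ξ ∈ insert χ S₀, ξ 1 = (d ξ : ℂ)) (τ : (N → ℂ) → (G → ℂ))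
    (hτ : Cfsg.IsLinearIsometryOn (Cfsg.zspanOn (↑(insert χ S₀) : Set (N → ℂ)) {1}ᶜ) τ)
    (hτ1 : ∀ α ∈ Cfsg.zspanOn (↑(insert χ S₀) : Set (N → ℂ)) {1}ᶜ, τ α 1 = 0)
    (τ₁ : (N → ℂ) → (G → ℂ))
    (hτ₁ : Cfsg.IsLinearIsometryOn (Cfsg.zspan (↑S₀ : Set (N → ℂ))) τ₁)
    (hag : ∀ θ ∈ Cfsg.zspanOn (↑S₀ : Set (N → ℂ)) {1}ᶜ, τ₁ θ = τ θ)
    (ψ : N → ℂ) (hψ : ψ ∈ S₀) (a : ℕ) (ha : d χ = a * d ψ)
    (hlt : 2 * d ψ * d χ < ∑ ξ ∈ S₀, d ξ ^ 2) :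
    ∃ Z : G → ℂ, Cfsg.IsGeneralizedCharacter G Z ∧ Cfsg.classInner Z Z = 1 ∧
      (∀ ξ ∈ S₀, Cfsg.classInner Z (τ₁ ξ) = 0) ∧
      τ (χ - (a : ℂ) • ψ) = Z - (a : ℂ) • τ₁ ψ := by
  classical
  obtain ⟨-, -, hiso, hgen⟩ := id hτ
  obtain ⟨-, hsmul₁, hiso₁, hgen₁⟩ := id hτ₁
  have hcz : ∀ (k : ℤ) (f : N → ℂ), (k : ℂ) • f = k • f := fun k f =>
    Int.cast_smul_eq_zsmul ℂ k f
  have hczG : ∀ (k : ℤ) (f : G → ℂ), (k : ℂ) • f = k • f := fun k f =>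
    Int.cast_smul_eq_zsmul ℂ k f
  have hSU : (↑S₀ : Set (N → ℂ)) ⊆ ↑(insert χ S₀) := by
    intro ξ hξ
    exact Finset.mem_insert_of_mem hξ
  have hχU : χ ∈ (↑(insert χ S₀) : Set (N → ℂ)) := Finset.mem_insert_self χ S₀
  have hψU : ψ ∈ (↑(insert χ S₀) : Set (N → ℂ)) := hSU hψ
  have irψ := hirr ψ hψ
  have hne : ∀ ξ ∈ S₀, ξ ≠ χ := fun ξ hξ h => hχS (h ▸ hξ)
  -- positivity
  have hdpos : ∀ ξ ∈ insert χ S₀, Cfsg.IsIrrCharacter N ξ → 0 < d ξ := by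
    intro ξ hξ hir
    obtain ⟨k, hk0, hk⟩ := IsIrrCharacter.apply_one_pos hir
    have : (d ξ : ℂ) = k := by rw [← hd ξ hξ, hk]
    have : d ξ = k := by exact_mod_cast this
    omega
  have hdψ0 : 0 < d ψ := hdpos ψ (Finset.mem_insert_of_mem hψ) irψ
  have hdχ0 : 0 < d χ := hdpos χ (Finset.mem_insert_self χ S₀) hχ
  have ha0 : 0 < a := by
    rcases Nat.eq_zero_or_pos a with h | h
    · rw [h, zero_mul] at ha
      omega
    · exact h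
  -- the difference
  have hmemΔ : χ - (a : ℂ) • ψ ∈ Cfsg.zspanOn (↑(insert χ S₀) : Set (N → ℂ)) {1}ᶜ := by
    refine ⟨?_, ?_⟩
    · have : (a : ℂ) • ψ = (a : ℤ) • ψ := by rw [← hcz, Int.cast_natCast]
      rw [this]
      exact Submodule.sub_mem _ (Submodule.subset_span hχU)
        (Submodule.smul_mem _ _ (Submodule.subset_span hψU))
    · intro x hx
      have hx1 : x = 1 := by simpa using hx
      rw [hx1, Pi.sub_apply, Pi.smul_apply, smul_eq_mul, hd χ (Finset.mem_insert_self χ S₀),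
        hd ψ (Finset.mem_insert_of_mem hψ), ha]
      push_cast
      ring
  set Δ : G → ℂ := τ (χ - (a : ℂ) • ψ) with hΔ
  have hΔv : Cfsg.IsGeneralizedCharacter G Δ := hgen _ hmemΔ
  have oχψ : Cfsg.classInner χ ψ = 0 := classInner_irr_ne hχ irψ (Ne.symm (hne ψ hψ))
  have oψχ : Cfsg.classInner ψ χ = 0 := classInner_irr_ne irψ hχ (hne ψ hψ)
  have hΔΔ : Cfsg.classInner Δ Δ = 1 + (a : ℂ) ^ 2 := by
    rw [hΔ, hiso _ hmemΔ _ hmemΔ]
    simp only [classInner_sub_right, classInner_sub_left, classInner_smul_right,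
      classInner_smul_left, classInner_irr_self hχ, classInner_irr_self irψ, oχψ, oψχ,
      map_natCast]
    ring
  -- coefficients
  have hβex : ∀ ξ ∈ S₀, ∃ β : ℤ, Cfsg.classInner Δ (τ₁ ξ) = β := fun ξ hξ =>
    classInner_genchar_int hΔv (hgen₁ ξ (Submodule.subset_span hξ))
  choose! β hβ using hβex
  set b : ℤ := β ψ + a with hb
  have mψ : ψ ∈ Cfsg.zspan (↑S₀ : Set (N → ℂ)) := Submodule.subset_span hψ
  have hcombmem : ∀ ξ ∈ S₀, ((d ψ : ℤ) • ξ - (d ξ : ℤ) • ψ) ∈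
      Cfsg.zspanOn (↑S₀ : Set (N → ℂ)) {1}ᶜ := by
    intro ξ hξ
    exact deg_comb_mem_zspanOn (↑S₀) ξ ψ hξ hψ (d ψ) (d ξ)
      (hd ψ (Finset.mem_insert_of_mem hψ)) (hd ξ (Finset.mem_insert_of_mem hξ))
  have hτ₁comb : ∀ ξ ∈ S₀, τ₁ ((d ψ : ℤ) • ξ - (d ξ : ℤ) • ψ) =
      (d ψ : ℤ) • τ₁ ξ - (d ξ : ℤ) • τ₁ ψ := by
    intro ξ hξ
    have m1 : ξ ∈ Cfsg.zspan (↑S₀ : Set (N → ℂ)) := Submodule.subset_span hξ
    rw [isometryOnSpan_map_sub _ τ₁ hτ₁ (Submodule.smul_mem _ _ m1) (Submodule.smul_mem _ _ mψ),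
      hsmul₁ ξ m1, hsmul₁ ψ mψ]
  have hrel : ∀ ξ ∈ S₀, ξ ≠ ψ → (d ψ : ℤ) * β ξ = d ξ * b := by
    intro ξ hξ hneψ
    have irξ := hirr ξ hξ
    have oξ : Cfsg.classInner χ ξ = 0 := classInner_irr_ne hχ irξ (Ne.symm (hne ξ hξ))
    have oξψ : Cfsg.classInner ψ ξ = 0 := classInner_irr_ne irψ irξ (Ne.symm hneψ)
    have h5 : Cfsg.classInner Δ (τ₁ ((d ψ : ℤ) • ξ - (d ξ : ℤ) • ψ)) = (a : ℂ) * (d ξ : ℂ) := by
      rw [hag _ (hcombmem ξ hξ), hΔ, hiso _ hmemΔ _ (zspanOn_mono hSU _ (hcombmem ξ hξ)),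
        ← hcz, ← hcz]
      simp only [classInner_sub_right, classInner_sub_left, classInner_smul_right,
        classInner_smul_left, classInner_irr_self irψ, oχψ, oξ, oξψ,
        Int.cast_natCast, map_natCast]
      ring
    rw [hτ₁comb ξ hξ, ← hczG, ← hczG] at h5
    simp only [classInner_sub_right, classInner_smul_right, hβ ξ hξ, hβ ψ hψ,
      Int.cast_natCast, map_natCast] at h5
    have h6 : (((d ψ : ℤ) * β ξ : ℤ) : ℂ) = ((d ξ * b : ℤ) : ℂ) := by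
      rw [hb]
      push_cast
      linear_combination h5
    exact_mod_cast h6
  -- the projection
  have hτ₁orth : ∀ ξ ∈ S₀, ∀ ξ' ∈ S₀, Cfsg.classInner (τ₁ ξ) (τ₁ ξ') =
      if ξ = ξ' then (((fun _ => 1 : (N → ℂ) → ℕ) ξ : ℕ) : ℂ) else 0 := by
    intro ξ hξ ξ' hξ'
    rw [hiso₁ ξ (Submodule.subset_span hξ) ξ' (Submodule.subset_span hξ')]
    split_ifs with h
    · rw [← h, classInner_irr_self (hirr ξ hξ)]
      simp
    · exact classInner_irr_ne (hirr ξ hξ) (hirr ξ' hξ') h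
  have hW := classInner_sub_orthproj_self S₀ τ₁ (fun _ => 1) (fun _ _ => one_ne_zero) hτ₁orth
    Δ β hβ
  simp only [Nat.cast_one, div_one] at hW
  set Z : G → ℂ := Δ - ∑ ξ ∈ S₀, (β ξ : ℂ) • τ₁ ξ with hZ
  rw [hΔΔ] at hW
  set z : ℤ := 1 + (a : ℤ) ^ 2 - ∑ ξ ∈ S₀, β ξ ^ 2 with hz
  have hZZ : Cfsg.classInner Z Z = (z : ℂ) := by
    rw [hW, hz]
    push_cast
    ring
  have hz0 : 0 ≤ z := by
    have h1 := classInner_self_re_nonneg Z
    rw [hZZ] at h1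
    have : ((z : ℂ)).re = (z : ℝ) := by simp
    rw [this] at h1
    exact_mod_cast h1
  have hZv : Cfsg.IsGeneralizedCharacter G Z := by
    apply genchar_sub hΔv
    apply genchar_sum
    intro ξ hξ
    exact genchar_intCast_smul (hgen₁ ξ (Submodule.subset_span hξ)) _
  have hZτ₁ : ∀ ξ ∈ S₀, Cfsg.classInner Z (τ₁ ξ) = 0 := by
    intro ξ hξ
    rw [hZ, classInner_sub_left, hβ ξ hξ, classInner_sum_left, Finset.sum_eq_single ξ]
    · rw [classInner_smul_left, hτ₁orth ξ hξ ξ hξ, if_pos rfl]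
      simp
    · intro ξ' hξ' hne'
      rw [classInner_smul_left, hτ₁orth ξ' hξ' ξ hξ, if_neg hne', mul_zero]
    · intro h
      exact absurd hξ h
  -- the integer identity
  have hident : (d ψ : ℤ) ^ 2 * z = (d ψ : ℤ) ^ 2 * (1 + 2 * a * b) -
      b ^ 2 * ((∑ ξ ∈ S₀, d ξ ^ 2 : ℕ) : ℤ) := by
    have h1 : (d ψ : ℤ) ^ 2 * ∑ ξ ∈ S₀, β ξ ^ 2 =
        (d ψ : ℤ) ^ 2 * β ψ ^ 2 + b ^ 2 * ∑ ξ ∈ S₀.erase ψ, (d ξ : ℤ) ^ 2 := by
      rw [← Finset.add_sum_erase S₀ _ hψ, mul_add, Finset.mul_sum, Finset.mul_sum]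
      congr 1
      apply Finset.sum_congr rfl
      intro ξ hξ
      rw [Finset.mem_erase] at hξ
      have := hrel ξ hξ.2 hξ.1
      calc (d ψ : ℤ) ^ 2 * β ξ ^ 2 = ((d ψ : ℤ) * β ξ) ^ 2 := by ring
        _ = ((d ξ : ℤ) * b) ^ 2 := by rw [this]
        _ = b ^ 2 * (d ξ : ℤ) ^ 2 := by ring
    have h2 : ((∑ ξ ∈ S₀, d ξ ^ 2 : ℕ) : ℤ) = (d ψ : ℤ) ^ 2 + ∑ ξ ∈ S₀.erase ψ, (d ξ : ℤ) ^ 2 := by
      push_cast
      rw [← Finset.add_sum_erase S₀ _ hψ]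
    have h3 : β ψ = b - a := by rw [hb]; ring
    rw [hz, mul_sub, h1, h2, h3]
    ring
  have hSg : 2 * (a : ℤ) * (d ψ : ℤ) ^ 2 < ((∑ ξ ∈ S₀, d ξ ^ 2 : ℕ) : ℤ) := by
    have : 2 * a * d ψ ^ 2 < ∑ ξ ∈ S₀, d ξ ^ 2 := by
      calc 2 * a * d ψ ^ 2 = 2 * d ψ * (a * d ψ) := by ring
        _ = 2 * d ψ * d χ := by rw [ha]
        _ < _ := hlt
    exact_mod_cast this
  have hsig : Cfsg.IsIrrCharacter G (τ₁ ψ) ∨ Cfsg.IsIrrCharacter G (-τ₁ ψ) := by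
    obtain ⟨φ, hφ, h | h⟩ := exists_signed_irr_of_norm_one (hgen₁ ψ mψ)
      (by rw [hiso₁ ψ mψ ψ mψ, classInner_irr_self irψ])
    · left
      rw [h]
      exact hφ
    · right
      rw [h, neg_neg]
      exact hφ
  have hκ0 : τ₁ ψ 1 ≠ 0 := by
    rcases hsig with h | h
    · exact IsIrrCharacter.apply_one_ne_zero h
    · have := IsIrrCharacter.apply_one_ne_zero h
      rw [Pi.neg_apply] at this
      exact neg_ne_zero.mp this
  rcases int_b_zero_or_one a b z (d ψ) _ (by exact_mod_cast ha0) (by exact_mod_cast hdψ0) hz0 hSg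
    hident with hb0 | ⟨hb1, hz1⟩
  · -- the good case
    have hβψ : β ψ = -(a : ℤ) := by
      rw [hb] at hb0
      omega
    have hβ0 : ∀ ξ ∈ S₀, ξ ≠ ψ → β ξ = 0 := by
      intro ξ hξ hneψ
      have := hrel ξ hξ hneψ
      rw [hb0, mul_zero] at this
      rcases mul_eq_zero.mp this with h | h
      · have : d ψ = 0 := by exact_mod_cast h
        omega
      · exact h
    have hzone : z = 1 := by
      rw [hb0] at hident
      have h1 : (d ψ : ℤ) ^ 2 * z = (d ψ : ℤ) ^ 2 * 1 := by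
        rw [hident]
        ring
      have hD2 : (d ψ : ℤ) ^ 2 ≠ 0 := by
        have : (d ψ : ℤ) ≠ 0 := by exact_mod_cast hdψ0.ne'
        positivity
      exact mul_left_cancel₀ hD2 h1
    refine ⟨Z, hZv, by rw [hZZ, hzone]; simp, hZτ₁, ?_⟩
    have hsum : ∑ ξ ∈ S₀, (β ξ : ℂ) • τ₁ ξ = -((a : ℂ) • τ₁ ψ) := by
      rw [Finset.sum_eq_single ψ]
      · rw [hβψ]
        push_cast
        rw [neg_smul]
      · intro ξ hξ hneψ
        rw [hβ0 ξ hξ hneψ, Int.cast_zero, zero_smul]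
      · intro h
        exact absurd hψ h
    rw [hZ, hsum]
    abel
  · -- the case to exclude
    exfalso
    have hZ0 : Z = 0 := by
      apply classInner_self_eq_zero
      rw [hZZ, hz1, Int.cast_zero]
    have hΔsum : Δ = ∑ ξ ∈ S₀, (β ξ : ℂ) • τ₁ ξ := sub_eq_zero.mp hZ0
    have hΔ1 : Δ 1 = 0 := hτ1 _ hmemΔ
    -- values at one of the images
    have hval : ∀ ξ ∈ S₀, (d ψ : ℂ) * τ₁ ξ 1 = (d ξ : ℂ) * τ₁ ψ 1 := by
      intro ξ hξ
      have h1 := hτ1 _ (zspanOn_mono hSU _ (hcombmem ξ hξ))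
      rw [← hag _ (hcombmem ξ hξ), hτ₁comb ξ hξ, Pi.sub_apply, Pi.smul_apply, Pi.smul_apply] at h1
      simp only [zsmul_eq_mul, Int.cast_natCast] at h1
      linear_combination h1
    have hkey : ((d ψ : ℂ) ^ 2) * Δ 1 =
        τ₁ ψ 1 * ((((∑ ξ ∈ S₀, d ξ ^ 2 : ℕ) : ℤ) - a * (d ψ : ℤ) ^ 2 : ℤ) : ℂ) := by
      rw [hΔsum, Finset.sum_apply, Finset.mul_sum]
      have h2 : ∀ ξ ∈ S₀, (d ψ : ℂ) ^ 2 * ((β ξ : ℂ) • τ₁ ξ) 1 =
          τ₁ ψ 1 * ((((d ψ : ℤ) * β ξ) * d ξ : ℤ) : ℂ) := by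
        intro ξ hξ
        rw [Pi.smul_apply, smul_eq_mul]
        push_cast
        linear_combination (d ψ : ℂ) * (β ξ : ℂ) * hval ξ hξ
      rw [Finset.sum_congr rfl h2, ← Finset.mul_sum, ← Int.cast_sum]
      congr 2
      rw [← Finset.add_sum_erase S₀ _ hψ]
      have h3 : ∑ ξ ∈ S₀.erase ψ, (d ψ : ℤ) * β ξ * (d ξ : ℤ) =
          ∑ ξ ∈ S₀.erase ψ, (d ξ : ℤ) ^ 2 := by
        apply Finset.sum_congr rfl
        intro ξ hξ
        rw [Finset.mem_erase] at hξ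
        rw [hrel ξ hξ.2 hξ.1, hb1]
        ring
      have h4 : ((∑ ξ ∈ S₀, d ξ ^ 2 : ℕ) : ℤ) =
          (d ψ : ℤ) ^ 2 + ∑ ξ ∈ S₀.erase ψ, (d ξ : ℤ) ^ 2 := by
        push_cast
        rw [← Finset.add_sum_erase S₀ _ hψ]
      have h5 : β ψ = 1 - a := by
        rw [hb] at hb1
        omega
      rw [h3, h4, h5]
      ring
    rw [hΔ1, mul_zero] at hkey
    rcases mul_eq_zero.mp hkey.symm with h | h
    · exact hκ0 h
    · have h' : ((∑ ξ ∈ S₀, d ξ ^ 2 : ℕ) : ℤ) - a * (d ψ : ℤ) ^ 2 = 0 := by exact_mod_cast h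
      have hpos : 0 < (a : ℤ) * (d ψ : ℤ) ^ 2 := by positivity
      have h2a : 2 * (a : ℤ) * (d ψ : ℤ) ^ 2 = 2 * ((a : ℤ) * (d ψ : ℤ) ^ 2) := by ring
      rw [h2a] at hSg
      linarith

end Cfsg.Agent.Helper6
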