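import Mathlib
import Cfsg.Prelude.Def_Characters
import Cfsg.Prelude.Def_OddOrderChar
import Cfsg.Agent.Helper6.CoherN

/-!
# Extending a coherent set of irreducible characters by one character
-/

set_option autoImplicit false
set_option linter.style.haveILetI false

namespace Cfsg.Agent.Helper6

open scoped ComplexConjugate

universe u v

variable {N : Type u} [Group N] [Fintype N] {G : Type v} [Group G] [Fintype G]

set_option maxHeartbeats 6400000 in
/-- A coherent finite set of irreducible characters stays coherent after adding an irreducible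
character whose degree is a multiple of the degree of a member `ψ`, if twice the product of the
two degrees is less than the sum of the squares of the degrees of the set. -/
theorem irr_extend_coherent (S₀ : Finset (N → ℂ)) (χ : N → ℂ)
    (hirr : ∀ ξ ∈ S₀, Cfsg.IsIrrCharacter N ξ) (hχ : Cfsg.IsIrrCharacter N χ) (hχS : χ ∉ S₀)
    (d : (N → ℂ) → ℕ) (hd : ∀ ξ ∈ insert χ S₀, ξ 1 = (d ξ : ℂ)) (τ : (N → ℂ) → (G → ℂ))
    (hτ : Cfsg.IsLinearIsometryOn (Cfsg.zspanOn (↑(insert χ S₀) : Set (N → ℂ)) {1}ᶜ) τ)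
    (hτ1 : ∀ α ∈ Cfsg.zspanOn (↑(insert χ S₀) : Set (N → ℂ)) {1}ᶜ, τ α 1 = 0)
    (hcoh : Cfsg.IsCoherent (↑S₀ : Set (N → ℂ)) {1}ᶜ τ) (ψ : N → ℂ) (hψ : ψ ∈ S₀)
    (hdvd : d ψ ∣ d χ) (hlt : 2 * d ψ * d χ < ∑ ξ ∈ S₀, d ξ ^ 2) :
    Cfsg.IsCoherent (↑(insert χ S₀) : Set (N → ℂ)) {1}ᶜ τ := by
  classical
  obtain ⟨-, τ₁, hτ₁, hag⟩ := hcoh
  obtain ⟨a, ha⟩ := hdvd
  obtain ⟨Z, hZv, hZZ, hZτ₁, hkey⟩ := irr_extend_key S₀ χ hirr hχ hχS d hd τ hτ hτ1 τ₁ hτ₁ hag ψ hψ
    a (by rw [ha, mul_comm]) hlt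
  obtain ⟨hadd, hsmul, hiso, hgen⟩ := id hτ
  obtain ⟨hadd₁, hsmul₁, hiso₁, hgen₁⟩ := id hτ₁
  have hcz : ∀ (k : ℤ) (f : N → ℂ), (k : ℂ) • f = k • f := fun k f =>
    Int.cast_smul_eq_zsmul ℂ k f
  have hczG : ∀ (k : ℤ) (f : G → ℂ), (k : ℂ) • f = k • f := fun k f =>
    Int.cast_smul_eq_zsmul ℂ k f
  set U : Set (N → ℂ) := ↑(insert χ S₀) with hU
  have hSU : (↑S₀ : Set (N → ℂ)) ⊆ U := by
    intro ξ hξ
    exact Finset.mem_insert_of_mem hξ
  have hχU : χ ∈ U := Finset.mem_insert_self χ S₀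
  have hψU : ψ ∈ U := hSU hψ
  have irψ := hirr ψ hψ
  have hne : ∀ ξ ∈ S₀, ξ ≠ χ := fun ξ hξ h => hχS (h ▸ hξ)
  have mψ : ψ ∈ Cfsg.zspan (↑S₀ : Set (N → ℂ)) := Submodule.subset_span hψ
  have hmemΔ : χ - (a : ℂ) • ψ ∈ Cfsg.zspanOn U {1}ᶜ := by
    refine ⟨?_, ?_⟩
    · have : (a : ℂ) • ψ = (a : ℤ) • ψ := by rw [← hcz, Int.cast_natCast]
      rw [this]
      exact Submodule.sub_mem _ (Submodule.subset_span hχU)
        (Submodule.smul_mem _ _ (Submodule.subset_span hψU))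
    · intro x hx
      have hx1 : x = 1 := by simpa using hx
      rw [hx1, Pi.sub_apply, Pi.smul_apply, smul_eq_mul, hd χ (Finset.mem_insert_self χ S₀),
        hd ψ (Finset.mem_insert_of_mem hψ), ha]
      push_cast
      ring
  -- orthogonality to the images of `ℤ[S₀]`
  have hτ₁Z : ∀ g ∈ Cfsg.zspan (↑S₀ : Set (N → ℂ)), Cfsg.classInner (τ₁ g) Z = 0 := by
    intro g hg
    induction hg using Submodule.span_induction with
    | mem ξ hξ => rw [classInner_conj_symm Z (τ₁ ξ), hZτ₁ ξ hξ, map_zero]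
    | zero => rw [isometryOnSpan_map_zero _ τ₁ hτ₁, classInner_zero_left]
    | add x y hx hy ihx ihy => rw [hadd₁ x hx y hy, classInner_add_left, ihx, ihy, add_zero]
    | smul k x hx ihx => rw [hsmul₁ x hx k, ← hczG, classInner_smul_left, ihx, mul_zero]
  have hgχ : ∀ g ∈ Cfsg.zspan (↑S₀ : Set (N → ℂ)), Cfsg.classInner g χ = 0 := by
    intro g hg
    induction hg using Submodule.span_induction with
    | mem ξ hξ => exact classInner_irr_ne (hirr ξ hξ) hχ (hne ξ hξ)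
    | zero => exact classInner_zero_left _
    | add x y _ _ ihx ihy => rw [classInner_add_left, ihx, ihy, add_zero]
    | smul k x _ ihx => rw [← hcz, classInner_smul_left, ihx, mul_zero]
  have hdec : ∀ f ∈ Cfsg.zspan U, ∃ g ∈ Cfsg.zspan (↑S₀ : Set (N → ℂ)), ∃ p : ℤ,
      f = g + (p : ℂ) • χ := by
    intro f hf
    induction hf using Submodule.span_induction with
    | mem ξ hξ =>
      rcases Finset.mem_insert.mp hξ with hξ | hξ
      · rw [hξ]
        exact ⟨0, Submodule.zero_mem _, 1, by simp⟩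
      · exact ⟨ξ, Submodule.subset_span hξ, 0, by simp⟩
    | zero => exact ⟨0, Submodule.zero_mem _, 0, by simp⟩
    | add x y _ _ ihx ihy =>
      obtain ⟨g, hg, p, rfl⟩ := ihx
      obtain ⟨g', hg', p', rfl⟩ := ihy
      refine ⟨g + g', Submodule.add_mem _ hg hg', p + p', ?_⟩
      push_cast
      module
    | smul k x _ ihx =>
      obtain ⟨g, hg, p, rfl⟩ := ihx
      refine ⟨k • g, Submodule.smul_mem _ k hg, k * p, ?_⟩
      rw [← hcz, ← hcz]
      push_cast
      module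
  -- the extension
  let τ₂ : (N → ℂ) → (G → ℂ) := fun f =>
    τ₁ (f - Cfsg.classInner f χ • χ) + Cfsg.classInner f χ • Z
  have hτ₂ : ∀ g ∈ Cfsg.zspan (↑S₀ : Set (N → ℂ)), ∀ p : ℤ,
      τ₂ (g + (p : ℂ) • χ) = τ₁ g + (p : ℂ) • Z := by
    intro g hg p
    have hP : Cfsg.classInner (g + (p : ℂ) • χ) χ = p := by
      rw [classInner_add_left, classInner_smul_left, hgχ g hg, classInner_irr_self hχ]
      ring
    show τ₁ (_ - Cfsg.classInner _ χ • χ) + Cfsg.classInner _ χ • Z = _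
    rw [hP, add_sub_cancel_right]
  refine ⟨⟨χ - (a : ℂ) • ψ, hmemΔ, ?_⟩, τ₂, ⟨?_, ?_, ?_, ?_⟩, ?_⟩
  · intro h0
    have h1 : Cfsg.classInner (χ - (a : ℂ) • ψ) χ = 1 := by
      rw [classInner_sub_left, classInner_smul_left, classInner_irr_self hχ,
        classInner_irr_ne irψ hχ (hne ψ hψ)]
      ring
    rw [h0, classInner_zero_left] at h1
    exact zero_ne_one h1
  · intro f hf f' hf'
    obtain ⟨g, hg, p, rfl⟩ := hdec f hf
    obtain ⟨g', hg', p', rfl⟩ := hdec f' hf'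
    have hsplit : (g + (p : ℂ) • χ) + (g' + (p' : ℂ) • χ) =
        (g + g') + ((p + p' : ℤ) : ℂ) • χ := by
      push_cast
      module
    rw [hsplit, hτ₂ _ (Submodule.add_mem _ hg hg'), hτ₂ g hg, hτ₂ g' hg', hadd₁ g hg g' hg']
    push_cast
    module
  · intro f hf k
    obtain ⟨g, hg, p, rfl⟩ := hdec f hf
    have hsplit : k • (g + (p : ℂ) • χ) = (k • g) + ((k * p : ℤ) : ℂ) • χ := by
      rw [← hcz, ← hcz]
      push_cast
      module
    rw [hsplit, hτ₂ _ (Submodule.smul_mem _ k hg), hτ₂ g hg, hsmul₁ g hg k, ← hczG, ← hczG]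
    push_cast
    module
  · intro f hf f' hf'
    obtain ⟨g, hg, p, rfl⟩ := hdec f hf
    obtain ⟨g', hg', p', rfl⟩ := hdec f' hf'
    have e1 : Cfsg.classInner Z (τ₁ g') = 0 := by
      rw [classInner_conj_symm (τ₁ g') Z, hτ₁Z g' hg', map_zero]
    have e3 : Cfsg.classInner χ g' = 0 := by
      rw [classInner_conj_symm g' χ, hgχ g' hg', map_zero]
    rw [hτ₂ g hg, hτ₂ g' hg']
    simp only [classInner_add_left, classInner_add_right, classInner_smul_left,
      classInner_smul_right, hτ₁Z g hg, e1, e3, hgχ g hg, hZZ, classInner_irr_self hχ,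
      hiso₁ g hg g' hg', map_intCast]
  · intro f hf
    obtain ⟨g, hg, p, rfl⟩ := hdec f hf
    rw [hτ₂ g hg]
    exact genchar_add (hgen₁ g hg) (genchar_intCast_smul hZv p)
  · intro f hf
    obtain ⟨g, hg, p, rfl⟩ := hdec f hf.1
    rw [hτ₂ g hg]
    have hf1 : g 1 + (p : ℂ) * (d χ : ℂ) = 0 := by
      have := hf.2 1 (by simp)
      rw [Pi.add_apply, Pi.smul_apply, hd χ (Finset.mem_insert_self χ S₀), smul_eq_mul] at this
      exact this
    set g' : N → ℂ := g + ((p * a : ℤ) : ℂ) • ψ with hg'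
    have hg'mem : g' ∈ Cfsg.zspanOn (↑S₀ : Set (N → ℂ)) {1}ᶜ := by
      refine ⟨?_, ?_⟩
      · rw [hg', hcz]
        exact Submodule.add_mem _ hg (Submodule.smul_mem _ _ mψ)
      · intro x hx
        have hx1 : x = 1 := by simpa using hx
        rw [hx1, hg', Pi.add_apply, Pi.smul_apply, smul_eq_mul,
          hd ψ (Finset.mem_insert_of_mem hψ), ← hf1, ha]
        push_cast
        ring
    have hfsplit : g + (p : ℂ) • χ = g' + p • (χ - (a : ℂ) • ψ) := by
      rw [hg', ← hcz p]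
      push_cast
      module
    have hg'U : g' ∈ Cfsg.zspanOn U {1}ᶜ := zspanOn_mono hSU _ hg'mem
    have hm3 := zspanOn_zsmul_mem U _ hmemΔ p
    rw [hfsplit, hadd _ hg'U _ hm3, hsmul _ hmemΔ, ← hag g' hg'mem, hkey, hg',
      hadd₁ g hg _ (by rw [hcz]; exact Submodule.smul_mem _ _ mψ), hcz, hsmul₁ ψ mψ,
      ← hczG, ← hczG]
    push_cast
    module

end Cfsg.Agent.Helper6
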