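import Mathlib
import Cfsg.Prelude.Def_Characters
import Cfsg.Prelude.Def_OddOrderChar
import Cfsg.Agent.S0198
import Cfsg.Agent.Helper6.CoherO

/-!
# A finite set of at least two irreducible characters of the same degree is coherent
-/

set_option autoImplicit false
set_option linter.style.haveILetI false

namespace Cfsg.Agent.Helper6

open scoped ComplexConjugate

universe u v

section idx

variable {G : Type u} [Group G] [Fintype G]

/-- inner product of two combinations of an orthonormal indexed family -/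
theorem classInner_sum_smul_orthonormal_idx {ι : Type*} [Fintype ι] [DecidableEq ι]
    (v : ι → G → ℂ) (hv : ∀ i j, Cfsg.classInner (v i) (v j) = if i = j then 1 else 0)
    (a b : ι → ℂ) :
    Cfsg.classInner (∑ i, a i • v i) (∑ i, b i • v i) = ∑ i, a i * conj (b i) := by
  rw [classInner_sum_left]
  apply Finset.sum_congr rfl
  intro i _
  rw [classInner_smul_left, classInner_sum_right, Finset.sum_eq_single i]
  · rw [classInner_smul_right, hv i i, if_pos rfl, mul_one]
  · intro j _ hne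
    rw [classInner_smul_right, hv i j, if_neg (Ne.symm hne), mul_zero]
  · intro h
    exact absurd (Finset.mem_univ i) h

/-- coefficient of a combination of an orthonormal indexed family -/
theorem classInner_sum_smul_idx_coeff {ι : Type*} [Fintype ι] [DecidableEq ι]
    (v : ι → G → ℂ) (hv : ∀ i j, Cfsg.classInner (v i) (v j) = if i = j then 1 else 0)
    (a : ι → ℂ) (j : ι) : Cfsg.classInner (∑ i, a i • v i) (v j) = a j := by
  rw [classInner_sum_left, Finset.sum_eq_single j]
  · rw [classInner_smul_left, hv j j, if_pos rfl, mul_one]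
  · intro i _ hne
    rw [classInner_smul_left, hv i j, if_neg hne, mul_zero]
  · intro h
    exact absurd (Finset.mem_univ j) h

end idx

variable {L : Type u} [Group L] [Fintype L] {G : Type v} [Group G] [Fintype G]

set_option maxHeartbeats 3200000 in
/-- a finite set of at least two irreducible characters of the same degree is coherent -/
theorem coherent_uniform_irr (T : Finset (L → ℂ)) (hirr : ∀ ξ ∈ T, Cfsg.IsIrrCharacter L ξ)
    (hdeg : ∀ ξ ∈ T, ∀ η ∈ T, ξ 1 = η 1) (hcard : 2 ≤ T.card) (τ : (L → ℂ) → (G → ℂ))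
    (hτ : Cfsg.IsLinearIsometryOn (Cfsg.zspanOn (↑T : Set (L → ℂ)) {1}ᶜ) τ)
    (hτ1 : ∀ α ∈ Cfsg.zspanOn (↑T : Set (L → ℂ)) {1}ᶜ, τ α 1 = 0) :
    Cfsg.IsCoherent (↑T : Set (L → ℂ)) {1}ᶜ τ := by
  classical
  obtain ⟨hadd, hsmul, hiso, hgen⟩ := id hτ
  have hcz : ∀ (k : ℤ) (f : L → ℂ), (k : ℂ) • f = k • f := fun k f =>
    Int.cast_smul_eq_zsmul ℂ k f
  have hczG : ∀ (k : ℤ) (f : G → ℂ), (k : ℂ) • f = k • f := fun k f =>
    Int.cast_smul_eq_zsmul ℂ k f
  set S : Set (L → ℂ) := (↑T : Set (L → ℂ)) with hS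
  set n : ℕ := T.card with hn
  let e : Fin n ≃ {x // x ∈ T} := T.equivFin.symm
  set ξ : Fin n → (L → ℂ) := fun i => (e i).1 with hξ
  have hξT : ∀ i, ξ i ∈ S := fun i => Finset.mem_coe.mpr (e i).2
  have hξinj : Function.Injective ξ := fun i j h => e.injective (Subtype.ext h)
  have hξsurj : ∀ φ ∈ S, ∃ i, ξ i = φ := by
    intro φ hφ
    refine ⟨e.symm ⟨φ, Finset.mem_coe.mp hφ⟩, ?_⟩
    show (e (e.symm ⟨φ, _⟩)).1 = φ
    rw [Equiv.apply_symm_apply]
  have hξirr : ∀ i, Cfsg.IsIrrCharacter L (ξ i) := fun i => hirr _ (Finset.mem_coe.mp (hξT i))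
  have hξξ : ∀ i j, Cfsg.classInner (ξ i) (ξ j) = if i = j then 1 else 0 := by
    intro i j
    rw [classInner_irr_ite (hξirr i) (hξirr j)]
    by_cases hij : i = j
    · rw [if_pos hij, if_pos (by rw [hij])]
    · rw [if_neg hij, if_neg (fun h => hij (hξinj h))]
  let i₀ : Fin n := ⟨0, by omega⟩
  let i₁ : Fin n := ⟨1, by omega⟩
  have hi₁₀ : i₁ ≠ i₀ := by
    intro h
    have := congrArg Fin.val h
    simp [i₀, i₁] at this
  have hmem : ∀ i, ξ i - ξ i₀ ∈ Cfsg.zspanOn S {1}ᶜ := fun i =>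
    sub_mem_zspanOn_of_deg S (fun φ hφ ψ hψ => hdeg φ (Finset.mem_coe.mp hφ) ψ (Finset.mem_coe.mp hψ))
      _ _ (hξT i) (hξT i₀)
  set t : Fin n → (G → ℂ) := fun i => τ (ξ i - ξ i₀) with ht
  have ht0 : t i₀ = 0 := by
    show τ (ξ i₀ - ξ i₀) = 0
    rw [sub_self]
    exact isometryOn_map_zero S _ τ hτ
  have htgram : ∀ i j, i ≠ i₀ → j ≠ i₀ →
      Cfsg.classInner (t i) (t j) = if i = j then 2 else 1 := by
    intro i j hi hj
    show Cfsg.classInner (τ (ξ i - ξ i₀)) (τ (ξ j - ξ i₀)) = _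
    rw [hiso _ (hmem i) _ (hmem j), classInner_sub_left, classInner_sub_right,
      classInner_sub_right, hξξ i j, hξξ i i₀, hξξ i₀ j, hξξ i₀ i₀, if_neg hi,
      if_neg (Ne.symm hj), if_pos rfl]
    by_cases hij : i = j
    · rw [if_pos hij, if_pos hij]; norm_num
    · rw [if_neg hij, if_neg hij]; norm_num
  obtain ⟨ε, hε, μ, hμirr, hμinj, hμ⟩ := Cfsg.Agent.S0198.result n i₀ t ht0
    (fun i => hgen _ (hmem i)) (fun i => hτ1 _ (hmem i)) htgram
  have hεε : ε * conj ε = 1 := by
    rcases hε with rfl | rfl <;> simp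
  set Z : Fin n → (G → ℂ) := fun i => ε • μ i with hZ
  have hZZ : ∀ i j, Cfsg.classInner (Z i) (Z j) = if i = j then 1 else 0 := by
    intro i j
    show Cfsg.classInner (ε • μ i) (ε • μ j) = _
    rw [classInner_smul_left, classInner_smul_right, classInner_irr_ite (hμirr i) (hμirr j)]
    by_cases hij : i = j
    · rw [if_pos hij, if_pos (by rw [hij]), mul_one, mul_comm, ← hεε, mul_comm]
    · rw [if_neg hij, if_neg (fun h => hij (hμinj h)), mul_zero, mul_zero]
  have hZgen : ∀ i, Cfsg.IsGeneralizedCharacter G (Z i) := by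
    intro i
    have h1 : Cfsg.IsGeneralizedCharacter G (μ i) :=
      ⟨μ i, 0, IsIrrCharacter.isCharacter (hμirr i), IsCharacter.zero, by simp⟩
    rcases hε with h | h
    · show Cfsg.IsGeneralizedCharacter G (ε • μ i)
      rw [h, one_smul]; exact h1
    · show Cfsg.IsGeneralizedCharacter G (ε • μ i)
      rw [h, neg_one_smul]; exact genchar_neg h1
  have htZ : ∀ i, t i = Z i - Z i₀ := by
    intro i
    rw [hμ i, smul_sub]
  -- decomposition of integer combinations
  have hdec : ∀ f ∈ Cfsg.zspan S, ∃ c : Fin n → ℤ, f = ∑ i, (c i : ℂ) • ξ i := by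
    intro f hf
    induction hf using Submodule.span_induction with
    | mem φ hφ =>
      obtain ⟨i, rfl⟩ := hξsurj φ hφ
      refine ⟨fun j => if j = i then 1 else 0, ?_⟩
      simp only [Int.cast_ite, Int.cast_one, Int.cast_zero, ite_smul, one_smul, zero_smul,
        Finset.sum_ite_eq', Finset.mem_univ, if_true]
    | zero => exact ⟨fun _ => 0, by simp⟩
    | add x y _ _ ihx ihy =>
      obtain ⟨c, rfl⟩ := ihx
      obtain ⟨c', rfl⟩ := ihy
      refine ⟨fun i => c i + c' i, ?_⟩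
      rw [← Finset.sum_add_distrib]
      apply Finset.sum_congr rfl
      intro i _
      push_cast
      rw [add_smul]
    | smul k x _ ihx =>
      obtain ⟨c, rfl⟩ := ihx
      refine ⟨fun i => k * c i, ?_⟩
      rw [Finset.smul_sum]
      apply Finset.sum_congr rfl
      intro i _
      rw [← hcz]
      push_cast
      rw [mul_smul]
  -- the extension
  let τ₁ : (L → ℂ) → (G → ℂ) := fun f => ∑ i, Cfsg.classInner f (ξ i) • Z i
  have hτ₁val : ∀ c : Fin n → ℤ, τ₁ (∑ i, (c i : ℂ) • ξ i) = ∑ i, (c i : ℂ) • Z i := by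
    intro c
    show ∑ j, Cfsg.classInner (∑ i, (c i : ℂ) • ξ i) (ξ j) • Z j = _
    apply Finset.sum_congr rfl
    intro j _
    rw [classInner_sum_smul_idx_coeff ξ hξξ (fun i => (c i : ℂ)) j]
  refine ⟨⟨ξ i₁ - ξ i₀, hmem i₁, ?_⟩, τ₁, ⟨?_, ?_, ?_, ?_⟩, ?_⟩
  · intro h
    exact hi₁₀ (hξinj (sub_eq_zero.mp h))
  · intro f _ f' _
    show ∑ i, Cfsg.classInner (f + f') (ξ i) • Z i =
      ∑ i, Cfsg.classInner f (ξ i) • Z i + ∑ i, Cfsg.classInner f' (ξ i) • Z i
    rw [← Finset.sum_add_distrib]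
    apply Finset.sum_congr rfl
    intro i _
    rw [classInner_add_left, add_smul]
  · intro f _ k
    show ∑ i, Cfsg.classInner (k • f) (ξ i) • Z i = k • ∑ i, Cfsg.classInner f (ξ i) • Z i
    rw [Finset.smul_sum]
    apply Finset.sum_congr rfl
    intro i _
    rw [← hcz, classInner_smul_left, mul_smul, hczG]
  · intro f hf f' hf'
    obtain ⟨c, rfl⟩ := hdec f hf
    obtain ⟨c', rfl⟩ := hdec f' hf'
    rw [hτ₁val, hτ₁val, classInner_sum_smul_orthonormal_idx Z hZZ,
      classInner_sum_smul_orthonormal_idx ξ hξξ]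
  · intro f hf
    obtain ⟨c, rfl⟩ := hdec f hf
    rw [hτ₁val]
    apply genchar_sum
    intro i _
    exact genchar_intCast_smul (hZgen i) (c i)
  · intro f hf
    obtain ⟨c, rfl⟩ := hdec f hf.1
    rw [hτ₁val]
    -- the coefficients sum to zero
    obtain ⟨d, hdpos, hd⟩ := IsIrrCharacter.apply_one_pos (hξirr i₀)
    have hsum0 : ∑ i, (c i : ℂ) = 0 := by
      have h1 := hf.2 1 (by simp)
      rw [Finset.sum_apply] at h1
      have h2 : ∑ i, ((c i : ℂ) • ξ i) 1 = (∑ i, (c i : ℂ)) * (d : ℂ) := by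
        rw [Finset.sum_mul]
        apply Finset.sum_congr rfl
        intro i _
        rw [Pi.smul_apply, smul_eq_mul,
          hdeg _ (Finset.mem_coe.mp (hξT i)) _ (Finset.mem_coe.mp (hξT i₀)), hd]
      rw [h2] at h1
      rcases mul_eq_zero.mp h1 with h | h
      · exact h
      · exfalso
        have : (d : ℂ) ≠ 0 := by exact_mod_cast hdpos.ne'
        exact this h
    -- finite-sum linearity of `τ`
    have hlin : ∀ s : Finset (Fin n),
        (∑ i ∈ s, (c i : ℂ) • (ξ i - ξ i₀)) ∈ Cfsg.zspanOn S {1}ᶜ ∧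
        τ (∑ i ∈ s, (c i : ℂ) • (ξ i - ξ i₀)) = ∑ i ∈ s, (c i : ℂ) • t i := by
      intro s
      induction s using Finset.induction_on with
      | empty =>
        refine ⟨by rw [Finset.sum_empty]; exact zspanOn_zero_mem S _, ?_⟩
        rw [Finset.sum_empty, Finset.sum_empty]
        exact isometryOn_map_zero S _ τ hτ
      | insert a s ha ih =>
        obtain ⟨ih1, ih2⟩ := ih
        have hm : (c a : ℂ) • (ξ a - ξ i₀) ∈ Cfsg.zspanOn S {1}ᶜ := by
          rw [hcz]
          exact zspanOn_zsmul_mem S _ (hmem a) (c a)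
        rw [Finset.sum_insert ha, Finset.sum_insert ha]
        refine ⟨zspanOn_add_mem S _ hm ih1, ?_⟩
        rw [hadd _ hm _ ih1, ih2, hcz, hsmul _ (hmem a), ← hczG]
    have hsplit : ∑ i, (c i : ℂ) • ξ i = ∑ i, (c i : ℂ) • (ξ i - ξ i₀) := by
      have : ∑ i, (c i : ℂ) • (ξ i - ξ i₀) =
          ∑ i, (c i : ℂ) • ξ i - (∑ i, (c i : ℂ)) • ξ i₀ := by
        rw [Finset.sum_smul, ← Finset.sum_sub_distrib]
        apply Finset.sum_congr rfl
        intro i _
        rw [smul_sub]
      rw [this, hsum0, zero_smul, sub_zero]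
    rw [hsplit, (hlin Finset.univ).2]
    have : ∑ i, (c i : ℂ) • t i = ∑ i, (c i : ℂ) • Z i - (∑ i, (c i : ℂ)) • Z i₀ := by
      rw [Finset.sum_smul, ← Finset.sum_sub_distrib]
      apply Finset.sum_congr rfl
      intro i _
      rw [htZ i, smul_sub]
    rw [this, hsum0, zero_smul, sub_zero]

end Cfsg.Agent.Helper6
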