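import Mathlib
import Cfsg.Prelude.Def_Characters
import Cfsg.Agent.Helper6.GaloisSum
import Cfsg.Agent.Helper6.RepEigen
import Cfsg.Agent.Helper6.CharBasic

/-!
# Galois conjugates of character values

`χ(g^k)` for `k` coprime to `|G|` are the Galois conjugates of `χ(g)`.  Consequences:
simultaneous (non)vanishing, rationality criterion, and Burnside's AM-GM inequality
`∑_{g ∈ S} |χ(g)|² ≥ #{g ∈ S | χ(g) ≠ 0}` for subsets closed under coprime powers.
-/

set_option autoImplicit false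
set_option linter.style.haveILetI false

namespace Cfsg.Agent.Helper6

open Module Representation

universe u v

variable {G : Type u} [Group G] [Finite G] {V : Type v} [AddCommGroup V] [Module ℂ V]
  [FiniteDimensional ℂ V]

theorem char_pow_eq_sum (ρ : Representation ℂ G V) (g : G) {ι : Type*} [Fintype ι]
    (b : Basis ι ℂ V) (μ : ι → ℂ) (h : ∀ i, ρ g (b i) = μ i • b i) (k : ℕ) :
    ρ.character (g ^ k) = ∑ i, μ i ^ k := by
  unfold Representation.character
  exact trace_eq_sum_of_eigenbasis b (ρ (g ^ k)) (fun i => μ i ^ k)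
    (fun i => eigen_pow ρ g b μ h k i)

/-- Galois facts for character values, for any `n` with `g ^ n = 1`. -/
theorem char_galois_facts (ρ : Representation ℂ G V) (g : G) (n : ℕ) [NeZero n]
    (hn : g ^ n = 1) :
    (∃ m : ℤ, ∏ k : (ZMod n)ˣ, ρ.character (g ^ (k : ZMod n).val) = m) ∧
    (ρ.character g ≠ 0 → ∀ k : (ZMod n)ˣ, ρ.character (g ^ (k : ZMod n).val) ≠ 0) ∧
    ((∀ k : (ZMod n)ˣ, ρ.character (g ^ (k : ZMod n).val) = ρ.character g) ↔
      ∃ q : ℚ, ρ.character g = q) ∧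
    (ρ.character g ≠ 0 →
      (Fintype.card (ZMod n)ˣ : ℝ) ≤ ∑ k : (ZMod n)ˣ, ‖ρ.character (g ^ (k : ZMod n).val)‖ ^ 2) := by
  classical
  obtain ⟨ι, hι, b, μ, h1, h2, -⟩ := exists_eigenbasis_rep ρ g
  have hμ : ∀ i, μ i ^ n = 1 := by
    intro i
    obtain ⟨c, hc⟩ := orderOf_dvd_of_pow_eq_one hn
    rw [hc, pow_mul, h2 i, one_pow]
  have hpow : ∀ k : ℕ, ρ.character (g ^ k) = ∑ i, μ i ^ k := char_pow_eq_sum ρ g b μ h1
  have hone : ρ.character g = ∑ i, μ i := by
    have := hpow 1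
    simpa using this
  obtain ⟨hA, hB, hC⟩ := powSum_facts n μ hμ
  simp_rw [hpow, hone]
  refine ⟨hA, hB, hC, ?_⟩
  intro hne
  exact sum_norm_sq_powSum_ge n μ hμ hne

/-- `χ(g^m) ≠ 0` for `m` coprime to `|G|` when `χ(g) ≠ 0`. -/
theorem char_pow_ne_zero_of_coprime (ρ : Representation ℂ G V) (g : G) (m : ℕ)
    (hm : m.Coprime (Nat.card G)) (hne : ρ.character g ≠ 0) : ρ.character (g ^ m) ≠ 0 := by
  haveI : NeZero (Nat.card G) := ⟨Nat.card_pos.ne'⟩
  obtain ⟨-, hB, -, -⟩ := char_galois_facts ρ g (Nat.card G) (pow_card_eq_one')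
  have := hB hne (ZMod.unitOfCoprime m hm)
  rw [ZMod.coe_unitOfCoprime, ZMod.val_natCast] at this
  rwa [pow_eq_pow_mod m (pow_card_eq_one' (x := g))]

/-- `χ(g)` is rational iff `χ(g^m) = χ(g)` for all `m` coprime to `|G|`. -/
theorem char_rational_iff (ρ : Representation ℂ G V) (g : G) :
    (∃ q : ℚ, ρ.character g = q) ↔
      ∀ m : ℕ, m.Coprime (Nat.card G) → ρ.character (g ^ m) = ρ.character g := by
  haveI : NeZero (Nat.card G) := ⟨Nat.card_pos.ne'⟩
  obtain ⟨-, -, hC, -⟩ := char_galois_facts ρ g (Nat.card G) (pow_card_eq_one')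
  rw [← hC]
  constructor
  · intro h m hm
    have := h (ZMod.unitOfCoprime m hm)
    rw [ZMod.coe_unitOfCoprime, ZMod.val_natCast] at this
    rwa [pow_eq_pow_mod m (pow_card_eq_one' (x := g))]
  · intro h k
    exact h _ (ZMod.val_coe_unit_coprime k)

/-- Burnside's inequality: on a set closed under coprime powers, the sum of `|χ|²` is at least
the number of non-zeros. -/
theorem burnside_amgm (ρ : Representation ℂ G V) (S : Finset G)
    (hS : ∀ g ∈ S, ∀ m : ℕ, m.Coprime (Nat.card G) → g ^ m ∈ S) [DecidableEq G] :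
    ((S.filter (fun g => ρ.character g ≠ 0)).card : ℝ) ≤ ∑ g ∈ S, ‖ρ.character g‖ ^ 2 := by
  classical
  haveI : NeZero (Nat.card G) := ⟨Nat.card_pos.ne'⟩
  set n := Nat.card G with hn
  set S' := S.filter (fun g => ρ.character g ≠ 0) with hS'
  set φn : ℝ := (Fintype.card (ZMod n)ˣ : ℝ) with hφn
  have hφpos : 0 < φn := by
    have : 0 < Fintype.card (ZMod n)ˣ := Fintype.card_pos
    rw [hφn]
    exact_mod_cast this
  -- each power map permutes S'
  have hperm : ∀ k : (ZMod n)ˣ, ∑ g ∈ S', ‖ρ.character (g ^ (k : ZMod n).val)‖ ^ 2 =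
      ∑ g ∈ S', ‖ρ.character g‖ ^ 2 := by
    intro k
    have hcop : Nat.Coprime (k : ZMod n).val n := ZMod.val_coe_unit_coprime k
    have hinj : Function.Injective (fun g : G => g ^ (k : ZMod n).val) :=
      (powCoprime hcop.symm).injective
    have himg : S'.image (fun g : G => g ^ (k : ZMod n).val) = S' := by
      apply Finset.eq_of_subset_of_card_le
      · intro h hh
        obtain ⟨g, hg, rfl⟩ := Finset.mem_image.mp hh
        rw [hS', Finset.mem_filter] at hg ⊢
        exact ⟨hS g hg.1 _ hcop, char_pow_ne_zero_of_coprime ρ g _ hcop hg.2⟩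
      · rw [Finset.card_image_of_injective _ hinj]
    conv_rhs => rw [← himg]
    rw [Finset.sum_image (fun a _ b _ hab => hinj hab)]
  have h1 : φn * (S'.card : ℝ) ≤ ∑ g ∈ S', ∑ k : (ZMod n)ˣ,
      ‖ρ.character (g ^ (k : ZMod n).val)‖ ^ 2 := by
    rw [mul_comm, ← nsmul_eq_mul, ← Finset.sum_const]
    apply Finset.sum_le_sum
    intro g hg
    rw [hS', Finset.mem_filter] at hg
    obtain ⟨-, -, -, hD⟩ := char_galois_facts ρ g n (pow_card_eq_one')
    exact hD hg.2
  rw [Finset.sum_comm] at h1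
  simp_rw [hperm] at h1
  rw [Finset.sum_const, Finset.card_univ, nsmul_eq_mul] at h1
  have h2 : (S'.card : ℝ) ≤ ∑ g ∈ S', ‖ρ.character g‖ ^ 2 :=
    le_of_mul_le_mul_left h1 hφpos
  refine h2.trans ?_
  apply Finset.sum_le_sum_of_subset_of_nonneg (Finset.filter_subset _ _)
  intro g _ _
  positivity

omit [Finite G] in
/-- First orthogonality relation: `∑ |χ(g)|² = |G|` for irreducible `χ`. -/
theorem sum_norm_sq_irr [Fintype G] {χ : G → ℂ} (hχ : Cfsg.IsIrrCharacter G χ) :
    ∑ g : G, ‖χ g‖ ^ 2 = (Nat.card G : ℝ) := by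
  have h1 := classInner_irr_self hχ
  rw [classInner_self_eq] at h1
  have hG0 : (Nat.card G : ℂ) ≠ 0 := by
    have : 0 < Nat.card G := Nat.card_pos
    exact_mod_cast this.ne'
  have h2 : ((∑ g : G, ‖χ g‖ ^ 2 : ℝ) : ℂ) = ((Nat.card G : ℝ) : ℂ) := by
    have := congrArg (fun z => (Nat.card G : ℂ) * z) h1
    simp only [mul_one] at this
    rw [← mul_assoc, mul_inv_cancel₀ hG0, one_mul] at this
    rw [this]
    push_cast
    rfl
  exact Complex.ofReal_injective h2

omit [Finite G] in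
/-- closure of the complement of a subgroup under coprime powers -/
theorem pow_coprime_not_mem (H : Subgroup G) (g : G) (hg : g ∉ H) (m : ℕ)
    (hm : m.Coprime (Nat.card G)) : g ^ m ∉ H := by
  intro h
  apply hg
  have hcop : Nat.Coprime (Nat.card G) m := hm.symm
  have hinv : (powCoprime hcop).symm (powCoprime hcop g) = g := Equiv.symm_apply_apply _ _
  rw [← hinv]
  change (g ^ m) ^ ((Nat.card G).gcdB m) ∈ H
  exact H.zpow_mem h _

/-- a coprime power map can be undone by another natural power -/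
theorem exists_pow_pow_eq (g : G) (m : ℕ) (hm : m.Coprime (Nat.card G)) :
    ∃ j : ℕ, (g ^ m) ^ j = g := by
  have hcop : Nat.Coprime (Nat.card G) m := hm.symm
  have hinv : (powCoprime hcop).symm (powCoprime hcop g) = g := Equiv.symm_apply_apply _ _
  have hz : (g ^ m) ^ ((Nat.card G).gcdB m) = g := hinv
  set x := g ^ m with hx
  set z := (Nat.card G).gcdB m with hzdef
  have hpos : (0 : ℤ) < (orderOf x : ℤ) := by exact_mod_cast orderOf_pos x
  refine ⟨(z % (orderOf x : ℤ)).toNat, ?_⟩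
  rw [← zpow_natCast, Int.toNat_of_nonneg (Int.emod_nonneg _ hpos.ne'), zpow_mod_orderOf]
  exact hz

/-- acting by a scalar is invariant under coprime powers -/
theorem scalar_of_pow_scalar (ρ : Representation ℂ G V) (g : G) (m : ℕ)
    (hm : m.Coprime (Nat.card G))
    (h : ∃ ω : ℂ, ρ (g ^ m) = ω • (LinearMap.id : V →ₗ[ℂ] V)) :
    ∃ ω : ℂ, ρ g = ω • (LinearMap.id : V →ₗ[ℂ] V) := by
  obtain ⟨ω, hω⟩ := h
  obtain ⟨j, hj⟩ := exists_pow_pow_eq g m hm
  refine ⟨ω ^ j, ?_⟩
  rw [← hj, map_pow, hω, smul_pow]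
  congr 1
  exact one_pow j

end Cfsg.Agent.Helper6
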