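import Mathlib
import Cfsg.Prelude.Def_Characters
import Cfsg.Agent.Helper6.IrrCrit
import Cfsg.Agent.Helper6.NormalInd2
import Cfsg.Agent.Helper6.NormTwo

/-!
# Constituents: subtracting an irreducible constituent from a character
-/

set_option autoImplicit false
set_option linter.style.haveILetI false

namespace Cfsg.Agent.Helper6

open Module Representation
open scoped ComplexConjugate

universe u v

variable {G : Type u} [Group G]

theorem classInner_comp_equiv' {A : Type u} {B : Type v} [Group A] [Group B] [Fintype A]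
    [Fintype B] (e : A ≃ B) (φ ψ : B → ℂ) :
    Cfsg.classInner (φ ∘ e) (ψ ∘ e) = Cfsg.classInner φ ψ := by
  rw [classInner_def, classInner_def, Nat.card_congr e]
  congr 1
  exact Equiv.sum_comp e (fun g => φ g * conj (ψ g))

/-- If `χ` is an irreducible constituent of the character `ψ` then `ψ - χ` is a character. -/
theorem sub_isCharacter_of_constituent [Fintype G] {ψ χ : G → ℂ} (hψ : Cfsg.IsCharacter G ψ)
    (hχ : Cfsg.IsIrrCharacter G χ) (hne : Cfsg.classInner ψ χ ≠ 0) :
    Cfsg.IsCharacter G (ψ - χ) := by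
  classical
  apply isCharacter_of_classInner_nat
    (IsClassFunction.sub (IsCharacter.isClassFunction hψ)
      (IsCharacter.isClassFunction (IsIrrCharacter.isCharacter hχ)))
  intro θ hθ
  obtain ⟨n, hn⟩ := classInner_char_char_nat hψ (IsIrrCharacter.isCharacter hθ)
  rw [classInner_sub_left, hn, classInner_irr_ite hχ hθ]
  split_ifs with h
  · subst h
    rw [hn] at hne
    have hn0 : n ≠ 0 := fun h0 => hne (by rw [h0, Nat.cast_zero])
    refine ⟨n - 1, ?_⟩
    rw [Nat.cast_sub (Nat.one_le_iff_ne_zero.mpr hn0), Nat.cast_one]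
  · exact ⟨n, by rw [sub_zero]⟩

theorem eq_zero_of_isCharacter_of_apply_one [Finite G] {Δ : G → ℂ} (h : Cfsg.IsCharacter G Δ)
    (h1 : Δ 1 = 0) : Δ = 0 := by
  ext g
  have := IsCharacter.norm_le h g
  rw [h1, Complex.zero_re] at this
  exact norm_le_zero_iff.mp this

/-- A character with an irreducible constituent of the same degree equals it. -/
theorem eq_of_constituent_of_degree [Fintype G] {ψ χ : G → ℂ} (hψ : Cfsg.IsCharacter G ψ)
    (hχ : Cfsg.IsIrrCharacter G χ) (hne : Cfsg.classInner ψ χ ≠ 0) (hdeg : ψ 1 = χ 1) :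
    ψ = χ := by
  have h := eq_zero_of_isCharacter_of_apply_one (sub_isCharacter_of_constituent hψ hχ hne)
    (by rw [Pi.sub_apply, hdeg, sub_self])
  exact sub_eq_zero.mp h

end Cfsg.Agent.Helper6
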