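import Mathlib
import Cfsg.Prelude.Def_Characters
import Cfsg.Agent.Helper6.CharBasic
import Cfsg.Agent.Helper6.CentralChar
import Cfsg.Agent.Helper6.DegreeDvd
import Cfsg.Agent.Helper6.IrrDegree

/-!
# Frobenius–Schur indicator via invariant bilinear forms

For an irreducible matrix representation `X` of a finite group, the invariant forms
`{M | X(g)ᵀ M X(g) = M}` form a space of dimension at most one, nonzero iff the character is
real, and every invariant form satisfies `Mᵀ = ν M` where `ν = |G|⁻¹ ∑ χ(s²)`.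
-/

set_option autoImplicit false
set_option linter.style.haveILetI false
set_option linter.unusedSimpArgs false

namespace Cfsg.Agent.Helper6

open Matrix Module Representation
open scoped ComplexConjugate

universe u

variable {G : Type u} [Group G]

/-- For an irreducible representation, a linear map whose kernel is stable is injective or
zero. -/
theorem ker_eq_bot_or_eq_zero {V W : Type*} [AddCommGroup V] [Module ℂ V] [AddCommGroup W]
    [Module ℂ W] (ρ : Representation ℂ G V) [ρ.IsIrreducible] (T : V →ₗ[ℂ] W)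
    (hinv : ∀ g v, T v = 0 → T (ρ g v) = 0) : LinearMap.ker T = ⊥ ∨ T = 0 := by
  let S : Subrepresentation ρ := ⟨LinearMap.ker T, fun g v hv => by
    rw [LinearMap.mem_ker] at hv ⊢
    exact hinv g v hv⟩
  rcases eq_bot_or_eq_top S with h | h
  · left
    exact congrArg Subrepresentation.toSubmodule h
  · right
    have h2 : LinearMap.ker T = ⊤ := congrArg Subrepresentation.toSubmodule h
    exact LinearMap.ker_eq_top.mp h2

theorem single_sandwich (n : ℕ) (X : Matrix (Fin n) (Fin n) ℂ) (i j k l : Fin n) :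
    (Xᵀ * Matrix.single i j (1:ℂ) * X) k l = X i k * X j l := by
  rw [Matrix.mul_apply, Finset.sum_eq_single j]
  · congr 1
    rw [Matrix.mul_apply, Finset.sum_eq_single i]
    · simp [Matrix.single_apply]
    · intro b _ hb
      simp [Matrix.single_apply, Ne.symm hb]
    · intro h; exact absurd (Finset.mem_univ _) h
  · intro b _ hb
    have : (Xᵀ * Matrix.single i j (1:ℂ)) k b = 0 := by
      rw [Matrix.mul_apply]
      apply Finset.sum_eq_zero
      intro y _
      simp [Matrix.single_apply, Ne.symm hb]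
    rw [this, zero_mul]
  · intro h; exact absurd (Finset.mem_univ _) h

section

variable {n : ℕ} (ρ : Representation ℂ G (Fin n → ℂ))

/-- the matrix of `ρ g` -/
noncomputable def repMat (g : G) : Matrix (Fin n) (Fin n) ℂ := LinearMap.toMatrix' (ρ g)

theorem repMat_mul (g h : G) : repMat ρ (g * h) = repMat ρ g * repMat ρ h := by
  unfold repMat
  rw [map_mul, LinearMap.toMatrix'_mul]

theorem repMat_one : repMat ρ 1 = 1 := by
  unfold repMat
  rw [map_one, LinearMap.toMatrix'_one]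

theorem repMat_inv_mul (g : G) : repMat ρ g⁻¹ * repMat ρ g = 1 := by
  rw [← repMat_mul, inv_mul_cancel, repMat_one]

theorem repMat_mul_inv (g : G) : repMat ρ g * repMat ρ g⁻¹ = 1 := by
  rw [← repMat_mul, mul_inv_cancel, repMat_one]

theorem trace_repMat (g : G) : (repMat ρ g).trace = ρ.character g := by
  unfold repMat Representation.character
  rw [LinearMap.trace_eq_matrix_trace ℂ (Pi.basisFun ℂ (Fin n)), LinearMap.toMatrix_eq_toMatrix']

theorem toLin'_repMat (g : G) : Matrix.toLin' (repMat ρ g) = ρ g := Matrix.toLin'_toMatrix' _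

/-- invariant bilinear forms -/
def IsInvForm (M : Matrix (Fin n) (Fin n) ℂ) : Prop :=
  ∀ g : G, (repMat ρ g)ᵀ * M * repMat ρ g = M

variable {ρ}

theorem IsInvForm.transpose {M : Matrix (Fin n) (Fin n) ℂ} (h : IsInvForm ρ M) :
    IsInvForm ρ Mᵀ := by
  intro g
  have := congrArg Matrix.transpose (h g)
  rw [Matrix.transpose_mul, Matrix.transpose_mul, Matrix.transpose_transpose] at this
  rw [Matrix.mul_assoc]
  exact this

theorem IsInvForm.mul_repMat {M : Matrix (Fin n) (Fin n) ℂ} (h : IsInvForm ρ M) (g : G) :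
    M * repMat ρ g = (repMat ρ g⁻¹)ᵀ * M := by
  have h1 := h g⁻¹
  calc M * repMat ρ g = ((repMat ρ g⁻¹)ᵀ * M * repMat ρ g⁻¹) * repMat ρ g := by rw [h1]
    _ = (repMat ρ g⁻¹)ᵀ * M * (repMat ρ g⁻¹ * repMat ρ g) := by
      simp only [Matrix.mul_assoc]
    _ = (repMat ρ g⁻¹)ᵀ * M := by rw [repMat_inv_mul, Matrix.mul_one]

theorem IsInvForm.isUnit_of_ne_zero [hirr : ρ.IsIrreducible] {M : Matrix (Fin n) (Fin n) ℂ}
    (h : IsInvForm ρ M) (hM : M ≠ 0) : IsUnit M := by
  have hker := ker_eq_bot_or_eq_zero ρ (Matrix.toLin' M) (by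
    intro g v hv
    rw [← toLin'_repMat ρ g, ← LinearMap.comp_apply, ← Matrix.toLin'_mul, h.mul_repMat g,
      Matrix.toLin'_mul, LinearMap.comp_apply, hv, map_zero])
  rcases hker with h1 | h1
  · rw [← Matrix.mulVec_injective_iff_isUnit]
    have : Function.Injective (Matrix.toLin' M) := LinearMap.ker_eq_bot.mp h1
    exact this
  · exfalso
    apply hM
    have := congrArg LinearMap.toMatrix' h1
    rwa [LinearMap.toMatrix'_toLin', map_zero] at this

/-- The space of invariant forms is at most one-dimensional. -/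
theorem IsInvForm.eq_smul [hirr : ρ.IsIrreducible] {M M' : Matrix (Fin n) (Fin n) ℂ}
    (h : IsInvForm ρ M) (hM : M ≠ 0) (h' : IsInvForm ρ M') : ∃ c : ℂ, M' = c • M := by
  have hu := h.isUnit_of_ne_zero hM
  have hdet : IsUnit M.det := (Matrix.isUnit_iff_isUnit_det M).mp hu
  set A := M⁻¹ * M' with hA
  have hcomm : ∀ g : G, A * repMat ρ g = repMat ρ g * A := by
    intro g
    have e1 : repMat ρ g * M⁻¹ = M⁻¹ * (repMat ρ g⁻¹)ᵀ := by
      calc repMat ρ g * M⁻¹ = M⁻¹ * (M * repMat ρ g) * M⁻¹ := by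
            rw [← Matrix.mul_assoc, Matrix.nonsing_inv_mul _ hdet, Matrix.one_mul]
        _ = M⁻¹ * ((repMat ρ g⁻¹)ᵀ * M) * M⁻¹ := by rw [h.mul_repMat g]
        _ = M⁻¹ * (repMat ρ g⁻¹)ᵀ * (M * M⁻¹) := by simp only [Matrix.mul_assoc]
        _ = M⁻¹ * (repMat ρ g⁻¹)ᵀ := by rw [Matrix.mul_nonsing_inv _ hdet, Matrix.mul_one]
    calc A * repMat ρ g = M⁻¹ * (M' * repMat ρ g) := by rw [hA, Matrix.mul_assoc]
      _ = M⁻¹ * ((repMat ρ g⁻¹)ᵀ * M') := by rw [h'.mul_repMat g]
      _ = (M⁻¹ * (repMat ρ g⁻¹)ᵀ) * M' := by rw [Matrix.mul_assoc]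
      _ = repMat ρ g * M⁻¹ * M' := by rw [e1]
      _ = repMat ρ g * A := by rw [hA, Matrix.mul_assoc]
  obtain ⟨c, hc⟩ := exists_scalar_of_commute ρ (Matrix.toLin' A) (by
    intro g
    rw [← toLin'_repMat ρ g, ← Matrix.toLin'_mul, ← Matrix.toLin'_mul, hcomm g])
  refine ⟨c, ?_⟩
  have hA1 : A = c • (1 : Matrix (Fin n) (Fin n) ℂ) := by
    have := congrArg LinearMap.toMatrix' hc
    rw [LinearMap.toMatrix'_toLin', map_smul, LinearMap.toMatrix'_id] at this
    exact this
  calc M' = M * A := by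
        rw [hA, ← Matrix.mul_assoc, Matrix.mul_nonsing_inv _ hdet, Matrix.one_mul]
    _ = c • M := by rw [hA1, Matrix.mul_smul, Matrix.mul_one]

/-- If a nonzero invariant form exists then the character is real-valued
(`χ(g) = χ(g⁻¹)`). -/
theorem IsInvForm.char_inv [hirr : ρ.IsIrreducible] {M : Matrix (Fin n) (Fin n) ℂ}
    (h : IsInvForm ρ M) (hM : M ≠ 0) (g : G) : ρ.character g⁻¹ = ρ.character g := by
  have hu := h.isUnit_of_ne_zero hM
  have hdet : IsUnit M.det := (Matrix.isUnit_iff_isUnit_det M).mp hu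
  have e1 : (repMat ρ g⁻¹)ᵀ = M * repMat ρ g * M⁻¹ := by
    rw [h.mul_repMat g, Matrix.mul_assoc, Matrix.mul_nonsing_inv _ hdet, Matrix.mul_one]
  rw [← trace_repMat, ← trace_repMat, ← Matrix.trace_transpose, e1, Matrix.trace_mul_cycle,
    Matrix.nonsing_inv_mul _ hdet, Matrix.one_mul]

variable (ρ)

/-- averaging operator producing invariant forms -/
noncomputable def avgForm [Fintype G] (A : Matrix (Fin n) (Fin n) ℂ) :
    Matrix (Fin n) (Fin n) ℂ :=
  (Nat.card G : ℂ)⁻¹ • ∑ g : G, (repMat ρ g)ᵀ * A * repMat ρ g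

theorem avgForm_isInvForm [Fintype G] (A : Matrix (Fin n) (Fin n) ℂ) :
    IsInvForm ρ (avgForm ρ A) := by
  intro h
  have hsum : (repMat ρ h)ᵀ * (∑ g : G, (repMat ρ g)ᵀ * A * repMat ρ g) * repMat ρ h =
      ∑ g : G, (repMat ρ g)ᵀ * A * repMat ρ g := by
    rw [Matrix.mul_sum, Matrix.sum_mul]
    apply Fintype.sum_equiv (Equiv.mulRight h)
    intro g
    rw [Equiv.coe_mulRight, repMat_mul, Matrix.transpose_mul]
    simp only [Matrix.mul_assoc]
  change (repMat ρ h)ᵀ * ((Nat.card G : ℂ)⁻¹ • ∑ g : G, (repMat ρ g)ᵀ * A * repMat ρ g) *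
    repMat ρ h = (Nat.card G : ℂ)⁻¹ • ∑ g : G, (repMat ρ g)ᵀ * A * repMat ρ g
  rw [Matrix.mul_smul, Matrix.smul_mul, hsum]

theorem avgForm_single_apply [Fintype G] (i j k l : Fin n) :
    avgForm ρ (Matrix.single i j 1) k l =
      (Nat.card G : ℂ)⁻¹ * ∑ g : G, repMat ρ g i k * repMat ρ g j l := by
  unfold avgForm
  rw [Matrix.smul_apply, Matrix.sum_apply, smul_eq_mul]
  congr 1
  apply Finset.sum_congr rfl
  intro g _
  exact single_sandwich n (repMat ρ g) i j k l

/-- `∑ᵢⱼ Φ(Eᵢⱼ)ⱼᵢ` is the Frobenius–Schur indicator. -/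
theorem sum_avgForm_swap [Fintype G] :
    ∑ i, ∑ j, avgForm ρ (Matrix.single i j 1) j i =
      (Nat.card G : ℂ)⁻¹ * ∑ s : G, ρ.character (s * s) := by
  have h1 : ∀ i j, avgForm ρ (Matrix.single i j 1) j i =
      (Nat.card G : ℂ)⁻¹ * ∑ g : G, repMat ρ g i j * repMat ρ g j i :=
    fun i j => avgForm_single_apply ρ i j j i
  have h2 : ∀ g : G, ρ.character (g * g) = ∑ i, ∑ j, repMat ρ g i j * repMat ρ g j i := by
    intro g
    rw [← trace_repMat, repMat_mul, Matrix.trace]
    apply Finset.sum_congr rfl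
    intro i _
    rw [Matrix.diag_apply, Matrix.mul_apply]
  calc ∑ i, ∑ j, avgForm ρ (Matrix.single i j 1) j i
      = ∑ i, ∑ j, (Nat.card G : ℂ)⁻¹ * ∑ g : G, repMat ρ g i j * repMat ρ g j i :=
        Finset.sum_congr rfl (fun i _ => Finset.sum_congr rfl (fun j _ => h1 i j))
    _ = (Nat.card G : ℂ)⁻¹ * ∑ i, ∑ j, ∑ g : G, repMat ρ g i j * repMat ρ g j i := by
        simp only [Finset.mul_sum]
    _ = (Nat.card G : ℂ)⁻¹ * ∑ g : G, ∑ i, ∑ j, repMat ρ g i j * repMat ρ g j i := by
        rw [sum_comm3]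
    _ = (Nat.card G : ℂ)⁻¹ * ∑ s : G, ρ.character (s * s) := by
        congr 1
        exact Finset.sum_congr rfl (fun g _ => (h2 g).symm)

/-- `∑ᵢⱼ Φ(Eᵢⱼ)ᵢⱼ = |G|⁻¹ ∑ χ(g)²`. -/
theorem sum_avgForm_diag [Fintype G] :
    ∑ i, ∑ j, avgForm ρ (Matrix.single i j 1) i j =
      (Nat.card G : ℂ)⁻¹ * ∑ g : G, ρ.character g * ρ.character g := by
  have h1 : ∀ i j, avgForm ρ (Matrix.single i j 1) i j =
      (Nat.card G : ℂ)⁻¹ * ∑ g : G, repMat ρ g i i * repMat ρ g j j :=
    fun i j => avgForm_single_apply ρ i j i j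
  have h2 : ∀ g : G, ρ.character g * ρ.character g =
      ∑ i, ∑ j, repMat ρ g i i * repMat ρ g j j := by
    intro g
    rw [← trace_repMat, Matrix.trace, Finset.sum_mul_sum]
    rfl
  calc ∑ i, ∑ j, avgForm ρ (Matrix.single i j 1) i j
      = ∑ i, ∑ j, (Nat.card G : ℂ)⁻¹ * ∑ g : G, repMat ρ g i i * repMat ρ g j j :=
        Finset.sum_congr rfl (fun i _ => Finset.sum_congr rfl (fun j _ => h1 i j))
    _ = (Nat.card G : ℂ)⁻¹ * ∑ i, ∑ j, ∑ g : G, repMat ρ g i i * repMat ρ g j j := by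
        simp only [Finset.mul_sum]
    _ = (Nat.card G : ℂ)⁻¹ * ∑ g : G, ∑ i, ∑ j, repMat ρ g i i * repMat ρ g j j := by
        rw [sum_comm3]
    _ = (Nat.card G : ℂ)⁻¹ * ∑ g : G, ρ.character g * ρ.character g := by
        congr 1
        exact Finset.sum_congr rfl (fun g _ => (h2 g).symm)

end

section main

variable {n : ℕ} (ρ : Representation ℂ G (Fin n → ℂ)) [Fintype G]

/-- the Frobenius–Schur indicator -/
noncomputable def fsInd : ℂ := (Nat.card G : ℂ)⁻¹ * ∑ s : G, ρ.character (s * s)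

theorem inv_card_mul_sum_sq_eq_one [hirr : ρ.IsIrreducible]
    (hreal : ∀ g, ρ.character g⁻¹ = ρ.character g) :
    (Nat.card G : ℂ)⁻¹ * ∑ g : G, ρ.character g * ρ.character g = 1 := by
  have h1 : Cfsg.classInner ρ.character ρ.character = 1 :=
    classInner_irr_self ⟨n, ρ, hirr, rfl⟩
  rw [classInner_rep_eq] at h1
  rw [← h1]
  congr 1
  apply Finset.sum_congr rfl
  intro g _
  rw [hreal g]

variable {ρ}

/-- every invariant form satisfies `Mᵀ = ν M` -/
theorem IsInvForm.transpose_eq [hirr : ρ.IsIrreducible] {M : Matrix (Fin n) (Fin n) ℂ}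
    (h : IsInvForm ρ M) : Mᵀ = fsInd ρ • M := by
  by_cases hM : M = 0
  · rw [hM, Matrix.transpose_zero, smul_zero]
  obtain ⟨ε, hε⟩ := h.eq_smul hM h.transpose
  have hc : ∀ i j, ∃ c : ℂ, avgForm ρ (Matrix.single i j 1) = c • M :=
    fun i j => h.eq_smul hM (avgForm_isInvForm ρ _)
  choose c hc using hc
  have hreal := h.char_inv hM
  have h1 : fsInd ρ = ∑ i, ∑ j, c i j * M j i := by
    unfold fsInd
    rw [← sum_avgForm_swap]
    apply Finset.sum_congr rfl
    intro i _
    apply Finset.sum_congr rfl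
    intro j _
    rw [hc i j, Matrix.smul_apply, smul_eq_mul]
  have h2 : (1 : ℂ) = ∑ i, ∑ j, c i j * M i j := by
    rw [← inv_card_mul_sum_sq_eq_one ρ hreal, ← sum_avgForm_diag]
    apply Finset.sum_congr rfl
    intro i _
    apply Finset.sum_congr rfl
    intro j _
    rw [hc i j, Matrix.smul_apply, smul_eq_mul]
  have h3 : ∀ i j, M j i = ε * M i j := by
    intro i j
    have := congrFun (congrFun hε i) j
    rw [Matrix.transpose_apply, Matrix.smul_apply, smul_eq_mul] at this
    exact this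
  have h4 : fsInd ρ = ε := by
    rw [h1]
    have h5 : ∑ i, ∑ j, c i j * M j i = ∑ i, ∑ j, ε * (c i j * M i j) := by
      apply Finset.sum_congr rfl
      intro i _
      apply Finset.sum_congr rfl
      intro j _
      rw [h3 i j]
      ring
    rw [h5]
    simp_rw [← Finset.mul_sum]
    rw [← h2, mul_one]
  rw [h4, hε]

variable (ρ)

/-- a real-valued irreducible character has a nonzero invariant form -/
theorem exists_invForm_of_real [hirr : ρ.IsIrreducible]
    (hreal : ∀ g, ρ.character g⁻¹ = ρ.character g) :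
    ∃ M : Matrix (Fin n) (Fin n) ℂ, M ≠ 0 ∧ IsInvForm ρ M := by
  by_contra hcon
  push Not at hcon
  have hz : ∀ i j, avgForm ρ (Matrix.single i j 1) = 0 := by
    intro i j
    by_contra hne
    exact hcon _ hne (avgForm_isInvForm ρ _)
  have h1 := inv_card_mul_sum_sq_eq_one ρ hreal
  rw [← sum_avgForm_diag] at h1
  simp only [hz, Matrix.zero_apply, Finset.sum_const_zero] at h1
  exact zero_ne_one h1

/-- the indicator vanishes when the character is not real -/
theorem fsInd_eq_zero_of_not_real [hirr : ρ.IsIrreducible]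
    (hnr : ∃ g, ρ.character g⁻¹ ≠ ρ.character g) : fsInd ρ = 0 := by
  obtain ⟨g, hg⟩ := hnr
  have hz : ∀ M : Matrix (Fin n) (Fin n) ℂ, IsInvForm ρ M → M = 0 := by
    intro M hM
    by_contra hne
    exact hg (hM.char_inv hne g)
  unfold fsInd
  rw [← sum_avgForm_swap]
  apply Finset.sum_eq_zero
  intro i _
  apply Finset.sum_eq_zero
  intro j _
  rw [hz _ (avgForm_isInvForm ρ _), Matrix.zero_apply]

/-- the indicator is `±1` for real characters -/
theorem fsInd_sq_eq_one_of_real [hirr : ρ.IsIrreducible]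
    (hreal : ∀ g, ρ.character g⁻¹ = ρ.character g) : fsInd ρ = 1 ∨ fsInd ρ = -1 := by
  obtain ⟨M, hM0, hM⟩ := exists_invForm_of_real ρ hreal
  have h1 := hM.transpose_eq
  have h2 : M = (fsInd ρ * fsInd ρ) • M := by
    calc M = Mᵀᵀ := (Matrix.transpose_transpose M).symm
      _ = (fsInd ρ • M)ᵀ := by rw [h1]
      _ = fsInd ρ • Mᵀ := Matrix.transpose_smul _ _
      _ = (fsInd ρ * fsInd ρ) • M := by rw [h1, smul_smul]
  have h3 : (fsInd ρ * fsInd ρ - 1) • M = 0 := by
    rw [sub_smul, one_smul, ← h2, sub_self]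
  rcases smul_eq_zero.mp h3 with h4 | h4
  · have : (fsInd ρ - 1) * (fsInd ρ + 1) = 0 := by linear_combination h4
    rcases mul_eq_zero.mp this with h5 | h5
    · left; exact sub_eq_zero.mp h5
    · right; exact eq_neg_of_add_eq_zero_left h5
  · exact absurd h4 hM0

/-- odd degree real characters have indicator `1` -/
theorem fsInd_eq_one_of_real_of_odd [hirr : ρ.IsIrreducible]
    (hreal : ∀ g, ρ.character g⁻¹ = ρ.character g) (hodd : Odd n) : fsInd ρ = 1 := by
  rcases fsInd_sq_eq_one_of_real ρ hreal with h | h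
  · exact h
  · exfalso
    obtain ⟨M, hM0, hM⟩ := exists_invForm_of_real ρ hreal
    have h1 := hM.transpose_eq
    rw [h] at h1
    have hu := hM.isUnit_of_ne_zero hM0
    have hdet : IsUnit M.det := (Matrix.isUnit_iff_isUnit_det M).mp hu
    have h2 := congrArg Matrix.det h1
    rw [Matrix.det_transpose, Matrix.det_smul, Fintype.card_fin, hodd.neg_one_pow] at h2
    have h3 : M.det = 0 := by linear_combination h2 / 2
    rw [h3] at hdet
    exact not_isUnit_zero hdet

end main

end Cfsg.Agent.Helper6
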