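import Mathlib
import Cfsg.Prelude.Def_Characters
import Cfsg.Agent.Helper6.FrobSchur
import Cfsg.Agent.Helper6.Regular
import Cfsg.Agent.Helper6.OddReal

/-!
# Counting square roots of the identity with Frobenius–Schur indicators
-/

set_option autoImplicit false
set_option linter.style.haveILetI false

namespace Cfsg.Agent.Helper6

open Module Representation
open scoped ComplexConjugate

universe u

variable {G : Type u} [Group G]

/-- the Frobenius–Schur indicator of a function -/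
noncomputable def fsIndFun [Fintype G] (χ : G → ℂ) : ℂ :=
  (Nat.card G : ℂ)⁻¹ * ∑ s : G, χ (s * s)

/-- `#{s | s² = 1} = ∑ ν(χ) χ(1)` -/
theorem card_sq_eq_one_eq_sum [Fintype G] [DecidableEq G] [Fintype (Cfsg.IrrCharacter G)] :
    ((Finset.univ.filter (fun s : G => s * s = 1)).card : ℂ) =
      ∑ χ : Cfsg.IrrCharacter G, fsIndFun (χ : G → ℂ) * (χ : G → ℂ) 1 := by
  have hG0 : (Nat.card G : ℂ) ≠ 0 := by
    have : 0 < Nat.card G := Nat.card_pos
    exact_mod_cast this.ne'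
  unfold fsIndFun
  have h1 : ∀ χ : Cfsg.IrrCharacter G,
      (Nat.card G : ℂ)⁻¹ * (∑ s : G, (χ : G → ℂ) (s * s)) * (χ : G → ℂ) 1 =
      (Nat.card G : ℂ)⁻¹ * ∑ s : G, (χ : G → ℂ) 1 * (χ : G → ℂ) (s * s) := by
    intro χ
    rw [mul_assoc, Finset.sum_mul]
    congr 1
    apply Finset.sum_congr rfl
    intro s _
    ring
  simp_rw [h1]
  rw [← Finset.mul_sum, Finset.sum_comm]
  simp_rw [sum_degree_mul_irr]
  rw [Finset.card_filter]
  push_cast
  rw [Finset.mul_sum]
  apply Finset.sum_congr rfl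
  intro s _
  by_cases hs : s * s = 1
  · rw [if_pos hs, if_pos hs, inv_mul_cancel₀ hG0]
  · rw [if_neg hs, if_neg hs, mul_zero]

/-- trichotomy for the indicator of an irreducible character -/
theorem irr_fs_cases [Fintype G] (χ : Cfsg.IrrCharacter G) :
    ((∀ g, ((χ : G → ℂ) g).im = 0) ∧
      (fsIndFun (χ : G → ℂ) = 1 ∨ fsIndFun (χ : G → ℂ) = -1)) ∨
    ((∃ g, ((χ : G → ℂ) g).im ≠ 0) ∧ fsIndFun (χ : G → ℂ) = 0) := by
  obtain ⟨n, ρ, hirr, hρ⟩ := χ.2
  haveI := hirr
  have hfs : fsIndFun (χ : G → ℂ) = fsInd ρ := by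
    unfold fsIndFun fsInd
    rw [hρ]
  rw [hfs, ← hρ]
  by_cases hreal : ∀ g, (ρ.character g).im = 0
  · left
    refine ⟨hreal, ?_⟩
    apply fsInd_sq_eq_one_of_real ρ
    intro g
    rw [char_inv_eq_conj]
    exact Complex.conj_eq_iff_im.mpr (hreal g)
  · right
    push Not at hreal
    refine ⟨hreal, ?_⟩
    apply fsInd_eq_zero_of_not_real ρ
    obtain ⟨g, hg⟩ := hreal
    refine ⟨g, ?_⟩
    rw [char_inv_eq_conj]
    intro h
    exact hg (Complex.conj_eq_iff_im.mp h)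

/-- `#{s | s² = 1} ≤ ∑_{χ real} χ(1)` -/
theorem card_sq_eq_one_le [Fintype G] [DecidableEq G] [Fintype (Cfsg.IrrCharacter G)] :
    ((Finset.univ.filter (fun s : G => s * s = 1)).card : ℝ) ≤
      ∑ χ ∈ Finset.univ.filter (fun χ : Cfsg.IrrCharacter G => ∀ g, ((χ : G → ℂ) g).im = 0),
        ((χ : G → ℂ) 1).re := by
  classical
  have h := card_sq_eq_one_eq_sum (G := G)
  have h2 := congrArg Complex.re h
  rw [Complex.natCast_re, Complex.re_sum] at h2
  rw [h2, Finset.sum_filter]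
  apply Finset.sum_le_sum
  intro χ _
  obtain ⟨d, hd⟩ := IsCharacter.apply_one (IsIrrCharacter.isCharacter χ.2)
  rw [hd]
  rcases irr_fs_cases χ with ⟨hreal, h1 | h1⟩ | ⟨hnr, h0⟩
  · rw [if_pos hreal, h1, one_mul]
  · rw [if_pos hreal, h1]
    simp
  · have : ¬ ∀ g, ((χ : G → ℂ) g).im = 0 := by
      push Not
      exact hnr
    rw [if_neg this, h0, zero_mul]
    simp

end Cfsg.Agent.Helper6
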