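import Mathlib
import Cfsg.Prelude.Def_Characters
import Cfsg.Agent.Helper6.Constituent
import Cfsg.Agent.Helper6.Induced
import Cfsg.Agent.Helper6.Involutions
import Cfsg.Agent.Helper6.NormTwo
import Cfsg.Agent.Helper6.RepEigen

/-!
# Kernels of constituents, fibre sums over a quotient, squares in odd quotients
-/

set_option autoImplicit false

namespace Cfsg.Agent.Helper6

open Module Representation

universe u

variable {G : Type u} [Group G]

/-- If a character takes its degree at `k`, so does every irreducible constituent. -/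
theorem constituent_apply_eq_of_apply_eq [Fintype G] {ψ χ : G → ℂ} (hψ : Cfsg.IsCharacter G ψ)
    (hχ : Cfsg.IsIrrCharacter G χ) (hne : Cfsg.classInner ψ χ ≠ 0) (k : G) (hk : ψ k = ψ 1) :
    χ k = χ 1 := by
  have hΔ := sub_isCharacter_of_constituent hψ hχ hne
  have hχc := IsIrrCharacter.isCharacter hχ
  have h1 := IsCharacter.norm_le hχc k
  have h2 := IsCharacter.norm_le hΔ k
  have h3 : (χ k).re + ((ψ - χ) k).re = (χ 1).re + ((ψ - χ) 1).re := by
    rw [← Complex.add_re, ← Complex.add_re]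
    simp only [Pi.sub_apply, add_sub_cancel]
    rw [hk]
  have h4 : (χ k).re ≤ ‖χ k‖ := Complex.re_le_norm _
  have h5 : ((ψ - χ) k).re ≤ ‖(ψ - χ) k‖ := Complex.re_le_norm _
  have h6 : (χ k).re = (χ 1).re := by linarith
  have h7 : ‖χ k‖ = (χ k).re := by linarith
  obtain ⟨n, hn⟩ := IsCharacter.apply_one hχc
  have him : (χ k).im = 0 := by
    have h8 : ‖χ k‖ ^ 2 = (χ k).re ^ 2 + (χ k).im ^ 2 := by
      rw [Complex.sq_norm, Complex.normSq_apply]; ring
    rw [h7] at h8
    have : (χ k).im ^ 2 = 0 := by linarith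
    exact pow_eq_zero_iff (two_ne_zero) |>.mp this
  apply Complex.ext
  · exact h6
  · rw [him, hn]; simp

/-- An irreducible character taking its degree at `k` is invariant under translation by `k`. -/
theorem char_mul_eq_of_apply_eq [Finite G] {χ : G → ℂ} (hχ : Cfsg.IsCharacter G χ) (k : G)
    (hk : χ k = χ 1) (g : G) : χ (g * k) = χ g := by
  obtain ⟨n, ρ, rfl⟩ := hχ
  have h1 : ρ.character k = (finrank ℂ (Fin n → ℂ) : ℂ) := by rw [hk, char_one]
  have h2 := (char_eq_finrank_iff ρ k).mp h1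
  unfold Representation.character
  rw [map_mul, h2]
  rfl

/-- summing a function of the coset over the group -/
theorem sum_comp_quotient_mk [Fintype G] (A : Subgroup G) [A.Normal] [Fintype (G ⧸ A)]
    (F : G ⧸ A → ℂ) :
    ∑ x : G, F (QuotientGroup.mk' A x) = (Nat.card A : ℂ) * ∑ q : G ⧸ A, F q := by
  classical
  rw [← Finset.sum_fiberwise (Finset.univ : Finset G) (fun x => QuotientGroup.mk' A x)
    (fun x => F (QuotientGroup.mk' A x)), Finset.mul_sum]
  apply Finset.sum_congr rfl
  intro q _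
  have h1 : ∀ x ∈ Finset.univ.filter (fun x : G => QuotientGroup.mk' A x = q),
      F (QuotientGroup.mk' A x) = F q := by
    intro x hx
    rw [(Finset.mem_filter.mp hx).2]
  rw [Finset.sum_congr rfl h1, Finset.sum_const, nsmul_eq_mul]
  congr 1
  have h2 := QuotientGroup.card_preimage_mk A ({q} : Set (G ⧸ A))
  rw [Nat.card_eq_fintype_card, Fintype.card_subtype] at h2
  simp only [Set.mem_preimage, Set.mem_singleton_iff, Nat.card_eq_fintype_card,
    Fintype.card_unique, mul_one] at h2
  rw [Nat.card_eq_fintype_card]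
  exact_mod_cast h2

/-- If `f` is constant on the cosets of a normal subgroup of odd index, the sum of `f` over the
squares equals the sum of `f`. -/
theorem sum_sq_eq_sum_of_odd_index [Fintype G] (K : Subgroup G) [K.Normal] (hodd : Odd K.index)
    (f : G → ℂ) (hf : ∀ g k, k ∈ K → f (g * k) = f g) :
    ∑ g : G, f (g * g) = ∑ g : G, f g := by
  classical
  haveI : Fintype (G ⧸ K) := Fintype.ofFinite _
  let fbar : G ⧸ K → ℂ := Quotient.lift f (by
    intro a b hab
    have hab' : a⁻¹ * b ∈ K := QuotientGroup.leftRel_apply.mp hab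
    have := hf a (a⁻¹ * b) hab'
    rw [mul_inv_cancel_left] at this
    exact this.symm)
  have hfbar : ∀ g : G, fbar (QuotientGroup.mk' K g) = f g := fun g => rfl
  have h1 : ∑ g : G, f (g * g) =
      ∑ g : G, (fun q : G ⧸ K => fbar (q * q)) (QuotientGroup.mk' K g) := by
    apply Finset.sum_congr rfl
    intro g _
    show f (g * g) = fbar (QuotientGroup.mk' K g * QuotientGroup.mk' K g)
    rw [← map_mul, hfbar]
  have h2 : ∑ g : G, f g = ∑ g : G, fbar (QuotientGroup.mk' K g) :=
    Finset.sum_congr rfl (fun g _ => (hfbar g).symm)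
  rw [h1, h2, sum_comp_quotient_mk K (fun q : G ⧸ K => fbar (q * q)), sum_comp_quotient_mk K fbar]
  congr 1
  have hcop : (Nat.card (G ⧸ K)).Coprime 2 := by
    rw [← Subgroup.index_eq_card]
    exact Nat.Coprime.symm (Nat.coprime_two_left.mpr hodd)
  have := Equiv.sum_comp (powCoprime hcop) fbar
  rw [← this]
  apply Finset.sum_congr rfl
  intro q _
  rw [powCoprime_apply, pow_two]

/-- `∑_χ ν(χ) [1_H^G, χ] = #{s | s² ∈ H} / |H|` -/
theorem sum_fsInd_mul_inner_perm [Fintype G] [DecidableEq G] [Fintype (Cfsg.IrrCharacter G)]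
    (H : Subgroup G) [DecidablePred (· ∈ H)] :
    ∑ χ : Cfsg.IrrCharacter G, fsIndFun (χ : G → ℂ) *
        Cfsg.classInner (Cfsg.indFun H (fun _ : H => (1 : ℂ))) (χ : G → ℂ) =
      ((Finset.univ.filter (fun s : G => s * s ∈ H)).card : ℂ) / (Nat.card H : ℂ) := by
  have hG0 : (Nat.card G : ℂ) ≠ 0 := by
    have : 0 < Nat.card G := Nat.card_pos
    exact_mod_cast this.ne'
  have hH0 : (Nat.card H : ℂ) ≠ 0 := by
    have : 0 < Nat.card H := Nat.card_pos
    exact_mod_cast this.ne'
  set π := Cfsg.indFun H (fun _ : H => (1 : ℂ)) with hπ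
  have hexp := classFunction_expansion π (indFun_isClassFunction H _)
  have hπs : ∀ s : G, π s = ∑ χ : Cfsg.IrrCharacter G,
      Cfsg.classInner π (χ : G → ℂ) * (χ : G → ℂ) s := by
    intro s
    have := congrFun hexp s
    rw [Finset.sum_apply] at this
    simpa using this
  have h1 : ∑ χ : Cfsg.IrrCharacter G, fsIndFun (χ : G → ℂ) * Cfsg.classInner π (χ : G → ℂ) =
      (Nat.card G : ℂ)⁻¹ * ∑ s : G, π (s * s) := by
    unfold fsIndFun
    have : ∀ χ : Cfsg.IrrCharacter G,
        (Nat.card G : ℂ)⁻¹ * (∑ s : G, (χ : G → ℂ) (s * s)) * Cfsg.classInner π (χ : G → ℂ) =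
        (Nat.card G : ℂ)⁻¹ * ∑ s : G, Cfsg.classInner π (χ : G → ℂ) * (χ : G → ℂ) (s * s) := by
      intro χ
      rw [mul_assoc, Finset.sum_mul]
      congr 1
      apply Finset.sum_congr rfl
      intro s _
      ring
    rw [Finset.sum_congr rfl (fun χ _ => this χ), ← Finset.mul_sum, Finset.sum_comm]
    congr 1
    apply Finset.sum_congr rfl
    intro s _
    rw [hπs]
  rw [h1]
  have hext : ∀ y : G, Cfsg.extendByZero H (fun _ : H => (1 : ℂ)) y = if y ∈ H then 1 else 0 := by
    intro y
    split_ifs with hy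
    · rw [extendByZero_mem H _ hy]
    · rw [extendByZero_not_mem H _ hy]
  have h2 : ∑ s : G, π (s * s) = (Nat.card H : ℂ)⁻¹ *
      ∑ x : G, ∑ s : G, Cfsg.extendByZero H (fun _ : H => (1 : ℂ)) (x⁻¹ * (s * s) * x) := by
    simp_rw [hπ, indFun_apply]
    rw [← Finset.mul_sum, Finset.sum_comm]
  have h3 : ∀ x : G, ∑ s : G, Cfsg.extendByZero H (fun _ : H => (1 : ℂ)) (x⁻¹ * (s * s) * x) =
      ((Finset.univ.filter (fun s : G => s * s ∈ H)).card : ℂ) := by
    intro x
    have := Equiv.sum_comp (MulAut.conj x).toEquiv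
      (fun s : G => Cfsg.extendByZero H (fun _ : H => (1 : ℂ)) (x⁻¹ * (s * s) * x))
    rw [← this]
    rw [Finset.card_filter]
    push_cast
    apply Finset.sum_congr rfl
    intro s _
    rw [← hext]
    congr 1
    simp only [MulEquiv.toEquiv_eq_coe, MulEquiv.coe_toEquiv, MulAut.conj_apply]
    group
  rw [h2, Finset.sum_congr rfl (fun x _ => h3 x), Finset.sum_const, Finset.card_univ,
    nsmul_eq_mul, ← Nat.card_eq_fintype_card]
  field_simp

end Cfsg.Agent.Helper6
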