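import Mathlib
import Cfsg.Prelude.Def_Characters
import Cfsg.Agent.Helper6.PermCore
import Cfsg.Agent.Helper6.Degrees
import Cfsg.Agent.Helper6.IrrCrit
import Cfsg.Agent.Helper6.CentralChar
import Cfsg.Agent.Helper6.GaloisChar
import Cfsg.Agent.Helper6.Induced

/-!
# A degree bound from a central section
-/

set_option autoImplicit false
set_option linter.style.haveILetI false

namespace Cfsg.Agent.Helper6

open Module Representation ComplexConjugate

universe u v

variable {G : Type u} [Group G]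

theorem degree_bound_central_section [Finite G] (ψ : G → ℂ) (hψ : Cfsg.IsIrrCharacter G ψ)
    (B C D : Subgroup G) (_hBD : B ≤ D) (hDC : D ≤ C)
    (hcent : ∀ d ∈ D, ∀ c ∈ C, d * c * d⁻¹ * c⁻¹ ∈ B) (hker : ∀ b ∈ B, ψ b = ψ 1) :
    ‖ψ 1‖ ^ 2 * (Nat.card C : ℝ) * (Nat.card D : ℝ) ≤ (Nat.card G : ℝ) ^ 2 := by
  classical
  haveI := Fintype.ofFinite G
  haveI : Fintype C := Fintype.ofFinite C
  have hψc := IsIrrCharacter.isCharacter hψ
  have hres : Cfsg.IsCharacter C (fun c : C => ψ c) := IsCharacter.restrict C hψc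
  have hres0 : (fun c : C => ψ c) ≠ 0 := by
    intro h
    have := congrFun h 1
    exact IsIrrCharacter.apply_one_ne_zero hψ this
  obtain ⟨φ, hφ, hne⟩ := exists_irr_constituent hres hres0
  -- φ is trivial on B
  have hφB : ∀ b : C, (b : G) ∈ B → φ b = φ 1 := by
    intro b hb
    exact constituent_apply_eq_of_apply_eq hres hφ hne b (hker b hb)
  obtain ⟨n, ρ, hirr, hρ⟩ := id hφ
  have hρB : ∀ b : C, (b : G) ∈ B → ρ b = LinearMap.id := by
    intro b hb
    have := hφB b hb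
    rw [← hρ, Representation.char_one] at this
    exact (char_eq_finrank_iff ρ b).mp this
  -- elements of D act by scalars
  have hscal : ∀ d : C, (d : G) ∈ D → ‖φ d‖ = (n : ℝ) := by
    intro d hd
    have hcomm : ∀ c : C, ρ d ∘ₗ ρ c = ρ c ∘ₗ ρ d := by
      intro c
      have h1 : d * c = (d * c * d⁻¹ * c⁻¹) * (c * d) := by group
      have h2 : ρ (d * c * d⁻¹ * c⁻¹) = LinearMap.id := by
        apply hρB
        have := hcent d hd c c.2
        simpa using this
      change ρ d * ρ c = ρ c * ρ d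
      rw [← map_mul, ← map_mul, h1, map_mul, h2]
      rfl
    obtain ⟨ω, hω⟩ := exists_scalar_of_commute ρ (ρ d) hcomm
    have := (norm_char_eq_iff ρ d).mpr ⟨ω, hω⟩
    rw [hρ] at this
    rw [this]
    simp
  -- |D| n² ≤ |C|
  have hsum := sum_norm_sq_irr hφ
  have hDle : (Nat.card D : ℝ) * (n : ℝ) ^ 2 ≤ (Nat.card C : ℝ) := by
    rw [← hsum]
    have h1 : ∑ c ∈ Finset.univ.filter (fun c : C => (c : G) ∈ D), ‖φ c‖ ^ 2 ≤
        ∑ c : C, ‖φ c‖ ^ 2 :=
      Finset.sum_le_sum_of_subset_of_nonneg (Finset.filter_subset _ _)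
        (fun c _ _ => by positivity)
    refine le_trans (le_of_eq ?_) h1
    rw [Finset.sum_congr rfl (fun c hc => by rw [hscal c (Finset.mem_filter.mp hc).2]),
      Finset.sum_const, nsmul_eq_mul]
    congr 2
    have : Nat.card D = Nat.card (D.subgroupOf C) :=
      (Nat.card_congr (Subgroup.subgroupOfEquivOfLe hDC).toEquiv).symm
    rw [this, Nat.card_eq_fintype_card, Fintype.card_subtype]
    congr 1
  -- ψ(1) ≤ [G:C] n
  have hfrob : Cfsg.classInner (Cfsg.indFun C φ) ψ ≠ 0 := by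
    rw [frobenius_reciprocity C φ ψ (IsCharacter.isClassFunction hψc), classInner_conj_symm]
    intro h
    apply hne
    have := congrArg conj h
    simpa using this
  obtain ⟨a, b, ha, hb, hab⟩ := degree_le_of_classInner_ne_zero
    (isCharacter_indFun C φ (IsIrrCharacter.isCharacter hφ)) hψ hfrob
  rw [indFun_apply_one] at hb
  have hφ1 : φ 1 = (n : ℂ) := by
    rw [← hρ, Representation.char_one]
    simp
  rw [hφ1] at hb
  have hb' : b = C.index * n := by exact_mod_cast hb.symm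
  have hnorm : ‖ψ 1‖ = (a : ℝ) := by rw [ha]; simp
  rw [hnorm]
  have hab' : (a : ℝ) ≤ (C.index : ℝ) * (n : ℝ) := by
    rw [hb'] at hab
    exact_mod_cast hab
  have hG : (Nat.card G : ℝ) = (C.index : ℝ) * (Nat.card C : ℝ) := by
    rw [← Subgroup.index_mul_card C]
    push_cast
    rfl
  rw [hG]
  have ha0 : (0 : ℝ) ≤ (a : ℝ) := Nat.cast_nonneg a
  have hC0 : (0 : ℝ) ≤ (Nat.card C : ℝ) := Nat.cast_nonneg _
  have hD0 : (0 : ℝ) ≤ (Nat.card D : ℝ) := Nat.cast_nonneg _
  have hi0 : (0 : ℝ) ≤ (C.index : ℝ) := Nat.cast_nonneg _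
  have hn0 : (0 : ℝ) ≤ (n : ℝ) := Nat.cast_nonneg _
  calc (a : ℝ) ^ 2 * (Nat.card C : ℝ) * (Nat.card D : ℝ)
      ≤ ((C.index : ℝ) * (n : ℝ)) ^ 2 * (Nat.card C : ℝ) * (Nat.card D : ℝ) := by
        gcongr
    _ = (C.index : ℝ) ^ 2 * (Nat.card C : ℝ) * ((Nat.card D : ℝ) * (n : ℝ) ^ 2) := by ring
    _ ≤ (C.index : ℝ) ^ 2 * (Nat.card C : ℝ) * (Nat.card C : ℝ) := by
        gcongr
    _ = ((C.index : ℝ) * (Nat.card C : ℝ)) ^ 2 := by ring

end Cfsg.Agent.Helper6
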