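import Mathlib
import Cfsg.Prelude.Def_Characters
import Cfsg.Agent.Helper6.DegreeDvd

/-!
# The degree of an irreducible representation divides the index of the centre
-/

set_option autoImplicit false
set_option linter.style.haveILetI false

namespace Cfsg.Agent.Helper6

open Module Representation
open scoped ComplexConjugate

universe u v

variable {G : Type u} [Group G]

/-- Linear combinations of values of a representation with algebraic integer coefficients are
integral over `ℤ` in the endomorphism ring. -/
theorem isIntegral_sum_smul_rep [Finite G] {V : Type v} [AddCommGroup V] [Module ℂ V]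
    (ρ : Representation ℂ G V) (S : Finset G) (a : G → ℂ) (ha : ∀ g, IsIntegral ℤ (a g)) :
    IsIntegral ℤ (∑ x ∈ S, a x • ρ x) := by
  classical
  let A : Subalgebra ℤ ℂ := Algebra.adjoin ℤ (Set.range a)
  have hfg : A.toSubmodule.FG := by
    apply fg_adjoin_of_finite (Set.finite_range a)
    rintro _ ⟨g, rfl⟩
    exact ha g
  haveI : Module.Finite ℤ A := Module.Finite.of_fg hfg
  haveI : Module.Finite A (MonoidAlgebra A G) := inferInstance
  haveI : Module.Finite ℤ (MonoidAlgebra A G) := Module.Finite.trans A _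
  let F : MonoidAlgebra A G →ₐ[A] Module.End ℂ V := MonoidAlgebra.lift A (Module.End ℂ V) G ρ
  let a' : G → A := fun g => ⟨a g, Algebra.subset_adjoin ⟨g, rfl⟩⟩
  have h1 : IsIntegral ℤ (∑ x ∈ S, MonoidAlgebra.single x (a' x)) := IsIntegral.of_finite ℤ _
  have h2 := h1.map F
  rw [map_sum] at h2
  have h3 : ∀ x, F (MonoidAlgebra.single x (a' x)) = a x • ρ x := by
    intro x
    simp only [F, MonoidAlgebra.lift_single]
    rfl
  simp_rw [h3] at h2
  exact h2

/-- Scalars that are integral as endomorphisms are integral. -/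
theorem isIntegral_of_smul_id {V : Type v} [AddCommGroup V] [Module ℂ V] [Nontrivial V]
    (c : ℂ) (h : IsIntegral ℤ (c • (LinearMap.id : V →ₗ[ℂ] V))) : IsIntegral ℤ c := by
  have hinj : Function.Injective (algebraMap ℂ (Module.End ℂ V)) :=
    FaithfulSMul.algebraMap_injective ℂ (Module.End ℂ V)
  have h2 : c • (LinearMap.id : V →ₗ[ℂ] V) = algebraMap ℂ (Module.End ℂ V) c := by
    rw [Algebra.algebraMap_eq_smul_one]
    rfl
  rw [h2] at h
  exact (isIntegral_algebraMap_iff hinj).mp h

/-- A set of coset representatives gives a bijection `(G ⧸ s) × s ≃ G`. -/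
noncomputable def quotProdEquiv (s : Subgroup G) : (G ⧸ s) × s ≃ G where
  toFun p := p.1.out * p.2
  invFun g := ((g : G ⧸ s), ⟨((g : G ⧸ s)).out⁻¹ * g, by
    rw [← QuotientGroup.eq, QuotientGroup.out_eq']⟩)
  left_inv := by
    rintro ⟨q, z⟩
    have h1 : ((q.out * (z : G) : G) : G ⧸ s) = q := by
      rw [QuotientGroup.mk_mul_of_mem _ z.2, QuotientGroup.out_eq']
    apply Prod.ext
    · exact h1
    · apply Subtype.ext
      simp only
      rw [h1, inv_mul_cancel_left]
  right_inv := by
    intro g
    simp

/-- The sum `∑ conj χ(g) ρ(g)` is the scalar `|G| / χ(1)`. -/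
theorem sum_conj_char_smul_rep [Fintype G] {V : Type v} [AddCommGroup V] [Module ℂ V]
    [FiniteDimensional ℂ V] (ρ : Representation ℂ G V) [hirr : ρ.IsIrreducible] :
    ∑ g : G, conj (ρ.character g) • ρ g =
      ((Nat.card G : ℂ) / (finrank ℂ V : ℂ)) • (LinearMap.id : V →ₗ[ℂ] V) := by
  classical
  haveI : Nontrivial V := irr_nontrivial ρ
  have hd : (finrank ℂ V : ℂ) ≠ 0 := by
    have : finrank ℂ V ≠ 0 := Module.finrank_pos.ne'
    exact_mod_cast this
  have hcomm : ∀ h : G, (∑ g : G, conj (ρ.character g) • ρ g) ∘ₗ ρ h =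
      ρ h ∘ₗ (∑ g : G, conj (ρ.character g) • ρ g) := by
    intro h
    change (∑ g : G, conj (ρ.character g) • ρ g) * ρ h =
      ρ h * (∑ g : G, conj (ρ.character g) • ρ g)
    rw [Finset.sum_mul, Finset.mul_sum]
    symm
    apply Fintype.sum_equiv (MulAut.conj h).toEquiv
    intro g
    simp only [MulEquiv.toEquiv_eq_coe, EquivLike.coe_coe, MulAut.conj_apply, char_conj,
      mul_smul_comm, smul_mul_assoc]
    congr 1
    rw [← map_mul, ← map_mul]
    congr 1
    group
  obtain ⟨c, hc⟩ := exists_scalar_of_commute ρ _ hcomm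
  have htr := congrArg (LinearMap.trace ℂ V) hc
  rw [map_sum, map_smul, LinearMap.trace_id, smul_eq_mul] at htr
  have hnorm : Cfsg.classInner ρ.character ρ.character = 1 :=
    classInner_irr_self (isIrrCharacter_of_rep ρ hirr)
  rw [classInner_def] at hnorm
  have hG0 : (Nat.card G : ℂ) ≠ 0 := by
    have : 0 < Nat.card G := Nat.card_pos
    exact_mod_cast this.ne'
  have hsum : ∑ g : G, ρ.character g * conj (ρ.character g) = (Nat.card G : ℂ) := by
    field_simp at hnorm
    exact hnorm
  have htr2 : ∑ g : G, (LinearMap.trace ℂ V) (conj (ρ.character g) • ρ g) = (Nat.card G : ℂ) := by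
    rw [← hsum]
    apply Finset.sum_congr rfl
    intro g _
    rw [map_smul, smul_eq_mul, mul_comm]
    rfl
  rw [htr2] at htr
  rw [hc]
  congr 1
  rw [htr]
  field_simp

/-- The degree of an irreducible representation divides the index of the centre. -/
theorem finrank_dvd_index_center [Finite G] {V : Type v} [AddCommGroup V] [Module ℂ V]
    [FiniteDimensional ℂ V] (ρ : Representation ℂ G V) [hirr : ρ.IsIrreducible] :
    finrank ℂ V ∣ (Subgroup.center G).index := by
  classical
  haveI := Fintype.ofFinite G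
  haveI : Nontrivial V := irr_nontrivial ρ
  have hd : finrank ℂ V ≠ 0 := Module.finrank_pos.ne'
  have hdC : (finrank ℂ V : ℂ) ≠ 0 := by exact_mod_cast hd
  set Z := Subgroup.center G with hZ
  -- central elements act by scalars of absolute value one
  have hscalar : ∀ z : Z, ∃ l : ℂ, ρ (z : G) = l • (LinearMap.id : V →ₗ[ℂ] V) ∧ conj l * l = 1 := by
    intro z
    obtain ⟨l, hl⟩ := exists_scalar_of_commute ρ (ρ (z : G)) (by
      intro g
      change ρ (z : G) * ρ g = ρ g * ρ (z : G)
      rw [← map_mul, ← map_mul]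
      congr 1
      exact (Subgroup.mem_center_iff.mp z.2 g).symm)
    refine ⟨l, hl, ?_⟩
    have hpow : (ρ (z : G)) ^ (Nat.card G) = 1 := by
      rw [← map_pow, pow_card_eq_one', map_one]
    rw [hl] at hpow
    have hl1 : l ^ (Nat.card G) = 1 := by
      have h1 : (l • (LinearMap.id : V →ₗ[ℂ] V)) ^ (Nat.card G) =
          (l ^ (Nat.card G)) • (LinearMap.id : V →ₗ[ℂ] V) := by
        rw [smul_pow]
        congr 1
        exact one_pow _
      rw [h1] at hpow
      obtain ⟨v, hv⟩ := exists_ne (0 : V)
      have h2 := congrArg (fun f : V →ₗ[ℂ] V => f v) hpow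
      simp only [LinearMap.smul_apply, LinearMap.id_coe, id_eq, Module.End.one_apply] at h2
      have h3 : (l ^ (Nat.card G) - 1) • v = 0 := by rw [sub_smul, h2, one_smul, sub_self]
      rcases smul_eq_zero.mp h3 with h4 | h4
      · exact sub_eq_zero.mp h4
      · exact absurd h4 hv
    have hnorm : ‖l‖ = 1 := by
      have hcard : Nat.card G ≠ 0 := Nat.card_pos.ne'
      exact Complex.norm_eq_one_of_pow_eq_one hl1 hcard
    rw [mul_comm, Complex.mul_conj, Complex.normSq_eq_norm_sq, hnorm]
    simp
  choose l hl hl1 using hscalar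
  -- F is constant on cosets of the centre
  have hF : ∀ (g : G) (z : Z), conj (ρ.character (g * z)) • ρ (g * z) =
      conj (ρ.character g) • ρ g := by
    intro g z
    have h1 : ρ (g * (z : G)) = l z • ρ g := by
      rw [map_mul, hl z]
      ext v
      simp
    have h2 : ρ.character (g * z) = l z * ρ.character g := by
      unfold Representation.character
      rw [h1, map_smul, smul_eq_mul]
    rw [h2, h1, map_mul, smul_smul]
    congr 1
    rw [mul_comm (conj (l z)), mul_assoc, hl1 z, mul_one]
  -- the sum over all of G equals |Z| times the sum over representatives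
  have hsum : ∑ g : G, conj (ρ.character g) • ρ g =
      (Nat.card Z : ℂ) • ∑ q : G ⧸ Z, conj (ρ.character q.out) • ρ q.out := by
    rw [← Equiv.sum_comp (quotProdEquiv Z), Fintype.sum_prod_type]
    have : ∀ q : G ⧸ Z, ∑ z : Z, conj (ρ.character (quotProdEquiv Z (q, z))) •
        ρ (quotProdEquiv Z (q, z)) = (Nat.card Z : ℂ) • (conj (ρ.character q.out) • ρ q.out) := by
      intro q
      have : ∀ z : Z, conj (ρ.character (quotProdEquiv Z (q, z))) • ρ (quotProdEquiv Z (q, z)) =
          conj (ρ.character q.out) • ρ q.out := fun z => hF q.out z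
      simp_rw [this]
      rw [Finset.sum_const, Finset.card_univ, ← Nat.card_eq_fintype_card, Nat.cast_smul_eq_nsmul]
    simp_rw [this]
    rw [Finset.smul_sum]
  rw [sum_conj_char_smul_rep] at hsum
  -- integrality of the sum over representatives
  have hint : IsIntegral ℤ (∑ q : G ⧸ Z, conj (ρ.character q.out) • ρ q.out) := by
    have h1 := isIntegral_sum_smul_rep ρ
      ((Finset.univ : Finset (G ⧸ Z)).image (fun q => q.out))
      (fun g => conj (ρ.character g)) (fun g => conj_char_isIntegral ρ g)
    rw [Finset.sum_image] at h1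
    · exact h1
    · intro a _ b _ hab
      have := congrArg (fun x : G => (x : G ⧸ Z)) hab
      simpa using this
  have hZ0 : (Nat.card Z : ℂ) ≠ 0 := by
    have : 0 < Nat.card Z := Nat.card_pos
    exact_mod_cast this.ne'
  have hval : ∑ q : G ⧸ Z, conj (ρ.character q.out) • ρ q.out =
      ((Z.index : ℂ) / (finrank ℂ V : ℂ)) • (LinearMap.id : V →ₗ[ℂ] V) := by
    have h2 : (Nat.card Z : ℂ)⁻¹ • ((Nat.card G : ℂ) / (finrank ℂ V : ℂ)) •
        (LinearMap.id : V →ₗ[ℂ] V) = ∑ q : G ⧸ Z, conj (ρ.character q.out) • ρ q.out := by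
      rw [hsum, smul_smul, inv_mul_cancel₀ hZ0, one_smul]
    rw [← h2, smul_smul]
    congr 1
    rw [← Z.index_mul_card]
    push_cast
    field_simp
  rw [hval] at hint
  have hint2 := isIntegral_of_smul_id _ hint
  apply nat_dvd_of_isIntegral Z.index (finrank ℂ V) hd _ hint2
  field_simp

end Cfsg.Agent.Helper6
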