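import Mathlib
import Cfsg.Prelude.Def_Characters
import Cfsg.Agent.Helper6.CenterDvd
import Cfsg.Agent.Helper6.Regular

/-!
# Frobenius' formula for the number of ways to write an element as a commutator
-/

set_option autoImplicit false
set_option linter.style.haveILetI false

namespace Cfsg.Agent.Helper6

open Module Representation
open scoped ComplexConjugate

universe u v

variable {G : Type u} [Group G]

/-- The sum of `ρ` over the conjugates of `a` (with multiplicity) is a scalar. -/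
theorem sum_conj_rep [Fintype G] {V : Type v} [AddCommGroup V] [Module ℂ V]
    [FiniteDimensional ℂ V] (ρ : Representation ℂ G V) [hirr : ρ.IsIrreducible] (a : G) :
    ∑ b : G, ρ (b * a * b⁻¹) =
      ((Nat.card G : ℂ) * ρ.character a / (finrank ℂ V : ℂ)) • (LinearMap.id : V →ₗ[ℂ] V) := by
  classical
  haveI : Nontrivial V := irr_nontrivial ρ
  have hd : (finrank ℂ V : ℂ) ≠ 0 := by
    have : finrank ℂ V ≠ 0 := Module.finrank_pos.ne'
    exact_mod_cast this
  have hcomm : ∀ h : G, (∑ b : G, ρ (b * a * b⁻¹)) ∘ₗ ρ h = ρ h ∘ₗ (∑ b : G, ρ (b * a * b⁻¹)) := by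
    intro h
    change (∑ b : G, ρ (b * a * b⁻¹)) * ρ h = ρ h * (∑ b : G, ρ (b * a * b⁻¹))
    rw [Finset.sum_mul, Finset.mul_sum]
    symm
    apply Fintype.sum_equiv (Equiv.mulLeft h)
    intro b
    rw [← map_mul, ← map_mul]
    congr 1
    simp only [Equiv.coe_mulLeft, mul_inv_rev]
    group
  obtain ⟨c, hc⟩ := exists_scalar_of_commute ρ _ hcomm
  have htr := congrArg (LinearMap.trace ℂ V) hc
  rw [map_sum, map_smul, LinearMap.trace_id, smul_eq_mul] at htr
  have h1 : ∑ b : G, (LinearMap.trace ℂ V) (ρ (b * a * b⁻¹)) = (Nat.card G : ℂ) * ρ.character a := by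
    have : ∀ b : G, (LinearMap.trace ℂ V) (ρ (b * a * b⁻¹)) = ρ.character a := fun b =>
      char_conj ρ a b
    simp_rw [this]
    rw [Finset.sum_const, Finset.card_univ, nsmul_eq_mul, Nat.card_eq_fintype_card]
  rw [h1] at htr
  rw [hc]
  congr 1
  rw [htr]
  field_simp

/-- Key identity: `∑_{a,b} χ([a,b] x) = (|G|/χ(1))² χ(x)`. -/
theorem sum_char_commutator_mul [Fintype G] {V : Type v} [AddCommGroup V] [Module ℂ V]
    [FiniteDimensional ℂ V] (ρ : Representation ℂ G V) [hirr : ρ.IsIrreducible] (x : G) :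
    ∑ a : G, ∑ b : G, ρ.character (a * b * a⁻¹ * b⁻¹ * x) =
      ((Nat.card G : ℂ) / (finrank ℂ V : ℂ)) ^ 2 * ρ.character x := by
  classical
  haveI : Nontrivial V := irr_nontrivial ρ
  have hd : (finrank ℂ V : ℂ) ≠ 0 := by
    have : finrank ℂ V ≠ 0 := Module.finrank_pos.ne'
    exact_mod_cast this
  -- inner sum
  have hinner : ∀ a : G, ∑ b : G, ρ.character (a * b * a⁻¹ * b⁻¹ * x) =
      ((Nat.card G : ℂ) / (finrank ℂ V : ℂ)) * (ρ.character a⁻¹ * ρ.character (a * x)) := by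
    intro a
    unfold Representation.character
    rw [← map_sum]
    have h1 : ∑ b : G, ρ (a * b * a⁻¹ * b⁻¹ * x) = ρ a * (∑ b : G, ρ (b * a⁻¹ * b⁻¹)) * ρ x := by
      rw [Finset.mul_sum, Finset.sum_mul]
      apply Finset.sum_congr rfl
      intro b _
      rw [← map_mul, ← map_mul]
      congr 1
      group
    rw [h1, sum_conj_rep ρ a⁻¹]
    rw [mul_smul_comm, smul_mul_assoc, map_smul, smul_eq_mul]
    have h2 : ρ a * LinearMap.id * ρ x = ρ (a * x) := by
      rw [map_mul]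
      rfl
    rw [h2]
    unfold Representation.character
    ring
  simp_rw [hinner]
  rw [← Finset.mul_sum]
  -- outer sum
  have houter : ∑ a : G, ρ.character a⁻¹ * ρ.character (a * x) =
      ((Nat.card G : ℂ) / (finrank ℂ V : ℂ)) * ρ.character x := by
    have h1 := sum_conj_char_smul_rep ρ
    have h2 : LinearMap.trace ℂ V ((∑ g : G, conj (ρ.character g) • ρ g) * ρ x) =
        LinearMap.trace ℂ V ((((Nat.card G : ℂ) / (finrank ℂ V : ℂ)) •
          (LinearMap.id : V →ₗ[ℂ] V)) * ρ x) := by rw [h1]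
    rw [Finset.sum_mul, map_sum] at h2
    have h3 : ∀ a : G, (LinearMap.trace ℂ V) (conj (ρ.character a) • ρ a * ρ x) =
        ρ.character a⁻¹ * ρ.character (a * x) := by
      intro a
      rw [smul_mul_assoc, map_smul, smul_eq_mul, char_inv_eq_conj, ← map_mul]
      rfl
    simp_rw [h3] at h2
    rw [h2, smul_mul_assoc, map_smul, smul_eq_mul]
    congr 1
  rw [houter]
  ring

/-- Frobenius' formula for the number of solutions of `[a, b] = g`. -/
theorem card_commutator_eq [Fintype G] [Fintype (Cfsg.IrrCharacter G)] [DecidableEq G] (g : G) :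
    ∑ a : G, ∑ b : G, (if a * b * a⁻¹ * b⁻¹ = g then (1 : ℂ) else 0) =
      (Nat.card G : ℂ) * ∑ χ : Cfsg.IrrCharacter G, (χ : G → ℂ) g⁻¹ / (χ : G → ℂ) 1 := by
  classical
  have hG0 : (Nat.card G : ℂ) ≠ 0 := by
    have : 0 < Nat.card G := Nat.card_pos
    exact_mod_cast this.ne'
  have hind : ∀ a b : G, (if a * b * a⁻¹ * b⁻¹ = g then (1 : ℂ) else 0) =
      (Nat.card G : ℂ)⁻¹ * ∑ χ : Cfsg.IrrCharacter G,
        (χ : G → ℂ) 1 * (χ : G → ℂ) (a * b * a⁻¹ * b⁻¹ * g⁻¹) := by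
    intro a b
    rw [sum_degree_mul_irr]
    have hiff : a * b * a⁻¹ * b⁻¹ * g⁻¹ = 1 ↔ a * b * a⁻¹ * b⁻¹ = g := mul_inv_eq_one
    by_cases h : a * b * a⁻¹ * b⁻¹ = g
    · rw [if_pos h, if_pos (hiff.mpr h), inv_mul_cancel₀ hG0]
    · rw [if_neg h, if_neg (fun h' => h (hiff.mp h')), mul_zero]
  simp_rw [hind]
  simp_rw [← Finset.mul_sum]
  rw [Finset.sum_comm]
  have hχ : ∀ χ : Cfsg.IrrCharacter G, ∑ a : G, ∑ b : G,
      (χ : G → ℂ) 1 * (χ : G → ℂ) (a * b * a⁻¹ * b⁻¹ * g⁻¹) =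
      (Nat.card G : ℂ) ^ 2 * ((χ : G → ℂ) g⁻¹ / (χ : G → ℂ) 1) := by
    intro χ
    obtain ⟨n, ρ, hirr, hρ⟩ := χ.2
    haveI := hirr
    haveI : Nontrivial (Fin n → ℂ) := irr_nontrivial ρ
    have hd : (finrank ℂ (Fin n → ℂ) : ℂ) ≠ 0 := by
      have : finrank ℂ (Fin n → ℂ) ≠ 0 := Module.finrank_pos.ne'
      exact_mod_cast this
    simp_rw [← Finset.mul_sum]
    rw [← hρ, sum_char_commutator_mul ρ g⁻¹, char_one]
    field_simp
  have hswap : ∑ χ : Cfsg.IrrCharacter G, ∑ a : G, ∑ b : G,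
      (χ : G → ℂ) 1 * (χ : G → ℂ) (a * b * a⁻¹ * b⁻¹ * g⁻¹) =
      ∑ a : G, ∑ b : G, ∑ χ : Cfsg.IrrCharacter G,
        (χ : G → ℂ) 1 * (χ : G → ℂ) (a * b * a⁻¹ * b⁻¹ * g⁻¹) := by
    rw [Finset.sum_comm]
    apply Finset.sum_congr rfl
    intro a _
    rw [Finset.sum_comm]
  rw [Finset.sum_comm] 
  rw [← hswap]
  simp_rw [hχ]
  rw [← Finset.mul_sum]
  field_simp

/-- `g` is a commutator iff `∑ χ(g)/χ(1) ≠ 0`. -/
theorem commutator_iff_sum_ne_zero [Finite G] (g : G) :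
    (∃ a b : G, g = a * b * a⁻¹ * b⁻¹) ↔
      ∑ᶠ χ : Cfsg.IrrCharacter G, (χ : G → ℂ) g / (χ : G → ℂ) 1 ≠ 0 := by
  classical
  haveI := Fintype.ofFinite G
  haveI : Finite (Cfsg.IrrCharacter G) := irr_finite
  haveI : Fintype (Cfsg.IrrCharacter G) := Fintype.ofFinite _
  rw [finsum_eq_sum_of_fintype]
  have hG0 : (Nat.card G : ℂ) ≠ 0 := by
    have : 0 < Nat.card G := Nat.card_pos
    exact_mod_cast this.ne'
  have hcount := card_commutator_eq g
  have hconj : ∑ χ : Cfsg.IrrCharacter G, (χ : G → ℂ) g⁻¹ / (χ : G → ℂ) 1 =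
      conj (∑ χ : Cfsg.IrrCharacter G, (χ : G → ℂ) g / (χ : G → ℂ) 1) := by
    rw [map_sum]
    apply Finset.sum_congr rfl
    intro χ _
    rw [map_div₀, IsCharacter.inv_eq_conj (IsIrrCharacter.isCharacter χ.2)]
    congr 1
    obtain ⟨n, hn⟩ := IsCharacter.apply_one (IsIrrCharacter.isCharacter χ.2)
    rw [hn, Complex.conj_natCast]
  rw [hconj] at hcount
  -- the count as a natural number
  have hnat : ∑ a : G, ∑ b : G, (if a * b * a⁻¹ * b⁻¹ = g then (1 : ℂ) else 0) =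
      ((∑ a : G, ∑ b : G, (if a * b * a⁻¹ * b⁻¹ = g then 1 else 0) : ℕ) : ℂ) := by
    push_cast
    rfl
  constructor
  · rintro ⟨a, b, hab⟩ hzero
    rw [hzero, map_zero, mul_zero, hnat] at hcount
    have h0 : (∑ a : G, ∑ b : G, (if a * b * a⁻¹ * b⁻¹ = g then 1 else 0) : ℕ) = 0 := by
      exact_mod_cast hcount
    have h1 := Finset.sum_eq_zero_iff.mp h0 a (Finset.mem_univ _)
    have h2 := Finset.sum_eq_zero_iff.mp h1 b (Finset.mem_univ _)
    rw [if_pos hab.symm] at h2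
    exact one_ne_zero h2
  · intro hne
    by_contra hcon
    push Not at hcon
    have hzero : ∑ a : G, ∑ b : G, (if a * b * a⁻¹ * b⁻¹ = g then (1 : ℂ) else 0) = 0 := by
      apply Finset.sum_eq_zero
      intro a _
      apply Finset.sum_eq_zero
      intro b _
      rw [if_neg (fun h => hcon a b h.symm)]
    rw [hzero] at hcount
    rcases mul_eq_zero.mp hcount.symm with h | h
    · exact hG0 h
    · exact hne ((map_eq_zero (starRingEnd ℂ)).mp h)

end Cfsg.Agent.Helper6
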