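import Mathlib
import Cfsg.Prelude.Def_OddOrderChar

/-!
# Basic consequences of the Dade hypothesis
-/

set_option autoImplicit false
set_option linter.style.haveILetI false

namespace Cfsg.Agent.Helper6

universe u

variable {G : Type u} [Group G]

theorem self_mem_centralizer (a : G) : a ∈ Subgroup.centralizer ({a} : Set G) := by
  rw [Subgroup.mem_centralizer_iff]
  intro h hh
  rw [Set.mem_singleton_iff.mp hh]

theorem pow_eq_self_of_modEq_one (x : G) (m k : ℕ) (hm : m ≡ 1 [MOD k]) (hk : orderOf x ∣ k) :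
    x ^ m = x := by
  have h1 : m ≡ 1 [MOD orderOf x] := hm.of_dvd hk
  have := pow_eq_pow_iff_modEq.mpr h1
  rwa [pow_one] at this

theorem pow_eq_one_of_modEq_zero (x : G) (m k : ℕ) (hm : m ≡ 0 [MOD k]) (hk : orderOf x ∣ k) :
    x ^ m = 1 := by
  have h1 : m ≡ 0 [MOD orderOf x] := hm.of_dvd hk
  have := pow_eq_pow_iff_modEq.mpr h1
  rwa [pow_zero] at this

/-- Under the Dade hypothesis, conjugating `a * u` to `b * v` conjugates `a` to `b`. -/
theorem dade_conj_part [Finite G] (A : Set G) (L : Subgroup G) (H : G → Subgroup G)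
    (hD : Cfsg.DadeHypothesis A L H) (a b : G) (ha : a ∈ A) (hb : b ∈ A)
    (u v g : G) (hu : u ∈ H a) (hv : v ∈ H b) (hg : g * (a * u) * g⁻¹ = b * v) :
    g * a * g⁻¹ = b := by
  have haL : a ∈ L ⊓ Subgroup.centralizer ({a} : Set G) :=
    ⟨hD.subset ha, self_mem_centralizer a⟩
  have hbL : b ∈ L ⊓ Subgroup.centralizer ({b} : Set G) :=
    ⟨hD.subset hb, self_mem_centralizer b⟩
  have hoa := Subgroup.orderOf_dvd_natCard _ haL
  have hob := Subgroup.orderOf_dvd_natCard _ hbL
  have hou := Subgroup.orderOf_dvd_natCard _ hu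
  have hov := Subgroup.orderOf_dvd_natCard _ hv
  have c1 : Nat.Coprime (orderOf u) (orderOf a) :=
    Nat.Coprime.coprime_dvd_left hou (Nat.Coprime.coprime_dvd_right hoa (hD.coprime a ha a ha))
  have c2 : Nat.Coprime (orderOf u) (orderOf b) :=
    Nat.Coprime.coprime_dvd_left hou (Nat.Coprime.coprime_dvd_right hob (hD.coprime a ha b hb))
  have c3 : Nat.Coprime (orderOf v) (orderOf a) :=
    Nat.Coprime.coprime_dvd_left hov (Nat.Coprime.coprime_dvd_right hoa (hD.coprime b hb a ha))
  have c4 : Nat.Coprime (orderOf v) (orderOf b) :=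
    Nat.Coprime.coprime_dvd_left hov (Nat.Coprime.coprime_dvd_right hob (hD.coprime b hb b hb))
  have hcop : Nat.Coprime (orderOf a * orderOf b) (orderOf u * orderOf v) :=
    Nat.Coprime.mul_left (Nat.Coprime.mul_right c1.symm c3.symm)
      (Nat.Coprime.mul_right c2.symm c4.symm)
  obtain ⟨m, hm1, hm0⟩ := Nat.chineseRemainder hcop 1 0
  have hma : a ^ m = a := pow_eq_self_of_modEq_one a m _ hm1 (dvd_mul_right _ _)
  have hmb : b ^ m = b := pow_eq_self_of_modEq_one b m _ hm1 (dvd_mul_left _ _)
  have hmu : u ^ m = 1 := pow_eq_one_of_modEq_zero u m _ hm0 (dvd_mul_right _ _)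
  have hmv : v ^ m = 1 := pow_eq_one_of_modEq_zero v m _ hm0 (dvd_mul_left _ _)
  have hcau : Commute a u := by
    have := hD.le_centralizer a ha hu
    rw [Subgroup.mem_centralizer_iff] at this
    exact this a rfl
  have hcbv : Commute b v := by
    have := hD.le_centralizer b hb hv
    rw [Subgroup.mem_centralizer_iff] at this
    exact this b rfl
  have h1 : (a * u) ^ m = a := by rw [hcau.mul_pow, hma, hmu, mul_one]
  have h2 : (b * v) ^ m = b := by rw [hcbv.mul_pow, hmb, hmv, mul_one]
  rw [← h1, ← conj_pow, hg, h2]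

/-- Under the Dade hypothesis, fusion of the cosets `a H(a)` is controlled by `L`, and the set
normaliser of `a H(a)` is the centraliser of `a`. -/
theorem dade_coset_fusion [Finite G] (A : Set G) (L : Subgroup G) (H : G → Subgroup G)
    (hD : Cfsg.DadeHypothesis A L H) (a b : G) (ha : a ∈ A) (hb : b ∈ A) :
    ((∃ u ∈ H a, ∃ v ∈ H b, ∃ g : G, g * (a * u) * g⁻¹ = b * v) → ∃ x ∈ L, x * a * x⁻¹ = b) ∧
      Subgroup.normalizer ((fun u : G => a * u) '' (H a : Set G)) =
        Subgroup.centralizer ({a} : Set G) := by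
  constructor
  · rintro ⟨u, hu, v, hv, g, hg⟩
    have h1 := dade_conj_part A L H hD a b ha hb u v g hu hv hg
    obtain ⟨x, hx, hxa⟩ := hD.fusion a ha g (by rw [h1]; exact hb)
    exact ⟨x, hx, by rw [hxa, h1]⟩
  · ext g
    rw [Subgroup.mem_set_normalizer_iff]
    constructor
    · intro h
      have h1 : a ∈ (fun u : G => a * u) '' (H a : Set G) := ⟨1, (H a).one_mem, mul_one a⟩
      obtain ⟨u', hu', hau'⟩ := (h a).mp h1
      have h2 := dade_conj_part A L H hD a a ha ha 1 u' g (H a).one_mem hu'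
        (by rw [mul_one]; exact hau'.symm)
      rw [Subgroup.mem_centralizer_iff]
      intro x hx
      rw [Set.mem_singleton_iff.mp hx]
      calc a * g = (g * a * g⁻¹) * g := by rw [h2]
        _ = g * a := by group
    · intro hc n
      have hcomm : ∀ c ∈ Subgroup.centralizer ({a} : Set G), a * c = c * a := by
        intro c hc'
        rw [Subgroup.mem_centralizer_iff] at hc'
        exact hc' a rfl
      have hfwd : ∀ c ∈ Subgroup.centralizer ({a} : Set G), ∀ n,
          n ∈ (fun u : G => a * u) '' (H a : Set G) →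
          c * n * c⁻¹ ∈ (fun u : G => a * u) '' (H a : Set G) := by
        rintro c hc' n ⟨u, hu, rfl⟩
        refine ⟨c * u * c⁻¹, hD.conj_mem_H a ha c hc' u hu, ?_⟩
        simp only
        calc a * (c * u * c⁻¹) = (a * c) * u * c⁻¹ := by group
          _ = (c * a) * u * c⁻¹ := by rw [hcomm c hc']
          _ = c * (a * u) * c⁻¹ := by group
      constructor
      · exact hfwd g hc n
      · intro h
        have := hfwd g⁻¹ ((Subgroup.centralizer ({a} : Set G)).inv_mem hc) _ h
        have h3 : g⁻¹ * (g * n * g⁻¹) * g⁻¹⁻¹ = n := by group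
        rwa [h3] at this


/-- An element whose order is coprime to the index of a normal subgroup lies in it. -/
theorem mem_of_coprime_orderOf_index [Finite G] (N : Subgroup G) [N.Normal] (k : G)
    (hk : Nat.Coprime (orderOf k) N.index) : k ∈ N := by
  have h1 : orderOf (QuotientGroup.mk' N k) ∣ orderOf k := orderOf_map_dvd _ k
  have h2 : orderOf (QuotientGroup.mk' N k) ∣ N.index := by
    rw [Subgroup.index_eq_card]
    exact orderOf_dvd_natCard _
  have h3 : orderOf (QuotientGroup.mk' N k) = 1 := Nat.eq_one_of_dvd_coprimes hk h1 h2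
  rw [orderOf_eq_one_iff] at h3
  exact (QuotientGroup.eq_one_iff k).mp h3

/-- One inclusion of the conjugation-equivariance of the Dade subgroups. -/
theorem dade_map_le [Finite G] (A : Set G) (L : Subgroup G) (H : G → Subgroup G)
    (hD : Cfsg.DadeHypothesis A L H) (a : G) (ha : a ∈ A) (x : G) (hx : x ∈ L) :
    (H a).map (MulAut.conj x).toMonoidHom ≤ H (x * a * x⁻¹) := by
  set b := x * a * x⁻¹ with hb
  have hbA : b ∈ A := hD.conj_mem x hx a ha
  rintro k ⟨u, hu, rfl⟩
  simp only [MulEquiv.coe_toMonoidHom, MulAut.conj_apply]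
  set C : Subgroup G := Subgroup.centralizer ({b} : Set G) with hC
  -- k = x u x⁻¹ centralizes b
  have hkC : x * u * x⁻¹ ∈ C := by
    rw [hC, Subgroup.mem_centralizer_iff]
    intro y hy
    rw [Set.mem_singleton_iff.mp hy, hb]
    have hua := hD.le_centralizer a ha hu
    rw [Subgroup.mem_centralizer_iff] at hua
    have := hua a rfl
    calc x * a * x⁻¹ * (x * u * x⁻¹) = x * (a * u) * x⁻¹ := by group
      _ = x * (u * a) * x⁻¹ := by rw [this]
      _ = x * u * x⁻¹ * (x * a * x⁻¹) := by group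
  set N : Subgroup C := (H b).subgroupOf C with hN
  haveI hNn : N.Normal := by
    constructor
    intro n hn g
    rw [hN, Subgroup.mem_subgroupOf] at hn ⊢
    exact hD.conj_mem_H b hbA g g.2 n hn
  set M : Subgroup C := (L ⊓ C).subgroupOf C with hM
  have hsup : N ⊔ M = ⊤ := by
    have h1 := Subgroup.subgroupOf_sup (A := H b) (A' := L ⊓ C) (B := C)
      (hD.le_centralizer b hbA) inf_le_right
    rw [hN, hM, ← h1]
    have h2 : H b ⊔ (L ⊓ C) = C := hD.sup_eq b hbA
    rw [h2]
    exact Subgroup.subgroupOf_self (H := C)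
  have hinf : N ⊓ M = ⊥ := by
    rw [eq_bot_iff]
    intro y hy
    rw [Subgroup.mem_inf, hN, hM, Subgroup.mem_subgroupOf, Subgroup.mem_subgroupOf] at hy
    have : (y : G) ∈ H b ⊓ (L ⊓ Subgroup.centralizer ({b} : Set G)) := ⟨hy.1, hy.2⟩
    rw [hD.inf_eq_bot b hbA, Subgroup.mem_bot] at this
    rw [Subgroup.mem_bot]
    exact Subtype.ext this
  have hcompl : N.IsComplement' M := by
    apply Subgroup.isComplement'_of_disjoint_and_mul_eq_univ (disjoint_iff.mpr hinf)
    rw [← Subgroup.normal_mul N M, hsup]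
    rfl
  have hidx : N.index = Nat.card M := hcompl.symm.index_eq_card
  have hMcard : Nat.card M = Nat.card ↥(L ⊓ Subgroup.centralizer ({b} : Set G)) := by
    rw [hM]
    exact Nat.card_congr (Subgroup.subgroupOfEquivOfLe inf_le_right).toEquiv
  have hord : orderOf (⟨x * u * x⁻¹, hkC⟩ : C) ∣ Nat.card (H a) := by
    rw [Subgroup.orderOf_mk]
    have : x * u * x⁻¹ = MulAut.conj x u := rfl
    rw [this, MulEquiv.orderOf_eq]
    exact Subgroup.orderOf_dvd_natCard _ hu
  have hcop : Nat.Coprime (orderOf (⟨x * u * x⁻¹, hkC⟩ : C)) N.index := by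
    rw [hidx, hMcard]
    exact Nat.Coprime.coprime_dvd_left hord (hD.coprime a ha b hbA)
  have := mem_of_coprime_orderOf_index N _ hcop
  rw [hN, Subgroup.mem_subgroupOf] at this
  exact this

/-- The Dade subgroups are permuted by conjugation with elements of `L`. -/
theorem dade_map_eq [Finite G] (A : Set G) (L : Subgroup G) (H : G → Subgroup G)
    (hD : Cfsg.DadeHypothesis A L H) (a : G) (ha : a ∈ A) (x : G) (hx : x ∈ L) :
    H (x * a * x⁻¹) = (H a).map (MulAut.conj x).toMonoidHom := by
  apply le_antisymm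
  · have hbA : x * a * x⁻¹ ∈ A := hD.conj_mem x hx a ha
    have h := dade_map_le A L H hD (x * a * x⁻¹) hbA x⁻¹ (L.inv_mem hx)
    have h2 : x⁻¹ * (x * a * x⁻¹) * x⁻¹⁻¹ = a := by group
    rw [h2] at h
    intro y hy
    have h3 := h ⟨y, hy, rfl⟩
    refine ⟨x⁻¹ * y * x, ?_, ?_⟩
    · simpa using h3
    · simp only [MulEquiv.coe_toMonoidHom, MulAut.conj_apply]
      group
  · exact dade_map_le A L H hD a ha x hx

end Cfsg.Agent.Helper6
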