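import Mathlib
import Cfsg.Prelude.Def_OddOrderChar
import Cfsg.Agent.Helper6.DadeBasic
import Cfsg.Agent.Helper6.ClassInner

/-!
# Counting in the Dade set-up
-/

set_option autoImplicit false
set_option linter.style.haveILetI false

namespace Cfsg.Agent.Helper6

open scoped ComplexConjugate

universe u

variable {G : Type u} [Group G]

/-- Under the Dade hypothesis, conjugating `a * u` to `b * v` conjugates `a` to `b` and `u` to
`v`. -/
theorem dade_sep [Finite G] (A : Set G) (L : Subgroup G) (H : G → Subgroup G)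
    (hD : Cfsg.DadeHypothesis A L H) (a b : G) (ha : a ∈ A) (hb : b ∈ A)
    (u v g : G) (hu : u ∈ H a) (hv : v ∈ H b) (hg : g * (a * u) * g⁻¹ = b * v) :
    g * a * g⁻¹ = b ∧ g * u * g⁻¹ = v := by
  have h1 := dade_conj_part A L H hD a b ha hb u v g hu hv hg
  refine ⟨h1, ?_⟩
  have h2 : g * (a * u) * g⁻¹ = (g * a * g⁻¹) * (g * u * g⁻¹) := by group
  rw [h2, h1] at hg
  exact mul_left_cancel hg

/-- The order of the centralizer of an element of `A`. -/
theorem dade_card_centralizer [Finite G] (A : Set G) (L : Subgroup G) (H : G → Subgroup G)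
    (hD : Cfsg.DadeHypothesis A L H) (b : G) (hbA : b ∈ A) :
    Nat.card (Subgroup.centralizer ({b} : Set G)) =
      Nat.card (H b) * Nat.card ↥(L ⊓ Subgroup.centralizer ({b} : Set G)) := by
  set C : Subgroup G := Subgroup.centralizer ({b} : Set G) with hC
  set N : Subgroup C := (H b).subgroupOf C with hN
  haveI hNn : N.Normal := by
    constructor
    intro n hn g
    rw [hN, Subgroup.mem_subgroupOf] at hn ⊢
    exact hD.conj_mem_H b hbA g g.2 n hn
  set M : Subgroup C := (L ⊓ C).subgroupOf C with hM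
  have hsup : N ⊔ M = ⊤ := by
    have h1 := Subgroup.subgroupOf_sup (A := H b) (A' := L ⊓ C) (B := C)
      (hD.le_centralizer b hbA) inf_le_right
    rw [hN, hM, ← h1]
    have h2 : H b ⊔ (L ⊓ C) = C := hD.sup_eq b hbA
    rw [h2]
    exact Subgroup.subgroupOf_self (H := C)
  have hinf : N ⊓ M = ⊥ := by
    rw [eq_bot_iff]
    intro y hy
    rw [Subgroup.mem_inf, hN, hM, Subgroup.mem_subgroupOf, Subgroup.mem_subgroupOf] at hy
    have : (y : G) ∈ H b ⊓ (L ⊓ Subgroup.centralizer ({b} : Set G)) := ⟨hy.1, hy.2⟩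
    rw [hD.inf_eq_bot b hbA, Subgroup.mem_bot] at this
    rw [Subgroup.mem_bot]
    exact Subtype.ext this
  have hcompl : N.IsComplement' M := by
    apply Subgroup.isComplement'_of_disjoint_and_mul_eq_univ (disjoint_iff.mpr hinf)
    rw [← Subgroup.normal_mul N M, hsup]
    rfl
  have h1 := hcompl.card_mul_card
  have hMcard : Nat.card M = Nat.card ↥(L ⊓ Subgroup.centralizer ({b} : Set G)) := by
    rw [hM]
    exact Nat.card_congr (Subgroup.subgroupOfEquivOfLe inf_le_right).toEquiv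
  have hNcard : Nat.card N = Nat.card (H b) := by
    rw [hN]
    exact Nat.card_congr (Subgroup.subgroupOfEquivOfLe (hD.le_centralizer b hbA)).toEquiv
  rw [hMcard, hNcard] at h1
  exact h1.symm

/-- Conjugate Dade subgroups have the same order. -/
theorem dade_card_H_conj [Finite G] (A : Set G) (L : Subgroup G) (H : G → Subgroup G)
    (hD : Cfsg.DadeHypothesis A L H) (a : G) (ha : a ∈ A) (x : G) (hx : x ∈ L) :
    Nat.card (H (x * a * x⁻¹)) = Nat.card (H a) := by
  rw [dade_map_eq A L H hD a ha x hx]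
  exact Subgroup.card_map_of_injective (MulAut.conj x).injective

/-- The number of elements conjugating `a₀ ∈ A` into `A`. -/
theorem dade_card_conj_into [Finite G] (A : Set G) (L : Subgroup G) (H : G → Subgroup G)
    (hD : Cfsg.DadeHypothesis A L H) (a₀ : G) (ha₀ : a₀ ∈ A) :
    Nat.card {y : G // y * a₀ * y⁻¹ ∈ A} = Nat.card L * Nat.card (H a₀) := by
  classical
  set C : Subgroup G := Subgroup.centralizer ({a₀} : Set G) with hC
  have hmemC : ∀ c : G, c ∈ C ↔ c * a₀ = a₀ * c := by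
    intro c
    rw [hC, Subgroup.mem_centralizer_iff]
    constructor
    · intro h
      exact (h a₀ rfl).symm
    · intro h x hx
      rw [Set.mem_singleton_iff.mp hx]
      exact h.symm
  have hfus : ∀ y : {y : G // y * a₀ * y⁻¹ ∈ A}, ∃ l : L,
      (l : G) * a₀ * (l : G)⁻¹ = (y : G) * a₀ * (y : G)⁻¹ := by
    intro y
    obtain ⟨x, hx, hxa⟩ := hD.fusion a₀ ha₀ y y.2
    exact ⟨⟨x, hx⟩, hxa⟩
  choose l₀ hl₀ using hfus
  let P := {p : G × L // p.1 * a₀ * p.1⁻¹ = (p.2 : G) * a₀ * (p.2 : G)⁻¹}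
  have e1 : P ≃ L × C :=
    { toFun := fun p => (p.1.2, ⟨(p.1.2 : G)⁻¹ * p.1.1, by
        rw [hmemC]
        have h := p.2
        calc (p.1.2 : G)⁻¹ * p.1.1 * a₀ = (p.1.2 : G)⁻¹ * (p.1.1 * a₀ * p.1.1⁻¹) * p.1.1 := by group
          _ = (p.1.2 : G)⁻¹ * ((p.1.2 : G) * a₀ * (p.1.2 : G)⁻¹) * p.1.1 := by rw [h]
          _ = a₀ * ((p.1.2 : G)⁻¹ * p.1.1) := by group⟩)
      invFun := fun q => ⟨((q.1 : G) * (q.2 : G), q.1), by
        have h := (hmemC q.2).mp q.2.2
        simp only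
        calc (q.1 : G) * (q.2 : G) * a₀ * ((q.1 : G) * (q.2 : G))⁻¹
            = (q.1 : G) * ((q.2 : G) * a₀) * (q.2 : G)⁻¹ * (q.1 : G)⁻¹ := by group
          _ = (q.1 : G) * (a₀ * (q.2 : G)) * (q.2 : G)⁻¹ * (q.1 : G)⁻¹ := by rw [h]
          _ = (q.1 : G) * a₀ * (q.1 : G)⁻¹ := by group⟩
      left_inv := by
        intro p
        apply Subtype.ext
        apply Prod.ext
        · simp
        · rfl
      right_inv := by
        intro q
        apply Prod.ext
        · rfl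
        · apply Subtype.ext
          simp }
  have e2 : P ≃ {y : G // y * a₀ * y⁻¹ ∈ A} × ↥(L ⊓ C) :=
    { toFun := fun p => (⟨p.1.1, by
          rw [p.2]
          exact hD.conj_mem _ p.1.2.2 a₀ ha₀⟩,
        ⟨((l₀ ⟨p.1.1, by rw [p.2]; exact hD.conj_mem _ p.1.2.2 a₀ ha₀⟩ : L) : G)⁻¹ * (p.1.2 : G), by
          refine Subgroup.mem_inf.mpr ⟨L.mul_mem (L.inv_mem (l₀ _).2) p.1.2.2, ?_⟩
          · rw [hmemC]
            have h1 := hl₀ ⟨p.1.1, by rw [p.2]; exact hD.conj_mem _ p.1.2.2 a₀ ha₀⟩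
            simp only at h1
            have h2 := p.2
            set l := ((l₀ ⟨p.1.1, by rw [p.2]; exact hD.conj_mem _ p.1.2.2 a₀ ha₀⟩ : L) : G)
            have h3 : l * a₀ * l⁻¹ = (p.1.2 : G) * a₀ * (p.1.2 : G)⁻¹ := h1.trans h2
            calc l⁻¹ * (p.1.2 : G) * a₀ = l⁻¹ * ((p.1.2 : G) * a₀ * (p.1.2 : G)⁻¹) * (p.1.2 : G) := by
                  group
              _ = l⁻¹ * (l * a₀ * l⁻¹) * (p.1.2 : G) := by rw [h3]
              _ = a₀ * (l⁻¹ * (p.1.2 : G)) := by group⟩)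
      invFun := fun q => ⟨((q.1 : G), ⟨((l₀ q.1 : L) : G) * (q.2 : G),
          L.mul_mem (l₀ q.1).2 q.2.2.1⟩), by
        have h := (hmemC q.2).mp q.2.2.2
        simp only
        rw [← hl₀ q.1]
        calc ((l₀ q.1 : L) : G) * a₀ * ((l₀ q.1 : L) : G)⁻¹
            = ((l₀ q.1 : L) : G) * (a₀ * (q.2 : G)) * (q.2 : G)⁻¹ * ((l₀ q.1 : L) : G)⁻¹ := by group
          _ = ((l₀ q.1 : L) : G) * ((q.2 : G) * a₀) * (q.2 : G)⁻¹ * ((l₀ q.1 : L) : G)⁻¹ := by
              rw [h]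
          _ = ((l₀ q.1 : L) : G) * (q.2 : G) * a₀ * (((l₀ q.1 : L) : G) * (q.2 : G))⁻¹ := by group⟩
      left_inv := by
        intro p
        apply Subtype.ext
        apply Prod.ext
        · rfl
        · apply Subtype.ext
          simp
      right_inv := by
        intro q
        apply Prod.ext
        · rfl
        · apply Subtype.ext
          simp }
  have h1 : Nat.card P = Nat.card L * Nat.card C := by
    rw [Nat.card_congr e1, Nat.card_prod]
  have h2 : Nat.card P = Nat.card {y : G // y * a₀ * y⁻¹ ∈ A} * Nat.card ↥(L ⊓ C) := by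
    rw [Nat.card_congr e2, Nat.card_prod]
  have h3 := dade_card_centralizer A L H hD a₀ ha₀
  rw [← hC] at h3
  rw [h3, h2] at h1
  have hpos : 0 < Nat.card ↥(L ⊓ C) := Nat.card_pos
  have h4 : Nat.card {y : G // y * a₀ * y⁻¹ ∈ A} * Nat.card ↥(L ⊓ C) =
      (Nat.card L * Nat.card (H a₀)) * Nat.card ↥(L ⊓ C) := by rw [h1]; ring
  exact Nat.eq_of_mul_eq_mul_right hpos h4


end Cfsg.Agent.Helper6

namespace Cfsg.Agent.Helper6

open scoped ComplexConjugate

universe u

variable {G : Type u} [Group G]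

/-- Conjugating into `A` carries Dade subgroups to Dade subgroups. -/
theorem dade_conj_mem_H [Finite G] (A : Set G) (L : Subgroup G) (H : G → Subgroup G)
    (hD : Cfsg.DadeHypothesis A L H) (a₀ u₀ : G) (ha₀ : a₀ ∈ A) (hu₀ : u₀ ∈ H a₀) (y : G)
    (hy : y * a₀ * y⁻¹ ∈ A) :
    y * u₀ * y⁻¹ ∈ H (y * a₀ * y⁻¹) ∧ Nat.card (H (y * a₀ * y⁻¹)) = Nat.card (H a₀) := by
  obtain ⟨l, hl, hla⟩ := hD.fusion a₀ ha₀ y hy
  have hc : l⁻¹ * y ∈ Subgroup.centralizer ({a₀} : Set G) := by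
    rw [Subgroup.mem_centralizer_iff]
    intro x hx
    rw [Set.mem_singleton_iff.mp hx]
    calc a₀ * (l⁻¹ * y) = l⁻¹ * (l * a₀ * l⁻¹) * y := by group
      _ = l⁻¹ * (y * a₀ * y⁻¹) * y := by rw [hla]
      _ = l⁻¹ * y * a₀ := by group
  have h1 := hD.conj_mem_H a₀ ha₀ _ hc u₀ hu₀
  rw [← hla]
  constructor
  · rw [dade_map_eq A L H hD a₀ ha₀ l hl]
    refine ⟨l⁻¹ * y * u₀ * (l⁻¹ * y)⁻¹, h1, ?_⟩
    simp only [MulEquiv.coe_toMonoidHom, MulAut.conj_apply]
    group
  · exact dade_card_H_conj A L H hD a₀ ha₀ l hl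

open Classical in
/-- The inner sum in the Dade fibre count. -/
theorem dade_inner_sum [Fintype G] (A : Set G) (L : Subgroup G) [Fintype L] (H : G → Subgroup G)
    (hD : Cfsg.DadeHypothesis A L H) (a₀ u₀ : G) (ha₀ : a₀ ∈ A) (hu₀ : u₀ ∈ H a₀) (y : G) :
    ∑ a : L, ∑ u : G, (if ((a : G) ∈ A ∧ u ∈ H a ∧ y * (a₀ * u₀) * y⁻¹ = a * u) then
      (Nat.card (H a) : ℂ)⁻¹ else 0) =
      if y * a₀ * y⁻¹ ∈ A then (Nat.card (H a₀) : ℂ)⁻¹ else 0 := by
  by_cases hy : y * a₀ * y⁻¹ ∈ A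
  · rw [if_pos hy]
    obtain ⟨hv, hcard⟩ := dade_conj_mem_H A L H hD a₀ u₀ ha₀ hu₀ y hy
    rw [Finset.sum_eq_single (⟨y * a₀ * y⁻¹, hD.subset hy⟩ : L)]
    · rw [Finset.sum_eq_single (y * u₀ * y⁻¹)]
      · rw [if_pos, hcard]
        refine ⟨hy, hv, ?_⟩
        simp only
        group
      · intro u _ hu
        rw [if_neg]
        rintro ⟨-, hu', h⟩
        apply hu
        exact ((dade_sep A L H hD a₀ _ ha₀ hy u₀ u y hu₀ hu' h).2).symm
      · intro h
        exact absurd (Finset.mem_univ _) h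
    · intro a _ ha
      apply Finset.sum_eq_zero
      intro u _
      rw [if_neg]
      rintro ⟨haA, hu', h⟩
      apply ha
      apply Subtype.ext
      exact ((dade_sep A L H hD a₀ _ ha₀ haA u₀ u y hu₀ hu' h).1).symm
    · intro h
      exact absurd (Finset.mem_univ _) h
  · rw [if_neg hy]
    apply Finset.sum_eq_zero
    intro a _
    apply Finset.sum_eq_zero
    intro u _
    rw [if_neg]
    rintro ⟨haA, hu', h⟩
    apply hy
    rw [(dade_sep A L H hD a₀ _ ha₀ haA u₀ u y hu₀ hu' h).1]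
    exact haA

end Cfsg.Agent.Helper6

namespace Cfsg.Agent.Helper6

open scoped ComplexConjugate

universe u

variable {G : Type u} [Group G]

open Classical in
/-- The weighted fibre count for the Dade support. -/
theorem dade_fibre_count [Fintype G] (A : Set G) (L : Subgroup G) [Fintype L]
    (H : G → Subgroup G) (hD : Cfsg.DadeHypothesis A L H) (g : G) :
    ∑ x : G, ∑ a : L, ∑ u : G, (if ((a : G) ∈ A ∧ u ∈ H a ∧ x * g * x⁻¹ = a * u) then
      (Nat.card (H a) : ℂ)⁻¹ else 0) =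
      if (∃ a ∈ A, ∃ u ∈ H a, ∃ x : G, x * g * x⁻¹ = a * u) then (Nat.card L : ℂ) else 0 := by
  by_cases hDg : ∃ a ∈ A, ∃ u ∈ H a, ∃ x : G, x * g * x⁻¹ = a * u
  · rw [if_pos hDg]
    obtain ⟨a₀, ha₀, u₀, hu₀, x₀, hx₀⟩ := hDg
    rw [← Equiv.sum_comp (Equiv.mulRight x₀)]
    have hstep : ∀ y : G, ∑ a : L, ∑ u : G,
        (if ((a : G) ∈ A ∧ u ∈ H a ∧ (Equiv.mulRight x₀ y) * g * (Equiv.mulRight x₀ y)⁻¹ = a * u)
          then (Nat.card (H a) : ℂ)⁻¹ else 0) =
        if y * a₀ * y⁻¹ ∈ A then (Nat.card (H a₀) : ℂ)⁻¹ else 0 := by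
      intro y
      rw [← dade_inner_sum A L H hD a₀ u₀ ha₀ hu₀ y]
      have he : (Equiv.mulRight x₀ y) * g * (Equiv.mulRight x₀ y)⁻¹ = y * (a₀ * u₀) * y⁻¹ := by
        rw [Equiv.coe_mulRight, ← hx₀]
        group
      simp_rw [he]
    rw [Finset.sum_congr rfl (fun y _ => hstep y)]
    rw [← Finset.sum_filter, Finset.sum_const, nsmul_eq_mul]
    have hcard : (Finset.univ.filter (fun y : G => y * a₀ * y⁻¹ ∈ A)).card =
        Nat.card L * Nat.card (H a₀) := by
      rw [← dade_card_conj_into A L H hD a₀ ha₀, Nat.card_eq_fintype_card, Fintype.card_subtype]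
    rw [hcard]
    have hH0 : (Nat.card (H a₀) : ℂ) ≠ 0 := Nat.cast_ne_zero.mpr Nat.card_pos.ne'
    push_cast
    field_simp
  · rw [if_neg hDg]
    apply Finset.sum_eq_zero
    intro x _
    apply Finset.sum_eq_zero
    intro a _
    apply Finset.sum_eq_zero
    intro u _
    rw [if_neg]
    rintro ⟨haA, hu, h⟩
    exact hDg ⟨a, haA, u, hu, x, h⟩

end Cfsg.Agent.Helper6

namespace Cfsg.Agent.Helper6

open scoped ComplexConjugate

universe u

variable {G : Type u} [Group G]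

open Classical in
/-- The summation formula over the Dade support. -/
theorem dade_sum_formula [Fintype G] (A : Set G) (L : Subgroup G) [Fintype L]
    (H : G → Subgroup G) (hD : Cfsg.DadeHypothesis A L H) (F : G → ℂ)
    (hF : Cfsg.IsClassFunction G F) :
    (Nat.card L : ℂ) * ∑ g : G,
        (if (∃ a ∈ A, ∃ u ∈ H a, ∃ x : G, x * g * x⁻¹ = a * u) then F g else 0) =
      (Nat.card G : ℂ) * ∑ a : L, ∑ u : G,
        (if ((a : G) ∈ A ∧ u ∈ H a) then (Nat.card (H a) : ℂ)⁻¹ * F (a * u) else 0) := by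
  have key : ∀ (x : G) (a : L) (u : G),
      (if ((a : G) ∈ A ∧ u ∈ H a) then (Nat.card (H a) : ℂ)⁻¹ * F (x⁻¹ * (a * u) * x) else 0) =
      ∑ g : G, F g * (if ((a : G) ∈ A ∧ u ∈ H a ∧ x * g * x⁻¹ = a * u) then
        (Nat.card (H a) : ℂ)⁻¹ else 0) := by
    intro x a u
    rw [Finset.sum_eq_single (x⁻¹ * (a * u) * x)]
    · by_cases h : (a : G) ∈ A ∧ u ∈ H a
      · rw [if_pos h, if_pos ⟨h.1, h.2, by group⟩, mul_comm]
      · rw [if_neg h, if_neg (fun h' => h ⟨h'.1, h'.2.1⟩), mul_zero]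
    · intro g _ hg
      rw [if_neg, mul_zero]
      rintro ⟨-, -, h⟩
      apply hg
      rw [← h]
      group
    · intro h
      exact absurd (Finset.mem_univ _) h
  have hT1 : ∑ x : G, ∑ a : L, ∑ u : G,
      (if ((a : G) ∈ A ∧ u ∈ H a) then (Nat.card (H a) : ℂ)⁻¹ * F (x⁻¹ * (a * u) * x) else 0) =
      (Nat.card G : ℂ) * ∑ a : L, ∑ u : G,
        (if ((a : G) ∈ A ∧ u ∈ H a) then (Nat.card (H a) : ℂ)⁻¹ * F (a * u) else 0) := by
    have : ∀ x : G, ∑ a : L, ∑ u : G,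
        (if ((a : G) ∈ A ∧ u ∈ H a) then (Nat.card (H a) : ℂ)⁻¹ * F (x⁻¹ * (a * u) * x) else 0) =
        ∑ a : L, ∑ u : G,
        (if ((a : G) ∈ A ∧ u ∈ H a) then (Nat.card (H a) : ℂ)⁻¹ * F (a * u) else 0) := by
      intro x
      apply Finset.sum_congr rfl
      intro a _
      apply Finset.sum_congr rfl
      intro u _
      have h := hF (a * u) x⁻¹
      rw [inv_inv] at h
      rw [h]
    rw [Finset.sum_congr rfl (fun x _ => this x), Finset.sum_const, Finset.card_univ,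
      nsmul_eq_mul, Nat.card_eq_fintype_card]
  rw [← hT1]
  simp_rw [key]
  -- bring the sum over `g` to the outside
  have hswap : ∑ x : G, ∑ a : L, ∑ u : G, ∑ g : G,
      F g * (if ((a : G) ∈ A ∧ u ∈ H a ∧ x * g * x⁻¹ = a * u) then
        (Nat.card (H a) : ℂ)⁻¹ else 0) =
      ∑ g : G, ∑ x : G, ∑ a : L, ∑ u : G,
      F g * (if ((a : G) ∈ A ∧ u ∈ H a ∧ x * g * x⁻¹ = a * u) then
        (Nat.card (H a) : ℂ)⁻¹ else 0) := by
    symm
    rw [Finset.sum_comm]
    apply Finset.sum_congr rfl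
    intro x _
    rw [Finset.sum_comm]
    apply Finset.sum_congr rfl
    intro a _
    rw [Finset.sum_comm]
  rw [hswap, Finset.mul_sum]
  apply Finset.sum_congr rfl
  intro g _
  simp_rw [← Finset.mul_sum]
  rw [dade_fibre_count A L H hD g]
  by_cases h : ∃ a ∈ A, ∃ u ∈ H a, ∃ x : G, x * g * x⁻¹ = a * u
  · rw [if_pos h, if_pos h, mul_comm]
  · rw [if_neg h, if_neg h, mul_zero, mul_zero]

end Cfsg.Agent.Helper6
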