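import Mathlib
import Cfsg.Prelude.Def_OddOrderChar
import Cfsg.Agent.Helper6.DadeCount

/-!
# The Dade isometry
-/

set_option autoImplicit false
set_option linter.style.haveILetI false

namespace Cfsg.Agent.Helper6

open scoped ComplexConjugate

universe u

variable {G : Type u} [Group G]

open Classical in
theorem finsum_mem_eq_sum_ite {α : Type*} [Fintype α] (s : Set α) (f : α → ℂ) :
    ∑ᶠ i ∈ s, f i = ∑ i : α, if i ∈ s then f i else 0 := by
  rw [finsum_mem_def, finsum_eq_sum_of_fintype]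
  apply Finset.sum_congr rfl
  intro i _
  rw [Set.indicator_apply]

open Classical in
theorem finsum_mem_eq_sum_ite_real {α : Type*} [Fintype α] (s : Set α) (f : α → ℝ) :
    ∑ᶠ i ∈ s, f i = ∑ i : α, if i ∈ s then f i else 0 := by
  rw [finsum_mem_def, finsum_eq_sum_of_fintype]
  apply Finset.sum_congr rfl
  intro i _
  rw [Set.indicator_apply]

/-- The value of the Dade map on the support. -/
theorem dadeIsometry_apply_of_conj [Finite G] (A : Set G) (L : Subgroup G) (H : G → Subgroup G)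
    (hD : Cfsg.DadeHypothesis A L H) (α : L → ℂ) (hα : Cfsg.IsClassFunction L α) (g : G)
    (a : L) (ha : (a : G) ∈ A) (u : G) (hu : u ∈ H a) (x : G) (hx : x * g * x⁻¹ = a * u) :
    Cfsg.dadeIsometry A L H α g = α a := by
  have h : ∃ a : ↥L, (a : G) ∈ A ∧ ∃ x : G, ∃ u ∈ H (a : G), x * g * x⁻¹ = (a : G) * u :=
    ⟨a, ha, x, u, hu, hx⟩
  unfold Cfsg.dadeIsometry
  rw [dif_pos h]
  obtain ⟨ha', x', u', hu', hx'⟩ := Classical.choose_spec h
  set a' := Classical.choose h with ha'def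
  have hconj : (x * x'⁻¹) * ((a' : G) * u') * (x * x'⁻¹)⁻¹ = (a : G) * u := by
    rw [← hx', ← hx]
    group
  have h1 := dade_conj_part A L H hD a' a ha' ha u' u (x * x'⁻¹) hu' hu hconj
  obtain ⟨l, hl, hla⟩ := hD.fusion a' ha' (x * x'⁻¹) (by rw [h1]; exact ha)
  have h2 : a = (⟨l, hl⟩ : L) * a' * (⟨l, hl⟩ : L)⁻¹ := by
    apply Subtype.ext
    simp only [Subgroup.coe_mul, Subgroup.coe_inv]
    rw [hla, h1]
  rw [h2]
  exact (hα a' ⟨l, hl⟩).symm

/-- The Dade map vanishes off the support. -/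
theorem dadeIsometry_apply_of_not (A : Set G) (L : Subgroup G) (H : G → Subgroup G)
    (α : L → ℂ) (g : G)
    (h : ¬ ∃ a ∈ A, ∃ u ∈ H a, ∃ x : G, x * g * x⁻¹ = a * u) :
    Cfsg.dadeIsometry A L H α g = 0 := by
  unfold Cfsg.dadeIsometry
  rw [dif_neg]
  rintro ⟨a, ha, x, u, hu, hx⟩
  exact h ⟨a, ha, u, hu, x, hx⟩

/-- The Dade map takes class functions to class functions. -/
theorem dadeIsometry_isClassFunction [Finite G] (A : Set G) (L : Subgroup G) (H : G → Subgroup G)
    (hD : Cfsg.DadeHypothesis A L H) (α : L → ℂ) (hα : Cfsg.IsClassFunction L α) :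
    Cfsg.IsClassFunction G (Cfsg.dadeIsometry A L H α) := by
  intro g y
  by_cases h : ∃ a ∈ A, ∃ u ∈ H a, ∃ x : G, x * g * x⁻¹ = a * u
  · obtain ⟨a, ha, u, hu, x, hx⟩ := h
    rw [dadeIsometry_apply_of_conj A L H hD α hα g ⟨a, hD.subset ha⟩ ha u hu x hx]
    apply dadeIsometry_apply_of_conj A L H hD α hα (y * g * y⁻¹) ⟨a, hD.subset ha⟩ ha u hu
      (x * y⁻¹)
    rw [← hx]
    group
  · rw [dadeIsometry_apply_of_not A L H α g h]
    apply dadeIsometry_apply_of_not
    rintro ⟨a, ha, u, hu, x, hx⟩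
    apply h
    refine ⟨a, ha, u, hu, x * y, ?_⟩
    rw [← hx]
    group

end Cfsg.Agent.Helper6

namespace Cfsg.Agent.Helper6

open scoped ComplexConjugate

universe u

variable {G : Type u} [Group G]

open Classical in
/-- Inner product of a Dade image with a class function. -/
theorem dade_inner_formula [Fintype G] (A : Set G) (L : Subgroup G) [Fintype L]
    (H : G → Subgroup G) (hD : Cfsg.DadeHypothesis A L H) (α : L → ℂ)
    (hα : Cfsg.IsClassFunction L α) (hαA : ∀ x : L, (x : G) ∉ A → α x = 0)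
    (Φ : G → ℂ) (hΦ : Cfsg.IsClassFunction G Φ) :
    Cfsg.classInner (Cfsg.dadeIsometry A L H α) Φ =
      Cfsg.classInner α (fun a : L => (Nat.card (H a) : ℂ)⁻¹ *
        ∑ u : G, if u ∈ H a then Φ (a * u) else 0) := by
  set F : G → ℂ := fun g => Cfsg.dadeIsometry A L H α g * conj (Φ g) with hF
  have hFcf : Cfsg.IsClassFunction G F := by
    intro g y
    simp only [hF]
    rw [dadeIsometry_isClassFunction A L H hD α hα g y, hΦ g y]
  have hFsupp : ∀ g : G, F g =
      if (∃ a ∈ A, ∃ u ∈ H a, ∃ x : G, x * g * x⁻¹ = a * u) then F g else 0 := by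
    intro g
    by_cases h : ∃ a ∈ A, ∃ u ∈ H a, ∃ x : G, x * g * x⁻¹ = a * u
    · rw [if_pos h]
    · rw [if_neg h]
      simp only [hF]
      rw [dadeIsometry_apply_of_not A L H α g h, zero_mul]
  have hform := dade_sum_formula A L H hD F hFcf
  rw [← Finset.sum_congr rfl (fun g _ => hFsupp g)] at hform
  have hG0 : (Nat.card G : ℂ) ≠ 0 := Nat.cast_ne_zero.mpr Nat.card_pos.ne'
  have hL0 : (Nat.card L : ℂ) ≠ 0 := Nat.cast_ne_zero.mpr Nat.card_pos.ne'
  rw [classInner_def, classInner_def]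
  have hrhs : ∑ a : L, ∑ u : G,
      (if ((a : G) ∈ A ∧ u ∈ H a) then (Nat.card (H a) : ℂ)⁻¹ * F (a * u) else 0) =
      ∑ a : L, α a * conj ((Nat.card (H a) : ℂ)⁻¹ *
        ∑ u : G, if u ∈ H a then Φ (a * u) else 0) := by
    apply Finset.sum_congr rfl
    intro a _
    by_cases ha : (a : G) ∈ A
    · rw [map_mul, map_inv₀, map_natCast, map_sum, Finset.mul_sum, Finset.mul_sum]
      apply Finset.sum_congr rfl
      intro u _
      by_cases hu : u ∈ H a
      · rw [if_pos ⟨ha, hu⟩, if_pos hu]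
        simp only [hF]
        rw [dadeIsometry_apply_of_conj A L H hD α hα ((a : G) * u) a ha u hu 1 (by group)]
        ring
      · rw [if_neg (fun h => hu h.2), if_neg hu, map_zero, mul_zero, mul_zero]
    · rw [hαA a ha, zero_mul]
      apply Finset.sum_eq_zero
      intro u _
      rw [if_neg (fun h => ha h.1)]
  rw [hrhs] at hform
  have h1 : ∑ g : G, Cfsg.dadeIsometry A L H α g * conj (Φ g) = ∑ g : G, F g := rfl
  rw [h1]
  generalize (∑ g : G, F g) = X at hform ⊢
  generalize (∑ a : L, α a * conj ((Nat.card (H a) : ℂ)⁻¹ *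
        ∑ u : G, if u ∈ H a then Φ (a * u) else 0)) = S at hform ⊢
  field_simp
  linear_combination hform

end Cfsg.Agent.Helper6
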