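import Mathlib
import Cfsg.Prelude.Def_Characters
import Cfsg.Prelude.Def_Blocks
import Cfsg.Agent.Helper6.IndFun
import Cfsg.Agent.Helper6.ColumnOrth
import Cfsg.Agent.Helper6.CentralChar
import Cfsg.Agent.Helper6.Degrees

/-!
# Basic facts on the local ideal and on induced central characters
-/

set_option autoImplicit false

namespace Cfsg.Agent.Helper6

open scoped ComplexConjugate

universe u

theorem memLocalIdeal_zero {M : Ideal Cfsg.AlgInt} (hM : M.IsMaximal) : Cfsg.MemLocalIdeal M 0 := by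
  refine ⟨0, 1, M.zero_mem, ?_, by simp⟩
  intro h
  exact hM.ne_top ((Ideal.eq_top_iff_one M).mpr h)

theorem algInt_coe_ne_zero {M : Ideal Cfsg.AlgInt} {b : Cfsg.AlgInt} (hb : b ∉ M) :
    (b : ℂ) ≠ 0 := by
  intro h
  apply hb
  have : b = 0 := Subtype.ext h
  rw [this]
  exact M.zero_mem

theorem MemLocalIdeal.add {M : Ideal Cfsg.AlgInt} (hM : M.IsMaximal) {x y : ℂ}
    (hx : Cfsg.MemLocalIdeal M x) (hy : Cfsg.MemLocalIdeal M y) : Cfsg.MemLocalIdeal M (x + y) := by
  obtain ⟨a₁, b₁, ha₁, hb₁, rfl⟩ := hx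
  obtain ⟨a₂, b₂, ha₂, hb₂, rfl⟩ := hy
  have hprime : M.IsPrime := hM.isPrime
  refine ⟨a₁ * b₂ + a₂ * b₁, b₁ * b₂, ?_, ?_, ?_⟩
  · exact M.add_mem (M.mul_mem_right _ ha₁) (M.mul_mem_right _ ha₂)
  · intro h
    rcases hprime.mem_or_mem h with h | h
    · exact hb₁ h
    · exact hb₂ h
  · have h1 := algInt_coe_ne_zero hb₁
    have h2 := algInt_coe_ne_zero hb₂
    push_cast
    field_simp

theorem MemLocalIdeal.neg {M : Ideal Cfsg.AlgInt} {x : ℂ}
    (hx : Cfsg.MemLocalIdeal M x) : Cfsg.MemLocalIdeal M (-x) := by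
  obtain ⟨a, b, ha, hb, rfl⟩ := hx
  refine ⟨-a, b, M.neg_mem ha, hb, ?_⟩
  push_cast
  ring

theorem MemLocalIdeal.sub {M : Ideal Cfsg.AlgInt} (hM : M.IsMaximal) {x y : ℂ}
    (hx : Cfsg.MemLocalIdeal M x) (hy : Cfsg.MemLocalIdeal M y) : Cfsg.MemLocalIdeal M (x - y) := by
  rw [sub_eq_add_neg]
  exact MemLocalIdeal.add hM hx (MemLocalIdeal.neg hy)

theorem MemLocalIdeal.sum {M : Ideal Cfsg.AlgInt} (hM : M.IsMaximal) {ι : Type*} (s : Finset ι)
    (f : ι → ℂ) (h : ∀ i ∈ s, Cfsg.MemLocalIdeal M (f i)) :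
    Cfsg.MemLocalIdeal M (∑ i ∈ s, f i) := by
  classical
  induction s using Finset.induction_on with
  | empty => rw [Finset.sum_empty]; exact memLocalIdeal_zero hM
  | insert a s ha ih =>
    rw [Finset.sum_insert ha]
    exact MemLocalIdeal.add hM (h a (Finset.mem_insert_self a s))
      (ih (fun i hi => h i (Finset.mem_insert_of_mem hi)))

variable {G : Type u} [Group G]

/-- A sum of a class function over a conjugation-closed finset lies in an additively closed set as
soon as the class-size multiples do. -/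
theorem sum_mem_of_conj_closed [Fintype G] (J : ℂ → Prop) (h0 : J 0)
    (hadd : ∀ x y, J x → J y → J (x + y)) (d : G → ℂ) (hd : Cfsg.IsClassFunction G d)
    (hJ : ∀ g : G, J (((Subgroup.centralizer ({g} : Set G)).index : ℂ) * d g)) :
    ∀ (n : ℕ) (T : Finset G), T.card = n → (∀ g ∈ T, ∀ x : G, x * g * x⁻¹ ∈ T) →
      J (∑ g ∈ T, d g) := by
  classical
  intro n
  induction n using Nat.strong_induction_on with
  | _ n ih =>
  intro T hT hclosed
  by_cases hemp : T = ∅
  · rw [hemp, Finset.sum_empty]; exact h0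
  obtain ⟨g₀, hg₀⟩ := Finset.nonempty_iff_ne_empty.mpr hemp
  have hsub : classFinset g₀ ⊆ T := by
    intro x hx
    rw [mem_classFinset] at hx
    obtain ⟨c, hc⟩ := isConj_iff.mp hx
    rw [← hc]
    exact hclosed g₀ hg₀ c
  have hsplit : ∑ g ∈ T, d g = ∑ g ∈ classFinset g₀, d g + ∑ g ∈ T \ classFinset g₀, d g := by
    rw [← Finset.sum_union (Finset.disjoint_sdiff), Finset.union_sdiff_of_subset hsub]
  have hclass : ∑ g ∈ classFinset g₀, d g =
      ((Subgroup.centralizer ({g₀} : Set G)).index : ℂ) * d g₀ := by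
    rw [← card_classFinset, ← nsmul_eq_mul, ← Finset.sum_const]
    apply Finset.sum_congr rfl
    intro x hx
    rw [mem_classFinset] at hx
    obtain ⟨c, hc⟩ := isConj_iff.mp hx
    rw [← hc, hd g₀ c]
  rw [hsplit, hclass]
  apply hadd _ _ (hJ g₀)
  have hcard : (T \ classFinset g₀).card < n := by
    rw [← hT]
    apply Finset.card_lt_card
    refine ⟨Finset.sdiff_subset, ?_⟩
    intro h
    have h1 : g₀ ∈ T \ classFinset g₀ := h hg₀
    rw [Finset.mem_sdiff, mem_classFinset] at h1
    exact h1.2 (IsConj.refl g₀)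
  apply ih _ hcard _ rfl
  intro g hg x
  rw [Finset.mem_sdiff] at hg ⊢
  refine ⟨hclosed g hg.1 x, ?_⟩
  intro h
  apply hg.2
  rw [mem_classFinset] at h ⊢
  exact h.trans (isConj_iff.mpr ⟨x⁻¹, by group⟩)

theorem inducedCentralChar_eq_sum (H : Subgroup G) [Fintype H] [DecidableRel (IsConj (α := G))]
    (ξ : H → ℂ) (g : G) :
    Cfsg.inducedCentralChar H ξ g =
      ∑ h ∈ Finset.univ.filter (fun h : H => IsConj g (h : G)), ξ h / ξ 1 := by
  unfold Cfsg.inducedCentralChar
  apply finsum_mem_eq_sum_of_subset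
  · intro h hh
    simp only [Finset.coe_filter, Finset.mem_univ, true_and, Set.mem_ofPred_eq]
    exact hh.1
  · intro h hh
    simpa using hh

/-- value of an induced function as a sum over the part of the class inside `H` -/
theorem indFun_apply_eq_sum_class [Fintype G] (H : Subgroup G) [Fintype H]
    [DecidableRel (IsConj (α := G))] (ξ : H → ℂ) (g : G) :
    Cfsg.indFun H ξ g = (Nat.card G : ℂ) * ((Subgroup.centralizer ({g} : Set G)).index : ℂ)⁻¹ *
      (Nat.card H : ℂ)⁻¹ * ∑ h ∈ Finset.univ.filter (fun h : H => IsConj g (h : G)), ξ h := by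
  have hG0 : (Nat.card G : ℂ) ≠ 0 := by
    have : 0 < Nat.card G := Nat.card_pos
    exact_mod_cast this.ne'
  have hK0 : ((Subgroup.centralizer ({g} : Set G)).index : ℂ) ≠ 0 := by
    have : (Subgroup.centralizer ({g} : Set G)).index ≠ 0 := Subgroup.index_ne_zero_of_finite
    exact_mod_cast this
  have h1 := frobenius_reciprocity H ξ (classIndicator g) (classIndicator_isClassFunction g)
  rw [classInner_conj_symm, classInner_classIndicator g _ (indFun_isClassFunction H ξ)] at h1
  rw [classInner_def] at h1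
  have h2 : ∑ h : H, ξ h * conj (classIndicator g (h : G)) =
      ∑ h ∈ Finset.univ.filter (fun h : H => IsConj g (h : G)), ξ h := by
    rw [Finset.sum_filter]
    apply Finset.sum_congr rfl
    intro h _
    rw [classIndicator_apply]
    split_ifs <;> simp
  rw [h2, ← index_centralizer_eq_card_conj] at h1
  simp only [map_mul, map_inv₀, map_natCast, Complex.conj_conj] at h1
  have h3 : Cfsg.indFun H ξ g = (Nat.card G : ℂ) *
      ((Subgroup.centralizer ({g} : Set G)).index : ℂ)⁻¹ *
      ((Nat.card G : ℂ)⁻¹ * (((Subgroup.centralizer ({g} : Set G)).index : ℂ) *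
        Cfsg.indFun H ξ g)) := by
    field_simp
  rw [h3, h1]
  ring

theorem centralChar_indFun [Fintype G] (H : Subgroup G) [Fintype H]
    [DecidableRel (IsConj (α := G))] (ξ : H → ℂ) (hξ : ξ 1 ≠ 0) (g : G) :
    Cfsg.centralChar (Cfsg.indFun H ξ) g =
      ∑ h ∈ Finset.univ.filter (fun h : H => IsConj g (h : G)), ξ h / ξ 1 := by
  have hG0 : (Nat.card G : ℂ) ≠ 0 := by
    have : 0 < Nat.card G := Nat.card_pos
    exact_mod_cast this.ne'
  have hH0 : (Nat.card H : ℂ) ≠ 0 := by
    have : 0 < Nat.card H := Nat.card_pos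
    exact_mod_cast this.ne'
  have hK0 : ((Subgroup.centralizer ({g} : Set G)).index : ℂ) ≠ 0 := by
    have : (Subgroup.centralizer ({g} : Set G)).index ≠ 0 := Subgroup.index_ne_zero_of_finite
    exact_mod_cast this
  have hI0 : (H.index : ℂ) ≠ 0 := by
    have : H.index ≠ 0 := Subgroup.index_ne_zero_of_finite
    exact_mod_cast this
  unfold Cfsg.centralChar
  rw [indFun_apply_eq_sum_class, indFun_apply_one, ← Finset.sum_div]
  have hcard : (Nat.card G : ℂ) = (Nat.card H : ℂ) * (H.index : ℂ) := by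
    rw [← H.card_mul_index]; push_cast; ring
  rw [hcard]
  field_simp

end Cfsg.Agent.Helper6
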