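import Mathlib
import Cfsg.Prelude.Def_Characters
import Cfsg.Prelude.Def_Blocks
import Cfsg.Agent.Helper6.BlockBasic

/-!
# Integers in a maximal ideal of the algebraic integers
-/

set_option autoImplicit false

namespace Cfsg.Agent.Helper6

theorem natCast_mem_of_dvd {M : Ideal Cfsg.AlgInt} {p n : ℕ} (hp : (p : Cfsg.AlgInt) ∈ M)
    (h : p ∣ n) : (n : Cfsg.AlgInt) ∈ M := by
  obtain ⟨k, rfl⟩ := h
  rw [Nat.cast_mul]
  exact M.mul_mem_right _ hp

theorem natCast_not_mem_of_not_dvd {M : Ideal Cfsg.AlgInt} (hM : M.IsMaximal) {p n : ℕ}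
    (hpp : p.Prime) (hp : (p : Cfsg.AlgInt) ∈ M) (h : ¬ p ∣ n) : (n : Cfsg.AlgInt) ∉ M := by
  intro hn
  have hcop : Nat.Coprime p n := (Nat.Prime.coprime_iff_not_dvd hpp).mpr h
  have hZ : IsCoprime (p : ℤ) (n : ℤ) := Nat.isCoprime_iff_coprime.mpr hcop
  obtain ⟨a, b, hab⟩ := hZ
  have h1 : (1 : Cfsg.AlgInt) = (a : Cfsg.AlgInt) * (p : Cfsg.AlgInt) + (b : Cfsg.AlgInt) * (n : Cfsg.AlgInt) := by
    have := congrArg (fun z : ℤ => (z : Cfsg.AlgInt)) hab
    simp only [Int.cast_add, Int.cast_mul, Int.cast_natCast, Int.cast_one] at this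
    exact this.symm
  have h2 : (1 : Cfsg.AlgInt) ∈ M := by
    rw [h1]
    exact M.add_mem (M.mul_mem_left _ hp) (M.mul_mem_left _ hn)
  exact hM.ne_top ((Ideal.eq_top_iff_one M).mpr h2)

/-- an algebraic integer in `M` lies in the local ideal -/
theorem memLocalIdeal_of_mem {M : Ideal Cfsg.AlgInt} (hM : M.IsMaximal) {a : Cfsg.AlgInt}
    (ha : a ∈ M) : Cfsg.MemLocalIdeal M (a : ℂ) := by
  refine ⟨a, 1, ha, ?_, by simp⟩
  intro h
  exact hM.ne_top ((Ideal.eq_top_iff_one M).mpr h)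

end Cfsg.Agent.Helper6

namespace Cfsg.Agent.Helper6

open scoped Pointwise

/-- If the class of `g` has size prime to `p`, some conjugate of `g` centralises the given Sylow
`p`-subgroup. -/
theorem exists_conj_mem_centralizer_sylow {G : Type*} [Group G] [Finite G] (p : ℕ) [Fact p.Prime]
    (P : Sylow p G) (g : G) (hpK : ¬ p ∣ (Subgroup.centralizer ({g} : Set G)).index) :
    ∃ x : G, x * g * x⁻¹ ∈ Subgroup.centralizer ((P : Subgroup G) : Set G) := by
  classical
  set C := Subgroup.centralizer ({g} : Set G) with hC'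
  obtain ⟨S⟩ : Nonempty (Sylow p C) := inferInstance
  set Q : Subgroup G := (S : Subgroup C).map C.subtype with hQ
  have hQcard : Nat.card Q = p ^ (Nat.card G).factorization p := by
    have h1 : Nat.card Q = Nat.card (S : Subgroup C) :=
      Subgroup.card_map_of_injective C.subtype_injective
    rw [h1, S.card_eq_multiplicity]
    congr 1
    have h2 : Nat.card G = Nat.card C * C.index := (C.card_mul_index).symm
    rw [h2, Nat.factorization_mul Nat.card_pos.ne' (Subgroup.index_ne_zero_of_finite)]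
    simp only [Finsupp.coe_add, Pi.add_apply]
    rw [Nat.factorization_eq_zero_of_not_dvd hpK, add_zero]
  obtain ⟨x, hx⟩ := MulAction.exists_smul_eq G (Sylow.ofCard Q hQcard) P
  have hPQ : (P : Subgroup G) = MulAut.conj x • Q := by
    rw [← hx, Sylow.coe_subgroup_smul, Sylow.coe_ofCard]
  refine ⟨x, ?_⟩
  rw [Subgroup.mem_centralizer_iff]
  intro u hu
  have hu' : u ∈ MulAut.conj x • Q := by rw [← hPQ]; exact hu
  obtain ⟨q, hq, hqu⟩ := (Subgroup.mem_smul_pointwise_iff_exists _ _ _).mp hu'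
  obtain ⟨c, -, rfl⟩ := hq
  have hcg : g * (c : G) = (c : G) * g := by
    have := c.2
    rw [Subgroup.mem_centralizer_iff] at this
    exact this g rfl
  rw [← hqu, MulAut.smul_def, MulAut.conj_apply]
  simp only [Subgroup.coe_subtype]
  calc x * (c : G) * x⁻¹ * (x * g * x⁻¹) = x * ((c : G) * g) * x⁻¹ := by group
    _ = x * (g * (c : G)) * x⁻¹ := by rw [hcg]
    _ = x * g * x⁻¹ * (x * (c : G) * x⁻¹) := by group

end Cfsg.Agent.Helper6
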