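import Mathlib
import Cfsg.Prelude.Def_Characters
import Cfsg.Prelude.Def_Blocks
import Cfsg.Agent.Helper6.BlockBasic
import Cfsg.Agent.Helper6.BlockBasic2
import Cfsg.Agent.Helper6.DadeIso
import Cfsg.Agent.Helper6.IrrBasis
import Cfsg.Agent.Helper6.IrrDegree

/-!
# Sets of irreducible characters with local idempotent coefficients are unions of blocks
-/

set_option autoImplicit false
set_option linter.style.haveILetI false

namespace Cfsg.Agent.Helper6

open scoped ComplexConjugate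

universe u

variable {G : Type u} [Group G]

theorem MemLocalIdeal.mul_left {M : Ideal Cfsg.AlgInt} (hM : M.IsMaximal) {s x : ℂ}
    (hs : Cfsg.MemLocalRing M s) (hx : Cfsg.MemLocalIdeal M x) :
    Cfsg.MemLocalIdeal M (s * x) := by
  obtain ⟨a, b, hb, rfl⟩ := hs
  obtain ⟨a', b', ha', hb', rfl⟩ := hx
  have hprime : M.IsPrime := hM.isPrime
  refine ⟨a * a', b * b', M.mul_mem_left _ ha', ?_, ?_⟩
  · intro h
    rcases hprime.mem_or_mem h with h | h
    · exact hb h
    · exact hb' h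
  · have hb0 := algInt_coe_ne_zero hb
    have hb'0 := algInt_coe_ne_zero hb'
    push_cast
    field_simp

theorem not_memLocalIdeal_one {M : Ideal Cfsg.AlgInt} : ¬ Cfsg.MemLocalIdeal M 1 := by
  rintro ⟨a, b, ha, hb, h⟩
  have hb0 := algInt_coe_ne_zero hb
  rw [div_eq_one_iff_eq hb0] at h
  have : a = b := Subtype.ext h
  rw [this] at ha
  exact hb ha

/-- The idempotent coefficient function of a set of characters is a class function. -/
theorem blockCoeff_isClassFunction [Finite G] (A : Set (Cfsg.IrrCharacter G)) :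
    Cfsg.IsClassFunction G (Cfsg.blockCoeff A) := by
  intro g h
  unfold Cfsg.blockCoeff
  congr 1
  apply finsum_congr
  intro ψ
  apply finsum_congr
  intro _
  rw [IsCharacter.isClassFunction (IsIrrCharacter.isCharacter ψ.2) g h]

/-- `∑_g f_A(g) θ(g) = θ(1)` or `0` according as `θ ∈ A` or not. -/
theorem sum_blockCoeff_mul [Fintype G] (A : Set (Cfsg.IrrCharacter G))
    (θ : Cfsg.IrrCharacter G) [Decidable (θ ∈ A)] :
    ∑ g : G, Cfsg.blockCoeff A g * (θ : G → ℂ) g = if θ ∈ A then (θ : G → ℂ) 1 else 0 := by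
  classical
  haveI : Finite (Cfsg.IrrCharacter G) := irr_finite
  haveI : Fintype (Cfsg.IrrCharacter G) := Fintype.ofFinite _
  unfold Cfsg.blockCoeff
  simp_rw [finsum_mem_eq_sum_ite]
  have h1 : ∀ g : G, (Nat.card G : ℂ)⁻¹ *
      (∑ ψ : Cfsg.IrrCharacter G, if ψ ∈ A then (ψ : G → ℂ) 1 * conj ((ψ : G → ℂ) g) else 0) *
        (θ : G → ℂ) g =
      ∑ ψ : Cfsg.IrrCharacter G, if ψ ∈ A then (ψ : G → ℂ) 1 *
        ((Nat.card G : ℂ)⁻¹ * ((θ : G → ℂ) g * conj ((ψ : G → ℂ) g))) else 0 := by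
    intro g
    rw [Finset.mul_sum, Finset.sum_mul]
    apply Finset.sum_congr rfl
    intro ψ _
    by_cases hψ : ψ ∈ A
    · rw [if_pos hψ, if_pos hψ]
      ring
    · rw [if_neg hψ, if_neg hψ, mul_zero, zero_mul]
  simp_rw [h1]
  rw [Finset.sum_comm]
  have h2 : ∀ ψ : Cfsg.IrrCharacter G,
      (∑ g : G, if ψ ∈ A then (ψ : G → ℂ) 1 *
        ((Nat.card G : ℂ)⁻¹ * ((θ : G → ℂ) g * conj ((ψ : G → ℂ) g))) else 0) =
      if ψ ∈ A then (ψ : G → ℂ) 1 * Cfsg.classInner (θ : G → ℂ) (ψ : G → ℂ) else 0 := by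
    intro ψ
    by_cases hψ : ψ ∈ A
    · simp only [if_pos hψ]
      rw [classInner_def, ← Finset.mul_sum, ← Finset.mul_sum]
    · simp only [if_neg hψ]
      exact Finset.sum_const_zero
  simp_rw [h2]
  rw [Finset.sum_eq_single θ]
  · by_cases hθ : θ ∈ A
    · rw [if_pos hθ, if_pos hθ, classInner_irr_self θ.2, mul_one]
    · rw [if_neg hθ, if_neg hθ]
  · intro ψ _ hne
    by_cases hψ : ψ ∈ A
    · rw [if_pos hψ, classInner_irr_ne θ.2 ψ.2, mul_zero]
      intro h
      exact hne (Subtype.ext h.symm)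
    · rw [if_neg hψ]
  · intro h
    exact absurd (Finset.mem_univ _) h

/-- A set of irreducible characters whose idempotent coefficients are local integers is a union
of blocks. -/
theorem block_subset_of_local [Finite G] (M : Ideal Cfsg.AlgInt) (hM : M.IsMaximal)
    (A : Set (Cfsg.IrrCharacter G)) (hA : ∀ g : G, Cfsg.MemLocalRing M (Cfsg.blockCoeff A g))
    (χ : Cfsg.IrrCharacter G) (hχ : χ ∈ A) : Cfsg.blockOf M (χ : G → ℂ) ⊆ A := by
  classical
  haveI := Fintype.ofFinite G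
  intro ψ hψ
  by_contra hψA
  have hsame : ∀ g : G, Cfsg.MemLocalIdeal M
      (Cfsg.centralChar (χ : G → ℂ) g - Cfsg.centralChar (ψ : G → ℂ) g) := hψ
  have hχ1 : (χ : G → ℂ) 1 ≠ 0 := IsIrrCharacter.apply_one_ne_zero χ.2
  have hψ1 : (ψ : G → ℂ) 1 ≠ 0 := IsIrrCharacter.apply_one_ne_zero ψ.2
  have hχcf := IsCharacter.isClassFunction (IsIrrCharacter.isCharacter χ.2)
  have hψcf := IsCharacter.isClassFunction (IsIrrCharacter.isCharacter ψ.2)
  have hAcf := blockCoeff_isClassFunction A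
  set d : G → ℂ := fun g => Cfsg.blockCoeff A g *
    ((χ : G → ℂ) g / (χ : G → ℂ) 1 - (ψ : G → ℂ) g / (ψ : G → ℂ) 1) with hd
  have hdcf : Cfsg.IsClassFunction G d := by
    intro g h
    simp only [hd]
    rw [hAcf g h, hχcf g h, hψcf g h]
  have hsum : ∑ g : G, d g = 1 := by
    have e1 := sum_blockCoeff_mul A χ
    have e2 := sum_blockCoeff_mul A ψ
    rw [if_pos hχ] at e1
    rw [if_neg hψA] at e2
    have : ∑ g : G, d g = (∑ g : G, Cfsg.blockCoeff A g * (χ : G → ℂ) g) / (χ : G → ℂ) 1 -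
        (∑ g : G, Cfsg.blockCoeff A g * (ψ : G → ℂ) g) / (ψ : G → ℂ) 1 := by
      rw [Finset.sum_div, Finset.sum_div, ← Finset.sum_sub_distrib]
      apply Finset.sum_congr rfl
      intro g _
      simp only [hd]
      ring
    rw [this, e1, e2, div_self hχ1, zero_div, sub_zero]
  have hJ : Cfsg.MemLocalIdeal M (∑ g ∈ (Finset.univ : Finset G), d g) := by
    apply sum_mem_of_conj_closed (fun z => Cfsg.MemLocalIdeal M z) (memLocalIdeal_zero hM)
      (fun x y hx hy => MemLocalIdeal.add hM hx hy) d hdcf _ _ Finset.univ rfl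
      (fun g _ x => Finset.mem_univ _)
    intro g
    have : ((Subgroup.centralizer ({g} : Set G)).index : ℂ) * d g =
        Cfsg.blockCoeff A g *
          (Cfsg.centralChar (χ : G → ℂ) g - Cfsg.centralChar (ψ : G → ℂ) g) := by
      simp only [hd]
      unfold Cfsg.centralChar
      ring
    rw [this]
    exact MemLocalIdeal.mul_left hM (hA g) (hsame g)
  rw [hsum] at hJ
  exact not_memLocalIdeal_one hJ

end Cfsg.Agent.Helper6
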