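import Mathlib
import Cfsg.Prelude.Def_Characters
import Cfsg.Prelude.Def_Blocks
import Cfsg.Agent.Helper6.BlockUnion
import Cfsg.Agent.Helper6.Regular

/-!
# Osima's theorem: local ring arithmetic and the multiplier algebra
-/

set_option autoImplicit false
set_option linter.style.haveILetI false

namespace Cfsg.Agent.Helper6

open scoped ComplexConjugate
open Module

universe u v

variable {G : Type u} [Group G]

section LocalRing

variable {M : Ideal Cfsg.AlgInt}

theorem memLocalRing_of_isIntegral (hM : M.IsMaximal) {z : ℂ} (hz : IsIntegral ℤ z) :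
    Cfsg.MemLocalRing M z := by
  refine ⟨⟨z, hz⟩, 1, ?_, by simp⟩
  intro h
  exact hM.ne_top ((Ideal.eq_top_iff_one M).mpr h)

theorem MemLocalRing.add (hM : M.IsMaximal) {x y : ℂ} (hx : Cfsg.MemLocalRing M x)
    (hy : Cfsg.MemLocalRing M y) : Cfsg.MemLocalRing M (x + y) := by
  obtain ⟨a, b, hb, rfl⟩ := hx
  obtain ⟨a', b', hb', rfl⟩ := hy
  have hprime : M.IsPrime := hM.isPrime
  refine ⟨a * b' + a' * b, b * b', ?_, ?_⟩
  · intro h
    rcases hprime.mem_or_mem h with h | h
    · exact hb h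
    · exact hb' h
  · have hb0 := algInt_coe_ne_zero hb
    have hb'0 := algInt_coe_ne_zero hb'
    push_cast
    field_simp

theorem MemLocalRing.mul (hM : M.IsMaximal) {x y : ℂ} (hx : Cfsg.MemLocalRing M x)
    (hy : Cfsg.MemLocalRing M y) : Cfsg.MemLocalRing M (x * y) := by
  obtain ⟨a, b, hb, rfl⟩ := hx
  obtain ⟨a', b', hb', rfl⟩ := hy
  have hprime : M.IsPrime := hM.isPrime
  refine ⟨a * a', b * b', ?_, ?_⟩
  · intro h
    rcases hprime.mem_or_mem h with h | h
    · exact hb h
    · exact hb' h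
  · have hb0 := algInt_coe_ne_zero hb
    have hb'0 := algInt_coe_ne_zero hb'
    push_cast
    field_simp

theorem MemLocalRing.neg {x : ℂ} (hx : Cfsg.MemLocalRing M x) : Cfsg.MemLocalRing M (-x) := by
  obtain ⟨a, b, hb, rfl⟩ := hx
  refine ⟨-a, b, hb, ?_⟩
  push_cast
  ring

theorem memLocalRing_zero (hM : M.IsMaximal) : Cfsg.MemLocalRing M 0 :=
  memLocalRing_of_isIntegral hM isIntegral_zero

theorem memLocalRing_one (hM : M.IsMaximal) : Cfsg.MemLocalRing M 1 :=
  memLocalRing_of_isIntegral hM isIntegral_one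

theorem MemLocalRing.sub (hM : M.IsMaximal) {x y : ℂ} (hx : Cfsg.MemLocalRing M x)
    (hy : Cfsg.MemLocalRing M y) : Cfsg.MemLocalRing M (x - y) := by
  rw [sub_eq_add_neg]
  exact MemLocalRing.add hM hx (MemLocalRing.neg hy)

theorem MemLocalRing.sum (hM : M.IsMaximal) {ι : Type*} (s : Finset ι) (f : ι → ℂ)
    (h : ∀ i ∈ s, Cfsg.MemLocalRing M (f i)) : Cfsg.MemLocalRing M (∑ i ∈ s, f i) := by
  classical
  induction s using Finset.induction_on with
  | empty => rw [Finset.sum_empty]; exact memLocalRing_zero hM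
  | insert a s ha ih =>
    rw [Finset.sum_insert ha]
    exact MemLocalRing.add hM (h a (Finset.mem_insert_self a s))
      (ih (fun i hi => h i (Finset.mem_insert_of_mem hi)))

/-- The inverse of an algebraic integer outside the local ideal is a local integer. -/
theorem memLocalRing_inv_of_not_memLocalIdeal (hM : M.IsMaximal) {z : ℂ} (hz : IsIntegral ℤ z)
    (hnot : ¬ Cfsg.MemLocalIdeal M z) : Cfsg.MemLocalRing M z⁻¹ := by
  have hzM : (⟨z, hz⟩ : Cfsg.AlgInt) ∉ M := by
    intro h
    exact hnot (memLocalIdeal_of_mem hM h)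
  refine ⟨1, ⟨z, hz⟩, hzM, ?_⟩
  simp

end LocalRing

end Cfsg.Agent.Helper6
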