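import Mathlib
import Cfsg.Prelude.Def_Characters
import Cfsg.Prelude.Def_Blocks
import Cfsg.Agent.Helper6.Osima1

/-!
# Osima's theorem: the multiplier algebra of vectors with local idempotent coefficients
-/

set_option autoImplicit false
set_option linter.style.haveILetI false

namespace Cfsg.Agent.Helper6

open scoped ComplexConjugate
open Module

universe u v

variable {G : Type u} [Group G]

/-- The coefficient function of the central element with prescribed central character values. -/
noncomputable def idemCoeff [Fintype G] [Fintype (Cfsg.IrrCharacter G)]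
    (v : Cfsg.IrrCharacter G → ℂ) (g : G) : ℂ :=
  (Nat.card G : ℂ)⁻¹ * ∑ χ : Cfsg.IrrCharacter G,
    v χ * ((χ : G → ℂ) 1 * conj ((χ : G → ℂ) g))

/-- The vector has local idempotent coefficients. -/
def IsLocalVec [Fintype G] [Fintype (Cfsg.IrrCharacter G)] (M : Ideal Cfsg.AlgInt)
    (v : Cfsg.IrrCharacter G → ℂ) : Prop :=
  ∀ g : G, Cfsg.MemLocalRing M (idemCoeff v g)

/-- The vector multiplies local vectors to local vectors. -/
def IsMultiplier [Fintype G] [Fintype (Cfsg.IrrCharacter G)] (M : Ideal Cfsg.AlgInt)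
    (v : Cfsg.IrrCharacter G → ℂ) : Prop :=
  ∀ w : Cfsg.IrrCharacter G → ℂ, IsLocalVec M w → IsLocalVec M (v * w)

variable [Fintype G] [Fintype (Cfsg.IrrCharacter G)] {M : Ideal Cfsg.AlgInt}

theorem idemCoeff_add (v w : Cfsg.IrrCharacter G → ℂ) (g : G) :
    idemCoeff (v + w) g = idemCoeff v g + idemCoeff w g := by
  unfold idemCoeff
  rw [← mul_add, ← Finset.sum_add_distrib]
  congr 1
  apply Finset.sum_congr rfl
  intro χ _
  rw [Pi.add_apply, add_mul]

theorem idemCoeff_smul (s : ℂ) (w : Cfsg.IrrCharacter G → ℂ) (g : G) :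
    idemCoeff ((fun _ => s) * w) g = s * idemCoeff w g := by
  unfold idemCoeff
  rw [mul_left_comm]
  congr 1
  rw [Finset.mul_sum]
  apply Finset.sum_congr rfl
  intro χ _
  rw [Pi.mul_apply, mul_assoc]

theorem idemCoeff_neg (w : Cfsg.IrrCharacter G → ℂ) (g : G) :
    idemCoeff (-w) g = -idemCoeff w g := by
  unfold idemCoeff
  rw [← mul_neg, ← Finset.sum_neg_distrib]
  congr 1
  apply Finset.sum_congr rfl
  intro χ _
  rw [Pi.neg_apply, neg_mul]

theorem idemCoeff_one [DecidableEq G] (g : G) :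
    idemCoeff (1 : Cfsg.IrrCharacter G → ℂ) g = if g = 1 then 1 else 0 := by
  unfold idemCoeff
  have hG0 : (Nat.card G : ℂ) ≠ 0 := by
    have : 0 < Nat.card G := Nat.card_pos
    exact_mod_cast this.ne'
  have h1 : ∀ χ : Cfsg.IrrCharacter G, (1 : Cfsg.IrrCharacter G → ℂ) χ *
      ((χ : G → ℂ) 1 * conj ((χ : G → ℂ) g)) = (χ : G → ℂ) 1 * (χ : G → ℂ) g⁻¹ := by
    intro χ
    rw [Pi.one_apply, one_mul, IsCharacter.inv_eq_conj (IsIrrCharacter.isCharacter χ.2)]
  simp_rw [h1]
  rw [sum_degree_mul_irr]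
  by_cases hg : g = 1
  · rw [if_pos hg, if_pos (by rw [hg, inv_one]), inv_mul_cancel₀ hG0]
  · rw [if_neg hg, if_neg (by rwa [inv_eq_one]), mul_zero]

theorem isLocalVec_one (hM : M.IsMaximal) : IsLocalVec M (1 : Cfsg.IrrCharacter G → ℂ) := by
  classical
  intro g
  rw [idemCoeff_one]
  by_cases hg : g = 1
  · rw [if_pos hg]; exact memLocalRing_one hM
  · rw [if_neg hg]; exact memLocalRing_zero hM

theorem IsMultiplier.isLocalVec (hM : M.IsMaximal) {v : Cfsg.IrrCharacter G → ℂ}
    (hv : IsMultiplier M v) : IsLocalVec M v := by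
  have := hv 1 (isLocalVec_one hM)
  rwa [mul_one] at this

theorem isMultiplier_one : IsMultiplier M (1 : Cfsg.IrrCharacter G → ℂ) := by
  intro w hw
  rwa [one_mul]

theorem IsMultiplier.mul {v v' : Cfsg.IrrCharacter G → ℂ} (hv : IsMultiplier M v)
    (hv' : IsMultiplier M v') : IsMultiplier M (v * v') := by
  intro w hw
  rw [mul_assoc]
  exact hv _ (hv' w hw)

theorem IsMultiplier.add (hM : M.IsMaximal) {v v' : Cfsg.IrrCharacter G → ℂ}
    (hv : IsMultiplier M v) (hv' : IsMultiplier M v') : IsMultiplier M (v + v') := by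
  intro w hw g
  rw [add_mul, idemCoeff_add]
  exact MemLocalRing.add hM (hv w hw g) (hv' w hw g)

theorem IsMultiplier.neg {v : Cfsg.IrrCharacter G → ℂ}
    (hv : IsMultiplier M v) : IsMultiplier M (-v) := by
  intro w hw g
  rw [neg_mul, idemCoeff_neg]
  exact MemLocalRing.neg (hv w hw g)

theorem IsMultiplier.sub (hM : M.IsMaximal) {v v' : Cfsg.IrrCharacter G → ℂ}
    (hv : IsMultiplier M v) (hv' : IsMultiplier M v') : IsMultiplier M (v - v') := by
  rw [sub_eq_add_neg]
  exact IsMultiplier.add hM hv (IsMultiplier.neg hv')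

theorem isMultiplier_const (hM : M.IsMaximal) {s : ℂ} (hs : Cfsg.MemLocalRing M s) :
    IsMultiplier M (fun _ : Cfsg.IrrCharacter G => s) := by
  intro w hw g
  rw [idemCoeff_smul]
  exact MemLocalRing.mul hM hs (hw g)

theorem IsMultiplier.prod {ι : Type*} (s : Finset ι) (f : ι → Cfsg.IrrCharacter G → ℂ)
    (h : ∀ i ∈ s, IsMultiplier M (f i)) : IsMultiplier M (∏ i ∈ s, f i) := by
  classical
  induction s using Finset.induction_on with
  | empty => rw [Finset.prod_empty]; exact isMultiplier_one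
  | insert a s ha ih =>
    rw [Finset.prod_insert ha]
    exact IsMultiplier.mul (h a (Finset.mem_insert_self a s))
      (ih (fun i hi => h i (Finset.mem_insert_of_mem hi)))

/-- Class sums act on irreducible characters by the central character. -/
theorem sum_class_char_mul (χ : Cfsg.IrrCharacter G) (k g : G) :
    ∑ x ∈ classFinset k, (χ : G → ℂ) (x * g) =
      Cfsg.centralChar (χ : G → ℂ) k * (χ : G → ℂ) g := by
  obtain ⟨n, ρ, hirr, hρ⟩ := χ.2
  haveI := hirr
  obtain ⟨c, -, hop, hc⟩ := exists_central_value ρ (classFinset k) (by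
    intro a x hx
    rw [mem_classFinset] at hx ⊢
    exact hx.trans (isConj_iff.mpr ⟨a, rfl⟩))
  have hfin : (finrank ℂ (Fin n → ℂ) : ℂ) = (χ : G → ℂ) 1 := by
    rw [← hρ, Representation.char_one]
  have hχ1 : (χ : G → ℂ) 1 ≠ 0 := IsIrrCharacter.apply_one_ne_zero χ.2
  have hconst : ∑ x ∈ classFinset k, ρ.character x =
      ((Subgroup.centralizer ({k} : Set G)).index : ℂ) * ρ.character k := by
    rw [← card_classFinset, ← nsmul_eq_mul, ← Finset.sum_const]
    apply Finset.sum_congr rfl
    intro x hx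
    rw [mem_classFinset] at hx
    obtain ⟨a, ha⟩ := isConj_iff.mp hx
    rw [← ha, Representation.char_conj]
  have hcval : c = Cfsg.centralChar (χ : G → ℂ) k := by
    unfold Cfsg.centralChar
    rw [eq_div_iff hχ1, ← hfin, hc, hconst, hρ]
  have htr : ∑ x ∈ classFinset k, ρ.character (x * g) = c * ρ.character g := by
    have h1 : (∑ x ∈ classFinset k, ρ x) * ρ g = c • ρ g := by
      rw [hop]
      ext y
      simp
    have h2 := congrArg (LinearMap.trace ℂ (Fin n → ℂ)) h1
    rw [Finset.sum_mul, map_sum, map_smul, smul_eq_mul] at h2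
    have h3 : c * ρ.character g = c * (LinearMap.trace ℂ (Fin n → ℂ)) (ρ g) := rfl
    rw [h3, ← h2]
    apply Finset.sum_congr rfl
    intro x _
    change LinearMap.trace ℂ _ (ρ (x * g)) = _
    rw [map_mul]
  rw [← hρ, htr, hcval, hρ]

/-- Central character vectors are multipliers. -/
theorem isMultiplier_centralChar (hM : M.IsMaximal) (k : G) :
    IsMultiplier M (fun χ : Cfsg.IrrCharacter G => Cfsg.centralChar (χ : G → ℂ) k) := by
  intro w hw g
  have hkey : idemCoeff ((fun χ : Cfsg.IrrCharacter G => Cfsg.centralChar (χ : G → ℂ) k) * w) g =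
      ∑ x ∈ classFinset k, idemCoeff w (g * x⁻¹) := by
    unfold idemCoeff
    rw [← Finset.mul_sum, Finset.sum_comm]
    congr 1
    apply Finset.sum_congr rfl
    intro χ _
    have hχc := IsIrrCharacter.isCharacter χ.2
    rw [← Finset.mul_sum, ← Finset.mul_sum, Pi.mul_apply]
    have h1 : ∀ x ∈ classFinset k, conj ((χ : G → ℂ) (g * x⁻¹)) = (χ : G → ℂ) (x * g⁻¹) := by
      intro x _
      rw [← IsCharacter.inv_eq_conj hχc, mul_inv_rev, inv_inv]
    rw [Finset.sum_congr rfl h1, sum_class_char_mul χ k g⁻¹, IsCharacter.inv_eq_conj hχc]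
    ring
  rw [hkey]
  apply MemLocalRing.sum hM
  intro x _
  exact hw _

end Cfsg.Agent.Helper6
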