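import Mathlib
import Cfsg.Prelude.Def_Characters
import Cfsg.Prelude.Def_Blocks
import Cfsg.Agent.Helper6.Osima2

/-!
# Osima's theorem: block idempotents have local coefficients
-/

set_option autoImplicit false
set_option linter.style.haveILetI false

namespace Cfsg.Agent.Helper6

open scoped ComplexConjugate
open Module

universe u v

variable {G : Type u} [Group G]

/-- Central character values of irreducible characters are algebraic integers. -/
theorem isIntegral_centralChar [Finite G] (χ : Cfsg.IrrCharacter G) (k : G) :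
    IsIntegral ℤ (Cfsg.centralChar (χ : G → ℂ) k) := by
  obtain ⟨n, ρ, hirr, hρ⟩ := χ.2
  haveI := hirr
  have h := isIntegral_class_mul_char_div ρ k
  unfold Cfsg.centralChar
  rw [← hρ, Representation.char_one]
  exact h

variable [Fintype G] [Fintype (Cfsg.IrrCharacter G)] {M : Ideal Cfsg.AlgInt}

open Classical in
set_option maxHeartbeats 800000 in
/-- The indicator vector of a block is a multiplier. -/
theorem isMultiplier_indicator_block (hM : M.IsMaximal) (χ₀ : Cfsg.IrrCharacter G) :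
    IsMultiplier M (fun θ : Cfsg.IrrCharacter G =>
      if θ ∈ Cfsg.blockOf M (χ₀ : G → ℂ) then (1 : ℂ) else 0) := by
  classical
  set B : Set (Cfsg.IrrCharacter G) := Cfsg.blockOf M (χ₀ : G → ℂ) with hB
  have hmemB : ∀ θ : Cfsg.IrrCharacter G, θ ∈ B ↔ ∀ g : G, Cfsg.MemLocalIdeal M
      (Cfsg.centralChar (χ₀ : G → ℂ) g - Cfsg.centralChar (θ : G → ℂ) g) := fun θ => Iff.rfl
  -- separating classes
  have hk : ∀ ψ : Cfsg.IrrCharacter G, ψ ∉ B → ∃ k : G, ¬ Cfsg.MemLocalIdeal M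
      (Cfsg.centralChar (χ₀ : G → ℂ) k - Cfsg.centralChar (ψ : G → ℂ) k) := by
    intro ψ hψ
    rw [hmemB] at hψ
    push Not at hψ
    exact hψ
  choose! k hk using hk
  have hsep : ∀ χ ψ : Cfsg.IrrCharacter G, χ ∈ B → ψ ∉ B → ¬ Cfsg.MemLocalIdeal M
      (Cfsg.centralChar (χ : G → ℂ) (k ψ) - Cfsg.centralChar (ψ : G → ℂ) (k ψ)) := by
    intro χ ψ hχ hψ hmem
    apply hk ψ hψ
    have h1 := (hmemB χ).mp hχ (k ψ)
    have := MemLocalIdeal.add hM h1 hmem
    have e : Cfsg.centralChar (χ₀ : G → ℂ) (k ψ) - Cfsg.centralChar (χ : G → ℂ) (k ψ) +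
        (Cfsg.centralChar (χ : G → ℂ) (k ψ) - Cfsg.centralChar (ψ : G → ℂ) (k ψ)) =
        Cfsg.centralChar (χ₀ : G → ℂ) (k ψ) - Cfsg.centralChar (ψ : G → ℂ) (k ψ) := by ring
    rwa [e] at this
  set Bfin : Finset (Cfsg.IrrCharacter G) := Finset.univ.filter (fun θ => θ ∈ B) with hBfin
  -- the auxiliary vectors
  set w : Cfsg.IrrCharacter G → Cfsg.IrrCharacter G → ℂ := fun ψ =>
    ∏ χ ∈ Bfin, ((fun _ : Cfsg.IrrCharacter G =>
        (Cfsg.centralChar (χ : G → ℂ) (k ψ) - Cfsg.centralChar (ψ : G → ℂ) (k ψ))⁻¹) *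
      ((fun _ : Cfsg.IrrCharacter G => Cfsg.centralChar (χ : G → ℂ) (k ψ)) -
        fun θ : Cfsg.IrrCharacter G => Cfsg.centralChar (θ : G → ℂ) (k ψ))) with hw
  have hwmult : ∀ ψ : Cfsg.IrrCharacter G, ψ ∉ B → IsMultiplier M (w ψ) := by
    intro ψ hψ
    apply IsMultiplier.prod
    intro χ hχ
    rw [hBfin, Finset.mem_filter] at hχ
    apply IsMultiplier.mul
    · apply isMultiplier_const hM
      apply memLocalRing_inv_of_not_memLocalIdeal hM
      · exact (isIntegral_centralChar χ (k ψ)).sub (isIntegral_centralChar ψ (k ψ))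
      · exact hsep χ ψ hχ.2 hψ
    · apply IsMultiplier.sub hM
      · exact isMultiplier_const hM
          (memLocalRing_of_isIntegral hM (isIntegral_centralChar χ (k ψ)))
      · exact isMultiplier_centralChar hM (k ψ)
  have hwapply : ∀ ψ θ : Cfsg.IrrCharacter G, w ψ θ = ∏ χ ∈ Bfin,
      ((Cfsg.centralChar (χ : G → ℂ) (k ψ) - Cfsg.centralChar (ψ : G → ℂ) (k ψ))⁻¹ *
        (Cfsg.centralChar (χ : G → ℂ) (k ψ) - Cfsg.centralChar (θ : G → ℂ) (k ψ))) := by
    intro ψ θ
    simp only [hw, Finset.prod_apply, Pi.mul_apply, Pi.sub_apply]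
  have hwB : ∀ ψ θ : Cfsg.IrrCharacter G, θ ∈ B → w ψ θ = 0 := by
    intro ψ θ hθ
    rw [hwapply]
    apply Finset.prod_eq_zero (i := θ)
    · rw [hBfin, Finset.mem_filter]
      exact ⟨Finset.mem_univ _, hθ⟩
    · rw [sub_self, mul_zero]
  have hwψ : ∀ ψ : Cfsg.IrrCharacter G, ψ ∉ B → w ψ ψ = 1 := by
    intro ψ hψ
    rw [hwapply]
    apply Finset.prod_eq_one
    intro χ hχ
    rw [hBfin, Finset.mem_filter] at hχ
    apply inv_mul_cancel₀
    intro h0
    apply hsep χ ψ hχ.2 hψ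
    rw [h0]
    exact memLocalIdeal_zero hM
  set v : Cfsg.IrrCharacter G → Cfsg.IrrCharacter G → ℂ := fun ψ =>
    if ψ ∈ B then 1 else 1 - w ψ with hv
  have hvmult : ∀ ψ : Cfsg.IrrCharacter G, IsMultiplier M (v ψ) := by
    intro ψ
    by_cases hψ : ψ ∈ B
    · simp only [hv, if_pos hψ]
      exact isMultiplier_one
    · simp only [hv, if_neg hψ]
      exact IsMultiplier.sub hM isMultiplier_one (hwmult ψ hψ)
  have hprod : IsMultiplier M (∏ ψ : Cfsg.IrrCharacter G, v ψ) :=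
    IsMultiplier.prod Finset.univ v (fun ψ _ => hvmult ψ)
  have heq : ∀ θ : Cfsg.IrrCharacter G, (∏ ψ : Cfsg.IrrCharacter G, v ψ) θ =
      if θ ∈ B then (1 : ℂ) else 0 := by
    intro θ
    rw [Finset.prod_apply]
    by_cases hθ : θ ∈ B
    · rw [if_pos hθ]
      apply Finset.prod_eq_one
      intro ψ _
      by_cases hψ : ψ ∈ B
      · simp only [hv, if_pos hψ, Pi.one_apply]
      · simp only [hv, if_neg hψ, Pi.sub_apply, Pi.one_apply]
        rw [hwB ψ θ hθ, sub_zero]
    · rw [if_neg hθ]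
      apply Finset.prod_eq_zero (i := θ) (Finset.mem_univ _)
      simp only [hv, if_neg hθ, Pi.sub_apply, Pi.one_apply]
      rw [hwψ θ hθ, sub_self]
  have hfinal : (fun θ : Cfsg.IrrCharacter G =>
      if θ ∈ Cfsg.blockOf M (χ₀ : G → ℂ) then (1 : ℂ) else 0) =
      ∏ ψ : Cfsg.IrrCharacter G, v ψ := by
    funext θ
    rw [heq θ]
  rw [hfinal]
  exact hprod

omit [Fintype G] [Fintype (Cfsg.IrrCharacter G)] in
/-- **Osima's theorem**: the idempotent coefficients of a block are local integers. -/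
theorem osima [Finite G] (hM : M.IsMaximal) (B : Set (Cfsg.IrrCharacter G))
    (hB : Cfsg.IsPBlock M B) (g : G) : Cfsg.MemLocalRing M (Cfsg.blockCoeff B g) := by
  classical
  haveI := Fintype.ofFinite G
  haveI : Finite (Cfsg.IrrCharacter G) := irr_finite
  haveI : Fintype (Cfsg.IrrCharacter G) := Fintype.ofFinite _
  obtain ⟨χ₀, rfl⟩ := hB
  have h := (isMultiplier_indicator_block hM χ₀).isLocalVec hM g
  have heq : Cfsg.blockCoeff (Cfsg.blockOf M (χ₀ : G → ℂ)) g =
      idemCoeff (fun θ : Cfsg.IrrCharacter G =>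
        if θ ∈ Cfsg.blockOf M (χ₀ : G → ℂ) then (1 : ℂ) else 0) g := by
    unfold Cfsg.blockCoeff idemCoeff
    rw [finsum_mem_eq_sum_ite]
    congr 1
    apply Finset.sum_congr rfl
    intro θ _
    beta_reduce
    by_cases hθ : θ ∈ Cfsg.blockOf M (χ₀ : G → ℂ)
    · rw [if_pos hθ, if_pos hθ, one_mul]
    · rw [if_neg hθ, if_neg hθ, zero_mul]
  rw [heq]
  exact h

end Cfsg.Agent.Helper6
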