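import Mathlib
import Cfsg.Prelude.Def_Characters
import Cfsg.Prelude.Def_Blocks
import Cfsg.Agent.Helper6.Osima3

/-!
# Existence of defect classes
-/

set_option autoImplicit false
set_option linter.style.haveILetI false

namespace Cfsg.Agent.Helper6

open scoped ComplexConjugate
open Module

universe u v

variable {G : Type u} [Group G] {M : Ideal Cfsg.AlgInt}

theorem mem_blockOf_self (hM : M.IsMaximal) (χ : Cfsg.IrrCharacter G) :
    χ ∈ Cfsg.blockOf M (χ : G → ℂ) := by
  intro g
  rw [sub_self]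
  exact memLocalIdeal_zero hM

/-- For every member `χ₀` of a block there is an element at which both the idempotent coefficient
and the central character of `χ₀` are outside the local ideal. -/
theorem exists_coeff_centralChar_not_mem [Finite G] (hM : M.IsMaximal)
    (B : Set (Cfsg.IrrCharacter G)) (hB : Cfsg.IsPBlock M B) (χ₀ : Cfsg.IrrCharacter G)
    (hχ₀ : χ₀ ∈ B) :
    ∃ g : G, ¬ Cfsg.MemLocalIdeal M (Cfsg.blockCoeff B g) ∧
      ¬ Cfsg.MemLocalIdeal M (Cfsg.centralChar (χ₀ : G → ℂ) g) := by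
  classical
  haveI := Fintype.ofFinite G
  by_contra hno
  push Not at hno
  have hχ1 : (χ₀ : G → ℂ) 1 ≠ 0 := IsIrrCharacter.apply_one_ne_zero χ₀.2
  have hχcf := IsCharacter.isClassFunction (IsIrrCharacter.isCharacter χ₀.2)
  have hBcf := blockCoeff_isClassFunction B
  set d : G → ℂ := fun g => Cfsg.blockCoeff B g * ((χ₀ : G → ℂ) g / (χ₀ : G → ℂ) 1) with hd
  have hdcf : Cfsg.IsClassFunction G d := by
    intro g h
    simp only [hd]
    rw [hBcf g h, hχcf g h]
  have hsum : ∑ g : G, d g = 1 := by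
    have e1 := sum_blockCoeff_mul B χ₀
    rw [if_pos hχ₀] at e1
    have : ∑ g : G, d g =
        (∑ g : G, Cfsg.blockCoeff B g * (χ₀ : G → ℂ) g) / (χ₀ : G → ℂ) 1 := by
      rw [Finset.sum_div]
      apply Finset.sum_congr rfl
      intro g _
      simp only [hd]
      ring
    rw [this, e1, div_self hχ1]
  have hJ : Cfsg.MemLocalIdeal M (∑ g ∈ (Finset.univ : Finset G), d g) := by
    apply sum_mem_of_conj_closed (fun z => Cfsg.MemLocalIdeal M z) (memLocalIdeal_zero hM)
      (fun x y hx hy => MemLocalIdeal.add hM hx hy) d hdcf _ _ Finset.univ rfl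
      (fun g _ x => Finset.mem_univ _)
    intro g
    have e : ((Subgroup.centralizer ({g} : Set G)).index : ℂ) * d g =
        Cfsg.blockCoeff B g * Cfsg.centralChar (χ₀ : G → ℂ) g := by
      simp only [hd]
      unfold Cfsg.centralChar
      ring
    rw [e]
    by_cases h1 : Cfsg.MemLocalIdeal M (Cfsg.blockCoeff B g)
    · rw [mul_comm]
      exact MemLocalIdeal.mul_left hM
        (memLocalRing_of_isIntegral hM (isIntegral_centralChar χ₀ g)) h1
    · exact MemLocalIdeal.mul_left hM (osima hM B hB g) (hno g h1)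
  rw [hsum] at hJ
  exact not_memLocalIdeal_one hJ

/-- Every block has a defect class. -/
theorem exists_defectClass [Finite G] (hM : M.IsMaximal) (B : Set (Cfsg.IrrCharacter G))
    (hB : Cfsg.IsPBlock M B) : ∃ g : G, Cfsg.IsDefectClass M B g := by
  obtain ⟨χ₀, hχ₀B⟩ := hB
  have hB' : Cfsg.IsPBlock M B := ⟨χ₀, hχ₀B⟩
  have hχ₀ : χ₀ ∈ B := by
    rw [hχ₀B]
    exact mem_blockOf_self hM χ₀
  obtain ⟨g, hg1, hg2⟩ := exists_coeff_centralChar_not_mem hM B hB' χ₀ hχ₀
  refine ⟨g, osima hM B hB' g, hg1, ?_⟩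
  intro χ hχ hmem
  apply hg2
  rw [hχ₀B] at hχ
  have h1 : Cfsg.MemLocalIdeal M
      (Cfsg.centralChar (χ₀ : G → ℂ) g - Cfsg.centralChar (χ : G → ℂ) g) := hχ g
  have := MemLocalIdeal.add hM h1 hmem
  rwa [sub_add_cancel] at this

end Cfsg.Agent.Helper6
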