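import Mathlib
import Cfsg.Prelude.Def_Characters
import Cfsg.Prelude.Def_Blocks
import Cfsg.Agent.Helper6.BlockUnion
import Cfsg.Agent.Helper6.Osima3
import Cfsg.Agent.Helper6.DefectClass

/-!
# The block relation is an equivalence relation; unions of blocks have local coefficients
-/

set_option autoImplicit false
set_option linter.style.haveILetI false

namespace Cfsg.Agent.Helper6

open scoped ComplexConjugate

universe u

variable {G : Type u} [Group G] {M : Ideal Cfsg.AlgInt}

theorem sameBlock_refl (hM : M.IsMaximal) (χ : G → ℂ) : Cfsg.SameBlock M χ χ := by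
  intro g
  rw [sub_self]
  exact memLocalIdeal_zero hM

theorem sameBlock_symm {χ ψ : G → ℂ} (h : Cfsg.SameBlock M χ ψ) : Cfsg.SameBlock M ψ χ := by
  intro g
  have := MemLocalIdeal.neg (h g)
  rwa [neg_sub] at this

theorem sameBlock_trans (hM : M.IsMaximal) {χ ψ φ : G → ℂ} (h1 : Cfsg.SameBlock M χ ψ)
    (h2 : Cfsg.SameBlock M ψ φ) : Cfsg.SameBlock M χ φ := by
  intro g
  have := MemLocalIdeal.add hM (h1 g) (h2 g)
  rwa [sub_add_sub_cancel] at this

theorem blockOf_eq_of_sameBlock (hM : M.IsMaximal) {χ ψ : G → ℂ} (h : Cfsg.SameBlock M χ ψ) :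
    Cfsg.blockOf M χ = Cfsg.blockOf M ψ := by
  ext φ
  constructor
  · intro hφ
    exact sameBlock_trans hM (sameBlock_symm h) hφ
  · intro hφ
    exact sameBlock_trans hM h hφ

/-- For an algebraic integer, membership in the local ideal is membership in `M`. -/
theorem memLocalIdeal_coe_iff (hM : M.IsMaximal) (a : Cfsg.AlgInt) :
    Cfsg.MemLocalIdeal M (a : ℂ) ↔ a ∈ M := by
  constructor
  · rintro ⟨a', b', ha', hb', h⟩
    have hb0 := algInt_coe_ne_zero hb'
    rw [div_eq_iff hb0] at h
    have h2 : a' = a * b' := Subtype.ext (by rw [h]; rfl)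
    rw [h2] at ha'
    rcases hM.isPrime.mem_or_mem ha' with h3 | h3
    · exact h3
    · exact absurd h3 hb'
  · exact memLocalIdeal_of_mem hM

/-- A set of irreducible characters that is a union of blocks has local idempotent coefficients. -/
theorem memLocalRing_blockCoeff_of_closed [Finite G] (hM : M.IsMaximal)
    (A : Set (Cfsg.IrrCharacter G))
    (hA : ∀ χ ∈ A, Cfsg.blockOf M (χ : G → ℂ) ⊆ A) (g : G) :
    Cfsg.MemLocalRing M (Cfsg.blockCoeff A g) := by
  classical
  haveI : Finite (Cfsg.IrrCharacter G) := irr_finite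
  haveI : Fintype (Cfsg.IrrCharacter G) := Fintype.ofFinite _
  have key : ∀ (n : ℕ) (A : Set (Cfsg.IrrCharacter G)), A.ncard = n →
      (∀ χ ∈ A, Cfsg.blockOf M (χ : G → ℂ) ⊆ A) → Cfsg.MemLocalRing M (Cfsg.blockCoeff A g) := by
    intro n
    induction n using Nat.strong_induction_on with
    | _ n ih =>
    intro A hn hA
    by_cases hemp : A = ∅
    · rw [hemp]
      unfold Cfsg.blockCoeff
      simp only [Set.mem_empty_iff_false, finsum_false, finsum_zero, mul_zero]
      exact memLocalRing_zero hM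
    obtain ⟨χ₀, hχ₀⟩ := Set.nonempty_iff_ne_empty.mpr hemp
    set B := Cfsg.blockOf M (χ₀ : G → ℂ) with hB
    have hBA : B ⊆ A := hA χ₀ hχ₀
    have hχ₀B : χ₀ ∈ B := mem_blockOf_self hM χ₀
    have hA' : ∀ χ ∈ A \ B, Cfsg.blockOf M (χ : G → ℂ) ⊆ A \ B := by
      intro χ hχ ψ hψ
      refine ⟨hA χ hχ.1 hψ, ?_⟩
      intro hψB
      apply hχ.2
      exact sameBlock_trans hM hψB (sameBlock_symm hψ)
    have hcard : (A \ B).ncard < n := by
      rw [← hn]
      apply Set.ncard_lt_ncard _ (Set.toFinite A)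
      refine ⟨Set.sdiff_subset, ?_⟩
      intro h
      exact (h hχ₀).2 hχ₀B
    have h1 := ih _ hcard (A \ B) rfl hA'
    have h2 := osima hM B ⟨χ₀, rfl⟩ g
    have hsplit : Cfsg.blockCoeff A g = Cfsg.blockCoeff B g + Cfsg.blockCoeff (A \ B) g := by
      unfold Cfsg.blockCoeff
      rw [← mul_add]
      congr 1
      rw [← finsum_mem_union Set.disjoint_sdiff_right (Set.toFinite _) (Set.toFinite _),
        Set.union_sdiff_cancel hBA]
    rw [hsplit]
    exact MemLocalRing.add hM h2 h1
  exact key _ A rfl hA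

end Cfsg.Agent.Helper6
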