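import Mathlib
import Cfsg.Prelude.Def_Characters
import Cfsg.Prelude.Def_Blocks
import Cfsg.Agent.Helper6.DefectClass
import Cfsg.Agent.Helper6.OddReal

/-!
# Defect groups of the principal block
-/

set_option autoImplicit false
set_option linter.style.haveILetI false

namespace Cfsg.Agent.Helper6

open scoped ComplexConjugate
open Module

universe u v

variable {G : Type u} [Group G] {M : Ideal Cfsg.AlgInt}

theorem index_centralizer_conj [Finite G] (g x : G) :
    (Subgroup.centralizer ({x * g * x⁻¹} : Set G)).index =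
      (Subgroup.centralizer ({g} : Set G)).index := by
  rw [index_centralizer_eq_card_conj, index_centralizer_eq_card_conj]
  apply Nat.card_congr
  refine Equiv.subtypeEquivRight ?_
  intro y
  have hc : IsConj g (x * g * x⁻¹) := isConj_iff.mpr ⟨x, rfl⟩
  exact ⟨fun h => hc.trans h, fun h => hc.symm.trans h⟩

theorem centralChar_conj [Finite G] (χ : Cfsg.IrrCharacter G) (g x : G) :
    Cfsg.centralChar (χ : G → ℂ) (x * g * x⁻¹) = Cfsg.centralChar (χ : G → ℂ) g := by
  unfold Cfsg.centralChar
  rw [index_centralizer_conj, IsCharacter.isClassFunction (IsIrrCharacter.isCharacter χ.2) g x]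

theorem isDefectClass_conj [Finite G] (B : Set (Cfsg.IrrCharacter G)) (g x : G)
    (h : Cfsg.IsDefectClass M B g) : Cfsg.IsDefectClass M B (x * g * x⁻¹) := by
  obtain ⟨h1, h2, h3⟩ := h
  have hcf := blockCoeff_isClassFunction B g x
  refine ⟨?_, ?_, ?_⟩
  · rw [hcf]; exact h1
  · rw [hcf]; exact h2
  · intro χ hχ
    rw [centralChar_conj]
    exact h3 χ hχ

theorem mem_centralizer_conj_iff (g x y : G) :
    y ∈ Subgroup.centralizer ({x * g * x⁻¹} : Set G) ↔
      x⁻¹ * y * x ∈ Subgroup.centralizer ({g} : Set G) := by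
  rw [Subgroup.mem_centralizer_singleton_iff, Subgroup.mem_centralizer_singleton_iff]
  constructor
  · intro h
    have : x⁻¹ * (y * (x * g * x⁻¹)) * x = x⁻¹ * ((x * g * x⁻¹) * y) * x := by rw [h]
    calc x⁻¹ * y * x * g = x⁻¹ * (y * (x * g * x⁻¹)) * x := by group
      _ = x⁻¹ * ((x * g * x⁻¹) * y) * x := this
      _ = g * (x⁻¹ * y * x) := by group
  · intro h
    calc y * (x * g * x⁻¹) = x * ((x⁻¹ * y * x) * g) * x⁻¹ := by group
      _ = x * (g * (x⁻¹ * y * x)) * x⁻¹ := by rw [h]
      _ = x * g * x⁻¹ * y := by group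

/-- The trivial character as an irreducible character. -/
noncomputable def trivIrr (G : Type u) [Group G] : Cfsg.IrrCharacter G :=
  ⟨fun _ => (1 : ℂ), isIrrCharacter_one⟩

theorem principalBlock_eq (G : Type u) [Group G] :
    Cfsg.principalBlock M G = Cfsg.blockOf M ((trivIrr G : Cfsg.IrrCharacter G) : G → ℂ) := rfl

theorem isPBlock_principalBlock (G : Type u) [Group G] :
    Cfsg.IsPBlock M (Cfsg.principalBlock M G) := ⟨trivIrr G, rfl⟩

theorem trivIrr_mem_principalBlock (hM : M.IsMaximal) :
    trivIrr G ∈ Cfsg.principalBlock M G := by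
  rw [principalBlock_eq]
  exact mem_blockOf_self hM (trivIrr G)

/-- A defect class of the principal block has class size prime to `p`. -/
theorem not_dvd_index_of_defectClass_principal [Finite G] (p : ℕ) (hM : M.IsMaximal)
    (hp : (p : Cfsg.AlgInt) ∈ M) (g : G)
    (h : Cfsg.IsDefectClass M (Cfsg.principalBlock M G) g) :
    ¬ p ∣ (Subgroup.centralizer ({g} : Set G)).index := by
  intro hdvd
  apply h.2.2 (trivIrr G) (trivIrr_mem_principalBlock hM)
  have : Cfsg.centralChar ((trivIrr G : Cfsg.IrrCharacter G) : G → ℂ) g =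
      (((Subgroup.centralizer ({g} : Set G)).index : Cfsg.AlgInt) : ℂ) := by
    unfold Cfsg.centralChar trivIrr
    simp
  rw [this]
  exact memLocalIdeal_of_mem hM (natCast_mem_of_dvd hp hdvd)

/-- If `p` does not divide the index of `K`, a Sylow `p`-subgroup of `K` is one of `G`. -/
theorem card_sylow_of_not_dvd_index [Finite G] (p : ℕ) [hp : Fact p.Prime] (K : Subgroup G)
    (hK : ¬ p ∣ K.index) (P : Sylow p K) :
    Nat.card ((P : Subgroup K).map K.subtype) = p ^ (Nat.card G).factorization p := by
  rw [Subgroup.card_map_of_injective K.subtype_injective, Sylow.card_eq_multiplicity]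
  congr 1
  rw [← Subgroup.card_mul_index K, Nat.factorization_mul Nat.card_pos.ne'
    (Subgroup.index_ne_zero_of_finite), Finsupp.add_apply,
    Nat.factorization_eq_zero_of_not_dvd hK, add_zero]

/-- The defect groups of the principal block are exactly the Sylow `p`-subgroups. -/
theorem isDefectGroup_principal_iff [Finite G] (p : ℕ) [hp : Fact p.Prime] (hM : M.IsMaximal)
    (hpM : (p : Cfsg.AlgInt) ∈ M) (D : Subgroup G) :
    Cfsg.IsDefectGroup p M (Cfsg.principalBlock M G) D ↔ ∃ S : Sylow p G, (S : Subgroup G) = D := by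
  constructor
  · rintro ⟨g, hg, P, rfl⟩
    have hnd := not_dvd_index_of_defectClass_principal p hM hpM g hg
    exact ⟨Sylow.ofCard _ (card_sylow_of_not_dvd_index p _ hnd P), rfl⟩
  · rintro ⟨S, rfl⟩
    obtain ⟨g₀, hg₀⟩ := exists_defectClass hM (Cfsg.principalBlock M G)
      (isPBlock_principalBlock G)
    have hnd := not_dvd_index_of_defectClass_principal p hM hpM g₀ hg₀
    obtain ⟨P₀⟩ : Nonempty (Sylow p (Subgroup.centralizer ({g₀} : Set G))) := inferInstance
    set Q : Sylow p G := Sylow.ofCard _ (card_sylow_of_not_dvd_index p _ hnd P₀) with hQ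
    have hQle : (Q : Subgroup G) ≤ Subgroup.centralizer ({g₀} : Set G) := by
      change (P₀ : Subgroup _).map (Subgroup.centralizer ({g₀} : Set G)).subtype ≤ _
      exact Subgroup.map_subtype_le _
    obtain ⟨x, hx⟩ := MulAction.exists_smul_eq G Q S
    set g := x * g₀ * x⁻¹ with hgdef
    have hg : Cfsg.IsDefectClass M (Cfsg.principalBlock M G) g :=
      isDefectClass_conj _ g₀ x hg₀
    have hSle : (S : Subgroup G) ≤ Subgroup.centralizer ({g} : Set G) := by
      intro y hy
      rw [← hx, Sylow.coe_subgroup_smul, Subgroup.mem_pointwise_smul_iff_inv_smul_mem] at hy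
      rw [hgdef, mem_centralizer_conj_iff]
      have := hQle hy
      simpa [MulAut.smul_def, MulAut.conj_apply] using this
    have hcard : Nat.card ((S : Subgroup G).subgroupOf (Subgroup.centralizer ({g} : Set G))) =
        p ^ (Nat.card (Subgroup.centralizer ({g} : Set G))).factorization p := by
      rw [Nat.card_congr (Subgroup.subgroupOfEquivOfLe hSle).toEquiv, Sylow.card_eq_multiplicity]
      congr 1
      have hnd' := not_dvd_index_of_defectClass_principal p hM hpM g hg
      rw [← Subgroup.card_mul_index (Subgroup.centralizer ({g} : Set G)),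
        Nat.factorization_mul Nat.card_pos.ne' (Subgroup.index_ne_zero_of_finite),
        Finsupp.add_apply, Nat.factorization_eq_zero_of_not_dvd hnd', add_zero]
    refine ⟨g, hg, Sylow.ofCard _ hcard, ?_⟩
    change (S : Subgroup G) = ((S : Subgroup G).subgroupOf _).map _
    rw [Subgroup.map_subgroupOf_eq_of_le hSle]

end Cfsg.Agent.Helper6
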