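import Mathlib
import Cfsg.Prelude.Def_Characters
import Cfsg.Prelude.Def_Blocks
import Cfsg.Agent.Helper6.PrincipalDefect
import Cfsg.Agent.Helper6.Expansion
import Cfsg.Agent.Helper6.NormalInd2

/-!
# The set of irreducible characters with a given normal subgroup in the kernel
-/

set_option autoImplicit false
set_option linter.style.haveILetI false

namespace Cfsg.Agent.Helper6

open scoped ComplexConjugate
open Module

universe u v

variable {G : Type u} [Group G]

/-- For an irreducible character and a normal subgroup `N`: either `N` is in the kernel or the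
character sums to zero over `N`. -/
theorem kernel_or_sum_eq_zero [Fintype G] (χ : Cfsg.IrrCharacter G) (N : Subgroup G) [hN : N.Normal]
    [DecidablePred (fun g : G => g ∈ N)] :
    (∀ n ∈ N, (χ : G → ℂ) n = (χ : G → ℂ) 1) ∨
      ∑ n ∈ Finset.univ.filter (fun g : G => g ∈ N), (χ : G → ℂ) n = 0 := by
  classical
  obtain ⟨d, ρ, hirr, hρ⟩ := χ.2
  haveI := hirr
  set S : Finset G := Finset.univ.filter (fun g : G => g ∈ N) with hS
  have hmemS : ∀ g : G, g ∈ S ↔ g ∈ N := by
    intro g
    rw [hS, Finset.mem_filter]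
    simp
  obtain ⟨c, -, hop, hc⟩ := exists_central_value ρ S (by
    intro a x hx
    rw [hmemS] at hx ⊢
    exact hN.conj_mem x hx a)
  have hcardS : S.card = Nat.card N := by
    rw [Nat.card_eq_fintype_card, Fintype.card_subtype]
  -- the square of the sum
  have hsq : (∑ x ∈ S, ρ x) * (∑ y ∈ S, ρ y) = (Nat.card N : ℂ) • ∑ z ∈ S, ρ z := by
    rw [Finset.sum_mul]
    have h1 : ∀ x ∈ S, ρ x * ∑ y ∈ S, ρ y = ∑ z ∈ S, ρ z := by
      intro x hx
      rw [Finset.mul_sum]
      apply Finset.sum_bij (fun y _ => x * y)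
      · intro y hy
        rw [hmemS] at hy ⊢
        exact N.mul_mem ((hmemS x).mp hx) hy
      · intro y _ y' _ h
        exact mul_left_cancel h
      · intro z hz
        refine ⟨x⁻¹ * z, ?_, by group⟩
        rw [hmemS] at hz ⊢
        exact N.mul_mem (N.inv_mem ((hmemS x).mp hx)) hz
      · intro y _
        rw [map_mul]
    rw [Finset.sum_congr rfl h1, Finset.sum_const, hcardS, Nat.cast_smul_eq_nsmul]
  rw [hop] at hsq
  have hc2 : c * c = (Nat.card N : ℂ) * c := by
    haveI : Nontrivial (Fin d → ℂ) := irr_nontrivial ρ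
    have h2 : (c * c) • (LinearMap.id : (Fin d → ℂ) →ₗ[ℂ] (Fin d → ℂ)) =
        ((Nat.card N : ℂ) * c) • (LinearMap.id : (Fin d → ℂ) →ₗ[ℂ] (Fin d → ℂ)) := by
      rw [mul_smul, mul_smul, ← hsq]
      ext v
      simp
    obtain ⟨v, hv⟩ := exists_ne (0 : Fin d → ℂ)
    have h3 := congrArg (fun f : (Fin d → ℂ) →ₗ[ℂ] (Fin d → ℂ) => f v) h2
    simp only [LinearMap.smul_apply, LinearMap.id_apply] at h3
    exact smul_left_injective ℂ hv h3
  have hfin : (finrank ℂ (Fin d → ℂ) : ℂ) = (χ : G → ℂ) 1 := by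
    rw [← hρ, Representation.char_one]
  rw [hρ, hfin] at hc
  have hcases : c = 0 ∨ c = (Nat.card N : ℂ) := by
    have : (c - (Nat.card N : ℂ)) * c = 0 := by
      rw [sub_mul, hc2, sub_self]
    rcases mul_eq_zero.mp this with h | h
    · right; exact sub_eq_zero.mp h
    · left; exact h
  rcases hcases with h0 | hcN
  · right
    rw [← hc, h0, zero_mul]
  · left
    have hχc := IsIrrCharacter.isCharacter χ.2
    have hsum : ∑ x ∈ S, (χ : G → ℂ) x = (Nat.card N : ℂ) * (χ : G → ℂ) 1 := by
      rw [← hc, hcN]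
    obtain ⟨m, hm⟩ := IsCharacter.apply_one hχc
    have hre1 : ((χ : G → ℂ) 1).re = (m : ℝ) := by rw [hm, Complex.natCast_re]
    have hsumre : ∑ x ∈ S, ((m : ℝ) - ((χ : G → ℂ) x).re) = 0 := by
      have h1 := congrArg Complex.re hsum
      rw [Complex.re_sum, hm] at h1
      have h2 : ((Nat.card N : ℂ) * (m : ℂ)).re = (Nat.card N : ℝ) * (m : ℝ) := by
        rw [← Nat.cast_mul, Complex.natCast_re]
        push_cast
        rfl
      rw [h2] at h1
      rw [Finset.sum_sub_distrib, h1, Finset.sum_const, hcardS, nsmul_eq_mul, sub_self]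
    have hnonneg : ∀ x ∈ S, 0 ≤ (m : ℝ) - ((χ : G → ℂ) x).re := by
      intro x _
      have h1 := IsCharacter.norm_le hχc x
      rw [hre1] at h1
      have h2 := Complex.re_le_norm ((χ : G → ℂ) x)
      linarith
    have hall := (Finset.sum_eq_zero_iff_of_nonneg hnonneg).mp hsumre
    intro n hn
    have h1 := hall n ((hmemS n).mpr hn)
    have hre : ((χ : G → ℂ) n).re = (m : ℝ) := by linarith
    have hnorm := IsCharacter.norm_le hχc n
    rw [hre1] at hnorm
    have him : ((χ : G → ℂ) n).im = 0 := by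
      have h2 : ‖(χ : G → ℂ) n‖ ^ 2 = ((χ : G → ℂ) n).re ^ 2 + ((χ : G → ℂ) n).im ^ 2 := by
        rw [Complex.sq_norm, Complex.normSq_apply]
        ring
      have h3 : ‖(χ : G → ℂ) n‖ ^ 2 ≤ (m : ℝ) ^ 2 := by
        apply pow_le_pow_left₀ (norm_nonneg _) hnorm
      rw [h2, hre] at h3
      have h4 : ((χ : G → ℂ) n).im ^ 2 ≤ 0 := by linarith
      have h5 : ((χ : G → ℂ) n).im ^ 2 = 0 := le_antisymm h4 (sq_nonneg _)
      exact pow_eq_zero_iff (two_ne_zero) |>.mp h5
    rw [hm]
    apply Complex.ext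
    · rw [hre, Complex.natCast_re]
    · rw [him, Complex.natCast_im]

/-- The idempotent coefficients of the set of irreducible characters with `N` in the kernel. -/
theorem blockCoeff_kernelSet [Finite G] (N : Subgroup G) [hN : N.Normal] (g : G)
    [Decidable (g ∈ N)] :
    Cfsg.blockCoeff {χ : Cfsg.IrrCharacter G | ∀ n ∈ N, (χ : G → ℂ) n = (χ : G → ℂ) 1} g =
      if g ∈ N then (Nat.card N : ℂ)⁻¹ else 0 := by
  classical
  haveI := Fintype.ofFinite G
  haveI : Finite (Cfsg.IrrCharacter G) := irr_finite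
  haveI : Fintype (Cfsg.IrrCharacter G) := Fintype.ofFinite _
  set A : Set (Cfsg.IrrCharacter G) :=
    {χ : Cfsg.IrrCharacter G | ∀ n ∈ N, (χ : G → ℂ) n = (χ : G → ℂ) 1} with hA
  set δ : G → ℂ := fun x => if x ∈ N then (Nat.card N : ℂ)⁻¹ else 0 with hδ
  have hδcf : Cfsg.IsClassFunction G δ := by
    intro x h
    simp only [hδ]
    have : h * x * h⁻¹ ∈ N ↔ x ∈ N := by
      constructor
      · intro hx
        have := hN.conj_mem _ hx h⁻¹
        simpa [mul_assoc] using this
      · intro hx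
        exact hN.conj_mem x hx h
    by_cases hx : x ∈ N
    · rw [if_pos hx, if_pos (this.mpr hx)]
    · rw [if_neg hx, if_neg (fun h' => hx (this.mp h'))]
  have hN0 : (Nat.card N : ℂ) ≠ 0 := by
    have : 0 < Nat.card N := Nat.card_pos
    exact_mod_cast this.ne'
  have hcardS : (Finset.univ.filter (fun x : G => x ∈ N)).card = Nat.card N := by
    rw [Nat.card_eq_fintype_card, Fintype.card_subtype]
  have hinner : ∀ χ : Cfsg.IrrCharacter G, Cfsg.classInner δ (χ : G → ℂ) =
      if χ ∈ A then (Nat.card G : ℂ)⁻¹ * (χ : G → ℂ) 1 else 0 := by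
    intro χ
    rw [classInner_def]
    have h1 : ∑ x : G, δ x * conj ((χ : G → ℂ) x) =
        (Nat.card N : ℂ)⁻¹ *
          conj (∑ n ∈ Finset.univ.filter (fun x : G => x ∈ N), (χ : G → ℂ) n) := by
      rw [map_sum, Finset.mul_sum, Finset.sum_filter]
      apply Finset.sum_congr rfl
      intro x _
      simp only [hδ]
      by_cases hx : x ∈ N
      · rw [if_pos hx, if_pos hx]
      · rw [if_neg hx, if_neg hx, zero_mul]
    rw [h1]
    obtain ⟨m, hm⟩ := IsCharacter.apply_one (IsIrrCharacter.isCharacter χ.2)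
    by_cases hχ : χ ∈ A
    · rw [if_pos hχ]
      have h2 : ∑ n ∈ Finset.univ.filter (fun x : G => x ∈ N), (χ : G → ℂ) n =
          (Nat.card N : ℂ) * (χ : G → ℂ) 1 := by
        rw [← hcardS, ← nsmul_eq_mul, ← Finset.sum_const]
        apply Finset.sum_congr rfl
        intro n hn
        rw [Finset.mem_filter] at hn
        exact hχ n hn.2
      rw [h2, hm, map_mul, Complex.conj_natCast, Complex.conj_natCast]
      field_simp
    · rw [if_neg hχ]
      rcases kernel_or_sum_eq_zero χ N with h | h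
      · exact absurd h hχ
      · rw [h, map_zero, mul_zero, mul_zero]
  have hexp := classFunction_expansion δ hδcf
  have hval := congrFun hexp g⁻¹
  have hδinv : δ g⁻¹ = δ g := by
    simp only [hδ]
    by_cases hg : g ∈ N
    · rw [if_pos hg, if_pos (N.inv_mem hg)]
    · rw [if_neg hg, if_neg (fun h' => hg (by simpa using N.inv_mem h'))]
  rw [hδinv] at hval
  have hδg : δ g = if g ∈ N then (Nat.card N : ℂ)⁻¹ else 0 := by
    simp only [hδ]
    by_cases hg : g ∈ N
    · rw [if_pos hg, if_pos hg]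
    · rw [if_neg hg, if_neg hg]
  rw [← hδg, hval]
  unfold Cfsg.blockCoeff
  rw [finsum_mem_eq_sum_ite, Finset.sum_apply, Finset.mul_sum]
  apply Finset.sum_congr rfl
  intro χ _
  rw [Pi.smul_apply, smul_eq_mul, hinner χ,
    IsCharacter.inv_eq_conj (IsIrrCharacter.isCharacter χ.2)]
  by_cases hχ : χ ∈ A
  · rw [if_pos hχ, if_pos hχ]
    ring
  · rw [if_neg hχ, if_neg hχ, zero_mul, mul_zero]

end Cfsg.Agent.Helper6
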