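import Mathlib
import Cfsg.Prelude.Def_Characters
import Cfsg.Prelude.Def_Blocks
import Cfsg.Agent.Helper6.BlockEquiv
import Cfsg.Agent.Helper6.KernelSet
import Cfsg.Agent.Helper6.Codegree

/-!
# The kernel of a block
-/

set_option autoImplicit false
set_option linter.style.haveILetI false

namespace Cfsg.Agent.Helper6

open Module Representation
open scoped ComplexConjugate

universe u v

variable {G : Type u} [Group G] {M : Ideal Cfsg.AlgInt}

/-- A class-function-weighted sum of an irreducible representation is a scalar. -/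
theorem sum_classFunction_smul_rep [Fintype G] {V : Type v} [AddCommGroup V] [Module ℂ V]
    [FiniteDimensional ℂ V] (ρ : Representation ℂ G V) [hirr : ρ.IsIrreducible] (a : G → ℂ)
    (ha : Cfsg.IsClassFunction G a) :
    ∃ c : ℂ, (∑ x : G, a x • ρ x) = c • (LinearMap.id : V →ₗ[ℂ] V) ∧
      c * (finrank ℂ V : ℂ) = ∑ x : G, a x * ρ.character x := by
  have hcomm : ∀ g : G, (∑ x : G, a x • ρ x) ∘ₗ ρ g = ρ g ∘ₗ (∑ x : G, a x • ρ x) := by
    intro g
    change (∑ x : G, a x • ρ x) * ρ g = ρ g * (∑ x : G, a x • ρ x)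
    rw [Finset.sum_mul, Finset.mul_sum]
    symm
    apply Fintype.sum_equiv (MulAut.conj g).toEquiv
    intro x
    simp only [MulEquiv.toEquiv_eq_coe, EquivLike.coe_coe, MulAut.conj_apply]
    rw [ha x g, mul_smul_comm, smul_mul_assoc, ← map_mul, ← map_mul]
    congr 2
    group
  obtain ⟨c, hc⟩ := exists_scalar_of_commute ρ _ hcomm
  refine ⟨c, hc, ?_⟩
  have htr := congrArg (LinearMap.trace ℂ V) hc
  rw [map_sum, map_smul, LinearMap.trace_id, smul_eq_mul] at htr
  rw [← htr]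
  apply Finset.sum_congr rfl
  intro x _
  rw [map_smul, smul_eq_mul]
  rfl

/-- Translation formula for class-function-weighted sums of an irreducible character. -/
theorem sum_classFunction_char_translate [Fintype G] (φ : Cfsg.IrrCharacter G) (a : G → ℂ)
    (ha : Cfsg.IsClassFunction G a) (g : G) :
    ∑ x : G, a x * (φ : G → ℂ) (x * g) =
      (∑ x : G, a x * (φ : G → ℂ) x) / (φ : G → ℂ) 1 * (φ : G → ℂ) g := by
  obtain ⟨n, ρ, hirr, hρ⟩ := φ.2
  haveI := hirr
  obtain ⟨c, hc, hc2⟩ := sum_classFunction_smul_rep ρ a ha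
  have hφ1 : (φ : G → ℂ) 1 ≠ 0 := IsIrrCharacter.apply_one_ne_zero φ.2
  have hfin : (finrank ℂ (Fin n → ℂ) : ℂ) = (φ : G → ℂ) 1 := by
    rw [← hρ, Representation.char_one]
  have hcval : c = (∑ x : G, a x * (φ : G → ℂ) x) / (φ : G → ℂ) 1 := by
    rw [eq_div_iff hφ1, ← hfin, hc2, hρ]
  have h1 : (∑ x : G, a x • ρ x) * ρ g = c • ρ g := by
    rw [hc]
    ext y
    simp
  have h2 := congrArg (LinearMap.trace ℂ (Fin n → ℂ)) h1
  rw [Finset.sum_mul, map_sum, map_smul, smul_eq_mul] at h2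
  rw [← hcval, ← hρ]
  have h3 : c * ρ.character g = c * (LinearMap.trace ℂ (Fin n → ℂ)) (ρ g) := rfl
  rw [h3, ← h2]
  apply Finset.sum_congr rfl
  intro x _
  rw [smul_mul_assoc, map_smul, smul_eq_mul, ← map_mul]
  rfl

/-- The idempotent coefficient function is idempotent under convolution. -/
theorem blockCoeff_convolution [Fintype G] (A : Set (Cfsg.IrrCharacter G)) (g : G) :
    ∑ x : G, Cfsg.blockCoeff A x * Cfsg.blockCoeff A (x⁻¹ * g) = Cfsg.blockCoeff A g := by
  classical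
  haveI : Finite (Cfsg.IrrCharacter G) := irr_finite
  haveI : Fintype (Cfsg.IrrCharacter G) := Fintype.ofFinite _
  have hAcf := blockCoeff_isClassFunction A
  have h1 : ∀ x : G, Cfsg.blockCoeff A (x⁻¹ * g) = (Nat.card G : ℂ)⁻¹ *
      ∑ ψ : Cfsg.IrrCharacter G, if ψ ∈ A then (ψ : G → ℂ) 1 * (ψ : G → ℂ) (x * g⁻¹) else 0 := by
    intro x
    unfold Cfsg.blockCoeff
    rw [finsum_mem_eq_sum_ite]
    congr 1
    apply Finset.sum_congr rfl
    intro ψ _
    by_cases hψ : ψ ∈ A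
    · rw [if_pos hψ, if_pos hψ]
      have hψc := IsIrrCharacter.isCharacter ψ.2
      rw [← IsCharacter.inv_eq_conj hψc, mul_inv_rev, inv_inv]
      congr 1
      have := IsCharacter.isClassFunction hψc (x * g⁻¹) g⁻¹
      rw [← this]
      group
    · rw [if_neg hψ, if_neg hψ]
  simp_rw [h1]
  have h2 : ∑ x : G, Cfsg.blockCoeff A x * ((Nat.card G : ℂ)⁻¹ *
      ∑ ψ : Cfsg.IrrCharacter G, if ψ ∈ A then (ψ : G → ℂ) 1 * (ψ : G → ℂ) (x * g⁻¹) else 0) =
      (Nat.card G : ℂ)⁻¹ * ∑ ψ : Cfsg.IrrCharacter G, if ψ ∈ A then (ψ : G → ℂ) 1 *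
        ∑ x : G, Cfsg.blockCoeff A x * (ψ : G → ℂ) (x * g⁻¹) else 0 := by
    rw [Finset.mul_sum]
    have h3 : ∀ x : G, Cfsg.blockCoeff A x * ((Nat.card G : ℂ)⁻¹ *
        ∑ ψ : Cfsg.IrrCharacter G, if ψ ∈ A then (ψ : G → ℂ) 1 * (ψ : G → ℂ) (x * g⁻¹) else 0) =
        ∑ ψ : Cfsg.IrrCharacter G, Cfsg.blockCoeff A x * ((Nat.card G : ℂ)⁻¹ *
          if ψ ∈ A then (ψ : G → ℂ) 1 * (ψ : G → ℂ) (x * g⁻¹) else 0) := by
      intro x
      rw [Finset.mul_sum, Finset.mul_sum]
    simp_rw [h3]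
    rw [Finset.sum_comm]
    apply Finset.sum_congr rfl
    intro ψ _
    by_cases hψ : ψ ∈ A
    · simp only [if_pos hψ]
      rw [Finset.mul_sum, Finset.mul_sum]
      apply Finset.sum_congr rfl
      intro x _
      ring
    · simp only [if_neg hψ, mul_zero, Finset.sum_const_zero]
  rw [h2]
  have hR : Cfsg.blockCoeff A g = (Nat.card G : ℂ)⁻¹ *
      ∑ ψ : Cfsg.IrrCharacter G, if ψ ∈ A then (ψ : G → ℂ) 1 * conj ((ψ : G → ℂ) g) else 0 := by
    unfold Cfsg.blockCoeff
    rw [finsum_mem_eq_sum_ite]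
  rw [hR]
  congr 1
  apply Finset.sum_congr rfl
  intro ψ _
  by_cases hψ : ψ ∈ A
  · rw [if_pos hψ, if_pos hψ]
    have e1 := sum_classFunction_char_translate ψ (Cfsg.blockCoeff A) hAcf g⁻¹
    have e2 := sum_blockCoeff_mul A ψ
    rw [if_pos hψ] at e2
    have hψ1 : (ψ : G → ℂ) 1 ≠ 0 := IsIrrCharacter.apply_one_ne_zero ψ.2
    rw [e1, e2, div_self hψ1, one_mul,
      IsCharacter.inv_eq_conj (IsIrrCharacter.isCharacter ψ.2)]
  · rw [if_neg hψ, if_neg hψ]

/-- Sum of a right-`K`-invariant function over the group. -/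
theorem sum_eq_card_mul_sum_out [Fintype G] (K : Subgroup G) [Fintype (G ⧸ K)] (u : G → ℂ)
    (hu : ∀ x : G, ∀ k ∈ K, u (x * k) = u x) :
    ∑ x : G, u x = (Nat.card K : ℂ) * ∑ q : G ⧸ K, u q.out := by
  classical
  rw [← Finset.sum_fiberwise (s := Finset.univ) (g := (QuotientGroup.mk : G → G ⧸ K)) (f := u),
    Finset.mul_sum]
  apply Finset.sum_congr rfl
  intro q _
  have h1 : ∀ x ∈ Finset.univ.filter (fun x : G => (QuotientGroup.mk x : G ⧸ K) = q),
      u x = u q.out := by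
    intro x hx
    rw [Finset.mem_filter] at hx
    have h2 : (QuotientGroup.mk q.out : G ⧸ K) = QuotientGroup.mk x := by
      rw [hx.2]
      exact QuotientGroup.out_eq' q
    have h3 : q.out⁻¹ * x ∈ K := QuotientGroup.eq.mp h2
    have := hu q.out _ h3
    rw [mul_inv_cancel_left] at this
    exact this
  rw [Finset.sum_congr rfl h1, Finset.sum_const, nsmul_eq_mul]
  congr 1
  have h4 := QuotientGroup.card_preimage_mk K ({q} : Set (G ⧸ K))
  have h5 : ((Finset.univ.filter (fun x : G => (QuotientGroup.mk x : G ⧸ K) = q) : Finset G) :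
      Set G) = QuotientGroup.mk ⁻¹' ({q} : Set (G ⧸ K)) := by
    ext x
    simp
  rw [← h5, Nat.card_coe_set_eq, Set.ncard_coe_finset] at h4
  rw [h4]
  simp

/-- An element in the kernel of a character can be cancelled. -/
theorem IsIrrCharacter.mul_ker [Finite G] {ψ : G → ℂ} (hψ : Cfsg.IsIrrCharacter G ψ) {k : G}
    (hk : ψ k = ψ 1) (x : G) : ψ (x * k) = ψ x ∧ ψ (k * x) = ψ x := by
  obtain ⟨n, ρ, hirr, rfl⟩ := hψ
  have h1 : ρ k = LinearMap.id := by
    rw [← char_eq_finrank_iff, hk, Representation.char_one]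
  constructor
  · unfold Representation.character
    rw [map_mul, h1]
    rfl
  · unfold Representation.character
    rw [map_mul, h1]
    rfl

/-- The subgroup `{g | ψ g = ψ 1}`. -/
noncomputable def kerSub [Finite G] (ψ : Cfsg.IrrCharacter G) : Subgroup G :=
  (exists_kernel_data ψ.2).choose

theorem kerSub_normal [Finite G] (ψ : Cfsg.IrrCharacter G) : (kerSub ψ).Normal :=
  (exists_kernel_data ψ.2).choose_spec.1

theorem mem_kerSub [Finite G] (ψ : Cfsg.IrrCharacter G) (g : G) :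
    g ∈ kerSub ψ ↔ (ψ : G → ℂ) g = (ψ : G → ℂ) 1 :=
  (exists_kernel_data ψ.2).choose_spec.2.1 g

/-- The kernel of a block is a normal `p'`-subgroup, the largest one in the kernel of any member
of the block. -/
theorem block_kernel [Finite G] (hM : M.IsMaximal) (p : ℕ) (hp : p.Prime)
    (hpM : (p : Cfsg.AlgInt) ∈ M) (B : Set (Cfsg.IrrCharacter G)) (hB : Cfsg.IsPBlock M B)
    (χ : Cfsg.IrrCharacter G) (hχ : χ ∈ B) :
    ∃ K : Subgroup G, K.Normal ∧ (K : Set G) = Cfsg.blockKer B ∧ ¬ p ∣ Nat.card K ∧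
      (∀ g ∈ K, (χ : G → ℂ) g = (χ : G → ℂ) 1) ∧
      ∀ N : Subgroup G, N.Normal → ¬ p ∣ Nat.card N →
        (∀ g ∈ N, (χ : G → ℂ) g = (χ : G → ℂ) 1) → N ≤ K := by
  classical
  haveI := Fintype.ofFinite G
  set K : Subgroup G := ⨅ ψ : Cfsg.IrrCharacter G, ⨅ _ : ψ ∈ B, kerSub ψ with hK
  have hmem : ∀ g : G, g ∈ K ↔ ∀ ψ ∈ B, (ψ : G → ℂ) g = (ψ : G → ℂ) 1 := by
    intro g
    rw [hK]
    simp only [Subgroup.mem_iInf, mem_kerSub]
  have hKn : K.Normal := by
    rw [hK]
    apply Subgroup.normal_iInf_normal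
    intro ψ
    apply Subgroup.normal_iInf_normal
    intro _
    exact kerSub_normal ψ
  have hBχ : B = Cfsg.blockOf M (χ : G → ℂ) := by
    obtain ⟨χ₀, rfl⟩ := hB
    exact blockOf_eq_of_sameBlock hM hχ
  refine ⟨K, hKn, ?_, ?_, ?_, ?_⟩
  · ext g
    exact hmem g
  · -- the order of the kernel is prime to `p`
    intro hdvd
    haveI : Fintype (G ⧸ K) := Fintype.ofFinite _
    have hS : ∀ g : G, Cfsg.MemLocalRing M (Cfsg.blockCoeff B g) := fun g => osima hM B hB g
    obtain ⟨g₀, -, hg₀, -⟩ := exists_defectClass hM B hB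
    have hinvr : ∀ x : G, ∀ k ∈ K, Cfsg.blockCoeff B (x * k) = Cfsg.blockCoeff B x := by
      intro x k hk
      unfold Cfsg.blockCoeff
      congr 1
      apply finsum_congr
      intro ψ
      apply finsum_congr
      intro hψ
      rw [(IsIrrCharacter.mul_ker ψ.2 ((hmem k).mp hk ψ hψ) x).1]
    have hinvl : ∀ x : G, ∀ k ∈ K, Cfsg.blockCoeff B (k * x) = Cfsg.blockCoeff B x := by
      intro x k hk
      unfold Cfsg.blockCoeff
      congr 1
      apply finsum_congr
      intro ψ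
      apply finsum_congr
      intro hψ
      rw [(IsIrrCharacter.mul_ker ψ.2 ((hmem k).mp hk ψ hψ) x).2]
    have hconv := blockCoeff_convolution B g₀
    have hu : ∀ x : G, ∀ k ∈ K, Cfsg.blockCoeff B (x * k) * Cfsg.blockCoeff B ((x * k)⁻¹ * g₀) =
        Cfsg.blockCoeff B x * Cfsg.blockCoeff B (x⁻¹ * g₀) := by
      intro x k hk
      rw [hinvr x k hk, mul_inv_rev, mul_assoc, hinvl _ k⁻¹ (K.inv_mem hk)]
    rw [sum_eq_card_mul_sum_out K _ hu] at hconv
    apply hg₀
    rw [← hconv, mul_comm]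
    apply MemLocalIdeal.mul_left hM
    · apply MemLocalRing.sum hM
      intro q _
      exact MemLocalRing.mul hM (hS _) (hS _)
    · have := memLocalIdeal_of_mem hM (natCast_mem_of_dvd hpM hdvd)
      simpa using this
  · intro g hg
    exact (hmem g).mp hg χ hχ
  · intro N hNn hpN hNχ
    haveI := hNn
    have hinvN : Cfsg.MemLocalRing M ((Nat.card N : ℂ)⁻¹) := by
      have hnot : (Nat.card N : Cfsg.AlgInt) ∉ M := natCast_not_mem_of_not_dvd hM hp hpM hpN
      refine ⟨1, (Nat.card N : Cfsg.AlgInt), hnot, ?_⟩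
      simp
    set A : Set (Cfsg.IrrCharacter G) :=
      {φ : Cfsg.IrrCharacter G | ∀ n ∈ N, (φ : G → ℂ) n = (φ : G → ℂ) 1} with hA
    have hAS : ∀ g : G, Cfsg.MemLocalRing M (Cfsg.blockCoeff A g) := by
      intro g
      rw [hA, blockCoeff_kernelSet N g]
      by_cases hg : g ∈ N
      · rw [if_pos hg]; exact hinvN
      · rw [if_neg hg]; exact memLocalRing_zero hM
    have hsub := block_subset_of_local M hM A hAS χ hNχ
    intro n hn
    rw [hmem]
    intro ψ hψ
    rw [hBχ] at hψ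
    exact hsub hψ n hn

end Cfsg.Agent.Helper6
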