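import Mathlib
import Cfsg.Prelude.Def_Characters
import Cfsg.Agent.Helper6.GaloisChar

/-!
# Sums of character values over sets closed under coprime powers are integers
-/

set_option autoImplicit false
set_option linter.style.haveILetI false

namespace Cfsg.Agent.Helper6

open Polynomial

section

variable (n : ℕ) [NeZero n]

theorem powSum_sum_int_aux {L : Type*} [Field L] [Algebra ℚ L] [IsCyclotomicExtension {n} ℚ L]
    {ι : Type*} [Fintype ι] (μ : ι → ℂ) (hμ : ∀ i, μ i ^ n = 1) :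
    ∃ m : ℤ, ∑ k : (ZMod n)ˣ, (∑ i, μ i ^ (k : ZMod n).val) = m := by
  classical
  haveI : FiniteDimensional ℚ L := IsCyclotomicExtension.finiteDimensional {n} ℚ L
  haveI : IsGalois ℚ L := IsCyclotomicExtension.isGalois {n} ℚ L
  obtain ⟨φ, α, hαint, hσ⟩ := galois_core n (L := L) μ hμ
  set e := IsCyclotomicExtension.autEquivPow L (cyclotomic.irreducible_rat (NeZero.pos n)) with he
  have htr := trace_eq_sum_automorphisms (K := ℚ) α
  have hsum : ∑ k : (ZMod n)ˣ, (∑ i, μ i ^ (k : ZMod n).val) =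
      φ (∑ σ : Gal(L/ℚ), σ α) := by
    rw [map_sum]
    symm
    apply Fintype.sum_equiv e.toEquiv
    intro σ
    rw [hσ σ]
    rfl
  rw [hsum, ← htr, AlgHom.commutes]
  have hint : IsIntegral ℤ (Algebra.trace ℚ L α) := Algebra.isIntegral_trace hαint
  obtain ⟨m, hm⟩ := IsIntegrallyClosed.isIntegral_iff.mp hint
  refine ⟨m, ?_⟩
  rw [← hm]
  simp

theorem powSum_sum_int {ι : Type*} [Fintype ι] (μ : ι → ℂ) (hμ : ∀ i, μ i ^ n = 1) :
    ∃ m : ℤ, ∑ k : (ZMod n)ˣ, (∑ i, μ i ^ (k : ZMod n).val) = m :=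
  @powSum_sum_int_aux n _ (CyclotomicField n ℚ) _ (CyclotomicField.algebra n ℚ)
    (CyclotomicField.isCyclotomicExtension n ℚ) ι _ μ hμ

end

open Module Representation

universe u v

variable {G : Type u} [Group G] [Finite G] {V : Type v} [AddCommGroup V] [Module ℂ V]
  [FiniteDimensional ℂ V]

theorem sum_char_pow_int (ρ : Representation ℂ G V) (g : G) (n : ℕ) [NeZero n]
    (hn : g ^ n = 1) :
    ∃ m : ℤ, ∑ k : (ZMod n)ˣ, ρ.character (g ^ (k : ZMod n).val) = m := by
  classical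
  obtain ⟨ι, hι, b, μ, h1, h2, -⟩ := exists_eigenbasis_rep ρ g
  have hμ : ∀ i, μ i ^ n = 1 := by
    intro i
    obtain ⟨c, hc⟩ := orderOf_dvd_of_pow_eq_one hn
    rw [hc, pow_mul, h2 i, one_pow]
  have hpow : ∀ k : ℕ, ρ.character (g ^ k) = ∑ i, μ i ^ k := char_pow_eq_sum ρ g b μ h1
  simp_rw [hpow]
  exact powSum_sum_int n μ hμ

/-- The sum of a character over a set closed under coprime powers is an integer. -/
theorem sum_char_int_of_closed (ρ : Representation ℂ G V) (S : Finset G)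
    (hS : ∀ g ∈ S, ∀ m : ℕ, m.Coprime (Nat.card G) → g ^ m ∈ S) :
    ∃ z : ℤ, ∑ g ∈ S, ρ.character g = z := by
  classical
  haveI : NeZero (Nat.card G) := ⟨Nat.card_pos.ne'⟩
  set n := Nat.card G with hn
  have hperm : ∀ k : (ZMod n)ˣ, ∑ g ∈ S, ρ.character (g ^ (k : ZMod n).val) =
      ∑ g ∈ S, ρ.character g := by
    intro k
    have hcop : Nat.Coprime (k : ZMod n).val n := ZMod.val_coe_unit_coprime k
    have hinj : Function.Injective (fun g : G => g ^ (k : ZMod n).val) :=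
      (powCoprime hcop.symm).injective
    have himg : S.image (fun g : G => g ^ (k : ZMod n).val) = S := by
      apply Finset.eq_of_subset_of_card_le
      · intro h hh
        obtain ⟨g, hg, rfl⟩ := Finset.mem_image.mp hh
        exact hS g hg _ hcop
      · rw [Finset.card_image_of_injective _ hinj]
    conv_rhs => rw [← himg]
    rw [Finset.sum_image (fun a _ b _ hab => hinj hab)]
  have hm : ∀ g : G, ∃ m : ℤ, ∑ k : (ZMod n)ˣ, ρ.character (g ^ (k : ZMod n).val) = m :=
    fun g => sum_char_pow_int ρ g n (by rw [hn]; exact pow_card_eq_one')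
  choose m hm using hm
  have h1 : (Fintype.card (ZMod n)ˣ : ℂ) * ∑ g ∈ S, ρ.character g = ((∑ g ∈ S, m g : ℤ) : ℂ) := by
    have : ∑ k : (ZMod n)ˣ, ∑ g ∈ S, ρ.character (g ^ (k : ZMod n).val) =
        (Fintype.card (ZMod n)ˣ : ℂ) * ∑ g ∈ S, ρ.character g := by
      simp only [hperm, Finset.sum_const, Finset.card_univ, nsmul_eq_mul]
    rw [← this, Finset.sum_comm]
    push_cast
    apply Finset.sum_congr rfl
    intro g _
    exact hm g
  have hφ : (Fintype.card (ZMod n)ˣ : ℂ) ≠ 0 := by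
    have : 0 < Fintype.card (ZMod n)ˣ := Fintype.card_pos
    exact_mod_cast this.ne'
  have hq : ∑ g ∈ S, ρ.character g =
      algebraMap ℚ ℂ (((∑ g ∈ S, m g : ℤ) : ℚ) / (Fintype.card (ZMod n)ˣ : ℚ)) := by
    rw [map_div₀]
    rw [eq_div_iff (by simpa using hφ)]
    rw [mul_comm]
    simp only [map_intCast, map_natCast]
    exact h1
  have hint : IsIntegral ℤ (∑ g ∈ S, ρ.character g) :=
    IsIntegral.sum _ (fun g _ => isIntegral_char ρ g)
  rw [hq] at hint
  have hint' : IsIntegral ℤ (((∑ g ∈ S, m g : ℤ) : ℚ) / (Fintype.card (ZMod n)ˣ : ℚ)) :=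
    (isIntegral_algebraMap_iff (algebraMap ℚ ℂ).injective).mp hint
  obtain ⟨z, hz⟩ := IsIntegrallyClosed.isIntegral_iff.mp hint'
  refine ⟨z, ?_⟩
  rw [hq, ← hz]
  simp

end Cfsg.Agent.Helper6
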