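import Mathlib
import Cfsg.Prelude.Def_Characters
import Cfsg.Agent.Helper6.GaloisTrace
import Cfsg.Agent.Helper6.Linear
import Cfsg.Agent.Helper6.Expansion
import Cfsg.Agent.Helper6.IndFun
import Cfsg.Agent.Helper6.Induced
import Cfsg.Agent.Helper6.NormalInd

/-!
# Artin's induction theorem
-/

set_option autoImplicit false
set_option linter.style.haveILetI false

namespace Cfsg.Agent.Helper6

open Module Representation ComplexConjugate

universe u v

variable {G : Type u} [Group G]

/-- Fourier expansion on a finite abelian group. -/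
theorem abelian_expansion {A : Type u} [Group A] [Fintype A] [Fintype (A →* ℂˣ)]
    (hab : ∀ a b : A, a * b = b * a) (f : A → ℂ) :
    f = ∑ lam : A →* ℂˣ, Cfsg.classInner f (fun a => ((lam a : ℂˣ) : ℂ)) •
      (fun a => ((lam a : ℂˣ) : ℂ)) := by
  classical
  haveI : Finite (Cfsg.IrrCharacter A) := irr_finite
  haveI : Fintype (Cfsg.IrrCharacter A) := Fintype.ofFinite _
  have hcf : Cfsg.IsClassFunction A f := by
    intro g h
    rw [hab h g, mul_inv_cancel_right]
  have hexp := classFunction_expansion f hcf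
  have hdeg := comm_iff_forall_irr_degree_one.mp hab
  let e : (A →* ℂˣ) ≃ Cfsg.IrrCharacter A :=
    homEquivLinearIrr.trans (Equiv.subtypeUnivEquiv hdeg)
  conv_lhs => rw [hexp]
  symm
  apply Fintype.sum_equiv e
  intro lam
  rfl

/-- push-pull formula -/
theorem mul_indFun [Fintype G] (H : Subgroup G) (f : H → ℂ) (χ : G → ℂ)
    (hχ : Cfsg.IsClassFunction G χ) :
    χ * Cfsg.indFun H f = Cfsg.indFun H (fun h => χ h * f h) := by
  ext g
  rw [Pi.mul_apply, indFun_apply, indFun_apply, mul_left_comm, Finset.mul_sum]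
  congr 1
  apply Finset.sum_congr rfl
  intro x _
  have h1 : χ g = χ (x⁻¹ * g * x) := by
    have := hχ g x⁻¹
    rw [inv_inv] at this
    exact this.symm
  by_cases hx : x⁻¹ * g * x ∈ H
  · rw [extendByZero_mem H _ hx, extendByZero_mem H _ hx, h1]
  · rw [extendByZero_not_mem H _ hx, extendByZero_not_mem H _ hx, mul_zero]

theorem indFun_sum [Fintype G] (H : Subgroup G) {ι : Type*} (s : Finset ι) (f : ι → H → ℂ) :
    Cfsg.indFun H (∑ i ∈ s, f i) = ∑ i ∈ s, Cfsg.indFun H (f i) := by
  classical
  induction s using Finset.induction_on with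
  | empty => simp [indFun_zero]
  | insert a s ha ih => rw [Finset.sum_insert ha, Finset.sum_insert ha, indFun_add, ih]

open Classical in
/-- The Artin function of a subgroup: `|C|` on generators and `0` elsewhere. -/
noncomputable def artinFun (C : Subgroup G) : C → ℂ :=
  fun x => if Subgroup.zpowers (x : G) = C then (Nat.card C : ℂ) else 0

open Classical in
theorem indFun_artinFun [Fintype G] (C : Subgroup G) (g : G) :
    Cfsg.indFun C (artinFun C) g =
      ((Finset.univ.filter (fun x : G => Subgroup.zpowers (x⁻¹ * g * x) = C)).card : ℂ) := by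
  rw [indFun_apply]
  have h1 : ∀ x : G, Cfsg.extendByZero C (artinFun C) (x⁻¹ * g * x) =
      if Subgroup.zpowers (x⁻¹ * g * x) = C then (Nat.card C : ℂ) else 0 := by
    intro x
    by_cases hx : x⁻¹ * g * x ∈ C
    · rw [extendByZero_mem C _ hx]
      rfl
    · rw [extendByZero_not_mem C _ hx, if_neg]
      intro h
      apply hx
      rw [← h]
      exact Subgroup.mem_zpowers _
  simp only [h1]
  rw [← Finset.sum_filter, Finset.sum_const, nsmul_eq_mul, ← mul_assoc, mul_comm, ← mul_assoc]
  have : (Nat.card C : ℂ) ≠ 0 := by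
    have : 0 < Nat.card C := Nat.card_pos
    exact_mod_cast this.ne'
  rw [mul_inv_cancel₀ this, one_mul]

open Classical in
/-- The sum of the functions induced from the Artin functions of the cyclic subgroups is the
constant `|G|`. -/
theorem sum_indFun_artinFun [Fintype G] [Fintype (Subgroup G)] (g : G) :
    ∑ C ∈ Finset.univ.filter (fun C : Subgroup G => IsCyclic C),
      Cfsg.indFun C (artinFun C) g = (Nat.card G : ℂ) := by
  simp only [indFun_artinFun]
  rw [← Nat.cast_sum]
  congr 1
  rw [Nat.card_eq_fintype_card, ← Finset.card_univ]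
  symm
  apply Finset.card_eq_sum_card_fiberwise (f := fun x : G => Subgroup.zpowers (x⁻¹ * g * x))
  intro x _
  simp only [Finset.coe_filter, Finset.mem_univ, true_and, Set.mem_ofPred_eq]
  infer_instance


open Classical in
/-- The coefficients of `χ_C · θ_C` in terms of linear characters are integers. -/
theorem artin_coeff_int [Fintype G] (C : Subgroup G) (χ : G → ℂ) (hχ : Cfsg.IsCharacter G χ)
    (lam : C →* ℂˣ) :
    ∃ z : ℤ, Cfsg.classInner (fun h : C => χ h * artinFun C h)
      (fun a => ((lam a : ℂˣ) : ℂ)) = z := by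
  have hψ : Cfsg.IsCharacter C ((fun h : C => χ h) * fun a : C => conj (((lam a : ℂˣ) : ℂ))) :=
    IsCharacter.mul (IsCharacter.restrict C hχ)
      (IsIrrCharacter.isCharacter (conj_isIrr (isIrrCharacter_of_hom lam)))
  obtain ⟨n, ρ, hρ⟩ := hψ
  set T : Finset C := Finset.univ.filter (fun x : C => Subgroup.zpowers (x : G) = C) with hT
  have hclosed : ∀ g ∈ T, ∀ m : ℕ, m.Coprime (Nat.card C) → g ^ m ∈ T := by
    intro g hg m hm
    rw [hT, Finset.mem_filter] at hg ⊢
    refine ⟨Finset.mem_univ _, ?_⟩
    obtain ⟨j, hj⟩ := exists_pow_pow_eq g m hm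
    apply le_antisymm
    · exact Subgroup.zpowers_le.mpr (g ^ m).2
    · intro y hy
      rw [← hg.2] at hy
      have hle : Subgroup.zpowers (g : G) ≤ Subgroup.zpowers ((g ^ m : C) : G) := by
        rw [Subgroup.zpowers_le]
        have : (g : G) = ((g ^ m : C) : G) ^ j := by
          rw [← Subgroup.coe_pow, hj]
        rw [this]
        exact Subgroup.pow_mem _ (Subgroup.mem_zpowers _) j
      exact hle hy
  obtain ⟨z, hz⟩ := sum_char_int_of_closed ρ T hclosed
  refine ⟨z, ?_⟩
  rw [← hz, hρ]
  unfold Cfsg.classInner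
  have hC0 : (Nat.card C : ℂ) ≠ 0 := by
    have : 0 < Nat.card C := Nat.card_pos
    exact_mod_cast this.ne'
  rw [Finset.mul_sum, hT, Finset.sum_filter]
  apply Finset.sum_congr rfl
  intro x _
  unfold artinFun
  beta_reduce
  by_cases h : Subgroup.zpowers (x : G) = C
  · rw [if_pos h, if_pos h]
    simp only [Pi.mul_apply]
    field_simp
  · rw [if_neg h, if_neg h]
    simp

open Classical in
/-- `χ_C · θ_C` is an integer combination of linear characters, for abelian `C`. -/
theorem artin_expansion [Fintype G] (C : Subgroup G) [Fintype (C →* ℂˣ)]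
    (hab : ∀ a b : C, a * b = b * a) (χ : G → ℂ)
    (z : (C →* ℂˣ) → ℤ) (hz : ∀ lam : C →* ℂˣ, Cfsg.classInner (fun h : C => χ h * artinFun C h)
      (fun a => ((lam a : ℂˣ) : ℂ)) = z lam) :
    (fun h : C => χ h * artinFun C h) =
      ∑ lam : C →* ℂˣ, ((z lam : ℤ) : ℂ) • (fun a => ((lam a : ℂˣ) : ℂ)) := by
  have h := abelian_expansion hab (fun h : C => χ h * artinFun C h)
  simp only [hz] at h
  exact h

/-- Artin's induction theorem. -/
theorem artin_induction [Fintype G] (χ : G → ℂ) (hχ : Cfsg.IsCharacter G χ) :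
    ∃ l : List ((A : Subgroup G) × ((A →* ℂˣ) × ℤ)), (∀ t ∈ l, IsCyclic t.1) ∧
      (Nat.card G : ℂ) • χ =
        (l.map fun t => (t.2.2 : ℂ) • Cfsg.indFun t.1 (fun a => (t.2.1 a : ℂ))).sum := by
  classical
  haveI : Fintype (Subgroup G) := Fintype.ofFinite _
  haveI hfin : ∀ C : Subgroup G, Finite (C →* ℂˣ) := by
    intro C
    apply Nat.finite_of_card_ne_zero
    rw [card_hom_units]
    exact Subgroup.index_ne_zero_of_finite
  haveI : ∀ C : Subgroup G, Fintype (C →* ℂˣ) := fun C => Fintype.ofFinite _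
  have hzex : ∀ C : Subgroup G, ∀ lam : C →* ℂˣ, ∃ z : ℤ,
      Cfsg.classInner (fun h : C => χ h * artinFun C h) (fun a => ((lam a : ℂˣ) : ℂ)) = z :=
    fun C lam => artin_coeff_int C χ hχ lam
  choose z hz using hzex
  set S : Finset (Σ C : Subgroup G, (C →* ℂˣ)) :=
    (Finset.univ.filter (fun C : Subgroup G => IsCyclic C)).sigma (fun C => Finset.univ) with hS
  refine ⟨S.toList.map (fun t => ⟨t.1, (t.2, z t.1 t.2)⟩), ?_, ?_⟩
  · intro t ht
    rw [List.mem_map] at ht
    obtain ⟨s, hs, rfl⟩ := ht
    rw [Finset.mem_toList, hS, Finset.mem_sigma, Finset.mem_filter] at hs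
    exact hs.1.2
  · rw [List.map_map]
    rw [Finset.sum_map_toList S]
    rw [hS, Finset.sum_sigma]
    simp only [Function.comp_apply]
    have h1 : (Nat.card G : ℂ) • χ = χ * ∑ C ∈ Finset.univ.filter (fun C : Subgroup G => IsCyclic C),
        Cfsg.indFun C (artinFun C) := by
      ext g
      rw [Pi.smul_apply, Pi.mul_apply, Finset.sum_apply, sum_indFun_artinFun, smul_eq_mul, mul_comm]
    rw [h1, Finset.mul_sum]
    apply Finset.sum_congr rfl
    intro C hC
    rw [Finset.mem_filter] at hC
    haveI : IsCyclic C := hC.2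
    have hab : ∀ a b : C, a * b = b * a := fun a b => IsCyclic.isMulCommutative.is_comm.comm a b
    rw [mul_indFun C (artinFun C) χ (IsCharacter.isClassFunction hχ)]
    rw [artin_expansion C hab χ (z C) (hz C), indFun_sum]
    apply Finset.sum_congr rfl
    intro lam _
    rw [indFun_smul]

end Cfsg.Agent.Helper6
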