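import Mathlib
import Cfsg.Prelude.Def_Characters
import Cfsg.Prelude.Def_Blocks
import Cfsg.Agent.Helper6.BlockUnion
import Cfsg.Agent.Helper6.Osima1

/-!
# The local ring at a maximal ideal as a subring of `ℂ`; determinants modulo the local ideal;
idempotent complex matrices
-/

set_option autoImplicit false
set_option linter.style.haveILetI false

namespace Cfsg.Agent.Helper6

open Module

variable {M : Ideal Cfsg.AlgInt}

/-- The local ring at `M` as a subring of `ℂ`. -/
def localSubring (M : Ideal Cfsg.AlgInt) (hM : M.IsMaximal) : Subring ℂ where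
  carrier := {z | Cfsg.MemLocalRing M z}
  mul_mem' := fun ha hb => MemLocalRing.mul hM ha hb
  one_mem' := memLocalRing_one hM
  add_mem' := fun ha hb => MemLocalRing.add hM ha hb
  zero_mem' := memLocalRing_zero hM
  neg_mem' := fun ha => MemLocalRing.neg ha

theorem mem_localSubring (hM : M.IsMaximal) (z : ℂ) :
    z ∈ localSubring M hM ↔ Cfsg.MemLocalRing M z := Iff.rfl

/-- The local ideal as an ideal of the local ring. -/
def localIdeal (M : Ideal Cfsg.AlgInt) (hM : M.IsMaximal) : Ideal (localSubring M hM) where
  carrier := {z | Cfsg.MemLocalIdeal M (z : ℂ)}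
  add_mem' := fun ha hb => MemLocalIdeal.add hM ha hb
  zero_mem' := memLocalIdeal_zero hM
  smul_mem' := fun c _ hx => MemLocalIdeal.mul_left hM c.2 hx

theorem mem_localIdeal (hM : M.IsMaximal) (z : localSubring M hM) :
    z ∈ localIdeal M hM ↔ Cfsg.MemLocalIdeal M (z : ℂ) := Iff.rfl

/-- Determinants of matrices over the local ring that are congruent entrywise modulo the local
ideal are congruent. -/
theorem det_congr_mod (hM : M.IsMaximal) {n : Type*} [Fintype n] [DecidableEq n]
    (A B : Matrix n n ℂ) (hA : ∀ i j, Cfsg.MemLocalRing M (A i j))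
    (hAB : ∀ i j, Cfsg.MemLocalIdeal M (A i j - B i j))
    (hB : ∀ i j, Cfsg.MemLocalRing M (B i j)) :
    Cfsg.MemLocalIdeal M (A.det - B.det) := by
  set R := localSubring M hM with hR
  let A' : Matrix n n R := fun i j => ⟨A i j, hA i j⟩
  let B' : Matrix n n R := fun i j => ⟨B i j, hB i j⟩
  have hA' : A = A'.map R.subtype := by
    ext i j
    rfl
  have hB' : B = B'.map R.subtype := by
    ext i j
    rfl
  have h1 : A.det = R.subtype A'.det := by
    rw [hA']
    exact (RingHom.map_det R.subtype A').symm
  have h2 : B.det = R.subtype B'.det := by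
    rw [hB']
    exact (RingHom.map_det R.subtype B').symm
  let φ := Ideal.Quotient.mk (localIdeal M hM)
  have h3 : A'.map φ = B'.map φ := by
    ext i j
    simp only [Matrix.map_apply]
    apply (Ideal.Quotient.eq).mpr
    rw [mem_localIdeal]
    exact hAB i j
  have h4 : φ A'.det = φ B'.det := by
    rw [RingHom.map_det, RingHom.map_det]
    change (A'.map φ).det = (B'.map φ).det
    rw [h3]
  have h5 : A'.det - B'.det ∈ localIdeal M hM := (Ideal.Quotient.eq).mp h4
  rw [mem_localIdeal] at h5
  rw [h1, h2]
  exact h5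

/-- An idempotent complex matrix: the determinant of `1 + (z - 1) P` is `z ^ r`, `r` the trace. -/
theorem idem_matrix_det {n : Type*} [Fintype n] [DecidableEq n] (P : Matrix n n ℂ)
    (hP : P * P = P) :
    ∃ r : ℕ, r ≤ Fintype.card n ∧ P.trace = r ∧ ∀ z : ℂ, (1 + (z - 1) • P).det = z ^ r := by
  set f : (n → ℂ) →ₗ[ℂ] (n → ℂ) := Matrix.toLin' P with hf
  have hidem : IsIdempotentElem f := by
    change f * f = f
    rw [hf, Module.End.mul_eq_comp, ← Matrix.toLin'_mul, hP]
  have hproj := LinearMap.IsIdempotentElem.isProj_range f hidem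
  set p := LinearMap.range f with hp
  set e := p.prodEquivOfIsCompl (LinearMap.ker f) hproj.isCompl with he
  have hconj := hproj.eq_conj_prodMap
  refine ⟨finrank ℂ p, ?_, ?_, ?_⟩
  · have := Submodule.finrank_le p
    rwa [Module.finrank_fintype_fun_eq_card] at this
  · have h1 := hproj.trace
    rw [← h1, hf, Matrix.trace_toLin'_eq]
  · intro z
    have h1 : (1 + (z - 1) • P).det = LinearMap.det (Matrix.toLin' (1 + (z - 1) • P)) := by
      rw [LinearMap.det_toLin']
    have h2 : Matrix.toLin' (1 + (z - 1) • P) = LinearMap.id + (z - 1) • f := by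
      rw [map_add, map_smul, Matrix.toLin'_one]
    have h3 : LinearMap.id + (z - 1) • f =
        e.conj (LinearMap.prodMap (z • LinearMap.id) LinearMap.id) := by
      have h4 : (LinearMap.id : (n → ℂ) →ₗ[ℂ] (n → ℂ)) = e.conj LinearMap.id := by
        rw [LinearEquiv.conj_id]
      have h5 : (z - 1) • f = e.conj ((z - 1) • LinearMap.prodMap LinearMap.id 0) := by
        rw [map_smul, ← hconj]
      rw [h5]
      nth_rewrite 1 [h4]
      rw [← map_add]
      congr 1
      ext ⟨a, b⟩ <;> simp [sub_smul]
    rw [h1, h2, h3, LinearEquiv.conj_apply, LinearMap.comp_assoc, LinearMap.det_conj,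
      LinearMap.det_prodMap, LinearMap.det_smul, LinearMap.det_id, LinearMap.det_id, mul_one,
      mul_one]

end Cfsg.Agent.Helper6
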