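import Mathlib
import Cfsg.Prelude.Def_Characters
import Cfsg.Prelude.Def_Blocks
import Cfsg.Agent.Helper6.BlockBasic2

/-!
# Roots of unity of order prime to `p` modulo a maximal ideal over `p`
-/

set_option autoImplicit false
set_option linter.style.haveILetI false

namespace Cfsg.Agent.Helper6

open scoped ComplexConjugate

/-- A root of unity of order prime to `p` congruent to one modulo `M` is one. -/
theorem eq_one_of_pow_eq_one_of_mem (p : ℕ) (hpp : p.Prime) (M : Ideal Cfsg.AlgInt)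
    (hM : M.IsMaximal) (hp : (p : Cfsg.AlgInt) ∈ M) (u : Cfsg.AlgInt) (n : ℕ) (hn : ¬ p ∣ n)
    (hu : u ^ n = 1) (h1 : 1 - u ∈ M) : u = 1 := by
  by_contra hne
  have hgeom : (∑ i ∈ Finset.range n, u ^ i) * (u - 1) = 0 := by
    rw [geom_sum_mul, hu, sub_self]
  have hsum0 : ∑ i ∈ Finset.range n, u ^ i = 0 := by
    rcases mul_eq_zero.mp hgeom with h | h
    · exact h
    · exact absurd (sub_eq_zero.mp h) hne
  have hnM : (n : Cfsg.AlgInt) ∈ M := by
    have h2 : (n : Cfsg.AlgInt) = ∑ i ∈ Finset.range n, (1 - u ^ i) := by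
      rw [Finset.sum_sub_distrib, hsum0, sub_zero, Finset.sum_const, Finset.card_range,
        nsmul_eq_mul, mul_one]
    rw [h2]
    apply Ideal.sum_mem
    intro i _
    obtain ⟨c, hc⟩ := sub_dvd_pow_sub_pow (1 : Cfsg.AlgInt) u i
    rw [one_pow] at hc
    rw [hc]
    exact M.mul_mem_right _ h1
  exact natCast_not_mem_of_not_dvd hM hpp hp hn hnM

/-- Reduction modulo `M` is injective on roots of unity of order prime to `p`. -/
theorem roots_injective_mod (p : ℕ) (hpp : p.Prime) (M : Ideal Cfsg.AlgInt)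
    (hM : M.IsMaximal) (hp : (p : Cfsg.AlgInt) ∈ M) (ε₁ ε₂ : Cfsg.AlgInt)
    (h₁ : ∃ m : ℕ, ¬ p ∣ m ∧ (ε₁ : ℂ) ^ m = 1) (h₂ : ∃ m : ℕ, ¬ p ∣ m ∧ (ε₂ : ℂ) ^ m = 1)
    (hmem : ε₁ - ε₂ ∈ M) : ε₁ = ε₂ := by
  obtain ⟨m₁, hm₁, he₁⟩ := h₁
  obtain ⟨m₂, hm₂, he₂⟩ := h₂
  have he₁' : ε₁ ^ m₁ = 1 := by
    apply Subtype.ext
    rw [SubmonoidClass.coe_pow]
    exact he₁
  have he₂' : ε₂ ^ m₂ = 1 := by
    apply Subtype.ext
    rw [SubmonoidClass.coe_pow]
    exact he₂
  set n := m₁ * m₂ with hn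
  have hpn : ¬ p ∣ n := by
    intro h
    rcases (Nat.Prime.dvd_mul hpp).mp h with h | h
    · exact hm₁ h
    · exact hm₂ h
  have hn0 : n ≠ 0 := by
    rintro h0
    apply hpn
    rw [h0]
    exact dvd_zero p
  have h1n : ε₁ ^ n = 1 := by rw [hn, pow_mul, he₁', one_pow]
  have h2n : ε₂ ^ n = 1 := by rw [hn, mul_comm, pow_mul, he₂', one_pow]
  obtain ⟨n', hn'⟩ := Nat.exists_eq_succ_of_ne_zero hn0
  have hinv : ε₁ ^ n' * ε₁ = 1 := by
    rw [← pow_succ, ← Nat.succ_eq_add_one, ← hn', h1n]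
  set u := ε₂ * ε₁ ^ n' with hu
  have hun : u ^ n = 1 := by
    rw [hu, mul_pow, h2n, one_mul, ← pow_mul, mul_comm, pow_mul, h1n, one_pow]
  have h1u : 1 - u ∈ M := by
    have : 1 - u = ε₁ ^ n' * (ε₁ - ε₂) := by
      rw [hu, mul_sub, hinv]
      ring
    rw [this]
    exact M.mul_mem_left _ hmem
  have hu1 := eq_one_of_pow_eq_one_of_mem p hpp M hM hp u n hpn hun h1u
  calc ε₁ = (ε₂ * ε₁ ^ n') * ε₁ := by rw [← hu, hu1, one_mul]
    _ = ε₂ * (ε₁ ^ n' * ε₁) := by ring
    _ = ε₂ := by rw [hinv, mul_one]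

/-- In a field of characteristic `p`, a nonzero element integral over `ℤ` has finite order prime
to `p`. -/
theorem exists_pow_eq_one_of_isIntegral {K : Type*} [Field K] (p : ℕ) [hpp : Fact p.Prime]
    [CharP K p] (x : K) (hx : IsIntegral ℤ x) (hx0 : x ≠ 0) :
    ∃ m : ℕ, 0 < m ∧ ¬ p ∣ m ∧ x ^ m = 1 := by
  classical
  letI : Algebra (ZMod p) K := ZMod.algebra K p
  have hint : IsIntegral (ZMod p) x := hx.tower_top
  haveI : FiniteDimensional (ZMod p) (IntermediateField.adjoin (ZMod p) {x}) :=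
    IntermediateField.adjoin.finiteDimensional hint
  haveI : Finite (IntermediateField.adjoin (ZMod p) {x}) :=
    Module.finite_of_finite (ZMod p)
  haveI : Fintype (IntermediateField.adjoin (ZMod p) {x}) := Fintype.ofFinite _
  set F := IntermediateField.adjoin (ZMod p) {x} with hF
  have hmemF : x ∈ F := IntermediateField.mem_adjoin_simple_self (ZMod p) x
  set b : F := ⟨x, hmemF⟩ with hb
  have hb0 : b ≠ 0 := by
    intro h
    apply hx0
    exact congrArg Subtype.val h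
  have hpow := FiniteField.pow_card_sub_one_eq_one b hb0
  haveI : CharP F p := by
    exact charP_of_injective_algebraMap (algebraMap (ZMod p) F).injective p
  obtain ⟨n, -, hn⟩ := FiniteField.card F p
  refine ⟨Fintype.card F - 1, ?_, ?_, ?_⟩
  · have : 2 ≤ Fintype.card F := by
      rw [hn]
      calc 2 ≤ p := hpp.out.two_le
        _ = p ^ 1 := (pow_one p).symm
        _ ≤ p ^ (n : ℕ) := Nat.pow_le_pow_right hpp.out.pos n.pos
    omega
  · intro hdvd
    have h1 : p ∣ Fintype.card F := by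
      rw [hn]
      exact dvd_pow_self p n.pos.ne'
    have h2 : 1 ≤ Fintype.card F := by
      rw [hn]
      exact Nat.one_le_pow _ _ hpp.out.pos
    have h3 : p ∣ 1 := by
      have := (Nat.dvd_sub h1 hdvd)
      rwa [Nat.sub_sub_self h2] at this
    exact hpp.out.one_lt.ne' (Nat.dvd_one.mp h3)
  · have := congrArg (fun y : F => (y : K)) hpow
    simpa using this

/-- A nonzero element of the residue field has finite order prime to `p`. -/
theorem exists_pow_eq_one_residue (p : ℕ) [hpp : Fact p.Prime] (M : Ideal Cfsg.AlgInt)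
    [hM : M.IsMaximal] (hp : (p : Cfsg.AlgInt) ∈ M) (a : Cfsg.AlgInt) (ha : a ∉ M) :
    ∃ m : ℕ, 0 < m ∧ ¬ p ∣ m ∧ (Ideal.Quotient.mk M a) ^ m = 1 := by
  classical
  letI : Field (Cfsg.AlgInt ⧸ M) := Ideal.Quotient.field M
  have hp0 : ((p : ℕ) : Cfsg.AlgInt ⧸ M) = 0 := by
    have : Ideal.Quotient.mk M (p : Cfsg.AlgInt) = 0 := Ideal.Quotient.eq_zero_iff_mem.mpr hp
    rw [map_natCast] at this
    exact this
  haveI hchar : CharP (Cfsg.AlgInt ⧸ M) p := by
    have h1 : ringChar (Cfsg.AlgInt ⧸ M) ∣ p := (ringChar.spec (Cfsg.AlgInt ⧸ M) p).mp hp0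
    rcases (Nat.dvd_prime hpp.out).mp h1 with h | h
    · exact absurd h (CharP.ringChar_ne_one)
    · rw [← h]
      exact ringChar.charP (Cfsg.AlgInt ⧸ M)
  have habar0 : Ideal.Quotient.mk M a ≠ 0 := by
    intro h
    exact ha (Ideal.Quotient.eq_zero_iff_mem.mp h)
  have hintZ : IsIntegral ℤ (Ideal.Quotient.mk M a) := by
    have h1 : IsIntegral ℤ a := by
      have h2 : IsIntegral ℤ (a : ℂ) := a.2
      exact (isIntegral_algebraMap_iff (A := Cfsg.AlgInt) (B := ℂ)
        (Subtype.val_injective)).mp h2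
    exact h1.map (Ideal.Quotient.mkₐ ℤ M)
  exact exists_pow_eq_one_of_isIntegral p (Ideal.Quotient.mk M a) hintZ habar0

/-- Every algebraic integer outside `M` is congruent modulo `M` to a root of unity of order prime
to `p`. -/
theorem exists_root_congr (p : ℕ) [hpp : Fact p.Prime] (M : Ideal Cfsg.AlgInt)
    (hM : M.IsMaximal) (hp : (p : Cfsg.AlgInt) ∈ M) (a : Cfsg.AlgInt) (ha : a ∉ M) :
    ∃ ε : Cfsg.AlgInt, (∃ m : ℕ, ¬ p ∣ m ∧ (ε : ℂ) ^ m = 1) ∧ a - ε ∈ M := by
  classical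
  haveI := hM
  letI : Field (Cfsg.AlgInt ⧸ M) := Ideal.Quotient.field M
  obtain ⟨m, hm0, hpm, hpow⟩ := exists_pow_eq_one_residue p M hp a ha
  -- a primitive `m`-th root of unity among the algebraic integers
  have hζ : IsPrimitiveRoot (Complex.exp (2 * Real.pi * Complex.I / m)) m :=
    Complex.isPrimitiveRoot_exp m hm0.ne'
  have hζint : IsIntegral ℤ (Complex.exp (2 * Real.pi * Complex.I / m)) := hζ.isIntegral hm0
  set z : Cfsg.AlgInt := ⟨Complex.exp (2 * Real.pi * Complex.I / m), hζint⟩ with hz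
  have hzprim : IsPrimitiveRoot z m := by
    apply IsPrimitiveRoot.of_map_of_injective (f := (Cfsg.AlgInt).val) _
      Subtype.val_injective
    exact hζ
  set Zs : Finset Cfsg.AlgInt := Polynomial.nthRootsFinset m (1 : Cfsg.AlgInt) with hZs
  have hZcard : Zs.card = m := hzprim.card_nthRootsFinset
  have hinj : Set.InjOn (Ideal.Quotient.mk M) (Zs : Set Cfsg.AlgInt) := by
    intro ε₁ h₁ ε₂ h₂ heq
    rw [Finset.mem_coe, hZs, Polynomial.mem_nthRootsFinset hm0] at h₁ h₂
    apply roots_injective_mod p hpp.out M hM hp ε₁ ε₂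
    · refine ⟨m, hpm, ?_⟩
      have := congrArg (fun x : Cfsg.AlgInt => (x : ℂ)) h₁
      simpa using this
    · refine ⟨m, hpm, ?_⟩
      have := congrArg (fun x : Cfsg.AlgInt => (x : ℂ)) h₂
      simpa using this
    · exact Ideal.Quotient.eq.mp heq
  have himgcard : (Zs.image (Ideal.Quotient.mk M)).card = m := by
    rw [Finset.card_image_of_injOn hinj, hZcard]
  have hsub : Zs.image (Ideal.Quotient.mk M) ⊆
      Polynomial.nthRootsFinset m (1 : Cfsg.AlgInt ⧸ M) := by
    intro x hx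
    rw [Finset.mem_image] at hx
    obtain ⟨ε, hε, rfl⟩ := hx
    rw [hZs, Polynomial.mem_nthRootsFinset hm0] at hε
    rw [Polynomial.mem_nthRootsFinset hm0, ← map_pow, hε, map_one]
  have hle : (Polynomial.nthRootsFinset m (1 : Cfsg.AlgInt ⧸ M)).card ≤ m := by
    rw [Polynomial.nthRootsFinset_def]
    exact (Multiset.toFinset_card_le _).trans (Polynomial.card_nthRoots m 1)
  have heq : Zs.image (Ideal.Quotient.mk M) =
      Polynomial.nthRootsFinset m (1 : Cfsg.AlgInt ⧸ M) := by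
    apply Finset.eq_of_subset_of_card_le hsub
    rw [himgcard]
    exact hle
  have hamem : Ideal.Quotient.mk M a ∈ Polynomial.nthRootsFinset m (1 : Cfsg.AlgInt ⧸ M) := by
    rw [Polynomial.mem_nthRootsFinset hm0]
    exact hpow
  rw [← heq, Finset.mem_image] at hamem
  obtain ⟨ε, hε, hεa⟩ := hamem
  rw [hZs, Polynomial.mem_nthRootsFinset hm0] at hε
  refine ⟨ε, ⟨m, hpm, ?_⟩, ?_⟩
  · have := congrArg (fun x : Cfsg.AlgInt => (x : ℂ)) hε
    simpa using this
  · exact Ideal.Quotient.eq.mp hεa.symm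

end Cfsg.Agent.Helper6
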