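import Mathlib
import Cfsg.Prelude.Def_Characters
import Cfsg.Prelude.Def_Blocks
import Cfsg.Agent.Helper6.LocalSubring
import Cfsg.Agent.Helper6.RootsModM
import Cfsg.Agent.Helper6.BlockEquiv

/-!
# Idempotent matrices over the local ring congruent modulo the local ideal have the same trace
-/

set_option autoImplicit false
set_option linter.style.haveILetI false

namespace Cfsg.Agent.Helper6

open Module

variable {M : Ideal Cfsg.AlgInt}

/-- A root of unity of `p`-power order is congruent to one. -/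
theorem memLocalIdeal_sub_one_of_pow (hM : M.IsMaximal) (p : ℕ) (hp : p.Prime)
    (hpM : (p : Cfsg.AlgInt) ∈ M) (η : ℂ) (k : ℕ) (hη : η ^ p ^ k = 1) :
    Cfsg.MemLocalIdeal M (η - 1) := by
  have hint : IsIntegral ℤ η := by
    apply IsIntegral.of_pow (n := p ^ k) (pow_pos hp.pos k)
    rw [hη]
    exact isIntegral_one
  set a : Cfsg.AlgInt := ⟨η, hint⟩ with ha
  have ha1 : a ^ p ^ k = 1 := by
    apply Subtype.ext
    rw [SubmonoidClass.coe_pow]
    exact hη
  obtain ⟨r, hr⟩ := exists_add_pow_prime_pow_eq hp (a - 1) 1 k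
  rw [sub_add_cancel, ha1, one_pow] at hr
  have h2 : (a - 1) ^ p ^ k = -((p : Cfsg.AlgInt) * ((a - 1) * 1 * r)) := by
    have : (a - 1) ^ p ^ k + (p : Cfsg.AlgInt) * (a - 1) * 1 * r = 0 := by
      have h3 : (1 : Cfsg.AlgInt) = (a - 1) ^ p ^ k + 1 + (p : Cfsg.AlgInt) * (a - 1) * 1 * r := hr
      linear_combination -h3
    linear_combination this
  have h3 : (a - 1) ^ p ^ k ∈ M := by
    rw [h2]
    exact M.neg_mem (M.mul_mem_right _ hpM)
  have h4 : a - 1 ∈ M := hM.isPrime.mem_of_pow_mem _ h3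
  have h5 := memLocalIdeal_of_mem hM h4
  have : ((a - 1 : Cfsg.AlgInt) : ℂ) = η - 1 := by
    push_cast
    rfl
  rw [this] at h5
  exact h5

/-- Two idempotent matrices over the local ring that are congruent modulo the local ideal have
the same trace. -/
theorem trace_eq_of_idem_congr (hM : M.IsMaximal) (p : ℕ) (hp : p.Prime)
    (hpM : (p : Cfsg.AlgInt) ∈ M) {n : Type*} [Fintype n] [DecidableEq n]
    (P P' : Matrix n n ℂ) (hP : P * P = P) (hP' : P' * P' = P')
    (hR : ∀ i j, Cfsg.MemLocalRing M (P i j)) (hR' : ∀ i j, Cfsg.MemLocalRing M (P' i j))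
    (hJ : ∀ i j, Cfsg.MemLocalIdeal M (P i j - P' i j)) : P.trace = P'.trace := by
  obtain ⟨r, hr, htr, hdet⟩ := idem_matrix_det P hP
  obtain ⟨r', hr', htr', hdet'⟩ := idem_matrix_det P' hP'
  obtain ⟨ℓ, hℓ, hℓp⟩ := Nat.exists_infinite_primes (max (Fintype.card n) p + 1)
  have hℓn : Fintype.card n < ℓ := by
    have := le_max_left (Fintype.card n) p
    omega
  have hℓp' : p < ℓ := by
    have := le_max_right (Fintype.card n) p
    omega
  have hℓ0 : ℓ ≠ 0 := hℓp.ne_zero
  set ζ : ℂ := Complex.exp (2 * Real.pi * Complex.I / ℓ) with hζ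
  have hprim : IsPrimitiveRoot ζ ℓ := Complex.isPrimitiveRoot_exp ℓ hℓ0
  have hζℓ : ζ ^ ℓ = 1 := hprim.pow_eq_one
  have hζint : IsIntegral ℤ ζ := by
    apply IsIntegral.of_pow (n := ℓ) hℓp.pos
    rw [hζℓ]
    exact isIntegral_one
  have hζR : Cfsg.MemLocalRing M (ζ - 1) :=
    memLocalRing_of_isIntegral hM (hζint.sub isIntegral_one)
  have hnotdvd : ¬ p ∣ ℓ := by
    intro h
    rcases (Nat.dvd_prime hℓp).mp h with h1 | h1
    · exact hp.one_lt.ne' h1
    · omega
  -- the two determinants are congruent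
  have hcong := det_congr_mod hM (1 + (ζ - 1) • P) (1 + (ζ - 1) • P')
    (by
      intro i j
      rw [Matrix.add_apply, Matrix.smul_apply, smul_eq_mul]
      apply MemLocalRing.add hM
      · by_cases hij : i = j
        · rw [hij, Matrix.one_apply_eq]; exact memLocalRing_one hM
        · rw [Matrix.one_apply_ne hij]; exact memLocalRing_zero hM
      · exact MemLocalRing.mul hM hζR (hR i j))
    (by
      intro i j
      rw [Matrix.add_apply, Matrix.add_apply, Matrix.smul_apply, Matrix.smul_apply, smul_eq_mul,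
        smul_eq_mul]
      have : (1 : Matrix n n ℂ) i j + (ζ - 1) * P i j - ((1 : Matrix n n ℂ) i j + (ζ - 1) * P' i j) =
          (ζ - 1) * (P i j - P' i j) := by ring
      rw [this]
      exact MemLocalIdeal.mul_left hM hζR (hJ i j))
    (by
      intro i j
      rw [Matrix.add_apply, Matrix.smul_apply, smul_eq_mul]
      apply MemLocalRing.add hM
      · by_cases hij : i = j
        · rw [hij, Matrix.one_apply_eq]; exact memLocalRing_one hM
        · rw [Matrix.one_apply_ne hij]; exact memLocalRing_zero hM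
      · exact MemLocalRing.mul hM hζR (hR' i j))
  rw [hdet ζ, hdet' ζ] at hcong
  -- roots of unity of order prime to `p` are distinct modulo `M`
  set ε₁ : Cfsg.AlgInt := ⟨ζ ^ r, hζint.pow r⟩ with hε₁
  set ε₂ : Cfsg.AlgInt := ⟨ζ ^ r', hζint.pow r'⟩ with hε₂
  have hmem : ε₁ - ε₂ ∈ M := by
    rw [← memLocalIdeal_coe_iff hM]
    have : ((ε₁ - ε₂ : Cfsg.AlgInt) : ℂ) = ζ ^ r - ζ ^ r' := by
      push_cast
      rfl
    rw [this]
    exact hcong
  have heq := roots_injective_mod p hp M hM hpM ε₁ ε₂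
    ⟨ℓ, hnotdvd, by
      change (ζ ^ r) ^ ℓ = 1
      rw [← pow_mul, mul_comm, pow_mul, hζℓ, one_pow]⟩
    ⟨ℓ, hnotdvd, by
      change (ζ ^ r') ^ ℓ = 1
      rw [← pow_mul, mul_comm, pow_mul, hζℓ, one_pow]⟩ hmem
  have heq' : ζ ^ r = ζ ^ r' := congrArg Subtype.val heq
  have hrr : r = r' := hprim.pow_inj (lt_of_le_of_lt hr hℓn) (lt_of_le_of_lt hr' hℓn) heq'
  rw [htr, htr', hrr]

end Cfsg.Agent.Helper6
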