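import Mathlib
import Cfsg.Prelude.Def_Characters
import Cfsg.Prelude.Def_Blocks
import Cfsg.Agent.Helper6.ProjTrace1
import Cfsg.Agent.Helper6.Artin

/-!
# Traces of `p`-singular elements on projective lattices vanish: the matrix form
-/

set_option autoImplicit false
set_option linter.style.haveILetI false

namespace Cfsg.Agent.Helper6

open Module
open scoped ComplexConjugate

universe u

variable {G : Type u} [Group G] {M : Ideal Cfsg.AlgInt}

/-- The bijection `(G ⧸ C) × C ≃ G` given by the chosen coset representatives. -/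
noncomputable def cosetProdEquiv (C : Subgroup G) : (G ⧸ C) × C ≃ G where
  toFun x := x.1.out * x.2
  invFun g := (QuotientGroup.mk g,
    ⟨(QuotientGroup.mk g : G ⧸ C).out⁻¹ * g,
      QuotientGroup.eq.mp (QuotientGroup.out_eq' (QuotientGroup.mk g : G ⧸ C))⟩)
  left_inv := by
    rintro ⟨q, c⟩
    have h : (QuotientGroup.mk (q.out * (c : G)) : G ⧸ C) = q := by
      rw [QuotientGroup.mk_mul_of_mem _ c.2]
      exact QuotientGroup.out_eq' q
    apply Prod.ext
    · exact h
    · apply Subtype.ext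
      simp only
      rw [h, inv_mul_cancel_left]
  right_inv := by
    intro g
    simp only
    rw [mul_inv_cancel_left]

theorem cosetProdEquiv_apply (C : Subgroup G) (q : G ⧸ C) (c : C) :
    cosetProdEquiv C (q, c) = q.out * c := rfl

/-- The matrix of an operator commuting with right multiplication by `C`, evaluated at a
character of `C`. -/
noncomputable def projMatrix (C : Subgroup G) [Fintype C] (π : G → G → ℂ) (ν : C →* ℂˣ) :
    Matrix (G ⧸ C) (G ⧸ C) ℂ :=
  fun q' q => ∑ c : C, π (q'.out * c) q.out * ((ν c : ℂˣ) : ℂ)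

theorem projMatrix_idem [Fintype G] (C : Subgroup G) [Fintype C] [Fintype (G ⧸ C)]
    [DecidableEq (G ⧸ C)] (π : G → G → ℂ)
    (hequiv : ∀ g' g : G, ∀ c ∈ C, π (g' * c) (g * c) = π g' g)
    (hidem : ∀ g'' g : G, ∑ g' : G, π g'' g' * π g' g = π g'' g) (ν : C →* ℂˣ) :
    projMatrix C π ν * projMatrix C π ν = projMatrix C π ν := by
  ext q'' q
  rw [Matrix.mul_apply]
  have h1 : ∀ q' : G ⧸ C, projMatrix C π ν q'' q' * projMatrix C π ν q' q =
      ∑ c : C, ∑ d : C, π (q''.out * d) (q'.out * c) * π (q'.out * c) q.out *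
        ((ν d : ℂˣ) : ℂ) := by
    intro q'
    unfold projMatrix
    rw [Finset.sum_mul_sum, Finset.sum_comm]
    apply Finset.sum_congr rfl
    intro c _
    apply Fintype.sum_equiv (Equiv.mulRight c)
    intro c'
    simp only [Equiv.coe_mulRight]
    have e1 : π (q''.out * ((c' * c : C) : G)) (q'.out * c) = π (q''.out * c') q'.out := by
      have := hequiv (q''.out * c') q'.out c c.2
      rw [← this]
      congr 1
      push_cast
      rw [mul_assoc]
    rw [e1, map_mul, Units.val_mul]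
    ring
  rw [Finset.sum_congr rfl (fun q' _ => h1 q')]
  have h2 : ∑ q' : G ⧸ C, ∑ c : C, ∑ d : C,
      π (q''.out * d) (q'.out * c) * π (q'.out * c) q.out * ((ν d : ℂˣ) : ℂ) =
      ∑ g' : G, ∑ d : C, π (q''.out * d) g' * π g' q.out * ((ν d : ℂˣ) : ℂ) := by
    rw [← Equiv.sum_comp (cosetProdEquiv C)
      (fun g' => ∑ d : C, π (q''.out * d) g' * π g' q.out * ((ν d : ℂˣ) : ℂ)),
      Fintype.sum_prod_type]
    rfl
  rw [h2, Finset.sum_comm]
  unfold projMatrix
  apply Finset.sum_congr rfl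
  intro d _
  rw [← Finset.sum_mul, hidem]

theorem projMatrix_trace (C : Subgroup G) [Fintype C] [Fintype (G ⧸ C)] (π : G → G → ℂ)
    (ν : C →* ℂˣ) :
    (projMatrix C π ν).trace =
      ∑ c : C, (∑ q : G ⧸ C, π (q.out * c) q.out) * ((ν c : ℂˣ) : ℂ) := by
  have h1 : (projMatrix C π ν).trace =
      ∑ q : G ⧸ C, ∑ c : C, π (q.out * c) q.out * ((ν c : ℂˣ) : ℂ) := rfl
  rw [h1, Finset.sum_comm]
  apply Finset.sum_congr rfl
  intro c _
  rw [Finset.sum_mul]

theorem isIntegral_hom_apply [Finite G] (ν : G →* ℂˣ) (g : G) :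
    IsIntegral ℤ ((ν g : ℂˣ) : ℂ) := by
  apply IsIntegral.of_pow (n := orderOf g) (orderOf_pos g)
  rw [← Units.val_pow_eq_pow_val, ← map_pow, pow_orderOf_eq_one, map_one, Units.val_one]
  exact isIntegral_one

theorem projMatrix_memLocalRing (hM : M.IsMaximal) (C : Subgroup G) [Fintype C] [Finite G]
    (π : G → G → ℂ) (hR : ∀ g' g : G, Cfsg.MemLocalRing M (π g' g)) (ν : C →* ℂˣ)
    (q' q : G ⧸ C) : Cfsg.MemLocalRing M (projMatrix C π ν q' q) := by
  unfold projMatrix
  apply MemLocalRing.sum hM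
  intro c _
  exact MemLocalRing.mul hM (hR _ _) (memLocalRing_of_isIntegral hM (isIntegral_hom_apply ν c))

theorem projMatrix_congr (hM : M.IsMaximal) (C : Subgroup G) [Fintype C] [Finite G]
    (π : G → G → ℂ) (hR : ∀ g' g : G, Cfsg.MemLocalRing M (π g' g)) (ν μ : C →* ℂˣ)
    (hμ : ∀ c : C, Cfsg.MemLocalIdeal M (((μ c : ℂˣ) : ℂ) - 1))
    (q' q : G ⧸ C) :
    Cfsg.MemLocalIdeal M (projMatrix C π (ν * μ) q' q - projMatrix C π ν q' q) := by
  unfold projMatrix
  rw [← Finset.sum_sub_distrib]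
  apply MemLocalIdeal.sum hM
  intro c _
  have : π (q'.out * c) q.out * (((ν * μ) c : ℂˣ) : ℂ) - π (q'.out * c) q.out * ((ν c : ℂˣ) : ℂ) =
      (π (q'.out * c) q.out * ((ν c : ℂˣ) : ℂ)) * (((μ c : ℂˣ) : ℂ) - 1) := by
    rw [MonoidHom.mul_apply, Units.val_mul]
    ring
  rw [this]
  exact MemLocalIdeal.mul_left hM
    (MemLocalRing.mul hM (hR _ _) (memLocalRing_of_isIntegral hM (isIntegral_hom_apply ν c)))
    (hμ c)

end Cfsg.Agent.Helper6
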