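import Mathlib
import Cfsg.Prelude.Def_Characters
import Cfsg.Prelude.Def_Blocks
import Cfsg.Agent.Helper6.ProjTrace2

/-!
# Traces of `p`-singular elements on projective lattices vanish
-/

set_option autoImplicit false
set_option linter.style.haveILetI false

namespace Cfsg.Agent.Helper6

open Module
open scoped ComplexConjugate

universe u

variable {G : Type u} [Group G] {M : Ideal Cfsg.AlgInt}

/-- Characters of a finite abelian group separate functions. -/
theorem eq_zero_of_sum_hom_eq_zero {A : Type u} [Group A] [Fintype A] [Fintype (A →* ℂˣ)]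
    (hab : ∀ a b : A, a * b = b * a) (t : A → ℂ)
    (h : ∀ ν : A →* ℂˣ, ∑ a : A, t a * ((ν a : ℂˣ) : ℂ) = 0) : t = 0 := by
  have hexp := abelian_expansion hab t
  rw [hexp]
  apply Finset.sum_eq_zero
  intro lam _
  have h1 : Cfsg.classInner t (fun a => ((lam a : ℂˣ) : ℂ)) = 0 := by
    rw [classInner_def]
    have h2 : ∀ a : A, conj (((lam a : ℂˣ) : ℂ)) = ((lam⁻¹ a : ℂˣ) : ℂ) := by
      intro a
      have hnorm : ‖((lam a : ℂˣ) : ℂ)‖ = 1 := by
        apply Complex.norm_eq_one_of_pow_eq_one (n := orderOf a)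
        · rw [← Units.val_pow_eq_pow_val, ← map_pow, pow_orderOf_eq_one, map_one, Units.val_one]
        · exact (orderOf_pos a).ne'
      rw [MonoidHom.inv_apply, Units.val_inv_eq_inv_val]
      have h3 : ((lam a : ℂˣ) : ℂ) * conj ((lam a : ℂˣ) : ℂ) = 1 := by
        rw [Complex.mul_conj, Complex.normSq_eq_norm_sq, hnorm]
        simp
      have hne : ((lam a : ℂˣ) : ℂ) ≠ 0 := Units.ne_zero _
      field_simp
      rw [mul_comm]
      exact h3
    simp_rw [h2]
    rw [h lam⁻¹, mul_zero]
  rw [h1, zero_smul]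

/-- **Vanishing of traces of `p`-singular elements on projective lattices**, matrix form. -/
theorem sum_apply_mul_eq_zero [Fintype G] (hM : M.IsMaximal) (p : ℕ) [hp : Fact p.Prime]
    (hpM : (p : Cfsg.AlgInt) ∈ M) (y : G) (hy : p ∣ orderOf y) (π : G → G → ℂ)
    (hR : ∀ g' g : G, Cfsg.MemLocalRing M (π g' g))
    (hequiv : ∀ g' g : G, ∀ c ∈ Subgroup.zpowers y, π (g' * c) (g * c) = π g' g)
    (hidem : ∀ g'' g : G, ∑ g' : G, π g'' g' * π g' g = π g'' g) :
    ∑ g : G, π (g * y) g = 0 := by
  classical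
  set C : Subgroup G := Subgroup.zpowers y with hC
  haveI : Fintype C := Fintype.ofFinite _
  haveI : Fintype (G ⧸ C) := Fintype.ofFinite _
  have hab : ∀ a b : C, a * b = b * a := by
    intro a b
    apply Subtype.ext
    obtain ⟨i, hi⟩ := Subgroup.mem_zpowers_iff.mp a.2
    obtain ⟨j, hj⟩ := Subgroup.mem_zpowers_iff.mp b.2
    push_cast
    rw [← hi, ← hj, ← zpow_add, ← zpow_add, add_comm]
  haveI hfin : Finite (C →* ℂˣ) := by
    apply Nat.finite_of_card_ne_zero
    rw [card_hom_units]
    exact Subgroup.index_ne_zero_of_finite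
  haveI : Fintype (C →* ℂˣ) := Fintype.ofFinite _
  set y' : C := ⟨y, Subgroup.mem_zpowers y⟩ with hy'
  have hord : orderOf y' = orderOf y := Subgroup.orderOf_mk y _
  -- a character of `p`-power order that is nontrivial at `y`
  set n₀ := orderOf y with hn₀
  have hn₀pos : 0 < n₀ := orderOf_pos y
  set k := n₀.factorization p with hk
  set m' := n₀ / p ^ k with hm'
  have hfact : p ^ k * m' = n₀ := Nat.ordProj_mul_ordCompl_eq_self n₀ p
  have hpm' : ¬ p ∣ m' := Nat.not_dvd_ordCompl hp.out hn₀pos.ne'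
  have hym' : y' ^ m' ≠ 1 := by
    intro h
    have h1 : orderOf y' ∣ m' := orderOf_dvd_of_pow_eq_one h
    rw [hord] at h1
    exact hpm' (dvd_trans hy h1)
  letI : CommGroup C := { (inferInstance : Group C) with mul_comm := hab }
  haveI : NeZero ((Monoid.exponent C : ℕ) : ℂ) := by
    constructor
    have : Monoid.exponent C ≠ 0 := Monoid.exponent_ne_zero_of_finite
    exact_mod_cast this
  obtain ⟨φ, hφ⟩ := CommGroup.exists_apply_ne_one_of_hasEnoughRootsOfUnity C ℂ hym'
  set μ : C →* ℂˣ := φ ^ m' with hμdef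
  have hμy : μ y' ≠ 1 := by
    rw [hμdef, MonoidHom.pow_apply, ← map_pow]
    exact hφ
  have hμpow : ∀ c : C, ((μ c : ℂˣ) : ℂ) ^ p ^ k = 1 := by
    intro c
    rw [hμdef, MonoidHom.pow_apply, ← Units.val_pow_eq_pow_val, ← pow_mul, mul_comm, hfact,
      ← map_pow]
    have : c ^ n₀ = 1 := by
      have h1 : Nat.card C = n₀ := Nat.card_zpowers y
      rw [← h1]
      exact pow_card_eq_one'
    rw [this, map_one, Units.val_one]
  have hμJ : ∀ c : C, Cfsg.MemLocalIdeal M (((μ c : ℂˣ) : ℂ) - 1) := fun c =>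
    memLocalIdeal_sub_one_of_pow hM p hp.out hpM _ k (hμpow c)
  -- the traces agree
  set s : C → ℂ := fun c => ∑ q : G ⧸ C, π (q.out * c) q.out with hs
  have htrace : ∀ ν : C →* ℂˣ, ∑ c : C, s c * ((ν c : ℂˣ) : ℂ) =
      ∑ c : C, s c * (((ν * μ) c : ℂˣ) : ℂ) := by
    intro ν
    have h1 := trace_eq_of_idem_congr hM p hp.out hpM (projMatrix C π (ν * μ)) (projMatrix C π ν)
      (projMatrix_idem C π hequiv hidem (ν * μ)) (projMatrix_idem C π hequiv hidem ν)
      (fun q' q => projMatrix_memLocalRing hM C π hR (ν * μ) q' q)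
      (fun q' q => projMatrix_memLocalRing hM C π hR ν q' q)
      (fun q' q => projMatrix_congr hM C π hR ν μ hμJ q' q)
    rw [projMatrix_trace, projMatrix_trace] at h1
    exact h1.symm
  -- separation
  set t : C → ℂ := fun c => s c * (1 - ((μ c : ℂˣ) : ℂ)) with ht
  have ht0 : t = 0 := by
    apply eq_zero_of_sum_hom_eq_zero hab t
    intro ν
    have h1 := htrace ν
    have h2 : ∑ c : C, t c * ((ν c : ℂˣ) : ℂ) =
        ∑ c : C, s c * ((ν c : ℂˣ) : ℂ) - ∑ c : C, s c * (((ν * μ) c : ℂˣ) : ℂ) := by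
      rw [← Finset.sum_sub_distrib]
      apply Finset.sum_congr rfl
      intro c _
      simp only [ht]
      rw [MonoidHom.mul_apply, Units.val_mul]
      ring
    rw [h2, h1, sub_self]
  have hsy : s y' = 0 := by
    have h1 := congrFun ht0 y'
    simp only [ht, Pi.zero_apply] at h1
    rcases mul_eq_zero.mp h1 with h2 | h2
    · exact h2
    · exfalso
      apply hμy
      apply Units.ext
      rw [Units.val_one]
      exact (sub_eq_zero.mp h2).symm
  -- the sum over the group
  rw [← Equiv.sum_comp (cosetProdEquiv C) (fun g => π (g * y) g), Fintype.sum_prod_type]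
  have h1 : ∀ q : G ⧸ C, ∀ c : C,
      π (cosetProdEquiv C (q, c) * y) (cosetProdEquiv C (q, c)) = π (q.out * y) q.out := by
    intro q c
    rw [cosetProdEquiv_apply]
    have h2 : q.out * (c : G) * y = q.out * y * (c : G) := by
      have h3 : (c : G) * y = y * (c : G) := by
        have := congrArg Subtype.val (hab c y')
        simpa using this
      rw [mul_assoc, h3, ← mul_assoc]
    rw [h2]
    exact hequiv _ _ c c.2
  have h4 : ∑ q : G ⧸ C, π (q.out * y) q.out = 0 := hsy
  have h5 : ∑ q : G ⧸ C, ∑ c : C, π (cosetProdEquiv C (q, c) * y) (cosetProdEquiv C (q, c)) =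
      (Fintype.card C : ℂ) * ∑ q : G ⧸ C, π (q.out * y) q.out := by
    rw [Finset.mul_sum]
    apply Finset.sum_congr rfl
    intro q _
    rw [Finset.sum_congr rfl (fun c _ => h1 q c), Finset.sum_const, Finset.card_univ,
      nsmul_eq_mul]
  rw [h5, h4, mul_zero]

end Cfsg.Agent.Helper6
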