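import Mathlib
import Cfsg.Prelude.Def_Characters
import Cfsg.Prelude.Def_Blocks
import Cfsg.Agent.Helper6.ProjTrace3
import Cfsg.Agent.Helper6.BlockKernel

/-!
# Block idempotents are supported on `p`-regular elements
-/

set_option autoImplicit false
set_option linter.style.haveILetI false

namespace Cfsg.Agent.Helper6

open Module
open scoped ComplexConjugate

universe u

variable {G : Type u} [Group G] {M : Ideal Cfsg.AlgInt}

/-- Convolution of functions on a finite group. -/
noncomputable def conv [Fintype G] (a b : G → ℂ) : G → ℂ :=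
  fun g => ∑ x : G, a x * b (x⁻¹ * g)

theorem conv_apply [Fintype G] (a b : G → ℂ) (g : G) :
    conv a b g = ∑ x : G, a x * b (x⁻¹ * g) := rfl

theorem conv_assoc [Fintype G] (a b c : G → ℂ) : conv (conv a b) c = conv a (conv b c) := by
  funext g
  simp only [conv_apply]
  simp_rw [Finset.sum_mul, Finset.mul_sum]
  rw [Finset.sum_comm]
  apply Finset.sum_congr rfl
  intro z _
  apply Fintype.sum_equiv (Equiv.mulLeft z⁻¹)
  intro x
  simp only [Equiv.coe_mulLeft]
  rw [mul_assoc]
  congr 2
  congr 1
  group

theorem conv_comm_of_classFunction [Fintype G] (u f : G → ℂ) (hf : Cfsg.IsClassFunction G f) :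
    conv u f = conv f u := by
  funext g
  simp only [conv_apply]
  apply Fintype.sum_equiv ((Equiv.inv G).trans (Equiv.mulLeft g))
  intro x
  simp only [Equiv.trans_apply, Equiv.inv_apply, Equiv.coe_mulLeft]
  have h1 : (g * x⁻¹)⁻¹ * g = x := by group
  have h2 : f (x⁻¹ * g) = f (g * x⁻¹) := by
    have := hf (x⁻¹ * g) g
    rw [← this]
    congr 1
    group
  rw [h1, h2, mul_comm]

/-- the product of a convolution idempotent with a central convolution idempotent -/
theorem conv_idem_mul [Fintype G] (u f : G → ℂ) (hf : Cfsg.IsClassFunction G f)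
    (hu : conv u u = u) (hff : conv f f = f) : conv (conv f u) (conv f u) = conv f u := by
  have hc := conv_comm_of_classFunction u f hf
  calc conv (conv f u) (conv f u) = conv f (conv u (conv f u)) := conv_assoc _ _ _
    _ = conv f (conv (conv u f) u) := by rw [conv_assoc]
    _ = conv f (conv (conv f u) u) := by rw [hc]
    _ = conv f (conv f (conv u u)) := by rw [conv_assoc]
    _ = conv f (conv f u) := by rw [hu]
    _ = conv (conv f f) u := by rw [conv_assoc]
    _ = conv f u := by rw [hff]

/-- **(Z)** The coefficients of a convolution idempotent with local coefficients sum to zero over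
every `p`-singular class. -/
theorem sum_conj_eq_zero_of_conv_idem [Fintype G] (hM : M.IsMaximal) (p : ℕ) [hp : Fact p.Prime]
    (hpM : (p : Cfsg.AlgInt) ∈ M) (y : G) (hy : p ∣ orderOf y) (w : G → ℂ)
    (hR : ∀ g : G, Cfsg.MemLocalRing M (w g)) (hw : conv w w = w) :
    ∑ g : G, w (g * y * g⁻¹) = 0 := by
  have h := sum_apply_mul_eq_zero hM p hpM y hy (fun g' g => w (g' * g⁻¹))
    (fun g' g => hR _)
    (by
      intro g' g c _
      congr 1
      group)
    (by
      intro g'' g
      have h1 := congrFun hw (g'' * g⁻¹)
      rw [conv_apply] at h1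
      rw [← h1]
      apply Fintype.sum_equiv ((Equiv.inv G).trans (Equiv.mulLeft g''))
      intro g'
      simp only [Equiv.trans_apply, Equiv.inv_apply, Equiv.coe_mulLeft]
      congr 2
      group)
  simpa using h

/-- **Osima**: block idempotents are supported on the `p`-regular elements. -/
theorem blockCoeff_eq_zero_of_singular [Finite G] (hM : M.IsMaximal) (p : ℕ) [hp : Fact p.Prime]
    (hpM : (p : Cfsg.AlgInt) ∈ M) (B : Set (Cfsg.IrrCharacter G)) (hB : Cfsg.IsPBlock M B)
    (y : G) (hy : p ∣ orderOf y) : Cfsg.blockCoeff B y = 0 := by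
  classical
  haveI := Fintype.ofFinite G
  have hconv : conv (Cfsg.blockCoeff B) (Cfsg.blockCoeff B) = Cfsg.blockCoeff B := by
    funext g
    exact blockCoeff_convolution B g
  have h := sum_conj_eq_zero_of_conv_idem hM p hpM y hy (Cfsg.blockCoeff B)
    (fun g => osima hM B hB g) hconv
  have hcf := blockCoeff_isClassFunction B
  have h2 : ∑ g : G, Cfsg.blockCoeff B (g * y * g⁻¹) = (Fintype.card G : ℂ) * Cfsg.blockCoeff B y := by
    rw [Finset.sum_congr rfl (fun g _ => hcf y g), Finset.sum_const, Finset.card_univ,
      nsmul_eq_mul]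
  rw [h2] at h
  have hG0 : (Fintype.card G : ℂ) ≠ 0 := by
    have : 0 < Fintype.card G := Fintype.card_pos
    exact_mod_cast this.ne'
  exact (mul_eq_zero.mp h).resolve_left hG0

end Cfsg.Agent.Helper6
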