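import Mathlib
import Cfsg.Prelude.Def_Characters
import Cfsg.Prelude.Def_Blocks
import Cfsg.Agent.Helper6.OsimaSupport
import Cfsg.Agent.Helper6.Commutators
import Cfsg.Agent.Helper6.DadeIso

/-!
# Weak block orthogonality
-/

set_option autoImplicit false
set_option linter.style.haveILetI false

namespace Cfsg.Agent.Helper6

open Module
open scoped ComplexConjugate

universe u

variable {G : Type u} [Group G] {M : Ideal Cfsg.AlgInt}

theorem conj_hom_apply {A : Type u} [Group A] [Finite A] (lam : A →* ℂˣ) (a : A) :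
    conj (((lam a : ℂˣ) : ℂ)) = ((lam a⁻¹ : ℂˣ) : ℂ) := by
  have hnorm : ‖((lam a : ℂˣ) : ℂ)‖ = 1 := by
    apply Complex.norm_eq_one_of_pow_eq_one (n := orderOf a)
    · rw [← Units.val_pow_eq_pow_val, ← map_pow, pow_orderOf_eq_one, map_one, Units.val_one]
    · exact (orderOf_pos a).ne'
  rw [map_inv, Units.val_inv_eq_inv_val]
  have h3 : ((lam a : ℂˣ) : ℂ) * conj ((lam a : ℂˣ) : ℂ) = 1 := by
    rw [Complex.mul_conj, Complex.normSq_eq_norm_sq, hnorm]
    simp
  have hne : ((lam a : ℂˣ) : ℂ) ≠ 0 := Units.ne_zero _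
  field_simp
  rw [mul_comm]
  exact h3

/-- Column orthogonality for a finite abelian group. -/
theorem sum_hom_apply_mul {A : Type u} [Group A] [Fintype A] [Fintype (A →* ℂˣ)] [DecidableEq A]
    (hab : ∀ a b : A, a * b = b * a) (x a : A) :
    ∑ lam : A →* ℂˣ, ((lam x : ℂˣ) : ℂ) * ((lam a : ℂˣ) : ℂ) =
      if a = x⁻¹ then (Nat.card A : ℂ) else 0 := by
  have hexp := abelian_expansion hab (fun b : A => if b = x⁻¹ then (1 : ℂ) else 0)
  have hA0 : (Nat.card A : ℂ) ≠ 0 := by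
    have : 0 < Nat.card A := Nat.card_pos
    exact_mod_cast this.ne'
  have hin : ∀ lam : A →* ℂˣ, Cfsg.classInner (fun b : A => if b = x⁻¹ then (1 : ℂ) else 0)
      (fun a => ((lam a : ℂˣ) : ℂ)) = (Nat.card A : ℂ)⁻¹ * ((lam x : ℂˣ) : ℂ) := by
    intro lam
    rw [classInner_def]
    congr 1
    rw [Finset.sum_eq_single x⁻¹]
    · rw [if_pos rfl, one_mul, conj_hom_apply, inv_inv]
    · intro b _ hb
      rw [if_neg hb, zero_mul]
    · intro h
      exact absurd (Finset.mem_univ _) h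
  have h1 := congrFun hexp a
  rw [Finset.sum_apply] at h1
  simp only [Pi.smul_apply, smul_eq_mul, hin] at h1
  have h2 : ∑ lam : A →* ℂˣ, ((lam x : ℂˣ) : ℂ) * ((lam a : ℂˣ) : ℂ) =
      (Nat.card A : ℂ) * ∑ lam : A →* ℂˣ,
        (Nat.card A : ℂ)⁻¹ * ((lam x : ℂˣ) : ℂ) * ((lam a : ℂˣ) : ℂ) := by
    rw [Finset.mul_sum]
    apply Finset.sum_congr rfl
    intro lam _
    field_simp
  rw [h2, ← h1]
  split_ifs <;> simp

/-- The idempotent of a linear character of a subgroup, as a function on the group. -/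
noncomputable def homIdem (A : Subgroup G) (lam : A →* ℂˣ) : G → ℂ :=
  Cfsg.extendByZero A (fun a => ((lam a : ℂˣ) : ℂ) / (Nat.card A : ℂ))

theorem sum_homIdem_mul [Fintype G] (A : Subgroup G) [Fintype A] (lam : A →* ℂˣ) (f : G → ℂ) :
    ∑ g : G, homIdem A lam g * f g =
      ∑ h : A, ((lam h : ℂˣ) : ℂ) / (Nat.card A : ℂ) * f h :=
  sum_extendByZero_mul A _ f

theorem homIdem_conv [Fintype G] (A : Subgroup G) [Finite A] (lam : A →* ℂˣ) :
    conv (homIdem A lam) (homIdem A lam) = homIdem A lam := by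
  classical
  haveI : Fintype A := Fintype.ofFinite _
  have hA0 : (Nat.card A : ℂ) ≠ 0 := by
    have : 0 < Nat.card A := Nat.card_pos
    exact_mod_cast this.ne'
  funext g
  rw [conv_apply, sum_homIdem_mul]
  by_cases hg : g ∈ A
  · have h1 : ∀ h : A, homIdem A lam ((h : G)⁻¹ * g) =
        ((lam (h⁻¹ * ⟨g, hg⟩) : ℂˣ) : ℂ) / (Nat.card A : ℂ) := by
      intro h
      have : (h : G)⁻¹ * g = ((h⁻¹ * ⟨g, hg⟩ : A) : G) := by simp
      rw [this]
      exact extendByZero_coe A _ _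
    simp_rw [h1]
    have h2 : ∀ h : A, ((lam h : ℂˣ) : ℂ) / (Nat.card A : ℂ) *
        (((lam (h⁻¹ * ⟨g, hg⟩) : ℂˣ) : ℂ) / (Nat.card A : ℂ)) =
        ((lam ⟨g, hg⟩ : ℂˣ) : ℂ) / (Nat.card A : ℂ) / (Nat.card A : ℂ) := by
      intro h
      rw [map_mul, map_inv, Units.val_mul, Units.val_inv_eq_inv_val]
      have hne : ((lam h : ℂˣ) : ℂ) ≠ 0 := Units.ne_zero _
      field_simp
    simp_rw [h2]
    rw [Finset.sum_const, Finset.card_univ, nsmul_eq_mul, ← Nat.card_eq_fintype_card]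
    have : homIdem A lam g = ((lam ⟨g, hg⟩ : ℂˣ) : ℂ) / (Nat.card A : ℂ) :=
      extendByZero_mem A _ hg
    rw [this]
    field_simp
  · have h1 : ∀ h : A, homIdem A lam ((h : G)⁻¹ * g) = 0 := by
      intro h
      apply extendByZero_not_mem
      intro hmem
      apply hg
      have := A.mul_mem h.2 hmem
      simpa using this
    simp_rw [h1, mul_zero]
    rw [Finset.sum_const_zero]
    exact (extendByZero_not_mem A _ hg).symm

theorem homIdem_memLocalRing (hM : M.IsMaximal) (p : ℕ) (hp : p.Prime)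
    (hpM : (p : Cfsg.AlgInt) ∈ M) (A : Subgroup G) [Finite A] (hA : ¬ p ∣ Nat.card A)
    (lam : A →* ℂˣ) (g : G) : Cfsg.MemLocalRing M (homIdem A lam g) := by
  by_cases hg : g ∈ A
  · have : homIdem A lam g = ((lam ⟨g, hg⟩ : ℂˣ) : ℂ) / (Nat.card A : ℂ) :=
      extendByZero_mem A _ hg
    rw [this]
    have hint := isIntegral_hom_apply lam ⟨g, hg⟩
    refine ⟨⟨_, hint⟩, (Nat.card A : Cfsg.AlgInt), natCast_not_mem_of_not_dvd hM hp hpM hA, ?_⟩
    push_cast
    rfl
  · rw [homIdem, extendByZero_not_mem A _ hg]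
    exact memLocalRing_zero hM

/-- Translating by a `p`-regular element: the sum of the block idempotent coefficients over the
conjugates of a `p`-singular element, translated by a `p`-regular element, vanishes. -/
theorem sum_blockCoeff_conj_mul_eq_zero [Fintype G] (hM : M.IsMaximal) (p : ℕ)
    [hp : Fact p.Prime] (hpM : (p : Cfsg.AlgInt) ∈ M) (B : Set (Cfsg.IrrCharacter G))
    (hB : Cfsg.IsPBlock M B) (x y : G) (hx : ¬ p ∣ orderOf x) (hy : p ∣ orderOf y) :
    ∑ g : G, Cfsg.blockCoeff B (g * y * g⁻¹ * x) = 0 := by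
  classical
  set A : Subgroup G := Subgroup.zpowers x with hA
  haveI : Fintype A := Fintype.ofFinite _
  haveI : Fintype (A →* ℂˣ) := Fintype.ofFinite _
  have hAcard : ¬ p ∣ Nat.card A := by
    rw [hA, Nat.card_zpowers]
    exact hx
  have hab : ∀ a b : A, a * b = b * a := by
    intro a b
    haveI : IsCyclic A := by rw [hA]; infer_instance
    letI := IsCyclic.commGroup (α := A)
    exact mul_comm a b
  have hA0 : (Nat.card A : ℂ) ≠ 0 := by
    have : 0 < Nat.card A := Nat.card_pos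
    exact_mod_cast this.ne'
  set xA : A := ⟨x, Subgroup.mem_zpowers x⟩ with hxA
  -- the idempotents
  have hw : ∀ lam : A →* ℂˣ,
      ∑ g : G, conv (Cfsg.blockCoeff B) (homIdem A lam) (g * y * g⁻¹) = 0 := by
    intro lam
    apply sum_conj_eq_zero_of_conv_idem hM p hpM y hy
    · intro g
      rw [conv_apply]
      apply MemLocalRing.sum hM
      intro t _
      exact MemLocalRing.mul hM (osima hM B hB t)
        (homIdem_memLocalRing hM p hp.out hpM A hAcard lam _)
    · apply conv_idem_mul _ _ (blockCoeff_isClassFunction B) (homIdem_conv A lam)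
      funext g
      exact blockCoeff_convolution B g
  -- expansion of the translate
  have hexp : ∀ z : G, Cfsg.blockCoeff B (z * x) =
      ∑ lam : A →* ℂˣ, ((lam xA : ℂˣ) : ℂ) * conv (Cfsg.blockCoeff B) (homIdem A lam) z := by
    intro z
    have h1 : ∀ lam : A →* ℂˣ, conv (Cfsg.blockCoeff B) (homIdem A lam) z =
        ∑ h : A, ((lam h : ℂˣ) : ℂ) / (Nat.card A : ℂ) * Cfsg.blockCoeff B (z * (h : G)⁻¹) := by
      intro lam
      rw [conv_apply, ← sum_homIdem_mul A lam (fun s => Cfsg.blockCoeff B (z * s⁻¹))]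
      apply Fintype.sum_equiv ((Equiv.inv G).trans (Equiv.mulRight z))
      intro t
      simp only [Equiv.trans_apply, Equiv.inv_apply, Equiv.coe_mulRight]
      rw [mul_comm]
      congr 2
      group
    simp_rw [h1, Finset.mul_sum]
    rw [Finset.sum_comm]
    have h2 : ∀ h : A, ∑ lam : A →* ℂˣ, ((lam xA : ℂˣ) : ℂ) *
        (((lam h : ℂˣ) : ℂ) / (Nat.card A : ℂ) * Cfsg.blockCoeff B (z * (h : G)⁻¹)) =
        (if h = xA⁻¹ then (1 : ℂ) else 0) * Cfsg.blockCoeff B (z * (h : G)⁻¹) := by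
      intro h
      have h3 := sum_hom_apply_mul hab xA h
      have h4 : ∑ lam : A →* ℂˣ, ((lam xA : ℂˣ) : ℂ) *
          (((lam h : ℂˣ) : ℂ) / (Nat.card A : ℂ) * Cfsg.blockCoeff B (z * (h : G)⁻¹)) =
          (∑ lam : A →* ℂˣ, ((lam xA : ℂˣ) : ℂ) * ((lam h : ℂˣ) : ℂ)) / (Nat.card A : ℂ) *
            Cfsg.blockCoeff B (z * (h : G)⁻¹) := by
        rw [Finset.sum_div, Finset.sum_mul]
        apply Finset.sum_congr rfl
        intro lam _
        ring
      rw [h4, h3]
      split_ifs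
      · rw [div_self hA0]
      · rw [zero_div]
    simp_rw [h2]
    rw [Finset.sum_eq_single xA⁻¹]
    · rw [if_pos rfl, one_mul]
      congr 1
      simp [hxA]
    · intro b _ hb
      rw [if_neg hb, zero_mul]
    · intro h
      exact absurd (Finset.mem_univ _) h
  simp_rw [hexp]
  rw [Finset.sum_comm]
  apply Finset.sum_eq_zero
  intro lam _
  rw [← Finset.mul_sum, hw lam, mul_zero]

/-- The sum of an irreducible character over translated conjugates. -/
theorem sum_conj_mul_irr [Fintype G] {χ : G → ℂ} (hχ : Cfsg.IsIrrCharacter G χ) (a c : G) :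
    ∑ b : G, χ (b * a * b⁻¹ * c) = (Nat.card G : ℂ) * χ a * χ c / χ 1 := by
  obtain ⟨n, ρ, hirr, rfl⟩ := hχ
  haveI := hirr
  have h := sum_conj_rep ρ a
  have h1 : ∑ b : G, ρ.character (b * a * b⁻¹ * c) =
      LinearMap.trace ℂ _ ((∑ b : G, ρ (b * a * b⁻¹)) * ρ c) := by
    rw [Finset.sum_mul, map_sum]
    apply Finset.sum_congr rfl
    intro b _
    unfold Representation.character
    rw [map_mul]
  rw [h1, h, Representation.char_one]
  have h2 : ((Nat.card G : ℂ) * ρ.character a / (finrank ℂ (Fin n → ℂ) : ℂ)) •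
      (LinearMap.id : (Fin n → ℂ) →ₗ[ℂ] (Fin n → ℂ)) * ρ c =
      ((Nat.card G : ℂ) * ρ.character a / (finrank ℂ (Fin n → ℂ) : ℂ)) • ρ c := by
    rw [smul_mul_assoc]
    rfl
  rw [h2, map_smul, smul_eq_mul]
  unfold Representation.character
  ring

/-- **Weak block orthogonality.** -/
theorem weak_block_orthogonality [Finite G] (hM : M.IsMaximal) (p : ℕ)
    [hp : Fact p.Prime] (hpM : (p : Cfsg.AlgInt) ∈ M) (B : Set (Cfsg.IrrCharacter G))
    (hB : Cfsg.IsPBlock M B) (x y : G) (hx : ¬ p ∣ orderOf x) (hy : p ∣ orderOf y) :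
    ∑ᶠ χ ∈ B, (χ : G → ℂ) x * conj ((χ : G → ℂ) y) = 0 := by
  classical
  haveI := Fintype.ofFinite G
  haveI : Finite (Cfsg.IrrCharacter G) := irr_finite
  haveI : Fintype (Cfsg.IrrCharacter G) := Fintype.ofFinite _
  have hx' : ¬ p ∣ orderOf x⁻¹ := by rwa [orderOf_inv]
  have h0 := sum_blockCoeff_conj_mul_eq_zero hM p hpM B hB x⁻¹ y hx' hy
  have hG0 : (Nat.card G : ℂ) ≠ 0 := by
    have : 0 < Nat.card G := Nat.card_pos
    exact_mod_cast this.ne'
  have h1 : ∀ g : G, Cfsg.blockCoeff B (g * y * g⁻¹ * x⁻¹) = (Nat.card G : ℂ)⁻¹ *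
      ∑ χ : Cfsg.IrrCharacter G, if χ ∈ B then
        (χ : G → ℂ) 1 * conj ((χ : G → ℂ) (g * y * g⁻¹ * x⁻¹)) else 0 := by
    intro g
    unfold Cfsg.blockCoeff
    rw [finsum_mem_eq_sum_ite]
  simp_rw [h1] at h0
  rw [← Finset.mul_sum, Finset.sum_comm] at h0
  rw [finsum_mem_eq_sum_ite]
  have h2 : ∀ χ : Cfsg.IrrCharacter G,
      (∑ g : G, if χ ∈ B then (χ : G → ℂ) 1 * conj ((χ : G → ℂ) (g * y * g⁻¹ * x⁻¹)) else 0) =
      (Nat.card G : ℂ) * if χ ∈ B then (χ : G → ℂ) x * conj ((χ : G → ℂ) y) else 0 := by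
    intro χ
    by_cases hχ : χ ∈ B
    · simp only [if_pos hχ]
      rw [← Finset.mul_sum, ← map_sum, sum_conj_mul_irr χ.2]
      obtain ⟨d, hd, hd1⟩ := IsIrrCharacter.apply_one_pos χ.2
      have hd0 : (d : ℂ) ≠ 0 := by exact_mod_cast hd.ne'
      rw [IsCharacter.inv_eq_conj (IsIrrCharacter.isCharacter χ.2) x, hd1]
      simp only [map_div₀, map_mul, map_natCast, Complex.conj_conj]
      field_simp
    · simp only [if_neg hχ]
      simp
  simp_rw [h2] at h0
  rw [← Finset.mul_sum, ← mul_assoc, inv_mul_cancel₀ hG0, one_mul] at h0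
  exact h0

end Cfsg.Agent.Helper6
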