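import Mathlib
import Cfsg.Prelude.Def_Characters
import Cfsg.Prelude.Def_Blocks
import Cfsg.Agent.Helper6.WeakOrth
import Cfsg.Agent.Helper6.Induced
import Cfsg.Agent.Helper6.RepEigen
import Cfsg.Agent.Helper6.Codegree

/-!
# Block parts of class functions vanishing on `q`-singular elements
-/

set_option autoImplicit false
set_option linter.style.haveILetI false

namespace Cfsg.Agent.Helper6

open scoped ComplexConjugate

universe u

variable {G : Type u} [Group G] {M : Ideal Cfsg.AlgInt}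

theorem charDegree_cast_of_isCharacter {χ : G → ℂ} (hχ : Cfsg.IsCharacter G χ) :
    (Cfsg.charDegree χ : ℂ) = χ 1 := by
  obtain ⟨n, ρ, rfl⟩ := hχ
  rw [charDegree_rep, Representation.char_one]
  simp

section Vec

variable [Fintype G] [Fintype (Cfsg.IrrCharacter G)]

/-- the coefficients of a combination of irreducible characters -/
theorem coeff_eq_inner (c : Cfsg.IrrCharacter G → ℂ) (χ : Cfsg.IrrCharacter G) :
    c χ = (Nat.card G : ℂ)⁻¹ *
      ∑ x : G, (∑ ψ : Cfsg.IrrCharacter G, c ψ * (ψ : G → ℂ) x) * conj ((χ : G → ℂ) x) := by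
  classical
  simp_rw [Finset.sum_mul]
  rw [Finset.sum_comm, Finset.mul_sum]
  have h2 : ∀ ψ : Cfsg.IrrCharacter G,
      (Nat.card G : ℂ)⁻¹ * (∑ x : G, c ψ * (ψ : G → ℂ) x * conj ((χ : G → ℂ) x)) =
      c ψ * Cfsg.classInner (ψ : G → ℂ) (χ : G → ℂ) := by
    intro ψ
    rw [classInner_def, Finset.mul_sum, Finset.mul_sum, Finset.mul_sum]
    apply Finset.sum_congr rfl
    intro x _
    ring
  simp_rw [h2]
  rw [Finset.sum_eq_single χ]
  · rw [classInner_irr_self χ.2, mul_one]
  · intro ψ _ hne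
    rw [classInner_irr_ne ψ.2 χ.2, mul_zero]
    intro h
    exact hne (Subtype.ext h)
  · intro h
    exact absurd (Finset.mem_univ _) h

open Classical in
/-- **the block part of a class function vanishing on `q`-singular elements vanishes on
`q`-singular elements** -/
theorem blockPart_vanish (hM : M.IsMaximal) (q : ℕ) [hq : Fact q.Prime]
    (hqM : (q : Cfsg.AlgInt) ∈ M) (B : Set (Cfsg.IrrCharacter G)) (hB : Cfsg.IsPBlock M B)
    (c : Cfsg.IrrCharacter G → ℂ)
    (hvan : ∀ x : G, q ∣ orderOf x → ∑ χ : Cfsg.IrrCharacter G, c χ * (χ : G → ℂ) x = 0)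
    (z : G) (hz : q ∣ orderOf z) :
    ∑ χ : Cfsg.IrrCharacter G, (if χ ∈ B then c χ * (χ : G → ℂ) z else 0) = 0 := by
  set θ : G → ℂ := fun x => ∑ ψ : Cfsg.IrrCharacter G, c ψ * (ψ : G → ℂ) x with hθ
  have h3 : ∀ χ : Cfsg.IrrCharacter G, (if χ ∈ B then c χ * (χ : G → ℂ) z else 0) =
      ∑ x : G, (Nat.card G : ℂ)⁻¹ * θ x *
        (if χ ∈ B then conj ((χ : G → ℂ) x) * (χ : G → ℂ) z else 0) := by
    intro χ
    by_cases hχ : χ ∈ B
    · simp only [if_pos hχ]
      rw [coeff_eq_inner c χ, Finset.mul_sum, Finset.sum_mul]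
      apply Finset.sum_congr rfl
      intro x _
      ring
    · simp only [if_neg hχ, mul_zero]
      rw [Finset.sum_const_zero]
  simp_rw [h3]
  rw [Finset.sum_comm]
  apply Finset.sum_eq_zero
  intro x _
  rw [← Finset.mul_sum]
  by_cases hx : q ∣ orderOf x
  · have : θ x = 0 := hvan x hx
    rw [this, mul_zero, zero_mul]
  · have h := weak_block_orthogonality hM q hqM B hB x z hx hz
    rw [finsum_mem_eq_sum_ite] at h
    have h4 : ∑ χ : Cfsg.IrrCharacter G,
        (if χ ∈ B then conj ((χ : G → ℂ) x) * (χ : G → ℂ) z else 0) =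
        conj (∑ χ : Cfsg.IrrCharacter G,
          if χ ∈ B then (χ : G → ℂ) x * conj ((χ : G → ℂ) z) else 0) := by
      rw [map_sum]
      apply Finset.sum_congr rfl
      intro χ _
      by_cases hχ : χ ∈ B
      · rw [if_pos hχ, if_pos hχ, map_mul, Complex.conj_conj]
      · rw [if_neg hχ, if_neg hχ, map_zero]
    rw [h4, h, map_zero, mul_zero]

/-- **the degree of a class function vanishing on `q`-singular elements is divisible by the order
of every `q`-subgroup** -/
theorem exists_mult_of_vanish (q : ℕ) [hq : Fact q.Prime] (Q : Subgroup G) (hQ : IsPGroup q Q)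
    (c : Cfsg.IrrCharacter G → ℂ)
    (hvan : ∀ x : G, q ∣ orderOf x → ∑ χ : Cfsg.IrrCharacter G, c χ * (χ : G → ℂ) x = 0) :
    ∃ n : Cfsg.IrrCharacter G → ℕ, ∑ χ : Cfsg.IrrCharacter G, c χ * (χ : G → ℂ) 1 =
      (Nat.card Q : ℂ) * ∑ χ : Cfsg.IrrCharacter G, c χ * (n χ : ℂ) := by
  classical
  haveI : Fintype Q := Fintype.ofFinite Q
  have hone : Cfsg.IsCharacter Q (fun _ : Q => (1 : ℂ)) :=
    IsIrrCharacter.isCharacter isIrrCharacter_one
  have hn : ∀ χ : Cfsg.IrrCharacter G, ∃ n : ℕ,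
      Cfsg.classInner (fun u : Q => (χ : G → ℂ) u) (fun _ : Q => (1 : ℂ)) = n := fun χ =>
    classInner_char_char_nat (IsCharacter.restrict Q (IsIrrCharacter.isCharacter χ.2)) hone
  choose n hn using hn
  refine ⟨n, ?_⟩
  have hQ0 : (Nat.card Q : ℂ) ≠ 0 := by
    have : 0 < Nat.card Q := Nat.card_pos
    exact_mod_cast this.ne'
  have hsum : ∀ χ : Cfsg.IrrCharacter G, ∑ u : Q, (χ : G → ℂ) u = (Nat.card Q : ℂ) * (n χ : ℂ) := by
    intro χ
    rw [← hn χ, classInner_def, ← mul_assoc, mul_inv_cancel₀ hQ0, one_mul]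
    apply Finset.sum_congr rfl
    intro u _
    rw [map_one, mul_one]
  have h1 : ∑ u : Q, ∑ χ : Cfsg.IrrCharacter G, c χ * (χ : G → ℂ) u =
      ∑ χ : Cfsg.IrrCharacter G, c χ * (χ : G → ℂ) 1 := by
    rw [Finset.sum_eq_single (1 : Q)]
    · rfl
    · intro u _ hu
      apply hvan
      obtain ⟨k, hk⟩ := hQ u
      have hk' : (u : G) ^ q ^ k = 1 := by
        have := congrArg Subtype.val hk
        simpa using this
      have hdvd : orderOf (u : G) ∣ q ^ k := orderOf_dvd_of_pow_eq_one hk'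
      obtain ⟨j, _, hj⟩ := (Nat.dvd_prime_pow hq.1).mp hdvd
      rw [hj]
      cases j with
      | zero =>
        exfalso
        apply hu
        rw [pow_zero, orderOf_eq_one_iff] at hj
        exact Subtype.ext hj
      | succ j => exact dvd_pow_self q (Nat.succ_ne_zero j)
    · intro h
      exact absurd (Finset.mem_univ _) h
  rw [← h1, Finset.sum_comm, Finset.mul_sum]
  apply Finset.sum_congr rfl
  intro χ _
  rw [← Finset.mul_sum, hsum χ]
  ring

end Vec

end Cfsg.Agent.Helper6
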