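import Mathlib
import Cfsg.Prelude.Def_Characters
import Cfsg.Prelude.Def_OddOrderChar
import Cfsg.Agent.Helper6.CoherG

/-!
# Coherence: Peterfalvi (5.5), the image of a member under a coherent extension
-/

set_option autoImplicit false
set_option linter.style.haveILetI false

namespace Cfsg.Agent.Helper6

open scoped ComplexConjugate

universe u v

variable {L : Type u} [Group L] [Fintype L] {G : Type v} [Group G] [Fintype G]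

set_option maxHeartbeats 1600000 in
/-- Peterfalvi (5.5): a coherent extension sends a member `ξ` to a partial sum of `R ξ`. -/
theorem cs_coherent_sum (S : Set (L → ℂ)) (τ : (L → ℂ) → (G → ℂ)) (R : (L → ℂ) → Finset (G → ℂ))
    (hS : Cfsg.IsCoherenceSystem S τ R) (S₁ : Set (L → ℂ)) (hS₁ : S₁ ⊆ S)
    (hS₁c : ∀ φ ∈ S₁, Cfsg.conjFun φ ∈ S₁) (τ₁ : (L → ℂ) → (G → ℂ))
    (hτ₁ : Cfsg.IsLinearIsometryOn (Cfsg.zspan S₁) τ₁)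
    (hag : ∀ α ∈ Cfsg.zspanOn S₁ {1}ᶜ, τ₁ α = τ α) (ξ : L → ℂ) (hξ : ξ ∈ S₁) :
    ∃ c : (G → ℂ) → ℤ, (∀ α ∈ R ξ, c α = 0 ∨ c α = 1) ∧
      τ₁ ξ = ∑ α ∈ R ξ, (c α : ℂ) • α := by
  classical
  obtain ⟨-, -, hiso, hgen⟩ := id hτ₁
  have hξS := hS₁ hξ
  have hb := hS₁c ξ hξ
  obtain ⟨n, hn⟩ := classInner_char_char_nat (hS.isCharacter ξ hξS) (hS.isCharacter ξ hξS)
  have m1 : ξ ∈ Cfsg.zspan S₁ := Submodule.subset_span hξ
  have m2 : Cfsg.conjFun ξ ∈ Cfsg.zspan S₁ := Submodule.subset_span hb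
  have o : Cfsg.classInner ξ (Cfsg.conjFun ξ) = 0 :=
    hS.orthogonal ξ hξS _ (hS₁ hb) (Ne.symm (hS.conj_ne ξ hξS))
  have hdiff : τ₁ ξ - τ₁ (Cfsg.conjFun ξ) = ∑ α ∈ R ξ, α := by
    rw [← isometryOnSpan_map_sub S₁ τ₁ hτ₁ m1 m2,
      hag _ (sub_conjFun_mem_zspanOn S₁ ξ hξ hb (hS.isCharacter ξ hξS)), hS.sum_eq ξ hξS]
  obtain ⟨c, hc01, -, -, -, hY⟩ := exists_int_decomp (R ξ) ∅ (hS.orthonormal ξ hξS)
    (fun α hα => absurd hα (Finset.notMem_empty α))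
    (fun α _ β hβ => absurd hβ (Finset.notMem_empty β)) (hS.virtual ξ hξS)
    (fun α hα => absurd hα (Finset.notMem_empty α)) (τ₁ ξ) (hgen ξ m1) n 0
    (by
      rw [← hdiff, classInner_sub_right, hiso _ m1 _ m1, hiso _ m1 _ m2, hn, o, sub_zero])
    (by simp [classInner_zero_right])
    (by rw [hiso _ m1 _ m1, hn]; simp)
  refine ⟨c, hc01, ?_⟩
  rw [Finset.sum_empty, add_zero] at hY
  exact hY

/-- a coherent extension sends members to functions orthogonal to `R χ` for `χ` and its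
conjugate outside the coherent set -/
theorem cs_coherent_ortho (S : Set (L → ℂ)) (τ : (L → ℂ) → (G → ℂ))
    (R : (L → ℂ) → Finset (G → ℂ))
    (hS : Cfsg.IsCoherenceSystem S τ R) (S₁ : Set (L → ℂ)) (hS₁ : S₁ ⊆ S)
    (hS₁c : ∀ φ ∈ S₁, Cfsg.conjFun φ ∈ S₁) (τ₁ : (L → ℂ) → (G → ℂ))
    (hτ₁ : Cfsg.IsLinearIsometryOn (Cfsg.zspan S₁) τ₁)
    (hag : ∀ α ∈ Cfsg.zspanOn S₁ {1}ᶜ, τ₁ α = τ α) (ξ : L → ℂ) (hξ : ξ ∈ S₁)
    (χ : L → ℂ) (hχ : χ ∈ S) (hχ₁ : χ ∉ S₁) (hχ₂ : Cfsg.conjFun χ ∉ S₁) :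
    ∀ β ∈ R χ, Cfsg.classInner (τ₁ ξ) β = 0 := by
  obtain ⟨c, -, hsum⟩ := cs_coherent_sum S τ R hS S₁ hS₁ hS₁c τ₁ hτ₁ hag ξ hξ
  have hne1 : ξ ≠ χ := fun h => hχ₁ (h ▸ hξ)
  have hne2 : ξ ≠ Cfsg.conjFun χ := fun h => hχ₂ (h ▸ hξ)
  have h1 : Cfsg.classInner ξ χ = 0 := hS.orthogonal ξ (hS₁ hξ) χ hχ hne1
  have h2 : Cfsg.classInner ξ (Cfsg.conjFun χ) = 0 :=
    hS.orthogonal ξ (hS₁ hξ) _ (hS.conj_mem χ hχ) hne2
  have hdis := hS.disjoint χ hχ ξ (hS₁ hξ) h1 h2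
  intro β hβ
  rw [hsum, classInner_left_sum_smul]
  apply Finset.sum_eq_zero
  intro α hα
  rw [hdis α hα β hβ, mul_zero]

end Cfsg.Agent.Helper6
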