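import Mathlib
import Cfsg.Prelude.Def_Characters
import Cfsg.Prelude.Def_OddOrderChar
import Cfsg.Agent.Helper6.CoherH
import Cfsg.Agent.Helper6.IrrDegree

/-!
# Coherence: the key decomposition in Peterfalvi (5.6)
-/

set_option autoImplicit false
set_option linter.style.haveILetI false

namespace Cfsg.Agent.Helper6

open scoped ComplexConjugate

universe u v

variable {L : Type u} [Group L] [Fintype L] {G : Type v} [Group G] [Fintype G]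

/-- members of a coherence system are nonzero -/
theorem cs_ne_zero (S : Set (L → ℂ)) (τ : (L → ℂ) → (G → ℂ)) (R : (L → ℂ) → Finset (G → ℂ))
    (hS : Cfsg.IsCoherenceSystem S τ R) (φ : L → ℂ) (hφ : φ ∈ S) : φ ≠ 0 := by
  intro hz
  apply hS.conj_ne φ hφ
  rw [hz]
  funext y
  show conj ((0 : L → ℂ) y) = (0 : L → ℂ) y
  simp

theorem cs_degree_ne_zero (S : Set (L → ℂ)) (τ : (L → ℂ) → (G → ℂ))
    (R : (L → ℂ) → Finset (G → ℂ))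
    (hS : Cfsg.IsCoherenceSystem S τ R) (φ : L → ℂ) (hφ : φ ∈ S) : φ 1 ≠ 0 := by
  intro h0
  apply cs_ne_zero S τ R hS φ hφ
  funext y
  have := IsCharacter.norm_le_norm_one (hS.isCharacter φ hφ) y
  rw [h0, norm_zero] at this
  exact norm_eq_zero.mp (le_antisymm this (norm_nonneg _))

theorem cs_norm_ne_zero (S : Set (L → ℂ)) (τ : (L → ℂ) → (G → ℂ))
    (R : (L → ℂ) → Finset (G → ℂ))
    (hS : Cfsg.IsCoherenceSystem S τ R) (φ : L → ℂ) (hφ : φ ∈ S) :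
    Cfsg.classInner φ φ ≠ 0 := fun h =>
  cs_ne_zero S τ R hS φ hφ (classInner_self_eq_zero h)

/-- the integer inequality behind Peterfalvi (5.6) -/
theorem int_eq_zero_of_ineq (A Sg D : ℝ) (b : ℤ) (hA : 0 < A) (hD : 0 < D)
    (hSg : 2 * A * D ^ 2 < Sg) (h : 0 ≤ 2 * A * (b : ℝ) - (b : ℝ) ^ 2 * Sg / D ^ 2) : b = 0 := by
  by_contra hb
  have hb2 : (0 : ℝ) < (b : ℝ) ^ 2 := by
    have : (b : ℝ) ≠ 0 := by exact_mod_cast hb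
    positivity
  have hD2 : (0 : ℝ) < D ^ 2 := by positivity
  have h1 : 2 * A * (b : ℝ) ^ 2 < (b : ℝ) ^ 2 * Sg / D ^ 2 := by
    rw [lt_div_iff₀ hD2]
    nlinarith
  have h2 : (b : ℝ) ^ 2 < (b : ℝ) := by nlinarith
  have h3 : b ^ 2 < b := by exact_mod_cast h2
  nlinarith [sq_nonneg (b - 1), sq_nonneg b, sq_nonneg (b + 1)]


set_option maxHeartbeats 3200000 in
/-- Peterfalvi (5.6), the key step: `τ (χ − a χ₁)` is a partial sum of `R χ` minus `a τ₁ χ₁`. -/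
theorem cs_extend_key (S : Set (L → ℂ)) (τ : (L → ℂ) → (G → ℂ)) (R : (L → ℂ) → Finset (G → ℂ))
    (hS : Cfsg.IsCoherenceSystem S τ R) (d n : (L → ℂ) → ℕ) (hd : ∀ φ ∈ S, φ 1 = (d φ : ℂ))
    (hn : ∀ φ ∈ S, Cfsg.classInner φ φ = (n φ : ℂ)) (S₁ : Finset (L → ℂ))
    (hS₁ : (↑S₁ : Set (L → ℂ)) ⊆ S) (hS₁c : ∀ φ ∈ S₁, Cfsg.conjFun φ ∈ S₁)
    (τ₁ : (L → ℂ) → (G → ℂ))
    (hτ₁ : Cfsg.IsLinearIsometryOn (Cfsg.zspan (↑S₁ : Set (L → ℂ))) τ₁)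
    (hag : ∀ α ∈ Cfsg.zspanOn (↑S₁ : Set (L → ℂ)) {1}ᶜ, τ₁ α = τ α)
    (χ : L → ℂ) (hχ : χ ∈ S) (hχ₁ : χ ∉ S₁) (hχ₂ : Cfsg.conjFun χ ∉ S₁) (χ₁ : L → ℂ)
    (hχ₁S : χ₁ ∈ S₁) (a : ℕ) (ha : d χ = a * d χ₁)
    (hineq : (2 * d χ * d χ₁ : ℝ) < ∑ φ ∈ S₁, ((d φ : ℝ) ^ 2 / (n φ : ℝ))) :
    ∃ c : (G → ℂ) → ℤ, (∀ α ∈ R χ, c α = 0 ∨ c α = 1) ∧ (∑ α ∈ R χ, c α = n χ) ∧
      τ (χ - (a : ℂ) • χ₁) = ∑ α ∈ R χ, (c α : ℂ) • α - (a : ℂ) • τ₁ χ₁ := by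
  classical
  obtain ⟨-, -, hiso, hgen⟩ := id hS.isometry
  obtain ⟨-, -, hiso₁, hgen₁⟩ := id hτ₁
  have h₁S : χ₁ ∈ S := hS₁ hχ₁S
  have hbχ := hS.conj_mem χ hχ
  have hcz : ∀ (k : ℤ) (f : L → ℂ), (k : ℂ) • f = k • f := fun k f =>
    Int.cast_smul_eq_zsmul ℂ k f
  -- positivity facts
  have hd₁0 : d χ₁ ≠ 0 := by
    intro h
    apply cs_degree_ne_zero S τ R hS χ₁ h₁S
    rw [hd χ₁ h₁S, h, Nat.cast_zero]
  have hdχ0 : d χ ≠ 0 := by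
    intro h
    apply cs_degree_ne_zero S τ R hS χ hχ
    rw [hd χ hχ, h, Nat.cast_zero]
  have ha0 : a ≠ 0 := by
    intro h
    apply hdχ0
    rw [ha, h, zero_mul]
  have hn0 : ∀ φ ∈ S, n φ ≠ 0 := by
    intro φ hφ h
    apply cs_norm_ne_zero S τ R hS φ hφ
    rw [hn φ hφ, h, Nat.cast_zero]
  -- orthogonality facts
  have hne1 : χ₁ ≠ χ := fun h => hχ₁ (h ▸ hχ₁S)
  have hne2 : χ₁ ≠ Cfsg.conjFun χ := fun h => hχ₂ (h ▸ hχ₁S)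
  have o1 : Cfsg.classInner χ₁ χ = 0 := hS.orthogonal χ₁ h₁S χ hχ hne1
  have o1' : Cfsg.classInner χ χ₁ = 0 := hS.orthogonal χ hχ χ₁ h₁S (Ne.symm hne1)
  have o2 : Cfsg.classInner χ₁ (Cfsg.conjFun χ) = 0 := hS.orthogonal χ₁ h₁S _ hbχ hne2
  have o3 : Cfsg.classInner χ (Cfsg.conjFun χ) = 0 :=
    hS.orthogonal χ hχ _ hbχ (Ne.symm (hS.conj_ne χ hχ))
  -- membership
  have hmemΔ : χ - (a : ℂ) • χ₁ ∈ Cfsg.zspanOn S {1}ᶜ := by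
    refine ⟨?_, ?_⟩
    · have : (a : ℂ) • χ₁ = (a : ℤ) • χ₁ := by
        rw [← hcz, Int.cast_natCast]
      rw [this]
      exact Submodule.sub_mem _ (Submodule.subset_span hχ)
        (Submodule.smul_mem _ _ (Submodule.subset_span h₁S))
    · intro x hx
      have hx1 : x = 1 := by simpa using hx
      rw [hx1, Pi.sub_apply, Pi.smul_apply, smul_eq_mul, hd χ hχ, hd χ₁ h₁S, ha]
      push_cast
      ring
  have hmemχ := sub_conjFun_mem_zspanOn S χ hχ hbχ (hS.isCharacter χ hχ)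
  set Δ : G → ℂ := τ (χ - (a : ℂ) • χ₁) with hΔ
  have hΔv : Cfsg.IsGeneralizedCharacter G Δ := hgen _ hmemΔ
  have hΔΔ : Cfsg.classInner Δ Δ = (n χ : ℂ) + (a : ℂ) ^ 2 * (n χ₁ : ℂ) := by
    rw [hΔ, hiso _ hmemΔ _ hmemΔ]
    simp only [classInner_sub_right, classInner_sub_left, classInner_smul_right,
      classInner_smul_left, hn χ hχ, hn χ₁ h₁S, o1, o1', map_natCast]
    ring
  -- coefficients on `R χ`
  have hcex : ∀ α ∈ R χ, ∃ c : ℤ, Cfsg.classInner Δ α = c := fun α hα =>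
    classInner_genchar_int hΔv (hS.virtual χ hχ α hα)
  choose! c hc using hcex
  have hcs : ∑ α ∈ R χ, c α = n χ := by
    have h3 : ((∑ α ∈ R χ, c α : ℤ) : ℂ) = ((n χ : ℤ) : ℂ) := by
      rw [Int.cast_sum, Int.cast_natCast]
      have h4 : Cfsg.classInner Δ (τ (χ - Cfsg.conjFun χ)) = n χ := by
        rw [hΔ, hiso _ hmemΔ _ hmemχ]
        simp only [classInner_sub_right, classInner_sub_left, classInner_smul_left,
          hn χ hχ, o1, o2, o3]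
        ring
      rw [← h4, hS.sum_eq χ hχ, classInner_sum_right]
      exact Finset.sum_congr rfl (fun α hα => (hc α hα).symm)
    exact_mod_cast h3
  obtain ⟨hge, heq⟩ := sum_sq_ge_of_sum_eq (R χ) c
  rw [hcs] at hge heq
  -- coefficients on the images of `S₁`
  have hβex : ∀ ξ ∈ S₁, ∃ β : ℤ, Cfsg.classInner Δ (τ₁ ξ) = β := fun ξ hξ =>
    classInner_genchar_int hΔv (hgen₁ ξ (Submodule.subset_span hξ))
  choose! β hβ using hβex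
  set b : ℤ := β χ₁ + a * n χ₁ with hb
  have hrel : ∀ ξ ∈ S₁, ξ ≠ χ₁ → (d χ₁ : ℤ) * β ξ = d ξ * b := by
    intro ξ hξ hne
    have hξS := hS₁ hξ
    have m1 : ξ ∈ Cfsg.zspan (↑S₁ : Set (L → ℂ)) := Submodule.subset_span hξ
    have m2 : χ₁ ∈ Cfsg.zspan (↑S₁ : Set (L → ℂ)) := Submodule.subset_span hχ₁S
    have hcomb : ((d χ₁ : ℤ) • ξ - (d ξ : ℤ) • χ₁) ∈
        Cfsg.zspanOn (↑S₁ : Set (L → ℂ)) {1}ᶜ := by
      refine ⟨Submodule.sub_mem _ (Submodule.smul_mem _ _ m1) (Submodule.smul_mem _ _ m2), ?_⟩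
      intro x hx
      have hx1 : x = 1 := by simpa using hx
      rw [hx1, Pi.sub_apply, Pi.smul_apply, Pi.smul_apply, hd ξ hξS, hd χ₁ h₁S]
      simp only [zsmul_eq_mul]
      push_cast
      ring
    have hτ₁comb : τ₁ ((d χ₁ : ℤ) • ξ - (d ξ : ℤ) • χ₁) =
        (d χ₁ : ℤ) • τ₁ ξ - (d ξ : ℤ) • τ₁ χ₁ := by
      rw [isometryOnSpan_map_sub _ τ₁ hτ₁ (Submodule.smul_mem _ _ m1) (Submodule.smul_mem _ _ m2),
        hτ₁.2.1 ξ m1, hτ₁.2.1 χ₁ m2]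
    have oξ : Cfsg.classInner χ ξ = 0 :=
      hS.orthogonal χ hχ ξ hξS (fun h => hχ₁ (h ▸ hξ))
    have oξ₁ : Cfsg.classInner χ₁ ξ = 0 := hS.orthogonal χ₁ h₁S ξ hξS (Ne.symm hne)
    have h5 : Cfsg.classInner Δ (τ₁ ((d χ₁ : ℤ) • ξ - (d ξ : ℤ) • χ₁)) =
        (a : ℂ) * (d ξ : ℂ) * (n χ₁ : ℂ) := by
      rw [hag _ hcomb, hΔ, hiso _ hmemΔ _ (zspanOn_mono hS₁ _ hcomb), ← hcz, ← hcz]
      simp only [classInner_sub_right, classInner_sub_left, classInner_smul_right,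
        classInner_smul_left, hn χ₁ h₁S, o1', oξ, oξ₁, map_intCast, Int.cast_natCast,
        map_natCast]
      ring
    rw [hτ₁comb, ← Int.cast_smul_eq_zsmul ℂ, ← Int.cast_smul_eq_zsmul ℂ] at h5
    simp only [classInner_sub_right, classInner_smul_right, hβ ξ hξ, hβ χ₁ hχ₁S, map_intCast,
      Int.cast_natCast, map_natCast] at h5
    have h6 : (((d χ₁ : ℤ) * β ξ : ℤ) : ℂ) = ((d ξ * b : ℤ) : ℂ) := by
      rw [hb]
      push_cast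
      linear_combination h5
    exact_mod_cast h6
  -- first projection
  set X : G → ℂ := ∑ α ∈ R χ, (c α : ℂ) • α with hX
  have hW₁ := classInner_sub_proj_self (R χ) (hS.orthonormal χ hχ) Δ c hc
  have hXτ₁ : ∀ ξ ∈ S₁, Cfsg.classInner X (τ₁ ξ) = 0 := by
    intro ξ hξ
    rw [hX, classInner_left_sum_smul]
    apply Finset.sum_eq_zero
    intro α hα
    have := cs_coherent_ortho S τ R hS ↑S₁ hS₁ hS₁c τ₁ hτ₁ hag ξ hξ χ hχ hχ₁ hχ₂ α hα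
    rw [classInner_conj_symm (τ₁ ξ) α, this, map_zero, mul_zero]
  have hW₁β : ∀ ξ ∈ S₁, Cfsg.classInner (Δ - X) (τ₁ ξ) = β ξ := by
    intro ξ hξ
    rw [classInner_sub_left, hβ ξ hξ, hXτ₁ ξ hξ, sub_zero]
  -- second projection
  have hτ₁orth : ∀ ξ ∈ S₁, ∀ ξ' ∈ S₁, Cfsg.classInner (τ₁ ξ) (τ₁ ξ') =
      if ξ = ξ' then (n ξ : ℂ) else 0 := by
    intro ξ hξ ξ' hξ'
    rw [hiso₁ ξ (Submodule.subset_span hξ) ξ' (Submodule.subset_span hξ')]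
    split_ifs with h
    · rw [← h]
      exact hn ξ (hS₁ hξ)
    · exact hS.orthogonal ξ (hS₁ hξ) ξ' (hS₁ hξ') h
  have hW := classInner_sub_orthproj_self S₁ τ₁ n (fun ξ hξ => hn0 ξ (hS₁ hξ)) hτ₁orth
    (Δ - X) β hW₁β
  rw [hW₁, hΔΔ] at hW
  -- the sum of squares over `S₁`
  have hsumβ : ∀ bb : ℤ, bb = b → (∑ ξ ∈ S₁, ((β ξ : ℝ) ^ 2 / (n ξ : ℝ))) =
      -2 * (a : ℝ) * (bb : ℝ) + (a : ℝ) ^ 2 * (n χ₁ : ℝ) +
        (bb : ℝ) ^ 2 * (∑ φ ∈ S₁, ((d φ : ℝ) ^ 2 / (n φ : ℝ))) / (d χ₁ : ℝ) ^ 2 := by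
    intro bb hbb
    have hd₁R : (d χ₁ : ℝ) ≠ 0 := by exact_mod_cast hd₁0
    have hn₁R : (n χ₁ : ℝ) ≠ 0 := by exact_mod_cast hn0 χ₁ h₁S
    rw [← Finset.add_sum_erase S₁ _ hχ₁S,
      ← Finset.add_sum_erase S₁ (fun φ => (d φ : ℝ) ^ 2 / (n φ : ℝ)) hχ₁S]
    have hrest : ∑ ξ ∈ S₁.erase χ₁, ((β ξ : ℝ) ^ 2 / (n ξ : ℝ)) =
        (bb : ℝ) ^ 2 / (d χ₁ : ℝ) ^ 2 * ∑ ξ ∈ S₁.erase χ₁, ((d ξ : ℝ) ^ 2 / (n ξ : ℝ)) := by
      rw [Finset.mul_sum]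
      apply Finset.sum_congr rfl
      intro ξ hξ
      rw [Finset.mem_erase] at hξ
      have h7 := hrel ξ hξ.2 hξ.1
      have h8 : (d χ₁ : ℝ) * (β ξ : ℝ) = (d ξ : ℝ) * (bb : ℝ) := by
        rw [hbb]
        exact_mod_cast h7
      have h9 : (β ξ : ℝ) = (d ξ : ℝ) * (bb : ℝ) / (d χ₁ : ℝ) := by
        rw [eq_div_iff hd₁R, mul_comm]
        exact h8
      rw [h9]
      have hnξ : (n ξ : ℝ) ≠ 0 := by exact_mod_cast hn0 ξ (hS₁ hξ.2)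
      field_simp
    have hβ₁ : (β χ₁ : ℝ) = (bb : ℝ) - (a : ℝ) * (n χ₁ : ℝ) := by
      rw [hbb, hb]
      push_cast
      ring
    rw [hrest, hβ₁]
    field_simp
    ring
  -- nonnegativity gives `b = 0`
  have hnn := classInner_self_re_nonneg
    (Δ - X - ∑ i ∈ S₁, ((β i : ℂ) / (n i : ℂ)) • τ₁ i)
  rw [hW] at hnn
  have hcastre : ((n χ : ℂ) + (a : ℂ) ^ 2 * (n χ₁ : ℂ) - ((∑ α ∈ R χ, c α ^ 2 : ℤ) : ℂ) -
      ∑ i ∈ S₁, ((β i : ℂ) ^ 2 / (n i : ℂ))) =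
      (((n χ : ℝ) + (a : ℝ) ^ 2 * (n χ₁ : ℝ) - ((∑ α ∈ R χ, c α ^ 2 : ℤ) : ℝ) -
      ∑ i ∈ S₁, ((β i : ℝ) ^ 2 / (n i : ℝ)) : ℝ) : ℂ) := by
    push_cast
    rfl
  rw [hcastre, Complex.ofReal_re] at hnn
  have hgeR : ((n χ : ℤ) : ℝ) ≤ ((∑ α ∈ R χ, c α ^ 2 : ℤ) : ℝ) := by exact_mod_cast hge
  rw [Int.cast_natCast] at hgeR
  have hb0 : b = 0 := by
    apply int_eq_zero_of_ineq (a : ℝ) (∑ φ ∈ S₁, ((d φ : ℝ) ^ 2 / (n φ : ℝ))) (d χ₁ : ℝ) b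
    · exact_mod_cast Nat.pos_of_ne_zero ha0
    · exact_mod_cast Nat.pos_of_ne_zero hd₁0
    · have : (d χ : ℝ) = (a : ℝ) * (d χ₁ : ℝ) := by exact_mod_cast ha
      rw [this] at hineq
      linarith
    · rw [hsumβ b rfl] at hnn
      linarith
  -- with `b = 0`
  have hsum0 := hsumβ 0 hb0.symm
  simp only [Int.cast_zero, mul_zero, zero_mul, zero_div, add_zero, zero_add, ne_eq,
    OfNat.ofNat_ne_zero, not_false_eq_true, zero_pow] at hsum0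
  rw [hsum0] at hnn
  have hle : ∑ α ∈ R χ, c α ^ 2 ≤ (n χ : ℤ) := by
    have : ((∑ α ∈ R χ, c α ^ 2 : ℤ) : ℝ) ≤ ((n χ : ℤ) : ℝ) := by
      rw [Int.cast_natCast]
      linarith
    exact_mod_cast this
  have hceq : ∑ α ∈ R χ, c α ^ 2 = (n χ : ℤ) := le_antisymm hle hge
  have hW0 : Δ - X - ∑ i ∈ S₁, ((β i : ℂ) / (n i : ℂ)) • τ₁ i = 0 := by
    apply classInner_self_eq_zero
    rw [hW, hcastre, hsum0, hceq]
    push_cast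
    ring
  have hβ₁ : β χ₁ = -(a * n χ₁ : ℤ) := by
    rw [hb] at hb0
    omega
  have hβ0 : ∀ ξ ∈ S₁, ξ ≠ χ₁ → β ξ = 0 := by
    intro ξ hξ hne
    have := hrel ξ hξ hne
    rw [hb0, mul_zero] at this
    rcases mul_eq_zero.mp this with h | h
    · exact absurd (by exact_mod_cast h) hd₁0
    · exact h
  have hsumτ₁ : ∑ i ∈ S₁, ((β i : ℂ) / (n i : ℂ)) • τ₁ i = -((a : ℂ) • τ₁ χ₁) := by
    rw [Finset.sum_eq_single χ₁]
    · rw [hβ₁]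
      have hn₁C : (n χ₁ : ℂ) ≠ 0 := by exact_mod_cast hn0 χ₁ h₁S
      rw [← neg_smul]
      congr 1
      push_cast
      field_simp
    · intro ξ hξ hne
      rw [hβ0 ξ hξ hne, Int.cast_zero, zero_div, zero_smul]
    · intro h
      exact absurd hχ₁S h
  refine ⟨c, heq hle, hcs, ?_⟩
  rw [hsumτ₁, sub_neg_eq_add] at hW0
  have h10 : Δ - X + (a : ℂ) • τ₁ χ₁ = 0 := hW0
  rw [sub_add_eq_add_sub, sub_eq_zero] at h10
  exact eq_sub_of_add_eq h10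

end Cfsg.Agent.Helper6
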