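import Mathlib
import Cfsg.Prelude.Def_Characters
import Cfsg.Prelude.Def_OddOrderChar
import Cfsg.Agent.Helper6.CoherI

/-!
# Coherence: Peterfalvi (5.6), extending a coherent subset by a pair of conjugate members
-/

set_option autoImplicit false
set_option linter.style.haveILetI false

namespace Cfsg.Agent.Helper6

open scoped ComplexConjugate

universe u v

variable {L : Type u} [Group L] [Fintype L] {G : Type v} [Group G] [Fintype G]

set_option maxHeartbeats 6400000 in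
/-- Peterfalvi (5.6). -/
theorem cs_extend_coherent (S : Set (L → ℂ)) (τ : (L → ℂ) → (G → ℂ))
    (R : (L → ℂ) → Finset (G → ℂ))
    (hS : Cfsg.IsCoherenceSystem S τ R) (d n : (L → ℂ) → ℕ) (hd : ∀ φ ∈ S, φ 1 = (d φ : ℂ))
    (hn : ∀ φ ∈ S, Cfsg.classInner φ φ = (n φ : ℂ)) (S₁ : Finset (L → ℂ))
    (hS₁ : (↑S₁ : Set (L → ℂ)) ⊆ S) (hS₁c : ∀ φ ∈ S₁, Cfsg.conjFun φ ∈ S₁)
    (hcoh : Cfsg.IsCoherent (↑S₁ : Set (L → ℂ)) {1}ᶜ τ)
    (χ : L → ℂ) (hχ : χ ∈ S) (hχ₁ : χ ∉ S₁) (hχ₂ : Cfsg.conjFun χ ∉ S₁) (χ₁ : L → ℂ)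
    (hχ₁S : χ₁ ∈ S₁) (hdvd : d χ₁ ∣ d χ)
    (hineq : (2 * d χ * d χ₁ : ℝ) < ∑ φ ∈ S₁, ((d φ : ℝ) ^ 2 / (n φ : ℝ))) :
    Cfsg.IsCoherent (↑S₁ ∪ {χ, Cfsg.conjFun χ} : Set (L → ℂ)) {1}ᶜ τ := by
  classical
  obtain ⟨-, τ₁, hτ₁, hag⟩ := hcoh
  obtain ⟨a, ha⟩ := hdvd
  obtain ⟨c, hc01, hcs, hkey⟩ := cs_extend_key S τ R hS d n hd hn S₁ hS₁ hS₁c τ₁ hτ₁ hag χ hχ hχ₁
    hχ₂ χ₁ hχ₁S a (by rw [ha, mul_comm]) hineq
  obtain ⟨hadd, hsmul, hiso, hgen⟩ := id hS.isometry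
  obtain ⟨hadd₁, hsmul₁, hiso₁, hgen₁⟩ := id hτ₁
  have h₁S : χ₁ ∈ S := hS₁ hχ₁S
  have hbχ := hS.conj_mem χ hχ
  have hcz : ∀ (k : ℤ) (f : L → ℂ), (k : ℂ) • f = k • f := fun k f =>
    Int.cast_smul_eq_zsmul ℂ k f
  have hczG : ∀ (k : ℤ) (f : G → ℂ), (k : ℂ) • f = k • f := fun k f =>
    Int.cast_smul_eq_zsmul ℂ k f
  have hnχ0 : (n χ : ℂ) ≠ 0 := by
    rw [← hn χ hχ]
    exact cs_norm_ne_zero S τ R hS χ hχ
  have hnχb0 : (n (Cfsg.conjFun χ) : ℂ) ≠ 0 := by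
    rw [← hn _ hbχ]
    exact cs_norm_ne_zero S τ R hS _ hbχ
  have o3 : Cfsg.classInner χ (Cfsg.conjFun χ) = 0 :=
    hS.orthogonal χ hχ _ hbχ (Ne.symm (hS.conj_ne χ hχ))
  have o3' : Cfsg.classInner (Cfsg.conjFun χ) χ = 0 :=
    hS.orthogonal _ hbχ χ hχ (hS.conj_ne χ hχ)
  have hmemχ := sub_conjFun_mem_zspanOn S χ hχ hbχ (hS.isCharacter χ hχ)
  set U : Set (L → ℂ) := ↑S₁ ∪ {χ, Cfsg.conjFun χ} with hU
  have hUS : U ⊆ S := by
    intro f hf
    rcases hf with hf | hf | hf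
    · exact hS₁ hf
    · rw [hf]
      exact hχ
    · rw [Set.mem_singleton_iff] at hf
      rw [hf]
      exact hbχ
  have hχU : χ ∈ U := Or.inr (Or.inl rfl)
  have hbχU : Cfsg.conjFun χ ∈ U := Or.inr (Or.inr rfl)
  -- the two new images
  set X : G → ℂ := ∑ α ∈ R χ, (c α : ℂ) • α with hX
  set X' : G → ℂ := ∑ α ∈ R χ, ((c α : ℂ) - 1) • α with hX'
  have hXX'sum : X - X' = ∑ α ∈ R χ, α := by
    rw [hX, hX', ← Finset.sum_sub_distrib]
    apply Finset.sum_congr rfl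
    intro α _
    rw [← sub_smul]
    simp
  have hcardR : ((R χ).card : ℂ) = (n χ : ℂ) + n (Cfsg.conjFun χ) := by
    have h1 := hiso _ hmemχ _ hmemχ
    rw [hS.sum_eq χ hχ, classInner_sub_left, classInner_sub_right, classInner_sub_right,
      hn χ hχ, o3, o3', hn _ hbχ] at h1
    have : ∑ β ∈ R χ, β = ∑ β ∈ R χ, ((fun _ => (1 : ℂ)) β) • β := by
      apply Finset.sum_congr rfl
      intro β _
      rw [one_smul]
    rw [this, classInner_sum_smul_orthonormal _ (hS.orthonormal χ hχ)] at h1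
    simp only [map_one, mul_one, Finset.sum_const, nsmul_eq_mul] at h1
    rw [h1]
    ring
  have hcsC : ∑ α ∈ R χ, (c α : ℂ) = (n χ : ℂ) := by
    have : ((∑ α ∈ R χ, c α : ℤ) : ℂ) = ((n χ : ℤ) : ℂ) := by rw [hcs]
    rw [Int.cast_sum, Int.cast_natCast] at this
    exact this
  have hXX : Cfsg.classInner X X = n χ := by
    rw [hX, classInner_sum_smul_orthonormal _ (hS.orthonormal χ hχ), ← hcsC]
    apply Finset.sum_congr rfl
    intro α hα
    rw [map_intCast]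
    rcases hc01 α hα with h | h <;> rw [h] <;> simp
  have hX'X' : Cfsg.classInner X' X' = n (Cfsg.conjFun χ) := by
    rw [hX', classInner_sum_smul_orthonormal _ (hS.orthonormal χ hχ)]
    have h1 : ∑ α ∈ R χ, ((c α : ℂ) - 1) * conj ((c α : ℂ) - 1) =
        ∑ α ∈ R χ, ((1 : ℂ) - (c α : ℂ)) := by
      apply Finset.sum_congr rfl
      intro α hα
      rw [map_sub, map_intCast, map_one]
      rcases hc01 α hα with h | h <;> rw [h] <;> simp
    rw [h1, Finset.sum_sub_distrib, hcsC, Finset.sum_const, nsmul_eq_mul, mul_one, hcardR]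
    ring
  have hXX' : Cfsg.classInner X X' = 0 := by
    rw [hX, hX', classInner_sum_smul_orthonormal _ (hS.orthonormal χ hχ)]
    apply Finset.sum_eq_zero
    intro α hα
    rw [map_sub, map_intCast, map_one]
    rcases hc01 α hα with h | h <;> rw [h] <;> simp
  have hX'X : Cfsg.classInner X' X = 0 := by
    rw [classInner_conj_symm X X', hXX', map_zero]
  have hXv : Cfsg.IsGeneralizedCharacter G X := by
    apply genchar_sum
    intro α hα
    exact genchar_intCast_smul (hS.virtual χ hχ α hα) _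
  have hX'v : Cfsg.IsGeneralizedCharacter G X' := by
    apply genchar_sum
    intro α hα
    have : ((c α : ℂ) - 1) = ((c α - 1 : ℤ) : ℂ) := by push_cast; ring
    rw [this]
    exact genchar_intCast_smul (hS.virtual χ hχ α hα) _
  -- orthogonality of the images of `ℤ[S₁]` to `R χ`
  have hτ₁R : ∀ g ∈ Cfsg.zspan (↑S₁ : Set (L → ℂ)), ∀ α ∈ R χ,
      Cfsg.classInner (τ₁ g) α = 0 := by
    intro g hg α hα
    induction hg using Submodule.span_induction with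
    | mem ξ hξ =>
      exact cs_coherent_ortho S τ R hS ↑S₁ hS₁ hS₁c τ₁ hτ₁ hag ξ hξ χ hχ hχ₁ hχ₂ α hα
    | zero =>
      rw [isometryOnSpan_map_zero _ τ₁ hτ₁, classInner_zero_left]
    | add x y hx hy ihx ihy =>
      rw [hadd₁ x hx y hy, classInner_add_left, ihx, ihy, add_zero]
    | smul k x hx ihx =>
      rw [hsmul₁ x hx k, ← hczG, classInner_smul_left, ihx, mul_zero]
  have hτ₁X : ∀ g ∈ Cfsg.zspan (↑S₁ : Set (L → ℂ)), Cfsg.classInner (τ₁ g) X = 0 ∧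
      Cfsg.classInner (τ₁ g) X' = 0 := by
    intro g hg
    constructor
    · rw [hX, classInner_right_sum_smul]
      apply Finset.sum_eq_zero
      intro α hα
      rw [hτ₁R g hg α hα, mul_zero]
    · rw [hX', classInner_right_sum_smul]
      apply Finset.sum_eq_zero
      intro α hα
      rw [hτ₁R g hg α hα, mul_zero]
  -- orthogonality of `ℤ[S₁]` to `χ` and its conjugate
  have hgχ : ∀ g ∈ Cfsg.zspan (↑S₁ : Set (L → ℂ)), Cfsg.classInner g χ = 0 ∧
      Cfsg.classInner g (Cfsg.conjFun χ) = 0 := by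
    intro g hg
    induction hg using Submodule.span_induction with
    | mem ξ hξ =>
      exact ⟨hS.orthogonal ξ (hS₁ hξ) χ hχ (fun h => hχ₁ (h ▸ hξ)),
        hS.orthogonal ξ (hS₁ hξ) _ hbχ (fun h => hχ₂ (h ▸ hξ))⟩
    | zero => exact ⟨classInner_zero_left _, classInner_zero_left _⟩
    | add x y _ _ ihx ihy =>
      rw [classInner_add_left, classInner_add_left, ihx.1, ihx.2, ihy.1, ihy.2, add_zero]
      exact ⟨rfl, rfl⟩
    | smul k x _ ihx =>
      rw [← hcz, classInner_smul_left, classInner_smul_left, ihx.1, ihx.2, mul_zero]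
      exact ⟨rfl, rfl⟩
  -- decomposition of the members of `ℤ[U]`
  have hdec : ∀ f ∈ Cfsg.zspan U, ∃ g ∈ Cfsg.zspan (↑S₁ : Set (L → ℂ)), ∃ p q : ℤ,
      f = g + (p : ℂ) • χ + (q : ℂ) • Cfsg.conjFun χ := by
    intro f hf
    induction hf using Submodule.span_induction with
    | mem ξ hξ =>
      rcases hξ with hξ | hξ | hξ
      · exact ⟨ξ, Submodule.subset_span hξ, 0, 0, by simp⟩
      · rw [hξ]
        exact ⟨0, Submodule.zero_mem _, 1, 0, by simp⟩
      · rw [Set.mem_singleton_iff] at hξ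
        rw [hξ]
        exact ⟨0, Submodule.zero_mem _, 0, 1, by simp⟩
    | zero => exact ⟨0, Submodule.zero_mem _, 0, 0, by simp⟩
    | add x y _ _ ihx ihy =>
      obtain ⟨g, hg, p, q, rfl⟩ := ihx
      obtain ⟨g', hg', p', q', rfl⟩ := ihy
      refine ⟨g + g', Submodule.add_mem _ hg hg', p + p', q + q', ?_⟩
      push_cast
      module
    | smul k x _ ihx =>
      obtain ⟨g, hg, p, q, rfl⟩ := ihx
      refine ⟨k • g, Submodule.smul_mem _ k hg, k * p, k * q, ?_⟩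
      rw [← hcz, ← hcz]
      push_cast
      module
  -- the extension
  let P : (L → ℂ) → ℂ := fun f => Cfsg.classInner f χ / (n χ : ℂ)
  let Q : (L → ℂ) → ℂ := fun f => Cfsg.classInner f (Cfsg.conjFun χ) / (n (Cfsg.conjFun χ) : ℂ)
  let τ₂ : (L → ℂ) → (G → ℂ) := fun f =>
    τ₁ (f - P f • χ - Q f • Cfsg.conjFun χ) + P f • X + Q f • X'
  have hτ₂ : ∀ g ∈ Cfsg.zspan (↑S₁ : Set (L → ℂ)), ∀ p q : ℤ,
      τ₂ (g + (p : ℂ) • χ + (q : ℂ) • Cfsg.conjFun χ) = τ₁ g + (p : ℂ) • X + (q : ℂ) • X' := by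
    intro g hg p q
    have hP : P (g + (p : ℂ) • χ + (q : ℂ) • Cfsg.conjFun χ) = p := by
      show Cfsg.classInner (g + (p : ℂ) • χ + (q : ℂ) • Cfsg.conjFun χ) χ / (n χ : ℂ) = p
      rw [classInner_add_left, classInner_add_left, classInner_smul_left, classInner_smul_left,
        (hgχ g hg).1, hn χ hχ, o3']
      field_simp
      ring
    have hQ : Q (g + (p : ℂ) • χ + (q : ℂ) • Cfsg.conjFun χ) = q := by
      show Cfsg.classInner (g + (p : ℂ) • χ + (q : ℂ) • Cfsg.conjFun χ) (Cfsg.conjFun χ) /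
        (n (Cfsg.conjFun χ) : ℂ) = q
      rw [classInner_add_left, classInner_add_left, classInner_smul_left, classInner_smul_left,
        (hgχ g hg).2, hn _ hbχ, o3]
      field_simp
      ring
    show τ₁ (_ - P _ • χ - Q _ • Cfsg.conjFun χ) + P _ • X + Q _ • X' = _
    rw [hP, hQ]
    congr 3
    abel
  have hinner : ∀ g ∈ Cfsg.zspan (↑S₁ : Set (L → ℂ)), ∀ g' ∈ Cfsg.zspan (↑S₁ : Set (L → ℂ)),
      ∀ p q p' q' : ℤ,
      Cfsg.classInner (τ₁ g + (p : ℂ) • X + (q : ℂ) • X') (τ₁ g' + (p' : ℂ) • X + (q' : ℂ) • X') =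
      Cfsg.classInner (g + (p : ℂ) • χ + (q : ℂ) • Cfsg.conjFun χ)
        (g' + (p' : ℂ) • χ + (q' : ℂ) • Cfsg.conjFun χ) := by
    intro g hg g' hg' p q p' q'
    have e1 : Cfsg.classInner X (τ₁ g') = 0 := by
      rw [classInner_conj_symm (τ₁ g') X, (hτ₁X g' hg').1, map_zero]
    have e2 : Cfsg.classInner X' (τ₁ g') = 0 := by
      rw [classInner_conj_symm (τ₁ g') X', (hτ₁X g' hg').2, map_zero]
    have e3 : Cfsg.classInner χ g' = 0 := by
      rw [classInner_conj_symm g' χ, (hgχ g' hg').1, map_zero]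
    have e4 : Cfsg.classInner (Cfsg.conjFun χ) g' = 0 := by
      rw [classInner_conj_symm g' _, (hgχ g' hg').2, map_zero]
    simp only [classInner_add_left, classInner_add_right, classInner_smul_left,
      classInner_smul_right, (hτ₁X g hg).1, (hτ₁X g hg).2, e1, e2, e3, e4, (hgχ g hg).1,
      (hgχ g hg).2, hXX, hX'X', hXX', hX'X, o3, o3', hn χ hχ, hn _ hbχ, hiso₁ g hg g' hg',
      map_intCast]
  have hτ0 : τ 0 = 0 := isometryOn_map_zero S _ τ hS.isometry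
  refine ⟨⟨χ - Cfsg.conjFun χ, ?_, ?_⟩, τ₂, ⟨?_, ?_, ?_, ?_⟩, ?_⟩
  · exact sub_conjFun_mem_zspanOn U χ hχU hbχU (hS.isCharacter χ hχ)
  · intro h
    apply hS.conj_ne χ hχ
    exact (sub_eq_zero.mp h).symm
  · intro f hf f' hf'
    obtain ⟨g, hg, p, q, rfl⟩ := hdec f hf
    obtain ⟨g', hg', p', q', rfl⟩ := hdec f' hf'
    have hsplit : (g + (p : ℂ) • χ + (q : ℂ) • Cfsg.conjFun χ) +
        (g' + (p' : ℂ) • χ + (q' : ℂ) • Cfsg.conjFun χ) =
        (g + g') + ((p + p' : ℤ) : ℂ) • χ + ((q + q' : ℤ) : ℂ) • Cfsg.conjFun χ := by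
      push_cast
      module
    rw [hsplit, hτ₂ _ (Submodule.add_mem _ hg hg'), hτ₂ g hg, hτ₂ g' hg', hadd₁ g hg g' hg']
    push_cast
    module
  · intro f hf k
    obtain ⟨g, hg, p, q, rfl⟩ := hdec f hf
    have hsplit : k • (g + (p : ℂ) • χ + (q : ℂ) • Cfsg.conjFun χ) =
        (k • g) + ((k * p : ℤ) : ℂ) • χ + ((k * q : ℤ) : ℂ) • Cfsg.conjFun χ := by
      rw [← hcz, ← hcz]
      push_cast
      module
    rw [hsplit, hτ₂ _ (Submodule.smul_mem _ k hg), hτ₂ g hg, hsmul₁ g hg k, ← hczG, ← hczG]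
    push_cast
    module
  · intro f hf f' hf'
    obtain ⟨g, hg, p, q, rfl⟩ := hdec f hf
    obtain ⟨g', hg', p', q', rfl⟩ := hdec f' hf'
    rw [hτ₂ g hg, hτ₂ g' hg']
    exact hinner g hg g' hg' p q p' q'
  · intro f hf
    obtain ⟨g, hg, p, q, rfl⟩ := hdec f hf
    rw [hτ₂ g hg]
    exact genchar_add (genchar_add (hgen₁ g hg) (genchar_intCast_smul hXv p))
      (genchar_intCast_smul hX'v q)
  · intro f hf
    obtain ⟨g, hg, p, q, rfl⟩ := hdec f hf.1
    rw [hτ₂ g hg]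
    -- the value at one
    have hbar1 : Cfsg.conjFun χ 1 = (d χ : ℂ) := by
      show conj (χ 1) = _
      rw [hd χ hχ, map_natCast]
    have hf1 : g 1 + ((p + q : ℤ) : ℂ) * (d χ : ℂ) = 0 := by
      have := hf.2 1 (by simp)
      rw [Pi.add_apply, Pi.add_apply, Pi.smul_apply, Pi.smul_apply, hbar1, hd χ hχ,
        smul_eq_mul, smul_eq_mul] at this
      rw [← this]
      push_cast
      ring
    set g' : L → ℂ := g + (((p + q) * a : ℤ) : ℂ) • χ₁ with hg'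
    have m2 : χ₁ ∈ Cfsg.zspan (↑S₁ : Set (L → ℂ)) := Submodule.subset_span hχ₁S
    have hg'mem : g' ∈ Cfsg.zspanOn (↑S₁ : Set (L → ℂ)) {1}ᶜ := by
      refine ⟨?_, ?_⟩
      · rw [hg', hcz]
        exact Submodule.add_mem _ hg (Submodule.smul_mem _ _ m2)
      · intro x hx
        have hx1 : x = 1 := by simpa using hx
        rw [hx1, hg', Pi.add_apply, Pi.smul_apply, smul_eq_mul, hd χ₁ h₁S, ← hf1, ha]
        push_cast
        ring
    have hmemΔ : χ - (a : ℂ) • χ₁ ∈ Cfsg.zspanOn S {1}ᶜ := by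
      refine ⟨?_, ?_⟩
      · have : (a : ℂ) • χ₁ = (a : ℤ) • χ₁ := by
          rw [← hcz, Int.cast_natCast]
        rw [this]
        exact Submodule.sub_mem _ (Submodule.subset_span hχ)
          (Submodule.smul_mem _ _ (Submodule.subset_span h₁S))
      · intro x hx
        have hx1 : x = 1 := by simpa using hx
        rw [hx1, Pi.sub_apply, Pi.smul_apply, smul_eq_mul, hd χ hχ, hd χ₁ h₁S, ha]
        push_cast
        ring
    have hfsplit : g + (p : ℂ) • χ + (q : ℂ) • Cfsg.conjFun χ =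
        g' + ((p + q : ℤ) • (χ - (a : ℂ) • χ₁) + (-q) • (χ - Cfsg.conjFun χ)) := by
      rw [hg', ← hcz (p + q), ← hcz (-q)]
      push_cast
      module
    have hg'S : g' ∈ Cfsg.zspanOn S {1}ᶜ := zspanOn_mono hS₁ _ hg'mem
    have hm3 := zspanOn_zsmul_mem S _ hmemΔ (p + q)
    have hm4 := zspanOn_zsmul_mem S _ hmemχ (-q)
    rw [hfsplit, hadd _ hg'S _ (zspanOn_add_mem S _ hm3 hm4), hadd _ hm3 _ hm4,
      hsmul _ hmemΔ, hsmul _ hmemχ, ← hag g' hg'mem, hkey, hS.sum_eq χ hχ, ← hXX'sum, hg',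
      hadd₁ g hg _ (by rw [hcz]; exact Submodule.smul_mem _ _ m2), hcz, hsmul₁ χ₁ m2,
      ← hczG, ← hczG, ← hczG]
    push_cast
    module

end Cfsg.Agent.Helper6
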