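import Mathlib
import Cfsg.Prelude.Def_Characters
import Cfsg.Prelude.Def_OddOrderChar
import Cfsg.Agent.Helper6.CoherJ
import Cfsg.Agent.Helper6.NormalInd2
import Cfsg.Agent.Helper6.Codegree
import Cfsg.Agent.Helper6.BlockPart
import Cfsg.Agent.Helper6.Degrees
import Cfsg.Agent.Helper6.OddReal

/-!
# Peterfalvi (6.2), part A: the finite sets of characters induced from a normal subgroup
-/

set_option autoImplicit false
set_option linter.style.haveILetI false

namespace Cfsg.Agent.Helper6

open scoped ComplexConjugate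

universe u v

variable {L : Type u} [Group L] [Fintype L]

/-- nonprincipal irreducible characters of `K` with `X ⊓ K` in the kernel -/
noncomputable def irrAboveFn (K X : Subgroup L) : Finset (K → ℂ) :=
  haveI : Finite (Cfsg.IrrCharacter K) := irr_finite
  haveI : Fintype (Cfsg.IrrCharacter K) := Fintype.ofFinite _
  open Classical in
  ((Finset.univ : Finset (Cfsg.IrrCharacter K)).filter (fun χ : Cfsg.IrrCharacter K =>
    (χ : K → ℂ) ≠ (fun _ => 1) ∧
      ∀ a : K, (a : L) ∈ X → (χ : K → ℂ) a = (χ : K → ℂ) 1)).image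
    (fun χ : Cfsg.IrrCharacter K => (χ : K → ℂ))

theorem mem_irrAboveFn (K X : Subgroup L) (θ : K → ℂ) :
    θ ∈ irrAboveFn K X ↔ Cfsg.IsIrrCharacter K θ ∧ θ ≠ (fun _ => 1) ∧
      ∀ a : K, (a : L) ∈ X → θ a = θ 1 := by
  classical
  unfold irrAboveFn
  simp only [Finset.mem_image, Finset.mem_filter, Finset.mem_univ, true_and]
  constructor
  · rintro ⟨χ, ⟨h1, h2⟩, rfl⟩
    exact ⟨χ.2, h1, h2⟩
  · rintro ⟨h0, h1, h2⟩
    exact ⟨⟨θ, h0⟩, ⟨h1, h2⟩, rfl⟩

/-- the functions induced from `irrAboveFn`, as a finset -/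
noncomputable def indAbove (K X : Subgroup L) : Finset (L → ℂ) :=
  open Classical in (irrAboveFn K X).image (fun θ : K → ℂ => Cfsg.indFun K θ)

theorem coe_indAbove (K X : Subgroup L) :
    (↑(indAbove K X) : Set (L → ℂ)) = Cfsg.inducedIrrAbove K X := by
  classical
  ext φ
  unfold indAbove Cfsg.inducedIrrAbove
  simp only [Finset.coe_image, Set.mem_image, Finset.mem_coe, Set.mem_ofPred_eq, mem_irrAboveFn]
  constructor
  · rintro ⟨θ, ⟨h0, h1, h2⟩, rfl⟩
    exact ⟨θ, h0, h1, h2, rfl⟩
  · rintro ⟨θ, h0, h1, h2, rfl⟩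
    exact ⟨θ, ⟨h0, h1, h2⟩, rfl⟩

theorem charDegree_congr_one {X Y : Type*} [Group X] [Group Y] (a : X → ℂ) (b : Y → ℂ)
    (h : a 1 = b 1) : Cfsg.charDegree a = Cfsg.charDegree b := by
  unfold Cfsg.charDegree
  rw [h]

theorem charDegree_one_const {X : Type*} [Group X] :
    Cfsg.charDegree (fun _ : X => (1 : ℂ)) = 1 := by
  unfold Cfsg.charDegree
  simp

/-- the sum of the squares of the degrees over `irrAboveFn` -/
theorem sum_sq_irrAboveFn (K X : Subgroup L) [hX : X.Normal] :
    ∑ θ ∈ irrAboveFn K X, Cfsg.charDegree θ ^ 2 + 1 = X.relIndex K := by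
  classical
  haveI : Finite (Cfsg.IrrCharacter K) := irr_finite
  haveI : Fintype (Cfsg.IrrCharacter K) := Fintype.ofFinite _
  have h := sum_sq_degrees_of_le_ker (G := K) (X.subgroupOf K)
  unfold Subgroup.relIndex
  rw [← h]
  unfold irrAboveFn
  rw [Finset.sum_image (by
    intro a _ b _ hab
    exact Subtype.ext hab)]
  set triv : Cfsg.IrrCharacter K := ⟨fun _ => 1, isIrrCharacter_one⟩ with htriv
  have hsplit : Finset.univ.filter (fun χ : Cfsg.IrrCharacter K =>
      ∀ n ∈ X.subgroupOf K, (χ : K → ℂ) n = (χ : K → ℂ) 1) =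
      insert triv (Finset.univ.filter (fun χ : Cfsg.IrrCharacter K =>
        (χ : K → ℂ) ≠ (fun _ => 1) ∧
          ∀ a : K, (a : L) ∈ X → (χ : K → ℂ) a = (χ : K → ℂ) 1)) := by
    ext χ
    simp only [Finset.mem_filter, Finset.mem_univ, true_and, Finset.mem_insert,
      Subgroup.mem_subgroupOf]
    constructor
    · intro hχ
      by_cases h1 : (χ : K → ℂ) = fun _ => 1
      · left
        exact Subtype.ext h1
      · right
        exact ⟨h1, hχ⟩
    · rintro (rfl | ⟨-, hχ⟩)
      · intro n _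
        rfl
      · exact hχ
  rw [hsplit, Finset.sum_insert (by
    simp only [Finset.mem_filter, Finset.mem_univ, true_and, not_and]
    intro h1
    exact absurd rfl h1)]
  rw [add_comm]
  have e1 : Cfsg.charDegree (triv : K → ℂ) ^ 2 = 1 := by
    show Cfsg.charDegree (fun _ : K => (1 : ℂ)) ^ 2 = 1
    rw [charDegree_one_const, one_pow]
  rw [e1]
  congr 1
  refine Finset.sum_congr ?_ (fun _ _ => rfl)
  ext χ
  simp only [Finset.mem_filter, Finset.mem_univ, true_and]

/-- Orbit–stabilizer for the conjugation action on functions on a normal subgroup. -/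
theorem card_conjFun_orbit (H : Subgroup L) [hN : H.Normal] (θ : H → ℂ)
    [DecidableEq (H → ℂ)] :
    ((Finset.univ : Finset L).image (fun g : L => conjFun H θ g)).card *
      Nat.card {g : L // conjFun H θ g = θ} = Nat.card L := by
  have hfib : ∀ ψ ∈ (Finset.univ : Finset L).image (fun g : L => conjFun H θ g),
      (Finset.univ.filter (fun g : L => conjFun H θ g = ψ)).card =
        Nat.card {g : L // conjFun H θ g = θ} := by
    intro ψ hψ
    obtain ⟨g₀, -, rfl⟩ := Finset.mem_image.mp hψ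
    rw [Nat.card_eq_fintype_card, Fintype.card_subtype]
    apply Finset.card_bij (fun g _ => g * g₀⁻¹)
    · intro g hg
      simp only [Finset.mem_filter, Finset.mem_univ, true_and] at hg ⊢
      exact (conjFun_eq_iff H θ g g₀).mp hg
    · intro a _ b _ hab
      exact mul_right_cancel hab
    · intro b hb
      simp only [Finset.mem_filter, Finset.mem_univ, true_and] at hb
      refine ⟨b * g₀, ?_, by simp⟩
      simp only [Finset.mem_filter, Finset.mem_univ, true_and]
      rw [conjFun_eq_iff, mul_inv_cancel_right]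
      exact hb
  have hcount := Finset.card_eq_sum_card_fiberwise (s := (Finset.univ : Finset L))
    (t := (Finset.univ : Finset L).image (fun g : L => conjFun H θ g))
    (f := fun g : L => conjFun H θ g)
    (fun g _ => Finset.mem_image.mpr ⟨g, Finset.mem_univ _, rfl⟩)
  rw [Finset.sum_congr rfl (fun ψ hψ => by rw [hfib ψ hψ]), Finset.sum_const, smul_eq_mul,
    Finset.card_univ, ← Nat.card_eq_fintype_card] at hcount
  exact hcount.symm

/-- the fibre of induction over `irrAboveFn` is a conjugation orbit -/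
theorem irrAboveFn_fiber (K X : Subgroup L) [hK : K.Normal] [hX : X.Normal] (θ₀ : K → ℂ)
    (hθ₀ : θ₀ ∈ irrAboveFn K X) [DecidableEq (K → ℂ)] [DecidableEq (L → ℂ)] :
    (irrAboveFn K X).filter (fun θ => Cfsg.indFun K θ = Cfsg.indFun K θ₀) =
      (Finset.univ : Finset L).image (fun g : L => conjFun K θ₀ g) := by
  obtain ⟨h0, h1, h2⟩ := (mem_irrAboveFn K X θ₀).mp hθ₀
  ext θ
  simp only [Finset.mem_filter, Finset.mem_image, Finset.mem_univ, true_and]
  constructor
  · rintro ⟨hθ, hind⟩
    obtain ⟨h0', h1', h2'⟩ := (mem_irrAboveFn K X θ).mp hθ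
    by_contra hne
    have hne' : ¬ ∃ g : L, θ = conjFun K θ₀ g := fun ⟨g, hg⟩ => hne ⟨g, hg.symm⟩
    have horth := classInner_indFun_of_not_conj K θ₀ θ h0 h0' hne'
    rw [hind] at horth
    have h3 := card_mul_classInner_indFun_normal K θ₀ h0
    rw [horth, mul_zero] at h3
    have hpos : 0 < Nat.card {g : L // conjFun K θ₀ g = θ₀} := by
      haveI : Nonempty {g : L // conjFun K θ₀ g = θ₀} := ⟨⟨1, conjFun_one K θ₀⟩⟩
      exact Nat.card_pos
    have h4 : (Nat.card {g : L // conjFun K θ₀ g = θ₀} : ℂ) = 0 := h3.symm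
    have h5 : Nat.card {g : L // conjFun K θ₀ g = θ₀} = 0 := by exact_mod_cast h4
    omega
  · rintro ⟨g, rfl⟩
    refine ⟨(mem_irrAboveFn K X _).mpr ⟨conjFun_isIrr K h0 g, ?_, ?_⟩, indFun_conjFun K θ₀ g⟩
    · intro h
      apply h1
      have h6 : conjFun K (conjFun K θ₀ g) g⁻¹ = θ₀ := by
        rw [conjFun_mul, mul_inv_cancel, conjFun_one]
      rw [← h6, h]
      rfl
    · intro a ha
      show θ₀ ⟨g * a * g⁻¹, _⟩ = θ₀ ⟨g * (1 : K) * g⁻¹, _⟩
      rw [h2 _ (hX.conj_mem a ha g)]
      congr 1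
      apply Subtype.ext
      simp

omit [Fintype L] in
theorem charDegree_conjFun (K : Subgroup L) [hK : K.Normal] (θ : K → ℂ) (g : L) :
    Cfsg.charDegree (conjFun K θ g) = Cfsg.charDegree θ := by
  apply charDegree_congr_one
  show θ ⟨g * (1 : K) * g⁻¹, _⟩ = θ 1
  congr 1
  apply Subtype.ext
  simp

theorem charDegree_indFun_normal (K : Subgroup L) (θ : K → ℂ) (hθ : Cfsg.IsCharacter K θ) :
    Cfsg.charDegree (Cfsg.indFun K θ) = K.index * Cfsg.charDegree θ := by
  have h1 := charDegree_cast_of_isCharacter (isCharacter_indFun K θ hθ)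
  rw [indFun_apply_one, ← charDegree_cast_of_isCharacter hθ] at h1
  exact_mod_cast h1

/-- the degree-squared over norm of an induced character, as a sum over the fibre -/
theorem sq_charDegree_indFun (K X : Subgroup L) [hK : K.Normal] [hX : X.Normal] (θ₀ : K → ℂ)
    (hθ₀ : θ₀ ∈ irrAboveFn K X) (n : ℕ)
    (hn : Cfsg.classInner (Cfsg.indFun K θ₀) (Cfsg.indFun K θ₀) = n)
    [DecidableEq (L → ℂ)] :
    Cfsg.charDegree (Cfsg.indFun K θ₀) ^ 2 =
      n * ∑ θ ∈ (irrAboveFn K X).filter (fun θ => Cfsg.indFun K θ = Cfsg.indFun K θ₀),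
        K.index * Cfsg.charDegree θ ^ 2 := by
  classical
  obtain ⟨h0, h1, h2⟩ := (mem_irrAboveFn K X θ₀).mp hθ₀
  have hfib := irrAboveFn_fiber K X θ₀ hθ₀
  have hsum : ∑ θ ∈ (irrAboveFn K X).filter (fun θ => Cfsg.indFun K θ = Cfsg.indFun K θ₀),
        K.index * Cfsg.charDegree θ ^ 2 =
      ((Finset.univ : Finset L).image (fun g : L => conjFun K θ₀ g)).card *
        (K.index * Cfsg.charDegree θ₀ ^ 2) := by
    rw [← smul_eq_mul, ← Finset.sum_const]
    refine Finset.sum_congr ?_ ?_
    · convert hfib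
    · intro θ hθ
      obtain ⟨g, -, rfl⟩ := Finset.mem_image.mp hθ
      rw [charDegree_conjFun]
  rw [hsum, charDegree_indFun_normal K θ₀ (IsIrrCharacter.isCharacter h0)]
  have horb := card_conjFun_orbit K θ₀
  have hst := card_mul_classInner_indFun_normal K θ₀ h0
  rw [hn] at hst
  have hst' : Nat.card K * n = Nat.card {g : L // conjFun K θ₀ g = θ₀} := by exact_mod_cast hst
  have hidx := K.index_mul_card
  set o := ((Finset.univ : Finset L).image (fun g : L => conjFun K θ₀ g)).card with ho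
  set k := K.index with hk
  set m := Cfsg.charDegree θ₀ with hm
  have hKpos : 0 < Nat.card K := Nat.card_pos
  have hkey : n * o = k := by
    apply Nat.eq_of_mul_eq_mul_right hKpos
    calc n * o * Nat.card K = o * (Nat.card K * n) := by ring
      _ = Nat.card L := by rw [hst', horb]
      _ = k * Nat.card K := hidx.symm
  calc (k * m) ^ 2 = (n * o) * (k * m ^ 2) := by rw [hkey]; ring
    _ = n * (o * (k * m ^ 2)) := by ring

end Cfsg.Agent.Helper6
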