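import Mathlib
import Cfsg.Prelude.Def_Characters
import Cfsg.Prelude.Def_OddOrderChar
import Cfsg.Agent.Helper6.Coh62A
import Cfsg.Agent.Helper6.CentralBound
import Cfsg.Agent.Helper6.Linear

/-!
# Peterfalvi (6.2), part B: linear characters, the degree bound, subsets of coherent sets
-/

set_option autoImplicit false
set_option linter.style.haveILetI false

namespace Cfsg.Agent.Helper6

open scoped ComplexConjugate

universe u v

variable {L : Type u} [Group L] [Fintype L]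

/-- a solvable group has a nonprincipal linear character trivial on a given proper normal
subgroup -/
theorem exists_linear_above (K X : Subgroup L) [hX : X.Normal] (hsolv : Group.IsSolvable K)
    (hXK : X < K) : ∃ θ : K → ℂ, θ ∈ irrAboveFn K X ∧ θ 1 = 1 := by
  classical
  set N : Subgroup K := X.subgroupOf K with hN
  haveI : N.Normal := Subgroup.normal_subgroupOf
  have hNtop : N ≠ ⊤ := by
    intro h
    rw [hN, Subgroup.subgroupOf_eq_top] at h
    exact absurd h (not_le_of_gt hXK)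
  haveI : Group.IsSolvable (K ⧸ N) := inferInstance
  haveI : Nontrivial (K ⧸ N) := by
    rw [← not_subsingleton_iff_nontrivial]
    intro hs
    exact hNtop (QuotientGroup.subsingleton_iff.mp hs)
  have hcomm : commutator (K ⧸ N) < ⊤ :=
    Group.IsSolvable.commutator_lt_top_of_nontrivial (K ⧸ N)
  have hidx : 1 < (commutator (K ⧸ N)).index := by
    have h1 : (commutator (K ⧸ N)).index ≠ 1 := by
      intro h
      rw [Subgroup.index_eq_one] at h
      exact absurd h (ne_of_lt hcomm)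
    have h0 : (commutator (K ⧸ N)).index ≠ 0 := Subgroup.index_ne_zero_of_finite
    omega
  have hcard : 1 < Nat.card ((K ⧸ N) →* ℂˣ) := by
    rw [card_hom_units]
    exact hidx
  haveI : Finite ((K ⧸ N) →* ℂˣ) := Nat.finite_of_card_ne_zero (by omega)
  haveI : Nontrivial ((K ⧸ N) →* ℂˣ) := Finite.one_lt_card_iff_nontrivial.mp hcard
  obtain ⟨lam, hlam⟩ := exists_ne (1 : (K ⧸ N) →* ℂˣ)
  set μ : K →* ℂˣ := lam.comp (QuotientGroup.mk' N) with hμ
  refine ⟨fun g => ((μ g : ℂˣ) : ℂ), (mem_irrAboveFn K X _).mpr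
    ⟨isIrrCharacter_of_hom μ, ?_, ?_⟩, by simp⟩
  · intro h
    apply hlam
    refine MonoidHom.ext (fun q => ?_)
    obtain ⟨g, rfl⟩ := QuotientGroup.mk_surjective q
    have h3 := congrFun h g
    simp only [hμ, MonoidHom.comp_apply] at h3
    have h4 : lam (QuotientGroup.mk' N g) = 1 := Units.ext h3
    exact h4
  · intro a ha
    have ha' : a ∈ N := by
      rw [hN, Subgroup.mem_subgroupOf]
      exact ha
    have h1 : (QuotientGroup.mk' N) a = 1 := (QuotientGroup.eq_one_iff a).mpr ha'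
    simp only [hμ, MonoidHom.comp_apply, h1, map_one]

/-- Peterfalvi's degree bound for a character trivial on `B` where `D/B` is central in `C/B` -/
theorem charDegree_sq_le (K B C D : Subgroup L) (hDC : D ≤ C) (hCK : C ≤ K) (hBD : B ≤ D)
    (hcent : ∀ x ∈ D, ∀ y ∈ C, x * y * x⁻¹ * y⁻¹ ∈ B) (θ : K → ℂ)
    (hθ : θ ∈ irrAboveFn K B) :
    Cfsg.charDegree θ ^ 2 * Nat.card C * Nat.card D ≤ Nat.card K ^ 2 := by
  obtain ⟨h0, -, h2⟩ := (mem_irrAboveFn K B θ).mp hθ
  have hb := degree_bound_central_section θ h0 (B.subgroupOf K) (C.subgroupOf K)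
    (D.subgroupOf K) (fun x hx => hBD hx) (fun x hx => hDC hx)
    (by
      intro d hd c hc
      rw [Subgroup.mem_subgroupOf] at hd hc ⊢
      exact hcent _ hd _ hc)
    (by
      intro b hb
      rw [Subgroup.mem_subgroupOf] at hb
      exact h2 b hb)
  rw [Nat.card_congr (Subgroup.subgroupOfEquivOfLe hCK).toEquiv,
    Nat.card_congr (Subgroup.subgroupOfEquivOfLe (hDC.trans hCK)).toEquiv,
    ← charDegree_cast_of_isCharacter (IsIrrCharacter.isCharacter h0), Complex.norm_natCast] at hb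
  exact_mod_cast hb

/-- the norm of a function induced from an irreducible character of a normal subgroup is
nonzero -/
theorem classInner_indFun_ne_zero (K : Subgroup L) [hK : K.Normal] (θ₀ : K → ℂ)
    (h0 : Cfsg.IsIrrCharacter K θ₀) :
    Cfsg.classInner (Cfsg.indFun K θ₀) (Cfsg.indFun K θ₀) ≠ 0 := by
  intro horth
  have h3 := card_mul_classInner_indFun_normal K θ₀ h0
  rw [horth, mul_zero] at h3
  have hpos : 0 < Nat.card {g : L // conjFun K θ₀ g = θ₀} := by
    haveI : Nonempty {g : L // conjFun K θ₀ g = θ₀} := ⟨⟨1, conjFun_one K θ₀⟩⟩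
    exact Nat.card_pos
  have h4 : (Nat.card {g : L // conjFun K θ₀ g = θ₀} : ℂ) = 0 := h3.symm
  have h5 : Nat.card {g : L // conjFun K θ₀ g = θ₀} = 0 := by exact_mod_cast h4
  omega

/-- the sum of degree-squared over norm, over the induced characters -/
theorem sum_indAbove (K X : Subgroup L) [hK : K.Normal] [hX : X.Normal] (n : (L → ℂ) → ℕ)
    (hn : ∀ φ ∈ indAbove K X, Cfsg.classInner φ φ = (n φ : ℂ)) :
    ∑ φ ∈ indAbove K X, ((Cfsg.charDegree φ : ℝ) ^ 2 / (n φ : ℝ)) =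
      (K.index : ℝ) * ((X.relIndex K : ℝ) - 1) := by
  classical
  have hmemInd : ∀ θ₀ ∈ irrAboveFn K X, Cfsg.indFun K θ₀ ∈ indAbove K X := by
    intro θ₀ hθ₀
    unfold indAbove
    exact Finset.mem_image.mpr ⟨θ₀, hθ₀, rfl⟩
  have himg : indAbove K X = (irrAboveFn K X).image (fun θ : K → ℂ => Cfsg.indFun K θ) := by
    unfold indAbove
    congr
  rw [himg, Finset.sum_image' (fun θ : K → ℂ => ((K.index * Cfsg.charDegree θ ^ 2 : ℕ) : ℝ))]
  · rw [← Nat.cast_sum, ← Finset.mul_sum]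
    have h := sum_sq_irrAboveFn K X
    rw [← h]
    push_cast
    ring
  · intro θ₀ hθ₀
    have hmem : Cfsg.indFun K θ₀ ∈ indAbove K X := hmemInd θ₀ hθ₀
    have h1 := sq_charDegree_indFun K X θ₀ hθ₀ (n (Cfsg.indFun K θ₀)) (hn _ hmem)
    have hn0 : (n (Cfsg.indFun K θ₀) : ℝ) ≠ 0 := by
      intro h
      have h' : n (Cfsg.indFun K θ₀) = 0 := by exact_mod_cast h
      have h2 := hn _ hmem
      rw [h', Nat.cast_zero] at h2
      exact classInner_indFun_ne_zero K θ₀ ((mem_irrAboveFn K X θ₀).mp hθ₀).1 h2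
    rw [← Nat.cast_sum, ← Nat.cast_pow, h1, Nat.cast_mul, mul_div_cancel_left₀ _ hn0]

theorem irrAboveFn_subset_bot (K X : Subgroup L) : irrAboveFn K X ⊆ irrAboveFn K ⊥ := by
  intro θ hθ
  obtain ⟨h0, h1, -⟩ := (mem_irrAboveFn K X θ).mp hθ
  refine (mem_irrAboveFn K ⊥ θ).mpr ⟨h0, h1, ?_⟩
  intro a ha
  have : a = 1 := by
    apply Subtype.ext
    simpa using ha
  rw [this]

theorem indAbove_subset_bot (K X : Subgroup L) : indAbove K X ⊆ indAbove K ⊥ := by
  classical
  intro φ hφ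
  unfold indAbove at hφ ⊢
  obtain ⟨θ, hθ, rfl⟩ := Finset.mem_image.mp hφ
  exact Finset.mem_image.mpr ⟨θ, irrAboveFn_subset_bot K X hθ, rfl⟩

/-- the sets `S(X)` are closed under complex conjugation -/
theorem conjFun_mem_indAbove (K X : Subgroup L) (φ : L → ℂ) (hφ : φ ∈ indAbove K X) :
    Cfsg.conjFun φ ∈ indAbove K X := by
  classical
  unfold indAbove at hφ ⊢
  obtain ⟨θ, hθ, rfl⟩ := Finset.mem_image.mp hφ
  obtain ⟨h0, h1, h2⟩ := (mem_irrAboveFn K X θ).mp hθ
  refine Finset.mem_image.mpr ⟨fun h => conj (θ h), (mem_irrAboveFn K X _).mpr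
    ⟨conj_isIrr h0, ?_, ?_⟩, (conj_indFun K θ).symm⟩
  · intro h
    apply h1
    funext x
    have := congrFun h x
    have h3 := congrArg (starRingEnd ℂ) this
    rw [Complex.conj_conj, map_one] at h3
    exact h3
  · intro a ha
    show conj (θ a) = conj (θ 1)
    rw [h2 a ha]

/-- a subset of a coherent set is coherent, if it has a nonzero combination with the right
support -/
theorem isCoherent_subset {G : Type v} [Group G] [Fintype G] (S' T : Set (L → ℂ)) (A : Set L)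
    (τ : (L → ℂ) → (G → ℂ)) (hsub : S' ⊆ T) (hT : Cfsg.IsCoherent T A τ)
    (hne : ∃ α ∈ Cfsg.zspanOn S' A, α ≠ 0) : Cfsg.IsCoherent S' A τ := by
  obtain ⟨-, τ₁, hτ₁, hag⟩ := hT
  refine ⟨hne, τ₁, ?_, fun α hα => hag α (zspanOn_mono hsub A hα)⟩
  obtain ⟨h1, h2, h3, h4⟩ := hτ₁
  exact ⟨fun α hα β hβ => h1 α (zspan_mono hsub hα) β (zspan_mono hsub hβ),
    fun α hα n => h2 α (zspan_mono hsub hα) n,
    fun α hα β hβ => h3 α (zspan_mono hsub hα) β (zspan_mono hsub hβ),
    fun α hα => h4 α (zspan_mono hsub hα)⟩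

/-- the arithmetic of Peterfalvi (6.2) -/
theorem arith_62 (k m a cK cC cD iC r : ℕ) (hC : 0 < cC) (h1 : iC * cC = k * cK)
    (h2 : r * cD = cC) (hb : m ^ 2 * cC * cD ≤ cK ^ 2) (hlt : 4 * iC ^ 2 * r < (a - 1) ^ 2) :
    2 * k * m < a - 1 := by
  have h3 : (2 * k * m) ^ 2 * cC ^ 2 ≤ (4 * iC ^ 2 * r) * cC ^ 2 := by
    calc (2 * k * m) ^ 2 * cC ^ 2 = 4 * k ^ 2 * r * (m ^ 2 * cC * cD) := by
          rw [← h2]; ring
      _ ≤ 4 * k ^ 2 * r * cK ^ 2 := Nat.mul_le_mul_left _ hb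
      _ = 4 * r * (k * cK) ^ 2 := by ring
      _ = 4 * r * (iC * cC) ^ 2 := by rw [h1]
      _ = (4 * iC ^ 2 * r) * cC ^ 2 := by ring
  have hC2 : 0 < cC ^ 2 := pow_pos hC 2
  have h4 : (2 * k * m) ^ 2 ≤ 4 * iC ^ 2 * r := Nat.le_of_mul_le_mul_right h3 hC2
  have h5 : (2 * k * m) ^ 2 < (a - 1) ^ 2 := lt_of_le_of_lt h4 hlt
  exact lt_of_pow_lt_pow_left₀ 2 (Nat.zero_le _) h5

end Cfsg.Agent.Helper6
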