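import Mathlib
import Cfsg.Prelude.Def_Characters
import Cfsg.Prelude.Def_OddOrderChar
import Cfsg.Agent.Helper6.Coh62B

/-!
# Peterfalvi (6.2)
-/

set_option autoImplicit false
set_option linter.style.haveILetI false

namespace Cfsg.Agent.Helper6

open scoped ComplexConjugate

universe u v

variable {L : Type u} [Group L] [Fintype L] {G : Type v} [Group G] [Fintype G]

set_option maxHeartbeats 1600000 in
/-- Peterfalvi (6.2) -/
theorem coherent_62 (K : Subgroup L) [hK : K.Normal] (hsolv : Group.IsSolvable K)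
    (τ : (L → ℂ) → (G → ℂ)) (R : (L → ℂ) → Finset (G → ℂ))
    (hS : Cfsg.IsCoherenceSystem (Cfsg.inducedIrrAbove K ⊥) τ R) (A B C D : Subgroup L)
    [hAn : A.Normal] [hBn : B.Normal] (hAK : A < K) (hBK : B < K)
    (hBD : B ≤ D) (hDC : D ≤ C) (hCK : C ≤ K)
    (hcent : ∀ x ∈ D, ∀ y ∈ C, x * y * x⁻¹ * y⁻¹ ∈ B)
    (hA : Cfsg.IsCoherent (Cfsg.inducedIrrAbove K A) {1}ᶜ τ)
    (hlt : 4 * C.index ^ 2 * D.relIndex C < (A.relIndex K - 1) ^ 2) :
    Cfsg.IsCoherent (Cfsg.inducedIrrAbove K B) {1}ᶜ τ := by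
  classical
  set S : Set (L → ℂ) := Cfsg.inducedIrrAbove K ⊥ with hSdef
  set d : (L → ℂ) → ℕ := fun φ => Cfsg.charDegree φ with hd
  set n : (L → ℂ) → ℕ := fun φ => ⌊(Cfsg.classInner φ φ).re⌋₊ with hn
  have hdS : ∀ φ ∈ S, φ 1 = (d φ : ℂ) := fun φ hφ =>
    (charDegree_cast_of_isCharacter (hS.isCharacter φ hφ)).symm
  have hnS : ∀ φ ∈ S, Cfsg.classInner φ φ = (n φ : ℂ) := by
    intro φ hφ
    obtain ⟨m, hm⟩ := classInner_char_char_nat (hS.isCharacter φ hφ) (hS.isCharacter φ hφ)
    simp only [hn, hm, Complex.natCast_re, Nat.floor_natCast]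
  have hsubS : ∀ X : Subgroup L, (↑(indAbove K X) : Set (L → ℂ)) ⊆ S := by
    intro X φ hφ
    rw [hSdef, ← coe_indAbove]
    exact Finset.mem_coe.mpr (indAbove_subset_bot K X (Finset.mem_coe.mp hφ))
  -- the family of coherent subsets
  set P : Finset (L → ℂ) → Prop := fun T => indAbove K A ⊆ T ∧
    (∀ φ ∈ T, Cfsg.conjFun φ ∈ T) ∧ Cfsg.IsCoherent (↑T : Set (L → ℂ)) {1}ᶜ τ with hP
  set fam : Finset (Finset (L → ℂ)) := (indAbove K ⊥).powerset.filter P with hfam
  have hne : fam.Nonempty := by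
    refine ⟨indAbove K A, ?_⟩
    rw [hfam, Finset.mem_filter, Finset.mem_powerset]
    refine ⟨indAbove_subset_bot K A, Finset.Subset.refl _, conjFun_mem_indAbove K A, ?_⟩
    rw [coe_indAbove]
    exact hA
  obtain ⟨T, hT, hTmax⟩ := Finset.exists_max_image fam Finset.card hne
  rw [hfam, Finset.mem_filter, Finset.mem_powerset] at hT
  obtain ⟨hTbot, hTA, hTconj, hTcoh⟩ := hT
  have hTS : (↑T : Set (L → ℂ)) ⊆ S := by
    intro φ hφ
    exact hsubS ⊥ (Finset.mem_coe.mpr (hTbot (Finset.mem_coe.mp hφ)))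
  -- the linear character
  obtain ⟨θ₁, hθ₁mem, hθ₁1⟩ := exists_linear_above K A hsolv hAK
  obtain ⟨h10, h11, h12⟩ := (mem_irrAboveFn K A θ₁).mp hθ₁mem
  set χ₁ : L → ℂ := Cfsg.indFun K θ₁ with hχ₁
  have hχ₁A : χ₁ ∈ indAbove K A := by
    unfold indAbove
    exact Finset.mem_image.mpr ⟨θ₁, hθ₁mem, rfl⟩
  have hχ₁T : χ₁ ∈ T := hTA hχ₁A
  have hdχ₁ : d χ₁ = K.index := by
    show Cfsg.charDegree (Cfsg.indFun K θ₁) = K.index
    rw [charDegree_indFun_normal K θ₁ (IsIrrCharacter.isCharacter h10)]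
    have : Cfsg.charDegree θ₁ = 1 := by
      unfold Cfsg.charDegree
      rw [hθ₁1]
      simp
    rw [this, mul_one]
  -- the sum over T
  have hsumA : ∑ φ ∈ indAbove K A, ((d φ : ℝ) ^ 2 / (n φ : ℝ)) =
      (K.index : ℝ) * ((A.relIndex K : ℝ) - 1) :=
    sum_indAbove K A n (fun φ hφ => hnS φ (hsubS A (Finset.mem_coe.mpr hφ)))
  have hsumT : (K.index : ℝ) * ((A.relIndex K : ℝ) - 1) ≤
      ∑ φ ∈ T, ((d φ : ℝ) ^ 2 / (n φ : ℝ)) := by
    rw [← hsumA]
    apply Finset.sum_le_sum_of_subset_of_nonneg hTA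
    intro φ _ _
    positivity
  -- every member of S(B) lies in T
  have hBT : Cfsg.inducedIrrAbove K B ⊆ (↑T : Set (L → ℂ)) := by
    intro χ hχB
    by_contra hχT
    have hχT' : χ ∉ T := fun h => hχT (Finset.mem_coe.mpr h)
    rw [← coe_indAbove] at hχB
    have hχB' : χ ∈ indAbove K B := Finset.mem_coe.mp hχB
    have hχS : χ ∈ S := hsubS B hχB
    have hbχT : Cfsg.conjFun χ ∉ T := by
      intro h
      apply hχT'
      have := hTconj _ h
      rwa [conjFun_conjFun] at this
    obtain ⟨θ, hθmem, hθχ⟩ : ∃ θ ∈ irrAboveFn K B, Cfsg.indFun K θ = χ := by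
      unfold indAbove at hχB'
      exact Finset.mem_image.mp hχB'
    obtain ⟨h20, h21, h22⟩ := (mem_irrAboveFn K B θ).mp hθmem
    have hdχ : d χ = K.index * Cfsg.charDegree θ := by
      show Cfsg.charDegree χ = _
      rw [← hθχ, charDegree_indFun_normal K θ (IsIrrCharacter.isCharacter h20)]
    have hbound := charDegree_sq_le K B C D hDC hCK hBD hcent θ hθmem
    have hCpos : 0 < Nat.card C := Nat.card_pos
    have harith : 2 * K.index * Cfsg.charDegree θ < A.relIndex K - 1 := by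
      apply arith_62 K.index (Cfsg.charDegree θ) (A.relIndex K) (Nat.card K) (Nat.card C)
        (Nat.card D) C.index (D.relIndex C) hCpos ?_ ?_ hbound hlt
      · rw [C.index_mul_card, K.index_mul_card]
      · have h1 := (D.subgroupOf C).index_mul_card
        rw [Nat.card_congr (Subgroup.subgroupOfEquivOfLe hDC).toEquiv] at h1
        exact h1
    have hineq : (2 * d χ * d χ₁ : ℝ) < ∑ φ ∈ T, ((d φ : ℝ) ^ 2 / (n φ : ℝ)) := by
      refine lt_of_lt_of_le ?_ hsumT
      rw [hdχ, hdχ₁]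
      have hkpos : (0 : ℝ) < K.index := by
        have : 0 < K.index := Nat.pos_of_ne_zero Subgroup.index_ne_zero_of_finite
        exact_mod_cast this
      have h1le : 1 ≤ A.relIndex K := by omega
      have h3 : ((2 * K.index * Cfsg.charDegree θ : ℕ) : ℝ) < ((A.relIndex K - 1 : ℕ) : ℝ) := by
        exact_mod_cast harith
      rw [Nat.cast_sub h1le] at h3
      push_cast at h3 ⊢
      nlinarith
    have hdvd : d χ₁ ∣ d χ := by
      rw [hdχ, hdχ₁]
      exact Dvd.intro _ rfl
    have hext := cs_extend_coherent S τ R hS d n hdS hnS T hTS hTconj hTcoh χ hχS hχT' hbχT χ₁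
      hχ₁T hdvd hineq
    -- the bigger set
    set T' : Finset (L → ℂ) := insert χ (insert (Cfsg.conjFun χ) T) with hT'
    have hcoe : (↑T' : Set (L → ℂ)) = ↑T ∪ {χ, Cfsg.conjFun χ} := by
      rw [hT', Finset.coe_insert, Finset.coe_insert]
      ext f
      simp only [Set.mem_insert_iff, Set.mem_union, Set.mem_singleton_iff, Finset.mem_coe]
      tauto
    have hT'fam : T' ∈ fam := by
      rw [hfam, Finset.mem_filter, Finset.mem_powerset]
      refine ⟨?_, ?_, ?_, ?_⟩
      · intro f hf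
        rw [hT', Finset.mem_insert, Finset.mem_insert] at hf
        rcases hf with rfl | rfl | hf
        · exact indAbove_subset_bot K B hχB'
        · exact conjFun_mem_indAbove K ⊥ _ (indAbove_subset_bot K B hχB')
        · exact hTbot hf
      · intro f hf
        rw [hT', Finset.mem_insert, Finset.mem_insert]
        exact Or.inr (Or.inr (hTA hf))
      · intro f hf
        rw [hT', Finset.mem_insert, Finset.mem_insert] at hf ⊢
        rcases hf with rfl | rfl | hf
        · exact Or.inr (Or.inl rfl)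
        · left
          exact conjFun_conjFun _
        · exact Or.inr (Or.inr (hTconj f hf))
      · rw [hcoe]
        exact hext
    have hcard : T.card < T'.card := by
      apply Finset.card_lt_card
      rw [Finset.ssubset_iff_of_subset]
      · exact ⟨χ, Finset.mem_insert_self _ _, hχT'⟩
      · intro f hf
        rw [hT', Finset.mem_insert, Finset.mem_insert]
        exact Or.inr (Or.inr hf)
    have := hTmax T' hT'fam
    omega
  -- conclude
  apply isCoherent_subset _ _ _ τ hBT hTcoh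
  obtain ⟨θB, hθBmem, -⟩ := exists_linear_above K B hsolv hBK
  set χB : L → ℂ := Cfsg.indFun K θB with hχB
  have hχBmem : χB ∈ indAbove K B := by
    unfold indAbove
    exact Finset.mem_image.mpr ⟨θB, hθBmem, rfl⟩
  have hχBS : χB ∈ S := hsubS B (Finset.mem_coe.mpr hχBmem)
  have h1 : χB ∈ Cfsg.inducedIrrAbove K B := by
    rw [← coe_indAbove]
    exact Finset.mem_coe.mpr hχBmem
  have h2 : Cfsg.conjFun χB ∈ Cfsg.inducedIrrAbove K B := by
    rw [← coe_indAbove]
    exact Finset.mem_coe.mpr (conjFun_mem_indAbove K B _ hχBmem)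
  refine ⟨χB - Cfsg.conjFun χB, sub_conjFun_mem_zspanOn _ χB h1 h2 (hS.isCharacter χB hχBS), ?_⟩
  intro h
  apply hS.conj_ne χB hχBS
  have := sub_eq_zero.mp h
  exact this.symm

end Cfsg.Agent.Helper6
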