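import Mathlib
import Cfsg.Prelude.Def_Characters
import Cfsg.Prelude.Def_OddOrderChar
import Cfsg.Agent.Helper6.Coh62C

/-!
# Peterfalvi (6.3)
-/

set_option autoImplicit false
set_option linter.style.haveILetI false

namespace Cfsg.Agent.Helper6

open scoped ComplexConjugate
open scoped commutatorElement

universe u v

/-- in a nilpotent group a subgroup contained in its commutator with the whole group is
trivial -/
theorem eq_bot_of_le_commutator_top {Q : Type*} [Group Q] (hnil : Group.IsNilpotent Q)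
    (X : Subgroup Q) (hX : X ≤ ⁅X, (⊤ : Subgroup Q)⁆) : X = ⊥ := by
  obtain ⟨n, hn⟩ := Subgroup.nilpotent_iff_lowerCentralSeries.mp hnil
  have h : ∀ i : ℕ, X ≤ (⊤ : Subgroup Q).lowerCentralSeries i := by
    intro i
    induction i with
    | zero => exact le_top.trans (by rw [Subgroup.lowerCentralSeries_zero])
    | succ i ih =>
      rw [Subgroup.lowerCentralSeries_succ]
      exact hX.trans (Subgroup.commutator_mono ih le_rfl)
  have := h n
  rw [hn] at this
  exact le_bot_iff.mp this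

/-- the arithmetic of Peterfalvi (6.3) -/
theorem arith_63 (l k m : ℕ) (hk : 1 ≤ k) (hm : 4 * l ^ 2 + 1 < m) :
    4 * (k * l) ^ 2 * m < (m * k - 1) ^ 2 := by
  have hmk : 1 ≤ m * k := by nlinarith
  zify [hmk]
  have h1 : (4 * (l : ℤ) ^ 2 + 2) ≤ m := by exact_mod_cast hm
  have hk' : (1 : ℤ) ≤ k := by exact_mod_cast hk
  have hm0 : (0 : ℤ) ≤ m := by positivity
  nlinarith [mul_nonneg (mul_nonneg (sq_nonneg (k : ℤ)) hm0) (sub_nonneg.mpr h1),
    mul_nonneg (mul_nonneg hm0 (le_trans zero_le_one hk')) (sub_nonneg.mpr hk')]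

variable {L : Type u} [Group L] [Fintype L] {G : Type v} [Group G] [Fintype G]

omit [Fintype L] in
/-- the descent step: `M ⊔ ⁅Y, H⁆ < Y` when `H / M` is nilpotent and `M < Y ≤ H` -/
theorem sup_commutator_lt (M Y H : Subgroup L) [hYn : Y.Normal]
    (hMY : M < Y) (hYH : Y ≤ H) [(M.subgroupOf H).Normal]
    (hnil : Group.IsNilpotent (↥H ⧸ M.subgroupOf H)) : M ⊔ ⁅Y, H⁆ < Y := by
  have hle : M ⊔ ⁅Y, H⁆ ≤ Y := by
    apply sup_le hMY.le
    rw [Subgroup.commutator_le]
    intro g₁ hg₁ g₂ _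
    rw [commutatorElement_def]
    have h1 : g₂ * g₁⁻¹ * g₂⁻¹ ∈ Y := hYn.conj_mem _ (Y.inv_mem hg₁) g₂
    have h2 : g₁ * g₂ * g₁⁻¹ * g₂⁻¹ = g₁ * (g₂ * g₁⁻¹ * g₂⁻¹) := by group
    rw [h2]
    exact Y.mul_mem hg₁ h1
  refine lt_of_le_of_ne hle ?_
  intro heq
  set N : Subgroup H := M.subgroupOf H with hN
  set π : H →* H ⧸ N := QuotientGroup.mk' N with hπ
  set X : Subgroup (H ⧸ N) := (Y.subgroupOf H).map π with hX
  -- the preimage of ⁅X, ⊤⁆, pushed to `L`
  set Z : Subgroup L := ((⁅X, (⊤ : Subgroup (H ⧸ N))⁆).comap π).map H.subtype with hZ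
  have hMZ : M ≤ Z := by
    intro m hm
    have hmH : m ∈ H := hYH (hMY.le hm)
    rw [hZ, Subgroup.mem_map]
    refine ⟨⟨m, hmH⟩, ?_, rfl⟩
    rw [Subgroup.mem_comap]
    have : π ⟨m, hmH⟩ = 1 := by
      rw [hπ]
      apply (QuotientGroup.eq_one_iff _).mpr
      rw [hN, Subgroup.mem_subgroupOf]
      exact hm
    rw [this]
    exact Subgroup.one_mem _
  have hcZ : ⁅Y, H⁆ ≤ Z := by
    rw [Subgroup.commutator_le]
    intro g₁ hg₁ g₂ hg₂
    have hg₁H : g₁ ∈ H := hYH hg₁
    rw [hZ, Subgroup.mem_map]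
    refine ⟨⁅(⟨g₁, hg₁H⟩ : H), (⟨g₂, hg₂⟩ : H)⁆, ?_, ?_⟩
    · rw [Subgroup.mem_comap, map_commutatorElement]
      apply Subgroup.commutator_mem_commutator
      · rw [hX, Subgroup.mem_map]
        refine ⟨⟨g₁, hg₁H⟩, ?_, rfl⟩
        rw [Subgroup.mem_subgroupOf]
        exact hg₁
      · exact Subgroup.mem_top _
    · rw [map_commutatorElement]
      rfl
  have hYZ : Y ≤ Z := by
    rw [← heq]
    exact sup_le hMZ hcZ
  have hXle : X ≤ ⁅X, (⊤ : Subgroup (H ⧸ N))⁆ := by
    intro x hx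
    rw [hX, Subgroup.mem_map] at hx
    obtain ⟨y, hy, rfl⟩ := hx
    rw [Subgroup.mem_subgroupOf] at hy
    have := hYZ hy
    rw [hZ, Subgroup.mem_map] at this
    obtain ⟨y', hy', hyy'⟩ := this
    have : y' = y := Subtype.ext hyy'
    rw [this, Subgroup.mem_comap] at hy'
    exact hy'
  have hXbot := eq_bot_of_le_commutator_top hnil X hXle
  -- hence Y ≤ M
  apply not_le_of_gt hMY
  intro y hy
  have hyH : y ∈ H := hYH hy
  have h1 : π ⟨y, hyH⟩ ∈ X := by
    rw [hX, Subgroup.mem_map]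
    refine ⟨⟨y, hyH⟩, ?_, rfl⟩
    rw [Subgroup.mem_subgroupOf]
    exact hy
  rw [hXbot, Subgroup.mem_bot] at h1
  have h2 : (⟨y, hyH⟩ : H) ∈ N := (QuotientGroup.eq_one_iff _).mp h1
  rw [hN, Subgroup.mem_subgroupOf] at h2
  exact h2

set_option maxHeartbeats 800000 in
/-- Peterfalvi (6.3) -/
theorem coherent_63 (K : Subgroup L) [hK : K.Normal] (hsolv : Group.IsSolvable K)
    (τ : (L → ℂ) → (G → ℂ)) (R : (L → ℂ) → Finset (G → ℂ))
    (hS : Cfsg.IsCoherenceSystem (Cfsg.inducedIrrAbove K ⊥) τ R) (M H₁ H : Subgroup L)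
    [hMn : M.Normal] [hH₁n : H₁.Normal] [hHn : H.Normal]
    (hMH₁ : M ≤ H₁) (hH₁H : H₁ ≤ H) (hHK : H ≤ K) [(M.subgroupOf H).Normal]
    (hnil : Group.IsNilpotent (↥H ⧸ M.subgroupOf H))
    (hcoh : Cfsg.IsCoherent (Cfsg.inducedIrrAbove K H₁) {1}ᶜ τ)
    (hbig : 4 * K.index ^ 2 + 1 < H₁.relIndex H) :
    Cfsg.IsCoherent (Cfsg.inducedIrrAbove K M) {1}ᶜ τ := by
  classical
  have key : ∀ n : ℕ, ∀ Y : Subgroup L, Y.Normal → M ≤ Y → Y ≤ H₁ →
      Cfsg.IsCoherent (Cfsg.inducedIrrAbove K Y) {1}ᶜ τ → Nat.card Y ≤ n →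
      Cfsg.IsCoherent (Cfsg.inducedIrrAbove K M) {1}ᶜ τ := by
    intro n
    induction n with
    | zero =>
      intro Y _ _ _ _ hcard
      have : 0 < Nat.card Y := Nat.card_pos
      omega
    | succ n ih =>
      intro Y hYn hMY hYH₁ hYcoh hcard
      haveI := hYn
      by_cases hYM : Y = M
      · rw [← hYM]
        exact hYcoh
      have hMltY : M < Y := lt_of_le_of_ne hMY (Ne.symm hYM)
      have hYH : Y ≤ H := hYH₁.trans hH₁H
      set B : Subgroup L := M ⊔ ⁅Y, H⁆ with hB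
      haveI : (⁅Y, H⁆).Normal := Subgroup.commutator_normal Y H
      haveI hBn : B.Normal := Subgroup.sup_normal M ⁅Y, H⁆
      have hBltY : B < Y := sup_commutator_lt M Y H hMltY hYH hnil
      -- indices
      have hH₁ltH : H₁ < H := by
        refine lt_of_le_of_ne hH₁H ?_
        intro h
        rw [h, Subgroup.relIndex_self] at hbig
        omega
      have hYltK : Y < K := lt_of_le_of_lt hYH₁ (lt_of_lt_of_le hH₁ltH hHK)
      have hBltK : B < K := lt_trans hBltY hYltK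
      have hcent : ∀ x ∈ Y, ∀ y ∈ H, x * y * x⁻¹ * y⁻¹ ∈ B := by
        intro x hx y hy
        rw [← commutatorElement_def]
        exact (le_sup_right : ⁅Y, H⁆ ≤ B) (Subgroup.commutator_mem_commutator hx hy)
      have hlt : 4 * H.index ^ 2 * Y.relIndex H < (Y.relIndex K - 1) ^ 2 := by
        have e1 : H.index = H.relIndex K * K.index := (Subgroup.relIndex_mul_index hHK).symm
        have e2 : Y.relIndex K = Y.relIndex H * H.relIndex K :=
          (Subgroup.relIndex_mul_relIndex Y H K hYH hHK).symm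
        have e3 : Y.relIndex H = Y.relIndex H₁ * H₁.relIndex H :=
          (Subgroup.relIndex_mul_relIndex Y H₁ H hYH₁ hH₁H).symm
        haveI : Y.IsFiniteRelIndex H₁ := Subgroup.isFiniteRelIndex_of_finiteIndex
        haveI : H.IsFiniteRelIndex K := Subgroup.isFiniteRelIndex_of_finiteIndex
        have hpos1 : 1 ≤ Y.relIndex H₁ :=
          Nat.one_le_iff_ne_zero.mpr Subgroup.relIndex_ne_zero
        have hpos2 : 1 ≤ H.relIndex K :=
          Nat.one_le_iff_ne_zero.mpr Subgroup.relIndex_ne_zero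
        have hm : 4 * K.index ^ 2 + 1 < Y.relIndex H := by
          rw [e3]
          calc 4 * K.index ^ 2 + 1 < H₁.relIndex H := hbig
            _ = 1 * H₁.relIndex H := (one_mul _).symm
            _ ≤ Y.relIndex H₁ * H₁.relIndex H := Nat.mul_le_mul_right _ hpos1
        rw [e1, e2]
        exact arith_63 K.index (H.relIndex K) (Y.relIndex H) hpos2 hm
      have hBcoh := coherent_62 K hsolv τ R hS Y B H Y hYltK hBltK hBltY.le hYH hHK hcent
        hYcoh hlt
      apply ih B hBn le_sup_left (hBltY.le.trans hYH₁) hBcoh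
      have hcardlt : Nat.card B < Nat.card Y := by
        have hfin : (Y : Set L).Finite := Set.toFinite _
        have hss : (B : Set L) ⊂ (Y : Set L) := hBltY
        have := Set.ncard_lt_ncard hss hfin
        rwa [← Nat.card_coe_set_eq, ← Nat.card_coe_set_eq] at this
      omega
  exact key (Nat.card H₁) H₁ hH₁n hMH₁ le_rfl hcoh le_rfl

end Cfsg.Agent.Helper6
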