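import Mathlib
import Cfsg.Prelude.Def_Characters
import Cfsg.Prelude.Def_OddOrderChar
import Cfsg.Agent.Helper6.Coh62C
import Cfsg.Agent.Helper6.CoherO

/-!
# The coherence step for sets of irreducible induced characters (Feit's form of (6.2))
-/

set_option autoImplicit false
set_option linter.style.haveILetI false

namespace Cfsg.Agent.Helper6

open scoped ComplexConjugate

universe u v

variable {L : Type u} [Group L] [Fintype L] {G : Type v} [Group G] [Fintype G]

/-- a linear isometry on a set is one on every subset -/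
theorem isLinearIsometryOn_mono {E E' : Set (L → ℂ)} (h : E' ⊆ E) (τ : (L → ℂ) → (G → ℂ))
    (hτ : Cfsg.IsLinearIsometryOn E τ) : Cfsg.IsLinearIsometryOn E' τ := by
  obtain ⟨h1, h2, h3, h4⟩ := hτ
  exact ⟨fun α hα β hβ => h1 α (h hα) β (h hβ), fun α hα n => h2 α (h hα) n,
    fun α hα β hβ => h3 α (h hα) β (h hβ), fun α hα => h4 α (h hα)⟩

/-- `S(A) ⊆ S(B)` when `B ≤ A` -/
theorem inducedIrrAbove_anti (K : Subgroup L) {A B : Subgroup L} (hBA : B ≤ A) :
    Cfsg.inducedIrrAbove K A ⊆ Cfsg.inducedIrrAbove K B := by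
  rintro φ ⟨θ, h0, h1, h2, rfl⟩
  exact ⟨θ, h0, h1, fun a ha => h2 a (hBA ha), rfl⟩

set_option maxHeartbeats 1600000 in
/-- the coherence step, for irreducible induced characters -/
theorem coherent_62_irr (K : Subgroup L) [hK : K.Normal] (hsolv : Group.IsSolvable K)
    (hirr : ∀ φ ∈ Cfsg.inducedIrrAbove K ⊥, Cfsg.IsIrrCharacter L φ)
    (τ : (L → ℂ) → (G → ℂ))
    (hτ : Cfsg.IsLinearIsometryOn (Cfsg.zspanOn (Cfsg.inducedIrrAbove K ⊥) {1}ᶜ) τ)
    (hτ1 : ∀ α ∈ Cfsg.zspanOn (Cfsg.inducedIrrAbove K ⊥) {1}ᶜ, τ α 1 = 0)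
    (A B C D : Subgroup L)
    [hAn : A.Normal] [hBn : B.Normal] (hAK : A < K) (hBA : B ≤ A)
    (hBD : B ≤ D) (hDC : D ≤ C) (hCK : C ≤ K)
    (hcent : ∀ x ∈ D, ∀ y ∈ C, x * y * x⁻¹ * y⁻¹ ∈ B)
    (hA : Cfsg.IsCoherent (Cfsg.inducedIrrAbove K A) {1}ᶜ τ)
    (hlt : 4 * C.index ^ 2 * D.relIndex C < (A.relIndex K - 1) ^ 2) :
    Cfsg.IsCoherent (Cfsg.inducedIrrAbove K B) {1}ᶜ τ := by
  classical
  set S : Set (L → ℂ) := Cfsg.inducedIrrAbove K ⊥ with hSdef
  set d : (L → ℂ) → ℕ := fun φ => Cfsg.charDegree φ with hd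
  have hdS : ∀ φ ∈ S, φ 1 = (d φ : ℂ) := fun φ hφ =>
    (charDegree_cast_of_isCharacter (IsIrrCharacter.isCharacter (hirr φ hφ))).symm
  have hsubS : ∀ X : Subgroup L, (↑(indAbove K X) : Set (L → ℂ)) ⊆ S := by
    intro X φ hφ
    rw [hSdef, ← coe_indAbove]
    exact Finset.mem_coe.mpr (indAbove_subset_bot K X (Finset.mem_coe.mp hφ))
  -- the family of coherent subsets
  set P : Finset (L → ℂ) → Prop := fun T => indAbove K A ⊆ T ∧
    Cfsg.IsCoherent (↑T : Set (L → ℂ)) {1}ᶜ τ with hP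
  set fam : Finset (Finset (L → ℂ)) := (indAbove K ⊥).powerset.filter P with hfam
  have hne : fam.Nonempty := by
    refine ⟨indAbove K A, ?_⟩
    rw [hfam, Finset.mem_filter, Finset.mem_powerset]
    refine ⟨indAbove_subset_bot K A, Finset.Subset.refl _, ?_⟩
    rw [coe_indAbove]
    exact hA
  obtain ⟨T, hT, hTmax⟩ := Finset.exists_max_image fam Finset.card hne
  rw [hfam, Finset.mem_filter, Finset.mem_powerset] at hT
  obtain ⟨hTbot, hTA, hTcoh⟩ := hT
  have hTS : (↑T : Set (L → ℂ)) ⊆ S := by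
    intro φ hφ
    exact hsubS ⊥ (Finset.mem_coe.mpr (hTbot (Finset.mem_coe.mp hφ)))
  -- the linear character
  obtain ⟨θ₁, hθ₁mem, hθ₁1⟩ := exists_linear_above K A hsolv hAK
  obtain ⟨h10, h11, h12⟩ := (mem_irrAboveFn K A θ₁).mp hθ₁mem
  set χ₁ : L → ℂ := Cfsg.indFun K θ₁ with hχ₁
  have hχ₁A : χ₁ ∈ indAbove K A := by
    unfold indAbove
    exact Finset.mem_image.mpr ⟨θ₁, hθ₁mem, rfl⟩
  have hχ₁T : χ₁ ∈ T := hTA hχ₁A
  have hdχ₁ : d χ₁ = K.index := by
    show Cfsg.charDegree (Cfsg.indFun K θ₁) = K.index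
    rw [charDegree_indFun_normal K θ₁ (IsIrrCharacter.isCharacter h10)]
    have : Cfsg.charDegree θ₁ = 1 := by
      unfold Cfsg.charDegree
      rw [hθ₁1]
      simp
    rw [this, mul_one]
  -- the sum over S(A)
  have hsumA : ∑ φ ∈ indAbove K A, ((d φ : ℝ) ^ 2 / (((fun _ => 1 : (L → ℂ) → ℕ) φ : ℕ) : ℝ)) =
      (K.index : ℝ) * ((A.relIndex K : ℝ) - 1) :=
    sum_indAbove K A (fun _ => 1) (fun φ hφ => by
      rw [classInner_irr_self (hirr φ (hsubS A (Finset.mem_coe.mpr hφ)))]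
      simp)
  have h1le : 1 ≤ A.relIndex K := by
    haveI : A.IsFiniteRelIndex K := Subgroup.isFiniteRelIndex_of_finiteIndex
    exact Nat.one_le_iff_ne_zero.mpr Subgroup.relIndex_ne_zero
  have hsumA' : ∑ φ ∈ indAbove K A, d φ ^ 2 = K.index * (A.relIndex K - 1) := by
    have h2 : ((∑ φ ∈ indAbove K A, d φ ^ 2 : ℕ) : ℝ) =
        ((K.index * (A.relIndex K - 1) : ℕ) : ℝ) := by
      rw [Nat.cast_mul, Nat.cast_sub h1le, Nat.cast_one, ← hsumA]
      push_cast
      apply Finset.sum_congr rfl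
      intro φ _
      simp
    exact_mod_cast h2
  have hsumT : K.index * (A.relIndex K - 1) ≤ ∑ φ ∈ T, d φ ^ 2 := by
    rw [← hsumA']
    exact Finset.sum_le_sum_of_subset hTA
  -- every member of S(B) lies in T
  have hBT : Cfsg.inducedIrrAbove K B ⊆ (↑T : Set (L → ℂ)) := by
    intro χ hχB
    by_contra hχT
    have hχT' : χ ∉ T := fun h => hχT (Finset.mem_coe.mpr h)
    rw [← coe_indAbove] at hχB
    have hχB' : χ ∈ indAbove K B := Finset.mem_coe.mp hχB
    have hχS : χ ∈ S := hsubS B hχB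
    obtain ⟨θ, hθmem, hθχ⟩ : ∃ θ ∈ irrAboveFn K B, Cfsg.indFun K θ = χ := by
      unfold indAbove at hχB'
      exact Finset.mem_image.mp hχB'
    obtain ⟨h20, h21, h22⟩ := (mem_irrAboveFn K B θ).mp hθmem
    have hdχ : d χ = K.index * Cfsg.charDegree θ := by
      show Cfsg.charDegree χ = _
      rw [← hθχ, charDegree_indFun_normal K θ (IsIrrCharacter.isCharacter h20)]
    have hbound := charDegree_sq_le K B C D hDC hCK hBD hcent θ hθmem
    have hCpos : 0 < Nat.card C := Nat.card_pos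
    have harith : 2 * K.index * Cfsg.charDegree θ < A.relIndex K - 1 := by
      apply arith_62 K.index (Cfsg.charDegree θ) (A.relIndex K) (Nat.card K) (Nat.card C)
        (Nat.card D) C.index (D.relIndex C) hCpos ?_ ?_ hbound hlt
      · rw [C.index_mul_card, K.index_mul_card]
      · have h1 := (D.subgroupOf C).index_mul_card
        rw [Nat.card_congr (Subgroup.subgroupOfEquivOfLe hDC).toEquiv] at h1
        exact h1
    have hkpos : 0 < K.index := Nat.pos_of_ne_zero Subgroup.index_ne_zero_of_finite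
    have hineq : 2 * d χ₁ * d χ < ∑ φ ∈ T, d φ ^ 2 := by
      refine lt_of_lt_of_le ?_ hsumT
      rw [hdχ, hdχ₁]
      calc 2 * K.index * (K.index * Cfsg.charDegree θ)
          = K.index * (2 * K.index * Cfsg.charDegree θ) := by ring
        _ < K.index * (A.relIndex K - 1) := Nat.mul_lt_mul_of_pos_left harith hkpos
    have hdvd : d χ₁ ∣ d χ := by
      rw [hdχ, hdχ₁]
      exact Dvd.intro _ rfl
    -- the bigger set
    set T' : Finset (L → ℂ) := insert χ T with hT'
    have hT'S : (↑T' : Set (L → ℂ)) ⊆ S := by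
      intro f hf
      rw [hT', Finset.coe_insert] at hf
      rcases hf with rfl | hf
      · exact hχS
      · exact hTS hf
    have hext := irr_extend_coherent T χ (fun ξ hξ => hirr ξ (hTS (Finset.mem_coe.mpr hξ)))
      (hirr χ hχS) hχT' d
      (fun ξ hξ => hdS ξ (hT'S (Finset.mem_coe.mpr hξ))) τ
      (isLinearIsometryOn_mono (fun α hα => zspanOn_mono hT'S _ hα) τ hτ)
      (fun α hα => hτ1 α (zspanOn_mono hT'S _ hα)) hTcoh χ₁ hχ₁T hdvd hineq
    have hT'fam : T' ∈ fam := by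
      rw [hfam, Finset.mem_filter, Finset.mem_powerset]
      refine ⟨?_, ?_, hext⟩
      · intro f hf
        rw [hT', Finset.mem_insert] at hf
        rcases hf with rfl | hf
        · exact indAbove_subset_bot K B hχB'
        · exact hTbot hf
      · intro f hf
        rw [hT', Finset.mem_insert]
        exact Or.inr (hTA hf)
    have hcard : T.card < T'.card := by
      rw [hT', Finset.card_insert_of_notMem hχT']
      omega
    have := hTmax T' hT'fam
    omega
  -- conclude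
  apply isCoherent_subset _ _ _ τ hBT hTcoh
  obtain ⟨α, hα, hα0⟩ := hA.1
  exact ⟨α, zspanOn_mono (inducedIrrAbove_anti K hBA) _ hα, hα0⟩

end Cfsg.Agent.Helper6
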