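import Mathlib
import Cfsg.Prelude.Def_Characters
import Cfsg.Prelude.Def_OddOrderChar
import Cfsg.Agent.Helper6.Coh63
import Cfsg.Agent.Helper6.FeitCohB

/-!
# Descent of coherence along a nilpotent section, with a central booster
-/

set_option autoImplicit false
set_option linter.style.haveILetI false

namespace Cfsg.Agent.Helper6

open scoped ComplexConjugate
open scoped commutatorElement

universe u v

variable {L : Type u} [Group L] [Fintype L] {G : Type v} [Group G] [Fintype G]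

set_option maxHeartbeats 1600000 in
/-- descent of coherence: `K / M` nilpotent, `Z` central in `K` modulo `M` -/
theorem coherent_descent_irr (K : Subgroup L) [hK : K.Normal] (hsolv : Group.IsSolvable K)
    (hirr : ∀ φ ∈ Cfsg.inducedIrrAbove K ⊥, Cfsg.IsIrrCharacter L φ)
    (τ : (L → ℂ) → (G → ℂ))
    (hτ : Cfsg.IsLinearIsometryOn (Cfsg.zspanOn (Cfsg.inducedIrrAbove K ⊥) {1}ᶜ) τ)
    (hτ1 : ∀ α ∈ Cfsg.zspanOn (Cfsg.inducedIrrAbove K ⊥) {1}ᶜ, τ α 1 = 0)
    (M H₁ Z : Subgroup L) [hMn : M.Normal] [hH₁n : H₁.Normal] [hZn : Z.Normal]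
    (hMH₁ : M ≤ H₁) (hH₁K : H₁ ≤ K) (hZK : Z ≤ K) [(M.subgroupOf K).Normal]
    (hnil : Group.IsNilpotent (↥K ⧸ M.subgroupOf K))
    (hZc : ∀ z ∈ Z, ∀ k ∈ K, z * k * z⁻¹ * k⁻¹ ∈ M)
    (hcoh : Cfsg.IsCoherent (Cfsg.inducedIrrAbove K H₁) {1}ᶜ τ)
    (hineq : ∀ Y : Subgroup L, Y.Normal → M < Y → Y ≤ H₁ →
      4 * K.index ^ 2 * (Y ⊔ Z).relIndex K < (Y.relIndex K - 1) ^ 2) :
    Cfsg.IsCoherent (Cfsg.inducedIrrAbove K M) {1}ᶜ τ := by
  classical
  have key : ∀ n : ℕ, ∀ Y : Subgroup L, Y.Normal → M ≤ Y → Y ≤ H₁ →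
      Cfsg.IsCoherent (Cfsg.inducedIrrAbove K Y) {1}ᶜ τ → Nat.card Y ≤ n →
      Cfsg.IsCoherent (Cfsg.inducedIrrAbove K M) {1}ᶜ τ := by
    intro n
    induction n with
    | zero =>
      intro Y _ _ _ _ hcard
      have : 0 < Nat.card Y := Nat.card_pos
      omega
    | succ n ih =>
      intro Y hYn hMY hYH₁ hYcoh hcard
      haveI := hYn
      by_cases hYM : Y = M
      · rw [← hYM]
        exact hYcoh
      have hMltY : M < Y := lt_of_le_of_ne hMY (Ne.symm hYM)
      have hYK : Y ≤ K := hYH₁.trans hH₁K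
      set B : Subgroup L := M ⊔ ⁅Y, K⁆ with hB
      haveI : (⁅Y, K⁆).Normal := Subgroup.commutator_normal Y K
      haveI hBn : B.Normal := Subgroup.sup_normal M ⁅Y, K⁆
      have hBltY : B < Y := sup_commutator_lt M Y K hMltY hYK hnil
      have hlt := hineq Y hYn hMltY hYH₁
      have hYltK : Y < K := by
        refine lt_of_le_of_ne hYK ?_
        intro h
        rw [h, Subgroup.relIndex_self] at hlt
        simp at hlt
      have hcent : ∀ x ∈ Y ⊔ Z, ∀ y ∈ K, x * y * x⁻¹ * y⁻¹ ∈ B := by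
        intro x hx y hy
        have hx' : x ∈ ((Y ⊔ Z : Subgroup L) : Set L) := hx
        rw [Subgroup.mul_normal Y Z, Set.mem_mul] at hx'
        obtain ⟨a, ha, b, hb, rfl⟩ := hx'
        have h1 : a * y * a⁻¹ * y⁻¹ ∈ B := by
          rw [← commutatorElement_def]
          exact (le_sup_right : ⁅Y, K⁆ ≤ B) (Subgroup.commutator_mem_commutator ha hy)
        have h2 : b * y * b⁻¹ * y⁻¹ ∈ B := (le_sup_left : M ≤ B) (hZc b hb y hy)
        have h3 : a * b * y * (a * b)⁻¹ * y⁻¹ =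
            (a * (b * y * b⁻¹ * y⁻¹) * a⁻¹) * (a * y * a⁻¹ * y⁻¹) := by group
        rw [h3]
        exact B.mul_mem (hBn.conj_mem _ h2 a) h1
      have hBcoh := coherent_62_irr K hsolv hirr τ hτ hτ1 Y B K (Y ⊔ Z) hYltK hBltY.le
        (hBltY.le.trans le_sup_left) (sup_le hYK hZK) le_rfl hcent hYcoh hlt
      apply ih B hBn le_sup_left (hBltY.le.trans hYH₁) hBcoh
      have hcardlt : Nat.card B < Nat.card Y := by
        have hfin : (Y : Set L).Finite := Set.toFinite _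
        have hss : (B : Set L) ⊂ (Y : Set L) := hBltY
        have := Set.ncard_lt_ncard hss hfin
        rwa [← Nat.card_coe_set_eq, ← Nat.card_coe_set_eq] at this
      omega
  exact key (Nat.card H₁) H₁ hH₁n hMH₁ le_rfl hcoh le_rfl

end Cfsg.Agent.Helper6
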