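import Mathlib
import Cfsg.Prelude.Def_Characters
import Cfsg.Agent.Helper6.NormalInd

/-!
# Induction from the kernel of a Frobenius group
-/

set_option autoImplicit false
set_option linter.style.haveILetI false

namespace Cfsg.Agent.Helper6

open Module Representation
open scoped ComplexConjugate Pointwise

universe u v

variable {G : Type u} [Group G]

/-- In a "Frobenius group" `G = K H`, an element outside `K` centralizes no non-identity element
of `K`. -/
theorem frobenius_centralizer_aux [Finite G] (K H : Subgroup G) [hK : K.Normal]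
    (hKH' : K ⊔ H = ⊤)
    (hfpf : ∀ h ∈ H, h ≠ 1 → ∀ k ∈ K, h * k = k * h → k = 1)
    (g : G) (hg : g ∉ K) (k : G) (hk : k ∈ K) (hcomm : g * k = k * g) : k = 1 := by
  have hgtop : g ∈ (↑(K ⊔ H) : Set G) := by rw [hKH']; trivial
  rw [Subgroup.normal_mul] at hgtop
  obtain ⟨k₁, hk₁, h, hh, rfl⟩ := Set.mem_mul.mp hgtop
  have hh1 : h ≠ 1 := by
    rintro rfl
    apply hg
    simpa using hk₁
  -- the map k ↦ k⁻¹ * (h k h⁻¹) on K is injective
  let φ : K → K := fun a => ⟨(a : G)⁻¹ * (h * a * h⁻¹),
    K.mul_mem (K.inv_mem a.2) (hK.conj_mem a a.2 h)⟩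
  have hφinj : Function.Injective φ := by
    intro a b hab
    have hab' : (a : G)⁻¹ * (h * a * h⁻¹) = (b : G)⁻¹ * (h * b * h⁻¹) := congrArg Subtype.val hab
    have hc : h * ((b : G) * (a : G)⁻¹) = ((b : G) * (a : G)⁻¹) * h := by
      have h1 : (b : G) * (a : G)⁻¹ * (h * a * h⁻¹) = h * b * h⁻¹ := by
        rw [mul_assoc, hab', mul_inv_cancel_left]
      calc h * ((b : G) * (a : G)⁻¹) = (h * b * h⁻¹) * (h * a * h⁻¹)⁻¹ * h := by group
        _ = ((b : G) * (a : G)⁻¹ * (h * a * h⁻¹)) * (h * a * h⁻¹)⁻¹ * h := by rw [h1]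
        _ = ((b : G) * (a : G)⁻¹) * h := by group
    have := hfpf h hh hh1 ((b : G) * (a : G)⁻¹) (K.mul_mem b.2 (K.inv_mem a.2)) hc
    apply Subtype.ext
    exact (mul_inv_eq_one.mp this).symm
  have hφsurj : Function.Surjective φ := Finite.injective_iff_surjective.mp hφinj
  obtain ⟨k₂, hk₂⟩ := hφsurj ⟨k₁, hk₁⟩
  have hk₂' : (k₂ : G)⁻¹ * (h * k₂ * h⁻¹) = k₁ := congrArg Subtype.val hk₂
  have hconj : k₁ * h = (k₂ : G)⁻¹ * h * k₂ := by
    rw [← hk₂']
    group
  rw [hconj] at hcomm
  have hc2 : h * ((k₂ : G) * k * (k₂ : G)⁻¹) = ((k₂ : G) * k * (k₂ : G)⁻¹) * h := by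
    calc h * ((k₂ : G) * k * (k₂ : G)⁻¹) = k₂ * ((k₂ : G)⁻¹ * h * k₂ * k) * (k₂ : G)⁻¹ := by group
      _ = k₂ * (k * ((k₂ : G)⁻¹ * h * k₂)) * (k₂ : G)⁻¹ := by rw [hcomm]
      _ = ((k₂ : G) * k * (k₂ : G)⁻¹) * h := by group
  have := hfpf h hh hh1 _ (hK.conj_mem k hk k₂) hc2
  have h3 : (k₂ : G) * k * (k₂ : G)⁻¹ = 1 := this
  calc k = (k₂ : G)⁻¹ * ((k₂ : G) * k * (k₂ : G)⁻¹) * k₂ := by group
    _ = 1 := by rw [h3]; group

/-- Non-principal irreducible characters of the kernel of a Frobenius group induce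
irreducibly. -/
theorem frobenius_indFun_irr [Fintype G] (K H : Subgroup G) [hK : K.Normal]
    (hKH' : K ⊔ H = ⊤)
    (hfpf : ∀ h ∈ H, h ≠ 1 → ∀ k ∈ K, h * k = k * h → k = 1) (τ : K → ℂ)
    (hτ : Cfsg.IsIrrCharacter K τ) (hτ1 : τ ≠ fun _ => 1) :
    Cfsg.IsIrrCharacter G (Cfsg.indFun K τ) := by
  classical
  apply isIrrCharacter_of_classInner_self (isCharacter_indFun K τ (IsIrrCharacter.isCharacter hτ))
  have hmain := card_mul_classInner_indFun_normal K τ hτ
  have hstab : ∀ g : G, conjFun K τ g = τ ↔ g ∈ K := by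
    intro g
    constructor
    · intro hfix
      by_contra hgK
      -- Brauer's permutation lemma for conjugation by g on K
      let α : K ≃* K := MulAut.conjNormal g
      have hcount := brauer_permutation_count α.toEquiv
        (fun χ hχ => IsIrrCharacter.comp_mulEquiv α hχ)
        (fun a b hab => by
          obtain ⟨c, hc⟩ := isConj_iff.mp hab
          refine isConj_iff.mpr ⟨α c, ?_⟩
          change α c * α a * (α c)⁻¹ = α b
          rw [← map_inv, ← map_mul, ← map_mul, hc])
      -- at most one fixed class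
      have hsub : Subsingleton {C : ConjClasses K // ∀ k : K, ConjClasses.mk k = C →
          IsConj (α.toEquiv k) k} := by
        have hone : ∀ k : K, IsConj (α.toEquiv k) k → k = 1 := by
          intro k hk
          obtain ⟨u, hu⟩ := isConj_iff.mp hk
          have hu' : (u : G) * (g * k * g⁻¹) * (u : G)⁻¹ = k := congrArg Subtype.val hu
          have hugK : (u : G) * g ∉ K := by
            intro hmem
            apply hgK
            have := K.mul_mem (K.inv_mem u.2) hmem
            simpa using this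
          have hcomm : (u : G) * g * k = k * ((u : G) * g) := by
            calc (u : G) * g * k = ((u : G) * (g * k * g⁻¹) * (u : G)⁻¹) * ((u : G) * g) := by
                  group
              _ = k * ((u : G) * g) := by rw [hu']
          have := frobenius_centralizer_aux K H hKH' hfpf _ hugK k k.2 hcomm
          exact Subtype.ext this
        constructor
        rintro ⟨C, hC⟩ ⟨D, hD⟩
        apply Subtype.ext
        obtain ⟨a, ha⟩ := ConjClasses.mk_surjective C
        obtain ⟨b, hb⟩ := ConjClasses.mk_surjective D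
        change C = D
        rw [← ha, ← hb, hone a (hC a ha), hone b (hD b hb)]
      haveI : Finite (Cfsg.IrrCharacter K) := irr_finite
      have hle : Nat.card {C : ConjClasses K // ∀ k : K, ConjClasses.mk k = C →
          IsConj (α.toEquiv k) k} ≤ 1 := Finite.card_le_one_iff_subsingleton.mpr hsub
      rw [← hcount] at hle
      have hsub2 := Finite.card_le_one_iff_subsingleton.mp hle
      have h1 : (⟨⟨τ, hτ⟩, hfix⟩ : {χ : Cfsg.IrrCharacter K //
          (χ : K → ℂ) ∘ α.toEquiv = (χ : K → ℂ)}) =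
          ⟨⟨fun _ => 1, isIrrCharacter_one⟩, rfl⟩ := hsub2.elim _ _
      exact hτ1 (congrArg (fun x => (x.1 : K → ℂ)) h1)
    · intro hgK
      ext h
      have hcf := IsCharacter.isClassFunction (IsIrrCharacter.isCharacter hτ)
      exact hcf h ⟨g, hgK⟩
  have hcard : Nat.card {g : G // conjFun K τ g = τ} = Nat.card K := by
    apply Nat.card_congr
    exact Equiv.subtypeEquivRight hstab
  rw [hcard] at hmain
  have hK0 : (Nat.card K : ℂ) ≠ 0 := by
    have : 0 < Nat.card K := Nat.card_pos
    exact_mod_cast this.ne'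
  have := mul_left_cancel₀ hK0 (hmain.trans (mul_one _).symm)
  exact this

end Cfsg.Agent.Helper6
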