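import Mathlib
import Cfsg.Prelude.Def_Characters
import Cfsg.Agent.Helper6.FrobInd
import Cfsg.Agent.Helper6.Degrees
import Cfsg.Agent.Helper6.NormalInd

/-!
# Induction from the kernel of a Frobenius group
-/

set_option autoImplicit false
set_option linter.style.haveILetI false

namespace Cfsg.Agent.Helper6

open Module Representation
open scoped ComplexConjugate Pointwise

universe u v

variable {G : Type u} [Group G]

/-- Non-principal irreducible characters of the kernel of a Frobenius group induce
irreducibly. -/
theorem indFun_irr_of_free [Fintype G] (K : Subgroup G) [hK : K.Normal]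
    (hfree : ∀ g : G, g ∉ K → ∀ k ∈ K, g * k = k * g → k = 1) (τ : K → ℂ)
    (hτ : Cfsg.IsIrrCharacter K τ) (hτ1 : τ ≠ fun _ => 1) :
    Cfsg.IsIrrCharacter G (Cfsg.indFun K τ) := by
  classical
  apply isIrrCharacter_of_classInner_self (isCharacter_indFun K τ (IsIrrCharacter.isCharacter hτ))
  have hmain := card_mul_classInner_indFun_normal K τ hτ
  have hstab : ∀ g : G, conjFun K τ g = τ ↔ g ∈ K := by
    intro g
    constructor
    · intro hfix
      by_contra hgK
      -- Brauer's permutation lemma for conjugation by g on K
      let α : K ≃* K := MulAut.conjNormal g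
      have hcount := brauer_permutation_count α.toEquiv
        (fun χ hχ => IsIrrCharacter.comp_mulEquiv α hχ)
        (fun a b hab => by
          obtain ⟨c, hc⟩ := isConj_iff.mp hab
          refine isConj_iff.mpr ⟨α c, ?_⟩
          change α c * α a * (α c)⁻¹ = α b
          rw [← map_inv, ← map_mul, ← map_mul, hc])
      -- at most one fixed class
      have hsub : Subsingleton {C : ConjClasses K // ∀ k : K, ConjClasses.mk k = C →
          IsConj (α.toEquiv k) k} := by
        have hone : ∀ k : K, IsConj (α.toEquiv k) k → k = 1 := by
          intro k hk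
          obtain ⟨u, hu⟩ := isConj_iff.mp hk
          have hu' : (u : G) * (g * k * g⁻¹) * (u : G)⁻¹ = k := congrArg Subtype.val hu
          have hugK : (u : G) * g ∉ K := by
            intro hmem
            apply hgK
            have := K.mul_mem (K.inv_mem u.2) hmem
            simpa using this
          have hcomm : (u : G) * g * k = k * ((u : G) * g) := by
            calc (u : G) * g * k = ((u : G) * (g * k * g⁻¹) * (u : G)⁻¹) * ((u : G) * g) := by
                  group
              _ = k * ((u : G) * g) := by rw [hu']
          have := hfree _ hugK k k.2 hcomm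
          exact Subtype.ext this
        constructor
        rintro ⟨C, hC⟩ ⟨D, hD⟩
        apply Subtype.ext
        obtain ⟨a, ha⟩ := ConjClasses.mk_surjective C
        obtain ⟨b, hb⟩ := ConjClasses.mk_surjective D
        change C = D
        rw [← ha, ← hb, hone a (hC a ha), hone b (hD b hb)]
      haveI : Finite (Cfsg.IrrCharacter K) := irr_finite
      have hle : Nat.card {C : ConjClasses K // ∀ k : K, ConjClasses.mk k = C →
          IsConj (α.toEquiv k) k} ≤ 1 := Finite.card_le_one_iff_subsingleton.mpr hsub
      rw [← hcount] at hle
      have hsub2 := Finite.card_le_one_iff_subsingleton.mp hle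
      have h1 : (⟨⟨τ, hτ⟩, hfix⟩ : {χ : Cfsg.IrrCharacter K //
          (χ : K → ℂ) ∘ α.toEquiv = (χ : K → ℂ)}) =
          ⟨⟨fun _ => 1, isIrrCharacter_one⟩, rfl⟩ := hsub2.elim _ _
      exact hτ1 (congrArg (fun x => (x.1 : K → ℂ)) h1)
    · intro hgK
      ext h
      have hcf := IsCharacter.isClassFunction (IsIrrCharacter.isCharacter hτ)
      exact hcf h ⟨g, hgK⟩
  have hcard : Nat.card {g : G // conjFun K τ g = τ} = Nat.card K := by
    apply Nat.card_congr
    exact Equiv.subtypeEquivRight hstab
  rw [hcard] at hmain
  have hK0 : (Nat.card K : ℂ) ≠ 0 := by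
    have : 0 < Nat.card K := Nat.card_pos
    exact_mod_cast this.ne'
  have := mul_left_cancel₀ hK0 (hmain.trans (mul_one _).symm)
  exact this

end Cfsg.Agent.Helper6
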