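import Mathlib
import Cfsg.Prelude.Def_Characters
import Cfsg.Prelude.Def_OddOrderChar
import Cfsg.Agent.Helper6.FrobInd2
import Cfsg.Agent.Helper6.Expansion
import Cfsg.Agent.Helper6.Coh62C
import Cfsg.Agent.Helper6.IndFun

/-!
# Character-theoretic facts on Frobenius groups used for Feit's coherence theorem
-/

set_option autoImplicit false
set_option linter.style.haveILetI false

namespace Cfsg.Agent.Helper6

open scoped ComplexConjugate

universe u

variable {L : Type u} [Group L] [Fintype L]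

omit [Fintype L] in
/-- the Frobenius hypothesis in the "free action" form -/
theorem frob_free (K : Subgroup L)
    (hC : ∀ h ∈ K, h ≠ 1 → Subgroup.centralizer ({h} : Set L) ≤ K) :
    ∀ g : L, g ∉ K → ∀ k ∈ K, g * k = k * g → k = 1 := by
  intro g hg k hk hgk
  by_contra hk1
  apply hg
  apply hC k hk hk1
  rw [Subgroup.mem_centralizer_iff]
  intro h hh
  rw [Set.mem_singleton_iff] at hh
  rw [hh]
  exact hgk.symm

/-- all members of `S(⊥)` are irreducible in a Frobenius group -/
theorem frob_irr (K : Subgroup L) [hK : K.Normal]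
    (hfree : ∀ g : L, g ∉ K → ∀ k ∈ K, g * k = k * g → k = 1) :
    ∀ φ ∈ Cfsg.inducedIrrAbove K ⊥, Cfsg.IsIrrCharacter L φ := by
  rintro φ ⟨θ, h0, h1, -, rfl⟩
  exact indFun_irr_of_free K hfree θ h0 h1

/-- the irreducible characters of a Frobenius group not containing the kernel in their kernel are
exactly those induced from the nonprincipal irreducible characters of the kernel -/
theorem frob_S_eq (K : Subgroup L) [hK : K.Normal]
    (hfree : ∀ g : L, g ∉ K → ∀ k ∈ K, g * k = k * g → k = 1) :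
    {χ : L → ℂ | Cfsg.IsIrrCharacter L χ ∧ ∃ h ∈ K, χ h ≠ χ 1} = Cfsg.inducedIrrAbove K ⊥ := by
  classical
  ext χ
  constructor
  · rintro ⟨hχ, h, hh, hne⟩
    set ψ : K → ℂ := fun k => χ k with hψ
    have hψchar : Cfsg.IsCharacter K ψ := IsCharacter.restrict K (IsIrrCharacter.isCharacter hχ)
    have hψcf := IsCharacter.isClassFunction hψchar
    haveI : Finite (Cfsg.IrrCharacter K) := irr_finite
    haveI : Fintype (Cfsg.IrrCharacter K) := Fintype.ofFinite _
    have hexp := classFunction_expansion ψ hψcf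
    have hex : ∃ θ : Cfsg.IrrCharacter K, (θ : K → ℂ) ≠ (fun _ => 1) ∧
        Cfsg.classInner ψ (θ : K → ℂ) ≠ 0 := by
      by_contra hcon
      push Not at hcon
      rw [Finset.sum_eq_single (⟨fun _ => 1, isIrrCharacter_one⟩ : Cfsg.IrrCharacter K)] at hexp
      · apply hne
        have e1 := congrFun hexp ⟨h, hh⟩
        have e2 := congrFun hexp 1
        rw [Pi.smul_apply] at e1 e2
        have e3 : ψ ⟨h, hh⟩ = ψ 1 := by rw [e1, e2]
        exact e3
      · intro θ _ hθ
        rw [hcon θ (fun h => hθ (Subtype.ext h)), zero_smul]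
      · intro h
        exact absurd (Finset.mem_univ _) h
    obtain ⟨θ, hθ1, hθψ⟩ := hex
    have hirr := indFun_irr_of_free K hfree θ.1 θ.2 hθ1
    have hrec := frobenius_reciprocity K (θ : K → ℂ) χ
      (IsCharacter.isClassFunction (IsIrrCharacter.isCharacter hχ))
    have hne0 : Cfsg.classInner (Cfsg.indFun K (θ : K → ℂ)) χ ≠ 0 := by
      rw [hrec, classInner_conj_symm]
      intro h0
      apply hθψ
      have := congrArg conj h0
      rw [Complex.conj_conj, map_zero] at this
      exact this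
    have heq : Cfsg.indFun K (θ : K → ℂ) = χ := by
      by_contra hneq
      exact hne0 (classInner_irr_ne hirr hχ hneq)
    refine ⟨θ.1, θ.2, hθ1, ?_, heq.symm⟩
    intro a ha
    have : a = 1 := by
      apply Subtype.ext
      simpa using ha
    rw [this]
  · rintro ⟨θ, h0, h1, -, rfl⟩
    have hirr := indFun_irr_of_free K hfree θ h0 h1
    refine ⟨hirr, ?_⟩
    by_contra hcon
    push Not at hcon
    have h2 := frobenius_reciprocity K θ (Cfsg.indFun K θ)
      (IsCharacter.isClassFunction (IsIrrCharacter.isCharacter hirr))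
    rw [classInner_irr_self hirr] at h2
    have h3 : (fun k : K => Cfsg.indFun K θ k) = (Cfsg.indFun K θ 1) • (fun _ => (1 : ℂ)) := by
      ext k
      rw [Pi.smul_apply, smul_eq_mul, mul_one]
      exact hcon k k.2
    rw [h3, classInner_smul_right, classInner_irr_ne h0 isIrrCharacter_one h1, mul_zero] at h2
    exact one_ne_zero h2

/-- the sum of the squares of the degrees over `S(X)` -/
theorem frob_sum_sq (K X : Subgroup L) [hK : K.Normal] [hX : X.Normal]
    (hfree : ∀ g : L, g ∉ K → ∀ k ∈ K, g * k = k * g → k = 1) :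
    ∑ φ ∈ indAbove K X, Cfsg.charDegree φ ^ 2 = K.index * (X.relIndex K - 1) := by
  classical
  have hirr : ∀ φ ∈ indAbove K X, Cfsg.IsIrrCharacter L φ := by
    intro φ hφ
    apply frob_irr K hfree
    rw [← coe_indAbove]
    exact Finset.mem_coe.mpr (indAbove_subset_bot K X hφ)
  have hsumA : ∑ φ ∈ indAbove K X, ((Cfsg.charDegree φ : ℝ) ^ 2 /
      (((fun _ => 1 : (L → ℂ) → ℕ) φ : ℕ) : ℝ)) =
      (K.index : ℝ) * ((X.relIndex K : ℝ) - 1) :=
    sum_indAbove K X (fun _ => 1) (fun φ hφ => by
      rw [classInner_irr_self (hirr φ hφ)]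
      simp)
  have h1le : 1 ≤ X.relIndex K := by
    haveI : X.IsFiniteRelIndex K := Subgroup.isFiniteRelIndex_of_finiteIndex
    exact Nat.one_le_iff_ne_zero.mpr Subgroup.relIndex_ne_zero
  have h2 : ((∑ φ ∈ indAbove K X, Cfsg.charDegree φ ^ 2 : ℕ) : ℝ) =
      ((K.index * (X.relIndex K - 1) : ℕ) : ℝ) := by
    rw [Nat.cast_mul, Nat.cast_sub h1le, Nat.cast_one, ← hsumA]
    push_cast
    apply Finset.sum_congr rfl
    intro φ _
    simp
  exact_mod_cast h2

/-- the index of the kernel divides `|K : X| - 1` -/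
theorem frob_index_dvd (K X : Subgroup L) [hK : K.Normal] [hX : X.Normal]
    (hfree : ∀ g : L, g ∉ K → ∀ k ∈ K, g * k = k * g → k = 1) :
    K.index ∣ X.relIndex K - 1 := by
  classical
  have hsum := frob_sum_sq K X hfree
  have hepos : 0 < K.index := Nat.pos_of_ne_zero Subgroup.index_ne_zero_of_finite
  set a : (L → ℂ) → ℕ := fun φ => Cfsg.charDegree φ / K.index with ha
  have hdeg : ∀ φ ∈ indAbove K X, Cfsg.charDegree φ = K.index * a φ := by
    intro φ hφ
    unfold indAbove at hφ
    obtain ⟨θ, hθ, rfl⟩ := Finset.mem_image.mp hφ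
    obtain ⟨h0, -, -⟩ := (mem_irrAboveFn K X θ).mp hθ
    have := charDegree_indFun_normal K θ (IsIrrCharacter.isCharacter h0)
    rw [ha]
    show _ = K.index * (Cfsg.charDegree (Cfsg.indFun K θ) / K.index)
    rw [this, Nat.mul_div_cancel_left _ hepos]
  have h1 : ∑ φ ∈ indAbove K X, Cfsg.charDegree φ ^ 2 =
      K.index * (K.index * ∑ φ ∈ indAbove K X, a φ ^ 2) := by
    rw [Finset.mul_sum, Finset.mul_sum]
    apply Finset.sum_congr rfl
    intro φ hφ
    rw [hdeg φ hφ]
    ring
  rw [h1] at hsum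
  have h2 := Nat.eq_of_mul_eq_mul_left hepos hsum
  exact Dvd.intro _ h2

/-- when `K / B` is abelian, all members of `S(B)` have degree `|L : K|`, and their number is
`(|K : B| - 1) / |L : K|` -/
theorem frob_card_linear (K B : Subgroup L) [hK : K.Normal] [hB : B.Normal]
    (hfree : ∀ g : L, g ∉ K → ∀ k ∈ K, g * k = k * g → k = 1) (hBK : B ≤ K)
    (hab : ∀ x ∈ K, ∀ y ∈ K, x * y * x⁻¹ * y⁻¹ ∈ B) :
    (∀ φ ∈ indAbove K B, Cfsg.charDegree φ = K.index) ∧
      (indAbove K B).card * K.index = B.relIndex K - 1 := by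
  classical
  have hsum := frob_sum_sq K B hfree
  have hepos : 0 < K.index := Nat.pos_of_ne_zero Subgroup.index_ne_zero_of_finite
  have hdeg : ∀ φ ∈ indAbove K B, Cfsg.charDegree φ = K.index := by
    intro φ hφ
    unfold indAbove at hφ
    obtain ⟨θ, hθ, rfl⟩ := Finset.mem_image.mp hφ
    obtain ⟨h0, -, -⟩ := (mem_irrAboveFn K B θ).mp hθ
    have hbound := charDegree_sq_le K B K K le_rfl le_rfl hBK hab θ hθ
    have hKpos : 0 < Nat.card K := Nat.card_pos
    have h1 : Cfsg.charDegree θ ^ 2 ≤ 1 := by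
      have h2 : Cfsg.charDegree θ ^ 2 * (Nat.card K * Nat.card K) ≤ 1 * (Nat.card K * Nat.card K) := by
        rw [one_mul, ← mul_assoc, ← sq]
        exact hbound
      exact Nat.le_of_mul_le_mul_right h2 (Nat.mul_pos hKpos hKpos)
    have h3 : 0 < Cfsg.charDegree θ := by
      obtain ⟨n, hn, hn1⟩ := IsIrrCharacter.apply_one_pos h0
      have h4 := charDegree_cast_of_isCharacter (IsIrrCharacter.isCharacter h0)
      rw [hn1] at h4
      have h5 : Cfsg.charDegree θ = n := by exact_mod_cast h4
      omega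
    have h6 : Cfsg.charDegree θ = 1 := by nlinarith
    rw [charDegree_indFun_normal K θ (IsIrrCharacter.isCharacter h0), h6, mul_one]
  refine ⟨hdeg, ?_⟩
  have h1 : ∑ φ ∈ indAbove K B, Cfsg.charDegree φ ^ 2 =
      K.index * ((indAbove K B).card * K.index) := by
    rw [Finset.sum_congr rfl (fun φ hφ => by rw [hdeg φ hφ]), Finset.sum_const, smul_eq_mul]
    ring
  rw [h1] at hsum
  exact Nat.eq_of_mul_eq_mul_left hepos hsum

end Cfsg.Agent.Helper6
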