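import Mathlib
import Cfsg.Agent.Helper1.ThompsonFPF2
import Cfsg.Agent.Helper1.HallNilp
import Cfsg.Agent.Helper6.Coh63

/-!
# Group theory of Frobenius kernels used for Feit's coherence theorem
-/

set_option autoImplicit false
set_option linter.style.haveILetI false

namespace Cfsg.Agent.Helper6

open scoped commutatorElement

universe u

section hall

variable {K : Type u} [Group K] [Finite K]

omit [Finite K] in
/-- a normal Hall subgroup contains every element whose order divides its order -/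
theorem hall_mem_of_orderOf_dvd (Q₀ : Subgroup K) [Q₀.Normal]
    (hcop : (Nat.card Q₀).Coprime Q₀.index) (x : K) (hx : orderOf x ∣ Nat.card Q₀) :
    x ∈ Q₀ := by
  set o : ℕ := orderOf (QuotientGroup.mk' Q₀ x) with ho
  have h1 : o ∣ Nat.card Q₀ := (orderOf_map_dvd (QuotientGroup.mk' Q₀) x).trans hx
  have h2 : o ∣ Q₀.index := by
    rw [Subgroup.index_eq_card]
    exact orderOf_dvd_natCard _
  have h3 : o = 1 := Nat.Coprime.eq_one_of_dvd (Nat.Coprime.coprime_dvd_left h1 hcop) h2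
  have h4 : QuotientGroup.mk' Q₀ x = 1 := orderOf_eq_one_iff.mp h3
  exact (QuotientGroup.eq_one_iff x).mp h4

/-- a nilpotent group which is not of prime power order is the product of two nontrivial normal
Hall subgroups -/
theorem exists_normal_hall_pair [hnil : Group.IsNilpotent K]
    (hnp : ¬ ∃ p : ℕ, p.Prime ∧ ∃ m : ℕ, Nat.card K = p ^ m) :
    ∃ P Q : Subgroup K, P.Normal ∧ Q.Normal ∧ P ≠ ⊥ ∧ Q ≠ ⊥ ∧ P ⊓ Q = ⊥ ∧ P ⊔ Q = ⊤ ∧
      (Nat.card P).Coprime P.index ∧ (Nat.card Q).Coprime Q.index := by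
  classical
  have hcard1 : Nat.card K ≠ 1 := by
    intro h
    exact hnp ⟨2, Nat.prime_two, 0, by rw [h, pow_zero]⟩
  set p : ℕ := (Nat.card K).minFac with hp
  have hpp : p.Prime := Nat.minFac_prime hcard1
  haveI : Fact p.Prime := ⟨hpp⟩
  have hpdvd : p ∣ Nat.card K := Nat.minFac_dvd _
  let P₀ : Sylow p K := default
  haveI hPn : (P₀ : Subgroup K).Normal := inferInstance
  have hPcop : (Nat.card (P₀ : Subgroup K)).Coprime (P₀ : Subgroup K).index :=
    Sylow.card_coprime_index P₀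
  obtain ⟨Q₀, hQ₀⟩ := Subgroup.exists_right_complement'_of_coprime hPcop
  have hcardQ : Nat.card Q₀ = (P₀ : Subgroup K).index := hQ₀.symm.index_eq_card.symm
  have hidxQ : Q₀.index = Nat.card (P₀ : Subgroup K) := hQ₀.index_eq_card
  have hQcop : (Nat.card Q₀).Coprime Q₀.index := by
    rw [hcardQ, hidxQ]
    exact hPcop.symm
  haveI hQn : Q₀.Normal := Cfsg.Agent.Helper1.normal_of_hall_of_nilpotent Q₀ hQcop
  refine ⟨P₀, Q₀, hPn, hQn, ?_, ?_, hQ₀.disjoint.eq_bot, hQ₀.sup_eq_top, hPcop, hQcop⟩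
  · intro h
    have h1 : Nat.card (P₀ : Subgroup K) = 1 := by
      rw [h]
      exact Subgroup.card_bot
    have h2 := Sylow.card_eq_multiplicity P₀
    rw [h1] at h2
    have h3 : 0 < (Nat.card K).factorization p :=
      (hpp.factorization_pos_of_dvd Nat.card_pos.ne' hpdvd)
    have h4 : 1 < p ^ (Nat.card K).factorization p := Nat.one_lt_pow h3.ne' hpp.one_lt
    omega
  · intro h
    have h1 : Q₀.index = Nat.card K := by
      rw [h]
      exact Subgroup.index_bot
    rw [hidxQ, Sylow.card_eq_multiplicity P₀] at h1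
    exact hnp ⟨p, hpp, _, h1.symm⟩

end hall

variable {L : Type u} [Group L] [Finite L]

omit [Finite L] in
/-- a normal Hall subgroup of a normal subgroup is normal in the whole group -/
theorem map_normal_of_hall (K : Subgroup L) [hK : K.Normal] (Q₀ : Subgroup K) [Q₀.Normal]
    (hcop : (Nat.card Q₀).Coprime Q₀.index) : (Q₀.map K.subtype).Normal := by
  refine ⟨fun y hy g => ?_⟩
  rw [Subgroup.mem_map] at hy ⊢
  obtain ⟨q, hq, rfl⟩ := hy
  have hmem : g * (q : L) * g⁻¹ ∈ K := hK.conj_mem _ q.2 g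
  refine ⟨⟨g * (q : L) * g⁻¹, hmem⟩, ?_, rfl⟩
  apply hall_mem_of_orderOf_dvd Q₀ hcop
  have h1 : orderOf (⟨g * (q : L) * g⁻¹, hmem⟩ : K) = orderOf q := by
    rw [← Subgroup.orderOf_coe, ← Subgroup.orderOf_coe]
    show orderOf (g * (q : L) * g⁻¹) = orderOf (q : L)
    have := (MulAut.conj g).orderOf_eq (q : L)
    rw [MulAut.conj_apply] at this
    exact this
  rw [h1]
  exact Subgroup.orderOf_dvd_natCard Q₀ hq

/-- the decomposition of a nilpotent normal subgroup, not of prime power order, into two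
nontrivial subgroups normal in the whole group -/
theorem exists_hall_decomp (K : Subgroup L) [hK : K.Normal] (hnil : Group.IsNilpotent K)
    (hnp : ¬ ∃ p : ℕ, p.Prime ∧ ∃ m : ℕ, Nat.card K = p ^ m) :
    ∃ P Q : Subgroup L, P.Normal ∧ Q.Normal ∧ P ≠ ⊥ ∧ Q ≠ ⊥ ∧ P ⊓ Q = ⊥ ∧ P ⊔ Q = K := by
  obtain ⟨P₀, Q₀, hPn, hQn, hP1, hQ1, hinf, hsup, hPcop, hQcop⟩ := exists_normal_hall_pair hnp
  haveI := hPn
  haveI := hQn
  refine ⟨P₀.map K.subtype, Q₀.map K.subtype, map_normal_of_hall K P₀ hPcop,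
    map_normal_of_hall K Q₀ hQcop, ?_, ?_, ?_, ?_⟩
  · intro h
    exact hP1 ((Subgroup.map_eq_bot_iff_of_injective _ K.subtype_injective).mp h)
  · intro h
    exact hQ1 ((Subgroup.map_eq_bot_iff_of_injective _ K.subtype_injective).mp h)
  · rw [← Subgroup.map_inf _ _ _ K.subtype_injective, hinf, Subgroup.map_bot]
  · rw [← Subgroup.map_sup, hsup, ← MonoidHom.range_eq_map, Subgroup.range_subtype]

/-- the kernel of a Frobenius group is nilpotent (Thompson) -/
theorem frob_kernel_nilpotent (K : Subgroup L) [hK : K.Normal] (hK1 : K ≠ ⊥) (hK2 : K ≠ ⊤)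
    (hC : ∀ h ∈ K, h ≠ 1 → Subgroup.centralizer ({h} : Set L) ≤ K) :
    Group.IsNilpotent K := by
  classical
  have hidx1 : K.index ≠ 1 := fun h => hK2 (Subgroup.index_eq_one.mp h)
  set r : ℕ := K.index.minFac with hr
  have hrp : r.Prime := Nat.minFac_prime hidx1
  haveI : Fact r.Prime := ⟨hrp⟩
  have hrdvd : r ∣ Nat.card (L ⧸ K) := by
    rw [← Subgroup.index_eq_card]
    exact Nat.minFac_dvd _
  obtain ⟨q, hq⟩ := exists_prime_orderOf_dvd_card' r hrdvd
  obtain ⟨x, rfl⟩ := QuotientGroup.mk_surjective q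
  have hxK : x ∉ K := by
    intro h
    have h1 : (QuotientGroup.mk x : L ⧸ K) = 1 := (QuotientGroup.eq_one_iff x).mpr h
    rw [h1, orderOf_one] at hq
    exact hrp.one_lt.ne hq
  have hxrK : x ^ r ∈ K := by
    apply (QuotientGroup.eq_one_iff (x ^ r)).mp
    rw [QuotientGroup.mk_pow, ← hq]
    exact pow_orderOf_eq_one _
  have hxr : x ^ r = 1 := by
    by_contra hne
    apply hxK
    apply hC (x ^ r) hxrK hne
    rw [Subgroup.mem_centralizer_iff]
    intro h hh
    rw [Set.mem_singleton_iff] at hh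
    rw [hh]
    exact ((Commute.refl x).pow_left r).eq
  obtain ⟨k₀, hk₀K, hk₀1⟩ : ∃ k₀ : L, k₀ ∈ K ∧ k₀ ≠ 1 := by
    obtain ⟨a, ha⟩ := Subgroup.ne_bot_iff_exists_ne_one.mp hK1
    exact ⟨(a : L), a.2, fun h => ha (Subtype.ext h)⟩
  have hfix : ∀ k : K, (MulAut.conjNormal x : MulAut K) k = k → k = 1 := by
    intro k hk
    by_contra hk1
    apply hxK
    have hk1' : (k : L) ≠ 1 := fun h => hk1 (Subtype.ext h)
    apply hC (k : L) k.2 hk1'
    rw [Subgroup.mem_centralizer_iff]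
    intro h hh
    rw [Set.mem_singleton_iff] at hh
    rw [hh]
    have h2 := congrArg Subtype.val hk
    rw [MulAut.conjNormal_apply] at h2
    calc (k : L) * x = (x * (k : L) * x⁻¹) * x := by rw [h2]
      _ = x * (k : L) := by group
  set φ : MulAut K := MulAut.conjNormal x with hφ
  have hφr : φ ^ r = 1 := by
    rw [hφ, ← map_pow, hxr, map_one]
  have hφ1 : φ ≠ 1 := by
    intro h
    have h1 : φ ⟨k₀, hk₀K⟩ = ⟨k₀, hk₀K⟩ := by rw [h]; rfl
    have h2 := hfix ⟨k₀, hk₀K⟩ h1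
    exact hk₀1 (congrArg Subtype.val h2)
  have hord : orderOf φ = r := orderOf_eq_prime hφr hφ1
  exact Cfsg.Agent.Helper1.TFPF.thompson_fpf φ (fun k hk => hfix k hk) r hrp hord

omit [Finite L] in
/-- in a nilpotent normal subgroup `K`, a proper subgroup `X` normal in the whole group satisfies
`X ⊔ ⁅K, K⁆ < K` -/
theorem sup_commutator_self_lt (K X : Subgroup L) [hK : K.Normal] [hX : X.Normal]
    [hnil : Group.IsNilpotent K] (hXK : X < K) : X ⊔ ⁅K, K⁆ < K :=
  sup_commutator_lt X K K hXK le_rfl inferInstance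

/-- a nontrivial subgroup of a nilpotent normal subgroup `K`, normal in the whole group, contains
a nontrivial subgroup normal in the whole group and central in `K` -/
theorem exists_central_normal (K : Subgroup L) [hK : K.Normal] [hnil : Group.IsNilpotent K] :
    ∀ n : ℕ, ∀ Y : Subgroup L, Y.Normal → Y ≤ K → Y ≠ ⊥ → Nat.card Y ≤ n →
      ∃ Z : Subgroup L, Z.Normal ∧ Z ≤ Y ∧ Z ≠ ⊥ ∧ ∀ z ∈ Z, ∀ k ∈ K, z * k * z⁻¹ * k⁻¹ = 1 := by
  intro n
  induction n with
  | zero =>
    intro Y _ _ _ hcard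
    have : 0 < Nat.card Y := Nat.card_pos
    omega
  | succ n ih =>
    intro Y hYn hYK hY1 hcard
    haveI := hYn
    by_cases hc : ⁅Y, K⁆ = ⊥
    · refine ⟨Y, hYn, le_rfl, hY1, ?_⟩
      intro z hz k hk
      have h1 : ⁅z, k⁆ ∈ ⁅Y, K⁆ := Subgroup.commutator_mem_commutator hz hk
      rw [hc, Subgroup.mem_bot, commutatorElement_def] at h1
      exact h1
    · haveI hcn : (⁅Y, K⁆).Normal := Subgroup.commutator_normal Y K
      have hlt : ⊥ ⊔ ⁅Y, K⁆ < Y :=
        sup_commutator_lt ⊥ Y K (bot_lt_iff_ne_bot.mpr hY1) hYK inferInstance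
      rw [bot_sup_eq] at hlt
      have hcardlt : Nat.card (⁅Y, K⁆ : Subgroup L) < Nat.card Y := by
        have hfin : (Y : Set L).Finite := Set.toFinite _
        have hss : ((⁅Y, K⁆ : Subgroup L) : Set L) ⊂ (Y : Set L) := hlt
        have := Set.ncard_lt_ncard hss hfin
        rwa [← Nat.card_coe_set_eq, ← Nat.card_coe_set_eq] at this
      obtain ⟨Z, hZn, hZle, hZ1, hZc⟩ := ih ⁅Y, K⁆ hcn (hlt.le.trans hYK) hc (by omega)
      exact ⟨Z, hZn, hZle.trans hlt.le, hZ1, hZc⟩

end Cfsg.Agent.Helper6
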