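import Mathlib
import Cfsg.Prelude.Def_Characters
import Cfsg.Prelude.Def_OddOrderChar
import Cfsg.Agent.Helper6.FeitCohA
import Cfsg.Agent.Helper6.FeitCohC
import Cfsg.Agent.Helper6.FeitCohD
import Cfsg.Agent.Helper6.FeitCohE

/-!
# Feit's coherence theorem for Frobenius groups
-/

set_option autoImplicit false
set_option linter.style.haveILetI false

namespace Cfsg.Agent.Helper6

open scoped ComplexConjugate
open scoped commutatorElement

universe u v

theorem arith_feit1 (e u : ℕ) (hu : 4 * e ^ 2 + 2 ≤ u) : 4 * e ^ 2 * u < (u - 1) ^ 2 := by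
  have h1 : 1 ≤ u := by omega
  zify [h1]
  have h2 : (4 * (e : ℤ) ^ 2 + 2) ≤ u := by exact_mod_cast hu
  nlinarith [mul_nonneg (le_trans (by positivity : (0 : ℤ) ≤ 4 * (e : ℤ) ^ 2 + 2) h2)
    (sub_nonneg.mpr h2)]

theorem arith_feit2 (e u b : ℕ) (he : 1 ≤ e) (hu : e + 1 ≤ u) (hb : e + 1 ≤ b) :
    4 * e ^ 2 * u < (b * u - 1) ^ 2 := by
  have h1 : e * (u + 1) ≤ b * u - 1 := by
    have h2 : (e + 1) * u ≤ b * u := Nat.mul_le_mul_right u hb
    have h3 : e * (u + 1) + 1 ≤ (e + 1) * u := by nlinarith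
    omega
  have h4 : (e * (u + 1)) ^ 2 ≤ (b * u - 1) ^ 2 := Nat.pow_le_pow_left h1 2
  refine lt_of_lt_of_le ?_ h4
  have h5 : 2 ≤ u := by omega
  have h6 : 4 * u < (u + 1) ^ 2 := by nlinarith
  have h7 : 0 < e ^ 2 := by positivity
  calc 4 * e ^ 2 * u = e ^ 2 * (4 * u) := by ring
    _ < e ^ 2 * (u + 1) ^ 2 := Nat.mul_lt_mul_of_pos_left h6 h7
    _ = (e * (u + 1)) ^ 2 := by ring

variable {L : Type u} [Group L] [Fintype L] {G : Type v} [Group G] [Fintype G]

/-- the index of a proper normal subgroup of the kernel in the kernel is at least `e + 1` -/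
theorem frob_relIndex_ge (K X : Subgroup L) [hK : K.Normal] [hX : X.Normal]
    (hfree : ∀ g : L, g ∉ K → ∀ k ∈ K, g * k = k * g → k = 1) (hXK : ¬ K ≤ X) :
    K.index + 1 ≤ X.relIndex K := by
  obtain ⟨c, hc⟩ := frob_index_dvd K X hfree
  have h1 : X.relIndex K ≠ 1 := fun h => hXK (Subgroup.relIndex_eq_one.mp h)
  have h2 : 1 ≤ X.relIndex K := by
    haveI : X.IsFiniteRelIndex K := Subgroup.isFiniteRelIndex_of_finiteIndex
    exact Nat.one_le_iff_ne_zero.mpr Subgroup.relIndex_ne_zero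
  have h3 : c ≠ 0 := by
    intro h
    rw [h, mul_zero] at hc
    omega
  have h4 : K.index ≤ K.index * c := Nat.le_mul_of_pos_right _ (Nat.pos_of_ne_zero h3)
  omega

/-- the index of one normal subgroup in another inside the kernel is at least `e + 1` -/
theorem frob_relIndex_ge' (K X Y : Subgroup L) [hK : K.Normal] [hX : X.Normal] [hY : Y.Normal]
    (hfree : ∀ g : L, g ∉ K → ∀ k ∈ K, g * k = k * g → k = 1) (hXY : X ≤ Y) (hYK : Y ≤ K)
    (hne : ¬ Y ≤ X) : K.index + 1 ≤ X.relIndex Y := by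
  obtain ⟨c, hc⟩ := frob_index_dvd K X hfree
  obtain ⟨c', hc'⟩ := frob_index_dvd K Y hfree
  have hmul : X.relIndex Y * Y.relIndex K = X.relIndex K :=
    Subgroup.relIndex_mul_relIndex X Y K hXY hYK
  have h1 : X.relIndex Y ≠ 1 := fun h => hne (Subgroup.relIndex_eq_one.mp h)
  have h2 : 1 ≤ X.relIndex Y := by
    haveI : X.IsFiniteRelIndex Y := Subgroup.isFiniteRelIndex_of_finiteIndex
    exact Nat.one_le_iff_ne_zero.mpr Subgroup.relIndex_ne_zero
  have h2' : 1 ≤ Y.relIndex K := by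
    haveI : Y.IsFiniteRelIndex K := Subgroup.isFiniteRelIndex_of_finiteIndex
    exact Nat.one_le_iff_ne_zero.mpr Subgroup.relIndex_ne_zero
  set a := X.relIndex Y with ha
  set b := Y.relIndex K with hb
  set e := K.index with he
  have h3 : a * b - 1 = a * (b - 1) + (a - 1) := by
    have : a * b = a * (b - 1) + a := by
      conv_lhs => rw [show b = (b - 1) + 1 by omega]
      ring
    omega
  have h4 : e ∣ a - 1 := by
    have h5 : e ∣ a * b - 1 := by rw [hmul]; exact ⟨c, hc⟩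
    have h6 : e ∣ a * (b - 1) := Dvd.dvd.mul_left ⟨c', hc'⟩ a
    rw [h3] at h5
    exact (Nat.dvd_add_right h6).mp h5
  obtain ⟨c'', hc''⟩ := h4
  have h7 : c'' ≠ 0 := by
    intro h
    rw [h, mul_zero] at hc''
    omega
  have h8 : e ≤ e * c'' := Nat.le_mul_of_pos_right _ (Nat.pos_of_ne_zero h7)
  omega

/-- the base of the induction: `S(B)` is coherent when `K / B` is abelian and large enough -/
theorem frob_base_coherent (K B : Subgroup L) [hK : K.Normal] [hB : B.Normal]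
    (hfree : ∀ g : L, g ∉ K → ∀ k ∈ K, g * k = k * g → k = 1) (hBK : B ≤ K)
    (hab : ∀ x ∈ K, ∀ y ∈ K, x * y * x⁻¹ * y⁻¹ ∈ B) (hbig : 2 * K.index + 1 ≤ B.relIndex K)
    (τ : (L → ℂ) → (G → ℂ))
    (hτ : Cfsg.IsLinearIsometryOn (Cfsg.zspanOn (Cfsg.inducedIrrAbove K ⊥) {1}ᶜ) τ)
    (hτ1 : ∀ α ∈ Cfsg.zspanOn (Cfsg.inducedIrrAbove K ⊥) {1}ᶜ, τ α 1 = 0) :
    Cfsg.IsCoherent (Cfsg.inducedIrrAbove K B) {1}ᶜ τ := by
  classical
  obtain ⟨hdeg, hcard⟩ := frob_card_linear K B hfree hBK hab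
  have hepos : 0 < K.index := Nat.pos_of_ne_zero Subgroup.index_ne_zero_of_finite
  have hsub : (↑(indAbove K B) : Set (L → ℂ)) ⊆ Cfsg.inducedIrrAbove K ⊥ := by
    rw [coe_indAbove]
    exact inducedIrrAbove_anti K bot_le
  have hirr : ∀ ξ ∈ indAbove K B, Cfsg.IsIrrCharacter L ξ := fun ξ hξ =>
    frob_irr K hfree ξ (hsub (Finset.mem_coe.mpr hξ))
  have hcard2 : 2 ≤ (indAbove K B).card := by
    by_contra hlt
    have h1 : (indAbove K B).card ≤ 1 := by omega
    have h2 : (indAbove K B).card * K.index ≤ 1 * K.index := Nat.mul_le_mul_right _ h1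
    omega
  have hdeg' : ∀ ξ ∈ indAbove K B, ∀ η ∈ indAbove K B, ξ 1 = η 1 := by
    intro ξ hξ η hη
    rw [← charDegree_cast_of_isCharacter (IsIrrCharacter.isCharacter (hirr ξ hξ)),
      ← charDegree_cast_of_isCharacter (IsIrrCharacter.isCharacter (hirr η hη)), hdeg ξ hξ,
      hdeg η hη]
  have h := coherent_uniform_irr (indAbove K B) hirr hdeg' hcard2 τ
    (isLinearIsometryOn_mono (fun α hα => zspanOn_mono hsub _ hα) τ hτ)
    (fun α hα => hτ1 α (zspanOn_mono hsub _ hα))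
  rw [coe_indAbove] at h
  exact h

set_option maxHeartbeats 3200000 in
/-- Feit's coherence theorem for Frobenius groups -/
theorem feit_coherence (K : Subgroup L) [hK : K.Normal] (hK1 : K ≠ ⊥) (hK2 : K ≠ ⊤)
    (hC : ∀ h ∈ K, h ≠ 1 → Subgroup.centralizer ({h} : Set L) ≤ K)
    (he : Nat.card K ≠ K.index + 1) (τ : (L → ℂ) → (G → ℂ))
    (hτ : Cfsg.IsLinearIsometryOn (Cfsg.zspanOn (Cfsg.inducedIrrAbove K ⊥) {1}ᶜ) τ)
    (hτ1 : ∀ α ∈ Cfsg.zspanOn (Cfsg.inducedIrrAbove K ⊥) {1}ᶜ, τ α 1 = 0) :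
    Cfsg.IsCoherent (Cfsg.inducedIrrAbove K ⊥) {1}ᶜ τ ∨
      ∃ p : ℕ, p.Prime ∧ (∃ m : ℕ, Nat.card K = p ^ m) ∧ ¬ IsMulCommutative K ∧
        (⁅K, K⁆.subgroupOf K).index ≤ 4 * K.index ^ 2 + 1 := by
  classical
  have hfree := frob_free K hC
  have hirr := frob_irr K hfree
  haveI hnil : Group.IsNilpotent K := frob_kernel_nilpotent K hK1 hK2 hC
  have hsolv : Group.IsSolvable K := inferInstance
  have hepos : 0 < K.index := Nat.pos_of_ne_zero Subgroup.index_ne_zero_of_finite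
  set e : ℕ := K.index with hedef
  set K' : Subgroup L := ⁅K, K⁆ with hK'
  haveI hK'n : K'.Normal := Subgroup.commutator_normal K K
  have hK'K : K' ≤ K := Subgroup.commutator_le_right K K
  have habK' : ∀ x ∈ K, ∀ y ∈ K, x * y * x⁻¹ * y⁻¹ ∈ K' := by
    intro x hx y hy
    rw [← commutatorElement_def]
    exact Subgroup.commutator_mem_commutator hx hy
  set m : ℕ := K'.relIndex K with hm
  by_cases hbig : 4 * e ^ 2 + 2 ≤ m
  · -- large abelianization
    left
    have hbase := frob_base_coherent K K' hfree hK'K habK' (by nlinarith) τ hτ hτ1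
    refine coherent_descent_irr K hsolv hirr τ hτ hτ1 ⊥ K' ⊥ bot_le hK'K bot_le inferInstance
      ?_ hbase ?_
    · intro z hz k _
      rw [Subgroup.mem_bot] at hz
      rw [hz, Subgroup.mem_bot]
      group
    · intro Y hYn _ hYK'
      haveI := hYn
      rw [sup_bot_eq]
      apply arith_feit1
      have h1 : Y.relIndex K' * K'.relIndex K = Y.relIndex K :=
        Subgroup.relIndex_mul_relIndex Y K' K hYK' hK'K
      have h2 : 1 ≤ Y.relIndex K' := by
        haveI : Y.IsFiniteRelIndex K' := Subgroup.isFiniteRelIndex_of_finiteIndex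
        exact Nat.one_le_iff_ne_zero.mpr Subgroup.relIndex_ne_zero
      calc 4 * e ^ 2 + 2 ≤ m := hbig
        _ = 1 * K'.relIndex K := (one_mul _).symm
        _ ≤ Y.relIndex K' * K'.relIndex K := Nat.mul_le_mul_right _ h2
        _ = Y.relIndex K := h1
  push Not at hbig
  by_cases hcomm : IsMulCommutative K
  · -- abelian kernel
    left
    have hab : ∀ x ∈ K, ∀ y ∈ K, x * y * x⁻¹ * y⁻¹ ∈ (⊥ : Subgroup L) := by
      intro x hx y hy
      rw [Subgroup.mem_bot]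
      have h1 : (⟨x, hx⟩ : K) * ⟨y, hy⟩ = ⟨y, hy⟩ * ⟨x, hx⟩ := hcomm.is_comm.comm _ _
      have h2 : x * y = y * x := congrArg Subtype.val h1
      rw [h2]
      group
    have hcardK : 2 ≤ Nat.card K := by
      have h1 : Nat.card K ≠ 1 := by
        intro h
        exact hK1 (Subgroup.card_eq_one.mp h)
      have h2 : 0 < Nat.card K := Nat.card_pos
      omega
    have hdvd := frob_index_dvd K ⊥ hfree
    rw [Subgroup.relIndex_bot_left] at hdvd
    obtain ⟨c, hc⟩ := hdvd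
    have hc2 : 2 ≤ c := by
      by_contra hlt
      have h1 : c = 0 ∨ c = 1 := by omega
      rcases h1 with h1 | h1
      · rw [h1, mul_zero] at hc
        omega
      · rw [h1, mul_one] at hc
        apply he
        omega
    apply frob_base_coherent K ⊥ hfree bot_le hab ?_ τ hτ hτ1
    rw [Subgroup.relIndex_bot_left]
    have : 2 * K.index ≤ K.index * c := by
      rw [mul_comm]
      exact Nat.mul_le_mul_left _ hc2
    omega
  by_cases hp : ∃ p : ℕ, p.Prime ∧ ∃ k : ℕ, Nat.card K = p ^ k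
  · -- the exceptional case
    right
    obtain ⟨p, hpp, k, hk⟩ := hp
    refine ⟨p, hpp, ⟨k, hk⟩, hcomm, ?_⟩
    have h1 : (K'.subgroupOf K).index = m := rfl
    rw [h1]
    omega
  -- two coprime factors
  left
  obtain ⟨P, Q, hPn, hQn, hP1, hQ1, hPQ, hsup⟩ := exists_hall_decomp K hnil hp
  haveI := hPn
  haveI := hQn
  have hPK : P ≤ K := hsup ▸ le_sup_left
  have hQK : Q ≤ K := hsup ▸ le_sup_right
  set M₁ : Subgroup L := ⁅Q, K⁆ with hM₁
  haveI hM₁n : M₁.Normal := Subgroup.commutator_normal Q K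
  have hM₁Q : M₁ < Q := by
    have h := sup_commutator_lt ⊥ Q K (bot_lt_iff_ne_bot.mpr hQ1) hQK
      (inferInstance : Group.IsNilpotent (↥K ⧸ (⊥ : Subgroup L).subgroupOf K))
    rwa [bot_sup_eq] at h
  have hM₁K : M₁ ≤ K := hM₁Q.le.trans hQK
  have hM₁K' : M₁ ≤ K' := Subgroup.commutator_mono hQK le_rfl
  -- the key non-containments
  have hnot : ¬ Q ≤ M₁ ⊔ P := by
    intro h
    apply not_le_of_gt hM₁Q
    intro q hq
    have h1 : q ∈ ((M₁ ⊔ P : Subgroup L) : Set L) := h hq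
    rw [Subgroup.mul_normal M₁ P, Set.mem_mul] at h1
    obtain ⟨a, ha, x, hx, rfl⟩ := h1
    have hxQ : x ∈ Q := by
      have : x = a⁻¹ * (a * x) := by group
      rw [this]
      exact Q.mul_mem (Q.inv_mem (hM₁Q.le ha)) hq
    have hx1 : x ∈ P ⊓ Q := ⟨hx, hxQ⟩
    rw [hPQ, Subgroup.mem_bot] at hx1
    rw [hx1, mul_one]
    exact ha
  have hK'le : K' ≤ M₁ ⊔ P := by
    rw [hK', Subgroup.commutator_le]
    intro g₁ hg₁ g₂ hg₂
    have h1 : g₁ ∈ ((P ⊔ Q : Subgroup L) : Set L) := by rw [hsup]; exact hg₁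
    rw [Subgroup.mul_normal P Q, Set.mem_mul] at h1
    obtain ⟨a, ha, b, hb, rfl⟩ := h1
    have h2 : ⁅a * b, g₂⁆ = (a * ⁅b, g₂⁆ * a⁻¹) * ⁅a, g₂⁆ := by
      simp only [commutatorElement_def]
      group
    rw [h2]
    apply Subgroup.mul_mem
    · apply (le_sup_left : M₁ ≤ M₁ ⊔ P)
      exact hM₁n.conj_mem _ (Subgroup.commutator_mem_commutator hb hg₂) a
    · apply (le_sup_right : P ≤ M₁ ⊔ P)
      rw [commutatorElement_def]
      have h3 : a * g₂ * a⁻¹ * g₂⁻¹ = a * (g₂ * a⁻¹ * g₂⁻¹) := by group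
      rw [h3]
      exact P.mul_mem ha (hPn.conj_mem _ (P.inv_mem ha) g₂)
  have hQK' : ¬ Q ≤ K' := fun h => hnot (h.trans hK'le)
  have hM₁P : ¬ K ≤ M₁ ⊔ P := fun h => hnot (hQK.trans h)
  have hQltK : Q < K := by
    refine lt_of_le_of_ne hQK ?_
    intro h
    apply hP1
    have h1 : P ≤ P ⊓ Q := le_inf le_rfl (h ▸ hPK)
    rw [hPQ] at h1
    exact le_bot_iff.mp h1
  have hK'Q : K' ⊔ Q < K := by
    have h := sup_commutator_self_lt K Q hQltK
    rwa [sup_comm] at h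
  haveI hK'Qn : (K' ⊔ Q).Normal := Subgroup.sup_normal K' Q
  -- the size of the abelianization
  have hmbig : (e + 1) * (e + 1) ≤ m := by
    have h1 : K'.relIndex (K' ⊔ Q) * (K' ⊔ Q).relIndex K = K'.relIndex K :=
      Subgroup.relIndex_mul_relIndex K' (K' ⊔ Q) K le_sup_left hK'Q.le
    have h2 : e + 1 ≤ K'.relIndex (K' ⊔ Q) :=
      frob_relIndex_ge' K K' (K' ⊔ Q) hfree le_sup_left hK'Q.le
        (fun h => hQK' (le_sup_right.trans h))
    have h3 : e + 1 ≤ (K' ⊔ Q).relIndex K :=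
      frob_relIndex_ge K (K' ⊔ Q) hfree (not_le_of_gt hK'Q)
    rw [hm, ← h1]
    exact Nat.mul_le_mul h2 h3
  have hbase := frob_base_coherent K K' hfree hK'K habK' (by nlinarith) τ hτ hτ1
  -- first stage
  have hstage1 : Cfsg.IsCoherent (Cfsg.inducedIrrAbove K M₁) {1}ᶜ τ := by
    refine coherent_descent_irr K hsolv hirr τ hτ hτ1 M₁ K' Q hM₁K' hK'K hQK inferInstance
      ?_ hbase ?_
    · intro z hz k hk
      rw [← commutatorElement_def]
      exact Subgroup.commutator_mem_commutator hz hk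
    · intro Y hYn hM₁Y hYK'
      haveI := hYn
      haveI hYQn : (Y ⊔ Q).Normal := Subgroup.sup_normal Y Q
      have hYQK : Y ⊔ Q ≤ K := sup_le (hYK'.trans hK'K) hQK
      have hu : e + 1 ≤ (Y ⊔ Q).relIndex K := by
        apply frob_relIndex_ge K (Y ⊔ Q) hfree
        intro h
        exact not_le_of_gt hK'Q (h.trans (sup_le_sup_right hYK' Q))
      have hb : e + 1 ≤ Y.relIndex (Y ⊔ Q) :=
        frob_relIndex_ge' K Y (Y ⊔ Q) hfree le_sup_left hYQK
          (fun h => hQK' ((le_sup_right.trans h).trans hYK'))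
      have hmul : Y.relIndex (Y ⊔ Q) * (Y ⊔ Q).relIndex K = Y.relIndex K :=
        Subgroup.relIndex_mul_relIndex Y (Y ⊔ Q) K le_sup_left hYQK
      rw [← hmul]
      exact arith_feit2 e _ _ hepos hu hb
  -- second stage
  obtain ⟨Z₂, hZn, hZP, hZ1, hZc⟩ := exists_central_normal K (Nat.card P) P hPn hPK hP1 le_rfl
  haveI := hZn
  refine coherent_descent_irr K hsolv hirr τ hτ hτ1 ⊥ M₁ Z₂ bot_le hM₁K (hZP.trans hPK)
    inferInstance ?_ hstage1 ?_
  · intro z hz k hk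
    rw [hZc z hz k hk]
    exact Subgroup.one_mem _
  · intro Y hYn _ hYM₁
    haveI := hYn
    haveI hYZn : (Y ⊔ Z₂).Normal := Subgroup.sup_normal Y Z₂
    have hYZK : Y ⊔ Z₂ ≤ K := sup_le (hYM₁.trans hM₁K) (hZP.trans hPK)
    have hu : e + 1 ≤ (Y ⊔ Z₂).relIndex K := by
      apply frob_relIndex_ge K (Y ⊔ Z₂) hfree
      intro h
      exact hM₁P (h.trans (sup_le_sup hYM₁ hZP))
    have hb : e + 1 ≤ Y.relIndex (Y ⊔ Z₂) := by
      apply frob_relIndex_ge' K Y (Y ⊔ Z₂) hfree le_sup_left hYZK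
      intro h
      apply hZ1
      have h1 : Z₂ ≤ P ⊓ Q := le_inf hZP (((le_sup_right.trans h).trans hYM₁).trans hM₁Q.le)
      rw [hPQ] at h1
      exact le_bot_iff.mp h1
    have hmul : Y.relIndex (Y ⊔ Z₂) * (Y ⊔ Z₂).relIndex K = Y.relIndex K :=
      Subgroup.relIndex_mul_relIndex Y (Y ⊔ Z₂) K le_sup_left hYZK
    rw [← hmul]
    exact arith_feit2 e _ _ hepos hu hb

end Cfsg.Agent.Helper6
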