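import Mathlib
import Cfsg.Prelude.Def_Characters
import Cfsg.Prelude.Def_Blocks
import Cfsg.Agent.Helper6.ProjTrace3
import Cfsg.Agent.Helper6.BlockUnion
import Cfsg.Agent.Helper6.Induced
import Cfsg.Agent.Helper6.Linear

/-!
# Character values at `x y` and `y` are congruent for a commuting `p`-element `x`
-/

set_option autoImplicit false
set_option linter.style.haveILetI false

namespace Cfsg.Agent.Helper6

open Module
open scoped ComplexConjugate

universe u

variable {G : Type u} [Group G] {M : Ideal Cfsg.AlgInt}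

/-- Commuting elements of coprime orders lie in the cyclic group generated by their product. -/
theorem mem_zpowers_mul_of_coprime (x y : G) (hc : x * y = y * x)
    (hcop : Nat.Coprime (orderOf y) (orderOf x)) :
    x ∈ Subgroup.zpowers (x * y) ∧ y ∈ Subgroup.zpowers (x * y) := by
  have hcomm : Commute x y := hc
  have h1 : (x * y) ^ orderOf y = x ^ orderOf y := by
    rw [hcomm.mul_pow, pow_orderOf_eq_one, mul_one]
  obtain ⟨m, hm⟩ := exists_pow_eq_self_of_coprime hcop
  have hx : x ∈ Subgroup.zpowers (x * y) := by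
    have h0 : ((x * y) ^ orderOf y) ^ m ∈ Subgroup.zpowers (x * y) :=
      Subgroup.pow_mem _ (Subgroup.npow_mem_zpowers (x * y) _) _
    rwa [h1, hm] at h0
  refine ⟨hx, ?_⟩
  have h2 : x⁻¹ * (x * y) ∈ Subgroup.zpowers (x * y) :=
    Subgroup.mul_mem _ (Subgroup.inv_mem _ hx) (Subgroup.mem_zpowers _)
  have h3 : x⁻¹ * (x * y) = y := by group
  rwa [h3] at h2

/-- `χ(xy) ≡ χ(y)` modulo the local ideal when `x` is a `p`-element commuting with the
`p`-regular element `y`. -/
theorem char_mul_sub_memLocalIdeal [Finite G] (hM : M.IsMaximal) (p : ℕ) (hp : p.Prime)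
    (hpM : (p : Cfsg.AlgInt) ∈ M) {χ : G → ℂ} (hχ : Cfsg.IsCharacter G χ) (x y : G)
    (hc : x * y = y * x) (hx : ∃ k : ℕ, orderOf x = p ^ k) (hy : ¬ p ∣ orderOf y) :
    Cfsg.MemLocalIdeal M (χ (x * y) - χ y) := by
  classical
  obtain ⟨k, hk⟩ := hx
  have hcop : Nat.Coprime (orderOf y) (orderOf x) := by
    rw [hk]
    apply Nat.Coprime.pow_right
    exact ((Nat.Prime.coprime_iff_not_dvd hp).mpr hy).symm
  obtain ⟨hxC, hyC⟩ := mem_zpowers_mul_of_coprime x y hc hcop
  set C : Subgroup G := Subgroup.zpowers (x * y) with hC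
  haveI : Fintype C := Fintype.ofFinite _
  haveI : Fintype (C →* ℂˣ) := Fintype.ofFinite _
  have hab : ∀ a b : C, a * b = b * a := by
    intro a b
    haveI : IsCyclic C := by rw [hC]; infer_instance
    letI := IsCyclic.commGroup (α := C)
    exact mul_comm a b
  have hres : Cfsg.IsCharacter C (fun c : C => χ c) := IsCharacter.restrict C hχ
  have hexp := abelian_expansion hab (fun c : C => χ c)
  have hnat : ∀ lam : C →* ℂˣ, ∃ n : ℕ, Cfsg.classInner (fun c : C => χ c)
      (fun a => ((lam a : ℂˣ) : ℂ)) = n :=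
    fun lam => classInner_char_char_nat hres (IsIrrCharacter.isCharacter (isIrrCharacter_of_hom lam))
  choose m hm using hnat
  have hval : ∀ c : C, χ c = ∑ lam : C →* ℂˣ, (m lam : ℂ) * ((lam c : ℂˣ) : ℂ) := by
    intro c
    have := congrFun hexp c
    rw [Finset.sum_apply] at this
    simp only [Pi.smul_apply, smul_eq_mul, hm] at this
    exact this
  set xC : C := ⟨x, hxC⟩ with hxCdef
  set yC : C := ⟨y, hyC⟩ with hyCdef
  have h1 : χ (x * y) = ∑ lam : C →* ℂˣ, (m lam : ℂ) * ((lam (xC * yC) : ℂˣ) : ℂ) :=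
    hval (xC * yC)
  have h2 : χ y = ∑ lam : C →* ℂˣ, (m lam : ℂ) * ((lam yC : ℂˣ) : ℂ) := hval yC
  rw [h1, h2, ← Finset.sum_sub_distrib]
  apply MemLocalIdeal.sum hM
  intro lam _
  have h3 : (m lam : ℂ) * ((lam (xC * yC) : ℂˣ) : ℂ) - (m lam : ℂ) * ((lam yC : ℂˣ) : ℂ) =
      ((m lam : ℂ) * ((lam yC : ℂˣ) : ℂ)) * (((lam xC : ℂˣ) : ℂ) - 1) := by
    rw [map_mul, Units.val_mul]
    ring
  rw [h3]
  apply MemLocalIdeal.mul_left hM
  · apply memLocalRing_of_isIntegral hM
    apply IsIntegral.mul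
    · exact isIntegral_algebraMap (R := ℤ) (A := ℂ) (x := (m lam : ℤ)) |>
        fun h => by simpa using h
    · exact isIntegral_hom_apply lam yC
  · apply memLocalIdeal_sub_one_of_pow hM p hp hpM _ k
    rw [← Units.val_pow_eq_pow_val, ← map_pow]
    have : xC ^ p ^ k = 1 := by
      apply Subtype.ext
      rw [Subgroup.coe_pow, Subgroup.coe_one, ← hk]
      exact pow_orderOf_eq_one x
    rw [this, map_one, Units.val_one]

end Cfsg.Agent.Helper6
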