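import Mathlib
import Cfsg.Prelude.Def_Characters
import Cfsg.Prelude.Def_Blocks
import Cfsg.Agent.Helper6.CharCongr
import Cfsg.Agent.Helper6.DegreeDvd
import Cfsg.Agent.Helper6.RepEigen

/-!
# `p`-power congruences for character values; existence of `p`-modular ideals
-/

set_option autoImplicit false
set_option linter.style.haveILetI false

namespace Cfsg.Agent.Helper6

open Module
open scoped ComplexConjugate

universe u

variable {G : Type u} [Group G]

theorem natCast_prime_mem_nonunits (p : ℕ) (hp : p.Prime) :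
    (p : Cfsg.AlgInt) ∈ nonunits Cfsg.AlgInt := by
  intro hu
  obtain ⟨w, hw⟩ := hu.exists_right_inv
  have h1 : ((1 : ℕ) : ℂ) = (p : ℂ) * (w : ℂ) := by
    have := congrArg (fun z : Cfsg.AlgInt => (z : ℂ)) hw
    simpa using this.symm
  have := nat_dvd_of_isIntegral 1 p hp.ne_zero (w : ℂ) ((mem_integralClosure_iff ℤ ℂ).mp w.2) h1
  exact hp.one_lt.ne' (Nat.dvd_one.mp this)

theorem IsCharacter.isIntegral_value [Finite G] {χ : G → ℂ} (hχ : Cfsg.IsCharacter G χ) (g : G) :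
    IsIntegral ℤ (χ g) := by
  obtain ⟨n, σ, rfl⟩ := hχ
  exact isIntegral_char σ g

/-- There is a `p`-modular maximal ideal of the ring of algebraic integers. -/
theorem exists_isPModular (p : ℕ) (hp : p.Prime) :
    ∃ M : Ideal Cfsg.AlgInt, Cfsg.IsPModular p M := by
  have hne : Ideal.span {(p : Cfsg.AlgInt)} ≠ ⊤ := by
    rw [Ne, Ideal.span_singleton_eq_top]
    exact natCast_prime_mem_nonunits p hp
  obtain ⟨M, hM, hle⟩ := Ideal.exists_le_maximal _ hne
  exact ⟨M, hp, hM, hle (Ideal.mem_span_singleton_self _)⟩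

/-- `χ(uv)^(p^a) ≡ χ(v)^(p^a)` modulo `p` for a `p`-element `u` with `u^(p^a) = 1` commuting
with `v`. -/
theorem char_pow_sub_pow [Finite G] (p : ℕ) [hp : Fact p.Prime] {χ : G → ℂ}
    (hχ : Cfsg.IsCharacter G χ) (u v : G) (hc : Commute u v) (hu : ∃ k : ℕ, orderOf u = p ^ k)
    (hv : ¬ p ∣ orderOf v) (a : ℕ) (hua : u ^ (p ^ a) = 1) :
    ∃ γ : Cfsg.AlgInt, χ (u * v) ^ (p ^ a) - χ v ^ (p ^ a) = (p : ℂ) * (γ : ℂ) := by
  classical
  obtain ⟨k, hk⟩ := hu
  have hcop : Nat.Coprime (orderOf v) (orderOf u) := by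
    rw [hk]
    apply Nat.Coprime.pow_right
    exact ((Nat.Prime.coprime_iff_not_dvd hp.out).mpr hv).symm
  obtain ⟨huC, hvC⟩ := mem_zpowers_mul_of_coprime u v hc.eq hcop
  set C : Subgroup G := Subgroup.zpowers (u * v) with hC
  haveI : Fintype C := Fintype.ofFinite _
  haveI : Fintype (C →* ℂˣ) := Fintype.ofFinite _
  have hab : ∀ a b : C, a * b = b * a := by
    intro a b
    haveI : IsCyclic C := by rw [hC]; infer_instance
    letI := IsCyclic.commGroup (α := C)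
    exact mul_comm a b
  have hres : Cfsg.IsCharacter C (fun c : C => χ c) := IsCharacter.restrict C hχ
  have hexp := abelian_expansion hab (fun c : C => χ c)
  have hnat : ∀ lam : C →* ℂˣ, ∃ n : ℕ, Cfsg.classInner (fun c : C => χ c)
      (fun a => ((lam a : ℂˣ) : ℂ)) = n :=
    fun lam => classInner_char_char_nat hres (IsIrrCharacter.isCharacter (isIrrCharacter_of_hom lam))
  choose m hm using hnat
  have hval : ∀ c : C, χ c = ∑ lam : C →* ℂˣ, (m lam : ℂ) * ((lam c : ℂˣ) : ℂ) := by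
    intro c
    have := congrFun hexp c
    rw [Finset.sum_apply] at this
    simp only [Pi.smul_apply, smul_eq_mul, hm] at this
    exact this
  set uC : C := ⟨u, huC⟩ with huCdef
  set vC : C := ⟨v, hvC⟩ with hvCdef
  haveI : CharP (Cfsg.AlgInt ⧸ (Ideal.span ({(p : Cfsg.AlgInt)} : Set Cfsg.AlgInt))) p :=
    CharP.quotient Cfsg.AlgInt p (natCast_prime_mem_nonunits p hp.out)
  let Z : (C →* ℂˣ) → Cfsg.AlgInt := fun lam =>
    ⟨((lam (uC * vC) : ℂˣ) : ℂ), (mem_integralClosure_iff ℤ ℂ).mpr (isIntegral_hom_apply lam _)⟩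
  let W : (C →* ℂˣ) → Cfsg.AlgInt := fun lam =>
    ⟨((lam vC : ℂˣ) : ℂ), (mem_integralClosure_iff ℤ ℂ).mpr (isIntegral_hom_apply lam _)⟩
  have hZW : ∀ lam, Z lam ^ (p ^ a) = W lam ^ (p ^ a) := by
    intro lam
    apply Subtype.ext
    change ((lam (uC * vC) : ℂˣ) : ℂ) ^ (p ^ a) = ((lam vC : ℂˣ) : ℂ) ^ (p ^ a)
    rw [← Units.val_pow_eq_pow_val, ← Units.val_pow_eq_pow_val, ← map_pow, ← map_pow,
      (show Commute uC vC from hab uC vC).mul_pow]
    have : uC ^ p ^ a = 1 := by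
      apply Subtype.ext
      rw [Subgroup.coe_pow, Subgroup.coe_one]
      exact hua
    rw [this, one_mul]
  let S : Finset (Σ _ : C →* ℂˣ, ℕ) := Finset.univ.sigma (fun lam => Finset.range (m lam))
  have hsumS : ∀ f : (C →* ℂˣ) → Cfsg.AlgInt,
      ((∑ s ∈ S, f s.1 : Cfsg.AlgInt) : ℂ) = ∑ lam : C →* ℂˣ, (m lam : ℂ) * (f lam : ℂ) := by
    intro f
    rw [Finset.sum_sigma]
    push_cast
    apply Finset.sum_congr rfl
    intro lam _
    rw [Finset.sum_const, Finset.card_range, nsmul_eq_mul]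
  have hX : ((∑ s ∈ S, Z s.1 : Cfsg.AlgInt) : ℂ) = χ (u * v) := by
    rw [hsumS Z]
    exact (hval (uC * vC)).symm
  have hY : ((∑ s ∈ S, W s.1 : Cfsg.AlgInt) : ℂ) = χ v := by
    rw [hsumS W]
    exact (hval vC).symm
  have hquot : Ideal.Quotient.mk (Ideal.span ({(p : Cfsg.AlgInt)} : Set Cfsg.AlgInt))
      ((∑ s ∈ S, Z s.1) ^ (p ^ a)) =
      Ideal.Quotient.mk (Ideal.span ({(p : Cfsg.AlgInt)} : Set Cfsg.AlgInt))
      ((∑ s ∈ S, W s.1) ^ (p ^ a)) := by
    rw [map_pow, map_pow, map_sum, map_sum, sum_pow_char_pow, sum_pow_char_pow]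
    apply Finset.sum_congr rfl
    intro s _
    rw [← map_pow, ← map_pow, hZW]
  rw [Ideal.Quotient.eq, Ideal.mem_span_singleton'] at hquot
  obtain ⟨γ, hγ⟩ := hquot
  refine ⟨γ, ?_⟩
  have := congrArg (fun z : Cfsg.AlgInt => (z : ℂ)) hγ
  simp only [MulMemClass.coe_mul, AddSubgroupClass.coe_sub, SubmonoidClass.coe_pow] at this
  rw [hX, hY] at this
  rw [← this]
  simp [mul_comm]

end Cfsg.Agent.Helper6
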