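import Mathlib

/-!
# Sibley's congruence (Peterfalvi (6.7)), part A: free actions, arithmetic
-/

set_option autoImplicit false
set_option linter.style.haveILetI false

namespace Cfsg.Agent.Helper6

universe u v

/-- a sum of an invariant function over a finite set with a free action of a finite group is
`|P|` times a partial sum -/
theorem sum_eq_card_mul_sum_of_free {P : Type u} {α : Type v} [Group P] [Fintype P]
    [DecidableEq α] (act : P → α → α) (h1 : ∀ x, act 1 x = x)
    (hmul : ∀ s t x, act (s * t) x = act s (act t x)) (f : α → ℂ)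
    (hf : ∀ s x, f (act s x) = f x) :
    ∀ (N : ℕ) (X : Finset α), X.card ≤ N → (∀ s : P, ∀ x ∈ X, act s x ∈ X) →
      (∀ x ∈ X, ∀ s : P, act s x = x → s = 1) →
      ∃ T : Finset α, T ⊆ X ∧ ∑ x ∈ X, f x = (Fintype.card P : ℂ) * ∑ x ∈ T, f x := by
  classical
  intro N
  induction N with
  | zero =>
    intro X hX _ _
    have : X = ∅ := Finset.card_eq_zero.mp (by omega)
    subst this
    exact ⟨∅, Finset.Subset.refl _, by simp⟩
  | succ N ih =>
    intro X hX hstab hfree
    by_cases hXe : X = ∅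
    · subst hXe
      exact ⟨∅, Finset.Subset.refl _, by simp⟩
    obtain ⟨x₀, hx₀⟩ := Finset.nonempty_iff_ne_empty.mpr hXe
    set O : Finset α := (Finset.univ : Finset P).image (fun s => act s x₀) with hO
    have hOX : O ⊆ X := by
      intro y hy
      obtain ⟨s, -, rfl⟩ := Finset.mem_image.mp hy
      exact hstab s x₀ hx₀
    have hinj : Function.Injective (fun s : P => act s x₀) := by
      intro s t hst
      have h2 : act (t⁻¹ * s) x₀ = x₀ := by
        rw [hmul]
        have h3 : act s x₀ = act t x₀ := hst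
        rw [h3, ← hmul, inv_mul_cancel, h1]
      have h4 := hfree x₀ hx₀ _ h2
      exact (inv_mul_eq_one.mp h4).symm
    have hOcard : O.card = Fintype.card P := by
      rw [hO, Finset.card_image_of_injective _ hinj, Finset.card_univ]
    have hx₀O : x₀ ∈ O := by
      rw [hO]
      exact Finset.mem_image.mpr ⟨1, Finset.mem_univ _, h1 x₀⟩
    set X' := X \ O with hX'
    have hX'card : X'.card ≤ N := by
      have h2 : X'.card < X.card := by
        apply Finset.card_lt_card
        rw [Finset.ssubset_iff_of_subset Finset.sdiff_subset]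
        exact ⟨x₀, hx₀, fun h => (Finset.mem_sdiff.mp h).2 hx₀O⟩
      omega
    have hX'stab : ∀ s : P, ∀ x ∈ X', act s x ∈ X' := by
      intro s x hx
      obtain ⟨hxX, hxO⟩ := Finset.mem_sdiff.mp hx
      refine Finset.mem_sdiff.mpr ⟨hstab s x hxX, ?_⟩
      intro h
      apply hxO
      obtain ⟨t, -, ht⟩ := Finset.mem_image.mp h
      rw [hO]
      refine Finset.mem_image.mpr ⟨s⁻¹ * t, Finset.mem_univ _, ?_⟩
      show act (s⁻¹ * t) x₀ = x
      rw [hmul]
      have ht' : act t x₀ = act s x := ht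
      rw [ht', ← hmul, inv_mul_cancel, h1]
    have hX'free : ∀ x ∈ X', ∀ s : P, act s x = x → s = 1 := fun x hx =>
      hfree x (Finset.mem_sdiff.mp hx).1
    obtain ⟨T', hT'X', hT'⟩ := ih X' hX'card hX'stab hX'free
    have hx₀T' : x₀ ∉ T' := fun h => (Finset.mem_sdiff.mp (hT'X' h)).2 hx₀O
    refine ⟨insert x₀ T', ?_, ?_⟩
    · intro y hy
      rcases Finset.mem_insert.mp hy with rfl | hy
      · exact hx₀
      · exact (Finset.mem_sdiff.mp (hT'X' hy)).1
    · rw [Finset.sum_insert hx₀T', ← Finset.sum_sdiff hOX, ← hX', hT', mul_add]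
      have h5 : ∑ x ∈ O, f x = (Fintype.card P : ℂ) * f x₀ := by
        rw [hO, Finset.sum_image (fun s _ t _ hst => hinj hst)]
        simp only [hf, Finset.sum_const, Finset.card_univ, nsmul_eq_mul]
      rw [h5]
      ring

/-- the cardinality of a finite set with a free action is divisible by the group order -/
theorem card_dvd_card_of_free {P : Type u} {α : Type v} [Group P] [Fintype P]
    [DecidableEq α] (act : P → α → α) (h1 : ∀ x, act 1 x = x)
    (hmul : ∀ s t x, act (s * t) x = act s (act t x)) (X : Finset α)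
    (hstab : ∀ s : P, ∀ x ∈ X, act s x ∈ X)
    (hfree : ∀ x ∈ X, ∀ s : P, act s x = x → s = 1) :
    Fintype.card P ∣ X.card := by
  obtain ⟨T, -, hT⟩ := sum_eq_card_mul_sum_of_free act h1 hmul (fun _ => (1 : ℂ))
    (fun _ _ => rfl) X.card X le_rfl hstab hfree
  simp only [Finset.sum_const, nsmul_eq_mul, mul_one] at hT
  refine ⟨T.card, ?_⟩
  exact_mod_cast hT

/-- a rational algebraic integer in `ℂ` is an integer -/
theorem exists_int_of_isIntegral_eq_rat {z : ℂ} (hz : IsIntegral ℤ z) (q : ℚ) (hq : z = q) :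
    ∃ c : ℤ, z = c := by
  have h1 : IsIntegral ℤ (algebraMap ℚ ℂ q) := by
    rw [hq] at hz
    exact hz
  have h2 : IsIntegral ℤ q :=
    (isIntegral_algebraMap_iff (FaithfulSMul.algebraMap_injective ℚ ℂ)).mp h1
  obtain ⟨c, hc⟩ := IsIntegrallyClosed.isIntegral_iff.mp h2
  refine ⟨c, ?_⟩
  rw [hq, ← hc]
  simp

/-- the arithmetic at the end of Sibley's congruence -/
theorem arith_67 (n d c w h l : ℤ) (e1 : w * d = h * c) (e2 : n ∣ h - l)
    (e3 : n ∣ w ^ 2 * d - l ^ 2 * c) (e4 : n ∣ w ^ 2 * d - (h * d + (l ^ 2 - l) * c))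
    (e5 : IsCoprime n l) : n ∣ d - c := by
  obtain ⟨k, hk⟩ := e2
  have hh : h = l + n * k := by linarith
  have h3 : n ∣ l * (c * (w - l)) := by
    have h4 : l * (c * (w - l)) = (w ^ 2 * d - l ^ 2 * c) - n * (k * w * c) := by
      have : w ^ 2 * d = w * (h * c) := by rw [← e1]; ring
      rw [this, hh]
      ring
    rw [h4]
    exact dvd_sub e3 (Dvd.intro _ rfl)
  have h5 : n ∣ c * (w - l) := e5.dvd_of_dvd_mul_left h3
  have h6 : n ∣ l * (c * (w - l) - (d - c)) := by
    have h7 : l * (c * (w - l) - (d - c)) =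
        (w ^ 2 * d - (h * d + (l ^ 2 - l) * c)) - n * (k * w * c) + n * (k * d) := by
      have : w ^ 2 * d = w * (h * c) := by rw [← e1]; ring
      rw [this, hh]
      ring
    rw [h7]
    exact dvd_add (dvd_sub e4 (Dvd.intro _ rfl)) (Dvd.intro _ rfl)
  have h8 : n ∣ c * (w - l) - (d - c) := e5.dvd_of_dvd_mul_left h6
  have h9 : d - c = c * (w - l) - (c * (w - l) - (d - c)) := by ring
  rw [h9]
  exact dvd_sub h5 h8

end Cfsg.Agent.Helper6
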