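import Mathlib
import Cfsg.Prelude.Def_OddOrderLocal

/-!
# Sibley's congruence (Peterfalvi (6.7)), part B: a TI Sylow subgroup
-/

set_option autoImplicit false
set_option linter.style.haveILetI false

namespace Cfsg.Agent.Helper6

universe u

variable {G : Type u} [Group G]

/-- the centralizer of a non-identity element of a TI-subgroup lies in the normalizer -/
theorem ti_mem_normalizer_of_commute (P : Subgroup G) (hTI : Cfsg.IsTISubset (P : Set G))
    (t : G) (ht : t ∈ P) (ht1 : t ≠ 1) (g : G) (hg : g * t = t * g) :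
    g ∈ Subgroup.normalizer (P : Set G) := by
  by_contra hgN
  apply ht1
  apply hTI g hgN t ht
  rw [hg, mul_inv_cancel_right]
  exact ht

/-- fusion in a TI-subgroup is controlled by the normalizer -/
theorem ti_mem_normalizer_of_conj_mem (P : Subgroup G) (hTI : Cfsg.IsTISubset (P : Set G))
    (t : G) (ht : t ∈ P) (ht1 : t ≠ 1) (g : G) (hg : g * t * g⁻¹ ∈ P) :
    g ∈ Subgroup.normalizer (P : Set G) := by
  by_contra hgN
  exact ht1 (hTI g hgN t ht hg)

/-- a `p`-element normalizing a Sylow `p`-subgroup lies in it -/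
theorem mem_sylow_of_mem_normalizer (p : ℕ) [Fact p.Prime] (P : Sylow p G) (x : G)
    (hx : x ∈ Subgroup.normalizer ((P : Subgroup G) : Set G))
    (hxp : IsPGroup p (Subgroup.zpowers x)) : x ∈ (P : Subgroup G) := by
  have hle : Subgroup.zpowers x ≤ Subgroup.normalizer ((P : Subgroup G) : Set G) := by
    rw [Subgroup.zpowers_le]
    exact hx
  have hsup : IsPGroup p ((P : Subgroup G) ⊔ Subgroup.zpowers x : Subgroup G) :=
    IsPGroup.to_sup_of_normal_left' P.isPGroup' hxp hle
  have heq := P.is_maximal' hsup le_sup_left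
  have : x ∈ (P : Subgroup G) ⊔ Subgroup.zpowers x :=
    (le_sup_right : Subgroup.zpowers x ≤ _) (Subgroup.mem_zpowers x)
  rw [heq] at this
  exact this

/-- the cyclic group generated by a conjugate of an element of a `p`-group is a `p`-group -/
theorem isPGroup_zpowers_conj (p : ℕ) (P : Subgroup G) (hP : IsPGroup p P) (z : G) (hz : z ∈ P)
    (g : G) : IsPGroup p (Subgroup.zpowers (g * z * g⁻¹)) := by
  have h1 : IsPGroup p (Subgroup.zpowers z) :=
    hP.to_le (by rw [Subgroup.zpowers_le]; exact hz)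
  have h2 : Subgroup.zpowers (g * z * g⁻¹) =
      (Subgroup.zpowers z).map (MulAut.conj g).toMonoidHom := by
    rw [MonoidHom.map_zpowers]
    rfl
  rw [h2]
  exact h1.map _

/-- a conjugate of an element of `Z^#` commuting with a non-identity element of `P` lies in `Z` -/
theorem mem_of_conj_of_commute (p : ℕ) [Fact p.Prime] (P : Sylow p G)
    (hTI : Cfsg.IsTISubset ((P : Subgroup G) : Set G)) (Z : Subgroup G) (hZP : Z ≤ P)
    (hZn : ∀ x ∈ Subgroup.normalizer ((P : Subgroup G) : Set G), ∀ z ∈ Z, x * z * x⁻¹ ∈ Z)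
    (z : G) (hz : z ∈ Z) (hz1 : z ≠ 1) (g : G) (t : G) (ht : t ∈ (P : Subgroup G)) (ht1 : t ≠ 1)
    (hcomm : t * (g * z * g⁻¹) = (g * z * g⁻¹) * t) : g * z * g⁻¹ ∈ Z := by
  have hxN : g * z * g⁻¹ ∈ Subgroup.normalizer ((P : Subgroup G) : Set G) :=
    ti_mem_normalizer_of_commute (P : Subgroup G) hTI t ht ht1 _ hcomm.symm
  have hxP : g * z * g⁻¹ ∈ (P : Subgroup G) :=
    mem_sylow_of_mem_normalizer p P _ hxN
      (isPGroup_zpowers_conj p (P : Subgroup G) P.isPGroup' z (hZP hz) g)
  have hgN := ti_mem_normalizer_of_conj_mem (P : Subgroup G) hTI z (hZP hz) hz1 g hxP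
  exact hZn g hgN z hz

/-- in a TI-subgroup with normalizer of odd order, no non-identity element is conjugate to its
inverse -/
theorem not_isConj_inv_of_odd [Finite G] (P : Subgroup G) (hTI : Cfsg.IsTISubset (P : Set G))
    (hodd : Odd (Nat.card (Subgroup.normalizer (P : Set G)))) (z : G) (hz : z ∈ P)
    (hz1 : z ≠ 1) : ¬ IsConj z z⁻¹ := by
  intro hc
  obtain ⟨g, hg⟩ := isConj_iff.mp hc
  have hgN : g ∈ Subgroup.normalizer (P : Set G) :=
    ti_mem_normalizer_of_conj_mem P hTI z hz hz1 g (by rw [hg]; exact P.inv_mem hz)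
  have hzN : z ∈ Subgroup.normalizer (P : Set G) := Subgroup.le_normalizer hz
  -- g ^ 2 commutes with z
  have h2 : g ^ 2 * z * (g ^ 2)⁻¹ = z := by
    have : g ^ 2 * z * (g ^ 2)⁻¹ = g * (g * z * g⁻¹) * g⁻¹ := by
      rw [sq]; group
    rw [this, hg]
    have h3 : g * z⁻¹ * g⁻¹ = (g * z * g⁻¹)⁻¹ := by group
    rw [h3, hg, inv_inv]
  -- order of g is odd
  have hordg : Odd (orderOf g) := by
    have h3 : orderOf (⟨g, hgN⟩ : Subgroup.normalizer (P : Set G)) ∣
        Nat.card (Subgroup.normalizer (P : Set G)) := orderOf_dvd_natCard _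
    have h4 : orderOf (⟨g, hgN⟩ : Subgroup.normalizer (P : Set G)) = orderOf g :=
      Subgroup.orderOf_mk g hgN
    rw [h4] at h3
    exact Odd.of_dvd_nat hodd h3
  obtain ⟨k, hk⟩ := hordg
  have hgpow : (g ^ 2) ^ (k + 1) = g := by
    rw [← pow_mul]
    have : 2 * (k + 1) = orderOf g + 1 := by omega
    rw [this, pow_succ, pow_orderOf_eq_one, one_mul]
  have hcomm2 : Commute (g ^ 2) z := by
    have : g ^ 2 * z = z * g ^ 2 := by
      have h5 := congrArg (fun y => y * g ^ 2) h2
      simpa [mul_assoc] using h5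
    exact this
  have hcomm : Commute g z := by
    have := hcomm2.pow_left (k + 1)
    rwa [hgpow] at this
  have hzz : z = z⁻¹ := by
    rw [← hg, hcomm.eq, mul_inv_cancel_right]
  have hz2 : z ^ 2 = 1 := by
    rw [sq]
    nth_rewrite 2 [hzz]
    exact mul_inv_cancel z
  have hordz : orderOf z ∣ 2 := orderOf_dvd_of_pow_eq_one hz2
  have hordz' : Odd (orderOf z) := by
    have h3 : orderOf (⟨z, hzN⟩ : Subgroup.normalizer (P : Set G)) ∣
        Nat.card (Subgroup.normalizer (P : Set G)) := orderOf_dvd_natCard _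
    have h4 : orderOf (⟨z, hzN⟩ : Subgroup.normalizer (P : Set G)) = orderOf z :=
      Subgroup.orderOf_mk z hzN
    rw [h4] at h3
    exact Odd.of_dvd_nat hodd h3
  have : orderOf z = 1 := by
    rcases (Nat.dvd_prime Nat.prime_two).mp hordz with h | h
    · exact h
    · rw [h] at hordz'
      exact absurd hordz' (by decide)
  exact hz1 (orderOf_eq_one_iff.mp this)

end Cfsg.Agent.Helper6
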