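import Mathlib
import Cfsg.Prelude.Def_Characters
import Cfsg.Prelude.Def_OddOrderLocal
import Cfsg.Agent.Helper6.Sib67A
import Cfsg.Agent.Helper6.Sib67B
import Cfsg.Agent.Helper6.StructConst

/-!
# Sibley's congruence (Peterfalvi (6.7)), part C: counting pairs
-/

set_option autoImplicit false
set_option linter.style.haveILetI false

namespace Cfsg.Agent.Helper6

open scoped ComplexConjugate

universe u

variable {G : Type u} [Group G]

/-- the conjugation action of a subgroup on elements -/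
def cact (P : Subgroup G) (s : P) (x : G) : G := (s : G) * x * (s : G)⁻¹

/-- the conjugation action of a subgroup on pairs -/
def cact2 (P : Subgroup G) (s : P) (q : G × G) : G × G :=
  ((s : G) * q.1 * (s : G)⁻¹, (s : G) * q.2 * (s : G)⁻¹)

theorem cact_one (P : Subgroup G) (x : G) : cact P 1 x = x := by
  unfold cact
  simp

theorem cact_mul (P : Subgroup G) (s t : P) (x : G) : cact P (s * t) x = cact P s (cact P t x) := by
  unfold cact
  simp only [Subgroup.coe_mul, mul_inv_rev]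
  group

theorem cact2_one (P : Subgroup G) (q : G × G) : cact2 P 1 q = q := by
  unfold cact2
  simp

theorem cact2_mul (P : Subgroup G) (s t : P) (q : G × G) :
    cact2 P (s * t) q = cact2 P s (cact2 P t q) := by
  unfold cact2
  simp only [Subgroup.coe_mul, mul_inv_rev]
  apply Prod.ext <;> simp only <;> group

theorem cact2_mul_eq (P : Subgroup G) (s : P) (q : G × G) :
    (cact2 P s q).1 * (cact2 P s q).2 = (s : G) * (q.1 * q.2) * (s : G)⁻¹ := by
  unfold cact2
  simp only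
  group

section main

variable [Fintype G] (p : ℕ) [Fact p.Prime] (P : Sylow p G)
  (hTI : Cfsg.IsTISubset ((P : Subgroup G) : Set G)) (Z : Subgroup G) (hZP : Z ≤ P)
  (hZn : ∀ x ∈ Subgroup.normalizer ((P : Subgroup G) : Set G), ∀ z ∈ Z, x * z * x⁻¹ ∈ Z)

include hTI hZP hZn

/-- an element of a class meeting `Z^#` fixed by a non-identity element of `P` lies in `Z` -/
theorem mem_of_cact_eq (u : G) (hu : u ∈ Z) (hu1 : u ≠ 1) (x : G) (hx : IsConj u x)
    (s : (P : Subgroup G)) (hs : s ≠ 1) (hfix : cact (P : Subgroup G) s x = x) : x ∈ Z := by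
  obtain ⟨g, rfl⟩ := isConj_iff.mp hx
  have hs1 : (s : G) ≠ 1 := fun h => hs (Subtype.ext h)
  apply mem_of_conj_of_commute p P hTI Z hZP hZn u hu hu1 g (s : G) s.2 hs1
  unfold cact at hfix
  have := congrArg (fun y => y * (s : G)) hfix
  simpa [mul_assoc] using this

theorem cact_mem_iff (s : (P : Subgroup G)) (x : G) : cact (P : Subgroup G) s x ∈ Z ↔ x ∈ Z := by
  have hsN : (s : G) ∈ Subgroup.normalizer ((P : Subgroup G) : Set G) :=
    Subgroup.le_normalizer s.2
  constructor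
  · intro h
    have h2 := hZn (s : G)⁻¹ (Subgroup.inv_mem _ hsN) _ h
    unfold cact at h2
    have h3 : (s : G)⁻¹ * ((s : G) * x * (s : G)⁻¹) * ((s : G)⁻¹)⁻¹ = x := by group
    rwa [h3] at h2
  · intro h
    exact hZn (s : G) hsN x h

open Classical in
/-- the class of an element of `Z^#` has size congruent to its intersection with `Z` -/
theorem card_classFinset_modEq (u : G) (hu : u ∈ Z) (hu1 : u ≠ 1) :
    ∃ k : ℕ, (classFinset u).card =
      ((classFinset u).filter (fun x => x ∈ Z)).card + Nat.card (P : Subgroup G) * k := by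
  classical
  haveI : Fintype (P : Subgroup G) := Fintype.ofFinite _
  have h := card_dvd_card_of_free (cact (P : Subgroup G)) (cact_one _) (cact_mul _)
    ((classFinset u).filter (fun x => x ∉ Z)) ?_ ?_
  · obtain ⟨k, hk⟩ := h
    refine ⟨k, ?_⟩
    rw [Nat.card_eq_fintype_card, ← hk]
    exact (Finset.card_filter_add_card_filter_not (fun x => x ∈ Z)).symm
  · intro s x hx
    obtain ⟨hx1, hx2⟩ := Finset.mem_filter.mp hx
    refine Finset.mem_filter.mpr ⟨?_, ?_⟩
    · rw [mem_classFinset] at hx1 ⊢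
      exact hx1.trans (isConj_iff.mpr ⟨(s : G), rfl⟩)
    · rw [cact_mem_iff p P hTI Z hZP hZn]
      exact hx2
  · intro x hx s hfix
    obtain ⟨hx1, hx2⟩ := Finset.mem_filter.mp hx
    by_contra hs
    exact hx2 (mem_of_cact_eq p P hTI Z hZP hZn u hu hu1 x ((mem_classFinset u x).mp hx1) s hs hfix)

open Classical in
set_option maxHeartbeats 1600000 in
/-- the decomposition of the product of two classes meeting `Z^#` -/
theorem pairs_decomposition (u v : G) (hu : u ∈ Z) (hu1 : u ≠ 1) (hv : v ∈ Z) (hv1 : v ≠ 1)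
    (f : G → ℂ) (hf : Cfsg.IsClassFunction G f) :
    ∃ (k : ℕ) (T : Finset (G × G)),
      ((classFinset u ×ˢ classFinset v).filter
        (fun q => ∃ z' ∈ Z, z' ≠ 1 ∧ IsConj z' (q.1 * q.2))).card =
      ((classFinset u ×ˢ classFinset v).filter
        (fun q => q.1 ∈ Z ∧ q.2 ∈ Z ∧ q.1 * q.2 ≠ 1)).card + Nat.card (P : Subgroup G) * k ∧
      ∑ q ∈ classFinset u ×ˢ classFinset v, f (q.1 * q.2) =
        (((classFinset u ×ˢ classFinset v).filter (fun q => q.1 * q.2 = 1)).card : ℂ) * f 1 +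
        (Finset.sum ((classFinset u ×ˢ classFinset v).filter
          (fun q => ∃ z' ∈ Z, z' ≠ 1 ∧ IsConj z' (q.1 * q.2))) (fun q => f (q.1 * q.2))) +
        (Nat.card (P : Subgroup G) : ℂ) * ∑ q ∈ T, f (q.1 * q.2) := by
  classical
  haveI : Fintype (P : Subgroup G) := Fintype.ofFinite _
  set Pi := classFinset u ×ˢ classFinset v with hPi
  set PZ : G × G → Prop := fun q => ∃ z' ∈ Z, z' ≠ 1 ∧ IsConj z' (q.1 * q.2) with hPZ
  -- stability facts
  have hPi_stab : ∀ s : (P : Subgroup G), ∀ q ∈ Pi, cact2 (P : Subgroup G) s q ∈ Pi := by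
    intro s q hq
    rw [hPi, Finset.mem_product, mem_classFinset, mem_classFinset] at hq ⊢
    exact ⟨hq.1.trans (isConj_iff.mpr ⟨(s : G), rfl⟩), hq.2.trans (isConj_iff.mpr ⟨(s : G), rfl⟩)⟩
  have hPZ_stab : ∀ (s : (P : Subgroup G)) (q : G × G), PZ (cact2 (P : Subgroup G) s q) ↔ PZ q := by
    intro s q
    simp only [hPZ, cact2_mul_eq]
    constructor
    · rintro ⟨z', hz', hz'1, hc⟩
      refine ⟨z', hz', hz'1, hc.trans (isConj_iff.mpr ⟨(s : G)⁻¹, by group⟩)⟩
    · rintro ⟨z', hz', hz'1, hc⟩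
      exact ⟨z', hz', hz'1, hc.trans (isConj_iff.mpr ⟨(s : G), rfl⟩)⟩
  have hone_stab : ∀ (s : (P : Subgroup G)) (q : G × G),
      (cact2 (P : Subgroup G) s q).1 * (cact2 (P : Subgroup G) s q).2 = 1 ↔ q.1 * q.2 = 1 := by
    intro s q
    rw [cact2_mul_eq]
    constructor
    · intro h
      have := congrArg (fun y => (s : G)⁻¹ * y * (s : G)) h
      simpa [mul_assoc] using this
    · intro h
      rw [h]
      simp
  have hfix : ∀ q ∈ Pi, ∀ s : (P : Subgroup G), s ≠ 1 → cact2 (P : Subgroup G) s q = q →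
      q.1 ∈ Z ∧ q.2 ∈ Z := by
    intro q hq s hs hsq
    rw [hPi, Finset.mem_product, mem_classFinset, mem_classFinset] at hq
    have h1 : cact (P : Subgroup G) s q.1 = q.1 := congrArg Prod.fst hsq
    have h2 : cact (P : Subgroup G) s q.2 = q.2 := congrArg Prod.snd hsq
    exact ⟨mem_of_cact_eq p P hTI Z hZP hZn u hu hu1 q.1 hq.1 s hs h1,
      mem_of_cact_eq p P hTI Z hZP hZn v hv hv1 q.2 hq.2 s hs h2⟩
  have hZ_stab : ∀ (s : (P : Subgroup G)) (q : G × G),
      ((cact2 (P : Subgroup G) s q).1 ∈ Z ∧ (cact2 (P : Subgroup G) s q).2 ∈ Z) ↔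
        (q.1 ∈ Z ∧ q.2 ∈ Z) := by
    intro s q
    have h1 := cact_mem_iff p P hTI Z hZP hZn s q.1
    have h2 := cact_mem_iff p P hTI Z hZP hZn s q.2
    exact and_congr h1 h2
  have hinZ : ∀ q : G × G, q.1 ∈ Z → q.2 ∈ Z → (PZ q ↔ q.1 * q.2 ≠ 1) := by
    intro q h1 h2
    constructor
    · rintro ⟨z', -, hz'1, hc⟩ h
      rw [h] at hc
      exact hz'1 (isConj_one_left.mp hc)
    · intro h
      exact ⟨q.1 * q.2, Z.mul_mem h1 h2, h, IsConj.refl _⟩
  -- first claim
  have hcount : ∃ k : ℕ, (Pi.filter PZ).card =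
      (Pi.filter (fun q => q.1 ∈ Z ∧ q.2 ∈ Z ∧ q.1 * q.2 ≠ 1)).card +
        Nat.card (P : Subgroup G) * k := by
    have h := card_dvd_card_of_free (cact2 (P : Subgroup G)) (cact2_one _) (cact2_mul _)
      ((Pi.filter PZ).filter (fun q => ¬ (q.1 ∈ Z ∧ q.2 ∈ Z))) ?_ ?_
    · obtain ⟨k, hk⟩ := h
      refine ⟨k, ?_⟩
      rw [Nat.card_eq_fintype_card, ← hk]
      have h2 := Finset.card_filter_add_card_filter_not (s := Pi.filter PZ)
        (fun q => q.1 ∈ Z ∧ q.2 ∈ Z)
      rw [← h2]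
      congr 2
      ext q
      simp only [Finset.mem_filter]
      constructor
      · rintro ⟨⟨hq, hpz⟩, h1, h2⟩
        exact ⟨hq, h1, h2, (hinZ q h1 h2).mp hpz⟩
      · rintro ⟨hq, h1, h2, h3⟩
        exact ⟨⟨hq, (hinZ q h1 h2).mpr h3⟩, h1, h2⟩
    · intro s q hq
      simp only [Finset.mem_filter] at hq ⊢
      exact ⟨⟨hPi_stab s q hq.1.1, (hPZ_stab s q).mpr hq.1.2⟩,
        fun h => hq.2 ((hZ_stab s q).mp h)⟩
    · intro q hq s hsq
      simp only [Finset.mem_filter] at hq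
      by_contra hs
      exact hq.2 (hfix q hq.1.1 s hs hsq)
  obtain ⟨k, hk⟩ := hcount
  -- the free part
  set Po := Pi.filter (fun q => ¬ (q.1 * q.2 = 1) ∧ ¬ PZ q) with hPo
  have hfree := sum_eq_card_mul_sum_of_free (cact2 (P : Subgroup G)) (cact2_one _) (cact2_mul _)
    (fun q => f (q.1 * q.2)) (by
      intro s q
      show f ((cact2 (P : Subgroup G) s q).1 * (cact2 (P : Subgroup G) s q).2) = f (q.1 * q.2)
      rw [cact2_mul_eq]
      exact hf _ _) Po.card Po le_rfl ?_ ?_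
  · obtain ⟨T, -, hT⟩ := hfree
    refine ⟨k, T, hk, ?_⟩
    rw [Nat.card_eq_fintype_card, ← hT]
    have h1 := Finset.sum_filter_add_sum_filter_not Pi (fun q => q.1 * q.2 = 1)
      (fun q => f (q.1 * q.2))
    have h2 := Finset.sum_filter_add_sum_filter_not
      (Pi.filter (fun q => ¬ (q.1 * q.2 = 1))) PZ (fun q => f (q.1 * q.2))
    rw [← h1, ← h2]
    have h3 : ∑ q ∈ Pi.filter (fun q => q.1 * q.2 = 1), f (q.1 * q.2) =
        ((Pi.filter (fun q => q.1 * q.2 = 1)).card : ℂ) * f 1 := by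
      rw [Finset.sum_congr rfl (fun q hq => by rw [(Finset.mem_filter.mp hq).2]),
        Finset.sum_const, nsmul_eq_mul]
    have h4 : (Pi.filter (fun q => ¬ (q.1 * q.2 = 1))).filter PZ = Pi.filter PZ := by
      ext q
      simp only [Finset.mem_filter]
      constructor
      · rintro ⟨⟨hq, -⟩, hpz⟩
        exact ⟨hq, hpz⟩
      · rintro ⟨hq, hpz⟩
        refine ⟨⟨hq, ?_⟩, hpz⟩
        intro h
        obtain ⟨z', -, hz'1, hc⟩ := hpz
        rw [h] at hc
        exact hz'1 (isConj_one_left.mp hc)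
    have h5 : (Pi.filter (fun q => ¬ (q.1 * q.2 = 1))).filter (fun q => ¬ PZ q) = Po := by
      rw [hPo, Finset.filter_filter]
    rw [h3, h4, h5]
    ring
  · intro s q hq
    simp only [hPo, Finset.mem_filter] at hq ⊢
    exact ⟨hPi_stab s q hq.1, fun h => hq.2.1 ((hone_stab s q).mp h),
      fun h => hq.2.2 ((hPZ_stab s q).mp h)⟩
  · intro q hq s hsq
    simp only [hPo, Finset.mem_filter] at hq
    by_contra hs
    obtain ⟨h1, h2⟩ := hfix q hq.1 s hs hsq
    by_cases h3 : q.1 * q.2 = 1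
    · exact hq.2.1 h3
    · exact hq.2.2 ((hinZ q h1 h2).mpr h3)

end main

end Cfsg.Agent.Helper6
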