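import Mathlib
import Cfsg.Prelude.Def_Characters
import Cfsg.Prelude.Def_OddOrderLocal
import Cfsg.Agent.Helper6.Sib67C
import Cfsg.Agent.Helper6.Osima3
import Cfsg.Agent.Helper6.PowCongr

/-!
# Sibley's congruence (Peterfalvi (6.7)), part D: auxiliary counts
-/

set_option autoImplicit false
set_option linter.style.haveILetI false

namespace Cfsg.Agent.Helper6

open scoped ComplexConjugate

universe u

variable {G : Type u} [Group G]

/-- the sum of an irreducible character over the products of two classes -/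
theorem sum_classProduct_char [Fintype G] (χ : Cfsg.IrrCharacter G) (u v : G) :
    ∑ q ∈ classFinset u ×ˢ classFinset v, (χ : G → ℂ) (q.1 * q.2) =
      Cfsg.centralChar (χ : G → ℂ) u * Cfsg.centralChar (χ : G → ℂ) v * (χ : G → ℂ) 1 := by
  have hχ1 : (χ : G → ℂ) 1 ≠ 0 := IsIrrCharacter.apply_one_ne_zero χ.2
  rw [Finset.sum_product_right]
  simp only [sum_classFinset_char_mul]
  rw [← Finset.mul_sum, sum_classFinset_char]
  unfold Cfsg.centralChar
  field_simp

/-- if `n * β` is a rational integer for an algebraic integer `β` then `n` divides it -/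
theorem int_dvd_of_eq_mul_isIntegral (n : ℕ) (hn : n ≠ 0) (a : ℤ) (β : ℂ)
    (hβ : IsIntegral ℤ β) (h : (a : ℂ) = (n : ℂ) * β) : (n : ℤ) ∣ a := by
  have hn0 : (n : ℂ) ≠ 0 := by exact_mod_cast hn
  have hq : β = ((a : ℚ) / (n : ℚ) : ℚ) := by
    push_cast
    rw [h, mul_div_cancel_left₀ _ hn0]
  obtain ⟨b, hb⟩ := exists_int_of_isIntegral_eq_rat hβ _ hq
  refine ⟨b, ?_⟩
  have : (a : ℂ) = ((n : ℤ) * b : ℤ) := by
    rw [h, hb]
    push_cast
    ring
  exact_mod_cast this

theorem classFinset_inv_card [Fintype G] (z : G) :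
    (classFinset z⁻¹).card = (classFinset z).card := by
  apply Finset.card_bij (fun x _ => x⁻¹)
  · intro x hx
    rw [mem_classFinset] at hx ⊢
    obtain ⟨c, hc⟩ := isConj_iff.mp hx
    refine isConj_iff.mpr ⟨c, ?_⟩
    rw [← hc]
    group
  · intro x _ y _ hxy
    exact inv_injective hxy
  · intro y hy
    rw [mem_classFinset] at hy
    obtain ⟨c, hc⟩ := isConj_iff.mp hy
    refine ⟨y⁻¹, ?_, inv_inv y⟩
    rw [mem_classFinset]
    refine isConj_iff.mpr ⟨c, ?_⟩
    rw [← hc]
    group

open Classical in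
theorem classFinset_inv_filter_card [Fintype G] (Z : Subgroup G) (z : G) :
    ((classFinset z⁻¹).filter (fun x => x ∈ Z)).card =
      ((classFinset z).filter (fun x => x ∈ Z)).card := by
  apply Finset.card_bij (fun x _ => x⁻¹)
  · intro x hx
    rw [Finset.mem_filter, mem_classFinset] at hx ⊢
    obtain ⟨c, hc⟩ := isConj_iff.mp hx.1
    refine ⟨isConj_iff.mpr ⟨c, ?_⟩, Z.inv_mem hx.2⟩
    rw [← hc]
    group
  · intro x _ y _ hxy
    exact inv_injective hxy
  · intro y hy
    rw [Finset.mem_filter, mem_classFinset] at hy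
    obtain ⟨c, hc⟩ := isConj_iff.mp hy.1
    refine ⟨y⁻¹, ?_, inv_inv y⟩
    rw [Finset.mem_filter, mem_classFinset]
    refine ⟨isConj_iff.mpr ⟨c, ?_⟩, Z.inv_mem hy.2⟩
    rw [← hc]
    group

open Classical in
/-- the pairs with product one in `K × K⁻¹` -/
theorem card_pairs_one_inv [Fintype G] (z : G) :
    ((classFinset z ×ˢ classFinset z⁻¹).filter (fun q => q.1 * q.2 = 1)).card =
      (classFinset z).card := by
  symm
  apply Finset.card_bij (fun x _ => (x, x⁻¹))
  · intro x hx
    rw [Finset.mem_filter, Finset.mem_product, mem_classFinset, mem_classFinset]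
    rw [mem_classFinset] at hx
    refine ⟨⟨hx, ?_⟩, mul_inv_cancel x⟩
    obtain ⟨c, hc⟩ := isConj_iff.mp hx
    refine isConj_iff.mpr ⟨c, ?_⟩
    show c * z⁻¹ * c⁻¹ = x⁻¹
    rw [← hc]
    group
  · intro x _ y _ hxy
    exact congrArg Prod.fst hxy
  · intro q hq
    rw [Finset.mem_filter, Finset.mem_product] at hq
    refine ⟨q.1, hq.1.1, ?_⟩
    apply Prod.ext
    · rfl
    · show q.1⁻¹ = q.2
      exact inv_eq_of_mul_eq_one_right hq.2

open Classical in
/-- the pairs in `Z` with product one in `K × K⁻¹` -/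
theorem card_pairs_inZ_inv [Fintype G] (Z : Subgroup G) (z : G) :
    ((classFinset z ×ˢ classFinset z⁻¹).filter
        (fun q => q.1 ∈ Z ∧ q.2 ∈ Z ∧ q.1 * q.2 ≠ 1)).card +
      ((classFinset z).filter (fun x => x ∈ Z)).card =
    ((classFinset z).filter (fun x => x ∈ Z)).card *
      ((classFinset z).filter (fun x => x ∈ Z)).card := by
  have h1 : ((classFinset z ×ˢ classFinset z⁻¹).filter (fun q => q.1 ∈ Z ∧ q.2 ∈ Z)).card =
      ((classFinset z).filter (fun x => x ∈ Z)).card *
        ((classFinset z).filter (fun x => x ∈ Z)).card := by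
    have h2 : (classFinset z ×ˢ classFinset z⁻¹).filter (fun q => q.1 ∈ Z ∧ q.2 ∈ Z) =
        ((classFinset z).filter (fun x => x ∈ Z)) ×ˢ
          ((classFinset z⁻¹).filter (fun x => x ∈ Z)) := by
      ext q
      simp only [Finset.mem_filter, Finset.mem_product]
      tauto
    rw [h2, Finset.card_product, classFinset_inv_filter_card]
  rw [← h1]
  have h3 := Finset.card_filter_add_card_filter_not
    (s := (classFinset z ×ˢ classFinset z⁻¹).filter (fun q => q.1 ∈ Z ∧ q.2 ∈ Z))
    (fun q => q.1 * q.2 ≠ 1)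
  rw [← h3]
  congr 1
  · congr 1
    ext q
    simp only [Finset.mem_filter]
    tauto
  · apply Finset.card_bij (fun x _ => (x, x⁻¹))
    · intro x hx
      rw [Finset.mem_filter, mem_classFinset] at hx
      simp only [Finset.mem_filter, Finset.mem_product, mem_classFinset, not_not]
      refine ⟨⟨⟨hx.1, ?_⟩, hx.2, Z.inv_mem hx.2⟩, mul_inv_cancel x⟩
      obtain ⟨c, hc⟩ := isConj_iff.mp hx.1
      refine isConj_iff.mpr ⟨c, ?_⟩
      rw [← hc]
      group
    · intro x _ y _ hxy
      exact congrArg Prod.fst hxy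
    · intro q hq
      simp only [Finset.mem_filter, Finset.mem_product, not_not] at hq
      refine ⟨q.1, ?_, ?_⟩
      · rw [Finset.mem_filter]
        exact ⟨hq.1.1.1, hq.1.2.1⟩
      · apply Prod.ext
        · rfl
        · show q.1⁻¹ = q.2
          exact inv_eq_of_mul_eq_one_right hq.2

open Classical in
/-- the pairs in `Z` in `K × K` when `K ≠ K⁻¹` -/
theorem card_pairs_inZ_self [Fintype G] (Z : Subgroup G) (z : G) (hnc : ¬ IsConj z z⁻¹) :
    ((classFinset z ×ˢ classFinset z).filter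
        (fun q => q.1 ∈ Z ∧ q.2 ∈ Z ∧ q.1 * q.2 ≠ 1)).card =
    ((classFinset z).filter (fun x => x ∈ Z)).card *
      ((classFinset z).filter (fun x => x ∈ Z)).card := by
  have h2 : (classFinset z ×ˢ classFinset z).filter
      (fun q => q.1 ∈ Z ∧ q.2 ∈ Z ∧ q.1 * q.2 ≠ 1) =
      ((classFinset z).filter (fun x => x ∈ Z)) ×ˢ ((classFinset z).filter (fun x => x ∈ Z)) := by
    ext q
    simp only [Finset.mem_filter, Finset.mem_product, mem_classFinset]
    constructor
    · rintro ⟨⟨h1, h2⟩, h3, h4, -⟩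
      exact ⟨⟨h1, h3⟩, h2, h4⟩
    · rintro ⟨⟨h1, h3⟩, h2, h4⟩
      refine ⟨⟨h1, h2⟩, h3, h4, ?_⟩
      intro h5
      apply hnc
      have h6 : q.2 = q.1⁻¹ := (inv_eq_of_mul_eq_one_right h5).symm
      rw [h6] at h2
      obtain ⟨c, hc⟩ := isConj_iff.mp h1
      have h7 : IsConj z⁻¹ q.1⁻¹ := by
        refine isConj_iff.mpr ⟨c, ?_⟩
        rw [← hc]
        group
      exact h2.trans h7.symm
  rw [h2, Finset.card_product]

open Classical in
/-- the pairs with product one in `K × K` when `K ≠ K⁻¹` -/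
theorem card_pairs_one_self [Fintype G] (z : G) (hnc : ¬ IsConj z z⁻¹) :
    ((classFinset z ×ˢ classFinset z).filter (fun q => q.1 * q.2 = 1)).card = 0 := by
  rw [Finset.card_eq_zero, Finset.filter_eq_empty_iff]
  intro q hq h5
  rw [Finset.mem_product, mem_classFinset, mem_classFinset] at hq
  apply hnc
  have h6 : q.2 = q.1⁻¹ := (inv_eq_of_mul_eq_one_right h5).symm
  obtain ⟨c, hc⟩ := isConj_iff.mp hq.1
  have h7 : IsConj z⁻¹ q.1⁻¹ := by
    refine isConj_iff.mpr ⟨c, ?_⟩
    rw [← hc]
    group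
  have h2 := hq.2
  rw [h6] at h2
  exact h2.trans h7.symm

end Cfsg.Agent.Helper6
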