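import Mathlib
import Cfsg.Prelude.Def_Characters
import Cfsg.Prelude.Def_OddOrderLocal
import Cfsg.Agent.Helper6.Sib67D

/-!
# Sibley's congruence (Peterfalvi (6.7))
-/

set_option autoImplicit false
set_option linter.style.haveILetI false

namespace Cfsg.Agent.Helper6

open scoped ComplexConjugate

universe u

variable {G : Type u} [Group G]

/-- an irreducible character constant on `Z^#` takes a rational integer value there -/
theorem exists_int_of_const_on [Fintype G] (Z : Subgroup G) (hZ1 : Z ≠ ⊥) (ψ : G → ℂ)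
    (hψ : Cfsg.IsCharacter G ψ)
    (hconst : ∀ z ∈ Z, ∀ z' ∈ Z, z ≠ 1 → z' ≠ 1 → ψ z = ψ z') (z : G) (hz : z ∈ Z)
    (hz1 : z ≠ 1) : ∃ c : ℤ, ψ z = c := by
  classical
  haveI : Fintype Z := Fintype.ofFinite Z
  obtain ⟨d, hd⟩ := IsCharacter.apply_one hψ
  have hres : Cfsg.IsCharacter Z (fun y : Z => ψ y) := IsCharacter.restrict Z hψ
  have hone : Cfsg.IsCharacter Z (fun _ => (1 : ℂ)) :=
    IsIrrCharacter.isCharacter isIrrCharacter_one
  obtain ⟨m, hm⟩ := classInner_char_char_nat hres hone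
  rw [classInner_def] at hm
  simp only [map_one, mul_one] at hm
  have hZpos : 0 < Nat.card Z := Nat.card_pos
  have hZ0 : (Nat.card Z : ℂ) ≠ 0 := by exact_mod_cast hZpos.ne'
  have hsum : ∑ y : Z, ψ y = (Nat.card Z : ℂ) * m := by
    rw [← hm, ← mul_assoc, mul_inv_cancel₀ hZ0, one_mul]
  have hsum2 : ∑ y : Z, ψ y = (d : ℂ) + ((Nat.card Z : ℂ) - 1) * ψ z := by
    rw [← Finset.add_sum_erase Finset.univ (fun y : Z => ψ y) (Finset.mem_univ (1 : Z))]
    have h1 : ψ ((1 : Z) : G) = d := by rw [← hd]; rfl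
    rw [h1]
    congr 1
    have h2 : ∀ y ∈ (Finset.univ : Finset Z).erase 1, ψ (y : G) = ψ z := by
      intro y hy
      apply hconst (y : G) y.2 z hz _ hz1
      intro h
      exact (Finset.mem_erase.mp hy).1 (Subtype.ext h)
    rw [Finset.sum_congr rfl h2, Finset.sum_const,
      Finset.card_erase_of_mem (Finset.mem_univ _), Finset.card_univ, nsmul_eq_mul,
      Nat.card_eq_fintype_card]
    have : 1 ≤ Fintype.card Z := Fintype.card_pos
    rw [Nat.cast_sub this]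
    simp
  have hZgt : 1 < Nat.card Z := by
    haveI : Nontrivial Z := (Subgroup.nontrivial_iff_ne_bot Z).mpr hZ1
    exact Finite.one_lt_card
  have hZ1' : ((Nat.card Z : ℂ) - 1) ≠ 0 := by
    have : ((Nat.card Z : ℂ) - 1) = ((Nat.card Z - 1 : ℕ) : ℂ) := by
      rw [Nat.cast_sub hZgt.le]
      simp
    rw [this]
    have : Nat.card Z - 1 ≠ 0 := by omega
    exact_mod_cast this
  have hq : ψ z = (((Nat.card Z : ℚ) * m - d) / ((Nat.card Z : ℚ) - 1) : ℚ) := by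
    push_cast
    rw [eq_div_iff hZ1']
    have := hsum.symm.trans hsum2
    linear_combination (-1 : ℂ) * this
  exact exists_int_of_isIntegral_eq_rat (IsCharacter.isIntegral_value hψ z) _ hq

set_option maxHeartbeats 1600000 in
/-- Peterfalvi (6.7) -/
theorem sibley_congruence [Fintype G] (p : ℕ) [Fact p.Prime] (P : Sylow p G)
    (hTI : Cfsg.IsTISubset ((P : Subgroup G) : Set G))
    (hodd : Odd (Nat.card (Subgroup.normalizer ((P : Subgroup G) : Set G)))) (Z : Subgroup G)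
    (hZ1 : Z ≠ ⊥) (hZP : Z ≤ P)
    (hZn : ∀ x ∈ Subgroup.normalizer ((P : Subgroup G) : Set G), ∀ z ∈ Z, x * z * x⁻¹ ∈ Z)
    (hZc : ∀ z ∈ Z, ∀ y ∈ (P : Subgroup G), z * y = y * z) (ψ : G → ℂ)
    (hψ : Cfsg.IsIrrCharacter G ψ)
    (hconst : ∀ z ∈ Z, ∀ z' ∈ Z, z ≠ 1 → z' ≠ 1 → ψ z = ψ z') (z : G) (hz : z ∈ Z)
    (hz1 : z ≠ 1) :
    ∃ n d : ℤ, ψ z = n ∧ ψ 1 = d ∧ (Nat.card (P : Subgroup G) : ℤ) ∣ d - n := by
  classical
  have hψc := IsIrrCharacter.isCharacter hψ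
  have hψcf := IsCharacter.isClassFunction hψc
  obtain ⟨d, hd⟩ := IsCharacter.apply_one hψc
  have hd0 : (d : ℂ) ≠ 0 := by
    rw [← hd]
    exact IsIrrCharacter.apply_one_ne_zero hψ
  obtain ⟨c, hc⟩ := exists_int_of_const_on Z hZ1 ψ hψc hconst z hz hz1
  have hcZ : ∀ z' ∈ Z, z' ≠ 1 → ψ z' = c := fun z' h h1 => (hconst z' h z hz h1 hz1).trans hc
  have hzi : z⁻¹ ∈ Z := Z.inv_mem hz
  have hzi1 : z⁻¹ ≠ 1 := fun h => hz1 (inv_eq_one.mp h)
  have hnc : ¬ IsConj z z⁻¹ := not_isConj_inv_of_odd (P : Subgroup G) hTI hodd z (hZP hz) hz1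
  set n := Nat.card (P : Subgroup G) with hn
  have hnpos : 0 < n := Nat.card_pos
  set h := (classFinset z).card with hh
  set l := ((classFinset z).filter (fun x => x ∈ Z)).card with hl
  -- the central character values
  have hω : Cfsg.centralChar ψ z = (h : ℂ) * c / d := by
    unfold Cfsg.centralChar
    rw [hh, card_classFinset, hc, hd]
  have hω' : Cfsg.centralChar ψ z⁻¹ = (h : ℂ) * c / d := by
    unfold Cfsg.centralChar
    rw [hh, ← classFinset_inv_card, card_classFinset, hcZ z⁻¹ hzi hzi1, hd]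
  obtain ⟨w, hw⟩ : ∃ w : ℤ, Cfsg.centralChar ψ z = w := by
    apply exists_int_of_isIntegral_eq_rat (isIntegral_centralChar ⟨ψ, hψ⟩ z)
      (((h : ℚ) * c / d : ℚ))
    rw [hω]
    push_cast
    rfl
  have e1 : w * (d : ℤ) = (h : ℤ) * c := by
    have h1 : (w : ℂ) * d = (h : ℂ) * c := by
      rw [← hw, hω, div_mul_cancel₀ _ hd0]
    exact_mod_cast h1
  -- h ≡ l
  obtain ⟨k0, hk0⟩ := card_classFinset_modEq p P hTI Z hZP hZn z hz hz1
  -- coprimality
  have hcop : IsCoprime (n : ℤ) (l : ℤ) := by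
    rw [Nat.isCoprime_iff_coprime]
    have hPle : (P : Subgroup G) ≤ Subgroup.centralizer ({z} : Set G) := by
      intro y hy
      rw [Subgroup.mem_centralizer_iff]
      intro x hx
      rw [Set.mem_singleton_iff] at hx
      subst hx
      exact hZc x hz y hy
    have hdvd : h ∣ (P : Subgroup G).index := by
      rw [hh, card_classFinset]
      exact Subgroup.index_dvd_of_le hPle
    have hcop1 : Nat.Coprime n h := Nat.Coprime.coprime_dvd_right hdvd P.card_coprime_index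
    have hg : Nat.gcd n l ∣ h := by
      rw [← hh, ← hl] at hk0
      rw [hk0]
      exact dvd_add (Nat.gcd_dvd_right n l) (Dvd.dvd.mul_right (Nat.gcd_dvd_left n l) _)
    have hg2 : Nat.gcd n l ∣ Nat.gcd n h := Nat.dvd_gcd (Nat.gcd_dvd_left n l) hg
    rw [hcop1] at hg2
    exact Nat.dvd_one.mp hg2
  have e2 : (n : ℤ) ∣ (h : ℤ) - l := by
    rw [← hh, ← hl] at hk0
    refine ⟨k0, ?_⟩
    rw [hk0]
    push_cast
    ring
  -- (A)
  obtain ⟨kA, TA, hA1, hA2⟩ := pairs_decomposition p P hTI Z hZP hZn z z hz hz1 hz hz1 ψ hψcf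
  -- (B)
  obtain ⟨kB, TB, hB1, hB2⟩ := pairs_decomposition p P hTI Z hZP hZn z z⁻¹ hz hz1 hzi hzi1 ψ hψcf
  have hsumZ : ∀ (u v : G), Finset.sum ((classFinset u ×ˢ classFinset v).filter
      (fun q => ∃ z' ∈ Z, z' ≠ 1 ∧ IsConj z' (q.1 * q.2))) (fun q => ψ (q.1 * q.2)) =
      (((classFinset u ×ˢ classFinset v).filter
        (fun q => ∃ z' ∈ Z, z' ≠ 1 ∧ IsConj z' (q.1 * q.2))).card : ℂ) * c := by
    intro u v
    rw [Finset.sum_congr rfl (g := fun _ => (c : ℂ)), Finset.sum_const, nsmul_eq_mul]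
    intro q hq
    obtain ⟨z', hz', hz'1, hconj⟩ := (Finset.mem_filter.mp hq).2
    obtain ⟨a, ha⟩ := isConj_iff.mp hconj
    rw [← ha, hψcf, hcZ z' hz' hz'1]
  have hintA : IsIntegral ℤ (∑ q ∈ TA, ψ (q.1 * q.2)) :=
    IsIntegral.sum _ (fun q _ => IsCharacter.isIntegral_value hψc _)
  have hintB : IsIntegral ℤ (∑ q ∈ TB, ψ (q.1 * q.2)) :=
    IsIntegral.sum _ (fun q _ => IsCharacter.isIntegral_value hψc _)
  have hprodA := sum_classProduct_char ⟨ψ, hψ⟩ z z
  have hprodB := sum_classProduct_char ⟨ψ, hψ⟩ z z⁻¹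
  simp only [] at hprodA hprodB
  rw [hA2, hsumZ, hA1, card_pairs_one_self z hnc, card_pairs_inZ_self Z z hnc, ← hl, hw, hd]
    at hprodA
  rw [hB2, hsumZ, hB1, card_pairs_one_inv z, ← hh, hw, hω', hd] at hprodB
  have hInZ := card_pairs_inZ_inv Z z
  rw [← hl] at hInZ
  set iB := ((classFinset z ×ˢ classFinset z⁻¹).filter
      (fun q => q.1 ∈ Z ∧ q.2 ∈ Z ∧ q.1 * q.2 ≠ 1)).card with hiB
  have e3 : (n : ℤ) ∣ w ^ 2 * d - (l : ℤ) ^ 2 * c := by
    have h1 : (n : ℤ) ∣ w ^ 2 * d - ((l * l + n * kA : ℕ) : ℤ) * c := by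
      apply int_dvd_of_eq_mul_isIntegral n hnpos.ne' _ _ hintA
      push_cast
      push_cast at hprodA
      linear_combination (-1 : ℂ) * hprodA
    have h2 : w ^ 2 * d - (l : ℤ) ^ 2 * c =
        (w ^ 2 * d - ((l * l + n * kA : ℕ) : ℤ) * c) + (n : ℤ) * (kA * c) := by
      push_cast
      ring
    rw [h2]
    exact dvd_add h1 (Dvd.intro _ rfl)
  have e4 : (n : ℤ) ∣ w ^ 2 * d - ((h : ℤ) * d + ((l : ℤ) ^ 2 - l) * c) := by
    have hwd : (w : ℂ) * d = (h : ℂ) * c := by exact_mod_cast e1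
    have h1 : (n : ℤ) ∣ w ^ 2 * d - ((h : ℤ) * d + ((iB + n * kB : ℕ) : ℤ) * c) := by
      apply int_dvd_of_eq_mul_isIntegral n hnpos.ne' _ _ hintB
      push_cast
      push_cast at hprodB
      have h3 : (w : ℂ) * ((h : ℂ) * c / d) * d = (w : ℂ) ^ 2 * d := by
        rw [← hwd]
        field_simp
      rw [h3] at hprodB
      linear_combination (-1 : ℂ) * hprodB
    have hiBl : (iB : ℤ) = (l : ℤ) ^ 2 - l := by
      have : ((iB + l : ℕ) : ℤ) = ((l * l : ℕ) : ℤ) := by exact_mod_cast hInZ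
      push_cast at this
      linarith
    have h2 : w ^ 2 * d - ((h : ℤ) * d + ((l : ℤ) ^ 2 - l) * c) =
        (w ^ 2 * d - ((h : ℤ) * d + ((iB + n * kB : ℕ) : ℤ) * c)) + (n : ℤ) * (kB * c) := by
      push_cast
      rw [hiBl]
      ring
    rw [h2]
    exact dvd_add h1 (Dvd.intro _ rfl)
  have hfinal := arith_67 (n : ℤ) (d : ℤ) c w (h : ℤ) (l : ℤ) e1 e2 e3 e4 hcop
  refine ⟨c, (d : ℤ), hc, ?_, hfinal⟩
  rw [hd]
  simp

end Cfsg.Agent.Helper6
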