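import Mathlib
import Cfsg.Prelude.Def_Characters
import Cfsg.Prelude.Def_OddOrderChar
import Cfsg.Agent.Helper6.CoherO

/-!
# Extending a coherent set of irreducible characters by a character of smaller degree: assembly
-/

set_option autoImplicit false
set_option linter.style.haveILetI false

namespace Cfsg.Agent.Helper6

open scoped ComplexConjugate

universe u v

variable {N : Type u} [Group N] [Fintype N] {G : Type v} [Group G] [Fintype G]

set_option maxHeartbeats 3200000 in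
/-- assembling the extension of a coherence isometry to one more irreducible character `χ`,
whose degree divides the minimal degree `d ψ` of the coherent set -/
theorem irr_extend_assemble (S₀ : Finset (N → ℂ)) (χ : N → ℂ)
    (hirr : ∀ ξ ∈ S₀, Cfsg.IsIrrCharacter N ξ) (hχ : Cfsg.IsIrrCharacter N χ) (hχS : χ ∉ S₀)
    (d : (N → ℂ) → ℕ) (hd : ∀ ξ ∈ insert χ S₀, ξ 1 = (d ξ : ℂ)) (τ : (N → ℂ) → (G → ℂ))
    (hτ : Cfsg.IsLinearIsometryOn (Cfsg.zspanOn (↑(insert χ S₀) : Set (N → ℂ)) {1}ᶜ) τ)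
    (τ₁ : (N → ℂ) → (G → ℂ))
    (hτ₁ : Cfsg.IsLinearIsometryOn (Cfsg.zspan (↑S₀ : Set (N → ℂ))) τ₁)
    (hag : ∀ θ ∈ Cfsg.zspanOn (↑S₀ : Set (N → ℂ)) {1}ᶜ, τ₁ θ = τ θ)
    (ψ : N → ℂ) (hψ : ψ ∈ S₀) (a : ℕ) (ha : d ψ = a * d χ)
    (hall : ∀ ξ ∈ S₀, d ψ ∣ d ξ)
    (Z : G → ℂ) (hZv : Cfsg.IsGeneralizedCharacter G Z) (hZZ : Cfsg.classInner Z Z = 1)
    (hZτ₁ : ∀ ξ ∈ S₀, Cfsg.classInner Z (τ₁ ξ) = 0)
    (hkey : τ (ψ - (a : ℂ) • χ) = τ₁ ψ - (a : ℂ) • Z) :
    Cfsg.IsCoherent (↑(insert χ S₀) : Set (N → ℂ)) {1}ᶜ τ := by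
  classical
  obtain ⟨hadd, hsmul, hiso, hgen⟩ := id hτ
  obtain ⟨hadd₁, hsmul₁, hiso₁, hgen₁⟩ := id hτ₁
  have hcz : ∀ (k : ℤ) (f : N → ℂ), (k : ℂ) • f = k • f := fun k f =>
    Int.cast_smul_eq_zsmul ℂ k f
  have hczG : ∀ (k : ℤ) (f : G → ℂ), (k : ℂ) • f = k • f := fun k f =>
    Int.cast_smul_eq_zsmul ℂ k f
  set U : Set (N → ℂ) := ↑(insert χ S₀) with hU
  have hSU : (↑S₀ : Set (N → ℂ)) ⊆ U := by
    intro ξ hξ
    exact Finset.mem_insert_of_mem hξ
  have hχU : χ ∈ U := Finset.mem_insert_self χ S₀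
  have hψU : ψ ∈ U := hSU hψ
  have irψ := hirr ψ hψ
  have hne : ∀ ξ ∈ S₀, ξ ≠ χ := fun ξ hξ h => hχS (h ▸ hξ)
  have mψ : ψ ∈ Cfsg.zspan (↑S₀ : Set (N → ℂ)) := Submodule.subset_span hψ
  have hdχ0 : 0 < d χ := by
    obtain ⟨k, hk0, hk⟩ := IsIrrCharacter.apply_one_pos hχ
    have : (d χ : ℂ) = k := by rw [← hd χ (Finset.mem_insert_self χ S₀), hk]
    have : d χ = k := by exact_mod_cast this
    omega
  have hmemΔ : ψ - (a : ℂ) • χ ∈ Cfsg.zspanOn U {1}ᶜ := by
    refine ⟨?_, ?_⟩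
    · have : (a : ℂ) • χ = (a : ℤ) • χ := by rw [← hcz, Int.cast_natCast]
      rw [this]
      exact Submodule.sub_mem _ (Submodule.subset_span hψU)
        (Submodule.smul_mem _ _ (Submodule.subset_span hχU))
    · intro x hx
      have hx1 : x = 1 := by simpa using hx
      rw [hx1, Pi.sub_apply, Pi.smul_apply, smul_eq_mul, hd χ (Finset.mem_insert_self χ S₀),
        hd ψ (Finset.mem_insert_of_mem hψ), ha]
      push_cast
      ring
  -- orthogonality to the images of `ℤ[S₀]`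
  have hτ₁Z : ∀ g ∈ Cfsg.zspan (↑S₀ : Set (N → ℂ)), Cfsg.classInner (τ₁ g) Z = 0 := by
    intro g hg
    induction hg using Submodule.span_induction with
    | mem ξ hξ => rw [classInner_conj_symm Z (τ₁ ξ), hZτ₁ ξ hξ, map_zero]
    | zero => rw [isometryOnSpan_map_zero _ τ₁ hτ₁, classInner_zero_left]
    | add x y hx hy ihx ihy => rw [hadd₁ x hx y hy, classInner_add_left, ihx, ihy, add_zero]
    | smul k x hx ihx => rw [hsmul₁ x hx k, ← hczG, classInner_smul_left, ihx, mul_zero]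
  have hgχ : ∀ g ∈ Cfsg.zspan (↑S₀ : Set (N → ℂ)), Cfsg.classInner g χ = 0 := by
    intro g hg
    induction hg using Submodule.span_induction with
    | mem ξ hξ => exact classInner_irr_ne (hirr ξ hξ) hχ (hne ξ hξ)
    | zero => exact classInner_zero_left _
    | add x y _ _ ihx ihy => rw [classInner_add_left, ihx, ihy, add_zero]
    | smul k x _ ihx => rw [← hcz, classInner_smul_left, ihx, mul_zero]
  have hg1 : ∀ g ∈ Cfsg.zspan (↑S₀ : Set (N → ℂ)), ∃ k : ℤ, g 1 = (k : ℂ) * (d ψ : ℂ) := by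
    intro g hg
    induction hg using Submodule.span_induction with
    | mem ξ hξ =>
      obtain ⟨c, hc⟩ := hall ξ hξ
      refine ⟨c, ?_⟩
      rw [hd ξ (Finset.mem_insert_of_mem hξ), hc]
      push_cast
      ring
    | zero => exact ⟨0, by simp⟩
    | add x y _ _ ihx ihy =>
      obtain ⟨k, hk⟩ := ihx
      obtain ⟨k', hk'⟩ := ihy
      refine ⟨k + k', ?_⟩
      rw [Pi.add_apply, hk, hk']
      push_cast
      ring
    | smul k x _ ihx =>
      obtain ⟨k', hk'⟩ := ihx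
      refine ⟨k * k', ?_⟩
      rw [Pi.smul_apply, hk', zsmul_eq_mul]
      push_cast
      ring
  have hdec : ∀ f ∈ Cfsg.zspan U, ∃ g ∈ Cfsg.zspan (↑S₀ : Set (N → ℂ)), ∃ p : ℤ,
      f = g + (p : ℂ) • χ := by
    intro f hf
    induction hf using Submodule.span_induction with
    | mem ξ hξ =>
      rcases Finset.mem_insert.mp hξ with hξ | hξ
      · rw [hξ]
        exact ⟨0, Submodule.zero_mem _, 1, by simp⟩
      · exact ⟨ξ, Submodule.subset_span hξ, 0, by simp⟩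
    | zero => exact ⟨0, Submodule.zero_mem _, 0, by simp⟩
    | add x y _ _ ihx ihy =>
      obtain ⟨g, hg, p, rfl⟩ := ihx
      obtain ⟨g', hg', p', rfl⟩ := ihy
      refine ⟨g + g', Submodule.add_mem _ hg hg', p + p', ?_⟩
      push_cast
      module
    | smul k x _ ihx =>
      obtain ⟨g, hg, p, rfl⟩ := ihx
      refine ⟨k • g, Submodule.smul_mem _ k hg, k * p, ?_⟩
      rw [← hcz, ← hcz]
      push_cast
      module
  -- the extension
  let τ₂ : (N → ℂ) → (G → ℂ) := fun f =>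
    τ₁ (f - Cfsg.classInner f χ • χ) + Cfsg.classInner f χ • Z
  have hτ₂ : ∀ g ∈ Cfsg.zspan (↑S₀ : Set (N → ℂ)), ∀ p : ℤ,
      τ₂ (g + (p : ℂ) • χ) = τ₁ g + (p : ℂ) • Z := by
    intro g hg p
    have hP : Cfsg.classInner (g + (p : ℂ) • χ) χ = p := by
      rw [classInner_add_left, classInner_smul_left, hgχ g hg, classInner_irr_self hχ]
      ring
    show τ₁ (_ - Cfsg.classInner _ χ • χ) + Cfsg.classInner _ χ • Z = _
    rw [hP, add_sub_cancel_right]
  refine ⟨⟨ψ - (a : ℂ) • χ, hmemΔ, ?_⟩, τ₂, ⟨?_, ?_, ?_, ?_⟩, ?_⟩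
  · intro h0
    have h1 : Cfsg.classInner (ψ - (a : ℂ) • χ) ψ = 1 := by
      rw [classInner_sub_left, classInner_smul_left, classInner_irr_self irψ,
        classInner_irr_ne hχ irψ (Ne.symm (hne ψ hψ))]
      ring
    rw [h0, classInner_zero_left] at h1
    exact zero_ne_one h1
  · intro f hf f' hf'
    obtain ⟨g, hg, p, rfl⟩ := hdec f hf
    obtain ⟨g', hg', p', rfl⟩ := hdec f' hf'
    have hsplit : (g + (p : ℂ) • χ) + (g' + (p' : ℂ) • χ) =
        (g + g') + ((p + p' : ℤ) : ℂ) • χ := by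
      push_cast
      module
    rw [hsplit, hτ₂ _ (Submodule.add_mem _ hg hg'), hτ₂ g hg, hτ₂ g' hg', hadd₁ g hg g' hg']
    push_cast
    module
  · intro f hf k
    obtain ⟨g, hg, p, rfl⟩ := hdec f hf
    have hsplit : k • (g + (p : ℂ) • χ) = (k • g) + ((k * p : ℤ) : ℂ) • χ := by
      rw [← hcz, ← hcz]
      push_cast
      module
    rw [hsplit, hτ₂ _ (Submodule.smul_mem _ k hg), hτ₂ g hg, hsmul₁ g hg k, ← hczG, ← hczG]
    push_cast
    module
  · intro f hf f' hf'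
    obtain ⟨g, hg, p, rfl⟩ := hdec f hf
    obtain ⟨g', hg', p', rfl⟩ := hdec f' hf'
    have e1 : Cfsg.classInner Z (τ₁ g') = 0 := by
      rw [classInner_conj_symm (τ₁ g') Z, hτ₁Z g' hg', map_zero]
    have e3 : Cfsg.classInner χ g' = 0 := by
      rw [classInner_conj_symm g' χ, hgχ g' hg', map_zero]
    rw [hτ₂ g hg, hτ₂ g' hg']
    simp only [classInner_add_left, classInner_add_right, classInner_smul_left,
      classInner_smul_right, hτ₁Z g hg, e1, e3, hgχ g hg, hZZ, classInner_irr_self hχ,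
      hiso₁ g hg g' hg', map_intCast]
  · intro f hf
    obtain ⟨g, hg, p, rfl⟩ := hdec f hf
    rw [hτ₂ g hg]
    exact genchar_add (hgen₁ g hg) (genchar_intCast_smul hZv p)
  · intro f hf
    obtain ⟨g, hg, p, rfl⟩ := hdec f hf.1
    rw [hτ₂ g hg]
    obtain ⟨k, hk⟩ := hg1 g hg
    have hf1 : g 1 + (p : ℂ) * (d χ : ℂ) = 0 := by
      have := hf.2 1 (by simp)
      rw [Pi.add_apply, Pi.smul_apply, hd χ (Finset.mem_insert_self χ S₀), smul_eq_mul] at this
      exact this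
    have hp : p = -(k * a) := by
      rw [hk, ha] at hf1
      have h2 : ((k * a + p : ℤ) : ℂ) * (d χ : ℂ) = 0 := by
        push_cast at hf1 ⊢
        linear_combination hf1
      have h3 : (d χ : ℂ) ≠ 0 := by exact_mod_cast hdχ0.ne'
      have h4 : ((k * a + p : ℤ) : ℂ) = 0 := by
        rcases mul_eq_zero.mp h2 with h | h
        · exact h
        · exact absurd h h3
      have h5 : k * a + p = 0 := by exact_mod_cast h4
      omega
    set g' : N → ℂ := g - (k : ℂ) • ψ with hg'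
    have hg'mem : g' ∈ Cfsg.zspanOn (↑S₀ : Set (N → ℂ)) {1}ᶜ := by
      refine ⟨?_, ?_⟩
      · rw [hg', hcz]
        exact Submodule.sub_mem _ hg (Submodule.smul_mem _ _ mψ)
      · intro x hx
        have hx1 : x = 1 := by simpa using hx
        rw [hx1, hg', Pi.sub_apply, Pi.smul_apply, smul_eq_mul,
          hd ψ (Finset.mem_insert_of_mem hψ), hk]
        ring
    have hfsplit : g + (p : ℂ) • χ = g' + k • (ψ - (a : ℂ) • χ) := by
      rw [hg', ← hcz k, hp]
      push_cast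
      module
    have hg'U : g' ∈ Cfsg.zspanOn U {1}ᶜ := zspanOn_mono hSU _ hg'mem
    have hm3 := zspanOn_zsmul_mem U _ hmemΔ k
    rw [hfsplit, hadd _ hg'U _ hm3, hsmul _ hmemΔ, ← hag g' hg'mem, hkey, hg',
      isometryOnSpan_map_sub _ τ₁ hτ₁ hg (by rw [hcz]; exact Submodule.smul_mem _ _ mψ), hcz,
      hsmul₁ ψ mψ, ← hczG, ← hczG, hp]
    push_cast
    module

end Cfsg.Agent.Helper6
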