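import Mathlib
import Cfsg.Prelude.Def_Characters
import Cfsg.Prelude.Def_OddOrderChar
import Cfsg.Agent.Helper6.SibDownA

/-!
# Extending a coherent set by a character of smaller degree: dividing a generalized character,
the swapped isometry on a two-element set, and the arithmetic
-/

set_option autoImplicit false
set_option linter.style.haveILetI false

namespace Cfsg.Agent.Helper6

open scoped ComplexConjugate

universe u v

variable {N : Type u} [Group N] [Fintype N] {G : Type v} [Group G] [Fintype G]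

/-- an irreducible character is a generalized character -/
theorem genchar_of_irr {Ξ : G → ℂ} (h : Cfsg.IsIrrCharacter G Ξ) :
    Cfsg.IsGeneralizedCharacter G Ξ :=
  ⟨Ξ, 0, IsIrrCharacter.isCharacter h, IsCharacter.zero, by simp⟩

/-- a generalized character all of whose multiplicities are divisible by `a` is `a` times a
generalized character -/
theorem genchar_div_of_coeff {f : G → ℂ} (hf : Cfsg.IsGeneralizedCharacter G f) (a : ℕ)
    (h : ∀ Ξ : G → ℂ, Cfsg.IsIrrCharacter G Ξ → ∃ m : ℤ, Cfsg.classInner f Ξ = (a : ℂ) * m) :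
    ∃ Λ : G → ℂ, Cfsg.IsGeneralizedCharacter G Λ ∧ f = (a : ℂ) • Λ := by
  classical
  haveI : Finite (Cfsg.IrrCharacter G) := irr_finite
  haveI : Fintype (Cfsg.IrrCharacter G) := Fintype.ofFinite _
  have hm : ∀ Ξ : Cfsg.IrrCharacter G, ∃ m : ℤ, Cfsg.classInner f (Ξ : G → ℂ) = (a : ℂ) * m :=
    fun Ξ => h Ξ Ξ.2
  choose m hm using hm
  refine ⟨∑ Ξ : Cfsg.IrrCharacter G, (m Ξ : ℂ) • (Ξ : G → ℂ), ?_, ?_⟩
  · apply genchar_sum
    intro Ξ _
    exact genchar_intCast_smul (genchar_of_irr Ξ.2) _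
  · conv_lhs => rw [classFunction_expansion f (IsGeneralizedCharacter.isClassFunction hf)]
    rw [Finset.smul_sum]
    apply Finset.sum_congr rfl
    intro Ξ _
    rw [hm Ξ, smul_smul]

/-- the arithmetic of the downward extension -/
theorem int_down_cases (a k l D Sg : ℤ) (ha : 0 < a) (hD : 0 < D) (hl : 0 ≤ l)
    (hSg : 2 * D ^ 2 ≤ Sg) (h : D ^ 2 * a ^ 2 * (1 - l) = k * (k * Sg - 2 * D ^ 2)) :
    l = 0 ∨ (l = 1 ∧ (k = 0 ∨ (k = 1 ∧ Sg = 2 * D ^ 2))) := by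
  have hD2 : 0 < D ^ 2 := by positivity
  have ha2 : 0 < a ^ 2 := by positivity
  have hSgpos : 0 < Sg := by linarith
  have hrhs : 0 ≤ k * (k * Sg - 2 * D ^ 2) := by
    rcases le_or_gt k 0 with hk | hk
    · have h1 : k * Sg - 2 * D ^ 2 ≤ 0 := by nlinarith
      nlinarith
    · have h1 : 0 ≤ k * Sg - 2 * D ^ 2 := by nlinarith
      nlinarith
  have hl1 : l ≤ 1 := by
    by_contra hcon
    push Not at hcon
    have h2 : D ^ 2 * a ^ 2 * (1 - l) < 0 := by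
      have : 1 - l < 0 := by linarith
      have h3 : 0 < D ^ 2 * a ^ 2 := by positivity
      nlinarith
    linarith
  rcases (by omega : l = 0 ∨ l = 1) with h0 | h1
  · exact Or.inl h0
  right
  refine ⟨h1, ?_⟩
  rw [h1] at h
  simp only [sub_self, mul_zero] at h
  rcases mul_eq_zero.mp h.symm with hk | hk
  · exact Or.inl hk
  right
  have hk1 : 1 ≤ k := by
    by_contra hcon
    push Not at hcon
    have : k ≤ 0 := by omega
    nlinarith
  have hk2 : k ≤ 1 := by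
    by_contra hcon
    push Not at hcon
    have : 2 ≤ k := by omega
    nlinarith
  have hk3 : k = 1 := by omega
  refine ⟨hk3, ?_⟩
  rw [hk3] at hk
  linarith

set_option maxHeartbeats 3200000 in
/-- on a set of two irreducible characters of the same degree, a coherence isometry can be
replaced by the swapped one -/
theorem coherent_swap (S₀ : Finset (N → ℂ)) (ψ ξs : N → ℂ)
    (hS₀ : ∀ f, f ∈ S₀ ↔ f = ψ ∨ f = ξs) (hne : ψ ≠ ξs)
    (hirrψ : Cfsg.IsIrrCharacter N ψ) (hirrξ : Cfsg.IsIrrCharacter N ξs) (hdeg : ψ 1 = ξs 1)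
    (τ τ₁ : (N → ℂ) → (G → ℂ))
    (hτ₁ : Cfsg.IsLinearIsometryOn (Cfsg.zspan (↑S₀ : Set (N → ℂ))) τ₁)
    (hag : ∀ θ ∈ Cfsg.zspanOn (↑S₀ : Set (N → ℂ)) {1}ᶜ, τ₁ θ = τ θ) :
    ∃ τ₂ : (N → ℂ) → (G → ℂ), Cfsg.IsLinearIsometryOn (Cfsg.zspan (↑S₀ : Set (N → ℂ))) τ₂ ∧
      (∀ θ ∈ Cfsg.zspanOn (↑S₀ : Set (N → ℂ)) {1}ᶜ, τ₂ θ = τ θ) ∧
      τ₂ ψ = -τ₁ ξs ∧ τ₂ ξs = -τ₁ ψ := by
  classical
  obtain ⟨hadd₁, hsmul₁, hiso₁, hgen₁⟩ := id hτ₁
  have hcz : ∀ (k : ℤ) (f : N → ℂ), (k : ℂ) • f = k • f := fun k f =>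
    Int.cast_smul_eq_zsmul ℂ k f
  have hczG : ∀ (k : ℤ) (f : G → ℂ), (k : ℂ) • f = k • f := fun k f =>
    Int.cast_smul_eq_zsmul ℂ k f
  have hψS : ψ ∈ S₀ := (hS₀ ψ).mpr (Or.inl rfl)
  have hξS : ξs ∈ S₀ := (hS₀ ξs).mpr (Or.inr rfl)
  have mψ : ψ ∈ Cfsg.zspan (↑S₀ : Set (N → ℂ)) := Submodule.subset_span hψS
  have mξ : ξs ∈ Cfsg.zspan (↑S₀ : Set (N → ℂ)) := Submodule.subset_span hξS
  have oψξ : Cfsg.classInner ψ ξs = 0 := classInner_irr_ne hirrψ hirrξ hne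
  have oξψ : Cfsg.classInner ξs ψ = 0 := classInner_irr_ne hirrξ hirrψ (Ne.symm hne)
  have nψ : Cfsg.classInner ψ ψ = 1 := classInner_irr_self hirrψ
  have nξ : Cfsg.classInner ξs ξs = 1 := classInner_irr_self hirrξ
  have hdec : ∀ f ∈ Cfsg.zspan (↑S₀ : Set (N → ℂ)), ∃ m n : ℤ,
      f = (m : ℂ) • ψ + (n : ℂ) • ξs := by
    intro f hf
    induction hf using Submodule.span_induction with
    | mem ξ hξ =>
      rcases (hS₀ ξ).mp hξ with rfl | rfl
      · exact ⟨1, 0, by simp⟩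
      · exact ⟨0, 1, by simp⟩
    | zero => exact ⟨0, 0, by simp⟩
    | add x y _ _ ihx ihy =>
      obtain ⟨m, n, rfl⟩ := ihx
      obtain ⟨m', n', rfl⟩ := ihy
      refine ⟨m + m', n + n', ?_⟩
      push_cast
      module
    | smul k x _ ihx =>
      obtain ⟨m, n, rfl⟩ := ihx
      refine ⟨k * m, k * n, ?_⟩
      rw [← hcz]
      push_cast
      module
  have hmem : ∀ m n : ℤ, (m : ℂ) • ψ + (n : ℂ) • ξs ∈ Cfsg.zspan (↑S₀ : Set (N → ℂ)) := by
    intro m n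
    rw [hcz, hcz]
    exact Submodule.add_mem _ (Submodule.smul_mem _ _ mψ) (Submodule.smul_mem _ _ mξ)
  have hτ₁mn : ∀ m n : ℤ, τ₁ ((m : ℂ) • ψ + (n : ℂ) • ξs) =
      (m : ℂ) • τ₁ ψ + (n : ℂ) • τ₁ ξs := by
    intro m n
    rw [hcz, hcz, hadd₁ _ (Submodule.smul_mem _ _ mψ) _ (Submodule.smul_mem _ _ mξ),
      hsmul₁ ψ mψ, hsmul₁ ξs mξ, hczG, hczG]
  let τ₂ : (N → ℂ) → (G → ℂ) := fun f =>
    -(Cfsg.classInner f ψ • τ₁ ξs + Cfsg.classInner f ξs • τ₁ ψ)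
  have hτ₂ : ∀ m n : ℤ, τ₂ ((m : ℂ) • ψ + (n : ℂ) • ξs) =
      -((m : ℂ) • τ₁ ξs + (n : ℂ) • τ₁ ψ) := by
    intro m n
    show -(Cfsg.classInner _ ψ • τ₁ ξs + Cfsg.classInner _ ξs • τ₁ ψ) = _
    have h1 : Cfsg.classInner ((m : ℂ) • ψ + (n : ℂ) • ξs) ψ = m := by
      rw [classInner_add_left, classInner_smul_left, classInner_smul_left, nψ, oξψ]
      ring
    have h2 : Cfsg.classInner ((m : ℂ) • ψ + (n : ℂ) • ξs) ξs = n := by
      rw [classInner_add_left, classInner_smul_left, classInner_smul_left, nξ, oψξ]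
      ring
    rw [h1, h2]
  have o1 : Cfsg.classInner (τ₁ ψ) (τ₁ ξs) = 0 := by rw [hiso₁ ψ mψ ξs mξ, oψξ]
  have o2 : Cfsg.classInner (τ₁ ξs) (τ₁ ψ) = 0 := by rw [hiso₁ ξs mξ ψ mψ, oξψ]
  have n1 : Cfsg.classInner (τ₁ ψ) (τ₁ ψ) = 1 := by rw [hiso₁ ψ mψ ψ mψ, nψ]
  have n2 : Cfsg.classInner (τ₁ ξs) (τ₁ ξs) = 1 := by rw [hiso₁ ξs mξ ξs mξ, nξ]
  refine ⟨τ₂, ⟨?_, ?_, ?_, ?_⟩, ?_, ?_, ?_⟩
  · intro f hf f' hf'
    obtain ⟨m, n, rfl⟩ := hdec f hf
    obtain ⟨m', n', rfl⟩ := hdec f' hf'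
    have hsplit : ((m : ℂ) • ψ + (n : ℂ) • ξs) + ((m' : ℂ) • ψ + (n' : ℂ) • ξs) =
        ((m + m' : ℤ) : ℂ) • ψ + ((n + n' : ℤ) : ℂ) • ξs := by
      push_cast
      module
    rw [hsplit, hτ₂, hτ₂, hτ₂]
    push_cast
    module
  · intro f hf k
    obtain ⟨m, n, rfl⟩ := hdec f hf
    have hsplit : k • ((m : ℂ) • ψ + (n : ℂ) • ξs) =
        ((k * m : ℤ) : ℂ) • ψ + ((k * n : ℤ) : ℂ) • ξs := by
      rw [← hcz]
      push_cast
      module
    rw [hsplit, hτ₂, hτ₂, ← hczG]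
    push_cast
    module
  · intro f hf f' hf'
    obtain ⟨m, n, rfl⟩ := hdec f hf
    obtain ⟨m', n', rfl⟩ := hdec f' hf'
    rw [hτ₂, hτ₂]
    simp only [classInner_neg_left, classInner_neg_right, classInner_add_left,
      classInner_add_right, classInner_smul_left,
      classInner_smul_right, o1, o2, n1, n2, oψξ, oξψ, nψ, nξ, map_intCast]
    ring
  · intro f hf
    obtain ⟨m, n, rfl⟩ := hdec f hf
    rw [hτ₂]
    exact genchar_neg (genchar_add (genchar_intCast_smul (hgen₁ ξs mξ) m)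
      (genchar_intCast_smul (hgen₁ ψ mψ) n))
  · intro f hf
    obtain ⟨m, n, rfl⟩ := hdec f hf.1
    rw [← hag _ hf, hτ₂, hτ₁mn]
    have h1 := hf.2 1 (by simp)
    rw [Pi.add_apply, Pi.smul_apply, Pi.smul_apply, smul_eq_mul, smul_eq_mul, ← hdeg] at h1
    have h2 : ((m + n : ℤ) : ℂ) * ψ 1 = 0 := by
      push_cast
      linear_combination h1
    have h3 : ((m + n : ℤ) : ℂ) = 0 := by
      rcases mul_eq_zero.mp h2 with h | h
      · exact h
      · exact absurd h (IsIrrCharacter.apply_one_ne_zero hirrψ)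
    have h4 : m + n = 0 := by exact_mod_cast h3
    have h5 : n = -m := by omega
    rw [h5]
    push_cast
    module
  · have := hτ₂ 1 0
    simpa using this
  · have := hτ₂ 0 1
    simpa using this

end Cfsg.Agent.Helper6
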