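import Mathlib
import Cfsg.Prelude.Def_Characters
import Cfsg.Prelude.Def_OddOrderChar
import Cfsg.Agent.Helper6.SibDownB

/-!
# Extending a coherent set of irreducible characters by a character of smaller degree
-/

set_option autoImplicit false
set_option linter.style.haveILetI false

namespace Cfsg.Agent.Helper6

open scoped ComplexConjugate

universe u v

variable {N : Type u} [Group N] [Fintype N] {G : Type v} [Group G] [Fintype G]

set_option maxHeartbeats 6400000 in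
/-- A coherent finite set of irreducible characters stays coherent after adding an irreducible
character `χ` whose degree divides the minimal degree `d ψ` of the set, with quotient `a`,
provided the multiplicities of `τ (ψ − a χ)` in the irreducible characters outside the image of the
coherent set are divisible by `a`. -/
theorem irr_extend_down (S₀ : Finset (N → ℂ)) (χ : N → ℂ)
    (hirr : ∀ ξ ∈ S₀, Cfsg.IsIrrCharacter N ξ) (hχ : Cfsg.IsIrrCharacter N χ) (hχS : χ ∉ S₀)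
    (d : (N → ℂ) → ℕ) (hd : ∀ ξ ∈ insert χ S₀, ξ 1 = (d ξ : ℂ)) (τ : (N → ℂ) → (G → ℂ))
    (hτ : Cfsg.IsLinearIsometryOn (Cfsg.zspanOn (↑(insert χ S₀) : Set (N → ℂ)) {1}ᶜ) τ)
    (hτ1 : ∀ α ∈ Cfsg.zspanOn (↑(insert χ S₀) : Set (N → ℂ)) {1}ᶜ, τ α 1 = 0)
    (hcoh : Cfsg.IsCoherent (↑S₀ : Set (N → ℂ)) {1}ᶜ τ) (ψ : N → ℂ) (hψ : ψ ∈ S₀)
    (a : ℕ) (ha : d ψ = a * d χ) (hall : ∀ ξ ∈ S₀, d ψ ∣ d ξ)
    (hle : 2 * d ψ ^ 2 ≤ ∑ ξ ∈ S₀, d ξ ^ 2)
    (hint : ∀ τ₁ : (N → ℂ) → (G → ℂ),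
      Cfsg.IsLinearIsometryOn (Cfsg.zspan (↑S₀ : Set (N → ℂ))) τ₁ →
      (∀ θ ∈ Cfsg.zspanOn (↑S₀ : Set (N → ℂ)) {1}ᶜ, τ₁ θ = τ θ) →
      ∀ Ξ : G → ℂ, Cfsg.IsIrrCharacter G Ξ → (∀ ξ ∈ S₀, Cfsg.classInner Ξ (τ₁ ξ) = 0) →
        ∃ m : ℤ, Cfsg.classInner (τ (ψ - (a : ℂ) • χ)) Ξ = (a : ℂ) * m) :
    Cfsg.IsCoherent (↑(insert χ S₀) : Set (N → ℂ)) {1}ᶜ τ := by
  classical
  obtain ⟨-, τ₁, hτ₁, hag⟩ := hcoh
  obtain ⟨-, -, hiso, hgen⟩ := id hτ
  obtain ⟨-, hsmul₁, hiso₁, hgen₁⟩ := id hτ₁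
  have hcz : ∀ (k : ℤ) (f : N → ℂ), (k : ℂ) • f = k • f := fun k f =>
    Int.cast_smul_eq_zsmul ℂ k f
  have hczG : ∀ (k : ℤ) (f : G → ℂ), (k : ℂ) • f = k • f := fun k f =>
    Int.cast_smul_eq_zsmul ℂ k f
  have hSU : (↑S₀ : Set (N → ℂ)) ⊆ ↑(insert χ S₀) := by
    intro ξ hξ
    exact Finset.mem_insert_of_mem hξ
  have hχU : χ ∈ (↑(insert χ S₀) : Set (N → ℂ)) := Finset.mem_insert_self χ S₀
  have hψU : ψ ∈ (↑(insert χ S₀) : Set (N → ℂ)) := hSU hψ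
  have irψ := hirr ψ hψ
  have hne : ∀ ξ ∈ S₀, ξ ≠ χ := fun ξ hξ h => hχS (h ▸ hξ)
  -- positivity
  have hdpos : ∀ ξ ∈ insert χ S₀, Cfsg.IsIrrCharacter N ξ → 0 < d ξ := by
    intro ξ hξ hir
    obtain ⟨k, hk0, hk⟩ := IsIrrCharacter.apply_one_pos hir
    have : (d ξ : ℂ) = k := by rw [← hd ξ hξ, hk]
    have : d ξ = k := by exact_mod_cast this
    omega
  have hdψ0 : 0 < d ψ := hdpos ψ (Finset.mem_insert_of_mem hψ) irψ
  have hdχ0 : 0 < d χ := hdpos χ (Finset.mem_insert_self χ S₀) hχ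
  have ha0 : 0 < a := by
    rcases Nat.eq_zero_or_pos a with h | h
    · rw [h, zero_mul] at ha
      omega
    · exact h
  -- the difference
  have hmemΔ : ψ - (a : ℂ) • χ ∈ Cfsg.zspanOn (↑(insert χ S₀) : Set (N → ℂ)) {1}ᶜ := by
    refine ⟨?_, ?_⟩
    · have : (a : ℂ) • χ = (a : ℤ) • χ := by rw [← hcz, Int.cast_natCast]
      rw [this]
      exact Submodule.sub_mem _ (Submodule.subset_span hψU)
        (Submodule.smul_mem _ _ (Submodule.subset_span hχU))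
    · intro x hx
      have hx1 : x = 1 := by simpa using hx
      rw [hx1, Pi.sub_apply, Pi.smul_apply, smul_eq_mul, hd χ (Finset.mem_insert_self χ S₀),
        hd ψ (Finset.mem_insert_of_mem hψ), ha]
      push_cast
      ring
  set Δ : G → ℂ := τ (ψ - (a : ℂ) • χ) with hΔ
  have hΔv : Cfsg.IsGeneralizedCharacter G Δ := hgen _ hmemΔ
  have oχψ : Cfsg.classInner χ ψ = 0 := classInner_irr_ne hχ irψ (Ne.symm (hne ψ hψ))
  have oψχ : Cfsg.classInner ψ χ = 0 := classInner_irr_ne irψ hχ (hne ψ hψ)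
  have hΔΔ : Cfsg.classInner Δ Δ = 1 + (a : ℂ) ^ 2 := by
    rw [hΔ, hiso _ hmemΔ _ hmemΔ]
    simp only [classInner_sub_right, classInner_sub_left, classInner_smul_right,
      classInner_smul_left, classInner_irr_self hχ, classInner_irr_self irψ, oχψ, oψχ,
      map_natCast]
    ring
  -- coefficients
  have hβex : ∀ ξ ∈ S₀, ∃ β : ℤ, Cfsg.classInner Δ (τ₁ ξ) = β := fun ξ hξ =>
    classInner_genchar_int hΔv (hgen₁ ξ (Submodule.subset_span hξ))
  choose! β hβ using hβex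
  set k : ℤ := 1 - β ψ with hk
  have mψ : ψ ∈ Cfsg.zspan (↑S₀ : Set (N → ℂ)) := Submodule.subset_span hψ
  have hcombmem : ∀ ξ ∈ S₀, ((d ψ : ℤ) • ξ - (d ξ : ℤ) • ψ) ∈
      Cfsg.zspanOn (↑S₀ : Set (N → ℂ)) {1}ᶜ := by
    intro ξ hξ
    exact deg_comb_mem_zspanOn (↑S₀) ξ ψ hξ hψ (d ψ) (d ξ)
      (hd ψ (Finset.mem_insert_of_mem hψ)) (hd ξ (Finset.mem_insert_of_mem hξ))
  have hτ₁comb : ∀ ξ ∈ S₀, τ₁ ((d ψ : ℤ) • ξ - (d ξ : ℤ) • ψ) =
      (d ψ : ℤ) • τ₁ ξ - (d ξ : ℤ) • τ₁ ψ := by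
    intro ξ hξ
    have m1 : ξ ∈ Cfsg.zspan (↑S₀ : Set (N → ℂ)) := Submodule.subset_span hξ
    rw [isometryOnSpan_map_sub _ τ₁ hτ₁ (Submodule.smul_mem _ _ m1) (Submodule.smul_mem _ _ mψ),
      hsmul₁ ξ m1, hsmul₁ ψ mψ]
  have hrel : ∀ ξ ∈ S₀, ξ ≠ ψ → (d ψ : ℤ) * β ξ = -(d ξ * k) := by
    intro ξ hξ hneψ
    have irξ := hirr ξ hξ
    have oξ : Cfsg.classInner χ ξ = 0 := classInner_irr_ne hχ irξ (Ne.symm (hne ξ hξ))
    have oξψ : Cfsg.classInner ψ ξ = 0 := classInner_irr_ne irψ irξ (Ne.symm hneψ)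
    have h5 : Cfsg.classInner Δ (τ₁ ((d ψ : ℤ) • ξ - (d ξ : ℤ) • ψ)) = -(d ξ : ℂ) := by
      rw [hag _ (hcombmem ξ hξ), hΔ, hiso _ hmemΔ _ (zspanOn_mono hSU _ (hcombmem ξ hξ)),
        ← hcz, ← hcz]
      simp only [classInner_sub_right, classInner_sub_left, classInner_smul_right,
        classInner_smul_left, classInner_irr_self irψ, oχψ, oξ, oξψ,
        Int.cast_natCast, map_natCast]
      ring
    rw [hτ₁comb ξ hξ, ← hczG, ← hczG] at h5
    simp only [classInner_sub_right, classInner_smul_right, hβ ξ hξ, hβ ψ hψ,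
      Int.cast_natCast, map_natCast] at h5
    have h6 : (((d ψ : ℤ) * β ξ : ℤ) : ℂ) = ((-(d ξ * k) : ℤ) : ℂ) := by
      rw [hk]
      push_cast
      linear_combination h5
    exact_mod_cast h6
  -- the projection
  have hτ₁orth : ∀ ξ ∈ S₀, ∀ ξ' ∈ S₀, Cfsg.classInner (τ₁ ξ) (τ₁ ξ') =
      if ξ = ξ' then (((fun _ => 1 : (N → ℂ) → ℕ) ξ : ℕ) : ℂ) else 0 := by
    intro ξ hξ ξ' hξ'
    rw [hiso₁ ξ (Submodule.subset_span hξ) ξ' (Submodule.subset_span hξ')]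
    split_ifs with h
    · rw [← h, classInner_irr_self (hirr ξ hξ)]
      simp
    · exact classInner_irr_ne (hirr ξ hξ) (hirr ξ' hξ') h
  have hW := classInner_sub_orthproj_self S₀ τ₁ (fun _ => 1) (fun _ _ => one_ne_zero) hτ₁orth
    Δ β hβ
  simp only [Nat.cast_one, div_one] at hW
  set Z : G → ℂ := Δ - ∑ ξ ∈ S₀, (β ξ : ℂ) • τ₁ ξ with hZ
  rw [hΔΔ] at hW
  set z : ℤ := 1 + (a : ℤ) ^ 2 - ∑ ξ ∈ S₀, β ξ ^ 2 with hz
  have hZZ : Cfsg.classInner Z Z = (z : ℂ) := by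
    rw [hW, hz]
    push_cast
    ring
  have hZv : Cfsg.IsGeneralizedCharacter G Z := by
    apply genchar_sub hΔv
    apply genchar_sum
    intro ξ hξ
    exact genchar_intCast_smul (hgen₁ ξ (Submodule.subset_span hξ)) _
  have hZτ₁ : ∀ ξ ∈ S₀, Cfsg.classInner Z (τ₁ ξ) = 0 := by
    intro ξ hξ
    rw [hZ, classInner_sub_left, hβ ξ hξ, classInner_sum_left, Finset.sum_eq_single ξ]
    · rw [classInner_smul_left, hτ₁orth ξ hξ ξ hξ, if_pos rfl]
      simp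
    · intro ξ' hξ' hne'
      rw [classInner_smul_left, hτ₁orth ξ' hξ' ξ hξ, if_neg hne', mul_zero]
    · intro h
      exact absurd hξ h
  -- divisibility of the multiplicities
  have hdivZ : ∀ Ξ : G → ℂ, Cfsg.IsIrrCharacter G Ξ →
      ∃ m : ℤ, Cfsg.classInner Z Ξ = (a : ℂ) * m := by
    intro Ξ hΞ
    by_cases hor : ∀ ξ ∈ S₀, Cfsg.classInner Ξ (τ₁ ξ) = 0
    · obtain ⟨m, hm⟩ := hint τ₁ hτ₁ hag Ξ hΞ hor
      refine ⟨m, ?_⟩
      rw [hZ, classInner_sub_left, classInner_sum_left, Finset.sum_eq_zero, sub_zero]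
      · exact hm
      · intro ξ hξ
        rw [classInner_smul_left, classInner_conj_symm Ξ (τ₁ ξ), hor ξ hξ, map_zero, mul_zero]
    · push Not at hor
      obtain ⟨ξ, hξ, hne0⟩ := hor
      have m1 : ξ ∈ Cfsg.zspan (↑S₀ : Set (N → ℂ)) := Submodule.subset_span hξ
      obtain ⟨φ, hφ, h | h⟩ := exists_signed_irr_of_norm_one (hgen₁ ξ m1)
        (by rw [hiso₁ ξ m1 ξ m1, classInner_irr_self (hirr ξ hξ)])
      · have hΞφ : Ξ = φ := by
          by_contra hcon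
          apply hne0
          rw [h]
          exact classInner_irr_ne hΞ hφ hcon
        refine ⟨0, ?_⟩
        rw [hΞφ, ← h, hZτ₁ ξ hξ]
        simp
      · have hΞφ : Ξ = φ := by
          by_contra hcon
          apply hne0
          rw [h, classInner_neg_right, classInner_irr_ne hΞ hφ hcon, neg_zero]
        refine ⟨0, ?_⟩
        have h2 : φ = -τ₁ ξ := by rw [h, neg_neg]
        rw [hΞφ, h2, classInner_neg_right, hZτ₁ ξ hξ]
        simp
  obtain ⟨Λ, hΛv, hZΛ⟩ := genchar_div_of_coeff hZv a hdivZ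
  obtain ⟨l, hl⟩ := classInner_genchar_int hΛv hΛv
  have hl0 : 0 ≤ l := by
    have h1 := classInner_self_re_nonneg Λ
    rw [hl] at h1
    have : ((l : ℂ)).re = (l : ℝ) := by simp
    rw [this] at h1
    exact_mod_cast h1
  have hzl : z = (a : ℤ) ^ 2 * l := by
    have h1 : (z : ℂ) = (((a : ℤ) ^ 2 * l : ℤ) : ℂ) := by
      rw [← hZZ, hZΛ, classInner_smul_left, classInner_smul_right, hl, map_natCast]
      push_cast
      ring
    exact_mod_cast h1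
  have ha0' : (a : ℂ) ≠ 0 := by exact_mod_cast ha0.ne'
  have hΛτ₁ : ∀ ξ ∈ S₀, Cfsg.classInner Λ (τ₁ ξ) = 0 := by
    intro ξ hξ
    have h1 := hZτ₁ ξ hξ
    rw [hZΛ, classInner_smul_left] at h1
    rcases mul_eq_zero.mp h1 with h | h
    · exact absurd h ha0'
    · exact h
  -- the integer identity
  set D : ℤ := ((∑ ξ ∈ S₀, d ξ ^ 2 : ℕ) : ℤ) with hD
  have hDsplit : D = (d ψ : ℤ) ^ 2 + ∑ ξ ∈ S₀.erase ψ, (d ξ : ℤ) ^ 2 := by
    rw [hD]
    push_cast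
    rw [← Finset.add_sum_erase S₀ _ hψ]
  have hsumβ : (d ψ : ℤ) ^ 2 * ∑ ξ ∈ S₀, β ξ ^ 2 =
      (d ψ : ℤ) ^ 2 * β ψ ^ 2 + k ^ 2 * ∑ ξ ∈ S₀.erase ψ, (d ξ : ℤ) ^ 2 := by
    rw [← Finset.add_sum_erase S₀ _ hψ, mul_add, Finset.mul_sum, Finset.mul_sum]
    congr 1
    apply Finset.sum_congr rfl
    intro ξ hξ
    rw [Finset.mem_erase] at hξ
    have := hrel ξ hξ.2 hξ.1
    calc (d ψ : ℤ) ^ 2 * β ξ ^ 2 = ((d ψ : ℤ) * β ξ) ^ 2 := by ring
      _ = (-((d ξ : ℤ) * k)) ^ 2 := by rw [this]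
      _ = k ^ 2 * (d ξ : ℤ) ^ 2 := by ring
  have hident : (d ψ : ℤ) ^ 2 * (a : ℤ) ^ 2 * (1 - l) = k * (k * D - 2 * (d ψ : ℤ) ^ 2) := by
    have h1 : (d ψ : ℤ) ^ 2 * z = (d ψ : ℤ) ^ 2 * (1 + (a : ℤ) ^ 2) -
        (d ψ : ℤ) ^ 2 * ∑ ξ ∈ S₀, β ξ ^ 2 := by
      rw [hz]
      ring
    have h3 : β ψ = 1 - k := by rw [hk]; ring
    rw [hsumβ, hzl, h3] at h1
    rw [hDsplit]
    linear_combination -h1
  have hSg : 2 * (d ψ : ℤ) ^ 2 ≤ D := by
    rw [hD]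
    exact_mod_cast hle
  have hsig : Cfsg.IsIrrCharacter G (τ₁ ψ) ∨ Cfsg.IsIrrCharacter G (-τ₁ ψ) := by
    obtain ⟨φ, hφ, h | h⟩ := exists_signed_irr_of_norm_one (hgen₁ ψ mψ)
      (by rw [hiso₁ ψ mψ ψ mψ, classInner_irr_self irψ])
    · left
      rw [h]
      exact hφ
    · right
      rw [h, neg_neg]
      exact hφ
  have hκ0 : τ₁ ψ 1 ≠ 0 := by
    rcases hsig with h | h
    · exact IsIrrCharacter.apply_one_ne_zero h
    · have := IsIrrCharacter.apply_one_ne_zero h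
      rw [Pi.neg_apply] at this
      exact neg_ne_zero.mp this
  have hΔeq : Δ = ∑ ξ ∈ S₀, (β ξ : ℂ) • τ₁ ξ + (a : ℂ) • Λ := by
    rw [← hZΛ, hZ]
    abel
  rcases int_down_cases a k l (d ψ) D (by exact_mod_cast ha0) (by exact_mod_cast hdψ0) hl0 hSg
    hident with hl00 | ⟨hl1, hk0 | ⟨hk1, hD2⟩⟩
  · -- the case `l = 0` is impossible
    exfalso
    have hZ0 : Z = 0 := by
      apply classInner_self_eq_zero
      rw [hZZ, hzl, hl00]
      simp
    have hΔsum : Δ = ∑ ξ ∈ S₀, (β ξ : ℂ) • τ₁ ξ := sub_eq_zero.mp hZ0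
    have hΔ1 : Δ 1 = 0 := hτ1 _ hmemΔ
    have hval : ∀ ξ ∈ S₀, (d ψ : ℂ) * τ₁ ξ 1 = (d ξ : ℂ) * τ₁ ψ 1 := by
      intro ξ hξ
      have h1 := hτ1 _ (zspanOn_mono hSU _ (hcombmem ξ hξ))
      rw [← hag _ (hcombmem ξ hξ), hτ₁comb ξ hξ, Pi.sub_apply, Pi.smul_apply, Pi.smul_apply] at h1
      simp only [zsmul_eq_mul, Int.cast_natCast] at h1
      linear_combination h1
    have hkey : ((d ψ : ℂ) ^ 2) * Δ 1 =
        τ₁ ψ 1 * ((((d ψ : ℤ) ^ 2 - k * D : ℤ)) : ℂ) := by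
      rw [hΔsum, Finset.sum_apply, Finset.mul_sum]
      have h2 : ∀ ξ ∈ S₀, (d ψ : ℂ) ^ 2 * ((β ξ : ℂ) • τ₁ ξ) 1 =
          τ₁ ψ 1 * ((((d ψ : ℤ) * β ξ) * d ξ : ℤ) : ℂ) := by
        intro ξ hξ
        rw [Pi.smul_apply, smul_eq_mul]
        push_cast
        linear_combination (d ψ : ℂ) * (β ξ : ℂ) * hval ξ hξ
      rw [Finset.sum_congr rfl h2, ← Finset.mul_sum, ← Int.cast_sum]
      congr 2
      rw [← Finset.add_sum_erase S₀ _ hψ]
      have h3 : ∑ ξ ∈ S₀.erase ψ, (d ψ : ℤ) * β ξ * (d ξ : ℤ) =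
          -(k * ∑ ξ ∈ S₀.erase ψ, (d ξ : ℤ) ^ 2) := by
        rw [Finset.mul_sum, ← Finset.sum_neg_distrib]
        apply Finset.sum_congr rfl
        intro ξ hξ
        rw [Finset.mem_erase] at hξ
        rw [hrel ξ hξ.2 hξ.1]
        ring
      have h5 : β ψ = 1 - k := by rw [hk]; ring
      rw [h3, hDsplit, h5]
      ring
    rw [hΔ1, mul_zero] at hkey
    rcases mul_eq_zero.mp hkey.symm with h | h
    · exact hκ0 h
    · have h' : (d ψ : ℤ) ^ 2 - k * D = 0 := by exact_mod_cast h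
      rw [hl00] at hident
      have hD2pos : 0 < (d ψ : ℤ) ^ 2 := by
        have : (0 : ℤ) < d ψ := by exact_mod_cast hdψ0
        positivity
      have ha2pos : 0 < (a : ℤ) ^ 2 := by
        have : (0 : ℤ) < a := by exact_mod_cast ha0
        positivity
      have hkD : k * D = (d ψ : ℤ) ^ 2 := by linarith
      rw [hkD] at hident
      have h6 : (d ψ : ℤ) ^ 2 * ((a : ℤ) ^ 2 + k) = 0 := by linear_combination hident
      have h7 : (a : ℤ) ^ 2 + k = 0 := by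
        rcases mul_eq_zero.mp h6 with h | h
        · exact absurd h hD2pos.ne'
        · exact h
      have hkneg : k < 0 := by linarith
      have hDpos : 0 < D := by linarith
      nlinarith
  · -- the normal case
    have hβψ : β ψ = 1 := by
      rw [hk] at hk0
      omega
    have hβ0 : ∀ ξ ∈ S₀, ξ ≠ ψ → β ξ = 0 := by
      intro ξ hξ hneψ
      have := hrel ξ hξ hneψ
      rw [hk0, mul_zero, neg_zero] at this
      rcases mul_eq_zero.mp this with h | h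
      · have : d ψ = 0 := by exact_mod_cast h
        omega
      · exact h
    have hsum : ∑ ξ ∈ S₀, (β ξ : ℂ) • τ₁ ξ = τ₁ ψ := by
      rw [Finset.sum_eq_single ψ]
      · rw [hβψ]
        simp
      · intro ξ hξ hneψ
        rw [hβ0 ξ hξ hneψ, Int.cast_zero, zero_smul]
      · intro h
        exact absurd hψ h
    apply irr_extend_assemble S₀ χ hirr hχ hχS d hd τ hτ τ₁ hτ₁ hag ψ hψ a ha hall (-Λ)
      (genchar_neg hΛv)
    · rw [classInner_neg_left, classInner_neg_right, neg_neg, hl, hl1]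
      simp
    · intro ξ hξ
      rw [classInner_neg_left, hΛτ₁ ξ hξ, neg_zero]
    · rw [← hΔ, hΔeq, hsum]
      module
  · -- the swapped case
    have hβψ : β ψ = 0 := by
      rw [hk] at hk1
      omega
    have hsumer : ∑ ξ ∈ S₀.erase ψ, (d ξ : ℤ) ^ 2 = (d ψ : ℤ) ^ 2 := by
      rw [hDsplit] at hD2
      linarith
    have hdge : ∀ ξ ∈ S₀, (d ψ : ℤ) ^ 2 ≤ (d ξ : ℤ) ^ 2 := by
      intro ξ hξ
      obtain ⟨c, hc⟩ := hall ξ hξ
      have hpos := hdpos ξ (Finset.mem_insert_of_mem hξ) (hirr ξ hξ)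
      have hc1 : 1 ≤ c := by
        rcases Nat.eq_zero_or_pos c with h | h
        · rw [h, mul_zero] at hc
          omega
        · exact h
      have h1 : d ψ ≤ d ξ := by
        rw [hc]
        exact Nat.le_mul_of_pos_right _ hc1
      have h2 : (d ψ : ℤ) ≤ d ξ := by exact_mod_cast h1
      have h3 : (0 : ℤ) ≤ d ψ := by positivity
      nlinarith
    have hD2pos : 0 < (d ψ : ℤ) ^ 2 := by
      have : (0 : ℤ) < d ψ := by exact_mod_cast hdψ0
      positivity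
    have hexne : (S₀.erase ψ).Nonempty := by
      by_contra hcon
      rw [Finset.not_nonempty_iff_eq_empty] at hcon
      rw [hcon, Finset.sum_empty] at hsumer
      linarith
    obtain ⟨ξs, hξs⟩ := hexne
    have hξsS : ξs ∈ S₀ := (Finset.mem_erase.mp hξs).2
    have hξsne : ξs ≠ ψ := (Finset.mem_erase.mp hξs).1
    have honly : ∀ ξ ∈ S₀.erase ψ, ξ = ξs := by
      intro ξ hξ
      by_contra hcon
      have hξ' : ξ ∈ (S₀.erase ψ).erase ξs := Finset.mem_erase.mpr ⟨hcon, hξ⟩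
      have h1 := Finset.add_sum_erase (S₀.erase ψ) (fun ξ => (d ξ : ℤ) ^ 2) hξs
      have h2 := Finset.add_sum_erase ((S₀.erase ψ).erase ξs) (fun ξ => (d ξ : ℤ) ^ 2) hξ'
      have h3 : 0 ≤ ∑ x ∈ ((S₀.erase ψ).erase ξs).erase ξ, (d x : ℤ) ^ 2 :=
        Finset.sum_nonneg (fun x _ => by positivity)
      have h4 := hdge ξs hξsS
      have h5 := hdge ξ (Finset.mem_erase.mp hξ).2
      linarith
    have hS₀ : ∀ f, f ∈ S₀ ↔ f = ψ ∨ f = ξs := by
      intro f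
      constructor
      · intro hf
        by_cases hfψ : f = ψ
        · exact Or.inl hfψ
        · exact Or.inr (honly f (Finset.mem_erase.mpr ⟨hfψ, hf⟩))
      · rintro (rfl | rfl)
        · exact hψ
        · exact hξsS
    have hdξs : d ξs = d ψ := by
      have h1 : ∑ ξ ∈ S₀.erase ψ, (d ξ : ℤ) ^ 2 = (d ξs : ℤ) ^ 2 := by
        rw [Finset.sum_eq_single ξs]
        · intro ξ hξ hne'
          exact absurd (honly ξ hξ) hne'
        · intro h
          exact absurd hξs h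
      rw [h1] at hsumer
      have h2 : (d ξs : ℤ) = d ψ := by
        have h3 : (0 : ℤ) ≤ d ξs := by positivity
        have h4 : (0 : ℤ) ≤ d ψ := by positivity
        exact (sq_eq_sq₀ h3 h4).mp hsumer
      exact_mod_cast h2
    have hβξs : β ξs = -1 := by
      have h1 := hrel ξs hξsS hξsne
      rw [hk1, hdξs, mul_one] at h1
      have h2 : (d ψ : ℤ) * (β ξs + 1) = 0 := by linear_combination h1
      rcases mul_eq_zero.mp h2 with h | h
      · have : d ψ = 0 := by exact_mod_cast h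
        omega
      · omega
    have hdegeq : ψ 1 = ξs 1 := by
      rw [hd ψ (Finset.mem_insert_of_mem hψ), hd ξs (Finset.mem_insert_of_mem hξsS), hdξs]
    obtain ⟨τ₂, hτ₂, hag₂, hτ₂ψ, hτ₂ξ⟩ := coherent_swap S₀ ψ ξs hS₀ (Ne.symm hξsne) irψ
      (hirr ξs hξsS) hdegeq τ τ₁ hτ₁ hag
    have hsum : ∑ ξ ∈ S₀, (β ξ : ℂ) • τ₁ ξ = -τ₁ ξs := by
      rw [Finset.sum_eq_single ξs]
      · rw [hβξs]
        simp
      · intro ξ hξ hne'
        rcases (hS₀ ξ).mp hξ with h | h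
        · rw [h, hβψ, Int.cast_zero, zero_smul]
        · exact absurd h hne'
      · intro h
        exact absurd hξsS h
    apply irr_extend_assemble S₀ χ hirr hχ hχS d hd τ hτ τ₂ hτ₂ hag₂ ψ hψ a ha hall (-Λ)
      (genchar_neg hΛv)
    · rw [classInner_neg_left, classInner_neg_right, neg_neg, hl, hl1]
      simp
    · intro ξ hξ
      rcases (hS₀ ξ).mp hξ with h | h
      · rw [h, hτ₂ψ, classInner_neg_left, classInner_neg_right, hΛτ₁ ξs hξsS]
        simp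
      · rw [h, hτ₂ξ, classInner_neg_left, classInner_neg_right, hΛτ₁ ψ hψ]
        simp
    · rw [← hΔ, hΔeq, hsum, hτ₂ψ]
      module

end Cfsg.Agent.Helper6
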