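import Mathlib
import Cfsg.Agent.Helper6.Coh63

/-!
# Peterfalvi (6.4), part A: the group theory
-/

set_option autoImplicit false
set_option linter.style.haveILetI false

namespace Cfsg.Agent.Helper6

open scoped commutatorElement

universe u

/-- a nilpotent group whose commutator subgroup has prime index is abelian -/
theorem commutator_eq_bot_of_index_prime {Q : Type*} [Group Q] (hnil : Group.IsNilpotent Q)
    (p : ℕ) (hp : p.Prime) (h : (commutator Q).index = p) : commutator Q = ⊥ := by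
  apply eq_bot_of_le_commutator_top hnil
  set N₃ : Subgroup Q := ⁅commutator Q, (⊤ : Subgroup Q)⁆ with hN₃
  haveI : N₃.Normal := Subgroup.commutator_normal (commutator Q) ⊤
  have hle : N₃ ≤ commutator Q := by
    rw [hN₃, commutator_def]
    exact Subgroup.commutator_mono le_top le_rfl
  -- the map Q/N₃ → Q/Q'
  set f : Q ⧸ N₃ →* Q ⧸ commutator Q :=
    QuotientGroup.lift N₃ (QuotientGroup.mk' (commutator Q)) (by
      intro x hx
      rw [QuotientGroup.ker_mk']
      exact hle hx) with hf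
  haveI : Fact p.Prime := ⟨hp⟩
  haveI : IsCyclic (Q ⧸ commutator Q) := by
    apply isCyclic_of_prime_card (p := p)
    rw [← h]
    rfl
  have hker : f.ker ≤ Subgroup.center (Q ⧸ N₃) := by
    intro x hx
    obtain ⟨x, rfl⟩ := QuotientGroup.mk_surjective x
    rw [MonoidHom.mem_ker, hf, QuotientGroup.lift_mk, QuotientGroup.mk'_apply,
      QuotientGroup.eq_one_iff] at hx
    rw [Subgroup.mem_center_iff]
    intro y
    obtain ⟨y, rfl⟩ := QuotientGroup.mk_surjective y
    rw [← QuotientGroup.mk_mul, ← QuotientGroup.mk_mul, QuotientGroup.eq]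
    have h1 : (y * x)⁻¹ * (x * y) = ⁅x⁻¹, y⁻¹⁆ := by
      rw [commutatorElement_def]
      group
    rw [h1]
    exact Subgroup.commutator_mem_commutator ((commutator Q).inv_mem hx) (Subgroup.mem_top _)
  have hcomm := MonoidHom.isMulCommutative_of_isCyclic_of_ker_le_center f hker
  rw [commutator_def, Subgroup.commutator_le]
  intro a _ b _
  have h2 := hcomm.is_comm.comm (QuotientGroup.mk a⁻¹ : Q ⧸ N₃) (QuotientGroup.mk b⁻¹)
  rw [← QuotientGroup.mk_mul, ← QuotientGroup.mk_mul, eq_comm, QuotientGroup.eq] at h2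
  have h3 : ⁅a, b⁆ = (b⁻¹ * a⁻¹)⁻¹ * (a⁻¹ * b⁻¹) := by
    rw [commutatorElement_def]
    group
  rw [h3]
  exact h2

/-- a finite nilpotent group whose abelianization is a `p`-group is a `p`-group -/
theorem card_eq_prime_pow_of_commutator_index {Q : Type*} [Group Q] [Finite Q]
    (hnil : Group.IsNilpotent Q) (p k : ℕ) (hp : p.Prime)
    (h : (commutator Q).index = p ^ k) : ∃ m : ℕ, Nat.card Q = p ^ m := by
  refine ⟨_, Nat.eq_prime_pow_of_unique_prime_dvd Nat.card_pos.ne' ?_⟩
  intro q hq hqdvd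
  haveI : Fact q.Prime := ⟨hq⟩
  -- the product decomposition
  obtain ⟨e⟩ := (Group.isNilpotent_of_finite_tfae (G := Q)).out 0 4 |>.mp hnil
  have hqmem : q ∈ (Nat.card Q).primeFactors :=
    Nat.mem_primeFactors.mpr ⟨hq, hqdvd, Nat.card_pos.ne'⟩
  obtain ⟨S⟩ : Nonempty (Sylow q Q) := inferInstance
  -- projection to the Sylow q-subgroup
  set proj : (∀ r : (Nat.card Q).primeFactors, ∀ P : Sylow r Q, (↑P : Subgroup Q)) →*
      (S : Subgroup Q) :=
    (Pi.evalMonoidHom (fun P : Sylow q Q => (↑P : Subgroup Q)) S).comp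
      (Pi.evalMonoidHom (fun r : (Nat.card Q).primeFactors =>
        ∀ P : Sylow r Q, (↑P : Subgroup Q)) ⟨q, hqmem⟩) with hproj
  have hprojsurj : Function.Surjective proj := by
    intro s
    classical
    refine ⟨fun r => if hr : r = ⟨q, hqmem⟩ then hr ▸ (Pi.mulSingle S s) else 1, ?_⟩
    simp [hproj]
  set g : Q →* Abelianization (S : Subgroup Q) :=
    (Abelianization.of).comp (proj.comp e.symm.toMonoidHom) with hg
  have hgsurj : Function.Surjective g := by
    rw [hg]
    exact (QuotientGroup.mk_surjective).comp (hprojsurj.comp e.symm.surjective)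
  have hker : commutator Q ≤ g.ker := Abelianization.commutator_subset_ker g
  have h1 : g.ker.index ∣ p ^ k := h ▸ Subgroup.index_dvd_of_le hker
  have h2 : g.ker.index = Nat.card (Abelianization (S : Subgroup Q)) := by
    rw [Subgroup.index_ker, MonoidHom.range_eq_top.mpr hgsurj, Subgroup.card_top]
  have hSne : (S : Subgroup Q) ≠ ⊥ := S.ne_bot_of_dvd_card hqdvd
  haveI : Nontrivial (S : Subgroup Q) := (Subgroup.nontrivial_iff_ne_bot _).mpr hSne
  have hSp : IsPGroup q (S : Subgroup Q) := S.isPGroup'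
  haveI : Group.IsNilpotent (S : Subgroup Q) := hSp.isNilpotent
  have hlt : commutator (S : Subgroup Q) < ⊤ :=
    Group.IsSolvable.commutator_lt_top_of_nontrivial (S : Subgroup Q)
  have hidx1 : (commutator (S : Subgroup Q)).index ≠ 1 := fun h' =>
    ne_of_lt hlt (Subgroup.index_eq_one.mp h')
  have hdvd : (commutator (S : Subgroup Q)).index ∣ Nat.card (S : Subgroup Q) :=
    Subgroup.index_dvd_card _
  obtain ⟨j, hj⟩ := IsPGroup.iff_card.mp hSp
  rw [hj] at hdvd
  obtain ⟨i, -, hi⟩ := (Nat.dvd_prime_pow hq).mp hdvd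
  have hi0 : i ≠ 0 := by
    rintro rfl
    exact hidx1 (by simpa using hi)
  have hq_dvd : q ∣ (commutator (S : Subgroup Q)).index := hi ▸ dvd_pow_self q hi0
  have h3 : Nat.card (Abelianization (S : Subgroup Q)) =
      (commutator (S : Subgroup Q)).index := rfl
  rw [h2, h3] at h1
  exact (Nat.prime_dvd_prime_iff_eq hq hp).mp (hq.dvd_of_dvd_pow (hq_dvd.trans h1))

variable {L : Type u} [Group L]

theorem commutator_self_le (K : Subgroup L) : ⁅K, K⁆ ≤ K := by
  rw [Subgroup.commutator_le]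
  intro a ha b hb
  rw [commutatorElement_def]
  exact K.mul_mem (K.mul_mem (K.mul_mem ha hb) (K.inv_mem ha)) (K.inv_mem hb)

/-- the preimage in `K` of the commutator subgroup of `K / M` is `K' ⊔ M` -/
theorem subgroupOf_commutator_sup (K M : Subgroup L) (hMK : M ≤ K) [(M.subgroupOf K).Normal] :
    (⁅K, K⁆ ⊔ M).subgroupOf K =
      Subgroup.comap (QuotientGroup.mk' (M.subgroupOf K))
        (commutator (↥K ⧸ M.subgroupOf K)) := by
  rw [Subgroup.subgroupOf_sup (commutator_self_le K) hMK]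
  have h1 : (⁅K, K⁆).subgroupOf K = commutator K := by
    rw [← Subgroup.map_subtype_commutator]
    exact Subgroup.comap_map_eq_self_of_injective K.subtype_injective _
  have h2 : commutator (↥K ⧸ M.subgroupOf K) =
      Subgroup.map (QuotientGroup.mk' (M.subgroupOf K)) (commutator K) := by
    rw [commutator_def, commutator_def, Subgroup.map_commutator,
      Subgroup.map_top_of_surjective _ (QuotientGroup.mk'_surjective _)]
  rw [h1, h2, Subgroup.comap_map_eq, QuotientGroup.ker_mk']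

theorem relIndex_commutator_sup (K M : Subgroup L) (hMK : M ≤ K) [(M.subgroupOf K).Normal] :
    (⁅K, K⁆ ⊔ M).relIndex K = (commutator (↥K ⧸ M.subgroupOf K)).index := by
  unfold Subgroup.relIndex
  rw [subgroupOf_commutator_sup K M hMK,
    Subgroup.index_comap_of_surjective _ (QuotientGroup.mk'_surjective _)]

theorem commutator_le_of_quotient_commutator_eq_bot (K M : Subgroup L) (hMK : M ≤ K)
    [(M.subgroupOf K).Normal] (h : commutator (↥K ⧸ M.subgroupOf K) = ⊥) : ⁅K, K⁆ ≤ M := by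
  have h1 := subgroupOf_commutator_sup K M hMK
  rw [h] at h1
  have h2 : Subgroup.comap (QuotientGroup.mk' (M.subgroupOf K)) ⊥ = M.subgroupOf K :=
    QuotientGroup.ker_mk' _
  rw [h2] at h1
  intro x hx
  have hxK : x ∈ K := commutator_self_le K hx
  have h3 : (⟨x, hxK⟩ : K) ∈ (⁅K, K⁆ ⊔ M).subgroupOf K := by
    rw [Subgroup.mem_subgroupOf]
    exact (le_sup_left : ⁅K, K⁆ ≤ ⁅K, K⁆ ⊔ M) hx
  rw [h1, Subgroup.mem_subgroupOf] at h3
  exact h3

/-- an intermediate normal subgroup when `K / H₁` is abelian of non-prime-power order -/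
theorem exists_normal_between [Finite L] (K H₁ : Subgroup L) [hK : K.Normal] [hH : H₁.Normal]
    (hc : ⁅K, K⁆ ≤ H₁) (hlt : H₁ < K)
    (hnp : ¬ ∃ p m : ℕ, p.Prime ∧ H₁.relIndex K = p ^ m) :
    ∃ N : Subgroup L, N.Normal ∧ H₁ < N ∧ N < K := by
  classical
  set N₁ : Subgroup K := H₁.subgroupOf K with hN₁
  haveI : N₁.Normal := Subgroup.normal_subgroupOf
  have hcardV : Nat.card (↥K ⧸ N₁) = H₁.relIndex K := rfl
  have hV1 : H₁.relIndex K ≠ 1 := by
    intro h
    rw [Subgroup.relIndex_eq_one] at h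
    exact absurd h (not_le_of_gt hlt)
  obtain ⟨p, hp, hpdvd⟩ := Nat.exists_prime_and_dvd hV1
  haveI : Fact p.Prime := ⟨hp⟩
  have hV0 : H₁.relIndex K ≠ 0 := by
    rw [← hcardV]
    exact Nat.card_pos.ne'
  obtain ⟨q, hq, hqdvd, hqp⟩ : ∃ q : ℕ, q.Prime ∧ q ∣ H₁.relIndex K ∧ q ≠ p := by
    by_contra hno
    refine hnp ⟨p, _, hp, Nat.eq_prime_pow_of_unique_prime_dvd hV0 (fun {d} hd hdd => ?_)⟩
    by_contra hdp
    exact hno ⟨d, hd, hdd, hdp⟩
  haveI : Fact q.Prime := ⟨hq⟩
  -- commutativity of the quotient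
  have hVcomm : ∀ a b : ↥K ⧸ N₁, a * b = b * a := by
    intro a b
    obtain ⟨a, rfl⟩ := QuotientGroup.mk_surjective a
    obtain ⟨b, rfl⟩ := QuotientGroup.mk_surjective b
    rw [← QuotientGroup.mk_mul, ← QuotientGroup.mk_mul, QuotientGroup.eq, hN₁,
      Subgroup.mem_subgroupOf]
    apply hc
    have h1 : (((a * b)⁻¹ * (b * a) : K) : L) = ⁅((b : L))⁻¹, ((a : L))⁻¹⁆ := by
      rw [commutatorElement_def]
      push_cast
      group
    rw [h1]
    exact Subgroup.commutator_mem_commutator (K.inv_mem b.2) (K.inv_mem a.2)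
  have hpow : ∀ k : K, ((k : L)) ^ p ∈ H₁ ↔ (QuotientGroup.mk k : ↥K ⧸ N₁) ^ p = 1 := by
    intro k
    rw [← QuotientGroup.mk_pow, QuotientGroup.eq_one_iff, hN₁, Subgroup.mem_subgroupOf,
      Subgroup.coe_pow]
  let N : Subgroup L :=
    { carrier := {x | x ∈ K ∧ x ^ p ∈ H₁}
      one_mem' := ⟨K.one_mem, by rw [one_pow]; exact H₁.one_mem⟩
      mul_mem' := by
        rintro x y ⟨hx, hxp⟩ ⟨hy, hyp⟩
        refine ⟨K.mul_mem hx hy, ?_⟩
        have h1 := (hpow ⟨x, hx⟩).mp hxp
        have h2 := (hpow ⟨y, hy⟩).mp hyp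
        have h3 := (hpow (⟨x, hx⟩ * ⟨y, hy⟩)).mpr (by
          rw [QuotientGroup.mk_mul, Commute.mul_pow (hVcomm _ _), h1, h2, one_mul])
        exact h3
      inv_mem' := by
        rintro x ⟨hx, hxp⟩
        refine ⟨K.inv_mem hx, ?_⟩
        rw [inv_pow]
        exact H₁.inv_mem hxp }
  have hNmem : ∀ x : L, x ∈ N ↔ x ∈ K ∧ x ^ p ∈ H₁ := fun x => Iff.rfl
  refine ⟨N, ⟨?_⟩, ?_, ?_⟩
  · intro x hx g
    rw [hNmem] at hx ⊢
    refine ⟨hK.conj_mem x hx.1 g, ?_⟩
    rw [conj_pow]
    exact hH.conj_mem _ hx.2 g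
  · refine lt_of_le_of_ne ?_ ?_
    · intro x hx
      rw [hNmem]
      exact ⟨hlt.le hx, H₁.pow_mem hx p⟩
    · intro heq
      obtain ⟨v, hv⟩ := exists_prime_orderOf_dvd_card' (G := ↥K ⧸ N₁) p (by
        rw [hcardV]
        exact hpdvd)
      obtain ⟨k, rfl⟩ := QuotientGroup.mk_surjective v
      have hkN : (k : L) ∈ N := by
        rw [hNmem]
        refine ⟨k.2, (hpow k).mpr ?_⟩
        rw [← hv]
        exact pow_orderOf_eq_one _
      rw [← heq] at hkN
      have : (QuotientGroup.mk k : ↥K ⧸ N₁) = 1 := by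
        rw [QuotientGroup.eq_one_iff, hN₁, Subgroup.mem_subgroupOf]
        exact hkN
      rw [this, orderOf_one] at hv
      exact hp.one_lt.ne hv
  · refine lt_of_le_of_ne ?_ ?_
    · intro x hx
      exact ((hNmem x).mp hx).1
    · intro heq
      obtain ⟨w, hw⟩ := exists_prime_orderOf_dvd_card' (G := ↥K ⧸ N₁) q (by
        rw [hcardV]
        exact hqdvd)
      obtain ⟨y, rfl⟩ := QuotientGroup.mk_surjective w
      have hyN : (y : L) ∈ N := by
        rw [heq]
        exact y.2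
      have h1 := (hpow y).mp ((hNmem _).mp hyN).2
      have h2 := orderOf_dvd_of_pow_eq_one h1
      rw [hw] at h2
      exact hqp ((Nat.prime_dvd_prime_iff_eq hq hp).mp h2)

end Cfsg.Agent.Helper6
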