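import Mathlib
import Cfsg.Prelude.Def_Characters
import Cfsg.Prelude.Def_OddOrderChar
import Cfsg.Agent.Helper6.CoherD

/-!
# Coherence systems with equal degrees: the image of a chosen member
-/

set_option autoImplicit false
set_option linter.style.haveILetI false

namespace Cfsg.Agent.Helper6

open scoped ComplexConjugate

universe u v

variable {L : Type u} [Group L] [Fintype L] {G : Type v} [Group G] [Fintype G]

set_option maxHeartbeats 3200000 in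
/-- In a coherence system with equal degrees, a chosen member `χ₁` has a virtual character `X₁`
of the same norm whose inner products with the `τ (χ₁ − χ)` are as for `χ₁`. -/
theorem cs_exists_X (S : Set (L → ℂ)) (τ : (L → ℂ) → (G → ℂ)) (R : (L → ℂ) → Finset (G → ℂ))
    (hS : Cfsg.IsCoherenceSystem S τ R) (hdeg : ∀ φ ∈ S, ∀ ψ ∈ S, φ 1 = ψ 1)
    (χ₁ : L → ℂ) (h₁ : χ₁ ∈ S) (n₁ : ℕ) (hn₁ : Cfsg.classInner χ₁ χ₁ = n₁) :
    ∃ X₁ : G → ℂ, Cfsg.IsGeneralizedCharacter G X₁ ∧ Cfsg.classInner X₁ X₁ = n₁ ∧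
      ∀ χ ∈ S, Cfsg.classInner X₁ (τ (χ₁ - χ)) = Cfsg.classInner χ₁ (χ₁ - χ) := by
  classical
  obtain ⟨hadd, -, hiso, hgen⟩ := id hS.isometry
  have hτ0 : τ 0 = 0 := isometryOn_map_zero S _ τ hS.isometry
  have hb₁ := hS.conj_mem χ₁ h₁
  have o3 : Cfsg.classInner χ₁ (Cfsg.conjFun χ₁) = 0 :=
    hS.orthogonal χ₁ h₁ _ hb₁ (Ne.symm (hS.conj_ne χ₁ h₁))
  have hmem : ∀ χ ∈ S, ∀ φ ∈ S, χ - φ ∈ Cfsg.zspanOn S {1}ᶜ := fun χ hχ φ hφ =>
    sub_mem_zspanOn_of_deg S hdeg χ φ hχ hφ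
  -- the common part
  have hcommon : ∀ c : (G → ℂ) → ℤ, (∀ α ∈ R χ₁, c α = 0 ∨ c α = 1) → (∑ α ∈ R χ₁, c α = n₁) →
      ∀ χ ∈ S, (χ = χ₁ ∨ χ = Cfsg.conjFun χ₁) →
      Cfsg.classInner (∑ α ∈ R χ₁, (c α : ℂ) • α) (τ (χ₁ - χ)) =
        Cfsg.classInner χ₁ (χ₁ - χ) := by
    intro c hc01 hcs χ hχ hor
    obtain ⟨-, -, hXbar⟩ := cs_X_of_coeff S τ R hS χ₁ h₁ n₁ c hc01 hcs
    rcases hor with rfl | rfl
    · rw [sub_self, hτ0, classInner_zero_right, classInner_zero_right]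
    · rw [hXbar, classInner_sub_right, hn₁, o3, sub_zero]
  by_cases hex : ∃ χ₂ ∈ S, χ₂ ≠ χ₁ ∧ χ₂ ≠ Cfsg.conjFun χ₁
  · obtain ⟨χ₂, h₂, hne, hne'⟩ := hex
    obtain ⟨c, hc01, hcs, hcα, hcβ, hY₂⟩ := cs_decomp S τ R hS hdeg χ₁ χ₂ h₁ h₂ hne hne' n₁ hn₁
    obtain ⟨hXv, hXX, hXbar⟩ := cs_X_of_coeff S τ R hS χ₁ h₁ n₁ c hc01 hcs
    have hb₂ := hS.conj_mem χ₂ h₂
    have o1 : Cfsg.classInner χ₁ χ₂ = 0 := hS.orthogonal χ₁ h₁ χ₂ h₂ (Ne.symm hne)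
    have o2 : Cfsg.classInner χ₂ χ₁ = 0 := hS.orthogonal χ₂ h₂ χ₁ h₁ hne
    have o5 : Cfsg.classInner χ₁ (Cfsg.conjFun χ₂) = 0 :=
      hS.orthogonal χ₁ h₁ _ hb₂ (Ne.symm (conjFun_ne_of_ne_conjFun hne'))
    have h12 : ∀ α ∈ R χ₁, ∀ β ∈ R χ₂, Cfsg.classInner α β = 0 :=
      hS.disjoint χ₂ h₂ χ₁ h₁ o1 o5
    have h21 : ∀ β ∈ R χ₂, ∀ α ∈ R χ₁, Cfsg.classInner β α = 0 := by
      intro β hβ α hα
      rw [classInner_conj_symm α β, h12 α hα β hβ, map_zero]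
    refine ⟨_, hXv, hXX, ?_⟩
    intro χ hχ
    by_cases e1 : χ = χ₁
    · exact hcommon c hc01 hcs χ hχ (Or.inl e1)
    by_cases e2 : χ = Cfsg.conjFun χ₁
    · exact hcommon c hc01 hcs χ hχ (Or.inr e2)
    have oχ : Cfsg.classInner χ₁ χ = 0 := hS.orthogonal χ₁ h₁ χ hχ (Ne.symm e1)
    have hrhs : Cfsg.classInner χ₁ (χ₁ - χ) = n₁ := by
      rw [classInner_sub_right, hn₁, oχ, sub_zero]
    rw [hrhs]
    -- the value against `τ (χ₁ − χ₂)`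
    have hX2 : Cfsg.classInner (∑ α ∈ R χ₁, (c α : ℂ) • α) (τ (χ₁ - χ₂)) = n₁ := by
      rw [hY₂, classInner_add_right, hXX, classInner_sum_smul_orthogonal _ _ h12, add_zero]
    by_cases e3 : χ = χ₂
    · rw [e3]
      exact hX2
    by_cases e4 : χ = Cfsg.conjFun χ₂
    · have hsplit : χ₁ - χ = (χ₁ - χ₂) + (χ₂ - Cfsg.conjFun χ₂) := by
        rw [e4]
        abel
      rw [hsplit, hadd _ (hmem χ₁ h₁ χ₂ h₂) _ (hmem χ₂ h₂ _ hb₂), classInner_add_right, hX2,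
        hS.sum_eq χ₂ h₂]
      have : ∑ β ∈ R χ₂, β = ∑ β ∈ R χ₂, ((fun _ => (1 : ℂ)) β) • β := by
        apply Finset.sum_congr rfl
        intro β _
        rw [one_smul]
      rw [this, classInner_sum_smul_orthogonal _ _ h12, add_zero]
    · -- the generic case
      obtain ⟨c', -, -, -, -, hYχ⟩ := cs_decomp S τ R hS hdeg χ₁ χ h₁ hχ e1 e2 n₁ hn₁
      have hbχ := hS.conj_mem χ hχ
      have p1 : Cfsg.classInner χ₂ χ = 0 := hS.orthogonal χ₂ h₂ χ hχ (Ne.symm e3)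
      have p2 : Cfsg.classInner χ₂ (Cfsg.conjFun χ) = 0 :=
        hS.orthogonal χ₂ h₂ _ hbχ (Ne.symm (conjFun_ne_of_ne_conjFun e4))
      have h2χ : ∀ β ∈ R χ₂, ∀ γ ∈ R χ, Cfsg.classInner β γ = 0 :=
        hS.disjoint χ hχ χ₂ h₂ p1 p2
      have hXeq : ∑ α ∈ R χ₁, (c α : ℂ) • α = τ (χ₁ - χ₂) - ∑ β ∈ R χ₂, (c β : ℂ) • β := by
        rw [hY₂, add_sub_cancel_right]
      have hQ : Cfsg.classInner (∑ β ∈ R χ₂, (c β : ℂ) • β) (τ (χ₁ - χ)) = 0 := by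
        rw [hYχ, classInner_add_right, classInner_sum_smul_orthogonal _ _ h21,
          classInner_sum_smul_orthogonal _ _ h2χ, add_zero]
      rw [hXeq, classInner_sub_left, hQ, sub_zero,
        hiso _ (hmem χ₁ h₁ χ₂ h₂) _ (hmem χ₁ h₁ χ hχ), classInner_sub_left,
        classInner_sub_right, classInner_sub_right, hn₁, oχ, o2, p1]
      ring
  · -- `S` consists of `χ₁` and its conjugate
    have hall : ∀ χ ∈ S, χ = χ₁ ∨ χ = Cfsg.conjFun χ₁ := by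
      intro χ hχ
      by_contra hcon
      rw [not_or] at hcon
      exact hex ⟨χ, hχ, hcon.1, hcon.2⟩
    obtain ⟨n', hn'⟩ := classInner_char_char_nat (hS.isCharacter _ hb₁) (hS.isCharacter _ hb₁)
    have o3' : Cfsg.classInner (Cfsg.conjFun χ₁) χ₁ = 0 :=
      hS.orthogonal _ hb₁ χ₁ h₁ (hS.conj_ne χ₁ h₁)
    have hcardR : ((R χ₁).card : ℂ) = (n₁ : ℂ) + n' := by
      have h1 := hiso _ (hmem χ₁ h₁ _ hb₁) _ (hmem χ₁ h₁ _ hb₁)
      rw [hS.sum_eq χ₁ h₁, classInner_sub_left, classInner_sub_right, classInner_sub_right,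
        hn₁, o3, o3', hn'] at h1
      have : ∑ β ∈ R χ₁, β = ∑ β ∈ R χ₁, ((fun _ => (1 : ℂ)) β) • β := by
        apply Finset.sum_congr rfl
        intro β _
        rw [one_smul]
      rw [this, classInner_sum_smul_orthonormal _ (hS.orthonormal χ₁ h₁)] at h1
      simp only [map_one, mul_one, Finset.sum_const, nsmul_eq_mul] at h1
      rw [h1]
      ring
    have hle : n₁ ≤ (R χ₁).card := by
      have : (R χ₁).card = n₁ + n' := by exact_mod_cast hcardR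
      omega
    obtain ⟨A, hA, hAcard⟩ := Finset.exists_subset_card_eq hle
    let c : (G → ℂ) → ℤ := fun α => if α ∈ A then 1 else 0
    have hc01 : ∀ α ∈ R χ₁, c α = 0 ∨ c α = 1 := by
      intro α _
      by_cases h : α ∈ A
      · right
        exact if_pos h
      · left
        exact if_neg h
    have hcs : ∑ α ∈ R χ₁, c α = n₁ := by
      show ∑ α ∈ R χ₁, (if α ∈ A then (1 : ℤ) else 0) = n₁
      rw [← Finset.sum_filter, Finset.filter_mem_eq_inter, Finset.inter_eq_right.mpr hA,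
        Finset.sum_const, hAcard]
      simp
    obtain ⟨hXv, hXX, -⟩ := cs_X_of_coeff S τ R hS χ₁ h₁ n₁ c hc01 hcs
    exact ⟨_, hXv, hXX, fun χ hχ => hcommon c hc01 hcs χ hχ (hall χ hχ)⟩

end Cfsg.Agent.Helper6
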