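import Mathlib
import Cfsg.Prelude.Def_Characters
import Cfsg.Prelude.Def_OddOrderChar
import Cfsg.Agent.Helper6.CoherE
import Cfsg.Agent.Helper6.IrrDegree

/-!
# Coherence systems with equal degrees are coherent
-/

set_option autoImplicit false
set_option linter.style.haveILetI false

namespace Cfsg.Agent.Helper6

open scoped ComplexConjugate

universe u v

variable {L : Type u} [Group L] [Fintype L] {G : Type v} [Group G] [Fintype G]

set_option maxHeartbeats 3200000 in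
/-- Peterfalvi (5.4): a coherence system all of whose members have the same degree is
coherent. -/
theorem coherent_of_uniform_degree (S : Set (L → ℂ)) (τ : (L → ℂ) → (G → ℂ))
    (R : (L → ℂ) → Finset (G → ℂ)) (hS : Cfsg.IsCoherenceSystem S τ R)
    (hdeg : ∀ φ ∈ S, ∀ ψ ∈ S, φ 1 = ψ 1) : Cfsg.IsCoherent S {1}ᶜ τ := by
  classical
  obtain ⟨χ₁, h₁⟩ := hS.nonempty
  obtain ⟨n₁, hn₁⟩ := classInner_char_char_nat (hS.isCharacter χ₁ h₁) (hS.isCharacter χ₁ h₁)
  obtain ⟨X₁, hXv, hXX, hXτ⟩ := cs_exists_X S τ R hS hdeg χ₁ h₁ n₁ hn₁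
  obtain ⟨hadd, hsmul, hiso, hgen⟩ := id hS.isometry
  have hb₁ := hS.conj_mem χ₁ h₁
  have hcz : ∀ (n : ℤ) (f : L → ℂ), (n : ℂ) • f = n • f := fun n f =>
    Int.cast_smul_eq_zsmul ℂ n f
  have hczG : ∀ (n : ℤ) (f : G → ℂ), (n : ℂ) • f = n • f := fun n f =>
    Int.cast_smul_eq_zsmul ℂ n f
  have hmem : ∀ χ ∈ S, ∀ φ ∈ S, χ - φ ∈ Cfsg.zspanOn S {1}ᶜ := fun χ hχ φ hφ =>
    sub_mem_zspanOn_of_deg S hdeg χ φ hχ hφ
  -- the common degree is nonzero
  have hd0 : χ₁ 1 ≠ 0 := by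
    intro h0
    apply hS.conj_ne χ₁ h₁
    have hz : χ₁ = 0 := by
      funext y
      have := IsCharacter.norm_le_norm_one (hS.isCharacter χ₁ h₁) y
      rw [h0, norm_zero] at this
      exact norm_eq_zero.mp (le_antisymm this (norm_nonneg _))
    rw [hz]
    funext y
    show conj ((0 : L → ℂ) y) = (0 : L → ℂ) y
    simp
  refine ⟨⟨χ₁ - Cfsg.conjFun χ₁, hmem χ₁ h₁ _ hb₁, ?_⟩, ?_⟩
  · intro h
    apply hS.conj_ne χ₁ h₁
    exact (sub_eq_zero.mp h).symm
  -- every integer combination is a multiple of `χ₁` up to a combination vanishing at one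
  have hP : ∀ φ ∈ Cfsg.zspan S, ∃ n : ℤ, φ 1 = n * χ₁ 1 ∧
      ((n : ℂ) • χ₁ - φ ∈ Cfsg.zspanOn S {1}ᶜ) ∧
      Cfsg.classInner X₁ (τ ((n : ℂ) • χ₁ - φ)) = Cfsg.classInner χ₁ ((n : ℂ) • χ₁ - φ) := by
    intro φ hφ
    induction hφ using Submodule.span_induction with
    | mem χ hχ =>
      refine ⟨1, ?_, ?_, ?_⟩
      · rw [Int.cast_one, one_mul]
        exact hdeg χ hχ χ₁ h₁
      · rw [Int.cast_one, one_smul]
        exact hmem χ₁ h₁ χ hχ
      · rw [Int.cast_one, one_smul]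
        exact hXτ χ hχ
    | zero =>
      refine ⟨0, ?_, ?_, ?_⟩
      · simp
      · rw [Int.cast_zero, zero_smul, sub_zero]
        exact zspanOn_zero_mem S _
      · rw [Int.cast_zero, zero_smul, sub_zero, isometryOn_map_zero S _ τ hS.isometry,
          classInner_zero_right, classInner_zero_right]
    | add x y _ _ hx hy =>
      obtain ⟨a, ha1, haE, haX⟩ := hx
      obtain ⟨b, hb1, hbE, hbX⟩ := hy
      have hsplit : ((a + b : ℤ) : ℂ) • χ₁ - (x + y) =
          ((a : ℂ) • χ₁ - x) + ((b : ℂ) • χ₁ - y) := by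
        push_cast
        rw [add_smul]
        abel
      refine ⟨a + b, ?_, ?_, ?_⟩
      · rw [Pi.add_apply, ha1, hb1]
        push_cast
        ring
      · rw [hsplit]
        exact zspanOn_add_mem S _ haE hbE
      · rw [hsplit, hadd _ haE _ hbE, classInner_add_right, classInner_add_right, haX, hbX]
    | smul m x _ hx =>
      obtain ⟨a, ha1, haE, haX⟩ := hx
      have hsplit : ((m * a : ℤ) : ℂ) • χ₁ - m • x = m • ((a : ℂ) • χ₁ - x) := by
        rw [smul_sub, ← hcz m ((a : ℂ) • χ₁), smul_smul]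
        push_cast
        rfl
      refine ⟨m * a, ?_, ?_, ?_⟩
      · rw [Pi.smul_apply, ha1, zsmul_eq_mul]
        push_cast
        ring
      · rw [hsplit]
        exact zspanOn_zsmul_mem S _ haE m
      · rw [hsplit, hsmul _ haE m, ← hcz, ← hczG, classInner_smul_right, classInner_smul_right,
          haX]
  -- the extension
  let τ₁ : (L → ℂ) → (G → ℂ) := fun φ =>
    (φ 1 / χ₁ 1) • X₁ - τ ((φ 1 / χ₁ 1) • χ₁ - φ)
  have hτ₁ : ∀ (φ : L → ℂ) (n : ℤ), φ 1 = n * χ₁ 1 →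
      τ₁ φ = (n : ℂ) • X₁ - τ ((n : ℂ) • χ₁ - φ) := by
    intro φ n h
    show (φ 1 / χ₁ 1) • X₁ - τ ((φ 1 / χ₁ 1) • χ₁ - φ) = _
    rw [h, mul_div_assoc, div_self hd0, mul_one]
  refine ⟨τ₁, ⟨?_, ?_, ?_, ?_⟩, ?_⟩
  · intro α hα β hβ
    obtain ⟨a, ha1, haE, haX⟩ := hP α hα
    obtain ⟨b, hb1, hbE, hbX⟩ := hP β hβ
    have hab1 : (α + β) 1 = ((a + b : ℤ) : ℂ) * χ₁ 1 := by
      rw [Pi.add_apply, ha1, hb1]
      push_cast
      ring
    have hsplit : ((a + b : ℤ) : ℂ) • χ₁ - (α + β) =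
        ((a : ℂ) • χ₁ - α) + ((b : ℂ) • χ₁ - β) := by
      push_cast
      rw [add_smul]
      abel
    rw [hτ₁ _ _ hab1, hτ₁ _ _ ha1, hτ₁ _ _ hb1, hsplit, hadd _ haE _ hbE]
    push_cast
    rw [add_smul]
    abel
  · intro α hα m
    obtain ⟨a, ha1, haE, haX⟩ := hP α hα
    have hm1 : (m • α) 1 = ((m * a : ℤ) : ℂ) * χ₁ 1 := by
      rw [Pi.smul_apply, ha1, zsmul_eq_mul]
      push_cast
      ring
    have hsplit : ((m * a : ℤ) : ℂ) • χ₁ - m • α = m • ((a : ℂ) • χ₁ - α) := by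
      rw [smul_sub, ← hcz m ((a : ℂ) • χ₁), smul_smul]
      push_cast
      rfl
    rw [hτ₁ _ _ hm1, hτ₁ _ _ ha1, hsplit, hsmul _ haE m, smul_sub, ← hczG m ((a : ℂ) • X₁),
      smul_smul]
    push_cast
    rfl
  · intro α hα β hβ
    obtain ⟨a, ha1, haE, haX⟩ := hP α hα
    obtain ⟨b, hb1, hbE, hbX⟩ := hP β hβ
    have haX' : Cfsg.classInner (τ ((a : ℂ) • χ₁ - α)) X₁ =
        Cfsg.classInner ((a : ℂ) • χ₁ - α) χ₁ := by
      rw [classInner_conj_symm X₁, haX, ← classInner_conj_symm]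
    rw [hτ₁ _ _ ha1, hτ₁ _ _ hb1, classInner_sub_left, classInner_sub_right,
      classInner_sub_right, classInner_smul_left, classInner_smul_left, classInner_smul_right,
      classInner_smul_right, hXX, hbX, haX', hiso _ haE _ hbE]
    simp only [classInner_sub_right, classInner_sub_left, classInner_smul_right,
      classInner_smul_left, hn₁, map_intCast]
    ring
  · intro α hα
    obtain ⟨a, ha1, haE, haX⟩ := hP α hα
    rw [hτ₁ _ _ ha1]
    exact genchar_sub (genchar_intCast_smul hXv a) (hgen _ haE)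
  · intro α hα
    have h1 : α 1 = ((0 : ℤ) : ℂ) * χ₁ 1 := by
      rw [Int.cast_zero, zero_mul]
      apply hα.2
      simp
    rw [hτ₁ _ _ h1, Int.cast_zero, zero_smul, zero_smul, zero_sub, zero_sub,
      isometryOn_map_neg S _ τ hS.isometry hα, neg_neg]

end Cfsg.Agent.Helper6
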