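import Mathlib
import Cfsg.Prelude.Def_Characters
import Cfsg.Prelude.Def_OddOrderChar
import Cfsg.Agent.Helper6.Coh64A
import Cfsg.Agent.Helper6.QuotientRep
import Cfsg.Agent.Helper6.CoherF
import Cfsg.Agent.Helper6.Linear
import Cfsg.Agent.Helper6.RepEigen
import Cfsg.Agent.Helper6.CharBasic

/-!
# Peterfalvi (6.4), part B: character theory
-/

set_option autoImplicit false
set_option linter.style.haveILetI false

namespace Cfsg.Agent.Helper6

open scoped ComplexConjugate
open scoped commutatorElement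

universe u v

section sub

variable {L : Type u} [Group L] [Fintype L] {G : Type v} [Group G] [Fintype G]

/-- a conjugation-closed nonempty subset of a coherence system is a coherence system -/
theorem coherenceSystem_subset (S S' : Set (L → ℂ)) (τ : (L → ℂ) → (G → ℂ))
    (R : (L → ℂ) → Finset (G → ℂ)) (hS : Cfsg.IsCoherenceSystem S τ R) (hsub : S' ⊆ S)
    (hne : S'.Nonempty) (hconj : ∀ χ ∈ S', Cfsg.conjFun χ ∈ S') :
    Cfsg.IsCoherenceSystem S' τ R := by
  obtain ⟨h1, h2, h3, h4⟩ := id hS.isometry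
  have hm : ∀ α, α ∈ Cfsg.zspanOn S' {1}ᶜ → α ∈ Cfsg.zspanOn S {1}ᶜ := fun α hα =>
    zspanOn_mono hsub _ hα
  exact
    { nonempty := hne
      isCharacter := fun χ hχ => hS.isCharacter χ (hsub hχ)
      conj_mem := hconj
      conj_ne := fun χ hχ => hS.conj_ne χ (hsub hχ)
      isometry := ⟨fun α hα β hβ => h1 α (hm α hα) β (hm β hβ),
        fun α hα n => h2 α (hm α hα) n,
        fun α hα β hβ => h3 α (hm α hα) β (hm β hβ),
        fun α hα => h4 α (hm α hα)⟩
      map_one := fun α hα => hS.map_one α (hm α hα)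
      orthogonal := fun χ hχ φ hφ => hS.orthogonal χ (hsub hχ) φ (hsub hφ)
      orthonormal := fun χ hχ => hS.orthonormal χ (hsub hχ)
      virtual := fun χ hχ => hS.virtual χ (hsub hχ)
      sum_eq := fun χ hχ => hS.sum_eq χ (hsub hχ)
      disjoint := fun χ hχ φ hφ => hS.disjoint χ (hsub hχ) φ (hsub hφ) }

end sub

/-- an irreducible character trivial on the commutator subgroup is linear -/
theorem apply_one_eq_one_of_commutator {K : Type u} [Group K] [Finite K] (θ : K → ℂ)
    (hθ : Cfsg.IsIrrCharacter K θ) (hker : ∀ x ∈ commutator K, θ x = θ 1) : θ 1 = 1 := by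
  obtain ⟨n, ρ, hirr, hρ⟩ := hθ
  haveI := hirr
  have hρN : ∀ x ∈ commutator K, ρ x = 1 := by
    intro x hx
    have h1 : ρ.character x = (Module.finrank ℂ (Fin n → ℂ) : ℂ) := by
      rw [hρ, hker x hx, ← hρ, Representation.char_one]
    exact (char_eq_finrank_iff ρ x).mp h1
  haveI := quotientRep_isIrreducible ρ (commutator K) hρN
  have hcomm : ∀ a b : K ⧸ commutator K, a * b = b * a := by
    intro a b
    have := mul_comm (show Abelianization K from a) (show Abelianization K from b)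
    exact this
  have h2 := (comm_iff_forall_irr_degree_one (G := K ⧸ commutator K)).mp hcomm
    ⟨(quotientRep ρ (commutator K) hρN).character, n, quotientRep ρ (commutator K) hρN,
      inferInstance, rfl⟩
  simp only at h2
  rw [Representation.char_one] at h2
  rw [← hρ, Representation.char_one]
  exact h2

section main

variable {L : Type u} [Group L] [Fintype L] {G : Type v} [Group G] [Fintype G]

/-- members of `irrAboveFn K X` are linear when `X` contains the commutator subgroup -/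
theorem irrAboveFn_linear (K X : Subgroup L) (hc : ⁅K, K⁆ ≤ X) (θ : K → ℂ)
    (hθ : θ ∈ irrAboveFn K X) : θ 1 = 1 := by
  obtain ⟨h0, -, h2⟩ := (mem_irrAboveFn K X θ).mp hθ
  apply apply_one_eq_one_of_commutator θ h0
  intro x hx
  apply h2 x
  apply hc
  rw [← Subgroup.map_subtype_commutator]
  exact Subgroup.mem_map_of_mem K.subtype hx

/-- `S(X)` is coherent when `K / X` is abelian -/
theorem coherent_above_commutator (K : Subgroup L) [K.Normal] (hsolv : Group.IsSolvable K)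
    (τ : (L → ℂ) → (G → ℂ)) (R : (L → ℂ) → Finset (G → ℂ))
    (hS : Cfsg.IsCoherenceSystem (Cfsg.inducedIrrAbove K ⊥) τ R) (X : Subgroup L)
    [hXn : X.Normal] (hc : ⁅K, K⁆ ≤ X) (hXK : X < K) :
    Cfsg.IsCoherent (Cfsg.inducedIrrAbove K X) {1}ᶜ τ := by
  classical
  have hsub : Cfsg.inducedIrrAbove K X ⊆ Cfsg.inducedIrrAbove K ⊥ := by
    intro φ hφ
    rw [← coe_indAbove] at hφ ⊢
    exact Finset.mem_coe.mpr (indAbove_subset_bot K X (Finset.mem_coe.mp hφ))
  have hne : (Cfsg.inducedIrrAbove K X).Nonempty := by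
    obtain ⟨θ, hθ, -⟩ := exists_linear_above K X hsolv hXK
    refine ⟨Cfsg.indFun K θ, ?_⟩
    rw [← coe_indAbove]
    unfold indAbove
    exact Finset.mem_coe.mpr (Finset.mem_image.mpr ⟨θ, hθ, rfl⟩)
  have hconj : ∀ χ ∈ Cfsg.inducedIrrAbove K X, Cfsg.conjFun χ ∈ Cfsg.inducedIrrAbove K X := by
    intro χ hχ
    rw [← coe_indAbove] at hχ ⊢
    exact Finset.mem_coe.mpr (conjFun_mem_indAbove K X χ (Finset.mem_coe.mp hχ))
  have hsys := coherenceSystem_subset _ _ τ R hS hsub hne hconj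
  apply coherent_of_uniform_degree _ τ R hsys
  have hdeg : ∀ φ ∈ Cfsg.inducedIrrAbove K X, φ 1 = (K.index : ℂ) := by
    intro φ hφ
    rw [← coe_indAbove] at hφ
    have hφ' := Finset.mem_coe.mp hφ
    unfold indAbove at hφ'
    obtain ⟨θ, hθ, rfl⟩ := Finset.mem_image.mp hφ'
    rw [indFun_apply_one, irrAboveFn_linear K X hc θ hθ, mul_one]
  intro φ hφ ψ hψ
  rw [hdeg φ hφ, hdeg ψ hψ]

/-- in the Frobenius situation an element fixing a nontrivial linear character of `K / H₁` lies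
in `K` -/
theorem mem_of_fixes_linear (K H₁ : Subgroup L) [hK : K.Normal] [hH₁ : H₁.Normal]
    (hfrob : ∀ k ∈ K, k ∉ H₁ → ∀ x : L, x * k * x⁻¹ * k⁻¹ ∈ H₁ → x ∈ K) (lam : K →* ℂˣ)
    (hlamH : ∀ k : K, (k : L) ∈ H₁ → lam k = 1) (hne : lam ≠ 1) (g : L)
    (hg : ∀ k : K, lam ⟨g * k * g⁻¹, hK.conj_mem k k.2 g⟩ = lam k) : g ∈ K := by
  by_contra hgK
  set N₁ : Subgroup K := H₁.subgroupOf K with hN₁
  haveI : N₁.Normal := Subgroup.normal_subgroupOf
  set c : K →* K := (MulAut.conjNormal g : MulAut K).toMonoidHom with hcdef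
  have hc_apply : ∀ k : K, ((c k : K) : L) = g * k * g⁻¹ := fun k =>
    MulAut.conjNormal_apply g k
  have hle : N₁ ≤ N₁.comap c := by
    intro k hk
    rw [Subgroup.mem_comap, hN₁, Subgroup.mem_subgroupOf, hc_apply]
    exact hH₁.conj_mem _ (Subgroup.mem_subgroupOf.mp hk) g
  set σ : K ⧸ N₁ →* K ⧸ N₁ := QuotientGroup.map N₁ N₁ c hle with hσdef
  have hσ : ∀ k : K, σ (QuotientGroup.mk k) = QuotientGroup.mk (c k) := fun k => rfl
  have hlamker : N₁ ≤ lam.ker := fun k hk =>
    MonoidHom.mem_ker.mpr (hlamH k (Subgroup.mem_subgroupOf.mp hk))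
  set lam' : K ⧸ N₁ →* ℂˣ := QuotientGroup.lift N₁ lam hlamker with hlam'def
  have hlam' : ∀ k : K, lam' (QuotientGroup.mk k) = lam k := fun k => rfl
  have hinv : ∀ v, lam' (σ v) = lam' v := by
    intro v
    obtain ⟨k, rfl⟩ := QuotientGroup.mk_surjective v
    rw [hσ, hlam', hlam']
    have h1 : c k = ⟨g * k * g⁻¹, hK.conj_mem k k.2 g⟩ := Subtype.ext (hc_apply k)
    rw [h1]
    exact hg k
  have hfix : ∀ v, σ v = v → v = 1 := by
    intro v hv
    obtain ⟨k, rfl⟩ := QuotientGroup.mk_surjective v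
    rw [hσ, QuotientGroup.eq, hN₁, Subgroup.mem_subgroupOf] at hv
    rw [QuotientGroup.eq_one_iff, hN₁, Subgroup.mem_subgroupOf]
    by_contra hk
    have hk' : ((k : L))⁻¹ ∉ H₁ := fun h => hk (by simpa using H₁.inv_mem h)
    apply hgK
    apply hfrob ((k : L))⁻¹ (K.inv_mem k.2) hk' g
    have h2 : (((c k)⁻¹ * k : K) : L) = (g * (k : L)⁻¹ * g⁻¹ * ((k : L)⁻¹)⁻¹) := by
      push_cast
      rw [hc_apply]
      group
    rw [← h2]
    exact hv
  set f : K ⧸ N₁ → K ⧸ N₁ := fun v => σ v * v⁻¹ with hfdef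
  have hfinj : Function.Injective f := by
    intro a b hab
    have hab' : σ a * a⁻¹ = σ b * b⁻¹ := hab
    have h1 : σ (b⁻¹ * a) = b⁻¹ * a := by
      rw [map_mul, map_inv]
      calc (σ b)⁻¹ * σ a = (σ b)⁻¹ * (σ a * a⁻¹) * a := by group
        _ = (σ b)⁻¹ * (σ b * b⁻¹) * a := by rw [hab']
        _ = b⁻¹ * a := by group
    have h2 := hfix _ h1
    exact (inv_mul_eq_one.mp h2).symm
  have hfsurj : Function.Surjective f := Finite.injective_iff_surjective.mp hfinj
  apply hne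
  refine MonoidHom.ext (fun k => ?_)
  obtain ⟨w, hw⟩ := hfsurj (QuotientGroup.mk k)
  have h3 : lam' (QuotientGroup.mk k) = 1 := by
    rw [← hw, hfdef]
    simp only [map_mul, map_inv, hinv, mul_inv_cancel]
  rw [hlam'] at h3
  exact h3

/-- in the Frobenius situation the functions in `S(X)`, `H₁ ≤ X`, have norm one -/
theorem classInner_indFun_eq_one (K H₁ X : Subgroup L) [hK : K.Normal] [hH₁ : H₁.Normal]
    (hc : ⁅K, K⁆ ≤ H₁) (hH₁X : H₁ ≤ X)
    (hfrob : ∀ k ∈ K, k ∉ H₁ → ∀ x : L, x * k * x⁻¹ * k⁻¹ ∈ H₁ → x ∈ K) (θ : K → ℂ)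
    (hθ : θ ∈ irrAboveFn K X) :
    Cfsg.classInner (Cfsg.indFun K θ) (Cfsg.indFun K θ) = 1 := by
  classical
  obtain ⟨h0, h1, h2⟩ := (mem_irrAboveFn K X θ).mp hθ
  have hθ1 : θ 1 = 1 := irrAboveFn_linear K X (hc.trans hH₁X) θ hθ
  obtain ⟨lam, hlam⟩ := exists_hom_of_irr_degree_one h0 hθ1
  have hlamne : lam ≠ 1 := by
    intro h
    apply h1
    rw [hlam, h]
    funext k
    simp
  have hlamH : ∀ k : K, (k : L) ∈ H₁ → lam k = 1 := by
    intro k hk
    have h3 := h2 k (hH₁X hk)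
    rw [hθ1, hlam] at h3
    exact Units.ext h3
  have hstab : ∀ g : L, conjFun K θ g = θ ↔ g ∈ K := by
    intro g
    constructor
    · intro hg
      apply mem_of_fixes_linear K H₁ hfrob lam hlamH hlamne g
      intro k
      have h3 := congrFun hg k
      rw [hlam] at h3
      exact Units.ext h3
    · intro hg
      funext k
      have hcf := IsCharacter.isClassFunction (IsIrrCharacter.isCharacter h0)
      have h3 := hcf k ⟨g, hg⟩
      rw [← h3]
      rfl
  have hcard : Nat.card {g : L // conjFun K θ g = θ} = Nat.card K := by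
    apply Nat.card_congr
    exact Equiv.subtypeEquivRight hstab
  have h4 := card_mul_classInner_indFun_normal K θ h0
  rw [hcard] at h4
  have hK0 : (Nat.card K : ℂ) ≠ 0 := by
    have : 0 < Nat.card K := Nat.card_pos
    exact_mod_cast this.ne'
  have h5 : (Nat.card K : ℂ) * Cfsg.classInner (Cfsg.indFun K θ) (Cfsg.indFun K θ) =
      (Nat.card K : ℂ) * 1 := by rw [h4, mul_one]
  exact mul_left_cancel₀ hK0 h5

/-- in the Frobenius situation `[L:K]` divides `[K:X] - 1` for `H₁ ≤ X` normal in `L` -/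
theorem index_mul_card_indAbove (K H₁ X : Subgroup L) [hK : K.Normal] [hH₁ : H₁.Normal]
    [hX : X.Normal] (hc : ⁅K, K⁆ ≤ H₁) (hH₁X : H₁ ≤ X)
    (hfrob : ∀ k ∈ K, k ∉ H₁ → ∀ x : L, x * k * x⁻¹ * k⁻¹ ∈ H₁ → x ∈ K) :
    K.index * (indAbove K X).card + 1 = X.relIndex K := by
  classical
  have hn : ∀ φ ∈ indAbove K X, Cfsg.classInner φ φ = (((fun _ => 1 : (L → ℂ) → ℕ) φ : ℕ) : ℂ) := by
    intro φ hφ
    unfold indAbove at hφ
    obtain ⟨θ, hθ, rfl⟩ := Finset.mem_image.mp hφ
    rw [classInner_indFun_eq_one K H₁ X hc hH₁X hfrob θ hθ]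
    simp
  have hsum := sum_indAbove K X (fun _ => 1) hn
  have hdeg : ∀ φ ∈ indAbove K X, Cfsg.charDegree φ = K.index := by
    intro φ hφ
    unfold indAbove at hφ
    obtain ⟨θ, hθ, rfl⟩ := Finset.mem_image.mp hφ
    obtain ⟨h0, -, -⟩ := (mem_irrAboveFn K X θ).mp hθ
    rw [charDegree_indFun_normal K θ (IsIrrCharacter.isCharacter h0)]
    have : Cfsg.charDegree θ = 1 := by
      unfold Cfsg.charDegree
      rw [irrAboveFn_linear K X (hc.trans hH₁X) θ hθ]
      simp
    rw [this, mul_one]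
  rw [Finset.sum_congr rfl (fun φ hφ => by rw [hdeg φ hφ])] at hsum
  simp only [Nat.cast_one, div_one, Finset.sum_const, nsmul_eq_mul] at hsum
  have hkpos : (0 : ℝ) < K.index := by
    have : 0 < K.index := Nat.pos_of_ne_zero Subgroup.index_ne_zero_of_finite
    exact_mod_cast this
  have h1 : ((indAbove K X).card : ℝ) * (K.index : ℝ) = (X.relIndex K : ℝ) - 1 := by
    have h2 : (K.index : ℝ) * (((indAbove K X).card : ℝ) * (K.index : ℝ)) =
        (K.index : ℝ) * ((X.relIndex K : ℝ) - 1) := by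
      rw [← hsum]
      ring
    exact mul_left_cancel₀ hkpos.ne' h2
  have h3 : ((K.index * (indAbove K X).card + 1 : ℕ) : ℝ) = (X.relIndex K : ℝ) := by
    push_cast
    linarith
  exact_mod_cast h3

end main

end Cfsg.Agent.Helper6
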