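import Mathlib
import Cfsg.Prelude.Def_Characters
import Cfsg.Prelude.Def_OddOrderChar
import Cfsg.Agent.Helper6.Coh64B

/-!
# Peterfalvi (6.4)
-/

set_option autoImplicit false
set_option linter.style.haveILetI false

namespace Cfsg.Agent.Helper6

open scoped ComplexConjugate
open scoped commutatorElement

universe u v

theorem arith_64a (e a b c₁ c₂ : ℕ) (he : Odd e) (ha : Odd a) (hb : Odd b) (ha2 : 2 ≤ a)
    (hb2 : 2 ≤ b) (h1 : e * c₁ + 1 = a * b) (h2 : e * c₂ + 1 = b) : 4 * e ^ 2 + 1 < a * b := by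
  have hb' : 2 * e ≤ b - 1 := by
    have hd : e ∣ b - 1 := ⟨c₂, by omega⟩
    have h2d : 2 ∣ b - 1 := by
      obtain ⟨t, ht⟩ := hb
      exact ⟨t, by omega⟩
    have hcop : Nat.Coprime 2 e := (Nat.coprime_two_left).mpr he
    have := Nat.Coprime.mul_dvd_of_dvd_of_dvd hcop h2d hd
    exact Nat.le_of_dvd (by omega) this
  have ha' : 2 * e ≤ a - 1 := by
    have hd : e ∣ a - 1 := by
      have h3 : (e : ℤ) ∣ (a : ℤ) - 1 := by
        refine ⟨(c₁ : ℤ) - a * c₂, ?_⟩
        have e1 : (e : ℤ) * c₁ + 1 = a * b := by exact_mod_cast h1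
        have e2 : (e : ℤ) * c₂ + 1 = b := by exact_mod_cast h2
        rw [← e2] at e1
        linarith
      have h4 : ((a - 1 : ℕ) : ℤ) = (a : ℤ) - 1 := by
        rw [Nat.cast_sub (by omega)]
        simp
      rw [← h4] at h3
      exact_mod_cast h3
    have h2d : 2 ∣ a - 1 := by
      obtain ⟨t, ht⟩ := ha
      exact ⟨t, by omega⟩
    have hcop : Nat.Coprime 2 e := (Nat.coprime_two_left).mpr he
    have := Nat.Coprime.mul_dvd_of_dvd_of_dvd hcop h2d hd
    exact Nat.le_of_dvd (by omega) this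
  have he1 : 1 ≤ e := by
    obtain ⟨t, ht⟩ := he
    omega
  have ha3 : 2 * e + 1 ≤ a := by omega
  have hb3 : 2 * e + 1 ≤ b := by omega
  calc 4 * e ^ 2 + 1 < (2 * e + 1) * (2 * e + 1) := by nlinarith
    _ ≤ a * b := Nat.mul_le_mul ha3 hb3

theorem arith_64e (e p k : ℕ) (hp : p.Prime) (hpodd : Odd p) (he : Odd e) (hd : e ∣ p - 1)
    (hk : 2 ≤ k) : 4 * e ^ 2 + 1 < p ^ k := by
  have hp2 := hp.two_le
  have h2e : 2 * e ≤ p - 1 := by
    have h2d : 2 ∣ p - 1 := by
      obtain ⟨t, ht⟩ := hpodd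
      exact ⟨t, by omega⟩
    have hcop : Nat.Coprime 2 e := (Nat.coprime_two_left).mpr he
    have := Nat.Coprime.mul_dvd_of_dvd_of_dvd hcop h2d hd
    exact Nat.le_of_dvd (by omega) this
  have h1 : p ^ 2 ≤ p ^ k := Nat.pow_le_pow_right (by omega) hk
  have h2 : 4 * e ^ 2 + 1 < p ^ 2 := by
    have : 2 * e + 1 ≤ p := by omega
    nlinarith
  omega

variable {L : Type u} [Group L] [Fintype L] {G : Type v} [Group G] [Fintype G]

set_option maxHeartbeats 800000 in
/-- Peterfalvi (6.4) -/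
theorem coherent_64 (K : Subgroup L) [hK : K.Normal] (hsolv : Group.IsSolvable K)
    (τ : (L → ℂ) → (G → ℂ)) (R : (L → ℂ) → Finset (G → ℂ))
    (hS : Cfsg.IsCoherenceSystem (Cfsg.inducedIrrAbove K ⊥) τ R) (hodd : Odd (Nat.card L))
    (M : Subgroup L) [hMn : M.Normal] (hMK : M ≤ K) [(M.subgroupOf K).Normal]
    (hnil : Group.IsNilpotent (↥K ⧸ M.subgroupOf K)) (H₁ : Subgroup L)
    (hH₁ : H₁ = ⁅K, K⁆ ⊔ M) (hH₁K : H₁ < K)
    (hfrob : ∀ k ∈ K, k ∉ H₁ → ∀ x : L, x * k * x⁻¹ * k⁻¹ ∈ H₁ → x ∈ K)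
    (hgood : (∃ N : Subgroup L, N.Normal ∧ H₁ < N ∧ N < K) ∨
      4 * K.index ^ 2 + 1 < H₁.relIndex K ∨
      (¬ ∃ p m : ℕ, p.Prime ∧ M.relIndex K = p ^ m) ∨ ⁅K, K⁆ ≤ M ∨
      (∃ p m : ℕ, p.Prime ∧ M.relIndex K = p ^ m ∧ K.index ∣ p - 1)) :
    Cfsg.IsCoherent (Cfsg.inducedIrrAbove K M) {1}ᶜ τ := by
  classical
  haveI : (⁅K, K⁆).Normal := Subgroup.commutator_normal K K
  haveI hH₁n : H₁.Normal := by
    rw [hH₁]
    exact Subgroup.sup_normal ⁅K, K⁆ M
  have hc : ⁅K, K⁆ ≤ H₁ := by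
    rw [hH₁]
    exact le_sup_left
  have hMH₁ : M ≤ H₁ := by
    rw [hH₁]
    exact le_sup_right
  have hcohH₁ := coherent_above_commutator K hsolv τ R hS H₁ hc hH₁K
  have heodd : Odd K.index := Odd.of_dvd_nat hodd (Subgroup.index_dvd_card K)
  -- case (b)
  have caseB : 4 * K.index ^ 2 + 1 < H₁.relIndex K →
      Cfsg.IsCoherent (Cfsg.inducedIrrAbove K M) {1}ᶜ τ := fun hb =>
    coherent_63 K hsolv τ R hS M H₁ K hMH₁ hH₁K.le le_rfl hnil hcohH₁ hb
  -- case (d)
  have caseD : ⁅K, K⁆ ≤ M → Cfsg.IsCoherent (Cfsg.inducedIrrAbove K M) {1}ᶜ τ := by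
    intro hd
    have : H₁ = M := by
      rw [hH₁]
      exact sup_eq_right.mpr hd
    rw [← this]
    exact hcohH₁
  -- case (a)
  have caseA : (∃ N : Subgroup L, N.Normal ∧ H₁ < N ∧ N < K) →
      Cfsg.IsCoherent (Cfsg.inducedIrrAbove K M) {1}ᶜ τ := by
    rintro ⟨N, hNn, hH₁N, hNK⟩
    haveI := hNn
    apply caseB
    have h1 := index_mul_card_indAbove K H₁ H₁ hc le_rfl hfrob
    have h2 := index_mul_card_indAbove K H₁ N hc hH₁N.le hfrob
    have hab : H₁.relIndex N * N.relIndex K = H₁.relIndex K :=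
      Subgroup.relIndex_mul_relIndex H₁ N K hH₁N.le hNK.le
    rw [← hab] at h1 ⊢
    have hoddN : Odd (Nat.card N) := Odd.of_dvd_nat hodd (Subgroup.card_subgroup_dvd_card N)
    have hoddK : Odd (Nat.card K) := Odd.of_dvd_nat hodd (Subgroup.card_subgroup_dvd_card K)
    have ha : Odd (H₁.relIndex N) := Odd.of_dvd_nat hoddN (Subgroup.relIndex_dvd_card H₁ N)
    have hb : Odd (N.relIndex K) := Odd.of_dvd_nat hoddK (Subgroup.relIndex_dvd_card N K)
    have ha2 : 2 ≤ H₁.relIndex N := by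
      have h0 : H₁.relIndex N ≠ 0 := by
        haveI : H₁.IsFiniteRelIndex N := Subgroup.isFiniteRelIndex_of_finiteIndex
        exact Subgroup.relIndex_ne_zero
      have h1' : H₁.relIndex N ≠ 1 := by
        intro h
        rw [Subgroup.relIndex_eq_one] at h
        exact absurd h (not_le_of_gt hH₁N)
      omega
    have hb2 : 2 ≤ N.relIndex K := by
      have h0 : N.relIndex K ≠ 0 := by
        haveI : N.IsFiniteRelIndex K := Subgroup.isFiniteRelIndex_of_finiteIndex
        exact Subgroup.relIndex_ne_zero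
      have h1' : N.relIndex K ≠ 1 := by
        intro h
        rw [Subgroup.relIndex_eq_one] at h
        exact absurd h (not_le_of_gt hNK)
      omega
    exact arith_64a K.index (H₁.relIndex N) (N.relIndex K) _ _ heodd ha hb ha2 hb2 h1 h2
  have hrel : H₁.relIndex K = (commutator (↥K ⧸ M.subgroupOf K)).index := by
    rw [hH₁]
    exact relIndex_commutator_sup K M hMK
  have hcardQ : Nat.card (↥K ⧸ M.subgroupOf K) = M.relIndex K := rfl
  rcases hgood with hA | hB | hC | hD | hE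
  · exact caseA hA
  · exact caseB hB
  · -- case (c)
    by_cases hpp : ∃ p m : ℕ, p.Prime ∧ H₁.relIndex K = p ^ m
    · exfalso
      obtain ⟨p, k, hp, hk⟩ := hpp
      rw [hrel] at hk
      obtain ⟨m, hm⟩ := card_eq_prime_pow_of_commutator_index hnil p k hp hk
      exact hC ⟨p, m, hp, hcardQ ▸ hm⟩
    · exact caseA (exists_normal_between K H₁ hc hH₁K hpp)
  · exact caseD hD
  · -- case (e)
    obtain ⟨p, m, hp, hMrel, hdvd⟩ := hE
    have hdvd1 : H₁.relIndex K ∣ p ^ m := by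
      rw [← hMrel]
      exact Subgroup.relIndex_dvd_of_le_left K hMH₁
    obtain ⟨k, hkm, hk⟩ := (Nat.dvd_prime_pow hp).mp hdvd1
    have hk0 : k ≠ 0 := by
      rintro rfl
      rw [pow_zero, Subgroup.relIndex_eq_one] at hk
      exact absurd hk (not_le_of_gt hH₁K)
    by_cases hk1 : k = 1
    · apply caseD
      apply commutator_le_of_quotient_commutator_eq_bot K M hMK
      apply commutator_eq_bot_of_index_prime hnil p hp
      rw [← hrel, hk, hk1, pow_one]
    · apply caseB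
      rw [hk]
      have hpodd : Odd p := by
        have hm0 : m ≠ 0 := by
          rintro rfl
          omega
        have h1 : p ∣ M.relIndex K := by
          rw [hMrel]
          exact dvd_pow_self p hm0
        have h2 : p ∣ Nat.card L :=
          (h1.trans (Subgroup.relIndex_dvd_card M K)).trans (Subgroup.card_subgroup_dvd_card K)
        exact Odd.of_dvd_nat hodd h2
      exact arith_64e K.index p k hp hpodd heodd hdvd (by omega)

end Cfsg.Agent.Helper6
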