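import Mathlib
import Cfsg.Prelude.Def_Characters
import Cfsg.Prelude.Def_OddOrderChar
import Cfsg.Agent.Helper6.Coh64C
import Cfsg.Agent.Helper6.PermCore
import Cfsg.Agent.Helper6.SmallDegree

/-!
# Peterfalvi (6.6), part A: the identification of `S ∖ S(Z)` and arithmetic
-/

set_option autoImplicit false
set_option linter.style.haveILetI false

namespace Cfsg.Agent.Helper6

open scoped ComplexConjugate

universe u v

variable {L : Type u} [Group L] [Fintype L]

/-- the first assertion of Peterfalvi (6.6) -/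
theorem diff_inducedIrrAbove_eq (K Z : Subgroup L) [hK : K.Normal] [hZ : Z.Normal] (hZK : Z ≤ K)
    (hirr : ∀ χ ∈ Cfsg.inducedIrrAbove K ⊥ \ Cfsg.inducedIrrAbove K Z, Cfsg.IsIrrCharacter L χ) :
    Cfsg.inducedIrrAbove K ⊥ \ Cfsg.inducedIrrAbove K Z =
      {χ | Cfsg.IsIrrCharacter L χ ∧ ∃ z ∈ Z, χ z ≠ χ 1} := by
  classical
  haveI : Fintype K := Fintype.ofFinite K
  ext χ
  constructor
  · rintro ⟨⟨θ, h0, h1, h2, rfl⟩, hnot⟩
    refine ⟨hirr _ ⟨⟨θ, h0, h1, h2, rfl⟩, hnot⟩, ?_⟩
    by_contra hall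
    push Not at hall
    apply hnot
    refine ⟨θ, h0, h1, ?_, rfl⟩
    exact (ker_indFun_iff Z K hZK θ (IsIrrCharacter.isCharacter h0)).mpr hall
  · rintro ⟨hχ, z, hz, hne⟩
    have hχc := IsIrrCharacter.isCharacter hχ
    have hχcf := IsCharacter.isClassFunction hχc
    have hres : Cfsg.IsCharacter K (fun n : K => χ n) := IsCharacter.restrict K hχc
    have hres0 : (fun n : K => χ n) ≠ 0 := by
      intro h
      have h1 := congrFun h 1
      exact IsIrrCharacter.apply_one_ne_zero hχ h1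
    obtain ⟨θ, h0, hθ⟩ := exists_irr_constituent hres hres0
    set ψ : L → ℂ := Cfsg.indFun K θ with hψ
    have hψc : Cfsg.IsCharacter L ψ := isCharacter_indFun K _ (IsIrrCharacter.isCharacter h0)
    have hψχ : Cfsg.classInner ψ χ ≠ 0 := by
      rw [hψ, frobenius_reciprocity K θ χ hχcf]
      intro h
      apply hθ
      have h3 := classInner_conj_symm (fun n : K => χ n) θ
      rw [h] at h3
      have h4 := congrArg (starRingEnd ℂ) h3
      rw [Complex.conj_conj, map_zero] at h4
      exact h4.symm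
    have hnotZ : ¬ ∀ a : K, (a : L) ∈ Z → θ a = θ 1 := by
      intro hall
      have h4 := (ker_indFun_iff Z K hZK θ (IsIrrCharacter.isCharacter h0)).mp hall
      exact hne (constituent_apply_eq_of_apply_eq hψc hχ hψχ z (h4 z hz))
    have hθ1 : θ ≠ (fun _ => 1) := by
      intro h
      apply hnotZ
      intro a _
      rw [h]
    have hmem : ψ ∈ Cfsg.inducedIrrAbove K ⊥ \ Cfsg.inducedIrrAbove K Z := by
      refine ⟨⟨θ, h0, hθ1, ?_, rfl⟩, ?_⟩
      · intro a ha
        have : a = 1 := by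
          apply Subtype.ext
          simpa using ha
        rw [this]
      · rintro ⟨θ', h0', -, h2', heq⟩
        apply hnotZ
        have h4 := (ker_indFun_iff Z K hZK θ' (IsIrrCharacter.isCharacter h0')).mp h2'
        rw [← heq] at h4
        exact (ker_indFun_iff Z K hZK θ (IsIrrCharacter.isCharacter h0)).mpr h4
    have hψirr := hirr ψ hmem
    have heq : ψ = χ := by
      by_contra hne'
      exact hψχ (classInner_irr_ne hψirr hχ hne')
    rw [← heq]
    exact hmem

/-- arithmetic: a smaller power of an odd prime -/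
theorem arith_66 (p i j : ℕ) (hp : p.Prime) (hp2 : p ≠ 2) (hlt : p ^ i < p ^ j) :
    2 * p ^ j * p ^ i < (p ^ j) ^ 2 := by
  have hp3 : 3 ≤ p := by
    have := hp.two_le
    omega
  have hij : i < j := (Nat.pow_lt_pow_iff_right hp.one_lt).mp hlt
  obtain ⟨k, rfl⟩ : ∃ k, j = i + 1 + k := ⟨j - (i + 1), by omega⟩
  have h1 : p ^ (i + 1 + k) = p ^ i * p * p ^ k := by ring
  have hpos : 0 < p ^ i := pow_pos hp.pos i
  have hposk : 0 < p ^ k := pow_pos hp.pos k
  rw [h1]
  have h2 : 2 * (p ^ i * p * p ^ k) * p ^ i < (p ^ i * p * p ^ k) * (p ^ i * p * p ^ k) := by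
    have h3 : 2 * p ^ i < p ^ i * p * p ^ k := by
      calc 2 * p ^ i < 3 * p ^ i := by omega
        _ ≤ p * p ^ i := Nat.mul_le_mul_right _ hp3
        _ = p ^ i * p * 1 := by ring
        _ ≤ p ^ i * p * p ^ k := Nat.mul_le_mul_left _ hposk
    have hpos2 : 0 < p ^ i * p * p ^ k := by positivity
    calc 2 * (p ^ i * p * p ^ k) * p ^ i = (2 * p ^ i) * (p ^ i * p * p ^ k) := by ring
      _ < (p ^ i * p * p ^ k) * (p ^ i * p * p ^ k) := Nat.mul_lt_mul_of_pos_right h3 hpos2
  rw [sq]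
  exact h2

end Cfsg.Agent.Helper6
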