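import Mathlib
import Cfsg.Prelude.Def_Characters
import Cfsg.Prelude.Def_OddOrderChar
import Cfsg.Agent.Helper6.Coh66A

/-!
# Peterfalvi (6.6), part B: degrees of the members of `S ∖ S(Z)` for a `p`-group `K`
-/

set_option autoImplicit false
set_option linter.style.haveILetI false

namespace Cfsg.Agent.Helper6

open scoped ComplexConjugate

universe u v

variable {L : Type u} [Group L] [Fintype L]

/-- `|K : Z| * |Z| = |K|` -/
theorem relIndex_mul_card_of_le (K Z : Subgroup L) (hZK : Z ≤ K) :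
    Z.relIndex K * Nat.card Z = Nat.card K := by
  have h1 := (Z.subgroupOf K).index_mul_card
  rw [Nat.card_congr (Subgroup.subgroupOfEquivOfLe hZK).toEquiv] at h1
  exact h1

/-- the degrees of the members of `S ∖ S(Z)` -/
theorem charDegree_of_mem_diff (K : Subgroup L) [hK : K.Normal] (p : ℕ) (hp : p.Prime) (m : ℕ)
    (hcard : Nat.card K = p ^ m) (Z : Subgroup L) (hZK : Z ≤ K)
    (hZc : ∀ z ∈ Z, ∀ k ∈ K, z * k = k * z) (φ : L → ℂ)
    (hφ : φ ∈ indAbove K ⊥) :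
    ∃ i : ℕ, Cfsg.charDegree φ = K.index * p ^ i ∧ (p ^ i) ^ 2 ∣ Z.relIndex K := by
  classical
  unfold indAbove at hφ
  obtain ⟨θ, hθ, rfl⟩ := Finset.mem_image.mp hφ
  obtain ⟨h0, h1, h2⟩ := (mem_irrAboveFn K ⊥ θ).mp hθ
  obtain ⟨n, hn1, hndvd, hnpos⟩ := IsIrrCharacter.degree_dvd_card h0
  have hcd : Cfsg.charDegree θ = n := by
    have h3 := charDegree_cast_of_isCharacter (IsIrrCharacter.isCharacter h0)
    rw [hn1] at h3
    exact_mod_cast h3
  rw [hcard] at hndvd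
  obtain ⟨i, -, hi⟩ := (Nat.dvd_prime_pow hp).mp hndvd
  refine ⟨i, ?_, ?_⟩
  · rw [charDegree_indFun_normal K θ (IsIrrCharacter.isCharacter h0), hcd, hi]
  · have hb := charDegree_sq_le K ⊥ K Z hZK le_rfl bot_le (by
      intro x hx y hy
      rw [Subgroup.mem_bot]
      have := hZc x hx y hy
      rw [this]
      group) θ hθ
    rw [hcd, hi] at hb
    have hrel := relIndex_mul_card_of_le K Z hZK
    have hrdvd : Z.relIndex K ∣ p ^ m := by
      rw [← hcard]
      exact Dvd.intro _ hrel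
    obtain ⟨j, -, hj⟩ := (Nat.dvd_prime_pow hp).mp hrdvd
    have hKpos : 0 < Nat.card K := Nat.card_pos
    have hZpos : 0 < Nat.card Z := Nat.card_pos
    have h4 : (p ^ i) ^ 2 * Nat.card Z ≤ Z.relIndex K * Nat.card Z := by
      rw [hrel]
      have h5 : (p ^ i) ^ 2 * Nat.card K * Nat.card Z ≤ Nat.card K * Nat.card K := by
        rw [← sq]
        exact hb
      have h6 : (p ^ i) ^ 2 * Nat.card Z * Nat.card K ≤ Nat.card K * Nat.card K := by
        calc (p ^ i) ^ 2 * Nat.card Z * Nat.card K = (p ^ i) ^ 2 * Nat.card K * Nat.card Z := by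
              ring
          _ ≤ Nat.card K * Nat.card K := h5
      exact Nat.le_of_mul_le_mul_right h6 hKpos
    have h7 : (p ^ i) ^ 2 ≤ Z.relIndex K := Nat.le_of_mul_le_mul_right h4 hZpos
    rw [hj, ← pow_mul] at h7 ⊢
    have h8 : i * 2 ≤ j := (Nat.pow_le_pow_iff_right hp.one_lt).mp h7
    exact pow_dvd_pow p h8

/-- the sum of the squares of the degrees over `S ∖ S(Z)` -/
theorem sum_sq_diff (K : Subgroup L) [hK : K.Normal] (Z : Subgroup L) [hZ : Z.Normal]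
    (hZK : Z ≤ K)
    (hirr : ∀ χ ∈ indAbove K ⊥ \ indAbove K Z, Cfsg.IsIrrCharacter L χ) :
    ∑ φ ∈ indAbove K ⊥ \ indAbove K Z, Cfsg.charDegree φ ^ 2 + K.index * Z.relIndex K =
      K.index * Nat.card K := by
  classical
  set n : (L → ℂ) → ℕ := fun φ => ⌊(Cfsg.classInner φ φ).re⌋₊ with hn
  have hnS : ∀ φ ∈ indAbove K ⊥, Cfsg.classInner φ φ = (n φ : ℂ) := by
    intro φ hφ
    have hφ' := hφ
    unfold indAbove at hφ'
    obtain ⟨θ, hθ, rfl⟩ := Finset.mem_image.mp hφ'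
    obtain ⟨h0, -, -⟩ := (mem_irrAboveFn K ⊥ θ).mp hθ
    have hc := isCharacter_indFun K θ (IsIrrCharacter.isCharacter h0)
    obtain ⟨k, hk⟩ := classInner_char_char_nat hc hc
    simp only [hn, hk, Complex.natCast_re, Nat.floor_natCast]
  have h1 := sum_indAbove K ⊥ n hnS
  have h2 := sum_indAbove K Z n (fun φ hφ => hnS φ (indAbove_subset_bot K Z hφ))
  have h3 := Finset.sum_sdiff (f := fun φ => ((Cfsg.charDegree φ : ℝ) ^ 2 / (n φ : ℝ)))
    (indAbove_subset_bot K Z)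
  rw [h1, h2, Subgroup.relIndex_bot_left] at h3
  have h4 : ∑ φ ∈ indAbove K ⊥ \ indAbove K Z, ((Cfsg.charDegree φ : ℝ) ^ 2 / (n φ : ℝ)) =
      ((∑ φ ∈ indAbove K ⊥ \ indAbove K Z, Cfsg.charDegree φ ^ 2 : ℕ) : ℝ) := by
    rw [Nat.cast_sum]
    apply Finset.sum_congr rfl
    intro φ hφ
    have h5 := hnS φ (Finset.mem_sdiff.mp hφ).1
    rw [classInner_irr_self (hirr φ hφ)] at h5
    have h6 : n φ = 1 := by exact_mod_cast h5.symm
    rw [h6]
    push_cast
    ring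
  rw [h4] at h3
  have h5 : ((∑ φ ∈ indAbove K ⊥ \ indAbove K Z, Cfsg.charDegree φ ^ 2 +
      K.index * Z.relIndex K : ℕ) : ℝ) = ((K.index * Nat.card K : ℕ) : ℝ) := by
    push_cast at h3 ⊢
    linarith
  exact_mod_cast h5

/-- the square of each degree divides the sum of the squares of all degrees -/
theorem sq_charDegree_dvd_sum (K : Subgroup L) [hK : K.Normal] (p : ℕ) (hp : p.Prime) (m : ℕ)
    (hcard : Nat.card K = p ^ m) (hcop : Nat.Coprime K.index p) (Z : Subgroup L) [hZ : Z.Normal]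
    (hZK : Z ≤ K) (hZc : ∀ z ∈ Z, ∀ k ∈ K, z * k = k * z)
    (hirr : ∀ χ ∈ indAbove K ⊥ \ indAbove K Z, Cfsg.IsIrrCharacter L χ) (χ : L → ℂ)
    (hχ : χ ∈ indAbove K ⊥ \ indAbove K Z) :
    Cfsg.charDegree χ ^ 2 ∣ ∑ φ ∈ indAbove K ⊥ \ indAbove K Z, Cfsg.charDegree φ ^ 2 := by
  classical
  set XF := indAbove K ⊥ \ indAbove K Z with hXF
  set e := K.index with he
  have hepos : 0 < e := Nat.pos_of_ne_zero Subgroup.index_ne_zero_of_finite
  have hdeg : ∀ φ ∈ XF, ∃ i : ℕ, Cfsg.charDegree φ = e * p ^ i ∧ (p ^ i) ^ 2 ∣ Z.relIndex K :=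
    fun φ hφ => charDegree_of_mem_diff K p hp m hcard Z hZK hZc φ (Finset.mem_sdiff.mp hφ).1
  choose! ii hii using hdeg
  have hsum := sum_sq_diff K Z hZK hirr
  rw [← hXF, ← he] at hsum
  have hsum2 : ∑ φ ∈ XF, Cfsg.charDegree φ ^ 2 = e ^ 2 * ∑ φ ∈ XF, (p ^ ii φ) ^ 2 := by
    rw [Finset.mul_sum]
    apply Finset.sum_congr rfl
    intro φ hφ
    rw [(hii φ hφ).1]
    ring
  set T := ∑ φ ∈ XF, (p ^ ii φ) ^ 2 with hT
  have hrel := relIndex_mul_card_of_le K Z hZK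
  set r := Z.relIndex K with hr
  -- e * T + r = r * |Z|
  have h1 : e * T + r = r * Nat.card Z := by
    have h2 : e * (e * T + r) = e * (r * Nat.card Z) := by
      rw [hrel, ← hsum, hsum2]
      ring
    exact Nat.eq_of_mul_eq_mul_left hepos h2
  obtain ⟨i, hi1, hi2⟩ : ∃ i, Cfsg.charDegree χ = e * p ^ i ∧ (p ^ i) ^ 2 ∣ r :=
    ⟨ii χ, hii χ hχ⟩
  have hZpos : 0 < Nat.card Z := Nat.card_pos
  have h3 : (p ^ i) ^ 2 ∣ e * T := by
    have h4 : e * T = r * (Nat.card Z - 1) := by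
      have : r * Nat.card Z = r * (Nat.card Z - 1) + r := by
        conv_lhs => rw [show Nat.card Z = (Nat.card Z - 1) + 1 by omega]
        ring
      omega
    rw [h4]
    exact Dvd.dvd.mul_right hi2 _
  have hcop2 : Nat.Coprime ((p ^ i) ^ 2) e := by
    apply Nat.Coprime.pow_left
    apply Nat.Coprime.pow_left
    exact hcop.symm
  have h5 : (p ^ i) ^ 2 ∣ T := hcop2.dvd_of_dvd_mul_left h3
  rw [hsum2, hi1, mul_pow]
  exact Nat.mul_dvd_mul_left _ h5

end Cfsg.Agent.Helper6
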