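import Mathlib
import Cfsg.Prelude.Def_Characters
import Cfsg.Prelude.Def_OddOrderChar
import Cfsg.Agent.Helper6.Coh66B

/-!
# Peterfalvi (6.6), part C: the induction
-/

set_option autoImplicit false
set_option linter.style.haveILetI false

namespace Cfsg.Agent.Helper6

open scoped ComplexConjugate

universe u v

variable {L : Type u} [Group L] [Fintype L] {G : Type v} [Group G] [Fintype G]

theorem charDegree_conjFun_eq (φ : L → ℂ) : Cfsg.charDegree (Cfsg.conjFun φ) = Cfsg.charDegree φ := by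
  unfold Cfsg.charDegree Cfsg.conjFun
  rw [Complex.conj_re]

set_option maxHeartbeats 1600000 in
/-- the induction of Peterfalvi (6.6), for a `p`-group `K` with `p` odd -/
theorem coherent_66_aux (K : Subgroup L) [hK : K.Normal] (τ : (L → ℂ) → (G → ℂ))
    (R : (L → ℂ) → Finset (G → ℂ))
    (hS : Cfsg.IsCoherenceSystem (Cfsg.inducedIrrAbove K ⊥) τ R)
    (p : ℕ) (hp : p.Prime) (hp2 : p ≠ 2) (m : ℕ) (hcard : Nat.card K = p ^ m)
    (hcop : Nat.Coprime K.index p) (Z : Subgroup L) [hZ : Z.Normal] (hZK : Z ≤ K)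
    (hZc : ∀ z ∈ Z, ∀ k ∈ K, z * k = k * z)
    (hirr : ∀ χ ∈ indAbove K ⊥ \ indAbove K Z, Cfsg.IsIrrCharacter L χ) :
    ∀ N : ℕ, ∀ Y : Finset (L → ℂ), Y.card ≤ N → Y ⊆ indAbove K ⊥ \ indAbove K Z → Y.Nonempty →
      (∀ φ ∈ Y, Cfsg.conjFun φ ∈ Y) →
      (∀ ξ ∈ Y, ∀ ξ' ∈ indAbove K ⊥ \ indAbove K Z, ξ' ∉ Y →
        Cfsg.charDegree ξ ≤ Cfsg.charDegree ξ') →
      Cfsg.IsCoherent (↑Y : Set (L → ℂ)) {1}ᶜ τ := by
  classical
  set XF := indAbove K ⊥ \ indAbove K Z with hXF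
  set S : Set (L → ℂ) := Cfsg.inducedIrrAbove K ⊥ with hSdef
  set e := K.index with he
  have hepos : 0 < e := Nat.pos_of_ne_zero Subgroup.index_ne_zero_of_finite
  set d : (L → ℂ) → ℕ := fun φ => Cfsg.charDegree φ with hd
  set n : (L → ℂ) → ℕ := fun φ => ⌊(Cfsg.classInner φ φ).re⌋₊ with hn
  have hdS : ∀ φ ∈ S, φ 1 = (d φ : ℂ) := fun φ hφ =>
    (charDegree_cast_of_isCharacter (hS.isCharacter φ hφ)).symm
  have hnS : ∀ φ ∈ S, Cfsg.classInner φ φ = (n φ : ℂ) := by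
    intro φ hφ
    obtain ⟨k, hk⟩ := classInner_char_char_nat (hS.isCharacter φ hφ) (hS.isCharacter φ hφ)
    simp only [hn, hk, Complex.natCast_re, Nat.floor_natCast]
  have hXFS : ∀ φ ∈ XF, φ ∈ S := by
    intro φ hφ
    rw [hSdef, ← coe_indAbove]
    exact Finset.mem_coe.mpr (Finset.mem_sdiff.mp hφ).1
  have hnX : ∀ φ ∈ XF, n φ = 1 := by
    intro φ hφ
    have h5 := hnS φ (hXFS φ hφ)
    rw [classInner_irr_self (hirr φ hφ)] at h5
    exact_mod_cast h5.symm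
  have hdeg : ∀ φ ∈ XF, ∃ i : ℕ, d φ = e * p ^ i := by
    intro φ hφ
    obtain ⟨i, hi, -⟩ := charDegree_of_mem_diff K p hp m hcard Z hZK hZc φ
      (Finset.mem_sdiff.mp hφ).1
    exact ⟨i, hi⟩
  have hdvd_of_le : ∀ φ ∈ XF, ∀ ψ ∈ XF, d φ ≤ d ψ → d φ ∣ d ψ := by
    intro φ hφ ψ hψ hle
    obtain ⟨i, hi⟩ := hdeg φ hφ
    obtain ⟨j, hj⟩ := hdeg ψ hψ
    rw [hi, hj] at hle ⊢
    have h1 : p ^ i ≤ p ^ j := Nat.le_of_mul_le_mul_left hle hepos
    have h2 : i ≤ j := (Nat.pow_le_pow_iff_right hp.one_lt).mp h1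
    exact Nat.mul_dvd_mul_left _ (pow_dvd_pow p h2)
  have hlt_arith : ∀ φ ∈ XF, ∀ ψ ∈ XF, d φ < d ψ → 2 * d ψ * d φ < d ψ ^ 2 := by
    intro φ hφ ψ hψ hlt
    obtain ⟨i, hi⟩ := hdeg φ hφ
    obtain ⟨j, hj⟩ := hdeg ψ hψ
    rw [hi, hj] at hlt ⊢
    have h1 : p ^ i < p ^ j := Nat.lt_of_mul_lt_mul_left hlt
    have h2 := arith_66 p i j hp hp2 h1
    have he2 : 0 < e * e := Nat.mul_pos hepos hepos
    calc 2 * (e * p ^ j) * (e * p ^ i) = (e * e) * (2 * p ^ j * p ^ i) := by ring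
      _ < (e * e) * (p ^ j) ^ 2 := Nat.mul_lt_mul_of_pos_left h2 he2
      _ = (e * p ^ j) ^ 2 := by ring
  intro N
  induction N with
  | zero =>
    intro Y hcardY _ hne _ _
    exfalso
    have : Y.card = 0 := by omega
    rw [Finset.card_eq_zero] at this
    rw [this] at hne
    exact Finset.not_nonempty_empty hne
  | succ N ih =>
    intro Y hcardY hYX hYne hYconj hYord
    have hYS : (↑Y : Set (L → ℂ)) ⊆ S := by
      intro φ hφ
      exact hXFS φ (hYX (Finset.mem_coe.mp hφ))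
    by_cases huni : ∀ φ ∈ Y, ∀ ψ ∈ Y, d φ = d ψ
    · -- uniform degree
      have hsys : Cfsg.IsCoherenceSystem (↑Y : Set (L → ℂ)) τ R :=
        coherenceSystem_subset S (↑Y) τ R hS hYS (by
          obtain ⟨y, hy⟩ := hYne
          exact ⟨y, Finset.mem_coe.mpr hy⟩) (fun χ hχ =>
          Finset.mem_coe.mpr (hYconj χ (Finset.mem_coe.mp hχ)))
      apply coherent_of_uniform_degree (↑Y) τ R hsys
      intro φ hφ ψ hψ
      rw [hdS φ (hYS hφ), hdS ψ (hYS hψ), huni φ (Finset.mem_coe.mp hφ) ψ (Finset.mem_coe.mp hψ)]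
    · -- a member of maximal degree
      obtain ⟨χ, hχY, hχmax⟩ := Finset.exists_max_image Y d hYne
      have hχX : χ ∈ XF := hYX hχY
      have hχS : χ ∈ S := hXFS χ hχX
      obtain ⟨ξ₁, hξ₁Y, hξ₁lt⟩ : ∃ ξ₁ ∈ Y, d ξ₁ < d χ := by
        by_contra hcon
        push Not at hcon
        apply huni
        intro φ hφ ψ hψ
        have h1 := le_antisymm (hχmax φ hφ) (hcon φ hφ)
        have h2 := le_antisymm (hχmax ψ hψ) (hcon ψ hψ)
        rw [h1, h2]
      have hdconj : ∀ φ, d (Cfsg.conjFun φ) = d φ := fun φ => charDegree_conjFun_eq φ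
      set Y' : Finset (L → ℂ) := (Y.erase χ).erase (Cfsg.conjFun χ) with hY'
      have hmemY' : ∀ φ, φ ∈ Y' ↔ φ ≠ Cfsg.conjFun χ ∧ φ ≠ χ ∧ φ ∈ Y := by
        intro φ
        rw [hY', Finset.mem_erase, Finset.mem_erase]
      have hY'Y : Y' ⊆ Y := fun φ hφ => ((hmemY' φ).mp hφ).2.2
      have hξ₁Y' : ξ₁ ∈ Y' := by
        rw [hmemY']
        refine ⟨?_, ?_, hξ₁Y⟩
        · intro h
          rw [h, hdconj] at hξ₁lt
          exact lt_irrefl _ hξ₁lt
        · intro h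
          rw [h] at hξ₁lt
          exact lt_irrefl _ hξ₁lt
      have hχY' : χ ∉ Y' := fun h => ((hmemY' χ).mp h).2.1 rfl
      have hbχY' : Cfsg.conjFun χ ∉ Y' := fun h => ((hmemY' _).mp h).1 rfl
      have hY'conj : ∀ φ ∈ Y', Cfsg.conjFun φ ∈ Y' := by
        intro φ hφ
        obtain ⟨h1, h2, h3⟩ := (hmemY' φ).mp hφ
        rw [hmemY']
        refine ⟨?_, ?_, hYconj φ h3⟩
        · intro h
          apply h2
          have := congrArg Cfsg.conjFun h
          rwa [conjFun_conjFun, conjFun_conjFun] at this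
        · intro h
          apply h1
          have := congrArg Cfsg.conjFun h
          rwa [conjFun_conjFun] at this
      have hcardY' : Y'.card ≤ N := by
        have h1 : Y'.card < Y.card := by
          apply Finset.card_lt_card
          rw [Finset.ssubset_iff_of_subset hY'Y]
          exact ⟨χ, hχY, hχY'⟩
        omega
      have hY'ord : ∀ ξ ∈ Y', ∀ ξ' ∈ XF, ξ' ∉ Y' → d ξ ≤ d ξ' := by
        intro ξ hξ ξ' hξ' hnot
        by_cases hξ'Y : ξ' ∈ Y
        · have h1 : ξ' = Cfsg.conjFun χ ∨ ξ' = χ := by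
            by_contra hcon
            push Not at hcon
            exact hnot ((hmemY' ξ').mpr ⟨hcon.1, hcon.2, hξ'Y⟩)
          rcases h1 with rfl | rfl
          · rw [hdconj]
            exact hχmax ξ (hY'Y hξ)
          · exact hχmax ξ (hY'Y hξ)
        · exact hYord ξ (hY'Y hξ) ξ' hξ' hξ'Y
      have hcohY' := ih Y' hcardY' (fun φ hφ => hYX (hY'Y hφ)) ⟨ξ₁, hξ₁Y'⟩ hY'conj hY'ord
      have hY'S : (↑Y' : Set (L → ℂ)) ⊆ S := fun φ hφ =>
        hYS (Finset.mem_coe.mpr (hY'Y (Finset.mem_coe.mp hφ)))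
      have hξ₁X : ξ₁ ∈ XF := hYX hξ₁Y
      have hdvd : d ξ₁ ∣ d χ := hdvd_of_le ξ₁ hξ₁X χ hχX hξ₁lt.le
      -- the inequality
      have hdvdsum : d χ ^ 2 ∣ ∑ φ ∈ Y', d φ ^ 2 := by
        have h1 := sq_charDegree_dvd_sum K p hp m hcard hcop Z hZK hZc hirr χ hχX
        have h2 := Finset.sum_sdiff (f := fun φ => d φ ^ 2) (fun φ hφ => hYX (hY'Y hφ) :
          Y' ⊆ XF)
        have h3 : d χ ^ 2 ∣ ∑ φ ∈ XF \ Y', d φ ^ 2 := by
          apply Finset.dvd_sum
          intro φ hφ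
          obtain ⟨hφX, hφY'⟩ := Finset.mem_sdiff.mp hφ
          have h4 : d χ ≤ d φ := by
            by_cases hφY : φ ∈ Y
            · have h5 : φ = Cfsg.conjFun χ ∨ φ = χ := by
                by_contra hcon
                push Not at hcon
                exact hφY' ((hmemY' φ).mpr ⟨hcon.1, hcon.2, hφY⟩)
              rcases h5 with rfl | rfl
              · rw [hdconj]
              · exact le_rfl
            · exact hYord χ hχY φ hφX hφY
          exact pow_dvd_pow_of_dvd (hdvd_of_le χ hχX φ hφX h4) 2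
        have h5 : d χ ^ 2 ∣ ∑ φ ∈ XF \ Y', d φ ^ 2 + ∑ φ ∈ Y', d φ ^ 2 := by
          rw [h2]
          exact h1
        exact (Nat.dvd_add_right h3).mp h5
      have hsumpos : 0 < ∑ φ ∈ Y', d φ ^ 2 := by
        apply Finset.sum_pos' (fun _ _ => Nat.zero_le _)
        refine ⟨ξ₁, hξ₁Y', ?_⟩
        obtain ⟨i, hi⟩ := hdeg ξ₁ hξ₁X
        rw [hi]
        have : 0 < p ^ i := pow_pos hp.pos i
        positivity
      have hle : d χ ^ 2 ≤ ∑ φ ∈ Y', d φ ^ 2 := Nat.le_of_dvd hsumpos hdvdsum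
      have hltN : 2 * d χ * d ξ₁ < ∑ φ ∈ Y', d φ ^ 2 :=
        lt_of_lt_of_le (hlt_arith ξ₁ hξ₁X χ hχX hξ₁lt) hle
      have hineq : (2 * d χ * d ξ₁ : ℝ) < ∑ φ ∈ Y', ((d φ : ℝ) ^ 2 / (n φ : ℝ)) := by
        have h1 : ∑ φ ∈ Y', ((d φ : ℝ) ^ 2 / (n φ : ℝ)) = ((∑ φ ∈ Y', d φ ^ 2 : ℕ) : ℝ) := by
          rw [Nat.cast_sum]
          apply Finset.sum_congr rfl
          intro φ hφ
          rw [hnX φ (hYX (hY'Y hφ))]
          push_cast
          ring
        rw [h1]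
        exact_mod_cast hltN
      have hext := cs_extend_coherent S τ R hS d n hdS hnS Y' hY'S hY'conj hcohY' χ hχS hχY'
        hbχY' ξ₁ hξ₁Y' hdvd hineq
      have hcoe : (↑Y : Set (L → ℂ)) = ↑Y' ∪ {χ, Cfsg.conjFun χ} := by
        ext f
        simp only [Set.mem_union, Finset.mem_coe, Set.mem_insert_iff, Set.mem_singleton_iff,
          hmemY']
        constructor
        · intro hf
          by_cases h1 : f = χ
          · exact Or.inr (Or.inl h1)
          · by_cases h2 : f = Cfsg.conjFun χ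
            · exact Or.inr (Or.inr h2)
            · exact Or.inl ⟨h2, h1, hf⟩
        · rintro (⟨-, -, hf⟩ | rfl | rfl)
          · exact hf
          · exact hχY
          · exact hYconj _ hχY
      rw [hcoe]
      exact hext

end Cfsg.Agent.Helper6
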