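import Mathlib
import Cfsg.Prelude.Def_Characters
import Cfsg.Prelude.Def_OddOrderChar
import Cfsg.Agent.Helper6.Coh66C
import Cfsg.Agent.Helper6.Regular
import Cfsg.Agent.Helper6.IrrCount

/-!
# Peterfalvi (6.6)
-/

set_option autoImplicit false
set_option linter.style.haveILetI false

namespace Cfsg.Agent.Helper6

open scoped ComplexConjugate

universe u v

/-- for `z ≠ 1` some irreducible character does not have `z` in its kernel -/
theorem exists_irr_apply_ne_one {K : Type u} [Group K] [Finite K] (z : K) (hz : z ≠ 1) :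
    ∃ θ : K → ℂ, Cfsg.IsIrrCharacter K θ ∧ θ z ≠ θ 1 := by
  classical
  by_contra hcon
  push Not at hcon
  haveI : Fintype K := Fintype.ofFinite K
  haveI : Finite (Cfsg.IrrCharacter K) := irr_finite
  haveI : Fintype (Cfsg.IrrCharacter K) := Fintype.ofFinite _
  have h1 := sum_degree_mul_irr z
  rw [if_neg hz] at h1
  have h2 := sum_sq_degrees (G := K)
  have h3 : ∀ χ : Cfsg.IrrCharacter K, (χ : K → ℂ) 1 * (χ : K → ℂ) z = (χ : K → ℂ) 1 ^ 2 := by
    intro χ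
    rw [hcon χ χ.2, sq]
  rw [Finset.sum_congr rfl (fun χ _ => h3 χ), h2] at h1
  have : 0 < Nat.card K := Nat.card_pos
  have h4 : (Nat.card K : ℂ) ≠ 0 := by exact_mod_cast this.ne'
  exact h4 h1

variable {L : Type u} [Group L] [Fintype L] {G : Type v} [Group G] [Fintype G]

/-- an induced character lying in `S ∖ S(Z)` -/
theorem indFun_mem_diff (K Z : Subgroup L) [hK : K.Normal] [hZ : Z.Normal] (hZK : Z ≤ K)
    (θ : K → ℂ) (h0 : Cfsg.IsIrrCharacter K θ)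
    (hnotZ : ¬ ∀ a : K, (a : L) ∈ Z → θ a = θ 1) :
    Cfsg.indFun K θ ∈ Cfsg.inducedIrrAbove K ⊥ \ Cfsg.inducedIrrAbove K Z := by
  have hθ1 : θ ≠ (fun _ => 1) := by
    intro h
    apply hnotZ
    intro a _
    rw [h]
  refine ⟨⟨θ, h0, hθ1, ?_, rfl⟩, ?_⟩
  · intro a ha
    have : a = 1 := by
      apply Subtype.ext
      simpa using ha
    rw [this]
  · rintro ⟨θ', h0', -, h2', heq⟩
    apply hnotZ
    have h4 := (ker_indFun_iff Z K hZK θ' (IsIrrCharacter.isCharacter h0')).mp h2'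
    rw [← heq] at h4
    exact (ker_indFun_iff Z K hZK θ (IsIrrCharacter.isCharacter h0)).mpr h4

/-- `S ∖ S(Z)` is nonempty -/
theorem diff_nonempty (K Z : Subgroup L) [hK : K.Normal] [hZ : Z.Normal] (hZK : Z ≤ K)
    (hZ1 : Z ≠ ⊥) : (Cfsg.inducedIrrAbove K ⊥ \ Cfsg.inducedIrrAbove K Z).Nonempty := by
  obtain ⟨z, hz1⟩ := (Subgroup.ne_bot_iff_exists_ne_one).mp hZ1
  have hzK : (z : L) ∈ K := hZK z.2
  have hne : (⟨(z : L), hzK⟩ : K) ≠ 1 := by
    intro h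
    apply hz1
    apply Subtype.ext
    have := congrArg Subtype.val h
    exact this
  obtain ⟨θ, h0, hθ⟩ := exists_irr_apply_ne_one (⟨(z : L), hzK⟩ : K) hne
  refine ⟨Cfsg.indFun K θ, indFun_mem_diff K Z hZK θ h0 ?_⟩
  intro hall
  exact hθ (hall ⟨(z : L), hzK⟩ z.2)

set_option maxHeartbeats 800000 in
/-- Peterfalvi (6.6) -/
theorem coherent_66 (K : Subgroup L) [hK : K.Normal] (hsolv : Group.IsSolvable K)
    (τ : (L → ℂ) → (G → ℂ)) (R : (L → ℂ) → Finset (G → ℂ))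
    (hS : Cfsg.IsCoherenceSystem (Cfsg.inducedIrrAbove K ⊥) τ R) (hodd : Odd (Nat.card L))
    (hnil : Group.IsNilpotent K) (hH₁K : ⁅K, K⁆ < K) (hKL : K < ⊤)
    (hfrob : ∀ k ∈ K, k ∉ ⁅K, K⁆ → ∀ x : L, x * k * x⁻¹ * k⁻¹ ∈ ⁅K, K⁆ → x ∈ K)
    (Z : Subgroup L) [hZ : Z.Normal] (hZ1 : Z ≠ ⊥) (hZK : Z ≤ K)
    (hZc : ∀ z ∈ Z, ∀ k ∈ K, z * k = k * z)
    (hirr : ∀ χ ∈ Cfsg.inducedIrrAbove K ⊥ \ Cfsg.inducedIrrAbove K Z,
      Cfsg.IsIrrCharacter L χ) :
    Cfsg.inducedIrrAbove K ⊥ \ Cfsg.inducedIrrAbove K Z =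
      {χ | Cfsg.IsIrrCharacter L χ ∧ ∃ z ∈ Z, χ z ≠ χ 1} ∧
    Cfsg.IsCoherent (Cfsg.inducedIrrAbove K ⊥ \ Cfsg.inducedIrrAbove K Z) {1}ᶜ τ := by
  classical
  refine ⟨diff_inducedIrrAbove_eq K Z hZK hirr, ?_⟩
  set X : Set (L → ℂ) := Cfsg.inducedIrrAbove K ⊥ \ Cfsg.inducedIrrAbove K Z with hX
  set XF : Finset (L → ℂ) := indAbove K ⊥ \ indAbove K Z with hXF
  have hcoe : (↑XF : Set (L → ℂ)) = X := by
    rw [hXF, Finset.coe_sdiff, coe_indAbove, coe_indAbove]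
  have hXne : X.Nonempty := diff_nonempty K Z hZK hZ1
  have hXsub : X ⊆ Cfsg.inducedIrrAbove K ⊥ := fun φ hφ => hφ.1
  have hXconj : ∀ φ ∈ XF, Cfsg.conjFun φ ∈ XF := by
    intro φ hφ
    obtain ⟨h1, h2⟩ := Finset.mem_sdiff.mp hφ
    refine Finset.mem_sdiff.mpr ⟨conjFun_mem_indAbove K ⊥ φ h1, ?_⟩
    intro h3
    apply h2
    have := conjFun_mem_indAbove K Z _ h3
    rwa [conjFun_conjFun] at this
  have hnz : ∃ α ∈ Cfsg.zspanOn X {1}ᶜ, α ≠ 0 := by
    obtain ⟨χ, hχ⟩ := hXne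
    have hχF : χ ∈ XF := by
      rw [← Finset.mem_coe, hcoe]
      exact hχ
    have hbχ : Cfsg.conjFun χ ∈ X := by
      rw [← hcoe]
      exact Finset.mem_coe.mpr (hXconj χ hχF)
    refine ⟨χ - Cfsg.conjFun χ, sub_conjFun_mem_zspanOn _ χ hχ hbχ
      (hS.isCharacter χ (hXsub hχ)), ?_⟩
    intro h
    apply hS.conj_ne χ (hXsub hχ)
    have := sub_eq_zero.mp h
    exact this.symm
  by_cases hpp : ∃ p m : ℕ, p.Prime ∧ Nat.card K = p ^ m
  · obtain ⟨p, m, hp, hcard⟩ := hpp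
    haveI : (⁅K, K⁆).Normal := Subgroup.commutator_normal K K
    have hKcardL : Nat.card K ∣ Nat.card L := Subgroup.card_subgroup_dvd_card K
    have hrel := relIndex_mul_card_of_le K ⁅K, K⁆ hH₁K.le
    have hrel1 : (⁅K, K⁆).relIndex K ≠ 1 := by
      intro h
      have h1 : (⁅K, K⁆.subgroupOf K) = ⊤ := Subgroup.index_eq_one.mp h
      rw [Subgroup.subgroupOf_eq_top] at h1
      exact (lt_irrefl _ (lt_of_lt_of_le hH₁K h1))
    have hreldvd : (⁅K, K⁆).relIndex K ∣ p ^ m := by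
      rw [← hcard]
      exact Dvd.intro _ hrel
    obtain ⟨j, -, hj⟩ := (Nat.dvd_prime_pow hp).mp hreldvd
    have hj0 : j ≠ 0 := by
      intro h
      rw [h, pow_zero] at hj
      exact hrel1 hj
    have hpdvd : p ∣ (⁅K, K⁆).relIndex K := by
      rw [hj]
      exact dvd_pow_self p hj0
    have hpL : p ∣ Nat.card L := by
      refine dvd_trans (dvd_trans hpdvd ?_) hKcardL
      exact Dvd.intro _ hrel
    have hp2 : p ≠ 2 := by
      rintro rfl
      have := hodd.not_two_dvd_nat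
      exact this hpL
    have hidx := index_mul_card_indAbove K ⁅K, K⁆ ⁅K, K⁆ le_rfl le_rfl hfrob
    have hcop : Nat.Coprime K.index p := by
      rw [Nat.coprime_comm, Nat.Prime.coprime_iff_not_dvd hp]
      intro h
      have h1 : p ∣ K.index * (indAbove K ⁅K, K⁆).card := Dvd.dvd.mul_right h _
      have h2 : p ∣ K.index * (indAbove K ⁅K, K⁆).card + 1 := by
        rw [hidx]
        exact hpdvd
      have h3 : p ∣ 1 := (Nat.dvd_add_right h1).mp h2
      exact hp.one_lt.ne' (Nat.dvd_one.mp h3)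
    have hirrF : ∀ χ ∈ indAbove K ⊥ \ indAbove K Z, Cfsg.IsIrrCharacter L χ := by
      intro χ hχ
      apply hirr
      rw [← hcoe]
      exact Finset.mem_coe.mpr hχ
    have hXFne : XF.Nonempty := by
      obtain ⟨χ, hχ⟩ := hXne
      refine ⟨χ, ?_⟩
      rw [← Finset.mem_coe, hcoe]
      exact hχ
    have h := coherent_66_aux K τ R hS p hp hp2 m hcard hcop Z hZK hZc hirrF XF.card XF le_rfl
      (Finset.Subset.refl _) hXFne hXconj (fun ξ _ ξ' hξ' hnot => absurd hξ' hnot)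
    rw [hcoe] at h
    exact h
  · haveI : ((⊥ : Subgroup L).subgroupOf K).Normal := Subgroup.normal_subgroupOf
    haveI := hnil
    have hnilq : Group.IsNilpotent (↥K ⧸ (⊥ : Subgroup L).subgroupOf K) := inferInstance
    have hcoh := coherent_64 K hsolv τ R hS hodd ⊥ bot_le hnilq ⁅K, K⁆ (sup_bot_eq _).symm hH₁K
      hfrob (Or.inr (Or.inr (Or.inl (by
        rintro ⟨p, m, hp, hpm⟩
        rw [Subgroup.relIndex_bot_left] at hpm
        exact hpp ⟨p, m, hp, hpm⟩))))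
    exact isCoherent_subset X _ _ τ hXsub hcoh hnz

end Cfsg.Agent.Helper6
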