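import Mathlib
import Cfsg.Prelude.Def_Characters
import Cfsg.Agent.Helper6.IndFun2
import Cfsg.Agent.Helper6.FrobInd2
import Cfsg.Agent.Helper6.Degrees
import Cfsg.Agent.Helper6.Codegree
import Cfsg.Agent.Helper6.IrrDegree

/-!
# T.I. subgroups with Frobenius normalizer
-/

set_option autoImplicit false
set_option linter.style.haveILetI false

namespace Cfsg.Agent.Helper6

open Module Representation
open scoped ComplexConjugate Pointwise

universe u v

variable {G : Type u} [Group G]

/-- Functions induced from a normal subgroup vanish outside it. -/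
theorem indFun_normal_apply_off [Fintype G] (K : Subgroup G) [hK : K.Normal] (φ : K → ℂ) (x : G)
    (hx : x ∉ K) : Cfsg.indFun K φ x = 0 := by
  rw [indFun_apply]
  have : ∀ y : G, Cfsg.extendByZero K φ (y⁻¹ * x * y) = 0 := by
    intro y
    apply extendByZero_not_mem
    intro hmem
    apply hx
    have := hK.conj_mem _ hmem y
    simpa [mul_assoc] using this
  simp [this]

/-- In a group with a normal subgroup `K` on which the elements outside `K` act without
nontrivial fixed points, every irreducible character not containing `K` in its kernel is induced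
from a nonprincipal irreducible character of `K`. -/
theorem irr_eq_ind_of_free [Fintype G] (K : Subgroup G) [hK : K.Normal]
    (hfree : ∀ g : G, g ∉ K → ∀ k ∈ K, g * k = k * g → k = 1) (χ : G → ℂ)
    (hχ : Cfsg.IsIrrCharacter G χ) (hrel : ∃ k ∈ K, χ k ≠ χ 1) :
    ∃ φ : K → ℂ, Cfsg.IsIrrCharacter K φ ∧ φ ≠ (fun _ => 1) ∧ χ = Cfsg.indFun K φ := by
  classical
  haveI : Fintype K := Fintype.ofFinite K
  have hres : Cfsg.IsCharacter K (fun k : K => χ k) :=
    IsCharacter.restrict K (IsIrrCharacter.isCharacter hχ)
  have hsum0 : ∑ k : K, χ k = 0 := by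
    rw [sum_normal_irr K hχ, if_neg]
    push Not
    exact hrel
  have hne : (fun k : K => χ k) ≠ 0 := by
    intro h
    have h1 := congrFun h 1
    obtain ⟨n, hn, hn1⟩ := IsIrrCharacter.apply_one_pos hχ
    simp only [Subgroup.coe_one, Pi.zero_apply] at h1
    rw [hn1] at h1
    have : n = 0 := by exact_mod_cast h1
    omega
  obtain ⟨φ, hφ, hφne⟩ := exists_irr_constituent hres hne
  have hφ1 : φ ≠ fun _ => 1 := by
    rintro rfl
    apply hφne
    rw [classInner_def]
    simp only [map_one, mul_one]
    rw [hsum0, mul_zero]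
  have hind := indFun_irr_of_free K hfree φ hφ hφ1
  refine ⟨φ, hφ, hφ1, ?_⟩
  by_contra hneq
  have h1 := classInner_irr_ne hind hχ (Ne.symm hneq)
  rw [frobenius_reciprocity K φ χ (IsCharacter.isClassFunction (IsIrrCharacter.isCharacter hχ)),
    classInner_conj_symm] at h1
  apply hφne
  have := congrArg conj h1
  simpa using this

section TI

variable (K : Subgroup G)

/-- The free action in the normalizer of a subgroup containing the centralizers of its
nonidentity elements. -/
theorem tifrob_free (hC : ∀ k ∈ K, k ≠ 1 → Subgroup.centralizer ({k} : Set G) ≤ K) :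
    ∀ g : Subgroup.normalizer (K : Set G), g ∉ K.subgroupOf (Subgroup.normalizer (K : Set G)) →
      ∀ k ∈ K.subgroupOf (Subgroup.normalizer (K : Set G)), g * k = k * g → k = 1 := by
  intro g hg k hk hcomm
  by_contra hk1
  apply hg
  rw [Subgroup.mem_subgroupOf] at hk ⊢
  have hk1' : (k : G) ≠ 1 := fun h => hk1 (Subtype.ext h)
  apply hC (k : G) hk hk1'
  rw [Subgroup.mem_centralizer_iff]
  intro h hh
  rw [Set.mem_singleton_iff] at hh
  subst hh
  exact (congrArg Subtype.val hcomm).symm

/-- The index of `K` in its normalizer is coprime to the order of `K`. -/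
theorem tifrob_coprime [Finite G]
    (hC : ∀ k ∈ K, k ≠ 1 → Subgroup.centralizer ({k} : Set G) ≤ K) :
    Nat.Coprime (Nat.card (K.subgroupOf (Subgroup.normalizer (K : Set G))))
      (K.subgroupOf (Subgroup.normalizer (K : Set G))).index := by
  apply Nat.coprime_of_dvd'
  intro p hp hpK hpe
  exfalso
  haveI : Fact p.Prime := ⟨hp⟩
  obtain ⟨P⟩ := (inferInstance : Nonempty (Sylow p (Subgroup.normalizer (K : Set G))))
  -- the Sylow subgroup acting by conjugation
  have hPp : IsPGroup p ((P : Subgroup (Subgroup.normalizer (K : Set G))).map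
      (ConjAct.toConjAct (G := Subgroup.normalizer (K : Set G))).toMonoidHom) :=
    P.2.map _
  have hfix1 : (1 : K.subgroupOf (Subgroup.normalizer (K : Set G))) ∈
      MulAction.fixedPoints ((P : Subgroup (Subgroup.normalizer (K : Set G))).map
        (ConjAct.toConjAct (G := Subgroup.normalizer (K : Set G))).toMonoidHom)
        (K.subgroupOf (Subgroup.normalizer (K : Set G))) := by
    intro g
    exact smul_one _
  obtain ⟨b, hb, hb1⟩ := hPp.exists_fixed_point_of_prime_dvd_card_of_fixed_point _ hpK hfix1
  have hPle : (P : Subgroup (Subgroup.normalizer (K : Set G))) ≤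
      K.subgroupOf (Subgroup.normalizer (K : Set G)) := by
    intro g hg
    by_contra hgK
    apply hb1
    symm
    apply Subtype.ext
    rw [Subgroup.coe_one]
    apply tifrob_free K hC g hgK (b : Subgroup.normalizer (K : Set G)) b.2
    have hgP : ConjAct.toConjAct g ∈ (P : Subgroup (Subgroup.normalizer (K : Set G))).map
        (ConjAct.toConjAct (G := Subgroup.normalizer (K : Set G))).toMonoidHom :=
      Subgroup.mem_map.mpr ⟨g, hg, rfl⟩
    have h1 := hb ⟨_, hgP⟩
    have h2 := congrArg Subtype.val h1
    change ((ConjAct.toConjAct g • b : K.subgroupOf (Subgroup.normalizer (K : Set G))) :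
      Subgroup.normalizer (K : Set G)) = b at h2
    rw [ConjAct.Subgroup.val_conj_smul, ConjAct.smul_def, ConjAct.ofConjAct_toConjAct] at h2
    calc g * (b : Subgroup.normalizer (K : Set G))
        = (g * (b : Subgroup.normalizer (K : Set G)) * g⁻¹) * g := by group
      _ = (b : Subgroup.normalizer (K : Set G)) * g := by rw [h2]
  have h3 := Subgroup.index_dvd_of_le hPle
  exact P.not_dvd_index (dvd_trans hpe h3)

/-- No element of the normalizer outside `K` is conjugate to an element of `K`. -/
theorem tifrob_not_conj [Finite G]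
    (hC : ∀ k ∈ K, k ≠ 1 → Subgroup.centralizer ({k} : Set G) ≤ K) (x : G)
    (hxN : x ∈ Subgroup.normalizer (K : Set G)) (hxK : x ∉ K) (g : G) : g * x * g⁻¹ ∉ K := by
  intro hk
  have hcop := tifrob_coprime K hC
  have hord : orderOf x ∣ Nat.card K := by
    have h1 : orderOf (g * x * g⁻¹) = orderOf x := by
      rw [← MulAut.conj_apply, MulEquiv.orderOf_eq]
    rw [← h1]
    exact Subgroup.orderOf_dvd_natCard K hk
  have hcard : Nat.card (K.subgroupOf (Subgroup.normalizer (K : Set G))) = Nat.card K :=
    Nat.card_congr (Subgroup.subgroupOfEquivOfLe Subgroup.le_normalizer).toEquiv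
  have hxn_ord : orderOf (⟨x, hxN⟩ : Subgroup.normalizer (K : Set G)) = orderOf x :=
    Subgroup.orderOf_mk x hxN
  have hcop' : ((K.subgroupOf (Subgroup.normalizer (K : Set G))).index).Coprime
      (orderOf (⟨x, hxN⟩ : Subgroup.normalizer (K : Set G))) := by
    rw [hxn_ord]
    rw [hcard] at hcop
    exact (Nat.Coprime.coprime_dvd_left hord hcop).symm
  obtain ⟨m, hm⟩ := exists_pow_eq_self_of_coprime hcop'
  have hmem := Subgroup.pow_index_mem (K.subgroupOf (Subgroup.normalizer (K : Set G)))
    (⟨x, hxN⟩ : Subgroup.normalizer (K : Set G))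
  have hx : (⟨x, hxN⟩ : Subgroup.normalizer (K : Set G)) ∈
      K.subgroupOf (Subgroup.normalizer (K : Set G)) := by
    rw [← hm]
    exact Subgroup.pow_mem _ hmem m
  exact hxK (Subgroup.mem_subgroupOf.mp hx)

/-- Induction of class functions supported on `K` minus the identity restricts back to the
original function on the whole normalizer. -/
theorem tifrob_indFun_restrict [Fintype G]
    (hTI : ∀ g : G, g ∉ Subgroup.normalizer (K : Set G) → ∀ k ∈ K, g * k * g⁻¹ ∈ K → k = 1)
    (hC : ∀ k ∈ K, k ≠ 1 → Subgroup.centralizer ({k} : Set G) ≤ K)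
    (ϑ : Subgroup.normalizer (K : Set G) → ℂ)
    (hϑ : Cfsg.IsClassFunction (Subgroup.normalizer (K : Set G)) ϑ)
    (hvan : ∀ x : Subgroup.normalizer (K : Set G), (x : G) ∉ K → ϑ x = 0) (h1 : ϑ 1 = 0)
    (x : Subgroup.normalizer (K : Set G)) :
    Cfsg.indFun (Subgroup.normalizer (K : Set G)) ϑ x = ϑ x := by
  by_cases hx1 : x = 1
  · subst hx1
    rw [Subgroup.coe_one, indFun_apply_one, h1, mul_zero]
  by_cases hxK : (x : G) ∈ K
  · exact indFun_TI_apply (K : Set G) (fun g hg t ht h => hTI g hg t ht h) ϑ hϑ hvan x hxK hx1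
  · rw [hvan x hxK, indFun_apply]
    have : ∀ y : G, Cfsg.extendByZero (Subgroup.normalizer (K : Set G)) ϑ
        (y⁻¹ * (x : G) * y) = 0 := by
      intro y
      by_cases hy : y⁻¹ * (x : G) * y ∈ Subgroup.normalizer (K : Set G)
      · rw [extendByZero_mem _ _ hy]
        apply hvan
        have := tifrob_not_conj K hC (x : G) x.2 hxK y⁻¹
        rw [inv_inv] at this
        exact this
      · exact extendByZero_not_mem _ _ hy
    simp [this]

end TI

end Cfsg.Agent.Helper6
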