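import Mathlib
import Cfsg.Prelude.Def_Characters
import Cfsg.Agent.Helper6.TIFrob
import Cfsg.Agent.Helper6.Regular
import Cfsg.Agent.Helper6.Linear
import Cfsg.Agent.Helper6.Expansion
import Cfsg.Agent.Helper6.ColumnOrth
import Cfsg.Agent.Helper6.OddReal

/-!
# Frobenius-type actions: relevant characters
-/

set_option autoImplicit false
set_option linter.style.haveILetI false

namespace Cfsg.Agent.Helper6

open Module Representation
open scoped ComplexConjugate Pointwise

universe u v

variable {G : Type u} [Group G]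

/-- Characters induced from nonprincipal irreducible characters of a normal subgroup with free
action are irreducible and do not contain the subgroup in their kernel. -/
theorem ind_relevant_of_free [Fintype G] (K : Subgroup G) [hK : K.Normal]
    (hfree : ∀ g : G, g ∉ K → ∀ k ∈ K, g * k = k * g → k = 1) (φ : K → ℂ)
    (hφ : Cfsg.IsIrrCharacter K φ) (hφ1 : φ ≠ fun _ => 1) :
    Cfsg.IsIrrCharacter G (Cfsg.indFun K φ) ∧
      ∃ k ∈ K, Cfsg.indFun K φ k ≠ Cfsg.indFun K φ 1 := by
  classical
  haveI : Fintype K := Fintype.ofFinite K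
  have hirr := indFun_irr_of_free K hfree φ hφ hφ1
  refine ⟨hirr, ?_⟩
  by_contra h
  push Not at h
  have hrec := frobenius_reciprocity K φ (Cfsg.indFun K φ) (indFun_isClassFunction K φ)
  rw [classInner_irr_self hirr] at hrec
  have hconst : (fun k : K => Cfsg.indFun K φ (k : G)) =
      (Cfsg.indFun K φ 1) • (fun _ : K => (1 : ℂ)) := by
    ext k
    simp only [Pi.smul_apply, smul_eq_mul, mul_one]
    exact h k k.2
  rw [hconst, classInner_smul_right, classInner_irr_ne hφ isIrrCharacter_one hφ1, mul_zero] at hrec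
  exact one_ne_zero hrec

/-- If a normal abelian subgroup `K` with free action has a unique relevant character, then
`|K| = |G : K| + 1` and `K` has prime exponent. -/
theorem free_unique_relevant [Fintype G] (K : Subgroup G) [hK : K.Normal]
    (hfree : ∀ g : G, g ∉ K → ∀ k ∈ K, g * k = k * g → k = 1)
    (hab : ∀ a ∈ K, ∀ b ∈ K, a * b = b * a) (χ0 : G → ℂ) (hχ0 : Cfsg.IsIrrCharacter G χ0)
    (hrel0 : ∃ k ∈ K, χ0 k ≠ χ0 1)
    (huniq : ∀ χ : G → ℂ, Cfsg.IsIrrCharacter G χ → (∃ k ∈ K, χ k ≠ χ 1) → χ = χ0) :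
    Nat.card K = K.index + 1 ∧ ∃ p : ℕ, p.Prime ∧ ∀ a ∈ K, a ^ p = 1 := by
  classical
  haveI : Fintype K := Fintype.ofFinite K
  haveI : Finite (Cfsg.IrrCharacter K) := irr_finite
  haveI : Fintype (Cfsg.IrrCharacter K) := Fintype.ofFinite _
  have hdeg1 : ∀ lam : Cfsg.IrrCharacter K, (lam : K → ℂ) 1 = 1 := by
    apply (comm_iff_forall_irr_degree_one (G := K)).mp
    intro a b
    exact Subtype.ext (hab a a.2 b b.2)
  have hres : Cfsg.IsCharacter K (fun k : K => χ0 k) :=
    IsCharacter.restrict K (IsIrrCharacter.isCharacter hχ0)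
  have hcf := IsCharacter.isClassFunction hres
  have hχ0cf := IsCharacter.isClassFunction (IsIrrCharacter.isCharacter hχ0)
  let triv : Cfsg.IrrCharacter K := ⟨fun _ => 1, isIrrCharacter_one⟩
  have hmult : ∀ lam : Cfsg.IrrCharacter K,
      Cfsg.classInner (fun k : K => χ0 k) (lam : K → ℂ) = if lam = triv then 0 else 1 := by
    intro lam
    split_ifs with h
    · subst h
      rw [classInner_def]
      simp only [triv, map_one, mul_one]
      rw [sum_normal_irr K hχ0, if_neg, mul_zero]
      push Not
      exact hrel0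
    · have hne : (lam : K → ℂ) ≠ fun _ => 1 := by
        intro e
        apply h
        exact Subtype.ext e
      obtain ⟨hirr, hrel⟩ := ind_relevant_of_free K hfree lam lam.2 hne
      have heq := huniq _ hirr hrel
      have hrec := frobenius_reciprocity K (lam : K → ℂ) χ0 hχ0cf
      rw [heq, classInner_irr_self hχ0] at hrec
      rw [classInner_conj_symm, ← hrec]
      simp
  obtain ⟨φ0, hφ0, hφ01, hχ0eq⟩ := irr_eq_ind_of_free K hfree χ0 hχ0 hrel0
  have hχ01 : χ0 1 = (K.index : ℂ) := by
    rw [hχ0eq, indFun_apply_one]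
    have := hdeg1 ⟨φ0, hφ0⟩
    simp only at this
    rw [this, mul_one]
  have hexp := congrFun (classFunction_expansion _ hcf) 1
  simp only [Finset.sum_apply, Pi.smul_apply, smul_eq_mul, hdeg1, mul_one, hmult,
    Subgroup.coe_one] at hexp
  have hsum : ∑ lam : Cfsg.IrrCharacter K, (1 : ℂ) = (Nat.card K : ℂ) := by
    have h1 := sum_degree_mul_irr (G := K) (1 : K)
    rw [if_pos rfl] at h1
    rw [← h1]
    apply Finset.sum_congr rfl
    intro lam _
    rw [hdeg1, mul_one]
  have hcount : (K.index : ℂ) + 1 = (Nat.card K : ℂ) := by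
    rw [← hχ01, hexp, ← hsum]
    have hite : ∀ lam : Cfsg.IrrCharacter K, (if lam = triv then (0 : ℂ) else 1) =
        1 - (if lam = triv then 1 else 0) := by
      intro lam
      split_ifs <;> simp
    simp_rw [hite]
    rw [Finset.sum_sub_distrib, Finset.sum_ite_eq' Finset.univ triv (fun _ => (1 : ℂ)),
      if_pos (Finset.mem_univ _)]
    ring
  have hcount' : Nat.card K = K.index + 1 := by
    have : ((K.index + 1 : ℕ) : ℂ) = (Nat.card K : ℂ) := by
      push_cast
      exact hcount
    exact_mod_cast this.symm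
  refine ⟨hcount', ?_⟩
  -- existence of an element of prime order
  obtain ⟨k1, hk1K, hk1ne⟩ := hrel0
  have hK2 : Nat.card K ≠ 1 := by
    intro h
    have htriv := Subgroup.card_eq_one.mp h
    rw [htriv, Subgroup.mem_bot] at hk1K
    rw [hk1K] at hk1ne
    exact hk1ne rfl
  obtain ⟨p, hp, hpK⟩ := Nat.exists_prime_and_dvd hK2
  haveI : Fact p.Prime := ⟨hp⟩
  obtain ⟨k0, hk0⟩ := exists_prime_orderOf_dvd_card' (G := K) p hpK
  have hk0' : orderOf (k0 : G) = p := by rw [Subgroup.orderOf_coe, hk0]
  have hk0ne : (k0 : G) ≠ 1 := by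
    intro h
    rw [h, orderOf_one] at hk0'
    exact hp.one_lt.ne hk0'
  refine ⟨p, hp, ?_⟩
  -- centralizer of k0 is K
  have hcent : Subgroup.centralizer ({(k0 : G)} : Set G) = K := by
    apply le_antisymm
    · intro g hg
      by_contra hgK
      apply hk0ne
      apply hfree g hgK (k0 : G) k0.2
      exact ((Subgroup.mem_centralizer_iff.mp hg) (k0 : G) rfl).symm
    · intro g hg
      rw [Subgroup.mem_centralizer_iff]
      intro h hh
      rw [Set.mem_singleton_iff] at hh
      subst hh
      exact hab _ k0.2 g hg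
  have hcc := card_conj_mul_card_centralizer (k0 : G)
  rw [hcent, ← K.index_mul_card] at hcc
  have hclass : Nat.card {x : G // IsConj (k0 : G) x} = K.index :=
    Nat.eq_of_mul_eq_mul_right Nat.card_pos hcc
  have hsub : Finset.univ.filter (fun x : G => IsConj (k0 : G) x) ⊆
      Finset.univ.filter (fun x : G => x ∈ K ∧ x ≠ 1) := by
    intro x hx
    rw [Finset.mem_filter] at hx ⊢
    refine ⟨Finset.mem_univ _, ?_⟩
    obtain ⟨c, hc⟩ := isConj_iff.mp hx.2
    rw [← hc]
    refine ⟨hK.conj_mem _ k0.2 c, ?_⟩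
    intro h
    apply hk0ne
    have : (k0 : G) = c⁻¹ * (c * (k0 : G) * c⁻¹) * c := by group
    rw [this, h]
    group
  have hcardK : (Finset.univ.filter (fun x : G => x ∈ K ∧ x ≠ 1)).card = K.index := by
    have h1 : (Finset.univ.filter (fun x : G => x ∈ K)).card = Nat.card K := by
      rw [Nat.card_eq_fintype_card, Fintype.card_subtype]
    have h2 : Finset.univ.filter (fun x : G => x ∈ K ∧ x ≠ 1) =
        (Finset.univ.filter (fun x : G => x ∈ K)).erase 1 := by
      ext x
      simp only [Finset.mem_filter, Finset.mem_univ, true_and, Finset.mem_erase]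
      tauto
    rw [h2, Finset.card_erase_of_mem (Finset.mem_filter.mpr ⟨Finset.mem_univ _, K.one_mem⟩), h1,
      hcount']
    simp
  have hcardC : (Finset.univ.filter (fun x : G => IsConj (k0 : G) x)).card = K.index := by
    rw [← hclass, Nat.card_eq_fintype_card, Fintype.card_subtype]
  have heq := Finset.eq_of_subset_of_card_le hsub (by rw [hcardK, hcardC])
  intro a ha
  by_cases ha1 : a = 1
  · rw [ha1, one_pow]
  · have hmem : a ∈ Finset.univ.filter (fun x : G => x ∈ K ∧ x ≠ 1) :=
      Finset.mem_filter.mpr ⟨Finset.mem_univ _, ha, ha1⟩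
    rw [← heq] at hmem
    obtain ⟨c, hc⟩ := isConj_iff.mp (Finset.mem_filter.mp hmem).2
    rw [← hc, ← MulAut.conj_apply, ← map_pow, ← hk0', pow_orderOf_eq_one, map_one]

end Cfsg.Agent.Helper6
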