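import Mathlib
import Cfsg.Prelude.Def_Characters
import Cfsg.Agent.Helper6.TIFrob2

/-!
# Frobenius-type actions: class functions constant on the kernel
-/

set_option autoImplicit false
set_option linter.style.haveILetI false

namespace Cfsg.Agent.Helper6

open Module Representation
open scoped ComplexConjugate Pointwise

universe u v

variable {G : Type u} [Group G]

/-- A class function whose multiplicities at the relevant characters are proportional to the
degrees is constant on the nonidentity elements of the kernel. -/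
theorem const_of_proportional [Fintype G] (K : Subgroup G) [hK : K.Normal]
    (hfree : ∀ g : G, g ∉ K → ∀ k ∈ K, g * k = k * g → k = 1) (f : G → ℂ)
    (hf : Cfsg.IsClassFunction G f) (r : ℂ)
    (hr : ∀ η : G → ℂ, Cfsg.IsIrrCharacter G η → (∃ k ∈ K, η k ≠ η 1) →
      Cfsg.classInner η f = r * η 1) :
    ∃ c : ℂ, ∀ k ∈ K, k ≠ 1 → f k = c := by
  classical
  haveI : Fintype K := Fintype.ofFinite K
  haveI : Finite (Cfsg.IrrCharacter K) := irr_finite
  haveI : Fintype (Cfsg.IrrCharacter K) := Fintype.ofFinite _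
  let triv : Cfsg.IrrCharacter K := ⟨fun _ => 1, isIrrCharacter_one⟩
  have hfK : Cfsg.IsClassFunction K (fun k : K => f k) := by
    intro g h
    have := hf (g : G) (h : G)
    simpa using this
  have hmult : ∀ lam : Cfsg.IrrCharacter K, lam ≠ triv →
      Cfsg.classInner (fun k : K => f k) (lam : K → ℂ) =
        conj r * (K.index : ℂ) * (lam : K → ℂ) 1 := by
    intro lam hlam
    have hne : (lam : K → ℂ) ≠ fun _ => 1 := fun e => hlam (Subtype.ext e)
    obtain ⟨hirr, hrel⟩ := ind_relevant_of_free K hfree lam lam.2 hne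
    have h1 := hr _ hirr hrel
    rw [frobenius_reciprocity K (lam : K → ℂ) f hf, indFun_apply_one] at h1
    rw [classInner_conj_symm, h1]
    obtain ⟨n, -, hn⟩ := IsIrrCharacter.apply_one_pos lam.2
    rw [hn]
    simp
    ring
  refine ⟨Cfsg.classInner (fun k : K => f k) (fun _ => 1) - conj r * K.index, ?_⟩
  intro k hk hk1
  have hexp := congrFun (classFunction_expansion _ hfK) ⟨k, hk⟩
  simp only [Finset.sum_apply, Pi.smul_apply, smul_eq_mul] at hexp
  rw [hexp, ← Finset.add_sum_erase _ _ (Finset.mem_univ triv)]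
  have h2 : ∑ lam ∈ Finset.univ.erase triv,
      Cfsg.classInner (fun k : K => f k) (lam : K → ℂ) * (lam : K → ℂ) ⟨k, hk⟩ =
      conj r * (K.index : ℂ) * ∑ lam ∈ Finset.univ.erase triv,
        (lam : K → ℂ) 1 * (lam : K → ℂ) ⟨k, hk⟩ := by
    rw [Finset.mul_sum]
    apply Finset.sum_congr rfl
    intro lam hlam
    rw [hmult lam (Finset.ne_of_mem_erase hlam)]
    ring
  have h3 : ∑ lam ∈ Finset.univ.erase triv,
      (lam : K → ℂ) 1 * (lam : K → ℂ) ⟨k, hk⟩ = -1 := by
    have h4 := sum_degree_mul_irr (G := K) ⟨k, hk⟩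
    rw [if_neg (fun e => hk1 (congrArg Subtype.val e)),
      ← Finset.add_sum_erase _ _ (Finset.mem_univ triv)] at h4
    simp only [triv, mul_one] at h4
    linear_combination h4
  rw [h2, h3]
  simp only [triv]
  ring

/-- With at least two relevant characters, no relevant character is constant on the
nonidentity elements of the kernel. -/
theorem relevant_not_const [Fintype G] (K : Subgroup G) [hK : K.Normal]
    (hfree : ∀ g : G, g ∉ K → ∀ k ∈ K, g * k = k * g → k = 1) (χ ξ : G → ℂ)
    (hχ : Cfsg.IsIrrCharacter G χ) (hξ : Cfsg.IsIrrCharacter G ξ)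
    (hχrel : ∃ k ∈ K, χ k ≠ χ 1) (hξrel : ∃ k ∈ K, ξ k ≠ ξ 1) (hne : χ ≠ ξ) (u : ℂ)
    (hu : ∀ k ∈ K, k ≠ 1 → χ k = u) : False := by
  classical
  haveI : Fintype K := Fintype.ofFinite K
  obtain ⟨φ', hφ', hφ'1, hξeq⟩ := irr_eq_ind_of_free K hfree ξ hξ hξrel
  have hχcf := IsCharacter.isClassFunction (IsIrrCharacter.isCharacter hχ)
  have hK0 : (Nat.card K : ℂ) ≠ 0 := Nat.cast_ne_zero.mpr Nat.card_pos.ne'
  have h0 : Cfsg.classInner (Cfsg.indFun K φ') χ = 0 := by
    rw [← hξeq]
    exact classInner_irr_ne hξ hχ (Ne.symm hne)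
  rw [frobenius_reciprocity K φ' χ hχcf, classInner_def] at h0
  have h0' : ∑ k : K, φ' k * conj (χ k) = 0 := by
    rcases mul_eq_zero.mp h0 with h | h
    · exact absurd (inv_eq_zero.mp h) hK0
    · exact h
  have hsumφ : ∑ k : K, φ' k = 0 := by
    have h1 := classInner_irr_ne hφ' (isIrrCharacter_one (G := K)) hφ'1
    rw [classInner_def] at h1
    simp only [map_one, mul_one] at h1
    rcases mul_eq_zero.mp h1 with h | h
    · exact absurd (inv_eq_zero.mp h) hK0
    · exact h
  have hterm : ∀ k : K, φ' k * conj (χ k) =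
      conj u * φ' k + (if k = 1 then φ' 1 * (conj (χ 1) - conj u) else 0) := by
    intro k
    split_ifs with h
    · subst h
      simp only [Subgroup.coe_one]
      ring
    · rw [hu k k.2 (fun e => h (Subtype.ext e))]
      ring
  simp_rw [hterm] at h0'
  rw [Finset.sum_add_distrib, ← Finset.mul_sum, hsumφ, mul_zero, zero_add,
    Finset.sum_ite_eq' Finset.univ (1 : K) (fun _ => φ' 1 * (conj (χ 1) - conj u)),
    if_pos (Finset.mem_univ _)] at h0'
  obtain ⟨n, hnpos, hn⟩ := IsIrrCharacter.apply_one_pos hφ'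
  have hφ'10 : φ' 1 ≠ 0 := by
    rw [hn]
    exact Nat.cast_ne_zero.mpr hnpos.ne'
  have hu1 : u = χ 1 := by
    rcases mul_eq_zero.mp h0' with h | h
    · exact absurd h hφ'10
    · have h2 : conj (χ 1) = conj u := sub_eq_zero.mp h
      exact ((starRingEnd ℂ).injective h2).symm
  have hsumχ : ∑ k : K, χ k = 0 := by
    rw [sum_normal_irr K hχ, if_neg]
    push Not
    exact hχrel
  have hall : ∀ k : K, χ k = χ 1 := by
    intro k
    by_cases h : k = 1
    · rw [h, Subgroup.coe_one]
    · rw [hu k k.2 (fun e => h (Subtype.ext e)), hu1]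
  simp_rw [hall] at hsumχ
  rw [Finset.sum_const, Finset.card_univ, nsmul_eq_mul, ← Nat.card_eq_fintype_card] at hsumχ
  obtain ⟨m, hmpos, hm⟩ := IsIrrCharacter.apply_one_pos hχ
  rcases mul_eq_zero.mp hsumχ with h | h
  · exact hK0 h
  · rw [hm] at h
    have : m = 0 := by exact_mod_cast h
    omega

end Cfsg.Agent.Helper6
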