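import Mathlib
import Cfsg.Prelude.Def_Characters
import Cfsg.Prelude.Def_OddOrderChar
import Cfsg.Agent.Helper6.TIFrob4
import Cfsg.Agent.Helper6.NormOne

/-!
# T.I. subgroups with Frobenius normalizer: coherent sets and exceptional characters
-/

set_option autoImplicit false
set_option linter.style.haveILetI false

namespace Cfsg.Agent.Helper6

open Module Representation
open scoped ComplexConjugate Pointwise

universe u v

variable {G : Type u} [Group G]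

theorem zsmul_fun_eq {X : Type*} (n : ℤ) (f : X → ℂ) : n • f = (n : ℂ) • f := by
  ext x
  simp

section

variable (K : Subgroup G)

local notation "NK" => Subgroup.normalizer (K : Set G)

/-- The common core: a class function `Ψ` of `G` and a class function `χ'` of the normalizer such
that `⟨β^G, Ψ⟩ = ⟨β, χ'⟩` for the degree-zero combinations `β` of two relevant characters. Then
`Ψ - χ'` is constant on the nonidentity elements of `K`. -/
theorem tifrob_core [Fintype G]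
    (hC : ∀ k ∈ K, k ≠ 1 → Subgroup.centralizer ({k} : Set G) ≤ K)
    [Fintype ↥NK] (Ψ : G → ℂ) (hΨ : Cfsg.IsClassFunction G Ψ) (χ' : ↥NK → ℂ)
    (hχ' : Cfsg.IsClassFunction ↥NK χ')
    (hβ : ∀ η η' : ↥NK → ℂ, Cfsg.IsIrrCharacter ↥NK η → Cfsg.IsIrrCharacter ↥NK η' →
      (∃ k : ↥NK, (k : G) ∈ K ∧ η k ≠ η 1) → (∃ k : ↥NK, (k : G) ∈ K ∧ η' k ≠ η' 1) →
      Cfsg.classInner (Cfsg.indFun NK ((η' 1) • η - (η 1) • η')) Ψ =
        Cfsg.classInner ((η' 1) • η - (η 1) • η') χ') :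
    ∃ c : ℂ, ∀ k : ↥NK, (k : G) ∈ K → k ≠ 1 → Ψ k - χ' k = c := by
  classical
  have hfree := tifrob_free K hC
  have hfcf : Cfsg.IsClassFunction ↥NK (fun x : ↥NK => Ψ x - χ' x) := by
    intro g h
    have h1 := hΨ (g : G) (h : G)
    have h2 := hχ' g h
    simp only [Subgroup.coe_mul, Subgroup.coe_inv]
    rw [h1, h2]
  -- proportionality
  have hprop : ∀ η η' : ↥NK → ℂ, Cfsg.IsIrrCharacter ↥NK η → Cfsg.IsIrrCharacter ↥NK η' →
      (∃ k ∈ K.subgroupOf NK, η k ≠ η 1) → (∃ k ∈ K.subgroupOf NK, η' k ≠ η' 1) →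
      η' 1 * Cfsg.classInner η (fun x : ↥NK => Ψ x - χ' x) =
        η 1 * Cfsg.classInner η' (fun x : ↥NK => Ψ x - χ' x) := by
    intro η η' hη hη' hrel hrel'
    obtain ⟨k, hk, hne⟩ := hrel
    obtain ⟨k', hk', hne'⟩ := hrel'
    have h1 := hβ η η' hη hη' ⟨k, Subgroup.mem_subgroupOf.mp hk, hne⟩
      ⟨k', Subgroup.mem_subgroupOf.mp hk', hne'⟩
    rw [frobenius_reciprocity NK _ Ψ hΨ] at h1
    have h2 : Cfsg.classInner ((η' 1) • η - (η 1) • η') (fun x : ↥NK => Ψ x - χ' x) = 0 := by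
      have : (fun x : ↥NK => Ψ x - χ' x) = (fun x : ↥NK => Ψ x) - χ' := rfl
      rw [this, classInner_sub_right, h1, sub_self]
    rw [classInner_sub_left, classInner_smul_left, classInner_smul_left] at h2
    exact sub_eq_zero.mp h2
  -- the ratio
  have hr : ∃ r : ℂ, ∀ η : ↥NK → ℂ, Cfsg.IsIrrCharacter ↥NK η →
      (∃ k ∈ K.subgroupOf NK, η k ≠ η 1) →
      Cfsg.classInner η (fun x : ↥NK => Ψ x - χ' x) = r * η 1 := by
    by_cases hex : ∃ η0 : ↥NK → ℂ, Cfsg.IsIrrCharacter ↥NK η0 ∧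
        ∃ k ∈ K.subgroupOf NK, η0 k ≠ η0 1
    · obtain ⟨η0, hη0, hrel0⟩ := hex
      obtain ⟨n0, hn0pos, hn0⟩ := IsIrrCharacter.apply_one_pos hη0
      have hd0 : η0 1 ≠ 0 := by
        rw [hn0]
        exact Nat.cast_ne_zero.mpr hn0pos.ne'
      refine ⟨Cfsg.classInner η0 (fun x : ↥NK => Ψ x - χ' x) / η0 1, ?_⟩
      intro η hη hrel
      have := hprop η η0 hη hη0 hrel hrel0
      field_simp
      linear_combination this
    · refine ⟨0, ?_⟩
      intro η hη hrel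
      exact absurd ⟨η, hη, hrel⟩ hex
  obtain ⟨r, hr⟩ := hr
  obtain ⟨c, hc⟩ := const_of_proportional (K.subgroupOf NK) hfree _ hfcf r hr
  refine ⟨c, ?_⟩
  intro k hk hk1
  exact hc k (Subgroup.mem_subgroupOf.mpr hk) hk1

/-- An irreducible character of `G` is, up to sign, the image of a relevant character under a
coherence isometry iff it is not constant on the nonidentity elements of `K`. -/
theorem tifrob_coherent_iff [Fintype G]
    (hC : ∀ k ∈ K, k ≠ 1 → Subgroup.centralizer ({k} : Set G) ≤ K)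
    [Fintype ↥NK] (S : Set (↥NK → ℂ))
    (hS : S = {χ : ↥NK → ℂ | Cfsg.IsIrrCharacter ↥NK χ ∧
      ∃ k : ↥NK, (k : G) ∈ K ∧ χ k ≠ χ 1})
    (htwo : ∃ χ ∈ S, ∃ ξ ∈ S, χ ≠ ξ)
    (star : (↥NK → ℂ) → (G → ℂ)) (hstar : Cfsg.IsLinearIsometryOn (Cfsg.zspan S) star)
    (hext : ∀ α ∈ Cfsg.zspanOn S ({1}ᶜ : Set ↥NK), star α = Cfsg.indFun NK α)
    (ψ : G → ℂ) (hψ : Cfsg.IsIrrCharacter G ψ) :
    (∃ χ ∈ S, ψ = star χ ∨ ψ = -star χ) ↔
      ∃ a ∈ K, ∃ b ∈ K, a ≠ 1 ∧ b ≠ 1 ∧ ψ a ≠ ψ b := by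
  classical
  subst hS
  obtain ⟨hadd, hsmul, hiso, hgen⟩ := hstar
  have hmem : ∀ η ∈ {χ : ↥NK → ℂ | Cfsg.IsIrrCharacter ↥NK χ ∧
      ∃ k : ↥NK, (k : G) ∈ K ∧ χ k ≠ χ 1}, η ∈ Cfsg.zspan {χ : ↥NK → ℂ |
        Cfsg.IsIrrCharacter ↥NK χ ∧ ∃ k : ↥NK, (k : G) ∈ K ∧ χ k ≠ χ 1} :=
    fun η hη => Submodule.subset_span hη
  have hcomb : ∀ η η' : ↥NK → ℂ, η ∈ {χ : ↥NK → ℂ | Cfsg.IsIrrCharacter ↥NK χ ∧
      ∃ k : ↥NK, (k : G) ∈ K ∧ χ k ≠ χ 1} → η' ∈ {χ : ↥NK → ℂ | Cfsg.IsIrrCharacter ↥NK χ ∧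
      ∃ k : ↥NK, (k : G) ∈ K ∧ χ k ≠ χ 1} →
      ((η' 1) • η - (η 1) • η') ∈ Cfsg.zspan {χ : ↥NK → ℂ | Cfsg.IsIrrCharacter ↥NK χ ∧
        ∃ k : ↥NK, (k : G) ∈ K ∧ χ k ≠ χ 1} ∧
      star ((η' 1) • η - (η 1) • η') = (η' 1) • star η - (η 1) • star η' ∧
      star ((η' 1) • η - (η 1) • η') = Cfsg.indFun NK ((η' 1) • η - (η 1) • η') := by
    intro η η' hη hη'
    obtain ⟨d, -, hd⟩ := IsIrrCharacter.apply_one_pos hη.1
    obtain ⟨d', -, hd'⟩ := IsIrrCharacter.apply_one_pos hη'.1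
    have e1 : (η' 1) • η - (η 1) • η' = (d' : ℤ) • η + (-(d : ℤ)) • η' := by
      rw [hd, hd', zsmul_fun_eq, zsmul_fun_eq]
      push_cast
      ext x
      simp only [Pi.sub_apply, Pi.add_apply, Pi.smul_apply, smul_eq_mul]
      ring
    have m1 : (d' : ℤ) • η ∈ Cfsg.zspan {χ : ↥NK → ℂ | Cfsg.IsIrrCharacter ↥NK χ ∧
        ∃ k : ↥NK, (k : G) ∈ K ∧ χ k ≠ χ 1} :=
      Submodule.smul_mem _ _ (Submodule.subset_span hη)
    have m2 : (-(d : ℤ)) • η' ∈ Cfsg.zspan {χ : ↥NK → ℂ | Cfsg.IsIrrCharacter ↥NK χ ∧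
        ∃ k : ↥NK, (k : G) ∈ K ∧ χ k ≠ χ 1} :=
      Submodule.smul_mem _ _ (Submodule.subset_span hη')
    have m3 : (d' : ℤ) • η + (-(d : ℤ)) • η' ∈ Cfsg.zspan {χ : ↥NK → ℂ |
        Cfsg.IsIrrCharacter ↥NK χ ∧ ∃ k : ↥NK, (k : G) ∈ K ∧ χ k ≠ χ 1} :=
      Submodule.add_mem _ m1 m2
    refine ⟨e1 ▸ m3, ?_, ?_⟩
    · rw [e1, hadd _ m1 _ m2, hsmul η (hmem η hη), hsmul η' (hmem η' hη'), zsmul_fun_eq,
        zsmul_fun_eq, hd, hd']
      push_cast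
      ext x
      simp only [Pi.sub_apply, Pi.add_apply, Pi.smul_apply, smul_eq_mul]
      ring
    · apply hext
      refine ⟨e1 ▸ m3, ?_⟩
      intro x hx
      have hx1 : x = 1 := by simpa using hx
      subst hx1
      simp only [Pi.sub_apply, Pi.smul_apply, smul_eq_mul]
      ring
  have hsign : ∀ η ∈ {χ : ↥NK → ℂ | Cfsg.IsIrrCharacter ↥NK χ ∧
      ∃ k : ↥NK, (k : G) ∈ K ∧ χ k ≠ χ 1},
      ∃ θ : G → ℂ, Cfsg.IsIrrCharacter G θ ∧ (star η = θ ∨ star η = -θ) := by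
    intro η hη
    apply exists_signed_irr_of_norm_one (hgen η (hmem η hη))
    rw [hiso η (hmem η hη) η (hmem η hη)]
    exact classInner_irr_self hη.1
  have hψcf := IsCharacter.isClassFunction (IsIrrCharacter.isCharacter hψ)
  have hfree := tifrob_free K hC
  have relS : ∀ η ∈ {χ : ↥NK → ℂ | Cfsg.IsIrrCharacter ↥NK χ ∧
      ∃ k : ↥NK, (k : G) ∈ K ∧ χ k ≠ χ 1}, ∃ k ∈ K.subgroupOf NK, η k ≠ η 1 := by
    intro η hη
    obtain ⟨k, hk, hne⟩ := hη.2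
    exact ⟨k, Subgroup.mem_subgroupOf.mpr hk, hne⟩
  constructor
  · rintro ⟨χ, hχ, hor⟩
    have hΨcf : Cfsg.IsClassFunction G (star χ) :=
      IsGeneralizedCharacter.isClassFunction (hgen χ (hmem χ hχ))
    have hχcf : Cfsg.IsClassFunction ↥NK χ :=
      IsCharacter.isClassFunction (IsIrrCharacter.isCharacter hχ.1)
    obtain ⟨c, hc⟩ := tifrob_core K hC (star χ) hΨcf χ hχcf (by
      intro η η' hη hη' hrel hrel'
      obtain ⟨hm, -, hind⟩ := hcomb η η' ⟨hη, hrel⟩ ⟨hη', hrel'⟩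
      rw [← hind, hiso _ hm χ (hmem χ hχ)])
    by_contra hcon
    push Not at hcon
    have hconst : ∀ a ∈ K, ∀ b ∈ K, a ≠ 1 → b ≠ 1 → star χ a = star χ b := by
      intro a ha b hb ha1 hb1
      have h1 := hcon a ha b hb ha1 hb1
      rcases hor with h | h
      · rw [h] at h1
        exact h1
      · rw [h] at h1
        simpa using h1
    obtain ⟨χ1, hχ1, ξ1, hξ1, hne1⟩ := htwo
    have hexξ : ∃ ξ ∈ {χ : ↥NK → ℂ | Cfsg.IsIrrCharacter ↥NK χ ∧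
        ∃ k : ↥NK, (k : G) ∈ K ∧ χ k ≠ χ 1}, χ ≠ ξ := by
      by_cases h : χ = χ1
      · exact ⟨ξ1, hξ1, h ▸ hne1⟩
      · exact ⟨χ1, hχ1, h⟩
    obtain ⟨ξ, hξ, hne⟩ := hexξ
    by_cases hex : ∃ a : ↥NK, (a : G) ∈ K ∧ a ≠ 1
    · obtain ⟨a0, ha0, ha01⟩ := hex
      apply relevant_not_const (K.subgroupOf NK) hfree χ ξ hχ.1 hξ.1 (relS χ hχ) (relS ξ hξ) hne
        (star χ a0 - c)
      intro k hk hk1
      have h1 := hc k (Subgroup.mem_subgroupOf.mp hk) hk1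
      have h2 := hconst k (Subgroup.mem_subgroupOf.mp hk) a0 ha0
        (fun e => hk1 (Subtype.ext e)) (fun e => ha01 (Subtype.ext e))
      rw [← h2]
      linear_combination -h1
    · apply relevant_not_const (K.subgroupOf NK) hfree χ ξ hχ.1 hξ.1 (relS χ hχ) (relS ξ hξ) hne 0
      intro k hk hk1
      exact absurd ⟨k, Subgroup.mem_subgroupOf.mp hk, hk1⟩ hex
  · rintro ⟨a, ha, b, hb, ha1, hb1, hab⟩
    by_contra hcon
    push Not at hcon
    have horth : ∀ η ∈ {χ : ↥NK → ℂ | Cfsg.IsIrrCharacter ↥NK χ ∧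
        ∃ k : ↥NK, (k : G) ∈ K ∧ χ k ≠ χ 1}, Cfsg.classInner (star η) ψ = 0 := by
      intro η hη
      obtain ⟨θ, hθ, hor⟩ := hsign η hη
      have hne : θ ≠ ψ := by
        rintro rfl
        rcases hor with h | h
        · exact (hcon η hη).1 h.symm
        · exact (hcon η hη).2 (by rw [h, neg_neg])
      rcases hor with h | h
      · rw [h]
        exact classInner_irr_ne hθ hψ hne
      · rw [h, classInner_neg_left, classInner_irr_ne hθ hψ hne, neg_zero]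
    obtain ⟨c, hc⟩ := tifrob_core K hC ψ hψcf 0 IsClassFunction.zero (by
      intro η η' hη hη' hrel hrel'
      obtain ⟨hm, hlin, hind⟩ := hcomb η η' ⟨hη, hrel⟩ ⟨hη', hrel'⟩
      rw [← hind, hlin, classInner_sub_left, classInner_smul_left, classInner_smul_left,
        horth η ⟨hη, hrel⟩, horth η' ⟨hη', hrel'⟩, classInner_zero_right]
      ring)
    apply hab
    have h1 := hc ⟨a, Subgroup.le_normalizer ha⟩ ha (fun e => ha1 (congrArg Subtype.val e))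
    have h2 := hc ⟨b, Subgroup.le_normalizer hb⟩ hb (fun e => hb1 (congrArg Subtype.val e))
    simp only [Pi.zero_apply, sub_zero] at h1 h2
    rw [h1, h2]

end

end Cfsg.Agent.Helper6
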