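import Mathlib
import Cfsg.Prelude.Def_Characters
import Cfsg.Prelude.Def_OddOrderChar
import Cfsg.Prelude.Def_OddOrderLocal
import Cfsg.Agent.Helper6.Coh66D
import Cfsg.Agent.Helper6.TIFrob5
import Cfsg.Agent.Helper6.FrobInd2

/-!
# Sibley's theorem: the set-up of a TI subgroup with Frobenius normalizer
-/

set_option autoImplicit false
set_option linter.style.haveILetI false

namespace Cfsg.Agent.Helper6

open scoped ComplexConjugate

universe u

variable {G : Type u} [Group G]

section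

variable (K : Subgroup G)

local notation "NK" => Subgroup.normalizer (K : Set G)

local notation "KN" => K.subgroupOf (Subgroup.normalizer (K : Set G))

/-- `K` is normal in its normalizer -/
theorem sib_normal : (KN).Normal := Subgroup.normal_in_normalizer

/-- the members of `S` are irreducible -/
theorem sib_irr [Fintype G] [Fintype ↥NK]
    (hC : ∀ k ∈ K, k ≠ 1 → Subgroup.centralizer ({k} : Set G) ≤ K) :
    ∀ χ ∈ Cfsg.inducedIrrAbove KN ⊥, Cfsg.IsIrrCharacter ↥NK χ := by
  haveI := sib_normal K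
  rintro χ ⟨θ, h0, h1, -, rfl⟩
  exact indFun_irr_of_free KN (tifrob_free K hC) θ h0 h1

/-- an irreducible character of `K` which is constant is principal -/
theorem irr_eq_one_of_const {H : Type*} [Group H] [Fintype H] (θ : H → ℂ)
    (h0 : Cfsg.IsIrrCharacter H θ) (hc : ∀ a : H, θ a = θ 1) : θ = fun _ => 1 := by
  by_contra hne
  have h1 := classInner_irr_ne h0 isIrrCharacter_one hne
  rw [classInner_def] at h1
  simp only [map_one, mul_one, hc, Finset.sum_const, Finset.card_univ, nsmul_eq_mul] at h1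
  have hH0 : (Nat.card H : ℂ) ≠ 0 := by
    have : 0 < Nat.card H := Nat.card_pos
    exact_mod_cast this.ne'
  rw [← Nat.card_eq_fintype_card, ← mul_assoc, inv_mul_cancel₀ hH0, one_mul] at h1
  exact IsIrrCharacter.apply_one_ne_zero h0 h1

/-- `S` is the set of irreducible characters of the normalizer not containing `K` in the kernel -/
theorem sib_S_eq [Fintype G] [Fintype ↥NK]
    (hC : ∀ k ∈ K, k ≠ 1 → Subgroup.centralizer ({k} : Set G) ≤ K) :
    Cfsg.inducedIrrAbove KN ⊥ =
      {χ : ↥NK → ℂ | Cfsg.IsIrrCharacter ↥NK χ ∧ ∃ k : ↥NK, (k : G) ∈ K ∧ χ k ≠ χ 1} := by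
  haveI := sib_normal K
  haveI : Fintype KN := Fintype.ofFinite _
  have hempty : Cfsg.inducedIrrAbove KN KN = ∅ := by
    rw [Set.eq_empty_iff_forall_notMem]
    rintro χ ⟨θ, h0, h1, h2, -⟩
    exact h1 (irr_eq_one_of_const θ h0 (fun a => h2 a a.2))
  have h := diff_inducedIrrAbove_eq KN KN le_rfl (by
    intro χ hχ
    exact sib_irr K hC χ hχ.1)
  rw [hempty, Set.sdiff_empty] at h
  rw [h]
  ext χ
  simp only [Set.mem_ofPred_eq]
  constructor
  · rintro ⟨h1, z, hz, hne⟩
    exact ⟨h1, z, Subgroup.mem_subgroupOf.mp hz, hne⟩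
  · rintro ⟨h1, z, hz, hne⟩
    exact ⟨h1, z, Subgroup.mem_subgroupOf.mpr hz, hne⟩

/-- members of `ℤ[S]` are class functions vanishing off `K` -/
theorem sib_zspan_props [Fintype G] [Fintype ↥NK] (α : ↥NK → ℂ)
    (hα : α ∈ Cfsg.zspan (Cfsg.inducedIrrAbove KN ⊥)) :
    Cfsg.IsClassFunction ↥NK α ∧ (∀ x : ↥NK, (x : G) ∉ K → α x = 0) ∧
      Cfsg.IsGeneralizedCharacter G (Cfsg.indFun NK α) := by
  haveI := sib_normal K
  induction hα using Submodule.span_induction with
  | mem χ hχ =>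
    obtain ⟨θ, h0, -, -, rfl⟩ := hχ
    have hc := isCharacter_indFun KN θ (IsIrrCharacter.isCharacter h0)
    refine ⟨indFun_isClassFunction _ _, ?_, ?_⟩
    · intro x hx
      exact indFun_normal_apply_off KN θ x (fun h => hx (Subgroup.mem_subgroupOf.mp h))
    · exact ⟨Cfsg.indFun NK (Cfsg.indFun KN θ), 0, isCharacter_indFun NK _ hc,
        IsCharacter.zero, by simp⟩
  | zero =>
    refine ⟨fun _ _ => rfl, fun _ _ => rfl, ?_⟩
    rw [indFun_zero]
    exact genchar_zero
  | add x y _ _ ihx ihy =>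
    refine ⟨IsClassFunction.add ihx.1 ihy.1, ?_, ?_⟩
    · intro z hz
      rw [Pi.add_apply, ihx.2.1 z hz, ihy.2.1 z hz, add_zero]
    · rw [indFun_add]
      exact genchar_add ihx.2.2 ihy.2.2
  | smul k x _ ihx =>
    have hk : k • x = (k : ℂ) • x := zsmul_fun_eq k x
    refine ⟨?_, ?_, ?_⟩
    · rw [hk]
      exact IsClassFunction.smul _ ihx.1
    · intro z hz
      rw [hk, Pi.smul_apply, ihx.2.1 z hz, smul_zero]
    · rw [hk, indFun_smul]
      exact genchar_intCast_smul ihx.2.2 k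

/-- induction is an isometry on the combinations of `S` vanishing at `1` -/
theorem sib_isometry [Fintype G] [Fintype ↥NK] (hTI : Cfsg.IsTISubset (K : Set G))
    (hC : ∀ k ∈ K, k ≠ 1 → Subgroup.centralizer ({k} : Set G) ≤ K) :
    Cfsg.IsLinearIsometryOn (Cfsg.zspanOn (Cfsg.inducedIrrAbove KN ⊥) {1}ᶜ)
      (fun α : ↥NK → ℂ => Cfsg.indFun NK α) ∧
    ∀ α ∈ Cfsg.zspanOn (Cfsg.inducedIrrAbove KN ⊥) ({1}ᶜ : Set ↥NK), Cfsg.indFun NK α 1 = 0 := by
  refine ⟨⟨?_, ?_, ?_, ?_⟩, ?_⟩
  · intro α _ β _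
    exact indFun_add NK α β
  · intro α _ n
    show Cfsg.indFun NK (n • α) = n • Cfsg.indFun NK α
    rw [zsmul_fun_eq, indFun_smul, zsmul_fun_eq]
  · intro α hα β hβ
    show Cfsg.classInner (Cfsg.indFun NK α) (Cfsg.indFun NK β) = Cfsg.classInner α β
    rw [frobenius_reciprocity NK α _ (indFun_isClassFunction NK β)]
    congr 1
    funext x
    obtain ⟨hcf, hvan, -⟩ := sib_zspan_props K β hβ.1
    exact tifrob_indFun_restrict K hTI hC β hcf hvan (hβ.2 1 (by simp)) x
  · intro α hα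
    exact (sib_zspan_props K α hα.1).2.2
  · intro α hα
    rw [indFun_apply_one, hα.2 1 (by simp), mul_zero]

end

end Cfsg.Agent.Helper6
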