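import Mathlib
import Cfsg.Prelude.Def_Characters
import Cfsg.Prelude.Def_OddOrderChar
import Cfsg.Prelude.Def_OddOrderLocal
import Cfsg.Agent.Helper6.SibSetA

/-!
# Sibley's theorem: the set-up, part B
-/

set_option autoImplicit false
set_option linter.style.haveILetI false

namespace Cfsg.Agent.Helper6

open scoped ComplexConjugate

universe u

/-- a nontrivial nilpotent subgroup properly contains its commutator subgroup -/
theorem commutator_lt_of_nilpotent {L : Type*} [Group L] (K : Subgroup L)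
    (hnil : Group.IsNilpotent K) (hK : K ≠ ⊥) : ⁅K, K⁆ < K := by
  refine lt_of_le_of_ne (commutator_self_le K) ?_
  intro heq
  apply hK
  have h1 : (⁅(⊤ : Subgroup K), (⊤ : Subgroup K)⁆).map K.subtype = K := by
    rw [Subgroup.map_commutator, ← MonoidHom.range_eq_map, Subgroup.range_subtype]
    exact heq
  have h2 : (⊤ : Subgroup K) ≤ ⁅(⊤ : Subgroup K), (⊤ : Subgroup K)⁆ := by
    intro x _
    have hx : (x : L) ∈ (⁅(⊤ : Subgroup K), (⊤ : Subgroup K)⁆).map K.subtype := by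
      rw [h1]
      exact x.2
    obtain ⟨y, hy, hyx⟩ := Subgroup.mem_map.mp hx
    have : y = x := Subtype.ext hyx
    rwa [this] at hy
  have h3 := eq_bot_of_le_commutator_top hnil ⊤ h2
  rw [Subgroup.eq_bot_iff_forall]
  intro x hx
  have h4 : (⟨x, hx⟩ : K) ∈ (⊤ : Subgroup K) := Subgroup.mem_top _
  rw [h3, Subgroup.mem_bot] at h4
  exact congrArg Subtype.val h4

variable {G : Type u} [Group G]

section

variable (K : Subgroup G)

local notation "NK" => Subgroup.normalizer (K : Set G)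

local notation "KN" => K.subgroupOf (Subgroup.normalizer (K : Set G))

/-- the normalizer modulo the commutator subgroup of `K` is still a Frobenius group -/
theorem sib_hfrob [Finite G]
    (hC : ∀ k ∈ K, k ≠ 1 → Subgroup.centralizer ({k} : Set G) ≤ K) :
    ∀ k ∈ KN, k ∉ ⁅KN, KN⁆ → ∀ x : ↥NK, x * k * x⁻¹ * k⁻¹ ∈ ⁅KN, KN⁆ → x ∈ KN := by
  haveI := sib_normal K
  haveI hMn : (⁅KN, KN⁆).Normal := Subgroup.commutator_normal KN KN
  intro k hk hkM x hx
  by_contra hxK
  have hfree := tifrob_free K hC x hxK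
  have hMK : ⁅KN, KN⁆ ≤ KN := commutator_self_le KN
  -- the commutator map on the commutator subgroup
  let f : ↥(⁅KN, KN⁆) → ↥(⁅KN, KN⁆) := fun m =>
    ⟨x * m * x⁻¹ * (m : ↥NK)⁻¹, Subgroup.mul_mem _ (hMn.conj_mem m m.2 x) (Subgroup.inv_mem _ m.2)⟩
  have hkey : ∀ a b : ↥NK, a ∈ KN → b ∈ KN → x * a * x⁻¹ * a⁻¹ = x * b * x⁻¹ * b⁻¹ → a = b := by
    intro a b ha hb hab
    have h1 : x * (b⁻¹ * a) = (b⁻¹ * a) * x := by
      have h2 : x * a * x⁻¹ = x * b * x⁻¹ * b⁻¹ * a := by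
        rw [← hab]; group
      have h3 : x * (b⁻¹ * a) * x⁻¹ = b⁻¹ * a := by
        have : x * (b⁻¹ * a) * x⁻¹ = (x * b * x⁻¹)⁻¹ * (x * a * x⁻¹) := by group
        rw [this, h2]; group
      have := congrArg (fun y => y * x) h3
      simpa [mul_assoc] using this
    have h4 := hfree (b⁻¹ * a) (Subgroup.mul_mem _ (Subgroup.inv_mem _ hb) ha) h1
    exact (inv_mul_eq_one.mp h4).symm
  have hinj : Function.Injective f := by
    intro m m' hmm
    have h1 : x * m * x⁻¹ * (m : ↥NK)⁻¹ = x * m' * x⁻¹ * (m' : ↥NK)⁻¹ :=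
      congrArg Subtype.val hmm
    exact Subtype.ext (hkey _ _ (hMK m.2) (hMK m'.2) h1)
  have hsurj : Function.Surjective f := Finite.surjective_of_injective hinj
  obtain ⟨m, hm⟩ := hsurj ⟨x * k * x⁻¹ * k⁻¹, hx⟩
  have h1 : x * m * x⁻¹ * (m : ↥NK)⁻¹ = x * k * x⁻¹ * k⁻¹ := congrArg Subtype.val hm
  have h2 := hkey _ _ (hMK m.2) hk h1
  exact hkM (h2 ▸ m.2)

/-- if `K` has odd order and is not abelian, its normalizer has odd order -/
theorem sib_odd_of_nonabelian [Finite G]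
    (hC : ∀ k ∈ K, k ≠ 1 → Subgroup.centralizer ({k} : Set G) ≤ K)
    (hKodd : Odd (Nat.card K)) (hna : ¬ IsMulCommutative K) : Odd (Nat.card ↥NK) := by
  haveI := sib_normal K
  by_contra hnodd
  rw [Nat.not_odd_iff_even, even_iff_two_dvd] at hnodd
  haveI : Fact (Nat.Prime 2) := ⟨Nat.prime_two⟩
  obtain ⟨t, ht⟩ := exists_prime_orderOf_dvd_card' (G := ↥NK) 2 hnodd
  have htK : t ∉ KN := by
    intro h
    have h1 : orderOf (⟨t, h⟩ : KN) = 2 := by
      rw [← ht]
      exact Subgroup.orderOf_mk t h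
    have h2 : 2 ∣ Nat.card KN := by
      rw [← h1]
      exact orderOf_dvd_natCard _
    rw [Nat.card_congr (Subgroup.subgroupOfEquivOfLe Subgroup.le_normalizer).toEquiv] at h2
    exact (Nat.not_even_iff_odd.mpr hKodd) (even_iff_two_dvd.mpr h2)
  have ht2 : t * t = 1 := by
    have := pow_orderOf_eq_one t
    rwa [ht, sq] at this
  have htinv : t⁻¹ = t := inv_eq_of_mul_eq_one_left ht2
  let φ : KN ≃* KN := MulAut.conjNormal t
  have hφapp : ∀ k : KN, ((φ k : KN) : ↥NK) = t * k * t⁻¹ := fun k => rfl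
  have hfpf : MonoidHom.FixedPointFree φ := by
    intro k hk
    have h1 : t * (k : ↥NK) * t⁻¹ = k := by
      rw [← hφapp, hk]
    have h2 : t * (k : ↥NK) = k * t := by
      have := congrArg (fun y => y * t) h1
      simpa [mul_assoc] using this
    have h3 := tifrob_free K hC t htK k k.2 h2
    exact Subtype.ext h3
  have hinv : Function.Involutive φ := by
    intro k
    apply Subtype.ext
    rw [hφapp, hφapp, htinv]
    calc t * (t * (k : ↥NK) * t) * t = (t * t) * k * (t * t) := by group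
      _ = k := by rw [ht2, one_mul, mul_one]
  haveI : Finite KN := inferInstance
  apply hna
  refine ⟨⟨fun a b => ?_⟩⟩
  have h1 := hfpf.commute_all_of_involutive hinv
    (⟨⟨(a : G), Subgroup.le_normalizer a.2⟩, a.2⟩ : KN)
    (⟨⟨(b : G), Subgroup.le_normalizer b.2⟩, b.2⟩ : KN)
  have h2 := congrArg (fun y : KN => ((y : ↥NK) : G)) h1.eq
  exact Subtype.ext h2

/-- the members of `S` are not real when the normalizer has odd order -/
theorem sib_conj [Fintype G] [Fintype ↥NK]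
    (hC : ∀ k ∈ K, k ≠ 1 → Subgroup.centralizer ({k} : Set G) ≤ K)
    (hodd : Odd (Nat.card ↥NK)) :
    ∀ χ ∈ Cfsg.inducedIrrAbove KN ⊥,
      Cfsg.conjFun χ ∈ Cfsg.inducedIrrAbove KN ⊥ ∧ Cfsg.conjFun χ ≠ χ := by
  intro χ hχ
  refine ⟨?_, ?_⟩
  · rw [← coe_indAbove] at hχ ⊢
    exact Finset.mem_coe.mpr (conjFun_mem_indAbove KN ⊥ χ (Finset.mem_coe.mp hχ))
  · intro h
    have hirr := sib_irr K hC χ hχ
    rw [sib_S_eq K hC] at hχ
    obtain ⟨-, k, -, hne⟩ := hχ
    have h1 := eq_one_of_real_of_odd hodd ⟨χ, hirr⟩ (by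
      intro g
      have h2 := congrFun h g
      unfold Cfsg.conjFun at h2
      exact Complex.conj_eq_iff_im.mp h2)
    apply hne
    show χ k = χ 1
    have h3 : χ = fun _ => 1 := h1
    rw [h3]

/-- the coherence system on `S` -/
theorem sib_system [Fintype G] [Fintype ↥NK] (hTI : Cfsg.IsTISubset (K : Set G))
    (hC : ∀ k ∈ K, k ≠ 1 → Subgroup.centralizer ({k} : Set G) ≤ K)
    (hodd : Odd (Nat.card ↥NK)) (hK1 : K ≠ ⊥) :
    ∃ R : (↥NK → ℂ) → Finset (G → ℂ),
      Cfsg.IsCoherenceSystem (Cfsg.inducedIrrAbove KN ⊥)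
        (fun α : ↥NK → ℂ => Cfsg.indFun NK α) R := by
  haveI := sib_normal K
  have hne : (Cfsg.inducedIrrAbove KN ⊥).Nonempty := by
    have hKN1 : KN ≠ ⊥ := by
      intro h
      apply hK1
      rw [Subgroup.eq_bot_iff_forall]
      intro x hx
      have h1 : (⟨x, Subgroup.le_normalizer hx⟩ : ↥NK) ∈ KN := Subgroup.mem_subgroupOf.mpr hx
      rw [h, Subgroup.mem_bot] at h1
      exact congrArg Subtype.val h1
    obtain ⟨χ, hχ⟩ := diff_nonempty KN KN le_rfl hKN1
    exact ⟨χ, hχ.1⟩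
  obtain ⟨hiso, h1⟩ := sib_isometry K hTI hC
  exact exists_coherenceSystem _ hne (sib_irr K hC) (sib_conj K hC hodd) _ hiso h1

end

end Cfsg.Agent.Helper6
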