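import Mathlib
import Cfsg.Prelude.Def_Characters
import Cfsg.Prelude.Def_OddOrderChar
import Cfsg.Prelude.Def_OddOrderLocal
import Cfsg.Agent.Helper6.SibSetB

/-!
# Sibley's theorem: the characters nontrivial on a central subgroup are coherent
-/

set_option autoImplicit false
set_option linter.style.haveILetI false

namespace Cfsg.Agent.Helper6

open scoped ComplexConjugate

universe u

variable {G : Type u} [Group G]

section

variable (K : Subgroup G)

local notation "NK" => Subgroup.normalizer (K : Set G)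

local notation "KN" => K.subgroupOf (Subgroup.normalizer (K : Set G))

theorem sib_KN_ne_bot (hK1 : K ≠ ⊥) : KN ≠ ⊥ := by
  intro h
  apply hK1
  rw [Subgroup.eq_bot_iff_forall]
  intro x hx
  have h1 : (⟨x, Subgroup.le_normalizer hx⟩ : ↥NK) ∈ KN := Subgroup.mem_subgroupOf.mpr hx
  rw [h, Subgroup.mem_bot] at h1
  exact congrArg Subtype.val h1

theorem sib_KN_lt_top (hlt : K < NK) : KN < ⊤ := by
  refine lt_of_le_of_ne le_top ?_
  intro h
  apply lt_irrefl K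
  refine lt_of_lt_of_le hlt ?_
  intro x hx
  have h1 : (⟨x, hx⟩ : ↥NK) ∈ KN := by
    rw [h]
    exact Subgroup.mem_top _
  exact Subgroup.mem_subgroupOf.mp h1

theorem sib_isPGroup (p : ℕ) (hK : IsPGroup p K) : IsPGroup p KN :=
  hK.of_equiv (Subgroup.subgroupOfEquivOfLe Subgroup.le_normalizer).symm

theorem sib_card_KN : Nat.card KN = Nat.card K :=
  Nat.card_congr (Subgroup.subgroupOfEquivOfLe Subgroup.le_normalizer).toEquiv

set_option maxHeartbeats 800000 in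
/-- the irreducible characters of the normalizer of a non-abelian TI Sylow `p`-subgroup, `p` odd,
which are nontrivial on a normal subgroup `Z` of the normalizer contained in the centre of `K`,
form a coherent set -/
theorem sib_coherent_Z [Fintype G] [Fintype ↥NK] (p : ℕ) [hp : Fact p.Prime] (hp2 : p ≠ 2)
    (hKp : IsPGroup p K) (hna : ¬ IsMulCommutative K) (hTI : Cfsg.IsTISubset (K : Set G))
    (hlt : K < NK) (hC : ∀ k ∈ K, k ≠ 1 → Subgroup.centralizer ({k} : Set G) ≤ K)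
    (Z : Subgroup G) (hZ1 : Z ≠ ⊥) (hZP : ∀ z ∈ Z, z ∈ K ∧ ∀ y ∈ K, z * y = y * z)
    (hZn : ∀ x ∈ NK, ∀ z ∈ Z, x * z * x⁻¹ ∈ Z) :
    Odd (Nat.card ↥NK) ∧
    Cfsg.inducedIrrAbove KN ⊥ \ Cfsg.inducedIrrAbove KN (Z.subgroupOf NK) =
      {χ : ↥NK → ℂ | Cfsg.IsIrrCharacter ↥NK χ ∧ ∃ z : ↥NK, (z : G) ∈ Z ∧ χ z ≠ χ 1} ∧
    Cfsg.IsCoherent {χ : ↥NK → ℂ | Cfsg.IsIrrCharacter ↥NK χ ∧
      ∃ z : ↥NK, (z : G) ∈ Z ∧ χ z ≠ χ 1} {1}ᶜ (fun α => Cfsg.indFun NK α) := by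
  classical
  haveI := sib_normal K
  have hK1 : K ≠ ⊥ := by
    rintro rfl
    apply hna
    refine ⟨⟨fun a b => ?_⟩⟩
    have ha : a = 1 := Subtype.ext (Subgroup.mem_bot.mp a.2)
    have hb : b = 1 := Subtype.ext (Subgroup.mem_bot.mp b.2)
    rw [ha, hb]
  have hKodd : Odd (Nat.card K) := by
    obtain ⟨k, hk⟩ := IsPGroup.iff_card.mp hKp
    rw [hk]
    exact Odd.pow (hp.1.odd_of_ne_two hp2)
  have hodd := sib_odd_of_nonabelian K hC hKodd hna
  refine ⟨hodd, ?_⟩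
  obtain ⟨R, hS⟩ := sib_system K hTI hC hodd hK1
  have hKNp := sib_isPGroup K p hKp
  have hnil : Group.IsNilpotent KN := hKNp.isNilpotent
  have hsolv : Group.IsSolvable KN := by
    haveI := hnil
    infer_instance
  haveI hZNn : (Z.subgroupOf NK).Normal := by
    constructor
    intro n hn g
    rw [Subgroup.mem_subgroupOf] at hn ⊢
    exact hZn g g.2 n hn
  have hZN1 : Z.subgroupOf NK ≠ ⊥ := by
    intro h
    apply hZ1
    rw [Subgroup.eq_bot_iff_forall]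
    intro x hx
    have h1 : (⟨x, Subgroup.le_normalizer (hZP x hx).1⟩ : ↥NK) ∈ Z.subgroupOf NK :=
      Subgroup.mem_subgroupOf.mpr hx
    rw [h, Subgroup.mem_bot] at h1
    exact congrArg Subtype.val h1
  have hZK : Z.subgroupOf NK ≤ KN := by
    intro z hz
    rw [Subgroup.mem_subgroupOf] at hz ⊢
    exact (hZP _ hz).1
  have hZc : ∀ z ∈ Z.subgroupOf NK, ∀ k ∈ KN, z * k = k * z := by
    intro z hz k hk
    rw [Subgroup.mem_subgroupOf] at hz hk
    exact Subtype.ext ((hZP _ hz).2 _ hk)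
  have h := coherent_66 KN hsolv _ R hS hodd hnil
    (commutator_lt_of_nilpotent KN hnil (sib_KN_ne_bot K hK1)) (sib_KN_lt_top K hlt)
    (sib_hfrob K hC) (Z.subgroupOf NK) hZN1 hZK hZc
    (fun χ hχ => sib_irr K hC χ hχ.1)
  have hset : ({χ : ↥NK → ℂ | Cfsg.IsIrrCharacter ↥NK χ ∧
      ∃ z ∈ Z.subgroupOf NK, χ z ≠ χ 1} : Set (↥NK → ℂ)) =
      {χ : ↥NK → ℂ | Cfsg.IsIrrCharacter ↥NK χ ∧ ∃ z : ↥NK, (z : G) ∈ Z ∧ χ z ≠ χ 1} := by
    ext χ
    simp only [Set.mem_ofPred_eq]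
    constructor
    · rintro ⟨h1, z, hz, hne⟩
      exact ⟨h1, z, Subgroup.mem_subgroupOf.mp hz, hne⟩
    · rintro ⟨h1, z, hz, hne⟩
      exact ⟨h1, z, Subgroup.mem_subgroupOf.mpr hz, hne⟩
  obtain ⟨h1, h2⟩ := h
  rw [h1, hset] at h2
  rw [h1, hset]
  exact ⟨rfl, h2⟩

end

end Cfsg.Agent.Helper6
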