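import Mathlib
import Cfsg.Prelude.Def_Characters
import Cfsg.Prelude.Def_OddOrderChar
import Cfsg.Prelude.Def_OddOrderLocal
import Cfsg.Agent.Helper6.SibSetC
import Cfsg.Agent.Helper6.Sib67E
import Cfsg.Agent.Helper6.Regular
import Cfsg.Agent.Helper6.SibDownC

/-!
# Sibley's theorem: divisibility of the multiplicities outside the coherent part
-/

set_option autoImplicit false
set_option linter.style.haveILetI false

namespace Cfsg.Agent.Helper6

open scoped ComplexConjugate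

universe u

/-- a class function whose multiplicities in the irreducible characters nontrivial on `Zs` are
proportional to their degrees is constant on the non-identity elements of `Zs` -/
theorem diff_const_of_inner {L : Type u} [Group L] [Fintype L] (f : L → ℂ)
    (hf : Cfsg.IsClassFunction L f) (r : ℂ) (Zs : Set L)
    (h : ∀ η : L → ℂ, Cfsg.IsIrrCharacter L η → (∃ z ∈ Zs, η z ≠ η 1) →
      Cfsg.classInner f η = r * η 1) :
    ∀ z ∈ Zs, z ≠ 1 → f 1 - f z = r * (Nat.card L : ℂ) := by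
  classical
  haveI : Finite (Cfsg.IrrCharacter L) := irr_finite
  haveI : Fintype (Cfsg.IrrCharacter L) := Fintype.ofFinite _
  intro z hz hz1
  have hexp := classFunction_expansion f hf
  have h1 := congrFun hexp 1
  have hzv := congrFun hexp z
  rw [Finset.sum_apply] at h1 hzv
  simp only [Pi.smul_apply, smul_eq_mul] at h1 hzv
  rw [h1, hzv, ← Finset.sum_sub_distrib]
  have hterm : ∀ η : Cfsg.IrrCharacter L,
      Cfsg.classInner f (η : L → ℂ) * (η : L → ℂ) 1 - Cfsg.classInner f (η : L → ℂ) * (η : L → ℂ) z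
        = r * ((η : L → ℂ) 1 * (η : L → ℂ) 1 - (η : L → ℂ) 1 * (η : L → ℂ) z) := by
    intro η
    by_cases hη : (η : L → ℂ) z = (η : L → ℂ) 1
    · rw [hη]
      ring
    · rw [h η η.2 ⟨z, hz, hη⟩]
      ring
  rw [Finset.sum_congr rfl (fun η _ => hterm η), ← Finset.mul_sum, Finset.sum_sub_distrib]
  have e1 := sum_degree_mul_irr (1 : L)
  have e2 := sum_degree_mul_irr z
  rw [if_pos rfl] at e1
  rw [if_neg hz1] at e2
  rw [e1, e2, sub_zero]

section

variable {G : Type u} [Group G]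

variable (K : Subgroup G)

local notation "NK" => Subgroup.normalizer (K : Set G)

local notation "KN" => K.subgroupOf (Subgroup.normalizer (K : Set G))

set_option maxHeartbeats 3200000 in
/-- the divisibility needed for the downward extension in Sibley's theorem -/
theorem sib_hint [Fintype G] [Fintype ↥NK] (p : ℕ) [Fact p.Prime] (P : Sylow p G)
    (hPK : (P : Subgroup G) = K) (hTI : Cfsg.IsTISubset (K : Set G))
    (hC : ∀ k ∈ K, k ≠ 1 → Subgroup.centralizer ({k} : Set G) ≤ K)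
    (hodd : Odd (Nat.card ↥NK))
    (Z : Subgroup G) (hZ1 : Z ≠ ⊥) (hZP : ∀ z ∈ Z, z ∈ K ∧ ∀ y ∈ K, z * y = y * z)
    (hZn : ∀ x ∈ NK, ∀ z ∈ Z, x * z * x⁻¹ ∈ Z)
    (T : Finset (↥NK → ℂ)) (hT : ∀ ξ ∈ T, ξ ∈ Cfsg.inducedIrrAbove KN ⊥)
    (hXT : ∀ η : ↥NK → ℂ, Cfsg.IsIrrCharacter ↥NK η → (∃ z : ↥NK, (z : G) ∈ Z ∧ η z ≠ η 1) →
      η ∈ T)
    (τ₁ : (↥NK → ℂ) → (G → ℂ))
    (hτ₁ : Cfsg.IsLinearIsometryOn (Cfsg.zspan (↑T : Set (↥NK → ℂ))) τ₁)
    (hag : ∀ θ ∈ Cfsg.zspanOn (↑T : Set (↥NK → ℂ)) {1}ᶜ, τ₁ θ = Cfsg.indFun NK θ)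
    (Ξ : G → ℂ) (hΞ : Cfsg.IsIrrCharacter G Ξ)
    (hor : ∀ ξ ∈ T, Cfsg.classInner Ξ (τ₁ ξ) = 0)
    (ψ : ↥NK → ℂ) (hψ : ψ ∈ T) (χ : ↥NK → ℂ) (hχ : χ ∈ Cfsg.inducedIrrAbove KN ⊥) (a : ℕ)
    (ha : Cfsg.charDegree ψ = a * Cfsg.charDegree χ) :
    ∃ m : ℤ, Cfsg.classInner (Cfsg.indFun NK (ψ - (a : ℂ) • χ)) Ξ = (a : ℂ) * m := by
  classical
  haveI := sib_normal K
  obtain ⟨hadd₁, hsmul₁, hiso₁, hgen₁⟩ := id hτ₁
  have hczG : ∀ (k : ℤ) (f : G → ℂ), (k : ℂ) • f = k • f := fun k f =>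
    Int.cast_smul_eq_zsmul ℂ k f
  have hcz : ∀ (k : ℤ) (f : ↥NK → ℂ), (k : ℂ) • f = k • f := fun k f =>
    Int.cast_smul_eq_zsmul ℂ k f
  have hΞc := IsIrrCharacter.isCharacter hΞ
  have hΞcf := IsCharacter.isClassFunction hΞc
  set f : ↥NK → ℂ := fun x => Ξ x with hf
  have hfc : Cfsg.IsCharacter ↥NK f := IsCharacter.restrict NK hΞc
  have hfcf := IsCharacter.isClassFunction hfc
  have hirrT : ∀ ξ ∈ T, Cfsg.IsIrrCharacter ↥NK ξ := fun ξ hξ => sib_irr K hC ξ (hT ξ hξ)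
  have hdT : ∀ ξ ∈ T, ξ 1 = (Cfsg.charDegree ξ : ℂ) := fun ξ hξ =>
    (charDegree_cast_of_isCharacter (IsIrrCharacter.isCharacter (hirrT ξ hξ))).symm
  have hχirr := sib_irr K hC χ hχ
  -- orthogonality
  have hτ₁Ξ : ∀ g ∈ Cfsg.zspan (↑T : Set (↥NK → ℂ)), Cfsg.classInner (τ₁ g) Ξ = 0 := by
    intro g hg
    induction hg using Submodule.span_induction with
    | mem ξ hξ => rw [classInner_conj_symm Ξ (τ₁ ξ), hor ξ hξ, map_zero]
    | zero => rw [isometryOnSpan_map_zero _ τ₁ hτ₁, classInner_zero_left]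
    | add x y hx hy ihx ihy => rw [hadd₁ x hx y hy, classInner_add_left, ihx, ihy, add_zero]
    | smul k x hx ihx => rw [hsmul₁ x hx k, ← hczG, classInner_smul_left, ihx, mul_zero]
  have hαf : ∀ α ∈ Cfsg.zspanOn (↑T : Set (↥NK → ℂ)) {1}ᶜ, Cfsg.classInner α f = 0 := by
    intro α hα
    rw [hf, ← frobenius_reciprocity NK α Ξ hΞcf, ← hag α hα]
    exact hτ₁Ξ α hα.1
  -- multiplicities
  obtain ⟨n, hn⟩ := classInner_char_char_nat (IsIrrCharacter.isCharacter (hirrT ψ hψ)) hfc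
  obtain ⟨nχ, hnχ⟩ := classInner_char_char_nat (IsIrrCharacter.isCharacter hχirr) hfc
  have hdψ0 : (Cfsg.charDegree ψ : ℂ) ≠ 0 := by
    rw [← hdT ψ hψ]
    exact IsIrrCharacter.apply_one_ne_zero (hirrT ψ hψ)
  set r : ℂ := (n : ℂ) / (Cfsg.charDegree ψ : ℂ) with hr
  have hξf : ∀ ξ ∈ T, Cfsg.classInner ξ f = r * ξ 1 := by
    intro ξ hξ
    have hmem := deg_comb_mem_zspanOn (↑T) ξ ψ hξ hψ (Cfsg.charDegree ψ) (Cfsg.charDegree ξ)
      (hdT ψ hψ) (hdT ξ hξ)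
    have h1 := hαf _ hmem
    rw [← hcz, ← hcz, classInner_sub_left, classInner_smul_left, classInner_smul_left, hn] at h1
    rw [hr, hdT ξ hξ]
    field_simp
    push_cast at h1
    linear_combination h1
  have hrconj : conj r = r := by
    rw [hr, map_div₀, map_natCast, map_natCast]
  -- the values on `Z`
  have hdiff := diff_const_of_inner f hfcf r {z : ↥NK | (z : G) ∈ Z} (by
    intro η hη hex
    obtain ⟨z, hz, hne⟩ := hex
    have hηT : η ∈ T := hXT η hη ⟨z, hz, hne⟩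
    obtain ⟨d, hd⟩ := IsCharacter.apply_one (IsIrrCharacter.isCharacter hη)
    rw [classInner_conj_symm η f, hξf η hηT, map_mul, hrconj, hd, map_natCast])
  have hZNK : ∀ z ∈ Z, z ∈ NK := fun z hz => Subgroup.le_normalizer (hZP z hz).1
  have hΞdiff : ∀ z ∈ Z, z ≠ 1 → Ξ 1 - Ξ z = r * (Nat.card ↥NK : ℂ) := by
    intro z hz hz1
    have := hdiff ⟨z, hZNK z hz⟩ hz (fun h => hz1 (congrArg Subtype.val h))
    exact this
  obtain ⟨z₀, hz₀, hz₀1⟩ : ∃ z ∈ Z, z ≠ 1 := by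
    by_contra hcon
    push Not at hcon
    exact hZ1 ((Subgroup.eq_bot_iff_forall Z).mpr hcon)
  subst hPK
  obtain ⟨n', d', hn', hd', hdvd⟩ := sibley_congruence p P hTI hodd Z hZ1
    (fun z hz => (hZP z hz).1) hZn (fun z hz => (hZP z hz).2) Ξ hΞ (by
      intro z hz z' hz' h1 h1'
      have e1 := hΞdiff z hz h1
      have e2 := hΞdiff z' hz' h1'
      linear_combination e2 - e1) z₀ hz₀ hz₀1
  obtain ⟨s, hs⟩ := hdvd
  -- orders
  have hcardNK : Nat.card ↥(Subgroup.normalizer ((P : Subgroup G) : Set G)) =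
      ((P : Subgroup G).subgroupOf (Subgroup.normalizer ((P : Subgroup G) : Set G))).index *
        Nat.card (P : Subgroup G) := by
    rw [← sib_card_KN (P : Subgroup G), Subgroup.index_mul_card]
  set e := ((P : Subgroup G).subgroupOf (Subgroup.normalizer ((P : Subgroup G) : Set G))).index
    with he
  have hepos : 0 < e := Nat.pos_of_ne_zero Subgroup.index_ne_zero_of_finite
  have hPpos : 0 < Nat.card (P : Subgroup G) := Nat.card_pos
  -- the degree of `χ`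
  obtain ⟨θ, hθ0, -, -, hχθ⟩ := hχ
  have hdχ : Cfsg.charDegree χ = e * Cfsg.charDegree θ := by
    rw [hχθ, charDegree_indFun_normal _ θ (IsIrrCharacter.isCharacter hθ0)]
  set t := Cfsg.charDegree θ with ht
  -- the key equation
  have h1 := hΞdiff z₀ hz₀ hz₀1
  rw [hd', hn', hcardNK, hr] at h1
  have h2 : ((d' - n' : ℤ) : ℂ) = ((Nat.card (P : Subgroup G) : ℤ) * s : ℤ) := by rw [hs]
  have h3 : (n : ℂ) * (e : ℂ) = (s : ℂ) * (Cfsg.charDegree ψ : ℂ) := by
    have hP0 : (Nat.card (P : Subgroup G) : ℂ) ≠ 0 := by exact_mod_cast hPpos.ne'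
    push_cast at h1 h2
    rw [h2] at h1
    have hq : (n : ℂ) / (Cfsg.charDegree ψ : ℂ) * (Cfsg.charDegree ψ : ℂ) = n :=
      div_mul_cancel₀ _ hdψ0
    have h4 : (Nat.card (P : Subgroup G) : ℂ) * ((n : ℂ) * (e : ℂ)) =
        (Nat.card (P : Subgroup G) : ℂ) * ((s : ℂ) * (Cfsg.charDegree ψ : ℂ)) := by
      linear_combination (-(Cfsg.charDegree ψ : ℂ)) * h1 -
        (e : ℂ) * (Nat.card (P : Subgroup G) : ℂ) * hq
    exact mul_left_cancel₀ hP0 h4
  have h5 : (n : ℤ) = a * (s * t) := by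
    have he0 : (e : ℂ) ≠ 0 := by exact_mod_cast hepos.ne'
    have h6 : (e : ℂ) * (n : ℂ) = (e : ℂ) * ((a : ℂ) * ((s : ℂ) * (t : ℂ))) := by
      rw [ha, hdχ] at h3
      push_cast at h3
      linear_combination h3
    have h7 := mul_left_cancel₀ he0 h6
    exact_mod_cast h7
  refine ⟨s * t - nχ, ?_⟩
  rw [frobenius_reciprocity _ _ Ξ hΞcf, classInner_sub_left, classInner_smul_left]
  change Cfsg.classInner ψ f - (a : ℂ) * Cfsg.classInner χ f = _
  rw [hn, hnχ]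
  have h8 : (n : ℂ) = ((a * (s * t) : ℤ) : ℂ) := by
    rw [← h5]
    simp
  rw [h8]
  push_cast
  ring

end

end Cfsg.Agent.Helper6
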