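import Mathlib
import Cfsg.Prelude.Def_Characters
import Cfsg.Prelude.Def_OddOrderChar
import Cfsg.Prelude.Def_OddOrderLocal
import Cfsg.Agent.Helper6.SibDownD
import Cfsg.Agent.Helper6.FeitCohF

/-!
# Sibley's theorem: the case of a non-abelian TI Sylow subgroup
-/

set_option autoImplicit false
set_option linter.style.haveILetI false

namespace Cfsg.Agent.Helper6

open scoped ComplexConjugate

universe u v

/-- a linear isometry on a set is one on every subset -/
theorem isometryOn_mono {L : Type u} [Group L] [Fintype L] {G : Type v} [Group G] [Fintype G]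
    {E E' : Set (L → ℂ)} (h : E' ⊆ E) (τ : (L → ℂ) → (G → ℂ))
    (hτ : Cfsg.IsLinearIsometryOn E τ) : Cfsg.IsLinearIsometryOn E' τ :=
  ⟨fun α hα β hβ => hτ.1 α (h hα) β (h hβ), fun α hα n => hτ.2.1 α (h hα) n,
    fun α hα β hβ => hτ.2.2.1 α (h hα) β (h hβ), fun α hα => hτ.2.2.2 α (h hα)⟩

/-- arithmetic: the order of the central subgroup is at least `2e + 1` -/
theorem arith_sib_Z (e r c k : ℕ) (he : Odd e) (hc : Odd c) (hc1 : 1 < c) (hk : r * c = k)
    (h1 : e ∣ r - 1) (h2 : e ∣ k - 1) (hr : 0 < r) : 2 * e ≤ c - 1 := by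
  have hcop : Nat.Coprime e r := by
    have h3 : Nat.gcd e r ∣ r - 1 := (Nat.gcd_dvd_left e r).trans h1
    have h4 : Nat.gcd e r ∣ r := Nat.gcd_dvd_right e r
    have h5 : Nat.gcd e r ∣ r - (r - 1) := Nat.dvd_sub h4 h3
    have h6 : r - (r - 1) = 1 := by omega
    rw [h6] at h5
    exact Nat.dvd_one.mp h5
  have h7 : k - 1 = r * (c - 1) + (r - 1) := by
    rw [← hk]
    have : r * c = r * (c - 1) + r := by
      have : c = (c - 1) + 1 := by omega
      conv_lhs => rw [this]
      ring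
    omega
  have h8 : e ∣ r * (c - 1) := by
    rw [h7] at h2
    exact (Nat.dvd_add_left h1).mp h2
  have h9 : e ∣ c - 1 := hcop.dvd_of_dvd_mul_left h8
  obtain ⟨q, hq⟩ := h9
  obtain ⟨a, ha⟩ := he
  obtain ⟨b, hb⟩ := hc
  have hqpos : 0 < q := by
    rcases Nat.eq_zero_or_pos q with h | h
    · rw [h, mul_zero] at hq
      omega
    · exact h
  have hqeven : Even q := by
    by_contra hodd
    rw [Nat.not_even_iff_odd] at hodd
    obtain ⟨t, ht⟩ := hodd
    have : c - 1 = (2 * a + 1) * (2 * t + 1) := by rw [hq, ha, ht]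
    have h10 : c - 1 = 2 * b := by omega
    rw [h10] at this
    have h11 : (2 * a + 1) * (2 * t + 1) = 2 * (2 * a * t + a + t) + 1 := by ring
    omega
  obtain ⟨t, ht⟩ := hqeven
  have : 1 ≤ t := by omega
  rw [hq, ht]
  nlinarith

section

variable {G : Type u} [Group G]

variable (K : Subgroup G)

local notation "NK" => Subgroup.normalizer (K : Set G)

local notation "KN" => K.subgroupOf (Subgroup.normalizer (K : Set G))

set_option maxHeartbeats 6400000 in
/-- Sibley's theorem for a non-abelian TI Sylow `p`-subgroup, `p` odd -/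
theorem sib_coherent_nonabelian [Fintype G] [Fintype ↥NK] (p : ℕ) [hp : Fact p.Prime]
    (hp2 : p ≠ 2) (P : Sylow p G) (hPK : (P : Subgroup G) = K) (hna : ¬ IsMulCommutative K)
    (hTI : Cfsg.IsTISubset (K : Set G)) (hlt : K < NK)
    (hC : ∀ k ∈ K, k ≠ 1 → Subgroup.centralizer ({k} : Set G) ≤ K) :
    Cfsg.IsCoherent (Cfsg.inducedIrrAbove KN ⊥) {1}ᶜ (fun α : ↥NK → ℂ => Cfsg.indFun NK α) := by
  classical
  haveI := sib_normal K
  have hKp : IsPGroup p K := by
    rw [← hPK]
    exact P.isPGroup'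
  have hK1 : K ≠ ⊥ := by
    rintro rfl
    apply hna
    refine ⟨⟨fun a b => ?_⟩⟩
    have ha : a = 1 := Subtype.ext (Subgroup.mem_bot.mp a.2)
    have hb : b = 1 := Subtype.ext (Subgroup.mem_bot.mp b.2)
    rw [ha, hb]
  -- the centre
  set Z : Subgroup G := (Subgroup.center K).map K.subtype with hZdef
  have hZmem : ∀ z, z ∈ Z ↔ z ∈ K ∧ ∀ y ∈ K, z * y = y * z := by
    intro z
    rw [hZdef, Subgroup.mem_map]
    constructor
    · rintro ⟨c, hc, rfl⟩
      refine ⟨c.2, fun y hy => ?_⟩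
      have := Subgroup.mem_center_iff.mp hc ⟨y, hy⟩
      exact (congrArg Subtype.val this).symm
    · rintro ⟨hzK, hcomm⟩
      refine ⟨⟨z, hzK⟩, ?_, rfl⟩
      rw [Subgroup.mem_center_iff]
      intro y
      exact Subtype.ext (hcomm y y.2).symm
  have hZ1 : Z ≠ ⊥ := by
    haveI : Nontrivial K := by
      rw [Subgroup.nontrivial_iff_ne_bot]
      exact hK1
    haveI := hKp.center_nontrivial
    obtain ⟨c, hc⟩ := exists_ne (1 : Subgroup.center K)
    intro h
    apply hc
    have h1 : ((c : K) : G) ∈ Z := by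
      rw [hZdef]
      exact Subgroup.mem_map_of_mem _ c.2
    rw [h, Subgroup.mem_bot] at h1
    apply Subtype.ext
    apply Subtype.ext
    exact h1
  have hZP : ∀ z ∈ Z, z ∈ K ∧ ∀ y ∈ K, z * y = y * z := fun z hz => (hZmem z).mp hz
  have hZn : ∀ x ∈ NK, ∀ z ∈ Z, x * z * x⁻¹ ∈ Z := by
    intro x hx z hz
    obtain ⟨hzK, hcomm⟩ := (hZmem z).mp hz
    rw [hZmem]
    have hxn := Subgroup.mem_normalizer_iff.mp hx
    refine ⟨(hxn z).mp hzK, ?_⟩
    intro y hy
    have hy' : x⁻¹ * y * x ∈ K := by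
      have := (Subgroup.mem_normalizer_iff.mp (Subgroup.inv_mem _ hx) y).mp hy
      simpa using this
    have h1 := hcomm _ hy'
    calc x * z * x⁻¹ * y = x * (z * (x⁻¹ * y * x)) * x⁻¹ := by group
      _ = x * ((x⁻¹ * y * x) * z) * x⁻¹ := by rw [h1]
      _ = y * (x * z * x⁻¹) := by group
  obtain ⟨hodd, hXFeq, hXFcoh⟩ := sib_coherent_Z K p hp2 hKp hna hTI hlt hC Z hZ1 hZP hZn
  haveI hZNn : (Z.subgroupOf NK).Normal := by
    constructor
    intro n hn g
    rw [Subgroup.mem_subgroupOf] at hn ⊢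
    exact hZn g g.2 n hn
  have hZNK : Z.subgroupOf NK ≤ KN := by
    intro z hz
    rw [Subgroup.mem_subgroupOf] at hz ⊢
    exact (hZP _ hz).1
  have hZc : ∀ z ∈ Z.subgroupOf NK, ∀ k ∈ KN, z * k = k * z := by
    intro z hz k hk
    rw [Subgroup.mem_subgroupOf] at hz hk
    exact Subtype.ext ((hZP _ hz).2 _ hk)
  obtain ⟨hτiso, hτ1⟩ := sib_isometry K hTI hC
  set τ : (↥NK → ℂ) → (G → ℂ) := fun α => Cfsg.indFun NK α with hτdef
  have hfree := tifrob_free K hC
  have hirrS : ∀ φ ∈ indAbove KN ⊥, Cfsg.IsIrrCharacter ↥NK φ := by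
    intro φ hφ
    apply sib_irr K hC
    rw [← coe_indAbove]
    exact Finset.mem_coe.mpr hφ
  set XF : Finset (↥NK → ℂ) := indAbove KN ⊥ \ indAbove KN (Z.subgroupOf NK) with hXF
  have hXFcoe : (↑XF : Set (↥NK → ℂ)) = {χ : ↥NK → ℂ | Cfsg.IsIrrCharacter ↥NK χ ∧
      ∃ z : ↥NK, (z : G) ∈ Z ∧ χ z ≠ χ 1} := by
    rw [hXF, Finset.coe_sdiff, coe_indAbove, coe_indAbove, hXFeq]
  -- numerical data
  set e := (KN).index with he
  set r := (Z.subgroupOf NK).relIndex KN with hr
  have hepos : 0 < e := Nat.pos_of_ne_zero Subgroup.index_ne_zero_of_finite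
  have hrel := relIndex_mul_card_of_le KN (Z.subgroupOf NK) hZNK
  have hrpos : 0 < r := by
    rcases Nat.eq_zero_or_pos r with h | h
    · rw [← hr, h, zero_mul] at hrel
      have : 0 < Nat.card KN := Nat.card_pos
      omega
    · exact h
  have hsumXF := sum_sq_diff KN (Z.subgroupOf NK) hZNK (fun χ hχ =>
    hirrS χ (Finset.mem_sdiff.mp hχ).1)
  rw [← hXF, ← he, ← hr] at hsumXF
  have hdr := frob_index_dvd KN (Z.subgroupOf NK) hfree
  have hdK := frob_index_dvd KN ⊥ hfree
  rw [Subgroup.relIndex_bot_left] at hdK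
  rw [← he] at hdr hdK
  rw [← hr] at hdr
  have heodd : Odd e := by
    have h1 : e ∣ Nat.card ↥NK := ⟨Nat.card KN, (Subgroup.index_mul_card KN).symm⟩
    exact Odd.of_dvd_nat hodd h1
  have hKNp := sib_isPGroup K p hKp
  obtain ⟨m, hcard⟩ := IsPGroup.iff_card.mp hKNp
  have hpodd : Odd p := hp.1.odd_of_ne_two hp2
  have hcZ : ∃ c, Nat.card (Z.subgroupOf NK) = p ^ c := by
    have h1 : Nat.card (Z.subgroupOf NK) ∣ p ^ m := by
      rw [← hcard]
      exact Dvd.intro_left _ hrel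
    obtain ⟨c, -, hc⟩ := (Nat.dvd_prime_pow hp.1).mp h1
    exact ⟨c, hc⟩
  obtain ⟨c, hcZ⟩ := hcZ
  have hZN1 : Z.subgroupOf NK ≠ ⊥ := by
    intro h
    apply hZ1
    rw [Subgroup.eq_bot_iff_forall]
    intro x hx
    have h1 : (⟨x, Subgroup.le_normalizer (hZP x hx).1⟩ : ↥NK) ∈ Z.subgroupOf NK :=
      Subgroup.mem_subgroupOf.mpr hx
    rw [h, Subgroup.mem_bot] at h1
    exact congrArg Subtype.val h1
  have hcZ1 : 1 < Nat.card (Z.subgroupOf NK) := by
    rw [Subgroup.one_lt_card_iff_ne_bot]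
    exact hZN1
  have hcZodd : Odd (Nat.card (Z.subgroupOf NK)) := by
    rw [hcZ]
    exact Odd.pow hpodd
  have h2e := arith_sib_Z e r (Nat.card (Z.subgroupOf NK)) (Nat.card KN) heodd hcZodd hcZ1 hrel
    hdr hdK hrpos
  have hXFbig : 2 * e ^ 2 * r ≤ ∑ φ ∈ XF, Cfsg.charDegree φ ^ 2 := by
    have h1 : e * Nat.card KN = e * r * (Nat.card (Z.subgroupOf NK) - 1) + e * r := by
      rw [← hrel]
      have : Nat.card (Z.subgroupOf NK) = (Nat.card (Z.subgroupOf NK) - 1) + 1 := by omega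
      conv_lhs => rw [this]
      ring
    have h3 : ∑ φ ∈ XF, Cfsg.charDegree φ ^ 2 = e * r * (Nat.card (Z.subgroupOf NK) - 1) := by
      omega
    rw [h3]
    calc 2 * e ^ 2 * r = e * r * (2 * e) := by ring
      _ ≤ e * r * (Nat.card (Z.subgroupOf NK) - 1) := Nat.mul_le_mul_left _ h2e
  have hdeg : ∀ φ ∈ indAbove KN ⊥, ∃ i : ℕ, Cfsg.charDegree φ = e * p ^ i ∧ (p ^ i) ^ 2 ∣ r :=
    fun φ hφ => charDegree_of_mem_diff KN p hp.1 m hcard (Z.subgroupOf NK) hZNK hZc φ hφ
  have hdS : ∀ φ ∈ indAbove KN ⊥, φ 1 = (Cfsg.charDegree φ : ℂ) := fun φ hφ =>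
    (charDegree_cast_of_isCharacter (IsIrrCharacter.isCharacter (hirrS φ hφ))).symm
  -- the family of coherent subsets
  set Pr : Finset (↥NK → ℂ) → Prop := fun T => XF ⊆ T ∧
    Cfsg.IsCoherent (↑T : Set (↥NK → ℂ)) {1}ᶜ τ with hPr
  set fam : Finset (Finset (↥NK → ℂ)) := (indAbove KN ⊥).powerset.filter Pr with hfam
  have hne : fam.Nonempty := by
    refine ⟨XF, ?_⟩
    rw [hfam, Finset.mem_filter, Finset.mem_powerset]
    refine ⟨Finset.sdiff_subset, Finset.Subset.refl _, ?_⟩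
    rw [hXFcoe]
    exact hXFcoh
  obtain ⟨T, hT, hTmax⟩ := Finset.exists_max_image fam Finset.card hne
  rw [hfam, Finset.mem_filter, Finset.mem_powerset] at hT
  obtain ⟨hTbot, hTXF, hTcoh⟩ := hT
  have hsumT : 2 * e ^ 2 * r ≤ ∑ φ ∈ T, Cfsg.charDegree φ ^ 2 :=
    hXFbig.trans (Finset.sum_le_sum_of_subset hTXF)
  have hTne : T.Nonempty := by
    by_contra hcon
    rw [Finset.not_nonempty_iff_eq_empty] at hcon
    rw [hcon, Finset.sum_empty] at hsumT
    have : 0 < 2 * e ^ 2 * r := by positivity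
    omega
  have hTall : T = indAbove KN ⊥ := by
    by_contra hTne'
    have hex : ∃ χ ∈ indAbove KN ⊥, χ ∉ T := by
      by_contra hcon
      push Not at hcon
      exact hTne' (Finset.Subset.antisymm hTbot hcon)
    obtain ⟨χ, hχS, hχT⟩ := hex
    obtain ⟨ψ, hψT, hψmin⟩ := Finset.exists_min_image T (fun φ => Cfsg.charDegree φ) hTne
    have hχirr := hirrS χ hχS
    have hirrT : ∀ ξ ∈ T, Cfsg.IsIrrCharacter ↥NK ξ := fun ξ hξ => hirrS ξ (hTbot hξ)
    have hinsS : insert χ T ⊆ indAbove KN ⊥ := by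
      intro f hf
      rcases Finset.mem_insert.mp hf with rfl | hf
      · exact hχS
      · exact hTbot hf
    have hd : ∀ ξ ∈ insert χ T, ξ 1 = ((fun φ => Cfsg.charDegree φ) ξ : ℂ) :=
      fun ξ hξ => hdS ξ (hinsS hξ)
    have hsub : (↑(insert χ T) : Set (↥NK → ℂ)) ⊆ Cfsg.inducedIrrAbove KN ⊥ := by
      rw [← coe_indAbove]
      exact Finset.coe_subset.mpr hinsS
    have hτ' : Cfsg.IsLinearIsometryOn
        (Cfsg.zspanOn (↑(insert χ T) : Set (↥NK → ℂ)) {1}ᶜ) τ :=
      isometryOn_mono (fun α hα => zspanOn_mono hsub _ hα) τ hτiso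
    have hτ1' : ∀ α ∈ Cfsg.zspanOn (↑(insert χ T) : Set (↥NK → ℂ)) {1}ᶜ, τ α 1 = 0 :=
      fun α hα => hτ1 α (zspanOn_mono hsub _ hα)
    obtain ⟨i, hi, hir⟩ := hdeg ψ (hTbot hψT)
    obtain ⟨j, hj, hjr⟩ := hdeg χ hχS
    have hr0 : (p ^ i) ^ 2 ≤ r := Nat.le_of_dvd hrpos hir
    have hext : Cfsg.IsCoherent (↑(insert χ T) : Set (↥NK → ℂ)) {1}ᶜ τ := by
      rcases le_or_gt i j with hij | hij
      · -- the degree of `ψ` divides the degree of `χ`
        have hdvd : Cfsg.charDegree ψ ∣ Cfsg.charDegree χ := by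
          rw [hi, hj]
          exact Nat.mul_dvd_mul_left _ (pow_dvd_pow p hij)
        have hχZ : χ ∈ indAbove KN (Z.subgroupOf NK) := by
          by_contra hcon
          exact hχT (hTXF (Finset.mem_sdiff.mpr ⟨hχS, hcon⟩))
        have hsumZ := frob_sum_sq KN (Z.subgroupOf NK) hfree
        rw [← he, ← hr] at hsumZ
        have hχle : Cfsg.charDegree χ ^ 2 ≤ e * (r - 1) := by
          rw [← hsumZ]
          exact Finset.single_le_sum (f := fun φ => Cfsg.charDegree φ ^ 2)
            (fun _ _ => Nat.zero_le _) hχZ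
        have hle : Cfsg.charDegree ψ ≤ Cfsg.charDegree χ :=
          Nat.le_of_dvd (by
            rw [hj]
            exact Nat.mul_pos hepos (pow_pos hp.1.pos j)) hdvd
        apply irr_extend_coherent T χ hirrT hχirr hχT (fun φ => Cfsg.charDegree φ) hd τ hτ' hτ1'
          hTcoh ψ hψT hdvd
        refine lt_of_lt_of_le ?_ hsumT
        calc 2 * Cfsg.charDegree ψ * Cfsg.charDegree χ
            ≤ 2 * Cfsg.charDegree χ * Cfsg.charDegree χ := by
              exact Nat.mul_le_mul_right _ (Nat.mul_le_mul_left _ hle)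
          _ = 2 * Cfsg.charDegree χ ^ 2 := by ring
          _ ≤ 2 * (e * (r - 1)) := Nat.mul_le_mul_left _ hχle
          _ < 2 * e ^ 2 * r := by
              have h1 : e * (r - 1) < e * r := by
                apply Nat.mul_lt_mul_of_pos_left _ hepos
                omega
              have h2 : e * r ≤ e ^ 2 * r := by
                apply Nat.mul_le_mul_right
                calc e = e * 1 := (mul_one e).symm
                  _ ≤ e * e := Nat.mul_le_mul_left _ hepos
                  _ = e ^ 2 := (sq e).symm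
              calc 2 * (e * (r - 1)) < 2 * (e * r) := by omega
                _ ≤ 2 * (e ^ 2 * r) := by omega
                _ = 2 * e ^ 2 * r := by ring
      · -- the degree of `χ` properly divides the degree of `ψ`
        have ha : Cfsg.charDegree ψ = p ^ (i - j) * Cfsg.charDegree χ := by
          rw [hi, hj]
          have : i = (i - j) + j := by omega
          conv_lhs => rw [this, pow_add]
          ring
        have hall : ∀ ξ ∈ T, Cfsg.charDegree ψ ∣ Cfsg.charDegree ξ := by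
          intro ξ hξ
          obtain ⟨l, hl, -⟩ := hdeg ξ (hTbot hξ)
          have h1 := hψmin ξ hξ
          rw [hi, hl] at h1 ⊢
          have h2 : p ^ i ≤ p ^ l := Nat.le_of_mul_le_mul_left h1 hepos
          have h3 : i ≤ l := (Nat.pow_le_pow_iff_right hp.1.one_lt).mp h2
          exact Nat.mul_dvd_mul_left _ (pow_dvd_pow p h3)
        have hle2 : 2 * Cfsg.charDegree ψ ^ 2 ≤ ∑ ξ ∈ T, Cfsg.charDegree ξ ^ 2 := by
          refine le_trans ?_ hsumT
          rw [hi]
          calc 2 * (e * p ^ i) ^ 2 = 2 * e ^ 2 * (p ^ i) ^ 2 := by ring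
            _ ≤ 2 * e ^ 2 * r := Nat.mul_le_mul_left _ hr0
        have hχmem : χ ∈ Cfsg.inducedIrrAbove KN ⊥ := by
          rw [← coe_indAbove]
          exact Finset.mem_coe.mpr hχS
        apply irr_extend_down T χ hirrT hχirr hχT (fun φ => Cfsg.charDegree φ) hd τ hτ' hτ1'
          hTcoh ψ hψT (p ^ (i - j)) ha hall hle2
        intro τ₁ hτ₁ hag₁ Ξ hΞ hor
        have := sib_hint K p P hPK hTI hC hodd Z hZ1 hZP hZn T (by
            intro ξ hξ
            rw [← coe_indAbove]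
            exact Finset.mem_coe.mpr (hTbot hξ)) (by
            intro η hη hex
            apply hTXF
            have : η ∈ (↑XF : Set (↥NK → ℂ)) := by
              rw [hXFcoe]
              exact ⟨hη, hex⟩
            exact Finset.mem_coe.mp this) τ₁ hτ₁ hag₁ Ξ hΞ hor ψ hψT χ hχmem (p ^ (i - j)) ha
        exact this
    -- the bigger set
    have hT'fam : insert χ T ∈ fam := by
      rw [hfam, Finset.mem_filter, Finset.mem_powerset]
      exact ⟨hinsS, fun f hf => Finset.mem_insert_of_mem (hTXF hf), hext⟩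
    have hcard : T.card < (insert χ T).card := by
      rw [Finset.card_insert_of_notMem hχT]
      omega
    have := hTmax _ hT'fam
    omega
  rw [← coe_indAbove, ← hTall]
  exact hTcoh

end

end Cfsg.Agent.Helper6
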