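import Mathlib
import Cfsg.Prelude.Def_Characters
import Cfsg.Prelude.Def_OddOrderChar
import Cfsg.Prelude.Def_OddOrderLocal
import Cfsg.Prelude.Def_Transfer
import Cfsg.Agent.Helper6.SibSylA

/-!
# Sibley's theorem: the exceptional case `|K| = e + 1`, and the abelian case
-/

set_option autoImplicit false
set_option linter.style.haveILetI false

namespace Cfsg.Agent.Helper6

open scoped ComplexConjugate

universe u v

section

variable {L : Type u} [Group L] [Fintype L]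

set_option maxHeartbeats 1600000 in
/-- a Frobenius kernel of order `e + 1` is elementary abelian and has a unique relevant
character -/
theorem frob_exceptional (K : Subgroup L) [hK : K.Normal]
    (hfree : ∀ g : L, g ∉ K → ∀ k ∈ K, g * k = k * g → k = 1)
    (hcard : Nat.card K = K.index + 1) :
    (indAbove K ⊥).card = 1 ∧ (∀ a ∈ K, ∀ b ∈ K, a * b = b * a) ∧
      ∃ p : ℕ, p.Prime ∧ ∀ a ∈ K, a ^ p = 1 := by
  classical
  haveI : Fintype K := Fintype.ofFinite K
  set e := K.index with he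
  have hepos : 0 < e := Nat.pos_of_ne_zero Subgroup.index_ne_zero_of_finite
  have hsum := frob_sum_sq K ⊥ hfree
  rw [Subgroup.relIndex_bot_left, hcard, Nat.add_sub_cancel, ← he] at hsum
  have hirrφ : ∀ φ ∈ indAbove K ⊥, Cfsg.IsIrrCharacter L φ := by
    intro φ hφ
    apply frob_irr K hfree
    rw [← coe_indAbove]
    exact Finset.mem_coe.mpr hφ
  have hdθ : ∀ θ ∈ irrAboveFn K ⊥, Cfsg.charDegree θ = 1 := by
    intro θ hθ
    obtain ⟨h0, -, -⟩ := (mem_irrAboveFn K ⊥ θ).mp hθ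
    have hφ : Cfsg.indFun K θ ∈ indAbove K ⊥ := by
      unfold indAbove
      exact Finset.mem_image.mpr ⟨θ, hθ, rfl⟩
    have h1 : Cfsg.charDegree (Cfsg.indFun K θ) ^ 2 ≤ e * e := by
      rw [← hsum]
      exact Finset.single_le_sum (f := fun φ => Cfsg.charDegree φ ^ 2)
        (fun _ _ => Nat.zero_le _) hφ
    rw [charDegree_indFun_normal K θ (IsIrrCharacter.isCharacter h0), ← he] at h1
    have hpos : 0 < Cfsg.charDegree θ := by
      obtain ⟨k, hk0, hk⟩ := IsIrrCharacter.apply_one_pos h0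
      have h2 := charDegree_cast_of_isCharacter (IsIrrCharacter.isCharacter h0)
      rw [hk] at h2
      have : Cfsg.charDegree θ = k := by exact_mod_cast h2
      omega
    by_contra hne
    have h2 : 2 ≤ Cfsg.charDegree θ := by omega
    have h3 : (e * 2) ^ 2 ≤ (e * Cfsg.charDegree θ) ^ 2 :=
      Nat.pow_le_pow_left (Nat.mul_le_mul_left _ h2) 2
    nlinarith
  have hdφ : ∀ φ ∈ indAbove K ⊥, Cfsg.charDegree φ = e := by
    intro φ hφ
    unfold indAbove at hφ
    obtain ⟨θ, hθ, rfl⟩ := Finset.mem_image.mp hφ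
    obtain ⟨h0, -, -⟩ := (mem_irrAboveFn K ⊥ θ).mp hθ
    rw [charDegree_indFun_normal K θ (IsIrrCharacter.isCharacter h0), hdθ θ hθ, mul_one]
  have hcard1 : (indAbove K ⊥).card = 1 := by
    have h1 : ∑ φ ∈ indAbove K ⊥, Cfsg.charDegree φ ^ 2 = (indAbove K ⊥).card * e ^ 2 := by
      rw [Finset.sum_congr rfl (fun φ hφ => by rw [hdφ φ hφ]), Finset.sum_const, smul_eq_mul]
    rw [h1] at hsum
    have h2 : (indAbove K ⊥).card * e ^ 2 = 1 * e ^ 2 := by
      rw [hsum]
      ring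
    exact Nat.eq_of_mul_eq_mul_right (by positivity) h2
  have hab : ∀ a ∈ K, ∀ b ∈ K, a * b = b * a := by
    have hcomm : ∀ a b : K, a * b = b * a := by
      apply (comm_iff_forall_irr_degree_one (G := K)).mpr
      intro χ
      by_cases h1 : (χ : K → ℂ) = fun _ => 1
      · rw [h1]
      · have hmem : (χ : K → ℂ) ∈ irrAboveFn K ⊥ := by
          rw [mem_irrAboveFn]
          refine ⟨χ.2, h1, ?_⟩
          intro a ha
          have : a = 1 := by
            apply Subtype.ext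
            simpa using ha
          rw [this]
        have h2 := charDegree_cast_of_isCharacter (IsIrrCharacter.isCharacter χ.2)
        rw [hdθ _ hmem] at h2
        rw [← h2]
        simp
    intro a ha b hb
    exact congrArg Subtype.val (hcomm ⟨a, ha⟩ ⟨b, hb⟩)
  refine ⟨hcard1, hab, ?_⟩
  obtain ⟨χ0, hχ0⟩ := Finset.card_eq_one.mp hcard1
  have hSeq := frob_S_eq K hfree
  rw [← coe_indAbove, hχ0, Finset.coe_singleton] at hSeq
  have hχ0mem : χ0 ∈ ({χ : L → ℂ | Cfsg.IsIrrCharacter L χ ∧ ∃ h ∈ K, χ h ≠ χ 1} : Set _) := by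
    rw [hSeq]
    exact Set.mem_singleton _
  obtain ⟨-, hp⟩ := free_unique_relevant K hfree hab χ0 hχ0mem.1 hχ0mem.2 (by
    intro χ hχ hrel
    have : χ ∈ ({χ : L → ℂ | Cfsg.IsIrrCharacter L χ ∧ ∃ h ∈ K, χ h ≠ χ 1} : Set _) :=
      ⟨hχ, hrel⟩
    rw [hSeq] at this
    exact this)
  exact hp

end

section

variable {G : Type u} [Group G]

variable (K : Subgroup G)

local notation "NK" => Subgroup.normalizer (K : Set G)

local notation "KN" => K.subgroupOf (Subgroup.normalizer (K : Set G))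

/-- centralizers in the normalizer -/
theorem sib_hC (hC : ∀ k ∈ K, k ≠ 1 → Subgroup.centralizer ({k} : Set G) ≤ K) :
    ∀ h ∈ KN, h ≠ 1 → Subgroup.centralizer ({h} : Set ↥NK) ≤ KN := by
  intro h hh h1 x hx
  rw [Subgroup.mem_subgroupOf] at hh ⊢
  apply hC (h : G) hh (fun h' => h1 (Subtype.ext h'))
  rw [Subgroup.mem_centralizer_iff] at hx ⊢
  intro y hy
  rw [Set.mem_singleton_iff] at hy
  rw [hy]
  exact congrArg Subtype.val (hx h (Set.mem_singleton h))

/-- the exceptional case `|K| = e + 1` -/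
theorem sib_exceptional [Fintype G] [Fintype ↥NK]
    (hC : ∀ k ∈ K, k ≠ 1 → Subgroup.centralizer ({k} : Set G) ≤ K)
    (hcard : Nat.card K = (KN).index + 1) :
    Nat.card {χ : ↥NK → ℂ // Cfsg.IsIrrCharacter ↥NK χ ∧
      ∃ k : ↥NK, (k : G) ∈ K ∧ χ k ≠ χ 1} = 1 ∧
    ∃ p : ℕ, p.Prime ∧ Cfsg.IsElementaryAbelian p K := by
  classical
  haveI := sib_normal K
  obtain ⟨h1, hab, p, hp, hpow⟩ := frob_exceptional KN (tifrob_free K hC) (by
    rw [sib_card_KN, hcard])
  refine ⟨?_, p, hp, ⟨⟨⟨fun a b => ?_⟩⟩, fun a ha => ?_⟩⟩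
  · show Nat.card ↥({χ : ↥NK → ℂ | Cfsg.IsIrrCharacter ↥NK χ ∧
      ∃ k : ↥NK, (k : G) ∈ K ∧ χ k ≠ χ 1} : Set (↥NK → ℂ)) = 1
    rw [← sib_S_eq K hC, ← coe_indAbove, Nat.card_coe_set_eq, Set.ncard_coe_finset, h1]
  · have := hab ⟨a, Subgroup.le_normalizer a.2⟩ (Subgroup.mem_subgroupOf.mpr a.2)
      ⟨b, Subgroup.le_normalizer b.2⟩ (Subgroup.mem_subgroupOf.mpr b.2)
    apply Subtype.ext
    exact congrArg (fun x : ↥NK => (x : G)) this
  · have := hpow ⟨a, Subgroup.le_normalizer ha⟩ (Subgroup.mem_subgroupOf.mpr ha)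
    exact congrArg Subtype.val this

/-- the exponent of a nontrivial `p`-group of prime exponent -/
theorem prime_eq_of_exponent (p q : ℕ) (hp : p.Prime) (hq : q.Prime) (hK : IsPGroup p K)
    (hK1 : K ≠ ⊥) (hpow : ∀ a ∈ K, a ^ q = 1) : q = p := by
  obtain ⟨a, ha, ha1⟩ : ∃ a ∈ K, a ≠ 1 := by
    by_contra hcon
    push Not at hcon
    exact hK1 ((Subgroup.eq_bot_iff_forall K).mpr hcon)
  have h1 : orderOf a ∣ q := orderOf_dvd_of_pow_eq_one (hpow a ha)
  have h2 : orderOf a ≠ 1 := fun h => ha1 (orderOf_eq_one_iff.mp h)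
  have h3 : orderOf a = q := by
    rcases (Nat.dvd_prime hq).mp h1 with h | h
    · exact absurd h h2
    · exact h
  obtain ⟨k, hk⟩ := hK ⟨a, ha⟩
  have h4 : a ^ p ^ k = 1 := congrArg Subtype.val hk
  have h5 : q ∣ p ^ k := by
    rw [← h3]
    exact orderOf_dvd_of_pow_eq_one h4
  exact (Nat.prime_dvd_prime_iff_eq hq hp).mp (hq.dvd_of_dvd_pow h5)

set_option maxHeartbeats 1600000 in
/-- Sibley's coherence theorem for a TI Sylow `p`-subgroup, `p` odd -/
theorem sib_sylow_main [Fintype G] [Fintype ↥NK] (p : ℕ) [hp : Fact p.Prime] (hp2 : p ≠ 2)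
    (P : Sylow p G) (hPK : (P : Subgroup G) = K) (hK1 : K ≠ ⊥)
    (hTI : Cfsg.IsTISubset (K : Set G)) (hlt : K < NK)
    (hC : ∀ k ∈ K, k ≠ 1 → Subgroup.centralizer ({k} : Set G) ≤ K) :
    (Nat.card {χ : ↥NK → ℂ // Cfsg.IsIrrCharacter ↥NK χ ∧
        ∃ x : ↥NK, (x : G) ∈ K ∧ χ x ≠ χ 1} = 1 ∧ Cfsg.IsElementaryAbelian p K ∧
      Nat.card K = (KN).index + 1) ∨
    Cfsg.IsCoherent {χ : ↥NK → ℂ | Cfsg.IsIrrCharacter ↥NK χ ∧
      ∃ x : ↥NK, (x : G) ∈ K ∧ χ x ≠ χ 1} {1}ᶜ (fun α => Cfsg.indFun NK α) := by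
  classical
  haveI := sib_normal K
  have hKp : IsPGroup p K := by
    rw [← hPK]
    exact P.isPGroup'
  by_cases hcard : Nat.card K = (KN).index + 1
  · left
    obtain ⟨h1, q, hq, hel⟩ := sib_exceptional K hC hcard
    have hqp : q = p := prime_eq_of_exponent K p q hp.1 hq hKp hK1 hel.2
    rw [hqp] at hel
    exact ⟨h1, hel, hcard⟩
  · right
    rw [← sib_S_eq K hC]
    by_cases hab : IsMulCommutative K
    · obtain ⟨hτiso, hτ1⟩ := sib_isometry K hTI hC
      rcases feit_coherence KN (sib_KN_ne_bot K hK1) (ne_of_lt (sib_KN_lt_top K hlt))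
        (sib_hC K hC) (by rw [sib_card_KN]; exact hcard)
        (fun α : ↥NK → ℂ => Cfsg.indFun NK α) hτiso hτ1 with h | ⟨-, -, -, hnab, -⟩
      · exact h
      · exfalso
        apply hnab
        refine ⟨⟨fun a b => ?_⟩⟩
        have h1 := hab.is_comm.comm ⟨(a : ↥NK), Subgroup.mem_subgroupOf.mp a.2⟩
          ⟨(b : ↥NK), Subgroup.mem_subgroupOf.mp b.2⟩
        apply Subtype.ext
        apply Subtype.ext
        exact congrArg (fun x : K => (x : G)) h1
    · exact sib_coherent_nonabelian K p hp2 P hPK hab hTI hlt hC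

end

end Cfsg.Agent.Helper6
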