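import Mathlib
import Cfsg.Prelude.Def_Characters
import Cfsg.Prelude.Def_OddOrderChar
import Cfsg.Prelude.Def_OddOrderLocal
import Cfsg.Prelude.Def_Transfer
import Cfsg.Agent.Helper6.SibSylB

/-!
# The Feit–Sibley coherence theorem for nilpotent TI subgroups with Frobenius normalizer
-/

set_option autoImplicit false
set_option linter.style.haveILetI false

namespace Cfsg.Agent.Helper6

open scoped ComplexConjugate

universe u v

section

variable {G : Type u} [Group G]

/-- a nontrivial `p`-subgroup containing the centralizers of its non-identity elements is a Sylow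
`p`-subgroup -/
theorem sylow_of_pgroup_centralizer [Finite G] (p : ℕ) [hp : Fact p.Prime] (K : Subgroup G)
    (hKp : IsPGroup p K) (hK1 : K ≠ ⊥)
    (hC : ∀ k ∈ K, k ≠ 1 → Subgroup.centralizer ({k} : Set G) ≤ K) :
    ∃ P : Sylow p G, (P : Subgroup G) = K := by
  obtain ⟨P, hKP⟩ := hKp.exists_le_sylow
  refine ⟨P, le_antisymm ?_ hKP⟩
  obtain ⟨k, hk, hk1⟩ : ∃ k ∈ K, k ≠ 1 := by
    by_contra hcon
    push Not at hcon
    exact hK1 ((Subgroup.eq_bot_iff_forall K).mpr hcon)
  haveI : Nontrivial (P : Subgroup G) := ⟨⟨⟨k, hKP hk⟩, 1, fun h => hk1 (congrArg Subtype.val h)⟩⟩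
  haveI := P.isPGroup'.center_nontrivial
  obtain ⟨c, hc⟩ := exists_ne (1 : Subgroup.center (P : Subgroup G))
  have hcc : ∀ y ∈ (P : Subgroup G), y * ((c : (P : Subgroup G)) : G) =
      ((c : (P : Subgroup G)) : G) * y := by
    intro y hy
    have := Subgroup.mem_center_iff.mp c.2 ⟨y, hy⟩
    exact congrArg Subtype.val this
  have hc1 : ((c : (P : Subgroup G)) : G) ≠ 1 := by
    intro h
    apply hc
    apply Subtype.ext
    apply Subtype.ext
    exact h
  have hcK : ((c : (P : Subgroup G)) : G) ∈ K := by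
    apply hC k hk hk1
    rw [Subgroup.mem_centralizer_iff]
    intro y hy
    rw [Set.mem_singleton_iff] at hy
    rw [hy]
    exact hcc k (hKP hk)
  intro y hy
  apply hC _ hcK hc1
  rw [Subgroup.mem_centralizer_iff]
  intro w hw
  rw [Set.mem_singleton_iff] at hw
  rw [hw]
  exact (hcc y hy).symm

/-- arithmetic: a power of two which is at most `4 e ^ 2 + 1` with `e ≥ 3` odd is less than
`4 e ^ 2` -/
theorem arith_two_pow (e j : ℕ) (he : Odd e) (he1 : 1 < e) (h : 2 ^ j ≤ 4 * e ^ 2 + 1) :
    2 ^ j < 4 * e ^ 2 := by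
  rcases Nat.lt_or_ge j 2 with hj | hj
  · have : 2 ^ j ≤ 2 ^ 1 := Nat.pow_le_pow_right (by norm_num) (by omega)
    nlinarith
  have hne1 : 2 ^ j ≠ 4 * e ^ 2 + 1 := by
    intro heq
    have h1 : 2 ∣ 2 ^ j := dvd_pow_self 2 (by omega)
    rw [heq] at h1
    omega
  have hne2 : 2 ^ j ≠ 4 * e ^ 2 := by
    intro heq
    have hj2 : j = (j - 2) + 2 := by omega
    rw [hj2, pow_add] at heq
    have h1 : 2 ^ (j - 2) = e ^ 2 := by omega
    have h2 : e ∣ 2 ^ (j - 2) := by
      rw [h1]
      exact dvd_pow_self e (by norm_num)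
    obtain ⟨i, -, hi⟩ := (Nat.dvd_prime_pow Nat.prime_two).mp h2
    rcases Nat.eq_zero_or_pos i with h0 | hpos
    · rw [h0, pow_zero] at hi
      omega
    · have : 2 ∣ e := by
        rw [hi]
        exact dvd_pow_self 2 (by omega)
      obtain ⟨t, ht⟩ := he
      omega
  omega

variable (K : Subgroup G)

local notation "NK" => Subgroup.normalizer (K : Set G)

local notation "KN" => K.subgroupOf (Subgroup.normalizer (K : Set G))

/-- the index of the commutator subgroup, computed inside the normalizer -/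
theorem sib_commutator_index :
    (⁅KN, KN⁆.subgroupOf KN).index = (⁅K, K⁆.subgroupOf K).index := by
  have h1 := Subgroup.relIndex_map_map_of_injective ⁅KN, KN⁆ KN
    (f := (NK).subtype) (Subgroup.subtype_injective _)
  rw [Subgroup.map_commutator, Subgroup.map_subgroupOf_eq_of_le Subgroup.le_normalizer] at h1
  exact h1.symm

set_option maxHeartbeats 1600000 in
/-- the Feit–Sibley coherence theorem -/
theorem sib_nilpotent_main [Fintype G] [Fintype ↥NK] (hK1 : K ≠ ⊥)
    (hTI : Cfsg.IsTISubset (K : Set G)) (hlt : K < NK)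
    (hC : ∀ k ∈ K, k ≠ 1 → Subgroup.centralizer ({k} : Set G) ≤ K) :
    (Nat.card {χ : ↥NK → ℂ // Cfsg.IsIrrCharacter ↥NK χ ∧
        ∃ k : ↥NK, (k : G) ∈ K ∧ χ k ≠ χ 1} = 1 ∧
      Nat.card K = (KN).index + 1 ∧ ∃ p : ℕ, p.Prime ∧ Cfsg.IsElementaryAbelian p K) ∨
    (Nat.card K = 2 ^ (Nat.card G).factorization 2 ∧
      (⁅K, K⁆.subgroupOf K).index < 4 * (KN).index ^ 2) ∨
    Cfsg.IsCoherent {χ : ↥NK → ℂ | Cfsg.IsIrrCharacter ↥NK χ ∧
      ∃ k : ↥NK, (k : G) ∈ K ∧ χ k ≠ χ 1} {1}ᶜ (fun α => Cfsg.indFun NK α) := by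
  classical
  haveI := sib_normal K
  by_cases hcard : Nat.card K = (KN).index + 1
  · left
    obtain ⟨h1, q, hq, hel⟩ := sib_exceptional K hC hcard
    exact ⟨h1, hcard, q, hq, hel⟩
  obtain ⟨hτiso, hτ1⟩ := sib_isometry K hTI hC
  rcases feit_coherence KN (sib_KN_ne_bot K hK1) (ne_of_lt (sib_KN_lt_top K hlt))
    (sib_hC K hC) (by rw [sib_card_KN]; exact hcard)
    (fun α : ↥NK → ℂ => Cfsg.indFun NK α) hτiso hτ1 with h | ⟨p, hp, ⟨m, hm⟩, hnab, hidx⟩
  · right
    right
    rw [← sib_S_eq K hC]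
    exact h
  · haveI : Fact p.Prime := ⟨hp⟩
    rw [sib_card_KN] at hm
    have hKp : IsPGroup p K := IsPGroup.of_card hm
    obtain ⟨P, hPK⟩ := sylow_of_pgroup_centralizer p K hKp hK1 hC
    by_cases hp2 : p = 2
    · right
      left
      subst hp2
      refine ⟨?_, ?_⟩
      · rw [← hPK]
        exact P.card_eq_multiplicity
      · rw [sib_commutator_index] at hidx
        -- the index is a power of two
        have hdvd : (⁅K, K⁆.subgroupOf K).index ∣ 2 ^ m := by
          rw [← hm]
          exact Subgroup.index_dvd_card _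
        obtain ⟨j, -, hj⟩ := (Nat.dvd_prime_pow Nat.prime_two).mp hdvd
        rw [hj] at hidx ⊢
        have hfree := tifrob_free K hC
        have hdK := frob_index_dvd KN ⊥ hfree
        rw [Subgroup.relIndex_bot_left, sib_card_KN, hm] at hdK
        have hm0 : m ≠ 0 := by
          intro h0
          rw [h0, pow_zero] at hm
          apply hK1
          exact (Subgroup.card_eq_one).mp hm
        have heodd : Odd (KN).index := by
          have h1 : Odd (2 ^ m - 1) := by
            have h2 : Even (2 ^ m) := (Nat.even_pow.mpr ⟨even_two, hm0⟩)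
            have h3 : 0 < 2 ^ m := by positivity
            obtain ⟨t, ht⟩ := h2
            exact ⟨t - 1, by omega⟩
          exact Odd.of_dvd_nat h1 hdK
        have he1 : 1 < (KN).index := by
          have h1 : (KN).index ≠ 1 := fun h =>
            (ne_of_lt (sib_KN_lt_top K hlt)) (Subgroup.index_eq_one.mp h)
          have h2 : 0 < (KN).index := Nat.pos_of_ne_zero Subgroup.index_ne_zero_of_finite
          omega
        exact arith_two_pow _ j heodd he1 hidx
    · rcases sib_sylow_main K p hp2 P hPK hK1 hTI hlt hC with ⟨h1, hel, hc⟩ | h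
      · left
        exact ⟨h1, hc, p, hp, hel⟩
      · right
        right
        exact h

end

end Cfsg.Agent.Helper6
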