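import Mathlib
import Cfsg.Prelude.Def_Characters
import Cfsg.Prelude.Def_OddOrderChar
import Cfsg.Prelude.Def_OddOrderLocal
import Cfsg.Agent.Helper6.SibNilA

/-!
# Sibley's coherence theorem for a TI Frobenius kernel of a Frobenius group of odd order
-/

set_option autoImplicit false
set_option linter.style.haveILetI false

namespace Cfsg.Agent.Helper6

open scoped ComplexConjugate

universe u v

section

variable {G : Type u} [Group G]

/-- the product decomposition of `H ⊔ W` when `W` normalizes `H` -/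
theorem mem_sup_of_normalizes (H W : Subgroup G)
    (hn : ∀ w ∈ W, ∀ h ∈ H, w * h * w⁻¹ ∈ H) (g : G) (hg : g ∈ H ⊔ W) :
    ∃ h ∈ H, ∃ w ∈ W, g = h * w := by
  let M : Subgroup G :=
    { carrier := {x | ∃ h ∈ H, ∃ w ∈ W, x = h * w}
      mul_mem' := by
        rintro _ _ ⟨h, hh, w, hw, rfl⟩ ⟨h', hh', w', hw', rfl⟩
        refine ⟨h * (w * h' * w⁻¹), H.mul_mem hh (hn w hw h' hh'), w * w', W.mul_mem hw hw', ?_⟩
        group
      one_mem' := ⟨1, H.one_mem, 1, W.one_mem, by simp⟩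
      inv_mem' := by
        rintro _ ⟨h, hh, w, hw, rfl⟩
        refine ⟨w⁻¹ * h⁻¹ * w⁻¹⁻¹, hn w⁻¹ (W.inv_mem hw) h⁻¹ (H.inv_mem hh), w⁻¹, W.inv_mem hw, ?_⟩
        group }
  have hle : H ⊔ W ≤ M := by
    apply sup_le
    · intro h hh
      exact ⟨h, hh, 1, W.one_mem, by simp⟩
    · intro w hw
      exact ⟨1, H.one_mem, w, hw, by simp⟩
  exact hle hg

/-- in an internal Frobenius group the elements outside the kernel act freely on the kernel -/
theorem frob_internal_free (H W : Subgroup G) [Finite H]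
    (hn : ∀ w ∈ W, ∀ h ∈ H, w * h * w⁻¹ ∈ H)
    (hfpf : ∀ w ∈ W, w ≠ 1 → ∀ h ∈ H, w * h = h * w → h = 1) :
    ∀ g ∈ H ⊔ W, g ∉ H → ∀ k ∈ H, g * k = k * g → k = 1 := by
  intro g hg hgH k hk hcomm
  obtain ⟨h, hh, w, hw, rfl⟩ := mem_sup_of_normalizes H W hn g hg
  have hw1 : w ≠ 1 := by
    rintro rfl
    apply hgH
    simpa using hh
  -- the map `x ↦ x * w * x⁻¹ * w⁻¹`
  let φ : H → H := fun x => ⟨x * (w * (x : G)⁻¹ * w⁻¹),
    H.mul_mem x.2 (hn w hw _ (H.inv_mem x.2))⟩
  have hinj : Function.Injective φ := by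
    intro x y hxy
    have h1 : (x : G) * (w * (x : G)⁻¹ * w⁻¹) = (y : G) * (w * (y : G)⁻¹ * w⁻¹) :=
      congrArg Subtype.val hxy
    have h2 : w * ((y : G)⁻¹ * x) = ((y : G)⁻¹ * x) * w := by
      have h3 : (x : G) * w * (x : G)⁻¹ = (y : G) * w * (y : G)⁻¹ := by
        have := congrArg (fun t => t * w) h1
        calc (x : G) * w * (x : G)⁻¹ = (x : G) * (w * (x : G)⁻¹ * w⁻¹) * w := by group
          _ = (y : G) * (w * (y : G)⁻¹ * w⁻¹) * w := this
          _ = (y : G) * w * (y : G)⁻¹ := by group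
      calc w * ((y : G)⁻¹ * x) = (y : G)⁻¹ * ((y : G) * w * (y : G)⁻¹) * x := by group
        _ = (y : G)⁻¹ * ((x : G) * w * (x : G)⁻¹) * x := by rw [h3]
        _ = ((y : G)⁻¹ * x) * w := by group
    have h4 := hfpf w hw hw1 _ (H.mul_mem (H.inv_mem y.2) x.2) h2
    apply Subtype.ext
    have : (x : G) = (y : G) * ((y : G)⁻¹ * x) := by group
    rw [this, h4, mul_one]
  have hsurj : Function.Surjective φ := Finite.surjective_of_injective hinj
  obtain ⟨x, hx⟩ := hsurj ⟨h, hh⟩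
  have hx' : (x : G) * (w * (x : G)⁻¹ * w⁻¹) = h := congrArg Subtype.val hx
  have hg' : h * w = (x : G) * w * (x : G)⁻¹ := by
    rw [← hx']
    group
  rw [hg'] at hcomm
  have h5 : w * ((x : G)⁻¹ * k * x) = ((x : G)⁻¹ * k * x) * w := by
    calc w * ((x : G)⁻¹ * k * x) = (x : G)⁻¹ * ((x : G) * w * (x : G)⁻¹ * k) * x := by group
      _ = (x : G)⁻¹ * (k * ((x : G) * w * (x : G)⁻¹)) * x := by rw [hcomm]
      _ = ((x : G)⁻¹ * k * x) * w := by group
  have h6 := hfpf w hw hw1 _ (H.mul_mem (H.mul_mem (H.inv_mem x.2) hk) x.2) h5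
  have : k = (x : G) * ((x : G)⁻¹ * k * x) * (x : G)⁻¹ := by group
  rw [this, h6]
  group

set_option maxHeartbeats 1600000 in
/-- Sibley's theorem (Peterfalvi (6.8)) for a Frobenius group of odd order whose kernel is a
TI subgroup -/
theorem sib_frobenius_main [Fintype G] (H L W₁ : Subgroup G) [Fintype L]
    (hodd : Odd (Nat.card L)) (hH1 : H ≠ ⊥) (hW1 : W₁ ≠ ⊥)
    (hHn : ∀ x ∈ L, ∀ h ∈ H, x * h * x⁻¹ ∈ H) (hinf : H ⊓ W₁ = ⊥) (hsup : H ⊔ W₁ = L)
    (hfpf : ∀ w ∈ W₁, w ≠ 1 → ∀ h ∈ H, w * h = h * w → h = 1)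
    (hTI : Cfsg.IsTISubset (H : Set G)) (hN : Subgroup.normalizer (H : Set G) = L) :
    Cfsg.IsCoherent (Cfsg.inducedIrrAbove (H.subgroupOf L) ⊥) {1}ᶜ
      (fun α : L → ℂ => Cfsg.indFun L α) := by
  classical
  subst hN
  have hW₁L : W₁ ≤ Subgroup.normalizer (H : Set G) := by
    rw [← hsup]
    exact le_sup_right
  have hfree := frob_internal_free H W₁ (fun w hw h hh => hHn w (hW₁L hw) h hh) hfpf
  have hC : ∀ k ∈ H, k ≠ 1 → Subgroup.centralizer ({k} : Set G) ≤ H := by
    intro k hk hk1 g hg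
    rw [Subgroup.mem_centralizer_iff] at hg
    have hgk : g * k = k * g := (hg k (Set.mem_singleton k)).symm
    by_contra hgH
    have hgN : g ∈ Subgroup.normalizer (H : Set G) := by
      by_contra hgN
      apply hk1
      apply hTI g hgN k hk
      rw [hgk]
      simpa using hk
    rw [← hsup] at hgN
    exact hk1 (hfree g hgN hgH k hk hgk)
  have hlt : H < Subgroup.normalizer (H : Set G) := by
    refine lt_of_le_of_ne Subgroup.le_normalizer ?_
    intro heq
    apply hW1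
    rw [Subgroup.eq_bot_iff_forall]
    intro w hw
    have h1 : w ∈ H := by
      rw [heq]
      exact hW₁L hw
    have h2 : w ∈ H ⊓ W₁ := ⟨h1, hw⟩
    rw [hinf, Subgroup.mem_bot] at h2
    exact h2
  have hcardL : Nat.card ↥(Subgroup.normalizer (H : Set G)) =
      (H.subgroupOf (Subgroup.normalizer (H : Set G))).index * Nat.card H := by
    rw [← sib_card_KN H, Subgroup.index_mul_card]
  rcases sib_nilpotent_main H hH1 hTI hlt hC with ⟨-, hc, -⟩ | ⟨hc, -⟩ | h
  · exfalso
    rw [hcardL, hc] at hodd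
    have : Even ((H.subgroupOf (Subgroup.normalizer (H : Set G))).index *
        ((H.subgroupOf (Subgroup.normalizer (H : Set G))).index + 1)) := Nat.even_mul_succ_self _
    exact (Nat.not_odd_iff_even.mpr this) hodd
  · exfalso
    have hHodd : Odd (Nat.card H) := by
      apply Odd.of_dvd_nat hodd
      rw [hcardL]
      exact Dvd.intro_left _ rfl
    have h1 : 1 < Nat.card H := by
      rw [Subgroup.one_lt_card_iff_ne_bot]
      exact hH1
    rw [hc] at hHodd h1
    have hexp : (Nat.card G).factorization 2 ≠ 0 := by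
      intro h0
      rw [h0, pow_zero] at h1
      omega
    have : Even (2 ^ (Nat.card G).factorization 2) := Nat.even_pow.mpr ⟨even_two, hexp⟩
    exact (Nat.not_odd_iff_even.mpr this) hHodd
  · rw [sib_S_eq H hC]
    exact h

end

end Cfsg.Agent.Helper6
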