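import Mathlib
import Cfsg.Prelude.Def_Characters
import Cfsg.Prelude.Def_OddOrderChar
import Cfsg.Prelude.Def_OddOrderLocal
import Cfsg.Agent.Helper6.SibFrobA

/-!
# Groups partitioned by TI Frobenius kernels: induction from the normalizer of a TI subgroup
-/

set_option autoImplicit false
set_option linter.style.haveILetI false

namespace Cfsg.Agent.Helper6

open scoped ComplexConjugate

universe u

variable {G : Type u} [Group G]

/-- `x` is a nonidentity element conjugate to an element of `K` -/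
def InSupp (K : Subgroup G) (x : G) : Prop := x ≠ 1 ∧ ∃ g : G, g * x * g⁻¹ ∈ K

theorem inSupp_conj (K : Subgroup G) (x y : G) (h : InSupp K x) : InSupp K (y * x * y⁻¹) := by
  obtain ⟨h1, g, hg⟩ := h
  refine ⟨?_, g * y⁻¹, ?_⟩
  · intro h2
    apply h1
    have : x = y⁻¹ * (y * x * y⁻¹) * y := by group
    rw [this, h2]
    group
  · have : g * y⁻¹ * (y * x * y⁻¹) * (g * y⁻¹)⁻¹ = g * x * g⁻¹ := by group
    rw [this]
    exact hg

theorem inSupp_of_mem (K : Subgroup G) (x : G) (hx : x ∈ K) (hx1 : x ≠ 1) : InSupp K x :=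
  ⟨hx1, 1, by simpa using hx⟩

/-- complex conjugation commutes with induction -/
theorem conjFun_indFun_eq [Fintype G] (H : Subgroup G) (θ : H → ℂ) :
    Cfsg.conjFun (Cfsg.indFun H θ) = Cfsg.indFun H (Cfsg.conjFun θ) := by
  classical
  funext x
  unfold Cfsg.conjFun
  rw [indFun_apply, indFun_apply, map_mul, map_inv₀, map_natCast, map_sum]
  congr 1
  apply Finset.sum_congr rfl
  intro y _
  by_cases hy : y⁻¹ * x * y ∈ H
  · rw [extendByZero_mem _ _ hy, extendByZero_mem _ _ hy]
  · rw [extendByZero_not_mem _ _ hy, extendByZero_not_mem _ _ hy, map_zero]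

/-- functions with disjoint supports are orthogonal -/
theorem classInner_eq_zero_of_disjoint [Fintype G] (f f' : G → ℂ)
    (h : ∀ x, f x = 0 ∨ f' x = 0) : Cfsg.classInner f f' = 0 := by
  rw [classInner_def, Finset.sum_eq_zero, mul_zero]
  intro x _
  rcases h x with h1 | h1
  · rw [h1, zero_mul]
  · rw [h1, map_zero, mul_zero]

section

variable (K : Subgroup G)

local notation "NK" => Subgroup.normalizer (K : Set G)

open Classical in
/-- the indicator function of `K ∖ {1}` on the normalizer -/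
noncomputable def uK : ↥NK → ℂ := fun x => if (x : G) ∈ K ∧ (x : G) ≠ 1 then 1 else 0

theorem mem_conj_iff_of_mem_normalizer (h : G) (hh : h ∈ NK) (x : G) :
    h * x * h⁻¹ ∈ K ↔ x ∈ K := by
  have := (Subgroup.mem_normalizer_iff.mp hh x)
  exact this.symm

theorem uK_isClassFunction : Cfsg.IsClassFunction ↥NK (uK K) := by
  classical
  intro g h
  unfold uK
  have h1 : (((h * g * h⁻¹ : ↥NK) : G) ∈ K) ↔ ((g : G) ∈ K) := by
    simp only [Subgroup.coe_mul, Subgroup.coe_inv]
    exact mem_conj_iff_of_mem_normalizer K h h.2 g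
  have h2 : (((h * g * h⁻¹ : ↥NK) : G) ≠ 1) ↔ ((g : G) ≠ 1) := by
    simp only [Subgroup.coe_mul, Subgroup.coe_inv, ne_eq]
    constructor
    · intro h3 h4
      apply h3
      rw [h4]
      group
    · intro h3 h4
      apply h3
      have : (g : G) = (h : G)⁻¹ * ((h : G) * g * (h : G)⁻¹) * h := by group
      rw [this, h4]
      group
  simp only [h1, h2]

theorem uK_off (x : ↥NK) (hx : (x : G) ∉ K) : uK K x = 0 := by
  classical
  unfold uK
  rw [if_neg]
  exact fun h => hx h.1

theorem uK_one : uK K 1 = 0 := by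
  classical
  unfold uK
  rw [if_neg]
  exact fun h => h.2 rfl

/-- the support of a function induced from a function supported on `K ∖ {1}` -/
theorem indFun_inSupp [Fintype G] (ϑ : ↥NK → ℂ)
    (hvan : ∀ x : ↥NK, (x : G) ∉ K → ϑ x = 0) (h1 : ϑ 1 = 0) (x : G)
    (hx : Cfsg.indFun NK ϑ x ≠ 0) : InSupp K x := by
  classical
  rw [indFun_apply] at hx
  have h2 : ∑ y : G, Cfsg.extendByZero NK ϑ (y⁻¹ * x * y) ≠ 0 := by
    intro h
    rw [h, mul_zero] at hx
    exact hx rfl
  obtain ⟨y, -, hy⟩ := Finset.exists_ne_zero_of_sum_ne_zero h2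
  have hyN : y⁻¹ * x * y ∈ NK := by
    by_contra h
    exact hy (extendByZero_not_mem _ _ h)
  rw [extendByZero_mem _ _ hyN] at hy
  have hyK : y⁻¹ * x * y ∈ K := by
    by_contra h
    exact hy (hvan ⟨_, hyN⟩ h)
  refine ⟨?_, y⁻¹, by simpa using hyK⟩
  rintro rfl
  apply hy
  have : (⟨y⁻¹ * 1 * y, hyN⟩ : ↥NK) = 1 := by
    apply Subtype.ext
    simp
  rw [this, h1]

/-- the function induced from the indicator function of `K ∖ {1}` -/
theorem indFun_uK [Fintype G] (hTI : Cfsg.IsTISubset (K : Set G))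
    (hC : ∀ k ∈ K, k ≠ 1 → Subgroup.centralizer ({k} : Set G) ≤ K) (x : G) :
    Cfsg.indFun NK (uK K) x = (open Classical in if InSupp K x then 1 else 0) := by
  classical
  by_cases hx : InSupp K x
  · rw [if_pos hx]
    obtain ⟨hx1, g, hg⟩ := hx
    have hcf := indFun_isClassFunction NK (uK K)
    rw [← hcf x g]
    have h1 := tifrob_indFun_restrict K hTI hC (uK K) (uK_isClassFunction K) (uK_off K) (uK_one K)
      ⟨g * x * g⁻¹, Subgroup.le_normalizer hg⟩
    rw [h1]
    unfold uK
    rw [if_pos]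
    refine ⟨hg, ?_⟩
    intro h2
    apply hx1
    have h3 : g * x * g⁻¹ = 1 := h2
    have : x = g⁻¹ * (g * x * g⁻¹) * g := by group
    rw [this, h3]
    group
  · rw [if_neg hx]
    by_contra h
    exact hx (indFun_inSupp K (uK K) (uK_off K) (uK_one K) x h)

/-- Frobenius reciprocity against a function agreeing with the restriction on the support -/
theorem classInner_indFun_congr [Fintype G] [Fintype ↥NK] (α θ : ↥NK → ℂ) (Ψ : G → ℂ)
    (hΨ : Cfsg.IsClassFunction G Ψ) (h : ∀ x : ↥NK, α x ≠ 0 → Ψ x = θ x) :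
    Cfsg.classInner (Cfsg.indFun NK α) Ψ = Cfsg.classInner α θ := by
  rw [frobenius_reciprocity NK α Ψ hΨ, classInner_def, classInner_def]
  congr 1
  apply Finset.sum_congr rfl
  intro x _
  by_cases hx : α x = 0
  · rw [hx, zero_mul, zero_mul]
  · rw [h x hx]

/-- induction is an isometry on the class functions supported on `K ∖ {1}` -/
theorem classInner_indFun_indFun [Fintype G] [Fintype ↥NK] (hTI : Cfsg.IsTISubset (K : Set G))
    (hC : ∀ k ∈ K, k ≠ 1 → Subgroup.centralizer ({k} : Set G) ≤ K) (α α' : ↥NK → ℂ)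
    (hα' : Cfsg.IsClassFunction ↥NK α')
    (hvan' : ∀ x : ↥NK, (x : G) ∉ K → α' x = 0) (h1' : α' 1 = 0) :
    Cfsg.classInner (Cfsg.indFun NK α) (Cfsg.indFun NK α') = Cfsg.classInner α α' := by
  apply classInner_indFun_congr K α α' _ (indFun_isClassFunction NK α')
  intro x _
  exact tifrob_indFun_restrict K hTI hC α' hα' hvan' h1' x

/-- averaging a class function over the conjugates of `K ∖ {1}` -/
theorem sum_inSupp_eq [Fintype G] [Fintype ↥NK] (hTI : Cfsg.IsTISubset (K : Set G))
    (hC : ∀ k ∈ K, k ≠ 1 → Subgroup.centralizer ({k} : Set G) ≤ K) (F : G → ℂ)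
    (hF : Cfsg.IsClassFunction G F) :
    (Nat.card G : ℂ)⁻¹ * ∑ x : G, (open Classical in if InSupp K x then F x else 0) =
      (Nat.card ↥NK : ℂ)⁻¹ *
        ∑ x : G, (open Classical in if x ∈ K ∧ x ≠ 1 then F x else 0) := by
  classical
  have hF' : Cfsg.IsClassFunction G (Cfsg.conjFun F) := by
    intro g h
    unfold Cfsg.conjFun
    rw [hF g h]
  have h1 := frobenius_reciprocity NK (uK K) (Cfsg.conjFun F) hF'
  rw [classInner_def, classInner_def] at h1
  have h2 : ∑ x : G, Cfsg.indFun NK (uK K) x * conj (Cfsg.conjFun F x) =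
      ∑ x : G, (if InSupp K x then F x else 0) := by
    apply Finset.sum_congr rfl
    intro x _
    rw [indFun_uK K hTI hC x]
    unfold Cfsg.conjFun
    rw [Complex.conj_conj]
    split_ifs <;> simp
  have h3 : ∑ x : ↥NK, uK K x * conj (Cfsg.conjFun F x) =
      ∑ x : G, (if x ∈ K ∧ x ≠ 1 then F x else 0) := by
    have h4 : ∀ x : G, (if x ∈ K ∧ x ≠ 1 then F x else 0) =
        Cfsg.extendByZero NK (fun y : ↥NK => uK K y * conj (Cfsg.conjFun F y)) x := by
      intro x
      by_cases hx : x ∈ NK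
      · rw [extendByZero_mem _ _ hx]
        unfold uK Cfsg.conjFun
        rw [Complex.conj_conj]
        split_ifs <;> simp
      · rw [extendByZero_not_mem _ _ hx, if_neg]
        exact fun h => hx (Subgroup.le_normalizer h.1)
    rw [Finset.sum_congr rfl (fun x _ => h4 x), sum_extendByZero]
  rw [h2, h3] at h1
  exact h1

end

end Cfsg.Agent.Helper6
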