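import Mathlib
import Cfsg.Prelude.Def_Characters
import Cfsg.Prelude.Def_OddOrderChar
import Cfsg.Prelude.Def_OddOrderLocal
import Cfsg.Agent.Helper6.FrobPartA

/-!
# Groups partitioned by TI Frobenius kernels: computations in a Frobenius group
-/

set_option autoImplicit false
set_option linter.style.haveILetI false

namespace Cfsg.Agent.Helper6

open scoped ComplexConjugate

universe u

section abstractL

variable {L : Type u} [Group L] [Fintype L] (K : Subgroup L)

/-- the character induced from the principal character of `K` -/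
noncomputable def rhoK : L → ℂ := Cfsg.indFun K (fun _ => (1 : ℂ))

theorem rhoK_apply [hK : K.Normal] (x : L) :
    rhoK K x = (open Classical in if x ∈ K then (K.index : ℂ) else 0) := by
  classical
  by_cases hx : x ∈ K
  · rw [if_pos hx]
    unfold rhoK
    rw [indFun_apply]
    have : ∀ y : L, Cfsg.extendByZero K (fun _ => (1 : ℂ)) (y⁻¹ * x * y) = 1 := by
      intro y
      have hy : y⁻¹ * x * y ∈ K := by
        have := hK.conj_mem x hx y⁻¹
        simpa using this
      rw [extendByZero_mem _ _ hy]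
    simp_rw [this]
    rw [Finset.sum_const, Finset.card_univ, nsmul_eq_mul, mul_one, ← Nat.card_eq_fintype_card,
      ← K.index_mul_card]
    have hH : (Nat.card K : ℂ) ≠ 0 := by
      have : 0 < Nat.card K := Nat.card_pos
      exact_mod_cast this.ne'
    push_cast
    field_simp
  · rw [if_neg hx]
    exact indFun_normal_apply_off K _ x hx

theorem rhoK_isCharacter : Cfsg.IsCharacter L (rhoK K) :=
  isCharacter_indFun K _ (IsIrrCharacter.isCharacter isIrrCharacter_one)

theorem rhoK_off [hK : K.Normal] (x : L) (hx : x ∉ K) : rhoK K x = 0 := by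
  classical
  rw [rhoK_apply, if_neg hx]

theorem rhoK_one [hK : K.Normal] : rhoK K 1 = (K.index : ℂ) := by
  classical
  rw [rhoK_apply, if_pos K.one_mem]

theorem classInner_rhoK_left [hK : K.Normal] (f : L → ℂ) (hf : ∀ x, x ∉ K → f x = 0) :
    Cfsg.classInner (rhoK K) f = (K.index : ℂ) * Cfsg.classInner (fun _ => (1 : ℂ)) f := by
  classical
  rw [classInner_def, classInner_def, mul_left_comm]
  congr 1
  rw [Finset.mul_sum]
  apply Finset.sum_congr rfl
  intro x _
  by_cases hx : x ∈ K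
  · rw [rhoK_apply, if_pos hx, one_mul]
  · rw [hf x hx, map_zero, mul_zero, mul_zero, mul_zero]

theorem classInner_rhoK_right [hK : K.Normal] (f : L → ℂ) (hf : ∀ x, x ∉ K → f x = 0) :
    Cfsg.classInner f (rhoK K) = (K.index : ℂ) * Cfsg.classInner f (fun _ => (1 : ℂ)) := by
  rw [classInner_conj_symm (rhoK K) f, classInner_rhoK_left K f hf, map_mul, map_natCast,
    ← classInner_conj_symm]

theorem classInner_rhoK_one : Cfsg.classInner (rhoK K) (fun _ => (1 : ℂ)) = 1 := by
  haveI : Fintype K := Fintype.ofFinite K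
  unfold rhoK
  rw [frobenius_reciprocity K _ _ (fun _ _ => rfl)]
  exact classInner_irr_self isIrrCharacter_one

theorem classInner_rhoK_self [hK : K.Normal] :
    Cfsg.classInner (rhoK K) (rhoK K) = (K.index : ℂ) := by
  rw [classInner_rhoK_left K _ (rhoK_off K), classInner_conj_symm (rhoK K), classInner_rhoK_one,
    map_one, mul_one]

/-- a sum over `K ∖ {1}` of a function vanishing off `K` -/
theorem sum_ite_Ksharp (f : L → ℂ) (hf : ∀ x, x ∉ K → f x = 0) :
    ∑ x : L, (open Classical in if x ∈ K ∧ x ≠ 1 then f x else 0) = ∑ x : L, f x - f 1 := by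
  classical
  have h1 : ∀ x : L, (if x ∈ K ∧ x ≠ 1 then f x else 0) = f x - (if x = 1 then f 1 else 0) := by
    intro x
    by_cases hx1 : x = 1
    · subst hx1
      rw [if_neg (fun h => h.2 rfl), if_pos rfl, sub_self]
    · rw [if_neg hx1, sub_zero]
      by_cases hxK : x ∈ K
      · rw [if_pos ⟨hxK, hx1⟩]
      · rw [if_neg (fun h => hxK h.1), hf x hxK]
  rw [Finset.sum_congr rfl (fun x _ => h1 x), Finset.sum_sub_distrib, Finset.sum_ite_eq']
  simp

theorem sum_ite_Ksharp_one :
    ∑ x : L, (open Classical in if x ∈ K ∧ x ≠ 1 then (1 : ℂ) else 0) = (Nat.card K : ℂ) - 1 := by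
  classical
  have h := sum_ite_Ksharp K (fun x => if x ∈ K then (1 : ℂ) else 0)
    (fun x hx => if_neg hx)
  have h2 : ∀ x : L, (if x ∈ K ∧ x ≠ 1 then (1 : ℂ) else 0) =
      (if x ∈ K ∧ x ≠ 1 then (fun x => if x ∈ K then (1 : ℂ) else 0) x else 0) := by
    intro x
    by_cases hx : x ∈ K ∧ x ≠ 1
    · rw [if_pos hx, if_pos hx]
      simp only
      rw [if_pos hx.1]
    · rw [if_neg hx, if_neg hx]
  rw [Finset.sum_congr rfl (fun x _ => h2 x), h]
  rw [if_pos K.one_mem, Finset.sum_boole]
  congr 1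
  rw [Nat.card_eq_fintype_card, Fintype.card_subtype]

/-- sums of an irreducible character -/
theorem sum_irr_eq_zero (χ : L → ℂ) (hχ : Cfsg.IsIrrCharacter L χ)
    (hne : χ ≠ fun _ => (1 : ℂ)) : ∑ x : L, χ x = 0 := by
  have h1 := classInner_irr_ne hχ isIrrCharacter_one hne
  rw [classInner_def] at h1
  simp only [map_one, mul_one] at h1
  have hL : (Nat.card L : ℂ)⁻¹ ≠ 0 := by
    apply inv_ne_zero
    have : 0 < Nat.card L := Nat.card_pos
    exact_mod_cast this.ne'
  exact (mul_eq_zero.mp h1).resolve_left hL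

theorem sum_irr_mul_conj (χ : L → ℂ) (hχ : Cfsg.IsIrrCharacter L χ) :
    ∑ x : L, χ x * conj (χ x) = (Nat.card L : ℂ) := by
  have h1 := classInner_irr_self hχ
  rw [classInner_def] at h1
  have hL : (Nat.card L : ℂ) ≠ 0 := by
    have : 0 < Nat.card L := Nat.card_pos
    exact_mod_cast this.ne'
  field_simp at h1
  exact h1

/-- the local norm of `ε χ + a` on `K ∖ {1}` -/
theorem frob_locnorm (χ : L → ℂ) (hχ : Cfsg.IsIrrCharacter L χ)
    (hvan : ∀ x, x ∉ K → χ x = 0) (hne : χ ≠ fun _ => (1 : ℂ)) (ε a : ℂ)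
    (hε : ε = 1 ∨ ε = -1) (ha : conj a = a) :
    ∑ x : L, (open Classical in if x ∈ K ∧ x ≠ 1 then
        (ε * χ x + a) * conj (ε * χ x + a) else 0) =
      (Nat.card L : ℂ) - (χ 1) ^ 2 - 2 * ε * a * χ 1 + a ^ 2 * ((Nat.card K : ℂ) - 1) := by
  classical
  obtain ⟨n, -, hn⟩ := IsIrrCharacter.apply_one_pos hχ
  have hεc : conj ε = ε := by
    rcases hε with h | h <;> rw [h] <;> simp
  have hε2 : ε * ε = 1 := by
    rcases hε with h | h <;> rw [h] <;> ring
  have hexp : ∀ x : L, (if x ∈ K ∧ x ≠ 1 then (ε * χ x + a) * conj (ε * χ x + a) else 0) =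
      (if x ∈ K ∧ x ≠ 1 then χ x * conj (χ x) else 0) +
      ε * a * (if x ∈ K ∧ x ≠ 1 then χ x + conj (χ x) else 0) +
      a ^ 2 * (if x ∈ K ∧ x ≠ 1 then (1 : ℂ) else 0) := by
    intro x
    by_cases hx : x ∈ K ∧ x ≠ 1
    · rw [if_pos hx, if_pos hx, if_pos hx, if_pos hx, map_add, map_mul, hεc, ha]
      linear_combination (χ x * conj (χ x)) * hε2
    · rw [if_neg hx, if_neg hx, if_neg hx, if_neg hx]
      ring
  rw [Finset.sum_congr rfl (fun x _ => hexp x), Finset.sum_add_distrib, Finset.sum_add_distrib,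
    ← Finset.mul_sum, ← Finset.mul_sum, sum_ite_Ksharp_one,
    sum_ite_Ksharp K (fun x => χ x * conj (χ x)) (fun x hx => by rw [hvan x hx, zero_mul]),
    sum_ite_Ksharp K (fun x => χ x + conj (χ x))
      (fun x hx => by rw [hvan x hx, map_zero, add_zero]),
    sum_irr_mul_conj χ hχ, Finset.sum_add_distrib, sum_irr_eq_zero χ hχ hne]
  have h0 : ∑ x : L, conj (χ x) = 0 := by
    rw [← map_sum, sum_irr_eq_zero χ hχ hne, map_zero]
  rw [h0, hn]
  simp only [map_natCast]
  ring

end abstractL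

section

variable {G : Type u} [Group G] (K : Subgroup G)

local notation "NK" => Subgroup.normalizer (K : Set G)

/-- a sum over `K ∖ {1}`, computed in the group or in the normalizer -/
theorem sum_Ksharp_eq_sum_NK [Fintype G] [Fintype ↥NK] (F : G → ℂ) :
    ∑ x : G, (open Classical in if x ∈ K ∧ x ≠ 1 then F x else 0) =
      ∑ x : ↥NK, (open Classical in
        if x ∈ K.subgroupOf NK ∧ x ≠ 1 then F x else 0) := by
  classical
  have h4 : ∀ x : G, (if x ∈ K ∧ x ≠ 1 then F x else 0) =
      Cfsg.extendByZero NK (fun y : ↥NK =>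
        if y ∈ K.subgroupOf NK ∧ y ≠ 1 then F y else 0) x := by
    intro x
    by_cases hx : x ∈ NK
    · rw [extendByZero_mem _ _ hx]
      have h5 : ((⟨x, hx⟩ : ↥NK) ∈ K.subgroupOf NK ∧ (⟨x, hx⟩ : ↥NK) ≠ 1) ↔ (x ∈ K ∧ x ≠ 1) := by
        rw [Subgroup.mem_subgroupOf]
        constructor
        · rintro ⟨h1, h2⟩
          exact ⟨h1, fun h => h2 (Subtype.ext h)⟩
        · rintro ⟨h1, h2⟩
          exact ⟨h1, fun h => h2 (congrArg Subtype.val h)⟩
      simp only [h5]
    · rw [extendByZero_not_mem _ _ hx, if_neg]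
      exact fun h => hx (Subgroup.le_normalizer h.1)
  rw [Finset.sum_congr rfl (fun x _ => h4 x), sum_extendByZero]

end

end Cfsg.Agent.Helper6
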