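import Mathlib
import Cfsg.Prelude.Def_Characters
import Cfsg.Prelude.Def_OddOrderChar
import Cfsg.Prelude.Def_OddOrderLocal
import Cfsg.Agent.Helper6.FrobPartB
import Cfsg.Agent.S1529

/-!
# Groups partitioned by TI Frobenius kernels: the coherent set of a TI Frobenius kernel
-/

set_option autoImplicit false
set_option linter.style.haveILetI false

namespace Cfsg.Agent.Helper6

open scoped ComplexConjugate

universe u

variable {G : Type u} [Group G]

section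

variable (K : Subgroup G)

local notation "NK" => Subgroup.normalizer (K : Set G)

local notation "KN" => K.subgroupOf (Subgroup.normalizer (K : Set G))

/-- the data of a coherent isometry with uniform sign for a TI subgroup whose normalizer is a
Frobenius group of odd order with kernel `K` -/
structure FrobCoh [Fintype G] [Fintype ↥NK] where
  hK1 : K ≠ ⊥
  hTI : Cfsg.IsTISubset (K : Set G)
  hlt : K < NK
  hC : ∀ k ∈ K, k ≠ 1 → Subgroup.centralizer ({k} : Set G) ≤ K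
  hodd : Odd (Nat.card ↥NK)
  τ : (↥NK → ℂ) → (G → ℂ)
  ε : ℂ
  hiso : Cfsg.IsLinearIsometryOn (Cfsg.zspan (Cfsg.inducedIrrAbove KN ⊥)) τ
  hext : ∀ α ∈ Cfsg.zspanOn (Cfsg.inducedIrrAbove KN ⊥) ({1}ᶜ : Set ↥NK), τ α = Cfsg.indFun NK α
  hε : ε = 1 ∨ ε = -1
  hirr : ∀ χ ∈ Cfsg.inducedIrrAbove KN ⊥, Cfsg.IsIrrCharacter G (ε • τ χ)
  hinj : ∀ χ ∈ Cfsg.inducedIrrAbove KN ⊥, ∀ ψ ∈ Cfsg.inducedIrrAbove KN ⊥, τ χ = τ ψ → χ = ψ

set_option maxHeartbeats 800000 in
/-- coherence for the kernel of a Frobenius normalizer of odd order -/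
theorem sib_frob_coherent [Fintype G] [Fintype ↥NK] (hK1 : K ≠ ⊥)
    (hTI : Cfsg.IsTISubset (K : Set G)) (hlt : K < NK)
    (hC : ∀ k ∈ K, k ≠ 1 → Subgroup.centralizer ({k} : Set G) ≤ K)
    (hodd : Odd (Nat.card ↥NK)) :
    Cfsg.IsCoherent (Cfsg.inducedIrrAbove KN ⊥) {1}ᶜ (fun α : ↥NK → ℂ => Cfsg.indFun NK α) := by
  classical
  have hcardL : Nat.card ↥NK = (KN).index * Nat.card K := by
    rw [← sib_card_KN K, Subgroup.index_mul_card]
  rcases sib_nilpotent_main K hK1 hTI hlt hC with ⟨-, hc, -⟩ | ⟨hc, -⟩ | h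
  · exfalso
    rw [hcardL, hc] at hodd
    have : Even ((KN).index * ((KN).index + 1)) := Nat.even_mul_succ_self _
    exact (Nat.not_odd_iff_even.mpr this) hodd
  · exfalso
    have hHodd : Odd (Nat.card K) := by
      apply Odd.of_dvd_nat hodd
      rw [hcardL]
      exact Dvd.intro_left _ rfl
    have h1 : 1 < Nat.card K := by
      rw [Subgroup.one_lt_card_iff_ne_bot]
      exact hK1
    rw [hc] at hHodd h1
    have hexp : (Nat.card G).factorization 2 ≠ 0 := by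
      intro h0
      rw [h0, pow_zero] at h1
      omega
    have : Even (2 ^ (Nat.card G).factorization 2) := Nat.even_pow.mpr ⟨even_two, hexp⟩
    exact (Nat.not_odd_iff_even.mpr this) hHodd
  · rw [sib_S_eq K hC]
    exact h

/-- existence of the coherence data -/
theorem exists_frobCoh [Fintype G] [Fintype ↥NK] (hK1 : K ≠ ⊥)
    (hTI : Cfsg.IsTISubset (K : Set G)) (hlt : K < NK)
    (hC : ∀ k ∈ K, k ≠ 1 → Subgroup.centralizer ({k} : Set G) ≤ K)
    (hodd : Odd (Nat.card ↥NK)) : Nonempty (FrobCoh K) := by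
  classical
  haveI := sib_normal K
  obtain ⟨-, τ₁, hτ₁, hext⟩ := sib_frob_coherent K hK1 hTI hlt hC hodd
  obtain ⟨χ, hχ⟩ := diff_nonempty KN KN le_rfl (sib_KN_ne_bot K hK1)
  have hχS := hχ.1
  obtain ⟨hχc, hχne⟩ := sib_conj K hC hodd χ hχS
  have h0 : ∀ α ∈ Cfsg.zspan (Cfsg.inducedIrrAbove KN ⊥), α 1 = 0 → τ₁ α 1 = 0 := by
    intro α hα hα1
    have hmem : α ∈ Cfsg.zspanOn (Cfsg.inducedIrrAbove KN ⊥) ({1}ᶜ : Set ↥NK) := by
      refine ⟨hα, ?_⟩
      intro x hx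
      have hx1 : x = 1 := by simpa using hx
      rw [hx1, hα1]
    rw [hext α hmem]
    show Cfsg.indFun NK α 1 = 0
    rw [indFun_apply_one, hα1, mul_zero]
  obtain ⟨ε, hε, hirr, hinj⟩ := Cfsg.Agent.S1529.result NK (Cfsg.inducedIrrAbove KN ⊥)
    (sib_irr K hC) ⟨Cfsg.conjFun χ, hχc, χ, hχS, hχne⟩ τ₁ hτ₁ h0
  exact ⟨⟨hK1, hTI, hlt, hC, hodd, τ₁, ε, hτ₁, hext, hε, hirr, hinj⟩⟩

end

end Cfsg.Agent.Helper6
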