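import Mathlib
import Cfsg.Prelude.Def_Characters
import Cfsg.Prelude.Def_OddOrderChar
import Cfsg.Prelude.Def_OddOrderLocal
import Cfsg.Agent.Helper6.FrobPartC

/-!
# Groups partitioned by TI Frobenius kernels: the exceptional characters of a TI Frobenius kernel
-/

set_option autoImplicit false
set_option linter.style.haveILetI false

namespace Cfsg.Agent.Helper6

open scoped ComplexConjugate

universe u

variable {G : Type u} [Group G]

section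

variable {K : Subgroup G}

local notation "NK" => Subgroup.normalizer (K : Set G)

local notation "KN" => K.subgroupOf (Subgroup.normalizer (K : Set G))

namespace FrobCoh

theorem free [Fintype G] [Fintype ↥NK] (D : Helper6.FrobCoh K) : ∀ g : ↥NK, g ∉ KN → ∀ k ∈ KN, g * k = k * g → k = 1 := tifrob_free K D.hC

/-- the basic properties of the members of `S` -/
theorem mem_S_props [Fintype G] [Fintype ↥NK] (D : Helper6.FrobCoh K) (χ : ↥NK → ℂ) (hχ : χ ∈ Cfsg.inducedIrrAbove KN ⊥) :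
    Cfsg.IsIrrCharacter ↥NK χ ∧ (∀ x : ↥NK, (x : G) ∉ K → χ x = 0) ∧
      χ ≠ (fun _ => (1 : ℂ)) ∧ Cfsg.conjFun χ ∈ Cfsg.inducedIrrAbove KN ⊥ ∧
      Cfsg.conjFun χ ≠ χ ∧
      ∃ t : ℕ, 0 < t ∧ χ 1 = (((KN).index * t : ℕ) : ℂ) ∧
        Cfsg.charDegree χ = (KN).index * t := by
  haveI := sib_normal K
  have hirr := sib_irr K D.hC χ hχ
  obtain ⟨hc1, hc2⟩ := sib_conj K D.hC D.hodd χ hχ
  refine ⟨hirr, (sib_zspan_props K χ (Submodule.subset_span hχ)).2.1, ?_, hc1, hc2, ?_⟩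
  · intro h
    have h2 := hχ
    rw [sib_S_eq K D.hC] at h2
    obtain ⟨-, k, -, hne⟩ := h2
    apply hne
    rw [h]
  · obtain ⟨θ, h0, h1, -, rfl⟩ := hχ
    have hθc := IsIrrCharacter.isCharacter h0
    have h3 := charDegree_indFun_normal KN θ hθc
    obtain ⟨n, hn, hn1⟩ := IsIrrCharacter.apply_one_pos h0
    have h4 : Cfsg.charDegree θ = n := by
      have := charDegree_cast_of_isCharacter hθc
      rw [hn1] at this
      exact_mod_cast this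
    refine ⟨Cfsg.charDegree θ, by omega, ?_, h3⟩
    rw [← charDegree_cast_of_isCharacter (IsIrrCharacter.isCharacter hirr), h3]

/-- a member of `S` of degree `|N(K) : K|` -/
theorem exists_chi0 [Fintype G] [Fintype ↥NK] (D : Helper6.FrobCoh K) : ∃ χ₀ ∈ Cfsg.inducedIrrAbove KN ⊥, χ₀ 1 = ((KN).index : ℂ) := by
  classical
  haveI := sib_normal K
  have hnil : Group.IsNilpotent KN :=
    frob_kernel_nilpotent KN (sib_KN_ne_bot K D.hK1) (ne_of_lt (sib_KN_lt_top K D.hlt))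
      (sib_hC K D.hC)
  have hsolv : Group.IsSolvable KN := by
    haveI := hnil
    infer_instance
  obtain ⟨θ, hθ, hθ1⟩ := exists_linear_above KN ⊥ hsolv
    (bot_lt_iff_ne_bot.mpr (sib_KN_ne_bot K D.hK1))
  obtain ⟨h0, h1, h2⟩ := (mem_irrAboveFn KN ⊥ θ).mp hθ
  refine ⟨Cfsg.indFun KN θ, ⟨θ, h0, h1, h2, rfl⟩, ?_⟩
  rw [indFun_apply_one, hθ1, mul_one]

/-- the sum of the squares of the weights -/
theorem sum_tw [Fintype G] [Fintype ↥NK] (D : Helper6.FrobCoh K) :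
    (∑ χ ∈ indAbove KN ⊥, (Cfsg.charDegree χ / (KN).index) ^ 2) * (KN).index =
      Nat.card K - 1 := by
  classical
  haveI := sib_normal K
  have hsum := frob_sum_sq KN ⊥ D.free
  rw [Subgroup.relIndex_bot_left, sib_card_KN] at hsum
  have hepos : 0 < (KN).index := Nat.pos_of_ne_zero Subgroup.index_ne_zero_of_finite
  have h1 : ∑ φ ∈ indAbove KN ⊥, Cfsg.charDegree φ ^ 2 =
      (KN).index * ((∑ χ ∈ indAbove KN ⊥, (Cfsg.charDegree χ / (KN).index) ^ 2) *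
        (KN).index) := by
    rw [Finset.sum_mul, Finset.mul_sum]
    apply Finset.sum_congr rfl
    intro φ hφ
    have hφS : φ ∈ Cfsg.inducedIrrAbove KN ⊥ := by
      rw [← coe_indAbove]
      exact Finset.mem_coe.mpr hφ
    obtain ⟨-, -, -, -, -, t, -, -, ht⟩ := D.mem_S_props φ hφS
    rw [ht, Nat.mul_div_cancel_left _ hepos]
    ring
  rw [h1] at hsum
  exact Nat.eq_of_mul_eq_mul_left hepos hsum

/-- `τ` on a combination of two members of `S` -/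
theorem tau_comb [Fintype G] [Fintype ↥NK] (D : Helper6.FrobCoh K) (χ ψ : ↥NK → ℂ) (hχ : χ ∈ Cfsg.inducedIrrAbove KN ⊥)
    (hψ : ψ ∈ Cfsg.inducedIrrAbove KN ⊥) (m n : ℤ) :
    m • χ - n • ψ ∈ Cfsg.zspan (Cfsg.inducedIrrAbove KN ⊥) ∧
      D.τ (m • χ - n • ψ) = (m : ℂ) • D.τ χ - (n : ℂ) • D.τ ψ := by
  obtain ⟨hadd, hsmul, -, -⟩ := D.hiso
  have hχm : χ ∈ Cfsg.zspan (Cfsg.inducedIrrAbove KN ⊥) := Submodule.subset_span hχ
  have hψm : ψ ∈ Cfsg.zspan (Cfsg.inducedIrrAbove KN ⊥) := Submodule.subset_span hψ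
  have m1 : m • χ ∈ Cfsg.zspan (Cfsg.inducedIrrAbove KN ⊥) := Submodule.smul_mem _ _ hχm
  have m2 : (-n) • ψ ∈ Cfsg.zspan (Cfsg.inducedIrrAbove KN ⊥) := Submodule.smul_mem _ _ hψm
  have e1 : m • χ - n • ψ = m • χ + (-n) • ψ := by
    rw [neg_smul, sub_eq_add_neg]
  refine ⟨e1 ▸ Submodule.add_mem _ m1 m2, ?_⟩
  rw [e1, hadd _ m1 _ m2, hsmul χ hχm, hsmul ψ hψm, zsmul_fun_eq, zsmul_fun_eq]
  push_cast
  rw [neg_smul, sub_eq_add_neg]

/-- `τ` coincides with induction on the differences `t χ₀ - χ` -/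
theorem tau_diff [Fintype G] [Fintype ↥NK] (D : Helper6.FrobCoh K) (χ₀ χ : ↥NK → ℂ) (hχ₀ : χ₀ ∈ Cfsg.inducedIrrAbove KN ⊥)
    (hχ : χ ∈ Cfsg.inducedIrrAbove KN ⊥) (h0 : χ₀ 1 = ((KN).index : ℂ)) (t : ℕ)
    (ht : χ 1 = (((KN).index * t : ℕ) : ℂ)) :
    (t : ℂ) • D.τ χ₀ - D.τ χ = Cfsg.indFun NK ((t : ℂ) • χ₀ - χ) := by
  obtain ⟨hm, hlin⟩ := D.tau_comb χ₀ χ hχ₀ hχ (t : ℤ) 1
  have e1 : ((t : ℤ) • χ₀ - (1 : ℤ) • χ) = (t : ℂ) • χ₀ - χ := by
    rw [zsmul_fun_eq, one_smul]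
    push_cast
    rfl
  have hmem : ((t : ℤ) • χ₀ - (1 : ℤ) • χ) ∈
      Cfsg.zspanOn (Cfsg.inducedIrrAbove KN ⊥) ({1}ᶜ : Set ↥NK) := by
    refine ⟨hm, ?_⟩
    intro x hx
    have hx1 : x = 1 := by simpa using hx
    rw [hx1, e1, Pi.sub_apply, Pi.smul_apply, h0, ht, smul_eq_mul]
    push_cast
    ring
  have h2 := D.hext _ hmem
  rw [hlin, e1] at h2
  rw [← h2]
  push_cast
  rw [one_smul]

/-- proportionality of the values off the support -/
theorem tau_prop [Fintype G] [Fintype ↥NK] (D : Helper6.FrobCoh K) (χ₀ χ : ↥NK → ℂ) (hχ₀ : χ₀ ∈ Cfsg.inducedIrrAbove KN ⊥)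
    (hχ : χ ∈ Cfsg.inducedIrrAbove KN ⊥) (h0 : χ₀ 1 = ((KN).index : ℂ)) (t : ℕ)
    (ht : χ 1 = (((KN).index * t : ℕ) : ℂ)) (x : G) (hx : ¬ InSupp K x) :
    D.τ χ x = (t : ℂ) * D.τ χ₀ x := by
  have h1 := congrFun (D.tau_diff χ₀ χ hχ₀ hχ h0 t ht) x
  have h2 : Cfsg.indFun NK ((t : ℂ) • χ₀ - χ) x = 0 := by
    by_contra hne
    apply hx
    apply indFun_inSupp K _ _ _ x hne
    · intro y hy
      rw [Pi.sub_apply, Pi.smul_apply, (D.mem_S_props χ₀ hχ₀).2.1 y hy,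
        (D.mem_S_props χ hχ).2.1 y hy, smul_zero, sub_zero]
    · rw [Pi.sub_apply, Pi.smul_apply, h0, ht, smul_eq_mul]
      push_cast
      ring
  rw [h2, Pi.sub_apply, Pi.smul_apply, smul_eq_mul] at h1
  linear_combination -h1

/-- the values on the normalizer -/
theorem tau_restrict [Fintype G] [Fintype ↥NK] (D : Helper6.FrobCoh K) (χ₀ χ : ↥NK → ℂ) (hχ₀ : χ₀ ∈ Cfsg.inducedIrrAbove KN ⊥)
    (hχ : χ ∈ Cfsg.inducedIrrAbove KN ⊥) (h0 : χ₀ 1 = ((KN).index : ℂ)) (t : ℕ)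
    (ht : χ 1 = (((KN).index * t : ℕ) : ℂ)) (x : ↥NK) :
    D.τ χ x = (t : ℂ) * (D.τ χ₀ x - χ₀ x) + χ x := by
  have h1 := congrFun (D.tau_diff χ₀ χ hχ₀ hχ h0 t ht) x
  have hcf : Cfsg.IsClassFunction ↥NK ((t : ℂ) • χ₀ - χ) := by
    have hc1 := IsCharacter.isClassFunction (IsIrrCharacter.isCharacter (D.mem_S_props χ₀ hχ₀).1)
    have hc2 := IsCharacter.isClassFunction (IsIrrCharacter.isCharacter (D.mem_S_props χ hχ).1)
    intro g h
    rw [Pi.sub_apply, Pi.smul_apply, Pi.sub_apply, Pi.smul_apply, hc1 g h, hc2 g h]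
  have h2 := tifrob_indFun_restrict K D.hTI D.hC ((t : ℂ) • χ₀ - χ) hcf
    (by
      intro y hy
      rw [Pi.sub_apply, Pi.smul_apply, (D.mem_S_props χ₀ hχ₀).2.1 y hy,
        (D.mem_S_props χ hχ).2.1 y hy, smul_zero, sub_zero])
    (by
      rw [Pi.sub_apply, Pi.smul_apply, h0, ht, smul_eq_mul]
      push_cast
      ring) x
  rw [h2, Pi.sub_apply, Pi.smul_apply, Pi.sub_apply, Pi.smul_apply, smul_eq_mul, smul_eq_mul] at h1
  linear_combination -h1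

end FrobCoh

end

end Cfsg.Agent.Helper6
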