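import Mathlib
import Cfsg.Prelude.Def_Characters
import Cfsg.Prelude.Def_OddOrderChar
import Cfsg.Prelude.Def_OddOrderLocal
import Cfsg.Agent.Helper6.FrobPartD

/-!
# Groups partitioned by TI Frobenius kernels: the values of the exceptional characters
-/

set_option autoImplicit false
set_option linter.style.haveILetI false

namespace Cfsg.Agent.Helper6

open scoped ComplexConjugate

universe u

variable {G : Type u} [Group G]

section

variable {K : Subgroup G}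

local notation "NK" => Subgroup.normalizer (K : Set G)

local notation "KN" => K.subgroupOf (Subgroup.normalizer (K : Set G))

namespace FrobCoh

/-- the chosen member of `S` of least degree -/
noncomputable def chi0 [Fintype G] [Fintype ↥NK] (D : Helper6.FrobCoh K) : ↥NK → ℂ :=
  Classical.choose D.exists_chi0

theorem chi0_mem [Fintype G] [Fintype ↥NK] (D : Helper6.FrobCoh K) :
    D.chi0 ∈ Cfsg.inducedIrrAbove KN ⊥ := (Classical.choose_spec D.exists_chi0).1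

theorem chi0_one [Fintype G] [Fintype ↥NK] (D : Helper6.FrobCoh K) :
    D.chi0 1 = ((KN).index : ℂ) := (Classical.choose_spec D.exists_chi0).2

theorem eps_conj [Fintype G] [Fintype ↥NK] (D : Helper6.FrobCoh K) : conj D.ε = D.ε := by
  rcases D.hε with h | h <;> rw [h] <;> simp

theorem eps_sq [Fintype G] [Fintype ↥NK] (D : Helper6.FrobCoh K) : D.ε * D.ε = 1 := by
  rcases D.hε with h | h <;> rw [h] <;> ring

theorem tau_classFunction [Fintype G] [Fintype ↥NK] (D : Helper6.FrobCoh K) (χ : ↥NK → ℂ)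
    (hχ : χ ∈ Cfsg.inducedIrrAbove KN ⊥) : Cfsg.IsClassFunction G (D.τ χ) :=
  IsGeneralizedCharacter.isClassFunction (D.hiso.2.2.2 χ (Submodule.subset_span hχ))

/-- `τ χ₀ - χ₀` is constant on `K ∖ {1}` -/
theorem exists_c0 [Fintype G] [Fintype ↥NK] (D : Helper6.FrobCoh K) :
    ∃ c : ℂ, ∀ k : ↥NK, (k : G) ∈ K → k ≠ 1 → D.τ D.chi0 k - D.chi0 k = c := by
  classical
  obtain ⟨hadd, hsmul, hiso, hgen⟩ := D.hiso
  have hχ₀ := D.chi0_mem
  apply tifrob_core K D.hC (D.τ D.chi0) (D.tau_classFunction _ hχ₀) D.chi0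
    (IsCharacter.isClassFunction (IsIrrCharacter.isCharacter (D.mem_S_props _ hχ₀).1))
  intro η η' hη hη' hrel hrel'
  have hηS : η ∈ Cfsg.inducedIrrAbove KN ⊥ := by
    rw [sib_S_eq K D.hC]
    exact ⟨hη, hrel⟩
  have hη'S : η' ∈ Cfsg.inducedIrrAbove KN ⊥ := by
    rw [sib_S_eq K D.hC]
    exact ⟨hη', hrel'⟩
  obtain ⟨d, -, hd⟩ := IsIrrCharacter.apply_one_pos hη
  obtain ⟨d', -, hd'⟩ := IsIrrCharacter.apply_one_pos hη'
  have hmem := deg_comb_mem_zspanOn (Cfsg.inducedIrrAbove KN ⊥) η η' hηS hη'S d' d hd' hd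
  have e1 : (η' 1) • η - (η 1) • η' = (d' : ℤ) • η - (d : ℤ) • η' := by
    rw [hd, hd', zsmul_fun_eq, zsmul_fun_eq]
    push_cast
    rfl
  rw [e1, ← D.hext _ hmem]
  exact hiso _ hmem.1 _ (Submodule.subset_span hχ₀)

/-- the constant value of `τ χ₀ - χ₀` on `K ∖ {1}` -/
noncomputable def c0 [Fintype G] [Fintype ↥NK] (D : Helper6.FrobCoh K) : ℂ :=
  Classical.choose D.exists_c0

theorem c0_spec [Fintype G] [Fintype ↥NK] (D : Helper6.FrobCoh K) (k : ↥NK) (hk : (k : G) ∈ K)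
    (hk1 : k ≠ 1) : D.τ D.chi0 k - D.chi0 k = D.c0 := Classical.choose_spec D.exists_c0 k hk hk1

/-- the values of `τ χ` on `K ∖ {1}` -/
theorem tau_apply_Ksharp [Fintype G] [Fintype ↥NK] (D : Helper6.FrobCoh K) (χ : ↥NK → ℂ)
    (hχ : χ ∈ Cfsg.inducedIrrAbove KN ⊥) (t : ℕ)
    (ht : χ 1 = (((KN).index * t : ℕ) : ℂ)) (k : ↥NK) (hk : (k : G) ∈ K) (hk1 : k ≠ 1) :
    D.τ χ k = (t : ℂ) * D.c0 + χ k := by
  rw [D.tau_restrict D.chi0 χ D.chi0_mem hχ D.chi0_one t ht k, D.c0_spec k hk hk1]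

/-- the exceptional characters -/
noncomputable def zeta [Fintype G] [Fintype ↥NK] (D : Helper6.FrobCoh K) (χ : ↥NK → ℂ) :
    G → ℂ := D.ε • D.τ χ

theorem zeta_irr [Fintype G] [Fintype ↥NK] (D : Helper6.FrobCoh K) (χ : ↥NK → ℂ)
    (hχ : χ ∈ Cfsg.inducedIrrAbove KN ⊥) : Cfsg.IsIrrCharacter G (D.zeta χ) := D.hirr χ hχ

theorem eps_ne_zero [Fintype G] [Fintype ↥NK] (D : Helper6.FrobCoh K) : D.ε ≠ 0 := by
  rcases D.hε with h | h <;> rw [h] <;> norm_num

theorem zeta_inj [Fintype G] [Fintype ↥NK] (D : Helper6.FrobCoh K) (χ ψ : ↥NK → ℂ)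
    (hχ : χ ∈ Cfsg.inducedIrrAbove KN ⊥) (hψ : ψ ∈ Cfsg.inducedIrrAbove KN ⊥)
    (h : D.zeta χ = D.zeta ψ) : χ = ψ := by
  apply D.hinj χ hχ ψ hψ
  unfold zeta at h
  funext x
  have h1 := congrFun h x
  rw [Pi.smul_apply, Pi.smul_apply, smul_eq_mul, smul_eq_mul] at h1
  exact mul_left_cancel₀ D.eps_ne_zero h1

theorem conjFun_smul_real (c : ℂ) (hc : conj c = c) {X : Type*} (f : X → ℂ) :
    Cfsg.conjFun (c • f) = c • Cfsg.conjFun f := by
  funext x
  unfold Cfsg.conjFun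
  rw [Pi.smul_apply, Pi.smul_apply, smul_eq_mul, smul_eq_mul, map_mul, hc]

/-- `τ (χ - conj χ)` is induced -/
theorem tau_sub_conj [Fintype G] [Fintype ↥NK] (D : Helper6.FrobCoh K) (χ : ↥NK → ℂ)
    (hχ : χ ∈ Cfsg.inducedIrrAbove KN ⊥) :
    D.τ χ - D.τ (Cfsg.conjFun χ) = Cfsg.indFun NK (χ - Cfsg.conjFun χ) := by
  obtain ⟨hirr, -, -, hc, -, -⟩ := D.mem_S_props χ hχ
  have hmem := sub_conjFun_mem_zspanOn (Cfsg.inducedIrrAbove KN ⊥) χ hχ hc
    (IsIrrCharacter.isCharacter hirr)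
  obtain ⟨-, hlin⟩ := D.tau_comb χ (Cfsg.conjFun χ) hχ hc 1 1
  have e1 : (1 : ℤ) • χ - (1 : ℤ) • Cfsg.conjFun χ = χ - Cfsg.conjFun χ := by
    rw [one_smul, one_smul]
  rw [e1] at hlin
  rw [← D.hext _ hmem, hlin]
  push_cast
  rw [one_smul, one_smul]

/-- the exceptional characters of conjugate characters are conjugate -/
theorem zeta_conj [Fintype G] [Fintype ↥NK] (D : Helper6.FrobCoh K) (χ : ↥NK → ℂ)
    (hχ : χ ∈ Cfsg.inducedIrrAbove KN ⊥) :
    D.zeta (Cfsg.conjFun χ) = Cfsg.conjFun (D.zeta χ) := by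
  obtain ⟨hirr, -, -, hc, hcne, -⟩ := D.mem_S_props χ hχ
  have hA := D.zeta_irr χ hχ
  have hB := D.zeta_irr _ hc
  have hAB : D.zeta χ ≠ D.zeta (Cfsg.conjFun χ) := by
    intro h
    exact hcne (D.zeta_inj _ _ hχ hc h).symm
  -- `A - B` is purely imaginary
  have hdiff : D.zeta χ - D.zeta (Cfsg.conjFun χ) =
      D.ε • Cfsg.indFun NK (χ - Cfsg.conjFun χ) := by
    unfold zeta
    rw [← smul_sub, D.tau_sub_conj χ hχ]
  have hconj : Cfsg.conjFun (D.zeta χ - D.zeta (Cfsg.conjFun χ)) =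
      -(D.zeta χ - D.zeta (Cfsg.conjFun χ)) := by
    rw [hdiff, conjFun_smul_real _ D.eps_conj, conjFun_indFun_eq, ← smul_neg, ← indFun_neg]
    congr 2
    funext x
    unfold Cfsg.conjFun
    simp
  have hsum : Cfsg.conjFun (D.zeta χ) + D.zeta χ =
      Cfsg.conjFun (D.zeta (Cfsg.conjFun χ)) + D.zeta (Cfsg.conjFun χ) := by
    funext x
    have h1 := congrFun hconj x
    unfold Cfsg.conjFun at h1 ⊢
    simp only [Pi.sub_apply, Pi.neg_apply, Pi.add_apply, map_sub] at h1 ⊢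
    linear_combination h1
  have hcA := conjFun_isIrrCharacter hA
  have hcB := conjFun_isIrrCharacter hB
  have h2 : Cfsg.classInner (Cfsg.conjFun (D.zeta χ) + D.zeta χ) (D.zeta χ) =
      Cfsg.classInner (Cfsg.conjFun (D.zeta (Cfsg.conjFun χ)) + D.zeta (Cfsg.conjFun χ))
        (D.zeta χ) := by
    rw [hsum]
  rw [classInner_add_left, classInner_add_left, classInner_irr_self hA,
    classInner_irr_ne hB hA (Ne.symm hAB), add_zero] at h2
  by_contra hne
  have h3 : Cfsg.classInner (Cfsg.conjFun (D.zeta (Cfsg.conjFun χ))) (D.zeta χ) = 0 := by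
    apply classInner_irr_ne hcB hA
    intro h
    apply hne
    rw [← h, conjFun_conjFun]
  rw [h3] at h2
  by_cases h4 : Cfsg.conjFun (D.zeta χ) = D.zeta χ
  · rw [h4, classInner_irr_self hA] at h2
    norm_num at h2
  · rw [classInner_irr_ne hcA hA h4] at h2
    norm_num at h2

end FrobCoh

end

end Cfsg.Agent.Helper6
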