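import Mathlib
import Cfsg.Prelude.Def_Characters
import Cfsg.Prelude.Def_OddOrderChar
import Cfsg.Prelude.Def_OddOrderLocal
import Cfsg.Agent.Helper6.FrobPartE

/-!
# Groups partitioned by TI Frobenius kernels: the generalized character `β`
-/

set_option autoImplicit false
set_option linter.style.haveILetI false

namespace Cfsg.Agent.Helper6

open scoped ComplexConjugate

universe u

variable {G : Type u} [Group G]

section

variable {K : Subgroup G}

local notation "NK" => Subgroup.normalizer (K : Set G)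

local notation "KN" => K.subgroupOf (Subgroup.normalizer (K : Set G))

namespace FrobCoh

/-- the function `ρ - χ₀` on the normalizer -/
noncomputable def alpha [Fintype G] [Fintype ↥NK] (D : Helper6.FrobCoh K) : ↥NK → ℂ :=
  rhoK KN - D.chi0

/-- the generalized character `β` induced from `ρ - χ₀` -/
noncomputable def beta [Fintype G] [Fintype ↥NK] (D : Helper6.FrobCoh K) : G → ℂ :=
  Cfsg.indFun NK D.alpha

theorem alpha_classFunction [Fintype G] [Fintype ↥NK] (D : Helper6.FrobCoh K) :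
    Cfsg.IsClassFunction ↥NK D.alpha := by
  have hc1 := IsCharacter.isClassFunction (rhoK_isCharacter KN)
  have hc2 := IsCharacter.isClassFunction
    (IsIrrCharacter.isCharacter (D.mem_S_props _ D.chi0_mem).1)
  intro g h
  unfold alpha
  rw [Pi.sub_apply, Pi.sub_apply, hc1 g h, hc2 g h]

theorem alpha_off [Fintype G] [Fintype ↥NK] (D : Helper6.FrobCoh K) (x : ↥NK)
    (hx : (x : G) ∉ K) : D.alpha x = 0 := by
  haveI := sib_normal K
  unfold alpha
  rw [Pi.sub_apply, rhoK_off KN x (fun h => hx (Subgroup.mem_subgroupOf.mp h)),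
    (D.mem_S_props _ D.chi0_mem).2.1 x hx, sub_zero]

theorem alpha_one [Fintype G] [Fintype ↥NK] (D : Helper6.FrobCoh K) : D.alpha 1 = 0 := by
  haveI := sib_normal K
  unfold alpha
  rw [Pi.sub_apply, rhoK_one, D.chi0_one, sub_self]

theorem beta_genchar [Fintype G] [Fintype ↥NK] (D : Helper6.FrobCoh K) :
    Cfsg.IsGeneralizedCharacter G D.beta := by
  unfold beta alpha
  rw [indFun_sub]
  exact ⟨_, _, isCharacter_indFun NK _ (rhoK_isCharacter KN),
    isCharacter_indFun NK _ (IsIrrCharacter.isCharacter (D.mem_S_props _ D.chi0_mem).1), rfl⟩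

theorem beta_supp [Fintype G] [Fintype ↥NK] (D : Helper6.FrobCoh K) (x : G)
    (hx : D.beta x ≠ 0) : InSupp K x :=
  indFun_inSupp K D.alpha D.alpha_off D.alpha_one x hx

theorem one_ne_of_mem_S [Fintype G] [Fintype ↥NK] (D : Helper6.FrobCoh K) (χ : ↥NK → ℂ)
    (hχ : χ ∈ Cfsg.inducedIrrAbove KN ⊥) :
    Cfsg.classInner (fun _ : ↥NK => (1 : ℂ)) χ = 0 ∧
      Cfsg.classInner χ (fun _ : ↥NK => (1 : ℂ)) = 0 := by
  obtain ⟨hirr, -, hne, -⟩ := D.mem_S_props χ hχ
  exact ⟨classInner_irr_ne isIrrCharacter_one hirr (Ne.symm hne),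
    classInner_irr_ne hirr isIrrCharacter_one hne⟩

theorem rho_inner_S [Fintype G] [Fintype ↥NK] (D : Helper6.FrobCoh K) (χ : ↥NK → ℂ)
    (hχ : χ ∈ Cfsg.inducedIrrAbove KN ⊥) :
    Cfsg.classInner (rhoK KN) χ = 0 ∧ Cfsg.classInner χ (rhoK KN) = 0 := by
  haveI := sib_normal K
  have hvan : ∀ x : ↥NK, x ∉ KN → χ x = 0 := fun x hx =>
    (D.mem_S_props χ hχ).2.1 x (fun h => hx (Subgroup.mem_subgroupOf.mpr h))
  rw [classInner_rhoK_left KN χ hvan, classInner_rhoK_right KN χ hvan,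
    (D.one_ne_of_mem_S χ hχ).1, (D.one_ne_of_mem_S χ hχ).2, mul_zero]
  exact ⟨rfl, rfl⟩

theorem alpha_inner_one [Fintype G] [Fintype ↥NK] (D : Helper6.FrobCoh K) :
    Cfsg.classInner D.alpha (fun _ : ↥NK => (1 : ℂ)) = 1 := by
  unfold alpha
  rw [classInner_sub_left, classInner_rhoK_one, (D.one_ne_of_mem_S _ D.chi0_mem).2, sub_zero]

theorem alpha_inner_S [Fintype G] [Fintype ↥NK] (D : Helper6.FrobCoh K) (χ : ↥NK → ℂ)
    (hχ : χ ∈ Cfsg.inducedIrrAbove KN ⊥) :
    Cfsg.classInner D.alpha χ = (open Classical in if χ = D.chi0 then -1 else 0) := by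
  classical
  unfold alpha
  rw [classInner_sub_left, (D.rho_inner_S χ hχ).1, zero_sub]
  by_cases h : χ = D.chi0
  · rw [if_pos h, h, classInner_irr_self (D.mem_S_props _ D.chi0_mem).1]
  · rw [if_neg h, classInner_irr_ne (D.mem_S_props _ D.chi0_mem).1 (D.mem_S_props _ hχ).1
      (Ne.symm h), neg_zero]

theorem alpha_inner_self [Fintype G] [Fintype ↥NK] (D : Helper6.FrobCoh K) :
    Cfsg.classInner D.alpha D.alpha = ((KN).index : ℂ) + 1 := by
  classical
  haveI := sib_normal K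
  have h1 : Cfsg.classInner D.alpha (rhoK KN) = ((KN).index : ℂ) := by
    unfold alpha
    rw [classInner_sub_left, classInner_rhoK_self, (D.rho_inner_S _ D.chi0_mem).2, sub_zero]
  have h2 := D.alpha_inner_S D.chi0 D.chi0_mem
  rw [if_pos rfl] at h2
  conv_lhs => rw [show D.alpha = rhoK KN - D.chi0 from rfl]
  rw [show (rhoK KN - D.chi0 : ↥NK → ℂ) = D.alpha from rfl]
  have h3 : Cfsg.classInner D.alpha (rhoK KN - D.chi0) =
      Cfsg.classInner D.alpha (rhoK KN) - Cfsg.classInner D.alpha D.chi0 :=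
    classInner_sub_right _ _ _
  have h4 : Cfsg.classInner D.alpha D.alpha = Cfsg.classInner D.alpha (rhoK KN - D.chi0) := rfl
  rw [h4, h3, h1, h2]
  ring

theorem beta_self [Fintype G] [Fintype ↥NK] (D : Helper6.FrobCoh K) :
    Cfsg.classInner D.beta D.beta = ((KN).index : ℂ) + 1 := by
  unfold beta
  rw [classInner_indFun_indFun K D.hTI D.hC D.alpha D.alpha D.alpha_classFunction D.alpha_off
    D.alpha_one, D.alpha_inner_self]

/-- inner products with `β`, computed in the normalizer -/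
theorem beta_inner_congr [Fintype G] [Fintype ↥NK] (D : Helper6.FrobCoh K) (Ψ : G → ℂ)
    (hΨ : Cfsg.IsClassFunction G Ψ) (θ : ↥NK → ℂ)
    (h : ∀ k : ↥NK, (k : G) ∈ K → k ≠ 1 → Ψ k = θ k) :
    Cfsg.classInner D.beta Ψ = Cfsg.classInner D.alpha θ := by
  unfold beta
  apply classInner_indFun_congr K D.alpha θ Ψ hΨ
  intro x hx
  apply h x
  · by_contra hxK
    exact hx (D.alpha_off x hxK)
  · rintro rfl
    exact hx D.alpha_one

theorem beta_inner_const [Fintype G] [Fintype ↥NK] (D : Helper6.FrobCoh K) (Ψ : G → ℂ)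
    (hΨ : Cfsg.IsClassFunction G Ψ) (c : ℂ) (h : ∀ x ∈ K, x ≠ 1 → Ψ x = c) :
    Cfsg.classInner D.beta Ψ = conj c := by
  rw [D.beta_inner_congr Ψ hΨ (c • fun _ => (1 : ℂ))
    (fun k hk hk1 => by
      rw [h (k : G) hk (fun h' => hk1 (Subtype.ext h')), Pi.smul_apply, smul_eq_mul, mul_one]),
    classInner_smul_right, D.alpha_inner_one, mul_one]

theorem beta_inner_tau [Fintype G] [Fintype ↥NK] (D : Helper6.FrobCoh K) (χ : ↥NK → ℂ)
    (hχ : χ ∈ Cfsg.inducedIrrAbove KN ⊥) (t : ℕ) (ht : χ 1 = (((KN).index * t : ℕ) : ℂ)) :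
    Cfsg.classInner D.beta (D.τ χ) =
      (t : ℂ) * conj D.c0 + (open Classical in if χ = D.chi0 then -1 else 0) := by
  classical
  rw [D.beta_inner_congr (D.τ χ) (D.tau_classFunction χ hχ)
    ((((t : ℂ) * D.c0) • fun _ => (1 : ℂ)) + χ)
    (fun k hk hk1 => by
      rw [D.tau_apply_Ksharp χ hχ t ht k hk hk1, Pi.add_apply, Pi.smul_apply, smul_eq_mul,
        mul_one]),
    classInner_add_right, classInner_smul_right, D.alpha_inner_one, D.alpha_inner_S χ hχ,
    mul_one, map_mul, Complex.conj_natCast]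

end FrobCoh

end

end Cfsg.Agent.Helper6
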