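import Mathlib
import Cfsg.Prelude.Def_Characters
import Cfsg.Prelude.Def_OddOrderChar
import Cfsg.Prelude.Def_OddOrderLocal
import Cfsg.Agent.Helper6.FrobPartF

/-!
# Groups partitioned by TI Frobenius kernels: conjugation, integrality, the local norm
-/

set_option autoImplicit false
set_option linter.style.haveILetI false

namespace Cfsg.Agent.Helper6

open scoped ComplexConjugate

universe u

variable {G : Type u} [Group G]

section

variable {K : Subgroup G}

local notation "NK" => Subgroup.normalizer (K : Set G)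

local notation "KN" => K.subgroupOf (Subgroup.normalizer (K : Set G))

namespace FrobCoh

theorem tau_eq_eps_zeta [Fintype G] [Fintype ↥NK] (D : Helper6.FrobCoh K) (χ : ↥NK → ℂ) :
    D.τ χ = D.ε • D.zeta χ := by
  unfold zeta
  rw [smul_smul, D.eps_sq, one_smul]

/-- the complex conjugate of `β` -/
theorem beta_conj [Fintype G] [Fintype ↥NK] (D : Helper6.FrobCoh K) :
    Cfsg.conjFun D.beta = D.beta + (D.τ D.chi0 - D.τ (Cfsg.conjFun D.chi0)) := by
  classical
  haveI := sib_normal K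
  have h1 : Cfsg.conjFun D.alpha = D.alpha + (D.chi0 - Cfsg.conjFun D.chi0) := by
    funext x
    unfold alpha Cfsg.conjFun
    simp only [Pi.sub_apply, Pi.add_apply, map_sub]
    have h2 : conj (rhoK KN x) = rhoK KN x := by
      rw [rhoK_apply]
      split_ifs <;> simp
    rw [h2]
    ring
  unfold beta
  rw [conjFun_indFun_eq, h1, indFun_add, D.tau_sub_conj D.chi0 D.chi0_mem]

/-- `β` has the same multiplicity on an irreducible character and on its conjugate, except for
`ζ` and its conjugate -/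
theorem beta_inner_conj [Fintype G] [Fintype ↥NK] (D : Helper6.FrobCoh K) (Ξ : G → ℂ)
    (hΞ : Cfsg.IsIrrCharacter G Ξ) (h1 : Ξ ≠ D.zeta D.chi0)
    (h2 : Ξ ≠ D.zeta (Cfsg.conjFun D.chi0)) :
    Cfsg.classInner D.beta (Cfsg.conjFun Ξ) = Cfsg.classInner D.beta Ξ := by
  have hc := (D.mem_S_props _ D.chi0_mem).2.2.2.1
  obtain ⟨m, hm⟩ := classInner_genchar_int D.beta_genchar (genchar_of_irr hΞ)
  have h3 : Cfsg.classInner (Cfsg.conjFun D.beta) Ξ = Cfsg.classInner D.beta Ξ := by
    rw [D.beta_conj, classInner_add_left, classInner_sub_left, D.tau_eq_eps_zeta,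
      D.tau_eq_eps_zeta, classInner_smul_left, classInner_smul_left,
      classInner_irr_ne (D.zeta_irr _ D.chi0_mem) hΞ (Ne.symm h1),
      classInner_irr_ne (D.zeta_irr _ hc) hΞ (Ne.symm h2)]
    ring
  have h4 := classInner_conjFun (Cfsg.conjFun D.beta) Ξ
  rw [conjFun_conjFun, h3, hm, map_intCast] at h4
  rw [h4, hm]

/-- the multiplicity of the conjugate of `ζ` in `β` -/
theorem beta_inner_zeta' [Fintype G] [Fintype ↥NK] (D : Helper6.FrobCoh K) :
    Cfsg.classInner D.beta (D.zeta (Cfsg.conjFun D.chi0)) = D.ε * conj D.c0 := by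
  classical
  obtain ⟨-, -, -, hc, hcne, -⟩ := D.mem_S_props _ D.chi0_mem
  have ht : (Cfsg.conjFun D.chi0) 1 = ((((KN).index * 1 : ℕ)) : ℂ) := by
    show conj (D.chi0 1) = _
    rw [D.chi0_one, Complex.conj_natCast, mul_one]
  unfold zeta
  rw [classInner_smul_right, D.beta_inner_tau _ hc 1 ht, if_neg hcne, D.eps_conj]
  push_cast
  ring

theorem beta_inner_zeta [Fintype G] [Fintype ↥NK] (D : Helper6.FrobCoh K) :
    Cfsg.classInner D.beta (D.zeta D.chi0) = D.ε * conj D.c0 - D.ε := by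
  classical
  have ht : D.chi0 1 = ((((KN).index * 1 : ℕ)) : ℂ) := by
    rw [D.chi0_one, mul_one]
  unfold zeta
  rw [classInner_smul_right, D.beta_inner_tau _ D.chi0_mem 1 ht, if_pos rfl, D.eps_conj]
  push_cast
  ring

/-- `ε c₀` is a rational integer -/
theorem exists_int_a [Fintype G] [Fintype ↥NK] (D : Helper6.FrobCoh K) :
    ∃ m : ℤ, D.ε * D.c0 = m := by
  obtain ⟨-, -, -, hc, -, -⟩ := D.mem_S_props _ D.chi0_mem
  obtain ⟨m, hm⟩ := classInner_genchar_int D.beta_genchar (genchar_of_irr (D.zeta_irr _ hc))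
  rw [D.beta_inner_zeta'] at hm
  refine ⟨m, ?_⟩
  have h1 := congrArg conj hm
  rw [map_mul, Complex.conj_conj, D.eps_conj, map_intCast] at h1
  exact h1

/-- the sum of `|ζ|²` over `K ∖ {1}` -/
theorem locnorm_zeta [Fintype G] [Fintype ↥NK] (D : Helper6.FrobCoh K) (m : ℤ)
    (hm : D.ε * D.c0 = m) :
    ∑ x : G, (open Classical in if x ∈ K ∧ x ≠ 1 then
        D.zeta D.chi0 x * conj (D.zeta D.chi0 x) else 0) =
      (Nat.card ↥NK : ℂ) - ((KN).index : ℂ) ^ 2 - 2 * D.ε * m * ((KN).index : ℂ) +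
        (m : ℂ) ^ 2 * ((Nat.card K : ℂ) - 1) := by
  classical
  haveI := sib_normal K
  obtain ⟨hirr, hvan, hne, -⟩ := D.mem_S_props _ D.chi0_mem
  rw [sum_Ksharp_eq_sum_NK K (fun x => D.zeta D.chi0 x * conj (D.zeta D.chi0 x))]
  have ht : D.chi0 1 = ((((KN).index * 1 : ℕ)) : ℂ) := by
    rw [D.chi0_one, mul_one]
  have h1 : ∀ x : ↥NK, (if x ∈ KN ∧ x ≠ 1 then
      D.zeta D.chi0 x * conj (D.zeta D.chi0 x) else 0) =
      (if x ∈ KN ∧ x ≠ 1 then
        (D.ε * D.chi0 x + (m : ℂ)) * conj (D.ε * D.chi0 x + (m : ℂ)) else 0) := by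
    intro x
    by_cases hx : x ∈ KN ∧ x ≠ 1
    · rw [if_pos hx, if_pos hx]
      have h2 : D.zeta D.chi0 x = D.ε * D.chi0 x + (m : ℂ) := by
        unfold zeta
        rw [Pi.smul_apply, smul_eq_mul,
          D.tau_apply_Ksharp _ D.chi0_mem 1 ht x (Subgroup.mem_subgroupOf.mp hx.1) hx.2, ← hm]
        push_cast
        ring
      rw [h2]
    · rw [if_neg hx, if_neg hx]
  rw [Finset.sum_congr rfl (fun x _ => h1 x)]
  have h5 := frob_locnorm KN D.chi0 hirr
      (fun x hx => hvan x (fun h => hx (Subgroup.mem_subgroupOf.mpr h))) hne D.ε (m : ℂ) D.hε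
      (by rw [map_intCast])
  rw [D.chi0_one, sib_card_KN] at h5
  convert h5

end FrobCoh

end

end Cfsg.Agent.Helper6
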