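import Mathlib
import Cfsg.Prelude.Def_Characters
import Cfsg.Prelude.Def_OddOrderChar
import Cfsg.Prelude.Def_OddOrderLocal
import Cfsg.Agent.Helper6.FrobPartG

/-!
# Groups partitioned by TI Frobenius kernels: properties of the exceptional characters
-/

set_option autoImplicit false
set_option linter.style.haveILetI false

namespace Cfsg.Agent.Helper6

open scoped ComplexConjugate

universe u

variable {G : Type u} [Group G]

section

variable {K : Subgroup G}

local notation "NK" => Subgroup.normalizer (K : Set G)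

local notation "KN" => K.subgroupOf (Subgroup.normalizer (K : Set G))

namespace FrobCoh

/-- the weight `χ(1) / |N(K) : K|` of a member of `S` -/
theorem tw_spec [Fintype G] [Fintype ↥NK] (D : Helper6.FrobCoh K) (χ : ↥NK → ℂ)
    (hχ : χ ∈ Cfsg.inducedIrrAbove KN ⊥) :
    χ 1 = ((((KN).index * (Cfsg.charDegree χ / (KN).index) : ℕ)) : ℂ) ∧
      0 < Cfsg.charDegree χ / (KN).index := by
  obtain ⟨-, -, -, -, -, t, htpos, ht1, ht⟩ := D.mem_S_props χ hχ
  have hepos : 0 < (KN).index := Nat.pos_of_ne_zero Subgroup.index_ne_zero_of_finite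
  rw [ht, Nat.mul_div_cancel_left _ hepos]
  exact ⟨ht1, htpos⟩

theorem not_inSupp_one : ¬ InSupp K (1 : G) := fun h => h.1 rfl

/-- proportionality of the exceptional characters off the support -/
theorem zeta_prop [Fintype G] [Fintype ↥NK] (D : Helper6.FrobCoh K) (χ : ↥NK → ℂ)
    (hχ : χ ∈ Cfsg.inducedIrrAbove KN ⊥) (x : G) (hx : ¬ InSupp K x) :
    D.zeta χ x = ((Cfsg.charDegree χ / (KN).index : ℕ) : ℂ) * D.zeta D.chi0 x := by
  unfold zeta
  rw [Pi.smul_apply, Pi.smul_apply, smul_eq_mul, smul_eq_mul,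
    D.tau_prop D.chi0 χ D.chi0_mem hχ D.chi0_one _ (D.tw_spec χ hχ).1 x hx]
  ring

theorem zeta_degree [Fintype G] [Fintype ↥NK] (D : Helper6.FrobCoh K) (χ : ↥NK → ℂ)
    (hχ : χ ∈ Cfsg.inducedIrrAbove KN ⊥) :
    Cfsg.charDegree (D.zeta χ) =
      (Cfsg.charDegree χ / (KN).index) * Cfsg.charDegree (D.zeta D.chi0) := by
  have h1 := D.zeta_prop χ hχ 1 not_inSupp_one
  rw [← charDegree_cast_of_isCharacter (IsIrrCharacter.isCharacter (D.zeta_irr χ hχ)),
    ← charDegree_cast_of_isCharacter (IsIrrCharacter.isCharacter (D.zeta_irr _ D.chi0_mem))] at h1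
  exact_mod_cast h1

theorem zeta_degree_pos [Fintype G] [Fintype ↥NK] (D : Helper6.FrobCoh K) (χ : ↥NK → ℂ)
    (hχ : χ ∈ Cfsg.inducedIrrAbove KN ⊥) : 0 < Cfsg.charDegree (D.zeta χ) := by
  obtain ⟨n, hn, hn1⟩ := IsIrrCharacter.apply_one_pos (D.zeta_irr χ hχ)
  have := charDegree_cast_of_isCharacter (IsIrrCharacter.isCharacter (D.zeta_irr χ hχ))
  rw [hn1] at this
  have h2 : Cfsg.charDegree (D.zeta χ) = n := by exact_mod_cast this
  omega

/-- the exceptional characters are real off the support -/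
theorem zeta_real [Fintype G] [Fintype ↥NK] (D : Helper6.FrobCoh K) (χ : ↥NK → ℂ)
    (hχ : χ ∈ Cfsg.inducedIrrAbove KN ⊥) (x : G) (hx : ¬ InSupp K x) :
    conj (D.zeta χ x) = D.zeta χ x := by
  obtain ⟨hirr, hvan, -, hc, -, -⟩ := D.mem_S_props χ hχ
  have h1 := congrFun (D.zeta_conj χ hχ) x
  have h2 : D.zeta χ x - D.zeta (Cfsg.conjFun χ) x = 0 := by
    have h3 := congrFun (D.tau_sub_conj χ hχ) x
    have h4 : Cfsg.indFun NK (χ - Cfsg.conjFun χ) x = 0 := by
      by_contra hne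
      apply hx
      apply indFun_inSupp K _ _ _ x hne
      · intro y hy
        show χ y - conj (χ y) = 0
        rw [hvan y hy, map_zero, sub_zero]
      · obtain ⟨n, hn⟩ := IsCharacter.apply_one (IsIrrCharacter.isCharacter hirr)
        show χ 1 - conj (χ 1) = 0
        rw [hn, Complex.conj_natCast, sub_self]
    rw [h4, Pi.sub_apply] at h3
    unfold zeta
    rw [Pi.smul_apply, Pi.smul_apply, smul_eq_mul, smul_eq_mul, ← mul_sub, h3, mul_zero]
  show Cfsg.conjFun (D.zeta χ) x = D.zeta χ x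
  rw [← h1]
  linear_combination -h2

theorem zeta_ne_one [Fintype G] [Fintype ↥NK] (D : Helper6.FrobCoh K) (χ : ↥NK → ℂ)
    (hχ : χ ∈ Cfsg.inducedIrrAbove KN ⊥) : D.zeta χ ≠ fun _ => (1 : ℂ) := by
  obtain ⟨-, -, -, hc, hcne, -⟩ := D.mem_S_props χ hχ
  intro h
  apply hcne
  apply D.zeta_inj _ _ hc hχ
  rw [D.zeta_conj χ hχ, h]
  funext x
  show conj (1 : ℂ) = 1
  simp

/-- irreducible characters which are not exceptional are constant on `K ∖ {1}`, with a rational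
integer value -/
theorem const_of_not_zeta [Fintype G] [Fintype ↥NK] (D : Helper6.FrobCoh K) (Ξ : G → ℂ)
    (hΞ : Cfsg.IsIrrCharacter G Ξ) (h : ∀ χ ∈ Cfsg.inducedIrrAbove KN ⊥, Ξ ≠ D.zeta χ) :
    ∃ c : ℤ, ∀ x ∈ K, x ≠ 1 → Ξ x = c := by
  classical
  obtain ⟨-, -, -, hc, hcne, -⟩ := D.mem_S_props _ D.chi0_mem
  have hiff := tifrob_coherent_iff K D.hC (Cfsg.inducedIrrAbove KN ⊥) (sib_S_eq K D.hC)
    ⟨D.chi0, D.chi0_mem, Cfsg.conjFun D.chi0, hc, Ne.symm hcne⟩ D.τ D.hiso D.hext Ξ hΞ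
  have hconst : ∀ a ∈ K, ∀ b ∈ K, a ≠ 1 → b ≠ 1 → Ξ a = Ξ b := by
    intro a ha b hb ha1 hb1
    by_contra hne
    obtain ⟨χ, hχ, hor⟩ := hiff.mpr ⟨a, ha, b, hb, ha1, hb1, hne⟩
    have hz := D.zeta_irr χ hχ
    obtain ⟨n, hn, hn1⟩ := IsIrrCharacter.apply_one_pos hΞ
    obtain ⟨n', hn', hn1'⟩ := IsIrrCharacter.apply_one_pos hz
    have hzeta : D.zeta χ = D.ε • D.τ χ := rfl
    rcases hor with h1 | h1 <;> rcases D.hε with h2 | h2
    · apply h χ hχ
      rw [hzeta, h2, one_smul, h1]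
    · have h3 : D.zeta χ 1 = -Ξ 1 := by
        rw [hzeta, h2, h1]
        simp
      rw [hn1, hn1'] at h3
      have h4 : ((n' : ℤ) : ℂ) = ((-(n : ℤ) : ℤ) : ℂ) := by
        push_cast
        exact h3
      have h5 : (n' : ℤ) = -(n : ℤ) := by exact_mod_cast h4
      omega
    · have h3 : D.zeta χ 1 = -Ξ 1 := by
        rw [hzeta, h2, h1]
        simp
      rw [hn1, hn1'] at h3
      have h4 : ((n' : ℤ) : ℂ) = ((-(n : ℤ) : ℤ) : ℂ) := by
        push_cast
        exact h3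
      have h5 : (n' : ℤ) = -(n : ℤ) := by exact_mod_cast h4
      omega
    · apply h χ hχ
      rw [hzeta, h2, h1]
      simp
  obtain ⟨z, hz, hz1⟩ : ∃ z ∈ K, z ≠ 1 := by
    by_contra hcon
    push Not at hcon
    apply D.hK1
    rw [Subgroup.eq_bot_iff_forall]
    exact hcon
  obtain ⟨c, hc⟩ := exists_int_of_const_on K D.hK1 Ξ (IsIrrCharacter.isCharacter hΞ) hconst z hz hz1
  refine ⟨c, ?_⟩
  intro x hx hx1
  rw [hconst x hx z hz hx1 hz1, hc]

end FrobCoh

end

end Cfsg.Agent.Helper6
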