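import Mathlib
import Cfsg.Prelude.Def_Characters
import Cfsg.Prelude.Def_OddOrderChar
import Cfsg.Prelude.Def_OddOrderLocal
import Cfsg.Agent.Helper6.FrobPartH

/-!
# Groups partitioned by TI Frobenius kernels: the character-theoretic data of one kernel
-/

set_option autoImplicit false
set_option linter.style.haveILetI false

namespace Cfsg.Agent.Helper6

open scoped ComplexConjugate

universe u

variable {G : Type u} [Group G]

/-- the character-theoretic data attached to a TI subgroup `K` whose normalizer is a Frobenius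
group of odd order with kernel `K` -/
structure FPData [Fintype G] (K : Subgroup G) where
  e : ℕ
  q : ℕ
  he : 2 ≤ e
  hq : 2 ≤ q
  hcardK : Nat.card K = q * e + 1
  hcardN : Nat.card ↥(Subgroup.normalizer (K : Set G)) = e * (q * e + 1)
  E : Finset (G → ℂ)
  t : (G → ℂ) → ℕ
  ζ : G → ℂ
  ε : ℤ
  a : ℤ
  β : G → ℂ
  hε : ε = 1 ∨ ε = -1
  hE : ∀ η ∈ E, Cfsg.IsIrrCharacter G η
  h1E : (fun _ => (1 : ℂ)) ∉ E
  hζ : ζ ∈ E
  hζ' : Cfsg.conjFun ζ ∈ E
  hζne : Cfsg.conjFun ζ ≠ ζ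
  hsumt : ∑ η ∈ E, (t η) ^ 2 = q
  hconst : ∀ Ξ, Cfsg.IsIrrCharacter G Ξ → Ξ ∉ E → ∃ c : ℤ, ∀ x ∈ K, x ≠ 1 → Ξ x = c
  hprop : ∀ η ∈ E, ∀ x, ¬ InSupp K x → η x = (t η : ℂ) * ζ x
  hreal : ∀ η ∈ E, ∀ x, ¬ InSupp K x → conj (η x) = η x
  hβgen : Cfsg.IsGeneralizedCharacter G β
  hβsupp : ∀ x, β x ≠ 0 → InSupp K x
  hββ : Cfsg.classInner β β = (e : ℂ) + 1
  hβc : ∀ Ξ, Cfsg.IsClassFunction G Ξ → ∀ c : ℤ, (∀ x ∈ K, x ≠ 1 → Ξ x = c) →
    Cfsg.classInner β Ξ = c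
  hβζ : Cfsg.classInner β ζ = (a : ℂ) - ε
  hβζ' : Cfsg.classInner β (Cfsg.conjFun ζ) = a
  hβconj : ∀ Ξ, Cfsg.IsIrrCharacter G Ξ → Ξ ≠ ζ → Ξ ≠ Cfsg.conjFun ζ →
    Cfsg.classInner β (Cfsg.conjFun Ξ) = Cfsg.classInner β Ξ
  hloc : ∑ x : G, (open Classical in if x ∈ K ∧ x ≠ 1 then ζ x * conj (ζ x) else 0) =
    ((e * (q * e + 1) : ℕ) : ℂ) - (e : ℂ) ^ 2 - 2 * ε * a * e + (a : ℂ) ^ 2 * ((q * e : ℕ) : ℂ)

section

variable (K : Subgroup G)

local notation "NK" => Subgroup.normalizer (K : Set G)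

local notation "KN" => K.subgroupOf (Subgroup.normalizer (K : Set G))

set_option maxHeartbeats 1600000 in
/-- the data exist -/
theorem exists_fpdata [Fintype G] (hK1 : K ≠ ⊥)
    (hTI : Cfsg.IsTISubset (K : Set G)) (hlt : K < NK)
    (hC : ∀ k ∈ K, k ≠ 1 → Subgroup.centralizer ({k} : Set G) ≤ K)
    (hodd : Odd (Nat.card ↥NK)) : Nonempty (FPData K) := by
  classical
  haveI : Fintype ↥NK := Fintype.ofFinite _
  haveI := sib_normal K
  obtain ⟨D⟩ := exists_frobCoh K hK1 hTI hlt hC hodd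
  obtain ⟨m, hm⟩ := D.exists_int_a
  have hS : ∀ χ, χ ∈ indAbove KN ⊥ ↔ χ ∈ Cfsg.inducedIrrAbove KN ⊥ := by
    intro χ
    rw [← coe_indAbove, Finset.mem_coe]
  obtain ⟨-, -, -, hc0, hcne0, -⟩ := D.mem_S_props _ D.chi0_mem
  have hepos : 0 < (KN).index := Nat.pos_of_ne_zero Subgroup.index_ne_zero_of_finite
  have he1 : (KN).index ≠ 1 := fun h =>
    (ne_of_lt (sib_KN_lt_top K hlt)) (Subgroup.index_eq_one.mp h)
  have hqe := D.sum_tw
  have hKpos : 0 < Nat.card K := Nat.card_pos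
  have hcardK : Nat.card K =
      (∑ χ ∈ indAbove KN ⊥, (Cfsg.charDegree χ / (KN).index) ^ 2) * (KN).index + 1 := by
    omega
  have hcardN : Nat.card ↥NK = (KN).index *
      ((∑ χ ∈ indAbove KN ⊥, (Cfsg.charDegree χ / (KN).index) ^ 2) * (KN).index + 1) := by
    rw [← hcardK, ← sib_card_KN K, Subgroup.index_mul_card]
  -- the weight of `χ₀` and its conjugate
  have hdeg0 : Cfsg.charDegree D.chi0 = (KN).index := by
    have h1 := charDegree_cast_of_isCharacter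
      (IsIrrCharacter.isCharacter (D.mem_S_props _ D.chi0_mem).1)
    rw [D.chi0_one] at h1
    exact_mod_cast h1
  have hdeg0' : Cfsg.charDegree (Cfsg.conjFun D.chi0) = (KN).index := by
    rw [charDegree_conjFun_eq, hdeg0]
  have hq2 : 2 ≤ ∑ χ ∈ indAbove KN ⊥, (Cfsg.charDegree χ / (KN).index) ^ 2 := by
    have hsub : ({D.chi0, Cfsg.conjFun D.chi0} : Finset (↥NK → ℂ)) ⊆ indAbove KN ⊥ := by
      intro χ hχ
      rw [Finset.mem_insert, Finset.mem_singleton] at hχ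
      rcases hχ with rfl | rfl
      · exact (hS _).mpr D.chi0_mem
      · exact (hS _).mpr hc0
    have h1 := Finset.sum_le_sum_of_subset (f := fun χ : ↥NK → ℂ =>
      (Cfsg.charDegree χ / (KN).index) ^ 2) hsub
    rw [Finset.sum_pair (Ne.symm hcne0)] at h1
    simp only [hdeg0, hdeg0', Nat.div_self hepos] at h1
    omega
  -- the weights on the exceptional characters
  set ζ := D.zeta D.chi0 with hζdef
  have hdpos := D.zeta_degree_pos _ D.chi0_mem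
  have htz : ∀ χ ∈ Cfsg.inducedIrrAbove KN ⊥,
      Cfsg.charDegree (D.zeta χ) / Cfsg.charDegree ζ = Cfsg.charDegree χ / (KN).index := by
    intro χ hχ
    rw [D.zeta_degree χ hχ, Nat.mul_div_cancel _ hdpos]
  have hmemE : ∀ η, η ∈ (indAbove KN ⊥).image D.zeta ↔
      ∃ χ ∈ Cfsg.inducedIrrAbove KN ⊥, D.zeta χ = η := by
    intro η
    rw [Finset.mem_image]
    constructor
    · rintro ⟨χ, hχ, rfl⟩
      exact ⟨χ, (hS χ).mp hχ, rfl⟩
    · rintro ⟨χ, hχ, rfl⟩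
      exact ⟨χ, (hS χ).mpr hχ, rfl⟩
  have hεZ : ∃ εZ : ℤ, (εZ = 1 ∨ εZ = -1) ∧ (εZ : ℂ) = D.ε := by
    rcases D.hε with h | h
    · exact ⟨1, Or.inl rfl, by rw [h]; simp⟩
    · exact ⟨-1, Or.inr rfl, by rw [h]; simp⟩
  obtain ⟨εZ, hεZ1, hεZ2⟩ := hεZ
  have hconjm : D.ε * conj D.c0 = m := by
    have h1 := congrArg conj hm
    rw [map_mul, D.eps_conj, map_intCast] at h1
    exact h1
  refine ⟨{
    e := (KN).index
    q := ∑ χ ∈ indAbove KN ⊥, (Cfsg.charDegree χ / (KN).index) ^ 2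
    he := by omega
    hq := hq2
    hcardK := hcardK
    hcardN := hcardN
    E := (indAbove KN ⊥).image D.zeta
    t := fun η => Cfsg.charDegree η / Cfsg.charDegree ζ
    ζ := ζ
    ε := εZ
    a := m
    β := D.beta
    hε := hεZ1
    hE := ?_
    h1E := ?_
    hζ := ?_
    hζ' := ?_
    hζne := ?_
    hsumt := ?_
    hconst := ?_
    hprop := ?_
    hreal := ?_
    hβgen := D.beta_genchar
    hβsupp := D.beta_supp
    hββ := D.beta_self
    hβc := ?_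
    hβζ := ?_
    hβζ' := ?_
    hβconj := ?_
    hloc := ?_ }⟩
  · intro η hη
    obtain ⟨χ, hχ, rfl⟩ := (hmemE η).mp hη
    exact D.zeta_irr χ hχ
  · intro h
    obtain ⟨χ, hχ, h1⟩ := (hmemE _).mp h
    exact D.zeta_ne_one χ hχ h1
  · exact (hmemE _).mpr ⟨D.chi0, D.chi0_mem, rfl⟩
  · exact (hmemE _).mpr ⟨Cfsg.conjFun D.chi0, hc0, D.zeta_conj _ D.chi0_mem⟩
  · intro h
    rw [hζdef, ← D.zeta_conj _ D.chi0_mem] at h
    exact hcne0 (D.zeta_inj _ _ hc0 D.chi0_mem h)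
  · rw [Finset.sum_image]
    · apply Finset.sum_congr rfl
      intro χ hχ
      rw [htz χ ((hS χ).mp hχ)]
    · intro χ hχ ψ hψ h
      exact D.zeta_inj χ ψ ((hS χ).mp (Finset.mem_coe.mp hχ)) ((hS ψ).mp (Finset.mem_coe.mp hψ)) h
  · intro Ξ hΞ hnE
    apply D.const_of_not_zeta Ξ hΞ
    intro χ hχ h
    exact hnE ((hmemE Ξ).mpr ⟨χ, hχ, h.symm⟩)
  · intro η hη x hx
    obtain ⟨χ, hχ, rfl⟩ := (hmemE η).mp hη
    rw [htz χ hχ]
    exact D.zeta_prop χ hχ x hx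
  · intro η hη x hx
    obtain ⟨χ, hχ, rfl⟩ := (hmemE η).mp hη
    exact D.zeta_real χ hχ x hx
  · intro Ξ hΞ c hc
    rw [D.beta_inner_const Ξ hΞ (c : ℂ) hc, map_intCast]
  · rw [hζdef, D.beta_inner_zeta, hconjm, hεZ2]
  · rw [hζdef, ← D.zeta_conj _ D.chi0_mem, D.beta_inner_zeta', hconjm]
  · intro Ξ hΞ h1 h2
    apply D.beta_inner_conj Ξ hΞ h1
    rw [D.zeta_conj _ D.chi0_mem]
    exact h2
  · have h1 := D.locnorm_zeta m hm
    rw [hcardN, hcardK] at h1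
    rw [hεZ2]
    convert h1 using 2
    push_cast
    ring

end

end Cfsg.Agent.Helper6
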