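import Mathlib
import Cfsg.Prelude.Def_Characters
import Cfsg.Prelude.Def_OddOrderChar
import Cfsg.Prelude.Def_OddOrderLocal
import Cfsg.Agent.Helper6.FrobPartI

/-!
# Groups partitioned by TI Frobenius kernels: Bessel's inequality and the parity lemma
-/

set_option autoImplicit false
set_option linter.style.haveILetI false

namespace Cfsg.Agent.Helper6

open scoped ComplexConjugate

universe u

variable {G : Type u} [Group G]

/-- Bessel's inequality for a class function against a finite set of irreducible characters -/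
theorem bessel_irr [Fintype G] (β : G → ℂ) (T : Finset (G → ℂ))
    (hT : ∀ η ∈ T, Cfsg.IsIrrCharacter G η) (c : (G → ℂ) → ℤ)
    (hc : ∀ η ∈ T, Cfsg.classInner β η = c η) (n : ℤ) (hn : Cfsg.classInner β β = n) :
    ∑ η ∈ T, c η ^ 2 ≤ n := by
  classical
  have hTorth : ∀ α ∈ T, ∀ γ ∈ T, Cfsg.classInner α γ = if α = γ then 1 else 0 := by
    intro α hα γ hγ
    by_cases h : α = γ
    · rw [if_pos h, h, classInner_irr_self (hT γ hγ)]
    · rw [if_neg h, classInner_irr_ne (hT α hα) (hT γ hγ) h]
  have h1 := classInner_sub_proj_self T hTorth β c hc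
  have h2 := classInner_self_re_nonneg (β - ∑ α ∈ T, (c α : ℂ) • α)
  rw [h1, hn] at h2
  have h3 : ((n : ℂ) - ((∑ α ∈ T, c α ^ 2 : ℤ) : ℂ)) = ((n - ∑ α ∈ T, c α ^ 2 : ℤ) : ℂ) := by
    push_cast
    ring
  rw [h3, Complex.intCast_re] at h2
  have h4 : (0 : ℤ) ≤ n - ∑ α ∈ T, c α ^ 2 := by exact_mod_cast h2
  omega

set_option maxHeartbeats 800000 in
/-- the parity lemma: two orthogonal generalized characters of a group of odd order, both
containing the principal character once, and both with the same multiplicity on every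
irreducible character outside `P` and on its conjugate -/
theorem parity_lemma [Fintype G] (hodd : Odd (Nat.card G)) (β γ : G → ℂ)
    (hβ : Cfsg.IsGeneralizedCharacter G β) (hγ : Cfsg.IsGeneralizedCharacter G γ)
    (horth : Cfsg.classInner β γ = 0)
    (hβ1 : Cfsg.classInner β (fun _ => (1 : ℂ)) = 1)
    (hγ1 : Cfsg.classInner γ (fun _ => (1 : ℂ)) = 1)
    (P : Finset (G → ℂ)) (hP : ∀ η ∈ P, Cfsg.IsIrrCharacter G η)
    (hPc : ∀ η ∈ P, Cfsg.conjFun η ∈ P) (h1P : (fun _ => (1 : ℂ)) ∉ P)
    (hβc : ∀ Ξ, Cfsg.IsIrrCharacter G Ξ → Ξ ∉ P →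
      Cfsg.classInner β (Cfsg.conjFun Ξ) = Cfsg.classInner β Ξ)
    (hγc : ∀ Ξ, Cfsg.IsIrrCharacter G Ξ → Ξ ∉ P →
      Cfsg.classInner γ (Cfsg.conjFun Ξ) = Cfsg.classInner γ Ξ)
    (b c : (G → ℂ) → ℤ) (hb : ∀ η ∈ P, Cfsg.classInner β η = b η)
    (hc : ∀ η ∈ P, Cfsg.classInner γ η = c η) :
    Odd (∑ η ∈ P, b η * c η) := by
  classical
  haveI : Finite (Cfsg.IrrCharacter G) := irr_finite
  haveI : Fintype (Cfsg.IrrCharacter G) := Fintype.ofFinite _
  -- integer multiplicities
  have hbI : ∀ χ : Cfsg.IrrCharacter G, ∃ n : ℤ, Cfsg.classInner β (χ : G → ℂ) = n :=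
    fun χ => classInner_genchar_int hβ (genchar_of_irr χ.2)
  have hcI : ∀ χ : Cfsg.IrrCharacter G, ∃ n : ℤ, Cfsg.classInner γ (χ : G → ℂ) = n :=
    fun χ => classInner_genchar_int hγ (genchar_of_irr χ.2)
  choose bI hbI using hbI
  choose cI hcI using hcI
  have hexp := classInner_self_expansion β (IsGeneralizedCharacter.isClassFunction hβ) γ
  rw [horth] at hexp
  have hsumZ : ∑ χ : Cfsg.IrrCharacter G, bI χ * cI χ = 0 := by
    have h1 : ((∑ χ : Cfsg.IrrCharacter G, bI χ * cI χ : ℤ) : ℂ) = 0 := by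
      rw [hexp]
      push_cast
      apply Finset.sum_congr rfl
      intro χ _
      rw [hbI χ, classInner_conj_symm γ (χ : G → ℂ), hcI χ, map_intCast]
    exact_mod_cast h1
  -- the conjugation involution
  let σ : Cfsg.IrrCharacter G → Cfsg.IrrCharacter G :=
    fun χ => ⟨Cfsg.conjFun (χ : G → ℂ), conjFun_isIrrCharacter χ.2⟩
  have hσσ : ∀ χ, σ (σ χ) = χ := by
    intro χ
    apply Subtype.ext
    exact conjFun_conjFun _
  have hσfix : ∀ χ : Cfsg.IrrCharacter G, σ χ = χ → (χ : G → ℂ) = fun _ => (1 : ℂ) := by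
    intro χ h
    apply eq_one_of_real_of_odd hodd χ
    intro g
    have h2 := congrFun (congrArg Subtype.val h) g
    exact Complex.conj_eq_iff_im.mp h2
  set one : Cfsg.IrrCharacter G := ⟨fun _ => (1 : ℂ), isIrrCharacter_one⟩ with hone
  -- the three parts
  set R : Finset (Cfsg.IrrCharacter G) :=
    Finset.univ.filter (fun χ => χ ≠ one ∧ (χ : G → ℂ) ∉ P) with hR
  set P' : Finset (Cfsg.IrrCharacter G) :=
    Finset.univ.filter (fun χ => (χ : G → ℂ) ∈ P) with hP'
  have hsplit : ∑ χ : Cfsg.IrrCharacter G, bI χ * cI χ =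
      bI one * cI one + ∑ χ ∈ P', bI χ * cI χ + ∑ χ ∈ R, bI χ * cI χ := by
    rw [← Finset.sum_filter_add_sum_filter_not Finset.univ
      (fun χ : Cfsg.IrrCharacter G => (χ : G → ℂ) ∈ P)]
    rw [add_comm (bI one * cI one), add_assoc]
    congr 1
    have h1 : Finset.univ.filter (fun χ : Cfsg.IrrCharacter G => ¬ (χ : G → ℂ) ∈ P) =
        insert one R := by
      ext χ
      simp only [Finset.mem_filter, Finset.mem_univ, true_and, Finset.mem_insert, hR]
      constructor
      · intro h
        by_cases h2 : χ = one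
        · exact Or.inl h2
        · exact Or.inr ⟨h2, h⟩
      · rintro (h | h)
        · rw [h]
          exact h1P
        · exact h.2
    rw [h1, Finset.sum_insert]
    simp [hR]
  -- the sum over `R` is even
  have hRev : ((∑ χ ∈ R, bI χ * cI χ : ℤ) : ZMod 2) = 0 := by
    push_cast
    apply Finset.sum_involution (fun χ _ => σ χ)
    · intro χ hχ
      rw [hR, Finset.mem_filter] at hχ
      have h1 : bI (σ χ) = bI χ := by
        have := hβc (χ : G → ℂ) χ.2 hχ.2.2
        have h2 : Cfsg.classInner β ((σ χ : Cfsg.IrrCharacter G) : G → ℂ) = bI χ := by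
          rw [← hbI χ]
          exact this
        rw [hbI (σ χ)] at h2
        exact_mod_cast h2
      have h2 : cI (σ χ) = cI χ := by
        have := hγc (χ : G → ℂ) χ.2 hχ.2.2
        have h2 : Cfsg.classInner γ ((σ χ : Cfsg.IrrCharacter G) : G → ℂ) = cI χ := by
          rw [← hcI χ]
          exact this
        rw [hcI (σ χ)] at h2
        exact_mod_cast h2
      rw [h1, h2]
      exact CharTwo.add_self_eq_zero _
    · intro χ hχ _ h
      rw [hR, Finset.mem_filter] at hχ
      apply hχ.2.1
      apply Subtype.ext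
      exact hσfix χ h
    · intro χ hχ
      rw [hR, Finset.mem_filter] at hχ ⊢
      refine ⟨Finset.mem_univ _, ?_, ?_⟩
      · intro h
        apply hχ.2.1
        rw [← hσσ χ, h]
        apply Subtype.ext
        funext x
        show conj (1 : ℂ) = 1
        simp
      · intro h
        apply hχ.2.2
        have := hPc _ h
        have h3 : Cfsg.conjFun ((σ χ : Cfsg.IrrCharacter G) : G → ℂ) = (χ : G → ℂ) :=
          conjFun_conjFun _
        rw [h3] at this
        exact this
    · intro χ _
      exact hσσ χ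
  -- the sum over `P'` is the sum over `P`
  have hPsum : ∑ χ ∈ P', bI χ * cI χ = ∑ η ∈ P, b η * c η := by
    have himg : P = P'.image (fun χ : Cfsg.IrrCharacter G => (χ : G → ℂ)) := by
      ext η
      rw [Finset.mem_image]
      constructor
      · intro h
        exact ⟨⟨η, hP η h⟩, by rw [hP', Finset.mem_filter]; exact ⟨Finset.mem_univ _, h⟩, rfl⟩
      · rintro ⟨χ, hχ, rfl⟩
        rw [hP', Finset.mem_filter] at hχ
        exact hχ.2
    rw [himg, Finset.sum_image]
    · apply Finset.sum_congr rfl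
      intro χ hχ
      rw [hP', Finset.mem_filter] at hχ
      have h1 : bI χ = b (χ : G → ℂ) := by
        have := hb _ hχ.2
        rw [hbI χ] at this
        exact_mod_cast this
      have h2 : cI χ = c (χ : G → ℂ) := by
        have := hc _ hχ.2
        rw [hcI χ] at this
        exact_mod_cast this
      rw [h1, h2]
    · intro χ _ ψ _ h
      exact Subtype.ext h
  have hb1 : bI one = 1 := by
    have := hbI one
    rw [hone] at this
    simp only at this
    rw [hβ1] at this
    exact_mod_cast this.symm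
  have hc1 : cI one = 1 := by
    have := hcI one
    rw [hone] at this
    simp only at this
    rw [hγ1] at this
    exact_mod_cast this.symm
  rw [hsplit, hPsum, hb1, hc1] at hsumZ
  have h5 : ((∑ η ∈ P, b η * c η : ℤ) : ZMod 2) = 1 := by
    have h6 := congrArg (fun z : ℤ => (z : ZMod 2)) hsumZ
    simp only [Int.cast_add, Int.cast_mul, Int.cast_one, Int.cast_zero, mul_one] at h6
    rw [hRev, add_zero] at h6
    have h7 : ((∑ η ∈ P, b η * c η : ℤ) : ZMod 2) = -1 := by
      linear_combination h6
    rw [h7]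
    decide
  exact ZMod.intCast_eq_one_iff_odd.mp h5

end Cfsg.Agent.Helper6
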