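import Mathlib
import Cfsg.Prelude.Def_Characters
import Cfsg.Prelude.Def_OddOrderChar
import Cfsg.Prelude.Def_OddOrderLocal
import Cfsg.Agent.Helper6.FrobPartJ

/-!
# Groups partitioned by TI Frobenius kernels: the family of kernels
-/

set_option autoImplicit false
set_option linter.style.haveILetI false

namespace Cfsg.Agent.Helper6

open scoped ComplexConjugate

universe u v

variable {G : Type u} [Group G]

/-- a group of odd order partitioned by the conjugates of TI Frobenius kernels of pairwise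
coprime orders, with the character-theoretic data of each kernel -/
structure FrobFamily [Fintype G] {ι : Type v} (H : ι → Subgroup G) where
  hodd : Odd (Nat.card G)
  hH1 : ∀ i, H i ≠ ⊥
  hTI : ∀ i, Cfsg.IsTISubset (H i : Set G)
  hC : ∀ i, ∀ k ∈ H i, k ≠ 1 → Subgroup.centralizer ({k} : Set G) ≤ H i
  hcop : ∀ i j, i ≠ j → Nat.Coprime (Nat.card (H i)) (Nat.card (H j))
  hcover : ∀ g : G, g ≠ 1 → ∃ i, ∃ x : G, x * g * x⁻¹ ∈ H i
  dat : ∀ i, FPData (H i)

namespace FrobFamily

theorem disjoint_supp [Fintype G] {ι : Type v} {H : ι → Subgroup G} (F : FrobFamily H)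
    (i j : ι) (hij : i ≠ j) (x : G) (hi : InSupp (H i) x) (hj : InSupp (H j) x) : False := by
  obtain ⟨hx1, g, hg⟩ := hi
  obtain ⟨-, g', hg'⟩ := hj
  apply hx1
  have h1 : orderOf x ∣ Nat.card (H i) := by
    have h : orderOf (g * x * g⁻¹) = orderOf x := by
      rw [← MulAut.conj_apply, MulEquiv.orderOf_eq]
    rw [← h]
    exact Subgroup.orderOf_dvd_natCard _ hg
  have h2 : orderOf x ∣ Nat.card (H j) := by
    have h : orderOf (g' * x * g'⁻¹) = orderOf x := by
      rw [← MulAut.conj_apply, MulEquiv.orderOf_eq]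
    rw [← h]
    exact Subgroup.orderOf_dvd_natCard _ hg'
  have h3 := Nat.dvd_gcd h1 h2
  rw [(F.hcop i j hij)] at h3
  exact orderOf_eq_one_iff.mp (Nat.dvd_one.mp h3)

theorem cover [Fintype G] {ι : Type v} {H : ι → Subgroup G} (F : FrobFamily H)
    (x : G) (hx : x ≠ 1) : ∃ i, InSupp (H i) x := by
  obtain ⟨i, g, hg⟩ := F.hcover x hx
  exact ⟨i, hx, g, hg⟩

theorem not_supp_of_mem [Fintype G] {ι : Type v} {H : ι → Subgroup G} (F : FrobFamily H)
    (i k : ι) (hik : i ≠ k) (x : G) (hx : x ∈ H k) (hx1 : x ≠ 1) : ¬ InSupp (H i) x :=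
  fun h => F.disjoint_supp i k hik x h (inSupp_of_mem (H k) x hx hx1)

/-- the sets of exceptional characters of different kernels are disjoint -/
theorem E_disjoint [Fintype G] {ι : Type v} {H : ι → Subgroup G} (F : FrobFamily H)
    (i k : ι) (hik : i ≠ k) (η : G → ℂ) (hi : η ∈ (F.dat i).E) : η ∉ (F.dat k).E := by
  intro hk
  have hreal : ∀ x : G, conj (η x) = η x := by
    intro x
    by_cases h : InSupp (H i) x
    · apply (F.dat k).hreal η hk x
      exact fun h' => F.disjoint_supp i k hik x h h'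
    · exact (F.dat i).hreal η hi x h
  have h1 := eq_one_of_real_of_odd F.hodd ⟨η, (F.dat i).hE η hi⟩
    (fun g => Complex.conj_eq_iff_im.mp (hreal g))
  apply (F.dat i).h1E
  have h2 : η = fun _ => (1 : ℂ) := h1
  rw [← h2]
  exact hi

/-- the row identity: the norm of a class function, computed on the partition -/
theorem row_identity [Fintype G] {ι : Type v} [Fintype ι] {H : ι → Subgroup G}
    (F : FrobFamily H) (Ξ : G → ℂ) (hΞ : Cfsg.IsClassFunction G Ξ) :
    Cfsg.classInner Ξ Ξ = (Nat.card G : ℂ)⁻¹ * (Ξ 1 * conj (Ξ 1)) +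
      ∑ i, (Nat.card ↥(Subgroup.normalizer (H i : Set G)) : ℂ)⁻¹ *
        ∑ x : G, (open Classical in if x ∈ H i ∧ x ≠ 1 then Ξ x * conj (Ξ x) else 0) := by
  classical
  have hF : Cfsg.IsClassFunction G (fun x => Ξ x * conj (Ξ x)) := by
    intro g h
    simp only
    rw [hΞ g h]
  have hpt : ∀ x : G, Ξ x * conj (Ξ x) = (if x = 1 then Ξ 1 * conj (Ξ 1) else 0) +
      ∑ i, (if InSupp (H i) x then Ξ x * conj (Ξ x) else 0) := by
    intro x
    by_cases hx : x = 1
    · subst hx
      rw [if_pos rfl, Finset.sum_eq_zero, add_zero]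
      intro i _
      rw [if_neg]
      exact fun h => h.1 rfl
    · rw [if_neg hx, zero_add]
      obtain ⟨i₀, hi₀⟩ := F.cover x hx
      rw [Finset.sum_eq_single i₀, if_pos hi₀]
      · intro j _ hj
        rw [if_neg]
        exact fun h => F.disjoint_supp j i₀ hj x h hi₀
      · intro h
        exact absurd (Finset.mem_univ _) h
  rw [classInner_def, Finset.sum_congr rfl (fun x _ => hpt x), Finset.sum_add_distrib,
    Finset.sum_ite_eq', if_pos (Finset.mem_univ _), mul_add, Finset.sum_comm, Finset.mul_sum]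
  congr 1
  apply Finset.sum_congr rfl
  intro i _
  haveI : Fintype ↥(Subgroup.normalizer (H i : Set G)) := Fintype.ofFinite _
  exact sum_inSupp_eq (H i) (F.hTI i) (F.hC i) _ hF

end FrobFamily

end Cfsg.Agent.Helper6
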