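import Mathlib
import Cfsg.Prelude.Def_Characters
import Cfsg.Prelude.Def_OddOrderChar
import Cfsg.Prelude.Def_OddOrderLocal
import Cfsg.Agent.Helper6.FrobPartK

/-!
# Groups partitioned by TI Frobenius kernels: the multiplicities and the parity argument
-/

set_option autoImplicit false
set_option linter.style.haveILetI false

namespace Cfsg.Agent.Helper6

open scoped ComplexConjugate

universe u v

variable {G : Type u} [Group G]

namespace FrobFamily

theorem zeta_irr [Fintype G] {ι : Type v} {H : ι → Subgroup G} (F : FrobFamily H) (i : ι) :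
    Cfsg.IsIrrCharacter G (F.dat i).ζ := (F.dat i).hE _ (F.dat i).hζ

theorem zeta'_irr [Fintype G] {ι : Type v} {H : ι → Subgroup G} (F : FrobFamily H) (i : ι) :
    Cfsg.IsIrrCharacter G (Cfsg.conjFun (F.dat i).ζ) := (F.dat i).hE _ (F.dat i).hζ'

theorem cc_exists [Fintype G] {ι : Type v} {H : ι → Subgroup G} (F : FrobFamily H)
    (i k : ι) (hik : i ≠ k) : ∃ c : ℤ, ∀ x ∈ H k, x ≠ 1 → (F.dat i).ζ x = c :=
  (F.dat k).hconst _ (F.zeta_irr i) (F.E_disjoint i k hik _ (F.dat i).hζ)

open Classical in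
/-- the constant value of `ζ_i` on `H k ∖ {1}` -/
noncomputable def cc [Fintype G] {ι : Type v} {H : ι → Subgroup G} (F : FrobFamily H)
    (i k : ι) : ℤ := if h : i ≠ k then Classical.choose (F.cc_exists i k h) else 0

theorem cc_spec [Fintype G] {ι : Type v} {H : ι → Subgroup G} (F : FrobFamily H)
    (i k : ι) (hik : i ≠ k) (x : G) (hx : x ∈ H k) (hx1 : x ≠ 1) :
    (F.dat i).ζ x = F.cc i k := by
  unfold cc
  rw [dif_pos hik]
  exact Classical.choose_spec (F.cc_exists i k hik) x hx hx1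

theorem irr_classFunction [Fintype G] {Ξ : G → ℂ} (h : Cfsg.IsIrrCharacter G Ξ) :
    Cfsg.IsClassFunction G Ξ := IsCharacter.isClassFunction (IsIrrCharacter.isCharacter h)

theorem beta_zeta [Fintype G] {ι : Type v} {H : ι → Subgroup G} (F : FrobFamily H)
    (i k : ι) (hik : i ≠ k) : Cfsg.classInner (F.dat k).β (F.dat i).ζ = F.cc i k :=
  (F.dat k).hβc _ (irr_classFunction (F.zeta_irr i)) _ (F.cc_spec i k hik)

theorem beta_zeta' [Fintype G] {ι : Type v} {H : ι → Subgroup G} (F : FrobFamily H)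
    (i k : ι) (hik : i ≠ k) :
    Cfsg.classInner (F.dat k).β (Cfsg.conjFun (F.dat i).ζ) = F.cc i k := by
  apply (F.dat k).hβc _ (irr_classFunction (F.zeta'_irr i))
  intro x hx hx1
  show conj ((F.dat i).ζ x) = _
  rw [F.cc_spec i k hik x hx hx1, map_intCast]

theorem beta_E [Fintype G] {ι : Type v} {H : ι → Subgroup G} (F : FrobFamily H)
    (i k : ι) (hik : i ≠ k) (η : G → ℂ) (hη : η ∈ (F.dat i).E) :
    Cfsg.classInner (F.dat k).β η = (((F.dat i).t η : ℤ) * F.cc i k : ℤ) := by
  apply (F.dat k).hβc _ (irr_classFunction ((F.dat i).hE η hη))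
  intro x hx hx1
  rw [(F.dat i).hprop η hη x (F.not_supp_of_mem i k hik x hx hx1), F.cc_spec i k hik x hx hx1]
  push_cast
  rfl

theorem beta_one [Fintype G] {ι : Type v} {H : ι → Subgroup G} (F : FrobFamily H) (i : ι) :
    Cfsg.classInner (F.dat i).β (fun _ => (1 : ℂ)) = 1 := by
  have := (F.dat i).hβc (fun _ => (1 : ℂ)) (fun _ _ => rfl) 1 (fun _ _ _ => by simp)
  rw [this]
  simp

theorem beta_orth [Fintype G] {ι : Type v} {H : ι → Subgroup G} (F : FrobFamily H)
    (i k : ι) (hik : i ≠ k) : Cfsg.classInner (F.dat i).β (F.dat k).β = 0 := by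
  apply classInner_eq_zero_of_disjoint
  intro x
  by_contra h
  push Not at h
  exact F.disjoint_supp i k hik x ((F.dat i).hβsupp x h.1) ((F.dat k).hβsupp x h.2)

open Classical in
/-- the integer multiplicity of an irreducible character in `β_i` -/
noncomputable def bZ [Fintype G] {ι : Type v} {H : ι → Subgroup G} (F : FrobFamily H)
    (i : ι) (η : G → ℂ) : ℤ :=
  if h : Cfsg.IsIrrCharacter G η then
    Classical.choose (classInner_genchar_int (F.dat i).hβgen (genchar_of_irr h)) else 0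

theorem bZ_spec [Fintype G] {ι : Type v} {H : ι → Subgroup G} (F : FrobFamily H)
    (i : ι) (η : G → ℂ) (h : Cfsg.IsIrrCharacter G η) :
    Cfsg.classInner (F.dat i).β η = F.bZ i η := by
  unfold bZ
  rw [dif_pos h]
  exact Classical.choose_spec (classInner_genchar_int (F.dat i).hβgen (genchar_of_irr h))

theorem bZ_eq [Fintype G] {ι : Type v} {H : ι → Subgroup G} (F : FrobFamily H)
    (i : ι) (η : G → ℂ) (h : Cfsg.IsIrrCharacter G η) (n : ℤ)
    (hn : Cfsg.classInner (F.dat i).β η = n) : F.bZ i η = n := by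
  have := F.bZ_spec i η h
  rw [hn] at this
  exact_mod_cast this.symm

/-- the parity argument: for two different kernels the constants `c_k(ζ_i)` and `c_i(ζ_k)` do
not both vanish -/
theorem parity [Fintype G] {ι : Type v} {H : ι → Subgroup G} (F : FrobFamily H)
    (i k : ι) (hik : i ≠ k) : ¬ (F.cc i k = 0 ∧ F.cc k i = 0) := by
  classical
  rintro ⟨h1, h2⟩
  set P : Finset (G → ℂ) := {(F.dat i).ζ, Cfsg.conjFun (F.dat i).ζ, (F.dat k).ζ,
    Cfsg.conjFun (F.dat k).ζ} with hP
  have hmem : ∀ η, η ∈ P ↔ η = (F.dat i).ζ ∨ η = Cfsg.conjFun (F.dat i).ζ ∨ η = (F.dat k).ζ ∨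
      η = Cfsg.conjFun (F.dat k).ζ := by
    intro η
    rw [hP]
    simp only [Finset.mem_insert, Finset.mem_singleton]
  have hPirr : ∀ η ∈ P, Cfsg.IsIrrCharacter G η := by
    intro η hη
    rcases (hmem η).mp hη with rfl | rfl | rfl | rfl
    · exact F.zeta_irr i
    · exact F.zeta'_irr i
    · exact F.zeta_irr k
    · exact F.zeta'_irr k
  have hodd := parity_lemma F.hodd (F.dat i).β (F.dat k).β (F.dat i).hβgen (F.dat k).hβgen
    (F.beta_orth i k hik) (F.beta_one i) (F.beta_one k) P hPirr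
    (by
      intro η hη
      rcases (hmem η).mp hη with rfl | rfl | rfl | rfl
      · exact (hmem _).mpr (Or.inr (Or.inl rfl))
      · rw [conjFun_conjFun]
        exact (hmem _).mpr (Or.inl rfl)
      · exact (hmem _).mpr (Or.inr (Or.inr (Or.inr rfl)))
      · rw [conjFun_conjFun]
        exact (hmem _).mpr (Or.inr (Or.inr (Or.inl rfl))))
    (by
      intro h
      rcases (hmem _).mp h with h | h | h | h
      · exact (F.dat i).h1E (h ▸ (F.dat i).hζ)
      · exact (F.dat i).h1E (h ▸ (F.dat i).hζ')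
      · exact (F.dat k).h1E (h ▸ (F.dat k).hζ)
      · exact (F.dat k).h1E (h ▸ (F.dat k).hζ'))
    (by
      intro Ξ hΞ hnP
      apply (F.dat i).hβconj Ξ hΞ
      · intro h
        exact hnP ((hmem Ξ).mpr (Or.inl h))
      · intro h
        exact hnP ((hmem Ξ).mpr (Or.inr (Or.inl h))))
    (by
      intro Ξ hΞ hnP
      apply (F.dat k).hβconj Ξ hΞ
      · intro h
        exact hnP ((hmem Ξ).mpr (Or.inr (Or.inr (Or.inl h))))
      · intro h
        exact hnP ((hmem Ξ).mpr (Or.inr (Or.inr (Or.inr h)))))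
    (F.bZ i) (F.bZ k) (fun η hη => F.bZ_spec i η (hPirr η hη))
    (fun η hη => F.bZ_spec k η (hPirr η hη))
  have hzero : ∑ η ∈ P, F.bZ i η * F.bZ k η = 0 := by
    apply Finset.sum_eq_zero
    intro η hη
    rcases (hmem η).mp hη with rfl | rfl | rfl | rfl
    · rw [F.bZ_eq k _ (F.zeta_irr i) _ (F.beta_zeta i k hik), h1, mul_zero]
    · rw [F.bZ_eq k _ (F.zeta'_irr i) _ (F.beta_zeta' i k hik), h1, mul_zero]
    · rw [F.bZ_eq i _ (F.zeta_irr k) _ (F.beta_zeta k i (Ne.symm hik)), h2, zero_mul]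
    · rw [F.bZ_eq i _ (F.zeta'_irr k) _ (F.beta_zeta' k i (Ne.symm hik)), h2, zero_mul]
  rw [hzero] at hodd
  exact absurd hodd (by decide)

end FrobFamily

end Cfsg.Agent.Helper6
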