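import Mathlib
import Cfsg.Prelude.Def_Characters
import Cfsg.Prelude.Def_OddOrderChar
import Cfsg.Prelude.Def_OddOrderLocal
import Cfsg.Agent.Helper6.FrobPartL

/-!
# Groups partitioned by TI Frobenius kernels: the column bound
-/

set_option autoImplicit false
set_option linter.style.haveILetI false

namespace Cfsg.Agent.Helper6

open scoped ComplexConjugate

universe u v

variable {G : Type u} [Group G]

/-- the final arithmetic contradiction -/
theorem arith_frob_final {ι : Type*} (J : Finset ι) (e q : ℕ) (he : 2 ≤ e) (hq : 2 ≤ q)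
    (qq ee : ι → ℕ) (hqq : ∀ k ∈ J, 2 ≤ qq k) (hee : ∀ k ∈ J, e ≤ ee k)
    (hne : ∀ k ∈ J, qq k * ee k + 1 ≠ q * e + 1) (hsum : ∑ k ∈ J, qq k + 1 ≤ e) :
    ((q : ℝ) + e) / (q * e + 1) + ∑ k ∈ J, (qq k : ℝ) / (qq k * ee k + 1) < 1 := by
  have heR : (2 : ℝ) ≤ e := by exact_mod_cast he
  have hqR : (2 : ℝ) ≤ q := by exact_mod_cast hq
  have hsumR : (∑ k ∈ J, (qq k : ℝ)) + 1 ≤ e := by exact_mod_cast hsum
  -- bound with a common denominator `M`
  have hbound : ∀ M : ℝ, 0 < M → (∀ k ∈ J, M ≤ (qq k : ℝ) * ee k + 1) →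
      ∑ k ∈ J, (qq k : ℝ) / (qq k * ee k + 1) ≤ ((e : ℝ) - 1) / M := by
    intro M hM hk
    calc ∑ k ∈ J, (qq k : ℝ) / (qq k * ee k + 1) ≤ ∑ k ∈ J, (qq k : ℝ) / M := by
          apply Finset.sum_le_sum
          intro k hkJ
          apply div_le_div_of_nonneg_left (Nat.cast_nonneg _) hM (hk k hkJ)
      _ = (∑ k ∈ J, (qq k : ℝ)) / M := by rw [Finset.sum_div]
      _ ≤ ((e : ℝ) - 1) / M := by
          apply div_le_div_of_nonneg_right _ hM.le
          linarith
  have hk1 : ∀ k ∈ J, (2 : ℝ) * e + 1 ≤ (qq k : ℝ) * ee k + 1 := by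
    intro k hkJ
    have h1 : (2 : ℝ) ≤ qq k := by exact_mod_cast hqq k hkJ
    have h2 : (e : ℝ) ≤ ee k := by exact_mod_cast hee k hkJ
    nlinarith
  by_cases hq2 : q = 2
  · subst hq2
    have hk2 : ∀ k ∈ J, (2 : ℝ) * e + 2 ≤ (qq k : ℝ) * ee k + 1 := by
      intro k hkJ
      have h1 : 2 * e + 1 ≤ qq k * ee k + 1 := by
        have := hqq k hkJ
        have := hee k hkJ
        nlinarith
      have h2 := hne k hkJ
      have h3 : 2 * e + 2 ≤ qq k * ee k + 1 := by omega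
      exact_mod_cast h3
    have h1 := hbound (2 * e + 2) (by positivity) hk2
    have h2 : (((2 : ℕ) : ℝ) + e) / (((2 : ℕ) : ℝ) * e + 1) + ((e : ℝ) - 1) / (2 * e + 2) < 1 := by
      push_cast
      rw [div_add_div _ _ (by positivity) (by positivity), div_lt_one (by positivity)]
      nlinarith
    linarith
  · have hq3 : (3 : ℝ) ≤ q := by
      have : 3 ≤ q := by omega
      exact_mod_cast this
    have h1 := hbound (2 * e + 1) (by positivity) hk1
    have h2 : ((q : ℝ) + e) / (q * e + 1) + ((e : ℝ) - 1) / (2 * e + 1) < 1 := by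
      rw [div_add_div _ _ (by positivity) (by positivity), div_lt_one (by positivity)]
      nlinarith [mul_nonneg (sub_nonneg.mpr hq3) (sub_nonneg.mpr heR),
        mul_nonneg (mul_nonneg (sub_nonneg.mpr hq3) (sub_nonneg.mpr heR)) (sub_nonneg.mpr heR)]
    linarith

namespace FrobFamily

set_option maxHeartbeats 800000 in
/-- the column bound: Bessel's inequality for `β_i` -/
theorem col_bound [Fintype G] {ι : Type v} [Fintype ι] {H : ι → Subgroup G}
    (F : FrobFamily H) (i : ι) :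
    (∑ k ∈ (open Classical in Finset.univ.filter (fun k => k ≠ i ∧ F.cc k i ≠ 0)),
      (F.dat k).q) + 1 ≤ (F.dat i).e := by
  classical
  set J : Finset ι := Finset.univ.filter (fun k => k ≠ i ∧ F.cc k i ≠ 0) with hJ
  have hJmem : ∀ k ∈ J, k ≠ i ∧ F.cc k i ≠ 0 := by
    intro k hk
    rw [hJ, Finset.mem_filter] at hk
    exact hk.2
  set T₂ : Finset (G → ℂ) := J.biUnion (fun k => (F.dat k).E) with hT₂
  set T₁ : Finset (G → ℂ) :=
    insert (fun _ => (1 : ℂ)) (insert (F.dat i).ζ {Cfsg.conjFun (F.dat i).ζ}) with hT₁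
  have hζ1 : (F.dat i).ζ ≠ fun _ => (1 : ℂ) := fun h => (F.dat i).h1E (h ▸ (F.dat i).hζ)
  have hζ'1 : Cfsg.conjFun (F.dat i).ζ ≠ fun _ => (1 : ℂ) :=
    fun h => (F.dat i).h1E (h ▸ (F.dat i).hζ')
  have hT₁mem : ∀ η ∈ T₁, η = (fun _ => (1 : ℂ)) ∨ η = (F.dat i).ζ ∨
      η = Cfsg.conjFun (F.dat i).ζ := by
    intro η hη
    rw [hT₁] at hη
    simpa only [Finset.mem_insert, Finset.mem_singleton] using hη
  have hT₂mem : ∀ η ∈ T₂, ∃ k ∈ J, η ∈ (F.dat k).E := by
    intro η hη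
    rw [hT₂, Finset.mem_biUnion] at hη
    exact hη
  have hdisj : Disjoint T₁ T₂ := by
    rw [Finset.disjoint_left]
    intro η h1 h2
    obtain ⟨k, hk, hηk⟩ := hT₂mem η h2
    have hki := (hJmem k hk).1
    rcases hT₁mem η h1 with rfl | rfl | rfl
    · exact (F.dat k).h1E hηk
    · exact F.E_disjoint i k (Ne.symm hki) _ (F.dat i).hζ hηk
    · exact F.E_disjoint i k (Ne.symm hki) _ (F.dat i).hζ' hηk
  have hT : ∀ η ∈ T₁ ∪ T₂, Cfsg.IsIrrCharacter G η := by
    intro η hη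
    rcases Finset.mem_union.mp hη with h | h
    · rcases hT₁mem η h with rfl | rfl | rfl
      · exact isIrrCharacter_one
      · exact F.zeta_irr i
      · exact F.zeta'_irr i
    · obtain ⟨k, -, hηk⟩ := hT₂mem η h
      exact (F.dat k).hE η hηk
  have hbes := bessel_irr (F.dat i).β (T₁ ∪ T₂) hT (F.bZ i)
    (fun η hη => F.bZ_spec i η (hT η hη)) ((F.dat i).e + 1)
    (by rw [(F.dat i).hββ]; push_cast; ring)
  rw [Finset.sum_union hdisj] at hbes
  -- the first part
  have h1 : ∑ η ∈ T₁, F.bZ i η ^ 2 =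
      1 + ((F.dat i).a - (F.dat i).ε) ^ 2 + (F.dat i).a ^ 2 := by
    rw [hT₁, Finset.sum_insert, Finset.sum_insert, Finset.sum_singleton,
      F.bZ_eq i _ isIrrCharacter_one 1 (by rw [F.beta_one i]; simp),
      F.bZ_eq i _ (F.zeta_irr i) ((F.dat i).a - (F.dat i).ε)
        (by rw [(F.dat i).hβζ]; push_cast; ring),
      F.bZ_eq i _ (F.zeta'_irr i) (F.dat i).a (F.dat i).hβζ']
    · ring
    · rw [Finset.mem_singleton]
      exact Ne.symm (F.dat i).hζne
    · rw [Finset.mem_insert, Finset.mem_singleton]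
      rintro (h | h)
      · exact hζ1 h.symm
      · exact hζ'1 h.symm
  -- the second part
  have h2 : ∑ η ∈ T₂, F.bZ i η ^ 2 = ∑ k ∈ J, F.cc k i ^ 2 * ((F.dat k).q : ℤ) := by
    rw [hT₂, Finset.sum_biUnion]
    · apply Finset.sum_congr rfl
      intro k hk
      have hki := (hJmem k hk).1
      have h3 : ∀ η ∈ (F.dat k).E, F.bZ i η ^ 2 = F.cc k i ^ 2 * (((F.dat k).t η : ℤ)) ^ 2 := by
        intro η hη
        rw [F.bZ_eq i η ((F.dat k).hE η hη) _ (F.beta_E k i hki η hη)]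
        ring
      rw [Finset.sum_congr rfl h3, ← Finset.mul_sum, ← (F.dat k).hsumt]
      push_cast
      rfl
    · intro k hk k' hk' hne
      show Disjoint (F.dat k).E (F.dat k').E
      rw [Finset.disjoint_left]
      intro η h1 h2
      exact F.E_disjoint k k' hne η h1 h2
  have h3 : ∑ k ∈ J, ((F.dat k).q : ℤ) ≤ ∑ k ∈ J, F.cc k i ^ 2 * ((F.dat k).q : ℤ) := by
    apply Finset.sum_le_sum
    intro k hk
    have hc := (hJmem k hk).2
    have hc2 : 1 ≤ F.cc k i ^ 2 := by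
      have : F.cc k i ≤ -1 ∨ 1 ≤ F.cc k i := by omega
      rcases this with h | h <;> nlinarith
    have hq0 : (0 : ℤ) ≤ ((F.dat k).q : ℤ) := Int.natCast_nonneg _
    nlinarith
  have h4 : 1 ≤ ((F.dat i).a - (F.dat i).ε) ^ 2 + (F.dat i).a ^ 2 := by
    by_cases ha : (F.dat i).a = 0
    · rw [ha]
      rcases (F.dat i).hε with h | h <;> rw [h] <;> norm_num
    · have : (F.dat i).a ≤ -1 ∨ 1 ≤ (F.dat i).a := by omega
      rcases this with h | h <;> nlinarith [sq_nonneg ((F.dat i).a - (F.dat i).ε)]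
  rw [h1, h2] at hbes
  have h5 : (∑ k ∈ J, ((F.dat k).q : ℤ)) + 1 ≤ ((F.dat i).e : ℤ) := by linarith
  exact_mod_cast h5

end FrobFamily

end Cfsg.Agent.Helper6
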