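import Mathlib
import Cfsg.Prelude.Def_Characters
import Cfsg.Prelude.Def_OddOrderChar
import Cfsg.Prelude.Def_OddOrderLocal
import Cfsg.Agent.Helper6.FrobPartM

/-!
# Groups partitioned by TI Frobenius kernels: the counting identity and the row bound
-/

set_option autoImplicit false
set_option linter.style.haveILetI false

namespace Cfsg.Agent.Helper6

open scoped ComplexConjugate

universe u v

variable {G : Type u} [Group G]

namespace FrobFamily

/-- the counting identity -/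
theorem count_identity [Fintype G] {ι : Type v} [Fintype ι] {H : ι → Subgroup G}
    (F : FrobFamily H) :
    (1 : ℝ) = (Nat.card G : ℝ)⁻¹ +
      ∑ k, ((F.dat k).q : ℝ) / ((F.dat k).q * (F.dat k).e + 1) := by
  classical
  have h1 := F.row_identity (fun _ => (1 : ℂ)) (fun _ _ => rfl)
  rw [classInner_irr_self isIrrCharacter_one] at h1
  simp only [map_one, mul_one] at h1
  have h2 : ∀ k, (Nat.card ↥(Subgroup.normalizer (H k : Set G)) : ℂ)⁻¹ *
      ∑ x : G, (if x ∈ H k ∧ x ≠ 1 then (1 : ℂ) else 0) =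
      (((F.dat k).q : ℝ) / ((F.dat k).q * (F.dat k).e + 1) : ℝ) := by
    intro k
    have h3 := sum_ite_Ksharp_one (H k)
    have he : ((F.dat k).e : ℂ) ≠ 0 := by
      have := (F.dat k).he
      have h4 : (F.dat k).e ≠ 0 := by omega
      exact_mod_cast h4
    have hh : (((F.dat k).q : ℂ) * (F.dat k).e + 1) ≠ 0 := by
      have h4 : (F.dat k).q * (F.dat k).e + 1 ≠ 0 := by omega
      exact_mod_cast h4
    have h5 : ∑ x : G, (if x ∈ H k ∧ x ≠ 1 then (1 : ℂ) else 0) = (Nat.card (H k) : ℂ) - 1 := by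
      convert h3
    rw [h5, (F.dat k).hcardN, (F.dat k).hcardK]
    push_cast
    field_simp
    ring
  rw [Finset.sum_congr rfl (fun k _ => h2 k)] at h1
  apply Complex.ofReal_injective
  push_cast at h1 ⊢
  linear_combination h1

set_option maxHeartbeats 1600000 in
/-- the row bound: the norm of `ζ_i` computed on the partition -/
theorem row_bound [Fintype G] {ι : Type v} [Fintype ι] {H : ι → Subgroup G}
    (F : FrobFamily H) (i : ι) :
    ∑ k ∈ (open Classical in Finset.univ.erase i),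
      (open Classical in if F.cc i k ≠ 0 then
        ((F.dat k).q : ℝ) / ((F.dat k).q * (F.dat k).e + 1) else 0) ≤
      ((F.dat i).e : ℝ) / ((F.dat i).q * (F.dat i).e + 1) - (Nat.card G : ℝ)⁻¹ := by
  classical
  have hirr := F.zeta_irr i
  obtain ⟨d, hd, hd1⟩ := IsIrrCharacter.apply_one_pos hirr
  have h1 := F.row_identity (F.dat i).ζ (irr_classFunction hirr)
  rw [classInner_irr_self hirr, hd1, Complex.conj_natCast,
    ← Finset.add_sum_erase Finset.univ _ (Finset.mem_univ i)] at h1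
  -- the term `k = i`
  have he : ((F.dat i).e : ℝ) ≠ 0 := by
    have := (F.dat i).he
    have h4 : (F.dat i).e ≠ 0 := by omega
    exact_mod_cast h4
  have hh : (0 : ℝ) < ((F.dat i).q : ℝ) * (F.dat i).e + 1 := by positivity
  have hloc : ∑ x : G, (if x ∈ H i ∧ x ≠ 1 then (F.dat i).ζ x * conj ((F.dat i).ζ x) else 0) =
      ((((F.dat i).e * ((F.dat i).q * (F.dat i).e + 1) : ℕ) : ℝ) - ((F.dat i).e : ℝ) ^ 2 -
        2 * ((F.dat i).ε : ℝ) * ((F.dat i).a : ℝ) * ((F.dat i).e : ℝ) +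
        ((F.dat i).a : ℝ) ^ 2 * (((F.dat i).q * (F.dat i).e : ℕ) : ℝ) : ℝ) := by
    have := (F.dat i).hloc
    push_cast at this ⊢
    convert this using 2
  rw [hloc, (F.dat i).hcardN] at h1
  -- the terms `k ≠ i`
  have h2 : ∀ k ∈ Finset.univ.erase i,
      (Nat.card ↥(Subgroup.normalizer (H k : Set G)) : ℂ)⁻¹ *
      ∑ x : G, (if x ∈ H k ∧ x ≠ 1 then (F.dat i).ζ x * conj ((F.dat i).ζ x) else 0) =
      (((F.cc i k : ℝ) ^ 2 * (((F.dat k).q : ℝ) / ((F.dat k).q * (F.dat k).e + 1)) : ℝ)) := by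
    intro k hk
    have hik : i ≠ k := Ne.symm (Finset.ne_of_mem_erase hk)
    have h3 := sum_ite_Ksharp_one (H k)
    have hek : ((F.dat k).e : ℂ) ≠ 0 := by
      have := (F.dat k).he
      have h4 : (F.dat k).e ≠ 0 := by omega
      exact_mod_cast h4
    have hhk : (((F.dat k).q : ℂ) * (F.dat k).e + 1) ≠ 0 := by
      have h4 : (F.dat k).q * (F.dat k).e + 1 ≠ 0 := by omega
      exact_mod_cast h4
    have h5 : ∑ x : G, (if x ∈ H k ∧ x ≠ 1 then (F.dat i).ζ x * conj ((F.dat i).ζ x) else 0) =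
        (F.cc i k : ℂ) ^ 2 * ((Nat.card (H k) : ℂ) - 1) := by
      rw [← h3, Finset.mul_sum]
      apply Finset.sum_congr rfl
      intro x _
      by_cases hx : x ∈ H k ∧ x ≠ 1
      · rw [if_pos hx, F.cc_spec i k hik x hx.1 hx.2, map_intCast]
        have : (if x ∈ H k ∧ x ≠ 1 then (1 : ℂ) else 0) = 1 := by
          convert if_pos hx
        rw [this]
        ring
      · rw [if_neg hx]
        have : (if x ∈ H k ∧ x ≠ 1 then (1 : ℂ) else 0) = 0 := by
          convert if_neg hx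
        rw [this, mul_zero]
    rw [h5, (F.dat k).hcardN, (F.dat k).hcardK]
    push_cast
    field_simp
    ring
  rw [Finset.sum_congr rfl h2] at h1
  -- the real identity
  have hreal : (1 : ℝ) = (Nat.card G : ℝ)⁻¹ * ((d : ℝ) * d) +
      ((((F.dat i).e * ((F.dat i).q * (F.dat i).e + 1) : ℕ) : ℝ))⁻¹ *
        ((((F.dat i).e * ((F.dat i).q * (F.dat i).e + 1) : ℕ) : ℝ) - ((F.dat i).e : ℝ) ^ 2 -
        2 * ((F.dat i).ε : ℝ) * ((F.dat i).a : ℝ) * ((F.dat i).e : ℝ) +
        ((F.dat i).a : ℝ) ^ 2 * (((F.dat i).q * (F.dat i).e : ℕ) : ℝ)) +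
      ∑ k ∈ Finset.univ.erase i,
        ((F.cc i k : ℝ) ^ 2 * (((F.dat k).q : ℝ) / ((F.dat k).q * (F.dat k).e + 1))) := by
    apply Complex.ofReal_injective
    push_cast at h1 ⊢
    linear_combination h1
  -- bounds
  have hgpos : (0 : ℝ) < (Nat.card G : ℝ)⁻¹ := by
    have : 0 < Nat.card G := Nat.card_pos
    positivity
  have hd2 : (1 : ℝ) ≤ (d : ℝ) * d := by
    have : (1 : ℝ) ≤ d := by exact_mod_cast hd
    nlinarith
  have hterm : ∑ k ∈ Finset.univ.erase i,
      (if F.cc i k ≠ 0 then ((F.dat k).q : ℝ) / ((F.dat k).q * (F.dat k).e + 1) else 0) ≤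
      ∑ k ∈ Finset.univ.erase i,
        ((F.cc i k : ℝ) ^ 2 * (((F.dat k).q : ℝ) / ((F.dat k).q * (F.dat k).e + 1))) := by
    apply Finset.sum_le_sum
    intro k _
    have hnn : (0 : ℝ) ≤ ((F.dat k).q : ℝ) / ((F.dat k).q * (F.dat k).e + 1) := by positivity
    by_cases hc : F.cc i k ≠ 0
    · rw [if_pos hc]
      have hc2 : (1 : ℝ) ≤ (F.cc i k : ℝ) ^ 2 := by
        have : F.cc i k ≤ -1 ∨ 1 ≤ F.cc i k := by omega
        have h3 : (1 : ℤ) ≤ F.cc i k ^ 2 := by
          rcases this with h | h <;> nlinarith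
        exact_mod_cast h3
      nlinarith
    · rw [if_neg hc]
      positivity
  have hneg : 2 * ((F.dat i).ε : ℝ) * ((F.dat i).a : ℝ) -
      ((F.dat i).a : ℝ) ^ 2 * ((F.dat i).q : ℝ) ≤ 0 := by
    have hq : (2 : ℤ) ≤ ((F.dat i).q : ℤ) := by exact_mod_cast (F.dat i).hq
    have h3 : 2 * (F.dat i).ε * (F.dat i).a - (F.dat i).a ^ 2 * ((F.dat i).q : ℤ) ≤ 0 := by
      rcases (F.dat i).hε with h | h <;> rw [h]
      · by_cases ha : (F.dat i).a ≤ 0
        · nlinarith [sq_nonneg (F.dat i).a]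
        · have : 1 ≤ (F.dat i).a := by omega
          nlinarith [sq_nonneg (F.dat i).a]
      · by_cases ha : 0 ≤ (F.dat i).a
        · nlinarith [sq_nonneg (F.dat i).a]
        · have : (F.dat i).a ≤ -1 := by omega
          nlinarith [sq_nonneg (F.dat i).a]
    exact_mod_cast h3
  -- simplify the middle term
  have hmid : ((((F.dat i).e * ((F.dat i).q * (F.dat i).e + 1) : ℕ) : ℝ))⁻¹ *
        ((((F.dat i).e * ((F.dat i).q * (F.dat i).e + 1) : ℕ) : ℝ) - ((F.dat i).e : ℝ) ^ 2 -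
        2 * ((F.dat i).ε : ℝ) * ((F.dat i).a : ℝ) * ((F.dat i).e : ℝ) +
        ((F.dat i).a : ℝ) ^ 2 * (((F.dat i).q * (F.dat i).e : ℕ) : ℝ)) =
      1 - ((F.dat i).e : ℝ) / ((F.dat i).q * (F.dat i).e + 1) -
        (2 * ((F.dat i).ε : ℝ) * ((F.dat i).a : ℝ) -
          ((F.dat i).a : ℝ) ^ 2 * ((F.dat i).q : ℝ)) / ((F.dat i).q * (F.dat i).e + 1) := by
    push_cast
    field_simp
    ring
  rw [hmid] at hreal
  have hdiv : (2 * ((F.dat i).ε : ℝ) * ((F.dat i).a : ℝ) -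
      ((F.dat i).a : ℝ) ^ 2 * ((F.dat i).q : ℝ)) / ((F.dat i).q * (F.dat i).e + 1) ≤ 0 :=
    div_nonpos_of_nonpos_of_nonneg hneg hh.le
  have hA : (Nat.card G : ℝ)⁻¹ ≤ (Nat.card G : ℝ)⁻¹ * ((d : ℝ) * d) := by
    nlinarith
  linarith

end FrobFamily

end Cfsg.Agent.Helper6
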