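import Mathlib
import Cfsg.Prelude.Def_Characters
import Cfsg.Prelude.Def_OddOrderChar
import Cfsg.Prelude.Def_OddOrderLocal
import Cfsg.Agent.Helper6.FrobPartN

/-!
# Groups partitioned by TI Frobenius kernels: the contradiction
-/

set_option autoImplicit false
set_option linter.style.haveILetI false

namespace Cfsg.Agent.Helper6

open scoped ComplexConjugate

universe u v

variable {G : Type u} [Group G]

namespace FrobFamily

set_option maxHeartbeats 1600000 in
/-- a group of odd order is not partitioned by TI Frobenius kernels of coprime orders -/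
theorem contradiction [Fintype G] {ι : Type v} [Fintype ι] {H : ι → Subgroup G}
    (F : FrobFamily H) (hι : Nonempty ι) : False := by
  classical
  obtain ⟨j⟩ := hι
  obtain ⟨i₀, -, hmin⟩ := Finset.exists_min_image Finset.univ (fun i => (F.dat i).e)
    ⟨j, Finset.mem_univ j⟩
  set x : ι → ℝ := fun k => ((F.dat k).q : ℝ) / ((F.dat k).q * (F.dat k).e + 1) with hx
  have hxnn : ∀ k, 0 ≤ x k := by
    intro k
    rw [hx]
    positivity
  have hcount := F.count_identity
  rw [← Finset.add_sum_erase Finset.univ _ (Finset.mem_univ i₀)] at hcount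
  have hrow := F.row_bound i₀
  have hcol := F.col_bound i₀
  set J : Finset ι := Finset.univ.filter (fun k => k ≠ i₀ ∧ F.cc k i₀ ≠ 0) with hJ
  have hJmem : ∀ k, k ∈ J ↔ k ≠ i₀ ∧ F.cc k i₀ ≠ 0 := by
    intro k
    rw [hJ, Finset.mem_filter]
    simp
  have harith := arith_frob_final J (F.dat i₀).e (F.dat i₀).q (F.dat i₀).he (F.dat i₀).hq
    (fun k => (F.dat k).q) (fun k => (F.dat k).e) (fun k _ => (F.dat k).hq)
    (fun k _ => hmin k (Finset.mem_univ k))
    (by
      intro k hk
      have hki := ((hJmem k).mp hk).1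
      have hcop := F.hcop k i₀ hki
      rw [(F.dat k).hcardK, (F.dat i₀).hcardK] at hcop
      intro heq
      rw [heq, Nat.coprime_self] at hcop
      have := (F.dat i₀).hq
      have := (F.dat i₀).he
      nlinarith)
    hcol
  -- every `k ≠ i₀` is counted in the row or in the column
  have hterm : ∑ k ∈ Finset.univ.erase i₀, x k ≤
      ∑ k ∈ Finset.univ.erase i₀, (if F.cc i₀ k ≠ 0 then x k else 0) +
      ∑ k ∈ Finset.univ.erase i₀, (if F.cc k i₀ ≠ 0 then x k else 0) := by
    rw [← Finset.sum_add_distrib]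
    apply Finset.sum_le_sum
    intro k hk
    have hki : k ≠ i₀ := Finset.ne_of_mem_erase hk
    have hpar := F.parity i₀ k (Ne.symm hki)
    by_cases h1 : F.cc i₀ k ≠ 0
    · rw [if_pos h1]
      by_cases h2 : F.cc k i₀ ≠ 0
      · rw [if_pos h2]
        linarith [hxnn k]
      · rw [if_neg h2]
        linarith
    · by_cases h2 : F.cc k i₀ ≠ 0
      · rw [if_neg h1, if_pos h2]
        linarith
      · exfalso
        push Not at h1 h2
        exact hpar ⟨h1, h2⟩
  have hJsum : ∑ k ∈ Finset.univ.erase i₀, (if F.cc k i₀ ≠ 0 then x k else 0) =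
      ∑ k ∈ J, x k := by
    have hJeq : J = (Finset.univ.erase i₀).filter (fun k => F.cc k i₀ ≠ 0) := by
      ext k
      rw [hJmem, Finset.mem_filter, Finset.mem_erase]
      simp
    rw [hJeq, Finset.sum_filter]
  rw [hJsum] at hterm
  have hrow' : ∑ k ∈ Finset.univ.erase i₀, (if F.cc i₀ k ≠ 0 then x k else 0) ≤
      ((F.dat i₀).e : ℝ) / ((F.dat i₀).q * (F.dat i₀).e + 1) - (Nat.card G : ℝ)⁻¹ := by
    convert hrow using 2
  have hsplit : ((F.dat i₀).q : ℝ) / ((F.dat i₀).q * (F.dat i₀).e + 1) +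
      ((F.dat i₀).e : ℝ) / ((F.dat i₀).q * (F.dat i₀).e + 1) =
      (((F.dat i₀).q : ℝ) + (F.dat i₀).e) / ((F.dat i₀).q * (F.dat i₀).e + 1) := by
    rw [add_div]
  have hcount' : (1 : ℝ) = (Nat.card G : ℝ)⁻¹ +
      (((F.dat i₀).q : ℝ) / ((F.dat i₀).q * (F.dat i₀).e + 1) +
        ∑ k ∈ Finset.univ.erase i₀, x k) := hcount
  have harith' : (((F.dat i₀).q : ℝ) + (F.dat i₀).e) / ((F.dat i₀).q * (F.dat i₀).e + 1) +
      ∑ k ∈ J, x k < 1 := harith
  linarith

end FrobFamily

/-- the centralizer condition from the Frobenius condition in the normalizer -/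
theorem centralizer_le_of_TI_frob (K L : Subgroup G) (hTI : Cfsg.IsTISubset (K : Set G))
    (hN : Subgroup.normalizer (K : Set G) = L)
    (hfrob : ∀ h ∈ K, h ≠ 1 → L ⊓ Subgroup.centralizer ({h} : Set G) ≤ K) :
    ∀ k ∈ K, k ≠ 1 → Subgroup.centralizer ({k} : Set G) ≤ K := by
  intro k hk hk1 g hg
  have hg' := hg
  rw [Subgroup.mem_centralizer_iff] at hg
  have hgk : g * k = k * g := (hg k (Set.mem_singleton k)).symm
  have hgN : g ∈ Subgroup.normalizer (K : Set G) := by
    by_contra hgN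
    apply hk1
    apply hTI g hgN k hk
    rw [hgk]
    simpa using hk
  rw [hN] at hgN
  exact hfrob k hk hk1 ⟨hgN, hg'⟩

/-- Peterfalvi (7.1): a group of odd order is not partitioned by the conjugates of TI Frobenius
kernels of pairwise coprime orders -/
theorem no_frobenius_partition [Finite G] (hodd : Odd (Nat.card G)) {ι : Type v} [Fintype ι]
    (hι : 2 ≤ Fintype.card ι) (L H : ι → Subgroup G) (hHL : ∀ i, H i < L i)
    (hH1 : ∀ i, H i ≠ ⊥)
    (hfrob : ∀ i, ∀ h ∈ H i, h ≠ 1 → L i ⊓ Subgroup.centralizer ({h} : Set G) ≤ H i)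
    (hcop : ∀ i j, i ≠ j → Nat.Coprime (Nat.card (H i)) (Nat.card (H j)))
    (hTI : ∀ i, Cfsg.IsTISubset (H i : Set G) ∧ Subgroup.normalizer (H i : Set G) = L i)
    (hcover : ∀ g : G, g ≠ 1 → ∃ i, ∃ x : G, x * g * x⁻¹ ∈ H i) : False := by
  classical
  haveI : Fintype G := Fintype.ofFinite G
  have hC : ∀ i, ∀ k ∈ H i, k ≠ 1 → Subgroup.centralizer ({k} : Set G) ≤ H i :=
    fun i => centralizer_le_of_TI_frob (H i) (L i) (hTI i).1 (hTI i).2 (hfrob i)
  have hdat : ∀ i, Nonempty (FPData (H i)) := by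
    intro i
    apply exists_fpdata (H i) (hH1 i) (hTI i).1 _ (hC i)
    · apply Odd.of_dvd_nat hodd
      exact Subgroup.card_subgroup_dvd_card _
    · rw [(hTI i).2]
      exact hHL i
  have hne : Nonempty ι := by
    rw [← Fintype.card_pos_iff]
    omega
  exact FrobFamily.contradiction
    (⟨hodd, hH1, fun i => (hTI i).1, hC, hcop, hcover, fun i => (hdat i).some⟩ : FrobFamily H) hne

end Cfsg.Agent.Helper6
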