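import Mathlib
import Cfsg.Prelude.Def_Characters
import Cfsg.Prelude.Def_Transfer
import Cfsg.Agent.Helper6.TIFrob2
import Cfsg.Agent.S0170

/-!
# Abelian T.I. subgroups with Frobenius normalizer: exceptional characters
-/

set_option autoImplicit false
set_option linter.style.haveILetI false

namespace Cfsg.Agent.Helper6

open Module Representation
open scoped ComplexConjugate Pointwise

universe u v

variable {G : Type u} [Group G]

theorem tifrob_abelian [Fintype G] (K : Subgroup G)
    (hTI : ∀ g : G, g ∉ Subgroup.normalizer (K : Set G) → ∀ k ∈ K, g * k * g⁻¹ ∈ K → k = 1)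
    (hC : ∀ k ∈ K, k ≠ 1 → Subgroup.centralizer ({k} : Set G) ≤ K)
    (hab : ∀ a ∈ K, ∀ b ∈ K, a * b = b * a) :
    (Nat.card {χ : Cfsg.IrrCharacter (Subgroup.normalizer (K : Set G)) //
        ∃ k : Subgroup.normalizer (K : Set G), (k : G) ∈ K ∧
          (χ : ↥(Subgroup.normalizer (K : Set G)) → ℂ) k ≠
            (χ : ↥(Subgroup.normalizer (K : Set G)) → ℂ) 1} = 1 ∧
      ∃ p : ℕ, p.Prime ∧ Cfsg.IsElementaryAbelian p K ∧
        Nat.card K = (K.subgroupOf (Subgroup.normalizer (K : Set G))).index + 1) ∨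
    ∃ (ε : ℂ) (f : {χ : Cfsg.IrrCharacter (Subgroup.normalizer (K : Set G)) //
        ∃ k : Subgroup.normalizer (K : Set G), (k : G) ∈ K ∧
          (χ : ↥(Subgroup.normalizer (K : Set G)) → ℂ) k ≠
            (χ : ↥(Subgroup.normalizer (K : Set G)) → ℂ) 1} → Cfsg.IrrCharacter G),
      (ε = 1 ∨ ε = -1) ∧ Function.Injective f ∧ ∀ χ ξ,
        Cfsg.indFun (Subgroup.normalizer (K : Set G))
          ((χ.1 : ↥(Subgroup.normalizer (K : Set G)) → ℂ) -
            (ξ.1 : ↥(Subgroup.normalizer (K : Set G)) → ℂ)) =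
          ε • ((f χ : G → ℂ) - (f ξ : G → ℂ)) := by
  classical
  haveI : Fintype (Subgroup.normalizer (K : Set G)) := Fintype.ofFinite _
  haveI : Finite (Cfsg.IrrCharacter (Subgroup.normalizer (K : Set G))) := irr_finite
  have hfree := tifrob_free K hC
  have habn : ∀ a ∈ K.subgroupOf (Subgroup.normalizer (K : Set G)),
      ∀ b ∈ K.subgroupOf (Subgroup.normalizer (K : Set G)), a * b = b * a := by
    intro a ha b hb
    apply Subtype.ext
    exact hab _ (Subgroup.mem_subgroupOf.mp ha) _ (Subgroup.mem_subgroupOf.mp hb)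
  have hrel_conv : ∀ χ : {χ : Cfsg.IrrCharacter (Subgroup.normalizer (K : Set G)) //
        ∃ k : Subgroup.normalizer (K : Set G), (k : G) ∈ K ∧
          (χ : ↥(Subgroup.normalizer (K : Set G)) → ℂ) k ≠
            (χ : ↥(Subgroup.normalizer (K : Set G)) → ℂ) 1},
      ∃ k ∈ K.subgroupOf (Subgroup.normalizer (K : Set G)),
        (χ.1 : ↥(Subgroup.normalizer (K : Set G)) → ℂ) k ≠
          (χ.1 : ↥(Subgroup.normalizer (K : Set G)) → ℂ) 1 := by
    intro χ
    obtain ⟨k, hk, hne⟩ := χ.2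
    exact ⟨k, Subgroup.mem_subgroupOf.mpr hk, hne⟩
  have hdata : ∀ χ : {χ : Cfsg.IrrCharacter (Subgroup.normalizer (K : Set G)) //
        ∃ k : Subgroup.normalizer (K : Set G), (k : G) ∈ K ∧
          (χ : ↥(Subgroup.normalizer (K : Set G)) → ℂ) k ≠
            (χ : ↥(Subgroup.normalizer (K : Set G)) → ℂ) 1},
      (∀ x : Subgroup.normalizer (K : Set G), (x : G) ∉ K →
        (χ.1 : ↥(Subgroup.normalizer (K : Set G)) → ℂ) x = 0) ∧
      (χ.1 : ↥(Subgroup.normalizer (K : Set G)) → ℂ) 1 =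
        ((K.subgroupOf (Subgroup.normalizer (K : Set G))).index : ℂ) := by
    intro χ
    obtain ⟨φ, hφ, hφ1, heq⟩ := irr_eq_ind_of_free
      (K.subgroupOf (Subgroup.normalizer (K : Set G))) hfree _ χ.1.2 (hrel_conv χ)
    constructor
    · intro x hx
      rw [heq]
      exact indFun_normal_apply_off _ φ x (fun h => hx (Subgroup.mem_subgroupOf.mp h))
    · rw [heq, indFun_apply_one]
      have hdeg1 := (comm_iff_forall_irr_degree_one
        (G := K.subgroupOf (Subgroup.normalizer (K : Set G)))).mp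
        (fun a b => Subtype.ext (habn a a.2 b b.2)) ⟨φ, hφ⟩
      simp only at hdeg1
      rw [hdeg1, mul_one]
  rcases Nat.lt_or_ge (Nat.card {χ : Cfsg.IrrCharacter (Subgroup.normalizer (K : Set G)) //
        ∃ k : Subgroup.normalizer (K : Set G), (k : G) ∈ K ∧
          (χ : ↥(Subgroup.normalizer (K : Set G)) → ℂ) k ≠
            (χ : ↥(Subgroup.normalizer (K : Set G)) → ℂ) 1}) 2 with hlt2 | hge2
  · rcases Nat.eq_zero_or_pos (Nat.card {χ : Cfsg.IrrCharacter
        (Subgroup.normalizer (K : Set G)) //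
        ∃ k : Subgroup.normalizer (K : Set G), (k : G) ∈ K ∧
          (χ : ↥(Subgroup.normalizer (K : Set G)) → ℂ) k ≠
            (χ : ↥(Subgroup.normalizer (K : Set G)) → ℂ) 1}) with h0 | hpos
    · right
      haveI : IsEmpty {χ : Cfsg.IrrCharacter (Subgroup.normalizer (K : Set G)) //
        ∃ k : Subgroup.normalizer (K : Set G), (k : G) ∈ K ∧
          (χ : ↥(Subgroup.normalizer (K : Set G)) → ℂ) k ≠
            (χ : ↥(Subgroup.normalizer (K : Set G)) → ℂ) 1} :=
        (Nat.card_eq_zero.mp h0).resolve_right (fun h => h.false)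
      exact ⟨1, fun χ => isEmptyElim χ, Or.inl rfl, fun χ => isEmptyElim χ,
        fun χ => isEmptyElim χ⟩
    · left
      have h1 : Nat.card {χ : Cfsg.IrrCharacter (Subgroup.normalizer (K : Set G)) //
        ∃ k : Subgroup.normalizer (K : Set G), (k : G) ∈ K ∧
          (χ : ↥(Subgroup.normalizer (K : Set G)) → ℂ) k ≠
            (χ : ↥(Subgroup.normalizer (K : Set G)) → ℂ) 1} = 1 := by omega
      refine ⟨h1, ?_⟩
      obtain ⟨χ0, hχ0⟩ := Nat.card_eq_one_iff_exists.mp h1
      obtain ⟨hcard, p, hp, hpow⟩ := free_unique_relevant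
        (K.subgroupOf (Subgroup.normalizer (K : Set G))) hfree habn _ χ0.1.2 (hrel_conv χ0) (by
          intro χ hχ hrel
          obtain ⟨k, hk, hne⟩ := hrel
          have := hχ0 ⟨⟨χ, hχ⟩, ⟨k, Subgroup.mem_subgroupOf.mp hk, hne⟩⟩
          exact congrArg (fun r => (r.1 : ↥(Subgroup.normalizer (K : Set G)) → ℂ)) this)
      refine ⟨p, hp, ⟨⟨⟨fun a b => Subtype.ext (hab a a.2 b b.2)⟩⟩, ?_⟩, ?_⟩
      · intro a ha
        have := hpow ⟨a, Subgroup.le_normalizer ha⟩ (Subgroup.mem_subgroupOf.mpr ha)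
        exact congrArg Subtype.val this
      · rw [← hcard]
        exact (Nat.card_congr (Subgroup.subgroupOfEquivOfLe Subgroup.le_normalizer).toEquiv).symm
  · right
    obtain ⟨ε, hε, θ, hθirr, hθinj, hθ⟩ := Cfsg.Agent.S0170.result (K : Set G)
      (fun x hx => Subgroup.le_normalizer hx) (fun g hg s hs h => hTI g hg s hs h) _ hge2
      (fun i => (((Finite.equivFin _).symm i).1 : ↥(Subgroup.normalizer (K : Set G)) → ℂ))
      (fun i => ((Finite.equivFin _).symm i).1.2)
      (fun i j h => (Finite.equivFin _).symm.injective (Subtype.ext (Subtype.ext h)))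
      (fun i x hx => (hdata _).1 x hx) (fun i j => by rw [(hdata _).2, (hdata _).2])
    refine ⟨ε, fun χ => ⟨θ (Finite.equivFin _ χ), hθirr _⟩, hε, ?_, ?_⟩
    · intro χ ξ h
      have := hθinj (congrArg Subtype.val h)
      exact (Finite.equivFin _).injective this
    · intro χ ξ
      have := hθ (Finite.equivFin _ χ) (Finite.equivFin _ ξ)
      simp only [Equiv.symm_apply_apply] at this
      rw [indFun_sub]
      exact this

end Cfsg.Agent.Helper6
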