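import Mathlib
import Cfsg.Agent.Helper6.DegreeDvd

/-!
# Cyclotomic divisibility lemmas

* if `n = (1 - ζ) ω` with `ζ` a primitive `p`-th root of unity and `ω` an algebraic integer then
  `p ∣ n`;
* if a sum of `p^(k+1)`-th roots of unity vanishes, the number of summands is divisible by `p`.
-/

set_option autoImplicit false

namespace Cfsg.Agent.Helper6

open Polynomial

/-- If `a = d * A` with `A` an algebraic integer then `d ∣ a` (integer version). -/
theorem int_dvd_of_isIntegral (a : ℤ) (d : ℕ) (hd : d ≠ 0) (A : ℂ) (hA : IsIntegral ℤ A)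
    (h : (a : ℂ) = d * A) : (d : ℤ) ∣ a := by
  have hdC : (d : ℂ) ≠ 0 := by exact_mod_cast hd
  have hAq : A = (((a : ℚ) / (d : ℚ) : ℚ) : ℂ) := by
    push_cast
    field_simp
    rw [h]; ring
  rw [hAq] at hA
  have hA' : IsIntegral ℤ ((a : ℚ) / (d : ℚ)) :=
    (isIntegral_algebraMap_iff (algebraMap ℚ ℂ).injective).mp hA
  obtain ⟨n, hn⟩ := IsIntegrallyClosed.isIntegral_iff.mp hA'
  have hdQ : (d : ℚ) ≠ 0 := by exact_mod_cast hd
  have h2 : (a : ℚ) = d * n := by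
    have : (n : ℚ) = (a : ℚ) / d := hn
    rw [this]
    field_simp
  have h3 : (a : ℤ) = d * n := by exact_mod_cast h2
  exact ⟨n, h3⟩

/-- If `n = (1 - ζ) ω` with `ζ` a primitive `p`-th root of unity and `ω` an algebraic integer,
then `p ∣ n`. -/
theorem prime_dvd_of_eq_one_sub_zeta_mul (p : ℕ) (hp : p.Prime) (ζ : ℂ) (hζ : IsPrimitiveRoot ζ p)
    (n : ℤ) (ω : ℂ) (hω : IsIntegral ℤ ω) (h : (n : ℂ) = (1 - ζ) * ω) : (p : ℤ) ∣ n := by
  have hζint : IsIntegral ℤ ζ := hζ.isIntegral hp.pos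
  obtain ⟨m, rfl⟩ : ∃ m, p = m + 1 := ⟨p - 1, (Nat.succ_pred_eq_of_pos hp.pos).symm⟩
  have hprod := hζ.prod_one_sub_pow_eq_order
  have hs : ∀ k ∈ Finset.range m, ∃ s : ℂ, IsIntegral ℤ s ∧ 1 - ζ = (1 - ζ ^ (k + 1)) * s := by
    intro k hk
    have hk' : k < m := Finset.mem_range.mp hk
    have hcop : Nat.Coprime (k + 1) (m + 1) := by
      apply Nat.Coprime.symm
      rw [hp.coprime_iff_not_dvd]
      intro hd
      have := Nat.le_of_dvd (Nat.succ_pos k) hd
      omega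
    obtain ⟨j', -, hj'⟩ := Nat.exists_mul_mod_eq_one_of_coprime hcop (by have := hp.one_lt; omega)
    refine ⟨∑ i ∈ Finset.range j', (ζ ^ (k + 1)) ^ i, ?_, ?_⟩
    · apply IsIntegral.sum
      intro i _
      exact (hζint.pow _).pow _
    · rw [mul_neg_geom_sum, ← pow_mul]
      have hdm := Nat.div_add_mod ((k + 1) * j') (m + 1)
      rw [hj'] at hdm
      rw [← hdm, pow_add, pow_mul, hζ.pow_eq_one, one_pow, one_mul, pow_one]
  choose! s hsint hseq using hs
  have hn : ∀ k ∈ Finset.range m, (n : ℂ) = (1 - ζ ^ (k + 1)) * (s k * ω) := by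
    intro k hk
    rw [h, hseq k hk]
    ring
  have hpow : (n : ℂ) ^ m = ((m + 1 : ℕ) : ℂ) * ∏ k ∈ Finset.range m, (s k * ω) := by
    have h1 : ∏ k ∈ Finset.range m, (n : ℂ) =
        ∏ k ∈ Finset.range m, ((1 - ζ ^ (k + 1)) * (s k * ω)) :=
      Finset.prod_congr rfl hn
    rw [Finset.prod_const, Finset.card_range, Finset.prod_mul_distrib, hprod] at h1
    rw [h1]
    push_cast
    rfl
  have hWint : IsIntegral ℤ (∏ k ∈ Finset.range m, (s k * ω)) := by
    apply IsIntegral.prod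
    intro k hk
    exact (hsint k hk).mul hω
  have hdvd : ((m + 1 : ℕ) : ℤ) ∣ n ^ m := by
    apply int_dvd_of_isIntegral (n ^ m) (m + 1) (Nat.succ_ne_zero m) _ hWint
    rw [← hpow]
    push_cast
    rfl
  exact (Nat.prime_iff_prime_int.mp hp).dvd_of_dvd_pow hdvd

/-- If a sum of `p^(k+1)`-th roots of unity vanishes, then the number of terms is divisible
by `p`. -/
theorem prime_dvd_card_of_sum_roots_eq_zero (p k : ℕ) [hp : Fact p.Prime] {ι : Type*} [Fintype ι]
    (μ : ι → ℂ) (hμ : ∀ i, μ i ^ (p ^ (k + 1)) = 1) (h0 : ∑ i, μ i = 0) :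
    p ∣ Fintype.card ι := by
  have hq : 0 < p ^ (k + 1) := pow_pos hp.out.pos _
  set ζ : ℂ := Complex.exp (2 * Real.pi * Complex.I / ((p ^ (k + 1) : ℕ) : ℂ)) with hζdef
  have hζ : IsPrimitiveRoot ζ (p ^ (k + 1)) := Complex.isPrimitiveRoot_exp _ hq.ne'
  have hex : ∀ i, ∃ a : ℕ, ζ ^ a = μ i := by
    intro i
    obtain ⟨a, _, ha⟩ := hζ.eq_pow_of_pow_eq_one (hμ i)
    exact ⟨a, ha⟩
  choose a ha using hex
  set f : ℤ[X] := ∑ i, (X : ℤ[X]) ^ a i with hf
  have hroot : aeval ζ f = 0 := by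
    rw [hf, map_sum]
    simp only [map_pow, aeval_X]
    rw [← h0]
    exact Finset.sum_congr rfl (fun i _ => ha i)
  have hdvd : cyclotomic (p ^ (k + 1)) ℤ ∣ f := by
    rw [cyclotomic_eq_minpoly hζ hq]
    exact minpoly.isIntegrallyClosed_dvd (hζ.isIntegral hq) hroot
  obtain ⟨g, hg⟩ := hdvd
  have hev := congrArg (eval 1) hg
  rw [eval_mul, eval_one_cyclotomic_prime_pow, hf, eval_finsetSum] at hev
  simp only [eval_pow, eval_X, one_pow, Finset.sum_const, Finset.card_univ, nsmul_eq_mul,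
    mul_one] at hev
  have : (p : ℤ) ∣ (Fintype.card ι : ℤ) := ⟨eval 1 g, hev⟩
  exact Int.natCast_dvd_natCast.mp this

end Cfsg.Agent.Helper6
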