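import Mathlib
import Cfsg.Prelude.Def_Characters
import Cfsg.Agent.Helper6.NormalInd2

/-!
# Clifford's theorem for characters
-/

set_option autoImplicit false
set_option linter.style.haveILetI false

namespace Cfsg.Agent.Helper6

open Module Representation
open scoped ComplexConjugate

universe u v

variable {G : Type u} [Group G]

theorem classInner_conjFun [Fintype G] (N : Subgroup G) [hN : N.Normal] [Fintype N]
    (α β : N → ℂ) (g : G) :
    Cfsg.classInner (conjFun N α g) (conjFun N β g) = Cfsg.classInner α β := by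
  rw [conjFun_eq_comp, conjFun_eq_comp]
  exact classInner_comp_equiv (MulAut.conjNormal g : N ≃* N).toEquiv α β

theorem conjFun_restrict (N : Subgroup G) [hN : N.Normal] (θ : G → ℂ)
    (hθ : Cfsg.IsClassFunction G θ) (g : G) :
    conjFun N (fun n : N => θ n) g = fun n : N => θ n := by
  ext n
  exact hθ n g

/-- Clifford's theorem. -/
theorem clifford [Fintype G] (N : Subgroup G) [Fintype N] [hN : N.Normal] (θ : G → ℂ)
    (hθ : Cfsg.IsIrrCharacter G θ) (χ : N → ℂ) (hχ : Cfsg.IsIrrCharacter N χ)
    (hconst : Cfsg.classInner (fun n : N => θ n) χ ≠ 0) :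
    (fun n : N => θ n) = Cfsg.classInner (fun n : N => θ n) χ •
      ∑ᶠ ψ ∈ {ψ : N → ℂ | ∃ g : G, ψ = conjFun N χ g}, ψ := by
  classical
  haveI : Finite (Cfsg.IrrCharacter N) := irr_finite
  haveI : Fintype (Cfsg.IrrCharacter N) := Fintype.ofFinite _
  haveI : Finite (Cfsg.IrrCharacter G) := irr_finite
  haveI : Fintype (Cfsg.IrrCharacter G) := Fintype.ofFinite _
  have hθchar := IsIrrCharacter.isCharacter hθ
  have hθcf := IsCharacter.isClassFunction hθchar
  have hres : Cfsg.IsCharacter N (fun n : N => θ n) := IsCharacter.restrict N hθchar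
  have hrescf := IsCharacter.isClassFunction hres
  set e := Cfsg.classInner (fun n : N => θ n) χ with he
  -- the orbit as a finset
  let O : Finset (N → ℂ) := (Finset.univ : Finset G).image (fun g : G => conjFun N χ g)
  have hset : {ψ : N → ℂ | ∃ g : G, ψ = conjFun N χ g} = ↑O := by
    ext ψ
    simp only [O, Set.mem_ofPred_eq, Finset.coe_image, Finset.coe_univ, Set.image_univ,
      Set.mem_range]
    constructor
    · rintro ⟨g, rfl⟩
      exact ⟨g, rfl⟩
    · rintro ⟨g, rfl⟩
      exact ⟨g, rfl⟩
  rw [hset, finsum_mem_coe_finset]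
  -- coefficients
  have hcoef : ∀ ψ : Cfsg.IrrCharacter N, Cfsg.classInner (fun n : N => θ n) (ψ : N → ℂ) =
      if (ψ : N → ℂ) ∈ O then e else 0 := by
    intro ψ
    split_ifs with hmem
    · obtain ⟨g, -, hg⟩ := Finset.mem_image.mp hmem
      have h1 : Cfsg.classInner (fun n : N => θ n) (conjFun N χ g) =
          Cfsg.classInner (conjFun N (fun n : N => θ n) g) (conjFun N χ g) := by
        rw [conjFun_restrict N θ hθcf g]
      rw [← hg, h1, classInner_conjFun]
    · -- ψ not conjugate to χ
      by_contra hne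
      have hnc : ¬ ∃ g : G, (ψ : N → ℂ) = conjFun N χ g := by
        rintro ⟨g, hg⟩
        apply hmem
        exact Finset.mem_image.mpr ⟨g, Finset.mem_univ _, hg.symm⟩
      have horth := classInner_indFun_of_not_conj N χ (ψ : N → ℂ) hχ ψ.2 hnc
      rw [classInner_self_expansion _ (indFun_isClassFunction N _)] at horth
      have hψind : Cfsg.IsCharacter G (Cfsg.indFun N (ψ : N → ℂ)) :=
        isCharacter_indFun N _ (IsIrrCharacter.isCharacter ψ.2)
      have hχind : Cfsg.IsCharacter G (Cfsg.indFun N χ) :=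
        isCharacter_indFun N _ (IsIrrCharacter.isCharacter hχ)
      -- all terms are natural numbers
      have hnat : ∀ ξ : Cfsg.IrrCharacter G, ∃ k : ℕ,
          Cfsg.classInner (Cfsg.indFun N (ψ : N → ℂ)) (ξ : G → ℂ) *
            Cfsg.classInner (ξ : G → ℂ) (Cfsg.indFun N χ) = k := by
        intro ξ
        obtain ⟨a, ha⟩ := classInner_char_char_nat hψind (IsIrrCharacter.isCharacter ξ.2)
        obtain ⟨b, hb⟩ := classInner_char_char_nat (IsIrrCharacter.isCharacter ξ.2) hχind
        exact ⟨a * b, by rw [ha, hb, Nat.cast_mul]⟩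
      choose k hk using hnat
      simp_rw [hk] at horth
      have hsum0 : ∑ ξ : Cfsg.IrrCharacter G, k ξ = 0 := by exact_mod_cast horth
      have hk0 : k ⟨θ, hθ⟩ = 0 := Finset.sum_eq_zero_iff.mp hsum0 _ (Finset.mem_univ _)
      have hprod := hk ⟨θ, hθ⟩
      rw [hk0, Nat.cast_zero] at hprod
      rw [frobenius_reciprocity N _ _ hθcf] at hprod
      have h2 : Cfsg.classInner θ (Cfsg.indFun N χ) =
          conj (Cfsg.classInner (Cfsg.indFun N χ) θ) := classInner_conj_symm _ _
      rw [h2, frobenius_reciprocity N _ _ hθcf] at hprod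
      rcases mul_eq_zero.mp hprod with h | h
      · apply hne
        rw [classInner_conj_symm, h, map_zero]
      · apply hconst
        have h3 := (map_eq_zero (starRingEnd ℂ)).mp h
        rw [he, classInner_conj_symm, h3, map_zero]
  -- assemble
  conv_lhs => rw [classFunction_expansion (fun n : N => θ n) hrescf]
  simp_rw [hcoef]
  rw [Finset.smul_sum]
  have hstep : ∑ ψ : Cfsg.IrrCharacter N, (if (ψ : N → ℂ) ∈ O then e else 0) • (ψ : N → ℂ) =
      ∑ ψ ∈ Finset.univ.filter (fun ψ : Cfsg.IrrCharacter N => (ψ : N → ℂ) ∈ O),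
        e • (ψ : N → ℂ) := by
    rw [Finset.sum_filter]
    apply Finset.sum_congr rfl
    intro ψ _
    split_ifs
    · rfl
    · rw [zero_smul]
  rw [hstep]
  have himage : (Finset.univ.filter (fun ψ : Cfsg.IrrCharacter N => (ψ : N → ℂ) ∈ O)).image
      (fun ψ : Cfsg.IrrCharacter N => (ψ : N → ℂ)) = O := by
    ext f
    simp only [Finset.mem_image, Finset.mem_filter, Finset.mem_univ, true_and]
    constructor
    · rintro ⟨ψ, hψ, rfl⟩
      exact hψ
    · intro hf
      obtain ⟨g, -, hg⟩ := Finset.mem_image.mp hf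
      refine ⟨⟨f, ?_⟩, hf, rfl⟩
      rw [← hg]
      exact conjFun_isIrr N hχ g
  have hfin := Finset.sum_image
    (s := Finset.univ.filter (fun ψ : Cfsg.IrrCharacter N => (ψ : N → ℂ) ∈ O))
    (g := fun ψ : Cfsg.IrrCharacter N => (ψ : N → ℂ)) (f := fun f : N → ℂ => e • f)
    (by
      intro a _ b _ hab
      exact Subtype.ext hab)
  rw [himage] at hfin
  exact hfin.symm

end Cfsg.Agent.Helper6
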