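import Mathlib
import Cfsg.Prelude.Def_Characters
import Cfsg.Prelude.Def_Blocks
import Cfsg.Agent.Helper6.BlockUnion
import Cfsg.Agent.Helper6.Osima3
import Cfsg.Agent.Helper6.DefectClass
import Cfsg.Agent.Helper6.IndFun
import Cfsg.Agent.Helper6.Degrees

/-!
# Induced blocks: a character of the induced block lies over a given character of the block
-/

set_option autoImplicit false
set_option linter.style.haveILetI false

namespace Cfsg.Agent.Helper6

open scoped ComplexConjugate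

universe u

variable {G : Type u} [Group G]

open Classical in
/-- `∑_g f_A(g) θ(g) = ∑_{ψ ∈ A} ψ(1) [θ, ψ]` for an arbitrary function `θ`. -/
theorem sum_blockCoeff_mul_fun [Fintype G] [Fintype (Cfsg.IrrCharacter G)]
    (A : Set (Cfsg.IrrCharacter G)) (θ : G → ℂ) :
    ∑ g : G, Cfsg.blockCoeff A g * θ g =
      ∑ ψ : Cfsg.IrrCharacter G,
        if ψ ∈ A then (ψ : G → ℂ) 1 * Cfsg.classInner θ (ψ : G → ℂ) else 0 := by
  unfold Cfsg.blockCoeff
  simp_rw [finsum_mem_eq_sum_ite]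
  have h1 : ∀ g : G, (Nat.card G : ℂ)⁻¹ *
      (∑ ψ : Cfsg.IrrCharacter G, if ψ ∈ A then (ψ : G → ℂ) 1 * conj ((ψ : G → ℂ) g) else 0) *
        θ g =
      ∑ ψ : Cfsg.IrrCharacter G, if ψ ∈ A then (ψ : G → ℂ) 1 *
        ((Nat.card G : ℂ)⁻¹ * (θ g * conj ((ψ : G → ℂ) g))) else 0 := by
    intro g
    rw [Finset.mul_sum, Finset.sum_mul]
    apply Finset.sum_congr rfl
    intro ψ _
    by_cases hψ : ψ ∈ A
    · rw [if_pos hψ, if_pos hψ]
      ring
    · rw [if_neg hψ, if_neg hψ, mul_zero, zero_mul]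
  simp_rw [h1]
  rw [Finset.sum_comm]
  apply Finset.sum_congr rfl
  intro ψ _
  by_cases hψ : ψ ∈ A
  · simp only [if_pos hψ]
    rw [classInner_def, ← Finset.mul_sum, ← Finset.mul_sum]
  · simp only [if_neg hψ]
    exact Finset.sum_const_zero

/-- If `b^G = B` and `ξ ∈ b`, then some `χ ∈ B` lies over `ξ`. -/
theorem induced_block_over [Fintype G] (M : Ideal Cfsg.AlgInt) (hM : M.IsMaximal)
    (H : Subgroup G) [Fintype H] (b : Set (Cfsg.IrrCharacter H)) (B : Set (Cfsg.IrrCharacter G))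
    (hind : Cfsg.IsInducedBlock M H b B) (ξ : Cfsg.IrrCharacter H) (hξ : ξ ∈ b) :
    ∃ χ ∈ B, Cfsg.classInner (fun h : H => (χ : G → ℂ) h) (ξ : H → ℂ) ≠ 0 := by
  classical
  haveI : Finite (Cfsg.IrrCharacter G) := irr_finite
  haveI : Fintype (Cfsg.IrrCharacter G) := Fintype.ofFinite _
  obtain ⟨hb, hB, hcong⟩ := hind
  obtain ⟨χ₀, hχ₀⟩ := hB
  have hχ₀B : χ₀ ∈ B := by rw [hχ₀]; exact mem_blockOf_self hM χ₀
  by_contra hcon
  push Not at hcon
  have hS : ∀ g : G, Cfsg.MemLocalRing M (Cfsg.blockCoeff B g) :=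
    fun g => osima hM B ⟨χ₀, hχ₀⟩ g
  set θ : G → ℂ := Cfsg.indFun H (ξ : H → ℂ) with hθ
  have hξ1 : (ξ : H → ℂ) 1 ≠ 0 := IsIrrCharacter.apply_one_ne_zero ξ.2
  have hχ1 : (χ₀ : G → ℂ) 1 ≠ 0 := IsIrrCharacter.apply_one_ne_zero χ₀.2
  have hI0 : (H.index : ℂ) ≠ 0 := by
    have : H.index ≠ 0 := Subgroup.index_ne_zero_of_finite
    exact_mod_cast this
  have hθ1 : θ 1 ≠ 0 := by
    rw [hθ, indFun_apply_one]
    exact mul_ne_zero hI0 hξ1
  have hθcf : Cfsg.IsClassFunction G θ := indFun_isClassFunction H _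
  have hχcf := IsCharacter.isClassFunction (IsIrrCharacter.isCharacter χ₀.2)
  have hBcf := blockCoeff_isClassFunction B
  -- the inner products with members of `B` vanish
  have hzero : ∑ g : G, Cfsg.blockCoeff B g * θ g = 0 := by
    rw [sum_blockCoeff_mul_fun]
    apply Finset.sum_eq_zero
    intro ψ _
    by_cases hψ : ψ ∈ B
    · rw [if_pos hψ]
      have h1 := frobenius_reciprocity H (ξ : H → ℂ) (ψ : G → ℂ)
        (IsCharacter.isClassFunction (IsIrrCharacter.isCharacter ψ.2))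
      have h2 := hcon ψ hψ
      rw [classInner_conj_symm] at h2
      have h3 : Cfsg.classInner (ξ : H → ℂ) (fun h : H => (ψ : G → ℂ) h) = 0 := by
        have := congrArg (starRingEnd ℂ) h2
        simpa using this
      rw [← hθ] at h1
      rw [h1, h3, mul_zero]
    · rw [if_neg hψ]
  set d : G → ℂ := fun g => Cfsg.blockCoeff B g *
    ((χ₀ : G → ℂ) g / (χ₀ : G → ℂ) 1 - θ g / θ 1) with hd
  have hdcf : Cfsg.IsClassFunction G d := by
    intro g h
    simp only [hd]
    rw [hBcf g h, hχcf g h, hθcf g h]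
  have hsum : ∑ g : G, d g = 1 := by
    have e1 := sum_blockCoeff_mul B χ₀
    rw [if_pos hχ₀B] at e1
    have : ∑ g : G, d g = (∑ g : G, Cfsg.blockCoeff B g * (χ₀ : G → ℂ) g) / (χ₀ : G → ℂ) 1 -
        (∑ g : G, Cfsg.blockCoeff B g * θ g) / θ 1 := by
      rw [Finset.sum_div, Finset.sum_div, ← Finset.sum_sub_distrib]
      apply Finset.sum_congr rfl
      intro g _
      simp only [hd]
      ring
    rw [this, e1, hzero, div_self hχ1, zero_div, sub_zero]
  have hJ : Cfsg.MemLocalIdeal M (∑ g ∈ (Finset.univ : Finset G), d g) := by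
    apply sum_mem_of_conj_closed (fun z => Cfsg.MemLocalIdeal M z) (memLocalIdeal_zero hM)
      (fun x y hx hy => MemLocalIdeal.add hM hx hy) d hdcf _ _ Finset.univ rfl
      (fun g _ x => Finset.mem_univ _)
    intro g
    have : ((Subgroup.centralizer ({g} : Set G)).index : ℂ) * d g =
        Cfsg.blockCoeff B g *
          (Cfsg.centralChar (χ₀ : G → ℂ) g - Cfsg.centralChar θ g) := by
      simp only [hd]
      unfold Cfsg.centralChar
      ring
    rw [this]
    apply MemLocalIdeal.mul_left hM (hS g)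
    rw [hθ, centralChar_indFun H _ hξ1 g, ← inducedCentralChar_eq_sum]
    have := hcong ξ hξ χ₀ hχ₀B g
    have h2 := MemLocalIdeal.neg this
    rwa [neg_sub] at h2
  rw [hsum] at hJ
  exact not_memLocalIdeal_one hJ

end Cfsg.Agent.Helper6
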