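import Mathlib
import Cfsg.Prelude.Def_Characters
import Cfsg.Prelude.Def_Blocks
import Cfsg.Agent.Helper6.BlockEquiv
import Cfsg.Agent.Helper6.Clifford
import Cfsg.Agent.Helper6.InducedBlock

/-!
# Covering of blocks of a normal subgroup: the central character congruence
-/

set_option autoImplicit false
set_option linter.style.haveILetI false

namespace Cfsg.Agent.Helper6

open scoped ComplexConjugate

universe u

variable {G : Type u} [Group G] {M : Ideal Cfsg.AlgInt}

/-- Clifford's theorem in functional form: a linear functional that is constant on the orbit of a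
constituent `θ` takes on the restriction of `χ` a fixed multiple of its value at `θ`. -/
theorem clifford_functional [Fintype G] (N : Subgroup G) [Fintype N] [hN : N.Normal] (χ : G → ℂ)
    (hχ : Cfsg.IsIrrCharacter G χ) (θ : N → ℂ) (hθ : Cfsg.IsIrrCharacter N θ)
    (hconst : Cfsg.classInner (fun n : N => χ n) θ ≠ 0) :
    ∃ c : ℂ, ∀ L : (N → ℂ) →ₗ[ℂ] ℂ, (∀ g : G, L (conjFun N θ g) = L θ) →
      L (fun n : N => χ n) = c * L θ := by
  classical
  have hcl := clifford N χ hχ θ hθ hconst
  have hfin : ({ψ : N → ℂ | ∃ g : G, ψ = conjFun N θ g}).Finite := by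
    have : {ψ : N → ℂ | ∃ g : G, ψ = conjFun N θ g} = Set.range (fun g : G => conjFun N θ g) := by
      ext ψ
      simp only [Set.mem_ofPred_eq, Set.mem_range]
      constructor
      · rintro ⟨g, rfl⟩; exact ⟨g, rfl⟩
      · rintro ⟨g, rfl⟩; exact ⟨g, rfl⟩
    rw [this]
    exact Set.finite_range _
  rw [finsum_mem_eq_finite_toFinset_sum _ hfin] at hcl
  refine ⟨Cfsg.classInner (fun n : N => χ n) θ * (hfin.toFinset.card : ℂ), ?_⟩
  intro L hL
  have this : ∀ ψ ∈ hfin.toFinset, L ψ = L θ := by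
    intro ψ hψ
    rw [Set.Finite.mem_toFinset] at hψ
    obtain ⟨g, rfl⟩ := hψ
    exact hL g
  have h := congrArg L hcl
  rw [map_smul, map_sum, smul_eq_mul, Finset.sum_congr rfl this, Finset.sum_const,
    nsmul_eq_mul] at h
  rw [h]
  ring

/-- The `G`-class of an element of a normal subgroup, as a finset of the subgroup. -/
noncomputable def normalClassFinset (N : Subgroup G) [Fintype N] (g : G) : Finset N := by
  classical exact Finset.univ.filter (fun m : N => IsConj g (m : G))

theorem mem_normalClassFinset (N : Subgroup G) [Fintype N] (g : G) (m : N) :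
    m ∈ normalClassFinset N g ↔ IsConj g (m : G) := by
  classical
  unfold normalClassFinset
  simp

theorem card_normalClassFinset [Fintype G] (N : Subgroup G) [hN : N.Normal] [Fintype N] (n : N) :
    (normalClassFinset N (n : G)).card = (Subgroup.centralizer ({(n : G)} : Set G)).index := by
  classical
  rw [← card_classFinset]
  have : classFinset (n : G) = (normalClassFinset N (n : G)).map ⟨Subtype.val, Subtype.val_injective⟩ := by
    ext x
    rw [mem_classFinset, Finset.mem_map]
    constructor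
    · intro hx
      obtain ⟨c, hc⟩ := isConj_iff.mp hx
      have hxN : x ∈ N := by
        rw [← hc]
        exact hN.conj_mem n n.2 c
      exact ⟨⟨x, hxN⟩, (mem_normalClassFinset N _ _).mpr hx, rfl⟩
    · rintro ⟨m, hm, rfl⟩
      exact (mem_normalClassFinset N _ _).mp hm
  rw [this, Finset.card_map]

theorem inducedCentralChar_eq_sum' (N : Subgroup G) [Fintype N] (ξ : N → ℂ) (g : G) :
    Cfsg.inducedCentralChar N ξ g = ∑ m ∈ normalClassFinset N g, ξ m / ξ 1 := by
  classical
  rw [inducedCentralChar_eq_sum]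
  unfold normalClassFinset
  rfl

/-- Sums over a `G`-class inside `N` are invariant under `G`-conjugation of the function. -/
theorem sum_normalClassFinset_conjFun (N : Subgroup G) [hN : N.Normal] [Fintype N] (g : G)
    (ψ : N → ℂ) (x : G) :
    ∑ m ∈ normalClassFinset N g, conjFun N ψ x m = ∑ m ∈ normalClassFinset N g, ψ m := by
  apply Finset.sum_bij (fun (m : N) _ => (⟨x * m * x⁻¹, hN.conj_mem m m.2 x⟩ : N))
  · intro m hm
    rw [mem_normalClassFinset] at hm ⊢
    exact hm.trans (isConj_iff.mpr ⟨x, rfl⟩)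
  · intro m _ m' _ h
    have := congrArg Subtype.val h
    simp only at this
    apply Subtype.ext
    have h2 : x * (m : G) * x⁻¹ = x * (m' : G) * x⁻¹ := this
    exact mul_left_cancel (mul_right_cancel h2)
  · intro m hm
    refine ⟨⟨x⁻¹ * m * x, by simpa using hN.conj_mem m m.2 x⁻¹⟩, ?_, ?_⟩
    · rw [mem_normalClassFinset] at hm ⊢
      exact hm.trans (isConj_iff.mpr ⟨x⁻¹, by simp⟩)
    · apply Subtype.ext
      simp only
      group
  · intro m _
    rfl

/-- **Exact formula**: if `θ` is a constituent of the restriction of `χ` to the normal subgroup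
`N`, the central character of `χ` on a class inside `N` is the induced central character of `θ`. -/
theorem centralChar_eq_induced_of_constituent [Fintype G] (N : Subgroup G) [hN : N.Normal]
    [Fintype N] (χ : Cfsg.IrrCharacter G) (θ : Cfsg.IrrCharacter N)
    (hconst : Cfsg.classInner (fun n : N => (χ : G → ℂ) n) (θ : N → ℂ) ≠ 0) (n : N) :
    Cfsg.centralChar (χ : G → ℂ) (n : G) = Cfsg.inducedCentralChar N (θ : N → ℂ) (n : G) := by
  classical
  obtain ⟨c, hc⟩ := clifford_functional N (χ : G → ℂ) χ.2 (θ : N → ℂ) θ.2 hconst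
  have hχ1 : (χ : G → ℂ) 1 ≠ 0 := IsIrrCharacter.apply_one_ne_zero χ.2
  have hθ1 : (θ : N → ℂ) 1 ≠ 0 := IsIrrCharacter.apply_one_ne_zero θ.2
  have hχcf := IsCharacter.isClassFunction (IsIrrCharacter.isCharacter χ.2)
  -- evaluation at one
  have h1 := hc (LinearMap.proj (1 : N)) (by
    intro g
    simp only [LinearMap.proj_apply]
    unfold conjFun
    exact congrArg _ (Subtype.ext (by simp)))
  simp only [LinearMap.proj_apply] at h1
  have h1' : (χ : G → ℂ) 1 = c * (θ : N → ℂ) 1 := h1
  have hc0 : c ≠ 0 := by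
    intro h
    rw [h, zero_mul] at h1'
    exact hχ1 h1'
  -- sum over the class
  have h2 := hc (∑ m ∈ normalClassFinset N (n : G), LinearMap.proj m) (by
    intro g
    simp only [LinearMap.coe_sum, Finset.sum_apply, LinearMap.proj_apply]
    exact sum_normalClassFinset_conjFun N (n : G) (θ : N → ℂ) g)
  simp only [LinearMap.coe_sum, Finset.sum_apply, LinearMap.proj_apply] at h2
  have h3 : ∑ m ∈ normalClassFinset N (n : G), (χ : G → ℂ) (m : G) =
      ((Subgroup.centralizer ({(n : G)} : Set G)).index : ℂ) * (χ : G → ℂ) (n : G) := by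
    rw [← card_normalClassFinset N n, ← nsmul_eq_mul, ← Finset.sum_const]
    apply Finset.sum_congr rfl
    intro m hm
    rw [mem_normalClassFinset] at hm
    obtain ⟨x, hx⟩ := isConj_iff.mp hm
    rw [← hx, hχcf]
  rw [inducedCentralChar_eq_sum', ← Finset.sum_div]
  unfold Cfsg.centralChar
  rw [← h3, h2, h1']
  field_simp

/-- Covering implies the central character congruence on the normal subgroup. -/
theorem covering_congr [Fintype G] (hM : M.IsMaximal) (N : Subgroup G) [hN : N.Normal]
    [Fintype N] (B : Set (Cfsg.IrrCharacter G)) (hB : Cfsg.IsPBlock M B)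
    (b : Set (Cfsg.IrrCharacter N)) (hb : Cfsg.IsPBlock M b)
    (χ₁ : Cfsg.IrrCharacter G) (hχ₁ : χ₁ ∈ B) (θ₁ : Cfsg.IrrCharacter N) (hθ₁ : θ₁ ∈ b)
    (hconst : Cfsg.classInner (fun n : N => (χ₁ : G → ℂ) n) (θ₁ : N → ℂ) ≠ 0)
    (χ : Cfsg.IrrCharacter G) (hχ : χ ∈ B) (θ : Cfsg.IrrCharacter N) (hθ : θ ∈ b) (n : N) :
    Cfsg.MemLocalIdeal M (Cfsg.centralChar (χ : G → ℂ) (n : G) -
      Cfsg.inducedCentralChar N (θ : N → ℂ) (n : G)) := by
  classical
  obtain ⟨χ₀, rfl⟩ := hB
  obtain ⟨θ₀, rfl⟩ := hb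
  have hsame1 : Cfsg.SameBlock M (χ : G → ℂ) (χ₁ : G → ℂ) :=
    sameBlock_trans hM (sameBlock_symm hχ) hχ₁
  have hsame2 : Cfsg.SameBlock M (θ₁ : N → ℂ) (θ : N → ℂ) :=
    sameBlock_trans hM (sameBlock_symm hθ₁) hθ
  have hA := centralChar_eq_induced_of_constituent N χ₁ θ₁ hconst n
  have hθ1 : (θ : N → ℂ) 1 ≠ 0 := IsIrrCharacter.apply_one_ne_zero θ.2
  have hθ₁1 : (θ₁ : N → ℂ) 1 ≠ 0 := IsIrrCharacter.apply_one_ne_zero θ₁.2
  have hθcf := IsCharacter.isClassFunction (IsIrrCharacter.isCharacter θ.2)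
  have hθ₁cf := IsCharacter.isClassFunction (IsIrrCharacter.isCharacter θ₁.2)
  have hsplit : Cfsg.centralChar (χ : G → ℂ) (n : G) -
      Cfsg.inducedCentralChar N (θ : N → ℂ) (n : G) =
      (Cfsg.centralChar (χ : G → ℂ) (n : G) - Cfsg.centralChar (χ₁ : G → ℂ) (n : G)) +
      (Cfsg.inducedCentralChar N (θ₁ : N → ℂ) (n : G) -
        Cfsg.inducedCentralChar N (θ : N → ℂ) (n : G)) := by
    rw [hA]; ring
  rw [hsplit]
  apply MemLocalIdeal.add hM (hsame1 (n : G))
  rw [inducedCentralChar_eq_sum', inducedCentralChar_eq_sum', ← Finset.sum_sub_distrib]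
  set d : N → ℂ := fun m => (θ₁ : N → ℂ) m / (θ₁ : N → ℂ) 1 - (θ : N → ℂ) m / (θ : N → ℂ) 1 with hd
  have hdcf : Cfsg.IsClassFunction N d := by
    intro m x
    simp only [hd]
    rw [hθcf m x, hθ₁cf m x]
  apply sum_mem_of_conj_closed (G := N) (fun z => Cfsg.MemLocalIdeal M z) (memLocalIdeal_zero hM)
    (fun x y hx hy => MemLocalIdeal.add hM hx hy) d hdcf _ _ (normalClassFinset N (n : G)) rfl
  · intro m hm x
    rw [mem_normalClassFinset] at hm ⊢
    have : ((x * m * x⁻¹ : N) : G) = (x : G) * (m : G) * (x : G)⁻¹ := by simp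
    rw [this]
    exact hm.trans (isConj_iff.mpr ⟨(x : G), rfl⟩)
  · intro m
    have : ((Subgroup.centralizer ({m} : Set N)).index : ℂ) * d m =
        Cfsg.centralChar (θ₁ : N → ℂ) m - Cfsg.centralChar (θ : N → ℂ) m := by
      simp only [hd]
      unfold Cfsg.centralChar
      ring
    rw [this]
    exact hsame2 m

end Cfsg.Agent.Helper6
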