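import Mathlib
import Cfsg.Prelude.Def_Characters
import Cfsg.Agent.Helper6.Constituent
import Cfsg.Agent.Helper6.Clifford
import Cfsg.Agent.Helper6.BrauerPerm2
import Cfsg.Agent.Helper6.Degrees

/-!
# The Clifford correspondence
-/

set_option autoImplicit false
set_option linter.style.haveILetI false

namespace Cfsg.Agent.Helper6

open Module Representation
open scoped ComplexConjugate

universe u v

variable {G : Type u} [Group G]

/-- Clifford's theorem for an invariant character, relative to an intermediate subgroup. -/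
theorem clifford_of_invariant [Fintype G] (H T : Subgroup G) [hN : H.Normal] (hHT : H ≤ T)
    [Fintype T] [Fintype H] (ϑ : H → ℂ) (hϑ : Cfsg.IsIrrCharacter H ϑ)
    (hinv : ∀ t ∈ T, conjFun H ϑ t = ϑ) (ψ : T → ℂ) (hψ : Cfsg.IsIrrCharacter T ψ)
    (hne : Cfsg.classInner (fun n : H => ψ ⟨(n : G), hHT n.2⟩) ϑ ≠ 0) :
    (fun n : H => ψ ⟨(n : G), hHT n.2⟩) =
      Cfsg.classInner (fun n : H => ψ ⟨(n : G), hHT n.2⟩) ϑ • ϑ := by
  classical
  let e : H.subgroupOf T ≃* H := Subgroup.subgroupOfEquivOfLe hHT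
  haveI : Fintype (H.subgroupOf T) := Fintype.ofFinite _
  have hϑ' : Cfsg.IsIrrCharacter (H.subgroupOf T) (ϑ ∘ e) := IsIrrCharacter.comp_mulEquiv e hϑ
  have hres : (fun n : H.subgroupOf T => ψ n) = (fun n : H => ψ ⟨(n : G), hHT n.2⟩) ∘ e := rfl
  have hinner : Cfsg.classInner (fun n : H.subgroupOf T => ψ n) (ϑ ∘ e) =
      Cfsg.classInner (fun n : H => ψ ⟨(n : G), hHT n.2⟩) ϑ := by
    rw [hres]
    exact classInner_comp_equiv' e.toEquiv _ _
  have hcl := clifford (H.subgroupOf T) ψ hψ (ϑ ∘ e) hϑ' (by rw [hinner]; exact hne)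
  have horbit : {φ : H.subgroupOf T → ℂ | ∃ t : T, φ = conjFun (H.subgroupOf T) (ϑ ∘ e) t} =
      {ϑ ∘ e} := by
    ext φ
    simp only [Set.mem_ofPred_eq, Set.mem_singleton_iff]
    have hconj : ∀ t : T, conjFun (H.subgroupOf T) (ϑ ∘ e) t = ϑ ∘ e := by
      intro t
      ext n
      have := congrFun (hinv t t.2) (e n)
      exact this
    constructor
    · rintro ⟨t, rfl⟩
      exact hconj t
    · intro h
      exact ⟨1, by rw [h, hconj]⟩
  rw [horbit, finsum_mem_singleton, hinner, hres] at hcl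
  ext n
  have := congrFun hcl (e.symm n)
  simpa using this


/-- The degree formula in Clifford's theorem: `χ(1) = e · |G : T| · ϑ(1)`. -/
theorem clifford_degree [Fintype G] (N : Subgroup G) [Fintype N] [hN : N.Normal] (χ : G → ℂ)
    (hχ : Cfsg.IsIrrCharacter G χ) (ϑ : N → ℂ) (hϑ : Cfsg.IsIrrCharacter N ϑ)
    (hne : Cfsg.classInner (fun n : N => χ n) ϑ ≠ 0) (T : Subgroup G)
    (hT : ∀ g : G, g ∈ T ↔ conjFun N ϑ g = ϑ) :
    χ 1 = Cfsg.classInner (fun n : N => χ n) ϑ * (T.index : ℂ) * ϑ 1 := by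
  classical
  have hcl := clifford N χ hχ ϑ hϑ hne
  have hsum := sum_conjFun N ϑ
  set S := ∑ᶠ ψ ∈ {ψ : N → ℂ | ∃ g : G, ψ = conjFun N ϑ g}, ψ with hS
  have hcard : Nat.card {g : G // conjFun N ϑ g = ϑ} = Nat.card T := by
    apply Nat.card_congr
    exact Equiv.subtypeEquivRight (fun g => (hT g).symm)
  rw [hcard] at hsum
  have h1 := congrFun hsum 1
  rw [Finset.sum_apply, Pi.smul_apply, smul_eq_mul] at h1
  have hterm : ∀ g : G, conjFun N ϑ g 1 = ϑ 1 := by
    intro g
    unfold conjFun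
    congr 1
    apply Subtype.ext
    simp
  simp_rw [hterm] at h1
  rw [Finset.sum_const, Finset.card_univ, nsmul_eq_mul, ← Nat.card_eq_fintype_card,
    ← T.index_mul_card] at h1
  have hT0 : (Nat.card T : ℂ) ≠ 0 := by
    have : 0 < Nat.card T := Nat.card_pos
    exact_mod_cast this.ne'
  have hS1 : S 1 = (T.index : ℂ) * ϑ 1 := by
    push_cast at h1
    have : (Nat.card T : ℂ) * S 1 = (Nat.card T : ℂ) * ((T.index : ℂ) * ϑ 1) := by
      rw [← h1]
      ring
    exact mul_left_cancel₀ hT0 this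
  have h2 := congrFun hcl 1
  rw [Pi.smul_apply, smul_eq_mul, hS1] at h2
  have : χ 1 = χ ((1 : N) : G) := rfl
  rw [this, h2]
  ring


/-- The Clifford correspondence. -/
theorem clifford_correspondence [Fintype G] (H : Subgroup G) [hN : H.Normal] [Fintype H]
    (ϑ : H → ℂ) (hϑ : Cfsg.IsIrrCharacter H ϑ) (T : Subgroup G) [Fintype T]
    (hT : ∀ g : G, g ∈ T ↔ ∀ n : H, ϑ ⟨g * n * g⁻¹, hN.conj_mem (n : G) n.2 g⟩ = ϑ n)
    (hHT : H ≤ T) (χ : G → ℂ) (hχ : Cfsg.IsIrrCharacter G χ)
    (hcon : Cfsg.classInner (fun n : H => χ n) ϑ ≠ 0) :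
    ∃ ψ : T → ℂ, Cfsg.IsIrrCharacter T ψ ∧ Cfsg.indFun T ψ = χ ∧
      Cfsg.classInner (fun n : H => ψ ⟨(n : G), hHT n.2⟩) ϑ =
        Cfsg.classInner (fun n : H => χ n) ϑ := by
  classical
  haveI : Finite (Cfsg.IrrCharacter T) := irr_finite
  haveI : Fintype (Cfsg.IrrCharacter T) := Fintype.ofFinite _
  have hχchar := IsIrrCharacter.isCharacter hχ
  have hχcf := IsCharacter.isClassFunction hχchar
  have hχT : Cfsg.IsCharacter T (fun t : T => χ t) := IsCharacter.restrict T hχchar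
  have hT' : ∀ g : G, g ∈ T ↔ conjFun H ϑ g = ϑ := by
    intro g
    rw [hT g]
    constructor
    · intro h
      funext n
      exact h n
    · intro h n
      exact congrFun h n
  -- Step 1: choose ψ
  have hex : ∃ ψ : Cfsg.IrrCharacter T, Cfsg.classInner (fun t : T => χ t) (ψ : T → ℂ) ≠ 0 ∧
      Cfsg.classInner (fun n : H => (ψ : T → ℂ) ⟨(n : G), hHT n.2⟩) ϑ ≠ 0 := by
    by_contra hno
    push Not at hno
    apply hcon
    have hexp := classFunction_expansion (fun t : T => χ t) (IsCharacter.isClassFunction hχT)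
    have hres : (fun n : H => χ n) = ∑ ψ : Cfsg.IrrCharacter T,
        Cfsg.classInner (fun t : T => χ t) (ψ : T → ℂ) •
          (fun n : H => (ψ : T → ℂ) ⟨(n : G), hHT n.2⟩) := by
      funext n
      have := congrFun hexp ⟨(n : G), hHT n.2⟩
      rw [Finset.sum_apply] at this
      rw [Finset.sum_apply]
      exact this
    rw [hres, classInner_sum_left]
    apply Finset.sum_eq_zero
    intro ψ _
    rw [classInner_smul_left]
    by_cases h : Cfsg.classInner (fun t : T => χ t) (ψ : T → ℂ) = 0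
    · rw [h, zero_mul]
    · rw [hno ψ h, mul_zero]
  obtain ⟨⟨ψ, hψ⟩, hc, hf⟩ := hex
  simp only at hc hf
  refine ⟨ψ, hψ, ?_⟩
  have hψchar := IsIrrCharacter.isCharacter hψ
  -- Step 2: Clifford in T
  have hclT := clifford_of_invariant H T hHT ϑ hϑ (fun t ht => (hT' t).mp ht) ψ hψ hf
  set f := Cfsg.classInner (fun n : H => ψ ⟨(n : G), hHT n.2⟩) ϑ with hfdef
  have hψ1 : ψ 1 = f * ϑ 1 := by
    have := congrFun hclT 1
    rw [Pi.smul_apply, smul_eq_mul] at this
    exact this
  -- Step 3: degree of χ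
  have hdeg := clifford_degree H χ hχ ϑ hϑ hcon T hT'
  set e := Cfsg.classInner (fun n : H => χ n) ϑ with hedef
  -- Step 4: constituents
  have hind : Cfsg.IsCharacter G (Cfsg.indFun T ψ) := isCharacter_indFun T ψ hψchar
  have hindχ : Cfsg.classInner (Cfsg.indFun T ψ) χ ≠ 0 := by
    rw [frobenius_reciprocity T ψ χ hχcf, classInner_conj_symm]
    intro h
    exact hc ((map_eq_zero (starRingEnd ℂ)).mp h)
  -- e - f is a natural number
  have hsubT : Cfsg.IsCharacter T ((fun t : T => χ t) - ψ) :=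
    sub_isCharacter_of_constituent hχT hψ hc
  have hsubH : Cfsg.IsCharacter H (fun n : H => ((fun t : T => χ t) - ψ) (Subgroup.inclusion hHT n)) :=
    IsCharacter.comp_hom (Subgroup.inclusion hHT) hsubT
  obtain ⟨k, hk⟩ := classInner_char_char_nat hsubH (IsIrrCharacter.isCharacter hϑ)
  have hk' : e - f = k := by
    rw [← hk, hedef, hfdef, ← classInner_sub_left]
    rfl
  -- Δ(1) is a natural number
  have hΔ : Cfsg.IsCharacter G (Cfsg.indFun T ψ - χ) :=
    sub_isCharacter_of_constituent hind hχ hindχ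
  obtain ⟨m, hm⟩ := IsCharacter.apply_one hΔ
  rw [Pi.sub_apply, indFun_apply_one, hψ1, hdeg] at hm
  obtain ⟨d, hd, -, hdpos⟩ := IsIrrCharacter.degree_dvd_card hϑ
  rw [hd] at hm
  have hidx : 0 < T.index := Nat.pos_of_ne_zero Subgroup.index_ne_zero_of_finite
  have hef : e = f + k := by rw [← hk']; ring
  rw [hef] at hm
  have hm' : ((m + k * T.index * d : ℕ) : ℂ) = 0 := by
    push_cast
    rw [← hm]
    ring
  have hm0 : m + k * T.index * d = 0 := by exact_mod_cast hm'
  have hk0 : k = 0 := by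
    have h1 : k * T.index * d = 0 := by omega
    have h2 : 0 < T.index * d := Nat.mul_pos hidx hdpos
    rw [mul_assoc] at h1
    rcases Nat.mul_eq_zero.mp h1 with h | h
    · exact h
    · omega
  have hfe : f = e := by rw [hef, hk0, Nat.cast_zero, add_zero]
  refine ⟨?_, hfe⟩
  apply eq_of_constituent_of_degree hind hχ hindχ
  rw [indFun_apply_one, hψ1, hdeg, hfe]
  ring

end Cfsg.Agent.Helper6
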