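import Mathlib
import Cfsg.Prelude.Def_Characters
import Cfsg.Agent.Helper6.IndFun
import Cfsg.Agent.Helper6.IndFun2
import Cfsg.Agent.Helper6.Induced
import Cfsg.Agent.Helper6.Expansion
import Cfsg.Agent.Helper6.IrrBasis
import Cfsg.Agent.Helper6.MGroup

/-!
# Elementary groups and the span of characters induced from their linear characters
-/

set_option autoImplicit false
set_option linter.style.haveILetI false

namespace Cfsg.Agent.Helper6

open scoped ComplexConjugate
open Module

universe u v

theorem IsElementary.of_mulEquiv {p : ℕ} {E E' : Type u} [Group E] [Group E'] (e : E ≃* E')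
    (h : Cfsg.IsElementary p E) : Cfsg.IsElementary p E' := by
  obtain ⟨x, hx, hcop, k, hk⟩ := h
  refine ⟨e x, ?_, ?_, k, ?_⟩
  · rw [Subgroup.mem_center_iff] at hx ⊢
    intro g
    obtain ⟨g, rfl⟩ := e.surjective g
    rw [← map_mul, ← map_mul, hx g]
  · rwa [MulEquiv.orderOf_eq]
  · have : Subgroup.zpowers (e x) = (Subgroup.zpowers x).map (e : E →* E') := by
      rw [MonoidHom.map_zpowers]
      rfl
    rw [this, Subgroup.index_map_equiv]
    exact hk

theorem normal_of_le_center {E : Type u} [Group E] (Z : Subgroup E) (hZ : Z ≤ Subgroup.center E) :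
    Z.Normal := by
  refine ⟨fun n hn g => ?_⟩
  have := Subgroup.mem_center_iff.mp (hZ hn) g
  rw [this, mul_inv_cancel_right]
  exact hn

theorem IsElementary.isNilpotent {p : ℕ} (hp : p.Prime) {E : Type u} [Group E] [Finite E]
    (h : Cfsg.IsElementary p E) : Group.IsNilpotent E := by
  haveI : Fact p.Prime := ⟨hp⟩
  obtain ⟨x, hx, hcop, k, hk⟩ := h
  have hZ : Subgroup.zpowers x ≤ Subgroup.center E := by
    rw [Subgroup.zpowers_le]
    exact hx
  haveI : (Subgroup.zpowers x).Normal := normal_of_le_center _ hZ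
  have hP : IsPGroup p (E ⧸ Subgroup.zpowers x) := by
    apply IsPGroup.of_card (n := k)
    rw [← Subgroup.index_eq_card]
    exact hk
  haveI : Group.IsNilpotent (E ⧸ Subgroup.zpowers x) := hP.isNilpotent
  have hsurj : Function.Surjective (QuotientGroup.map (Subgroup.zpowers x) (Subgroup.center E)
      (MonoidHom.id E) hZ) := by
    intro q
    obtain ⟨g, rfl⟩ := QuotientGroup.mk_surjective q
    exact ⟨(g : E ⧸ Subgroup.zpowers x), rfl⟩
  have := Group.nilpotent_of_surjective _ hsurj
  exact Group.of_quotient_center_nilpotent this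

theorem IsElementary.subgroup {p : ℕ} (hp : p.Prime) {E : Type u} [Group E] [Finite E]
    (h : Cfsg.IsElementary p E) (U : Subgroup E) : Cfsg.IsElementary p U := by
  obtain ⟨x, hx, hcop, k, hk⟩ := h
  have hZ : Subgroup.zpowers x ≤ Subgroup.center E := by
    rw [Subgroup.zpowers_le]
    exact hx
  haveI : (Subgroup.zpowers x).Normal := normal_of_le_center _ hZ
  -- W = ⟨x⟩ ∩ U inside U is cyclic
  haveI : IsCyclic ((Subgroup.zpowers x).subgroupOf U) := by
    let f : (Subgroup.zpowers x).subgroupOf U →* Subgroup.zpowers x :=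
      { toFun := fun w => ⟨((w : U) : E), Subgroup.mem_subgroupOf.mp w.2⟩
        map_one' := rfl
        map_mul' := fun _ _ => rfl }
    apply isCyclic_of_injective f
    intro a b hab
    apply Subtype.ext
    apply Subtype.ext
    exact congrArg (fun z : Subgroup.zpowers x => (z : E)) hab
  obtain ⟨w, hw⟩ := IsCyclic.exists_generator (α := (Subgroup.zpowers x).subgroupOf U)
  have hzw : Subgroup.zpowers (w : U) = (Subgroup.zpowers x).subgroupOf U := by
    have h1 : Subgroup.zpowers w = ⊤ := by
      rw [Subgroup.eq_top_iff']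
      exact hw
    have h2 := congrArg (Subgroup.map ((Subgroup.zpowers x).subgroupOf U).subtype) h1
    rw [MonoidHom.map_zpowers, ← MonoidHom.range_eq_map, Subgroup.range_subtype] at h2
    exact h2
  have hwE : ((w : U) : E) ∈ Subgroup.zpowers x := Subgroup.mem_subgroupOf.mp w.2
  refine ⟨(w : U), ?_, ?_, ?_⟩
  · rw [Subgroup.mem_center_iff]
    intro g
    apply Subtype.ext
    exact Subgroup.mem_center_iff.mp (hZ hwE) g
  · have h1 : orderOf (w : U) = orderOf ((w : U) : E) := (Subgroup.orderOf_coe _).symm
    rw [h1]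
    exact Nat.Coprime.coprime_dvd_left (orderOf_dvd_of_mem_zpowers hwE) hcop
  · rw [hzw]
    have h1 : ((Subgroup.zpowers x).subgroupOf U).index ∣ (Subgroup.zpowers x).index :=
      Subgroup.relIndex_dvd_index_of_normal (Subgroup.zpowers x) U
    rw [hk] at h1
    obtain ⟨j, _, hj⟩ := (Nat.dvd_prime_pow hp).mp h1
    exact ⟨j, hj⟩

/-- The additive group generated by the functions induced from linear characters of
`p`-elementary subgroups. -/
noncomputable def BrauerSpan (p : ℕ) (X : Type u) [Group X] [Fintype X] : AddSubgroup (X → ℂ) :=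
  AddSubgroup.closure {f | ∃ (E : Subgroup X) (lam : E →* ℂˣ), Cfsg.IsElementary p E ∧
    f = Cfsg.indFun E (fun e => ((lam e : ℂˣ) : ℂ))}

theorem BrauerSpan.indFun_mem {p : ℕ} {X : Type u} [Group X] [Fintype X] (T : Subgroup X)
    [Fintype T] {f : T → ℂ} (hf : f ∈ BrauerSpan p T) : Cfsg.indFun T f ∈ BrauerSpan p X := by
  unfold BrauerSpan at hf
  induction hf using AddSubgroup.closure_induction with
  | mem f hf =>
    obtain ⟨E, lam, hE, rfl⟩ := hf
    apply AddSubgroup.subset_closure
    refine ⟨E.map T.subtype, lam.comp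
      (Subgroup.equivMapOfInjective E T.subtype T.subtype_injective).symm.toMonoidHom, ?_, ?_⟩
    · exact IsElementary.of_mulEquiv
        (Subgroup.equivMapOfInjective E T.subtype T.subtype_injective) hE
    · rw [indFun_indFun_subtype]
      rfl
  | zero => rw [indFun_zero]; exact zero_mem _
  | add f g _ _ hf hg => rw [indFun_add]; exact add_mem hf hg
  | neg f _ hf => rw [indFun_neg]; exact neg_mem hf

/-- every character of a `p`-elementary group lies in the span -/
theorem BrauerSpan.of_elementary {p : ℕ} (hp : p.Prime) {X : Type u} [Group X] [Fintype X]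
    (hX : Cfsg.IsElementary p X) {χ : X → ℂ} (hχ : Cfsg.IsCharacter X χ) :
    χ ∈ BrauerSpan p X := by
  classical
  haveI : Finite (Cfsg.IrrCharacter X) := irr_finite
  haveI : Fintype (Cfsg.IrrCharacter X) := Fintype.ofFinite _
  haveI : Group.IsNilpotent X := IsElementary.isNilpotent hp hX
  rw [classFunction_expansion χ (IsCharacter.isClassFunction hχ)]
  apply sum_mem
  intro φ _
  obtain ⟨n, hn⟩ := classInner_char_char_nat hχ (IsIrrCharacter.isCharacter φ.2)
  rw [hn, Nat.cast_smul_eq_nsmul]
  apply nsmul_mem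
  obtain ⟨H, lam, hφ⟩ := nilpotent_monomial (φ : X → ℂ) φ.2
  apply AddSubgroup.subset_closure
  exact ⟨H, lam, IsElementary.subgroup hp hX H, hφ⟩

end Cfsg.Agent.Helper6
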