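import Mathlib
import Cfsg.Prelude.Def_Characters
import Cfsg.Agent.Helper6.Brauer3

/-!
# Quasi-elementary groups: the induction step
-/

set_option autoImplicit false
set_option linter.style.haveILetI false

namespace Cfsg.Agent.Helper6

open scoped ComplexConjugate
open Module

universe u v

variable {Q : Type u} [Group Q]

set_option maxHeartbeats 800000 in
theorem qe_step {p : ℕ} [hp : Fact p.Prime] [Fintype Q] (hQ : QEGroup p Q) :
    ∃ E : Subgroup Q, Cfsg.IsElementary p E ∧
      ∀ ψ : Q → ℂ, Cfsg.IsIrrCharacter Q ψ →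
        Cfsg.classInner (Cfsg.indFun E (fun _ => (1 : ℂ))) ψ ≠ 0 →
        ψ = (fun _ => (1 : ℂ)) ∨
          ∃ T : Subgroup Q, T ≠ ⊤ ∧ ∃ θ : T → ℂ, Cfsg.IsIrrCharacter T θ ∧
            Cfsg.indFun T θ = ψ := by
  classical
  obtain ⟨C, P, hCn, hCc, hcop, hP, hcompl⟩ := qe_data hQ
  haveI := hCn
  haveI := hCc
  refine ⟨(C ⊓ Subgroup.centralizer (P : Set Q)) ⊔ P, elementary_sup C P hcop hP, ?_⟩
  intro ψ hψ hne
  set Z := C ⊓ Subgroup.centralizer (P : Set Q) with hZ
  set E := Z ⊔ P with hE
  haveI : Fintype E := Fintype.ofFinite _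
  haveI : Fintype C := Fintype.ofFinite _
  haveI : Fintype P := Fintype.ofFinite _
  haveI : Fintype Z := Fintype.ofFinite _
  have hψc := IsIrrCharacter.isCharacter hψ
  have hψcf := IsCharacter.isClassFunction hψc
  rw [frobenius_reciprocity E _ ψ hψcf] at hne
  have hne' : Cfsg.classInner (fun e : E => ψ e) (fun _ => (1 : ℂ)) ≠ 0 := by
    rw [classInner_conj_symm]
    intro h0
    apply hne
    have := congrArg conj h0
    simpa using this
  -- a linear constituent of the restriction to C
  have hres : Cfsg.IsCharacter C (fun c : C => ψ c) := IsCharacter.restrict C hψc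
  have hresne : (fun c : C => ψ c) ≠ 0 := by
    intro h0
    have := congrFun h0 1
    exact IsIrrCharacter.apply_one_ne_zero hψ this
  obtain ⟨lam, hlam, hcon⟩ := exists_irr_constituent hres hresne
  have hlam1 : lam 1 = 1 := by
    have hcomm : ∀ a b : C, a * b = b * a := by
      intro a b
      exact IsCyclic.isMulCommutative.is_comm.comm a b
    exact (comm_iff_forall_irr_degree_one.mp hcomm) ⟨lam, hlam⟩
  obtain ⟨μ, hμ⟩ := exists_hom_of_irr_degree_one hlam hlam1
  have hlamc : ∀ c : C, lam c = ((μ c : ℂˣ) : ℂ) := fun c => congrFun hμ c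
  haveI : Fintype (conjStab C lam) := Fintype.ofFinite _
  have hCT : C ≤ conjStab C lam := by
    intro a ha
    rw [mem_conjStab]
    funext n
    have hcf := IsCharacter.isClassFunction (IsIrrCharacter.isCharacter hlam)
    exact hcf n ⟨a, ha⟩
  have hT : ∀ g, g ∈ conjStab C lam ↔
      ∀ n : C, lam ⟨g * n * g⁻¹, hCn.conj_mem n n.2 g⟩ = lam n := by
    intro g
    rw [mem_conjStab]
    constructor
    · intro h n
      exact congrFun h n
    · intro h
      funext n
      exact h n
  by_cases htop : conjStab C lam = ⊤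
  · left
    -- Clifford: restriction to C is a multiple of lam
    have hcl := clifford C ψ hψ lam hlam hcon
    have hset : {φ : C → ℂ | ∃ g : Q, φ = conjFun C lam g} = {lam} := by
      ext φ
      constructor
      · rintro ⟨g, rfl⟩
        have : g ∈ conjStab C lam := htop ▸ Subgroup.mem_top g
        exact (mem_conjStab C lam g).mp this
      · intro h
        rw [Set.mem_singleton_iff] at h
        rw [h]
        exact ⟨1, (conjFun_one C lam).symm⟩
    rw [hset, finsum_mem_singleton] at hcl
    have hψC : ∀ c : C, ψ c = Cfsg.classInner (fun n : C => ψ n) lam * lam c :=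
      fun c => congrFun hcl c
    have he : ψ 1 = Cfsg.classInner (fun n : C => ψ n) lam := by
      have := hψC 1
      rw [hlam1, mul_one] at this
      exact this
    have he0 : Cfsg.classInner (fun n : C => ψ n) lam ≠ 0 := by
      rw [← he]
      exact IsIrrCharacter.apply_one_ne_zero hψ
    -- Z lies in the kernel of μ
    have hsumZ : ∑ z : Z, ψ z ≠ 0 :=
      sum_ne_zero_of_trivial_constituent hψc E Z le_sup_left hne'
    have hZC : Z ≤ C := inf_le_left
    let ν : Z →* ℂ :=
      { toFun := fun z => ((μ ⟨(z : Q), hZC z.2⟩ : ℂˣ) : ℂ)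
        map_one' := by
          have : (⟨((1 : Z) : Q), hZC (1 : Z).2⟩ : C) = 1 := rfl
          rw [this, map_one, Units.val_one]
        map_mul' := by
          intro a b
          have : (⟨((a * b : Z) : Q), hZC (a * b : Z).2⟩ : C) =
              ⟨(a : Q), hZC a.2⟩ * ⟨(b : Q), hZC b.2⟩ := rfl
          rw [this, map_mul, Units.val_mul] }
    have hν1 : ν = 1 := by
      by_contra hν
      have h0 := sum_hom_units_eq_zero ν hν
      apply hsumZ
      have : ∑ z : Z, ψ z = Cfsg.classInner (fun n : C => ψ n) lam * ∑ z : Z, ν z := by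
        rw [Finset.mul_sum]
        apply Finset.sum_congr rfl
        intro z _
        have := hψC ⟨(z : Q), hZC z.2⟩
        rw [hlamc] at this
        exact this
      rw [this, h0, mul_zero]
    have hμZ : ∀ c : C, (∀ x ∈ P, x * (c : Q) * x⁻¹ = c) → μ c = 1 := by
      intro c hc
      have hcZ : (c : Q) ∈ Z := by
        refine Subgroup.mem_inf.mpr ⟨c.2, ?_⟩
        rw [Subgroup.mem_centralizer_iff]
        intro x hx
        have := hc x hx
        rw [mul_inv_eq_iff_eq_mul] at this
        exact this
      have := congrFun (congrArg DFunLike.coe hν1) ⟨(c : Q), hcZ⟩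
      apply Units.ext
      exact this
    have hinv : ∀ x ∈ P, ∀ c : C, μ ⟨x * c * x⁻¹, hCn.conj_mem c c.2 x⟩ = μ c := by
      intro x _ c
      have hx : x ∈ conjStab C lam := htop ▸ Subgroup.mem_top x
      have := (hT x).mp hx c
      rw [hlamc, hlamc] at this
      exact Units.ext this
    have hμ1 := hom_eq_one_of_invariant p C P hP hcop μ hinv hμZ
    -- C is in the kernel of ψ
    have hker : ∀ c : C, ψ c = ψ 1 := by
      intro c
      rw [hψC c, hlamc, hμ1 c, Units.val_one, mul_one, ← he]
    -- ψ has nonzero inner product with the trivial character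
    have hsumP : ∑ x : P, ψ x ≠ 0 :=
      sum_ne_zero_of_trivial_constituent hψc E P le_sup_right hne'
    have hsumQ : ∑ g : Q, ψ g = (Nat.card C : ℂ) * ∑ x : P, ψ x := by
      rw [sum_eq_sum_complement P C hcompl.symm ψ, Finset.mul_sum]
      apply Finset.sum_congr rfl
      intro x _
      have : ∀ c : C, ψ ((x : Q) * (c : Q)) = ψ x := fun c =>
        char_mul_eq_of_apply_eq hψc (c : Q) (hker c) x
      simp_rw [this]
      rw [Finset.sum_const, Finset.card_univ, nsmul_eq_mul, Nat.card_eq_fintype_card]
    by_contra hψ1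
    have h0 := classInner_irr_ne hψ (isIrrCharacter_one (G := Q)) hψ1
    rw [classInner_def] at h0
    have hcardQ : (Nat.card Q : ℂ) ≠ 0 := by exact_mod_cast Nat.card_pos.ne'
    have hcardC : (Nat.card C : ℂ) ≠ 0 := by exact_mod_cast Nat.card_pos.ne'
    have h1 : ∑ g : Q, ψ g = 0 := by
      have h2 : ∑ g : Q, ψ g * conj (1 : ℂ) = 0 := by
        rcases mul_eq_zero.mp h0 with h | h
        · exact absurd (inv_eq_zero.mp h) hcardQ
        · exact h
      simpa using h2
    rw [hsumQ] at h1
    rcases mul_eq_zero.mp h1 with h | h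
    · exact hcardC h
    · exact hsumP h
  · right
    obtain ⟨θ, hθ, hind, -⟩ :=
      clifford_correspondence C lam hlam (conjStab C lam) hT hCT ψ hψ hcon
    exact ⟨conjStab C lam, htop, θ, hθ, hind⟩

end Cfsg.Agent.Helper6
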