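import Mathlib
import Cfsg.Prelude.Def_Characters
import Cfsg.Agent.Helper6.Brauer4
import Cfsg.Agent.Helper6.Artin

/-!
# Characters of quasi-elementary groups lie in the Brauer span
-/

set_option autoImplicit false
set_option linter.style.haveILetI false

namespace Cfsg.Agent.Helper6

open scoped ComplexConjugate
open Module

universe u v

theorem classInner_indFun_one_one {Q : Type u} [Group Q] [Fintype Q] (E : Subgroup Q)
    [Fintype E] :
    Cfsg.classInner (Cfsg.indFun E (fun _ => (1 : ℂ))) (fun _ => (1 : ℂ)) = 1 := by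
  have hcf : Cfsg.IsClassFunction Q (fun _ => (1 : ℂ)) := fun _ _ => rfl
  rw [frobenius_reciprocity E _ _ hcf, classInner_def]
  simp only [map_one, mul_one, Finset.sum_const, Finset.card_univ, nsmul_eq_mul]
  rw [Nat.card_eq_fintype_card, inv_mul_cancel₀]
  exact_mod_cast Fintype.card_ne_zero

set_option maxHeartbeats 800000 in
theorem qe_char_mem_aux {p : ℕ} [hp : Fact p.Prime] : ∀ (n : ℕ) (Q : Type u) [Group Q]
    [Fintype Q], Fintype.card Q = n → QEGroup p Q → ∀ χ : Q → ℂ, Cfsg.IsCharacter Q χ →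
      χ ∈ BrauerSpan p Q := by
  intro n
  induction n using Nat.strong_induction_on with
  | _ n ih =>
  intro Q _ _ hcard hQ χ hχ
  classical
  haveI : Finite (Cfsg.IrrCharacter Q) := irr_finite
  haveI : Fintype (Cfsg.IrrCharacter Q) := Fintype.ofFinite _
  have hχcf := IsCharacter.isClassFunction hχ
  obtain ⟨E, hE, hstep⟩ := qe_step hQ
  haveI : Fintype E := Fintype.ofFinite _
  have hΦchar : Cfsg.IsCharacter Q (Cfsg.indFun E (fun _ => (1 : ℂ))) :=
    isCharacter_indFun E _ (IsIrrCharacter.isCharacter (isIrrCharacter_one (G := E)))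
  have hexp := classFunction_expansion (Cfsg.indFun E (fun _ => (1 : ℂ)))
    (IsCharacter.isClassFunction hΦchar)
  have h1 : χ * Cfsg.indFun E (fun _ => (1 : ℂ)) ∈ BrauerSpan p Q := by
    rw [mul_indFun E _ χ hχcf]
    apply BrauerSpan.indFun_mem
    have : (fun h : E => χ h * 1) = fun h : E => χ h := by
      funext h
      rw [mul_one]
    rw [this]
    exact BrauerSpan.of_elementary hp.out hE (IsCharacter.restrict E hχ)
  have h2 : ∀ ψ : Cfsg.IrrCharacter Q, (ψ : Q → ℂ) ≠ (fun _ => (1 : ℂ)) →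
      Cfsg.classInner (Cfsg.indFun E (fun _ => (1 : ℂ))) (ψ : Q → ℂ) ≠ 0 →
      χ * (ψ : Q → ℂ) ∈ BrauerSpan p Q := by
    intro ψ hψ1 hne
    rcases hstep ψ ψ.2 hne with h | ⟨T, hT, θ, hθ, hind⟩
    · exact absurd h hψ1
    · haveI : Fintype T := Fintype.ofFinite _
      have hlt : Fintype.card T < n := by
        rw [← hcard, ← Nat.card_eq_fintype_card, ← Nat.card_eq_fintype_card]
        apply lt_of_le_of_ne (Subgroup.card_le_card_group T)
        intro h
        exact hT (Subgroup.card_eq_iff_eq_top T |>.mp h)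
      rw [← hind, mul_indFun T θ χ hχcf]
      apply BrauerSpan.indFun_mem
      apply ih (Fintype.card T) hlt T rfl (hQ.subgroup hp.out T)
      exact IsCharacter.mul (IsCharacter.restrict T hχ) (IsIrrCharacter.isCharacter hθ)
  have h3 := classInner_indFun_one_one E
  set ψ₁ : Cfsg.IrrCharacter Q := ⟨fun _ => (1 : ℂ), isIrrCharacter_one⟩ with hψ₁
  rw [← Finset.add_sum_erase _ _ (Finset.mem_univ ψ₁)] at hexp
  have hψ₁c : (ψ₁ : Q → ℂ) = fun _ => (1 : ℂ) := rfl
  rw [hψ₁c, h3, one_smul] at hexp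
  have h4 : χ = χ * Cfsg.indFun E (fun _ => (1 : ℂ)) -
      ∑ ψ ∈ Finset.univ.erase ψ₁,
        Cfsg.classInner (Cfsg.indFun E (fun _ => (1 : ℂ))) (ψ : Q → ℂ) • (χ * (ψ : Q → ℂ)) := by
    have key : χ * Cfsg.indFun E (fun _ => (1 : ℂ)) = χ +
        ∑ ψ ∈ Finset.univ.erase ψ₁,
          Cfsg.classInner (Cfsg.indFun E (fun _ => (1 : ℂ))) (ψ : Q → ℂ) •
            (χ * (ψ : Q → ℂ)) := by
      conv_lhs => rw [hexp]
      rw [mul_add, Finset.mul_sum]
      have : χ * (fun _ => (1 : ℂ)) = χ := by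
        funext g
        simp
      rw [this]
      simp only [mul_smul_comm]
    rw [key, add_sub_cancel_right]
  rw [h4]
  apply sub_mem h1
  apply sum_mem
  intro ψ hψ
  obtain ⟨m, hm⟩ := classInner_char_char_nat hΦchar (IsIrrCharacter.isCharacter ψ.2)
  rw [hm, Nat.cast_smul_eq_nsmul]
  by_cases hm0 : m = 0
  · rw [hm0, zero_smul]
    exact zero_mem _
  · apply nsmul_mem
    apply h2 ψ
    · intro h
      exact (Finset.mem_erase.mp hψ).1 (Subtype.ext h)
    · rw [hm]
      exact_mod_cast hm0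

theorem qe_char_mem {p : ℕ} [hp : Fact p.Prime] {Q : Type u} [Group Q] [Fintype Q]
    (hQ : QEGroup p Q) {χ : Q → ℂ} (hχ : Cfsg.IsCharacter Q χ) : χ ∈ BrauerSpan p Q :=
  qe_char_mem_aux _ Q rfl hQ χ hχ

end Cfsg.Agent.Helper6
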