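import Mathlib
import Cfsg.Prelude.Def_Characters
import Cfsg.Agent.Helper6.IndFun

/-!
# The permutation character of a transitive action
-/

set_option autoImplicit false
set_option linter.style.haveILetI false

namespace Cfsg.Agent.Helper6

open scoped ComplexConjugate

universe u v

variable {G : Type u} [Group G]

theorem card_fiber_smul [Fintype G] [DecidableEq G] (X : Type v) [MulAction G X] [DecidableEq X]
    [MulAction.IsPretransitive G X] (x z : X) :
    (Finset.univ.filter (fun y : G => y • x = z)).card = Nat.card (MulAction.stabilizer G x) := by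
  classical
  obtain ⟨y₀, hy₀⟩ := MulAction.exists_smul_eq G x z
  rw [Nat.card_eq_fintype_card, ← Fintype.card_subtype]
  apply Fintype.card_congr
  refine
    { toFun := fun y => ⟨y₀⁻¹ * y.1, ?_⟩
      invFun := fun s => ⟨y₀ * s.1, ?_⟩
      left_inv := ?_
      right_inv := ?_ }
  · rw [MulAction.mem_stabilizer_iff, mul_smul, y.2, ← hy₀, inv_smul_smul]
  · rw [mul_smul, MulAction.mem_stabilizer_iff.mp s.2, hy₀]
  · intro y
    apply Subtype.ext
    simp
  · intro s
    apply Subtype.ext
    simp

/-- The permutation character of a transitive action is induced from the trivial character of a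
point stabilizer. -/
theorem permChar_eq_indFun [Fintype G] (X : Type v) [MulAction G X] [Finite X]
    [MulAction.IsPretransitive G X] (x : X) :
    (fun g : G => (Nat.card (MulAction.fixedBy X g) : ℂ)) =
      Cfsg.indFun (MulAction.stabilizer G x) (fun _ => 1) := by
  classical
  haveI : Fintype X := Fintype.ofFinite X
  ext g
  rw [indFun_apply]
  have hterm : ∀ y : G, Cfsg.extendByZero (MulAction.stabilizer G x) (fun _ => (1 : ℂ))
      (y⁻¹ * g * y) = if g • (y • x) = y • x then 1 else 0 := by
    intro y
    have hiff : y⁻¹ * g * y ∈ MulAction.stabilizer G x ↔ g • (y • x) = y • x := by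
      rw [MulAction.mem_stabilizer_iff, mul_smul, mul_smul, inv_smul_eq_iff]
    split_ifs with h
    · rw [extendByZero_mem _ _ (hiff.mpr h)]
    · rw [extendByZero_not_mem _ _ (fun hm => h (hiff.mp hm))]
  simp_rw [hterm]
  have hcomp := Finset.sum_comp (s := (Finset.univ : Finset G))
    (fun z : X => if g • z = z then (1 : ℂ) else 0) (fun y : G => y • x)
  rw [hcomp]
  have himage : (Finset.univ : Finset G).image (fun y : G => y • x) = Finset.univ := by
    rw [Finset.eq_univ_iff_forall]
    intro z
    obtain ⟨y, hy⟩ := MulAction.exists_smul_eq G x z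
    exact Finset.mem_image.mpr ⟨y, Finset.mem_univ _, hy⟩
  rw [himage]
  simp_rw [card_fiber_smul X x]
  rw [← Finset.smul_sum, Finset.sum_boole, nsmul_eq_mul]
  have hS : (Nat.card (MulAction.stabilizer G x) : ℂ) ≠ 0 := by
    have : 0 < Nat.card (MulAction.stabilizer G x) := Nat.card_pos
    exact_mod_cast this.ne'
  rw [← mul_assoc, inv_mul_cancel₀ hS, one_mul]
  congr 1
  rw [Nat.card_eq_fintype_card, Fintype.card_subtype]
  congr 1

end Cfsg.Agent.Helper6
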