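import Mathlib
import Cfsg.Prelude.Def_Characters
import Cfsg.Agent.Helper6.IndFun
import Cfsg.Agent.Helper6.PermChar

/-!
# The permutation character of an arbitrary finite action as a sum over orbits
-/

set_option autoImplicit false
set_option linter.style.haveILetI false

namespace Cfsg.Agent.Helper6

open scoped ComplexConjugate

universe u v

variable {G : Type u} [Group G]

theorem card_fixedBy_eq_sum [Fintype G] (X : Type v) [MulAction G X] [Fintype X] [DecidableEq X]
    (g : G) : (Nat.card (MulAction.fixedBy X g) : ℂ) = ∑ z : X, if g • z = z then (1 : ℂ) else 0 := by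
  classical
  rw [Finset.sum_boole, Nat.card_eq_fintype_card, Fintype.card_subtype]
  congr 1

theorem stabilizer_orbit_subtype (X : Type v) [MulAction G X] (x : X) :
    MulAction.stabilizer G (⟨x, MulAction.mem_orbit_self x⟩ : MulAction.orbit G x) =
      MulAction.stabilizer G x := by
  ext g
  rw [MulAction.mem_stabilizer_iff, MulAction.mem_stabilizer_iff, Subtype.ext_iff]
  rfl

open Classical in
/-- The induced trivial character from a point stabilizer counts fixed points in the orbit. -/
theorem indFun_stabilizer_apply [Fintype G] (X : Type v) [MulAction G X] [Fintype X]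
    (x : X) (g : G) :
    Cfsg.indFun (MulAction.stabilizer G x) (fun _ => 1) g =
      ∑ z : X, if z ∈ MulAction.orbit G x ∧ g • z = z then (1 : ℂ) else 0 := by
  classical
  have h1 := congrFun (permChar_eq_indFun (MulAction.orbit G x)
    (⟨x, MulAction.mem_orbit_self x⟩ : MulAction.orbit G x)) g
  rw [stabilizer_orbit_subtype] at h1
  rw [← h1]
  haveI : Fintype (MulAction.orbit G x) := Fintype.ofFinite _
  rw [card_fixedBy_eq_sum]
  have h2 : ∑ z : X, (if z ∈ MulAction.orbit G x ∧ g • z = z then (1 : ℂ) else 0) =
      ∑ z : X, if z ∈ MulAction.orbit G x then (if g • z = z then (1 : ℂ) else 0) else 0 := by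
    apply Finset.sum_congr rfl
    intro z _
    by_cases hz : z ∈ MulAction.orbit G x
    · simp [hz]
    · simp [hz]
  have h3 : ∑ z : X, (if z ∈ MulAction.orbit G x then
      (if g • z = z then (1 : ℂ) else 0) else 0) =
      ∑ z ∈ Finset.univ.filter (fun z : X => z ∈ MulAction.orbit G x),
        (if g • z = z then (1 : ℂ) else 0) := (Finset.sum_filter _ _).symm
  rw [h2, h3]
  rw [Finset.sum_subtype (Finset.univ.filter (fun z : X => z ∈ MulAction.orbit G x))
    (p := fun z => z ∈ MulAction.orbit G x) (by intro z; simp)
    (fun z => if g • z = z then (1 : ℂ) else 0)]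
  apply Finset.sum_congr rfl
  intro z _
  simp only [Subtype.ext_iff, MulAction.orbit.coe_smul]

/-- The permutation character of a finite action is the sum over orbits of the trivial characters
induced from point stabilizers. -/
theorem permChar_eq_sum_indFun [Fintype G] (X : Type v) [MulAction G X] [Finite X]
    [Fintype (MulAction.orbitRel.Quotient G X)]
    (rep : MulAction.orbitRel.Quotient G X → X)
    (hrep : ∀ ω, (Quotient.mk'' (rep ω) : MulAction.orbitRel.Quotient G X) = ω) :
    (fun g : G => (Nat.card (MulAction.fixedBy X g) : ℂ)) =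
      ∑ ω : MulAction.orbitRel.Quotient G X,
        Cfsg.indFun (MulAction.stabilizer G (rep ω)) (fun _ => 1) := by
  classical
  haveI : Fintype X := Fintype.ofFinite X
  ext g
  rw [Finset.sum_apply, card_fixedBy_eq_sum]
  simp_rw [indFun_stabilizer_apply]
  rw [Finset.sum_comm]
  apply Finset.sum_congr rfl
  intro z _
  rw [Finset.sum_eq_single (Quotient.mk'' z : MulAction.orbitRel.Quotient G X)]
  · have hz : z ∈ MulAction.orbit G (rep (Quotient.mk'' z : MulAction.orbitRel.Quotient G X)) := by
      have := hrep (Quotient.mk'' z : MulAction.orbitRel.Quotient G X)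
      rw [Quotient.eq''] at this
      exact MulAction.orbitRel_apply.mp ((MulAction.orbitRel G X).symm this)
    simp [hz]
  · intro ω _ hω
    have hz : z ∉ MulAction.orbit G (rep ω) := by
      intro hz
      apply hω
      rw [← hrep ω, Quotient.eq'']
      exact MulAction.orbitRel_apply.mpr (by
        rw [MulAction.orbit_eq_iff.mpr hz]
        exact MulAction.mem_orbit_self _)
    simp [hz]
  · intro h
    exact absurd (Finset.mem_univ _) h

end Cfsg.Agent.Helper6
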