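import Mathlib
import Cfsg.Prelude.Def_Characters
import Cfsg.Agent.Helper6.IndFun
import Cfsg.Agent.Helper6.PermChar

/-!
# Quasi-elementary subgroups and permutation characters not divisible by `p`
-/

set_option autoImplicit false
set_option linter.style.haveILetI false

namespace Cfsg.Agent.Helper6

open scoped ComplexConjugate

universe u v

variable {G : Type u} [Group G]

theorem quasiElem_setup [Finite G] (x : G) (p : ℕ) [hp : Fact p.Prime] :
    ∃ (a m : ℕ) (H : Subgroup G), orderOf x = p ^ a * m ∧ ¬ p ∣ m ∧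
      Nat.card (Subgroup.zpowers (x ^ (p ^ a))) = m ∧
      Subgroup.zpowers (x ^ (p ^ a)) ≤ H ∧
      H ≤ Subgroup.normalizer (Subgroup.zpowers (x ^ (p ^ a)) : Set G) ∧ x ∈ H ∧
      (∃ k, (Subgroup.zpowers (x ^ (p ^ a))).relIndex H = p ^ k) ∧
      ¬ p ∣ H.relIndex (Subgroup.normalizer (Subgroup.zpowers (x ^ (p ^ a)) : Set G)) ∧
      (∀ h ∈ H, orderOf h ∣ m → h ∈ Subgroup.zpowers (x ^ (p ^ a))) := by
  classical
  obtain ⟨a, m, hm, ho⟩ := Nat.exists_eq_pow_mul_and_not_dvd (orderOf_pos x).ne' p hp.out.ne_one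
  refine ⟨a, m, ?_⟩
  set c := x ^ (p ^ a) with hc
  set C := Subgroup.zpowers c with hC
  set N := Subgroup.normalizer (C : Set G) with hN
  have hcardC : Nat.card C = m := by
    rw [Nat.card_zpowers, hc, orderOf_pow_of_dvd (pow_ne_zero _ hp.out.ne_zero) ⟨m, ho⟩, ho,
      Nat.mul_div_cancel_left _ (pow_pos hp.out.pos _)]
  have hCN : C ≤ N := Subgroup.le_normalizer
  have hxN : x ∈ N := by
    rw [hN, Subgroup.mem_normalizer_iff_map_conj_eq, hC, MonoidHom.map_zpowers]
    congr 1
    change x * c * x⁻¹ = c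
    rw [hc, mul_inv_eq_iff_eq_mul, ← pow_succ', ← pow_succ]
  haveI : (C.subgroupOf N).Normal := Subgroup.normal_in_normalizer
  set π := QuotientGroup.mk' (C.subgroupOf N) with hπ
  have hπs : Function.Surjective π := QuotientGroup.mk'_surjective _
  set x' : N := ⟨x, hxN⟩ with hx'
  have hxc : x' ^ (p ^ a) ∈ C.subgroupOf N := by
    rw [Subgroup.mem_subgroupOf]
    exact Subgroup.mem_zpowers c
  have hpx : IsPGroup p (Subgroup.zpowers (π x')) := by
    have h1 : (π x') ^ (p ^ a) = 1 := by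
      rw [← map_pow, hπ, QuotientGroup.mk'_apply, QuotientGroup.eq_one_iff]
      exact hxc
    obtain ⟨j, _, hj⟩ := (Nat.dvd_prime_pow hp.out).mp (orderOf_dvd_of_pow_eq_one h1)
    exact IsPGroup.of_card (n := j) (by rw [Nat.card_zpowers, hj])
  obtain ⟨S, hS⟩ := hpx.exists_le_sylow
  set H' : Subgroup N := (S : Subgroup (N ⧸ C.subgroupOf N)).comap π with hH'
  refine ⟨H'.map N.subtype, ho, hm, hcardC, ?_, ?_, ?_, ?_, ?_, ?_⟩
  · intro g hg
    refine ⟨⟨g, hCN hg⟩, ?_, rfl⟩
    change π ⟨g, hCN hg⟩ ∈ S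
    have : π ⟨g, hCN hg⟩ = 1 := by
      rw [hπ, QuotientGroup.mk'_apply, QuotientGroup.eq_one_iff, Subgroup.mem_subgroupOf]
      exact hg
    rw [this]
    exact one_mem _
  · exact Subgroup.map_subtype_le _
  · refine ⟨x', ?_, rfl⟩
    change π x' ∈ S
    exact hS (Subgroup.mem_zpowers _)
  · obtain ⟨k, hk⟩ := (S.2 : IsPGroup p S).exists_card_eq
    refine ⟨k, ?_⟩
    have h1 : (C.subgroupOf N).map N.subtype = C := Subgroup.map_subgroupOf_eq_of_le hCN
    conv_lhs => rw [← h1]
    rw [Subgroup.relIndex_map_map_of_injective _ _ N.subtype_injective]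
    have h2 : C.subgroupOf N = (⊥ : Subgroup (N ⧸ C.subgroupOf N)).comap π := by
      rw [MonoidHom.comap_bot, hπ, QuotientGroup.ker_mk']
    rw [h2, Subgroup.relIndex_comap, hH', Subgroup.map_comap_eq_self_of_surjective hπs,
      Subgroup.relIndex_bot_left]
    exact hk
  · have h1 : (H'.map N.subtype).relIndex N = H'.index := by
      rw [Subgroup.relIndex]
      congr 1
      exact Subgroup.comap_map_eq_self_of_injective N.subtype_injective H'
    rw [h1, hH', Subgroup.index_comap_of_surjective _ hπs]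
    exact S.not_dvd_index
  · rintro h ⟨h', hh', rfl⟩ hord
    have hmem : π h' ∈ S := hh'
    have hord1 : orderOf (π h') ∣ m := by
      refine dvd_trans (orderOf_map_dvd π h') ?_
      rwa [← Subgroup.orderOf_coe] 
    obtain ⟨k, hk⟩ := (S.2 : IsPGroup p S) ⟨π h', hmem⟩
    have hord2 : orderOf (π h') ∣ p ^ k := by
      apply orderOf_dvd_of_pow_eq_one
      have := congrArg Subtype.val hk
      simpa using this
    have hcop : Nat.Coprime m (p ^ k) :=
      Nat.Coprime.pow_right _ ((Nat.Prime.coprime_iff_not_dvd hp.out).mpr hm).symm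
    have hone : orderOf (π h') = 1 := Nat.eq_one_of_dvd_coprimes hcop hord1 hord2
    rw [orderOf_eq_one_iff, hπ, QuotientGroup.mk'_apply, QuotientGroup.eq_one_iff,
      Subgroup.mem_subgroupOf] at hone
    exact hone

theorem mem_normalizer_of_conj_mem [Finite G] (x : G) (p a m : ℕ) (H : Subgroup G)
    (hcard : Nat.card (Subgroup.zpowers (x ^ (p ^ a))) = m)
    (hH : ∀ h ∈ H, orderOf h ∣ m → h ∈ Subgroup.zpowers (x ^ (p ^ a)))
    (y : G) (hy : y⁻¹ * x * y ∈ H) :
    y ∈ Subgroup.normalizer (Subgroup.zpowers (x ^ (p ^ a)) : Set G) := by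
  set c := x ^ (p ^ a) with hc
  have hd : (MulAut.conj y⁻¹) c ∈ Subgroup.zpowers c := by
    apply hH
    · have : (MulAut.conj y⁻¹) c = (y⁻¹ * x * y) ^ (p ^ a) := by
        rw [hc, map_pow, MulAut.conj_apply, inv_inv]
      rw [this]
      exact pow_mem hy _
    · rw [MulEquiv.orderOf_eq, ← hcard, Nat.card_zpowers]
  have h1 : (Subgroup.zpowers c).map (MulAut.conj y⁻¹).toMonoidHom = Subgroup.zpowers c := by
    rw [MonoidHom.map_zpowers]
    apply Subgroup.eq_of_le_of_card_ge
    · rw [Subgroup.zpowers_le]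
      exact hd
    · rw [Nat.card_zpowers, Nat.card_zpowers]
      exact le_of_eq (MulEquiv.orderOf_eq _ _).symm
  have h2 : y⁻¹ ∈ Subgroup.normalizer (Subgroup.zpowers c : Set G) := by
    rw [Subgroup.mem_normalizer_iff_map_conj_eq]
    exact h1
  exact inv_mem_iff.mp h2

theorem indFun_one_restrict [Fintype G] (H N : Subgroup G) (hHN : H ≤ N) [Fintype N] (x : N)
    (hx : ∀ y : G, y⁻¹ * (x : G) * y ∈ H → y ∈ N) :
    Cfsg.indFun H (fun _ => 1) (x : G) = Cfsg.indFun (H.subgroupOf N) (fun _ => 1) x := by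
  classical
  rw [indFun_apply, indFun_apply]
  have hcard : Nat.card (H.subgroupOf N) = Nat.card H :=
    Nat.card_congr (Subgroup.subgroupOfEquivOfLe hHN).toEquiv
  rw [hcard]
  congr 1
  have hL : ∀ y : G, Cfsg.extendByZero H (fun _ => (1 : ℂ)) (y⁻¹ * (x : G) * y) =
      if y ∈ N then (if y⁻¹ * (x : G) * y ∈ H then 1 else 0) else 0 := by
    intro y
    by_cases h : y⁻¹ * (x : G) * y ∈ H
    · rw [extendByZero_mem _ _ h, if_pos (hx y h), if_pos h]
    · rw [extendByZero_not_mem _ _ h, if_neg h, ite_self]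
  have hR : ∀ y : N, Cfsg.extendByZero (H.subgroupOf N) (fun _ => (1 : ℂ)) (y⁻¹ * x * y) =
      if (y : G)⁻¹ * (x : G) * y ∈ H then 1 else 0 := by
    intro y
    by_cases h : (y : G)⁻¹ * (x : G) * y ∈ H
    · rw [if_pos h, extendByZero_mem]
      rw [Subgroup.mem_subgroupOf]
      simpa using h
    · rw [if_neg h, extendByZero_not_mem]
      rw [Subgroup.mem_subgroupOf]
      simpa using h
  simp_rw [hL, hR]
  rw [← Finset.sum_filter]
  rw [Finset.sum_subtype (Finset.univ.filter (fun y : G => y ∈ N)) (p := fun y => y ∈ N)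
    (by intro y; simp) (fun y => if y⁻¹ * (x : G) * y ∈ H then (1 : ℂ) else 0)]

theorem fixed_count {M : Type v} [Group M] [Fintype M] (p : ℕ) [hp : Fact p.Prime]
    (C' H' : Subgroup M) [C'.Normal] (hCH : C' ≤ H') (x' : M) (a m : ℕ)
    (hcop : Nat.Coprime m (p ^ a)) (hxa : x' ^ (p ^ a) ∈ C') (hxm : (x' ^ m) ^ (p ^ a) = 1)
    (hidx : ¬ p ∣ H'.index) :
    ∃ n : ℕ, Cfsg.indFun H' (fun _ => 1) x' = n ∧ ¬ p ∣ n := by
  classical
  refine ⟨Nat.card (MulAction.fixedBy (M ⧸ H') x'), ?_, ?_⟩
  · have := congrFun (permChar_eq_indFun (G := M) (M ⧸ H') ((1 : M) : M ⧸ H')) x'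
    rw [MulAction.stabilizer_quotient] at this
    exact this.symm
  · have hP : IsPGroup p (Subgroup.zpowers (x' ^ m)) := by
      obtain ⟨j, _, hj⟩ := (Nat.dvd_prime_pow hp.out).mp (orderOf_dvd_of_pow_eq_one hxm)
      exact IsPGroup.of_card (n := j) (by rw [Nat.card_zpowers, hj])
    have hmod := hP.card_modEq_card_fixedPoints (M ⧸ H')
    have hset : MulAction.fixedPoints (Subgroup.zpowers (x' ^ m)) (M ⧸ H') =
        MulAction.fixedBy (M ⧸ H') x' := by
      ext ω
      rw [MulAction.mem_fixedPoints, MulAction.mem_fixedBy]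
      constructor
      · intro h
        -- x' lies in the stabilizer
        have h1 : x' ^ m ∈ MulAction.stabilizer M ω := by
          rw [MulAction.mem_stabilizer_iff]
          exact h ⟨x' ^ m, Subgroup.mem_zpowers _⟩
        have h2 : x' ^ (p ^ a) ∈ MulAction.stabilizer M ω := by
          rw [MulAction.mem_stabilizer_iff]
          induction ω using QuotientGroup.induction_on with
          | H n =>
            rw [MulAction.Quotient.smul_coe, smul_eq_mul, QuotientGroup.eq]
            apply hCH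
            have := ‹C'.Normal›.conj_mem _ (inv_mem hxa) n⁻¹
            rw [inv_inv] at this
            rw [mul_inv_rev]
            exact this
        obtain ⟨u, v, huv⟩ : ∃ u v : ℤ, (m : ℤ) * u + ((p ^ a : ℕ) : ℤ) * v = 1 := by
          have := Int.gcd_eq_gcd_ab (m : ℤ) ((p ^ a : ℕ) : ℤ)
          rw [Nat.Coprime] at hcop
          rw [Int.gcd_natCast_natCast, hcop, Nat.cast_one] at this
          exact ⟨_, _, this.symm⟩
        have h3 : x' = (x' ^ m) ^ u * (x' ^ (p ^ a)) ^ v := by
          rw [← zpow_natCast x' m, ← zpow_natCast x' (p ^ a), ← zpow_mul, ← zpow_mul, ← zpow_add,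
            huv, zpow_one]
        have h4 : x' ∈ MulAction.stabilizer M ω := by
          rw [h3]
          exact mul_mem (zpow_mem h1 _) (zpow_mem h2 _)
        exact MulAction.mem_stabilizer_iff.mp h4
      · intro h g
        obtain ⟨g, hg⟩ := g
        have h1 : x' ∈ MulAction.stabilizer M ω := MulAction.mem_stabilizer_iff.mpr h
        have h2 : g ∈ MulAction.stabilizer M ω := by
          have : Subgroup.zpowers (x' ^ m) ≤ MulAction.stabilizer M ω := by
            rw [Subgroup.zpowers_le]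
            exact pow_mem h1 _
          exact this hg
        exact MulAction.mem_stabilizer_iff.mp h2
    rw [hset] at hmod
    intro hdvd
    apply hidx
    rw [Subgroup.index_eq_card]
    exact (Nat.modEq_zero_iff_dvd.mp (hmod.trans (Nat.modEq_zero_iff_dvd.mpr hdvd)))

end Cfsg.Agent.Helper6
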