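import Mathlib
import Cfsg.Prelude.Def_Characters
import Cfsg.Agent.Helper6.IndFun
import Cfsg.Agent.S0870
import Cfsg.Agent.S0871

/-!
# The ring of permutation characters induced from quasi-elementary subgroups
-/

set_option autoImplicit false
set_option linter.style.haveILetI false

namespace Cfsg.Agent.Helper6

open scoped ComplexConjugate

universe u v

variable {G : Type u} [Group G]

/-- `H` is `p`-quasi-elementary. -/
def QE (p : ℕ) (H : Subgroup G) : Prop :=
  ∃ C : Subgroup G, C ≤ H ∧ H ≤ Subgroup.normalizer (C : Set G) ∧ IsCyclic C ∧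
    Nat.Coprime (Nat.card C) p ∧ ∃ k : ℕ, C.relIndex H = p ^ k

theorem QE.of_le [Finite G] {p : ℕ} (hp : p.Prime) {H U : Subgroup G} (h : QE p H) (hU : U ≤ H) :
    QE p U := by
  obtain ⟨C, hCH, hHN, hcyc, hcop, k, hk⟩ := h
  refine ⟨C ⊓ U, inf_le_right, ?_, ?_, ?_, ?_⟩
  · intro u hu
    have huN : u ∈ Subgroup.normalizer (C : Set G) := hHN (hU hu)
    rw [Subgroup.mem_normalizer_iff] at huN ⊢
    intro h
    rw [Subgroup.mem_inf, Subgroup.mem_inf, huN h]
    constructor
    · rintro ⟨h1, h2⟩
      exact ⟨h1, mul_mem (mul_mem hu h2) (inv_mem hu)⟩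
    · rintro ⟨h1, h2⟩
      refine ⟨h1, ?_⟩
      have := mul_mem (mul_mem (inv_mem hu) h2) hu
      simpa [mul_assoc] using this
  · exact Subgroup.isCyclic_of_le (inf_le_left : C ⊓ U ≤ C)
  · exact Nat.Coprime.coprime_dvd_left (Subgroup.card_dvd_of_le inf_le_left) hcop
  · rw [Subgroup.inf_relIndex_right]
    haveI : (C.subgroupOf H).Normal := (Subgroup.normal_subgroupOf_iff_le_normalizer hCH).mpr hHN
    have h1 := Subgroup.relIndex_dvd_index_of_normal (C.subgroupOf H) (U.subgroupOf H)
    rw [Subgroup.relIndex_subgroupOf hU] at h1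
    have h2 : (C.subgroupOf H).index = p ^ k := hk
    rw [h2] at h1
    obtain ⟨j, _, hj⟩ := (Nat.dvd_prime_pow hp).mp h1
    exact ⟨j, hj⟩

/-- integer combinations of permutation characters on quasi-elementary subgroups -/
def InR [Fintype G] [Fintype (Subgroup G)] (p : ℕ) (f : G → ℂ) : Prop :=
  ∃ a : Subgroup G → ℤ, (∀ H, a H ≠ 0 → QE p H) ∧
    f = ∑ H : Subgroup G, (a H : ℂ) • Cfsg.indFun H (fun _ => 1)

variable [Fintype G] [Fintype (Subgroup G)] {p : ℕ}

theorem InR.zero : InR p (0 : G → ℂ) :=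
  ⟨fun _ => 0, fun H h => absurd rfl h, by simp⟩

theorem InR.add {f g : G → ℂ} (hf : InR p f) (hg : InR p g) : InR p (f + g) := by
  obtain ⟨a, ha, rfl⟩ := hf
  obtain ⟨b, hb, rfl⟩ := hg
  refine ⟨fun H => a H + b H, ?_, ?_⟩
  · intro H hH
    by_cases h : a H = 0
    · apply hb
      intro hb0
      apply hH
      change a H + b H = 0
      rw [h, hb0, add_zero]
    · exact ha H h
  · rw [← Finset.sum_add_distrib]
    apply Finset.sum_congr rfl
    intro H _
    push_cast
    rw [add_smul]

theorem InR.zsmul {f : G → ℂ} (c : ℤ) (hf : InR p f) : InR p ((c : ℂ) • f) := by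
  obtain ⟨a, ha, rfl⟩ := hf
  refine ⟨fun H => c * a H, ?_, ?_⟩
  · intro H hH
    apply ha
    intro h0
    apply hH
    change c * a H = 0
    rw [h0, mul_zero]
  · rw [Finset.smul_sum]
    apply Finset.sum_congr rfl
    intro H _
    push_cast
    rw [mul_smul]

theorem InR.neg {f : G → ℂ} (hf : InR p f) : InR p (-f) := by
  have := hf.zsmul (-1)
  simpa using this

theorem InR.sum {ι : Type*} (s : Finset ι) (f : ι → G → ℂ) (hf : ∀ i ∈ s, InR p (f i)) :
    InR p (∑ i ∈ s, f i) := by
  classical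
  induction s using Finset.induction_on with
  | empty => simpa using InR.zero
  | insert a s ha ih =>
    rw [Finset.sum_insert ha]
    exact (hf a (Finset.mem_insert_self a s)).add
      (ih (fun i hi => hf i (Finset.mem_insert_of_mem hi)))

theorem InR.indFun {H : Subgroup G} (hH : QE p H) : InR p (Cfsg.indFun H (fun _ => 1)) := by
  classical
  refine ⟨fun K => if K = H then 1 else 0, ?_, ?_⟩
  · intro K hK
    by_cases h : K = H
    · rw [h]; exact hH
    · simp [h] at hK
  · rw [Finset.sum_eq_single H]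
    · simp
    · intro K _ hK
      simp [hK]
    · intro h
      exact absurd (Finset.mem_univ _) h

theorem InR.mul (hp : p.Prime) {f g : G → ℂ} (hf : InR p f) (hg : InR p g) : InR p (f * g) := by
  classical
  obtain ⟨a, ha, rfl⟩ := hf
  obtain ⟨b, hb, rfl⟩ := hg
  rw [Finset.sum_mul_sum]
  apply InR.sum
  intro H _
  apply InR.sum
  intro K _
  rw [smul_mul_smul_comm]
  by_cases h : a H = 0
  · rw [h]
    simpa using InR.zero
  · have hQ := ha H h
    obtain ⟨c, hc1, hc2⟩ := Cfsg.Agent.S0870.result H K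
    have hin : InR p (Cfsg.indFun H (fun _ => 1) * Cfsg.indFun K (fun _ => 1)) := by
      refine ⟨fun U => (c U : ℤ), ?_, ?_⟩
      · intro U hU
        apply QE.of_le hp hQ
        apply hc1
        intro h0
        apply hU
        simp [h0]
      · rw [hc2]
        have : ∀ (inst1 inst2 : Fintype (Subgroup G)),
            @Finset.sum _ _ _ (@Finset.univ _ inst1)
              (fun U => (c U : ℂ) • Cfsg.indFun U (fun _ => (1 : ℂ))) =
            @Finset.sum _ _ _ (@Finset.univ _ inst2)
              (fun U => (((c U : ℕ) : ℤ) : ℂ) • Cfsg.indFun U (fun _ => (1 : ℂ))) := by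
          intro inst1 inst2
          have : inst1 = inst2 := Subsingleton.elim _ _
          subst this
          apply Finset.sum_congr rfl
          intro U _
          push_cast
          rfl
        exact this _ _
    have := hin.zsmul (a H * b K)
    push_cast at this
    exact this

theorem exists_inR_apply (hp : p.Prime) (x : G) :
    ∃ (f : G → ℂ) (n : ℕ), InR p f ∧ f x = n ∧ ¬ p ∣ n := by
  obtain ⟨H, hQ, n, hn1, hn2⟩ := Cfsg.Agent.S0871.result x p hp
  exact ⟨_, n, InR.indFun hQ, hn1, hn2⟩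

theorem exists_inR_const_on (hp : p.Prime) (T : Finset G) :
    ∃ (f : G → ℂ) (m : ℤ), InR p f ∧ ¬ (p : ℤ) ∣ m ∧ ∀ y ∈ T, f y = m := by
  classical
  induction T using Finset.induction_on with
  | empty => exact ⟨0, 1, InR.zero, by
      intro h
      have := Int.natCast_dvd_natCast.mp (by simpa using h : ((p : ℕ) : ℤ) ∣ ((1 : ℕ) : ℤ))
      exact hp.one_lt.ne' (Nat.dvd_one.mp this), by simp⟩
  | insert x T hx ih =>
    obtain ⟨g, m, hg, hm, hgm⟩ := ih
    obtain ⟨f, n, hf, hfn, hn⟩ := exists_inR_apply hp x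
    refine ⟨-(g * f) + ((n : ℤ) : ℂ) • g + (m : ℂ) • f, m * n, ?_, ?_, ?_⟩
    · exact ((hg.mul hp hf).neg.add (hg.zsmul n)).add (hf.zsmul m)
    · intro hdvd
      rcases (Nat.prime_iff_prime_int.mp hp).dvd_or_dvd hdvd with h | h
      · exact hm h
      · exact hn (Int.natCast_dvd_natCast.mp h)
    · intro y hy
      have key : (-(g * f) + ((n : ℤ) : ℂ) • g + (m : ℂ) • f) y =
          ((m * (n : ℤ) : ℤ) : ℂ) - (g y - m) * (f y - n) := by
        simp only [Pi.add_apply, Pi.neg_apply, Pi.mul_apply, Pi.smul_apply, smul_eq_mul]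
        push_cast
        ring
      rw [key]
      rcases Finset.mem_insert.mp hy with rfl | hy
      · rw [hfn, sub_self, mul_zero, sub_zero]
      · rw [hgm y hy, sub_self, zero_mul, sub_zero]

end Cfsg.Agent.Helper6
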