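import Mathlib
import Cfsg.Prelude.Def_Characters
import Cfsg.Agent.Helper6.Brauer6

/-!
# The global Brauer induction theorem
-/

set_option autoImplicit false
set_option linter.style.haveILetI false

namespace Cfsg.Agent.Helper6

open scoped ComplexConjugate
open Module

universe u v

variable {G : Type u} [Group G]

/-- The additive group generated by the functions induced from linear characters of
elementary subgroups (for all primes). -/
noncomputable def BrauerSpanAll (X : Type u) [Group X] [Fintype X] : AddSubgroup (X → ℂ) :=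
  AddSubgroup.closure {f | ∃ (E : Subgroup X) (lam : E →* ℂˣ),
    (∃ p : ℕ, p.Prime ∧ Cfsg.IsElementary p E) ∧
    f = Cfsg.indFun E (fun e => ((lam e : ℂˣ) : ℂ))}

theorem BrauerSpan_le_all [Fintype G] {p : ℕ} (hp : p.Prime) :
    BrauerSpan p G ≤ BrauerSpanAll G := by
  apply AddSubgroup.closure_mono
  rintro f ⟨E, lam, hE, hf⟩
  exact ⟨E, lam, ⟨p, hp, hE⟩, hf⟩

/-- Brauer's induction theorem. -/
theorem global_brauer [Fintype G] (χ : G → ℂ) (hχ : Cfsg.IsCharacter G χ) :
    χ ∈ BrauerSpanAll G := by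
  classical
  let I : AddSubgroup ℤ :=
    { carrier := {k | (k : ℂ) • χ ∈ BrauerSpanAll G}
      zero_mem' := by
        change ((0 : ℤ) : ℂ) • χ ∈ BrauerSpanAll G
        rw [Int.cast_zero, zero_smul]
        exact zero_mem _
      add_mem' := by
        intro a b ha hb
        change ((a + b : ℤ) : ℂ) • χ ∈ BrauerSpanAll G
        rw [Int.cast_add, add_smul]
        exact add_mem ha hb
      neg_mem' := by
        intro a ha
        change ((-a : ℤ) : ℂ) • χ ∈ BrauerSpanAll G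
        rw [Int.cast_neg, neg_smul]
        exact neg_mem ha }
  have hI : ∀ k : ℤ, k ∈ I ↔ (k : ℂ) • χ ∈ BrauerSpanAll G := fun k => Iff.rfl
  have hloc : ∀ q : ℕ, q.Prime → ∃ m : ℤ, ¬ (q : ℤ) ∣ m ∧ m ∈ I := by
    intro q hq
    obtain ⟨m, hm, hmem⟩ := local_brauer (G := G) q hq
    exact ⟨m, hm, (hI m).mpr (BrauerSpan_le_all hq (hmem χ hχ))⟩
  obtain ⟨d, hd⟩ := Int.subgroup_cyclic I
  rw [← AddSubgroup.zmultiples_eq_closure] at hd
  have hdvd : ∀ k : ℤ, k ∈ I ↔ d ∣ k := by
    intro k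
    rw [hd, Int.mem_zmultiples_iff]
  have hunit : d.natAbs = 1 := by
    by_contra hne
    obtain ⟨q, hq, hqd⟩ := Nat.exists_prime_and_dvd hne
    obtain ⟨m, hm, hmI⟩ := hloc q hq
    apply hm
    have h1 : d ∣ m := (hdvd m).mp hmI
    have h2 : (q : ℤ) ∣ d := by
      rw [← Int.natCast_dvd_natCast] at hqd
      exact hqd.trans (Int.natAbs_dvd.mpr dvd_rfl)
    exact h2.trans h1
  have h1I : (1 : ℤ) ∈ I := by
    rw [hdvd]
    exact Int.natAbs_dvd_natAbs.mp (by rw [hunit]; exact one_dvd _)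
  have := (hI 1).mp h1I
  rwa [Int.cast_one, one_smul] at this

theorem list_sum_neg_coeff' [Fintype G] (l : List ((E : Subgroup G) × ((E →* ℂˣ) × ℤ))) :
    -(l.map fun t => (t.2.2 : ℂ) • Cfsg.indFun t.1 (fun e => ((t.2.1 e : ℂˣ) : ℂ))).sum =
      ((l.map (fun t => (⟨t.1, (t.2.1, -t.2.2)⟩ : (E : Subgroup G) × ((E →* ℂˣ) × ℤ)))).map
        fun t => (t.2.2 : ℂ) • Cfsg.indFun t.1 (fun e => ((t.2.1 e : ℂˣ) : ℂ))).sum := by
  induction l with
  | nil => simp
  | cons t l ih =>
    rw [List.map_cons, List.map_cons, List.map_cons, List.sum_cons, List.sum_cons, neg_add, ih]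
    congr 1
    simp

theorem BrauerSpanAll.exists_list [Fintype G] {f : G → ℂ} (hf : f ∈ BrauerSpanAll G) :
    ∃ l : List ((E : Subgroup G) × ((E →* ℂˣ) × ℤ)),
      (∀ t ∈ l, ∃ p : ℕ, p.Prime ∧ Cfsg.IsElementary p t.1) ∧
      f = (l.map fun t => (t.2.2 : ℂ) •
        Cfsg.indFun t.1 (fun e => ((t.2.1 e : ℂˣ) : ℂ))).sum := by
  unfold BrauerSpanAll at hf
  induction hf using AddSubgroup.closure_induction with
  | mem f hf =>
    obtain ⟨E, lam, hE, rfl⟩ := hf
    refine ⟨[⟨E, (lam, 1)⟩], ?_, ?_⟩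
    · intro t ht
      rw [List.mem_singleton] at ht
      subst ht
      exact hE
    · simp
  | zero => exact ⟨[], by simp, by simp⟩
  | add f g _ _ hf hg =>
    obtain ⟨l₁, h1, rfl⟩ := hf
    obtain ⟨l₂, h2, rfl⟩ := hg
    refine ⟨l₁ ++ l₂, ?_, ?_⟩
    · intro t ht
      rcases List.mem_append.mp ht with h | h
      · exact h1 t h
      · exact h2 t h
    · rw [List.map_append, List.sum_append]
  | neg f _ hf =>
    obtain ⟨l, h1, rfl⟩ := hf
    refine ⟨l.map (fun t => ⟨t.1, (t.2.1, -t.2.2)⟩), ?_, ?_⟩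
    · intro t ht
      obtain ⟨s, hs, rfl⟩ := List.mem_map.mp ht
      exact h1 s hs
    · exact list_sum_neg_coeff' l

end Cfsg.Agent.Helper6
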