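import Mathlib
import Cfsg.Prelude.Def_Characters
import Cfsg.Agent.Helper6.Brauer8

/-!
# Normal `p`-complements in elementary groups and characters vanishing off `p`-regular elements
-/

set_option autoImplicit false
set_option linter.style.haveILetI false

namespace Cfsg.Agent.Helper6

open scoped ComplexConjugate
open Module

universe u v

/-- An elementary group has a normal `p`-complement for every prime `p`. -/
theorem exists_normal_p_complement {E : Type u} [Group E] [Finite E] {q : ℕ} (hq : q.Prime)
    (hE : Cfsg.IsElementary q E) (p : ℕ) [hp : Fact p.Prime] :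
    ∃ B : Subgroup E, B.Normal ∧ Nat.Coprime (Nat.card B) p ∧ ∃ b : ℕ, B.index = p ^ b := by
  classical
  obtain ⟨x, hx, hcop, k, hk⟩ := hE
  have hZ : Subgroup.zpowers x ≤ Subgroup.center E := by
    rw [Subgroup.zpowers_le]
    exact hx
  by_cases hqp : q = p
  · subst hqp
    refine ⟨Subgroup.zpowers x, normal_of_le_center _ hZ, ?_, k, hk⟩
    rw [Nat.card_zpowers]
    exact hcop
  · haveI : Fact q.Prime := ⟨hq⟩
    obtain ⟨P⟩ := (inferInstance : Nonempty (Sylow p E))
    haveI : (Subgroup.zpowers x).Normal := normal_of_le_center _ hZ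
    have hPZ : (P : Subgroup E) ≤ Subgroup.center E := by
      intro g hg
      apply hZ
      -- the image of g in the quotient is trivial
      rw [← QuotientGroup.eq_one_iff (N := Subgroup.zpowers x)]
      obtain ⟨j, hj⟩ := (P.2 : IsPGroup p P) ⟨g, hg⟩
      have hj' : g ^ (p ^ j) = 1 := by
        have := congrArg Subtype.val hj
        simpa using this
      have h1 : orderOf ((g : E ⧸ Subgroup.zpowers x)) ∣ p ^ j := by
        apply orderOf_dvd_of_pow_eq_one
        rw [← QuotientGroup.mk_pow, hj']
        rfl
      have h2 : orderOf ((g : E ⧸ Subgroup.zpowers x)) ∣ q ^ k := by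
        rw [← hk, Subgroup.index_eq_card]
        exact orderOf_dvd_natCard _
      have hcopqp : Nat.Coprime (p ^ j) (q ^ k) :=
        Nat.Coprime.pow _ _ ((Nat.coprime_primes hp.out hq).mpr (fun h => hqp h.symm))
      have := Nat.eq_one_of_dvd_coprimes hcopqp h1 h2
      exact orderOf_eq_one_iff.mp this
    have hP : Subgroup.normalizer ((P : Subgroup E) : Set E) ≤
        Subgroup.centralizer ((P : Subgroup E) : Set E) := by
      intro g _
      rw [Subgroup.mem_centralizer_iff]
      intro h hh
      exact (Subgroup.mem_center_iff.mp (hPZ hh) g).symm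
    refine ⟨(MonoidHom.transferSylow P hP).ker, MonoidHom.normal_ker _, ?_, ?_⟩
    · have := MonoidHom.not_dvd_card_ker_transferSylow P hP
      exact (Nat.Prime.coprime_iff_not_dvd hp.out).mpr this |>.symm
    · have hc := (MonoidHom.ker_transferSylow_isComplement' P hP).symm.index_eq_card
      obtain ⟨b, hb⟩ := IsPGroup.iff_card.mp (P.2 : IsPGroup p P)
      exact ⟨b, by rw [hc, hb]⟩

/-- In a group with a normal `p`-complement `B`, the `p`-regular elements are those of `B`. -/
theorem mem_iff_not_dvd_orderOf {E : Type u} [Group E] [Finite E] {p : ℕ} [hp : Fact p.Prime]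
    (B : Subgroup E) [B.Normal] (hcop : Nat.Coprime (Nat.card B) p) {b : ℕ}
    (hb : B.index = p ^ b) (x : E) : x ∈ B ↔ ¬ p ∣ orderOf x := by
  constructor
  · intro hx hdvd
    have h1 : orderOf x ∣ Nat.card B := by
      have : orderOf (⟨x, hx⟩ : B) = orderOf x := Subgroup.orderOf_mk x hx
      rw [← this]
      exact orderOf_dvd_natCard _
    have := Nat.Coprime.eq_one_of_dvd hcop.symm (hdvd.trans h1)
    exact hp.out.one_lt.ne' this
  · intro hx
    rw [← QuotientGroup.eq_one_iff (N := B), ← orderOf_eq_one_iff]
    have h1 : orderOf (x : E ⧸ B) ∣ orderOf x := orderOf_map_dvd (QuotientGroup.mk' B) x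
    have h2 : orderOf (x : E ⧸ B) ∣ p ^ b := by
      rw [← hb, Subgroup.index_eq_card]
      exact orderOf_dvd_natCard _
    have hc : Nat.Coprime (orderOf x) (p ^ b) :=
      Nat.Coprime.pow_right _ ((Nat.Prime.coprime_iff_not_dvd hp.out).mpr hx).symm
    exact Nat.eq_one_of_dvd_coprimes hc h1 h2

/-- Induction from a normal `p`-complement. -/
theorem indFun_normal_complement {E : Type u} [Group E] [Fintype E] {p : ℕ} [hp : Fact p.Prime]
    (B : Subgroup E) [hB : B.Normal] (hcop : Nat.Coprime (Nat.card B) p) {b : ℕ}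
    (hb : B.index = p ^ b) (φ : E → ℂ) (hφ : Cfsg.IsClassFunction E φ) :
    Cfsg.indFun B (fun x : B => φ x) =
      fun x => if p ∣ orderOf x then 0 else ((p ^ b : ℕ) : ℂ) * φ x := by
  classical
  funext x
  rw [indFun_apply]
  by_cases hx : x ∈ B
  · have hnd := (mem_iff_not_dvd_orderOf B hcop hb x).mp hx
    rw [if_neg hnd]
    have : ∀ t : E, Cfsg.extendByZero B (fun x : B => φ x) (t⁻¹ * x * t) = φ x := by
      intro t
      have hmem : t⁻¹ * x * t ∈ B := by
        have := hB.conj_mem x hx t⁻¹
        rwa [inv_inv] at this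
      rw [extendByZero_mem _ _ hmem]
      have := hφ x t⁻¹
      rw [inv_inv] at this
      exact this
    simp_rw [this]
    rw [Finset.sum_const, Finset.card_univ, nsmul_eq_mul, ← mul_assoc, ← hb,
      ← Nat.card_eq_fintype_card, ← Subgroup.card_mul_index B]
    have hc : (Nat.card B : ℂ) ≠ 0 := by exact_mod_cast Nat.card_pos.ne'
    push_cast
    rw [← mul_assoc, inv_mul_cancel₀ hc, one_mul]
  · have hd : p ∣ orderOf x := by
      by_contra h
      exact hx ((mem_iff_not_dvd_orderOf B hcop hb x).mpr h)
    rw [if_pos hd]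
    have : ∀ t : E, Cfsg.extendByZero B (fun x : B => φ x) (t⁻¹ * x * t) = 0 := by
      intro t
      apply extendByZero_not_mem
      intro hmem
      apply hx
      have := hB.conj_mem _ hmem t
      simpa [mul_assoc] using this
    simp_rw [this]
    simp

theorem IsCharacter.nsmul {G : Type u} [Group G] {χ : G → ℂ} (hχ : Cfsg.IsCharacter G χ)
    (n : ℕ) : Cfsg.IsCharacter G (n • χ) := by
  induction n with
  | zero => rw [zero_smul]; exact IsCharacter.zero
  | succ n ih => rw [succ_nsmul]; exact IsCharacter.add ih hχ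

end Cfsg.Agent.Helper6
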