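import Mathlib
import Cfsg.Prelude.Def_Characters
import Cfsg.Agent.Helper6.Brauer1
import Cfsg.Agent.Helper6.Brauer8
import Cfsg.Agent.Helper6.Brauer10
import Cfsg.Agent.Helper6.MGroup
import Cfsg.Agent.Helper6.GaloisChar
import Cfsg.Agent.Helper6.IrrCrit
import Cfsg.Agent.Helper6.IrrBasis
import Cfsg.Agent.Helper6.NormOne
import Cfsg.Agent.Helper6.BrauerPerm
import Cfsg.Agent.Helper6.IrrDegree

/-!
# Galois conjugation of characters via power maps

For `k` coprime to `|G|`, `g ↦ χ (g ^ k)` is an (irreducible) character when `χ` is.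
Proved via Brauer's characterization of characters and monomiality of nilpotent groups.
-/

set_option autoImplicit false

namespace Cfsg.Agent.Helper6

open scoped ComplexConjugate

universe u v

variable {G : Type u} [Group G]

theorem indFun_hom_comp_pow [Fintype G] (H : Subgroup G) (lam : H →* ℂˣ) (k : ℕ)
    (hk : k.Coprime (Nat.card G)) (g : G) :
    Cfsg.indFun H (fun h => ((lam h : ℂˣ) : ℂ)) (g ^ k) =
      Cfsg.indFun H (fun h => ((((powMonoidHom k).comp lam) h : ℂˣ) : ℂ)) g := by
  rw [indFun_apply, indFun_apply]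
  congr 1
  apply Finset.sum_congr rfl
  intro x _
  have hconj : x⁻¹ * g ^ k * x = (x⁻¹ * g * x) ^ k := by
    have := conj_pow (a := x⁻¹) (b := g) (i := k)
    rw [inv_inv] at this
    exact this.symm
  rw [hconj]
  by_cases hy : x⁻¹ * g * x ∈ H
  · rw [extendByZero_mem _ _ hy, extendByZero_mem _ _ (H.pow_mem hy k)]
    have h1 : (⟨(x⁻¹ * g * x) ^ k, H.pow_mem hy k⟩ : H) = (⟨x⁻¹ * g * x, hy⟩ : H) ^ k := rfl
    rw [h1, map_pow]
    simp
  · rw [extendByZero_not_mem _ _ hy,
      extendByZero_not_mem _ _ (pow_coprime_not_mem H _ hy k hk)]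

theorem isCharacter_comp_pow_of_nilpotent_irr [Fintype G] [Group.IsNilpotent G] {ψ : G → ℂ}
    (hψ : Cfsg.IsIrrCharacter G ψ) (k : ℕ) (hk : k.Coprime (Nat.card G)) :
    Cfsg.IsCharacter G (fun g => ψ (g ^ k)) := by
  obtain ⟨H, lam, rfl⟩ := nilpotent_monomial ψ hψ
  have : (fun g => Cfsg.indFun H (fun h => ((lam h : ℂˣ) : ℂ)) (g ^ k)) =
      Cfsg.indFun H (fun h => ((((powMonoidHom k).comp lam) h : ℂˣ) : ℂ)) := by
    ext g
    exact indFun_hom_comp_pow H lam k hk g
  rw [this]
  exact isCharacter_indFun H _ (IsIrrCharacter.isCharacter (isIrrCharacter_of_hom _))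

theorem isCharacter_comp_pow_of_nilpotent [Fintype G] [Group.IsNilpotent G] {χ : G → ℂ}
    (hχ : Cfsg.IsCharacter G χ) (k : ℕ) (hk : k.Coprime (Nat.card G)) :
    Cfsg.IsCharacter G (fun g => χ (g ^ k)) := by
  rw [isCharacter_iff_mem_closure] at hχ
  induction hχ using AddSubmonoid.closure_induction with
  | mem x hx => exact isCharacter_comp_pow_of_nilpotent_irr hx k hk
  | zero => exact IsCharacter.zero
  | add x y _ _ hx hy => exact IsCharacter.add hx hy

theorem isGeneralizedCharacter_comp_pow [Fintype G] {χ : G → ℂ}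
    (hχ : Cfsg.IsCharacter G χ) (k : ℕ) (hk : k.Coprime (Nat.card G)) :
    Cfsg.IsGeneralizedCharacter G (fun g => χ (g ^ k)) := by
  classical
  apply brauer_characterization
  · intro g h
    have hcf := IsCharacter.isClassFunction hχ
    change χ ((h * g * h⁻¹) ^ k) = χ (g ^ k)
    rw [conj_pow]
    exact hcf _ _
  · intro E p hp hE
    haveI : Fintype E := Fintype.ofFinite E
    haveI := IsElementary.isNilpotent hp hE
    have hres : Cfsg.IsCharacter E (fun e : E => χ e) := IsCharacter.restrict E hχ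
    have hk' : k.Coprime (Nat.card E) :=
      Nat.Coprime.coprime_dvd_right (Subgroup.card_subgroup_dvd_card E) hk
    exact IsGeneralizedCharacter.of_isCharacter (isCharacter_comp_pow_of_nilpotent hres k hk')

theorem classInner_comp_pow [Fintype G] (φ ψ : G → ℂ) (k : ℕ) (hk : k.Coprime (Nat.card G)) :
    Cfsg.classInner (fun g => φ (g ^ k)) (fun g => ψ (g ^ k)) = Cfsg.classInner φ ψ :=
  classInner_comp_equiv (powCoprime hk.symm) φ ψ

/-- Galois conjugates (by coprime power maps) of irreducible characters are irreducible. -/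
theorem IsIrrCharacter.comp_pow [Fintype G] {χ : G → ℂ} (hχ : Cfsg.IsIrrCharacter G χ)
    (k : ℕ) (hk : k.Coprime (Nat.card G)) : Cfsg.IsIrrCharacter G (fun g => χ (g ^ k)) := by
  have hgen := isGeneralizedCharacter_comp_pow (IsIrrCharacter.isCharacter hχ) k hk
  have hnorm : Cfsg.classInner (fun g => χ (g ^ k)) (fun g => χ (g ^ k)) = 1 := by
    rw [classInner_comp_pow _ _ k hk]
    exact classInner_irr_self hχ
  obtain ⟨ξ, hξ, h | h⟩ := exists_signed_irr_of_norm_one hgen hnorm
  · rw [h]; exact hξ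
  · exfalso
    have h1 := congrFun h 1
    simp only [one_pow, Pi.neg_apply] at h1
    obtain ⟨a, ha0, ha⟩ := IsIrrCharacter.apply_one_pos hχ
    obtain ⟨b, hb0, hb⟩ := IsIrrCharacter.apply_one_pos hξ
    rw [ha, hb] at h1
    have : (a : ℂ) + b = 0 := by rw [h1]; ring
    have h2 : a + b = 0 := by exact_mod_cast this
    omega

theorem IsCharacter.comp_pow [Fintype G] {χ : G → ℂ} (hχ : Cfsg.IsCharacter G χ)
    (k : ℕ) (hk : k.Coprime (Nat.card G)) : Cfsg.IsCharacter G (fun g => χ (g ^ k)) := by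
  rw [isCharacter_iff_mem_closure] at hχ
  induction hχ using AddSubmonoid.closure_induction with
  | mem x hx => exact IsIrrCharacter.isCharacter (IsIrrCharacter.comp_pow hx k hk)
  | zero => exact IsCharacter.zero
  | add x y _ _ hx hy => exact IsCharacter.add hx hy

end Cfsg.Agent.Helper6
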