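import Mathlib
import Cfsg.Prelude.Def_Characters
import Cfsg.Agent.Helper6.Clifford
import Cfsg.Agent.Helper6.GaloisConj

/-!
# Orbits of irreducible constituents under conjugation, and Galois-fixed constituents
-/

set_option autoImplicit false
set_option linter.style.haveILetI false

namespace Cfsg.Agent.Helper6

open scoped ComplexConjugate

universe u v

variable {G : Type u} [Group G]

/-- Two irreducible constituents of the restriction of an irreducible character to a normal
subgroup are conjugate. -/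
theorem conj_of_constituents [Fintype G] (N : Subgroup G) [Fintype N] [hN : N.Normal] (θ : G → ℂ)
    (hθ : Cfsg.IsIrrCharacter G θ) (χ : N → ℂ) (hχ : Cfsg.IsIrrCharacter N χ)
    (hconst : Cfsg.classInner (fun n : N => θ n) χ ≠ 0)
    (ψ : N → ℂ) (hψ : Cfsg.IsIrrCharacter N ψ)
    (hne : Cfsg.classInner (fun n : N => θ n) ψ ≠ 0) : ∃ g : G, ψ = conjFun N χ g := by
  classical
  haveI : Finite (Cfsg.IrrCharacter G) := irr_finite
  haveI : Fintype (Cfsg.IrrCharacter G) := Fintype.ofFinite _
  have hθchar := IsIrrCharacter.isCharacter hθ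
  have hθcf := IsCharacter.isClassFunction hθchar
  by_contra hnc
  have horth := classInner_indFun_of_not_conj N χ ψ hχ hψ hnc
  rw [classInner_self_expansion _ (indFun_isClassFunction N _)] at horth
  have hψind : Cfsg.IsCharacter G (Cfsg.indFun N ψ) :=
    isCharacter_indFun N _ (IsIrrCharacter.isCharacter hψ)
  have hχind : Cfsg.IsCharacter G (Cfsg.indFun N χ) :=
    isCharacter_indFun N _ (IsIrrCharacter.isCharacter hχ)
  have hnat : ∀ ξ : Cfsg.IrrCharacter G, ∃ k : ℕ,
      Cfsg.classInner (Cfsg.indFun N ψ) (ξ : G → ℂ) *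
        Cfsg.classInner (ξ : G → ℂ) (Cfsg.indFun N χ) = k := by
    intro ξ
    obtain ⟨a, ha⟩ := classInner_char_char_nat hψind (IsIrrCharacter.isCharacter ξ.2)
    obtain ⟨b, hb⟩ := classInner_char_char_nat (IsIrrCharacter.isCharacter ξ.2) hχind
    exact ⟨a * b, by rw [ha, hb, Nat.cast_mul]⟩
  choose k hk using hnat
  simp_rw [hk] at horth
  have hsum0 : ∑ ξ : Cfsg.IrrCharacter G, k ξ = 0 := by exact_mod_cast horth
  have hk0 : k ⟨θ, hθ⟩ = 0 := Finset.sum_eq_zero_iff.mp hsum0 _ (Finset.mem_univ _)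
  have hprod := hk ⟨θ, hθ⟩
  rw [hk0, Nat.cast_zero] at hprod
  rw [frobenius_reciprocity N _ _ hθcf] at hprod
  have h2 : Cfsg.classInner θ (Cfsg.indFun N χ) =
      conj (Cfsg.classInner (Cfsg.indFun N χ) θ) := classInner_conj_symm _ _
  rw [h2, frobenius_reciprocity N _ _ hθcf] at hprod
  rcases mul_eq_zero.mp hprod with h | h
  · apply hne
    rw [classInner_conj_symm, h, map_zero]
  · apply hconst
    have h3 := (map_eq_zero (starRingEnd ℂ)).mp h
    rw [classInner_conj_symm, h3, map_zero]

/-- Orbit–stabilizer for the conjugation action on functions on a normal subgroup. -/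
theorem card_conj_orbit [Fintype G] (H : Subgroup G) [hN : H.Normal] (θ : H → ℂ)
    [DecidableEq (H → ℂ)] :
    ((Finset.univ : Finset G).image (fun g : G => conjFun H θ g)).card =
      (conjStab H θ).index := by
  have hfib : ∀ ψ ∈ (Finset.univ : Finset G).image (fun g : G => conjFun H θ g),
      (Finset.univ.filter (fun g : G => conjFun H θ g = ψ)).card =
        Nat.card (conjStab H θ) := by
    intro ψ hψ
    obtain ⟨g₀, -, rfl⟩ := Finset.mem_image.mp hψ
    have : Nat.card (conjStab H θ) = Nat.card {g : G // conjFun H θ g = θ} := rfl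
    rw [this, Nat.card_eq_fintype_card, Fintype.card_subtype]
    apply Finset.card_bij (fun g _ => g * g₀⁻¹)
    · intro g hg
      simp only [Finset.mem_filter, Finset.mem_univ, true_and] at hg ⊢
      exact (conjFun_eq_iff H θ g g₀).mp hg
    · intro a _ b _ hab
      exact mul_right_cancel hab
    · intro b hb
      simp only [Finset.mem_filter, Finset.mem_univ, true_and] at hb
      refine ⟨b * g₀, ?_, by simp⟩
      simp only [Finset.mem_filter, Finset.mem_univ, true_and]
      rw [conjFun_eq_iff, mul_inv_cancel_right]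
      exact hb
  have hcount := Finset.card_eq_sum_card_fiberwise (s := (Finset.univ : Finset G))
    (t := (Finset.univ : Finset G).image (fun g : G => conjFun H θ g))
    (f := fun g : G => conjFun H θ g)
    (fun g _ => Finset.mem_image.mpr ⟨g, Finset.mem_univ _, rfl⟩)
  rw [Finset.sum_congr rfl (fun ψ hψ => by rw [hfib ψ hψ]), Finset.sum_const, smul_eq_mul,
    Finset.card_univ, ← Nat.card_eq_fintype_card, ← (conjStab H θ).index_mul_card] at hcount
  have hpos : 0 < Nat.card (conjStab H θ) := Nat.card_pos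
  exact (Nat.eq_of_mul_eq_mul_right hpos hcount).symm

theorem le_conjStab_of_isClassFunction (H : Subgroup G) [hN : H.Normal] (θ : H → ℂ)
    (hθ : Cfsg.IsClassFunction H θ) : H ≤ conjStab H θ := by
  intro n hn
  rw [mem_conjStab]
  ext h
  unfold conjFun
  have := hθ h ⟨n, hn⟩
  rw [← this]
  rfl

theorem conjFun_comp_pow (H : Subgroup G) [hN : H.Normal] (ψ : H → ℂ) (g : G) (k : ℕ) :
    (fun n : H => conjFun H ψ g (n ^ k)) = conjFun H (fun n : H => ψ (n ^ k)) g := by
  ext n
  unfold conjFun
  congr 1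
  apply Subtype.ext
  simp [conj_pow]

/-- Constituents of a Galois-fixed character over a normal subgroup of index prime to `p`
are fixed by a Galois automorphism of `p`-power order. -/
theorem galois_fixed_constituent [Fintype G] (p : ℕ) [Fact p.Prime] (N : Subgroup G)
    [hN : N.Normal] [Fintype N] (hidx : ¬ p ∣ N.index) (k e : ℕ)
    (hk : Nat.Coprime k (Nat.card G)) (hke : k ^ (p ^ e) ≡ 1 [MOD Nat.card G])
    (χ : G → ℂ) (hχ : Cfsg.IsIrrCharacter G χ) (hχk : ∀ g : G, χ (g ^ k) = χ g)
    (θ : N → ℂ) (hθ : Cfsg.IsIrrCharacter N θ)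
    (hne : Cfsg.classInner (fun n : N => χ n) θ ≠ 0) : ∀ n : N, θ (n ^ k) = θ n := by
  classical
  have hkN : k.Coprime (Nat.card N) :=
    Nat.Coprime.coprime_dvd_right (Subgroup.card_subgroup_dvd_card N) hk
  have hσθ : Cfsg.IsIrrCharacter N (fun n => θ (n ^ k)) := IsIrrCharacter.comp_pow hθ k hkN
  have hσne : Cfsg.classInner (fun n : N => χ n) (fun n => θ (n ^ k)) ≠ 0 := by
    have h1 : (fun n : N => χ n) = (fun n : N => (fun m : N => χ m) (n ^ k)) := by
      ext n
      change χ n = χ ((n : G) ^ k)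
      rw [hχk]
    rw [h1]
    exact (classInner_comp_pow (fun m : N => χ m) θ k hkN).symm ▸ hne
  obtain ⟨g₁, hg₁⟩ := conj_of_constituents N χ hχ θ hθ hne _ hσθ hσne
  let O : Finset (N → ℂ) := (Finset.univ : Finset G).image (fun g : G => conjFun N θ g)
  have hσO : ∀ ψ ∈ O, (fun n : N => ψ (n ^ k)) ∈ O := by
    intro ψ hψ
    obtain ⟨g, -, rfl⟩ := Finset.mem_image.mp hψ
    rw [conjFun_comp_pow, hg₁, conjFun_mul]
    exact Finset.mem_image.mpr ⟨g₁ * g, Finset.mem_univ _, rfl⟩
  let F : Function.End O := fun ψ => ⟨fun n : N => ψ.1 (n ^ k), hσO ψ.1 ψ.2⟩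
  have hiter : ∀ (m : ℕ) (ψ : O), ((F ^ m) ψ).1 = fun n : N => ψ.1 (n ^ (k ^ m)) := by
    intro m
    induction m with
    | zero =>
      intro ψ
      ext n
      rw [pow_zero, pow_zero, pow_one]
      rfl
    | succ m ih =>
      intro ψ
      rw [pow_succ']
      change (fun n : N => ((F ^ m) ψ).1 (n ^ k)) = _
      rw [ih]
      ext n
      change ψ.1 ((n ^ k) ^ k ^ m) = ψ.1 (n ^ k ^ (m + 1))
      rw [← pow_mul, ← pow_succ']
  have hF : F ^ p ^ e = 1 := by
    funext ψ
    apply Subtype.ext
    rw [hiter]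
    ext n
    change ψ.1 (n ^ (k ^ (p ^ e))) = ψ.1 n
    have h1 : n ^ (k ^ (p ^ e)) = n ^ 1 := by
      rw [pow_eq_pow_iff_modEq]
      apply hke.of_dvd
      exact (orderOf_dvd_natCard n).trans (Subgroup.card_subgroup_dvd_card N)
    rw [h1, pow_one]
  have hmod := Equiv.Perm.card_fixedPoints_modEq (f := F) (p := p) (n := e) hF
  have hcardO : Fintype.card O = (conjStab N θ).index := by
    rw [Fintype.card_coe]
    exact card_conj_orbit N θ
  have hNT : N ≤ conjStab N θ :=
    le_conjStab_of_isClassFunction N θ (IsCharacter.isClassFunction (IsIrrCharacter.isCharacter hθ))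
  have hdvd : (conjStab N θ).index ∣ N.index := Subgroup.index_dvd_of_le hNT
  have hpO : ¬ p ∣ Fintype.card O := by
    rw [hcardO]
    exact fun h => hidx (h.trans hdvd)
  have hfix : (Function.fixedPoints F).Nonempty := by
    by_contra h
    rw [Set.not_nonempty_iff_eq_empty] at h
    have h0 : Fintype.card (Function.fixedPoints F) = 0 := by
      rw [Fintype.card_eq_zero_iff, h]
      exact Set.isEmpty_coe_sort.mpr rfl
    rw [h0] at hmod
    exact hpO ((Nat.modEq_zero_iff_dvd).mp hmod)
  obtain ⟨⟨ψ, hψO⟩, hψfix⟩ := hfix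
  obtain ⟨g₀, -, rfl⟩ := Finset.mem_image.mp hψO
  have h1 : (fun n : N => conjFun N θ g₀ (n ^ k)) = conjFun N θ g₀ := congrArg Subtype.val hψfix
  rw [conjFun_comp_pow] at h1
  have h2 := congrArg (fun ψ => conjFun N ψ g₀⁻¹) h1
  simp only [conjFun_mul, mul_inv_cancel, conjFun_one] at h2
  intro n
  exact congrFun h2 n

end Cfsg.Agent.Helper6
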