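import Mathlib
import Cfsg.Prelude.Def_Characters
import Cfsg.Prelude.Def_Blocks
import Cfsg.Agent.Helper6.BlockCover1
import Cfsg.Agent.Helper6.CliffordOrbit

/-!
# Covering of blocks of a normal subgroup: the converse direction
-/

set_option autoImplicit false
set_option linter.style.haveILetI false

namespace Cfsg.Agent.Helper6

open scoped ComplexConjugate

universe u

variable {G : Type u} [Group G] {M : Ideal Cfsg.AlgInt}

/-- Conjugation of irreducible characters of a normal subgroup. -/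
noncomputable def conjIrr [Finite G] (N : Subgroup G) [hN : N.Normal] (g : G)
    (θ : Cfsg.IrrCharacter N) : Cfsg.IrrCharacter N :=
  ⟨conjFun N (θ : N → ℂ) g, conjFun_isIrr N θ.2 g⟩

theorem conjIrr_conjIrr [Finite G] (N : Subgroup G) [hN : N.Normal] (a b : G)
    (θ : Cfsg.IrrCharacter N) : conjIrr N b (conjIrr N a θ) = conjIrr N (a * b) θ :=
  Subtype.ext (conjFun_mul N (θ : N → ℂ) a b)

theorem conjIrr_one [Finite G] (N : Subgroup G) [hN : N.Normal]
    (θ : Cfsg.IrrCharacter N) : conjIrr N 1 θ = θ :=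
  Subtype.ext (conjFun_one N (θ : N → ℂ))

/-- Index of the centralizer is invariant under group isomorphisms. -/
theorem index_centralizer_mulEquiv {H : Type*} [Group H] [Finite H] (φ : H ≃* H) (m : H) :
    (Subgroup.centralizer ({φ m} : Set H)).index = (Subgroup.centralizer ({m} : Set H)).index := by
  rw [index_centralizer_eq_card_conj, index_centralizer_eq_card_conj]
  symm
  apply Nat.card_congr
  refine Equiv.subtypeEquiv φ.toEquiv ?_
  intro x
  constructor
  · intro h
    obtain ⟨c, hc⟩ := isConj_iff.mp h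
    apply isConj_iff.mpr
    refine ⟨φ c, ?_⟩
    change φ c * φ m * (φ c)⁻¹ = φ x
    rw [← map_inv, ← map_mul, ← map_mul, hc]
  · intro h
    obtain ⟨c, hc⟩ := isConj_iff.mp h
    apply isConj_iff.mpr
    refine ⟨φ.symm c, ?_⟩
    apply φ.injective
    rw [map_mul, map_mul, map_inv, MulEquiv.apply_symm_apply]
    exact hc

theorem centralChar_conjFun [Finite G] (N : Subgroup G) [hN : N.Normal] (θ : N → ℂ) (g : G)
    (m : N) :
    Cfsg.centralChar (conjFun N θ g) m =
      Cfsg.centralChar θ ⟨g * m * g⁻¹, hN.conj_mem m m.2 g⟩ := by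
  unfold Cfsg.centralChar
  have h1 : conjFun N θ g 1 = θ 1 := by
    unfold conjFun
    exact congrArg _ (Subtype.ext (by simp))
  have h2 := index_centralizer_mulEquiv (MulAut.conjNormal g : N ≃* N) m
  have h3 : (MulAut.conjNormal g : N ≃* N) m = ⟨g * m * g⁻¹, hN.conj_mem m m.2 g⟩ := by
    apply Subtype.ext
    simp [MulAut.conjNormal_apply]
  rw [h3] at h2
  rw [h1, h2]
  rfl

theorem sameBlock_conjFun [Finite G] (N : Subgroup G) [hN : N.Normal] {θ θ' : N → ℂ} (g : G)
    (h : Cfsg.SameBlock M θ θ') : Cfsg.SameBlock M (conjFun N θ g) (conjFun N θ' g) := by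
  intro m
  rw [centralChar_conjFun, centralChar_conjFun]
  exact h _

/-- The union of the `G`-conjugates of a set of irreducible characters of `N`. -/
def orbitUnion [Finite G] (N : Subgroup G) [hN : N.Normal] (b : Set (Cfsg.IrrCharacter N)) :
    Set (Cfsg.IrrCharacter N) :=
  {θ | ∃ g : G, conjIrr N g θ ∈ b}

theorem subset_orbitUnion [Finite G] (N : Subgroup G) [hN : N.Normal]
    (b : Set (Cfsg.IrrCharacter N)) : b ⊆ orbitUnion N b := by
  intro θ hθ
  exact ⟨1, by rw [conjIrr_one]; exact hθ⟩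

theorem conjIrr_mem_orbitUnion [Finite G] (N : Subgroup G) [hN : N.Normal]
    (b : Set (Cfsg.IrrCharacter N)) (g : G) {θ : Cfsg.IrrCharacter N}
    (hθ : θ ∈ orbitUnion N b) : conjIrr N g θ ∈ orbitUnion N b := by
  obtain ⟨x, hx⟩ := hθ
  refine ⟨g⁻¹ * x, ?_⟩
  rw [conjIrr_conjIrr, mul_inv_cancel_left]
  exact hx

theorem orbitUnion_closed [Finite G] (hM : M.IsMaximal) (N : Subgroup G) [hN : N.Normal]
    (b : Set (Cfsg.IrrCharacter N)) (hb : Cfsg.IsPBlock M b) :
    ∀ θ ∈ orbitUnion N b, Cfsg.blockOf M (θ : N → ℂ) ⊆ orbitUnion N b := by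
  obtain ⟨θ₀, rfl⟩ := hb
  intro θ hθ θ' hθ'
  obtain ⟨g, hg⟩ := hθ
  refine ⟨g, ?_⟩
  have h1 : Cfsg.SameBlock M (θ₀ : N → ℂ) (conjFun N (θ : N → ℂ) g) := hg
  have h2 : Cfsg.SameBlock M (conjFun N (θ : N → ℂ) g) (conjFun N (θ' : N → ℂ) g) :=
    sameBlock_conjFun N g hθ'
  exact sameBlock_trans hM h1 h2

theorem blockCoeff_orbitUnion_conj [Finite G] (N : Subgroup G) [hN : N.Normal]
    (b : Set (Cfsg.IrrCharacter N)) (g : G) :
    conjFun N (Cfsg.blockCoeff (orbitUnion N b)) g = Cfsg.blockCoeff (orbitUnion N b) := by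
  ext m
  unfold conjFun Cfsg.blockCoeff
  congr 1
  symm
  apply finsum_mem_eq_of_bijOn (conjIrr N g⁻¹)
  · refine ⟨?_, ?_, ?_⟩
    · intro θ hθ
      exact conjIrr_mem_orbitUnion N b g⁻¹ hθ
    · intro θ _ θ' _ h
      have := congrArg (conjIrr N g) h
      rwa [conjIrr_conjIrr, conjIrr_conjIrr, inv_mul_cancel, conjIrr_one, conjIrr_one] at this
    · intro θ hθ
      refine ⟨conjIrr N g θ, conjIrr_mem_orbitUnion N b g hθ, ?_⟩
      rw [conjIrr_conjIrr, mul_inv_cancel, conjIrr_one]
  · intro θ _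
    have h1 : ((conjIrr N g⁻¹ θ : Cfsg.IrrCharacter N) : N → ℂ) 1 = (θ : N → ℂ) 1 := by
      change conjFun N (θ : N → ℂ) g⁻¹ 1 = _
      unfold conjFun
      exact congrArg _ (Subtype.ext (by simp))
    have h2 : ((conjIrr N g⁻¹ θ : Cfsg.IrrCharacter N) : N → ℂ)
        ⟨g * m * g⁻¹, hN.conj_mem m m.2 g⟩ = (θ : N → ℂ) m := by
      change conjFun N (θ : N → ℂ) g⁻¹ _ = _
      unfold conjFun
      exact congrArg _ (Subtype.ext (by simp [mul_assoc]))
    rw [h1, h2]

/-- The key step of the converse direction. -/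
theorem exists_constituent_of_congr [Fintype G] (hM : M.IsMaximal) (N : Subgroup G)
    [hN : N.Normal] [Fintype N] (A : Set (Cfsg.IrrCharacter N))
    (hAS : ∀ m : N, Cfsg.MemLocalRing M (Cfsg.blockCoeff A m))
    (hAinv : ∀ g : G, conjFun N (Cfsg.blockCoeff A) g = Cfsg.blockCoeff A)
    (χ : Cfsg.IrrCharacter G) (θ : Cfsg.IrrCharacter N) (hθA : θ ∈ A)
    (hcong : ∀ n : N, Cfsg.MemLocalIdeal M (Cfsg.centralChar (χ : G → ℂ) (n : G) -
      Cfsg.inducedCentralChar N (θ : N → ℂ) (n : G))) :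
    ∃ θ' ∈ A, Cfsg.classInner (fun n : N => (χ : G → ℂ) n) (θ' : N → ℂ) ≠ 0 := by
  classical
  haveI : Finite (Cfsg.IrrCharacter N) := irr_finite
  haveI : Fintype (Cfsg.IrrCharacter N) := Fintype.ofFinite _
  by_contra hcon
  push Not at hcon
  set F : G → ℂ := Cfsg.extendByZero N (Cfsg.blockCoeff A) with hF
  set Θ : G → ℂ := Cfsg.indFun N (θ : N → ℂ) with hΘ
  have hθ1 : (θ : N → ℂ) 1 ≠ 0 := IsIrrCharacter.apply_one_ne_zero θ.2
  have hχ1 : (χ : G → ℂ) 1 ≠ 0 := IsIrrCharacter.apply_one_ne_zero χ.2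
  have hI0 : (N.index : ℂ) ≠ 0 := by
    have : N.index ≠ 0 := Subgroup.index_ne_zero_of_finite
    exact_mod_cast this
  have hΘ1 : Θ 1 ≠ 0 := by
    rw [hΘ, indFun_apply_one]
    exact mul_ne_zero hI0 hθ1
  have hΘcf : Cfsg.IsClassFunction G Θ := indFun_isClassFunction N _
  have hχcf := IsCharacter.isClassFunction (IsIrrCharacter.isCharacter χ.2)
  have hFcf : Cfsg.IsClassFunction G F := by
    intro y g
    rw [hF, ← extendByZero_conjFun, hAinv]
  -- first sum
  have hsum1 : ∑ g : G, F g * (χ : G → ℂ) g = 0 := by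
    rw [hF, sum_extendByZero_mul]
    rw [sum_blockCoeff_mul_fun A (fun n : N => (χ : G → ℂ) n)]
    apply Finset.sum_eq_zero
    intro ψ _
    by_cases hψ : ψ ∈ A
    · rw [if_pos hψ, hcon ψ hψ, mul_zero]
    · rw [if_neg hψ]
  -- second sum
  have hsum2 : ∑ g : G, F g * Θ g = Θ 1 := by
    have hG0 : (Nat.card G : ℂ) ≠ 0 := by
      have : 0 < Nat.card G := Nat.card_pos
      exact_mod_cast this.ne'
    have hN0 : (Nat.card N : ℂ) ≠ 0 := by
      have : 0 < Nat.card N := Nat.card_pos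
      exact_mod_cast this.ne'
    have hcF : Cfsg.IsClassFunction G (fun g => conj (F g)) := by
      intro y g
      simp only
      rw [hFcf y g]
    have h1 := frobenius_reciprocity N (θ : N → ℂ) (fun g => conj (F g)) hcF
    rw [classInner_def, classInner_def] at h1
    simp only [Complex.conj_conj] at h1
    have h2 : ∑ h : N, (θ : N → ℂ) h * F (h : G) = (θ : N → ℂ) 1 := by
      have := sum_blockCoeff_mul A θ
      rw [if_pos hθA] at this
      rw [← this]
      apply Finset.sum_congr rfl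
      intro h _
      rw [hF, extendByZero_coe, mul_comm]
    rw [h2] at h1
    have h3 : ∑ g : G, F g * Θ g = ∑ g : G, Θ g * F g := by
      apply Finset.sum_congr rfl
      intro g _
      rw [mul_comm]
    rw [h3]
    have h4 : ∑ g : G, Θ g * F g = (Nat.card G : ℂ) * ((Nat.card N : ℂ)⁻¹ * (θ : N → ℂ) 1) := by
      rw [← h1]
      field_simp
      rfl
    rw [h4, hΘ, indFun_apply_one]
    have hcard : (Nat.card G : ℂ) = (Nat.card N : ℂ) * (N.index : ℂ) := by
      rw [← N.card_mul_index]; push_cast; ring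
    rw [hcard]
    field_simp
  set d : G → ℂ := fun g => F g * (Θ g / Θ 1 - (χ : G → ℂ) g / (χ : G → ℂ) 1) with hd
  have hdcf : Cfsg.IsClassFunction G d := by
    intro g h
    simp only [hd]
    rw [hFcf g h, hχcf g h, hΘcf g h]
  have hsum : ∑ g : G, d g = 1 := by
    have : ∑ g : G, d g = (∑ g : G, F g * Θ g) / Θ 1 -
        (∑ g : G, F g * (χ : G → ℂ) g) / (χ : G → ℂ) 1 := by
      rw [Finset.sum_div, Finset.sum_div, ← Finset.sum_sub_distrib]
      apply Finset.sum_congr rfl
      intro g _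
      simp only [hd]
      ring
    rw [this, hsum1, hsum2, div_self hΘ1, zero_div, sub_zero]
  have hJ : Cfsg.MemLocalIdeal M (∑ g ∈ (Finset.univ : Finset G), d g) := by
    apply sum_mem_of_conj_closed (fun z => Cfsg.MemLocalIdeal M z) (memLocalIdeal_zero hM)
      (fun x y hx hy => MemLocalIdeal.add hM hx hy) d hdcf _ _ Finset.univ rfl
      (fun g _ x => Finset.mem_univ _)
    intro g
    have : ((Subgroup.centralizer ({g} : Set G)).index : ℂ) * d g =
        F g * (Cfsg.centralChar Θ g - Cfsg.centralChar (χ : G → ℂ) g) := by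
      simp only [hd]
      unfold Cfsg.centralChar
      ring
    rw [this]
    by_cases hg : g ∈ N
    · have hFg : F g = Cfsg.blockCoeff A ⟨g, hg⟩ := extendByZero_mem N _ hg
      rw [hFg]
      apply MemLocalIdeal.mul_left hM (hAS _)
      rw [hΘ, centralChar_indFun N _ hθ1 g, ← inducedCentralChar_eq_sum]
      have := hcong ⟨g, hg⟩
      have h2 := MemLocalIdeal.neg this
      rwa [neg_sub] at h2
    · have hFg : F g = 0 := extendByZero_not_mem N _ hg
      rw [hFg, zero_mul]
      exact memLocalIdeal_zero hM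
  rw [hsum] at hJ
  exact not_memLocalIdeal_one hJ

end Cfsg.Agent.Helper6
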