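import Mathlib
import Cfsg.Prelude.Def_Characters
import Cfsg.Prelude.Def_Blocks
import Cfsg.Agent.Helper6.BlockCover2

/-!
# Covering of blocks of a normal subgroup: the main statements
-/

set_option autoImplicit false
set_option linter.style.haveILetI false

namespace Cfsg.Agent.Helper6

open scoped ComplexConjugate

universe u

variable {G : Type u} [Group G] {M : Ideal Cfsg.AlgInt}

/-- From the congruence, `χ` has a constituent in `b` itself. -/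
theorem exists_constituent_in_block [Fintype G] (hM : M.IsMaximal) (N : Subgroup G)
    [hN : N.Normal] [Fintype N] (b : Set (Cfsg.IrrCharacter N)) (hb : Cfsg.IsPBlock M b)
    (χ : Cfsg.IrrCharacter G) (θ : Cfsg.IrrCharacter N) (hθ : θ ∈ b)
    (hcong : ∀ n : N, Cfsg.MemLocalIdeal M (Cfsg.centralChar (χ : G → ℂ) (n : G) -
      Cfsg.inducedCentralChar N (θ : N → ℂ) (n : G))) :
    ∃ θ' ∈ b, Cfsg.classInner (fun n : N => (χ : G → ℂ) n) (θ' : N → ℂ) ≠ 0 := by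
  have hAS : ∀ m : N, Cfsg.MemLocalRing M (Cfsg.blockCoeff (orbitUnion N b) m) :=
    fun m => memLocalRing_blockCoeff_of_closed hM _ (orbitUnion_closed hM N b hb) m
  obtain ⟨θ', hθ'A, hθ'⟩ := exists_constituent_of_congr hM N (orbitUnion N b) hAS
    (blockCoeff_orbitUnion_conj N b) χ θ (subset_orbitUnion N b hθ) hcong
  obtain ⟨g, hg⟩ := hθ'A
  refine ⟨conjIrr N g θ', hg, ?_⟩
  have hχcf := IsCharacter.isClassFunction (IsIrrCharacter.isCharacter χ.2)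
  have h1 : Cfsg.classInner (fun n : N => (χ : G → ℂ) n) (conjFun N (θ' : N → ℂ) g) =
      Cfsg.classInner (conjFun N (fun n : N => (χ : G → ℂ) n) g) (conjFun N (θ' : N → ℂ) g) := by
    rw [conjFun_restrict N (χ : G → ℂ) hχcf g]
  change Cfsg.classInner (fun n : N => (χ : G → ℂ) n) (conjFun N (θ' : N → ℂ) g) ≠ 0
  rw [h1, classInner_conjFun]
  exact hθ'

/-- `B` covers `b` if and only if the central character congruence holds. -/
theorem covering_iff [Fintype G] (hM : M.IsMaximal) (N : Subgroup G) [hN : N.Normal]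
    [Fintype N] (B : Set (Cfsg.IrrCharacter G)) (hB : Cfsg.IsPBlock M B)
    (b : Set (Cfsg.IrrCharacter N)) (hb : Cfsg.IsPBlock M b) :
    (∃ χ ∈ B, ∃ θ ∈ b, Cfsg.classInner (fun n : N => (χ : G → ℂ) n) (θ : N → ℂ) ≠ 0) ↔
      ∀ χ ∈ B, ∀ θ ∈ b, ∀ n : N, Cfsg.MemLocalIdeal M (Cfsg.centralChar (χ : G → ℂ) (n : G) -
        Cfsg.inducedCentralChar N (θ : N → ℂ) (n : G)) := by
  constructor
  · rintro ⟨χ₁, hχ₁, θ₁, hθ₁, hconst⟩ χ hχ θ hθ n
    exact covering_congr hM N B hB b hb χ₁ hχ₁ θ₁ hθ₁ hconst χ hχ θ hθ n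
  · intro h
    obtain ⟨χ₀, hχ₀⟩ := hB
    obtain ⟨θ₀, hθ₀⟩ := hb
    have hχ₀B : χ₀ ∈ B := by rw [hχ₀]; exact mem_blockOf_self hM χ₀
    have hθ₀b : θ₀ ∈ b := by rw [hθ₀]; exact mem_blockOf_self hM θ₀
    obtain ⟨θ', hθ', hne⟩ := exists_constituent_in_block hM N b ⟨θ₀, hθ₀⟩ χ₀ θ₀ hθ₀b
      (h χ₀ hχ₀B θ₀ hθ₀b)
    exact ⟨χ₀, hχ₀B, θ', hθ', hne⟩

/-- If `B` covers `b`, every constituent of the restriction of a member of `B` is conjugate to a
member of `b`. -/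
theorem covering_conj [Fintype G] (hM : M.IsMaximal) (N : Subgroup G) [hN : N.Normal]
    [Fintype N] (B : Set (Cfsg.IrrCharacter G)) (hB : Cfsg.IsPBlock M B)
    (b : Set (Cfsg.IrrCharacter N)) (hb : Cfsg.IsPBlock M b)
    (χ : Cfsg.IrrCharacter G) (hχ : χ ∈ B) (θ : Cfsg.IrrCharacter N) (hθ : θ ∈ b)
    (hcon : Cfsg.classInner (fun n : N => (χ : G → ℂ) n) (θ : N → ℂ) ≠ 0)
    (χ' : Cfsg.IrrCharacter G) (hχ' : χ' ∈ B) (ψ : Cfsg.IrrCharacter N)
    (hψ : Cfsg.classInner (fun n : N => (χ' : G → ℂ) n) (ψ : N → ℂ) ≠ 0) :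
    ∃ g : G, ∃ θ' ∈ b, ∀ n : N,
      (ψ : N → ℂ) n = (θ' : N → ℂ) ⟨g * n * g⁻¹, hN.conj_mem n n.2 g⟩ := by
  have hcong := fun n => covering_congr hM N B hB b hb χ hχ θ hθ hcon χ' hχ' θ hθ n
  obtain ⟨θ', hθ', hne⟩ := exists_constituent_in_block hM N b hb χ' θ hθ hcong
  obtain ⟨g, hg⟩ := conj_of_constituents N (χ' : G → ℂ) χ'.2 (θ' : N → ℂ) θ'.2 hne
    (ψ : N → ℂ) ψ.2 hψ
  refine ⟨g, θ', hθ', ?_⟩
  intro n
  rw [hg]
  rfl

end Cfsg.Agent.Helper6
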