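import Mathlib
import Cfsg.Prelude.Def_Characters
import Cfsg.Agent.Helper6.Brauer10

/-!
# Characters of `p`-defect zero vanish on `p`-singular elements: main argument
-/

set_option autoImplicit false
set_option linter.style.haveILetI false

namespace Cfsg.Agent.Helper6

open scoped ComplexConjugate
open Module

universe u v

variable {G : Type u} [Group G]

theorem IsCharacter.conj_isIntegral {E : Type u} [Group E] [Finite E] {φ : E → ℂ}
    (hφ : Cfsg.IsCharacter E φ) (e : E) : IsIntegral ℤ (conj (φ e)) := by
  obtain ⟨n, σ, rfl⟩ := hφ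
  exact conj_char_isIntegral σ e

set_option maxHeartbeats 1600000 in
/-- The multiplicities of the truncated character on an elementary subgroup are integers. -/
theorem defect_zero_mult_int [Fintype G] {V : Type v} [AddCommGroup V] [Module ℂ V]
    [FiniteDimensional ℂ V] (ρ : Representation ℂ G V) [hirr : ρ.IsIrreducible] (p n g' d' : ℕ)
    [hp : Fact p.Prime] (hG : Nat.card G = p ^ n * g') (hg' : ¬ p ∣ g')
    (hd : finrank ℂ V = p ^ n * d') (E : Subgroup G) [Fintype E] {q : ℕ} (hq : q.Prime)
    (hE : Cfsg.IsElementary q E) (φ : E → ℂ) (hφ : Cfsg.IsIrrCharacter E φ) :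
    ∃ m : ℤ, Cfsg.classInner
      (fun e : E => if p ∣ orderOf (e : G) then (0 : ℂ) else ρ.character e) φ = m := by
  classical
  obtain ⟨B, hBn, hcop, b, hb⟩ := exists_normal_p_complement hq hE p
  haveI := hBn
  haveI : Fintype B := Fintype.ofFinite _
  have hχc : Cfsg.IsCharacter G ρ.character :=
    IsIrrCharacter.isCharacter (isIrrCharacter_of_rep ρ hirr)
  have hφc := IsIrrCharacter.isCharacter hφ
  -- the inner product on B
  obtain ⟨N, hN⟩ := classInner_char_char_nat
    (IsCharacter.restrict B (IsCharacter.restrict E hχc)) (IsCharacter.restrict B hφc)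
  rw [classInner_def] at hN
  -- rewrite the inner product on E as a sum over B
  have hθe : ∀ e : E, (if p ∣ orderOf (e : G) then (0 : ℂ) else ρ.character e) * conj (φ e) =
      if e ∈ B then ρ.character e * conj (φ e) else 0 := by
    intro e
    rw [Subgroup.orderOf_coe]
    by_cases he : e ∈ B
    · rw [if_neg ((mem_iff_not_dvd_orderOf B hcop hb e).mp he), if_pos he]
    · have : p ∣ orderOf e := by
        by_contra h
        exact he ((mem_iff_not_dvd_orderOf B hcop hb e).mpr h)
      rw [if_pos this, if_neg he, zero_mul]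
  have hsum : ∑ e : E, (if p ∣ orderOf (e : G) then (0 : ℂ) else ρ.character e) * conj (φ e) =
      ∑ x : B, ρ.character ((x : E) : G) * conj (φ x) := by
    simp_rw [hθe]
    rw [← Finset.sum_filter]
    rw [Finset.sum_subtype (Finset.univ.filter (fun e : E => e ∈ B)) (p := fun e => e ∈ B)
      (by intro e; simp) (fun e => ρ.character (e : G) * conj (φ e))]
  have hcardE : (Nat.card E : ℂ) = (Nat.card B : ℂ) * (p : ℂ) ^ b := by
    rw [← Subgroup.card_mul_index B, hb]
    push_cast
    rfl
  have hBne : (Nat.card B : ℂ) ≠ 0 := by exact_mod_cast Nat.card_pos.ne'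
  have hpb : ((p : ℂ) ^ b) ≠ 0 := pow_ne_zero _ (by exact_mod_cast hp.out.ne_zero)
  set r := Cfsg.classInner
    (fun e : E => if p ∣ orderOf (e : G) then (0 : ℂ) else ρ.character e) φ with hr
  have hr1 : r = (Nat.card E : ℂ)⁻¹ * ∑ x : B, ρ.character ((x : E) : G) * conj (φ x) := by
    rw [hr, classInner_def, hsum]
  -- (i)
  have hi : (p : ℂ) ^ b * r = N := by
    rw [← hN, hr1, hcardE, mul_inv, ← mul_assoc, ← mul_assoc]
    congr 1
    field_simp
  -- (ii)
  have hdpos : 0 < finrank ℂ V := by
    haveI : Nontrivial V := irr_nontrivial ρ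
    exact Module.finrank_pos
  have hd'0 : d' ≠ 0 := by
    rintro rfl
    rw [mul_zero] at hd
    omega
  have hg'0 : g' ≠ 0 := by
    rintro rfl
    exact hg' (dvd_zero p)
  have hpn : ((p : ℂ) ^ n) ≠ 0 := pow_ne_zero _ (by exact_mod_cast hp.out.ne_zero)
  have hcx : ∀ x : B, ∃ c : ℕ,
      Nat.card (Subgroup.centralizer ({((x : E) : G)} : Set G)) = p ^ b * c := fun x =>
    pow_dvd_card_centralizer E hq hE B hcop hb (x : E) x.2
  choose c hc using hcx
  have hii : IsIntegral ℤ (((g' : ℂ) * (Nat.card B : ℂ)) * r) := by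
    have hterm : ((g' : ℂ) * (Nat.card B : ℂ)) * r =
        ∑ x : B, ((((Subgroup.centralizer ({((x : E) : G)} : Set G)).index : ℂ) *
          ρ.character ((x : E) : G) / (finrank ℂ V : ℂ)) * ((d' : ℂ) * (c x : ℂ))) *
            conj (φ x) := by
      rw [hr1, hcardE, Finset.mul_sum, Finset.mul_sum]
      apply Finset.sum_congr rfl
      intro x _
      have hidx : ((Subgroup.centralizer ({((x : E) : G)} : Set G)).index : ℂ) *
          ((p : ℂ) ^ b * (c x : ℂ)) = (p : ℂ) ^ n * (g' : ℂ) := by
        have := Subgroup.index_mul_card (Subgroup.centralizer ({((x : E) : G)} : Set G))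
        rw [hc x, hG] at this
        exact_mod_cast this
      have hcne : (c x : ℂ) ≠ 0 := by
        intro h0
        rw [h0, mul_zero, mul_zero] at hidx
        have : (p : ℂ) ^ n * (g' : ℂ) ≠ 0 := mul_ne_zero hpn (by exact_mod_cast hg'0)
        exact this hidx.symm
      have hdC : (finrank ℂ V : ℂ) = (p : ℂ) ^ n * (d' : ℂ) := by
        rw [hd]
        push_cast
        rfl
      have hd'C : (d' : ℂ) ≠ 0 := by exact_mod_cast hd'0
      rw [hdC]
      have hidx' : ((Subgroup.centralizer ({((x : E) : G)} : Set G)).index : ℂ) =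
          (p : ℂ) ^ n * (g' : ℂ) / ((p : ℂ) ^ b * (c x : ℂ)) := by
        rw [eq_div_iff (mul_ne_zero hpb hcne)]
        exact hidx
      rw [hidx']
      field_simp
    rw [hterm]
    apply IsIntegral.sum
    intro x _
    apply IsIntegral.mul
    · apply IsIntegral.mul
      · exact isIntegral_class_mul_char_div ρ ((x : E) : G)
      · exact IsIntegral.mul (isIntegral_natCast d') (isIntegral_natCast (c x))
    · exact IsCharacter.conj_isIntegral hφc x
  -- (iii)
  have hdvd : p ^ b ∣ g' * Nat.card B * N := by
    apply nat_dvd_of_isIntegral (g' * Nat.card B * N) (p ^ b) (pow_pos hp.out.pos b).ne' _ hii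
    push_cast
    rw [← hi]
    ring
  have hcop2 : Nat.Coprime (p ^ b) (g' * Nat.card B) := by
    apply Nat.Coprime.pow_left
    apply Nat.Coprime.mul_right
    · exact (Nat.Prime.coprime_iff_not_dvd hp.out).mpr hg'
    · exact hcop.symm
  obtain ⟨N', hN'⟩ := hcop2.dvd_of_dvd_mul_left hdvd
  refine ⟨(N' : ℤ), ?_⟩
  have : (p : ℂ) ^ b * r = (p : ℂ) ^ b * (N' : ℂ) := by
    rw [hi, hN']
    push_cast
    rfl
  have := mul_left_cancel₀ hpb this
  rw [this]
  simp

set_option maxHeartbeats 1600000 in
theorem defect_zero_vanish [Fintype G] {V : Type v} [AddCommGroup V] [Module ℂ V]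
    [FiniteDimensional ℂ V] (ρ : Representation ℂ G V) [hirr : ρ.IsIrreducible] (p n : ℕ)
    [hp : Fact p.Prime] (hn : p ^ n ∣ Nat.card G) (hn' : ¬ p ^ (n + 1) ∣ Nat.card G)
    (hdeg : p ^ n ∣ finrank ℂ V) (x : G) (hx : p ∣ orderOf x) : ρ.character x = 0 := by
  classical
  obtain ⟨g', hG⟩ := hn
  obtain ⟨d', hd⟩ := hdeg
  have hg' : ¬ p ∣ g' := by
    rintro ⟨k, rfl⟩
    apply hn'
    rw [hG, pow_succ]
    exact ⟨k, by ring⟩
  have hχirr : Cfsg.IsIrrCharacter G ρ.character := isIrrCharacter_of_rep ρ hirr
  have hχc := IsIrrCharacter.isCharacter hχirr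
  have hχcf := IsCharacter.isClassFunction hχc
  -- the truncated character is a generalized character
  have hθ : Cfsg.IsGeneralizedCharacter G
      (fun g : G => if p ∣ orderOf g then (0 : ℂ) else ρ.character g) := by
    apply brauer_characterization
    · intro g h
      have ho : orderOf (h * g * h⁻¹) = orderOf g := by
        have := MulEquiv.orderOf_eq (MulAut.conj h) g
        simpa using this
      simp only [ho, hχcf g h]
    · intro E q hq hEq
      haveI : Fintype E := Fintype.ofFinite _
      apply isGeneralizedCharacter_of_classInner_int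
      · intro g h
        have ho : orderOf ((h * g * h⁻¹ : E) : G) = orderOf (g : G) := by
          have := MulEquiv.orderOf_eq (MulAut.conj (h : G)) (g : G)
          simpa using this
        simp only [ho]
        have := hχcf (g : G) (h : G)
        simp only [Subgroup.coe_mul, Subgroup.coe_inv]
        rw [this]
      · intro φ hφ
        exact defect_zero_mult_int ρ p n g' d' hG hg' hd E hq hEq φ hφ
  obtain ⟨c, hc⟩ := IsGeneralizedCharacter.classInner_irr_int hθ hχirr
  have h1 := classInner_irr_self hχirr
  rw [classInner_def] at hc h1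
  have hcardG : (Nat.card G : ℂ) ≠ 0 := by exact_mod_cast Nat.card_pos.ne'
  -- real sums
  set R : ℝ := ∑ g : G, if p ∣ orderOf g then 0 else Complex.normSq (ρ.character g) with hR
  set S : ℝ := ∑ g : G, if p ∣ orderOf g then Complex.normSq (ρ.character g) else 0 with hS
  have hRS : R + S = Nat.card G := by
    have h2 : ∑ g : G, ρ.character g * conj (ρ.character g) = (Nat.card G : ℂ) := by
      have := congrArg (fun z => (Nat.card G : ℂ) * z) h1
      rw [← mul_assoc, mul_inv_cancel₀ hcardG, one_mul, mul_one] at this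
      exact this
    have h3 : ((R + S : ℝ) : ℂ) = (Nat.card G : ℂ) := by
      rw [← h2, hR, hS, ← Finset.sum_add_distrib]
      push_cast
      apply Finset.sum_congr rfl
      intro g _
      rw [Complex.mul_conj]
      by_cases hg : p ∣ orderOf g
      · simp [hg]
      · simp [hg]
    exact_mod_cast h3
  have hRc : R = c * Nat.card G := by
    have h2 : ∑ g : G, (if p ∣ orderOf g then (0 : ℂ) else ρ.character g) *
        conj (ρ.character g) = (c : ℂ) * (Nat.card G : ℂ) := by
      have := congrArg (fun z => (Nat.card G : ℂ) * z) hc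
      rw [← mul_assoc, mul_inv_cancel₀ hcardG, one_mul] at this
      rw [this, mul_comm]
    have h3 : ((R : ℝ) : ℂ) = (c : ℂ) * (Nat.card G : ℂ) := by
      rw [← h2, hR]
      push_cast
      apply Finset.sum_congr rfl
      intro g _
      by_cases hg : p ∣ orderOf g
      · simp [hg]
      · simp only [hg, if_false]
        rw [Complex.mul_conj]
    exact_mod_cast h3
  have hcardpos : (0 : ℝ) < Nat.card G := by exact_mod_cast Nat.card_pos
  -- R is positive
  have hRpos : 0 < R := by
    have hterm : ∀ g ∈ (Finset.univ : Finset G),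
        (0 : ℝ) ≤ if p ∣ orderOf g then 0 else Complex.normSq (ρ.character g) := by
      intro g _
      split_ifs
      · exact le_rfl
      · exact Complex.normSq_nonneg _
    have h1le := Finset.single_le_sum hterm (Finset.mem_univ (1 : G))
    have h1pos : (0 : ℝ) < if p ∣ orderOf (1 : G) then 0 else Complex.normSq (ρ.character 1) := by
      have : ¬ p ∣ orderOf (1 : G) := by
        rw [orderOf_one]
        exact hp.out.one_lt.ne' ∘ Nat.dvd_one.mp
      rw [if_neg this]
      rw [Complex.normSq_pos]
      exact IsIrrCharacter.apply_one_ne_zero hχirr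
    exact lt_of_lt_of_le h1pos h1le
  have hcpos : (0 : ℝ) < c := by
    by_contra hle
    push Not at hle
    have : R ≤ 0 := by
      rw [hRc]
      exact mul_nonpos_of_nonpos_of_nonneg hle hcardpos.le
    linarith
  have hc1 : (1 : ℝ) ≤ c := by
    have : (0 : ℤ) < c := by exact_mod_cast hcpos
    exact_mod_cast this
  have hRge : (Nat.card G : ℝ) ≤ R := by
    rw [hRc]
    nlinarith
  have hSle : S ≤ 0 := by linarith
  have hSterm : ∀ g ∈ (Finset.univ : Finset G),
      (0 : ℝ) ≤ if p ∣ orderOf g then Complex.normSq (ρ.character g) else 0 := by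
    intro g _
    split_ifs
    · exact Complex.normSq_nonneg _
    · exact le_rfl
  have hxle := Finset.single_le_sum hSterm (Finset.mem_univ x)
  rw [if_pos hx] at hxle
  have : Complex.normSq (ρ.character x) = 0 :=
    le_antisymm (hxle.trans hSle) (Complex.normSq_nonneg _)
  exact Complex.normSq_eq_zero.mp this

end Cfsg.Agent.Helper6
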