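import Mathlib
import Cfsg.Prelude.Def_Characters
import Cfsg.Prelude.Def_Blocks
import Cfsg.Agent.Helper6.BlockCover3
import Cfsg.Agent.Helper6.Expansion
import Cfsg.Agent.Helper6.Brauer11

/-!
# Idempotent coefficients of the set of characters lying over a stable set of characters of a
normal subgroup
-/

set_option autoImplicit false
set_option linter.style.haveILetI false

namespace Cfsg.Agent.Helper6

open scoped ComplexConjugate

universe u

variable {G : Type u} [Group G] {M : Ideal Cfsg.AlgInt}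

/-- The idempotent coefficient function of a `G`-stable set of characters of `N` is
`G`-invariant. -/
theorem blockCoeff_conj_of_stable [Finite G] (N : Subgroup G) [hN : N.Normal]
    (O : Set (Cfsg.IrrCharacter N)) (hO : ∀ g : G, ∀ θ ∈ O, conjIrr N g θ ∈ O) (g : G) :
    conjFun N (Cfsg.blockCoeff O) g = Cfsg.blockCoeff O := by
  ext m
  unfold conjFun Cfsg.blockCoeff
  congr 1
  symm
  apply finsum_mem_eq_of_bijOn (conjIrr N g⁻¹)
  · refine ⟨?_, ?_, ?_⟩
    · intro θ hθ
      exact hO g⁻¹ θ hθ
    · intro θ _ θ' _ h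
      have := congrArg (conjIrr N g) h
      rwa [conjIrr_conjIrr, conjIrr_conjIrr, inv_mul_cancel, conjIrr_one, conjIrr_one] at this
    · intro θ hθ
      refine ⟨conjIrr N g θ, hO g θ hθ, ?_⟩
      rw [conjIrr_conjIrr, mul_inv_cancel, conjIrr_one]
  · intro θ _
    have h1 : ((conjIrr N g⁻¹ θ : Cfsg.IrrCharacter N) : N → ℂ) 1 = (θ : N → ℂ) 1 := by
      change conjFun N (θ : N → ℂ) g⁻¹ 1 = _
      unfold conjFun
      exact congrArg _ (Subtype.ext (by simp))
    have h2 : ((conjIrr N g⁻¹ θ : Cfsg.IrrCharacter N) : N → ℂ)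
        ⟨g * m * g⁻¹, hN.conj_mem m m.2 g⟩ = (θ : N → ℂ) m := by
      change conjFun N (θ : N → ℂ) g⁻¹ _ = _
      unfold conjFun
      exact congrArg _ (Subtype.ext (by simp [mul_assoc]))
    rw [h1, h2]

/-- The set of irreducible characters of `G` lying over some member of `O`. -/
def lyingOver (N : Subgroup G) [Fintype N] (O : Set (Cfsg.IrrCharacter N)) :
    Set (Cfsg.IrrCharacter G) :=
  {χ | ∃ θ ∈ O, Cfsg.classInner (fun n : N => (χ : G → ℂ) n) (θ : N → ℂ) ≠ 0}

/-- The idempotent coefficients of the characters lying over a `G`-stable set `O` of characters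
of `N` are those of `O`, extended by zero. -/
theorem blockCoeff_lyingOver [Fintype G] (N : Subgroup G) [hN : N.Normal] [Fintype N]
    (O : Set (Cfsg.IrrCharacter N)) (hO : ∀ g : G, ∀ θ ∈ O, conjIrr N g θ ∈ O) (g : G) :
    Cfsg.blockCoeff (lyingOver N O) g = Cfsg.extendByZero N (Cfsg.blockCoeff O) g := by
  classical
  haveI : Finite (Cfsg.IrrCharacter G) := irr_finite
  haveI : Fintype (Cfsg.IrrCharacter G) := Fintype.ofFinite _
  haveI : Finite (Cfsg.IrrCharacter N) := irr_finite
  haveI : Fintype (Cfsg.IrrCharacter N) := Fintype.ofFinite _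
  set A := lyingOver N O with hA
  set F : G → ℂ := Cfsg.extendByZero N (Cfsg.blockCoeff O) with hF
  have hFcf : Cfsg.IsClassFunction G F := by
    intro y x
    rw [hF, ← extendByZero_conjFun, blockCoeff_conj_of_stable N O hO]
  set δ : G → ℂ := fun x => F x⁻¹ with hδ
  have hδcf : Cfsg.IsClassFunction G δ := by
    intro y x
    simp only [hδ]
    have : (x * y * x⁻¹)⁻¹ = x * y⁻¹ * x⁻¹ := by group
    rw [this, hFcf]
  have hG0 : (Nat.card G : ℂ) ≠ 0 := by
    have : 0 < Nat.card G := Nat.card_pos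
    exact_mod_cast this.ne'
  have hinner : ∀ χ : Cfsg.IrrCharacter G, Cfsg.classInner δ (χ : G → ℂ) =
      if χ ∈ A then (Nat.card G : ℂ)⁻¹ * (χ : G → ℂ) 1 else 0 := by
    intro χ
    have hχc := IsIrrCharacter.isCharacter χ.2
    have hχcf := IsCharacter.isClassFunction hχc
    rw [classInner_def]
    have h1 : ∑ x : G, δ x * conj ((χ : G → ℂ) x) = ∑ x : G, F x * (χ : G → ℂ) x := by
      apply Fintype.sum_equiv (Equiv.inv G)
      intro x
      simp only [hδ, Equiv.inv_apply]
      rw [IsCharacter.inv_eq_conj hχc]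
    rw [h1, hF, sum_extendByZero_mul, sum_blockCoeff_mul_fun O (fun n : N => (χ : G → ℂ) n)]
    by_cases hχ : χ ∈ A
    · rw [if_pos hχ]
      congr 1
      obtain ⟨θ, hθO, hθ⟩ := hχ
      have hzero : ∀ θ' : Cfsg.IrrCharacter N, θ' ∉ O →
          Cfsg.classInner (fun n : N => (χ : G → ℂ) n) (θ' : N → ℂ) = 0 := by
        intro θ' hθ'
        by_contra hne
        obtain ⟨x, hx⟩ := conj_of_constituents N (χ : G → ℂ) χ.2 (θ : N → ℂ) θ.2 hθ
          (θ' : N → ℂ) θ'.2 hne
        apply hθ'
        have : θ' = conjIrr N x θ := Subtype.ext hx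
        rw [this]
        exact hO x θ hθO
      have hres : Cfsg.IsClassFunction N (fun n : N => (χ : G → ℂ) n) :=
        IsCharacter.isClassFunction (IsCharacter.restrict N hχc)
      have hexp := classFunction_expansion (fun n : N => (χ : G → ℂ) n) hres
      have h1 := congrFun hexp 1
      simp only [Finset.sum_apply, Pi.smul_apply, smul_eq_mul] at h1
      have h2 : ((1 : N) : G) = 1 := rfl
      rw [h2] at h1
      rw [h1]
      apply Finset.sum_congr rfl
      intro θ' _
      by_cases hθ' : θ' ∈ O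
      · rw [if_pos hθ', mul_comm]
      · rw [if_neg hθ', hzero θ' hθ', zero_mul]
    · rw [if_neg hχ]
      have : ∀ θ' ∈ (Finset.univ : Finset (Cfsg.IrrCharacter N)),
          (if θ' ∈ O then (θ' : N → ℂ) 1 *
            Cfsg.classInner (fun n : N => (χ : G → ℂ) n) (θ' : N → ℂ) else 0) = 0 := by
        intro θ' _
        by_cases hθ' : θ' ∈ O
        · rw [if_pos hθ']
          have : Cfsg.classInner (fun n : N => (χ : G → ℂ) n) (θ' : N → ℂ) = 0 := by
            by_contra hne
            exact hχ ⟨θ', hθ', hne⟩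
          rw [this, mul_zero]
        · rw [if_neg hθ']
      rw [Finset.sum_eq_zero this, mul_zero]
  have hexp := classFunction_expansion δ hδcf
  have hval := congrFun hexp g⁻¹
  have hδg : δ g⁻¹ = F g := by simp only [hδ, inv_inv]
  rw [hδg] at hval
  rw [hval]
  unfold Cfsg.blockCoeff
  rw [finsum_mem_eq_sum_ite, Finset.sum_apply, Finset.mul_sum]
  apply Finset.sum_congr rfl
  intro χ _
  rw [Pi.smul_apply, smul_eq_mul, hinner χ,
    IsCharacter.inv_eq_conj (IsIrrCharacter.isCharacter χ.2)]
  by_cases hχ : χ ∈ A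
  · rw [if_pos hχ, if_pos hχ]
    ring
  · rw [if_neg hχ, if_neg hχ, zero_mul, mul_zero]

/-- For a normal subgroup of order prime to `p`, all idempotent coefficients of sets of characters
of it are local integers. -/
theorem memLocalRing_blockCoeff_of_coprime [Finite G] (hM : M.IsMaximal) (p : ℕ) (hp : p.Prime)
    (hpM : (p : Cfsg.AlgInt) ∈ M) (hG : ¬ p ∣ Nat.card G) (O : Set (Cfsg.IrrCharacter G))
    (g : G) : Cfsg.MemLocalRing M (Cfsg.blockCoeff O g) := by
  classical
  haveI : Finite (Cfsg.IrrCharacter G) := irr_finite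
  haveI : Fintype (Cfsg.IrrCharacter G) := Fintype.ofFinite _
  unfold Cfsg.blockCoeff
  apply MemLocalRing.mul hM
  · have hnot : (Nat.card G : Cfsg.AlgInt) ∉ M := natCast_not_mem_of_not_dvd hM hp hpM hG
    refine ⟨1, (Nat.card G : Cfsg.AlgInt), hnot, ?_⟩
    simp
  · rw [finsum_mem_eq_sum_ite]
    apply MemLocalRing.sum hM
    intro χ _
    by_cases hχ : χ ∈ O
    · rw [if_pos hχ]
      apply memLocalRing_of_isIntegral hM
      obtain ⟨m, hm⟩ := IsCharacter.apply_one (IsIrrCharacter.isCharacter χ.2)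
      have hint : IsIntegral ℤ ((χ : G → ℂ) 1) := by
        rw [hm]
        exact isIntegral_algebraMap (R := ℤ) (A := ℂ) (x := (m : ℤ)) |> fun h => by
          simpa using h
      exact IsIntegral.mul hint
        (IsCharacter.conj_isIntegral (IsIrrCharacter.isCharacter χ.2) g)
    · rw [if_neg hχ]
      exact memLocalRing_zero hM

end Cfsg.Agent.Helper6
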