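import Mathlib
import Cfsg.Prelude.Def_Characters
import Cfsg.Prelude.Def_Blocks
import Cfsg.Agent.Helper6.PrincipalDefect
import Cfsg.Agent.Helper6.LyingOver
import Cfsg.Agent.Helper6.Codegree

/-!
# Characters of `p'`-degree in the principal block
-/

set_option autoImplicit false
set_option linter.style.haveILetI false

namespace Cfsg.Agent.Helper6

open scoped ComplexConjugate

universe u

variable {G : Type u} [Group G] {M : Ideal Cfsg.AlgInt}

/-- `p` divides the sum of the squares of the degrees of the members of a block when it divides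
the group order. -/
theorem dvd_sum_sq_degrees_block [Finite G] [Fintype (Cfsg.IrrCharacter G)] (hM : M.IsMaximal)
    (p : ℕ) (hp : p.Prime) (hpM : (p : Cfsg.AlgInt) ∈ M) (hpG : p ∣ Nat.card G)
    (B : Set (Cfsg.IrrCharacter G)) [DecidablePred (· ∈ B)] (hB : Cfsg.IsPBlock M B) :
    p ∣ ∑ χ : Cfsg.IrrCharacter G, if χ ∈ B then Cfsg.charDegree (χ : G → ℂ) ^ 2 else 0 := by
  classical
  have hS := osima hM B hB 1
  have hG0 : (Nat.card G : ℂ) ≠ 0 := by
    have : 0 < Nat.card G := Nat.card_pos
    exact_mod_cast this.ne'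
  have hdeg : ∀ χ : Cfsg.IrrCharacter G, (χ : G → ℂ) 1 = (Cfsg.charDegree (χ : G → ℂ) : ℂ) := by
    intro χ
    obtain ⟨K, -, -, -, h, -⟩ := exists_kernel_data χ.2
    exact h
  have hval : (Nat.card G : ℂ) * Cfsg.blockCoeff B 1 =
      ((∑ χ : Cfsg.IrrCharacter G,
        if χ ∈ B then Cfsg.charDegree (χ : G → ℂ) ^ 2 else 0 : ℕ) : ℂ) := by
    unfold Cfsg.blockCoeff
    rw [← mul_assoc, mul_inv_cancel₀ hG0, one_mul, finsum_mem_eq_sum_ite]
    push_cast
    apply Finset.sum_congr rfl
    intro χ _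
    by_cases hχ : χ ∈ B
    · rw [if_pos hχ, if_pos hχ, hdeg χ, Complex.conj_natCast]
      ring
    · rw [if_neg hχ, if_neg hχ]
  have hJ : Cfsg.MemLocalIdeal M ((Nat.card G : ℂ) * Cfsg.blockCoeff B 1) := by
    rw [mul_comm]
    apply MemLocalIdeal.mul_left hM hS
    have := memLocalIdeal_of_mem hM (natCast_mem_of_dvd hpM hpG)
    simpa using this
  rw [hval] at hJ
  by_contra hnd
  have hnot := natCast_not_mem_of_not_dvd hM hp hpM hnd
  apply hnot
  rw [← memLocalIdeal_coe_iff hM]
  have hcast : ∀ n : ℕ, ((n : Cfsg.AlgInt) : ℂ) = (n : ℂ) := fun n => by simp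
  rw [hcast]
  exact hJ

theorem charDegree_one_fun : Cfsg.charDegree (fun _ : G => (1 : ℂ)) = 1 := by
  unfold Cfsg.charDegree
  simp

/-- The principal character is the only member of `p'`-degree of the principal block iff `p` does
not divide the group order. -/
theorem principal_block_pprime_degree [Finite G] (hM : M.IsMaximal) (p : ℕ) (hp : p.Prime)
    (hpM : (p : Cfsg.AlgInt) ∈ M) :
    (∀ χ : Cfsg.IrrCharacter G, χ ∈ Cfsg.principalBlock M G →
      ¬ p ∣ Cfsg.charDegree (χ : G → ℂ) → (χ : G → ℂ) = fun _ => (1 : ℂ)) ↔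
      ¬ p ∣ Nat.card G := by
  classical
  haveI : Finite (Cfsg.IrrCharacter G) := irr_finite
  haveI : Fintype (Cfsg.IrrCharacter G) := Fintype.ofFinite _
  constructor
  · intro H hpG
    have hdvd := dvd_sum_sq_degrees_block hM p hp hpM hpG (Cfsg.principalBlock M G)
      (isPBlock_principalBlock G)
    rw [← Finset.add_sum_erase Finset.univ _ (Finset.mem_univ (trivIrr G))] at hdvd
    rw [if_pos (trivIrr_mem_principalBlock hM)] at hdvd
    have h1 : Cfsg.charDegree ((trivIrr G : Cfsg.IrrCharacter G) : G → ℂ) = 1 :=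
      charDegree_one_fun
    rw [h1, one_pow] at hdvd
    have h2 : p ∣ ∑ χ ∈ Finset.univ.erase (trivIrr G),
        if χ ∈ Cfsg.principalBlock M G then Cfsg.charDegree (χ : G → ℂ) ^ 2 else 0 := by
      apply Finset.dvd_sum
      intro χ hχ
      rw [Finset.mem_erase] at hχ
      by_cases hχB : χ ∈ Cfsg.principalBlock M G
      · rw [if_pos hχB]
        by_contra hnd
        have hnd' : ¬ p ∣ Cfsg.charDegree (χ : G → ℂ) := by
          intro h
          exact hnd (dvd_pow h two_ne_zero)
        have := H χ hχB hnd'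
        exact hχ.1 (Subtype.ext this)
      · rw [if_neg hχB]
        exact dvd_zero p
    have h3 : p ∣ 1 := (Nat.dvd_add_left h2).mp hdvd
    exact hp.one_lt.ne' (Nat.dvd_one.mp h3)
  · intro hpG χ hχ _
    have hAS : ∀ g : G, Cfsg.MemLocalRing M (Cfsg.blockCoeff {trivIrr G} g) :=
      fun g => memLocalRing_blockCoeff_of_coprime hM p hp hpM hpG _ g
    have hsub := block_subset_of_local M hM {trivIrr G} hAS (trivIrr G) rfl
    rw [principalBlock_eq] at hχ
    have := hsub hχ
    rw [Set.mem_singleton_iff] at this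
    rw [this]
    rfl

end Cfsg.Agent.Helper6
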