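import Mathlib
import Cfsg.Prelude.Def_Characters
import Cfsg.Prelude.Def_Blocks
import Cfsg.Agent.Helper6.OsimaSupport
import Cfsg.Agent.Helper6.PrincipalPPrime
import Cfsg.Agent.Helper6.DegreeDvd
import Cfsg.Agent.Helper6.Induced

/-!
# Blocks of defect zero

An irreducible character `χ` is alone in its block iff `p` does not divide `|G| / χ(1)`.
-/

set_option autoImplicit false
set_option linter.style.haveILetI false

namespace Cfsg.Agent.Helper6

open scoped ComplexConjugate

universe u

variable {G : Type u} [Group G] {M : Ideal Cfsg.AlgInt}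

/-- The degree of an irreducible character divides the group order. -/
theorem charDegree_dvd_card [Finite G] {χ : G → ℂ} (hχ : Cfsg.IsIrrCharacter G χ) :
    Cfsg.charDegree χ ∣ Nat.card G := by
  obtain ⟨n, ρ, hirr, rfl⟩ := hχ
  rw [charDegree_rep]
  haveI := hirr
  have := finrank_dvd_card ρ
  simpa using this

/-- The idempotent coefficient of a singleton. -/
theorem blockCoeff_singleton (χ : Cfsg.IrrCharacter G) (g : G) :
    Cfsg.blockCoeff {χ} g = (Nat.card G : ℂ)⁻¹ * ((χ : G → ℂ) 1 * conj ((χ : G → ℂ) g)) := by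
  unfold Cfsg.blockCoeff
  rw [finsum_mem_singleton]

/-- If `p` does not divide `|G| / χ(1)` then `χ` is alone in its block. -/
theorem blockOf_eq_singleton_of_not_dvd [Finite G] (hM : M.IsMaximal) (p : ℕ) (hp : p.Prime)
    (hpM : (p : Cfsg.AlgInt) ∈ M) (χ : Cfsg.IrrCharacter G)
    (h : ¬ p ∣ Nat.card G / Cfsg.charDegree (χ : G → ℂ)) :
    Cfsg.blockOf M (χ : G → ℂ) = {χ} := by
  classical
  obtain ⟨K, -, -, hpos, hdeg, -⟩ := exists_kernel_data χ.2
  have hdvd := charDegree_dvd_card χ.2
  set d := Cfsg.charDegree (χ : G → ℂ) with hd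
  set m := Nat.card G / d with hm
  have hGm : Nat.card G = d * m := (Nat.mul_div_cancel' hdvd).symm
  have hd0 : (d : ℂ) ≠ 0 := by exact_mod_cast hpos.ne'
  have hm0 : m ≠ 0 := by
    intro h0
    have : 0 < Nat.card G := Nat.card_pos
    rw [hGm, h0, mul_zero] at this
    exact lt_irrefl 0 this
  have hmC : (m : ℂ) ≠ 0 := by exact_mod_cast hm0
  have hmM : (m : Cfsg.AlgInt) ∉ M := natCast_not_mem_of_not_dvd hM hp hpM h
  have hAS : ∀ g : G, Cfsg.MemLocalRing M (Cfsg.blockCoeff {χ} g) := by
    intro g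
    rw [blockCoeff_singleton, hdeg, hGm]
    have hint := IsCharacter.conj_isIntegral (IsIrrCharacter.isCharacter χ.2) g
    refine ⟨⟨_, hint⟩, (m : Cfsg.AlgInt), hmM, ?_⟩
    push_cast
    field_simp
  have hsub := block_subset_of_local M hM {χ} hAS χ rfl
  apply Set.Subset.antisymm hsub
  intro ψ hψ
  rw [Set.mem_singleton_iff] at hψ
  rw [hψ]
  exact mem_blockOf_self hM χ

/-- If `χ` is alone in its block then `χ` vanishes on `p`-singular elements. -/
theorem vanish_of_blockOf_eq_singleton [Finite G] (hM : M.IsMaximal) (p : ℕ) [hp : Fact p.Prime]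
    (hpM : (p : Cfsg.AlgInt) ∈ M) (χ : Cfsg.IrrCharacter G)
    (h : Cfsg.blockOf M (χ : G → ℂ) = {χ}) (y : G) (hy : p ∣ orderOf y) :
    (χ : G → ℂ) y = 0 := by
  have hB : Cfsg.IsPBlock M {χ} := ⟨χ, h.symm⟩
  have h0 := blockCoeff_eq_zero_of_singular hM p hpM {χ} hB y hy
  rw [blockCoeff_singleton] at h0
  have hG0 : (Nat.card G : ℂ) ≠ 0 := by
    have : 0 < Nat.card G := Nat.card_pos
    exact_mod_cast this.ne'
  have hχ1 : (χ : G → ℂ) 1 ≠ 0 := IsIrrCharacter.apply_one_ne_zero χ.2
  have h1 : conj ((χ : G → ℂ) y) = 0 := by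
    rcases mul_eq_zero.mp h0 with h | h
    · exact absurd (inv_eq_zero.mp h) hG0
    · rcases mul_eq_zero.mp h with h | h
      · exact absurd h hχ1
      · exact h
  simpa using h1

/-- A character vanishing on `p`-singular elements has degree divisible by the full power of `p`
dividing the group order. -/
theorem pow_factorization_dvd_of_vanish [Finite G] (p : ℕ) [hp : Fact p.Prime] {χ : G → ℂ}
    (hχ : Cfsg.IsCharacter G χ) (d : ℕ) (hd : χ 1 = (d : ℂ))
    (h : ∀ y : G, p ∣ orderOf y → χ y = 0) :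
    p ^ (Nat.card G).factorization p ∣ d := by
  classical
  obtain ⟨P⟩ : Nonempty (Sylow p G) := inferInstance
  haveI : Fintype (P : Subgroup G) := Fintype.ofFinite _
  have hcard : Nat.card (P : Subgroup G) = p ^ (Nat.card G).factorization p :=
    Sylow.card_eq_multiplicity P
  have hres : Cfsg.IsCharacter (P : Subgroup G) (fun x : (P : Subgroup G) => χ x) :=
    IsCharacter.restrict (P : Subgroup G) hχ
  obtain ⟨n, hn⟩ := classInner_char_char_nat hres (isCharacter_one (G := (P : Subgroup G)))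
  unfold Cfsg.classInner at hn
  have hsum : ∑ x : (P : Subgroup G), χ x * conj (1 : ℂ) = χ 1 := by
    rw [Finset.sum_eq_single (1 : (P : Subgroup G))]
    · simp
    · intro x _ hx
      have hx' : p ∣ orderOf (x : G) := by
        obtain ⟨k, hk⟩ := (IsPGroup.iff_orderOf.mp P.isPGroup') x
        rw [Subgroup.orderOf_coe, hk]
        rcases k with _ | k
        · rw [pow_zero, orderOf_eq_one_iff] at hk
          exact absurd hk hx
        · exact dvd_pow_self p (Nat.succ_ne_zero k)
      rw [h _ hx', zero_mul]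
    · intro h1
      exact absurd (Finset.mem_univ _) h1
  rw [hsum, hcard, hd] at hn
  have hp0 : ((p ^ (Nat.card G).factorization p : ℕ) : ℂ) ≠ 0 := by
    have : 0 < p ^ (Nat.card G).factorization p := pow_pos hp.out.pos _
    exact_mod_cast this.ne'
  have h2 : (d : ℂ) = ((p ^ (Nat.card G).factorization p * n : ℕ) : ℂ) := by
    rw [Nat.cast_mul, ← hn]
    field_simp
  have h3 : d = p ^ (Nat.card G).factorization p * n := by exact_mod_cast h2
  exact ⟨n, h3⟩

/-- `χ` is alone in its block iff `p` does not divide `|G| / χ(1)`. -/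
theorem defect_zero_iff_singleton [Finite G] (hM : M.IsMaximal) (p : ℕ) [hp : Fact p.Prime]
    (hpM : (p : Cfsg.AlgInt) ∈ M) (χ : Cfsg.IrrCharacter G) :
    ¬ p ∣ Nat.card G / Cfsg.charDegree (χ : G → ℂ) ↔ Cfsg.blockOf M (χ : G → ℂ) = {χ} := by
  constructor
  · exact blockOf_eq_singleton_of_not_dvd hM p hp.out hpM χ
  · intro h hdiv
    obtain ⟨K, -, -, hpos, hdeg, -⟩ := exists_kernel_data χ.2
    have hdvd := charDegree_dvd_card χ.2
    have hv := vanish_of_blockOf_eq_singleton hM p hpM χ h
    have hpd := pow_factorization_dvd_of_vanish p (IsIrrCharacter.isCharacter χ.2) _ hdeg hv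
    have hG : Nat.card G = Cfsg.charDegree (χ : G → ℂ) *
        (Nat.card G / Cfsg.charDegree (χ : G → ℂ)) := (Nat.mul_div_cancel' hdvd).symm
    have h1 : p ^ ((Nat.card G).factorization p + 1) ∣ Nat.card G := by
      have h2 : p ^ ((Nat.card G).factorization p + 1) ∣ Cfsg.charDegree (χ : G → ℂ) *
          (Nat.card G / Cfsg.charDegree (χ : G → ℂ)) := by
        rw [pow_succ]
        exact Nat.mul_dvd_mul hpd hdiv
      exact h2.trans (dvd_of_eq hG.symm)
    have hG0 : Nat.card G ≠ 0 := Nat.card_pos.ne'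
    exact Nat.pow_succ_factorization_not_dvd hG0 hp.out h1

end Cfsg.Agent.Helper6
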