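import Mathlib
import Cfsg.Prelude.Def_Characters
import Cfsg.Prelude.Def_OddOrderChar
import Cfsg.Agent.Helper6.TIFrob5
import Cfsg.Agent.Helper6.CycloVanish
import Cfsg.Agent.Helper6.PowCongr
import Cfsg.Agent.Helper6.DefectZeroBlock
import Cfsg.Agent.Helper6.Codegree
import Cfsg.Agent.Helper6.BlockPart

/-!
# T.I. subgroups with Frobenius normalizer: the values of the exceptional characters
-/

set_option autoImplicit false
set_option linter.style.haveILetI false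

namespace Cfsg.Agent.Helper6

open scoped ComplexConjugate

universe u

variable {G : Type u} [Group G]

/-- the sum of the values of a character is a multiple of the group order -/
theorem sum_char_eq_card_mul {H : Type*} [Group H] [Fintype H] {ψ : H → ℂ}
    (hψ : Cfsg.IsCharacter H ψ) : ∃ n : ℕ, ∑ h : H, ψ h = (Nat.card H : ℂ) * n := by
  obtain ⟨n, hn⟩ := classInner_char_char_nat hψ
    (IsIrrCharacter.isCharacter (isIrrCharacter_one (G := H)))
  refine ⟨n, ?_⟩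
  rw [← hn]
  unfold Cfsg.classInner
  have hH0 : (Nat.card H : ℂ) ≠ 0 := by
    have : 0 < Nat.card H := Nat.card_pos
    exact_mod_cast this.ne'
  rw [← mul_assoc, mul_inv_cancel₀ hH0, one_mul]
  apply Finset.sum_congr rfl
  intro h _
  simp

section

variable (K : Subgroup G)

local notation "NK" => Subgroup.normalizer (K : Set G)

/-- the relevant characters of the normalizer -/
def tifrobRel : Set (↥NK → ℂ) :=
  {χ : ↥NK → ℂ | Cfsg.IsIrrCharacter ↥NK χ ∧ ∃ k : ↥NK, (k : G) ∈ K ∧ χ k ≠ χ 1}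

/-- degree-zero combinations of two relevant characters under a coherence isometry -/
theorem tifrob_star_combo [Fintype G] [Fintype ↥NK]
    (star : (↥NK → ℂ) → (G → ℂ))
    (hstar : Cfsg.IsLinearIsometryOn (Cfsg.zspan (tifrobRel K)) star)
    (hext : ∀ α ∈ Cfsg.zspanOn (tifrobRel K) ({1}ᶜ : Set ↥NK), star α = Cfsg.indFun NK α)
    (η η' : ↥NK → ℂ) (hη : η ∈ tifrobRel K) (hη' : η' ∈ tifrobRel K) :
    ((η' 1) • η - (η 1) • η') ∈ Cfsg.zspan (tifrobRel K) ∧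
      star ((η' 1) • η - (η 1) • η') = (η' 1) • star η - (η 1) • star η' ∧
      star ((η' 1) • η - (η 1) • η') = Cfsg.indFun NK ((η' 1) • η - (η 1) • η') := by
  obtain ⟨hadd, hsmul, hiso, hgen⟩ := hstar
  have hmem : ∀ ζ ∈ tifrobRel K, ζ ∈ Cfsg.zspan (tifrobRel K) :=
    fun ζ hζ => Submodule.subset_span hζ
  obtain ⟨d, -, hd⟩ := IsIrrCharacter.apply_one_pos hη.1
  obtain ⟨d', -, hd'⟩ := IsIrrCharacter.apply_one_pos hη'.1
  have e1 : (η' 1) • η - (η 1) • η' = (d' : ℤ) • η + (-(d : ℤ)) • η' := by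
    rw [hd, hd', zsmul_fun_eq, zsmul_fun_eq]
    push_cast
    ext x
    simp only [Pi.sub_apply, Pi.add_apply, Pi.smul_apply, smul_eq_mul]
    ring
  have m1 : (d' : ℤ) • η ∈ Cfsg.zspan (tifrobRel K) :=
    Submodule.smul_mem _ _ (Submodule.subset_span hη)
  have m2 : (-(d : ℤ)) • η' ∈ Cfsg.zspan (tifrobRel K) :=
    Submodule.smul_mem _ _ (Submodule.subset_span hη')
  have m3 : (d' : ℤ) • η + (-(d : ℤ)) • η' ∈ Cfsg.zspan (tifrobRel K) :=
    Submodule.add_mem _ m1 m2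
  refine ⟨e1 ▸ m3, ?_, ?_⟩
  · rw [e1, hadd _ m1 _ m2, hsmul η (hmem η hη), hsmul η' (hmem η' hη'), zsmul_fun_eq,
      zsmul_fun_eq, hd, hd']
    push_cast
    ext x
    simp only [Pi.sub_apply, Pi.add_apply, Pi.smul_apply, smul_eq_mul]
    ring
  · apply hext
    refine ⟨e1 ▸ m3, ?_⟩
    intro x hx
    have hx1 : x = 1 := by simpa using hx
    subst hx1
    simp only [Pi.sub_apply, Pi.smul_apply, smul_eq_mul]
    ring

/-- `star χ - χ` is constant on the nonidentity elements of `K` -/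
theorem tifrob_diff_const [Fintype G] [Fintype ↥NK]
    (hC : ∀ k ∈ K, k ≠ 1 → Subgroup.centralizer ({k} : Set G) ≤ K)
    (star : (↥NK → ℂ) → (G → ℂ))
    (hstar : Cfsg.IsLinearIsometryOn (Cfsg.zspan (tifrobRel K)) star)
    (hext : ∀ α ∈ Cfsg.zspanOn (tifrobRel K) ({1}ᶜ : Set ↥NK), star α = Cfsg.indFun NK α)
    (χ : ↥NK → ℂ) (hχ : χ ∈ tifrobRel K) :
    ∃ c : ℂ, ∀ k : ↥NK, (k : G) ∈ K → k ≠ 1 → star χ k - χ k = c := by
  have hmemχ : χ ∈ Cfsg.zspan (tifrobRel K) := Submodule.subset_span hχ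
  have hΨcf : Cfsg.IsClassFunction G (star χ) :=
    IsGeneralizedCharacter.isClassFunction (hstar.2.2.2 χ hmemχ)
  have hχcf : Cfsg.IsClassFunction ↥NK χ :=
    IsCharacter.isClassFunction (IsIrrCharacter.isCharacter hχ.1)
  apply tifrob_core K hC (star χ) hΨcf χ hχcf
  intro η η' hη hη' hrel hrel'
  obtain ⟨hm, -, hind⟩ := tifrob_star_combo K star hstar hext η η' ⟨hη, hrel⟩ ⟨hη', hrel'⟩
  rw [← hind, hstar.2.2.1 _ hm χ hmemχ]

/-- relevant characters vanish off `K` -/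
theorem tifrobRel_apply_off [Fintype G] [Fintype ↥NK]
    (hC : ∀ k ∈ K, k ≠ 1 → Subgroup.centralizer ({k} : Set G) ≤ K)
    (χ : ↥NK → ℂ) (hχ : χ ∈ tifrobRel K) (x : ↥NK) (hx : (x : G) ∉ K) : χ x = 0 := by
  have hfree := tifrob_free K hC
  obtain ⟨k, hk, hne⟩ := hχ.2
  obtain ⟨φ, -, -, rfl⟩ := irr_eq_ind_of_free (K.subgroupOf NK) hfree χ hχ.1
    ⟨k, Subgroup.mem_subgroupOf.mpr hk, hne⟩
  apply indFun_normal_apply_off
  intro h
  exact hx (Subgroup.mem_subgroupOf.mp h)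

/-- proportionality of the differences -/
theorem tifrob_diff_prop [Fintype G] [Fintype ↥NK]
    (hTI : ∀ g : G, g ∉ NK → ∀ k ∈ K, g * k * g⁻¹ ∈ K → k = 1)
    (hC : ∀ k ∈ K, k ≠ 1 → Subgroup.centralizer ({k} : Set G) ≤ K)
    (star : (↥NK → ℂ) → (G → ℂ))
    (hstar : Cfsg.IsLinearIsometryOn (Cfsg.zspan (tifrobRel K)) star)
    (hext : ∀ α ∈ Cfsg.zspanOn (tifrobRel K) ({1}ᶜ : Set ↥NK), star α = Cfsg.indFun NK α)
    (χ ξ : ↥NK → ℂ) (hχ : χ ∈ tifrobRel K) (hξ : ξ ∈ tifrobRel K) (k : ↥NK) :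
    ξ 1 * (star χ k - χ k) = χ 1 * (star ξ k - ξ k) := by
  obtain ⟨-, hlin, hind⟩ := tifrob_star_combo K star hstar hext χ ξ hχ hξ
  have hcf : Cfsg.IsClassFunction ↥NK ((ξ 1) • χ - (χ 1) • ξ) := by
    intro g h
    have h1 := IsCharacter.isClassFunction (IsIrrCharacter.isCharacter hχ.1) g h
    have h2 := IsCharacter.isClassFunction (IsIrrCharacter.isCharacter hξ.1) g h
    simp only [Pi.sub_apply, Pi.smul_apply, smul_eq_mul]
    rw [h1, h2]
  have hres := tifrob_indFun_restrict K hTI hC ((ξ 1) • χ - (χ 1) • ξ) hcf (by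
    intro x hx
    simp only [Pi.sub_apply, Pi.smul_apply, smul_eq_mul]
    rw [tifrobRel_apply_off K hC χ hχ x hx, tifrobRel_apply_off K hC ξ hξ x hx]
    ring) (by
    simp only [Pi.sub_apply, Pi.smul_apply, smul_eq_mul]
    ring) k
  rw [← hind, hlin] at hres
  simp only [Pi.sub_apply, Pi.smul_apply, smul_eq_mul] at hres
  linear_combination hres

/-- the constant difference is an integer -/
theorem tifrob_diff_int [Fintype G] [Fintype ↥NK]
    (hC : ∀ k ∈ K, k ≠ 1 → Subgroup.centralizer ({k} : Set G) ≤ K)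
    (star : (↥NK → ℂ) → (G → ℂ))
    (hstar : Cfsg.IsLinearIsometryOn (Cfsg.zspan (tifrobRel K)) star)
    (hext : ∀ α ∈ Cfsg.zspanOn (tifrobRel K) ({1}ᶜ : Set ↥NK), star α = Cfsg.indFun NK α)
    (χ : ↥NK → ℂ) (hχ : χ ∈ tifrobRel K) :
    ∃ z : ℤ, ∀ k : ↥NK, (k : G) ∈ K → k ≠ 1 → star χ k - χ k = (z : ℂ) := by
  classical
  obtain ⟨c, hc⟩ := tifrob_diff_const K hC star hstar hext χ hχ
  have hmemχ : χ ∈ Cfsg.zspan (tifrobRel K) := Submodule.subset_span hχ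
  have hχchar : Cfsg.IsCharacter ↥NK χ := IsIrrCharacter.isCharacter hχ.1
  set K' : Subgroup ↥NK := K.subgroupOf NK with hK'
  haveI : Fintype K' := Fintype.ofFinite K'
  obtain ⟨k₀, hk₀K, hk₀ne⟩ := hχ.2
  have hk₀1 : k₀ ≠ 1 := by
    rintro rfl
    exact hk₀ne rfl
  obtain ⟨A, B, hA, hB, hAB⟩ := hstar.2.2.2 χ hmemχ
  have hcint : IsIntegral ℤ c := by
    rw [← hc k₀ hk₀K hk₀1, hAB]
    exact ((IsCharacter.isIntegral_value hA _).sub (IsCharacter.isIntegral_value hB _)).sub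
      (IsCharacter.isIntegral_value hχchar _)
  set f : K' →* G := (Subgroup.subtype NK).comp (Subgroup.subtype K') with hf
  obtain ⟨a, ha⟩ := sum_char_eq_card_mul (IsCharacter.comp_hom f hA)
  obtain ⟨b, hb⟩ := sum_char_eq_card_mul (IsCharacter.comp_hom f hB)
  obtain ⟨x, hx⟩ := sum_char_eq_card_mul (IsCharacter.restrict K' hχchar)
  obtain ⟨a1, ha1⟩ := IsCharacter.apply_one hA
  obtain ⟨b1, hb1⟩ := IsCharacter.apply_one hB
  obtain ⟨d, hd⟩ := IsCharacter.apply_one hχchar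
  have hcard2 : 2 ≤ Nat.card K' := by
    have hk₀' : (⟨k₀, Subgroup.mem_subgroupOf.mpr hk₀K⟩ : K') ≠ 1 := by
      intro h
      exact hk₀1 (congrArg Subtype.val h)
    haveI : Nontrivial K' := ⟨⟨_, _, hk₀'⟩⟩
    exact Finite.one_lt_card
  have hsum : ∑ k : K', (star χ (f k) - χ (k : ↥NK)) =
      ((Nat.card K' - 1 : ℕ) : ℂ) * c + (star χ 1 - χ 1) := by
    rw [← Finset.sum_erase_add _ _ (Finset.mem_univ (1 : K'))]
    congr 1
    rw [Finset.sum_congr rfl (fun k hk => by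
      have hk1 : k ≠ 1 := Finset.ne_of_mem_erase hk
      have := hc (k : ↥NK) (Subgroup.mem_subgroupOf.mp k.2)
        (fun h => hk1 (Subtype.ext h))
      exact this), Finset.sum_const, Finset.card_erase_of_mem (Finset.mem_univ _),
      Finset.card_univ, ← Nat.card_eq_fintype_card, nsmul_eq_mul]
  have hsum2 : ∑ k : K', (star χ (f k) - χ (k : ↥NK)) =
      (Nat.card K' : ℂ) * a - (Nat.card K' : ℂ) * b - (Nat.card K' : ℂ) * x := by
    rw [Finset.sum_sub_distrib, hAB]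
    simp only [Pi.sub_apply]
    rw [Finset.sum_sub_distrib, ha, hb, hx]
  have h1 : star χ 1 - χ 1 = (a1 : ℂ) - b1 - d := by
    rw [hAB, Pi.sub_apply, ha1, hb1, hd]
  set N : ℤ := (Nat.card K' : ℤ) * (a - b - x) - (a1 - b1 - d) with hN
  have hNc : (N : ℂ) = ((Nat.card K' - 1 : ℕ) : ℂ) * c := by
    have h2 := hsum.symm.trans hsum2
    rw [h1] at h2
    rw [hN]
    push_cast
    linear_combination -h2
  have hdvd := int_dvd_of_isIntegral N (Nat.card K' - 1) (by omega) c hcint hNc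
  obtain ⟨z, hz⟩ := hdvd
  refine ⟨z, ?_⟩
  intro k hk hk1
  rw [hc k hk hk1]
  have h3 : ((Nat.card K' - 1 : ℕ) : ℂ) ≠ 0 := by
    have : Nat.card K' - 1 ≠ 0 := by omega
    exact_mod_cast this
  have h4 : ((Nat.card K' - 1 : ℕ) : ℂ) * c = ((Nat.card K' - 1 : ℕ) : ℂ) * z := by
    rw [← hNc, hz]
    push_cast
    ring
  exact mul_left_cancel₀ h3 h4

set_option maxHeartbeats 800000 in
/-- Feit: the values of the exceptional characters on the nonidentity elements of `K` -/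
theorem tifrob_exceptional_values [Fintype G] [Fintype ↥NK]
    (hTI : ∀ g : G, g ∉ NK → ∀ k ∈ K, g * k * g⁻¹ ∈ K → k = 1)
    (hC : ∀ k ∈ K, k ≠ 1 → Subgroup.centralizer ({k} : Set G) ≤ K)
    (hne : (tifrobRel K).Nonempty)
    (star : (↥NK → ℂ) → (G → ℂ))
    (hstar : Cfsg.IsLinearIsometryOn (Cfsg.zspan (tifrobRel K)) star)
    (hext : ∀ α ∈ Cfsg.zspanOn (tifrobRel K) ({1}ᶜ : Set ↥NK), star α = Cfsg.indFun NK α) :
    ∃ m : ℤ, ∀ χ ∈ tifrobRel K, ∀ k : ↥NK, (k : G) ∈ K → k ≠ 1 →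
      star χ k - χ k = (m : ℂ) * χ 1 / ((K.subgroupOf NK).index : ℂ) := by
  classical
  have hfree := tifrob_free K hC
  set K' : Subgroup ↥NK := K.subgroupOf NK with hK'
  haveI : Fintype K' := Fintype.ofFinite K'
  haveI : Finite (Cfsg.IrrCharacter K') := irr_finite
  haveI : Fintype (Cfsg.IrrCharacter K') := Fintype.ofFinite _
  have hzex : ∀ χ ∈ tifrobRel K, ∃ z : ℤ, ∀ k : ↥NK, (k : G) ∈ K → k ≠ 1 →
      star χ k - χ k = (z : ℂ) := fun χ hχ => tifrob_diff_int K hC star hstar hext χ hχ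
  choose z hz using hzex
  obtain ⟨χ₀, hχ₀⟩ := hne
  obtain ⟨k₀, hk₀K, hk₀ne⟩ := hχ₀.2
  have hk₀1 : k₀ ≠ 1 := by
    rintro rfl
    exact hk₀ne rfl
  have he0 : (K'.index : ℂ) ≠ 0 := by
    have : K'.index ≠ 0 := Subgroup.index_ne_zero_of_finite
    exact_mod_cast this
  have hdeg0 : ∀ χ ∈ tifrobRel K, χ 1 ≠ 0 := fun χ hχ =>
    IsIrrCharacter.apply_one_ne_zero hχ.1
  set μ : ℂ := (z χ₀ hχ₀ : ℂ) * (K'.index : ℂ) / χ₀ 1 with hμ
  -- every difference is `μ χ(1) / e`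
  have hclaim1 : ∀ χ (hχ : χ ∈ tifrobRel K), (z χ hχ : ℂ) = μ * χ 1 / (K'.index : ℂ) := by
    intro χ hχ
    have h1 := tifrob_diff_prop K hTI hC star hstar hext χ χ₀ hχ hχ₀ k₀
    rw [hz χ hχ k₀ hk₀K hk₀1, hz χ₀ hχ₀ k₀ hk₀K hk₀1] at h1
    rw [hμ]
    field_simp [hdeg0 χ₀ hχ₀]
    linear_combination h1
  -- the induced characters
  have hind : ∀ θ : Cfsg.IrrCharacter K', (θ : K' → ℂ) ≠ (fun _ => 1) →
      Cfsg.indFun K' (θ : K' → ℂ) ∈ tifrobRel K := by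
    intro θ hθ1
    obtain ⟨h1, k, hk, hne⟩ := ind_relevant_of_free K' hfree θ.1 θ.2 hθ1
    exact ⟨h1, k, Subgroup.mem_subgroupOf.mp hk, hne⟩
  set w : Cfsg.IrrCharacter K' → ℤ := fun θ =>
    if h : (θ : K' → ℂ) = (fun _ => 1) then 0 else z _ (hind θ h) with hw
  have hwval : ∀ θ : Cfsg.IrrCharacter K', (θ : K' → ℂ) ≠ (fun _ => 1) →
      (w θ : ℂ) = μ * (θ : K' → ℂ) 1 := by
    intro θ hθ1
    rw [hw]
    simp only [dif_neg hθ1]
    rw [hclaim1 _ (hind θ hθ1), indFun_apply_one]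
    field_simp
  -- the sum over the nonprincipal characters
  have hdegcast : ∀ θ : Cfsg.IrrCharacter K', ((Cfsg.charDegree (θ : K' → ℂ) : ℕ) : ℂ) =
      (θ : K' → ℂ) 1 := fun θ =>
    charDegree_cast_of_isCharacter (IsIrrCharacter.isCharacter θ.2)
  have hsumsq : ∑ θ : Cfsg.IrrCharacter K', (θ : K' → ℂ) 1 ^ 2 = (Nat.card K' : ℂ) :=
    sum_sq_degrees
  set triv : Cfsg.IrrCharacter K' := ⟨fun _ => 1, isIrrCharacter_one⟩ with htriv
  have hsumw : ∑ θ : Cfsg.IrrCharacter K', ((Cfsg.charDegree (θ : K' → ℂ) : ℕ) : ℂ) * (w θ : ℂ) =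
      μ * ((Nat.card K' : ℂ) - 1) := by
    have h1 : ∀ θ : Cfsg.IrrCharacter K', ((Cfsg.charDegree (θ : K' → ℂ) : ℕ) : ℂ) * (w θ : ℂ) =
        μ * (θ : K' → ℂ) 1 ^ 2 - (if θ = triv then μ else 0) := by
      intro θ
      by_cases hθ : θ = triv
      · rw [if_pos hθ, hθ]
        have : w triv = 0 := by
          rw [hw]
          exact dif_pos rfl
        rw [this]
        show _ = μ * (1 : ℂ) ^ 2 - μ
        simp
      · have hθ1 : (θ : K' → ℂ) ≠ (fun _ => 1) := fun h => hθ (Subtype.ext h)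
        rw [if_neg hθ, hwval θ hθ1, hdegcast]
        ring
    rw [Finset.sum_congr rfl (fun θ _ => h1 θ), Finset.sum_sub_distrib, ← Finset.mul_sum,
      hsumsq, Finset.sum_ite_eq' Finset.univ triv, if_pos (Finset.mem_univ _)]
    ring
  -- the character χ₀
  obtain ⟨φ₀, hφ₀, hφ₀1, hχ₀eq⟩ := irr_eq_ind_of_free K' hfree χ₀ hχ₀.1
    ⟨k₀, Subgroup.mem_subgroupOf.mpr hk₀K, hk₀ne⟩
  obtain ⟨q, hq⟩ := charDegree_dvd_card hφ₀
  have hφ₀deg : ((Cfsg.charDegree φ₀ : ℕ) : ℂ) = φ₀ 1 :=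
    charDegree_cast_of_isCharacter (IsIrrCharacter.isCharacter hφ₀)
  have hz₀ : (z χ₀ hχ₀ : ℂ) = μ * φ₀ 1 := by
    rw [hclaim1 χ₀ hχ₀]
    conv_lhs => rw [hχ₀eq, indFun_apply_one]
    field_simp
  refine ⟨z χ₀ hχ₀ * q - ∑ θ : Cfsg.IrrCharacter K', (Cfsg.charDegree (θ : K' → ℂ) : ℤ) * w θ, ?_⟩
  have hm : ((z χ₀ hχ₀ * q - ∑ θ : Cfsg.IrrCharacter K',
      (Cfsg.charDegree (θ : K' → ℂ) : ℤ) * w θ : ℤ) : ℂ) = μ := by
    push_cast
    rw [hsumw, hz₀]
    have hq' : (Nat.card K' : ℂ) = φ₀ 1 * q := by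
      rw [← hφ₀deg, hq]
      push_cast
      ring
    rw [hq']
    ring
  intro χ hχ k hk hk1
  rw [hz χ hχ k hk hk1, hclaim1 χ hχ, hm]

end

end Cfsg.Agent.Helper6
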