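import Mathlib

/-!
# Brauer–Leonard: the combinatorial lemma

Integer vectors `c λ` (indexed by a type `Λ` carrying an equivalence relation `R`) with Gram matrix
`m + [R λ μ]`, all orthogonal to a strictly positive vector, have the shape `v + ε e_{Θ λ}`.
-/

set_option autoImplicit false
set_option linter.style.haveILetI false

namespace Cfsg.Agent.Helper6.BLeo

variable {ι : Type*} [Fintype ι] [DecidableEq ι]

theorem int_sq_le_two {z : ℤ} (h : z ^ 2 ≤ 2) (h0 : z ≠ 0) : z = 1 ∨ z = -1 := by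
  have h1 : z < 2 := by nlinarith
  have h2 : -2 < z := by nlinarith
  omega

/-- An integer vector of square norm `2` orthogonal to a strictly positive vector is `e_a - e_b`. -/
theorem eq_single_sub_single (x : ι → ℤ) (deg : ι → ℤ) (hdeg : ∀ i, 0 < deg i)
    (h2 : ∑ i, x i ^ 2 = 2) (h0 : ∑ i, x i * deg i = 0) :
    ∃ a b, a ≠ b ∧ ∀ i, x i = (if i = a then 1 else 0) - (if i = b then 1 else 0) := by
  have hne : ∃ a, x a ≠ 0 := by
    by_contra hcon
    simp only [not_exists, not_not] at hcon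
    have : ∑ i, x i ^ 2 = 0 := Finset.sum_eq_zero (fun i _ => by rw [hcon i]; ring)
    omega
  obtain ⟨a, ha⟩ := hne
  have hsplit : x a ^ 2 + ∑ i ∈ Finset.univ.erase a, x i ^ 2 = 2 := by
    have := Finset.add_sum_erase Finset.univ (fun i => x i ^ 2) (Finset.mem_univ a)
    rw [this]; exact h2
  have hrest_nonneg : 0 ≤ ∑ i ∈ Finset.univ.erase a, x i ^ 2 :=
    Finset.sum_nonneg (fun i _ => sq_nonneg _)
  have hxa : x a = 1 ∨ x a = -1 := int_sq_le_two (by omega) ha
  have hxa2 : x a ^ 2 = 1 := by rcases hxa with h | h <;> rw [h] <;> norm_num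
  have hrest : ∑ i ∈ Finset.univ.erase a, x i ^ 2 = 1 := by omega
  have hne' : ∃ b ∈ Finset.univ.erase a, x b ≠ 0 := by
    by_contra hcon
    simp only [not_exists, not_and, not_not] at hcon
    have : ∑ i ∈ Finset.univ.erase a, x i ^ 2 = 0 :=
      Finset.sum_eq_zero (fun i hi => by rw [hcon i hi]; ring)
    omega
  obtain ⟨b, hb, hxb0⟩ := hne'
  have hba : b ≠ a := (Finset.mem_erase.mp hb).1
  have hsplit2 : x b ^ 2 + ∑ i ∈ (Finset.univ.erase a).erase b, x i ^ 2 = 1 := by
    have := Finset.add_sum_erase (Finset.univ.erase a) (fun i => x i ^ 2) hb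
    rw [this]; exact hrest
  have hrest2_nonneg : 0 ≤ ∑ i ∈ (Finset.univ.erase a).erase b, x i ^ 2 :=
    Finset.sum_nonneg (fun i _ => sq_nonneg _)
  have hxb : x b = 1 ∨ x b = -1 := int_sq_le_two (by omega) hxb0
  have hxb2 : x b ^ 2 = 1 := by rcases hxb with h | h <;> rw [h] <;> norm_num
  have hrest2 : ∑ i ∈ (Finset.univ.erase a).erase b, x i ^ 2 = 0 := by omega
  have hzero : ∀ i, i ≠ a → i ≠ b → x i = 0 := by
    intro i hia hib
    have hmem : i ∈ (Finset.univ.erase a).erase b :=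
      Finset.mem_erase.mpr ⟨hib, Finset.mem_erase.mpr ⟨hia, Finset.mem_univ i⟩⟩
    have := (Finset.sum_eq_zero_iff_of_nonneg (fun i _ => sq_nonneg (x i))).mp hrest2 i hmem
    exact pow_eq_zero_iff (two_ne_zero) |>.mp this
  have hdegsum : x a * deg a + x b * deg b = 0 := by
    have h1 : ∑ i, x i * deg i =
        x a * deg a + ∑ i ∈ Finset.univ.erase a, x i * deg i :=
      (Finset.add_sum_erase Finset.univ (fun i => x i * deg i) (Finset.mem_univ a)).symm
    have h2' : ∑ i ∈ Finset.univ.erase a, x i * deg i =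
        x b * deg b + ∑ i ∈ (Finset.univ.erase a).erase b, x i * deg i :=
      (Finset.add_sum_erase (Finset.univ.erase a) (fun i => x i * deg i) hb).symm
    have h3 : ∑ i ∈ (Finset.univ.erase a).erase b, x i * deg i = 0 := by
      apply Finset.sum_eq_zero
      intro i hi
      have hib : i ≠ b := (Finset.mem_erase.mp hi).1
      have hia : i ≠ a := (Finset.mem_erase.mp (Finset.mem_erase.mp hi).2).1
      rw [hzero i hia hib, zero_mul]
    rw [h1, h2', h3] at h0
    linarith
  have hda := hdeg a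
  have hdb := hdeg b
  rcases hxa with h1 | h1 <;> rcases hxb with h2' | h2'
  · exfalso; rw [h1, h2'] at hdegsum; linarith
  · refine ⟨a, b, hba.symm, ?_⟩
    intro i
    by_cases hia : i = a
    · subst hia
      rw [if_pos rfl, if_neg hba.symm, h1]; ring
    · by_cases hib : i = b
      · subst hib
        rw [if_neg hia, if_pos rfl, h2']; ring
      · rw [if_neg hia, if_neg hib, hzero i hia hib]; ring
  · refine ⟨b, a, hba, ?_⟩
    intro i
    by_cases hia : i = a
    · subst hia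
      rw [if_neg hba.symm, if_pos rfl, h1]; ring
    · by_cases hib : i = b
      · subst hib
        rw [if_pos rfl, if_neg hia, h2']; ring
      · rw [if_neg hib, if_neg hia, hzero i hia hib]; ring
  · exfalso; rw [h1, h2'] at hdegsum; linarith

/-- The dot product of `e_a - e_b` and `e_a' - e_b'`. -/
theorem dot_single_sub_single (a b a' b' : ι) :
    ∑ i : ι, (((if i = a then 1 else 0) - (if i = b then 1 else 0) : ℤ)) *
        ((if i = a' then 1 else 0) - (if i = b' then 1 else 0)) =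
      (if a = a' then 1 else 0) - (if a = b' then 1 else 0) - (if b = a' then 1 else 0) +
        (if b = b' then 1 else 0) := by
  have h : ∀ i : ι, (((if i = a then 1 else 0) - (if i = b then 1 else 0) : ℤ)) *
        ((if i = a' then 1 else 0) - (if i = b' then 1 else 0)) =
      (if i = a then (if i = a' then 1 else 0) else 0)
        - (if i = a then (if i = b' then 1 else 0) else 0)
        - (if i = b then (if i = a' then 1 else 0) else 0)
        + (if i = b then (if i = b' then 1 else 0) else 0) := by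
    intro i
    split_ifs <;> ring
  rw [Finset.sum_congr rfl (fun i _ => h i)]
  rw [Finset.sum_add_distrib, Finset.sum_sub_distrib, Finset.sum_sub_distrib]
  simp only [Finset.sum_ite_eq', Finset.mem_univ, if_true]

variable {Λ : Type*}

omit [DecidableEq ι] in
/-- Equal vectors: if `R λ μ` then `c λ = c μ`. -/
theorem eq_of_rel (R : Λ → Λ → Prop) (hR : Equivalence R) (c : Λ → ι → ℤ) (m : ℤ)
    (hG1 : ∀ l μ, R l μ → ∑ i, c l i * c μ i = m + 1) (l μ : Λ) (h : R l μ) (i : ι) :
    c l i = c μ i := by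
  have h1 := hG1 l l (hR.refl l)
  have h2 := hG1 μ μ (hR.refl μ)
  have h3 := hG1 l μ h
  have hsum : ∑ i, (c l i - c μ i) ^ 2 = 0 := by
    have : ∀ i, (c l i - c μ i) ^ 2 = c l i * c l i - 2 * (c l i * c μ i) + c μ i * c μ i := by
      intro i; ring
    rw [Finset.sum_congr rfl (fun i _ => this i), Finset.sum_add_distrib, Finset.sum_sub_distrib,
      ← Finset.mul_sum, h1, h2, h3]
    ring
  have := (Finset.sum_eq_zero_iff_of_nonneg (fun i _ => sq_nonneg (c l i - c μ i))).mp hsum i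
    (Finset.mem_univ i)
  have h0 : c l i - c μ i = 0 := pow_eq_zero_iff (two_ne_zero) |>.mp this
  linarith

/-- The structure theorem. -/
theorem structure_thm (R : Λ → Λ → Prop) (hR : Equivalence R) (c : Λ → ι → ℤ) (deg : ι → ℤ)
    (hdeg : ∀ i, 0 < deg i) (m : ℤ)
    (hG1 : ∀ l μ, R l μ → ∑ i, c l i * c μ i = m + 1)
    (hG0 : ∀ l μ, ¬ R l μ → ∑ i, c l i * c μ i = m)
    (hdeg0 : ∀ l, ∑ i, c l i * deg i = 0)
    (h2 : ∃ l μ, ¬ R l μ) :
    ∃ (ε : ℤ) (v : ι → ℤ) (Θ : Λ → ι), (ε = 1 ∨ ε = -1) ∧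
      ∀ l j, c l j = v j + if j = Θ l then ε else 0 := by
  classical
  obtain ⟨l₀, μ₀, h₀⟩ := h2
  -- difference vectors
  have key : ∀ μ, ¬ R l₀ μ → ∃ a b, a ≠ b ∧
      ∀ i, c l₀ i - c μ i = (if i = a then 1 else 0) - (if i = b then 1 else 0) := by
    intro μ hμ
    apply eq_single_sub_single (fun i => c l₀ i - c μ i) deg hdeg
    · have h1 := hG1 l₀ l₀ (hR.refl l₀)
      have h2 := hG1 μ μ (hR.refl μ)
      have h3 := hG0 l₀ μ hμ
      have : ∀ i, (c l₀ i - c μ i) ^ 2 =
          c l₀ i * c l₀ i - 2 * (c l₀ i * c μ i) + c μ i * c μ i := by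
        intro i; ring
      rw [Finset.sum_congr rfl (fun i _ => this i), Finset.sum_add_distrib,
        Finset.sum_sub_distrib, ← Finset.mul_sum, h1, h2, h3]
      ring
    · have : ∀ i, (c l₀ i - c μ i) * deg i = c l₀ i * deg i - c μ i * deg i := by
        intro i; ring
      rw [Finset.sum_congr rfl (fun i _ => this i), Finset.sum_sub_distrib, hdeg0, hdeg0]
      ring
  -- dot products of difference vectors are at least one
  have hdot : ∀ μ ν, ¬ R l₀ μ → ¬ R l₀ ν →
      1 ≤ ∑ i, (c l₀ i - c μ i) * (c l₀ i - c ν i) := by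
    intro μ ν hμ hν
    have h1 := hG1 l₀ l₀ (hR.refl l₀)
    have h3 := hG0 l₀ μ hμ
    have h4 := hG0 l₀ ν hν
    have h4' : ∑ i, c μ i * c l₀ i = m := by
      rw [← h3]; exact Finset.sum_congr rfl (fun i _ => mul_comm _ _)
    have h5 : m ≤ ∑ i, c μ i * c ν i := by
      by_cases hμν : R μ ν
      · rw [hG1 μ ν hμν]; linarith
      · rw [hG0 μ ν hμν]
    have : ∀ i, (c l₀ i - c μ i) * (c l₀ i - c ν i) =
        c l₀ i * c l₀ i - c l₀ i * c ν i - c μ i * c l₀ i + c μ i * c ν i := by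
      intro i; ring
    rw [Finset.sum_congr rfl (fun i _ => this i), Finset.sum_add_distrib,
      Finset.sum_sub_distrib, Finset.sum_sub_distrib, h1, h4, h4']
    linarith
  have hshare : ∀ μ ν, ¬ R l₀ μ → ¬ R l₀ ν → ∀ a b a' b', a ≠ b → a' ≠ b' →
      (∀ i, c l₀ i - c μ i = (if i = a then 1 else 0) - (if i = b then 1 else 0)) →
      (∀ i, c l₀ i - c ν i = (if i = a' then 1 else 0) - (if i = b' then 1 else 0)) →
      a = a' ∨ b = b' := by
    intro μ ν hμ hν a b a' b' hab hab' hx hx'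
    have h1 := hdot μ ν hμ hν
    rw [Finset.sum_congr rfl (fun i _ => by rw [hx i, hx' i]), dot_single_sub_single] at h1
    by_contra hcon
    simp only [not_or] at hcon
    rw [if_neg hcon.1, if_neg hcon.2] at h1
    have h6 : (0 : ℤ) ≤ (if a = b' then 1 else 0) := by split_ifs <;> norm_num
    have h7 : (0 : ℤ) ≤ (if b = a' then 1 else 0) := by split_ifs <;> norm_num
    linarith
  obtain ⟨a₀, b₀, hab₀, hx₀⟩ := key μ₀ h₀
  have hcases : (∀ μ, ¬ R l₀ μ → c l₀ a₀ - c μ a₀ = 1) ∨
      (∀ μ, ¬ R l₀ μ → c l₀ b₀ - c μ b₀ = -1) := by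
    by_contra hcon
    simp only [not_or, not_forall] at hcon
    obtain ⟨⟨μ₁, hμ₁, h1⟩, ⟨μ₂, hμ₂, h2⟩⟩ := hcon
    obtain ⟨a₁, b₁, hab₁, hx₁⟩ := key μ₁ hμ₁
    obtain ⟨a₂, b₂, hab₂, hx₂⟩ := key μ₂ hμ₂
    have ha₁ : a₁ ≠ a₀ := by
      intro h
      apply h1
      rw [hx₁ a₀, h, if_pos rfl, if_neg (fun hh => hab₁ (h.trans hh))]
      ring
    have hb₂ : b₂ ≠ b₀ := by
      intro h
      apply h2
      rw [hx₂ b₀, h, if_pos rfl, if_neg (fun hh => hab₂ (hh.symm.trans h.symm))]
      ring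
    have e1 : b₁ = b₀ := by
      rcases hshare μ₁ μ₀ hμ₁ h₀ a₁ b₁ a₀ b₀ hab₁ hab₀ hx₁ hx₀ with h | h
      · exact absurd h ha₁
      · exact h
    have e2 : a₂ = a₀ := by
      rcases hshare μ₂ μ₀ hμ₂ h₀ a₂ b₂ a₀ b₀ hab₂ hab₀ hx₂ hx₀ with h | h
      · exact h
      · exact absurd h hb₂
    rcases hshare μ₁ μ₂ hμ₁ hμ₂ a₁ b₁ a₂ b₂ hab₁ hab₂ hx₁ hx₂ with h | h
    · exact ha₁ (h.trans e2)
    · exact hb₂ (h.symm.trans e1)
  rcases hcases with hplus | hminus
  · -- sign `+`
    have hex : ∀ μ, ∃ i, ∀ j, c μ j = (c l₀ j - if j = a₀ then 1 else 0) +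
        if j = i then 1 else 0 := by
      intro μ
      by_cases hμ : R l₀ μ
      · refine ⟨a₀, fun j => ?_⟩
        rw [← eq_of_rel R hR c m hG1 l₀ μ hμ j]; ring
      · obtain ⟨a, b, hab, hx⟩ := key μ hμ
        have haa : a = a₀ := by
          have h1 := hplus μ hμ
          rw [hx a₀] at h1
          by_contra hne
          rw [if_neg (show ¬ a₀ = a from fun h => hne h.symm)] at h1
          split_ifs at h1 <;> omega
        refine ⟨b, fun j => ?_⟩
        have := hx j
        rw [haa] at this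
        linarith
    choose Θ hΘ using hex
    exact ⟨1, fun j => c l₀ j - if j = a₀ then 1 else 0, Θ, Or.inl rfl, hΘ⟩
  · -- sign `-`
    have hex : ∀ μ, ∃ i, ∀ j, c μ j = (c l₀ j + if j = b₀ then 1 else 0) +
        if j = i then -1 else 0 := by
      intro μ
      by_cases hμ : R l₀ μ
      · refine ⟨b₀, fun j => ?_⟩
        rw [← eq_of_rel R hR c m hG1 l₀ μ hμ j]
        split_ifs <;> ring
      · obtain ⟨a, b, hab, hx⟩ := key μ hμ
        have hbb : b = b₀ := by
          have h1 := hminus μ hμ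
          rw [hx b₀] at h1
          by_contra hne
          rw [if_neg (show ¬ b₀ = b from fun h => hne h.symm)] at h1
          split_ifs at h1 <;> omega
        refine ⟨a, fun j => ?_⟩
        have := hx j
        rw [hbb] at this
        split_ifs at this ⊢ <;> linarith
    choose Θ hΘ using hex
    exact ⟨-1, fun j => c l₀ j + if j = b₀ then 1 else 0, Θ, Or.inr rfl, hΘ⟩

/-- The labelling `Θ` separates exactly the `R`-classes. -/
theorem theta_eq_iff (R : Λ → Λ → Prop) (hR : Equivalence R) (c : Λ → ι → ℤ) (m : ℤ)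
    (hG1 : ∀ l μ, R l μ → ∑ i, c l i * c μ i = m + 1)
    (hG0 : ∀ l μ, ¬ R l μ → ∑ i, c l i * c μ i = m)
    (ε : ℤ) (v : ι → ℤ) (Θ : Λ → ι) (hε : ε = 1 ∨ ε = -1)
    (hS : ∀ l j, c l j = v j + if j = Θ l then ε else 0) (l μ : Λ) :
    Θ l = Θ μ ↔ R l μ := by
  constructor
  · intro h
    by_contra hcon
    have h1 := hG0 l μ hcon
    have h2 := hG1 l l (hR.refl l)
    have : ∑ i, c l i * c μ i = ∑ i, c l i * c l i := by
      apply Finset.sum_congr rfl
      intro i _
      rw [hS μ i, hS l i, h]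
    omega
  · intro h
    have h1 := eq_of_rel R hR c m hG1 l μ h (Θ l)
    rw [hS l (Θ l), hS μ (Θ l), if_pos rfl] at h1
    by_contra hne
    rw [if_neg hne] at h1
    rcases hε with h | h <;> omega

/-- The norm equation. -/
theorem norm_eq (R : Λ → Λ → Prop) (hR : Equivalence R) (c : Λ → ι → ℤ) (m : ℤ)
    (hG1 : ∀ l μ, R l μ → ∑ i, c l i * c μ i = m + 1)
    (ε : ℤ) (v : ι → ℤ) (Θ : Λ → ι) (hε : ε = 1 ∨ ε = -1)
    (hS : ∀ l j, c l j = v j + if j = Θ l then ε else 0) (l : Λ) :
    ∑ j, v j ^ 2 + 2 * ε * v (Θ l) = m := by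
  have h1 := hG1 l l (hR.refl l)
  have hε2 : ε * ε = 1 := by rcases hε with h | h <;> rw [h] <;> norm_num
  have h2 : ∀ i, c l i * c l i =
      v i ^ 2 + (if i = Θ l then 2 * ε * v i + 1 else 0) := by
    intro i
    rw [hS l i]
    split_ifs
    · linear_combination hε2
    · ring
  rw [Finset.sum_congr rfl (fun i _ => h2 i), Finset.sum_add_distrib,
    Finset.sum_ite_eq' Finset.univ (Θ l), if_pos (Finset.mem_univ _)] at h1
  linarith

end Cfsg.Agent.Helper6.BLeo
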