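import Mathlib
import Cfsg.Agent.Helper6.PrincipalDefect

/-!
# Sylow subgroups of centralizers: fusion of classes with a given defect group
-/

set_option autoImplicit false
set_option linter.style.haveILetI false

namespace Cfsg.Agent.Helper6

universe u

open scoped Pointwise

variable {G : Type u} [Group G]

/-- in a finite group, an element conjugating `P` into itself normalizes `P` -/
theorem mem_normalizer_of_conj_le [Finite G] (P : Subgroup G) (n : G)
    (h : ∀ u ∈ P, n * u * n⁻¹ ∈ P) : n ∈ Subgroup.normalizer (P : Set G) := by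
  have hle : P.map (MulAut.conj n).toMonoidHom ≤ P := by
    rintro _ ⟨u, hu, rfl⟩
    exact h u hu
  have hcard : Nat.card (P.map (MulAut.conj n).toMonoidHom) = Nat.card P :=
    Subgroup.card_map_of_injective (MulEquiv.injective _)
  have heq := Subgroup.eq_of_le_of_card_ge hle (ge_of_eq hcard)
  rw [Subgroup.mem_normalizer_iff]
  intro u
  constructor
  · exact h u
  · intro hu
    rw [← heq] at hu
    obtain ⟨u', hu', he⟩ := hu
    have e : u' = u := by
      have : n * u' * n⁻¹ = n * u * n⁻¹ := he
      exact mul_left_cancel (mul_right_cancel this)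
    rw [← e]
    exact hu'

theorem card_centralizer_conj [Finite G] (g x : G) :
    Nat.card (Subgroup.centralizer ({x * g * x⁻¹} : Set G)) =
      Nat.card (Subgroup.centralizer ({g} : Set G)) := by
  have h1 := (Subgroup.centralizer ({x * g * x⁻¹} : Set G)).index_mul_card
  have h2 := (Subgroup.centralizer ({g} : Set G)).index_mul_card
  rw [index_centralizer_conj, ← h2] at h1
  have hpos : 0 < (Subgroup.centralizer ({g} : Set G)).index :=
    Nat.pos_of_ne_zero Subgroup.index_ne_zero_of_finite
  exact Nat.eq_of_mul_eq_mul_left hpos h1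

variable {p : ℕ} [hp : Fact p.Prime]

theorem card_sylow_map [Finite G] {X : Subgroup G} (S : Sylow p X) :
    Nat.card ((S : Subgroup X).map X.subtype) = p ^ (Nat.card X).factorization p := by
  rw [Subgroup.card_subtype, Sylow.card_eq_multiplicity]

omit hp in
theorem sylow_map_le {X : Subgroup G} (S : Sylow p X) : (S : Subgroup X).map X.subtype ≤ X := by
  rintro _ ⟨x, _, rfl⟩
  exact x.2

theorem exists_sylow_map_eq [Finite G] (P X : Subgroup G) (hPX : P ≤ X)
    (hcard : Nat.card P = p ^ (Nat.card X).factorization p) :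
    ∃ S : Sylow p X, (S : Subgroup X).map X.subtype = P := by
  refine ⟨Sylow.ofCard (P.subgroupOf X) ?_, ?_⟩
  · rw [← hcard]
    exact Nat.card_congr (Subgroup.subgroupOfEquivOfLe hPX).toEquiv
  · rw [Sylow.coe_ofCard]
    exact Subgroup.map_subgroupOf_eq_of_le hPX

/-- a `p`-subgroup that is Sylow in its normalizer in `X` is Sylow in `X` -/
theorem card_eq_of_sylow_inf_normalizer [Finite G] (P X : Subgroup G) (hPX : P ≤ X)
    (hcard : Nat.card P =
      p ^ (Nat.card (X ⊓ Subgroup.normalizer (P : Set G) : Subgroup G)).factorization p) :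
    Nat.card P = p ^ (Nat.card X).factorization p := by
  set n := (Nat.card (X ⊓ Subgroup.normalizer (P : Set G) : Subgroup G)).factorization p with hn
  have hXN0 : Nat.card (X ⊓ Subgroup.normalizer (P : Set G) : Subgroup G) ≠ 0 :=
    Nat.card_pos.ne'
  have hX0 : Nat.card X ≠ 0 := Nat.card_pos.ne'
  have hle : n ≤ (Nat.card X).factorization p := by
    have hdvd := Subgroup.card_dvd_of_le
      (inf_le_left : X ⊓ Subgroup.normalizer (P : Set G) ≤ X)
    exact (Nat.factorization_le_iff_dvd hXN0 hX0).mpr hdvd p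
  by_contra hne
  have hlt : n + 1 ≤ (Nat.card X).factorization p := by
    by_contra h'
    push Not at h'
    have e : n = (Nat.card X).factorization p := by omega
    apply hne
    rw [hcard, ← e]
  have hpow : p ^ (n + 1) ∣ Nat.card X := (hp.1.pow_dvd_iff_le_factorization hX0).mpr hlt
  have hP'card : Nat.card (P.subgroupOf X) = p ^ n := by
    rw [← hcard]
    exact Nat.card_congr (Subgroup.subgroupOfEquivOfLe hPX).toEquiv
  have h1 := Sylow.prime_pow_dvd_card_normalizer hpow hP'card
  have h2 : (Subgroup.normalizer ((P.subgroupOf X : Subgroup X) : Set X)).map X.subtype ≤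
      X ⊓ Subgroup.normalizer (P : Set G) := by
    rintro _ ⟨x, hx, rfl⟩
    refine ⟨x.2, ?_⟩
    show (x : G) ∈ Subgroup.normalizer (P : Set G)
    rw [Subgroup.mem_normalizer_iff]
    intro u
    have hx' := Subgroup.mem_normalizer_iff.mp hx
    constructor
    · intro hu
      have := (hx' ⟨u, hPX hu⟩).mp (Subgroup.mem_subgroupOf.mpr hu)
      exact Subgroup.mem_subgroupOf.mp this
    · intro hu
      have huX : u ∈ X := by
        have h3 : (x : G) * u * (x : G)⁻¹ ∈ X := hPX hu
        have := X.mul_mem (X.mul_mem (X.inv_mem x.2) h3) x.2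
        have e : (x : G)⁻¹ * ((x : G) * u * (x : G)⁻¹) * (x : G) = u := by group
        rwa [e] at this
      have := (hx' ⟨u, huX⟩).mpr (Subgroup.mem_subgroupOf.mpr hu)
      exact Subgroup.mem_subgroupOf.mp this
  have h3 : Nat.card (Subgroup.normalizer ((P.subgroupOf X : Subgroup X) : Set X)) ∣
      Nat.card (X ⊓ Subgroup.normalizer (P : Set G) : Subgroup G) := by
    rw [← Subgroup.card_subtype X (Subgroup.normalizer ((P.subgroupOf X : Subgroup X) : Set X))]
    exact Subgroup.card_dvd_of_le h2
  have h4 : p ^ (n + 1) ∣ Nat.card (X ⊓ Subgroup.normalizer (P : Set G) : Subgroup G) :=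
    dvd_trans h1 h3
  have h5 := (hp.1.pow_dvd_iff_le_factorization hXN0).mp h4
  omega

/-- **fusion**: if `P` is a Sylow `p`-subgroup of `C(g)`, conjugates of `g` centralizing `P` are
conjugate to `g` under `N(P)` -/
theorem exists_normalizer_conj_of_sylow_centralizer [Finite G] (P : Subgroup G) (g : G)
    (hPg : P ≤ Subgroup.centralizer ({g} : Set G))
    (hcard : Nat.card P = p ^ (Nat.card (Subgroup.centralizer ({g} : Set G))).factorization p)
    (a : G) (hc : a * g * a⁻¹ ∈ Subgroup.centralizer (P : Set G)) :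
    ∃ n ∈ Subgroup.normalizer (P : Set G), n * g * n⁻¹ = a * g * a⁻¹ := by
  set c := a * g * a⁻¹ with hcdef
  set X := Subgroup.centralizer ({c} : Set G) with hX
  have hPX : P ≤ X := by
    intro u hu
    rw [hX, Subgroup.mem_centralizer_iff]
    intro h hh
    rw [Set.mem_singleton_iff] at hh
    subst hh
    exact (Subgroup.mem_centralizer_iff.mp hc u hu).symm
  have hPaX : P.map (MulAut.conj a).toMonoidHom ≤ X := by
    rintro _ ⟨u, hu, rfl⟩
    rw [hX, Subgroup.mem_centralizer_iff]
    intro h hh
    rw [Set.mem_singleton_iff] at hh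
    subst hh
    have h1 := Subgroup.mem_centralizer_iff.mp (hPg hu) g (Set.mem_singleton g)
    show a * g * a⁻¹ * (a * u * a⁻¹) = a * u * a⁻¹ * (a * g * a⁻¹)
    calc a * g * a⁻¹ * (a * u * a⁻¹) = a * (g * u) * a⁻¹ := by group
      _ = a * (u * g) * a⁻¹ := by rw [h1]
      _ = a * u * a⁻¹ * (a * g * a⁻¹) := by group
  have hXcard : Nat.card X = Nat.card (Subgroup.centralizer ({g} : Set G)) :=
    card_centralizer_conj g a
  have hc1 : Nat.card (P.subgroupOf X) = p ^ (Nat.card X).factorization p := by
    rw [hXcard, ← hcard]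
    exact Nat.card_congr (Subgroup.subgroupOfEquivOfLe hPX).toEquiv
  have hc2 : Nat.card ((P.map (MulAut.conj a).toMonoidHom).subgroupOf X) =
      p ^ (Nat.card X).factorization p := by
    have hcm : Nat.card (P.map (MulAut.conj a).toMonoidHom) = Nat.card P :=
      Subgroup.card_map_of_injective (MulEquiv.injective _)
    rw [hXcard, ← hcard, ← hcm]
    exact Nat.card_congr (Subgroup.subgroupOfEquivOfLe hPaX).toEquiv
  set Q₁ : Sylow p X := Sylow.ofCard (P.subgroupOf X) hc1 with hQ₁
  set Q₂ : Sylow p X := Sylow.ofCard ((P.map (MulAut.conj a).toMonoidHom).subgroupOf X) hc2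
    with hQ₂
  obtain ⟨z, hz⟩ := MulAction.exists_smul_eq X Q₂ Q₁
  have hz' : MulAut.conj z • (Q₂ : Subgroup X) = (Q₁ : Subgroup X) := by
    rw [← Sylow.coe_subgroup_smul, hz]
  have hkey : ∀ u ∈ P, (z : G) * a * u * ((z : G) * a)⁻¹ ∈ P := by
    intro u hu
    have hy : (⟨a * u * a⁻¹, hPaX ⟨u, hu, rfl⟩⟩ : X) ∈ (Q₂ : Subgroup X) := by
      rw [hQ₂, Sylow.coe_ofCard, Subgroup.mem_subgroupOf]
      exact ⟨u, hu, rfl⟩
    have h1 := Subgroup.smul_mem_pointwise_smul _ (MulAut.conj z) _ hy
    rw [hz', hQ₁, Sylow.coe_ofCard, Subgroup.mem_subgroupOf, MulAut.smul_def,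
      MulAut.conj_apply] at h1
    have e : (z : G) * a * u * ((z : G) * a)⁻¹ = (z : G) * (a * u * a⁻¹) * (z : G)⁻¹ := by group
    rw [e]
    exact h1
  refine ⟨(z : G) * a, mem_normalizer_of_conj_le P _ hkey, ?_⟩
  have hzc : c * (z : G) = (z : G) * c :=
    Subgroup.mem_centralizer_iff.mp z.2 c (Set.mem_singleton c)
  calc (z : G) * a * g * ((z : G) * a)⁻¹ = (z : G) * c * (z : G)⁻¹ := by rw [hcdef]; group
    _ = c * (z : G) * (z : G)⁻¹ := by rw [hzc]
    _ = c := by group

end Cfsg.Agent.Helper6
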