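import Mathlib
import Cfsg.Prelude.Def_Solvable
import Cfsg.Agent.Helper6.SylowFusion

/-!
# Brauer–Leonard: group theory of an abelian Sylow subgroup with Frobenius normalizer
-/

set_option autoImplicit false
set_option linter.style.haveILetI false

namespace Cfsg.Agent.Helper6.BLeo

universe u

variable {G : Type u} [Group G]

/-- Burnside's transfer theorem, in the form needed: if a Sylow `p`-subgroup is central in its
normalizer then `O_{p'}` has `p`-power index. -/
theorem pPrimeCore_index_of_normalizer_le_centralizer {X : Type u} [Group X] [Finite X] {p : ℕ}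
    [hp : Fact p.Prime] (Q : Sylow p X)
    (h : Subgroup.normalizer ((Q : Subgroup X) : Set X) ≤
      Subgroup.centralizer ((Q : Subgroup X) : Set X)) :
    ∃ k : ℕ, (Cfsg.pPrimeCore p X).index = p ^ k := by
  set K : Subgroup X := (MonoidHom.transferSylow Q h).ker with hKdef
  have hK : ¬ p ∣ Nat.card K := MonoidHom.not_dvd_card_ker_transferSylow Q h
  have hcompl : Subgroup.IsComplement' K Q := MonoidHom.ker_transferSylow_isComplement' Q h
  have hidx : K.index = Nat.card Q := hcompl.symm.index_eq_card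
  have hle : K ≤ Cfsg.pPrimeCore p X := by
    apply le_sSup
    refine ⟨inferInstance, ?_⟩
    exact Nat.Coprime.symm ((Nat.Prime.coprime_iff_not_dvd hp.out).mpr hK)
  have hdvd : (Cfsg.pPrimeCore p X).index ∣ K.index := Subgroup.index_dvd_of_le hle
  obtain ⟨n, hn⟩ := IsPGroup.iff_card.mp Q.2
  rw [hidx, hn] at hdvd
  obtain ⟨k, _, hk⟩ := (Nat.dvd_prime_pow hp.out).mp hdvd
  exact ⟨k, hk⟩

/-- An abelian Sylow subgroup lies in the centralizer of each of its elements. -/
theorem le_centralizer_singleton (P : Subgroup G)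
    (hab : ∀ a ∈ P, ∀ b ∈ P, a * b = b * a) (y : G) (hy : y ∈ P) :
    P ≤ Subgroup.centralizer ({y} : Set G) := by
  intro u hu
  rw [Subgroup.mem_centralizer_iff]
  intro z hz
  rw [Set.mem_singleton_iff] at hz
  subst hz
  exact hab z hy u hu

/-- The `p`-part of the order of the centralizer of an element of an abelian Sylow subgroup. -/
theorem card_eq_pow_factorization_centralizer [Finite G] {p : ℕ} [hp : Fact p.Prime]
    (P : Sylow p G) (hab : ∀ a ∈ (P : Subgroup G), ∀ b ∈ (P : Subgroup G), a * b = b * a)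
    (y : G) (hy : y ∈ (P : Subgroup G)) :
    Nat.card (P : Subgroup G) =
      p ^ (Nat.card (Subgroup.centralizer ({y} : Set G))).factorization p := by
  have hle := le_centralizer_singleton (P : Subgroup G) hab y hy
  have h1 : Nat.card (P : Subgroup G) = p ^ (Nat.card G).factorization p :=
    P.card_eq_multiplicity
  have h2 : Nat.card (P : Subgroup G) ∣ Nat.card (Subgroup.centralizer ({y} : Set G)) :=
    Subgroup.card_dvd_of_le hle
  have h3 : Nat.card (Subgroup.centralizer ({y} : Set G)) ∣ Nat.card G :=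
    Subgroup.card_subgroup_dvd_card _
  have hX0 : Nat.card (Subgroup.centralizer ({y} : Set G)) ≠ 0 := Nat.card_pos.ne'
  have hG0 : Nat.card G ≠ 0 := Nat.card_pos.ne'
  have h4 : (Nat.card (Subgroup.centralizer ({y} : Set G))).factorization p ≤
      (Nat.card G).factorization p := (Nat.factorization_le_iff_dvd hX0 hG0).mpr h3 p
  have h5 : (Nat.card G).factorization p ≤
      (Nat.card (Subgroup.centralizer ({y} : Set G))).factorization p := by
    rw [h1] at h2
    exact (hp.out.pow_dvd_iff_le_factorization hX0).mp h2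
  rw [h1, le_antisymm h4 h5]

/-- The centralizer of a non-identity element of `P` has a normal `p`-complement. -/
theorem pPrimeCore_index_centralizer [Finite G] {p : ℕ} [hp : Fact p.Prime] (P : Sylow p G)
    (hab : ∀ a ∈ (P : Subgroup G), ∀ b ∈ (P : Subgroup G), a * b = b * a)
    (y : G) (hy : y ∈ (P : Subgroup G))
    (hfrob : Subgroup.centralizer ({y} : Set G) ⊓
        Subgroup.normalizer ((P : Subgroup G) : Set G) =
      Subgroup.centralizer ((P : Subgroup G) : Set G)) :
    ∃ k : ℕ, (Cfsg.pPrimeCore p ↥(Subgroup.centralizer ({y} : Set G))).index = p ^ k := by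
  have hle := le_centralizer_singleton (P : Subgroup G) hab y hy
  apply pPrimeCore_index_of_normalizer_le_centralizer (P.subtype hle)
  intro c hc
  rw [Sylow.coe_subtype] at hc ⊢
  have hcN : (c : G) ∈ Subgroup.normalizer ((P : Subgroup G) : Set G) := by
    apply mem_normalizer_of_conj_le
    intro u hu
    have h1 := (Subgroup.mem_normalizer_iff.mp hc ⟨u, hle hu⟩).mp
      (by rw [Subgroup.mem_subgroupOf]; exact hu)
    rw [Subgroup.mem_subgroupOf] at h1
    exact h1
  have hcC : (c : G) ∈ Subgroup.centralizer ((P : Subgroup G) : Set G) := by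
    rw [← hfrob]
    exact ⟨c.2, hcN⟩
  rw [Subgroup.mem_centralizer_iff]
  intro q hq
  rw [SetLike.mem_coe, Subgroup.mem_subgroupOf] at hq
  apply Subtype.ext
  exact Subgroup.mem_centralizer_iff.mp hcC (q : G) hq

/-- Burnside's fusion theorem for an abelian Sylow subgroup. -/
theorem fusion_in_normalizer [Finite G] {p : ℕ} [hp : Fact p.Prime] (P : Sylow p G)
    (hab : ∀ a ∈ (P : Subgroup G), ∀ b ∈ (P : Subgroup G), a * b = b * a)
    (y : G) (hy : y ∈ (P : Subgroup G)) (g : G) (hg : g * y * g⁻¹ ∈ (P : Subgroup G)) :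
    ∃ n ∈ Subgroup.normalizer ((P : Subgroup G) : Set G), n * y * n⁻¹ = g * y * g⁻¹ := by
  apply exists_normalizer_conj_of_sylow_centralizer (p := p) (P : Subgroup G) y
    (le_centralizer_singleton (P : Subgroup G) hab y hy)
    (card_eq_pow_factorization_centralizer P hab y hy) g
  rw [Subgroup.mem_centralizer_iff]
  intro u hu
  exact hab u hu _ hg

/-- An element of the normalizer acting freely on `P` fixes no non-principal linear character. -/
theorem hom_eq_one_of_fixed [Finite G] (P : Subgroup G) (n : G)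
    (hn : n ∈ Subgroup.normalizer (P : Set G))
    (hfree : ∀ y ∈ P, y ≠ 1 → n * y * n⁻¹ ≠ y) (ψ : ↥P →* ℂˣ)
    (hfix : ∀ w w' : ↥P, (w' : G) = n * w * n⁻¹ → ψ w' = ψ w) : ψ = 1 := by
  have hconj : ∀ w : ↥P, n * (w : G) * n⁻¹ ∈ P := fun w =>
    (Subgroup.mem_normalizer_iff.mp hn (w : G)).mp w.2
  set τ : ↥P → ↥P := fun w => ⟨n * (w : G) * n⁻¹, hconj w⟩ * w⁻¹ with hτ
  have hinj : Function.Injective τ := by
    intro w w' hww
    have h1 : n * (w : G) * n⁻¹ * (w : G)⁻¹ = n * (w' : G) * n⁻¹ * (w' : G)⁻¹ := by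
      have := congrArg (Subtype.val : ↥P → G) hww
      simpa [hτ] using this
    have h2 : n * ((w' : G)⁻¹ * (w : G)) * n⁻¹ = (w' : G)⁻¹ * (w : G) := by
      have h3 : n * (w : G) * n⁻¹ = n * (w' : G) * n⁻¹ * (w' : G)⁻¹ * (w : G) := by
        rw [← h1]; group
      calc n * ((w' : G)⁻¹ * (w : G)) * n⁻¹
          = (n * (w' : G) * n⁻¹)⁻¹ * (n * (w : G) * n⁻¹) := by group
        _ = (n * (w' : G) * n⁻¹)⁻¹ * (n * (w' : G) * n⁻¹ * (w' : G)⁻¹ * (w : G)) := by rw [← h3]
        _ = (w' : G)⁻¹ * (w : G) := by group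
    have h4 : (w' : G)⁻¹ * (w : G) = 1 := by
      by_contra hne
      exact hfree _ (P.mul_mem (P.inv_mem w'.2) w.2) hne h2
    apply Subtype.ext
    have : (w : G) = (w' : G) * ((w' : G)⁻¹ * (w : G)) := by group
    rw [this, h4, mul_one]
  have hsurj : Function.Surjective τ := Finite.injective_iff_surjective.mp hinj
  ext w
  obtain ⟨w₀, hw₀⟩ := hsurj w
  have h1 : ψ w = ψ ⟨n * (w₀ : G) * n⁻¹, hconj w₀⟩ * (ψ w₀)⁻¹ := by
    rw [← hw₀, hτ, map_mul, map_inv]
  rw [h1, hfix w₀ ⟨n * (w₀ : G) * n⁻¹, hconj w₀⟩ rfl]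
  simp

end Cfsg.Agent.Helper6.BLeo
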