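import Mathlib
import Cfsg.Prelude.Def_Characters
import Cfsg.Agent.Helper6.BrauerPerm2
import Cfsg.Agent.Helper6.IrrBasis

/-!
# The action of the normalizer of a subgroup on its irreducible characters
-/

set_option autoImplicit false
set_option linter.style.haveILetI false

namespace Cfsg.Agent.Helper6

open scoped ComplexConjugate

universe u

variable {Γ : Type u} [Group Γ]

/-- Conjugation by the inverse of an element of the normalizer, as an automorphism. -/
def normConjEquiv (N : Subgroup Γ) (x : Subgroup.normalizer (N : Set Γ)) : N ≃* N where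
  toFun n := ⟨(x : Γ)⁻¹ * n * x, (Subgroup.mem_normalizer_iff''.mp x.2 n).mp n.2⟩
  invFun n := ⟨(x : Γ) * n * (x : Γ)⁻¹, (Subgroup.mem_normalizer_iff.mp x.2 n).mp n.2⟩
  left_inv n := by
    apply Subtype.ext
    simp only
    group
  right_inv n := by
    apply Subtype.ext
    simp only
    group
  map_mul' a b := by
    apply Subtype.ext
    simp only [Subgroup.coe_mul]
    group

theorem normConjEquiv_apply_coe (N : Subgroup Γ) (x : Subgroup.normalizer (N : Set Γ)) (n : N) :
    ((normConjEquiv N x n : N) : Γ) = (x : Γ)⁻¹ * n * x := rfl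

/-- The action of the normalizer of `N` on the irreducible characters of `N`. -/
@[instance_reducible]
noncomputable def normAction [Finite Γ] (N : Subgroup Γ) :
    MulAction (Subgroup.normalizer (N : Set Γ)) (Cfsg.IrrCharacter N) where
  smul x θ := ⟨(θ : N → ℂ) ∘ normConjEquiv N x, IsIrrCharacter.comp_mulEquiv _ θ.2⟩
  one_smul θ := by
    apply Subtype.ext
    funext n
    change (θ : N → ℂ) (normConjEquiv N 1 n) = (θ : N → ℂ) n
    apply congrArg
    apply Subtype.ext
    rw [normConjEquiv_apply_coe]
    simp
  mul_smul x y θ := by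
    apply Subtype.ext
    funext n
    change (θ : N → ℂ) (normConjEquiv N (x * y) n) =
      (θ : N → ℂ) (normConjEquiv N y (normConjEquiv N x n))
    apply congrArg
    apply Subtype.ext
    rw [normConjEquiv_apply_coe, normConjEquiv_apply_coe, normConjEquiv_apply_coe]
    simp only [Subgroup.coe_mul, mul_inv_rev]
    group

theorem normAction_smul_apply [Finite Γ] (N : Subgroup Γ)
    (x : Subgroup.normalizer (N : Set Γ)) (θ : Cfsg.IrrCharacter N) (n : N) :
    letI := normAction N
    ((x • θ : Cfsg.IrrCharacter N) : N → ℂ) n = (θ : N → ℂ) (normConjEquiv N x n) := rfl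

end Cfsg.Agent.Helper6
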