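import Mathlib
import Cfsg.Agent.Helper6.NormAction
import Cfsg.Agent.Helper6.BLeoB

/-!
# Brauer–Leonard: the action of the normalizer on the dual group of `P`
-/

set_option autoImplicit false
set_option linter.style.haveILetI false

namespace Cfsg.Agent.Helper6.BLeo

universe u

variable {G : Type u} [Group G]

/-- The action of the normalizer of `P` on the linear characters of `P`. -/
@[instance_reducible]
def dualAction (P : Subgroup G) :
    MulAction (Subgroup.normalizer (P : Set G)) (↥P →* ℂˣ) where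
  smul x ψ := ψ.comp (normConjEquiv P x).toMonoidHom
  one_smul ψ := by
    ext w
    change ((ψ (normConjEquiv P 1 w) : ℂˣ) : ℂ) = ψ w
    congr 2
    apply Subtype.ext
    rw [normConjEquiv_apply_coe]
    simp
  mul_smul x y ψ := by
    ext w
    change ((ψ (normConjEquiv P (x * y) w) : ℂˣ) : ℂ) =
      ψ (normConjEquiv P y (normConjEquiv P x w))
    congr 2
    apply Subtype.ext
    rw [normConjEquiv_apply_coe, normConjEquiv_apply_coe, normConjEquiv_apply_coe]
    simp only [Subgroup.coe_mul, mul_inv_rev]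
    group

theorem dualAction_smul_apply (P : Subgroup G) (x : Subgroup.normalizer (P : Set G))
    (ψ : ↥P →* ℂˣ) (w : ↥P) :
    letI := dualAction P
    (x • ψ) w = ψ (normConjEquiv P x w) := rfl

/-- The relation of the statement is the orbit relation. -/
theorem rel_iff (P : Subgroup G) (ψ ψ' : ↥P →* ℂˣ) :
    letI := dualAction P
    (∃ n : G, n ∈ Subgroup.normalizer (P : Set G) ∧
      ∀ w w' : ↥P, (w' : G) = n * w * n⁻¹ → ψ' w' = ψ w) ↔
    ∃ x : Subgroup.normalizer (P : Set G), x • ψ = ψ' := by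
  letI := dualAction P
  constructor
  · rintro ⟨n, hn, h⟩
    refine ⟨⟨n, hn⟩, ?_⟩
    ext w'
    rw [dualAction_smul_apply]
    congr 1
    symm
    apply h
    rw [normConjEquiv_apply_coe]
    simp only
    group
  · rintro ⟨x, rfl⟩
    refine ⟨(x : G), x.2, ?_⟩
    intro w w' hw
    rw [dualAction_smul_apply]
    congr 1
    apply Subtype.ext
    rw [normConjEquiv_apply_coe, hw]
    group

/-- The relation of the statement is an equivalence relation. -/
theorem rel_equivalence (P : Subgroup G) :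
    Equivalence (fun ψ ψ' : ↥P →* ℂˣ => ∃ n : G, n ∈ Subgroup.normalizer (P : Set G) ∧
      ∀ w w' : ↥P, (w' : G) = n * w * n⁻¹ → ψ' w' = ψ w) := by
  letI := dualAction P
  constructor
  · intro ψ
    rw [rel_iff]
    exact ⟨1, one_smul _ ψ⟩
  · intro ψ ψ' h
    rw [rel_iff] at h ⊢
    obtain ⟨x, rfl⟩ := h
    exact ⟨x⁻¹, inv_smul_smul x ψ⟩
  · intro ψ ψ' ψ'' h h'
    rw [rel_iff] at h h' ⊢
    obtain ⟨x, rfl⟩ := h
    obtain ⟨y, rfl⟩ := h'
    exact ⟨y * x, mul_smul y x ψ⟩

/-- A character related to a non-principal one is non-principal. -/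
theorem ne_one_of_rel (P : Subgroup G) (ψ ψ' : ↥P →* ℂˣ) (hψ : ψ ≠ 1)
    (h : ∃ n : G, n ∈ Subgroup.normalizer (P : Set G) ∧
      ∀ w w' : ↥P, (w' : G) = n * w * n⁻¹ → ψ' w' = ψ w) : ψ' ≠ 1 := by
  obtain ⟨n, hn, h⟩ := h
  intro h1
  apply hψ
  ext w
  have hw : n * (w : G) * n⁻¹ ∈ P := (Subgroup.mem_normalizer_iff.mp hn (w : G)).mp w.2
  have := h w ⟨n * (w : G) * n⁻¹, hw⟩ rfl
  rw [h1] at this
  simp only [MonoidHom.one_apply] at this ⊢
  rw [← this]

/-- The stabilizer of a non-principal linear character is the centralizer of `P`. -/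
theorem smul_eq_self_iff [Finite G] (P : Subgroup G)
    (hfree : ∀ n ∈ Subgroup.normalizer (P : Set G), n ∉ Subgroup.centralizer (P : Set G) →
      ∀ y ∈ P, y ≠ 1 → n * y * n⁻¹ ≠ y)
    (ψ : ↥P →* ℂˣ) (hψ : ψ ≠ 1) (x : Subgroup.normalizer (P : Set G)) :
    letI := dualAction P
    x • ψ = ψ ↔ (x : G) ∈ Subgroup.centralizer (P : Set G) := by
  letI := dualAction P
  constructor
  · intro h
    by_contra hx
    apply hψ
    apply hom_eq_one_of_fixed P (x : G) x.2 (hfree (x : G) x.2 hx) ψ
    intro w w' hw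
    have h1 : (x • ψ) w' = ψ w' := by rw [h]
    rw [← h1, dualAction_smul_apply]
    congr 1
    apply Subtype.ext
    rw [normConjEquiv_apply_coe, hw]
    group
  · intro h
    ext w
    rw [dualAction_smul_apply]
    congr 2
    apply Subtype.ext
    rw [normConjEquiv_apply_coe]
    have := Subgroup.mem_centralizer_iff.mp h (w : G) w.2
    calc (x : G)⁻¹ * (w : G) * (x : G) = (x : G)⁻¹ * ((w : G) * (x : G)) := by group
      _ = (x : G)⁻¹ * ((x : G) * (w : G)) := by rw [this]
      _ = (w : G) := by group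

open Classical in
/-- Counting the elements of the normalizer carrying `ψ` to `ψ'`. -/
theorem card_smul_eq [Finite G] (P : Subgroup G)
    (hfree : ∀ n ∈ Subgroup.normalizer (P : Set G), n ∉ Subgroup.centralizer (P : Set G) →
      ∀ y ∈ P, y ≠ 1 → n * y * n⁻¹ ≠ y)
    (ψ ψ' : ↥P →* ℂˣ) (hψ : ψ ≠ 1) :
    letI := dualAction P
    Nat.card {x : Subgroup.normalizer (P : Set G) // x • ψ = ψ'} =
      if (∃ x : Subgroup.normalizer (P : Set G), x • ψ = ψ') then
        Nat.card (Subgroup.centralizer (P : Set G)) else 0 := by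
  letI := dualAction P
  split_ifs with h
  · obtain ⟨x₀, hx₀⟩ := h
    have hCN : Subgroup.centralizer (P : Set G) ≤ Subgroup.normalizer (P : Set G) :=
      Subgroup.centralizer_le_normalizer _
    let e : {x : Subgroup.normalizer (P : Set G) // x • ψ = ψ'} ≃
        Subgroup.centralizer (P : Set G) :=
      { toFun := fun x => ⟨((x₀⁻¹ * x.1 : Subgroup.normalizer (P : Set G)) : G), by
          rw [← smul_eq_self_iff P hfree ψ hψ, mul_smul, x.2, ← hx₀, inv_smul_smul]⟩
        invFun := fun c => ⟨x₀ * ⟨(c : G), hCN c.2⟩, by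
          rw [mul_smul, (smul_eq_self_iff P hfree ψ hψ ⟨(c : G), hCN c.2⟩).mpr c.2, hx₀]⟩
        left_inv := fun x => by
          apply Subtype.ext
          apply Subtype.ext
          simp
        right_inv := fun c => by
          apply Subtype.ext
          simp }
    exact Nat.card_congr e
  · rw [Nat.card_eq_zero]
    left
    constructor
    rintro ⟨x, hx⟩
    exact h ⟨x, hx⟩

/-- The orbit of a non-principal character has `|N : C|` elements. -/
theorem card_orbit [Finite G] (P : Subgroup G)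
    (hfree : ∀ n ∈ Subgroup.normalizer (P : Set G), n ∉ Subgroup.centralizer (P : Set G) →
      ∀ y ∈ P, y ≠ 1 → n * y * n⁻¹ ≠ y)
    (ψ : ↥P →* ℂˣ) (hψ : ψ ≠ 1) :
    letI := dualAction P
    Nat.card {ψ' : ↥P →* ℂˣ // ∃ x : Subgroup.normalizer (P : Set G), x • ψ = ψ'} =
      (Subgroup.centralizer (P : Set G)).relIndex (Subgroup.normalizer (P : Set G)) := by
  letI := dualAction P
  have hstab : MulAction.stabilizer (Subgroup.normalizer (P : Set G)) ψ =
      (Subgroup.centralizer (P : Set G)).subgroupOf (Subgroup.normalizer (P : Set G)) := by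
    ext x
    rw [MulAction.mem_stabilizer_iff, Subgroup.mem_subgroupOf]
    exact smul_eq_self_iff P hfree ψ hψ x
  have h1 := MulAction.index_stabilizer (Subgroup.normalizer (P : Set G)) ψ
  rw [hstab] at h1
  rw [Subgroup.relIndex, h1, ← Nat.card_coe_set_eq]
  apply Nat.card_congr
  exact Equiv.subtypeEquivRight (fun ψ' => by rw [MulAction.mem_orbit_iff])

end Cfsg.Agent.Helper6.BLeo
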