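import Mathlib
import Cfsg.Prelude.Def_Characters
import Cfsg.Agent.Helper6.Linear

/-!
# Linear characters of an internal direct product of two commuting subgroups
-/

set_option autoImplicit false
set_option linter.style.haveILetI false

namespace Cfsg.Agent.Helper6

universe u

variable {G : Type u} [Group G]

/-- the multiplication map from the product of two elementwise commuting subgroups -/
def supMulHom (W₁ W₂ : Subgroup G) (hcomm : ∀ a ∈ W₁, ∀ b ∈ W₂, a * b = b * a) :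
    W₁ × W₂ →* G :=
  MonoidHom.noncommCoprod W₁.subtype W₂.subtype
    (fun a b => (show Commute (W₁.subtype a) (W₂.subtype b) from hcomm a a.2 b b.2))

theorem supMulHom_apply (W₁ W₂ : Subgroup G) (hcomm : ∀ a ∈ W₁, ∀ b ∈ W₂, a * b = b * a)
    (x : W₁ × W₂) : supMulHom W₁ W₂ hcomm x = (x.1 : G) * (x.2 : G) := rfl

theorem supMulHom_injective (W₁ W₂ : Subgroup G) (hcomm : ∀ a ∈ W₁, ∀ b ∈ W₂, a * b = b * a)
    (hint : W₁ ⊓ W₂ = ⊥) : Function.Injective (supMulHom W₁ W₂ hcomm) := by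
  rw [supMulHom, MonoidHom.noncommCoprod_injective]
  refine ⟨W₁.subtype_injective, W₂.subtype_injective, ?_⟩
  rw [Subgroup.range_subtype, Subgroup.range_subtype, disjoint_iff, hint]

theorem supMulHom_range (W₁ W₂ : Subgroup G) (hcomm : ∀ a ∈ W₁, ∀ b ∈ W₂, a * b = b * a) :
    (supMulHom W₁ W₂ hcomm).range = W₁ ⊔ W₂ := by
  rw [supMulHom, MonoidHom.noncommCoprod_range, Subgroup.range_subtype, Subgroup.range_subtype]

/-- the internal direct product of two commuting subgroups meeting trivially -/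
noncomputable def prodEquivSup (W₁ W₂ : Subgroup G) (hcomm : ∀ a ∈ W₁, ∀ b ∈ W₂, a * b = b * a)
    (hint : W₁ ⊓ W₂ = ⊥) : W₁ × W₂ ≃* ↥(W₁ ⊔ W₂) :=
  (MonoidHom.ofInjective (supMulHom_injective W₁ W₂ hcomm hint)).trans
    (MulEquiv.subgroupCongr (supMulHom_range W₁ W₂ hcomm))

theorem prodEquivSup_coe (W₁ W₂ : Subgroup G) (hcomm : ∀ a ∈ W₁, ∀ b ∈ W₂, a * b = b * a)
    (hint : W₁ ⊓ W₂ = ⊥) (x : W₁ × W₂) :
    ((prodEquivSup W₁ W₂ hcomm hint x : ↥(W₁ ⊔ W₂)) : G) = (x.1 : G) * (x.2 : G) := rfl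

theorem prodEquivSup_symm_of_mem_left (W₁ W₂ : Subgroup G)
    (hcomm : ∀ a ∈ W₁, ∀ b ∈ W₂, a * b = b * a)
    (hint : W₁ ⊓ W₂ = ⊥) (w : ↥(W₁ ⊔ W₂)) (hw : (w : G) ∈ W₁) :
    (prodEquivSup W₁ W₂ hcomm hint).symm w = (⟨w, hw⟩, 1) := by
  rw [MulEquiv.symm_apply_eq]
  apply Subtype.ext
  rw [prodEquivSup_coe]
  simp

theorem prodEquivSup_symm_of_mem_right (W₁ W₂ : Subgroup G)
    (hcomm : ∀ a ∈ W₁, ∀ b ∈ W₂, a * b = b * a)
    (hint : W₁ ⊓ W₂ = ⊥) (w : ↥(W₁ ⊔ W₂)) (hw : (w : G) ∈ W₂) :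
    (prodEquivSup W₁ W₂ hcomm hint).symm w = (1, ⟨w, hw⟩) := by
  rw [MulEquiv.symm_apply_eq]
  apply Subtype.ext
  rw [prodEquivSup_coe]
  simp

/-- extend a linear character of the first factor trivially on the second -/
noncomputable def liftLeft (W₁ W₂ : Subgroup G) (hcomm : ∀ a ∈ W₁, ∀ b ∈ W₂, a * b = b * a)
    (hint : W₁ ⊓ W₂ = ⊥) (lam : W₁ →* ℂˣ) : ↥(W₁ ⊔ W₂) →* ℂˣ :=
  (lam.comp (MonoidHom.fst W₁ W₂)).comp (prodEquivSup W₁ W₂ hcomm hint).symm.toMonoidHom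

/-- extend a linear character of the second factor trivially on the first -/
noncomputable def liftRight (W₁ W₂ : Subgroup G) (hcomm : ∀ a ∈ W₁, ∀ b ∈ W₂, a * b = b * a)
    (hint : W₁ ⊓ W₂ = ⊥) (mu : W₂ →* ℂˣ) : ↥(W₁ ⊔ W₂) →* ℂˣ :=
  (mu.comp (MonoidHom.snd W₁ W₂)).comp (prodEquivSup W₁ W₂ hcomm hint).symm.toMonoidHom

theorem liftLeft_apply (W₁ W₂ : Subgroup G) (hcomm : ∀ a ∈ W₁, ∀ b ∈ W₂, a * b = b * a)
    (hint : W₁ ⊓ W₂ = ⊥) (lam : W₁ →* ℂˣ) (w : ↥(W₁ ⊔ W₂)) :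
    liftLeft W₁ W₂ hcomm hint lam w = lam ((prodEquivSup W₁ W₂ hcomm hint).symm w).1 := rfl

theorem liftRight_apply (W₁ W₂ : Subgroup G) (hcomm : ∀ a ∈ W₁, ∀ b ∈ W₂, a * b = b * a)
    (hint : W₁ ⊓ W₂ = ⊥) (mu : W₂ →* ℂˣ) (w : ↥(W₁ ⊔ W₂)) :
    liftRight W₁ W₂ hcomm hint mu w = mu ((prodEquivSup W₁ W₂ hcomm hint).symm w).2 := rfl

theorem liftLeft_of_mem_left (W₁ W₂ : Subgroup G) (hcomm : ∀ a ∈ W₁, ∀ b ∈ W₂, a * b = b * a)
    (hint : W₁ ⊓ W₂ = ⊥) (lam : W₁ →* ℂˣ) (w : ↥(W₁ ⊔ W₂)) (hw : (w : G) ∈ W₁) :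
    liftLeft W₁ W₂ hcomm hint lam w = lam ⟨w, hw⟩ := by
  rw [liftLeft_apply, prodEquivSup_symm_of_mem_left W₁ W₂ hcomm hint w hw]

theorem liftLeft_of_mem_right (W₁ W₂ : Subgroup G) (hcomm : ∀ a ∈ W₁, ∀ b ∈ W₂, a * b = b * a)
    (hint : W₁ ⊓ W₂ = ⊥) (lam : W₁ →* ℂˣ) (w : ↥(W₁ ⊔ W₂)) (hw : (w : G) ∈ W₂) :
    liftLeft W₁ W₂ hcomm hint lam w = 1 := by
  rw [liftLeft_apply, prodEquivSup_symm_of_mem_right W₁ W₂ hcomm hint w hw, map_one]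

theorem liftRight_of_mem_right (W₁ W₂ : Subgroup G) (hcomm : ∀ a ∈ W₁, ∀ b ∈ W₂, a * b = b * a)
    (hint : W₁ ⊓ W₂ = ⊥) (mu : W₂ →* ℂˣ) (w : ↥(W₁ ⊔ W₂)) (hw : (w : G) ∈ W₂) :
    liftRight W₁ W₂ hcomm hint mu w = mu ⟨w, hw⟩ := by
  rw [liftRight_apply, prodEquivSup_symm_of_mem_right W₁ W₂ hcomm hint w hw]

theorem liftRight_of_mem_left (W₁ W₂ : Subgroup G) (hcomm : ∀ a ∈ W₁, ∀ b ∈ W₂, a * b = b * a)
    (hint : W₁ ⊓ W₂ = ⊥) (mu : W₂ →* ℂˣ) (w : ↥(W₁ ⊔ W₂)) (hw : (w : G) ∈ W₁) :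
    liftRight W₁ W₂ hcomm hint mu w = 1 := by
  rw [liftRight_apply, prodEquivSup_symm_of_mem_left W₁ W₂ hcomm hint w hw, map_one]

theorem liftLeft_one (W₁ W₂ : Subgroup G) (hcomm : ∀ a ∈ W₁, ∀ b ∈ W₂, a * b = b * a)
    (hint : W₁ ⊓ W₂ = ⊥) : liftLeft W₁ W₂ hcomm hint 1 = 1 := by
  ext w
  rw [liftLeft_apply]
  rfl

theorem liftRight_one (W₁ W₂ : Subgroup G) (hcomm : ∀ a ∈ W₁, ∀ b ∈ W₂, a * b = b * a)
    (hint : W₁ ⊓ W₂ = ⊥) : liftRight W₁ W₂ hcomm hint 1 = 1 := by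
  ext w
  rw [liftRight_apply]
  rfl

/-- the restrictions of a linear character to the two factors -/
def resLeft (W₁ W₂ : Subgroup G) (ω : ↥(W₁ ⊔ W₂) →* ℂˣ) : W₁ →* ℂˣ :=
  ω.comp (Subgroup.inclusion le_sup_left)

def resRight (W₁ W₂ : Subgroup G) (ω : ↥(W₁ ⊔ W₂) →* ℂˣ) : W₂ →* ℂˣ :=
  ω.comp (Subgroup.inclusion le_sup_right)

theorem lift_res (W₁ W₂ : Subgroup G) (hcomm : ∀ a ∈ W₁, ∀ b ∈ W₂, a * b = b * a)
    (hint : W₁ ⊓ W₂ = ⊥) (ω : ↥(W₁ ⊔ W₂) →* ℂˣ) :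
    liftLeft W₁ W₂ hcomm hint (resLeft W₁ W₂ ω) * liftRight W₁ W₂ hcomm hint (resRight W₁ W₂ ω) =
      ω := by
  ext w
  obtain ⟨x, rfl⟩ := (prodEquivSup W₁ W₂ hcomm hint).surjective w
  rw [MonoidHom.mul_apply, liftLeft_apply, liftRight_apply, MulEquiv.symm_apply_apply]
  show ((ω (Subgroup.inclusion le_sup_left x.1) * ω (Subgroup.inclusion le_sup_right x.2) : ℂˣ) : ℂ)
    = _
  rw [← map_mul]
  congr 2

theorem res_lift_left (W₁ W₂ : Subgroup G) (hcomm : ∀ a ∈ W₁, ∀ b ∈ W₂, a * b = b * a)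
    (hint : W₁ ⊓ W₂ = ⊥) (lam : W₁ →* ℂˣ) (mu : W₂ →* ℂˣ) :
    resLeft W₁ W₂ (liftLeft W₁ W₂ hcomm hint lam * liftRight W₁ W₂ hcomm hint mu) = lam := by
  ext a
  show ((liftLeft W₁ W₂ hcomm hint lam * liftRight W₁ W₂ hcomm hint mu)
    (Subgroup.inclusion le_sup_left a) : ℂ) = _
  rw [MonoidHom.mul_apply, liftLeft_of_mem_left W₁ W₂ hcomm hint lam _ a.2,
    liftRight_of_mem_left W₁ W₂ hcomm hint mu _ a.2, mul_one]
  rfl

theorem res_lift_right (W₁ W₂ : Subgroup G) (hcomm : ∀ a ∈ W₁, ∀ b ∈ W₂, a * b = b * a)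
    (hint : W₁ ⊓ W₂ = ⊥) (lam : W₁ →* ℂˣ) (mu : W₂ →* ℂˣ) :
    resRight W₁ W₂ (liftLeft W₁ W₂ hcomm hint lam * liftRight W₁ W₂ hcomm hint mu) = mu := by
  ext b
  show ((liftLeft W₁ W₂ hcomm hint lam * liftRight W₁ W₂ hcomm hint mu)
    (Subgroup.inclusion le_sup_right b) : ℂ) = _
  rw [MonoidHom.mul_apply, liftLeft_of_mem_right W₁ W₂ hcomm hint lam _ b.2,
    liftRight_of_mem_right W₁ W₂ hcomm hint mu _ b.2, one_mul]
  rfl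

/-- linear characters of the product correspond to pairs of linear characters -/
noncomputable def charProdEquiv (W₁ W₂ : Subgroup G)
    (hcomm : ∀ a ∈ W₁, ∀ b ∈ W₂, a * b = b * a) (hint : W₁ ⊓ W₂ = ⊥) :
    (W₁ →* ℂˣ) × (W₂ →* ℂˣ) ≃ (↥(W₁ ⊔ W₂) →* ℂˣ) where
  toFun x := liftLeft W₁ W₂ hcomm hint x.1 * liftRight W₁ W₂ hcomm hint x.2
  invFun ω := (resLeft W₁ W₂ ω, resRight W₁ W₂ ω)
  left_inv x := Prod.ext (res_lift_left W₁ W₂ hcomm hint x.1 x.2)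
    (res_lift_right W₁ W₂ hcomm hint x.1 x.2)
  right_inv ω := lift_res W₁ W₂ hcomm hint ω

/-- a finite commutative group has as many linear characters as elements -/
theorem card_hom_units_of_comm {A : Type u} [Group A] [Finite A]
    (h : ∀ a b : A, a * b = b * a) : Nat.card (A →* ℂˣ) = Nat.card A := by
  rw [card_hom_units]
  have : commutator A = ⊥ := by
    rw [commutator_def, Subgroup.commutator_eq_bot_iff_le_centralizer]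
    intro a _
    rw [Subgroup.mem_centralizer_iff]
    intro b _
    exact h b a
  rw [this, Subgroup.index_bot]

end Cfsg.Agent.Helper6
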