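import Mathlib

/-!
# A combinatorial lemma on integer vectors with flat autocorrelation (for S4454)
-/

set_option autoImplicit false
set_option linter.style.haveILetI false

namespace Cfsg.Agent.Helper6

/-- An integer vector on a finite group whose autocorrelation is `c` off the identity and `c + 1`
at the identity has sum `e` with `|Λ|` dividing `e - 1` or `e + 1`. -/
theorem dvd_of_flat_autocorrelation {Λ : Type*} [Group Λ] [Fintype Λ] (a : Λ → ℤ) (e c : ℤ)
    (hsum : ∑ ν, a ν = e)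
    (h1 : ∑ ν, a ν * a ν = c + 1)
    (hσ : ∀ σ : Λ, σ ≠ 1 → ∑ ν, a ν * a (ν * σ) = c) :
    (Fintype.card Λ : ℤ) ∣ e - 1 ∨ (Fintype.card Λ : ℤ) ∣ e + 1 := by
  classical
  set m : ℤ := (Fintype.card Λ : ℤ) with hm
  -- e² = m c + 1
  have he2 : e * e = m * c + 1 := by
    have h2 : e * e = ∑ σ : Λ, ∑ ν : Λ, a ν * a (ν * σ) := by
      rw [Finset.sum_comm, ← hsum, Finset.sum_mul_sum]
      apply Finset.sum_congr rfl
      intro ν _
      exact (Fintype.sum_equiv (Equiv.mulLeft ν) (fun σ => a ν * a (ν * σ))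
        (fun τ => a ν * a τ) (fun σ => rfl)).symm
    rw [h2, ← Finset.add_sum_erase Finset.univ _ (Finset.mem_univ (1 : Λ))]
    have h3 : ∑ ν : Λ, a ν * a (ν * 1) = c + 1 := by
      simp only [mul_one]
      exact h1
    have h4 : ∑ σ ∈ Finset.univ.erase (1 : Λ), ∑ ν : Λ, a ν * a (ν * σ) =
        ∑ σ ∈ Finset.univ.erase (1 : Λ), c := by
      apply Finset.sum_congr rfl
      intro σ hσ'
      exact hσ σ (Finset.ne_of_mem_erase hσ')
    rw [h3, h4, Finset.sum_const, Finset.card_erase_of_mem (Finset.mem_univ _), Finset.card_univ,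
      nsmul_eq_mul]
    have hpos : 1 ≤ Fintype.card Λ := Fintype.card_pos
    rw [Nat.cast_sub hpos, hm]
    push_cast
    ring
  -- pairwise differences are small
  have hpair : ∀ ρ τ : Λ, (a ρ - a τ) * (a ρ - a τ) ≤ 2 := by
    intro ρ τ
    by_cases hρτ : ρ = τ
    · rw [hρτ, sub_self, mul_zero]
      norm_num
    · have hσ1 : ρ⁻¹ * τ ≠ 1 := by
        intro h
        apply hρτ
        rw [inv_mul_eq_one] at h
        exact h
      have hs := hσ _ hσ1
      have hshift : ∑ ν : Λ, a (ν * (ρ⁻¹ * τ)) * a (ν * (ρ⁻¹ * τ)) = c + 1 := by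
        rw [← h1]
        exact Fintype.sum_equiv (Equiv.mulRight (ρ⁻¹ * τ)) _ (fun ν => a ν * a ν) (fun ν => rfl)
      have htot : ∑ ν : Λ, (a ν - a (ν * (ρ⁻¹ * τ))) * (a ν - a (ν * (ρ⁻¹ * τ))) = 2 := by
        have : ∀ ν : Λ, (a ν - a (ν * (ρ⁻¹ * τ))) * (a ν - a (ν * (ρ⁻¹ * τ))) =
            a ν * a ν + a (ν * (ρ⁻¹ * τ)) * a (ν * (ρ⁻¹ * τ)) - 2 * (a ν * a (ν * (ρ⁻¹ * τ))) := by
          intro ν
          ring
        simp_rw [this]
        rw [Finset.sum_sub_distrib, Finset.sum_add_distrib, ← Finset.mul_sum, h1, hshift, hs]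
        ring
      have hle := Finset.single_le_sum (f := fun ν : Λ =>
        (a ν - a (ν * (ρ⁻¹ * τ))) * (a ν - a (ν * (ρ⁻¹ * τ))))
        (fun ν _ => mul_self_nonneg _) (Finset.mem_univ ρ)
      beta_reduce at hle
      rw [htot, mul_inv_cancel_left] at hle
      exact hle
  -- the minimum
  obtain ⟨ρ₀, -, hmin⟩ := Finset.exists_min_image Finset.univ a ⟨1, Finset.mem_univ _⟩
  set t := a ρ₀ with ht
  have hb : ∀ ν : Λ, a ν - t = 0 ∨ a ν - t = 1 := by
    intro ν
    have h0 : 0 ≤ a ν - t := sub_nonneg.mpr (hmin ν (Finset.mem_univ _))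
    have h2 := hpair ν ρ₀
    rw [← ht] at h2
    have h3 : a ν - t ≤ 1 := by
      by_contra hgt
      push Not at hgt
      have : 2 ≤ a ν - t := hgt
      nlinarith
    omega
  set k : ℤ := ∑ ν : Λ, (a ν - t) with hk
  have hbsq : ∀ ν : Λ, (a ν - t) * (a ν - t) = a ν - t := by
    intro ν
    rcases hb ν with h | h <;> rw [h] <;> norm_num
  have hsum' : m * t + k = e := by
    rw [hk, Finset.sum_sub_distrib, hsum, Finset.sum_const, Finset.card_univ, nsmul_eq_mul, hm]
    ring
  have hsq' : m * (t * t) + 2 * t * k + k = c + 1 := by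
    rw [← h1]
    have : ∀ ν : Λ, a ν * a ν = t * t + 2 * t * (a ν - t) + (a ν - t) := by
      intro ν
      have := hbsq ν
      linear_combination this
    have e1 : ∑ ν : Λ, 2 * t * (a ν - t) = 2 * t * k := by rw [hk, Finset.mul_sum]
    rw [Finset.sum_congr rfl (fun ν _ => this ν), Finset.sum_add_distrib, Finset.sum_add_distrib,
      e1, ← hk, Finset.sum_const, Finset.card_univ, nsmul_eq_mul, hm]
  have hkey : (k - 1) * (k - (m - 1)) = 0 := by
    have h5 : (m * t + k) * (m * t + k) = m * c + 1 := by rw [hsum']; exact he2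
    have h6 : c = m * (t * t) + 2 * t * k + k - 1 := by linarith
    rw [h6] at h5
    linear_combination h5
  rcases mul_eq_zero.mp hkey with h | h
  · left
    refine ⟨t, ?_⟩
    have : k = 1 := by linarith
    rw [← hsum', this]
    ring
  · right
    refine ⟨t + 1, ?_⟩
    have : k = m - 1 := by linarith
    rw [← hsum', this]
    ring

end Cfsg.Agent.Helper6
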