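import Mathlib
import Cfsg.Prelude.Def_Characters
import Cfsg.Agent.Helper6.GaloisChar

/-!
# First-power AM-GM for character values
-/

set_option autoImplicit false
set_option linter.style.haveILetI false

namespace Cfsg.Agent.Helper6

open Module Representation

universe u v

variable {G : Type u} [Group G] [Finite G] {V : Type v} [AddCommGroup V] [Module ℂ V]
  [FiniteDimensional ℂ V]

/-- `φ(n) ≤ ∑_k |χ(g^k)|` when `χ(g) ≠ 0`. -/
theorem sum_norm_char_pow_ge (ρ : Representation ℂ G V) (g : G) (n : ℕ) [NeZero n]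
    (hn : g ^ n = 1) (hne : ρ.character g ≠ 0) :
    (Fintype.card (ZMod n)ˣ : ℝ) ≤ ∑ k : (ZMod n)ˣ, ‖ρ.character (g ^ (k : ZMod n).val)‖ := by
  classical
  obtain ⟨⟨m, hm⟩, hnz, -, -⟩ := char_galois_facts ρ g n hn
  have hnz' := hnz hne
  set s : (ZMod n)ˣ → ℂ := fun k => ρ.character (g ^ (k : ZMod n).val) with hs
  have hm0 : m ≠ 0 := by
    intro h0
    rw [h0, Int.cast_zero] at hm
    obtain ⟨k, _, hk⟩ := Finset.prod_eq_zero_iff.mp hm
    exact hnz' k hk
  have hprod : (1 : ℝ) ≤ ∏ k : (ZMod n)ˣ, ‖s k‖ := by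
    rw [← norm_prod]
    change 1 ≤ ‖∏ k : (ZMod n)ˣ, ρ.character (g ^ (k : ZMod n).val)‖
    rw [hm, Complex.norm_intCast]
    have : (1 : ℤ) ≤ |m| := Int.one_le_abs hm0
    exact_mod_cast this
  have hpos : ∀ k : (ZMod n)ˣ, 0 < ‖s k‖ := fun k => norm_pos_iff.mpr (hnz' k)
  have hlog : 0 ≤ ∑ k : (ZMod n)ˣ, Real.log (‖s k‖) := by
    rw [← Real.log_prod (fun k _ => (hpos k).ne')]
    exact Real.log_nonneg hprod
  have hle : ∑ k : (ZMod n)ˣ, Real.log (‖s k‖) ≤ ∑ k : (ZMod n)ˣ, (‖s k‖ - 1) :=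
    Finset.sum_le_sum (fun k _ => Real.log_le_sub_one_of_pos (hpos k))
  rw [Finset.sum_sub_distrib, Finset.sum_const, Finset.card_univ, nsmul_eq_mul, mul_one] at hle
  linarith

/-- First-power AM-GM: on a set closed under coprime powers, the sum of `|χ(g)|` is at least the
number of non-zeros. -/
theorem burnside_amgm_first (ρ : Representation ℂ G V) (S : Finset G)
    (hS : ∀ g ∈ S, ∀ m : ℕ, m.Coprime (Nat.card G) → g ^ m ∈ S) [DecidableEq G] :
    ((S.filter (fun g => ρ.character g ≠ 0)).card : ℝ) ≤ ∑ g ∈ S, ‖ρ.character g‖ := by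
  classical
  haveI : NeZero (Nat.card G) := ⟨Nat.card_pos.ne'⟩
  set n := Nat.card G with hn
  set S' := S.filter (fun g => ρ.character g ≠ 0) with hS'
  set φn : ℝ := (Fintype.card (ZMod n)ˣ : ℝ) with hφn
  have hφpos : 0 < φn := by
    have : 0 < Fintype.card (ZMod n)ˣ := Fintype.card_pos
    rw [hφn]
    exact_mod_cast this
  have hperm : ∀ k : (ZMod n)ˣ, ∑ g ∈ S', ‖ρ.character (g ^ (k : ZMod n).val)‖ =
      ∑ g ∈ S', ‖ρ.character g‖ := by
    intro k
    have hcop : Nat.Coprime (k : ZMod n).val n := ZMod.val_coe_unit_coprime k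
    have hinj : Function.Injective (fun g : G => g ^ (k : ZMod n).val) :=
      (powCoprime hcop.symm).injective
    have himg : S'.image (fun g : G => g ^ (k : ZMod n).val) = S' := by
      apply Finset.eq_of_subset_of_card_le
      · intro h hh
        obtain ⟨g, hg, rfl⟩ := Finset.mem_image.mp hh
        rw [hS', Finset.mem_filter] at hg ⊢
        exact ⟨hS g hg.1 _ hcop, char_pow_ne_zero_of_coprime ρ g _ hcop hg.2⟩
      · rw [Finset.card_image_of_injective _ hinj]
    conv_rhs => rw [← himg]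
    rw [Finset.sum_image (fun a _ b _ hab => hinj hab)]
  have h1 : φn * (S'.card : ℝ) ≤ ∑ g ∈ S', ∑ k : (ZMod n)ˣ,
      ‖ρ.character (g ^ (k : ZMod n).val)‖ := by
    rw [mul_comm, ← nsmul_eq_mul, ← Finset.sum_const]
    apply Finset.sum_le_sum
    intro g hg
    rw [hS', Finset.mem_filter] at hg
    exact sum_norm_char_pow_ge ρ g n (pow_card_eq_one') hg.2
  rw [Finset.sum_comm] at h1
  simp_rw [hperm] at h1
  rw [Finset.sum_const, Finset.card_univ, nsmul_eq_mul] at h1
  have h2 : (S'.card : ℝ) ≤ ∑ g ∈ S', ‖ρ.character g‖ :=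
    le_of_mul_le_mul_left h1 hφpos
  refine h2.trans ?_
  apply Finset.sum_le_sum_of_subset_of_nonneg (Finset.filter_subset _ _)
  intro g _ _
  positivity

end Cfsg.Agent.Helper6
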