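import Mathlib
import Cfsg.Prelude.Def_Characters
import Cfsg.Agent.Helper6.GaloisChar2
import Cfsg.Agent.Helper6.VanishOff
import Cfsg.Agent.Helper6.Induced
import Cfsg.Agent.Helper6.IrrCrit
import Cfsg.Agent.Helper6.NormalInd
import Cfsg.Agent.Helper6.Linear
import Cfsg.Agent.Helper6.IrrDegree

/-!
# Averaging class functions over cosets of a normal subgroup
-/

set_option autoImplicit false
set_option linter.style.haveILetI false

namespace Cfsg.Agent.Helper6

open Module Representation ComplexConjugate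

universe u v

variable {G : Type u} [Group G]

/-- average over cosets of `N` -/
noncomputable def cosetAvg (N : Subgroup G) [Fintype N] (f : G → ℂ) : G → ℂ :=
  fun g => (Nat.card N : ℂ)⁻¹ * ∑ n : N, f (g * n)

theorem cosetAvg_isClassFunction (N : Subgroup G) [hN : N.Normal] [Fintype N] {f : G → ℂ}
    (hf : Cfsg.IsClassFunction G f) : Cfsg.IsClassFunction G (cosetAvg N f) := by
  intro g h
  unfold cosetAvg
  congr 1
  apply Fintype.sum_equiv (MulAut.conjNormal h⁻¹ : N ≃* N).toEquiv
  intro n
  rw [← hf (g * _) h]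
  congr 1
  simp only [MulEquiv.toEquiv_eq_coe, EquivLike.coe_coe, MulAut.conjNormal_apply]
  group

theorem classInner_cosetAvg [Fintype G] (N : Subgroup G) [Fintype N] (f ξ : G → ℂ) :
    Cfsg.classInner (cosetAvg N f) ξ = Cfsg.classInner f (cosetAvg N ξ) := by
  unfold Cfsg.classInner cosetAvg
  congr 1
  simp only [map_mul, map_inv₀, map_natCast, map_sum]
  have h1 : ∀ g : G, ((Nat.card N : ℂ)⁻¹ * ∑ n : N, f (g * n)) * conj (ξ g) =
      (Nat.card N : ℂ)⁻¹ * ∑ n : N, f (g * n) * conj (ξ g) := by
    intro g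
    rw [mul_assoc, Finset.sum_mul]
  have h2 : ∀ g : G, f g * ((Nat.card N : ℂ)⁻¹ * ∑ n : N, conj (ξ (g * n))) =
      (Nat.card N : ℂ)⁻¹ * ∑ n : N, f g * conj (ξ (g * n)) := by
    intro g
    rw [Finset.mul_sum, Finset.mul_sum, Finset.mul_sum]
    apply Finset.sum_congr rfl
    intro n _
    ring
  simp only [h1, h2]
  rw [← Finset.mul_sum, ← Finset.mul_sum]
  congr 1
  rw [Finset.sum_comm]
  conv_rhs => rw [Finset.sum_comm]
  apply Fintype.sum_equiv (Equiv.inv N)
  intro n
  apply Fintype.sum_equiv (Equiv.mulRight (n : G))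
  intro g
  simp [mul_assoc]

theorem cosetAvg_irr [Finite G] {V : Type v} [AddCommGroup V] [Module ℂ V]
    [FiniteDimensional ℂ V] (ρ : Representation ℂ G V) [hirr : ρ.IsIrreducible] (N : Subgroup G)
    [hN : N.Normal] [Fintype N] :
    cosetAvg N ρ.character = ρ.character ∨ cosetAvg N ρ.character = 0 := by
  by_cases hker : ∃ h ∈ N, ρ h ≠ LinearMap.id
  · right
    ext g
    unfold cosetAvg
    rw [sum_coset_char_eq_zero ρ N hker g, mul_zero]
    rfl
  · left
    push Not at hker
    ext g
    unfold cosetAvg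
    have : ∀ n : N, ρ.character (g * n) = ρ.character g := by
      intro n
      unfold Representation.character
      rw [map_mul, hker n n.2]
      rfl
    simp only [this, Finset.sum_const, Finset.card_univ, nsmul_eq_mul]
    rw [← Nat.card_eq_fintype_card, ← mul_assoc, inv_mul_cancel₀, one_mul]
    have : 0 < Nat.card N := Nat.card_pos
    exact_mod_cast this.ne'

theorem cosetAvg_isCharacter [Finite G] (N : Subgroup G) [hN : N.Normal] [Fintype N] {f : G → ℂ}
    (hf : Cfsg.IsCharacter G f) : Cfsg.IsCharacter G (cosetAvg N f) := by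
  classical
  haveI := Fintype.ofFinite G
  apply isCharacter_of_classInner_nat (cosetAvg_isClassFunction N (IsCharacter.isClassFunction hf))
  intro ξ hξ
  rw [classInner_cosetAvg]
  obtain ⟨m, ρ, hirr, rfl⟩ := id hξ
  rcases cosetAvg_irr ρ N with h | h
  · rw [h]
    exact classInner_char_char_nat hf (IsIrrCharacter.isCharacter hξ)
  · rw [h]
    exact ⟨0, by rw [classInner_zero_right, Nat.cast_zero]⟩


/-- real form of the averaged squared norm -/
theorem cosetAvg_normSq (N : Subgroup G) [Fintype N] (χ : G → ℂ) (g : G) :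
    cosetAvg N (χ * fun g => conj (χ g)) g =
      (((Nat.card N : ℝ)⁻¹ * ∑ n : N, ‖χ (g * n)‖ ^ 2 : ℝ) : ℂ) := by
  unfold cosetAvg
  push_cast
  congr 1
  apply Finset.sum_congr rfl
  intro n _
  simp only [Pi.mul_apply]
  rw [Complex.mul_conj, Complex.normSq_eq_norm_sq]
  push_cast
  rfl

theorem restriction_reducible_iff_vanishes_coset [Finite G] (N : Subgroup G) [hN : N.Normal]
    {χ : G → ℂ} (hχ : Cfsg.IsIrrCharacter G χ) :
    ¬ Cfsg.IsIrrCharacter ↥N (fun n : ↥N => χ n) ↔ ∃ x : G, ∀ n : ↥N, χ ((n : G) * x) = 0 := by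
  classical
  haveI := Fintype.ofFinite G
  haveI : Fintype N := Fintype.ofFinite N
  set f : G → ℂ := χ * fun g => conj (χ g) with hf
  have hfchar : Cfsg.IsCharacter G f :=
    IsCharacter.mul (IsIrrCharacter.isCharacter hχ) (IsIrrCharacter.isCharacter (conj_isIrr hχ))
  set ψ : G → ℂ := cosetAvg N f with hψ
  have hψchar : Cfsg.IsCharacter G ψ := cosetAvg_isCharacter N hfchar
  set r : G → ℝ := fun g => (Nat.card N : ℝ)⁻¹ * ∑ n : N, ‖χ (g * n)‖ ^ 2 with hr
  have hψr : ∀ g, ψ g = (r g : ℂ) := fun g => cosetAvg_normSq N χ g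
  have hN0 : (0 : ℝ) < (Nat.card N : ℝ) := by
    have : 0 < Nat.card N := Nat.card_pos
    exact_mod_cast this
  have hr0 : ∀ g, 0 ≤ r g := by
    intro g
    simp only [hr]
    positivity
  -- total sum
  have hsum : ∑ g : G, r g = (Nat.card G : ℝ) := by
    simp only [hr]
    rw [← Finset.mul_sum, Finset.sum_comm]
    have : ∀ n : N, ∑ g : G, ‖χ (g * n)‖ ^ 2 = (Nat.card G : ℝ) := by
      intro n
      rw [← sum_norm_sq_irr hχ]
      exact Fintype.sum_equiv (Equiv.mulRight (n : G)) _ _ (fun g => rfl)
    simp only [this, Finset.sum_const, Finset.card_univ, nsmul_eq_mul]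
    rw [← Nat.card_eq_fintype_card, ← mul_assoc, inv_mul_cancel₀ hN0.ne', one_mul]
  -- value at one
  have hr1 : Cfsg.classInner (fun n : N => χ n) (fun n : N => χ n) = (r 1 : ℂ) := by
    rw [classInner_self_eq]
    simp only [hr, one_mul]
    push_cast
    rfl
  -- vanishing on a coset
  have hvan : ∀ x : G, (∀ n : N, χ ((n : G) * x) = 0) ↔ r x = 0 := by
    intro x
    constructor
    · intro h
      simp only [hr]
      have : ∀ n : N, ‖χ (x * n)‖ ^ 2 = 0 := by
        intro n
        have hmem : x * n * x⁻¹ ∈ N := hN.conj_mem n n.2 x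
        have := h ⟨_, hmem⟩
        simp only [inv_mul_cancel_right] at this
        rw [this, norm_zero]
        norm_num
      simp [this]
    · intro h n
      simp only [hr] at h
      have h2 : ∑ n : N, ‖χ (x * n)‖ ^ 2 = 0 := by
        rcases mul_eq_zero.mp h with h | h
        · exact absurd (inv_eq_zero.mp h) hN0.ne'
        · exact h
      have h3 := (Finset.sum_eq_zero_iff_of_nonneg (fun n _ => by positivity)).mp h2
      have hmem : x⁻¹ * n * x⁻¹⁻¹ ∈ N := hN.conj_mem n n.2 x⁻¹
      have := h3 ⟨_, hmem⟩ (Finset.mem_univ _)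
      simp only [inv_inv] at this
      have h4 : x * (x⁻¹ * n * x) = n * x := by group
      rw [h4] at this
      simpa using this
  have hresχ : Cfsg.IsCharacter N (fun n : N => χ n) :=
    IsCharacter.restrict N (IsIrrCharacter.isCharacter hχ)
  constructor
  · intro hnot
    by_contra hcon
    push Not at hcon
    have hpos : ∀ x, r x ≠ 0 := by
      intro x hx
      obtain ⟨n, hn⟩ := hcon x
      exact hn ((hvan x).mpr hx n)
    obtain ⟨k, hk⟩ := classInner_char_char_nat hresχ hresχ
    have hk1 : k ≠ 1 := by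
      intro h1
      apply hnot
      apply isIrrCharacter_of_classInner_self hresχ
      rw [hk, h1, Nat.cast_one]
    have hk0 : k ≠ 0 := by
      intro h0
      rw [h0, Nat.cast_zero] at hk
      have := classInner_self_eq_zero hk
      have h1 := congrFun this (1 : N)
      exact IsIrrCharacter.apply_one_ne_zero hχ h1
    have hk2 : (2 : ℝ) ≤ r 1 := by
      rw [hr1] at hk
      have : r 1 = (k : ℝ) := by exact_mod_cast hk
      rw [this]
      have : 2 ≤ k := by omega
      exact_mod_cast this
    obtain ⟨m, ρ, hρ⟩ := hψchar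
    have hS : ∀ g ∈ (Finset.univ.erase (1 : G)), ∀ m : ℕ, m.Coprime (Nat.card G) →
        g ^ m ∈ (Finset.univ.erase (1 : G)) := by
      intro g hg m hm
      rw [Finset.mem_erase] at hg ⊢
      refine ⟨?_, Finset.mem_univ _⟩
      have := pow_coprime_not_mem (⊥ : Subgroup G) g (by simpa using hg.1) m hm
      simpa using this
    have hB := burnside_amgm_first ρ (Finset.univ.erase (1 : G)) hS
    rw [hρ] at hB
    have hfilt : (Finset.univ.erase (1 : G)).filter (fun g => ψ g ≠ 0) =
        Finset.univ.erase (1 : G) := by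
      apply Finset.filter_true_of_mem
      intro g _
      rw [hψr]
      exact_mod_cast hpos g
    rw [hfilt] at hB
    have hnorm : ∀ g, ‖ψ g‖ = r g := by
      intro g
      rw [hψr, Complex.norm_real, Real.norm_of_nonneg (hr0 g)]
    simp only [hnorm] at hB
    rw [Finset.card_erase_of_mem (Finset.mem_univ _), Finset.card_univ,
      ← Nat.card_eq_fintype_card] at hB
    have hsplit : ∑ g ∈ Finset.univ.erase (1 : G), r g = (Nat.card G : ℝ) - r 1 := by
      rw [← hsum, ← Finset.add_sum_erase _ _ (Finset.mem_univ (1 : G))]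
      ring
    rw [hsplit] at hB
    have hG1 : 1 ≤ Nat.card G := Nat.card_pos
    rw [Nat.cast_sub hG1] at hB
    push_cast at hB
    linarith
  · rintro ⟨x, hx⟩ hirr
    have hrx : r x = 0 := (hvan x).mp hx
    have h1 : r 1 = 1 := by
      have := classInner_irr_self hirr
      rw [hr1] at this
      exact_mod_cast this
    obtain ⟨m, ρ, hρ⟩ := id hψchar
    have hm : m = 1 := by
      have : ρ.character 1 = (finrank ℂ (Fin m → ℂ) : ℂ) := Representation.char_one ρ
      rw [hρ, hψr, h1] at this
      simp at this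
      exact_mod_cast this.symm
    subst hm
    have hirrψ : Cfsg.IsIrrCharacter G ψ :=
      ⟨1, ρ, isIrreducible_of_finrank_eq_one ρ (by simp), hρ⟩
    obtain ⟨lam, hlam⟩ := exists_hom_of_irr_degree_one hirrψ (by rw [hψr, h1]; simp)
    have h2 := congrFun hlam x
    rw [hψr, hrx] at h2
    simp only [Complex.ofReal_zero] at h2
    exact (Units.ne_zero (lam x)) h2.symm

end Cfsg.Agent.Helper6
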