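import Mathlib
import Cfsg.Prelude.Def_Characters
import Cfsg.Prelude.Def_Blocks
import Cfsg.Agent.Helper6.Codegree
import Cfsg.Agent.Helper6.CosetAvg
import Cfsg.Agent.Helper6.Constituent
import Cfsg.Agent.Helper6.Degrees
import Cfsg.Agent.Helper6.OddReal

/-!
# Gallagher's theorem
-/

set_option autoImplicit false
set_option linter.style.haveILetI false

namespace Cfsg.Agent.Helper6

open Module Representation ComplexConjugate

universe u v

variable {G : Type u} [Group G]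

/-- Sum over a coset of a normal subgroup of an irreducible character. -/
theorem sum_coset_irr [Finite G] (N : Subgroup G) [hN : N.Normal] [Fintype N] {χ : G → ℂ}
    (hχ : Cfsg.IsIrrCharacter G χ) [Decidable (∀ n ∈ N, χ n = χ 1)] (g : G) :
    ∑ n : N, χ (g * n) = if (∀ n ∈ N, χ n = χ 1) then (Nat.card N : ℂ) * χ g else 0 := by
  obtain ⟨m, ρ, hirr, rfl⟩ := hχ
  split_ifs with h
  · have : ∀ n : N, ρ.character (g * n) = ρ.character g := by
      intro n
      have h1 := h n n.2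
      rw [Representation.char_one, char_eq_finrank_iff] at h1
      unfold Representation.character
      rw [map_mul, h1]
      rfl
    simp only [this, Finset.sum_const, Finset.card_univ, nsmul_eq_mul]
    rw [Nat.card_eq_fintype_card]
  · push Not at h
    obtain ⟨n, hn, hne⟩ := h
    have hker : ∃ h ∈ N, ρ h ≠ LinearMap.id := by
      refine ⟨n, hn, ?_⟩
      intro hid
      apply hne
      rw [Representation.char_one]
      exact (char_eq_finrank_iff ρ n).mpr hid
    exact sum_coset_char_eq_zero ρ N hker g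

/-- The inflated regular character of `G / N`. -/
theorem sum_degree_mul_irr_of_le_ker [Finite G] [Fintype (Cfsg.IrrCharacter G)] (N : Subgroup G)
    [hN : N.Normal] [DecidablePred fun χ : Cfsg.IrrCharacter G => ∀ n ∈ N, (χ : G → ℂ) n =
      (χ : G → ℂ) 1] (g : G) [Decidable (g ∈ N)] :
    ∑ χ ∈ Finset.univ.filter (fun χ : Cfsg.IrrCharacter G => ∀ n ∈ N, (χ : G → ℂ) n =
      (χ : G → ℂ) 1), (χ : G → ℂ) 1 * (χ : G → ℂ) g = if g ∈ N then (N.index : ℂ) else 0 := by
  classical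
  haveI := Fintype.ofFinite G
  haveI : Fintype N := Fintype.ofFinite N
  have hN0 : (Nat.card N : ℂ) ≠ 0 := by
    have : 0 < Nat.card N := Nat.card_pos
    exact_mod_cast this.ne'
  have h1 : ∑ n : N, ∑ χ : Cfsg.IrrCharacter G, (χ : G → ℂ) 1 * (χ : G → ℂ) (g * n) =
      if g ∈ N then (Nat.card G : ℂ) else 0 := by
    simp only [sum_degree_mul_irr]
    split_ifs with hg
    · rw [Finset.sum_eq_single (⟨g⁻¹, N.inv_mem hg⟩ : N)]
      · simp
      · intro n _ hn
        rw [if_neg]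
        intro h
        apply hn
        apply Subtype.ext
        simp only
        exact (eq_inv_of_mul_eq_one_right h)
      · intro h
        exact absurd (Finset.mem_univ _) h
    · apply Finset.sum_eq_zero
      intro n _
      rw [if_neg]
      intro h
      apply hg
      have : g = (n : G)⁻¹ := eq_inv_of_mul_eq_one_left h
      rw [this]
      exact N.inv_mem n.2
  rw [Finset.sum_comm] at h1
  simp only [← Finset.mul_sum] at h1
  have h2 : ∀ χ : Cfsg.IrrCharacter G, (χ : G → ℂ) 1 * ∑ n : N, (χ : G → ℂ) (g * n) =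
      if (∀ n ∈ N, (χ : G → ℂ) n = (χ : G → ℂ) 1) then
        (Nat.card N : ℂ) * ((χ : G → ℂ) 1 * (χ : G → ℂ) g) else 0 := by
    intro χ
    rw [sum_coset_irr N χ.2 g]
    split_ifs
    · ring
    · rw [mul_zero]
  simp only [h2] at h1
  rw [← Finset.sum_filter, ← Finset.mul_sum] at h1
  split_ifs at h1 ⊢ with hg
  · apply mul_left_cancel₀ hN0
    rw [h1, ← Subgroup.card_mul_index N]
    push_cast
    rfl
  · rcases mul_eq_zero.mp h1 with h | h
    · exact absurd h hN0
    · exact h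


/-- Gallagher: if `χ` restricts irreducibly to `N` and `ξ` is irreducible with `N` in its kernel,
then `ξ χ` is irreducible. -/
theorem gallagher_irr [Finite G] (N : Subgroup G) [hN : N.Normal] {χ : G → ℂ}
    (hχ : Cfsg.IsIrrCharacter G χ) (hχN : Cfsg.IsIrrCharacter N (fun n : N => χ n))
    (ξ₀ : Cfsg.IrrCharacter G) (hξ₀ : ∀ n ∈ N, (ξ₀ : G → ℂ) n = (ξ₀ : G → ℂ) 1) :
    Cfsg.IsIrrCharacter G ((ξ₀ : G → ℂ) * χ) := by
  classical
  haveI := Fintype.ofFinite G
  haveI : Fintype N := Fintype.ofFinite N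
  haveI : Finite (Cfsg.IrrCharacter G) := irr_finite
  haveI : Fintype (Cfsg.IrrCharacter G) := Fintype.ofFinite _
  have hχc := IsIrrCharacter.isCharacter hχ
  set F : Finset (Cfsg.IrrCharacter G) := Finset.univ.filter
    (fun ξ : Cfsg.IrrCharacter G => ∀ n ∈ N, (ξ : G → ℂ) n = (ξ : G → ℂ) 1) with hF
  have hprodchar : ∀ ξ : Cfsg.IrrCharacter G, Cfsg.IsCharacter G ((ξ : G → ℂ) * χ) :=
    fun ξ => IsCharacter.mul (IsIrrCharacter.isCharacter ξ.2) hχc
  have haex : ∀ ξ ξ' : Cfsg.IrrCharacter G, ∃ a : ℕ,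
      Cfsg.classInner ((ξ : G → ℂ) * χ) ((ξ' : G → ℂ) * χ) = a :=
    fun ξ ξ' => classInner_char_char_nat (hprodchar ξ) (hprodchar ξ')
  choose a ha using haex
  have hdex : ∀ ξ : Cfsg.IrrCharacter G, 0 < Cfsg.charDegree (ξ : G → ℂ) ∧
      (ξ : G → ℂ) 1 = (Cfsg.charDegree (ξ : G → ℂ) : ℂ) := by
    intro ξ
    obtain ⟨K, -, -, h0, hd, -⟩ := exists_kernel_data ξ.2
    exact ⟨h0, hd⟩
  have ha1 : ∀ ξ : Cfsg.IrrCharacter G, 1 ≤ a ξ ξ := by
    intro ξ
    by_contra h0
    have h0' : a ξ ξ = 0 := by omega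
    have h1 := ha ξ ξ
    rw [h0', Nat.cast_zero] at h1
    have h2 := congrFun (classInner_self_eq_zero h1) 1
    simp only [Pi.mul_apply, Pi.zero_apply] at h2
    rcases mul_eq_zero.mp h2 with h3 | h3
    · exact IsIrrCharacter.apply_one_ne_zero ξ.2 h3
    · exact IsIrrCharacter.apply_one_ne_zero hχ h3
  -- the function R χ
  set Rχ : G → ℂ := ∑ ξ ∈ F, ((ξ : G → ℂ) 1) • ((ξ : G → ℂ) * χ) with hRχ
  have hRval : ∀ g : G, Rχ g = (if g ∈ N then (N.index : ℂ) else 0) * χ g := by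
    intro g
    rw [← sum_degree_mul_irr_of_le_ker N g, hRχ, Finset.sum_apply, Finset.sum_mul]
    apply Finset.sum_congr rfl
    intro ξ _
    simp only [Pi.smul_apply, Pi.mul_apply, smul_eq_mul]
    ring
  have hG0 : (Nat.card G : ℂ) ≠ 0 := by
    have : 0 < Nat.card G := Nat.card_pos
    exact_mod_cast this.ne'
  have hnorm : Cfsg.classInner Rχ Rχ = (N.index : ℂ) := by
    rw [classInner_self_eq]
    have h1 : ∑ g : G, ‖Rχ g‖ ^ 2 = (N.index : ℝ) ^ 2 * (Nat.card N : ℝ) := by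
      have h2 : ∀ g : G, ‖Rχ g‖ ^ 2 = if g ∈ N then (N.index : ℝ) ^ 2 * ‖χ g‖ ^ 2 else 0 := by
        intro g
        rw [hRval]
        split_ifs
        · rw [norm_mul, mul_pow, Complex.norm_natCast]
        · simp
      simp only [h2]
      rw [← Finset.sum_filter, ← Finset.mul_sum]
      congr 1
      rw [← sum_norm_sq_irr hχN]
      rw [Finset.sum_subtype (Finset.univ.filter (fun g : G => g ∈ N)) (p := fun g => g ∈ N)
        (by intro g; simp)]
    rw [h1, ← Subgroup.index_mul_card N]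
    push_cast
    have hN0 : (Nat.card N : ℂ) ≠ 0 := by
      have : 0 < Nat.card N := Nat.card_pos
      exact_mod_cast this.ne'
    have hi0 : (N.index : ℂ) ≠ 0 := by
      have : N.index ≠ 0 := Subgroup.index_ne_zero_of_finite
      exact_mod_cast this
    field_simp
  -- expand the norm
  have hexp : Cfsg.classInner Rχ Rχ = ((∑ ξ ∈ F, ∑ ξ' ∈ F,
      Cfsg.charDegree (ξ : G → ℂ) * Cfsg.charDegree (ξ' : G → ℂ) * a ξ ξ' : ℕ) : ℂ) := by
    rw [hRχ, classInner_sum_left]
    push_cast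
    apply Finset.sum_congr rfl
    intro ξ _
    rw [classInner_sum_right]
    apply Finset.sum_congr rfl
    intro ξ' _
    rw [classInner_smul_left, classInner_smul_right, ha, (hdex ξ).2, (hdex ξ').2,
      Complex.conj_natCast]
    ring
  rw [hnorm] at hexp
  have hsumsq := sum_sq_degrees_of_le_ker (G := G) N
  have hnat : ∑ ξ ∈ F, ∑ ξ' ∈ F,
      Cfsg.charDegree (ξ : G → ℂ) * Cfsg.charDegree (ξ' : G → ℂ) * a ξ ξ' =
      ∑ ξ ∈ F, Cfsg.charDegree (ξ : G → ℂ) ^ 2 := by
    rw [hsumsq]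
    exact_mod_cast hexp.symm
  -- rows
  have hrow : ∀ ξ ∈ F, Cfsg.charDegree (ξ : G → ℂ) ^ 2 * a ξ ξ ≤ ∑ ξ' ∈ F,
      Cfsg.charDegree (ξ : G → ℂ) * Cfsg.charDegree (ξ' : G → ℂ) * a ξ ξ' := by
    intro ξ hξ
    have := Finset.single_le_sum (f := fun ξ' : Cfsg.IrrCharacter G => Cfsg.charDegree (ξ : G → ℂ) *
      Cfsg.charDegree (ξ' : G → ℂ) * a ξ ξ') (fun _ _ => Nat.zero_le _) hξ
    rw [sq]
    exact this
  have hle : ∀ ξ ∈ F, Cfsg.charDegree (ξ : G → ℂ) ^ 2 ≤
      Cfsg.charDegree (ξ : G → ℂ) ^ 2 * a ξ ξ :=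
    fun ξ _ => Nat.le_mul_of_pos_right _ (ha1 ξ)
  have hle2 : ∑ ξ ∈ F, Cfsg.charDegree (ξ : G → ℂ) ^ 2 * a ξ ξ ≤
      ∑ ξ ∈ F, Cfsg.charDegree (ξ : G → ℂ) ^ 2 := by
    rw [← hnat]
    exact Finset.sum_le_sum hrow
  have heq := (Finset.sum_eq_sum_iff_of_le hle).mp (le_antisymm (Finset.sum_le_sum hle) hle2)
  have hξ₀F : ξ₀ ∈ F := by
    rw [hF, Finset.mem_filter]
    exact ⟨Finset.mem_univ _, hξ₀⟩
  have h1 := heq ξ₀ hξ₀F
  have hd0 : 0 < Cfsg.charDegree (ξ₀ : G → ℂ) ^ 2 := pow_pos (hdex ξ₀).1 2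
  have ha0 : a ξ₀ ξ₀ = 1 := by
    have : Cfsg.charDegree (ξ₀ : G → ℂ) ^ 2 * a ξ₀ ξ₀ = Cfsg.charDegree (ξ₀ : G → ℂ) ^ 2 * 1 := by
      rw [mul_one]; exact h1.symm
    exact Nat.eq_of_mul_eq_mul_left hd0 this
  apply isIrrCharacter_of_classInner_self (hprodchar ξ₀)
  rw [ha, ha0, Nat.cast_one]


/-- The coset average of an irreducible character, according to whether `N` lies in its kernel. -/
theorem cosetAvg_irr_eq [Finite G] (N : Subgroup G) [hN : N.Normal] [Fintype N] {ξ : G → ℂ}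
    (hξ : Cfsg.IsIrrCharacter G ξ) [Decidable (∀ n ∈ N, ξ n = ξ 1)] :
    cosetAvg N ξ = if (∀ n ∈ N, ξ n = ξ 1) then ξ else 0 := by
  have hN0 : (Nat.card N : ℂ) ≠ 0 := by
    have : 0 < Nat.card N := Nat.card_pos
    exact_mod_cast this.ne'
  ext g
  unfold cosetAvg
  rw [sum_coset_irr N hξ g]
  split_ifs
  · rw [← mul_assoc, inv_mul_cancel₀ hN0, one_mul]
  · simp

theorem gallagher_avg [Fintype G] (N : Subgroup G) [hN : N.Normal] [Fintype N] (χ : G → ℂ)
    (hχ : Cfsg.IsIrrCharacter G χ) (hχN : Cfsg.IsIrrCharacter N (fun n : N => χ n)) (ψ : G → ℂ)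
    (hψ : Cfsg.IsIrrCharacter G ψ) (η : G → ℂ)
    (hη : η = fun g => (Nat.card N : ℂ)⁻¹ * ∑ n : N, ψ ((n : G) * g) * conj (χ ((n : G) * g))) :
    (Cfsg.classInner (fun n : N => ψ n) (fun n : N => χ n) ≠ 0 → Cfsg.IsIrrCharacter G η) ∧
    (Cfsg.classInner (fun n : N => ψ n) (fun n : N => χ n) = 0 → η = 0) ∧
    (ψ = χ → η = fun _ => 1) := by
  classical
  have hχc := IsIrrCharacter.isCharacter hχ
  have hψc := IsIrrCharacter.isCharacter hψ
  set f : G → ℂ := ψ * fun g => conj (χ g) with hf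
  have hfchar : Cfsg.IsCharacter G f :=
    IsCharacter.mul hψc (IsIrrCharacter.isCharacter (conj_isIrr hχ))
  have hηavg : η = cosetAvg N f := by
    rw [hη]
    ext g
    unfold cosetAvg
    congr 1
    apply Fintype.sum_equiv (MulAut.conjNormal g⁻¹ : N ≃* N).toEquiv
    intro n
    have h1 : g * ((MulAut.conjNormal g⁻¹ : N ≃* N) n : G) = (n : G) * g := by
      rw [MulAut.conjNormal_apply]
      group
    simp only [MulEquiv.toEquiv_eq_coe, EquivLike.coe_coe, hf, Pi.mul_apply]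
    rw [h1]
  have hηchar : Cfsg.IsCharacter G η := by
    rw [hηavg]
    exact cosetAvg_isCharacter N hfchar
  have hcoef : ∀ ξ : G → ℂ, Cfsg.IsIrrCharacter G ξ → Cfsg.classInner η ξ =
      if (∀ n ∈ N, ξ n = ξ 1) then Cfsg.classInner ψ (ξ * χ) else 0 := by
    intro ξ hξ
    rw [hηavg, classInner_cosetAvg, cosetAvg_irr_eq N hξ]
    split_ifs
    · unfold Cfsg.classInner
      congr 1
      apply Finset.sum_congr rfl
      intro g _
      simp only [hf, Pi.mul_apply, map_mul]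
      ring
    · exact classInner_zero_right _
  have hη1 : η 1 = Cfsg.classInner (fun n : N => ψ n) (fun n : N => χ n) := by
    rw [hη]
    unfold Cfsg.classInner
    simp only [mul_one]
  have hone : Cfsg.IsIrrCharacter G (fun _ => (1 : ℂ)) := isIrrCharacter_one
  refine ⟨?_, ?_, ?_⟩
  · intro hne
    have hη0 : η ≠ 0 := by
      intro h0
      apply hne
      rw [← hη1, h0]
      rfl
    obtain ⟨ξ₀, hξ₀, hne₀⟩ := exists_irr_constituent hηchar hη0
    rw [hcoef ξ₀ hξ₀] at hne₀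
    have hker : ∀ n ∈ N, ξ₀ n = ξ₀ 1 := by
      by_contra hcon
      rw [if_neg hcon] at hne₀
      exact hne₀ rfl
    rw [if_pos hker] at hne₀
    have hirr := gallagher_irr N hχ hχN ⟨ξ₀, hξ₀⟩ hker
    have hψeq : ψ = ξ₀ * χ := by
      by_contra hne'
      exact hne₀ (classInner_irr_ne hψ hirr hne')
    have hdeg : η 1 = ξ₀ 1 := by
      rw [hη1, hψeq]
      have h1 : (fun n : N => (ξ₀ * χ) n) = (ξ₀ 1) • (fun n : N => χ n) := by
        ext n
        simp only [Pi.mul_apply, Pi.smul_apply, smul_eq_mul]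
        rw [hker n n.2]
      rw [h1, classInner_smul_left, classInner_irr_self hχN, mul_one]
    have hne₁ : Cfsg.classInner η ξ₀ ≠ 0 := by
      rw [hcoef ξ₀ hξ₀, if_pos hker]
      exact hne₀
    rw [eq_of_constituent_of_degree hηchar hξ₀ hne₁ hdeg]
    exact hξ₀
  · intro h0
    apply eq_zero_of_isCharacter_of_apply_one hηchar
    rw [hη1, h0]
  · intro heq
    subst heq
    have hne₁ : Cfsg.classInner η (fun _ => (1 : ℂ)) ≠ 0 := by
      rw [hcoef _ hone, if_pos (fun _ _ => rfl)]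
      have : ((fun _ => (1 : ℂ)) * ψ : G → ℂ) = ψ := by
        ext g
        simp
      rw [this, classInner_irr_self hψ]
      exact one_ne_zero
    have hdeg : η 1 = (fun _ : G => (1 : ℂ)) 1 := by
      rw [hη1, classInner_irr_self hχN]
    exact eq_of_constituent_of_degree hηchar hone hne₁ hdeg

end Cfsg.Agent.Helper6
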