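import Mathlib
import Cfsg.Prelude.Def_Characters
import Cfsg.Agent.Helper6.Induced

/-!
# Representations with equal characters are equivalent
-/

set_option autoImplicit false
set_option linter.style.haveILetI false

namespace Cfsg.Agent.Helper6

open Module Representation
open scoped ComplexConjugate

universe u v w

variable {G : Type u} [Group G]

theorem char_prod {V : Type v} {W : Type w} [AddCommGroup V] [Module ℂ V]
    [FiniteDimensional ℂ V] [AddCommGroup W] [Module ℂ W] [FiniteDimensional ℂ W]
    (ρ : Representation ℂ G V) (σ : Representation ℂ G W) :
    (ρ.prod σ).character = ρ.character + σ.character := by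
  ext g
  simp only [Representation.character, Pi.add_apply]
  rw [show (ρ.prod σ) g = (ρ g).prodMap (σ g) from rfl, LinearMap.trace_prodMap']

/-- An injective intertwining map is an equivalence onto its range. -/
noncomputable def equivRange {V : Type v} {W : Type w} [AddCommGroup V] [Module ℂ V]
    [AddCommGroup W] [Module ℂ W] {ρ : Representation ℂ G V} {σ : Representation ℂ G W}
    (f : IntertwiningMap ρ σ) (hf : Function.Injective f) :
    ρ.Equiv f.range.toRepresentation :=
  Representation.Equiv.mk (LinearEquiv.ofInjective f.toLinearMap hf) (by
    intro g
    apply LinearMap.ext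
    intro v
    apply Subtype.ext
    exact IntertwiningMap.isIntertwining _ _ f g v)

/-- Product of equivalences. -/
noncomputable def equivProdCongr {V₁ V₂ : Type v} {W₁ W₂ : Type w}
    [AddCommGroup V₁] [Module ℂ V₁] [AddCommGroup V₂] [Module ℂ V₂]
    [AddCommGroup W₁] [Module ℂ W₁] [AddCommGroup W₂] [Module ℂ W₂]
    {ρ₁ : Representation ℂ G V₁} {ρ₂ : Representation ℂ G V₂}
    {σ₁ : Representation ℂ G W₁} {σ₂ : Representation ℂ G W₂}
    (e₁ : ρ₁.Equiv σ₁) (e₂ : ρ₂.Equiv σ₂) : (ρ₁.prod ρ₂).Equiv (σ₁.prod σ₂) :=
  Representation.Equiv.mk (e₁.toLinearEquiv.prodCongr e₂.toLinearEquiv) (by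
    intro g
    apply LinearMap.ext
    rintro ⟨a, b⟩
    apply Prod.ext
    · exact IntertwiningMap.isIntertwining _ _ e₁.toIntertwiningMap g a
    · exact IntertwiningMap.isIntertwining _ _ e₂.toIntertwiningMap g b)

theorem classInner_eq_finrank_intertwining [Fintype G] {V : Type v} {W : Type w}
    [AddCommGroup V] [Module ℂ V] [FiniteDimensional ℂ V]
    [AddCommGroup W] [Module ℂ W] [FiniteDimensional ℂ W]
    (ρ : Representation ℂ G V) (σ : Representation ℂ G W) :
    Cfsg.classInner σ.character ρ.character = (finrank ℂ (IntertwiningMap ρ σ) : ℂ) := by
  haveI : Invertible (Nat.card G : ℂ) := invertibleOfNonzero (by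
    have : 0 < Nat.card G := Nat.card_pos
    exact_mod_cast this.ne')
  rw [← card_inv_mul_sum_char_mul_char_eq_finrank, classInner_def]
  congr 1
  apply Finset.sum_congr rfl
  intro g _
  rw [char_inv_eq_conj]

theorem equiv_of_char_eq_aux [Finite G] (n : ℕ) :
    ∀ (V : Type v) (W : Type w) [AddCommGroup V] [Module ℂ V] [FiniteDimensional ℂ V]
    [AddCommGroup W] [Module ℂ W] [FiniteDimensional ℂ W]
    (ρ : Representation ℂ G V) (σ : Representation ℂ G W),
    finrank ℂ V = n → ρ.character = σ.character → Nonempty (ρ.Equiv σ) := by
  classical
  haveI := Fintype.ofFinite G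
  haveI : NeZero (Nat.card G : ℂ) := ⟨by exact_mod_cast Nat.card_pos.ne'⟩
  induction n using Nat.strong_induction_on with
  | _ n ih =>
    intro V W _ _ _ _ _ _ ρ σ hn hchar
    by_cases hV : Subsingleton V
    · -- both spaces are zero
      have h1 : ρ.character 1 = σ.character 1 := by rw [hchar]
      rw [char_one, char_one] at h1
      have hV0 : finrank ℂ V = 0 := Module.finrank_zero_of_subsingleton
      rw [hV0] at h1
      have hW0 : finrank ℂ W = 0 := by exact_mod_cast h1.symm
      haveI : Subsingleton W := Module.finrank_zero_iff.mp hW0
      refine ⟨Representation.Equiv.mk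
        { toFun := 0, map_add' := by intros; simp, map_smul' := by intros; simp,
          invFun := 0, left_inv := fun _ => Subsingleton.elim _ _,
          right_inv := fun _ => Subsingleton.elim _ _ } ?_⟩
      intro g
      apply LinearMap.ext
      intro v
      exact Subsingleton.elim _ _
    · rw [not_subsingleton_iff_nontrivial] at hV
      haveI : IsAtomic (Subrepresentation ρ) :=
        (Subrepresentation.subrepresentationSubmoduleOrderIso (ρ := ρ)).isAtomic_iff.mpr
          inferInstance
      have htop : (⊤ : Subrepresentation ρ) ≠ ⊥ := by
        intro h
        obtain ⟨v, hv⟩ := exists_ne (0 : V)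
        have hmem : v ∈ (⊤ : Subrepresentation ρ) := Submodule.mem_top (R := ℂ)
        rw [h] at hmem
        exact hv hmem
      obtain ⟨S, hS, -⟩ :=
        (IsAtomic.eq_bot_or_exists_atom_le (⊤ : Subrepresentation ρ)).resolve_left htop
      obtain ⟨S', hS'⟩ := exists_isCompl S
      have hc := isCompl_toSubmodule hS'
      have hSirr : S.toRepresentation.IsIrreducible := isIrreducible_of_isAtom S hS
      have e1 : (S.toRepresentation.prod S'.toRepresentation).Equiv ρ :=
        prodEquivOfIsCompl S S' hc
      have hlt : finrank ℂ S'.toSubmodule < n := by
        have hsum := Submodule.finrank_add_eq_of_isCompl hc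
        have hpos : 0 < finrank ℂ S.toSubmodule := by
          rw [Module.finrank_pos_iff]
          have : S.toSubmodule ≠ ⊥ := by
            intro h
            apply hS.1
            exact Subrepresentation.toSubmodule_injective h
          exact Submodule.nontrivial_iff_ne_bot.mpr this
        omega
      -- characters
      have hρ : ρ.character = S.toRepresentation.character + S'.toRepresentation.character := by
        rw [← char_iso e1, char_prod]
      -- inner product of σ with S is nonzero
      have hinner : Cfsg.classInner σ.character S.toRepresentation.character ≠ 0 := by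
        rw [← hchar, hρ, classInner_add_left]
        have h1 : Cfsg.classInner S.toRepresentation.character S.toRepresentation.character = 1 :=
          classInner_irr_self (isIrrCharacter_of_rep _ hSirr)
        obtain ⟨m, hm⟩ := classInner_char_char_nat
          (isCharacter_of_rep S'.toRepresentation) (isCharacter_of_rep S.toRepresentation)
        rw [h1, hm]
        have : (1 : ℂ) + (m : ℂ) = ((1 + m : ℕ) : ℂ) := by push_cast; ring
        rw [this]
        exact_mod_cast (by omega : 1 + m ≠ 0)
      rw [classInner_eq_finrank_intertwining] at hinner
      have hfin : finrank ℂ (IntertwiningMap S.toRepresentation σ) ≠ 0 := by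
        intro h
        apply hinner
        rw [h, Nat.cast_zero]
      have hnontriv : Nontrivial (IntertwiningMap S.toRepresentation σ) := by
        by_contra hcon
        rw [not_nontrivial_iff_subsingleton] at hcon
        exact hfin Module.finrank_zero_of_subsingleton
      obtain ⟨f, hf⟩ := exists_ne (0 : IntertwiningMap S.toRepresentation σ)
      have hinj : Function.Injective f :=
        (Representation.IsIrreducible.injective_or_eq_zero f).resolve_right hf
      -- the image of f and a complement
      let T : Subrepresentation σ := f.range
      have e2 : S.toRepresentation.Equiv T.toRepresentation := equivRange f hinj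
      obtain ⟨T', hT'⟩ := exists_isCompl T
      have hcT := isCompl_toSubmodule hT'
      have e3 : (T.toRepresentation.prod T'.toRepresentation).Equiv σ :=
        prodEquivOfIsCompl T T' hcT
      have hσ : σ.character = T.toRepresentation.character + T'.toRepresentation.character := by
        rw [← char_iso e3, char_prod]
      have hST : S.toRepresentation.character = T.toRepresentation.character := char_iso e2
      have hrest : S'.toRepresentation.character = T'.toRepresentation.character := by
        have : S.toRepresentation.character + S'.toRepresentation.character =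
            T.toRepresentation.character + T'.toRepresentation.character := by
          rw [← hρ, ← hσ, hchar]
        rw [hST] at this
        exact add_left_cancel this
      obtain ⟨e4⟩ := ih _ hlt S'.toSubmodule T'.toSubmodule S'.toRepresentation
        T'.toRepresentation rfl hrest
      exact ⟨e1.symm.trans ((equivProdCongr e2 e4).trans e3)⟩

/-- Representations with equal characters are equivalent. -/
theorem equiv_of_char_eq [Finite G] {V : Type v} {W : Type w} [AddCommGroup V] [Module ℂ V]
    [FiniteDimensional ℂ V] [AddCommGroup W] [Module ℂ W] [FiniteDimensional ℂ W]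
    (ρ : Representation ℂ G V) (σ : Representation ℂ G W)
    (h : ρ.character = σ.character) : Nonempty (ρ.Equiv σ) :=
  equiv_of_char_eq_aux _ V W ρ σ rfl h

end Cfsg.Agent.Helper6
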