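import Mathlib
import Cfsg.Prelude.Def_Characters
import Cfsg.Agent.Helper6.EquivOfChar
import Cfsg.Agent.Helper6.CentralChar
import Cfsg.Agent.Helper6.CharBasic
import Cfsg.Agent.Helper6.DegreeDvd

/-!
# Extension of invariant characters over cyclic quotients
-/

set_option autoImplicit false
set_option linter.style.haveILetI false

namespace Cfsg.Agent.Helper6

open scoped ComplexConjugate
open Module

universe u v w

variable {G : Type u} [Group G]

theorem conj_rel_zpow (N : Subgroup G) [hN : N.Normal] {K : Type w} [Group K] (R : N →* K)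
    (g₀ : G) (A : K) (hrel : ∀ n : N, A * R n * A⁻¹ = R (MulAut.conjNormal g₀ n)) :
    ∀ j : ℤ, ∀ n : N, A ^ j * R n * (A ^ j)⁻¹ = R (MulAut.conjNormal (g₀ ^ j) n) := by
  have hrelinv : ∀ n : N, A⁻¹ * R n * A = R (MulAut.conjNormal g₀⁻¹ n) := by
    intro n
    have h1 := hrel (MulAut.conjNormal g₀⁻¹ n)
    have h2 : MulAut.conjNormal g₀ (MulAut.conjNormal g₀⁻¹ n) = n := by
      rw [← MulAut.mul_apply, ← map_mul, mul_inv_cancel, map_one, MulAut.one_apply]
    rw [h2] at h1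
    rw [← h1]
    group
  intro j
  induction j using Int.induction_on with
  | zero => intro n; simp
  | succ j ih =>
    intro n
    rw [zpow_add_one, zpow_add_one, map_mul, MulAut.mul_apply, ← ih (MulAut.conjNormal g₀ n),
      ← hrel n]
    group
  | pred j ih =>
    intro n
    rw [zpow_sub_one, zpow_sub_one, map_mul, MulAut.mul_apply,
      ← ih (MulAut.conjNormal g₀⁻¹ n), ← hrelinv n]
    group

/-- Extending a homomorphism from a normal subgroup with cyclic quotient. -/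
theorem extend_hom_cyclic (N : Subgroup G) [hN : N.Normal] {K : Type w} [Group K] (R : N →* K)
    (g₀ : G) (m : ℕ) (hgen : ∀ g : G, ∃ j : ℤ, g * (g₀ ^ j)⁻¹ ∈ N)
    (hmem : ∀ j : ℤ, g₀ ^ j ∈ N → (m : ℤ) ∣ j) (hm0 : g₀ ^ m ∈ N) (A : K)
    (hrel : ∀ n : N, A * R n * A⁻¹ = R (MulAut.conjNormal g₀ n))
    (hpow : A ^ m = R ⟨g₀ ^ m, hm0⟩) : ∃ F : G →* K, ∀ n : N, F n = R n := by
  have hz := conj_rel_zpow N R g₀ A hrel
  let φ : Multiplicative ℤ →* MulAut N := zpowersHom (MulAut N) (MulAut.conjNormal g₀)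
  have hφ : ∀ k : Multiplicative ℤ, φ k = MulAut.conjNormal (g₀ ^ (Multiplicative.toAdd k)) := by
    intro k
    change (MulAut.conjNormal g₀ : MulAut N) ^ (Multiplicative.toAdd k) = _
    rw [map_zpow]
  let Φ : N ⋊[φ] Multiplicative ℤ →* G :=
    SemidirectProduct.lift N.subtype (zpowersHom G g₀) (by
      intro k
      ext n
      simp only [MonoidHom.comp_apply, MulEquiv.coe_toMonoidHom, Subgroup.coe_subtype,
        MulAut.conj_apply]
      rw [hφ k, MulAut.conjNormal_apply]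
      rfl)
  let Ψ : N ⋊[φ] Multiplicative ℤ →* K :=
    SemidirectProduct.lift R (zpowersHom K A) (by
      intro k
      ext n
      simp only [MonoidHom.comp_apply, MulEquiv.coe_toMonoidHom, MulAut.conj_apply]
      rw [hφ k]
      change _ = A ^ (Multiplicative.toAdd k) * R n * (A ^ (Multiplicative.toAdd k))⁻¹
      rw [hz])
  have hΦ : ∀ x : N ⋊[φ] Multiplicative ℤ,
      Φ x = (x.left : G) * g₀ ^ (Multiplicative.toAdd x.right) := fun x => rfl
  have hΨ : ∀ x : N ⋊[φ] Multiplicative ℤ,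
      Ψ x = R x.left * A ^ (Multiplicative.toAdd x.right) := fun x => rfl
  have hsurj : Function.Surjective Φ := by
    intro g
    obtain ⟨j, hj⟩ := hgen g
    refine ⟨⟨⟨g * (g₀ ^ j)⁻¹, hj⟩, Multiplicative.ofAdd j⟩, ?_⟩
    rw [hΦ]
    simp
  have hker : Φ.ker ≤ Ψ.ker := by
    intro x hx
    rw [MonoidHom.mem_ker, hΦ] at hx
    rw [MonoidHom.mem_ker, hΨ]
    set j := Multiplicative.toAdd x.right with hj
    have hjN : g₀ ^ j ∈ N := by
      have : g₀ ^ j = (x.left : G)⁻¹ := eq_inv_of_mul_eq_one_right hx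
      rw [this]
      exact inv_mem x.left.2
    obtain ⟨t, ht⟩ := hmem j hjN
    have hA : A ^ j = R (⟨g₀ ^ m, hm0⟩ ^ t) := by
      rw [ht, zpow_mul, zpow_natCast, hpow, map_zpow]
    rw [hA, ← map_mul]
    have : x.left * (⟨g₀ ^ m, hm0⟩ : N) ^ t = 1 := by
      apply Subtype.ext
      rw [Subgroup.coe_mul, Subgroup.coe_zpow, Subgroup.coe_one]
      change (x.left : G) * (g₀ ^ m) ^ t = 1
      rw [← zpow_natCast, ← zpow_mul, ← ht]
      exact hx
    rw [this, map_one]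
  refine ⟨Φ.liftOfSurjective hsurj ⟨Ψ, hker⟩, ?_⟩
  intro n
  have h1 : (n : G) = Φ ⟨n, 1⟩ := by
    rw [hΦ]
    simp
  rw [h1]
  rw [MonoidHom.liftOfRightInverse_comp_apply]
  change Ψ ⟨n, 1⟩ = R n
  rw [hΨ]
  simp

set_option maxHeartbeats 1600000 in
/-- An invariant irreducible representation of a normal subgroup with cyclic quotient extends to
the whole group. -/
theorem extend_rep_cyclic [Finite G] (N : Subgroup G) [hN : N.Normal] (hcyc : IsCyclic (G ⧸ N))
    {V : Type v} [AddCommGroup V] [Module ℂ V] [FiniteDimensional ℂ V]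
    (ρ : Representation ℂ N V) [hirr : ρ.IsIrreducible]
    (hinv : ∀ (g : G) (n : N),
      ρ.character ⟨g * n * g⁻¹, hN.conj_mem (n : G) n.2 g⟩ = ρ.character n) :
    ∃ σ : Representation ℂ G V, σ.IsIrreducible ∧ ∀ n : N, σ (n : G) = ρ n := by
  classical
  haveI : Nontrivial V := irr_nontrivial ρ
  obtain ⟨q₀, hq₀⟩ := hcyc.exists_generator
  obtain ⟨g₀, rfl⟩ := QuotientGroup.mk_surjective q₀
  set m := orderOf (g₀ : G ⧸ N) with hm
  have hmpos : 0 < m := orderOf_pos _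
  have hgen : ∀ g : G, ∃ j : ℤ, g * (g₀ ^ j)⁻¹ ∈ N := by
    intro g
    obtain ⟨j, hj⟩ := Subgroup.mem_zpowers_iff.mp (hq₀ (g : G ⧸ N))
    refine ⟨j, ?_⟩
    rw [← QuotientGroup.eq_one_iff, QuotientGroup.mk_mul, QuotientGroup.mk_inv,
      QuotientGroup.mk_zpow, hj, mul_inv_cancel]
  have hmem : ∀ j : ℤ, g₀ ^ j ∈ N → (m : ℤ) ∣ j := by
    intro j hj
    rw [hm, orderOf_dvd_iff_zpow_eq_one, ← QuotientGroup.mk_zpow]
    exact (QuotientGroup.eq_one_iff _).mpr hj
  have hm0 : g₀ ^ m ∈ N := by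
    rw [← QuotientGroup.eq_one_iff, QuotientGroup.mk_pow, hm, pow_orderOf_eq_one]
  -- the conjugate representation
  let ρ' : Representation ℂ N V := ρ.comp (MulAut.conjNormal g₀ : N ≃* N).toMonoidHom
  have hchar : ρ.character = ρ'.character := by
    funext n
    have h1 : ρ'.character n = ρ.character (MulAut.conjNormal g₀ n) := rfl
    rw [h1]
    have h2 : MulAut.conjNormal g₀ n = ⟨g₀ * n * g₀⁻¹, hN.conj_mem (n : G) n.2 g₀⟩ := by
      apply Subtype.ext
      rw [MulAut.conjNormal_apply]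
    rw [h2, hinv]
  obtain ⟨e⟩ := equiv_of_char_eq ρ ρ' hchar
  have hA₀ : ∀ (n : N) (v : V),
      e.toLinearEquiv (ρ n v) = ρ (MulAut.conjNormal g₀ n) (e.toLinearEquiv v) := by
    intro n v
    have := LinearMap.congr_fun (e.isIntertwining' n) v
    exact this
  let R : N →* (V →ₗ[ℂ] V)ˣ := MonoidHom.toHomUnits (ρ : N →* (V →ₗ[ℂ] V))
  have hR : ∀ n : N, ((R n : (V →ₗ[ℂ] V)ˣ) : V →ₗ[ℂ] V) = ρ n := fun n => rfl
  let Au : (V →ₗ[ℂ] V)ˣ :=
    ⟨e.toLinearEquiv.toLinearMap, e.toLinearEquiv.symm.toLinearMap,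
      by ext v; exact e.toLinearEquiv.apply_symm_apply v,
      by ext v; exact e.toLinearEquiv.symm_apply_apply v⟩
  have hrelu : ∀ n : N, Au * R n * Au⁻¹ = R (MulAut.conjNormal g₀ n) := by
    intro n
    rw [mul_inv_eq_iff_eq_mul]
    apply Units.ext
    apply LinearMap.ext
    intro v
    exact hA₀ n v
  have hzu := conj_rel_zpow N R g₀ Au hrelu
  -- Schur's lemma
  set n₀ : N := ⟨g₀ ^ m, hm0⟩ with hn₀
  have hconjm : ∀ n : N, MulAut.conjNormal (g₀ ^ (m : ℤ)) n = n₀ * n * n₀⁻¹ := by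
    intro n
    apply Subtype.ext
    rw [MulAut.conjNormal_apply]
    simp [hn₀]
  set S : (V →ₗ[ℂ] V)ˣ := (R n₀)⁻¹ * Au ^ m with hS
  have hScomm : ∀ n : N, S * R n = R n * S := by
    intro n
    have h1 := hzu (m : ℤ) n
    rw [hconjm n, zpow_natCast, map_mul, map_mul, map_inv, mul_inv_eq_iff_eq_mul] at h1
    rw [hS, mul_assoc, h1]
    group
  have hT : ∀ n : N, (S : V →ₗ[ℂ] V) ∘ₗ ρ n = ρ n ∘ₗ (S : V →ₗ[ℂ] V) := by
    intro n
    have := congrArg (fun u : (V →ₗ[ℂ] V)ˣ => (u : V →ₗ[ℂ] V)) (hScomm n)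
    exact this
  obtain ⟨c, hc⟩ := exists_scalar_of_commute ρ (S : V →ₗ[ℂ] V) hT
  have hc0 : c ≠ 0 := by
    rintro rfl
    rw [zero_smul] at hc
    have h1 : ((S⁻¹ * S : (V →ₗ[ℂ] V)ˣ) : V →ₗ[ℂ] V) = 1 := by rw [inv_mul_cancel]; rfl
    rw [Units.val_mul, hc, mul_zero] at h1
    exact zero_ne_one h1
  obtain ⟨b, hb⟩ := IsAlgClosed.exists_pow_nat_eq c hmpos
  have hb0 : b ≠ 0 := by
    rintro rfl
    rw [zero_pow hmpos.ne'] at hb
    exact hc0 hb.symm
  let sc : ℂˣ →* (V →ₗ[ℂ] V)ˣ :=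
    Units.map ((algebraMap ℂ (V →ₗ[ℂ] V) : ℂ →+* (V →ₗ[ℂ] V)) : ℂ →* (V →ₗ[ℂ] V))
  have hsccomm : ∀ (z : ℂˣ) (k : (V →ₗ[ℂ] V)ˣ), sc z * k = k * sc z := by
    intro z k
    apply Units.ext
    exact Algebra.commutes (z : ℂ) (k : V →ₗ[ℂ] V)
  have hSsc : S = sc (Units.mk0 c hc0) := by
    apply Units.ext
    rw [hc]
    change c • LinearMap.id = algebraMap ℂ (V →ₗ[ℂ] V) c
    rw [Algebra.algebraMap_eq_smul_one]
    rfl
  set A' : (V →ₗ[ℂ] V)ˣ := (sc (Units.mk0 b hb0))⁻¹ * Au with hA'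
  have hrel' : ∀ n : N, A' * R n * A'⁻¹ = R (MulAut.conjNormal g₀ n) := by
    intro n
    rw [← hrelu n, hA', mul_inv_rev, inv_inv]
    have h1 := hsccomm (Units.mk0 b hb0) (Au * R n * Au⁻¹)
    calc (sc (Units.mk0 b hb0))⁻¹ * Au * R n * (Au⁻¹ * sc (Units.mk0 b hb0))
        = (sc (Units.mk0 b hb0))⁻¹ * ((Au * R n * Au⁻¹) * sc (Units.mk0 b hb0)) := by group
      _ = (sc (Units.mk0 b hb0))⁻¹ * (sc (Units.mk0 b hb0) * (Au * R n * Au⁻¹)) := by rw [h1]
      _ = Au * R n * Au⁻¹ := by group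
  have hpow' : A' ^ m = R n₀ := by
    have hcomm : Commute (sc (Units.mk0 b hb0))⁻¹ Au := by
      have := hsccomm (Units.mk0 b hb0)⁻¹ Au
      rw [map_inv] at this
      exact this
    rw [hA', hcomm.mul_pow, inv_pow, ← map_pow]
    have hbm : (Units.mk0 b hb0) ^ m = Units.mk0 c hc0 := by
      apply Units.ext
      simp [hb]
    rw [hbm, ← hSsc]
    have hAum : Au ^ m = R n₀ * S := by
      rw [hS]
      group
    rw [hAum, ← hScomm n₀]
    group
  obtain ⟨F, hF⟩ := extend_hom_cyclic N R g₀ m hgen hmem hm0 A' hrel' hpow'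
  let σ : Representation ℂ G V := (Units.coeHom (V →ₗ[ℂ] V)).comp F
  have hσ : ∀ n : N, σ (n : G) = ρ n := by
    intro n
    change ((F (n : G) : (V →ₗ[ℂ] V)ˣ) : V →ₗ[ℂ] V) = ρ n
    rw [hF n]
    exact hR n
  refine ⟨σ, ?_, hσ⟩
  refine { exists_pair_ne := ⟨⊥, ⊤, ?_⟩, eq_bot_or_eq_top := ?_ }
  · intro hbt
    have h1 : (⊥ : Submodule ℂ V) = ⊤ := congrArg Subrepresentation.toSubmodule hbt
    exact bot_ne_top h1
  · intro τ
    let τ' : Subrepresentation ρ :=
      ⟨τ.toSubmodule, fun n v hv => by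
        have := τ.apply_mem_toSubmodule (n : G) hv
        rwa [hσ n] at this⟩
    rcases hirr.eq_bot_or_eq_top τ' with h | h
    · left
      apply Subrepresentation.toSubmodule_injective
      have h2 : τ'.toSubmodule = (⊥ : Subrepresentation ρ).toSubmodule :=
        congrArg Subrepresentation.toSubmodule h
      exact h2
    · right
      apply Subrepresentation.toSubmodule_injective
      have h2 : τ'.toSubmodule = (⊤ : Subrepresentation ρ).toSubmodule :=
        congrArg Subrepresentation.toSubmodule h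
      exact h2

end Cfsg.Agent.Helper6
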