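import Mathlib
import Cfsg.Prelude.Def_Characters
import Cfsg.Agent.Helper6.FrobRamA
import Cfsg.Agent.Helper6.CycTIB
import Cfsg.Agent.Helper6.Gallagher
import Cfsg.Agent.Helper6.Expansion
import Cfsg.Agent.Helper6.Induced
import Cfsg.Agent.Helper6.IrrDegree
import Cfsg.Agent.S0886

/-!
# Characters over a fully ramified character, restricted to a cyclic section (for S4454)
-/

set_option autoImplicit false
set_option linter.style.haveILetI false

namespace Cfsg.Agent.Helper6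

open scoped ComplexConjugate

universe u

/-- orthogonality for the dual of a finite commutative group -/
theorem sum_hom_units_apply {Q : Type u} [Group Q] [Finite Q] (hcomm : ∀ a b : Q, a * b = b * a)
    [Fintype (Q →* ℂˣ)] (q : Q) [Decidable (q = 1)] :
    ∑ μ : Q →* ℂˣ, ((μ q : ℂˣ) : ℂ) = if q = 1 then (Nat.card Q : ℂ) else 0 := by
  split_ifs with hq
  · subst hq
    simp only [map_one, Units.val_one, Finset.sum_const, Finset.card_univ, nsmul_eq_mul, mul_one]
    rw [← Nat.card_eq_fintype_card, card_hom_units_of_comm hcomm]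
  · letI : CommGroup Q := { (inferInstance : Group Q) with mul_comm := hcomm }
    haveI : NeZero ((Monoid.exponent Q : ℕ) : ℂ) :=
      ⟨by exact_mod_cast Monoid.exponent_ne_zero_of_finite⟩
    obtain ⟨φ, hφ⟩ := CommGroup.exists_apply_ne_one_of_hasEnoughRootsOfUnity Q ℂ hq
    have h1 : ∑ μ : Q →* ℂˣ, ((μ q : ℂˣ) : ℂ) =
        ((φ q : ℂˣ) : ℂ) * ∑ μ : Q →* ℂˣ, ((μ q : ℂˣ) : ℂ) := by
      rw [Finset.mul_sum]
      exact (Fintype.sum_equiv (Equiv.mulLeft φ)
        (fun μ : Q →* ℂˣ => ((φ q : ℂˣ) : ℂ) * ((μ q : ℂˣ) : ℂ))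
        (fun μ : Q →* ℂˣ => ((μ q : ℂˣ) : ℂ))
        (fun μ => by simp [MonoidHom.mul_apply])).symm
    have h2 : ((φ q : ℂˣ) : ℂ) ≠ 1 := fun h => hφ (Units.ext h)
    have h3 : (1 - ((φ q : ℂˣ) : ℂ)) * ∑ μ : Q →* ℂˣ, ((μ q : ℂˣ) : ℂ) = 0 := by
      linear_combination h1
    rcases mul_eq_zero.mp h3 with h | h
    · exact absurd (sub_eq_zero.mp h).symm h2
    · exact h

variable {H : Type u} [Group H]

/-- averaging a sum over the group along a subgroup -/
theorem sum_eq_sum_translate [Fintype H] (N : Subgroup H) [Fintype N] (g : H → ℂ) :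
    ∑ h : H, g h = (Nat.card N : ℂ)⁻¹ * ∑ h : H, ∑ n : N, g ((n : H) * h) := by
  have hN0 : (Nat.card N : ℂ) ≠ 0 := by
    have : 0 < Nat.card N := Nat.card_pos
    exact_mod_cast this.ne'
  rw [Finset.sum_comm]
  have : ∀ n : N, ∑ h : H, g ((n : H) * h) = ∑ h : H, g h := by
    intro n
    exact Fintype.sum_equiv (Equiv.mulLeft (n : H)) _ _ (fun h => rfl)
  rw [Finset.sum_congr rfl (fun n _ => this n), Finset.sum_const, Finset.card_univ, nsmul_eq_mul,
    ← Nat.card_eq_fintype_card, ← mul_assoc, inv_mul_cancel₀ hN0, one_mul]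

set_option maxHeartbeats 4000000 in
/-- Let `N ⊴ H` with `H / N` cyclic, `θ` an invariant irreducible character of `N`, and `Ψ` a
character of `H` with `Ψ_N = e θ` whose squared absolute values sum to `|N|` on every coset of `N`
other than `N` itself.  Then `|H : N|` divides `e - 1` or `e + 1`. -/
theorem dvd_of_ramified_cyclic_section [Fintype H] (N : Subgroup H) [hN : N.Normal] [Fintype N]
    (hcyc : IsCyclic (H ⧸ N)) (θ : N → ℂ) (hθ : Cfsg.IsIrrCharacter N θ)
    (hinv : ∀ (h : H) (n : N), θ ⟨h * n * h⁻¹, hN.conj_mem (n : H) n.2 h⟩ = θ n)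
    (Ψ : H → ℂ) (hΨ : Cfsg.IsCharacter H Ψ) (e : ℕ) (hres : ∀ n : N, Ψ n = (e : ℂ) * θ n)
    (hF : ∀ h : H, h ∉ N →
      ∑ n : N, Ψ ((n : H) * h) * conj (Ψ ((n : H) * h)) = (Nat.card N : ℂ)) :
    (N.index : ℤ) ∣ (e : ℤ) - 1 ∨ (N.index : ℤ) ∣ (e : ℤ) + 1 := by
  classical
  have hN0 : (Nat.card N : ℂ) ≠ 0 := by
    have : 0 < Nat.card N := Nat.card_pos
    exact_mod_cast this.ne'
  have hH0 : (Nat.card H : ℂ) ≠ 0 := by
    have : 0 < Nat.card H := Nat.card_pos
    exact_mod_cast this.ne'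
  have hm0 : (N.index : ℂ) ≠ 0 := by
    have : N.index ≠ 0 := Subgroup.index_ne_zero_of_finite
    exact_mod_cast this
  have hcardH : (Nat.card H : ℂ) = (N.index : ℂ) * (Nat.card N : ℂ) := by
    rw [← Subgroup.index_mul_card N]
    push_cast
    ring
  have hcomm : ∀ a b : H ⧸ N, a * b = b * a := fun a b =>
    (IsCyclic.isMulCommutative (α := H ⧸ N)).is_comm.comm a b
  haveI : Finite ((H ⧸ N) →* ℂˣ) := by
    apply Nat.finite_of_card_ne_zero
    rw [card_hom_units_of_comm hcomm]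
    exact Nat.card_pos.ne'
  haveI : Fintype ((H ⧸ N) →* ℂˣ) := Fintype.ofFinite _
  have hcardΛ : Fintype.card ((H ⧸ N) →* ℂˣ) = N.index := by
    rw [← Nat.card_eq_fintype_card, card_hom_units_of_comm hcomm]
    rfl
  haveI : Finite (Cfsg.IrrCharacter H) := irr_finite
  haveI : Fintype (Cfsg.IrrCharacter H) := Fintype.ofFinite _
  -- linear characters of the quotient, inflated
  obtain ⟨lin, hlin⟩ : ∃ lin : ((H ⧸ N) →* ℂˣ) → H → ℂ,
      lin = fun μ h => ((μ (h : H ⧸ N) : ℂˣ) : ℂ) := ⟨_, rfl⟩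
  have hlin_irr : ∀ μ, Cfsg.IsIrrCharacter H (lin μ) := by
    intro μ
    rw [hlin]
    exact isIrrCharacter_of_hom (μ.comp (QuotientGroup.mk' N))
  have hlin_mem : ∀ μ (n : H), n ∈ N → lin μ n = 1 := by
    intro μ n hn
    rw [hlin]
    simp only
    rw [(QuotientGroup.eq_one_iff n).mpr hn, map_one, Units.val_one]
  have hlin_trans : ∀ μ (n : N) (h : H), lin μ ((n : H) * h) = lin μ h := by
    intro μ n h
    rw [hlin]
    simp only
    rw [QuotientGroup.mk_mul, (QuotientGroup.eq_one_iff (n : H)).mpr n.2, one_mul]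
  have hlin_mul : ∀ μ ν, lin (μ * ν) = lin μ * lin ν := by
    intro μ ν
    rw [hlin]
    ext h
    simp only [Pi.mul_apply, MonoidHom.mul_apply, Units.val_mul]
  have hlin_one : lin 1 = fun _ => (1 : ℂ) := by
    rw [hlin]
    ext h
    simp only [MonoidHom.one_apply, Units.val_one]
  have hlin_inj : ∀ μ ν, lin μ = lin ν → μ = ν := by
    intro μ ν h
    apply MonoidHom.ext
    intro q
    obtain ⟨x, rfl⟩ := QuotientGroup.mk_surjective q
    have := congrFun h x
    rw [hlin] at this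
    have h2 : ((μ (x : H ⧸ N) : ℂˣ) : ℂ) = ((ν (x : H ⧸ N) : ℂˣ) : ℂ) := this
    exact Units.ext h2
  have hlin_sum : ∀ h : H, ∑ μ, lin μ h = if h ∈ N then (N.index : ℂ) else 0 := by
    intro h
    rw [hlin]
    simp only
    rw [sum_hom_units_apply hcomm (h : H ⧸ N)]
    by_cases hh : h ∈ N
    · rw [if_pos hh, if_pos ((QuotientGroup.eq_one_iff h).mpr hh)]
      rfl
    · rw [if_neg hh, if_neg (fun h1 => hh ((QuotientGroup.eq_one_iff h).mp h1))]
  -- the extension of θ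
  obtain ⟨ϑ₀, hϑ₀, hϑ₀N⟩ := Cfsg.Agent.S0886.result N hcyc θ hθ hinv
  have hϑ₀res : Cfsg.IsIrrCharacter N (fun n : N => ϑ₀ n) := by
    have : (fun n : N => ϑ₀ n) = θ := funext hϑ₀N
    rw [this]
    exact hθ
  have hcn : ∀ h : H, ∑ n : N, ϑ₀ ((n : H) * h) * conj (ϑ₀ ((n : H) * h)) = (Nat.card N : ℂ) := by
    intro h
    have h1 := (gallagher_avg N ϑ₀ hϑ₀ hϑ₀res ϑ₀ hϑ₀ _ rfl).2.2 rfl
    have h2 := congrFun h1 h
    field_simp at h2
    exact h2
  -- the extensions of θ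
  have he_irr : ∀ μ, Cfsg.IsIrrCharacter H (lin μ * ϑ₀) := by
    intro μ
    exact gallagher_irr N hϑ₀ hϑ₀res ⟨lin μ, hlin_irr μ⟩
      (fun n hn => by
        show lin μ n = lin μ 1
        rw [hlin_mem μ n hn, hlin_mem μ 1 N.one_mem])
  have he_ne : ∀ μ ν, μ ≠ ν → lin μ * ϑ₀ ≠ lin ν * ϑ₀ := by
    intro μ ν hne heq
    have hne' : lin μ ≠ lin ν := fun h => hne (hlin_inj μ ν h)
    obtain ⟨x, hx⟩ := Function.ne_iff.mp hne'
    have hex : ∃ n : N, ϑ₀ ((n : H) * x) ≠ 0 := by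
      by_contra hall
      push Not at hall
      have := hcn x
      rw [Finset.sum_eq_zero (fun n _ => by rw [hall n, zero_mul])] at this
      exact hN0 this.symm
    obtain ⟨n, hn⟩ := hex
    have h1 := congrFun heq ((n : H) * x)
    simp only [Pi.mul_apply] at h1
    rw [hlin_trans, hlin_trans] at h1
    exact hx (mul_right_cancel₀ hn h1)
  have he_orth : ∀ μ ν, Cfsg.classInner (lin μ * ϑ₀) (lin ν * ϑ₀) = if μ = ν then 1 else 0 := by
    intro μ ν
    by_cases h : μ = ν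
    · rw [if_pos h, h, classInner_irr_self (he_irr ν)]
    · rw [if_neg h, classInner_irr_ne (he_irr μ) (he_irr ν) (he_ne μ ν h)]
  -- multiplicities
  have haex : ∀ μ, ∃ k : ℕ, Cfsg.classInner Ψ (lin μ * ϑ₀) = k := fun μ =>
    classInner_char_char_nat hΨ (IsIrrCharacter.isCharacter (he_irr μ))
  choose a ha using haex
  obtain ⟨t, htpos, ht⟩ := IsIrrCharacter.apply_one_pos hθ
  have hθθ : ∑ n : N, θ n * conj (θ n) = (Nat.card N : ℂ) := by
    have := classInner_irr_self hθ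
    rw [classInner_def] at this
    field_simp at this
    exact this
  have hsum_mem : ∀ f : H → ℂ, ∑ h : H, (if h ∈ N then f h else 0) = ∑ n : N, f n := by
    intro f
    rw [← Finset.sum_filter]
    exact Finset.sum_subtype _ (fun x => by simp) _
  -- the sum of the multiplicities
  have hasum : ∑ μ, (a μ : ℂ) = (e : ℂ) := by
    have h1 : ∑ μ, (a μ : ℂ) = Cfsg.classInner Ψ (∑ μ, lin μ * ϑ₀) := by
      rw [classInner_sum_right]
      exact Finset.sum_congr rfl (fun μ _ => (ha μ).symm)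
    have h2 : (∑ μ, lin μ * ϑ₀) = fun h => (if h ∈ N then (N.index : ℂ) else 0) * ϑ₀ h := by
      ext h
      rw [Finset.sum_apply]
      simp only [Pi.mul_apply]
      rw [← Finset.sum_mul, hlin_sum h]
    rw [h1, h2, classInner_def]
    have h3 : ∀ h : H, Ψ h * conj ((if h ∈ N then (N.index : ℂ) else 0) * ϑ₀ h) =
        if h ∈ N then (N.index : ℂ) * (Ψ h * conj (ϑ₀ h)) else 0 := by
      intro h
      split_ifs
      · rw [map_mul, Complex.conj_natCast]
        ring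
      · rw [zero_mul, map_zero, mul_zero]
    rw [Finset.sum_congr rfl (fun h _ => h3 h), hsum_mem]
    have h4 : ∀ n : N, (N.index : ℂ) * (Ψ (n : H) * conj (ϑ₀ (n : H))) =
        (N.index : ℂ) * (e : ℂ) * (θ n * conj (θ n)) := by
      intro n
      rw [hres n, hϑ₀N n]
      ring
    rw [Finset.sum_congr rfl (fun n _ => h4 n), ← Finset.mul_sum, hθθ, hcardH]
    field_simp
  -- expansion of Ψ
  have hexp := classFunction_expansion Ψ (IsCharacter.isClassFunction hΨ)
  have hbex : ∀ ξ : Cfsg.IrrCharacter H, ∃ k : ℕ, Cfsg.classInner Ψ (ξ : H → ℂ) = k := fun ξ =>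
    classInner_char_char_nat hΨ (IsIrrCharacter.isCharacter ξ.2)
  choose b hb using hbex
  have hdex : ∀ ξ : Cfsg.IrrCharacter H, ∃ k : ℕ, 0 < k ∧ (ξ : H → ℂ) 1 = k := fun ξ =>
    IsIrrCharacter.apply_one_pos ξ.2
  choose d hdpos hd using hdex
  obtain ⟨ι, hι⟩ : ∃ ι : ((H ⧸ N) →* ℂˣ) → Cfsg.IrrCharacter H,
      ι = fun μ => ⟨lin μ * ϑ₀, he_irr μ⟩ := ⟨_, rfl⟩
  have hιval : ∀ μ, ((ι μ : Cfsg.IrrCharacter H) : H → ℂ) = lin μ * ϑ₀ := by
    intro μ
    rw [hι]
  have hιinj : Function.Injective ι := by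
    intro μ ν h
    by_contra hne
    apply he_ne μ ν hne
    rw [← hιval μ, ← hιval ν, h]
  have hbι : ∀ μ, b (ι μ) = a μ := by
    intro μ
    have h1 := hb (ι μ)
    rw [hιval μ, ha μ] at h1
    exact_mod_cast h1.symm
  have hdι : ∀ μ, d (ι μ) = t := by
    intro μ
    have h1 := hd (ι μ)
    rw [hιval μ] at h1
    simp only [Pi.mul_apply] at h1
    rw [hlin_mem μ 1 N.one_mem, one_mul] at h1
    have h2 := hϑ₀N 1
    rw [Subgroup.coe_one] at h2
    rw [h2, ht] at h1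
    exact_mod_cast h1.symm
  have hasumN : ∑ μ, a μ = e := by exact_mod_cast hasum
  have hΨ1 : Ψ 1 = ((e * t : ℕ) : ℂ) := by
    have := hres 1
    rw [Subgroup.coe_one] at this
    rw [this, ht]
    push_cast
    ring
  have hdeg : e * t = ∑ ξ : Cfsg.IrrCharacter H, b ξ * d ξ := by
    have h1 := congrFun hexp 1
    rw [Finset.sum_apply, hΨ1] at h1
    have h2 : ∀ ξ : Cfsg.IrrCharacter H,
        (Cfsg.classInner Ψ (ξ : H → ℂ) • (ξ : H → ℂ)) 1 = ((b ξ * d ξ : ℕ) : ℂ) := by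
      intro ξ
      rw [Pi.smul_apply, smul_eq_mul, hb ξ, hd ξ]
      push_cast
      rfl
    rw [Finset.sum_congr rfl (fun ξ _ => h2 ξ)] at h1
    exact_mod_cast h1
  have hsplit : ∑ ξ : Cfsg.IrrCharacter H, b ξ * d ξ =
      ∑ ξ ∈ Finset.univ.image ι, b ξ * d ξ + ∑ ξ ∈ (Finset.univ.image ι)ᶜ, b ξ * d ξ :=
    (Finset.sum_add_sum_compl _ _).symm
  have himg : ∑ ξ ∈ Finset.univ.image ι, b ξ * d ξ = e * t := by
    rw [Finset.sum_image (fun μ _ ν _ h => hιinj h)]
    rw [Finset.sum_congr rfl (fun μ _ => by rw [hbι μ, hdι μ])]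
    rw [← Finset.sum_mul, hasumN]
  have hcompl : ∀ ξ ∈ (Finset.univ.image ι)ᶜ, b ξ = 0 := by
    have h0 : ∑ ξ ∈ (Finset.univ.image ι)ᶜ, b ξ * d ξ = 0 := by
      rw [hsplit, himg] at hdeg
      omega
    intro ξ hξ
    have := (Finset.sum_eq_zero_iff.mp h0) ξ hξ
    rcases Nat.mul_eq_zero.mp this with h | h
    · exact h
    · exact absurd h (hdpos ξ).ne'
  have hΨexp : Ψ = ∑ μ, (a μ : ℂ) • (lin μ * ϑ₀) := by
    have h1 : Ψ = ∑ ξ : Cfsg.IrrCharacter H, (b ξ : ℂ) • (ξ : H → ℂ) := by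
      conv_lhs => rw [hexp]
      exact Finset.sum_congr rfl (fun ξ _ => by rw [hb ξ])
    rw [← Finset.sum_add_sum_compl (Finset.univ.image ι)] at h1
    rw [Finset.sum_eq_zero (s := (Finset.univ.image ι)ᶜ)
      (fun ξ hξ => by rw [hcompl ξ hξ, Nat.cast_zero, zero_smul]), add_zero,
      Finset.sum_image (fun μ _ ν _ h => hιinj h)] at h1
    rw [h1]
    exact Finset.sum_congr rfl (fun μ _ => by rw [hbι μ, hιval μ])
  -- the norm computation
  have hA : ∀ σ : (H ⧸ N) →* ℂˣ, (N.index : ℂ) * Cfsg.classInner Ψ (lin σ * Ψ) =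
      (if σ = 1 then (N.index : ℂ) else 0) + ((e : ℂ) ^ 2 - 1) := by
    intro σ
    rw [classInner_def, sum_eq_sum_translate N]
    have hFall : ∀ h : H, ∑ n : N, Ψ ((n : H) * h) * conj (Ψ ((n : H) * h)) =
        if h ∈ N then (e : ℂ) ^ 2 * (Nat.card N : ℂ) else (Nat.card N : ℂ) := by
      intro h
      by_cases hh : h ∈ N
      · rw [if_pos hh]
        have h1 : ∑ n : N, Ψ ((n : H) * h) * conj (Ψ ((n : H) * h)) =
            ∑ n : N, Ψ (n : H) * conj (Ψ (n : H)) :=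
          Fintype.sum_equiv (Equiv.mulRight (⟨h, hh⟩ : N)) _
            (fun n : N => Ψ (n : H) * conj (Ψ (n : H))) (fun n => rfl)
        rw [h1]
        have h2 : ∀ n : N, Ψ (n : H) * conj (Ψ (n : H)) =
            (e : ℂ) ^ 2 * (θ n * conj (θ n)) := by
          intro n
          rw [hres n, map_mul, Complex.conj_natCast]
          ring
        rw [Finset.sum_congr rfl (fun n _ => h2 n), ← Finset.mul_sum, hθθ]
      · rw [if_neg hh]
        exact hF h hh
    have h3 : ∀ h : H, ∑ n : N, Ψ ((n : H) * h) * conj ((lin σ * Ψ) ((n : H) * h)) =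
        conj (lin σ h) * (if h ∈ N then (e : ℂ) ^ 2 * (Nat.card N : ℂ) else (Nat.card N : ℂ)) := by
      intro h
      rw [← hFall h, Finset.mul_sum]
      apply Finset.sum_congr rfl
      intro n _
      rw [Pi.mul_apply, hlin_trans, map_mul]
      ring
    rw [Finset.sum_congr rfl (fun h _ => h3 h)]
    have h4 : ∀ h : H, conj (lin σ h) *
        (if h ∈ N then (e : ℂ) ^ 2 * (Nat.card N : ℂ) else (Nat.card N : ℂ)) =
        (Nat.card N : ℂ) * ((lin 1 h) * conj (lin σ h)) +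
          (if h ∈ N then ((e : ℂ) ^ 2 - 1) * (Nat.card N : ℂ) else 0) := by
      intro h
      rw [hlin_one]
      by_cases hh : h ∈ N
      · rw [if_pos hh, if_pos hh, hlin_mem σ h hh, map_one]
        ring
      · rw [if_neg hh, if_neg hh]
        ring
    rw [Finset.sum_congr rfl (fun h _ => h4 h), Finset.sum_add_distrib, ← Finset.mul_sum,
      hsum_mem (fun _ => ((e : ℂ) ^ 2 - 1) * (Nat.card N : ℂ)), Finset.sum_const, Finset.card_univ,
      nsmul_eq_mul, ← Nat.card_eq_fintype_card]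
    have h5 : ∑ h : H, lin 1 h * conj (lin σ h) =
        (Nat.card H : ℂ) * (if σ = 1 then 1 else 0) := by
      have h6 : Cfsg.classInner (lin 1) (lin σ) = if σ = 1 then 1 else 0 := by
        by_cases hσ : σ = 1
        · rw [if_pos hσ, hσ, classInner_irr_self (hlin_irr 1)]
        · rw [if_neg hσ, classInner_irr_ne (hlin_irr 1) (hlin_irr σ)
            (fun h => hσ (hlin_inj 1 σ h).symm)]
      rw [← h6, classInner_def]
      field_simp
    rw [h5, hcardH]
    split_ifs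
    · field_simp
    · field_simp
      ring
  -- the autocorrelation
  have hB : ∀ σ : (H ⧸ N) →* ℂˣ, Cfsg.classInner Ψ (lin σ * Ψ) =
      ∑ ν, (a ν : ℂ) * (a (ν * σ) : ℂ) := by
    intro σ
    have h1 : lin σ * Ψ = ∑ ν, (a ν : ℂ) • (lin (ν * σ) * ϑ₀) := by
      conv_lhs => rw [hΨexp]
      rw [Finset.mul_sum]
      apply Finset.sum_congr rfl
      intro ν _
      rw [hlin_mul]
      ext h
      simp only [Pi.mul_apply, Pi.smul_apply, smul_eq_mul]
      ring
    rw [h1, classInner_sum_right]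
    apply Finset.sum_congr rfl
    intro ν _
    rw [classInner_smul_right, Complex.conj_natCast, ha (ν * σ)]
  -- integers
  have hZ : ∀ σ : (H ⧸ N) →* ℂˣ, (N.index : ℤ) * ∑ ν, (a ν : ℤ) * (a (ν * σ) : ℤ) =
      (if σ = 1 then (N.index : ℤ) else 0) + ((e : ℤ) ^ 2 - 1) := by
    intro σ
    have h1 := hA σ
    rw [hB σ] at h1
    have h2 : ((((N.index : ℤ) * ∑ ν, (a ν : ℤ) * (a (ν * σ) : ℤ)) : ℤ) : ℂ) =
        (((if σ = 1 then (N.index : ℤ) else 0) + ((e : ℤ) ^ 2 - 1) : ℤ) : ℂ) := by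
      push_cast
      rw [h1]
    exact_mod_cast h2
  have hidx0 : (N.index : ℤ) ≠ 0 := by
    have : N.index ≠ 0 := Subgroup.index_ne_zero_of_finite
    exact_mod_cast this
  have key := dvd_of_flat_autocorrelation (fun ν : (H ⧸ N) →* ℂˣ => (a ν : ℤ)) (e : ℤ)
    (∑ ν : (H ⧸ N) →* ℂˣ, (a ν : ℤ) * (a ν : ℤ) - 1)
    (by exact_mod_cast hasumN) (by ring)
    (by
      intro σ hσ
      have h1 := hZ σ
      have h2 := hZ 1
      rw [if_neg hσ, zero_add] at h1
      rw [if_pos rfl] at h2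
      have hone : ∀ ν : (H ⧸ N) →* ℂˣ, ν * 1 = ν := fun ν => mul_one ν
      simp_rw [hone] at h2
      apply mul_left_cancel₀ hidx0
      rw [h1]
      linear_combination (-1 : ℤ) * h2)
  rw [hcardΛ] at key
  exact key

end Cfsg.Agent.Helper6
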