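import Mathlib
import Cfsg.Prelude.Def_Characters
import Cfsg.Agent.Helper6.CliffordCorr

/-!
# The Clifford correspondence, second half
-/

set_option autoImplicit false
set_option linter.style.haveILetI false

namespace Cfsg.Agent.Helper6

open Module Representation
open scoped ComplexConjugate

universe u v

variable {G : Type u} [Group G]

/-- Core of the Clifford correspondence: any irreducible constituent `ψ` of `χ_T` lying over `ϑ`
induces to `χ`. -/
theorem clifford_corr_core [Fintype G] (H : Subgroup G) [hN : H.Normal] [Fintype H]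
    (ϑ : H → ℂ) (hϑ : Cfsg.IsIrrCharacter H ϑ) (T : Subgroup G) [Fintype T]
    (hT' : ∀ g : G, g ∈ T ↔ conjFun H ϑ g = ϑ)
    (hHT : H ≤ T) (χ : G → ℂ) (hχ : Cfsg.IsIrrCharacter G χ)
    (hcon : Cfsg.classInner (fun n : H => χ n) ϑ ≠ 0)
    (ψ : T → ℂ) (hψ : Cfsg.IsIrrCharacter T ψ)
    (hc : Cfsg.classInner (fun t : T => χ t) ψ ≠ 0)
    (hf : Cfsg.classInner (fun n : H => ψ ⟨(n : G), hHT n.2⟩) ϑ ≠ 0) :
    Cfsg.indFun T ψ = χ ∧
      Cfsg.classInner (fun n : H => ψ ⟨(n : G), hHT n.2⟩) ϑ =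
        Cfsg.classInner (fun n : H => χ n) ϑ := by
  classical
  have hχchar := IsIrrCharacter.isCharacter hχ
  have hχcf := IsCharacter.isClassFunction hχchar
  have hχT : Cfsg.IsCharacter T (fun t : T => χ t) := IsCharacter.restrict T hχchar
  have hψchar := IsIrrCharacter.isCharacter hψ
  have hclT := clifford_of_invariant H T hHT ϑ hϑ (fun t ht => (hT' t).mp ht) ψ hψ hf
  set f := Cfsg.classInner (fun n : H => ψ ⟨(n : G), hHT n.2⟩) ϑ with hfdef
  have hψ1 : ψ 1 = f * ϑ 1 := by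
    have := congrFun hclT 1
    rw [Pi.smul_apply, smul_eq_mul] at this
    exact this
  have hdeg := clifford_degree H χ hχ ϑ hϑ hcon T hT'
  set e := Cfsg.classInner (fun n : H => χ n) ϑ with hedef
  have hind : Cfsg.IsCharacter G (Cfsg.indFun T ψ) := isCharacter_indFun T ψ hψchar
  have hindχ : Cfsg.classInner (Cfsg.indFun T ψ) χ ≠ 0 := by
    rw [frobenius_reciprocity T ψ χ hχcf, classInner_conj_symm]
    intro h
    exact hc ((map_eq_zero (starRingEnd ℂ)).mp h)
  have hsubT : Cfsg.IsCharacter T ((fun t : T => χ t) - ψ) :=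
    sub_isCharacter_of_constituent hχT hψ hc
  have hsubH : Cfsg.IsCharacter H
      (fun n : H => ((fun t : T => χ t) - ψ) (Subgroup.inclusion hHT n)) :=
    IsCharacter.comp_hom (Subgroup.inclusion hHT) hsubT
  obtain ⟨k, hk⟩ := classInner_char_char_nat hsubH (IsIrrCharacter.isCharacter hϑ)
  have hk' : e - f = k := by
    rw [← hk, hedef, hfdef, ← classInner_sub_left]
    rfl
  have hΔ : Cfsg.IsCharacter G (Cfsg.indFun T ψ - χ) :=
    sub_isCharacter_of_constituent hind hχ hindχ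
  obtain ⟨m, hm⟩ := IsCharacter.apply_one hΔ
  rw [Pi.sub_apply, indFun_apply_one, hψ1, hdeg] at hm
  obtain ⟨d, hd, -, hdpos⟩ := IsIrrCharacter.degree_dvd_card hϑ
  rw [hd] at hm
  have hidx : 0 < T.index := Nat.pos_of_ne_zero Subgroup.index_ne_zero_of_finite
  have hef : e = f + k := by rw [← hk']; ring
  rw [hef] at hm
  have hm' : ((m + k * T.index * d : ℕ) : ℂ) = 0 := by
    push_cast
    rw [← hm]
    ring
  have hm0 : m + k * T.index * d = 0 := by exact_mod_cast hm'
  have hk0 : k = 0 := by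
    have h1 : k * T.index * d = 0 := by omega
    have h2 : 0 < T.index * d := Nat.mul_pos hidx hdpos
    rw [mul_assoc] at h1
    rcases Nat.mul_eq_zero.mp h1 with h | h
    · exact h
    · omega
  have hfe : f = e := by rw [hef, hk0, Nat.cast_zero, add_zero]
  refine ⟨?_, hfe⟩
  apply eq_of_constituent_of_degree hind hχ hindχ
  rw [indFun_apply_one, hψ1, hdeg, hfe]
  ring

/-- Frobenius reciprocity for `H ≤ T`, phrased with `H.subgroupOf T`. -/
theorem classInner_indFun_subgroupOf [Fintype G] (H T : Subgroup G) (hHT : H ≤ T) [Fintype T]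
    [Fintype H] (ϑ : H → ℂ) (ψ : T → ℂ) (hψ : Cfsg.IsClassFunction T ψ) :
    Cfsg.classInner (Cfsg.indFun (H.subgroupOf T)
      (fun x => ϑ ⟨(x : T), Subgroup.mem_subgroupOf.mp x.2⟩)) ψ =
      Cfsg.classInner ϑ (fun n : H => ψ ⟨(n : G), hHT n.2⟩) := by
  classical
  haveI : Fintype (H.subgroupOf T) := Fintype.ofFinite _
  rw [frobenius_reciprocity (H.subgroupOf T) _ ψ hψ]
  let e : H.subgroupOf T ≃* H := Subgroup.subgroupOfEquivOfLe hHT
  have h1 : (fun x : H.subgroupOf T => ϑ ⟨(x : T), Subgroup.mem_subgroupOf.mp x.2⟩) = ϑ ∘ e := rfl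
  have h2 : (fun h : H.subgroupOf T => ψ h) = (fun n : H => ψ ⟨(n : G), hHT n.2⟩) ∘ e := rfl
  rw [h1, h2]
  exact classInner_comp_equiv' e.toEquiv _ _


/-- An irreducible character of the inertia group lying over `ϑ` induces irreducibly. -/
theorem clifford_corr_ind_irr [Fintype G] (H : Subgroup G) [hN : H.Normal] [Fintype H]
    (ϑ : H → ℂ) (hϑ : Cfsg.IsIrrCharacter H ϑ) (T : Subgroup G) [Fintype T]
    (hT' : ∀ g : G, g ∈ T ↔ conjFun H ϑ g = ϑ)
    (hHT : H ≤ T) (ψ : T → ℂ) (hψ : Cfsg.IsIrrCharacter T ψ)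
    (hf : Cfsg.classInner (fun n : H => ψ ⟨(n : G), hHT n.2⟩) ϑ ≠ 0) :
    Cfsg.IsIrrCharacter G (Cfsg.indFun T ψ) ∧
      Cfsg.classInner (fun n : H => ψ ⟨(n : G), hHT n.2⟩) ϑ =
        Cfsg.classInner (fun n : H => Cfsg.indFun T ψ n) ϑ := by
  classical
  have hψchar := IsIrrCharacter.isCharacter hψ
  have hind : Cfsg.IsCharacter G (Cfsg.indFun T ψ) := isCharacter_indFun T ψ hψchar
  have hind0 : Cfsg.indFun T ψ ≠ 0 := by
    intro h
    have h1 := congrFun h 1
    rw [indFun_apply_one, Pi.zero_apply] at h1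
    obtain ⟨d, hd, -, hdpos⟩ := IsIrrCharacter.degree_dvd_card hψ
    rw [hd] at h1
    have hidx : 0 < T.index := Nat.pos_of_ne_zero Subgroup.index_ne_zero_of_finite
    have : T.index * d = 0 := by exact_mod_cast h1
    have := Nat.mul_pos hidx hdpos
    omega
  obtain ⟨χ, hχ, hχc⟩ := exists_irr_constituent hind hind0
  have hχchar := IsIrrCharacter.isCharacter hχ
  have hχcf := IsCharacter.isClassFunction hχchar
  have hχT : Cfsg.IsCharacter T (fun t : T => χ t) := IsCharacter.restrict T hχchar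
  have hc : Cfsg.classInner (fun t : T => χ t) ψ ≠ 0 := by
    rw [frobenius_reciprocity T ψ χ hχcf, classInner_conj_symm] at hχc
    intro h
    apply hχc
    rw [h, map_zero]
  -- [χ_H, ϑ] ≠ 0
  have hsubT : Cfsg.IsCharacter T ((fun t : T => χ t) - ψ) :=
    sub_isCharacter_of_constituent hχT hψ hc
  have hsubH : Cfsg.IsCharacter H
      (fun n : H => ((fun t : T => χ t) - ψ) (Subgroup.inclusion hHT n)) :=
    IsCharacter.comp_hom (Subgroup.inclusion hHT) hsubT
  obtain ⟨k, hk⟩ := classInner_char_char_nat hsubH (IsIrrCharacter.isCharacter hϑ)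
  have hψH : Cfsg.IsCharacter H (fun n : H => ψ (Subgroup.inclusion hHT n)) :=
    IsCharacter.comp_hom (Subgroup.inclusion hHT) hψchar
  obtain ⟨f, hfn⟩ := classInner_char_char_nat hψH (IsIrrCharacter.isCharacter hϑ)
  have hfn' : Cfsg.classInner (fun n : H => ψ ⟨(n : G), hHT n.2⟩) ϑ = f := hfn
  have hk' : Cfsg.classInner (fun n : H => χ n) ϑ -
      Cfsg.classInner (fun n : H => ψ ⟨(n : G), hHT n.2⟩) ϑ = k := by
    rw [← hk, ← classInner_sub_left]
    rfl
  have hcon : Cfsg.classInner (fun n : H => χ n) ϑ ≠ 0 := by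
    have : Cfsg.classInner (fun n : H => χ n) ϑ = ((k + f : ℕ) : ℂ) := by
      push_cast
      rw [← hk', hfn']
      ring
    rw [this]
    have hf0 : f ≠ 0 := by
      intro h0
      apply hf
      rw [hfn', h0, Nat.cast_zero]
    exact_mod_cast (by omega : k + f ≠ 0)
  obtain ⟨h1, h2⟩ := clifford_corr_core H ϑ hϑ T hT' hHT χ hχ hcon ψ hψ hc hf
  rw [h1]
  exact ⟨hχ, h2⟩

end Cfsg.Agent.Helper6
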