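import Mathlib
import Cfsg.Prelude.Def_Characters
import Cfsg.Agent.Helper6.MGroup
import Cfsg.Agent.Helper6.Gallagher
import Cfsg.Agent.Helper6.IrrCrit
import Cfsg.Agent.Helper6.Artin
import Cfsg.Agent.Helper6.CliffordCorr2

/-!
# Characters lying over an invariant character with abelian quotient
-/

set_option autoImplicit false
set_option linter.style.haveILetI false

namespace Cfsg.Agent.Helper6

open scoped ComplexConjugate
open Module

universe u v

variable {X : Type u} [Group X]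

/-- The product of a linear character and an irreducible character is irreducible. -/
theorem IsIrrCharacter.mul_hom [Fintype X] (μ : X →* ℂˣ) {ψ : X → ℂ}
    (hψ : Cfsg.IsIrrCharacter X ψ) :
    Cfsg.IsIrrCharacter X (ψ * fun g => ((μ g : ℂˣ) : ℂ)) := by
  apply isIrrCharacter_of_classInner_self
  · exact IsCharacter.mul (IsIrrCharacter.isCharacter hψ)
      (IsIrrCharacter.isCharacter (isIrrCharacter_of_hom μ))
  · rw [← classInner_irr_self hψ, classInner_def, classInner_def]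
    congr 1
    apply Finset.sum_congr rfl
    intro g _
    have hnorm : ((μ g : ℂˣ) : ℂ) * conj ((μ g : ℂˣ) : ℂ) = 1 := by
      rw [Complex.mul_conj]
      have h1 : ‖((μ g : ℂˣ) : ℂ)‖ = 1 := by
        apply Complex.norm_eq_one_of_pow_eq_one (n := orderOf g)
        · rw [← Units.val_pow_eq_pow_val, ← map_pow, pow_orderOf_eq_one, map_one, Units.val_one]
        · exact (orderOf_pos g).ne'
      rw [Complex.normSq_eq_norm_sq, h1]
      simp
    simp only [Pi.mul_apply, map_mul]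
    calc ψ g * ((μ g : ℂˣ) : ℂ) * (conj (ψ g) * conj ((μ g : ℂˣ) : ℂ))
        = ψ g * conj (ψ g) * (((μ g : ℂˣ) : ℂ) * conj ((μ g : ℂˣ) : ℂ)) := by ring
      _ = ψ g * conj (ψ g) := by rw [hnorm, mul_one]

/-- Clifford's theorem for an invariant character of a normal subgroup. -/
theorem clifford_invariant_top [Fintype X] (N : Subgroup X) [hN : N.Normal] [Fintype N]
    (ϑ : N → ℂ) (hϑ : Cfsg.IsIrrCharacter N ϑ) (hinv : ∀ x : X, conjFun N ϑ x = ϑ)
    (ψ : X → ℂ) (hψ : Cfsg.IsIrrCharacter X ψ)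
    (hcon : Cfsg.classInner (fun n : N => ψ n) ϑ ≠ 0) :
    (fun n : N => ψ n) = Cfsg.classInner (fun n : N => ψ n) ϑ • ϑ := by
  have hcl := clifford N ψ hψ ϑ hϑ hcon
  have hset : {φ : N → ℂ | ∃ g : X, φ = conjFun N ϑ g} = {ϑ} := by
    ext φ
    constructor
    · rintro ⟨g, rfl⟩
      exact hinv g
    · intro h
      rw [Set.mem_singleton_iff] at h
      rw [h]
      exact ⟨1, (conjFun_one N ϑ).symm⟩
  rw [hset, finsum_mem_singleton] at hcl
  exact hcl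

/-- The trivial character of a normal subgroup induces to the regular character of the
quotient. -/
theorem indFun_one_normal [Fintype X] (N : Subgroup X) [hN : N.Normal] (g : X)
    [Decidable (g ∈ N)] :
    Cfsg.indFun N (fun _ => (1 : ℂ)) g = if g ∈ N then (N.index : ℂ) else 0 := by
  classical
  rw [indFun_apply]
  split_ifs with hg
  · have : ∀ x : X, Cfsg.extendByZero N (fun _ => (1 : ℂ)) (x⁻¹ * g * x) = 1 := by
      intro x
      have hmem : x⁻¹ * g * x ∈ N := by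
        have := hN.conj_mem g hg x⁻¹
        rwa [inv_inv] at this
      rw [extendByZero_mem _ _ hmem]
    simp_rw [this]
    rw [Finset.sum_const, Finset.card_univ, nsmul_eq_mul, mul_one, ← Nat.card_eq_fintype_card,
      ← Subgroup.card_mul_index N]
    have hc : (Nat.card N : ℂ) ≠ 0 := by exact_mod_cast Nat.card_pos.ne'
    push_cast
    rw [← mul_assoc, inv_mul_cancel₀ hc, one_mul]
  · have : ∀ x : X, Cfsg.extendByZero N (fun _ => (1 : ℂ)) (x⁻¹ * g * x) = 0 := by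
      intro x
      apply extendByZero_not_mem
      intro hmem
      apply hg
      have := hN.conj_mem _ hmem x
      simpa [mul_assoc] using this
    simp_rw [this]
    simp

set_option maxHeartbeats 1600000 in
theorem abelian_quotient_clifford [Fintype X] [Fintype (Cfsg.IrrCharacter X)] (N : Subgroup X)
    [hN : N.Normal] [Fintype N]
    (ϑ : N → ℂ) (hϑ : Cfsg.IsIrrCharacter N ϑ) (hinv : ∀ x : X, conjFun N ϑ x = ϑ)
    (hab : ∀ x y : X, x * y * x⁻¹ * y⁻¹ ∈ N) :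
    ∃ (e : ℕ) (Ψ : Finset (Cfsg.IrrCharacter X)), 0 < e ∧
      (∀ ψ : Cfsg.IrrCharacter X, ψ ∈ Ψ ↔
        Cfsg.classInner (fun n : N => (ψ : X → ℂ) n) ϑ ≠ 0) ∧
      (∀ ψ ∈ Ψ, (fun n : N => (ψ : X → ℂ) n) = (e : ℂ) • ϑ) ∧
      e ^ 2 * Ψ.card * Nat.card N = Nat.card X ∧
      Cfsg.indFun N ϑ = (e : ℂ) • ∑ ψ ∈ Ψ, (ψ : X → ℂ) := by
  classical
  have hϑc := IsIrrCharacter.isCharacter hϑ
  have hϑ1 : ϑ 1 ≠ 0 := IsIrrCharacter.apply_one_ne_zero hϑ
  set f : Cfsg.IrrCharacter X → ℂ :=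
    fun ψ => Cfsg.classInner (fun n : N => (ψ : X → ℂ) n) ϑ with hfdef
  set Ψ := Finset.univ.filter (fun ψ : Cfsg.IrrCharacter X => f ψ ≠ 0) with hΨ
  have hmemΨ : ∀ ψ, ψ ∈ Ψ ↔ f ψ ≠ 0 := by
    intro ψ
    rw [hΨ, Finset.mem_filter]
    simp
  have hf : ∀ ψ ∈ Ψ, (fun n : N => (ψ : X → ℂ) n) = f ψ • ϑ := by
    intro ψ hψ
    exact clifford_invariant_top N ϑ hϑ hinv ψ ψ.2 ((hmemΨ ψ).mp hψ)
  have hnat : ∀ ψ : Cfsg.IrrCharacter X, ∃ n : ℕ, f ψ = n := by
    intro ψ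
    exact classInner_char_char_nat (IsCharacter.restrict N (IsIrrCharacter.isCharacter ψ.2)) hϑc
  have hdeg : ∀ ψ ∈ Ψ, (ψ : X → ℂ) 1 = f ψ * ϑ 1 := by
    intro ψ hψ
    exact congrFun (hf ψ hψ) 1
  -- Frobenius reciprocity
  have hfrob : ∀ ψ : Cfsg.IrrCharacter X,
      Cfsg.classInner (Cfsg.indFun N ϑ) (ψ : X → ℂ) = f ψ := by
    intro ψ
    rw [frobenius_reciprocity N ϑ _ (IsCharacter.isClassFunction (IsIrrCharacter.isCharacter ψ.2)),
      classInner_conj_symm]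
    obtain ⟨n, hn⟩ := hnat ψ
    change conj (f ψ) = f ψ
    rw [hn]
    simp
  -- linear characters of the quotient
  set L := Finset.univ.filter (fun χ : Cfsg.IrrCharacter X => ∀ n ∈ N, (χ : X → ℂ) n =
      (χ : X → ℂ) 1) with hL
  have hL1 : ∀ χ ∈ L, (χ : X → ℂ) 1 = 1 := by
    intro χ hχ
    rw [hL, Finset.mem_filter] at hχ
    apply irr_degree_one_of_commutators χ.2
    intro a b
    exact hχ.2 _ (hab a b)
  have hInd1 : Cfsg.indFun N (fun _ => (1 : ℂ)) =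
      ∑ χ ∈ L, (χ : X → ℂ) 1 • (χ : X → ℂ) := by
    funext g
    rw [indFun_one_normal, Finset.sum_apply]
    simp only [Pi.smul_apply, smul_eq_mul]
    exact (sum_degree_mul_irr_of_le_ker N g).symm
  -- all members of Ψ have the same degree
  have hsame : ∀ ψ₁ ∈ Ψ, ∀ ψ₂ ∈ Ψ, (ψ₂ : X → ℂ) 1 = (ψ₁ : X → ℂ) 1 := by
    intro ψ₁ h₁ ψ₂ h₂
    have hcf1 := IsCharacter.isClassFunction (IsIrrCharacter.isCharacter ψ₁.2)
    have h5 : (ψ₁ : X → ℂ) * Cfsg.indFun N (fun _ => (1 : ℂ)) = f ψ₁ • Cfsg.indFun N ϑ := by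
      rw [mul_indFun N _ _ hcf1, ← indFun_smul]
      congr 1
      have := hf ψ₁ h₁
      funext n
      rw [mul_one]
      exact congrFun this n
    have h6 : Cfsg.classInner ((ψ₁ : X → ℂ) * Cfsg.indFun N (fun _ => (1 : ℂ))) (ψ₂ : X → ℂ)
        ≠ 0 := by
      rw [h5, classInner_smul_left, hfrob ψ₂]
      exact mul_ne_zero ((hmemΨ ψ₁).mp h₁) ((hmemΨ ψ₂).mp h₂)
    rw [hInd1, Finset.mul_sum, classInner_sum_left] at h6
    obtain ⟨χ, hχL, hχne⟩ := Finset.exists_ne_zero_of_sum_ne_zero h6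
    rw [mul_smul_comm, classInner_smul_left] at hχne
    have hχne' := right_ne_zero_of_mul hχne
    obtain ⟨μ, hμ⟩ := exists_hom_of_irr_degree_one χ.2 (hL1 χ hχL)
    have hirr : Cfsg.IsIrrCharacter X ((ψ₁ : X → ℂ) * (χ : X → ℂ)) := by
      rw [hμ]
      exact IsIrrCharacter.mul_hom μ ψ₁.2
    have heq : (ψ₁ : X → ℂ) * (χ : X → ℂ) = (ψ₂ : X → ℂ) := by
      by_contra hne
      exact hχne' (classInner_irr_ne hirr ψ₂.2 hne)
    rw [← heq, Pi.mul_apply, hL1 χ hχL, mul_one]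
  -- Ψ is nonempty
  have hIndc : Cfsg.IsCharacter X (Cfsg.indFun N ϑ) := isCharacter_indFun N ϑ hϑc
  have hInd0 : Cfsg.indFun N ϑ ≠ 0 := by
    intro h0
    have := congrFun h0 1
    rw [indFun_apply_one, Pi.zero_apply] at this
    have hidx : (N.index : ℂ) ≠ 0 := by
      exact_mod_cast Subgroup.index_ne_zero_of_finite
    exact mul_ne_zero hidx hϑ1 this
  obtain ⟨ψ₀f, hψ₀irr, hψ₀ne⟩ := exists_irr_constituent hIndc hInd0
  set ψ₀ : Cfsg.IrrCharacter X := ⟨ψ₀f, hψ₀irr⟩ with hψ₀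
  have hψ₀Ψ : ψ₀ ∈ Ψ := by
    rw [hmemΨ, ← hfrob]
    exact hψ₀ne
  obtain ⟨e, he⟩ := hnat ψ₀
  have he0 : e ≠ 0 := by
    rintro rfl
    exact (hmemΨ ψ₀).mp hψ₀Ψ (by rw [he]; simp)
  have hfe : ∀ ψ ∈ Ψ, f ψ = e := by
    intro ψ hψ
    have h1 := hdeg ψ hψ
    have h2 := hdeg ψ₀ hψ₀Ψ
    have h3 := hsame ψ₀ hψ₀Ψ ψ hψ
    rw [h1, h2] at h3
    rw [← he]
    exact mul_right_cancel₀ hϑ1 h3
  have hexp : Cfsg.indFun N ϑ = (e : ℂ) • ∑ ψ ∈ Ψ, (ψ : X → ℂ) := by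
    conv_lhs => rw [classFunction_expansion (Cfsg.indFun N ϑ)
      (IsCharacter.isClassFunction hIndc)]
    simp_rw [hfrob]
    rw [Finset.smul_sum, hΨ, Finset.sum_filter]
    apply Finset.sum_congr rfl
    intro ψ _
    by_cases hψ : f ψ ≠ 0
    · rw [if_pos hψ, hfe ψ ((hmemΨ ψ).mpr hψ)]
    · rw [if_neg hψ]
      push Not at hψ
      rw [hψ, zero_smul]
  refine ⟨e, Ψ, Nat.pos_of_ne_zero he0, ?_, ?_, ?_, hexp⟩
  · intro ψ
    exact hmemΨ ψ
  · intro ψ hψ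
    rw [hf ψ hψ, hfe ψ hψ]
  · have h1 := congrFun hexp 1
    rw [indFun_apply_one, Pi.smul_apply, Finset.sum_apply] at h1
    have h2 : ∑ ψ ∈ Ψ, (ψ : X → ℂ) 1 = (Ψ.card : ℂ) * ((e : ℂ) * ϑ 1) := by
      rw [Finset.sum_congr rfl (fun ψ hψ => by rw [hdeg ψ hψ, hfe ψ hψ]), Finset.sum_const,
        nsmul_eq_mul]
    rw [h2, smul_eq_mul] at h1
    have h3 : (N.index : ℂ) = ((e ^ 2 * Ψ.card : ℕ) : ℂ) := by
      have : (N.index : ℂ) * ϑ 1 = ((e ^ 2 * Ψ.card : ℕ) : ℂ) * ϑ 1 := by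
        rw [h1]
        push_cast
        ring
      exact mul_right_cancel₀ hϑ1 this
    have h4 : N.index = e ^ 2 * Ψ.card := by exact_mod_cast h3
    rw [← h4, mul_comm, Subgroup.card_mul_index]

end Cfsg.Agent.Helper6
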