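import Mathlib
import Cfsg.Prelude.Def_Characters
import Cfsg.Agent.Helper6.CliffordCorr2
import Cfsg.Agent.Helper6.Gallagher
import Cfsg.Agent.Helper6.Linear

/-!
# Uniqueness in the Clifford correspondence and freeness of the Gallagher action
-/

set_option autoImplicit false
set_option linter.style.haveILetI false

namespace Cfsg.Agent.Helper6

open Module Representation
open scoped ComplexConjugate

universe u v

variable {G : Type u} [Group G]

/-- Injectivity of the Clifford correspondence. -/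
theorem clifford_corr_unique [Fintype G] (H : Subgroup G) [hN : H.Normal] [Fintype H]
    (ϑ : H → ℂ) (hϑ : Cfsg.IsIrrCharacter H ϑ) (T : Subgroup G) [Fintype T]
    (hT' : ∀ g : G, g ∈ T ↔ conjFun H ϑ g = ϑ)
    (hHT : H ≤ T) (ψ₁ ψ₂ : T → ℂ) (hψ₁ : Cfsg.IsIrrCharacter T ψ₁)
    (hψ₂ : Cfsg.IsIrrCharacter T ψ₂)
    (hf₁ : Cfsg.classInner (fun n : H => ψ₁ ⟨(n : G), hHT n.2⟩) ϑ ≠ 0)
    (hf₂ : Cfsg.classInner (fun n : H => ψ₂ ⟨(n : G), hHT n.2⟩) ϑ ≠ 0)
    (heq : Cfsg.indFun T ψ₁ = Cfsg.indFun T ψ₂) : ψ₁ = ψ₂ := by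
  classical
  by_contra hne
  obtain ⟨hirr, he₁⟩ := clifford_corr_ind_irr H ϑ hϑ T hT' hHT ψ₁ hψ₁ hf₁
  obtain ⟨-, he₂⟩ := clifford_corr_ind_irr H ϑ hϑ T hT' hHT ψ₂ hψ₂ hf₂
  set χ := Cfsg.indFun T ψ₁ with hχdef
  rw [← heq] at he₂
  have hχchar := IsIrrCharacter.isCharacter hirr
  have hχcf := IsCharacter.isClassFunction hχchar
  have hχT : Cfsg.IsCharacter T (fun t : T => χ t) := IsCharacter.restrict T hχchar
  have hc₁ : Cfsg.classInner (fun t : T => χ t) ψ₁ = 1 := by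
    have h := frobenius_reciprocity T ψ₁ χ hχcf
    rw [← hχdef, classInner_irr_self hirr] at h
    rw [classInner_conj_symm, ← h, map_one]
  have hc₂ : Cfsg.classInner (fun t : T => χ t) ψ₂ = 1 := by
    have h := frobenius_reciprocity T ψ₂ χ hχcf
    rw [← heq, classInner_irr_self hirr] at h
    rw [classInner_conj_symm, ← h, map_one]
  have hsub₁ : Cfsg.IsCharacter T ((fun t : T => χ t) - ψ₁) :=
    sub_isCharacter_of_constituent hχT hψ₁ (by rw [hc₁]; exact one_ne_zero)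
  have hc₂' : Cfsg.classInner ((fun t : T => χ t) - ψ₁) ψ₂ ≠ 0 := by
    rw [classInner_sub_left, hc₂, classInner_irr_ne hψ₁ hψ₂ hne, sub_zero]
    exact one_ne_zero
  have hsub₂ : Cfsg.IsCharacter T ((fun t : T => χ t) - ψ₁ - ψ₂) :=
    sub_isCharacter_of_constituent hsub₁ hψ₂ hc₂'
  have hsubH : Cfsg.IsCharacter H
      (fun n : H => ((fun t : T => χ t) - ψ₁ - ψ₂) (Subgroup.inclusion hHT n)) :=
    IsCharacter.comp_hom (Subgroup.inclusion hHT) hsub₂
  obtain ⟨k, hk⟩ := classInner_char_char_nat hsubH (IsIrrCharacter.isCharacter hϑ)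
  have hψ₁H : Cfsg.IsCharacter H (fun n : H => ψ₁ ⟨(n : G), hHT n.2⟩) :=
    IsCharacter.comp_hom (Subgroup.inclusion hHT) (IsIrrCharacter.isCharacter hψ₁)
  obtain ⟨e, he⟩ := classInner_char_char_nat hψ₁H (IsIrrCharacter.isCharacter hϑ)
  have hsplit : (fun n : H => ((fun t : T => χ t) - ψ₁ - ψ₂) (Subgroup.inclusion hHT n)) =
      (fun n : H => χ n) - (fun n : H => ψ₁ ⟨(n : G), hHT n.2⟩) -
        (fun n : H => ψ₂ ⟨(n : G), hHT n.2⟩) := by
    funext n
    rfl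
  have he₂' : Cfsg.classInner (fun n : H => ψ₂ ⟨(n : G), hHT n.2⟩) ϑ = e := by
    rw [he₂, ← he₁, he]
  rw [hsplit, classInner_sub_left, classInner_sub_left, ← he₁, he₂', he] at hk
  rw [he] at hf₁
  have h1 : ((e + k : ℕ) : ℂ) = 0 := by
    push_cast
    linear_combination -hk
  have h2 : e + k = 0 := by exact_mod_cast h1
  have h3 : e = 0 := by omega
  apply hf₁
  rw [h3, Nat.cast_zero]

/-- Freeness of the Gallagher action: if `ψ_N` is irreducible, `μ` is a linear character trivial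
on `N` and `ψ μ = ψ`, then `μ` is trivial. -/
theorem hom_eq_one_of_mul_eq {X : Type u} [Group X] [Fintype X] (N : Subgroup X) [hN : N.Normal]
    [Fintype N] (ψ : X → ℂ) (hψ : Cfsg.IsIrrCharacter X ψ)
    (hψN : Cfsg.IsIrrCharacter N (fun n : N => ψ n)) (μ : X →* ℂˣ)
    (hμN : ∀ n ∈ N, μ n = 1) (hμψ : ∀ g, ψ g * ((μ g : ℂˣ) : ℂ) = ψ g) : μ = 1 := by
  classical
  obtain ⟨-, -, h3⟩ := gallagher_avg N ψ hψ hψN ψ hψ _ rfl
  have h3' := h3 rfl
  ext g
  have hg := congrFun h3' g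
  have hex : ∃ n : N, ψ ((n : X) * g) ≠ 0 := by
    by_contra hno
    push Not at hno
    have : ∑ n : N, ψ ((n : X) * g) * conj (ψ ((n : X) * g)) = 0 := by
      apply Finset.sum_eq_zero
      intro n _
      rw [hno n, zero_mul]
    rw [this, mul_zero] at hg
    exact zero_ne_one hg
  obtain ⟨n, hn⟩ := hex
  have h1 := hμψ ((n : X) * g)
  have h2 : ((μ ((n : X) * g) : ℂˣ) : ℂ) = 1 := by
    have : ψ ((n : X) * g) * (((μ ((n : X) * g) : ℂˣ) : ℂ) - 1) = 0 := by
      rw [mul_sub, h1, mul_one, sub_self]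
    rcases mul_eq_zero.mp this with h | h
    · exact absurd h hn
    · exact sub_eq_zero.mp h
  rw [map_mul, hμN n n.2, one_mul] at h2
  rw [h2]
  simp

end Cfsg.Agent.Helper6
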