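import Mathlib
import Cfsg.Prelude.Def_Characters
import Cfsg.Prelude.Def_Blocks
import Cfsg.Agent.Helper6.CliffordUnique
import Cfsg.Agent.Helper6.AbelianInertia
import Cfsg.Agent.Helper6.Artin
import Cfsg.Agent.Helper6.Codegree
import Cfsg.Agent.Helper6.BrauerPerm2

/-!
# Counting linear characters against an orbit of irreducible characters
-/

set_option autoImplicit false
set_option linter.style.haveILetI false

namespace Cfsg.Agent.Helper6

open Module Representation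
open scoped ComplexConjugate
open scoped commutatorElement

universe u v

variable {G : Type u} [Group G]

theorem finite_hom_units [Finite G] : Finite (G →* ℂˣ) := by
  apply Nat.finite_of_card_ne_zero
  rw [card_hom_units]
  exact Subgroup.index_ne_zero_of_finite

/-- The number of linear characters trivial on a subgroup is at most its index. -/
theorem card_hom_trivial_on_le_index [Finite G] (I : Subgroup G) :
    Nat.card {μ : G →* ℂˣ // ∀ i ∈ I, μ i = 1} ≤ I.index := by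
  classical
  set J : Subgroup G := Subgroup.normalClosure (I : Set G) with hJ
  haveI : J.Normal := Subgroup.normalClosure_normal
  have hIJ : I ≤ J := Subgroup.le_normalClosure
  have hker : ∀ μ : {μ : G →* ℂˣ // ∀ i ∈ I, μ i = 1}, J ≤ μ.1.ker := by
    intro μ
    apply Subgroup.normalClosure_le_normal
    intro i hi
    exact MonoidHom.mem_ker.mpr (μ.2 i hi)
  let Φ : {μ : G →* ℂˣ // ∀ i ∈ I, μ i = 1} → (G ⧸ J →* ℂˣ) :=
    fun μ => QuotientGroup.lift J μ.1 (hker μ)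
  have hΦ : Function.Injective Φ := by
    intro μ μ' h
    apply Subtype.ext
    ext g
    have := congrArg (fun f : G ⧸ J →* ℂˣ => f (QuotientGroup.mk g)) h
    simp only [Φ, QuotientGroup.lift_mk] at this
    rw [this]
  haveI : Finite (G ⧸ J →* ℂˣ) := finite_hom_units
  calc Nat.card {μ : G →* ℂˣ // ∀ i ∈ I, μ i = 1} ≤ Nat.card (G ⧸ J →* ℂˣ) :=
        Nat.card_le_card_of_injective Φ hΦ
    _ = (commutator (G ⧸ J)).index := card_hom_units
    _ ≤ Nat.card (G ⧸ J) := Nat.le_of_dvd Nat.card_pos (Subgroup.index_dvd_card _)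
    _ = J.index := (Subgroup.index_eq_card J).symm
    _ ≤ I.index := Nat.le_of_dvd (Nat.pos_of_ne_zero Subgroup.index_ne_zero_of_finite)
        (Subgroup.index_dvd_of_le hIJ)

/-- A non-abelian minimal normal subgroup lies in the commutator subgroup. -/
theorem le_commutator_of_minimal_nonabelian (N : Subgroup G) [hN : N.Normal]
    (hmin : ∀ M : Subgroup G, M.Normal → M ≤ N → M = ⊥ ∨ M = N)
    (hna : ¬ IsMulCommutative ↥N) : N ≤ commutator G := by
  have hM : (⁅N, N⁆ : Subgroup G).Normal := Subgroup.commutator_normal N N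
  have hle : ⁅N, N⁆ ≤ N := Subgroup.commutator_le_right N N
  rcases hmin _ hM hle with h | h
  · exfalso
    apply hna
    refine ⟨⟨fun a b => ?_⟩⟩
    have hab : ⁅(a : G), (b : G)⁆ ∈ (⁅N, N⁆ : Subgroup G) :=
      Subgroup.commutator_mem_commutator a.2 b.2
    rw [h, Subgroup.mem_bot, commutatorElement_eq_one_iff_mul_comm] at hab
    exact Subtype.ext hab
  · rw [commutator_def]
    calc N = ⁅N, N⁆ := h.symm
      _ ≤ ⁅(⊤ : Subgroup G), ⊤⁆ := Subgroup.commutator_mono le_top le_top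

/-- A linear character is trivial on the commutator subgroup. -/
theorem hom_eq_one_of_mem_commutator (μ : G →* ℂˣ) {g : G} (hg : g ∈ commutator G) : μ g = 1 := by
  have : commutator G ≤ μ.ker := Abelianization.commutator_subset_ker μ
  exact MonoidHom.mem_ker.mp (this hg)

/-- The counting principle: if the stabilizer of `χ₀` in the group of linear characters is
trivial on `I`, then linear characters are at most `|G : I|` times as numerous as their products
with `χ₀`. -/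
theorem card_le_index_mul_of_stab [Finite G] (I : Subgroup G) (χ₀ : G → ℂ)
    (hstab : ∀ μ : G →* ℂˣ, (∀ g, χ₀ g * ((μ g : ℂˣ) : ℂ) = χ₀ g) → ∀ i ∈ I, μ i = 1)
    (P : (G →* ℂˣ) → Prop) (Q : Cfsg.IrrCharacter G → Prop)
    (F : (G →* ℂˣ) → Cfsg.IrrCharacter G)
    (hF : ∀ μ, (F μ : G → ℂ) = χ₀ * fun g => ((μ g : ℂˣ) : ℂ))
    (hPQ : ∀ μ, P μ → Q (F μ)) :
    Nat.card {μ : G →* ℂˣ // P μ} ≤ I.index * Nat.card {χ : Cfsg.IrrCharacter G // Q χ} := by
  classical
  haveI : Finite (Cfsg.IrrCharacter G) := irr_finite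
  haveI : Finite (G →* ℂˣ) := finite_hom_units
  have hS : Nat.card {ν : G →* ℂˣ // ∀ i ∈ I, ν i = 1} ≤ I.index :=
    card_hom_trivial_on_le_index I
  have hrep : ∀ χ : {χ : Cfsg.IrrCharacter G // Q χ}, ∃ μ₀ : G →* ℂˣ,
      (∃ μ, P μ ∧ F μ = χ.1) → F μ₀ = χ.1 := by
    intro χ
    by_cases h : ∃ μ, P μ ∧ F μ = χ.1
    · obtain ⟨μ, -, hμ⟩ := h
      exact ⟨μ, fun _ => hμ⟩
    · exact ⟨1, fun h' => absurd h' h⟩
  choose r hr using hrep
  have hmem : ∀ μ : {μ : G →* ℂˣ // P μ}, ∀ i ∈ I,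
      (μ.1 / r ⟨F μ.1, hPQ μ.1 μ.2⟩) i = 1 := by
    intro μ
    apply hstab
    intro g
    have h1 : F (r ⟨F μ.1, hPQ μ.1 μ.2⟩) = F μ.1 := hr ⟨F μ.1, hPQ μ.1 μ.2⟩ ⟨μ.1, μ.2, rfl⟩
    have h2 := congrFun (congrArg (fun χ : Cfsg.IrrCharacter G => (χ : G → ℂ)) h1) g
    simp only [hF, Pi.mul_apply] at h2
    rw [MonoidHom.div_apply, Units.val_div_eq_div_val, div_eq_mul_inv, ← mul_assoc, ← h2,
      mul_assoc, mul_inv_cancel₀ (Units.ne_zero _), mul_one]
  let Φ : {μ : G →* ℂˣ // P μ} →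
      {ν : G →* ℂˣ // ∀ i ∈ I, ν i = 1} × {χ : Cfsg.IrrCharacter G // Q χ} := fun μ =>
    (⟨μ.1 / r ⟨F μ.1, hPQ μ.1 μ.2⟩, hmem μ⟩, ⟨F μ.1, hPQ μ.1 μ.2⟩)
  have hΦ : Function.Injective Φ := by
    intro μ μ' h
    have h1 : (⟨F μ.1, hPQ μ.1 μ.2⟩ : {χ : Cfsg.IrrCharacter G // Q χ}) =
        ⟨F μ'.1, hPQ μ'.1 μ'.2⟩ := congrArg Prod.snd h
    have h2 : μ.1 / r ⟨F μ.1, hPQ μ.1 μ.2⟩ = μ'.1 / r ⟨F μ'.1, hPQ μ'.1 μ'.2⟩ :=
      congrArg (fun x => (x.1 : G →* ℂˣ)) h
    rw [h1] at h2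
    apply Subtype.ext
    exact div_left_injective h2
  calc Nat.card {μ : G →* ℂˣ // P μ}
      ≤ Nat.card ({ν : G →* ℂˣ // ∀ i ∈ I, ν i = 1} × {χ : Cfsg.IrrCharacter G // Q χ}) :=
        Nat.card_le_card_of_injective Φ hΦ
    _ = Nat.card {ν : G →* ℂˣ // ∀ i ∈ I, ν i = 1} *
          Nat.card {χ : Cfsg.IrrCharacter G // Q χ} := Nat.card_prod _ _
    _ ≤ I.index * Nat.card {χ : Cfsg.IrrCharacter G // Q χ} := Nat.mul_le_mul_right _ hS

end Cfsg.Agent.Helper6
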