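import Mathlib
import Cfsg.Prelude.Def_Characters
import Cfsg.Agent.Helper6.Linear
import Cfsg.Agent.Helper6.LinearCount
import Cfsg.Agent.Helper6.FrobRamB
import Cfsg.Agent.Helper6.Induced
import Cfsg.Agent.Helper6.ClassInner

/-!
# Brauer–Leonard: the coefficients of the restriction of a character to an abelian subgroup
-/

set_option autoImplicit false
set_option linter.style.haveILetI false

namespace Cfsg.Agent.Helper6.BLeo

open scoped ComplexConjugate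

universe u

variable {G : Type u} [Group G]

/-- The coefficient `c_χ(ψ) = ⟨χ_P, ψ⟩ - ⟨χ_P, 1⟩`. -/
noncomputable def coef (P : Subgroup G) (χ : G → ℂ) (ψ : ↥P →* ℂˣ) : ℂ :=
  (Nat.card ↥P : ℂ)⁻¹ * ∑ᶠ y : ↥P, χ (y : G) * (((ψ y⁻¹ : ℂˣ) : ℂ) - 1)

theorem coef_eq_sum (P : Subgroup G) [Fintype ↥P] (χ : G → ℂ) (ψ : ↥P →* ℂˣ) :
    coef P χ ψ = (Nat.card ↥P : ℂ)⁻¹ * ∑ y : ↥P, χ (y : G) * (((ψ y⁻¹ : ℂˣ) : ℂ) - 1) := by
  rw [coef, finsum_eq_sum_of_fintype]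

theorem hom_inv_eq_conj {A : Type u} [Group A] [Finite A] (ψ : A →* ℂˣ) (y : A) :
    ((ψ y⁻¹ : ℂˣ) : ℂ) = conj ((ψ y : ℂˣ) : ℂ) :=
  IsCharacter.inv_eq_conj (IsIrrCharacter.isCharacter (isIrrCharacter_of_hom ψ)) y

theorem coef_one (P : Subgroup G) (χ : G → ℂ) : coef P χ 1 = 0 := by
  rw [coef]
  have : ∀ y : ↥P, χ (y : G) * ((((1 : ↥P →* ℂˣ) y⁻¹ : ℂˣ) : ℂ) - 1) = 0 := by
    intro y
    simp
  simp only [this, finsum_zero, mul_zero]

theorem coef_eq_classInner_sub (P : Subgroup G) [Fintype ↥P] (χ : G → ℂ) (ψ : ↥P →* ℂˣ) :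
    coef P χ ψ = Cfsg.classInner (fun y : ↥P => χ (y : G)) (fun y : ↥P => ((ψ y : ℂˣ) : ℂ)) -
      Cfsg.classInner (fun y : ↥P => χ (y : G))
        (fun y : ↥P => (((1 : ↥P →* ℂˣ) y : ℂˣ) : ℂ)) := by
  rw [coef_eq_sum, Cfsg.classInner, Cfsg.classInner, ← mul_sub, ← Finset.sum_sub_distrib]
  congr 1
  apply Finset.sum_congr rfl
  intro y _
  rw [hom_inv_eq_conj]
  simp only [MonoidHom.one_apply, Units.val_one, map_one]
  ring

/-- The coefficients of a character are integers. -/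
theorem coef_int [Finite G] (P : Subgroup G) (χ : G → ℂ) (hχ : Cfsg.IsCharacter G χ)
    (ψ : ↥P →* ℂˣ) : ∃ k : ℤ, coef P χ ψ = (k : ℂ) := by
  haveI : Fintype ↥P := Fintype.ofFinite _
  have hres : Cfsg.IsCharacter ↥P (fun y : ↥P => χ (y : G)) := IsCharacter.restrict P hχ
  have key : ∀ φ : ↥P →* ℂˣ, ∃ n : ℕ,
      Cfsg.classInner (fun y : ↥P => χ (y : G)) (fun y : ↥P => ((φ y : ℂˣ) : ℂ)) = (n : ℂ) := by
    intro φ
    obtain ⟨n, hn⟩ := classInner_irr_char_nat (isIrrCharacter_of_hom φ) hres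
    refine ⟨n, ?_⟩
    rw [classInner_conj_symm, hn, Complex.conj_natCast]
  obtain ⟨n₁, h₁⟩ := key ψ
  obtain ⟨n₂, h₂⟩ := key 1
  refine ⟨(n₁ : ℤ) - (n₂ : ℤ), ?_⟩
  rw [coef_eq_classInner_sub, h₁, h₂]
  push_cast
  ring

/-- The sum of a non-principal linear character vanishes. -/
theorem sum_hom_eq_zero {A : Type u} [Group A] [Fintype A] (ψ : A →* ℂˣ) (hψ : ψ ≠ 1) :
    ∑ y : A, ((ψ y : ℂˣ) : ℂ) = 0 := by
  have h := sum_hom_units_eq_zero ((Units.coeHom ℂ).comp ψ) (by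
    intro h
    apply hψ
    ext y
    have := DFunLike.congr_fun h y
    simpa using this)
  simpa using h

/-- The coefficients of the principal character. -/
theorem coef_triv [Finite G] (P : Subgroup G) (ψ : ↥P →* ℂˣ) (hψ : ψ ≠ 1) :
    coef P (fun _ : G => (1 : ℂ)) ψ = -1 := by
  haveI : Fintype ↥P := Fintype.ofFinite _
  rw [coef_eq_sum]
  have h1 : ∑ y : ↥P, (1 : ℂ) * (((ψ y⁻¹ : ℂˣ) : ℂ) - 1) =
      ∑ y : ↥P, ((ψ y⁻¹ : ℂˣ) : ℂ) - (Nat.card ↥P : ℂ) := by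
    simp only [one_mul, Finset.sum_sub_distrib, Finset.sum_const, Finset.card_univ,
      nsmul_eq_mul, mul_one, Nat.card_eq_fintype_card]
  have h2 : ∑ y : ↥P, ((ψ y⁻¹ : ℂˣ) : ℂ) = 0 := by
    rw [← sum_hom_eq_zero ψ hψ]
    exact Equiv.sum_comp (Equiv.inv ↥P) (fun y : ↥P => ((ψ y : ℂˣ) : ℂ))
  have hP0 : (Nat.card ↥P : ℂ) ≠ 0 := by
    exact_mod_cast (Nat.card_pos (α := ↥P)).ne'
  rw [h1, h2, zero_sub, mul_neg, inv_mul_cancel₀ hP0]

/-- Fourier inversion off the identity. -/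
theorem apply_eq_sum_coef [Finite G] (P : Subgroup G) (hab : ∀ a b : ↥P, a * b = b * a)
    [Fintype (↥P →* ℂˣ)] (χ : G → ℂ) (y : ↥P) (hy : y ≠ 1) :
    χ (y : G) = ∑ ψ : ↥P →* ℂˣ, coef P χ ψ * ((ψ y : ℂˣ) : ℂ) := by
  classical
  haveI : Fintype ↥P := Fintype.ofFinite _
  have hP0 : (Nat.card ↥P : ℂ) ≠ 0 := by
    exact_mod_cast (Nat.card_pos (α := ↥P)).ne'
  have h1 : ∀ ψ : ↥P →* ℂˣ, coef P χ ψ * ((ψ y : ℂˣ) : ℂ) =
      (Nat.card ↥P : ℂ)⁻¹ * ∑ w : ↥P, χ (w : G) *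
        (((ψ (w⁻¹ * y) : ℂˣ) : ℂ) - ((ψ y : ℂˣ) : ℂ)) := by
    intro ψ
    rw [coef_eq_sum, mul_assoc, Finset.sum_mul]
    congr 1
    apply Finset.sum_congr rfl
    intro w _
    rw [map_mul, Units.val_mul]
    ring
  rw [Finset.sum_congr rfl (fun ψ _ => h1 ψ), ← Finset.mul_sum, Finset.sum_comm]
  have h2 : ∀ w : ↥P, ∑ ψ : ↥P →* ℂˣ, χ (w : G) *
      (((ψ (w⁻¹ * y) : ℂˣ) : ℂ) - ((ψ y : ℂˣ) : ℂ)) =
      if w = y then χ (w : G) * (Nat.card ↥P : ℂ) else 0 := by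
    intro w
    rw [← Finset.mul_sum, Finset.sum_sub_distrib, sum_hom_units_apply hab (w⁻¹ * y),
      sum_hom_units_apply hab y, if_neg hy, sub_zero]
    by_cases hwy : w = y
    · rw [if_pos hwy, if_pos (by rw [hwy]; group)]
    · rw [if_neg hwy, if_neg (fun h => hwy (by
        have : y = w := by
          calc y = w * (w⁻¹ * y) := by group
            _ = w := by rw [h, mul_one]
        exact this.symm)), mul_zero]
  rw [Finset.sum_congr rfl (fun w _ => h2 w), Finset.sum_ite_eq' Finset.univ y,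
    if_pos (Finset.mem_univ y), ← mul_assoc, mul_comm _ (χ (y : G)), mul_assoc,
    inv_mul_cancel₀ hP0, mul_one]

/-- Orthogonality of the shifted linear characters. -/
theorem sum_shifted_hom [Finite G] (P : Subgroup G) [Fintype ↥P] (l μ : ↥P →* ℂˣ)
    (hl : l ≠ 1) (hμ : μ ≠ 1) [Decidable (l = μ)] :
    ∑ y : ↥P, (((l y : ℂˣ) : ℂ) - 1) * conj (((μ y : ℂˣ) : ℂ) - 1) =
      (Nat.card ↥P : ℂ) * ((if l = μ then 1 else 0) + 1) := by
  have hP0 : (Nat.card ↥P : ℂ) ≠ 0 := by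
    exact_mod_cast (Nat.card_pos (α := ↥P)).ne'
  have h1 : ∀ y : ↥P, (((l y : ℂˣ) : ℂ) - 1) * conj (((μ y : ℂˣ) : ℂ) - 1) =
      ((l y : ℂˣ) : ℂ) * conj ((μ y : ℂˣ) : ℂ) - ((l y : ℂˣ) : ℂ) -
        conj ((μ y : ℂˣ) : ℂ) + 1 := by
    intro y
    rw [map_sub, map_one]
    ring
  rw [Finset.sum_congr rfl (fun y _ => h1 y), Finset.sum_add_distrib, Finset.sum_sub_distrib,
    Finset.sum_sub_distrib, sum_hom_eq_zero l hl, ← map_sum, sum_hom_eq_zero μ hμ, map_zero]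
  have h2 : ∑ y : ↥P, ((l y : ℂˣ) : ℂ) * conj ((μ y : ℂˣ) : ℂ) =
      (Nat.card ↥P : ℂ) * (if l = μ then 1 else 0) := by
    have h3 : Cfsg.classInner (fun y : ↥P => ((l y : ℂˣ) : ℂ)) (fun y : ↥P => ((μ y : ℂˣ) : ℂ)) =
        if l = μ then 1 else 0 := by
      split_ifs with h
      · rw [h]
        exact classInner_irr_self (isIrrCharacter_of_hom μ)
      · apply classInner_irr_ne (isIrrCharacter_of_hom l) (isIrrCharacter_of_hom μ)
        intro hh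
        apply h
        ext y
        exact congrFun hh y
    rw [← h3, Cfsg.classInner, ← mul_assoc, mul_inv_cancel₀ hP0, one_mul]
  rw [h2]
  simp only [Finset.sum_const, Finset.card_univ, nsmul_eq_mul, mul_one, sub_zero,
    Nat.card_eq_fintype_card]
  ring

end Cfsg.Agent.Helper6.BLeo
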