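import Mathlib
import Cfsg.Prelude.Def_Characters
import Cfsg.Prelude.Def_Blocks
import Cfsg.Agent.Helper6.BlockCover3

/-!
# A block of a normal subgroup of `p`-power index is covered by a unique block
-/

set_option autoImplicit false
set_option linter.style.haveILetI false

namespace Cfsg.Agent.Helper6

open scoped ComplexConjugate

universe u

variable {G : Type u} [Group G] {M : Ideal Cfsg.AlgInt}

/-- Induction along a central series of a `p`-group quotient. -/
theorem pQuotient_induction [Finite G] (p : ℕ) [hp : Fact p.Prime] (P : G → Prop) :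
    ∀ (n : ℕ) (H : Subgroup G), H.Normal → H.index = n → (∃ k : ℕ, H.index = p ^ k) →
    (∀ h ∈ H, P h) →
    (∀ H : Subgroup G, H.Normal → (∀ h ∈ H, P h) → ∀ y : G, y ^ p ∈ H →
      (∀ g : G, g * y * g⁻¹ * y⁻¹ ∈ H) → P y) → ∀ g : G, P g := by
  intro n
  induction n using Nat.strong_induction_on with
  | _ n ih =>
  intro H hHn hn hidx hH hstep
  haveI := hHn
  by_cases htop : H = ⊤
  · intro g
    apply hH
    rw [htop]
    exact Subgroup.mem_top g
  obtain ⟨k, hk⟩ := hidx
  have hcard : Nat.card (G ⧸ H) = p ^ k := by rw [← Subgroup.index_eq_card, hk]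
  have hpg : IsPGroup p (G ⧸ H) := IsPGroup.of_card hcard
  haveI : Nontrivial (G ⧸ H) := by
    rw [← Finite.one_lt_card_iff_nontrivial, ← Subgroup.index_eq_card]
    have h1 : H.index ≠ 1 := fun h => htop (Subgroup.index_eq_one.mp h)
    have h0 : H.index ≠ 0 := Subgroup.index_ne_zero_of_finite
    omega
  haveI := hpg.center_nontrivial
  -- an element of order p in the centre of the quotient
  have hpc : IsPGroup p (Subgroup.center (G ⧸ H)) := hpg.to_subgroup _
  have hdvd : p ∣ Nat.card (Subgroup.center (G ⧸ H)) := by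
    obtain ⟨j, hj0, hj⟩ := hpc.nontrivial_iff_card.mp inferInstance
    rw [hj]
    exact dvd_pow_self _ (ne_of_gt hj0)
  obtain ⟨z, hz⟩ := exists_prime_orderOf_dvd_card' p hdvd
  have hz1 : z ≠ 1 := by
    intro h
    rw [h, orderOf_one] at hz
    exact hp.out.ne_one hz.symm
  have hzp : (z : G ⧸ H) ^ p = 1 := by
    have := pow_orderOf_eq_one z
    rw [hz] at this
    have h2 := congrArg Subtype.val this
    simpa using h2
  have hzc : ∀ q : G ⧸ H, Commute q (z : G ⧸ H) := fun q =>
    (Subgroup.mem_center_iff.mp z.2 q)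
  set Z : Subgroup (G ⧸ H) := Subgroup.zpowers (z : G ⧸ H) with hZ
  haveI hZn : Z.Normal := by
    constructor
    intro a ha q
    obtain ⟨i, rfl⟩ := Subgroup.mem_zpowers_iff.mp ha
    have : q * (z : G ⧸ H) ^ i * q⁻¹ = (z : G ⧸ H) ^ i := by
      have hc : Commute q ((z : G ⧸ H) ^ i) := (hzc q).zpow_right i
      rw [hc.eq, mul_inv_cancel_right]
    rw [this]
    exact Subgroup.zpow_mem_zpowers _ i
  set H' : Subgroup G := Z.comap (QuotientGroup.mk' H) with hH'
  haveI hH'n : H'.Normal := Subgroup.Normal.comap hZn _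
  have hle : H ≤ H' := by
    intro h hh
    rw [hH', Subgroup.mem_comap]
    have : (QuotientGroup.mk' H) h = 1 := (QuotientGroup.eq_one_iff h).mpr hh
    rw [this]
    exact Z.one_mem
  have hne : H ≠ H' := by
    intro heq
    obtain ⟨w, hw⟩ := QuotientGroup.mk'_surjective H (z : G ⧸ H)
    have hwH' : w ∈ H' := by
      rw [hH', Subgroup.mem_comap, hw]
      exact Subgroup.mem_zpowers _
    rw [← heq] at hwH'
    have : (QuotientGroup.mk' H) w = 1 := (QuotientGroup.eq_one_iff w).mpr hwH'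
    rw [hw] at this
    exact hz1 (Subtype.ext this)
  have hlt : H < H' := lt_of_le_of_ne hle hne
  have hidx' : H'.index < n := by
    rw [← hn]
    exact Subgroup.index_strictAnti hlt
  have hdvd' : H'.index ∣ p ^ k := by
    rw [← hk]
    exact Subgroup.index_dvd_of_le hle
  obtain ⟨j, -, hj⟩ := (Nat.dvd_prime_pow hp.out).mp hdvd'
  have hPH' : ∀ y ∈ H', P y := by
    intro y hy
    rw [hH', Subgroup.mem_comap] at hy
    obtain ⟨i, hi⟩ := Subgroup.mem_zpowers_iff.mp hy
    apply hstep H hHn hH y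
    · rw [← QuotientGroup.eq_one_iff, ← QuotientGroup.mk'_apply, map_pow, ← hi, ← zpow_natCast,
        ← zpow_mul, mul_comm, zpow_mul, zpow_natCast, hzp, one_zpow]
    · intro g
      rw [← QuotientGroup.eq_one_iff, ← QuotientGroup.mk'_apply, map_mul, map_mul, map_mul,
        map_inv, map_inv, ← hi]
      have hc : Commute ((QuotientGroup.mk' H) g) ((z : G ⧸ H) ^ i) :=
        (hzc ((QuotientGroup.mk' H) g)).zpow_right i
      rw [hc.eq, mul_inv_cancel_right, mul_inv_cancel]
  exact ih _ hidx' H' hH'n rfl ⟨j, hj⟩ hPH' hstep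

open Classical in
/-- The number of ways of writing `y` as a product of `m` conjugates of `k`. -/
noncomputable def classPowCount [Fintype G] (k : G) : ℕ → G → ℕ
  | 0 => fun y => if y = 1 then 1 else 0
  | (m + 1) => fun y => ∑ x ∈ classFinset k, classPowCount k m (x⁻¹ * y)

theorem classPowCount_conj [Fintype G] (k : G) (m : ℕ) (y h : G) :
    classPowCount k m (h * y * h⁻¹) = classPowCount k m y := by
  induction m generalizing y with
  | zero =>
    unfold classPowCount
    have : h * y * h⁻¹ = 1 ↔ y = 1 := by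
      constructor
      · intro h1
        have : y = h⁻¹ * (h * y * h⁻¹) * h := by group
        rw [this, h1]; group
      · intro h1
        rw [h1]; group
    by_cases hy1 : y = 1
    · rw [if_pos hy1, if_pos (this.mpr hy1)]
    · rw [if_neg hy1, if_neg (fun h' => hy1 (this.mp h'))]
  | succ m ih =>
    unfold classPowCount
    apply Finset.sum_bij (fun x _ => h⁻¹ * x * h)
    · intro x hx
      rw [mem_classFinset] at hx ⊢
      exact hx.trans (isConj_iff.mpr ⟨h⁻¹, by simp⟩)
    · intro x _ x' _ hxx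
      exact mul_left_cancel (mul_right_cancel hxx)
    · intro x hx
      refine ⟨h * x * h⁻¹, ?_, by group⟩
      rw [mem_classFinset] at hx ⊢
      exact hx.trans (isConj_iff.mpr ⟨h, rfl⟩)
    · intro x _
      rw [← ih ((h⁻¹ * x * h)⁻¹ * y)]
      congr 1
      group

theorem classPowCount_support [Fintype G] (H : Subgroup G) [hH : H.Normal] (k : G)
    (hk : ∀ g : G, g * k * g⁻¹ * k⁻¹ ∈ H) (m : ℕ) (y : G) (hy : classPowCount k m y ≠ 0) :
    (QuotientGroup.mk' H) y = (QuotientGroup.mk' H) k ^ m := by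
  induction m generalizing y with
  | zero =>
    unfold classPowCount at hy
    by_cases h1 : y = 1
    · rw [h1, map_one, pow_zero]
    · rw [if_neg h1] at hy
      exact absurd rfl hy
  | succ m ih =>
    unfold classPowCount at hy
    obtain ⟨x, hx, hne⟩ := Finset.exists_ne_zero_of_sum_ne_zero hy
    have h1 := ih _ hne
    rw [mem_classFinset] at hx
    obtain ⟨c, hc⟩ := isConj_iff.mp hx
    have h2 : (QuotientGroup.mk' H) x = (QuotientGroup.mk' H) k := by
      have := hk c
      rw [hc] at this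
      have h3 : (QuotientGroup.mk' H) (x * k⁻¹) = 1 := (QuotientGroup.eq_one_iff _).mpr this
      rw [map_mul, map_inv, mul_inv_eq_one] at h3
      exact h3
    rw [map_mul, map_inv, h2] at h1
    rw [pow_succ', ← h1, mul_inv_cancel_left]

/-- Powers of central character values through the counting function. -/
theorem sum_classPowCount_char [Fintype G] (χ : Cfsg.IrrCharacter G) (k : G) (m : ℕ) (g : G) :
    ∑ y : G, (classPowCount k m y : ℂ) * (χ : G → ℂ) (y * g) =
      Cfsg.centralChar (χ : G → ℂ) k ^ m * (χ : G → ℂ) g := by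
  classical
  haveI : Finite (Cfsg.IrrCharacter G) := irr_finite
  haveI : Fintype (Cfsg.IrrCharacter G) := Fintype.ofFinite _
  have hχcf := IsCharacter.isClassFunction (IsIrrCharacter.isCharacter χ.2)
  induction m generalizing g with
  | zero =>
    unfold classPowCount
    rw [pow_zero, one_mul, Finset.sum_eq_single (1 : G)]
    · simp
    · intro y _ hy
      simp [hy]
    · intro h
      exact absurd (Finset.mem_univ _) h
  | succ m ih =>
    have h1 : ∀ y : G, (classPowCount k (m + 1) y : ℂ) * (χ : G → ℂ) (y * g) =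
        ∑ x ∈ classFinset k, (classPowCount k m (x⁻¹ * y) : ℂ) * (χ : G → ℂ) (y * g) := by
      intro y
      conv_lhs => unfold classPowCount
      rw [Nat.cast_sum, Finset.sum_mul]
    simp_rw [h1]
    rw [Finset.sum_comm]
    have h2 : ∀ x ∈ classFinset k,
        ∑ y : G, (classPowCount k m (x⁻¹ * y) : ℂ) * (χ : G → ℂ) (y * g) =
        Cfsg.centralChar (χ : G → ℂ) k ^ m * (χ : G → ℂ) (x * g) := by
      intro x _
      have hxg : (χ : G → ℂ) (x * g) = (χ : G → ℂ) (g * x) := by
        have := hχcf (g * x) x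
        rw [← this]
        group
      rw [hxg, ← ih (g * x)]
      apply Fintype.sum_equiv (Equiv.mulLeft x⁻¹)
      intro y
      simp only [Equiv.coe_mulLeft]
      congr 1
      have := hχcf (x⁻¹ * y * (g * x)) x
      rw [← this]
      group
    rw [Finset.sum_congr rfl h2, ← Finset.mul_sum, sum_class_char_mul, pow_succ]
    ring

/-- Frobenius is injective modulo the local ideal on algebraic integers. -/
theorem memLocalIdeal_sub_of_pow (hM : M.IsMaximal) (p : ℕ) (hp : p.Prime)
    (hpM : (p : Cfsg.AlgInt) ∈ M) {x y : ℂ} (hx : IsIntegral ℤ x) (hy : IsIntegral ℤ y)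
    (h : Cfsg.MemLocalIdeal M (x ^ p - y ^ p)) : Cfsg.MemLocalIdeal M (x - y) := by
  set a : Cfsg.AlgInt := ⟨x, hx⟩ with ha
  set b : Cfsg.AlgInt := ⟨y, hy⟩ with hb
  have h1 : Cfsg.MemLocalIdeal M ((a ^ p - b ^ p : Cfsg.AlgInt) : ℂ) := by
    have : ((a ^ p - b ^ p : Cfsg.AlgInt) : ℂ) = x ^ p - y ^ p := by
      push_cast
      rfl
    rw [this]
    exact h
  rw [memLocalIdeal_coe_iff hM] at h1
  obtain ⟨r, hr⟩ := exists_add_pow_prime_eq hp (a - b) b
  rw [sub_add_cancel] at hr
  have h2 : (a - b) ^ p = (a ^ p - b ^ p) - (p : Cfsg.AlgInt) * ((a - b) * b * r) := by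
    rw [hr]; ring
  have h3 : (a - b) ^ p ∈ M := by
    rw [h2]
    exact M.sub_mem h1 (M.mul_mem_right _ hpM)
  have h4 : a - b ∈ M := hM.isPrime.mem_of_pow_mem p h3
  have h5 := memLocalIdeal_of_mem hM h4
  have : ((a - b : Cfsg.AlgInt) : ℂ) = x - y := by
    push_cast
    rfl
  rw [this] at h5
  exact h5

/-- If `N` is normal of `p`-power index and two irreducible characters have congruent central
characters on `N`, they lie in the same block. -/
theorem sameBlock_of_congr_on_normal [Fintype G] (hM : M.IsMaximal) (p : ℕ) [hp : Fact p.Prime]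
    (hpM : (p : Cfsg.AlgInt) ∈ M) (N : Subgroup G) [hN : N.Normal]
    (hidx : ∃ k : ℕ, N.index = p ^ k) (χ χ' : Cfsg.IrrCharacter G)
    (hcong : ∀ n ∈ N, Cfsg.MemLocalIdeal M
      (Cfsg.centralChar (χ : G → ℂ) n - Cfsg.centralChar (χ' : G → ℂ) n)) :
    Cfsg.SameBlock M (χ : G → ℂ) (χ' : G → ℂ) := by
  classical
  apply pQuotient_induction p (fun g => Cfsg.MemLocalIdeal M
    (Cfsg.centralChar (χ : G → ℂ) g - Cfsg.centralChar (χ' : G → ℂ) g)) N.index N hN rfl hidx hcong
  intro H hHn hH y hyp hycomm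
  haveI := hHn
  have hχ1 : (χ : G → ℂ) 1 ≠ 0 := IsIrrCharacter.apply_one_ne_zero χ.2
  have hχ'1 : (χ' : G → ℂ) 1 ≠ 0 := IsIrrCharacter.apply_one_ne_zero χ'.2
  have hχcf := IsCharacter.isClassFunction (IsIrrCharacter.isCharacter χ.2)
  have hχ'cf := IsCharacter.isClassFunction (IsIrrCharacter.isCharacter χ'.2)
  apply memLocalIdeal_sub_of_pow hM p hp.out hpM (isIntegral_centralChar χ y)
    (isIntegral_centralChar χ' y)
  have e1 := sum_classPowCount_char χ y p 1
  have e2 := sum_classPowCount_char χ' y p 1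
  simp only [mul_one] at e1 e2
  have e1' : Cfsg.centralChar (χ : G → ℂ) y ^ p =
      (∑ z : G, (classPowCount y p z : ℂ) * (χ : G → ℂ) z) / (χ : G → ℂ) 1 := by
    rw [e1]; field_simp
  have e2' : Cfsg.centralChar (χ' : G → ℂ) y ^ p =
      (∑ z : G, (classPowCount y p z : ℂ) * (χ' : G → ℂ) z) / (χ' : G → ℂ) 1 := by
    rw [e2]; field_simp
  set d : G → ℂ := fun z => (classPowCount y p z : ℂ) *
    ((χ : G → ℂ) z / (χ : G → ℂ) 1 - (χ' : G → ℂ) z / (χ' : G → ℂ) 1) with hd
  have hdcf : Cfsg.IsClassFunction G d := by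
    intro z h
    simp only [hd]
    rw [classPowCount_conj, hχcf z h, hχ'cf z h]
  have hsum : Cfsg.centralChar (χ : G → ℂ) y ^ p - Cfsg.centralChar (χ' : G → ℂ) y ^ p =
      ∑ z ∈ (Finset.univ : Finset G), d z := by
    rw [e1', e2', Finset.sum_div, Finset.sum_div, ← Finset.sum_sub_distrib]
    apply Finset.sum_congr rfl
    intro z _
    simp only [hd]
    ring
  rw [hsum]
  apply sum_mem_of_conj_closed (fun z => Cfsg.MemLocalIdeal M z) (memLocalIdeal_zero hM)
    (fun x y hx hy => MemLocalIdeal.add hM hx hy) d hdcf _ _ Finset.univ rfl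
    (fun g _ x => Finset.mem_univ _)
  intro z
  have : ((Subgroup.centralizer ({z} : Set G)).index : ℂ) * d z =
      (classPowCount y p z : ℂ) *
        (Cfsg.centralChar (χ : G → ℂ) z - Cfsg.centralChar (χ' : G → ℂ) z) := by
    simp only [hd]
    unfold Cfsg.centralChar
    ring
  rw [this]
  by_cases hc : classPowCount y p z = 0
  · rw [hc, Nat.cast_zero, zero_mul]
    exact memLocalIdeal_zero hM
  · have hz := classPowCount_support H y hycomm p z hc
    rw [← map_pow] at hz
    have hzH : z ∈ H := by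
      have h1 : (QuotientGroup.mk' H) (y ^ p) = 1 := (QuotientGroup.eq_one_iff _).mpr hyp
      rw [h1] at hz
      exact (QuotientGroup.eq_one_iff z).mp hz
    apply MemLocalIdeal.mul_left hM _ (hH z hzH)
    apply memLocalRing_of_isIntegral hM
    exact isIntegral_algebraMap (R := ℤ) (A := ℂ) (x := (classPowCount y p z : ℤ)) |> fun h => by
      simpa using h

/-- Uniqueness of the covering block for a normal subgroup of `p`-power index. -/
theorem covering_unique [Fintype G] (hM : M.IsMaximal) (p : ℕ) [hp : Fact p.Prime]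
    (hpM : (p : Cfsg.AlgInt) ∈ M) (N : Subgroup G) [hN : N.Normal] [Fintype N]
    (hidx : ∃ k : ℕ, N.index = p ^ k) (b : Set (Cfsg.IrrCharacter N))
    (hb : Cfsg.IsPBlock M b) :
    ∃! B : Set (Cfsg.IrrCharacter G), Cfsg.IsPBlock M B ∧ ∃ χ ∈ B, ∃ θ ∈ b,
      Cfsg.classInner (fun n : N => (χ : G → ℂ) n) (θ : N → ℂ) ≠ 0 := by
  classical
  haveI : Finite (Cfsg.IrrCharacter G) := irr_finite
  haveI : Fintype (Cfsg.IrrCharacter G) := Fintype.ofFinite _
  obtain ⟨θ₀, hθ₀⟩ := hb
  have hθ₀b : θ₀ ∈ b := by rw [hθ₀]; exact mem_blockOf_self hM θ₀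
  -- existence: a constituent of the induced character
  have hex : ∃ χ : Cfsg.IrrCharacter G,
      Cfsg.classInner (fun n : N => (χ : G → ℂ) n) (θ₀ : N → ℂ) ≠ 0 := by
    by_contra hno
    push Not at hno
    have hexp := classFunction_expansion (Cfsg.indFun N (θ₀ : N → ℂ)) (indFun_isClassFunction N _)
    have hzero : Cfsg.indFun N (θ₀ : N → ℂ) = 0 := by
      rw [hexp]
      apply Finset.sum_eq_zero
      intro χ _
      have h1 := frobenius_reciprocity N (θ₀ : N → ℂ) (χ : G → ℂ)
        (IsCharacter.isClassFunction (IsIrrCharacter.isCharacter χ.2))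
      have h2 := hno χ
      rw [classInner_conj_symm] at h2
      have h3 : Cfsg.classInner (θ₀ : N → ℂ) (fun h : N => (χ : G → ℂ) h) = 0 := by
        have := congrArg (starRingEnd ℂ) h2
        simpa using this
      rw [h1, h3, zero_smul]
    have h1 := congrFun hzero 1
    rw [indFun_apply_one] at h1
    have hI0 : (N.index : ℂ) ≠ 0 := by
      have : N.index ≠ 0 := Subgroup.index_ne_zero_of_finite
      exact_mod_cast this
    exact mul_ne_zero hI0 (IsIrrCharacter.apply_one_ne_zero θ₀.2) h1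
  obtain ⟨χ₁, hχ₁⟩ := hex
  refine ⟨Cfsg.blockOf M (χ₁ : G → ℂ), ⟨⟨χ₁, rfl⟩, χ₁, mem_blockOf_self hM χ₁, θ₀, hθ₀b, hχ₁⟩, ?_⟩
  rintro B' ⟨hB', χ', hχ', θ', hθ', hne'⟩
  have hcong1 := fun n => covering_congr hM N (Cfsg.blockOf M (χ₁ : G → ℂ)) ⟨χ₁, rfl⟩ b ⟨θ₀, hθ₀⟩
    χ₁ (mem_blockOf_self hM χ₁) θ₀ hθ₀b hχ₁ χ₁ (mem_blockOf_self hM χ₁) θ₀ hθ₀b n
  have hcong2 := fun n => covering_congr hM N B' hB' b ⟨θ₀, hθ₀⟩
    χ' hχ' θ' hθ' hne' χ' hχ' θ₀ hθ₀b n
  have hsame : Cfsg.SameBlock M (χ₁ : G → ℂ) (χ' : G → ℂ) := by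
    apply sameBlock_of_congr_on_normal hM p hpM N hidx
    intro n hn
    have h1 := hcong1 ⟨n, hn⟩
    have h2 := MemLocalIdeal.neg (hcong2 ⟨n, hn⟩)
    have h3 := MemLocalIdeal.add hM h1 h2
    have : Cfsg.centralChar (χ₁ : G → ℂ) n - Cfsg.centralChar (χ' : G → ℂ) n =
        (Cfsg.centralChar (χ₁ : G → ℂ) n - Cfsg.inducedCentralChar N (θ₀ : N → ℂ) n) +
        -(Cfsg.centralChar (χ' : G → ℂ) n - Cfsg.inducedCentralChar N (θ₀ : N → ℂ) n) := by ring
    rw [this]
    exact h3
  obtain ⟨χ₀', rfl⟩ := hB'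
  have h1 : Cfsg.blockOf M (χ₀' : G → ℂ) = Cfsg.blockOf M (χ' : G → ℂ) :=
    blockOf_eq_of_sameBlock hM hχ'
  rw [h1]
  exact (blockOf_eq_of_sameBlock hM hsame).symm

end Cfsg.Agent.Helper6
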