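import Mathlib

/-! Normal `p`-subgroups act trivially on simple modules in characteristic `p`;
class sums missing the centralizer are nilpotent. -/

namespace Cfsg.Agent.Helper6

open MonoidAlgebra

/-- a `p`-group acting (through the group algebra in characteristic `p`) on a finite nonzero module
has a nonzero fixed vector -/
theorem exists_fixed_ne_zero {G : Type*} [Group G] (p : ℕ) [hp : Fact p.Prime] {k : Type*}
    [Field k] [CharP k p] (Q : Subgroup G) (hQ : IsPGroup p Q) (V : Type*) [AddCommGroup V]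
    [Module (MonoidAlgebra k G) V] [Finite V] [Nontrivial V] :
    ∃ v : V, v ≠ 0 ∧ ∀ u ∈ Q, (MonoidAlgebra.single u (1 : k) : MonoidAlgebra k G) • v = v := by
  classical
  letI : MulAction Q V := MulAction.compHom V ((MonoidAlgebra.of k G).comp Q.subtype)
  have hsmul : ∀ (u : Q) (v : V), u • v = (MonoidAlgebra.single (u : G) (1 : k) : MonoidAlgebra k G) • v :=
    fun u v => rfl
  have hpV : ∀ v : V, p • v = 0 := by
    intro v
    have h0 : (p : MonoidAlgebra k G) = 0 := by
      rw [← map_natCast (algebraMap k (MonoidAlgebra k G)) p, CharP.cast_eq_zero, map_zero]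
    rw [← Nat.cast_smul_eq_nsmul (MonoidAlgebra k G), h0, zero_smul]
  have hcardV : p ∣ Nat.card V := by
    have hPG : IsPGroup p (Multiplicative V) := by
      intro g
      refine ⟨1, ?_⟩
      rw [pow_one]
      show Multiplicative.ofAdd (p • Multiplicative.toAdd g) = 1
      rw [hpV]; rfl
    obtain ⟨n, hn⟩ := IsPGroup.iff_card.mp hPG
    have hn' : Nat.card V = p ^ n := hn
    rcases n with _ | n
    · exfalso
      rw [pow_zero] at hn'
      have := Finite.one_lt_card (α := V)
      omega
    · rw [hn']; exact dvd_pow_self p (Nat.succ_ne_zero n)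
  obtain ⟨b, hb, hb0⟩ := hQ.exists_fixed_point_of_prime_dvd_card_of_fixed_point (α := V) hcardV
    (a := 0) (by intro u; rw [hsmul]; exact smul_zero _)
  refine ⟨b, fun h => hb0 h.symm, fun u hu => ?_⟩
  have := hb ⟨u, hu⟩
  rwa [hsmul] at this

/-- if `Q` is normal and fixes `v`, then `u * r` and `r` act equally on `v` for `u ∈ Q` -/
theorem single_mul_smul_of_fixed {G : Type*} [Group G] {k : Type*} [Field k]
    (Q : Subgroup G) [Q.Normal] (V : Type*) [AddCommGroup V] [Module (MonoidAlgebra k G) V]
    (v : V) (hv : ∀ u ∈ Q, (MonoidAlgebra.single u (1 : k) : MonoidAlgebra k G) • v = v)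
    (u : G) (hu : u ∈ Q) (r : MonoidAlgebra k G) :
    ((MonoidAlgebra.single u (1 : k) : MonoidAlgebra k G) * r) • v = r • v := by
  let f : MonoidAlgebra k G →+ V :=
    { toFun := fun r => ((MonoidAlgebra.single u (1 : k) : MonoidAlgebra k G) * r) • v
      map_zero' := by simp
      map_add' := fun a b => by simp [mul_add, add_smul] }
  let g : MonoidAlgebra k G →+ V :=
    { toFun := fun r => r • v
      map_zero' := by simp
      map_add' := fun a b => by simp [add_smul] }
  have hfg : f = g := by
    apply MonoidAlgebra.addMonoidHom_ext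
    intro m c
    show ((MonoidAlgebra.single u (1 : k) : MonoidAlgebra k G) * MonoidAlgebra.single m c) • v
      = (MonoidAlgebra.single m c : MonoidAlgebra k G) • v
    have h1 : (MonoidAlgebra.single u (1 : k) : MonoidAlgebra k G) * MonoidAlgebra.single m c
        = MonoidAlgebra.single m c * MonoidAlgebra.single (m⁻¹ * u * m) (1 : k) := by
      rw [MonoidAlgebra.single_mul_single, MonoidAlgebra.single_mul_single]
      congr 1
      · group
      · ring
    rw [h1, mul_smul, hv _ (by
      have := ‹Q.Normal›.conj_mem u hu m⁻¹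
      simpa [mul_assoc] using this)]
  exact DFunLike.congr_fun hfg r

/-- the vectors fixed by a normal subgroup form a submodule -/
def fixedSubmodule {G : Type*} [Group G] (k : Type*) [Field k]
    (Q : Subgroup G) [Q.Normal] (V : Type*) [AddCommGroup V] [Module (MonoidAlgebra k G) V] :
    Submodule (MonoidAlgebra k G) V where
  carrier := {v | ∀ u ∈ Q, (MonoidAlgebra.single u (1 : k) : MonoidAlgebra k G) • v = v}
  add_mem' := fun {a b} ha hb u hu => by rw [smul_add, ha u hu, hb u hu]
  zero_mem' := fun u _ => smul_zero _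
  smul_mem' := fun r v hv u hu => by
    rw [← mul_smul]; exact single_mul_smul_of_fixed Q V v hv u hu r

/-- a normal `p`-subgroup acts trivially on finite simple modules in characteristic `p` -/
theorem single_smul_of_simple {G : Type*} [Group G] (p : ℕ) [hp : Fact p.Prime] {k : Type*}
    [Field k] [CharP k p] (Q : Subgroup G) [Q.Normal] (hQ : IsPGroup p Q) (V : Type*)
    [AddCommGroup V] [Module (MonoidAlgebra k G) V] [Finite V]
    [IsSimpleModule (MonoidAlgebra k G) V] (u : G) (hu : u ∈ Q) (v : V) :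
    (MonoidAlgebra.single u (1 : k) : MonoidAlgebra k G) • v = v := by
  haveI : Nontrivial V := IsSimpleModule.nontrivial (MonoidAlgebra k G) V
  obtain ⟨w, hw0, hw⟩ := exists_fixed_ne_zero p Q hQ V (k := k)
  have hne : fixedSubmodule k Q V ≠ ⊥ := by
    intro h
    have : w ∈ fixedSubmodule k Q V := hw
    rw [h, Submodule.mem_bot] at this
    exact hw0 this
  have htop : fixedSubmodule k Q V = ⊤ := (eq_bot_or_eq_top _).resolve_left hne
  have : v ∈ fixedSubmodule k Q V := by rw [htop]; trivial
  exact this u hu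

/-- a sum of a conjugation-invariant function over a finite set stable under a `p`-group `Q` acting
by conjugation without fixed points vanishes in characteristic `p` -/
theorem sum_eq_zero_of_pgroup_conj {G : Type*} [Group G] (p : ℕ) [hp : Fact p.Prime]
    (Q : Subgroup G) (hQ : IsPGroup p Q) {V : Type*} [AddCommGroup V] (hpV : ∀ v : V, p • v = 0)
    (K : Finset G) (hK : ∀ x ∈ K, ∀ u ∈ Q, u * x * u⁻¹ ∈ K)
    (hfix : ∀ x ∈ K, ∃ u ∈ Q, u * x * u⁻¹ ≠ x)
    (φ : G → V) (hφ : ∀ x ∈ K, ∀ u ∈ Q, φ (u * x * u⁻¹) = φ x) :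
    ∑ x ∈ K, φ x = 0 := by
  classical
  have h1 := Finset.sum_comp (s := K) (fun b : V => b) φ
  rw [h1]
  apply Finset.sum_eq_zero
  intro b _
  obtain ⟨X, hX⟩ : ∃ X : Finset G, X = {a ∈ K | φ a = b} := ⟨_, rfl⟩
  rw [← hX]
  have hXmem : ∀ x, x ∈ X ↔ x ∈ K ∧ φ x = b := by
    intro x; rw [hX, Finset.mem_filter]
  letI : MulAction Q {x // x ∈ X} :=
    { smul := fun u x => ⟨(u : G) * x.1 * (u : G)⁻¹, by
        have hx := (hXmem x.1).mp x.2
        rw [hXmem]
        exact ⟨hK _ hx.1 _ u.2, by rw [hφ _ hx.1 _ u.2]; exact hx.2⟩⟩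
      one_smul := fun x => Subtype.ext (by
        show ((1 : Q) : G) * x.1 * ((1 : Q) : G)⁻¹ = x.1
        simp)
      mul_smul := fun a c x => Subtype.ext (by
        show ((a * c : Q) : G) * x.1 * ((a * c : Q) : G)⁻¹ = (a : G) * ((c : G) * x.1 * (c : G)⁻¹) * (a : G)⁻¹
        simp [mul_assoc]) }
  have hsm : ∀ (u : Q) (x : {x // x ∈ X}), ((u • x : {x // x ∈ X}) : G) = (u : G) * x.1 * (u : G)⁻¹ :=
    fun u x => rfl
  have hmod := hQ.card_modEq_card_fixedPoints {x // x ∈ X}
  have hempty : IsEmpty (MulAction.fixedPoints Q {x // x ∈ X}) := by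
    constructor
    rintro ⟨x, hx⟩
    obtain ⟨u, hu, hne⟩ := hfix x.1 ((hXmem x.1).mp x.2).1
    apply hne
    have := hx ⟨u, hu⟩
    have h2 := congrArg Subtype.val this
    rw [hsm] at h2
    exact h2
  have h0 : Nat.card (MulAction.fixedPoints Q {x // x ∈ X}) = 0 := Nat.card_of_isEmpty
  rw [h0, Nat.card_eq_fintype_card, Fintype.card_coe] at hmod
  have hdvd : p ∣ X.card := (Nat.modEq_zero_iff_dvd).mp hmod
  obtain ⟨c, hc⟩ := hdvd
  rw [hc, mul_comm, mul_smul, hpV, smul_zero]

/-- an element of the Jacobson radical of an Artinian ring is nilpotent -/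
theorem isNilpotent_of_mem_jacobson {R : Type*} [Ring R] [IsArtinianRing R] (x : R)
    (hx : x ∈ Ring.jacobson R) : IsNilpotent x := by
  obtain ⟨n, hn⟩ := (IsSemiprimaryRing.isNilpotent : IsNilpotent (Ring.jacobson R))
  refine ⟨n, ?_⟩
  have := Ideal.pow_mem_pow hx n
  rw [hn] at this
  exact this

/-- the sum of a `Q`-stable set of group elements none of which centralizes the normal
`p`-subgroup `Q` lies in the Jacobson radical of the group algebra over a finite field of
characteristic `p` -/
theorem sum_single_mem_jacobson {G : Type*} [Group G] [Finite G] (p : ℕ) [hp : Fact p.Prime]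
    {k : Type*} [Field k] [Finite k] [CharP k p] (Q : Subgroup G) [Q.Normal] (hQ : IsPGroup p Q)
    (K : Finset G) (hK : ∀ x ∈ K, ∀ u ∈ Q, u * x * u⁻¹ ∈ K)
    (hfix : ∀ x ∈ K, x ∉ Subgroup.centralizer (Q : Set G)) :
    (∑ x ∈ K, MonoidAlgebra.single x (1 : k) : MonoidAlgebra k G) ∈
      Ring.jacobson (MonoidAlgebra k G) := by
  classical
  haveI : Finite (MonoidAlgebra k G) := Module.finite_of_finite k
  rw [Ring.jacobson_eq_sInf_isMaximal, Submodule.mem_sInf]
  intro m hm
  haveI : Finite (MonoidAlgebra k G ⧸ m) := Finite.of_surjective _ (Submodule.Quotient.mk_surjective m)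
  haveI : IsSimpleModule (MonoidAlgebra k G) (MonoidAlgebra k G ⧸ m) :=
    isSimpleModule_iff_isCoatom.mpr (Ideal.isMaximal_def.mp hm)
  have htriv := single_smul_of_simple p Q hQ (MonoidAlgebra k G ⧸ m) (k := k)
  have hp0 : ∀ v : MonoidAlgebra k G ⧸ m, p • v = 0 := by
    intro v
    have h0 : (p : MonoidAlgebra k G) = 0 := by
      rw [← map_natCast (algebraMap k (MonoidAlgebra k G)) p, CharP.cast_eq_zero, map_zero]
    rw [← Nat.cast_smul_eq_nsmul (MonoidAlgebra k G), h0, zero_smul]
  obtain ⟨v, hv⟩ : ∃ v : MonoidAlgebra k G ⧸ m, v = Submodule.Quotient.mk 1 := ⟨_, rfl⟩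
  have hsum := sum_eq_zero_of_pgroup_conj p Q hQ hp0 K hK
    (by
      intro x hx
      by_contra hcon
      push Not at hcon
      apply hfix x hx
      rw [Subgroup.mem_centralizer_iff]
      intro u hu
      have := hcon u hu
      calc u * x = (u * x * u⁻¹) * u := by group
        _ = x * u := by rw [this])
    (fun x => (MonoidAlgebra.single x (1 : k) : MonoidAlgebra k G) • v)
    (by
      intro x _ u hu
      have h1 : (MonoidAlgebra.single (u * x * u⁻¹) (1 : k) : MonoidAlgebra k G)
          = MonoidAlgebra.single u 1 * MonoidAlgebra.single x 1 * MonoidAlgebra.single u⁻¹ 1 := by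
        rw [MonoidAlgebra.single_mul_single, MonoidAlgebra.single_mul_single]
        simp
      show (MonoidAlgebra.single (u * x * u⁻¹) (1 : k) : MonoidAlgebra k G) • v = _
      rw [h1, mul_smul, mul_smul, htriv u⁻¹ (Q.inv_mem hu), htriv u hu])
  have h2 : (∑ x ∈ K, MonoidAlgebra.single x (1 : k) : MonoidAlgebra k G) • v = 0 := by
    rw [Finset.sum_smul]; exact hsum
  rw [hv, ← Submodule.Quotient.mk_smul, smul_eq_mul, mul_one, Submodule.Quotient.mk_eq_zero] at h2
  exact h2

/-- over any field of characteristic `p`: the sum of a `Q`-stable set of group elements none of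
which centralizes the normal `p`-subgroup `Q` is nilpotent in the group algebra -/
theorem isNilpotent_sum_single {G : Type*} [Group G] [Finite G] (p : ℕ) [hp : Fact p.Prime]
    (F : Type*) [Field F] [CharP F p] (Q : Subgroup G) [Q.Normal] (hQ : IsPGroup p Q)
    (K : Finset G) (hK : ∀ x ∈ K, ∀ u ∈ Q, u * x * u⁻¹ ∈ K)
    (hfix : ∀ x ∈ K, x ∉ Subgroup.centralizer (Q : Set G)) :
    IsNilpotent (∑ x ∈ K, MonoidAlgebra.single x (1 : F) : MonoidAlgebra F G) := by
  haveI : IsArtinianRing (MonoidAlgebra (ZMod p) G) := IsArtinianRing.of_finite (ZMod p) _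
  have h1 := isNilpotent_of_mem_jacobson _
    (sum_single_mem_jacobson p Q hQ K hK hfix (k := ZMod p))
  have h2 := h1.map (MonoidAlgebra.mapRingHom G (ZMod.castHom (dvd_refl p) F))
  rw [map_sum] at h2
  simpa using h2

end Cfsg.Agent.Helper6
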