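import Mathlib
import Cfsg.Agent.Helper6.PCoreNilp

/-! More elements of the Jacobson radical of a modular group algebra attached to a normal
`p`-subgroup. -/

set_option linter.style.haveILetI false

namespace Cfsg.Agent.Helper6

open MonoidAlgebra

/-- criterion: an element killing every simple quotient `k[G] ⧸ m` on which `Q` acts trivially lies
in the Jacobson radical -/
theorem mem_jacobson_of_smul_eq_zero {G : Type*} [Group G] [Finite G] (p : ℕ) [hp : Fact p.Prime]
    {k : Type*} [Field k] [Finite k] [CharP k p] (Q : Subgroup G) [Q.Normal] (hQ : IsPGroup p Q)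
    (z : MonoidAlgebra k G)
    (hz : ∀ m : Ideal (MonoidAlgebra k G),
      (∀ u ∈ Q, ∀ v : MonoidAlgebra k G ⧸ m,
        (MonoidAlgebra.single u (1 : k) : MonoidAlgebra k G) • v = v) →
      ∀ v : MonoidAlgebra k G ⧸ m, z • v = 0) :
    z ∈ Ring.jacobson (MonoidAlgebra k G) := by
  classical
  haveI : Finite (MonoidAlgebra k G) := Module.finite_of_finite k
  rw [Ring.jacobson_eq_sInf_isMaximal, Submodule.mem_sInf]
  intro m hm
  haveI : Finite (MonoidAlgebra k G ⧸ m) :=
    Finite.of_surjective _ (Submodule.Quotient.mk_surjective m)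
  haveI : IsSimpleModule (MonoidAlgebra k G) (MonoidAlgebra k G ⧸ m) :=
    isSimpleModule_iff_isCoatom.mpr (Ideal.isMaximal_def.mp hm)
  have htriv := single_smul_of_simple p Q hQ (MonoidAlgebra k G ⧸ m) (k := k)
  have h2 := hz m htriv (Submodule.Quotient.mk 1)
  rw [← Submodule.Quotient.mk_smul, smul_eq_mul, mul_one, Submodule.Quotient.mk_eq_zero] at h2
  exact h2

/-- for a set `K` of elements of the normal `p`-subgroup `Q`, the element `K⁺ - |K|` lies in the
Jacobson radical -/
theorem sum_single_sub_card_mem_jacobson {G : Type*} [Group G] [Finite G] (p : ℕ)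
    [hp : Fact p.Prime] {k : Type*} [Field k] [Finite k] [CharP k p] (Q : Subgroup G) [Q.Normal]
    (hQ : IsPGroup p Q) (K : Finset G) (hK : ∀ x ∈ K, x ∈ Q) :
    ((∑ x ∈ K, MonoidAlgebra.single x (1 : k)) - (K.card : MonoidAlgebra k G)) ∈
      Ring.jacobson (MonoidAlgebra k G) := by
  apply mem_jacobson_of_smul_eq_zero p Q hQ
  intro m htriv v
  rw [sub_smul, Finset.sum_smul, Finset.sum_congr rfl (fun x hx => htriv x (hK x hx) v),
    Finset.sum_const, Nat.cast_smul_eq_nsmul, sub_self]

end Cfsg.Agent.Helper6
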