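import Mathlib
import Cfsg.Prelude.Def_Blocks
import Cfsg.Agent.Helper6.PCoreNilp2
import Cfsg.Agent.Helper6.CentralChar
import Cfsg.Agent.Helper6.CenterDvd
import Cfsg.Agent.Helper6.BlockEquiv

/-! Central characters and normal `p`-subgroups: classes outside the centralizer of a normal
`p`-subgroup have central character values in the local ideal; classes inside a normal
`p`-subgroup have central character values congruent to the class size. -/

set_option autoImplicit false
set_option linter.style.haveILetI false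

namespace Cfsg.Agent.Helper6

open Module Representation

universe u v

variable {G : Type u} [Group G] {M : Ideal Cfsg.AlgInt}

/-- an element of `ℤ[G]` whose reduction mod `p` vanishes acts as `p` times an integral
endomorphism -/
theorem lift_eq_prime_smul_of_map_eq_zero [Finite G] (p : ℕ) {V : Type v} [AddCommGroup V]
    [Module ℂ V] (ρ : Representation ℂ G V) (w : MonoidAlgebra ℤ G)
    (hw : MonoidAlgebra.mapRingHom G (Int.castRingHom (ZMod p)) w = 0) :
    ∃ E : Module.End ℂ V, IsIntegral ℤ E ∧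
      MonoidAlgebra.lift ℤ (Module.End ℂ V) G ρ w = (p : ℂ) • E := by
  classical
  haveI := Fintype.ofFinite G
  have hdvd : ∀ h : G, (p : ℤ) ∣ w.coeff h := by
    intro h
    have h1 := congrArg (fun y => y.coeff h) hw
    simp only [MonoidAlgebra.coeff_mapRingHom] at h1
    apply (ZMod.intCast_zmod_eq_zero_iff_dvd _ p).mp
    simpa using h1
  choose q hq using hdvd
  refine ⟨∑ h : G, ((q h : ℤ) : ℂ) • ρ h,
    isIntegral_sum_smul_rep ρ Finset.univ _ (fun h => ?_), ?_⟩
  · exact (isIntegral_algebraMap (R := ℤ) (A := ℂ) (x := q h))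
  · rw [MonoidAlgebra.lift_apply, Finsupp.sum_fintype _ _ (by simp), Finset.smul_sum]
    apply Finset.sum_congr rfl
    intro h _
    rw [hq h, smul_smul, ← Int.cast_smul_eq_zsmul ℂ]
    push_cast
    rfl

/-- transfer to characteristic zero: if `z ∈ ℤ[G]` is nilpotent mod `p` and acts on `V` as the
scalar `c`, then `c` lies in the local ideal at `M` -/
theorem memLocalIdeal_of_nilpotent_mod_p [Finite G] {p : ℕ} (hM : Cfsg.IsPModular p M)
    {V : Type v} [AddCommGroup V] [Module ℂ V] [Nontrivial V] (ρ : Representation ℂ G V)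
    (z : MonoidAlgebra ℤ G)
    (hz : IsNilpotent (MonoidAlgebra.mapRingHom G (Int.castRingHom (ZMod p)) z)) (c : ℂ)
    (hc : MonoidAlgebra.lift ℤ (Module.End ℂ V) G ρ z = c • (LinearMap.id : V →ₗ[ℂ] V)) :
    Cfsg.MemLocalIdeal M c := by
  classical
  have hp0 : (p : ℂ) ≠ 0 := by exact_mod_cast hM.1.ne_zero
  obtain ⟨n, hn⟩ := hz
  rw [← map_pow] at hn
  obtain ⟨E, hE, hEeq⟩ := lift_eq_prime_smul_of_map_eq_zero p ρ (z ^ n) hn
  rw [map_pow, hc] at hEeq
  have hpow : (c • (LinearMap.id : V →ₗ[ℂ] V)) ^ n = (c ^ n) • (LinearMap.id : V →ₗ[ℂ] V) := by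
    rw [smul_pow]
    congr 1
    exact one_pow n
  rw [hpow] at hEeq
  have hE2 : E = (c ^ n / p) • (LinearMap.id : V →ₗ[ℂ] V) := by
    have : (p : ℂ)⁻¹ • ((p : ℂ) • E) = E := by rw [smul_smul, inv_mul_cancel₀ hp0, one_smul]
    rw [← this, ← hEeq, smul_smul]
    congr 1
    field_simp
  rw [hE2] at hE
  have hd : IsIntegral ℤ (c ^ n / p) := isIntegral_of_smul_id _ hE
  -- c itself is integral
  have hcint : IsIntegral ℤ c := by
    apply isIntegral_of_smul_id (V := V)
    rw [← hc]
    haveI := Fintype.ofFinite G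
    have h1 : IsIntegral ℤ z := IsIntegral.of_finite ℤ _
    exact h1.map (MonoidAlgebra.lift ℤ (Module.End ℂ V) G ρ)
  have hmem : (⟨c, hcint⟩ : Cfsg.AlgInt) ∈ M := by
    apply hM.2.1.isPrime.mem_of_pow_mem n
    have : (⟨c, hcint⟩ : Cfsg.AlgInt) ^ n = (p : Cfsg.AlgInt) * ⟨c ^ n / p, hd⟩ := by
      apply Subtype.ext
      push_cast
      field_simp
    rw [this]
    exact M.mul_mem_right _ hM.2.2
  exact (memLocalIdeal_coe_iff hM.2.1 ⟨c, hcint⟩).mpr hmem

theorem nontrivial_of_isIrreducible {V : Type v} [AddCommGroup V] [Module ℂ V]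
    (ρ : Representation ℂ G V) [hirr : ρ.IsIrreducible] : Nontrivial V := by
  by_contra hnt
  rw [not_nontrivial_iff_subsingleton] at hnt
  have hbt : (⊥ : Subrepresentation ρ) ≠ ⊤ := bot_ne_top
  apply hbt
  apply Subrepresentation.toSubmodule_injective
  exact Subsingleton.elim _ _

/-- the class sum acts on an irreducible representation by the central character -/
theorem lift_classSum_eq [Fintype G] {V : Type v} [AddCommGroup V] [Module ℂ V]
    [FiniteDimensional ℂ V] (ρ : Representation ℂ G V) [hirr : ρ.IsIrreducible] (g : G) :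
    MonoidAlgebra.lift ℤ (Module.End ℂ V) G ρ
      (∑ x ∈ classFinset g, MonoidAlgebra.single x (1 : ℤ)) =
      Cfsg.centralChar ρ.character g • (LinearMap.id : V →ₗ[ℂ] V) := by
  classical
  haveI := nontrivial_of_isIrreducible ρ
  obtain ⟨c, -, hc1, hc2⟩ := exists_central_value ρ (classFinset g) (by
    intro a x hx
    rw [mem_classFinset] at hx ⊢
    exact hx.trans (isConj_iff.mpr ⟨a, rfl⟩))
  have hsum : ∑ x ∈ classFinset g, ρ.character x =
      ((Subgroup.centralizer ({g} : Set G)).index : ℂ) * ρ.character g := by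
    rw [← card_classFinset, ← nsmul_eq_mul, ← Finset.sum_const]
    apply Finset.sum_congr rfl
    intro x hx
    rw [mem_classFinset] at hx
    obtain ⟨a, ha⟩ := isConj_iff.mp hx
    rw [← ha, char_conj]
  rw [hsum] at hc2
  have h0 : (finrank ℂ V : ℂ) ≠ 0 := by
    have : 0 < finrank ℂ V := finrank_pos
    exact_mod_cast this.ne'
  have hc : c = Cfsg.centralChar ρ.character g := by
    unfold Cfsg.centralChar
    rw [Representation.char_one, ← hc2, mul_div_assoc, div_self h0, mul_one]
  rw [map_sum, ← hc, ← hc1]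
  apply Finset.sum_congr rfl
  intro x _
  rw [MonoidAlgebra.lift_single, one_smul]

/-- **central characters vanish mod `M` off the centralizer of a normal `p`-subgroup** -/
theorem centralChar_memLocalIdeal_of_not_mem_centralizer [Finite G] {p : ℕ}
    (hM : Cfsg.IsPModular p M) (Q : Subgroup G) [Q.Normal] (hQ : IsPGroup p Q)
    (χ : Cfsg.IrrCharacter G) (g : G) (hg : g ∉ Subgroup.centralizer (Q : Set G)) :
    Cfsg.MemLocalIdeal M (Cfsg.centralChar (χ : G → ℂ) g) := by
  classical
  haveI : Fact p.Prime := ⟨hM.1⟩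
  haveI := Fintype.ofFinite G
  obtain ⟨n, ρ, hirr, hρ⟩ := χ.2
  haveI := hirr
  haveI := nontrivial_of_isIrreducible ρ
  haveI : IsArtinianRing (MonoidAlgebra (ZMod p) G) := IsArtinianRing.of_finite (ZMod p) _
  have hz : IsNilpotent (MonoidAlgebra.mapRingHom G (Int.castRingHom (ZMod p))
      (∑ x ∈ classFinset g, MonoidAlgebra.single x (1 : ℤ))) := by
    rw [map_sum]
    simp only [MonoidAlgebra.mapRingHom_single, map_one]
    apply isNilpotent_of_mem_jacobson
    apply sum_single_mem_jacobson p Q hQ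
    · intro x hx u _
      rw [mem_classFinset] at hx ⊢
      exact hx.trans (isConj_iff.mpr ⟨u, rfl⟩)
    · intro x hx hxc
      rw [mem_classFinset] at hx
      obtain ⟨a, ha⟩ := isConj_iff.mp hx
      apply hg
      have h1 := (Subgroup.normal_centralizer (H := Q)).conj_mem x hxc a⁻¹
      have h2 : a⁻¹ * x * a⁻¹⁻¹ = g := by rw [← ha]; group
      rwa [h2] at h1
  apply memLocalIdeal_of_nilpotent_mod_p hM ρ _ hz
  rw [← hρ]
  exact lift_classSum_eq ρ g

/-- **central characters on a normal `p`-subgroup are congruent to the class size** -/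
theorem centralChar_sub_index_memLocalIdeal_of_mem [Finite G] {p : ℕ}
    (hM : Cfsg.IsPModular p M) (Q : Subgroup G) [Q.Normal] (hQ : IsPGroup p Q)
    (χ : Cfsg.IrrCharacter G) (g : G) (hg : g ∈ Q) :
    Cfsg.MemLocalIdeal M (Cfsg.centralChar (χ : G → ℂ) g -
      ((Subgroup.centralizer ({g} : Set G)).index : ℂ)) := by
  classical
  haveI : Fact p.Prime := ⟨hM.1⟩
  haveI := Fintype.ofFinite G
  obtain ⟨n, ρ, hirr, hρ⟩ := χ.2
  haveI := hirr
  haveI := nontrivial_of_isIrreducible ρ
  haveI : IsArtinianRing (MonoidAlgebra (ZMod p) G) := IsArtinianRing.of_finite (ZMod p) _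
  have hz : IsNilpotent (MonoidAlgebra.mapRingHom G (Int.castRingHom (ZMod p))
      ((∑ x ∈ classFinset g, MonoidAlgebra.single x (1 : ℤ)) -
        ((classFinset g).card : MonoidAlgebra ℤ G))) := by
    rw [map_sub, map_sum, map_natCast]
    simp only [MonoidAlgebra.mapRingHom_single, map_one]
    apply isNilpotent_of_mem_jacobson
    apply sum_single_sub_card_mem_jacobson p Q hQ
    intro x hx
    rw [mem_classFinset] at hx
    obtain ⟨a, ha⟩ := isConj_iff.mp hx
    rw [← ha]
    exact ‹Q.Normal›.conj_mem g hg a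
  apply memLocalIdeal_of_nilpotent_mod_p hM ρ _ hz
  rw [map_sub, map_natCast, ← hρ, lift_classSum_eq ρ g, card_classFinset]
  apply LinearMap.ext
  intro v
  simp only [LinearMap.sub_apply, LinearMap.smul_apply, LinearMap.id_apply, sub_smul]
  congr 1
  rw [Module.End.natCast_apply, Nat.cast_smul_eq_nsmul]

end Cfsg.Agent.Helper6
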