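import Mathlib
import Cfsg.Prelude.Def_Characters
import Cfsg.Prelude.Def_Blocks
import Cfsg.Agent.Helper6.PCoreChar
import Cfsg.Agent.Helper6.BlockBasic
import Cfsg.Agent.Helper6.DadeIso

/-!
# The induced central character agrees with the Brauer central character modulo the local ideal
-/

set_option autoImplicit false
set_option linter.style.haveILetI false

namespace Cfsg.Agent.Helper6

open scoped ComplexConjugate

universe u

variable {G : Type u} [Group G] {M : Ideal Cfsg.AlgInt}

/-- for `P ≤ H ≤ N_G(P)` with `P` a `p`-group: the part of the induced central character coming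
from elements not centralizing `P` lies in the local ideal -/
theorem inducedCentralChar_sub_brauerCentralChar [Finite G] {p : ℕ} (hM : Cfsg.IsPModular p M)
    (P H : Subgroup G) (hP : IsPGroup p P) (hPH : P ≤ H)
    (hHN : H ≤ Subgroup.normalizer (P : Set G)) (ξ : Cfsg.IrrCharacter H) (g : G) :
    Cfsg.MemLocalIdeal M (Cfsg.inducedCentralChar H (ξ : H → ℂ) g -
      Cfsg.brauerCentralChar P H (ξ : H → ℂ) g) := by
  classical
  haveI := Fintype.ofFinite G
  haveI : Fintype H := Fintype.ofFinite H
  haveI hPHn : (P.subgroupOf H).Normal := (Subgroup.normal_subgroupOf_iff_le_normalizer hPH).mpr hHN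
  have hPHp : IsPGroup p (P.subgroupOf H) := hP.comap_subtype
  -- membership in the centralizer, inside `H`
  have hcent : ∀ h : H, (h : G) ∈ Subgroup.centralizer (P : Set G) ↔
      h ∈ Subgroup.centralizer ((P.subgroupOf H : Subgroup H) : Set H) := by
    intro h
    rw [Subgroup.mem_centralizer_iff, Subgroup.mem_centralizer_iff]
    constructor
    · intro hh u hu
      apply Subtype.ext
      exact hh (u : G) hu
    · intro hh u hu
      have := hh ⟨u, hPH hu⟩ hu
      exact congrArg Subtype.val this
  -- the class function `d`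
  set d : H → ℂ := fun h =>
    if (h : G) ∈ Subgroup.centralizer (P : Set G) then 0 else (ξ : H → ℂ) h / (ξ : H → ℂ) 1 with hd
  have hξcf := IsCharacter.isClassFunction (IsIrrCharacter.isCharacter ξ.2)
  have hdcf : Cfsg.IsClassFunction H d := by
    intro h x
    simp only [hd]
    have hiff : ((x * h * x⁻¹ : H) : G) ∈ Subgroup.centralizer (P : Set G) ↔
        (h : G) ∈ Subgroup.centralizer (P : Set G) := by
      rw [hcent, hcent]
      constructor
      · intro h1
        have := (Subgroup.normal_centralizer (H := P.subgroupOf H)).conj_mem _ h1 x⁻¹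
        simpa [mul_assoc] using this
      · intro h1
        exact (Subgroup.normal_centralizer (H := P.subgroupOf H)).conj_mem _ h1 x
    by_cases hc : (h : G) ∈ Subgroup.centralizer (P : Set G)
    · rw [if_pos hc, if_pos (hiff.mpr hc)]
    · rw [if_neg hc, if_neg (fun h' => hc (hiff.mp h')), hξcf h x]
  set T : Finset H := Finset.univ.filter (fun h : H => IsConj g (h : G)) with hT
  have hJ : Cfsg.MemLocalIdeal M (∑ h ∈ T, d h) := by
    apply sum_mem_of_conj_closed (fun z => Cfsg.MemLocalIdeal M z) (memLocalIdeal_zero hM.2.1)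
      (fun x y hx hy => MemLocalIdeal.add hM.2.1 hx hy) d hdcf _ _ T rfl
    · intro h hh x
      rw [hT, Finset.mem_filter] at hh ⊢
      refine ⟨Finset.mem_univ _, ?_⟩
      have : ((x * h * x⁻¹ : H) : G) = (x : G) * (h : G) * (x : G)⁻¹ := rfl
      rw [this]
      exact hh.2.trans (isConj_iff.mpr ⟨_, rfl⟩)
    · intro h
      simp only [hd]
      by_cases hc : (h : G) ∈ Subgroup.centralizer (P : Set G)
      · rw [if_pos hc, mul_zero]
        exact memLocalIdeal_zero hM.2.1
      · rw [if_neg hc]
        have h1 := centralChar_memLocalIdeal_of_not_mem_centralizer hM (P.subgroupOf H) hPHp ξ h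
          (fun h' => hc ((hcent h).mpr h'))
        unfold Cfsg.centralChar at h1
        rwa [mul_div_assoc] at h1
  have heq : Cfsg.inducedCentralChar H (ξ : H → ℂ) g - Cfsg.brauerCentralChar P H (ξ : H → ℂ) g =
      ∑ h ∈ T, d h := by
    unfold Cfsg.inducedCentralChar Cfsg.brauerCentralChar
    rw [finsum_mem_eq_sum_ite, finsum_mem_eq_sum_ite, ← Finset.sum_sub_distrib, hT,
      Finset.sum_filter]
    apply Finset.sum_congr rfl
    intro h _
    have m1 : h ∈ {h : H | IsConj g (h : G)} ↔ IsConj g (h : G) := Iff.rfl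
    have m2 : h ∈ {h : H | IsConj g (h : G) ∧ (h : G) ∈ Subgroup.centralizer (P : Set G)} ↔
        (IsConj g (h : G) ∧ (h : G) ∈ Subgroup.centralizer (P : Set G)) := Iff.rfl
    simp only [hd]
    by_cases h1 : IsConj g (h : G)
    · by_cases h2 : (h : G) ∈ Subgroup.centralizer (P : Set G)
      · rw [if_pos (m1.mpr h1), if_pos (m2.mpr ⟨h1, h2⟩), if_pos h1, if_pos h2, sub_self]
      · rw [if_pos (m1.mpr h1), if_neg (fun h' => h2 (m2.mp h').2), if_pos h1, if_neg h2, sub_zero]
    · rw [if_neg (fun h' => h1 (m1.mp h')), if_neg (fun h' => h1 (m2.mp h').1), if_neg h1, sub_self]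
  rw [heq]
  exact hJ

end Cfsg.Agent.Helper6
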