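import Mathlib
import Cfsg.Prelude.Def_Characters
import Cfsg.Agent.Helper6.FinOrder
import Cfsg.Agent.Helper6.RepEigen

/-!
# Averaging a character over a subgroup commuting with an element
-/

set_option autoImplicit false
set_option linter.style.haveILetI false

namespace Cfsg.Agent.Helper6

open Module
open scoped ComplexConjugate

universe u v

variable {G : Type u} [Group G]

/-- If `g` commutes with the finite subgroup `Q`, then the average of a character over the coset
`g Q` is an algebraic integer (it is the trace of `g` on the `Q`-fixed points). -/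
theorem isIntegral_avg_char_mul [Finite G] {V : Type v} [AddCommGroup V] [Module ℂ V]
    [FiniteDimensional ℂ V] (ρ : Representation ℂ G V) (Q : Subgroup G) [Fintype Q] (g : G)
    (hg : ∀ q ∈ Q, g * q = q * g) :
    ∃ β : ℂ, IsIntegral ℤ β ∧ ∑ q : Q, ρ.character (g * q) = (Nat.card Q : ℂ) * β := by
  classical
  have hQ0 : (Nat.card Q : ℂ) ≠ 0 := by
    have : 0 < Nat.card Q := Nat.card_pos
    exact_mod_cast this.ne'
  obtain ⟨S, hS⟩ : ∃ S : End ℂ V, S = ∑ q : Q, ρ (q : G) := ⟨_, rfl⟩
  obtain ⟨π, hπ⟩ : ∃ π : End ℂ V, π = (Nat.card Q : ℂ)⁻¹ • S := ⟨_, rfl⟩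
  have hqS : ∀ q : Q, ρ (q : G) * S = S := by
    intro q
    rw [hS, Finset.mul_sum]
    apply Fintype.sum_equiv (Equiv.mulLeft q)
    intro x
    rw [Equiv.coe_mulLeft, Subgroup.coe_mul, map_mul]
  have hSS : S * S = (Nat.card Q : ℂ) • S := by
    have h1 : S * S = ∑ q : Q, ρ (q : G) * S := by
      rw [← Finset.sum_mul, ← hS]
    rw [h1]
    simp_rw [hqS]
    rw [Finset.sum_const, Finset.card_univ, ← Nat.card_eq_fintype_card, Nat.cast_smul_eq_nsmul]
  have hππ : π * π = π := by
    rw [hπ, smul_mul_smul_comm, hSS, smul_smul, mul_assoc, inv_mul_cancel₀ hQ0, mul_one]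
  have hgS : ρ g * S = S * ρ g := by
    rw [hS, Finset.mul_sum, Finset.sum_mul]
    apply Finset.sum_congr rfl
    intro q _
    rw [← map_mul, ← map_mul, hg q q.2]
  have hgπ : ρ g * π = π * ρ g := by
    rw [hπ, mul_smul_comm, hgS, smul_mul_assoc]
  obtain ⟨W, hW⟩ : ∃ W : Submodule ℂ V, W = LinearMap.range π := ⟨_, rfl⟩
  obtain ⟨T, hT⟩ : ∃ T : End ℂ V, T = ρ g * π := ⟨_, rfl⟩
  have hTW : ∀ x, T x ∈ W := by
    intro x
    rw [hT, hgπ, hW]
    exact ⟨ρ g x, rfl⟩
  have hπW : ∀ w ∈ W, π w = w := by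
    intro w hw
    rw [hW] at hw
    obtain ⟨v, rfl⟩ := hw
    have := congrArg (fun f : End ℂ V => f v) hππ
    exact this
  have htr : LinearMap.trace ℂ V T = (Nat.card Q : ℂ)⁻¹ * ∑ q : Q, ρ.character (g * q) := by
    rw [hT, hπ, mul_smul_comm, map_smul, smul_eq_mul, hS, Finset.mul_sum, map_sum]
    congr 1
    apply Finset.sum_congr rfl
    intro q _
    unfold Representation.character
    rw [← map_mul]
  have hres := LinearMap.trace_restrict_eq_of_forall_mem W T hTW
  obtain ⟨T', hT'⟩ : ∃ T' : End ℂ W, T' = T.restrict (fun x _ => hTW x) := ⟨_, rfl⟩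
  rw [← hT'] at hres
  have hT'app : ∀ (k : ℕ) (w : W), ((T' ^ k) w : V) = (ρ g ^ k) (w : V) := by
    intro k
    induction k with
    | zero => intro w; simp
    | succ k ih =>
      intro w
      rw [pow_succ, pow_succ, Module.End.mul_apply, Module.End.mul_apply, ih]
      congr 1
      rw [hT', LinearMap.coe_restrict_apply, hT, Module.End.mul_apply, hπW w w.2]
  have hpow : T' ^ orderOf g = 1 := by
    apply LinearMap.ext
    intro w
    apply Subtype.ext
    rw [hT'app, ← map_pow, pow_orderOf_eq_one, map_one]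
    rfl
  obtain ⟨ι, hι, b, μ, h1, h2⟩ := exists_eigenbasis_of_pow_eq_one T' (orderOf g) (orderOf_pos g) hpow
  refine ⟨∑ i, μ i, ?_, ?_⟩
  · apply IsIntegral.sum
    intro i _
    exact IsIntegral.of_pow (orderOf_pos g) (by rw [h2 i]; exact isIntegral_one)
  · rw [← trace_eq_sum_of_eigenbasis b T' μ h1, hres, htr, ← mul_assoc, mul_inv_cancel₀ hQ0,
      one_mul]

end Cfsg.Agent.Helper6
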