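import Mathlib
import Cfsg.Prelude.Def_Characters
import Cfsg.Prelude.Def_Blocks
import Cfsg.Agent.Helper6.FixedTrace
import Cfsg.Agent.Helper6.OsimaSupport
import Cfsg.Agent.Helper6.DefectZeroBlock
import Cfsg.Agent.Helper6.DadeIso

/-!
# The order of a defect group
-/

set_option autoImplicit false
set_option linter.style.haveILetI false

namespace Cfsg.Agent.Helper6

open Module
open scoped ComplexConjugate

universe u

variable {G : Type u} [Group G] {M : Ideal Cfsg.AlgInt}

/-- An element of `M` times an algebraic integer over a natural number outside `M`. -/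
theorem memLocalIdeal_prime_mul_div (hM : M.IsMaximal) (p : ℕ) (hp : p.Prime)
    (hpM : (p : Cfsg.AlgInt) ∈ M) (k n' : ℕ) (hn' : ¬ p ∣ n') (z : ℂ) (hz : IsIntegral ℤ z) :
    Cfsg.MemLocalIdeal M ((p : ℂ) * (k : ℂ) * z / (n' : ℂ)) := by
  refine ⟨(p : Cfsg.AlgInt) * ((k : Cfsg.AlgInt) * ⟨z, hz⟩), (n' : Cfsg.AlgInt),
    M.mul_mem_right _ hpM, natCast_not_mem_of_not_dvd hM hp hpM hn', ?_⟩
  push_cast
  ring

/-- If the central character of `χ` at `g` is outside the local ideal, the `p`-part of the class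
size of `g` divides the degree of `χ`. -/
theorem factorization_index_le_of_centralChar [Finite G] (hM : M.IsMaximal) (p : ℕ)
    (hp : p.Prime) (hpM : (p : Cfsg.AlgInt) ∈ M) (χ : Cfsg.IrrCharacter G) (g : G)
    (h : ¬ Cfsg.MemLocalIdeal M (Cfsg.centralChar (χ : G → ℂ) g)) :
    ((Subgroup.centralizer ({g} : Set G)).index).factorization p ≤
      (Cfsg.charDegree (χ : G → ℂ)).factorization p := by
  by_contra hlt
  push Not at hlt
  apply h
  obtain ⟨K, -, -, hpos, hdeg, -⟩ := exists_kernel_data χ.2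
  set n := Cfsg.charDegree (χ : G → ℂ) with hn
  set k := (Subgroup.centralizer ({g} : Set G)).index with hk
  obtain ⟨n', hn'⟩ := Nat.ordProj_dvd n p
  have hn'p : ¬ p ∣ n' := by
    have h1 : n' = n / p ^ n.factorization p := by
      rw [Nat.div_eq_of_eq_mul_right (pow_pos hp.pos _) hn']
    rw [h1]
    exact Nat.not_dvd_ordCompl hp hpos.ne'
  obtain ⟨k'', hk''⟩ : p ^ (n.factorization p + 1) ∣ k :=
    (pow_dvd_pow p hlt).trans (Nat.ordProj_dvd k p)
  obtain ⟨e, he⟩ : ∃ e : ℕ, e = n.factorization p := ⟨_, rfl⟩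
  rw [← he] at hn' hk''
  have hχg : IsIntegral ℤ ((χ : G → ℂ) g) := by
    obtain ⟨m, ρ, hρ⟩ := IsIrrCharacter.isCharacter χ.2
    rw [← hρ]
    exact isIntegral_char ρ g
  have := memLocalIdeal_prime_mul_div hM p hp hpM k'' n' hn'p _ hχg
  have heq : Cfsg.centralChar (χ : G → ℂ) g =
      (p : ℂ) * (k'' : ℂ) * (χ : G → ℂ) g / (n' : ℂ) := by
    unfold Cfsg.centralChar
    rw [hdeg, ← hk, hk'', hn']
    have hp0 : (p : ℂ) ≠ 0 := by exact_mod_cast hp.ne_zero
    have hn'0 : (n' : ℂ) ≠ 0 := by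
      intro h0
      have : n' = 0 := by exact_mod_cast h0
      rw [this, mul_zero] at hn'
      exact hpos.ne' hn'
    push_cast
    field_simp
    ring
  rw [heq]
  exact this

/-- A `p`-regular element times a nontrivial commuting `p`-element is `p`-singular. -/
theorem dvd_orderOf_mul_of_pgroup (p : ℕ) [hp : Fact p.Prime] (g q : G) (hg : ¬ p ∣ orderOf g)
    (hq : ∃ k : ℕ, orderOf q = p ^ k) (hq1 : q ≠ 1) (hc : g * q = q * g) :
    p ∣ orderOf (g * q) := by
  obtain ⟨k, hk⟩ := hq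
  have hk0 : k ≠ 0 := by
    rintro rfl
    rw [pow_zero, orderOf_eq_one_iff] at hk
    exact hq1 hk
  have hcop : Nat.Coprime (orderOf g) (orderOf q) := by
    rw [hk]
    apply Nat.Coprime.pow_right
    exact ((Nat.Prime.coprime_iff_not_dvd hp.out).mpr hg).symm
  have hcomm : Commute g q := hc
  rw [hcomm.orderOf_mul_eq_mul_orderOf_of_coprime hcop, hk]
  exact Dvd.dvd.mul_left (dvd_pow_self p hk0) _

/-- The idempotent coefficient at a `p`-regular element in terms of a commuting `p`-subgroup. -/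
theorem card_mul_blockCoeff_eq [Finite G] (hM : M.IsMaximal) (p : ℕ) [hp : Fact p.Prime]
    (hpM : (p : Cfsg.AlgInt) ∈ M) (B : Set (Cfsg.IrrCharacter G)) (hB : Cfsg.IsPBlock M B)
    (g : G) (hg : ¬ p ∣ orderOf g) (Q : Subgroup G) (hQ : IsPGroup p Q)
    (hcomm : ∀ q ∈ Q, g * q = q * g) (h : ℕ)
    (hh : ∀ χ ∈ B, p ^ h ∣ Cfsg.charDegree (χ : G → ℂ)) :
    ∃ β : ℂ, IsIntegral ℤ β ∧
      (Nat.card G : ℂ) * Cfsg.blockCoeff B g = (Nat.card Q : ℂ) * (p : ℂ) ^ h * β := by
  classical
  haveI := Fintype.ofFinite G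
  haveI : Finite (Cfsg.IrrCharacter G) := irr_finite
  haveI : Fintype (Cfsg.IrrCharacter G) := Fintype.ofFinite _
  haveI : Fintype Q := Fintype.ofFinite _
  have hG0 : (Nat.card G : ℂ) ≠ 0 := by
    have : 0 < Nat.card G := Nat.card_pos
    exact_mod_cast this.ne'
  -- the sum over the coset
  have hsum : ∑ q : Q, Cfsg.blockCoeff B (g * q) = Cfsg.blockCoeff B g := by
    rw [Finset.sum_eq_single (1 : Q)]
    · simp
    · intro q _ hq
      apply blockCoeff_eq_zero_of_singular hM p hpM B hB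
      apply dvd_orderOf_mul_of_pgroup p g q hg
      · obtain ⟨k, hk⟩ := (IsPGroup.iff_orderOf.mp hQ) q
        exact ⟨k, by rw [Subgroup.orderOf_coe, hk]⟩
      · intro h1
        exact hq (Subtype.ext h1)
      · exact hcomm q q.2
    · intro h1
      exact absurd (Finset.mem_univ _) h1
  -- data for each character
  have hdata : ∀ χ : Cfsg.IrrCharacter G, ∃ β : ℂ, IsIntegral ℤ β ∧
      (χ ∈ B → ∑ q : Q, (χ : G → ℂ) 1 * conj ((χ : G → ℂ) (g * q)) =
        (Nat.card Q : ℂ) * (p : ℂ) ^ h * β) := by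
    intro χ
    by_cases hχ : χ ∈ B
    · obtain ⟨n, ρ, hirr, hρ⟩ := χ.2
      obtain ⟨β, hβ, hβeq⟩ := isIntegral_avg_char_mul ρ Q g hcomm
      obtain ⟨K, -, -, hpos, hdeg, -⟩ := exists_kernel_data χ.2
      obtain ⟨c, hc⟩ := hh χ hχ
      refine ⟨(c : ℂ) * conj β, ?_, ?_⟩
      · apply IsIntegral.mul
        · exact isIntegral_algebraMap (R := ℤ) (A := ℂ) (x := (c : ℤ)) |>
            fun h => by simpa using h
        · exact hβ.map (Complex.conjAe.toAlgHom.restrictScalars ℤ)
      · intro _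
        rw [← Finset.mul_sum, ← map_sum, ← hρ, hβeq, hρ, hdeg, hc]
        push_cast
        simp only [map_mul, map_natCast]
        ring
    · exact ⟨0, isIntegral_zero, fun h => absurd h hχ⟩
  choose β hβ hβeq using hdata
  refine ⟨∑ χ : Cfsg.IrrCharacter G, if χ ∈ B then β χ else 0, ?_, ?_⟩
  · apply IsIntegral.sum
    intro χ _
    split_ifs
    · exact hβ χ
    · exact isIntegral_zero
  · rw [← hsum, Finset.mul_sum]
    have h1 : ∀ q : Q, (Nat.card G : ℂ) * Cfsg.blockCoeff B (g * q) =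
        ∑ χ : Cfsg.IrrCharacter G, if χ ∈ B then
          (χ : G → ℂ) 1 * conj ((χ : G → ℂ) (g * q)) else 0 := by
      intro q
      unfold Cfsg.blockCoeff
      rw [finsum_mem_eq_sum_ite, ← mul_assoc, mul_inv_cancel₀ hG0, one_mul]
    simp_rw [h1]
    rw [Finset.sum_comm, Finset.mul_sum]
    apply Finset.sum_congr rfl
    intro χ _
    by_cases hχ : χ ∈ B
    · simp only [if_pos hχ]
      exact hβeq χ hχ
    · simp only [if_neg hχ, Finset.sum_const_zero, mul_zero]

/-- A defect class is `p`-regular. -/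
theorem IsDefectClass.not_dvd_orderOf [Finite G] (hM : M.IsMaximal) (p : ℕ) [hp : Fact p.Prime]
    (hpM : (p : Cfsg.AlgInt) ∈ M) (B : Set (Cfsg.IrrCharacter G)) (hB : Cfsg.IsPBlock M B)
    (g : G) (hg : Cfsg.IsDefectClass M B g) : ¬ p ∣ orderOf g := by
  intro hdiv
  apply hg.2.1
  rw [blockCoeff_eq_zero_of_singular hM p hpM B hB g hdiv]
  exact memLocalIdeal_zero hM

/-- The defect of a block is the exponent of `p` in the centralizer order of a defect class. -/
theorem blockDefect_eq_of_defectClass [Finite G] (hM : M.IsMaximal) (p : ℕ) [hp : Fact p.Prime]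
    (hpM : (p : Cfsg.AlgInt) ∈ M) (B : Set (Cfsg.IrrCharacter G)) (hB : Cfsg.IsPBlock M B)
    (g : G) (hg : Cfsg.IsDefectClass M B g) :
    Cfsg.blockDefect p B = (Nat.card (Subgroup.centralizer ({g} : Set G))).factorization p := by
  classical
  set C := Subgroup.centralizer ({g} : Set G) with hC
  set a := (Nat.card G).factorization p with ha
  set d' := (Nat.card C).factorization p with hd'
  have hG0 : Nat.card G ≠ 0 := Nat.card_pos.ne'
  have hC0 : Nat.card C ≠ 0 := Nat.card_pos.ne'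
  have hidx0 : C.index ≠ 0 := Subgroup.index_ne_zero_of_finite
  have hmul : Nat.card C * C.index = Nat.card G := Subgroup.card_mul_index C
  have hadd : a = d' + C.index.factorization p := by
    rw [ha, ← hmul, Nat.factorization_mul hC0 hidx0]
    rfl
  have hreg := IsDefectClass.not_dvd_orderOf hM p hpM B hB g hg
  obtain ⟨χ₀, hχ₀⟩ := hB
  have hB' : Cfsg.IsPBlock M B := ⟨χ₀, hχ₀⟩
  have hχ₀B : χ₀ ∈ B := by
    rw [hχ₀]
    exact mem_blockOf_self hM χ₀
  set S := (fun ξ : Cfsg.IrrCharacter G => (Cfsg.charDegree (ξ : G → ℂ)).factorization p) '' B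
    with hS
  have hSne : S.Nonempty := ⟨_, χ₀, hχ₀B, rfl⟩
  set h := sInf S with hh
  have hdef : Cfsg.blockDefect p B = a - h := rfl
  -- lower bound on h
  have h1 : C.index.factorization p ≤ h := by
    apply le_csInf hSne
    rintro _ ⟨χ, hχ, rfl⟩
    exact factorization_index_le_of_centralChar hM p hp.out hpM χ g (hg.2.2 χ hχ)
  -- upper bound on h
  obtain ⟨P⟩ : Nonempty (Sylow p C) := inferInstance
  set Q : Subgroup G := (P : Subgroup C).map C.subtype with hQ
  have hQp : IsPGroup p Q := by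
    rw [hQ]
    exact P.isPGroup'.map _
  have hQcard : Nat.card Q = p ^ d' := by
    rw [hQ, Subgroup.card_subtype, Sylow.card_eq_multiplicity]
  have hQcomm : ∀ q ∈ Q, g * q = q * g := by
    intro q hq
    rw [hQ] at hq
    obtain ⟨c, -, rfl⟩ := hq
    have := (Subgroup.mem_centralizer_iff.mp c.2) g (Set.mem_singleton g)
    exact this
  have hhdvd : ∀ χ ∈ B, p ^ h ∣ Cfsg.charDegree (χ : G → ℂ) := by
    intro χ hχ
    have : h ≤ (Cfsg.charDegree (χ : G → ℂ)).factorization p := Nat.sInf_le ⟨χ, hχ, rfl⟩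
    exact (pow_dvd_pow p this).trans (Nat.ordProj_dvd _ p)
  obtain ⟨β, hβ, hβeq⟩ := card_mul_blockCoeff_eq hM p hpM B hB' g hreg Q hQp hQcomm h hhdvd
  have h2 : d' + h ≤ a := by
    by_contra hlt
    push Not at hlt
    apply hg.2.1
    obtain ⟨m, hm⟩ := Nat.ordProj_dvd (Nat.card G) p
    have hmp : ¬ p ∣ m := by
      intro hdiv
      have h1 : p ^ (a + 1) ∣ Nat.card G := by
        rw [pow_succ]
        exact (Nat.mul_dvd_mul_left _ hdiv).trans (dvd_of_eq hm.symm)
      exact Nat.pow_succ_factorization_not_dvd hG0 hp.out h1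
    obtain ⟨t, ht⟩ : ∃ t : ℕ, d' + h = a + 1 + t := ⟨d' + h - (a + 1), by omega⟩
    have hm0 : (m : ℂ) ≠ 0 := by
      intro h0
      have : m = 0 := by exact_mod_cast h0
      rw [this, mul_zero] at hm
      exact hG0 hm
    have hp0 : (p : ℂ) ≠ 0 := by exact_mod_cast hp.out.ne_zero
    have heq : Cfsg.blockCoeff B g = (p : ℂ) * ((p ^ t : ℕ) : ℂ) * β / (m : ℂ) := by
      have h3 : (Nat.card G : ℂ) = (p : ℂ) ^ a * (m : ℂ) := by
        rw [← ha] at hm
        rw [hm]
        push_cast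
        rfl
      rw [h3, hQcard] at hβeq
      have h4 : (p : ℂ) ^ a * (m : ℂ) * Cfsg.blockCoeff B g =
          (p : ℂ) ^ a * ((p : ℂ) * (p : ℂ) ^ t * β) := by
        rw [hβeq]
        push_cast
        rw [← pow_add, ht]
        ring
      have hpa0 : (p : ℂ) ^ a ≠ 0 := pow_ne_zero _ hp0
      rw [mul_assoc] at h4
      have h5 := mul_left_cancel₀ hpa0 h4
      rw [eq_div_iff hm0, mul_comm, h5]
      push_cast
      ring
    rw [heq]
    exact memLocalIdeal_prime_mul_div hM p hp.out hpM _ m hmp β hβ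
  rw [hdef]
  omega

/-- **S0908**: the order of a defect group. -/
theorem card_defectGroup [Finite G] (hM : M.IsMaximal) (p : ℕ) [hp : Fact p.Prime]
    (hpM : (p : Cfsg.AlgInt) ∈ M) (B : Set (Cfsg.IrrCharacter G)) (hB : Cfsg.IsPBlock M B)
    (D : Subgroup G) (hD : Cfsg.IsDefectGroup p M B D) :
    Nat.card D = p ^ Cfsg.blockDefect p B := by
  obtain ⟨g, hg, P, rfl⟩ := hD
  rw [blockDefect_eq_of_defectClass hM p hpM B hB g hg, Subgroup.card_subtype,
    Sylow.card_eq_multiplicity]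

end Cfsg.Agent.Helper6
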