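import Mathlib
import Cfsg.Prelude.Def_Characters
import Cfsg.Prelude.Def_Blocks
import Cfsg.Agent.Helper6.CharCongr
import Cfsg.Agent.Helper6.DefectOrder
import Cfsg.Agent.Helper6.BlockEquiv

/-!
# Values of characters of height zero near a defect class
-/

set_option autoImplicit false
set_option linter.style.haveILetI false

namespace Cfsg.Agent.Helper6

open Module
open scoped ComplexConjugate

universe u

variable {G : Type u} [Group G] {M : Ideal Cfsg.AlgInt}

theorem memLocalRing_natCast_div (hM : M.IsMaximal) (p : ℕ) (hp : p.Prime)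
    (hpM : (p : Cfsg.AlgInt) ∈ M) (a b : ℕ) (hb : ¬ p ∣ b) :
    Cfsg.MemLocalRing M ((a : ℂ) / (b : ℂ)) := by
  refine ⟨(a : Cfsg.AlgInt), (b : Cfsg.AlgInt), natCast_not_mem_of_not_dvd hM hp hpM hb, ?_⟩
  push_cast
  rfl

/-- If the `p`-parts of the class size of `g` and of the degree of `χ` agree, then the central
character of `χ` at `g` lies in the local ideal iff `χ g` does. -/
theorem centralChar_memLocalIdeal_iff [Finite G] (hM : M.IsMaximal) (p : ℕ) (hp : p.Prime)
    (hpM : (p : Cfsg.AlgInt) ∈ M) (χ : Cfsg.IrrCharacter G) (g : G)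
    (h : ((Subgroup.centralizer ({g} : Set G)).index).factorization p =
      (Cfsg.charDegree (χ : G → ℂ)).factorization p) :
    Cfsg.MemLocalIdeal M (Cfsg.centralChar (χ : G → ℂ) g) ↔
      Cfsg.MemLocalIdeal M ((χ : G → ℂ) g) := by
  obtain ⟨K, -, -, hpos, hdeg, -⟩ := exists_kernel_data χ.2
  obtain ⟨n, hn⟩ : ∃ n : ℕ, n = Cfsg.charDegree (χ : G → ℂ) := ⟨_, rfl⟩
  obtain ⟨k, hk⟩ : ∃ k : ℕ, k = (Subgroup.centralizer ({g} : Set G)).index := ⟨_, rfl⟩
  rw [← hn, ← hk] at h
  rw [← hn] at hpos hdeg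
  have hk0 : k ≠ 0 := by
    rw [hk]
    exact Subgroup.index_ne_zero_of_finite
  obtain ⟨e, he⟩ : ∃ e : ℕ, e = n.factorization p := ⟨_, rfl⟩
  obtain ⟨n', hn'⟩ := Nat.ordProj_dvd n p
  obtain ⟨k', hk'⟩ := Nat.ordProj_dvd k p
  have hn'p : ¬ p ∣ n' := by
    have h1 : n' = n / p ^ n.factorization p := by
      rw [Nat.div_eq_of_eq_mul_right (pow_pos hp.pos _) hn']
    rw [h1]
    exact Nat.not_dvd_ordCompl hp hpos.ne'
  have hk'p : ¬ p ∣ k' := by
    have h1 : k' = k / p ^ k.factorization p := by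
      rw [Nat.div_eq_of_eq_mul_right (pow_pos hp.pos _) hk']
    rw [h1]
    exact Nat.not_dvd_ordCompl hp hk0
  rw [h, ← he] at hk'
  rw [← he] at hn'
  have hp0 : (p : ℂ) ^ e ≠ 0 := pow_ne_zero _ (by exact_mod_cast hp.ne_zero)
  have hn'0 : (n' : ℂ) ≠ 0 := by
    intro h0
    have : n' = 0 := by exact_mod_cast h0
    rw [this, mul_zero] at hn'
    exact hpos.ne' hn'
  have hk'0 : (k' : ℂ) ≠ 0 := by
    intro h0
    have : k' = 0 := by exact_mod_cast h0
    rw [this, mul_zero] at hk'
    exact hk0 hk'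
  have heq : Cfsg.centralChar (χ : G → ℂ) g = (k' : ℂ) / (n' : ℂ) * (χ : G → ℂ) g := by
    unfold Cfsg.centralChar
    rw [hdeg, ← hk, hk', hn']
    push_cast
    field_simp
  constructor
  · intro hω
    have h1 : (χ : G → ℂ) g = (n' : ℂ) / (k' : ℂ) * Cfsg.centralChar (χ : G → ℂ) g := by
      rw [heq]
      field_simp
    rw [h1]
    exact MemLocalIdeal.mul_left hM (memLocalRing_natCast_div hM p hp hpM n' k' hk'p) hω
  · intro hχ
    rw [heq]
    exact MemLocalIdeal.mul_left hM (memLocalRing_natCast_div hM p hp hpM k' n' hn'p) hχ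

/-- For a member of `B` of height zero and a defect class `y`, the `p`-part of the degree is the
`p`-part of the class size of `y`. -/
theorem factorization_degree_of_height_zero [Finite G] (hM : M.IsMaximal) (p : ℕ)
    [hp : Fact p.Prime] (hpM : (p : Cfsg.AlgInt) ∈ M) (B : Set (Cfsg.IrrCharacter G))
    (hB : Cfsg.IsPBlock M B) (y : G) (hy : Cfsg.IsDefectClass M B y)
    (χ : Cfsg.IrrCharacter G) (hχ : χ ∈ B) (hht : Cfsg.blockHeight p B (χ : G → ℂ) = 0) :
    (Cfsg.charDegree (χ : G → ℂ)).factorization p =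
      ((Subgroup.centralizer ({y} : Set G)).index).factorization p := by
  have hdef := blockDefect_eq_of_defectClass hM p hpM B hB y hy
  set C := Subgroup.centralizer ({y} : Set G) with hC
  have hG0 : Nat.card G ≠ 0 := Nat.card_pos.ne'
  have hC0 : Nat.card C ≠ 0 := Nat.card_pos.ne'
  have hidx0 : C.index ≠ 0 := Subgroup.index_ne_zero_of_finite
  have hmul : Nat.card C * C.index = Nat.card G := Subgroup.card_mul_index C
  have hadd : (Nat.card G).factorization p =
      (Nat.card C).factorization p + C.index.factorization p := by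
    rw [← hmul, Nat.factorization_mul hC0 hidx0]
    rfl
  obtain ⟨h, hh⟩ : ∃ h : ℕ, h = sInf ((fun ξ : Cfsg.IrrCharacter G =>
      (Cfsg.charDegree (ξ : G → ℂ)).factorization p) '' B) := ⟨_, rfl⟩
  have hdef' : Cfsg.blockDefect p B = (Nat.card G).factorization p - h := by
    rw [hh]; rfl
  have hht' : Cfsg.blockHeight p B (χ : G → ℂ) =
      (Cfsg.charDegree (χ : G → ℂ)).factorization p - h := by
    rw [hh]; rfl
  have hle : h ≤ (Cfsg.charDegree (χ : G → ℂ)).factorization p := by
    rw [hh]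
    exact Nat.sInf_le ⟨χ, hχ, rfl⟩
  obtain ⟨K, -, -, hdpos, -, -⟩ := exists_kernel_data χ.2
  have hddvd := charDegree_dvd_card χ.2
  have hfle : (Cfsg.charDegree (χ : G → ℂ)).factorization p ≤ (Nat.card G).factorization p :=
    (Nat.factorization_le_iff_dvd hdpos.ne' hG0).mpr hddvd p
  omega

/-- **S0927 (a)**. -/
theorem not_memLocalIdeal_apply_mul [Finite G] (hM : M.IsMaximal) (p : ℕ)
    [hp : Fact p.Prime] (hpM : (p : Cfsg.AlgInt) ∈ M) (B : Set (Cfsg.IrrCharacter G))
    (hB : Cfsg.IsPBlock M B) (y : G) (hy : Cfsg.IsDefectClass M B y)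
    (x : G) (hxy : x * y = y * x) (hx : ∃ k : ℕ, orderOf x = p ^ k)
    (χ : Cfsg.IrrCharacter G) (hχ : χ ∈ B) (hht : Cfsg.blockHeight p B (χ : G → ℂ) = 0) :
    ¬ Cfsg.MemLocalIdeal M ((χ : G → ℂ) (x * y)) := by
  intro hmem
  have hreg := IsDefectClass.not_dvd_orderOf hM p hpM B hB y hy
  have hcong := char_mul_sub_memLocalIdeal hM p hp.out hpM (IsIrrCharacter.isCharacter χ.2)
    x y hxy hx hreg
  have hχy : Cfsg.MemLocalIdeal M ((χ : G → ℂ) y) := by
    have := MemLocalIdeal.sub hM hmem hcong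
    rwa [sub_sub_cancel] at this
  have hfac := factorization_degree_of_height_zero hM p hpM B hB y hy χ hχ hht
  have := (centralChar_memLocalIdeal_iff hM p hp.out hpM χ y hfac.symm).mpr hχy
  exact hy.2.2 χ hχ this

/-- A block has a member of height zero. -/
theorem exists_height_zero (p : ℕ) (B : Set (Cfsg.IrrCharacter G)) (hne : B.Nonempty) :
    ∃ χ ∈ B, Cfsg.blockHeight p B (χ : G → ℂ) = 0 := by
  have hSne : ((fun ξ : Cfsg.IrrCharacter G =>
      (Cfsg.charDegree (ξ : G → ℂ)).factorization p) '' B).Nonempty := hne.image _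
  obtain ⟨χ, hχ, hχeq⟩ := Nat.sInf_mem hSne
  refine ⟨χ, hχ, ?_⟩
  unfold Cfsg.blockHeight
  simp only at hχeq
  rw [hχeq, Nat.sub_self]

/-- **S0927 (b)**. -/
theorem not_memLocalIdeal_centralChar_mul [Finite G] (hM : M.IsMaximal) (p : ℕ)
    [hp : Fact p.Prime] (hpM : (p : Cfsg.AlgInt) ∈ M) (B : Set (Cfsg.IrrCharacter G))
    (hB : Cfsg.IsPBlock M B) (y : G) (hy : Cfsg.IsDefectClass M B y)
    (P : Sylow p (Subgroup.centralizer ({y} : Set G)))
    (x : Subgroup.centralizer ({y} : Set G))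
    (hx : x ∈ (P : Subgroup (Subgroup.centralizer ({y} : Set G))))
    (hcen : ∀ w ∈ (P : Subgroup (Subgroup.centralizer ({y} : Set G))), x * w = w * x)
    (χ : Cfsg.IrrCharacter G) (hχ : χ ∈ B) :
    ¬ Cfsg.MemLocalIdeal M (Cfsg.centralChar (χ : G → ℂ) ((x : G) * y)) := by
  classical
  intro hmem
  have hreg := IsDefectClass.not_dvd_orderOf hM p hpM B hB y hy
  obtain ⟨χ₀, hχ₀, hht⟩ := exists_height_zero p B ⟨χ, hχ⟩
  -- x commutes with y and is a p-element
  have hxy : (x : G) * y = y * (x : G) :=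
    (Subgroup.mem_centralizer_iff.mp x.2 y (Set.mem_singleton y)).symm
  have hxord : ∃ k : ℕ, orderOf (x : G) = p ^ k := by
    obtain ⟨k, hk⟩ := P.isPGroup' ⟨x, hx⟩
    have h1 : (x : G) ^ p ^ k = 1 := by
      have := congrArg (fun t : (P : Subgroup (Subgroup.centralizer ({y} : Set G))) =>
        ((t : Subgroup.centralizer ({y} : Set G)) : G)) hk
      simpa using this
    obtain ⟨j, -, hj⟩ := (Nat.dvd_prime_pow hp.out).mp (orderOf_dvd_of_pow_eq_one h1)
    exact ⟨j, hj⟩
  have ha := not_memLocalIdeal_apply_mul hM p hpM B hB y hy (x : G) hxy hxord χ₀ hχ₀ hht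
  have hfac := factorization_degree_of_height_zero hM p hpM B hB y hy χ₀ hχ₀ hht
  -- centralizers
  obtain ⟨Cz, hCz⟩ : ∃ Cz : Subgroup G, Cz = Subgroup.centralizer ({(x : G) * y} : Set G) :=
    ⟨_, rfl⟩
  have hG0 : Nat.card G ≠ 0 := Nat.card_pos.ne'
  have hCy0 : Nat.card (Subgroup.centralizer ({y} : Set G)) ≠ 0 := Nat.card_pos.ne'
  have hCz0 : Nat.card Cz ≠ 0 := Nat.card_pos.ne'
  have hle : Cz ≤ Subgroup.centralizer ({y} : Set G) := by
    intro c hc
    rw [hCz] at hc
    obtain ⟨k, hk⟩ := hxord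
    have hcop : Nat.Coprime (orderOf y) (orderOf (x : G)) := by
      rw [hk]
      apply Nat.Coprime.pow_right
      exact ((Nat.Prime.coprime_iff_not_dvd hp.out).mpr hreg).symm
    obtain ⟨-, hyz⟩ := mem_zpowers_mul_of_coprime (x : G) y hxy hcop
    obtain ⟨i, hi⟩ := Subgroup.mem_zpowers_iff.mp hyz
    rw [Subgroup.mem_centralizer_iff]
    intro t ht
    rw [Set.mem_singleton_iff] at ht
    rw [ht, ← hi]
    have hcomm : Commute ((x : G) * y) c :=
      Subgroup.mem_centralizer_iff.mp hc _ (Set.mem_singleton _)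
    exact (hcomm.zpow_left i).eq
  have hQle : (P : Subgroup (Subgroup.centralizer ({y} : Set G))).map
      (Subgroup.centralizer ({y} : Set G)).subtype ≤ Cz := by
    rintro _ ⟨w, hw, rfl⟩
    rw [hCz, Subgroup.mem_centralizer_iff]
    intro t ht
    rw [Set.mem_singleton_iff] at ht
    rw [ht]
    have h1 : (x : G) * (w : G) = (w : G) * (x : G) := by
      have := congrArg (fun t : Subgroup.centralizer ({y} : Set G) => (t : G)) (hcen w hw)
      simpa using this
    have h2 : y * (w : G) = (w : G) * y :=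
      Subgroup.mem_centralizer_iff.mp w.2 y (Set.mem_singleton y)
    change (x : G) * y * (w : G) = (w : G) * ((x : G) * y)
    rw [mul_assoc, h2, ← mul_assoc, h1, mul_assoc]
  have hQcard : Nat.card ((P : Subgroup (Subgroup.centralizer ({y} : Set G))).map
      (Subgroup.centralizer ({y} : Set G)).subtype) =
      p ^ (Nat.card (Subgroup.centralizer ({y} : Set G))).factorization p := by
    rw [Subgroup.card_subtype, Sylow.card_eq_multiplicity]
  have h1 : (Nat.card (Subgroup.centralizer ({y} : Set G))).factorization p ≤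
      (Nat.card Cz).factorization p := by
    have hdvd := Subgroup.card_dvd_of_le hQle
    rw [hQcard] at hdvd
    exact (Nat.Prime.pow_dvd_iff_le_factorization hp.out hCz0).mp hdvd
  have h2 : (Nat.card Cz).factorization p ≤
      (Nat.card (Subgroup.centralizer ({y} : Set G))).factorization p :=
    (Nat.factorization_le_iff_dvd hCz0 hCy0).mpr (Subgroup.card_dvd_of_le hle) p
  have hidxy : (Nat.card G).factorization p =
      (Nat.card (Subgroup.centralizer ({y} : Set G))).factorization p +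
        (Subgroup.centralizer ({y} : Set G)).index.factorization p := by
    rw [← Subgroup.card_mul_index (Subgroup.centralizer ({y} : Set G)),
      Nat.factorization_mul hCy0 Subgroup.index_ne_zero_of_finite]
    rfl
  have hidxz : (Nat.card G).factorization p =
      (Nat.card Cz).factorization p + Cz.index.factorization p := by
    rw [← Subgroup.card_mul_index Cz, Nat.factorization_mul hCz0 Subgroup.index_ne_zero_of_finite]
    rfl
  have hfac' : Cz.index.factorization p = (Cfsg.charDegree (χ₀ : G → ℂ)).factorization p := by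
    omega
  have hω₀ : ¬ Cfsg.MemLocalIdeal M (Cfsg.centralChar (χ₀ : G → ℂ) ((x : G) * y)) := by
    rw [hCz] at hfac'
    rw [centralChar_memLocalIdeal_iff hM p hp.out hpM χ₀ _ hfac']
    exact ha
  -- same block
  obtain ⟨χ₁, hχ₁⟩ := hB
  rw [hχ₁] at hχ hχ₀
  have hsame : Cfsg.SameBlock M (χ₀ : G → ℂ) (χ : G → ℂ) :=
    sameBlock_trans hM (sameBlock_symm hχ₀) hχ
  apply hω₀
  have := MemLocalIdeal.add hM (hsame ((x : G) * y)) hmem
  rwa [sub_add_cancel] at this

end Cfsg.Agent.Helper6
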