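import Mathlib
import Cfsg.Prelude.Def_Characters
import Cfsg.Prelude.Def_Blocks
import Cfsg.Agent.Helper6.DefectClassValues
import Cfsg.Agent.Helper6.BrauerPerm

/-!
# The numerical min-max theorem and blocks of a given defect
-/

set_option autoImplicit false
set_option linter.style.haveILetI false

namespace Cfsg.Agent.Helper6

open Module
open scoped ComplexConjugate

universe u

variable {G : Type u} [Group G] {M : Ideal Cfsg.AlgInt}

/-- Numerical min-max, part (a): if the idempotent coefficient at `g` is outside the local ideal,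
the defect of the class of `g` is at most the defect of the block. -/
theorem factorization_centralizer_le_of_blockCoeff [Finite G] (hM : M.IsMaximal) (p : ℕ)
    [hp : Fact p.Prime] (hpM : (p : Cfsg.AlgInt) ∈ M) (B : Set (Cfsg.IrrCharacter G))
    (hB : Cfsg.IsPBlock M B) (g : G) (hg : ¬ Cfsg.MemLocalIdeal M (Cfsg.blockCoeff B g)) :
    (Nat.card (Subgroup.centralizer ({g} : Set G))).factorization p ≤ Cfsg.blockDefect p B := by
  classical
  have hreg : ¬ p ∣ orderOf g := by
    intro hdiv
    apply hg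
    rw [blockCoeff_eq_zero_of_singular hM p hpM B hB g hdiv]
    exact memLocalIdeal_zero hM
  obtain ⟨C, hC⟩ : ∃ C : Subgroup G, C = Subgroup.centralizer ({g} : Set G) := ⟨_, rfl⟩
  rw [← hC]
  obtain ⟨a, ha⟩ : ∃ a : ℕ, a = (Nat.card G).factorization p := ⟨_, rfl⟩
  obtain ⟨d', hd'⟩ : ∃ d' : ℕ, d' = (Nat.card C).factorization p := ⟨_, rfl⟩
  rw [← hd']
  have hG0 : Nat.card G ≠ 0 := Nat.card_pos.ne'
  obtain ⟨χ₀, hχ₀⟩ := hB
  have hB' : Cfsg.IsPBlock M B := ⟨χ₀, hχ₀⟩
  have hχ₀B : χ₀ ∈ B := by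
    rw [hχ₀]
    exact mem_blockOf_self hM χ₀
  obtain ⟨h, hh⟩ : ∃ h : ℕ, h = sInf ((fun ξ : Cfsg.IrrCharacter G =>
      (Cfsg.charDegree (ξ : G → ℂ)).factorization p) '' B) := ⟨_, rfl⟩
  have hdef : Cfsg.blockDefect p B = a - h := by
    rw [ha, hh]; rfl
  obtain ⟨P⟩ : Nonempty (Sylow p C) := inferInstance
  obtain ⟨Q, hQ⟩ : ∃ Q : Subgroup G, Q = (P : Subgroup C).map C.subtype := ⟨_, rfl⟩
  have hQp : IsPGroup p Q := by
    rw [hQ]
    exact P.isPGroup'.map _
  have hQcard : Nat.card Q = p ^ d' := by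
    rw [hQ, Subgroup.card_subtype, Sylow.card_eq_multiplicity, hd']
  have hQcomm : ∀ q ∈ Q, g * q = q * g := by
    intro q hq
    rw [hQ] at hq
    obtain ⟨c, -, rfl⟩ := hq
    have hc : (c : G) ∈ Subgroup.centralizer ({g} : Set G) := hC ▸ c.2
    exact (Subgroup.mem_centralizer_iff.mp hc) g (Set.mem_singleton g)
  have hhdvd : ∀ χ ∈ B, p ^ h ∣ Cfsg.charDegree (χ : G → ℂ) := by
    intro χ hχ
    have : h ≤ (Cfsg.charDegree (χ : G → ℂ)).factorization p := by
      rw [hh]
      exact Nat.sInf_le ⟨χ, hχ, rfl⟩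
    exact (pow_dvd_pow p this).trans (Nat.ordProj_dvd _ p)
  obtain ⟨β, hβ, hβeq⟩ := card_mul_blockCoeff_eq hM p hpM B hB' g hreg Q hQp hQcomm h hhdvd
  have h2 : d' + h ≤ a := by
    by_contra hlt
    push Not at hlt
    apply hg
    obtain ⟨m, hm⟩ := Nat.ordProj_dvd (Nat.card G) p
    have hmp : ¬ p ∣ m := by
      intro hdiv
      have h1 : p ^ ((Nat.card G).factorization p + 1) ∣ Nat.card G := by
        rw [pow_succ]
        exact (Nat.mul_dvd_mul_left _ hdiv).trans (dvd_of_eq hm.symm)
      exact Nat.pow_succ_factorization_not_dvd hG0 hp.out h1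
    rw [← ha] at hm
    obtain ⟨t, ht⟩ : ∃ t : ℕ, d' + h = a + 1 + t := ⟨d' + h - (a + 1), by omega⟩
    have hm0 : (m : ℂ) ≠ 0 := by
      intro h0
      have : m = 0 := by exact_mod_cast h0
      rw [this, mul_zero] at hm
      exact hG0 hm
    have hp0 : (p : ℂ) ≠ 0 := by exact_mod_cast hp.out.ne_zero
    have heq : Cfsg.blockCoeff B g = (p : ℂ) * ((p ^ t : ℕ) : ℂ) * β / (m : ℂ) := by
      have h3 : (Nat.card G : ℂ) = (p : ℂ) ^ a * (m : ℂ) := by
        rw [hm]
        push_cast
        rfl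
      rw [h3, hQcard] at hβeq
      have h4 : (p : ℂ) ^ a * (m : ℂ) * Cfsg.blockCoeff B g =
          (p : ℂ) ^ a * ((p : ℂ) * (p : ℂ) ^ t * β) := by
        rw [hβeq]
        push_cast
        rw [← pow_add, ht]
        ring
      have hpa0 : (p : ℂ) ^ a ≠ 0 := pow_ne_zero _ hp0
      rw [mul_assoc] at h4
      have h5 := mul_left_cancel₀ hpa0 h4
      rw [eq_div_iff hm0, mul_comm, h5]
      push_cast
      ring
    rw [heq]
    exact memLocalIdeal_prime_mul_div hM p hp.out hpM _ m hmp β hβ
  rw [hdef]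
  omega

/-- Numerical min-max, part (b): if the central character of a member of `B` at `g` is outside the
local ideal, the defect of the class of `g` is at least the defect of the block. -/
theorem blockDefect_le_of_centralChar [Finite G] (hM : M.IsMaximal) (p : ℕ)
    [hp : Fact p.Prime] (hpM : (p : Cfsg.AlgInt) ∈ M) (B : Set (Cfsg.IrrCharacter G))
    (hB : Cfsg.IsPBlock M B) (ξ : Cfsg.IrrCharacter G) (hξ : ξ ∈ B) (g : G)
    (hg : ¬ Cfsg.MemLocalIdeal M (Cfsg.centralChar (ξ : G → ℂ) g)) :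
    Cfsg.blockDefect p B ≤ (Nat.card (Subgroup.centralizer ({g} : Set G))).factorization p := by
  obtain ⟨χ₀, hχ₀, hht⟩ := exists_height_zero p B ⟨ξ, hξ⟩
  obtain ⟨χ₁, hχ₁⟩ := hB
  have hξ' := hξ
  have hχ₀' := hχ₀
  rw [hχ₁] at hξ' hχ₀'
  have hsame : Cfsg.SameBlock M (ξ : G → ℂ) (χ₀ : G → ℂ) :=
    sameBlock_trans hM (sameBlock_symm hξ') hχ₀'
  have hω₀ : ¬ Cfsg.MemLocalIdeal M (Cfsg.centralChar (χ₀ : G → ℂ) g) := by
    intro hmem
    apply hg
    have := MemLocalIdeal.add hM (hsame g) hmem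
    rwa [sub_add_cancel] at this
  have h1 := factorization_index_le_of_centralChar hM p hp.out hpM χ₀ g hω₀
  obtain ⟨h, hh⟩ : ∃ h : ℕ, h = sInf ((fun ξ : Cfsg.IrrCharacter G =>
      (Cfsg.charDegree (ξ : G → ℂ)).factorization p) '' B) := ⟨_, rfl⟩
  have hdef : Cfsg.blockDefect p B = (Nat.card G).factorization p - h := by
    rw [hh]; rfl
  have hht' : Cfsg.blockHeight p B (χ₀ : G → ℂ) =
      (Cfsg.charDegree (χ₀ : G → ℂ)).factorization p - h := by
    rw [hh]; rfl
  have hle : h ≤ (Cfsg.charDegree (χ₀ : G → ℂ)).factorization p := by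
    rw [hh]
    exact Nat.sInf_le ⟨χ₀, hχ₀, rfl⟩
  have hC0 : Nat.card (Subgroup.centralizer ({g} : Set G)) ≠ 0 := Nat.card_pos.ne'
  have hadd : (Nat.card G).factorization p =
      (Nat.card (Subgroup.centralizer ({g} : Set G))).factorization p +
        (Subgroup.centralizer ({g} : Set G)).index.factorization p := by
    rw [← Subgroup.card_mul_index (Subgroup.centralizer ({g} : Set G)),
      Nat.factorization_mul hC0 Subgroup.index_ne_zero_of_finite]
    rfl
  omega

/-- **S4510.** -/
theorem sameBlock_iff_of_defect [Finite G] (hM : M.IsMaximal) (p : ℕ)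
    [hp : Fact p.Prime] (hpM : (p : Cfsg.AlgInt) ∈ M) (d : ℕ) (χ ψ : Cfsg.IrrCharacter G)
    (hχ : Cfsg.blockDefect p (Cfsg.blockOf M (χ : G → ℂ)) = d)
    (hψ : Cfsg.blockDefect p (Cfsg.blockOf M (ψ : G → ℂ)) = d) :
    Cfsg.SameBlock M (χ : G → ℂ) (ψ : G → ℂ) ↔ ∀ x : G, ¬ p ∣ orderOf x →
      (Nat.card (Subgroup.centralizer ({x} : Set G))).factorization p = d →
      Cfsg.MemLocalIdeal M (Cfsg.centralChar (χ : G → ℂ) x - Cfsg.centralChar (ψ : G → ℂ) x) := by
  classical
  constructor
  · intro h x _ _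
    exact h x
  · intro H
    by_contra hns
    haveI := Fintype.ofFinite G
    haveI : Fintype (ConjClasses G) := Fintype.ofFinite _
    set B₁ := Cfsg.blockOf M (χ : G → ℂ) with hB₁
    have hB₁b : Cfsg.IsPBlock M B₁ := ⟨χ, rfl⟩
    have hB₂b : Cfsg.IsPBlock M (Cfsg.blockOf M (ψ : G → ℂ)) := ⟨ψ, rfl⟩
    have hχB : χ ∈ B₁ := mem_blockOf_self hM χ
    have hψB : ψ ∉ B₁ := hns
    have hG0 : (Nat.card G : ℂ) ≠ 0 := by
      have : 0 < Nat.card G := Nat.card_pos
      exact_mod_cast this.ne'
    have hχ1 : (χ : G → ℂ) 1 ≠ 0 := IsIrrCharacter.apply_one_ne_zero χ.2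
    have hψ1 : (ψ : G → ℂ) 1 ≠ 0 := IsIrrCharacter.apply_one_ne_zero ψ.2
    have hs1 := sum_blockCoeff_mul B₁ χ
    rw [if_pos hχB] at hs1
    have hs2 := sum_blockCoeff_mul B₁ ψ
    rw [if_neg hψB] at hs2
    -- the class function F'
    set F' : G → ℂ := fun g => Cfsg.blockCoeff B₁ g *
      (Cfsg.centralChar (χ : G → ℂ) g - Cfsg.centralChar (ψ : G → ℂ) g) with hF'
    have hF'mem : ∀ g : G, Cfsg.MemLocalIdeal M (F' g) := by
      intro g
      rw [hF']
      simp only
      by_cases hf : Cfsg.MemLocalIdeal M (Cfsg.blockCoeff B₁ g)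
      · rw [mul_comm]
        apply MemLocalIdeal.mul_left hM _ hf
        apply MemLocalRing.sub hM
        · exact memLocalRing_of_isIntegral hM (isIntegral_centralChar χ g)
        · exact memLocalRing_of_isIntegral hM (isIntegral_centralChar ψ g)
      · apply MemLocalIdeal.mul_left hM (osima hM B₁ hB₁b g)
        have hreg : ¬ p ∣ orderOf g := by
          intro hdiv
          apply hf
          rw [blockCoeff_eq_zero_of_singular hM p hpM B₁ hB₁b g hdiv]
          exact memLocalIdeal_zero hM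
        have hle := factorization_centralizer_le_of_blockCoeff hM p hpM B₁ hB₁b g hf
        rw [hχ] at hle
        by_cases hωχ : Cfsg.MemLocalIdeal M (Cfsg.centralChar (χ : G → ℂ) g)
        · by_cases hωψ : Cfsg.MemLocalIdeal M (Cfsg.centralChar (ψ : G → ℂ) g)
          · exact MemLocalIdeal.sub hM hωχ hωψ
          · have hge := blockDefect_le_of_centralChar hM p hpM _ hB₂b ψ (mem_blockOf_self hM ψ)
              g hωψ
            rw [hψ] at hge
            exact H g hreg (le_antisymm hle hge)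
        · have hge := blockDefect_le_of_centralChar hM p hpM B₁ hB₁b χ hχB g hωχ
          rw [hχ] at hge
          exact H g hreg (le_antisymm hle hge)
    have hF'cf : ∀ g x : G, F' (x * g * x⁻¹) = F' g := by
      intro g x
      rw [hF']
      simp only
      rw [centralChar_conj, centralChar_conj, blockCoeff_isClassFunction B₁ g x]
    -- the sum over classes
    have hsum := sum_div_card_class (G := G) (fun C : ConjClasses G => F' (Quotient.out C))
    have hout : ∀ g : G, F' (Quotient.out (ConjClasses.mk g)) = F' g := by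
      intro g
      have h1 : ConjClasses.mk (Quotient.out (ConjClasses.mk g)) = ConjClasses.mk g :=
        Quotient.out_eq _
      rw [ConjClasses.mk_eq_mk_iff_isConj, isConj_iff] at h1
      obtain ⟨c, hc⟩ := h1
      have h2 := hF'cf (Quotient.out (ConjClasses.mk g)) c
      rw [hc] at h2
      exact h2.symm
    simp only [hout] at hsum
    have hone : ∑ g : G, F' g *
        ((Nat.card (Subgroup.centralizer ({g} : Set G)) : ℂ) / (Nat.card G : ℂ)) = 1 := by
      have h1 : ∀ g : G, F' g *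
          ((Nat.card (Subgroup.centralizer ({g} : Set G)) : ℂ) / (Nat.card G : ℂ)) =
          Cfsg.blockCoeff B₁ g * (χ : G → ℂ) g / (χ : G → ℂ) 1 -
            Cfsg.blockCoeff B₁ g * (ψ : G → ℂ) g / (ψ : G → ℂ) 1 := by
        intro g
        rw [hF']
        simp only
        unfold Cfsg.centralChar
        have hidx : ((Subgroup.centralizer ({g} : Set G)).index : ℂ) *
            (Nat.card (Subgroup.centralizer ({g} : Set G)) : ℂ) = (Nat.card G : ℂ) := by
          rw [← Nat.cast_mul, Subgroup.index_mul_card]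
        have hC0 : (Nat.card (Subgroup.centralizer ({g} : Set G)) : ℂ) ≠ 0 := by
          have : 0 < Nat.card (Subgroup.centralizer ({g} : Set G)) := Nat.card_pos
          exact_mod_cast this.ne'
        have hi0 : ((Subgroup.centralizer ({g} : Set G)).index : ℂ) ≠ 0 := by
          have : (Subgroup.centralizer ({g} : Set G)).index ≠ 0 :=
            Subgroup.index_ne_zero_of_finite
          exact_mod_cast this
        rw [← hidx]
        field_simp
      simp_rw [h1]
      rw [Finset.sum_sub_distrib, ← Finset.sum_div, ← Finset.sum_div, hs1, hs2, div_self hχ1,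
        zero_div, sub_zero]
    rw [hone] at hsum
    have hmem : Cfsg.MemLocalIdeal M (∑ C : ConjClasses G, F' (Quotient.out C)) := by
      apply MemLocalIdeal.sum hM
      intro C _
      exact hF'mem _
    rw [← hsum] at hmem
    exact not_memLocalIdeal_one hmem

end Cfsg.Agent.Helper6
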