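import Mathlib
import Cfsg.Prelude.Def_Characters
import Cfsg.Prelude.Def_Blocks
import Cfsg.Agent.Helper6.StructConst
import Cfsg.Agent.Helper6.BlockEquiv
import Cfsg.Agent.Helper6.Osima3
import Cfsg.Agent.Helper6.MinMaxOrder
import Cfsg.Agent.Helper6.DefectOrder

/-!
# Min-Max, first half: a class with nonvanishing central character has a centralizer containing a
conjugate of the defect group
-/

set_option autoImplicit false
set_option linter.style.haveILetI false

namespace Cfsg.Agent.Helper6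

open scoped ComplexConjugate

universe u

variable {G : Type u} [Group G] {M : Ideal Cfsg.AlgInt}

/-- the local ideal is prime in the local ring -/
theorem MemLocalIdeal.of_mul (hM : M.IsMaximal) {x y : ℂ} (hx : Cfsg.MemLocalRing M x)
    (hy : Cfsg.MemLocalRing M y) (hxy : Cfsg.MemLocalIdeal M (x * y)) :
    Cfsg.MemLocalIdeal M x ∨ Cfsg.MemLocalIdeal M y := by
  obtain ⟨a, b, hb, rfl⟩ := hx
  obtain ⟨c, d, hd, rfl⟩ := hy
  obtain ⟨e, f, he, hf, hef⟩ := hxy
  have hb0 := algInt_coe_ne_zero hb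
  have hd0 := algInt_coe_ne_zero hd
  have hf0 := algInt_coe_ne_zero hf
  have h1 : (a : ℂ) * c * f = e * b * d := by
    field_simp at hef
    linear_combination -hef
  have h2 : a * c * f = e * b * d := Subtype.ext (by push_cast; exact h1)
  have h3 : a * c * f ∈ M := by
    rw [h2]
    exact M.mul_mem_right _ (M.mul_mem_right _ he)
  rcases hM.isPrime.mem_or_mem h3 with h4 | h4
  · rcases hM.isPrime.mem_or_mem h4 with h5 | h5
    · left; exact ⟨a, b, h5, hb, rfl⟩
    · right; exact ⟨c, d, h5, hd, rfl⟩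
  · exact absurd h4 hf

/-- if the product of two central character values is a unit mod `M`, some structure constant
prime to `p` meets a class with central character value a unit mod `M` -/
theorem exists_structConst_of_not_mem [Fintype G] {p : ℕ} (hM : Cfsg.IsPModular p M)
    (χ : Cfsg.IrrCharacter G) (h g : G)
    (hh : ¬ Cfsg.MemLocalIdeal M (Cfsg.centralChar (χ : G → ℂ) h))
    (hg : ¬ Cfsg.MemLocalIdeal M (Cfsg.centralChar (χ : G → ℂ) g)) :
    ∃ t : G, ¬ p ∣ (classPairs h g t).card ∧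
      ¬ Cfsg.MemLocalIdeal M (Cfsg.centralChar (χ : G → ℂ) t) := by
  classical
  by_contra hcon
  push Not at hcon
  have hprod := centralChar_mul_centralChar χ h g
  have hcf := IsCharacter.isClassFunction (IsIrrCharacter.isCharacter χ.2)
  set d : G → ℂ := fun t => ((classPairs h g t).card : ℂ) * (χ : G → ℂ) t / (χ : G → ℂ) 1 with hd
  have hdcf : Cfsg.IsClassFunction G d := by
    intro t c
    simp only [hd]
    rw [card_classPairs_conj, hcf]
  have hJ : Cfsg.MemLocalIdeal M (∑ t ∈ (Finset.univ : Finset G), d t) := by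
    apply sum_mem_of_conj_closed (fun z => Cfsg.MemLocalIdeal M z) (memLocalIdeal_zero hM.2.1)
      (fun x y hx hy => MemLocalIdeal.add hM.2.1 hx hy) d hdcf _ _ Finset.univ rfl
    · intro t _ x
      exact Finset.mem_univ _
    · intro t
      have e : ((Subgroup.centralizer ({t} : Set G)).index : ℂ) * d t =
          ((classPairs h g t).card : ℂ) * Cfsg.centralChar (χ : G → ℂ) t := by
        simp only [hd]
        unfold Cfsg.centralChar
        ring
      rw [e]
      have hint := isIntegral_centralChar χ t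
      by_cases hdiv : p ∣ (classPairs h g t).card
      · obtain ⟨m, hm⟩ := hdiv
        have hmem : ((p : Cfsg.AlgInt) * ((m : Cfsg.AlgInt) * ⟨_, hint⟩)) ∈ M :=
          M.mul_mem_right _ hM.2.2
        have := memLocalIdeal_of_mem hM.2.1 hmem
        rw [hm]
        push_cast at this ⊢
        rw [mul_assoc]
        exact this
      · apply MemLocalIdeal.mul_left hM.2.1 _ (hcon t hdiv)
        apply memLocalRing_of_isIntegral hM.2.1
        exact isIntegral_algebraMap (R := ℤ) (A := ℂ) (x := ((classPairs h g t).card : ℤ)) |>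
          fun h => by simpa using h
  rw [← hprod] at hJ
  rcases MemLocalIdeal.of_mul hM.2.1
    (memLocalRing_of_isIntegral hM.2.1 (isIntegral_centralChar χ h))
    (memLocalRing_of_isIntegral hM.2.1 (isIntegral_centralChar χ g)) hJ with h1 | h1
  · exact hh h1
  · exact hg h1

/-- **Min-Max, first half.** If the central character of a member of `B` does not vanish mod `M`
at `h`, then a conjugate of the defect group centralizes `h`. -/
theorem exists_conj_defectGroup_le_centralizer [Finite G] {p : ℕ} [hp : Fact p.Prime]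
    (hM : Cfsg.IsPModular p M) (B : Set (Cfsg.IrrCharacter G)) (hB : Cfsg.IsPBlock M B)
    (g₀ : G) (hg₀ : Cfsg.IsDefectClass M B g₀)
    (S₀ : Sylow p (Subgroup.centralizer ({g₀} : Set G))) (χ : Cfsg.IrrCharacter G) (hχ : χ ∈ B)
    (h : G) (hh : ¬ Cfsg.MemLocalIdeal M (Cfsg.centralChar (χ : G → ℂ) h)) :
    ∃ e : G, ∀ u : Subgroup.centralizer ({g₀} : Set G), u ∈ S₀ →
      e * (u : G) * e⁻¹ ∈ Subgroup.centralizer ({h} : Set G) := by
  classical
  haveI := Fintype.ofFinite G
  have hg := hg₀.2.2 χ hχ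
  obtain ⟨t, hnd, ht⟩ := exists_structConst_of_not_mem hM χ h g₀ hh hg
  obtain ⟨Q⟩ : Nonempty (Sylow p (Subgroup.centralizer ({t} : Set G))) := inferInstance
  obtain ⟨Q', hQ'def⟩ : ∃ Q' : Subgroup G, Q' =
    (Q : Subgroup (Subgroup.centralizer ({t} : Set G))).map
      (Subgroup.centralizer ({t} : Set G)).subtype := ⟨_, rfl⟩
  have hQ'p : IsPGroup p Q' := by rw [hQ'def]; exact Q.isPGroup'.map _
  have hQ't : Q' ≤ Subgroup.centralizer ({t} : Set G) := by
    rw [hQ'def]; exact Subgroup.map_subtype_le _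
  have hQ'card : Nat.card Q' =
      p ^ (Nat.card (Subgroup.centralizer ({t} : Set G))).factorization p := by
    rw [hQ'def, Subgroup.card_subtype, Sylow.card_eq_multiplicity]
  obtain ⟨x, y, hx, hy, hxy, hfix⟩ := exists_fixed_classPair p h g₀ t hnd Q' hQ'p hQ't
  obtain ⟨b, hb⟩ := isConj_iff.mp hx
  obtain ⟨c, hc⟩ := isConj_iff.mp hy
  -- cardinalities
  have hd1 := blockDefect_le_of_centralChar hM.2.1 p hM.2.2 B hB χ hχ t ht
  have hd2 := blockDefect_eq_of_defectClass hM.2.1 p hM.2.2 B hB g₀ hg₀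
  -- the conjugate of `Q'` inside the centralizer of `g₀`
  obtain ⟨Q'', hQ''def⟩ : ∃ Q'' : Subgroup G, Q'' = Q'.map (MulAut.conj c⁻¹).toMonoidHom :=
    ⟨_, rfl⟩
  have hQ''mem : ∀ z, z ∈ Q'' ↔ ∃ q ∈ Q', c⁻¹ * q * c = z := by
    intro z
    rw [hQ''def, Subgroup.mem_map]
    constructor
    · rintro ⟨q, hq, rfl⟩
      exact ⟨q, hq, by simp [MulAut.conj_apply]⟩
    · rintro ⟨q, hq, rfl⟩
      exact ⟨q, hq, by simp [MulAut.conj_apply]⟩
  have hQ''le : Q'' ≤ Subgroup.centralizer ({g₀} : Set G) := by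
    intro z hz
    obtain ⟨q, hq, rfl⟩ := (hQ''mem z).mp hz
    rw [Subgroup.mem_centralizer_iff]
    intro w hw
    rw [Set.mem_singleton_iff] at hw
    subst hw
    have h1 := (hfix q hq).2
    rw [← hc] at h1
    -- q * (c g₀ c⁻¹) * q⁻¹ = c g₀ c⁻¹
    have h2 : w = c⁻¹ * (q * (c * w * c⁻¹) * q⁻¹) * c := by rw [h1]; group
    calc w * (c⁻¹ * q * c) = c⁻¹ * (q * (c * w * c⁻¹) * q⁻¹) * c * (c⁻¹ * q * c) := by rw [← h2]
      _ = c⁻¹ * q * c * w := by group
  have hQ''card : Nat.card Q'' = Nat.card Q' := by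
    rw [hQ''def]
    exact Subgroup.card_map_of_injective (MulAut.conj c⁻¹).injective
  obtain ⟨R, hRdef⟩ : ∃ R : Subgroup (Subgroup.centralizer ({g₀} : Set G)),
    R = Q''.subgroupOf (Subgroup.centralizer ({g₀} : Set G)) := ⟨_, rfl⟩
  have hRp : IsPGroup p R := by
    rw [hRdef, hQ''def]; exact (hQ'p.map _).comap_subtype
  have hRcard : Nat.card R = Nat.card Q'' := by
    rw [hRdef]
    exact Nat.card_congr (Subgroup.subgroupOfEquivOfLe hQ''le).toEquiv
  obtain ⟨S₁, hRS₁⟩ := hRp.exists_le_sylow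
  have hS₁card : Nat.card S₁ =
      p ^ (Nat.card (Subgroup.centralizer ({g₀} : Set G))).factorization p :=
    Sylow.card_eq_multiplicity S₁
  have hcardle : Nat.card (S₁ : Subgroup (Subgroup.centralizer ({g₀} : Set G))) ≤ Nat.card R := by
    rw [hS₁card, hRcard, hQ''card, hQ'card, ← hd2]
    exact Nat.pow_le_pow_right hp.out.pos hd1
  have hRS : R = S₁ := Subgroup.eq_of_le_of_card_ge hRS₁ hcardle
  obtain ⟨k, hk⟩ := MulAction.exists_smul_eq (Subgroup.centralizer ({g₀} : Set G)) S₀ S₁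
  refine ⟨b⁻¹ * c * (k : G), fun u hu => ?_⟩
  have h1 : k * u * k⁻¹ ∈ (S₁ : Subgroup (Subgroup.centralizer ({g₀} : Set G))) := by
    rw [← hk, Sylow.coe_subgroup_smul]
    have := Subgroup.smul_mem_pointwise_smul u (MulAut.conj k)
      (S₀ : Subgroup (Subgroup.centralizer ({g₀} : Set G))) hu
    simpa [MulAut.smul_def, MulAut.conj_apply] using this
  rw [← hRS, hRdef, Subgroup.mem_subgroupOf] at h1
  obtain ⟨q, hq, hqeq⟩ := (hQ''mem _).mp h1
  have h2 := (hfix q hq).1
  rw [← hb] at h2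
  have hqval : q = c * ((k : G) * (u : G) * (k : G)⁻¹) * c⁻¹ := by
    have : ((k * u * k⁻¹ : Subgroup.centralizer ({g₀} : Set G)) : G) =
        (k : G) * (u : G) * (k : G)⁻¹ := rfl
    rw [← this, ← hqeq]; group
  rw [Subgroup.mem_centralizer_iff]
  intro w hw
  rw [Set.mem_singleton_iff] at hw
  subst hw
  have h3 : b⁻¹ * c * (k : G) * (u : G) * (b⁻¹ * c * (k : G))⁻¹ = b⁻¹ * q * b := by
    rw [hqval]; group
  rw [h3]
  have h4 : w = b⁻¹ * (q * (b * w * b⁻¹) * q⁻¹) * b := by rw [h2]; group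
  calc w * (b⁻¹ * q * b) = b⁻¹ * (q * (b * w * b⁻¹) * q⁻¹) * b * (b⁻¹ * q * b) := by rw [← h4]
    _ = b⁻¹ * q * b * w := by group

end Cfsg.Agent.Helper6
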