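import Mathlib
import Cfsg.Prelude.Def_Characters
import Cfsg.Prelude.Def_Blocks
import Cfsg.Agent.Helper6.Osima2
import Cfsg.Agent.Helper6.BlockBasic
import Cfsg.Agent.Helper6.BlockUnion

/-!
# Nilpotency modulo the local ideal in the centre of the group algebra (vector form)
-/

set_option autoImplicit false
set_option linter.style.haveILetI false

namespace Cfsg.Agent.Helper6

open scoped ComplexConjugate
open Polynomial

universe u

variable {G : Type u} [Group G] {M : Ideal Cfsg.AlgInt}

/-- a sum over a conjugation-closed finset lies in an additively closed set as soon as the sums over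
single classes do -/
theorem sum_mem_of_class_sums [Fintype G] (J : ℂ → Prop) (h0 : J 0)
    (hadd : ∀ x y, J x → J y → J (x + y)) (f : G → ℂ)
    (hJ : ∀ g : G, J (∑ x ∈ classFinset g, f x)) :
    ∀ (n : ℕ) (T : Finset G), T.card = n → (∀ g ∈ T, ∀ x : G, x * g * x⁻¹ ∈ T) →
      J (∑ g ∈ T, f g) := by
  classical
  intro n
  induction n using Nat.strong_induction_on with
  | _ n ih =>
  intro T hT hclosed
  by_cases hemp : T = ∅
  · rw [hemp, Finset.sum_empty]; exact h0
  obtain ⟨g₀, hg₀⟩ := Finset.nonempty_iff_ne_empty.mpr hemp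
  have hsub : classFinset g₀ ⊆ T := by
    intro x hx
    rw [mem_classFinset] at hx
    obtain ⟨c, hc⟩ := isConj_iff.mp hx
    rw [← hc]
    exact hclosed g₀ hg₀ c
  have hsplit : ∑ g ∈ T, f g = ∑ g ∈ classFinset g₀, f g + ∑ g ∈ T \ classFinset g₀, f g := by
    rw [← Finset.sum_union (Finset.disjoint_sdiff), Finset.union_sdiff_of_subset hsub]
  rw [hsplit]
  apply hadd _ _ (hJ g₀)
  have hg₀c : g₀ ∈ classFinset g₀ := by rw [mem_classFinset]
  have hlt : (T \ classFinset g₀).card < n := by
    rw [← hT]
    apply Finset.card_lt_card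
    refine ⟨Finset.sdiff_subset, fun hcon => ?_⟩
    have := hcon hg₀
    rw [Finset.mem_sdiff] at this
    exact this.2 hg₀c
  apply ih _ hlt _ rfl
  intro g hg x
  rw [Finset.mem_sdiff] at hg ⊢
  refine ⟨hclosed g hg.1 x, fun hcon => hg.2 ?_⟩
  rw [mem_classFinset] at hcon ⊢
  exact hcon.trans (isConj_iff.mpr ⟨x⁻¹, by group⟩)

/-- the product of `X - a i` over a finset, with all `a i` in the local ideal, is monic with
lower coefficients in the local ideal -/
theorem prod_X_sub_C_coeff (hM : M.IsMaximal) {ι : Type*} (S : Finset ι) (a : ι → ℂ)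
    (ha : ∀ i ∈ S, Cfsg.MemLocalIdeal M (a i)) :
    (∏ i ∈ S, (X - C (a i))).coeff S.card = 1 ∧
      (∀ j, S.card < j → (∏ i ∈ S, (X - C (a i))).coeff j = 0) ∧
      (∀ j, j < S.card → Cfsg.MemLocalIdeal M ((∏ i ∈ S, (X - C (a i))).coeff j)) := by
  classical
  induction S using Finset.induction_on with
  | empty =>
    refine ⟨by simp, fun j hj => ?_, fun j hj => ?_⟩
    · rw [Finset.prod_empty, Finset.card_empty] at *
      rw [coeff_one, if_neg (by omega)]
    · simp at hj
  | insert i S hi ih =>
    obtain ⟨h1, h2, h3⟩ := ih (fun j hj => ha j (Finset.mem_insert_of_mem hj))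
    have hai := ha i (Finset.mem_insert_self i S)
    rw [Finset.prod_insert hi, Finset.card_insert_of_notMem hi]
    refine ⟨?_, fun j hj => ?_, fun j hj => ?_⟩
    · rw [coeff_X_sub_C_mul, h1, h2 _ (Nat.lt_succ_self _), mul_zero, sub_zero]
    · obtain ⟨j', rfl⟩ : ∃ j', j = j' + 1 := ⟨j - 1, by omega⟩
      rw [coeff_X_sub_C_mul, h2 j' (by omega), h2 (j' + 1) (by omega), mul_zero, sub_zero]
    · rcases j with _ | j'
      · rw [mul_coeff_zero]
        have : (X - C (a i)).coeff 0 = -a i := by simp
        rw [this]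
        have hloc : Cfsg.MemLocalRing M ((∏ i ∈ S, (X - C (a i))).coeff 0) := by
          by_cases hS : S.card = 0
          · rw [← hS, h1]; exact memLocalRing_one hM
          · obtain ⟨a', b', ha', hb', hab'⟩ := h3 0 (by omega)
            exact ⟨a', b', hb', hab'⟩
        have := MemLocalIdeal.mul_left hM hloc (MemLocalIdeal.neg hai)
        rwa [mul_comm] at this
      · rw [coeff_X_sub_C_mul]
        have hloc : Cfsg.MemLocalRing M ((∏ i ∈ S, (X - C (a i))).coeff (j' + 1)) := by
          by_cases hS : j' + 1 = S.card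
          · rw [hS, h1]; exact memLocalRing_one hM
          · obtain ⟨a', b', ha', hb', hab'⟩ := h3 (j' + 1) (by omega)
            exact ⟨a', b', hb', hab'⟩
        have hA := h3 j' (by omega)
        have hB := MemLocalIdeal.mul_left hM hloc hai
        rw [mul_comm] at hB
        exact MemLocalIdeal.sub hM hA hB

section Vec

variable [Fintype G] [Fintype (Cfsg.IrrCharacter G)]

theorem IsMultiplier.pow {v : Cfsg.IrrCharacter G → ℂ} (hv : IsMultiplier M v) (n : ℕ) :
    IsMultiplier M (v ^ n) := by
  induction n with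
  | zero => rw [pow_zero]; exact isMultiplier_one
  | succ n ih => rw [pow_succ]; exact IsMultiplier.mul ih hv

theorem IsMultiplier.finset_sum (hM : M.IsMaximal) {ι : Type*} (s : Finset ι)
    (f : ι → Cfsg.IrrCharacter G → ℂ) (h : ∀ i ∈ s, IsMultiplier M (f i)) :
    IsMultiplier M (∑ i ∈ s, f i) := by
  classical
  induction s using Finset.induction_on with
  | empty =>
    rw [Finset.sum_empty]
    have : (0 : Cfsg.IrrCharacter G → ℂ) = fun _ => (0 : ℂ) := rfl
    rw [this]
    exact isMultiplier_const hM (memLocalRing_zero hM)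
  | insert a s ha ih =>
    rw [Finset.sum_insert ha]
    exact IsMultiplier.add hM (h a (Finset.mem_insert_self a s))
      (ih (fun i hi => h i (Finset.mem_insert_of_mem hi)))

theorem idemCoeff_zero (g : G) : idemCoeff (0 : Cfsg.IrrCharacter G → ℂ) g = 0 := by
  unfold idemCoeff
  simp

theorem idemCoeff_finset_sum {ι : Type*} (s : Finset ι) (f : ι → Cfsg.IrrCharacter G → ℂ) (g : G) :
    idemCoeff (∑ i ∈ s, f i) g = ∑ i ∈ s, idemCoeff (f i) g := by
  classical
  induction s using Finset.induction_on with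
  | empty => rw [Finset.sum_empty, Finset.sum_empty, idemCoeff_zero]
  | insert a s ha ih => rw [Finset.sum_insert ha, Finset.sum_insert ha, idemCoeff_add, ih]

/-- **nilpotency modulo the local ideal**: a multiplier all of whose values lie in the local ideal
has a power all of whose coefficients lie in the local ideal -/
theorem memLocalIdeal_idemCoeff_pow (hM : M.IsMaximal) (v : Cfsg.IrrCharacter G → ℂ)
    (hv : IsMultiplier M v) (hvI : ∀ χ, Cfsg.MemLocalIdeal M (v χ)) (g : G) :
    Cfsg.MemLocalIdeal M (idemCoeff (v ^ Fintype.card (Cfsg.IrrCharacter G)) g) := by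
  classical
  obtain ⟨P, hP⟩ : ∃ P : ℂ[X], P = ∏ χ ∈ (Finset.univ : Finset (Cfsg.IrrCharacter G)),
    (X - C (v χ)) := ⟨_, rfl⟩
  obtain ⟨h1, h2, h3⟩ := prod_X_sub_C_coeff hM (Finset.univ : Finset (Cfsg.IrrCharacter G)) v
    (fun χ _ => hvI χ)
  rw [← hP, Finset.card_univ] at h1 h2 h3
  set k := Fintype.card (Cfsg.IrrCharacter G) with hk
  have hdeg : P.natDegree < k + 1 := by
    have : P.natDegree ≤ k := natDegree_le_iff_coeff_eq_zero.mpr h2
    omega
  have hroot : ∀ χ, P.eval (v χ) = 0 := by
    intro χ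
    rw [hP, eval_prod]
    apply Finset.prod_eq_zero (Finset.mem_univ χ)
    simp
  have hpow : ∀ χ, v χ ^ k = -∑ i ∈ Finset.range k, P.coeff i * v χ ^ i := by
    intro χ
    have := hroot χ
    rw [eval_eq_sum_range' hdeg, Finset.sum_range_succ, h1, one_mul] at this
    linear_combination this
  have hvec : v ^ k = -∑ i ∈ Finset.range k, (fun _ => P.coeff i) * v ^ i := by
    funext χ
    rw [Pi.pow_apply, hpow χ, Pi.neg_apply, Finset.sum_apply]
    rfl
  rw [hvec, idemCoeff_neg, idemCoeff_finset_sum]
  apply MemLocalIdeal.neg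
  apply MemLocalIdeal.sum hM
  intro i hi
  rw [idemCoeff_smul]
  have hloc := (IsMultiplier.pow hv i).isLocalVec hM g
  have := MemLocalIdeal.mul_left hM hloc (h3 i (Finset.mem_range.mp hi))
  rwa [mul_comm] at this

end Vec

end Cfsg.Agent.Helper6
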