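import Mathlib
import Cfsg.Prelude.Def_Characters
import Cfsg.Prelude.Def_Blocks
import Cfsg.Agent.Helper6.NilVec
import Cfsg.Agent.Helper6.MinMax1

/-!
# Min-Max, second half: a class with nonvanishing idempotent coefficient has defect group contained
in a conjugate of the defect group of the block
-/

set_option autoImplicit false
set_option linter.style.haveILetI false

namespace Cfsg.Agent.Helper6

open scoped ComplexConjugate

universe u

variable {G : Type u} [Group G] {M : Ideal Cfsg.AlgInt}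

section Vec

variable [Fintype G] [Fintype (Cfsg.IrrCharacter G)]

open Classical in
/-- the idempotent coefficient of a set of characters as the coefficient function of its
indicator vector -/
theorem blockCoeff_eq_idemCoeff (B : Set (Cfsg.IrrCharacter G)) (g : G) :
    Cfsg.blockCoeff B g =
      idemCoeff (fun θ : Cfsg.IrrCharacter G => if θ ∈ B then (1 : ℂ) else 0) g := by
  unfold Cfsg.blockCoeff idemCoeff
  rw [finsum_mem_eq_sum_ite]
  congr 1
  apply Finset.sum_congr rfl
  intro θ _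
  beta_reduce
  by_cases hθ : θ ∈ B
  · rw [if_pos hθ, if_pos hθ, one_mul]
  · rw [if_neg hθ, if_neg hθ, zero_mul]

/-- multiplying by a central character vector translates the coefficient function over the class -/
theorem idemCoeff_centralChar_mul (k : G) (w : Cfsg.IrrCharacter G → ℂ) (g : G) :
    idemCoeff ((fun χ : Cfsg.IrrCharacter G => Cfsg.centralChar (χ : G → ℂ) k) * w) g =
      ∑ x ∈ classFinset k, idemCoeff w (g * x⁻¹) := by
  unfold idemCoeff
  rw [← Finset.mul_sum, Finset.sum_comm]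
  congr 1
  apply Finset.sum_congr rfl
  intro χ _
  have hχc := IsIrrCharacter.isCharacter χ.2
  rw [← Finset.mul_sum, ← Finset.mul_sum, Pi.mul_apply]
  have h1 : ∀ x ∈ classFinset k, conj ((χ : G → ℂ) (g * x⁻¹)) = (χ : G → ℂ) (x * g⁻¹) := by
    intro x _
    rw [← IsCharacter.inv_eq_conj hχc, mul_inv_rev, inv_inv]
  rw [Finset.sum_congr rfl h1, sum_class_char_mul χ k g⁻¹, IsCharacter.inv_eq_conj hχc]
  ring

theorem idemCoeff_isClassFunction (v : Cfsg.IrrCharacter G → ℂ) :
    Cfsg.IsClassFunction G (idemCoeff v) := by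
  intro g h
  unfold idemCoeff
  congr 1
  apply Finset.sum_congr rfl
  intro χ _
  rw [IsCharacter.isClassFunction (IsIrrCharacter.isCharacter χ.2) g h]

open Classical in
/-- modulo the local ideal, the block idempotent is the class sum of a class with nonvanishing
central character times a central element with local coefficients -/
theorem exists_localVec_blockCoeff_congr (hM : M.IsMaximal) (χ₀ : Cfsg.IrrCharacter G) (g₀ : G)
    (hc : ¬ Cfsg.MemLocalIdeal M (Cfsg.centralChar (χ₀ : G → ℂ) g₀)) :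
    ∃ y : Cfsg.IrrCharacter G → ℂ, IsLocalVec M y ∧ ∀ h : G, Cfsg.MemLocalIdeal M
      (Cfsg.blockCoeff (Cfsg.blockOf M (χ₀ : G → ℂ)) h -
        ∑ x ∈ classFinset g₀, idemCoeff y (h * x⁻¹)) := by
  set B := Cfsg.blockOf M (χ₀ : G → ℂ) with hB
  set iB : Cfsg.IrrCharacter G → ℂ := fun θ => if θ ∈ B then (1 : ℂ) else 0 with hiBdef
  have hiB : IsMultiplier M iB := isMultiplier_indicator_block hM χ₀
  set c := Cfsg.centralChar (χ₀ : G → ℂ) g₀ with hcdef
  have hcint : IsIntegral ℤ c := isIntegral_centralChar χ₀ g₀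
  have hcinv : Cfsg.MemLocalRing M c⁻¹ := memLocalRing_inv_of_not_memLocalIdeal hM hcint hc
  have hc0 : c ≠ 0 := by
    intro h0
    apply hc
    rw [h0]
    exact memLocalIdeal_zero hM
  set vL : Cfsg.IrrCharacter G → ℂ := fun χ => Cfsg.centralChar (χ : G → ℂ) g₀ with hvLdef
  have hvL : IsMultiplier M vL := isMultiplier_centralChar hM g₀
  have hconst : IsMultiplier M (fun _ : Cfsg.IrrCharacter G => c⁻¹) := isMultiplier_const hM hcinv
  set n : Cfsg.IrrCharacter G → ℂ := iB - (fun _ => c⁻¹) * vL * iB with hndef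
  have hn : IsMultiplier M n :=
    IsMultiplier.sub hM hiB (IsMultiplier.mul (IsMultiplier.mul hconst hvL) hiB)
  have hnval : ∀ χ, n χ = if χ ∈ B then 1 - c⁻¹ * Cfsg.centralChar (χ : G → ℂ) g₀ else 0 := by
    intro χ
    simp only [hndef, hiBdef, hvLdef, Pi.sub_apply, Pi.mul_apply]
    by_cases hχ : χ ∈ B
    · rw [if_pos hχ, if_pos hχ, mul_one]
    · rw [if_neg hχ, if_neg hχ, mul_zero, sub_zero]
  have hnI : ∀ χ, Cfsg.MemLocalIdeal M (n χ) := by
    intro χ
    rw [hnval]
    by_cases hχ : χ ∈ B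
    · rw [if_pos hχ]
      have h1 : Cfsg.MemLocalIdeal M (c - Cfsg.centralChar (χ : G → ℂ) g₀) := hχ g₀
      have h2 := MemLocalIdeal.mul_left hM hcinv h1
      have e : c⁻¹ * (c - Cfsg.centralChar (χ : G → ℂ) g₀) =
          1 - c⁻¹ * Cfsg.centralChar (χ : G → ℂ) g₀ := by
        field_simp
      rwa [e] at h2
    · rw [if_neg hχ]
      exact memLocalIdeal_zero hM
  set k := Fintype.card (Cfsg.IrrCharacter G) with hk
  have hkpos : 0 < k := Fintype.card_pos_iff.mpr ⟨χ₀⟩
  set y : Cfsg.IrrCharacter G → ℂ := (fun _ => c⁻¹) * iB * ∑ j ∈ Finset.range k, n ^ j with hydef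
  have hy : IsMultiplier M y :=
    IsMultiplier.mul (IsMultiplier.mul hconst hiB)
      (IsMultiplier.finset_sum hM _ _ (fun j _ => IsMultiplier.pow hn j))
  have hident : iB = n ^ k + vL * y := by
    funext χ
    simp only [Pi.add_apply, Pi.mul_apply, Pi.pow_apply, hydef, Finset.sum_apply]
    rw [hnval]
    simp only [hiBdef, hvLdef]
    by_cases hχ : χ ∈ B
    · rw [if_pos hχ, if_pos hχ]
      have hg := mul_neg_geom_sum (1 - c⁻¹ * Cfsg.centralChar (χ : G → ℂ) g₀) k
      have e : Cfsg.centralChar (χ : G → ℂ) g₀ * (c⁻¹ * 1 *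
          ∑ j ∈ Finset.range k, (1 - c⁻¹ * Cfsg.centralChar (χ : G → ℂ) g₀) ^ j) =
          (1 - (1 - c⁻¹ * Cfsg.centralChar (χ : G → ℂ) g₀)) *
          ∑ j ∈ Finset.range k, (1 - c⁻¹ * Cfsg.centralChar (χ : G → ℂ) g₀) ^ j := by ring
      rw [e, hg]
      ring
    · rw [if_neg hχ, if_neg hχ, zero_pow hkpos.ne']
      ring
  refine ⟨y, hy.isLocalVec hM, fun h => ?_⟩
  rw [blockCoeff_eq_idemCoeff, ← idemCoeff_centralChar_mul]
  have e : idemCoeff (fun θ : Cfsg.IrrCharacter G => if θ ∈ B then (1 : ℂ) else 0) h =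
      idemCoeff (n ^ k) h + idemCoeff (vL * y) h := by
    rw [← idemCoeff_add, ← hident]
  rw [e, add_sub_cancel_right]
  exact memLocalIdeal_idemCoeff_pow hM n hn hnI h

end Vec

/-- if a translate-sum of a local class function over a class does not vanish mod `M`, some
structure constant is prime to `p` -/
theorem exists_structConst_of_sum_not_mem [Fintype G] {p : ℕ} (hM : Cfsg.IsPModular p M)
    (Y : G → ℂ) (hYcf : Cfsg.IsClassFunction G Y) (hYloc : ∀ t, Cfsg.MemLocalRing M (Y t))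
    (g₀ h : G) (hne : ¬ Cfsg.MemLocalIdeal M (∑ x ∈ classFinset g₀, Y (h * x⁻¹))) :
    ∃ t : G, ¬ p ∣ (classPairs t g₀ h).card := by
  classical
  by_contra hcon
  push Not at hcon
  apply hne
  set f : G → ℂ := fun t => if IsConj g₀ (t⁻¹ * h) then Y t else 0 with hf
  have h1 : ∑ x ∈ classFinset g₀, Y (h * x⁻¹) = ∑ t ∈ (Finset.univ : Finset G), f t := by
    simp only [hf]
    rw [← Finset.sum_filter]
    apply Finset.sum_bij (fun x _ => h * x⁻¹)
    · intro x hx
      rw [mem_classFinset] at hx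
      rw [Finset.mem_filter]
      refine ⟨Finset.mem_univ _, ?_⟩
      have : (h * x⁻¹)⁻¹ * h = x := by group
      rw [this]
      exact hx
    · intro x _ x' _ hxx
      have := mul_left_cancel hxx
      exact inv_injective this
    · intro t ht
      rw [Finset.mem_filter] at ht
      refine ⟨t⁻¹ * h, ?_, by group⟩
      rw [mem_classFinset]
      exact ht.2
    · intro x _
      rfl
  rw [h1]
  apply sum_mem_of_class_sums (fun z => Cfsg.MemLocalIdeal M z) (memLocalIdeal_zero hM.2.1)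
    (fun x y hx hy => MemLocalIdeal.add hM.2.1 hx hy) f _ _ Finset.univ rfl
  · intro t _ x
    exact Finset.mem_univ _
  · intro t
    have h2 : ∑ t' ∈ classFinset t, f t' = ((classPairs t g₀ h).card : ℂ) * Y t := by
      simp only [hf]
      rw [← Finset.sum_filter]
      have h3 : ∀ t' ∈ (classFinset t).filter (fun t' => IsConj g₀ (t'⁻¹ * h)), Y t' = Y t := by
        intro t' ht'
        rw [Finset.mem_filter, mem_classFinset] at ht'
        obtain ⟨a, ha⟩ := isConj_iff.mp ht'.1
        rw [← ha, hYcf]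
      rw [Finset.sum_congr rfl h3, Finset.sum_const, nsmul_eq_mul]
      congr 2
      apply Finset.card_bij (fun t' _ => (t', t'⁻¹ * h))
      · intro t' ht'
        rw [Finset.mem_filter, mem_classFinset] at ht'
        rw [mem_classPairs]
        exact ⟨ht'.1, ht'.2, by group⟩
      · intro a _ b _ hab
        exact congrArg Prod.fst hab
      · intro q hq
        rw [mem_classPairs] at hq
        refine ⟨q.1, ?_, ?_⟩
        · rw [Finset.mem_filter, mem_classFinset]
          refine ⟨hq.1, ?_⟩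
          have : q.1⁻¹ * h = q.2 := by rw [← hq.2.2]; group
          rw [this]
          exact hq.2.1
        · apply Prod.ext
          · rfl
          · show q.1⁻¹ * h = q.2
            rw [← hq.2.2]; group
    rw [h2]
    obtain ⟨m, hm⟩ := hcon t
    rw [hm]
    push_cast
    have hloc : Cfsg.MemLocalRing M ((m : ℂ) * Y t) := by
      apply MemLocalRing.mul hM.2.1 _ (hYloc t)
      apply memLocalRing_of_isIntegral hM.2.1
      exact isIntegral_algebraMap (R := ℤ) (A := ℂ) (x := (m : ℤ)) |> fun h => by simpa using h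
    have hp : Cfsg.MemLocalIdeal M ((p : ℂ)) := by
      have := memLocalIdeal_of_mem hM.2.1 hM.2.2
      simpa using this
    have := MemLocalIdeal.mul_left hM.2.1 hloc hp
    have e : (m : ℂ) * Y t * (p : ℂ) = (p : ℂ) * (m : ℂ) * Y t := by ring
    rwa [e] at this

/-- **Min-Max, second half.** If the idempotent coefficient of `B` does not vanish mod `M` at `h`,
then every Sylow `p`-subgroup of the centralizer of `h` lies in a conjugate of the defect group. -/
theorem exists_conj_sylow_le_defectGroup [Finite G] {p : ℕ} [hp : Fact p.Prime]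
    (hM : Cfsg.IsPModular p M) (B : Set (Cfsg.IrrCharacter G)) (hB : Cfsg.IsPBlock M B)
    (g₀ : G) (hg₀ : Cfsg.IsDefectClass M B g₀)
    (S₀ : Sylow p (Subgroup.centralizer ({g₀} : Set G))) (h : G)
    (hh : ¬ Cfsg.MemLocalIdeal M (Cfsg.blockCoeff B h))
    (Q : Sylow p (Subgroup.centralizer ({h} : Set G))) :
    ∃ e : G, ∀ q : Subgroup.centralizer ({h} : Set G), q ∈ Q →
      ∃ u : Subgroup.centralizer ({g₀} : Set G), u ∈ S₀ ∧ e * (u : G) * e⁻¹ = (q : G) := by
  classical
  haveI := Fintype.ofFinite G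
  haveI : Finite (Cfsg.IrrCharacter G) := irr_finite
  haveI : Fintype (Cfsg.IrrCharacter G) := Fintype.ofFinite _
  obtain ⟨χ₀, rfl⟩ := hB
  have hχ₀ := mem_blockOf_self hM.2.1 χ₀
  have hc := hg₀.2.2 χ₀ hχ₀
  obtain ⟨y, hyloc, hycong⟩ := exists_localVec_blockCoeff_congr hM.2.1 χ₀ g₀ hc
  have hne : ¬ Cfsg.MemLocalIdeal M (∑ x ∈ classFinset g₀, idemCoeff y (h * x⁻¹)) := by
    intro hmem
    apply hh
    have := MemLocalIdeal.add hM.2.1 (hycong h) hmem
    rwa [sub_add_cancel] at this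
  obtain ⟨t, ht⟩ := exists_structConst_of_sum_not_mem hM (idemCoeff y)
    (idemCoeff_isClassFunction y) hyloc g₀ h hne
  -- the fixed pair
  obtain ⟨Q', hQ'def⟩ : ∃ Q' : Subgroup G, Q' =
    (Q : Subgroup (Subgroup.centralizer ({h} : Set G))).map
      (Subgroup.centralizer ({h} : Set G)).subtype := ⟨_, rfl⟩
  have hQ'p : IsPGroup p Q' := by rw [hQ'def]; exact Q.isPGroup'.map _
  have hQ'h : Q' ≤ Subgroup.centralizer ({h} : Set G) := by
    rw [hQ'def]; exact Subgroup.map_subtype_le _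
  obtain ⟨x, z, hx, hz, hxz, hfix⟩ := exists_fixed_classPair p t g₀ h ht Q' hQ'p hQ'h
  obtain ⟨c, hcz⟩ := isConj_iff.mp hz
  obtain ⟨Q'', hQ''def⟩ : ∃ Q'' : Subgroup G, Q'' = Q'.map (MulAut.conj c⁻¹).toMonoidHom :=
    ⟨_, rfl⟩
  have hQ''mem : ∀ w, w ∈ Q'' ↔ ∃ q ∈ Q', c⁻¹ * q * c = w := by
    intro w
    rw [hQ''def, Subgroup.mem_map]
    constructor
    · rintro ⟨q, hq, rfl⟩
      exact ⟨q, hq, by simp⟩
    · rintro ⟨q, hq, rfl⟩
      exact ⟨q, hq, by simp⟩
  have hQ''le : Q'' ≤ Subgroup.centralizer ({g₀} : Set G) := by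
    intro w hw
    obtain ⟨q, hq, rfl⟩ := (hQ''mem w).mp hw
    rw [Subgroup.mem_centralizer_iff]
    intro w' hw'
    rw [Set.mem_singleton_iff] at hw'
    subst hw'
    have h1 := (hfix q hq).2
    rw [← hcz] at h1
    have h2 : w' = c⁻¹ * (q * (c * w' * c⁻¹) * q⁻¹) * c := by rw [h1]; group
    calc w' * (c⁻¹ * q * c) = c⁻¹ * (q * (c * w' * c⁻¹) * q⁻¹) * c * (c⁻¹ * q * c) := by
          rw [← h2]
      _ = c⁻¹ * q * c * w' := by group
  obtain ⟨R, hRdef⟩ : ∃ R : Subgroup (Subgroup.centralizer ({g₀} : Set G)),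
    R = Q''.subgroupOf (Subgroup.centralizer ({g₀} : Set G)) := ⟨_, rfl⟩
  have hRp : IsPGroup p R := by
    rw [hRdef, hQ''def]; exact (hQ'p.map _).comap_subtype
  obtain ⟨S₁, hRS₁⟩ := hRp.exists_le_sylow
  obtain ⟨k, hk⟩ := MulAction.exists_smul_eq (Subgroup.centralizer ({g₀} : Set G)) S₀ S₁
  refine ⟨c * (k : G), fun q hq => ?_⟩
  have hqQ' : (q : G) ∈ Q' := by
    rw [hQ'def, Subgroup.mem_map]
    exact ⟨q, hq, rfl⟩
  have hw : c⁻¹ * (q : G) * c ∈ Q'' := (hQ''mem _).mpr ⟨q, hqQ', rfl⟩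
  have hwR : (⟨c⁻¹ * (q : G) * c, hQ''le hw⟩ : Subgroup.centralizer ({g₀} : Set G)) ∈ R := by
    rw [hRdef, Subgroup.mem_subgroupOf]
    exact hw
  have hwS₁ := hRS₁ hwR
  rw [← hk, Sylow.coe_subgroup_smul, Subgroup.mem_pointwise_smul_iff_inv_smul_mem] at hwS₁
  refine ⟨_, hwS₁, ?_⟩
  simp only [MulAut.smul_def, map_inv, MulAut.inv_apply, MulAut.conj_symm_apply]
  push_cast
  group

end Cfsg.Agent.Helper6
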