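import Mathlib
import Cfsg.Prelude.Def_Characters
import Cfsg.Prelude.Def_Blocks
import Cfsg.Agent.Helper6.MinMax2

/-!
# Every functional on the centre that is multiplicative modulo the local ideal is a central
character modulo the local ideal
-/

set_option autoImplicit false
set_option linter.style.haveILetI false

namespace Cfsg.Agent.Helper6

open scoped ComplexConjugate

universe u

variable {G : Type u} [Group G] {M : Ideal Cfsg.AlgInt}

/-- a product of local numbers lying in the local ideal has a factor in the local ideal -/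
theorem MemLocalIdeal.of_prod (hM : M.IsMaximal) {ι : Type*} (S : Finset ι) (f : ι → ℂ)
    (hloc : ∀ i ∈ S, Cfsg.MemLocalRing M (f i)) (h : Cfsg.MemLocalIdeal M (∏ i ∈ S, f i)) :
    ∃ i ∈ S, Cfsg.MemLocalIdeal M (f i) := by
  classical
  induction S using Finset.induction_on with
  | empty =>
    rw [Finset.prod_empty] at h
    exact absurd h not_memLocalIdeal_one
  | insert a S ha ih =>
    rw [Finset.prod_insert ha] at h
    have hlocS : Cfsg.MemLocalRing M (∏ i ∈ S, f i) := by
      have : ∀ (T : Finset ι), (∀ i ∈ T, Cfsg.MemLocalRing M (f i)) →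
          Cfsg.MemLocalRing M (∏ i ∈ T, f i) := by
        intro T
        induction T using Finset.induction_on with
        | empty => intro _; rw [Finset.prod_empty]; exact memLocalRing_one hM
        | insert b T hb ihT =>
          intro hT
          rw [Finset.prod_insert hb]
          exact MemLocalRing.mul hM (hT b (Finset.mem_insert_self b T))
            (ihT (fun i hi => hT i (Finset.mem_insert_of_mem hi)))
      exact this S (fun i hi => hloc i (Finset.mem_insert_of_mem hi))
    rcases MemLocalIdeal.of_mul hM (hloc a (Finset.mem_insert_self a S)) hlocS h with h1 | h1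
    · exact ⟨a, Finset.mem_insert_self a S, h1⟩
    · obtain ⟨i, hi, hfi⟩ := ih (fun i hi => hloc i (Finset.mem_insert_of_mem hi)) h1
      exact ⟨i, Finset.mem_insert_of_mem hi, hfi⟩

/-- a local number congruent to a member of the local ring -/
theorem MemLocalRing.of_memLocalIdeal {x : ℂ} (h : Cfsg.MemLocalIdeal M x) :
    Cfsg.MemLocalRing M x := by
  obtain ⟨a, b, _, hb, hab⟩ := h
  exact ⟨a, b, hb, hab⟩

section Vec

variable [Fintype G] [Fintype (Cfsg.IrrCharacter G)]

open Classical in
/-- **a functional multiplicative modulo the local ideal is a central character modulo the local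
ideal** -/
theorem exists_irr_of_multiplicative (hM : M.IsMaximal) (μ : G → ℂ)
    (h1 : ∀ g, Cfsg.MemLocalRing M (∑ t ∈ classFinset g, μ t))
    (h2 : Cfsg.MemLocalIdeal M (μ 1 - 1))
    (h3 : ∀ (k : G) (Y : G → ℂ), Cfsg.IsClassFunction G Y → (∀ t, Cfsg.MemLocalRing M (Y t)) →
      Cfsg.MemLocalIdeal M (∑ t, (∑ x ∈ classFinset k, Y (t * x⁻¹)) * μ t -
        (∑ x ∈ classFinset k, μ x) * ∑ t, Y t * μ t)) :
    ∃ χ : Cfsg.IrrCharacter G, ∀ g, Cfsg.MemLocalIdeal M
      (∑ t ∈ classFinset g, μ t - Cfsg.centralChar (χ : G → ℂ) g) := by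
  by_contra hcon
  push Not at hcon
  choose k hk using hcon
  -- the functional on vectors
  set L : (Cfsg.IrrCharacter G → ℂ) → ℂ := fun w => ∑ t, idemCoeff w t * μ t with hL
  set lam : G → ℂ := fun g => ∑ t ∈ classFinset g, μ t with hlam
  set fac : Cfsg.IrrCharacter G → ℂ := fun χ => lam (k χ) - Cfsg.centralChar (χ : G → ℂ) (k χ)
    with hfac
  have hfacloc : ∀ χ, Cfsg.MemLocalRing M (fac χ) := fun χ =>
    MemLocalRing.sub hM (h1 (k χ)) (memLocalRing_of_isIntegral hM (isIntegral_centralChar χ (k χ)))
  set wv : Cfsg.IrrCharacter G → (Cfsg.IrrCharacter G → ℂ) := fun χ =>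
    (fun θ : Cfsg.IrrCharacter G => Cfsg.centralChar (θ : G → ℂ) (k χ)) -
      (fun _ => Cfsg.centralChar (χ : G → ℂ) (k χ)) with hwv
  have hwvmult : ∀ χ, IsMultiplier M (wv χ) := fun χ =>
    IsMultiplier.sub hM (isMultiplier_centralChar hM (k χ))
      (isMultiplier_const hM (memLocalRing_of_isIntegral hM (isIntegral_centralChar χ (k χ))))
  -- the key induction
  have key : ∀ S : Finset (Cfsg.IrrCharacter G),
      Cfsg.MemLocalIdeal M (L (∏ χ ∈ S, wv χ) - (∏ χ ∈ S, fac χ) * μ 1) := by
    intro S
    induction S using Finset.induction_on with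
    | empty =>
      rw [Finset.prod_empty, Finset.prod_empty, one_mul]
      have : L 1 = μ 1 := by
        simp only [hL]
        simp_rw [idemCoeff_one]
        simp
      rw [this, sub_self]
      exact memLocalIdeal_zero hM
    | insert a S ha ih =>
      rw [Finset.prod_insert ha, Finset.prod_insert ha]
      set w := ∏ χ ∈ S, wv χ with hw
      have hwmult : IsMultiplier M w := IsMultiplier.prod S wv (fun χ _ => hwvmult χ)
      set Y := idemCoeff w with hY
      have hYcf : Cfsg.IsClassFunction G Y := idemCoeff_isClassFunction w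
      have hYloc : ∀ t, Cfsg.MemLocalRing M (Y t) := hwmult.isLocalVec hM
      have hcoef : ∀ t, idemCoeff (wv a * w) t =
          (∑ x ∈ classFinset (k a), Y (t * x⁻¹)) -
            Cfsg.centralChar (a : G → ℂ) (k a) * Y t := by
        intro t
        simp only [hwv]
        rw [sub_mul, sub_eq_add_neg, idemCoeff_add, idemCoeff_neg, idemCoeff_centralChar_mul,
          idemCoeff_smul, ← sub_eq_add_neg]
      have hLexp : L (wv a * w) = (∑ t, (∑ x ∈ classFinset (k a), Y (t * x⁻¹)) * μ t) -
          Cfsg.centralChar (a : G → ℂ) (k a) * L w := by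
        simp only [hL]
        simp_rw [hcoef, sub_mul]
        rw [Finset.sum_sub_distrib, Finset.mul_sum]
        congr 1
        apply Finset.sum_congr rfl
        intro t _
        ring
      have hA := h3 (k a) Y hYcf hYloc
      -- L (wv a * w) ≡ fac a * L w
      have hstep : Cfsg.MemLocalIdeal M (L (wv a * w) - fac a * L w) := by
        have e : L (wv a * w) - fac a * L w =
            (∑ t, (∑ x ∈ classFinset (k a), Y (t * x⁻¹)) * μ t) -
              (∑ x ∈ classFinset (k a), μ x) * ∑ t, Y t * μ t := by
          rw [hLexp]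
          simp only [hfac, hlam, hL, hY]
          ring
        rw [e]
        exact hA
      have hmul := MemLocalIdeal.mul_left hM (hfacloc a) ih
      have hsum := MemLocalIdeal.add hM hstep hmul
      have e2 : L (wv a * w) - fac a * L w + fac a * (L w - (∏ χ ∈ S, fac χ) * μ 1) =
          L (wv a * w) - fac a * (∏ χ ∈ S, fac χ) * μ 1 := by ring
      rw [e2] at hsum
      exact hsum
  have hfinal := key Finset.univ
  have hzero : (∏ χ ∈ (Finset.univ : Finset (Cfsg.IrrCharacter G)), wv χ) = 0 := by
    funext θ
    rw [Finset.prod_apply]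
    apply Finset.prod_eq_zero (Finset.mem_univ θ)
    simp only [hwv, Pi.sub_apply, sub_self]
  have hL0 : L 0 = 0 := by
    simp only [hL]
    simp_rw [idemCoeff_zero]
    simp
  rw [hzero, hL0, zero_sub] at hfinal
  have hprodloc : Cfsg.MemLocalRing M (∏ χ ∈ (Finset.univ : Finset (Cfsg.IrrCharacter G)), fac χ) := by
    have : ∀ (T : Finset (Cfsg.IrrCharacter G)),
        Cfsg.MemLocalRing M (∏ i ∈ T, fac i) := by
      intro T
      induction T using Finset.induction_on with
      | empty => rw [Finset.prod_empty]; exact memLocalRing_one hM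
      | insert b T hb ihT =>
        rw [Finset.prod_insert hb]
        exact MemLocalRing.mul hM (hfacloc b) ihT
    exact this _
  have h4 := MemLocalIdeal.mul_left hM hprodloc h2
  have h5 := MemLocalIdeal.sub hM h4 hfinal
  have e3 : (∏ χ ∈ (Finset.univ : Finset (Cfsg.IrrCharacter G)), fac χ) * (μ 1 - 1) -
      -((∏ χ ∈ (Finset.univ : Finset (Cfsg.IrrCharacter G)), fac χ) * μ 1) =
      (∏ χ ∈ (Finset.univ : Finset (Cfsg.IrrCharacter G)), fac χ) * (2 * μ 1 - 1) := by ring
  rw [e3] at h5
  -- 2 μ 1 - 1 is a unit modulo the ideal, being congruent to 1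
  have h6 : Cfsg.MemLocalRing M (2 * μ 1 - 1) := by
    have : Cfsg.MemLocalRing M (μ 1) := by
      have := MemLocalRing.add hM (MemLocalRing.of_memLocalIdeal h2) (memLocalRing_one hM)
      rwa [sub_add_cancel] at this
    have h2' : Cfsg.MemLocalRing M (2 : ℂ) := by
      have := MemLocalRing.add hM (memLocalRing_one hM) (memLocalRing_one hM)
      rwa [one_add_one_eq_two] at this
    exact MemLocalRing.sub hM (MemLocalRing.mul hM h2' this) (memLocalRing_one hM)
  rcases MemLocalIdeal.of_mul hM hprodloc h6 h5 with h7 | h7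
  · obtain ⟨χ, _, hχ⟩ := MemLocalIdeal.of_prod hM Finset.univ fac (fun χ _ => hfacloc χ) h7
    exact hk χ hχ
  · -- 2 μ 1 - 1 = 2 (μ 1 - 1) + 1 in the ideal would force 1 in the ideal
    have h2' : Cfsg.MemLocalRing M (2 : ℂ) := by
      have := MemLocalRing.add hM (memLocalRing_one hM) (memLocalRing_one hM)
      rwa [one_add_one_eq_two] at this
    have h8 := MemLocalIdeal.mul_left hM h2' h2
    have h9 := MemLocalIdeal.sub hM h7 h8
    have e4 : 2 * μ 1 - 1 - 2 * (μ 1 - 1) = 1 := by ring
    rw [e4] at h9
    exact not_memLocalIdeal_one h9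

end Vec

end Cfsg.Agent.Helper6
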