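import Mathlib
import Cfsg.Prelude.Def_Characters
import Cfsg.Prelude.Def_Blocks
import Cfsg.Agent.Helper6.MultFunctional
import Cfsg.Agent.Helper6.BrauerCentral

/-!
# The Brauer functional is multiplicative modulo the local ideal
-/

set_option autoImplicit false
set_option linter.style.haveILetI false

namespace Cfsg.Agent.Helper6

open scoped ComplexConjugate

universe u

variable {G : Type u} [Group G] {M : Ideal Cfsg.AlgInt}

/-- **orbit congruence**: for a `p`-group `P` acting by conjugation on a stable finset `K`, the sum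
of a `P`-invariant local-valued function over `K` is congruent to its sum over the fixed points -/
theorem sum_sub_sum_centralizer_memLocalIdeal {p : ℕ} [hp : Fact p.Prime]
    (hM : Cfsg.IsPModular p M) (P : Subgroup G) (hP : IsPGroup p P) (K : Finset G)
    (hK : ∀ x ∈ K, ∀ u ∈ P, u * x * u⁻¹ ∈ K) (φ : G → ℂ)
    (hφ : ∀ x ∈ K, ∀ u ∈ P, φ (u * x * u⁻¹) = φ x) (hloc : ∀ x ∈ K, Cfsg.MemLocalRing M (φ x))
    [DecidablePred (· ∈ Subgroup.centralizer (P : Set G))] :
    Cfsg.MemLocalIdeal M (∑ x ∈ K, φ x -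
      ∑ x ∈ K.filter (· ∈ Subgroup.centralizer (P : Set G)), φ x) := by
  classical
  have hsplit : ∑ x ∈ K, φ x - ∑ x ∈ K.filter (· ∈ Subgroup.centralizer (P : Set G)), φ x =
      ∑ x ∈ K.filter (· ∉ Subgroup.centralizer (P : Set G)), φ x := by
    rw [← Finset.sum_filter_add_sum_filter_not K (· ∈ Subgroup.centralizer (P : Set G)) φ]
    ring
  rw [hsplit]
  obtain ⟨K', hK'⟩ : ∃ K' : Finset G, K' = K.filter (· ∉ Subgroup.centralizer (P : Set G)) :=
    ⟨_, rfl⟩
  rw [← hK']
  have hK'mem : ∀ x, x ∈ K' ↔ x ∈ K ∧ x ∉ Subgroup.centralizer (P : Set G) := by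
    intro x; rw [hK', Finset.mem_filter]
  have hcn : (Subgroup.centralizer (P : Set G)) = Subgroup.centralizer (P : Set G) := rfl
  -- stability of `K'`
  have hK'st : ∀ x ∈ K', ∀ u ∈ P, u * x * u⁻¹ ∈ K' := by
    intro x hx u hu
    rw [hK'mem] at hx ⊢
    refine ⟨hK x hx.1 u hu, fun hc => hx.2 ?_⟩
    rw [Subgroup.mem_centralizer_iff] at hc ⊢
    intro v hv
    -- v commutes with u x u⁻¹ for all v ∈ P; apply to u v u⁻¹... use v' = u * v * u⁻¹
    have h1 := hc (u * v * u⁻¹) (P.mul_mem (P.mul_mem hu hv) (P.inv_mem hu))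
    have : u * (v * x) * u⁻¹ = u * (x * v) * u⁻¹ := by
      calc u * (v * x) * u⁻¹ = (u * v * u⁻¹) * (u * x * u⁻¹) := by group
        _ = (u * x * u⁻¹) * (u * v * u⁻¹) := h1
        _ = u * (x * v) * u⁻¹ := by group
    exact mul_left_cancel (mul_right_cancel this)
  rw [Finset.sum_comp (s := K') (fun b : ℂ => b) φ]
  apply MemLocalIdeal.sum hM.2.1
  intro b hb
  obtain ⟨X, hX⟩ : ∃ X : Finset G, X = {a ∈ K' | φ a = b} := ⟨_, rfl⟩
  rw [← hX]
  have hXmem : ∀ x, x ∈ X ↔ x ∈ K' ∧ φ x = b := by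
    intro x; rw [hX, Finset.mem_filter]
  letI : MulAction P {x // x ∈ X} :=
    { smul := fun u x => ⟨(u : G) * x.1 * (u : G)⁻¹, by
        have hx := (hXmem x.1).mp x.2
        rw [hXmem]
        exact ⟨hK'st _ hx.1 _ u.2, by
          rw [hφ _ ((hK'mem _).mp hx.1).1 _ u.2]; exact hx.2⟩⟩
      one_smul := fun x => Subtype.ext (by
        show ((1 : P) : G) * x.1 * ((1 : P) : G)⁻¹ = x.1
        simp)
      mul_smul := fun a c x => Subtype.ext (by
        show ((a * c : P) : G) * x.1 * ((a * c : P) : G)⁻¹ =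
          (a : G) * ((c : G) * x.1 * (c : G)⁻¹) * (a : G)⁻¹
        simp [mul_assoc]) }
  have hsm : ∀ (u : P) (x : {x // x ∈ X}), ((u • x : {x // x ∈ X}) : G) =
      (u : G) * x.1 * (u : G)⁻¹ := fun u x => rfl
  have hmod := hP.card_modEq_card_fixedPoints {x // x ∈ X}
  have hempty : IsEmpty (MulAction.fixedPoints P {x // x ∈ X}) := by
    constructor
    rintro ⟨x, hx⟩
    have hxK' := ((hXmem x.1).mp x.2).1
    apply ((hK'mem _).mp hxK').2
    rw [Subgroup.mem_centralizer_iff]
    intro u hu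
    have := hx ⟨u, hu⟩
    have h2 := congrArg Subtype.val this
    rw [hsm] at h2
    calc u * x.1 = (u * x.1 * u⁻¹) * u := by group
      _ = x.1 * u := by rw [h2]
  have h0 : Nat.card (MulAction.fixedPoints P {x // x ∈ X}) = 0 := Nat.card_of_isEmpty
  rw [h0, Nat.card_eq_fintype_card, Fintype.card_coe] at hmod
  obtain ⟨c, hc⟩ := (Nat.modEq_zero_iff_dvd).mp hmod
  rw [hc, nsmul_eq_mul]
  push_cast
  have hbloc : Cfsg.MemLocalRing M b := by
    rw [Finset.mem_image] at hb
    obtain ⟨x, hx, rfl⟩ := hb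
    exact hloc x ((hK'mem x).mp hx).1
  have hcloc : Cfsg.MemLocalRing M ((c : ℂ) * b) := by
    apply MemLocalRing.mul hM.2.1 _ hbloc
    apply memLocalRing_of_isIntegral hM.2.1
    exact isIntegral_algebraMap (R := ℤ) (A := ℂ) (x := (c : ℤ)) |> fun h => by simpa using h
  have hpI : Cfsg.MemLocalIdeal M ((p : ℂ)) := by
    have := memLocalIdeal_of_mem hM.2.1 hM.2.2
    simpa using this
  have := MemLocalIdeal.mul_left hM.2.1 hcloc hpI
  have e : (c : ℂ) * b * (p : ℂ) = (p : ℂ) * (c : ℂ) * b := by ring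
  rwa [e] at this

/-- the Brauer weight: `ξ t / ξ 1` on the elements of `H` centralizing `P`, zero elsewhere -/
noncomputable def brauerWeight (P H : Subgroup G) (ξ : H → ℂ) (t : G) : ℂ := by
  classical exact if h : t ∈ H then
    (if t ∈ Subgroup.centralizer (P : Set G) then ξ ⟨t, h⟩ / ξ 1 else 0) else 0

theorem brauerWeight_of_mem (P H : Subgroup G) (ξ : H → ℂ) (t : H)
    (hc : (t : G) ∈ Subgroup.centralizer (P : Set G)) :
    brauerWeight P H ξ (t : G) = ξ t / ξ 1 := by
  classical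
  unfold brauerWeight
  rw [dif_pos t.2, if_pos hc]

theorem brauerWeight_of_not_mem_centralizer (P H : Subgroup G) (ξ : H → ℂ) (t : G)
    (hc : t ∉ Subgroup.centralizer (P : Set G)) : brauerWeight P H ξ t = 0 := by
  classical
  unfold brauerWeight
  by_cases h : t ∈ H
  · rw [dif_pos h, if_neg hc]
  · rw [dif_neg h]

theorem brauerWeight_of_not_mem (P H : Subgroup G) (ξ : H → ℂ) (t : G) (h : t ∉ H) :
    brauerWeight P H ξ t = 0 := by
  classical
  unfold brauerWeight
  rw [dif_neg h]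

open Classical in
/-- sums against the Brauer weight are sums over `H` -/
theorem sum_mul_brauerWeight [Fintype G] (P H : Subgroup G) [Fintype H] (ξ : H → ℂ)
    (F : G → ℂ) :
    ∑ t : G, F t * brauerWeight P H ξ t =
      ∑ t : H, if (t : G) ∈ Subgroup.centralizer (P : Set G) then F t * (ξ t / ξ 1) else 0 := by
  have h1 : ∑ t : G, F t * brauerWeight P H ξ t =
      ∑ t ∈ (Finset.univ : Finset G).filter (· ∈ H), F t * brauerWeight P H ξ t := by
    rw [Finset.sum_filter]
    apply Finset.sum_congr rfl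
    intro t _
    by_cases ht : t ∈ H
    · rw [if_pos ht]
    · rw [if_neg ht, brauerWeight_of_not_mem P H ξ t ht, mul_zero]
  rw [h1, Finset.sum_subtype ((Finset.univ : Finset G).filter (· ∈ H)) (p := (· ∈ H))
    (fun x => by simp)]
  apply Finset.sum_congr rfl
  intro t _
  by_cases hc : (t : G) ∈ Subgroup.centralizer (P : Set G)
  · rw [if_pos hc, brauerWeight_of_mem P H ξ t hc]
  · rw [if_neg hc, brauerWeight_of_not_mem_centralizer P H ξ _ hc, mul_zero]

/-- the class sums of the Brauer weight are the Brauer central character -/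
theorem sum_classFinset_brauerWeight [Fintype G] (P H : Subgroup G) (ξ : H → ℂ) (g : G) :
    ∑ t ∈ classFinset g, brauerWeight P H ξ t = Cfsg.brauerCentralChar P H ξ g := by
  classical
  haveI : Fintype H := Fintype.ofFinite H
  have h1 : ∑ t ∈ classFinset g, brauerWeight P H ξ t =
      ∑ t : G, (if IsConj g t then (1 : ℂ) else 0) * brauerWeight P H ξ t := by
    unfold classFinset
    rw [Finset.sum_filter]
    apply Finset.sum_congr rfl
    intro t _
    split_ifs <;> simp
  rw [h1, sum_mul_brauerWeight]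
  unfold Cfsg.brauerCentralChar
  rw [finsum_mem_eq_sum_ite]
  apply Finset.sum_congr rfl
  intro t _
  have m2 : t ∈ {h : H | IsConj g (h : G) ∧ (h : G) ∈ Subgroup.centralizer (P : Set G)} ↔
      (IsConj g (t : G) ∧ (t : G) ∈ Subgroup.centralizer (P : Set G)) := Iff.rfl
  by_cases hc : (t : G) ∈ Subgroup.centralizer (P : Set G)
  · by_cases h2 : IsConj g (t : G)
    · rw [if_pos hc, if_pos h2, one_mul, if_pos (m2.mpr ⟨h2, hc⟩)]
    · rw [if_pos hc, if_neg h2, zero_mul, if_neg (fun h' => h2 (m2.mp h').1)]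
  · rw [if_neg hc, if_neg (fun h' => hc (m2.mp h').2)]

end Cfsg.Agent.Helper6
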