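import Mathlib
import Cfsg.Prelude.Def_Characters
import Cfsg.Prelude.Def_Blocks
import Cfsg.Agent.Helper6.MinMax1
import Cfsg.Agent.Helper6.DefectClass
import Cfsg.Agent.Helper6.PrincipalDefect
import Cfsg.Agent.Helper6.DadeIso

/-!
# Defect groups of induced blocks
-/

set_option autoImplicit false
set_option linter.style.haveILetI false

namespace Cfsg.Agent.Helper6

open scoped ComplexConjugate

universe u

variable {G : Type u} [Group G] {M : Ideal Cfsg.AlgInt}

/-- if the induced central character does not vanish mod `M` at `g`, some `H`-class inside the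
class of `g` has nonvanishing central character -/
theorem exists_class_in_subgroup_not_mem [Finite G] (hM : M.IsMaximal) (H : Subgroup G)
    (ξ : Cfsg.IrrCharacter H) (g : G)
    (hne : ¬ Cfsg.MemLocalIdeal M (Cfsg.inducedCentralChar H (ξ : H → ℂ) g)) :
    ∃ h : H, IsConj g (h : G) ∧ ¬ Cfsg.MemLocalIdeal M (Cfsg.centralChar (ξ : H → ℂ) h) := by
  classical
  haveI : Fintype H := Fintype.ofFinite H
  by_contra hcon
  push Not at hcon
  apply hne
  have hξcf := IsCharacter.isClassFunction (IsIrrCharacter.isCharacter ξ.2)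
  set d : H → ℂ := fun h =>
    if IsConj g (h : G) then (ξ : H → ℂ) h / (ξ : H → ℂ) 1 else 0 with hd
  have hdcf : Cfsg.IsClassFunction H d := by
    intro h x
    simp only [hd]
    have hiff : IsConj g ((x * h * x⁻¹ : H) : G) ↔ IsConj g (h : G) := by
      have e : ((x * h * x⁻¹ : H) : G) = (x : G) * (h : G) * (x : G)⁻¹ := rfl
      rw [e]
      constructor
      · intro h1
        exact h1.trans (isConj_iff.mpr ⟨(x : G)⁻¹, by group⟩)
      · intro h1
        exact h1.trans (isConj_iff.mpr ⟨(x : G), rfl⟩)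
    by_cases hc : IsConj g (h : G)
    · rw [if_pos hc, if_pos (hiff.mpr hc), hξcf h x]
    · rw [if_neg hc, if_neg (fun h' => hc (hiff.mp h'))]
  have hJ : Cfsg.MemLocalIdeal M (∑ h ∈ (Finset.univ : Finset H), d h) := by
    apply sum_mem_of_conj_closed (fun z => Cfsg.MemLocalIdeal M z) (memLocalIdeal_zero hM)
      (fun x y hx hy => MemLocalIdeal.add hM hx hy) d hdcf _ _ Finset.univ rfl
    · intro h _ x
      exact Finset.mem_univ _
    · intro h
      simp only [hd]
      by_cases hc : IsConj g (h : G)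
      · rw [if_pos hc]
        have h1 := hcon h hc
        unfold Cfsg.centralChar at h1
        rwa [mul_div_assoc] at h1
      · rw [if_neg hc, mul_zero]
        exact memLocalIdeal_zero hM
  have heq : Cfsg.inducedCentralChar H (ξ : H → ℂ) g = ∑ h ∈ (Finset.univ : Finset H), d h := by
    unfold Cfsg.inducedCentralChar
    rw [finsum_mem_eq_sum_ite]
    rfl
  rw [heq]
  exact hJ

/-- **a defect group of `b` lies in a defect group of the induced block `b^G`** -/
theorem exists_defectGroup_ge_of_induced [Finite G] {p : ℕ} [hp : Fact p.Prime]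
    (hM : Cfsg.IsPModular p M) (H : Subgroup G) (b : Set (Cfsg.IrrCharacter H))
    (B : Set (Cfsg.IrrCharacter G)) (hind : Cfsg.IsInducedBlock M H b B) (D : Subgroup H)
    (hD : Cfsg.IsDefectGroup p M b D) :
    ∃ E : Subgroup G, Cfsg.IsDefectGroup p M B E ∧ D.map H.subtype ≤ E := by
  classical
  obtain ⟨hb, hB, hcong⟩ := hind
  obtain ⟨g, hg⟩ := exists_defectClass hM.2.1 B hB
  obtain ⟨χ₀, hχ₀⟩ := hB
  have hχ₀B : χ₀ ∈ B := by rw [hχ₀]; exact mem_blockOf_self hM.2.1 χ₀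
  obtain ⟨ξ₀, hξ₀⟩ := hb
  have hξ₀b : ξ₀ ∈ b := by rw [hξ₀]; exact mem_blockOf_self hM.2.1 ξ₀
  have hB' : Cfsg.IsPBlock M B := ⟨χ₀, hχ₀⟩
  have hb' : Cfsg.IsPBlock M b := ⟨ξ₀, hξ₀⟩
  have hne : ¬ Cfsg.MemLocalIdeal M (Cfsg.inducedCentralChar H (ξ₀ : H → ℂ) g) := by
    intro hmem
    apply hg.2.2 χ₀ hχ₀B
    have h1 := MemLocalIdeal.sub hM.2.1 hmem (hcong ξ₀ hξ₀b χ₀ hχ₀B g)
    have e : Cfsg.inducedCentralChar H (ξ₀ : H → ℂ) g -
        (Cfsg.inducedCentralChar H (ξ₀ : H → ℂ) g - Cfsg.centralChar (χ₀ : G → ℂ) g) =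
        Cfsg.centralChar (χ₀ : G → ℂ) g := by ring
    rwa [e] at h1
  obtain ⟨h, hconj, hh⟩ := exists_class_in_subgroup_not_mem hM.2.1 H ξ₀ g hne
  obtain ⟨g₀, hg₀, S₀, hDdef⟩ := hD
  obtain ⟨e, he⟩ := exists_conj_defectGroup_le_centralizer hM b hb' g₀ hg₀ S₀ ξ₀ hξ₀b h hh
  -- the conjugate `h' = e⁻¹ h e`
  obtain ⟨h', hh'def⟩ : ∃ h' : H, h' = e⁻¹ * h * e := ⟨_, rfl⟩
  have hconj' : IsConj g (h' : G) := by
    rw [hh'def]
    have e1 : ((e⁻¹ * h * e : H) : G) = (e : G)⁻¹ * (h : G) * ((e : G)⁻¹)⁻¹ := by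
      simp
    rw [e1]
    exact hconj.trans (isConj_iff.mpr ⟨_, rfl⟩)
  have hdc' : Cfsg.IsDefectClass M B (h' : G) := by
    obtain ⟨a, ha⟩ := isConj_iff.mp hconj'
    rw [← ha]
    exact isDefectClass_conj B g a hg
  have hDle : D.map H.subtype ≤ Subgroup.centralizer ({(h' : G)} : Set G) := by
    intro z hz
    rw [Subgroup.mem_map] at hz
    obtain ⟨u, hu, rfl⟩ := hz
    rw [hDdef, Subgroup.mem_map] at hu
    obtain ⟨s, hs, rfl⟩ := hu
    have h1 := he s hs
    rw [Subgroup.mem_centralizer_iff] at h1 ⊢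
    intro w hw
    rw [Set.mem_singleton_iff] at hw
    subst hw
    have h2 := h1 h (Set.mem_singleton h)
    -- h * (e s e⁻¹) = (e s e⁻¹) * h in H
    have h3 : (e⁻¹ * h * e) * (s : H) = (s : H) * (e⁻¹ * h * e) := by
      have : h * (e * (s : H) * e⁻¹) = e * (s : H) * e⁻¹ * h := h2
      calc (e⁻¹ * h * e) * (s : H) = e⁻¹ * (h * (e * (s : H) * e⁻¹)) * e := by group
        _ = e⁻¹ * (e * (s : H) * e⁻¹ * h) * e := by rw [this]
        _ = (s : H) * (e⁻¹ * h * e) := by group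
    rw [hh'def]
    exact congrArg Subtype.val h3
  have hDp : IsPGroup p (D.map H.subtype) := by
    rw [hDdef]
    exact (S₀.isPGroup'.map _).map _
  have hRp : IsPGroup p ((D.map H.subtype).subgroupOf
      (Subgroup.centralizer ({(h' : G)} : Set G))) := hDp.comap_subtype
  obtain ⟨E₀, hE₀⟩ := hRp.exists_le_sylow
  refine ⟨(E₀ : Subgroup (Subgroup.centralizer ({(h' : G)} : Set G))).map
    (Subgroup.centralizer ({(h' : G)} : Set G)).subtype, ⟨(h' : G), hdc', E₀, rfl⟩, ?_⟩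
  intro z hz
  rw [Subgroup.mem_map]
  exact ⟨⟨z, hDle hz⟩, hE₀ (by rw [Subgroup.mem_subgroupOf]; exact hz), rfl⟩

end Cfsg.Agent.Helper6
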