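import Mathlib
import Cfsg.Prelude.Def_Characters
import Cfsg.Prelude.Def_Blocks
import Cfsg.Agent.Helper6.BrauerFunctional
import Cfsg.Agent.Helper6.InducedDefect

/-!
# The Brauer functional is a central character modulo the local ideal
-/

set_option autoImplicit false
set_option linter.style.haveILetI false

namespace Cfsg.Agent.Helper6

open scoped ComplexConjugate

universe u

variable {G : Type u} [Group G] {M : Ideal Cfsg.AlgInt}

theorem conj_mem_centralizer_of_mem_normalizer (P : Subgroup G) {x : G}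
    (hx : x ∈ Subgroup.normalizer (P : Set G)) {t : G}
    (ht : t ∈ Subgroup.centralizer (P : Set G)) :
    x * t * x⁻¹ ∈ Subgroup.centralizer (P : Set G) := by
  rw [Subgroup.mem_centralizer_iff] at ht ⊢
  intro u hu
  have hu' : x⁻¹ * u * x ∈ P := (Subgroup.mem_normalizer_iff''.mp hx u).mp hu
  have h1 := ht _ hu'
  calc u * (x * t * x⁻¹) = x * ((x⁻¹ * u * x) * t) * x⁻¹ := by group
    _ = x * (t * (x⁻¹ * u * x)) * x⁻¹ := by rw [h1]
    _ = x * t * x⁻¹ * u := by group

theorem conj_mem_centralizer_iff_of_mem_normalizer (P : Subgroup G) {x : G}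
    (hx : x ∈ Subgroup.normalizer (P : Set G)) (t : G) :
    x * t * x⁻¹ ∈ Subgroup.centralizer (P : Set G) ↔ t ∈ Subgroup.centralizer (P : Set G) := by
  constructor
  · intro h
    have := conj_mem_centralizer_of_mem_normalizer P (Subgroup.inv_mem _ hx) h
    have e : x⁻¹ * (x * t * x⁻¹) * x⁻¹⁻¹ = t := by group
    rwa [e] at this
  · exact conj_mem_centralizer_of_mem_normalizer P hx

/-- the induced central characters of two characters in the same block agree modulo the ideal -/
theorem inducedCentralChar_sub_of_sameBlock [Finite G] (hM : M.IsMaximal) (H : Subgroup G)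
    (ξ ξ' : Cfsg.IrrCharacter H) (hs : Cfsg.SameBlock M (ξ : H → ℂ) (ξ' : H → ℂ)) (g : G) :
    Cfsg.MemLocalIdeal M (Cfsg.inducedCentralChar H (ξ : H → ℂ) g -
      Cfsg.inducedCentralChar H (ξ' : H → ℂ) g) := by
  classical
  haveI : Fintype H := Fintype.ofFinite H
  have hξcf := IsCharacter.isClassFunction (IsIrrCharacter.isCharacter ξ.2)
  have hξcf' := IsCharacter.isClassFunction (IsIrrCharacter.isCharacter ξ'.2)
  set d : H → ℂ := fun h =>
    if IsConj g (h : G) then (ξ : H → ℂ) h / (ξ : H → ℂ) 1 - (ξ' : H → ℂ) h / (ξ' : H → ℂ) 1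
      else 0 with hd
  have hdcf : Cfsg.IsClassFunction H d := by
    intro h x
    simp only [hd]
    have hiff : IsConj g ((x * h * x⁻¹ : H) : G) ↔ IsConj g (h : G) := by
      have e : ((x * h * x⁻¹ : H) : G) = (x : G) * (h : G) * (x : G)⁻¹ := rfl
      rw [e]
      constructor
      · intro h1
        exact h1.trans (isConj_iff.mpr ⟨(x : G)⁻¹, by group⟩)
      · intro h1
        exact h1.trans (isConj_iff.mpr ⟨(x : G), rfl⟩)
    by_cases hc : IsConj g (h : G)
    · rw [if_pos hc, if_pos (hiff.mpr hc), hξcf h x, hξcf' h x]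
    · rw [if_neg hc, if_neg (fun h' => hc (hiff.mp h'))]
  have hJ : Cfsg.MemLocalIdeal M (∑ h ∈ (Finset.univ : Finset H), d h) := by
    apply sum_mem_of_conj_closed (fun z => Cfsg.MemLocalIdeal M z) (memLocalIdeal_zero hM)
      (fun x y hx hy => MemLocalIdeal.add hM hx hy) d hdcf _ _ Finset.univ rfl
    · intro h _ x
      exact Finset.mem_univ _
    · intro h
      simp only [hd]
      by_cases hc : IsConj g (h : G)
      · rw [if_pos hc]
        have h1 := hs h
        unfold Cfsg.centralChar at h1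
        have e : ((Subgroup.centralizer ({h} : Set H)).index : ℂ) *
            ((ξ : H → ℂ) h / (ξ : H → ℂ) 1 - (ξ' : H → ℂ) h / (ξ' : H → ℂ) 1) =
            ((Subgroup.centralizer ({h} : Set H)).index : ℂ) * (ξ : H → ℂ) h / (ξ : H → ℂ) 1 -
            ((Subgroup.centralizer ({h} : Set H)).index : ℂ) * (ξ' : H → ℂ) h /
              (ξ' : H → ℂ) 1 := by ring
        rw [e]
        exact h1
      · rw [if_neg hc, mul_zero]
        exact memLocalIdeal_zero hM
  have heq : Cfsg.inducedCentralChar H (ξ : H → ℂ) g - Cfsg.inducedCentralChar H (ξ' : H → ℂ) g =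
      ∑ h ∈ (Finset.univ : Finset H), d h := by
    unfold Cfsg.inducedCentralChar
    rw [finsum_mem_eq_sum_ite, finsum_mem_eq_sum_ite, ← Finset.sum_sub_distrib]
    apply Finset.sum_congr rfl
    intro h _
    simp only [hd]
    have m2 : h ∈ {h : H | IsConj g (h : G)} ↔ IsConj g (h : G) := Iff.rfl
    by_cases hc : IsConj g (h : G)
    · rw [if_pos (m2.mpr hc), if_pos (m2.mpr hc), if_pos hc]
    · rw [if_neg (fun h' => hc (m2.mp h')), if_neg (fun h' => hc (m2.mp h')), if_neg hc, sub_zero]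
  rw [heq]
  exact hJ

/-- the Brauer central character takes local values -/
theorem memLocalRing_brauerCentralChar [Finite G] (hM : M.IsMaximal) (P H : Subgroup G)
    (hHN : H ≤ Subgroup.normalizer (P : Set G)) (ξ : Cfsg.IrrCharacter H) (g : G) :
    Cfsg.MemLocalRing M (Cfsg.brauerCentralChar P H (ξ : H → ℂ) g) := by
  classical
  haveI : Fintype H := Fintype.ofFinite H
  have hξcf := IsCharacter.isClassFunction (IsIrrCharacter.isCharacter ξ.2)
  set d : H → ℂ := fun h =>
    if IsConj g (h : G) ∧ (h : G) ∈ Subgroup.centralizer (P : Set G) then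
      (ξ : H → ℂ) h / (ξ : H → ℂ) 1 else 0 with hd
  have hdcf : Cfsg.IsClassFunction H d := by
    intro h x
    simp only [hd]
    have e : ((x * h * x⁻¹ : H) : G) = (x : G) * (h : G) * (x : G)⁻¹ := rfl
    have hiff : IsConj g ((x * h * x⁻¹ : H) : G) ↔ IsConj g (h : G) := by
      rw [e]
      constructor
      · intro h1
        exact h1.trans (isConj_iff.mpr ⟨(x : G)⁻¹, by group⟩)
      · intro h1
        exact h1.trans (isConj_iff.mpr ⟨(x : G), rfl⟩)
    have hiff2 : ((x * h * x⁻¹ : H) : G) ∈ Subgroup.centralizer (P : Set G) ↔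
        (h : G) ∈ Subgroup.centralizer (P : Set G) := by
      rw [e]
      exact conj_mem_centralizer_iff_of_mem_normalizer P (hHN x.2) _
    by_cases hc : IsConj g (h : G) ∧ (h : G) ∈ Subgroup.centralizer (P : Set G)
    · rw [if_pos hc, if_pos ⟨hiff.mpr hc.1, hiff2.mpr hc.2⟩, hξcf h x]
    · rw [if_neg hc, if_neg (fun h' => hc ⟨hiff.mp h'.1, hiff2.mp h'.2⟩)]
  have hJ : Cfsg.MemLocalRing M (∑ h ∈ (Finset.univ : Finset H), d h) := by
    apply sum_mem_of_conj_closed (fun z => Cfsg.MemLocalRing M z) (memLocalRing_zero hM)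
      (fun x y hx hy => MemLocalRing.add hM hx hy) d hdcf _ _ Finset.univ rfl
    · intro h _ x
      exact Finset.mem_univ _
    · intro h
      simp only [hd]
      by_cases hc : IsConj g (h : G) ∧ (h : G) ∈ Subgroup.centralizer (P : Set G)
      · rw [if_pos hc, ← mul_div_assoc]
        exact memLocalRing_of_isIntegral hM (isIntegral_centralChar ξ h)
      · rw [if_neg hc, mul_zero]
        exact memLocalRing_zero hM
  have heq : Cfsg.brauerCentralChar P H (ξ : H → ℂ) g =
      ∑ h ∈ (Finset.univ : Finset H), d h := by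
    unfold Cfsg.brauerCentralChar
    rw [finsum_mem_eq_sum_ite]
    apply Finset.sum_congr rfl
    intro h _
    simp only [hd]
    have m2 : h ∈ {h : H | IsConj g (h : G) ∧ (h : G) ∈ Subgroup.centralizer (P : Set G)} ↔
      (IsConj g (h : G) ∧ (h : G) ∈ Subgroup.centralizer (P : Set G)) := Iff.rfl
    by_cases hc : IsConj g (h : G) ∧ (h : G) ∈ Subgroup.centralizer (P : Set G)
    · rw [if_pos (m2.mpr hc), if_pos hc]
    · rw [if_neg (fun h' => hc (m2.mp h')), if_neg hc]
  rw [heq]
  exact hJ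

/-- reindexing a twisted class sum by conjugation -/
theorem sum_conj_twist (Y : G → ℂ) (hY : Cfsg.IsClassFunction G Y) (T : Finset G) (h : G)
    (hT : ∀ x, x ∈ T ↔ h * x * h⁻¹ ∈ T) (t : G) :
    ∑ x ∈ T, Y (h * t * h⁻¹ * x⁻¹) = ∑ x ∈ T, Y (t * x⁻¹) := by
  symm
  apply Finset.sum_equiv (MulAut.conj h).toEquiv
  · intro x
    simpa using hT x
  · intro x _
    have e : h * t * h⁻¹ * ((MulAut.conj h).toEquiv x)⁻¹ = h * (t * x⁻¹) * h⁻¹ := by
      simp [MulAut.conj_apply]
      group
    rw [e, hY]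

open Classical in
/-- translation formula inside the centralizer -/
theorem brauer_translate (P H : Subgroup G) [Fintype H]
    (hCH : Subgroup.centralizer (P : Set G) ≤ H)
    (hHN : H ≤ Subgroup.normalizer (P : Set G)) (ξ : Cfsg.IrrCharacter H) (Y : G → ℂ)
    (hY : Cfsg.IsClassFunction G Y) (x : G) (hx : x ∈ Subgroup.centralizer (P : Set G)) :
    ∑ t : H, (if (t : G) ∈ Subgroup.centralizer (P : Set G) then
        Y ((t : G) * x⁻¹) * ((ξ : H → ℂ) t / (ξ : H → ℂ) 1) else 0) =
      brauerWeight P H (ξ : H → ℂ) x *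
        ∑ s : H, (if (s : G) ∈ Subgroup.centralizer (P : Set G) then
          Y (s : G) * ((ξ : H → ℂ) s / (ξ : H → ℂ) 1) else 0) := by
  set xH : H := ⟨x, hCH hx⟩ with hxH
  have hμ : brauerWeight P H (ξ : H → ℂ) x = (ξ : H → ℂ) xH / (ξ : H → ℂ) 1 :=
    brauerWeight_of_mem P H (ξ : H → ℂ) xH hx
  rw [hμ]
  set a : H → ℂ := fun s => if (s : G) ∈ Subgroup.centralizer (P : Set G) then Y (s : G) else 0
    with ha
  have hacf : Cfsg.IsClassFunction H a := by
    intro s h
    simp only [ha]
    have e : ((h * s * h⁻¹ : H) : G) = (h : G) * (s : G) * (h : G)⁻¹ := rfl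
    have hiff2 : ((h * s * h⁻¹ : H) : G) ∈ Subgroup.centralizer (P : Set G) ↔
        (s : G) ∈ Subgroup.centralizer (P : Set G) := by
      rw [e]
      exact conj_mem_centralizer_iff_of_mem_normalizer P (hHN h.2) _
    by_cases hc : (s : G) ∈ Subgroup.centralizer (P : Set G)
    · rw [if_pos hc, if_pos (hiff2.mpr hc), e, hY]
    · rw [if_neg hc, if_neg (fun h' => hc (hiff2.mp h'))]
  have htr := sum_classFunction_char_translate ξ a hacf xH
  -- reindex `t = s * xH`
  have h1 : ∑ t : H, (if (t : G) ∈ Subgroup.centralizer (P : Set G) then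
        Y ((t : G) * x⁻¹) * ((ξ : H → ℂ) t / (ξ : H → ℂ) 1) else 0) =
      ∑ s : H, a s * (ξ : H → ℂ) (s * xH) / (ξ : H → ℂ) 1 := by
    rw [← Equiv.sum_comp (Equiv.mulRight xH)]
    apply Finset.sum_congr rfl
    intro s _
    have e1 : ((Equiv.mulRight xH s : H) : G) = (s : G) * x := rfl
    have hiff : (s : G) * x ∈ Subgroup.centralizer (P : Set G) ↔
        (s : G) ∈ Subgroup.centralizer (P : Set G) := by
      constructor
      · intro h
        have := Subgroup.mul_mem _ h (Subgroup.inv_mem _ hx)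
        rwa [mul_inv_cancel_right] at this
      · intro h
        exact Subgroup.mul_mem _ h hx
    simp only [ha]
    by_cases hc : (s : G) ∈ Subgroup.centralizer (P : Set G)
    · rw [e1, if_pos (hiff.mpr hc), if_pos hc, mul_inv_cancel_right]
      have e2 : (Equiv.mulRight xH s : H) = s * xH := rfl
      rw [e2]
      ring
    · rw [e1, if_neg (fun h' => hc (hiff.mp h')), if_neg hc, zero_mul, zero_div]
  rw [h1, ← Finset.sum_div, htr]
  have h2 : ∑ s : H, (if (s : G) ∈ Subgroup.centralizer (P : Set G) then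
          Y (s : G) * ((ξ : H → ℂ) s / (ξ : H → ℂ) 1) else 0) =
      (∑ s : H, a s * (ξ : H → ℂ) s) / (ξ : H → ℂ) 1 := by
    rw [Finset.sum_div]
    apply Finset.sum_congr rfl
    intro s _
    simp only [ha]
    by_cases hc : (s : G) ∈ Subgroup.centralizer (P : Set G)
    · rw [if_pos hc, if_pos hc]; ring
    · rw [if_neg hc, if_neg hc, zero_mul, zero_div]
  rw [h2]
  ring

open Classical in
/-- **the Brauer functional is multiplicative modulo the local ideal** -/
theorem brauerWeight_multiplicative [Fintype G] {p : ℕ} [hp : Fact p.Prime]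
    (hM : Cfsg.IsPModular p M) (P H : Subgroup G) [Fintype H] (hP : IsPGroup p P)
    (hCH : Subgroup.centralizer (P : Set G) ≤ H)
    (hHN : H ≤ Subgroup.normalizer (P : Set G)) (ξ : Cfsg.IrrCharacter H)
    (k : G) (Y : G → ℂ) (hY : Cfsg.IsClassFunction G Y)
    (hYloc : ∀ t, Cfsg.MemLocalRing M (Y t)) :
    Cfsg.MemLocalIdeal M
      (∑ t, (∑ x ∈ classFinset k, Y (t * x⁻¹)) * brauerWeight P H (ξ : H → ℂ) t -
        (∑ x ∈ classFinset k, brauerWeight P H (ξ : H → ℂ) x) *
          ∑ t, Y t * brauerWeight P H (ξ : H → ℂ) t) := by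
  have hξcf := IsCharacter.isClassFunction (IsIrrCharacter.isCharacter ξ.2)
  set K := classFinset k with hK
  set KC := K.filter (· ∈ Subgroup.centralizer (P : Set G)) with hKC
  have hKconj : ∀ x h : G, x ∈ K ↔ h * x * h⁻¹ ∈ K := by
    intro x h
    rw [hK, mem_classFinset, mem_classFinset]
    constructor
    · intro h1
      exact h1.trans (isConj_iff.mpr ⟨h, rfl⟩)
    · intro h1
      exact h1.trans (isConj_iff.mpr ⟨h⁻¹, by group⟩)
  have hKCconj : ∀ x : G, ∀ h ∈ H, x ∈ KC ↔ h * x * h⁻¹ ∈ KC := by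
    intro x h hh
    rw [hKC, Finset.mem_filter, Finset.mem_filter, ← hKconj x h,
      conj_mem_centralizer_iff_of_mem_normalizer P (hHN hh)]
  set μ := brauerWeight P H (ξ : H → ℂ) with hμ
  set S : ℂ := ∑ s : H, (if (s : G) ∈ Subgroup.centralizer (P : Set G) then
          Y (s : G) * ((ξ : H → ℂ) s / (ξ : H → ℂ) 1) else 0) with hS
  -- Step 1, 2
  have e1 : ∑ t, (∑ x ∈ K, Y (t * x⁻¹)) * μ t =
      ∑ t : H, if (t : G) ∈ Subgroup.centralizer (P : Set G) then
        (∑ x ∈ K, Y ((t : G) * x⁻¹)) * ((ξ : H → ℂ) t / (ξ : H → ℂ) 1) else 0 :=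
    sum_mul_brauerWeight P H (ξ : H → ℂ) (fun t => ∑ x ∈ K, Y (t * x⁻¹))
  have e2 : ∑ t, Y t * μ t = S := sum_mul_brauerWeight P H (ξ : H → ℂ) Y
  -- Step 3
  have e3 : ∑ x ∈ K, μ x = ∑ x ∈ KC, μ x := by
    rw [hKC, Finset.sum_filter]
    apply Finset.sum_congr rfl
    intro x _
    by_cases hc : x ∈ Subgroup.centralizer (P : Set G)
    · rw [if_pos hc]
    · rw [if_neg hc]
      exact brauerWeight_of_not_mem_centralizer P H (ξ : H → ℂ) x hc
  -- Step C
  have eC : (∑ x ∈ KC, μ x) * S =
      ∑ t : H, if (t : G) ∈ Subgroup.centralizer (P : Set G) then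
        (∑ x ∈ KC, Y ((t : G) * x⁻¹)) * ((ξ : H → ℂ) t / (ξ : H → ℂ) 1) else 0 := by
    have h1 : ∀ t : H, (if (t : G) ∈ Subgroup.centralizer (P : Set G) then
        (∑ x ∈ KC, Y ((t : G) * x⁻¹)) * ((ξ : H → ℂ) t / (ξ : H → ℂ) 1) else 0) =
        ∑ x ∈ KC, (if (t : G) ∈ Subgroup.centralizer (P : Set G) then
          Y ((t : G) * x⁻¹) * ((ξ : H → ℂ) t / (ξ : H → ℂ) 1) else 0) := by
      intro t
      by_cases hc : (t : G) ∈ Subgroup.centralizer (P : Set G)
      · rw [if_pos hc, Finset.sum_mul]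
        apply Finset.sum_congr rfl
        intro x _
        rw [if_pos hc]
      · rw [if_neg hc]
        symm
        apply Finset.sum_eq_zero
        intro x _
        rw [if_neg hc]
    simp_rw [h1]
    rw [Finset.sum_comm, Finset.sum_mul]
    apply Finset.sum_congr rfl
    intro x hx
    have hxc : x ∈ Subgroup.centralizer (P : Set G) := by
      rw [hKC, Finset.mem_filter] at hx
      exact hx.2
    rw [brauer_translate P H hCH hHN ξ Y hY x hxc]
  -- Steps A, B
  set D : H → ℂ := fun t => if (t : G) ∈ Subgroup.centralizer (P : Set G) then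
      ((∑ x ∈ K, Y ((t : G) * x⁻¹)) - ∑ x ∈ KC, Y ((t : G) * x⁻¹)) *
        ((ξ : H → ℂ) t / (ξ : H → ℂ) 1) else 0 with hD
  have hDcf : Cfsg.IsClassFunction H D := by
    intro t h
    simp only [hD]
    have e : ((h * t * h⁻¹ : H) : G) = (h : G) * (t : G) * (h : G)⁻¹ := rfl
    have hiff2 : ((h * t * h⁻¹ : H) : G) ∈ Subgroup.centralizer (P : Set G) ↔
        (t : G) ∈ Subgroup.centralizer (P : Set G) := by
      rw [e]
      exact conj_mem_centralizer_iff_of_mem_normalizer P (hHN h.2) _
    by_cases hc : (t : G) ∈ Subgroup.centralizer (P : Set G)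
    · rw [if_pos hc, if_pos (hiff2.mpr hc), e,
        sum_conj_twist Y hY K (h : G) (fun x => hKconj x h) (t : G),
        sum_conj_twist Y hY KC (h : G) (fun x => hKCconj x h h.2) (t : G), hξcf t h]
    · rw [if_neg hc, if_neg (fun h' => hc (hiff2.mp h'))]
  have hDsum : Cfsg.MemLocalIdeal M (∑ t ∈ (Finset.univ : Finset H), D t) := by
    apply sum_mem_of_conj_closed (fun z => Cfsg.MemLocalIdeal M z) (memLocalIdeal_zero hM.2.1)
      (fun x y hx hy => MemLocalIdeal.add hM.2.1 hx hy) D hDcf _ _ Finset.univ rfl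
    · intro h _ x
      exact Finset.mem_univ _
    · intro t
      simp only [hD]
      by_cases hc : (t : G) ∈ Subgroup.centralizer (P : Set G)
      · rw [if_pos hc]
        have hA : Cfsg.MemLocalIdeal M ((∑ x ∈ K, Y ((t : G) * x⁻¹)) -
            ∑ x ∈ KC, Y ((t : G) * x⁻¹)) := by
          apply sum_sub_sum_centralizer_memLocalIdeal hM P hP K _ (fun x => Y ((t : G) * x⁻¹))
          · intro x _ u hu
            have hcomm : u * (t : G) = (t : G) * u := by
              rw [Subgroup.mem_centralizer_iff] at hc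
              exact hc u hu
            have e : (t : G) * (u * x * u⁻¹)⁻¹ = u * ((t : G) * x⁻¹) * u⁻¹ := by
              calc (t : G) * (u * x * u⁻¹)⁻¹ = ((t : G) * u) * x⁻¹ * u⁻¹ := by group
                _ = (u * (t : G)) * x⁻¹ * u⁻¹ := by rw [hcomm]
                _ = u * ((t : G) * x⁻¹) * u⁻¹ := by group
            show Y ((t : G) * (u * x * u⁻¹)⁻¹) = Y ((t : G) * x⁻¹)
            rw [e, hY]
          · intro x _
            exact hYloc _
          · intro x hx u _
            exact (hKconj x u).mp hx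
        have hω : Cfsg.MemLocalRing M (Cfsg.centralChar (ξ : H → ℂ) t) :=
          memLocalRing_of_isIntegral hM.2.1 (isIntegral_centralChar ξ t)
        have := MemLocalIdeal.mul_left hM.2.1 hω hA
        unfold Cfsg.centralChar at this
        have e : ((Subgroup.centralizer ({t} : Set H)).index : ℂ) *
            (((∑ x ∈ K, Y ((t : G) * x⁻¹)) - ∑ x ∈ KC, Y ((t : G) * x⁻¹)) *
              ((ξ : H → ℂ) t / (ξ : H → ℂ) 1)) =
            ((Subgroup.centralizer ({t} : Set H)).index : ℂ) * (ξ : H → ℂ) t / (ξ : H → ℂ) 1 *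
              ((∑ x ∈ K, Y ((t : G) * x⁻¹)) - ∑ x ∈ KC, Y ((t : G) * x⁻¹)) := by ring
        rw [e]
        exact this
      · rw [if_neg hc, mul_zero]
        exact memLocalIdeal_zero hM.2.1
  have hfinal : (∑ t, (∑ x ∈ K, Y (t * x⁻¹)) * μ t - (∑ x ∈ K, μ x) * ∑ t, Y t * μ t) =
      ∑ t ∈ (Finset.univ : Finset H), D t := by
    rw [e1, e2, e3, eC, ← Finset.sum_sub_distrib]
    apply Finset.sum_congr rfl
    intro t _
    simp only [hD]
    by_cases hc : (t : G) ∈ Subgroup.centralizer (P : Set G)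
    · rw [if_pos hc, if_pos hc, if_pos hc]; ring
    · rw [if_neg hc, if_neg hc, if_neg hc, sub_zero]
  rw [hfinal]
  exact hDsum

/-- **the Brauer central character is a central character modulo the local ideal** -/
theorem exists_irr_brauerCentralChar [Finite G] {p : ℕ} [hp : Fact p.Prime]
    (hM : Cfsg.IsPModular p M) (P H : Subgroup G) (hP : IsPGroup p P)
    (hCH : Subgroup.centralizer (P : Set G) ≤ H)
    (hHN : H ≤ Subgroup.normalizer (P : Set G)) (ξ : Cfsg.IrrCharacter H) :
    ∃ χ : Cfsg.IrrCharacter G, ∀ g, Cfsg.MemLocalIdeal M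
      (Cfsg.brauerCentralChar P H (ξ : H → ℂ) g - Cfsg.centralChar (χ : G → ℂ) g) := by
  classical
  haveI : Fintype G := Fintype.ofFinite G
  haveI : Fintype H := Fintype.ofFinite H
  haveI : Finite (Cfsg.IrrCharacter G) := irr_finite
  haveI : Fintype (Cfsg.IrrCharacter G) := Fintype.ofFinite _
  have hξ1 : (ξ : H → ℂ) 1 ≠ 0 := IsIrrCharacter.apply_one_ne_zero ξ.2
  obtain ⟨χ, hχ⟩ := exists_irr_of_multiplicative hM.2.1 (brauerWeight P H (ξ : H → ℂ))
    (fun g => by
      rw [sum_classFinset_brauerWeight]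
      exact memLocalRing_brauerCentralChar hM.2.1 P H hHN ξ g)
    (by
      have h1 : brauerWeight P H (ξ : H → ℂ) 1 = 1 := by
        have := brauerWeight_of_mem P H (ξ : H → ℂ) (1 : H) (Subgroup.one_mem _)
        rw [Subgroup.coe_one] at this
        rw [this, div_self hξ1]
      rw [h1, sub_self]
      exact memLocalIdeal_zero hM.2.1)
    (fun k Y hY hYloc => brauerWeight_multiplicative hM P H hP hCH hHN ξ k Y hY hYloc)
  refine ⟨χ, fun g => ?_⟩
  have := hχ g
  rwa [sum_classFinset_brauerWeight] at this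

end Cfsg.Agent.Helper6
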