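import Mathlib
import Cfsg.Prelude.Def_Characters
import Cfsg.Prelude.Def_Blocks
import Cfsg.Agent.Helper6.MultFunctional

/-!
# The vector of central character values of a class function; idempotents modulo the local ideal
-/

set_option autoImplicit false
set_option linter.style.haveILetI false

namespace Cfsg.Agent.Helper6

open scoped ComplexConjugate

universe u

variable {G : Type u} [Group G] {M : Ideal Cfsg.AlgInt}

section Vec

variable [Fintype G] [Fintype (Cfsg.IrrCharacter G)]

/-- the vector of central character values of the central element with coefficient function `u` -/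
noncomputable def classVec (u : G → ℂ) : Cfsg.IrrCharacter G → ℂ :=
  fun χ => ∑ t, u t * ((χ : G → ℂ) t / (χ : G → ℂ) 1)

/-- **convolution formula** -/
theorem idemCoeff_classVec_mul (u : G → ℂ) (hu : Cfsg.IsClassFunction G u)
    (w : Cfsg.IrrCharacter G → ℂ) (g : G) :
    idemCoeff (classVec u * w) g = ∑ t, u t * idemCoeff w (g * t⁻¹) := by
  unfold idemCoeff
  simp_rw [Finset.mul_sum]
  rw [Finset.sum_comm]
  apply Finset.sum_congr rfl
  intro χ _
  have hχc := IsIrrCharacter.isCharacter χ.2
  have hχ1 : (χ : G → ℂ) 1 ≠ 0 := IsIrrCharacter.apply_one_ne_zero χ.2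
  have h1 : ∀ t : G, conj ((χ : G → ℂ) (g * t⁻¹)) = (χ : G → ℂ) (t * g⁻¹) := by
    intro t
    rw [← IsCharacter.inv_eq_conj hχc, mul_inv_rev, inv_inv]
  have htr := sum_classFunction_char_translate χ u hu g⁻¹
  have h2 : ∑ t, u t * ((Nat.card G : ℂ)⁻¹ * (w χ * ((χ : G → ℂ) 1 *
      conj ((χ : G → ℂ) (g * t⁻¹))))) =
      (Nat.card G : ℂ)⁻¹ * w χ * (χ : G → ℂ) 1 * ∑ t, u t * (χ : G → ℂ) (t * g⁻¹) := by
    rw [Finset.mul_sum]
    apply Finset.sum_congr rfl
    intro t _
    rw [h1]
    ring
  rw [h2, htr, Pi.mul_apply, IsCharacter.inv_eq_conj hχc]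
  unfold classVec
  have h3 : ∑ t, u t * ((χ : G → ℂ) t / (χ : G → ℂ) 1) =
      (∑ t, u t * (χ : G → ℂ) t) / (χ : G → ℂ) 1 := by
    rw [Finset.sum_div]
    apply Finset.sum_congr rfl
    intro t _
    ring
  rw [h3]
  field_simp

/-- **inversion** -/
theorem idemCoeff_classVec (u : G → ℂ) (hu : Cfsg.IsClassFunction G u) (g : G) :
    idemCoeff (classVec u) g = u g := by
  classical
  have h := idemCoeff_classVec_mul u hu 1 g
  rw [mul_one] at h
  rw [h]
  simp_rw [idemCoeff_one]
  rw [Finset.sum_eq_single g]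
  · rw [mul_inv_cancel, if_pos rfl, mul_one]
  · intro t _ htg
    rw [if_neg, mul_zero]
    intro h1
    apply htg
    rw [mul_inv_eq_one] at h1
    exact h1.symm
  · intro h1
    exact absurd (Finset.mem_univ g) h1

theorem isMultiplier_classVec (hM : M.IsMaximal) (u : G → ℂ) (hu : Cfsg.IsClassFunction G u)
    (hloc : ∀ t, Cfsg.MemLocalRing M (u t)) : IsMultiplier M (classVec u) := by
  intro w hw g
  rw [idemCoeff_classVec_mul u hu w g]
  apply MemLocalRing.sum hM
  intro t _
  exact MemLocalRing.mul hM (hloc t) (hw _)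

/-- **an idempotent modulo the local ideal with a coefficient outside the ideal has a central
character value outside the ideal** -/
theorem exists_classVec_not_mem (hM : M.IsMaximal) (u : G → ℂ) (hu : Cfsg.IsClassFunction G u)
    (hloc : ∀ t, Cfsg.MemLocalRing M (u t))
    (hidem : ∀ g, Cfsg.MemLocalIdeal M (∑ t, u t * u (g * t⁻¹) - u g))
    (g₀ : G) (hg₀ : ¬ Cfsg.MemLocalIdeal M (u g₀)) :
    ∃ χ : Cfsg.IrrCharacter G, ¬ Cfsg.MemLocalIdeal M (classVec u χ) := by
  classical
  by_contra hcon
  push Not at hcon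
  set v := classVec u with hv
  have hvm : IsMultiplier M v := isMultiplier_classVec hM u hu hloc
  have hnil := memLocalIdeal_idemCoeff_pow hM v hvm hcon
  have key : ∀ n : ℕ, ∀ g, Cfsg.MemLocalIdeal M (idemCoeff (v ^ (n + 1)) g - u g) := by
    intro n
    induction n with
    | zero =>
      intro g
      rw [zero_add, pow_one, hv, idemCoeff_classVec u hu g, sub_self]
      exact memLocalIdeal_zero hM
    | succ n ih =>
      intro g
      rw [pow_succ', hv, idemCoeff_classVec_mul u hu _ g, ← hv]
      have h1 : ∑ t, u t * idemCoeff (v ^ (n + 1)) (g * t⁻¹) - u g =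
          ∑ t, u t * (idemCoeff (v ^ (n + 1)) (g * t⁻¹) - u (g * t⁻¹)) +
            (∑ t, u t * u (g * t⁻¹) - u g) := by
        simp_rw [mul_sub]
        rw [Finset.sum_sub_distrib]
        ring
      rw [h1]
      apply MemLocalIdeal.add hM _ (hidem g)
      apply MemLocalIdeal.sum hM
      intro t _
      exact MemLocalIdeal.mul_left hM (hloc t) (ih _)
  have hcard : 0 < Fintype.card (Cfsg.IrrCharacter G) := by
    haveI : Nonempty (Cfsg.IrrCharacter G) := by
      by_contra hne
      rw [not_nonempty_iff] at hne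
      -- the identity coefficient of the unit vector would vanish
      have h1 := idemCoeff_one (G := G) (1 : G)
      rw [if_pos rfl] at h1
      unfold idemCoeff at h1
      rw [Finset.univ_eq_empty, Finset.sum_empty, mul_zero] at h1
      exact zero_ne_one h1
    exact Fintype.card_pos
  obtain ⟨n, hn⟩ : ∃ n, Fintype.card (Cfsg.IrrCharacter G) = n + 1 :=
    ⟨Fintype.card (Cfsg.IrrCharacter G) - 1, by omega⟩
  have h2 := key n g₀
  rw [← hn] at h2
  have h3 := MemLocalIdeal.sub hM (hnil g₀) h2
  rw [sub_sub_cancel] at h3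
  exact hg₀ h3

end Vec

end Cfsg.Agent.Helper6
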