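import Mathlib
import Cfsg.Prelude.Def_Characters
import Cfsg.Prelude.Def_Blocks
import Cfsg.Agent.Helper6.ClassVec
import Cfsg.Agent.Helper6.BrauerFunctional2
import Cfsg.Agent.Helper6.BlockEquiv

/-!
# The Brauer image of a block idempotent; blocks induced from `P C(P) ≤ H ≤ N(P)`
-/

set_option autoImplicit false
set_option linter.style.haveILetI false

namespace Cfsg.Agent.Helper6

open scoped ComplexConjugate

universe u

variable {G : Type u} [Group G] {M : Ideal Cfsg.AlgInt}

open Classical in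
/-- the block idempotent is an idempotent -/
theorem blockCoeff_conv [Fintype G] (A : Set (Cfsg.IrrCharacter G)) (g : G) :
    ∑ t, Cfsg.blockCoeff A t * Cfsg.blockCoeff A (g * t⁻¹) = Cfsg.blockCoeff A g := by
  haveI : Finite (Cfsg.IrrCharacter G) := irr_finite
  haveI : Fintype (Cfsg.IrrCharacter G) := Fintype.ofFinite _
  set iA : Cfsg.IrrCharacter G → ℂ := fun θ => if θ ∈ A then (1 : ℂ) else 0 with hiA
  have hcv : classVec (Cfsg.blockCoeff A) = iA := by
    funext θ
    unfold classVec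
    have hθ1 : (θ : G → ℂ) 1 ≠ 0 := IsIrrCharacter.apply_one_ne_zero θ.2
    have h1 : ∑ t, Cfsg.blockCoeff A t * ((θ : G → ℂ) t / (θ : G → ℂ) 1) =
        (∑ t, Cfsg.blockCoeff A t * (θ : G → ℂ) t) / (θ : G → ℂ) 1 := by
      rw [Finset.sum_div]
      apply Finset.sum_congr rfl
      intro t _
      ring
    rw [h1, sum_blockCoeff_mul]
    simp only [hiA]
    by_cases hθ : θ ∈ A
    · rw [if_pos hθ, if_pos hθ, div_self hθ1]
    · rw [if_neg hθ, if_neg hθ, zero_div]
  have hii : iA * iA = iA := by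
    funext θ
    simp only [hiA, Pi.mul_apply]
    by_cases hθ : θ ∈ A
    · rw [if_pos hθ, mul_one]
    · rw [if_neg hθ, mul_zero]
  have h := idemCoeff_classVec_mul (Cfsg.blockCoeff A) (blockCoeff_isClassFunction A) iA g
  rw [hcv, hii] at h
  have e : ∀ x, idemCoeff iA x = Cfsg.blockCoeff A x := fun x =>
    (blockCoeff_eq_idemCoeff A x).symm
  simp_rw [e] at h
  exact h.symm

open Classical in
/-- sums over the ambient group of functions supported on a subgroup -/
theorem sum_ite_mem_subgroup [Fintype G] (C H : Subgroup G) [Fintype H] (hCH : C ≤ H)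
    (F : G → ℂ) :
    ∑ t : G, (if t ∈ C then F t else 0) = ∑ t : H, if (t : G) ∈ C then F t else 0 := by
  have h1 : ∑ t : G, (if t ∈ C then F t else 0) =
      ∑ t ∈ (Finset.univ : Finset G).filter (· ∈ H), (if t ∈ C then F t else 0) := by
    rw [Finset.sum_filter]
    apply Finset.sum_congr rfl
    intro t _
    by_cases ht : t ∈ H
    · rw [if_pos ht]
    · rw [if_neg ht, if_neg (fun h' => ht (hCH h'))]
  rw [h1, Finset.sum_subtype ((Finset.univ : Finset G).filter (· ∈ H)) (p := (· ∈ H))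
    (fun x => by simp)]

/-- **a block with a nonvanishing idempotent coefficient in `C(P)` is a Brauer correspondent** -/
theorem exists_irr_brauer_block [Finite G] {p : ℕ} [hp : Fact p.Prime]
    (hM : Cfsg.IsPModular p M) (P H : Subgroup G) (hP : IsPGroup p P)
    (hCH : Subgroup.centralizer (P : Set G) ≤ H)
    (hHN : H ≤ Subgroup.normalizer (P : Set G)) (B : Set (Cfsg.IrrCharacter G))
    (hB : Cfsg.IsPBlock M B) (g₀ : G) (hg₀c : g₀ ∈ Subgroup.centralizer (P : Set G))
    (hg₀ : ¬ Cfsg.MemLocalIdeal M (Cfsg.blockCoeff B g₀)) :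
    ∃ ξ : Cfsg.IrrCharacter H, ∃ χ : Cfsg.IrrCharacter G, χ ∈ B ∧ ∀ g, Cfsg.MemLocalIdeal M
      (Cfsg.brauerCentralChar P H (ξ : H → ℂ) g - Cfsg.centralChar (χ : G → ℂ) g) := by
  classical
  haveI : Fintype G := Fintype.ofFinite G
  haveI : Fintype H := Fintype.ofFinite H
  haveI : Finite (Cfsg.IrrCharacter G) := irr_finite
  haveI : Fintype (Cfsg.IrrCharacter G) := Fintype.ofFinite _
  haveI : Finite (Cfsg.IrrCharacter H) := irr_finite
  haveI : Fintype (Cfsg.IrrCharacter H) := Fintype.ofFinite _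
  set f := Cfsg.blockCoeff B with hf
  have hfcf : Cfsg.IsClassFunction G f := blockCoeff_isClassFunction B
  have hfloc : ∀ g, Cfsg.MemLocalRing M (f g) := fun g => osima hM.2.1 B hB g
  set u : H → ℂ := fun t => if (t : G) ∈ Subgroup.centralizer (P : Set G) then f (t : G) else 0
    with hu
  have hucf : Cfsg.IsClassFunction H u := by
    intro s h
    simp only [hu]
    have e : ((h * s * h⁻¹ : H) : G) = (h : G) * (s : G) * (h : G)⁻¹ := rfl
    have hiff2 : ((h * s * h⁻¹ : H) : G) ∈ Subgroup.centralizer (P : Set G) ↔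
        (s : G) ∈ Subgroup.centralizer (P : Set G) := by
      rw [e]
      exact conj_mem_centralizer_iff_of_mem_normalizer P (hHN h.2) _
    by_cases hc : (s : G) ∈ Subgroup.centralizer (P : Set G)
    · rw [if_pos hc, if_pos (hiff2.mpr hc), e, hfcf]
    · rw [if_neg hc, if_neg (fun h' => hc (hiff2.mp h'))]
  have huloc : ∀ t, Cfsg.MemLocalRing M (u t) := by
    intro t
    simp only [hu]
    by_cases hc : (t : G) ∈ Subgroup.centralizer (P : Set G)
    · rw [if_pos hc]; exact hfloc _
    · rw [if_neg hc]; exact memLocalRing_zero hM.2.1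
  have huidem : ∀ g : H, Cfsg.MemLocalIdeal M (∑ t, u t * u (g * t⁻¹) - u g) := by
    intro g
    by_cases hgc : (g : G) ∈ Subgroup.centralizer (P : Set G)
    · -- the orbit congruence
      have h1 : ∑ t : H, u t * u (g * t⁻¹) =
          ∑ t : H, if (t : G) ∈ Subgroup.centralizer (P : Set G) then
            f (t : G) * f ((g : G) * (t : G)⁻¹) else 0 := by
        apply Finset.sum_congr rfl
        intro t _
        simp only [hu]
        by_cases hc : (t : G) ∈ Subgroup.centralizer (P : Set G)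
        · have hc2 : ((g * t⁻¹ : H) : G) ∈ Subgroup.centralizer (P : Set G) :=
            Subgroup.mul_mem _ hgc (Subgroup.inv_mem _ hc)
          rw [if_pos hc, if_pos hc2, if_pos hc]
          rfl
        · rw [if_neg hc, if_neg hc, zero_mul]
      rw [h1, ← sum_ite_mem_subgroup (Subgroup.centralizer (P : Set G)) H hCH
        (fun t => f t * f ((g : G) * t⁻¹)), ← Finset.sum_filter]
      have h2 : u g = ∑ t : G, f t * f ((g : G) * t⁻¹) := by
        simp only [hu]
        rw [if_pos hgc, hf, blockCoeff_conv]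
      rw [h2]
      have h3 := sum_sub_sum_centralizer_memLocalIdeal hM P hP (Finset.univ : Finset G)
        (fun x _ u _ => Finset.mem_univ _) (fun t => f t * f ((g : G) * t⁻¹))
        (by
          intro x _ v hv
          have hcomm : v * (g : G) = (g : G) * v := by
            rw [Subgroup.mem_centralizer_iff] at hgc
            exact hgc v hv
          have e : (g : G) * (v * x * v⁻¹)⁻¹ = v * ((g : G) * x⁻¹) * v⁻¹ := by
            calc (g : G) * (v * x * v⁻¹)⁻¹ = ((g : G) * v) * x⁻¹ * v⁻¹ := by group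
              _ = (v * (g : G)) * x⁻¹ * v⁻¹ := by rw [hcomm]
              _ = v * ((g : G) * x⁻¹) * v⁻¹ := by group
          show f (v * x * v⁻¹) * f ((g : G) * (v * x * v⁻¹)⁻¹) = f x * f ((g : G) * x⁻¹)
          rw [e, hfcf, hfcf])
        (fun x _ => MemLocalRing.mul hM.2.1 (hfloc _) (hfloc _))
      have h4 := MemLocalIdeal.neg h3
      rwa [neg_sub] at h4
    · have h1 : ∑ t : H, u t * u (g * t⁻¹) = 0 := by
        apply Finset.sum_eq_zero
        intro t _
        simp only [hu]
        by_cases hc : (t : G) ∈ Subgroup.centralizer (P : Set G)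
        · have hc2 : ((g * t⁻¹ : H) : G) ∉ Subgroup.centralizer (P : Set G) := by
            intro h'
            apply hgc
            have := Subgroup.mul_mem _ h' hc
            have e : ((g * t⁻¹ : H) : G) * (t : G) = (g : G) := by
              show (g : G) * (t : G)⁻¹ * (t : G) = (g : G)
              group
            rwa [e] at this
          rw [if_neg hc2, mul_zero]
        · rw [if_neg hc, zero_mul]
      have h2 : u g = 0 := by
        simp only [hu]
        rw [if_neg hgc]
      rw [h1, h2, sub_zero]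
      exact memLocalIdeal_zero hM.2.1
  have hug₀ : ¬ Cfsg.MemLocalIdeal M (u ⟨g₀, hCH hg₀c⟩) := by
    simp only [hu]
    rw [if_pos hg₀c]
    exact hg₀
  obtain ⟨ξ, hξ⟩ := exists_classVec_not_mem hM.2.1 u hucf huloc huidem ⟨g₀, hCH hg₀c⟩ hug₀
  obtain ⟨χ, hχ⟩ := exists_irr_brauerCentralChar hM P H hP hCH hHN ξ
  refine ⟨ξ, χ, ?_, hχ⟩
  by_contra hχB
  apply hξ
  set μ := brauerWeight P H (ξ : H → ℂ) with hμ
  have hχ1 : (χ : G → ℂ) 1 ≠ 0 := IsIrrCharacter.apply_one_ne_zero χ.2
  have e1 : classVec u ξ = ∑ t : G, f t * μ t := by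
    rw [hμ, sum_mul_brauerWeight]
    unfold classVec
    apply Finset.sum_congr rfl
    intro t _
    simp only [hu]
    by_cases hc : (t : G) ∈ Subgroup.centralizer (P : Set G)
    · rw [if_pos hc, if_pos hc]
    · rw [if_neg hc, if_neg hc, zero_mul]
  have e2 : ∑ t : G, f t * ((χ : G → ℂ) t / (χ : G → ℂ) 1) = 0 := by
    have h1 : ∑ t : G, f t * ((χ : G → ℂ) t / (χ : G → ℂ) 1) =
        (∑ t, f t * (χ : G → ℂ) t) / (χ : G → ℂ) 1 := by
      rw [Finset.sum_div]
      apply Finset.sum_congr rfl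
      intro t _
      ring
    rw [h1, hf, sum_blockCoeff_mul, if_neg hχB, zero_div]
  have e3 : classVec u ξ = ∑ t ∈ (Finset.univ : Finset G),
      f t * (μ t - (χ : G → ℂ) t / (χ : G → ℂ) 1) := by
    simp_rw [mul_sub]
    rw [Finset.sum_sub_distrib, e2, sub_zero, e1]
  rw [e3]
  apply sum_mem_of_class_sums (fun z => Cfsg.MemLocalIdeal M z) (memLocalIdeal_zero hM.2.1)
    (fun x y hx hy => MemLocalIdeal.add hM.2.1 hx hy) _ _ _ Finset.univ rfl
    (fun g _ x => Finset.mem_univ _)
  intro g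
  have h1 : ∑ x ∈ classFinset g, f x * (μ x - (χ : G → ℂ) x / (χ : G → ℂ) 1) =
      f g * (Cfsg.brauerCentralChar P H (ξ : H → ℂ) g - Cfsg.centralChar (χ : G → ℂ) g) := by
    have h2 : ∀ x ∈ classFinset g, f x * (μ x - (χ : G → ℂ) x / (χ : G → ℂ) 1) =
        f g * (μ x - (χ : G → ℂ) x / (χ : G → ℂ) 1) := by
      intro x hx
      rw [mem_classFinset] at hx
      obtain ⟨a, ha⟩ := isConj_iff.mp hx
      rw [← ha, hfcf]
    rw [Finset.sum_congr rfl h2, ← Finset.mul_sum, Finset.sum_sub_distrib, ← Finset.sum_div,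
      sum_classFinset_char, hμ, sum_classFinset_brauerWeight]
    unfold Cfsg.centralChar
    rfl
  rw [h1]
  exact MemLocalIdeal.mul_left hM.2.1 (hfloc g) (hχ g)

/-- the Brauer congruence gives an induced block -/
theorem isInducedBlock_of_brauer [Finite G] {p : ℕ} (hM : Cfsg.IsPModular p M)
    (P H : Subgroup G) (hP : IsPGroup p P) (hPH : P ≤ H)
    (hHN : H ≤ Subgroup.normalizer (P : Set G)) (ξ₀ : Cfsg.IrrCharacter H)
    (χ₀ : Cfsg.IrrCharacter G)
    (h : ∀ g, Cfsg.MemLocalIdeal M
      (Cfsg.brauerCentralChar P H (ξ₀ : H → ℂ) g - Cfsg.centralChar (χ₀ : G → ℂ) g)) :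
    Cfsg.IsInducedBlock M H (Cfsg.blockOf M (ξ₀ : H → ℂ)) (Cfsg.blockOf M (χ₀ : G → ℂ)) := by
  refine ⟨⟨ξ₀, rfl⟩, ⟨χ₀, rfl⟩, fun ξ hξ χ hχ g => ?_⟩
  have h1 := inducedCentralChar_sub_of_sameBlock hM.2.1 H ξ₀ ξ hξ g
  have h2 := inducedCentralChar_sub_brauerCentralChar hM P H hP hPH hHN ξ₀ g
  have h3 := h g
  have h4 := hχ g
  have := MemLocalIdeal.add hM.2.1 (MemLocalIdeal.add hM.2.1
    (MemLocalIdeal.sub hM.2.1 h2 h1) h3) h4
  convert this using 1
  ring

/-- a normal `p`-subgroup lies in every defect group of every block -/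
theorem normal_pSubgroup_le_defectGroup [Finite G] {p : ℕ} [Fact p.Prime]
    (hM : Cfsg.IsPModular p M) (Q : Subgroup G) [hQn : Q.Normal] (hQ : IsPGroup p Q)
    (B : Set (Cfsg.IrrCharacter G)) (hB : Cfsg.IsPBlock M B) (D : Subgroup G)
    (hD : Cfsg.IsDefectGroup p M B D) : Q ≤ D := by
  classical
  obtain ⟨g, hdc, S, rfl⟩ := hD
  obtain ⟨χ0, rfl⟩ := hB
  have hχ0 := mem_blockOf_self hM.2.1 χ0
  have hnot := hdc.2.2 χ0 hχ0
  have hgc : g ∈ Subgroup.centralizer ((Q : Subgroup G) : Set G) := by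
    by_contra hcon
    exact hnot (centralChar_memLocalIdeal_of_not_mem_centralizer hM Q hQ χ0 g hcon)
  have hle : Q ≤ Subgroup.centralizer ({g} : Set G) := by
    intro u hu
    rw [Subgroup.mem_centralizer_iff]
    intro h hh
    rw [Set.mem_singleton_iff] at hh
    subst hh
    exact (Subgroup.mem_centralizer_iff.mp hgc u hu).symm
  have hQ' : IsPGroup p (Q.subgroupOf (Subgroup.centralizer ({g} : Set G))) :=
    hQ.comap_subtype
  have hle2 := hQ'.le_sylow_of_normal S
  intro u hu
  rw [Subgroup.mem_map]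
  exact ⟨⟨u, hle hu⟩, hle2 (by rw [Subgroup.mem_subgroupOf]; exact hu), rfl⟩

end Cfsg.Agent.Helper6
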