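import Mathlib
import Cfsg.Prelude.Def_Characters
import Cfsg.Agent.Helper6.CenterDvd

/-!
# The degree divides the index of any subgroup acting by scalars
-/

set_option autoImplicit false
set_option linter.style.haveILetI false

namespace Cfsg.Agent.Helper6

open Module Representation
open scoped ComplexConjugate

universe u v

variable {G : Type u} [Group G]

/-- The degree of an irreducible representation divides the index of any subgroup acting by
scalars. -/
theorem finrank_dvd_index_of_scalar [Finite G] {V : Type v} [AddCommGroup V] [Module ℂ V]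
    [FiniteDimensional ℂ V] (ρ : Representation ℂ G V) [hirr : ρ.IsIrreducible]
    (Z : Subgroup G) (hZs : ∀ z ∈ Z, ∃ l : ℂ, ρ z = l • (LinearMap.id : V →ₗ[ℂ] V)) :
    finrank ℂ V ∣ Z.index := by
  classical
  haveI := Fintype.ofFinite G
  haveI : Nontrivial V := irr_nontrivial ρ
  have hd : finrank ℂ V ≠ 0 := Module.finrank_pos.ne'
  have hdC : (finrank ℂ V : ℂ) ≠ 0 := by exact_mod_cast hd
  -- central elements act by scalars of absolute value one
  have hscalar : ∀ z : Z, ∃ l : ℂ, ρ (z : G) = l • (LinearMap.id : V →ₗ[ℂ] V) ∧ conj l * l = 1 := by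
    intro z
    obtain ⟨l, hl⟩ := hZs z z.2
    refine ⟨l, hl, ?_⟩
    have hpow : (ρ (z : G)) ^ (Nat.card G) = 1 := by
      rw [← map_pow, pow_card_eq_one', map_one]
    rw [hl] at hpow
    have hl1 : l ^ (Nat.card G) = 1 := by
      have h1 : (l • (LinearMap.id : V →ₗ[ℂ] V)) ^ (Nat.card G) =
          (l ^ (Nat.card G)) • (LinearMap.id : V →ₗ[ℂ] V) := by
        rw [smul_pow]
        congr 1
        exact one_pow _
      rw [h1] at hpow
      obtain ⟨v, hv⟩ := exists_ne (0 : V)
      have h2 := congrArg (fun f : V →ₗ[ℂ] V => f v) hpow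
      simp only [LinearMap.smul_apply, LinearMap.id_coe, id_eq, Module.End.one_apply] at h2
      have h3 : (l ^ (Nat.card G) - 1) • v = 0 := by rw [sub_smul, h2, one_smul, sub_self]
      rcases smul_eq_zero.mp h3 with h4 | h4
      · exact sub_eq_zero.mp h4
      · exact absurd h4 hv
    have hnorm : ‖l‖ = 1 := by
      have hcard : Nat.card G ≠ 0 := Nat.card_pos.ne'
      exact Complex.norm_eq_one_of_pow_eq_one hl1 hcard
    rw [mul_comm, Complex.mul_conj, Complex.normSq_eq_norm_sq, hnorm]
    simp
  choose l hl hl1 using hscalar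
  -- F is constant on cosets of the centre
  have hF : ∀ (g : G) (z : Z), conj (ρ.character (g * z)) • ρ (g * z) =
      conj (ρ.character g) • ρ g := by
    intro g z
    have h1 : ρ (g * (z : G)) = l z • ρ g := by
      rw [map_mul, hl z]
      ext v
      simp
    have h2 : ρ.character (g * z) = l z * ρ.character g := by
      unfold Representation.character
      rw [h1, map_smul, smul_eq_mul]
    rw [h2, h1, map_mul, smul_smul]
    congr 1
    rw [mul_comm (conj (l z)), mul_assoc, hl1 z, mul_one]
  -- the sum over all of G equals |Z| times the sum over representatives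
  have hsum : ∑ g : G, conj (ρ.character g) • ρ g =
      (Nat.card Z : ℂ) • ∑ q : G ⧸ Z, conj (ρ.character q.out) • ρ q.out := by
    rw [← Equiv.sum_comp (quotProdEquiv Z), Fintype.sum_prod_type]
    have : ∀ q : G ⧸ Z, ∑ z : Z, conj (ρ.character (quotProdEquiv Z (q, z))) •
        ρ (quotProdEquiv Z (q, z)) = (Nat.card Z : ℂ) • (conj (ρ.character q.out) • ρ q.out) := by
      intro q
      have : ∀ z : Z, conj (ρ.character (quotProdEquiv Z (q, z))) • ρ (quotProdEquiv Z (q, z)) =
          conj (ρ.character q.out) • ρ q.out := fun z => hF q.out z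
      simp_rw [this]
      rw [Finset.sum_const, Finset.card_univ, ← Nat.card_eq_fintype_card, Nat.cast_smul_eq_nsmul]
    simp_rw [this]
    rw [Finset.smul_sum]
  rw [sum_conj_char_smul_rep] at hsum
  -- integrality of the sum over representatives
  have hint : IsIntegral ℤ (∑ q : G ⧸ Z, conj (ρ.character q.out) • ρ q.out) := by
    have h1 := isIntegral_sum_smul_rep ρ
      ((Finset.univ : Finset (G ⧸ Z)).image (fun q => q.out))
      (fun g => conj (ρ.character g)) (fun g => conj_char_isIntegral ρ g)
    rw [Finset.sum_image] at h1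
    · exact h1
    · intro a _ b _ hab
      have := congrArg (fun x : G => (x : G ⧸ Z)) hab
      simpa using this
  have hZ0 : (Nat.card Z : ℂ) ≠ 0 := by
    have : 0 < Nat.card Z := Nat.card_pos
    exact_mod_cast this.ne'
  have hval : ∑ q : G ⧸ Z, conj (ρ.character q.out) • ρ q.out =
      ((Z.index : ℂ) / (finrank ℂ V : ℂ)) • (LinearMap.id : V →ₗ[ℂ] V) := by
    have h2 : (Nat.card Z : ℂ)⁻¹ • ((Nat.card G : ℂ) / (finrank ℂ V : ℂ)) •
        (LinearMap.id : V →ₗ[ℂ] V) = ∑ q : G ⧸ Z, conj (ρ.character q.out) • ρ q.out := by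
      rw [hsum, smul_smul, inv_mul_cancel₀ hZ0, one_smul]
    rw [← h2, smul_smul]
    congr 1
    rw [← Z.index_mul_card]
    push_cast
    field_simp
  rw [hval] at hint
  have hint2 := isIntegral_of_smul_id _ hint
  apply nat_dvd_of_isIntegral Z.index (finrank ℂ V) hd _ hint2
  field_simp

end Cfsg.Agent.Helper6
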