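import Mathlib
import Cfsg.Prelude.Def_Characters
import Cfsg.Agent.Helper6.ScalarDvd
import Cfsg.Agent.Helper6.CliffordCorr
import Cfsg.Agent.Helper6.Linear

/-!
# Itô's theorem
-/

set_option autoImplicit false
set_option linter.style.haveILetI false

namespace Cfsg.Agent.Helper6

open Module Representation
open scoped ComplexConjugate

universe u v

variable {G : Type u} [Group G]

/-- Itô's theorem: the degree of an irreducible representation divides the index of any abelian
normal subgroup. -/
theorem ito [Finite G] {V : Type v} [AddCommGroup V] [Module ℂ V] [FiniteDimensional ℂ V]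
    (ρ : Representation ℂ G V) [hirr : ρ.IsIrreducible] (H : Subgroup G) [hN : H.Normal]
    (hH : ∀ a ∈ H, ∀ b ∈ H, a * b = b * a) : finrank ℂ V ∣ H.index := by
  classical
  haveI := Fintype.ofFinite G
  haveI : Fintype H := Fintype.ofFinite H
  haveI : Nontrivial V := irr_nontrivial ρ
  have hd : finrank ℂ V ≠ 0 := Module.finrank_pos.ne'
  have hχ : Cfsg.IsIrrCharacter G ρ.character := isIrrCharacter_of_rep ρ hirr
  have hχchar := IsIrrCharacter.isCharacter hχ
  have hres : Cfsg.IsCharacter H (fun n : H => ρ.character n) := IsCharacter.restrict H hχchar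
  have hres0 : (fun n : H => ρ.character n) ≠ 0 := by
    intro h
    have := congrFun h 1
    simp only [OneMemClass.coe_one, Pi.zero_apply] at this
    rw [Representation.char_one] at this
    exact hd (by exact_mod_cast this)
  obtain ⟨lam, hlam, hne⟩ := exists_irr_constituent hres hres0
  have hlam1 : lam 1 = 1 := by
    have hcomm : ∀ a b : H, a * b = b * a := by
      intro a b
      apply Subtype.ext
      exact hH a a.2 b b.2
    exact (comm_iff_forall_irr_degree_one.mp hcomm) ⟨lam, hlam⟩
  obtain ⟨μ, hμ⟩ := exists_hom_of_irr_degree_one hlam hlam1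
  have hlamcf := IsCharacter.isClassFunction (IsIrrCharacter.isCharacter hlam)
  -- the inertia group
  let T := conjStab H lam
  haveI : Fintype T := Fintype.ofFinite T
  have hT : ∀ g : G, g ∈ T ↔ ∀ n : H, lam ⟨g * n * g⁻¹, hN.conj_mem (n : G) n.2 g⟩ = lam n := by
    intro g
    rw [mem_conjStab]
    constructor
    · intro h n
      exact congrFun h n
    · intro h
      funext n
      exact h n
  have hHT : H ≤ T := by
    intro h hh
    rw [hT]
    intro n
    exact hlamcf n ⟨h, hh⟩
  obtain ⟨ψ, hψ, hind, hf⟩ := clifford_correspondence H lam hlam T hT hHT ρ.character hχ hne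
  have hcl := clifford_of_invariant H T hHT lam hlam (fun t ht => (mem_conjStab H lam t).mp ht)
    ψ hψ (by rw [hf]; exact hne)
  obtain ⟨m, σ, hσirr, hσ⟩ := hψ
  haveI := hσirr
  have hψ1 : ψ 1 = (m : ℂ) := by
    rw [← hσ, Representation.char_one]
    simp
  -- the coefficient equals m
  have hfm : Cfsg.classInner (fun n : H => ψ ⟨(n : G), hHT n.2⟩) lam = (m : ℂ) := by
    have := congrFun hcl 1
    rw [Pi.smul_apply, smul_eq_mul, hlam1, mul_one] at this
    rw [← this]
    exact hψ1
  rw [hfm] at hcl
  -- H acts by scalars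
  have hscalar : ∀ z ∈ H.subgroupOf T, ∃ l : ℂ, σ z = l • (LinearMap.id : (Fin m → ℂ) →ₗ[ℂ] _) := by
    intro z hz
    apply (norm_char_eq_iff σ z).mp
    have hval : σ.character z = (m : ℂ) * lam ⟨(z : G), hz⟩ := by
      rw [hσ]
      have := congrFun hcl ⟨(z : G), hz⟩
      rw [Pi.smul_apply, smul_eq_mul] at this
      exact this
    rw [hval, norm_mul, Complex.norm_natCast, hμ]
    have hnorm : ‖((μ ⟨(z : G), hz⟩ : ℂˣ) : ℂ)‖ = 1 := by
      have hpow : ((μ ⟨(z : G), hz⟩ : ℂˣ) : ℂ) ^ (Nat.card H) = 1 := by
        rw [← Units.val_pow_eq_pow_val, ← map_pow, pow_card_eq_one', map_one, Units.val_one]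
      exact Complex.norm_eq_one_of_pow_eq_one hpow Nat.card_pos.ne'
    rw [hnorm, mul_one]
    simp
  have hdvd := finrank_dvd_index_of_scalar σ (H.subgroupOf T) hscalar
  have hfin : finrank ℂ (Fin m → ℂ) = m := by simp
  rw [hfin] at hdvd
  -- degrees
  have hdeg : (finrank ℂ V : ℂ) = (T.index : ℂ) * (m : ℂ) := by
    rw [← Representation.char_one ρ, ← hind, indFun_apply_one, hψ1]
  have hdeg' : finrank ℂ V = T.index * m := by exact_mod_cast hdeg
  rw [hdeg', ← Subgroup.relIndex_mul_index hHT, mul_comm]
  exact Nat.mul_dvd_mul_right hdvd _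

end Cfsg.Agent.Helper6
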