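import Mathlib
import Cfsg.Prelude.Def_Characters
import Cfsg.Prelude.Def_Blocks
import Cfsg.Agent.Helper6.GaloisChar
import Cfsg.Agent.Helper6.ColumnOrth
import Cfsg.Agent.Helper6.Ito
import Cfsg.Agent.Helper6.Linear
import Cfsg.Agent.Helper6.Codegree
import Cfsg.Agent.S4558

/-!
# Class number bound for groups with a self-centralizing abelian normal Sylow subgroup
-/

set_option autoImplicit false
set_option linter.style.haveILetI false

namespace Cfsg.Agent.Helper6

open Module Representation ComplexConjugate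
open scoped commutatorElement

universe u v

variable {G : Type u} [Group G]

/-- Inflation of an irreducible representation along a surjective homomorphism is irreducible. -/
theorem isIrreducible_comp_surjective {Q : Type u} [Group Q] {V : Type v} [AddCommGroup V]
    [Module ℂ V] (σ : Representation ℂ Q V) [hirr : σ.IsIrreducible] (f : G →* Q)
    (hf : Function.Surjective f) :
    Representation.IsIrreducible (σ.comp f : Representation ℂ G V) := by
  haveI : Nontrivial V := irr_nontrivial σ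
  refine { exists_pair_ne := ⟨⊥, ⊤, ?_⟩, eq_bot_or_eq_top := ?_ }
  · intro hbt
    have h1 : (⊥ : Submodule ℂ V) = ⊤ := congrArg Subrepresentation.toSubmodule hbt
    exact bot_ne_top h1
  · intro τ
    let τ' : Subrepresentation σ :=
      ⟨τ.toSubmodule, fun q v hv => by
        obtain ⟨g, rfl⟩ := hf q
        exact τ.apply_mem_toSubmodule g hv⟩
    rcases hirr.eq_bot_or_eq_top τ' with h | h
    · left
      apply Subrepresentation.toSubmodule_injective
      have h2 : τ'.toSubmodule = (⊥ : Subrepresentation σ).toSubmodule :=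
        congrArg Subrepresentation.toSubmodule h
      exact h2
    · right
      apply Subrepresentation.toSubmodule_injective
      have h2 : τ'.toSubmodule = (⊤ : Subrepresentation σ).toSubmodule :=
        congrArg Subrepresentation.toSubmodule h
      exact h2


theorem class_bound_of_self_centralizing [Finite G] (p : ℕ) [Fact p.Prime] (P : Sylow p G)
    [hPn : (P : Subgroup G).Normal] (hab : ∀ a ∈ P, ∀ b ∈ P, a * b = b * a) (g : G) (hg : g ∈ P)
    (hC : Subgroup.centralizer ({g} : Set G) = P) :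
    Nat.card (Cfsg.IrrCharacter G) ≤ Nat.card P ∧
      (Nat.card (Cfsg.IrrCharacter G) = Nat.card P → commutator G ≤ P) := by
  classical
  haveI := Fintype.ofFinite G
  haveI : Finite (Cfsg.IrrCharacter G) := irr_finite
  haveI : Fintype (Cfsg.IrrCharacter G) := Fintype.ofFinite _
  haveI : NeZero (Nat.card G) := ⟨Nat.card_pos.ne'⟩
  set n := Nat.card G with hn
  -- nonvanishing at g
  have hnz : ∀ χ : Cfsg.IrrCharacter G, (χ : G → ℂ) g ≠ 0 := by
    intro χ h0
    obtain ⟨m, ρ, hirr, hρ⟩ := χ.2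
    have hpg : ∃ j : ℕ, orderOf g = p ^ j := by
      obtain ⟨j, hj⟩ := (IsPGroup.iff_orderOf.mp P.2) ⟨g, hg⟩
      refine ⟨j, ?_⟩
      rw [← hj]
      exact (Subgroup.orderOf_mk g hg).symm
    have h1 := Cfsg.Agent.S4558.result p (χ : G → ℂ) (IsIrrCharacter.isCharacter χ.2) g hpg h0
    have h2 : Cfsg.charDegree (χ : G → ℂ) = m := by rw [← hρ, charDegree_rep]
    have h3 : m ∣ (P : Subgroup G).index := by
      have := ito ρ (P : Subgroup G) hab
      simpa using this
    rw [h2] at h1
    exact P.not_dvd_index (h1.trans h3)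
  -- AM-GM
  have hamgm : ∀ χ : Cfsg.IrrCharacter G, (Fintype.card (ZMod n)ˣ : ℝ) ≤
      ∑ k : (ZMod n)ˣ, ‖(χ : G → ℂ) (g ^ (k : ZMod n).val)‖ ^ 2 := by
    intro χ
    obtain ⟨m, ρ, hirr, hρ⟩ := χ.2
    obtain ⟨-, -, -, hD⟩ := char_galois_facts ρ g n pow_card_eq_one'
    rw [hρ] at hD
    exact hD (hnz χ)
  -- column sums
  have hcol : ∀ h : G, ∑ χ : Cfsg.IrrCharacter G, ‖(χ : G → ℂ) h‖ ^ 2 =
      (Nat.card (Subgroup.centralizer ({h} : Set G)) : ℝ) := by
    intro h
    have hco := column_orthogonality_aux h h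
    rw [if_pos (IsConj.refl h)] at hco
    have h2 : ((∑ χ : Cfsg.IrrCharacter G, ‖(χ : G → ℂ) h‖ ^ 2 : ℝ) : ℂ) =
        ((Nat.card (Subgroup.centralizer ({h} : Set G)) : ℝ) : ℂ) := by
      push_cast
      rw [← hco]
      apply Finset.sum_congr rfl
      intro χ _
      rw [Complex.mul_conj, Complex.normSq_eq_norm_sq]
      push_cast
      rfl
    exact Complex.ofReal_injective h2
  -- centralizers of coprime powers
  have hcent : ∀ k : (ZMod n)ˣ, Subgroup.centralizer ({g ^ (k : ZMod n).val} : Set G) =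
      Subgroup.centralizer ({g} : Set G) := by
    intro k
    have hcop : Nat.Coprime (k : ZMod n).val n := ZMod.val_coe_unit_coprime k
    obtain ⟨j, hj⟩ := exists_pow_pow_eq g _ hcop
    ext x
    simp only [Subgroup.mem_centralizer_iff, Set.mem_singleton_iff, forall_eq]
    constructor
    · intro h
      have h1 : Commute (g ^ (k : ZMod n).val) x := h
      have h2 := h1.pow_left j
      rw [hj] at h2
      exact h2
    · intro h
      have h1 : Commute g x := h
      exact h1.pow_left _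
  have hφpos : (0 : ℝ) < (Fintype.card (ZMod n)ˣ : ℝ) := by
    have : 0 < Fintype.card (ZMod n)ˣ := Fintype.card_pos
    exact_mod_cast this
  have hdouble : ∑ χ : Cfsg.IrrCharacter G, ∑ k : (ZMod n)ˣ,
      ‖(χ : G → ℂ) (g ^ (k : ZMod n).val)‖ ^ 2 =
      (Fintype.card (ZMod n)ˣ : ℝ) * (Nat.card (P : Subgroup G) : ℝ) := by
    rw [Finset.sum_comm]
    simp only [hcol, hcent, hC]
    rw [Finset.sum_const, Finset.card_univ, nsmul_eq_mul]
  have hle : (Fintype.card (ZMod n)ˣ : ℝ) * (Nat.card (Cfsg.IrrCharacter G) : ℝ) ≤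
      (Fintype.card (ZMod n)ˣ : ℝ) * (Nat.card (P : Subgroup G) : ℝ) := by
    rw [← hdouble, Nat.card_eq_fintype_card, mul_comm, ← nsmul_eq_mul, ← Finset.card_univ,
      ← Finset.sum_const]
    exact Finset.sum_le_sum (fun χ _ => hamgm χ)
  have hbound : Nat.card (Cfsg.IrrCharacter G) ≤ Nat.card (P : Subgroup G) := by
    have := le_of_mul_le_mul_left hle hφpos
    exact_mod_cast this
  refine ⟨hbound, ?_⟩
  intro heq
  -- equality case
  have heach : ∀ χ : Cfsg.IrrCharacter G, ∑ k : (ZMod n)ˣ,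
      ‖(χ : G → ℂ) (g ^ (k : ZMod n).val)‖ ^ 2 = (Fintype.card (ZMod n)ˣ : ℝ) := by
    have hz : ∑ χ : Cfsg.IrrCharacter G, ((∑ k : (ZMod n)ˣ,
        ‖(χ : G → ℂ) (g ^ (k : ZMod n).val)‖ ^ 2) - (Fintype.card (ZMod n)ˣ : ℝ)) = 0 := by
      rw [Finset.sum_sub_distrib, hdouble, Finset.sum_const, Finset.card_univ, nsmul_eq_mul,
        ← Nat.card_eq_fintype_card (α := Cfsg.IrrCharacter G), heq]
      ring
    have := (Finset.sum_eq_zero_iff_of_nonneg (fun χ _ => sub_nonneg.mpr (hamgm χ))).mp hz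
    intro χ
    have h1 := this χ (Finset.mem_univ _)
    linarith
  have hlin : ∀ χ : Cfsg.IrrCharacter G, (∀ x ∈ (P : Subgroup G), (χ : G → ℂ) x = (χ : G → ℂ) 1) →
      (χ : G → ℂ) 1 = 1 := by
    intro χ hχ
    have h1 := heach χ
    have h2 : ∀ k : (ZMod n)ˣ, ‖(χ : G → ℂ) (g ^ (k : ZMod n).val)‖ ^ 2 = ‖(χ : G → ℂ) 1‖ ^ 2 := by
      intro k
      rw [hχ _ ((P : Subgroup G).pow_mem hg _)]
    simp only [h2, Finset.sum_const, Finset.card_univ, nsmul_eq_mul] at h1
    have h3 : ‖(χ : G → ℂ) 1‖ ^ 2 = 1 := by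
      apply mul_left_cancel₀ hφpos.ne'
      rw [mul_one]
      exact h1
    obtain ⟨d, hd0, hd⟩ := IsIrrCharacter.apply_one_pos χ.2
    rw [hd] at h3 ⊢
    simp only [Complex.norm_natCast] at h3
    have h4 : (d : ℝ) = 1 := by
      have hd' : (0 : ℝ) ≤ d := Nat.cast_nonneg d
      nlinarith
    have : d = 1 := by exact_mod_cast h4
    rw [this, Nat.cast_one]
  -- the quotient is abelian
  have habQ : ∀ a b : G ⧸ (P : Subgroup G), a * b = b * a := by
    rw [comm_iff_forall_irr_degree_one]
    intro χ'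
    obtain ⟨m, σ, hirr, hσ⟩ := χ'.2
    haveI := isIrreducible_comp_surjective σ (QuotientGroup.mk' (P : Subgroup G))
      (QuotientGroup.mk'_surjective _)
    set τ : Representation ℂ G (Fin m → ℂ) := σ.comp (QuotientGroup.mk' (P : Subgroup G)) with hτ
    have hχ : Cfsg.IsIrrCharacter G τ.character := isIrrCharacter_of_rep _ inferInstance
    have hval : ∀ x : G, τ.character x = (χ' : G ⧸ (P : Subgroup G) → ℂ) (x : G ⧸ _) := by
      intro x
      rw [← hσ]
      rfl
    have h1 := hlin ⟨_, hχ⟩ (by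
      intro x hx
      simp only
      rw [hval, hval, QuotientGroup.mk_one, (QuotientGroup.eq_one_iff x).mpr hx])
    simp only at h1
    rw [hval] at h1
    exact h1
  rw [commutator_eq_closure, Subgroup.closure_le]
  rintro x ⟨a, b, rfl⟩
  change ⁅a, b⁆ ∈ (P : Subgroup G)
  rw [← QuotientGroup.eq_one_iff, commutatorElement_def]
  simp only [QuotientGroup.mk_mul, QuotientGroup.mk_inv]
  rw [habQ (a : G ⧸ (P : Subgroup G)) b]
  group

end Cfsg.Agent.Helper6
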