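import Mathlib
import Cfsg.Prelude.Def_Characters
import Cfsg.Prelude.Def_Blocks
import Cfsg.Agent.Helper6.SylowClassBound
import Cfsg.Agent.Helper6.QuotientRep
import Cfsg.Agent.Helper6.RepEigen
import Cfsg.Agent.Helper6.KernelSet
import Cfsg.Agent.Helper6.BlockEquiv

/-!
# Inflation and deflation of irreducible characters; blocks of quotients by `p'`-subgroups
-/

set_option autoImplicit false
set_option linter.style.haveILetI false

namespace Cfsg.Agent.Helper6

open Module Representation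
open scoped ComplexConjugate

universe u

variable {G : Type u} [Group G] {M : Ideal Cfsg.AlgInt}

/-- The inflation of an irreducible character of a quotient is irreducible. -/
theorem isIrrCharacter_inflate (N : Subgroup G) [hN : N.Normal] (χ : Cfsg.IrrCharacter (G ⧸ N)) :
    Cfsg.IsIrrCharacter G ((χ : G ⧸ N → ℂ) ∘ QuotientGroup.mk) := by
  obtain ⟨n, σ, hirr, hσ⟩ := χ.2
  haveI := hirr
  refine ⟨n, σ.comp (QuotientGroup.mk' N), ?_, ?_⟩
  · exact isIrreducible_comp_surjective σ (QuotientGroup.mk' N) (QuotientGroup.mk'_surjective N)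
  · funext g
    rw [← hσ]
    rfl

/-- An irreducible character with `N` in its kernel is inflated from the quotient. -/
theorem exists_deflate [Finite G] (N : Subgroup G) [hN : N.Normal] (ψ : Cfsg.IrrCharacter G)
    (hker : ∀ n ∈ N, (ψ : G → ℂ) n = (ψ : G → ℂ) 1) :
    ∃ ψ' : Cfsg.IrrCharacter (G ⧸ N), (ψ : G → ℂ) = (ψ' : G ⧸ N → ℂ) ∘ QuotientGroup.mk := by
  obtain ⟨n, ρ, hirr, hρ⟩ := ψ.2
  haveI := hirr
  have hρN : ∀ x ∈ N, ρ x = 1 := by
    intro x hx
    have h1 : ρ.character x = (finrank ℂ (Fin n → ℂ) : ℂ) := by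
      rw [hρ, hker x hx, ← hρ, Representation.char_one]
    exact (char_eq_finrank_iff ρ x).mp h1
  haveI := quotientRep_isIrreducible ρ N hρN
  refine ⟨⟨(quotientRep ρ N hρN).character, n, quotientRep ρ N hρN, inferInstance, rfl⟩, ?_⟩
  funext g
  rw [← hρ]
  rfl

/-- Over a normal `p'`-subgroup, the blocks of the quotient are whole blocks of the group. -/
theorem quotient_block [Finite G] (hM : M.IsMaximal) (p : ℕ) (hp : p.Prime)
    (hpM : (p : Cfsg.AlgInt) ∈ M) (N : Subgroup G) [hN : N.Normal] (hpN : ¬ p ∣ Nat.card N)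
    (χ : Cfsg.IrrCharacter (G ⧸ N)) (ψ : Cfsg.IrrCharacter G)
    (hψ : ψ ∈ Cfsg.blockOf M ((χ : G ⧸ N → ℂ) ∘ QuotientGroup.mk)) :
    ∃ ψ' : Cfsg.IrrCharacter (G ⧸ N), (ψ : G → ℂ) = (ψ' : G ⧸ N → ℂ) ∘ QuotientGroup.mk ∧
      Cfsg.SameBlock M (χ : G ⧸ N → ℂ) (ψ' : G ⧸ N → ℂ) := by
  classical
  haveI := Fintype.ofFinite G
  have hinvN : Cfsg.MemLocalRing M ((Nat.card N : ℂ)⁻¹) := by
    have hnot : (Nat.card N : Cfsg.AlgInt) ∉ M := natCast_not_mem_of_not_dvd hM hp hpM hpN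
    refine ⟨1, (Nat.card N : Cfsg.AlgInt), hnot, ?_⟩
    simp
  set χt : Cfsg.IrrCharacter G :=
    ⟨(χ : G ⧸ N → ℂ) ∘ QuotientGroup.mk, isIrrCharacter_inflate N χ⟩ with hχt
  set A : Set (Cfsg.IrrCharacter G) :=
    {φ : Cfsg.IrrCharacter G | ∀ n ∈ N, (φ : G → ℂ) n = (φ : G → ℂ) 1} with hA
  have hAS : ∀ g : G, Cfsg.MemLocalRing M (Cfsg.blockCoeff A g) := by
    intro g
    rw [hA, blockCoeff_kernelSet N g]
    by_cases hg : g ∈ N
    · rw [if_pos hg]; exact hinvN
    · rw [if_neg hg]; exact memLocalRing_zero hM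
  have hχtA : χt ∈ A := by
    intro n hn
    change (χ : G ⧸ N → ℂ) (QuotientGroup.mk n) = (χ : G ⧸ N → ℂ) (QuotientGroup.mk 1)
    rw [(QuotientGroup.eq_one_iff n).mpr hn, QuotientGroup.mk_one]
  have hsub := block_subset_of_local M hM A hAS χt hχtA
  have hψA : ψ ∈ A := hsub hψ
  obtain ⟨ψ', hψ'⟩ := exists_deflate N ψ hψA
  refine ⟨ψ', hψ', ?_⟩
  intro q
  have hχ1 : (χ : G ⧸ N → ℂ) 1 ≠ 0 := IsIrrCharacter.apply_one_ne_zero χ.2
  have hψ1 : (ψ' : G ⧸ N → ℂ) 1 ≠ 0 := IsIrrCharacter.apply_one_ne_zero ψ'.2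
  have hχcf := IsCharacter.isClassFunction (IsIrrCharacter.isCharacter χ.2)
  have hψcf := IsCharacter.isClassFunction (IsIrrCharacter.isCharacter ψ'.2)
  set T : Finset G := Finset.univ.filter (fun g : G => IsConj q (QuotientGroup.mk g)) with hT
  set D : G ⧸ N → ℂ := fun q' => (χ : G ⧸ N → ℂ) q' / (χ : G ⧸ N → ℂ) 1 -
    (ψ' : G ⧸ N → ℂ) q' / (ψ' : G ⧸ N → ℂ) 1 with hD
  set d : G → ℂ := fun g => D (QuotientGroup.mk g) with hd
  have hDcf : Cfsg.IsClassFunction (G ⧸ N) D := by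
    intro x y
    simp only [hD]
    rw [hχcf x y, hψcf x y]
  have hdcf : Cfsg.IsClassFunction G d := by
    intro g h
    simp only [hd]
    have : (QuotientGroup.mk (h * g * h⁻¹) : G ⧸ N) =
        (QuotientGroup.mk h : G ⧸ N) * QuotientGroup.mk g * (QuotientGroup.mk h : G ⧸ N)⁻¹ := rfl
    rw [this, hDcf]
  have hJ : Cfsg.MemLocalIdeal M (∑ g ∈ T, d g) := by
    apply sum_mem_of_conj_closed (fun z => Cfsg.MemLocalIdeal M z) (memLocalIdeal_zero hM)
      (fun x y hx hy => MemLocalIdeal.add hM hx hy) d hdcf _ _ T rfl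
    · intro g hg x
      rw [hT, Finset.mem_filter] at hg ⊢
      refine ⟨Finset.mem_univ _, ?_⟩
      have : (QuotientGroup.mk (x * g * x⁻¹) : G ⧸ N) =
          (QuotientGroup.mk x : G ⧸ N) * QuotientGroup.mk g * (QuotientGroup.mk x : G ⧸ N)⁻¹ := rfl
      rw [this]
      exact hg.2.trans (isConj_iff.mpr ⟨_, rfl⟩)
    · intro g
      have h1 : ((Subgroup.centralizer ({g} : Set G)).index : ℂ) * d g =
          Cfsg.centralChar ((χ : G ⧸ N → ℂ) ∘ QuotientGroup.mk) g -
            Cfsg.centralChar (ψ : G → ℂ) g := by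
        rw [hψ']
        simp only [hd, hD]
        unfold Cfsg.centralChar
        simp only [Function.comp_apply, QuotientGroup.mk_one]
        ring
      rw [h1]
      exact hψ g
  have hsum : ∑ g ∈ T, d g = (T.card : ℂ) * D q := by
    rw [← nsmul_eq_mul, ← Finset.sum_const]
    apply Finset.sum_congr rfl
    intro g hg
    rw [hT, Finset.mem_filter] at hg
    obtain ⟨c, hc⟩ := isConj_iff.mp hg.2
    simp only [hd]
    rw [← hc, hDcf]
  have hcard : T.card = Nat.card N * (Subgroup.centralizer ({q} : Set (G ⧸ N))).index := by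
    rw [index_centralizer_eq_card_conj q]
    have h1 := QuotientGroup.card_preimage_mk N {q' : G ⧸ N | IsConj q q'}
    have h2 : (T : Set G) = QuotientGroup.mk ⁻¹' {q' : G ⧸ N | IsConj q q'} := by
      ext g
      simp [hT]
    rw [← h2] at h1
    rw [Nat.card_coe_set_eq, Set.ncard_coe_finset] at h1
    rw [h1]
    rfl
  have hfinal : Cfsg.centralChar (χ : G ⧸ N → ℂ) q - Cfsg.centralChar (ψ' : G ⧸ N → ℂ) q =
      (Nat.card N : ℂ)⁻¹ * ∑ g ∈ T, d g := by
    have hN0 : (Nat.card N : ℂ) ≠ 0 := by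
      have : 0 < Nat.card N := Nat.card_pos
      exact_mod_cast this.ne'
    rw [hsum, hcard]
    simp only [hD]
    unfold Cfsg.centralChar
    push_cast
    field_simp
  rw [hfinal]
  exact MemLocalIdeal.mul_left hM hinvN hJ

end Cfsg.Agent.Helper6
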