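import Mathlib
import Cfsg.Prelude.Def_Characters
import Cfsg.Prelude.Def_Blocks
import Cfsg.Agent.Helper6.KernelSet

/-!
# The principal block of a group with a normal `p`-complement
-/

set_option autoImplicit false
set_option linter.style.haveILetI false

namespace Cfsg.Agent.Helper6

open scoped ComplexConjugate
open Module

universe u v

variable {G : Type u} [Group G] {M : Ideal Cfsg.AlgInt}

/-- A rational number `c / (p ^ k * d')` with `p ∤ d'` that is a local integer has `p ^ k ∣ c`. -/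
theorem pow_dvd_of_memLocalRing (p : ℕ) [hp : Fact p.Prime] (hM : M.IsMaximal)
    (hpM : (p : Cfsg.AlgInt) ∈ M) (c d' k : ℕ) (hd' : ¬ p ∣ d')
    (h : Cfsg.MemLocalRing M ((c : ℂ) / ((p ^ k * d' : ℕ) : ℂ))) : p ^ k ∣ c := by
  obtain ⟨α, β, hβ, hαβ⟩ := h
  have hβ0 := algInt_coe_ne_zero hβ
  have hd'0 : d' ≠ 0 := by
    rintro rfl
    exact hd' (dvd_zero p)
  have hden : ((p ^ k * d' : ℕ) : ℂ) ≠ 0 := by
    have : p ^ k * d' ≠ 0 := mul_ne_zero (pow_pos hp.out.pos k).ne' hd'0
    exact_mod_cast this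
  have hcross : (α : ℂ) * ((p ^ k * d' : ℕ) : ℂ) = (c : ℂ) * (β : ℂ) := by
    field_simp at hαβ
    rw [hαβ, mul_comm]
  by_cases hc0 : c = 0
  · rw [hc0]; exact dvd_zero _
  obtain ⟨j, c', hc', hcj⟩ := Nat.exists_eq_pow_mul_and_not_dvd hc0 p hp.out.ne_one
  by_cases hjk : k ≤ j
  · rw [hcj]
    exact Dvd.dvd.mul_right (pow_dvd_pow p hjk) c'
  · exfalso
    push Not at hjk
    obtain ⟨t, ht⟩ := Nat.exists_eq_add_of_lt hjk
    -- `c' β = α p^(t+1) d'`
    have hpj : ((p : ℂ) ^ j) ≠ 0 := pow_ne_zero _ (by exact_mod_cast hp.out.ne_zero)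
    have h1 : (c' : ℂ) * (β : ℂ) = (α : ℂ) * ((p : ℂ) ^ (t + 1) * (d' : ℂ)) := by
      have h2 : (p : ℂ) ^ j * ((c' : ℂ) * (β : ℂ)) =
          (p : ℂ) ^ j * ((α : ℂ) * ((p : ℂ) ^ (t + 1) * (d' : ℂ))) := by
        have e1 : (c : ℂ) = (p : ℂ) ^ j * (c' : ℂ) := by
          rw [hcj]; push_cast; rfl
        have e2 : ((p ^ k * d' : ℕ) : ℂ) = (p : ℂ) ^ j * ((p : ℂ) ^ (t + 1) * (d' : ℂ)) := by
          rw [ht]; push_cast; ring
        rw [e1, e2] at hcross
        rw [← mul_assoc, ← hcross]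
        ring
      exact mul_left_cancel₀ hpj h2
    have h3 : (c' : Cfsg.AlgInt) * β = α * ((p : Cfsg.AlgInt) ^ (t + 1) * (d' : Cfsg.AlgInt)) := by
      apply Subtype.ext
      push_cast
      exact h1
    have h4 : (c' : Cfsg.AlgInt) * β ∈ M := by
      rw [h3, pow_succ]
      apply M.mul_mem_left
      apply M.mul_mem_right
      exact M.mul_mem_left _ hpM
    rcases hM.isPrime.mem_or_mem h4 with h5 | h5
    · exact natCast_not_mem_of_not_dvd hM hp.out hpM hc' h5
    · exact hβ h5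

set_option maxHeartbeats 800000 in
/-- The principal block of a group with a normal `p`-complement `N` consists of the irreducible
characters with `N` in their kernel. -/
theorem principalBlock_eq_kernelSet [Finite G] (p : ℕ) [hp : Fact p.Prime] (hM : M.IsMaximal)
    (hpM : (p : Cfsg.AlgInt) ∈ M) (N : Subgroup G) [hN : N.Normal]
    (hcop : (Nat.card N).Coprime p) (k : ℕ) (hidx : N.index = p ^ k) :
    Cfsg.principalBlock M G =
      {χ : Cfsg.IrrCharacter G | ∀ n ∈ N, (χ : G → ℂ) n = (χ : G → ℂ) 1} := by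
  classical
  haveI := Fintype.ofFinite G
  haveI : Finite (Cfsg.IrrCharacter G) := irr_finite
  haveI : Fintype (Cfsg.IrrCharacter G) := Fintype.ofFinite _
  obtain ⟨A, hA⟩ : ∃ A : Set (Cfsg.IrrCharacter G),
      A = {χ : Cfsg.IrrCharacter G | ∀ n ∈ N, (χ : G → ℂ) n = (χ : G → ℂ) 1} := ⟨_, rfl⟩
  rw [← hA]
  have hpN : ¬ p ∣ Nat.card N := by
    intro h
    have := Nat.Coprime.eq_one_of_dvd hcop.symm h
    exact hp.out.one_lt.ne' this
  have hNM : ((Nat.card N : ℕ) : Cfsg.AlgInt) ∉ M :=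
    natCast_not_mem_of_not_dvd hM hp.out hpM hpN
  have hAloc : ∀ g : G, Cfsg.MemLocalRing M (Cfsg.blockCoeff A g) := by
    intro g
    rw [hA, blockCoeff_kernelSet]
    by_cases hg : g ∈ N
    · rw [if_pos hg]
      refine ⟨1, ((Nat.card N : ℕ) : Cfsg.AlgInt), hNM, ?_⟩
      simp
    · rw [if_neg hg]
      exact memLocalRing_zero hM
  have htrivA : trivIrr G ∈ A := by
    rw [hA]
    intro n _
    rfl
  have h1 : Cfsg.principalBlock M G ⊆ A := by
    rw [principalBlock_eq]
    exact block_subset_of_local M hM A hAloc (trivIrr G) htrivA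
  apply Set.Subset.antisymm h1
  -- degrees
  have hdeg : ∀ χ : Cfsg.IrrCharacter G, ∃ n : ℕ, 0 < n ∧ (χ : G → ℂ) 1 = n := fun χ =>
    IsIrrCharacter.apply_one_pos χ.2
  choose d hdpos hd using hdeg
  set F : Set (Cfsg.IrrCharacter G) → ℕ := fun X =>
    ∑ χ ∈ Finset.univ.filter (fun χ => χ ∈ X), d χ ^ 2 with hF
  have hcoeff1 : ∀ X : Set (Cfsg.IrrCharacter G), Cfsg.blockCoeff X 1 =
      ((F X : ℕ) : ℂ) / (Nat.card G : ℂ) := by
    intro X
    simp only [hF]
    unfold Cfsg.blockCoeff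
    rw [finsum_mem_eq_sum_ite, div_eq_inv_mul, Finset.sum_filter]
    congr 1
    push_cast
    apply Finset.sum_congr rfl
    intro χ _
    by_cases hχ : χ ∈ X
    · rw [if_pos hχ, if_pos hχ, hd χ, Complex.conj_natCast, pow_two]
    · rw [if_neg hχ, if_neg hχ]
  set B₀ := Cfsg.principalBlock M G with hB₀
  set s := F B₀ with hs
  set a := F A with ha
  have hG : Nat.card G = p ^ k * Nat.card N := by
    rw [← hidx, mul_comm]
    exact (Subgroup.card_mul_index N).symm
  have hG0 : (Nat.card G : ℂ) ≠ 0 := by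
    have : 0 < Nat.card G := Nat.card_pos
    exact_mod_cast this.ne'
  have hN0 : (Nat.card N : ℂ) ≠ 0 := by
    have : 0 < Nat.card N := Nat.card_pos
    exact_mod_cast this.ne'
  -- the sum over `A` is `p ^ k`
  have haval : a = p ^ k := by
    have h2 := hcoeff1 A
    rw [hA, blockCoeff_kernelSet, if_pos N.one_mem, ← hA] at h2
    have h3 : ((a : ℕ) : ℂ) = ((p ^ k : ℕ) : ℂ) := by
      have hGC : (Nat.card G : ℂ) = ((p ^ k : ℕ) : ℂ) * (Nat.card N : ℂ) := by
        rw [hG]; push_cast; rfl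
      rw [hGC] at h2
      have hpk : ((p ^ k : ℕ) : ℂ) ≠ 0 := by
        have : 0 < p ^ k := pow_pos hp.out.pos k
        exact_mod_cast this.ne'
      field_simp at h2
      exact h2.symm
    exact_mod_cast h3
  -- `p ^ k` divides the sum over the principal block
  have hsdvd : p ^ k ∣ s := by
    apply pow_dvd_of_memLocalRing p hM hpM s (Nat.card N) k hpN
    rw [← hG, ← hcoeff1 B₀]
    exact osima hM B₀ (isPBlock_principalBlock G) 1
  have hsle : s ≤ a := by
    apply Finset.sum_le_sum_of_subset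
    intro χ hχ
    rw [Finset.mem_filter] at hχ ⊢
    exact ⟨hχ.1, h1 hχ.2⟩
  have hspos : 0 < s := by
    apply Finset.sum_pos'
    · intro χ _
      exact Nat.zero_le _
    · refine ⟨trivIrr G, ?_, pow_pos (hdpos _) 2⟩
      rw [Finset.mem_filter]
      exact ⟨Finset.mem_univ _, trivIrr_mem_principalBlock hM⟩
  have hseq : s = a := by
    rw [haval] at hsle ⊢
    exact le_antisymm hsle (Nat.le_of_dvd hspos hsdvd)
  intro χ hχ
  by_contra hnot
  have hlt : s < a := by
    apply Finset.sum_lt_sum_of_subset (i := χ)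
    · intro ψ hψ
      rw [Finset.mem_filter] at hψ ⊢
      exact ⟨hψ.1, h1 hψ.2⟩
    · rw [Finset.mem_filter]
      exact ⟨Finset.mem_univ _, hχ⟩
    · rw [Finset.mem_filter]
      exact fun h => hnot h.2
    · exact pow_pos (hdpos χ) 2
    · intro ψ _ _
      exact Nat.zero_le _
  omega

end Cfsg.Agent.Helper6
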