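import Mathlib
import Cfsg.Prelude.Def_Characters
import Cfsg.Prelude.Def_Blocks
import Cfsg.Agent.Helper6.NormalComplementBlock
import Cfsg.Agent.Helper6.Inflation
import Cfsg.Agent.Helper6.Codegree
import Cfsg.Agent.Helper1.Fitting
import Cfsg.Agent.Helper1.Fitting2
import Cfsg.Agent.Helper4.PSolvable
import Cfsg.Agent.Helper4.SolvPSolv
import Cfsg.Agent.S0915

/-!
# The principal block of a `p`-solvable group
-/

set_option autoImplicit false
set_option linter.style.haveILetI false

namespace Cfsg.Agent.Helper6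

open scoped ComplexConjugate

universe u

variable {G : Type u} [Group G] {M : Ideal Cfsg.AlgInt}

/-- a normal `p'`-subgroup lies in the kernel of every member of the principal block -/
theorem principalBlock_subset_kernelSet [Finite G] (p : ℕ) [hp : Fact p.Prime] (hM : M.IsMaximal)
    (hpM : (p : Cfsg.AlgInt) ∈ M) (N : Subgroup G) [hN : N.Normal]
    (hcop : (Nat.card N).Coprime p) :
    Cfsg.principalBlock M G ⊆
      {χ : Cfsg.IrrCharacter G | ∀ n ∈ N, (χ : G → ℂ) n = (χ : G → ℂ) 1} := by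
  classical
  haveI := Fintype.ofFinite G
  haveI : Finite (Cfsg.IrrCharacter G) := irr_finite
  haveI : Fintype (Cfsg.IrrCharacter G) := Fintype.ofFinite _
  obtain ⟨A, hA⟩ : ∃ A : Set (Cfsg.IrrCharacter G),
      A = {χ : Cfsg.IrrCharacter G | ∀ n ∈ N, (χ : G → ℂ) n = (χ : G → ℂ) 1} := ⟨_, rfl⟩
  rw [← hA]
  have hpN : ¬ p ∣ Nat.card N := by
    intro h
    have := Nat.Coprime.eq_one_of_dvd hcop.symm h
    exact hp.out.one_lt.ne' this
  have hNM : ((Nat.card N : ℕ) : Cfsg.AlgInt) ∉ M :=
    natCast_not_mem_of_not_dvd hM hp.out hpM hpN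
  have hAloc : ∀ g : G, Cfsg.MemLocalRing M (Cfsg.blockCoeff A g) := by
    intro g
    rw [hA, blockCoeff_kernelSet]
    by_cases hg : g ∈ N
    · rw [if_pos hg]
      refine ⟨1, ((Nat.card N : ℕ) : Cfsg.AlgInt), hNM, ?_⟩
      simp
    · rw [if_neg hg]
      exact memLocalRing_zero hM
  have htrivA : trivIrr G ∈ A := by
    rw [hA]
    intro n _
    rfl
  rw [principalBlock_eq]
  exact block_subset_of_local M hM A hAloc (trivIrr G) htrivA

/-- central characters of inflations -/
theorem centralChar_inflate [Finite G] (N : Subgroup G) [hN : N.Normal] (g : G) :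
    ∃ m : ℕ, ∀ χ : G ⧸ N → ℂ, Cfsg.centralChar (χ ∘ QuotientGroup.mk) g =
      (m : ℂ) * Cfsg.centralChar χ (QuotientGroup.mk g : G ⧸ N) := by
  have hle : (Subgroup.centralizer ({g} : Set G)).map (QuotientGroup.mk' N) ≤
      Subgroup.centralizer ({(QuotientGroup.mk g : G ⧸ N)} : Set (G ⧸ N)) := by
    rintro _ ⟨x, hx, rfl⟩
    have hx' : x * g = g * x := Subgroup.mem_centralizer_singleton_iff.mp hx
    rw [Subgroup.mem_centralizer_singleton_iff]
    show (QuotientGroup.mk x : G ⧸ N) * QuotientGroup.mk g = QuotientGroup.mk g * QuotientGroup.mk x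
    rw [← QuotientGroup.mk_mul, ← QuotientGroup.mk_mul, hx']
  have h1 := Subgroup.index_dvd_of_le hle
  have h2 := Subgroup.index_map_dvd (Subgroup.centralizer ({g} : Set G))
    (QuotientGroup.mk'_surjective N)
  obtain ⟨m, hm⟩ := dvd_trans h1 h2
  refine ⟨m, fun χ => ?_⟩
  unfold Cfsg.centralChar
  rw [hm]
  push_cast
  simp only [Function.comp_apply, QuotientGroup.mk_one]
  ring

/-- characters of the quotient in the same block inflate to characters in the same block -/
theorem sameBlock_inflate [Finite G] (hM : M.IsMaximal) (N : Subgroup G) [hN : N.Normal]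
    (χ ψ : G ⧸ N → ℂ) (h : Cfsg.SameBlock M χ ψ) :
    Cfsg.SameBlock M (χ ∘ QuotientGroup.mk) (ψ ∘ QuotientGroup.mk) := by
  intro g
  obtain ⟨m, hm⟩ := centralChar_inflate N g
  rw [hm χ, hm ψ, ← mul_sub]
  apply MemLocalIdeal.mul_left hM _ (h _)
  apply memLocalRing_of_isIntegral hM
  exact isIntegral_algebraMap (R := ℤ) (A := ℂ) (x := (m : ℤ)) |> fun h => by simpa using h

/-- **the principal block of a `p`-solvable group consists of the characters with `O_{p'}` in the
kernel** -/
theorem principalBlock_eq_of_isPSolvable [Finite G] (p : ℕ) [hp : Fact p.Prime]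
    (hM : Cfsg.IsPModular p M) (hsolv : Cfsg.IsPSolvable p G) :
    Cfsg.principalBlock M G =
      {χ : Cfsg.IrrCharacter G | ∀ n ∈ Cfsg.pPrimeCore p G, (χ : G → ℂ) n = (χ : G → ℂ) 1} := by
  apply Set.Subset.antisymm
  · exact principalBlock_subset_kernelSet p hM.2.1 hM.2.2 (Cfsg.pPrimeCore p G)
      (Helper1.card_pPrimeCore_coprime p)
  · intro χ hχ
    obtain ⟨χ', hχ'⟩ := exists_deflate (Cfsg.pPrimeCore p G) χ hχ
    have hs := Cfsg.Agent.S0915.result p M hM (Helper4.isPSolvable_quotient hsolv _)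
      (Helper1.pPrimeCore_quotient_pPrimeCore p) (trivIrr (G ⧸ Cfsg.pPrimeCore p G)) χ'
    have hinf := sameBlock_inflate hM.2.1 (Cfsg.pPrimeCore p G) _ _ hs
    show Cfsg.SameBlock M (fun _ : G => (1 : ℂ)) (χ : G → ℂ)
    rw [hχ']
    exact hinf

end Cfsg.Agent.Helper6
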