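import Mathlib
import Cfsg.Prelude.Def_Characters
import Cfsg.Prelude.Def_Blocks
import Cfsg.Agent.Helper6.PrincipalSolv
import Cfsg.Agent.Helper6.BrauerIdem
import Cfsg.Agent.Helper6.OsimaSupport
import Cfsg.Agent.Helper6.KernelSet

/-!
# Blocks of `G ⧸ P` for a normal `p`-subgroup `P` whose centralizer has `p`-power index
-/

set_option autoImplicit false
set_option linter.style.haveILetI false

namespace Cfsg.Agent.Helper6

open scoped ComplexConjugate

universe u

variable {G : Type u} [Group G] {M : Ideal Cfsg.AlgInt}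

/-- **`p`-regular classes determine blocks** -/
theorem sameBlock_of_pRegular [Finite G] (hM : M.IsMaximal) (p : ℕ) [hp : Fact p.Prime]
    (hpM : (p : Cfsg.AlgInt) ∈ M) (χ ψ : Cfsg.IrrCharacter G)
    (h : ∀ g : G, ¬ p ∣ orderOf g → Cfsg.MemLocalIdeal M
      (Cfsg.centralChar (χ : G → ℂ) g - Cfsg.centralChar (ψ : G → ℂ) g)) :
    Cfsg.SameBlock M (χ : G → ℂ) (ψ : G → ℂ) := by
  classical
  haveI := Fintype.ofFinite G
  set B := Cfsg.blockOf M (χ : G → ℂ) with hBdef
  have hB : Cfsg.IsPBlock M B := ⟨χ, rfl⟩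
  by_contra hcon
  have hψB : ψ ∉ B := hcon
  have hχB : χ ∈ B := mem_blockOf_self hM χ
  set f := Cfsg.blockCoeff B with hf
  have hfcf : Cfsg.IsClassFunction G f := blockCoeff_isClassFunction B
  have hχ1 : (χ : G → ℂ) 1 ≠ 0 := IsIrrCharacter.apply_one_ne_zero χ.2
  have hψ1 : (ψ : G → ℂ) 1 ≠ 0 := IsIrrCharacter.apply_one_ne_zero ψ.2
  have e1 : ∑ t : G, f t * ((χ : G → ℂ) t / (χ : G → ℂ) 1) = 1 := by
    have h1 : ∑ t : G, f t * ((χ : G → ℂ) t / (χ : G → ℂ) 1) =
        (∑ t, f t * (χ : G → ℂ) t) / (χ : G → ℂ) 1 := by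
      rw [Finset.sum_div]
      apply Finset.sum_congr rfl
      intro t _
      ring
    rw [h1, hf, sum_blockCoeff_mul, if_pos hχB, div_self hχ1]
  have e2 : ∑ t : G, f t * ((ψ : G → ℂ) t / (ψ : G → ℂ) 1) = 0 := by
    have h1 : ∑ t : G, f t * ((ψ : G → ℂ) t / (ψ : G → ℂ) 1) =
        (∑ t, f t * (ψ : G → ℂ) t) / (ψ : G → ℂ) 1 := by
      rw [Finset.sum_div]
      apply Finset.sum_congr rfl
      intro t _
      ring
    rw [h1, hf, sum_blockCoeff_mul, if_neg hψB, zero_div]
  have e3 : (1 : ℂ) = ∑ t ∈ (Finset.univ : Finset G),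
      f t * ((χ : G → ℂ) t / (χ : G → ℂ) 1 - (ψ : G → ℂ) t / (ψ : G → ℂ) 1) := by
    simp_rw [mul_sub]
    rw [Finset.sum_sub_distrib, e1, e2, sub_zero]
  apply not_memLocalIdeal_one (M := M)
  rw [e3]
  apply sum_mem_of_class_sums (fun z => Cfsg.MemLocalIdeal M z) (memLocalIdeal_zero hM)
    (fun x y hx hy => MemLocalIdeal.add hM hx hy) _ _ _ Finset.univ rfl
    (fun g _ x => Finset.mem_univ _)
  intro g
  have h1 : ∑ x ∈ classFinset g,
      f x * ((χ : G → ℂ) x / (χ : G → ℂ) 1 - (ψ : G → ℂ) x / (ψ : G → ℂ) 1) =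
      f g * (Cfsg.centralChar (χ : G → ℂ) g - Cfsg.centralChar (ψ : G → ℂ) g) := by
    have h2 : ∀ x ∈ classFinset g,
        f x * ((χ : G → ℂ) x / (χ : G → ℂ) 1 - (ψ : G → ℂ) x / (ψ : G → ℂ) 1) =
        f g * ((χ : G → ℂ) x / (χ : G → ℂ) 1 - (ψ : G → ℂ) x / (ψ : G → ℂ) 1) := by
      intro x hx
      rw [mem_classFinset] at hx
      obtain ⟨a, ha⟩ := isConj_iff.mp hx
      rw [← ha, hfcf]
    rw [Finset.sum_congr rfl h2, ← Finset.mul_sum, Finset.sum_sub_distrib, ← Finset.sum_div,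
      ← Finset.sum_div, sum_classFinset_char, sum_classFinset_char]
    unfold Cfsg.centralChar
    rfl
  rw [h1]
  by_cases hg : p ∣ orderOf g
  · rw [hf, blockCoeff_eq_zero_of_singular hM p hpM B hB g hg, zero_mul]
    exact memLocalIdeal_zero hM
  · exact MemLocalIdeal.mul_left hM (osima hM B hB g) (h g hg)

section NormalP

variable [Finite G] {p : ℕ} [hp : Fact p.Prime] (P : Subgroup G) [hPn : P.Normal]

/-- if the centralizer of `P` has `p`-power index, the `p`-regular elements centralize `P` -/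
theorem mem_centralizer_of_pRegular (hC : ∃ k : ℕ, (Subgroup.centralizer (P : Set G)).index = p ^ k)
    (g : G) (hg : ¬ p ∣ orderOf g) : g ∈ Subgroup.centralizer (P : Set G) := by
  obtain ⟨k, hk⟩ := hC
  haveI : (Subgroup.centralizer (P : Set G)).Normal := Subgroup.normal_centralizer
  rw [← QuotientGroup.eq_one_iff]
  have h1 : ((g : G ⧸ Subgroup.centralizer (P : Set G))) ^ p ^ k = 1 := by
    have : Nat.card (G ⧸ Subgroup.centralizer (P : Set G)) = p ^ k := hk
    rw [← this]
    exact pow_card_eq_one'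
  have h2 : ((g : G ⧸ Subgroup.centralizer (P : Set G))) ^ orderOf g = 1 := by
    rw [← QuotientGroup.mk_pow, pow_orderOf_eq_one, QuotientGroup.mk_one]
  have d1 := orderOf_dvd_of_pow_eq_one h1
  have d2 := orderOf_dvd_of_pow_eq_one h2
  have hcop : Nat.Coprime (p ^ k) (orderOf g) :=
    Nat.Coprime.pow_left k ((Nat.Prime.coprime_iff_not_dvd hp.1).mpr hg)
  have := Nat.eq_one_of_dvd_coprimes hcop d1 d2
  exact orderOf_eq_one_iff.mp this

/-- for a `p`-regular element centralizing `P`, the class sizes in `G` and `G ⧸ P` agree -/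
theorem centralChar_inflate_of_pRegular (hP : IsPGroup p P) (g : G) (hg : ¬ p ∣ orderOf g)
    (hgc : g ∈ Subgroup.centralizer (P : Set G)) (χ : G ⧸ P → ℂ) :
    Cfsg.centralChar (χ ∘ QuotientGroup.mk) g =
      Cfsg.centralChar χ (QuotientGroup.mk g : G ⧸ P) := by
  have hcomap : (Subgroup.centralizer ({(QuotientGroup.mk g : G ⧸ P)} : Set (G ⧸ P))).comap
      (QuotientGroup.mk' P) = Subgroup.centralizer ({g} : Set G) := by
    ext x
    rw [Subgroup.mem_comap, Subgroup.mem_centralizer_singleton_iff,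
      Subgroup.mem_centralizer_singleton_iff]
    constructor
    · intro h
      -- `x g x⁻¹ g⁻¹ ∈ P`
      have h1 : (QuotientGroup.mk (x * g * x⁻¹ * g⁻¹) : G ⧸ P) = 1 := by
        have h' : (QuotientGroup.mk x : G ⧸ P) * QuotientGroup.mk g =
            QuotientGroup.mk g * QuotientGroup.mk x := h
        rw [QuotientGroup.mk_mul, QuotientGroup.mk_mul, QuotientGroup.mk_mul, h',
          QuotientGroup.mk_inv, QuotientGroup.mk_inv]
        group
      have hu : x * g * x⁻¹ * g⁻¹ ∈ P := (QuotientGroup.eq_one_iff _).mp h1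
      set u := x * g * x⁻¹ * g⁻¹ with hudef
      have hug : Commute u g := by
        have := Subgroup.mem_centralizer_iff.mp hgc u hu
        exact this
      have hxg : x * g * x⁻¹ = u * g := by rw [hudef]; group
      have hpow : (u * g) ^ orderOf g = 1 := by
        rw [← hxg]
        have : (x * g * x⁻¹) ^ orderOf g = x * g ^ orderOf g * x⁻¹ := by
          rw [conj_pow]
        rw [this, pow_orderOf_eq_one]
        group
      rw [hug.mul_pow, pow_orderOf_eq_one, mul_one] at hpow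
      have d1 := orderOf_dvd_of_pow_eq_one hpow
      obtain ⟨j, hj⟩ := hP ⟨u, hu⟩
      have hj' : u ^ p ^ j = 1 := by
        have := congrArg Subtype.val hj
        simpa using this
      have d2 := orderOf_dvd_of_pow_eq_one hj'
      have hcop : Nat.Coprime (orderOf g) (p ^ j) :=
        (Nat.Coprime.pow_left j ((Nat.Prime.coprime_iff_not_dvd hp.1).mpr hg)).symm
      have hu1 : u = 1 := orderOf_eq_one_iff.mp (Nat.eq_one_of_dvd_coprimes hcop d1 d2)
      rw [hu1, one_mul] at hxg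
      calc x * g = x * g * x⁻¹ * x := by group
        _ = g * x := by rw [hxg]
    · intro h
      show (QuotientGroup.mk x : G ⧸ P) * QuotientGroup.mk g =
        QuotientGroup.mk g * QuotientGroup.mk x
      rw [← QuotientGroup.mk_mul, ← QuotientGroup.mk_mul, h]
  have hidx : (Subgroup.centralizer ({g} : Set G)).index =
      (Subgroup.centralizer ({(QuotientGroup.mk g : G ⧸ P)} : Set (G ⧸ P))).index := by
    rw [← hcomap]
    exact Subgroup.index_comap_of_surjective _ (QuotientGroup.mk'_surjective P)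
  unfold Cfsg.centralChar
  rw [hidx]
  simp only [Function.comp_apply, QuotientGroup.mk_one]

/-- `p`-regular elements of the quotient lift to `p`-regular elements -/
theorem exists_pRegular_lift (x : G ⧸ P) (hx : ¬ p ∣ orderOf x) :
    ∃ g : G, (QuotientGroup.mk g : G ⧸ P) = x ∧ ¬ p ∣ orderOf g := by
  obtain ⟨g₀, rfl⟩ := QuotientGroup.mk_surjective x
  have hn0 : orderOf g₀ ≠ 0 := (orderOf_pos g₀).ne'
  obtain ⟨a, m, hm, hn⟩ := Nat.exists_eq_pow_mul_and_not_dvd hn0 p hp.1.ne_one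
  set d := orderOf (QuotientGroup.mk g₀ : G ⧸ P) with hd
  have hdn : d ∣ orderOf g₀ := orderOf_map_dvd (QuotientGroup.mk' P) g₀
  have hcopd : Nat.Coprime d p := ((Nat.Prime.coprime_iff_not_dvd hp.1).mpr hx).symm
  by_cases hd1 : d = 1
  · refine ⟨1, ?_, ?_⟩
    · rw [QuotientGroup.mk_one]
      exact (orderOf_eq_one_iff.mp hd1).symm
    · rw [orderOf_one]
      exact hp.1.one_lt.ne' ∘ Nat.dvd_one.mp
  have hd2 : 1 < d := by
    have : 0 < d := orderOf_pos _
    omega
  obtain ⟨c, -, hc⟩ := Nat.exists_mul_mod_eq_one_of_coprime (Nat.Coprime.pow_left a hcopd.symm) hd2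
  refine ⟨g₀ ^ (p ^ a * c), ?_, ?_⟩
  · rw [QuotientGroup.mk_pow, ← pow_mod_orderOf, ← hd, hc, pow_one]
  · have hpow : (g₀ ^ (p ^ a * c)) ^ m = 1 := by
      rw [← pow_mul]
      have : p ^ a * c * m = orderOf g₀ * c := by rw [hn]; ring
      rw [this, pow_mul, pow_orderOf_eq_one, one_pow]
    have hdvd := orderOf_dvd_of_pow_eq_one hpow
    intro hp'
    exact hm (dvd_trans hp' hdvd)

end NormalP

end Cfsg.Agent.Helper6

namespace Cfsg.Agent.Helper6

open scoped ComplexConjugate

universe u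

variable {G : Type u} [Group G] {M : Ideal Cfsg.AlgInt}

open Classical in
/-- the idempotent of an intersection is the product of the idempotents -/
theorem blockCoeff_inter [Fintype G] (A B : Set (Cfsg.IrrCharacter G)) (g : G) :
    Cfsg.blockCoeff (A ∩ B) g = ∑ t, Cfsg.blockCoeff A t * Cfsg.blockCoeff B (g * t⁻¹) := by
  haveI : Finite (Cfsg.IrrCharacter G) := irr_finite
  haveI : Fintype (Cfsg.IrrCharacter G) := Fintype.ofFinite _
  set iA : Cfsg.IrrCharacter G → ℂ := fun θ => if θ ∈ A then (1 : ℂ) else 0 with hiA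
  set iB : Cfsg.IrrCharacter G → ℂ := fun θ => if θ ∈ B then (1 : ℂ) else 0 with hiB
  set iAB : Cfsg.IrrCharacter G → ℂ := fun θ =>
    @ite ℂ (θ ∈ A ∩ B) (Classical.propDecidable _) (1 : ℂ) 0 with hiAB
  have hcv : classVec (Cfsg.blockCoeff A) = iA := by
    funext θ
    unfold classVec
    have hθ1 : (θ : G → ℂ) 1 ≠ 0 := IsIrrCharacter.apply_one_ne_zero θ.2
    have h1 : ∑ t, Cfsg.blockCoeff A t * ((θ : G → ℂ) t / (θ : G → ℂ) 1) =
        (∑ t, Cfsg.blockCoeff A t * (θ : G → ℂ) t) / (θ : G → ℂ) 1 := by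
      rw [Finset.sum_div]
      apply Finset.sum_congr rfl
      intro t _
      ring
    rw [h1, sum_blockCoeff_mul]
    simp only [hiA]
    by_cases hθ : θ ∈ A
    · rw [if_pos hθ, if_pos hθ, div_self hθ1]
    · rw [if_neg hθ, if_neg hθ, zero_div]
  have hii : iA * iB = iAB := by
    funext θ
    simp only [hiA, hiB, hiAB, Pi.mul_apply]
    have hmem : θ ∈ A ∩ B ↔ (θ ∈ A ∧ θ ∈ B) := Iff.rfl
    by_cases h1 : θ ∈ A
    · by_cases h2 : θ ∈ B
      · rw [if_pos h1, if_pos h2, if_pos (hmem.mpr ⟨h1, h2⟩), mul_one]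
      · rw [if_pos h1, if_neg h2, if_neg (fun h => h2 (hmem.mp h).2), mul_zero]
    · rw [if_neg h1, if_neg (fun h => h1 (hmem.mp h).1), zero_mul]
  have h := idemCoeff_classVec_mul (Cfsg.blockCoeff A) (blockCoeff_isClassFunction A) iB g
  rw [hcv, hii] at h
  have e1 : ∀ x, idemCoeff iB x = Cfsg.blockCoeff B x := fun x =>
    (blockCoeff_eq_idemCoeff B x).symm
  have e2 : idemCoeff iAB g = Cfsg.blockCoeff (A ∩ B) g :=
    (blockCoeff_eq_idemCoeff (A ∩ B) g).symm
  simp_rw [e1] at h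
  rw [e2] at h
  exact h

/-- **every block contains a character with the normal `p`-subgroup `P` in its kernel, when the
centralizer of `P` has `p`-power index** -/
theorem exists_mem_block_kernel [Finite G] {p : ℕ} [hp : Fact p.Prime] (hM : Cfsg.IsPModular p M)
    (P : Subgroup G) [hPn : P.Normal] (hP : IsPGroup p P)
    (hC : ∃ k : ℕ, (Subgroup.centralizer (P : Set G)).index = p ^ k)
    (B : Set (Cfsg.IrrCharacter G)) (hB : Cfsg.IsPBlock M B) :
    ∃ θ ∈ B, ∀ n ∈ P, (θ : G → ℂ) n = (θ : G → ℂ) 1 := by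
  classical
  haveI := Fintype.ofFinite G
  by_contra hcon
  push Not at hcon
  obtain ⟨A, hA⟩ : ∃ A : Set (Cfsg.IrrCharacter G),
      A = {χ : Cfsg.IrrCharacter G | ∀ n ∈ P, (χ : G → ℂ) n = (χ : G → ℂ) 1} := ⟨_, rfl⟩
  have hAB : A ∩ B = ∅ := by
    ext θ
    simp only [Set.mem_inter_iff, Set.mem_empty_iff_false, iff_false]
    rintro ⟨h1, h2⟩
    rw [hA] at h1
    obtain ⟨n, hn, hne⟩ := hcon θ h2
    exact hne (h1 n hn)
  -- a `p`-regular element with nonzero coefficient
  obtain ⟨χ₀, hχ₀⟩ := hB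
  have hB' : Cfsg.IsPBlock M B := ⟨χ₀, hχ₀⟩
  have hχ₀B : χ₀ ∈ B := by rw [hχ₀]; exact mem_blockOf_self hM.2.1 χ₀
  have hex : ∃ g : G, Cfsg.blockCoeff B g ≠ 0 := by
    by_contra hall
    push Not at hall
    have h1 := sum_blockCoeff_mul B χ₀
    rw [if_pos hχ₀B] at h1
    have h2 : ∑ g : G, Cfsg.blockCoeff B g * (χ₀ : G → ℂ) g = 0 := by
      apply Finset.sum_eq_zero
      intro g _
      rw [hall g, zero_mul]
    rw [h2] at h1
    exact IsIrrCharacter.apply_one_ne_zero χ₀.2 h1.symm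
  obtain ⟨g, hg⟩ := hex
  have hgreg : ¬ p ∣ orderOf g := by
    intro hdiv
    exact hg (blockCoeff_eq_zero_of_singular hM.2.1 p hM.2.2 B hB' g hdiv)
  have hgc := mem_centralizer_of_pRegular P hC g hgreg
  have h0 : Cfsg.blockCoeff (A ∩ B) g = 0 := by
    rw [hAB]
    unfold Cfsg.blockCoeff
    rw [finsum_mem_empty, mul_zero]
  rw [blockCoeff_inter] at h0
  have hterm : ∀ t : G, t ≠ 1 → Cfsg.blockCoeff A t * Cfsg.blockCoeff B (g * t⁻¹) = 0 := by
    intro t ht
    rw [hA, blockCoeff_kernelSet]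
    by_cases htP : t ∈ P
    · rw [if_pos htP]
      have hsing : p ∣ orderOf (g * t⁻¹) := by
        by_contra hns
        apply ht
        have hcomm : Commute g t⁻¹ := by
          have := Subgroup.mem_centralizer_iff.mp hgc t⁻¹ (P.inv_mem htP)
          exact this.symm
        -- `(g t⁻¹) ^ (o(g))` is a `p`-element of `p'`-order
        have hpow : (g * t⁻¹) ^ orderOf g = t⁻¹ ^ orderOf g := by
          rw [hcomm.mul_pow, pow_orderOf_eq_one, one_mul]
        obtain ⟨j, hj⟩ := hP ⟨t, htP⟩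
        have hj' : t ^ p ^ j = 1 := by
          have := congrArg Subtype.val hj
          simpa using this
        have d2 : orderOf (t⁻¹ ^ orderOf g) ∣ p ^ j := by
          apply orderOf_dvd_of_pow_eq_one
          rw [← pow_mul, mul_comm, pow_mul, inv_pow, hj', inv_one, one_pow]
        have d1 : orderOf (t⁻¹ ^ orderOf g) ∣ orderOf (g * t⁻¹) := by
          rw [← hpow]
          exact orderOf_pow_dvd _
        have hcop : Nat.Coprime (orderOf (g * t⁻¹)) (p ^ j) :=
          (Nat.Coprime.pow_left j ((Nat.Prime.coprime_iff_not_dvd hp.1).mpr hns)).symm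
        have h1 : t⁻¹ ^ orderOf g = 1 :=
          orderOf_eq_one_iff.mp (Nat.eq_one_of_dvd_coprimes hcop d1 d2)
        have d3 : orderOf t ∣ orderOf g := by
          apply orderOf_dvd_of_pow_eq_one
          rw [inv_pow, inv_eq_one] at h1
          exact h1
        have d4 : orderOf t ∣ p ^ j := orderOf_dvd_of_pow_eq_one hj'
        have hcop2 : Nat.Coprime (orderOf g) (p ^ j) :=
          (Nat.Coprime.pow_left j ((Nat.Prime.coprime_iff_not_dvd hp.1).mpr hgreg)).symm
        exact orderOf_eq_one_iff.mp (Nat.eq_one_of_dvd_coprimes hcop2 d3 d4)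
      rw [blockCoeff_eq_zero_of_singular hM.2.1 p hM.2.2 B hB' _ hsing, mul_zero]
    · rw [if_neg htP, zero_mul]
  rw [Finset.sum_eq_single (1 : G) (fun t _ ht => hterm t ht)
    (fun h => absurd (Finset.mem_univ _) h), hA, blockCoeff_kernelSet, if_pos P.one_mem,
    inv_one, mul_one] at h0
  have hP0 : (Nat.card P : ℂ)⁻¹ ≠ 0 := by
    have : 0 < Nat.card P := Nat.card_pos
    exact inv_ne_zero (by exact_mod_cast this.ne')
  rcases mul_eq_zero.mp h0 with h1 | h1
  · exact hP0 h1
  · exact hg h1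

end Cfsg.Agent.Helper6
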