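import Mathlib
import Cfsg.Prelude.Def_Characters
import Cfsg.Prelude.Def_Blocks
import Cfsg.Agent.Helper6.InflationBlocks
import Cfsg.Agent.Helper6.BlockPart
import Cfsg.Agent.Helper6.BlockBasic2
import Cfsg.Agent.Helper6.Induced

/-!
# The block parts of an induced character
-/

set_option autoImplicit false
set_option linter.style.haveILetI false

namespace Cfsg.Agent.Helper6

open scoped ComplexConjugate

universe u

variable {G : Type u} [Group G] {M : Ideal Cfsg.AlgInt}

theorem blockPart_apply [inst : Fintype G] (B : Set (Cfsg.IrrCharacter G)) (ϑ : G → ℂ) (g : G) :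
    Cfsg.blockPart B ϑ g = ∑ᶠ χ ∈ B, Cfsg.classInner ϑ (χ : G → ℂ) * (χ : G → ℂ) g := by
  unfold Cfsg.blockPart
  have : Fintype.ofFinite G = inst := Subsingleton.elim _ _
  rw [this]

/-- the degree of the block part as a pairing with the block idempotent -/
theorem blockPart_one_eq_sum [Fintype G] (B : Set (Cfsg.IrrCharacter G)) (ϑ : G → ℂ) :
    Cfsg.blockPart B ϑ 1 = ∑ g : G, Cfsg.blockCoeff B g * ϑ g := by
  classical
  haveI : Finite (Cfsg.IrrCharacter G) := irr_finite
  haveI : Fintype (Cfsg.IrrCharacter G) := Fintype.ofFinite _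
  rw [blockPart_apply, finsum_mem_eq_sum_ite]
  unfold Cfsg.blockCoeff
  simp_rw [finsum_mem_eq_sum_ite, classInner_def]
  have h1 : ∀ g : G, (Nat.card G : ℂ)⁻¹ *
      (∑ χ : Cfsg.IrrCharacter G, if χ ∈ B then (χ : G → ℂ) 1 * conj ((χ : G → ℂ) g) else 0) *
        ϑ g =
      ∑ χ : Cfsg.IrrCharacter G, if χ ∈ B then
        (Nat.card G : ℂ)⁻¹ * (ϑ g * conj ((χ : G → ℂ) g)) * (χ : G → ℂ) 1 else 0 := by
    intro g
    rw [Finset.mul_sum, Finset.sum_mul]
    apply Finset.sum_congr rfl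
    intro χ _
    by_cases hχ : χ ∈ B
    · rw [if_pos hχ, if_pos hχ]; ring
    · rw [if_neg hχ, if_neg hχ, mul_zero, zero_mul]
  simp_rw [h1]
  rw [Finset.sum_comm]
  apply Finset.sum_congr rfl
  intro χ _
  by_cases hχ : χ ∈ B
  · simp only [if_pos hχ]
    rw [Finset.mul_sum, Finset.sum_mul]
  · simp only [if_neg hχ]
    rw [Finset.sum_const_zero]

theorem sum_classFinset_classFunction [Fintype G] (φ : G → ℂ) (hφ : Cfsg.IsClassFunction G φ)
    (g : G) : ∑ y ∈ classFinset g, φ y =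
      ((Subgroup.centralizer ({g} : Set G)).index : ℂ) * φ g := by
  rw [← card_classFinset, ← nsmul_eq_mul, ← Finset.sum_const]
  apply Finset.sum_congr rfl
  intro x hx
  rw [mem_classFinset] at hx
  obtain ⟨a, ha⟩ := isConj_iff.mp hx
  rw [← ha, hφ]

/-- pairing of a block idempotent with a class function whose central character is congruent to
that of an irreducible character -/
theorem sum_blockCoeff_mul_classFunction [Fintype G] (hM : M.IsMaximal)
    (B : Set (Cfsg.IrrCharacter G)) (hB : Cfsg.IsPBlock M B) (φ : G → ℂ)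
    (hφ : Cfsg.IsClassFunction G φ) (χ₀ : Cfsg.IrrCharacter G)
    (h : ∀ g, Cfsg.MemLocalIdeal M (Cfsg.centralChar φ g - Cfsg.centralChar (χ₀ : G → ℂ) g))
    [Decidable (χ₀ ∈ B)] :
    Cfsg.MemLocalIdeal M ((∑ g : G, Cfsg.blockCoeff B g * φ g) / φ 1 -
      if χ₀ ∈ B then 1 else 0) := by
  classical
  set f := Cfsg.blockCoeff B with hf
  have hfcf : Cfsg.IsClassFunction G f := blockCoeff_isClassFunction B
  have hχ1 : (χ₀ : G → ℂ) 1 ≠ 0 := IsIrrCharacter.apply_one_ne_zero χ₀.2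
  have e2 : ∑ t : G, f t * ((χ₀ : G → ℂ) t / (χ₀ : G → ℂ) 1) = if χ₀ ∈ B then 1 else 0 := by
    have h1 : ∑ t : G, f t * ((χ₀ : G → ℂ) t / (χ₀ : G → ℂ) 1) =
        (∑ t, f t * (χ₀ : G → ℂ) t) / (χ₀ : G → ℂ) 1 := by
      rw [Finset.sum_div]
      apply Finset.sum_congr rfl
      intro t _
      ring
    rw [h1, hf, sum_blockCoeff_mul]
    by_cases hχ : χ₀ ∈ B
    · rw [if_pos hχ, if_pos hχ, div_self hχ1]
    · rw [if_neg hχ, if_neg hχ, zero_div]
  have e3 : (∑ g : G, f g * φ g) / φ 1 - (if χ₀ ∈ B then (1 : ℂ) else 0) =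
      ∑ t ∈ (Finset.univ : Finset G),
        f t * (φ t / φ 1 - (χ₀ : G → ℂ) t / (χ₀ : G → ℂ) 1) := by
    simp_rw [mul_sub]
    rw [Finset.sum_sub_distrib, e2, Finset.sum_div]
    congr 1
    apply Finset.sum_congr rfl
    intro t _
    ring
  rw [e3]
  apply sum_mem_of_class_sums (fun z => Cfsg.MemLocalIdeal M z) (memLocalIdeal_zero hM)
    (fun x y hx hy => MemLocalIdeal.add hM hx hy) _ _ _ Finset.univ rfl
    (fun g _ x => Finset.mem_univ _)
  intro g
  have h1 : ∑ x ∈ classFinset g, f x * (φ x / φ 1 - (χ₀ : G → ℂ) x / (χ₀ : G → ℂ) 1) =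
      f g * (Cfsg.centralChar φ g - Cfsg.centralChar (χ₀ : G → ℂ) g) := by
    have h2 : ∀ x ∈ classFinset g, f x * (φ x / φ 1 - (χ₀ : G → ℂ) x / (χ₀ : G → ℂ) 1) =
        f g * (φ x / φ 1 - (χ₀ : G → ℂ) x / (χ₀ : G → ℂ) 1) := by
      intro x hx
      rw [mem_classFinset] at hx
      obtain ⟨a, ha⟩ := isConj_iff.mp hx
      rw [← ha, hfcf]
    rw [Finset.sum_congr rfl h2, ← Finset.mul_sum, Finset.sum_sub_distrib, ← Finset.sum_div,
      ← Finset.sum_div, sum_classFinset_char, sum_classFinset_classFunction φ hφ]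
    unfold Cfsg.centralChar
    rfl
  rw [h1]
  exact MemLocalIdeal.mul_left hM (osima hM B hB g) (h g)

section Arith

variable {p : ℕ} [hp : Fact p.Prime]

theorem memLocalRing_natCast (hM : M.IsMaximal) (n : ℕ) : Cfsg.MemLocalRing M (n : ℂ) := by
  apply memLocalRing_of_isIntegral hM
  exact isIntegral_algebraMap (R := ℤ) (A := ℂ) (x := (n : ℤ)) |> fun h => by simpa using h

theorem dvd_of_memLocalIdeal_natCast (hM : Cfsg.IsPModular p M) (n : ℕ)
    (h : Cfsg.MemLocalIdeal M (n : ℂ)) : p ∣ n := by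
  by_contra hnd
  have h1 := natCast_not_mem_of_not_dvd hM.2.1 hp.1 hM.2.2 hnd
  apply h1
  have h2 : Cfsg.MemLocalIdeal M (((n : Cfsg.AlgInt) : Cfsg.AlgInt) : ℂ) := by
    have : (((n : Cfsg.AlgInt) : Cfsg.AlgInt) : ℂ) = (n : ℂ) := by simp
    rw [this]
    exact h
  exact (memLocalIdeal_coe_iff hM.2.1 _).mp h2

theorem memLocalIdeal_prime (hM : Cfsg.IsPModular p M) : Cfsg.MemLocalIdeal M (p : ℂ) := by
  have := memLocalIdeal_of_mem hM.2.1 hM.2.2
  simpa using this

/-- valuation of a ratio lying in the local ideal -/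
theorem factorization_lt_of_memLocalIdeal_div (hM : Cfsg.IsPModular p M) (n m : ℕ) (hm : m ≠ 0)
    (h : Cfsg.MemLocalIdeal M ((n : ℂ) / (m : ℂ))) :
    n = 0 ∨ m.factorization p < n.factorization p := by
  by_cases hn : n = 0
  · exact Or.inl hn
  right
  by_contra hle
  push Not at hle
  set j := n.factorization p with hj
  set k := m.factorization p with hk
  have hn' : p ^ j * (n / p ^ j) = n := Nat.ordProj_mul_ordCompl_eq_self n p
  have hm' : p ^ k * (m / p ^ k) = m := Nat.ordProj_mul_ordCompl_eq_self m p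
  have hnd : ¬ p ∣ n / p ^ j := Nat.not_dvd_ordCompl hp.1 hn
  apply hnd
  apply dvd_of_memLocalIdeal_natCast hM
  -- `n' = (n / m) * (p ^ (k - j) * m')`
  have hp0 : (p : ℂ) ≠ 0 := by exact_mod_cast hp.1.ne_zero
  have hm0 : (m : ℂ) ≠ 0 := by exact_mod_cast hm
  have e : ((n / p ^ j : ℕ) : ℂ) = (((p ^ (k - j) * (m / p ^ k) : ℕ) : ℕ) : ℂ) *
      ((n : ℂ) / (m : ℂ)) := by
    rw [eq_comm, mul_div_assoc', div_eq_iff hm0]
    have h1 : p ^ (k - j) * (m / p ^ k) * n = (n / p ^ j) * m := by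
      calc p ^ (k - j) * (m / p ^ k) * n = p ^ (k - j) * (m / p ^ k) * (p ^ j * (n / p ^ j)) := by
            rw [hn']
        _ = (n / p ^ j) * (p ^ (k - j + j) * (m / p ^ k)) := by rw [pow_add]; ring
        _ = (n / p ^ j) * (p ^ k * (m / p ^ k)) := by rw [Nat.sub_add_cancel hle]
        _ = (n / p ^ j) * m := by rw [hm']
    exact_mod_cast h1
  rw [e]
  exact MemLocalIdeal.mul_left hM.2.1 (memLocalRing_natCast hM.2.1 _) h

/-- valuation of a ratio congruent to one -/
theorem factorization_eq_of_memLocalIdeal_div_sub_one (hM : Cfsg.IsPModular p M) (n m : ℕ)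
    (hm : m ≠ 0) (h : Cfsg.MemLocalIdeal M ((n : ℂ) / (m : ℂ) - 1)) :
    n ≠ 0 ∧ n.factorization p = m.factorization p := by
  have hm0 : (m : ℂ) ≠ 0 := by exact_mod_cast hm
  have hn : n ≠ 0 := by
    rintro rfl
    rw [Nat.cast_zero, zero_div, zero_sub] at h
    have := MemLocalIdeal.neg h
    rw [neg_neg] at this
    exact not_memLocalIdeal_one this
  refine ⟨hn, ?_⟩
  -- `m / n - 1 = -(n / m - 1) * (m / n)`; first show `n / m` is not in the ideal
  have h1 : ¬ Cfsg.MemLocalIdeal M ((n : ℂ) / (m : ℂ)) := by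
    intro h'
    have := MemLocalIdeal.sub hM.2.1 h' h
    rw [sub_sub_cancel] at this
    exact not_memLocalIdeal_one this
  have hle : n.factorization p ≤ m.factorization p := by
    by_contra hlt
    push Not at hlt
    -- then `n / m` is in the ideal
    apply h1
    set j := n.factorization p with hj
    set k := m.factorization p with hk
    have hn' : p ^ j * (n / p ^ j) = n := Nat.ordProj_mul_ordCompl_eq_self n p
    have hm' : p ^ k * (m / p ^ k) = m := Nat.ordProj_mul_ordCompl_eq_self m p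
    have hmd : ¬ p ∣ m / p ^ k := Nat.not_dvd_ordCompl hp.1 hm
    have hunit : Cfsg.MemLocalRing M (((m / p ^ k : ℕ) : ℂ))⁻¹ := by
      refine ⟨1, ((m / p ^ k : ℕ) : Cfsg.AlgInt),
        natCast_not_mem_of_not_dvd hM.2.1 hp.1 hM.2.2 hmd, ?_⟩
      simp
    have hm'0 : ((m / p ^ k : ℕ) : ℂ) ≠ 0 := by
      intro h0
      apply hmd
      have : m / p ^ k = 0 := by exact_mod_cast h0
      rw [this]
      exact dvd_zero p
    have hpk0 : ((p : ℂ) ^ k) ≠ 0 := pow_ne_zero _ (by exact_mod_cast hp.1.ne_zero)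
    have e : (n : ℂ) / (m : ℂ) = (((p ^ (j - k - 1) * (n / p ^ j) : ℕ) : ℂ) *
        (((m / p ^ k : ℕ) : ℂ))⁻¹) * (p : ℂ) := by
      have h2 : n = p ^ k * (p ^ (j - k - 1) * (n / p ^ j) * p) := by
        calc n = p ^ j * (n / p ^ j) := hn'.symm
          _ = p ^ (k + (j - k - 1) + 1) * (n / p ^ j) := by
              congr 2
              omega
          _ = p ^ k * (p ^ (j - k - 1) * (n / p ^ j) * p) := by
              rw [pow_add, pow_add, pow_one]; ring
      have h3 : (n : ℂ) = (p : ℂ) ^ k * (((p ^ (j - k - 1) * (n / p ^ j) : ℕ) : ℂ) * (p : ℂ)) := by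
        conv_lhs => rw [h2]
        push_cast
        ring
      have h4 : (m : ℂ) = (p : ℂ) ^ k * ((m / p ^ k : ℕ) : ℂ) := by
        conv_lhs => rw [← hm']
        push_cast
        ring
      rw [h3, h4]
      field_simp
    rw [e]
    exact MemLocalIdeal.mul_left hM.2.1
      (MemLocalRing.mul hM.2.1 (memLocalRing_natCast hM.2.1 _) hunit) (memLocalIdeal_prime hM)
  have hge : m.factorization p ≤ n.factorization p := by
    by_contra hlt
    push Not at hlt
    -- `n' ≡ p^(k-j) m'` contradiction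
    set j := n.factorization p with hj
    set k := m.factorization p with hk
    have hn' : p ^ j * (n / p ^ j) = n := Nat.ordProj_mul_ordCompl_eq_self n p
    have hm' : p ^ k * (m / p ^ k) = m := Nat.ordProj_mul_ordCompl_eq_self m p
    have hnd : ¬ p ∣ n / p ^ j := Nat.not_dvd_ordCompl hp.1 hn
    apply hnd
    apply dvd_of_memLocalIdeal_natCast hM
    have hmul := MemLocalIdeal.mul_left hM.2.1
      (memLocalRing_natCast hM.2.1 (p ^ (k - j) * (m / p ^ k))) h
    have e : (((p ^ (k - j) * (m / p ^ k) : ℕ) : ℕ) : ℂ) * ((n : ℂ) / (m : ℂ) - 1) =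
        ((n / p ^ j : ℕ) : ℂ) - ((p ^ (k - j - 1) * (m / p ^ k) : ℕ) : ℂ) * (p : ℂ) := by
      have h1 : p ^ (k - j) * (m / p ^ k) * n = (n / p ^ j) * m := by
        calc p ^ (k - j) * (m / p ^ k) * n
            = p ^ (k - j) * (m / p ^ k) * (p ^ j * (n / p ^ j)) := by rw [hn']
          _ = (n / p ^ j) * (p ^ (k - j + j) * (m / p ^ k)) := by rw [pow_add]; ring
          _ = (n / p ^ j) * (p ^ k * (m / p ^ k)) := by rw [Nat.sub_add_cancel hlt.le]
          _ = (n / p ^ j) * m := by rw [hm']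
      have h2 : p ^ (k - j) = p ^ (k - j - 1) * p := by
        rw [← pow_succ]
        congr 1
        omega
      have h1' : ((p ^ (k - j) * (m / p ^ k) : ℕ) : ℂ) * (n : ℂ) =
          ((n / p ^ j : ℕ) : ℂ) * (m : ℂ) := by exact_mod_cast h1
      have h2' : ((p ^ (k - j) * (m / p ^ k) : ℕ) : ℂ) =
          ((p ^ (k - j - 1) * (m / p ^ k) : ℕ) : ℂ) * (p : ℂ) := by
        rw [h2]
        push_cast
        ring
      have h1'' : ((p ^ (k - j) * (m / p ^ k) : ℕ) : ℂ) * ((n : ℂ) / (m : ℂ)) =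
          ((n / p ^ j : ℕ) : ℂ) := by
        rw [mul_div_assoc', h1', mul_div_assoc, div_self hm0, mul_one]
      rw [mul_sub, mul_one, h1'', h2']
    rw [e] at hmul
    have h3 := MemLocalIdeal.mul_left hM.2.1
      (memLocalRing_natCast hM.2.1 (p ^ (k - j - 1) * (m / p ^ k))) (memLocalIdeal_prime hM)
    have := MemLocalIdeal.add hM.2.1 hmul h3
    rwa [sub_add_cancel] at this
  omega

end Arith

end Cfsg.Agent.Helper6
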