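import Mathlib
import Cfsg.Prelude.Def_Characters
import Cfsg.Prelude.Def_Blocks
import Cfsg.Agent.Helper6.CharCongr

/-!
# Existence and uniqueness of `p`-parts
-/

set_option autoImplicit false
set_option linter.style.haveILetI false

namespace Cfsg.Agent.Helper6

universe u

variable {G : Type u} [Group G]

/-- every element of a finite group has a `p`-part -/
theorem exists_isPPart [Finite G] (p : ℕ) [hp : Fact p.Prime] (g : G) :
    ∃ x : G, Cfsg.IsPPart p g x := by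
  have hn : orderOf g ≠ 0 := (orderOf_pos g).ne'
  obtain ⟨k, m, hm, hnm⟩ := Nat.exists_eq_pow_mul_and_not_dvd hn p hp.1.ne_one
  have hcop : Nat.Coprime (p ^ k) m := Nat.Coprime.pow_left k ((Nat.Prime.coprime_iff_not_dvd hp.1).mpr hm)
  obtain ⟨u, v, huv⟩ := Nat.Coprime.isCoprime hcop
  have hgn : g ^ ((p ^ k : ℕ) * (m : ℕ) : ℤ) = 1 := by
    have : ((p ^ k : ℕ) * (m : ℕ) : ℤ) = ((p ^ k * m : ℕ) : ℤ) := by push_cast; rfl
    rw [this, zpow_natCast, ← hnm, pow_orderOf_eq_one]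
  refine ⟨g ^ (v * (m : ℤ)), g ^ (u * ((p ^ k : ℕ) : ℤ)), ?_, ?_, ?_, ?_⟩
  · rw [← zpow_add, add_comm, huv, zpow_one]
  · exact Commute.zpow_zpow_self g _ _
  · have h1 : (g ^ (v * (m : ℤ))) ^ (p ^ k) = 1 := by
      rw [← zpow_natCast, ← zpow_mul]
      have : v * (m : ℤ) * ((p ^ k : ℕ) : ℤ) = ((p ^ k : ℕ) * (m : ℕ) : ℤ) * v := by ring
      rw [this, zpow_mul, hgn, one_zpow]
    have h2 := orderOf_dvd_of_pow_eq_one h1
    obtain ⟨i, _, hi⟩ := (Nat.dvd_prime_pow hp.1).mp h2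
    exact ⟨i, hi⟩
  · have h1 : (g ^ (u * ((p ^ k : ℕ) : ℤ))) ^ m = 1 := by
      rw [← zpow_natCast, ← zpow_mul]
      have : u * ((p ^ k : ℕ) : ℤ) * (m : ℤ) = ((p ^ k : ℕ) * (m : ℕ) : ℤ) * u := by ring
      rw [this, zpow_mul, hgn, one_zpow]
    have h2 := orderOf_dvd_of_pow_eq_one h1
    intro h3
    exact hm (dvd_trans h3 h2)

end Cfsg.Agent.Helper6
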