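import Mathlib
import Cfsg.Prelude.Def_Characters
import Cfsg.Prelude.Def_Blocks
import Cfsg.Agent.Helper6.BrauerIdem
import Cfsg.Agent.Helper6.SylowFusion
import Cfsg.Agent.Helper6.MinMaxOrder
import Cfsg.Agent.Helper6.DefectOrder
import Cfsg.Agent.Helper6.DefectClass

/-!
# Brauer's First Main Theorem
-/

set_option autoImplicit false
set_option linter.style.haveILetI false

namespace Cfsg.Agent.Helper6

open scoped ComplexConjugate

universe u

variable {G : Type u} [Group G] {M : Ideal Cfsg.AlgInt}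

theorem card_centralizer_subgroup (H : Subgroup G) (h : H) :
    Nat.card (Subgroup.centralizer ({h} : Set H)) =
      Nat.card ((Subgroup.centralizer ({(h : G)} : Set G)) ⊓ H : Subgroup G) := by
  have e : (Subgroup.centralizer ({h} : Set H)).map H.subtype =
      Subgroup.centralizer ({(h : G)} : Set G) ⊓ H := by
    ext x
    constructor
    · rintro ⟨y, hy, rfl⟩
      refine ⟨?_, y.2⟩
      have hy' := Subgroup.mem_centralizer_singleton_iff.mp hy
      exact Subgroup.mem_centralizer_singleton_iff.mpr (congrArg Subtype.val hy')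
    · rintro ⟨hx1, hx2⟩
      refine ⟨⟨x, hx2⟩, ?_, rfl⟩
      have hx1' := Subgroup.mem_centralizer_singleton_iff.mp hx1
      exact Subgroup.mem_centralizer_singleton_iff.mpr (Subtype.ext hx1')
  rw [← e, Subgroup.card_subtype]

/-- if `P` is a Sylow subgroup of `C_H(h)` for `H = N(P)`, it is a Sylow subgroup of `C_G(h)` -/
theorem card_eq_of_sylow_centralizer_normalizer [Finite G] {p : ℕ} [hp : Fact p.Prime]
    (P H : Subgroup G) (hHN : H ≤ Subgroup.normalizer (P : Set G))
    (hNH : Subgroup.normalizer (P : Set G) ≤ H) (h : H)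
    (hPh : P ≤ Subgroup.centralizer ({(h : G)} : Set G))
    (hcard : Nat.card P = p ^ (Nat.card (Subgroup.centralizer ({h} : Set H))).factorization p) :
    Nat.card P = p ^ (Nat.card (Subgroup.centralizer ({(h : G)} : Set G))).factorization p := by
  have e : Subgroup.centralizer ({(h : G)} : Set G) ⊓ H =
      Subgroup.centralizer ({(h : G)} : Set G) ⊓ Subgroup.normalizer (P : Set G) :=
    le_antisymm (inf_le_inf_left _ hHN) (inf_le_inf_left _ hNH)
  rw [card_centralizer_subgroup, e] at hcard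
  exact card_eq_of_sylow_inf_normalizer P _ hPh hcard

/-- at a class with defect group `P`, the Brauer central character is the central character -/
theorem brauerCentralChar_eq_centralChar [Finite G] {p : ℕ} [hp : Fact p.Prime]
    (P H : Subgroup G) (hHN : H ≤ Subgroup.normalizer (P : Set G))
    (hNH : Subgroup.normalizer (P : Set G) ≤ H) (ξ : H → ℂ) (hξ : Cfsg.IsClassFunction H ξ)
    (h : H) (hPh : P ≤ Subgroup.centralizer ({(h : G)} : Set G))
    (hcard : Nat.card P =
      p ^ (Nat.card (Subgroup.centralizer ({(h : G)} : Set G))).factorization p) :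
    Cfsg.brauerCentralChar P H ξ (h : G) = Cfsg.centralChar ξ h := by
  classical
  haveI : Fintype H := Fintype.ofFinite H
  have hhc : (h : G) ∈ Subgroup.centralizer (P : Set G) := by
    rw [Subgroup.mem_centralizer_iff]
    intro u hu
    exact Subgroup.mem_centralizer_singleton_iff.mp (hPh hu)
  have hiff : ∀ t : H, (IsConj (h : G) (t : G) ∧ (t : G) ∈ Subgroup.centralizer (P : Set G)) ↔
      IsConj h t := by
    intro t
    constructor
    · rintro ⟨h1, h2⟩
      obtain ⟨a, ha⟩ := isConj_iff.mp h1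
      rw [← ha] at h2
      obtain ⟨n, hn, hn2⟩ := exists_normalizer_conj_of_sylow_centralizer P (h : G) hPh hcard a h2
      rw [isConj_iff]
      refine ⟨⟨n, hNH hn⟩, Subtype.ext ?_⟩
      show n * (h : G) * n⁻¹ = (t : G)
      rw [hn2, ha]
    · intro h1
      obtain ⟨x, hx⟩ := isConj_iff.mp h1
      have e : (t : G) = (x : G) * (h : G) * (x : G)⁻¹ := by rw [← hx]; rfl
      refine ⟨isConj_iff.mpr ⟨(x : G), e.symm⟩, ?_⟩
      rw [e]
      exact conj_mem_centralizer_of_mem_normalizer P (hHN x.2) hhc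
  unfold Cfsg.brauerCentralChar
  rw [finsum_mem_eq_sum_ite]
  have h2 : ∑ t ∈ classFinset h, ξ h / ξ 1 = Cfsg.centralChar ξ h := by
    rw [Finset.sum_const, card_classFinset, nsmul_eq_mul]
    unfold Cfsg.centralChar
    rw [mul_div_assoc]
  rw [← h2]
  unfold classFinset
  rw [Finset.sum_filter]
  apply Finset.sum_congr rfl
  intro t _
  have m2 : t ∈ {t : H | IsConj (h : G) (t : G) ∧
    (t : G) ∈ Subgroup.centralizer (P : Set G)} ↔ (IsConj (h : G) (t : G) ∧
    (t : G) ∈ Subgroup.centralizer (P : Set G)) := Iff.rfl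
  by_cases hc : IsConj h t
  · rw [if_pos (m2.mpr ((hiff t).mpr hc)), if_pos hc]
    obtain ⟨x, hx⟩ := isConj_iff.mp hc
    rw [← hx, hξ]
  · rw [if_neg (fun h' => hc ((hiff t).mp (m2.mp h'))), if_neg hc]

section Main

variable [Finite G] {p : ℕ} [hp : Fact p.Prime]

/-- **First Main Theorem, (i)** -/
theorem firstMain_i (hM : Cfsg.IsPModular p M) (D : Subgroup G) (hD : IsPGroup p D)
    (b : Set (Cfsg.IrrCharacter (Subgroup.normalizer (D : Set G)))) (hb : Cfsg.IsPBlock M b)
    (hDb : Cfsg.IsDefectGroup p M b (D.subgroupOf (Subgroup.normalizer (D : Set G)))) :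
    ∃ B : Set (Cfsg.IrrCharacter G), Cfsg.IsPBlock M B ∧ Cfsg.IsDefectGroup p M B D ∧
      Cfsg.IsInducedBlock M (Subgroup.normalizer (D : Set G)) b B := by
  classical
  have hDN : D ≤ Subgroup.normalizer (D : Set G) := Subgroup.le_normalizer
  have hCN : Subgroup.centralizer (D : Set G) ≤ Subgroup.normalizer (D : Set G) :=
    Subgroup.centralizer_le_normalizer _
  obtain ⟨ξ₀, rfl⟩ := hb
  obtain ⟨χ₀, hχ₀⟩ := exists_irr_brauerCentralChar hM D _ hD hCN le_rfl ξ₀
  have hind := isInducedBlock_of_brauer hM D _ hD hDN le_rfl ξ₀ χ₀ hχ₀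
  have hB : Cfsg.IsPBlock M (Cfsg.blockOf M (χ₀ : G → ℂ)) := ⟨χ₀, rfl⟩
  have hDb' := hDb
  obtain ⟨h, hh, S, hS⟩ := hDb
  have hcardD' : Nat.card D = p ^ (Nat.card (Subgroup.centralizer
      ({h} : Set (Subgroup.normalizer (D : Set G))))).factorization p := by
    rw [← card_sylow_map S, ← hS]
    exact (Nat.card_congr (Subgroup.subgroupOfEquivOfLe hDN).toEquiv).symm
  have hDh : D ≤ Subgroup.centralizer ({(h : G)} : Set G) := by
    intro u hu
    have h1 : (⟨u, hDN hu⟩ : Subgroup.normalizer (D : Set G)) ∈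
        D.subgroupOf (Subgroup.normalizer (D : Set G)) := Subgroup.mem_subgroupOf.mpr hu
    rw [hS] at h1
    have h2 := sylow_map_le S h1
    have h3 := Subgroup.mem_centralizer_singleton_iff.mp h2
    exact Subgroup.mem_centralizer_singleton_iff.mpr (congrArg Subtype.val h3)
  have hcardD := card_eq_of_sylow_centralizer_normalizer D _ le_rfl le_rfl h hDh hcardD'
  have h1 := hh.2.2 ξ₀ (mem_blockOf_self hM.2.1 ξ₀)
  have hξcf := IsCharacter.isClassFunction (IsIrrCharacter.isCharacter ξ₀.2)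
  have h2 := brauerCentralChar_eq_centralChar D _ le_rfl le_rfl (ξ₀ : _ → ℂ) hξcf h hDh hcardD
  have h3 : ¬ Cfsg.MemLocalIdeal M (Cfsg.centralChar (χ₀ : G → ℂ) (h : G)) := by
    intro hcon
    apply h1
    have := MemLocalIdeal.add hM.2.1 (hχ₀ (h : G)) hcon
    rwa [sub_add_cancel, h2] at this
  obtain ⟨E, hE, hle⟩ := exists_defectGroup_ge_of_induced hM _ _ _ hind _ hDb'
  have hDE : D ≤ E := by
    rw [Subgroup.map_subgroupOf_eq_of_le hDN] at hle
    exact hle
  have hcardE := card_defectGroup hM.2.1 p hM.2.2 _ hB E hE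
  have hle2 := blockDefect_le_of_centralChar hM.2.1 p hM.2.2 _ hB χ₀
    (mem_blockOf_self hM.2.1 χ₀) (h : G) h3
  have hcle : Nat.card E ≤ Nat.card D := by
    rw [hcardE, hcardD]
    exact Nat.pow_le_pow_right hp.1.pos hle2
  have hED : D = E := Subgroup.eq_of_le_of_card_ge hDE hcle
  exact ⟨_, hB, hED ▸ hE, hind⟩

/-- **First Main Theorem, (ii), existence** -/
theorem firstMain_ii_exists (hM : Cfsg.IsPModular p M) (D : Subgroup G) (hD : IsPGroup p D)
    (B : Set (Cfsg.IrrCharacter G)) (hB : Cfsg.IsPBlock M B)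
    (hDB : Cfsg.IsDefectGroup p M B D) :
    ∃ b : Set (Cfsg.IrrCharacter (Subgroup.normalizer (D : Set G))), Cfsg.IsPBlock M b ∧
      Cfsg.IsDefectGroup p M b (D.subgroupOf (Subgroup.normalizer (D : Set G))) ∧
      Cfsg.IsInducedBlock M (Subgroup.normalizer (D : Set G)) b B := by
  classical
  have hDN : D ≤ Subgroup.normalizer (D : Set G) := Subgroup.le_normalizer
  have hCN : Subgroup.centralizer (D : Set G) ≤ Subgroup.normalizer (D : Set G) :=
    Subgroup.centralizer_le_normalizer _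
  have hDB' := hDB
  obtain ⟨g₀, hg₀, S₀, hS₀⟩ := hDB
  have hg₀c : g₀ ∈ Subgroup.centralizer (D : Set G) := by
    rw [Subgroup.mem_centralizer_iff]
    intro u hu
    have hu' : u ∈ D := hu
    rw [hS₀] at hu'
    have h2 := sylow_map_le S₀ hu'
    exact Subgroup.mem_centralizer_singleton_iff.mp h2
  obtain ⟨ξ, χ, hχB, hcong⟩ := exists_irr_brauer_block hM D _ hD hCN le_rfl B hB g₀ hg₀c hg₀.2.1
  have hind := isInducedBlock_of_brauer hM D _ hD hDN le_rfl ξ χ hcong
  have hBeq : Cfsg.blockOf M (χ : G → ℂ) = B := by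
    obtain ⟨χB, rfl⟩ := hB
    exact (blockOf_eq_of_sameBlock hM.2.1 hχB).symm
  rw [hBeq] at hind
  have hb : Cfsg.IsPBlock M (Cfsg.blockOf M (ξ : _ → ℂ)) := ⟨ξ, rfl⟩
  obtain ⟨l, hl⟩ := exists_defectClass hM.2.1 _ hb
  obtain ⟨T⟩ : Nonempty (Sylow p (Subgroup.centralizer
    ({l} : Set (Subgroup.normalizer (D : Set G))))) := inferInstance
  have hDb : Cfsg.IsDefectGroup p M (Cfsg.blockOf M (ξ : _ → ℂ))
      ((T : Subgroup _).map (Subgroup.centralizer ({l} : Set _)).subtype) := ⟨l, hl, T, rfl⟩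
  haveI : (D.subgroupOf (Subgroup.normalizer (D : Set G))).Normal :=
    Subgroup.normal_in_normalizer
  have hle1 := normal_pSubgroup_le_defectGroup hM (D.subgroupOf (Subgroup.normalizer (D : Set G)))
    hD.comap_subtype _ hb _ hDb
  obtain ⟨E, hE, hle2⟩ := exists_defectGroup_ge_of_induced hM _ _ _ hind _ hDb
  have hcE := card_defectGroup hM.2.1 p hM.2.2 B hB E hE
  have hcD := card_defectGroup hM.2.1 p hM.2.2 B hB D hDB'
  have hc1 : Nat.card ((T : Subgroup _).map (Subgroup.centralizer ({l} : Set _)).subtype) ≤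
      Nat.card (D.subgroupOf (Subgroup.normalizer (D : Set G))) := by
    rw [Nat.card_congr (Subgroup.subgroupOfEquivOfLe hDN).toEquiv, hcD, ← hcE,
      ← Subgroup.card_subtype (Subgroup.normalizer (D : Set G))
        ((T : Subgroup _).map (Subgroup.centralizer ({l} : Set _)).subtype)]
    exact Nat.le_of_dvd Nat.card_pos (Subgroup.card_dvd_of_le hle2)
  have heq := Subgroup.eq_of_le_of_card_ge hle1 hc1
  exact ⟨_, hb, heq ▸ hDb, hind⟩

/-- **First Main Theorem, (ii), uniqueness** -/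
theorem firstMain_ii_unique (hM : Cfsg.IsPModular p M) (D : Subgroup G) (hD : IsPGroup p D)
    (B : Set (Cfsg.IrrCharacter G))
    (b₁ b₂ : Set (Cfsg.IrrCharacter (Subgroup.normalizer (D : Set G))))
    (hD₁ : Cfsg.IsDefectGroup p M b₁ (D.subgroupOf (Subgroup.normalizer (D : Set G))))
    (hD₂ : Cfsg.IsDefectGroup p M b₂ (D.subgroupOf (Subgroup.normalizer (D : Set G))))
    (hind₁ : Cfsg.IsInducedBlock M (Subgroup.normalizer (D : Set G)) b₁ B)
    (hind₂ : Cfsg.IsInducedBlock M (Subgroup.normalizer (D : Set G)) b₂ B) : b₁ = b₂ := by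
  classical
  have hDN : D ≤ Subgroup.normalizer (D : Set G) := Subgroup.le_normalizer
  have hb₁ := hind₁.1
  have hb₂ := hind₂.1
  have hB := hind₁.2.1
  have hc₁ := card_defectGroup hM.2.1 p hM.2.2 b₁ hb₁ _ hD₁
  have hc₂ := card_defectGroup hM.2.1 p hM.2.2 b₂ hb₂ _ hD₂
  have hdd : Cfsg.blockDefect p b₂ = Cfsg.blockDefect p b₁ := by
    rw [hc₁] at hc₂
    exact (Nat.pow_right_injective hp.1.two_le hc₂).symm
  obtain ⟨ξ₁, rfl⟩ := hb₁
  obtain ⟨ξ₂, rfl⟩ := hb₂
  obtain ⟨χ, hχB⟩ := hB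
  have hχ : χ ∈ B := by rw [hχB]; exact mem_blockOf_self hM.2.1 χ
  haveI : (D.subgroupOf (Subgroup.normalizer (D : Set G))).Normal :=
    Subgroup.normal_in_normalizer
  apply blockOf_eq_of_sameBlock hM.2.1
  apply (sameBlock_iff_of_defect hM.2.1 p hM.2.2 _ ξ₁ ξ₂ rfl hdd).mpr
  intro l _ hlcard
  by_cases hlc : l ∈ Subgroup.centralizer
      ((D.subgroupOf (Subgroup.normalizer (D : Set G)) : Subgroup _) : Set _)
  · have hDl : D ≤ Subgroup.centralizer ({(l : G)} : Set G) := by
      intro u hu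
      have h1 : (⟨u, hDN hu⟩ : Subgroup.normalizer (D : Set G)) ∈
          D.subgroupOf (Subgroup.normalizer (D : Set G)) := Subgroup.mem_subgroupOf.mpr hu
      have h2 := Subgroup.mem_centralizer_iff.mp hlc _ h1
      rw [Subgroup.mem_centralizer_singleton_iff]
      exact congrArg Subtype.val h2
    have hcardD' : Nat.card D = p ^ (Nat.card (Subgroup.centralizer
        ({l} : Set (Subgroup.normalizer (D : Set G))))).factorization p := by
      rw [hlcard, ← hc₁]
      exact (Nat.card_congr (Subgroup.subgroupOfEquivOfLe hDN).toEquiv).symm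
    have hcardD := card_eq_of_sylow_centralizer_normalizer D _ le_rfl le_rfl l hDl hcardD'
    have hcf₁ := IsCharacter.isClassFunction (IsIrrCharacter.isCharacter ξ₁.2)
    have hcf₂ := IsCharacter.isClassFunction (IsIrrCharacter.isCharacter ξ₂.2)
    have e₁ := brauerCentralChar_eq_centralChar D _ le_rfl le_rfl (ξ₁ : _ → ℂ) hcf₁ l hDl hcardD
    have e₂ := brauerCentralChar_eq_centralChar D _ le_rfl le_rfl (ξ₂ : _ → ℂ) hcf₂ l hDl hcardD
    have i₁ := hind₁.2.2 ξ₁ (mem_blockOf_self hM.2.1 ξ₁) χ hχ (l : G)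
    have i₂ := hind₂.2.2 ξ₂ (mem_blockOf_self hM.2.1 ξ₂) χ hχ (l : G)
    have j₁ := inducedCentralChar_sub_brauerCentralChar hM D _ hD hDN le_rfl ξ₁ (l : G)
    have j₂ := inducedCentralChar_sub_brauerCentralChar hM D _ hD hDN le_rfl ξ₂ (l : G)
    rw [e₁] at j₁
    rw [e₂] at j₂
    have k₁ := MemLocalIdeal.sub hM.2.1 i₁ j₁
    have k₂ := MemLocalIdeal.sub hM.2.1 i₂ j₂
    have := MemLocalIdeal.sub hM.2.1 k₁ k₂
    convert this using 1
    ring
  · have h1 := centralChar_memLocalIdeal_of_not_mem_centralizer hM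
      (D.subgroupOf (Subgroup.normalizer (D : Set G))) hD.comap_subtype ξ₁ l hlc
    have h2 := centralChar_memLocalIdeal_of_not_mem_centralizer hM
      (D.subgroupOf (Subgroup.normalizer (D : Set G))) hD.comap_subtype ξ₂ l hlc
    exact MemLocalIdeal.sub hM.2.1 h1 h2

end Main

end Cfsg.Agent.Helper6
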