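import Mathlib
import Cfsg.Prelude.Def_Characters
import Cfsg.Prelude.Def_Blocks
import Cfsg.Agent.Helper6.LyingOver

/-!
# Characters in the same block have the same constituents on a normal `p'`-subgroup
-/

set_option autoImplicit false
set_option linter.style.haveILetI false

namespace Cfsg.Agent.Helper6

open scoped ComplexConjugate

universe u

variable {G : Type u} [Group G] {M : Ideal Cfsg.AlgInt}

/-- The characters lying over a stable set of characters of a normal `p'`-subgroup form a union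
of blocks. -/
theorem memLocalRing_blockCoeff_lyingOver [Fintype G] (hM : M.IsMaximal) (p : ℕ) (hp : p.Prime)
    (hpM : (p : Cfsg.AlgInt) ∈ M) (N : Subgroup G) [hN : N.Normal] [Fintype N]
    (hpN : ¬ p ∣ Nat.card N) (O : Set (Cfsg.IrrCharacter N))
    (hO : ∀ g : G, ∀ θ ∈ O, conjIrr N g θ ∈ O) (g : G) :
    Cfsg.MemLocalRing M (Cfsg.blockCoeff (lyingOver N O) g) := by
  rw [blockCoeff_lyingOver N O hO g]
  by_cases hg : g ∈ N
  · rw [extendByZero_mem N _ hg]
    exact memLocalRing_blockCoeff_of_coprime hM p hp hpM hpN O _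
  · rw [extendByZero_not_mem N _ hg]
    exact memLocalRing_zero hM

theorem constituent_of_sameBlock [Fintype G] (hM : M.IsMaximal) (p : ℕ) (hp : p.Prime)
    (hpM : (p : Cfsg.AlgInt) ∈ M) (N : Subgroup G) [hN : N.Normal] [Fintype N]
    (hpN : ¬ p ∣ Nat.card N) (χ ψ : Cfsg.IrrCharacter G)
    (h : Cfsg.SameBlock M (χ : G → ℂ) (ψ : G → ℂ)) (θ : Cfsg.IrrCharacter N)
    (hχ : Cfsg.classInner (fun n : N => (χ : G → ℂ) n) (θ : N → ℂ) ≠ 0) :
    Cfsg.classInner (fun n : N => (ψ : G → ℂ) n) (θ : N → ℂ) ≠ 0 := by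
  set O : Set (Cfsg.IrrCharacter N) := orbitUnion N {θ} with hOdef
  have hO : ∀ g : G, ∀ θ' ∈ O, conjIrr N g θ' ∈ O :=
    fun g θ' hθ' => conjIrr_mem_orbitUnion N {θ} g hθ'
  have hθO : θ ∈ O := subset_orbitUnion N {θ} rfl
  have hχA : χ ∈ lyingOver N O := ⟨θ, hθO, hχ⟩
  have hsub := block_subset_of_local M hM (lyingOver N O)
    (memLocalRing_blockCoeff_lyingOver hM p hp hpM N hpN O hO) χ hχA
  have hψA : ψ ∈ lyingOver N O := hsub h
  obtain ⟨θ', hθ'O, hθ'⟩ := hψA
  obtain ⟨x, hx⟩ := hθ'O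
  have hx' : conjIrr N x θ' = θ := hx
  have hψcf := IsCharacter.isClassFunction (IsIrrCharacter.isCharacter ψ.2)
  have h1 : Cfsg.classInner (fun n : N => (ψ : G → ℂ) n) (conjFun N (θ' : N → ℂ) x) =
      Cfsg.classInner (conjFun N (fun n : N => (ψ : G → ℂ) n) x) (conjFun N (θ' : N → ℂ) x) := by
    rw [conjFun_restrict N (ψ : G → ℂ) hψcf x]
  have h2 : (θ : N → ℂ) = conjFun N (θ' : N → ℂ) x := by
    rw [← hx']
    rfl
  rw [h2, h1, classInner_conjFun]
  exact hθ'

end Cfsg.Agent.Helper6
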