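import Mathlib
import Cfsg.Prelude.Def_Characters
import Cfsg.Prelude.Def_Blocks
import Cfsg.Agent.Helper6.BlockCover4
import Cfsg.Agent.Helper6.SameConstituents

/-!
# Blocks of a group with a normal `p`-complement
-/

set_option autoImplicit false
set_option linter.style.haveILetI false

namespace Cfsg.Agent.Helper6

open scoped ComplexConjugate

universe u

variable {G : Type u} [Group G] {M : Ideal Cfsg.AlgInt}

/-- The restriction of an irreducible character to a subgroup has an irreducible constituent. -/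
theorem exists_constituent_restrict [Fintype G] (N : Subgroup G) [Fintype N]
    (χ : Cfsg.IrrCharacter G) :
    ∃ θ : Cfsg.IrrCharacter N,
      Cfsg.classInner (fun n : N => (χ : G → ℂ) n) (θ : N → ℂ) ≠ 0 := by
  classical
  haveI : Finite (Cfsg.IrrCharacter N) := irr_finite
  haveI : Fintype (Cfsg.IrrCharacter N) := Fintype.ofFinite _
  by_contra hno
  push Not at hno
  have hχc := IsIrrCharacter.isCharacter χ.2
  have hres : Cfsg.IsClassFunction N (fun n : N => (χ : G → ℂ) n) :=
    IsCharacter.isClassFunction (IsCharacter.restrict N hχc)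
  have hexp := classFunction_expansion (fun n : N => (χ : G → ℂ) n) hres
  have h1 := congrFun hexp 1
  simp only [Finset.sum_apply, Pi.smul_apply, smul_eq_mul] at h1
  have h2 : ((1 : N) : G) = 1 := rfl
  rw [h2] at h1
  have h3 : ∑ θ : Cfsg.IrrCharacter N,
      Cfsg.classInner (fun n : N => (χ : G → ℂ) n) (θ : N → ℂ) * (θ : N → ℂ) 1 = 0 := by
    apply Finset.sum_eq_zero
    intro θ _
    rw [hno θ, zero_mul]
  rw [h3] at h1
  exact IsIrrCharacter.apply_one_ne_zero χ.2 h1

/-- Blocks of a group with a normal `p`-complement `N`: two characters lie in the same block iff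
they have a common constituent on `N`. -/
theorem sameBlock_iff_common_constituent [Fintype G] (hM : M.IsMaximal) (p : ℕ)
    [hp : Fact p.Prime] (hpM : (p : Cfsg.AlgInt) ∈ M) (N : Subgroup G) [hN : N.Normal]
    [Fintype N] (hpN : ¬ p ∣ Nat.card N) (hidx : ∃ k : ℕ, N.index = p ^ k)
    (χ ψ : Cfsg.IrrCharacter G) :
    Cfsg.SameBlock M (χ : G → ℂ) (ψ : G → ℂ) ↔
      ∃ θ : Cfsg.IrrCharacter N,
        Cfsg.classInner (fun n : N => (χ : G → ℂ) n) (θ : N → ℂ) ≠ 0 ∧
        Cfsg.classInner (fun n : N => (ψ : G → ℂ) n) (θ : N → ℂ) ≠ 0 := by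
  constructor
  · intro h
    obtain ⟨θ, hθ⟩ := exists_constituent_restrict N χ
    exact ⟨θ, hθ, constituent_of_sameBlock hM p hp.out hpM N hpN χ ψ h θ hθ⟩
  · rintro ⟨θ, hχθ, hψθ⟩
    obtain ⟨B, -, huniq⟩ := covering_unique hM p hpM N hidx (Cfsg.blockOf M (θ : N → ℂ)) ⟨θ, rfl⟩
    have h1 := huniq (Cfsg.blockOf M (χ : G → ℂ))
      ⟨⟨χ, rfl⟩, χ, mem_blockOf_self hM χ, θ, mem_blockOf_self hM θ, hχθ⟩
    have h2 := huniq (Cfsg.blockOf M (ψ : G → ℂ))
      ⟨⟨ψ, rfl⟩, ψ, mem_blockOf_self hM ψ, θ, mem_blockOf_self hM θ, hψθ⟩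
    have h3 : ψ ∈ Cfsg.blockOf M (χ : G → ℂ) := by
      rw [h1, ← h2]
      exact mem_blockOf_self hM ψ
    exact h3

end Cfsg.Agent.Helper6
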