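import Mathlib
import Cfsg.Prelude.Def_Characters
import Cfsg.Prelude.Def_Blocks
import Cfsg.Prelude.Def_BrauerPairs
import Cfsg.Agent.Helper6.BrauerIdem
import Cfsg.Agent.Helper6.InducedPart
import Cfsg.Agent.Helper6.PrincipalDefect

/-!
# Brauer pairs: the block of `G` attached to a Brauer pair
-/

set_option autoImplicit false
set_option linter.style.haveILetI false

namespace Cfsg.Agent.Helper6

open scoped ComplexConjugate

universe u

variable {G : Type u} [Group G] {M : Ideal Cfsg.AlgInt}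

/-- a class function with local values pairs congruently with two class functions in the same
block -/
theorem sum_mul_sub_of_sameBlock [Fintype G] (hM : M.IsMaximal) (u : G → ℂ)
    (hu : Cfsg.IsClassFunction G u) (huloc : ∀ t, Cfsg.MemLocalRing M (u t)) (φ ψ : G → ℂ)
    (hφ : Cfsg.IsClassFunction G φ) (hψ : Cfsg.IsClassFunction G ψ)
    (h : Cfsg.SameBlock M φ ψ) :
    Cfsg.MemLocalIdeal M (∑ t, u t * (φ t / φ 1 - ψ t / ψ 1)) := by
  classical
  apply sum_mem_of_class_sums (fun z => Cfsg.MemLocalIdeal M z) (memLocalIdeal_zero hM)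
    (fun x y hx hy => MemLocalIdeal.add hM hx hy) _ _ _ Finset.univ rfl
    (fun g _ x => Finset.mem_univ _)
  intro g
  have h1 : ∑ x ∈ classFinset g, u x * (φ x / φ 1 - ψ x / ψ 1) =
      u g * (Cfsg.centralChar φ g - Cfsg.centralChar ψ g) := by
    have h2 : ∀ x ∈ classFinset g, u x * (φ x / φ 1 - ψ x / ψ 1) =
        u g * (φ x / φ 1 - ψ x / ψ 1) := by
      intro x hx
      rw [mem_classFinset] at hx
      obtain ⟨a, ha⟩ := isConj_iff.mp hx
      rw [← ha, hu]
    rw [Finset.sum_congr rfl h2, ← Finset.mul_sum, Finset.sum_sub_distrib, ← Finset.sum_div,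
      ← Finset.sum_div, sum_classFinset_classFunction φ hφ, sum_classFinset_classFunction ψ hψ]
    unfold Cfsg.centralChar
    rfl
  rw [h1]
  exact MemLocalIdeal.mul_left hM (huloc g) (h g)

/-- `brauerOmega` as a finite sum over the centralizer -/
theorem brauerOmega_eq_sum_subtype (P : Subgroup G)
    [Fintype (Subgroup.centralizer (P : Set G))] (β : G → ℂ)
    (ξ : Subgroup.centralizer (P : Set G) → ℂ) :
    Cfsg.brauerOmega P β ξ =
      ∑ x : Subgroup.centralizer (P : Set G), β (x : G) * (ξ x / ξ 1) := by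
  unfold Cfsg.brauerOmega
  rw [finsum_eq_sum_of_fintype]
  apply Finset.sum_congr rfl
  intro x _
  rw [mul_div_assoc]

/-- `brauerOmega` as a sum over the whole group against the Brauer weight -/
theorem brauerOmega_eq_sum [Fintype G] (P : Subgroup G) (β : G → ℂ)
    (ξ : Subgroup.centralizer (P : Set G) → ℂ) :
    Cfsg.brauerOmega P β ξ =
      ∑ t : G, β t * brauerWeight P (Subgroup.centralizer (P : Set G)) ξ t := by
  classical
  haveI : Fintype (Subgroup.centralizer (P : Set G)) := Fintype.ofFinite _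
  rw [brauerOmega_eq_sum_subtype, sum_mul_brauerWeight]
  apply Finset.sum_congr rfl
  intro x _
  rw [if_pos x.2]

/-- two characters of `C(P)` in the same block give congruent values of `brauerOmega` on
coefficient functions that are local class functions on `C(P)` -/
theorem brauerOmega_sub_of_sameBlock [Finite G] (hM : M.IsMaximal) (P : Subgroup G)
    (β : G → ℂ)
    (hβ : ∀ x y : Subgroup.centralizer (P : Set G), β ((y : G) * (x : G) * (y : G)⁻¹) = β x)
    (hβloc : ∀ x : Subgroup.centralizer (P : Set G), Cfsg.MemLocalRing M (β x))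
    (ξ ξ' : Cfsg.IrrCharacter (Subgroup.centralizer (P : Set G)))
    (h : Cfsg.SameBlock M (ξ : Subgroup.centralizer (P : Set G) → ℂ)
      (ξ' : Subgroup.centralizer (P : Set G) → ℂ)) :
    Cfsg.MemLocalIdeal M (Cfsg.brauerOmega P β (ξ : Subgroup.centralizer (P : Set G) → ℂ) -
      Cfsg.brauerOmega P β (ξ' : Subgroup.centralizer (P : Set G) → ℂ)) := by
  classical
  haveI : Fintype (Subgroup.centralizer (P : Set G)) := Fintype.ofFinite _
  rw [brauerOmega_eq_sum_subtype, brauerOmega_eq_sum_subtype, ← Finset.sum_sub_distrib]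
  have h1 := sum_mul_sub_of_sameBlock hM
    (fun x : Subgroup.centralizer (P : Set G) => β (x : G))
    (fun x y => hβ x y) hβloc _ _
    (IsCharacter.isClassFunction (IsIrrCharacter.isCharacter ξ.2))
    (IsCharacter.isClassFunction (IsIrrCharacter.isCharacter ξ'.2)) h
  refine (congrArg (Cfsg.MemLocalIdeal M) (Finset.sum_congr rfl ?_)).mp h1
  intro x _
  ring

/-- **the Brauer image of a local class function**, evaluated at a character of `C(P)` whose
Brauer central character is congruent to the central character of `χ` -/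
theorem brauerOmega_classFunction [Fintype G] {p : ℕ} [hp : Fact p.Prime]
    (hM : Cfsg.IsPModular p M) (P : Subgroup G) (β : G → ℂ)
    (hβ : Cfsg.IsClassFunction G β) (hβloc : ∀ t, Cfsg.MemLocalRing M (β t))
    (ξ : Cfsg.IrrCharacter (Subgroup.centralizer (P : Set G))) (χ : Cfsg.IrrCharacter G)
    (hχ : ∀ g, Cfsg.MemLocalIdeal M
      (Cfsg.brauerCentralChar P (Subgroup.centralizer (P : Set G))
        (ξ : Subgroup.centralizer (P : Set G) → ℂ) g - Cfsg.centralChar (χ : G → ℂ) g)) :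
    Cfsg.MemLocalIdeal M
      (Cfsg.brauerOmega P β (ξ : Subgroup.centralizer (P : Set G) → ℂ) -
        ∑ t : G, β t * ((χ : G → ℂ) t / (χ : G → ℂ) 1)) := by
  classical
  rw [brauerOmega_eq_sum, ← Finset.sum_sub_distrib]
  set μ := brauerWeight P (Subgroup.centralizer (P : Set G))
    (ξ : Subgroup.centralizer (P : Set G) → ℂ) with hμ
  have e3 : ∑ t : G, (β t * μ t - β t * ((χ : G → ℂ) t / (χ : G → ℂ) 1)) =
      ∑ t ∈ (Finset.univ : Finset G), β t * (μ t - (χ : G → ℂ) t / (χ : G → ℂ) 1) := by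
    apply Finset.sum_congr rfl
    intro t _
    ring
  rw [e3]
  apply sum_mem_of_class_sums (fun z => Cfsg.MemLocalIdeal M z) (memLocalIdeal_zero hM.2.1)
    (fun x y hx hy => MemLocalIdeal.add hM.2.1 hx hy) _ _ _ Finset.univ rfl
    (fun g _ x => Finset.mem_univ _)
  intro g
  have h1 : ∑ x ∈ classFinset g, β x * (μ x - (χ : G → ℂ) x / (χ : G → ℂ) 1) =
      β g * (Cfsg.brauerCentralChar P (Subgroup.centralizer (P : Set G))
        (ξ : Subgroup.centralizer (P : Set G) → ℂ) g - Cfsg.centralChar (χ : G → ℂ) g) := by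
    have h2 : ∀ x ∈ classFinset g, β x * (μ x - (χ : G → ℂ) x / (χ : G → ℂ) 1) =
        β g * (μ x - (χ : G → ℂ) x / (χ : G → ℂ) 1) := by
      intro x hx
      rw [mem_classFinset] at hx
      obtain ⟨a, ha⟩ := isConj_iff.mp hx
      rw [← ha, hβ]
    rw [Finset.sum_congr rfl h2, ← Finset.mul_sum, Finset.sum_sub_distrib, ← Finset.sum_div,
      sum_classFinset_char, hμ, sum_classFinset_brauerWeight]
    unfold Cfsg.centralChar
    rfl
  rw [h1]
  exact MemLocalIdeal.mul_left hM.2.1 (hβloc g) (hχ g)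

/-- **the Brauer image of a block idempotent** at a character of `C(P)`: congruent to `1` or `0`
according as the corresponding character of `G` lies in the block or not -/
theorem brauerOmega_blockCoeff [Fintype G] {p : ℕ} [hp : Fact p.Prime]
    (hM : Cfsg.IsPModular p M) (P : Subgroup G) (B : Set (Cfsg.IrrCharacter G))
    (hB : Cfsg.IsPBlock M B)
    (ξ : Cfsg.IrrCharacter (Subgroup.centralizer (P : Set G))) (χ : Cfsg.IrrCharacter G)
    (hχ : ∀ g, Cfsg.MemLocalIdeal M
      (Cfsg.brauerCentralChar P (Subgroup.centralizer (P : Set G))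
        (ξ : Subgroup.centralizer (P : Set G) → ℂ) g - Cfsg.centralChar (χ : G → ℂ) g))
    [Decidable (χ ∈ B)] :
    Cfsg.MemLocalIdeal M
      (Cfsg.brauerOmega P (Cfsg.blockCoeff B) (ξ : Subgroup.centralizer (P : Set G) → ℂ) -
        if χ ∈ B then 1 else 0) := by
  classical
  have h := brauerOmega_classFunction hM P (Cfsg.blockCoeff B) (blockCoeff_isClassFunction B)
    (fun t => osima hM.2.1 B hB t) ξ χ hχ
  have hχ1 : (χ : G → ℂ) 1 ≠ 0 := IsIrrCharacter.apply_one_ne_zero χ.2
  have e2 : ∑ t : G, Cfsg.blockCoeff B t * ((χ : G → ℂ) t / (χ : G → ℂ) 1) =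
      if χ ∈ B then 1 else 0 := by
    have h1 : ∑ t : G, Cfsg.blockCoeff B t * ((χ : G → ℂ) t / (χ : G → ℂ) 1) =
        (∑ t, Cfsg.blockCoeff B t * (χ : G → ℂ) t) / (χ : G → ℂ) 1 := by
      rw [Finset.sum_div]
      apply Finset.sum_congr rfl
      intro t _
      ring
    rw [h1, sum_blockCoeff_mul]
    by_cases hχB : χ ∈ B
    · rw [if_pos hχB, if_pos hχB, div_self hχ1]
    · rw [if_neg hχB, if_neg hχB, zero_div]
  rw [e2] at h
  convert h using 2

/-- a block is the block of each of its members -/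
theorem eq_blockOf_of_mem (hM : M.IsMaximal) (B : Set (Cfsg.IrrCharacter G))
    (hB : Cfsg.IsPBlock M B) (χ : Cfsg.IrrCharacter G) (hχ : χ ∈ B) :
    B = Cfsg.blockOf M (χ : G → ℂ) := by
  obtain ⟨χ₀, rfl⟩ := hB
  exact blockOf_eq_of_sameBlock hM hχ

/-- **existence and uniqueness of the block of `G` of a Brauer pair** -/
theorem existsUnique_isBrauerPairOf [Fintype G] {p : ℕ} [hp : Fact p.Prime]
    (hM : Cfsg.IsPModular p M) (P : Subgroup G)
    (e : Set (Cfsg.IrrCharacter (Subgroup.centralizer (P : Set G))))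
    (hPe : Cfsg.IsBrauerPair p M P e) :
    ∃! B : Set (Cfsg.IrrCharacter G), Cfsg.IsBrauerPairOf p M B P e := by
  classical
  obtain ⟨hP, ξ₀, rfl⟩ := hPe
  obtain ⟨χ₀, hχ₀⟩ := exists_irr_brauerCentralChar hM P (Subgroup.centralizer (P : Set G)) hP
    le_rfl (Subgroup.centralizer_le_normalizer _) ξ₀
  have key : ∀ B : Set (Cfsg.IrrCharacter G), Cfsg.IsPBlock M B →
      ∀ ξ ∈ Cfsg.blockOf M (ξ₀ : Subgroup.centralizer (P : Set G) → ℂ),
        Cfsg.MemLocalIdeal M (Cfsg.brauerOmega P (Cfsg.blockCoeff B)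
          (ξ : Subgroup.centralizer (P : Set G) → ℂ) - if χ₀ ∈ B then 1 else 0) := by
    intro B hB ξ hξ
    have h1 := brauerOmega_blockCoeff hM P B hB ξ₀ χ₀ hχ₀
    have h2 := brauerOmega_sub_of_sameBlock hM.2.1 P (Cfsg.blockCoeff B)
      (fun x y => blockCoeff_isClassFunction B _ _) (fun x => osima hM.2.1 B hB _) ξ ξ₀
      (sameBlock_symm hξ)
    have := MemLocalIdeal.add hM.2.1 h2 h1
    convert this using 1
    ring
  refine ⟨Cfsg.blockOf M (χ₀ : G → ℂ), ⟨⟨hP, ξ₀, rfl⟩, ⟨χ₀, rfl⟩, ?_⟩, ?_⟩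
  · intro ξ hξ
    have := key _ ⟨χ₀, rfl⟩ ξ hξ
    rwa [if_pos (mem_blockOf_self hM.2.1 χ₀)] at this
  · rintro B' ⟨-, hB', h3⟩
    have hmem : χ₀ ∈ B' := by
      by_contra hcon
      have h4 := key B' hB' ξ₀ (mem_blockOf_self hM.2.1 ξ₀)
      rw [if_neg hcon, sub_zero] at h4
      have h5 := h3 ξ₀ (mem_blockOf_self hM.2.1 ξ₀)
      have := MemLocalIdeal.sub hM.2.1 h4 h5
      rw [sub_sub_cancel] at this
      exact not_memLocalIdeal_one this
    exact eq_blockOf_of_mem hM.2.1 B' hB' χ₀ hmem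

end Cfsg.Agent.Helper6
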