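import Mathlib
import Cfsg.Prelude.Def_Characters
import Cfsg.Prelude.Def_Blocks
import Cfsg.Prelude.Def_BlockLocal
import Cfsg.Prelude.Def_BrauerPairs
import Cfsg.Agent.Helper6.BrauerPair
import Cfsg.Agent.Helper6.SylowClassBound

/-!
# Conjugate characters of a subgroup under a normalizing element
-/

set_option autoImplicit false
set_option linter.style.haveILetI false

namespace Cfsg.Agent.Helper6

open scoped ComplexConjugate

universe u

variable {G : Type u} [Group G] {M : Ideal Cfsg.AlgInt}

/-- conjugation `k ↦ g⁻¹ k g` on a subgroup normalized by `g` -/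
def nconjHom (K : Subgroup G) (g : G) (hg : g ∈ Subgroup.normalizer (K : Set G)) : K →* K where
  toFun k := ⟨g⁻¹ * (k : G) * g, (Subgroup.mem_normalizer_iff''.mp hg (k : G)).mp k.2⟩
  map_one' := Subtype.ext (by simp)
  map_mul' a b := Subtype.ext (by
    show g⁻¹ * ((a : G) * (b : G)) * g = (g⁻¹ * (a : G) * g) * (g⁻¹ * (b : G) * g)
    group)

theorem coe_nconjHom (K : Subgroup G) (g : G) (hg : g ∈ Subgroup.normalizer (K : Set G))
    (k : K) : ((nconjHom K g hg k : K) : G) = g⁻¹ * (k : G) * g := rfl

theorem nconjHom_bijective (K : Subgroup G) (g : G)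
    (hg : g ∈ Subgroup.normalizer (K : Set G)) : Function.Bijective (nconjHom K g hg) := by
  constructor
  · intro a b hab
    have := congrArg Subtype.val hab
    rw [coe_nconjHom, coe_nconjHom] at this
    apply Subtype.ext
    exact mul_left_cancel (mul_right_cancel this)
  · intro k
    refine ⟨⟨g * (k : G) * g⁻¹, (Subgroup.mem_normalizer_iff.mp hg (k : G)).mp k.2⟩, ?_⟩
    apply Subtype.ext
    rw [coe_nconjHom]
    show g⁻¹ * (g * (k : G) * g⁻¹) * g = k
    group

/-- centralizer indices are invariant under automorphisms -/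
theorem index_centralizer_of_bijective {K : Type u} [Group K] (φ : K →* K)
    (hφ : Function.Bijective φ) (k : K) :
    (Subgroup.centralizer ({φ k} : Set K)).index = (Subgroup.centralizer ({k} : Set K)).index := by
  let e : K ≃* K := MulEquiv.ofBijective φ hφ
  have h1 : Subgroup.centralizer ({φ k} : Set K) =
      (Subgroup.centralizer ({k} : Set K)).map (e : K →* K) := by
    ext x
    rw [Subgroup.mem_centralizer_singleton_iff, Subgroup.mem_map]
    constructor
    · intro hx
      refine ⟨e.symm x, ?_, e.apply_symm_apply x⟩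
      rw [Subgroup.mem_centralizer_singleton_iff]
      apply e.injective
      rw [map_mul, map_mul, e.apply_symm_apply]
      exact hx
    · rintro ⟨y, hy, rfl⟩
      rw [Subgroup.mem_centralizer_singleton_iff] at hy
      have := congrArg φ hy
      rw [map_mul, map_mul] at this
      exact this
  rw [h1, Subgroup.index_map_equiv]

/-- the central character of a function composed with an automorphism -/
theorem centralChar_comp_of_bijective {K : Type u} [Group K] (φ : K →* K)
    (hφ : Function.Bijective φ) (θ : K → ℂ) (k : K) :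
    Cfsg.centralChar (fun x => θ (φ x)) k = Cfsg.centralChar θ (φ k) := by
  unfold Cfsg.centralChar
  show ((Subgroup.centralizer ({k} : Set K)).index : ℂ) * θ (φ k) / θ (φ 1) = _
  rw [index_centralizer_of_bijective φ hφ k, map_one]

theorem sameBlock_comp_of_bijective {K : Type u} [Group K] (φ : K →* K)
    (hφ : Function.Bijective φ) (θ ψ : K → ℂ) (h : Cfsg.SameBlock M θ ψ) :
    Cfsg.SameBlock M (fun x => θ (φ x)) (fun x => ψ (φ x)) := by
  intro k
  rw [centralChar_comp_of_bijective φ hφ, centralChar_comp_of_bijective φ hφ]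
  exact h (φ k)

/-- the conjugate of an irreducible character by a normalizing element -/
noncomputable def nconjIrr (K : Subgroup G) (g : G) (hg : g ∈ Subgroup.normalizer (K : Set G))
    (χ : Cfsg.IrrCharacter K) : Cfsg.IrrCharacter K :=
  ⟨fun k => (χ : K → ℂ) (nconjHom K g hg k), by
    obtain ⟨n, σ, hirr, hσ⟩ := χ.2
    haveI := hirr
    refine ⟨n, σ.comp (nconjHom K g hg), ?_, ?_⟩
    · exact isIrreducible_comp_surjective σ (nconjHom K g hg) (nconjHom_bijective K g hg).2
    · funext k
      rw [← hσ]
      rfl⟩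

theorem nconjIrr_apply (K : Subgroup G) (g : G) (hg : g ∈ Subgroup.normalizer (K : Set G))
    (χ : Cfsg.IrrCharacter K) (k : K) :
    (nconjIrr K g hg χ : K → ℂ) k = (χ : K → ℂ) (nconjHom K g hg k) := rfl

theorem isConjCharOf_nconjIrr (K : Subgroup G) (g : G)
    (hg : g ∈ Subgroup.normalizer (K : Set G)) (χ : Cfsg.IrrCharacter K) :
    Cfsg.IsConjCharOf K g (χ : K → ℂ) (nconjIrr K g hg χ : K → ℂ) := by
  intro k k' hk
  rw [nconjIrr_apply]
  have e : nconjHom K g hg k' = k := by
    apply Subtype.ext
    rw [coe_nconjHom, hk]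
    group
  rw [e]

theorem sameBlock_nconjIrr (K : Subgroup G) (g : G)
    (hg : g ∈ Subgroup.normalizer (K : Set G)) (χ ψ : Cfsg.IrrCharacter K)
    (h : Cfsg.SameBlock M (χ : K → ℂ) (ψ : K → ℂ)) :
    Cfsg.SameBlock M (nconjIrr K g hg χ : K → ℂ) (nconjIrr K g hg ψ : K → ℂ) :=
  sameBlock_comp_of_bijective (nconjHom K g hg) (nconjHom_bijective K g hg) _ _ h

/-- the principal block of a subgroup is stable under every normalizing element -/
theorem stabilizesBlock_principalBlock (K : Subgroup G) (g : G)
    (hg : g ∈ Subgroup.normalizer (K : Set G)) :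
    Cfsg.StabilizesBlock K (Cfsg.principalBlock M K) g := by
  refine ⟨hg, fun χ hχ => ⟨nconjIrr K g hg χ, ?_, isConjCharOf_nconjIrr K g hg χ⟩⟩
  have h1 : Cfsg.SameBlock M (fun _ : K => (1 : ℂ)) (χ : K → ℂ) := hχ
  exact sameBlock_comp_of_bijective (nconjHom K g hg) (nconjHom_bijective K g hg) _ _ h1

/-- the normalizer of a subgroup normalizes its centralizer -/
theorem normalizer_le_normalizer_centralizer (Q : Subgroup G) :
    Subgroup.normalizer (Q : Set G) ≤
      Subgroup.normalizer ((Subgroup.centralizer (Q : Set G) : Subgroup G) : Set G) := by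
  intro g hg
  rw [Subgroup.mem_normalizer_iff]
  intro k
  exact (conj_mem_centralizer_iff_of_mem_normalizer Q hg k).symm

/-- **the principal block of `C(Q)` with `Q` is a Brauer pair of the principal block** -/
theorem isBrauerPairOf_principal [Fintype G] {p : ℕ} [hp : Fact p.Prime]
    (hM : Cfsg.IsPModular p M) (Q : Subgroup G) (hQ : IsPGroup p Q) :
    Cfsg.IsBrauerPairOf p M (Cfsg.principalBlock M G) Q
      (Cfsg.principalBlock M (Subgroup.centralizer (Q : Set G))) := by
  classical
  haveI : Fintype (Subgroup.centralizer (Q : Set G)) := Fintype.ofFinite _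
  refine ⟨⟨hQ, isPBlock_principalBlock _⟩, isPBlock_principalBlock G, fun ξ hξ => ?_⟩
  set β := Cfsg.blockCoeff (Cfsg.principalBlock M G) with hβ
  have hβcf : Cfsg.IsClassFunction G β := blockCoeff_isClassFunction _
  have hβloc : ∀ t, Cfsg.MemLocalRing M (β t) :=
    fun t => osima hM.2.1 _ (isPBlock_principalBlock G) t
  have h1 := brauerOmega_sub_of_sameBlock hM.2.1 Q β (fun x y => hβcf _ _) (fun x => hβloc _)
    ξ (trivIrr _) (sameBlock_symm hξ)
  have h2 : Cfsg.brauerOmega Q β ((trivIrr (Subgroup.centralizer (Q : Set G)) :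
      Cfsg.IrrCharacter _) : Subgroup.centralizer (Q : Set G) → ℂ) =
      ∑ x ∈ (Finset.univ : Finset G).filter (· ∈ Subgroup.centralizer (Q : Set G)), β x := by
    rw [brauerOmega_eq_sum_subtype,
      Finset.sum_subtype ((Finset.univ : Finset G).filter (· ∈ Subgroup.centralizer (Q : Set G)))
        (p := (· ∈ Subgroup.centralizer (Q : Set G))) (fun x => by simp)]
    apply Finset.sum_congr rfl
    intro x _
    show β (x : G) * ((1 : ℂ) / 1) = β (x : G)
    rw [div_one, mul_one]
  have h3 := sum_sub_sum_centralizer_memLocalIdeal hM Q hQ (Finset.univ : Finset G)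
    (fun x _ u _ => Finset.mem_univ _) β (fun x _ u _ => hβcf x u) (fun x _ => hβloc x)
  have h4 : ∑ x : G, β x = 1 := by
    have := sum_blockCoeff_mul (Cfsg.principalBlock M G) (trivIrr G)
    rw [if_pos (trivIrr_mem_principalBlock hM.2.1)] at this
    have e : ∑ g : G, Cfsg.blockCoeff (Cfsg.principalBlock M G) g *
        ((trivIrr G : Cfsg.IrrCharacter G) : G → ℂ) g = ∑ x : G, β x := by
      apply Finset.sum_congr rfl
      intro x _
      show β x * (1 : ℂ) = β x
      rw [mul_one]
    rw [e] at this
    rw [this]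
    rfl
  rw [h4, ← h2] at h3
  have := MemLocalIdeal.sub hM.2.1 h1 h3
  convert this using 1
  ring

end Cfsg.Agent.Helper6
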