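import Mathlib
import Cfsg.Prelude.Def_Characters
import Cfsg.Prelude.Def_Blocks
import Cfsg.Prelude.Def_BlockLocal
import Cfsg.Prelude.Def_BrauerPairs
import Cfsg.Agent.Helper6.ConjChar
import Cfsg.Agent.Helper6.SylowFusion

/-!
# Principal Brauer pairs
-/

set_option autoImplicit false
set_option linter.style.haveILetI false

namespace Cfsg.Agent.Helper6

open scoped ComplexConjugate

universe u

variable {G : Type u} [Group G] {M : Ideal Cfsg.AlgInt}

theorem nconjIrr_injective (K : Subgroup G) (g : G)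
    (hg : g ∈ Subgroup.normalizer (K : Set G)) : Function.Injective (nconjIrr K g hg) := by
  intro χ₁ χ₂ h
  apply Subtype.ext
  funext k
  obtain ⟨k', rfl⟩ := (nconjHom_bijective K g hg).2 k
  have := congrFun (congrArg Subtype.val h) k'
  exact this

theorem nconjIrr_mem_of_stabilizes (K : Subgroup G) (f : Set (Cfsg.IrrCharacter K)) (g : G)
    (hst : Cfsg.StabilizesBlock K f g) (χ : Cfsg.IrrCharacter K) (hχ : χ ∈ f) :
    nconjIrr K g hst.1 χ ∈ f := by
  obtain ⟨χ', hχ', hc⟩ := hst.2 χ hχ
  have e : χ' = nconjIrr K g hst.1 χ := by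
    apply Subtype.ext
    funext k'
    rw [nconjIrr_apply]
    apply hc
    rw [coe_nconjHom]
    group
  rw [← e]
  exact hχ'

/-- the idempotent coefficients of a stable set of characters are invariant under conjugation -/
theorem blockCoeff_conj_of_stabilizes [Finite G] (K : Subgroup G)
    (f : Set (Cfsg.IrrCharacter K)) (g : G) (hst : Cfsg.StabilizesBlock K f g) (k k' : K)
    (hk : (k' : G) = g * (k : G) * g⁻¹) : Cfsg.blockCoeff f k' = Cfsg.blockCoeff f k := by
  classical
  haveI : Finite (Cfsg.IrrCharacter K) := irr_finite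
  unfold Cfsg.blockCoeff
  congr 1
  symm
  apply finsum_mem_eq_of_bijOn (nconjIrr K g hst.1)
  · apply (Set.Finite.injOn_iff_bijOn_of_mapsTo (Set.toFinite f) ?_).mp
    · exact (nconjIrr_injective K g hst.1).injOn
    · intro χ hχ
      exact nconjIrr_mem_of_stabilizes K f g hst χ hχ
  · intro χ _
    have h1 : (nconjIrr K g hst.1 χ : K → ℂ) 1 = (χ : K → ℂ) 1 := by
      rw [nconjIrr_apply, map_one]
    have h2 : (nconjIrr K g hst.1 χ : K → ℂ) k' = (χ : K → ℂ) k :=
      isConjCharOf_nconjIrr K g hst.1 χ k k' hk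
    rw [h1, h2]

theorem subgroupBlockCoeff_of_mem (H : Subgroup G) (e : Set (Cfsg.IrrCharacter H)) (g : G)
    (h : g ∈ H) : Cfsg.subgroupBlockCoeff H e g = Cfsg.blockCoeff e ⟨g, h⟩ := by
  classical
  unfold Cfsg.subgroupBlockCoeff
  rw [dif_pos h]

theorem subgroupBlockCoeff_of_not_mem (H : Subgroup G) (e : Set (Cfsg.IrrCharacter H)) (g : G)
    (h : g ∉ H) : Cfsg.subgroupBlockCoeff H e g = 0 := by
  classical
  unfold Cfsg.subgroupBlockCoeff
  rw [dif_neg h]

/-- **normal inclusion of principal Brauer pairs** -/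
theorem isNormalSubpair_principal [Fintype G] {p : ℕ} [hp : Fact p.Prime]
    (hM : Cfsg.IsPModular p M) (Q P : Subgroup G) (hP : IsPGroup p P) (hQP : Q ≤ P)
    (hPN : P ≤ Subgroup.normalizer (Q : Set G)) :
    Cfsg.IsNormalSubpair p M Q (Cfsg.principalBlock M (Subgroup.centralizer (Q : Set G))) P
      (Cfsg.principalBlock M (Subgroup.centralizer (P : Set G))) := by
  classical
  haveI : Fintype (Subgroup.centralizer (P : Set G)) := Fintype.ofFinite _
  haveI : Fintype (Subgroup.centralizer (Q : Set G)) := Fintype.ofFinite _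
  have hQ : IsPGroup p Q := hP.to_le hQP
  have hCle : Subgroup.centralizer (P : Set G) ≤ Subgroup.centralizer (Q : Set G) :=
    Subgroup.centralizer_le hQP
  have hst : ∀ x ∈ P, Cfsg.StabilizesBlock (Subgroup.centralizer (Q : Set G))
      (Cfsg.principalBlock M (Subgroup.centralizer (Q : Set G))) x := fun x hx =>
    stabilizesBlock_principalBlock _ x (normalizer_le_normalizer_centralizer Q (hPN hx))
  refine ⟨⟨hQ, isPBlock_principalBlock _⟩, ⟨hP, isPBlock_principalBlock _⟩, hQP, hPN, hst,
    fun ξ hξ => ?_⟩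
  set f := Cfsg.principalBlock M (Subgroup.centralizer (Q : Set G)) with hf
  set β := Cfsg.subgroupBlockCoeff (Subgroup.centralizer (Q : Set G)) f with hβ
  have hfloc : ∀ t, Cfsg.MemLocalRing M (Cfsg.blockCoeff f t) :=
    fun t => osima hM.2.1 _ (isPBlock_principalBlock _) t
  have hβloc : ∀ t, Cfsg.MemLocalRing M (β t) := by
    intro t
    by_cases ht : t ∈ Subgroup.centralizer (Q : Set G)
    · rw [hβ, subgroupBlockCoeff_of_mem _ _ _ ht]
      exact hfloc _
    · rw [hβ, subgroupBlockCoeff_of_not_mem _ _ _ ht]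
      exact memLocalRing_zero hM.2.1
  have hβcf : ∀ x y : Subgroup.centralizer (P : Set G),
      β ((y : G) * (x : G) * (y : G)⁻¹) = β x := by
    intro x y
    have hx : (x : G) ∈ Subgroup.centralizer (Q : Set G) := hCle x.2
    have hy : (y : G) ∈ Subgroup.centralizer (Q : Set G) := hCle y.2
    have hyx : (y : G) * (x : G) * (y : G)⁻¹ ∈ Subgroup.centralizer (Q : Set G) :=
      Subgroup.mul_mem _ (Subgroup.mul_mem _ hy hx) (Subgroup.inv_mem _ hy)
    rw [hβ, subgroupBlockCoeff_of_mem _ _ _ hyx, subgroupBlockCoeff_of_mem _ _ _ hx]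
    exact blockCoeff_isClassFunction f ⟨x, hx⟩ ⟨y, hy⟩
  have h1 := brauerOmega_sub_of_sameBlock hM.2.1 P β hβcf (fun x => hβloc _)
    ξ (trivIrr _) (sameBlock_symm hξ)
  have h2 : Cfsg.brauerOmega P β ((trivIrr (Subgroup.centralizer (P : Set G)) :
      Cfsg.IrrCharacter _) : Subgroup.centralizer (P : Set G) → ℂ) =
      ∑ x ∈ (Finset.univ : Finset G).filter (· ∈ Subgroup.centralizer (P : Set G)), β x := by
    rw [brauerOmega_eq_sum_subtype,
      Finset.sum_subtype ((Finset.univ : Finset G).filter (· ∈ Subgroup.centralizer (P : Set G)))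
        (p := (· ∈ Subgroup.centralizer (P : Set G))) (fun x => by simp)]
    apply Finset.sum_congr rfl
    intro x _
    show β (x : G) * ((1 : ℂ) / 1) = β (x : G)
    rw [div_one, mul_one]
  set K : Finset G := (Finset.univ : Finset G).filter (· ∈ Subgroup.centralizer (Q : Set G))
    with hK
  have hKmem : ∀ x, x ∈ K ↔ x ∈ Subgroup.centralizer (Q : Set G) := by
    intro x; rw [hK, Finset.mem_filter]; simp
  have h3 := sum_sub_sum_centralizer_memLocalIdeal hM P hP K
    (fun x hx u hu => by
      rw [hKmem] at hx ⊢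
      exact conj_mem_centralizer_of_mem_normalizer Q (hPN hu) hx) β
    (fun x hx u hu => by
      rw [hKmem] at hx
      have hux : u * x * u⁻¹ ∈ Subgroup.centralizer (Q : Set G) :=
        conj_mem_centralizer_of_mem_normalizer Q (hPN hu) hx
      rw [hβ, subgroupBlockCoeff_of_mem _ _ _ hux, subgroupBlockCoeff_of_mem _ _ _ hx]
      exact blockCoeff_conj_of_stabilizes _ f u (hst u hu) ⟨x, hx⟩ ⟨u * x * u⁻¹, hux⟩ rfl)
    (fun x _ => hβloc x)
  have hKP : K.filter (· ∈ Subgroup.centralizer (P : Set G)) =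
      (Finset.univ : Finset G).filter (· ∈ Subgroup.centralizer (P : Set G)) := by
    ext x
    simp only [Finset.mem_filter, Finset.mem_univ, true_and, hKmem]
    exact ⟨fun h => h.2, fun h => ⟨hCle h, h⟩⟩
  have h4 : ∑ x ∈ K, β x = 1 := by
    rw [hK, Finset.sum_subtype ((Finset.univ : Finset G).filter
      (· ∈ Subgroup.centralizer (Q : Set G))) (p := (· ∈ Subgroup.centralizer (Q : Set G)))
      (fun x => by simp) β]
    have := sum_blockCoeff_mul f (trivIrr (Subgroup.centralizer (Q : Set G)))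
    rw [if_pos (trivIrr_mem_principalBlock hM.2.1)] at this
    have e : ∑ g : Subgroup.centralizer (Q : Set G), Cfsg.blockCoeff f g *
        ((trivIrr (Subgroup.centralizer (Q : Set G)) : Cfsg.IrrCharacter _) :
          Subgroup.centralizer (Q : Set G) → ℂ) g =
        ∑ x : Subgroup.centralizer (Q : Set G), β (x : G) := by
      apply Finset.sum_congr rfl
      intro x _
      rw [hβ, subgroupBlockCoeff_of_mem _ _ _ x.2]
      show Cfsg.blockCoeff f x * (1 : ℂ) = Cfsg.blockCoeff f ⟨(x : G), x.2⟩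
      rw [mul_one]
    rw [e] at this
    rw [this]
    rfl
  rw [h4, hKP, ← h2] at h3
  have := MemLocalIdeal.sub hM.2.1 h1 h3
  convert this using 1
  ring

/-- in a finite `p`-group normalizers grow -/
theorem exists_mem_normalizer_not_mem [Finite G] {p : ℕ} [hp : Fact p.Prime] (P Q : Subgroup G)
    (hP : IsPGroup p P) (hQP : Q ≤ P) (hne : Q ≠ P) :
    ∃ y ∈ P, y ∈ Subgroup.normalizer (Q : Set G) ∧ y ∉ Q := by
  haveI : Group.IsNilpotent P := hP.isNilpotent
  have hnc : NormalizerCondition P := Group.normalizerCondition_of_isNilpotent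
  have hlt : Q.subgroupOf P < ⊤ := by
    rw [lt_top_iff_ne_top]
    intro h
    rw [Subgroup.subgroupOf_eq_top] at h
    exact hne (le_antisymm hQP h)
  obtain ⟨y, hyN, hyQ⟩ := SetLike.exists_of_lt (hnc _ hlt)
  refine ⟨(y : G), y.2, ?_, fun h => hyQ (Subgroup.mem_subgroupOf.mpr h)⟩
  apply mem_normalizer_of_conj_le
  intro u hu
  have := (Subgroup.mem_normalizer_iff.mp hyN ⟨u, hQP hu⟩).mp (Subgroup.mem_subgroupOf.mpr hu)
  exact Subgroup.mem_subgroupOf.mp this

/-- **inclusion of principal Brauer pairs** -/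
theorem subpairLE_principal [Fintype G] {p : ℕ} [hp : Fact p.Prime]
    (hM : Cfsg.IsPModular p M) (P : Subgroup G) (hP : IsPGroup p P) :
    ∀ (n : ℕ) (Q : Subgroup G), Q ≤ P → Nat.card P - Nat.card Q = n →
      Cfsg.SubpairLE p M Q (Cfsg.principalBlock M (Subgroup.centralizer (Q : Set G))) P
        (Cfsg.principalBlock M (Subgroup.centralizer (P : Set G))) := by
  intro n
  induction n using Nat.strong_induction_on with
  | _ n ih =>
  intro Q hQP hn
  by_cases hne : Q = P
  · subst hne
    exact Relation.ReflTransGen.refl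
  obtain ⟨y, hyP, hyN, hyQ⟩ := exists_mem_normalizer_not_mem P Q hP hQP hne
  set Q' : Subgroup G := P ⊓ Subgroup.normalizer (Q : Set G) with hQ'
  have hQQ' : Q ≤ Q' := le_inf hQP Subgroup.le_normalizer
  have hQ'P : Q' ≤ P := inf_le_left
  have hlt : Q < Q' := lt_of_le_of_ne hQQ' (fun h => hyQ (by rw [h]; exact ⟨hyP, hyN⟩))
  have hcard : Nat.card Q < Nat.card Q' := by
    have h1 : (Q : Set G) ⊂ (Q' : Set G) := hlt
    exact Set.ncard_lt_ncard h1 (Set.toFinite _)
  have hcard2 : Nat.card Q' ≤ Nat.card P := Subgroup.card_le_of_le hQ'P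
  have hstep : Cfsg.IsNormalSubpair p M Q
      (Cfsg.principalBlock M (Subgroup.centralizer (Q : Set G))) Q'
      (Cfsg.principalBlock M (Subgroup.centralizer (Q' : Set G))) :=
    isNormalSubpair_principal hM Q Q' (hP.to_le hQ'P) hQQ' inf_le_right
  have hrest := ih (Nat.card P - Nat.card Q') (by omega) Q' hQ'P rfl
  have hstep' : Cfsg.NormalSubpairRel p M
      ⟨Q, Cfsg.principalBlock M (Subgroup.centralizer (Q : Set G))⟩
      ⟨Q', Cfsg.principalBlock M (Subgroup.centralizer (Q' : Set G))⟩ := hstep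
  exact Relation.ReflTransGen.head hstep' hrest

/-- the subgroups in an inclusion of Brauer pairs are included -/
theorem SubpairLE.le' {p : ℕ} (a b : Cfsg.BrauerPairIdx G)
    (h : Relation.ReflTransGen (Cfsg.NormalSubpairRel p M) a b) : a.1 ≤ b.1 := by
  induction h with
  | refl => exact le_rfl
  | tail _ hbc ih => exact ih.trans hbc.2.2.1

theorem SubpairLE.le {p : ℕ} {Q P : Subgroup G}
    {f : Set (Cfsg.IrrCharacter (Subgroup.centralizer (Q : Set G)))}
    {e : Set (Cfsg.IrrCharacter (Subgroup.centralizer (P : Set G)))}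
    (h : Cfsg.SubpairLE p M Q f P e) : Q ≤ P :=
  SubpairLE.le' ⟨Q, f⟩ ⟨P, e⟩ h

/-- **the principal pair on a Sylow subgroup is a maximal Brauer pair of the principal block** -/
theorem isMaximalBrauerPair_principal [Fintype G] {p : ℕ} [hp : Fact p.Prime]
    (hM : Cfsg.IsPModular p M) (S : Sylow p G) :
    Cfsg.IsMaximalBrauerPair p M (Cfsg.principalBlock M G) (S : Subgroup G)
      (Cfsg.principalBlock M (Subgroup.centralizer ((S : Subgroup G) : Set G))) := by
  refine ⟨isBrauerPairOf_principal hM _ S.isPGroup', fun R g hRg hle => ?_⟩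
  have h1 : (S : Subgroup G) ≤ R := SubpairLE.le hle
  have h2 : IsPGroup p R := hRg.1.1
  exact (S.is_maximal' h2 h1).symm ▸ rfl

/-- centralizer indices are invariant under isomorphisms -/
theorem index_centralizer_mulEquiv' {K K' : Type u} [Group K] [Group K'] (φ : K ≃* K') (k : K) :
    (Subgroup.centralizer ({φ k} : Set K')).index =
      (Subgroup.centralizer ({k} : Set K)).index := by
  have h1 : Subgroup.centralizer ({φ k} : Set K') =
      (Subgroup.centralizer ({k} : Set K)).map (φ : K →* K') := by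
    ext x
    rw [Subgroup.mem_centralizer_singleton_iff, Subgroup.mem_map]
    constructor
    · intro hx
      refine ⟨φ.symm x, ?_, φ.apply_symm_apply x⟩
      rw [Subgroup.mem_centralizer_singleton_iff]
      apply φ.injective
      rw [map_mul, map_mul, φ.apply_symm_apply]
      exact hx
    · rintro ⟨y, hy, rfl⟩
      rw [Subgroup.mem_centralizer_singleton_iff] at hy
      have := congrArg φ hy
      rw [map_mul, map_mul] at this
      exact this
  rw [h1, Subgroup.index_map_equiv]

theorem centralChar_comp_mulEquiv {K K' : Type u} [Group K] [Group K'] (φ : K ≃* K')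
    (θ : K' → ℂ) (k : K) :
    Cfsg.centralChar (fun x => θ (φ x)) k = Cfsg.centralChar θ (φ k) := by
  unfold Cfsg.centralChar
  show ((Subgroup.centralizer ({k} : Set K)).index : ℂ) * θ (φ k) / θ (φ 1) = _
  rw [index_centralizer_mulEquiv' φ k, map_one]

theorem sameBlock_comp_mulEquiv {K K' : Type u} [Group K] [Group K'] (φ : K ≃* K')
    (θ ψ : K' → ℂ) (h : Cfsg.SameBlock M θ ψ) :
    Cfsg.SameBlock M (fun x => θ (φ x)) (fun x => ψ (φ x)) := by
  intro k
  rw [centralChar_comp_mulEquiv φ, centralChar_comp_mulEquiv φ]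
  exact h (φ k)

/-- transport of an irreducible character along an isomorphism -/
noncomputable def irrComp {K K' : Type u} [Group K] [Group K'] (φ : K ≃* K')
    (χ : Cfsg.IrrCharacter K') : Cfsg.IrrCharacter K :=
  ⟨fun k => (χ : K' → ℂ) (φ k), by
    obtain ⟨n, σ, hirr, hσ⟩ := χ.2
    haveI := hirr
    refine ⟨n, σ.comp (φ : K →* K'), ?_, ?_⟩
    · exact isIrreducible_comp_surjective σ (φ : K →* K') φ.surjective
    · funext k
      rw [← hσ]
      rfl⟩

theorem irrComp_apply {K K' : Type u} [Group K] [Group K'] (φ : K ≃* K')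
    (χ : Cfsg.IrrCharacter K') (k : K) : (irrComp φ χ : K → ℂ) k = (χ : K' → ℂ) (φ k) := rfl

/-- conjugation by `x` as an isomorphism from `C(Q)` to `C(xQx⁻¹)` -/
def centConjEquiv (Q : Subgroup G) (x : G) :
    Subgroup.centralizer (Q : Set G) ≃*
      Subgroup.centralizer ((Q.map (MulAut.conj x).toMonoidHom : Subgroup G) : Set G) where
  toFun c := ⟨x * (c : G) * x⁻¹, by
    rw [Subgroup.mem_centralizer_iff]
    rintro h ⟨u, hu, rfl⟩
    have h1 : u * (c : G) = (c : G) * u := Subgroup.mem_centralizer_iff.mp c.2 u hu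
    show x * u * x⁻¹ * (x * (c : G) * x⁻¹) = x * (c : G) * x⁻¹ * (x * u * x⁻¹)
    calc x * u * x⁻¹ * (x * (c : G) * x⁻¹) = x * (u * (c : G)) * x⁻¹ := by group
      _ = x * ((c : G) * u) * x⁻¹ := by rw [h1]
      _ = x * (c : G) * x⁻¹ * (x * u * x⁻¹) := by group⟩
  invFun c' := ⟨x⁻¹ * (c' : G) * x, by
    rw [Subgroup.mem_centralizer_iff]
    intro u hu
    have hu' : x * u * x⁻¹ ∈ (Q.map (MulAut.conj x).toMonoidHom : Subgroup G) := ⟨u, hu, rfl⟩
    have h1 : x * u * x⁻¹ * (c' : G) = (c' : G) * (x * u * x⁻¹) :=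
      Subgroup.mem_centralizer_iff.mp c'.2 _ hu'
    calc u * (x⁻¹ * (c' : G) * x) = x⁻¹ * (x * u * x⁻¹ * (c' : G)) * x := by group
      _ = x⁻¹ * ((c' : G) * (x * u * x⁻¹)) * x := by rw [h1]
      _ = x⁻¹ * (c' : G) * x * u := by group⟩
  left_inv c := Subtype.ext (by
    show x⁻¹ * (x * (c : G) * x⁻¹) * x = c
    group)
  right_inv c' := Subtype.ext (by
    show x * (x⁻¹ * (c' : G) * x) * x⁻¹ = c'
    group)
  map_mul' a b := Subtype.ext (by
    show x * ((a : G) * (b : G)) * x⁻¹ = (x * (a : G) * x⁻¹) * (x * (b : G) * x⁻¹)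
    group)

theorem coe_centConjEquiv (Q : Subgroup G) (x : G) (c : Subgroup.centralizer (Q : Set G)) :
    ((centConjEquiv Q x c : _) : G) = x * (c : G) * x⁻¹ := rfl

/-- **the conjugate of a principal block is the principal block** -/
theorem conjBlock_principal (Q : Subgroup G) (x : G) :
    Cfsg.conjBlock Q x (Cfsg.principalBlock M (Subgroup.centralizer (Q : Set G))) =
      Cfsg.principalBlock M
        (Subgroup.centralizer ((Q.map (MulAut.conj x).toMonoidHom : Subgroup G) : Set G)) := by
  ext ξ'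
  constructor
  · rintro ⟨ξ, hξ, h⟩
    have h1 : Cfsg.SameBlock M (fun _ : Subgroup.centralizer (Q : Set G) => (1 : ℂ))
        (ξ : Subgroup.centralizer (Q : Set G) → ℂ) := hξ
    have h2 := sameBlock_comp_mulEquiv (M := M) (centConjEquiv Q x).symm _ _ h1
    have e : (fun k' => (ξ : Subgroup.centralizer (Q : Set G) → ℂ)
        ((centConjEquiv Q x).symm k')) = (ξ' : _ → ℂ) := by
      funext k'
      symm
      apply h
      show (k' : G) = x * (x⁻¹ * (k' : G) * x) * x⁻¹
      group
    rw [e] at h2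
    exact h2
  · intro hξ'
    have h1 : Cfsg.SameBlock M (fun _ : Subgroup.centralizer
        ((Q.map (MulAut.conj x).toMonoidHom : Subgroup G) : Set G) => (1 : ℂ))
        (ξ' : _ → ℂ) := hξ'
    refine ⟨irrComp (centConjEquiv Q x) ξ', ?_, ?_⟩
    · exact sameBlock_comp_mulEquiv (M := M) (centConjEquiv Q x) _ _ h1
    · intro c c' hc
      rw [irrComp_apply]
      have e : c' = centConjEquiv Q x c := by
        apply Subtype.ext
        rw [coe_centConjEquiv, hc]
      rw [e]

end Cfsg.Agent.Helper6
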