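import Mathlib
import Cfsg.Prelude.Def_Characters
import Cfsg.Prelude.Def_Blocks
import Cfsg.Prelude.Def_BlockLocal
import Cfsg.Prelude.Def_BrauerPairs
import Cfsg.Agent.Helper6.PrincipalPairs

/-!
# The Brauer map is multiplicative modulo the local ideal
-/

set_option autoImplicit false
set_option linter.style.haveILetI false

namespace Cfsg.Agent.Helper6

open scoped ComplexConjugate

universe u

variable {G : Type u} [Group G] {M : Ideal Cfsg.AlgInt}

/-- invariance of a coefficient function under conjugation by the elements of a subgroup -/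
def ConjInv (S : Subgroup G) (β : G → ℂ) : Prop := ∀ x : G, ∀ u ∈ S, β (u * x * u⁻¹) = β x

/-- convolution of coefficient functions (the product of the group algebra) -/
noncomputable def cnv [Fintype G] (β γ : G → ℂ) (g : G) : ℂ := ∑ t, β t * γ (g * t⁻¹)

theorem ConjInv.mono {S S' : Subgroup G} (h : S' ≤ S) {β : G → ℂ} (hβ : ConjInv S β) :
    ConjInv S' β := fun x u hu => hβ x u (h hu)

theorem conjInv_of_isClassFunction (S : Subgroup G) (β : G → ℂ)
    (hβ : Cfsg.IsClassFunction G β) : ConjInv S β := fun x u _ => hβ x u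

theorem cnv_conjInv [Fintype G] (S : Subgroup G) (β γ : G → ℂ) (hβ : ConjInv S β)
    (hγ : ConjInv S γ) : ConjInv S (cnv β γ) := by
  intro x u hu
  unfold cnv
  rw [← Equiv.sum_comp (MulAut.conj u).toEquiv]
  apply Finset.sum_congr rfl
  intro s _
  have e1 : (MulAut.conj u).toEquiv s = u * s * u⁻¹ := rfl
  rw [e1, hβ s u hu]
  have e2 : u * x * u⁻¹ * (u * s * u⁻¹)⁻¹ = u * (x * s⁻¹) * u⁻¹ := by group
  rw [e2, hγ _ u hu]

/-- **pointwise multiplicativity of the Brauer map** -/
theorem cnv_sub_sum_centralizer [Fintype G] {p : ℕ} [hp : Fact p.Prime]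
    (hM : Cfsg.IsPModular p M) (P : Subgroup G) (hP : IsPGroup p P) (β γ : G → ℂ)
    (hβ : ConjInv P β) (hγ : ConjInv P γ) (hβloc : ∀ t, Cfsg.MemLocalRing M (β t))
    (hγloc : ∀ t, Cfsg.MemLocalRing M (γ t)) (g : G)
    (hg : g ∈ Subgroup.centralizer (P : Set G))
    [DecidablePred (· ∈ Subgroup.centralizer (P : Set G))] :
    Cfsg.MemLocalIdeal M (cnv β γ g -
      ∑ t ∈ (Finset.univ : Finset G).filter (· ∈ Subgroup.centralizer (P : Set G)),
        β t * γ (g * t⁻¹)) := by
  unfold cnv
  apply sum_sub_sum_centralizer_memLocalIdeal hM P hP Finset.univ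
    (fun _ _ _ _ => Finset.mem_univ _) (fun t => β t * γ (g * t⁻¹))
  · intro x _ u hu
    show β (u * x * u⁻¹) * γ (g * (u * x * u⁻¹)⁻¹) = β x * γ (g * x⁻¹)
    have hcomm : u * g = g * u := Subgroup.mem_centralizer_iff.mp hg u hu
    have e : g * (u * x * u⁻¹)⁻¹ = u * (g * x⁻¹) * u⁻¹ := by
      calc g * (u * x * u⁻¹)⁻¹ = (g * u) * x⁻¹ * u⁻¹ := by group
        _ = (u * g) * x⁻¹ * u⁻¹ := by rw [hcomm]
        _ = u * (g * x⁻¹) * u⁻¹ := by group
    rw [e, hβ x u hu, hγ _ u hu]
  · intro x _
    exact MemLocalRing.mul hM.2.1 (hβloc _) (hγloc _)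

section Vec

variable {H : Type u} [Group H] [Fintype H] [Fintype (Cfsg.IrrCharacter H)]

omit [Fintype (Cfsg.IrrCharacter H)] in
/-- the central character values of a class function with values in the local ideal lie in the
local ideal -/
theorem classVec_memLocalIdeal (hM : M.IsMaximal) (d : H → ℂ) (hd : Cfsg.IsClassFunction H d)
    (hdJ : ∀ h, Cfsg.MemLocalIdeal M (d h)) (ξ : Cfsg.IrrCharacter H) :
    Cfsg.MemLocalIdeal M (classVec d ξ) := by
  classical
  unfold classVec
  apply sum_mem_of_class_sums (fun z => Cfsg.MemLocalIdeal M z) (memLocalIdeal_zero hM)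
    (fun x y hx hy => MemLocalIdeal.add hM hx hy) _ _ _ Finset.univ rfl
    (fun g _ x => Finset.mem_univ _)
  intro g
  have h1 : ∑ x ∈ classFinset g, d x * ((ξ : H → ℂ) x / (ξ : H → ℂ) 1) =
      Cfsg.centralChar (ξ : H → ℂ) g * d g := by
    have h2 : ∀ x ∈ classFinset g, d x * ((ξ : H → ℂ) x / (ξ : H → ℂ) 1) =
        d g * ((ξ : H → ℂ) x / (ξ : H → ℂ) 1) := by
      intro x hx
      rw [mem_classFinset] at hx
      obtain ⟨a, ha⟩ := isConj_iff.mp hx
      rw [← ha, hd]
    rw [Finset.sum_congr rfl h2, ← Finset.mul_sum, ← Finset.sum_div, sum_classFinset_char]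
    unfold Cfsg.centralChar
    ring
  rw [h1]
  exact MemLocalIdeal.mul_left hM
    (memLocalRing_of_isIntegral hM (isIntegral_centralChar ξ g)) (hdJ g)

omit [Fintype (Cfsg.IrrCharacter H)] in
/-- the central character values of a class function with local values are local -/
theorem classVec_memLocalRing (hM : M.IsMaximal) (d : H → ℂ) (hd : Cfsg.IsClassFunction H d)
    (hdR : ∀ h, Cfsg.MemLocalRing M (d h)) (ξ : Cfsg.IrrCharacter H) :
    Cfsg.MemLocalRing M (classVec d ξ) := by
  classical
  unfold classVec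
  apply sum_mem_of_class_sums (fun z => Cfsg.MemLocalRing M z) (memLocalRing_zero hM)
    (fun x y hx hy => MemLocalRing.add hM hx hy) _ _ _ Finset.univ rfl
    (fun g _ x => Finset.mem_univ _)
  intro g
  have h1 : ∑ x ∈ classFinset g, d x * ((ξ : H → ℂ) x / (ξ : H → ℂ) 1) =
      Cfsg.centralChar (ξ : H → ℂ) g * d g := by
    have h2 : ∀ x ∈ classFinset g, d x * ((ξ : H → ℂ) x / (ξ : H → ℂ) 1) =
        d g * ((ξ : H → ℂ) x / (ξ : H → ℂ) 1) := by
      intro x hx
      rw [mem_classFinset] at hx
      obtain ⟨a, ha⟩ := isConj_iff.mp hx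
      rw [← ha, hd]
    rw [Finset.sum_congr rfl h2, ← Finset.mul_sum, ← Finset.sum_div, sum_classFinset_char]
    unfold Cfsg.centralChar
    ring
  rw [h1]
  exact MemLocalRing.mul hM
    (memLocalRing_of_isIntegral hM (isIntegral_centralChar ξ g)) (hdR g)

omit [Fintype (Cfsg.IrrCharacter H)] in
/-- **the central character is multiplicative** -/
theorem classVec_cnv (a b : H → ℂ) (hb : Cfsg.IsClassFunction H b) (ξ : Cfsg.IrrCharacter H) :
    classVec (cnv a b) ξ = classVec a ξ * classVec b ξ := by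
  unfold classVec cnv
  simp_rw [Finset.sum_mul]
  rw [Finset.sum_comm]
  apply Finset.sum_congr rfl
  intro t _
  have htr := sum_classFunction_char_translate ξ b hb t
  have h1 : ∑ g : H, a t * b (g * t⁻¹) * ((ξ : H → ℂ) g / (ξ : H → ℂ) 1) =
      a t * ((∑ s : H, b s * (ξ : H → ℂ) (s * t)) / (ξ : H → ℂ) 1) := by
    rw [Finset.sum_div, Finset.mul_sum, ← Equiv.sum_comp (Equiv.mulRight t)]
    apply Finset.sum_congr rfl
    intro s _
    have e : (Equiv.mulRight t) s = s * t := rfl
    rw [e, mul_inv_cancel_right]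
    ring
  rw [h1, htr]
  have h2 : ∑ x : H, b x * ((ξ : H → ℂ) x / (ξ : H → ℂ) 1) =
      (∑ x : H, b x * (ξ : H → ℂ) x) / (ξ : H → ℂ) 1 := by
    rw [Finset.sum_div]
    apply Finset.sum_congr rfl
    intro x _
    ring
  rw [h2]
  ring

/-- convolution of class functions through the vectors of central character values -/
theorem cnv_eq_idemCoeff (a b : H → ℂ) (ha : Cfsg.IsClassFunction H a)
    (hb : Cfsg.IsClassFunction H b) (h : H) :
    cnv a b h = idemCoeff (classVec a * classVec b) h := by
  rw [idemCoeff_classVec_mul a ha]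
  unfold cnv
  apply Finset.sum_congr rfl
  intro t _
  rw [idemCoeff_classVec b hb]

theorem cnv_isClassFunction (a b : H → ℂ) (ha : Cfsg.IsClassFunction H a)
    (hb : Cfsg.IsClassFunction H b) : Cfsg.IsClassFunction H (cnv a b) := by
  intro h x
  rw [cnv_eq_idemCoeff a b ha hb, cnv_eq_idemCoeff a b ha hb]
  exact idemCoeff_isClassFunction _ h x

end Vec

/-- `brauerOmega` as the central character value of the truncation to the centralizer -/
theorem brauerOmega_eq_classVec (P : Subgroup G)
    [Fintype (Subgroup.centralizer (P : Set G))] (β : G → ℂ)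
    (ξ : Subgroup.centralizer (P : Set G) → ℂ) :
    Cfsg.brauerOmega P β ξ =
      ∑ x : Subgroup.centralizer (P : Set G), β (x : G) * (ξ x / ξ 1) :=
  brauerOmega_eq_sum_subtype P β ξ

/-- **the Brauer map followed by a central character is multiplicative modulo the local ideal** -/
theorem brauerOmega_cnv [Fintype G] {p : ℕ} [hp : Fact p.Prime]
    (hM : Cfsg.IsPModular p M) (P : Subgroup G) (hP : IsPGroup p P) (β γ : G → ℂ)
    (hβP : ConjInv P β) (hβC : ConjInv (Subgroup.centralizer (P : Set G)) β)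
    (hγP : ConjInv P γ) (hγC : ConjInv (Subgroup.centralizer (P : Set G)) γ)
    (hβloc : ∀ t, Cfsg.MemLocalRing M (β t)) (hγloc : ∀ t, Cfsg.MemLocalRing M (γ t))
    (ξ : Cfsg.IrrCharacter (Subgroup.centralizer (P : Set G))) :
    Cfsg.MemLocalIdeal M
      (Cfsg.brauerOmega P (cnv β γ) (ξ : Subgroup.centralizer (P : Set G) → ℂ) -
        Cfsg.brauerOmega P β (ξ : Subgroup.centralizer (P : Set G) → ℂ) *
          Cfsg.brauerOmega P γ (ξ : Subgroup.centralizer (P : Set G) → ℂ)) := by
  classical
  haveI : Fintype (Subgroup.centralizer (P : Set G)) := Fintype.ofFinite _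
  haveI : Finite (Cfsg.IrrCharacter (Subgroup.centralizer (P : Set G))) := irr_finite
  haveI : Fintype (Cfsg.IrrCharacter (Subgroup.centralizer (P : Set G))) := Fintype.ofFinite _
  set b : Subgroup.centralizer (P : Set G) → ℂ := fun c => β (c : G) with hb
  set c' : Subgroup.centralizer (P : Set G) → ℂ := fun c => γ (c : G) with hc'
  have hbcf : Cfsg.IsClassFunction (Subgroup.centralizer (P : Set G)) b :=
    fun h x => hβC (h : G) (x : G) x.2
  have hccf : Cfsg.IsClassFunction (Subgroup.centralizer (P : Set G)) c' :=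
    fun h x => hγC (h : G) (x : G) x.2
  have hd : ∀ h : Subgroup.centralizer (P : Set G),
      Cfsg.MemLocalIdeal M (cnv β γ (h : G) - cnv b c' h) := by
    intro h
    have := cnv_sub_sum_centralizer hM P hP β γ hβP hγP hβloc hγloc (h : G) h.2
    have e : ∑ t ∈ (Finset.univ : Finset G).filter (· ∈ Subgroup.centralizer (P : Set G)),
        β t * γ ((h : G) * t⁻¹) = cnv b c' h := by
      unfold cnv
      rw [Finset.sum_subtype ((Finset.univ : Finset G).filter
        (· ∈ Subgroup.centralizer (P : Set G))) (p := (· ∈ Subgroup.centralizer (P : Set G)))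
        (fun x => by simp)]
      rfl
    rwa [e] at this
  have hdcf : Cfsg.IsClassFunction (Subgroup.centralizer (P : Set G))
      (fun h => cnv β γ (h : G) - cnv b c' h) := by
    intro h x
    show cnv β γ ((x * h * x⁻¹ : Subgroup.centralizer (P : Set G)) : G) -
      cnv b c' (x * h * x⁻¹) = _
    rw [cnv_isClassFunction b c' hbcf hccf h x]
    have := cnv_conjInv _ β γ hβC hγC (h : G) (x : G) x.2
    rw [show ((x * h * x⁻¹ : Subgroup.centralizer (P : Set G)) : G) =
      (x : G) * (h : G) * (x : G)⁻¹ from rfl, this]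
  have h1 := classVec_memLocalIdeal hM.2.1 _ hdcf hd ξ
  have h2 := classVec_cnv b c' hccf ξ
  rw [brauerOmega_eq_classVec, brauerOmega_eq_classVec, brauerOmega_eq_classVec]
  unfold classVec at h1 h2
  have e : ∑ x : Subgroup.centralizer (P : Set G), cnv β γ (x : G) *
      ((ξ : Subgroup.centralizer (P : Set G) → ℂ) x /
        (ξ : Subgroup.centralizer (P : Set G) → ℂ) 1) -
      (∑ x : Subgroup.centralizer (P : Set G), β (x : G) *
        ((ξ : Subgroup.centralizer (P : Set G) → ℂ) x /
          (ξ : Subgroup.centralizer (P : Set G) → ℂ) 1)) *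
      ∑ x : Subgroup.centralizer (P : Set G), γ (x : G) *
        ((ξ : Subgroup.centralizer (P : Set G) → ℂ) x /
          (ξ : Subgroup.centralizer (P : Set G) → ℂ) 1) =
      ∑ t : Subgroup.centralizer (P : Set G), (cnv β γ (t : G) - cnv b c' t) *
        ((ξ : Subgroup.centralizer (P : Set G) → ℂ) t /
          (ξ : Subgroup.centralizer (P : Set G) → ℂ) 1) := by
    simp_rw [sub_mul]
    rw [Finset.sum_sub_distrib, h2]
  rw [e]
  exact h1

end Cfsg.Agent.Helper6
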