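import Mathlib
import Cfsg.Prelude.Def_Characters
import Cfsg.Prelude.Def_Blocks
import Cfsg.Prelude.Def_BlockLocal
import Cfsg.Prelude.Def_BrauerPairs
import Cfsg.Agent.Helper6.BrauerMult

/-!
# Descending along a normal inclusion of Brauer pairs
-/

set_option autoImplicit false
set_option linter.style.haveILetI false

namespace Cfsg.Agent.Helper6

open scoped ComplexConjugate

universe u

variable {G : Type u} [Group G] {M : Ideal Cfsg.AlgInt}

section Vec

variable {H : Type u} [Group H] [Fintype H]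

theorem classVec_sub (a b : H → ℂ) (ξ : Cfsg.IrrCharacter H) :
    classVec (fun h => a h - b h) ξ = classVec a ξ - classVec b ξ := by
  unfold classVec
  simp_rw [sub_mul]
  rw [Finset.sum_sub_distrib]

open Classical in
theorem classVec_blockCoeff (A : Set (Cfsg.IrrCharacter H)) (θ : Cfsg.IrrCharacter H) :
    classVec (Cfsg.blockCoeff A) θ = if θ ∈ A then (1 : ℂ) else 0 := by
  unfold classVec
  have hθ1 : (θ : H → ℂ) 1 ≠ 0 := IsIrrCharacter.apply_one_ne_zero θ.2
  have h1 : ∑ t, Cfsg.blockCoeff A t * ((θ : H → ℂ) t / (θ : H → ℂ) 1) =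
      (∑ t, Cfsg.blockCoeff A t * (θ : H → ℂ) t) / (θ : H → ℂ) 1 := by
    rw [Finset.sum_div]
    apply Finset.sum_congr rfl
    intro t _
    ring
  rw [h1, sum_blockCoeff_mul]
  by_cases hθ : θ ∈ A
  · rw [if_pos hθ, if_pos hθ, div_self hθ1]
  · rw [if_neg hθ, if_neg hθ, zero_div]

end Vec

/-- convolution with a function supported on a subgroup, evaluated inside the subgroup -/
theorem cnv_ext_right [Fintype G] (H : Subgroup G) [Fintype H] (γ ψ : G → ℂ) (b : H → ℂ)
    (hψ1 : ∀ x : H, ψ (x : G) = b x) (hψ0 : ∀ x, x ∉ H → ψ x = 0) (x : H) :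
    cnv γ ψ (x : G) = cnv (fun h : H => γ (h : G)) b x := by
  classical
  unfold cnv
  have h1 : ∑ t : G, γ t * ψ ((x : G) * t⁻¹) =
      ∑ t ∈ (Finset.univ : Finset G).filter (· ∈ H), γ t * ψ ((x : G) * t⁻¹) := by
    rw [Finset.sum_filter]
    apply Finset.sum_congr rfl
    intro t _
    by_cases ht : t ∈ H
    · rw [if_pos ht]
    · rw [if_neg ht, hψ0, mul_zero]
      intro hcon
      apply ht
      have := H.mul_mem (H.inv_mem hcon) x.2
      rw [mul_inv_rev, inv_inv, inv_mul_cancel_right] at this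
      exact this
  rw [h1, Finset.sum_subtype ((Finset.univ : Finset G).filter (· ∈ H)) (p := (· ∈ H))
    (fun x => by simp)]
  apply Finset.sum_congr rfl
  intro t _
  have e : (x : G) * (t : G)⁻¹ = ((x * t⁻¹ : H) : G) := rfl
  rw [e, hψ1]

theorem conjInv_subgroupBlockCoeff_self [Finite G] (H : Subgroup G)
    (f : Set (Cfsg.IrrCharacter H)) : ConjInv H (Cfsg.subgroupBlockCoeff H f) := by
  intro x u hu
  by_cases hx : x ∈ H
  · have hux : u * x * u⁻¹ ∈ H := H.mul_mem (H.mul_mem hu hx) (H.inv_mem hu)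
    rw [subgroupBlockCoeff_of_mem _ _ _ hux, subgroupBlockCoeff_of_mem _ _ _ hx]
    exact blockCoeff_isClassFunction f ⟨x, hx⟩ ⟨u, hu⟩
  · have hux : u * x * u⁻¹ ∉ H := by
      intro hcon
      apply hx
      have := H.mul_mem (H.mul_mem (H.inv_mem hu) hcon) hu
      have e : u⁻¹ * (u * x * u⁻¹) * u = x := by group
      rwa [e] at this
    rw [subgroupBlockCoeff_of_not_mem _ _ _ hux, subgroupBlockCoeff_of_not_mem _ _ _ hx]

theorem conjInv_subgroupBlockCoeff_of_stabilizes [Finite G] (H S : Subgroup G)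
    (f : Set (Cfsg.IrrCharacter H)) (hst : ∀ x ∈ S, Cfsg.StabilizesBlock H f x) :
    ConjInv S (Cfsg.subgroupBlockCoeff H f) := by
  intro x u hu
  have hun := (hst u hu).1
  by_cases hx : x ∈ H
  · have hux : u * x * u⁻¹ ∈ H := (Subgroup.mem_normalizer_iff.mp hun x).mp hx
    rw [subgroupBlockCoeff_of_mem _ _ _ hux, subgroupBlockCoeff_of_mem _ _ _ hx]
    exact blockCoeff_conj_of_stabilizes H f u (hst u hu) ⟨x, hx⟩ ⟨u * x * u⁻¹, hux⟩ rfl
  · have hux : u * x * u⁻¹ ∉ H := fun hcon => hx ((Subgroup.mem_normalizer_iff.mp hun x).mpr hcon)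
    rw [subgroupBlockCoeff_of_not_mem _ _ _ hux, subgroupBlockCoeff_of_not_mem _ _ _ hx]

theorem memLocalRing_subgroupBlockCoeff [Finite G] (hM : M.IsMaximal) (H : Subgroup G)
    (f : Set (Cfsg.IrrCharacter H)) (hf : Cfsg.IsPBlock M f) (x : G) :
    Cfsg.MemLocalRing M (Cfsg.subgroupBlockCoeff H f x) := by
  by_cases hx : x ∈ H
  · rw [subgroupBlockCoeff_of_mem _ _ _ hx]
    exact osima hM f hf _
  · rw [subgroupBlockCoeff_of_not_mem _ _ _ hx]
    exact memLocalRing_zero hM

/-- **descent along a normal inclusion**: if the Brauer image at `T` of an idempotent `β` contains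
the block `t`, and `(R, g)` is normally below `(T, t)`, then the Brauer image of `β` at `R` contains
`g` -/
theorem brauerOmega_sub_one_down [Fintype G] {p : ℕ} [hp : Fact p.Prime]
    (hM : Cfsg.IsPModular p M) (R T : Subgroup G)
    (g : Set (Cfsg.IrrCharacter (Subgroup.centralizer (R : Set G))))
    (t : Set (Cfsg.IrrCharacter (Subgroup.centralizer (T : Set G))))
    (hn : Cfsg.IsNormalSubpair p M R g T t) (β : G → ℂ) (hβT : ConjInv T β)
    (hβC : ConjInv (Subgroup.centralizer (R : Set G)) β)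
    (hβloc : ∀ x, Cfsg.MemLocalRing M (β x))
    (hidem : ∀ x ∈ Subgroup.centralizer (R : Set G), Cfsg.MemLocalIdeal M (cnv β β x - β x))
    (h1 : ∀ τ ∈ t, Cfsg.MemLocalIdeal M
      (Cfsg.brauerOmega T β (τ : Subgroup.centralizer (T : Set G) → ℂ) - 1)) :
    ∀ ζ ∈ g, Cfsg.MemLocalIdeal M
      (Cfsg.brauerOmega R β (ζ : Subgroup.centralizer (R : Set G) → ℂ) - 1) := by
  classical
  obtain ⟨⟨hR, hgB⟩, ⟨hT, htB⟩, hRT, hTN, hst, hne⟩ := hn
  haveI : Fintype (Subgroup.centralizer (R : Set G)) := Fintype.ofFinite _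
  haveI : Finite (Cfsg.IrrCharacter (Subgroup.centralizer (R : Set G))) := irr_finite
  haveI : Fintype (Cfsg.IrrCharacter (Subgroup.centralizer (R : Set G))) := Fintype.ofFinite _
  haveI : Fintype (Subgroup.centralizer (T : Set G)) := Fintype.ofFinite _
  haveI : Finite (Cfsg.IrrCharacter (Subgroup.centralizer (T : Set G))) := irr_finite
  haveI : Fintype (Cfsg.IrrCharacter (Subgroup.centralizer (T : Set G))) := Fintype.ofFinite _
  have hCle : Subgroup.centralizer (T : Set G) ≤ Subgroup.centralizer (R : Set G) :=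
    Subgroup.centralizer_le hRT
  set b : Subgroup.centralizer (R : Set G) → ℂ := fun h => β (h : G) with hb
  set φ : Subgroup.centralizer (R : Set G) → ℂ := Cfsg.blockCoeff g with hφ
  set ψ : G → ℂ := Cfsg.subgroupBlockCoeff (Subgroup.centralizer (R : Set G)) g with hψ
  have hbcf : Cfsg.IsClassFunction (Subgroup.centralizer (R : Set G)) b :=
    fun h x => hβC (h : G) (x : G) x.2
  have hφcf : Cfsg.IsClassFunction (Subgroup.centralizer (R : Set G)) φ :=
    blockCoeff_isClassFunction g
  have hbloc : ∀ h, Cfsg.MemLocalRing M (b h) := fun h => hβloc _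
  have hφloc : ∀ h, Cfsg.MemLocalRing M (φ h) := fun h => osima hM.2.1 g hgB h
  have hψloc : ∀ x, Cfsg.MemLocalRing M (ψ x) :=
    fun x => memLocalRing_subgroupBlockCoeff hM.2.1 _ g hgB x
  -- idempotency of `b` modulo the ideal
  have hbid : ∀ h : Subgroup.centralizer (R : Set G),
      Cfsg.MemLocalIdeal M (cnv b b h - b h) := by
    intro h
    have h2 := cnv_sub_sum_centralizer hM R hR β β (hβT.mono hRT) (hβT.mono hRT) hβloc hβloc
      (h : G) h.2
    have e : ∑ t ∈ (Finset.univ : Finset G).filter (· ∈ Subgroup.centralizer (R : Set G)),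
        β t * β ((h : G) * t⁻¹) = cnv b b h := by
      unfold cnv
      rw [Finset.sum_subtype ((Finset.univ : Finset G).filter
        (· ∈ Subgroup.centralizer (R : Set G))) (p := (· ∈ Subgroup.centralizer (R : Set G)))
        (fun x => by simp)]
      rfl
    rw [e] at h2
    have := MemLocalIdeal.sub hM.2.1 (hidem (h : G) h.2) h2
    convert this using 1
    simp only [hb]
    ring
  obtain ⟨ζ₀, rfl⟩ := hgB
  have hbidcf : Cfsg.IsClassFunction (Subgroup.centralizer (R : Set G))
      (fun h => cnv b b h - b h) := by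
    intro h x
    show cnv b b (x * h * x⁻¹) - b (x * h * x⁻¹) = cnv b b h - b h
    rw [cnv_isClassFunction b b hbcf hbcf h x, hbcf h x]
  have ha2 : Cfsg.MemLocalIdeal M (classVec b ζ₀ * classVec b ζ₀ - classVec b ζ₀) := by
    have := classVec_memLocalIdeal hM.2.1 (fun h => cnv b b h - b h) hbidcf hbid ζ₀
    rwa [classVec_sub, classVec_cnv b b hbcf ζ₀] at this
  have haR : Cfsg.MemLocalRing M (classVec b ζ₀) :=
    classVec_memLocalRing hM.2.1 b hbcf hbloc ζ₀
  have hΩ : ∀ ζ : Cfsg.IrrCharacter (Subgroup.centralizer (R : Set G)),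
      Cfsg.brauerOmega R β (ζ : Subgroup.centralizer (R : Set G) → ℂ) = classVec b ζ := by
    intro ζ
    rw [brauerOmega_eq_classVec]
    rfl
  have htrans : ∀ ζ ∈ Cfsg.blockOf M (ζ₀ : Subgroup.centralizer (R : Set G) → ℂ),
      Cfsg.MemLocalIdeal M (classVec b ζ - classVec b ζ₀) := by
    intro ζ hζ
    have := brauerOmega_sub_of_sameBlock hM.2.1 R β (fun x y => hβC (x : G) (y : G) y.2)
      (fun x => hβloc _) ζ ζ₀ (sameBlock_symm hζ)
    rwa [hΩ, hΩ] at this
  have hor := MemLocalIdeal.of_mul hM.2.1 haR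
    (MemLocalRing.sub hM.2.1 haR (memLocalRing_one hM.2.1))
    (by convert ha2 using 1; ring)
  rcases hor with ha | ha
  · exfalso
    have hvb : ∀ ζ ∈ Cfsg.blockOf M (ζ₀ : Subgroup.centralizer (R : Set G) → ℂ),
        Cfsg.MemLocalIdeal M (classVec b ζ) := by
      intro ζ hζ
      have := MemLocalIdeal.add hM.2.1 (htrans ζ hζ) ha
      rwa [sub_add_cancel] at this
    set w : Subgroup.centralizer (R : Set G) → ℂ := cnv b φ with hw
    have hwcf : Cfsg.IsClassFunction (Subgroup.centralizer (R : Set G)) w :=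
      cnv_isClassFunction b φ hbcf hφcf
    have hwloc : ∀ h, Cfsg.MemLocalRing M (w h) := by
      intro h
      apply MemLocalRing.sum hM.2.1
      intro t _
      exact MemLocalRing.mul hM.2.1 (hbloc _) (hφloc _)
    have hwv : ∀ ζ, classVec w ζ = classVec b ζ * classVec φ ζ := fun ζ =>
      classVec_cnv b φ hφcf ζ
    have hwvec : ∀ ζ, Cfsg.MemLocalIdeal M (classVec w ζ) := by
      intro ζ
      rw [hwv, hφ, classVec_blockCoeff]
      by_cases hζ : ζ ∈ Cfsg.blockOf M (ζ₀ : Subgroup.centralizer (R : Set G) → ℂ)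
      · rw [if_pos hζ, mul_one]
        exact hvb ζ hζ
      · rw [if_neg hζ, mul_zero]
        exact memLocalIdeal_zero hM.2.1
    have hφφ : classVec φ * classVec φ = classVec φ := by
      funext ζ
      rw [Pi.mul_apply, hφ, classVec_blockCoeff]
      split_ifs <;> simp
    have hwid : ∀ h, Cfsg.MemLocalIdeal M (∑ t, w t * w (h * t⁻¹) - w h) := by
      intro h
      have e1 : ∑ t, w t * w (h * t⁻¹) =
          ∑ t, φ t * cnv b b (h * t⁻¹) := by
        have h3 : ∑ t, w t * w (h * t⁻¹) = cnv w w h := rfl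
        rw [h3, cnv_eq_idemCoeff w w hwcf hwcf]
        have h4 : classVec w * classVec w = classVec φ * (classVec b * classVec b) := by
          have : classVec w = classVec b * classVec φ := funext hwv
          rw [this]
          calc classVec b * classVec φ * (classVec b * classVec φ) =
              (classVec φ * classVec φ) * (classVec b * classVec b) := by ring
            _ = classVec φ * (classVec b * classVec b) := by rw [hφφ]
        rw [h4, idemCoeff_classVec_mul φ hφcf]
        apply Finset.sum_congr rfl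
        intro t _
        rw [cnv_eq_idemCoeff b b hbcf hbcf]
      have e2 : w h = ∑ t, φ t * b (h * t⁻¹) := by
        rw [hw, cnv_eq_idemCoeff b φ hbcf hφcf, mul_comm, idemCoeff_classVec_mul φ hφcf]
        apply Finset.sum_congr rfl
        intro t _
        rw [idemCoeff_classVec b hbcf]
      rw [e1, e2, ← Finset.sum_sub_distrib]
      apply MemLocalIdeal.sum hM.2.1
      intro t _
      rw [← mul_sub]
      exact MemLocalIdeal.mul_left hM.2.1 (hφloc t) (hbid _)
    have hwJ : ∀ h, Cfsg.MemLocalIdeal M (w h) := by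
      intro h
      by_contra hcon
      obtain ⟨χ, hχ⟩ := exists_classVec_not_mem hM.2.1 w hwcf hwloc hwid h hcon
      exact hχ (hwvec χ)
    -- now at `T`
    obtain ⟨τ₀, rfl⟩ := htB
    have hτ₀ := mem_blockOf_self hM.2.1 τ₀
    have hψT : ConjInv T ψ := conjInv_subgroupBlockCoeff_of_stabilizes _ T _ hst
    have hψC : ConjInv (Subgroup.centralizer (T : Set G)) ψ :=
      (conjInv_subgroupBlockCoeff_self _ _).mono hCle
    have hβCT : ConjInv (Subgroup.centralizer (T : Set G)) β := hβC.mono hCle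
    have hBM := brauerOmega_cnv hM T hT β ψ hβT hβCT hψT hψC hβloc hψloc τ₀
    have hcJ : Cfsg.MemLocalIdeal M (Cfsg.brauerOmega T (cnv β ψ)
        (τ₀ : Subgroup.centralizer (T : Set G) → ℂ)) := by
      rw [brauerOmega_eq_classVec]
      have hcf : Cfsg.IsClassFunction (Subgroup.centralizer (T : Set G))
          (fun c => cnv β ψ (c : G)) := by
        intro c x
        exact cnv_conjInv _ β ψ hβCT hψC (c : G) (x : G) x.2
      have hJ : ∀ c : Subgroup.centralizer (T : Set G),
          Cfsg.MemLocalIdeal M (cnv β ψ (c : G)) := by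
        intro c
        have := cnv_ext_right (Subgroup.centralizer (R : Set G)) β ψ φ
          (fun x => by rw [hψ, subgroupBlockCoeff_of_mem _ _ _ x.2])
          (fun x hx => by rw [hψ, subgroupBlockCoeff_of_not_mem _ _ _ hx]) ⟨(c : G), hCle c.2⟩
        rw [this]
        exact hwJ _
      exact classVec_memLocalIdeal hM.2.1 _ hcf hJ τ₀
    have hx := h1 τ₀ hτ₀
    have hy := hne τ₀ hτ₀
    set X := Cfsg.brauerOmega T β (τ₀ : Subgroup.centralizer (T : Set G) → ℂ) with hX
    set Y := Cfsg.brauerOmega T ψ (τ₀ : Subgroup.centralizer (T : Set G) → ℂ) with hY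
    have hYR : Cfsg.MemLocalRing M Y := by
      have := MemLocalRing.add hM.2.1 (MemLocalRing.of_memLocalIdeal hy) (memLocalRing_one hM.2.1)
      rwa [sub_add_cancel] at this
    have hXY : Cfsg.MemLocalIdeal M (X * Y) := by
      have := MemLocalIdeal.sub hM.2.1 hcJ hBM
      rwa [sub_sub_cancel] at this
    have h5 : Cfsg.MemLocalIdeal M (Y * (X - 1)) := MemLocalIdeal.mul_left hM.2.1 hYR hx
    have h6 := MemLocalIdeal.sub hM.2.1 (MemLocalIdeal.sub hM.2.1 hXY h5) hy
    have e : X * Y - Y * (X - 1) - (Y - 1) = 1 := by ring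
    rw [e] at h6
    exact not_memLocalIdeal_one h6
  · intro ζ hζ
    rw [hΩ]
    have := MemLocalIdeal.add hM.2.1 (htrans ζ hζ) ha
    convert this using 1
    ring

end Cfsg.Agent.Helper6
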