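import Mathlib
import Cfsg.Prelude.Def_Characters
import Cfsg.Prelude.Def_Blocks
import Cfsg.Prelude.Def_BlockLocal
import Cfsg.Prelude.Def_BrauerPairs
import Cfsg.Agent.Helper6.SubpairDown

/-!
# Brauer pairs below a Brauer pair of a block belong to the block
-/

set_option autoImplicit false
set_option linter.style.haveILetI false

namespace Cfsg.Agent.Helper6

open scoped ComplexConjugate

universe u

variable {G : Type u} [Group G] {M : Ideal Cfsg.AlgInt}

/-- a pair normally below a Brauer pair of the block `B` is a Brauer pair of `B` -/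
theorem isBrauerPairOf_of_isNormalSubpair [Fintype G] {p : ℕ} [hp : Fact p.Prime]
    (hM : Cfsg.IsPModular p M) (P Q : Subgroup G)
    (e : Set (Cfsg.IrrCharacter (Subgroup.centralizer (P : Set G))))
    (f : Set (Cfsg.IrrCharacter (Subgroup.centralizer (Q : Set G))))
    (hn : Cfsg.IsNormalSubpair p M Q f P e) (B : Set (Cfsg.IrrCharacter G))
    (hBP : Cfsg.IsBrauerPairOf p M B P e) : Cfsg.IsBrauerPairOf p M B Q f := by
  obtain ⟨hPe, hB, h1⟩ := hBP
  refine ⟨hn.1, hB, ?_⟩
  apply brauerOmega_sub_one_down hM Q P f e hn (Cfsg.blockCoeff B)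
    (conjInv_of_isClassFunction _ _ (blockCoeff_isClassFunction B))
    (conjInv_of_isClassFunction _ _ (blockCoeff_isClassFunction B))
    (fun x => osima hM.2.1 B hB x) _ h1
  intro x _
  have : cnv (Cfsg.blockCoeff B) (Cfsg.blockCoeff B) x = Cfsg.blockCoeff B x :=
    blockCoeff_conv B x
  rw [this, sub_self]
  exact memLocalIdeal_zero hM.2.1

/-- a pair below a Brauer pair of the block `B` is a Brauer pair of `B` -/
theorem isBrauerPairOf_of_subpairLE [Fintype G] {p : ℕ} [hp : Fact p.Prime]
    (hM : Cfsg.IsPModular p M) (P Q : Subgroup G)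
    (e : Set (Cfsg.IrrCharacter (Subgroup.centralizer (P : Set G))))
    (f : Set (Cfsg.IrrCharacter (Subgroup.centralizer (Q : Set G))))
    (hle : Cfsg.SubpairLE p M Q f P e) (B : Set (Cfsg.IrrCharacter G))
    (hBP : Cfsg.IsBrauerPairOf p M B P e) : Cfsg.IsBrauerPairOf p M B Q f := by
  unfold Cfsg.SubpairLE at hle
  have key : ∀ a : Cfsg.BrauerPairIdx G,
      Relation.ReflTransGen (Cfsg.NormalSubpairRel p M) a ⟨P, e⟩ →
        Cfsg.IsBrauerPairOf p M B a.1 a.2 := by
    intro a ha
    induction ha using Relation.ReflTransGen.head_induction_on with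
    | refl => exact hBP
    | head h' _ ih =>
      exact isBrauerPairOf_of_isNormalSubpair hM _ _ _ _ h' B ih
  exact key ⟨Q, f⟩ hle

/-- **Brauer pairs comparable under inclusion belong to the same block** -/
theorem isBrauerPairOf_iff_of_subpairLE [Fintype G] {p : ℕ} [hp : Fact p.Prime]
    (hM : Cfsg.IsPModular p M) (P Q : Subgroup G)
    (e : Set (Cfsg.IrrCharacter (Subgroup.centralizer (P : Set G))))
    (f : Set (Cfsg.IrrCharacter (Subgroup.centralizer (Q : Set G))))
    (hPe : Cfsg.IsBrauerPair p M P e) (hQf : Cfsg.IsBrauerPair p M Q f)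
    (hle : Cfsg.SubpairLE p M Q f P e) (B : Set (Cfsg.IrrCharacter G)) :
    Cfsg.IsBrauerPairOf p M B P e ↔ Cfsg.IsBrauerPairOf p M B Q f := by
  constructor
  · exact isBrauerPairOf_of_subpairLE hM P Q e f hle B
  · intro hBQ
    obtain ⟨B', hB', -⟩ := existsUnique_isBrauerPairOf hM P e hPe
    have h1 := isBrauerPairOf_of_subpairLE hM P Q e f hle B' hB'
    obtain ⟨B'', -, huniq⟩ := existsUnique_isBrauerPairOf hM Q f hQf
    have e1 := huniq B hBQ
    have e2 := huniq B' h1
    rw [e1, ← e2]
    exact hB'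

end Cfsg.Agent.Helper6
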