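import Mathlib
import Cfsg.Prelude.Def_Characters
import Cfsg.Prelude.Def_Blocks
import Cfsg.Prelude.Def_BlockLocal
import Cfsg.Prelude.Def_BrauerPairs
import Cfsg.Agent.Helper6.SubpairBlock

/-!
# The action of a normalizing subgroup on the blocks of a subgroup
-/

set_option autoImplicit false
set_option linter.style.haveILetI false

namespace Cfsg.Agent.Helper6

open scoped ComplexConjugate

universe u

variable {G : Type u} [Group G] {M : Ideal Cfsg.AlgInt}

/-- **orbit congruence** for an abstract action of a `p`-group on a finite set: the sum of an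
invariant local-valued function is congruent to its sum over the fixed points -/
theorem sum_sub_sum_fixed_memLocalIdeal {p : ℕ} [hp : Fact p.Prime]
    (hM : Cfsg.IsPModular p M) {P : Type*} [Group P] (hP : IsPGroup p P) {α : Type*}
    [DecidableEq α] (act : P → α → α) (hone : ∀ x, act 1 x = x)
    (hmul : ∀ u v x, act (u * v) x = act u (act v x)) (X : Finset α)
    (hX : ∀ x ∈ X, ∀ u, act u x ∈ X) (F : α → ℂ) (hF : ∀ x ∈ X, ∀ u, F (act u x) = F x)
    (hloc : ∀ x ∈ X, Cfsg.MemLocalRing M (F x))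
    [DecidablePred (fun x : α => ∀ u, act u x = x)] :
    Cfsg.MemLocalIdeal M (∑ x ∈ X, F x - ∑ x ∈ X.filter (fun x => ∀ u, act u x = x), F x) := by
  classical
  have hsplit : ∑ x ∈ X, F x - ∑ x ∈ X.filter (fun x => ∀ u, act u x = x), F x =
      ∑ x ∈ X.filter (fun x => ¬ ∀ u, act u x = x), F x := by
    rw [← Finset.sum_filter_add_sum_filter_not X (fun x => ∀ u, act u x = x) F]
    ring
  rw [hsplit]
  obtain ⟨K', hK'⟩ : ∃ K' : Finset α, K' = X.filter (fun x => ¬ ∀ u, act u x = x) := ⟨_, rfl⟩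
  rw [← hK']
  have hK'mem : ∀ x, x ∈ K' ↔ x ∈ X ∧ ¬ ∀ u, act u x = x := by
    intro x; rw [hK', Finset.mem_filter]
  have hK'st : ∀ x ∈ K', ∀ u, act u x ∈ K' := by
    intro x hx u
    rw [hK'mem] at hx ⊢
    refine ⟨hX x hx.1 u, fun hc => hx.2 ?_⟩
    intro w
    have h1 := hc (u * w * u⁻¹)
    rw [← hmul] at h1
    have h2 : act u⁻¹ (act (u * w * u⁻¹ * u) x) = act u⁻¹ (act u x) := by rw [h1]
    rw [← hmul, ← hmul] at h2
    have e1 : u⁻¹ * (u * w * u⁻¹ * u) = w := by group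
    rw [e1, inv_mul_cancel, hone] at h2
    exact h2
  rw [Finset.sum_comp (s := K') (fun b : ℂ => b) F]
  apply MemLocalIdeal.sum hM.2.1
  intro b hb
  obtain ⟨Y, hY⟩ : ∃ Y : Finset α, Y = {a ∈ K' | F a = b} := ⟨_, rfl⟩
  rw [← hY]
  have hYmem : ∀ x, x ∈ Y ↔ x ∈ K' ∧ F x = b := by
    intro x; rw [hY, Finset.mem_filter]
  letI : MulAction P {x // x ∈ Y} :=
    { smul := fun u x => ⟨act u x.1, by
        have hx := (hYmem x.1).mp x.2
        rw [hYmem]
        exact ⟨hK'st _ hx.1 u, by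
          rw [hF _ ((hK'mem _).mp hx.1).1 u]; exact hx.2⟩⟩
      one_smul := fun x => Subtype.ext (hone x.1)
      mul_smul := fun a c x => Subtype.ext (hmul a c x.1) }
  have hsm : ∀ (u : P) (x : {x // x ∈ Y}), ((u • x : {x // x ∈ Y}) : α) = act u x.1 :=
    fun u x => rfl
  have hmod := hP.card_modEq_card_fixedPoints {x // x ∈ Y}
  have hempty : IsEmpty (MulAction.fixedPoints P {x // x ∈ Y}) := by
    constructor
    rintro ⟨x, hx⟩
    have hxK' := ((hYmem x.1).mp x.2).1
    apply ((hK'mem _).mp hxK').2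
    intro u
    have := hx u
    have h2 := congrArg Subtype.val this
    rw [hsm] at h2
    exact h2
  have h0 : Nat.card (MulAction.fixedPoints P {x // x ∈ Y}) = 0 := Nat.card_of_isEmpty
  rw [h0, Nat.card_eq_fintype_card, Fintype.card_coe] at hmod
  obtain ⟨c, hc⟩ := (Nat.modEq_zero_iff_dvd).mp hmod
  rw [hc, nsmul_eq_mul]
  push_cast
  have hbloc : Cfsg.MemLocalRing M b := by
    rw [Finset.mem_image] at hb
    obtain ⟨x, hx, rfl⟩ := hb
    exact hloc x ((hK'mem x).mp hx).1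
  have hcloc : Cfsg.MemLocalRing M ((c : ℂ) * b) :=
    MemLocalRing.mul hM.2.1 (memLocalRing_natCast hM.2.1 c) hbloc
  have hpI : Cfsg.MemLocalIdeal M ((p : ℂ)) := memLocalIdeal_prime hM
  have := MemLocalIdeal.mul_left hM.2.1 hcloc hpI
  have e : (c : ℂ) * b * (p : ℂ) = (p : ℂ) * (c : ℂ) * b := by ring
  rwa [e] at this

theorem nconjIrr_one (K : Subgroup G) (h1 : (1 : G) ∈ Subgroup.normalizer (K : Set G))
    (χ : Cfsg.IrrCharacter K) : nconjIrr K 1 h1 χ = χ := by
  apply Subtype.ext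
  funext k
  rw [nconjIrr_apply]
  refine congrArg (χ : K → ℂ) ?_
  apply Subtype.ext
  rw [coe_nconjHom]
  simp

theorem nconjIrr_mul (K : Subgroup G) (u v : G)
    (hu : u ∈ Subgroup.normalizer (K : Set G)) (hv : v ∈ Subgroup.normalizer (K : Set G))
    (huv : u * v ∈ Subgroup.normalizer (K : Set G)) (χ : Cfsg.IrrCharacter K) :
    nconjIrr K (u * v) huv χ = nconjIrr K u hu (nconjIrr K v hv χ) := by
  apply Subtype.ext
  funext k
  rw [nconjIrr_apply, nconjIrr_apply, nconjIrr_apply]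
  refine congrArg (χ : K → ℂ) ?_
  apply Subtype.ext
  rw [coe_nconjHom, coe_nconjHom, coe_nconjHom]
  group

theorem nconjIrr_inv_cancel (K : Subgroup G) (u : G)
    (hu : u ∈ Subgroup.normalizer (K : Set G)) (hu' : u⁻¹ ∈ Subgroup.normalizer (K : Set G))
    (χ : Cfsg.IrrCharacter K) : nconjIrr K u hu (nconjIrr K u⁻¹ hu' χ) = χ := by
  rw [← nconjIrr_mul K u u⁻¹ hu hu' (by rw [mul_inv_cancel]; exact Subgroup.one_mem _)]
  apply Subtype.ext
  funext k
  rw [nconjIrr_apply]
  refine congrArg (χ : K → ℂ) ?_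
  apply Subtype.ext
  rw [coe_nconjHom]
  simp

theorem nconjIrr_inv_cancel' (K : Subgroup G) (u : G)
    (hu : u ∈ Subgroup.normalizer (K : Set G)) (hu' : u⁻¹ ∈ Subgroup.normalizer (K : Set G))
    (χ : Cfsg.IrrCharacter K) : nconjIrr K u⁻¹ hu' (nconjIrr K u hu χ) = χ := by
  rw [← nconjIrr_mul K u⁻¹ u hu' hu (by rw [inv_mul_cancel]; exact Subgroup.one_mem _)]
  apply Subtype.ext
  funext k
  rw [nconjIrr_apply]
  refine congrArg (χ : K → ℂ) ?_
  apply Subtype.ext
  rw [coe_nconjHom]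
  simp

/-- the conjugate of a block is a block -/
theorem image_nconjIrr_blockOf (K : Subgroup G) (u : G)
    (hu : u ∈ Subgroup.normalizer (K : Set G)) (ζ : Cfsg.IrrCharacter K) :
    nconjIrr K u hu '' Cfsg.blockOf M (ζ : K → ℂ) =
      Cfsg.blockOf M (nconjIrr K u hu ζ : K → ℂ) := by
  have hu' : u⁻¹ ∈ Subgroup.normalizer (K : Set G) := Subgroup.inv_mem _ hu
  ext θ
  constructor
  · rintro ⟨χ, hχ, rfl⟩
    exact sameBlock_nconjIrr K u hu ζ χ hχ
  · intro hθ
    refine ⟨nconjIrr K u⁻¹ hu' θ, ?_, nconjIrr_inv_cancel K u hu hu' θ⟩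
    have := sameBlock_nconjIrr (M := M) K u⁻¹ hu' _ _ hθ
    rw [nconjIrr_inv_cancel'] at this
    exact this

/-- the idempotent coefficients of the conjugate of a set of characters -/
theorem blockCoeff_image_nconjIrr [Finite G] (K : Subgroup G) (u : G)
    (hu : u ∈ Subgroup.normalizer (K : Set G)) (f : Set (Cfsg.IrrCharacter K)) (k : K) :
    Cfsg.blockCoeff (nconjIrr K u hu '' f) k = Cfsg.blockCoeff f (nconjHom K u hu k) := by
  unfold Cfsg.blockCoeff
  congr 1
  rw [finsum_mem_image ((nconjIrr_injective K u hu).injOn)]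
  apply finsum_mem_congr rfl
  intro χ _
  rw [nconjIrr_apply, nconjIrr_apply, map_one]

/-- a set of characters is fixed by the conjugation action of a subgroup iff every element of the
subgroup stabilizes it -/
theorem image_nconjIrr_eq_iff_stabilizes (K S : Subgroup G)
    (hS : S ≤ Subgroup.normalizer (K : Set G)) (f : Set (Cfsg.IrrCharacter K)) :
    (∀ u : S, nconjIrr K (u : G) (hS u.2) '' f = f) ↔
      ∀ x ∈ S, Cfsg.StabilizesBlock K f x := by
  constructor
  · intro h x hx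
    refine ⟨hS hx, fun χ hχ => ⟨nconjIrr K x (hS hx) χ, ?_, isConjCharOf_nconjIrr K x (hS hx) χ⟩⟩
    rw [← h ⟨x, hx⟩]
    exact ⟨χ, hχ, rfl⟩
  · intro h u
    apply Set.Subset.antisymm
    · rintro θ ⟨χ, hχ, rfl⟩
      exact nconjIrr_mem_of_stabilizes K f (u : G) (h _ u.2) χ hχ
    · intro χ hχ
      have hu' : (u : G)⁻¹ ∈ S := S.inv_mem u.2
      refine ⟨nconjIrr K (u : G)⁻¹ (hS hu') χ,
        nconjIrr_mem_of_stabilizes K f (u : G)⁻¹ (h _ hu') χ hχ, ?_⟩
      exact nconjIrr_inv_cancel K (u : G) (hS u.2) (hS hu') χ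

section Blocks

variable {K : Type u} [Group K] [Fintype (Cfsg.IrrCharacter K)]

open Classical in
/-- the finite set of blocks -/
noncomputable def blockFinset (M : Ideal Cfsg.AlgInt) (K : Type u) [Group K]
    [Fintype (Cfsg.IrrCharacter K)] : Finset (Set (Cfsg.IrrCharacter K)) :=
  Finset.univ.image (fun ζ : Cfsg.IrrCharacter K => Cfsg.blockOf M (ζ : K → ℂ))

theorem mem_blockFinset (f : Set (Cfsg.IrrCharacter K)) :
    f ∈ blockFinset M K ↔ Cfsg.IsPBlock M f := by
  classical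
  unfold blockFinset
  rw [Finset.mem_image]
  constructor
  · rintro ⟨ζ, -, rfl⟩
    exact ⟨ζ, rfl⟩
  · rintro ⟨ζ, rfl⟩
    exact ⟨ζ, Finset.mem_univ _, rfl⟩

open Classical in
/-- the block idempotents sum to the identity -/
theorem sum_blockFinset_blockCoeff [Fintype K] (hM : M.IsMaximal) (k : K) :
    ∑ f ∈ blockFinset M K, Cfsg.blockCoeff f k = if k = 1 then 1 else 0 := by
  have h1 : ∀ f ∈ blockFinset M K, Cfsg.blockCoeff f k =
      idemCoeff (fun θ : Cfsg.IrrCharacter K => if θ ∈ f then (1 : ℂ) else 0) k :=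
    fun f _ => blockCoeff_eq_idemCoeff f k
  rw [Finset.sum_congr rfl h1, ← idemCoeff_finset_sum, ← idemCoeff_one]
  congr 1
  funext θ
  rw [Finset.sum_apply, Pi.one_apply]
  rw [Finset.sum_eq_single (Cfsg.blockOf M (θ : K → ℂ))]
  · rw [if_pos (mem_blockOf_self hM θ)]
  · intro f hf hne
    rw [if_neg]
    intro hθ
    apply hne
    exact eq_blockOf_of_mem hM f ((mem_blockFinset f).mp hf) θ hθ
  · intro h
    exact absurd ((mem_blockFinset _).mpr ⟨θ, rfl⟩) h

end Blocks

end Cfsg.Agent.Helper6
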