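import Mathlib
import Cfsg.Prelude.Def_Characters
import Cfsg.Prelude.Def_Blocks
import Cfsg.Prelude.Def_BlockLocal
import Cfsg.Prelude.Def_BrauerPairs
import Cfsg.Agent.Helper6.BlockAction

/-!
# Below a Brauer pair there is exactly one pair on each normal subgroup
-/

set_option autoImplicit false
set_option linter.style.haveILetI false

namespace Cfsg.Agent.Helper6

open scoped ComplexConjugate

universe u

variable {G : Type u} [Group G] {M : Ideal Cfsg.AlgInt}

/-- convolution of the idempotents of two sets of characters of a subgroup, inside the subgroup -/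
theorem cnv_subgroupBlockCoeff [Fintype G] (hM : M.IsMaximal) (H : Subgroup G)
    (f f' : Set (Cfsg.IrrCharacter H)) (hf : Cfsg.IsPBlock M f) (hf' : Cfsg.IsPBlock M f')
    (x : G) (hx : x ∈ H) [Decidable (f = f')] :
    cnv (Cfsg.subgroupBlockCoeff H f) (Cfsg.subgroupBlockCoeff H f') x =
      if f = f' then Cfsg.subgroupBlockCoeff H f x else 0 := by
  classical
  haveI : Fintype H := Fintype.ofFinite _
  haveI : Finite (Cfsg.IrrCharacter H) := irr_finite
  haveI : Fintype (Cfsg.IrrCharacter H) := Fintype.ofFinite _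
  have h1 := cnv_ext_right H (Cfsg.subgroupBlockCoeff H f) (Cfsg.subgroupBlockCoeff H f')
    (Cfsg.blockCoeff f') (fun y => subgroupBlockCoeff_of_mem _ _ _ y.2)
    (fun y hy => subgroupBlockCoeff_of_not_mem _ _ _ hy) ⟨x, hx⟩
  have h2 : (fun h : H => Cfsg.subgroupBlockCoeff H f (h : G)) = Cfsg.blockCoeff f := by
    funext h
    rw [subgroupBlockCoeff_of_mem _ _ _ h.2]
  rw [h2] at h1
  rw [h1, cnv_eq_idemCoeff _ _ (blockCoeff_isClassFunction f) (blockCoeff_isClassFunction f')]
  by_cases hff : f = f'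
  · rw [if_pos hff, ← hff, subgroupBlockCoeff_of_mem _ _ _ hx,
      ← cnv_eq_idemCoeff _ _ (blockCoeff_isClassFunction f) (blockCoeff_isClassFunction f)]
    exact blockCoeff_conv f ⟨x, hx⟩
  · rw [if_neg hff]
    have h0 : classVec (Cfsg.blockCoeff f) * classVec (Cfsg.blockCoeff f') = 0 := by
      funext θ
      rw [Pi.mul_apply, classVec_blockCoeff, classVec_blockCoeff, Pi.zero_apply]
      by_cases h3 : θ ∈ f
      · by_cases h4 : θ ∈ f'
        · exfalso
          apply hff
          rw [eq_blockOf_of_mem hM f hf θ h3, eq_blockOf_of_mem hM f' hf' θ h4]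
        · rw [if_neg h4, mul_zero]
      · rw [if_neg h3, zero_mul]
    rw [h0, idemCoeff_zero]

/-- **existence and uniqueness of the normal subpair on a normal subgroup** -/
theorem existsUnique_isNormalSubpair [Fintype G] {p : ℕ} [hp : Fact p.Prime]
    (hM : Cfsg.IsPModular p M) (P Q : Subgroup G)
    (e : Set (Cfsg.IrrCharacter (Subgroup.centralizer (P : Set G))))
    (hPe : Cfsg.IsBrauerPair p M P e) (hQP : Q ≤ P)
    (hPN : P ≤ Subgroup.normalizer (Q : Set G)) :
    ∃! f : Set (Cfsg.IrrCharacter (Subgroup.centralizer (Q : Set G))),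
      Cfsg.IsNormalSubpair p M Q f P e := by
  classical
  have hPe' := hPe
  obtain ⟨hP, ξ₀, rfl⟩ := hPe
  haveI : Fintype (Subgroup.centralizer (Q : Set G)) := Fintype.ofFinite _
  haveI : Finite (Cfsg.IrrCharacter (Subgroup.centralizer (Q : Set G))) := irr_finite
  haveI : Fintype (Cfsg.IrrCharacter (Subgroup.centralizer (Q : Set G))) := Fintype.ofFinite _
  haveI : Fintype (Subgroup.centralizer (P : Set G)) := Fintype.ofFinite _
  haveI : Finite (Cfsg.IrrCharacter (Subgroup.centralizer (P : Set G))) := irr_finite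
  haveI : Fintype (Cfsg.IrrCharacter (Subgroup.centralizer (P : Set G))) := Fintype.ofFinite _
  have hCle : Subgroup.centralizer (P : Set G) ≤ Subgroup.centralizer (Q : Set G) :=
    Subgroup.centralizer_le hQP
  have hQ : IsPGroup p Q := hP.to_le hQP
  have hPH : P ≤ Subgroup.normalizer
      ((Subgroup.centralizer (Q : Set G) : Subgroup G) : Set G) :=
    fun x hx => normalizer_le_normalizer_centralizer Q (hPN hx)
  have hξ₀1 : (ξ₀ : Subgroup.centralizer (P : Set G) → ℂ) 1 ≠ 0 :=
    IsIrrCharacter.apply_one_ne_zero ξ₀.2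
  -- the action on sets of characters
  set act : P → Set (Cfsg.IrrCharacter (Subgroup.centralizer (Q : Set G))) →
      Set (Cfsg.IrrCharacter (Subgroup.centralizer (Q : Set G))) :=
    fun u f => nconjIrr (Subgroup.centralizer (Q : Set G)) (u : G) (hPH u.2) '' f with hact
  have hone' : ∀ (u : G) (hu : u ∈ Subgroup.normalizer
      ((Subgroup.centralizer (Q : Set G) : Subgroup G) : Set G)) (χ : Cfsg.IrrCharacter _),
      u = 1 → nconjIrr (Subgroup.centralizer (Q : Set G)) u hu χ = χ := by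
    intro u hu χ h
    subst h
    exact nconjIrr_one _ _ χ
  have hone : ∀ f, act 1 f = f := by
    intro f
    ext θ
    simp only [hact, Set.mem_image]
    constructor
    · rintro ⟨χ, hχ, rfl⟩
      rw [hone' ((1 : P) : G) _ χ rfl]
      exact hχ
    · intro hθ
      exact ⟨θ, hθ, hone' ((1 : P) : G) _ θ rfl⟩
  have hmul : ∀ u v f, act (u * v) f = act u (act v f) := by
    intro u v f
    ext θ
    simp only [hact, Set.mem_image]
    constructor
    · rintro ⟨χ, hχ, rfl⟩
      exact ⟨nconjIrr _ (v : G) (hPH v.2) χ, ⟨χ, hχ, rfl⟩,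
        (nconjIrr_mul _ (u : G) (v : G) (hPH u.2) (hPH v.2) _ χ).symm⟩
    · rintro ⟨χ', ⟨χ, hχ, rfl⟩, rfl⟩
      exact ⟨χ, hχ, nconjIrr_mul _ (u : G) (v : G) (hPH u.2) (hPH v.2) _ χ⟩
  set Bl := blockFinset M (Subgroup.centralizer (Q : Set G)) with hBl
  have hBlst : ∀ f ∈ Bl, ∀ u, act u f ∈ Bl := by
    intro f hf u
    rw [hBl, mem_blockFinset] at hf ⊢
    obtain ⟨ζ, rfl⟩ := hf
    exact ⟨_, image_nconjIrr_blockOf _ _ _ ζ⟩
  set ψ : Set (Cfsg.IrrCharacter (Subgroup.centralizer (Q : Set G))) → G → ℂ :=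
    fun f => Cfsg.subgroupBlockCoeff (Subgroup.centralizer (Q : Set G)) f with hψ
  set a : Set (Cfsg.IrrCharacter (Subgroup.centralizer (Q : Set G))) → ℂ :=
    fun f => Cfsg.brauerOmega P (ψ f) (ξ₀ : Subgroup.centralizer (P : Set G) → ℂ) with ha
  have hψC : ∀ f, ConjInv (Subgroup.centralizer (P : Set G)) (ψ f) :=
    fun f => (conjInv_subgroupBlockCoeff_self _ f).mono hCle
  have hψloc : ∀ f ∈ Bl, ∀ x, Cfsg.MemLocalRing M (ψ f x) := by
    intro f hf x
    exact memLocalRing_subgroupBlockCoeff hM.2.1 _ f ((mem_blockFinset f).mp hf) x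
  -- invariance
  have hainv : ∀ f ∈ Bl, ∀ u, a (act u f) = a f := by
    intro f _ u
    simp only [ha]
    rw [brauerOmega_eq_classVec, brauerOmega_eq_classVec]
    apply Finset.sum_congr rfl
    intro x _
    congr 1
    have hxH : (x : G) ∈ Subgroup.centralizer (Q : Set G) := hCle x.2
    simp only [hψ, hact]
    rw [subgroupBlockCoeff_of_mem _ _ _ hxH, subgroupBlockCoeff_of_mem _ _ _ hxH,
      blockCoeff_image_nconjIrr]
    congr 1
    apply Subtype.ext
    rw [coe_nconjHom]
    have hc : (u : G) * (x : G) = (x : G) * (u : G) :=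
      Subgroup.mem_centralizer_iff.mp x.2 (u : G) u.2
    show (u : G)⁻¹ * (x : G) * (u : G) = (x : G)
    rw [mul_assoc, ← hc, inv_mul_cancel_left]
  -- local values
  have haloc : ∀ f ∈ Bl, Cfsg.MemLocalRing M (a f) := by
    intro f hf
    simp only [ha]
    rw [brauerOmega_eq_classVec]
    exact classVec_memLocalRing hM.2.1
      (fun c : Subgroup.centralizer (P : Set G) => ψ f (c : G))
      (fun c x => hψC f (c : G) (x : G) x.2) (fun c => hψloc f hf _) ξ₀
  have hD := sum_sub_sum_fixed_memLocalIdeal hM (P := P) hP act hone hmul Bl hBlst a hainv haloc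
  -- the sum over all blocks
  have hA : ∑ f ∈ Bl, a f = 1 := by
    simp only [ha]
    have h1 : ∀ f ∈ Bl, Cfsg.brauerOmega P (ψ f)
        (ξ₀ : Subgroup.centralizer (P : Set G) → ℂ) =
        ∑ x : Subgroup.centralizer (P : Set G), ψ f (x : G) *
          ((ξ₀ : Subgroup.centralizer (P : Set G) → ℂ) x /
            (ξ₀ : Subgroup.centralizer (P : Set G) → ℂ) 1) :=
      fun f _ => brauerOmega_eq_classVec P (ψ f) _
    rw [Finset.sum_congr rfl h1, Finset.sum_comm]
    simp_rw [← Finset.sum_mul]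
    have h2 : ∀ x : Subgroup.centralizer (P : Set G),
        ∑ f ∈ Bl, ψ f (x : G) = if x = 1 then 1 else 0 := by
      intro x
      have hxH : (x : G) ∈ Subgroup.centralizer (Q : Set G) := hCle x.2
      have h3 : ∀ f ∈ Bl, ψ f (x : G) = Cfsg.blockCoeff f ⟨(x : G), hxH⟩ :=
        fun f _ => subgroupBlockCoeff_of_mem _ _ _ hxH
      rw [Finset.sum_congr rfl h3, hBl, sum_blockFinset_blockCoeff hM.2.1]
      have hiff : (⟨(x : G), hxH⟩ : Subgroup.centralizer (Q : Set G)) = 1 ↔ x = 1 := by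
        constructor
        · intro h
          apply Subtype.ext
          have h' := congrArg Subtype.val h
          exact h'
        · intro h
          apply Subtype.ext
          show (x : G) = 1
          rw [h]
          rfl
      by_cases hx1 : x = 1
      · rw [if_pos hx1, if_pos (hiff.mpr hx1)]
      · rw [if_neg hx1, if_neg (fun h => hx1 (hiff.mp h))]
    simp_rw [h2]
    rw [Finset.sum_eq_single (1 : Subgroup.centralizer (P : Set G))]
    · rw [if_pos rfl, one_mul, div_self hξ₀1]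
    · intro x _ hx
      rw [if_neg hx, zero_mul]
    · intro h
      exact absurd (Finset.mem_univ _) h
  have hfix : ∀ f, (∀ u, act u f = f) ↔
      ∀ x ∈ P, Cfsg.StabilizesBlock (Subgroup.centralizer (Q : Set G)) f x :=
    fun f => image_nconjIrr_eq_iff_stabilizes _ P hPH f
  set BlP := Bl.filter (fun f => ∀ u, act u f = f) with hBlP
  have hBlPmem : ∀ f, f ∈ BlP ↔ Cfsg.IsPBlock M f ∧
      ∀ x ∈ P, Cfsg.StabilizesBlock (Subgroup.centralizer (Q : Set G)) f x := by
    intro f
    rw [hBlP, Finset.mem_filter, hBl, mem_blockFinset, hfix]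
  -- orthogonality
  have hE : ∀ f ∈ BlP, ∀ f' ∈ BlP,
      Cfsg.MemLocalIdeal M ((if f = f' then a f else 0) - a f * a f') := by
    intro f hf f' hf'
    rw [hBlPmem] at hf hf'
    have hfBl : f ∈ Bl := (mem_blockFinset f).mpr hf.1
    have hfBl' : f' ∈ Bl := (mem_blockFinset f').mpr hf'.1
    have hBM := brauerOmega_cnv hM P hP (ψ f) (ψ f')
      (conjInv_subgroupBlockCoeff_of_stabilizes _ P f hf.2) (hψC f)
      (conjInv_subgroupBlockCoeff_of_stabilizes _ P f' hf'.2) (hψC f')
      (hψloc f hfBl) (hψloc f' hfBl') ξ₀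
    have h1 : Cfsg.brauerOmega P (cnv (ψ f) (ψ f'))
        (ξ₀ : Subgroup.centralizer (P : Set G) → ℂ) = if f = f' then a f else 0 := by
      rw [brauerOmega_eq_classVec]
      have h2 : ∀ x : Subgroup.centralizer (P : Set G), cnv (ψ f) (ψ f') (x : G) =
          if f = f' then ψ f (x : G) else 0 :=
        fun x => cnv_subgroupBlockCoeff hM.2.1 _ f f' hf.1 hf'.1 (x : G) (hCle x.2)
      simp_rw [h2]
      by_cases hff : f = f'
      · simp only [if_pos hff, ha]
        rw [brauerOmega_eq_classVec]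
      · simp only [if_neg hff, zero_mul, Finset.sum_const_zero]
    rw [← h1]
    exact hBM
  have hidem : ∀ f ∈ BlP, Cfsg.MemLocalIdeal M (a f) ∨ Cfsg.MemLocalIdeal M (a f - 1) := by
    intro f hf
    have h1 := hE f hf f hf
    rw [if_pos rfl] at h1
    have hfBl : f ∈ Bl := (Finset.mem_filter.mp hf).1
    apply MemLocalIdeal.of_mul hM.2.1 (haloc f hfBl)
      (MemLocalRing.sub hM.2.1 (haloc f hfBl) (memLocalRing_one hM.2.1))
    have := MemLocalIdeal.neg h1
    convert this using 1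
    ring
  have hex : ∃ f₁ ∈ BlP, Cfsg.MemLocalIdeal M (a f₁ - 1) := by
    by_contra hcon
    push Not at hcon
    have hall : ∀ f ∈ BlP, Cfsg.MemLocalIdeal M (a f) := by
      intro f hf
      rcases hidem f hf with h | h
      · exact h
      · exact absurd h (hcon f hf)
    have hs := MemLocalIdeal.sum hM.2.1 BlP a hall
    rw [hA] at hD
    have := MemLocalIdeal.add hM.2.1 hD hs
    rw [sub_add_cancel] at this
    exact not_memLocalIdeal_one this
  obtain ⟨f₁, hf₁, haf₁⟩ := hex
  have huniq : ∀ f₂ ∈ BlP, Cfsg.MemLocalIdeal M (a f₂ - 1) → f₂ = f₁ := by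
    intro f₂ hf₂ haf₂
    by_contra hne
    have h1 := hE f₁ hf₁ f₂ hf₂
    rw [if_neg (fun h => hne h.symm), zero_sub] at h1
    have h2 := MemLocalIdeal.neg h1
    rw [neg_neg] at h2
    have hf₂Bl : f₂ ∈ Bl := (Finset.mem_filter.mp hf₂).1
    have h3 : Cfsg.MemLocalIdeal M (a f₂ * (a f₁ - 1)) :=
      MemLocalIdeal.mul_left hM.2.1 (haloc f₂ hf₂Bl) haf₁
    have h4 := MemLocalIdeal.sub hM.2.1 (MemLocalIdeal.sub hM.2.1 h2 h3) haf₂
    have e : a f₁ * a f₂ - a f₂ * (a f₁ - 1) - (a f₂ - 1) = 1 := by ring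
    rw [e] at h4
    exact not_memLocalIdeal_one h4
  have hf₁' := (hBlPmem f₁).mp hf₁
  refine ⟨f₁, ⟨⟨hQ, hf₁'.1⟩, hPe', hQP, hPN, hf₁'.2, ?_⟩, ?_⟩
  · intro ξ hξ
    have h1 := brauerOmega_sub_of_sameBlock hM.2.1 P (ψ f₁)
      (fun x y => hψC f₁ (x : G) (y : G) y.2)
      (fun x => hψloc f₁ ((mem_blockFinset f₁).mpr hf₁'.1) _) ξ ξ₀ (sameBlock_symm hξ)
    have := MemLocalIdeal.add hM.2.1 h1 haf₁
    convert this using 1
    simp only [ha]
    ring
  · rintro f₂ ⟨⟨-, hf₂B⟩, -, -, -, hst₂, h₂⟩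
    apply huniq f₂ ((hBlPmem f₂).mpr ⟨hf₂B, hst₂⟩)
    exact h₂ ξ₀ (mem_blockOf_self hM.2.1 ξ₀)

end Cfsg.Agent.Helper6
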