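import Mathlib
import Cfsg.Prelude.Def_Characters
import Cfsg.Prelude.Def_Blocks
import Cfsg.Prelude.Def_BlockLocal
import Cfsg.Prelude.Def_BrauerPairs
import Cfsg.Agent.Helper6.NormalSubpairUnique

/-!
# Below a Brauer pair there is exactly one pair on each subgroup
-/

set_option autoImplicit false
set_option linter.style.haveILetI false

namespace Cfsg.Agent.Helper6

open scoped ComplexConjugate

universe u

variable {G : Type u} [Group G] {M : Ideal Cfsg.AlgInt}

theorem card_lt_of_le_of_ne [Finite G] {A B : Subgroup G} (h : A ≤ B) (hne : A ≠ B) :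
    Nat.card A < Nat.card B := by
  by_contra hcon
  push Not at hcon
  exact hne (Subgroup.eq_of_le_of_card_ge h hcon)

/-- a normal inclusion between pairs on the same subgroup is an equality -/
theorem eq_of_isNormalSubpair_self [Fintype G] {p : ℕ} [hp : Fact p.Prime]
    (hM : Cfsg.IsPModular p M) (Q : Subgroup G)
    (f f' : Set (Cfsg.IrrCharacter (Subgroup.centralizer (Q : Set G))))
    (hn : Cfsg.IsNormalSubpair p M Q f Q f') : f = f' := by
  classical
  obtain ⟨⟨hQ, hf⟩, ⟨-, hf'⟩, -, -, -, h⟩ := hn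
  haveI : Fintype (Subgroup.centralizer (Q : Set G)) := Fintype.ofFinite _
  obtain ⟨ξ, rfl⟩ := hf'
  have h1 := h ξ (mem_blockOf_self hM.2.1 ξ)
  have h2 : Cfsg.brauerOmega Q (Cfsg.subgroupBlockCoeff (Subgroup.centralizer (Q : Set G)) f)
      (ξ : Subgroup.centralizer (Q : Set G) → ℂ) = if ξ ∈ f then 1 else 0 := by
    rw [brauerOmega_eq_classVec, ← classVec_blockCoeff f ξ]
    unfold classVec
    apply Finset.sum_congr rfl
    intro x _
    rw [subgroupBlockCoeff_of_mem _ _ _ x.2]
  rw [h2] at h1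
  by_cases hξ : ξ ∈ f
  · exact eq_blockOf_of_mem hM.2.1 f hf ξ hξ
  · exfalso
    rw [if_neg hξ, zero_sub] at h1
    have := MemLocalIdeal.neg h1
    rw [neg_neg] at this
    exact not_memLocalIdeal_one this

theorem eq_of_normalSubpairRel_of_fst_eq [Fintype G] {p : ℕ} [hp : Fact p.Prime]
    (hM : Cfsg.IsPModular p M) (a c : Cfsg.BrauerPairIdx G)
    (h : Cfsg.NormalSubpairRel p M a c) (h1 : a.1 = c.1) : a = c := by
  obtain ⟨A, f⟩ := a
  obtain ⟨C, g⟩ := c
  simp only at h1
  subst h1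
  have := eq_of_isNormalSubpair_self hM A f g h
  rw [this]

theorem eq_of_reflTransGen_of_fst_eq [Fintype G] {p : ℕ} [hp : Fact p.Prime]
    (hM : Cfsg.IsPModular p M) (b : Cfsg.BrauerPairIdx G) :
    ∀ a, Relation.ReflTransGen (Cfsg.NormalSubpairRel p M) a b → a.1 = b.1 → a = b := by
  intro a h
  induction h using Relation.ReflTransGen.head_induction_on with
  | refl => intro _; rfl
  | @head a c h' hcb ih =>
    intro h1
    have hac : a.1 ≤ c.1 := h'.2.2.1
    have hcb' : c.1 ≤ b.1 := SubpairLE.le' _ _ hcb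
    have hc : c.1 = b.1 := le_antisymm hcb' (h1 ▸ hac)
    have hcb2 := ih hc
    rw [← hcb2]
    exact eq_of_normalSubpairRel_of_fst_eq hM a c h' (h1.trans hc.symm)

theorem exists_strict_head [Fintype G] {p : ℕ} [hp : Fact p.Prime]
    (hM : Cfsg.IsPModular p M) (b : Cfsg.BrauerPairIdx G) :
    ∀ a, Relation.ReflTransGen (Cfsg.NormalSubpairRel p M) a b → a.1 ≠ b.1 →
      ∃ c, Cfsg.NormalSubpairRel p M a c ∧ a.1 ≠ c.1 ∧
        Relation.ReflTransGen (Cfsg.NormalSubpairRel p M) c b := by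
  intro a h
  induction h using Relation.ReflTransGen.head_induction_on with
  | refl => intro h; exact absurd rfl h
  | @head a c h' hcb ih =>
    intro h1
    by_cases hac : a.1 = c.1
    · have hac' := eq_of_normalSubpairRel_of_fst_eq hM a c h' hac
      rw [hac']
      apply ih
      rw [← hac']
      exact h1
    · exact ⟨c, h', hac, hcb⟩

/-- **existence of a pair below a Brauer pair on each subgroup** -/
theorem exists_subpairLE [Fintype G] {p : ℕ} [hp : Fact p.Prime]
    (hM : Cfsg.IsPModular p M) : ∀ n : ℕ, ∀ (P Q : Subgroup G)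
    (e : Set (Cfsg.IrrCharacter (Subgroup.centralizer (P : Set G)))),
    Cfsg.IsBrauerPair p M P e → Q ≤ P → Nat.card P - Nat.card Q = n →
      ∃ f : Set (Cfsg.IrrCharacter (Subgroup.centralizer (Q : Set G))),
        Cfsg.IsPBlock M f ∧ Cfsg.SubpairLE p M Q f P e := by
  intro n
  induction n using Nat.strong_induction_on with
  | _ n ih =>
  intro P Q e hPe hQP hn
  by_cases hQeq : Q = P
  · subst hQeq
    exact ⟨e, hPe.2, Relation.ReflTransGen.refl⟩
  · obtain ⟨y, hyP, hyN, hyQ⟩ := exists_mem_normalizer_not_mem P Q hPe.1 hQP hQeq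
    set T := P ⊓ Subgroup.normalizer (Q : Set G) with hT
    have hQT : Q ≤ T := le_inf hQP Subgroup.le_normalizer
    have hTP : T ≤ P := inf_le_left
    have hne : Q ≠ T := by
      intro h
      apply hyQ
      rw [h]
      exact ⟨hyP, hyN⟩
    have hc1 := card_lt_of_le_of_ne hQT hne
    have hc2 := Subgroup.card_le_of_le hTP
    obtain ⟨h, hhB, hle⟩ := ih (Nat.card P - Nat.card T) (by omega) P T e hPe hTP rfl
    have hTpair : Cfsg.IsBrauerPair p M T h := ⟨hPe.1.to_le hTP, hhB⟩
    obtain ⟨f, hf, -⟩ := existsUnique_isNormalSubpair hM T Q h hTpair hQT inf_le_right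
    refine ⟨f, hf.1.2, ?_⟩
    have hf' : Cfsg.NormalSubpairRel p M ⟨Q, f⟩ ⟨T, h⟩ := hf
    exact Relation.ReflTransGen.head hf' hle

/-- the pair normally below `(P, e)` on a normal subgroup `Q` is normally below every pair between
`Q` and `(P, e)` -/
theorem isNormalSubpair_of_subpairLE [Fintype G] {p : ℕ} [hp : Fact p.Prime]
    (hM : Cfsg.IsPModular p M) (P Q : Subgroup G)
    (e : Set (Cfsg.IrrCharacter (Subgroup.centralizer (P : Set G))))
    (f₀ : Set (Cfsg.IrrCharacter (Subgroup.centralizer (Q : Set G))))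
    (hn : Cfsg.IsNormalSubpair p M Q f₀ P e) :
    ∀ a : Cfsg.BrauerPairIdx G,
      Relation.ReflTransGen (Cfsg.NormalSubpairRel p M) a ⟨P, e⟩ → Q ≤ a.1 →
        Cfsg.IsNormalSubpair p M Q f₀ a.1 a.2 := by
  intro a h
  induction h using Relation.ReflTransGen.head_induction_on with
  | refl => intro _; exact hn
  | @head a c h' hcb ih =>
    intro hQa
    have hac : a.1 ≤ c.1 := h'.2.2.1
    have hn' := ih (hQa.trans hac)
    obtain ⟨hQf₀, hcpair, hQc, hcN, hst, hone⟩ := hn'
    refine ⟨hQf₀, h'.1, hQa, hac.trans hcN, fun x hx => hst x (hac hx), ?_⟩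
    have hCle : Subgroup.centralizer (a.1 : Set G) ≤ Subgroup.centralizer (Q : Set G) :=
      Subgroup.centralizer_le hQa
    apply brauerOmega_sub_one_down hM a.1 c.1 a.2 c.2 h'
      (Cfsg.subgroupBlockCoeff (Subgroup.centralizer (Q : Set G)) f₀)
      (conjInv_subgroupBlockCoeff_of_stabilizes _ c.1 f₀ hst)
      ((conjInv_subgroupBlockCoeff_self _ f₀).mono hCle)
      (fun x => memLocalRing_subgroupBlockCoeff hM.2.1 _ f₀ hQf₀.2 x) _ hone
    intro x hx
    classical
    rw [cnv_subgroupBlockCoeff hM.2.1 _ f₀ f₀ hQf₀.2 hQf₀.2 x (hCle hx), if_pos rfl, sub_self]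
    exact memLocalIdeal_zero hM.2.1

/-- **uniqueness of the pair below a Brauer pair on each subgroup** -/
theorem subpairLE_unique [Fintype G] {p : ℕ} [hp : Fact p.Prime]
    (hM : Cfsg.IsPModular p M) : ∀ n : ℕ, ∀ (P Q : Subgroup G)
    (e : Set (Cfsg.IrrCharacter (Subgroup.centralizer (P : Set G)))),
    Cfsg.IsBrauerPair p M P e → Q ≤ P → Nat.card P - Nat.card Q = n →
      ∀ f f' : Set (Cfsg.IrrCharacter (Subgroup.centralizer (Q : Set G))),
        Cfsg.SubpairLE p M Q f P e → Cfsg.SubpairLE p M Q f' P e → f = f' := by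
  intro n
  induction n using Nat.strong_induction_on with
  | _ n ih =>
  intro P Q e hPe hQP hn f f' hf hf'
  by_cases hQeq : Q = P
  · subst hQeq
    have h1 := eq_of_reflTransGen_of_fst_eq hM ⟨Q, e⟩ ⟨Q, f⟩ hf rfl
    have h2 := eq_of_reflTransGen_of_fst_eq hM ⟨Q, e⟩ ⟨Q, f'⟩ hf' rfl
    have e1 : f = e := eq_of_heq (Sigma.mk.inj h1).2
    have e2 : f' = e := eq_of_heq (Sigma.mk.inj h2).2
    rw [e1, e2]
  · obtain ⟨⟨R, g⟩, hQR, hneR, hRle⟩ := exists_strict_head hM ⟨P, e⟩ ⟨Q, f⟩ hf hQeq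
    obtain ⟨⟨R', g'⟩, hQR', hneR', hRle'⟩ := exists_strict_head hM ⟨P, e⟩ ⟨Q, f'⟩ hf' hQeq
    by_cases hPN : P ≤ Subgroup.normalizer (Q : Set G)
    · obtain ⟨f₀, hf₀, -⟩ := existsUnique_isNormalSubpair hM P Q e hPe hQP hPN
      have key : ∀ (R : Subgroup G)
          (g : Set (Cfsg.IrrCharacter (Subgroup.centralizer (R : Set G))))
          (f : Set (Cfsg.IrrCharacter (Subgroup.centralizer (Q : Set G)))),
          Cfsg.IsNormalSubpair p M Q f R g →
          Relation.ReflTransGen (Cfsg.NormalSubpairRel p M) ⟨R, g⟩ ⟨P, e⟩ → f = f₀ := by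
        intro R g f hQR hRle
        have h1 := isNormalSubpair_of_subpairLE hM P Q e f₀ hf₀ ⟨R, g⟩ hRle hQR.2.2.1
        obtain ⟨f₁, -, hu⟩ := existsUnique_isNormalSubpair hM R Q g hQR.2.1 hQR.2.2.1
          hQR.2.2.2.1
        rw [hu f hQR, hu f₀ h1]
      rw [key R g f hQR hRle, key R' g' f' hQR' hRle']
    · set T := P ⊓ Subgroup.normalizer (Q : Set G) with hT
      have hQT : Q ≤ T := le_inf hQP Subgroup.le_normalizer
      have hTP : T ≤ P := inf_le_left
      have hTne : T ≠ P := by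
        intro h
        apply hPN
        rw [← h]
        exact inf_le_right
      have hc1 := card_lt_of_le_of_ne hTP hTne
      have hc2 := Subgroup.card_le_of_le hQT
      obtain ⟨h, hhB, hTle⟩ := exists_subpairLE hM _ P T e hPe hTP rfl
      have hTpair : Cfsg.IsBrauerPair p M T h := ⟨hPe.1.to_le hTP, hhB⟩
      have key : ∀ (R : Subgroup G)
          (g : Set (Cfsg.IrrCharacter (Subgroup.centralizer (R : Set G))))
          (f : Set (Cfsg.IrrCharacter (Subgroup.centralizer (Q : Set G)))),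
          Cfsg.IsNormalSubpair p M Q f R g → Q ≠ R →
          Relation.ReflTransGen (Cfsg.NormalSubpairRel p M) ⟨R, g⟩ ⟨P, e⟩ →
            Cfsg.SubpairLE p M Q f T h := by
        intro R g f hQR hne hRle
        have hRP : R ≤ P := SubpairLE.le' _ _ hRle
        have hRT : R ≤ T := le_inf hRP hQR.2.2.2.1
        obtain ⟨g₁, hg₁B, hg₁⟩ := exists_subpairLE hM _ T R h hTpair hRT rfl
        have hg₁P : Cfsg.SubpairLE p M R g₁ P e := Relation.ReflTransGen.trans hg₁ hTle
        have hc3 := card_lt_of_le_of_ne hQR.2.2.1 hne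
        have hc4 := Subgroup.card_le_of_le hRP
        have hgg : g₁ = g := ih (Nat.card P - Nat.card R) (by omega) P R e hPe hRP rfl g₁ g
          hg₁P hRle
        subst hgg
        have hQR' : Cfsg.NormalSubpairRel p M ⟨Q, f⟩ ⟨R, g₁⟩ := hQR
        exact Relation.ReflTransGen.head hQR' hg₁
      have h1 := key R g f hQR hneR hRle
      have h2 := key R' g' f' hQR' hneR' hRle'
      exact ih (Nat.card T - Nat.card Q) (by omega) T Q h hTpair hQT rfl f f' h1 h2

/-- **below a Brauer pair there is exactly one pair on each subgroup** -/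
theorem existsUnique_subpairLE [Fintype G] {p : ℕ} [hp : Fact p.Prime]
    (hM : Cfsg.IsPModular p M) (P Q : Subgroup G)
    (e : Set (Cfsg.IrrCharacter (Subgroup.centralizer (P : Set G))))
    (hPe : Cfsg.IsBrauerPair p M P e) (hQP : Q ≤ P) :
    ∃! f : Set (Cfsg.IrrCharacter (Subgroup.centralizer (Q : Set G))),
      Cfsg.IsPBlock M f ∧ Cfsg.SubpairLE p M Q f P e := by
  obtain ⟨f, hfB, hf⟩ := exists_subpairLE hM _ P Q e hPe hQP rfl
  refine ⟨f, ⟨hfB, hf⟩, ?_⟩
  rintro f' ⟨-, hf'⟩
  exact subpairLE_unique hM _ P Q e hPe hQP rfl f' f hf' hf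

end Cfsg.Agent.Helper6
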