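import Mathlib
import Cfsg.Prelude.Def_Characters
import Cfsg.Prelude.Def_Blocks
import Cfsg.Prelude.Def_BlockLocal
import Cfsg.Prelude.Def_BrauerPairs
import Cfsg.Agent.Helper6.SubpairUnique
import Cfsg.Agent.Helper6.LyingOver
import Cfsg.Agent.Helper6.NormalComplementBlock2
import Cfsg.Agent.Helper6.PCoreChar

/-!
# Brauer pairs on a normal `p`-subgroup: the block is the sum of the conjugates
-/

set_option autoImplicit false
set_option linter.style.haveILetI false

namespace Cfsg.Agent.Helper6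

open scoped ComplexConjugate

universe u

variable {G : Type u} [Group G] {M : Ideal Cfsg.AlgInt}

/-- for the centralizer of a normal subgroup the Brauer central character is the induced central
character -/
theorem brauerCentralChar_centralizer_eq (P : Subgroup G)
    (ξ : Subgroup.centralizer (P : Set G) → ℂ) (g : G) :
    Cfsg.brauerCentralChar P (Subgroup.centralizer (P : Set G)) ξ g =
      Cfsg.inducedCentralChar (Subgroup.centralizer (P : Set G)) ξ g := by
  unfold Cfsg.brauerCentralChar Cfsg.inducedCentralChar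
  apply finsum_mem_congr ?_ (fun _ _ => rfl)
  ext h
  exact ⟨fun h' => h'.1, fun h' => ⟨h', h.2⟩⟩

theorem inducedCentralChar_eq_zero_of_not_mem (N : Subgroup G) [hN : N.Normal] (ξ : N → ℂ)
    (g : G) (hg : g ∉ N) : Cfsg.inducedCentralChar N ξ g = 0 := by
  unfold Cfsg.inducedCentralChar
  apply finsum_mem_eq_zero_of_forall_eq_zero
  intro h hh
  exfalso
  apply hg
  obtain ⟨c, hc⟩ := isConj_iff.mp hh
  have : g = c⁻¹ * (h : G) * c⁻¹⁻¹ := by rw [← hc]; group
  rw [this]
  exact hN.conj_mem _ h.2 _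

/-- **the block of a Brauer pair on a normal `p`-subgroup consists of the characters lying over the
conjugates of the block of the centralizer** -/
theorem eq_lyingOver_of_isBrauerPairOf [Fintype G] {p : ℕ} [hp : Fact p.Prime]
    (hM : Cfsg.IsPModular p M) (P : Subgroup G) [hPn : P.Normal]
    [Fintype (Subgroup.centralizer (P : Set G))]
    (B : Set (Cfsg.IrrCharacter G))
    (e : Set (Cfsg.IrrCharacter (Subgroup.centralizer (P : Set G))))
    (hBe : Cfsg.IsBrauerPairOf p M B P e) :
    B = lyingOver (Subgroup.centralizer (P : Set G))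
      (orbitUnion (Subgroup.centralizer (P : Set G)) e) := by
  classical
  have hBe' := hBe
  obtain ⟨⟨hP, ξ₀, rfl⟩, hB, h1⟩ := hBe
  have he : Cfsg.IsPBlock M (Cfsg.blockOf M (ξ₀ : Subgroup.centralizer (P : Set G) → ℂ)) :=
    ⟨ξ₀, rfl⟩
  have hξ₀ := mem_blockOf_self hM.2.1 ξ₀
  obtain ⟨χ₀, hχ₀⟩ := exists_irr_brauerCentralChar hM P (Subgroup.centralizer (P : Set G)) hP
    le_rfl (Subgroup.centralizer_le_normalizer _) ξ₀
  have hχ₀B : χ₀ ∈ B := by
    by_contra hcon
    have h2 := brauerOmega_blockCoeff hM P B hB ξ₀ χ₀ hχ₀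
    rw [if_neg hcon, sub_zero] at h2
    have h3 := h1 ξ₀ hξ₀
    have := MemLocalIdeal.sub hM.2.1 h2 h3
    rw [sub_sub_cancel] at this
    exact not_memLocalIdeal_one this
  -- `B` covers `e`
  obtain ⟨θ₁, hθ₁, hcon₁⟩ := exists_constituent_in_block hM.2.1
    (Subgroup.centralizer (P : Set G)) _ he χ₀ ξ₀ hξ₀ (fun n => by
      have := MemLocalIdeal.neg (hχ₀ (n : G))
      rw [neg_sub, brauerCentralChar_centralizer_eq] at this
      exact this)
  apply Set.Subset.antisymm
  · intro χ' hχ'
    obtain ⟨ψ, hψ⟩ := exists_constituent_restrict (Subgroup.centralizer (P : Set G)) χ'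
    obtain ⟨g, θ', hθ', hg⟩ := covering_conj hM.2.1 (Subgroup.centralizer (P : Set G)) B hB _ he
      χ₀ hχ₀B θ₁ hθ₁ hcon₁ χ' hχ' ψ hψ
    refine ⟨ψ, ⟨g⁻¹, ?_⟩, hψ⟩
    have e1 : ψ = conjIrr (Subgroup.centralizer (P : Set G)) g θ' := by
      apply Subtype.ext
      funext n
      exact hg n
    rw [e1, conjIrr_conjIrr, mul_inv_cancel, conjIrr_one]
    exact hθ'
  · rintro χ' ⟨θ, ⟨g, hg⟩, hθ⟩
    -- `χ'` lies over a member of `e`
    have hχcf := IsCharacter.isClassFunction (IsIrrCharacter.isCharacter χ'.2)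
    have hcon' : Cfsg.classInner (fun n : Subgroup.centralizer (P : Set G) => (χ' : G → ℂ) n)
        (conjIrr (Subgroup.centralizer (P : Set G)) g θ :
          Subgroup.centralizer (P : Set G) → ℂ) ≠ 0 := by
      have h2 : Cfsg.classInner
          (fun n : Subgroup.centralizer (P : Set G) => (χ' : G → ℂ) n)
          (conjFun (Subgroup.centralizer (P : Set G))
            (θ : Subgroup.centralizer (P : Set G) → ℂ) g) =
          Cfsg.classInner (conjFun (Subgroup.centralizer (P : Set G))
            (fun n : Subgroup.centralizer (P : Set G) => (χ' : G → ℂ) n) g)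
            (conjFun (Subgroup.centralizer (P : Set G))
              (θ : Subgroup.centralizer (P : Set G) → ℂ) g) := by
        rw [conjFun_restrict (Subgroup.centralizer (P : Set G)) (χ' : G → ℂ) hχcf g]
      change Cfsg.classInner (fun n : Subgroup.centralizer (P : Set G) => (χ' : G → ℂ) n)
        (conjFun (Subgroup.centralizer (P : Set G))
          (θ : Subgroup.centralizer (P : Set G) → ℂ) g) ≠ 0
      rw [h2, classInner_conjFun]
      exact hθ
    set B' := Cfsg.blockOf M (χ' : G → ℂ) with hB'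
    have hB'b : Cfsg.IsPBlock M B' := ⟨χ', rfl⟩
    have hχ'B' : χ' ∈ B' := mem_blockOf_self hM.2.1 χ'
    have hcov := (covering_iff hM.2.1 (Subgroup.centralizer (P : Set G)) B' hB'b _ he).mp
      ⟨χ', hχ'B', _, hg, hcon'⟩
    have hχ' : ∀ g, Cfsg.MemLocalIdeal M
        (Cfsg.brauerCentralChar P (Subgroup.centralizer (P : Set G))
          (ξ₀ : Subgroup.centralizer (P : Set G) → ℂ) g -
            Cfsg.centralChar (χ' : G → ℂ) g) := by
      intro g
      rw [brauerCentralChar_centralizer_eq]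
      by_cases hgC : g ∈ Subgroup.centralizer (P : Set G)
      · have := MemLocalIdeal.neg (hcov χ' hχ'B' ξ₀ hξ₀ ⟨g, hgC⟩)
        rwa [neg_sub] at this
      · rw [inducedCentralChar_eq_zero_of_not_mem _ _ _ hgC, zero_sub]
        exact MemLocalIdeal.neg
          (centralChar_memLocalIdeal_of_not_mem_centralizer hM P hP χ' g hgC)
    have h2 := brauerOmega_blockCoeff hM P B' hB'b ξ₀ χ' hχ'
    rw [if_pos hχ'B'] at h2
    have hB'pair : Cfsg.IsBrauerPairOf p M B' P
        (Cfsg.blockOf M (ξ₀ : Subgroup.centralizer (P : Set G) → ℂ)) := by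
      refine ⟨⟨hP, he⟩, hB'b, fun ξ hξ => ?_⟩
      have h3 := brauerOmega_sub_of_sameBlock hM.2.1 P (Cfsg.blockCoeff B')
        (fun x y => blockCoeff_isClassFunction B' _ _) (fun x => osima hM.2.1 B' hB'b _) ξ ξ₀
        (sameBlock_symm hξ)
      have := MemLocalIdeal.add hM.2.1 h3 h2
      convert this using 1
      ring
    obtain ⟨B'', -, hu⟩ := existsUnique_isBrauerPairOf hM P _ ⟨hP, he⟩
    rw [hu B hBe', ← hu B' hB'pair]
    exact hχ'B'

theorem mem_normalizer_of_normal (N : Subgroup G) [hN : N.Normal] (x : G) :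
    x ∈ Subgroup.normalizer (N : Set G) := by
  rw [Subgroup.mem_normalizer_iff]
  intro h
  constructor
  · intro hh
    exact hN.conj_mem h hh x
  · intro hh
    have := hN.conj_mem _ hh x⁻¹
    have e : x⁻¹ * (x * h * x⁻¹) * x⁻¹⁻¹ = h := by group
    rwa [e] at this

/-- the conjugation action of `G` on sets of irreducible characters of a normal subgroup -/
noncomputable def nact (N : Subgroup G) [N.Normal] (x : G) (f : Set (Cfsg.IrrCharacter N)) :
    Set (Cfsg.IrrCharacter N) :=
  nconjIrr N x (mem_normalizer_of_normal N x) '' f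

theorem nact_one (N : Subgroup G) [N.Normal] (f : Set (Cfsg.IrrCharacter N)) :
    nact N 1 f = f := by
  unfold nact
  ext θ
  constructor
  · rintro ⟨χ, hχ, rfl⟩
    rw [nconjIrr_one]
    exact hχ
  · intro hθ
    exact ⟨θ, hθ, nconjIrr_one _ _ θ⟩

theorem nact_mul (N : Subgroup G) [N.Normal] (x y : G) (f : Set (Cfsg.IrrCharacter N)) :
    nact N (x * y) f = nact N x (nact N y f) := by
  unfold nact
  ext θ
  constructor
  · rintro ⟨χ, hχ, rfl⟩
    exact ⟨nconjIrr N y (mem_normalizer_of_normal N y) χ, ⟨χ, hχ, rfl⟩,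
      (nconjIrr_mul N x y _ _ _ χ).symm⟩
  · rintro ⟨χ', ⟨χ, hχ, rfl⟩, rfl⟩
    exact ⟨χ, hχ, nconjIrr_mul N x y _ _ _ χ⟩

theorem nact_injective (N : Subgroup G) [N.Normal] (x : G) :
    Function.Injective (nact N x) := by
  intro f f' h
  have := congrArg (nact N x⁻¹) h
  rwa [← nact_mul, ← nact_mul, inv_mul_cancel, nact_one, nact_one] at this

theorem nact_blockOf (N : Subgroup G) [N.Normal] (x : G) (ζ : Cfsg.IrrCharacter N) :
    nact N x (Cfsg.blockOf M (ζ : N → ℂ)) =
      Cfsg.blockOf M (nconjIrr N x (mem_normalizer_of_normal N x) ζ : N → ℂ) :=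
  image_nconjIrr_blockOf N x _ ζ

theorem isPBlock_nact (N : Subgroup G) [N.Normal] (x : G) (f : Set (Cfsg.IrrCharacter N))
    (hf : Cfsg.IsPBlock M f) : Cfsg.IsPBlock M (nact N x f) := by
  obtain ⟨ζ, rfl⟩ := hf
  exact ⟨_, nact_blockOf N x ζ⟩

theorem blockCoeff_nact [Finite G] (N : Subgroup G) [N.Normal] (x : G)
    (f : Set (Cfsg.IrrCharacter N)) (k : N) :
    Cfsg.blockCoeff (nact N x f) k =
      Cfsg.blockCoeff f (nconjHom N x (mem_normalizer_of_normal N x) k) :=
  blockCoeff_image_nconjIrr N x _ f k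

theorem conjIrr_eq_nconjIrr [Finite G] (N : Subgroup G) [N.Normal] (x : G)
    (θ : Cfsg.IrrCharacter N) :
    conjIrr N x θ = nconjIrr N x⁻¹ (mem_normalizer_of_normal N x⁻¹) θ := by
  apply Subtype.ext
  funext n
  rw [nconjIrr_apply]
  change conjFun N (θ : N → ℂ) x n = _
  unfold conjFun
  refine congrArg (θ : N → ℂ) ?_
  apply Subtype.ext
  rw [coe_nconjHom]
  simp

theorem mem_nact_iff [Finite G] (N : Subgroup G) [N.Normal] (x : G)
    (f : Set (Cfsg.IrrCharacter N)) (θ : Cfsg.IrrCharacter N) :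
    θ ∈ nact N x f ↔ conjIrr N x θ ∈ f := by
  rw [conjIrr_eq_nconjIrr]
  unfold nact
  constructor
  · rintro ⟨χ, hχ, rfl⟩
    rw [nconjIrr_inv_cancel']
    exact hχ
  · intro h
    exact ⟨_, h, nconjIrr_inv_cancel N x _ _ θ⟩

theorem mem_orbitUnion_iff [Finite G] (N : Subgroup G) [N.Normal]
    (e : Set (Cfsg.IrrCharacter N)) (θ : Cfsg.IrrCharacter N) :
    θ ∈ orbitUnion N e ↔ ∃ x : G, θ ∈ nact N x e := by
  constructor
  · rintro ⟨x, hx⟩
    exact ⟨x, (mem_nact_iff N x e θ).mpr hx⟩
  · rintro ⟨x, hx⟩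
    exact ⟨x, (mem_nact_iff N x e θ).mp hx⟩

theorem nact_eq_self_iff [Finite G] (N : Subgroup G) [N.Normal] (x : G)
    (e : Set (Cfsg.IrrCharacter N)) : nact N x e = e ↔ Cfsg.StabilizesBlock N e x := by
  haveI : Finite (Cfsg.IrrCharacter N) := irr_finite
  constructor
  · intro h
    refine ⟨mem_normalizer_of_normal N x, fun χ hχ =>
      ⟨nconjIrr N x (mem_normalizer_of_normal N x) χ, ?_, isConjCharOf_nconjIrr N x _ χ⟩⟩
    rw [← h]
    exact ⟨χ, hχ, rfl⟩
  · intro h
    have hsub : nact N x e ⊆ e := by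
      rintro θ ⟨χ, hχ, rfl⟩
      exact nconjIrr_mem_of_stabilizes N e x h χ hχ
    apply Set.eq_of_subset_of_ncard_le hsub _ (Set.toFinite e)
    unfold nact
    rw [Set.ncard_image_of_injective _ (nconjIrr_injective N x _)]

section Orbit

variable [Fintype G]

open Classical in
/-- the idempotent of the union of the conjugates of a block is the sum of the idempotents of the
distinct conjugates -/
theorem blockCoeff_orbitUnion_eq_sum (hM : M.IsMaximal) (N : Subgroup G) [N.Normal] [Fintype N]
    (e : Set (Cfsg.IrrCharacter N)) (he : Cfsg.IsPBlock M e) (c : N) :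
    Cfsg.blockCoeff (orbitUnion N e) c =
      ∑ f ∈ (Finset.univ : Finset G).image (fun x : G => nact N x e), Cfsg.blockCoeff f c := by
  haveI : Finite (Cfsg.IrrCharacter N) := irr_finite
  haveI : Fintype (Cfsg.IrrCharacter N) := Fintype.ofFinite _
  have h1 : ∀ f ∈ (Finset.univ : Finset G).image (fun x : G => nact N x e),
      Cfsg.blockCoeff f c =
      idemCoeff (fun θ : Cfsg.IrrCharacter N => if θ ∈ f then (1 : ℂ) else 0) c :=
    fun f _ => blockCoeff_eq_idemCoeff f c
  rw [Finset.sum_congr rfl h1, ← idemCoeff_finset_sum, blockCoeff_eq_idemCoeff]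
  congr 1
  funext θ
  rw [Finset.sum_apply]
  by_cases hθ : θ ∈ orbitUnion N e
  · rw [if_pos hθ]
    obtain ⟨x₀, hx₀⟩ := (mem_orbitUnion_iff N e θ).mp hθ
    rw [Finset.sum_eq_single (nact N x₀ e)]
    · rw [if_pos hx₀]
    · intro f hf hne
      rw [if_neg]
      intro hθf
      apply hne
      obtain ⟨x, -, rfl⟩ := Finset.mem_image.mp hf
      rw [eq_blockOf_of_mem hM _ (isPBlock_nact N x e he) θ hθf,
        eq_blockOf_of_mem hM _ (isPBlock_nact N x₀ e he) θ hx₀]
    · intro h
      exact absurd (Finset.mem_image.mpr ⟨x₀, Finset.mem_univ _, rfl⟩) h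
  · rw [if_neg hθ]
    symm
    apply Finset.sum_eq_zero
    intro f hf
    rw [if_neg]
    intro hθf
    apply hθ
    obtain ⟨x, -, rfl⟩ := Finset.mem_image.mp hf
    exact (mem_orbitUnion_iff N e θ).mpr ⟨x, hθf⟩

open Classical in
/-- the sum over all group elements of the idempotents of the conjugates of a block counts every
distinct conjugate as often as the order of the stabilizer -/
theorem sum_blockCoeff_nact (N : Subgroup G) [N.Normal] [Fintype N]
    (e : Set (Cfsg.IrrCharacter N)) (T : Subgroup G)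
    (hT : ∀ x : G, x ∈ T ↔ Cfsg.StabilizesBlock N e x) (F : Set (Cfsg.IrrCharacter N) → ℂ) :
    ∑ x : G, F (nact N x e) =
      (Nat.card T : ℂ) * ∑ f ∈ (Finset.univ : Finset G).image (fun x : G => nact N x e), F f := by
  rw [Finset.sum_comp F (fun x : G => nact N x e), Finset.mul_sum]
  apply Finset.sum_congr rfl
  intro f hf
  obtain ⟨x₀, -, rfl⟩ := Finset.mem_image.mp hf
  rw [nsmul_eq_mul]
  congr 1
  have hset : (Finset.univ : Finset G).filter (fun x => nact N x e = nact N x₀ e) =
      ((Finset.univ : Finset G).filter (· ∈ T)).image (fun t => x₀ * t) := by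
    ext x
    simp only [Finset.mem_filter, Finset.mem_univ, true_and, Finset.mem_image]
    constructor
    · intro hx
      refine ⟨x₀⁻¹ * x, ?_, by group⟩
      rw [hT, ← nact_eq_self_iff]
      apply nact_injective N x₀
      rw [← nact_mul, mul_inv_cancel_left]
      exact hx
    · rintro ⟨t, ht, rfl⟩
      rw [hT, ← nact_eq_self_iff] at ht
      rw [nact_mul, ht]
  rw [hset, Finset.card_image_of_injective _ (mul_right_injective x₀)]
  rw [Nat.card_eq_fintype_card, Fintype.card_subtype]

theorem subgroupBlockCoeff_nact (N : Subgroup G) [hN : N.Normal] (x : G)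
    (f : Set (Cfsg.IrrCharacter N)) (g : G) :
    Cfsg.subgroupBlockCoeff N (nact N x f) g = Cfsg.subgroupBlockCoeff N f (x⁻¹ * g * x) := by
  by_cases hg : g ∈ N
  · have hg' : x⁻¹ * g * x ∈ N := by
      have := hN.conj_mem g hg x⁻¹
      rwa [inv_inv] at this
    rw [subgroupBlockCoeff_of_mem _ _ _ hg, subgroupBlockCoeff_of_mem _ _ _ hg', blockCoeff_nact]
    rfl
  · have hg' : x⁻¹ * g * x ∉ N := by
      intro hcon
      apply hg
      have := hN.conj_mem _ hcon x
      have e : x * (x⁻¹ * g * x) * x⁻¹ = g := by group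
      rwa [e] at this
    rw [subgroupBlockCoeff_of_not_mem _ _ _ hg, subgroupBlockCoeff_of_not_mem _ _ _ hg']

open Classical in
/-- **the idempotent of the block of a Brauer pair on a normal `p`-subgroup is the sum of the
idempotents of the distinct conjugates of the block of the centralizer** -/
theorem blockCoeff_eq_sum_conjugates {p : ℕ} [hp : Fact p.Prime]
    (hM : Cfsg.IsPModular p M) (P : Subgroup G) [hPn : P.Normal]
    (B : Set (Cfsg.IrrCharacter G))
    (e : Set (Cfsg.IrrCharacter (Subgroup.centralizer (P : Set G))))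
    (hBe : Cfsg.IsBrauerPairOf p M B P e) (g : G) :
    Cfsg.blockCoeff B g =
      ∑ f ∈ (Finset.univ : Finset G).image
        (fun x : G => nact (Subgroup.centralizer (P : Set G)) x e),
        Cfsg.subgroupBlockCoeff (Subgroup.centralizer (P : Set G)) f g := by
  haveI : Fintype (Subgroup.centralizer (P : Set G)) := Fintype.ofFinite _
  have h1 := eq_lyingOver_of_isBrauerPairOf hM P B e hBe
  have h2 := blockCoeff_lyingOver (Subgroup.centralizer (P : Set G))
    (orbitUnion (Subgroup.centralizer (P : Set G)) e)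
    (fun g θ hθ => conjIrr_mem_orbitUnion _ e g hθ) g
  rw [← h1] at h2
  rw [h2]
  by_cases hg : g ∈ Subgroup.centralizer (P : Set G)
  · rw [extendByZero_mem _ _ hg, blockCoeff_orbitUnion_eq_sum hM.2.1 _ e hBe.1.2]
    apply Finset.sum_congr rfl
    intro f _
    rw [subgroupBlockCoeff_of_mem _ _ _ hg]
  · rw [extendByZero_not_mem _ _ hg]
    symm
    apply Finset.sum_eq_zero
    intro f _
    rw [subgroupBlockCoeff_of_not_mem _ _ _ hg]

/-- the same, as an average over the group -/
theorem blockCoeff_eq_sum_conj {p : ℕ} [hp : Fact p.Prime]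
    (hM : Cfsg.IsPModular p M) (P : Subgroup G) [hPn : P.Normal]
    (B : Set (Cfsg.IrrCharacter G))
    (e : Set (Cfsg.IrrCharacter (Subgroup.centralizer (P : Set G))))
    (hBe : Cfsg.IsBrauerPairOf p M B P e) (T : Subgroup G)
    (hT : ∀ x : G, x ∈ T ↔ Cfsg.StabilizesBlock (Subgroup.centralizer (P : Set G)) e x)
    (g : G) :
    Cfsg.blockCoeff B g = (Nat.card T : ℂ)⁻¹ *
      ∑ x : G, Cfsg.subgroupBlockCoeff (Subgroup.centralizer (P : Set G)) e (x⁻¹ * g * x) := by
  classical
  haveI : Fintype (Subgroup.centralizer (P : Set G)) := Fintype.ofFinite _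
  have hT0 : (Nat.card T : ℂ) ≠ 0 := by
    have : 0 < Nat.card T := Nat.card_pos
    exact_mod_cast this.ne'
  have h1 := sum_blockCoeff_nact (Subgroup.centralizer (P : Set G)) e T hT
    (fun f => Cfsg.subgroupBlockCoeff (Subgroup.centralizer (P : Set G)) f g)
  simp only [subgroupBlockCoeff_nact] at h1
  rw [h1, blockCoeff_eq_sum_conjugates hM P B e hBe g, ← mul_assoc, inv_mul_cancel₀ hT0, one_mul]

end Orbit

end Cfsg.Agent.Helper6
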