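import Mathlib
import Cfsg.Prelude.Def_Characters
import Cfsg.Prelude.Def_Blocks
import Cfsg.Prelude.Def_BlockLocal
import Cfsg.Prelude.Def_BrauerPairs
import Cfsg.Agent.Helper6.NormalPairBlock

/-!
# Transporting a block of `C_G(P)` into a subgroup containing `P C_G(P)`
-/

set_option autoImplicit false
set_option linter.style.haveILetI false

namespace Cfsg.Agent.Helper6

open scoped ComplexConjugate

universe u

variable {G : Type u} [Group G] {M : Ideal Cfsg.AlgInt}

section Equiv

variable {K K' : Type u} [Group K] [Group K']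

theorem irrComp_symm_cancel (φ : K ≃* K') (θ : Cfsg.IrrCharacter K) :
    irrComp φ (irrComp φ.symm θ) = θ := by
  apply Subtype.ext
  funext k
  rw [irrComp_apply, irrComp_apply, φ.symm_apply_apply]

theorem irrComp_injective (φ : K ≃* K') : Function.Injective (irrComp φ) := by
  intro χ₁ χ₂ h
  apply Subtype.ext
  funext k'
  have := congrFun (congrArg Subtype.val h) (φ.symm k')
  rw [irrComp_apply, irrComp_apply, φ.apply_symm_apply] at this
  exact this

theorem image_irrComp_blockOf (φ : K ≃* K') (ζ : Cfsg.IrrCharacter K') :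
    irrComp φ '' Cfsg.blockOf M (ζ : K' → ℂ) = Cfsg.blockOf M (irrComp φ ζ : K → ℂ) := by
  ext θ
  constructor
  · rintro ⟨χ, hχ, rfl⟩
    exact sameBlock_comp_mulEquiv φ _ _ hχ
  · intro hθ
    refine ⟨irrComp φ.symm θ, ?_, irrComp_symm_cancel φ θ⟩
    have h1 := sameBlock_comp_mulEquiv (M := M) φ.symm _ _ hθ
    have e : (fun x => (irrComp φ ζ : K → ℂ) (φ.symm x)) = (ζ : K' → ℂ) := by
      funext x
      rw [irrComp_apply, φ.apply_symm_apply]
    rw [e] at h1
    exact h1

theorem blockCoeff_image_irrComp [Finite K] (φ : K ≃* K') (f : Set (Cfsg.IrrCharacter K'))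
    (k : K) : Cfsg.blockCoeff (irrComp φ '' f) k = Cfsg.blockCoeff f (φ k) := by
  unfold Cfsg.blockCoeff
  rw [Nat.card_congr φ.toEquiv, finsum_mem_image ((irrComp_injective φ).injOn)]
  congr 1
  apply finsum_mem_congr rfl
  intro χ _
  rw [irrComp_apply, irrComp_apply, map_one]

end Equiv

/-- the centralizer of `P` in a subgroup `K` containing `P` and `C_G(P)` is `C_G(P)` -/
def centSubEquiv (K P : Subgroup G) (hPK : P ≤ K) (hCK : Subgroup.centralizer (P : Set G) ≤ K) :
    Subgroup.centralizer ((P.subgroupOf K : Subgroup K) : Set K) ≃*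
      Subgroup.centralizer (P : Set G) where
  toFun c := ⟨((c : K) : G), by
    rw [Subgroup.mem_centralizer_iff]
    intro u hu
    have := Subgroup.mem_centralizer_iff.mp c.2 ⟨u, hPK hu⟩ (Subgroup.mem_subgroupOf.mpr hu)
    exact congrArg Subtype.val this⟩
  invFun c := ⟨⟨(c : G), hCK c.2⟩, by
    rw [Subgroup.mem_centralizer_iff]
    intro u hu
    apply Subtype.ext
    exact Subgroup.mem_centralizer_iff.mp c.2 (u : G) (Subgroup.mem_subgroupOf.mp hu)⟩
  left_inv c := Subtype.ext (Subtype.ext rfl)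
  right_inv c := Subtype.ext rfl
  map_mul' a b := Subtype.ext rfl

theorem coe_centSubEquiv (K P : Subgroup G) (hPK : P ≤ K)
    (hCK : Subgroup.centralizer (P : Set G) ≤ K)
    (c : Subgroup.centralizer ((P.subgroupOf K : Subgroup K) : Set K)) :
    ((centSubEquiv K P hPK hCK c : Subgroup.centralizer (P : Set G)) : G) = ((c : K) : G) := rfl

theorem mem_centralizer_subgroupOf_iff (K P : Subgroup G) (hPK : P ≤ K) (k : K) :
    k ∈ Subgroup.centralizer ((P.subgroupOf K : Subgroup K) : Set K) ↔
      (k : G) ∈ Subgroup.centralizer (P : Set G) := by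
  rw [Subgroup.mem_centralizer_iff, Subgroup.mem_centralizer_iff]
  constructor
  · intro h u hu
    have := h ⟨u, hPK hu⟩ (Subgroup.mem_subgroupOf.mpr hu)
    exact congrArg Subtype.val this
  · intro h u hu
    apply Subtype.ext
    exact h (u : G) (Subgroup.mem_subgroupOf.mp hu)

/-- the block of `C_G(P)` read as a set of characters of the centralizer of `P` in `K` -/
noncomputable def localBlock (K P : Subgroup G) (hPK : P ≤ K)
    (hCK : Subgroup.centralizer (P : Set G) ≤ K)
    (e : Set (Cfsg.IrrCharacter (Subgroup.centralizer (P : Set G)))) :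
    Set (Cfsg.IrrCharacter (Subgroup.centralizer ((P.subgroupOf K : Subgroup K) : Set K))) :=
  irrComp (centSubEquiv K P hPK hCK) '' e

theorem isPBlock_localBlock (K P : Subgroup G) (hPK : P ≤ K)
    (hCK : Subgroup.centralizer (P : Set G) ≤ K)
    (e : Set (Cfsg.IrrCharacter (Subgroup.centralizer (P : Set G)))) (he : Cfsg.IsPBlock M e) :
    Cfsg.IsPBlock M (localBlock K P hPK hCK e) := by
  obtain ⟨ζ, rfl⟩ := he
  exact ⟨_, image_irrComp_blockOf _ ζ⟩

theorem subgroupBlockCoeff_localBlock [Finite G] (K P : Subgroup G) (hPK : P ≤ K)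
    (hCK : Subgroup.centralizer (P : Set G) ≤ K)
    (e : Set (Cfsg.IrrCharacter (Subgroup.centralizer (P : Set G)))) (k : K) :
    Cfsg.subgroupBlockCoeff (Subgroup.centralizer ((P.subgroupOf K : Subgroup K) : Set K))
      (localBlock K P hPK hCK e) k =
      Cfsg.subgroupBlockCoeff (Subgroup.centralizer (P : Set G)) e (k : G) := by
  by_cases hk : k ∈ Subgroup.centralizer ((P.subgroupOf K : Subgroup K) : Set K)
  · have hk' := (mem_centralizer_subgroupOf_iff K P hPK k).mp hk
    rw [subgroupBlockCoeff_of_mem _ _ _ hk, subgroupBlockCoeff_of_mem _ _ _ hk']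
    unfold localBlock
    rw [blockCoeff_image_irrComp]
    rfl
  · have hk' : (k : G) ∉ Subgroup.centralizer (P : Set G) :=
      fun h => hk ((mem_centralizer_subgroupOf_iff K P hPK k).mpr h)
    rw [subgroupBlockCoeff_of_not_mem _ _ _ hk, subgroupBlockCoeff_of_not_mem _ _ _ hk']

theorem stabilizesBlock_localBlock_iff (K P : Subgroup G) (hPK : P ≤ K)
    (hCK : Subgroup.centralizer (P : Set G) ≤ K)
    (hKN : K ≤ Subgroup.normalizer (P : Set G))
    (e : Set (Cfsg.IrrCharacter (Subgroup.centralizer (P : Set G)))) (k : K) :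
    Cfsg.StabilizesBlock (Subgroup.centralizer ((P.subgroupOf K : Subgroup K) : Set K))
      (localBlock K P hPK hCK e) k ↔
      Cfsg.StabilizesBlock (Subgroup.centralizer (P : Set G)) e (k : G) := by
  have hn1 : (k : G) ∈ Subgroup.normalizer
      ((Subgroup.centralizer (P : Set G) : Subgroup G) : Set G) :=
    normalizer_le_normalizer_centralizer P (hKN k.2)
  have hn2 : k ∈ Subgroup.normalizer
      ((Subgroup.centralizer ((P.subgroupOf K : Subgroup K) : Set K) : Subgroup K) : Set K) := by
    apply normalizer_le_normalizer_centralizer (P.subgroupOf K)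
    rw [Subgroup.mem_normalizer_iff]
    intro h
    rw [Subgroup.mem_subgroupOf, Subgroup.mem_subgroupOf]
    exact Subgroup.mem_normalizer_iff.mp (hKN k.2) (h : G)
  set Φ := centSubEquiv K P hPK hCK with hΦ
  constructor
  · rintro ⟨-, h⟩
    refine ⟨hn1, fun χ hχ => ?_⟩
    obtain ⟨χ₁', ⟨χ', hχ', rfl⟩, hc⟩ := h (irrComp Φ χ) ⟨χ, hχ, rfl⟩
    refine ⟨χ', hχ', ?_⟩
    intro c c' hcc
    have := hc (Φ.symm c) (Φ.symm c') (by
      apply Subtype.ext
      exact hcc)
    rw [irrComp_apply, irrComp_apply, Φ.apply_symm_apply, Φ.apply_symm_apply] at this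
    exact this
  · rintro ⟨-, h⟩
    refine ⟨hn2, ?_⟩
    rintro χ₁ ⟨χ, hχ, rfl⟩
    obtain ⟨χ', hχ', hc⟩ := h χ hχ
    refine ⟨irrComp Φ χ', ⟨χ', hχ', rfl⟩, ?_⟩
    intro c c' hcc
    rw [irrComp_apply, irrComp_apply]
    apply hc
    have := congrArg Subtype.val hcc
    exact this

end Cfsg.Agent.Helper6
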