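import Mathlib
import Cfsg.Prelude.Def_Characters
import Cfsg.Prelude.Def_Blocks
import Cfsg.Prelude.Def_BlockLocal
import Cfsg.Prelude.Def_BrauerPairs
import Cfsg.Agent.Helper6.LocalTransport

/-!
# The idempotent of a block of `C_G(P)` is a block idempotent of its stabilizer
-/

set_option autoImplicit false
set_option linter.style.haveILetI false

namespace Cfsg.Agent.Helper6

open scoped ComplexConjugate

universe u

variable {G : Type u} [Group G] {M : Ideal Cfsg.AlgInt}

/-- the elements of `P` stabilize every set of characters of `C_G(P)` -/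
theorem stabilizesBlock_of_mem (P : Subgroup G)
    (e : Set (Cfsg.IrrCharacter (Subgroup.centralizer (P : Set G)))) (u : G) (hu : u ∈ P) :
    Cfsg.StabilizesBlock (Subgroup.centralizer (P : Set G)) e u := by
  refine ⟨normalizer_le_normalizer_centralizer P (Subgroup.le_normalizer hu),
    fun χ hχ => ⟨χ, hχ, fun k k' hk => ?_⟩⟩
  have hc : u * (k : G) = (k : G) * u := Subgroup.mem_centralizer_iff.mp k.2 u hu
  have : k' = k := by
    apply Subtype.ext
    rw [hk, hc, mul_inv_cancel_right]
  rw [this]

/-- the elements of `C_G(P)` stabilize every set of characters of `C_G(P)` -/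
theorem stabilizesBlock_of_mem_centralizer (P : Subgroup G)
    (e : Set (Cfsg.IrrCharacter (Subgroup.centralizer (P : Set G)))) (c : G)
    (hc : c ∈ Subgroup.centralizer (P : Set G)) :
    Cfsg.StabilizesBlock (Subgroup.centralizer (P : Set G)) e c := by
  refine ⟨Subgroup.le_normalizer hc, fun χ hχ => ⟨χ, hχ, fun k k' hk => ?_⟩⟩
  have hcf := IsCharacter.isClassFunction (IsIrrCharacter.isCharacter χ.2)
  have : k' = ⟨c, hc⟩ * k * ⟨c, hc⟩⁻¹ := by
    apply Subtype.ext
    rw [hk]
    rfl
  rw [this, hcf]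

/-- **the idempotent of a stable block of `C_G(P)` is a block idempotent** of a subgroup `K` with
`P C_G(P) ≤ K ≤ N_G(P)` all of whose elements stabilize the block -/
theorem exists_block_of_stable [Fintype G] {p : ℕ} [hp : Fact p.Prime]
    (hM : Cfsg.IsPModular p M) (P K : Subgroup G) (hP : IsPGroup p P) (hPK : P ≤ K)
    (hCK : Subgroup.centralizer (P : Set G) ≤ K)
    (hKN : K ≤ Subgroup.normalizer (P : Set G))
    (e : Set (Cfsg.IrrCharacter (Subgroup.centralizer (P : Set G)))) (he : Cfsg.IsPBlock M e)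
    (hst : ∀ x ∈ K, Cfsg.StabilizesBlock (Subgroup.centralizer (P : Set G)) e x) :
    ∃ E : Set (Cfsg.IrrCharacter K), Cfsg.IsPBlock M E ∧
      Cfsg.IsBrauerPairOf p M E (P.subgroupOf K) (localBlock K P hPK hCK e) ∧
      ∀ t : K, Cfsg.blockCoeff E t =
        Cfsg.subgroupBlockCoeff (Subgroup.centralizer (P : Set G)) e (t : G) := by
  classical
  haveI hPn : (P.subgroupOf K).Normal :=
    (Subgroup.normal_subgroupOf_iff_le_normalizer hPK).mpr hKN
  have hP₁ : IsPGroup p (P.subgroupOf K) := hP.comap_subtype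
  have he₁ := isPBlock_localBlock (M := M) K P hPK hCK e he
  obtain ⟨E, hE, -⟩ := existsUnique_isBrauerPairOf hM (P.subgroupOf K)
    (localBlock K P hPK hCK e) ⟨hP₁, he₁⟩
  refine ⟨E, hE.2.1, hE, fun t => ?_⟩
  have hT' : ∀ x : K, x ∈ (⊤ : Subgroup K) ↔
      Cfsg.StabilizesBlock (Subgroup.centralizer ((P.subgroupOf K : Subgroup K) : Set K))
        (localBlock K P hPK hCK e) x := by
    intro x
    constructor
    · intro _
      exact (stabilizesBlock_localBlock_iff K P hPK hCK hKN e x).mpr (hst _ x.2)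
    · intro _
      trivial
  rw [blockCoeff_eq_sum_conj hM (P.subgroupOf K) E _ hE ⊤ hT' t]
  have hinv := conjInv_subgroupBlockCoeff_of_stabilizes (Subgroup.centralizer (P : Set G)) K e hst
  have h1 : ∀ x : K, Cfsg.subgroupBlockCoeff
      (Subgroup.centralizer ((P.subgroupOf K : Subgroup K) : Set K))
      (localBlock K P hPK hCK e) (x⁻¹ * t * x) =
      Cfsg.subgroupBlockCoeff (Subgroup.centralizer (P : Set G)) e (t : G) := by
    intro x
    rw [subgroupBlockCoeff_localBlock]
    have := hinv (t : G) ((x : G)⁻¹) (K.inv_mem x.2)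
    rw [inv_inv] at this
    exact this
  simp_rw [h1]
  rw [Finset.sum_const, Finset.card_univ, nsmul_eq_mul, Subgroup.card_top,
    Nat.card_eq_fintype_card, ← mul_assoc, inv_mul_cancel₀, one_mul]
  have : 0 < Fintype.card K := Fintype.card_pos
  exact_mod_cast this.ne'

end Cfsg.Agent.Helper6
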