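import Mathlib
import Cfsg.Prelude.Def_Characters
import Cfsg.Prelude.Def_Blocks
import Cfsg.Prelude.Def_BlockLocal
import Cfsg.Prelude.Def_BrauerPairs
import Cfsg.Agent.Helper6.StabilizerBlock

/-!
# The block of a local subgroup determined by a Brauer pair induces the block of the pair
-/

set_option autoImplicit false
set_option linter.style.haveILetI false

namespace Cfsg.Agent.Helper6

open scoped ComplexConjugate

universe u

variable {G : Type u} [Group G] {M : Ideal Cfsg.AlgInt}

/-- for a Brauer pair on a normal `p`-subgroup, the central characters of the block are the induced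
central characters of the block of the centralizer -/
theorem centralChar_sub_induced_of_isBrauerPairOf [Fintype G] {p : ℕ} [hp : Fact p.Prime]
    (hM : Cfsg.IsPModular p M) (P : Subgroup G)
    (B : Set (Cfsg.IrrCharacter G))
    (e : Set (Cfsg.IrrCharacter (Subgroup.centralizer (P : Set G))))
    (hBe : Cfsg.IsBrauerPairOf p M B P e) (χ : Cfsg.IrrCharacter G) (hχ : χ ∈ B)
    (ξ : Cfsg.IrrCharacter (Subgroup.centralizer (P : Set G))) (hξ : ξ ∈ e) (g : G) :
    Cfsg.MemLocalIdeal M (Cfsg.centralChar (χ : G → ℂ) g -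
      Cfsg.inducedCentralChar (Subgroup.centralizer (P : Set G))
        (ξ : Subgroup.centralizer (P : Set G) → ℂ) g) := by
  classical
  obtain ⟨⟨hP, ξ₀, rfl⟩, hB, h1⟩ := hBe
  have hξ₀ := mem_blockOf_self hM.2.1 ξ₀
  obtain ⟨χ₀, hχ₀⟩ := exists_irr_brauerCentralChar hM P (Subgroup.centralizer (P : Set G)) hP
    le_rfl (Subgroup.centralizer_le_normalizer _) ξ₀
  have hχ₀B : χ₀ ∈ B := by
    by_contra hcon
    have h2 := brauerOmega_blockCoeff hM P B hB ξ₀ χ₀ hχ₀
    rw [if_neg hcon, sub_zero] at h2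
    have h3 := h1 ξ₀ hξ₀
    have := MemLocalIdeal.sub hM.2.1 h2 h3
    rw [sub_sub_cancel] at this
    exact not_memLocalIdeal_one this
  have h2 := hχ₀ g
  rw [brauerCentralChar_centralizer_eq] at h2
  have h3 := inducedCentralChar_sub_of_sameBlock hM.2.1 (Subgroup.centralizer (P : Set G))
    ξ₀ ξ hξ g
  obtain ⟨χ₁, rfl⟩ := hB
  have h4 : Cfsg.SameBlock M (χ : G → ℂ) (χ₀ : G → ℂ) :=
    sameBlock_trans hM.2.1 (sameBlock_symm hχ) hχ₀B
  have := MemLocalIdeal.add hM.2.1 (MemLocalIdeal.sub hM.2.1 (h4 g) h2) h3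
  convert this using 1
  ring

/-- sums over a conjugation-closed subset of a normal subgroup: the values of a character of the
group may be replaced by those of a character of the subgroup whose induced central character is
congruent to the central character -/
theorem sum_div_sub_sum_extend_memLocalIdeal [Fintype G] (hM : M.IsMaximal) (C : Subgroup G)
    [hC : C.Normal] [Fintype C] (η : Cfsg.IrrCharacter G) (θ : Cfsg.IrrCharacter C)
    (hcong : ∀ n : C, Cfsg.MemLocalIdeal M (Cfsg.centralChar (η : G → ℂ) (n : G) -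
      Cfsg.inducedCentralChar C (θ : C → ℂ) (n : G)))
    (S : Finset G) (hS : ∀ h ∈ S, ∀ x : G, x * h * x⁻¹ ∈ S) (hSC : ∀ h ∈ S, h ∈ C) :
    Cfsg.MemLocalIdeal M (∑ h ∈ S, ((η : G → ℂ) h / (η : G → ℂ) 1 -
      Cfsg.extendByZero C (fun c => (θ : C → ℂ) c / (θ : C → ℂ) 1) h)) := by
  classical
  set f : G → ℂ := fun h => if h ∈ S then ((η : G → ℂ) h / (η : G → ℂ) 1 -
      Cfsg.extendByZero C (fun c => (θ : C → ℂ) c / (θ : C → ℂ) 1) h) else 0 with hf
  have h1 : ∑ h ∈ S, ((η : G → ℂ) h / (η : G → ℂ) 1 -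
      Cfsg.extendByZero C (fun c => (θ : C → ℂ) c / (θ : C → ℂ) 1) h) = ∑ h ∈ S, f h := by
    apply Finset.sum_congr rfl
    intro h hh
    simp only [hf]
    rw [if_pos hh]
  rw [h1]
  apply sum_mem_of_class_sums (fun z => Cfsg.MemLocalIdeal M z) (memLocalIdeal_zero hM)
    (fun x y hx hy => MemLocalIdeal.add hM hx hy) f _ _ S rfl hS
  intro g
  by_cases hg : g ∈ S
  · have hgC : g ∈ C := hSC g hg
    have hall : ∀ x ∈ classFinset g, x ∈ S := by
      intro x hx
      rw [mem_classFinset] at hx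
      obtain ⟨c, hc⟩ := isConj_iff.mp hx
      rw [← hc]
      exact hS g hg c
    have h2 : ∑ x ∈ classFinset g, f x = ∑ x ∈ classFinset g,
        ((η : G → ℂ) x / (η : G → ℂ) 1 -
          Cfsg.extendByZero C (fun c => (θ : C → ℂ) c / (θ : C → ℂ) 1) x) := by
      apply Finset.sum_congr rfl
      intro x hx
      simp only [hf]
      rw [if_pos (hall x hx)]
    rw [h2, Finset.sum_sub_distrib, ← Finset.sum_div, sum_classFinset_char]
    have h3 : classFinset g =
        (normalClassFinset C g).map ⟨Subtype.val, Subtype.val_injective⟩ := by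
      ext x
      rw [mem_classFinset, Finset.mem_map]
      constructor
      · intro hx
        obtain ⟨c, hc⟩ := isConj_iff.mp hx
        have hxC : x ∈ C := by
          rw [← hc]
          exact hC.conj_mem g hgC c
        exact ⟨⟨x, hxC⟩, (mem_normalClassFinset C _ _).mpr hx, rfl⟩
      · rintro ⟨m, hm, rfl⟩
        exact (mem_normalClassFinset C _ _).mp hm
    rw [h3, Finset.sum_map]
    have h4 : ∑ x ∈ normalClassFinset C g,
        Cfsg.extendByZero C (fun c => (θ : C → ℂ) c / (θ : C → ℂ) 1)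
          ((⟨Subtype.val, Subtype.val_injective⟩ : C ↪ G) x) =
        Cfsg.inducedCentralChar C (θ : C → ℂ) g := by
      rw [inducedCentralChar_eq_sum']
      apply Finset.sum_congr rfl
      intro x _
      exact extendByZero_coe C _ x
    rw [h4]
    have := hcong ⟨g, hgC⟩
    unfold Cfsg.centralChar at this
    exact this
  · have hall : ∀ x ∈ classFinset g, x ∉ S := by
      intro x hx hxS
      apply hg
      rw [mem_classFinset] at hx
      obtain ⟨c, hc⟩ := isConj_iff.mp hx
      have := hS x hxS c⁻¹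
      rw [← hc] at this
      have e : c⁻¹ * (c * g * c⁻¹) * c⁻¹⁻¹ = g := by group
      rwa [e] at this
    have h2 : ∑ x ∈ classFinset g, f x = 0 := by
      apply Finset.sum_eq_zero
      intro x hx
      simp only [hf]
      rw [if_neg (hall x hx)]
    rw [h2]
    exact memLocalIdeal_zero hM

/-- **the Brauer central characters of the block of a local subgroup** determined by a Brauer
pair are those of the block of the centralizer -/
theorem brauerCentralChar_sub_of_localBlock [Fintype G] {p : ℕ} [hp : Fact p.Prime]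
    (hM : Cfsg.IsPModular p M) (P K : Subgroup G) (hPK : P ≤ K)
    (hCK : Subgroup.centralizer (P : Set G) ≤ K)
    (hKN : K ≤ Subgroup.normalizer (P : Set G))
    (e : Set (Cfsg.IrrCharacter (Subgroup.centralizer (P : Set G))))
    (b : Set (Cfsg.IrrCharacter K))
    (hb : Cfsg.IsBrauerPairOf p M b (P.subgroupOf K) (localBlock K P hPK hCK e))
    (η : Cfsg.IrrCharacter K) (hη : η ∈ b)
    (ξ : Cfsg.IrrCharacter (Subgroup.centralizer (P : Set G))) (hξ : ξ ∈ e) (g : G) :
    Cfsg.MemLocalIdeal M (Cfsg.brauerCentralChar P K (η : K → ℂ) g -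
      Cfsg.brauerCentralChar P (Subgroup.centralizer (P : Set G))
        (ξ : Subgroup.centralizer (P : Set G) → ℂ) g) := by
  classical
  haveI hPn : (P.subgroupOf K).Normal :=
    (Subgroup.normal_subgroupOf_iff_le_normalizer hPK).mpr hKN
  haveI : Fintype (Subgroup.centralizer ((P.subgroupOf K : Subgroup K) : Set K)) :=
    Fintype.ofFinite _
  haveI : Fintype (Subgroup.centralizer (P : Set G)) := Fintype.ofFinite _
  set Φ := centSubEquiv K P hPK hCK with hΦ
  set ξ₁ := irrComp Φ ξ with hξ₁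
  have hξ₁mem : ξ₁ ∈ localBlock K P hPK hCK e := ⟨ξ, hξ, rfl⟩
  have hcong : ∀ n : Subgroup.centralizer ((P.subgroupOf K : Subgroup K) : Set K),
      Cfsg.MemLocalIdeal M (Cfsg.centralChar (η : K → ℂ) (n : K) -
        Cfsg.inducedCentralChar (Subgroup.centralizer ((P.subgroupOf K : Subgroup K) : Set K))
          (ξ₁ : Subgroup.centralizer ((P.subgroupOf K : Subgroup K) : Set K) → ℂ) (n : K)) :=
    fun n => centralChar_sub_induced_of_isBrauerPairOf hM (P.subgroupOf K) b _ hb η hη ξ₁
      hξ₁mem (n : K)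
  set S : Finset K := Finset.univ.filter
    (fun h : K => IsConj g (h : G) ∧ (h : G) ∈ Subgroup.centralizer (P : Set G)) with hS
  have hSmem : ∀ h : K, h ∈ S ↔
      (IsConj g (h : G) ∧ (h : G) ∈ Subgroup.centralizer (P : Set G)) := by
    intro h
    rw [hS, Finset.mem_filter]
    simp
  have hSst : ∀ h ∈ S, ∀ x : K, x * h * x⁻¹ ∈ S := by
    intro h hh x
    rw [hSmem] at hh ⊢
    refine ⟨hh.1.trans (isConj_iff.mpr ⟨(x : G), rfl⟩), ?_⟩
    exact conj_mem_centralizer_of_mem_normalizer P (hKN x.2) hh.2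
  have hSC : ∀ h ∈ S, h ∈ Subgroup.centralizer ((P.subgroupOf K : Subgroup K) : Set K) := by
    intro h hh
    exact (mem_centralizer_subgroupOf_iff K P hPK h).mpr ((hSmem h).mp hh).2
  have key := sum_div_sub_sum_extend_memLocalIdeal hM.2.1
    (Subgroup.centralizer ((P.subgroupOf K : Subgroup K) : Set K)) η ξ₁ hcong S hSst hSC
  rw [Finset.sum_sub_distrib] at key
  have e1 : Cfsg.brauerCentralChar P K (η : K → ℂ) g =
      ∑ h ∈ S, (η : K → ℂ) h / (η : K → ℂ) 1 := by
    unfold Cfsg.brauerCentralChar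
    rw [finsum_mem_eq_sum_ite, hS, Finset.sum_filter]
    apply Finset.sum_congr rfl
    intro i _
    split_ifs with h1 h2 h2
    · rfl
    · exact absurd h1 h2
    · exact absurd h2 h1
    · rfl
  have e2 : Cfsg.brauerCentralChar P (Subgroup.centralizer (P : Set G))
      (ξ : Subgroup.centralizer (P : Set G) → ℂ) g =
      ∑ h ∈ S, Cfsg.extendByZero
        (Subgroup.centralizer ((P.subgroupOf K : Subgroup K) : Set K))
        (fun c => (ξ₁ : Subgroup.centralizer ((P.subgroupOf K : Subgroup K) : Set K) → ℂ) c /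
          (ξ₁ : Subgroup.centralizer ((P.subgroupOf K : Subgroup K) : Set K) → ℂ) 1) h := by
    rw [brauerCentralChar_centralizer_eq, inducedCentralChar_eq_sum']
    symm
    apply Finset.sum_bij (fun (h : K) (hh : h ∈ S) => Φ ⟨h, hSC h hh⟩)
    · intro h hh
      rw [mem_normalClassFinset]
      exact ((hSmem h).mp hh).1
    · intro h₁ hh₁ h₂ hh₂ h12
      have := Φ.injective h12
      exact congrArg Subtype.val this
    · intro c hc
      rw [mem_normalClassFinset] at hc
      refine ⟨⟨(c : G), hCK c.2⟩, (hSmem _).mpr ⟨hc, c.2⟩, ?_⟩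
      apply Subtype.ext
      rfl
    · intro h hh
      rw [extendByZero_mem _ _ (hSC h hh), hξ₁, irrComp_apply, irrComp_apply, map_one]
  rw [e1, e2]
  exact key

/-- **the block of a local subgroup determined by a Brauer pair induces the block of the pair** -/
theorem isInducedBlock_of_localBlock [Fintype G] {p : ℕ} [hp : Fact p.Prime]
    (hM : Cfsg.IsPModular p M) (P K : Subgroup G) (hPK : P ≤ K)
    (hCK : Subgroup.centralizer (P : Set G) ≤ K)
    (hKN : K ≤ Subgroup.normalizer (P : Set G))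
    (B : Set (Cfsg.IrrCharacter G))
    (e : Set (Cfsg.IrrCharacter (Subgroup.centralizer (P : Set G))))
    (hBe : Cfsg.IsBrauerPairOf p M B P e) (b : Set (Cfsg.IrrCharacter K))
    (hb : Cfsg.IsBrauerPairOf p M b (P.subgroupOf K) (localBlock K P hPK hCK e)) :
    Cfsg.IsInducedBlock M K b B := by
  classical
  have hP := hBe.1.1
  obtain ⟨η, hηb⟩ := hb.2.1
  have hη : η ∈ b := by rw [hηb]; exact mem_blockOf_self hM.2.1 η
  obtain ⟨ξ₀, hξ₀e⟩ := hBe.1.2
  have hξ₀ : ξ₀ ∈ e := by rw [hξ₀e]; exact mem_blockOf_self hM.2.1 ξ₀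
  obtain ⟨χ, hχ⟩ := exists_irr_brauerCentralChar hM P K hP hCK hKN η
  have hχ' : ∀ g, Cfsg.MemLocalIdeal M
      (Cfsg.brauerCentralChar P (Subgroup.centralizer (P : Set G))
        (ξ₀ : Subgroup.centralizer (P : Set G) → ℂ) g - Cfsg.centralChar (χ : G → ℂ) g) := by
    intro g
    have h1 := brauerCentralChar_sub_of_localBlock hM P K hPK hCK hKN e b hb η hη ξ₀ hξ₀ g
    have := MemLocalIdeal.sub hM.2.1 (hχ g) h1
    convert this using 1
    ring
  have hχB : χ ∈ B := by
    by_contra hcon
    have h2 := brauerOmega_blockCoeff hM P B hBe.2.1 ξ₀ χ hχ'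
    rw [if_neg hcon, sub_zero] at h2
    have h3 := hBe.2.2 ξ₀ hξ₀
    have := MemLocalIdeal.sub hM.2.1 h2 h3
    rw [sub_sub_cancel] at this
    exact not_memLocalIdeal_one this
  have hind := isInducedBlock_of_brauer hM P K hP hPK hKN η χ hχ
  rw [← hηb, ← eq_blockOf_of_mem hM.2.1 B hBe.2.1 χ hχB] at hind
  exact hind

end Cfsg.Agent.Helper6
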