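import Mathlib
import Cfsg.Prelude.Def_Characters
import Cfsg.Prelude.Def_Blocks
import Cfsg.Prelude.Def_BlockLocal
import Cfsg.Prelude.Def_BrauerPairs
import Cfsg.Agent.Helper6.NormalizerBlock
import Cfsg.Agent.Helper6.FirstMain

/-!
# The subgroup of a maximal Brauer pair of a block is a defect group
-/

set_option autoImplicit false
set_option linter.style.haveILetI false

namespace Cfsg.Agent.Helper6

open scoped ComplexConjugate

universe u

variable {G : Type u} [Group G] {M : Ideal Cfsg.AlgInt}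

/-- the induced block is unique -/
theorem isInducedBlock_unique (hM : M.IsMaximal) (H : Subgroup G)
    (b : Set (Cfsg.IrrCharacter H)) (B B' : Set (Cfsg.IrrCharacter G))
    (h : Cfsg.IsInducedBlock M H b B) (h' : Cfsg.IsInducedBlock M H b B') : B = B' := by
  obtain ⟨⟨ξ, hξ⟩, hB, hc⟩ := h
  obtain ⟨-, hB', hc'⟩ := h'
  have hξb : ξ ∈ b := by rw [hξ]; exact mem_blockOf_self hM ξ
  obtain ⟨χ, hχ⟩ := hB
  obtain ⟨χ', hχ'⟩ := hB'
  have hχB : χ ∈ B := by rw [hχ]; exact mem_blockOf_self hM χ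
  have hχB' : χ' ∈ B' := by rw [hχ']; exact mem_blockOf_self hM χ'
  rw [hχ, hχ']
  apply blockOf_eq_of_sameBlock hM
  intro g
  have := MemLocalIdeal.sub hM (hc' ξ hξb χ' hχB' g) (hc ξ hξb χ hχB g)
  convert this using 1
  ring

/-- if a `p`-subgroup `D` containing and normalizing `P` stabilizes the block `e` of `C_G(P)` and
the idempotent of `e` does not vanish modulo the ideal somewhere on `C_G(D)`, then `(P, e)` is
normally below a Brauer pair on `D` -/
theorem exists_isNormalSubpair_of_not_mem [Fintype G] {p : ℕ} [hp : Fact p.Prime]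
    (hM : Cfsg.IsPModular p M) (P D : Subgroup G)
    (e : Set (Cfsg.IrrCharacter (Subgroup.centralizer (P : Set G))))
    (hPe : Cfsg.IsBrauerPair p M P e) (hD : IsPGroup p D) (hPD : P ≤ D)
    (hDN : D ≤ Subgroup.normalizer (P : Set G))
    (hst : ∀ x ∈ D, Cfsg.StabilizesBlock (Subgroup.centralizer (P : Set G)) e x)
    (y : G) (hy : y ∈ Subgroup.centralizer (D : Set G))
    (hne : ¬ Cfsg.MemLocalIdeal M
      (Cfsg.subgroupBlockCoeff (Subgroup.centralizer (P : Set G)) e y)) :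
    ∃ g : Set (Cfsg.IrrCharacter (Subgroup.centralizer (D : Set G))),
      Cfsg.IsNormalSubpair p M P e D g := by
  classical
  haveI : Fintype (Subgroup.centralizer (D : Set G)) := Fintype.ofFinite _
  haveI : Finite (Cfsg.IrrCharacter (Subgroup.centralizer (D : Set G))) := irr_finite
  haveI : Fintype (Cfsg.IrrCharacter (Subgroup.centralizer (D : Set G))) := Fintype.ofFinite _
  have hCle : Subgroup.centralizer (D : Set G) ≤ Subgroup.centralizer (P : Set G) :=
    Subgroup.centralizer_le hPD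
  set ψ := Cfsg.subgroupBlockCoeff (Subgroup.centralizer (P : Set G)) e with hψ
  have hψD : ConjInv D ψ := conjInv_subgroupBlockCoeff_of_stabilizes _ D e hst
  have hψH : ConjInv (Subgroup.centralizer (D : Set G)) ψ :=
    (conjInv_subgroupBlockCoeff_self _ e).mono hCle
  have hψloc : ∀ x, Cfsg.MemLocalRing M (ψ x) :=
    fun x => memLocalRing_subgroupBlockCoeff hM.2.1 _ e hPe.2 x
  have hψid : ∀ x ∈ Subgroup.centralizer (P : Set G), cnv ψ ψ x = ψ x := by
    intro x hx
    rw [hψ, cnv_subgroupBlockCoeff hM.2.1 _ e e hPe.2 hPe.2 x hx, if_pos rfl]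
  set u : Subgroup.centralizer (D : Set G) → ℂ := fun h => ψ (h : G) with hu
  have hucf : Cfsg.IsClassFunction (Subgroup.centralizer (D : Set G)) u :=
    fun h x => hψH (h : G) (x : G) x.2
  have huloc : ∀ h, Cfsg.MemLocalRing M (u h) := fun h => hψloc _
  have huid : ∀ h : Subgroup.centralizer (D : Set G),
      Cfsg.MemLocalIdeal M (∑ t, u t * u (h * t⁻¹) - u h) := by
    intro h
    have h2 := cnv_sub_sum_centralizer hM D hD ψ ψ hψD hψD hψloc hψloc (h : G) h.2
    have e1 : ∑ t ∈ (Finset.univ : Finset G).filter (· ∈ Subgroup.centralizer (D : Set G)),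
        ψ t * ψ ((h : G) * t⁻¹) = ∑ t, u t * u (h * t⁻¹) := by
      rw [Finset.sum_subtype ((Finset.univ : Finset G).filter
        (· ∈ Subgroup.centralizer (D : Set G))) (p := (· ∈ Subgroup.centralizer (D : Set G)))
        (fun x => by simp)]
      rfl
    rw [e1, hψid _ (hCle h.2)] at h2
    have := MemLocalIdeal.neg h2
    rwa [neg_sub] at this
  obtain ⟨ζ, hζ⟩ := exists_classVec_not_mem hM.2.1 u hucf huloc huid ⟨y, hy⟩ hne
  have hΩ : ∀ ζ' : Cfsg.IrrCharacter (Subgroup.centralizer (D : Set G)),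
      Cfsg.brauerOmega D ψ (ζ' : Subgroup.centralizer (D : Set G) → ℂ) = classVec u ζ' := by
    intro ζ'
    rw [brauerOmega_eq_classVec]
    rfl
  have hBM := brauerOmega_cnv hM D hD ψ ψ hψD hψH hψD hψH hψloc hψloc ζ
  have e2 : Cfsg.brauerOmega D (cnv ψ ψ) (ζ : Subgroup.centralizer (D : Set G) → ℂ) =
      Cfsg.brauerOmega D ψ (ζ : Subgroup.centralizer (D : Set G) → ℂ) := by
    rw [brauerOmega_eq_classVec, brauerOmega_eq_classVec]
    apply Finset.sum_congr rfl
    intro x _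
    rw [hψid _ (hCle x.2)]
  rw [e2, hΩ] at hBM
  have haR : Cfsg.MemLocalRing M (classVec u ζ) := classVec_memLocalRing hM.2.1 u hucf huloc ζ
  have hor := MemLocalIdeal.of_mul hM.2.1 haR
    (MemLocalRing.sub hM.2.1 haR (memLocalRing_one hM.2.1))
    (by
      have := MemLocalIdeal.neg hBM
      convert this using 1
      ring)
  have ha1 : Cfsg.MemLocalIdeal M (classVec u ζ - 1) := by
    rcases hor with h | h
    · exact absurd h hζ
    · exact h
  refine ⟨Cfsg.blockOf M (ζ : Subgroup.centralizer (D : Set G) → ℂ),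
    hPe, ⟨hD, ζ, rfl⟩, hPD, hDN, hst, fun ζ' hζ' => ?_⟩
  have h3 := brauerOmega_sub_of_sameBlock hM.2.1 D ψ (fun x y => hψH (x : G) (y : G) y.2)
    (fun x => hψloc _) ζ' ζ (sameBlock_symm hζ')
  rw [hΩ, hΩ] at h3
  rw [hΩ]
  have := MemLocalIdeal.add hM.2.1 h3 ha1
  convert this using 1
  ring

/-- **the subgroup of a maximal Brauer pair of a block is a defect group of the block** -/
theorem isDefectGroup_of_isMaximalBrauerPair [Fintype G] {p : ℕ} [hp : Fact p.Prime]
    (hM : Cfsg.IsPModular p M) (B : Set (Cfsg.IrrCharacter G)) (P : Subgroup G)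
    (e : Set (Cfsg.IrrCharacter (Subgroup.centralizer (P : Set G))))
    (hmax : Cfsg.IsMaximalBrauerPair p M B P e) : Cfsg.IsDefectGroup p M B P := by
  classical
  obtain ⟨hBe, hmx⟩ := hmax
  have hPe := hBe.1
  have hP := hPe.1
  have he := hPe.2
  have hPN : P ≤ Subgroup.normalizer (P : Set G) := Subgroup.le_normalizer
  have hCN : Subgroup.centralizer (P : Set G) ≤ Subgroup.normalizer (P : Set G) :=
    Subgroup.centralizer_le_normalizer _
  haveI hPn : (P.subgroupOf (Subgroup.normalizer (P : Set G))).Normal :=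
    Subgroup.normal_in_normalizer
  have hP₁ : IsPGroup p (P.subgroupOf (Subgroup.normalizer (P : Set G))) := hP.comap_subtype
  have he₁ := isPBlock_localBlock (M := M) (Subgroup.normalizer (P : Set G)) P hPN hCN e he
  obtain ⟨b, hbpair, -⟩ := existsUnique_isBrauerPairOf hM
    (P.subgroupOf (Subgroup.normalizer (P : Set G)))
    (localBlock (Subgroup.normalizer (P : Set G)) P hPN hCN e) ⟨hP₁, he₁⟩
  have hb := hbpair.2.1
  have hind := isInducedBlock_of_localBlock hM P (Subgroup.normalizer (P : Set G)) hPN hCN le_rfl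
    B e hBe b hbpair
  -- a defect group of `b`
  obtain ⟨y, hy⟩ := exists_defectClass hM.2.1 b hb
  obtain ⟨S⟩ : Nonempty (Sylow p (Subgroup.centralizer
    ({y} : Set (Subgroup.normalizer (P : Set G))))) := inferInstance
  obtain ⟨D₁, hD₁def⟩ : ∃ D₁ : Subgroup (Subgroup.normalizer (P : Set G)), D₁ =
    (S : Subgroup _).map (Subgroup.centralizer ({y} : Set _)).subtype := ⟨_, rfl⟩
  have hD₁ : Cfsg.IsDefectGroup p M b D₁ := ⟨y, hy, S, hD₁def⟩
  have hP₁D₁ := normal_pSubgroup_le_defectGroup hM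
    (P.subgroupOf (Subgroup.normalizer (P : Set G))) hP₁ b hb D₁ hD₁
  have hD₁p : IsPGroup p D₁ := by rw [hD₁def]; exact S.isPGroup'.map _
  have hyD₁ : ∀ u ∈ D₁, u * y = y * u := by
    intro u hu
    rw [hD₁def] at hu
    obtain ⟨s, -, rfl⟩ := hu
    exact Subgroup.mem_centralizer_singleton_iff.mp s.2
  -- the idempotent of `b` at `y`
  have hcoeff := blockCoeff_eq_sum_conjugates hM
    (P.subgroupOf (Subgroup.normalizer (P : Set G))) b _ hbpair y
  set e₁ := localBlock (Subgroup.normalizer (P : Set G)) P hPN hCN e with he₁def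
  set Bl' := (Finset.univ : Finset (Subgroup.normalizer (P : Set G))).image
    (fun x => nact (Subgroup.centralizer
      ((P.subgroupOf (Subgroup.normalizer (P : Set G)) : Subgroup _) : Set _)) x e₁) with hBl'
  set act : D₁ → Set (Cfsg.IrrCharacter (Subgroup.centralizer
      ((P.subgroupOf (Subgroup.normalizer (P : Set G)) : Subgroup _) : Set _))) → Set _ :=
    fun u f => nact _ (u : Subgroup.normalizer (P : Set G)) f with hact
  have hone : ∀ f, act 1 f = f := fun f => nact_one _ f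
  have hmul : ∀ u v f, act (u * v) f = act u (act v f) := fun u v f => nact_mul _ _ _ f
  have hBlst : ∀ f ∈ Bl', ∀ u, act u f ∈ Bl' := by
    intro f hf u
    obtain ⟨x, -, rfl⟩ := Finset.mem_image.mp hf
    refine Finset.mem_image.mpr ⟨(u : Subgroup.normalizer (P : Set G)) * x, Finset.mem_univ _, ?_⟩
    exact nact_mul _ _ _ _
  set F : Set (Cfsg.IrrCharacter (Subgroup.centralizer
      ((P.subgroupOf (Subgroup.normalizer (P : Set G)) : Subgroup _) : Set _))) → ℂ :=
    fun f => Cfsg.subgroupBlockCoeff _ f y with hF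
  have hFinv : ∀ f ∈ Bl', ∀ u, F (act u f) = F f := by
    intro f _ u
    simp only [hF, hact]
    rw [subgroupBlockCoeff_nact]
    congr 1
    have := hyD₁ u u.2
    rw [mul_assoc, ← this, inv_mul_cancel_left]
  have hFloc : ∀ f ∈ Bl', Cfsg.MemLocalRing M (F f) := by
    intro f hf
    obtain ⟨x, -, rfl⟩ := Finset.mem_image.mp hf
    exact memLocalRing_subgroupBlockCoeff hM.2.1 _ _ (isPBlock_nact _ x e₁ he₁) y
  have hD := sum_sub_sum_fixed_memLocalIdeal hM (P := D₁) hD₁p act hone hmul Bl' hBlst F hFinv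
    hFloc
  have hne : ¬ Cfsg.MemLocalIdeal M (∑ f ∈ Bl', F f) := by
    rw [← hcoeff]
    exact hy.2.1
  obtain ⟨f₀, hf₀, hnf₀⟩ : ∃ f₀ ∈ Bl'.filter (fun f => ∀ u, act u f = f),
      ¬ Cfsg.MemLocalIdeal M (F f₀) := by
    by_contra hcon
    push Not at hcon
    apply hne
    have hs := MemLocalIdeal.sum hM.2.1 _ F hcon
    have := MemLocalIdeal.add hM.2.1 hD hs
    rwa [sub_add_cancel] at this
  rw [Finset.mem_filter] at hf₀
  obtain ⟨hf₀Bl, hfix⟩ := hf₀
  obtain ⟨x₀, -, hx₀⟩ := Finset.mem_image.mp hf₀Bl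
  -- the conjugate of the defect group that stabilizes `e`
  obtain ⟨D, hDdef⟩ : ∃ D : Subgroup G, D = (D₁.map (MulAut.conj x₀⁻¹).toMonoidHom).map
    (Subgroup.normalizer (P : Set G)).subtype := ⟨_, rfl⟩
  have hmemD : ∀ u ∈ D₁, (((x₀⁻¹ * u * x₀ : Subgroup.normalizer (P : Set G))) : G) ∈ D := by
    intro u hu
    rw [hDdef]
    refine ⟨x₀⁻¹ * u * x₀, ⟨u, hu, ?_⟩, rfl⟩
    show x₀⁻¹ * u * x₀⁻¹⁻¹ = x₀⁻¹ * u * x₀
    rw [inv_inv]
  have hDmem : ∀ d ∈ D, ∃ u ∈ D₁,
      d = (((x₀⁻¹ * u * x₀ : Subgroup.normalizer (P : Set G))) : G) := by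
    intro d hd
    rw [hDdef] at hd
    obtain ⟨d', ⟨u, hu, rfl⟩, rfl⟩ := hd
    refine ⟨u, hu, ?_⟩
    show ((x₀⁻¹ * u * x₀⁻¹⁻¹ : Subgroup.normalizer (P : Set G)) : G) = _
    rw [inv_inv]
  have hDp : IsPGroup p D := by
    rw [hDdef]
    exact (hD₁p.map _).map _
  have hDcard : Nat.card D = Nat.card D₁ := by
    rw [hDdef, Subgroup.card_subtype,
      Subgroup.card_map_of_injective (MulAut.conj x₀⁻¹).injective]
  have hPD : P ≤ D := by
    intro v hv
    have h1 : (x₀ : G) * v * (x₀ : G)⁻¹ ∈ P :=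
      (Subgroup.mem_normalizer_iff.mp x₀.2 v).mp hv
    have h2 : (⟨(x₀ : G) * v * (x₀ : G)⁻¹, hPN h1⟩ : Subgroup.normalizer (P : Set G)) ∈
        P.subgroupOf (Subgroup.normalizer (P : Set G)) := Subgroup.mem_subgroupOf.mpr h1
    have h3 := hmemD _ (hP₁D₁ h2)
    have e1 : ((x₀⁻¹ * (⟨(x₀ : G) * v * (x₀ : G)⁻¹, hPN h1⟩ :
        Subgroup.normalizer (P : Set G)) * x₀ : Subgroup.normalizer (P : Set G)) : G) = v := by
      show (x₀ : G)⁻¹ * ((x₀ : G) * v * (x₀ : G)⁻¹) * (x₀ : G) = v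
      group
    rwa [e1] at h3
  have hDN : D ≤ Subgroup.normalizer (P : Set G) := by
    intro d hd
    obtain ⟨u, -, rfl⟩ := hDmem d hd
    exact (x₀⁻¹ * u * x₀).2
  have hDst : ∀ d ∈ D, Cfsg.StabilizesBlock (Subgroup.centralizer (P : Set G)) e d := by
    intro d hd
    obtain ⟨u, hu, rfl⟩ := hDmem d hd
    apply (stabilizesBlock_localBlock_iff (Subgroup.normalizer (P : Set G)) P hPN hCN le_rfl e
      (x₀⁻¹ * u * x₀)).mp
    rw [← nact_eq_self_iff]
    have h1 := hfix ⟨u, hu⟩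
    simp only [hact] at h1
    rw [← hx₀, ← nact_mul] at h1
    have h2 := congrArg (nact _ x₀⁻¹) h1
    rw [← nact_mul, ← nact_mul, inv_mul_cancel, nact_one] at h2
    rw [← he₁def, ← h2]
    congr 1
    group
  obtain ⟨y', hy'def⟩ : ∃ y' : G,
    y' = ((x₀⁻¹ * y * x₀ : Subgroup.normalizer (P : Set G)) : G) := ⟨_, rfl⟩
  have hy' : y' ∈ Subgroup.centralizer (D : Set G) := by
    rw [Subgroup.mem_centralizer_iff]
    intro d hd
    obtain ⟨u, hu, rfl⟩ := hDmem d hd
    rw [hy'def]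
    have h1 := hyD₁ u hu
    have h2 : (x₀⁻¹ * u * x₀) * (x₀⁻¹ * y * x₀) = (x₀⁻¹ * y * x₀) * (x₀⁻¹ * u * x₀) := by
      calc (x₀⁻¹ * u * x₀) * (x₀⁻¹ * y * x₀) = x₀⁻¹ * (u * y) * x₀ := by group
        _ = x₀⁻¹ * (y * u) * x₀ := by rw [h1]
        _ = (x₀⁻¹ * y * x₀) * (x₀⁻¹ * u * x₀) := by group
    exact congrArg Subtype.val h2
  have hney' : ¬ Cfsg.MemLocalIdeal M
      (Cfsg.subgroupBlockCoeff (Subgroup.centralizer (P : Set G)) e y') := by
    intro hcon
    apply hnf₀
    simp only [hF]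
    rw [← hx₀, subgroupBlockCoeff_nact, he₁def, subgroupBlockCoeff_localBlock, ← hy'def]
    exact hcon
  obtain ⟨g, hg⟩ := exists_isNormalSubpair_of_not_mem hM P D e hPe hDp hPD hDN hDst y' hy' hney'
  have hDgB : Cfsg.IsBrauerPairOf p M B D g :=
    (isBrauerPairOf_iff_of_subpairLE hM D P g e hg.2.1 hPe
      (Relation.ReflTransGen.single hg) B).mpr hBe
  have hDP : D = P := hmx D g hDgB (Relation.ReflTransGen.single hg)
  have hcardP₁ : Nat.card (P.subgroupOf (Subgroup.normalizer (P : Set G))) = Nat.card P :=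
    Nat.card_congr (Subgroup.subgroupOfEquivOfLe hPN).toEquiv
  have hD₁eq : P.subgroupOf (Subgroup.normalizer (P : Set G)) = D₁ := by
    apply Subgroup.eq_of_le_of_card_ge hP₁D₁
    rw [hcardP₁, ← hDcard, hDP]
  have hDb : Cfsg.IsDefectGroup p M b (P.subgroupOf (Subgroup.normalizer (P : Set G))) := by
    rw [hD₁eq]
    exact hD₁
  obtain ⟨B', hB', hB'P, hind'⟩ := firstMain_i hM P hP b hb hDb
  have hBB' : B = B' := isInducedBlock_unique hM.2.1 _ b B B' hind hind'
  rw [hBB']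
  exact hB'P

end Cfsg.Agent.Helper6
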