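import Mathlib
import Cfsg.Prelude.Def_Characters
import Cfsg.Prelude.Def_Blocks
import Cfsg.Prelude.Def_BlockLocal
import Cfsg.Prelude.Def_BrauerPairs
import Cfsg.Agent.Helper6.MaximalPairDefect

/-!
# Maximal Brauer pairs of a block on the same subgroup are conjugate under the normalizer
-/

set_option autoImplicit false
set_option linter.style.haveILetI false

namespace Cfsg.Agent.Helper6

open scoped ComplexConjugate

universe u

variable {G : Type u} [Group G] {M : Ideal Cfsg.AlgInt}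

/-- **the block of `N_G(P)` determined by a maximal Brauer pair `(P, e)` has defect group `P`** and
induces the block of the pair -/
theorem normalizer_block_of_isMaximalBrauerPair [Fintype G] {p : ℕ} [hp : Fact p.Prime]
    (hM : Cfsg.IsPModular p M) (B : Set (Cfsg.IrrCharacter G)) (P : Subgroup G)
    (e : Set (Cfsg.IrrCharacter (Subgroup.centralizer (P : Set G))))
    (hmax : Cfsg.IsMaximalBrauerPair p M B P e) :
    ∃ b : Set (Cfsg.IrrCharacter (Subgroup.normalizer (P : Set G))),
      Cfsg.IsBrauerPairOf p M b (P.subgroupOf (Subgroup.normalizer (P : Set G)))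
        (localBlock (Subgroup.normalizer (P : Set G)) P Subgroup.le_normalizer
          (Subgroup.centralizer_le_normalizer _) e) ∧
      Cfsg.IsDefectGroup p M b (P.subgroupOf (Subgroup.normalizer (P : Set G))) ∧
      Cfsg.IsInducedBlock M (Subgroup.normalizer (P : Set G)) b B := by
  classical
  obtain ⟨hBe, hmx⟩ := hmax
  have hPe := hBe.1
  have hP := hPe.1
  have he := hPe.2
  have hPN : P ≤ Subgroup.normalizer (P : Set G) := Subgroup.le_normalizer
  have hCN : Subgroup.centralizer (P : Set G) ≤ Subgroup.normalizer (P : Set G) :=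
    Subgroup.centralizer_le_normalizer _
  haveI hPn : (P.subgroupOf (Subgroup.normalizer (P : Set G))).Normal :=
    Subgroup.normal_in_normalizer
  have hP₁ : IsPGroup p (P.subgroupOf (Subgroup.normalizer (P : Set G))) := hP.comap_subtype
  have he₁ := isPBlock_localBlock (M := M) (Subgroup.normalizer (P : Set G)) P hPN hCN e he
  obtain ⟨b, hbpair, -⟩ := existsUnique_isBrauerPairOf hM
    (P.subgroupOf (Subgroup.normalizer (P : Set G)))
    (localBlock (Subgroup.normalizer (P : Set G)) P hPN hCN e) ⟨hP₁, he₁⟩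
  have hb := hbpair.2.1
  have hind := isInducedBlock_of_localBlock hM P (Subgroup.normalizer (P : Set G)) hPN hCN le_rfl
    B e hBe b hbpair
  -- a defect group of `b`
  obtain ⟨y, hy⟩ := exists_defectClass hM.2.1 b hb
  obtain ⟨S⟩ : Nonempty (Sylow p (Subgroup.centralizer
    ({y} : Set (Subgroup.normalizer (P : Set G))))) := inferInstance
  obtain ⟨D₁, hD₁def⟩ : ∃ D₁ : Subgroup (Subgroup.normalizer (P : Set G)), D₁ =
    (S : Subgroup _).map (Subgroup.centralizer ({y} : Set _)).subtype := ⟨_, rfl⟩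
  have hD₁ : Cfsg.IsDefectGroup p M b D₁ := ⟨y, hy, S, hD₁def⟩
  have hP₁D₁ := normal_pSubgroup_le_defectGroup hM
    (P.subgroupOf (Subgroup.normalizer (P : Set G))) hP₁ b hb D₁ hD₁
  have hD₁p : IsPGroup p D₁ := by rw [hD₁def]; exact S.isPGroup'.map _
  have hyD₁ : ∀ u ∈ D₁, u * y = y * u := by
    intro u hu
    rw [hD₁def] at hu
    obtain ⟨s, -, rfl⟩ := hu
    exact Subgroup.mem_centralizer_singleton_iff.mp s.2
  -- the idempotent of `b` at `y`
  have hcoeff := blockCoeff_eq_sum_conjugates hM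
    (P.subgroupOf (Subgroup.normalizer (P : Set G))) b _ hbpair y
  set e₁ := localBlock (Subgroup.normalizer (P : Set G)) P hPN hCN e with he₁def
  set Bl' := (Finset.univ : Finset (Subgroup.normalizer (P : Set G))).image
    (fun x => nact (Subgroup.centralizer
      ((P.subgroupOf (Subgroup.normalizer (P : Set G)) : Subgroup _) : Set _)) x e₁) with hBl'
  set act : D₁ → Set (Cfsg.IrrCharacter (Subgroup.centralizer
      ((P.subgroupOf (Subgroup.normalizer (P : Set G)) : Subgroup _) : Set _))) → Set _ :=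
    fun u f => nact _ (u : Subgroup.normalizer (P : Set G)) f with hact
  have hone : ∀ f, act 1 f = f := fun f => nact_one _ f
  have hmul : ∀ u v f, act (u * v) f = act u (act v f) := fun u v f => nact_mul _ _ _ f
  have hBlst : ∀ f ∈ Bl', ∀ u, act u f ∈ Bl' := by
    intro f hf u
    obtain ⟨x, -, rfl⟩ := Finset.mem_image.mp hf
    refine Finset.mem_image.mpr ⟨(u : Subgroup.normalizer (P : Set G)) * x, Finset.mem_univ _, ?_⟩
    exact nact_mul _ _ _ _
  set F : Set (Cfsg.IrrCharacter (Subgroup.centralizer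
      ((P.subgroupOf (Subgroup.normalizer (P : Set G)) : Subgroup _) : Set _))) → ℂ :=
    fun f => Cfsg.subgroupBlockCoeff _ f y with hF
  have hFinv : ∀ f ∈ Bl', ∀ u, F (act u f) = F f := by
    intro f _ u
    simp only [hF, hact]
    rw [subgroupBlockCoeff_nact]
    congr 1
    have := hyD₁ u u.2
    rw [mul_assoc, ← this, inv_mul_cancel_left]
  have hFloc : ∀ f ∈ Bl', Cfsg.MemLocalRing M (F f) := by
    intro f hf
    obtain ⟨x, -, rfl⟩ := Finset.mem_image.mp hf
    exact memLocalRing_subgroupBlockCoeff hM.2.1 _ _ (isPBlock_nact _ x e₁ he₁) y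
  have hD := sum_sub_sum_fixed_memLocalIdeal hM (P := D₁) hD₁p act hone hmul Bl' hBlst F hFinv
    hFloc
  have hne : ¬ Cfsg.MemLocalIdeal M (∑ f ∈ Bl', F f) := by
    rw [← hcoeff]
    exact hy.2.1
  obtain ⟨f₀, hf₀, hnf₀⟩ : ∃ f₀ ∈ Bl'.filter (fun f => ∀ u, act u f = f),
      ¬ Cfsg.MemLocalIdeal M (F f₀) := by
    by_contra hcon
    push Not at hcon
    apply hne
    have hs := MemLocalIdeal.sum hM.2.1 _ F hcon
    have := MemLocalIdeal.add hM.2.1 hD hs
    rwa [sub_add_cancel] at this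
  rw [Finset.mem_filter] at hf₀
  obtain ⟨hf₀Bl, hfix⟩ := hf₀
  obtain ⟨x₀, -, hx₀⟩ := Finset.mem_image.mp hf₀Bl
  -- the conjugate of the defect group that stabilizes `e`
  obtain ⟨D, hDdef⟩ : ∃ D : Subgroup G, D = (D₁.map (MulAut.conj x₀⁻¹).toMonoidHom).map
    (Subgroup.normalizer (P : Set G)).subtype := ⟨_, rfl⟩
  have hmemD : ∀ u ∈ D₁, (((x₀⁻¹ * u * x₀ : Subgroup.normalizer (P : Set G))) : G) ∈ D := by
    intro u hu
    rw [hDdef]
    refine ⟨x₀⁻¹ * u * x₀, ⟨u, hu, ?_⟩, rfl⟩
    show x₀⁻¹ * u * x₀⁻¹⁻¹ = x₀⁻¹ * u * x₀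
    rw [inv_inv]
  have hDmem : ∀ d ∈ D, ∃ u ∈ D₁,
      d = (((x₀⁻¹ * u * x₀ : Subgroup.normalizer (P : Set G))) : G) := by
    intro d hd
    rw [hDdef] at hd
    obtain ⟨d', ⟨u, hu, rfl⟩, rfl⟩ := hd
    refine ⟨u, hu, ?_⟩
    show ((x₀⁻¹ * u * x₀⁻¹⁻¹ : Subgroup.normalizer (P : Set G)) : G) = _
    rw [inv_inv]
  have hDp : IsPGroup p D := by
    rw [hDdef]
    exact (hD₁p.map _).map _
  have hDcard : Nat.card D = Nat.card D₁ := by
    rw [hDdef, Subgroup.card_subtype,
      Subgroup.card_map_of_injective (MulAut.conj x₀⁻¹).injective]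
  have hPD : P ≤ D := by
    intro v hv
    have h1 : (x₀ : G) * v * (x₀ : G)⁻¹ ∈ P :=
      (Subgroup.mem_normalizer_iff.mp x₀.2 v).mp hv
    have h2 : (⟨(x₀ : G) * v * (x₀ : G)⁻¹, hPN h1⟩ : Subgroup.normalizer (P : Set G)) ∈
        P.subgroupOf (Subgroup.normalizer (P : Set G)) := Subgroup.mem_subgroupOf.mpr h1
    have h3 := hmemD _ (hP₁D₁ h2)
    have e1 : ((x₀⁻¹ * (⟨(x₀ : G) * v * (x₀ : G)⁻¹, hPN h1⟩ :
        Subgroup.normalizer (P : Set G)) * x₀ : Subgroup.normalizer (P : Set G)) : G) = v := by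
      show (x₀ : G)⁻¹ * ((x₀ : G) * v * (x₀ : G)⁻¹) * (x₀ : G) = v
      group
    rwa [e1] at h3
  have hDN : D ≤ Subgroup.normalizer (P : Set G) := by
    intro d hd
    obtain ⟨u, -, rfl⟩ := hDmem d hd
    exact (x₀⁻¹ * u * x₀).2
  have hDst : ∀ d ∈ D, Cfsg.StabilizesBlock (Subgroup.centralizer (P : Set G)) e d := by
    intro d hd
    obtain ⟨u, hu, rfl⟩ := hDmem d hd
    apply (stabilizesBlock_localBlock_iff (Subgroup.normalizer (P : Set G)) P hPN hCN le_rfl e
      (x₀⁻¹ * u * x₀)).mp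
    rw [← nact_eq_self_iff]
    have h1 := hfix ⟨u, hu⟩
    simp only [hact] at h1
    rw [← hx₀, ← nact_mul] at h1
    have h2 := congrArg (nact _ x₀⁻¹) h1
    rw [← nact_mul, ← nact_mul, inv_mul_cancel, nact_one] at h2
    rw [← he₁def, ← h2]
    congr 1
    group
  obtain ⟨y', hy'def⟩ : ∃ y' : G,
    y' = ((x₀⁻¹ * y * x₀ : Subgroup.normalizer (P : Set G)) : G) := ⟨_, rfl⟩
  have hy' : y' ∈ Subgroup.centralizer (D : Set G) := by
    rw [Subgroup.mem_centralizer_iff]
    intro d hd
    obtain ⟨u, hu, rfl⟩ := hDmem d hd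
    rw [hy'def]
    have h1 := hyD₁ u hu
    have h2 : (x₀⁻¹ * u * x₀) * (x₀⁻¹ * y * x₀) = (x₀⁻¹ * y * x₀) * (x₀⁻¹ * u * x₀) := by
      calc (x₀⁻¹ * u * x₀) * (x₀⁻¹ * y * x₀) = x₀⁻¹ * (u * y) * x₀ := by group
        _ = x₀⁻¹ * (y * u) * x₀ := by rw [h1]
        _ = (x₀⁻¹ * y * x₀) * (x₀⁻¹ * u * x₀) := by group
    exact congrArg Subtype.val h2
  have hney' : ¬ Cfsg.MemLocalIdeal M
      (Cfsg.subgroupBlockCoeff (Subgroup.centralizer (P : Set G)) e y') := by
    intro hcon
    apply hnf₀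
    simp only [hF]
    rw [← hx₀, subgroupBlockCoeff_nact, he₁def, subgroupBlockCoeff_localBlock, ← hy'def]
    exact hcon
  obtain ⟨g, hg⟩ := exists_isNormalSubpair_of_not_mem hM P D e hPe hDp hPD hDN hDst y' hy' hney'
  have hDgB : Cfsg.IsBrauerPairOf p M B D g :=
    (isBrauerPairOf_iff_of_subpairLE hM D P g e hg.2.1 hPe
      (Relation.ReflTransGen.single hg) B).mpr hBe
  have hDP : D = P := hmx D g hDgB (Relation.ReflTransGen.single hg)
  have hcardP₁ : Nat.card (P.subgroupOf (Subgroup.normalizer (P : Set G))) = Nat.card P :=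
    Nat.card_congr (Subgroup.subgroupOfEquivOfLe hPN).toEquiv
  have hD₁eq : P.subgroupOf (Subgroup.normalizer (P : Set G)) = D₁ := by
    apply Subgroup.eq_of_le_of_card_ge hP₁D₁
    rw [hcardP₁, ← hDcard, hDP]
  have hDb : Cfsg.IsDefectGroup p M b (P.subgroupOf (Subgroup.normalizer (P : Set G))) := by
    rw [hD₁eq]
    exact hD₁
  exact ⟨b, hbpair, hDb, hind⟩

/-- the subgroup of a Brauer pair of a block has order at most the order of a defect group -/
theorem card_le_of_isBrauerPairOf [Fintype G] {p : ℕ} [hp : Fact p.Prime]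
    (hM : Cfsg.IsPModular p M) (B : Set (Cfsg.IrrCharacter G)) (R : Subgroup G)
    (g : Set (Cfsg.IrrCharacter (Subgroup.centralizer (R : Set G))))
    (hBR : Cfsg.IsBrauerPairOf p M B R g) : Nat.card R ≤ p ^ Cfsg.blockDefect p B := by
  classical
  haveI : Fintype (Subgroup.centralizer (R : Set G)) := Fintype.ofFinite _
  obtain ⟨⟨hR, ζ, rfl⟩, hB, h1⟩ := hBR
  have h2 := h1 ζ (mem_blockOf_self hM.2.1 ζ)
  have hex : ∃ x : Subgroup.centralizer (R : Set G),
      ¬ Cfsg.MemLocalIdeal M (Cfsg.blockCoeff B (x : G)) := by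
    by_contra hcon
    push Not at hcon
    have h3 := classVec_memLocalIdeal hM.2.1
      (fun x : Subgroup.centralizer (R : Set G) => Cfsg.blockCoeff B (x : G))
      (fun x y => blockCoeff_isClassFunction B _ _) hcon ζ
    rw [brauerOmega_eq_classVec] at h2
    unfold classVec at h3
    have := MemLocalIdeal.sub hM.2.1 h3 h2
    rw [sub_sub_cancel] at this
    exact not_memLocalIdeal_one this
  obtain ⟨x, hx⟩ := hex
  have h4 := factorization_centralizer_le_of_blockCoeff hM.2.1 p hM.2.2 B hB (x : G) hx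
  have hle : R ≤ Subgroup.centralizer ({(x : G)} : Set G) := by
    intro u hu
    rw [Subgroup.mem_centralizer_singleton_iff]
    exact (Subgroup.mem_centralizer_iff.mp x.2 u hu)
  obtain ⟨k, hk⟩ := hR.exists_card_eq
  have hdvd : p ^ k ∣ Nat.card (Subgroup.centralizer ({(x : G)} : Set G)) := by
    rw [← hk]
    exact Subgroup.card_dvd_of_le hle
  have hk' : k ≤ (Nat.card (Subgroup.centralizer ({(x : G)} : Set G))).factorization p :=
    (hp.1.pow_dvd_iff_le_factorization Nat.card_pos.ne').mp hdvd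
  rw [hk]
  exact Nat.pow_le_pow_right hp.1.pos (hk'.trans h4)

/-- a Brauer pair of a block on a subgroup of the order of a defect group is maximal -/
theorem isMaximalBrauerPair_of_card_eq [Fintype G] {p : ℕ} [hp : Fact p.Prime]
    (hM : Cfsg.IsPModular p M) (B : Set (Cfsg.IrrCharacter G)) (P : Subgroup G)
    (e : Set (Cfsg.IrrCharacter (Subgroup.centralizer (P : Set G))))
    (hBe : Cfsg.IsBrauerPairOf p M B P e) (hcard : Nat.card P = p ^ Cfsg.blockDefect p B) :
    Cfsg.IsMaximalBrauerPair p M B P e := by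
  refine ⟨hBe, fun R g hBR hle => ?_⟩
  have h1 := card_le_of_isBrauerPairOf hM B R g hBR
  have h2 : P ≤ R := SubpairLE.le hle
  exact (Subgroup.eq_of_le_of_card_ge h2 (by rw [hcard]; exact h1)).symm

/-- every Brauer pair of a block lies below a maximal one -/
theorem exists_isMaximalBrauerPair_ge [Fintype G] {p : ℕ} [hp : Fact p.Prime]
    (B : Set (Cfsg.IrrCharacter G)) : ∀ n : ℕ, ∀ (Q : Subgroup G)
    (f : Set (Cfsg.IrrCharacter (Subgroup.centralizer (Q : Set G)))),
    Cfsg.IsBrauerPairOf p M B Q f → Nat.card G - Nat.card Q = n →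
      ∃ (R : Subgroup G) (g : Set (Cfsg.IrrCharacter (Subgroup.centralizer (R : Set G)))),
        Cfsg.SubpairLE p M Q f R g ∧ Cfsg.IsMaximalBrauerPair p M B R g := by
  intro n
  induction n using Nat.strong_induction_on with
  | _ n ih =>
  intro Q f hBQ hn
  by_cases hmax : Cfsg.IsMaximalBrauerPair p M B Q f
  · exact ⟨Q, f, Relation.ReflTransGen.refl, hmax⟩
  · unfold Cfsg.IsMaximalBrauerPair at hmax
    push Not at hmax
    obtain ⟨R, g, hBR, hle, hne⟩ := hmax hBQ
    have hQR : Q ≤ R := SubpairLE.le hle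
    have hc1 := card_lt_of_le_of_ne hQR (fun h => hne h.symm)
    have hc2 : Nat.card R ≤ Nat.card G := Subgroup.card_le_card_group R
    obtain ⟨R', g', hle', hmax'⟩ := ih (Nat.card G - Nat.card R) (by omega) R g hBR rfl
    exact ⟨R', g', Relation.ReflTransGen.trans hle hle', hmax'⟩

/-- transport into a local subgroup commutes with conjugation by its elements -/
theorem nact_localBlock (K P : Subgroup G) (hPK : P ≤ K)
    (hCK : Subgroup.centralizer (P : Set G) ≤ K)
    [hPn : (P.subgroupOf K).Normal]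
    (e : Set (Cfsg.IrrCharacter (Subgroup.centralizer (P : Set G)))) (m : K)
    (hm : (m : G) ∈ Subgroup.normalizer
      ((Subgroup.centralizer (P : Set G) : Subgroup G) : Set G)) :
    nact (Subgroup.centralizer ((P.subgroupOf K : Subgroup K) : Set K)) m
      (localBlock K P hPK hCK e) =
      localBlock K P hPK hCK (nconjIrr (Subgroup.centralizer (P : Set G)) (m : G) hm '' e) := by
  unfold nact localBlock
  rw [Set.image_image, Set.image_image]
  apply Set.image_congr
  intro ξ _
  apply Subtype.ext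
  funext c
  rw [nconjIrr_apply, irrComp_apply, irrComp_apply, nconjIrr_apply]
  refine congrArg (ξ : Subgroup.centralizer (P : Set G) → ℂ) ?_
  apply Subtype.ext
  rfl

theorem localBlock_injective (K P : Subgroup G) (hPK : P ≤ K)
    (hCK : Subgroup.centralizer (P : Set G) ≤ K) :
    Function.Injective (localBlock K P hPK hCK) := by
  unfold localBlock
  exact Set.image_injective.mpr (irrComp_injective _)

/-- **two maximal Brauer pairs of a block on the same subgroup are conjugate under the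
normalizer** -/
theorem exists_normalizer_conj_of_isMaximalBrauerPair [Fintype G] {p : ℕ} [hp : Fact p.Prime]
    (hM : Cfsg.IsPModular p M) (B : Set (Cfsg.IrrCharacter G)) (P : Subgroup G)
    (e e' : Set (Cfsg.IrrCharacter (Subgroup.centralizer (P : Set G))))
    (hmax : Cfsg.IsMaximalBrauerPair p M B P e) (hmax' : Cfsg.IsMaximalBrauerPair p M B P e') :
    ∃ (n : G) (hn : n ∈ Subgroup.normalizer
      ((Subgroup.centralizer (P : Set G) : Subgroup G) : Set G)),
      n ∈ Subgroup.normalizer (P : Set G) ∧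
        e' = nconjIrr (Subgroup.centralizer (P : Set G)) n hn '' e := by
  classical
  have hP := hmax.1.1.1
  have hPN : P ≤ Subgroup.normalizer (P : Set G) := Subgroup.le_normalizer
  have hCN : Subgroup.centralizer (P : Set G) ≤ Subgroup.normalizer (P : Set G) :=
    Subgroup.centralizer_le_normalizer _
  haveI hPn : (P.subgroupOf (Subgroup.normalizer (P : Set G))).Normal :=
    Subgroup.normal_in_normalizer
  haveI : Fintype (Subgroup.centralizer
    ((P.subgroupOf (Subgroup.normalizer (P : Set G)) :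
      Subgroup (Subgroup.normalizer (P : Set G))) : Set (Subgroup.normalizer (P : Set G)))) :=
    Fintype.ofFinite _
  obtain ⟨b, hbp, hDb, hind⟩ := normalizer_block_of_isMaximalBrauerPair hM B P e hmax
  obtain ⟨b', hbp', hDb', hind'⟩ := normalizer_block_of_isMaximalBrauerPair hM B P e' hmax'
  have hbb : b = b' := firstMain_ii_unique hM P hP B b b' hDb hDb' hind hind'
  subst hbb
  set e₁ := localBlock (Subgroup.normalizer (P : Set G)) P hPN hCN e with he₁
  set e₁' := localBlock (Subgroup.normalizer (P : Set G)) P hPN hCN e' with he₁'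
  have h1 := eq_lyingOver_of_isBrauerPairOf hM
    (P.subgroupOf (Subgroup.normalizer (P : Set G))) b e₁ hbp
  have h1' := eq_lyingOver_of_isBrauerPairOf hM
    (P.subgroupOf (Subgroup.normalizer (P : Set G))) b e₁' hbp'
  obtain ⟨η, hηb⟩ := hbp.2.1
  have hη : η ∈ b := by rw [hηb]; exact mem_blockOf_self hM.2.1 η
  have hη1 := hη
  rw [h1] at hη1
  obtain ⟨θ, hθO, hθ⟩ := hη1
  have hη2 := hη
  rw [h1'] at hη2
  obtain ⟨θ', hθO', hθ'⟩ := hη2
  obtain ⟨n₀, hn₀⟩ := conj_of_constituents
    (Subgroup.centralizer ((P.subgroupOf (Subgroup.normalizer (P : Set G)) :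
      Subgroup (Subgroup.normalizer (P : Set G))) : Set (Subgroup.normalizer (P : Set G))))
    (η : Subgroup.normalizer (P : Set G) → ℂ) η.2
    (θ : Subgroup.centralizer ((P.subgroupOf (Subgroup.normalizer (P : Set G)) :
      Subgroup (Subgroup.normalizer (P : Set G))) : Set (Subgroup.normalizer (P : Set G))) → ℂ)
    θ.2 hθ
    (θ' : Subgroup.centralizer ((P.subgroupOf (Subgroup.normalizer (P : Set G)) :
      Subgroup (Subgroup.normalizer (P : Set G))) : Set (Subgroup.normalizer (P : Set G))) → ℂ)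
    θ'.2 hθ'
  have hθθ' : θ' = conjIrr _ n₀ θ := Subtype.ext hn₀
  obtain ⟨x, hx⟩ := (mem_orbitUnion_iff _ e₁ θ).mp hθO
  obtain ⟨x', hx'⟩ := (mem_orbitUnion_iff _ e₁' θ').mp hθO'
  have hx2 : θ' ∈ nact _ (n₀⁻¹ * x) e₁ := by
    rw [mem_nact_iff, hθθ', conjIrr_conjIrr, mul_inv_cancel_left, ← mem_nact_iff]
    exact hx
  have he₁b := hbp.1.2
  have he₁b' := hbp'.1.2
  have heq : nact _ (n₀⁻¹ * x) e₁ = nact _ x' e₁' := by
    rw [eq_blockOf_of_mem hM.2.1 _ (isPBlock_nact _ (n₀⁻¹ * x) e₁ he₁b) θ' hx2,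
      eq_blockOf_of_mem hM.2.1 _ (isPBlock_nact _ x' e₁' he₁b') θ' hx']
  have heq2 : e₁' = nact _ (x'⁻¹ * (n₀⁻¹ * x)) e₁ := by
    have := congrArg (nact _ x'⁻¹) heq
    rw [← nact_mul, ← nact_mul, inv_mul_cancel, nact_one] at this
    exact this.symm
  set m := x'⁻¹ * (n₀⁻¹ * x) with hm
  have hmn : (m : G) ∈ Subgroup.normalizer
      ((Subgroup.centralizer (P : Set G) : Subgroup G) : Set G) :=
    normalizer_le_normalizer_centralizer P m.2
  refine ⟨(m : G), hmn, m.2, ?_⟩
  rw [nact_localBlock _ P hPN hCN e m hmn] at heq2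
  exact localBlock_injective _ P hPN hCN heq2

end Cfsg.Agent.Helper6
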