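import Mathlib
import Cfsg.Prelude.Def_Characters
import Cfsg.Prelude.Def_Blocks
import Cfsg.Prelude.Def_BlockLocal
import Cfsg.Prelude.Def_BrauerPairs
import Cfsg.Agent.Helper6.MaximalPairNormalizer

/-!
# Conjugation of Brauer pairs
-/

set_option autoImplicit false
set_option linter.style.haveILetI false

namespace Cfsg.Agent.Helper6

open scoped ComplexConjugate

universe u

variable {G : Type u} [Group G] {M : Ideal Cfsg.AlgInt}

/-- the conjugate of a set of characters of `C(Q)` as an image under transport -/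
theorem conjBlock_eq_image (Q : Subgroup G) (x : G)
    (f : Set (Cfsg.IrrCharacter (Subgroup.centralizer (Q : Set G)))) :
    Cfsg.conjBlock Q x f = irrComp (centConjEquiv Q x).symm '' f := by
  ext ξ'
  constructor
  · rintro ⟨ξ, hξ, h⟩
    refine ⟨ξ, hξ, ?_⟩
    apply Subtype.ext
    funext c'
    rw [irrComp_apply]
    symm
    apply h
    show (c' : G) = x * (x⁻¹ * (c' : G) * x) * x⁻¹
    group
  · rintro ⟨ξ, hξ, rfl⟩
    refine ⟨ξ, hξ, fun c c' hc => ?_⟩
    rw [irrComp_apply]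
    refine congrArg (ξ : Subgroup.centralizer (Q : Set G) → ℂ) ?_
    apply Subtype.ext
    show x⁻¹ * (c' : G) * x = c
    rw [hc]
    group

theorem isPBlock_conjBlock (Q : Subgroup G) (x : G)
    (f : Set (Cfsg.IrrCharacter (Subgroup.centralizer (Q : Set G)))) (hf : Cfsg.IsPBlock M f) :
    Cfsg.IsPBlock M (Cfsg.conjBlock Q x f) := by
  rw [conjBlock_eq_image]
  obtain ⟨ζ, rfl⟩ := hf
  exact ⟨_, image_irrComp_blockOf _ ζ⟩

theorem mem_centralizer_map_conj_iff (Q : Subgroup G) (x g : G) :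
    g ∈ Subgroup.centralizer ((Q.map (MulAut.conj x).toMonoidHom : Subgroup G) : Set G) ↔
      x⁻¹ * g * x ∈ Subgroup.centralizer (Q : Set G) := by
  constructor
  · intro hg
    exact ((centConjEquiv Q x).symm ⟨g, hg⟩).2
  · intro hg
    have := (centConjEquiv Q x ⟨_, hg⟩).2
    have e : x * (x⁻¹ * g * x) * x⁻¹ = g := by group
    rw [coe_centConjEquiv] at this
    simp only at this
    rwa [e] at this

theorem subgroupBlockCoeff_conjBlock [Finite G] (Q : Subgroup G) (x : G)
    (f : Set (Cfsg.IrrCharacter (Subgroup.centralizer (Q : Set G)))) (g : G) :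
    Cfsg.subgroupBlockCoeff
      (Subgroup.centralizer ((Q.map (MulAut.conj x).toMonoidHom : Subgroup G) : Set G))
      (Cfsg.conjBlock Q x f) g =
      Cfsg.subgroupBlockCoeff (Subgroup.centralizer (Q : Set G)) f (x⁻¹ * g * x) := by
  by_cases hg : g ∈ Subgroup.centralizer
      ((Q.map (MulAut.conj x).toMonoidHom : Subgroup G) : Set G)
  · have hg' := (mem_centralizer_map_conj_iff Q x g).mp hg
    rw [subgroupBlockCoeff_of_mem _ _ _ hg, subgroupBlockCoeff_of_mem _ _ _ hg',
      conjBlock_eq_image, blockCoeff_image_irrComp]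
    rfl
  · have hg' : x⁻¹ * g * x ∉ Subgroup.centralizer (Q : Set G) :=
      fun h => hg ((mem_centralizer_map_conj_iff Q x g).mpr h)
    rw [subgroupBlockCoeff_of_not_mem _ _ _ hg, subgroupBlockCoeff_of_not_mem _ _ _ hg']

/-- `brauerOmega` is invariant under simultaneous conjugation -/
theorem brauerOmega_conj [Finite G] (Q : Subgroup G) (x : G) (β β' : G → ℂ)
    (hβ : ∀ c ∈ Subgroup.centralizer (Q : Set G), β' (x * c * x⁻¹) = β c)
    (ξ : Cfsg.IrrCharacter (Subgroup.centralizer (Q : Set G))) :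
    Cfsg.brauerOmega (Q.map (MulAut.conj x).toMonoidHom) β'
      (irrComp (centConjEquiv Q x).symm ξ :
        Subgroup.centralizer ((Q.map (MulAut.conj x).toMonoidHom : Subgroup G) : Set G) → ℂ) =
      Cfsg.brauerOmega Q β (ξ : Subgroup.centralizer (Q : Set G) → ℂ) := by
  classical
  haveI : Fintype (Subgroup.centralizer (Q : Set G)) := Fintype.ofFinite _
  haveI : Fintype (Subgroup.centralizer
    ((Q.map (MulAut.conj x).toMonoidHom : Subgroup G) : Set G)) := Fintype.ofFinite _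
  rw [brauerOmega_eq_classVec, brauerOmega_eq_classVec,
    ← Equiv.sum_comp (centConjEquiv Q x).toEquiv]
  apply Finset.sum_congr rfl
  intro c _
  have e1 : (((centConjEquiv Q x).toEquiv c : _) : G) = x * (c : G) * x⁻¹ := rfl
  rw [e1, hβ _ c.2, irrComp_apply, irrComp_apply, map_one]
  congr 2
  exact congrArg _ ((centConjEquiv Q x).symm_apply_apply c)

/-- conjugation preserves the Brauer pairs of a block -/
theorem isBrauerPairOf_conj [Finite G] {p : ℕ} (B : Set (Cfsg.IrrCharacter G)) (Q : Subgroup G)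
    (f : Set (Cfsg.IrrCharacter (Subgroup.centralizer (Q : Set G)))) (x : G)
    (h : Cfsg.IsBrauerPairOf p M B Q f) :
    Cfsg.IsBrauerPairOf p M B (Q.map (MulAut.conj x).toMonoidHom) (Cfsg.conjBlock Q x f) := by
  obtain ⟨⟨hQ, hf⟩, hB, h1⟩ := h
  refine ⟨⟨hQ.map _, isPBlock_conjBlock Q x f hf⟩, hB, ?_⟩
  intro ξ' hξ'
  rw [conjBlock_eq_image] at hξ'
  obtain ⟨ξ, hξ, rfl⟩ := hξ'
  rw [brauerOmega_conj Q x (Cfsg.blockCoeff B) (Cfsg.blockCoeff B)
    (fun c _ => blockCoeff_isClassFunction B c x) ξ]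
  exact h1 ξ hξ

/-- **conjugation preserves normal inclusion of Brauer pairs** -/
theorem isNormalSubpair_conj [Finite G] {p : ℕ} (Q P : Subgroup G)
    (f : Set (Cfsg.IrrCharacter (Subgroup.centralizer (Q : Set G))))
    (e : Set (Cfsg.IrrCharacter (Subgroup.centralizer (P : Set G)))) (x : G)
    (hn : Cfsg.IsNormalSubpair p M Q f P e) :
    Cfsg.IsNormalSubpair p M (Q.map (MulAut.conj x).toMonoidHom) (Cfsg.conjBlock Q x f)
      (P.map (MulAut.conj x).toMonoidHom) (Cfsg.conjBlock P x e) := by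
  obtain ⟨⟨hQ, hf⟩, ⟨hP, he⟩, hQP, hPN, hst, hΩ⟩ := hn
  have hPN' : P.map (MulAut.conj x).toMonoidHom ≤
      Subgroup.normalizer ((Q.map (MulAut.conj x).toMonoidHom : Subgroup G) : Set G) := by
    rw [← Subgroup.map_equiv_normalizer_eq]
    exact Subgroup.map_mono hPN
  refine ⟨⟨hQ.map _, isPBlock_conjBlock Q x f hf⟩, ⟨hP.map _, isPBlock_conjBlock P x e he⟩,
    Subgroup.map_mono hQP, hPN', ?_, ?_⟩
  · rintro y ⟨u, hu, rfl⟩
    refine ⟨normalizer_le_normalizer_centralizer _ (hPN' ⟨u, hu, rfl⟩), ?_⟩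
    intro ξ' hξ'
    rw [conjBlock_eq_image] at hξ'
    obtain ⟨ξ, hξ, rfl⟩ := hξ'
    obtain ⟨ξ₂, hξ₂, hc⟩ := (hst u hu).2 ξ hξ
    refine ⟨irrComp (centConjEquiv Q x).symm ξ₂, ?_, ?_⟩
    · rw [conjBlock_eq_image]
      exact ⟨ξ₂, hξ₂, rfl⟩
    · intro k k' hk
      rw [irrComp_apply, irrComp_apply]
      apply hc
      show x⁻¹ * (k' : G) * x = u * (x⁻¹ * (k : G) * x) * u⁻¹
      rw [hk]
      show x⁻¹ * (x * u * x⁻¹ * (k : G) * (x * u * x⁻¹)⁻¹) * x = u * (x⁻¹ * (k : G) * x) * u⁻¹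
      group
  · intro ξ' hξ'
    rw [conjBlock_eq_image] at hξ'
    obtain ⟨ξ, hξ, rfl⟩ := hξ'
    rw [brauerOmega_conj P x
      (Cfsg.subgroupBlockCoeff (Subgroup.centralizer (Q : Set G)) f) _ (fun c _ => by
        rw [subgroupBlockCoeff_conjBlock]
        congr 1
        group) ξ]
    exact hΩ ξ hξ

/-- conjugation of a Brauer pair, on the index type -/
def conjPair (x : G) (a : Cfsg.BrauerPairIdx G) : Cfsg.BrauerPairIdx G :=
  ⟨a.1.map (MulAut.conj x).toMonoidHom, Cfsg.conjBlock a.1 x a.2⟩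

/-- **conjugation preserves inclusion of Brauer pairs** -/
theorem reflTransGen_conjPair [Finite G] {p : ℕ} (x : G) (a b : Cfsg.BrauerPairIdx G)
    (h : Relation.ReflTransGen (Cfsg.NormalSubpairRel p M) a b) :
    Relation.ReflTransGen (Cfsg.NormalSubpairRel p M) (conjPair x a) (conjPair x b) := by
  induction h with
  | refl => exact Relation.ReflTransGen.refl
  | tail _ hbc ih =>
    exact Relation.ReflTransGen.tail ih (isNormalSubpair_conj _ _ _ _ x hbc)

end Cfsg.Agent.Helper6
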