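import Mathlib
import Cfsg.Prelude.Def_Characters
import Cfsg.Prelude.Def_Blocks
import Cfsg.Prelude.Def_BlockLocal
import Cfsg.Prelude.Def_BrauerPairs
import Cfsg.Agent.Helper6.PairConj
import Cfsg.Agent.Helper6.MaximalPairDefect
import Cfsg.Agent.Helper6.MinMax2
import Cfsg.Agent.Helper6.DefectOrder

/-!
# Brauer pairs are conjugate into a maximal pair
-/

set_option autoImplicit false
set_option linter.style.haveILetI false

namespace Cfsg.Agent.Helper6

open scoped ComplexConjugate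

universe u

variable {G : Type u} [Group G] {M : Ideal Cfsg.AlgInt}

/-- two defect groups of a block are conjugate -/
theorem exists_conj_eq_of_isDefectGroup [Finite G] {p : ℕ} [hp : Fact p.Prime]
    (hM : Cfsg.IsPModular p M) (B : Set (Cfsg.IrrCharacter G)) (hB : Cfsg.IsPBlock M B)
    (D D' : Subgroup G) (hD : Cfsg.IsDefectGroup p M B D) (hD' : Cfsg.IsDefectGroup p M B D') :
    ∃ x : G, D'.map (MulAut.conj x).toMonoidHom = D := by
  classical
  have hc := card_defectGroup hM.2.1 p hM.2.2 B hB D hD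
  have hc' := card_defectGroup hM.2.1 p hM.2.2 B hB D' hD'
  obtain ⟨g₀, hg₀, S₀, hDdef⟩ := hD
  obtain ⟨g₁, hg₁, S₁, hDdef'⟩ := hD'
  obtain ⟨e, he⟩ := exists_conj_sylow_le_defectGroup hM B hB g₀ hg₀ S₀ g₁ hg₁.2.1 S₁
  refine ⟨e⁻¹, ?_⟩
  have hle : D'.map (MulAut.conj e⁻¹).toMonoidHom ≤ D := by
    rintro w ⟨u, hu, rfl⟩
    rw [hDdef'] at hu
    obtain ⟨q, hq, rfl⟩ := Subgroup.mem_map.mp hu
    obtain ⟨s, hs, hseq⟩ := he q hq
    rw [hDdef, Subgroup.mem_map]
    refine ⟨s, hs, ?_⟩
    have h1 : (s : G) = e⁻¹ * (q : G) * e := by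
      rw [← hseq]; group
    simp only [MulEquiv.coe_toMonoidHom, MulAut.conj_apply, inv_inv]
    exact h1
  apply Subgroup.eq_of_le_of_card_ge hle
  have h2 : Nat.card (D'.map (MulAut.conj e⁻¹).toMonoidHom : Subgroup G) = Nat.card D' :=
    Subgroup.card_map_of_injective (MulAut.conj e⁻¹).injective
  rw [h2, hc, hc']

/-- extensionality for Brauer pair indices with propositionally equal subgroups -/
theorem brauerPairIdx_ext (A A' : Subgroup G)
    (f : Set (Cfsg.IrrCharacter (Subgroup.centralizer (A : Set G))))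
    (f' : Set (Cfsg.IrrCharacter (Subgroup.centralizer (A' : Set G)))) (hA : A = A')
    (h : ∀ (ξ : Cfsg.IrrCharacter (Subgroup.centralizer (A : Set G)))
      (ξ' : Cfsg.IrrCharacter (Subgroup.centralizer (A' : Set G))),
      (∀ (c : Subgroup.centralizer (A : Set G)) (c' : Subgroup.centralizer (A' : Set G)),
        (c : G) = (c' : G) → (ξ : Subgroup.centralizer (A : Set G) → ℂ) c =
          (ξ' : Subgroup.centralizer (A' : Set G) → ℂ) c') → (ξ ∈ f ↔ ξ' ∈ f')) :
    (⟨A, f⟩ : Cfsg.BrauerPairIdx G) = ⟨A', f'⟩ := by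
  subst hA
  have : f = f' := by
    ext ξ
    apply h ξ ξ
    intro c c' hc
    rw [Subtype.ext hc]
  rw [this]

theorem map_conj_mul_of_mem_normalizer (R : Subgroup G) (x n : G)
    (hn : n ∈ Subgroup.normalizer ((R.map (MulAut.conj x).toMonoidHom : Subgroup G) : Set G)) :
    R.map (MulAut.conj (n * x)).toMonoidHom = R.map (MulAut.conj x).toMonoidHom := by
  have h1 : (MulAut.conj (n * x)).toMonoidHom =
      (MulAut.conj n).toMonoidHom.comp (MulAut.conj x).toMonoidHom := by
    ext y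
    simp [MulAut.conj_apply, mul_assoc]
  rw [h1, ← Subgroup.map_map]
  exact (Subgroup.mem_normalizer_iff_map_conj_eq.mp hn)

/-- conjugating by `n * x` with `n` normalizing `xRx⁻¹` is conjugating by `x`, then acting
by `n` on the characters -/
theorem conjPair_mul_eq (R : Subgroup G)
    (g : Set (Cfsg.IrrCharacter (Subgroup.centralizer (R : Set G)))) (x n : G)
    (hn : n ∈ Subgroup.normalizer ((R.map (MulAut.conj x).toMonoidHom : Subgroup G) : Set G))
    (hnC : n ∈ Subgroup.normalizer ((Subgroup.centralizer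
      ((R.map (MulAut.conj x).toMonoidHom : Subgroup G) : Set G) : Subgroup G) : Set G)) :
    conjPair (n * x) ⟨R, g⟩ =
      (⟨R.map (MulAut.conj x).toMonoidHom,
        nconjIrr (Subgroup.centralizer
          ((R.map (MulAut.conj x).toMonoidHom : Subgroup G) : Set G)) n hnC ''
            Cfsg.conjBlock R x g⟩ : Cfsg.BrauerPairIdx G) := by
  have hA := map_conj_mul_of_mem_normalizer R x n hn
  apply brauerPairIdx_ext _ _ _ _ hA
  intro ξ ξ' hag
  constructor
  · rintro ⟨η, hη, h1⟩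
    refine ⟨irrComp (centConjEquiv R x).symm η, ?_, ?_⟩
    · rw [conjBlock_eq_image]
      exact ⟨η, hη, rfl⟩
    · apply Subtype.ext
      funext c'
      rw [nconjIrr_apply, irrComp_apply]
      have hc'mem : (c' : G) ∈ Subgroup.centralizer
          ((R.map (MulAut.conj (n * x)).toMonoidHom : Subgroup G) : Set G) := by
        rw [hA]; exact c'.2
      rw [← hag ⟨(c' : G), hc'mem⟩ c' rfl]
      symm
      apply h1
      show (c' : G) = n * x * (x⁻¹ * (n⁻¹ * (c' : G) * n) * x) * (n * x)⁻¹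
      group
  · rintro ⟨ζ, ⟨η, hη, h1⟩, rfl⟩
    refine ⟨η, hη, ?_⟩
    intro c c' hc
    have hc'mem : (c' : G) ∈ Subgroup.centralizer
        ((R.map (MulAut.conj x).toMonoidHom : Subgroup G) : Set G) := by
      rw [← hA]; exact c'.2
    rw [hag c' ⟨(c' : G), hc'mem⟩ rfl, nconjIrr_apply]
    apply h1
    rw [coe_nconjHom]
    show n⁻¹ * (c' : G) * n = x * (c : G) * x⁻¹
    rw [hc]
    group

/-- **Brauer pairs of a block are conjugate into any maximal pair** -/
theorem exists_conj_subpairLE [Fintype G] {p : ℕ} [hp : Fact p.Prime]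
    (hM : Cfsg.IsPModular p M) (B : Set (Cfsg.IrrCharacter G)) (P Q : Subgroup G)
    (e : Set (Cfsg.IrrCharacter (Subgroup.centralizer (P : Set G))))
    (f : Set (Cfsg.IrrCharacter (Subgroup.centralizer (Q : Set G))))
    (hmax : Cfsg.IsMaximalBrauerPair p M B P e) (hQf : Cfsg.IsBrauerPairOf p M B Q f) :
    ∃ x : G, Cfsg.SubpairLE p M (Q.map (MulAut.conj x).toMonoidHom) (Cfsg.conjBlock Q x f) P e := by
  classical
  have hB : Cfsg.IsPBlock M B := hQf.2.1
  obtain ⟨R, g, hle, hRmax⟩ := exists_isMaximalBrauerPair_ge (M := M) (p := p) B _ Q f hQf rfl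
  have hDP := isDefectGroup_of_isMaximalBrauerPair hM B P e hmax
  have hDR := isDefectGroup_of_isMaximalBrauerPair hM B R g hRmax
  obtain ⟨x, hx⟩ := exists_conj_eq_of_isDefectGroup hM B hB P R hDP hDR
  subst hx
  have hBx := isBrauerPairOf_conj (M := M) B R g x hRmax.1
  have hcard : Nat.card (R.map (MulAut.conj x).toMonoidHom : Subgroup G) =
      p ^ Cfsg.blockDefect p B := card_defectGroup hM.2.1 p hM.2.2 B hB _ hDP
  have hmaxx := isMaximalBrauerPair_of_card_eq hM B _ _ hBx hcard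
  obtain ⟨n, hnC, hn, he⟩ := exists_normalizer_conj_of_isMaximalBrauerPair hM B _ _ _ hmaxx hmax
  refine ⟨n * x, ?_⟩
  have h1 := reflTransGen_conjPair (M := M) (p := p) (n * x) ⟨Q, f⟩ ⟨R, g⟩ hle
  rw [conjPair_mul_eq R g x n hn hnC, ← he] at h1
  exact h1

end Cfsg.Agent.Helper6
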