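import Mathlib
import Cfsg.Prelude.Def_Characters
import Cfsg.Prelude.Def_Blocks
import Cfsg.Prelude.Def_BlockLocal
import Cfsg.Prelude.Def_BrauerPairs
import Cfsg.Agent.Helper6.PairConj2

/-!
# Brauer pairs of `C_G(Q)` and Brauer pairs of `G` above `Q`
-/

set_option autoImplicit false
set_option linter.style.haveILetI false

namespace Cfsg.Agent.Helper6

open scoped ComplexConjugate

universe u

variable {G : Type u} [Group G] {M : Ideal Cfsg.AlgInt}

theorem mem_centralizer_sup_iff (A B : Subgroup G) (c : G) :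
    c ∈ Subgroup.centralizer ((A ⊔ B : Subgroup G) : Set G) ↔
      c ∈ Subgroup.centralizer (A : Set G) ∧ c ∈ Subgroup.centralizer (B : Set G) := by
  constructor
  · intro h
    refine ⟨Subgroup.centralizer_le ?_ h, Subgroup.centralizer_le ?_ h⟩
    · exact_mod_cast (le_sup_left : A ≤ A ⊔ B)
    · exact_mod_cast (le_sup_right : B ≤ A ⊔ B)
  · rintro ⟨hA, hB⟩
    have h1 : A ⊔ B ≤ Subgroup.centralizer ({c} : Set G) := by
      apply sup_le
      · intro a ha
        rw [Subgroup.mem_centralizer_singleton_iff]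
        exact Subgroup.mem_centralizer_iff.mp hA a ha
      · intro b hb
        rw [Subgroup.mem_centralizer_singleton_iff]
        exact Subgroup.mem_centralizer_iff.mp hB b hb
    rw [Subgroup.mem_centralizer_iff]
    intro u hu
    have := h1 hu
    rw [Subgroup.mem_centralizer_singleton_iff] at this
    exact this

/-- the centralizer in `C_G(Q)` of a subgroup `S` of `C_G(Q)` is the centralizer in `G` of `QS` -/
def centQEquiv (Q : Subgroup G) (S : Subgroup (Subgroup.centralizer (Q : Set G))) :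
    Subgroup.centralizer (S : Set (Subgroup.centralizer (Q : Set G))) ≃*
      Subgroup.centralizer
        ((Q ⊔ S.map (Subgroup.centralizer (Q : Set G)).subtype : Subgroup G) : Set G) where
  toFun c := ⟨((c : Subgroup.centralizer (Q : Set G)) : G), by
    rw [mem_centralizer_sup_iff]
    refine ⟨(c : Subgroup.centralizer (Q : Set G)).2, ?_⟩
    rw [Subgroup.mem_centralizer_iff]
    rintro _ ⟨s, hs, rfl⟩
    exact congrArg Subtype.val (Subgroup.mem_centralizer_iff.mp c.2 s hs)⟩
  invFun c := ⟨⟨(c : G), ((mem_centralizer_sup_iff _ _ _).mp c.2).1⟩, by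
    rw [Subgroup.mem_centralizer_iff]
    intro s hs
    apply Subtype.ext
    exact Subgroup.mem_centralizer_iff.mp ((mem_centralizer_sup_iff _ _ _).mp c.2).2 (s : G)
      ⟨s, hs, rfl⟩⟩
  left_inv c := Subtype.ext (Subtype.ext rfl)
  right_inv c := Subtype.ext rfl
  map_mul' a b := Subtype.ext rfl

theorem coe_centQEquiv (Q : Subgroup G) (S : Subgroup (Subgroup.centralizer (Q : Set G)))
    (c : Subgroup.centralizer (S : Set (Subgroup.centralizer (Q : Set G)))) :
    ((centQEquiv Q S c : Subgroup.centralizer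
      ((Q ⊔ S.map (Subgroup.centralizer (Q : Set G)).subtype : Subgroup G) : Set G)) : G) =
      ((c : Subgroup.centralizer (Q : Set G)) : G) := rfl

/-- `brauerOmega` is transported by an isomorphism of centralizers matching the coefficients -/
theorem brauerOmega_transport {G' : Type u} [Group G'] [Finite G] [Finite G']
    (P : Subgroup G) (P' : Subgroup G')
    (Ψ : Subgroup.centralizer (P' : Set G') ≃* Subgroup.centralizer (P : Set G))
    (β : G → ℂ) (β' : G' → ℂ)
    (hβ : ∀ c' : Subgroup.centralizer (P' : Set G'),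
      β' (c' : G') = β ((Ψ c' : Subgroup.centralizer (P : Set G)) : G))
    (ξ : Subgroup.centralizer (P : Set G) → ℂ) :
    Cfsg.brauerOmega P' β' (fun c' => ξ (Ψ c')) = Cfsg.brauerOmega P β ξ := by
  classical
  haveI : Fintype (Subgroup.centralizer (P : Set G)) := Fintype.ofFinite _
  haveI : Fintype (Subgroup.centralizer (P' : Set G')) := Fintype.ofFinite _
  rw [brauerOmega_eq_classVec, brauerOmega_eq_classVec, ← Equiv.sum_comp Ψ.toEquiv]
  apply Finset.sum_congr rfl
  intro c _
  rw [hβ c, map_one]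
  rfl

/-- a pair of `G` normally above `(Q, f)` on `Q S` gives an `f`-Brauer pair of `C_G(Q)` on `S` -/
theorem isBrauerPairOf_down [Finite G] {p : ℕ} (Q : Subgroup G)
    (S : Subgroup (Subgroup.centralizer (Q : Set G))) (hS : IsPGroup p S)
    (f : Set (Cfsg.IrrCharacter (Subgroup.centralizer (Q : Set G))))
    (e : Set (Cfsg.IrrCharacter (Subgroup.centralizer
      ((Q ⊔ S.map (Subgroup.centralizer (Q : Set G)).subtype : Subgroup G) : Set G))))
    (hn : Cfsg.IsNormalSubpair p M Q f
      (Q ⊔ S.map (Subgroup.centralizer (Q : Set G)).subtype) e) :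
    Cfsg.IsBrauerPairOf p M f S (irrComp (centQEquiv Q S) '' e) := by
  obtain ⟨⟨hQ, hf⟩, ⟨hR, he⟩, -, -, -, hΩ⟩ := hn
  refine ⟨⟨hS, ?_⟩, hf, ?_⟩
  · obtain ⟨ζ, rfl⟩ := he
    exact ⟨_, image_irrComp_blockOf _ ζ⟩
  · rintro _ ⟨ξ, hξ, rfl⟩
    have h1 := hΩ ξ hξ
    rw [← brauerOmega_transport _ S (centQEquiv Q S)
      (Cfsg.subgroupBlockCoeff (Subgroup.centralizer (Q : Set G)) f) (Cfsg.blockCoeff f)
      (fun c' => by
        rw [coe_centQEquiv,
          subgroupBlockCoeff_of_mem _ _ _ (c' : Subgroup.centralizer (Q : Set G)).2])] at h1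
    exact h1

/-- every element of `Q C_G(Q)` acts on `C_G(Q)` as an inner automorphism -/
theorem exists_inner_of_mem_sup (Q : Subgroup G) (u : G)
    (hu : u ∈ Q ⊔ Subgroup.centralizer (Q : Set G)) :
    ∃ c ∈ Subgroup.centralizer (Q : Set G), ∀ h ∈ Subgroup.centralizer (Q : Set G),
      u * h * u⁻¹ = c * h * c⁻¹ := by
  have hcl : Q ⊔ Subgroup.centralizer (Q : Set G) =
      Subgroup.closure ((Q : Set G) ∪ (Subgroup.centralizer (Q : Set G) : Set G)) := by
    rw [Subgroup.closure_union, Subgroup.closure_eq, Subgroup.closure_eq]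
  rw [hcl] at hu
  induction hu using Subgroup.closure_induction with
  | mem x hx =>
    rcases hx with hx | hx
    · refine ⟨1, Subgroup.one_mem _, fun h hh => ?_⟩
      have := Subgroup.mem_centralizer_iff.mp hh x hx
      rw [this, mul_inv_cancel_right, one_mul, inv_one, mul_one]
    · exact ⟨x, hx, fun h _ => rfl⟩
  | one => exact ⟨1, Subgroup.one_mem _, fun h _ => rfl⟩
  | mul x y _ _ hx hy =>
    obtain ⟨c, hc, h1⟩ := hx
    obtain ⟨d, hd, h2⟩ := hy
    refine ⟨c * d, Subgroup.mul_mem _ hc hd, fun h hh => ?_⟩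
    have e1 : x * y * h * (x * y)⁻¹ = x * (y * h * y⁻¹) * x⁻¹ := by group
    rw [e1, h2 h hh, h1 _ (by
      exact Subgroup.mul_mem _ (Subgroup.mul_mem _ hd hh) (Subgroup.inv_mem _ hd))]
    group
  | inv x _ hx =>
    obtain ⟨c, hc, h1⟩ := hx
    refine ⟨c⁻¹, Subgroup.inv_mem _ hc, fun h hh => ?_⟩
    have hm : c⁻¹ * h * c ∈ Subgroup.centralizer (Q : Set G) :=
      Subgroup.mul_mem _ (Subgroup.mul_mem _ (Subgroup.inv_mem _ hc) hh) hc
    have h2 := h1 _ hm
    have e1 : c * (c⁻¹ * h * c) * c⁻¹ = h := by group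
    rw [e1] at h2
    rw [inv_inv, inv_inv]
    calc x⁻¹ * h * x = x⁻¹ * (x * (c⁻¹ * h * c) * x⁻¹) * x := by rw [h2]
      _ = c⁻¹ * h * c := by group

/-- every element of `Q C_G(Q)` stabilizes every set of characters of `C_G(Q)` -/
theorem stabilizesBlock_of_mem_sup (Q : Subgroup G)
    (f : Set (Cfsg.IrrCharacter (Subgroup.centralizer (Q : Set G)))) (u : G)
    (hu : u ∈ Q ⊔ Subgroup.centralizer (Q : Set G)) :
    Cfsg.StabilizesBlock (Subgroup.centralizer (Q : Set G)) f u := by
  have hN : u ∈ Subgroup.normalizer (Q : Set G) := by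
    have : Q ⊔ Subgroup.centralizer (Q : Set G) ≤ Subgroup.normalizer (Q : Set G) :=
      sup_le Subgroup.le_normalizer (Subgroup.centralizer_le_normalizer _)
    exact this hu
  obtain ⟨c, hc, h1⟩ := exists_inner_of_mem_sup Q u hu
  refine ⟨normalizer_le_normalizer_centralizer Q hN, fun χ hχ => ⟨χ, hχ, fun k k' hk => ?_⟩⟩
  have hcf := IsCharacter.isClassFunction (IsIrrCharacter.isCharacter χ.2)
  have : k' = ⟨c, hc⟩ * k * ⟨c, hc⟩⁻¹ := by
    apply Subtype.ext
    rw [hk, h1 _ k.2]
    rfl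
  rw [this]
  exact hcf k ⟨c, hc⟩

/-- an `f`-Brauer pair of `C_G(Q)` on `S` gives a pair of `G` on `Q S` normally above `(Q, f)` -/
theorem isNormalSubpair_up [Finite G] {p : ℕ} (Q : Subgroup G) (hQ : IsPGroup p Q)
    (S : Subgroup (Subgroup.centralizer (Q : Set G)))
    (f : Set (Cfsg.IrrCharacter (Subgroup.centralizer (Q : Set G))))
    (ε : Set (Cfsg.IrrCharacter (Subgroup.centralizer
      (S : Set (Subgroup.centralizer (Q : Set G))))))
    (h : Cfsg.IsBrauerPairOf p M f S ε) :
    Cfsg.IsNormalSubpair p M Q f (Q ⊔ S.map (Subgroup.centralizer (Q : Set G)).subtype)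
      (irrComp (centQEquiv Q S).symm '' ε) := by
  obtain ⟨⟨hS, hε⟩, hf, hΩ⟩ := h
  have hSC : S.map (Subgroup.centralizer (Q : Set G)).subtype ≤
      Subgroup.centralizer (Q : Set G) := by
    rintro _ ⟨s, -, rfl⟩
    exact s.2
  have hle : Q ⊔ S.map (Subgroup.centralizer (Q : Set G)).subtype ≤
      Q ⊔ Subgroup.centralizer (Q : Set G) := sup_le_sup_left hSC Q
  refine ⟨⟨hQ, hf⟩, ⟨?_, ?_⟩, le_sup_left, ?_, ?_, ?_⟩
  · apply IsPGroup.to_sup_of_normal_left' hQ (hS.map _)
    exact hSC.trans (Subgroup.centralizer_le_normalizer _)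
  · obtain ⟨ζ, rfl⟩ := hε
    exact ⟨_, image_irrComp_blockOf _ ζ⟩
  · exact hle.trans (sup_le Subgroup.le_normalizer (Subgroup.centralizer_le_normalizer _))
  · intro x hx
    exact stabilizesBlock_of_mem_sup Q f x (hle hx)
  · rintro _ ⟨ξ, hξ, rfl⟩
    have h1 := hΩ ξ hξ
    rw [← brauerOmega_transport S _ (centQEquiv Q S).symm (Cfsg.blockCoeff f)
      (Cfsg.subgroupBlockCoeff (Subgroup.centralizer (Q : Set G)) f)
      (fun c' => by
        rw [subgroupBlockCoeff_of_mem _ _ _ ((mem_centralizer_sup_iff _ _ _).mp c'.2).1]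
        rfl)] at h1
    exact h1

end Cfsg.Agent.Helper6
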