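import Mathlib
import Cfsg.Prelude.Def_Characters
import Cfsg.Prelude.Def_Blocks
import Cfsg.Prelude.Def_BlockLocal
import Cfsg.Prelude.Def_BrauerPairs
import Cfsg.Agent.Helper6.CentPairs

/-!
# Centralizers in a maximal Brauer pair and defect groups
-/

set_option autoImplicit false
set_option linter.style.haveILetI false

namespace Cfsg.Agent.Helper6

open scoped ComplexConjugate

universe u

variable {G : Type u} [Group G] {M : Ideal Cfsg.AlgInt}

/-- defect groups are transported by group isomorphisms -/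
theorem isDefectGroup_comap_mulEquiv {K K' : Type u} [Group K] [Group K'] [Finite K]
    {p : ℕ} [hp : Fact p.Prime] (φ : K ≃* K') (f : Set (Cfsg.IrrCharacter K'))
    (D : Subgroup K') (hD : Cfsg.IsDefectGroup p M f D) :
    Cfsg.IsDefectGroup p M (irrComp φ '' f) (D.comap φ.toMonoidHom) := by
  classical
  haveI : Finite K' := Finite.of_equiv K φ.toEquiv
  obtain ⟨g', ⟨h1, h2, h3⟩, S', rfl⟩ := hD
  refine ⟨φ.symm g', ⟨?_, ?_, ?_⟩, ?_⟩
  · rw [blockCoeff_image_irrComp, φ.apply_symm_apply]; exact h1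
  · rw [blockCoeff_image_irrComp, φ.apply_symm_apply]; exact h2
  · rintro _ ⟨χ, hχ, rfl⟩
    have e1 : Cfsg.centralChar (irrComp φ χ : K → ℂ) (φ.symm g') =
        Cfsg.centralChar (χ : K' → ℂ) g' := by
      have := centralChar_comp_mulEquiv φ (χ : K' → ℂ) (φ.symm g')
      rw [φ.apply_symm_apply] at this
      exact this
    rw [e1]
    exact h3 χ hχ
  · obtain ⟨A, hA⟩ : ∃ A : Subgroup K, A = ((S' : Subgroup (Subgroup.centralizer
        ({g'} : Set K'))).map (Subgroup.centralizer ({g'} : Set K')).subtype).comap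
          φ.toMonoidHom := ⟨_, rfl⟩
    have hAC : A ≤ Subgroup.centralizer ({φ.symm g'} : Set K) := by
      intro a ha
      rw [hA, Subgroup.mem_comap] at ha
      obtain ⟨s, -, hs⟩ := ha
      have h4 : φ a ∈ Subgroup.centralizer ({g'} : Set K') := by
        have : (s : K') = φ a := hs
        rw [← this]; exact s.2
      rw [Subgroup.mem_centralizer_singleton_iff] at h4
      rw [Subgroup.mem_centralizer_singleton_iff]
      apply φ.injective
      rw [map_mul, map_mul, φ.apply_symm_apply]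
      exact h4
    have hidx : (Subgroup.centralizer ({g'} : Set K')).index =
        (Subgroup.centralizer ({φ.symm g'} : Set K)).index := by
      have := index_centralizer_mulEquiv' φ (φ.symm g')
      rw [φ.apply_symm_apply] at this
      exact this
    have hcardK : Nat.card K = Nat.card K' := Nat.card_congr φ.toEquiv
    have hcardC : Nat.card (Subgroup.centralizer ({φ.symm g'} : Set K)) =
        Nat.card (Subgroup.centralizer ({g'} : Set K')) := by
      have e1 := Subgroup.card_mul_index (Subgroup.centralizer ({φ.symm g'} : Set K))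
      have e2 := Subgroup.card_mul_index (Subgroup.centralizer ({g'} : Set K'))
      rw [← hcardK, hidx, ← e1] at e2
      have hpos : 0 < (Subgroup.centralizer ({φ.symm g'} : Set K)).index :=
        Nat.pos_of_ne_zero Subgroup.index_ne_zero_of_finite
      exact (Nat.eq_of_mul_eq_mul_right hpos e2).symm
    have hcardA : Nat.card A = Nat.card S' := by
      rw [hA, Subgroup.comap_equiv_eq_map_symm',
        Subgroup.card_map_of_injective φ.symm.injective,
        Subgroup.card_map_of_injective (Subgroup.subtype_injective _)]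
    have hcard : Nat.card (A.subgroupOf (Subgroup.centralizer ({φ.symm g'} : Set K))) =
        p ^ (Nat.card (Subgroup.centralizer ({φ.symm g'} : Set K))).factorization p := by
      rw [Nat.card_congr (Subgroup.subgroupOfEquivOfLe hAC).toEquiv, hcardA, hcardC]
      exact Sylow.card_eq_multiplicity S'
    refine ⟨Sylow.ofCard (A.subgroupOf (Subgroup.centralizer ({φ.symm g'} : Set K))) hcard, ?_⟩
    rw [Sylow.coe_ofCard, Subgroup.subgroupOf_map_subtype, inf_eq_left.mpr hAC, hA]

/-- below a Brauer pair `(P, e)`, the group `C_P(Q)` is contained in a maximal `f`-Brauer pair of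
`C_G(Q)`, where `(Q, f) ≤ (P, e)` -/
theorem exists_maximal_centralizer_pair [Fintype G] {p : ℕ} [hp : Fact p.Prime]
    (hM : Cfsg.IsPModular p M) (P Q : Subgroup G)
    (e : Set (Cfsg.IrrCharacter (Subgroup.centralizer (P : Set G))))
    (f : Set (Cfsg.IrrCharacter (Subgroup.centralizer (Q : Set G))))
    (hPe : Cfsg.IsBrauerPair p M P e) (hQP : Q ≤ P)
    (hle : Cfsg.SubpairLE p M Q f P e) :
    ∃ (D : Subgroup (Subgroup.centralizer (Q : Set G)))
      (ε : Set (Cfsg.IrrCharacter (Subgroup.centralizer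
        (D : Set (Subgroup.centralizer (Q : Set G)))))),
      Cfsg.IsMaximalBrauerPair p M f D ε ∧
        (P ⊓ Subgroup.centralizer (Q : Set G)).subgroupOf (Subgroup.centralizer (Q : Set G)) ≤
          D := by
  classical
  haveI : Fintype (Subgroup.centralizer (Q : Set G)) := Fintype.ofFinite _
  have hSmap : ((P ⊓ Subgroup.centralizer (Q : Set G)).subgroupOf
      (Subgroup.centralizer (Q : Set G))).map (Subgroup.centralizer (Q : Set G)).subtype =
      P ⊓ Subgroup.centralizer (Q : Set G) := by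
    rw [Subgroup.subgroupOf_map_subtype, inf_assoc, inf_idem]
  have hP : IsPGroup p P := hPe.1
  have hSp : IsPGroup p ((P ⊓ Subgroup.centralizer (Q : Set G)).subgroupOf
      (Subgroup.centralizer (Q : Set G))) := by
    have h1 : IsPGroup p (P ⊓ Subgroup.centralizer (Q : Set G) : Subgroup G) :=
      hP.to_le inf_le_left
    exact h1.comap_subtype
  have hRP : Q ⊔ ((P ⊓ Subgroup.centralizer (Q : Set G)).subgroupOf
      (Subgroup.centralizer (Q : Set G))).map (Subgroup.centralizer (Q : Set G)).subtype ≤ P := by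
    rw [hSmap]
    exact sup_le hQP inf_le_left
  have hRN : Q ⊔ ((P ⊓ Subgroup.centralizer (Q : Set G)).subgroupOf
      (Subgroup.centralizer (Q : Set G))).map (Subgroup.centralizer (Q : Set G)).subtype ≤
      Subgroup.normalizer (Q : Set G) := by
    rw [hSmap]
    exact sup_le Subgroup.le_normalizer
      (inf_le_right.trans (Subgroup.centralizer_le_normalizer _))
  obtain ⟨eR, hfR, hleR⟩ := exists_subpairLE hM _ P _ e hPe hRP rfl
  have hRp := hP.to_le hRP
  obtain ⟨f₀, hf₀, -⟩ := existsUnique_isNormalSubpair hM _ Q eR ⟨hRp, hfR⟩ le_sup_left hRN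
  have hstep : Cfsg.NormalSubpairRel p M (⟨Q, f₀⟩ : Cfsg.BrauerPairIdx G) ⟨_, eR⟩ := hf₀
  have hle₀ : Cfsg.SubpairLE p M Q f₀ P e := Relation.ReflTransGen.head hstep hleR
  have hff : f₀ = f := subpairLE_unique hM _ P Q e hPe hQP rfl f₀ f hle₀ hle
  rw [hff] at hf₀
  have hpair := isBrauerPairOf_down Q _ hSp f eR hf₀
  obtain ⟨D, ε, hle', hmax'⟩ := exists_isMaximalBrauerPair_ge (M := M) (p := p) f _ _ _ hpair rfl
  exact ⟨D, ε, hmax', SubpairLE.le hle'⟩

/-- auxiliary step: a `B`-pair `(T, εT)` normally above `(Q, f)` containing a defect group of `f`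
can be conjugated below `(P, e)` -/
theorem centralizer_defectGroup_aux [Fintype G] {p : ℕ} [hp : Fact p.Prime]
    (hM : Cfsg.IsPModular p M) (B : Set (Cfsg.IrrCharacter G)) (P Q : Subgroup G)
    (e : Set (Cfsg.IrrCharacter (Subgroup.centralizer (P : Set G))))
    (f : Set (Cfsg.IrrCharacter (Subgroup.centralizer (Q : Set G))))
    (hmax : Cfsg.IsMaximalBrauerPair p M B P e)
    (hBQ : Cfsg.IsBrauerPairOf p M B Q f)
    (D : Subgroup (Subgroup.centralizer (Q : Set G))) (hDdef : Cfsg.IsDefectGroup p M f D)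
    (T : Subgroup G) (εT : Set (Cfsg.IrrCharacter (Subgroup.centralizer (T : Set G))))
    (hn : Cfsg.IsNormalSubpair p M Q f T εT)
    (hDT : D.map (Subgroup.centralizer (Q : Set G)).subtype ≤ T) :
    ∃ x : G, Cfsg.SubpairLE p M (Q.map (MulAut.conj x).toMonoidHom) (Cfsg.conjBlock Q x f) P e ∧
      Cfsg.IsDefectGroup p M (Cfsg.conjBlock Q x f)
        ((P ⊓ Subgroup.centralizer ((Q.map (MulAut.conj x).toMonoidHom) : Set G)).subgroupOf
          (Subgroup.centralizer ((Q.map (MulAut.conj x).toMonoidHom) : Set G))) := by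
  classical
  haveI : Fintype (Subgroup.centralizer (Q : Set G)) := Fintype.ofFinite _
  have hPe : Cfsg.IsBrauerPair p M P e := hmax.1.1
  have hBT : Cfsg.IsBrauerPairOf p M B T εT :=
    (isBrauerPairOf_iff_of_subpairLE hM T Q εT f hn.2.1 hn.1
      (Relation.ReflTransGen.single hn) B).mpr hBQ
  obtain ⟨x, hx⟩ := exists_conj_subpairLE hM B P T e εT hmax hBT
  have hnx := isNormalSubpair_conj Q T f εT x hn
  have hstepx : Cfsg.NormalSubpairRel p M
      (⟨Q.map (MulAut.conj x).toMonoidHom, Cfsg.conjBlock Q x f⟩ : Cfsg.BrauerPairIdx G)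
      ⟨T.map (MulAut.conj x).toMonoidHom, Cfsg.conjBlock T x εT⟩ := hnx
  have hlex : Cfsg.SubpairLE p M (Q.map (MulAut.conj x).toMonoidHom) (Cfsg.conjBlock Q x f) P e :=
    Relation.ReflTransGen.head hstepx hx
  refine ⟨x, hlex, ?_⟩
  have hTxP : T.map (MulAut.conj x).toMonoidHom ≤ P := SubpairLE.le hx
  have hQxP : Q.map (MulAut.conj x).toMonoidHom ≤ P := SubpairLE.le hlex
  haveI : Fintype (Subgroup.centralizer
    ((Q.map (MulAut.conj x).toMonoidHom : Subgroup G) : Set G)) := Fintype.ofFinite _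
  -- transport of the defect group
  have hD₁ := isDefectGroup_comap_mulEquiv (M := M) (p := p) (centConjEquiv Q x).symm f D hDdef
  rw [← conjBlock_eq_image] at hD₁
  have hD₁S : D.comap (centConjEquiv Q x).symm.toMonoidHom ≤
      (P ⊓ Subgroup.centralizer
        ((Q.map (MulAut.conj x).toMonoidHom : Subgroup G) : Set G)).subgroupOf
        (Subgroup.centralizer ((Q.map (MulAut.conj x).toMonoidHom : Subgroup G) : Set G)) := by
    intro c' hc'
    rw [Subgroup.mem_subgroupOf]
    refine ⟨?_, c'.2⟩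
    apply hTxP
    have h1 : ((centConjEquiv Q x).symm c' : Subgroup.centralizer (Q : Set G)) ∈ D := hc'
    refine ⟨(((centConjEquiv Q x).symm c' : Subgroup.centralizer (Q : Set G)) : G), ?_, ?_⟩
    · exact hDT ⟨_, h1, rfl⟩
    · show x * (x⁻¹ * (c' : G) * x) * x⁻¹ = c'
      group
  obtain ⟨D₂, ε₂, hmaxD₂, hSD₂⟩ := exists_maximal_centralizer_pair hM P
    (Q.map (MulAut.conj x).toMonoidHom) e (Cfsg.conjBlock Q x f) hPe hQxP hlex
  have hD₂def := isDefectGroup_of_isMaximalBrauerPair hM _ D₂ ε₂ hmaxD₂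
  have hfx : Cfsg.IsPBlock M (Cfsg.conjBlock Q x f) := hmaxD₂.1.2.1
  have hc1 := card_defectGroup hM.2.1 p hM.2.2 _ hfx _ hD₁
  have hc2 := card_defectGroup hM.2.1 p hM.2.2 _ hfx D₂ hD₂def
  have h12 : D.comap (centConjEquiv Q x).symm.toMonoidHom = D₂ :=
    Subgroup.eq_of_le_of_card_ge (hD₁S.trans hSD₂) (by rw [hc1, hc2])
  have hSeq : (P ⊓ Subgroup.centralizer
        ((Q.map (MulAut.conj x).toMonoidHom : Subgroup G) : Set G)).subgroupOf
        (Subgroup.centralizer ((Q.map (MulAut.conj x).toMonoidHom : Subgroup G) : Set G)) =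
      D.comap (centConjEquiv Q x).symm.toMonoidHom :=
    le_antisymm (by rw [h12]; exact hSD₂) hD₁S
  rw [hSeq]
  exact hD₁

/-- **`C_P(Q)` and defect groups of the block of `C_G(Q)` below a maximal Brauer pair** -/
theorem centralizer_defectGroup [Fintype G] {p : ℕ} [hp : Fact p.Prime]
    (hM : Cfsg.IsPModular p M) (B : Set (Cfsg.IrrCharacter G)) (P Q : Subgroup G)
    (e : Set (Cfsg.IrrCharacter (Subgroup.centralizer (P : Set G))))
    (f : Set (Cfsg.IrrCharacter (Subgroup.centralizer (Q : Set G))))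
    (hmax : Cfsg.IsMaximalBrauerPair p M B P e) (hQP : Q ≤ P)
    (hle : Cfsg.SubpairLE p M Q f P e) :
    (∃ D : Subgroup (Subgroup.centralizer (Q : Set G)), Cfsg.IsDefectGroup p M f D ∧
      (P ⊓ Subgroup.centralizer (Q : Set G)).subgroupOf (Subgroup.centralizer (Q : Set G)) ≤ D) ∧
    ∃ x : G, Cfsg.SubpairLE p M (Q.map (MulAut.conj x).toMonoidHom) (Cfsg.conjBlock Q x f) P e ∧
      Cfsg.IsDefectGroup p M (Cfsg.conjBlock Q x f)
        ((P ⊓ Subgroup.centralizer ((Q.map (MulAut.conj x).toMonoidHom) : Set G)).subgroupOf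
          (Subgroup.centralizer ((Q.map (MulAut.conj x).toMonoidHom) : Set G))) := by
  classical
  haveI : Fintype (Subgroup.centralizer (Q : Set G)) := Fintype.ofFinite _
  have hPe : Cfsg.IsBrauerPair p M P e := hmax.1.1
  have hP : IsPGroup p P := hPe.1
  have hQ : IsPGroup p Q := hP.to_le hQP
  obtain ⟨D, ε, hmaxD, hSD⟩ := exists_maximal_centralizer_pair hM P Q e f hPe hQP hle
  have hDdef := isDefectGroup_of_isMaximalBrauerPair hM f D ε hmaxD
  refine ⟨⟨D, hDdef, hSD⟩, ?_⟩
  have hn := isNormalSubpair_up (M := M) Q hQ D f ε hmaxD.1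
  have hBQ : Cfsg.IsBrauerPairOf p M B Q f := isBrauerPairOf_of_subpairLE hM P Q e f hle B hmax.1
  exact centralizer_defectGroup_aux hM B P Q e f hmax hBQ D hDdef _ _ hn le_sup_right

end Cfsg.Agent.Helper6
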