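import Mathlib
import Cfsg.Prelude.Def_Characters
import Cfsg.Prelude.Def_Blocks
import Cfsg.Prelude.Def_BlockLocal
import Cfsg.Prelude.Def_BrauerPairs
import Cfsg.Agent.Helper6.CentDefect
import Cfsg.Agent.Helper6.StabilizerBlock

/-!
# The stabilizer of a Brauer pair in the normalizer
-/

set_option autoImplicit false
set_option linter.style.haveILetI false

namespace Cfsg.Agent.Helper6

open scoped ComplexConjugate

universe u

variable {G : Type u} [Group G] {M : Ideal Cfsg.AlgInt}

/-- conjugating a pair twice, explicit form -/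
theorem conjPair_conjPair' (y z : G) (Q : Subgroup G)
    (f : Set (Cfsg.IrrCharacter (Subgroup.centralizer (Q : Set G)))) :
    (⟨(Q.map (MulAut.conj z).toMonoidHom).map (MulAut.conj y).toMonoidHom,
      Cfsg.conjBlock (Q.map (MulAut.conj z).toMonoidHom) y (Cfsg.conjBlock Q z f)⟩ :
        Cfsg.BrauerPairIdx G) =
      ⟨Q.map (MulAut.conj (y * z)).toMonoidHom, Cfsg.conjBlock Q (y * z) f⟩ := by
  have hA : (Q.map (MulAut.conj z).toMonoidHom).map (MulAut.conj y).toMonoidHom =
      Q.map (MulAut.conj (y * z)).toMonoidHom := by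
    rw [Subgroup.map_map]
    congr 1
    ext w
    simp [MulAut.conj_apply, mul_assoc]
  apply brauerPairIdx_ext _ _ _ _ hA
  intro ξ ξ' hag
  constructor
  · rintro ⟨η, ⟨θ, hθ, h2⟩, h1⟩
    refine ⟨θ, hθ, fun d c'' hc => ?_⟩
    have hc''mem : (c'' : G) ∈ Subgroup.centralizer
        (((Q.map (MulAut.conj z).toMonoidHom).map (MulAut.conj y).toMonoidHom : Subgroup G) :
          Set G) := by
      rw [hA]; exact c''.2
    rw [← hag ⟨(c'' : G), hc''mem⟩ c'' rfl]
    refine (h1 (centConjEquiv Q z d) ⟨(c'' : G), hc''mem⟩ ?_).trans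
      (h2 d (centConjEquiv Q z d) rfl)
    show (c'' : G) = y * (z * (d : G) * z⁻¹) * y⁻¹
    rw [hc]; group
  · rintro ⟨θ, hθ, h1⟩
    refine ⟨irrComp (centConjEquiv Q z).symm θ, ?_, fun c c' hc => ?_⟩
    · rw [conjBlock_eq_image]
      exact ⟨θ, hθ, rfl⟩
    · have hc'mem : (c' : G) ∈ Subgroup.centralizer
          ((Q.map (MulAut.conj (y * z)).toMonoidHom : Subgroup G) : Set G) := by
        rw [← hA]; exact c'.2
      rw [hag c' ⟨(c' : G), hc'mem⟩ rfl, irrComp_apply]
      apply h1
      show (c' : G) = y * z * (z⁻¹ * (c : G) * z) * (y * z)⁻¹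
      rw [hc]; group

/-- conjugating a pair twice -/
theorem conjPair_conjPair (y z : G) (a : Cfsg.BrauerPairIdx G) :
    conjPair y (conjPair z a) = conjPair (y * z) a := by
  obtain ⟨Q, f⟩ := a
  exact conjPair_conjPair' y z Q f

/-- conjugating a pair by an element normalizing its subgroup -/
theorem conjPair_of_mem_normalizer (R : Subgroup G)
    (g : Set (Cfsg.IrrCharacter (Subgroup.centralizer (R : Set G)))) (n : G)
    (hn : n ∈ Subgroup.normalizer (R : Set G))
    (hnC : n ∈ Subgroup.normalizer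
      ((Subgroup.centralizer (R : Set G) : Subgroup G) : Set G)) :
    conjPair n ⟨R, g⟩ =
      (⟨R, nconjIrr (Subgroup.centralizer (R : Set G)) n hnC '' g⟩ : Cfsg.BrauerPairIdx G) := by
  have hA : R.map (MulAut.conj n).toMonoidHom = R :=
    Subgroup.mem_normalizer_iff_map_conj_eq.mp hn
  show (⟨R.map (MulAut.conj n).toMonoidHom, Cfsg.conjBlock R n g⟩ : Cfsg.BrauerPairIdx G) = _
  apply brauerPairIdx_ext _ _ _ _ hA
  intro ξ ξ' hag
  constructor
  · rintro ⟨η, hη, h1⟩
    refine ⟨η, hη, ?_⟩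
    apply Subtype.ext
    funext c''
    rw [nconjIrr_apply]
    have hmem : (c'' : G) ∈ Subgroup.centralizer
        ((R.map (MulAut.conj n).toMonoidHom : Subgroup G) : Set G) := by
      rw [hA]; exact c''.2
    rw [← hag ⟨(c'' : G), hmem⟩ c'' rfl]
    symm
    apply h1
    rw [coe_nconjHom]
    show (c'' : G) = n * (n⁻¹ * (c'' : G) * n) * n⁻¹
    group
  · rintro ⟨η, hη, rfl⟩
    refine ⟨η, hη, fun c c' hc => ?_⟩
    have key : Subgroup.centralizer
        ((R.map (MulAut.conj n).toMonoidHom : Subgroup G) : Set G) =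
        Subgroup.centralizer (R : Set G) := by rw [hA]
    have hmem : (c' : G) ∈ Subgroup.centralizer (R : Set G) := by
      rw [← key]; exact c'.2
    rw [hag c' ⟨(c' : G), hmem⟩ rfl, nconjIrr_apply]
    refine congrArg (η : Subgroup.centralizer (R : Set G) → ℂ) ?_
    apply Subtype.ext
    rw [coe_nconjHom]
    show n⁻¹ * (c' : G) * n = c
    rw [hc]; group

/-- elements of `P` fix the pair `(P, e)` -/
theorem conjPair_of_mem (P : Subgroup G)
    (e : Set (Cfsg.IrrCharacter (Subgroup.centralizer (P : Set G)))) (u : G) (hu : u ∈ P) :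
    conjPair u ⟨P, e⟩ = (⟨P, e⟩ : Cfsg.BrauerPairIdx G) := by
  have hn : u ∈ Subgroup.normalizer (P : Set G) := Subgroup.le_normalizer hu
  have hnC := normalizer_le_normalizer_centralizer P hn
  rw [conjPair_of_mem_normalizer P e u hn hnC]
  have : nconjIrr (Subgroup.centralizer (P : Set G)) u hnC '' e = e := by
    have h1 : ∀ χ : Cfsg.IrrCharacter (Subgroup.centralizer (P : Set G)),
        nconjIrr (Subgroup.centralizer (P : Set G)) u hnC χ = χ := by
      intro χ
      apply Subtype.ext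
      funext k
      rw [nconjIrr_apply]
      refine congrArg (χ : Subgroup.centralizer (P : Set G) → ℂ) ?_
      apply Subtype.ext
      rw [coe_nconjHom]
      have hc : u * (k : G) = (k : G) * u := Subgroup.mem_centralizer_iff.mp k.2 u hu
      rw [mul_assoc, ← hc, inv_mul_cancel_left]
    ext χ
    constructor
    · rintro ⟨η, hη, rfl⟩
      rw [h1]; exact hη
    · intro hχ
      exact ⟨χ, hχ, h1 χ⟩
  rw [this]

/-- **`N_P(Q)` stabilizes the block `f` with `(Q, f) ≤ (P, e)`** -/
theorem stabilizesBlock_of_subpairLE [Fintype G] {p : ℕ} [hp : Fact p.Prime]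
    (hM : Cfsg.IsPModular p M) (P Q : Subgroup G)
    (e : Set (Cfsg.IrrCharacter (Subgroup.centralizer (P : Set G))))
    (f : Set (Cfsg.IrrCharacter (Subgroup.centralizer (Q : Set G))))
    (hPe : Cfsg.IsBrauerPair p M P e) (hQP : Q ≤ P)
    (hle : Cfsg.SubpairLE p M Q f P e) (u : G) (hu : u ∈ P)
    (hun : u ∈ Subgroup.normalizer (Q : Set G)) :
    Cfsg.StabilizesBlock (Subgroup.centralizer (Q : Set G)) f u := by
  have hnC := normalizer_le_normalizer_centralizer Q hun
  have h1 := reflTransGen_conjPair (M := M) (p := p) u ⟨Q, f⟩ ⟨P, e⟩ hle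
  rw [conjPair_of_mem P e u hu, conjPair_of_mem_normalizer Q f u hun hnC] at h1
  have h2 : nconjIrr (Subgroup.centralizer (Q : Set G)) u hnC '' f = f :=
    subpairLE_unique hM _ P Q e hPe hQP rfl _ f h1 hle
  refine ⟨hnC, fun χ hχ => ⟨nconjIrr (Subgroup.centralizer (Q : Set G)) u hnC χ, ?_,
    isConjCharOf_nconjIrr _ u hnC χ⟩⟩
  rw [← h2]
  exact ⟨χ, hχ, rfl⟩

/-- the centralizer in `T` of a subgroup `D` of `T` is the centralizer in `G` of its image, when
the latter lies in `T` -/
def centMapEquiv (T : Subgroup G) (D : Subgroup T)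
    (hC : Subgroup.centralizer ((D.map T.subtype : Subgroup G) : Set G) ≤ T) :
    Subgroup.centralizer (D : Set T) ≃*
      Subgroup.centralizer ((D.map T.subtype : Subgroup G) : Set G) where
  toFun c := ⟨((c : T) : G), by
    rw [Subgroup.mem_centralizer_iff]
    rintro _ ⟨s, hs, rfl⟩
    exact congrArg Subtype.val (Subgroup.mem_centralizer_iff.mp c.2 s hs)⟩
  invFun c := ⟨⟨(c : G), hC c.2⟩, by
    rw [Subgroup.mem_centralizer_iff]
    intro s hs
    apply Subtype.ext
    exact Subgroup.mem_centralizer_iff.mp c.2 (s : G) ⟨s, hs, rfl⟩⟩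
  left_inv c := Subtype.ext (Subtype.ext rfl)
  right_inv c := Subtype.ext rfl
  map_mul' a b := Subtype.ext rfl

theorem coe_centMapEquiv (T : Subgroup G) (D : Subgroup T)
    (hC : Subgroup.centralizer ((D.map T.subtype : Subgroup G) : Set G) ≤ T)
    (c : Subgroup.centralizer (D : Set T)) :
    ((centMapEquiv T D hC c : Subgroup.centralizer
      ((D.map T.subtype : Subgroup G) : Set G)) : G) = ((c : T) : G) := rfl

theorem coe_centMapEquiv_symm (T : Subgroup G) (D : Subgroup T)
    (hC : Subgroup.centralizer ((D.map T.subtype : Subgroup G) : Set G) ≤ T)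
    (c : Subgroup.centralizer ((D.map T.subtype : Subgroup G) : Set G)) :
    ((((centMapEquiv T D hC).symm c : Subgroup.centralizer (D : Set T)) : T) : G) = (c : G) := rfl

/-- an `F`-Brauer pair of `T` on `D ≥ Q`, where the idempotent of `F` is that of the `T`-stable
block `f` of `C_G(Q)`, gives a pair of `G` normally above `(Q, f)` -/
theorem isNormalSubpair_of_stabilizer_pair [Finite G] {p : ℕ} (Q T : Subgroup G)
    (f : Set (Cfsg.IrrCharacter (Subgroup.centralizer (Q : Set G))))
    (hQf : Cfsg.IsBrauerPair p M Q f)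
    (hTN : T ≤ Subgroup.normalizer (Q : Set G))
    (hst : ∀ x ∈ T, Cfsg.StabilizesBlock (Subgroup.centralizer (Q : Set G)) f x)
    (F : Set (Cfsg.IrrCharacter T))
    (hcoef : ∀ t : T, Cfsg.blockCoeff F t =
      Cfsg.subgroupBlockCoeff (Subgroup.centralizer (Q : Set G)) f (t : G))
    (D : Subgroup T) (ε : Set (Cfsg.IrrCharacter (Subgroup.centralizer (D : Set T))))
    (hpair : Cfsg.IsBrauerPairOf p M F D ε)
    (hQD : Q ≤ D.map T.subtype)
    (hC : Subgroup.centralizer ((D.map T.subtype : Subgroup G) : Set G) ≤ T) :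
    Cfsg.IsNormalSubpair p M Q f (D.map T.subtype)
      (irrComp (centMapEquiv T D hC).symm '' ε) := by
  obtain ⟨⟨hD, hε⟩, hF, hΩ⟩ := hpair
  have hDT : D.map T.subtype ≤ T := by
    rintro _ ⟨s, -, rfl⟩
    exact s.2
  refine ⟨hQf, ⟨hD.map _, ?_⟩, hQD, hDT.trans hTN, fun x hx => hst x (hDT hx), ?_⟩
  · obtain ⟨ζ, rfl⟩ := hε
    exact ⟨_, image_irrComp_blockOf _ ζ⟩
  · rintro _ ⟨ξ, hξ, rfl⟩
    have h1 := hΩ ξ hξ
    rw [← brauerOmega_transport D _ (centMapEquiv T D hC).symm (Cfsg.blockCoeff F)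
      (Cfsg.subgroupBlockCoeff (Subgroup.centralizer (Q : Set G)) f)
      (fun c' => by
        rw [← coe_centMapEquiv_symm T D hC c', hcoef])] at h1
    exact h1

end Cfsg.Agent.Helper6
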