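import Mathlib
import Cfsg.Prelude.Def_Characters
import Cfsg.Prelude.Def_Blocks
import Cfsg.Prelude.Def_BlockLocal
import Cfsg.Prelude.Def_BrauerPairs
import Cfsg.Agent.Helper6.StabPairs

/-!
# Normalizers in a maximal Brauer pair and defect groups of the stabilizer block
-/

set_option autoImplicit false
set_option linter.style.haveILetI false

namespace Cfsg.Agent.Helper6

open scoped ComplexConjugate

universe u

variable {G : Type u} [Group G] {M : Ideal Cfsg.AlgInt}

/-- below a Brauer pair `(P, e)`, with `(Q, f) ≤ (P, e)` and `T` the stabilizer of `f` in `N_G(Q)`: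
the idempotent of `f` is a block idempotent of `T`, and `N_P(Q)` is contained in a maximal Brauer
pair of that block -/
theorem exists_maximal_stabilizer_pair [Fintype G] {p : ℕ} [hp : Fact p.Prime]
    (hM : Cfsg.IsPModular p M) (P Q : Subgroup G)
    (e : Set (Cfsg.IrrCharacter (Subgroup.centralizer (P : Set G))))
    (f : Set (Cfsg.IrrCharacter (Subgroup.centralizer (Q : Set G))))
    (hPe : Cfsg.IsBrauerPair p M P e) (hQP : Q ≤ P) (hf : Cfsg.IsPBlock M f)
    (hle : Cfsg.SubpairLE p M Q f P e) (T : Subgroup G)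
    (hT : ∀ y : G, y ∈ T ↔ y ∈ Subgroup.normalizer (Q : Set G) ∧
      Cfsg.StabilizesBlock (Subgroup.centralizer (Q : Set G)) f y) :
    ∃ F : Set (Cfsg.IrrCharacter T), Cfsg.IsPBlock M F ∧
      (∀ t : T, Cfsg.blockCoeff F t =
        Cfsg.subgroupBlockCoeff (Subgroup.centralizer (Q : Set G)) f (t : G)) ∧
      ∃ (D : Subgroup T) (ε : Set (Cfsg.IrrCharacter (Subgroup.centralizer (D : Set T)))),
        Cfsg.IsMaximalBrauerPair p M F D ε ∧
          (P ⊓ Subgroup.normalizer (Q : Set G)).subgroupOf T ≤ D := by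
  classical
  haveI : Fintype T := Fintype.ofFinite _
  have hP : IsPGroup p P := hPe.1
  have hQ : IsPGroup p Q := hP.to_le hQP
  have hQT : Q ≤ T := fun q hq =>
    (hT q).mpr ⟨Subgroup.le_normalizer hq, stabilizesBlock_of_mem Q f q hq⟩
  have hCT : Subgroup.centralizer (Q : Set G) ≤ T := fun c hc =>
    (hT c).mpr ⟨Subgroup.centralizer_le_normalizer _ hc,
      stabilizesBlock_of_mem_centralizer Q f c hc⟩
  have hTN : T ≤ Subgroup.normalizer (Q : Set G) := fun y hy => ((hT y).mp hy).1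
  have hst : ∀ x ∈ T, Cfsg.StabilizesBlock (Subgroup.centralizer (Q : Set G)) f x :=
    fun y hy => ((hT y).mp hy).2
  obtain ⟨F, hF, -, hcoef⟩ := exists_block_of_stable hM Q T hQ hQT hCT hTN f hf hst
  have hRT : P ⊓ Subgroup.normalizer (Q : Set G) ≤ T := fun u hu =>
    (hT u).mpr ⟨hu.2, stabilizesBlock_of_subpairLE hM P Q e f hPe hQP hle u hu.1 hu.2⟩
  have hQR : Q ≤ P ⊓ Subgroup.normalizer (Q : Set G) := le_inf hQP Subgroup.le_normalizer
  have hRP : P ⊓ Subgroup.normalizer (Q : Set G) ≤ P := inf_le_left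
  have hRN : P ⊓ Subgroup.normalizer (Q : Set G) ≤ Subgroup.normalizer (Q : Set G) :=
    inf_le_right
  obtain ⟨eR, hfR, hleR⟩ := exists_subpairLE hM _ P _ e hPe hRP rfl
  have hRp := hP.to_le hRP
  obtain ⟨f₀, hf₀, -⟩ := existsUnique_isNormalSubpair hM _ Q eR ⟨hRp, hfR⟩ hQR hRN
  have hstep : Cfsg.NormalSubpairRel p M (⟨Q, f₀⟩ : Cfsg.BrauerPairIdx G) ⟨_, eR⟩ := hf₀
  have hle₀ : Cfsg.SubpairLE p M Q f₀ P e := Relation.ReflTransGen.head hstep hleR
  have hff : f₀ = f := subpairLE_unique hM _ P Q e hPe hQP rfl f₀ f hle₀ hle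
  rw [hff] at hf₀
  have hCRT : Subgroup.centralizer ((P ⊓ Subgroup.normalizer (Q : Set G) : Subgroup G) : Set G) ≤
      T := by
    refine le_trans (Subgroup.centralizer_le ?_) hCT
    exact_mod_cast hQR
  have hpair : Cfsg.IsBrauerPairOf p M F
      ((P ⊓ Subgroup.normalizer (Q : Set G)).subgroupOf T)
      (localBlock T (P ⊓ Subgroup.normalizer (Q : Set G)) hRT hCRT eR) := by
    refine ⟨⟨hRp.comap_subtype, isPBlock_localBlock T _ hRT hCRT eR hfR⟩, hF, ?_⟩
    rintro _ ⟨ξ, hξ, rfl⟩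
    have h1 := hf₀.2.2.2.2.2 ξ hξ
    rw [← brauerOmega_transport _ ((P ⊓ Subgroup.normalizer (Q : Set G)).subgroupOf T)
      (centSubEquiv T _ hRT hCRT)
      (Cfsg.subgroupBlockCoeff (Subgroup.centralizer (Q : Set G)) f) (Cfsg.blockCoeff F)
      (fun c' => by
        rw [coe_centSubEquiv]
        exact hcoef (c' : T))] at h1
    exact h1
  obtain ⟨D, ε, hle', hmax'⟩ := exists_isMaximalBrauerPair_ge (M := M) (p := p) F _ _ _ hpair rfl
  exact ⟨F, hF, hcoef, D, ε, hmax', SubpairLE.le hle'⟩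

theorem map_conj_map_conj (y z : G) (Q : Subgroup G) :
    (Q.map (MulAut.conj z).toMonoidHom).map (MulAut.conj y).toMonoidHom =
      Q.map (MulAut.conj (y * z)).toMonoidHom := by
  rw [Subgroup.map_map]
  congr 1
  ext w
  simp [MulAut.conj_apply, mul_assoc]

/-- **`N_P(Q)` and defect groups of the block of the stabilizer below a maximal Brauer pair** -/
theorem stabilizer_defectGroup [Fintype G] {p : ℕ} [hp : Fact p.Prime]
    (hM : Cfsg.IsPModular p M) (B : Set (Cfsg.IrrCharacter G)) (P Q : Subgroup G)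
    (e : Set (Cfsg.IrrCharacter (Subgroup.centralizer (P : Set G))))
    (f : Set (Cfsg.IrrCharacter (Subgroup.centralizer (Q : Set G))))
    (hmax : Cfsg.IsMaximalBrauerPair p M B P e) (hQP : Q ≤ P) (hf : Cfsg.IsPBlock M f)
    (hle : Cfsg.SubpairLE p M Q f P e) :
    ∃ x : G, Cfsg.SubpairLE p M (Q.map (MulAut.conj x).toMonoidHom) (Cfsg.conjBlock Q x f) P e ∧
      ∀ (T' : Subgroup G), (∀ y : G, y ∈ T' ↔
        y ∈ Subgroup.normalizer ((Q.map (MulAut.conj x).toMonoidHom) : Set G) ∧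
        Cfsg.StabilizesBlock
          (Subgroup.centralizer ((Q.map (MulAut.conj x).toMonoidHom) : Set G))
          (Cfsg.conjBlock Q x f) y) →
      ∃ F' : Set (Cfsg.IrrCharacter T'), Cfsg.IsPBlock M F' ∧
        (∀ t : T', Cfsg.blockCoeff F' t = Cfsg.subgroupBlockCoeff
          (Subgroup.centralizer ((Q.map (MulAut.conj x).toMonoidHom) : Set G))
          (Cfsg.conjBlock Q x f) (t : G)) ∧
        Cfsg.IsDefectGroup p M F'
          ((P ⊓ Subgroup.normalizer
            ((Q.map (MulAut.conj x).toMonoidHom) : Set G)).subgroupOf T') := by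
  classical
  have hPe : Cfsg.IsBrauerPair p M P e := hmax.1.1
  have hP : IsPGroup p P := hPe.1
  have hBQ : Cfsg.IsBrauerPairOf p M B Q f := isBrauerPairOf_of_subpairLE hM P Q e f hle B hmax.1
  obtain ⟨z₀, hz₀⟩ := exists_conj_subpairLE hM B P Q e f hmax hBQ
  -- choose `z` with `N_P(zQz⁻¹)` as large as possible
  obtain ⟨z, hzmem, hzmax⟩ := Finset.exists_max_image
    (Finset.univ.filter (fun z : G => Cfsg.SubpairLE p M (Q.map (MulAut.conj z).toMonoidHom)
      (Cfsg.conjBlock Q z f) P e))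
    (fun z => Nat.card (P ⊓ Subgroup.normalizer
      ((Q.map (MulAut.conj z).toMonoidHom : Subgroup G) : Set G) : Subgroup G))
    ⟨z₀, by rw [Finset.mem_filter]; exact ⟨Finset.mem_univ _, hz₀⟩⟩
  have hz : Cfsg.SubpairLE p M (Q.map (MulAut.conj z).toMonoidHom) (Cfsg.conjBlock Q z f) P e :=
    (Finset.mem_filter.mp hzmem).2
  refine ⟨z, hz, fun T' hT' => ?_⟩
  haveI : Fintype T' := Fintype.ofFinite _
  have hQzP : Q.map (MulAut.conj z).toMonoidHom ≤ P := SubpairLE.le hz
  have hQz : IsPGroup p (Q.map (MulAut.conj z).toMonoidHom : Subgroup G) := hP.to_le hQzP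
  have hfz : Cfsg.IsPBlock M (Cfsg.conjBlock Q z f) := isPBlock_conjBlock Q z f hf
  obtain ⟨F', hF', hcoef', D, ε, hmaxD, hRD⟩ := exists_maximal_stabilizer_pair hM P
    (Q.map (MulAut.conj z).toMonoidHom) e (Cfsg.conjBlock Q z f) hPe hQzP hfz hz T' hT'
  refine ⟨F', hF', hcoef', ?_⟩
  have hDdef := isDefectGroup_of_isMaximalBrauerPair hM F' D ε hmaxD
  have hQT' : Q.map (MulAut.conj z).toMonoidHom ≤ T' := fun q hq =>
    (hT' q).mpr ⟨Subgroup.le_normalizer hq, stabilizesBlock_of_mem _ _ q hq⟩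
  have hCT' : Subgroup.centralizer
      ((Q.map (MulAut.conj z).toMonoidHom : Subgroup G) : Set G) ≤ T' := fun c hc =>
    (hT' c).mpr ⟨Subgroup.centralizer_le_normalizer _ hc,
      stabilizesBlock_of_mem_centralizer _ _ c hc⟩
  have hT'N : T' ≤ Subgroup.normalizer
      ((Q.map (MulAut.conj z).toMonoidHom : Subgroup G) : Set G) := fun y hy => ((hT' y).mp hy).1
  have hst' : ∀ x ∈ T', Cfsg.StabilizesBlock (Subgroup.centralizer
      ((Q.map (MulAut.conj z).toMonoidHom : Subgroup G) : Set G)) (Cfsg.conjBlock Q z f) x :=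
    fun y hy => ((hT' y).mp hy).2
  have hRT' : P ⊓ Subgroup.normalizer
      ((Q.map (MulAut.conj z).toMonoidHom : Subgroup G) : Set G) ≤ T' := fun u hu =>
    (hT' u).mpr ⟨hu.2, stabilizesBlock_of_subpairLE hM P _ e _ hPe hQzP hz u hu.1 hu.2⟩
  have hQD : Q.map (MulAut.conj z).toMonoidHom ≤ D.map T'.subtype := by
    intro q hq
    have h1 : q ∈ P ⊓ Subgroup.normalizer
        ((Q.map (MulAut.conj z).toMonoidHom : Subgroup G) : Set G) :=
      ⟨hQzP hq, Subgroup.le_normalizer hq⟩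
    have h2 : (⟨q, hQT' hq⟩ : T') ∈ D := hRD (by
      rw [Subgroup.mem_subgroupOf]; exact h1)
    exact ⟨⟨q, hQT' hq⟩, h2, rfl⟩
  have hC : Subgroup.centralizer ((D.map T'.subtype : Subgroup G) : Set G) ≤ T' := by
    refine le_trans (Subgroup.centralizer_le ?_) hCT'
    exact_mod_cast hQD
  have hn2 := isNormalSubpair_of_stabilizer_pair (M := M) (p := p)
    (Q.map (MulAut.conj z).toMonoidHom) T' (Cfsg.conjBlock Q z f) ⟨hQz, hfz⟩ hT'N hst' F' hcoef'
    D ε hmaxD.1 hQD hC
  have hBQz : Cfsg.IsBrauerPairOf p M B (Q.map (MulAut.conj z).toMonoidHom)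
      (Cfsg.conjBlock Q z f) := isBrauerPairOf_of_subpairLE hM P _ e _ hz B hmax.1
  have hBD : Cfsg.IsBrauerPairOf p M B (D.map T'.subtype)
      (irrComp (centMapEquiv T' D hC).symm '' ε) :=
    (isBrauerPairOf_iff_of_subpairLE hM _ _ _ _ hn2.2.1 hn2.1
      (Relation.ReflTransGen.single hn2) B).mpr hBQz
  obtain ⟨y, hy⟩ := exists_conj_subpairLE hM B P _ e _ hmax hBD
  have hny := isNormalSubpair_conj _ _ _ _ y hn2
  have hstepy : Cfsg.NormalSubpairRel p M
      (⟨(Q.map (MulAut.conj z).toMonoidHom).map (MulAut.conj y).toMonoidHom,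
        Cfsg.conjBlock (Q.map (MulAut.conj z).toMonoidHom) y (Cfsg.conjBlock Q z f)⟩ :
          Cfsg.BrauerPairIdx G)
      ⟨(D.map T'.subtype).map (MulAut.conj y).toMonoidHom,
        Cfsg.conjBlock (D.map T'.subtype) y (irrComp (centMapEquiv T' D hC).symm '' ε)⟩ := hny
  have hley : Relation.ReflTransGen (Cfsg.NormalSubpairRel p M)
      (⟨(Q.map (MulAut.conj z).toMonoidHom).map (MulAut.conj y).toMonoidHom,
        Cfsg.conjBlock (Q.map (MulAut.conj z).toMonoidHom) y (Cfsg.conjBlock Q z f)⟩ :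
          Cfsg.BrauerPairIdx G) ⟨P, e⟩ := Relation.ReflTransGen.head hstepy hy
  rw [conjPair_conjPair' y z Q f] at hley
  have hyzmem : y * z ∈ Finset.univ.filter (fun z : G =>
      Cfsg.SubpairLE p M (Q.map (MulAut.conj z).toMonoidHom) (Cfsg.conjBlock Q z f) P e) := by
    rw [Finset.mem_filter]; exact ⟨Finset.mem_univ _, hley⟩
  have h1 := hzmax (y * z) hyzmem
  -- `D` conjugated by `y` lies in `N_P((yz)Q(yz)⁻¹)`
  have hDy : (D.map T'.subtype).map (MulAut.conj y).toMonoidHom ≤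
      P ⊓ Subgroup.normalizer
        ((Q.map (MulAut.conj (y * z)).toMonoidHom : Subgroup G) : Set G) := by
    refine le_inf (SubpairLE.le hy) ?_
    have := hny.2.2.2.1
    rw [map_conj_map_conj] at this
    exact this
  have hcard : Nat.card D ≤ Nat.card ((P ⊓ Subgroup.normalizer
      ((Q.map (MulAut.conj z).toMonoidHom : Subgroup G) : Set G)).subgroupOf T') := by
    rw [Nat.card_congr (Subgroup.subgroupOfEquivOfLe hRT').toEquiv]
    refine le_trans ?_ h1
    refine le_trans ?_ (Subgroup.card_le_of_le hDy)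
    rw [Subgroup.card_map_of_injective (MulAut.conj y).injective,
      Subgroup.card_map_of_injective (Subgroup.subtype_injective _)]
  have hEq : (P ⊓ Subgroup.normalizer
      ((Q.map (MulAut.conj z).toMonoidHom : Subgroup G) : Set G)).subgroupOf T' = D :=
    Subgroup.eq_of_le_of_card_ge hRD hcard
  rw [hEq]
  exact hDdef

end Cfsg.Agent.Helper6
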