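import Mathlib
import Cfsg.Prelude.Def_Characters
import Cfsg.Prelude.Def_Blocks
import Cfsg.Prelude.Def_BlockLocal
import Cfsg.Prelude.Def_BrauerPairs
import Cfsg.Prelude.Def_FusionSystem
import Cfsg.Prelude.Def_BlockFusion
import Cfsg.Agent.Helper6.StabDefect

/-!
# Fully centralized and centric subgroups in the fusion system of a block
-/

set_option autoImplicit false
set_option linter.style.haveILetI false

namespace Cfsg.Agent.Helper6

open scoped ComplexConjugate

universe u

variable {G : Type u} [Group G] {M : Ideal Cfsg.AlgInt}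

theorem card_comap_mulEquiv {K K' : Type*} [Group K] [Group K'] (φ : K ≃* K')
    (D : Subgroup K') : Nat.card (D.comap φ.toMonoidHom) = Nat.card D := by
  rw [Subgroup.comap_equiv_eq_map_symm', Subgroup.card_map_of_injective φ.symm.injective]

theorem range_conjHom (Q : Subgroup G) (g : G) :
    (Cfsg.conjHom Q g).range = Q.map (MulAut.conj g).toMonoidHom := by
  ext w
  constructor
  · rintro ⟨u, rfl⟩
    exact ⟨(u : G), u.2, rfl⟩
  · rintro ⟨u, hu, rfl⟩
    exact ⟨⟨u, hu⟩, rfl⟩

/-- conjugacy in the fusion system of a block -/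
theorem blockFusion_isConj_iff [Fintype G] {p : ℕ} [hp : Fact p.Prime]
    (hM : Cfsg.IsPModular p M) (B : Set (Cfsg.IrrCharacter G)) (P : Subgroup G)
    (e : Set (Cfsg.IrrCharacter (Subgroup.centralizer (P : Set G))))
    (F : Cfsg.FusionSystem P) (hF : Cfsg.IsBlockFusionSystemOn p M B P e F) (Q : Subgroup G)
    (f : Set (Cfsg.IrrCharacter (Subgroup.centralizer (Q : Set G)))) (hQP : Q ≤ P)
    (hle : Cfsg.SubpairLE p M Q f P e) (Q' : Subgroup G) :
    F.IsConj Q Q' ↔ ∃ g : G, Q' = Q.map (MulAut.conj g).toMonoidHom ∧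
      Cfsg.SubpairLE p M (Q.map (MulAut.conj g).toMonoidHom) (Cfsg.conjBlock Q g f) P e := by
  have hPe : Cfsg.IsBrauerPair p M P e := hF.1.1.1
  constructor
  · rintro ⟨φ, hφ, hrange⟩
    obtain ⟨-, g, hφg, -, f', hle', hleg⟩ := (hF.2 Q φ).mp hφ
    have hff : f' = f := subpairLE_unique hM _ P Q e hPe hQP rfl f' f hle' hle
    rw [hff] at hleg
    refine ⟨g, ?_, hleg⟩
    rw [← hrange]
    ext w
    constructor
    · rintro ⟨u, rfl⟩
      exact ⟨(u : G), u.2, (hφg u).symm⟩
    · rintro ⟨u, hu, rfl⟩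
      exact ⟨⟨u, hu⟩, hφg ⟨u, hu⟩⟩
  · rintro ⟨g, rfl, hleg⟩
    refine ⟨Cfsg.conjHom Q g, ?_, range_conjHom Q g⟩
    exact (hF.2 Q _).mpr ⟨hQP, g, fun u => rfl, SubpairLE.le hleg, f, hle, hleg⟩

/-- the defect groups of a conjugate block have the same order -/
theorem exists_isDefectGroup_conjBlock_card [Finite G] {p : ℕ} [hp : Fact p.Prime]
    (Q : Subgroup G) (x : G)
    (f : Set (Cfsg.IrrCharacter (Subgroup.centralizer (Q : Set G))))
    (D : Subgroup (Subgroup.centralizer (Q : Set G))) (hD : Cfsg.IsDefectGroup p M f D) :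
    ∃ D' : Subgroup (Subgroup.centralizer
        ((Q.map (MulAut.conj x).toMonoidHom : Subgroup G) : Set G)),
      Cfsg.IsDefectGroup p M (Cfsg.conjBlock Q x f) D' ∧ Nat.card D' = Nat.card D := by
  have h1 := isDefectGroup_comap_mulEquiv (M := M) (p := p) (centConjEquiv Q x).symm f D hD
  rw [← conjBlock_eq_image] at h1
  exact ⟨_, h1, card_comap_mulEquiv _ D⟩

/-- **fully centralized subgroups of the fusion system of a block** -/
theorem isFullyCentralized_iff [Fintype G] {p : ℕ} [hp : Fact p.Prime]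
    (hM : Cfsg.IsPModular p M) (B : Set (Cfsg.IrrCharacter G)) (P : Subgroup G)
    (e : Set (Cfsg.IrrCharacter (Subgroup.centralizer (P : Set G))))
    (hmax : Cfsg.IsMaximalBrauerPair p M B P e)
    (F : Cfsg.FusionSystem P) (hF : Cfsg.IsBlockFusionSystemOn p M B P e F) (Q : Subgroup G)
    (f : Set (Cfsg.IrrCharacter (Subgroup.centralizer (Q : Set G)))) (hQP : Q ≤ P)
    (hf : Cfsg.IsPBlock M f) (hle : Cfsg.SubpairLE p M Q f P e) :
    F.IsFullyCentralized Q ↔ Cfsg.IsDefectGroup p M f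
      ((P ⊓ Subgroup.centralizer (Q : Set G)).subgroupOf (Subgroup.centralizer (Q : Set G))) := by
  classical
  have hPe : Cfsg.IsBrauerPair p M P e := hmax.1.1
  have hcardS : ∀ R : Subgroup G, Nat.card ((P ⊓ Subgroup.centralizer (R : Set G)).subgroupOf
      (Subgroup.centralizer (R : Set G))) =
      Nat.card (P ⊓ Subgroup.centralizer (R : Set G) : Subgroup G) := fun R =>
    Nat.card_congr (Subgroup.subgroupOfEquivOfLe inf_le_right).toEquiv
  constructor
  · intro hfc
    obtain ⟨⟨D, hD, hSD⟩, x, hlex, hDx⟩ := centralizer_defectGroup hM B P Q e f hmax hQP hle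
    obtain ⟨D', hD', hcard'⟩ := exists_isDefectGroup_conjBlock_card (M := M) (p := p) Q x f D hD
    have hfx : Cfsg.IsPBlock M (Cfsg.conjBlock Q x f) := isPBlock_conjBlock Q x f hf
    have hc1 := card_defectGroup hM.2.1 p hM.2.2 _ hfx _ hD'
    have hc2 := card_defectGroup hM.2.1 p hM.2.2 _ hfx _ hDx
    have hconj : F.IsConj Q (Q.map (MulAut.conj x).toMonoidHom) :=
      (blockFusion_isConj_iff hM B P e F hF Q f hQP hle _).mpr ⟨x, rfl, hlex⟩
    have h3 := hfc.2 _ hconj
    have h4 : Nat.card D ≤ Nat.card ((P ⊓ Subgroup.centralizer (Q : Set G)).subgroupOf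
        (Subgroup.centralizer (Q : Set G))) := by
      rw [hcardS Q, ← hcard', hc1, ← hc2, hcardS]
      exact h3
    rw [Subgroup.eq_of_le_of_card_ge hSD h4]
    exact hD
  · intro hdef
    refine ⟨hQP, fun Q' hconj => ?_⟩
    obtain ⟨g, rfl, hleg⟩ := (blockFusion_isConj_iff hM B P e F hF Q f hQP hle Q').mp hconj
    haveI : Fintype (Subgroup.centralizer
      ((Q.map (MulAut.conj g).toMonoidHom : Subgroup G) : Set G)) := Fintype.ofFinite _
    obtain ⟨Dg, εg, hmaxg, hSg⟩ := exists_maximal_centralizer_pair hM P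
      (Q.map (MulAut.conj g).toMonoidHom) e (Cfsg.conjBlock Q g f) hPe (SubpairLE.le hleg) hleg
    have hDg := isDefectGroup_of_isMaximalBrauerPair hM _ Dg εg hmaxg
    obtain ⟨D', hD', hcard'⟩ := exists_isDefectGroup_conjBlock_card (M := M) (p := p) Q g f _ hdef
    have hfg : Cfsg.IsPBlock M (Cfsg.conjBlock Q g f) := isPBlock_conjBlock Q g f hf
    have hc1 := card_defectGroup hM.2.1 p hM.2.2 _ hfg _ hD'
    have hc2 := card_defectGroup hM.2.1 p hM.2.2 _ hfg _ hDg
    show Nat.card (P ⊓ Subgroup.centralizer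
      ((Q.map (MulAut.conj g).toMonoidHom : Subgroup G) : Set G) : Subgroup G) ≤
      Nat.card (P ⊓ Subgroup.centralizer (Q : Set G) : Subgroup G)
    rw [← hcardS, ← hcardS Q, ← hcard', hc1, ← hc2]
    exact Subgroup.card_le_of_le hSg

end Cfsg.Agent.Helper6
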