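import Mathlib
import Cfsg.Prelude.Def_Characters
import Cfsg.Prelude.Def_Blocks
import Cfsg.Prelude.Def_BlockLocal
import Cfsg.Prelude.Def_BrauerPairs
import Cfsg.Prelude.Def_FusionSystem
import Cfsg.Prelude.Def_BlockFusion
import Cfsg.Agent.Helper6.FusionCentralized

/-!
# Centric subgroups in the fusion system of a block
-/

set_option autoImplicit false
set_option linter.style.haveILetI false

namespace Cfsg.Agent.Helper6

open scoped ComplexConjugate

universe u

variable {G : Type u} [Group G] {M : Ideal Cfsg.AlgInt}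

theorem mem_map_conj_iff (Q : Subgroup G) (x c : G) :
    x * c * x⁻¹ ∈ Q.map (MulAut.conj x).toMonoidHom ↔ c ∈ Q := by
  constructor
  · rintro ⟨u, hu, h⟩
    have : u = c := by
      have h' : x * u * x⁻¹ = x * c * x⁻¹ := h
      exact mul_left_cancel (mul_right_cancel h')
    rwa [← this]
  · intro hc
    exact ⟨c, hc, rfl⟩

/-- the centre of `Q` read in `C_G(Q)` is carried by conjugation to that of `xQx⁻¹` -/
theorem center_comap_centConjEquiv (Q : Subgroup G) (x : G) :
    ((Q.map (MulAut.conj x).toMonoidHom ⊓ Subgroup.centralizer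
        ((Q.map (MulAut.conj x).toMonoidHom : Subgroup G) : Set G)).subgroupOf
      (Subgroup.centralizer ((Q.map (MulAut.conj x).toMonoidHom : Subgroup G) : Set G))).comap
        (centConjEquiv Q x).toMonoidHom =
      (Q ⊓ Subgroup.centralizer (Q : Set G)).subgroupOf (Subgroup.centralizer (Q : Set G)) := by
  ext c
  rw [Subgroup.mem_comap, Subgroup.mem_subgroupOf, Subgroup.mem_subgroupOf]
  show ((centConjEquiv Q x c : _) : G) ∈ _ ↔ _
  rw [coe_centConjEquiv, Subgroup.mem_inf, Subgroup.mem_inf, mem_map_conj_iff]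
  constructor
  · rintro ⟨h1, -⟩
    exact ⟨h1, c.2⟩
  · rintro ⟨h1, -⟩
    exact ⟨h1, (centConjEquiv Q x c).2⟩

theorem center_comap_centConjEquiv_symm (Q : Subgroup G) (x : G) :
    ((Q ⊓ Subgroup.centralizer (Q : Set G)).subgroupOf
      (Subgroup.centralizer (Q : Set G))).comap (centConjEquiv Q x).symm.toMonoidHom =
    (Q.map (MulAut.conj x).toMonoidHom ⊓ Subgroup.centralizer
        ((Q.map (MulAut.conj x).toMonoidHom : Subgroup G) : Set G)).subgroupOf
      (Subgroup.centralizer ((Q.map (MulAut.conj x).toMonoidHom : Subgroup G) : Set G)) := by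
  rw [← center_comap_centConjEquiv Q x, Subgroup.comap_comap]
  have : (centConjEquiv Q x).toMonoidHom.comp (centConjEquiv Q x).symm.toMonoidHom =
      MonoidHom.id _ := by
    apply MonoidHom.ext
    intro c
    exact (centConjEquiv Q x).apply_symm_apply c
  rw [this, Subgroup.comap_id]

theorem image_irrComp_conjBlock (Q : Subgroup G) (x : G)
    (f : Set (Cfsg.IrrCharacter (Subgroup.centralizer (Q : Set G)))) :
    irrComp (centConjEquiv Q x) '' Cfsg.conjBlock Q x f = f := by
  rw [conjBlock_eq_image, Set.image_image]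
  have : (fun θ => irrComp (centConjEquiv Q x) (irrComp (centConjEquiv Q x).symm θ)) = id := by
    funext θ
    exact irrComp_symm_cancel (centConjEquiv Q x) θ
  rw [this, Set.image_id]

/-- **centric subgroups of the fusion system of a block** -/
theorem isCentric_iff [Fintype G] {p : ℕ} [hp : Fact p.Prime]
    (hM : Cfsg.IsPModular p M) (B : Set (Cfsg.IrrCharacter G)) (P : Subgroup G)
    (e : Set (Cfsg.IrrCharacter (Subgroup.centralizer (P : Set G))))
    (hmax : Cfsg.IsMaximalBrauerPair p M B P e)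
    (F : Cfsg.FusionSystem P) (hF : Cfsg.IsBlockFusionSystemOn p M B P e F) (Q : Subgroup G)
    (f : Set (Cfsg.IrrCharacter (Subgroup.centralizer (Q : Set G)))) (hQP : Q ≤ P)
    (hf : Cfsg.IsPBlock M f) (hle : Cfsg.SubpairLE p M Q f P e) :
    F.IsCentric Q ↔ Cfsg.IsDefectGroup p M f
      ((Q ⊓ Subgroup.centralizer (Q : Set G)).subgroupOf (Subgroup.centralizer (Q : Set G))) := by
  classical
  have hPe : Cfsg.IsBrauerPair p M P e := hmax.1.1
  constructor
  · intro hcen
    obtain ⟨-, x, hlex, hDx⟩ := centralizer_defectGroup hM B P Q e f hmax hQP hle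
    have hconj : F.IsConj Q (Q.map (MulAut.conj x).toMonoidHom) :=
      (blockFusion_isConj_iff hM B P e F hF Q f hQP hle _).mpr ⟨x, rfl, hlex⟩
    have h1 : P ⊓ Subgroup.centralizer ((Q.map (MulAut.conj x).toMonoidHom : Subgroup G) : Set G) ≤
        Q.map (MulAut.conj x).toMonoidHom := hcen.2 _ hconj
    have hQxP : Q.map (MulAut.conj x).toMonoidHom ≤ P := SubpairLE.le hlex
    have h2 : P ⊓ Subgroup.centralizer
        ((Q.map (MulAut.conj x).toMonoidHom : Subgroup G) : Set G) =
        Q.map (MulAut.conj x).toMonoidHom ⊓ Subgroup.centralizer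
          ((Q.map (MulAut.conj x).toMonoidHom : Subgroup G) : Set G) :=
      le_antisymm (le_inf h1 inf_le_right) (inf_le_inf_right _ hQxP)
    rw [h2] at hDx
    have h3 := isDefectGroup_comap_mulEquiv (M := M) (p := p) (centConjEquiv Q x) _ _ hDx
    rw [image_irrComp_conjBlock, center_comap_centConjEquiv] at h3
    exact h3
  · intro hdef
    refine ⟨hQP, fun Q' hconj => ?_⟩
    obtain ⟨g, rfl, hleg⟩ := (blockFusion_isConj_iff hM B P e F hF Q f hQP hle Q').mp hconj
    haveI : Fintype (Subgroup.centralizer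
      ((Q.map (MulAut.conj g).toMonoidHom : Subgroup G) : Set G)) := Fintype.ofFinite _
    have hQgP : Q.map (MulAut.conj g).toMonoidHom ≤ P := SubpairLE.le hleg
    obtain ⟨Dg, εg, hmaxg, hSg⟩ := exists_maximal_centralizer_pair hM P
      (Q.map (MulAut.conj g).toMonoidHom) e (Cfsg.conjBlock Q g f) hPe hQgP hleg
    have hDg := isDefectGroup_of_isMaximalBrauerPair hM _ Dg εg hmaxg
    have hZ := isDefectGroup_comap_mulEquiv (M := M) (p := p) (centConjEquiv Q g).symm f _ hdef
    rw [← conjBlock_eq_image, center_comap_centConjEquiv_symm] at hZ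
    have hfg : Cfsg.IsPBlock M (Cfsg.conjBlock Q g f) := isPBlock_conjBlock Q g f hf
    have hc1 := card_defectGroup hM.2.1 p hM.2.2 _ hfg _ hZ
    have hc2 := card_defectGroup hM.2.1 p hM.2.2 _ hfg _ hDg
    have hZS : (Q.map (MulAut.conj g).toMonoidHom ⊓ Subgroup.centralizer
        ((Q.map (MulAut.conj g).toMonoidHom : Subgroup G) : Set G)).subgroupOf
        (Subgroup.centralizer ((Q.map (MulAut.conj g).toMonoidHom : Subgroup G) : Set G)) ≤
        (P ⊓ Subgroup.centralizer
          ((Q.map (MulAut.conj g).toMonoidHom : Subgroup G) : Set G)).subgroupOf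
        (Subgroup.centralizer ((Q.map (MulAut.conj g).toMonoidHom : Subgroup G) : Set G)) := by
      intro c hc
      rw [Subgroup.mem_subgroupOf] at hc ⊢
      exact ⟨hQgP hc.1, hc.2⟩
    have hEq := Subgroup.eq_of_le_of_card_ge (hZS.trans hSg) (by rw [hc1, hc2])
    intro u hu
    have h1 : (⟨u, hu.2⟩ : Subgroup.centralizer
        ((Q.map (MulAut.conj g).toMonoidHom : Subgroup G) : Set G)) ∈ Dg := hSg (by
      rw [Subgroup.mem_subgroupOf]; exact hu)
    rw [← hEq, Subgroup.mem_subgroupOf] at h1
    exact h1.1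

end Cfsg.Agent.Helper6
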