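import Mathlib
import Cfsg.Prelude.Def_Characters
import Cfsg.Prelude.Def_Blocks
import Cfsg.Prelude.Def_BlockLocal
import Cfsg.Prelude.Def_BrauerPairs
import Cfsg.Prelude.Def_FusionSystem
import Cfsg.Prelude.Def_BlockFusion
import Cfsg.Agent.Helper6.FusionCentric

/-!
# Fully normalized subgroups in the fusion system of a block
-/

set_option autoImplicit false
set_option linter.style.haveILetI false

namespace Cfsg.Agent.Helper6

open scoped ComplexConjugate

universe u

variable {G : Type u} [Group G] {M : Ideal Cfsg.AlgInt}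

/-- conjugating a pair by the identity -/
theorem conjPair_one' (Q : Subgroup G)
    (f : Set (Cfsg.IrrCharacter (Subgroup.centralizer (Q : Set G)))) :
    (⟨Q.map (MulAut.conj (1 : G)).toMonoidHom, Cfsg.conjBlock Q 1 f⟩ : Cfsg.BrauerPairIdx G) =
      ⟨Q, f⟩ := by
  have h1 : (1 : G) ∈ Subgroup.normalizer (Q : Set G) := Subgroup.one_mem _
  have h2 : (1 : G) ∈ Subgroup.normalizer
      ((Subgroup.centralizer (Q : Set G) : Subgroup G) : Set G) := Subgroup.one_mem _
  have h3 := conjPair_of_mem_normalizer Q f 1 h1 h2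
  have h4 : nconjIrr (Subgroup.centralizer (Q : Set G)) 1 h2 '' f = f := by
    have : nconjIrr (Subgroup.centralizer (Q : Set G)) 1 h2 = id := by
      funext χ
      exact nconjIrr_one _ h2 χ
    rw [this, Set.image_id]
  rw [h4] at h3
  exact h3

/-- a pair normally above `(Q, f)` whose subgroup lies in the stabilizer `T` of `f` gives a Brauer
pair, in `T`, of any block of `T` with the idempotent of `f` -/
theorem isBrauerPairOf_stabilizer_of_isNormalSubpair [Finite G] {p : ℕ} (Q R T : Subgroup G)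
    (f : Set (Cfsg.IrrCharacter (Subgroup.centralizer (Q : Set G))))
    (eR : Set (Cfsg.IrrCharacter (Subgroup.centralizer (R : Set G))))
    (hn : Cfsg.IsNormalSubpair p M Q f R eR) (hRT : R ≤ T)
    (hCRT : Subgroup.centralizer (R : Set G) ≤ T)
    (F : Set (Cfsg.IrrCharacter T)) (hF : Cfsg.IsPBlock M F)
    (hcoef : ∀ t : T, Cfsg.blockCoeff F t =
      Cfsg.subgroupBlockCoeff (Subgroup.centralizer (Q : Set G)) f (t : G)) :
    Cfsg.IsBrauerPairOf p M F (R.subgroupOf T) (localBlock T R hRT hCRT eR) := by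
  refine ⟨⟨hn.2.1.1.comap_subtype, isPBlock_localBlock T R hRT hCRT eR hn.2.1.2⟩, hF, ?_⟩
  rintro _ ⟨ξ, hξ, rfl⟩
  have h1 := hn.2.2.2.2.2 ξ hξ
  rw [← brauerOmega_transport R (R.subgroupOf T) (centSubEquiv T R hRT hCRT)
    (Cfsg.subgroupBlockCoeff (Subgroup.centralizer (Q : Set G)) f) (Cfsg.blockCoeff F)
    (fun c' => by
      rw [coe_centSubEquiv]
      exact hcoef (c' : T))] at h1
  exact h1

/-- if `N_P(Q)` is as large as possible among the conjugates of `(Q, f)` below `(P, e)`, it is a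
defect group of the block of the stabilizer -/
theorem stabilizer_defectGroup_of_max [Fintype G] {p : ℕ} [hp : Fact p.Prime]
    (hM : Cfsg.IsPModular p M) (B : Set (Cfsg.IrrCharacter G)) (P Q : Subgroup G)
    (e : Set (Cfsg.IrrCharacter (Subgroup.centralizer (P : Set G))))
    (f : Set (Cfsg.IrrCharacter (Subgroup.centralizer (Q : Set G))))
    (hmax : Cfsg.IsMaximalBrauerPair p M B P e) (hQP : Q ≤ P) (hf : Cfsg.IsPBlock M f)
    (hle : Cfsg.SubpairLE p M Q f P e)
    (hmaxN : ∀ y : G, Cfsg.SubpairLE p M (Q.map (MulAut.conj y).toMonoidHom)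
      (Cfsg.conjBlock Q y f) P e →
      Nat.card (P ⊓ Subgroup.normalizer
        ((Q.map (MulAut.conj y).toMonoidHom : Subgroup G) : Set G) : Subgroup G) ≤
      Nat.card (P ⊓ Subgroup.normalizer (Q : Set G) : Subgroup G))
    (T : Subgroup G)
    (hT : ∀ y : G, y ∈ T ↔ y ∈ Subgroup.normalizer (Q : Set G) ∧
      Cfsg.StabilizesBlock (Subgroup.centralizer (Q : Set G)) f y) :
    ∃ F' : Set (Cfsg.IrrCharacter T), Cfsg.IsPBlock M F' ∧
      (∀ t : T, Cfsg.blockCoeff F' t =
        Cfsg.subgroupBlockCoeff (Subgroup.centralizer (Q : Set G)) f (t : G)) ∧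
      Cfsg.IsDefectGroup p M F' ((P ⊓ Subgroup.normalizer (Q : Set G)).subgroupOf T) := by
  classical
  haveI : Fintype T := Fintype.ofFinite _
  have hPe : Cfsg.IsBrauerPair p M P e := hmax.1.1
  have hP : IsPGroup p P := hPe.1
  have hQ : IsPGroup p Q := hP.to_le hQP
  obtain ⟨F', hF', hcoef', D, ε, hmaxD, hRD⟩ := exists_maximal_stabilizer_pair hM P Q e f hPe hQP
    hf hle T hT
  refine ⟨F', hF', hcoef', ?_⟩
  have hDdef := isDefectGroup_of_isMaximalBrauerPair hM F' D ε hmaxD
  have hQT : Q ≤ T := fun q hq =>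
    (hT q).mpr ⟨Subgroup.le_normalizer hq, stabilizesBlock_of_mem _ _ q hq⟩
  have hCT : Subgroup.centralizer (Q : Set G) ≤ T := fun c hc =>
    (hT c).mpr ⟨Subgroup.centralizer_le_normalizer _ hc,
      stabilizesBlock_of_mem_centralizer _ _ c hc⟩
  have hTN : T ≤ Subgroup.normalizer (Q : Set G) := fun y hy => ((hT y).mp hy).1
  have hst : ∀ x ∈ T, Cfsg.StabilizesBlock (Subgroup.centralizer (Q : Set G)) f x :=
    fun y hy => ((hT y).mp hy).2
  have hRT : P ⊓ Subgroup.normalizer (Q : Set G) ≤ T := fun u hu =>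
    (hT u).mpr ⟨hu.2, stabilizesBlock_of_subpairLE hM P _ e _ hPe hQP hle u hu.1 hu.2⟩
  have hQD : Q ≤ D.map T.subtype := by
    intro q hq
    have h1 : q ∈ P ⊓ Subgroup.normalizer (Q : Set G) := ⟨hQP hq, Subgroup.le_normalizer hq⟩
    have h2 : (⟨q, hQT hq⟩ : T) ∈ D := hRD (by
      rw [Subgroup.mem_subgroupOf]; exact h1)
    exact ⟨⟨q, hQT hq⟩, h2, rfl⟩
  have hC : Subgroup.centralizer ((D.map T.subtype : Subgroup G) : Set G) ≤ T := by
    refine le_trans (Subgroup.centralizer_le ?_) hCT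
    exact_mod_cast hQD
  have hn2 := isNormalSubpair_of_stabilizer_pair (M := M) (p := p) Q T f ⟨hQ, hf⟩ hTN hst F' hcoef'
    D ε hmaxD.1 hQD hC
  have hBQ : Cfsg.IsBrauerPairOf p M B Q f := isBrauerPairOf_of_subpairLE hM P _ e _ hle B hmax.1
  have hBD : Cfsg.IsBrauerPairOf p M B (D.map T.subtype)
      (irrComp (centMapEquiv T D hC).symm '' ε) :=
    (isBrauerPairOf_iff_of_subpairLE hM _ _ _ _ hn2.2.1 hn2.1
      (Relation.ReflTransGen.single hn2) B).mpr hBQ
  obtain ⟨y, hy⟩ := exists_conj_subpairLE hM B P _ e _ hmax hBD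
  have hny := isNormalSubpair_conj _ _ _ _ y hn2
  have hstepy : Cfsg.NormalSubpairRel p M
      (⟨Q.map (MulAut.conj y).toMonoidHom, Cfsg.conjBlock Q y f⟩ : Cfsg.BrauerPairIdx G)
      ⟨(D.map T.subtype).map (MulAut.conj y).toMonoidHom,
        Cfsg.conjBlock (D.map T.subtype) y (irrComp (centMapEquiv T D hC).symm '' ε)⟩ := hny
  have hley : Cfsg.SubpairLE p M (Q.map (MulAut.conj y).toMonoidHom) (Cfsg.conjBlock Q y f) P e :=
    Relation.ReflTransGen.head hstepy hy
  have h1 := hmaxN y hley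
  have hDy : (D.map T.subtype).map (MulAut.conj y).toMonoidHom ≤
      P ⊓ Subgroup.normalizer
        ((Q.map (MulAut.conj y).toMonoidHom : Subgroup G) : Set G) :=
    le_inf (SubpairLE.le hy) hny.2.2.2.1
  have hcard : Nat.card D ≤ Nat.card ((P ⊓ Subgroup.normalizer (Q : Set G)).subgroupOf T) := by
    rw [Nat.card_congr (Subgroup.subgroupOfEquivOfLe hRT).toEquiv]
    refine le_trans ?_ h1
    refine le_trans ?_ (Subgroup.card_le_of_le hDy)
    rw [Subgroup.card_map_of_injective (MulAut.conj y).injective,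
      Subgroup.card_map_of_injective (Subgroup.subtype_injective _)]
  rw [Subgroup.eq_of_le_of_card_ge hRD hcard]
  exact hDdef

/-- **fully normalized subgroups of the fusion system of a block** -/
theorem isFullyNormalized_iff [Fintype G] {p : ℕ} [hp : Fact p.Prime]
    (hM : Cfsg.IsPModular p M) (B : Set (Cfsg.IrrCharacter G)) (P : Subgroup G)
    (e : Set (Cfsg.IrrCharacter (Subgroup.centralizer (P : Set G))))
    (hmax : Cfsg.IsMaximalBrauerPair p M B P e)
    (F : Cfsg.FusionSystem P) (hF : Cfsg.IsBlockFusionSystemOn p M B P e F) (Q : Subgroup G)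
    (f : Set (Cfsg.IrrCharacter (Subgroup.centralizer (Q : Set G)))) (hQP : Q ≤ P)
    (hf : Cfsg.IsPBlock M f) (hle : Cfsg.SubpairLE p M Q f P e) (T : Subgroup G)
    (hT : ∀ y : G, y ∈ T ↔ y ∈ Subgroup.normalizer (Q : Set G) ∧
      Cfsg.StabilizesBlock (Subgroup.centralizer (Q : Set G)) f y) :
    F.IsFullyNormalized Q ↔ ∃ F' : Set (Cfsg.IrrCharacter T), Cfsg.IsPBlock M F' ∧
      (∀ t : T, Cfsg.blockCoeff F' t =
        Cfsg.subgroupBlockCoeff (Subgroup.centralizer (Q : Set G)) f (t : G)) ∧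
      Cfsg.IsDefectGroup p M F' ((P ⊓ Subgroup.normalizer (Q : Set G)).subgroupOf T) := by
  classical
  haveI : Fintype T := Fintype.ofFinite _
  have hPe : Cfsg.IsBrauerPair p M P e := hmax.1.1
  have hP : IsPGroup p P := hPe.1
  constructor
  · intro hfn
    apply stabilizer_defectGroup_of_max hM B P Q e f hmax hQP hf hle _ T hT
    intro y hley
    exact hfn.2 _ ((blockFusion_isConj_iff hM B P e F hF Q f hQP hle _).mpr ⟨y, rfl, hley⟩)
  · rintro ⟨F', hF', hcoef, hdef⟩
    refine ⟨hQP, fun Q' hconj => ?_⟩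
    obtain ⟨g, rfl, hleg⟩ := (blockFusion_isConj_iff hM B P e F hF Q f hQP hle Q').mp hconj
    have hQgP : Q.map (MulAut.conj g).toMonoidHom ≤ P := SubpairLE.le hleg
    -- the pair on `N_P(gQg⁻¹)`
    have hRP : P ⊓ Subgroup.normalizer
        ((Q.map (MulAut.conj g).toMonoidHom : Subgroup G) : Set G) ≤ P := inf_le_left
    obtain ⟨eR, hfR, hleR⟩ := exists_subpairLE hM _ P _ e hPe hRP rfl
    have hRp := hP.to_le hRP
    obtain ⟨f₀, hf₀, -⟩ := existsUnique_isNormalSubpair hM _
      (Q.map (MulAut.conj g).toMonoidHom) eR ⟨hRp, hfR⟩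
      (le_inf hQgP Subgroup.le_normalizer) inf_le_right
    have hstep : Cfsg.NormalSubpairRel p M
        (⟨Q.map (MulAut.conj g).toMonoidHom, f₀⟩ : Cfsg.BrauerPairIdx G) ⟨_, eR⟩ := hf₀
    have hle₀ : Cfsg.SubpairLE p M (Q.map (MulAut.conj g).toMonoidHom) f₀ P e :=
      Relation.ReflTransGen.head hstep hleR
    have hff : f₀ = Cfsg.conjBlock Q g f :=
      subpairLE_unique hM _ P _ e hPe hQgP rfl f₀ _ hle₀ hleg
    rw [hff] at hf₀
    -- conjugate back by `g⁻¹`
    have hback := isNormalSubpair_conj _ _ _ _ g⁻¹ hf₀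
    have hback' : Cfsg.NormalSubpairRel p M
        (⟨(Q.map (MulAut.conj g).toMonoidHom).map (MulAut.conj g⁻¹).toMonoidHom,
          Cfsg.conjBlock (Q.map (MulAut.conj g).toMonoidHom) g⁻¹ (Cfsg.conjBlock Q g f)⟩ :
            Cfsg.BrauerPairIdx G)
        ⟨(P ⊓ Subgroup.normalizer
          ((Q.map (MulAut.conj g).toMonoidHom : Subgroup G) : Set G)).map
            (MulAut.conj g⁻¹).toMonoidHom,
          Cfsg.conjBlock _ g⁻¹ eR⟩ := hback
    rw [conjPair_conjPair' g⁻¹ g Q f, inv_mul_cancel, conjPair_one'] at hback'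
    have hn : Cfsg.IsNormalSubpair p M Q f
        ((P ⊓ Subgroup.normalizer
          ((Q.map (MulAut.conj g).toMonoidHom : Subgroup G) : Set G)).map
            (MulAut.conj g⁻¹).toMonoidHom) (Cfsg.conjBlock _ g⁻¹ eR) := hback'
    have hR'T : (P ⊓ Subgroup.normalizer
          ((Q.map (MulAut.conj g).toMonoidHom : Subgroup G) : Set G)).map
            (MulAut.conj g⁻¹).toMonoidHom ≤ T := fun u hu =>
      (hT u).mpr ⟨hn.2.2.2.1 hu, hn.2.2.2.2.1 u hu⟩
    have hCT : Subgroup.centralizer (Q : Set G) ≤ T := fun c hc =>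
      (hT c).mpr ⟨Subgroup.centralizer_le_normalizer _ hc,
        stabilizesBlock_of_mem_centralizer _ _ c hc⟩
    have hCR'T : Subgroup.centralizer (((P ⊓ Subgroup.normalizer
          ((Q.map (MulAut.conj g).toMonoidHom : Subgroup G) : Set G)).map
            (MulAut.conj g⁻¹).toMonoidHom : Subgroup G) : Set G) ≤ T := by
      refine le_trans (Subgroup.centralizer_le ?_) hCT
      exact_mod_cast hn.2.2.1
    have hpair := isBrauerPairOf_stabilizer_of_isNormalSubpair (M := M) (p := p) Q _ T f _ hn hR'T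
      hCR'T F' hF' hcoef
    have h1 := card_le_of_isBrauerPairOf hM F' _ _ hpair
    rw [Nat.card_congr (Subgroup.subgroupOfEquivOfLe hR'T).toEquiv,
      Subgroup.card_map_of_injective (MulAut.conj g⁻¹).injective] at h1
    have hRT : P ⊓ Subgroup.normalizer (Q : Set G) ≤ T := fun u hu =>
      (hT u).mpr ⟨hu.2, stabilizesBlock_of_subpairLE hM P _ e _ hPe hQP hle u hu.1 hu.2⟩
    have h2 := card_defectGroup hM.2.1 p hM.2.2 F' hF' _ hdef
    rw [Nat.card_congr (Subgroup.subgroupOfEquivOfLe hRT).toEquiv] at h2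
    show Nat.card (P ⊓ Subgroup.normalizer
      ((Q.map (MulAut.conj g).toMonoidHom : Subgroup G) : Set G) : Subgroup G) ≤
      Nat.card (P ⊓ Subgroup.normalizer (Q : Set G) : Subgroup G)
    rw [h2]
    exact h1

end Cfsg.Agent.Helper6
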