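import Mathlib
import Cfsg.Prelude.Def_Characters
import Cfsg.Prelude.Def_Blocks
import Cfsg.Prelude.Def_BlockLocal
import Cfsg.Prelude.Def_BrauerPairs
import Cfsg.Agent.Helper6.FusionNormalized

/-!
# Preparations for blocks with abelian defect groups: stabilizers of pairs
-/

set_option autoImplicit false
set_option linter.style.haveILetI false

namespace Cfsg.Agent.Helper6

open scoped ComplexConjugate

universe u

variable {G : Type u} [Group G] {M : Ideal Cfsg.AlgInt}

/-- an inclusion of pairs with the smaller subgroup normal in the larger is a normal inclusion -/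
theorem isNormalSubpair_of_subpairLE_of_le_normalizer [Fintype G] {p : ℕ} [hp : Fact p.Prime]
    (hM : Cfsg.IsPModular p M) (P Q : Subgroup G)
    (e : Set (Cfsg.IrrCharacter (Subgroup.centralizer (P : Set G))))
    (f : Set (Cfsg.IrrCharacter (Subgroup.centralizer (Q : Set G))))
    (hPe : Cfsg.IsBrauerPair p M P e) (hQP : Q ≤ P)
    (hPN : P ≤ Subgroup.normalizer (Q : Set G))
    (hle : Cfsg.SubpairLE p M Q f P e) : Cfsg.IsNormalSubpair p M Q f P e := by
  obtain ⟨f₀, hf₀, -⟩ := existsUnique_isNormalSubpair hM P Q e hPe hQP hPN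
  have hle₀ : Cfsg.SubpairLE p M Q f₀ P e := Relation.ReflTransGen.single hf₀
  have hff : f₀ = f := subpairLE_unique hM _ P Q e hPe hQP rfl f₀ f hle₀ hle
  rw [hff] at hf₀
  exact hf₀

/-- a block stabilized by `x` is mapped onto itself by `x` -/
theorem image_nconjIrr_eq_of_stabilizesBlock (hM : M.IsMaximal) (K : Subgroup G)
    (f : Set (Cfsg.IrrCharacter K)) (hf : Cfsg.IsPBlock M f) (x : G)
    (hx : x ∈ Subgroup.normalizer (K : Set G)) (hst : Cfsg.StabilizesBlock K f x) :
    nconjIrr K x hx '' f = f := by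
  obtain ⟨ζ, rfl⟩ := hf
  rw [image_nconjIrr_blockOf]
  have h1 : nconjIrr K x hx ζ ∈ Cfsg.blockOf M (ζ : K → ℂ) :=
    nconjIrr_mem_of_stabilizes K _ x hst ζ (mem_blockOf_self hM ζ)
  exact (blockOf_eq_of_sameBlock hM h1).symm

/-- an element normalizing `Q` and stabilizing the block `f` fixes the pair `(Q, f)` -/
theorem conjPair_eq_self_of_stabilizes (hM : M.IsMaximal) (Q : Subgroup G)
    (f : Set (Cfsg.IrrCharacter (Subgroup.centralizer (Q : Set G)))) (hf : Cfsg.IsPBlock M f)
    (x : G) (hx : x ∈ Subgroup.normalizer (Q : Set G))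
    (hst : Cfsg.StabilizesBlock (Subgroup.centralizer (Q : Set G)) f x) :
    conjPair x ⟨Q, f⟩ = (⟨Q, f⟩ : Cfsg.BrauerPairIdx G) := by
  have hnC := normalizer_le_normalizer_centralizer Q hx
  rw [conjPair_of_mem_normalizer Q f x hx hnC,
    image_nconjIrr_eq_of_stabilizesBlock hM _ f hf x hnC hst]

/-- equal Brauer pair indices have matching members -/
theorem exists_agree_of_sigma_eq (A A' : Subgroup G)
    (f : Set (Cfsg.IrrCharacter (Subgroup.centralizer (A : Set G))))
    (f' : Set (Cfsg.IrrCharacter (Subgroup.centralizer (A' : Set G))))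
    (h : (⟨A, f⟩ : Cfsg.BrauerPairIdx G) = ⟨A', f'⟩) :
    A = A' ∧ ∀ ξ ∈ f, ∃ ξ' ∈ f', ∀ (c : Subgroup.centralizer (A : Set G))
      (c' : Subgroup.centralizer (A' : Set G)), (c : G) = (c' : G) →
        (ξ : Subgroup.centralizer (A : Set G) → ℂ) c =
          (ξ' : Subgroup.centralizer (A' : Set G) → ℂ) c' := by
  obtain ⟨h1, h2⟩ := Sigma.mk.inj_iff.mp h
  subst h1
  have h3 := eq_of_heq h2
  subst h3
  exact ⟨rfl, fun ξ hξ => ⟨ξ, hξ, fun c c' hc => by rw [Subtype.ext hc]⟩⟩

/-- if `P ≤ C_G(Q)` then the order of `P` is that of the defect groups of `f`, for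
`(Q, f) ≤ (P, e)` with `(P, e)` maximal -/
theorem card_eq_of_le_centralizer [Fintype G] {p : ℕ} [hp : Fact p.Prime]
    (hM : Cfsg.IsPModular p M) (B : Set (Cfsg.IrrCharacter G)) (P Q : Subgroup G)
    (e : Set (Cfsg.IrrCharacter (Subgroup.centralizer (P : Set G))))
    (f : Set (Cfsg.IrrCharacter (Subgroup.centralizer (Q : Set G))))
    (hmax : Cfsg.IsMaximalBrauerPair p M B P e) (hQP : Q ≤ P) (hf : Cfsg.IsPBlock M f)
    (hle : Cfsg.SubpairLE p M Q f P e) (hPH : P ≤ Subgroup.centralizer (Q : Set G)) :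
    Nat.card P = p ^ Cfsg.blockDefect p f := by
  classical
  haveI : Fintype (Subgroup.centralizer (Q : Set G)) := Fintype.ofFinite _
  obtain ⟨⟨D, hD, hSD⟩, x, hlex, hDx⟩ := centralizer_defectGroup hM B P Q e f hmax hQP hle
  obtain ⟨D', hD', hcard'⟩ := exists_isDefectGroup_conjBlock_card (M := M) (p := p) Q x f D hD
  have hfx : Cfsg.IsPBlock M (Cfsg.conjBlock Q x f) := isPBlock_conjBlock Q x f hf
  have hc1 := card_defectGroup hM.2.1 p hM.2.2 _ hfx _ hD'
  have hc2 := card_defectGroup hM.2.1 p hM.2.2 _ hfx _ hDx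
  have hc3 := card_defectGroup hM.2.1 p hM.2.2 _ hf _ hD
  have h1 : Nat.card ((P ⊓ Subgroup.centralizer (Q : Set G)).subgroupOf
      (Subgroup.centralizer (Q : Set G))) = Nat.card P := by
    rw [Nat.card_congr (Subgroup.subgroupOfEquivOfLe inf_le_right).toEquiv,
      inf_eq_left.mpr hPH]
  have h2 : Nat.card P ≤ Nat.card D := by
    rw [← h1]; exact Subgroup.card_le_of_le hSD
  have h3 : Nat.card D ≤ Nat.card P := by
    rw [← hcard', hc1, ← hc2,
      Nat.card_congr (Subgroup.subgroupOfEquivOfLe inf_le_right).toEquiv]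
    exact Subgroup.card_le_of_le inf_le_left
  rw [← hc3]
  exact le_antisymm h2 h3

end Cfsg.Agent.Helper6
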