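import Mathlib
import Cfsg.Prelude.Def_Characters
import Cfsg.Prelude.Def_Blocks
import Cfsg.Prelude.Def_BlockLocal
import Cfsg.Prelude.Def_BrauerPairs
import Cfsg.Agent.Helper6.AbelianInertial1

/-!
# Abelian defect groups: the stabilizer of a subpair is controlled by the stabilizer of the
maximal pair
-/

set_option autoImplicit false
set_option linter.style.haveILetI false

namespace Cfsg.Agent.Helper6

open scoped ComplexConjugate

universe u

variable {G : Type u} [Group G] {M : Ideal Cfsg.AlgInt}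

set_option maxHeartbeats 1000000 in
/-- **abelian defect groups**: an element stabilizing `(Q, f) ≤ (P, e)` is the product of an
element stabilizing `(P, e)` and an element of `C_G(Q)` -/
theorem exists_mul_of_stabilizes_abelian [Fintype G] {p : ℕ} [hp : Fact p.Prime]
    (hM : Cfsg.IsPModular p M) (B : Set (Cfsg.IrrCharacter G)) (P : Subgroup G)
    (e : Set (Cfsg.IrrCharacter (Subgroup.centralizer (P : Set G))))
    (hmax : Cfsg.IsMaximalBrauerPair p M B P e)
    (hab : ∀ x ∈ P, ∀ y ∈ P, x * y = y * x) (Q : Subgroup G)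
    (f : Set (Cfsg.IrrCharacter (Subgroup.centralizer (Q : Set G)))) (hQP : Q ≤ P)
    (hf : Cfsg.IsPBlock M f) (hle : Cfsg.SubpairLE p M Q f P e) (x : G)
    (hxN : x ∈ Subgroup.normalizer (Q : Set G))
    (hxst : Cfsg.StabilizesBlock (Subgroup.centralizer (Q : Set G)) f x) :
    ∃ y : G, y ∈ Subgroup.normalizer (P : Set G) ∧
      Cfsg.StabilizesBlock (Subgroup.centralizer (P : Set G)) e y ∧
      ∃ c ∈ Subgroup.centralizer (Q : Set G), x = y * c := by
  classical
  haveI : Fintype (Subgroup.centralizer (Q : Set G)) := Fintype.ofFinite _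
  have hPe : Cfsg.IsBrauerPair p M P e := hmax.1.1
  have hP : IsPGroup p P := hPe.1
  have hPH : P ≤ Subgroup.centralizer (Q : Set G) := fun u hu =>
    Subgroup.mem_centralizer_iff.mpr (fun q hq => hab q (hQP hq) u hu)
  have hCH : Subgroup.centralizer (P : Set G) ≤ Subgroup.centralizer (Q : Set G) :=
    Subgroup.centralizer_le (by exact_mod_cast hQP)
  have hPN : P ≤ Subgroup.normalizer (Q : Set G) :=
    hPH.trans (Subgroup.centralizer_le_normalizer _)
  have hn := isNormalSubpair_of_subpairLE_of_le_normalizer hM P Q e f hPe hQP hPN hle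
  have hcoef : ∀ t : Subgroup.centralizer (Q : Set G), Cfsg.blockCoeff f t =
      Cfsg.subgroupBlockCoeff (Subgroup.centralizer (Q : Set G)) f (t : G) :=
    fun t => (subgroupBlockCoeff_of_mem _ _ _ t.2).symm
  have hpair := isBrauerPairOf_stabilizer_of_isNormalSubpair (M := M) (p := p) Q P
    (Subgroup.centralizer (Q : Set G)) f e hn hPH hCH f hf hcoef
  have hcardP := card_eq_of_le_centralizer hM B P Q e f hmax hQP hf hle hPH
  have hmaxH : Cfsg.IsMaximalBrauerPair p M f (P.subgroupOf (Subgroup.centralizer (Q : Set G)))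
      (localBlock (Subgroup.centralizer (Q : Set G)) P hPH hCH e) :=
    isMaximalBrauerPair_of_card_eq hM f _ _ hpair (by
      rw [Nat.card_congr (Subgroup.subgroupOfEquivOfLe hPH).toEquiv]; exact hcardP)
  -- the conjugate pair
  have hlex0 := reflTransGen_conjPair (M := M) (p := p) x ⟨Q, f⟩ ⟨P, e⟩ hle
  rw [conjPair_eq_self_of_stabilizes hM.2.1 Q f hf x hxN hxst] at hlex0
  have hlex : Cfsg.SubpairLE p M Q f (P.map (MulAut.conj x).toMonoidHom)
      (Cfsg.conjBlock P x e) := hlex0
  have hQPx : Q ≤ P.map (MulAut.conj x).toMonoidHom := SubpairLE.le hlex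
  have hPxH : P.map (MulAut.conj x).toMonoidHom ≤ Subgroup.centralizer (Q : Set G) := by
    rintro _ ⟨u, hu, rfl⟩
    exact (conj_mem_centralizer_iff_of_mem_normalizer Q hxN u).mpr (hPH hu)
  have hPxe : Cfsg.IsBrauerPair p M (P.map (MulAut.conj x).toMonoidHom)
      (Cfsg.conjBlock P x e) := ⟨hP.map _, isPBlock_conjBlock P x e hPe.2⟩
  have hCxH : Subgroup.centralizer
      ((P.map (MulAut.conj x).toMonoidHom : Subgroup G) : Set G) ≤
      Subgroup.centralizer (Q : Set G) := Subgroup.centralizer_le (by exact_mod_cast hQPx)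
  have hnx := isNormalSubpair_of_subpairLE_of_le_normalizer hM _ Q _ f hPxe hQPx
    (hPxH.trans (Subgroup.centralizer_le_normalizer _)) hlex
  have hpairx := isBrauerPairOf_stabilizer_of_isNormalSubpair (M := M) (p := p) Q _
    (Subgroup.centralizer (Q : Set G)) f _ hnx hPxH hCxH f hf hcoef
  obtain ⟨c, hc⟩ := exists_conj_subpairLE hM f _ _ _ _ hmaxH hpairx
  have hfst : ((P.map (MulAut.conj x).toMonoidHom).subgroupOf
      (Subgroup.centralizer (Q : Set G))).map (MulAut.conj c).toMonoidHom =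
      P.subgroupOf (Subgroup.centralizer (Q : Set G)) :=
    Subgroup.eq_of_le_of_card_ge (SubpairLE.le hc) (by
      rw [Subgroup.card_map_of_injective (MulAut.conj c).injective,
        Nat.card_congr (Subgroup.subgroupOfEquivOfLe hPxH).toEquiv,
        Nat.card_congr (Subgroup.subgroupOfEquivOfLe hPH).toEquiv,
        Subgroup.card_map_of_injective (MulAut.conj x).injective])
  have hsig := eq_of_reflTransGen_of_fst_eq hM
    ⟨P.subgroupOf (Subgroup.centralizer (Q : Set G)),
      localBlock (Subgroup.centralizer (Q : Set G)) P hPH hCH e⟩ ⟨_, _⟩ hc hfst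
  obtain ⟨-, hag⟩ := exists_agree_of_sigma_eq _ _ _ _ hsig
  -- the element `y = c x`
  have hyP : ∀ u ∈ P, (c : G) * x * u * ((c : G) * x)⁻¹ ∈ P := by
    intro u hu
    have hw : x * u * x⁻¹ ∈ P.map (MulAut.conj x).toMonoidHom := ⟨u, hu, rfl⟩
    have h1 : (⟨x * u * x⁻¹, hPxH hw⟩ : Subgroup.centralizer (Q : Set G)) ∈
        (P.map (MulAut.conj x).toMonoidHom).subgroupOf (Subgroup.centralizer (Q : Set G)) :=
      Subgroup.mem_subgroupOf.mpr hw
    have h2 : c * (⟨x * u * x⁻¹, hPxH hw⟩ : Subgroup.centralizer (Q : Set G)) * c⁻¹ ∈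
        ((P.map (MulAut.conj x).toMonoidHom).subgroupOf
          (Subgroup.centralizer (Q : Set G))).map (MulAut.conj c).toMonoidHom :=
      ⟨_, h1, rfl⟩
    rw [hfst, Subgroup.mem_subgroupOf] at h2
    have e1 : ((c * (⟨x * u * x⁻¹, hPxH hw⟩ : Subgroup.centralizer (Q : Set G)) * c⁻¹ :
        Subgroup.centralizer (Q : Set G)) : G) = (c : G) * x * u * ((c : G) * x)⁻¹ := by
      show (c : G) * (x * u * x⁻¹) * (c : G)⁻¹ = _
      group
    rw [e1] at h2
    exact h2
  have hyN : (c : G) * x ∈ Subgroup.normalizer (P : Set G) := by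
    rw [Subgroup.mem_normalizer_iff_map_conj_eq]
    apply Subgroup.eq_of_le_of_card_ge
    · rintro _ ⟨u, hu, rfl⟩
      exact hyP u hu
    · rw [Subgroup.card_map_of_injective (MulAut.conj ((c : G) * x)).injective]
  have hyst : Cfsg.StabilizesBlock (Subgroup.centralizer (P : Set G)) e ((c : G) * x) := by
    refine ⟨normalizer_le_normalizer_centralizer P hyN, fun ξ hξ => ?_⟩
    have hξ₁ : irrComp (centConjEquiv P x).symm ξ ∈ Cfsg.conjBlock P x e := by
      rw [conjBlock_eq_image]; exact ⟨ξ, hξ, rfl⟩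
    have hξ₂ : irrComp (centSubEquiv (Subgroup.centralizer (Q : Set G)) _ hPxH hCxH)
        (irrComp (centConjEquiv P x).symm ξ) ∈
        localBlock (Subgroup.centralizer (Q : Set G)) _ hPxH hCxH (Cfsg.conjBlock P x e) :=
      ⟨_, hξ₁, rfl⟩
    have hξ₃ : irrComp (centConjEquiv ((P.map (MulAut.conj x).toMonoidHom).subgroupOf
        (Subgroup.centralizer (Q : Set G))) c).symm
        (irrComp (centSubEquiv (Subgroup.centralizer (Q : Set G)) _ hPxH hCxH)
          (irrComp (centConjEquiv P x).symm ξ)) ∈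
        Cfsg.conjBlock _ c
          (localBlock (Subgroup.centralizer (Q : Set G)) _ hPxH hCxH (Cfsg.conjBlock P x e)) := by
      rw [conjBlock_eq_image]; exact ⟨_, hξ₂, rfl⟩
    obtain ⟨ξ₄, hξ₄, hag4⟩ := hag _ hξ₃
    obtain ⟨ξ', hξ', rfl⟩ := hξ₄
    refine ⟨ξ', hξ', fun k k' hk => ?_⟩
    have hk₃ : ((centSubEquiv (Subgroup.centralizer (Q : Set G)) P hPH hCH).symm k' :
        Subgroup.centralizer (Q : Set G)) ∈ Subgroup.centralizer
        ((((P.map (MulAut.conj x).toMonoidHom).subgroupOf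
          (Subgroup.centralizer (Q : Set G))).map (MulAut.conj c).toMonoidHom :
            Subgroup (Subgroup.centralizer (Q : Set G))) :
              Set (Subgroup.centralizer (Q : Set G))) := by
      rw [hfst]
      exact ((centSubEquiv (Subgroup.centralizer (Q : Set G)) P hPH hCH).symm k').2
    have h5 := hag4 ⟨_, hk₃⟩ ((centSubEquiv (Subgroup.centralizer (Q : Set G)) P hPH hCH).symm k')
      rfl
    rw [irrComp_apply, irrComp_apply, irrComp_apply, irrComp_apply,
      MulEquiv.apply_symm_apply] at h5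
    rw [← h5]
    refine congrArg (ξ : Subgroup.centralizer (P : Set G) → ℂ) ?_
    apply Subtype.ext
    show x⁻¹ * ((c : G)⁻¹ * (k' : G) * (c : G)) * x = (k : G)
    rw [hk]
    group
  have hyNQ : (c : G) * x ∈ Subgroup.normalizer (Q : Set G) :=
    Subgroup.mul_mem _ (Subgroup.centralizer_le_normalizer _ c.2) hxN
  refine ⟨(c : G) * x, hyN, hyst, ((c : G) * x)⁻¹ * (c : G)⁻¹ * ((c : G) * x), ?_, by group⟩
  have h1 := (conj_mem_centralizer_iff_of_mem_normalizer Q (Subgroup.inv_mem _ hyNQ)
    (c : G)⁻¹).mpr (Subgroup.inv_mem _ c.2)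
  rw [inv_inv] at h1
  exact h1

end Cfsg.Agent.Helper6
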