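import Mathlib
import Cfsg.Prelude.Def_Characters
import Cfsg.Prelude.Def_Blocks
import Cfsg.Prelude.Def_BlockLocal
import Cfsg.Prelude.Def_BrauerPairs
import Cfsg.Agent.Helper6.AbelianInertial2

/-!
# Abelian defect groups: inertial quotients of subpairs
-/

set_option autoImplicit false
set_option linter.style.haveILetI false

namespace Cfsg.Agent.Helper6

open scoped ComplexConjugate

universe u

variable {G : Type u} [Group G] {M : Ideal Cfsg.AlgInt}

/-- an element of `N_G(Q)` stabilizing `(P, e)` stabilizes the block `f` with `(Q, f) ≤ (P, e)` -/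
theorem stabilizesBlock_of_subpairLE' [Fintype G] {p : ℕ} [hp : Fact p.Prime]
    (hM : Cfsg.IsPModular p M) (P Q : Subgroup G)
    (e : Set (Cfsg.IrrCharacter (Subgroup.centralizer (P : Set G))))
    (f : Set (Cfsg.IrrCharacter (Subgroup.centralizer (Q : Set G))))
    (hPe : Cfsg.IsBrauerPair p M P e) (hQP : Q ≤ P)
    (hle : Cfsg.SubpairLE p M Q f P e) (u : G)
    (huP : u ∈ Subgroup.normalizer (P : Set G))
    (hust : Cfsg.StabilizesBlock (Subgroup.centralizer (P : Set G)) e u)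
    (hun : u ∈ Subgroup.normalizer (Q : Set G)) :
    Cfsg.StabilizesBlock (Subgroup.centralizer (Q : Set G)) f u := by
  have hnC := normalizer_le_normalizer_centralizer Q hun
  have h1 := reflTransGen_conjPair (M := M) (p := p) u ⟨Q, f⟩ ⟨P, e⟩ hle
  rw [conjPair_eq_self_of_stabilizes hM.2.1 P e hPe.2 u huP hust,
    conjPair_of_mem_normalizer Q f u hun hnC] at h1
  have h2 : nconjIrr (Subgroup.centralizer (Q : Set G)) u hnC '' f = f :=
    subpairLE_unique hM _ P Q e hPe hQP rfl _ f h1 hle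
  refine ⟨hnC, fun χ hχ => ⟨nconjIrr (Subgroup.centralizer (Q : Set G)) u hnC χ, ?_,
    isConjCharOf_nconjIrr _ u hnC χ⟩⟩
  rw [← h2]
  exact ⟨χ, hχ, rfl⟩

/-- **abelian defect groups: the stabilizers of subpairs** -/
theorem stabilizer_abelian [Fintype G] {p : ℕ} [hp : Fact p.Prime]
    (hM : Cfsg.IsPModular p M) (B : Set (Cfsg.IrrCharacter G)) (P : Subgroup G)
    (e : Set (Cfsg.IrrCharacter (Subgroup.centralizer (P : Set G))))
    (hmax : Cfsg.IsMaximalBrauerPair p M B P e)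
    (hab : ∀ x ∈ P, ∀ y ∈ P, x * y = y * x) (Q : Subgroup G)
    (f : Set (Cfsg.IrrCharacter (Subgroup.centralizer (Q : Set G)))) (hQP : Q ≤ P)
    (hf : Cfsg.IsPBlock M f) (hle : Cfsg.SubpairLE p M Q f P e) (TQ : Subgroup G)
    (hTQ : ∀ y : G, y ∈ TQ ↔ y ∈ Subgroup.normalizer (Q : Set G) ∧
      Cfsg.StabilizesBlock (Subgroup.centralizer (Q : Set G)) f y) (TP : Subgroup G)
    (hTP : ∀ y : G, y ∈ TP ↔ y ∈ Subgroup.normalizer (P : Set G) ∧
      Cfsg.StabilizesBlock (Subgroup.centralizer (P : Set G)) e y) :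
    (∀ x ∈ TQ, ∃ y ∈ TP, ∃ c ∈ Subgroup.centralizer (Q : Set G), x = y * c) ∧
    ((Subgroup.centralizer (Q : Set G)).subgroupOf TQ).index =
      ((TP ⊓ Subgroup.centralizer (Q : Set G)).subgroupOf
        (TP ⊓ Subgroup.normalizer (Q : Set G))).index := by
  classical
  have hPe : Cfsg.IsBrauerPair p M P e := hmax.1.1
  have h1 : ∀ x ∈ TQ, ∃ y ∈ TP, ∃ c ∈ Subgroup.centralizer (Q : Set G), x = y * c := by
    intro x hx
    obtain ⟨hxN, hxst⟩ := (hTQ x).mp hx
    obtain ⟨y, hyN, hyst, c, hc, hxy⟩ := exists_mul_of_stabilizes_abelian hM B P e hmax hab Q f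
      hQP hf hle x hxN hxst
    exact ⟨y, (hTP y).mpr ⟨hyN, hyst⟩, c, hc, hxy⟩
  refine ⟨h1, ?_⟩
  have hCT : Subgroup.centralizer (Q : Set G) ≤ TQ := fun c hc =>
    (hTQ c).mpr ⟨Subgroup.centralizer_le_normalizer _ hc,
      stabilizesBlock_of_mem_centralizer _ _ c hc⟩
  have hTN : TQ ≤ Subgroup.normalizer (Q : Set G) := fun y hy => ((hTQ y).mp hy).1
  have hAT : TP ⊓ Subgroup.normalizer (Q : Set G) ≤ TQ := by
    rintro y ⟨hy1, hy2⟩
    obtain ⟨hyN, hyst⟩ := (hTP y).mp hy1
    exact (hTQ y).mpr ⟨hy2, stabilizesBlock_of_subpairLE' hM P Q e f hPe hQP hle y hyN hyst hy2⟩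
  haveI hCn : ((Subgroup.centralizer (Q : Set G)).subgroupOf TQ).Normal :=
    (Subgroup.normal_subgroupOf_iff_le_normalizer hCT).mpr
      (hTN.trans (normalizer_le_normalizer_centralizer Q))
  have hsup : (TP ⊓ Subgroup.normalizer (Q : Set G)).subgroupOf TQ ⊔
      (Subgroup.centralizer (Q : Set G)).subgroupOf TQ = ⊤ := by
    rw [eq_top_iff]
    intro t _
    obtain ⟨y, hy, c, hc, hxy⟩ := h1 (t : G) t.2
    have hyN : y ∈ Subgroup.normalizer (Q : Set G) := by
      have : y = (t : G) * c⁻¹ := by rw [hxy]; group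
      rw [this]
      exact Subgroup.mul_mem _ (hTN t.2)
        (Subgroup.inv_mem _ (Subgroup.centralizer_le_normalizer _ hc))
    have hyA : y ∈ TP ⊓ Subgroup.normalizer (Q : Set G) := ⟨hy, hyN⟩
    have ht : t = (⟨y, hAT hyA⟩ : TQ) * ⟨c, hCT hc⟩ := Subtype.ext hxy
    rw [ht]
    exact Subgroup.mul_mem_sup (Subgroup.mem_subgroupOf.mpr hyA) (Subgroup.mem_subgroupOf.mpr hc)
  have hinf : Subgroup.centralizer (Q : Set G) ⊓ (TP ⊓ Subgroup.normalizer (Q : Set G)) =
      TP ⊓ Subgroup.centralizer (Q : Set G) := by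
    apply le_antisymm
    · exact le_inf (inf_le_right.trans inf_le_left) inf_le_left
    · exact le_inf inf_le_right
        (le_inf inf_le_left (inf_le_right.trans (Subgroup.centralizer_le_normalizer _)))
  calc ((Subgroup.centralizer (Q : Set G)).subgroupOf TQ).index
      = ((Subgroup.centralizer (Q : Set G)).subgroupOf TQ).relIndex ⊤ :=
        (Subgroup.relIndex_top_right _).symm
    _ = ((Subgroup.centralizer (Q : Set G)).subgroupOf TQ).relIndex
          ((TP ⊓ Subgroup.normalizer (Q : Set G)).subgroupOf TQ) := by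
        rw [← hsup, Subgroup.relIndex_sup_right]
    _ = (Subgroup.centralizer (Q : Set G)).relIndex (TP ⊓ Subgroup.normalizer (Q : Set G)) :=
        Subgroup.relIndex_subgroupOf hAT
    _ = (TP ⊓ Subgroup.centralizer (Q : Set G)).relIndex
          (TP ⊓ Subgroup.normalizer (Q : Set G)) := by
        rw [← Subgroup.inf_relIndex_right, hinf]
    _ = _ := rfl

end Cfsg.Agent.Helper6
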