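import Mathlib
import Cfsg.Prelude.Def_Characters
import Cfsg.Prelude.Def_Blocks
import Cfsg.Prelude.Def_BlockLocal
import Cfsg.Prelude.Def_BrauerPairs
import Cfsg.Agent.Helper6.AbelianInertial3
import Cfsg.Agent.Helper6.BlockCover4
import Cfsg.Agent.Helper6.DefectOrder
import Cfsg.Agent.Helper6.BlockUnion

/-!
# Counting classes of a normal subgroup inside a class of the group, and defect classes of a
stable block
-/

set_option autoImplicit false
set_option linter.style.haveILetI false

namespace Cfsg.Agent.Helper6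

open scoped ComplexConjugate

universe u

variable {G : Type u} [Group G] {M : Ideal Cfsg.AlgInt}

/-- A sum of a class function over a conjugation-closed finset all of whose classes have the same
size `L` and on which `L * d` is congruent to a constant `w`: the sum is congruent to `t * w`,
with `t` the number of classes. -/
theorem sum_conj_closed_count [Fintype G] (hM : M.IsMaximal) (d : G → ℂ)
    (hd : Cfsg.IsClassFunction G d) (L : ℕ) (w : ℂ) :
    ∀ (n : ℕ) (T : Finset G), T.card = n → (∀ g ∈ T, ∀ x : G, x * g * x⁻¹ ∈ T) →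
      (∀ g ∈ T, (Subgroup.centralizer ({g} : Set G)).index = L ∧
        Cfsg.MemLocalIdeal M ((L : ℂ) * d g - w)) →
      ∃ t : ℕ, t * L = T.card ∧ Cfsg.MemLocalIdeal M (∑ g ∈ T, d g - (t : ℂ) * w) := by
  classical
  intro n
  induction n using Nat.strong_induction_on with
  | _ n ih =>
  intro T hT hclosed hval
  by_cases hemp : T = ∅
  · refine ⟨0, ?_, ?_⟩
    · rw [hemp]; simp
    · rw [hemp, Finset.sum_empty]
      simp only [Nat.cast_zero, zero_mul, sub_zero]
      exact memLocalIdeal_zero hM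
  obtain ⟨g₀, hg₀⟩ := Finset.nonempty_iff_ne_empty.mpr hemp
  have hsub : classFinset g₀ ⊆ T := by
    intro x hx
    rw [mem_classFinset] at hx
    obtain ⟨c, hc⟩ := isConj_iff.mp hx
    rw [← hc]
    exact hclosed g₀ hg₀ c
  have hsplit : ∑ g ∈ T, d g = ∑ g ∈ classFinset g₀, d g + ∑ g ∈ T \ classFinset g₀, d g := by
    rw [← Finset.sum_union (Finset.disjoint_sdiff), Finset.union_sdiff_of_subset hsub]
  have hclass : ∑ g ∈ classFinset g₀, d g =
      ((Subgroup.centralizer ({g₀} : Set G)).index : ℂ) * d g₀ := by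
    rw [← card_classFinset, ← nsmul_eq_mul, ← Finset.sum_const]
    apply Finset.sum_congr rfl
    intro x hx
    rw [mem_classFinset] at hx
    obtain ⟨c, hc⟩ := isConj_iff.mp hx
    rw [← hc, hd g₀ c]
  have hcardsplit : T.card = (classFinset g₀).card + (T \ classFinset g₀).card := by
    rw [← Finset.card_union_of_disjoint (Finset.disjoint_sdiff),
      Finset.union_sdiff_of_subset hsub]
  have hcard : (T \ classFinset g₀).card < n := by
    rw [← hT]
    apply Finset.card_lt_card
    refine ⟨Finset.sdiff_subset, ?_⟩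
    intro h
    have h1 : g₀ ∈ T \ classFinset g₀ := h hg₀
    rw [Finset.mem_sdiff, mem_classFinset] at h1
    exact h1.2 (IsConj.refl g₀)
  obtain ⟨t', ht', hsum'⟩ := ih _ hcard (T \ classFinset g₀) rfl (by
    intro g hg x
    rw [Finset.mem_sdiff] at hg ⊢
    refine ⟨hclosed g hg.1 x, ?_⟩
    intro h
    apply hg.2
    rw [mem_classFinset] at h ⊢
    exact h.trans (isConj_iff.mpr ⟨x⁻¹, by group⟩)) (by
    intro g hg
    exact hval g (Finset.mem_sdiff.mp hg).1)
  obtain ⟨hL, hw⟩ := hval g₀ hg₀
  refine ⟨t' + 1, ?_, ?_⟩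
  · rw [hcardsplit, card_classFinset, hL, ← ht']
    ring
  · rw [hsplit, hclass, hL]
    have := MemLocalIdeal.add hM hw hsum'
    convert this using 1
    push_cast
    ring

/-- **Counting lemma**: for `χ` lying over `θ`, with all conjugates of `θ` in the block of `θ`,
the central character of `χ` at an element `n` of the normal subgroup is congruent to `t` times
that of `θ`, where `t` is the number of `N`-classes in the `G`-class of `n`. -/
theorem centralChar_congr_count [Fintype G] (hM : M.IsMaximal) (N : Subgroup G) [hN : N.Normal]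
    [Fintype N] (χ : Cfsg.IrrCharacter G) (θ : Cfsg.IrrCharacter N)
    (hconst : Cfsg.classInner (fun n : N => (χ : G → ℂ) n) (θ : N → ℂ) ≠ 0)
    (hst : ∀ x : G, Cfsg.SameBlock M (θ : N → ℂ) (conjFun N (θ : N → ℂ) x)) (n : N) :
    ∃ t : ℕ, t * (Subgroup.centralizer ({n} : Set N)).index =
        (Subgroup.centralizer ({(n : G)} : Set G)).index ∧
      Cfsg.MemLocalIdeal M (Cfsg.centralChar (χ : G → ℂ) (n : G) -
        (t : ℂ) * Cfsg.centralChar (θ : N → ℂ) n) := by
  classical
  have hθcf : Cfsg.IsClassFunction N (fun m : N => (θ : N → ℂ) m / (θ : N → ℂ) 1) := by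
    intro y x
    have := IsCharacter.isClassFunction (IsIrrCharacter.isCharacter θ.2) y x
    simp only
    rw [this]
  obtain ⟨t, ht, hsum⟩ := sum_conj_closed_count hM (fun m : N => (θ : N → ℂ) m / (θ : N → ℂ) 1)
    hθcf (Subgroup.centralizer ({n} : Set N)).index (Cfsg.centralChar (θ : N → ℂ) n) _
    (normalClassFinset N (n : G)) rfl (by
      intro m hm y
      rw [mem_normalClassFinset] at hm ⊢
      refine hm.trans (isConj_iff.mpr ⟨(y : G), ?_⟩)
      simp) (by
      intro m hm
      rw [mem_normalClassFinset] at hm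
      obtain ⟨x, hx⟩ := isConj_iff.mp hm
      have hm' : m = ⟨x * n * x⁻¹, hN.conj_mem n n.2 x⟩ := Subtype.ext hx.symm
      have h2 := index_centralizer_mulEquiv (MulAut.conjNormal x : N ≃* N) n
      have h3 : (MulAut.conjNormal x : N ≃* N) n = ⟨x * n * x⁻¹, hN.conj_mem n n.2 x⟩ := by
        apply Subtype.ext
        simp [MulAut.conjNormal_apply]
      rw [h3, ← hm'] at h2
      refine ⟨h2, ?_⟩
      have h4 := centralChar_conjFun N (θ : N → ℂ) x n
      rw [← hm'] at h4
      have h5 := MemLocalIdeal.neg (hst x n)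
      rw [neg_sub, h4] at h5
      have h6 : Cfsg.centralChar (θ : N → ℂ) m =
          ((Subgroup.centralizer ({n} : Set N)).index : ℂ) *
            ((θ : N → ℂ) m / (θ : N → ℂ) 1) := by
        unfold Cfsg.centralChar
        rw [h2]
        ring
      rw [← h6]
      exact h5)
  refine ⟨t, ?_, ?_⟩
  · rw [ht, card_normalClassFinset]
  · rw [centralChar_eq_induced_of_constituent N χ θ hconst n, inducedCentralChar_eq_sum']
    exact hsum

theorem stable_of_stabilizesBlock [Finite G] (N : Subgroup G) [hN : N.Normal]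
    (c : Set (Cfsg.IrrCharacter N)) (hst : ∀ x : G, Cfsg.StabilizesBlock N c x) :
    ∀ g : G, ∀ θ ∈ c, conjIrr N g θ ∈ c := by
  intro g θ hθ
  have h1 := (nact_eq_self_iff N g c).mpr (hst g)
  rw [← h1] at hθ
  exact (mem_nact_iff N g c θ).mp hθ

/-- A set of irreducible characters of `G` whose idempotent is that of a `G`-stable set `c` of
characters of the normal subgroup `N` consists of the characters lying over `c`. -/
theorem eq_lyingOver_of_blockCoeff_eq [Fintype G] (N : Subgroup G) [hN : N.Normal] [Fintype N]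
    (c : Set (Cfsg.IrrCharacter N)) (hO : ∀ g : G, ∀ θ ∈ c, conjIrr N g θ ∈ c)
    (B : Set (Cfsg.IrrCharacter G))
    (hB : ∀ g : G, Cfsg.blockCoeff B g = Cfsg.subgroupBlockCoeff N c g) :
    B = lyingOver N c := by
  classical
  have hco : ∀ g : G, Cfsg.blockCoeff B g = Cfsg.blockCoeff (lyingOver N c) g := by
    intro g
    rw [hB g, blockCoeff_lyingOver N c hO g]
    by_cases hg : g ∈ N
    · rw [subgroupBlockCoeff_of_mem N c g hg, extendByZero_mem N _ hg]
    · rw [subgroupBlockCoeff_of_not_mem N c g hg, extendByZero_not_mem N _ hg]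
  ext χ
  have h1 := sum_blockCoeff_mul B χ
  have h2 := sum_blockCoeff_mul (lyingOver N c) χ
  have hχ1 : (χ : G → ℂ) 1 ≠ 0 := IsIrrCharacter.apply_one_ne_zero χ.2
  have h3 : (∑ g : G, Cfsg.blockCoeff B g * (χ : G → ℂ) g) =
      ∑ g : G, Cfsg.blockCoeff (lyingOver N c) g * (χ : G → ℂ) g := by
    apply Finset.sum_congr rfl
    intro g _
    rw [hco g]
  rw [h1, h2] at h3
  by_cases hχB : χ ∈ B
  · by_cases hχL : χ ∈ lyingOver N c
    · exact ⟨fun _ => hχL, fun _ => hχB⟩
    · rw [if_pos hχB, if_neg hχL] at h3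
      exact absurd h3 hχ1
  · by_cases hχL : χ ∈ lyingOver N c
    · rw [if_neg hχB, if_pos hχL] at h3
      exact absurd h3.symm hχ1
    · exact ⟨fun h => absurd h hχB, fun h => absurd h hχL⟩

/-- **Defect classes of a block covering a stable block with the same idempotent** lie in the
normal subgroup, are defect classes of the stable block, and their `G`-class consists of a number
of `N`-classes prime to `p`. -/
theorem fong_defectClass [Fintype G] {p : ℕ} [hp : Fact p.Prime] (hM : Cfsg.IsPModular p M)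
    (N : Subgroup G) [hN : N.Normal] [Fintype N]
    (c : Set (Cfsg.IrrCharacter N)) (hc : Cfsg.IsPBlock M c)
    (hst : ∀ x : G, Cfsg.StabilizesBlock N c x)
    (B : Set (Cfsg.IrrCharacter G))
    (hBc : ∀ g : G, Cfsg.blockCoeff B g = Cfsg.subgroupBlockCoeff N c g)
    (g : G) (hg : Cfsg.IsDefectClass M B g) :
    ∃ hgN : g ∈ N, Cfsg.IsDefectClass M c ⟨g, hgN⟩ ∧
      ∃ t : ℕ, ¬ p ∣ t ∧ t * (Subgroup.centralizer ({(⟨g, hgN⟩ : N)} : Set N)).index =
        (Subgroup.centralizer ({g} : Set G)).index := by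
  classical
  have hMm := hM.2.1
  obtain ⟨hg1, hg2, hg3⟩ := hg
  have hgN : g ∈ N := by
    by_contra hgN
    apply hg2
    rw [hBc g, subgroupBlockCoeff_of_not_mem N c g hgN]
    exact memLocalIdeal_zero hMm
  have hO := stable_of_stabilizesBlock N c hst
  have hBL := eq_lyingOver_of_blockCoeff_eq N c hO B hBc
  have hBne : B.Nonempty := by
    by_contra hBe
    rw [Set.not_nonempty_iff_eq_empty] at hBe
    apply hg2
    rw [hBe]
    unfold Cfsg.blockCoeff
    simp only [Set.mem_empty_iff_false, finsum_false, finsum_zero, mul_zero]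
    exact memLocalIdeal_zero hMm
  obtain ⟨χ, hχ⟩ := hBne
  have hχ' := hχ
  rw [hBL] at hχ'
  obtain ⟨θ, hθc, hconst⟩ := hχ'
  obtain ⟨θ₀, rfl⟩ := hc
  have hsame : ∀ x : G, Cfsg.SameBlock M (θ : N → ℂ) (conjFun N (θ : N → ℂ) x) := by
    intro x
    have h1 : conjIrr N x θ ∈ Cfsg.blockOf M (θ₀ : N → ℂ) := hO x θ hθc
    exact sameBlock_trans hMm (sameBlock_symm hθc) h1
  obtain ⟨t, ht, hcong⟩ := centralChar_congr_count hMm N χ θ hconst hsame ⟨g, hgN⟩
  have hχg : ¬ Cfsg.MemLocalIdeal M (Cfsg.centralChar (χ : G → ℂ) g) := hg3 χ hχ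
  have htθ : ¬ Cfsg.MemLocalIdeal M ((t : ℂ) * Cfsg.centralChar (θ : N → ℂ) ⟨g, hgN⟩) := by
    intro h
    apply hχg
    have := MemLocalIdeal.add hMm hcong h
    rwa [sub_add_cancel] at this
  have hθint : Cfsg.MemLocalRing M (Cfsg.centralChar (θ : N → ℂ) ⟨g, hgN⟩) :=
    memLocalRing_of_isIntegral hMm (isIntegral_centralChar θ _)
  have htint : Cfsg.MemLocalRing M (t : ℂ) :=
    memLocalRing_of_isIntegral hMm (by exact_mod_cast isIntegral_algebraMap (R := ℤ) (A := ℂ) (x := (t : ℤ)))
  have hθg : ¬ Cfsg.MemLocalIdeal M (Cfsg.centralChar (θ : N → ℂ) ⟨g, hgN⟩) := by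
    intro h
    exact htθ (MemLocalIdeal.mul_left hMm htint h)
  have hpt : ¬ p ∣ t := by
    rintro ⟨s, rfl⟩
    apply htθ
    have h1 : Cfsg.MemLocalIdeal M (p : ℂ) := memLocalIdeal_prime hM
    have hsint : Cfsg.MemLocalRing M ((s : ℂ) * Cfsg.centralChar (θ : N → ℂ) ⟨g, hgN⟩) :=
      memLocalRing_of_isIntegral hMm (IsIntegral.mul
        (by exact_mod_cast isIntegral_algebraMap (R := ℤ) (A := ℂ) (x := (s : ℤ)))
        (isIntegral_centralChar θ _))
    have := MemLocalIdeal.mul_left hMm hsint h1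
    convert this using 1
    push_cast
    ring
  refine ⟨hgN, ⟨?_, ?_, ?_⟩, t, hpt, ht⟩
  · have : Cfsg.blockCoeff (Cfsg.blockOf M (θ₀ : N → ℂ)) ⟨g, hgN⟩ = Cfsg.blockCoeff B g := by
      rw [hBc g, subgroupBlockCoeff_of_mem N _ g hgN]
    rw [this]
    exact hg1
  · have : Cfsg.blockCoeff (Cfsg.blockOf M (θ₀ : N → ℂ)) ⟨g, hgN⟩ = Cfsg.blockCoeff B g := by
      rw [hBc g, subgroupBlockCoeff_of_mem N _ g hgN]
    rw [this]
    exact hg2
  · intro θ' hθ' h
    apply hθg
    have h1 : Cfsg.SameBlock M (θ : N → ℂ) (θ' : N → ℂ) :=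
      sameBlock_trans hMm (sameBlock_symm hθc) hθ'
    have := MemLocalIdeal.add hMm (h1 ⟨g, hgN⟩) h
    rwa [sub_add_cancel] at this

theorem sylow_normal_count_aux [Finite G] {p : ℕ} [hp : Fact p.Prime] (N : Subgroup G)
    [hN : N.Normal] (k : ℕ) (hk : N.index = p ^ k) (C : Subgroup G) (t L c' : ℕ) (ht : ¬ p ∣ t)
    (hL0 : L ≠ 0) (hidx : t * L = C.index) (a3 : c' * L = Nat.card N)
    (a4 : c' = Nat.card (C ⊓ N : Subgroup G)) (S : Sylow p C) :
    N ⊔ (S : Subgroup C).map C.subtype = ⊤ ∧
      Nat.card ((S : Subgroup C).map C.subtype ⊓ N : Subgroup G) = p ^ c'.factorization p := by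
  classical
  have hpp := hp.out
  obtain ⟨P, hPdef⟩ : ∃ P : Subgroup G, P = (S : Subgroup C).map C.subtype := ⟨_, rfl⟩
  rw [← hPdef]
  have hPp : IsPGroup p P := by
    rw [hPdef]
    exact S.2.map C.subtype
  have hPC : P ≤ C := by
    rw [hPdef]
    rintro x ⟨y, -, rfl⟩
    exact y.2
  have cardP : Nat.card P = p ^ (Nat.card C).factorization p := by
    rw [hPdef, Subgroup.card_subtype]
    exact S.card_eq_multiplicity
  have a1 : Nat.card C * C.index = Nat.card G := Subgroup.card_mul_index C
  have a2 : Nat.card N * N.index = Nat.card G := Subgroup.card_mul_index N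
  have hcn0 : c' ≠ 0 := by
    rw [a4]
    exact Nat.card_pos.ne'
  have b1 : Nat.card C * t = c' * p ^ k := by
    have : (Nat.card C * t) * L = (c' * p ^ k) * L := by
      calc (Nat.card C * t) * L = Nat.card C * (t * L) := by ring
        _ = Nat.card C * C.index := by rw [hidx]
        _ = Nat.card G := a1
        _ = Nat.card N * N.index := a2.symm
        _ = (c' * L) * p ^ k := by rw [a3, hk]
        _ = (c' * p ^ k) * L := by ring
    exact Nat.eq_of_mul_eq_mul_right (Nat.pos_of_ne_zero hL0) this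
  obtain ⟨r, hr⟩ : c' ∣ Nat.card C := by
    rw [a4]
    exact Subgroup.card_dvd_of_le inf_le_left
  have b2 : r * t = p ^ k := by
    have : c' * (r * t) = c' * p ^ k := by rw [← b1, hr]; ring
    exact Nat.eq_of_mul_eq_mul_left (Nat.pos_of_ne_zero hcn0) this
  have ht1 : t = 1 := by
    have htd : t ∣ p ^ k := ⟨r, by rw [← b2]; ring⟩
    obtain ⟨j, -, hj⟩ := (Nat.dvd_prime_pow hpp).mp htd
    rcases Nat.eq_zero_or_pos j with h0 | hpos
    · rw [hj, h0, pow_zero]
    · exfalso
      apply ht
      rw [hj]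
      exact dvd_pow_self p hpos.ne'
  have b3 : Nat.card C = c' * p ^ k := by rw [← b1, ht1, mul_one]
  have b4 : (Nat.card C).factorization p = c'.factorization p + k := by
    rw [b3, Nat.factorization_mul hcn0 (pow_ne_zero k hpp.ne_zero), Finsupp.add_apply,
      Nat.factorization_pow, Finsupp.smul_apply, hpp.factorization_self]
    simp
  -- the intersection with `N`
  have hPNp : IsPGroup p (P ⊓ N : Subgroup G) := hPp.to_le inf_le_left
  obtain ⟨j, hj⟩ := IsPGroup.iff_card.mp hPNp
  have hjle : j ≤ c'.factorization p := by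
    have : p ^ j ∣ c' := by
      rw [← hj, a4]
      exact Subgroup.card_dvd_of_le (inf_le_inf_right N hPC)
    exact (hpp.pow_dvd_iff_le_factorization hcn0).mp this
  have c1 : Nat.card (P ⊓ N : Subgroup G) * N.relIndex P = Nat.card P := by
    have h1 := Subgroup.relIndex_mul_relIndex (⊥ : Subgroup G) (P ⊓ N) P bot_le inf_le_left
    rw [Subgroup.relIndex_bot_left, Subgroup.relIndex_bot_left, Subgroup.inf_relIndex_left] at h1
    exact h1
  obtain ⟨i, hile, hi⟩ := (Nat.dvd_prime_pow hpp).mp
    (hk ▸ (Subgroup.relIndex_dvd_index_of_normal N P))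
  have c2 : j + i = c'.factorization p + k := by
    have : p ^ (j + i) = p ^ (c'.factorization p + k) := by
      rw [pow_add, ← hj, ← hi, c1, cardP, b4]
    exact Nat.pow_right_injective hpp.two_le this
  have hjeq : j = c'.factorization p := by omega
  have hieq : i = k := by omega
  constructor
  · have d1 : N.relIndex (P ⊔ N) = N.relIndex P := Subgroup.relIndex_sup_right P N
    have d2 := Subgroup.relIndex_mul_index (H := N) (K := P ⊔ N) le_sup_right
    rw [d1, hi, hieq, hk] at d2
    have d3 : (P ⊔ N).index = 1 := by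
      have : p ^ k * (P ⊔ N).index = p ^ k * 1 := by rw [d2, mul_one]
      exact Nat.eq_of_mul_eq_mul_left (pow_pos hpp.pos k) this
    rw [sup_comm]
    exact Subgroup.index_eq_one.mp d3
  · rw [hj, hjeq]

/-- **Sylow subgroups of centralizers and a normal subgroup of `p`-power index**: if the `G`-class
of `n ∈ N` consists of a number of `N`-classes prime to `p`, then a Sylow `p`-subgroup `P` of
`C_G(n)` satisfies `G = N P`, and `P ∩ N` has the order of a Sylow `p`-subgroup of `C_N(n)`. -/
theorem sylow_centralizer_normal_count [Finite G] {p : ℕ} [hp : Fact p.Prime] (N : Subgroup G)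
    [hN : N.Normal] (k : ℕ) (hk : N.index = p ^ k) (n : N) (t : ℕ) (ht : ¬ p ∣ t)
    (hidx : t * (Subgroup.centralizer ({n} : Set N)).index =
      (Subgroup.centralizer ({(n : G)} : Set G)).index)
    (S : Sylow p (Subgroup.centralizer ({(n : G)} : Set G))) :
    N ⊔ (S : Subgroup (Subgroup.centralizer ({(n : G)} : Set G))).map
        (Subgroup.centralizer ({(n : G)} : Set G)).subtype = ⊤ ∧
      Nat.card ((S : Subgroup (Subgroup.centralizer ({(n : G)} : Set G))).map
        (Subgroup.centralizer ({(n : G)} : Set G)).subtype ⊓ N : Subgroup G) =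
        p ^ (Nat.card (Subgroup.centralizer ({n} : Set N))).factorization p :=
  sylow_normal_count_aux N k hk (Subgroup.centralizer ({(n : G)} : Set G)) t
    (Subgroup.centralizer ({n} : Set N)).index (Nat.card (Subgroup.centralizer ({n} : Set N))) ht
    Subgroup.index_ne_zero_of_finite hidx (Subgroup.card_mul_index _)
    (card_centralizer_subgroup N n) S

end Cfsg.Agent.Helper6
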