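import Mathlib
import Cfsg.Prelude.Def_Characters
import Cfsg.Prelude.Def_Blocks
import Cfsg.Prelude.Def_BlockLocal
import Cfsg.Prelude.Def_BrauerPairs
import Cfsg.Agent.Helper6.FongCount
import Cfsg.Agent.Helper6.LocalTransport

/-!
# Abelian defect groups: nilpotent blocks and the trivial inertial quotient
-/

set_option autoImplicit false
set_option linter.style.haveILetI false

namespace Cfsg.Agent.Helper6

open scoped ComplexConjugate

universe u

variable {G : Type u} [Group G] {M : Ideal Cfsg.AlgInt}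

theorem stabilizesBlock_one (K : Subgroup G) (f : Set (Cfsg.IrrCharacter K)) :
    Cfsg.StabilizesBlock K f 1 := by
  refine ⟨Subgroup.one_mem _, fun χ hχ => ⟨χ, hχ, fun k k' hk => ?_⟩⟩
  have : k' = k := by
    apply Subtype.ext
    rw [hk]
    simp
  rw [this]

theorem stabilizesBlock_mul (K : Subgroup G) (f : Set (Cfsg.IrrCharacter K)) (x y : G)
    (hx : Cfsg.StabilizesBlock K f x) (hy : Cfsg.StabilizesBlock K f y) :
    Cfsg.StabilizesBlock K f (x * y) := by
  refine ⟨Subgroup.mul_mem _ hx.1 hy.1, fun χ hχ => ?_⟩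
  obtain ⟨χ', hχ', h1⟩ := hy.2 χ hχ
  obtain ⟨χ'', hχ'', h2⟩ := hx.2 χ' hχ'
  refine ⟨χ'', hχ'', fun k k'' hk => ?_⟩
  have hyk : y * (k : G) * y⁻¹ ∈ K := (Subgroup.mem_normalizer_iff.mp hy.1 (k : G)).mp k.2
  rw [h2 ⟨y * (k : G) * y⁻¹, hyk⟩ k'' (by rw [hk]; simp only; group)]
  exact h1 k ⟨y * (k : G) * y⁻¹, hyk⟩ rfl

theorem stabilizesBlock_pow (K : Subgroup G) (f : Set (Cfsg.IrrCharacter K)) (x : G)
    (hx : Cfsg.StabilizesBlock K f x) (n : ℕ) : Cfsg.StabilizesBlock K f (x ^ n) := by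
  induction n with
  | zero => rw [pow_zero]; exact stabilizesBlock_one K f
  | succ n ih => rw [pow_succ]; exact stabilizesBlock_mul K f _ _ ih hx

theorem stabilizesBlock_inv [Finite G] (K : Subgroup G) (f : Set (Cfsg.IrrCharacter K)) (x : G)
    (hx : Cfsg.StabilizesBlock K f x) : Cfsg.StabilizesBlock K f x⁻¹ := by
  have h1 : x⁻¹ = x ^ (orderOf x - 1) := by
    apply inv_eq_of_mul_eq_one_right
    rw [← pow_succ', Nat.sub_add_cancel (orderOf_pos x), pow_orderOf_eq_one]
  rw [h1]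
  exact stabilizesBlock_pow K f x hx _

/-- the stabilizer in `N_G(Q)` of a set of characters of `C_G(Q)` -/
def pairStabilizer [Finite G] (Q : Subgroup G)
    (f : Set (Cfsg.IrrCharacter (Subgroup.centralizer (Q : Set G)))) : Subgroup G where
  carrier := {y | y ∈ Subgroup.normalizer (Q : Set G) ∧
    Cfsg.StabilizesBlock (Subgroup.centralizer (Q : Set G)) f y}
  mul_mem' := fun ha hb => ⟨Subgroup.mul_mem _ ha.1 hb.1, stabilizesBlock_mul _ _ _ _ ha.2 hb.2⟩
  one_mem' := ⟨Subgroup.one_mem _, stabilizesBlock_one _ _⟩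
  inv_mem' := fun ha => ⟨Subgroup.inv_mem _ ha.1, stabilizesBlock_inv _ _ _ ha.2⟩

theorem mem_pairStabilizer [Finite G] (Q : Subgroup G)
    (f : Set (Cfsg.IrrCharacter (Subgroup.centralizer (Q : Set G)))) (y : G) :
    y ∈ pairStabilizer Q f ↔ y ∈ Subgroup.normalizer (Q : Set G) ∧
      Cfsg.StabilizesBlock (Subgroup.centralizer (Q : Set G)) f y := Iff.rfl

/-- conjugating an element stabilizing a pair gives an element stabilizing the conjugate pair -/
theorem stabilizes_conjBlock (Q : Subgroup G)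
    (f : Set (Cfsg.IrrCharacter (Subgroup.centralizer (Q : Set G)))) (z x : G)
    (hxN : x ∈ Subgroup.normalizer (Q : Set G))
    (hxst : Cfsg.StabilizesBlock (Subgroup.centralizer (Q : Set G)) f x) :
    z * x * z⁻¹ ∈ Subgroup.normalizer ((Q.map (MulAut.conj z).toMonoidHom : Subgroup G) : Set G) ∧
      Cfsg.StabilizesBlock
        (Subgroup.centralizer ((Q.map (MulAut.conj z).toMonoidHom : Subgroup G) : Set G))
        (Cfsg.conjBlock Q z f) (z * x * z⁻¹) := by
  have hN : z * x * z⁻¹ ∈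
      Subgroup.normalizer ((Q.map (MulAut.conj z).toMonoidHom : Subgroup G) : Set G) := by
    rw [Subgroup.mem_normalizer_iff]
    intro h
    have e1 : h = z * (z⁻¹ * h * z) * z⁻¹ := by group
    have e2 : z * x * z⁻¹ * h * (z * x * z⁻¹)⁻¹ = z * (x * (z⁻¹ * h * z) * x⁻¹) * z⁻¹ := by group
    rw [e2]
    conv_lhs => rw [e1]
    rw [mem_map_conj_iff, mem_map_conj_iff]
    exact Subgroup.mem_normalizer_iff.mp hxN _
  refine ⟨hN, normalizer_le_normalizer_centralizer _ hN, ?_⟩
  intro ξ' hξ'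
  rw [conjBlock_eq_image] at hξ'
  obtain ⟨ξ, hξ, rfl⟩ := hξ'
  obtain ⟨ξ₂, hξ₂, hc⟩ := hxst.2 ξ hξ
  refine ⟨irrComp (centConjEquiv Q z).symm ξ₂, ?_, ?_⟩
  · rw [conjBlock_eq_image]
    exact ⟨ξ₂, hξ₂, rfl⟩
  · intro k k' hk
    rw [irrComp_apply, irrComp_apply]
    apply hc
    show z⁻¹ * (k' : G) * z = x * (z⁻¹ * (k : G) * z) * x⁻¹
    rw [hk]
    group

/-- **trivial inertial quotient implies nilpotent**, for abelian defect groups -/
theorem isNilpotentBlock_of_inertial_trivial [Fintype G] {p : ℕ} [hp : Fact p.Prime]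
    (hM : Cfsg.IsPModular p M) (B : Set (Cfsg.IrrCharacter G)) (P : Subgroup G)
    (e : Set (Cfsg.IrrCharacter (Subgroup.centralizer (P : Set G))))
    (hmax : Cfsg.IsMaximalBrauerPair p M B P e)
    (hab : ∀ x ∈ P, ∀ y ∈ P, x * y = y * x)
    (H : ∀ x : G, x ∈ Subgroup.normalizer (P : Set G) →
      Cfsg.StabilizesBlock (Subgroup.centralizer (P : Set G)) e x →
        x ∈ Subgroup.centralizer (P : Set G)) :
    Cfsg.IsNilpotentBlock p M B := by
  refine ⟨hmax.1.2.1, ?_⟩
  intro Q f hQf x hxN hxst _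
  obtain ⟨z, hz⟩ := exists_conj_subpairLE hM B P Q e f hmax hQf
  obtain ⟨hx'N, hx'st⟩ := stabilizes_conjBlock Q f z x hxN hxst
  have hQ'P : Q.map (MulAut.conj z).toMonoidHom ≤ P := SubpairLE.le hz
  have hf' := isPBlock_conjBlock (M := M) Q z f hQf.1.2
  obtain ⟨y, hyN, hyst, c, hc, hxy⟩ := exists_mul_of_stabilizes_abelian hM B P e hmax hab _ _
    hQ'P hf' hz _ hx'N hx'st
  have hyC := H y hyN hyst
  have hyC' : y ∈ Subgroup.centralizer
      ((Q.map (MulAut.conj z).toMonoidHom : Subgroup G) : Set G) :=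
    Subgroup.centralizer_le (by exact_mod_cast hQ'P) hyC
  have h1 : z * x * z⁻¹ ∈ Subgroup.centralizer
      ((Q.map (MulAut.conj z).toMonoidHom : Subgroup G) : Set G) := by
    rw [hxy]
    exact Subgroup.mul_mem _ hyC' hc
  rw [mem_centralizer_map_conj_iff] at h1
  have e1 : z⁻¹ * (z * x * z⁻¹) * z = x := by group
  rwa [e1] at h1

theorem not_dvd_of_count {p t c1 c2 idx : ℕ} (hp : p.Prime) (hpt : ¬ p ∣ t) (hc1 : c1 ≠ 0)
    (h : t * c1 = c2 * idx) (hd : p ^ (c1.factorization p) ∣ c2) : ¬ p ∣ idx := by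
  rintro ⟨j, rfl⟩
  obtain ⟨m, rfl⟩ := hd
  have h1 : p ^ (c1.factorization p + 1) ∣ t * c1 := ⟨m * j, by rw [h, pow_succ]; ring⟩
  have h2 : p ^ (c1.factorization p + 1) ∣ c1 :=
    (Nat.Coprime.pow_left _ ((Nat.Prime.coprime_iff_not_dvd hp).mpr hpt)).dvd_of_dvd_mul_left h1
  have := (hp.pow_dvd_iff_le_factorization hc1).mp h2
  omega

theorem count_aux (t cC iC cT cN iN cn L : ℕ) (hL0 : L ≠ 0) (a1 : cC * iC = cT)
    (a2 : cN * iN = cT) (a3 : cn * L = cN) (ht : t * L = iC) : t * cC = cn * iN := by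
  apply Nat.eq_of_mul_eq_mul_right (Nat.pos_of_ne_zero hL0)
  calc t * cC * L = cC * (t * L) := by ring
    _ = cT := by rw [ht, a1]
    _ = cn * iN * L := by rw [← a2, ← a3]; ring

set_option maxHeartbeats 1000000 in
/-- **abelian defect groups**: the `p`-elements of the stabilizer of a maximal Brauer pair `(P, e)`
centralize `P` -/
theorem pElement_mem_centralizer_of_stabilizes [Fintype G] {p : ℕ} [hp : Fact p.Prime]
    (hM : Cfsg.IsPModular p M) (B : Set (Cfsg.IrrCharacter G)) (P : Subgroup G)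
    (e : Set (Cfsg.IrrCharacter (Subgroup.centralizer (P : Set G))))
    (hmax : Cfsg.IsMaximalBrauerPair p M B P e)
    (hab : ∀ x ∈ P, ∀ y ∈ P, x * y = y * x) (u : G)
    (huN : u ∈ Subgroup.normalizer (P : Set G))
    (hust : Cfsg.StabilizesBlock (Subgroup.centralizer (P : Set G)) e u)
    (k : ℕ) (hu : orderOf u = p ^ k) : u ∈ Subgroup.centralizer (P : Set G) := by
  classical
  have hpp := hp.out
  have hPe : Cfsg.IsBrauerPair p M P e := hmax.1.1
  obtain ⟨T, hT⟩ : ∃ T : Subgroup G, ∀ y : G, y ∈ T ↔ y ∈ Subgroup.normalizer (P : Set G) ∧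
      Cfsg.StabilizesBlock (Subgroup.centralizer (P : Set G)) e y :=
    ⟨pairStabilizer P e, mem_pairStabilizer P e⟩
  haveI : Fintype T := Fintype.ofFinite _
  have hPC : P ≤ Subgroup.centralizer (P : Set G) := fun a ha =>
    Subgroup.mem_centralizer_iff.mpr (fun b hb => hab b hb a ha)
  have hCT : Subgroup.centralizer (P : Set G) ≤ T := fun c hc =>
    (hT c).mpr ⟨Subgroup.centralizer_le_normalizer _ hc,
      stabilizesBlock_of_mem_centralizer _ _ c hc⟩
  have hPT : P ≤ T := hPC.trans hCT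
  have hTN : T ≤ Subgroup.normalizer (P : Set G) := fun y hy => ((hT y).mp hy).1
  obtain ⟨F', hF', hcoef', hD⟩ := stabilizer_defectGroup_of_max hM B P P e e hmax le_rfl hPe.2
    Relation.ReflTransGen.refl (fun y _ => by
      rw [inf_eq_left.mpr (Subgroup.le_normalizer (H := P))]
      exact Subgroup.card_le_of_le inf_le_left) T hT
  haveI hPn : (P.subgroupOf T).Normal :=
    (Subgroup.normal_subgroupOf_iff_le_normalizer hPT).mpr hTN
  haveI : Fintype (Subgroup.centralizer ((P.subgroupOf T : Subgroup T) : Set T)) :=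
    Fintype.ofFinite _
  have hc : Cfsg.IsPBlock M (localBlock T P hPT hCT e) := isPBlock_localBlock T P hPT hCT e hPe.2
  have hst : ∀ x : T, Cfsg.StabilizesBlock
      (Subgroup.centralizer ((P.subgroupOf T : Subgroup T) : Set T))
      (localBlock T P hPT hCT e) x := fun x =>
    (stabilizesBlock_localBlock_iff T P hPT hCT hTN e x).mpr ((hT x).mp x.2).2
  have hBc : ∀ t : T, Cfsg.blockCoeff F' t = Cfsg.subgroupBlockCoeff
      (Subgroup.centralizer ((P.subgroupOf T : Subgroup T) : Set T))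
      (localBlock T P hPT hCT e) t := fun t => by
    rw [subgroupBlockCoeff_localBlock]; exact hcoef' t
  obtain ⟨g, hg, S, hS⟩ := hD
  obtain ⟨hgN, hdc, t, hpt, ht⟩ := fong_defectClass hM
    (Subgroup.centralizer ((P.subgroupOf T : Subgroup T) : Set T)) _ hc hst F' hBc g hg
  -- counting
  have a1 := Subgroup.card_mul_index (Subgroup.centralizer ({g} : Set T))
  have a2 := Subgroup.card_mul_index
    (Subgroup.centralizer ((P.subgroupOf T : Subgroup T) : Set T))
  have a3 := Subgroup.card_mul_index (Subgroup.centralizer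
    ({(⟨g, hgN⟩ : Subgroup.centralizer ((P.subgroupOf T : Subgroup T) : Set T))} :
      Set (Subgroup.centralizer ((P.subgroupOf T : Subgroup T) : Set T))))
  have a4 := card_centralizer_subgroup
    (Subgroup.centralizer ((P.subgroupOf T : Subgroup T) : Set T)) ⟨g, hgN⟩
  have hL0 : (Subgroup.centralizer
    ({(⟨g, hgN⟩ : Subgroup.centralizer ((P.subgroupOf T : Subgroup T) : Set T))} :
      Set (Subgroup.centralizer ((P.subgroupOf T : Subgroup T) : Set T)))).index ≠ 0 :=
    Subgroup.index_ne_zero_of_finite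
  have b1 : t * Nat.card (Subgroup.centralizer ({g} : Set T)) =
      Nat.card (Subgroup.centralizer ({g} : Set T) ⊓
        Subgroup.centralizer ((P.subgroupOf T : Subgroup T) : Set T) : Subgroup T) *
      (Subgroup.centralizer ((P.subgroupOf T : Subgroup T) : Set T)).index := by
    rw [← a4]
    exact count_aux _ _ _ _ _ _ _ _ hL0 a1 a2 a3 ht
  have hDle : ((P ⊓ Subgroup.normalizer (P : Set G)).subgroupOf T) ≤
      Subgroup.centralizer ({g} : Set T) ⊓
        Subgroup.centralizer ((P.subgroupOf T : Subgroup T) : Set T) := by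
    intro x hx
    constructor
    · rw [hS] at hx
      obtain ⟨y, -, rfl⟩ := hx
      exact y.2
    · rw [Subgroup.mem_subgroupOf] at hx
      exact (mem_centralizer_subgroupOf_iff T P hPT x).mpr (hPC hx.1)
  have hDcard : Nat.card ((P ⊓ Subgroup.normalizer (P : Set G)).subgroupOf T) =
      p ^ (Nat.card (Subgroup.centralizer ({g} : Set T))).factorization p := by
    rw [hS, Subgroup.card_subtype]
    exact S.card_eq_multiplicity
  have hd : p ^ (Nat.card (Subgroup.centralizer ({g} : Set T))).factorization p ∣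
      Nat.card (Subgroup.centralizer ({g} : Set T) ⊓
        Subgroup.centralizer ((P.subgroupOf T : Subgroup T) : Set T) : Subgroup T) := by
    rw [← hDcard]
    exact Subgroup.card_dvd_of_le hDle
  have hidx : ¬ p ∣ (Subgroup.centralizer ((P.subgroupOf T : Subgroup T) : Set T)).index :=
    not_dvd_of_count hpp hpt Nat.card_pos.ne' b1 hd
  -- the `p`-element
  have huT : u ∈ T := (hT u).mpr ⟨huN, hust⟩
  have hord : orderOf (⟨u, huT⟩ : T) = p ^ k := by
    rw [Subgroup.orderOf_mk, hu]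
  have hpow := Subgroup.pow_index_mem
    (Subgroup.centralizer ((P.subgroupOf T : Subgroup T) : Set T)) (⟨u, huT⟩ : T)
  have hcop : Nat.Coprime (Subgroup.centralizer ((P.subgroupOf T : Subgroup T) : Set T)).index
      (orderOf (⟨u, huT⟩ : T)) := by
    rw [hord]
    exact Nat.Coprime.pow_right k (Nat.Coprime.symm ((Nat.Prime.coprime_iff_not_dvd hpp).mpr hidx))
  obtain ⟨m, hm⟩ := exists_pow_eq_self_of_coprime hcop
  have hmem : (⟨u, huT⟩ : T) ∈ Subgroup.centralizer ((P.subgroupOf T : Subgroup T) : Set T) := by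
    rw [← hm]
    exact Subgroup.pow_mem _ hpow m
  exact (mem_centralizer_subgroupOf_iff T P hPT ⟨u, huT⟩).mp hmem

/-- **nilpotent implies trivial inertial quotient**, for abelian defect groups -/
theorem inertial_trivial_of_isNilpotentBlock [Fintype G] {p : ℕ} [hp : Fact p.Prime]
    (hM : Cfsg.IsPModular p M) (B : Set (Cfsg.IrrCharacter G)) (P : Subgroup G)
    (e : Set (Cfsg.IrrCharacter (Subgroup.centralizer (P : Set G))))
    (hmax : Cfsg.IsMaximalBrauerPair p M B P e)
    (hab : ∀ x ∈ P, ∀ y ∈ P, x * y = y * x)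
    (hnil : Cfsg.IsNilpotentBlock p M B) (x : G)
    (hxN : x ∈ Subgroup.normalizer (P : Set G))
    (hxst : Cfsg.StabilizesBlock (Subgroup.centralizer (P : Set G)) e x) :
    x ∈ Subgroup.centralizer (P : Set G) := by
  classical
  have hpp := hp.out
  have ho : orderOf x ≠ 0 := (orderOf_pos x).ne'
  obtain ⟨a, m, hm, ho'⟩ := Nat.exists_eq_pow_mul_and_not_dvd ho p hpp.ne_one
  have hm0 : m ≠ 0 := by
    rintro rfl
    exact hm (dvd_zero p)
  have h1 : orderOf (x ^ m) = p ^ a := by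
    rw [orderOf_pow_of_dvd hm0 ⟨p ^ a, by rw [ho']; ring⟩, ho',
      Nat.mul_div_cancel _ (Nat.pos_of_ne_zero hm0)]
  have h2 : orderOf (x ^ (p ^ a)) = m := by
    rw [orderOf_pow_of_dvd (pow_ne_zero a hpp.ne_zero) ⟨m, ho'⟩, ho',
      Nat.mul_div_cancel_left _ (pow_pos hpp.pos a)]
  have hx1 : x ^ m ∈ Subgroup.centralizer (P : Set G) :=
    pElement_mem_centralizer_of_stabilizes hM B P e hmax hab (x ^ m) (Subgroup.pow_mem _ hxN m)
      (stabilizesBlock_pow _ _ x hxst m) a h1
  have hx2 : x ^ (p ^ a) ∈ Subgroup.centralizer (P : Set G) :=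
    hnil.2 P e hmax.1 (x ^ (p ^ a)) (Subgroup.pow_mem _ hxN _)
      (stabilizesBlock_pow _ _ x hxst _) (by
        unfold Cfsg.IsPRegular
        rw [h2]
        exact hm)
  have hcop : Nat.Coprime (p ^ a) m :=
    Nat.Coprime.pow_left a ((Nat.Prime.coprime_iff_not_dvd hpp).mpr hm)
  have hb := Nat.gcd_eq_gcd_ab (p ^ a) m
  rw [hcop.gcd_eq_one] at hb
  have hx : x = (x ^ (p ^ a)) ^ (Nat.gcdA (p ^ a) m) * (x ^ m) ^ (Nat.gcdB (p ^ a) m) := by
    rw [← zpow_natCast, ← zpow_natCast, ← zpow_mul, ← zpow_mul, ← zpow_add, ← hb]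
    simp
  rw [hx]
  exact Subgroup.mul_mem _ (Subgroup.zpow_mem _ hx2 _) (Subgroup.zpow_mem _ hx1 _)

end Cfsg.Agent.Helper6
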