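import Mathlib
import Cfsg.Prelude.Def_Characters
import Cfsg.Prelude.Def_Blocks
import Cfsg.Prelude.Def_BlockLocal
import Cfsg.Prelude.Def_BrauerPairs
import Cfsg.Prelude.Def_BlockFusion
import Cfsg.Agent.Helper6.InertialTrivial
import Cfsg.Agent.Helper6.MaximalPairDefect
import Cfsg.Agent.Helper6.MaximalPairNormalizer
import Cfsg.Agent.Helper6.FusionCentric
import Cfsg.Agent.Helper6.StabilizerBlock
import Cfsg.Agent.S4672

/-!
# A normal centric Brauer pair: the block of `Q C_G(Q)` is nilpotent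
-/

set_option autoImplicit false
set_option linter.style.haveILetI false

namespace Cfsg.Agent.Helper6

open scoped ComplexConjugate

universe u

variable {G : Type u} [Group G] {M : Ideal Cfsg.AlgInt}

/-- the idempotent of the block of a Brauer pair `(Q, f)` with `Q` normal and `f` stable is the
idempotent of `f` -/
theorem blockCoeff_eq_of_stable_normal [Fintype G] {p : ℕ} [hp : Fact p.Prime]
    (hM : Cfsg.IsPModular p M) (Q : Subgroup G) [hQn : Q.Normal]
    (B : Set (Cfsg.IrrCharacter G))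
    (f : Set (Cfsg.IrrCharacter (Subgroup.centralizer (Q : Set G))))
    (hBQ : Cfsg.IsBrauerPairOf p M B Q f)
    (hst : ∀ x : G, Cfsg.StabilizesBlock (Subgroup.centralizer (Q : Set G)) f x) (g : G) :
    Cfsg.blockCoeff B g = Cfsg.subgroupBlockCoeff (Subgroup.centralizer (Q : Set G)) f g := by
  classical
  rw [blockCoeff_eq_sum_conjugates hM Q B f hBQ g]
  have : (Finset.univ : Finset G).image
      (fun x : G => nact (Subgroup.centralizer (Q : Set G)) x f) = {f} := by
    ext f'
    simp only [Finset.mem_image, Finset.mem_univ, true_and, Finset.mem_singleton]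
    constructor
    · rintro ⟨x, rfl⟩
      exact (nact_eq_self_iff _ x f).mpr (hst x)
    · rintro rfl
      exact ⟨1, nact_one _ _⟩
  rw [this, Finset.sum_singleton]

/-- order of a defect group of the block with the idempotent of a stable block of a normal subgroup
of `p`-power index -/
theorem card_defectGroup_of_stable [Fintype G] {p : ℕ} [hp : Fact p.Prime]
    (hM : Cfsg.IsPModular p M) (N : Subgroup G) [hN : N.Normal] (k : ℕ) (hk : N.index = p ^ k)
    (c : Set (Cfsg.IrrCharacter N)) (hc : Cfsg.IsPBlock M c)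
    (hst : ∀ x : G, Cfsg.StabilizesBlock N c x)
    (B : Set (Cfsg.IrrCharacter G)) (hB : Cfsg.IsPBlock M B)
    (hBc : ∀ g : G, Cfsg.blockCoeff B g = Cfsg.subgroupBlockCoeff N c g)
    (D : Subgroup G) (hD : Cfsg.IsDefectGroup p M B D)
    (Dc : Subgroup N) (hDc : Cfsg.IsDefectGroup p M c Dc) :
    Nat.card D = Nat.card Dc * N.index := by
  classical
  haveI : Fintype N := Fintype.ofFinite _
  obtain ⟨h1, h2⟩ := (Cfsg.Agent.S4672.result p M hM N ⟨k, hk⟩ c hc hst).2 B hB hBc D hD
  have c1 := card_defectGroup hM.2.1 p hM.2.2 c hc _ h2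
  have c2 := card_defectGroup hM.2.1 p hM.2.2 c hc _ hDc
  rw [Nat.card_congr (Subgroup.subgroupOfEquivOfLe (inf_le_right : D ⊓ N ≤ N)).toEquiv] at c1
  have c3 : Nat.card (D ⊓ N : Subgroup G) * N.relIndex D = Nat.card D := by
    have h1 := Subgroup.relIndex_mul_relIndex (⊥ : Subgroup G) (D ⊓ N) D bot_le inf_le_left
    rw [Subgroup.relIndex_bot_left, Subgroup.relIndex_bot_left, Subgroup.inf_relIndex_left] at h1
    exact h1
  have c4 : N.relIndex D = N.index := by
    rw [← Subgroup.relIndex_sup_right D N, sup_comm, h1, Subgroup.relIndex_top_right]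
  rw [← c3, c4, c1, c2]

/-- a normal `p`-subgroup whose centralizer supports the idempotent of a block lies in the defect
groups of the block -/
theorem normal_le_defectGroup [Finite G] (hM : M.IsMaximal) {p : ℕ} [hp : Fact p.Prime]
    (Q : Subgroup G) [hQn : Q.Normal] (hQ : IsPGroup p Q) (B : Set (Cfsg.IrrCharacter G))
    (hsupp : ∀ g : G, g ∉ Subgroup.centralizer (Q : Set G) → Cfsg.blockCoeff B g = 0)
    (D : Subgroup G) (hD : Cfsg.IsDefectGroup p M B D) : Q ≤ D := by
  obtain ⟨g, hg, S, rfl⟩ := hD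
  have hgC : g ∈ Subgroup.centralizer (Q : Set G) := by
    by_contra hcon
    apply hg.2.1
    rw [hsupp g hcon]
    exact memLocalIdeal_zero hM
  have hQC : Q ≤ Subgroup.centralizer ({g} : Set G) := by
    intro q hq
    rw [Subgroup.mem_centralizer_singleton_iff]
    exact (Subgroup.mem_centralizer_iff.mp hgC q hq)
  haveI : (Q.subgroupOf (Subgroup.centralizer ({g} : Set G))).Normal := by
    infer_instance
  have h1 : Q.subgroupOf (Subgroup.centralizer ({g} : Set G)) ≤ S :=
    IsPGroup.le_sylow_of_normal hQ.comap_subtype S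
  intro q hq
  exact ⟨⟨q, hQC hq⟩, h1 (Subgroup.mem_subgroupOf.mpr hq), rfl⟩

set_option maxHeartbeats 1000000 in
/-- **a stable block of `C_G(Q)` with defect group `Z(Q)`, `Q` normal: the block of `Q C_G(Q)` with
the same idempotent is nilpotent** -/
theorem isNilpotentBlock_of_central_defect [Fintype G] {p : ℕ} [hp : Fact p.Prime]
    (hM : Cfsg.IsPModular p M) (Q : Subgroup G) [hQn : Q.Normal] (hQ : IsPGroup p Q)
    (f : Set (Cfsg.IrrCharacter (Subgroup.centralizer (Q : Set G)))) (hf : Cfsg.IsPBlock M f)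
    (hdef : Cfsg.IsDefectGroup p M f
      ((Q ⊓ Subgroup.centralizer (Q : Set G)).subgroupOf (Subgroup.centralizer (Q : Set G))))
    (F' : Set (Cfsg.IrrCharacter ↥(Q ⊔ Subgroup.centralizer (Q : Set G))))
    (hF' : Cfsg.IsPBlock M F')
    (hcoef : ∀ t : ↥(Q ⊔ Subgroup.centralizer (Q : Set G)), Cfsg.blockCoeff F' t =
      Cfsg.subgroupBlockCoeff (Subgroup.centralizer (Q : Set G)) f (t : G)) :
    Cfsg.IsNilpotentBlock p M F' := by
  classical
  have hpp := hp.out
  obtain ⟨K, hKdef⟩ : ∃ K : Subgroup G, K = Q ⊔ Subgroup.centralizer (Q : Set G) := ⟨_, rfl⟩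
  subst hKdef
  haveI : Fintype ↥(Q ⊔ Subgroup.centralizer (Q : Set G)) := Fintype.ofFinite _
  have hQK : Q ≤ Q ⊔ Subgroup.centralizer (Q : Set G) := le_sup_left
  have hCK : Subgroup.centralizer (Q : Set G) ≤ Q ⊔ Subgroup.centralizer (Q : Set G) :=
    le_sup_right
  have hKN : Q ⊔ Subgroup.centralizer (Q : Set G) ≤ Subgroup.normalizer (Q : Set G) :=
    sup_le Subgroup.le_normalizer (Subgroup.centralizer_le_normalizer _)
  haveI hPn : (Q.subgroupOf (Q ⊔ Subgroup.centralizer (Q : Set G))).Normal :=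
    (Subgroup.normal_subgroupOf_iff_le_normalizer hQK).mpr hKN
  haveI : Fintype (Subgroup.centralizer
      ((Q.subgroupOf (Q ⊔ Subgroup.centralizer (Q : Set G)) :
        Subgroup ↥(Q ⊔ Subgroup.centralizer (Q : Set G))) :
        Set ↥(Q ⊔ Subgroup.centralizer (Q : Set G)))) := Fintype.ofFinite _
  -- the index of `N' = C_K(Q)`
  have hN'eq : Subgroup.centralizer
      ((Q.subgroupOf (Q ⊔ Subgroup.centralizer (Q : Set G)) :
        Subgroup ↥(Q ⊔ Subgroup.centralizer (Q : Set G))) :
        Set ↥(Q ⊔ Subgroup.centralizer (Q : Set G))) =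
      (Subgroup.centralizer (Q : Set G)).subgroupOf (Q ⊔ Subgroup.centralizer (Q : Set G)) := by
    ext x
    rw [mem_centralizer_subgroupOf_iff _ Q hQK x, Subgroup.mem_subgroupOf]
  have hidx : (Subgroup.centralizer
      ((Q.subgroupOf (Q ⊔ Subgroup.centralizer (Q : Set G)) :
        Subgroup ↥(Q ⊔ Subgroup.centralizer (Q : Set G))) :
        Set ↥(Q ⊔ Subgroup.centralizer (Q : Set G)))).index =
      (Subgroup.centralizer (Q : Set G)).relIndex Q := by
    rw [hN'eq]
    exact Subgroup.relIndex_sup_right Q (Subgroup.centralizer (Q : Set G))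
  obtain ⟨k, hk⟩ : ∃ k : ℕ, (Subgroup.centralizer (Q : Set G)).relIndex Q = p ^ k := by
    obtain ⟨n, hn⟩ := IsPGroup.iff_card.mp hQ
    have h1 : (Subgroup.centralizer (Q : Set G)).relIndex Q ∣ p ^ n := by
      rw [← hn]
      exact Subgroup.relIndex_dvd_card _ _
    obtain ⟨k, -, hk⟩ := (Nat.dvd_prime_pow hpp).mp h1
    exact ⟨k, hk⟩
  have hQcard : Nat.card (Q ⊓ Subgroup.centralizer (Q : Set G) : Subgroup G) *
      (Subgroup.centralizer (Q : Set G)).relIndex Q = Nat.card Q := by
    have h1 := Subgroup.relIndex_mul_relIndex (⊥ : Subgroup G)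
      (Q ⊓ Subgroup.centralizer (Q : Set G)) Q bot_le inf_le_left
    rw [Subgroup.relIndex_bot_left, Subgroup.relIndex_bot_left, Subgroup.inf_relIndex_left] at h1
    exact h1
  -- the stable block of `N'`
  have hc : Cfsg.IsPBlock M (localBlock (Q ⊔ Subgroup.centralizer (Q : Set G)) Q hQK hCK f) :=
    isPBlock_localBlock _ Q hQK hCK f hf
  have hst : ∀ x : ↥(Q ⊔ Subgroup.centralizer (Q : Set G)), Cfsg.StabilizesBlock
      (Subgroup.centralizer
        ((Q.subgroupOf (Q ⊔ Subgroup.centralizer (Q : Set G)) :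
          Subgroup ↥(Q ⊔ Subgroup.centralizer (Q : Set G))) :
          Set ↥(Q ⊔ Subgroup.centralizer (Q : Set G))))
      (localBlock (Q ⊔ Subgroup.centralizer (Q : Set G)) Q hQK hCK f) x := fun x =>
    (stabilizesBlock_localBlock_iff _ Q hQK hCK hKN f x).mpr
      (stabilizesBlock_of_mem_sup Q f (x : G) x.2)
  have hBc : ∀ t : ↥(Q ⊔ Subgroup.centralizer (Q : Set G)), Cfsg.blockCoeff F' t =
      Cfsg.subgroupBlockCoeff
        (Subgroup.centralizer
          ((Q.subgroupOf (Q ⊔ Subgroup.centralizer (Q : Set G)) :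
            Subgroup ↥(Q ⊔ Subgroup.centralizer (Q : Set G))) :
            Set ↥(Q ⊔ Subgroup.centralizer (Q : Set G))))
        (localBlock (Q ⊔ Subgroup.centralizer (Q : Set G)) Q hQK hCK f) t := fun t => by
    rw [subgroupBlockCoeff_localBlock]; exact hcoef t
  -- a defect group of the stable block
  have hDc := isDefectGroup_comap_mulEquiv (M := M) (p := p)
    (centSubEquiv (Q ⊔ Subgroup.centralizer (Q : Set G)) Q hQK hCK) f _ hdef
  have hDccard : Nat.card (((Q ⊓ Subgroup.centralizer (Q : Set G)).subgroupOf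
      (Subgroup.centralizer (Q : Set G))).comap
      (centSubEquiv (Q ⊔ Subgroup.centralizer (Q : Set G)) Q hQK hCK).toMonoidHom) =
      Nat.card (Q ⊓ Subgroup.centralizer (Q : Set G) : Subgroup G) := by
    rw [card_comap_mulEquiv, Nat.card_congr (Subgroup.subgroupOfEquivOfLe
      (inf_le_right : Q ⊓ Subgroup.centralizer (Q : Set G) ≤
        Subgroup.centralizer (Q : Set G))).toEquiv]
  refine ⟨hF', ?_⟩
  intro R' g' hR'g' y hyN hyst hyreg
  -- `R'` lies in a defect group, which is `Q`
  obtain ⟨D, ε, hle, hmaxD⟩ := exists_isMaximalBrauerPair_ge (M := M) (p := p) F' _ R' g' hR'g' rfl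
  have hD := isDefectGroup_of_isMaximalBrauerPair hM F' D ε hmaxD
  have hcardD := card_defectGroup_of_stable hM _ k (hidx.trans hk) _ hc hst F' hF' hBc D hD _ hDc
  rw [hDccard, hidx, hQcard] at hcardD
  have hQD : Q.subgroupOf (Q ⊔ Subgroup.centralizer (Q : Set G)) ≤ D := by
    apply normal_le_defectGroup hM.2.1 _ hQ.comap_subtype F' _ D hD
    intro t ht
    rw [hcoef t, subgroupBlockCoeff_of_not_mem]
    intro hcon
    exact ht ((mem_centralizer_subgroupOf_iff _ Q hQK t).mpr hcon)
  have hDQ : D = Q.subgroupOf (Q ⊔ Subgroup.centralizer (Q : Set G)) := by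
    symm
    apply Subgroup.eq_of_le_of_card_ge hQD
    rw [hcardD, Nat.card_congr (Subgroup.subgroupOfEquivOfLe hQK).toEquiv]
  have hR'Q : R' ≤ Q.subgroupOf (Q ⊔ Subgroup.centralizer (Q : Set G)) := by
    rw [← hDQ]
    exact SubpairLE.le hle
  -- `y` centralizes `Q`
  have hyC : y ∈ Subgroup.centralizer
      ((Q.subgroupOf (Q ⊔ Subgroup.centralizer (Q : Set G)) :
        Subgroup ↥(Q ⊔ Subgroup.centralizer (Q : Set G))) :
        Set ↥(Q ⊔ Subgroup.centralizer (Q : Set G))) := by
    have hpow := Subgroup.pow_index_mem (Subgroup.centralizer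
      ((Q.subgroupOf (Q ⊔ Subgroup.centralizer (Q : Set G)) :
        Subgroup ↥(Q ⊔ Subgroup.centralizer (Q : Set G))) :
        Set ↥(Q ⊔ Subgroup.centralizer (Q : Set G)))) y
    rw [hidx, hk] at hpow
    have hcop : Nat.Coprime (p ^ k) (orderOf y) :=
      Nat.Coprime.pow_left k ((Nat.Prime.coprime_iff_not_dvd hpp).mpr hyreg)
    obtain ⟨m, hm⟩ := exists_pow_eq_self_of_coprime hcop
    rw [← hm]
    exact Subgroup.pow_mem _ hpow m
  exact Subgroup.centralizer_le (by exact_mod_cast hR'Q) hyC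

end Cfsg.Agent.Helper6
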