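import Mathlib
import Cfsg.Prelude.Def_Characters
import Cfsg.Prelude.Def_Blocks
import Cfsg.Prelude.Def_BlockLocal
import Cfsg.Prelude.Def_BrauerPairs
import Cfsg.Agent.Helper6.CentricNormal

/-!
# Lifting Brauer pairs of a subgroup `T` with full centralizers to Brauer pairs of the group
-/

set_option autoImplicit false
set_option linter.style.haveILetI false

namespace Cfsg.Agent.Helper6

open scoped ComplexConjugate

universe u

variable {G : Type u} [Group G] {M : Ideal Cfsg.AlgInt}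

/-- the lift to `G` of a set of characters of `C_T(D)`, when `C_G(D) ≤ T` -/
noncomputable def upBlock (T : Subgroup G) (D : Subgroup T)
    (hC : Subgroup.centralizer ((D.map T.subtype : Subgroup G) : Set G) ≤ T)
    (ε : Set (Cfsg.IrrCharacter (Subgroup.centralizer (D : Set T)))) :
    Set (Cfsg.IrrCharacter (Subgroup.centralizer ((D.map T.subtype : Subgroup G) : Set G))) :=
  irrComp (centMapEquiv T D hC).symm '' ε

theorem mem_centralizer_map_subtype_iff (T : Subgroup G) (D : Subgroup T) (t : T) :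
    (t : G) ∈ Subgroup.centralizer ((D.map T.subtype : Subgroup G) : Set G) ↔
      t ∈ Subgroup.centralizer (D : Set T) := by
  rw [Subgroup.mem_centralizer_iff, Subgroup.mem_centralizer_iff]
  constructor
  · intro h s hs
    apply Subtype.ext
    exact h (s : G) ⟨s, hs, rfl⟩
  · rintro h _ ⟨s, hs, rfl⟩
    exact congrArg Subtype.val (h s hs)

theorem subgroupBlockCoeff_upBlock [Finite G] (T : Subgroup G) (D : Subgroup T)
    (hC : Subgroup.centralizer ((D.map T.subtype : Subgroup G) : Set G) ≤ T)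
    (ε : Set (Cfsg.IrrCharacter (Subgroup.centralizer (D : Set T)))) (t : T) :
    Cfsg.subgroupBlockCoeff (Subgroup.centralizer ((D.map T.subtype : Subgroup G) : Set G))
      (upBlock T D hC ε) (t : G) =
    Cfsg.subgroupBlockCoeff (Subgroup.centralizer (D : Set T)) ε t := by
  by_cases ht : t ∈ Subgroup.centralizer (D : Set T)
  · have ht' := (mem_centralizer_map_subtype_iff T D t).mpr ht
    rw [subgroupBlockCoeff_of_mem _ _ _ ht, subgroupBlockCoeff_of_mem _ _ _ ht']
    unfold upBlock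
    rw [blockCoeff_image_irrComp]
    rfl
  · have ht' : (t : G) ∉ Subgroup.centralizer ((D.map T.subtype : Subgroup G) : Set G) :=
      fun h => ht ((mem_centralizer_map_subtype_iff T D t).mp h)
    rw [subgroupBlockCoeff_of_not_mem _ _ _ ht, subgroupBlockCoeff_of_not_mem _ _ _ ht']

theorem isPBlock_upBlock (T : Subgroup G) (D : Subgroup T)
    (hC : Subgroup.centralizer ((D.map T.subtype : Subgroup G) : Set G) ≤ T)
    (ε : Set (Cfsg.IrrCharacter (Subgroup.centralizer (D : Set T)))) (hε : Cfsg.IsPBlock M ε) :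
    Cfsg.IsPBlock M (upBlock T D hC ε) := by
  obtain ⟨ζ, rfl⟩ := hε
  exact ⟨_, image_irrComp_blockOf _ ζ⟩

/-- **a normal inclusion of Brauer pairs of `T` with full centralizers lifts to `G`** -/
theorem isNormalSubpair_upBlock [Finite G] {p : ℕ} (T : Subgroup G) (D₁ D₂ : Subgroup T)
    (ε₁ : Set (Cfsg.IrrCharacter (Subgroup.centralizer (D₁ : Set T))))
    (ε₂ : Set (Cfsg.IrrCharacter (Subgroup.centralizer (D₂ : Set T))))
    (hC₁ : Subgroup.centralizer ((D₁.map T.subtype : Subgroup G) : Set G) ≤ T)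
    (hC₂ : Subgroup.centralizer ((D₂.map T.subtype : Subgroup G) : Set G) ≤ T)
    (h : Cfsg.IsNormalSubpair p M D₁ ε₁ D₂ ε₂) :
    Cfsg.IsNormalSubpair p M (D₁.map T.subtype) (upBlock T D₁ hC₁ ε₁)
      (D₂.map T.subtype) (upBlock T D₂ hC₂ ε₂) := by
  obtain ⟨⟨hD₁, hε₁⟩, ⟨hD₂, hε₂⟩, hle, hN, hst, hΩ⟩ := h
  have hNG : D₂.map T.subtype ≤
      Subgroup.normalizer ((D₁.map T.subtype : Subgroup G) : Set G) :=
    (Subgroup.map_mono hN).trans (Subgroup.le_normalizer_map T.subtype)
  refine ⟨⟨hD₁.map _, isPBlock_upBlock T D₁ hC₁ ε₁ hε₁⟩,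
    ⟨hD₂.map _, isPBlock_upBlock T D₂ hC₂ ε₂ hε₂⟩, Subgroup.map_mono hle, hNG, ?_, ?_⟩
  · rintro _ ⟨t, ht, rfl⟩
    obtain ⟨-, hst2⟩ := hst t ht
    refine ⟨normalizer_le_normalizer_centralizer _ (hNG ⟨t, ht, rfl⟩), ?_⟩
    rintro _ ⟨χ, hχ, rfl⟩
    obtain ⟨χ', hχ', hc⟩ := hst2 χ hχ
    refine ⟨irrComp (centMapEquiv T D₁ hC₁).symm χ', ⟨χ', hχ', rfl⟩, ?_⟩
    intro k k' hk
    rw [irrComp_apply, irrComp_apply]
    apply hc
    apply Subtype.ext
    rw [coe_centMapEquiv_symm, hk]
    rfl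
  · rintro _ ⟨χ, hχ, rfl⟩
    have h1 := hΩ χ hχ
    rw [← brauerOmega_transport D₂ (D₂.map T.subtype) (centMapEquiv T D₂ hC₂).symm
      (Cfsg.subgroupBlockCoeff (Subgroup.centralizer (D₁ : Set T)) ε₁)
      (Cfsg.subgroupBlockCoeff (Subgroup.centralizer ((D₁.map T.subtype : Subgroup G) : Set G))
        (upBlock T D₁ hC₁ ε₁))
      (fun c' => by
        rw [← coe_centMapEquiv_symm T D₂ hC₂ c', subgroupBlockCoeff_upBlock])] at h1
    exact h1

/-- the lift of a Brauer pair index of `T` with full centralizer -/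
noncomputable def upPair (T : Subgroup G) (b : Cfsg.BrauerPairIdx T)
    (hC : Subgroup.centralizer ((b.1.map T.subtype : Subgroup G) : Set G) ≤ T) :
    Cfsg.BrauerPairIdx G :=
  ⟨b.1.map T.subtype, upBlock T b.1 hC b.2⟩

/-- **inclusions of Brauer pairs of `T` with full centralizers lift to `G`** -/
theorem reflTransGen_upPair [Finite G] {p : ℕ} (T : Subgroup G) (b₁ b₂ : Cfsg.BrauerPairIdx T)
    (h : Relation.ReflTransGen (Cfsg.NormalSubpairRel p M) b₁ b₂)
    (hC₁ : Subgroup.centralizer ((b₁.1.map T.subtype : Subgroup G) : Set G) ≤ T) :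
    ∃ hC₂ : Subgroup.centralizer ((b₂.1.map T.subtype : Subgroup G) : Set G) ≤ T,
      Relation.ReflTransGen (Cfsg.NormalSubpairRel p M) (upPair T b₁ hC₁) (upPair T b₂ hC₂) := by
  induction h with
  | refl => exact ⟨hC₁, Relation.ReflTransGen.refl⟩
  | @tail b c _ hbc ih =>
    obtain ⟨hCb, hchain⟩ := ih
    have hle : b.1 ≤ c.1 := hbc.2.2.1
    have hCc : Subgroup.centralizer ((c.1.map T.subtype : Subgroup G) : Set G) ≤ T := by
      refine le_trans (Subgroup.centralizer_le ?_) hCb
      exact_mod_cast Subgroup.map_mono hle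
    exact ⟨hCc, Relation.ReflTransGen.tail hchain
      (isNormalSubpair_upBlock T _ _ _ _ hCb hCc hbc)⟩

/-- lifting the restriction of a pair of `G` gives the pair back -/
theorem upPair_localBlock (T R : Subgroup G) (hRT : R ≤ T)
    (hCRT : Subgroup.centralizer (R : Set G) ≤ T)
    (h : Set (Cfsg.IrrCharacter (Subgroup.centralizer (R : Set G))))
    (hC : Subgroup.centralizer (((R.subgroupOf T).map T.subtype : Subgroup G) : Set G) ≤ T) :
    upPair T ⟨R.subgroupOf T, localBlock T R hRT hCRT h⟩ hC = ⟨R, h⟩ := by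
  unfold upPair
  apply brauerPairIdx_ext _ _ _ _ (Subgroup.map_subgroupOf_eq_of_le hRT)
  intro ξ ξ' hag
  have key : Subgroup.centralizer (((R.subgroupOf T).map T.subtype : Subgroup G) : Set G) =
      Subgroup.centralizer (R : Set G) := by rw [Subgroup.map_subgroupOf_eq_of_le hRT]
  constructor
  · rintro ⟨χ, ⟨θ, hθ, rfl⟩, rfl⟩
    have : ξ' = θ := by
      apply Subtype.ext
      funext c'
      have hc' : (c' : G) ∈ Subgroup.centralizer
          (((R.subgroupOf T).map T.subtype : Subgroup G) : Set G) := by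
        rw [key]; exact c'.2
      rw [← hag ⟨(c' : G), hc'⟩ c' rfl, irrComp_apply, irrComp_apply]
      exact congrArg (θ : Subgroup.centralizer (R : Set G) → ℂ) (Subtype.ext rfl)
    rw [this]
    exact hθ
  · intro hξ'
    refine ⟨irrComp (centSubEquiv T R hRT hCRT) ξ', ⟨ξ', hξ', rfl⟩, ?_⟩
    apply Subtype.ext
    funext c
    have hc : (c : G) ∈ Subgroup.centralizer (R : Set G) := by
      rw [← key]; exact c.2
    rw [hag c ⟨(c : G), hc⟩ rfl, irrComp_apply, irrComp_apply]
    exact congrArg (ξ' : Subgroup.centralizer (R : Set G) → ℂ) (Subtype.ext rfl)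

theorem map_conj_map_subtype (T : Subgroup G) (D : Subgroup T) (t : T) :
    (D.map (MulAut.conj t).toMonoidHom).map T.subtype =
      (D.map T.subtype).map (MulAut.conj (t : G)).toMonoidHom := by
  ext x
  constructor
  · rintro ⟨_, ⟨s, hs, rfl⟩, rfl⟩
    exact ⟨(s : G), ⟨s, hs, rfl⟩, by simp [MulAut.conj_apply]⟩
  · rintro ⟨_, ⟨s, hs, rfl⟩, rfl⟩
    exact ⟨t * s * t⁻¹, ⟨s, hs, by simp [MulAut.conj_apply]⟩, by simp [MulAut.conj_apply]⟩

/-- lifting commutes with conjugation by elements of `T` -/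
theorem upPair_conjPair (T : Subgroup G) (b : Cfsg.BrauerPairIdx T) (t : T)
    (hC : Subgroup.centralizer ((b.1.map T.subtype : Subgroup G) : Set G) ≤ T)
    (hC' : Subgroup.centralizer (((conjPair t b).1.map T.subtype : Subgroup G) : Set G) ≤ T) :
    upPair T (conjPair t b) hC' = conjPair (t : G) (upPair T b hC) := by
  obtain ⟨D, ε⟩ := b
  unfold upPair conjPair
  apply brauerPairIdx_ext _ _ _ _ (map_conj_map_subtype T D t)
  intro ξ ξ' hag
  simp only at ξ ξ' hag ⊢
  have key : Subgroup.centralizer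
      (((D.map (MulAut.conj t).toMonoidHom).map T.subtype : Subgroup G) : Set G) =
      Subgroup.centralizer
        (((D.map T.subtype).map (MulAut.conj (t : G)).toMonoidHom : Subgroup G) : Set G) := by
    rw [map_conj_map_subtype]
  constructor
  · rintro ⟨ζ, hζ, rfl⟩
    rw [conjBlock_eq_image] at hζ
    obtain ⟨χ, hχ, rfl⟩ := hζ
    rw [conjBlock_eq_image]
    refine ⟨irrComp (centMapEquiv T D hC).symm χ, ⟨χ, hχ, rfl⟩, ?_⟩
    apply Subtype.ext
    funext c'
    have hc' : (c' : G) ∈ Subgroup.centralizer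
        (((D.map (MulAut.conj t).toMonoidHom).map T.subtype : Subgroup G) : Set G) := by
      rw [key]; exact c'.2
    rw [← hag ⟨(c' : G), hc'⟩ c' rfl, irrComp_apply, irrComp_apply, irrComp_apply,
      irrComp_apply]
    exact congrArg (χ : Subgroup.centralizer (D : Set T) → ℂ) (Subtype.ext (Subtype.ext rfl))
  · intro hξ'
    rw [conjBlock_eq_image] at hξ'
    obtain ⟨_, ⟨χ, hχ, rfl⟩, rfl⟩ := hξ'
    refine ⟨irrComp (centConjEquiv D t).symm χ, ?_, ?_⟩
    · rw [conjBlock_eq_image]; exact ⟨χ, hχ, rfl⟩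
    · apply Subtype.ext
      funext c
      have hc : (c : G) ∈ Subgroup.centralizer
          (((D.map T.subtype).map (MulAut.conj (t : G)).toMonoidHom : Subgroup G) : Set G) := by
        rw [← key]; exact c.2
      rw [hag c ⟨(c : G), hc⟩ rfl, irrComp_apply, irrComp_apply, irrComp_apply, irrComp_apply]
      exact congrArg (χ : Subgroup.centralizer (D : Set T) → ℂ) (Subtype.ext (Subtype.ext rfl))

end Cfsg.Agent.Helper6
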