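import Mathlib
import Cfsg.Prelude.Def_Characters
import Cfsg.Prelude.Def_Blocks
import Cfsg.Prelude.Def_BlockLocal
import Cfsg.Prelude.Def_BrauerPairs
import Cfsg.Prelude.Def_FusionSystem
import Cfsg.Prelude.Def_BlockFusion
import Cfsg.Agent.Helper6.SubgroupPairLift

/-!
# Nilpotent blocks have inner fusion
-/

set_option autoImplicit false
set_option linter.style.haveILetI false

namespace Cfsg.Agent.Helper6

open scoped ComplexConjugate

universe u

variable {G : Type u} [Group G] {M : Ideal Cfsg.AlgInt}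

/-- the `p'`-part power of an element is `p`-regular -/
theorem exists_pow_isPRegular [Finite G] (p : ℕ) [hp : Fact p.Prime] (x : G) :
    ∃ a : ℕ, Cfsg.IsPRegular p (x ^ (p ^ a)) := by
  have hpp := hp.out
  have ho : orderOf x ≠ 0 := (orderOf_pos x).ne'
  obtain ⟨a, m, hm, ho'⟩ := Nat.exists_eq_pow_mul_and_not_dvd ho p hpp.ne_one
  refine ⟨a, ?_⟩
  unfold Cfsg.IsPRegular
  rw [orderOf_pow_of_dvd (pow_ne_zero a hpp.ne_zero) ⟨m, ho'⟩, ho',
    Nat.mul_div_cancel_left _ (pow_pos hpp.pos a)]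
  exact hm

/-- in a nilpotent block the stabilizer of a Brauer pair `(Q, f)` is an extension of `C_G(Q)` by a
`p`-group -/
theorem exists_index_centralizer_stabilizer [Fintype G] {p : ℕ} [hp : Fact p.Prime]
    (B : Set (Cfsg.IrrCharacter G)) (hnil : Cfsg.IsNilpotentBlock p M B) (Q : Subgroup G)
    (f : Set (Cfsg.IrrCharacter (Subgroup.centralizer (Q : Set G))))
    (hBQ : Cfsg.IsBrauerPairOf p M B Q f) (T : Subgroup G)
    (hT : ∀ y : G, y ∈ T ↔ y ∈ Subgroup.normalizer (Q : Set G) ∧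
      Cfsg.StabilizesBlock (Subgroup.centralizer (Q : Set G)) f y)
    (hQT : Q ≤ T)
    [hN : (Subgroup.centralizer ((Q.subgroupOf T : Subgroup T) : Set T)).Normal] :
    ∃ k : ℕ, (Subgroup.centralizer ((Q.subgroupOf T : Subgroup T) : Set T)).index = p ^ k := by
  classical
  have hpg : IsPGroup p (T ⧸ Subgroup.centralizer ((Q.subgroupOf T : Subgroup T) : Set T)) := by
    intro xbar
    obtain ⟨x, rfl⟩ := QuotientGroup.mk_surjective xbar
    obtain ⟨a, ha⟩ := exists_pow_isPRegular p (x : G)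
    refine ⟨a, ?_⟩
    rw [← QuotientGroup.mk_pow, QuotientGroup.eq_one_iff,
      mem_centralizer_subgroupOf_iff T Q hQT]
    obtain ⟨hxN, hxst⟩ := (hT x).mp x.2
    have := hnil.2 Q f hBQ ((x : G) ^ (p ^ a)) (Subgroup.pow_mem _ hxN _)
      (stabilizesBlock_pow _ _ _ hxst _) ha
    exact_mod_cast this
  obtain ⟨k, hk⟩ := IsPGroup.iff_card.mp hpg
  exact ⟨k, hk⟩

set_option maxHeartbeats 1000000 in
/-- **in a nilpotent block, the stabilizer of a fully normalized pair `(Q, f) ≤ (P, e)` is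
`C_G(Q) N_P(Q)`** -/
theorem stabilizer_eq_mul_of_nilpotent [Fintype G] {p : ℕ} [hp : Fact p.Prime]
    (hM : Cfsg.IsPModular p M) (B : Set (Cfsg.IrrCharacter G))
    (hnil : Cfsg.IsNilpotentBlock p M B) (Q : Subgroup G)
    (f : Set (Cfsg.IrrCharacter (Subgroup.centralizer (Q : Set G)))) (hf : Cfsg.IsPBlock M f)
    (hBQ : Cfsg.IsBrauerPairOf p M B Q f) (T : Subgroup G)
    (hT : ∀ y : G, y ∈ T ↔ y ∈ Subgroup.normalizer (Q : Set G) ∧
      Cfsg.StabilizesBlock (Subgroup.centralizer (Q : Set G)) f y)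
    (F' : Set (Cfsg.IrrCharacter T)) (hF' : Cfsg.IsPBlock M F')
    (hcoef : ∀ t : T, Cfsg.blockCoeff F' t =
      Cfsg.subgroupBlockCoeff (Subgroup.centralizer (Q : Set G)) f (t : G))
    (D : Subgroup G) (hD : Cfsg.IsDefectGroup p M F' (D.subgroupOf T))
    (t : G) (ht : t ∈ T) :
    ∃ c ∈ Subgroup.centralizer (Q : Set G), ∃ v ∈ D, t = c * v := by
  classical
  haveI : Fintype T := Fintype.ofFinite _
  have hQT : Q ≤ T := fun q hq =>
    (hT q).mpr ⟨Subgroup.le_normalizer hq, stabilizesBlock_of_mem Q f q hq⟩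
  have hCT : Subgroup.centralizer (Q : Set G) ≤ T := fun c hc =>
    (hT c).mpr ⟨Subgroup.centralizer_le_normalizer _ hc,
      stabilizesBlock_of_mem_centralizer _ _ c hc⟩
  have hTN : T ≤ Subgroup.normalizer (Q : Set G) := fun y hy => ((hT y).mp hy).1
  haveI hPn : (Q.subgroupOf T).Normal :=
    (Subgroup.normal_subgroupOf_iff_le_normalizer hQT).mpr hTN
  haveI : Fintype (Subgroup.centralizer ((Q.subgroupOf T : Subgroup T) : Set T)) :=
    Fintype.ofFinite _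
  obtain ⟨k, hk⟩ := exists_index_centralizer_stabilizer B hnil Q f hBQ T hT hQT
  have hc : Cfsg.IsPBlock M (localBlock T Q hQT hCT f) := isPBlock_localBlock T Q hQT hCT f hf
  have hst : ∀ x : T, Cfsg.StabilizesBlock
      (Subgroup.centralizer ((Q.subgroupOf T : Subgroup T) : Set T))
      (localBlock T Q hQT hCT f) x := fun x =>
    (stabilizesBlock_localBlock_iff T Q hQT hCT hTN f x).mpr ((hT x).mp x.2).2
  have hBc : ∀ t : T, Cfsg.blockCoeff F' t = Cfsg.subgroupBlockCoeff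
      (Subgroup.centralizer ((Q.subgroupOf T : Subgroup T) : Set T))
      (localBlock T Q hQT hCT f) t := fun t => by
    rw [subgroupBlockCoeff_localBlock]; exact hcoef t
  obtain ⟨h1, -⟩ := (Cfsg.Agent.S4672.result p M hM
    (Subgroup.centralizer ((Q.subgroupOf T : Subgroup T) : Set T)) ⟨k, hk⟩ _ hc hst).2 F' hF' hBc
    _ hD
  have hmem : (⟨t, ht⟩ : T) ∈ (Subgroup.centralizer ((Q.subgroupOf T : Subgroup T) : Set T)) ⊔
      D.subgroupOf T := by
    rw [h1]; exact Subgroup.mem_top _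
  rw [← SetLike.mem_coe, Subgroup.normal_mul] at hmem
  obtain ⟨c, hc', v, hv, hcv⟩ := Set.mem_mul.mp hmem
  refine ⟨(c : G), (mem_centralizer_subgroupOf_iff T Q hQT c).mp hc', (v : G),
    Subgroup.mem_subgroupOf.mp hv, ?_⟩
  have := congrArg Subtype.val hcv
  exact this.symm

/-- an element fixing a Brauer pair index normalizes the subgroup and stabilizes the block -/
theorem stabilizes_of_conjPair_eq_self (Q : Subgroup G)
    (f : Set (Cfsg.IrrCharacter (Subgroup.centralizer (Q : Set G)))) (x : G)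
    (h : conjPair x ⟨Q, f⟩ = (⟨Q, f⟩ : Cfsg.BrauerPairIdx G)) :
    x ∈ Subgroup.normalizer (Q : Set G) ∧
      Cfsg.StabilizesBlock (Subgroup.centralizer (Q : Set G)) f x := by
  obtain ⟨hA, hag⟩ := exists_agree_of_sigma_eq _ _ _ _ h
  have hxN : x ∈ Subgroup.normalizer (Q : Set G) :=
    Subgroup.mem_normalizer_iff_map_conj_eq.mpr hA
  refine ⟨hxN, normalizer_le_normalizer_centralizer Q hxN, fun χ hχ => ?_⟩
  have hξ : irrComp (centConjEquiv Q x).symm χ ∈ Cfsg.conjBlock Q x f := by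
    rw [conjBlock_eq_image]; exact ⟨χ, hχ, rfl⟩
  obtain ⟨χ', hχ', hc⟩ := hag _ hξ
  refine ⟨χ', hχ', fun k k' hk => ?_⟩
  have key : Subgroup.centralizer ((Q.map (MulAut.conj x).toMonoidHom : Subgroup G) : Set G) =
      Subgroup.centralizer (Q : Set G) := by rw [hA]
  have hk' : (k' : G) ∈ Subgroup.centralizer
      ((Q.map (MulAut.conj x).toMonoidHom : Subgroup G) : Set G) := by
    rw [key]; exact k'.2
  rw [← hc ⟨(k' : G), hk'⟩ k' rfl, irrComp_apply]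
  refine congrArg (χ : Subgroup.centralizer (Q : Set G) → ℂ) ?_
  apply Subtype.ext
  show x⁻¹ * (k' : G) * x = (k : G)
  rw [hk]
  group

/-- a proper subgroup of a finite `p`-group is properly contained in its normalizer -/
theorem card_lt_card_inf_normalizer [Finite G] {p : ℕ} [hp : Fact p.Prime] (P Q : Subgroup G)
    (hP : IsPGroup p P) (hQP : Q ≤ P) (hne : Q ≠ P) :
    Nat.card Q < Nat.card (P ⊓ Subgroup.normalizer (Q : Set G) : Subgroup G) := by
  haveI : Group.IsNilpotent P := hP.isNilpotent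
  have hnc := Group.normalizerCondition_of_isNilpotent (G := P)
  have hlt : Q.subgroupOf P < ⊤ := by
    rw [lt_top_iff_ne_top]
    intro h
    apply hne
    apply le_antisymm hQP
    intro x hx
    have : (⟨x, hx⟩ : P) ∈ Q.subgroupOf P := by rw [h]; exact Subgroup.mem_top _
    exact Subgroup.mem_subgroupOf.mp this
  obtain ⟨g, hgN, hgK⟩ := SetLike.exists_of_lt (hnc _ hlt)
  have hle : Q ≤ P ⊓ Subgroup.normalizer (Q : Set G) := le_inf hQP Subgroup.le_normalizer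
  by_contra hcon
  rw [not_lt] at hcon
  have heq := Subgroup.eq_of_le_of_card_ge hle hcon
  apply hgK
  rw [Subgroup.mem_subgroupOf, heq]
  refine ⟨g.2, ?_⟩
  show (g : G) ∈ Subgroup.normalizer (Q : Set G)
  rw [Subgroup.mem_normalizer_iff]
  intro h
  constructor
  · intro hh
    have := (Subgroup.mem_normalizer_iff.mp hgN ⟨h, hQP hh⟩).mp (Subgroup.mem_subgroupOf.mpr hh)
    exact Subgroup.mem_subgroupOf.mp this
  · intro hh
    have hhP : h ∈ P := by
      have h1 : (g : G)⁻¹ * ((g : G) * h * (g : G)⁻¹) * (g : G) ∈ P :=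
        P.mul_mem (P.mul_mem (P.inv_mem g.2) (hQP hh)) g.2
      have e : (g : G)⁻¹ * ((g : G) * h * (g : G)⁻¹) * (g : G) = h := by group
      rwa [e] at h1
    have := (Subgroup.mem_normalizer_iff.mp hgN ⟨h, hhP⟩).mpr (Subgroup.mem_subgroupOf.mpr hh)
    exact Subgroup.mem_subgroupOf.mp this

set_option maxHeartbeats 2000000 in
/-- the inductive step: a conjugation onto a fully normalized pair is induced by an element of
`P` -/
theorem inner_of_conj_to_normalized [Fintype G] {p : ℕ} [hp : Fact p.Prime]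
    (hM : Cfsg.IsPModular p M) (B : Set (Cfsg.IrrCharacter G)) (P : Subgroup G)
    (e : Set (Cfsg.IrrCharacter (Subgroup.centralizer (P : Set G))))
    (hmax : Cfsg.IsMaximalBrauerPair p M B P e) (hnil : Cfsg.IsNilpotentBlock p M B)
    (Q₀ : Subgroup G) (f₀ : Set (Cfsg.IrrCharacter (Subgroup.centralizer (Q₀ : Set G))))
    (hQ₀P : Q₀ ≤ P) (hf₀ : Cfsg.IsPBlock M f₀) (hle₀ : Cfsg.SubpairLE p M Q₀ f₀ P e)
    (T₀ : Subgroup G) (hT₀ : ∀ y : G, y ∈ T₀ ↔ y ∈ Subgroup.normalizer (Q₀ : Set G) ∧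
      Cfsg.StabilizesBlock (Subgroup.centralizer (Q₀ : Set G)) f₀ y)
    (F₀ : Set (Cfsg.IrrCharacter T₀)) (hF₀ : Cfsg.IsPBlock M F₀)
    (hcoef₀ : ∀ t : T₀, Cfsg.blockCoeff F₀ t =
      Cfsg.subgroupBlockCoeff (Subgroup.centralizer (Q₀ : Set G)) f₀ (t : G))
    (hD₀ : Cfsg.IsDefectGroup p M F₀ ((P ⊓ Subgroup.normalizer (Q₀ : Set G)).subgroupOf T₀))
    (IH : ∀ (R : Subgroup G) (h : Set (Cfsg.IrrCharacter (Subgroup.centralizer (R : Set G)))),
      Nat.card Q₀ < Nat.card R → R ≤ P → Cfsg.IsPBlock M h → Cfsg.SubpairLE p M R h P e →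
      ∀ g : G, Cfsg.SubpairLE p M (R.map (MulAut.conj g).toMonoidHom) (Cfsg.conjBlock R g h) P e →
        ∃ u ∈ P, ∀ q ∈ R, g * q * g⁻¹ = u * q * u⁻¹)
    (Q₁ : Subgroup G) (f₁ : Set (Cfsg.IrrCharacter (Subgroup.centralizer (Q₁ : Set G))))
    (hQ₁P : Q₁ ≤ P) (hle₁ : Cfsg.SubpairLE p M Q₁ f₁ P e) (y : G)
    (hy : conjPair y ⟨Q₁, f₁⟩ = (⟨Q₀, f₀⟩ : Cfsg.BrauerPairIdx G)) :
    ∃ u ∈ P, ∀ q ∈ Q₁, y * q * y⁻¹ = u * q * u⁻¹ := by
  classical
  haveI : Fintype T₀ := Fintype.ofFinite _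
  have hPe : Cfsg.IsBrauerPair p M P e := hmax.1.1
  have hP : IsPGroup p P := hPe.1
  have hBQ₀ : Cfsg.IsBrauerPairOf p M B Q₀ f₀ :=
    isBrauerPairOf_of_subpairLE hM P Q₀ e f₀ hle₀ B hmax.1
  have hQ₁y : Q₁.map (MulAut.conj y).toMonoidHom = Q₀ := congrArg Sigma.fst hy
  have hcard : Nat.card Q₁ = Nat.card Q₀ := by
    rw [← hQ₁y, Subgroup.card_map_of_injective (MulAut.conj y).injective]
  have hCT : Subgroup.centralizer (Q₀ : Set G) ≤ T₀ := fun c hc =>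
    (hT₀ c).mpr ⟨Subgroup.centralizer_le_normalizer _ hc,
      stabilizesBlock_of_mem_centralizer _ _ c hc⟩
  have hTN : T₀ ≤ Subgroup.normalizer (Q₀ : Set G) := fun y hy => ((hT₀ y).mp hy).1
  have hdecomp : ∀ t ∈ T₀, ∃ c ∈ Subgroup.centralizer (Q₀ : Set G),
      ∃ v ∈ P ⊓ Subgroup.normalizer (Q₀ : Set G), t = c * v := fun t ht =>
    stabilizer_eq_mul_of_nilpotent hM B hnil Q₀ f₀ hf₀ hBQ₀ T₀ hT₀ F₀ hF₀ hcoef₀ _ hD₀ t ht
  have hfinal : ∀ t ∈ T₀, ∀ u ∈ P, (∀ q ∈ Q₁, (t * y) * q * (t * y)⁻¹ = u * q * u⁻¹) →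
      ∃ u' ∈ P, ∀ q ∈ Q₁, y * q * y⁻¹ = u' * q * u'⁻¹ := by
    intro t ht u hu huq
    obtain ⟨c, hc, v, hv, rfl⟩ := hdecomp t ht
    refine ⟨v⁻¹ * u, P.mul_mem (P.inv_mem hv.1) hu, fun q hq => ?_⟩
    have h1 := huq q hq
    have hw : y * q * y⁻¹ ∈ Q₀ := by rw [← hQ₁y]; exact ⟨q, hq, rfl⟩
    have h2 : c * v * (y * q * y⁻¹) * (c * v)⁻¹ = u * q * u⁻¹ := by rw [← h1]; group
    have hvw : v * (y * q * y⁻¹) * v⁻¹ ∈ Q₀ := (Subgroup.mem_normalizer_iff.mp hv.2 _).mp hw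
    have hcc : (v * (y * q * y⁻¹) * v⁻¹) * c = c * (v * (y * q * y⁻¹) * v⁻¹) :=
      Subgroup.mem_centralizer_iff.mp hc _ hvw
    have h3 : v * (y * q * y⁻¹) * v⁻¹ = u * q * u⁻¹ := by
      rw [← h2]
      calc v * (y * q * y⁻¹) * v⁻¹ = (v * (y * q * y⁻¹) * v⁻¹) * c * c⁻¹ := by group
        _ = c * (v * (y * q * y⁻¹) * v⁻¹) * c⁻¹ := by rw [hcc]
        _ = c * v * (y * q * y⁻¹) * (c * v)⁻¹ := by group
    calc y * q * y⁻¹ = v⁻¹ * (v * (y * q * y⁻¹) * v⁻¹) * v := by group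
      _ = v⁻¹ * (u * q * u⁻¹) * v := by rw [h3]
      _ = v⁻¹ * u * q * (v⁻¹ * u)⁻¹ := by group
  by_cases hQ₁ : Q₁ = P
  · have hQ₀eq : Q₀ = P := Subgroup.eq_of_le_of_card_ge hQ₀P (by rw [← hcard, hQ₁])
    have h1 : (⟨Q₀, f₀⟩ : Cfsg.BrauerPairIdx G) = ⟨P, e⟩ :=
      eq_of_reflTransGen_of_fst_eq hM ⟨P, e⟩ ⟨Q₀, f₀⟩ hle₀ hQ₀eq
    have h2 : (⟨Q₁, f₁⟩ : Cfsg.BrauerPairIdx G) = ⟨P, e⟩ :=
      eq_of_reflTransGen_of_fst_eq hM ⟨P, e⟩ ⟨Q₁, f₁⟩ hle₁ hQ₁
    have h3 : conjPair y ⟨Q₀, f₀⟩ = (⟨Q₀, f₀⟩ : Cfsg.BrauerPairIdx G) := by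
      have h4 : (⟨Q₀, f₀⟩ : Cfsg.BrauerPairIdx G) = ⟨Q₁, f₁⟩ := h1.trans h2.symm
      rw [h4, hy, h4]
    obtain ⟨hyN, hyst⟩ := stabilizes_of_conjPair_eq_self Q₀ f₀ y h3
    have hyT : y ∈ T₀ := (hT₀ y).mpr ⟨hyN, hyst⟩
    exact hfinal y⁻¹ (T₀.inv_mem hyT) 1 P.one_mem (fun q _ => by group)
  · have hlt := card_lt_card_inf_normalizer P Q₁ hP hQ₁P hQ₁
    have hRP : P ⊓ Subgroup.normalizer (Q₁ : Set G) ≤ P := inf_le_left
    have hQR : Q₁ ≤ P ⊓ Subgroup.normalizer (Q₁ : Set G) := le_inf hQ₁P Subgroup.le_normalizer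
    have hRN : P ⊓ Subgroup.normalizer (Q₁ : Set G) ≤ Subgroup.normalizer (Q₁ : Set G) :=
      inf_le_right
    have hRp := hP.to_le hRP
    obtain ⟨eR, hfR, hleR⟩ := exists_subpairLE hM _ P _ e hPe hRP rfl
    obtain ⟨f', hf', -⟩ := existsUnique_isNormalSubpair hM _ Q₁ eR ⟨hRp, hfR⟩ hQR hRN
    have hstep : Cfsg.NormalSubpairRel p M (⟨Q₁, f'⟩ : Cfsg.BrauerPairIdx G) ⟨_, eR⟩ := hf'
    have hle' : Cfsg.SubpairLE p M Q₁ f' P e := Relation.ReflTransGen.head hstep hleR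
    have hff : f' = f₁ := subpairLE_unique hM _ P Q₁ e hPe hQ₁P rfl f' f₁ hle' hle₁
    rw [hff] at hf'
    have hn₀' : Cfsg.NormalSubpairRel p M (conjPair y ⟨Q₁, f₁⟩)
        (conjPair y ⟨P ⊓ Subgroup.normalizer (Q₁ : Set G), eR⟩) :=
      isNormalSubpair_conj _ _ _ _ y hf'
    rw [hy] at hn₀'
    have hn₀ : Cfsg.IsNormalSubpair p M Q₀ f₀
        ((P ⊓ Subgroup.normalizer (Q₁ : Set G)).map (MulAut.conj y).toMonoidHom)
        (Cfsg.conjBlock _ y eR) := hn₀'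
    have hR'T : (P ⊓ Subgroup.normalizer (Q₁ : Set G)).map (MulAut.conj y).toMonoidHom ≤ T₀ :=
      fun x hx => (hT₀ x).mpr ⟨hn₀.2.2.2.1 hx, hn₀.2.2.2.2.1 x hx⟩
    have hCR'T : Subgroup.centralizer
        (((P ⊓ Subgroup.normalizer (Q₁ : Set G)).map (MulAut.conj y).toMonoidHom :
          Subgroup G) : Set G) ≤ T₀ :=
      le_trans (Subgroup.centralizer_le (by exact_mod_cast hn₀.2.2.1)) hCT
    have hpair' := isBrauerPairOf_stabilizer_of_isNormalSubpair (M := M) (p := p) Q₀ _ T₀ f₀ _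
      hn₀ hR'T hCR'T F₀ hF₀ hcoef₀
    -- the maximal pair of the stabilizer block
    have hNP : P ⊓ Subgroup.normalizer (Q₀ : Set G) ≤ P := inf_le_left
    obtain ⟨e₀, hfe₀, hlee₀⟩ := exists_subpairLE hM _ P _ e hPe hNP rfl
    obtain ⟨f'', hf'', -⟩ := existsUnique_isNormalSubpair hM _ Q₀ e₀ ⟨hP.to_le hNP, hfe₀⟩
      (le_inf hQ₀P Subgroup.le_normalizer) inf_le_right
    have hstep₀ : Cfsg.NormalSubpairRel p M (⟨Q₀, f''⟩ : Cfsg.BrauerPairIdx G) ⟨_, e₀⟩ := hf''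
    have hle'' : Cfsg.SubpairLE p M Q₀ f'' P e := Relation.ReflTransGen.head hstep₀ hlee₀
    have hff₀ : f'' = f₀ := subpairLE_unique hM _ P Q₀ e hPe hQ₀P rfl f'' f₀ hle'' hle₀
    rw [hff₀] at hf''
    have hNPT : P ⊓ Subgroup.normalizer (Q₀ : Set G) ≤ T₀ :=
      fun x hx => (hT₀ x).mpr ⟨hf''.2.2.2.1 hx, hf''.2.2.2.2.1 x hx⟩
    have hCNPT : Subgroup.centralizer
        ((P ⊓ Subgroup.normalizer (Q₀ : Set G) : Subgroup G) : Set G) ≤ T₀ :=
      le_trans (Subgroup.centralizer_le (by exact_mod_cast hf''.2.2.1)) hCT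
    have hpair₀ := isBrauerPairOf_stabilizer_of_isNormalSubpair (M := M) (p := p) Q₀ _ T₀ f₀ e₀
      hf'' hNPT hCNPT F₀ hF₀ hcoef₀
    have hmax₀ := isMaximalBrauerPair_of_card_eq hM F₀ _ _ hpair₀
      (card_defectGroup hM.2.1 p hM.2.2 F₀ hF₀ _ hD₀)
    obtain ⟨t, ht⟩ := exists_conj_subpairLE hM F₀ _ _ _ _ hmax₀ hpair'
    have ht' : Relation.ReflTransGen (Cfsg.NormalSubpairRel p M)
        (conjPair t ⟨((P ⊓ Subgroup.normalizer (Q₁ : Set G)).map
          (MulAut.conj y).toMonoidHom).subgroupOf T₀,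
          localBlock T₀ _ hR'T hCR'T (Cfsg.conjBlock _ y eR)⟩)
        ⟨(P ⊓ Subgroup.normalizer (Q₀ : Set G)).subgroupOf T₀,
          localBlock T₀ _ hNPT hCNPT e₀⟩ := ht
    have hCa : Subgroup.centralizer
        ((((((P ⊓ Subgroup.normalizer (Q₁ : Set G)).map
          (MulAut.conj y).toMonoidHom).subgroupOf T₀).map T₀.subtype : Subgroup G)) : Set G) ≤
        T₀ := by
      rw [Subgroup.map_subgroupOf_eq_of_le hR'T]; exact hCR'T
    have hCa' : Subgroup.centralizer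
        ((((conjPair t (⟨((P ⊓ Subgroup.normalizer (Q₁ : Set G)).map
          (MulAut.conj y).toMonoidHom).subgroupOf T₀,
          localBlock T₀ _ hR'T hCR'T (Cfsg.conjBlock _ y eR)⟩ :
            Cfsg.BrauerPairIdx T₀)).1.map T₀.subtype : Subgroup G)) : Set G) ≤ T₀ := by
      show Subgroup.centralizer
        ((((((P ⊓ Subgroup.normalizer (Q₁ : Set G)).map
          (MulAut.conj y).toMonoidHom).subgroupOf T₀).map (MulAut.conj t).toMonoidHom).map
            T₀.subtype : Subgroup G) : Set G) ≤ T₀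
      rw [map_conj_map_subtype, Subgroup.map_subgroupOf_eq_of_le hR'T]
      refine le_trans (Subgroup.centralizer_le ?_) hCT
      intro q hq
      have htN := hTN t.2
      have hq' : (t : G)⁻¹ * q * ((t : G)⁻¹)⁻¹ ∈ Q₀ :=
        (Subgroup.mem_normalizer_iff.mp (Subgroup.inv_mem _ htN) q).mp hq
      refine ⟨(t : G)⁻¹ * q * ((t : G)⁻¹)⁻¹, hn₀.2.2.1 hq', ?_⟩
      simp [MulAut.conj_apply]
      group
    obtain ⟨hC₂, hchain⟩ := reflTransGen_upPair T₀ _ _ ht' hCa'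
    rw [upPair_conjPair T₀ _ t hCa hCa', upPair_localBlock, upPair_localBlock] at hchain
    have hchain2 : Cfsg.SubpairLE p M
        ((P ⊓ Subgroup.normalizer (Q₁ : Set G)).map (MulAut.conj ((t : G) * y)).toMonoidHom)
        (Cfsg.conjBlock _ ((t : G) * y) eR) P e := by
      have h5 := conjPair_conjPair (t : G) y
        (⟨P ⊓ Subgroup.normalizer (Q₁ : Set G), eR⟩ : Cfsg.BrauerPairIdx G)
      have h6 : Relation.ReflTransGen (Cfsg.NormalSubpairRel p M)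
          (conjPair ((t : G) * y)
            (⟨P ⊓ Subgroup.normalizer (Q₁ : Set G), eR⟩ : Cfsg.BrauerPairIdx G)) ⟨P, e⟩ := by
        rw [← h5]
        exact hchain.trans hlee₀
      exact h6
    obtain ⟨u, hu, huq⟩ := IH _ eR (by rw [← hcard]; exact hlt) hRP hfR hleR ((t : G) * y) hchain2
    exact hfinal (t : G) t.2 u hu (fun q hq => huq q (hQR hq))

/-- **nilpotent blocks: conjugations between subpairs of a maximal Brauer pair `(P, e)` are induced
by elements of `P`** -/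
theorem exists_conj_eq_of_nilpotent [Fintype G] {p : ℕ} [hp : Fact p.Prime]
    (hM : Cfsg.IsPModular p M) (B : Set (Cfsg.IrrCharacter G)) (P : Subgroup G)
    (e : Set (Cfsg.IrrCharacter (Subgroup.centralizer (P : Set G))))
    (hmax : Cfsg.IsMaximalBrauerPair p M B P e) (hnil : Cfsg.IsNilpotentBlock p M B) :
    ∀ n : ℕ, ∀ (Q : Subgroup G) (f : Set (Cfsg.IrrCharacter (Subgroup.centralizer (Q : Set G)))),
      Nat.card P - Nat.card Q = n → Q ≤ P → Cfsg.IsPBlock M f → Cfsg.SubpairLE p M Q f P e →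
      ∀ g : G, Cfsg.SubpairLE p M (Q.map (MulAut.conj g).toMonoidHom) (Cfsg.conjBlock Q g f) P e →
        ∃ u ∈ P, ∀ q ∈ Q, g * q * g⁻¹ = u * q * u⁻¹ := by
  intro n
  induction n using Nat.strong_induction_on with
  | _ n ih =>
  intro Q f hn hQP hf hle g hleg
  obtain ⟨x, hlex, hdefx⟩ := stabilizer_defectGroup hM B P Q e f hmax hQP hf hle
  obtain ⟨F₀, hF₀, hcoef₀, hD₀⟩ := hdefx (pairStabilizer _ _) (mem_pairStabilizer _ _)
  have hcardQ₀ : Nat.card (Q.map (MulAut.conj x).toMonoidHom) = Nat.card Q :=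
    Subgroup.card_map_of_injective (MulAut.conj x).injective
  have hQcard : Nat.card Q ≤ Nat.card P := Subgroup.card_le_of_le hQP
  have IH : ∀ (R : Subgroup G) (h : Set (Cfsg.IrrCharacter (Subgroup.centralizer (R : Set G)))),
      Nat.card (Q.map (MulAut.conj x).toMonoidHom) < Nat.card R → R ≤ P → Cfsg.IsPBlock M h →
      Cfsg.SubpairLE p M R h P e →
      ∀ g : G, Cfsg.SubpairLE p M (R.map (MulAut.conj g).toMonoidHom) (Cfsg.conjBlock R g h) P e →
        ∃ u ∈ P, ∀ q ∈ R, g * q * g⁻¹ = u * q * u⁻¹ := by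
    intro R h hlt hRP hh hleR g' hleg'
    have hRcard : Nat.card R ≤ Nat.card P := Subgroup.card_le_of_le hRP
    exact ih (Nat.card P - Nat.card R) (by omega) R h rfl hRP hh hleR g' hleg'
  have hf₀ := isPBlock_conjBlock (M := M) Q x f hf
  obtain ⟨u₁, hu₁, h1⟩ := inner_of_conj_to_normalized hM B P e hmax hnil _ _ (SubpairLE.le hlex)
    hf₀ hlex _ (mem_pairStabilizer _ _) F₀ hF₀ hcoef₀ hD₀ IH Q f hQP hle x rfl
  obtain ⟨u₂, hu₂, h2⟩ := inner_of_conj_to_normalized hM B P e hmax hnil _ _ (SubpairLE.le hlex)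
    hf₀ hlex _ (mem_pairStabilizer _ _) F₀ hF₀ hcoef₀ hD₀ IH
    (Q.map (MulAut.conj g).toMonoidHom) (Cfsg.conjBlock Q g f) (SubpairLE.le hleg) hleg
    (x * g⁻¹) (by
      have h3 := conjPair_conjPair (x * g⁻¹) g (⟨Q, f⟩ : Cfsg.BrauerPairIdx G)
      rw [inv_mul_cancel_right] at h3
      exact h3)
  refine ⟨u₂⁻¹ * u₁, P.mul_mem (P.inv_mem hu₂) hu₁, fun q hq => ?_⟩
  have e1 := h1 q hq
  have e2 := h2 (g * q * g⁻¹) ⟨q, hq, rfl⟩
  have e3 : x * g⁻¹ * (g * q * g⁻¹) * (x * g⁻¹)⁻¹ = x * q * x⁻¹ := by group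
  rw [e3, e1] at e2
  calc g * q * g⁻¹ = u₂⁻¹ * (u₂ * (g * q * g⁻¹) * u₂⁻¹) * u₂ := by group
    _ = u₂⁻¹ * (u₁ * q * u₁⁻¹) * u₂ := by rw [← e2]
    _ = u₂⁻¹ * u₁ * q * (u₂⁻¹ * u₁)⁻¹ := by group

/-- **nilpotent blocks have inner fusion systems** -/
theorem hom_eq_inner_of_nilpotent [Fintype G] {p : ℕ} [hp : Fact p.Prime]
    (hM : Cfsg.IsPModular p M) (B : Set (Cfsg.IrrCharacter G)) (P : Subgroup G)
    (e : Set (Cfsg.IrrCharacter (Subgroup.centralizer (P : Set G))))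
    (hmax : Cfsg.IsMaximalBrauerPair p M B P e) (F : Cfsg.FusionSystem P)
    (hF : Cfsg.IsBlockFusionSystemOn p M B P e F) (hnil : Cfsg.IsNilpotentBlock p M B)
    (Q : Subgroup G) : F.Hom Q = (Cfsg.innerFusionSystem P).Hom Q := by
  ext φ
  constructor
  · intro hφ
    obtain ⟨hQP, g, hg, -, f, hle, hleg⟩ := (hF.2 Q φ).mp hφ
    have hf : Cfsg.IsPBlock M f := (isBrauerPairOf_of_subpairLE hM P Q e f hle B hmax.1).1.2
    obtain ⟨u, hu, huq⟩ := exists_conj_eq_of_nilpotent hM B P e hmax hnil _ Q f rfl hQP hf hle g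
      hleg
    exact ⟨hQP, u, hu, fun x => (hg x).trans (huq x x.2)⟩
  · rintro ⟨hQP, g, hg, hφ⟩
    have : φ = Cfsg.conjHom Q g := by
      ext x
      rw [hφ x]
      rfl
    rw [this]
    exact F.conj_mem hQP hg

/-- **inner fusion systems give nilpotent blocks** -/
theorem isNilpotentBlock_of_hom_eq_inner [Fintype G] {p : ℕ} [hp : Fact p.Prime]
    (hM : Cfsg.IsPModular p M) (B : Set (Cfsg.IrrCharacter G)) (P : Subgroup G)
    (e : Set (Cfsg.IrrCharacter (Subgroup.centralizer (P : Set G))))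
    (hmax : Cfsg.IsMaximalBrauerPair p M B P e) (F : Cfsg.FusionSystem P)
    (hF : Cfsg.IsBlockFusionSystemOn p M B P e F)
    (hin : ∀ Q : Subgroup G, F.Hom Q = (Cfsg.innerFusionSystem P).Hom Q) :
    Cfsg.IsNilpotentBlock p M B := by
  classical
  have hpp := hp.out
  have hP : IsPGroup p P := hmax.1.1.1
  -- the case of a pair below `(P, e)`
  have key : ∀ (Q : Subgroup G) (f : Set (Cfsg.IrrCharacter (Subgroup.centralizer (Q : Set G)))),
      Cfsg.IsPBlock M f → Cfsg.SubpairLE p M Q f P e → ∀ x : G,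
      x ∈ Subgroup.normalizer (Q : Set G) →
      Cfsg.StabilizesBlock (Subgroup.centralizer (Q : Set G)) f x → Cfsg.IsPRegular p x →
      x ∈ Subgroup.centralizer (Q : Set G) := by
    intro Q f hf hle x hxN hxst hxreg
    have hQP : Q ≤ P := SubpairLE.le hle
    have hQx : Q.map (MulAut.conj x).toMonoidHom = Q :=
      Subgroup.mem_normalizer_iff_map_conj_eq.mp hxN
    have hfix := conjPair_eq_self_of_stabilizes hM.2.1 Q f hf x hxN hxst
    have hφ : Cfsg.conjHom Q x ∈ F.Hom Q := by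
      rw [hF.2 Q]
      refine ⟨hQP, x, fun u => rfl, by rw [hQx]; exact hQP, f, hle, ?_⟩
      have h1 : Relation.ReflTransGen (Cfsg.NormalSubpairRel p M)
          (conjPair x (⟨Q, f⟩ : Cfsg.BrauerPairIdx G)) ⟨P, e⟩ := by
        rw [hfix]; exact hle
      exact h1
    rw [hin Q] at hφ
    obtain ⟨-, g, hgP, hg⟩ := hφ
    have hgx : ∀ u ∈ Q, x * u * x⁻¹ = g * u * g⁻¹ := fun u hu => hg ⟨u, hu⟩
    have hgQ : ∀ u ∈ Q, g * u * g⁻¹ ∈ Q := fun u hu => by
      rw [← hgx u hu]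
      exact (Subgroup.mem_normalizer_iff.mp hxN u).mp hu
    have hpow : ∀ j : ℕ, ∀ u ∈ Q, x ^ j * u * (x ^ j)⁻¹ = g ^ j * u * (g ^ j)⁻¹ ∧
        g ^ j * u * (g ^ j)⁻¹ ∈ Q := by
      intro j
      induction j with
      | zero => intro u hu; simp [hu]
      | succ j ih =>
        intro u hu
        obtain ⟨h1, h2⟩ := ih u hu
        have h3 : x ^ (j + 1) * u * (x ^ (j + 1))⁻¹ = x * (x ^ j * u * (x ^ j)⁻¹) * x⁻¹ := by
          rw [pow_succ']; group
        have h4 : g ^ (j + 1) * u * (g ^ (j + 1))⁻¹ = g * (g ^ j * u * (g ^ j)⁻¹) * g⁻¹ := by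
          rw [pow_succ']; group
        rw [h3, h4, h1, hgx _ h2]
        exact ⟨rfl, hgQ _ h2⟩
    have hgm : g ^ orderOf x ∈ Subgroup.centralizer (Q : Set G) := by
      rw [Subgroup.mem_centralizer_iff]
      intro u hu
      have h1 := (hpow (orderOf x) u hu).1
      rw [pow_orderOf_eq_one] at h1
      have h2 : u = g ^ orderOf x * u * (g ^ orderOf x)⁻¹ := by
        rw [← h1]; group
      calc u * g ^ orderOf x = g ^ orderOf x * u * (g ^ orderOf x)⁻¹ * g ^ orderOf x := by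
            rw [← h2]
        _ = g ^ orderOf x * u := by group
    obtain ⟨k, hk⟩ := hP ⟨g, hgP⟩
    have hgk : g ^ (p ^ k) = 1 := by
      have h5 := congrArg Subtype.val hk
      rw [Subgroup.coe_pow] at h5
      exact h5
    have hcop : Nat.Coprime (orderOf x) (p ^ k) :=
      Nat.Coprime.pow_right k (Nat.Coprime.symm ((Nat.Prime.coprime_iff_not_dvd hpp).mpr hxreg))
    have hb := Nat.gcd_eq_gcd_ab (orderOf x) (p ^ k)
    rw [hcop.gcd_eq_one] at hb
    have hgC : g ∈ Subgroup.centralizer (Q : Set G) := by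
      have hx : g = (g ^ orderOf x) ^ (Nat.gcdA (orderOf x) (p ^ k)) *
          (g ^ (p ^ k)) ^ (Nat.gcdB (orderOf x) (p ^ k)) := by
        rw [← zpow_natCast, ← zpow_natCast, ← zpow_mul, ← zpow_mul, ← zpow_add, ← hb]
        simp
      rw [hx, hgk, one_zpow, mul_one]
      exact Subgroup.zpow_mem _ hgm _
    rw [Subgroup.mem_centralizer_iff]
    intro u hu
    have h1 := hgx u hu
    have h2 : g * u * g⁻¹ = u := by
      have := Subgroup.mem_centralizer_iff.mp hgC u hu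
      rw [← this]; group
    rw [h2] at h1
    calc u * x = x * u * x⁻¹ * x := by rw [h1]
      _ = x * u := by group
  refine ⟨hmax.1.2.1, ?_⟩
  intro Q f hQf x hxN hxst hxreg
  obtain ⟨z, hz⟩ := exists_conj_subpairLE hM B P Q e f hmax hQf
  obtain ⟨hx'N, hx'st⟩ := stabilizes_conjBlock Q f z x hxN hxst
  have hf' := isPBlock_conjBlock (M := M) Q z f hQf.1.2
  have hreg' : Cfsg.IsPRegular p (z * x * z⁻¹) := by
    unfold Cfsg.IsPRegular
    have : orderOf (z * x * z⁻¹) = orderOf x := by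
      have h5 : z * x * z⁻¹ = MulAut.conj z x := by simp [MulAut.conj_apply]
      rw [h5, MulEquiv.orderOf_eq]
    rw [this]
    exact hxreg
  have h1 := key _ _ hf' hz _ hx'N hx'st hreg'
  rw [mem_centralizer_map_conj_iff] at h1
  have e1 : z⁻¹ * (z * x * z⁻¹) * z = x := by group
  rwa [e1] at h1

end Cfsg.Agent.Helper6
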