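import Mathlib
import Cfsg.Prelude.Def_Characters
import Cfsg.Prelude.Def_Blocks
import Cfsg.Prelude.Def_BlockLocal
import Cfsg.Prelude.Def_BrauerPairs
import Cfsg.Prelude.Def_FusionSystem
import Cfsg.Prelude.Def_BlockFusion
import Cfsg.Agent.Helper6.NilpotentInner

/-!
# The fusion system of a block on a maximal Brauer pair: existence
-/

set_option autoImplicit false
set_option linter.style.haveILetI false

namespace Cfsg.Agent.Helper6

open scoped ComplexConjugate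

universe u

variable {G : Type u} [Group G] {M : Ideal Cfsg.AlgInt}

/-- two pairs below a common pair with the same subgroup are equal -/
theorem pair_eq_of_le_of_fst_eq [Fintype G] {p : ℕ} [hp : Fact p.Prime]
    (hM : Cfsg.IsPModular p M) (c : Cfsg.BrauerPairIdx G) (hc : Cfsg.IsBrauerPair p M c.1 c.2)
    (a b : Cfsg.BrauerPairIdx G)
    (ha : Relation.ReflTransGen (Cfsg.NormalSubpairRel p M) a c)
    (hb : Relation.ReflTransGen (Cfsg.NormalSubpairRel p M) b c) (hab : a.1 = b.1) : a = b := by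
  obtain ⟨A, fa⟩ := a
  obtain ⟨A', fb⟩ := b
  obtain ⟨C, fc⟩ := c
  simp only at hab
  subst hab
  have hAC : A ≤ C := SubpairLE.le' _ _ ha
  have := subpairLE_unique hM _ C A fc hc hAC rfl fa fb ha hb
  rw [this]

/-- inclusion of pairs below a common pair is decided by the subgroups -/
theorem subpairLE_of_le [Fintype G] {p : ℕ} [hp : Fact p.Prime]
    (hM : Cfsg.IsPModular p M) (c : Cfsg.BrauerPairIdx G) (hc : Cfsg.IsBrauerPair p M c.1 c.2)
    (a b : Cfsg.BrauerPairIdx G)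
    (ha : Relation.ReflTransGen (Cfsg.NormalSubpairRel p M) a c)
    (hb : Relation.ReflTransGen (Cfsg.NormalSubpairRel p M) b c) (hab : a.1 ≤ b.1)
    (hbp : Cfsg.IsBrauerPair p M b.1 b.2) :
    Relation.ReflTransGen (Cfsg.NormalSubpairRel p M) a b := by
  obtain ⟨f', -, hle'⟩ := exists_subpairLE hM _ b.1 a.1 b.2 hbp hab rfl
  have h1 : Relation.ReflTransGen (Cfsg.NormalSubpairRel p M)
      (⟨a.1, f'⟩ : Cfsg.BrauerPairIdx G) b := hle'
  have h2 := pair_eq_of_le_of_fst_eq hM c hc ⟨a.1, f'⟩ a (h1.trans hb) ha rfl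
  rw [h2] at h1
  exact h1

/-- a pair below a Brauer pair is a Brauer pair -/
theorem isBrauerPair_of_reflTransGen {p : ℕ} (c : Cfsg.BrauerPairIdx G)
    (hc : Cfsg.IsBrauerPair p M c.1 c.2) (a : Cfsg.BrauerPairIdx G)
    (ha : Relation.ReflTransGen (Cfsg.NormalSubpairRel p M) a c) :
    Cfsg.IsBrauerPair p M a.1 a.2 := by
  induction ha using Relation.ReflTransGen.head_induction_on with
  | refl => exact hc
  | head h _ _ => exact h.1

theorem conjPair_one (a : Cfsg.BrauerPairIdx G) : conjPair (1 : G) a = a := by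
  obtain ⟨Q, f⟩ := a
  exact conjPair_one' Q f

/-- the maps of the fusion system of a block -/
def blockFusionHom (p : ℕ) (M : Ideal Cfsg.AlgInt) (P : Subgroup G)
    (e : Set (Cfsg.IrrCharacter (Subgroup.centralizer (P : Set G)))) (Q : Subgroup G) :
    Set (Q →* G) :=
  {φ | Q ≤ P ∧ ∃ g : G, (∀ u : Q, φ u = g * (u : G) * g⁻¹) ∧
    Q.map (MulAut.conj g).toMonoidHom ≤ P ∧
    ∃ f : Set (Cfsg.IrrCharacter (Subgroup.centralizer (Q : Set G))),
      Cfsg.SubpairLE p M Q f P e ∧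
        Cfsg.SubpairLE p M (Q.map (MulAut.conj g).toMonoidHom) (Cfsg.conjBlock Q g f) P e}

set_option maxHeartbeats 1000000 in
/-- **the fusion system of a block on a maximal Brauer pair** -/
noncomputable def blockFusionSystem [Fintype G] {p : ℕ} [hp : Fact p.Prime]
    (hM : Cfsg.IsPModular p M) (P : Subgroup G)
    (e : Set (Cfsg.IrrCharacter (Subgroup.centralizer (P : Set G))))
    (hPe : Cfsg.IsBrauerPair p M P e) : Cfsg.FusionSystem P where
  Hom Q := blockFusionHom p M P e Q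
  le_of_mem := by
    rintro Q φ ⟨hQP, g, hφ, hQg, -⟩
    refine ⟨hQP, fun x => ?_⟩
    rw [hφ x]
    exact hQg ⟨(x : G), x.2, rfl⟩
  injective_of_mem := by
    rintro Q φ ⟨hQP, g, hφ, -⟩ x y hxy
    rw [hφ x, hφ y] at hxy
    apply Subtype.ext
    have := congrArg (fun w => g⁻¹ * w * g) hxy
    simpa [mul_assoc] using this
  conj_mem := by
    intro Q g hQP hg
    obtain ⟨f, -, hle⟩ := exists_subpairLE hM _ P Q e hPe hQP rfl
    refine ⟨hQP, g, fun u => rfl, ?_, f, hle, ?_⟩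
    · rintro _ ⟨u, hu, rfl⟩
      exact P.mul_mem (P.mul_mem hg (hQP hu)) (P.inv_mem hg)
    · have h1 := reflTransGen_conjPair (M := M) (p := p) g ⟨Q, f⟩ ⟨P, e⟩ hle
      rw [conjPair_of_mem P e g hg] at h1
      exact h1
  comp_mem := by
    rintro Q R φ ψ ⟨hQP, g, hφ, hQg, f, hle, hleg⟩ ⟨hRP, k, hψ, hRk, fR, hleR, hlek⟩ h
    have hQgR : Q.map (MulAut.conj g).toMonoidHom ≤ R := by
      rintro _ ⟨u, hu, rfl⟩
      have := h ⟨u, hu⟩
      rw [hφ ⟨u, hu⟩] at this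
      exact this
    refine ⟨hQP, k * g, fun u => ?_, ?_, f, hle, ?_⟩
    · show ψ ⟨φ u, h u⟩ = _
      rw [hψ]
      show k * φ u * k⁻¹ = _
      rw [hφ u]
      group
    · rintro _ ⟨u, hu, rfl⟩
      have h1 : k * (g * u * g⁻¹) * k⁻¹ ∈ R.map (MulAut.conj k).toMonoidHom :=
        ⟨g * u * g⁻¹, hQgR ⟨u, hu, rfl⟩, rfl⟩
      have h2 := hRk h1
      have e1 : (MulAut.conj (k * g)).toMonoidHom u = k * (g * u * g⁻¹) * k⁻¹ := by
        show k * g * u * (k * g)⁻¹ = _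
        group
      rw [e1]
      exact h2
    · have hRfR : Cfsg.IsBrauerPair p M R fR :=
        isBrauerPair_of_reflTransGen ⟨P, e⟩ hPe ⟨R, fR⟩ hleR
      have h1 : Relation.ReflTransGen (Cfsg.NormalSubpairRel p M)
          (conjPair g ⟨Q, f⟩) (⟨R, fR⟩ : Cfsg.BrauerPairIdx G) :=
        subpairLE_of_le hM ⟨P, e⟩ hPe (conjPair g ⟨Q, f⟩) ⟨R, fR⟩ hleg hleR hQgR hRfR
      have h2 := reflTransGen_conjPair (M := M) (p := p) k _ _ h1
      rw [conjPair_conjPair] at h2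
      exact h2.trans hlek
  inv_mem := by
    rintro Q φ ⟨hQP, g, hφ, hQg, f, hle, hleg⟩
    have hrange : φ.range = Q.map (MulAut.conj g).toMonoidHom := by
      ext w
      constructor
      · rintro ⟨u, rfl⟩
        exact ⟨(u : G), u.2, (hφ u).symm⟩
      · rintro ⟨u, hu, rfl⟩
        exact ⟨⟨u, hu⟩, hφ ⟨u, hu⟩⟩
    have hRP : φ.range ≤ P := by rw [hrange]; exact hQg
    refine ⟨Cfsg.conjHom φ.range g⁻¹, ⟨hRP, g⁻¹, fun u => rfl, ?_, ?_⟩, ?_⟩
    · rintro _ ⟨w, ⟨u, rfl⟩, rfl⟩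
      have e1 : (MulAut.conj g⁻¹).toMonoidHom (φ u) = (u : G) := by
        rw [hφ u]
        show g⁻¹ * (g * (u : G) * g⁻¹) * g⁻¹⁻¹ = _
        group
      rw [e1]
      exact hQP u.2
    · obtain ⟨f₁, -, hle₁⟩ := exists_subpairLE hM _ P φ.range e hPe hRP rfl
      refine ⟨f₁, hle₁, ?_⟩
      have h1 : (⟨φ.range, f₁⟩ : Cfsg.BrauerPairIdx G) = conjPair g ⟨Q, f⟩ :=
        pair_eq_of_le_of_fst_eq hM ⟨P, e⟩ hPe _ _ hle₁ hleg hrange
      have h2 : conjPair g⁻¹ (⟨φ.range, f₁⟩ : Cfsg.BrauerPairIdx G) = ⟨Q, f⟩ := by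
        rw [h1, conjPair_conjPair, inv_mul_cancel, conjPair_one]
      show Relation.ReflTransGen (Cfsg.NormalSubpairRel p M)
        (conjPair g⁻¹ (⟨φ.range, f₁⟩ : Cfsg.BrauerPairIdx G)) ⟨P, e⟩
      rw [h2]
      exact hle
    · intro x
      show g⁻¹ * φ x * g⁻¹⁻¹ = (x : G)
      rw [hφ x]
      group

theorem isBlockFusionSystemOn_blockFusionSystem [Fintype G] {p : ℕ} [hp : Fact p.Prime]
    (hM : Cfsg.IsPModular p M) (B : Set (Cfsg.IrrCharacter G)) (P : Subgroup G)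
    (e : Set (Cfsg.IrrCharacter (Subgroup.centralizer (P : Set G))))
    (hmax : Cfsg.IsMaximalBrauerPair p M B P e) :
    Cfsg.IsBlockFusionSystemOn p M B P e (blockFusionSystem hM P e hmax.1.1) :=
  ⟨hmax, fun _ _ => Iff.rfl⟩

end Cfsg.Agent.Helper6
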