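import Mathlib
import Cfsg.Prelude.Def_Characters
import Cfsg.Prelude.Def_Blocks
import Cfsg.Prelude.Def_BlockLocal
import Cfsg.Prelude.Def_BrauerPairs
import Cfsg.Agent.Helper6.FongCount

/-!
# Defect groups of a block whose idempotent is that of a stable block of a normal subgroup
(arbitrary index)
-/

set_option autoImplicit false
set_option linter.style.haveILetI false

namespace Cfsg.Agent.Helper6

open scoped ComplexConjugate

universe u

variable {G : Type u} [Group G] {M : Ideal Cfsg.AlgInt}

theorem sylow_normal_count_gen [Finite G] {p : ℕ} [hp : Fact p.Prime] (N : Subgroup G)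
    [hN : N.Normal] (C : Subgroup G) (t L c' : ℕ) (ht : ¬ p ∣ t)
    (hL0 : L ≠ 0) (hidx : t * L = C.index) (a3 : c' * L = Nat.card N)
    (a4 : c' = Nat.card (C ⊓ N : Subgroup G)) (S : Sylow p C) :
    ¬ p ∣ (N ⊔ (S : Subgroup C).map C.subtype).index ∧
      Nat.card ((S : Subgroup C).map C.subtype ⊓ N : Subgroup G) = p ^ c'.factorization p := by
  classical
  have hpp := hp.out
  obtain ⟨P, hPdef⟩ : ∃ P : Subgroup G, P = (S : Subgroup C).map C.subtype := ⟨_, rfl⟩
  rw [← hPdef]
  have hPp : IsPGroup p P := by
    rw [hPdef]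
    exact S.2.map C.subtype
  have hPC : P ≤ C := by
    rw [hPdef]
    rintro x ⟨y, -, rfl⟩
    exact y.2
  have cardP : Nat.card P = p ^ (Nat.card C).factorization p := by
    rw [hPdef, Subgroup.card_subtype]
    exact S.card_eq_multiplicity
  have a1 : Nat.card C * C.index = Nat.card G := Subgroup.card_mul_index C
  have a2 : Nat.card N * N.index = Nat.card G := Subgroup.card_mul_index N
  have hcn0 : c' ≠ 0 := by
    rw [a4]
    exact Nat.card_pos.ne'
  have hNi0 : N.index ≠ 0 := Subgroup.index_ne_zero_of_finite
  have hC0 : Nat.card C ≠ 0 := Nat.card_pos.ne'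
  have ht0 : t ≠ 0 := by
    rintro rfl
    exact ht (dvd_zero p)
  have b1 : Nat.card C * t = c' * N.index := by
    have : (Nat.card C * t) * L = (c' * N.index) * L := by
      calc (Nat.card C * t) * L = Nat.card C * (t * L) := by ring
        _ = Nat.card C * C.index := by rw [hidx]
        _ = Nat.card G := a1
        _ = Nat.card N * N.index := a2.symm
        _ = (c' * L) * N.index := by rw [a3]
        _ = (c' * N.index) * L := by ring
    exact Nat.eq_of_mul_eq_mul_right (Nat.pos_of_ne_zero hL0) this
  have b4 : (Nat.card C).factorization p = c'.factorization p + N.index.factorization p := by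
    have h1 : (Nat.card C * t).factorization p = (c' * N.index).factorization p := by rw [b1]
    rw [Nat.factorization_mul hC0 ht0, Nat.factorization_mul hcn0 hNi0, Finsupp.add_apply,
      Finsupp.add_apply, Nat.factorization_eq_zero_of_not_dvd ht, add_zero] at h1
    exact h1
  -- the intersection with `N`
  have hPNp : IsPGroup p (P ⊓ N : Subgroup G) := hPp.to_le inf_le_left
  obtain ⟨j, hj⟩ := IsPGroup.iff_card.mp hPNp
  have hjle : j ≤ c'.factorization p := by
    have : p ^ j ∣ c' := by
      rw [← hj, a4]
      exact Subgroup.card_dvd_of_le (inf_le_inf_right N hPC)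
    exact (hpp.pow_dvd_iff_le_factorization hcn0).mp this
  have c1 : Nat.card (P ⊓ N : Subgroup G) * N.relIndex P = Nat.card P := by
    have h1 := Subgroup.relIndex_mul_relIndex (⊥ : Subgroup G) (P ⊓ N) P bot_le inf_le_left
    rw [Subgroup.relIndex_bot_left, Subgroup.relIndex_bot_left, Subgroup.inf_relIndex_left] at h1
    exact h1
  obtain ⟨i, -, hi⟩ := (Nat.dvd_prime_pow hpp).mp (cardP ▸ (Dvd.intro_left _ c1))
  have hile : i ≤ N.index.factorization p := by
    have : p ^ i ∣ N.index := by
      rw [← hi]
      exact Subgroup.relIndex_dvd_index_of_normal N P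
    exact (hpp.pow_dvd_iff_le_factorization hNi0).mp this
  have c2 : j + i = c'.factorization p + N.index.factorization p := by
    have : p ^ (j + i) = p ^ (c'.factorization p + N.index.factorization p) := by
      rw [pow_add, ← hj, ← hi, c1, cardP, b4]
    exact Nat.pow_right_injective hpp.two_le this
  have hjeq : j = c'.factorization p := by omega
  have hieq : i = N.index.factorization p := by omega
  constructor
  · have d1 : N.relIndex (P ⊔ N) = N.relIndex P := Subgroup.relIndex_sup_right P N
    have d2 := Subgroup.relIndex_mul_index (H := N) (K := P ⊔ N) le_sup_right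
    rw [d1, hi, hieq] at d2
    have d3 : (P ⊔ N).index = N.index / p ^ N.index.factorization p := by
      have h1 := Nat.ordProj_mul_ordCompl_eq_self N.index p
      have : p ^ N.index.factorization p * (P ⊔ N).index =
          p ^ N.index.factorization p * (N.index / p ^ N.index.factorization p) := by
        rw [d2, h1]
      exact Nat.eq_of_mul_eq_mul_left (pow_pos hpp.pos _) this
    rw [sup_comm, d3]
    exact Nat.not_dvd_ordCompl hpp hNi0
  · rw [hj, hjeq]

/-- **defect groups over a stable block with the same idempotent**: for a block `B` of `G` whose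
idempotent is that of the `G`-stable block `c` of the normal subgroup `N`, and a defect group `D` of
`B`: the index of `N D` is prime to `p` and `D ∩ N` is a defect group of `c` -/
theorem defectGroup_of_stable_gen [Fintype G] {p : ℕ} [hp : Fact p.Prime]
    (hM : Cfsg.IsPModular p M) (N : Subgroup G) [hN : N.Normal]
    (c : Set (Cfsg.IrrCharacter N)) (hc : Cfsg.IsPBlock M c)
    (hst : ∀ x : G, Cfsg.StabilizesBlock N c x)
    (B : Set (Cfsg.IrrCharacter G))
    (hBc : ∀ g : G, Cfsg.blockCoeff B g = Cfsg.subgroupBlockCoeff N c g)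
    (D : Subgroup G) (hD : Cfsg.IsDefectGroup p M B D) :
    ¬ p ∣ (N ⊔ D).index ∧ Cfsg.IsDefectGroup p M c ((D ⊓ N).subgroupOf N) := by
  classical
  haveI : Fintype N := Fintype.ofFinite _
  obtain ⟨g, hg, S, rfl⟩ := hD
  obtain ⟨hgN, hdc, t, hpt, ht⟩ := fong_defectClass hM N c hc hst B hBc g hg
  obtain ⟨h1, h2⟩ := sylow_normal_count_gen N (Subgroup.centralizer ({g} : Set G)) t
    (Subgroup.centralizer ({(⟨g, hgN⟩ : N)} : Set N)).index
    (Nat.card (Subgroup.centralizer ({(⟨g, hgN⟩ : N)} : Set N))) hpt
    Subgroup.index_ne_zero_of_finite ht (Subgroup.card_mul_index _)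
    (card_centralizer_subgroup N ⟨g, hgN⟩) S
  refine ⟨h1, ⟨g, hgN⟩, hdc, ?_⟩
  have hle : (((S : Subgroup (Subgroup.centralizer ({g} : Set G))).map
      (Subgroup.centralizer ({g} : Set G)).subtype ⊓ N).subgroupOf N) ≤
      Subgroup.centralizer ({(⟨g, hgN⟩ : N)} : Set N) := by
    intro x hx
    rw [Subgroup.mem_subgroupOf] at hx
    obtain ⟨y, -, hy⟩ := hx.1
    have hxg : (x : G) ∈ Subgroup.centralizer ({g} : Set G) := by
      rw [← hy]
      exact y.2
    have hx1 := Subgroup.mem_centralizer_singleton_iff.mp hxg
    exact Subgroup.mem_centralizer_singleton_iff.mpr (Subtype.ext hx1)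
  have hcard : Nat.card ((((S : Subgroup (Subgroup.centralizer ({g} : Set G))).map
      (Subgroup.centralizer ({g} : Set G)).subtype ⊓ N).subgroupOf N).subgroupOf
        (Subgroup.centralizer ({(⟨g, hgN⟩ : N)} : Set N))) =
      p ^ (Nat.card (Subgroup.centralizer ({(⟨g, hgN⟩ : N)} : Set N))).factorization p := by
    rw [Nat.card_congr (Subgroup.subgroupOfEquivOfLe hle).toEquiv,
      Nat.card_congr (Subgroup.subgroupOfEquivOfLe
        (inf_le_right : (S : Subgroup (Subgroup.centralizer ({g} : Set G))).map
          (Subgroup.centralizer ({g} : Set G)).subtype ⊓ N ≤ N)).toEquiv]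
    exact h2
  refine ⟨Sylow.ofCard _ hcard, ?_⟩
  rw [Sylow.coe_ofCard, Subgroup.map_subgroupOf_eq_of_le hle]

end Cfsg.Agent.Helper6
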