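import Mathlib
import Cfsg.Prelude.Def_Characters
import Cfsg.Prelude.Def_Blocks
import Cfsg.Prelude.Def_BlockLocal
import Cfsg.Prelude.Def_BrauerPairs
import Cfsg.Prelude.Def_FusionSystem
import Cfsg.Prelude.Def_BlockFusion
import Cfsg.Agent.Helper6.BlockFusionDef
import Cfsg.Agent.Helper6.StableDefect

/-!
# The fusion system of a block: fully normalized subgroups are fully automized
-/

set_option autoImplicit false
set_option linter.style.haveILetI false

namespace Cfsg.Agent.Helper6

open scoped ComplexConjugate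

universe u

variable {G : Type u} [Group G] {M : Ideal Cfsg.AlgInt}

/-- the conjugation action of a subgroup of `N_G(R)` on `R` -/
def stabAut (R T : Subgroup G) (hTN : T ≤ Subgroup.normalizer (R : Set G)) : T →* MulAut R :=
  R.normalizerMonoidHom.comp (Subgroup.inclusion hTN)

theorem stabAut_apply (R T : Subgroup G) (hTN : T ≤ Subgroup.normalizer (R : Set G)) (t : T)
    (x : R) : ((stabAut R T hTN t x : R) : G) = (t : G) * (x : G) * (t : G)⁻¹ := rfl

/-- an element conjugating the finite subgroup `R` into itself normalizes it -/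
theorem mem_normalizer_of_forall_conj_mem [Finite G] (R : Subgroup G) (g : G)
    (h : ∀ x ∈ R, g * x * g⁻¹ ∈ R) : g ∈ Subgroup.normalizer (R : Set G) := by
  rw [Subgroup.mem_normalizer_iff_map_conj_eq]
  apply Subgroup.eq_of_le_of_card_ge
  · rintro _ ⟨x, hx, rfl⟩
    exact h x hx
  · rw [Subgroup.card_map_of_injective (MulAut.conj g).injective]

theorem stabAut_ker (R T : Subgroup G) (hTN : T ≤ Subgroup.normalizer (R : Set G))
    (hRT : R ≤ T) :
    (stabAut R T hTN).ker = Subgroup.centralizer ((R.subgroupOf T : Subgroup T) : Set T) := by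
  ext t
  rw [MonoidHom.mem_ker, mem_centralizer_subgroupOf_iff T R hRT t, Subgroup.mem_centralizer_iff]
  constructor
  · intro h x hx
    have h1 := congrArg (fun α : MulAut R => ((α ⟨x, hx⟩ : R) : G)) h
    simp only [MulAut.one_apply] at h1
    rw [stabAut_apply] at h1
    have h2 : (t : G) * x * (t : G)⁻¹ = x := h1
    calc x * (t : G) = (t : G) * x * (t : G)⁻¹ * (t : G) := by rw [h2]
      _ = (t : G) * x := by group
  · intro h
    ext x
    rw [stabAut_apply, MulAut.one_apply]
    have := h (x : G) x.2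
    rw [← this]; group

set_option maxHeartbeats 2000000 in
/-- **fully normalized subgroups are fully automized** in the fusion system of a block -/
theorem isFullyAutomized_of_isFullyNormalized [Fintype G] {p : ℕ} [hp : Fact p.Prime]
    (hM : Cfsg.IsPModular p M) (B : Set (Cfsg.IrrCharacter G)) (P : Subgroup G)
    (e : Set (Cfsg.IrrCharacter (Subgroup.centralizer (P : Set G))))
    (hmax : Cfsg.IsMaximalBrauerPair p M B P e)
    (F : Cfsg.FusionSystem P) (hF : Cfsg.IsBlockFusionSystemOn p M B P e F) (R : Subgroup G)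
    (fR : Set (Cfsg.IrrCharacter (Subgroup.centralizer (R : Set G)))) (hRP : R ≤ P)
    (hfR : Cfsg.IsPBlock M fR) (hle : Cfsg.SubpairLE p M R fR P e)
    (hfn : F.IsFullyNormalized R) : F.IsFullyAutomized p R := by
  classical
  have hpp := hp.out
  have hPe : Cfsg.IsBrauerPair p M P e := hmax.1.1
  have hP : IsPGroup p P := hPe.1
  obtain ⟨T, hT⟩ : ∃ T : Subgroup G, ∀ y : G, y ∈ T ↔ y ∈ Subgroup.normalizer (R : Set G) ∧
      Cfsg.StabilizesBlock (Subgroup.centralizer (R : Set G)) fR y :=
    ⟨pairStabilizer R fR, mem_pairStabilizer R fR⟩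
  haveI : Fintype T := Fintype.ofFinite _
  obtain ⟨F', hF', hcoef, hdef⟩ :=
    (isFullyNormalized_iff hM B P e hmax F hF R fR hRP hfR hle T hT).mp hfn
  have hRT : R ≤ T := fun q hq =>
    (hT q).mpr ⟨Subgroup.le_normalizer hq, stabilizesBlock_of_mem R fR q hq⟩
  have hCT : Subgroup.centralizer (R : Set G) ≤ T := fun c hc =>
    (hT c).mpr ⟨Subgroup.centralizer_le_normalizer _ hc,
      stabilizesBlock_of_mem_centralizer _ _ c hc⟩
  have hTN : T ≤ Subgroup.normalizer (R : Set G) := fun y hy => ((hT y).mp hy).1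
  have hNPT : P ⊓ Subgroup.normalizer (R : Set G) ≤ T := fun x hx =>
    (hT x).mpr ⟨hx.2, stabilizesBlock_of_subpairLE hM P R e fR hPe hRP hle x hx.1 hx.2⟩
  haveI hRn : (R.subgroupOf T).Normal :=
    (Subgroup.normal_subgroupOf_iff_le_normalizer hRT).mpr hTN
  haveI : Fintype (Subgroup.centralizer ((R.subgroupOf T : Subgroup T) : Set T)) :=
    Fintype.ofFinite _
  have hc : Cfsg.IsPBlock M (localBlock T R hRT hCT fR) := isPBlock_localBlock T R hRT hCT fR hfR
  have hst : ∀ x : T, Cfsg.StabilizesBlock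
      (Subgroup.centralizer ((R.subgroupOf T : Subgroup T) : Set T))
      (localBlock T R hRT hCT fR) x := fun x =>
    (stabilizesBlock_localBlock_iff T R hRT hCT hTN fR x).mpr ((hT x).mp x.2).2
  have hBc : ∀ t : T, Cfsg.blockCoeff F' t = Cfsg.subgroupBlockCoeff
      (Subgroup.centralizer ((R.subgroupOf T : Subgroup T) : Set T))
      (localBlock T R hRT hCT fR) t := fun t => by
    rw [subgroupBlockCoeff_localBlock]; exact hcoef t
  obtain ⟨hidx, -⟩ := defectGroup_of_stable_gen hM
    (Subgroup.centralizer ((R.subgroupOf T : Subgroup T) : Set T)) _ hc hst F' hBc _ hdef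
  -- the automorphism groups
  obtain ⟨Θ, hΘ⟩ : ∃ Θ : T →* MulAut R, Θ = stabAut R T hTN := ⟨_, rfl⟩
  have hΘapp : ∀ (t : T) (x : R), ((Θ t x : R) : G) = (t : G) * (x : G) * (t : G)⁻¹ := by
    intro t x; rw [hΘ]; rfl
  have hker : Θ.ker = Subgroup.centralizer ((R.subgroupOf T : Subgroup T) : Set T) := by
    rw [hΘ]; exact stabAut_ker R T hTN hRT
  have hautF : F.autGroup R = Θ.range := by
    unfold Cfsg.FusionSystem.autGroup
    have hset : {α : MulAut R | R.subtype.comp α.toMonoidHom ∈ F.Hom R} =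
        ((Θ.range : Subgroup (MulAut R)) : Set (MulAut R)) := by
      ext α
      constructor
      · intro hα
        obtain ⟨-, g, hφ, hRg, f, hle', hleg⟩ := (hF.2 R _).mp hα
        have hff : f = fR := subpairLE_unique hM _ P R e hPe hRP rfl f fR hle' hle
        rw [hff] at hleg
        have hφ' : ∀ u : R, ((α u : R) : G) = g * (u : G) * g⁻¹ := fun u => hφ u
        have hgN : g ∈ Subgroup.normalizer (R : Set G) :=
          mem_normalizer_of_forall_conj_mem R g (fun x hx => by
            rw [← hφ' ⟨x, hx⟩]; exact (α ⟨x, hx⟩).2)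
        have hRgeq : R.map (MulAut.conj g).toMonoidHom = R :=
          Subgroup.mem_normalizer_iff_map_conj_eq.mp hgN
        have h1 : conjPair g (⟨R, fR⟩ : Cfsg.BrauerPairIdx G) = ⟨R, fR⟩ :=
          pair_eq_of_le_of_fst_eq hM ⟨P, e⟩ hPe _ _ hleg hle hRgeq
        obtain ⟨-, hgst⟩ := stabilizes_of_conjPair_eq_self R fR g h1
        have hgT : g ∈ T := (hT g).mpr ⟨hgN, hgst⟩
        refine ⟨⟨g, hgT⟩, ?_⟩
        ext u
        rw [hΘapp, hφ' u]
      · rintro ⟨t, rfl⟩
        obtain ⟨htN, htst⟩ := (hT t).mp t.2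
        have hRt : R.map (MulAut.conj (t : G)).toMonoidHom = R :=
          Subgroup.mem_normalizer_iff_map_conj_eq.mp htN
        refine (hF.2 R _).mpr ⟨hRP, (t : G), fun u => hΘapp t u, by rw [hRt]; exact hRP, fR, hle, ?_⟩
        show Relation.ReflTransGen (Cfsg.NormalSubpairRel p M)
          (conjPair (t : G) (⟨R, fR⟩ : Cfsg.BrauerPairIdx G)) ⟨P, e⟩
        rw [conjPair_eq_self_of_stabilizes hM.2.1 R fR hfR (t : G) htN htst]
        exact hle
    rw [hset, Subgroup.closure_eq]
  have hautP : Cfsg.autInducedBy P R =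
      ((P ⊓ Subgroup.normalizer (R : Set G)).subgroupOf T).map Θ := by
    unfold Cfsg.autInducedBy
    have hset : {α : MulAut R | ∃ g ∈ P, ∀ x : R, ((α x : R) : G) = g * (x : G) * g⁻¹} =
        ((((P ⊓ Subgroup.normalizer (R : Set G)).subgroupOf T).map Θ : Subgroup (MulAut R)) :
          Set (MulAut R)) := by
      ext α
      constructor
      · rintro ⟨g, hgP, hφ⟩
        have hgN : g ∈ Subgroup.normalizer (R : Set G) :=
          mem_normalizer_of_forall_conj_mem R g (fun x hx => by
            rw [← hφ ⟨x, hx⟩]; exact (α ⟨x, hx⟩).2)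
        have hgT : g ∈ T := hNPT ⟨hgP, hgN⟩
        refine ⟨⟨g, hgT⟩, Subgroup.mem_subgroupOf.mpr ⟨hgP, hgN⟩, ?_⟩
        ext u
        rw [hΘapp, hφ u]
      · rintro ⟨t, ht, rfl⟩
        exact ⟨(t : G), (Subgroup.mem_subgroupOf.mp ht).1, fun x => hΘapp t x⟩
    rw [hset, Subgroup.closure_eq]
  -- the Sylow subgroup
  have hDp : IsPGroup p ((P ⊓ Subgroup.normalizer (R : Set G)).subgroupOf T) :=
    (hP.to_le inf_le_left).comap_subtype
  have hKp : IsPGroup p ((Cfsg.autInducedBy P R).subgroupOf (F.autGroup R)) := by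
    rw [hautP]
    exact (hDp.map Θ).comap_subtype
  have hKidx : ¬ p ∣ ((Cfsg.autInducedBy P R).subgroupOf (F.autGroup R)).index := by
    have h1 : ((Cfsg.autInducedBy P R).subgroupOf (F.autGroup R)).index =
        (Cfsg.autInducedBy P R).relIndex (F.autGroup R) := rfl
    rw [h1, hautP, hautF, MonoidHom.range_eq_map, ← Subgroup.relIndex_comap,
      Subgroup.relIndex_top_right, Subgroup.comap_map_eq, hker, sup_comm]
    exact hidx
  exact ⟨hRP, hKp.toSylow hKidx, IsPGroup.toSylow_coe hKp hKidx⟩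

end Cfsg.Agent.Helper6
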