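import Mathlib
import Cfsg.Prelude.Def_Characters
import Cfsg.Prelude.Def_Blocks
import Cfsg.Prelude.Def_BlockLocal
import Cfsg.Prelude.Def_BrauerPairs
import Cfsg.Prelude.Def_FusionSystem
import Cfsg.Prelude.Def_BlockFusion
import Cfsg.Agent.Helper6.BlockFusionAut

/-!
# The fusion system of a block: preparations for receptivity
-/

set_option autoImplicit false
set_option linter.style.haveILetI false

namespace Cfsg.Agent.Helper6

open scoped ComplexConjugate

universe u

variable {G : Type u} [Group G] {M : Ideal Cfsg.AlgInt}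

/-- every block has a defect group -/
theorem exists_isDefectGroup [Finite G] (hM : M.IsMaximal) (p : ℕ) [hp : Fact p.Prime]
    (B : Set (Cfsg.IrrCharacter G)) (hB : Cfsg.IsPBlock M B) :
    ∃ D : Subgroup G, Cfsg.IsDefectGroup p M B D := by
  obtain ⟨g, hg⟩ := exists_defectClass hM B hB
  obtain ⟨S⟩ : Nonempty (Sylow p (Subgroup.centralizer ({g} : Set G))) := inferInstance
  exact ⟨_, g, hg, S, rfl⟩

/-- the defect of a block is invariant under transport along an isomorphism -/
theorem blockDefect_image_irrComp {K K' : Type u} [Group K] [Group K'] (p : ℕ) (φ : K ≃* K')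
    (f : Set (Cfsg.IrrCharacter K')) :
    Cfsg.blockDefect p (irrComp φ '' f) = Cfsg.blockDefect p f := by
  unfold Cfsg.blockDefect
  rw [Nat.card_congr φ.toEquiv, Set.image_image]
  congr 2
  apply Set.image_congr
  intro χ _
  unfold Cfsg.charDegree
  rw [irrComp_apply, map_one]

theorem blockDefect_localBlock (p : ℕ) (K P : Subgroup G) (hPK : P ≤ K)
    (hCK : Subgroup.centralizer (P : Set G) ≤ K)
    (e : Set (Cfsg.IrrCharacter (Subgroup.centralizer (P : Set G)))) :
    Cfsg.blockDefect p (localBlock K P hPK hCK e) = Cfsg.blockDefect p e :=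
  blockDefect_image_irrComp p _ e

/-- the intersection with the centralizer, read in a subgroup -/
theorem subgroupOf_inf_centralizer (T R D : Subgroup G) (hRT : R ≤ T) :
    D.subgroupOf T ⊓ Subgroup.centralizer ((R.subgroupOf T : Subgroup T) : Set T) =
      (D ⊓ Subgroup.centralizer (R : Set G)).subgroupOf T := by
  ext t
  rw [Subgroup.mem_inf, mem_centralizer_subgroupOf_iff T R hRT t, Subgroup.mem_subgroupOf,
    Subgroup.mem_subgroupOf, Subgroup.mem_inf]

set_option maxHeartbeats 1000000 in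
/-- for a fully normalized `R`, the order of `C_P(R)` is that of the defect groups of the block of
`C_G(R)` -/
theorem card_inf_centralizer_of_isFullyNormalized [Fintype G] {p : ℕ} [hp : Fact p.Prime]
    (hM : Cfsg.IsPModular p M) (B : Set (Cfsg.IrrCharacter G)) (P : Subgroup G)
    (e : Set (Cfsg.IrrCharacter (Subgroup.centralizer (P : Set G))))
    (hmax : Cfsg.IsMaximalBrauerPair p M B P e)
    (F : Cfsg.FusionSystem P) (hF : Cfsg.IsBlockFusionSystemOn p M B P e F) (R : Subgroup G)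
    (fR : Set (Cfsg.IrrCharacter (Subgroup.centralizer (R : Set G)))) (hRP : R ≤ P)
    (hfR : Cfsg.IsPBlock M fR) (hle : Cfsg.SubpairLE p M R fR P e)
    (hfn : F.IsFullyNormalized R) :
    Nat.card (P ⊓ Subgroup.normalizer (R : Set G) ⊓ Subgroup.centralizer (R : Set G) :
      Subgroup G) = p ^ Cfsg.blockDefect p fR := by
  classical
  have hPe : Cfsg.IsBrauerPair p M P e := hmax.1.1
  obtain ⟨T, hT⟩ : ∃ T : Subgroup G, ∀ y : G, y ∈ T ↔ y ∈ Subgroup.normalizer (R : Set G) ∧
      Cfsg.StabilizesBlock (Subgroup.centralizer (R : Set G)) fR y :=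
    ⟨pairStabilizer R fR, mem_pairStabilizer R fR⟩
  haveI : Fintype T := Fintype.ofFinite _
  obtain ⟨F', hF', hcoef, hdef⟩ :=
    (isFullyNormalized_iff hM B P e hmax F hF R fR hRP hfR hle T hT).mp hfn
  have hRT : R ≤ T := fun q hq =>
    (hT q).mpr ⟨Subgroup.le_normalizer hq, stabilizesBlock_of_mem R fR q hq⟩
  have hCT : Subgroup.centralizer (R : Set G) ≤ T := fun c hc =>
    (hT c).mpr ⟨Subgroup.centralizer_le_normalizer _ hc,
      stabilizesBlock_of_mem_centralizer _ _ c hc⟩
  have hTN : T ≤ Subgroup.normalizer (R : Set G) := fun y hy => ((hT y).mp hy).1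
  haveI hRn : (R.subgroupOf T).Normal :=
    (Subgroup.normal_subgroupOf_iff_le_normalizer hRT).mpr hTN
  haveI : Fintype (Subgroup.centralizer ((R.subgroupOf T : Subgroup T) : Set T)) :=
    Fintype.ofFinite _
  have hc : Cfsg.IsPBlock M (localBlock T R hRT hCT fR) := isPBlock_localBlock T R hRT hCT fR hfR
  have hst : ∀ x : T, Cfsg.StabilizesBlock
      (Subgroup.centralizer ((R.subgroupOf T : Subgroup T) : Set T))
      (localBlock T R hRT hCT fR) x := fun x =>
    (stabilizesBlock_localBlock_iff T R hRT hCT hTN fR x).mpr ((hT x).mp x.2).2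
  have hBc : ∀ t : T, Cfsg.blockCoeff F' t = Cfsg.subgroupBlockCoeff
      (Subgroup.centralizer ((R.subgroupOf T : Subgroup T) : Set T))
      (localBlock T R hRT hCT fR) t := fun t => by
    rw [subgroupBlockCoeff_localBlock]; exact hcoef t
  obtain ⟨-, h2⟩ := defectGroup_of_stable_gen hM
    (Subgroup.centralizer ((R.subgroupOf T : Subgroup T) : Set T)) _ hc hst F' hBc _ hdef
  have c1 := card_defectGroup hM.2.1 p hM.2.2 _ hc _ h2
  rw [blockDefect_localBlock, Nat.card_congr (Subgroup.subgroupOfEquivOfLe inf_le_right).toEquiv,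
    subgroupOf_inf_centralizer T R _ hRT,
    Nat.card_congr (Subgroup.subgroupOfEquivOfLe
      (inf_le_right.trans hCT : P ⊓ Subgroup.normalizer (R : Set G) ⊓
        Subgroup.centralizer (R : Set G) ≤ T)).toEquiv] at c1
  exact c1

set_option maxHeartbeats 1000000 in
/-- the block with the idempotent of `f_R` of a subgroup of the stabilizer of `(R, f_R)` in which
`C_G(R)` has `p`-power index, and the order of its defect groups -/
theorem exists_block_of_le_stabilizer [Fintype G] {p : ℕ} [hp : Fact p.Prime]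
    (hM : Cfsg.IsPModular p M) (R : Subgroup G)
    (fR : Set (Cfsg.IrrCharacter (Subgroup.centralizer (R : Set G)))) (hfR : Cfsg.IsPBlock M fR)
    (T₁ : Subgroup G) (hRT₁ : R ≤ T₁) (hCT₁ : Subgroup.centralizer (R : Set G) ≤ T₁)
    (hT₁N : T₁ ≤ Subgroup.normalizer (R : Set G))
    (hst : ∀ x ∈ T₁, Cfsg.StabilizesBlock (Subgroup.centralizer (R : Set G)) fR x)
    (k : ℕ) (hk : (Subgroup.centralizer ((R.subgroupOf T₁ : Subgroup T₁) : Set T₁)).index = p ^ k) :
    ∃ F₁ : Set (Cfsg.IrrCharacter T₁), Cfsg.IsPBlock M F₁ ∧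
      (∀ t : T₁, Cfsg.blockCoeff F₁ t =
        Cfsg.subgroupBlockCoeff (Subgroup.centralizer (R : Set G)) fR (t : G)) ∧
      ∀ D₁ : Subgroup T₁, Cfsg.IsDefectGroup p M F₁ D₁ →
        Nat.card D₁ = p ^ Cfsg.blockDefect p fR * p ^ k := by
  classical
  haveI : Fintype T₁ := Fintype.ofFinite _
  haveI hRn : (R.subgroupOf T₁).Normal :=
    (Subgroup.normal_subgroupOf_iff_le_normalizer hRT₁).mpr hT₁N
  haveI : Fintype (Subgroup.centralizer ((R.subgroupOf T₁ : Subgroup T₁) : Set T₁)) :=
    Fintype.ofFinite _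
  have hc : Cfsg.IsPBlock M (localBlock T₁ R hRT₁ hCT₁ fR) :=
    isPBlock_localBlock T₁ R hRT₁ hCT₁ fR hfR
  have hst₁ : ∀ x : T₁, Cfsg.StabilizesBlock
      (Subgroup.centralizer ((R.subgroupOf T₁ : Subgroup T₁) : Set T₁))
      (localBlock T₁ R hRT₁ hCT₁ fR) x := fun x =>
    (stabilizesBlock_localBlock_iff T₁ R hRT₁ hCT₁ hT₁N fR x).mpr (hst x x.2)
  obtain ⟨⟨F₁, hF₁, hBc₁⟩, hsec⟩ := Cfsg.Agent.S4672.result p M hM
    (Subgroup.centralizer ((R.subgroupOf T₁ : Subgroup T₁) : Set T₁)) ⟨k, hk⟩ _ hc hst₁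
  refine ⟨F₁, hF₁, fun t => ?_, fun D₁ hD₁ => ?_⟩
  · rw [hBc₁ t, subgroupBlockCoeff_localBlock]
  · obtain ⟨-, h2⟩ := hsec F₁ hF₁ hBc₁ D₁ hD₁
    have c1 := card_defectGroup_of_stable hM
      (Subgroup.centralizer ((R.subgroupOf T₁ : Subgroup T₁) : Set T₁)) k hk _ hc hst₁ F₁ hF₁
      hBc₁ D₁ hD₁ _ h2
    have c2 := card_defectGroup hM.2.1 p hM.2.2 _ hc _ h2
    rw [blockDefect_localBlock] at c2
    rw [c1, c2, hk]

end Cfsg.Agent.Helper6
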