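import Mathlib
import Cfsg.Prelude.Def_Characters
import Cfsg.Prelude.Def_Blocks
import Cfsg.Agent.Helper6.CharCongr

/-!
# A `ℤ/p`-valued cocycle for the conjugation action of a cyclic group with `p`-divisible
stabilizers
-/

set_option autoImplicit false
set_option linter.style.haveILetI false

namespace Cfsg.Agent.Helper6

universe u

variable {G : Type u} [Group G]

/-- the orbit relation of conjugation by powers of `h` -/
def conjPowSetoid (h : G) : Setoid G where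
  r a b := ∃ j : ℤ, h ^ j * a * (h ^ j)⁻¹ = b
  iseqv := by
    refine ⟨fun a => ⟨0, by simp⟩, ?_, ?_⟩
    · rintro a b ⟨j, rfl⟩
      refine ⟨-j, ?_⟩
      rw [zpow_neg]
      group
    · rintro a b c ⟨j, rfl⟩ ⟨k, rfl⟩
      refine ⟨k + j, ?_⟩
      rw [zpow_add]
      group

/-- a `ℤ/p`-valued function increasing by one under conjugation by `h`, on a stable set where
stabilizers consist of `p`-th powers -/
theorem exists_cocycle (p : ℕ) (h : G) (S : Set G)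
    (hS : ∀ a ∈ S, ∀ j : ℤ, h ^ j * a * (h ^ j)⁻¹ ∈ S)
    (hfix : ∀ a ∈ S, ∀ j : ℤ, h ^ j * a * (h ^ j)⁻¹ = a → (p : ℤ) ∣ j) :
    ∃ c : G → ZMod p, ∀ a ∈ S, c (h * a * h⁻¹) = c a + 1 := by
  classical
  let r : Setoid G := conjPowSetoid h
  let rep : G → G := fun a => Quotient.out (Quotient.mk r a)
  have hrep : ∀ a : G, ∃ j : ℤ, h ^ j * rep a * (h ^ j)⁻¹ = a := by
    intro a
    have : r (rep a) a := Quotient.exact (Quotient.out_eq (Quotient.mk r a))
    exact this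
  have hrep_eq : ∀ a : G, rep (h * a * h⁻¹) = rep a := by
    intro a
    have : Quotient.mk r (h * a * h⁻¹) = Quotient.mk r a := by
      apply Quotient.sound
      refine ⟨-1, ?_⟩
      rw [zpow_neg, zpow_one]
      group
    change Quotient.out (Quotient.mk r (h * a * h⁻¹)) = Quotient.out (Quotient.mk r a)
    rw [this]
  choose J hJ using hrep
  refine ⟨fun a => (J a : ZMod p), ?_⟩
  intro a ha
  have h1 := hJ a
  have h2 := hJ (h * a * h⁻¹)
  rw [hrep_eq a] at h2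
  obtain ⟨j, hj⟩ : ∃ j : ℤ, j = J a := ⟨_, rfl⟩
  obtain ⟨j', hj'⟩ : ∃ j' : ℤ, j' = J (h * a * h⁻¹) := ⟨_, rfl⟩
  obtain ⟨r0, hr0⟩ : ∃ r0 : G, r0 = rep a := ⟨_, rfl⟩
  rw [← hj, ← hr0] at h1
  rw [← hj', ← hr0] at h2
  have h1' : r0 = (h ^ j)⁻¹ * a * h ^ j := by
    rw [← h1]
    group
  -- `r0 ∈ S`
  have hrS : r0 ∈ S := by
    have h3 := hS a ha (-j)
    rw [zpow_neg, inv_inv, ← h1'] at h3
    exact h3
  have h5 : h ^ (j' - j - 1) * r0 * (h ^ (j' - j - 1))⁻¹ = r0 := by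
    have e1 : h ^ (j' - j - 1) = h⁻¹ * (h ^ j)⁻¹ * h ^ j' := by
      have : j' - j - 1 = -1 + -j + j' := by ring
      rw [this, zpow_add, zpow_add, zpow_neg, zpow_neg, zpow_one]
    rw [e1]
    have e2 : h⁻¹ * (h ^ j)⁻¹ * h ^ j' * r0 * (h⁻¹ * (h ^ j)⁻¹ * h ^ j')⁻¹ =
        h⁻¹ * (h ^ j)⁻¹ * (h ^ j' * r0 * (h ^ j')⁻¹) * (h ^ j) * h := by
      group
    rw [e2, h2, h1']
    group
  have h6 := hfix r0 hrS _ h5
  have h7 : ((j' - j - 1 : ℤ) : ZMod p) = 0 :=
    (ZMod.intCast_zmod_eq_zero_iff_dvd _ p).mpr h6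
  push_cast at h7
  simp only
  rw [← hj, ← hj']
  linear_combination h7

/-- an element commuting with a power `h ^ j`, `p ∤ j`, commutes with the `p`-part of `h` -/
theorem commute_ppart_of_commute_zpow (p : ℕ) [hp : Fact p.Prime] (h x a : G)
    (hx : Cfsg.IsPPart p h x) (j : ℤ) (hj : ¬ (p : ℤ) ∣ j)
    (hcomm : h ^ j * a * (h ^ j)⁻¹ = a) : x * a = a * x := by
  obtain ⟨y, hxy, hc, ⟨k, hk⟩, hy⟩ := hx
  have hpZ : Prime (p : ℤ) := Nat.prime_iff_prime_int.mp hp.1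
  have hm' : ¬ (p : ℤ) ∣ (orderOf y : ℤ) := by
    intro hd
    exact hy (Int.natCast_dvd_natCast.mp hd)
  have hN : ¬ (p : ℤ) ∣ j * (orderOf y : ℤ) := by
    intro hd
    rcases hpZ.dvd_or_dvd hd with h1 | h1
    · exact hj h1
    · exact hm' h1
  have hcop : IsCoprime (j * (orderOf y : ℤ)) ((p : ℤ) ^ k) :=
    ((Prime.coprime_iff_not_dvd hpZ).mpr hN).symm.pow_right
  obtain ⟨u, v, huv⟩ := hcop
  have hxq : x ^ ((p : ℤ) ^ k) = 1 := by
    have : ((p : ℤ) ^ k) = ((p ^ k : ℕ) : ℤ) := by push_cast; rfl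
    rw [this, zpow_natCast, ← hk, pow_orderOf_eq_one]
  have hyN : y ^ (j * (orderOf y : ℤ)) = 1 := by
    rw [mul_comm, zpow_mul, zpow_natCast, pow_orderOf_eq_one, one_zpow]
  have hhN : h ^ (j * (orderOf y : ℤ)) = x ^ (j * (orderOf y : ℤ)) := by
    rw [← hxy, hc.mul_zpow, hyN, mul_one]
  have hxu : x = h ^ (j * ((orderOf y : ℤ) * u)) := by
    have h1 : x = x ^ (u * (j * (orderOf y : ℤ)) + v * (p : ℤ) ^ k) := by
      rw [huv, zpow_one]
    have h2 : x ^ (v * (p : ℤ) ^ k) = 1 := by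
      rw [mul_comm, zpow_mul, hxq, one_zpow]
    have h3 : x ^ (u * (j * (orderOf y : ℤ))) = h ^ (j * ((orderOf y : ℤ) * u)) := by
      rw [mul_comm u, zpow_mul, ← hhN, ← zpow_mul, mul_assoc]
    rw [zpow_add, h2, mul_one, h3] at h1
    exact h1
  have hcm : Commute (h ^ j) a := by
    unfold Commute SemiconjBy
    have := congrArg (fun t => t * h ^ j) hcomm
    simp only [inv_mul_cancel_right] at this
    exact this
  have hcm2 : Commute ((h ^ j) ^ ((orderOf y : ℤ) * u)) a := hcm.zpow_left _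
  rw [← zpow_mul, ← hxu] at hcm2
  exact hcm2.eq

end Cfsg.Agent.Helper6
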