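import Mathlib
import Cfsg.Prelude.Def_Characters
import Cfsg.Prelude.Def_Blocks
import Cfsg.Agent.Helper6.Osima1
import Cfsg.Agent.Helper6.IndFun

/-!
# Group algebra basics (coefficients, local coefficients, subgroup inclusion)
-/

set_option autoImplicit false
set_option linter.style.haveILetI false

namespace Cfsg.Agent.Helper6

open Module
open scoped ComplexConjugate

universe u

variable {G : Type u} [Group G] {M : Ideal Cfsg.AlgInt}

/-- the group algebra element with prescribed coefficient function -/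
noncomputable def gaOfFun [Fintype G] (a : G → ℂ) : MonoidAlgebra ℂ G :=
  MonoidAlgebra.ofCoeff (Finsupp.equivFunOnFinite.symm a)

omit [Group G] in
@[simp]
theorem gaOfFun_coeff [Fintype G] (a : G → ℂ) (g : G) : (gaOfFun a).coeff g = a g := by
  simp [gaOfFun]

omit [Group G] in
theorem ga_ext (x y : MonoidAlgebra ℂ G) (h : ∀ g, x.coeff g = y.coeff g) : x = y := by
  apply MonoidAlgebra.coeff_injective
  ext g
  exact h g

omit [Group G] in
theorem gaOfFun_coeff_self [Fintype G] (x : MonoidAlgebra ℂ G) :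
    gaOfFun (fun g => x.coeff g) = x :=
  ga_ext _ _ (fun g => gaOfFun_coeff _ g)

theorem ga_coeff_mul [Fintype G] (x y : MonoidAlgebra ℂ G) (g : G) :
    (x * y).coeff g = ∑ t : G, x.coeff t * y.coeff (t⁻¹ * g) := by
  rw [MonoidAlgebra.coeff_mul_apply_left, Finsupp.sum_fintype]
  intro i
  simp

theorem ga_coeff_mul' [Fintype G] (x y : MonoidAlgebra ℂ G) (g : G) :
    (x * y).coeff g = ∑ t : G, x.coeff (g * t⁻¹) * y.coeff t := by
  rw [MonoidAlgebra.coeff_mul_apply_right, Finsupp.sum_fintype]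
  intro i
  simp

theorem ga_coeff_one [DecidableEq G] (g : G) :
    (1 : MonoidAlgebra ℂ G).coeff g = if g = 1 then 1 else 0 := by
  rw [MonoidAlgebra.one_def, MonoidAlgebra.coeff_single, Finsupp.single_apply]
  by_cases h : g = 1
  · rw [if_pos h, if_pos h.symm]
  · rw [if_neg h, if_neg (fun h' => h h'.symm)]

omit [Group G] in
theorem ga_coeff_sum {ι : Type*} (s : Finset ι) (f : ι → MonoidAlgebra ℂ G) (g : G) :
    (∑ i ∈ s, f i).coeff g = ∑ i ∈ s, (f i).coeff g := by
  rw [MonoidAlgebra.coeff_sum, Finsupp.finsetSum_apply]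

/-- all coefficients are local integers -/
def GaLoc (M : Ideal Cfsg.AlgInt) (w : MonoidAlgebra ℂ G) : Prop :=
  ∀ g, Cfsg.MemLocalRing M (w.coeff g)

theorem GaLoc.zero (hM : M.IsMaximal) : GaLoc M (0 : MonoidAlgebra ℂ G) := by
  intro g
  rw [MonoidAlgebra.coeff_zero, Finsupp.zero_apply]
  exact memLocalRing_zero hM

theorem GaLoc.single (hM : M.IsMaximal) (g : G) {c : ℂ} (hc : Cfsg.MemLocalRing M c) :
    GaLoc M (MonoidAlgebra.single g c) := by
  classical
  intro k
  rw [MonoidAlgebra.coeff_single, Finsupp.single_apply]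
  split_ifs
  · exact hc
  · exact memLocalRing_zero hM

theorem GaLoc.one (hM : M.IsMaximal) : GaLoc M (1 : MonoidAlgebra ℂ G) := by
  rw [MonoidAlgebra.one_def]
  exact GaLoc.single hM 1 (memLocalRing_one hM)

theorem GaLoc.add (hM : M.IsMaximal) {x y : MonoidAlgebra ℂ G} (hx : GaLoc M x) (hy : GaLoc M y) :
    GaLoc M (x + y) := by
  intro g
  rw [MonoidAlgebra.coeff_add, Finsupp.add_apply]
  exact MemLocalRing.add hM (hx g) (hy g)

theorem GaLoc.neg {x : MonoidAlgebra ℂ G} (hx : GaLoc M x) : GaLoc M (-x) := by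
  intro g
  rw [MonoidAlgebra.coeff_neg, Finsupp.neg_apply]
  exact MemLocalRing.neg (hx g)

theorem GaLoc.sub (hM : M.IsMaximal) {x y : MonoidAlgebra ℂ G} (hx : GaLoc M x) (hy : GaLoc M y) :
    GaLoc M (x - y) := by
  rw [sub_eq_add_neg]
  exact GaLoc.add hM hx (GaLoc.neg hy)

theorem GaLoc.mul [Finite G] (hM : M.IsMaximal) {x y : MonoidAlgebra ℂ G} (hx : GaLoc M x)
    (hy : GaLoc M y) : GaLoc M (x * y) := by
  haveI := Fintype.ofFinite G
  intro g
  rw [ga_coeff_mul]
  exact MemLocalRing.sum hM _ _ (fun t _ => MemLocalRing.mul hM (hx t) (hy _))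

theorem GaLoc.smul (hM : M.IsMaximal) {c : ℂ} (hc : Cfsg.MemLocalRing M c)
    {x : MonoidAlgebra ℂ G} (hx : GaLoc M x) : GaLoc M (c • x) := by
  intro g
  rw [MonoidAlgebra.coeff_smul, Finsupp.smul_apply, smul_eq_mul]
  exact MemLocalRing.mul hM hc (hx g)

theorem GaLoc.sum (hM : M.IsMaximal) {ι : Type*} (s : Finset ι) (f : ι → MonoidAlgebra ℂ G)
    (h : ∀ i ∈ s, GaLoc M (f i)) : GaLoc M (∑ i ∈ s, f i) := by
  intro g
  rw [ga_coeff_sum]
  exact MemLocalRing.sum hM _ _ (fun i hi => h i hi g)

theorem GaLoc.pow [Finite G] (hM : M.IsMaximal) {x : MonoidAlgebra ℂ G} (hx : GaLoc M x) (n : ℕ) :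
    GaLoc M (x ^ n) := by
  induction n with
  | zero => rw [pow_zero]; exact GaLoc.one hM
  | succ n ih => rw [pow_succ]; exact GaLoc.mul hM ih hx

theorem GaLoc.ofFun [Fintype G] {a : G → ℂ} (ha : ∀ g, Cfsg.MemLocalRing M (a g)) :
    GaLoc M (gaOfFun a) := by
  intro g
  rw [gaOfFun_coeff]
  exact ha g

/-- an element commuting with all group elements commutes with everything -/
theorem commute_of_commute_single (x : MonoidAlgebra ℂ G)
    (h : ∀ g : G, Commute x (MonoidAlgebra.single g 1)) (w : MonoidAlgebra ℂ G) :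
    Commute x w := by
  induction w using MonoidAlgebra.induction_on with
  | of g =>
    rw [MonoidAlgebra.of_apply]
    exact h g
  | add a b ha hb => exact Commute.add_right ha hb
  | smul c a ha => exact Commute.smul_right ha c

/-- class functions give central elements -/
theorem gaOfFun_commute_single [Fintype G] {a : G → ℂ} (ha : Cfsg.IsClassFunction G a) (g : G) :
    Commute (gaOfFun a) (MonoidAlgebra.single g 1) := by
  apply ga_ext
  intro k
  rw [MonoidAlgebra.coeff_mul_single_apply, MonoidAlgebra.coeff_single_mul_apply, gaOfFun_coeff,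
    gaOfFun_coeff, mul_one, one_mul]
  have := ha (g⁻¹ * k) g
  rw [← this]
  congr 1
  group

theorem gaOfFun_commute [Fintype G] {a : G → ℂ} (ha : Cfsg.IsClassFunction G a)
    (w : MonoidAlgebra ℂ G) : Commute (gaOfFun a) w :=
  commute_of_commute_single _ (gaOfFun_commute_single ha) w

/-- coefficients of a conjugate -/
theorem ga_coeff_conj (x : MonoidAlgebra ℂ G) (g k : G) :
    (MonoidAlgebra.single g 1 * x * MonoidAlgebra.single g⁻¹ 1).coeff k = x.coeff (g⁻¹ * k * g) := by
  rw [MonoidAlgebra.coeff_mul_single_apply, MonoidAlgebra.coeff_single_mul_apply, mul_one, one_mul,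
    inv_inv, mul_assoc]

/-- the coefficient function of an element commuting with all group elements is a class
function -/
theorem isClassFunction_coeff_of_commute (x : MonoidAlgebra ℂ G)
    (h : ∀ g : G, Commute x (MonoidAlgebra.single g 1)) :
    Cfsg.IsClassFunction G (fun g => x.coeff g) := by
  intro k g
  have h1 := ga_coeff_conj x g⁻¹ k
  rw [inv_inv] at h1
  change x.coeff (g * k * g⁻¹) = x.coeff k
  rw [← h1]
  have h2 : MonoidAlgebra.single g⁻¹ 1 * x * MonoidAlgebra.single g 1 = x := by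
    rw [mul_assoc, (h g).eq, ← mul_assoc, MonoidAlgebra.single_mul_single, inv_mul_cancel,
      mul_one, ← MonoidAlgebra.one_def, one_mul]
  rw [h2]

end Cfsg.Agent.Helper6
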