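import Mathlib
import Cfsg.Prelude.Def_Characters
import Cfsg.Prelude.Def_Blocks
import Cfsg.Agent.Helper6.GroupAlgA
import Cfsg.Agent.Helper6.BlockKernel
import Cfsg.Agent.Helper6.Completeness
import Cfsg.Agent.Helper6.NormalInd

/-!
# Pairing of group algebra elements with characters; central characters
-/

set_option autoImplicit false
set_option linter.style.haveILetI false

namespace Cfsg.Agent.Helper6

open Module
open scoped ComplexConjugate

universe u

variable {G : Type u} [Group G] {M : Ideal Cfsg.AlgInt}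

/-- linear extension of a function to the group algebra -/
noncomputable def gaPair [Fintype G] (χ : G → ℂ) (w : MonoidAlgebra ℂ G) : ℂ :=
  ∑ g : G, w.coeff g * χ g

theorem gaPair_def [Fintype G] (χ : G → ℂ) (w : MonoidAlgebra ℂ G) :
    gaPair χ w = ∑ g : G, w.coeff g * χ g := rfl

theorem gaPair_add [Fintype G] (χ : G → ℂ) (x y : MonoidAlgebra ℂ G) :
    gaPair χ (x + y) = gaPair χ x + gaPair χ y := by
  unfold gaPair
  rw [← Finset.sum_add_distrib]
  apply Finset.sum_congr rfl
  intro g _
  rw [MonoidAlgebra.coeff_add, Finsupp.add_apply, add_mul]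

theorem gaPair_zero [Fintype G] (χ : G → ℂ) : gaPair χ (0 : MonoidAlgebra ℂ G) = 0 := by
  unfold gaPair
  apply Finset.sum_eq_zero
  intro g _
  rw [MonoidAlgebra.coeff_zero, Finsupp.zero_apply, zero_mul]

theorem gaPair_smul [Fintype G] (χ : G → ℂ) (c : ℂ) (x : MonoidAlgebra ℂ G) :
    gaPair χ (c • x) = c * gaPair χ x := by
  unfold gaPair
  rw [Finset.mul_sum]
  apply Finset.sum_congr rfl
  intro g _
  rw [MonoidAlgebra.coeff_smul, Finsupp.smul_apply, smul_eq_mul, mul_assoc]

theorem gaPair_neg [Fintype G] (χ : G → ℂ) (x : MonoidAlgebra ℂ G) :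
    gaPair χ (-x) = -gaPair χ x := by
  have h := gaPair_smul χ (-1) x
  rwa [neg_one_smul, neg_one_mul] at h

theorem gaPair_sub [Fintype G] (χ : G → ℂ) (x y : MonoidAlgebra ℂ G) :
    gaPair χ (x - y) = gaPair χ x - gaPair χ y := by
  rw [sub_eq_add_neg, gaPair_add, gaPair_neg, sub_eq_add_neg]

theorem gaPair_sum [Fintype G] (χ : G → ℂ) {ι : Type*} (s : Finset ι)
    (f : ι → MonoidAlgebra ℂ G) : gaPair χ (∑ i ∈ s, f i) = ∑ i ∈ s, gaPair χ (f i) := by
  classical
  induction s using Finset.induction_on with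
  | empty => simp [gaPair_zero]
  | insert a s ha ih => rw [Finset.sum_insert ha, Finset.sum_insert ha, gaPair_add, ih]

theorem gaPair_single [Fintype G] (χ : G → ℂ) (g : G) (c : ℂ) :
    gaPair χ (MonoidAlgebra.single g c) = c * χ g := by
  classical
  unfold gaPair
  rw [Finset.sum_eq_single g]
  · rw [MonoidAlgebra.coeff_single, Finsupp.single_eq_same]
  · intro k _ hk
    rw [MonoidAlgebra.coeff_single, Finsupp.single_apply, if_neg (fun h => hk h.symm), zero_mul]
  · intro h
    exact absurd (Finset.mem_univ g) h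

theorem gaPair_one [Fintype G] (χ : G → ℂ) : gaPair χ (1 : MonoidAlgebra ℂ G) = χ 1 := by
  rw [MonoidAlgebra.one_def, gaPair_single, one_mul]

theorem gaPair_ofFun [Fintype G] (χ a : G → ℂ) : gaPair χ (gaOfFun a) = ∑ g : G, a g * χ g := by
  unfold gaPair
  simp_rw [gaOfFun_coeff]

/-- pairing with a product, expanded -/
theorem gaPair_mul [Fintype G] (χ : G → ℂ) (x w : MonoidAlgebra ℂ G) :
    gaPair χ (x * w) = ∑ s : G, w.coeff s * ∑ t : G, x.coeff t * χ (t * s) := by
  unfold gaPair
  simp_rw [ga_coeff_mul, Finset.sum_mul, Finset.mul_sum]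
  rw [Finset.sum_comm]
  rw [Finset.sum_comm (s := (Finset.univ : Finset G)) (t := (Finset.univ : Finset G))
    (f := fun s t => w.coeff s * (x.coeff t * χ (t * s)))]
  apply Finset.sum_congr rfl
  intro t _
  apply Fintype.sum_equiv (Equiv.mulLeft t⁻¹)
  intro g
  simp only [Equiv.coe_mulLeft]
  rw [mul_inv_cancel_left]
  ring

/-- pairing with a product, expanded on the other side -/
theorem gaPair_mul' [Fintype G] (χ : G → ℂ) (x w : MonoidAlgebra ℂ G) :
    gaPair χ (x * w) = ∑ t : G, x.coeff t * ∑ s : G, w.coeff s * χ (t * s) := by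
  rw [gaPair_mul]
  simp_rw [Finset.mul_sum]
  rw [Finset.sum_comm]
  apply Finset.sum_congr rfl
  intro t _
  apply Finset.sum_congr rfl
  intro s _
  ring

/-- central elements act on irreducible characters through the central character -/
theorem gaPair_mul_of_central [Fintype G] (φ : Cfsg.IrrCharacter G) (x w : MonoidAlgebra ℂ G)
    (hx : ∀ g : G, Commute x (MonoidAlgebra.single g 1)) :
    gaPair (φ : G → ℂ) (x * w) =
      gaPair (φ : G → ℂ) x / (φ : G → ℂ) 1 * gaPair (φ : G → ℂ) w := by
  have hcf := isClassFunction_coeff_of_commute x hx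
  rw [gaPair_mul]
  have h1 : ∀ s : G, ∑ t : G, x.coeff t * (φ : G → ℂ) (t * s) =
      gaPair (φ : G → ℂ) x / (φ : G → ℂ) 1 * (φ : G → ℂ) s := by
    intro s
    exact sum_classFunction_char_translate φ (fun g => x.coeff g) hcf s
  simp_rw [h1]
  unfold gaPair
  rw [Finset.mul_sum]
  apply Finset.sum_congr rfl
  intro s _
  ring

/-- a central element on which all irreducible characters vanish is zero -/
theorem ga_eq_zero_of_central [Fintype G] (x : MonoidAlgebra ℂ G)
    (hx : ∀ g : G, Commute x (MonoidAlgebra.single g 1))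
    (h : ∀ φ : Cfsg.IrrCharacter G, gaPair (φ : G → ℂ) x = 0) : x = 0 := by
  have hcf := isClassFunction_coeff_of_commute x hx
  have h0 := eq_zero_of_classInner_irr_eq_zero (fun g => x.coeff g) hcf ?_
  · apply ga_ext
    intro g
    rw [MonoidAlgebra.coeff_zero, Finsupp.zero_apply]
    exact congrFun h0 g
  · intro χ hχ
    have h1 := h ⟨_, conj_isIrr hχ⟩
    rw [classInner_def]
    unfold gaPair at h1
    simp only at h1
    rw [h1, mul_zero]

/-- the pairing of a block idempotent -/
theorem gaPair_blockIdem [Fintype G] (A : Set (Cfsg.IrrCharacter G)) (θ : Cfsg.IrrCharacter G)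
    [Decidable (θ ∈ A)] :
    gaPair (θ : G → ℂ) (gaOfFun (Cfsg.blockCoeff A)) = if θ ∈ A then (θ : G → ℂ) 1 else 0 := by
  rw [gaPair_ofFun]
  exact sum_blockCoeff_mul A θ

/-- block idempotents are idempotent -/
theorem gaOfFun_blockCoeff_idem [Fintype G] (A : Set (Cfsg.IrrCharacter G)) :
    gaOfFun (Cfsg.blockCoeff A) * gaOfFun (Cfsg.blockCoeff A) = gaOfFun (Cfsg.blockCoeff A) := by
  apply ga_ext
  intro g
  rw [ga_coeff_mul]
  simp_rw [gaOfFun_coeff]
  exact blockCoeff_convolution A g

end Cfsg.Agent.Helper6
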