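import Mathlib
import Cfsg.Prelude.Def_Characters
import Cfsg.Prelude.Def_Blocks
import Cfsg.Agent.Helper6.LocalSubring
import Cfsg.Agent.Helper6.ProjTrace1
import Cfsg.Agent.Helper6.InducedPart

/-!
# A relative trace lemma

If an idempotent matrix `P` over the local ring commuting with an invertible matrix `T` is a
relative trace `P = Σ_{j<p} T^j U T^{-j}` with `U = P U P` commuting with `T ^ p`, then
`trace (T P) = 0`.
-/

set_option autoImplicit false
set_option linter.style.haveILetI false

namespace Cfsg.Agent.Helper6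

open Module
open scoped ComplexConjugate

variable {M : Ideal Cfsg.AlgInt}

theorem rel_trace_zero {p : ℕ} [hp : Fact p.Prime] (hM : Cfsg.IsPModular p M) {n : Type*}
    [Fintype n] [DecidableEq n] (T T' P U : Matrix n n ℂ) (hTT' : T * T' = 1)
    (hTloc : ∀ i j, Cfsg.MemLocalRing M (T i j)) (hT'loc : ∀ i j, Cfsg.MemLocalRing M (T' i j))
    (hUloc : ∀ i j, Cfsg.MemLocalRing M (U i j))
    (hPT : P * T = T * P) (hPU : P * U = U) (hUP : U * P = U)
    (hUT : U * T ^ p = T ^ p * U)
    (hsum : ∑ j ∈ Finset.range p, T ^ j * U * T' ^ j = P) : (T * P).trace = 0 := by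
  have hT'T : T' * T = 1 := mul_eq_one_comm.mp hTT'
  have hp0 : p ≠ 0 := hp.out.ne_zero
  set ζ : ℂ := Complex.exp (2 * Real.pi * Complex.I / p) with hζ
  have hprim : IsPrimitiveRoot ζ p := Complex.isPrimitiveRoot_exp p hp0
  have hζp : ζ ^ p = 1 := hprim.pow_eq_one
  have hζ1 : ζ ≠ 1 := hprim.ne_one hp.out.one_lt
  have hζ0 : ζ ≠ 0 := hprim.ne_zero hp0
  have hζint : IsIntegral ℤ ζ := hprim.isIntegral hp.out.pos
  -- commutation of powers
  have hcomm : Commute T T' := by
    change T * T' = T' * T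
    rw [hTT', hT'T]
  have hpow : ∀ j : ℕ, T ^ j * T' ^ j = 1 := by
    intro j
    rw [← hcomm.mul_pow, hTT', one_pow]
  have hPT' : P * T' = T' * P := by
    calc P * T' = T' * T * (P * T') := by rw [hT'T, one_mul]
      _ = T' * (T * P) * T' := by simp only [Matrix.mul_assoc]
      _ = T' * (P * T) * T' := by rw [hPT]
      _ = T' * P * (T * T') := by simp only [Matrix.mul_assoc]
      _ = T' * P := by rw [hTT', mul_one]
  have hPTj : ∀ j : ℕ, P * T ^ j = T ^ j * P := fun j =>
    (Commute.pow_right (show Commute P T from hPT) j)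
  have hPT'j : ∀ j : ℕ, P * T' ^ j = T' ^ j * P := fun j =>
    (Commute.pow_right (show Commute P T' from hPT') j)
  set A : ℕ → Matrix n n ℂ := fun j => T ^ j * U * T' ^ j with hA
  have hA0 : A 0 = U := by simp [hA]
  have hAp : A p = U := by
    rw [hA]
    simp only
    rw [← hUT, Matrix.mul_assoc, hpow, mul_one]
  have hAsucc : ∀ j : ℕ, T * A j * T' = A (j + 1) := by
    intro j
    rw [hA]
    simp only
    rw [pow_succ', pow_succ]
    simp only [Matrix.mul_assoc]
  set S : Matrix n n ℂ := ∑ j ∈ Finset.range p, ζ ^ j • A j with hS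
  -- `T S T' = ζ⁻¹ S`
  have hTS : ζ • (T * S * T') = S := by
    have h1 : T * S * T' = ∑ j ∈ Finset.range p, ζ ^ j • A (j + 1) := by
      rw [hS, Finset.mul_sum, Finset.sum_mul]
      apply Finset.sum_congr rfl
      intro j _
      rw [Matrix.mul_smul, Matrix.smul_mul, hAsucc]
    rw [h1, Finset.smul_sum]
    have h2 : ∀ j ∈ Finset.range p, ζ • ζ ^ j • A (j + 1) = ζ ^ (j + 1) • A (j + 1) := by
      intro j _
      rw [smul_smul, ← pow_succ']
    rw [Finset.sum_congr rfl h2]
    have h3 := Finset.sum_range_succ' (fun j => ζ ^ j • A j) p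
    have h4 := Finset.sum_range_succ (fun j => ζ ^ j • A j) p
    rw [h4] at h3
    simp only [pow_zero, one_smul, hζp, hA0, hAp] at h3
    rw [hS]
    exact (add_right_cancel h3).symm
  have hTS' : ζ • (T * S) = S * T := by
    calc ζ • (T * S) = ζ • (T * S * (T' * T)) := by rw [hT'T, mul_one]
      _ = (ζ • (T * S * T')) * T := by rw [Matrix.smul_mul]; simp only [Matrix.mul_assoc]
      _ = S * T := by rw [hTS]
  -- `P S = S = S P`
  have hPA : ∀ j, P * A j = A j := by
    intro j
    rw [hA]
    simp only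
    rw [← Matrix.mul_assoc, ← Matrix.mul_assoc, hPTj, Matrix.mul_assoc (T ^ j) P U, hPU]
  have hAP : ∀ j, A j * P = A j := by
    intro j
    rw [hA]
    simp only
    rw [Matrix.mul_assoc, ← hPT'j, ← Matrix.mul_assoc, Matrix.mul_assoc (T ^ j) U P, hUP]
  have hPS : P * S = S := by
    rw [hS, Finset.mul_sum]
    apply Finset.sum_congr rfl
    intro j _
    rw [Matrix.mul_smul, hPA]
  have hSP : S * P = S := by
    rw [hS, Finset.sum_mul]
    apply Finset.sum_congr rfl
    intro j _
    rw [Matrix.smul_mul, hAP]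
  -- the invertible matrix
  set S' : Matrix n n ℂ := S + (1 - P) with hS'
  have hAloc : ∀ j i k, Cfsg.MemLocalRing M (A j i k) := by
    intro j
    have hTj : ∀ (j : ℕ) i k, Cfsg.MemLocalRing M ((T ^ j) i k) := by
      intro j
      induction j with
      | zero =>
        intro i k
        rw [pow_zero, Matrix.one_apply]
        split_ifs
        · exact memLocalRing_one hM.2.1
        · exact memLocalRing_zero hM.2.1
      | succ j ih =>
        intro i k
        rw [pow_succ, Matrix.mul_apply]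
        exact MemLocalRing.sum hM.2.1 _ _ (fun l _ => MemLocalRing.mul hM.2.1 (ih i l) (hTloc l k))
    have hT'j : ∀ (j : ℕ) i k, Cfsg.MemLocalRing M ((T' ^ j) i k) := by
      intro j
      induction j with
      | zero =>
        intro i k
        rw [pow_zero, Matrix.one_apply]
        split_ifs
        · exact memLocalRing_one hM.2.1
        · exact memLocalRing_zero hM.2.1
      | succ j ih =>
        intro i k
        rw [pow_succ, Matrix.mul_apply]
        exact MemLocalRing.sum hM.2.1 _ _ (fun l _ => MemLocalRing.mul hM.2.1 (ih i l) (hT'loc l k))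
    intro i k
    rw [hA]
    simp only
    rw [Matrix.mul_apply]
    apply MemLocalRing.sum hM.2.1
    intro l _
    apply MemLocalRing.mul hM.2.1 _ (hT'j j l k)
    rw [Matrix.mul_apply]
    exact MemLocalRing.sum hM.2.1 _ _ (fun l' _ => MemLocalRing.mul hM.2.1 (hTj j i l') (hUloc l' l))
  have hζloc : ∀ j : ℕ, Cfsg.MemLocalRing M (ζ ^ j) := fun j =>
    memLocalRing_of_isIntegral hM.2.1 (hζint.pow j)
  have hζid : ∀ j : ℕ, Cfsg.MemLocalIdeal M (ζ ^ j - 1) := by
    intro j
    apply memLocalIdeal_sub_one_of_pow hM.2.1 p hp.out hM.2.2 (ζ ^ j) 1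
    rw [pow_one, ← pow_mul, mul_comm, pow_mul, hζp, one_pow]
  have hdiff : S' - 1 = ∑ j ∈ Finset.range p, (ζ ^ j - 1) • A j := by
    rw [hS', ← hsum, hS]
    simp only [sub_smul, one_smul, Finset.sum_sub_distrib]
    abel
  have hdet : Cfsg.MemLocalIdeal M (S'.det - (1 : Matrix n n ℂ).det) := by
    have hent : ∀ i k, Cfsg.MemLocalIdeal M (S' i k - (1 : Matrix n n ℂ) i k) := by
      intro i k
      have h1 : S' i k - (1 : Matrix n n ℂ) i k = (S' - 1) i k := rfl
      rw [h1, hdiff, Matrix.sum_apply]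
      apply MemLocalIdeal.sum hM.2.1
      intro j _
      rw [Matrix.smul_apply, smul_eq_mul, mul_comm]
      exact MemLocalIdeal.mul_left hM.2.1 (hAloc j i k) (hζid j)
    have hone : ∀ i k, Cfsg.MemLocalRing M ((1 : Matrix n n ℂ) i k) := by
      intro i k
      rw [Matrix.one_apply]
      split_ifs
      · exact memLocalRing_one hM.2.1
      · exact memLocalRing_zero hM.2.1
    apply det_congr_mod hM.2.1 S' 1 _ hent hone
    intro i k
    have h1 : S' i k = (S' i k - (1 : Matrix n n ℂ) i k) + (1 : Matrix n n ℂ) i k := by ring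
    rw [h1]
    obtain ⟨a, b, ha, hb, hab⟩ := hent i k
    exact MemLocalRing.add hM.2.1 ⟨a, b, hb, hab⟩ (hone i k)
  have hdet0 : S'.det ≠ 0 := by
    intro h0
    rw [h0, Matrix.det_one, zero_sub] at hdet
    have := MemLocalIdeal.neg hdet
    rw [neg_neg] at this
    exact not_memLocalIdeal_one this
  have hunit : IsUnit S'.det := isUnit_iff_ne_zero.mpr hdet0
  -- the intertwining relation
  obtain ⟨X, hX⟩ : ∃ X : Matrix n n ℂ, X = T * P := ⟨_, rfl⟩
  have hPP : P * P = P := by
    have h0 : P * (Finset.range p).sum A = (Finset.range p).sum A := by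
      rw [Finset.mul_sum]
      exact Finset.sum_congr rfl (fun j _ => hPA j)
    rw [hsum] at h0
    exact h0
  have h1 : X * S' = T * S := by
    rw [hX, hS', Matrix.mul_add, Matrix.mul_assoc, hPS, Matrix.mul_sub, mul_one,
      Matrix.mul_assoc, hPP, sub_self, add_zero]
  have h2 : S' * X = S * T := by
    rw [hX, hS', Matrix.add_mul, Matrix.sub_mul, one_mul, ← Matrix.mul_assoc P T P, hPT,
      Matrix.mul_assoc T P P, hPP, sub_self, add_zero, ← hPT, ← Matrix.mul_assoc, hSP]
  have h3 : S' * X = ζ • (X * S') := by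
    rw [h1, h2, hTS']
  have h4 : X.trace = ζ * X.trace := by
    have h5 : (S' * X * S'⁻¹).trace = X.trace := by
      rw [Matrix.trace_mul_comm, ← Matrix.mul_assoc, Matrix.nonsing_inv_mul _ hunit, one_mul]
    have h6 : S' * X * S'⁻¹ = ζ • X := by
      rw [h3, Matrix.smul_mul, Matrix.mul_assoc, Matrix.mul_nonsing_inv _ hunit, mul_one]
    rw [h6, Matrix.trace_smul, smul_eq_mul] at h5
    exact h5.symm
  have h7 : (1 - ζ) * X.trace = 0 := by
    rw [sub_mul, one_mul, ← h4, sub_self]
  rw [← hX]
  rcases mul_eq_zero.mp h7 with h | h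
  · exact absurd (sub_eq_zero.mp h).symm hζ1
  · exact h

end Cfsg.Agent.Helper6
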