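import Mathlib
import Cfsg.Prelude.Def_Characters
import Cfsg.Prelude.Def_Blocks
import Cfsg.Agent.Helper6.GroupAlgB
import Cfsg.Agent.Helper6.RelTrace

/-!
# The regular bimodule in matrix form, and the relative trace argument
-/

set_option autoImplicit false
set_option linter.style.haveILetI false

namespace Cfsg.Agent.Helper6

open Module
open scoped ComplexConjugate

universe u

variable {G : Type u} [Group G] {M : Ideal Cfsg.AlgInt}

/-- the matrix of left multiplication by `w` on the group algebra -/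
noncomputable def gaMatL (w : MonoidAlgebra ℂ G) : Matrix G G ℂ :=
  Matrix.of fun a' a => w.coeff (a' * a⁻¹)

/-- the matrix of right multiplication by `g⁻¹` on the group algebra -/
noncomputable def gaMatR [DecidableEq G] (g : G) : Matrix G G ℂ :=
  Matrix.of fun a' a => if a' = a * g⁻¹ then (1 : ℂ) else 0

theorem gaMatL_apply (w : MonoidAlgebra ℂ G) (a' a : G) : gaMatL w a' a = w.coeff (a' * a⁻¹) := rfl

theorem gaMatR_apply [DecidableEq G] (g a' a : G) :
    gaMatR g a' a = if a' = a * g⁻¹ then (1 : ℂ) else 0 := rfl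

theorem gaMatL_mul [Fintype G] (w₁ w₂ : MonoidAlgebra ℂ G) :
    gaMatL (w₁ * w₂) = gaMatL w₁ * gaMatL w₂ := by
  ext a' a
  rw [Matrix.mul_apply, gaMatL_apply, ga_coeff_mul]
  symm
  apply Fintype.sum_equiv ((Equiv.inv G).trans (Equiv.mulLeft a'))
  intro b
  simp only [Equiv.trans_apply, Equiv.inv_apply, Equiv.coe_mulLeft, gaMatL_apply]
  congr 2
  group

theorem gaMatL_one [Fintype G] [DecidableEq G] : gaMatL (1 : MonoidAlgebra ℂ G) = 1 := by
  ext a' a
  rw [gaMatL_apply, ga_coeff_one, Matrix.one_apply]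
  by_cases h : a' = a
  · rw [if_pos h, if_pos (by rw [h, mul_inv_cancel])]
  · rw [if_neg h, if_neg (fun h' => h (mul_inv_eq_one.mp h'))]

theorem gaMatL_add (w₁ w₂ : MonoidAlgebra ℂ G) :
    gaMatL (w₁ + w₂) = gaMatL w₁ + gaMatL w₂ := by
  ext a' a
  rw [Matrix.add_apply, gaMatL_apply, gaMatL_apply, gaMatL_apply, MonoidAlgebra.coeff_add,
    Finsupp.add_apply]

theorem gaMatL_zero : gaMatL (0 : MonoidAlgebra ℂ G) = 0 := by
  ext a' a
  rw [gaMatL_apply, MonoidAlgebra.coeff_zero, Finsupp.zero_apply, Matrix.zero_apply]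

theorem gaMatL_sum {ι : Type*} (s : Finset ι) (f : ι → MonoidAlgebra ℂ G) :
    gaMatL (∑ i ∈ s, f i) = ∑ i ∈ s, gaMatL (f i) := by
  classical
  induction s using Finset.induction_on with
  | empty => simp [gaMatL_zero]
  | insert a s ha ih => rw [Finset.sum_insert ha, Finset.sum_insert ha, gaMatL_add, ih]

theorem gaMatL_pow [Fintype G] [DecidableEq G] (w : MonoidAlgebra ℂ G) (n : ℕ) :
    gaMatL (w ^ n) = gaMatL w ^ n := by
  induction n with
  | zero => rw [pow_zero, pow_zero, gaMatL_one]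
  | succ n ih => rw [pow_succ, pow_succ, gaMatL_mul, ih]

theorem gaMatL_mul_gaMatR [Fintype G] [DecidableEq G] (w : MonoidAlgebra ℂ G) (g a' a : G) :
    (gaMatL w * gaMatR g) a' a = w.coeff (a' * g * a⁻¹) := by
  rw [Matrix.mul_apply, Finset.sum_eq_single (a * g⁻¹)]
  · rw [gaMatL_apply, gaMatR_apply, if_pos rfl, mul_one]
    congr 1
    group
  · intro b _ hb
    rw [gaMatR_apply, if_neg hb, mul_zero]
  · intro h
    exact absurd (Finset.mem_univ _) h

theorem gaMatR_mul_gaMatL [Fintype G] [DecidableEq G] (w : MonoidAlgebra ℂ G) (g a' a : G) :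
    (gaMatR g * gaMatL w) a' a = w.coeff (a' * g * a⁻¹) := by
  rw [Matrix.mul_apply, Finset.sum_eq_single (a' * g)]
  · rw [gaMatL_apply, gaMatR_apply, if_pos (by group), one_mul]
  · intro b _ hb
    rw [gaMatR_apply, if_neg, zero_mul]
    intro h
    apply hb
    rw [h]
    group
  · intro h
    exact absurd (Finset.mem_univ _) h

theorem gaMatL_commute_gaMatR [Fintype G] [DecidableEq G] (w : MonoidAlgebra ℂ G) (g : G) :
    Commute (gaMatL w) (gaMatR g) := by
  unfold Commute SemiconjBy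
  ext a' a
  rw [gaMatL_mul_gaMatR, gaMatR_mul_gaMatL]

theorem gaMatR_mul [Fintype G] [DecidableEq G] (g g' : G) :
    gaMatR g * gaMatR g' = gaMatR (g * g') := by
  ext a' a
  rw [Matrix.mul_apply, Finset.sum_eq_single (a * g'⁻¹)]
  · rw [gaMatR_apply, gaMatR_apply, gaMatR_apply, if_pos rfl, mul_one]
    congr 1
    rw [mul_inv_rev, mul_assoc]
  · intro b _ hb
    rw [gaMatR_apply (g := g'), if_neg hb, mul_zero]
  · intro h
    exact absurd (Finset.mem_univ _) h

theorem gaMatR_one [DecidableEq G] : gaMatR (1 : G) = 1 := by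
  ext a' a
  rw [gaMatR_apply, Matrix.one_apply, inv_one, mul_one]

theorem gaMatR_mul_inv [Fintype G] [DecidableEq G] (g : G) : gaMatR g * gaMatR g⁻¹ = 1 := by
  rw [gaMatR_mul, mul_inv_cancel, gaMatR_one]

theorem gaMatR_pow_mul_inv_pow [Fintype G] [DecidableEq G] (g : G) (n : ℕ) :
    gaMatR g ^ n * gaMatR g⁻¹ ^ n = 1 := by
  have hc : Commute (gaMatR g) (gaMatR g⁻¹) := by
    unfold Commute SemiconjBy
    rw [gaMatR_mul, gaMatR_mul, mul_inv_cancel, inv_mul_cancel]
  rw [← hc.mul_pow, gaMatR_mul_inv, one_pow]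

theorem mul_rearrange_comm {R : Type*} [Monoid R] (A B C X Y : R) (hXB : Commute X B)
    (hXC : Commute X C) : A * X * B * (C * Y) = A * B * C * (X * Y) := by
  calc A * X * B * (C * Y) = A * (X * B) * C * Y := by simp only [mul_assoc]
    _ = A * (B * X) * C * Y := by rw [hXB.eq]
    _ = A * B * (X * C) * Y := by simp only [mul_assoc]
    _ = A * B * (C * X) * Y := by rw [hXC.eq]
    _ = A * B * C * (X * Y) := by simp only [mul_assoc]

/-- **relative trace argument in the group algebra**: if the `H`-fixed idempotent `v` is a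
relative trace from the subgroup generated by `h ^ p` of a local element `u = v u v`, then the
bimodule character of `v ℂG` vanishes at `(h, g)`. -/
theorem ga_class_sum_zero {p : ℕ} [hp : Fact p.Prime] (hM : Cfsg.IsPModular p M) [Fintype G]
    (h : G) (v u : MonoidAlgebra ℂ G) (huloc : GaLoc M u)
    (hvh : Commute v (MonoidAlgebra.single h 1)) (hvu : v * u = u) (huv : u * v = u)
    (huh : Commute u (MonoidAlgebra.single h 1 ^ p))
    (hsum : ∑ j ∈ Finset.range p,
      MonoidAlgebra.single h (1 : ℂ) ^ j * u * MonoidAlgebra.single h⁻¹ (1 : ℂ) ^ j = v) (g : G) :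
    ∑ a : G, (MonoidAlgebra.single h (1 : ℂ) * v).coeff (a * g * a⁻¹) = 0 := by
  classical
  obtain ⟨sh, hsh⟩ : ∃ sh : MonoidAlgebra ℂ G, sh = MonoidAlgebra.single h (1 : ℂ) := ⟨_, rfl⟩
  obtain ⟨sh', hsh'⟩ : ∃ sh' : MonoidAlgebra ℂ G, sh' = MonoidAlgebra.single h⁻¹ (1 : ℂ) :=
    ⟨_, rfl⟩
  rw [← hsh] at hvh huh hsum ⊢
  rw [← hsh'] at hsum
  have hss' : sh * sh' = 1 := by
    rw [hsh, hsh', MonoidAlgebra.single_mul_single, mul_inv_cancel, mul_one, MonoidAlgebra.one_def]
  have hs's : sh' * sh = 1 := by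
    rw [hsh, hsh', MonoidAlgebra.single_mul_single, inv_mul_cancel, mul_one, MonoidAlgebra.one_def]
  have hloc1 : GaLoc M sh := by rw [hsh]; exact GaLoc.single hM.2.1 h (memLocalRing_one hM.2.1)
  have hloc2 : GaLoc M sh' := by rw [hsh']; exact GaLoc.single hM.2.1 h⁻¹ (memLocalRing_one hM.2.1)
  have hLR : Commute (gaMatL sh) (gaMatR g) := gaMatL_commute_gaMatR _ _
  have hLR' : Commute (gaMatL sh') (gaMatR g⁻¹) := gaMatL_commute_gaMatR _ _
  have hLvR : Commute (gaMatR g) (gaMatL v) := (gaMatL_commute_gaMatR v g).symm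
  have key := rel_trace_zero hM (gaMatL sh * gaMatR g) (gaMatL sh' * gaMatR g⁻¹) (gaMatL v)
    (gaMatL u) ?_ ?_ ?_ ?_ ?_ ?_ ?_ ?_ ?_
  · have e1 : gaMatL sh * gaMatR g * gaMatL v = gaMatL (sh * v) * gaMatR g := by
      rw [mul_assoc, hLvR.eq, ← mul_assoc, ← gaMatL_mul]
    rw [e1, Matrix.trace] at key
    refine Eq.trans ?_ key
    apply Finset.sum_congr rfl
    intro a _
    rw [Matrix.diag_apply, gaMatL_mul_gaMatR]
  · -- `T * T' = 1`
    have e1 : gaMatL sh * gaMatR g * (gaMatL sh' * gaMatR g⁻¹) =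
        gaMatL sh * gaMatL sh' * (gaMatR g * gaMatR g⁻¹) := by
      have := mul_rearrange_comm (gaMatL sh) (1 : Matrix G G ℂ) (gaMatL sh') (gaMatR g)
        (gaMatR g⁻¹) (Commute.one_right _) (gaMatL_commute_gaMatR sh' g).symm
      rw [mul_one, mul_one] at this
      exact this
    rw [e1, ← gaMatL_mul, hss', gaMatL_one, gaMatR_mul_inv, mul_one]
  · intro i j
    rw [gaMatL_mul_gaMatR]
    exact hloc1 _
  · intro i j
    rw [gaMatL_mul_gaMatR]
    exact hloc2 _
  · intro i j
    rw [gaMatL_apply]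
    exact huloc _
  · -- `P * T = T * P`
    rw [← mul_assoc, ← gaMatL_mul, hvh.eq, gaMatL_mul, mul_assoc, mul_assoc, hLvR.eq]
  · rw [← gaMatL_mul, hvu]
  · rw [← gaMatL_mul, huv]
  · -- `U * T ^ p = T ^ p * U`
    rw [hLR.mul_pow, ← gaMatL_pow]
    have h1 : Commute (gaMatL u) (gaMatL (sh ^ p)) := by
      unfold Commute SemiconjBy
      rw [← gaMatL_mul, ← gaMatL_mul, huh.eq]
    have h2 : Commute (gaMatL u) (gaMatR g ^ p) := (gaMatL_commute_gaMatR u g).pow_right p
    exact (h1.mul_right h2).eq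
  · -- the relative trace
    rw [← hsum, gaMatL_sum]
    apply Finset.sum_congr rfl
    intro j _
    rw [hLR.mul_pow, hLR'.mul_pow, ← gaMatL_pow, ← gaMatL_pow]
    have h1 := mul_rearrange_comm (gaMatL (sh ^ j)) (gaMatL u) (gaMatL (sh' ^ j)) (gaMatR g ^ j)
      (gaMatR g⁻¹ ^ j) ((gaMatL_commute_gaMatR u g).pow_right j).symm
      ((gaMatL_commute_gaMatR (sh' ^ j) g).pow_right j).symm
    rw [h1, gaMatR_pow_mul_inv_pow, mul_one, ← gaMatL_mul, ← gaMatL_mul]

/-- vanishing of all conjugation sums of the coefficients gives vanishing of all pairings with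
class functions -/
theorem gaPair_eq_zero_of_conj_sums [Fintype G] (w : MonoidAlgebra ℂ G)
    (hw : ∀ g : G, ∑ a : G, w.coeff (a * g * a⁻¹) = 0) (χ : G → ℂ)
    (hχ : Cfsg.IsClassFunction G χ) : gaPair χ w = 0 := by
  have hG0 : (Fintype.card G : ℂ) ≠ 0 := by
    have : 0 < Fintype.card G := Fintype.card_pos
    exact_mod_cast this.ne'
  have h1 : (Fintype.card G : ℂ) * gaPair χ w = 0 := by
    unfold gaPair
    rw [← nsmul_eq_mul, ← Finset.card_univ, ← Finset.sum_const]
    have h2 : ∀ a : G, ∑ y : G, w.coeff y * χ y = ∑ y : G, w.coeff (a * y * a⁻¹) * χ y := by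
      intro a
      symm
      apply Fintype.sum_equiv (MulAut.conj a).toEquiv
      intro y
      simp only [MulEquiv.toEquiv_eq_coe, EquivLike.coe_coe, MulAut.conj_apply]
      rw [hχ y a]
    rw [Finset.sum_congr rfl (fun a _ => h2 a), Finset.sum_comm]
    apply Finset.sum_eq_zero
    intro y _
    rw [← Finset.sum_mul, hw y, zero_mul]
  rcases mul_eq_zero.mp h1 with h | h
  · exact absurd h hG0
  · exact h

end Cfsg.Agent.Helper6
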