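import Mathlib
import Cfsg.Prelude.Def_Characters
import Cfsg.Agent.Helper6.CliffordUnique
import Cfsg.Agent.Helper6.CliffordOrbit

/-!
# Clifford correspondence relative to a subgroup containing the inertia group
-/

set_option autoImplicit false
set_option linter.style.haveILetI false

namespace Cfsg.Agent.Helper6

open Module Representation
open scoped ComplexConjugate

universe u v

variable {G : Type u} [Group G]

/-- The degree formula of Clifford's theorem inside an intermediate subgroup `T`. -/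
theorem clifford_degree_sub [Fintype G] (N T I : Subgroup G) [hN : N.Normal] (hNT : N ≤ T)
    [Fintype T] [Fintype N] (ϑ : N → ℂ) (hϑ : Cfsg.IsIrrCharacter N ϑ)
    (hI : ∀ t ∈ T, t ∈ I ↔ conjFun N ϑ t = ϑ)
    (ψ : T → ℂ) (hψ : Cfsg.IsIrrCharacter T ψ)
    (hne : Cfsg.classInner (fun n : N => ψ ⟨(n : G), hNT n.2⟩) ϑ ≠ 0) :
    ψ 1 = Cfsg.classInner (fun n : N => ψ ⟨(n : G), hNT n.2⟩) ϑ *
      ((I.subgroupOf T).index : ℂ) * ϑ 1 := by
  classical
  let e : N.subgroupOf T ≃* N := Subgroup.subgroupOfEquivOfLe hNT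
  haveI : Fintype (N.subgroupOf T) := Fintype.ofFinite _
  have hϑ' : Cfsg.IsIrrCharacter (N.subgroupOf T) (ϑ ∘ e) := IsIrrCharacter.comp_mulEquiv e hϑ
  have hres : (fun n : N.subgroupOf T => ψ n) = (fun n : N => ψ ⟨(n : G), hNT n.2⟩) ∘ e := rfl
  have hinner : Cfsg.classInner (fun n : N.subgroupOf T => ψ n) (ϑ ∘ e) =
      Cfsg.classInner (fun n : N => ψ ⟨(n : G), hNT n.2⟩) ϑ := by
    rw [hres]
    exact classInner_comp_equiv' e.toEquiv _ _
  have hT'' : ∀ g : T, g ∈ I.subgroupOf T ↔ conjFun (N.subgroupOf T) (ϑ ∘ e) g = ϑ ∘ e := by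
    intro g
    rw [Subgroup.mem_subgroupOf, hI g g.2]
    constructor
    · intro h
      ext n
      have := congrFun h (e n)
      exact this
    · intro h
      ext n
      have := congrFun h (e.symm n)
      simp only [Function.comp_apply, MulEquiv.apply_symm_apply] at this
      rw [← this]
      unfold conjFun
      simp only [Function.comp_apply]
      congr 1
  have hdeg := clifford_degree (N.subgroupOf T) ψ hψ (ϑ ∘ e) hϑ' (by rw [hinner]; exact hne)
    (I.subgroupOf T) hT''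
  rw [hinner] at hdeg
  rw [hdeg]
  simp

/-- Core of the Clifford correspondence relative to a subgroup `T` containing the inertia group:
any irreducible constituent `ψ` of `χ_T` lying over `ϑ` induces to `χ`. -/
theorem fr_core [Fintype G] (N : Subgroup G) [hN : N.Normal] [Fintype N]
    (ϑ : N → ℂ) (hϑ : Cfsg.IsIrrCharacter N ϑ) (T : Subgroup G) [Fintype T]
    (hT : ∀ g : G, conjFun N ϑ g = ϑ → g ∈ T)
    (hNT : N ≤ T) (χ : G → ℂ) (hχ : Cfsg.IsIrrCharacter G χ)
    (ψ : T → ℂ) (hψ : Cfsg.IsIrrCharacter T ψ)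
    (hc : Cfsg.classInner (fun t : T => χ t) ψ ≠ 0)
    (hf : Cfsg.classInner (fun n : N => ψ ⟨(n : G), hNT n.2⟩) ϑ ≠ 0) :
    Cfsg.indFun T ψ = χ ∧
      Cfsg.classInner (fun n : N => ψ ⟨(n : G), hNT n.2⟩) ϑ =
        Cfsg.classInner (fun n : N => χ n) ϑ := by
  classical
  have hχchar := IsIrrCharacter.isCharacter hχ
  have hχcf := IsCharacter.isClassFunction hχchar
  have hχT : Cfsg.IsCharacter T (fun t : T => χ t) := IsCharacter.restrict T hχchar
  have hψchar := IsIrrCharacter.isCharacter hψ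
  obtain ⟨I, hIdef⟩ : ∃ I : Subgroup G, I = conjStab N ϑ := ⟨_, rfl⟩
  have hImem : ∀ g : G, g ∈ I ↔ conjFun N ϑ g = ϑ := by
    intro g
    rw [hIdef]
    exact mem_conjStab N ϑ g
  have hIT : I ≤ T := fun g hg => hT g ((hImem g).mp hg)
  set f := Cfsg.classInner (fun n : N => ψ ⟨(n : G), hNT n.2⟩) ϑ with hfdef
  have hψ1 : ψ 1 = f * ((I.subgroupOf T).index : ℂ) * ϑ 1 :=
    clifford_degree_sub N T I hNT ϑ hϑ (fun t _ => hImem t) ψ hψ hf
  -- e - f is a natural number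
  have hsubT : Cfsg.IsCharacter T ((fun t : T => χ t) - ψ) :=
    sub_isCharacter_of_constituent hχT hψ hc
  have hsubH : Cfsg.IsCharacter N
      (fun n : N => ((fun t : T => χ t) - ψ) (Subgroup.inclusion hNT n)) :=
    IsCharacter.comp_hom (Subgroup.inclusion hNT) hsubT
  obtain ⟨k, hk⟩ := classInner_char_char_nat hsubH (IsIrrCharacter.isCharacter hϑ)
  set e := Cfsg.classInner (fun n : N => χ n) ϑ with hedef
  have hk' : e - f = k := by
    rw [← hk, hedef, hfdef, ← classInner_sub_left]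
    rfl
  have hef : e = f + k := by rw [← hk']; ring
  have hψN : Cfsg.IsCharacter N (fun n : N => ψ ⟨(n : G), hNT n.2⟩) :=
    IsCharacter.comp_hom (Subgroup.inclusion hNT) hψchar
  obtain ⟨f', hf'⟩ := classInner_char_char_nat hψN (IsIrrCharacter.isCharacter hϑ)
  have hcon : e ≠ 0 := by
    rw [hef, ← hfdef] at *
    rw [hf'] at hf ⊢
    have h1 : f' ≠ 0 := by
      intro h
      apply hf
      rw [h, Nat.cast_zero]
    have : ((f' + k : ℕ) : ℂ) ≠ 0 := by
      have : f' + k ≠ 0 := by omega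
      exact_mod_cast this
    push_cast at this
    exact this
  have hdeg := clifford_degree N χ hχ ϑ hϑ hcon I hImem
  rw [← hedef] at hdeg
  have hind : Cfsg.IsCharacter G (Cfsg.indFun T ψ) := isCharacter_indFun T ψ hψchar
  have hindχ : Cfsg.classInner (Cfsg.indFun T ψ) χ ≠ 0 := by
    rw [frobenius_reciprocity T ψ χ hχcf, classInner_conj_symm]
    intro h
    exact hc ((map_eq_zero (starRingEnd ℂ)).mp h)
  have hΔ : Cfsg.IsCharacter G (Cfsg.indFun T ψ - χ) :=
    sub_isCharacter_of_constituent hind hχ hindχ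
  obtain ⟨m, hm⟩ := IsCharacter.apply_one hΔ
  have hidxmul : ((I.subgroupOf T).index : ℂ) * (T.index : ℂ) = (I.index : ℂ) := by
    have := Subgroup.relIndex_mul_index hIT
    unfold Subgroup.relIndex at this
    exact_mod_cast this
  rw [Pi.sub_apply, indFun_apply_one, hψ1, hdeg] at hm
  obtain ⟨d, hd, -, hdpos⟩ := IsIrrCharacter.degree_dvd_card hϑ
  rw [hd] at hm
  have hidx : 0 < I.index := Nat.pos_of_ne_zero Subgroup.index_ne_zero_of_finite
  rw [hef] at hm
  have hm' : ((m + k * I.index * d : ℕ) : ℂ) = 0 := by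
    push_cast
    rw [← hm, ← hidxmul]
    ring
  have hm0 : m + k * I.index * d = 0 := by exact_mod_cast hm'
  have hk0 : k = 0 := by
    have h1 : k * I.index * d = 0 := by omega
    have h2 : 0 < I.index * d := Nat.mul_pos hidx hdpos
    rw [mul_assoc] at h1
    rcases Nat.mul_eq_zero.mp h1 with h | h
    · exact h
    · omega
  have hfe : f = e := by rw [hef, hk0, Nat.cast_zero, add_zero]
  refine ⟨?_, hfe⟩
  apply eq_of_constituent_of_degree hind hχ hindχ
  rw [indFun_apply_one, hψ1, hdeg, hfe, ← hidxmul]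
  ring

/-- An irreducible character of `G` lying over `ϑ` has an irreducible constituent on any
intermediate subgroup `T` that lies over `ϑ`. -/
theorem exists_constituent_over [Fintype G] (N T : Subgroup G) (hNT : N ≤ T) [Fintype T]
    [Fintype N] (χ : G → ℂ) (hχ : Cfsg.IsIrrCharacter G χ) (ϑ : N → ℂ)
    (hcon : Cfsg.classInner (fun n : N => χ n) ϑ ≠ 0) :
    ∃ ψ : Cfsg.IrrCharacter T, Cfsg.classInner (fun t : T => χ t) (ψ : T → ℂ) ≠ 0 ∧
      Cfsg.classInner (fun n : N => (ψ : T → ℂ) ⟨(n : G), hNT n.2⟩) ϑ ≠ 0 := by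
  classical
  haveI : Finite (Cfsg.IrrCharacter T) := irr_finite
  haveI : Fintype (Cfsg.IrrCharacter T) := Fintype.ofFinite _
  have hχchar := IsIrrCharacter.isCharacter hχ
  have hχT : Cfsg.IsCharacter T (fun t : T => χ t) := IsCharacter.restrict T hχchar
  by_contra hno
  push Not at hno
  apply hcon
  have hexp := classFunction_expansion (fun t : T => χ t) (IsCharacter.isClassFunction hχT)
  have hres : (fun n : N => χ n) = ∑ ψ : Cfsg.IrrCharacter T,
      Cfsg.classInner (fun t : T => χ t) (ψ : T → ℂ) •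
        (fun n : N => (ψ : T → ℂ) ⟨(n : G), hNT n.2⟩) := by
    funext n
    have := congrFun hexp ⟨(n : G), hNT n.2⟩
    rw [Finset.sum_apply] at this
    rw [Finset.sum_apply]
    exact this
  rw [hres, classInner_sum_left]
  apply Finset.sum_eq_zero
  intro ψ _
  rw [classInner_smul_left]
  by_cases h : Cfsg.classInner (fun t : T => χ t) (ψ : T → ℂ) = 0
  · rw [h, zero_mul]
  · rw [hno ψ h, mul_zero]

/-- An irreducible character of `T ⊇ I_G(ϑ)` lying over `ϑ` induces irreducibly. -/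
theorem fr_ind_irr [Fintype G] (N : Subgroup G) [hN : N.Normal] [Fintype N]
    (ϑ : N → ℂ) (hϑ : Cfsg.IsIrrCharacter N ϑ) (T : Subgroup G) [Fintype T]
    (hT : ∀ g : G, conjFun N ϑ g = ϑ → g ∈ T)
    (hNT : N ≤ T) (ψ : T → ℂ) (hψ : Cfsg.IsIrrCharacter T ψ)
    (hf : Cfsg.classInner (fun n : N => ψ ⟨(n : G), hNT n.2⟩) ϑ ≠ 0) :
    Cfsg.IsIrrCharacter G (Cfsg.indFun T ψ) ∧
      Cfsg.classInner (fun n : N => ψ ⟨(n : G), hNT n.2⟩) ϑ =
        Cfsg.classInner (fun n : N => Cfsg.indFun T ψ n) ϑ := by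
  classical
  have hψchar := IsIrrCharacter.isCharacter hψ
  have hind : Cfsg.IsCharacter G (Cfsg.indFun T ψ) := isCharacter_indFun T ψ hψchar
  have hind0 : Cfsg.indFun T ψ ≠ 0 := by
    intro h
    have h1 := congrFun h 1
    rw [indFun_apply_one, Pi.zero_apply] at h1
    obtain ⟨d, hd, -, hdpos⟩ := IsIrrCharacter.degree_dvd_card hψ
    rw [hd] at h1
    have hidx : 0 < T.index := Nat.pos_of_ne_zero Subgroup.index_ne_zero_of_finite
    have : T.index * d = 0 := by exact_mod_cast h1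
    have := Nat.mul_pos hidx hdpos
    omega
  obtain ⟨χ, hχ, hχc⟩ := exists_irr_constituent hind hind0
  have hχchar := IsIrrCharacter.isCharacter hχ
  have hχcf := IsCharacter.isClassFunction hχchar
  have hc : Cfsg.classInner (fun t : T => χ t) ψ ≠ 0 := by
    rw [frobenius_reciprocity T ψ χ hχcf, classInner_conj_symm] at hχc
    intro h
    apply hχc
    rw [h, map_zero]
  obtain ⟨h1, h2⟩ := fr_core N ϑ hϑ T hT hNT χ hχ ψ hψ hc hf
  rw [h1]
  exact ⟨hχ, h2⟩

/-- Surjectivity: an irreducible character of `G` over `ϑ` is induced from `T ⊇ I_G(ϑ)`. -/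
theorem fr_surj [Fintype G] (N : Subgroup G) [hN : N.Normal] [Fintype N]
    (ϑ : N → ℂ) (hϑ : Cfsg.IsIrrCharacter N ϑ) (T : Subgroup G) [Fintype T]
    (hT : ∀ g : G, conjFun N ϑ g = ϑ → g ∈ T)
    (hNT : N ≤ T) (χ : G → ℂ) (hχ : Cfsg.IsIrrCharacter G χ)
    (hcon : Cfsg.classInner (fun n : N => χ n) ϑ ≠ 0) :
    ∃ ψ : Cfsg.IrrCharacter T, Cfsg.indFun T (ψ : T → ℂ) = χ ∧
      Cfsg.classInner (fun n : N => (ψ : T → ℂ) ⟨(n : G), hNT n.2⟩) ϑ ≠ 0 := by
  obtain ⟨ψ, hc, hf⟩ := exists_constituent_over N T hNT χ hχ ϑ hcon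
  exact ⟨ψ, (fr_core N ϑ hϑ T hT hNT χ hχ ψ ψ.2 hc hf).1, hf⟩

/-- Injectivity over a fixed `ϑ`. -/
theorem fr_unique [Fintype G] (N : Subgroup G) [hN : N.Normal] [Fintype N]
    (ϑ : N → ℂ) (hϑ : Cfsg.IsIrrCharacter N ϑ) (T : Subgroup G) [Fintype T]
    (hT : ∀ g : G, conjFun N ϑ g = ϑ → g ∈ T)
    (hNT : N ≤ T) (ψ₁ ψ₂ : T → ℂ) (hψ₁ : Cfsg.IsIrrCharacter T ψ₁)
    (hψ₂ : Cfsg.IsIrrCharacter T ψ₂)
    (hf₁ : Cfsg.classInner (fun n : N => ψ₁ ⟨(n : G), hNT n.2⟩) ϑ ≠ 0)
    (hf₂ : Cfsg.classInner (fun n : N => ψ₂ ⟨(n : G), hNT n.2⟩) ϑ ≠ 0)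
    (heq : Cfsg.indFun T ψ₁ = Cfsg.indFun T ψ₂) : ψ₁ = ψ₂ := by
  classical
  by_contra hne
  obtain ⟨hirr, he₁⟩ := fr_ind_irr N ϑ hϑ T hT hNT ψ₁ hψ₁ hf₁
  obtain ⟨-, he₂⟩ := fr_ind_irr N ϑ hϑ T hT hNT ψ₂ hψ₂ hf₂
  set χ := Cfsg.indFun T ψ₁ with hχdef
  rw [← heq] at he₂
  have hχchar := IsIrrCharacter.isCharacter hirr
  have hχcf := IsCharacter.isClassFunction hχchar
  have hχT : Cfsg.IsCharacter T (fun t : T => χ t) := IsCharacter.restrict T hχchar
  have hc₁ : Cfsg.classInner (fun t : T => χ t) ψ₁ = 1 := by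
    have h := frobenius_reciprocity T ψ₁ χ hχcf
    rw [← hχdef, classInner_irr_self hirr] at h
    rw [classInner_conj_symm, ← h, map_one]
  have hc₂ : Cfsg.classInner (fun t : T => χ t) ψ₂ = 1 := by
    have h := frobenius_reciprocity T ψ₂ χ hχcf
    rw [← heq, classInner_irr_self hirr] at h
    rw [classInner_conj_symm, ← h, map_one]
  have hsub₁ : Cfsg.IsCharacter T ((fun t : T => χ t) - ψ₁) :=
    sub_isCharacter_of_constituent hχT hψ₁ (by rw [hc₁]; exact one_ne_zero)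
  have hc₂' : Cfsg.classInner ((fun t : T => χ t) - ψ₁) ψ₂ ≠ 0 := by
    rw [classInner_sub_left, hc₂, classInner_irr_ne hψ₁ hψ₂ hne, sub_zero]
    exact one_ne_zero
  have hsub₂ : Cfsg.IsCharacter T ((fun t : T => χ t) - ψ₁ - ψ₂) :=
    sub_isCharacter_of_constituent hsub₁ hψ₂ hc₂'
  have hsubH : Cfsg.IsCharacter N
      (fun n : N => ((fun t : T => χ t) - ψ₁ - ψ₂) (Subgroup.inclusion hNT n)) :=
    IsCharacter.comp_hom (Subgroup.inclusion hNT) hsub₂
  obtain ⟨k, hk⟩ := classInner_char_char_nat hsubH (IsIrrCharacter.isCharacter hϑ)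
  have hψ₁H : Cfsg.IsCharacter N (fun n : N => ψ₁ ⟨(n : G), hNT n.2⟩) :=
    IsCharacter.comp_hom (Subgroup.inclusion hNT) (IsIrrCharacter.isCharacter hψ₁)
  obtain ⟨e, he⟩ := classInner_char_char_nat hψ₁H (IsIrrCharacter.isCharacter hϑ)
  have hsplit : (fun n : N => ((fun t : T => χ t) - ψ₁ - ψ₂) (Subgroup.inclusion hNT n)) =
      (fun n : N => χ n) - (fun n : N => ψ₁ ⟨(n : G), hNT n.2⟩) -
        (fun n : N => ψ₂ ⟨(n : G), hNT n.2⟩) := by
    funext n
    rfl
  have he₂' : Cfsg.classInner (fun n : N => ψ₂ ⟨(n : G), hNT n.2⟩) ϑ = e := by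
    rw [he₂, ← he₁, he]
  rw [hsplit, classInner_sub_left, classInner_sub_left, ← he₁, he₂', he] at hk
  rw [he] at hf₁
  have h1 : ((e + k : ℕ) : ℂ) = 0 := by
    push_cast
    linear_combination -hk
  have h2 : e + k = 0 := by exact_mod_cast h1
  have h3 : e = 0 := by omega
  apply hf₁
  rw [h3, Nat.cast_zero]
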