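import Mathlib
import Cfsg.Prelude.Def_Characters
import Cfsg.Prelude.Def_Blocks
import Cfsg.Agent.Helper6.CentralChar
import Cfsg.Agent.Helper6.IndFun2
import Cfsg.Agent.Helper6.Induced
import Cfsg.Agent.Helper6.Degrees

/-!
# Induced functions as sums over the class; induced central characters
-/

set_option autoImplicit false
set_option linter.style.haveILetI false

namespace Cfsg.Agent.Helper6

open Module Representation
open scoped ComplexConjugate

universe u v

variable {G : Type u} [Group G]

/-- Summing `f (x⁻¹ g x)` over `x` counts each element of the class `|C_G(g)|` times. -/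
theorem sum_conj_eq_card_centralizer_smulB [Fintype G] (f : G → ℂ) (g : G) :
    ∑ x : G, f (x⁻¹ * g * x) =
      (Nat.card (Subgroup.centralizer ({g} : Set G)) : ℂ) * ∑ y ∈ classFinset g, f y := by
  classical
  have hcomp := Finset.sum_comp (s := (Finset.univ : Finset G)) f (fun x : G => x⁻¹ * g * x)
  rw [hcomp]
  have himage : (Finset.univ : Finset G).image (fun x : G => x⁻¹ * g * x) = classFinset g := by
    ext y
    rw [mem_classFinset, Finset.mem_image]
    constructor
    · rintro ⟨x, -, rfl⟩
      exact isConj_iff.mpr ⟨x⁻¹, by group⟩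
    · intro h
      obtain ⟨c, hc⟩ := isConj_iff.mp h
      exact ⟨c⁻¹, Finset.mem_univ _, by rw [← hc]; group⟩
  rw [himage]
  have hfib : ∀ y ∈ classFinset g,
      (Finset.univ.filter (fun x : G => x⁻¹ * g * x = y)).card =
        Nat.card (Subgroup.centralizer ({g} : Set G)) := by
    intro y hy
    rw [← himage] at hy
    obtain ⟨x₀, -, rfl⟩ := Finset.mem_image.mp hy
    rw [Nat.card_eq_fintype_card, ← Finset.card_univ]
    symm
    apply Finset.card_bij (fun (c : Subgroup.centralizer ({g} : Set G)) _ => (c : G) * x₀)
    · intro c _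
      simp only [Finset.mem_filter, Finset.mem_univ, true_and]
      have hc := Subgroup.mem_centralizer_iff.mp c.2 g (Set.mem_singleton g)
      calc ((c : G) * x₀)⁻¹ * g * ((c : G) * x₀) = x₀⁻¹ * ((c : G)⁻¹ * (g * c)) * x₀ := by group
        _ = x₀⁻¹ * ((c : G)⁻¹ * (c * g)) * x₀ := by rw [hc]
        _ = x₀⁻¹ * g * x₀ := by group
    · intro a _ b _ hab
      exact Subtype.ext (mul_right_cancel hab)
    · intro x hx
      simp only [Finset.mem_filter, Finset.mem_univ, true_and] at hx
      refine ⟨⟨x * x₀⁻¹, ?_⟩, Finset.mem_univ _, by simp⟩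
      rw [Subgroup.mem_centralizer_iff]
      intro z hz
      rw [Set.mem_singleton_iff] at hz
      subst hz
      calc z * (x * x₀⁻¹) = x * (x⁻¹ * z * x) * x₀⁻¹ := by group
        _ = x * (x₀⁻¹ * z * x₀) * x₀⁻¹ := by rw [hx]
        _ = x * x₀⁻¹ * z := by group
  rw [Finset.sum_congr rfl (fun y hy => by rw [hfib y hy]), ← Finset.smul_sum, nsmul_eq_mul]

/-- The induced function as a sum over the part of the class lying in `H`. -/
theorem indFun_eq_sum_classB [Fintype G] (H : Subgroup G) (ξ : H → ℂ) (g : G) :
    Cfsg.indFun H ξ g = (Nat.card H : ℂ)⁻¹ *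
      ((Nat.card (Subgroup.centralizer ({g} : Set G)) : ℂ) *
        ∑ y ∈ classFinset g, Cfsg.extendByZero H ξ y) := by
  rw [indFun_apply, sum_conj_eq_card_centralizer_smulB (Cfsg.extendByZero H ξ) g]

/-- The sum defining the induced central character, as a sum over the class. -/
theorem finsum_class_eqB [Fintype G] (H : Subgroup G) (f : H → ℂ) (g : G) :
    ∑ᶠ h ∈ {h : H | IsConj g (h : G)}, f h =
      ∑ y ∈ classFinset g, Cfsg.extendByZero H f y := by
  classical
  haveI : Fintype H := Fintype.ofFinite H
  have hset : {h : H | IsConj g (h : G)} =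
      ↑(Finset.univ.filter (fun h : H => IsConj g (h : G))) := by
    ext h
    simp
  rw [hset, finsum_mem_coe_finset]
  have h1 : ∑ y ∈ classFinset g, Cfsg.extendByZero H f y =
      ∑ y : G, Cfsg.extendByZero H f y * (if IsConj g y then 1 else 0) := by
    have : classFinset g = Finset.univ.filter (fun y => IsConj g y) := by
      ext y
      simp [mem_classFinset]
    rw [this, Finset.sum_filter]
    apply Finset.sum_congr rfl
    intro y _
    split_ifs <;> simp
  rw [h1, sum_extendByZero_mul, Finset.sum_filter]
  apply Finset.sum_congr rfl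
  intro h _
  split_ifs <;> simp

theorem inducedCentralChar_eqB [Fintype G] (H : Subgroup G) (ξ : H → ℂ) (g : G) :
    Cfsg.inducedCentralChar H ξ g =
      (∑ y ∈ classFinset g, Cfsg.extendByZero H ξ y) / ξ 1 := by
  unfold Cfsg.inducedCentralChar
  rw [finsum_class_eqB H (fun h => ξ h / ξ 1) g, Finset.sum_div]
  apply Finset.sum_congr rfl
  intro y _
  by_cases hy : y ∈ H
  · rw [extendByZero_mem _ _ hy, extendByZero_mem _ _ hy]
  · rw [extendByZero_not_mem _ _ hy, extendByZero_not_mem _ _ hy, zero_div]

/-- The induced central character is the central character of the induced function. -/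
theorem inducedCentralChar_eq_centralCharB [Fintype G] (H : Subgroup G) (ξ : H → ℂ) (g : G) :
    Cfsg.inducedCentralChar H ξ g = Cfsg.centralChar (Cfsg.indFun H ξ) g := by
  rw [inducedCentralChar_eqB]
  unfold Cfsg.centralChar
  rw [indFun_eq_sum_classB, indFun_apply_one]
  have hH0 : (Nat.card H : ℂ) ≠ 0 := by
    have : 0 < Nat.card H := Nat.card_pos
    exact_mod_cast this.ne'
  have hidx0 : (H.index : ℂ) ≠ 0 := by
    have : H.index ≠ 0 := Subgroup.index_ne_zero_of_finite
    exact_mod_cast this
  have hcard : ((Subgroup.centralizer ({g} : Set G)).index : ℂ) *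
      (Nat.card (Subgroup.centralizer ({g} : Set G)) : ℂ) = (H.index : ℂ) * (Nat.card H : ℂ) := by
    have h1 := (Subgroup.centralizer ({g} : Set G)).index_mul_card
    have h2 := H.index_mul_card
    have : (Subgroup.centralizer ({g} : Set G)).index *
        Nat.card (Subgroup.centralizer ({g} : Set G)) = H.index * Nat.card H := by
      rw [h1, h2]
    exact_mod_cast this
  by_cases hξ : ξ 1 = 0
  · rw [hξ, mul_zero, div_zero, div_zero]
  · field_simp
    linear_combination (-(∑ y ∈ classFinset g, Cfsg.extendByZero H ξ y)) * hcard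

end Cfsg.Agent.Helper6
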