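import Mathlib
import Cfsg.Prelude.Def_Characters
import Cfsg.Prelude.Def_Blocks
import Cfsg.Agent.Helper6.FongReynolds1
import Cfsg.Agent.Helper6.BlockCover3
import Cfsg.Agent.Helper6.LocalTransport
import Cfsg.Agent.Helper6.BrauerFunctional2
import Cfsg.Agent.Helper6.IndCentralB
import Cfsg.Agent.Helper6.BrauerPair

/-!
# The Fong–Reynolds correspondence: block part
-/

set_option autoImplicit false
set_option linter.style.haveILetI false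

namespace Cfsg.Agent.Helper6

open Module Representation
open scoped ComplexConjugate

universe u v

variable {G : Type u} [Group G] {M : Ideal Cfsg.AlgInt}

/-- `T` is the stabilizer of the set `b` of irreducible characters of the normal subgroup `N`. -/
def IsBlockStab (N : Subgroup G) [hN : N.Normal] (b : Set (Cfsg.IrrCharacter N))
    (T : Subgroup G) : Prop :=
  ∀ g : G, g ∈ T ↔ ∀ θ ∈ b, ∀ θ' : Cfsg.IrrCharacter N,
    (∀ n : N, (θ' : N → ℂ) n = (θ : N → ℂ) ⟨g * n * g⁻¹, hN.conj_mem n n.2 g⟩) → θ' ∈ b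

theorem IsBlockStab.mem_of_conj_mem [Finite G] (hM : M.IsMaximal) {N : Subgroup G}
    [hN : N.Normal] {b : Set (Cfsg.IrrCharacter N)} {T : Subgroup G} (hT : IsBlockStab N b T)
    (hb : Cfsg.IsPBlock M b) (θ θ₂ : Cfsg.IrrCharacter N) (hθ : θ ∈ b) (hθ₂ : θ₂ ∈ b) (g : G)
    (h : (θ₂ : N → ℂ) = conjFun N (θ : N → ℂ) g) : g ∈ T := by
  rw [hT g]
  intro θ1 hθ1 θ' hθ'
  have e : (θ' : N → ℂ) = conjFun N (θ1 : N → ℂ) g := funext hθ'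
  obtain ⟨θ₀, rfl⟩ := hb
  change Cfsg.SameBlock M (θ₀ : N → ℂ) (θ' : N → ℂ)
  rw [e]
  have h1 : Cfsg.SameBlock M (θ : N → ℂ) (θ1 : N → ℂ) :=
    sameBlock_trans hM (sameBlock_symm hθ) hθ1
  have h2 := sameBlock_conjFun (M := M) N g h1
  rw [← h] at h2
  exact sameBlock_trans hM hθ₂ h2

theorem IsBlockStab.inertia_le [Finite G] (hM : M.IsMaximal) {N : Subgroup G}
    [hN : N.Normal] {b : Set (Cfsg.IrrCharacter N)} {T : Subgroup G} (hT : IsBlockStab N b T)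
    (hb : Cfsg.IsPBlock M b) (θ : Cfsg.IrrCharacter N) (hθ : θ ∈ b) (g : G)
    (h : conjFun N (θ : N → ℂ) g = (θ : N → ℂ)) : g ∈ T :=
  hT.mem_of_conj_mem hM hb θ θ hθ hθ g h.symm

theorem classInner_res_conjFun [Fintype G] (N T : Subgroup G) [hN : N.Normal] (hNT : N ≤ T)
    [Fintype N] (ψ : T → ℂ) (hψ : Cfsg.IsClassFunction T ψ) (θ : N → ℂ) (t : G) (ht : t ∈ T) :
    Cfsg.classInner (fun n : N => ψ ⟨(n : G), hNT n.2⟩) (conjFun N θ t) =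
      Cfsg.classInner (fun n : N => ψ ⟨(n : G), hNT n.2⟩) θ := by
  have h1 : conjFun N (fun n : N => ψ ⟨(n : G), hNT n.2⟩) t =
      fun n : N => ψ ⟨(n : G), hNT n.2⟩ := by
    funext n
    exact hψ ⟨(n : G), hNT n.2⟩ ⟨t, ht⟩
  conv_lhs => rw [← h1]
  exact classInner_conjFun N _ _ t

/-- Injectivity of induction on the characters of `T` lying over the block `b`. -/
theorem fr_unique_block [Fintype G] (hM : M.IsMaximal) (N : Subgroup G) [hN : N.Normal]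
    [Fintype N] (b : Set (Cfsg.IrrCharacter N)) (hb : Cfsg.IsPBlock M b) (T : Subgroup G)
    [Fintype T] (hT : IsBlockStab N b T) (hNT : N ≤ T) (ψ₁ ψ₂ : Cfsg.IrrCharacter T)
    (θ₁ θ₂ : Cfsg.IrrCharacter N) (hθ₁ : θ₁ ∈ b) (hθ₂ : θ₂ ∈ b)
    (hf₁ : Cfsg.classInner (fun n : N => (ψ₁ : T → ℂ) ⟨(n : G), hNT n.2⟩) (θ₁ : N → ℂ) ≠ 0)
    (hf₂ : Cfsg.classInner (fun n : N => (ψ₂ : T → ℂ) ⟨(n : G), hNT n.2⟩) (θ₂ : N → ℂ) ≠ 0)
    (heq : Cfsg.indFun T (ψ₁ : T → ℂ) = Cfsg.indFun T (ψ₂ : T → ℂ)) : ψ₁ = ψ₂ := by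
  obtain ⟨hirr, he₁⟩ := fr_ind_irr N (θ₁ : N → ℂ) θ₁.2 T (hT.inertia_le hM hb θ₁ hθ₁) hNT
    (ψ₁ : T → ℂ) ψ₁.2 hf₁
  obtain ⟨-, he₂⟩ := fr_ind_irr N (θ₂ : N → ℂ) θ₂.2 T (hT.inertia_le hM hb θ₂ hθ₂) hNT
    (ψ₂ : T → ℂ) ψ₂.2 hf₂
  rw [← heq] at he₂
  rw [he₁] at hf₁
  rw [he₂] at hf₂
  obtain ⟨g, hg⟩ := conj_of_constituents N (Cfsg.indFun T (ψ₁ : T → ℂ)) hirr (θ₁ : N → ℂ) θ₁.2 hf₁
    (θ₂ : N → ℂ) θ₂.2 hf₂
  have hgT : g ∈ T := hT.mem_of_conj_mem hM hb θ₁ θ₂ hθ₁ hθ₂ g hg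
  have hψ₂cf := IsCharacter.isClassFunction (IsIrrCharacter.isCharacter ψ₂.2)
  have hf₂' : Cfsg.classInner (fun n : N => (ψ₂ : T → ℂ) ⟨(n : G), hNT n.2⟩) (θ₁ : N → ℂ) ≠ 0 := by
    rw [← classInner_res_conjFun N T hNT (ψ₂ : T → ℂ) hψ₂cf (θ₁ : N → ℂ) g hgT, ← hg, he₂]
    exact hf₂
  apply Subtype.ext
  exact fr_unique N (θ₁ : N → ℂ) θ₁.2 T (hT.inertia_le hM hb θ₁ hθ₁) hNT (ψ₁ : T → ℂ) (ψ₂ : T → ℂ)
    ψ₁.2 ψ₂.2 (by rw [he₁]; exact hf₁) hf₂' heq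

/-- If a block of `G` covers `b`, each of its members has a constituent in `b`. -/
theorem cover_all [Fintype G] (hM : M.IsMaximal) (N : Subgroup G) [hN : N.Normal]
    [Fintype N] (b : Set (Cfsg.IrrCharacter N)) (hb : Cfsg.IsPBlock M b)
    (B : Set (Cfsg.IrrCharacter G)) (hB : Cfsg.IsPBlock M B)
    (hcov : ∃ χ ∈ B, ∃ θ ∈ b, Cfsg.classInner (fun n : N => (χ : G → ℂ) n) (θ : N → ℂ) ≠ 0)
    (χ : Cfsg.IrrCharacter G) (hχ : χ ∈ B) :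
    ∃ θ ∈ b, Cfsg.classInner (fun n : N => (χ : G → ℂ) n) (θ : N → ℂ) ≠ 0 := by
  obtain ⟨χ₁, hχ₁, θ₁, hθ₁, hcon⟩ := hcov
  exact exists_constituent_in_block hM N b hb χ θ₁ hθ₁
    (fun n => covering_congr hM N B hB b hb χ₁ hχ₁ θ₁ hθ₁ hcon χ hχ θ₁ hθ₁ n)

/-- If a block of an intermediate subgroup `T` covers `b`, each of its members has a constituent
in `b`. -/
theorem cover_all_sub [Fintype G] (hM : M.IsMaximal) (N : Subgroup G) [hN : N.Normal]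
    [Fintype N] (b : Set (Cfsg.IrrCharacter N)) (hb : Cfsg.IsPBlock M b) (T : Subgroup G)
    [Fintype T] (hNT : N ≤ T)
    (B' : Set (Cfsg.IrrCharacter T)) (hB' : Cfsg.IsPBlock M B')
    (hcov : ∃ ψ ∈ B', ∃ θ ∈ b,
      Cfsg.classInner (fun n : N => (ψ : T → ℂ) ⟨(n : G), hNT n.2⟩) (θ : N → ℂ) ≠ 0)
    (ξ : Cfsg.IrrCharacter T) (hξ : ξ ∈ B') :
    ∃ θ ∈ b, Cfsg.classInner (fun n : N => (ξ : T → ℂ) ⟨(n : G), hNT n.2⟩) (θ : N → ℂ) ≠ 0 := by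
  classical
  let e : N.subgroupOf T ≃* N := Subgroup.subgroupOfEquivOfLe hNT
  haveI : Fintype (N.subgroupOf T) := Fintype.ofFinite _
  have hinner : ∀ (ψ : T → ℂ) (θ : Cfsg.IrrCharacter N),
      Cfsg.classInner (fun n : N.subgroupOf T => ψ n) (irrComp e θ : N.subgroupOf T → ℂ) =
        Cfsg.classInner (fun n : N => ψ ⟨(n : G), hNT n.2⟩) (θ : N → ℂ) := by
    intro ψ θ
    have hres : (fun n : N.subgroupOf T => ψ n) = (fun n : N => ψ ⟨(n : G), hNT n.2⟩) ∘ e := rfl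
    have hθ' : (irrComp e θ : N.subgroupOf T → ℂ) = (θ : N → ℂ) ∘ e := rfl
    rw [hres, hθ']
    exact classInner_comp_equiv' e.toEquiv _ _
  have hb' : Cfsg.IsPBlock M (irrComp e '' b) := by
    obtain ⟨θ₀, rfl⟩ := hb
    exact ⟨irrComp e θ₀, image_irrComp_blockOf e θ₀⟩
  have hcov' : ∃ ψ ∈ B', ∃ θ' ∈ irrComp e '' b,
      Cfsg.classInner (fun n : N.subgroupOf T => (ψ : T → ℂ) n)
        (θ' : N.subgroupOf T → ℂ) ≠ 0 := by
    obtain ⟨ψ, hψ, θ, hθ, hne⟩ := hcov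
    exact ⟨ψ, hψ, irrComp e θ, ⟨θ, hθ, rfl⟩, by rw [hinner]; exact hne⟩
  obtain ⟨θ', ⟨θ, hθ, rfl⟩, hne⟩ := cover_all hM (N.subgroupOf T) (irrComp e '' b) hb' B' hB'
    hcov' ξ hξ
  exact ⟨θ, hθ, by rw [← hinner]; exact hne⟩

/-- The block of `G` containing an induced irreducible character `ψ^G` is induced from the block
of `ψ`. -/
theorem fr_induced [Fintype G] (hM : M.IsMaximal) (T : Subgroup G) [Fintype T]
    (B' : Set (Cfsg.IrrCharacter T)) (hB' : Cfsg.IsPBlock M B') (ψ : Cfsg.IrrCharacter T)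
    (hψ : ψ ∈ B') (χ : Cfsg.IrrCharacter G) (hχ : (χ : G → ℂ) = Cfsg.indFun T (ψ : T → ℂ)) :
    Cfsg.IsInducedBlock M T B' (Cfsg.blockOf M (χ : G → ℂ)) := by
  refine ⟨hB', ⟨χ, rfl⟩, ?_⟩
  intro ξ hξ χ' hχ' g
  have hs : Cfsg.SameBlock M (ξ : T → ℂ) (ψ : T → ℂ) := by
    obtain ⟨ψ₀, rfl⟩ := hB'
    exact sameBlock_trans hM (sameBlock_symm hξ) hψ
  have h1 := inducedCentralChar_sub_of_sameBlock hM T ξ ψ hs g
  have h2 : Cfsg.inducedCentralChar T (ψ : T → ℂ) g = Cfsg.centralChar (χ : G → ℂ) g := by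
    rw [inducedCentralChar_eq_centralCharB, hχ]
  have h3 : Cfsg.MemLocalIdeal M (Cfsg.centralChar (χ : G → ℂ) g -
      Cfsg.centralChar (χ' : G → ℂ) g) := hχ' g
  have := MemLocalIdeal.add hM h1 h3
  rw [h2] at this
  convert this using 1
  ring

/-- An induced class function with local values has local values. -/
theorem indFun_memLocalRing [Fintype G] (hM : M.IsMaximal) (T : Subgroup G) [Fintype T]
    (f : T → ℂ) (hf : Cfsg.IsClassFunction T f) (hloc : ∀ t, Cfsg.MemLocalRing M (f t)) (g : G) :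
    Cfsg.MemLocalRing M (Cfsg.indFun T f g) := by
  classical
  haveI : Fintype (G ⧸ T) := Fintype.ofFinite _
  have hF : ∀ x : G, ∀ t ∈ T, Cfsg.extendByZero T f ((x * t)⁻¹ * g * (x * t)) =
      Cfsg.extendByZero T f (x⁻¹ * g * x) := by
    intro x t ht
    have e : (x * t)⁻¹ * g * (x * t) = t⁻¹ * (x⁻¹ * g * x) * t := by group
    rw [e]
    by_cases hy : x⁻¹ * g * x ∈ T
    · have hy' : t⁻¹ * (x⁻¹ * g * x) * t ∈ T := T.mul_mem (T.mul_mem (T.inv_mem ht) hy) ht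
      rw [extendByZero_mem T f hy, extendByZero_mem T f hy']
      have := hf ⟨x⁻¹ * g * x, hy⟩ ⟨t⁻¹, T.inv_mem ht⟩
      rw [← this]
      congr 1
      apply Subtype.ext
      simp
    · have hy' : t⁻¹ * (x⁻¹ * g * x) * t ∉ T := by
        intro h
        apply hy
        have := T.mul_mem (T.mul_mem ht h) (T.inv_mem ht)
        convert this using 1
        group
      rw [extendByZero_not_mem T f hy, extendByZero_not_mem T f hy']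
  rw [indFun_apply, sum_eq_card_mul_sum_out T (fun x => Cfsg.extendByZero T f (x⁻¹ * g * x)) hF]
  have hT0 : (Nat.card T : ℂ) ≠ 0 := by
    have : 0 < Nat.card T := Nat.card_pos
    exact_mod_cast this.ne'
  rw [← mul_assoc, inv_mul_cancel₀ hT0, one_mul]
  apply MemLocalRing.sum hM
  intro q _
  by_cases hy : q.out⁻¹ * g * q.out ∈ T
  · rw [extendByZero_mem T f hy]
    exact hloc _
  · rw [extendByZero_not_mem T f hy]
    exact memLocalRing_zero hM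

/-- Pairing an induced function with a class function (Frobenius reciprocity without
conjugation). -/
theorem sum_indFun_mul [Fintype G] (T : Subgroup G) [Fintype T] (f : T → ℂ) (φ : G → ℂ)
    (hφ : Cfsg.IsClassFunction G φ) :
    ∑ g : G, Cfsg.indFun T f g * φ g = (T.index : ℂ) * ∑ t : T, f t * φ t := by
  have hcf : Cfsg.IsClassFunction G (fun g => conj (φ g)) := by
    intro g h
    simp only
    rw [hφ g h]
  have h := frobenius_reciprocity T f (fun g => conj (φ g)) hcf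
  rw [classInner_def, classInner_def] at h
  simp only [Complex.conj_conj] at h
  have hG0 : (Nat.card G : ℂ) ≠ 0 := by
    have : 0 < Nat.card G := Nat.card_pos
    exact_mod_cast this.ne'
  have hT0 : (Nat.card T : ℂ) ≠ 0 := by
    have : 0 < Nat.card T := Nat.card_pos
    exact_mod_cast this.ne'
  have hidx : (T.index : ℂ) * (Nat.card T : ℂ) = (Nat.card G : ℂ) := by
    exact_mod_cast T.index_mul_card
  have h2 : ∑ g : G, Cfsg.indFun T f g * φ g =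
      (Nat.card G : ℂ) * ((Nat.card T : ℂ)⁻¹ * ∑ t : T, f t * φ t) := by
    rw [← h, ← mul_assoc, mul_inv_cancel₀ hG0, one_mul]
  rw [h2, ← hidx]
  field_simp

open Classical in
/-- The key evaluation: the induced block idempotent of `B'₁` acts on `ψ^G` as `1` or `0`
according to whether `ψ ∈ B'₁`. -/
theorem fr_sum_formula [Fintype G] (hM : M.IsMaximal) (N : Subgroup G) [hN : N.Normal]
    [Fintype N] (b : Set (Cfsg.IrrCharacter N)) (hb : Cfsg.IsPBlock M b) (T : Subgroup G)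
    [Fintype T] (hT : IsBlockStab N b T) (hNT : N ≤ T)
    (B'₁ : Set (Cfsg.IrrCharacter T))
    (hall : ∀ ξ ∈ B'₁, ∃ θ ∈ b,
      Cfsg.classInner (fun n : N => (ξ : T → ℂ) ⟨(n : G), hNT n.2⟩) (θ : N → ℂ) ≠ 0)
    (ψ : Cfsg.IrrCharacter T) (θ : Cfsg.IrrCharacter N) (hθ : θ ∈ b)
    (hf : Cfsg.classInner (fun n : N => (ψ : T → ℂ) ⟨(n : G), hNT n.2⟩) (θ : N → ℂ) ≠ 0) :
    ∑ g : G, Cfsg.indFun T (Cfsg.blockCoeff B'₁) g *
        (Cfsg.indFun T (ψ : T → ℂ) g / Cfsg.indFun T (ψ : T → ℂ) 1) =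
      if ψ ∈ B'₁ then 1 else 0 := by
  classical
  haveI : Finite (Cfsg.IrrCharacter T) := irr_finite
  haveI : Fintype (Cfsg.IrrCharacter T) := Fintype.ofFinite _
  obtain ⟨hirr, -⟩ := fr_ind_irr N (θ : N → ℂ) θ.2 T (hT.inertia_le hM hb θ hθ) hNT
    (ψ : T → ℂ) ψ.2 hf
  obtain ⟨χ, hχdef⟩ : ∃ χ : G → ℂ, χ = Cfsg.indFun T (ψ : T → ℂ) := ⟨_, rfl⟩
  rw [← hχdef] at hirr ⊢
  have hχcf := IsCharacter.isClassFunction (IsIrrCharacter.isCharacter hirr)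
  have h1 : ∑ g : G, Cfsg.indFun T (Cfsg.blockCoeff B'₁) g * (χ g / χ 1) =
      (∑ g : G, Cfsg.indFun T (Cfsg.blockCoeff B'₁) g * χ g) / χ 1 := by
    rw [Finset.sum_div]
    apply Finset.sum_congr rfl
    intro g _
    ring
  rw [h1, sum_indFun_mul T _ χ hχcf, sum_blockCoeff_mul_fun B'₁ (fun t : T => χ t)]
  have hterm : ∀ ξ : Cfsg.IrrCharacter T,
      (if ξ ∈ B'₁ then (ξ : T → ℂ) 1 * Cfsg.classInner (fun t : T => χ t) (ξ : T → ℂ) else 0) =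
        if ξ = ψ then (if ψ ∈ B'₁ then (ψ : T → ℂ) 1 else 0) else 0 := by
    intro ξ
    by_cases hξB : ξ ∈ B'₁
    · rw [if_pos hξB]
      have hsym : Cfsg.classInner (fun t : T => χ t) (ξ : T → ℂ) =
          conj (Cfsg.classInner (Cfsg.indFun T (ξ : T → ℂ)) χ) := by
        rw [frobenius_reciprocity T (ξ : T → ℂ) χ hχcf]
        exact classInner_conj_symm _ _
      rw [hsym]
      by_cases hξψ : ξ = ψ
      · rw [if_pos hξψ, hξψ, ← hχdef, classInner_irr_self hirr, map_one, mul_one]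
        rw [hξψ] at hξB
        rw [if_pos hξB]
      · rw [if_neg hξψ]
        obtain ⟨θ', hθ', hf'⟩ := hall ξ hξB
        obtain ⟨hirr', -⟩ := fr_ind_irr N (θ' : N → ℂ) θ'.2 T (hT.inertia_le hM hb θ' hθ') hNT
          (ξ : T → ℂ) ξ.2 hf'
        have hne : Cfsg.indFun T (ξ : T → ℂ) ≠ χ := by
          intro heq
          apply hξψ
          exact fr_unique_block hM N b hb T hT hNT ξ ψ θ' θ hθ' hθ hf' hf (by rw [heq, hχdef])
        rw [classInner_irr_ne hirr' hirr hne, map_zero, mul_zero]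
    · rw [if_neg hξB]
      by_cases hξψ : ξ = ψ
      · rw [if_pos hξψ]
        rw [hξψ] at hξB
        rw [if_neg hξB]
      · rw [if_neg hξψ]
  rw [Finset.sum_congr rfl (fun ξ _ => hterm ξ), Finset.sum_ite_eq' Finset.univ ψ,
    if_pos (Finset.mem_univ ψ)]
  have hχ1 : χ 1 = (T.index : ℂ) * (ψ : T → ℂ) 1 := by
    rw [hχdef, indFun_apply_one]
  have hψ1 : (ψ : T → ℂ) 1 ≠ 0 := IsIrrCharacter.apply_one_ne_zero ψ.2
  have hI0 : (T.index : ℂ) ≠ 0 := by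
    have : T.index ≠ 0 := Subgroup.index_ne_zero_of_finite
    exact_mod_cast this
  rw [hχ1]
  by_cases hψB : ψ ∈ B'₁
  · rw [if_pos hψB, if_pos hψB]
    field_simp
  · rw [if_neg hψB, if_neg hψB, mul_zero, zero_div]

/-- Injectivity of block induction for blocks of `T` covering `b`. -/
theorem fr_mem_block_of_sameBlock [Fintype G] (hM : M.IsMaximal) (N : Subgroup G)
    [hN : N.Normal] [Fintype N] (b : Set (Cfsg.IrrCharacter N)) (hb : Cfsg.IsPBlock M b)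
    (T : Subgroup G) [Fintype T] (hT : IsBlockStab N b T) (hNT : N ≤ T)
    (B'₁ : Set (Cfsg.IrrCharacter T)) (hB'₁ : Cfsg.IsPBlock M B'₁)
    (hall : ∀ ξ ∈ B'₁, ∃ θ ∈ b,
      Cfsg.classInner (fun n : N => (ξ : T → ℂ) ⟨(n : G), hNT n.2⟩) (θ : N → ℂ) ≠ 0)
    (ψ₁ ψ₂ : Cfsg.IrrCharacter T) (hψ₁ : ψ₁ ∈ B'₁) (θ₂ : Cfsg.IrrCharacter N) (hθ₂ : θ₂ ∈ b)
    (hf₂ : Cfsg.classInner (fun n : N => (ψ₂ : T → ℂ) ⟨(n : G), hNT n.2⟩) (θ₂ : N → ℂ) ≠ 0)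
    (hs : Cfsg.SameBlock M (Cfsg.indFun T (ψ₁ : T → ℂ)) (Cfsg.indFun T (ψ₂ : T → ℂ))) :
    ψ₂ ∈ B'₁ := by
  classical
  obtain ⟨θ₁, hθ₁, hf₁⟩ := hall ψ₁ hψ₁
  have hu := indFun_isClassFunction T (Cfsg.blockCoeff B'₁)
  have huloc : ∀ g, Cfsg.MemLocalRing M (Cfsg.indFun T (Cfsg.blockCoeff B'₁) g) :=
    fun g => indFun_memLocalRing hM T _ (blockCoeff_isClassFunction B'₁)
      (fun t => osima hM B'₁ hB'₁ t) g
  have key := sum_mul_sub_of_sameBlock hM _ hu huloc (Cfsg.indFun T (ψ₁ : T → ℂ))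
    (Cfsg.indFun T (ψ₂ : T → ℂ)) (indFun_isClassFunction T _) (indFun_isClassFunction T _) hs
  simp_rw [mul_sub] at key
  rw [Finset.sum_sub_distrib, fr_sum_formula hM N b hb T hT hNT B'₁ hall ψ₁ θ₁ hθ₁ hf₁,
    fr_sum_formula hM N b hb T hT hNT B'₁ hall ψ₂ θ₂ hθ₂ hf₂, if_pos hψ₁] at key
  by_contra h
  rw [if_neg h, sub_zero] at key
  exact not_memLocalIdeal_one key

/-- **Fong–Reynolds (i)**: a block of `T` covering `b` induces a block of `G` covering `b`,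
consisting exactly of the (irreducible) induced characters. -/
theorem fr_block_exists [Fintype G] (hM : M.IsMaximal) (N : Subgroup G)
    [hN : N.Normal] [Fintype N] (b : Set (Cfsg.IrrCharacter N)) (hb : Cfsg.IsPBlock M b)
    (T : Subgroup G) [Fintype T] (hT : IsBlockStab N b T) (hNT : N ≤ T)
    (B' : Set (Cfsg.IrrCharacter T)) (hB' : Cfsg.IsPBlock M B')
    (hcov : ∃ ψ ∈ B', ∃ θ ∈ b,
      Cfsg.classInner (fun n : N => (ψ : T → ℂ) ⟨(n : G), hNT n.2⟩) (θ : N → ℂ) ≠ 0) :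
    ∃ B : Set (Cfsg.IrrCharacter G), Cfsg.IsInducedBlock M T B' B ∧
      (∃ χ ∈ B, ∃ θ ∈ b, Cfsg.classInner (fun n : N => (χ : G → ℂ) n) (θ : N → ℂ) ≠ 0) ∧
      (∀ ψ ∈ B', Cfsg.IsIrrCharacter G (Cfsg.indFun T (ψ : T → ℂ))) ∧
      ∀ χ : Cfsg.IrrCharacter G, χ ∈ B ↔ ∃ ψ ∈ B', (χ : G → ℂ) = Cfsg.indFun T (ψ : T → ℂ) := by
  classical
  have hall := cover_all_sub hM N b hb T hNT B' hB' hcov
  obtain ⟨ψ₀, hψ₀, θ₀, hθ₀, hf₀⟩ := hcov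
  obtain ⟨hirr₀, he₀⟩ := fr_ind_irr N (θ₀ : N → ℂ) θ₀.2 T (hT.inertia_le hM hb θ₀ hθ₀) hNT
    (ψ₀ : T → ℂ) ψ₀.2 hf₀
  obtain ⟨χ₀, hχ₀⟩ : ∃ χ₀ : Cfsg.IrrCharacter G, (χ₀ : G → ℂ) = Cfsg.indFun T (ψ₀ : T → ℂ) :=
    ⟨⟨_, hirr₀⟩, rfl⟩
  have hBblock : Cfsg.IsPBlock M (Cfsg.blockOf M (χ₀ : G → ℂ)) := ⟨χ₀, rfl⟩
  have hcovB : ∃ χ ∈ Cfsg.blockOf M (χ₀ : G → ℂ), ∃ θ ∈ b,
      Cfsg.classInner (fun n : N => (χ : G → ℂ) n) (θ : N → ℂ) ≠ 0 := by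
    refine ⟨χ₀, mem_blockOf_self hM χ₀, θ₀, hθ₀, ?_⟩
    rw [hχ₀, ← he₀]
    exact hf₀
  refine ⟨Cfsg.blockOf M (χ₀ : G → ℂ), fr_induced hM T B' hB' ψ₀ hψ₀ χ₀ hχ₀, hcovB, ?_, ?_⟩
  · intro ψ hψ
    obtain ⟨θ, hθ, hf⟩ := hall ψ hψ
    exact (fr_ind_irr N (θ : N → ℂ) θ.2 T (hT.inertia_le hM hb θ hθ) hNT (ψ : T → ℂ) ψ.2 hf).1
  · intro χ
    constructor
    · intro hχ
      obtain ⟨θ, hθ, hcon⟩ := cover_all hM N b hb _ hBblock hcovB χ hχ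
      obtain ⟨ψ, hψind, hf⟩ := fr_surj N (θ : N → ℂ) θ.2 T (hT.inertia_le hM hb θ hθ) hNT
        (χ : G → ℂ) χ.2 hcon
      refine ⟨ψ, ?_, hψind.symm⟩
      apply fr_mem_block_of_sameBlock hM N b hb T hT hNT B' hB' hall ψ₀ ψ hψ₀ θ hθ hf
      rw [← hχ₀, hψind]
      exact hχ
    · rintro ⟨ψ, hψ, hχψ⟩
      change Cfsg.SameBlock M (χ₀ : G → ℂ) (χ : G → ℂ)
      intro g
      have hs : Cfsg.SameBlock M (ψ₀ : T → ℂ) (ψ : T → ℂ) := by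
        obtain ⟨ψ', rfl⟩ := hB'
        exact sameBlock_trans hM (sameBlock_symm hψ₀) hψ
      have h1 := inducedCentralChar_sub_of_sameBlock hM T ψ₀ ψ hs g
      rw [inducedCentralChar_eq_centralCharB, inducedCentralChar_eq_centralCharB, ← hχ₀,
        ← hχψ] at h1
      exact h1

/-- **Fong–Reynolds (ii)**: distinct blocks of `T` covering `b` induce distinct blocks. -/
theorem fr_block_inj [Fintype G] (hM : M.IsMaximal) (N : Subgroup G)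
    [hN : N.Normal] [Fintype N] (b : Set (Cfsg.IrrCharacter N)) (hb : Cfsg.IsPBlock M b)
    (T : Subgroup G) [Fintype T] (hT : IsBlockStab N b T) (hNT : N ≤ T)
    (B'₁ B'₂ : Set (Cfsg.IrrCharacter T)) (hB'₁ : Cfsg.IsPBlock M B'₁)
    (hB'₂ : Cfsg.IsPBlock M B'₂)
    (hcov₁ : ∃ ψ ∈ B'₁, ∃ θ ∈ b,
      Cfsg.classInner (fun n : N => (ψ : T → ℂ) ⟨(n : G), hNT n.2⟩) (θ : N → ℂ) ≠ 0)
    (hcov₂ : ∃ ψ ∈ B'₂, ∃ θ ∈ b,
      Cfsg.classInner (fun n : N => (ψ : T → ℂ) ⟨(n : G), hNT n.2⟩) (θ : N → ℂ) ≠ 0)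
    (B : Set (Cfsg.IrrCharacter G)) (h₁ : Cfsg.IsInducedBlock M T B'₁ B)
    (h₂ : Cfsg.IsInducedBlock M T B'₂ B) : B'₁ = B'₂ := by
  classical
  have hall₁ := cover_all_sub hM N b hb T hNT B'₁ hB'₁ hcov₁
  obtain ⟨ψ₁, hψ₁, -⟩ := hcov₁
  obtain ⟨ψ₂, hψ₂, θ₂, hθ₂, hf₂⟩ := hcov₂
  obtain ⟨-, ⟨χ, hχ⟩, hc₁⟩ := h₁
  obtain ⟨-, -, hc₂⟩ := h₂
  have hχB : χ ∈ B := by rw [hχ]; exact mem_blockOf_self hM χ
  have hs : Cfsg.SameBlock M (Cfsg.indFun T (ψ₁ : T → ℂ)) (Cfsg.indFun T (ψ₂ : T → ℂ)) := by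
    intro g
    have := MemLocalIdeal.sub hM (hc₁ ψ₁ hψ₁ χ hχB g) (hc₂ ψ₂ hψ₂ χ hχB g)
    rw [inducedCentralChar_eq_centralCharB, inducedCentralChar_eq_centralCharB] at this
    convert this using 1
    ring
  have hmem := fr_mem_block_of_sameBlock hM N b hb T hT hNT B'₁ hB'₁ hall₁ ψ₁ ψ₂ hψ₁ θ₂ hθ₂
    hf₂ hs
  rw [eq_blockOf_of_mem hM B'₁ hB'₁ ψ₂ hmem, eq_blockOf_of_mem hM B'₂ hB'₂ ψ₂ hψ₂]

/-- **Fong–Reynolds (iii)**: every block of `G` covering `b` is induced from a block of `T`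
covering `b`. -/
theorem fr_block_surj [Fintype G] (hM : M.IsMaximal) (N : Subgroup G)
    [hN : N.Normal] [Fintype N] (b : Set (Cfsg.IrrCharacter N)) (hb : Cfsg.IsPBlock M b)
    (T : Subgroup G) [Fintype T] (hT : IsBlockStab N b T) (hNT : N ≤ T)
    (B : Set (Cfsg.IrrCharacter G)) (hB : Cfsg.IsPBlock M B)
    (hcov : ∃ χ ∈ B, ∃ θ ∈ b, Cfsg.classInner (fun n : N => (χ : G → ℂ) n) (θ : N → ℂ) ≠ 0) :
    ∃ B' : Set (Cfsg.IrrCharacter T), Cfsg.IsPBlock M B' ∧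
      (∃ ψ ∈ B', ∃ θ ∈ b,
        Cfsg.classInner (fun n : N => (ψ : T → ℂ) ⟨(n : G), hNT n.2⟩) (θ : N → ℂ) ≠ 0) ∧
      Cfsg.IsInducedBlock M T B' B := by
  obtain ⟨χ, hχ, θ, hθ, hcon⟩ := hcov
  obtain ⟨ψ, hψind, hf⟩ := fr_surj N (θ : N → ℂ) θ.2 T (hT.inertia_le hM hb θ hθ) hNT
    (χ : G → ℂ) χ.2 hcon
  refine ⟨Cfsg.blockOf M (ψ : T → ℂ), ⟨ψ, rfl⟩, ⟨ψ, mem_blockOf_self hM ψ, θ, hθ, hf⟩, ?_⟩
  rw [eq_blockOf_of_mem hM B hB χ hχ]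
  exact fr_induced hM T _ ⟨ψ, rfl⟩ ψ (mem_blockOf_self hM ψ) χ hψind.symm
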