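import Mathlib
import Cfsg.Prelude.Def_Characters
import Cfsg.Prelude.Def_Blocks
import Cfsg.Agent.Helper6.GroupAlgB
import Cfsg.Agent.Helper6.MinMax1

/-!
# Inverting central elements of the local group algebra
-/

set_option autoImplicit false
set_option linter.style.haveILetI false

namespace Cfsg.Agent.Helper6

open Module
open scoped ComplexConjugate

universe u

variable {G : Type u} [Group G] {M : Ideal Cfsg.AlgInt}

/-- units of the local ring have their inverses in the local ring -/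
theorem memLocalRing_inv_of_unit (_hM : M.IsMaximal) {z : ℂ} (hz : Cfsg.MemLocalRing M z)
    (hnot : ¬ Cfsg.MemLocalIdeal M z) : Cfsg.MemLocalRing M z⁻¹ := by
  obtain ⟨a, b, hb, rfl⟩ := hz
  have ha : a ∉ M := fun h => hnot ⟨a, b, h, hb, rfl⟩
  exact ⟨b, a, ha, by rw [inv_div]⟩

theorem memLocalRing_of_memLocalIdeal {z : ℂ} (hz : Cfsg.MemLocalIdeal M z) :
    Cfsg.MemLocalRing M z := by
  obtain ⟨a, b, _, hb, rfl⟩ := hz
  exact ⟨a, b, hb, rfl⟩

/-- a unit minus an element of the ideal is a unit -/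
theorem not_memLocalIdeal_one_sub (hM : M.IsMaximal) {z : ℂ} (hz : Cfsg.MemLocalIdeal M z) :
    ¬ Cfsg.MemLocalIdeal M (1 - z) := by
  intro h
  have := MemLocalIdeal.add hM h hz
  rw [sub_add_cancel] at this
  exact not_memLocalIdeal_one this

theorem commute_smul_one (c : ℂ) (w : MonoidAlgebra ℂ G) :
    Commute (c • (1 : MonoidAlgebra ℂ G)) w := by
  unfold Commute SemiconjBy
  rw [smul_mul_assoc, one_mul, mul_smul_comm, mul_one]

/-- polynomial division step: the data of a product of shifted copies of `a` -/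
theorem exists_poly_data [Fintype G] (hM : M.IsMaximal) (a : MonoidAlgebra ℂ G)
    (ha : ∀ g : G, Commute a (MonoidAlgebra.single g 1)) (haloc : GaLoc M a)
    (hω : ∀ ψ : Cfsg.IrrCharacter G,
      Cfsg.MemLocalRing M (gaPair (ψ : G → ℂ) a / (ψ : G → ℂ) 1) ∧
      ¬ Cfsg.MemLocalIdeal M (gaPair (ψ : G → ℂ) a / (ψ : G → ℂ) 1))
    (S : Finset (Cfsg.IrrCharacter G)) :
    ∃ (P z : MonoidAlgebra ℂ G) (d : ℂ),
      (∀ g : G, Commute P (MonoidAlgebra.single g 1)) ∧
      (∀ φ : Cfsg.IrrCharacter G, gaPair (φ : G → ℂ) P = (φ : G → ℂ) 1 *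
        ∏ ψ ∈ S, (gaPair (φ : G → ℂ) a / (φ : G → ℂ) 1 -
          gaPair (ψ : G → ℂ) a / (ψ : G → ℂ) 1)) ∧
      P = a * z + d • (1 : MonoidAlgebra ℂ G) ∧ GaLoc M z ∧ Cfsg.MemLocalRing M d ∧
      ¬ Cfsg.MemLocalIdeal M d ∧ (∀ w : MonoidAlgebra ℂ G, Commute a w → Commute z w) := by
  classical
  induction S using Finset.induction_on with
  | empty =>
    refine ⟨1, 0, 1, fun g => Commute.one_left _, fun φ => ?_, ?_, GaLoc.zero hM,
      memLocalRing_one hM, not_memLocalIdeal_one, fun w _ => Commute.zero_left w⟩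
    · rw [Finset.prod_empty, mul_one, gaPair_one]
    · rw [mul_zero, zero_add, one_smul]
  | insert ψ₀ S hψ₀ ih =>
    obtain ⟨P, z, d, hPc, hPpair, hPeq, hz, hd, hdnot, hzc⟩ := ih
    obtain ⟨c₀, hc₀⟩ : ∃ c₀ : ℂ, c₀ = gaPair (ψ₀ : G → ℂ) a / (ψ₀ : G → ℂ) 1 := ⟨_, rfl⟩
    have hc₀loc : Cfsg.MemLocalRing M c₀ := by rw [hc₀]; exact (hω ψ₀).1
    have hc₀not : ¬ Cfsg.MemLocalIdeal M c₀ := by rw [hc₀]; exact (hω ψ₀).2
    have hac : ∀ g : G, Commute (a - c₀ • (1 : MonoidAlgebra ℂ G)) (MonoidAlgebra.single g 1) :=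
      fun g => Commute.sub_left (ha g) (commute_smul_one c₀ _)
    refine ⟨P * (a - c₀ • 1), z * (a - c₀ • 1) + d • 1, -(c₀ * d), ?_, ?_, ?_, ?_, ?_, ?_, ?_⟩
    · intro g
      exact Commute.mul_left (hPc g) (hac g)
    · intro φ
      have hφ1 : (φ : G → ℂ) 1 ≠ 0 := IsIrrCharacter.apply_one_ne_zero φ.2
      rw [gaPair_mul_of_central φ P _ hPc, hPpair φ, Finset.prod_insert hψ₀, gaPair_sub,
        gaPair_smul, gaPair_one, ← hc₀]
      field_simp
    · rw [hPeq]
      have h1 : Commute (d • (1 : MonoidAlgebra ℂ G)) (a - c₀ • 1) := commute_smul_one d _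
      have h2 : Commute (c₀ • (1 : MonoidAlgebra ℂ G)) (d • (1 : MonoidAlgebra ℂ G)) :=
        commute_smul_one c₀ _
      simp only [add_mul, mul_add, mul_sub, smul_mul_assoc, mul_smul_comm, one_mul,
        mul_one, mul_assoc]
      module
    · exact GaLoc.add hM (GaLoc.mul hM hz (GaLoc.sub hM haloc
        (GaLoc.smul hM hc₀loc (GaLoc.one hM)))) (GaLoc.smul hM hd (GaLoc.one hM))
    · exact MemLocalRing.neg (MemLocalRing.mul hM hc₀loc hd)
    · intro h
      have h1 := MemLocalIdeal.neg h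
      rw [neg_neg] at h1
      rcases MemLocalIdeal.of_mul hM hc₀loc hd h1 with h2 | h2
      · exact hc₀not h2
      · exact hdnot h2
    · intro w hw
      apply Commute.add_left
      · exact Commute.mul_left (hzc w hw) (Commute.sub_left hw (commute_smul_one c₀ _))
      · exact commute_smul_one d _

/-- **inverse of a central element whose central characters are all units** -/
theorem exists_inverse_of_central [Fintype G] (hM : M.IsMaximal) (a : MonoidAlgebra ℂ G)
    (ha : ∀ g : G, Commute a (MonoidAlgebra.single g 1)) (haloc : GaLoc M a)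
    (hω : ∀ ψ : Cfsg.IrrCharacter G,
      Cfsg.MemLocalRing M (gaPair (ψ : G → ℂ) a / (ψ : G → ℂ) 1) ∧
      ¬ Cfsg.MemLocalIdeal M (gaPair (ψ : G → ℂ) a / (ψ : G → ℂ) 1)) :
    ∃ z : MonoidAlgebra ℂ G, GaLoc M z ∧ z * a = 1 ∧ a * z = 1 ∧
      (∀ w : MonoidAlgebra ℂ G, Commute a w → Commute z w) := by
  classical
  haveI : Finite (Cfsg.IrrCharacter G) := irr_finite
  haveI : Fintype (Cfsg.IrrCharacter G) := Fintype.ofFinite _
  obtain ⟨P, z, d, hPc, hPpair, hPeq, hz, hd, hdnot, hzc⟩ :=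
    exists_poly_data hM a ha haloc hω Finset.univ
  have hP0 : P = 0 := by
    apply ga_eq_zero_of_central P hPc
    intro φ
    rw [hPpair φ, Finset.prod_eq_zero (Finset.mem_univ φ) (sub_self _), mul_zero]
  have hd0 : d ≠ 0 := by
    rintro rfl
    exact hdnot (memLocalIdeal_zero hM)
  have hdinv := memLocalRing_inv_of_unit hM hd hdnot
  have haz : a * z = -(d • (1 : MonoidAlgebra ℂ G)) := by
    rw [hP0] at hPeq
    exact eq_neg_of_add_eq_zero_left hPeq.symm
  have h1 : a * ((-d⁻¹) • z) = 1 := by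
    rw [mul_smul_comm, haz, smul_neg, neg_smul, neg_neg, smul_smul, inv_mul_cancel₀ hd0, one_smul]
  have hcomm : Commute ((-d⁻¹) • z) a := Commute.smul_left (hzc a (Commute.refl a)) _
  refine ⟨(-d⁻¹) • z, GaLoc.smul hM (MemLocalRing.neg hdinv) hz, ?_, h1, ?_⟩
  · rw [hcomm.eq, h1]
  · intro w hw
    exact Commute.smul_left (hzc w hw) _

end Cfsg.Agent.Helper6
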