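import Mathlib
import Cfsg.Prelude.Def_Characters
import Cfsg.Prelude.Def_Blocks
import Cfsg.Agent.Helper6.GroupAlgB
import Cfsg.Agent.Helper6.IndFun

/-!
# The inclusion of the group algebra of a subgroup
-/

set_option autoImplicit false
set_option linter.style.haveILetI false

namespace Cfsg.Agent.Helper6

open Module
open scoped ComplexConjugate

universe u

variable {G : Type u} [Group G] {M : Ideal Cfsg.AlgInt}

/-- the inclusion `ℂH → ℂG` -/
noncomputable def gaIncl (H : Subgroup G) : MonoidAlgebra ℂ H →+* MonoidAlgebra ℂ G :=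
  MonoidAlgebra.mapDomainRingHom ℂ H.subtype

theorem gaIncl_coeff_coe (H : Subgroup G) (w : MonoidAlgebra ℂ H) (k : H) :
    (gaIncl H w).coeff (k : G) = w.coeff k := by
  unfold gaIncl
  rw [MonoidAlgebra.mapDomainRingHom_apply, MonoidAlgebra.coeff_mapDomain]
  exact Finsupp.mapDomain_apply (f := H.subtype) Subtype.val_injective w.coeff k

theorem gaIncl_coeff_of_mem (H : Subgroup G) (w : MonoidAlgebra ℂ H) {g : G} (hg : g ∈ H) :
    (gaIncl H w).coeff g = w.coeff ⟨g, hg⟩ :=
  gaIncl_coeff_coe H w ⟨g, hg⟩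

theorem gaIncl_coeff_of_not_mem (H : Subgroup G) (w : MonoidAlgebra ℂ H) {g : G} (hg : g ∉ H) :
    (gaIncl H w).coeff g = 0 := by
  unfold gaIncl
  rw [MonoidAlgebra.mapDomainRingHom_apply, MonoidAlgebra.coeff_mapDomain]
  apply Finsupp.mapDomain_of_notMem_range
  rintro ⟨k, rfl⟩
  exact hg k.2

theorem gaIncl_single (H : Subgroup G) (k : H) (c : ℂ) :
    gaIncl H (MonoidAlgebra.single k c) = MonoidAlgebra.single (k : G) c := by
  unfold gaIncl
  rw [MonoidAlgebra.mapDomainRingHom_apply, MonoidAlgebra.mapDomain_single]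
  rfl

theorem GaLoc.incl (hM : M.IsMaximal) (H : Subgroup G) {w : MonoidAlgebra ℂ H} (hw : GaLoc M w) :
    GaLoc M (gaIncl H w) := by
  intro g
  by_cases hg : g ∈ H
  · rw [gaIncl_coeff_of_mem H w hg]
    exact hw _
  · rw [gaIncl_coeff_of_not_mem H w hg]
    exact memLocalRing_zero hM

theorem gaIncl_coeff_eq_extendByZero (H : Subgroup G) (w : MonoidAlgebra ℂ H) (g : G) :
    (gaIncl H w).coeff g = Cfsg.extendByZero H (fun k : H => w.coeff k) g := by
  by_cases hg : g ∈ H
  · rw [gaIncl_coeff_of_mem H w hg, extendByZero_mem H _ hg]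
  · rw [gaIncl_coeff_of_not_mem H w hg, extendByZero_not_mem H _ hg]

theorem gaPair_incl [Fintype G] (H : Subgroup G) [Fintype H] (χ : G → ℂ)
    (w : MonoidAlgebra ℂ H) : gaPair χ (gaIncl H w) = ∑ k : H, w.coeff k * χ (k : G) := by
  unfold gaPair
  simp_rw [gaIncl_coeff_eq_extendByZero]
  exact sum_extendByZero_mul H (fun k : H => w.coeff k) χ

/-- the image of a central element commutes with the elements of the subgroup -/
theorem gaIncl_commute_single (H : Subgroup G) (w : MonoidAlgebra ℂ H) (k : H)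
    (hw : Commute w (MonoidAlgebra.single k 1)) :
    Commute (gaIncl H w) (MonoidAlgebra.single (k : G) 1) := by
  have := hw.map (gaIncl H)
  rwa [gaIncl_single] at this

end Cfsg.Agent.Helper6
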