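import Mathlib
import Cfsg.Prelude.Def_Characters
import Cfsg.Prelude.Def_Blocks
import Cfsg.Agent.Helper6.GroupAlgC
import Cfsg.Agent.Helper6.GroupAlgD
import Cfsg.Agent.Helper6.InducedPart
import Cfsg.Agent.Helper6.FongReynolds2
import Cfsg.Agent.Helper6.BrauerPair

/-!
# Second main theorem, part A: the restricted block idempotent and the inverse of `1 - r`
-/

set_option autoImplicit false
set_option linter.style.haveILetI false

namespace Cfsg.Agent.Helper6

open Module
open scoped ComplexConjugate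

universe u

variable {G : Type u} [Group G] {M : Ideal Cfsg.AlgInt}

/-- the central character of a member of `b` kills (mod the ideal) the part inside `H` of the
idempotent of a block different from `b^G` -/
theorem restrict_blockIdem_memLocalIdeal [Fintype G] (hM : M.IsMaximal) (H : Subgroup G)
    [Fintype H] (b : Set (Cfsg.IrrCharacter H)) (B B' : Set (Cfsg.IrrCharacter G))
    (hind : Cfsg.IsInducedBlock M H b B) (hB' : Cfsg.IsPBlock M B') (hne : B' ≠ B)
    (ψ : Cfsg.IrrCharacter H) (hψ : ψ ∈ b) :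
    Cfsg.MemLocalIdeal M ((∑ k : H, Cfsg.blockCoeff B' (k : G) * (ψ : H → ℂ) k) /
      (ψ : H → ℂ) 1) := by
  classical
  obtain ⟨φ, hφdef⟩ : ∃ φ : G → ℂ, φ = Cfsg.indFun H (ψ : H → ℂ) := ⟨_, rfl⟩
  have hφcf : Cfsg.IsClassFunction G φ := by
    rw [hφdef]
    exact indFun_isClassFunction H _
  have hψ1 : (ψ : H → ℂ) 1 ≠ 0 := IsIrrCharacter.apply_one_ne_zero ψ.2
  obtain ⟨χ₀, hχ₀def⟩ := hind.2.1
  have hχ₀ : χ₀ ∈ B := by rw [hχ₀def]; exact mem_blockOf_self hM χ₀
  have hcong : ∀ g, Cfsg.MemLocalIdeal M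
      (Cfsg.centralChar φ g - Cfsg.centralChar (χ₀ : G → ℂ) g) := by
    intro g
    have h1 := hind.2.2 ψ hψ χ₀ hχ₀ g
    rw [inducedCentralChar_eq_sum, ← centralChar_indFun H _ hψ1 g, ← hφdef] at h1
    exact h1
  have hχ₀B' : χ₀ ∉ B' := by
    intro hmem
    apply hne
    rw [eq_blockOf_of_mem hM B' hB' χ₀ hmem, hχ₀def]
  have h1 := sum_blockCoeff_mul_classFunction hM B' hB' φ hφcf χ₀ hcong
  rw [if_neg hχ₀B', sub_zero] at h1
  have hidx0 : (H.index : ℂ) ≠ 0 := by
    have : H.index ≠ 0 := Subgroup.index_ne_zero_of_finite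
    exact_mod_cast this
  have h2 : ∑ g : G, Cfsg.blockCoeff B' g * φ g =
      (H.index : ℂ) * ∑ k : H, Cfsg.blockCoeff B' (k : G) * (ψ : H → ℂ) k := by
    have := sum_indFun_mul H (ψ : H → ℂ) (Cfsg.blockCoeff B') (blockCoeff_isClassFunction B')
    rw [← hφdef] at this
    rw [Finset.sum_congr rfl (fun g _ => mul_comm (Cfsg.blockCoeff B' g) (φ g)), this]
    congr 1
    apply Finset.sum_congr rfl
    intro k _
    rw [mul_comm]
  have h3 : φ 1 = (H.index : ℂ) * (ψ : H → ℂ) 1 := by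
    rw [hφdef, indFun_apply_one]
  rw [h2, h3, mul_div_mul_left _ _ hidx0] at h1
  exact h1

/-- **the inverse of `1 - r`**, where `r` is the product of the part inside `H` of the
idempotent of a block `B' ≠ b^G` with the idempotent of `b` -/
theorem exists_inverse_one_sub_restrict [Fintype G] (hM : M.IsMaximal) (H : Subgroup G)
    [Fintype H] (b : Set (Cfsg.IrrCharacter H)) (B B' : Set (Cfsg.IrrCharacter G))
    (hind : Cfsg.IsInducedBlock M H b B) (hB' : Cfsg.IsPBlock M B') (hne : B' ≠ B) :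
    ∃ z : MonoidAlgebra ℂ H, GaLoc M z ∧
      z * (1 - gaOfFun (fun k : H => Cfsg.blockCoeff B' (k : G)) * gaOfFun (Cfsg.blockCoeff b)) = 1 ∧
      (∀ k : H, Commute z (MonoidAlgebra.single k 1)) := by
  classical
  obtain ⟨eH, heH⟩ : ∃ eH : MonoidAlgebra ℂ H,
    eH = gaOfFun (fun k : H => Cfsg.blockCoeff B' (k : G)) := ⟨_, rfl⟩
  obtain ⟨fH, hfH⟩ : ∃ fH : MonoidAlgebra ℂ H, fH = gaOfFun (Cfsg.blockCoeff b) := ⟨_, rfl⟩
  rw [← heH, ← hfH]
  have hcfe : Cfsg.IsClassFunction H (fun k : H => Cfsg.blockCoeff B' (k : G)) := by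
    intro k k'
    exact blockCoeff_isClassFunction B' (k : G) (k' : G)
  have hec : ∀ k : H, Commute eH (MonoidAlgebra.single k 1) := by
    intro k
    rw [heH]
    exact gaOfFun_commute_single hcfe k
  have hfc : ∀ k : H, Commute fH (MonoidAlgebra.single k 1) := by
    intro k
    rw [hfH]
    exact gaOfFun_commute_single (blockCoeff_isClassFunction b) k
  have heloc : GaLoc M eH := by
    rw [heH]
    exact GaLoc.ofFun (fun k => osima hM B' hB' (k : G))
  have hfloc : GaLoc M fH := by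
    rw [hfH]
    exact GaLoc.ofFun (fun k => osima hM b hind.1 k)
  have hac : ∀ k : H, Commute (1 - eH * fH) (MonoidAlgebra.single k 1) := by
    intro k
    exact Commute.sub_left (Commute.one_left _) (Commute.mul_left (hec k) (hfc k))
  have haloc : GaLoc M (1 - eH * fH) := GaLoc.sub hM (GaLoc.one hM) (GaLoc.mul hM heloc hfloc)
  have hω : ∀ ψ : Cfsg.IrrCharacter H,
      Cfsg.MemLocalRing M (gaPair (ψ : H → ℂ) (1 - eH * fH) / (ψ : H → ℂ) 1) ∧
      ¬ Cfsg.MemLocalIdeal M (gaPair (ψ : H → ℂ) (1 - eH * fH) / (ψ : H → ℂ) 1) := by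
    intro ψ
    have hψ1 : (ψ : H → ℂ) 1 ≠ 0 := IsIrrCharacter.apply_one_ne_zero ψ.2
    have h1 : gaPair (ψ : H → ℂ) (1 - eH * fH) / (ψ : H → ℂ) 1 =
        1 - gaPair (ψ : H → ℂ) eH / (ψ : H → ℂ) 1 *
          (if ψ ∈ b then 1 else 0) := by
      rw [gaPair_sub, gaPair_one, gaPair_mul_of_central ψ eH fH hec, hfH, gaPair_blockIdem,
        sub_div, div_self hψ1]
      by_cases hψ : ψ ∈ b
      · rw [if_pos hψ, if_pos hψ, mul_one, mul_div_assoc, div_self hψ1, mul_one]
      · simp only [if_neg hψ, mul_zero, zero_div]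
    rw [h1]
    by_cases hψ : ψ ∈ b
    · rw [if_pos hψ, mul_one]
      have h2 := restrict_blockIdem_memLocalIdeal hM H b B B' hind hB' hne ψ hψ
      have h3 : gaPair (ψ : H → ℂ) eH = ∑ k : H, Cfsg.blockCoeff B' (k : G) * (ψ : H → ℂ) k := by
        rw [heH, gaPair_ofFun]
      rw [h3]
      exact ⟨MemLocalRing.sub hM (memLocalRing_one hM) (memLocalRing_of_memLocalIdeal h2),
        not_memLocalIdeal_one_sub hM h2⟩
    · rw [if_neg hψ, mul_zero, sub_zero]
      exact ⟨memLocalRing_one hM, not_memLocalIdeal_one⟩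
  obtain ⟨z, hzloc, hz1, _, hzc⟩ := exists_inverse_of_central hM (1 - eH * fH) hac haloc hω
  exact ⟨z, hzloc, hz1, fun k => hzc _ (hac k)⟩

end Cfsg.Agent.Helper6
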