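import Mathlib
import Cfsg.Prelude.Def_Characters
import Cfsg.Prelude.Def_Blocks
import Cfsg.Agent.Helper6.SecondMainA
import Cfsg.Agent.Helper6.GroupAlgMat
import Cfsg.Agent.Helper6.CyclicCocycle
import Cfsg.Agent.Helper6.PPartBasic

/-!
# Second main theorem, part B: the transversal for the conjugation action and the assembly
-/

set_option autoImplicit false
set_option linter.style.haveILetI false

namespace Cfsg.Agent.Helper6

open Module
open scoped ComplexConjugate

universe u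

variable {G : Type u} [Group G] {M : Ideal Cfsg.AlgInt}

theorem conj_mul_conj {R : Type*} [Monoid R] (A A' x y : R) (hA : A' * A = 1) :
    A * (x * y) * A' = (A * x * A') * (A * y * A') := by
  calc A * (x * y) * A' = A * x * 1 * y * A' := by simp only [mul_one, mul_assoc]
    _ = A * x * (A' * A) * y * A' := by rw [hA]
    _ = (A * x * A') * (A * y * A') := by simp only [mul_assoc]

theorem conj_of_commute {R : Type*} [Monoid R] (A A' x : R) (hA : A * A' = 1)
    (hx : Commute A x) : A * x * A' = x := by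
  rw [hx.eq, mul_assoc, hA, mul_one]

theorem single_one_pow (g : G) (j : ℕ) :
    (MonoidAlgebra.single g (1 : ℂ)) ^ j = MonoidAlgebra.single (g ^ j) (1 : ℂ) := by
  rw [MonoidAlgebra.single_pow, one_pow]

theorem cocycle_pow {p : ℕ} (H : Subgroup G) (h : G) (hh : h ∈ H) (c : G → ZMod p)
    (hc : ∀ a : G, a ∉ H → c (h * a * h⁻¹) = c a + 1) (j : ℕ) (a : G) (ha : a ∉ H) :
    c (h ^ j * a * (h ^ j)⁻¹) = c a + j := by
  induction j with
  | zero => simp
  | succ j ih =>
    have h1 : h ^ (j + 1) * a * (h ^ (j + 1))⁻¹ = h * (h ^ j * a * (h ^ j)⁻¹) * h⁻¹ := by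
      rw [pow_succ']
      group
    have h2 : h ^ j * a * (h ^ j)⁻¹ ∉ H := by
      intro hmem
      apply ha
      have := H.mul_mem (H.mul_mem (H.inv_mem (H.pow_mem hh j)) hmem) (H.pow_mem hh j)
      convert this using 1
      group
    rw [h1, hc _ h2, ih]
    push_cast
    ring

open Classical in
/-- coefficients of the conjugates of the transversal part -/
theorem coeff_conj_transversal [Fintype G] {p : ℕ} (H : Subgroup G) (h : G) (hh : h ∈ H)
    (c : G → ZMod p) (hc : ∀ a : G, a ∉ H → c (h * a * h⁻¹) = c a + 1) (β : G → ℂ)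
    (hβ : Cfsg.IsClassFunction G β) (j : ℕ) (k : G) :
    (MonoidAlgebra.single h (1 : ℂ) ^ j *
      gaOfFun (fun a => if a ∉ H ∧ c a = 0 then β a else 0) *
      MonoidAlgebra.single h⁻¹ (1 : ℂ) ^ j).coeff k =
      if k ∉ H ∧ c k = (j : ZMod p) then β k else 0 := by
  rw [single_one_pow, single_one_pow, inv_pow, ga_coeff_conj, gaOfFun_coeff]
  have hβ' : β ((h ^ j)⁻¹ * k * h ^ j) = β k := by
    have := hβ k (h ^ j)⁻¹
    rwa [inv_inv] at this
  have hmem : (h ^ j)⁻¹ * k * h ^ j ∈ H ↔ k ∈ H := by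
    constructor
    · intro hmem
      have := H.mul_mem (H.mul_mem (H.pow_mem hh j) hmem) (H.inv_mem (H.pow_mem hh j))
      convert this using 1
      group
    · intro hmem
      exact H.mul_mem (H.mul_mem (H.inv_mem (H.pow_mem hh j)) hmem) (H.pow_mem hh j)
  rw [hβ']
  apply if_congr ?_ rfl rfl
  constructor
  · rintro ⟨ha, hca⟩
    have hk : k ∉ H := fun h' => ha (hmem.mpr h')
    refine ⟨hk, ?_⟩
    have h1 := cocycle_pow H h hh c hc j _ ha
    have h2 : h ^ j * ((h ^ j)⁻¹ * k * h ^ j) * (h ^ j)⁻¹ = k := by group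
    rw [h2, hca, zero_add] at h1
    exact h1
  · rintro ⟨hk, hck⟩
    have ha : (h ^ j)⁻¹ * k * h ^ j ∉ H := fun h' => hk (hmem.mp h')
    refine ⟨ha, ?_⟩
    have h1 := cocycle_pow H h hh c hc j _ ha
    have h2 : h ^ j * ((h ^ j)⁻¹ * k * h ^ j) * (h ^ j)⁻¹ = k := by group
    rw [h2, hck] at h1
    exact add_eq_right.mp h1.symm

open Classical in
/-- the sum of the conjugates of the transversal part is the part outside `H` -/
theorem sum_conj_transversal [Fintype G] {p : ℕ} [hp : Fact p.Prime] (H : Subgroup G) (h : G)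
    (hh : h ∈ H) (c : G → ZMod p) (hc : ∀ a : G, a ∉ H → c (h * a * h⁻¹) = c a + 1) (β : G → ℂ)
    (hβ : Cfsg.IsClassFunction G β) :
    ∑ j ∈ Finset.range p, MonoidAlgebra.single h (1 : ℂ) ^ j *
      gaOfFun (fun a => if a ∉ H ∧ c a = 0 then β a else 0) *
      MonoidAlgebra.single h⁻¹ (1 : ℂ) ^ j = gaOfFun (fun a => if a ∈ H then 0 else β a) := by
  classical
  apply ga_ext
  intro k
  rw [ga_coeff_sum, gaOfFun_coeff]
  simp_rw [coeff_conj_transversal H h hh c hc β hβ]
  by_cases hk : k ∈ H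
  · rw [if_pos hk]
    apply Finset.sum_eq_zero
    intro j _
    rw [if_neg (fun h' => h'.1 hk)]
  · rw [if_neg hk]
    have hmem : (c k).val ∈ Finset.range p := Finset.mem_range.mpr (ZMod.val_lt _)
    rw [Finset.sum_eq_single_of_mem _ hmem]
    · rw [if_pos ⟨hk, (ZMod.natCast_zmod_val (c k)).symm⟩]
    · intro j hj hne
      rw [if_neg]
      intro h'
      apply hne
      rw [h'.2, ZMod.val_natCast, Nat.mod_eq_of_lt (Finset.mem_range.mp hj)]

open Classical in
/-- the transversal part commutes with `h ^ p` -/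
theorem commute_pow_transversal [Fintype G] {p : ℕ} [hp : Fact p.Prime] (H : Subgroup G) (h : G)
    (hh : h ∈ H) (c : G → ZMod p) (hc : ∀ a : G, a ∉ H → c (h * a * h⁻¹) = c a + 1) (β : G → ℂ)
    (hβ : Cfsg.IsClassFunction G β) :
    Commute (MonoidAlgebra.single h (1 : ℂ) ^ p)
      (gaOfFun (fun a => if a ∉ H ∧ c a = 0 then β a else 0)) := by
  have h1 : MonoidAlgebra.single h (1 : ℂ) ^ p *
      gaOfFun (fun a => if a ∉ H ∧ c a = 0 then β a else 0) *
      MonoidAlgebra.single h⁻¹ (1 : ℂ) ^ p =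
      gaOfFun (fun a => if a ∉ H ∧ c a = 0 then β a else 0) := by
    apply ga_ext
    intro k
    rw [coeff_conj_transversal H h hh c hc β hβ, gaOfFun_coeff, ZMod.natCast_self]
  have h2 : MonoidAlgebra.single h⁻¹ (1 : ℂ) ^ p * MonoidAlgebra.single h (1 : ℂ) ^ p = 1 := by
    rw [single_one_pow, single_one_pow, MonoidAlgebra.single_mul_single, inv_pow,
      inv_mul_cancel, mul_one, MonoidAlgebra.one_def]
  unfold Commute SemiconjBy
  conv_rhs => rw [← h1]
  rw [mul_assoc, mul_assoc, h2, mul_one]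

theorem gaPair_single_mul [Fintype G] (χ : G → ℂ) (g : G) (w : MonoidAlgebra ℂ G) :
    gaPair χ (MonoidAlgebra.single g 1 * w) = gaPair (fun s => χ (g * s)) w := by
  unfold gaPair
  symm
  apply Fintype.sum_equiv (Equiv.mulLeft g)
  intro s
  rw [MonoidAlgebra.coeff_single_mul_apply, one_mul, Equiv.coe_mulLeft, inv_mul_cancel_left]

/-- **Second main theorem, key form** (Fintype version of S0922) -/
theorem second_main_key [Fintype G] {p : ℕ} [hp : Fact p.Prime] (hM : Cfsg.IsPModular p M)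
    (H : Subgroup G) [Fintype H] (b : Set (Cfsg.IrrCharacter H)) (B : Set (Cfsg.IrrCharacter G))
    (hind : Cfsg.IsInducedBlock M H b B) (h : H)
    (hC : ∀ z : G, Cfsg.IsPPart p (h : G) z → Subgroup.centralizer ({z} : Set G) ≤ H)
    (χ : Cfsg.IrrCharacter G) (hχ : χ ∉ B) :
    ∑ k : H, Cfsg.blockCoeff b k * (χ : G → ℂ) ((k : G) * (h : G)) = 0 := by
  classical
  have hMm := hM.2.1
  -- the block of `χ`
  obtain ⟨B', hB'def⟩ : ∃ B' : Set (Cfsg.IrrCharacter G), B' = Cfsg.blockOf M (χ : G → ℂ) :=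
    ⟨_, rfl⟩
  have hB' : Cfsg.IsPBlock M B' := ⟨χ, hB'def⟩
  have hχB' : χ ∈ B' := by rw [hB'def]; exact mem_blockOf_self hMm χ
  have hne : B' ≠ B := by rintro rfl; exact hχ hχB'
  obtain ⟨zH, hzHloc, hzH1, hzHc⟩ := exists_inverse_one_sub_restrict hMm H b B B' hind hB' hne
  obtain ⟨β, hβdef⟩ : ∃ β : G → ℂ, β = Cfsg.blockCoeff B' := ⟨_, rfl⟩
  rw [← hβdef] at hzH1
  have hβcf : Cfsg.IsClassFunction G β := by rw [hβdef]; exact blockCoeff_isClassFunction B'
  have hβloc : ∀ g, Cfsg.MemLocalRing M (β g) := by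
    rw [hβdef]; exact fun g => osima hMm B' hB' g
  have hχcf : Cfsg.IsClassFunction G (χ : G → ℂ) :=
    IsCharacter.isClassFunction (IsIrrCharacter.isCharacter χ.2)
  -- the cocycle
  obtain ⟨x, hx⟩ := exists_isPPart p (h : G)
  have hCx := hC x hx
  have hfix : ∀ a ∈ {a : G | a ∉ H}, ∀ j : ℤ,
      (h : G) ^ j * a * ((h : G) ^ j)⁻¹ = a → (p : ℤ) ∣ j := by
    intro a ha j hj
    by_contra hnd
    have h1 := commute_ppart_of_commute_zpow p (h : G) x a hx j hnd hj
    apply ha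
    apply hCx
    rw [Subgroup.mem_centralizer_singleton_iff]
    exact h1.symm
  have hS : ∀ a ∈ {a : G | a ∉ H}, ∀ j : ℤ,
      (h : G) ^ j * a * ((h : G) ^ j)⁻¹ ∈ {a : G | a ∉ H} := by
    intro a ha j hmem
    apply ha
    have hj : (h : G) ^ j ∈ H := H.zpow_mem h.2 j
    have := H.mul_mem (H.mul_mem (H.inv_mem hj) hmem) hj
    convert this using 1
    group
  obtain ⟨c, hc⟩ := exists_cocycle p (h : G) {a | a ∉ H} hS hfix
  have hc' : ∀ a : G, a ∉ H → c ((h : G) * a * (h : G)⁻¹) = c a + 1 := fun a ha => hc a ha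
  -- the elements
  obtain ⟨e, hedef⟩ : ∃ e : MonoidAlgebra ℂ G, e = gaOfFun β := ⟨_, rfl⟩
  obtain ⟨fH, hfHdef⟩ : ∃ fH : MonoidAlgebra ℂ H, fH = gaOfFun (Cfsg.blockCoeff b) := ⟨_, rfl⟩
  obtain ⟨eH, heHdef⟩ : ∃ eH : MonoidAlgebra ℂ H, eH = gaOfFun (fun k : H => β (k : G)) :=
    ⟨_, rfl⟩
  rw [← hfHdef, ← heHdef] at hzH1
  obtain ⟨f, hfdef⟩ : ∃ f : MonoidAlgebra ℂ G, f = gaIncl H fH := ⟨_, rfl⟩
  obtain ⟨ein, heindef⟩ : ∃ ein : MonoidAlgebra ℂ G, ein = gaIncl H eH := ⟨_, rfl⟩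
  obtain ⟨z, hzdef⟩ : ∃ z : MonoidAlgebra ℂ G, z = gaIncl H zH := ⟨_, rfl⟩
  obtain ⟨eout, heoutdef⟩ : ∃ eout : MonoidAlgebra ℂ G,
    eout = gaOfFun (fun a => if a ∈ H then 0 else β a) := ⟨_, rfl⟩
  obtain ⟨e₀, he₀def⟩ : ∃ e₀ : MonoidAlgebra ℂ G,
    e₀ = gaOfFun (fun a => if a ∉ H ∧ c a = 0 then β a else 0) := ⟨_, rfl⟩
  obtain ⟨sh, hshdef⟩ : ∃ sh : MonoidAlgebra ℂ G, sh = MonoidAlgebra.single (h : G) (1 : ℂ) :=
    ⟨_, rfl⟩
  obtain ⟨sh', hsh'def⟩ : ∃ sh' : MonoidAlgebra ℂ G,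
    sh' = MonoidAlgebra.single (h : G)⁻¹ (1 : ℂ) := ⟨_, rfl⟩
  have hsum0 : ∑ j ∈ Finset.range p, sh ^ j * e₀ * sh' ^ j = eout := by
    rw [hshdef, hsh'def, he₀def, heoutdef]
    exact sum_conj_transversal H (h : G) h.2 c hc' β hβcf
  have hcomm0 : Commute (sh ^ p) e₀ := by
    rw [hshdef, he₀def]
    exact commute_pow_transversal H (h : G) h.2 c hc' β hβcf
  have he_c : ∀ w : MonoidAlgebra ℂ G, Commute e w := by
    rw [hedef]; exact gaOfFun_commute hβcf
  have hee : e * e = e := by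
    rw [hedef, hβdef]; exact gaOfFun_blockCoeff_idem B'
  have hff : f * f = f := by
    rw [hfdef, ← map_mul, hfHdef, gaOfFun_blockCoeff_idem b]
  have hz : z * (1 - ein * f) = 1 := by
    have := congrArg (gaIncl H) hzH1
    rw [map_mul, map_sub, map_one, map_mul] at this
    rw [hzdef, heindef, hfdef]
    exact this
  have hsplit : e = ein + eout := by
    apply ga_ext
    intro k
    rw [MonoidAlgebra.coeff_add, Finsupp.add_apply, hedef, heindef, heoutdef, gaOfFun_coeff,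
      gaOfFun_coeff]
    by_cases hk : k ∈ H
    · rw [gaIncl_coeff_of_mem H eH hk, if_pos hk, add_zero, heHdef, gaOfFun_coeff]
    · rw [gaIncl_coeff_of_not_mem H eH hk, if_neg hk, zero_add]
  -- commutation with `sh`, `sh'`
  have hsh_eq : sh = MonoidAlgebra.single ((h : H) : G) (1 : ℂ) := hshdef
  have hsh'_eq : sh' = MonoidAlgebra.single ((h⁻¹ : H) : G) (1 : ℂ) := by
    rw [hsh'def, Subgroup.coe_inv]
  have hfHc : ∀ k : H, Commute fH (MonoidAlgebra.single k 1) := by
    intro k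
    rw [hfHdef]
    exact gaOfFun_commute_single (blockCoeff_isClassFunction b) k
  have hf_sh : Commute f sh := by
    rw [hfdef, hsh_eq]; exact gaIncl_commute_single H fH h (hfHc h)
  have hf_sh' : Commute f sh' := by
    rw [hfdef, hsh'_eq]; exact gaIncl_commute_single H fH h⁻¹ (hfHc h⁻¹)
  have hz_sh : Commute z sh := by
    rw [hzdef, hsh_eq]; exact gaIncl_commute_single H zH h (hzHc h)
  have hz_sh' : Commute z sh' := by
    rw [hzdef, hsh'_eq]; exact gaIncl_commute_single H zH h⁻¹ (hzHc h⁻¹)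
  obtain ⟨v, hvdef⟩ : ∃ v : MonoidAlgebra ℂ G, v = e * f := ⟨_, rfl⟩
  have hv_sh : Commute v sh := by rw [hvdef]; exact (he_c sh).mul_left hf_sh
  have hv_sh' : Commute v sh' := by rw [hvdef]; exact (he_c sh').mul_left hf_sh'
  have hvv : v * v = v := by
    rw [hvdef]
    calc e * f * (e * f) = e * (f * e) * f := by simp only [mul_assoc]
      _ = e * (e * f) * f := by rw [(he_c f).eq]
      _ = (e * e) * (f * f) := by simp only [mul_assoc]
      _ = e * f := by rw [hee, hff]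
  obtain ⟨o, hodef⟩ : ∃ o : MonoidAlgebra ℂ G, o = eout * f := ⟨_, rfl⟩
  have hv_ro : v - ein * f = o := by
    rw [hvdef, hsplit, add_mul, hodef, add_sub_cancel_left]
  have h1 : (1 - ein * f) * v = o * v := by
    calc (1 - ein * f) * v = v - ein * f * v := by rw [sub_mul, one_mul]
      _ = v * v - ein * f * v := by rw [hvv]
      _ = (v - ein * f) * v := by rw [sub_mul]
      _ = o * v := by rw [hv_ro]
  have h2 : z * (o * v) = v := by
    rw [← h1, ← mul_assoc, hz, one_mul]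
  -- the local element `u`
  obtain ⟨u, hudef⟩ : ∃ u : MonoidAlgebra ℂ G, u = v * z * (e₀ * f) * v := ⟨_, rfl⟩
  have hfloc : GaLoc M f := by
    rw [hfdef, hfHdef]
    exact GaLoc.incl hMm H (GaLoc.ofFun (fun k => osima hMm b hind.1 k))
  have hvloc : GaLoc M v := by
    rw [hvdef, hedef]
    exact GaLoc.mul hMm (GaLoc.ofFun hβloc) hfloc
  have hzloc : GaLoc M z := by rw [hzdef]; exact GaLoc.incl hMm H hzHloc
  have he₀loc : GaLoc M e₀ := by
    rw [he₀def]
    apply GaLoc.ofFun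
    intro a
    split_ifs
    · exact hβloc a
    · exact memLocalRing_zero hMm
  have huloc : GaLoc M u := by
    rw [hudef]
    exact GaLoc.mul hMm (GaLoc.mul hMm (GaLoc.mul hMm hvloc hzloc) (GaLoc.mul hMm he₀loc hfloc))
      hvloc
  have hvu : v * u = u := by
    rw [hudef]
    simp only [← mul_assoc]
    rw [hvv]
  have huv : u * v = u := by
    rw [hudef, mul_assoc (v * z * (e₀ * f)) v v, hvv]
  have huh : Commute u (sh ^ p) := by
    rw [hudef]
    exact (((hv_sh.pow_right p).mul_left (hz_sh.pow_right p)).mul_left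
      (hcomm0.symm.mul_left (hf_sh.pow_right p))).mul_left (hv_sh.pow_right p)
  have hss' : ∀ j : ℕ, sh ^ j * sh' ^ j = 1 := by
    intro j
    rw [hshdef, hsh'def, single_one_pow, single_one_pow, MonoidAlgebra.single_mul_single, inv_pow,
      mul_inv_cancel, mul_one, MonoidAlgebra.one_def]
  have hs's : ∀ j : ℕ, sh' ^ j * sh ^ j = 1 := by
    intro j
    rw [hshdef, hsh'def, single_one_pow, single_one_pow, MonoidAlgebra.single_mul_single, inv_pow,
      inv_mul_cancel, mul_one, MonoidAlgebra.one_def]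
  have hsum : ∑ j ∈ Finset.range p, sh ^ j * u * sh' ^ j = v := by
    have hterm : ∀ j : ℕ, sh ^ j * u * sh' ^ j = v * z * ((sh ^ j * e₀ * sh' ^ j) * f) * v := by
      intro j
      have hcv : sh ^ j * v * sh' ^ j = v :=
        conj_of_commute _ _ _ (hss' j) (hv_sh.symm.pow_left j)
      have hcz : sh ^ j * z * sh' ^ j = z :=
        conj_of_commute _ _ _ (hss' j) (hz_sh.symm.pow_left j)
      have hcf : sh ^ j * f * sh' ^ j = f :=
        conj_of_commute _ _ _ (hss' j) (hf_sh.symm.pow_left j)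
      rw [hudef, conj_mul_conj _ _ _ _ (hs's j), conj_mul_conj _ _ _ _ (hs's j),
        conj_mul_conj _ _ _ _ (hs's j), conj_mul_conj _ _ e₀ f (hs's j), hcv, hcz, hcf]
    rw [Finset.sum_congr rfl (fun j _ => hterm j), ← Finset.sum_mul, ← Finset.mul_sum,
      ← Finset.sum_mul, hsum0, ← hodef, mul_assoc, mul_assoc, h2, hvv]
  have hzero := ga_class_sum_zero hM (h : G) v u huloc (by rw [← hshdef]; exact hv_sh) hvu huv
    (by rw [← hshdef]; exact huh) (by rw [← hshdef, ← hsh'def]; exact hsum)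
  rw [← hshdef] at hzero
  have hpair : gaPair (χ : G → ℂ) (sh * v) = 0 :=
    gaPair_eq_zero_of_conj_sums _ hzero _ hχcf
  -- evaluation
  have hχ1 : (χ : G → ℂ) 1 ≠ 0 := IsIrrCharacter.apply_one_ne_zero χ.2
  have e1 : sh * v = e * (sh * f) := by
    rw [hvdef, ← mul_assoc, ← (he_c sh).eq, mul_assoc]
  have e2 : gaPair (χ : G → ℂ) e = (χ : G → ℂ) 1 := by
    rw [hedef, hβdef, gaPair_blockIdem, if_pos hχB']
  rw [e1, gaPair_mul_of_central χ e _ (fun g => he_c _), e2, div_self hχ1, one_mul, hshdef,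
    gaPair_single_mul, hfdef, gaPair_incl, hfHdef] at hpair
  refine Eq.trans ?_ hpair
  apply Finset.sum_congr rfl
  intro k _
  rw [gaOfFun_coeff]
  congr 1
  have := hχcf ((k : G) * (h : G)) (h : G)
  rw [← this]
  group

end Cfsg.Agent.Helper6
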