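import Mathlib
import Cfsg.Prelude.Def_Characters
import Cfsg.Prelude.Def_Blocks
import Cfsg.Agent.Helper6.SecondMainB
import Cfsg.Agent.Helper6.Expansion
import Cfsg.Agent.Helper6.BrauerFunctional2

/-!
# Second main theorem, part C: uniqueness of `p`-parts, translates of block parts, and the
theorem itself
-/

set_option autoImplicit false
set_option linter.style.haveILetI false

namespace Cfsg.Agent.Helper6

open Module
open scoped ComplexConjugate

universe u

variable {G : Type u} [Group G] {M : Ideal Cfsg.AlgInt}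

/-- the `p`-part of an element is unique -/
theorem isPPart_unique (p : ℕ) [hp : Fact p.Prime] {g x x' : G} (hx : Cfsg.IsPPart p g x)
    (hx' : Cfsg.IsPPart p g x') : x = x' := by
  obtain ⟨y, hxy, hc, ⟨k, hk⟩, hy⟩ := hx
  obtain ⟨y', hxy', hc', ⟨k', hk'⟩, hy'⟩ := hx'
  have hcop : Nat.Coprime (orderOf y) (orderOf x) := by
    rw [hk]
    exact (Nat.Coprime.pow_right k ((Nat.Prime.coprime_iff_not_dvd hp.1).mpr hy).symm)
  have hcop' : Nat.Coprime (orderOf y') (orderOf x') := by
    rw [hk']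
    exact (Nat.Coprime.pow_right k' ((Nat.Prime.coprime_iff_not_dvd hp.1).mpr hy').symm)
  obtain ⟨hxm, hym⟩ := mem_zpowers_mul_of_coprime x y hc.eq hcop
  obtain ⟨hxm', hym'⟩ := mem_zpowers_mul_of_coprime x' y' hc'.eq hcop'
  rw [hxy] at hxm hym
  rw [hxy'] at hxm' hym'
  obtain ⟨i, hi⟩ := Subgroup.mem_zpowers_iff.mp hxm
  obtain ⟨i', hi'⟩ := Subgroup.mem_zpowers_iff.mp hxm'
  obtain ⟨j, hj⟩ := Subgroup.mem_zpowers_iff.mp hym
  obtain ⟨j', hj'⟩ := Subgroup.mem_zpowers_iff.mp hym'
  have hcxx' : Commute x⁻¹ x' := by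
    rw [← hi, ← hi']
    exact (Commute.zpow_zpow_self g i i').inv_left
  have hcyy' : Commute y y'⁻¹ := by
    rw [← hj, ← hj']
    exact (Commute.zpow_zpow_self g j j').inv_right
  have hw : x⁻¹ * x' = y * y'⁻¹ := by
    have h1 : x' = x * y * y'⁻¹ := by
      rw [hxy, ← hxy', mul_inv_cancel_right]
    rw [h1]
    group
  have h1 : (x⁻¹ * x') ^ (p ^ (k + k')) = 1 := by
    rw [hcxx'.mul_pow, inv_pow]
    have e1 : x ^ (p ^ (k + k')) = 1 := by
      rw [pow_add, pow_mul, ← hk, pow_orderOf_eq_one, one_pow]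
    have e2 : x' ^ (p ^ (k + k')) = 1 := by
      rw [pow_add, mul_comm, pow_mul, ← hk', pow_orderOf_eq_one, one_pow]
    rw [e1, e2, inv_one, one_mul]
  have h2 : (x⁻¹ * x') ^ (orderOf y * orderOf y') = 1 := by
    rw [hw, hcyy'.mul_pow, inv_pow]
    have e1 : y ^ (orderOf y * orderOf y') = 1 := by
      rw [pow_mul, pow_orderOf_eq_one, one_pow]
    have e2 : y' ^ (orderOf y * orderOf y') = 1 := by
      rw [mul_comm, pow_mul, pow_orderOf_eq_one, one_pow]
    rw [e1, e2, inv_one, one_mul]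
  have h3 := orderOf_dvd_of_pow_eq_one h1
  have h4 := orderOf_dvd_of_pow_eq_one h2
  have hcop2 : Nat.Coprime (p ^ (k + k')) (orderOf y * orderOf y') := by
    apply Nat.Coprime.pow_left
    exact Nat.Coprime.mul_right ((Nat.Prime.coprime_iff_not_dvd hp.1).mpr hy)
      ((Nat.Prime.coprime_iff_not_dvd hp.1).mpr hy')
  have h5 := Nat.eq_one_of_dvd_coprimes hcop2 h3 h4
  have h6 : x⁻¹ * x' = 1 := orderOf_eq_one_iff.mp h5
  exact (inv_mul_eq_one.mp h6)

/-- the block part of a class function, as a convolution with the block idempotent -/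
theorem blockPart_eq_sum_translate [Fintype G] (b : Set (Cfsg.IrrCharacter G)) (ϑ : G → ℂ)
    (hϑ : Cfsg.IsClassFunction G ϑ) (y : G) :
    Cfsg.blockPart b ϑ y = ∑ k : G, Cfsg.blockCoeff b k * ϑ (k * y) := by
  classical
  haveI : Finite (Cfsg.IrrCharacter G) := irr_finite
  haveI : Fintype (Cfsg.IrrCharacter G) := Fintype.ofFinite _
  rw [blockPart_apply, finsum_mem_eq_sum_ite]
  have hexp := classFunction_expansion ϑ hϑ
  have h1 : ∀ k : G, ϑ (k * y) =
      ∑ ψ : Cfsg.IrrCharacter G, Cfsg.classInner ϑ (ψ : G → ℂ) * (ψ : G → ℂ) (k * y) := by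
    intro k
    conv_lhs => rw [hexp]
    rw [Finset.sum_apply]
    rfl
  simp_rw [h1, Finset.mul_sum]
  rw [Finset.sum_comm]
  apply Finset.sum_congr rfl
  intro ψ _
  have hψ1 : (ψ : G → ℂ) 1 ≠ 0 := IsIrrCharacter.apply_one_ne_zero ψ.2
  have h2 : ∑ k : G, Cfsg.blockCoeff b k * (Cfsg.classInner ϑ (ψ : G → ℂ) * (ψ : G → ℂ) (k * y)) =
      Cfsg.classInner ϑ (ψ : G → ℂ) * ∑ k : G, Cfsg.blockCoeff b k * (ψ : G → ℂ) (k * y) := by
    rw [Finset.mul_sum]
    apply Finset.sum_congr rfl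
    intro k _
    ring
  rw [h2, sum_classFunction_char_translate ψ _ (blockCoeff_isClassFunction b) y,
    sum_blockCoeff_mul b ψ]
  by_cases hψ : ψ ∈ b
  · rw [if_pos hψ, if_pos hψ, div_self hψ1, one_mul]
  · rw [if_neg hψ, if_neg hψ, zero_div, zero_mul, mul_zero]

/-- the induced block is defined for subgroups between `P C_G(P)` and `N_G(P)` -/
theorem inducedBlockDefined_of_local [Finite G] {p : ℕ} [hp : Fact p.Prime]
    (hM : Cfsg.IsPModular p M) (P H : Subgroup G) (hP : IsPGroup p P) (hPH : P ≤ H)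
    (hCH : Subgroup.centralizer (P : Set G) ≤ H) (hHN : H ≤ Subgroup.normalizer (P : Set G))
    (b : Set (Cfsg.IrrCharacter H)) (hb : Cfsg.IsPBlock M b) : Cfsg.InducedBlockDefined M H b := by
  classical
  obtain ⟨ξ₀, rfl⟩ := hb
  obtain ⟨χ₀, hχ₀⟩ := exists_irr_brauerCentralChar hM P H hP hCH hHN ξ₀
  refine ⟨Cfsg.blockOf M (χ₀ : G → ℂ), ⟨ξ₀, rfl⟩, ⟨χ₀, rfl⟩, fun ξ hξ χ hχ g => ?_⟩
  have h1 := inducedCentralChar_sub_of_sameBlock hM.2.1 H ξ₀ ξ hξ g
  have h2 := inducedCentralChar_sub_brauerCentralChar hM P H hP hPH hHN ξ₀ g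
  have h3 := hχ₀ g
  have h4 := hχ g
  have := MemLocalIdeal.add hM.2.1 (MemLocalIdeal.add hM.2.1
    (MemLocalIdeal.sub hM.2.1 h2 h1) h3) h4
  convert this using 1
  ring

/-- the induced block is defined for blocks of the centralizer of a `p`-element -/
theorem inducedBlockDefined_centralizer [Finite G] {p : ℕ} [hp : Fact p.Prime]
    (hM : Cfsg.IsPModular p M) (x : G) (hx : ∃ k : ℕ, orderOf x = p ^ k)
    (b : Set (Cfsg.IrrCharacter (Subgroup.centralizer ({x} : Set G)))) (hb : Cfsg.IsPBlock M b) :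
    Cfsg.InducedBlockDefined M (Subgroup.centralizer ({x} : Set G)) b := by
  obtain ⟨k, hk⟩ := hx
  have hP : IsPGroup p (Subgroup.zpowers x) := by
    apply IsPGroup.of_card (n := k)
    rw [Nat.card_zpowers, hk]
  have hxC : x ∈ Subgroup.centralizer ({x} : Set G) := by
    rw [Subgroup.mem_centralizer_singleton_iff]
  have hPH : Subgroup.zpowers x ≤ Subgroup.centralizer ({x} : Set G) :=
    Subgroup.zpowers_le.mpr hxC
  have hCH : Subgroup.centralizer ((Subgroup.zpowers x : Subgroup G) : Set G) ≤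
      Subgroup.centralizer ({x} : Set G) := by
    apply Subgroup.centralizer_le
    intro t ht
    rw [Set.mem_singleton_iff] at ht
    rw [ht]
    exact Subgroup.mem_zpowers x
  have hHN : Subgroup.centralizer ({x} : Set G) ≤
      Subgroup.normalizer ((Subgroup.zpowers x : Subgroup G) : Set G) := by
    intro g hg
    rw [Subgroup.mem_centralizer_singleton_iff] at hg
    rw [Subgroup.mem_normalizer_iff]
    intro n
    have hfix : ∀ m : G, m ∈ Subgroup.zpowers x → g * m * g⁻¹ = m := by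
      intro m hm
      obtain ⟨i, rfl⟩ := Subgroup.mem_zpowers_iff.mp hm
      have hc : Commute g x := hg
      have := (hc.zpow_right i).eq
      rw [this, mul_inv_cancel_right]
    constructor
    · intro hn
      rw [hfix n hn]
      exact hn
    · intro hn
      have h1 := hfix _ hn
      have h2 : g * n * g⁻¹ = n := by
        have h3 : g⁻¹ * (g * (g * n * g⁻¹) * g⁻¹) * g = g⁻¹ * (g * n * g⁻¹) * g := by rw [h1]
        convert h3 using 1 <;> group
      rw [← h2]
      exact hn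
  exact inducedBlockDefined_of_local hM (Subgroup.zpowers x) _ hP hPH hCH hHN b hb

/-- **Brauer's second main theorem** -/
theorem second_main [Finite G] {p : ℕ} [hp : Fact p.Prime] (hM : Cfsg.IsPModular p M) (x : G)
    (hx : ∃ k : ℕ, orderOf x = p ^ k) (B : Set (Cfsg.IrrCharacter G)) (hB : Cfsg.IsPBlock M B)
    (χ : Cfsg.IrrCharacter G) (hχ : χ ∈ B)
    (b : Set (Cfsg.IrrCharacter (Subgroup.centralizer ({x} : Set G)))) (hb : Cfsg.IsPBlock M b)
    (hnot : ¬ Cfsg.IsInducedBlock M (Subgroup.centralizer ({x} : Set G)) b B)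
    (y : Subgroup.centralizer ({x} : Set G)) (hy : ¬ p ∣ orderOf y) :
    Cfsg.blockPart b (fun c : Subgroup.centralizer ({x} : Set G) => (χ : G → ℂ) (x * (c : G))) y
      = 0 := by
  classical
  haveI := Fintype.ofFinite G
  haveI : Fintype (Subgroup.centralizer ({x} : Set G)) := Fintype.ofFinite _
  obtain ⟨B₀, hind⟩ := inducedBlockDefined_centralizer hM x hx b hb
  have hne : B₀ ≠ B := by rintro rfl; exact hnot hind
  have hχB₀ : χ ∉ B₀ := by
    intro hmem
    apply hne
    rw [eq_blockOf_of_mem hM.2.1 B₀ hind.2.1 χ hmem, eq_blockOf_of_mem hM.2.1 B hB χ hχ]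
  have hχcf : Cfsg.IsClassFunction G (χ : G → ℂ) :=
    IsCharacter.isClassFunction (IsIrrCharacter.isCharacter χ.2)
  have hcomm : ∀ c : Subgroup.centralizer ({x} : Set G), (c : G) * x = x * (c : G) := by
    intro c
    have := c.2
    rw [Subgroup.mem_centralizer_singleton_iff] at this
    exact this
  have hϑ : Cfsg.IsClassFunction (Subgroup.centralizer ({x} : Set G))
      (fun c : Subgroup.centralizer ({x} : Set G) => (χ : G → ℂ) (x * (c : G))) := by
    intro c c'
    simp only [Subgroup.coe_mul, Subgroup.coe_inv]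
    have h1 : x * ((c' : G) * (c : G) * (c' : G)⁻¹) = (c' : G) * (x * (c : G)) * (c' : G)⁻¹ := by
      rw [← mul_assoc, ← mul_assoc, ← hcomm c']
      simp only [mul_assoc]
    rw [h1, hχcf]
  rw [blockPart_eq_sum_translate b _ hϑ y]
  have hxC : x ∈ Subgroup.centralizer ({x} : Set G) := by
    rw [Subgroup.mem_centralizer_singleton_iff]
  obtain ⟨h, hhdef⟩ : ∃ h : Subgroup.centralizer ({x} : Set G), h = ⟨x, hxC⟩ * y := ⟨_, rfl⟩
  have hhG : (h : G) = x * (y : G) := by rw [hhdef]; rfl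
  have hpp : Cfsg.IsPPart p (h : G) x := by
    refine ⟨(y : G), hhG.symm, (hcomm y).symm, hx, ?_⟩
    rwa [Subgroup.orderOf_coe]
  have hC : ∀ z : G, Cfsg.IsPPart p (h : G) z →
      Subgroup.centralizer ({z} : Set G) ≤ Subgroup.centralizer ({x} : Set G) := by
    intro z hz
    rw [isPPart_unique p hz hpp]
  have key := second_main_key hM (Subgroup.centralizer ({x} : Set G)) b B₀ hind h hC χ hχB₀
  refine Eq.trans ?_ key
  apply Finset.sum_congr rfl
  intro k _
  congr 2
  simp only [Subgroup.coe_mul]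
  rw [hhG, ← mul_assoc, ← mul_assoc, hcomm k]

end Cfsg.Agent.Helper6
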