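import Mathlib
import Cfsg.Prelude.Def_Characters
import Cfsg.Prelude.Def_Blocks
import Cfsg.Agent.Helper6.SecondMainC
import Cfsg.Agent.Helper6.MaximalPairDefect
import Cfsg.Agent.Helper6.InducedDefect
import Cfsg.Agent.Helper6.PCoreChar
import Cfsg.Agent.Helper6.BlockFusionRec1

/-!
# Second main theorem, part D: sums over unions of blocks; vanishing off the defect groups
-/

set_option autoImplicit false
set_option linter.style.haveILetI false

namespace Cfsg.Agent.Helper6

open Module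
open scoped ComplexConjugate

universe u

variable {G : Type u} [Group G] {M : Ideal Cfsg.AlgInt}

open Classical in
/-- sums over block-closed sets vanish when each block sum does -/
theorem sum_eq_zero_of_block_sums [Fintype (Cfsg.IrrCharacter G)] (hM : M.IsMaximal)
    (F : Cfsg.IrrCharacter G → ℂ) (S : Finset (Cfsg.IrrCharacter G))
    (hclosed : ∀ ψ ∈ S, ∀ ψ' ∈ Cfsg.blockOf M (ψ : G → ℂ), ψ' ∈ S)
    (hzero : ∀ ψ ∈ S, ∑ ψ' : Cfsg.IrrCharacter G,
      (if ψ' ∈ Cfsg.blockOf M (ψ : G → ℂ) then F ψ' else 0) = 0) :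
    ∑ ψ ∈ S, F ψ = 0 := by
  classical
  induction S using Finset.strongInduction with
  | H S ih =>
    by_cases hS : S = ∅
    · rw [hS, Finset.sum_empty]
    obtain ⟨ψ₀, hψ₀⟩ := Finset.nonempty_iff_ne_empty.mpr hS
    have hT : S.filter (fun ψ => ψ ∉ Cfsg.blockOf M (ψ₀ : G → ℂ)) ⊂ S :=
      Finset.filter_ssubset.mpr ⟨ψ₀, hψ₀, not_not.mpr (mem_blockOf_self hM ψ₀)⟩
    rw [← Finset.sum_filter_add_sum_filter_not S (fun ψ => ψ ∈ Cfsg.blockOf M (ψ₀ : G → ℂ))]
    have h1 : ∑ ψ ∈ S.filter (fun ψ => ψ ∈ Cfsg.blockOf M (ψ₀ : G → ℂ)), F ψ = 0 := by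
      rw [Finset.sum_filter]
      refine Eq.trans ?_ (hzero ψ₀ hψ₀)
      apply Finset.sum_subset (Finset.subset_univ S)
      intro ψ _ hψ
      rw [if_neg]
      intro hmem
      exact hψ (hclosed ψ₀ hψ₀ ψ hmem)
    have h2 : ∑ ψ ∈ S.filter (fun ψ => ψ ∉ Cfsg.blockOf M (ψ₀ : G → ℂ)), F ψ = 0 := by
      apply ih _ hT
      · intro ψ hψ ψ' hψ'
        rw [Finset.mem_filter] at hψ ⊢
        refine ⟨hclosed ψ hψ.1 ψ' hψ', ?_⟩
        intro hmem
        apply hψ.2
        exact sameBlock_trans hM hmem (sameBlock_symm hψ')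
      · intro ψ hψ
        rw [Finset.mem_filter] at hψ
        exact hzero ψ hψ.1
    rw [h1, h2, add_zero]

/-- **second main theorem, summed over the blocks inducing a given block** -/
theorem second_main_sum [Fintype G] {p : ℕ} [hp : Fact p.Prime] (hM : Cfsg.IsPModular p M)
    (x : G) [Fintype (Subgroup.centralizer ({x} : Set G))]
    (hx : ∃ k : ℕ, orderOf x = p ^ k) (B : Set (Cfsg.IrrCharacter G)) (hB : Cfsg.IsPBlock M B)
    (χ : Cfsg.IrrCharacter G) (y : Subgroup.centralizer ({x} : Set G)) (hy : ¬ p ∣ orderOf y)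
    [Decidable (χ ∈ B)] :
    ∑ᶠ ψ ∈ {ψ : Cfsg.IrrCharacter (Subgroup.centralizer ({x} : Set G)) |
        Cfsg.IsInducedBlock M (Subgroup.centralizer ({x} : Set G))
          (Cfsg.blockOf M (ψ : Subgroup.centralizer ({x} : Set G) → ℂ)) B},
      Cfsg.classInner (fun c : Subgroup.centralizer ({x} : Set G) => (χ : G → ℂ) (x * (c : G)))
        (ψ : Subgroup.centralizer ({x} : Set G) → ℂ) *
        (ψ : Subgroup.centralizer ({x} : Set G) → ℂ) y =
      if χ ∈ B then (χ : G → ℂ) (x * (y : G)) else 0 := by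
  classical
  haveI : Finite (Cfsg.IrrCharacter (Subgroup.centralizer ({x} : Set G))) := irr_finite
  haveI : Fintype (Cfsg.IrrCharacter (Subgroup.centralizer ({x} : Set G))) := Fintype.ofFinite _
  have hMm := hM.2.1
  obtain ⟨ϑ, hϑdef⟩ : ∃ ϑ : Subgroup.centralizer ({x} : Set G) → ℂ,
    ϑ = fun c : Subgroup.centralizer ({x} : Set G) => (χ : G → ℂ) (x * (c : G)) := ⟨_, rfl⟩
  rw [← hϑdef]
  obtain ⟨F, hFdef⟩ : ∃ F : Cfsg.IrrCharacter (Subgroup.centralizer ({x} : Set G)) → ℂ,
    F = fun ψ : Cfsg.IrrCharacter (Subgroup.centralizer ({x} : Set G)) =>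
      Cfsg.classInner ϑ (ψ : Subgroup.centralizer ({x} : Set G) → ℂ) *
      (ψ : Subgroup.centralizer ({x} : Set G) → ℂ) y := ⟨_, rfl⟩
  have hFapp : ∀ ψ, F ψ = Cfsg.classInner ϑ (ψ : Subgroup.centralizer ({x} : Set G) → ℂ) *
      (ψ : Subgroup.centralizer ({x} : Set G) → ℂ) y := by
    intro ψ; rw [hFdef]
  simp_rw [← hFapp]
  have hχcf : Cfsg.IsClassFunction G (χ : G → ℂ) :=
    IsCharacter.isClassFunction (IsIrrCharacter.isCharacter χ.2)
  have hcomm : ∀ c : Subgroup.centralizer ({x} : Set G), (c : G) * x = x * (c : G) := by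
    intro c
    have := c.2
    rw [Subgroup.mem_centralizer_singleton_iff] at this
    exact this
  have hϑ : Cfsg.IsClassFunction (Subgroup.centralizer ({x} : Set G)) ϑ := by
    rw [hϑdef]
    intro c c'
    simp only [Subgroup.coe_mul, Subgroup.coe_inv]
    have h1 : x * ((c' : G) * (c : G) * (c' : G)⁻¹) = (c' : G) * (x * (c : G)) * (c' : G)⁻¹ := by
      rw [← mul_assoc, ← mul_assoc, ← hcomm c']
      simp only [mul_assoc]
    rw [h1, hχcf]
  -- single blocks not inducing the block of `χ`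
  have hblock : ∀ ψ₀ : Cfsg.IrrCharacter (Subgroup.centralizer ({x} : Set G)),
      ¬ Cfsg.IsInducedBlock M (Subgroup.centralizer ({x} : Set G))
        (Cfsg.blockOf M (ψ₀ : Subgroup.centralizer ({x} : Set G) → ℂ))
        (Cfsg.blockOf M (χ : G → ℂ)) →
      ∑ ψ' : Cfsg.IrrCharacter (Subgroup.centralizer ({x} : Set G)),
        (if ψ' ∈ Cfsg.blockOf M (ψ₀ : Subgroup.centralizer ({x} : Set G) → ℂ) then F ψ' else 0)
          = 0 := by
    intro ψ₀ hnot
    have h1 := second_main hM x hx (Cfsg.blockOf M (χ : G → ℂ)) ⟨χ, rfl⟩ χ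
      (mem_blockOf_self hMm χ) _ ⟨ψ₀, rfl⟩ hnot y hy
    rw [← hϑdef, blockPart_apply, finsum_mem_eq_sum_ite] at h1
    simp_rw [hFapp]
    exact h1
  have hclosed_iff : ∀ ψ ψ' : Cfsg.IrrCharacter (Subgroup.centralizer ({x} : Set G)),
      ψ' ∈ Cfsg.blockOf M (ψ : Subgroup.centralizer ({x} : Set G) → ℂ) →
      Cfsg.blockOf M (ψ' : Subgroup.centralizer ({x} : Set G) → ℂ) =
        Cfsg.blockOf M (ψ : Subgroup.centralizer ({x} : Set G) → ℂ) := by
    intro ψ ψ' h
    exact (blockOf_eq_of_sameBlock hMm h).symm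
  rw [finsum_mem_eq_sum_ite]
  by_cases hχB : χ ∈ B
  · rw [if_pos hχB]
    have hBeq : B = Cfsg.blockOf M (χ : G → ℂ) := eq_blockOf_of_mem hMm B hB χ hχB
    -- the complement sums to zero
    have h0 := sum_eq_zero_of_block_sums hMm F
      (Finset.univ.filter (fun ψ : Cfsg.IrrCharacter (Subgroup.centralizer ({x} : Set G)) =>
        ¬ Cfsg.IsInducedBlock M (Subgroup.centralizer ({x} : Set G))
          (Cfsg.blockOf M (ψ : Subgroup.centralizer ({x} : Set G) → ℂ)) B)) ?_ ?_
    · have hexp := classFunction_expansion ϑ hϑ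
      have h1 : ϑ y = ∑ ψ : Cfsg.IrrCharacter (Subgroup.centralizer ({x} : Set G)), F ψ := by
        conv_lhs => rw [hexp]
        rw [Finset.sum_apply]
        apply Finset.sum_congr rfl
        intro ψ _
        rw [hFapp]
        rfl
      have h2 : (χ : G → ℂ) (x * (y : G)) = ϑ y := by rw [hϑdef]
      have h3 := (Finset.sum_filter_add_sum_filter_not Finset.univ
        (fun ψ : Cfsg.IrrCharacter (Subgroup.centralizer ({x} : Set G)) =>
          Cfsg.IsInducedBlock M (Subgroup.centralizer ({x} : Set G))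
            (Cfsg.blockOf M (ψ : Subgroup.centralizer ({x} : Set G) → ℂ)) B) F).symm
      rw [h2, h1, h3, h0, add_zero, Finset.sum_filter]
      rfl
    · intro ψ hψ ψ' hψ'
      rw [Finset.mem_filter] at hψ ⊢
      refine ⟨Finset.mem_univ _, ?_⟩
      rw [hclosed_iff ψ ψ' hψ']
      exact hψ.2
    · intro ψ hψ
      rw [Finset.mem_filter] at hψ
      apply hblock
      rw [← hBeq]
      exact hψ.2
  · rw [if_neg hχB]
    have h0 := sum_eq_zero_of_block_sums hMm F
      (Finset.univ.filter (fun ψ : Cfsg.IrrCharacter (Subgroup.centralizer ({x} : Set G)) =>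
        Cfsg.IsInducedBlock M (Subgroup.centralizer ({x} : Set G))
          (Cfsg.blockOf M (ψ : Subgroup.centralizer ({x} : Set G) → ℂ)) B)) ?_ ?_
    · rw [Finset.sum_filter] at h0
      exact h0
    · intro ψ hψ ψ' hψ'
      rw [Finset.mem_filter] at hψ ⊢
      refine ⟨Finset.mem_univ _, ?_⟩
      rw [hclosed_iff ψ ψ' hψ']
      exact hψ.2
    · intro ψ hψ
      rw [Finset.mem_filter] at hψ
      apply hblock
      intro hind'
      have := isInducedBlock_unique hMm _ _ _ _ hψ.2 hind'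
      apply hχB
      rw [this]
      exact mem_blockOf_self hMm χ

/-- a central `p`-element lies in every defect group -/
theorem central_pElement_mem_defectGroup [Finite G] {p : ℕ} [hp : Fact p.Prime]
    (hM : Cfsg.IsPModular p M) (x : G) (hxc : ∀ g : G, g * x = x * g)
    (hx : ∃ k : ℕ, orderOf x = p ^ k)
    (B : Set (Cfsg.IrrCharacter G)) (hB : Cfsg.IsPBlock M B) (D : Subgroup G)
    (hD : Cfsg.IsDefectGroup p M B D) : x ∈ D := by
  obtain ⟨k, hk⟩ := hx
  have hP : IsPGroup p (Subgroup.zpowers x) := by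
    apply IsPGroup.of_card (n := k)
    rw [Nat.card_zpowers, hk]
  haveI : (Subgroup.zpowers x).Normal := by
    constructor
    intro n hn g
    obtain ⟨i, rfl⟩ := Subgroup.mem_zpowers_iff.mp hn
    have hc : Commute g x := hxc g
    rw [(hc.zpow_right i).eq, mul_inv_cancel_right]
    exact Subgroup.zpow_mem_zpowers x i
  exact normal_pSubgroup_le_defectGroup hM _ hP B hB D hD (Subgroup.mem_zpowers x)

/-- **vanishing off the defect groups**: if the `p`-part of `g` lies in no defect group of the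
block of `χ`, then `χ g = 0` -/
theorem char_vanish_off_defect [Finite G] {p : ℕ} [hp : Fact p.Prime]
    (hM : Cfsg.IsPModular p M) (χ : Cfsg.IrrCharacter G) (g x : G) (hx : Cfsg.IsPPart p g x)
    (hD : ∀ D : Subgroup G, Cfsg.IsDefectGroup p M (Cfsg.blockOf M (χ : G → ℂ)) D → x ∉ D) :
    (χ : G → ℂ) g = 0 := by
  classical
  haveI := Fintype.ofFinite G
  haveI : Fintype (Subgroup.centralizer ({x} : Set G)) := Fintype.ofFinite _
  have hMm := hM.2.1
  obtain ⟨y', hxy, hc, hxord, hy'⟩ := hx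
  have hy'C : y' ∈ Subgroup.centralizer ({x} : Set G) := by
    rw [Subgroup.mem_centralizer_singleton_iff]
    exact hc.eq.symm
  have hyord : ¬ p ∣ orderOf (⟨y', hy'C⟩ : Subgroup.centralizer ({x} : Set G)) := by
    rw [← Subgroup.orderOf_coe]
    exact hy'
  have key := second_main_sum hM x hxord (Cfsg.blockOf M (χ : G → ℂ)) ⟨χ, rfl⟩ χ ⟨y', hy'C⟩ hyord
  rw [if_pos (mem_blockOf_self hMm χ)] at key
  simp only at key
  rw [hxy] at key
  rw [← key]
  apply finsum_mem_eq_zero_of_forall_eq_zero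
  intro ψ hψ
  exfalso
  -- a block of the centralizer inducing the block of `χ`
  have hind : Cfsg.IsInducedBlock M (Subgroup.centralizer ({x} : Set G))
      (Cfsg.blockOf M (ψ : Subgroup.centralizer ({x} : Set G) → ℂ))
      (Cfsg.blockOf M (χ : G → ℂ)) := hψ
  obtain ⟨D, hDb⟩ := exists_isDefectGroup hMm p
    (Cfsg.blockOf M (ψ : Subgroup.centralizer ({x} : Set G) → ℂ)) ⟨ψ, rfl⟩
  obtain ⟨E, hE, hDE⟩ := exists_defectGroup_ge_of_induced hM _ _ _ hind D hDb
  have hxC : x ∈ Subgroup.centralizer ({x} : Set G) := by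
    rw [Subgroup.mem_centralizer_singleton_iff]
  have hxD : (⟨x, hxC⟩ : Subgroup.centralizer ({x} : Set G)) ∈ D := by
    apply central_pElement_mem_defectGroup hM _ _ _ _ ⟨ψ, rfl⟩ D hDb
    · intro c
      apply Subtype.ext
      have := c.2
      rw [Subgroup.mem_centralizer_singleton_iff] at this
      exact this
    · obtain ⟨k, hk⟩ := hxord
      refine ⟨k, ?_⟩
      rw [← hk, ← Subgroup.orderOf_coe]
  apply hD E hE
  apply hDE
  rw [Subgroup.mem_map]
  exact ⟨⟨x, hxC⟩, hxD, rfl⟩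

end Cfsg.Agent.Helper6
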