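import Mathlib
import Cfsg.Prelude.Def_Characters
import Cfsg.Prelude.Def_Blocks
import Cfsg.Agent.Helper6.SecondMainD
import Cfsg.Agent.Helper6.WeakOrth
import Cfsg.Agent.Helper6.ColumnOrth

/-!
# Second main theorem, part E: block parts on `p`-sections, block orthogonality
-/

set_option autoImplicit false
set_option linter.style.haveILetI false

namespace Cfsg.Agent.Helper6

open Module
open scoped ComplexConjugate

universe u

variable {G : Type u} [Group G] {M : Ideal Cfsg.AlgInt}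

open Classical in
/-- the block parts of a function vanishing on the `p`-regular elements vanish on the
`p`-regular elements -/
theorem blockPart_vanish_regular [Fintype G] [Fintype (Cfsg.IrrCharacter G)] (hM : M.IsMaximal)
    (p : ℕ) [hp : Fact p.Prime] (hpM : (p : Cfsg.AlgInt) ∈ M) (b : Set (Cfsg.IrrCharacter G))
    (hb : Cfsg.IsPBlock M b) (φ : G → ℂ) (hφ : ∀ c : G, ¬ p ∣ orderOf c → φ c = 0) (y : G)
    (hy : ¬ p ∣ orderOf y) :
    ∑ ψ : Cfsg.IrrCharacter G,
      (if ψ ∈ b then Cfsg.classInner φ (ψ : G → ℂ) * (ψ : G → ℂ) y else 0) = 0 := by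
  have h1 : ∀ ψ : Cfsg.IrrCharacter G,
      (if ψ ∈ b then Cfsg.classInner φ (ψ : G → ℂ) * (ψ : G → ℂ) y else 0) =
      ∑ c : G, (Nat.card G : ℂ)⁻¹ * φ c *
        (if ψ ∈ b then (ψ : G → ℂ) y * conj ((ψ : G → ℂ) c) else 0) := by
    intro ψ
    by_cases hψ : ψ ∈ b
    · simp only [if_pos hψ]
      rw [classInner_def, Finset.mul_sum, Finset.sum_mul]
      apply Finset.sum_congr rfl
      intro c _
      ring
    · simp only [if_neg hψ, mul_zero, Finset.sum_const_zero]
  simp_rw [h1]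
  rw [Finset.sum_comm]
  apply Finset.sum_eq_zero
  intro c _
  rw [← Finset.mul_sum]
  by_cases hc : p ∣ orderOf c
  · have h2 := weak_block_orthogonality hM p hpM b hb y c hy hc
    rw [finsum_mem_eq_sum_ite] at h2
    rw [h2, mul_zero]
  · rw [hφ c hc, mul_zero, zero_mul]

/-- local form of the vanishing of block parts on a `p`-section -/
theorem blockPart_section_local [Fintype G] {p : ℕ} [hp : Fact p.Prime]
    (hM : Cfsg.IsPModular p M) (ϑ : G → ℂ) (hϑ : Cfsg.IsClassFunction G ϑ) (x : G)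
    [Fintype (Subgroup.centralizer ({x} : Set G))] (hx : ∃ k : ℕ, orderOf x = p ^ k)
    (hvan : ∀ c : Subgroup.centralizer ({x} : Set G), ¬ p ∣ orderOf c → ϑ (x * (c : G)) = 0)
    (B : Set (Cfsg.IrrCharacter G)) (hB : Cfsg.IsPBlock M B)
    (y : Subgroup.centralizer ({x} : Set G)) (hy : ¬ p ∣ orderOf y) :
    Cfsg.blockPart B ϑ (x * (y : G)) = 0 := by
  classical
  haveI : Finite (Cfsg.IrrCharacter G) := irr_finite
  haveI : Fintype (Cfsg.IrrCharacter G) := Fintype.ofFinite _
  haveI : Finite (Cfsg.IrrCharacter (Subgroup.centralizer ({x} : Set G))) := irr_finite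
  haveI : Fintype (Cfsg.IrrCharacter (Subgroup.centralizer ({x} : Set G))) := Fintype.ofFinite _
  have hMm := hM.2.1
  rw [blockPart_apply, finsum_mem_eq_sum_ite]
  -- rewrite each term with the second main theorem
  have h1 : ∀ χ : Cfsg.IrrCharacter G,
      (if χ ∈ B then Cfsg.classInner ϑ (χ : G → ℂ) * (χ : G → ℂ) (x * (y : G)) else 0) =
      ∑ ψ : Cfsg.IrrCharacter (Subgroup.centralizer ({x} : Set G)),
        (if Cfsg.IsInducedBlock M (Subgroup.centralizer ({x} : Set G))
            (Cfsg.blockOf M (ψ : Subgroup.centralizer ({x} : Set G) → ℂ)) B then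
          Cfsg.classInner ϑ (χ : G → ℂ) *
            Cfsg.classInner (fun c : Subgroup.centralizer ({x} : Set G) =>
              (χ : G → ℂ) (x * (c : G))) (ψ : Subgroup.centralizer ({x} : Set G) → ℂ) *
            (ψ : Subgroup.centralizer ({x} : Set G) → ℂ) y else 0) := by
    intro χ
    have h2 := second_main_sum hM x hx B hB χ y hy
    rw [finsum_mem_eq_sum_ite] at h2
    have h3 : (if χ ∈ B then Cfsg.classInner ϑ (χ : G → ℂ) * (χ : G → ℂ) (x * (y : G)) else 0) =
        Cfsg.classInner ϑ (χ : G → ℂ) * (if χ ∈ B then (χ : G → ℂ) (x * (y : G)) else 0) := by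
      split_ifs
      · rfl
      · rw [mul_zero]
    rw [h3, ← h2, Finset.mul_sum]
    apply Finset.sum_congr rfl
    intro ψ _
    by_cases hψ : Cfsg.IsInducedBlock M (Subgroup.centralizer ({x} : Set G))
        (Cfsg.blockOf M (ψ : Subgroup.centralizer ({x} : Set G) → ℂ)) B
    · rw [if_pos hψ, if_pos (show ψ ∈ {ψ : Cfsg.IrrCharacter (Subgroup.centralizer ({x} : Set G)) |
        Cfsg.IsInducedBlock M (Subgroup.centralizer ({x} : Set G))
          (Cfsg.blockOf M (ψ : Subgroup.centralizer ({x} : Set G) → ℂ)) B} from hψ), mul_assoc]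
    · rw [if_neg hψ, if_neg (show ψ ∉ {ψ : Cfsg.IrrCharacter (Subgroup.centralizer ({x} : Set G)) |
        Cfsg.IsInducedBlock M (Subgroup.centralizer ({x} : Set G))
          (Cfsg.blockOf M (ψ : Subgroup.centralizer ({x} : Set G) → ℂ)) B} from hψ), mul_zero]
  simp_rw [h1]
  rw [Finset.sum_comm]
  -- the translated function
  obtain ⟨ϑx, hϑxdef⟩ : ∃ ϑx : Subgroup.centralizer ({x} : Set G) → ℂ,
    ϑx = fun c : Subgroup.centralizer ({x} : Set G) => ϑ (x * (c : G)) := ⟨_, rfl⟩
  have hexp := classFunction_expansion ϑ hϑ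
  have hϑx : ϑx = ∑ χ : Cfsg.IrrCharacter G, Cfsg.classInner ϑ (χ : G → ℂ) •
      (fun c : Subgroup.centralizer ({x} : Set G) => (χ : G → ℂ) (x * (c : G))) := by
    rw [hϑxdef]
    funext c
    conv_lhs => rw [hexp]
    rw [Finset.sum_apply, Finset.sum_apply]
    rfl
  have h4 : ∀ ψ : Cfsg.IrrCharacter (Subgroup.centralizer ({x} : Set G)),
      ∑ χ : Cfsg.IrrCharacter G,
        (if Cfsg.IsInducedBlock M (Subgroup.centralizer ({x} : Set G))
            (Cfsg.blockOf M (ψ : Subgroup.centralizer ({x} : Set G) → ℂ)) B then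
          Cfsg.classInner ϑ (χ : G → ℂ) *
            Cfsg.classInner (fun c : Subgroup.centralizer ({x} : Set G) =>
              (χ : G → ℂ) (x * (c : G))) (ψ : Subgroup.centralizer ({x} : Set G) → ℂ) *
            (ψ : Subgroup.centralizer ({x} : Set G) → ℂ) y else 0) =
      if Cfsg.IsInducedBlock M (Subgroup.centralizer ({x} : Set G))
            (Cfsg.blockOf M (ψ : Subgroup.centralizer ({x} : Set G) → ℂ)) B then
        Cfsg.classInner ϑx (ψ : Subgroup.centralizer ({x} : Set G) → ℂ) *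
          (ψ : Subgroup.centralizer ({x} : Set G) → ℂ) y else 0 := by
    intro ψ
    split_ifs with hψ
    · rw [hϑx, classInner_sum_left, Finset.sum_mul]
      apply Finset.sum_congr rfl
      intro χ _
      rw [classInner_smul_left]
    · exact Finset.sum_const_zero
  simp_rw [h4]
  rw [← Finset.sum_filter]
  apply sum_eq_zero_of_block_sums hMm
  · intro ψ hψ ψ' hψ'
    rw [Finset.mem_filter] at hψ ⊢
    refine ⟨Finset.mem_univ _, ?_⟩
    rw [← blockOf_eq_of_sameBlock hMm hψ']
    exact hψ.2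
  · intro ψ _
    apply blockPart_vanish_regular hMm p hM.2.2 _ ⟨ψ, rfl⟩ ϑx _ y hy
    intro c hc
    rw [hϑxdef]
    exact hvan c hc

theorem blockPart_isClassFunction [Fintype G] (B : Set (Cfsg.IrrCharacter G)) (ϑ : G → ℂ) :
    Cfsg.IsClassFunction G (Cfsg.blockPart B ϑ) := by
  intro g h
  rw [blockPart_apply, blockPart_apply]
  apply finsum_mem_congr rfl
  intro χ _
  rw [IsCharacter.isClassFunction (IsIrrCharacter.isCharacter χ.2) g h]

/-- conjugates of `p`-parts are `p`-parts of conjugates -/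
theorem IsPPart.conj {p : ℕ} {h y : G} (hy : Cfsg.IsPPart p h y) (t : G) :
    Cfsg.IsPPart p (t * h * t⁻¹) (t * y * t⁻¹) := by
  obtain ⟨w, hyw, hc, ⟨k, hk⟩, hw⟩ := hy
  refine ⟨t * w * t⁻¹, ?_, ?_, ⟨k, ?_⟩, ?_⟩
  · rw [← hyw]
    group
  · unfold Commute SemiconjBy
    have h1 : t * y * t⁻¹ * (t * w * t⁻¹) = t * (y * w) * t⁻¹ := by group
    have h2 : t * w * t⁻¹ * (t * y * t⁻¹) = t * (w * y) * t⁻¹ := by group
    rw [h1, h2, hc.eq]
  · have := MulEquiv.orderOf_eq (MulAut.conj t) y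
    rw [MulAut.conj_apply] at this
    rw [this, hk]
  · have := MulEquiv.orderOf_eq (MulAut.conj t) w
    rw [MulAut.conj_apply] at this
    rw [this]
    exact hw

/-- **block parts on `p`-sections** (S0925 (i)) -/
theorem blockPart_section [Finite G] {p : ℕ} [hp : Fact p.Prime] (hM : Cfsg.IsPModular p M)
    (ϑ : G → ℂ) (hϑ : Cfsg.IsClassFunction G ϑ) (x : G) (hx : ∃ k : ℕ, orderOf x = p ^ k)
    (hvan : ∀ u z : G, Cfsg.IsPPart p u z → IsConj x z → ϑ u = 0)
    (B : Set (Cfsg.IrrCharacter G)) (hB : Cfsg.IsPBlock M B) (u z : G)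
    (hz : Cfsg.IsPPart p u z) (hconj : IsConj x z) : Cfsg.blockPart B ϑ u = 0 := by
  classical
  haveI := Fintype.ofFinite G
  haveI : Fintype (Subgroup.centralizer ({x} : Set G)) := Fintype.ofFinite _
  obtain ⟨t, ht⟩ := isConj_iff.mp hconj
  obtain ⟨w, hzw, hcw, _, hw⟩ := hz
  have hy'C : t⁻¹ * w * t ∈ Subgroup.centralizer ({x} : Set G) := by
    rw [Subgroup.mem_centralizer_singleton_iff]
    have hx' : x = t⁻¹ * z * t := by rw [← ht]; group
    rw [hx']
    have h1 : t⁻¹ * w * t * (t⁻¹ * z * t) = t⁻¹ * (w * z) * t := by group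
    have h2 : t⁻¹ * z * t * (t⁻¹ * w * t) = t⁻¹ * (z * w) * t := by group
    rw [h1, h2, hcw.eq]
  have hu : u = t * (x * (t⁻¹ * w * t)) * t⁻¹ := by
    rw [← hzw, ← ht]
    group
  rw [hu, blockPart_isClassFunction B ϑ]
  have hy : ¬ p ∣ orderOf (⟨t⁻¹ * w * t, hy'C⟩ : Subgroup.centralizer ({x} : Set G)) := by
    rw [← Subgroup.orderOf_coe]
    have := MulEquiv.orderOf_eq (MulAut.conj t⁻¹) w
    rw [MulAut.conj_apply, inv_inv] at this
    simp only
    rw [this]
    exact hw
  have hvan' : ∀ c : Subgroup.centralizer ({x} : Set G), ¬ p ∣ orderOf c →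
      ϑ (x * (c : G)) = 0 := by
    intro c hc
    apply hvan (x * (c : G)) x ?_ (IsConj.refl x)
    refine ⟨(c : G), rfl, ?_, hx, ?_⟩
    · have := c.2
      rw [Subgroup.mem_centralizer_singleton_iff] at this
      exact this.symm
    · rwa [Subgroup.orderOf_coe]
  exact blockPart_section_local hM ϑ hϑ x hx hvan' B hB ⟨t⁻¹ * w * t, hy'C⟩ hy

/-- **block orthogonality** (S0925 (ii)) -/
theorem block_orthogonality [Finite G] {p : ℕ} [hp : Fact p.Prime] (hM : Cfsg.IsPModular p M)
    (g h x y : G) (hx : Cfsg.IsPPart p g x) (hy : Cfsg.IsPPart p h y) (hne : ¬ IsConj x y)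
    (B : Set (Cfsg.IrrCharacter G)) (hB : Cfsg.IsPBlock M B) :
    ∑ᶠ χ ∈ B, (χ : G → ℂ) g * (χ : G → ℂ) h⁻¹ = 0 := by
  classical
  haveI := Fintype.ofFinite G
  haveI : Finite (Cfsg.IrrCharacter G) := irr_finite
  haveI : Fintype (Cfsg.IrrCharacter G) := Fintype.ofFinite _
  have hxord : ∃ k : ℕ, orderOf x = p ^ k := by
    obtain ⟨_, _, _, h1, _⟩ := hx
    exact h1
  have hvan : ∀ u z : G, Cfsg.IsPPart p u z → IsConj x z → classIndicator h u = 0 := by
    intro u z hz hxz
    rw [classIndicator_apply, if_neg]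
    intro hhu
    obtain ⟨t, ht⟩ := isConj_iff.mp hhu
    have h1 := IsPPart.conj hy t
    rw [ht] at h1
    have h2 := isPPart_unique p hz h1
    apply hne
    rw [h2] at hxz
    exact hxz.trans (isConj_iff.mpr ⟨t⁻¹, by group⟩)
  have key := blockPart_section hM (classIndicator h) (classIndicator_isClassFunction h) x hxord
    hvan B hB g x hx (IsConj.refl x)
  rw [blockPart_apply, finsum_mem_eq_sum_ite] at key
  rw [finsum_mem_eq_sum_ite]
  have hc0 : (Nat.card G : ℂ)⁻¹ * (Nat.card {x : G // IsConj h x} : ℂ) ≠ 0 := by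
    apply mul_ne_zero
    · apply inv_ne_zero
      have : 0 < Nat.card G := Nat.card_pos
      exact_mod_cast this.ne'
    · have : 0 < Nat.card {x : G // IsConj h x} := by
        haveI : Nonempty {x : G // IsConj h x} := ⟨⟨h, IsConj.refl h⟩⟩
        exact Nat.card_pos
      exact_mod_cast this.ne'
  have h3 : ∑ χ : Cfsg.IrrCharacter G,
      (if χ ∈ B then Cfsg.classInner (classIndicator h) (χ : G → ℂ) * (χ : G → ℂ) g else 0) =
      ((Nat.card G : ℂ)⁻¹ * (Nat.card {x : G // IsConj h x} : ℂ)) *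
        ∑ χ : Cfsg.IrrCharacter G, (if χ ∈ B then (χ : G → ℂ) g * (χ : G → ℂ) h⁻¹ else 0) := by
    rw [Finset.mul_sum]
    apply Finset.sum_congr rfl
    intro χ _
    split_ifs
    · rw [classInner_classIndicator h _
        (IsCharacter.isClassFunction (IsIrrCharacter.isCharacter χ.2)),
        IsCharacter.inv_eq_conj (IsIrrCharacter.isCharacter χ.2)]
      ring
    · rw [mul_zero]
  rw [h3] at key
  rcases mul_eq_zero.mp key with h4 | h4
  · exact absurd h4 hc0
  · exact h4

end Cfsg.Agent.Helper6
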