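import Mathlib
import Cfsg.Prelude.Def_Characters
import Cfsg.Prelude.Def_Blocks
import Cfsg.Agent.Helper6.SecondMainE
import Cfsg.Agent.Helper6.PPartBasic
import Cfsg.Agent.Helper6.BlockCover4
import Cfsg.Agent.Helper6.IndFun
import Cfsg.Agent.Helper6.InducedPart

/-!
# Block parts of functions induced from a `p`-subgroup (S4722, S4720): basic lemmas
-/

set_option autoImplicit false
set_option linter.style.haveILetI false

namespace Cfsg.Agent.Helper6

open Module
open scoped ComplexConjugate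

universe u

variable {G : Type u} [Group G] {M : Ideal Cfsg.AlgInt}

/-- Brauer's coefficient `a_χ` is the inner product of the induced function with `χ` -/
theorem brauerCoeff_eq_classInner [Fintype G] (P : Subgroup G) [Fintype P] (θ : P → ℂ)
    {χ : G → ℂ} (hχ : Cfsg.IsCharacter G χ) :
    (Nat.card P : ℂ)⁻¹ * ∑ y : P, χ (y : G) * θ y⁻¹ = Cfsg.classInner (Cfsg.indFun P θ) χ := by
  rw [frobenius_reciprocity P θ χ (IsCharacter.isClassFunction hχ), classInner_def]
  congr 1
  apply Fintype.sum_equiv (Equiv.inv P)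
  intro y
  rw [Equiv.inv_apply, Subgroup.coe_inv, IsCharacter.inv_eq_conj hχ, Complex.conj_conj, mul_comm]

/-- a `p`-element is its own `p`-part -/
theorem isPPart_self {p : ℕ} [hp : Fact p.Prime] (u : G) (k : ℕ) (hk : orderOf u = p ^ k) :
    Cfsg.IsPPart p u u := by
  refine ⟨1, mul_one u, Commute.one_right u, ⟨k, hk⟩, ?_⟩
  rw [orderOf_one]
  exact hp.out.one_lt.ne' ∘ Nat.dvd_one.mp

/-- the inverse of the `p`-part is the `p`-part of the inverse -/
theorem IsPPart.inv {p : ℕ} {g z : G} (hz : Cfsg.IsPPart p g z) : Cfsg.IsPPart p g⁻¹ z⁻¹ := by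
  obtain ⟨w, hzw, hc, ⟨k, hk⟩, hw⟩ := hz
  refine ⟨w⁻¹, ?_, hc.inv_inv, ⟨k, by rw [orderOf_inv, hk]⟩, by rw [orderOf_inv]; exact hw⟩
  rw [← hzw, mul_inv_rev, hc.inv_inv.eq]

/-- the block parts of a function induced from a `p`-subgroup, supported on `U`, vanish on the
`p`-sections of the `p`-elements with no conjugate in `U` -/
theorem blockPart_indFun_eq_zero [Fintype G] {p : ℕ} [hp : Fact p.Prime]
    (hM : Cfsg.IsPModular p M) (P : Subgroup G) (hP : IsPGroup p P) (U : Set G) (θ : P → ℂ)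
    (hθU : ∀ y : P, (y : G) ∉ U → θ y = 0) (B : Set (Cfsg.IrrCharacter G))
    (hB : Cfsg.IsPBlock M B) (g z : G) (hz : Cfsg.IsPPart p g z)
    (hzU : ∀ h : G, h * z * h⁻¹ ∉ U) :
    Cfsg.blockPart B (Cfsg.indFun P θ) g = 0 := by
  have hzpow : ∃ k : ℕ, orderOf z = p ^ k := by
    obtain ⟨w, -, -, h, -⟩ := hz
    exact h
  apply blockPart_section hM (Cfsg.indFun P θ) (indFun_isClassFunction P θ) z hzpow ?_ B hB g z hz
    (IsConj.refl z)
  intro u' z' hz' hconj
  rw [indFun_apply]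
  have hterm : ∀ x : G, Cfsg.extendByZero P θ (x⁻¹ * u' * x) = 0 := by
    intro x
    by_cases hmem : x⁻¹ * u' * x ∈ P
    · rw [extendByZero_mem P θ hmem]
      apply hθU
      intro hU
      obtain ⟨k, hk⟩ := hP ⟨_, hmem⟩
      have hk' : (x⁻¹ * u' * x) ^ (p ^ k) = 1 := by
        have := congrArg Subtype.val hk
        simpa using this
      have hord : orderOf (x⁻¹ * u' * x) = orderOf u' := by
        have := MulEquiv.orderOf_eq (MulAut.conj x⁻¹) u'
        rw [MulAut.conj_apply, inv_inv] at this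
        exact this
      obtain ⟨j, -, hj⟩ := (Nat.dvd_prime_pow hp.out).mp (orderOf_dvd_of_pow_eq_one hk')
      rw [hord] at hj
      have hself := isPPart_self (p := p) u' j hj
      have hzu : z' = u' := isPPart_unique p hz' hself
      obtain ⟨c, hc⟩ := isConj_iff.mp hconj
      apply hzU (x⁻¹ * c)
      have : x⁻¹ * c * z * (x⁻¹ * c)⁻¹ = x⁻¹ * (c * z * c⁻¹) * x := by group
      rw [this, hc, hzu]
      exact hU
    · exact extendByZero_not_mem P θ hmem
  simp_rw [hterm]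
  rw [Finset.sum_const_zero, mul_zero]

/-- an element inverted by a conjugate of `t` has no conjugate in `U` -/
theorem not_conj_mem_of_inverted (U : Set G) (t : G)
    (hinv : ∀ u ∈ U, ∀ g : G, (g * t * g⁻¹) * u * (g * t * g⁻¹)⁻¹ ≠ u⁻¹) (z : G)
    (hz : ∃ h : G, (h * t * h⁻¹) * z * (h * t * h⁻¹)⁻¹ = z⁻¹) (c : G) :
    c * z * c⁻¹ ∉ U := by
  intro hU
  obtain ⟨h, hh⟩ := hz
  apply hinv _ hU (c * h)
  have e1 : c * h * t * (c * h)⁻¹ * (c * z * c⁻¹) * (c * h * t * (c * h)⁻¹)⁻¹ =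
      c * ((h * t * h⁻¹) * z * (h * t * h⁻¹)⁻¹) * c⁻¹ := by group
  rw [e1, hh]
  group

/-- an element with `classPowCount k 2` nonzero is a product of two conjugates of `k` -/
theorem exists_mul_of_classPowCount_two [Fintype G] (k y : G) (h : classPowCount k 2 y ≠ 0) :
    ∃ x x' : G, IsConj k x ∧ IsConj k x' ∧ y = x * x' := by
  classical
  have h2 : classPowCount k 2 y = ∑ x ∈ classFinset k, ∑ x' ∈ classFinset k,
      (if x'⁻¹ * (x⁻¹ * y) = 1 then 1 else 0) := rfl
  rw [h2] at h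
  obtain ⟨x, hx, hx0⟩ := Finset.exists_ne_zero_of_sum_ne_zero h
  obtain ⟨x', hx', hx'0⟩ := Finset.exists_ne_zero_of_sum_ne_zero hx0
  refine ⟨x, x', (mem_classFinset k x).mp hx, (mem_classFinset k x').mp hx', ?_⟩
  by_cases h1 : x'⁻¹ * (x⁻¹ * y) = 1
  · have : y = x * (x' * (x'⁻¹ * (x⁻¹ * y))) := by group
    rw [this, h1, mul_one]
  · rw [if_neg h1] at hx'0
    exact absurd rfl hx'0

/-- the `p`-part of an element inverted by `x` is inverted by `x` -/
theorem isPPart_inverted {p : ℕ} [hp : Fact p.Prime] {g z x : G} (hz : Cfsg.IsPPart p g z)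
    (hx : x * g * x⁻¹ = g⁻¹) : x * z * x⁻¹ = z⁻¹ := by
  have h1 := IsPPart.conj hz x
  rw [hx] at h1
  exact isPPart_unique p h1 (IsPPart.inv hz)

end Cfsg.Agent.Helper6
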