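import Mathlib
import Cfsg.Prelude.Def_Characters
import Cfsg.Prelude.Def_Blocks
import Cfsg.Agent.Helper6.WeakOrth
import Cfsg.Agent.Helper6.DefectClass

/-!
# Block orthogonality on `p`-regular elements
-/

set_option autoImplicit false
set_option linter.style.haveILetI false

namespace Cfsg.Agent.Helper6

open Module
open scoped ComplexConjugate

universe u

variable {G : Type u} [Group G] {M : Ideal Cfsg.AlgInt}

/-- The kernel `k_B(x, y) = Σ_{ξ ∈ B} ξ(x) conj ξ(y)`. -/
noncomputable def blockKernelFun [Fintype (Cfsg.IrrCharacter G)] (B : Set (Cfsg.IrrCharacter G))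
    [DecidablePred (· ∈ B)] (x y : G) : ℂ :=
  ∑ ξ : Cfsg.IrrCharacter G, if ξ ∈ B then (ξ : G → ℂ) x * conj ((ξ : G → ℂ) y) else 0

theorem blockKernelFun_eq_finsum [Fintype (Cfsg.IrrCharacter G)] (B : Set (Cfsg.IrrCharacter G))
    [DecidablePred (· ∈ B)] (x y : G) :
    blockKernelFun B x y = ∑ᶠ ξ ∈ B, (ξ : G → ℂ) x * conj ((ξ : G → ℂ) y) := by
  classical
  rw [finsum_mem_eq_sum_ite]
  unfold blockKernelFun
  apply Finset.sum_congr rfl
  intro ξ _
  split_ifs <;> rfl

theorem blockKernelFun_conj [Fintype (Cfsg.IrrCharacter G)] (B : Set (Cfsg.IrrCharacter G))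
    [DecidablePred (· ∈ B)] (x y : G) :
    conj (blockKernelFun B x y) = blockKernelFun B y x := by
  unfold blockKernelFun
  rw [map_sum]
  apply Finset.sum_congr rfl
  intro ξ _
  split_ifs
  · rw [map_mul, Complex.conj_conj, mul_comm]
  · rw [map_zero]

theorem blockKernelFun_eq_zero [Finite G] [Fintype (Cfsg.IrrCharacter G)] (hM : M.IsMaximal)
    (p : ℕ) [hp : Fact p.Prime] (hpM : (p : Cfsg.AlgInt) ∈ M) (B : Set (Cfsg.IrrCharacter G))
    [DecidablePred (· ∈ B)] (hB : Cfsg.IsPBlock M B) (x y : G)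
    (hxy : (p ∣ orderOf x ∧ ¬ p ∣ orderOf y) ∨ (¬ p ∣ orderOf x ∧ p ∣ orderOf y)) :
    blockKernelFun B x y = 0 := by
  rcases hxy with ⟨hx, hy⟩ | ⟨hx, hy⟩
  · have h := weak_block_orthogonality hM p hpM B hB y x hy hx
    rw [← blockKernelFun_eq_finsum] at h
    rw [← blockKernelFun_conj, h, map_zero]
  · have h := weak_block_orthogonality hM p hpM B hB x y hx hy
    rw [← blockKernelFun_eq_finsum] at h
    exact h

/-- Reproducing property: a member of `B` is reproduced by the kernel. -/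
theorem sum_mul_blockKernelFun [Fintype G] [Fintype (Cfsg.IrrCharacter G)]
    (B : Set (Cfsg.IrrCharacter G)) [DecidablePred (· ∈ B)] (χ : Cfsg.IrrCharacter G)
    (hχ : χ ∈ B) (x : G) :
    ∑ y : G, (χ : G → ℂ) y * blockKernelFun B x y = (Nat.card G : ℂ) * (χ : G → ℂ) x := by
  classical
  have hG0 : (Nat.card G : ℂ) ≠ 0 := by
    have : 0 < Nat.card G := Nat.card_pos
    exact_mod_cast this.ne'
  unfold blockKernelFun
  simp_rw [Finset.mul_sum]
  rw [Finset.sum_comm]
  rw [Finset.sum_eq_single χ]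
  · simp only [if_pos hχ]
    have h1 := classInner_irr_self χ.2
    rw [classInner_def] at h1
    have h2 : ∑ y : G, (χ : G → ℂ) y * ((χ : G → ℂ) x * conj ((χ : G → ℂ) y)) =
        (χ : G → ℂ) x * ∑ y : G, (χ : G → ℂ) y * conj ((χ : G → ℂ) y) := by
      rw [Finset.mul_sum]
      apply Finset.sum_congr rfl
      intro y _
      ring
    rw [h2]
    have h3 : ∑ y : G, (χ : G → ℂ) y * conj ((χ : G → ℂ) y) = (Nat.card G : ℂ) := by
      have := congrArg (fun z => (Nat.card G : ℂ) * z) h1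
      rw [← mul_assoc, mul_inv_cancel₀ hG0, one_mul, mul_one] at this
      exact this
    rw [h3, mul_comm]
  · intro ξ _ hξ
    by_cases hξB : ξ ∈ B
    · simp only [if_pos hξB]
      have hne : (χ : G → ℂ) ≠ (ξ : G → ℂ) := fun h => hξ (Subtype.ext h.symm)
      have h1 := classInner_irr_ne χ.2 ξ.2 hne
      rw [classInner_def] at h1
      have h2 : ∑ y : G, (χ : G → ℂ) y * ((ξ : G → ℂ) x * conj ((ξ : G → ℂ) y)) =
          (ξ : G → ℂ) x * ∑ y : G, (χ : G → ℂ) y * conj ((ξ : G → ℂ) y) := by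
        rw [Finset.mul_sum]
        apply Finset.sum_congr rfl
        intro y _
        ring
      rw [h2]
      rcases mul_eq_zero.mp h1 with h | h
      · exact absurd (inv_eq_zero.mp h) hG0
      · rw [h, mul_zero]
    · simp only [if_neg hξB, mul_zero, Finset.sum_const_zero]
  · intro h
    exact absurd (Finset.mem_univ _) h

/-- A character outside `B` is orthogonal to the kernel. -/
theorem sum_blockKernelFun_mul_conj [Fintype G] [Fintype (Cfsg.IrrCharacter G)]
    (B : Set (Cfsg.IrrCharacter G)) [DecidablePred (· ∈ B)] (ψ : Cfsg.IrrCharacter G)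
    (hψ : ψ ∉ B) (y : G) :
    ∑ x : G, blockKernelFun B x y * conj ((ψ : G → ℂ) x) = 0 := by
  classical
  have hG0 : (Nat.card G : ℂ) ≠ 0 := by
    have : 0 < Nat.card G := Nat.card_pos
    exact_mod_cast this.ne'
  unfold blockKernelFun
  simp_rw [Finset.sum_mul]
  rw [Finset.sum_comm]
  apply Finset.sum_eq_zero
  intro ξ _
  by_cases hξB : ξ ∈ B
  · simp only [if_pos hξB]
    have hne : (ξ : G → ℂ) ≠ (ψ : G → ℂ) := by
      intro h
      apply hψ
      have : ξ = ψ := Subtype.ext h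
      rw [← this]
      exact hξB
    have h1 := classInner_irr_ne ξ.2 ψ.2 hne
    rw [classInner_def] at h1
    have h2 : ∑ x : G, (ξ : G → ℂ) x * conj ((ξ : G → ℂ) y) * conj ((ψ : G → ℂ) x) =
        conj ((ξ : G → ℂ) y) * ∑ x : G, (ξ : G → ℂ) x * conj ((ψ : G → ℂ) x) := by
      rw [Finset.mul_sum]
      apply Finset.sum_congr rfl
      intro x _
      ring
    rw [h2]
    rcases mul_eq_zero.mp h1 with h | h
    · exact absurd (inv_eq_zero.mp h) hG0
    · rw [h, mul_zero]
  · simp only [if_neg hξB, zero_mul, Finset.sum_const_zero]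

/-- **Block orthogonality on `p`-regular elements.** -/
theorem sum_pregular_eq_zero [Fintype G] (hM : M.IsMaximal)
    (p : ℕ) [hp : Fact p.Prime] (hpM : (p : Cfsg.AlgInt) ∈ M) (B : Set (Cfsg.IrrCharacter G))
    (hB : Cfsg.IsPBlock M B) (χ ψ : Cfsg.IrrCharacter G) (hχ : χ ∈ B) (hψ : ψ ∉ B) :
    ∑ x : G, (if p ∣ orderOf x then (0 : ℂ) else (χ : G → ℂ) x * conj ((ψ : G → ℂ) x)) = 0 := by
  classical
  haveI : Finite (Cfsg.IrrCharacter G) := irr_finite
  haveI : Fintype (Cfsg.IrrCharacter G) := Fintype.ofFinite _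
  have hG0 : (Nat.card G : ℂ) ≠ 0 := by
    have : 0 < Nat.card G := Nat.card_pos
    exact_mod_cast this.ne'
  have hk := blockKernelFun_eq_zero hM p hpM B hB
  -- step 1
  have h1 : ∀ x : G, ¬ p ∣ orderOf x → (Nat.card G : ℂ) * (χ : G → ℂ) x =
      ∑ y : G, if p ∣ orderOf y then (0 : ℂ) else (χ : G → ℂ) y * blockKernelFun B x y := by
    intro x hx
    rw [← sum_mul_blockKernelFun B χ hχ x]
    apply Finset.sum_congr rfl
    intro y _
    split_ifs with hy
    · rw [hk x y (Or.inr ⟨hx, hy⟩), mul_zero]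
    · rfl
  have h2 : (Nat.card G : ℂ) * ∑ x : G,
      (if p ∣ orderOf x then (0 : ℂ) else (χ : G → ℂ) x * conj ((ψ : G → ℂ) x)) =
      ∑ y : G, if p ∣ orderOf y then (0 : ℂ) else (χ : G → ℂ) y *
        ∑ x : G, blockKernelFun B x y * conj ((ψ : G → ℂ) x) := by
    rw [Finset.mul_sum]
    have h3 : ∀ x : G, (Nat.card G : ℂ) *
        (if p ∣ orderOf x then (0 : ℂ) else (χ : G → ℂ) x * conj ((ψ : G → ℂ) x)) =
        ∑ y : G, if p ∣ orderOf y then (0 : ℂ) else
          (if p ∣ orderOf x then (0 : ℂ) else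
            (χ : G → ℂ) y * (blockKernelFun B x y * conj ((ψ : G → ℂ) x))) := by
      intro x
      by_cases hx : p ∣ orderOf x
      · simp only [if_pos hx, mul_zero, ite_self, Finset.sum_const_zero]
      · simp only [if_neg hx]
        rw [← mul_assoc, h1 x hx, Finset.sum_mul]
        apply Finset.sum_congr rfl
        intro y _
        split_ifs
        · rw [zero_mul]
        · ring
    simp_rw [h3]
    rw [Finset.sum_comm]
    apply Finset.sum_congr rfl
    intro y _
    by_cases hy : p ∣ orderOf y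
    · simp only [if_pos hy, Finset.sum_const_zero]
    · simp only [if_neg hy]
      rw [Finset.mul_sum]
      apply Finset.sum_congr rfl
      intro x _
      split_ifs with hx
      · rw [hk x y (Or.inl ⟨hx, hy⟩), zero_mul, mul_zero]
      · rfl
  have h4 : (Nat.card G : ℂ) * ∑ x : G,
      (if p ∣ orderOf x then (0 : ℂ) else (χ : G → ℂ) x * conj ((ψ : G → ℂ) x)) = 0 := by
    rw [h2]
    apply Finset.sum_eq_zero
    intro y _
    rw [sum_blockKernelFun_mul_conj B ψ hψ y, mul_zero, ite_self]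
  rcases mul_eq_zero.mp h4 with h | h
  · exact absurd h hG0
  · exact h

/-- **S0952 form.** -/
theorem sum_pregular_eq_zero_of_not_sameBlock [Finite G] (hM : M.IsMaximal)
    (p : ℕ) [hp : Fact p.Prime] (hpM : (p : Cfsg.AlgInt) ∈ M) (χ ψ : Cfsg.IrrCharacter G)
    (h : ¬ Cfsg.SameBlock M (χ : G → ℂ) (ψ : G → ℂ)) :
    ∑ᶠ x ∈ {x : G | ¬ p ∣ orderOf x}, (χ : G → ℂ) x * conj ((ψ : G → ℂ) x) = 0 := by
  classical
  haveI := Fintype.ofFinite G
  rw [finsum_mem_eq_sum_ite]
  have h0 := sum_pregular_eq_zero hM p hpM (Cfsg.blockOf M (χ : G → ℂ)) ⟨χ, rfl⟩ χ ψ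
    (mem_blockOf_self hM χ) h
  refine Eq.trans ?_ h0
  apply Finset.sum_congr rfl
  intro x _
  by_cases hx : p ∣ orderOf x
  · rw [if_pos hx, if_neg (fun h' : x ∈ {x : G | ¬ p ∣ orderOf x} => h' hx)]
  · rw [if_neg hx, if_pos (show x ∈ {x : G | ¬ p ∣ orderOf x} from hx)]

end Cfsg.Agent.Helper6
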