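import Mathlib
import Cfsg.Prelude.Def_Characters
import Cfsg.Prelude.Def_Blocks
import Cfsg.Prelude.Def_BlockRank
import Cfsg.Agent.Helper6.Induced
import Cfsg.Agent.Helper6.OddReal
import Cfsg.Agent.Helper6.DadeIso
import Cfsg.Agent.Helper6.IrrBasis

/-!
# Generalized characters vanishing on `p`-singular elements
-/

set_option autoImplicit false
set_option linter.style.haveILetI false

namespace Cfsg.Agent.Helper6

open scoped ComplexConjugate

universe u

variable {G : Type u} [Group G]

/-- The sum of a character over a subgroup is a multiple of the order of the subgroup. -/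
theorem sum_subgroup_char_eq [Finite G] (P : Subgroup G) [Fintype P] {ψ : G → ℂ}
    (hψ : Cfsg.IsCharacter G ψ) : ∃ m : ℕ, ∑ x : P, ψ x = (Nat.card P : ℂ) * m := by
  have h1 : Cfsg.IsCharacter P (fun x : P => ψ x) := IsCharacter.restrict P hψ
  have h2 : Cfsg.IsCharacter P (fun _ : P => (1 : ℂ)) :=
    IsIrrCharacter.isCharacter isIrrCharacter_one
  obtain ⟨m, hm⟩ := classInner_char_char_nat h1 h2
  refine ⟨m, ?_⟩
  rw [classInner_def] at hm
  simp only [map_one, mul_one] at hm
  have hP0 : (Nat.card P : ℂ) ≠ 0 := by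
    have : 0 < Nat.card P := Nat.card_pos
    exact_mod_cast this.ne'
  rw [← hm, ← mul_assoc, mul_inv_cancel₀ hP0, one_mul]

/-- If the `p`-regular part of `χ` is an integer combination of irreducible characters, then the
full power of `p` dividing the group order divides `χ 1`. -/
theorem p_part_dvd_of_pRegularPart [Fintype G] (p : ℕ) [Fact p.Prime]
    (B : Set (Cfsg.IrrCharacter G)) (χ : G → ℂ)
    (h0 : ∃ n : Cfsg.IrrCharacter G → ℤ, ∀ g : G, Cfsg.pRegularPart p χ g =
      ∑ᶠ ψ ∈ B, (n ψ : ℂ) * (ψ : G → ℂ) g) :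
    ∃ k : ℤ, χ 1 = (p ^ (Nat.card G).factorization p : ℂ) * k := by
  classical
  haveI : Finite (Cfsg.IrrCharacter G) := irr_finite
  haveI : Fintype (Cfsg.IrrCharacter G) := Fintype.ofFinite _
  obtain ⟨n, hn⟩ := h0
  obtain ⟨P⟩ : Nonempty (Sylow p G) := inferInstance
  have hcard : Nat.card (P : Subgroup G) = p ^ (Nat.card G).factorization p :=
    Sylow.card_eq_multiplicity P
  have hm : ∀ ψ : Cfsg.IrrCharacter G, ∃ m : ℕ,
      ∑ x : (P : Subgroup G), (ψ : G → ℂ) x = (Nat.card (P : Subgroup G) : ℂ) * m :=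
    fun ψ => sum_subgroup_char_eq (P : Subgroup G) (IsIrrCharacter.isCharacter ψ.2)
  choose m hm using hm
  -- the sum of the `p`-regular part over `P`
  have hsum1 : ∑ x : (P : Subgroup G), Cfsg.pRegularPart p χ x = χ 1 := by
    rw [Finset.sum_eq_single (1 : (P : Subgroup G))]
    · unfold Cfsg.pRegularPart
      rw [Subgroup.coe_one, if_pos]
      unfold Cfsg.IsPRegular
      rw [orderOf_one]
      exact (Nat.Prime.one_lt (Fact.out)).ne' ∘ Nat.dvd_one.mp
    · intro x _ hx
      unfold Cfsg.pRegularPart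
      rw [if_neg]
      unfold Cfsg.IsPRegular
      rw [not_not]
      obtain ⟨k, hk⟩ := (IsPGroup.iff_orderOf.mp P.2) x
      have hk0 : k ≠ 0 := by
        rintro rfl
        rw [pow_zero, orderOf_eq_one_iff] at hk
        exact hx hk
      rw [← Subgroup.orderOf_coe] at hk
      rw [hk]
      exact dvd_pow_self p hk0
    · intro h
      exact absurd (Finset.mem_univ _) h
  have hsum2 : ∑ x : (P : Subgroup G), Cfsg.pRegularPart p χ x =
      (Nat.card (P : Subgroup G) : ℂ) *
        ((∑ ψ : Cfsg.IrrCharacter G, if ψ ∈ B then n ψ * (m ψ : ℤ) else 0 : ℤ) : ℂ) := by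
    simp_rw [hn, finsum_mem_eq_sum_ite]
    rw [Finset.sum_comm]
    push_cast
    rw [Finset.mul_sum]
    apply Finset.sum_congr rfl
    intro ψ _
    by_cases hψ : ψ ∈ B
    · simp only [if_pos hψ]
      rw [← Finset.mul_sum, hm ψ]
      push_cast
      ring
    · simp only [if_neg hψ]
      simp
  refine ⟨∑ ψ : Cfsg.IrrCharacter G, if ψ ∈ B then n ψ * (m ψ : ℤ) else 0, ?_⟩
  rw [← hsum1, hsum2, hcard]
  push_cast
  rfl

end Cfsg.Agent.Helper6
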