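import Mathlib
import Cfsg.Prelude.Def_Characters
import Cfsg.Agent.Helper6.Brauer11
import Cfsg.Agent.Helper6.PRegularSylow

/-!
# The `p`-regular truncation of an irreducible character
-/

set_option autoImplicit false
set_option linter.style.haveILetI false

namespace Cfsg.Agent.Helper6

open scoped ComplexConjugate
open Module

universe u v

variable {G : Type u} [Group G]

set_option maxHeartbeats 1600000 in
/-- The multiplicities of the scaled truncated character on an elementary subgroup are integers. -/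
theorem truncated_mult_int [Fintype G] {V : Type v} [AddCommGroup V] [Module ℂ V]
    [FiniteDimensional ℂ V] (ρ : Representation ℂ G V) [hirr : ρ.IsIrreducible] (p n β g' d' : ℕ)
    [hp : Fact p.Prime] (hG : Nat.card G = p ^ n * g') (hg' : ¬ p ∣ g')
    (hd : finrank ℂ V = p ^ β * d') (hβ : β ≤ n)
    (E : Subgroup G) [Fintype E] {q : ℕ} (hq : q.Prime)
    (hE : Cfsg.IsElementary q E) (φ : E → ℂ) (hφ : Cfsg.IsIrrCharacter E φ) :
    ∃ m : ℤ, Cfsg.classInner
      (fun e : E => if p ∣ orderOf (e : G) then (0 : ℂ)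
        else ((p ^ (n - β) : ℕ) : ℂ) * ρ.character e) φ = m := by
  classical
  obtain ⟨B, hBn, hcop, b, hb⟩ := exists_normal_p_complement hq hE p
  haveI := hBn
  haveI : Fintype B := Fintype.ofFinite _
  set P : ℂ := ((p ^ (n - β) : ℕ) : ℂ) with hPdef
  have hPpow : P * (p : ℂ) ^ β = (p : ℂ) ^ n := by
    rw [hPdef]
    push_cast
    rw [← pow_add, Nat.sub_add_cancel hβ]
  have hχc : Cfsg.IsCharacter G ρ.character :=
    IsIrrCharacter.isCharacter (isIrrCharacter_of_rep ρ hirr)
  have hφc := IsIrrCharacter.isCharacter hφ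
  -- the inner product on B
  obtain ⟨N, hN⟩ := classInner_char_char_nat
    (IsCharacter.restrict B (IsCharacter.restrict E hχc)) (IsCharacter.restrict B hφc)
  rw [classInner_def] at hN
  -- rewrite the inner product on E as a sum over B
  have hθe : ∀ e : E, (if p ∣ orderOf (e : G) then (0 : ℂ) else P * ρ.character e) *
      conj (φ e) = if e ∈ B then P * (ρ.character e * conj (φ e)) else 0 := by
    intro e
    rw [Subgroup.orderOf_coe]
    by_cases he : e ∈ B
    · rw [if_neg ((mem_iff_not_dvd_orderOf B hcop hb e).mp he), if_pos he, mul_assoc]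
    · have : p ∣ orderOf e := by
        by_contra h
        exact he ((mem_iff_not_dvd_orderOf B hcop hb e).mpr h)
      rw [if_pos this, if_neg he, zero_mul]
  have hsum : ∑ e : E, (if p ∣ orderOf (e : G) then (0 : ℂ) else P * ρ.character e) *
      conj (φ e) = P * ∑ x : B, ρ.character ((x : E) : G) * conj (φ x) := by
    simp_rw [hθe]
    rw [← Finset.sum_filter]
    rw [Finset.sum_subtype (Finset.univ.filter (fun e : E => e ∈ B)) (p := fun e => e ∈ B)
      (by intro e; simp) (fun e => P * (ρ.character (e : G) * conj (φ e)))]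
    rw [Finset.mul_sum]
  have hcardE : (Nat.card E : ℂ) = (Nat.card B : ℂ) * (p : ℂ) ^ b := by
    rw [← Subgroup.card_mul_index B, hb]
    push_cast
    rfl
  have hBne : (Nat.card B : ℂ) ≠ 0 := by exact_mod_cast Nat.card_pos.ne'
  have hpb : ((p : ℂ) ^ b) ≠ 0 := pow_ne_zero _ (by exact_mod_cast hp.out.ne_zero)
  set r := Cfsg.classInner
    (fun e : E => if p ∣ orderOf (e : G) then (0 : ℂ) else P * ρ.character e) φ with hr
  have hr1 : r = (Nat.card E : ℂ)⁻¹ *
      (P * ∑ x : B, ρ.character ((x : E) : G) * conj (φ x)) := by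
    rw [hr, classInner_def, hsum]
  -- (i)
  have hi : (p : ℂ) ^ b * r = P * N := by
    rw [← hN, hr1, hcardE, mul_inv]
    field_simp
  -- (ii)
  have hdpos : 0 < finrank ℂ V := by
    haveI : Nontrivial V := irr_nontrivial ρ
    exact Module.finrank_pos
  have hd'0 : d' ≠ 0 := by
    rintro rfl
    rw [mul_zero] at hd
    omega
  have hg'0 : g' ≠ 0 := by
    rintro rfl
    exact hg' (dvd_zero p)
  have hpn : ((p : ℂ) ^ n) ≠ 0 := pow_ne_zero _ (by exact_mod_cast hp.out.ne_zero)
  have hpβ : ((p : ℂ) ^ β) ≠ 0 := pow_ne_zero _ (by exact_mod_cast hp.out.ne_zero)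
  have hcx : ∀ x : B, ∃ c : ℕ,
      Nat.card (Subgroup.centralizer ({((x : E) : G)} : Set G)) = p ^ b * c := fun x =>
    pow_dvd_card_centralizer E hq hE B hcop hb (x : E) x.2
  choose c hc using hcx
  have hii : IsIntegral ℤ (((g' : ℂ) * (Nat.card B : ℂ)) * r) := by
    have hterm : ((g' : ℂ) * (Nat.card B : ℂ)) * r =
        ∑ x : B, ((((Subgroup.centralizer ({((x : E) : G)} : Set G)).index : ℂ) *
          ρ.character ((x : E) : G) / (finrank ℂ V : ℂ)) * ((d' : ℂ) * (c x : ℂ))) *
            conj (φ x) := by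
      rw [hr1, hcardE, Finset.mul_sum, Finset.mul_sum, Finset.mul_sum]
      apply Finset.sum_congr rfl
      intro x _
      have hidx : ((Subgroup.centralizer ({((x : E) : G)} : Set G)).index : ℂ) *
          ((p : ℂ) ^ b * (c x : ℂ)) = (p : ℂ) ^ n * (g' : ℂ) := by
        have := Subgroup.index_mul_card (Subgroup.centralizer ({((x : E) : G)} : Set G))
        rw [hc x, hG] at this
        exact_mod_cast this
      have hcne : (c x : ℂ) ≠ 0 := by
        intro h0
        rw [h0, mul_zero, mul_zero] at hidx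
        have : (p : ℂ) ^ n * (g' : ℂ) ≠ 0 := mul_ne_zero hpn (by exact_mod_cast hg'0)
        exact this hidx.symm
      have hdC : (finrank ℂ V : ℂ) = (p : ℂ) ^ β * (d' : ℂ) := by
        rw [hd]
        push_cast
        rfl
      have hd'C : (d' : ℂ) ≠ 0 := by exact_mod_cast hd'0
      rw [hdC]
      have hidx' : ((Subgroup.centralizer ({((x : E) : G)} : Set G)).index : ℂ) =
          (p : ℂ) ^ n * (g' : ℂ) / ((p : ℂ) ^ b * (c x : ℂ)) := by
        rw [eq_div_iff (mul_ne_zero hpb hcne)]
        exact hidx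
      rw [hidx', ← hPpow]
      field_simp
    rw [hterm]
    apply IsIntegral.sum
    intro x _
    apply IsIntegral.mul
    · apply IsIntegral.mul
      · exact isIntegral_class_mul_char_div ρ ((x : E) : G)
      · exact IsIntegral.mul (isIntegral_natCast d') (isIntegral_natCast (c x))
    · exact IsCharacter.conj_isIntegral hφc x
  -- (iii)
  have hdvd : p ^ b ∣ g' * Nat.card B * (p ^ (n - β) * N) := by
    apply nat_dvd_of_isIntegral (g' * Nat.card B * (p ^ (n - β) * N)) (p ^ b)
      (pow_pos hp.out.pos b).ne' _ hii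
    push_cast
    have hP' : ((p : ℂ) ^ (n - β)) = P := by
      rw [hPdef]
      push_cast
      rfl
    rw [hP', ← hi]
    ring
  have hcop2 : Nat.Coprime (p ^ b) (g' * Nat.card B) := by
    apply Nat.Coprime.pow_left
    apply Nat.Coprime.mul_right
    · exact (Nat.Prime.coprime_iff_not_dvd hp.out).mpr hg'
    · exact hcop.symm
  obtain ⟨N', hN'⟩ := hcop2.dvd_of_dvd_mul_left hdvd
  refine ⟨(N' : ℤ), ?_⟩
  have : (p : ℂ) ^ b * r = (p : ℂ) ^ b * (N' : ℂ) := by
    rw [hi]
    have h1 : (P * (N : ℂ)) = ((p ^ (n - β) * N : ℕ) : ℂ) := by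
      rw [hPdef]
      push_cast
      rfl
    rw [h1, hN']
    push_cast
    rfl
  have := mul_left_cancel₀ hpb this
  rw [this]
  simp

/-- The scaled `p`-regular truncation of an irreducible character is a generalized character. -/
theorem truncated_isGeneralizedCharacter [Fintype G] {V : Type v} [AddCommGroup V] [Module ℂ V]
    [FiniteDimensional ℂ V] (ρ : Representation ℂ G V) [hirr : ρ.IsIrreducible] (p n β g' d' : ℕ)
    [hp : Fact p.Prime] (hG : Nat.card G = p ^ n * g') (hg' : ¬ p ∣ g')
    (hd : finrank ℂ V = p ^ β * d') (hβ : β ≤ n) :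
    Cfsg.IsGeneralizedCharacter G
      (fun g : G => if p ∣ orderOf g then (0 : ℂ)
        else ((p ^ (n - β) : ℕ) : ℂ) * ρ.character g) := by
  classical
  have hχirr : Cfsg.IsIrrCharacter G ρ.character := isIrrCharacter_of_rep ρ hirr
  have hχc := IsIrrCharacter.isCharacter hχirr
  have hχcf := IsCharacter.isClassFunction hχc
  apply brauer_characterization
  · intro g h
    have ho : orderOf (h * g * h⁻¹) = orderOf g := by
      have := MulEquiv.orderOf_eq (MulAut.conj h) g
      simpa using this
    simp only [ho, hχcf g h]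
  · intro E q hq hEq
    haveI : Fintype E := Fintype.ofFinite _
    apply isGeneralizedCharacter_of_classInner_int
    · intro g h
      have ho : orderOf ((h * g * h⁻¹ : E) : G) = orderOf (g : G) := by
        have := MulEquiv.orderOf_eq (MulAut.conj (h : G)) (g : G)
        simpa using this
      simp only [ho]
      have := hχcf (g : G) (h : G)
      simp only [Subgroup.coe_mul, Subgroup.coe_inv]
      rw [this]
    · intro φ hφ
      exact truncated_mult_int ρ p n β g' d' hG hg' hd hβ E hq hEq φ hφ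

/-- A generalized character vanishing on the `p`-singular elements has degree divisible by the
full power of `p` dividing the group order. -/
theorem generalized_vanish_dvd [Fintype G] (p : ℕ) [hp : Fact p.Prime] {θ : G → ℂ}
    (hθ : Cfsg.IsGeneralizedCharacter G θ) (hvan : ∀ g : G, p ∣ orderOf g → θ g = 0) :
    ∃ k : ℤ, θ 1 = ((p ^ (Nat.card G).factorization p : ℕ) : ℂ) * k := by
  classical
  obtain ⟨α, β, hα, hβ, rfl⟩ := hθ
  obtain ⟨P⟩ : Nonempty (Sylow p G) := inferInstance
  have hcard : Nat.card (P : Subgroup G) = p ^ (Nat.card G).factorization p :=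
    Sylow.card_eq_multiplicity P
  obtain ⟨m₁, hm₁⟩ := sum_subgroup_char_eq (P : Subgroup G) hα
  obtain ⟨m₂, hm₂⟩ := sum_subgroup_char_eq (P : Subgroup G) hβ
  have hsum1 : ∑ x : (P : Subgroup G), (α - β) (x : G) = (α - β) 1 := by
    rw [Finset.sum_eq_single (1 : (P : Subgroup G))]
    · rw [Subgroup.coe_one]
    · intro x _ hx
      apply hvan
      obtain ⟨k, hk⟩ := (IsPGroup.iff_orderOf.mp P.2) x
      have hk0 : k ≠ 0 := by
        rintro rfl
        rw [pow_zero, orderOf_eq_one_iff] at hk
        exact hx hk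
      rw [← Subgroup.orderOf_coe] at hk
      rw [hk]
      exact dvd_pow_self p hk0
    · intro h
      exact absurd (Finset.mem_univ _) h
  refine ⟨(m₁ : ℤ) - (m₂ : ℤ), ?_⟩
  rw [← hsum1]
  simp only [Pi.sub_apply, Finset.sum_sub_distrib]
  rw [hm₁, hm₂, hcard]
  push_cast
  ring

/-- The statement on truncated irreducible characters. -/
theorem truncated_statement [Finite G] (p : ℕ) [hp : Fact p.Prime] (χ : Cfsg.IrrCharacter G) :
    Cfsg.IsGeneralizedCharacter G (fun x : G => if p ∣ orderOf x then (0 : ℂ) else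
      ((p ^ ((Nat.card G).factorization p -
        (Cfsg.charDegree (χ : G → ℂ)).factorization p) : ℕ) : ℂ) * (χ : G → ℂ) x) ∧
    ¬ Cfsg.IsGeneralizedCharacter G (fun x : G => if p ∣ orderOf x then (0 : ℂ) else
      ((p ^ (Nat.card G).factorization p : ℕ) : ℂ) /
        ((p ^ ((Cfsg.charDegree (χ : G → ℂ)).factorization p + 1) : ℕ) : ℂ) *
          (χ : G → ℂ) x) := by
  classical
  haveI := Fintype.ofFinite G
  obtain ⟨m, ρ, hirr, hρ⟩ := χ.2
  haveI := hirr
  have hfin : finrank ℂ (Fin m → ℂ) = m := Module.finrank_fin_fun ℂ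
  have hχ1 : (χ : G → ℂ) 1 = (m : ℂ) := by
    rw [← hρ, Representation.char_one, hfin]
  have hcd : Cfsg.charDegree (χ : G → ℂ) = m := by
    unfold Cfsg.charDegree
    rw [hχ1, Complex.natCast_re, Nat.floor_natCast]
  rw [hcd]
  have hm0 : m ≠ 0 := by
    haveI : Nontrivial (Fin m → ℂ) := irr_nontrivial ρ
    have : 0 < finrank ℂ (Fin m → ℂ) := Module.finrank_pos
    rw [hfin] at this
    exact this.ne'
  have hG0 : Nat.card G ≠ 0 := Nat.card_pos.ne'
  have hdvd : m ∣ Nat.card G := by
    have := finrank_dvd_card ρ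
    rwa [hfin] at this
  set a := (Nat.card G).factorization p with ha
  set b := m.factorization p with hb
  have hba : b ≤ a := (Nat.factorization_le_iff_dvd hm0 hG0).mpr hdvd p
  set g' := Nat.card G / p ^ a with hg'def
  set d' := m / p ^ b with hd'def
  have hG : Nat.card G = p ^ a * g' := (Nat.ordProj_mul_ordCompl_eq_self (Nat.card G) p).symm
  have hm : m = p ^ b * d' := (Nat.ordProj_mul_ordCompl_eq_self m p).symm
  have hg' : ¬ p ∣ g' := Nat.not_dvd_ordCompl hp.out hG0
  have hd' : ¬ p ∣ d' := Nat.not_dvd_ordCompl hp.out hm0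
  have hd : finrank ℂ (Fin m → ℂ) = p ^ b * d' := by
    rw [hfin]
    exact hm
  constructor
  · have := truncated_isGeneralizedCharacter ρ p a b g' d' hG hg' hd hba
    rw [hρ] at this
    exact this
  · intro hgen
    obtain ⟨k, hk⟩ := generalized_vanish_dvd p hgen (by
      intro g hg
      simp only [if_pos hg])
    have h1 : ¬ p ∣ orderOf (1 : G) := by
      rw [orderOf_one]
      exact hp.out.one_lt.ne' ∘ Nat.dvd_one.mp
    simp only [if_neg h1] at hk
    rw [hχ1] at hk
    have hpC : (p : ℂ) ≠ 0 := by exact_mod_cast hp.out.ne_zero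
    have hpa : ((p : ℂ) ^ a) ≠ 0 := pow_ne_zero _ hpC
    have hpb : ((p : ℂ) ^ b) ≠ 0 := pow_ne_zero _ hpC
    have hmC : (m : ℂ) = (p : ℂ) ^ b * (d' : ℂ) := by
      have := congrArg (fun t : ℕ => (t : ℂ)) hm
      simpa using this
    have hkey : (d' : ℂ) = (p : ℂ) * (k : ℂ) := by
      have h2 : ((p ^ a : ℕ) : ℂ) / ((p ^ (b + 1) : ℕ) : ℂ) * (m : ℂ) =
          (p : ℂ) ^ a * ((d' : ℂ) / (p : ℂ)) := by
        rw [hmC]
        push_cast
        rw [pow_succ]
        field_simp
      rw [h2] at hk
      push_cast at hk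
      have h3 := mul_left_cancel₀ hpa hk
      field_simp at h3
      rw [h3]
    have hkeyZ : (d' : ℤ) = (p : ℤ) * k := by exact_mod_cast hkey
    apply hd'
    have : (p : ℤ) ∣ (d' : ℤ) := ⟨k, hkeyZ⟩
    exact_mod_cast this

end Cfsg.Agent.Helper6
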