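import Mathlib
import Cfsg.Prelude.Def_Characters
import Cfsg.Prelude.Def_Blocks
import Cfsg.Agent.Helper6.BlockOrth
import Cfsg.Agent.Helper6.TruncChar
import Cfsg.Agent.Helper6.Expansion
import Cfsg.Agent.Helper6.NormTwo

/-!
# The scaled `p`-regular truncation of a character lies in the span of its block
-/

set_option autoImplicit false
set_option linter.style.haveILetI false

namespace Cfsg.Agent.Helper6

open Module
open scoped ComplexConjugate

universe u

variable {G : Type u} [Group G] {M : Ideal Cfsg.AlgInt}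

/-- The scaled truncation of an irreducible character is a generalized character. -/
theorem truncated_irr_isGeneralizedCharacter [Fintype G] (p : ℕ) [hp : Fact p.Prime]
    {χ : G → ℂ} (hχ : Cfsg.IsIrrCharacter G χ) :
    Cfsg.IsGeneralizedCharacter G
      (fun x : G => if p ∣ orderOf x then (0 : ℂ)
        else ((p ^ (Nat.card G).factorization p : ℕ) : ℂ) * χ x) := by
  obtain ⟨n, ρ, hirr, rfl⟩ := hχ
  haveI := hirr
  have hG0 : Nat.card G ≠ 0 := Nat.card_pos.ne'
  obtain ⟨g', hg'⟩ := Nat.ordProj_dvd (Nat.card G) p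
  have hg'p : ¬ p ∣ g' := by
    intro hdiv
    have h1 : p ^ ((Nat.card G).factorization p + 1) ∣ Nat.card G := by
      rw [pow_succ]
      exact (Nat.mul_dvd_mul_left _ hdiv).trans (dvd_of_eq hg'.symm)
    exact Nat.pow_succ_factorization_not_dvd hG0 hp.out h1
  have h := truncated_isGeneralizedCharacter ρ p ((Nat.card G).factorization p) 0 g'
    (finrank ℂ (Fin n → ℂ)) hg' hg'p (by rw [pow_zero, one_mul]) (Nat.zero_le _)
  simpa using h

/-- **S4424**: the scaled truncation is an integer combination of the members of the block. -/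
theorem truncated_mem_span_block [Finite G] (hM : M.IsMaximal)
    (p : ℕ) [hp : Fact p.Prime] (hpM : (p : Cfsg.AlgInt) ∈ M) (B : Set (Cfsg.IrrCharacter G))
    (hB : Cfsg.IsPBlock M B) (χ : Cfsg.IrrCharacter G) (hχ : χ ∈ B) :
    ∃ a : Cfsg.IrrCharacter G → ℤ, (∀ ψ, ψ ∉ B → a ψ = 0) ∧
      (fun x : G => if p ∣ orderOf x then (0 : ℂ)
        else ((p ^ (Nat.card G).factorization p : ℕ) : ℂ) * (χ : G → ℂ) x) =
      fun x => ∑ᶠ ψ : Cfsg.IrrCharacter G, (a ψ : ℂ) * (ψ : G → ℂ) x := by
  classical
  haveI := Fintype.ofFinite G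
  haveI : Finite (Cfsg.IrrCharacter G) := irr_finite
  haveI : Fintype (Cfsg.IrrCharacter G) := Fintype.ofFinite _
  set θ : G → ℂ := fun x : G => if p ∣ orderOf x then (0 : ℂ)
        else ((p ^ (Nat.card G).factorization p : ℕ) : ℂ) * (χ : G → ℂ) x with hθ
  have hgen : Cfsg.IsGeneralizedCharacter G θ := truncated_irr_isGeneralizedCharacter p χ.2
  have hint : ∀ ψ : Cfsg.IrrCharacter G, ∃ c : ℤ, Cfsg.classInner θ (ψ : G → ℂ) = c :=
    fun ψ => IsGeneralizedCharacter.classInner_irr_int hgen ψ.2
  choose a ha using hint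
  refine ⟨a, ?_, ?_⟩
  · intro ψ hψ
    have h0 := sum_pregular_eq_zero hM p hpM B hB χ ψ hχ hψ
    have h1 : Cfsg.classInner θ (ψ : G → ℂ) = 0 := by
      rw [classInner_def]
      have h2 : ∑ g : G, θ g * conj ((ψ : G → ℂ) g) =
          ((p ^ (Nat.card G).factorization p : ℕ) : ℂ) * ∑ x : G,
            (if p ∣ orderOf x then (0 : ℂ) else (χ : G → ℂ) x * conj ((ψ : G → ℂ) x)) := by
        rw [Finset.mul_sum]
        apply Finset.sum_congr rfl
        intro g _
        rw [hθ]
        simp only
        split_ifs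
        · rw [zero_mul, mul_zero]
        · ring
      rw [h2, h0, mul_zero, mul_zero]
    rw [ha ψ] at h1
    exact_mod_cast h1
  · have hexp := classFunction_expansion θ (IsGeneralizedCharacter.isClassFunction hgen)
    funext x
    rw [finsum_eq_sum_of_fintype]
    have := congrFun hexp x
    rw [Finset.sum_apply] at this
    rw [this]
    apply Finset.sum_congr rfl
    intro ψ _
    rw [Pi.smul_apply, smul_eq_mul, ha ψ]

end Cfsg.Agent.Helper6
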