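import Mathlib
import Cfsg.Prelude.Def_Characters
import Cfsg.Prelude.Def_Blocks
import Cfsg.Prelude.Def_BlockRank
import Cfsg.Agent.Helper6.TruncBlock
import Cfsg.Agent.Helper6.CenterDvd
import Cfsg.Agent.Helper6.BlockKernel
import Cfsg.Agent.Helper6.DefectZeroBlock

/-!
# `p^d` times the `p`-regular truncation stays in the integer span of the block
-/

set_option autoImplicit false
set_option linter.style.haveILetI false

namespace Cfsg.Agent.Helper6

open Module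
open scoped ComplexConjugate

universe u

variable {G : Type u} [Group G] {M : Ideal Cfsg.AlgInt}

/-- For a class function `a` with algebraic integer values and an irreducible character `χ`, the
number `(Σ a(x) χ(x)) / χ(1)` is an algebraic integer. -/
theorem isIntegral_sum_classFunction_mul_div [Fintype G] (a : G → ℂ)
    (ha : Cfsg.IsClassFunction G a) (hint : ∀ g, IsIntegral ℤ (a g)) {χ : G → ℂ}
    (hχ : Cfsg.IsIrrCharacter G χ) :
    ∃ β : ℂ, IsIntegral ℤ β ∧ ∑ x : G, a x * χ x = χ 1 * β := by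
  obtain ⟨n, ρ, hirr, rfl⟩ := hχ
  haveI := hirr
  haveI : Nontrivial (Fin n → ℂ) := irr_nontrivial ρ
  obtain ⟨c, hc, hc2⟩ := sum_classFunction_smul_rep ρ a ha
  refine ⟨c, ?_, ?_⟩
  · apply isIntegral_of_smul_id (V := Fin n → ℂ) c
    rw [← hc]
    exact isIntegral_sum_smul_rep ρ Finset.univ a hint
  · rw [← hc2, Representation.char_one, mul_comm]

/-- An integer `c` with `m c = p^h k β`, `β` an algebraic integer, `p ∤ m`, is divisible by
`p^h`. -/
theorem pow_dvd_of_isIntegral (p : ℕ) (hp : p.Prime) (h m k : ℕ) (hm : ¬ p ∣ m) (c : ℤ) (β : ℂ)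
    (hβ : IsIntegral ℤ β) (heq : (m : ℂ) * (c : ℂ) = ((p ^ h * k : ℕ) : ℂ) * β) :
    (p : ℤ) ^ h ∣ c := by
  have hph0 : ((p : ℂ) ^ h) ≠ 0 := pow_ne_zero _ (by exact_mod_cast hp.ne_zero)
  have hkβ : IsIntegral ℤ ((k : ℂ) * β) := by
    apply IsIntegral.mul _ hβ
    exact isIntegral_algebraMap (R := ℤ) (A := ℂ) (x := (k : ℤ)) |> fun h => by simpa using h
  have hq : (k : ℂ) * β = ((((m : ℤ) * c : ℤ) : ℚ) / ((p : ℚ) ^ h) : ℚ) := by
    push_cast
    rw [eq_div_iff hph0, heq]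
    push_cast
    ring
  rw [hq] at hkβ
  have h' : IsIntegral ℤ ((((m : ℤ) * c : ℤ) : ℚ) / ((p : ℚ) ^ h)) :=
    (isIntegral_algebraMap_iff (algebraMap ℚ ℂ).injective).mp hkβ
  obtain ⟨n, hn⟩ := IsIntegrallyClosed.isIntegral_iff.mp h'
  have hpQ : ((p : ℚ) ^ h) ≠ 0 := pow_ne_zero _ (by exact_mod_cast hp.ne_zero)
  have h2 : (((m : ℤ) * c : ℤ) : ℚ) = ((p : ℚ) ^ h) * n := by
    have : (n : ℚ) = (((m : ℤ) * c : ℤ) : ℚ) / ((p : ℚ) ^ h) := hn
    rw [this]
    field_simp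
  have h3 : (m : ℤ) * c = (p : ℤ) ^ h * n := by exact_mod_cast h2
  have hcop : IsCoprime ((p : ℤ) ^ h) (m : ℤ) := by
    apply IsCoprime.pow_left
    exact Nat.isCoprime_iff_coprime.mpr ((Nat.Prime.coprime_iff_not_dvd hp).mpr hm)
  exact hcop.dvd_of_dvd_mul_left ⟨n, h3⟩

/-- The truncation of a member of `B`, scaled by `p^d`, in terms of `B`. -/
theorem pow_defect_truncated_irr [Fintype G] [Fintype (Cfsg.IrrCharacter G)] (hM : M.IsMaximal)
    (p : ℕ) [hp : Fact p.Prime] (hpM : (p : Cfsg.AlgInt) ∈ M) (B : Set (Cfsg.IrrCharacter G))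
    (hB : Cfsg.IsPBlock M B) (χ : Cfsg.IrrCharacter G) (hχ : χ ∈ B) :
    ∃ e : Cfsg.IrrCharacter G → ℤ, (∀ ψ, ψ ∉ B → e ψ = 0) ∧ ∀ g : G,
      ((p : ℂ) ^ Cfsg.blockDefect p B) * (if p ∣ orderOf g then (0 : ℂ) else (χ : G → ℂ) g) =
        ∑ ψ : Cfsg.IrrCharacter G, (e ψ : ℂ) * (ψ : G → ℂ) g := by
  classical
  set a := (Nat.card G).factorization p with ha
  set θ : G → ℂ := fun x : G => if p ∣ orderOf x then (0 : ℂ)
        else ((p ^ a : ℕ) : ℂ) * (χ : G → ℂ) x with hθ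
  have hgen : Cfsg.IsGeneralizedCharacter G θ := truncated_irr_isGeneralizedCharacter p χ.2
  have hint : ∀ ψ : Cfsg.IrrCharacter G, ∃ c : ℤ, Cfsg.classInner θ (ψ : G → ℂ) = c :=
    fun ψ => IsGeneralizedCharacter.classInner_irr_int hgen ψ.2
  choose c hc using hint
  have hG0 : Nat.card G ≠ 0 := Nat.card_pos.ne'
  have hGC : (Nat.card G : ℂ) ≠ 0 := by exact_mod_cast hG0
  -- the p-part data
  set S := (fun ξ : Cfsg.IrrCharacter G => (Cfsg.charDegree (ξ : G → ℂ)).factorization p) '' B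
    with hS
  set h := sInf S with hh
  have hhle : h ≤ (Cfsg.charDegree (χ : G → ℂ)).factorization p :=
    Nat.sInf_le ⟨χ, hχ, rfl⟩
  obtain ⟨K, -, -, hdpos, hdeg, -⟩ := exists_kernel_data χ.2
  have hddvd := charDegree_dvd_card χ.2
  have hfle : (Cfsg.charDegree (χ : G → ℂ)).factorization p ≤ a :=
    (Nat.factorization_le_iff_dvd hdpos.ne' hG0).mpr hddvd p
  have hha : h ≤ a := hhle.trans hfle
  have hdef : Cfsg.blockDefect p B = a - h := rfl
  obtain ⟨k, hk⟩ : p ^ h ∣ Cfsg.charDegree (χ : G → ℂ) :=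
    (pow_dvd_pow p hhle).trans (Nat.ordProj_dvd _ p)
  obtain ⟨m, hm⟩ := Nat.ordProj_dvd (Nat.card G) p
  have hmp : ¬ p ∣ m := by
    intro hdiv
    have h1 : p ^ (a + 1) ∣ Nat.card G := by
      rw [pow_succ]
      exact (Nat.mul_dvd_mul_left _ hdiv).trans (dvd_of_eq hm.symm)
    exact Nat.pow_succ_factorization_not_dvd hG0 hp.out h1
  -- divisibility of the coefficients
  have hdiv : ∀ ψ : Cfsg.IrrCharacter G, (p : ℤ) ^ h ∣ c ψ := by
    intro ψ
    have hcf : Cfsg.IsClassFunction G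
        (fun x : G => if p ∣ orderOf x then (0 : ℂ) else conj ((ψ : G → ℂ) x)) := by
      intro g t
      have ho : orderOf (t * g * t⁻¹) = orderOf g := by
        have := MulEquiv.orderOf_eq (MulAut.conj t) g
        simpa using this
      have hψcf := IsCharacter.isClassFunction (IsIrrCharacter.isCharacter ψ.2)
      simp only [ho, hψcf g t]
    have hcint : ∀ g : G, IsIntegral ℤ
        ((fun x : G => if p ∣ orderOf x then (0 : ℂ) else conj ((ψ : G → ℂ) x)) g) := by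
      intro g
      simp only
      split_ifs
      · exact isIntegral_zero
      · exact IsCharacter.conj_isIntegral (IsIrrCharacter.isCharacter ψ.2) g
    obtain ⟨β, hβ, hβeq⟩ := isIntegral_sum_classFunction_mul_div _ hcf hcint χ.2
    apply pow_dvd_of_isIntegral p hp.out h m k hmp (c ψ) β hβ
    have h1 := hc ψ
    rw [classInner_def] at h1
    have h2 : ∑ g : G, θ g * conj ((ψ : G → ℂ) g) = ((p ^ a : ℕ) : ℂ) *
        ∑ x : G, (fun x : G => if p ∣ orderOf x then (0 : ℂ) else conj ((ψ : G → ℂ) x)) x *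
          (χ : G → ℂ) x := by
      rw [Finset.mul_sum]
      apply Finset.sum_congr rfl
      intro g _
      rw [hθ]
      simp only
      split_ifs
      · rw [zero_mul, zero_mul, mul_zero]
      · ring
    rw [h2, hβeq, hdeg, hk] at h1
    have h3 : (Nat.card G : ℂ) = ((p ^ a : ℕ) : ℂ) * (m : ℂ) := by
      rw [← Nat.cast_mul]
      exact congrArg _ hm
    rw [h3] at h1
    have hpa0 : ((p ^ a : ℕ) : ℂ) ≠ 0 := by
      have : 0 < p ^ a := pow_pos hp.out.pos _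
      exact_mod_cast this.ne'
    have hm0 : (m : ℂ) ≠ 0 := by
      intro h0
      rw [h0, mul_zero] at h3
      exact hGC h3
    rw [← h1]
    field_simp
  choose e he using hdiv
  refine ⟨e, ?_, ?_⟩
  · intro ψ hψ
    have h0 := sum_pregular_eq_zero hM p hpM B hB χ ψ hχ hψ
    have h1 : Cfsg.classInner θ (ψ : G → ℂ) = 0 := by
      rw [classInner_def]
      have h2 : ∑ g : G, θ g * conj ((ψ : G → ℂ) g) =
          ((p ^ a : ℕ) : ℂ) * ∑ x : G,
            (if p ∣ orderOf x then (0 : ℂ) else (χ : G → ℂ) x * conj ((ψ : G → ℂ) x)) := by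
        rw [Finset.mul_sum]
        apply Finset.sum_congr rfl
        intro g _
        rw [hθ]
        simp only
        split_ifs
        · rw [zero_mul, mul_zero]
        · ring
      rw [h2, h0, mul_zero, mul_zero]
    rw [hc ψ] at h1
    have h2 : c ψ = 0 := by exact_mod_cast h1
    have h3 := he ψ
    rw [h2] at h3
    have hp0 : (p : ℤ) ^ h ≠ 0 := pow_ne_zero _ (by exact_mod_cast hp.out.ne_zero)
    rcases mul_eq_zero.mp h3.symm with h4 | h4
    · exact absurd h4 hp0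
    · exact h4
  · intro g
    have hexp := classFunction_expansion θ (IsGeneralizedCharacter.isClassFunction hgen)
    have h1 := congrFun hexp g
    rw [Finset.sum_apply] at h1
    have hph0 : ((p : ℂ) ^ h) ≠ 0 := pow_ne_zero _ (by exact_mod_cast hp.out.ne_zero)
    have h2 : θ g = (p : ℂ) ^ h * ((p : ℂ) ^ Cfsg.blockDefect p B *
        (if p ∣ orderOf g then (0 : ℂ) else (χ : G → ℂ) g)) := by
      rw [hθ, hdef]
      simp only
      split_ifs
      · rw [mul_zero, mul_zero]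
      · rw [← mul_assoc, ← pow_add, Nat.add_sub_cancel' hha]
        push_cast
        rfl
    have h3 : ∑ ψ : Cfsg.IrrCharacter G,
        (Cfsg.classInner θ (ψ : G → ℂ) • (ψ : G → ℂ)) g =
        (p : ℂ) ^ h * ∑ ψ : Cfsg.IrrCharacter G, (e ψ : ℂ) * (ψ : G → ℂ) g := by
      rw [Finset.mul_sum]
      apply Finset.sum_congr rfl
      intro ψ _
      rw [Pi.smul_apply, smul_eq_mul, hc ψ, he ψ]
      push_cast
      ring
    rw [h2, h3] at h1
    exact mul_left_cancel₀ hph0 h1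

/-- **S4666.** -/
theorem pow_defect_truncated [Fintype G] (hM : M.IsMaximal)
    (p : ℕ) [hp : Fact p.Prime] (hpM : (p : Cfsg.AlgInt) ∈ M) (B : Set (Cfsg.IrrCharacter G))
    (hB : Cfsg.IsPBlock M B) (χ : G → ℂ)
    (hχ : ∃ n : Cfsg.IrrCharacter G → ℤ, ∀ g : G,
      χ g = ∑ᶠ ψ ∈ B, (n ψ : ℂ) * (ψ : G → ℂ) g) :
    ∃ n : Cfsg.IrrCharacter G → ℤ, ∀ g : G,
      (p ^ Cfsg.blockDefect p B : ℂ) * Cfsg.pRegularPart p χ g =
        ∑ᶠ ψ ∈ B, (n ψ : ℂ) * (ψ : G → ℂ) g := by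
  classical
  haveI : Finite (Cfsg.IrrCharacter G) := irr_finite
  haveI : Fintype (Cfsg.IrrCharacter G) := Fintype.ofFinite _
  obtain ⟨n, hn⟩ := hχ
  have hex : ∀ ξ : Cfsg.IrrCharacter G, ∃ e : Cfsg.IrrCharacter G → ℤ,
      (∀ ψ, ψ ∉ B → e ψ = 0) ∧ (ξ ∈ B → ∀ g : G,
      ((p : ℂ) ^ Cfsg.blockDefect p B) * (if p ∣ orderOf g then (0 : ℂ) else (ξ : G → ℂ) g) =
        ∑ ψ : Cfsg.IrrCharacter G, (e ψ : ℂ) * (ψ : G → ℂ) g) := by
    intro ξ
    by_cases hξ : ξ ∈ B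
    · obtain ⟨e, he1, he2⟩ := pow_defect_truncated_irr hM p hpM B hB ξ hξ
      exact ⟨e, he1, fun _ => he2⟩
    · exact ⟨fun _ => 0, fun _ _ => rfl, fun h => absurd h hξ⟩
  choose e he1 he2 using hex
  refine ⟨fun ψ => ∑ ξ : Cfsg.IrrCharacter G, if ξ ∈ B then n ξ * e ξ ψ else 0, ?_⟩
  intro g
  rw [finsum_mem_eq_sum_ite]
  have hpr : Cfsg.pRegularPart p χ g = if p ∣ orderOf g then (0 : ℂ) else χ g := by
    unfold Cfsg.pRegularPart Cfsg.IsPRegular
    by_cases hg : p ∣ orderOf g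
    · rw [if_pos hg, if_neg (not_not.mpr hg)]
    · rw [if_neg hg, if_pos hg]
  rw [hpr, hn g, finsum_mem_eq_sum_ite]
  have h1 : ((p : ℂ) ^ Cfsg.blockDefect p B) * (if p ∣ orderOf g then (0 : ℂ) else
      ∑ ξ : Cfsg.IrrCharacter G, if ξ ∈ B then (n ξ : ℂ) * (ξ : G → ℂ) g else 0) =
      ∑ ξ : Cfsg.IrrCharacter G, if ξ ∈ B then (n ξ : ℂ) *
        ∑ ψ : Cfsg.IrrCharacter G, (e ξ ψ : ℂ) * (ψ : G → ℂ) g else 0 := by
    have h2 : (if p ∣ orderOf g then (0 : ℂ) else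
        ∑ ξ : Cfsg.IrrCharacter G, if ξ ∈ B then (n ξ : ℂ) * (ξ : G → ℂ) g else 0) =
        ∑ ξ : Cfsg.IrrCharacter G, if ξ ∈ B then (n ξ : ℂ) *
          (if p ∣ orderOf g then (0 : ℂ) else (ξ : G → ℂ) g) else 0 := by
      split_ifs with hg
      · simp
      · rfl
    rw [h2, Finset.mul_sum]
    apply Finset.sum_congr rfl
    intro ξ _
    by_cases hξ : ξ ∈ B
    · rw [if_pos hξ, if_pos hξ, ← he2 ξ hξ g]
      ring
    · rw [if_neg hξ, if_neg hξ, mul_zero]
  rw [h1]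
  have h3 : ∀ ξ : Cfsg.IrrCharacter G, (if ξ ∈ B then (n ξ : ℂ) *
        ∑ ψ : Cfsg.IrrCharacter G, (e ξ ψ : ℂ) * (ψ : G → ℂ) g else 0) =
      ∑ ψ : Cfsg.IrrCharacter G, if ξ ∈ B then (n ξ : ℂ) * (e ξ ψ : ℂ) * (ψ : G → ℂ) g else 0 := by
    intro ξ
    split_ifs
    · rw [Finset.mul_sum]
      apply Finset.sum_congr rfl
      intro ψ _
      ring
    · simp
  simp_rw [h3]
  rw [Finset.sum_comm]
  apply Finset.sum_congr rfl
  intro ψ _
  by_cases hψ : ψ ∈ B
  · rw [if_pos hψ]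
    push_cast
    rw [Finset.sum_mul]
    apply Finset.sum_congr rfl
    intro ξ _
    split_ifs
    · rfl
    · simp
  · rw [if_neg hψ]
    apply Finset.sum_eq_zero
    intro ξ _
    split_ifs
    · rw [he1 ξ ψ hψ]
      simp
    · rfl

end Cfsg.Agent.Helper6
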