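import Mathlib
import Cfsg.Prelude.Def_Characters
import Cfsg.Prelude.Def_Blocks
import Cfsg.Agent.Helper6.TruncBlock2
import Cfsg.Agent.Helper6.BrauerPair
import Cfsg.Agent.Helper6.ColumnOrth
import Cfsg.Agent.Helper6.PRegularSylow
import Cfsg.Agent.Helper6.InducedPart
import Cfsg.Agent.Helper6.DefectClassValues
import Cfsg.Agent.Helper6.BlockEquiv

/-!
# Height zero characters and truncated inner products

For irreducible characters `χ, ξ` put `T(χ, ξ) = Σ_{x p-regular} conj χ(x) ξ(x)`.  Then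
`T(χ, ξ) / ξ(1)` is a local integer whose residue depends only on the block of `ξ`, and `χ` has
height zero in its block `B` iff `T(χ, χ) / χ(1)` is a local unit.
-/

set_option autoImplicit false
set_option linter.style.haveILetI false

namespace Cfsg.Agent.Helper6

open Module
open scoped ComplexConjugate

universe u

variable {G : Type u} [Group G] {M : Ideal Cfsg.AlgInt}

/-- the conjugate of `χ`, truncated to the `p`-regular elements -/
noncomputable def truncConj (p : ℕ) (χ : G → ℂ) : G → ℂ :=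
  fun x => if p ∣ orderOf x then 0 else conj (χ x)

/-- `T(χ, ξ) = Σ_{x p-regular} conj χ(x) ξ(x)` -/
noncomputable def truncSum [Fintype G] (p : ℕ) (χ ξ : G → ℂ) : ℂ :=
  ∑ x : G, truncConj p χ x * ξ x

theorem truncConj_isClassFunction (p : ℕ) {χ : G → ℂ} (hχ : Cfsg.IsClassFunction G χ) :
    Cfsg.IsClassFunction G (truncConj p χ) := by
  intro g t
  have ho : orderOf (t * g * t⁻¹) = orderOf g := by
    have := MulEquiv.orderOf_eq (MulAut.conj t) g
    simpa using this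
  unfold truncConj
  simp only [ho, hχ g t]

theorem truncConj_isIntegral [Finite G] (p : ℕ) {χ : G → ℂ} (hχ : Cfsg.IsCharacter G χ) (g : G) :
    IsIntegral ℤ (truncConj p χ g) := by
  unfold truncConj
  split_ifs
  · exact isIntegral_zero
  · exact IsCharacter.conj_isIntegral hχ g

theorem truncSum_conj [Fintype G] (p : ℕ) (χ ξ : G → ℂ) :
    conj (truncSum p χ ξ) = truncSum p ξ χ := by
  unfold truncSum truncConj
  rw [map_sum]
  apply Finset.sum_congr rfl
  intro x _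
  split_ifs
  · simp
  · rw [map_mul, Complex.conj_conj, mul_comm]

/-- `T(χ, ξ) / ξ(1)` is a local integer -/
theorem truncSum_div_memLocalRing [Fintype G] (hM : M.IsMaximal) (p : ℕ) {χ ξ : G → ℂ}
    (hχ : Cfsg.IsCharacter G χ) (hξ : Cfsg.IsIrrCharacter G ξ) :
    Cfsg.MemLocalRing M (truncSum p χ ξ / ξ 1) := by
  obtain ⟨β, hβ, hβeq⟩ := isIntegral_sum_classFunction_mul_div (truncConj p χ)
    (truncConj_isClassFunction p (IsCharacter.isClassFunction hχ))
    (truncConj_isIntegral p hχ) hξ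
  have h1 : ξ 1 ≠ 0 := IsIrrCharacter.apply_one_ne_zero hξ
  have h2 : truncSum p χ ξ / ξ 1 = β := by
    unfold truncSum
    rw [hβeq, mul_div_cancel_left₀ _ h1]
  rw [h2]
  exact memLocalRing_of_isIntegral hM hβ

/-- the residue of `T(χ, ξ) / ξ(1)` depends only on the block of `ξ` -/
theorem truncSum_div_congr [Fintype G] (hM : M.IsMaximal) (p : ℕ) {χ ξ ξ' : G → ℂ}
    (hχ : Cfsg.IsCharacter G χ) (hξ : Cfsg.IsIrrCharacter G ξ) (hξ' : Cfsg.IsIrrCharacter G ξ')
    (h : Cfsg.SameBlock M ξ ξ') :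
    Cfsg.MemLocalIdeal M (truncSum p χ ξ / ξ 1 - truncSum p χ ξ' / ξ' 1) := by
  have h1 := sum_mul_sub_of_sameBlock hM (truncConj p χ)
    (truncConj_isClassFunction p (IsCharacter.isClassFunction hχ))
    (fun t => memLocalRing_of_isIntegral hM (truncConj_isIntegral p hχ t)) ξ ξ'
    (IsCharacter.isClassFunction (IsIrrCharacter.isCharacter hξ))
    (IsCharacter.isClassFunction (IsIrrCharacter.isCharacter hξ')) h
  have h2 : truncSum p χ ξ / ξ 1 - truncSum p χ ξ' / ξ' 1 =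
      ∑ t, truncConj p χ t * (ξ t / ξ 1 - ξ' t / ξ' 1) := by
    unfold truncSum
    rw [Finset.sum_div, Finset.sum_div, ← Finset.sum_sub_distrib]
    apply Finset.sum_congr rfl
    intro t _
    ring
  rw [h2]
  exact h1


/-- the scaled truncation of `χ` -/
noncomputable def truncScaled (p : ℕ) (χ : G → ℂ) : G → ℂ :=
  fun x : G => if p ∣ orderOf x then (0 : ℂ)
    else ((p ^ (Nat.card G).factorization p : ℕ) : ℂ) * χ x

theorem classInner_truncScaled [Fintype G] (p : ℕ) (χ ξ : G → ℂ) :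
    Cfsg.classInner (truncScaled p χ) ξ =
      (Nat.card G : ℂ)⁻¹ * (((p ^ (Nat.card G).factorization p : ℕ) : ℂ) *
        conj (truncSum p χ ξ)) := by
  rw [classInner_def]
  congr 1
  unfold truncSum truncConj truncScaled
  rw [map_sum, Finset.mul_sum]
  apply Finset.sum_congr rfl
  intro x _
  split_ifs
  · simp
  · rw [map_mul, Complex.conj_conj]
    ring

/-- the integer attached to a pair of irreducible characters -/
theorem exists_truncInt [Fintype G] (p : ℕ) [hp : Fact p.Prime] {χ ξ : G → ℂ}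
    (hχ : Cfsg.IsIrrCharacter G χ) (hξ : Cfsg.IsIrrCharacter G ξ) :
    ∃ n : ℤ, Cfsg.classInner (truncScaled p χ) ξ = n ∧
      truncSum p χ ξ = ((Nat.card G / p ^ (Nat.card G).factorization p : ℕ) : ℂ) * n ∧
      truncSum p ξ χ = ((Nat.card G / p ^ (Nat.card G).factorization p : ℕ) : ℂ) * n := by
  have hgen : Cfsg.IsGeneralizedCharacter G (truncScaled p χ) :=
    truncated_irr_isGeneralizedCharacter p hχ
  obtain ⟨n, hn⟩ := IsGeneralizedCharacter.classInner_irr_int hgen hξ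
  have hG0 : Nat.card G ≠ 0 := Nat.card_pos.ne'
  have hGC : (Nat.card G : ℂ) ≠ 0 := by exact_mod_cast hG0
  set a := (Nat.card G).factorization p with ha
  have hm : p ^ a * (Nat.card G / p ^ a) = Nat.card G := Nat.ordProj_mul_ordCompl_eq_self _ p
  have hpa0 : ((p ^ a : ℕ) : ℂ) ≠ 0 := by
    have : 0 < p ^ a := pow_pos hp.out.pos _
    exact_mod_cast this.ne'
  have hmC : (Nat.card G : ℂ) = ((p ^ a : ℕ) : ℂ) * ((Nat.card G / p ^ a : ℕ) : ℂ) := by
    rw [← Nat.cast_mul, hm]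
  have h1 : conj (truncSum p χ ξ) = ((Nat.card G / p ^ a : ℕ) : ℂ) * n := by
    have h2 := classInner_truncScaled p χ ξ
    rw [hn] at h2
    have h3 : (Nat.card G : ℂ) * (n : ℂ) = ((p ^ a : ℕ) : ℂ) * conj (truncSum p χ ξ) := by
      rw [h2, ← mul_assoc, mul_inv_cancel₀ hGC, one_mul]
    rw [hmC, mul_assoc] at h3
    exact (mul_left_cancel₀ hpa0 h3).symm
  have h4 : truncSum p χ ξ = ((Nat.card G / p ^ a : ℕ) : ℂ) * n := by
    have := congrArg conj h1
    rw [Complex.conj_conj] at this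
    rw [this]
    simp
  refine ⟨n, hn, h4, ?_⟩
  rw [← truncSum_conj, h1]


/-- a `p`-regular element conjugate to an element of a `p`-subgroup is trivial -/
theorem eq_one_of_isConj_pgroup (p : ℕ) [hp : Fact p.Prime] (P : Subgroup G) (hP : IsPGroup p P)
    (u : P) (x : G) (hx : ¬ p ∣ orderOf x) (h : IsConj (u : G) x) : (u : G) = 1 ∧ x = 1 := by
  obtain ⟨c, hc⟩ := isConj_iff.mp h
  have ho : orderOf x = orderOf (u : G) := by
    rw [← hc]
    have := MulEquiv.orderOf_eq (MulAut.conj c) (u : G)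
    simpa using this
  obtain ⟨k, hk⟩ := (IsPGroup.iff_orderOf.mp hP) u
  rw [← Subgroup.orderOf_coe] at hk
  have hk0 : k = 0 := by
    by_contra hk0
    apply hx
    rw [ho, hk]
    exact dvd_pow_self p hk0
  rw [hk0, pow_zero, orderOf_eq_one_iff] at hk
  refine ⟨hk, ?_⟩
  rw [← hc, hk]
  group

/-- a weighted sum of the truncated conjugates of the irreducible characters is a multiple of the
indicator function of the identity -/
theorem exists_weights_truncConj [Fintype G] [DecidableEq G] [Fintype (Cfsg.IrrCharacter G)]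
    (p : ℕ) [hp : Fact p.Prime] :
    ∃ w : Cfsg.IrrCharacter G → ℕ, ∀ x : G,
      ((p ^ (Nat.card G).factorization p : ℕ) : ℂ) *
        ∑ ξ : Cfsg.IrrCharacter G, (w ξ : ℂ) * truncConj p (ξ : G → ℂ) x =
      if x = 1 then (Nat.card G : ℂ) else 0 := by
  classical
  obtain ⟨P⟩ : Nonempty (Sylow p G) := inferInstance
  have hcard : Nat.card (P : Subgroup G) = p ^ (Nat.card G).factorization p :=
    Sylow.card_eq_multiplicity P
  have hex : ∀ ξ : Cfsg.IrrCharacter G, ∃ m : ℕ,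
      ∑ u : (P : Subgroup G), (ξ : G → ℂ) u = (Nat.card (P : Subgroup G) : ℂ) * m :=
    fun ξ => sum_subgroup_char_eq (P : Subgroup G) (IsIrrCharacter.isCharacter ξ.2)
  choose w hw using hex
  refine ⟨w, ?_⟩
  intro x
  rw [← hcard]
  by_cases hx : p ∣ orderOf x
  · have hx1 : x ≠ 1 := by
      rintro rfl
      rw [orderOf_one] at hx
      exact hp.out.one_lt.ne' (Nat.dvd_one.mp hx)
    rw [if_neg hx1]
    have : ∀ ξ : Cfsg.IrrCharacter G, (w ξ : ℂ) * truncConj p (ξ : G → ℂ) x = 0 := by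
      intro ξ
      unfold truncConj
      rw [if_pos hx, mul_zero]
    rw [Finset.sum_congr rfl (fun ξ _ => this ξ), Finset.sum_const_zero, mul_zero]
  · have h1 : (Nat.card (P : Subgroup G) : ℂ) *
        ∑ ξ : Cfsg.IrrCharacter G, (w ξ : ℂ) * truncConj p (ξ : G → ℂ) x =
        ∑ u : (P : Subgroup G), ∑ ξ : Cfsg.IrrCharacter G,
          (ξ : G → ℂ) (u : G) * conj ((ξ : G → ℂ) x) := by
      rw [Finset.sum_comm, Finset.mul_sum]
      apply Finset.sum_congr rfl
      intro ξ _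
      rw [← Finset.sum_mul, hw ξ]
      unfold truncConj
      rw [if_neg hx]
      ring
    rw [h1]
    have h2 : ∀ u : (P : Subgroup G), ∑ ξ : Cfsg.IrrCharacter G,
        (ξ : G → ℂ) (u : G) * conj ((ξ : G → ℂ) x) =
        if u = 1 then (if x = 1 then (Nat.card G : ℂ) else 0) else 0 := by
      intro u
      rw [column_orthogonality_aux]
      by_cases hc : IsConj (u : G) x
      · obtain ⟨hu1, hx1⟩ := eq_one_of_isConj_pgroup p (P : Subgroup G) P.2 u x hx hc
        have hu1' : u = 1 := Subtype.ext hu1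
        rw [if_pos hc, if_pos hu1', if_pos hx1, hu1]
        congr 1
        have : Subgroup.centralizer ({(1 : G)} : Set G) = ⊤ := by
          ext y
          simp [Subgroup.mem_centralizer_iff]
        rw [this, Subgroup.card_top]
      · rw [if_neg hc]
        by_cases hu1 : u = 1
        · rw [if_pos hu1]
          by_cases hx1 : x = 1
          · exfalso
            apply hc
            rw [hu1, hx1, Subgroup.coe_one]
          · rw [if_neg hx1]
        · rw [if_neg hu1]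
    rw [Finset.sum_congr rfl (fun u _ => h2 u), Finset.sum_ite_eq' Finset.univ (1 : (P : Subgroup G)),
      if_pos (Finset.mem_univ _)]


/-- for every irreducible `χ` some `T(ξ, χ) / χ(1)` is a local unit -/
theorem exists_truncSum_not_mem [Fintype G] {p : ℕ} [hp : Fact p.Prime]
    (hM : Cfsg.IsPModular p M) {χ : G → ℂ} (hχ : Cfsg.IsIrrCharacter G χ) :
    ∃ ξ : Cfsg.IrrCharacter G, ¬ Cfsg.MemLocalIdeal M (truncSum p (ξ : G → ℂ) χ / χ 1) := by
  classical
  haveI : Finite (Cfsg.IrrCharacter G) := irr_finite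
  haveI : Fintype (Cfsg.IrrCharacter G) := Fintype.ofFinite _
  by_contra hcon
  push Not at hcon
  obtain ⟨w, hw⟩ := exists_weights_truncConj (G := G) p
  set a := (Nat.card G).factorization p with ha
  have hG0 : Nat.card G ≠ 0 := Nat.card_pos.ne'
  have hm : p ^ a * (Nat.card G / p ^ a) = Nat.card G := Nat.ordProj_mul_ordCompl_eq_self _ p
  have hmp : ¬ p ∣ Nat.card G / p ^ a := Nat.not_dvd_ordCompl hp.out hG0
  have hpa0 : ((p ^ a : ℕ) : ℂ) ≠ 0 := by
    have : 0 < p ^ a := pow_pos hp.out.pos _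
    exact_mod_cast this.ne'
  have hχ1 : χ 1 ≠ 0 := IsIrrCharacter.apply_one_ne_zero hχ
  have h1 : ((p ^ a : ℕ) : ℂ) * ∑ ξ : Cfsg.IrrCharacter G,
      (w ξ : ℂ) * truncSum p (ξ : G → ℂ) χ = (Nat.card G : ℂ) * χ 1 := by
    have h2 : ∑ ξ : Cfsg.IrrCharacter G, (w ξ : ℂ) * truncSum p (ξ : G → ℂ) χ =
        ∑ x : G, (∑ ξ : Cfsg.IrrCharacter G, (w ξ : ℂ) * truncConj p (ξ : G → ℂ) x) * χ x := by
      unfold truncSum
      simp_rw [Finset.mul_sum, Finset.sum_mul]
      rw [Finset.sum_comm]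
      apply Finset.sum_congr rfl
      intro x _
      apply Finset.sum_congr rfl
      intro ξ _
      ring
    rw [h2, Finset.mul_sum]
    have h3 : ∀ x : G, ((p ^ a : ℕ) : ℂ) *
        ((∑ ξ : Cfsg.IrrCharacter G, (w ξ : ℂ) * truncConj p (ξ : G → ℂ) x) * χ x) =
        if x = 1 then (Nat.card G : ℂ) * χ 1 else 0 := by
      intro x
      rw [← mul_assoc, hw x]
      by_cases hx : x = 1
      · rw [if_pos hx, if_pos hx, hx]
      · rw [if_neg hx, if_neg hx, zero_mul]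
    rw [Finset.sum_congr rfl (fun x _ => h3 x), Finset.sum_ite_eq' Finset.univ (1 : G),
      if_pos (Finset.mem_univ _)]
  have h4 : ∑ ξ : Cfsg.IrrCharacter G, (w ξ : ℂ) * (truncSum p (ξ : G → ℂ) χ / χ 1) =
      ((Nat.card G / p ^ a : ℕ) : ℂ) := by
    have hmC : (Nat.card G : ℂ) = ((p ^ a : ℕ) : ℂ) * ((Nat.card G / p ^ a : ℕ) : ℂ) := by
      rw [← Nat.cast_mul, hm]
    rw [hmC, mul_assoc] at h1
    have h5 := mul_left_cancel₀ hpa0 h1
    have h6 : ∑ ξ : Cfsg.IrrCharacter G, (w ξ : ℂ) * (truncSum p (ξ : G → ℂ) χ / χ 1) =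
        (∑ ξ : Cfsg.IrrCharacter G, (w ξ : ℂ) * truncSum p (ξ : G → ℂ) χ) / χ 1 := by
      rw [Finset.sum_div]
      apply Finset.sum_congr rfl
      intro ξ _
      ring
    rw [h6, h5, mul_div_assoc, div_self hχ1, mul_one]
  have h7 : Cfsg.MemLocalIdeal M (((Nat.card G / p ^ a : ℕ) : ℂ)) := by
    rw [← h4]
    apply MemLocalIdeal.sum hM.2.1
    intro ξ _
    exact MemLocalIdeal.mul_left hM.2.1 (memLocalRing_natCast hM.2.1 _) (hcon ξ)
  exact hmp (dvd_of_memLocalIdeal_natCast hM _ h7)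

section Arith

variable {p : ℕ} [hp : Fact p.Prime]

theorem memLocalRing_natCast_div_iff (hM : Cfsg.IsPModular p M) (n d : ℕ) (hn : n ≠ 0)
    (hd : d ≠ 0) :
    Cfsg.MemLocalRing M ((n : ℂ) / (d : ℂ)) ↔ d.factorization p ≤ n.factorization p := by
  set j := n.factorization p with hj
  set k := d.factorization p with hk
  have hn' : p ^ j * (n / p ^ j) = n := Nat.ordProj_mul_ordCompl_eq_self n p
  have hd' : p ^ k * (d / p ^ k) = d := Nat.ordProj_mul_ordCompl_eq_self d p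
  have hnd : ¬ p ∣ n / p ^ j := Nat.not_dvd_ordCompl hp.1 hn
  have hdd : ¬ p ∣ d / p ^ k := Nat.not_dvd_ordCompl hp.1 hd
  have hp0 : (p : ℂ) ≠ 0 := by exact_mod_cast hp.1.ne_zero
  have hd0 : (d : ℂ) ≠ 0 := by exact_mod_cast hd
  have hd'0 : ((d / p ^ k : ℕ) : ℂ) ≠ 0 := by
    intro h0
    apply hdd
    have : d / p ^ k = 0 := by exact_mod_cast h0
    rw [this]
    exact dvd_zero p
  constructor
  · intro h
    by_contra hlt
    push Not at hlt
    apply hnd
    apply dvd_of_memLocalIdeal_natCast hM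
    have e : ((n / p ^ j : ℕ) : ℂ) = ((d / p ^ k : ℕ) : ℂ) * ((n : ℂ) / (d : ℂ)) *
        (((p ^ (k - j) : ℕ) : ℕ) : ℂ) := by
      rw [mul_div_assoc', div_mul_eq_mul_div, eq_div_iff hd0]
      have h1 : (n / p ^ j) * d = (d / p ^ k) * n * p ^ (k - j) := by
        calc (n / p ^ j) * d = (n / p ^ j) * (p ^ k * (d / p ^ k)) := by rw [hd']
          _ = (n / p ^ j) * (p ^ (k - j + j) * (d / p ^ k)) := by
              rw [Nat.sub_add_cancel hlt.le]
          _ = (d / p ^ k) * (p ^ j * (n / p ^ j)) * p ^ (k - j) := by rw [pow_add]; ring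
          _ = (d / p ^ k) * n * p ^ (k - j) := by rw [hn']
      exact_mod_cast h1
    rw [e]
    apply MemLocalIdeal.mul_left hM.2.1
      (MemLocalRing.mul hM.2.1 (memLocalRing_natCast hM.2.1 _) h)
    have hkj : k - j ≠ 0 := Nat.sub_ne_zero_of_lt hlt
    obtain ⟨t, ht⟩ := Nat.exists_eq_succ_of_ne_zero hkj
    rw [ht, pow_succ, Nat.cast_mul]
    exact MemLocalIdeal.mul_left hM.2.1 (memLocalRing_natCast hM.2.1 _) (memLocalIdeal_prime hM)
  · intro hle
    have e : (n : ℂ) / (d : ℂ) = ((p ^ (j - k) * (n / p ^ j) : ℕ) : ℂ) / ((d / p ^ k : ℕ) : ℂ) := by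
      rw [div_eq_div_iff hd0 hd'0]
      have h1 : n * (d / p ^ k) = p ^ (j - k) * (n / p ^ j) * d := by
        calc n * (d / p ^ k) = p ^ j * (n / p ^ j) * (d / p ^ k) := by rw [hn']
          _ = p ^ (j - k + k) * (n / p ^ j) * (d / p ^ k) := by rw [Nat.sub_add_cancel hle]
          _ = p ^ (j - k) * (n / p ^ j) * (p ^ k * (d / p ^ k)) := by rw [pow_add]; ring
          _ = p ^ (j - k) * (n / p ^ j) * d := by rw [hd']
      exact_mod_cast h1
    rw [e]
    exact memLocalRing_natCast_div hM.2.1 p hp.1 hM.2.2 _ _ hdd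

theorem memLocalIdeal_natCast_div_iff (hM : Cfsg.IsPModular p M) (n d : ℕ) (hn : n ≠ 0)
    (hd : d ≠ 0) :
    Cfsg.MemLocalIdeal M ((n : ℂ) / (d : ℂ)) ↔ d.factorization p < n.factorization p := by
  constructor
  · intro h
    rcases factorization_lt_of_memLocalIdeal_div hM n d hd h with h0 | h0
    · exact absurd h0 hn
    · exact h0
  · intro hlt
    set j := n.factorization p with hj
    set k := d.factorization p with hk
    have hn' : p ^ j * (n / p ^ j) = n := Nat.ordProj_mul_ordCompl_eq_self n p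
    have hd' : p ^ k * (d / p ^ k) = d := Nat.ordProj_mul_ordCompl_eq_self d p
    have hdd : ¬ p ∣ d / p ^ k := Nat.not_dvd_ordCompl hp.1 hd
    have hd0 : (d : ℂ) ≠ 0 := by exact_mod_cast hd
    have hd'0 : ((d / p ^ k : ℕ) : ℂ) ≠ 0 := by
      intro h0
      apply hdd
      have : d / p ^ k = 0 := by exact_mod_cast h0
      rw [this]
      exact dvd_zero p
    obtain ⟨t, ht⟩ := Nat.exists_eq_succ_of_ne_zero (Nat.sub_ne_zero_of_lt hlt)
    have e : (n : ℂ) / (d : ℂ) =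
        (p : ℂ) * (((p ^ t * (n / p ^ j) : ℕ) : ℂ) / ((d / p ^ k : ℕ) : ℂ)) := by
      rw [mul_div_assoc', div_eq_div_iff hd0 hd'0]
      have h1 : n * (d / p ^ k) = p * (p ^ t * (n / p ^ j)) * d := by
        calc n * (d / p ^ k) = p ^ j * (n / p ^ j) * (d / p ^ k) := by rw [hn']
          _ = p ^ (j - k + k) * (n / p ^ j) * (d / p ^ k) := by rw [Nat.sub_add_cancel hlt.le]
          _ = p ^ (t + 1 + k) * (n / p ^ j) * (d / p ^ k) := by rw [ht]
          _ = p * (p ^ t * (n / p ^ j)) * (p ^ k * (d / p ^ k)) := by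
              rw [pow_add, pow_succ]; ring
          _ = p * (p ^ t * (n / p ^ j)) * d := by rw [hd']
      exact_mod_cast h1
    rw [e, mul_comm]
    exact MemLocalIdeal.mul_left hM.2.1 (memLocalRing_natCast_div hM.2.1 p hp.1 hM.2.2 _ _ hdd)
      (memLocalIdeal_prime hM)


theorem factorization_mul_natAbs (m : ℕ) (n : ℤ) (hm : ¬ p ∣ m) (hn : n ≠ 0) :
    (m * n.natAbs).factorization p = padicValInt p n := by
  have hm0 : m ≠ 0 := by
    rintro rfl
    exact hm (dvd_zero p)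
  have hk0 : n.natAbs ≠ 0 := Int.natAbs_ne_zero.mpr hn
  rw [Nat.factorization_mul hm0 hk0, Finsupp.add_apply,
    Nat.factorization_eq_zero_of_not_dvd hm, zero_add, Nat.factorization_def _ hp.1]
  rfl

theorem mul_int_div_memLocalRing_imp (hM : Cfsg.IsPModular p M) (m d : ℕ) (n : ℤ)
    (hm : ¬ p ∣ m) (hd : d ≠ 0) (hn : n ≠ 0)
    (h : Cfsg.MemLocalRing M ((m : ℂ) * (n : ℂ) / (d : ℂ))) :
    d.factorization p ≤ padicValInt p n := by
  have hm0 : m ≠ 0 := by
    rintro rfl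
    exact hm (dvd_zero p)
  have hk0 : n.natAbs ≠ 0 := Int.natAbs_ne_zero.mpr hn
  rw [← factorization_mul_natAbs m n hm hn]
  apply (memLocalRing_natCast_div_iff hM (m * n.natAbs) d (Nat.mul_ne_zero hm0 hk0) hd).mp
  rcases Int.natAbs_eq n with h1 | h1
  · have hc : (n : ℂ) = ((n.natAbs : ℕ) : ℂ) := by
      have h2 : (n : ℂ) = (((n.natAbs : ℤ) : ℤ) : ℂ) := congrArg (fun z : ℤ => (z : ℂ)) h1
      rw [h2, Int.cast_natCast]
    have : ((m * n.natAbs : ℕ) : ℂ) = (m : ℂ) * (n : ℂ) := by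
      rw [Nat.cast_mul, hc]
    rw [this]
    exact h
  · have hc : (n : ℂ) = -((n.natAbs : ℕ) : ℂ) := by
      have h2 : (n : ℂ) = ((-(n.natAbs : ℤ) : ℤ) : ℂ) := congrArg (fun z : ℤ => (z : ℂ)) h1
      rw [h2, Int.cast_neg, Int.cast_natCast]
    have : ((m * n.natAbs : ℕ) : ℂ) / (d : ℂ) = -((m : ℂ) * (n : ℂ) / (d : ℂ)) := by
      rw [Nat.cast_mul, hc]
      ring
    rw [this]
    exact MemLocalRing.neg h

theorem mul_int_div_memLocalIdeal_iff (hM : Cfsg.IsPModular p M) (m d : ℕ) (n : ℤ)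
    (hm : ¬ p ∣ m) (hd : d ≠ 0) (hn : n ≠ 0) :
    Cfsg.MemLocalIdeal M ((m : ℂ) * (n : ℂ) / (d : ℂ)) ↔ d.factorization p < padicValInt p n := by
  have hm0 : m ≠ 0 := by
    rintro rfl
    exact hm (dvd_zero p)
  have hk0 : n.natAbs ≠ 0 := Int.natAbs_ne_zero.mpr hn
  rw [← factorization_mul_natAbs m n hm hn,
    ← memLocalIdeal_natCast_div_iff hM (m * n.natAbs) d (Nat.mul_ne_zero hm0 hk0) hd]
  rcases Int.natAbs_eq n with h1 | h1
  · have hc : (n : ℂ) = ((n.natAbs : ℕ) : ℂ) := by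
      have h2 : (n : ℂ) = (((n.natAbs : ℤ) : ℤ) : ℂ) := congrArg (fun z : ℤ => (z : ℂ)) h1
      rw [h2, Int.cast_natCast]
    have : ((m * n.natAbs : ℕ) : ℂ) = (m : ℂ) * (n : ℂ) := by
      rw [Nat.cast_mul, hc]
    rw [this]
  · have hc : (n : ℂ) = -((n.natAbs : ℕ) : ℂ) := by
      have h2 : (n : ℂ) = ((-(n.natAbs : ℤ) : ℤ) : ℂ) := congrArg (fun z : ℤ => (z : ℂ)) h1
      rw [h2, Int.cast_neg, Int.cast_natCast]
    have : ((m * n.natAbs : ℕ) : ℂ) / (d : ℂ) = -((m : ℂ) * (n : ℂ) / (d : ℂ)) := by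
      rw [Nat.cast_mul, hc]
      ring
    rw [this]
    constructor
    · intro h
      exact MemLocalIdeal.neg h
    · intro h
      have := MemLocalIdeal.neg h
      rwa [neg_neg] at this

end Arith


section Main

variable [Fintype G] {p : ℕ} [hp : Fact p.Prime]

omit [Fintype G] in
theorem charDegree_ne_zero_of_irr {ξ : G → ℂ} (hξ : Cfsg.IsIrrCharacter G ξ) :
    Cfsg.charDegree ξ ≠ 0 := by
  intro h0
  have h1 := charDegree_cast_of_isCharacter (IsIrrCharacter.isCharacter hξ)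
  rw [h0, Nat.cast_zero] at h1
  exact IsIrrCharacter.apply_one_ne_zero hξ h1.symm

theorem not_dvd_ordCompl_card (p : ℕ) [hp : Fact p.Prime] :
    ¬ p ∣ Nat.card G / p ^ (Nat.card G).factorization p :=
  Nat.not_dvd_ordCompl hp.out Nat.card_pos.ne'

/-- the valuation condition on the integer `[χ̃, ξ]` says that `T(χ, ξ) / ξ(1)` is a local unit -/
theorem truncInt_cond_iff (hM : Cfsg.IsPModular p M) {χ ξ : G → ℂ}
    (hχ : Cfsg.IsIrrCharacter G χ) (hξ : Cfsg.IsIrrCharacter G ξ) :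
    (∃ n : ℤ, Cfsg.classInner (truncScaled p χ) ξ = n ∧ n ≠ 0 ∧
      padicValInt p n = (Cfsg.charDegree ξ).factorization p) ↔
    ¬ Cfsg.MemLocalIdeal M (truncSum p χ ξ / ξ 1) := by
  obtain ⟨n₀, hn₀, hT, -⟩ := exists_truncInt p hχ hξ
  have hmp := not_dvd_ordCompl_card (G := G) p
  have hd := charDegree_cast_of_isCharacter (IsIrrCharacter.isCharacter hξ)
  have hd0 := charDegree_ne_zero_of_irr hξ
  have hz : truncSum p χ ξ / ξ 1 =
      ((Nat.card G / p ^ (Nat.card G).factorization p : ℕ) : ℂ) * (n₀ : ℂ) /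
        (Cfsg.charDegree ξ : ℂ) := by
    rw [hT, hd]
  constructor
  · rintro ⟨n, hn, hn0, hval⟩
    have hnn : n = n₀ := by
      have := hn.symm.trans hn₀
      exact_mod_cast this
    subst hnn
    rw [hz, mul_int_div_memLocalIdeal_iff hM _ _ n hmp hd0 hn0, hval]
    exact lt_irrefl _
  · intro hnot
    have hn0 : n₀ ≠ 0 := by
      rintro rfl
      apply hnot
      rw [hz, Int.cast_zero, mul_zero, zero_div]
      exact memLocalIdeal_zero hM.2.1
    refine ⟨n₀, hn₀, hn0, ?_⟩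
    have hR := truncSum_div_memLocalRing hM.2.1 p (IsIrrCharacter.isCharacter hχ) hξ
    rw [hz] at hR
    have hle := mul_int_div_memLocalRing_imp hM _ _ n₀ hmp hd0 hn0 hR
    rw [hz, mul_int_div_memLocalIdeal_iff hM _ _ n₀ hmp hd0 hn0] at hnot
    omega

omit [Fintype G] in
theorem sameBlock_of_mem_block (hM : M.IsMaximal) (B : Set (Cfsg.IrrCharacter G))
    (hB : Cfsg.IsPBlock M B) {ξ ξ' : Cfsg.IrrCharacter G} (hξ : ξ ∈ B) (hξ' : ξ' ∈ B) :
    Cfsg.SameBlock M (ξ : G → ℂ) (ξ' : G → ℂ) := by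
  obtain ⟨χ₀, rfl⟩ := hB
  exact sameBlock_trans hM (sameBlock_symm hξ) hξ'

omit hp in
/-- the unit condition does not depend on the second argument within a block -/
theorem truncUnit_congr (hM : M.IsMaximal) (B : Set (Cfsg.IrrCharacter G))
    (hB : Cfsg.IsPBlock M B) {χ : G → ℂ} (hχ : Cfsg.IsCharacter G χ)
    {ξ ξ' : Cfsg.IrrCharacter G} (hξ : ξ ∈ B) (hξ' : ξ' ∈ B)
    (h : ¬ Cfsg.MemLocalIdeal M (truncSum p χ (ξ : G → ℂ) / (ξ : G → ℂ) 1)) :
    ¬ Cfsg.MemLocalIdeal M (truncSum p χ (ξ' : G → ℂ) / (ξ' : G → ℂ) 1) := by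
  intro h'
  apply h
  have h1 := truncSum_div_congr hM p hχ ξ.2 ξ'.2 (sameBlock_of_mem_block hM B hB hξ hξ')
  have h2 := MemLocalIdeal.add hM h1 h'
  rwa [sub_add_cancel] at h2

/-- if `T(χ, χ) / χ(1)` is a local unit, then `χ` has minimal `p`-part of the degree in `B` -/
theorem degree_le_of_truncUnit (hM : Cfsg.IsPModular p M) (B : Set (Cfsg.IrrCharacter G))
    (hB : Cfsg.IsPBlock M B) (χ : Cfsg.IrrCharacter G) (hχ : χ ∈ B)
    (h : ¬ Cfsg.MemLocalIdeal M (truncSum p (χ : G → ℂ) (χ : G → ℂ) / (χ : G → ℂ) 1))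
    (ξ : Cfsg.IrrCharacter G) (hξ : ξ ∈ B) :
    (Cfsg.charDegree (χ : G → ℂ)).factorization p ≤
      (Cfsg.charDegree (ξ : G → ℂ)).factorization p := by
  have h1 := truncUnit_congr hM.2.1 B hB (IsIrrCharacter.isCharacter χ.2) hχ hξ h
  obtain ⟨n, hn, hn0, hval⟩ := (truncInt_cond_iff hM χ.2 ξ.2).mpr h1
  obtain ⟨n₀, hn₀, -, hT'⟩ := exists_truncInt p χ.2 ξ.2
  have hnn : n = n₀ := by
    have := hn.symm.trans hn₀
    exact_mod_cast this
  subst hnn
  have hR := truncSum_div_memLocalRing hM.2.1 p (IsIrrCharacter.isCharacter ξ.2) χ.2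
  rw [hT', ← charDegree_cast_of_isCharacter (IsIrrCharacter.isCharacter χ.2)] at hR
  have hle := mul_int_div_memLocalRing_imp hM _ _ n (not_dvd_ordCompl_card (G := G) p)
    (charDegree_ne_zero_of_irr χ.2) hn0 hR
  rw [hval] at hle
  exact hle

/-- if `χ` has minimal `p`-part of the degree in `B`, then `T(χ, χ) / χ(1)` is a local unit -/
theorem truncUnit_of_degree_le (hM : Cfsg.IsPModular p M) (B : Set (Cfsg.IrrCharacter G))
    (hB : Cfsg.IsPBlock M B) (χ : Cfsg.IrrCharacter G) (hχ : χ ∈ B)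
    (hmin : ∀ ξ ∈ B, (Cfsg.charDegree (χ : G → ℂ)).factorization p ≤
      (Cfsg.charDegree (ξ : G → ℂ)).factorization p) :
    ¬ Cfsg.MemLocalIdeal M (truncSum p (χ : G → ℂ) (χ : G → ℂ) / (χ : G → ℂ) 1) := by
  obtain ⟨ξ₀, hξ₀⟩ := exists_truncSum_not_mem hM χ.2
  -- `ξ₀` lies in `B`
  have hξ₀B : ξ₀ ∈ B := by
    by_contra hnot
    apply hξ₀
    have h0 := sum_pregular_eq_zero hM.2.1 p hM.2.2 B hB χ ξ₀ hχ hnot
    have h1 : truncSum p (ξ₀ : G → ℂ) (χ : G → ℂ) = 0 := by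
      rw [← h0]
      unfold truncSum truncConj
      apply Finset.sum_congr rfl
      intro x _
      split_ifs
      · rw [zero_mul]
      · rw [mul_comm]
    rw [h1, zero_div]
    exact memLocalIdeal_zero hM.2.1
  have h1 := truncUnit_congr hM.2.1 B hB (IsIrrCharacter.isCharacter ξ₀.2) hχ hξ₀B hξ₀
  have h2 := degree_le_of_truncUnit hM B hB ξ₀ hξ₀B h1 χ hχ
  have h3 := hmin ξ₀ hξ₀B
  have heq : (Cfsg.charDegree (χ : G → ℂ)).factorization p =
      (Cfsg.charDegree (ξ₀ : G → ℂ)).factorization p := le_antisymm h3 h2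
  obtain ⟨n, hn, hn0, hval⟩ := (truncInt_cond_iff hM ξ₀.2 χ.2).mpr hξ₀
  obtain ⟨n₀, hn₀, -, hT'⟩ := exists_truncInt p ξ₀.2 χ.2
  have hnn : n = n₀ := by
    have := hn.symm.trans hn₀
    exact_mod_cast this
  subst hnn
  -- `T(χ, ξ₀) / ξ₀(1)` is a unit
  have h4 : ¬ Cfsg.MemLocalIdeal M
      (truncSum p (χ : G → ℂ) (ξ₀ : G → ℂ) / (ξ₀ : G → ℂ) 1) := by
    rw [hT', ← charDegree_cast_of_isCharacter (IsIrrCharacter.isCharacter ξ₀.2),
      mul_int_div_memLocalIdeal_iff hM _ _ n (not_dvd_ordCompl_card (G := G) p)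
        (charDegree_ne_zero_of_irr ξ₀.2) hn0, hval, heq]
    exact lt_irrefl _
  exact truncUnit_congr hM.2.1 B hB (IsIrrCharacter.isCharacter χ.2) hξ₀B hχ h4

omit [Fintype G] hp in
theorem blockHeight_eq_zero_iff (B : Set (Cfsg.IrrCharacter G)) (χ : Cfsg.IrrCharacter G)
    (hχ : χ ∈ B) :
    Cfsg.blockHeight p B (χ : G → ℂ) = 0 ↔
      ∀ ξ ∈ B, (Cfsg.charDegree (χ : G → ℂ)).factorization p ≤
        (Cfsg.charDegree (ξ : G → ℂ)).factorization p := by
  unfold Cfsg.blockHeight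
  rw [Nat.sub_eq_zero_iff_le]
  constructor
  · intro h ξ hξ
    exact h.trans (Nat.sInf_le ⟨ξ, hξ, rfl⟩)
  · intro h
    refine le_csInf ⟨_, χ, hχ, rfl⟩ ?_
    rintro _ ⟨ξ, hξ, rfl⟩
    exact h ξ hξ

/-- height zero iff `T(χ, χ) / χ(1)` is a local unit -/
theorem blockHeight_eq_zero_iff_truncUnit (hM : Cfsg.IsPModular p M)
    (B : Set (Cfsg.IrrCharacter G)) (hB : Cfsg.IsPBlock M B) (χ : Cfsg.IrrCharacter G)
    (hχ : χ ∈ B) :
    Cfsg.blockHeight p B (χ : G → ℂ) = 0 ↔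
      ¬ Cfsg.MemLocalIdeal M (truncSum p (χ : G → ℂ) (χ : G → ℂ) / (χ : G → ℂ) 1) := by
  rw [blockHeight_eq_zero_iff B χ hχ]
  exact ⟨truncUnit_of_degree_le hM B hB χ hχ, fun h ξ hξ =>
    degree_le_of_truncUnit hM B hB χ hχ h ξ hξ⟩

/-- **S4426.** -/
theorem height_zero_iff_trunc (hM : Cfsg.IsPModular p M) (B : Set (Cfsg.IrrCharacter G))
    (hB : Cfsg.IsPBlock M B) (χ : Cfsg.IrrCharacter G) (hχ : χ ∈ B) :
    (Cfsg.blockHeight p B (χ : G → ℂ) = 0 ↔ ∃ ξ ∈ B, ∃ n : ℤ,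
      Cfsg.classInner (truncScaled p (χ : G → ℂ)) (ξ : G → ℂ) = (n : ℂ) ∧ n ≠ 0 ∧
        padicValInt p n = (Cfsg.charDegree (ξ : G → ℂ)).factorization p) ∧
    (Cfsg.blockHeight p B (χ : G → ℂ) = 0 ↔ ∀ ξ ∈ B, ∃ n : ℤ,
      Cfsg.classInner (truncScaled p (χ : G → ℂ)) (ξ : G → ℂ) = (n : ℂ) ∧ n ≠ 0 ∧
        padicValInt p n = (Cfsg.charDegree (ξ : G → ℂ)).factorization p) := by
  rw [blockHeight_eq_zero_iff_truncUnit hM B hB χ hχ]
  constructor
  · constructor
    · intro h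
      exact ⟨χ, hχ, (truncInt_cond_iff hM χ.2 χ.2).mpr h⟩
    · rintro ⟨ξ, hξ, h⟩
      exact truncUnit_congr hM.2.1 B hB (IsIrrCharacter.isCharacter χ.2) hξ hχ
        ((truncInt_cond_iff hM χ.2 ξ.2).mp h)
  · constructor
    · intro h ξ hξ
      exact (truncInt_cond_iff hM χ.2 ξ.2).mpr
        (truncUnit_congr hM.2.1 B hB (IsIrrCharacter.isCharacter χ.2) hχ hξ h)
    · intro h
      exact (truncInt_cond_iff hM χ.2 χ.2).mp (h χ hχ)

end Main

end Cfsg.Agent.Helper6
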