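import Mathlib
import Cfsg.Prelude.Def_Characters
import Cfsg.Prelude.Def_Blocks
import Cfsg.Agent.Helper6.HeightZeroTrunc
import Cfsg.Agent.Helper6.IndCentralB
import Cfsg.Agent.Helper6.Degrees

/-!
# Truncated restrictions to a subgroup and induced blocks (S4431)
-/

set_option autoImplicit false
set_option linter.style.haveILetI false

namespace Cfsg.Agent.Helper6

open Module
open scoped ComplexConjugate

universe u

variable {G : Type u} [Group G] {M : Ideal Cfsg.AlgInt}

/-- symmetry of the truncated sum for characters -/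
theorem truncSum_comm [Fintype G] (p : ℕ) {χ Ψ : G → ℂ} (hχ : Cfsg.IsCharacter G χ)
    (hΨ : Cfsg.IsCharacter G Ψ) : truncSum p χ Ψ = truncSum p Ψ χ := by
  unfold truncSum truncConj
  rw [← Equiv.sum_comp (Equiv.inv G)]
  apply Finset.sum_congr rfl
  intro x _
  simp only [Equiv.inv_apply, orderOf_inv]
  rw [IsCharacter.inv_eq_conj hχ, IsCharacter.inv_eq_conj hΨ, Complex.conj_conj]
  split_ifs
  · simp
  · rw [mul_comm]

/-- the residue of `T(χ, φ) / φ(1)` depends only on the central character of the class function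
`φ` modulo the local ideal -/
theorem truncSum_div_congr' [Fintype G] (hM : M.IsMaximal) (p : ℕ) {χ ξ ξ' : G → ℂ}
    (hχ : Cfsg.IsCharacter G χ) (hξ : Cfsg.IsClassFunction G ξ) (hξ' : Cfsg.IsClassFunction G ξ')
    (h : Cfsg.SameBlock M ξ ξ') :
    Cfsg.MemLocalIdeal M (truncSum p χ ξ / ξ 1 - truncSum p χ ξ' / ξ' 1) := by
  have h1 := sum_mul_sub_of_sameBlock hM (truncConj p χ)
    (truncConj_isClassFunction p (IsCharacter.isClassFunction hχ))
    (fun t => memLocalRing_of_isIntegral hM (truncConj_isIntegral p hχ t)) ξ ξ' hξ hξ' h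
  have h2 : truncSum p χ ξ / ξ 1 - truncSum p χ ξ' / ξ' 1 =
      ∑ t, truncConj p χ t * (ξ t / ξ 1 - ξ' t / ξ' 1) := by
    unfold truncSum
    rw [Finset.sum_div, Finset.sum_div, ← Finset.sum_sub_distrib]
    apply Finset.sum_congr rfl
    intro t _
    ring
  rw [h2]
  exact h1

/-- the inner product of a truncated restriction with a function on the subgroup, through
Frobenius reciprocity -/
theorem classInner_restrict_trunc [Fintype G] (p : ℕ) (H : Subgroup G) [Fintype H] {χ : G → ℂ}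
    (hχ : Cfsg.IsClassFunction G χ) (ψ : H → ℂ) (k : ℂ) :
    Cfsg.classInner (fun h : H => if p ∣ orderOf h then (0 : ℂ) else k * χ h) ψ =
      (Nat.card G : ℂ)⁻¹ * (k * conj (truncSum p χ (Cfsg.indFun H ψ))) := by
  set F : G → ℂ := fun g => if p ∣ orderOf g then (0 : ℂ) else k * χ g with hF
  have hFcf : Cfsg.IsClassFunction G F := by
    intro g t
    have ho : orderOf (t * g * t⁻¹) = orderOf g := by
      have := MulEquiv.orderOf_eq (MulAut.conj t) g
      simpa using this
    rw [hF]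
    simp only [ho, hχ g t]
  have h1 : (fun h : H => if p ∣ orderOf h then (0 : ℂ) else k * χ h) = fun h : H => F h := by
    funext h
    rw [hF]
    simp only [Subgroup.orderOf_coe]
  rw [h1, classInner_conj_symm ψ (fun h : H => F h), ← frobenius_reciprocity H ψ F hFcf,
    ← classInner_conj_symm, classInner_def]
  congr 1
  unfold truncSum truncConj
  rw [map_sum, Finset.mul_sum]
  apply Finset.sum_congr rfl
  intro x _
  rw [hF]
  simp only
  split_ifs
  · simp
  · rw [map_mul, Complex.conj_conj]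
    ring


section Main

variable [Fintype G] {p : ℕ} [hp : Fact p.Prime]

/-- the key congruence: the scaled truncated inner product on `H` against `ψ ∈ b` is congruent
to `T(χ, χ₀) / χ₀(1)` for `χ₀` in the induced block -/
theorem induced_trunc_key (hM : Cfsg.IsPModular p M) (H : Subgroup G) [Fintype H]
    (b : Set (Cfsg.IrrCharacter H)) (B₀ : Set (Cfsg.IrrCharacter G))
    (hind : Cfsg.IsInducedBlock M H b B₀) (χ : Cfsg.IrrCharacter G) (ψ : Cfsg.IrrCharacter H)
    (hψ : ψ ∈ b) (χ₀ : Cfsg.IrrCharacter G) (hχ₀ : χ₀ ∈ B₀) :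
    Cfsg.MemLocalIdeal M
      (((Nat.card H / p ^ (Nat.card H).factorization p : ℕ) : ℂ) *
        (Cfsg.classInner (fun h : H => if p ∣ orderOf h then (0 : ℂ) else
          ((p ^ (Nat.card H).factorization p : ℕ) : ℂ) * (χ : G → ℂ) h) (ψ : H → ℂ) /
            (ψ : H → ℂ) 1) -
        truncSum p (χ : G → ℂ) (χ₀ : G → ℂ) / (χ₀ : G → ℂ) 1) := by
  have hχc := IsIrrCharacter.isCharacter χ.2
  have hψc := IsIrrCharacter.isCharacter ψ.2
  set Ψ := Cfsg.indFun H (ψ : H → ℂ) with hΨ
  have hΨc : Cfsg.IsCharacter G Ψ := isCharacter_indFun H _ hψc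
  have hsame : Cfsg.SameBlock M Ψ (χ₀ : G → ℂ) := by
    intro g
    rw [hΨ, ← inducedCentralChar_eq_centralCharB]
    exact hind.2.2 ψ hψ χ₀ hχ₀ g
  have h1 := truncSum_div_congr' hM.2.1 p hχc (IsCharacter.isClassFunction hΨc)
    (IsCharacter.isClassFunction (IsIrrCharacter.isCharacter χ₀.2)) hsame
  have h2 : ((Nat.card H / p ^ (Nat.card H).factorization p : ℕ) : ℂ) *
        (Cfsg.classInner (fun h : H => if p ∣ orderOf h then (0 : ℂ) else
          ((p ^ (Nat.card H).factorization p : ℕ) : ℂ) * (χ : G → ℂ) h) (ψ : H → ℂ) /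
            (ψ : H → ℂ) 1) = truncSum p (χ : G → ℂ) Ψ / Ψ 1 := by
    rw [classInner_restrict_trunc p H (IsCharacter.isClassFunction hχc), truncSum_conj,
      ← truncSum_comm p hχc hΨc, hΨ, indFun_apply_one, ← hΨ]
    have hψ1 : (ψ : H → ℂ) 1 ≠ 0 := IsIrrCharacter.apply_one_ne_zero ψ.2
    have hH0 : Nat.card H ≠ 0 := Nat.card_pos.ne'
    have hm : p ^ (Nat.card H).factorization p *
        (Nat.card H / p ^ (Nat.card H).factorization p) = Nat.card H :=
      Nat.ordProj_mul_ordCompl_eq_self _ p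
    have hidx : H.index * Nat.card H = Nat.card G := H.index_mul_card
    have hGC : (Nat.card G : ℂ) = (H.index : ℂ) *
        (((p ^ (Nat.card H).factorization p : ℕ) : ℂ) *
          ((Nat.card H / p ^ (Nat.card H).factorization p : ℕ) : ℂ)) := by
      rw [← Nat.cast_mul, ← Nat.cast_mul, hm, hidx]
    have hidx0 : (H.index : ℂ) ≠ 0 := by
      have : H.index ≠ 0 := Subgroup.index_ne_zero_of_finite
      exact_mod_cast this
    have hpa0 : ((p ^ (Nat.card H).factorization p : ℕ) : ℂ) ≠ 0 := by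
      have : 0 < p ^ (Nat.card H).factorization p := pow_pos hp.out.pos _
      exact_mod_cast this.ne'
    have hm0 : ((Nat.card H / p ^ (Nat.card H).factorization p : ℕ) : ℂ) ≠ 0 := by
      intro h0
      have : Nat.card H / p ^ (Nat.card H).factorization p = 0 := by exact_mod_cast h0
      rw [this, mul_zero] at hm
      exact hH0 hm.symm
    rw [hGC]
    field_simp
  rw [h2]
  exact h1

/-- **S4431.** -/
theorem induced_trunc_statement (hM : Cfsg.IsPModular p M) (H : Subgroup G) [Fintype H]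
    (b : Set (Cfsg.IrrCharacter H)) (B₀ : Set (Cfsg.IrrCharacter G))
    (hind : Cfsg.IsInducedBlock M H b B₀) (χ : Cfsg.IrrCharacter G) (ψ : Cfsg.IrrCharacter H)
    (hψ : ψ ∈ b) :
    (χ ∉ B₀ → Cfsg.MemLocalIdeal M
      (Cfsg.classInner (fun h : H => if p ∣ orderOf h then (0 : ℂ) else
        ((p ^ (Nat.card H).factorization p : ℕ) : ℂ) * (χ : G → ℂ) h) (ψ : H → ℂ) /
          (ψ : H → ℂ) 1)) ∧
    (χ ∈ B₀ → Cfsg.blockHeight p B₀ (χ : G → ℂ) = 0 → ¬ Cfsg.MemLocalIdeal M
      (Cfsg.classInner (fun h : H => if p ∣ orderOf h then (0 : ℂ) else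
        ((p ^ (Nat.card H).factorization p : ℕ) : ℂ) * (χ : G → ℂ) h) (ψ : H → ℂ) /
          (ψ : H → ℂ) 1)) := by
  set X := Cfsg.classInner (fun h : H => if p ∣ orderOf h then (0 : ℂ) else
        ((p ^ (Nat.card H).factorization p : ℕ) : ℂ) * (χ : G → ℂ) h) (ψ : H → ℂ) /
          (ψ : H → ℂ) 1 with hX
  have hH0 : Nat.card H ≠ 0 := Nat.card_pos.ne'
  have hmp : ¬ p ∣ Nat.card H / p ^ (Nat.card H).factorization p :=
    Nat.not_dvd_ordCompl hp.out hH0
  set mH := Nat.card H / p ^ (Nat.card H).factorization p with hmH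
  have hmH0 : (mH : ℂ) ≠ 0 := by
    intro h0
    have : mH = 0 := by exact_mod_cast h0
    rw [this] at hmp
    exact hmp (dvd_zero p)
  constructor
  · intro hχ
    obtain ⟨χ₀, hB₀⟩ := hind.2.1
    have hχ₀ : χ₀ ∈ B₀ := by
      rw [hB₀]
      exact mem_blockOf_self hM.2.1 χ₀
    have h1 := induced_trunc_key hM H b B₀ hind χ ψ hψ χ₀ hχ₀
    have h0 := sum_pregular_eq_zero hM.2.1 p hM.2.2 B₀ hind.2.1 χ₀ χ hχ₀ hχ
    have h2 : truncSum p (χ : G → ℂ) (χ₀ : G → ℂ) = 0 := by
      rw [← h0]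
      unfold truncSum truncConj
      apply Finset.sum_congr rfl
      intro x _
      split_ifs
      · rw [zero_mul]
      · rw [mul_comm]
    rw [h2, zero_div, sub_zero] at h1
    have h3 : X = (1 : ℂ) / (mH : ℂ) * ((mH : ℂ) * X) := by
      field_simp
    rw [h3]
    exact MemLocalIdeal.mul_left hM.2.1
      (by
        have := memLocalRing_natCast_div hM.2.1 p hp.out hM.2.2 1 mH hmp
        simpa using this) h1
  · intro hχ hht hcon
    have h1 := induced_trunc_key hM H b B₀ hind χ ψ hψ χ hχ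
    have h2 := (blockHeight_eq_zero_iff_truncUnit hM B₀ hind.2.1 χ hχ).mp hht
    apply h2
    have h3 : Cfsg.MemLocalIdeal M ((mH : ℂ) * X) :=
      MemLocalIdeal.mul_left hM.2.1 (memLocalRing_natCast hM.2.1 _) hcon
    have h4 := MemLocalIdeal.sub hM.2.1 h3 h1
    rwa [sub_sub_cancel] at h4

end Main

end Cfsg.Agent.Helper6
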