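import Mathlib
import Cfsg.Prelude.Def_Characters
import Cfsg.Prelude.Def_Blocks
import Cfsg.Agent.Helper6.HeightZeroInduced
import Cfsg.Agent.Helper6.BlockOrth
import Cfsg.Agent.Helper6.OddReal

/-!
# Brauer's third main theorem (and Okuyama's generalization)
-/

set_option autoImplicit false
set_option linter.style.haveILetI false

namespace Cfsg.Agent.Helper6

open Module
open scoped ComplexConjugate

universe u

variable {G : Type u} [Group G] {M : Ideal Cfsg.AlgInt}

/-- truncated inner products between different blocks vanish -/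
theorem classInner_truncScaled_eq_zero [Fintype G] (hM : M.IsMaximal) (p : ℕ)
    [hp : Fact p.Prime] (hpM : (p : Cfsg.AlgInt) ∈ M) (ξ ψ : Cfsg.IrrCharacter G)
    (h : ¬ Cfsg.SameBlock M (ξ : G → ℂ) (ψ : G → ℂ)) :
    Cfsg.classInner (truncScaled p (ξ : G → ℂ)) (ψ : G → ℂ) = 0 := by
  have h0 := sum_pregular_eq_zero hM p hpM (Cfsg.blockOf M (ξ : G → ℂ)) ⟨ξ, rfl⟩ ξ ψ
    (mem_blockOf_self hM ξ) h
  rw [classInner_def]
  have h1 : ∑ g : G, truncScaled p (ξ : G → ℂ) g * conj ((ψ : G → ℂ) g) =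
      ((p ^ (Nat.card G).factorization p : ℕ) : ℂ) *
        ∑ x : G, (if p ∣ orderOf x then (0 : ℂ) else (ξ : G → ℂ) x * conj ((ψ : G → ℂ) x)) := by
    rw [Finset.mul_sum]
    apply Finset.sum_congr rfl
    intro g _
    unfold truncScaled
    split_ifs
    · rw [zero_mul, mul_zero]
    · rw [mul_assoc]
  rw [h1, h0, mul_zero, mul_zero]

/-- a height zero character has unit truncated inner products within its block -/
theorem truncScaled_unit_of_height_zero [Fintype G] {p : ℕ} [hp : Fact p.Prime]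
    (hM : Cfsg.IsPModular p M) (B : Set (Cfsg.IrrCharacter G)) (hB : Cfsg.IsPBlock M B)
    (ξ : Cfsg.IrrCharacter G) (hξ : ξ ∈ B) (h0 : Cfsg.blockHeight p B (ξ : G → ℂ) = 0)
    (ψ : Cfsg.IrrCharacter G) (hψ : ψ ∈ B) :
    ¬ Cfsg.MemLocalIdeal M
      (Cfsg.classInner (truncScaled p (ξ : G → ℂ)) (ψ : G → ℂ) / (ψ : G → ℂ) 1) := by
  obtain ⟨n, hn, hn0, hval⟩ := ((height_zero_iff_trunc hM B hB ξ hξ).2.mp h0) ψ hψ
  have hd := charDegree_cast_of_isCharacter (IsIrrCharacter.isCharacter ψ.2)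
  have hd0 := charDegree_ne_zero_of_irr ψ.2
  intro hmem
  rw [hn, ← hd] at hmem
  have h1 := (mul_int_div_memLocalIdeal_iff hM 1 (Cfsg.charDegree (ψ : G → ℂ)) n
    (by
      intro h
      exact hp.1.one_lt.ne' (Nat.dvd_one.mp h)) hd0 hn0).mp
    (by rw [Nat.cast_one, one_mul]; exact hmem)
  omega

/-- **Okuyama's form of the third main theorem** (S0935) -/
theorem third_main_general [Fintype G] {p : ℕ} [hp : Fact p.Prime] (hM : Cfsg.IsPModular p M)
    (H : Subgroup G) [Fintype H] (χ : Cfsg.IrrCharacter G)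
    (hres : Cfsg.IsIrrCharacter H (fun h : H => (χ : G → ℂ) h))
    (hχ0 : Cfsg.blockHeight p (Cfsg.blockOf M (χ : G → ℂ)) (χ : G → ℂ) = 0)
    (hψ0 : Cfsg.blockHeight p (Cfsg.blockOf M (fun h : H => (χ : G → ℂ) h))
      (fun h : H => (χ : G → ℂ) h) = 0)
    (e : Set (Cfsg.IrrCharacter H)) (he : Cfsg.InducedBlockDefined M H e) :
    Cfsg.IsInducedBlock M H e (Cfsg.blockOf M (χ : G → ℂ)) ↔
      e = Cfsg.blockOf M (fun h : H => (χ : G → ℂ) h) := by
  classical
  have hMm := hM.2.1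
  obtain ⟨ξ, hξdef⟩ : ∃ ξ : Cfsg.IrrCharacter H, ξ = ⟨fun h : H => (χ : G → ℂ) h, hres⟩ :=
    ⟨_, rfl⟩
  have hξfun : (ξ : H → ℂ) = fun h : H => (χ : G → ℂ) h := by rw [hξdef]
  rw [← hξfun] at hψ0 ⊢
  have hη : (fun h : H => if p ∣ orderOf h then (0 : ℂ) else
      ((p ^ (Nat.card H).factorization p : ℕ) : ℂ) * (χ : G → ℂ) h) =
      truncScaled p (ξ : H → ℂ) := by
    funext h
    unfold truncScaled
    rw [hξfun]
  constructor
  · intro hind
    obtain ⟨ψ₀, hψ₀⟩ := hind.1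
    have hψ₀e : ψ₀ ∈ e := by rw [hψ₀]; exact mem_blockOf_self hMm ψ₀
    have h1 := (induced_trunc_statement hM H e _ hind χ ψ₀ hψ₀e).2 (mem_blockOf_self hMm χ) hχ0
    rw [hη] at h1
    have h2 : Cfsg.SameBlock M (ξ : H → ℂ) (ψ₀ : H → ℂ) := by
      by_contra hns
      apply h1
      rw [classInner_truncScaled_eq_zero hMm p hM.2.2 ξ ψ₀ hns, zero_div]
      exact memLocalIdeal_zero hMm
    rw [hψ₀]
    exact (blockOf_eq_of_sameBlock hMm h2).symm
  · intro heq
    obtain ⟨B₀, hind⟩ := he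
    have hξe : ξ ∈ e := by rw [heq]; exact mem_blockOf_self hMm ξ
    have hχB₀ : χ ∈ B₀ := by
      by_contra hχ
      have h1 := (induced_trunc_statement hM H e _ hind χ ξ hξe).1 hχ
      rw [hη] at h1
      exact truncScaled_unit_of_height_zero hM _ ⟨ξ, rfl⟩ ξ (mem_blockOf_self hMm ξ) hψ0 ξ
        (mem_blockOf_self hMm ξ) h1
    rw [← eq_blockOf_of_mem hMm B₀ hind.2.1 χ hχB₀]
    exact hind

/-- the trivial character has height zero in the principal block -/
theorem blockHeight_one_eq_zero (p : ℕ) (B : Set (Cfsg.IrrCharacter G)) :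
    Cfsg.blockHeight p B (fun _ : G => (1 : ℂ)) = 0 := by
  unfold Cfsg.blockHeight Cfsg.charDegree
  simp

/-- **Brauer's third main theorem** (S0936) -/
theorem third_main [Finite G] {p : ℕ} [hp : Fact p.Prime] (hM : Cfsg.IsPModular p M)
    (H : Subgroup G) (b : Set (Cfsg.IrrCharacter H)) (hdef : Cfsg.InducedBlockDefined M H b) :
    Cfsg.IsInducedBlock M H b (Cfsg.principalBlock M G) ↔ b = Cfsg.principalBlock M H := by
  haveI := Fintype.ofFinite G
  haveI : Fintype H := Fintype.ofFinite H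
  have h := third_main_general hM H ⟨fun _ : G => (1 : ℂ), isIrrCharacter_one⟩ isIrrCharacter_one
    (blockHeight_one_eq_zero p _) (blockHeight_one_eq_zero p _) b hdef
  exact h

end Cfsg.Agent.Helper6
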