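import Mathlib
import Cfsg.Prelude.Def_Characters
import Cfsg.Prelude.Def_Blocks
import Cfsg.Prelude.Def_Local
import Cfsg.Agent.Helper6.SecondMainE
import Cfsg.Agent.Helper6.ThirdMain
import Cfsg.Agent.Helper6.BlockKernel
import Cfsg.Agent.Helper1.Fitting
import Cfsg.Agent.Helper5.PPrimeCore

/-!
# The principal block on `p`-sections (S0942, S0947)
-/

set_option autoImplicit false
set_option linter.style.haveILetI false

namespace Cfsg.Agent.Helper6

open Module
open scoped ComplexConjugate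

universe u

variable {G : Type u} [Group G] {M : Ideal Cfsg.AlgInt}

/-- the `p'`-core lies in the kernel of the principal block -/
theorem pPrimeCore_le_ker_principalBlock [Finite G] {p : ℕ} [hp : Fact p.Prime]
    (hM : Cfsg.IsPModular p M) (ψ : Cfsg.IrrCharacter G) (hψ : ψ ∈ Cfsg.principalBlock M G)
    (g : G) (hg : g ∈ Cfsg.pPrimeCore p G) : (ψ : G → ℂ) g = (ψ : G → ℂ) 1 := by
  obtain ⟨one, hone⟩ : ∃ one : Cfsg.IrrCharacter G, one = ⟨fun _ : G => (1 : ℂ), isIrrCharacter_one⟩ :=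
    ⟨_, rfl⟩
  have hB : Cfsg.IsPBlock M (Cfsg.principalBlock M G) := ⟨one, by rw [hone]; rfl⟩
  have hone_mem : one ∈ Cfsg.principalBlock M G := by
    have := mem_blockOf_self hM.2.1 one
    rw [hone] at this ⊢
    exact this
  obtain ⟨K, _, hKeq, _, _, hKmax⟩ := block_kernel hM.2.1 p hp.1 hM.2.2
    (Cfsg.principalBlock M G) hB one hone_mem
  have hle : Cfsg.pPrimeCore p G ≤ K := by
    apply hKmax _ (Helper1.pPrimeCore_normal p) (Helper5.not_dvd_card_pPrimeCore p)
    intro g _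
    rw [hone]
  have hgK : g ∈ (K : Set G) := hle hg
  rw [hKeq] at hgK
  exact hgK ψ hψ

/-- **S0942**: principal block characters are constant on `u O_{p'}(C_G(u))` -/
theorem principal_apply_mul_core [Finite G] {p : ℕ} [hp : Fact p.Prime]
    (hM : Cfsg.IsPModular p M) (u : G) (hu : ∃ k : ℕ, orderOf u = p ^ k) (v : G)
    (hv : v ∈ Cfsg.centralizerPPrimeCore p u) (χ : Cfsg.IrrCharacter G)
    (hχ : χ ∈ Cfsg.principalBlock M G) : (χ : G → ℂ) (u * v) = (χ : G → ℂ) u := by
  classical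
  haveI := Fintype.ofFinite G
  haveI : Fintype (Subgroup.centralizer ({u} : Set G)) := Fintype.ofFinite _
  unfold Cfsg.centralizerPPrimeCore at hv
  rw [Subgroup.mem_map] at hv
  obtain ⟨v', hv', rfl⟩ := hv
  have hB : Cfsg.IsPBlock M (Cfsg.principalBlock M G) :=
    ⟨⟨fun _ : G => (1 : ℂ), isIrrCharacter_one⟩, rfl⟩
  have hv'reg : ¬ p ∣ orderOf v' := by
    intro hdvd
    have h1 : orderOf (⟨v', hv'⟩ : Cfsg.pPrimeCore p (Subgroup.centralizer ({u} : Set G))) ∣
        Nat.card (Cfsg.pPrimeCore p (Subgroup.centralizer ({u} : Set G))) := orderOf_dvd_natCard _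
    rw [← Subgroup.orderOf_coe] at h1
    exact Helper5.not_dvd_card_pPrimeCore p (dvd_trans hdvd h1)
  have h1reg : ¬ p ∣ orderOf (1 : Subgroup.centralizer ({u} : Set G)) := by
    rw [orderOf_one]
    exact hp.1.one_lt.ne' ∘ Nat.dvd_one.mp
  have k1 := second_main_sum hM u hu (Cfsg.principalBlock M G) hB χ v' hv'reg
  have k2 := second_main_sum hM u hu (Cfsg.principalBlock M G) hB χ 1 h1reg
  rw [if_pos hχ] at k1 k2
  simp only [Subgroup.coe_subtype]
  rw [← k1]
  have h3 : (χ : G → ℂ) u = (χ : G → ℂ) (u * ((1 : Subgroup.centralizer ({u} : Set G)) : G)) := by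
    rw [Subgroup.coe_one, mul_one]
  rw [h3, ← k2]
  apply finsum_mem_congr rfl
  intro ψ hψ
  have hind : Cfsg.IsInducedBlock M (Subgroup.centralizer ({u} : Set G))
      (Cfsg.blockOf M (ψ : Subgroup.centralizer ({u} : Set G) → ℂ))
      (Cfsg.principalBlock M G) := hψ
  have hpr := (third_main hM _ _ ⟨_, hind⟩).mp hind
  have hψmem : ψ ∈ Cfsg.principalBlock M (Subgroup.centralizer ({u} : Set G)) := by
    rw [← hpr]
    exact mem_blockOf_self hM.2.1 ψ
  rw [pPrimeCore_le_ker_principalBlock hM ψ hψmem v' hv']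

end Cfsg.Agent.Helper6
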