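import Mathlib
import Cfsg.Prelude.Def_Characters
import Cfsg.Prelude.Def_Blocks
import Cfsg.Prelude.Def_Local
import Cfsg.Agent.Helper6.PrincipalSection
import Cfsg.Agent.Helper6.Gallagher

/-!
# Orthogonality on a `p`-section (towards S0947)
-/

set_option autoImplicit false
set_option linter.style.haveILetI false

namespace Cfsg.Agent.Helper6

open Module
open scoped ComplexConjugate

universe u

variable {G : Type u} [Group G] {M : Ideal Cfsg.AlgInt}

open Classical in
/-- the value of a block part on a `p`-section, through the blocks of the centralizer inducing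
the block -/
theorem blockPart_section_formula [Fintype G] {p : ℕ} [hp : Fact p.Prime]
    (hM : Cfsg.IsPModular p M) (ϑ : G → ℂ) (hϑ : Cfsg.IsClassFunction G ϑ) (x : G)
    [Fintype (Subgroup.centralizer ({x} : Set G))]
    [Fintype (Cfsg.IrrCharacter (Subgroup.centralizer ({x} : Set G)))]
    (hx : ∃ k : ℕ, orderOf x = p ^ k)
    (B : Set (Cfsg.IrrCharacter G)) (hB : Cfsg.IsPBlock M B)
    (y : Subgroup.centralizer ({x} : Set G)) (hy : ¬ p ∣ orderOf y) :
    Cfsg.blockPart B ϑ (x * (y : G)) =
      ∑ ψ : Cfsg.IrrCharacter (Subgroup.centralizer ({x} : Set G)),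
        (if Cfsg.IsInducedBlock M (Subgroup.centralizer ({x} : Set G))
            (Cfsg.blockOf M (ψ : Subgroup.centralizer ({x} : Set G) → ℂ)) B then
          Cfsg.classInner (fun c : Subgroup.centralizer ({x} : Set G) => ϑ (x * (c : G)))
            (ψ : Subgroup.centralizer ({x} : Set G) → ℂ) *
          (ψ : Subgroup.centralizer ({x} : Set G) → ℂ) y else 0) := by
  haveI : Finite (Cfsg.IrrCharacter G) := irr_finite
  haveI : Fintype (Cfsg.IrrCharacter G) := Fintype.ofFinite _
  have hMm := hM.2.1
  rw [blockPart_apply, finsum_mem_eq_sum_ite]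
  have h1 : ∀ χ : Cfsg.IrrCharacter G,
      (if χ ∈ B then Cfsg.classInner ϑ (χ : G → ℂ) * (χ : G → ℂ) (x * (y : G)) else 0) =
      ∑ ψ : Cfsg.IrrCharacter (Subgroup.centralizer ({x} : Set G)),
        (if Cfsg.IsInducedBlock M (Subgroup.centralizer ({x} : Set G))
            (Cfsg.blockOf M (ψ : Subgroup.centralizer ({x} : Set G) → ℂ)) B then
          Cfsg.classInner ϑ (χ : G → ℂ) *
            Cfsg.classInner (fun c : Subgroup.centralizer ({x} : Set G) =>
              (χ : G → ℂ) (x * (c : G))) (ψ : Subgroup.centralizer ({x} : Set G) → ℂ) *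
            (ψ : Subgroup.centralizer ({x} : Set G) → ℂ) y else 0) := by
    intro χ
    have h2 := second_main_sum hM x hx B hB χ y hy
    rw [finsum_mem_eq_sum_ite] at h2
    have h3 : (if χ ∈ B then Cfsg.classInner ϑ (χ : G → ℂ) * (χ : G → ℂ) (x * (y : G)) else 0) =
        Cfsg.classInner ϑ (χ : G → ℂ) * (if χ ∈ B then (χ : G → ℂ) (x * (y : G)) else 0) := by
      split_ifs
      · rfl
      · rw [mul_zero]
    rw [h3, ← h2, Finset.mul_sum]
    apply Finset.sum_congr rfl
    intro ψ _
    by_cases hψ : Cfsg.IsInducedBlock M (Subgroup.centralizer ({x} : Set G))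
        (Cfsg.blockOf M (ψ : Subgroup.centralizer ({x} : Set G) → ℂ)) B
    · rw [if_pos hψ, if_pos (show ψ ∈ {ψ : Cfsg.IrrCharacter (Subgroup.centralizer ({x} : Set G)) |
        Cfsg.IsInducedBlock M (Subgroup.centralizer ({x} : Set G))
          (Cfsg.blockOf M (ψ : Subgroup.centralizer ({x} : Set G) → ℂ)) B} from hψ), mul_assoc]
    · rw [if_neg hψ, if_neg (show ψ ∉ {ψ : Cfsg.IrrCharacter (Subgroup.centralizer ({x} : Set G)) |
        Cfsg.IsInducedBlock M (Subgroup.centralizer ({x} : Set G))
          (Cfsg.blockOf M (ψ : Subgroup.centralizer ({x} : Set G) → ℂ)) B} from hψ), mul_zero]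
  simp_rw [h1]
  rw [Finset.sum_comm]
  have hexp := classFunction_expansion ϑ hϑ
  have hϑx : (fun c : Subgroup.centralizer ({x} : Set G) => ϑ (x * (c : G))) =
      ∑ χ : Cfsg.IrrCharacter G, Cfsg.classInner ϑ (χ : G → ℂ) •
      (fun c : Subgroup.centralizer ({x} : Set G) => (χ : G → ℂ) (x * (c : G))) := by
    funext c
    conv_lhs => rw [hexp]
    rw [Finset.sum_apply, Finset.sum_apply]
    rfl
  apply Finset.sum_congr rfl
  intro ψ _
  split_ifs with hψ
  · rw [hϑx, classInner_sum_left, Finset.sum_mul]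
    apply Finset.sum_congr rfl
    intro χ _
    rw [classInner_smul_left]
  · exact Finset.sum_const_zero

/-- conjugacy in the `p`-section of `z` is conjugacy of the `p'`-parts in the centralizer -/
theorem isConj_section_iff (p : ℕ) [hp : Fact p.Prime] (z : G) (hz : ∃ k : ℕ, orderOf z = p ^ k)
    (y c : Subgroup.centralizer ({z} : Set G)) (hy : ¬ p ∣ orderOf y) (hc : ¬ p ∣ orderOf c) :
    IsConj (z * (y : G)) (z * (c : G)) ↔ IsConj y c := by
  have hcomm : ∀ w : Subgroup.centralizer ({z} : Set G), (w : G) * z = z * (w : G) := by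
    intro w
    have := w.2
    rw [Subgroup.mem_centralizer_singleton_iff] at this
    exact this
  constructor
  · intro h
    obtain ⟨t, ht⟩ := isConj_iff.mp h
    have hp1 : Cfsg.IsPPart p (z * (c : G)) z := by
      refine ⟨(c : G), rfl, (hcomm c).symm, hz, ?_⟩
      rwa [Subgroup.orderOf_coe]
    have hp2 : Cfsg.IsPPart p (z * (y : G)) z := by
      refine ⟨(y : G), rfl, (hcomm y).symm, hz, ?_⟩
      rwa [Subgroup.orderOf_coe]
    have hp3 := IsPPart.conj hp2 t
    rw [ht] at hp3
    have hzt : t * z * t⁻¹ = z := isPPart_unique p hp3 hp1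
    have htC : t ∈ Subgroup.centralizer ({z} : Set G) := by
      rw [Subgroup.mem_centralizer_singleton_iff]
      have := congrArg (fun w => w * t) hzt
      simp only [inv_mul_cancel_right] at this
      exact this
    rw [isConj_iff]
    refine ⟨⟨t, htC⟩, ?_⟩
    apply Subtype.ext
    simp only [Subgroup.coe_mul, Subgroup.coe_inv]
    have h1 : t * (z * (y : G)) * t⁻¹ = (t * z * t⁻¹) * (t * (y : G) * t⁻¹) := by group
    rw [h1, hzt] at ht
    exact mul_left_cancel ht
  · intro h
    obtain ⟨t, ht⟩ := isConj_iff.mp h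
    rw [isConj_iff]
    refine ⟨(t : G), ?_⟩
    have h1 : (t : G) * (y : G) * (t : G)⁻¹ = (c : G) := by
      have := congrArg (fun w : Subgroup.centralizer ({z} : Set G) => (w : G)) ht
      simpa using this
    have h2 : (t : G) * (z * (y : G)) * (t : G)⁻¹ =
        ((t : G) * z * (t : G)⁻¹) * ((t : G) * (y : G) * (t : G)⁻¹) := by group
    rw [h2, h1, hcomm t, mul_inv_cancel_right]

/-- the centralizer of `z y` is the centralizer of `y` in the centralizer of `z` -/
theorem card_centralizer_section (p : ℕ) [hp : Fact p.Prime] (z : G)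
    (hz : ∃ k : ℕ, orderOf z = p ^ k) (y : Subgroup.centralizer ({z} : Set G))
    (hy : ¬ p ∣ orderOf y) :
    Nat.card (Subgroup.centralizer ({z * (y : G)} : Set G)) =
      Nat.card (Subgroup.centralizer ({y} : Set (Subgroup.centralizer ({z} : Set G)))) := by
  have hcomm : (y : G) * z = z * (y : G) := by
    have := y.2
    rw [Subgroup.mem_centralizer_singleton_iff] at this
    exact this
  obtain ⟨k, hk⟩ := hz
  have hcop : Nat.Coprime (orderOf (y : G)) (orderOf z) := by
    rw [hk, Subgroup.orderOf_coe]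
    exact (Nat.Coprime.pow_right k ((Nat.Prime.coprime_iff_not_dvd hp.1).mpr hy).symm)
  obtain ⟨hzm, hym⟩ := mem_zpowers_mul_of_coprime z (y : G) hcomm.symm hcop
  have hmap : (Subgroup.centralizer ({y} : Set (Subgroup.centralizer ({z} : Set G)))).map
      (Subgroup.centralizer ({z} : Set G)).subtype = Subgroup.centralizer ({z * (y : G)} : Set G) := by
    ext g
    rw [Subgroup.mem_map, Subgroup.mem_centralizer_singleton_iff]
    constructor
    · rintro ⟨w, hw, rfl⟩
      rw [Subgroup.mem_centralizer_singleton_iff] at hw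
      have hw' : (w : G) * (y : G) = (y : G) * (w : G) := by
        have := congrArg (fun t : Subgroup.centralizer ({z} : Set G) => (t : G)) hw
        simpa using this
      have hwz : (w : G) * z = z * (w : G) := by
        have := w.2
        rw [Subgroup.mem_centralizer_singleton_iff] at this
        exact this
      simp only [Subgroup.coe_subtype]
      rw [← mul_assoc, hwz, mul_assoc, hw', ← mul_assoc]
    · intro hg
      have hgc : Commute g (z * (y : G)) := hg
      obtain ⟨i, hi⟩ := Subgroup.mem_zpowers_iff.mp hzm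
      obtain ⟨j, hj⟩ := Subgroup.mem_zpowers_iff.mp hym
      have hgz : Commute g z := by rw [← hi]; exact hgc.zpow_right i
      have hgy : Commute g (y : G) := by rw [← hj]; exact hgc.zpow_right j
      have hgC : g ∈ Subgroup.centralizer ({z} : Set G) := by
        rw [Subgroup.mem_centralizer_singleton_iff]
        exact hgz.eq
      refine ⟨⟨g, hgC⟩, ?_, rfl⟩
      rw [Subgroup.mem_centralizer_singleton_iff]
      apply Subtype.ext
      simp only [Subgroup.coe_mul]
      exact hgy.eq
  rw [← hmap]
  exact (Nat.card_congr (Subgroup.equivMapOfInjective _ _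
    (Subgroup.centralizer ({z} : Set G)).subtype_injective).toEquiv).symm

open Classical in
/-- weak block orthogonality for unions of blocks given by inducing a fixed block -/
theorem weak_orth_induced_union [Finite G] {p : ℕ} [hp : Fact p.Prime]
    (hM : Cfsg.IsPModular p M) (H : Subgroup G) [Fintype H] [Fintype (Cfsg.IrrCharacter H)]
    (B : Set (Cfsg.IrrCharacter G)) (c c' : H) (hc : ¬ p ∣ orderOf c) (hc' : p ∣ orderOf c') :
    ∑ ψ : Cfsg.IrrCharacter H, (if Cfsg.IsInducedBlock M H (Cfsg.blockOf M (ψ : H → ℂ)) B then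
      (ψ : H → ℂ) c * conj ((ψ : H → ℂ) c') else 0) = 0 := by
  have hMm := hM.2.1
  rw [← Finset.sum_filter]
  apply sum_eq_zero_of_block_sums hMm
  · intro ψ hψ ψ' hψ'
    rw [Finset.mem_filter] at hψ ⊢
    refine ⟨Finset.mem_univ _, ?_⟩
    rw [← blockOf_eq_of_sameBlock hMm hψ']
    exact hψ.2
  · intro ψ _
    have h := weak_block_orthogonality hMm p hM.2.2 (Cfsg.blockOf M (ψ : H → ℂ)) ⟨ψ, rfl⟩ c c'
      hc hc'
    rw [finsum_mem_eq_sum_ite] at h
    exact h

open Classical in
/-- **orthogonality on a `p`-section** -/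
theorem section_orthogonality [Fintype G] {p : ℕ} [hp : Fact p.Prime]
    (hM : Cfsg.IsPModular p M) (z : G) [Fintype (Subgroup.centralizer ({z} : Set G))]
    [Fintype (Cfsg.IrrCharacter (Subgroup.centralizer ({z} : Set G)))]
    [Fintype (Cfsg.IrrCharacter G)] (hz : ∃ k : ℕ, orderOf z = p ^ k)
    (B : Set (Cfsg.IrrCharacter G)) (hB : Cfsg.IsPBlock M B)
    (y c : Subgroup.centralizer ({z} : Set G)) (hy : ¬ p ∣ orderOf y) (hc : ¬ p ∣ orderOf c) :
    ∑ ζ : Cfsg.IrrCharacter G, (if ζ ∈ B then
      (ζ : G → ℂ) (z * (c : G)) * conj ((ζ : G → ℂ) (z * (y : G))) else 0) =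
    ∑ ψ : Cfsg.IrrCharacter (Subgroup.centralizer ({z} : Set G)),
      (if Cfsg.IsInducedBlock M (Subgroup.centralizer ({z} : Set G))
          (Cfsg.blockOf M (ψ : Subgroup.centralizer ({z} : Set G) → ℂ)) B then
        (ψ : Subgroup.centralizer ({z} : Set G) → ℂ) c *
          conj ((ψ : Subgroup.centralizer ({z} : Set G) → ℂ) y) else 0) := by
  have hMm := hM.2.1
  obtain ⟨ϑ, hϑdef⟩ : ∃ ϑ : G → ℂ, ϑ = classIndicator (z * (y : G)) := ⟨_, rfl⟩
  have hϑcf : Cfsg.IsClassFunction G ϑ := by
    rw [hϑdef]; exact classIndicator_isClassFunction _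
  -- the two constants
  have hG0 : (Nat.card G : ℂ) ≠ 0 := by
    have : 0 < Nat.card G := Nat.card_pos
    exact_mod_cast this.ne'
  have hH0 : (Nat.card (Subgroup.centralizer ({z} : Set G)) : ℂ) ≠ 0 := by
    have : 0 < Nat.card (Subgroup.centralizer ({z} : Set G)) := Nat.card_pos
    exact_mod_cast this.ne'
  have hcardG := card_conj_mul_card_centralizer (z * (y : G))
  have hcardH := card_conj_mul_card_centralizer y
  have hcent := card_centralizer_section p z hz y hy
  have hC0 : (Nat.card (Subgroup.centralizer ({z * (y : G)} : Set G)) : ℂ) ≠ 0 := by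
    have : 0 < Nat.card (Subgroup.centralizer ({z * (y : G)} : Set G)) := Nat.card_pos
    exact_mod_cast this.ne'
  have hκG : (Nat.card G : ℂ)⁻¹ * (Nat.card {x : G // IsConj (z * (y : G)) x} : ℂ) =
      (Nat.card (Subgroup.centralizer ({z * (y : G)} : Set G)) : ℂ)⁻¹ := by
    have h1 : (Nat.card {x : G // IsConj (z * (y : G)) x} : ℂ) *
        (Nat.card (Subgroup.centralizer ({z * (y : G)} : Set G)) : ℂ) = (Nat.card G : ℂ) := by
      exact_mod_cast hcardG
    rw [← h1]
    field_simp
  have hκH : (Nat.card (Subgroup.centralizer ({z} : Set G)) : ℂ)⁻¹ *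
      (Nat.card {x : Subgroup.centralizer ({z} : Set G) // IsConj y x} : ℂ) =
      (Nat.card (Subgroup.centralizer ({z * (y : G)} : Set G)) : ℂ)⁻¹ := by
    have h1 : (Nat.card {x : Subgroup.centralizer ({z} : Set G) // IsConj y x} : ℂ) *
        (Nat.card (Subgroup.centralizer ({y} : Set (Subgroup.centralizer ({z} : Set G)))) : ℂ) =
        (Nat.card (Subgroup.centralizer ({z} : Set G)) : ℂ) := by
      exact_mod_cast hcardH
    rw [hcent, ← h1]
    have hC0' : (Nat.card (Subgroup.centralizer
        ({y} : Set (Subgroup.centralizer ({z} : Set G)))) : ℂ) ≠ 0 := by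
      rw [← hcent]; exact hC0
    have hN0 : (Nat.card {x : Subgroup.centralizer ({z} : Set G) // IsConj y x} : ℂ) ≠ 0 := by
      intro h0
      rw [h0, zero_mul] at h1
      exact hH0 h1.symm
    field_simp
  -- left side
  have hL : Cfsg.blockPart B ϑ (z * (c : G)) =
      (Nat.card (Subgroup.centralizer ({z * (y : G)} : Set G)) : ℂ)⁻¹ *
      ∑ ζ : Cfsg.IrrCharacter G, (if ζ ∈ B then
        (ζ : G → ℂ) (z * (c : G)) * conj ((ζ : G → ℂ) (z * (y : G))) else 0) := by
    rw [blockPart_apply, finsum_mem_eq_sum_ite, ← hκG, Finset.mul_sum]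
    apply Finset.sum_congr rfl
    intro ζ _
    split_ifs
    · rw [hϑdef, classInner_classIndicator _ _
        (IsCharacter.isClassFunction (IsIrrCharacter.isCharacter ζ.2))]
      ring
    · rw [mul_zero]
  -- right side
  obtain ⟨W, hWdef⟩ : ∃ W : Subgroup.centralizer ({z} : Set G) → ℂ, W = fun c' =>
      ∑ ψ : Cfsg.IrrCharacter (Subgroup.centralizer ({z} : Set G)),
      (if Cfsg.IsInducedBlock M (Subgroup.centralizer ({z} : Set G))
          (Cfsg.blockOf M (ψ : Subgroup.centralizer ({z} : Set G) → ℂ)) B then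
        (ψ : Subgroup.centralizer ({z} : Set G) → ℂ) c *
          conj ((ψ : Subgroup.centralizer ({z} : Set G) → ℂ) c') else 0) := ⟨_, rfl⟩
  have hWapp : ∀ c', W c' = ∑ ψ : Cfsg.IrrCharacter (Subgroup.centralizer ({z} : Set G)),
      (if Cfsg.IsInducedBlock M (Subgroup.centralizer ({z} : Set G))
          (Cfsg.blockOf M (ψ : Subgroup.centralizer ({z} : Set G) → ℂ)) B then
        (ψ : Subgroup.centralizer ({z} : Set G) → ℂ) c *
          conj ((ψ : Subgroup.centralizer ({z} : Set G) → ℂ) c') else 0) := by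
    intro c'; rw [hWdef]
  have hR : Cfsg.blockPart B ϑ (z * (c : G)) =
      (Nat.card (Subgroup.centralizer ({z} : Set G)) : ℂ)⁻¹ *
        ∑ c' : Subgroup.centralizer ({z} : Set G), ϑ (z * (c' : G)) * W c' := by
    rw [blockPart_section_formula hM ϑ hϑcf z hz B hB c hc]
    simp_rw [hWapp, Finset.mul_sum]
    rw [Finset.sum_comm]
    apply Finset.sum_congr rfl
    intro ψ _
    split_ifs with hψ
    · rw [classInner_def, Finset.mul_sum, Finset.sum_mul]
      apply Finset.sum_congr rfl
      intro c' _
      ring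
    · simp
  have hterm : ∀ c' : Subgroup.centralizer ({z} : Set G),
      ϑ (z * (c' : G)) * W c' = if IsConj y c' then W y else 0 := by
    intro c'
    by_cases hc' : p ∣ orderOf c'
    · have hW0 : W c' = 0 := by
        rw [hWapp]
        exact weak_orth_induced_union hM _ B c c' hc hc'
      have hnc : ¬ IsConj y c' := by
        intro hcon
        obtain ⟨t, ht⟩ := isConj_iff.mp hcon
        have := MulEquiv.orderOf_eq (MulAut.conj t) y
        rw [MulAut.conj_apply, ht] at this
        rw [this] at hc'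
        exact hy hc'
      rw [hW0, mul_zero, if_neg hnc]
    · rw [hϑdef, classIndicator_apply]
      by_cases hcon : IsConj y c'
      · rw [if_pos ((isConj_section_iff p z hz y c' hy hc').mpr hcon), if_pos hcon, one_mul,
          hWapp, hWapp]
        apply Finset.sum_congr rfl
        intro ψ _
        split_ifs
        · rw [IsClassFunction.eq_of_isConj
            (IsCharacter.isClassFunction (IsIrrCharacter.isCharacter ψ.2)) hcon]
        · rfl
      · rw [if_neg (fun h => hcon ((isConj_section_iff p z hz y c' hy hc').mp h)), if_neg hcon,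
          zero_mul]
  have hsum : ∑ c' : Subgroup.centralizer ({z} : Set G), ϑ (z * (c' : G)) * W c' =
      (Nat.card {x : Subgroup.centralizer ({z} : Set G) // IsConj y x} : ℂ) * W y := by
    rw [Finset.sum_congr rfl (fun c' _ => hterm c'), ← Finset.sum_filter, Finset.sum_const,
      nsmul_eq_mul]
    congr 2
    rw [Nat.card_eq_fintype_card, Fintype.card_subtype]
  rw [hsum, ← mul_assoc, hκH] at hR
  have hfin := hL.symm.trans hR
  have := mul_left_cancel₀ (inv_ne_zero hC0) hfin
  rw [this, hWapp]

end Cfsg.Agent.Helper6
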