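import Mathlib
import Cfsg.Prelude.Def_Characters
import Cfsg.Prelude.Def_Blocks
import Cfsg.Agent.Helper6.BrauerAppA
import Cfsg.Agent.Helper6.PrincipalSection2
import Cfsg.Agent.Helper6.ThirdMain
import Cfsg.Agent.Helper6.ColumnOrth
import Cfsg.Agent.Helper6.OsimaSupport
import Cfsg.Agent.Helper6.DadeIso

/-!
# Block orthogonality for the principal block at `p`-elements (S4720), first part
-/

set_option autoImplicit false
set_option linter.style.haveILetI false

namespace Cfsg.Agent.Helper6

open Module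
open scoped ComplexConjugate

universe u

variable {G : Type u} [Group G] {M : Ideal Cfsg.AlgInt}

/-- conjugate elements have centralizers of the same order -/
theorem card_centralizer_eq_of_isConj [Finite G] {y z : G} (h : IsConj y z) :
    Nat.card (Subgroup.centralizer ({y} : Set G)) =
      Nat.card (Subgroup.centralizer ({z} : Set G)) := by
  have h1 := card_conj_mul_card_centralizer y
  have h2 := card_conj_mul_card_centralizer z
  have h3 : Nat.card {x : G // IsConj y x} = Nat.card {x : G // IsConj z x} := by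
    apply Nat.card_congr
    refine Equiv.subtypeEquivRight ?_
    intro x
    exact ⟨fun hx => h.symm.trans hx, fun hx => h.trans hx⟩
  rw [h3] at h1
  have hpos : 0 < Nat.card {x : G // IsConj z x} := by
    haveI : Nonempty {x : G // IsConj z x} := ⟨⟨z, IsConj.refl z⟩⟩
    exact Nat.card_pos
  exact Nat.eq_of_mul_eq_mul_left hpos (h1.trans h2.symm)

open Classical in
/-- **block orthogonality for the principal block at `p`-elements** -/
theorem principal_section_orth [Fintype G] {p : ℕ} [hp : Fact p.Prime]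
    (hM : Cfsg.IsPModular p M) (y z : G) (hy : ∃ k : ℕ, orderOf y = p ^ k)
    (hz : ∃ k : ℕ, orderOf z = p ^ k) :
    ∑ᶠ χ ∈ Cfsg.principalBlock M G, (χ : G → ℂ) y * conj ((χ : G → ℂ) z) =
      if IsConj y z then
        ∑ᶠ ψ ∈ Cfsg.principalBlock M (Subgroup.centralizer ({y} : Set G)),
          ((Cfsg.charDegree (ψ : Subgroup.centralizer ({y} : Set G) → ℂ) : ℂ)) ^ 2
      else 0 := by
  classical
  haveI : Fintype (Subgroup.centralizer ({y} : Set G)) := Fintype.ofFinite _
  haveI : Finite (Cfsg.IrrCharacter (Subgroup.centralizer ({y} : Set G))) := irr_finite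
  haveI : Fintype (Cfsg.IrrCharacter (Subgroup.centralizer ({y} : Set G))) := Fintype.ofFinite _
  have hMm := hM.2.1
  obtain ⟨B₀, hB₀def⟩ : ∃ B₀ : Set (Cfsg.IrrCharacter G), B₀ = Cfsg.principalBlock M G :=
    ⟨_, rfl⟩
  have hB₀ : Cfsg.IsPBlock M B₀ := by
    rw [hB₀def]
    exact ⟨⟨fun _ => 1, isIrrCharacter_one⟩, rfl⟩
  obtain ⟨b₀, hb₀def⟩ : ∃ b₀ : Set (Cfsg.IrrCharacter (Subgroup.centralizer ({y} : Set G))),
      b₀ = Cfsg.principalBlock M (Subgroup.centralizer ({y} : Set G)) := ⟨_, rfl⟩
  have hb₀ : Cfsg.IsPBlock M b₀ := by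
    rw [hb₀def]
    exact ⟨⟨fun _ => 1, isIrrCharacter_one⟩, rfl⟩
  rw [← hB₀def, ← hb₀def]
  obtain ⟨ϑ, hϑ⟩ : ∃ ϑ : G → ℂ,
      ϑ = (Nat.card (Subgroup.centralizer ({z} : Set G)) : ℂ) • classIndicator z := ⟨_, rfl⟩
  have hϑcf : Cfsg.IsClassFunction G ϑ := by
    rw [hϑ]
    exact IsClassFunction.smul _ (classIndicator_isClassFunction z)
  have hinner : ∀ χ : Cfsg.IrrCharacter G,
      Cfsg.classInner ϑ (χ : G → ℂ) = conj ((χ : G → ℂ) z) := by
    intro χ
    rw [hϑ, classInner_smul_left, classInner_classIndicator z _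
      (IsCharacter.isClassFunction (IsIrrCharacter.isCharacter χ.2))]
    have h1 := card_conj_mul_card_centralizer z
    have hG0 : (Nat.card G : ℂ) ≠ 0 := by
      have : 0 < Nat.card G := Nat.card_pos
      exact_mod_cast this.ne'
    have h2 : (Nat.card {x : G // IsConj z x} : ℂ) *
        (Nat.card (Subgroup.centralizer ({z} : Set G)) : ℂ) = (Nat.card G : ℂ) := by
      exact_mod_cast h1
    rw [← h2]
    rw [← h2] at hG0
    field_simp
  have hLHS : ∑ᶠ χ ∈ B₀, (χ : G → ℂ) y * conj ((χ : G → ℂ) z) = Cfsg.blockPart B₀ ϑ y := by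
    rw [blockPart_apply]
    apply finsum_mem_congr rfl
    intro χ _
    rw [hinner χ, mul_comm]
  rw [hLHS]
  have h1C : ¬ p ∣ orderOf (1 : Subgroup.centralizer ({y} : Set G)) := by
    rw [orderOf_one]
    exact hp.out.one_lt.ne' ∘ Nat.dvd_one.mp
  have hform := blockPart_section_formula hM ϑ hϑcf y hy B₀ hB₀
    (1 : Subgroup.centralizer ({y} : Set G)) h1C
  rw [Subgroup.coe_one, mul_one] at hform
  rw [hform]
  -- the blocks inducing the principal block
  have hcond : ∀ ψ : Cfsg.IrrCharacter (Subgroup.centralizer ({y} : Set G)),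
      Cfsg.IsInducedBlock M (Subgroup.centralizer ({y} : Set G))
        (Cfsg.blockOf M (ψ : Subgroup.centralizer ({y} : Set G) → ℂ)) B₀ ↔ ψ ∈ b₀ := by
    intro ψ
    rw [hB₀def, third_main hM (Subgroup.centralizer ({y} : Set G)) _
      (inducedBlockDefined_centralizer hM y hy _ ⟨ψ, rfl⟩), ← hb₀def]
    constructor
    · intro h
      rw [← h]
      exact mem_blockOf_self hMm ψ
    · intro h
      exact (eq_blockOf_of_mem hMm b₀ hb₀ ψ h).symm
  simp_rw [hcond]
  -- interchange the sums
  have hG0 : (Nat.card (Subgroup.centralizer ({y} : Set G)) : ℂ) ≠ 0 := by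
    have : 0 < Nat.card (Subgroup.centralizer ({y} : Set G)) := Nat.card_pos
    exact_mod_cast this.ne'
  have hswap : ∑ ψ : Cfsg.IrrCharacter (Subgroup.centralizer ({y} : Set G)),
      (if ψ ∈ b₀ then
        Cfsg.classInner (fun c : Subgroup.centralizer ({y} : Set G) => ϑ (y * (c : G)))
          (ψ : Subgroup.centralizer ({y} : Set G) → ℂ) *
        (ψ : Subgroup.centralizer ({y} : Set G) → ℂ) 1 else 0) =
      ∑ c : Subgroup.centralizer ({y} : Set G), ϑ (y * (c : G)) * Cfsg.blockCoeff b₀ c := by
    have hbc : ∀ c : Subgroup.centralizer ({y} : Set G), Cfsg.blockCoeff b₀ c =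
        (Nat.card (Subgroup.centralizer ({y} : Set G)) : ℂ)⁻¹ *
          ∑ ψ : Cfsg.IrrCharacter (Subgroup.centralizer ({y} : Set G)),
            (if ψ ∈ b₀ then (ψ : Subgroup.centralizer ({y} : Set G) → ℂ) 1 *
              conj ((ψ : Subgroup.centralizer ({y} : Set G) → ℂ) c) else 0) := by
      intro c
      unfold Cfsg.blockCoeff
      rw [finsum_mem_eq_sum_ite]
    simp_rw [hbc, classInner_def, Finset.mul_sum]
    rw [Finset.sum_comm]
    apply Finset.sum_congr rfl
    intro ψ _
    split_ifs
    · rw [Finset.sum_mul]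
      apply Finset.sum_congr rfl
      intro c _
      ring
    · simp
  rw [hswap]
  -- only `c = 1` contributes
  have hsingle : ∑ c : Subgroup.centralizer ({y} : Set G),
      ϑ (y * (c : G)) * Cfsg.blockCoeff b₀ c = ϑ y * Cfsg.blockCoeff b₀ 1 := by
    rw [Finset.sum_eq_single (1 : Subgroup.centralizer ({y} : Set G))]
    · rw [Subgroup.coe_one, mul_one]
    · intro c _ hc1
      by_cases hcp : p ∣ orderOf c
      · rw [blockCoeff_eq_zero_of_singular hMm p hM.2.2 b₀ hb₀ c hcp, mul_zero]
      · have : ϑ (y * (c : G)) = 0 := by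
          rw [hϑ, Pi.smul_apply, classIndicator_apply, smul_eq_mul]
          rw [if_neg, mul_zero]
          intro hconj
          obtain ⟨j, hj⟩ := hz
          have hord : orderOf (y * (c : G)) = p ^ j := by
            obtain ⟨t, ht⟩ := isConj_iff.mp hconj
            rw [← ht]
            have := MulEquiv.orderOf_eq (MulAut.conj t) z
            rw [MulAut.conj_apply] at this
            rw [this, hj]
          have hcomm : Commute y (c : G) := by
            have := c.2
            rw [Subgroup.mem_centralizer_singleton_iff] at this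
            exact this.symm
          have hpart1 : Cfsg.IsPPart p (y * (c : G)) y :=
            ⟨(c : G), rfl, hcomm, hy, by rw [Subgroup.orderOf_coe]; exact hcp⟩
          have hpart2 := isPPart_self (p := p) (y * (c : G)) j hord
          have := isPPart_unique p hpart1 hpart2
          apply hc1
          apply Subtype.ext
          rw [Subgroup.coe_one]
          exact (mul_eq_left (a := y)).mp this.symm
        rw [this, zero_mul]
    · intro h
      exact absurd (Finset.mem_univ _) h
  rw [hsingle]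
  -- the value at `1`
  have hb1 : Cfsg.blockCoeff b₀ 1 = (Nat.card (Subgroup.centralizer ({y} : Set G)) : ℂ)⁻¹ *
      ∑ᶠ ψ ∈ b₀, ((Cfsg.charDegree (ψ : Subgroup.centralizer ({y} : Set G) → ℂ) : ℂ)) ^ 2 := by
    unfold Cfsg.blockCoeff
    congr 1
    apply finsum_mem_congr rfl
    intro ψ _
    rw [← charDegree_cast_of_isCharacter (IsIrrCharacter.isCharacter ψ.2), Complex.conj_natCast,
      pow_two]
  rw [hb1, hϑ, Pi.smul_apply, classIndicator_apply, smul_eq_mul]
  by_cases hconj : IsConj y z
  · rw [if_pos hconj, if_pos hconj.symm, mul_one, ← card_centralizer_eq_of_isConj hconj,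
      ← mul_assoc, mul_inv_cancel₀ hG0, one_mul]
  · rw [if_neg hconj, if_neg (fun h => hconj h.symm), mul_zero, zero_mul]

end Cfsg.Agent.Helper6
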