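import Mathlib
import Cfsg.Prelude.Def_Characters
import Cfsg.Prelude.Def_Blocks
import Cfsg.Agent.Helper6.BrauerAppD

/-!
# Block orthogonality for the principal block at `p`-elements (S4720), second part
-/

set_option autoImplicit false
set_option linter.style.haveILetI false

namespace Cfsg.Agent.Helper6

open Module
open scoped ComplexConjugate

universe u

variable {G : Type u} [Group G] {M : Ideal Cfsg.AlgInt}

/-- the fibres of `x ↦ x y x⁻¹` on a subgroup `N` are cosets of `C_N(y)` -/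
theorem card_conj_fiber [Finite G] (N : Subgroup G) (y x₀ : G) (hx₀ : x₀ ∈ N) :
    Nat.card {x : N // (x : G) * y * (x : G)⁻¹ = x₀ * y * x₀⁻¹} =
      Nat.card ↥(N ⊓ Subgroup.centralizer ({y} : Set G)) := by
  symm
  have hmem : ∀ c : ↥(N ⊓ Subgroup.centralizer ({y} : Set G)), x₀ * (c : G) ∈ N := fun c =>
    N.mul_mem hx₀ (Subgroup.mem_inf.mp c.2).1
  have hcomm : ∀ c : ↥(N ⊓ Subgroup.centralizer ({y} : Set G)), (c : G) * y = y * (c : G) := by
    intro c
    have := (Subgroup.mem_inf.mp c.2).2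
    rw [Subgroup.mem_centralizer_singleton_iff] at this
    exact this
  have hfib : ∀ c : ↥(N ⊓ Subgroup.centralizer ({y} : Set G)),
      (x₀ * (c : G)) * y * (x₀ * (c : G))⁻¹ = x₀ * y * x₀⁻¹ := by
    intro c
    rw [mul_inv_rev, mul_assoc x₀, hcomm c]
    group
  apply Nat.card_eq_of_bijective
    (fun c : ↥(N ⊓ Subgroup.centralizer ({y} : Set G)) =>
      (⟨⟨x₀ * (c : G), hmem c⟩, hfib c⟩ :
        {x : N // (x : G) * y * (x : G)⁻¹ = x₀ * y * x₀⁻¹}))
  constructor
  · intro c d hcd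
    have h1 := congrArg (fun t : {x : N // (x : G) * y * (x : G)⁻¹ = x₀ * y * x₀⁻¹} =>
      ((t : N) : G)) hcd
    beta_reduce at h1
    apply Subtype.ext
    exact mul_left_cancel h1
  · rintro ⟨⟨x, hxN⟩, hx⟩
    change x * y * x⁻¹ = x₀ * y * x₀⁻¹ at hx
    have hc : x₀⁻¹ * x ∈ N ⊓ Subgroup.centralizer ({y} : Set G) := by
      refine Subgroup.mem_inf.mpr ⟨N.mul_mem (N.inv_mem hx₀) hxN, ?_⟩
      rw [Subgroup.mem_centralizer_singleton_iff]
      have h2 : x₀⁻¹ * (x * y * x⁻¹) * x₀ = y := by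
        rw [hx]
        group
      have h3 : x₀⁻¹ * x * y = y * (x₀⁻¹ * x) := by
        calc x₀⁻¹ * x * y = (x₀⁻¹ * (x * y * x⁻¹) * x₀) * (x₀⁻¹ * x) := by group
          _ = y * (x₀⁻¹ * x) := by rw [h2]
      exact h3
    refine ⟨⟨_, hc⟩, ?_⟩
    apply Subtype.ext
    apply Subtype.ext
    change x₀ * (x₀⁻¹ * x) = x
    group

open Classical in
/-- summing the extension by zero of `η` over the `N`-conjugates of `y`, under control of fusion -/
theorem sum_conj_extendByZero [Finite G] (P N : Subgroup G)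
    (hNN : N ≤ Subgroup.normalizer (P : Set G)) (η : ↥P → ℂ) (y : ↥P)
    (hfus : ∀ g : G, g * (y : G) * g⁻¹ ∈ (P : Set G) →
      ∃ n ∈ N, n * (y : G) * n⁻¹ = g * (y : G) * g⁻¹)
    [Fintype ↥N] [Fintype ↥P] :
    ∑ x : ↥N, Cfsg.extendByZero P η ((x : G) * (y : G) * (x : G)⁻¹) =
      (Nat.card ↥(N ⊓ Subgroup.centralizer ({(y : G)} : Set G)) : ℂ) *
        ∑ z : ↥P, if IsConj (y : G) (z : G) then η z else 0 := by
  classical
  have hmemP : ∀ x : ↥N, (x : G) * (y : G) * (x : G)⁻¹ ∈ P := by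
    intro x
    have hx := hNN x.2
    rw [Subgroup.mem_normalizer_iff] at hx
    exact (hx (y : G)).mp y.2
  obtain ⟨f, hf⟩ : ∃ f : ↥N → ↥P, ∀ x : ↥N, ((f x : ↥P) : G) = (x : G) * (y : G) * (x : G)⁻¹ :=
    ⟨fun x => ⟨_, hmemP x⟩, fun _ => rfl⟩
  have h1 : ∀ x : ↥N, Cfsg.extendByZero P η ((x : G) * (y : G) * (x : G)⁻¹) = η (f x) := by
    intro x
    rw [← hf x, extendByZero_coe]
  simp_rw [h1]
  rw [← Finset.sum_fiberwise (Finset.univ : Finset ↥N) f (fun x => η (f x)), Finset.mul_sum]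
  apply Finset.sum_congr rfl
  intro z _
  have h2 : ∑ x ∈ Finset.univ.filter (fun x : ↥N => f x = z), η (f x) =
      ((Finset.univ.filter (fun x : ↥N => f x = z)).card : ℂ) * η z := by
    rw [Finset.sum_congr rfl (fun x hx => by rw [(Finset.mem_filter.mp hx).2] :
      ∀ x ∈ Finset.univ.filter (fun x : ↥N => f x = z), η (f x) = η z)]
    rw [Finset.sum_const, nsmul_eq_mul]
  rw [h2]
  by_cases hconj : IsConj (y : G) (z : G)
  · rw [if_pos hconj]
    congr 1
    obtain ⟨g, hg⟩ := isConj_iff.mp hconj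
    have hgP : g * (y : G) * g⁻¹ ∈ (P : Set G) := by
      rw [hg]
      exact z.2
    obtain ⟨n, hnN, hn⟩ := hfus g hgP
    rw [hg] at hn
    rw [← card_conj_fiber N (y : G) n hnN, Nat.card_eq_fintype_card, Fintype.card_subtype]
    congr 2
    ext x
    rw [Finset.mem_filter, Finset.mem_filter, hn, Subtype.ext_iff, hf x]
  · rw [if_neg hconj, mul_zero]
    have : Finset.univ.filter (fun x : ↥N => f x = z) = ∅ := by
      rw [Finset.filter_eq_empty_iff]
      intro x _ hx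
      apply hconj
      rw [isConj_iff]
      refine ⟨(x : G), ?_⟩
      rw [← hf x, hx]
    rw [this, Finset.card_empty, Nat.cast_zero, zero_mul]

open Classical in
/-- **Brauer's formula for the principal block under control of fusion** -/
theorem principal_fusion_formula [Finite G] (p : ℕ) [hp : Fact p.Prime]
    (hM : Cfsg.IsPModular p M) (P : Subgroup G) (hP : IsPGroup p P) (N : Subgroup G)
    (hNN : N ≤ Subgroup.normalizer (P : Set G)) (U : Set G)
    (hfus : ∀ u ∈ U, ∀ g : G, g * u * g⁻¹ ∈ (P : Set G) →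
      ∃ n ∈ N, n * u * n⁻¹ = g * u * g⁻¹) (w : ℚ)
    (hw : ∀ y ∈ U, (∑ᶠ ψ ∈ Cfsg.principalBlock M ↥(Subgroup.centralizer ({y} : Set G)),
      ((Cfsg.charDegree (ψ : ↥(Subgroup.centralizer ({y} : Set G)) → ℂ) : ℕ) : ℚ) ^ 2) =
        w * Nat.card ↥(N ⊓ Subgroup.centralizer ({y} : Set G)))
    (θ η : ↥P → ℂ) (hθU : ∀ y : ↥P, (y : G) ∉ U → θ y = 0) :
    ∑ᶠ χ ∈ Cfsg.principalBlock M G,
      ((Nat.card ↥P : ℂ)⁻¹ * ∑ᶠ y : ↥P, (χ : G → ℂ) (y : G) * θ y⁻¹) *
        (starRingEnd ℂ) ((Nat.card ↥P : ℂ)⁻¹ * ∑ᶠ y : ↥P, (χ : G → ℂ) (y : G) * η y⁻¹) =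
      ((w : ℂ) / ((Nat.card ↥P : ℂ) ^ 2)) * ∑ᶠ y : ↥P, θ y *
        (starRingEnd ℂ) (∑ᶠ x : ↥N, Cfsg.extendByZero P η ((x : G) * (y : G) * (x : G)⁻¹)) := by
  classical
  haveI : Fintype G := Fintype.ofFinite G
  haveI : Fintype ↥P := Fintype.ofFinite _
  haveI : Fintype ↥N := Fintype.ofFinite _
  haveI : Finite (Cfsg.IrrCharacter G) := irr_finite
  haveI : Fintype (Cfsg.IrrCharacter G) := Fintype.ofFinite _
  rw [finsum_mem_eq_sum_ite]
  simp_rw [finsum_eq_sum_of_fintype]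
  -- reindexing `y ↦ y⁻¹`
  have hA : ∀ (χ : Cfsg.IrrCharacter G) (φ : ↥P → ℂ),
      ∑ y : ↥P, (χ : G → ℂ) (y : G) * φ y⁻¹ = ∑ y : ↥P, conj ((χ : G → ℂ) (y : G)) * φ y := by
    intro χ φ
    rw [← Equiv.sum_comp (Equiv.inv ↥P) (fun y : ↥P => (χ : G → ℂ) (y : G) * φ y⁻¹)]
    apply Finset.sum_congr rfl
    intro y _
    rw [Equiv.inv_apply, inv_inv, Subgroup.coe_inv,
      IsCharacter.inv_eq_conj (IsIrrCharacter.isCharacter χ.2)]
  simp_rw [hA]
  obtain ⟨c, hc⟩ : ∃ c : ℂ, c = (Nat.card ↥P : ℂ)⁻¹ := ⟨_, rfl⟩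
  have hcc : conj c = c := by
    rw [hc, map_inv₀, Complex.conj_natCast]
  rw [← hc]
  -- the principal block orthogonality
  obtain ⟨lam, hlam⟩ : ∃ lam : G → ℕ, ∀ y : G, lam y =
      ∑ᶠ ψ ∈ Cfsg.principalBlock M ↥(Subgroup.centralizer ({y} : Set G)),
        Cfsg.charDegree (ψ : ↥(Subgroup.centralizer ({y} : Set G)) → ℂ) ^ 2 := ⟨_, fun _ => rfl⟩
  have hpel : ∀ y : ↥P, ∃ k : ℕ, orderOf (y : G) = p ^ k := by
    intro y
    obtain ⟨k, hk⟩ := (IsPGroup.iff_orderOf.mp hP) y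
    exact ⟨k, by rw [Subgroup.orderOf_coe]; exact hk⟩
  have hkey : ∀ y z : ↥P, ∑ χ : Cfsg.IrrCharacter G,
      (if χ ∈ Cfsg.principalBlock M G then
        conj ((χ : G → ℂ) (y : G)) * (χ : G → ℂ) (z : G) else 0) =
      if IsConj (y : G) (z : G) then (lam (y : G) : ℂ) else 0 := by
    intro y z
    have h1 := principal_section_orth hM (y : G) (z : G) (hpel y) (hpel z)
    rw [finsum_mem_eq_sum_ite] at h1
    have h2 := congrArg conj h1
    rw [map_sum] at h2
    have h3 : (∑ᶠ ψ ∈ Cfsg.principalBlock M ↥(Subgroup.centralizer ({(y : G)} : Set G)),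
        ((Cfsg.charDegree (ψ : ↥(Subgroup.centralizer ({(y : G)} : Set G)) → ℂ) : ℂ)) ^ 2) =
        (lam (y : G) : ℂ) := by
      haveI : Finite (Cfsg.IrrCharacter ↥(Subgroup.centralizer ({(y : G)} : Set G))) := irr_finite
      rw [hlam, Nat.cast_finsum_mem (Set.toFinite _)]
      apply finsum_mem_congr rfl
      intro ψ _
      rw [Nat.cast_pow]
    rw [h3] at h2
    rw [apply_ite conj, Complex.conj_natCast, map_zero] at h2
    rw [← h2]
    apply Finset.sum_congr rfl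
    intro χ _
    rw [apply_ite conj, map_zero, map_mul, Complex.conj_conj]
  -- expand the product
  have hterm : ∀ χ : Cfsg.IrrCharacter G,
      (c * ∑ y : ↥P, conj ((χ : G → ℂ) (y : G)) * θ y) *
        conj (c * ∑ y : ↥P, conj ((χ : G → ℂ) (y : G)) * η y) =
      c * c * ∑ y : ↥P, ∑ z : ↥P, θ y * conj (η z) *
        (conj ((χ : G → ℂ) (y : G)) * (χ : G → ℂ) (z : G)) := by
    intro χ
    rw [map_mul, hcc, map_sum, mul_mul_mul_comm, Finset.sum_mul_sum]
    congr 1
    apply Finset.sum_congr rfl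
    intro y _
    apply Finset.sum_congr rfl
    intro z _
    rw [map_mul, Complex.conj_conj]
    ring
  simp_rw [hterm]
  rw [← Finset.sum_filter, ← Finset.mul_sum, Finset.sum_comm]
  have hswap : ∀ y : ↥P,
      ∑ χ ∈ Finset.univ.filter (fun χ : Cfsg.IrrCharacter G => χ ∈ Cfsg.principalBlock M G),
        ∑ z : ↥P, θ y * conj (η z) * (conj ((χ : G → ℂ) (y : G)) * (χ : G → ℂ) (z : G)) =
      θ y * ∑ z : ↥P, conj (η z) *
        (if IsConj (y : G) (z : G) then (lam (y : G) : ℂ) else 0) := by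
    intro y
    rw [Finset.sum_comm, Finset.mul_sum]
    apply Finset.sum_congr rfl
    intro z _
    rw [← hkey y z, ← Finset.sum_filter, Finset.mul_sum, Finset.mul_sum]
    apply Finset.sum_congr rfl
    intro χ _
    ring
  simp_rw [hswap]
  -- the right hand side
  have hrhs : ∀ y : ↥P, θ y * ∑ z : ↥P, conj (η z) *
        (if IsConj (y : G) (z : G) then (lam (y : G) : ℂ) else 0) =
      (w : ℂ) * (θ y * conj (∑ x : ↥N,
        Cfsg.extendByZero P η ((x : G) * (y : G) * (x : G)⁻¹))) := by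
    intro y
    by_cases hyU : (y : G) ∈ U
    · rw [sum_conj_extendByZero P N hNN η y (hfus (y : G) hyU), map_mul, Complex.conj_natCast,
        map_sum]
      have h4 : (lam (y : G) : ℂ) =
          (w : ℂ) * (Nat.card ↥(N ⊓ Subgroup.centralizer ({(y : G)} : Set G)) : ℂ) := by
        have h5 := hw (y : G) hyU
        have h5' : ((lam (y : G) : ℕ) : ℚ) =
            ∑ᶠ ψ ∈ Cfsg.principalBlock M ↥(Subgroup.centralizer ({(y : G)} : Set G)),
              ((Cfsg.charDegree (ψ : ↥(Subgroup.centralizer ({(y : G)} : Set G)) → ℂ) : ℕ) : ℚ) ^ 2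
            := by
          haveI : Finite (Cfsg.IrrCharacter ↥(Subgroup.centralizer ({(y : G)} : Set G))) :=
            irr_finite
          rw [hlam, Nat.cast_finsum_mem (Set.toFinite _)]
          apply finsum_mem_congr rfl
          intro ψ _
          rw [Nat.cast_pow]
        rw [← h5'] at h5
        have h6 := congrArg (fun q : ℚ => (q : ℂ)) h5
        beta_reduce at h6
        rw [Rat.cast_mul, Rat.cast_natCast, Rat.cast_natCast] at h6
        exact h6
      rw [h4, Finset.mul_sum, Finset.mul_sum, Finset.mul_sum, Finset.mul_sum]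
      apply Finset.sum_congr rfl
      intro z _
      rw [apply_ite conj, map_zero]
      split_ifs
      · ring
      · ring
    · rw [hθU y hyU, zero_mul, zero_mul, mul_zero]
  simp_rw [hrhs]
  rw [← Finset.mul_sum, hc]
  ring

end Cfsg.Agent.Helper6
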