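import Mathlib
import Cfsg.Prelude.Def_Characters
import Cfsg.Prelude.Def_Blocks
import Cfsg.Prelude.Def_Local
import Cfsg.Agent.Helper6.PrincipalSection2
import Cfsg.Agent.Helper6.InflationBlocks
import Cfsg.Agent.Helper6.DadeIso

/-!
# S0947: sums of squares of the principal block on a `p`-section
-/

set_option autoImplicit false
set_option linter.style.haveILetI false

namespace Cfsg.Agent.Helper6

open Module
open scoped ComplexConjugate

universe u

variable {G : Type u} [Group G] {M : Ideal Cfsg.AlgInt}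

open Classical in
theorem finsum_norm_sq_cast {α : Type*} [Fintype α] (s : Set α) (f : α → ℂ) :
    ((∑ᶠ i ∈ s, ‖f i‖ ^ 2 : ℝ) : ℂ) = ∑ i : α, if i ∈ s then f i * conj (f i) else 0 := by
  rw [finsum_mem_eq_sum_ite_real, Complex.ofReal_sum]
  apply Finset.sum_congr rfl
  intro i _
  split_ifs
  · rw [Complex.mul_conj, Complex.normSq_eq_norm_sq]
  · rfl

/-- membership in the principal block via the block of the character -/
theorem blockOf_eq_principalBlock_iff (hM : M.IsMaximal) (ψ : Cfsg.IrrCharacter G) :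
    Cfsg.blockOf M (ψ : G → ℂ) = Cfsg.principalBlock M G ↔ ψ ∈ Cfsg.principalBlock M G := by
  constructor
  · intro h
    rw [← h]
    exact mem_blockOf_self hM ψ
  · intro h
    exact (blockOf_eq_of_sameBlock hM h).symm

/-- `p`-regular elements lie in a normal subgroup of `p`-power index -/
theorem mem_of_pRegular_of_index [Finite G] {p : ℕ} [hp : Fact p.Prime] (K : Subgroup G)
    [hK : K.Normal] (hidx : ∃ k : ℕ, K.index = p ^ k) (g : G) (hg : ¬ p ∣ orderOf g) : g ∈ K := by
  obtain ⟨k, hk⟩ := hidx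
  rw [← QuotientGroup.eq_one_iff]
  have h1 : ((g : G ⧸ K)) ^ p ^ k = 1 := by
    have : Nat.card (G ⧸ K) = p ^ k := hk
    rw [← this]
    exact pow_card_eq_one'
  have h2 : ((g : G ⧸ K)) ^ orderOf g = 1 := by
    rw [← QuotientGroup.mk_pow, pow_orderOf_eq_one, QuotientGroup.mk_one]
  have d1 := orderOf_dvd_of_pow_eq_one h1
  have d2 := orderOf_dvd_of_pow_eq_one h2
  have hcop : Nat.Coprime (p ^ k) (orderOf g) :=
    Nat.Coprime.pow_left k ((Nat.Prime.coprime_iff_not_dvd hp.1).mpr hg)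
  have := Nat.eq_one_of_dvd_coprimes hcop d1 d2
  exact orderOf_eq_one_iff.mp this

/-- the principal block of a group with a normal `p`-complement -/
theorem mem_principalBlock_iff_of_pNilpotent [Finite G] {p : ℕ} [hp : Fact p.Prime]
    (hM : Cfsg.IsPModular p M) (hidx : ∃ k : ℕ, (Cfsg.pPrimeCore p G).index = p ^ k)
    (χ : Cfsg.IrrCharacter G) :
    χ ∈ Cfsg.principalBlock M G ↔ ∀ n ∈ Cfsg.pPrimeCore p G, (χ : G → ℂ) n = (χ : G → ℂ) 1 := by
  constructor
  · intro h n hn
    exact pPrimeCore_le_ker_principalBlock hM χ h n hn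
  · intro h
    have hχ1 : (χ : G → ℂ) 1 ≠ 0 := IsIrrCharacter.apply_one_ne_zero χ.2
    have key := sameBlock_of_pRegular hM.2.1 p hM.2.2
      ⟨fun _ : G => (1 : ℂ), isIrrCharacter_one⟩ χ ?_
    · exact key
    · intro g hg
      have hgK := mem_of_pRegular_of_index (Cfsg.pPrimeCore p G) hidx g hg
      unfold Cfsg.centralChar
      simp only
      rw [h g hgK]
      have e : ((Subgroup.centralizer ({g} : Set G)).index : ℂ) * (1 : ℂ) / 1 -
          ((Subgroup.centralizer ({g} : Set G)).index : ℂ) * (χ : G → ℂ) 1 / (χ : G → ℂ) 1 = 0 := by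
        field_simp
        ring
      rw [e]
      exact memLocalIdeal_zero hM.2.1

/-- the sum of the squares of the degrees in the principal block of a group with a normal
`p`-complement -/
theorem sum_principal_sq_of_pNilpotent [Finite G] [Fintype (Cfsg.IrrCharacter G)] {p : ℕ}
    [hp : Fact p.Prime] (hM : Cfsg.IsPModular p M)
    (hidx : ∃ k : ℕ, (Cfsg.pPrimeCore p G).index = p ^ k) (y : G) (hy : ¬ p ∣ orderOf y)
    [DecidablePred fun χ : Cfsg.IrrCharacter G => χ ∈ Cfsg.principalBlock M G] :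
    ∑ χ : Cfsg.IrrCharacter G, (if χ ∈ Cfsg.principalBlock M G then
      (χ : G → ℂ) y * conj ((χ : G → ℂ) y) else 0) =
      ((p ^ (Nat.card G).factorization p : ℕ) : ℂ) := by
  classical
  have hyK := mem_of_pRegular_of_index (Cfsg.pPrimeCore p G) hidx y hy
  have h1 := sum_degree_mul_irr_of_le_ker (Cfsg.pPrimeCore p G) (1 : G)
  rw [if_pos (Subgroup.one_mem _), Finset.sum_filter] at h1
  obtain ⟨k, hk⟩ := hidx
  have hfac : (Nat.card G).factorization p = k := by
    have h2 := (Cfsg.pPrimeCore p G).card_mul_index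
    rw [hk] at h2
    have hK0 : Nat.card (Cfsg.pPrimeCore p G) ≠ 0 := Nat.card_pos.ne'
    have hpk0 : p ^ k ≠ 0 := pow_ne_zero _ hp.1.ne_zero
    rw [← h2, Nat.factorization_mul hK0 hpk0, Finsupp.add_apply,
      Nat.factorization_eq_zero_of_not_dvd (Helper5.not_dvd_card_pPrimeCore p), zero_add,
      hp.1.factorization_pow, Finsupp.single_eq_same]
  rw [hfac, ← hk, ← h1]
  apply Finset.sum_congr rfl
  intro χ _
  by_cases hχ : χ ∈ Cfsg.principalBlock M G
  · have hker := (mem_principalBlock_iff_of_pNilpotent hM ⟨k, hk⟩ χ).mp hχ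
    rw [if_pos hχ, if_pos hker, hker y hyK]
    obtain ⟨n, hn⟩ := IsCharacter.apply_one (IsIrrCharacter.isCharacter χ.2)
    rw [hn, Complex.conj_natCast]
  · have hker : ¬ ∀ n ∈ Cfsg.pPrimeCore p G, (χ : G → ℂ) n = (χ : G → ℂ) 1 := fun h =>
      hχ ((mem_principalBlock_iff_of_pNilpotent hM ⟨k, hk⟩ χ).mpr h)
    rw [if_neg hχ, if_neg hker]

/-- **S0947** -/
theorem principal_section_sq [Finite G] {p : ℕ} [hp : Fact p.Prime] (hM : Cfsg.IsPModular p M)
    (z : G) (hz : ∃ k : ℕ, orderOf z = p ^ k) (y : Subgroup.centralizer ({z} : Set G))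
    (hy : ¬ p ∣ orderOf y) :
    (∑ᶠ ζ ∈ Cfsg.principalBlock M G, ‖(ζ : G → ℂ) (z * (y : G))‖ ^ 2 =
      ∑ᶠ χ ∈ Cfsg.principalBlock M (Subgroup.centralizer ({z} : Set G)),
        ‖(χ : Subgroup.centralizer ({z} : Set G) → ℂ) y‖ ^ 2) ∧
    ((∃ k : ℕ, (Cfsg.pPrimeCore p (Subgroup.centralizer ({z} : Set G))).index = p ^ k) →
      ∑ᶠ ζ ∈ Cfsg.principalBlock M G, ‖(ζ : G → ℂ) (z * (y : G))‖ ^ 2 =
        ((p ^ (Nat.card (Subgroup.centralizer ({z} : Set G))).factorization p : ℕ) : ℝ)) := by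
  classical
  haveI := Fintype.ofFinite G
  haveI : Fintype (Subgroup.centralizer ({z} : Set G)) := Fintype.ofFinite _
  haveI : Finite (Cfsg.IrrCharacter G) := irr_finite
  haveI : Fintype (Cfsg.IrrCharacter G) := Fintype.ofFinite _
  haveI : Finite (Cfsg.IrrCharacter (Subgroup.centralizer ({z} : Set G))) := irr_finite
  haveI : Fintype (Cfsg.IrrCharacter (Subgroup.centralizer ({z} : Set G))) := Fintype.ofFinite _
  have hMm := hM.2.1
  have hB : Cfsg.IsPBlock M (Cfsg.principalBlock M G) :=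
    ⟨⟨fun _ : G => (1 : ℂ), isIrrCharacter_one⟩, rfl⟩
  have key := section_orthogonality hM z hz (Cfsg.principalBlock M G) hB y y hy hy
  have hcond : ∀ ψ : Cfsg.IrrCharacter (Subgroup.centralizer ({z} : Set G)),
      Cfsg.IsInducedBlock M (Subgroup.centralizer ({z} : Set G))
        (Cfsg.blockOf M (ψ : Subgroup.centralizer ({z} : Set G) → ℂ)) (Cfsg.principalBlock M G) ↔
      ψ ∈ Cfsg.principalBlock M (Subgroup.centralizer ({z} : Set G)) := by
    intro ψ
    rw [third_main hM _ _ (inducedBlockDefined_centralizer hM z hz _ ⟨ψ, rfl⟩),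
      blockOf_eq_principalBlock_iff hMm]
  have hi : (∑ᶠ ζ ∈ Cfsg.principalBlock M G, ‖(ζ : G → ℂ) (z * (y : G))‖ ^ 2 : ℝ) =
      ∑ᶠ χ ∈ Cfsg.principalBlock M (Subgroup.centralizer ({z} : Set G)),
        ‖(χ : Subgroup.centralizer ({z} : Set G) → ℂ) y‖ ^ 2 := by
    apply Complex.ofReal_injective
    rw [finsum_norm_sq_cast, finsum_norm_sq_cast, key]
    apply Finset.sum_congr rfl
    intro ψ _
    by_cases hψ : ψ ∈ Cfsg.principalBlock M (Subgroup.centralizer ({z} : Set G))
    · rw [if_pos hψ, if_pos ((hcond ψ).mpr hψ)]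
    · rw [if_neg hψ, if_neg (fun h => hψ ((hcond ψ).mp h))]
  refine ⟨hi, ?_⟩
  intro hidx
  rw [hi]
  apply Complex.ofReal_injective
  rw [finsum_norm_sq_cast, sum_principal_sq_of_pNilpotent hM hidx y hy]
  push_cast
  rfl

end Cfsg.Agent.Helper6
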