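import Mathlib
import Cfsg.Prelude.Def_Characters
import Cfsg.Prelude.Def_Blocks
import Cfsg.Prelude.Def_Local
import Cfsg.Agent.Helper6.PrincipalSection3

/-!
# Character values for S0948: constancy of principal block characters on a section with
`p`-nilpotent centralizer; sums of a character over a subgroup
-/

set_option autoImplicit false
set_option linter.style.haveILetI false

namespace Cfsg.Agent.Helper6

open Module
open scoped ComplexConjugate

universe u

variable {G : Type u} [Group G] {M : Ideal Cfsg.AlgInt}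

/-- If the centralizer of the `p`-element `z` has a normal `p`-complement, the characters of the
principal block are constant on the `p`-section of `z`. -/
theorem principal_section_const [Finite G] {p : ℕ} [hp : Fact p.Prime] (hM : Cfsg.IsPModular p M)
    (z : G) (hz : ∃ k : ℕ, orderOf z = p ^ k)
    (hidx : ∃ k : ℕ, (Cfsg.pPrimeCore p (Subgroup.centralizer ({z} : Set G))).index = p ^ k)
    (ζ : Cfsg.IrrCharacter G) (hζ : ζ ∈ Cfsg.principalBlock M G)
    (y : Subgroup.centralizer ({z} : Set G)) (hy : ¬ p ∣ orderOf y) :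
    (ζ : G → ℂ) (z * (y : G)) = (ζ : G → ℂ) z := by
  classical
  haveI := Fintype.ofFinite G
  haveI : Fintype (Subgroup.centralizer ({z} : Set G)) := Fintype.ofFinite _
  haveI : Finite (Cfsg.IrrCharacter G) := irr_finite
  haveI : Fintype (Cfsg.IrrCharacter G) := Fintype.ofFinite _
  haveI : Finite (Cfsg.IrrCharacter (Subgroup.centralizer ({z} : Set G))) := irr_finite
  haveI : Fintype (Cfsg.IrrCharacter (Subgroup.centralizer ({z} : Set G))) := Fintype.ofFinite _
  have hMm := hM.2.1
  have hB : Cfsg.IsPBlock M (Cfsg.principalBlock M G) :=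
    ⟨⟨fun _ : G => (1 : ℂ), isIrrCharacter_one⟩, rfl⟩
  have hcond : ∀ ψ : Cfsg.IrrCharacter (Subgroup.centralizer ({z} : Set G)),
      Cfsg.IsInducedBlock M (Subgroup.centralizer ({z} : Set G))
        (Cfsg.blockOf M (ψ : Subgroup.centralizer ({z} : Set G) → ℂ)) (Cfsg.principalBlock M G) ↔
      ψ ∈ Cfsg.principalBlock M (Subgroup.centralizer ({z} : Set G)) := by
    intro ψ
    rw [third_main hM _ _ (inducedBlockDefined_centralizer hM z hz _ ⟨ψ, rfl⟩),
      blockOf_eq_principalBlock_iff hMm]
  -- the constant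
  obtain ⟨q, hq⟩ : ∃ q : ℂ, q = ∑ ψ : Cfsg.IrrCharacter (Subgroup.centralizer ({z} : Set G)),
      (if ψ ∈ Cfsg.principalBlock M (Subgroup.centralizer ({z} : Set G)) then
        (ψ : Subgroup.centralizer ({z} : Set G) → ℂ) 1 *
          conj ((ψ : Subgroup.centralizer ({z} : Set G) → ℂ) 1) else 0) := ⟨_, rfl⟩
  have key : ∀ c w : Subgroup.centralizer ({z} : Set G), ¬ p ∣ orderOf c → ¬ p ∣ orderOf w →
      ∑ ξ : Cfsg.IrrCharacter G, (if ξ ∈ Cfsg.principalBlock M G then
        (ξ : G → ℂ) (z * (c : G)) * conj ((ξ : G → ℂ) (z * (w : G))) else 0) = q := by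
    intro c w hc hw
    rw [section_orthogonality hM z hz (Cfsg.principalBlock M G) hB w c hw hc, hq]
    apply Finset.sum_congr rfl
    intro ψ _
    by_cases hψ : ψ ∈ Cfsg.principalBlock M (Subgroup.centralizer ({z} : Set G))
    · rw [if_pos hψ, if_pos ((hcond ψ).mpr hψ)]
      have hker := (mem_principalBlock_iff_of_pNilpotent hM hidx ψ).mp hψ
      rw [hker c (mem_of_pRegular_of_index _ hidx c hc),
        hker w (mem_of_pRegular_of_index _ hidx w hw)]
    · rw [if_neg hψ, if_neg (fun h => hψ ((hcond ψ).mp h))]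
  have h1ord : ¬ p ∣ orderOf (1 : Subgroup.centralizer ({z} : Set G)) := by
    rw [orderOf_one]
    exact hp.1.one_lt.ne' ∘ Nat.dvd_one.mp
  have k11 := key 1 1 h1ord h1ord
  have ky1 := key y 1 hy h1ord
  have k1y := key 1 y h1ord hy
  have kyy := key y y hy hy
  simp only [Subgroup.coe_one, mul_one] at k11 ky1 k1y
  -- the sum of the squared differences vanishes
  have hsum : ∑ ξ : Cfsg.IrrCharacter G, (if ξ ∈ Cfsg.principalBlock M G then
      (Complex.normSq ((ξ : G → ℂ) (z * (y : G)) - (ξ : G → ℂ) z) : ℝ) else 0) = 0 := by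
    apply Complex.ofReal_injective
    rw [Complex.ofReal_sum, Complex.ofReal_zero]
    have h2 : ∀ ξ : Cfsg.IrrCharacter G,
        ((if ξ ∈ Cfsg.principalBlock M G then
          (Complex.normSq ((ξ : G → ℂ) (z * (y : G)) - (ξ : G → ℂ) z) : ℝ) else 0 : ℝ) : ℂ) =
        (if ξ ∈ Cfsg.principalBlock M G then
          (ξ : G → ℂ) (z * (y : G)) * conj ((ξ : G → ℂ) (z * (y : G))) else 0) -
        (if ξ ∈ Cfsg.principalBlock M G then
          (ξ : G → ℂ) (z * (y : G)) * conj ((ξ : G → ℂ) z) else 0) -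
        (if ξ ∈ Cfsg.principalBlock M G then
          (ξ : G → ℂ) z * conj ((ξ : G → ℂ) (z * (y : G))) else 0) +
        (if ξ ∈ Cfsg.principalBlock M G then
          (ξ : G → ℂ) z * conj ((ξ : G → ℂ) z) else 0) := by
      intro ξ
      split_ifs
      · rw [← Complex.mul_conj, map_sub]
        ring
      · simp
    rw [Finset.sum_congr rfl (fun ξ _ => h2 ξ), Finset.sum_add_distrib, Finset.sum_sub_distrib,
      Finset.sum_sub_distrib, kyy, ky1, k1y, k11]
    ring
  have hnonneg : ∀ ξ ∈ (Finset.univ : Finset (Cfsg.IrrCharacter G)),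
      (0 : ℝ) ≤ (if ξ ∈ Cfsg.principalBlock M G then
        (Complex.normSq ((ξ : G → ℂ) (z * (y : G)) - (ξ : G → ℂ) z) : ℝ) else 0) := by
    intro ξ _
    split_ifs
    · exact Complex.normSq_nonneg _
    · exact le_refl _
  have h3 := (Finset.sum_eq_zero_iff_of_nonneg hnonneg).mp hsum ζ (Finset.mem_univ _)
  rw [if_pos hζ, Complex.normSq_eq_zero] at h3
  exact sub_eq_zero.mp h3

/-- the sum of a character over a subgroup on whose nonidentity elements it is constant -/
theorem char_sum_const_off_one [Finite G] (H : Subgroup G) {χ : G → ℂ}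
    (hχ : Cfsg.IsCharacter G χ) (c : ℂ) (hc : ∀ x ∈ H, x ≠ 1 → χ x = c) :
    ∃ n : ℕ, χ 1 + ((Nat.card H : ℂ) - 1) * c = (Nat.card H : ℂ) * (n : ℂ) := by
  classical
  haveI : Fintype H := Fintype.ofFinite _
  have hres : Cfsg.IsCharacter H (fun x : H => χ x) := IsCharacter.restrict H hχ
  obtain ⟨n, hn⟩ := classInner_char_char_nat hres (isCharacter_one (G := H))
  refine ⟨n, ?_⟩
  unfold Cfsg.classInner at hn
  have hH0 : (Nat.card H : ℂ) ≠ 0 := by
    have : 0 < Nat.card H := Nat.card_pos
    exact_mod_cast this.ne'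
  have hsum : ∑ x : H, χ x * conj (1 : ℂ) = χ 1 + ((Nat.card H : ℂ) - 1) * c := by
    rw [← Finset.add_sum_erase Finset.univ _ (Finset.mem_univ (1 : H))]
    have h1 : ∀ x ∈ (Finset.univ : Finset H).erase 1, χ x * conj (1 : ℂ) = c := by
      intro x hx
      rw [map_one, mul_one]
      apply hc _ x.2
      intro h
      exact (Finset.ne_of_mem_erase hx) (Subtype.ext h)
    rw [Finset.sum_congr rfl h1, Finset.sum_const, Finset.card_erase_of_mem (Finset.mem_univ _),
      Finset.card_univ, ← Nat.card_eq_fintype_card, nsmul_eq_mul, map_one, mul_one,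
      Subgroup.coe_one]
    have : 1 ≤ Nat.card H := Nat.card_pos
    rw [Nat.cast_sub this, Nat.cast_one]
  rw [hsum] at hn
  rw [← hn]
  field_simp

/-- character values at involutions are rational integers -/
theorem char_involution_int [Finite G] {χ : G → ℂ} (hχ : Cfsg.IsCharacter G χ) (z : G)
    (hz : orderOf z = 2) : ∃ v : ℤ, χ z = (v : ℂ) := by
  obtain ⟨d, hd⟩ := IsCharacter.apply_one hχ
  have hcard : Nat.card (Subgroup.zpowers z) = 2 := by rw [Nat.card_zpowers, hz]
  have hc : ∀ x ∈ Subgroup.zpowers z, x ≠ 1 → χ x = χ z := by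
    intro x hx hx1
    obtain ⟨i, rfl⟩ := Subgroup.mem_zpowers_iff.mp hx
    have hzz : z ^ (2 : ℤ) = 1 := by
      have h := pow_orderOf_eq_one z
      rw [hz] at h
      exact_mod_cast h
    rcases Int.emod_two_eq_zero_or_one i with h | h
    · exfalso
      apply hx1
      have : i = 2 * (i / 2) := by omega
      rw [this, zpow_mul, hzz, one_zpow]
    · have : i = 2 * (i / 2) + 1 := by omega
      rw [this, zpow_add, zpow_mul, hzz, one_zpow, one_mul, zpow_one]
  obtain ⟨n, hn⟩ := char_sum_const_off_one (Subgroup.zpowers z) hχ (χ z) hc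
  rw [hcard, hd] at hn
  refine ⟨2 * (n : ℤ) - (d : ℤ), ?_⟩
  push_cast at hn ⊢
  linear_combination hn

end Cfsg.Agent.Helper6
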