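import Mathlib
import Cfsg.Prelude.Def_Characters
import Cfsg.Prelude.Def_Blocks
import Cfsg.Prelude.Def_Local
import Cfsg.Agent.Helper6.PrincipalSection3
import Cfsg.Agent.Helper6.BrauerAppE
import Cfsg.Agent.Helper6.SecondMainE
import Cfsg.Agent.Helper6.KleinFourB
import Cfsg.Agent.Helper6.BlockPart
import Cfsg.Agent.Helper6.BLeoC
import Cfsg.Agent.Helper6.BLeoD

/-!
# Brauer–Leonard: block orthogonality relations for the coefficient vectors
-/

set_option autoImplicit false
set_option linter.style.haveILetI false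

namespace Cfsg.Agent.Helper6.BLeo

open scoped ComplexConjugate

universe u

variable {G : Type u} [Group G] {M : Ideal Cfsg.AlgInt}

/-- The sum of the squares of the degrees in the principal block of a `p`-nilpotent group. -/
theorem sum_charDegree_sq_of_pNilpotent {X : Type u} [Group X] [Finite X] {p : ℕ}
    [hp : Fact p.Prime] (hM : Cfsg.IsPModular p M)
    (hidx : ∃ k : ℕ, (Cfsg.pPrimeCore p X).index = p ^ k) :
    ∑ᶠ ψ ∈ Cfsg.principalBlock M X, ((Cfsg.charDegree (ψ : X → ℂ) : ℕ) : ℚ) ^ 2 =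
      ((p ^ (Nat.card X).factorization p : ℕ) : ℚ) := by
  classical
  haveI : Finite (Cfsg.IrrCharacter X) := irr_finite
  haveI : Fintype (Cfsg.IrrCharacter X) := Fintype.ofFinite _
  have h := sum_principal_sq_of_pNilpotent hM hidx (1 : X)
    (by rw [orderOf_one]; exact hp.out.one_lt.ne' ∘ Nat.dvd_one.mp)
  have hnat : ∑ᶠ ψ ∈ Cfsg.principalBlock M X, Cfsg.charDegree (ψ : X → ℂ) ^ 2 =
      p ^ (Nat.card X).factorization p := by
    apply Nat.cast_injective (R := ℂ)
    rw [← h, Nat.cast_finsum_mem (Set.toFinite _), finsum_mem_eq_sum_ite]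
    apply Finset.sum_congr rfl
    intro χ _
    split_ifs
    · rw [Nat.cast_pow, charDegree_cast_of_isCharacter (IsIrrCharacter.isCharacter χ.2)]
      obtain ⟨n, hn⟩ := IsCharacter.apply_one (IsIrrCharacter.isCharacter χ.2)
      rw [hn, Complex.conj_natCast]
      ring
    · rfl
  rw [← hnat, Nat.cast_finsum_mem (Set.toFinite _)]
  apply finsum_mem_congr rfl
  intro ψ _
  rw [Nat.cast_pow]

/-- The relation for `p`-regular elements. -/
theorem sum_coef_mul_regular [Finite G] {p : ℕ} [hp : Fact p.Prime] (hM : Cfsg.IsPModular p M)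
    (P : Subgroup G) (hP : IsPGroup p P) (l : ↥P →* ℂˣ) (g : G) (hg : ¬ p ∣ orderOf g) :
    ∑ᶠ χ ∈ Cfsg.principalBlock M G, coef P (χ : G → ℂ) l * (χ : G → ℂ) g = 0 := by
  classical
  haveI : Fintype ↥P := Fintype.ofFinite _
  haveI : Finite (Cfsg.IrrCharacter G) := irr_finite
  haveI : Fintype (Cfsg.IrrCharacter G) := Fintype.ofFinite _
  rw [finsum_mem_eq_sum_ite]
  have h1 : ∀ χ : Cfsg.IrrCharacter G,
      (if χ ∈ Cfsg.principalBlock M G then coef P (χ : G → ℂ) l * (χ : G → ℂ) g else 0) =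
      (Nat.card ↥P : ℂ)⁻¹ * ∑ y : ↥P, (((l y⁻¹ : ℂˣ) : ℂ) - 1) *
        (if χ ∈ Cfsg.principalBlock M G then (χ : G → ℂ) g * (χ : G → ℂ) (y : G) else 0) := by
    intro χ
    split_ifs
    · rw [coef_eq_sum, mul_assoc, Finset.sum_mul]
      congr 1
      apply Finset.sum_congr rfl
      intro y _
      ring
    · simp
  rw [Finset.sum_congr rfl (fun χ _ => h1 χ), ← Finset.mul_sum, Finset.sum_comm]
  have h2 : ∀ y : ↥P, ∑ χ : Cfsg.IrrCharacter G, (((l y⁻¹ : ℂˣ) : ℂ) - 1) *
      (if χ ∈ Cfsg.principalBlock M G then (χ : G → ℂ) g * (χ : G → ℂ) (y : G) else 0) = 0 := by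
    intro y
    rw [← Finset.mul_sum]
    by_cases hy : y = 1
    · rw [hy]
      simp
    · have hB := block_orthogonality hM g (y : G)⁻¹ 1 (y : G)⁻¹
        ⟨g, one_mul g, Commute.one_left g, ⟨0, by rw [orderOf_one, pow_zero]⟩, hg⟩
        ⟨1, mul_one _, Commute.one_right _, by
          obtain ⟨k, hk⟩ := (IsPGroup.iff_orderOf.mp hP) y
          exact ⟨k, by rw [orderOf_inv, Subgroup.orderOf_coe]; exact hk⟩,
          by rw [orderOf_one]; exact hp.out.one_lt.ne' ∘ Nat.dvd_one.mp⟩
        (by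
          rw [isConj_one_right]
          intro h
          apply hy
          apply Subtype.ext
          rw [Subgroup.coe_one]
          exact inv_eq_one.mp h)
        (Cfsg.principalBlock M G) (isPBlock_principalBlock G)
      rw [finsum_mem_eq_sum_ite] at hB
      simp only [inv_inv] at hB
      rw [hB, mul_zero]
  rw [Finset.sum_congr rfl (fun y _ => h2 y), Finset.sum_const_zero, mul_zero]

end Cfsg.Agent.Helper6.BLeo
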