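import Mathlib
import Cfsg.Prelude.Def_Characters
import Cfsg.Prelude.Def_Blocks
import Cfsg.Prelude.Def_Local
import Cfsg.Agent.Helper6.BLeoE

/-!
# Brauer–Leonard: the Gram matrix of the coefficient vectors
-/

set_option autoImplicit false
set_option linter.style.haveILetI false

namespace Cfsg.Agent.Helper6.BLeo

open scoped ComplexConjugate

universe u

variable {G : Type u} [Group G] {M : Ideal Cfsg.AlgInt}

/-- The Frobenius hypothesis gives a free action of `N/C` on `P`. -/
theorem free_of_frob (P : Subgroup G)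
    (hfrob : ∀ y : G, y ∈ P → y ≠ 1 →
      Subgroup.centralizer ({y} : Set G) ⊓ Subgroup.normalizer (P : Set G) =
        Subgroup.centralizer (P : Set G)) :
    ∀ n ∈ Subgroup.normalizer (P : Set G), n ∉ Subgroup.centralizer (P : Set G) →
      ∀ y ∈ P, y ≠ 1 → n * y * n⁻¹ ≠ y := by
  intro n hn hnC y hy hy1 h
  apply hnC
  rw [← hfrob y hy hy1]
  refine Subgroup.mem_inf.mpr ⟨?_, hn⟩
  rw [Subgroup.mem_centralizer_iff]
  intro z hz
  rw [Set.mem_singleton_iff] at hz
  subst hz
  calc z * n = (n * z * n⁻¹) * n := by rw [h]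
    _ = n * z := by group

theorem card_normalizer_eq (P : Subgroup G) :
    Nat.card (Subgroup.normalizer (P : Set G)) =
      Nat.card (Subgroup.centralizer (P : Set G)) *
        (Subgroup.centralizer (P : Set G)).relIndex (Subgroup.normalizer (P : Set G)) := by
  have h1 := ((Subgroup.centralizer (P : Set G)).subgroupOf
    (Subgroup.normalizer (P : Set G))).card_mul_index
  have h2 : Nat.card ((Subgroup.centralizer (P : Set G)).subgroupOf
      (Subgroup.normalizer (P : Set G))) = Nat.card (Subgroup.centralizer (P : Set G)) :=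
    Nat.card_congr (Subgroup.subgroupOfEquivOfLe (Subgroup.centralizer_le_normalizer _)).toEquiv
  rw [← h1, h2]
  rfl

open Classical in
/-- The Gram matrix of the coefficient vectors. -/
theorem gram [Finite G] {p : ℕ} [hp : Fact p.Prime] (hM : Cfsg.IsPModular p M) (P : Sylow p G)
    (hab : ∀ a ∈ (P : Subgroup G), ∀ b ∈ (P : Subgroup G), a * b = b * a)
    (hfrob : ∀ y : G, y ∈ (P : Subgroup G) → y ≠ 1 →
      Subgroup.centralizer ({y} : Set G) ⊓ Subgroup.normalizer ((P : Subgroup G) : Set G) =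
        Subgroup.centralizer ((P : Subgroup G) : Set G))
    (l μ : ↥(P : Subgroup G) →* ℂˣ) (hl : l ≠ 1) (hμ : μ ≠ 1) :
    ∑ᶠ χ ∈ Cfsg.principalBlock M G,
      coef (P : Subgroup G) (χ : G → ℂ) l * conj (coef (P : Subgroup G) (χ : G → ℂ) μ) =
    ((Subgroup.centralizer ((P : Subgroup G) : Set G)).relIndex
        (Subgroup.normalizer ((P : Subgroup G) : Set G)) : ℂ) +
      if (∃ n : G, n ∈ Subgroup.normalizer ((P : Subgroup G) : Set G) ∧
        ∀ w w' : ↥(P : Subgroup G), (w' : G) = n * w * n⁻¹ → μ w' = l w) then 1 else 0 := by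
  letI := dualAction (P : Subgroup G)
  haveI : Fintype ↥(P : Subgroup G) := Fintype.ofFinite _
  haveI : Fintype ↥(Subgroup.normalizer ((P : Subgroup G) : Set G)) := Fintype.ofFinite _
  have hfree := free_of_frob (P : Subgroup G) hfrob
  have hQ0 : (Nat.card ↥(P : Subgroup G) : ℂ) ≠ 0 := by
    exact_mod_cast (Nat.card_pos (α := ↥(P : Subgroup G))).ne'
  have hC0 : (Nat.card ↥(Subgroup.centralizer ((P : Subgroup G) : Set G)) : ℂ) ≠ 0 := by
    exact_mod_cast (Nat.card_pos (α := ↥(Subgroup.centralizer ((P : Subgroup G) : Set G)))).ne'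
  have hC0' : (Nat.card ↥(Subgroup.centralizer ((P : Subgroup G) : Set G)) : ℚ) ≠ 0 := by
    exact_mod_cast (Nat.card_pos (α := ↥(Subgroup.centralizer ((P : Subgroup G) : Set G)))).ne'
  -- the fusion formula
  have hfus : ∀ u ∈ {y : G | y ∈ (P : Subgroup G) ∧ y ≠ 1}, ∀ g : G, g * u * g⁻¹ ∈ ((P : Subgroup G) : Set G) →
      ∃ n ∈ Subgroup.normalizer ((P : Subgroup G) : Set G), n * u * n⁻¹ = g * u * g⁻¹ := by
    intro u hu g hg
    exact fusion_in_normalizer P hab u hu.1 g hg
  have hw : ∀ y ∈ {y : G | y ∈ (P : Subgroup G) ∧ y ≠ 1},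
      (∑ᶠ ψ ∈ Cfsg.principalBlock M ↥(Subgroup.centralizer ({y} : Set G)),
        ((Cfsg.charDegree (ψ : ↥(Subgroup.centralizer ({y} : Set G)) → ℂ) : ℕ) : ℚ) ^ 2) =
      ((Nat.card ↥(P : Subgroup G) : ℚ) / (Nat.card ↥(Subgroup.centralizer ((P : Subgroup G) : Set G)) : ℚ)) *
        Nat.card ↥(Subgroup.normalizer ((P : Subgroup G) : Set G) ⊓ Subgroup.centralizer ({y} : Set G)) := by
    intro y hy
    rw [sum_charDegree_sq_of_pNilpotent hM
      (pPrimeCore_index_centralizer P hab y hy.1 (hfrob y hy.1 hy.2)),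
      ← card_eq_pow_factorization_centralizer P hab y hy.1, inf_comm, hfrob y hy.1 hy.2,
      div_mul_cancel₀ _ hC0']
  have h := principal_fusion_formula p hM (P : Subgroup G) P.2 (Subgroup.normalizer ((P : Subgroup G) : Set G)) le_rfl
    {y : G | y ∈ (P : Subgroup G) ∧ y ≠ 1} hfus _ hw
    (fun y : ↥(P : Subgroup G) => ((l y : ℂˣ) : ℂ) - 1) (fun y : ↥(P : Subgroup G) => ((μ y : ℂˣ) : ℂ) - 1)
    (by
      intro y hy
      have : y = 1 := by
        by_contra hne
        exact hy ⟨y.2, fun h1 => hne (Subtype.ext h1)⟩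
      rw [this]
      simp)
  rw [show (∑ᶠ χ ∈ Cfsg.principalBlock M G,
      coef (P : Subgroup G) (χ : G → ℂ) l * conj (coef (P : Subgroup G) (χ : G → ℂ) μ)) = _ from h]
  -- evaluation of the right hand side
  simp only [finsum_eq_sum_of_fintype]
  have hinner : ∀ (y : ↥(P : Subgroup G)) (x : ↥(Subgroup.normalizer ((P : Subgroup G) : Set G))),
      Cfsg.extendByZero (P : Subgroup G) (fun y : ↥(P : Subgroup G) => ((μ y : ℂˣ) : ℂ) - 1) ((x : G) * (y : G) * (x : G)⁻¹) =
        (((x⁻¹ • μ : ↥(P : Subgroup G) →* ℂˣ) y : ℂˣ) : ℂ) - 1 := by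
    intro y x
    have hmem : (x : G) * (y : G) * (x : G)⁻¹ ∈ (P : Subgroup G) :=
      (Subgroup.mem_normalizer_iff.mp x.2 (y : G)).mp y.2
    rw [extendByZero_mem (P : Subgroup G) _ hmem, dualAction_smul_apply]
    congr 3
    apply Subtype.ext
    rw [normConjEquiv_apply_coe]
    simp
  have hne : ∀ x : ↥(Subgroup.normalizer ((P : Subgroup G) : Set G)), (x⁻¹ • μ : ↥(P : Subgroup G) →* ℂˣ) ≠ 1 := by
    intro x h1
    apply hμ
    have h2 : μ = x • (x⁻¹ • μ : ↥(P : Subgroup G) →* ℂˣ) := (smul_inv_smul x μ).symm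
    rw [h2, h1]
    rfl
  have hsum : ∑ y : ↥(P : Subgroup G), (((l y : ℂˣ) : ℂ) - 1) *
      conj (∑ x : ↥(Subgroup.normalizer ((P : Subgroup G) : Set G)),
        Cfsg.extendByZero (P : Subgroup G) (fun y : ↥(P : Subgroup G) => ((μ y : ℂˣ) : ℂ) - 1)
          ((x : G) * (y : G) * (x : G)⁻¹)) =
      (Nat.card ↥(P : Subgroup G) : ℂ) * ((Nat.card ↥(Subgroup.normalizer ((P : Subgroup G) : Set G)) : ℂ) +
        (Nat.card {x : ↥(Subgroup.normalizer ((P : Subgroup G) : Set G)) // x • l = μ} : ℂ)) := by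
    have h1 : ∀ y : ↥(P : Subgroup G), (((l y : ℂˣ) : ℂ) - 1) *
        conj (∑ x : ↥(Subgroup.normalizer ((P : Subgroup G) : Set G)),
          Cfsg.extendByZero (P : Subgroup G) (fun y : ↥(P : Subgroup G) => ((μ y : ℂˣ) : ℂ) - 1)
            ((x : G) * (y : G) * (x : G)⁻¹)) =
        ∑ x : ↥(Subgroup.normalizer ((P : Subgroup G) : Set G)), (((l y : ℂˣ) : ℂ) - 1) *
          conj ((((x⁻¹ • μ : ↥(P : Subgroup G) →* ℂˣ) y : ℂˣ) : ℂ) - 1) := by
      intro y
      rw [map_sum, Finset.mul_sum]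
      apply Finset.sum_congr rfl
      intro x _
      rw [hinner]
    rw [Finset.sum_congr rfl (fun y _ => h1 y), Finset.sum_comm]
    rw [Finset.sum_congr rfl (fun x _ => sum_shifted_hom (P : Subgroup G) l (x⁻¹ • μ) hl (hne x))]
    rw [← Finset.mul_sum, Finset.sum_add_distrib]
    congr 1
    rw [add_comm]
    congr 1
    · simp [Nat.card_eq_fintype_card]
    · rw [Finset.sum_boole, Nat.card_eq_fintype_card, Fintype.card_subtype]
      congr 2
      ext x
      simp only [Finset.mem_filter, Finset.mem_univ, true_and]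
      constructor
      · intro hx
        rw [hx, smul_inv_smul]
      · intro hx
        rw [← hx, inv_smul_smul]
  rw [hsum, card_smul_eq (P : Subgroup G) hfree l μ hl, card_normalizer_eq (P : Subgroup G)]
  have hiff : (∃ x : ↥(Subgroup.normalizer ((P : Subgroup G) : Set G)), x • l = μ) ↔
      (∃ n : G, n ∈ Subgroup.normalizer ((P : Subgroup G) : Set G) ∧
        ∀ w w' : ↥(P : Subgroup G), (w' : G) = n * w * n⁻¹ → μ w' = l w) := (rel_iff (P : Subgroup G) l μ).symm
  by_cases hrel : ∃ x : ↥(Subgroup.normalizer ((P : Subgroup G) : Set G)), x • l = μ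
  · rw [if_pos hrel, if_pos (hiff.mp hrel)]
    push_cast
    field_simp
  · rw [if_neg hrel, if_neg (fun h => hrel (hiff.mpr h))]
    push_cast
    field_simp
    ring

end Cfsg.Agent.Helper6.BLeo
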