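import Mathlib
import Cfsg.Prelude.Def_Characters
import Cfsg.Prelude.Def_Blocks
import Cfsg.Prelude.Def_Local
import Cfsg.Agent.Helper6.DefectZeroBlock
import Cfsg.Agent.Helper6.BLeoF

/-!
# Brauer–Leonard: values on `p`-sections, exclusion of vanishing characters, counting
-/

set_option autoImplicit false
set_option linter.style.haveILetI false

namespace Cfsg.Agent.Helper6.BLeo

open scoped ComplexConjugate

universe u

variable {G : Type u} [Group G] {M : Ideal Cfsg.AlgInt}

/-- Characters of the principal block are constant on the `p`-sections of the non-identity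
elements of `P`. -/
theorem section_const [Finite G] {p : ℕ} [hp : Fact p.Prime] (hM : Cfsg.IsPModular p M)
    (P : Sylow p G)
    (hab : ∀ a ∈ (P : Subgroup G), ∀ b ∈ (P : Subgroup G), a * b = b * a)
    (hfrob : ∀ y : G, y ∈ (P : Subgroup G) → y ≠ 1 →
      Subgroup.centralizer ({y} : Set G) ⊓ Subgroup.normalizer ((P : Subgroup G) : Set G) =
        Subgroup.centralizer ((P : Subgroup G) : Set G))
    (χ : Cfsg.IrrCharacter G) (hχ : χ ∈ Cfsg.principalBlock M G) (z y : G)
    (hzy : Cfsg.IsPPart p z y) (hy : y ∈ (P : Subgroup G)) (hy1 : y ≠ 1) :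
    (χ : G → ℂ) z = (χ : G → ℂ) y := by
  obtain ⟨u, huz, hcomm, hyord, hu⟩ := hzy
  have hidx := pPrimeCore_index_centralizer P hab y hy (hfrob y hy hy1)
  have hmem : u ∈ Subgroup.centralizer ({y} : Set G) := by
    rw [Subgroup.mem_centralizer_iff]
    intro h hh
    rw [Set.mem_singleton_iff] at hh
    subst hh
    exact hcomm
  have := principal_section_const hM y hyord hidx χ hχ ⟨u, hmem⟩
    (by rw [Subgroup.orderOf_mk]; exact hu)
  rw [← huz]
  exact this

/-- A character of the principal block cannot vanish on all non-identity elements of `P`. -/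
theorem not_vanish [Finite G] {p : ℕ} [hp : Fact p.Prime] (hM : Cfsg.IsPModular p M)
    (P : Sylow p G) (hP1 : Nat.card (P : Subgroup G) ≠ 1)
    (χ : Cfsg.IrrCharacter G) (hχ : χ ∈ Cfsg.principalBlock M G)
    (hvan : ∀ y ∈ (P : Subgroup G), y ≠ 1 → (χ : G → ℂ) y = 0) : False := by
  classical
  haveI : Fintype ↥(P : Subgroup G) := Fintype.ofFinite _
  have hχc := IsIrrCharacter.isCharacter χ.2
  have hP0 : (Nat.card ↥(P : Subgroup G) : ℂ) ≠ 0 := by
    exact_mod_cast (Nat.card_pos (α := ↥(P : Subgroup G))).ne'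
  obtain ⟨n, hn⟩ := classInner_irr_char_nat
    (isIrrCharacter_of_hom (1 : ↥(P : Subgroup G) →* ℂˣ))
    (IsCharacter.restrict (P : Subgroup G) hχc)
  have hd := charDegree_cast_of_isCharacter hχc
  have h1 : (Cfsg.charDegree (χ : G → ℂ) : ℂ) = (Nat.card ↥(P : Subgroup G) : ℂ) * (n : ℂ) := by
    rw [← hn, Cfsg.classInner, ← mul_assoc, mul_inv_cancel₀ hP0, one_mul,
      Finset.sum_eq_single (1 : ↥(P : Subgroup G))]
    · simp only [MonoidHom.one_apply, Units.val_one, one_mul, Subgroup.coe_one]
      rw [← hd, Complex.conj_natCast]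
    · intro y _ hy
      rw [hvan (y : G) y.2 (fun h => hy (Subtype.ext h)), map_zero, mul_zero]
    · intro h
      exact absurd (Finset.mem_univ _) h
  have h1' : Cfsg.charDegree (χ : G → ℂ) = Nat.card ↥(P : Subgroup G) * n := by
    exact_mod_cast h1
  have hdvd : Cfsg.charDegree (χ : G → ℂ) ∣ Nat.card G := charDegree_dvd_card χ.2
  have hd0 : Cfsg.charDegree (χ : G → ℂ) ≠ 0 := by
    intro h0
    rw [h0, Nat.cast_zero] at hd
    exact IsIrrCharacter.apply_one_ne_zero χ.2 hd.symm
  have hidx : ¬ p ∣ (P : Subgroup G).index := P.not_dvd_index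
  have hcard : Nat.card ↥(P : Subgroup G) * (P : Subgroup G).index = Nat.card G :=
    (P : Subgroup G).card_mul_index
  have hnd : ¬ p ∣ Nat.card G / Cfsg.charDegree (χ : G → ℂ) := by
    obtain ⟨q, hq⟩ := hdvd
    have hq' : Nat.card G / Cfsg.charDegree (χ : G → ℂ) = q := by
      rw [hq, Nat.mul_div_cancel_left _ (Nat.pos_of_ne_zero hd0)]
    rw [hq']
    intro hpq
    apply hidx
    have hP0' : 0 < Nat.card ↥(P : Subgroup G) := Nat.card_pos
    have : (P : Subgroup G).index = n * q := by
      apply Nat.eq_of_mul_eq_mul_left hP0'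
      rw [hcard, hq, h1']
      ring
    rw [this]
    exact Dvd.dvd.mul_left hpq n
  have hsing := blockOf_eq_singleton_of_not_dvd hM.2.1 p hp.out hM.2.2 χ hnd
  have hprinc : Cfsg.blockOf M (χ : G → ℂ) = Cfsg.principalBlock M G :=
    (blockOf_eq_principalBlock_iff hM.2.1 χ).mpr hχ
  have htriv : trivIrr G ∈ Cfsg.principalBlock M G := trivIrr_mem_principalBlock hM.2.1
  rw [← hprinc, hsing, Set.mem_singleton_iff] at htriv
  obtain ⟨y, hy⟩ : ∃ y : ↥(P : Subgroup G), y ≠ 1 := by
    by_contra hcon
    simp only [not_exists, not_not] at hcon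
    apply hP1
    rw [Nat.card_eq_one_iff_unique]
    exact ⟨⟨fun a b => (hcon a).trans (hcon b).symm⟩, ⟨1⟩⟩
  have h2 := hvan (y : G) y.2 (fun h => hy (Subtype.ext h))
  rw [← htriv] at h2
  exact one_ne_zero h2

/-- The number of non-principal linear characters of an abelian group. -/
theorem card_nontrivial_hom {A : Type u} [Group A] [Finite A] (hab : ∀ a b : A, a * b = b * a) :
    Nat.card {l : A →* ℂˣ // l ≠ 1} = Nat.card A - 1 := by
  classical
  haveI : Finite (A →* ℂˣ) := finite_hom_units
  haveI : Fintype (A →* ℂˣ) := Fintype.ofFinite _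
  rw [← card_hom_units_of_comm hab, Nat.card_eq_fintype_card, Nat.card_eq_fintype_card,
    Fintype.card_subtype_compl, Fintype.card_subtype_eq]

/-- The sum of the values of the non-principal linear characters at a non-identity element. -/
theorem sum_nontrivial_hom_apply {A : Type u} [Group A] [Finite A]
    (hab : ∀ a b : A, a * b = b * a) [Fintype (A →* ℂˣ)] [DecidableEq (A →* ℂˣ)] (y : A)
    (hy : y ≠ 1) :
    ∑ ψ : A →* ℂˣ, (if ψ = 1 then 0 else ((ψ y : ℂˣ) : ℂ)) = -1 := by
  classical
  have h1 := sum_hom_units_apply hab y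
  rw [if_neg hy] at h1
  have h2 : ∀ ψ : A →* ℂˣ, (if ψ = 1 then 0 else ((ψ y : ℂˣ) : ℂ)) =
      ((ψ y : ℂˣ) : ℂ) - if ψ = 1 then 1 else 0 := by
    intro ψ
    split_ifs with h
    · rw [h]; simp
    · ring
  rw [Finset.sum_congr rfl (fun ψ _ => h2 ψ), Finset.sum_sub_distrib, h1,
    Finset.sum_ite_eq' Finset.univ (1 : A →* ℂˣ), if_pos (Finset.mem_univ _)]
  ring

/-- Counting a set through a map with fibres of constant size. -/
theorem card_eq_mul_card_range {α β : Type*} [Finite α] (f : α → β) (m : ℕ)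
    (hm : ∀ a : α, Nat.card {a' : α // f a' = f a} = m) :
    Nat.card α = m * Nat.card (Set.range f) := by
  classical
  haveI : Fintype α := Fintype.ofFinite α
  have h1 := Finset.card_eq_sum_card_image f (Finset.univ : Finset α)
  have h2 : ∀ b ∈ Finset.univ.image f,
      (Finset.univ.filter (fun a : α => f a = b)).card = m := by
    intro b hb
    obtain ⟨a, _, rfl⟩ := Finset.mem_image.mp hb
    rw [← hm a, Nat.card_eq_fintype_card, Fintype.card_subtype]
  rw [Finset.sum_congr rfl h2, Finset.sum_const, smul_eq_mul, mul_comm] at h1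
  rw [Nat.card_eq_fintype_card, ← Finset.card_univ, h1]
  congr 1
  rw [← Set.toFinset_range, Set.toFinset_card, Nat.card_eq_fintype_card]

end Cfsg.Agent.Helper6.BLeo
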