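import Mathlib
import Cfsg.Prelude.Def_Characters
import Cfsg.Prelude.Def_Blocks
import Cfsg.Prelude.Def_Local
import Cfsg.Agent.Helper6.BLeoA
import Cfsg.Agent.Helper6.BLeoG

/-!
# Brauer–Leonard: the structure of the coefficient vectors of the principal block
-/

set_option autoImplicit false
set_option linter.style.haveILetI false

namespace Cfsg.Agent.Helper6.BLeo

open scoped ComplexConjugate

universe u

variable {G : Type u} [Group G] {M : Ideal Cfsg.AlgInt}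

/-- There are at least two classes of non-principal linear characters. -/
theorem exists_not_rel [Finite G] (P : Subgroup G) (hab : ∀ a b : ↥P, a * b = b * a)
    (hfree : ∀ n ∈ Subgroup.normalizer (P : Set G), n ∉ Subgroup.centralizer (P : Set G) →
      ∀ y ∈ P, y ≠ 1 → n * y * n⁻¹ ≠ y)
    (hm2 : (Subgroup.centralizer (P : Set G)).relIndex (Subgroup.normalizer (P : Set G)) + 1 <
      Nat.card ↥P) :
    ∃ l μ : ↥P →* ℂˣ, l ≠ 1 ∧ μ ≠ 1 ∧ ¬ ∃ n : G, n ∈ Subgroup.normalizer (P : Set G) ∧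
      ∀ w w' : ↥P, (w' : G) = n * w * n⁻¹ → μ w' = l w := by
  letI := dualAction P
  haveI : Finite (↥P →* ℂˣ) := finite_hom_units
  have hcard := card_nontrivial_hom hab
  have hne : Nonempty {l : ↥P →* ℂˣ // l ≠ 1} := by
    by_contra hcon
    rw [not_nonempty_iff] at hcon
    rw [Nat.card_of_isEmpty] at hcard
    omega
  obtain ⟨⟨l, hl⟩⟩ := hne
  by_contra hcon
  have hall : ∀ μ : ↥P →* ℂˣ, μ ≠ 1 → ∃ n : G, n ∈ Subgroup.normalizer (P : Set G) ∧
      ∀ w w' : ↥P, (w' : G) = n * w * n⁻¹ → μ w' = l w := by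
    intro μ hμ
    by_contra h
    exact hcon ⟨l, μ, hl, hμ, h⟩
  have horb := card_orbit P hfree l hl
  have hequiv : {l' : ↥P →* ℂˣ // l' ≠ 1} ≃
      {ψ' : ↥P →* ℂˣ // ∃ x : Subgroup.normalizer (P : Set G), x • l = ψ'} :=
    { toFun := fun μ => ⟨μ.1, (rel_iff P l μ.1).mp (hall μ.1 μ.2)⟩
      invFun := fun ψ' => ⟨ψ'.1, ne_one_of_rel P l ψ'.1 hl ((rel_iff P l ψ'.1).mpr ψ'.2)⟩
      left_inv := fun μ => rfl
      right_inv := fun ψ' => rfl }
  rw [Nat.card_congr hequiv, horb] at hcard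
  omega

open Classical in
/-- The structure theorem for the coefficient vectors of the characters in the principal
block. -/
theorem structure_in_group [Finite G] {p : ℕ} [hp : Fact p.Prime] (hM : Cfsg.IsPModular p M)
    (P : Sylow p G)
    (hab : ∀ a ∈ (P : Subgroup G), ∀ b ∈ (P : Subgroup G), a * b = b * a)
    (hfrob : ∀ y : G, y ∈ (P : Subgroup G) → y ≠ 1 →
      Subgroup.centralizer ({y} : Set G) ⊓ Subgroup.normalizer ((P : Subgroup G) : Set G) =
        Subgroup.centralizer ((P : Subgroup G) : Set G))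
    (hm2 : (Subgroup.centralizer ((P : Subgroup G) : Set G)).relIndex
      (Subgroup.normalizer ((P : Subgroup G) : Set G)) + 1 < Nat.card ↥(P : Subgroup G)) :
    ∃ (ε : ℤ) (v : Cfsg.IrrCharacter G → ℤ)
      (Θ : (↥(P : Subgroup G) →* ℂˣ) → Cfsg.IrrCharacter G),
      (ε = 1 ∨ ε = -1) ∧
      (∀ l, l ≠ 1 → Θ l ∈ Cfsg.principalBlock M G) ∧
      (∀ l, l ≠ 1 → ∀ χ ∈ Cfsg.principalBlock M G,
        coef (P : Subgroup G) (χ : G → ℂ) l = ((v χ + if χ = Θ l then ε else 0 : ℤ) : ℂ)) ∧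
      (∀ l μ, l ≠ 1 → μ ≠ 1 → (Θ l = Θ μ ↔
        ∃ n : G, n ∈ Subgroup.normalizer ((P : Subgroup G) : Set G) ∧
          ∀ w w' : ↥(P : Subgroup G), (w' : G) = n * w * n⁻¹ → μ w' = l w)) ∧
      (∀ l, l ≠ 1 → ∑ᶠ χ ∈ Cfsg.principalBlock M G, v χ ^ 2 + 2 * ε * v (Θ l) =
        ((Subgroup.centralizer ((P : Subgroup G) : Set G)).relIndex
          (Subgroup.normalizer ((P : Subgroup G) : Set G)) : ℤ)) := by
  classical
  haveI : Finite (Cfsg.IrrCharacter G) := irr_finite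
  haveI : Fintype ↥(Cfsg.principalBlock M G) := Fintype.ofFinite _
  have hab' : ∀ a b : ↥(P : Subgroup G), a * b = b * a := fun a b =>
    Subtype.ext (hab a a.2 b b.2)
  have hfree := free_of_frob (P : Subgroup G) hfrob
  -- the data
  have hint : ∀ (l : {l : ↥(P : Subgroup G) →* ℂˣ // l ≠ 1})
      (i : ↥(Cfsg.principalBlock M G)), ∃ k : ℤ,
      coef (P : Subgroup G) ((i : Cfsg.IrrCharacter G) : G → ℂ) l.1 = (k : ℂ) := fun l i =>
    coef_int (P : Subgroup G) _ (IsIrrCharacter.isCharacter i.1.2) l.1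
  choose c hc using hint
  have hRequiv := rel_equivalence (P : Subgroup G)
  have hR : Equivalence (fun l μ : {l : ↥(P : Subgroup G) →* ℂˣ // l ≠ 1} =>
      ∃ n : G, n ∈ Subgroup.normalizer ((P : Subgroup G) : Set G) ∧
        ∀ w w' : ↥(P : Subgroup G), (w' : G) = n * w * n⁻¹ → μ.1 w' = l.1 w) :=
    ⟨fun l => hRequiv.refl l.1, fun h => hRequiv.symm h, fun h h' => hRequiv.trans h h'⟩
  have hgram : ∀ l μ : {l : ↥(P : Subgroup G) →* ℂˣ // l ≠ 1},
      ∑ i : ↥(Cfsg.principalBlock M G), c l i * c μ i =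
        ((Subgroup.centralizer ((P : Subgroup G) : Set G)).relIndex
          (Subgroup.normalizer ((P : Subgroup G) : Set G)) : ℤ) +
        if (∃ n : G, n ∈ Subgroup.normalizer ((P : Subgroup G) : Set G) ∧
          ∀ w w' : ↥(P : Subgroup G), (w' : G) = n * w * n⁻¹ → μ.1 w' = l.1 w) then 1 else 0 := by
    intro l μ
    have h := gram hM P hab hfrob l.1 μ.1 l.2 μ.2
    rw [← finsum_set_coe_eq_finsum_mem, finsum_eq_sum_of_fintype] at h
    have h1 : ∀ i : ↥(Cfsg.principalBlock M G),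
        coef (P : Subgroup G) ((i : Cfsg.IrrCharacter G) : G → ℂ) l.1 *
          conj (coef (P : Subgroup G) ((i : Cfsg.IrrCharacter G) : G → ℂ) μ.1) =
        ((c l i * c μ i : ℤ) : ℂ) := by
      intro i
      rw [hc l i, hc μ i, map_intCast, Int.cast_mul]
    rw [Finset.sum_congr rfl (fun i _ => h1 i)] at h
    apply Int.cast_injective (α := ℂ)
    rw [Int.cast_sum, h]
    split_ifs <;> push_cast <;> rfl
  have hG1 : ∀ l μ : {l : ↥(P : Subgroup G) →* ℂˣ // l ≠ 1},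
      (∃ n : G, n ∈ Subgroup.normalizer ((P : Subgroup G) : Set G) ∧
        ∀ w w' : ↥(P : Subgroup G), (w' : G) = n * w * n⁻¹ → μ.1 w' = l.1 w) →
      ∑ i : ↥(Cfsg.principalBlock M G), c l i * c μ i =
        ((Subgroup.centralizer ((P : Subgroup G) : Set G)).relIndex
          (Subgroup.normalizer ((P : Subgroup G) : Set G)) : ℤ) + 1 := by
    intro l μ h
    rw [hgram, if_pos h]
  have hG0 : ∀ l μ : {l : ↥(P : Subgroup G) →* ℂˣ // l ≠ 1},
      ¬ (∃ n : G, n ∈ Subgroup.normalizer ((P : Subgroup G) : Set G) ∧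
        ∀ w w' : ↥(P : Subgroup G), (w' : G) = n * w * n⁻¹ → μ.1 w' = l.1 w) →
      ∑ i : ↥(Cfsg.principalBlock M G), c l i * c μ i =
        ((Subgroup.centralizer ((P : Subgroup G) : Set G)).relIndex
          (Subgroup.normalizer ((P : Subgroup G) : Set G)) : ℤ) := by
    intro l μ h
    rw [hgram, if_neg h, add_zero]
  have hdegpos : ∀ i : ↥(Cfsg.principalBlock M G),
      (0 : ℤ) < (Cfsg.charDegree ((i : Cfsg.IrrCharacter G) : G → ℂ) : ℤ) := by
    intro i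
    have hd := charDegree_cast_of_isCharacter (IsIrrCharacter.isCharacter i.1.2)
    have : Cfsg.charDegree ((i : Cfsg.IrrCharacter G) : G → ℂ) ≠ 0 := by
      intro h0
      rw [h0, Nat.cast_zero] at hd
      exact IsIrrCharacter.apply_one_ne_zero i.1.2 hd.symm
    exact_mod_cast Nat.pos_of_ne_zero this
  have hdeg0 : ∀ l : {l : ↥(P : Subgroup G) →* ℂˣ // l ≠ 1},
      ∑ i : ↥(Cfsg.principalBlock M G),
        c l i * (Cfsg.charDegree ((i : Cfsg.IrrCharacter G) : G → ℂ) : ℤ) = 0 := by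
    intro l
    have h := sum_coef_mul_regular hM (P : Subgroup G) P.2 l.1 (1 : G)
      (by rw [orderOf_one]; exact hp.out.one_lt.ne' ∘ Nat.dvd_one.mp)
    rw [← finsum_set_coe_eq_finsum_mem, finsum_eq_sum_of_fintype] at h
    apply Int.cast_injective (α := ℂ)
    rw [Int.cast_sum, Int.cast_zero, ← h]
    apply Finset.sum_congr rfl
    intro i _
    rw [hc l i, ← charDegree_cast_of_isCharacter (IsIrrCharacter.isCharacter i.1.2)]
    push_cast
    rfl
  have h2 : ∃ l μ : {l : ↥(P : Subgroup G) →* ℂˣ // l ≠ 1},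
      ¬ (∃ n : G, n ∈ Subgroup.normalizer ((P : Subgroup G) : Set G) ∧
        ∀ w w' : ↥(P : Subgroup G), (w' : G) = n * w * n⁻¹ → μ.1 w' = l.1 w) := by
    obtain ⟨l, μ, hl, hμ, h⟩ := exists_not_rel (P : Subgroup G) hab' hfree hm2
    exact ⟨⟨l, hl⟩, ⟨μ, hμ⟩, h⟩
  obtain ⟨ε, v', Θ', hε, hS⟩ := structure_thm _ hR c _ hdegpos _ hG1 hG0 hdeg0 h2
  have hΘ := theta_eq_iff _ hR c _ hG1 hG0 ε v' Θ' hε hS
  have hnorm := norm_eq _ hR c _ hG1 ε v' Θ' hε hS
  refine ⟨ε, fun χ => if h : χ ∈ Cfsg.principalBlock M G then v' ⟨χ, h⟩ else 0,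
    fun l => if h : l ≠ 1 then (Θ' ⟨l, h⟩ : Cfsg.IrrCharacter G) else trivIrr G, hε, ?_, ?_, ?_, ?_⟩
  · intro l hl
    beta_reduce
    rw [dif_pos hl]
    exact (Θ' ⟨l, hl⟩).2
  · intro l hl χ hχ
    beta_reduce
    rw [dif_pos hl, dif_pos hχ]
    have h1 := hc ⟨l, hl⟩ ⟨χ, hχ⟩
    simp only at h1
    rw [h1, hS ⟨l, hl⟩ ⟨χ, hχ⟩]
    congr 2
    by_cases h : χ = (Θ' ⟨l, hl⟩ : Cfsg.IrrCharacter G)
    · rw [if_pos h, if_pos (Subtype.ext h)]
    · rw [if_neg h, if_neg (fun hh => h (congrArg Subtype.val hh))]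
  · intro l μ hl hμ
    beta_reduce
    rw [dif_pos hl, dif_pos hμ, ← hΘ ⟨l, hl⟩ ⟨μ, hμ⟩]
    exact Subtype.ext_iff.symm
  · intro l hl
    beta_reduce
    rw [dif_pos hl, dif_pos (Θ' ⟨l, hl⟩).2, ← hnorm ⟨l, hl⟩,
      ← finsum_set_coe_eq_finsum_mem, finsum_eq_sum_of_fintype]
    congr 2
    funext i
    rw [dif_pos i.2]

end Cfsg.Agent.Helper6.BLeo
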