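import Mathlib
import Cfsg.Prelude.Def_Characters
import Cfsg.Prelude.Def_Blocks
import Cfsg.Prelude.Def_Local
import Cfsg.Agent.Helper6.BLeoH

/-!
# Brauer–Leonard: the values of the characters of the principal block on `p`-singular elements
-/

set_option autoImplicit false
set_option linter.style.haveILetI false

namespace Cfsg.Agent.Helper6.BLeo

open scoped ComplexConjugate

universe u

variable {G : Type u} [Group G] {M : Ideal Cfsg.AlgInt}

/-- A `finsum` of a constant over a set. -/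
theorem finsum_mem_const_nsmul {α R : Type*} [Finite α] [AddCommMonoid R] (s : Set α) (c : R) :
    ∑ᶠ _i ∈ s, c = Nat.card s • c := by
  classical
  rw [finsum_mem_eq_finite_toFinset_sum _ (Set.toFinite s), Finset.sum_const,
    Nat.card_coe_set_eq, Set.ncard_eq_toFinset_card s (Set.toFinite s)]

open Classical in
/-- The value formula. -/
theorem value_formula [Finite G] {p : ℕ} [hp : Fact p.Prime] (hM : Cfsg.IsPModular p M)
    (P : Sylow p G)
    (hab : ∀ a ∈ (P : Subgroup G), ∀ b ∈ (P : Subgroup G), a * b = b * a)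
    (hfrob : ∀ y : G, y ∈ (P : Subgroup G) → y ≠ 1 →
      Subgroup.centralizer ({y} : Set G) ⊓ Subgroup.normalizer ((P : Subgroup G) : Set G) =
        Subgroup.centralizer ((P : Subgroup G) : Set G))
    (ε : ℤ) (v : Cfsg.IrrCharacter G → ℤ)
    (Θ : (↥(P : Subgroup G) →* ℂˣ) → Cfsg.IrrCharacter G)
    (hcoef : ∀ l, l ≠ 1 → ∀ χ ∈ Cfsg.principalBlock M G,
      coef (P : Subgroup G) (χ : G → ℂ) l = ((v χ + if χ = Θ l then ε else 0 : ℤ) : ℂ))
    [Fintype (↥(P : Subgroup G) →* ℂˣ)]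
    (χ : Cfsg.IrrCharacter G) (hχ : χ ∈ Cfsg.principalBlock M G) (z y : G)
    (hzy : Cfsg.IsPPart p z y) (hy : y ∈ (P : Subgroup G)) (hy1 : y ≠ 1) :
    (χ : G → ℂ) z = -(v χ : ℂ) + (ε : ℂ) * ∑ ψ : ↥(P : Subgroup G) →* ℂˣ,
      if (ψ ≠ 1 ∧ Θ ψ = χ) then ((ψ ⟨y, hy⟩ : ℂˣ) : ℂ) else 0 := by
  have hab' : ∀ a b : ↥(P : Subgroup G), a * b = b * a := fun a b =>
    Subtype.ext (hab a a.2 b b.2)
  have hy1' : (⟨y, hy⟩ : ↥(P : Subgroup G)) ≠ 1 := fun h => hy1 (congrArg Subtype.val h)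
  rw [section_const hM P hab hfrob χ hχ z y hzy hy hy1]
  have h1 := apply_eq_sum_coef (P : Subgroup G) hab' (χ : G → ℂ) ⟨y, hy⟩ hy1'
  simp only at h1
  rw [h1]
  have h2 : ∀ ψ : ↥(P : Subgroup G) →* ℂˣ,
      coef (P : Subgroup G) (χ : G → ℂ) ψ * ((ψ ⟨y, hy⟩ : ℂˣ) : ℂ) =
      (v χ : ℂ) * (if ψ = 1 then 0 else ((ψ ⟨y, hy⟩ : ℂˣ) : ℂ)) +
        (ε : ℂ) * (if (ψ ≠ 1 ∧ Θ ψ = χ) then ((ψ ⟨y, hy⟩ : ℂˣ) : ℂ) else 0) := by
    intro ψ
    by_cases hψ : ψ = 1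
    · rw [hψ, coef_one, if_pos rfl, if_neg (fun h => h.1 rfl)]
      ring
    · rw [hcoef ψ hψ χ hχ, if_neg hψ]
      by_cases hΘ : Θ ψ = χ
      · rw [if_pos hΘ.symm, if_pos ⟨hψ, hΘ⟩]
        push_cast
        ring
      · rw [if_neg (fun h => hΘ h.symm), if_neg (fun h => hΘ h.2)]
        push_cast
        ring
  rw [Finset.sum_congr rfl (fun ψ _ => h2 ψ), Finset.sum_add_distrib, ← Finset.mul_sum,
    ← Finset.mul_sum, sum_nontrivial_hom_apply hab' ⟨y, hy⟩ hy1']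
  ring

end Cfsg.Agent.Helper6.BLeo
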