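import Mathlib
import Cfsg.Prelude.Def_Characters
import Cfsg.Prelude.Def_Blocks
import Cfsg.Prelude.Def_Local
import Cfsg.Agent.Helper6.BLeoI

/-!
# The theorem of Brauer and Leonard on the principal block of a group with an abelian Sylow
subgroup whose normalizer acts as a Frobenius group
-/

set_option autoImplicit false
set_option linter.style.haveILetI false

namespace Cfsg.Agent.Helper6.BLeo

open scoped ComplexConjugate

universe u

variable {G : Type u} [Group G] {M : Ideal Cfsg.AlgInt}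

theorem one_le_sq_of_ne_zero {a : ℤ} (h : a ≠ 0) : 1 ≤ a ^ 2 := by
  have : a ≤ -1 ∨ 1 ≤ a := by omega
  rcases this with h1 | h1 <;> nlinarith

set_option maxHeartbeats 1600000 in
open Classical in
/-- **Brauer–Leonard**. -/
theorem brauer_leonard [Finite G] (p : ℕ) [hp : Fact p.Prime] (M : Ideal Cfsg.AlgInt)
    (hM : Cfsg.IsPModular p M) (P : Sylow p G)
    (hab : ∀ a ∈ (P : Subgroup G), ∀ b ∈ (P : Subgroup G), a * b = b * a)
    (hP1 : Nat.card ↥(P : Subgroup G) ≠ 1) (m : ℕ) (hm1 : 1 < m)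
    (hm2 : m + 1 < Nat.card ↥(P : Subgroup G))
    (hCN : (Subgroup.centralizer ((P : Subgroup G) : Set G)).relIndex
      (Subgroup.normalizer ((P : Subgroup G) : Set G)) = m)
    (hfrob : ∀ y : G, y ∈ (P : Subgroup G) → y ≠ 1 →
      Subgroup.centralizer ({y} : Set G) ⊓ Subgroup.normalizer ((P : Subgroup G) : Set G) =
        Subgroup.centralizer ((P : Subgroup G) : Set G)) :
    ∃ (s : ℕ) (X Y : Set (Cfsg.IrrCharacter G)), s ≤ m ∧ Cfsg.principalBlock M G = X ∪ Y ∧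
      Disjoint X Y ∧ Nat.card X = s ∧ Nat.card Y = (Nat.card ↥(P : Subgroup G) - 1) / m ∧
      (∃ χ₁ ∈ X, (χ₁ : G → ℂ) = fun _ => 1) ∧
      ∃ (a : Cfsg.IrrCharacter G → ℤ) (d δ : ℤ)
        (ζ : (↥(P : Subgroup G) →* ℂˣ) → Cfsg.IrrCharacter G),
        (δ = 1 ∨ δ = -1) ∧
        (∀ χ ∈ X, a χ ≠ 0 ∧ ∀ z y : G, Cfsg.IsPPart p z y → y ∈ (P : Subgroup G) → y ≠ 1 →
          (χ : G → ℂ) z = (a χ : ℂ)) ∧
        (∀ ψ : ↥(P : Subgroup G) →* ℂˣ, ψ ≠ 1 → ζ ψ ∈ Y) ∧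
        (∀ η ∈ Y, ∃ ψ : ↥(P : Subgroup G) →* ℂˣ, ψ ≠ 1 ∧ ζ ψ = η) ∧
        (∀ ψ ψ' : ↥(P : Subgroup G) →* ℂˣ, ψ ≠ 1 →
          (∃ n : G, n ∈ Subgroup.normalizer ((P : Subgroup G) : Set G) ∧
            ∀ w w' : ↥(P : Subgroup G), (w' : G) = n * w * n⁻¹ → ψ' w' = ψ w) → ζ ψ' = ζ ψ) ∧
        (∀ ψ : ↥(P : Subgroup G) →* ℂˣ, ψ ≠ 1 → ∀ (z : G) (y : ↥(P : Subgroup G)),
          Cfsg.IsPPart p z (y : G) → (y : G) ≠ 1 →
          (ζ ψ : G → ℂ) z = (d : ℂ) + (δ : ℂ) *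
            ∑ᶠ ψ' ∈ {ψ' : ↥(P : Subgroup G) →* ℂˣ |
              ∃ n : G, n ∈ Subgroup.normalizer ((P : Subgroup G) : Set G) ∧
                ∀ w w' : ↥(P : Subgroup G), (w' : G) = n * w * n⁻¹ → ψ' w' = ψ w},
              ((ψ' y : ℂˣ) : ℂ)) ∧
        ((d - δ) ^ 2 + ((Nat.card ↥(P : Subgroup G) - 1) / m - 1 : ℤ) * d ^ 2 +
          ∑ᶠ χ ∈ X, a χ ^ 2 = (m : ℤ) + 1) ∧
        (∀ η ∈ Y, ∀ η' ∈ Y, ∀ g : G, ¬ p ∣ orderOf g → (η : G → ℂ) g = (η' : G → ℂ) g) ∧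
        (∀ η ∈ Y, ∀ g : G, ¬ p ∣ orderOf g →
          ((((Nat.card ↥(P : Subgroup G) - 1) / m : ℕ) : ℂ) * d - δ) * (η : G → ℂ) g +
            ∑ᶠ χ ∈ X, (a χ : ℂ) * (χ : G → ℂ) g = 0) := by
  have hab' : ∀ a b : ↥(P : Subgroup G), a * b = b * a := fun a b =>
    Subtype.ext (hab a a.2 b b.2)
  have hfree := free_of_frob (P : Subgroup G) hfrob
  have hm2' : (Subgroup.centralizer ((P : Subgroup G) : Set G)).relIndex
      (Subgroup.normalizer ((P : Subgroup G) : Set G)) + 1 < Nat.card ↥(P : Subgroup G) := by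
    rw [hCN]; exact hm2
  obtain ⟨ε, v, Θ, hε, hΘB, hcoef, hΘiff, hnorm⟩ := structure_in_group hM P hab hfrob hm2'
  haveI : Finite (↥(P : Subgroup G) →* ℂˣ) := finite_hom_units
  haveI : Fintype (↥(P : Subgroup G) →* ℂˣ) := Fintype.ofFinite _
  haveI : Finite (Cfsg.IrrCharacter G) := irr_finite
  haveI : Fintype (Cfsg.IrrCharacter G) := Fintype.ofFinite _
  obtain ⟨l₀, μ₀, hl₀, hμ₀, hnrel⟩ := exists_not_rel (P : Subgroup G) hab' hfree hm2'
  have hRel := rel_equivalence (P : Subgroup G)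
  have hm0 : 0 < m := by omega
  have hε2 : ε * ε = 1 := by rcases hε with h | h <;> rw [h] <;> norm_num
  have hε2' : (ε : ℂ) * (ε : ℂ) = 1 := by exact_mod_cast hε2
  obtain ⟨d, hd⟩ : ∃ d : ℤ, d = - v (Θ l₀) := ⟨_, rfl⟩
  have hvΘ : ∀ l, l ≠ 1 → v (Θ l) = -d := by
    intro l hl
    have h1 := hnorm l hl
    have h2 := hnorm l₀ hl₀
    have h3 : ε * v (Θ l) = ε * v (Θ l₀) := by linarith
    have h4 : v (Θ l) = v (Θ l₀) := by
      rcases hε with h | h <;> rw [h] at h3 <;> linarith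
    rw [h4, hd]; ring
  -- the sets
  obtain ⟨Y, hY⟩ : ∃ Y : Set (Cfsg.IrrCharacter G), Y = {χ | ∃ l, l ≠ 1 ∧ Θ l = χ} := ⟨_, rfl⟩
  obtain ⟨X, hX⟩ : ∃ X : Set (Cfsg.IrrCharacter G),
      X = {χ | χ ∈ Cfsg.principalBlock M G ∧ χ ∉ Y} := ⟨_, rfl⟩
  have hmemY : ∀ χ, χ ∈ Y ↔ ∃ l, l ≠ 1 ∧ Θ l = χ := by
    intro χ; rw [hY]; rfl
  have hmemX : ∀ χ, χ ∈ X ↔ χ ∈ Cfsg.principalBlock M G ∧ χ ∉ Y := by
    intro χ; rw [hX]; rfl
  have hYB : Y ⊆ Cfsg.principalBlock M G := by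
    intro χ hχ
    obtain ⟨l, hl, rfl⟩ := (hmemY χ).mp hχ
    exact hΘB l hl
  have hunion : Cfsg.principalBlock M G = X ∪ Y := by
    ext χ
    rw [Set.mem_union, hmemX]
    constructor
    · intro h
      by_cases hχ : χ ∈ Y
      · exact Or.inr hχ
      · exact Or.inl ⟨h, hχ⟩
    · rintro (h | h)
      · exact h.1
      · exact hYB h
  have hdisj : Disjoint X Y :=
    Set.disjoint_left.mpr (fun χ h1 h2 => ((hmemX χ).mp h1).2 h2)
  -- the cardinality of `Y`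
  have hcardY : Nat.card ↥(P : Subgroup G) - 1 = m * Nat.card Y := by
    have hfib : ∀ a : {l : ↥(P : Subgroup G) →* ℂˣ // l ≠ 1},
        Nat.card {a' : {l : ↥(P : Subgroup G) →* ℂˣ // l ≠ 1} // Θ a'.1 = Θ a.1} = m := by
      intro a
      letI := dualAction (P : Subgroup G)
      rw [← hCN, ← card_orbit (P : Subgroup G) hfree a.1 a.2]
      apply Nat.card_congr
      exact
        { toFun := fun a' => ⟨a'.1.1, (rel_iff (P : Subgroup G) a.1 a'.1.1).mp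
            ((hΘiff a.1 a'.1.1 a.2 a'.1.2).mp a'.2.symm)⟩
          invFun := fun ψ' => ⟨⟨ψ'.1, ne_one_of_rel (P : Subgroup G) a.1 ψ'.1 a.2
              ((rel_iff (P : Subgroup G) a.1 ψ'.1).mpr ψ'.2)⟩,
            ((hΘiff a.1 ψ'.1 a.2 (ne_one_of_rel (P : Subgroup G) a.1 ψ'.1 a.2
              ((rel_iff (P : Subgroup G) a.1 ψ'.1).mpr ψ'.2))).mpr
              ((rel_iff (P : Subgroup G) a.1 ψ'.1).mpr ψ'.2)).symm⟩
          left_inv := fun a' => rfl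
          right_inv := fun ψ' => rfl }
    have h1 := card_eq_mul_card_range
      (fun l : {l : ↥(P : Subgroup G) →* ℂˣ // l ≠ 1} => Θ l.1) m hfib
    rw [card_nontrivial_hom hab'] at h1
    have h2 : Set.range (fun l : {l : ↥(P : Subgroup G) →* ℂˣ // l ≠ 1} => Θ l.1) = Y := by
      ext χ
      rw [hmemY, Set.mem_range]
      constructor
      · rintro ⟨l, rfl⟩
        exact ⟨l.1, l.2, rfl⟩
      · rintro ⟨l, hl, rfl⟩
        exact ⟨⟨l, hl⟩, rfl⟩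
    rw [h2] at h1
    exact h1
  have hcardY' : Nat.card Y = (Nat.card ↥(P : Subgroup G) - 1) / m := by
    rw [hcardY, Nat.mul_div_cancel_left _ hm0]
  have hr2 : 2 ≤ Nat.card Y := by
    by_contra h
    have h1 : Nat.card Y ≤ 1 := by omega
    have h2 : m * Nat.card Y ≤ m * 1 := Nat.mul_le_mul_left m h1
    omega
  -- value formulas
  have hvalX : ∀ χ ∈ X, ∀ z y : G, Cfsg.IsPPart p z y → y ∈ (P : Subgroup G) → y ≠ 1 →
      (χ : G → ℂ) z = ((-(v χ) : ℤ) : ℂ) := by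
    intro χ hχ z y hzy hy hy1
    have hχ' := (hmemX χ).mp hχ
    rw [value_formula hM P hab hfrob ε v Θ hcoef χ hχ'.1 z y hzy hy hy1]
    have h0 : ∑ ψ : ↥(P : Subgroup G) →* ℂˣ,
        (if (ψ ≠ 1 ∧ Θ ψ = χ) then ((ψ ⟨y, hy⟩ : ℂˣ) : ℂ) else 0) = 0 := by
      apply Finset.sum_eq_zero
      intro ψ _
      rw [if_neg]
      intro h
      exact hχ'.2 ((hmemY χ).mpr ⟨ψ, h.1, h.2⟩)
    rw [h0]
    push_cast
    ring
  have hvalY : ∀ l : ↥(P : Subgroup G) →* ℂˣ, l ≠ 1 → ∀ (z : G) (y : ↥(P : Subgroup G)),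
      Cfsg.IsPPart p z (y : G) → (y : G) ≠ 1 →
      (Θ l : G → ℂ) z = (d : ℂ) + (ε : ℂ) *
        ∑ᶠ ψ' ∈ {ψ' : ↥(P : Subgroup G) →* ℂˣ |
          ∃ n : G, n ∈ Subgroup.normalizer ((P : Subgroup G) : Set G) ∧
            ∀ w w' : ↥(P : Subgroup G), (w' : G) = n * w * n⁻¹ → ψ' w' = l w},
          ((ψ' y : ℂˣ) : ℂ) := by
    intro l hl z y hzy hy1
    rw [value_formula hM P hab hfrob ε v Θ hcoef (Θ l) (hΘB l hl) z (y : G) hzy y.2 hy1,
      hvΘ l hl, finsum_mem_eq_sum_ite]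
    congr 1
    · push_cast; ring
    · congr 1
      apply Finset.sum_congr rfl
      intro ψ _
      apply if_congr _ rfl rfl
      rw [Set.mem_ofPred_eq]
      constructor
      · intro h
        exact (hΘiff l ψ hl h.1).mp h.2.symm
      · intro h
        have hψ1 := ne_one_of_rel (P : Subgroup G) l ψ hl h
        exact ⟨hψ1, ((hΘiff l ψ hl hψ1).mpr h).symm⟩
  -- nonvanishing
  have haX : ∀ χ ∈ X, -(v χ) ≠ 0 := by
    intro χ hχ h0
    apply not_vanish hM P hP1 χ ((hmemX χ).mp hχ).1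
    intro y hy hy1
    have hpart : Cfsg.IsPPart p y y := by
      refine ⟨1, mul_one y, Commute.one_right y, ?_, ?_⟩
      · obtain ⟨k, hk⟩ := (IsPGroup.iff_orderOf.mp P.2) ⟨y, hy⟩
        exact ⟨k, by rw [← hk, Subgroup.orderOf_mk]⟩
      · rw [orderOf_one]; exact hp.out.one_lt.ne' ∘ Nat.dvd_one.mp
    rw [hvalX χ hχ y y hpart hy hy1, h0, Int.cast_zero]
  -- the principal character
  have htrivX : trivIrr G ∈ X := by
    rw [hmemX]
    refine ⟨trivIrr_mem_principalBlock hM.2.1, ?_⟩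
    intro hY'
    obtain ⟨l, hl, hΘl⟩ := (hmemY _).mp hY'
    obtain ⟨μ, hμ, hnr⟩ : ∃ μ : ↥(P : Subgroup G) →* ℂˣ, μ ≠ 1 ∧
        ¬ ∃ n : G, n ∈ Subgroup.normalizer ((P : Subgroup G) : Set G) ∧
          ∀ w w' : ↥(P : Subgroup G), (w' : G) = n * w * n⁻¹ → μ w' = l w := by
      by_cases h1 : ∃ n : G, n ∈ Subgroup.normalizer ((P : Subgroup G) : Set G) ∧
          ∀ w w' : ↥(P : Subgroup G), (w' : G) = n * w * n⁻¹ → l₀ w' = l w
      · refine ⟨μ₀, hμ₀, fun h2 => hnrel (hRel.trans (hRel.symm h1) h2)⟩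
      · exact ⟨l₀, hl₀, h1⟩
    have htB : trivIrr G ∈ Cfsg.principalBlock M G := trivIrr_mem_principalBlock hM.2.1
    have h1 := hcoef l hl (trivIrr G) htB
    have h2 := hcoef μ hμ (trivIrr G) htB
    have e1 : coef (P : Subgroup G) ((trivIrr G : Cfsg.IrrCharacter G) : G → ℂ) l = -1 :=
      coef_triv (P : Subgroup G) l hl
    have e2 : coef (P : Subgroup G) ((trivIrr G : Cfsg.IrrCharacter G) : G → ℂ) μ = -1 :=
      coef_triv (P : Subgroup G) μ hμ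
    rw [e1, if_pos hΘl.symm] at h1
    rw [e2, if_neg (fun h => hnr ((hΘiff l μ hl hμ).mp (hΘl.trans h)))] at h2
    have h1' : (-1 : ℤ) = v (trivIrr G) + ε := by exact_mod_cast h1
    have h2' : (-1 : ℤ) = v (trivIrr G) + 0 := by exact_mod_cast h2
    rcases hε with h | h <;> omega
  -- splitting sums
  have hsplitZ : ∀ f : Cfsg.IrrCharacter G → ℤ, ∑ᶠ χ ∈ Cfsg.principalBlock M G, f χ =
      ∑ᶠ χ ∈ X, f χ + ∑ᶠ χ ∈ Y, f χ := by
    intro f
    rw [hunion]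
    exact finsum_mem_union hdisj (Set.toFinite _) (Set.toFinite _)
  have hsplitC : ∀ f : Cfsg.IrrCharacter G → ℂ, ∑ᶠ χ ∈ Cfsg.principalBlock M G, f χ =
      ∑ᶠ χ ∈ X, f χ + ∑ᶠ χ ∈ Y, f χ := by
    intro f
    rw [hunion]
    exact finsum_mem_union hdisj (Set.toFinite _) (Set.toFinite _)
  -- the norm equation
  have hnormeq : (d - ε) ^ 2 + ((Nat.card Y : ℤ) - 1) * d ^ 2 + ∑ᶠ χ ∈ X, (-(v χ)) ^ 2 =
      (m : ℤ) + 1 := by
    have h1 := hnorm l₀ hl₀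
    rw [hsplitZ, hvΘ l₀ hl₀, hCN] at h1
    have h2 : ∑ᶠ χ ∈ Y, v χ ^ 2 = (Nat.card Y : ℤ) * d ^ 2 := by
      rw [← nsmul_eq_mul, ← finsum_mem_const_nsmul]
      apply finsum_mem_congr rfl
      intro χ hχ
      obtain ⟨l, hl, rfl⟩ := (hmemY χ).mp hχ
      rw [hvΘ l hl]; ring
    have h3 : ∑ᶠ χ ∈ X, (-(v χ)) ^ 2 = ∑ᶠ χ ∈ X, v χ ^ 2 :=
      finsum_mem_congr rfl (fun χ _ => neg_sq (v χ))
    rw [h2] at h1
    rw [h3]
    linear_combination h1 + hε2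
  have hsle : Nat.card X ≤ m := by
    have h1 : (Nat.card X : ℤ) ≤ ∑ᶠ χ ∈ X, (-(v χ)) ^ 2 := by
      have h2 : ∑ᶠ _χ ∈ X, (1 : ℤ) = (Nat.card X : ℤ) := by
        rw [finsum_mem_const_nsmul, nsmul_eq_mul, mul_one]
      rw [← h2, finsum_mem_eq_finite_toFinset_sum _ (Set.toFinite X),
        finsum_mem_eq_finite_toFinset_sum _ (Set.toFinite X)]
      apply Finset.sum_le_sum
      intro χ hχ
      exact one_le_sq_of_ne_zero (haX χ ((Set.Finite.mem_toFinset _).mp hχ))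
    have h3 : (1 : ℤ) ≤ (d - ε) ^ 2 + ((Nat.card Y : ℤ) - 1) * d ^ 2 := by
      have hr : (1 : ℤ) ≤ (Nat.card Y : ℤ) - 1 := by
        have : (2 : ℤ) ≤ (Nat.card Y : ℤ) := by exact_mod_cast hr2
        linarith
      by_cases hd0 : d = 0
      · rw [hd0]
        have : (0 - ε) ^ 2 = 1 := by linear_combination hε2
        rw [this]
        nlinarith
      · have hd2 := one_le_sq_of_ne_zero hd0
        nlinarith [sq_nonneg (d - ε)]
    have h4 : (Nat.card X : ℤ) ≤ (m : ℤ) := by linarith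
    exact_mod_cast h4
  -- `p`-regular elements
  have hreg : ∀ l : ↥(P : Subgroup G) →* ℂˣ, l ≠ 1 → ∀ g : G, ¬ p ∣ orderOf g →
      ∑ᶠ χ ∈ Cfsg.principalBlock M G, (v χ : ℂ) * (χ : G → ℂ) g +
        (ε : ℂ) * (Θ l : G → ℂ) g = 0 := by
    intro l hl g hg
    have h := sum_coef_mul_regular hM (P : Subgroup G) P.2 l g hg
    have h1 : ∑ᶠ χ ∈ Cfsg.principalBlock M G,
        coef (P : Subgroup G) (χ : G → ℂ) l * (χ : G → ℂ) g =
        ∑ᶠ χ ∈ Cfsg.principalBlock M G, ((v χ : ℂ) * (χ : G → ℂ) g +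
          (if χ = Θ l then (ε : ℂ) * (χ : G → ℂ) g else 0)) := by
      apply finsum_mem_congr rfl
      intro χ hχ
      rw [hcoef l hl χ hχ]
      split_ifs <;> push_cast <;> ring
    rw [h1, finsum_mem_add_distrib (Set.toFinite _)] at h
    have h2 : ∑ᶠ χ ∈ Cfsg.principalBlock M G,
        (if χ = Θ l then (ε : ℂ) * (χ : G → ℂ) g else 0) = (ε : ℂ) * (Θ l : G → ℂ) g := by
      rw [finsum_mem_eq_sum_ite, Finset.sum_eq_single (Θ l)]
      · rw [if_pos (hΘB l hl), if_pos rfl]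
      · intro χ _ hne
        rw [if_neg hne, ite_self]
      · intro h
        exact absurd (Finset.mem_univ _) h
    rw [h2] at h
    exact h
  have hregeq : ∀ η ∈ Y, ∀ η' ∈ Y, ∀ g : G, ¬ p ∣ orderOf g →
      (η : G → ℂ) g = (η' : G → ℂ) g := by
    intro η hη η' hη' g hg
    obtain ⟨l, hl, rfl⟩ := (hmemY η).mp hη
    obtain ⟨l', hl', rfl⟩ := (hmemY η').mp hη'
    have h1 := hreg l hl g hg
    have h2 := hreg l' hl' g hg
    have h3 : (ε : ℂ) * (Θ l : G → ℂ) g = (ε : ℂ) * (Θ l' : G → ℂ) g := by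
      linear_combination h1 - h2
    calc (Θ l : G → ℂ) g = (ε : ℂ) * (ε : ℂ) * (Θ l : G → ℂ) g := by rw [hε2', one_mul]
      _ = (ε : ℂ) * ((ε : ℂ) * (Θ l' : G → ℂ) g) := by rw [mul_assoc, h3]
      _ = (Θ l' : G → ℂ) g := by rw [← mul_assoc, hε2', one_mul]
  -- assembling
  refine ⟨Nat.card X, X, Y, hsle, hunion, hdisj, rfl, hcardY', ⟨trivIrr G, htrivX, rfl⟩,
    fun χ => -(v χ), d, ε, Θ, hε, ?_, ?_, ?_, ?_, ?_, ?_, hregeq, ?_⟩
  · intro χ hχ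
    exact ⟨haX χ hχ, hvalX χ hχ⟩
  · intro ψ hψ
    exact (hmemY _).mpr ⟨ψ, hψ, rfl⟩
  · intro η hη
    exact (hmemY η).mp hη
  · intro ψ ψ' hψ hrel
    have hψ' := ne_one_of_rel (P : Subgroup G) ψ ψ' hψ hrel
    exact ((hΘiff ψ ψ' hψ hψ').mpr hrel).symm
  · exact hvalY
  · have hdiv : (((Nat.card ↥(P : Subgroup G) : ℤ) - 1) / (m : ℤ)) = (Nat.card Y : ℤ) := by
      have hP1' : 1 ≤ Nat.card ↥(P : Subgroup G) := Nat.card_pos
      have h1 : ((Nat.card ↥(P : Subgroup G) : ℤ) - 1) = (m : ℤ) * (Nat.card Y : ℤ) := by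
        have := hcardY
        zify [hP1'] at this
        exact this
      rw [h1, Int.mul_ediv_cancel_left _ (by exact_mod_cast hm0.ne')]
    rw [hdiv]
    exact hnormeq
  · intro η hη g hg
    obtain ⟨l, hl, rfl⟩ := (hmemY η).mp hη
    have h1 := hreg l hl g hg
    rw [hsplitC] at h1
    have h2 : ∑ᶠ χ ∈ Y, (v χ : ℂ) * (χ : G → ℂ) g =
        (Nat.card Y : ℂ) * (-(d : ℂ) * (Θ l : G → ℂ) g) := by
      rw [← nsmul_eq_mul, ← finsum_mem_const_nsmul]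
      apply finsum_mem_congr rfl
      intro χ hχ
      rw [hregeq χ hχ (Θ l) ((hmemY _).mpr ⟨l, hl, rfl⟩) g hg]
      obtain ⟨l', hl', rfl⟩ := (hmemY χ).mp hχ
      rw [hvΘ l' hl']
      push_cast
      ring
    have h3 : ∑ᶠ χ ∈ X, (((-(v χ) : ℤ)) : ℂ) * (χ : G → ℂ) g =
        -∑ᶠ χ ∈ X, (v χ : ℂ) * (χ : G → ℂ) g := by
      rw [← finsum_mem_neg_distrib _ (Set.toFinite _)]
      apply finsum_mem_congr rfl
      intro χ _
      push_cast
      ring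
    rw [h2] at h1
    rw [h3, ← hcardY']
    linear_combination -h1

end Cfsg.Agent.Helper6.BLeo
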