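import Mathlib
import Cfsg.Prelude.Def_Characters
import Cfsg.Prelude.Def_Blocks
import Cfsg.Agent.Helper6.BlockOrth
import Cfsg.Agent.Helper6.HeightZeroTrunc
import Cfsg.Agent.Helper6.PowCongr
import Cfsg.Agent.Helper6.OddReal
import Cfsg.Agent.Helper6.Expansion

/-!
# Real-valued irreducible characters of odd degree lie in the principal 2-block (S4483)
-/

set_option autoImplicit false
set_option linter.style.haveILetI false

namespace Cfsg.Agent.Helper6

open Module
open scoped ComplexConjugate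

universe u

variable {G : Type u} [Group G] {M : Ideal Cfsg.AlgInt}

/-- the sum of a real-valued character of odd degree over the elements of odd order is not zero -/
theorem sum_odd_order_ne_zero [Fintype G] (hM : Cfsg.IsPModular 2 M) {χ : G → ℂ}
    (hχ : Cfsg.IsCharacter G χ) (hreal : ∀ g : G, (χ g).im = 0) (d : ℕ) (hd : χ 1 = (d : ℂ))
    (hodd : Odd d) :
    ∑ x : G, (if 2 ∣ orderOf x then (0 : ℂ) else χ x) ≠ 0 := by
  classical
  have hMm := hM.2.1
  -- the values as algebraic integers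
  obtain ⟨c, hc⟩ : ∃ c : G → Cfsg.AlgInt, ∀ g, ((c g : Cfsg.AlgInt) : ℂ) = χ g :=
    ⟨fun g => ⟨χ g, IsCharacter.isIntegral_value hχ g⟩, fun g => rfl⟩
  have hinv : ∀ g : G, c g⁻¹ = c g := by
    intro g
    apply Subtype.ext
    rw [hc, hc, IsCharacter.inv_eq_conj hχ g, Complex.conj_eq_iff_im]
    exact hreal g
  intro h0
  have hN : (∑ x : G, (if 2 ∣ orderOf x then (0 : Cfsg.AlgInt) else c x)) = 0 := by
    refine Subtype.ext (Eq.trans ?_ h0)
    push_cast
    apply Finset.sum_congr rfl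
    intro x _
    split_ifs
    · rfl
    · exact hc x
  have hφ := congrArg (Ideal.Quotient.mk M) hN
  rw [map_sum, map_zero] at hφ
  have h2 : (Ideal.Quotient.mk M) (2 : Cfsg.AlgInt) = 0 := by
    rw [Ideal.Quotient.eq_zero_iff_mem]
    exact_mod_cast hM.2.2
  -- split off the identity
  rw [← Finset.add_sum_erase _ _ (Finset.mem_univ (1 : G))] at hφ
  have hrest : ∑ x ∈ (Finset.univ : Finset G).erase 1,
      (Ideal.Quotient.mk M) (if 2 ∣ orderOf x then (0 : Cfsg.AlgInt) else c x) = 0 := by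
    apply Finset.sum_involution (fun x _ => x⁻¹)
    · intro x _
      rw [orderOf_inv]
      split_ifs
      · rw [map_zero, add_zero]
      · rw [hinv x, ← two_mul, ← map_ofNat (Ideal.Quotient.mk M) 2, h2, zero_mul]
    · intro x hx hne hxx
      have hx1 : x ≠ 1 := Finset.ne_of_mem_erase hx
      have hord : ¬ 2 ∣ orderOf x := by
        intro h
        rw [if_pos h, map_zero] at hne
        exact hne rfl
      have hsq : x ^ 2 = 1 := by
        rw [pow_two]
        calc x * x = x⁻¹ * x := by rw [hxx]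
          _ = 1 := inv_mul_cancel x
      have hdvd := orderOf_dvd_of_pow_eq_one hsq
      rcases (Nat.dvd_prime Nat.prime_two).mp hdvd with h | h
      · exact hx1 (orderOf_eq_one_iff.mp h)
      · exact hord (by rw [h])
    · intro x _
      exact inv_inv x
    · intro x hx
      rw [Finset.mem_erase] at hx ⊢
      exact ⟨inv_ne_one.mpr hx.1, Finset.mem_univ _⟩
  rw [hrest, add_zero, orderOf_one, if_neg (by norm_num)] at hφ
  have hc1 : c 1 = (d : Cfsg.AlgInt) := by
    apply Subtype.ext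
    rw [hc, hd]
    simp
  rw [hc1] at hφ
  obtain ⟨j, hj⟩ := hodd
  have h3 : (Ideal.Quotient.mk M) ((d : ℕ) : Cfsg.AlgInt) = 1 := by
    rw [hj]
    push_cast
    rw [map_add, map_mul, map_one, h2, zero_mul, zero_add]
  rw [h3] at hφ
  have hne : (1 : Cfsg.AlgInt ⧸ M) ≠ 0 := by
    haveI : Nontrivial (Cfsg.AlgInt ⧸ M) := Ideal.Quotient.nontrivial_iff.mpr hMm.ne_top
    exact one_ne_zero
  exact hne hφ

/-- real-valued irreducible characters of odd degree lie in the principal `2`-block -/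
theorem real_odd_mem_principalBlock [Finite G] (hM : Cfsg.IsPModular 2 M)
    (χ : Cfsg.IrrCharacter G) (hreal : ∀ g : G, ((χ : G → ℂ) g).im = 0)
    (hodd : Odd (Cfsg.charDegree (χ : G → ℂ))) : χ ∈ Cfsg.principalBlock M G := by
  classical
  haveI := Fintype.ofFinite G
  haveI : Fact (Nat.Prime 2) := ⟨Nat.prime_two⟩
  have hMm := hM.2.1
  obtain ⟨triv, htriv⟩ : ∃ t : Cfsg.IrrCharacter G, t = ⟨fun _ => 1, isIrrCharacter_one⟩ :=
    ⟨_, rfl⟩
  have htrivf : (triv : G → ℂ) = fun _ => 1 := by rw [htriv]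
  have hB : Cfsg.IsPBlock M (Cfsg.principalBlock M G) := ⟨triv, by rw [htrivf]; rfl⟩
  have htrivB : triv ∈ Cfsg.principalBlock M G := by
    have := mem_blockOf_self hMm triv
    rw [htrivf] at this
    exact this
  by_contra hχ
  have h0 := sum_pregular_eq_zero hMm 2 hM.2.2 (Cfsg.principalBlock M G) hB triv χ htrivB hχ
  have hne := sum_odd_order_ne_zero hM (IsIrrCharacter.isCharacter χ.2) hreal
    (Cfsg.charDegree (χ : G → ℂ))
    (charDegree_cast_of_isCharacter (IsIrrCharacter.isCharacter χ.2)).symm hodd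
  apply hne
  refine Eq.trans ?_ h0
  apply Finset.sum_congr rfl
  intro x _
  split_ifs
  · rfl
  · rw [htrivf, one_mul, Complex.conj_eq_iff_im.mpr (hreal x)]

/-- the number of real-valued irreducible characters of odd degree -/
theorem card_real_odd_le [Finite G] (hM : Cfsg.IsPModular 2 M) :
    Nat.card {χ : Cfsg.IrrCharacter G // (∀ g : G, ((χ : G → ℂ) g).im = 0) ∧
      Odd (Cfsg.charDegree (χ : G → ℂ))} ≤ 2 ^ (2 * (Nat.card G).factorization 2) := by
  classical
  haveI := Fintype.ofFinite G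
  haveI : Fact (Nat.Prime 2) := ⟨Nat.prime_two⟩
  haveI : Finite (Cfsg.IrrCharacter G) := irr_finite
  haveI : Fintype (Cfsg.IrrCharacter G) := Fintype.ofFinite _
  obtain ⟨a, ha⟩ : ∃ a : ℕ, a = (Nat.card G).factorization 2 := ⟨_, rfl⟩
  rw [← ha]
  have hint : ∀ ξ : Cfsg.IrrCharacter G, ∃ n : ℤ,
      Cfsg.classInner (truncScaled 2 (fun _ : G => (1 : ℂ))) (ξ : G → ℂ) = n ∧
      truncSum 2 (fun _ : G => (1 : ℂ)) (ξ : G → ℂ) =
        ((Nat.card G / 2 ^ (Nat.card G).factorization 2 : ℕ) : ℂ) * n := by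
    intro ξ
    obtain ⟨n, h1, h2, -⟩ := exists_truncInt 2 (isIrrCharacter_one (G := G)) ξ.2
    exact ⟨n, h1, h2⟩
  choose n hn1 hn2 using hint
  obtain ⟨θ, hθ⟩ : ∃ θ : G → ℂ, θ = truncScaled 2 (fun _ : G => (1 : ℂ)) := ⟨_, rfl⟩
  have hθapp : ∀ x : G, θ x = if 2 ∣ orderOf x then (0 : ℂ) else ((2 ^ a : ℕ) : ℂ) := by
    intro x
    rw [hθ, ha]
    unfold truncScaled
    split_ifs
    · rfl
    · rw [mul_one]
  have hθcf : Cfsg.IsClassFunction G θ := by
    intro g h
    rw [hθapp, hθapp]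
    have : orderOf (h * g * h⁻¹) = orderOf g := by
      have := MulEquiv.orderOf_eq (MulAut.conj h) g
      rwa [MulAut.conj_apply] at this
    rw [this]
  -- Parseval
  have hpars : Cfsg.classInner θ θ = ∑ ξ : Cfsg.IrrCharacter G, ((n ξ : ℤ) : ℂ) ^ 2 := by
    have hexp := classFunction_expansion θ hθcf
    have h1 : Cfsg.classInner θ θ = Cfsg.classInner
        (∑ ξ : Cfsg.IrrCharacter G, Cfsg.classInner θ (ξ : G → ℂ) • (ξ : G → ℂ)) θ := by
      rw [← hexp]
    rw [h1, classInner_sum_left]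
    apply Finset.sum_congr rfl
    intro ξ _
    rw [classInner_smul_left, classInner_conj_symm θ (ξ : G → ℂ), hθ, hn1 ξ, map_intCast,
      pow_two]
  -- direct computation
  have hG0 : (0 : ℝ) < (Nat.card G : ℝ) := by
    have : 0 < Nat.card G := Nat.card_pos
    exact_mod_cast this
  have hdirect : Cfsg.classInner θ θ = (Nat.card G : ℂ)⁻¹ *
      (((Finset.univ.filter (fun x : G => ¬ 2 ∣ orderOf x)).card : ℂ) * ((2 ^ a : ℕ) : ℂ) ^ 2) := by
    rw [classInner_def]
    congr 1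
    rw [Finset.card_filter, Nat.cast_sum, Finset.sum_mul]
    apply Finset.sum_congr rfl
    intro x _
    rw [hθapp]
    split_ifs
    · simp
    · rw [Complex.conj_natCast]
      push_cast
      ring
  have hsum_le : ∑ ξ : Cfsg.IrrCharacter G, ((n ξ : ℤ) : ℝ) ^ 2 ≤ ((2 ^ a : ℕ) : ℝ) ^ 2 := by
    have h2 : ((∑ ξ : Cfsg.IrrCharacter G, ((n ξ : ℤ) : ℝ) ^ 2 : ℝ) : ℂ) =
        (((Nat.card G : ℝ)⁻¹ * (((Finset.univ.filter (fun x : G => ¬ 2 ∣ orderOf x)).card : ℝ) *
          ((2 ^ a : ℕ) : ℝ) ^ 2) : ℝ) : ℂ) := by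
      have h4 : ((∑ ξ : Cfsg.IrrCharacter G, ((n ξ : ℤ) : ℝ) ^ 2 : ℝ) : ℂ) =
          ∑ ξ : Cfsg.IrrCharacter G, ((n ξ : ℤ) : ℂ) ^ 2 := by
        push_cast
        rfl
      rw [h4, ← hpars, hdirect]
      push_cast
      rfl
    have h3 := Complex.ofReal_injective h2
    rw [h3]
    have hcard : ((Finset.univ.filter (fun x : G => ¬ 2 ∣ orderOf x)).card : ℝ) ≤
        (Nat.card G : ℝ) := by
      have : (Finset.univ.filter (fun x : G => ¬ 2 ∣ orderOf x)).card ≤ Fintype.card G :=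
        Finset.card_le_univ _
      rw [← Nat.card_eq_fintype_card] at this
      exact_mod_cast this
    have hsq : (0 : ℝ) ≤ ((2 ^ a : ℕ) : ℝ) ^ 2 := sq_nonneg _
    rw [inv_mul_le_iff₀ hG0]
    exact mul_le_mul_of_nonneg_right hcard hsq
  -- nonvanishing
  have hnz : ∀ ξ : Cfsg.IrrCharacter G, (∀ g : G, ((ξ : G → ℂ) g).im = 0) →
      Odd (Cfsg.charDegree (ξ : G → ℂ)) → n ξ ≠ 0 := by
    intro ξ hreal hodd h0
    have h1 := hn2 ξ
    rw [h0, Int.cast_zero, mul_zero] at h1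
    have hne := sum_odd_order_ne_zero hM (IsIrrCharacter.isCharacter ξ.2) hreal
      (Cfsg.charDegree (ξ : G → ℂ))
      (charDegree_cast_of_isCharacter (IsIrrCharacter.isCharacter ξ.2)).symm hodd
    apply hne
    refine Eq.trans ?_ h1
    unfold truncSum truncConj
    apply Finset.sum_congr rfl
    intro x _
    split_ifs
    · rw [zero_mul]
    · rw [map_one, one_mul]
  rw [Nat.card_eq_fintype_card, Fintype.card_subtype]
  have hfinal : (((Finset.univ.filter (fun χ : Cfsg.IrrCharacter G =>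
      (∀ g : G, ((χ : G → ℂ) g).im = 0) ∧ Odd (Cfsg.charDegree (χ : G → ℂ)))).card : ℕ) : ℝ) ≤
      ((2 ^ (2 * a) : ℕ) : ℝ) := by
    calc (((Finset.univ.filter (fun χ : Cfsg.IrrCharacter G =>
        (∀ g : G, ((χ : G → ℂ) g).im = 0) ∧ Odd (Cfsg.charDegree (χ : G → ℂ)))).card : ℕ) : ℝ)
        = ∑ ξ ∈ Finset.univ.filter (fun χ : Cfsg.IrrCharacter G =>
          (∀ g : G, ((χ : G → ℂ) g).im = 0) ∧ Odd (Cfsg.charDegree (χ : G → ℂ))), (1 : ℝ) := by
          rw [Finset.sum_const, nsmul_eq_mul, mul_one]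
      _ ≤ ∑ ξ ∈ Finset.univ.filter (fun χ : Cfsg.IrrCharacter G =>
          (∀ g : G, ((χ : G → ℂ) g).im = 0) ∧ Odd (Cfsg.charDegree (χ : G → ℂ))),
          ((n ξ : ℤ) : ℝ) ^ 2 := by
          apply Finset.sum_le_sum
          intro ξ hξ
          rw [Finset.mem_filter] at hξ
          have h1 := hnz ξ hξ.2.1 hξ.2.2
          have h2 : (1 : ℤ) ≤ (n ξ) ^ 2 := by
            have := sq_nonneg (n ξ)
            have h3 : (n ξ) ^ 2 ≠ 0 := pow_ne_zero 2 h1
            omega
          exact_mod_cast h2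
      _ ≤ ∑ ξ : Cfsg.IrrCharacter G, ((n ξ : ℤ) : ℝ) ^ 2 := by
          apply Finset.sum_le_sum_of_subset_of_nonneg (Finset.filter_subset _ _)
          intro ξ _ _
          exact sq_nonneg _
      _ ≤ ((2 ^ a : ℕ) : ℝ) ^ 2 := hsum_le
      _ = ((2 ^ (2 * a) : ℕ) : ℝ) := by
          push_cast
          ring
  exact_mod_cast hfinal

end Cfsg.Agent.Helper6
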