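import Mathlib
import Cfsg.Prelude.Def_Characters
import Cfsg.Prelude.Def_Blocks
import Cfsg.Agent.Helper6.BrauerFeitA
import Cfsg.Agent.Helper6.DefectOrder

/-!
# The Brauer–Feit bound with heights (S4676)
-/

set_option autoImplicit false
set_option linter.style.haveILetI false

namespace Cfsg.Agent.Helper6

open Module
open scoped ComplexConjugate

universe u

variable {G : Type u} [Group G] {M : Ideal Cfsg.AlgInt}

/-- the row of contributions of a character of height zero: nonzero integers `m ξ`, divisible by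
`p ^ height ξ`, the sum of whose squares over the block is `p ^ d * m χ` at most -/
theorem exists_height_contributions [Finite G] {p : ℕ} [hp : Fact p.Prime]
    (hM : Cfsg.IsPModular p M) (B : Set (Cfsg.IrrCharacter G)) (hB : Cfsg.IsPBlock M B)
    (FB : Finset (Cfsg.IrrCharacter G)) (hmemFB : ∀ ξ, ξ ∈ FB ↔ ξ ∈ B) :
    ∃ χ ∈ B, ∃ m : Cfsg.IrrCharacter G → ℤ, Cfsg.blockHeight p B (χ : G → ℂ) = 0 ∧
      (∀ ξ ∈ B, m ξ ≠ 0 ∧ (p : ℤ) ^ Cfsg.blockHeight p B (ξ : G → ℂ) ∣ m ξ) ∧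
      ∑ ξ ∈ FB, (m ξ) ^ 2 ≤ (p : ℤ) ^ Cfsg.blockDefect p B * m χ := by
  classical
  haveI := Fintype.ofFinite G
  haveI : Finite (Cfsg.IrrCharacter G) := irr_finite
  haveI : Fintype (Cfsg.IrrCharacter G) := Fintype.ofFinite _
  obtain ⟨a, ha⟩ : ∃ a : ℕ, a = (Nat.card G).factorization p := ⟨_, rfl⟩
  obtain ⟨S, hS⟩ : ∃ S : Set ℕ, S = (fun χ : Cfsg.IrrCharacter G =>
      (Cfsg.charDegree (χ : G → ℂ)).factorization p) '' B := ⟨_, rfl⟩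
  obtain ⟨χ₀, hχ₀⟩ : ∃ χ₀ : Cfsg.IrrCharacter G, χ₀ ∈ B := by
    obtain ⟨χ₀, h⟩ := hB
    exact ⟨χ₀, h ▸ mem_blockOf_self hM.2.1 χ₀⟩
  have hne : S.Nonempty := by
    rw [hS]
    exact ⟨_, χ₀, hχ₀, rfl⟩
  obtain ⟨e, he⟩ : ∃ e : ℕ, e = sInf S := ⟨_, rfl⟩
  have hmem : e ∈ S := he ▸ Nat.sInf_mem hne
  rw [hS] at hmem
  obtain ⟨χ, hχB, hχe⟩ := hmem
  simp only at hχe
  have hheight : Cfsg.blockHeight p B (χ : G → ℂ) = 0 := by
    unfold Cfsg.blockHeight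
    rw [← hS, ← he, hχe]
    exact Nat.sub_self _
  have hheq : ∀ ξ : Cfsg.IrrCharacter G, Cfsg.blockHeight p B (ξ : G → ℂ) =
      (Cfsg.charDegree (ξ : G → ℂ)).factorization p - e := by
    intro ξ
    unfold Cfsg.blockHeight
    rw [← hS, ← he]
  obtain ⟨d, hd⟩ : ∃ d : ℕ, d = Cfsg.blockDefect p B := ⟨_, rfl⟩
  have hdae : d = a - e := by
    rw [hd]
    unfold Cfsg.blockDefect
    rw [← hS, ← he, ← ha]
  have hea : e ≤ a := by
    rw [← hχe, ha]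
    exact (Nat.factorization_le_iff_dvd (charDegree_ne_zero_of_irr χ.2) Nat.card_pos.ne').mpr
      (charDegree_dvd_card χ.2) p
  rw [← hd]
  have hint : ∀ ξ : Cfsg.IrrCharacter G, ∃ n : ℤ,
      Cfsg.classInner (truncScaled p (χ : G → ℂ)) (ξ : G → ℂ) = n := by
    intro ξ
    obtain ⟨n, h1, -⟩ := exists_truncInt p χ.2 ξ.2
    exact ⟨n, h1⟩
  choose n hn using hint
  have hB' := (height_zero_iff_trunc hM B hB χ hχB).2.mp hheight
  have hnB : ∀ ξ ∈ B, n ξ ≠ 0 ∧ e ≤ (Cfsg.charDegree (ξ : G → ℂ)).factorization p ∧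
      (p : ℤ) ^ (Cfsg.charDegree (ξ : G → ℂ)).factorization p ∣ n ξ := by
    intro ξ hξ
    obtain ⟨n', h1, h2, h3⟩ := hB' ξ hξ
    have hnn : n' = n ξ := by
      have := h1.symm.trans (hn ξ)
      exact_mod_cast this
    rw [hnn] at h2 h3
    refine ⟨h2, ?_, ?_⟩
    · rw [he]
      apply Nat.sInf_le
      rw [hS]
      exact ⟨ξ, hξ, rfl⟩
    · rw [padicValInt_dvd_iff]
      right
      rw [h3]
  obtain ⟨θ, hθ⟩ : ∃ θ : G → ℂ, θ = truncScaled p (χ : G → ℂ) := ⟨_, rfl⟩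
  have hθapp : ∀ x : G, θ x = if p ∣ orderOf x then (0 : ℂ) else
      ((p ^ a : ℕ) : ℂ) * (χ : G → ℂ) x := by
    intro x
    rw [hθ, ha]
    rfl
  have hθcf : Cfsg.IsClassFunction G θ := by
    rw [hθ]
    exact IsGeneralizedCharacter.isClassFunction (truncated_irr_isGeneralizedCharacter p χ.2)
  -- Parseval
  have hpars : Cfsg.classInner θ θ = ∑ ξ : Cfsg.IrrCharacter G, ((n ξ : ℤ) : ℂ) ^ 2 := by
    have hexp := classFunction_expansion θ hθcf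
    have h1 : Cfsg.classInner θ θ = Cfsg.classInner
        (∑ ξ : Cfsg.IrrCharacter G, Cfsg.classInner θ (ξ : G → ℂ) • (ξ : G → ℂ)) θ := by
      rw [← hexp]
    rw [h1, classInner_sum_left]
    apply Finset.sum_congr rfl
    intro ξ _
    rw [classInner_smul_left, classInner_conj_symm θ (ξ : G → ℂ), hθ, hn ξ, map_intCast,
      pow_two]
  have hdirect : Cfsg.classInner θ θ = ((p ^ a : ℕ) : ℂ) * ((n χ : ℤ) : ℂ) := by
    have h1 : ∑ g : G, θ g * conj (θ g) =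
        ((p ^ a : ℕ) : ℂ) * ∑ g : G, θ g * conj ((χ : G → ℂ) g) := by
      rw [Finset.mul_sum]
      apply Finset.sum_congr rfl
      intro x _
      rw [hθapp]
      split_ifs
      · simp
      · rw [map_mul, Complex.conj_natCast]
        ring
    rw [← hn χ, ← hθ, classInner_def, classInner_def, h1]
    ring
  have hall : ∑ ξ : Cfsg.IrrCharacter G, (n ξ) ^ 2 = (p : ℤ) ^ a * n χ := by
    have h1 := hpars.symm.trans hdirect
    have h2 : ((∑ ξ : Cfsg.IrrCharacter G, (n ξ) ^ 2 : ℤ) : ℂ) = (((p : ℤ) ^ a * n χ : ℤ) : ℂ) := by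
      push_cast
      rw [h1]
      push_cast
      rfl
    exact_mod_cast h2
  have hχFB : χ ∈ FB := (hmemFB χ).mpr hχB
  have hp0 : (p : ℤ) ≠ 0 := by exact_mod_cast hp.out.ne_zero
  have hdiv : ∀ ξ : Cfsg.IrrCharacter G, ∃ m : ℤ, ξ ∈ B → (n ξ = (p : ℤ) ^ e * m ∧ m ≠ 0 ∧
      (p : ℤ) ^ Cfsg.blockHeight p B (ξ : G → ℂ) ∣ m) := by
    intro ξ
    by_cases hξ : ξ ∈ B
    · obtain ⟨h0, hle, hdvd⟩ := hnB ξ hξ
      have hsplit : (Cfsg.charDegree (ξ : G → ℂ)).factorization p =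
          e + Cfsg.blockHeight p B (ξ : G → ℂ) := by
        rw [hheq ξ]
        omega
      rw [hsplit, pow_add] at hdvd
      obtain ⟨m, hm⟩ := dvd_of_mul_right_dvd hdvd
      refine ⟨m, fun _ => ⟨hm, ?_, ?_⟩⟩
      · rintro rfl
        rw [mul_zero] at hm
        exact h0 hm
      · rw [hm] at hdvd
        exact (mul_dvd_mul_iff_left (pow_ne_zero e hp0)).mp hdvd
    · exact ⟨0, fun h => absurd h hξ⟩
  choose m hm using hdiv
  refine ⟨χ, hχB, m, hheight, fun ξ hξ => (hm ξ hξ).2, ?_⟩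
  obtain ⟨P, hP⟩ : ∃ P : ℤ, P = (p : ℤ) ^ e := ⟨_, rfl⟩
  obtain ⟨Q, hQ⟩ : ∃ Q : ℤ, Q = (p : ℤ) ^ d := ⟨_, rfl⟩
  have hPQ : (p : ℤ) ^ a = P * Q := by
    rw [hP, hQ, ← pow_add, hdae, Nat.add_sub_cancel' hea]
  have hPpos : 0 < P := by
    rw [hP]
    have : (0 : ℤ) < (p : ℤ) := by exact_mod_cast hp.out.pos
    positivity
  rw [← hP] at hm
  rw [← hQ]
  have hsumB : ∑ ξ ∈ FB, (n ξ) ^ 2 = P ^ 2 * ∑ ξ ∈ FB, (m ξ) ^ 2 := by
    rw [Finset.mul_sum]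
    apply Finset.sum_congr rfl
    intro ξ hξ
    rw [(hm ξ ((hmemFB ξ).mp hξ)).1]
    ring
  have hle : P ^ 2 * ∑ ξ ∈ FB, (m ξ) ^ 2 ≤ P ^ 2 * (Q * m χ) := by
    have h1 : ∑ ξ ∈ FB, (n ξ) ^ 2 ≤ ∑ ξ : Cfsg.IrrCharacter G, (n ξ) ^ 2 := by
      apply Finset.sum_le_sum_of_subset_of_nonneg (Finset.subset_univ _)
      intro ξ _ _
      exact sq_nonneg _
    rw [hall, hsumB, hPQ, (hm χ hχB).1] at h1
    calc P ^ 2 * ∑ ξ ∈ FB, (m ξ) ^ 2 ≤ P * Q * (P * m χ) := h1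
      _ = P ^ 2 * (Q * m χ) := by ring
  exact le_of_mul_le_mul_left hle (by positivity)

/-- **the Brauer–Feit bound with heights** -/
theorem brauer_feit_heights [Finite G] {p : ℕ} [hp : Fact p.Prime]
    (hM : Cfsg.IsPModular p M) (B : Set (Cfsg.IrrCharacter G)) (hB : Cfsg.IsPBlock M B) :
    ∑ᶠ χ ∈ B, p ^ (2 * Cfsg.blockHeight p B (χ : G → ℂ)) ≤
      (p ^ Cfsg.blockDefect p B) ^ 2 / 4 + 1 := by
  classical
  haveI : Finite (Cfsg.IrrCharacter G) := irr_finite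
  haveI : Fintype (Cfsg.IrrCharacter G) := Fintype.ofFinite _
  obtain ⟨FB, hFB⟩ : ∃ FB : Finset (Cfsg.IrrCharacter G),
      FB = Finset.univ.filter (fun ξ => ξ ∈ B) := ⟨_, rfl⟩
  have hmemFB : ∀ ξ, ξ ∈ FB ↔ ξ ∈ B := by
    intro ξ
    rw [hFB, Finset.mem_filter]
    simp
  have hBset : B = (FB : Set (Cfsg.IrrCharacter G)) := by
    ext ξ
    rw [Finset.mem_coe, hmemFB]
  rw [finsum_mem_congr hBset (fun x _ => rfl), finsum_mem_coe_finset]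
  obtain ⟨χ, hχB, m, hheight, hm, hsum⟩ := exists_height_contributions hM B hB FB hmemFB
  obtain ⟨d, hd⟩ : ∃ d : ℕ, d = Cfsg.blockDefect p B := ⟨_, rfl⟩
  rw [← hd] at hsum ⊢
  obtain ⟨Q, hQ⟩ : ∃ Q : ℤ, Q = (p : ℤ) ^ d := ⟨_, rfl⟩
  rw [← hQ] at hsum
  have hχFB : χ ∈ FB := (hmemFB χ).mpr hχB
  have hp1 : (1 : ℤ) ≤ (p : ℤ) := by exact_mod_cast hp.out.one_le
  have hterm : ∀ ξ ∈ B, ((p : ℤ) ^ (2 * Cfsg.blockHeight p B (ξ : G → ℂ))) ≤ (m ξ) ^ 2 := by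
    intro ξ hξ
    obtain ⟨h0, c, hc⟩ := hm ξ hξ
    have hc0 : c ≠ 0 := by
      rintro rfl
      rw [mul_zero] at hc
      exact h0 hc
    have hc1 : (1 : ℤ) ≤ c ^ 2 := by
      have := sq_nonneg c
      have h3 : c ^ 2 ≠ 0 := pow_ne_zero 2 hc0
      omega
    have hpos : (0 : ℤ) ≤ (p : ℤ) ^ (2 * Cfsg.blockHeight p B (ξ : G → ℂ)) := by positivity
    rw [hc, mul_pow, ← pow_mul, mul_comm (Cfsg.blockHeight p B (ξ : G → ℂ)) 2]
    nlinarith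
  have hS : (∑ ξ ∈ FB, (p : ℤ) ^ (2 * Cfsg.blockHeight p B (ξ : G → ℂ))) ≤
      1 + (∑ ξ ∈ FB, (m ξ) ^ 2 - (m χ) ^ 2) := by
    rw [← Finset.add_sum_erase FB (fun ξ => (p : ℤ) ^ (2 * Cfsg.blockHeight p B (ξ : G → ℂ))) hχFB,
      ← Finset.add_sum_erase FB (fun ξ => (m ξ) ^ 2) hχFB]
    rw [hheight, mul_zero, pow_zero, add_sub_cancel_left]
    have hle : ∑ x ∈ FB.erase χ, (p : ℤ) ^ (2 * Cfsg.blockHeight p B (x : G → ℂ)) ≤
        ∑ x ∈ FB.erase χ, (m x) ^ 2 := by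
      apply Finset.sum_le_sum
      intro ξ hξ
      exact hterm ξ ((hmemFB ξ).mp (Finset.mem_of_mem_erase hξ))
    linarith
  have h4 : 4 * ((∑ ξ ∈ FB, (p : ℤ) ^ (2 * Cfsg.blockHeight p B (ξ : G → ℂ))) - 1) ≤ Q ^ 2 := by
    nlinarith [sq_nonneg (Q - 2 * m χ)]
  obtain ⟨T, hT⟩ : ∃ T : ℕ, T = ∑ ξ ∈ FB, p ^ (2 * Cfsg.blockHeight p B (ξ : G → ℂ)) := ⟨_, rfl⟩
  rw [← hT]
  have hTZ : ((T : ℕ) : ℤ) = ∑ ξ ∈ FB, (p : ℤ) ^ (2 * Cfsg.blockHeight p B (ξ : G → ℂ)) := by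
    rw [hT]
    push_cast
    rfl
  rw [← hTZ] at h4
  have hQ2 : Q ^ 2 = (((p ^ d) ^ 2 : ℕ) : ℤ) := by
    rw [hQ]
    push_cast
    ring
  rw [hQ2] at h4
  have h5 : (T - 1) * 4 ≤ (p ^ d) ^ 2 := by
    rcases Nat.eq_zero_or_pos T with h0 | h0
    · rw [h0]
      simp
    · have : (((T - 1) * 4 : ℕ) : ℤ) ≤ (((p ^ d) ^ 2 : ℕ) : ℤ) := by
        rw [Nat.cast_mul, Nat.cast_sub h0]
        push_cast
        push_cast at h4
        linarith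
      exact_mod_cast this
  have h6 := (Nat.le_div_iff_mul_le (by norm_num : 0 < 4)).mpr h5
  omega

end Cfsg.Agent.Helper6
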