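import Mathlib
import Cfsg.Prelude.Def_Characters
import Cfsg.Prelude.Def_Blocks
import Cfsg.Agent.Helper6.BrauerFeitB
import Cfsg.Agent.Helper6.TruncChar
import Cfsg.Agent.Helper6.CharBasic

/-!
# Characters of defect one have height zero (S4499)
-/

set_option autoImplicit false
set_option linter.style.haveILetI false

namespace Cfsg.Agent.Helper6

open Module
open scoped ComplexConjugate

universe u

variable {G : Type u} [Group G] {M : Ideal Cfsg.AlgInt}

/-- the integer `p ^ a [χ̃, χ]` lies between `1` and `p ^ a`, and equals `p ^ a` only if `χ`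
vanishes on the `p`-singular elements -/
theorem truncInt_self_bounds [Fintype G] (p : ℕ) [hp : Fact p.Prime] {χ : G → ℂ}
    (hχ : Cfsg.IsIrrCharacter G χ) (n : ℤ)
    (hn : Cfsg.classInner (truncScaled p χ) χ = n) :
    0 < n ∧ n ≤ (p : ℤ) ^ (Nat.card G).factorization p ∧
      (n = (p : ℤ) ^ (Nat.card G).factorization p → ∀ g : G, p ∣ orderOf g → χ g = 0) := by
  classical
  obtain ⟨a, ha⟩ : ∃ a : ℕ, a = (Nat.card G).factorization p := ⟨_, rfl⟩
  rw [← ha]
  obtain ⟨Sr, hSr⟩ : ∃ Sr : ℝ, Sr = ∑ g : G, (if p ∣ orderOf g then (0 : ℝ) else ‖χ g‖ ^ 2) :=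
    ⟨_, rfl⟩
  obtain ⟨Ss, hSs⟩ : ∃ Ss : ℝ, Ss = ∑ g : G, (if p ∣ orderOf g then ‖χ g‖ ^ 2 else (0 : ℝ)) :=
    ⟨_, rfl⟩
  have hG0 : (0 : ℝ) < (Nat.card G : ℝ) := by
    have : 0 < Nat.card G := Nat.card_pos
    exact_mod_cast this
  have hsum : Sr + Ss = (Nat.card G : ℝ) := by
    have h1 := classInner_irr_self hχ
    rw [classInner_self_eq] at h1
    have h2 : ((∑ g : G, ‖χ g‖ ^ 2 : ℝ) : ℂ) = ((Nat.card G : ℝ) : ℂ) := by
      have hGC : (Nat.card G : ℂ) ≠ 0 := by
        have := hG0.ne'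
        exact_mod_cast this
      have := congrArg (fun z => (Nat.card G : ℂ) * z) h1
      beta_reduce at this
      rw [← mul_assoc, mul_inv_cancel₀ hGC, one_mul, mul_one] at this
      rw [this]
      push_cast
      rfl
    have h3 := Complex.ofReal_injective h2
    rw [← h3, hSr, hSs, ← Finset.sum_add_distrib]
    apply Finset.sum_congr rfl
    intro g _
    split_ifs
    · rw [zero_add]
    · rw [add_zero]
  have hSs0 : 0 ≤ Ss := by
    rw [hSs]
    apply Finset.sum_nonneg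
    intro g _
    split_ifs
    · exact sq_nonneg _
    · exact le_refl _
  have hSrpos : 0 < Sr := by
    rw [hSr]
    have h1 : (if p ∣ orderOf (1 : G) then (0 : ℝ) else ‖χ 1‖ ^ 2) ≤
        ∑ g : G, (if p ∣ orderOf g then (0 : ℝ) else ‖χ g‖ ^ 2) := by
      apply Finset.single_le_sum (f := fun g : G => if p ∣ orderOf g then (0 : ℝ) else ‖χ g‖ ^ 2)
      · intro g _
        beta_reduce
        split_ifs
        · exact le_refl _
        · exact sq_nonneg _
      · exact Finset.mem_univ _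
    have h2 : ¬ p ∣ orderOf (1 : G) := by
      rw [orderOf_one]
      exact hp.out.one_lt.ne' ∘ Nat.dvd_one.mp
    rw [if_neg h2] at h1
    have h3 : 0 < ‖χ 1‖ ^ 2 := by
      have := IsIrrCharacter.apply_one_ne_zero hχ
      positivity
    linarith
  have hnR : ((n : ℤ) : ℝ) * (Nat.card G : ℝ) = ((p ^ a : ℕ) : ℝ) * Sr := by
    have h1 : ((n : ℤ) : ℂ) = (Nat.card G : ℂ)⁻¹ * ((((p ^ a : ℕ) : ℝ) * Sr : ℝ) : ℂ) := by
      rw [← hn, classInner_def]
      congr 1
      rw [hSr, Finset.mul_sum]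
      push_cast
      apply Finset.sum_congr rfl
      intro g _
      unfold truncScaled
      rw [← ha]
      split_ifs
      · simp
      · rw [mul_assoc, Complex.mul_conj, Complex.normSq_eq_norm_sq]
        push_cast
        rfl
    have hGC : (Nat.card G : ℂ) ≠ 0 := by
      have := hG0.ne'
      exact_mod_cast this
    have h2 : (((n : ℤ) : ℝ) * (Nat.card G : ℝ) : ℝ) = ((((p ^ a : ℕ) : ℝ) * Sr : ℝ) : ℂ) := by
      push_cast
      rw [h1]
      push_cast
      field_simp
    exact Complex.ofReal_injective h2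
  have hpa : (0 : ℝ) < ((p ^ a : ℕ) : ℝ) := by
    have : 0 < p ^ a := pow_pos hp.out.pos a
    exact_mod_cast this
  have hnpos : (0 : ℝ) < ((n : ℤ) : ℝ) := by
    have h1 : 0 < ((n : ℤ) : ℝ) * (Nat.card G : ℝ) := by
      rw [hnR]
      exact mul_pos hpa hSrpos
    exact (mul_pos_iff_of_pos_right hG0).mp h1
  have hdiff : (((p ^ a : ℕ) : ℝ) - ((n : ℤ) : ℝ)) * (Nat.card G : ℝ) = ((p ^ a : ℕ) : ℝ) * Ss := by
    rw [sub_mul, hnR, ← hsum]
    ring
  have hnle : ((n : ℤ) : ℝ) ≤ ((p ^ a : ℕ) : ℝ) := by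
    have h1 : 0 ≤ (((p ^ a : ℕ) : ℝ) - ((n : ℤ) : ℝ)) * (Nat.card G : ℝ) := by
      rw [hdiff]
      exact mul_nonneg hpa.le hSs0
    have h2 := nonneg_of_mul_nonneg_left h1 hG0
    linarith
  refine ⟨by exact_mod_cast hnpos, ?_, ?_⟩
  · have : ((n : ℤ) : ℝ) ≤ (((p : ℤ) ^ a : ℤ) : ℝ) := by
      push_cast
      push_cast at hnle
      exact hnle
    exact_mod_cast this
  · intro heq g hg
    have h1 : ((n : ℤ) : ℝ) = ((p ^ a : ℕ) : ℝ) := by
      rw [heq]
      push_cast
      rfl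
    rw [h1, sub_self, zero_mul] at hdiff
    have hSs00 : Ss = 0 := by
      rcases mul_eq_zero.mp hdiff.symm with h | h
      · exact absurd h hpa.ne'
      · exact h
    rw [hSs] at hSs00
    have h2 := (Finset.sum_eq_zero_iff_of_nonneg (fun g _ => by
      split_ifs
      · exact sq_nonneg _
      · exact le_refl _)).mp hSs00 g (Finset.mem_univ _)
    rw [if_pos hg] at h2
    have h3 : ‖χ g‖ = 0 := by
      exact pow_eq_zero_iff (two_ne_zero) |>.mp h2
    exact norm_eq_zero.mp h3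

/-- an irreducible character whose degree is divisible by `p ^ (a - 1)` exactly has height zero
in its block -/
theorem degree_le_of_defect_one [Finite G] {p : ℕ} [hp : Fact p.Prime]
    (hM : Cfsg.IsPModular p M) (B : Set (Cfsg.IrrCharacter G)) (hB : Cfsg.IsPBlock M B)
    (χ : Cfsg.IrrCharacter G) (hχ : χ ∈ B)
    (hval : (Cfsg.charDegree (χ : G → ℂ)).factorization p + 1 = (Nat.card G).factorization p)
    (ξ : Cfsg.IrrCharacter G) (hξ : ξ ∈ B) :
    (Cfsg.charDegree (χ : G → ℂ)).factorization p ≤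
      (Cfsg.charDegree (ξ : G → ℂ)).factorization p := by
  classical
  haveI := Fintype.ofFinite G
  apply degree_le_of_truncUnit hM B hB χ hχ _ ξ hξ
  obtain ⟨n, hn1, hn2, -⟩ := exists_truncInt p χ.2 χ.2
  obtain ⟨hpos, hle, hvan⟩ := truncInt_self_bounds p χ.2 n hn1
  have hd0 := charDegree_ne_zero_of_irr χ.2
  rw [hn2, ← charDegree_cast_of_isCharacter (IsIrrCharacter.isCharacter χ.2),
    mul_int_div_memLocalIdeal_iff hM _ _ n (not_dvd_ordCompl_card (G := G) p) hd0 hpos.ne']
  intro hlt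
  -- then `p ^ a ∣ n`
  have hdvd : (p : ℤ) ^ (Nat.card G).factorization p ∣ n := by
    rw [padicValInt_dvd_iff]
    right
    omega
  have hge : (p : ℤ) ^ (Nat.card G).factorization p ≤ n := Int.le_of_dvd hpos hdvd
  have heq : n = (p : ℤ) ^ (Nat.card G).factorization p := le_antisymm hle hge
  have hv := hvan heq
  obtain ⟨k, hk⟩ := generalized_vanish_dvd p
    (IsGeneralizedCharacter.of_isCharacter (IsIrrCharacter.isCharacter χ.2)) hv
  rw [← charDegree_cast_of_isCharacter (IsIrrCharacter.isCharacter χ.2)] at hk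
  have hk' : ((Cfsg.charDegree (χ : G → ℂ) : ℤ) : ℂ) =
      (((p ^ (Nat.card G).factorization p : ℕ) : ℤ) * k : ℤ) := by
    push_cast
    push_cast at hk
    exact hk
  have hk'' : (Cfsg.charDegree (χ : G → ℂ) : ℤ) =
      ((p ^ (Nat.card G).factorization p : ℕ) : ℤ) * k := by exact_mod_cast hk'
  have hdvd2 : p ^ (Nat.card G).factorization p ∣ Cfsg.charDegree (χ : G → ℂ) := by
    have : ((p ^ (Nat.card G).factorization p : ℕ) : ℤ) ∣ (Cfsg.charDegree (χ : G → ℂ) : ℤ) :=
      ⟨k, hk''⟩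
    exact_mod_cast this
  have := (Nat.Prime.pow_dvd_iff_le_factorization hp.out hd0).mp hdvd2
  omega

end Cfsg.Agent.Helper6
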