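import Mathlib
import Cfsg.Prelude.Def_Characters
import Cfsg.Prelude.Def_Blocks
import Cfsg.Agent.Helper6.BrauerFeitC

/-!
# Rows of contributions of arbitrary members of a block; heights are at most `d - 2` (S4710)
-/

set_option autoImplicit false
set_option linter.style.haveILetI false

namespace Cfsg.Agent.Helper6

open Module
open scoped ComplexConjugate

universe u

variable {G : Type u} [Group G] {M : Ideal Cfsg.AlgInt}

/-- Parseval for the scaled truncation of an irreducible character -/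
theorem truncInt_parseval [Fintype G] [Fintype (Cfsg.IrrCharacter G)] (p : ℕ) [hp : Fact p.Prime]
    (ψ : Cfsg.IrrCharacter G) (n : Cfsg.IrrCharacter G → ℤ)
    (hn : ∀ ξ : Cfsg.IrrCharacter G,
      Cfsg.classInner (truncScaled p (ψ : G → ℂ)) (ξ : G → ℂ) = n ξ) :
    ∑ ξ : Cfsg.IrrCharacter G, (n ξ) ^ 2 = (p : ℤ) ^ (Nat.card G).factorization p * n ψ := by
  classical
  obtain ⟨a, ha⟩ : ∃ a : ℕ, a = (Nat.card G).factorization p := ⟨_, rfl⟩
  rw [← ha]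
  obtain ⟨θ, hθ⟩ : ∃ θ : G → ℂ, θ = truncScaled p (ψ : G → ℂ) := ⟨_, rfl⟩
  have hθapp : ∀ x : G, θ x = if p ∣ orderOf x then (0 : ℂ) else
      ((p ^ a : ℕ) : ℂ) * (ψ : G → ℂ) x := by
    intro x
    rw [hθ, ha]
    rfl
  have hθcf : Cfsg.IsClassFunction G θ := by
    rw [hθ]
    exact IsGeneralizedCharacter.isClassFunction (truncated_irr_isGeneralizedCharacter p ψ.2)
  have hpars : Cfsg.classInner θ θ = ∑ ξ : Cfsg.IrrCharacter G, ((n ξ : ℤ) : ℂ) ^ 2 := by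
    have hexp := classFunction_expansion θ hθcf
    have h1 : Cfsg.classInner θ θ = Cfsg.classInner
        (∑ ξ : Cfsg.IrrCharacter G, Cfsg.classInner θ (ξ : G → ℂ) • (ξ : G → ℂ)) θ := by
      rw [← hexp]
    rw [h1, classInner_sum_left]
    apply Finset.sum_congr rfl
    intro ξ _
    rw [classInner_smul_left, classInner_conj_symm θ (ξ : G → ℂ), hθ, hn ξ, map_intCast,
      pow_two]
  have hdirect : Cfsg.classInner θ θ = ((p ^ a : ℕ) : ℂ) * ((n ψ : ℤ) : ℂ) := by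
    have h1 : ∑ g : G, θ g * conj (θ g) =
        ((p ^ a : ℕ) : ℂ) * ∑ g : G, θ g * conj ((ψ : G → ℂ) g) := by
      rw [Finset.mul_sum]
      apply Finset.sum_congr rfl
      intro x _
      rw [hθapp]
      split_ifs
      · simp
      · rw [map_mul, Complex.conj_natCast]
        ring
    rw [← hn ψ, ← hθ, classInner_def, classInner_def, h1]
    ring
  have h1 := hpars.symm.trans hdirect
  have h2 : ((∑ ξ : Cfsg.IrrCharacter G, (n ξ) ^ 2 : ℤ) : ℂ) = (((p : ℤ) ^ a * n ψ : ℤ) : ℂ) := by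
    push_cast
    rw [h1]
    push_cast
    rfl
  exact_mod_cast h2

/-- the row of contributions of an arbitrary member `ψ` of the block, divided by
`p ^ height ψ` -/
theorem exists_row_contributions [Finite G] {p : ℕ} [hp : Fact p.Prime]
    (hM : Cfsg.IsPModular p M) (B : Set (Cfsg.IrrCharacter G)) (hB : Cfsg.IsPBlock M B)
    (FB : Finset (Cfsg.IrrCharacter G)) (hmemFB : ∀ ξ, ξ ∈ FB ↔ ξ ∈ B)
    (ψ : Cfsg.IrrCharacter G) (hψ : ψ ∈ B) :
    Cfsg.blockHeight p B (ψ : G → ℂ) ≤ Cfsg.blockDefect p B ∧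
    ∃ c : Cfsg.IrrCharacter G → ℤ,
      (∀ ξ ∈ B, Cfsg.blockHeight p B (ξ : G → ℂ) = 0 → c ξ ≠ 0) ∧
      ∑ ξ ∈ FB, (c ξ) ^ 2 ≤
        (p : ℤ) ^ (Cfsg.blockDefect p B - Cfsg.blockHeight p B (ψ : G → ℂ)) * c ψ := by
  classical
  haveI := Fintype.ofFinite G
  haveI : Finite (Cfsg.IrrCharacter G) := irr_finite
  haveI : Fintype (Cfsg.IrrCharacter G) := Fintype.ofFinite _
  obtain ⟨a, ha⟩ : ∃ a : ℕ, a = (Nat.card G).factorization p := ⟨_, rfl⟩
  obtain ⟨S, hS⟩ : ∃ S : Set ℕ, S = (fun χ : Cfsg.IrrCharacter G =>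
      (Cfsg.charDegree (χ : G → ℂ)).factorization p) '' B := ⟨_, rfl⟩
  obtain ⟨e, he⟩ : ∃ e : ℕ, e = sInf S := ⟨_, rfl⟩
  have hheq : ∀ ξ : Cfsg.IrrCharacter G, Cfsg.blockHeight p B (ξ : G → ℂ) =
      (Cfsg.charDegree (ξ : G → ℂ)).factorization p - e := by
    intro ξ
    unfold Cfsg.blockHeight
    rw [← hS, ← he]
  obtain ⟨d, hd⟩ : ∃ d : ℕ, d = Cfsg.blockDefect p B := ⟨_, rfl⟩
  have hdae : d = a - e := by
    rw [hd]
    unfold Cfsg.blockDefect
    rw [← hS, ← he, ← ha]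
  obtain ⟨h, hh⟩ : ∃ h : ℕ, h = Cfsg.blockHeight p B (ψ : G → ℂ) := ⟨_, rfl⟩
  obtain ⟨v, hv⟩ : ∃ v : ℕ, v = (Cfsg.charDegree (ψ : G → ℂ)).factorization p := ⟨_, rfl⟩
  have hev : e ≤ v := by
    rw [he, hv]
    apply Nat.sInf_le
    rw [hS]
    exact ⟨ψ, hψ, rfl⟩
  have hva : v ≤ a := by
    rw [hv, ha]
    exact (Nat.factorization_le_iff_dvd (charDegree_ne_zero_of_irr ψ.2) Nat.card_pos.ne').mpr
      (charDegree_dvd_card ψ.2) p
  have hveh : v = e + h := by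
    rw [hh, hheq ψ, ← hv]
    omega
  rw [← hd, ← hh]
  have hhd : h ≤ d := by omega
  refine ⟨hhd, ?_⟩
  have hint : ∀ ξ : Cfsg.IrrCharacter G, ∃ n : ℤ,
      Cfsg.classInner (truncScaled p (ψ : G → ℂ)) (ξ : G → ℂ) = n ∧
      truncSum p (ξ : G → ℂ) (ψ : G → ℂ) =
        ((Nat.card G / p ^ (Nat.card G).factorization p : ℕ) : ℂ) * n := by
    intro ξ
    obtain ⟨n, h1, -, h3⟩ := exists_truncInt p ψ.2 ξ.2
    exact ⟨n, h1, h3⟩
  choose n hn1 hn3 using hint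
  have hmp := not_dvd_ordCompl_card (G := G) p
  have hm0 : ((Nat.card G / p ^ (Nat.card G).factorization p : ℕ) : ℂ) ≠ 0 := by
    intro h0
    apply hmp
    have : Nat.card G / p ^ (Nat.card G).factorization p = 0 := by exact_mod_cast h0
    rw [this]
    exact dvd_zero p
  have hdvd : ∀ ξ : Cfsg.IrrCharacter G, (p : ℤ) ^ v ∣ n ξ := by
    intro ξ
    rw [padicValInt_dvd_iff]
    by_cases h0 : n ξ = 0
    · left
      exact h0
    · right
      have hR := truncSum_div_memLocalRing hM.2.1 p (IsIrrCharacter.isCharacter ξ.2) ψ.2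
      rw [hn3 ξ, ← charDegree_cast_of_isCharacter (IsIrrCharacter.isCharacter ψ.2)] at hR
      have := mul_int_div_memLocalRing_imp hM _ _ (n ξ) hmp (charDegree_ne_zero_of_irr ψ.2) h0 hR
      rw [hv]
      exact this
  have hall := truncInt_parseval p ψ n hn1
  rw [← ha] at hall
  -- nonvanishing at characters of height zero
  have hnz : ∀ ξ ∈ B, Cfsg.blockHeight p B (ξ : G → ℂ) = 0 → n ξ ≠ 0 := by
    intro ξ hξ hξ0
    have hB' := (height_zero_iff_trunc hM B hB ξ hξ).2.mp hξ0 ψ hψ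
    obtain ⟨n', h1, h2, -⟩ := hB'
    obtain ⟨n'', g1, g3, -⟩ := exists_truncInt p ξ.2 ψ.2
    have e1 : n' = n'' := by
      have := h1.symm.trans g1
      exact_mod_cast this
    have e2 : n'' = n ξ := by
      have := g3.symm.trans (hn3 ξ)
      have := mul_left_cancel₀ hm0 this
      exact_mod_cast this
    rw [← e2, ← e1]
    exact h2
  choose c hc using hdvd
  refine ⟨c, ?_, ?_⟩
  · intro ξ hξ hξ0 h0
    apply hnz ξ hξ hξ0
    rw [hc ξ, h0, mul_zero]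
  · obtain ⟨P, hP⟩ : ∃ P : ℤ, P = (p : ℤ) ^ v := ⟨_, rfl⟩
    obtain ⟨Q, hQ⟩ : ∃ Q : ℤ, Q = (p : ℤ) ^ (d - h) := ⟨_, rfl⟩
    rw [← hP] at hc
    rw [← hQ]
    have hPQ : (p : ℤ) ^ a = P * Q := by
      rw [hP, hQ, ← pow_add]
      congr 1
      omega
    have hPpos : 0 < P := by
      rw [hP]
      have : (0 : ℤ) < (p : ℤ) := by exact_mod_cast hp.out.pos
      positivity
    have hsum : ∑ ξ : Cfsg.IrrCharacter G, (n ξ) ^ 2 =
        P ^ 2 * ∑ ξ : Cfsg.IrrCharacter G, (c ξ) ^ 2 := by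
      rw [Finset.mul_sum]
      apply Finset.sum_congr rfl
      intro ξ _
      rw [hc ξ]
      ring
    have hle : P ^ 2 * ∑ ξ ∈ FB, (c ξ) ^ 2 ≤ P ^ 2 * (Q * c ψ) := by
      have h1 : ∑ ξ ∈ FB, (c ξ) ^ 2 ≤ ∑ ξ : Cfsg.IrrCharacter G, (c ξ) ^ 2 := by
        apply Finset.sum_le_sum_of_subset_of_nonneg (Finset.subset_univ _)
        intro ξ _ _
        exact sq_nonneg _
      have h2 : P ^ 2 * ∑ ξ : Cfsg.IrrCharacter G, (c ξ) ^ 2 = P ^ 2 * (Q * c ψ) := by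
        rw [← hsum, hall, hPQ, hc ψ]
        ring
      calc P ^ 2 * ∑ ξ ∈ FB, (c ξ) ^ 2 ≤ P ^ 2 * ∑ ξ : Cfsg.IrrCharacter G, (c ξ) ^ 2 :=
            mul_le_mul_of_nonneg_left h1 (by positivity)
        _ = P ^ 2 * (Q * c ψ) := h2
    exact le_of_mul_le_mul_left hle (by positivity)

end Cfsg.Agent.Helper6
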