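import Mathlib
import Cfsg.Prelude.Def_Characters
import Cfsg.Prelude.Def_Blocks
import Cfsg.Prelude.Def_BlockRank
import Cfsg.Agent.Helper6.WeakOrth
import Cfsg.Agent.Helper6.DefectZeroBlock
import Cfsg.Agent.Helper6.BlockEquiv

/-!
# A block has as many ordinary as modular characters iff it has defect zero
-/

set_option autoImplicit false
set_option linter.style.haveILetI false

namespace Cfsg.Agent.Helper6

open Module
open scoped ComplexConjugate

universe u

variable {G : Type u} [Group G] {M : Ideal Cfsg.AlgInt}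

theorem pRegularPart_apply (p : ℕ) (χ : G → ℂ) (g : G) [Decidable (p ∣ orderOf g)] :
    Cfsg.pRegularPart p χ g = if p ∣ orderOf g then (0 : ℂ) else χ g := by
  unfold Cfsg.pRegularPart Cfsg.IsPRegular
  by_cases hg : p ∣ orderOf g
  · rw [if_pos hg, if_neg (not_not.mpr hg)]
  · rw [if_neg hg, if_pos hg]

/-- `blockDefect p B = 0` iff every member of `B` has degree divisible by the full power of `p`. -/
theorem blockDefect_eq_zero_iff [Finite G] (p : ℕ) [hp : Fact p.Prime]
    (B : Set (Cfsg.IrrCharacter G)) (hne : B.Nonempty) :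
    Cfsg.blockDefect p B = 0 ↔
      ∀ χ ∈ B, p ^ (Nat.card G).factorization p ∣ Cfsg.charDegree (χ : G → ℂ) := by
  have hSne : ((fun ξ : Cfsg.IrrCharacter G =>
      (Cfsg.charDegree (ξ : G → ℂ)).factorization p) '' B).Nonempty := hne.image _
  unfold Cfsg.blockDefect
  rw [Nat.sub_eq_zero_iff_le]
  constructor
  · intro h χ hχ
    have h1 : sInf ((fun ξ : Cfsg.IrrCharacter G =>
        (Cfsg.charDegree (ξ : G → ℂ)).factorization p) '' B) ≤
        (Cfsg.charDegree (χ : G → ℂ)).factorization p := Nat.sInf_le ⟨χ, hχ, rfl⟩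
    exact (pow_dvd_pow p (h.trans h1)).trans (Nat.ordProj_dvd _ p)
  · intro h
    apply le_csInf hSne
    rintro _ ⟨χ, hχ, rfl⟩
    obtain ⟨K, -, -, hdpos, -, -⟩ := exists_kernel_data χ.2
    exact (Nat.Prime.pow_dvd_iff_le_factorization hp.out hdpos.ne').mp (h χ hχ)

/-- If the full power of `p` divides the degree, `p` does not divide `|G| / χ(1)`. -/
theorem not_dvd_div_of_pow_dvd [Finite G] (p : ℕ) [hp : Fact p.Prime] (χ : Cfsg.IrrCharacter G)
    (h : p ^ (Nat.card G).factorization p ∣ Cfsg.charDegree (χ : G → ℂ)) :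
    ¬ p ∣ Nat.card G / Cfsg.charDegree (χ : G → ℂ) := by
  intro hdiv
  have hdvd := charDegree_dvd_card χ.2
  have hG : Nat.card G = Cfsg.charDegree (χ : G → ℂ) *
      (Nat.card G / Cfsg.charDegree (χ : G → ℂ)) := (Nat.mul_div_cancel' hdvd).symm
  have h1 : p ^ ((Nat.card G).factorization p + 1) ∣ Nat.card G := by
    have h2 : p ^ ((Nat.card G).factorization p + 1) ∣ Cfsg.charDegree (χ : G → ℂ) *
        (Nat.card G / Cfsg.charDegree (χ : G → ℂ)) := by
      rw [pow_succ]
      exact Nat.mul_dvd_mul h hdiv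
    exact h2.trans (dvd_of_eq hG.symm)
  exact Nat.pow_succ_factorization_not_dvd Nat.card_pos.ne' hp.out h1

/-- A block of defect zero is a singleton. -/
theorem eq_singleton_of_blockDefect_eq_zero [Finite G] (hM : M.IsMaximal) (p : ℕ)
    [hp : Fact p.Prime] (hpM : (p : Cfsg.AlgInt) ∈ M) (B : Set (Cfsg.IrrCharacter G))
    (hB : Cfsg.IsPBlock M B) (h : Cfsg.blockDefect p B = 0) (χ : Cfsg.IrrCharacter G)
    (hχ : χ ∈ B) : B = {χ} := by
  obtain ⟨χ₀, rfl⟩ := hB
  have h1 := (blockDefect_eq_zero_iff p _ ⟨χ, hχ⟩).mp h χ hχ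
  have h2 := (defect_zero_iff_singleton hM p hpM χ).mp (not_dvd_div_of_pow_dvd p χ h1)
  rw [← h2]
  exact blockOf_eq_of_sameBlock hM hχ

/-- If the truncations of the members of `B` are linearly independent, every member of `B`
vanishes on the `p`-singular elements. -/
theorem vanish_of_linearIndependent [Finite G] (hM : M.IsMaximal) (p : ℕ)
    [hp : Fact p.Prime] (hpM : (p : Cfsg.AlgInt) ∈ M) (B : Set (Cfsg.IrrCharacter G))
    (hB : Cfsg.IsPBlock M B)
    (hli : LinearIndependent ℂ (fun χ : B => Cfsg.pRegularPart p ((χ : Cfsg.IrrCharacter G) : G → ℂ)))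
    (χ : Cfsg.IrrCharacter G) (hχ : χ ∈ B) (y : G) (hy : p ∣ orderOf y) :
    (χ : G → ℂ) y = 0 := by
  classical
  haveI : Finite (Cfsg.IrrCharacter G) := irr_finite
  haveI : Fintype (Cfsg.IrrCharacter G) := Fintype.ofFinite _
  haveI : Fintype B := Fintype.ofFinite _
  rw [Fintype.linearIndependent_iff] at hli
  have h0 : ∑ ξ : B, conj (((ξ : Cfsg.IrrCharacter G) : G → ℂ) y) •
      Cfsg.pRegularPart p ((ξ : Cfsg.IrrCharacter G) : G → ℂ) = 0 := by
    funext x
    rw [Finset.sum_apply, Pi.zero_apply]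
    simp only [Pi.smul_apply, smul_eq_mul, pRegularPart_apply]
    by_cases hx : p ∣ orderOf x
    · simp [hx]
    · simp only [if_neg hx]
      have hw := weak_block_orthogonality hM p hpM B hB x y hx hy
      rw [finsum_mem_eq_sum_ite] at hw
      rw [← hw, ← Finset.sum_subtype (Finset.univ.filter (fun ξ : Cfsg.IrrCharacter G => ξ ∈ B))
        (by intro ξ; simp) (fun ξ => conj ((ξ : G → ℂ) y) * (ξ : G → ℂ) x), Finset.sum_filter]
      apply Finset.sum_congr rfl
      intro ξ _
      split_ifs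
      · rw [mul_comm]
      · rfl
  have h1 := hli _ h0 ⟨χ, hχ⟩
  simpa using h1

/-- **S4733.** -/
theorem rank_defect [Finite G] (hM : M.IsMaximal) (p : ℕ)
    [hp : Fact p.Prime] (hpM : (p : Cfsg.AlgInt) ∈ M) (B : Set (Cfsg.IrrCharacter G))
    (hB : Cfsg.IsPBlock M B) :
    Cfsg.blockRank p B ≤ Nat.card B ∧
      (Cfsg.blockDefect p B = 0 ↔ (Nat.card B = 1 ∧ Cfsg.blockRank p B = 1)) ∧
      (Cfsg.blockDefect p B = 0 ↔ Nat.card B = Cfsg.blockRank p B) := by
  classical
  haveI : Finite (Cfsg.IrrCharacter G) := irr_finite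
  haveI : Fintype (Cfsg.IrrCharacter G) := Fintype.ofFinite _
  haveI : Fintype B := Fintype.ofFinite _
  obtain ⟨χ₀, hχ₀⟩ := hB
  have hB' : Cfsg.IsPBlock M B := ⟨χ₀, hχ₀⟩
  have hχ₀B : χ₀ ∈ B := by
    rw [hχ₀]
    exact mem_blockOf_self hM χ₀
  -- the family
  set v : B → (G → ℂ) := fun χ => Cfsg.pRegularPart p ((χ : Cfsg.IrrCharacter G) : G → ℂ) with hv
  have hrange : Set.range v =
      (fun χ : Cfsg.IrrCharacter G => Cfsg.pRegularPart p (χ : G → ℂ)) '' B := by
    ext f
    constructor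
    · rintro ⟨χ, rfl⟩
      exact ⟨χ, χ.2, rfl⟩
    · rintro ⟨χ, hχ, rfl⟩
      exact ⟨⟨χ, hχ⟩, rfl⟩
  have hrank : Cfsg.blockRank p B = (Set.range v).finrank ℂ := by
    unfold Cfsg.blockRank Set.finrank
    rw [hrange]
  have hle : Cfsg.blockRank p B ≤ Nat.card B := by
    rw [hrank, Nat.card_eq_fintype_card]
    exact finrank_range_le_card v
  -- forward direction
  have hfwd : Cfsg.blockDefect p B = 0 → Nat.card B = 1 ∧ Cfsg.blockRank p B = 1 := by
    intro h
    have hsing := eq_singleton_of_blockDefect_eq_zero hM p hpM B hB' h χ₀ hχ₀B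
    constructor
    · rw [hsing]
      simp
    · unfold Cfsg.blockRank
      rw [hsing, Set.image_singleton]
      apply finrank_span_singleton
      intro h0
      have := congrFun h0 1
      rw [pRegularPart_apply, if_neg] at this
      · exact IsIrrCharacter.apply_one_ne_zero χ₀.2 this
      · rw [orderOf_one]
        exact hp.out.one_lt.ne' ∘ Nat.dvd_one.mp
  have hbwd : Nat.card B = Cfsg.blockRank p B → Cfsg.blockDefect p B = 0 := by
    intro h
    have hli : LinearIndependent ℂ v := by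
      rw [linearIndependent_iff_card_eq_finrank_span, ← hrank, ← h, Nat.card_eq_fintype_card]
    rw [blockDefect_eq_zero_iff p B ⟨χ₀, hχ₀B⟩]
    intro χ hχ
    obtain ⟨K, -, -, -, hdeg, -⟩ := exists_kernel_data χ.2
    exact pow_factorization_dvd_of_vanish p (IsIrrCharacter.isCharacter χ.2) _ hdeg
      (vanish_of_linearIndependent hM p hpM B hB' hli χ hχ)
  refine ⟨hle, ⟨hfwd, ?_⟩, ⟨?_, hbwd⟩⟩
  · rintro ⟨h1, h2⟩
    exact hbwd (h1.trans h2.symm)
  · intro h
    obtain ⟨h1, h2⟩ := hfwd h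
    exact h1.trans h2.symm

end Cfsg.Agent.Helper6
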