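import Mathlib
import Cfsg.Prelude.Def_Characters
import Cfsg.Prelude.Def_Blocks
import Cfsg.Prelude.Def_BlockRank
import Cfsg.Agent.Helper6.HeightZeroTrunc
import Cfsg.Agent.Helper6.BrauerFeitC
import Cfsg.Agent.Helper6.BrauerFeitD
import Cfsg.Agent.Helper6.BlockOrth
import Cfsg.Agent.Helper6.RankDefect
import Cfsg.Agent.Helper6.DadeIso

/-!
# The integers `p^a ⟨χ°, ξ°⟩` attached to pairs of irreducible characters (contributions)
-/

set_option autoImplicit false
set_option linter.style.haveILetI false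

namespace Cfsg.Agent.Helper6

open Module
open scoped ComplexConjugate

universe u

variable {G : Type u} [Group G] {M : Ideal Cfsg.AlgInt}

/-- the integer `p^a ⟨χ°, ξ⟩` -/
noncomputable def truncInt [Fintype G] (p : ℕ) [hp : Fact p.Prime] (χ ξ : Cfsg.IrrCharacter G) :
    ℤ :=
  Classical.choose (exists_truncInt p χ.2 ξ.2)

theorem truncInt_spec [Fintype G] (p : ℕ) [hp : Fact p.Prime] (χ ξ : Cfsg.IrrCharacter G) :
    Cfsg.classInner (truncScaled p (χ : G → ℂ)) (ξ : G → ℂ) = (truncInt p χ ξ : ℂ) :=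
  (Classical.choose_spec (exists_truncInt p χ.2 ξ.2)).1

theorem truncSum_eq_truncInt [Fintype G] (p : ℕ) [hp : Fact p.Prime]
    (χ ξ : Cfsg.IrrCharacter G) :
    truncSum p (χ : G → ℂ) (ξ : G → ℂ) =
      ((Nat.card G / p ^ (Nat.card G).factorization p : ℕ) : ℂ) * (truncInt p χ ξ : ℂ) :=
  (Classical.choose_spec (exists_truncInt p χ.2 ξ.2)).2.1

theorem truncSum_eq_truncInt' [Fintype G] (p : ℕ) [hp : Fact p.Prime]
    (χ ξ : Cfsg.IrrCharacter G) :
    truncSum p (ξ : G → ℂ) (χ : G → ℂ) =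
      ((Nat.card G / p ^ (Nat.card G).factorization p : ℕ) : ℂ) * (truncInt p χ ξ : ℂ) :=
  (Classical.choose_spec (exists_truncInt p χ.2 ξ.2)).2.2

theorem ordCompl_card_cast_ne_zero [Finite G] (p : ℕ) [hp : Fact p.Prime] :
    ((Nat.card G / p ^ (Nat.card G).factorization p : ℕ) : ℂ) ≠ 0 := by
  have h1 : 0 < Nat.card G / p ^ (Nat.card G).factorization p :=
    Nat.div_pos (Nat.le_of_dvd Nat.card_pos (Nat.ordProj_dvd _ _))
      (pow_pos hp.out.pos _)
  exact_mod_cast h1.ne'

theorem truncInt_symm [Fintype G] (p : ℕ) [hp : Fact p.Prime] (χ ξ : Cfsg.IrrCharacter G) :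
    truncInt p χ ξ = truncInt p ξ χ := by
  have h1 := truncSum_eq_truncInt p χ ξ
  have h2 := truncSum_eq_truncInt' p ξ χ
  rw [h1] at h2
  have h3 := mul_left_cancel₀ (ordCompl_card_cast_ne_zero p) h2
  exact_mod_cast h3

theorem truncInt_self_pos [Fintype G] (p : ℕ) [hp : Fact p.Prime] (χ : Cfsg.IrrCharacter G) :
    0 < truncInt p χ χ :=
  (truncInt_self_bounds p χ.2 _ (truncInt_spec p χ χ)).1

/-- the inner product of the truncations -/
theorem classInner_pRegularPart [Fintype G] (p : ℕ) [hp : Fact p.Prime]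
    (χ ξ : Cfsg.IrrCharacter G) :
    ((p ^ (Nat.card G).factorization p : ℕ) : ℂ) *
      Cfsg.classInner (Cfsg.pRegularPart p (χ : G → ℂ)) (Cfsg.pRegularPart p (ξ : G → ℂ)) =
      (truncInt p χ ξ : ℂ) := by
  classical
  rw [← truncInt_spec, classInner_def, classInner_def, mul_left_comm, Finset.mul_sum]
  congr 1
  apply Finset.sum_congr rfl
  intro x _
  rw [pRegularPart_apply, pRegularPart_apply]
  unfold truncScaled
  split_ifs
  · simp
  · ring

/-- the contribution vanishes across different blocks -/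
theorem truncInt_eq_zero_of_not_mem [Fintype G] {p : ℕ} [hp : Fact p.Prime]
    (hM : Cfsg.IsPModular p M) (B : Set (Cfsg.IrrCharacter G)) (hB : Cfsg.IsPBlock M B)
    (χ ξ : Cfsg.IrrCharacter G) (hχ : χ ∈ B) (hξ : ξ ∉ B) : truncInt p χ ξ = 0 := by
  classical
  have h1 := sum_pregular_eq_zero hM.2.1 p hM.2.2 B hB χ ξ hχ hξ
  have h2 : Cfsg.classInner (truncScaled p (χ : G → ℂ)) (ξ : G → ℂ) = 0 := by
    rw [classInner_def]
    have : ∑ g : G, truncScaled p (χ : G → ℂ) g * conj ((ξ : G → ℂ) g) =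
        ((p ^ (Nat.card G).factorization p : ℕ) : ℂ) *
          ∑ x : G, (if p ∣ orderOf x then (0 : ℂ) else
            (χ : G → ℂ) x * conj ((ξ : G → ℂ) x)) := by
      rw [Finset.mul_sum]
      apply Finset.sum_congr rfl
      intro x _
      unfold truncScaled
      split_ifs
      · simp
      · ring
    rw [this, h1, mul_zero, mul_zero]
  rw [truncInt_spec] at h2
  exact_mod_cast h2

/-- Parseval inside a block -/
theorem truncInt_parseval_block [Fintype G] [Fintype (Cfsg.IrrCharacter G)] {p : ℕ}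
    [hp : Fact p.Prime] (hM : Cfsg.IsPModular p M) (B : Set (Cfsg.IrrCharacter G))
    (hB : Cfsg.IsPBlock M B) [DecidablePred (· ∈ B)] (χ : Cfsg.IrrCharacter G) (hχ : χ ∈ B) :
    ∑ ξ ∈ Finset.univ.filter (· ∈ B), (truncInt p χ ξ) ^ 2 =
      (p : ℤ) ^ (Nat.card G).factorization p * truncInt p χ χ := by
  rw [← truncInt_parseval p χ (fun ξ => truncInt p χ ξ) (fun ξ => truncInt_spec p χ ξ),
    Finset.sum_filter]
  apply Finset.sum_congr rfl
  intro ξ _
  split_ifs with hξ
  · rfl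
  · rw [truncInt_eq_zero_of_not_mem hM B hB χ ξ hχ hξ]
    ring

/-- the least `p`-adic valuation of the degrees in a block -/
theorem sub_blockDefect_le [Finite G] (p : ℕ) (B : Set (Cfsg.IrrCharacter G))
    (ξ : Cfsg.IrrCharacter G) (hξ : ξ ∈ B) :
    (Nat.card G).factorization p - Cfsg.blockDefect p B ≤
      (Cfsg.charDegree (ξ : G → ℂ)).factorization p := by
  unfold Cfsg.blockDefect
  have h1 : sInf ((fun χ : Cfsg.IrrCharacter G =>
      (Cfsg.charDegree (χ : G → ℂ)).factorization p) '' B) ≤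
      (Cfsg.charDegree (ξ : G → ℂ)).factorization p := Nat.sInf_le ⟨ξ, hξ, rfl⟩
  omega

/-- contributions are divisible by `p^(a-d)` -/
theorem pow_dvd_truncInt [Fintype G] {p : ℕ} [hp : Fact p.Prime]
    (hM : Cfsg.IsPModular p M) (B : Set (Cfsg.IrrCharacter G))
    (χ ξ : Cfsg.IrrCharacter G) (hξ : ξ ∈ B) :
    (p : ℤ) ^ ((Nat.card G).factorization p - Cfsg.blockDefect p B) ∣ truncInt p χ ξ := by
  by_cases h0 : truncInt p χ ξ = 0
  · rw [h0]
    exact dvd_zero _
  · have h1 := truncSum_div_memLocalRing hM.2.1 p (IsIrrCharacter.isCharacter χ.2) ξ.2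
    rw [truncSum_eq_truncInt, ← charDegree_cast_of_isCharacter (IsIrrCharacter.isCharacter ξ.2)] at h1
    have h2 := mul_int_div_memLocalRing_imp hM _ _ _ (not_dvd_ordCompl_card p)
      (charDegree_ne_zero_of_irr ξ.2) h0 h1
    rw [padicValInt_dvd_iff]
    right
    exact (sub_blockDefect_le p B ξ hξ).trans h2

end Cfsg.Agent.Helper6
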