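import Mathlib
import Cfsg.Prelude.Def_Characters
import Cfsg.Prelude.Def_Blocks
import Cfsg.Agent.Helper6.BrauerFeitD

/-!
# Heights are at most `d - 2`; blocks with characters of positive height (S4710)
-/

set_option autoImplicit false
set_option linter.style.haveILetI false

namespace Cfsg.Agent.Helper6

open Module
open scoped ComplexConjugate

universe u

variable {G : Type u} [Group G] {M : Ideal Cfsg.AlgInt}

/-- heights are zero for `d ≤ 1` and at most `d - 2` for `d ≥ 2` -/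
theorem blockHeight_le_sub_two [Finite G] {p : ℕ} [hp : Fact p.Prime]
    (hM : Cfsg.IsPModular p M) (B : Set (Cfsg.IrrCharacter G)) (hB : Cfsg.IsPBlock M B)
    (χ : Cfsg.IrrCharacter G) (hχ : χ ∈ B) :
    (Cfsg.blockDefect p B ≤ 1 → Cfsg.blockHeight p B (χ : G → ℂ) = 0) ∧
    (2 ≤ Cfsg.blockDefect p B →
      Cfsg.blockHeight p B (χ : G → ℂ) ≤ Cfsg.blockDefect p B - 2) := by
  classical
  obtain ⟨a, ha⟩ : ∃ a : ℕ, a = (Nat.card G).factorization p := ⟨_, rfl⟩
  obtain ⟨S, hS⟩ : ∃ S : Set ℕ, S = (fun χ : Cfsg.IrrCharacter G =>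
      (Cfsg.charDegree (χ : G → ℂ)).factorization p) '' B := ⟨_, rfl⟩
  obtain ⟨e, he⟩ : ∃ e : ℕ, e = sInf S := ⟨_, rfl⟩
  have hne : S.Nonempty := by
    rw [hS]
    exact ⟨_, χ, hχ, rfl⟩
  obtain ⟨v, hv⟩ : ∃ v : ℕ, v = (Cfsg.charDegree (χ : G → ℂ)).factorization p := ⟨_, rfl⟩
  have hh : Cfsg.blockHeight p B (χ : G → ℂ) = v - e := by
    unfold Cfsg.blockHeight
    rw [← hS, ← he, ← hv]
  have hd : Cfsg.blockDefect p B = a - e := by
    unfold Cfsg.blockDefect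
    rw [← hS, ← he, ← ha]
  rw [hh, hd]
  have hev : e ≤ v := by
    rw [he, hv]
    apply Nat.sInf_le
    rw [hS]
    exact ⟨χ, hχ, rfl⟩
  have hva : v ≤ a := by
    rw [hv, ha]
    exact (Nat.factorization_le_iff_dvd (charDegree_ne_zero_of_irr χ.2) Nat.card_pos.ne').mpr
      (charDegree_dvd_card χ.2) p
  have hmin : (∀ ξ ∈ B, v ≤ (Cfsg.charDegree (ξ : G → ℂ)).factorization p) → v ≤ e := by
    intro h
    rw [he]
    apply le_csInf hne
    rw [hS]
    rintro _ ⟨ξ, hξ, rfl⟩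
    exact h ξ hξ
  rcases Nat.lt_or_ge (v + 1) a with hlt | hge
  · constructor
    · intro h1
      omega
    · intro _
      omega
  · have hve : v ≤ e := by
      rcases Nat.eq_or_lt_of_le hge with heq | hlt2
      · -- `v + 1 = a`
        apply hmin
        intro ξ hξ
        rw [hv]
        exact degree_le_of_defect_one hM B hB χ hχ (by rw [← hv, ← ha]; exact heq.symm) ξ hξ
      · -- `v = a`
        have hva' : v = a := by omega
        apply hmin
        intro ξ hξ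
        have hdvd := charDegree_dvd_card χ.2
        have hd0 := charDegree_ne_zero_of_irr χ.2
        have hq0 : Nat.card G / Cfsg.charDegree (χ : G → ℂ) ≠ 0 := by
          intro h0
          have := Nat.div_mul_cancel hdvd
          rw [h0, zero_mul] at this
          exact Nat.card_pos.ne' this.symm
        have hnd : ¬ p ∣ Nat.card G / Cfsg.charDegree (χ : G → ℂ) := by
          intro h
          have h1 : (Nat.card G / Cfsg.charDegree (χ : G → ℂ)).factorization p = 0 := by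
            rw [Nat.factorization_div hdvd, Finsupp.tsub_apply, ← ha, ← hv, hva', Nat.sub_self]
          have := (Nat.Prime.dvd_iff_one_le_factorization hp.out hq0).mp h
          omega
        have hsing := blockOf_eq_singleton_of_not_dvd hM.2.1 p hp.out hM.2.2 χ hnd
        have hBeq := eq_blockOf_of_mem hM.2.1 B hB χ hχ
        rw [hBeq, hsing] at hξ
        rw [Set.mem_singleton_iff.mp hξ, ← hv]
    constructor
    · intro _
      omega
    · intro h2
      omega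

open Classical in
/-- a block containing a character of positive height has at most `p ^ (2 d - 2) / 2`
characters -/
theorem two_card_le_of_pos_height [Finite G] {p : ℕ} [hp : Fact p.Prime]
    (hM : Cfsg.IsPModular p M) (B : Set (Cfsg.IrrCharacter G)) (hB : Cfsg.IsPBlock M B)
    (ψ : Cfsg.IrrCharacter G) (hψ : ψ ∈ B) (hpos : 0 < Cfsg.blockHeight p B (ψ : G → ℂ)) :
    2 * Nat.card B ≤ p ^ (2 * Cfsg.blockDefect p B - 2) := by
  classical
  haveI : Finite (Cfsg.IrrCharacter G) := irr_finite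
  haveI : Fintype (Cfsg.IrrCharacter G) := Fintype.ofFinite _
  obtain ⟨FB, hFB⟩ : ∃ FB : Finset (Cfsg.IrrCharacter G),
      FB = Finset.univ.filter (fun ξ => ξ ∈ B) := ⟨_, rfl⟩
  have hmemFB : ∀ ξ, ξ ∈ FB ↔ ξ ∈ B := by
    intro ξ
    rw [hFB, Finset.mem_filter]
    simp
  have hBset : B = (FB : Set (Cfsg.IrrCharacter G)) := by
    ext ξ
    rw [Finset.mem_coe, hmemFB]
  have hcardB : Nat.card B = FB.card := by
    rw [Nat.card_eq_fintype_card, Fintype.card_subtype, hFB]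
  obtain ⟨d, hd⟩ : ∃ d : ℕ, d = Cfsg.blockDefect p B := ⟨_, rfl⟩
  obtain ⟨h, hh⟩ : ∃ h : ℕ, h = Cfsg.blockHeight p B (ψ : G → ℂ) := ⟨_, rfl⟩
  have hBF := brauer_feit_heights hM B hB
  rw [finsum_mem_congr hBset (fun x _ => rfl), finsum_mem_coe_finset] at hBF
  obtain ⟨hhd, c, hcnz, hcsum⟩ := exists_row_contributions hM B hB FB hmemFB ψ hψ
  obtain ⟨h1, h2⟩ := blockHeight_le_sub_two hM B hB ψ hψ
  rw [← hd, ← hh] at h1 h2 hhd hcsum
  rw [← hd] at hBF ⊢
  rw [← hh] at hpos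
  have hd3 : h + 2 ≤ d := by
    rcases Nat.lt_or_ge d 2 with hlt | hge
    · have := h1 (by omega)
      omega
    · have := h2 hge
      omega
  rw [hcardB]
  obtain ⟨Z, hZ⟩ : ∃ Z : Finset (Cfsg.IrrCharacter G),
      Z = FB.filter (fun ξ : Cfsg.IrrCharacter G => Cfsg.blockHeight p B (ξ : G → ℂ) = 0) := ⟨_, rfl⟩
  obtain ⟨W, hW⟩ : ∃ W : Finset (Cfsg.IrrCharacter G),
      W = FB.filter (fun ξ : Cfsg.IrrCharacter G => ¬ Cfsg.blockHeight p B (ξ : G → ℂ) = 0) := ⟨_, rfl⟩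
  have hcard : Z.card + W.card = FB.card := by
    rw [hZ, hW]
    exact Finset.card_filter_add_card_filter_not _
  have hψW : ψ ∈ W := by
    rw [hW, Finset.mem_filter]
    exact ⟨(hmemFB ψ).mpr hψ, by rw [← hh]; omega⟩
  have hp2 : 2 ≤ p := hp.out.two_le
  -- (f1)
  obtain ⟨N, hN⟩ : ∃ N : ℤ, N = (p : ℤ) ^ (d - h) := ⟨_, rfl⟩
  rw [← hN] at hcsum
  have hf1 : (Z.card : ℤ) + (c ψ) ^ 2 ≤ N * c ψ := by
    have hsplit : ∑ ξ ∈ FB, (c ξ) ^ 2 = ∑ ξ ∈ Z, (c ξ) ^ 2 + ∑ ξ ∈ W, (c ξ) ^ 2 := by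
      rw [hZ, hW]
      exact (Finset.sum_filter_add_sum_filter_not FB _ _).symm
    have hZle : (Z.card : ℤ) ≤ ∑ ξ ∈ Z, (c ξ) ^ 2 := by
      rw [Finset.card_eq_sum_ones, Nat.cast_sum]
      apply Finset.sum_le_sum
      intro ξ hξ
      rw [hZ, Finset.mem_filter] at hξ
      have h0 := hcnz ξ ((hmemFB ξ).mp hξ.1) hξ.2
      have h3 : (c ξ) ^ 2 ≠ 0 := pow_ne_zero 2 h0
      have := sq_nonneg (c ξ)
      push_cast
      omega
    have hWle : (c ψ) ^ 2 ≤ ∑ ξ ∈ W, (c ξ) ^ 2 :=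
      Finset.single_le_sum (f := fun ξ => (c ξ) ^ 2) (fun ξ _ => sq_nonneg _) hψW
    linarith
  have hf1' : 4 * (Z.card : ℤ) ≤ N ^ 2 := by
    nlinarith [sq_nonneg (N - 2 * c ψ)]
  obtain ⟨X, hX⟩ : ∃ X : ℕ, X = p ^ (2 * d - 2) := ⟨_, rfl⟩
  rw [← hX]
  have hNX : N ^ 2 ≤ (X : ℤ) := by
    rw [hN, hX, ← pow_mul]
    push_cast
    apply pow_le_pow_right₀
    · exact_mod_cast hp.out.one_le
    · omega
  -- (f2)
  have hf2 : Z.card + p ^ 2 * W.card ≤ ∑ ξ ∈ FB, p ^ (2 * Cfsg.blockHeight p B (ξ : G → ℂ)) := by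
    have hsplit : ∑ ξ ∈ FB, p ^ (2 * Cfsg.blockHeight p B (ξ : G → ℂ)) =
        ∑ ξ ∈ Z, p ^ (2 * Cfsg.blockHeight p B (ξ : G → ℂ)) +
          ∑ ξ ∈ W, p ^ (2 * Cfsg.blockHeight p B (ξ : G → ℂ)) := by
      rw [hZ, hW]
      exact (Finset.sum_filter_add_sum_filter_not FB _ _).symm
    rw [hsplit]
    apply add_le_add
    · rw [Finset.card_eq_sum_ones]
      apply Finset.sum_le_sum
      intro ξ hξ
      rw [hZ, Finset.mem_filter] at hξ
      rw [hξ.2, mul_zero, pow_zero]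
    · rw [mul_comm, ← smul_eq_mul, ← Finset.sum_const]
      apply Finset.sum_le_sum
      intro ξ hξ
      rw [hW, Finset.mem_filter] at hξ
      apply Nat.pow_le_pow_right hp.out.pos
      have := hξ.2
      omega
  have hpd : (p ^ d) ^ 2 = p ^ 2 * X := by
    rw [hX, ← pow_mul, ← pow_add]
    congr 1
    omega
  have hf2' : 4 * Z.card + 4 * (p ^ 2 * W.card) ≤ p ^ 2 * X + 4 := by
    have h3 := le_trans hf2 hBF
    have h4 := Nat.div_mul_le_self ((p ^ d) ^ 2) 4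
    rw [hpd] at h3 h4
    omega
  have hX4 : 4 ≤ X := by
    rw [hX]
    calc 4 = 2 ^ 2 := by norm_num
      _ ≤ p ^ 2 := Nat.pow_le_pow_left hp2 2
      _ ≤ p ^ (2 * d - 2) := Nat.pow_le_pow_right hp.out.pos (by omega)
  have hf1'' : 4 * Z.card ≤ X := by
    have := le_trans hf1' hNX
    exact_mod_cast this
  rw [← hcard]
  obtain ⟨q, hq⟩ : ∃ q : ℕ, q = p ^ 2 := ⟨_, rfl⟩
  rw [← hq] at hf2'
  have hq1 : 1 ≤ q := by
    rw [hq]
    exact Nat.one_le_pow _ _ hp.out.pos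
  have hkey : q * (4 * (Z.card + W.card)) ≤ q * (2 * X) := by
    obtain ⟨q', rfl⟩ : ∃ q' : ℕ, q = q' + 1 := ⟨q - 1, by omega⟩
    nlinarith [Nat.zero_le (q' * (X - 4 * Z.card)), Nat.sub_add_cancel hf1'',
      Nat.mul_le_mul_left q' hf1'']
  have := Nat.le_of_mul_le_mul_left hkey (by omega)
  omega

end Cfsg.Agent.Helper6
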