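import Mathlib
import Cfsg.Prelude.Def_Characters
import Cfsg.Prelude.Def_Blocks
import Cfsg.Prelude.Def_BlockRank
import Cfsg.Prelude.Def_Transfer
import Cfsg.Agent.Helper6.ConjChar
import Cfsg.Agent.Helper6.OsimaSupport
import Cfsg.Agent.Helper6.PrincipalSolv
import Cfsg.Agent.Helper6.RepEigen
import Cfsg.Agent.Helper6.BlockPart

/-!
# The common kernel of a block, and blocks of `p`-regular rank one
-/

set_option autoImplicit false
set_option linter.style.haveILetI false

namespace Cfsg.Agent.Helper6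

open Module
open scoped ComplexConjugate

universe u

variable {G : Type u} [Group G] {M : Ideal Cfsg.AlgInt}

/-- an irreducible character takes its degree exactly on the kernel of a representation -/
theorem exists_rep_kernel [Finite G] (χ : Cfsg.IrrCharacter G) :
    ∃ (n : ℕ) (ρ : Representation ℂ G (Fin n → ℂ)),
      ∀ g : G, (χ : G → ℂ) g = (χ : G → ℂ) 1 ↔ ρ g = LinearMap.id := by
  obtain ⟨n, ρ, _, hρ⟩ := χ.2
  refine ⟨n, ρ, fun g => ?_⟩
  rw [← hρ, Representation.char_one]
  exact char_eq_finrank_iff ρ g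

/-- the common kernel of a set of irreducible characters -/
def commonKernel [Finite G] (B : Set (Cfsg.IrrCharacter G)) : Subgroup G where
  carrier := {g | ∀ χ ∈ B, (χ : G → ℂ) g = (χ : G → ℂ) 1}
  one_mem' := fun _ _ => rfl
  mul_mem' := by
    intro a b ha hb χ hχ
    obtain ⟨n, ρ, h⟩ := exists_rep_kernel χ
    rw [h]
    have h1 := (h a).mp (ha χ hχ)
    have h2 := (h b).mp (hb χ hχ)
    rw [map_mul, h1, h2]
    rfl
  inv_mem' := by
    intro a ha χ hχ
    obtain ⟨n, ρ, h⟩ := exists_rep_kernel χ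
    rw [h]
    have h1 := (h a).mp (ha χ hχ)
    have h2 : ρ a⁻¹ * ρ a = 1 := by rw [← map_mul, inv_mul_cancel, map_one]
    rw [h1] at h2
    have h3 : ρ a⁻¹ * LinearMap.id = ρ a⁻¹ := mul_one _
    rw [← h3, h2]
    rfl

theorem mem_commonKernel [Finite G] (B : Set (Cfsg.IrrCharacter G)) (g : G) :
    g ∈ commonKernel B ↔ ∀ χ ∈ B, (χ : G → ℂ) g = (χ : G → ℂ) 1 := Iff.rfl

instance commonKernel_normal [Finite G] (B : Set (Cfsg.IrrCharacter G)) :
    (commonKernel B).Normal := by
  constructor
  intro n hn g χ hχ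
  rw [IsCharacter.isClassFunction (IsIrrCharacter.isCharacter χ.2)]
  exact hn χ hχ

/-- the idempotent coefficient at `1` of a nonempty set of irreducible characters is nonzero -/
theorem blockCoeff_one_ne_zero [Finite G] (B : Set (Cfsg.IrrCharacter G)) (χ₀ : Cfsg.IrrCharacter G)
    (hχ₀ : χ₀ ∈ B) : Cfsg.blockCoeff B 1 ≠ 0 := by
  classical
  haveI : Finite (Cfsg.IrrCharacter G) := irr_finite
  haveI : Fintype (Cfsg.IrrCharacter G) := Fintype.ofFinite _
  unfold Cfsg.blockCoeff
  rw [finsum_mem_eq_sum_ite]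
  have hcard : (Nat.card G : ℂ) ≠ 0 := by
    exact_mod_cast (Nat.card_pos (α := G)).ne'
  apply mul_ne_zero (inv_ne_zero hcard)
  have h1 : ∑ χ : Cfsg.IrrCharacter G,
      (if χ ∈ B then (χ : G → ℂ) 1 * conj ((χ : G → ℂ) 1) else 0) =
      ((∑ χ : Cfsg.IrrCharacter G,
        if χ ∈ B then Cfsg.charDegree (χ : G → ℂ) ^ 2 else 0 : ℕ) : ℂ) := by
    push_cast
    apply Finset.sum_congr rfl
    intro χ _
    by_cases hχ : χ ∈ B
    · rw [if_pos hχ, if_pos hχ,
        ← charDegree_cast_of_isCharacter (IsIrrCharacter.isCharacter χ.2)]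
      simp [pow_two]
    · rw [if_neg hχ, if_neg hχ]
  rw [h1]
  have h2 : 0 < ∑ χ : Cfsg.IrrCharacter G,
      if χ ∈ B then Cfsg.charDegree (χ : G → ℂ) ^ 2 else 0 := by
    apply Finset.sum_pos'
    · intro χ _
      exact Nat.zero_le _
    · refine ⟨χ₀, Finset.mem_univ _, ?_⟩
      rw [if_pos hχ₀]
      have h3 : Cfsg.charDegree (χ₀ : G → ℂ) ≠ 0 := by
        intro h0
        have := charDegree_cast_of_isCharacter (IsIrrCharacter.isCharacter χ₀.2)
        rw [h0, Nat.cast_zero] at this
        exact IsIrrCharacter.apply_one_ne_zero χ₀.2 this.symm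
      positivity
  exact_mod_cast h2.ne'

/-- **the common kernel of a block is a `p'`-group** -/
theorem not_dvd_card_commonKernel [Finite G] {p : ℕ} [hp : Fact p.Prime]
    (hM : Cfsg.IsPModular p M) (B : Set (Cfsg.IrrCharacter G)) (hB : Cfsg.IsPBlock M B) :
    ¬ p ∣ Nat.card (commonKernel B) := by
  classical
  intro hdiv
  obtain ⟨k, hk⟩ := exists_prime_orderOf_dvd_card' p hdiv
  have hsing : p ∣ orderOf (k : G) := by
    rw [Subgroup.orderOf_coe, hk]
  have h0 := blockCoeff_eq_zero_of_singular hM.2.1 p hM.2.2 B hB (k : G) hsing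
  obtain ⟨χ₀, rfl⟩ := hB
  have hne := blockCoeff_one_ne_zero (Cfsg.blockOf M (χ₀ : G → ℂ)) χ₀ (mem_blockOf_self hM.2.1 χ₀)
  apply hne
  rw [← h0]
  unfold Cfsg.blockCoeff
  congr 1
  apply finsum_congr
  intro χ
  apply finsum_congr
  intro hχ
  rw [k.2 χ hχ]

/-- `p`-regular elements lie in a normal `p`-complement -/
theorem mem_of_isPRegular_of_isComplement' [Finite G] {p : ℕ} [hp : Fact p.Prime]
    (P : Sylow p G) (N : Subgroup G) [hNn : N.Normal] (hcomp : N.IsComplement' (P : Subgroup G))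
    (x : G) (hx : Cfsg.IsPRegular p x) : x ∈ N := by
  have hidx : N.index = Nat.card (P : Subgroup G) := hcomp.symm.index_eq_card
  obtain ⟨k, hk⟩ := (IsPGroup.iff_card.mp P.isPGroup')
  have hxpow : x ^ (p ^ k) ∈ N := by
    rw [← QuotientGroup.eq_one_iff, QuotientGroup.mk_pow]
    have h1 : Nat.card (G ⧸ N) = p ^ k := by
      rw [← Subgroup.index_eq_card, hidx, hk]
    rw [← h1]
    exact pow_card_eq_one'
  have hcop : (p ^ k).Coprime (orderOf x) := by
    apply Nat.Coprime.pow_left
    exact (Nat.Prime.coprime_iff_not_dvd hp.out).mpr hx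
  obtain ⟨m, hm⟩ := exists_pow_eq_self_of_coprime hcop
  rw [← hm]
  exact N.pow_mem hxpow m

/-- the order of a normal `p`-complement is prime to `p` -/
theorem not_dvd_card_of_isComplement' [Finite G] {p : ℕ} [hp : Fact p.Prime]
    (P : Sylow p G) (N : Subgroup G) (hcomp : N.IsComplement' (P : Subgroup G)) :
    ¬ p ∣ Nat.card N := by
  intro hdiv
  have hcard : Nat.card N * Nat.card (P : Subgroup G) = Nat.card G := hcomp.card_mul_card
  have hPc : Nat.card (P : Subgroup G) = p ^ (Nat.card G).factorization p :=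
    P.card_eq_multiplicity
  have h2 : p ^ ((Nat.card G).factorization p + 1) ∣ Nat.card G := by
    have h2' : p * p ^ (Nat.card G).factorization p ∣
        Nat.card N * Nat.card (P : Subgroup G) := by
      rw [hPc]
      exact Nat.mul_dvd_mul hdiv (dvd_refl _)
    rw [hcard] at h2'
    rwa [pow_succ, mul_comm]
  have h3 := (Nat.Prime.pow_dvd_iff_le_factorization hp.out
    (Nat.card_pos (α := G)).ne').mp h2
  omega

/-- a normal `p'`-subgroup containing all `p`-regular elements is a normal `p`-complement -/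
theorem hasNormalPComplement_of_pRegular_mem [Finite G] {p : ℕ} [hp : Fact p.Prime]
    (N : Subgroup G) [hNn : N.Normal] (hN : ¬ p ∣ Nat.card N)
    (hreg : ∀ x : G, Cfsg.IsPRegular p x → x ∈ N) : Cfsg.HasNormalPComplement p G := by
  classical
  obtain ⟨P⟩ : Nonempty (Sylow p G) := inferInstance
  refine ⟨P, N, hNn, ?_⟩
  have hq : IsPGroup p (G ⧸ N) := by
    intro y
    obtain ⟨g, rfl⟩ := QuotientGroup.mk_surjective y
    obtain ⟨a, m, hm, hgm⟩ := Nat.exists_eq_pow_mul_and_not_dvd
      (orderOf_pos g).ne' p hp.out.ne_one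
    refine ⟨a, ?_⟩
    rw [← QuotientGroup.mk_pow, QuotientGroup.eq_one_iff]
    apply hreg
    show ¬ p ∣ orderOf (g ^ p ^ a)
    rw [orderOf_pow' g (pow_ne_zero a hp.out.ne_zero), hgm,
      Nat.gcd_eq_right (Dvd.intro _ rfl), Nat.mul_div_cancel_left _ (pow_pos hp.out.pos a)]
    exact hm
  obtain ⟨k, hk⟩ := IsPGroup.iff_card.mp hq
  have hidx : N.index = p ^ k := by rw [Subgroup.index_eq_card, hk]
  have hmul : Nat.card N * p ^ k = Nat.card G := by
    rw [← hidx]
    exact Subgroup.card_mul_index N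
  have hcopN : (Nat.card N).Coprime p :=
    ((Nat.Prime.coprime_iff_not_dvd hp.out).mpr hN).symm
  have hfac : (Nat.card G).factorization p = k := by
    rw [← hmul, Nat.factorization_mul (Nat.card_pos (α := N)).ne'
      (pow_ne_zero k hp.out.ne_zero), Nat.factorization_pow]
    simp [Nat.factorization_eq_zero_of_not_dvd hN, hp.out.factorization_self]
  have hPc : Nat.card (P : Subgroup G) = p ^ k := by
    rw [P.card_eq_multiplicity, hfac]
  apply Subgroup.isComplement'_of_coprime
  · rw [hPc, hmul]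
  · rw [hPc]
    exact Nat.Coprime.pow_right _ hcopN

/-- the `p`-regular part of a function at a `p`-regular element -/
theorem pRegularPart_of_isPRegular {p : ℕ} (χ : G → ℂ) (g : G) (hg : Cfsg.IsPRegular p g) :
    Cfsg.pRegularPart p χ g = χ g := by
  classical
  unfold Cfsg.pRegularPart
  rw [if_pos hg]

theorem pRegularPart_of_not_isPRegular {p : ℕ} (χ : G → ℂ) (g : G)
    (hg : ¬ Cfsg.IsPRegular p g) : Cfsg.pRegularPart p χ g = 0 := by
  classical
  unfold Cfsg.pRegularPart
  rw [if_neg hg]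

theorem isPRegular_one {p : ℕ} [hp : Fact p.Prime] : Cfsg.IsPRegular p (1 : G) := by
  show ¬ p ∣ orderOf (1 : G)
  rw [orderOf_one]
  exact hp.out.one_lt.ne' ∘ Nat.dvd_one.mp

/-- **a set of irreducible characters containing the trivial character has `p`-regular rank one
exactly when all its members are constant on the `p`-regular elements** -/
theorem blockRank_eq_one_iff {p : ℕ} [hp : Fact p.Prime] (B : Set (Cfsg.IrrCharacter G))
    (htriv : trivIrr G ∈ B) :
    Cfsg.blockRank p B = 1 ↔
      ∀ χ ∈ B, ∀ g : G, Cfsg.IsPRegular p g → (χ : G → ℂ) g = (χ : G → ℂ) 1 := by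
  classical
  set S : Set (G → ℂ) :=
    (fun χ : Cfsg.IrrCharacter G => Cfsg.pRegularPart p (χ : G → ℂ)) '' B with hS
  set v : G → ℂ := Cfsg.pRegularPart p (fun _ : G => (1 : ℂ)) with hv
  have hvS : v ∈ S := ⟨trivIrr G, htriv, rfl⟩
  have hv1 : v 1 = 1 := pRegularPart_of_isPRegular _ 1 isPRegular_one
  have hv0 : v ≠ 0 := by
    intro h0
    rw [h0] at hv1
    exact zero_ne_one hv1
  unfold Cfsg.blockRank
  rw [← hS]
  constructor
  · intro h χ hχ g hg
    have hvmem : v ∈ Submodule.span ℂ S := Submodule.subset_span hvS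
    have hv0' : (⟨v, hvmem⟩ : Submodule.span ℂ S) ≠ 0 := by
      intro h0
      exact hv0 (congrArg Subtype.val h0)
    have h1 := (finrank_eq_one_iff_of_nonzero' (⟨v, hvmem⟩ : Submodule.span ℂ S) hv0').mp h
    have hwmem : Cfsg.pRegularPart p (χ : G → ℂ) ∈ Submodule.span ℂ S :=
      Submodule.subset_span ⟨χ, hχ, rfl⟩
    obtain ⟨c, hc⟩ := h1 ⟨_, hwmem⟩
    have hc' : c • v = Cfsg.pRegularPart p (χ : G → ℂ) := congrArg Subtype.val hc
    have e1 := congrFun hc' 1
    have eg := congrFun hc' g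
    rw [Pi.smul_apply, pRegularPart_of_isPRegular _ _ isPRegular_one, hv1] at e1
    rw [Pi.smul_apply, pRegularPart_of_isPRegular _ _ hg, hv,
      pRegularPart_of_isPRegular _ _ hg] at eg
    rw [← eg, ← e1]
  · intro h
    have hspan : Submodule.span ℂ S = Submodule.span ℂ {v} := by
      apply le_antisymm
      · rw [Submodule.span_le]
        rintro w ⟨χ, hχ, rfl⟩
        rw [SetLike.mem_coe, Submodule.mem_span_singleton]
        refine ⟨(χ : G → ℂ) 1, ?_⟩
        funext g
        show (χ : G → ℂ) 1 • v g = Cfsg.pRegularPart p (χ : G → ℂ) g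
        by_cases hg : Cfsg.IsPRegular p g
        · rw [pRegularPart_of_isPRegular _ _ hg, hv, pRegularPart_of_isPRegular _ _ hg,
            h χ hχ g hg, smul_eq_mul, mul_one]
        · rw [pRegularPart_of_not_isPRegular _ _ hg, hv, pRegularPart_of_not_isPRegular _ _ hg,
            smul_zero]
      · apply Submodule.span_mono
        rw [Set.singleton_subset_iff]
        exact hvS
    rw [hspan]
    exact finrank_span_singleton hv0

end Cfsg.Agent.Helper6
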