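import Mathlib
import Cfsg.Prelude.Def_Characters
import Cfsg.Prelude.Def_Blocks
import Cfsg.Prelude.Def_BlockRank
import Cfsg.Agent.Helper6.ContribA
import Cfsg.Agent.Helper6.BrauerFeitE
import Cfsg.Agent.Helper6.NilpPrincipal

/-!
# Blocks of defect one for the prime two: two characters agreeing on the elements of odd order
-/

set_option autoImplicit false
set_option linter.style.haveILetI false

namespace Cfsg.Agent.Helper6

open Module
open scoped ComplexConjugate

universe u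

variable {G : Type u} [Group G] {M : Ideal Cfsg.AlgInt}

/-- the `p`-adic valuation of a degree through defect and height -/
theorem factorization_charDegree_eq [Finite G] (p : ℕ) (B : Set (Cfsg.IrrCharacter G))
    (ξ : Cfsg.IrrCharacter G) (hξ : ξ ∈ B) :
    (Cfsg.charDegree (ξ : G → ℂ)).factorization p =
      ((Nat.card G).factorization p - Cfsg.blockDefect p B) +
        Cfsg.blockHeight p B (ξ : G → ℂ) := by
  unfold Cfsg.blockDefect Cfsg.blockHeight
  have h1 : sInf ((fun χ : Cfsg.IrrCharacter G =>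
      (Cfsg.charDegree (χ : G → ℂ)).factorization p) '' B) ≤
      (Cfsg.charDegree (ξ : G → ℂ)).factorization p := Nat.sInf_le ⟨ξ, hξ, rfl⟩
  have h2 : (Cfsg.charDegree (ξ : G → ℂ)).factorization p ≤ (Nat.card G).factorization p :=
    (Nat.factorization_le_iff_dvd (charDegree_ne_zero_of_irr ξ.2) Nat.card_pos.ne').mpr
      (charDegree_dvd_card ξ.2) p
  omega

/-- the defect is at most the exponent of `p` in the group order -/
theorem blockDefect_le_factorization [Finite G] (p : ℕ) (B : Set (Cfsg.IrrCharacter G)) :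
    Cfsg.blockDefect p B ≤ (Nat.card G).factorization p := by
  unfold Cfsg.blockDefect
  omega

/-- in a block all of whose members have height zero, the contributions have exact valuation
`a - d` -/
theorem truncInt_eq_pow_mul_of_height_zero [Fintype G] {p : ℕ} [hp : Fact p.Prime]
    (hM : Cfsg.IsPModular p M) (B : Set (Cfsg.IrrCharacter G)) (hB : Cfsg.IsPBlock M B)
    (χ ξ : Cfsg.IrrCharacter G) (hχ : χ ∈ B) (hξ : ξ ∈ B)
    (hhχ : Cfsg.blockHeight p B (χ : G → ℂ) = 0)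
    (hhξ : Cfsg.blockHeight p B (ξ : G → ℂ) = 0) :
    ∃ m : ℤ, ¬ (p : ℤ) ∣ m ∧ truncInt p χ ξ =
      (p : ℤ) ^ ((Nat.card G).factorization p - Cfsg.blockDefect p B) * m := by
  obtain ⟨n, h1, h2, h3⟩ := (height_zero_iff_trunc hM B hB χ hχ).2.mp hhχ ξ hξ
  have hn : n = truncInt p χ ξ := by
    have := h1.symm.trans (truncInt_spec p χ ξ)
    exact_mod_cast this
  rw [hn] at h2 h3
  rw [factorization_charDegree_eq p B ξ hξ, hhξ, add_zero] at h3
  obtain ⟨m, hm⟩ := pow_dvd_truncInt (χ := χ) hM B ξ hξ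
  refine ⟨m, ?_, hm⟩
  intro hdiv
  obtain ⟨m', rfl⟩ := hdiv
  have h4 : (p : ℤ) ^ ((Nat.card G).factorization p - Cfsg.blockDefect p B + 1) ∣
      truncInt p χ ξ := by
    rw [hm, pow_succ]
    exact ⟨m', by ring⟩
  rw [padicValInt_dvd_iff] at h4
  rcases h4 with h4 | h4
  · exact h2 h4
  · omega

/-- the contributions of a `2`-block of defect one -/
theorem defect_one_two_aux [Fintype G] [hp : Fact (Nat.Prime 2)] (hM : Cfsg.IsPModular 2 M)
    (B : Set (Cfsg.IrrCharacter G)) (hB : Cfsg.IsPBlock M B) (hd : Cfsg.blockDefect 2 B = 1) :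
    (∀ χ ∈ B, truncInt 2 χ χ = (2 : ℤ) ^ ((Nat.card G).factorization 2 - 1)) ∧
    Nat.card B = 2 ∧
    (∀ χ ∈ B, ∀ ψ ∈ B, (truncInt 2 χ ψ) ^ 2 =
      ((2 : ℤ) ^ ((Nat.card G).factorization 2 - 1)) ^ 2) := by
  classical
  haveI : Finite (Cfsg.IrrCharacter G) := irr_finite
  haveI : Fintype (Cfsg.IrrCharacter G) := Fintype.ofFinite _
  obtain ⟨a, ha⟩ : ∃ a : ℕ, a = (Nat.card G).factorization 2 := ⟨_, rfl⟩
  rw [← ha]
  have ha1 : 1 ≤ a := by
    have := blockDefect_le_factorization 2 B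
    rw [hd, ← ha] at this
    exact this
  obtain ⟨P, hP⟩ : ∃ P : ℤ, P = (2 : ℤ) ^ (a - 1) := ⟨_, rfl⟩
  rw [← hP]
  have hPpos : 0 < P := by rw [hP]; positivity
  have h2a : (2 : ℤ) ^ a = 2 * P := by
    rw [hP, ← pow_succ']
    congr 1
    omega
  have hheight : ∀ χ ∈ B, Cfsg.blockHeight 2 B (χ : G → ℂ) = 0 := fun χ hχ =>
    (blockHeight_le_sub_two hM B hB χ hχ).1 (by rw [hd])
  have hform : ∀ χ ∈ B, ∀ ξ ∈ B, ∃ m : ℤ, ¬ (2 : ℤ) ∣ m ∧ truncInt 2 χ ξ = P * m := by
    intro χ hχ ξ hξ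
    obtain ⟨m, hm1, hm2⟩ := truncInt_eq_pow_mul_of_height_zero hM B hB χ ξ hχ hξ
      (hheight χ hχ) (hheight ξ hξ)
    rw [hd, ← ha] at hm2
    refine ⟨m, ?_, ?_⟩
    · exact_mod_cast hm1
    · rw [hm2, hP]
      norm_num
  have hsq : ∀ χ ∈ B, ∀ ξ ∈ B, P ^ 2 ≤ (truncInt 2 χ ξ) ^ 2 := by
    intro χ hχ ξ hξ
    obtain ⟨m, hm1, hm2⟩ := hform χ hχ ξ hξ
    have hm0 : m ≠ 0 := by
      rintro rfl
      exact hm1 (dvd_zero _)
    have hm2' : 1 ≤ m ^ 2 := by
      have : 0 < m ^ 2 := by positivity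
      omega
    rw [hm2, mul_pow]
    nlinarith [sq_nonneg P]
  have hpars : ∀ χ ∈ B, ∑ ξ ∈ Finset.univ.filter (· ∈ B), (truncInt 2 χ ξ) ^ 2 =
      2 * P * truncInt 2 χ χ := by
    intro χ hχ
    have := truncInt_parseval_block hM B hB χ hχ
    rw [← ha] at this
    rw [this]
    push_cast
    rw [h2a]
  -- the diagonal
  have hdiag : ∀ χ ∈ B, truncInt 2 χ χ = P := by
    intro χ hχ
    obtain ⟨m, hm1, hm2⟩ := hform χ hχ χ hχ
    have hpos := truncInt_self_pos 2 χ
    have hle : (truncInt 2 χ χ) ^ 2 ≤ 2 * P * truncInt 2 χ χ := by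
      rw [← hpars χ hχ]
      exact Finset.single_le_sum (f := fun ξ => (truncInt 2 χ ξ) ^ 2)
        (fun ξ _ => sq_nonneg _) (Finset.mem_filter.mpr ⟨Finset.mem_univ _, hχ⟩)
    have hle2 : truncInt 2 χ χ ≤ 2 * P := by nlinarith
    rw [hm2] at hpos hle2
    have hmpos : 0 < m := by
      by_contra hneg
      push Not at hneg
      nlinarith
    have hm2le : m ≤ 2 := by nlinarith
    have hm1' : m = 1 := by
      have : m = 1 ∨ m = 2 := by omega
      rcases this with h | h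
      · exact h
      · exfalso
        apply hm1
        rw [h]
    rw [hm2, hm1', mul_one]
  have hsum : ∀ χ ∈ B, ∑ ξ ∈ Finset.univ.filter (· ∈ B), (truncInt 2 χ ξ) ^ 2 = 2 * P ^ 2 := by
    intro χ hχ
    rw [hpars χ hχ, hdiag χ hχ]
    ring
  obtain ⟨χ₀, hχ₀⟩ : ∃ χ₀ : Cfsg.IrrCharacter G, χ₀ ∈ B := by
    obtain ⟨χ₀, h⟩ := hB
    exact ⟨χ₀, h ▸ mem_blockOf_self hM.2.1 χ₀⟩
  have hχ₀F : χ₀ ∈ Finset.univ.filter (· ∈ B) := Finset.mem_filter.mpr ⟨Finset.mem_univ _, hχ₀⟩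
  -- the number of characters
  have hcard : (Finset.univ.filter (· ∈ B)).card = 2 := by
    have hle : ((Finset.univ.filter (· ∈ B)).card : ℤ) * P ^ 2 ≤ 2 * P ^ 2 := by
      rw [← hsum χ₀ hχ₀, ← nsmul_eq_mul, ← Finset.sum_const]
      apply Finset.sum_le_sum
      intro ξ hξ
      exact hsq χ₀ hχ₀ ξ (Finset.mem_filter.mp hξ).2
    have hP2 : 0 < P ^ 2 := by positivity
    have hle2 : ((Finset.univ.filter (· ∈ B)).card : ℤ) ≤ 2 := le_of_mul_le_mul_right hle hP2
    have hge1 : 1 ≤ (Finset.univ.filter (· ∈ B)).card := Finset.card_pos.mpr ⟨χ₀, hχ₀F⟩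
    have hne1 : (Finset.univ.filter (· ∈ B)).card ≠ 1 := by
      intro h1
      obtain ⟨ξ, hξ⟩ := Finset.card_eq_one.mp h1
      have hξχ : χ₀ = ξ := by
        rw [hξ] at hχ₀F
        exact Finset.mem_singleton.mp hχ₀F
      have := hsum χ₀ hχ₀
      rw [hξ, Finset.sum_singleton, ← hξχ, hdiag χ₀ hχ₀] at this
      nlinarith
    omega
  refine ⟨hdiag, ?_, ?_⟩
  · rw [Nat.card_eq_fintype_card, Fintype.card_subtype]
    exact hcard
  · intro χ hχ ψ hψ
    by_cases hne : χ = ψ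
    · rw [← hne, hdiag χ hχ]
    · have hχF : χ ∈ Finset.univ.filter (· ∈ B) := Finset.mem_filter.mpr ⟨Finset.mem_univ _, hχ⟩
      have hψF : ψ ∈ Finset.univ.filter (· ∈ B) := Finset.mem_filter.mpr ⟨Finset.mem_univ _, hψ⟩
      have hpair : Finset.univ.filter (· ∈ B) = {χ, ψ} := by
        symm
        apply Finset.eq_of_subset_of_card_le
        · intro ξ hξ
          rw [Finset.mem_insert, Finset.mem_singleton] at hξ
          rcases hξ with rfl | rfl
          · exact hχF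
          · exact hψF
        · rw [hcard, Finset.card_pair hne]
      have := hsum χ hχ
      rw [hpair, Finset.sum_pair hne, hdiag χ hχ] at this
      linarith

/-- a block of defect one for the prime `2` consists of two characters agreeing on the elements
of odd order -/
theorem defect_one_two [Fintype G] [hp : Fact (Nat.Prime 2)] (hM : Cfsg.IsPModular 2 M)
    (B : Set (Cfsg.IrrCharacter G)) (hB : Cfsg.IsPBlock M B) (hd : Cfsg.blockDefect 2 B = 1) :
    Nat.card B = 2 ∧ ∀ χ ∈ B, ∀ ψ ∈ B,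
      Cfsg.pRegularPart 2 (χ : G → ℂ) = Cfsg.pRegularPart 2 (ψ : G → ℂ) := by
  classical
  obtain ⟨hdiag, hcard, hoff⟩ := defect_one_two_aux hM B hB hd
  refine ⟨hcard, ?_⟩
  intro χ hχ ψ hψ
  obtain ⟨P, hP⟩ : ∃ P : ℤ, P = (2 : ℤ) ^ ((Nat.card G).factorization 2 - 1) := ⟨_, rfl⟩
  rw [← hP] at hdiag hoff
  have hPpos : 0 < P := by rw [hP]; positivity
  obtain ⟨A, hA⟩ : ∃ A : ℂ, A = ((2 ^ (Nat.card G).factorization 2 : ℕ) : ℂ) := ⟨_, rfl⟩
  have hA0 : A ≠ 0 := by
    rw [hA]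
    exact_mod_cast (pow_pos (Nat.succ_pos 1) _).ne'
  have hχχ := classInner_pRegularPart 2 χ χ
  have hψψ := classInner_pRegularPart 2 ψ ψ
  have hχψ := classInner_pRegularPart 2 χ ψ
  have hψχ := classInner_pRegularPart 2 ψ χ
  rw [← hA] at hχχ hψψ hχψ hψχ
  rw [hdiag χ hχ] at hχχ
  rw [hdiag ψ hψ] at hψψ
  rw [truncInt_symm 2 ψ χ] at hψχ
  have hsq := hoff χ hχ ψ hψ
  have hcases : truncInt 2 χ ψ = P ∨ truncInt 2 χ ψ = -P := by
    have h1 : (truncInt 2 χ ψ - P) * (truncInt 2 χ ψ + P) = 0 := by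
      have : (truncInt 2 χ ψ - P) * (truncInt 2 χ ψ + P) = (truncInt 2 χ ψ) ^ 2 - P ^ 2 := by ring
      rw [this, hsq, sub_self]
    rcases mul_eq_zero.mp h1 with h | h
    · left; linarith
    · right; linarith
  rcases hcases with hc | hc
  · rw [hc] at hχψ hψχ
    have hzero : Cfsg.classInner
        (Cfsg.pRegularPart 2 (χ : G → ℂ) - Cfsg.pRegularPart 2 (ψ : G → ℂ))
        (Cfsg.pRegularPart 2 (χ : G → ℂ) - Cfsg.pRegularPart 2 (ψ : G → ℂ)) = 0 := by
      apply mul_left_cancel₀ hA0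
      rw [classInner_sub_left, classInner_sub_right, classInner_sub_right, mul_zero]
      rw [mul_sub, mul_sub, mul_sub, hχχ, hχψ, hψχ, hψψ]
      ring
    exact sub_eq_zero.mp (classInner_self_eq_zero hzero)
  · exfalso
    rw [hc] at hχψ hψχ
    have hzero : Cfsg.classInner
        (Cfsg.pRegularPart 2 (χ : G → ℂ) + Cfsg.pRegularPart 2 (ψ : G → ℂ))
        (Cfsg.pRegularPart 2 (χ : G → ℂ) + Cfsg.pRegularPart 2 (ψ : G → ℂ)) = 0 := by
      apply mul_left_cancel₀ hA0
      rw [classInner_add_left, classInner_add_right, classInner_add_right, mul_zero]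
      rw [mul_add, mul_add, mul_add, hχχ, hχψ, hψχ, hψψ]
      push_cast
      ring
    have h1 := congrFun (classInner_self_eq_zero hzero) 1
    rw [Pi.add_apply, pRegularPart_of_isPRegular _ _ isPRegular_one,
      pRegularPart_of_isPRegular _ _ isPRegular_one, Pi.zero_apply,
      ← charDegree_cast_of_isCharacter (IsIrrCharacter.isCharacter χ.2),
      ← charDegree_cast_of_isCharacter (IsIrrCharacter.isCharacter ψ.2)] at h1
    have h2 : Cfsg.charDegree (χ : G → ℂ) + Cfsg.charDegree (ψ : G → ℂ) = 0 := by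
      exact_mod_cast h1
    have := charDegree_ne_zero_of_irr χ.2
    omega

end Cfsg.Agent.Helper6
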