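import Mathlib
import Cfsg.Prelude.Def_Characters
import Cfsg.Prelude.Def_Blocks
import Cfsg.Prelude.Def_BlockRank
import Cfsg.Agent.Helper6.BlockOrth
import Cfsg.Agent.Helper6.RankDefect
import Cfsg.Agent.Helper6.Expansion

/-!
# The `p`-regular rank of a block as a trace
-/

set_option autoImplicit false
set_option linter.style.haveILetI false

namespace Cfsg.Agent.Helper6

open Module
open scoped ComplexConjugate

universe u

variable {G : Type u} [Group G] {M : Ideal Cfsg.AlgInt}

/-- The inner product with `ψ` as a linear functional. -/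
noncomputable def innerFunctional [Fintype G] (ψ : G → ℂ) : (G → ℂ) →ₗ[ℂ] ℂ where
  toFun θ := Cfsg.classInner θ ψ
  map_add' θ₁ θ₂ := classInner_add_left θ₁ θ₂ ψ
  map_smul' c θ := by
    rw [classInner_smul_left]
    rfl

theorem innerFunctional_apply [Fintype G] (ψ θ : G → ℂ) :
    innerFunctional ψ θ = Cfsg.classInner θ ψ := rfl

/-- truncation is a class function when the argument is -/
theorem pRegularPart_isClassFunction (p : ℕ) {χ : G → ℂ} (hχ : Cfsg.IsClassFunction G χ) :
    Cfsg.IsClassFunction G (Cfsg.pRegularPart p χ) := by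
  classical
  intro g h
  have ho : orderOf (h * g * h⁻¹) = orderOf g := by
    have := MulEquiv.orderOf_eq (MulAut.conj h) g
    simpa using this
  rw [pRegularPart_apply, pRegularPart_apply, ho, hχ g h]

/-- The truncation of a member of a block expands over the block. -/
theorem pRegularPart_expansion [Fintype G] [Fintype (Cfsg.IrrCharacter G)] (hM : M.IsMaximal)
    (p : ℕ) [hp : Fact p.Prime] (hpM : (p : Cfsg.AlgInt) ∈ M) (B : Set (Cfsg.IrrCharacter G))
    [DecidablePred (· ∈ B)] (hB : Cfsg.IsPBlock M B) (ψ : Cfsg.IrrCharacter G) (hψ : ψ ∈ B) :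
    Cfsg.pRegularPart p (ψ : G → ℂ) = ∑ χ : Cfsg.IrrCharacter G,
      if χ ∈ B then Cfsg.classInner (Cfsg.pRegularPart p (ψ : G → ℂ)) (χ : G → ℂ) • (χ : G → ℂ)
      else 0 := by
  classical
  have hcf := pRegularPart_isClassFunction p
    (IsCharacter.isClassFunction (IsIrrCharacter.isCharacter ψ.2))
  have hexp := classFunction_expansion _ hcf
  conv_lhs => rw [hexp]
  apply Finset.sum_congr rfl
  intro χ _
  split_ifs with hχ
  · rfl
  · have h0 := sum_pregular_eq_zero hM p hpM B hB ψ χ hψ hχ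
    have h1 : Cfsg.classInner (Cfsg.pRegularPart p (ψ : G → ℂ)) (χ : G → ℂ) = 0 := by
      rw [classInner_def]
      have h2 : ∑ g : G, Cfsg.pRegularPart p (ψ : G → ℂ) g * conj ((χ : G → ℂ) g) =
          ∑ x : G, (if p ∣ orderOf x then (0 : ℂ)
            else (ψ : G → ℂ) x * conj ((χ : G → ℂ) x)) := by
        apply Finset.sum_congr rfl
        intro g _
        rw [pRegularPart_apply]
        split_ifs
        · rw [zero_mul]
        · rfl
      rw [h2, h0, mul_zero]
    rw [h1, zero_smul]

theorem pRegularPart_sum {ι : Type*} (p : ℕ) (s : Finset ι) (f : ι → G → ℂ) :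
    Cfsg.pRegularPart p (∑ i ∈ s, f i) = ∑ i ∈ s, Cfsg.pRegularPart p (f i) := by
  classical
  funext g
  rw [pRegularPart_apply, Finset.sum_apply, Finset.sum_apply]
  simp_rw [pRegularPart_apply]
  split_ifs
  · simp
  · rfl

theorem pRegularPart_smul (p : ℕ) (c : ℂ) (f : G → ℂ) :
    Cfsg.pRegularPart p (c • f) = c • Cfsg.pRegularPart p f := by
  classical
  funext g
  rw [Pi.smul_apply, pRegularPart_apply, pRegularPart_apply, Pi.smul_apply]
  split_ifs
  · simp
  · rfl

theorem pRegularPart_zero (p : ℕ) : Cfsg.pRegularPart p (0 : G → ℂ) = 0 := by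
  classical
  funext g
  rw [pRegularPart_apply]
  simp

theorem pRegularPart_idem (p : ℕ) (f : G → ℂ) :
    Cfsg.pRegularPart p (Cfsg.pRegularPart p f) = Cfsg.pRegularPart p f := by
  classical
  funext g
  rw [pRegularPart_apply, pRegularPart_apply]
  split_ifs <;> rfl

/-- **S4667.** -/
theorem card_mul_blockRank [Fintype G] (hM : M.IsMaximal)
    (p : ℕ) [hp : Fact p.Prime] (hpM : (p : Cfsg.AlgInt) ∈ M) (B : Set (Cfsg.IrrCharacter G))
    (hB : Cfsg.IsPBlock M B) :
    (Nat.card G : ℂ) * (Cfsg.blockRank p B : ℂ) =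
      ∑ x : G, ∑ᶠ χ ∈ B, Cfsg.pRegularPart p (χ : G → ℂ) x * (χ : G → ℂ) x⁻¹ := by
  classical
  haveI : Finite (Cfsg.IrrCharacter G) := irr_finite
  haveI : Fintype (Cfsg.IrrCharacter G) := Fintype.ofFinite _
  have hG0 : (Nat.card G : ℂ) ≠ 0 := by
    have : 0 < Nat.card G := Nat.card_pos
    exact_mod_cast this.ne'
  -- the operator
  set T : (G → ℂ) →ₗ[ℂ] (G → ℂ) := ∑ χ : Cfsg.IrrCharacter G,
    if χ ∈ B then (innerFunctional (χ : G → ℂ)).smulRight (Cfsg.pRegularPart p (χ : G → ℂ))
    else 0 with hT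
  have hTapp : ∀ θ : G → ℂ, T θ = ∑ χ : Cfsg.IrrCharacter G,
      if χ ∈ B then Cfsg.classInner θ (χ : G → ℂ) • Cfsg.pRegularPart p (χ : G → ℂ) else 0 := by
    intro θ
    rw [hT, LinearMap.sum_apply]
    apply Finset.sum_congr rfl
    intro χ _
    split_ifs
    · rw [LinearMap.smulRight_apply, innerFunctional_apply]
    · rfl
  set S : Submodule ℂ (G → ℂ) := Submodule.span ℂ
    ((fun χ : Cfsg.IrrCharacter G => Cfsg.pRegularPart p (χ : G → ℂ)) '' B) with hS
  have hmem : ∀ θ, T θ ∈ S := by
    intro θ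
    rw [hTapp]
    apply Submodule.sum_mem
    intro χ _
    split_ifs with hχ
    · exact Submodule.smul_mem _ _ (Submodule.subset_span ⟨χ, hχ, rfl⟩)
    · exact Submodule.zero_mem _
  have hfix : ∀ s ∈ S, T s = s := by
    intro s hs
    induction hs using Submodule.span_induction with
    | mem x hx =>
      obtain ⟨ψ, hψ, rfl⟩ := hx
      simp only
      rw [hTapp]
      have hexp := pRegularPart_expansion hM p hpM B hB ψ hψ
      have h1 := congrArg (Cfsg.pRegularPart p) hexp
      rw [pRegularPart_idem, pRegularPart_sum] at h1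
      conv_rhs => rw [h1]
      apply Finset.sum_congr rfl
      intro χ _
      split_ifs
      · rw [pRegularPart_smul]
      · rw [pRegularPart_zero]
    | zero => exact map_zero T
    | add x y _ _ hx hy => rw [map_add, hx, hy]
    | smul c x _ hx => rw [map_smul, hx]
  have hproj : LinearMap.IsProj S T := ⟨hmem, hfix⟩
  have htr := hproj.trace
  -- compute the trace in the standard basis
  have htr2 : LinearMap.trace ℂ (G → ℂ) T = (Nat.card G : ℂ)⁻¹ *
      ∑ x : G, ∑ᶠ χ ∈ B, Cfsg.pRegularPart p (χ : G → ℂ) x * (χ : G → ℂ) x⁻¹ := by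
    rw [LinearMap.trace_eq_matrix_trace ℂ (Pi.basisFun ℂ G) T, Matrix.trace, Finset.mul_sum]
    apply Finset.sum_congr rfl
    intro g _
    rw [Matrix.diag_apply, LinearMap.toMatrix_apply, Pi.basisFun_repr, Pi.basisFun_apply, hTapp,
      Finset.sum_apply, finsum_mem_eq_sum_ite, Finset.mul_sum]
    apply Finset.sum_congr rfl
    intro χ _
    split_ifs
    · rw [Pi.smul_apply, smul_eq_mul, classInner_def]
      have h1 : ∑ x : G, (Pi.single g (1 : ℂ) : G → ℂ) x * conj ((χ : G → ℂ) x) =
          conj ((χ : G → ℂ) g) := by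
        rw [Finset.sum_eq_single g]
        · rw [Pi.single_eq_same, one_mul]
        · intro b _ hb
          rw [Pi.single_eq_of_ne hb, zero_mul]
        · intro h
          exact absurd (Finset.mem_univ _) h
      rw [h1, IsCharacter.inv_eq_conj (IsIrrCharacter.isCharacter χ.2) g]
      ring
    · rw [Pi.zero_apply, mul_zero]
  rw [htr2] at htr
  have hrank : (Cfsg.blockRank p B : ℂ) = (finrank ℂ S : ℂ) := rfl
  rw [hrank, ← htr, ← mul_assoc, mul_inv_cancel₀ hG0, one_mul]

end Cfsg.Agent.Helper6
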