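import Mathlib
import Cfsg.Prelude.Def_Characters
import Cfsg.Prelude.Def_Blocks
import Cfsg.Agent.Helper6.ColumnOrth
import Cfsg.Agent.Helper6.SecondMainE
import Cfsg.Agent.Helper6.BrauerAppA

/-!
# Orthogonality on a `p`-section (towards S4683, S4511)
-/

set_option autoImplicit false
set_option linter.style.haveILetI false

namespace Cfsg.Agent.Helper6

open Module
open scoped ComplexConjugate

universe u

variable {G : Type u} [Group G] {M : Ideal Cfsg.AlgInt}

/-- an element conjugating `x c` to `x c'` (`x` a `p`-element, `c`, `c'` `p`-regular and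
commuting with `x`) centralizes `x` -/
theorem conj_eq_of_conj_section {p : ℕ} [hp : Fact p.Prime] (x : G)
    (hx : ∃ k : ℕ, orderOf x = p ^ k) (c c' : G) (hc : Commute x c) (hc' : Commute x c')
    (hcp : ¬ p ∣ orderOf c) (hcp' : ¬ p ∣ orderOf c') (g : G)
    (hg : g * (x * c) * g⁻¹ = x * c') : g * x * g⁻¹ = x ∧ g * c * g⁻¹ = c' := by
  have h1 : Cfsg.IsPPart p (x * c) x := ⟨c, rfl, hc, hx, hcp⟩
  have h2 : Cfsg.IsPPart p (x * c') x := ⟨c', rfl, hc', hx, hcp'⟩
  have h3 := IsPPart.conj h1 g
  rw [hg] at h3
  have h4 : g * x * g⁻¹ = x := isPPart_unique p h3 h2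
  refine ⟨h4, ?_⟩
  have h5 : g * (x * c) * g⁻¹ = (g * x * g⁻¹) * (g * c * g⁻¹) := by group
  rw [h5, h4] at hg
  exact mul_left_cancel hg

/-- conjugacy in a `p`-section is conjugacy in the centralizer -/
theorem isConj_section_iff {p : ℕ} [hp : Fact p.Prime] (x : G)
    (hx : ∃ k : ℕ, orderOf x = p ^ k) (c c' : Subgroup.centralizer ({x} : Set G))
    (hcp : ¬ p ∣ orderOf c) (hcp' : ¬ p ∣ orderOf c') :
    IsConj (x * (c : G)) (x * (c' : G)) ↔ IsConj c c' := by
  have hcomm : ∀ d : Subgroup.centralizer ({x} : Set G), Commute x (d : G) := by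
    intro d
    have := d.2
    rw [Subgroup.mem_centralizer_singleton_iff] at this
    exact this.symm
  constructor
  · intro h
    obtain ⟨g, hg⟩ := isConj_iff.mp h
    obtain ⟨h1, h2⟩ := conj_eq_of_conj_section x hx (c : G) (c' : G) (hcomm c) (hcomm c')
      (by rw [Subgroup.orderOf_coe]; exact hcp) (by rw [Subgroup.orderOf_coe]; exact hcp') g hg
    have hgC : g ∈ Subgroup.centralizer ({x} : Set G) := by
      rw [Subgroup.mem_centralizer_singleton_iff]
      calc g * x = (g * x * g⁻¹) * g := by group
        _ = x * g := by rw [h1]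
    rw [isConj_iff]
    refine ⟨⟨g, hgC⟩, ?_⟩
    apply Subtype.ext
    exact h2
  · intro h
    obtain ⟨d, hd⟩ := isConj_iff.mp h
    rw [isConj_iff]
    refine ⟨(d : G), ?_⟩
    have hd' : (d : G) * (c : G) * (d : G)⁻¹ = (c' : G) := by
      have := congrArg Subtype.val hd
      simpa using this
    rw [← hd']
    have := (hcomm d).eq
    calc (d : G) * (x * (c : G)) * (d : G)⁻¹
        = ((d : G) * x) * (c : G) * (d : G)⁻¹ := by group
      _ = (x * (d : G)) * (c : G) * (d : G)⁻¹ := by rw [this]
      _ = x * ((d : G) * (c : G) * (d : G)⁻¹) := by group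

/-- the centralizer of `x c` in `G` is the centralizer of `c` in `C_G(x)` -/
theorem card_centralizer_section {p : ℕ} [hp : Fact p.Prime] (x : G)
    (hx : ∃ k : ℕ, orderOf x = p ^ k) (c : Subgroup.centralizer ({x} : Set G))
    (hcp : ¬ p ∣ orderOf c) :
    Nat.card (Subgroup.centralizer ({x * (c : G)} : Set G)) =
      Nat.card (Subgroup.centralizer ({c} : Set (Subgroup.centralizer ({x} : Set G)))) := by
  have hcomm : ∀ d : Subgroup.centralizer ({x} : Set G), Commute x (d : G) := by
    intro d
    have := d.2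
    rw [Subgroup.mem_centralizer_singleton_iff] at this
    exact this.symm
  have hcp' : ¬ p ∣ orderOf (c : G) := by rw [Subgroup.orderOf_coe]; exact hcp
  have key : ∀ g : G, g ∈ Subgroup.centralizer ({x * (c : G)} : Set G) →
      g * x * g⁻¹ = x ∧ g * (c : G) * g⁻¹ = (c : G) := by
    intro g hg
    rw [Subgroup.mem_centralizer_singleton_iff] at hg
    apply conj_eq_of_conj_section x hx (c : G) (c : G) (hcomm c) (hcomm c) hcp' hcp' g
    rw [hg]
    group
  have hmemC : ∀ g : G, g ∈ Subgroup.centralizer ({x * (c : G)} : Set G) →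
      g ∈ Subgroup.centralizer ({x} : Set G) := by
    intro g hg
    rw [Subgroup.mem_centralizer_singleton_iff]
    calc g * x = (g * x * g⁻¹) * g := by group
      _ = x * g := by rw [(key g hg).1]
  apply Nat.card_congr
  refine ⟨fun g => ⟨⟨(g : G), hmemC _ g.2⟩, ?_⟩, fun d => ⟨((d : Subgroup.centralizer ({x} : Set G)) : G), ?_⟩,
    fun g => rfl, fun d => rfl⟩
  · rw [Subgroup.mem_centralizer_singleton_iff]
    apply Subtype.ext
    show (g : G) * (c : G) = (c : G) * (g : G)
    calc (g : G) * (c : G) = ((g : G) * (c : G) * (g : G)⁻¹) * (g : G) := by group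
      _ = (c : G) * (g : G) := by rw [(key _ g.2).2]
  · rw [Subgroup.mem_centralizer_singleton_iff]
    have h1 := d.2
    rw [Subgroup.mem_centralizer_singleton_iff] at h1
    have h1' : ((d : Subgroup.centralizer ({x} : Set G)) : G) * (c : G) =
        (c : G) * ((d : Subgroup.centralizer ({x} : Set G)) : G) := by
      have := congrArg Subtype.val h1
      simpa using this
    have h2 := (hcomm (d : Subgroup.centralizer ({x} : Set G))).eq
    calc ((d : Subgroup.centralizer ({x} : Set G)) : G) * (x * (c : G))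
        = (((d : Subgroup.centralizer ({x} : Set G)) : G) * x) * (c : G) := by group
      _ = x * (((d : Subgroup.centralizer ({x} : Set G)) : G) * (c : G)) := by rw [← h2]; group
      _ = x * (c : G) * ((d : Subgroup.centralizer ({x} : Set G)) : G) := by rw [h1']; group

/-- the sum of a class function over a conjugacy class -/
theorem sum_isConj_classFunction {H : Type*} [Group H] [Fintype H] (κ : H → ℂ)
    (hκ : Cfsg.IsClassFunction H κ) (c : H) [DecidablePred (fun c' : H => IsConj c c')] :
    ∑ c' : H, (if IsConj c c' then κ c' else 0) =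
      (Nat.card {c' : H // IsConj c c'} : ℂ) * κ c := by
  classical
  have h1 : ∀ c' : H, (if IsConj c c' then κ c' else 0) = if IsConj c c' then κ c else 0 := by
    intro c'
    split_ifs with h
    · obtain ⟨d, hd⟩ := isConj_iff.mp h
      rw [← hd, hκ]
    · rfl
  simp_rw [h1]
  rw [← Finset.sum_filter, Finset.sum_const, nsmul_eq_mul, Nat.card_eq_fintype_card,
    Fintype.card_subtype]

open Classical in
/-- **Parseval on a `p`-section**: for class functions `κ`, `κ'` of `C_G(x)` vanishing at the
`p`-singular elements -/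
theorem section_parseval [Fintype G] {p : ℕ} [hp : Fact p.Prime] (x : G)
    (hx : ∃ k : ℕ, orderOf x = p ^ k)
    [Fintype (Subgroup.centralizer ({x} : Set G))] [Fintype (Cfsg.IrrCharacter G)]
    (κ κ' : Subgroup.centralizer ({x} : Set G) → ℂ)
    (hκ' : Cfsg.IsClassFunction (Subgroup.centralizer ({x} : Set G)) κ')
    (hκs : ∀ c, p ∣ orderOf c → κ c = 0) (hκ's : ∀ c, p ∣ orderOf c → κ' c = 0) :
    ∑ χ : Cfsg.IrrCharacter G,
      Cfsg.classInner (fun c : Subgroup.centralizer ({x} : Set G) => (χ : G → ℂ) (x * (c : G))) κ *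
      conj (Cfsg.classInner
        (fun c : Subgroup.centralizer ({x} : Set G) => (χ : G → ℂ) (x * (c : G))) κ') =
    Cfsg.classInner κ' κ := by
  classical
  obtain ⟨n, hn⟩ : ∃ n : ℂ, n = (Nat.card (Subgroup.centralizer ({x} : Set G)) : ℂ) := ⟨_, rfl⟩
  have hn0 : n ≠ 0 := by
    rw [hn]
    have : 0 < Nat.card (Subgroup.centralizer ({x} : Set G)) := Nat.card_pos
    exact_mod_cast this.ne'
  have hnc : conj n = n := by rw [hn, Complex.conj_natCast]
  simp_rw [classInner_def]
  rw [← hn]
  have hterm : ∀ χ : Cfsg.IrrCharacter G,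
      (n⁻¹ * ∑ c : Subgroup.centralizer ({x} : Set G), (χ : G → ℂ) (x * (c : G)) * conj (κ c)) *
        conj (n⁻¹ * ∑ c : Subgroup.centralizer ({x} : Set G),
          (χ : G → ℂ) (x * (c : G)) * conj (κ' c)) =
      n⁻¹ * n⁻¹ * ∑ c : Subgroup.centralizer ({x} : Set G),
        ∑ c' : Subgroup.centralizer ({x} : Set G), conj (κ c) * κ' c' *
          ((χ : G → ℂ) (x * (c : G)) * conj ((χ : G → ℂ) (x * (c' : G)))) := by
    intro χ
    rw [map_mul, map_inv₀, hnc, map_sum, mul_mul_mul_comm, Finset.sum_mul_sum]
    congr 1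
    apply Finset.sum_congr rfl
    intro c _
    apply Finset.sum_congr rfl
    intro c' _
    rw [map_mul, Complex.conj_conj]
    ring
  simp_rw [hterm]
  rw [← Finset.mul_sum, Finset.sum_comm]
  have hinner : ∀ c : Subgroup.centralizer ({x} : Set G),
      ∑ χ : Cfsg.IrrCharacter G, ∑ c' : Subgroup.centralizer ({x} : Set G), conj (κ c) * κ' c' *
          ((χ : G → ℂ) (x * (c : G)) * conj ((χ : G → ℂ) (x * (c' : G)))) =
      n * (κ' c * conj (κ c)) := by
    intro c
    rw [Finset.sum_comm]
    simp_rw [← Finset.mul_sum, column_orthogonality_aux]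
    by_cases hcs : p ∣ orderOf c
    · rw [hκs c hcs, map_zero]
      simp
    · have h2 : ∀ c' : Subgroup.centralizer ({x} : Set G),
          conj (κ c) * κ' c' * (if IsConj (x * (c : G)) (x * (c' : G)) then
            (Nat.card (Subgroup.centralizer ({x * (c : G)} : Set G)) : ℂ) else 0) =
          (conj (κ c) * (Nat.card (Subgroup.centralizer ({x * (c : G)} : Set G)) : ℂ)) *
            (if IsConj c c' then κ' c' else 0) := by
        intro c'
        by_cases hcs' : p ∣ orderOf c'
        · rw [hκ's c' hcs']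
          simp
        · have hiff := isConj_section_iff x hx c c' hcs hcs'
          by_cases hcc : IsConj c c'
          · rw [if_pos hcc, if_pos (hiff.mpr hcc)]
            ring
          · rw [if_neg hcc, if_neg (fun h => hcc (hiff.mp h))]
            ring
      simp_rw [h2]
      rw [← Finset.mul_sum, sum_isConj_classFunction κ' hκ' c, card_centralizer_section x hx c hcs]
      have h3 := card_conj_mul_card_centralizer c
      have h4 : (Nat.card {c' : Subgroup.centralizer ({x} : Set G) // IsConj c c'} : ℂ) *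
          (Nat.card (Subgroup.centralizer ({c} : Set (Subgroup.centralizer ({x} : Set G)))) : ℂ) =
          n := by
        rw [hn]
        exact_mod_cast h3
      rw [← h4]
      ring
  simp_rw [hinner]
  rw [← Finset.mul_sum, ← mul_assoc, mul_assoc n⁻¹, inv_mul_cancel₀ hn0, mul_one]

end Cfsg.Agent.Helper6
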