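import Mathlib
import Cfsg.Prelude.Def_Characters
import Cfsg.Prelude.Def_Blocks
import Cfsg.Agent.Helper6.SectionOrthA
import Cfsg.Agent.Helper6.PPartBasic

/-!
# Summation over the `p`-sections of a finite group (towards S4511)
-/

set_option autoImplicit false
set_option linter.style.haveILetI false

namespace Cfsg.Agent.Helper6

open Module
open scoped ComplexConjugate

universe u

variable {G : Type u} [Group G] {M : Ideal Cfsg.AlgInt}

open Classical in
/-- the elements with `p`-part `x` are the `x s` with `s` a `p`-regular element of `C_G(x)` -/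
theorem sum_isPPart_eq [Fintype G] {p : ℕ} (x : G) (hx : ∃ k : ℕ, orderOf x = p ^ k)
    [Fintype (Subgroup.centralizer ({x} : Set G))] (F : G → ℂ) :
    ∑ g : G, (if Cfsg.IsPPart p g x then F g else 0) =
      ∑ s : Subgroup.centralizer ({x} : Set G),
        (if p ∣ orderOf s then 0 else F (x * (s : G))) := by
  classical
  have hcomm : ∀ d : Subgroup.centralizer ({x} : Set G), Commute x (d : G) := by
    intro d
    have := d.2
    rw [Subgroup.mem_centralizer_singleton_iff] at this
    exact this.symm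
  rw [← Finset.sum_filter]
  have h2 : ∑ s : Subgroup.centralizer ({x} : Set G),
      (if p ∣ orderOf s then 0 else F (x * (s : G))) =
      ∑ s ∈ Finset.univ.filter (fun s : Subgroup.centralizer ({x} : Set G) => ¬ p ∣ orderOf s),
        F (x * (s : G)) := by
    rw [Finset.sum_filter]
    apply Finset.sum_congr rfl
    intro s _
    split_ifs <;> rfl
  rw [h2]
  symm
  apply Finset.sum_bij (fun (s : Subgroup.centralizer ({x} : Set G)) _ => x * (s : G))
  · intro s hs
    rw [Finset.mem_filter] at hs ⊢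
    refine ⟨Finset.mem_univ _, (s : G), rfl, hcomm s, hx, ?_⟩
    rw [Subgroup.orderOf_coe]
    exact hs.2
  · intro s _ s' _ h
    exact Subtype.ext (mul_left_cancel h)
  · intro g hg
    rw [Finset.mem_filter] at hg
    obtain ⟨w, hw, hc, -, hwp⟩ := hg.2
    have hwC : w ∈ Subgroup.centralizer ({x} : Set G) := by
      rw [Subgroup.mem_centralizer_singleton_iff]
      exact hc.eq.symm
    refine ⟨⟨w, hwC⟩, ?_, hw⟩
    rw [Finset.mem_filter]
    refine ⟨Finset.mem_univ _, ?_⟩
    rw [← Subgroup.orderOf_coe]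
    exact hwp
  · intro s _
    rfl

open Classical in
/-- a sum over the group, arranged by `p`-parts -/
theorem sum_eq_sum_isPPart [Fintype G] (p : ℕ) [hp : Fact p.Prime] (F : G → ℂ) :
    ∑ g : G, F g = ∑ z : G, ∑ g : G, (if Cfsg.IsPPart p g z then F g else 0) := by
  classical
  rw [Finset.sum_comm]
  apply Finset.sum_congr rfl
  intro g _
  obtain ⟨z₀, hz₀⟩ := exists_isPPart p g
  rw [Finset.sum_eq_single z₀]
  · rw [if_pos hz₀]
  · intro z _ hne
    rw [if_neg]
    intro hz
    exact hne (isPPart_unique p hz hz₀)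
  · intro h
    exact absurd (Finset.mem_univ _) h

open Classical in
/-- the sum over the elements with a given `p`-part, for a class function, depends only on the
class of the `p`-part -/
theorem sum_isPPart_conj [Fintype G] (p : ℕ) (F : G → ℂ) (hF : Cfsg.IsClassFunction G F)
    (z t : G) :
    ∑ g : G, (if Cfsg.IsPPart p g (t * z * t⁻¹) then F g else 0) =
      ∑ g : G, (if Cfsg.IsPPart p g z then F g else 0) := by
  classical
  rw [← Equiv.sum_comp (MulAut.conj t).toEquiv]
  apply Finset.sum_congr rfl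
  intro g _
  have e1 : (MulAut.conj t).toEquiv g = t * g * t⁻¹ := rfl
  rw [e1, hF]
  have hiff : Cfsg.IsPPart p (t * g * t⁻¹) (t * z * t⁻¹) ↔ Cfsg.IsPPart p g z := by
    constructor
    · intro h
      have := IsPPart.conj h t⁻¹
      have h1 : t⁻¹ * (t * g * t⁻¹) * t⁻¹⁻¹ = g := by group
      have h2 : t⁻¹ * (t * z * t⁻¹) * t⁻¹⁻¹ = z := by group
      rwa [h1, h2] at this
    · intro h
      exact IsPPart.conj h t
  by_cases h : Cfsg.IsPPart p g z
  · rw [if_pos h, if_pos (hiff.mpr h)]
  · rw [if_neg h, if_neg (fun h' => h (hiff.mp h'))]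

open Classical in
/-- **summation over the `p`-sections** -/
theorem sum_eq_sum_sections [Fintype G] (p : ℕ) [hp : Fact p.Prime] (F : G → ℂ)
    (hF : Cfsg.IsClassFunction G F) (X : Finset G)
    (hX : ∀ x ∈ X, ∃ k : ℕ, orderOf x = p ^ k)
    (hXrep : ∀ g : G, (∃ k : ℕ, orderOf g = p ^ k) → ∃! x, x ∈ X ∧ IsConj g x) :
    ∑ g : G, F g = ∑ x ∈ X, (Nat.card {z : G // IsConj x z} : ℂ) *
      ∑ g : G, (if Cfsg.IsPPart p g x then F g else 0) := by
  classical
  rw [sum_eq_sum_isPPart p F]
  obtain ⟨S, hS⟩ : ∃ S : G → ℂ, ∀ z, S z = ∑ g : G, (if Cfsg.IsPPart p g z then F g else 0) :=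
    ⟨_, fun _ => rfl⟩
  simp_rw [← hS]
  have hSconj : ∀ z t : G, S (t * z * t⁻¹) = S z := by
    intro z t
    rw [hS, hS, sum_isPPart_conj p F hF z t]
  have hS0 : ∀ z : G, (¬ ∃ k : ℕ, orderOf z = p ^ k) → S z = 0 := by
    intro z hz
    rw [hS]
    apply Finset.sum_eq_zero
    intro g _
    rw [if_neg]
    rintro ⟨w, -, -, h, -⟩
    exact hz h
  have h1 : ∀ z : G, S z = ∑ x ∈ X, (if IsConj x z then S x else 0) := by
    intro z
    by_cases hz : ∃ k : ℕ, orderOf z = p ^ k
    · obtain ⟨x₀, ⟨hx₀X, hx₀c⟩, huniq⟩ := hXrep z hz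
      rw [Finset.sum_eq_single x₀]
      · rw [if_pos hx₀c.symm]
        obtain ⟨t, ht⟩ := isConj_iff.mp hx₀c
        rw [← ht, hSconj]
      · intro x hxX hne
        rw [if_neg]
        intro hc
        exact hne (huniq x ⟨hxX, hc.symm⟩)
      · intro h
        exact absurd hx₀X h
    · rw [hS0 z hz]
      symm
      apply Finset.sum_eq_zero
      intro x hxX
      rw [if_neg]
      intro hc
      apply hz
      obtain ⟨k, hk⟩ := hX x hxX
      refine ⟨k, ?_⟩
      obtain ⟨t, ht⟩ := isConj_iff.mp hc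
      rw [← ht]
      have := MulEquiv.orderOf_eq (MulAut.conj t) x
      rw [MulAut.conj_apply] at this
      rw [this, hk]
  rw [Finset.sum_congr rfl (fun z _ => h1 z), Finset.sum_comm]
  apply Finset.sum_congr rfl
  intro x _
  rw [← Finset.sum_filter, Finset.sum_const, nsmul_eq_mul, Nat.card_eq_fintype_card,
    Fintype.card_subtype]

end Cfsg.Agent.Helper6
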