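import Mathlib
import Cfsg.Prelude.Def_Characters
import Cfsg.Prelude.Def_Blocks
import Cfsg.Agent.Helper6.SectionOrthA
import Cfsg.Agent.Helper6.InducedPart
import Cfsg.Agent.Helper6.WeakOrth
import Cfsg.Agent.Helper6.DadeIso
import Cfsg.Agent.Helper6.MaximalPairDefect
import Cfsg.Agent.Helper6.SecondMainD

/-!
# Block kernels and orthogonality of block parts on a `p`-section (towards S4683, S4511)
-/

set_option autoImplicit false
set_option linter.style.haveILetI false

namespace Cfsg.Agent.Helper6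

open Module
open scoped ComplexConjugate

universe u

variable {G : Type u} [Group G] {M : Ideal Cfsg.AlgInt}

/-- the kernel function of a set of irreducible characters -/
noncomputable def blockKernel (E : Set (Cfsg.IrrCharacter G)) (s : G) : G → ℂ :=
  fun c => ∑ᶠ ψ ∈ E, conj ((ψ : G → ℂ) s) * (ψ : G → ℂ) c

open Classical in
theorem blockKernel_eq_sum [Fintype (Cfsg.IrrCharacter G)] (E : Set (Cfsg.IrrCharacter G))
    (s : G) : blockKernel E s = ∑ ψ : Cfsg.IrrCharacter G,
      if ψ ∈ E then conj ((ψ : G → ℂ) s) • (ψ : G → ℂ) else 0 := by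
  funext c
  unfold blockKernel
  rw [finsum_mem_eq_sum_ite, Finset.sum_apply]
  apply Finset.sum_congr rfl
  intro ψ _
  split_ifs
  · rfl
  · rfl

theorem blockKernel_isClassFunction [Finite G] (E : Set (Cfsg.IrrCharacter G)) (s : G) :
    Cfsg.IsClassFunction G (blockKernel E s) := by
  intro c d
  unfold blockKernel
  apply finsum_mem_congr rfl
  intro ψ _
  rw [IsCharacter.isClassFunction (IsIrrCharacter.isCharacter ψ.2)]

/-- the weak orthogonality property of a set of irreducible characters -/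
def WeakOrth (p : ℕ) (E : Set (Cfsg.IrrCharacter G)) : Prop :=
  ∀ s c : G, ¬ p ∣ orderOf s → p ∣ orderOf c →
    ∑ᶠ ψ ∈ E, (ψ : G → ℂ) s * conj ((ψ : G → ℂ) c) = 0

theorem weakOrth_of_isPBlock [Finite G] {p : ℕ} [hp : Fact p.Prime] (hM : Cfsg.IsPModular p M)
    (b : Set (Cfsg.IrrCharacter G)) (hb : Cfsg.IsPBlock M b) : WeakOrth p b :=
  fun s c hs hc => weak_block_orthogonality hM.2.1 p hM.2.2 b hb s c hs hc

theorem blockKernel_eq_zero [Finite G] {p : ℕ} (E : Set (Cfsg.IrrCharacter G))
    (hE : WeakOrth p E) (s c : G) (hs : ¬ p ∣ orderOf s) (hc : p ∣ orderOf c) :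
    blockKernel E s c = 0 := by
  classical
  haveI : Finite (Cfsg.IrrCharacter G) := irr_finite
  haveI : Fintype (Cfsg.IrrCharacter G) := Fintype.ofFinite _
  have h := hE s c hs hc
  have h2 := congrArg conj h
  rw [finsum_mem_eq_sum_ite, map_sum, map_zero] at h2
  unfold blockKernel
  rw [finsum_mem_eq_sum_ite]
  refine Eq.trans ?_ h2
  apply Finset.sum_congr rfl
  intro ψ _
  rw [apply_ite conj, map_zero, map_mul, Complex.conj_conj]

/-- the block part is the pairing with the kernel function -/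
theorem blockPart_eq_classInner_blockKernel [Fintype G] (E : Set (Cfsg.IrrCharacter G))
    (f : G → ℂ) (s : G) :
    Cfsg.blockPart E f s = Cfsg.classInner f (blockKernel E s) := by
  classical
  haveI : Finite (Cfsg.IrrCharacter G) := irr_finite
  haveI : Fintype (Cfsg.IrrCharacter G) := Fintype.ofFinite _
  rw [blockPart_apply, finsum_mem_eq_sum_ite, blockKernel_eq_sum, classInner_sum_right]
  apply Finset.sum_congr rfl
  intro ψ _
  split_ifs
  · rw [classInner_smul_right, Complex.conj_conj, mul_comm]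
  · rw [classInner_zero_right]

/-- the pairing of two kernel functions -/
theorem classInner_blockKernel [Fintype G] (E E' : Set (Cfsg.IrrCharacter G)) (s s' : G) :
    Cfsg.classInner (blockKernel E' s') (blockKernel E s) =
      ∑ᶠ ψ ∈ E ∩ E', (ψ : G → ℂ) s * conj ((ψ : G → ℂ) s') := by
  classical
  haveI : Finite (Cfsg.IrrCharacter G) := irr_finite
  haveI : Fintype (Cfsg.IrrCharacter G) := Fintype.ofFinite _
  rw [finsum_mem_eq_sum_ite, blockKernel_eq_sum E' s', classInner_sum_left]
  apply Finset.sum_congr rfl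
  intro ψ _
  by_cases hψ' : ψ ∈ E'
  · rw [if_pos hψ', classInner_smul_left, ← blockPart_eq_classInner_blockKernel, blockPart_apply,
      finsum_mem_eq_sum_ite]
    rw [Finset.sum_eq_single ψ]
    · rw [classInner_irr_self ψ.2, one_mul]
      by_cases hψ : ψ ∈ E
      · rw [if_pos hψ, if_pos ⟨hψ, hψ'⟩, mul_comm]
      · rw [if_neg hψ, if_neg (fun h => hψ h.1), mul_zero]
    · intro ψ₂ _ hne
      split_ifs
      · rw [classInner_irr_ne ψ.2 ψ₂.2 (fun h => hne (Subtype.ext h).symm), zero_mul]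
      · rfl
    · intro h
      exact absurd (Finset.mem_univ _) h
  · rw [if_neg hψ', classInner_zero_left, if_neg (fun h => hψ' h.2)]

open Classical in
/-- **orthogonality of block parts on a `p`-section** -/
theorem section_block_orthogonality [Fintype G] {p : ℕ} [hp : Fact p.Prime] (x : G)
    (hx : ∃ k : ℕ, orderOf x = p ^ k)
    [Fintype (Subgroup.centralizer ({x} : Set G))] [Fintype (Cfsg.IrrCharacter G)]
    (E E' : Set (Cfsg.IrrCharacter (Subgroup.centralizer ({x} : Set G))))
    (hE : WeakOrth p E) (hE' : WeakOrth p E')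
    (s s' : Subgroup.centralizer ({x} : Set G)) (hs : ¬ p ∣ orderOf s) (hs' : ¬ p ∣ orderOf s') :
    ∑ χ : Cfsg.IrrCharacter G,
      Cfsg.blockPart E
        (fun c : Subgroup.centralizer ({x} : Set G) => (χ : G → ℂ) (x * (c : G))) s *
      conj (Cfsg.blockPart E'
        (fun c : Subgroup.centralizer ({x} : Set G) => (χ : G → ℂ) (x * (c : G))) s') =
    ∑ᶠ ψ ∈ E ∩ E', (ψ : Subgroup.centralizer ({x} : Set G) → ℂ) s *
      conj ((ψ : Subgroup.centralizer ({x} : Set G) → ℂ) s') := by
  simp_rw [blockPart_eq_classInner_blockKernel]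
  rw [section_parseval x hx (blockKernel E s) (blockKernel E' s')
    (blockKernel_isClassFunction E' s') (fun c hc => blockKernel_eq_zero E hE s c hs hc)
    (fun c hc => blockKernel_eq_zero E' hE' s' c hs' hc)]
  exact classInner_blockKernel E E' s s'

/-- the part of `c ↦ χ(x c)` in a block inducing `B` vanishes on the `p`-regular elements for
`χ` outside `B` -/
theorem blockPart_section_eq_zero_of_not_mem [Finite G] {p : ℕ} [hp : Fact p.Prime]
    (hM : Cfsg.IsPModular p M) (x : G) (hx : ∃ k : ℕ, orderOf x = p ^ k)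
    (B : Set (Cfsg.IrrCharacter G))
    (e : Set (Cfsg.IrrCharacter (Subgroup.centralizer ({x} : Set G))))
    (he : Cfsg.IsInducedBlock M (Subgroup.centralizer ({x} : Set G)) e B)
    (χ : Cfsg.IrrCharacter G) (hχ : χ ∉ B)
    (s : Subgroup.centralizer ({x} : Set G)) (hs : ¬ p ∣ orderOf s) :
    Cfsg.blockPart e
      (fun c : Subgroup.centralizer ({x} : Set G) => (χ : G → ℂ) (x * (c : G))) s = 0 := by
  apply second_main hM x hx (Cfsg.blockOf M (χ : G → ℂ)) ⟨χ, rfl⟩ χ (mem_blockOf_self hM.2.1 χ)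
    e he.1 ?_ s hs
  intro h
  apply hχ
  rw [isInducedBlock_unique hM.2.1 _ e _ _ he h]
  exact mem_blockOf_self hM.2.1 χ

/-- **orthogonality of block parts on a `p`-section, summed over the induced block** -/
theorem section_block_orthogonality_block [Fintype G] {p : ℕ} [hp : Fact p.Prime]
    (hM : Cfsg.IsPModular p M) (x : G) (hx : ∃ k : ℕ, orderOf x = p ^ k)
    (B : Set (Cfsg.IrrCharacter G))
    (e e' : Set (Cfsg.IrrCharacter (Subgroup.centralizer ({x} : Set G))))
    (he : Cfsg.IsInducedBlock M (Subgroup.centralizer ({x} : Set G)) e B)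
    (he' : Cfsg.IsPBlock M e')
    (s s' : Subgroup.centralizer ({x} : Set G)) (hs : ¬ p ∣ orderOf s) (hs' : ¬ p ∣ orderOf s') :
    ∑ᶠ χ ∈ B,
      Cfsg.blockPart e
        (fun c : Subgroup.centralizer ({x} : Set G) => (χ : G → ℂ) (x * (c : G))) s *
      conj (Cfsg.blockPart e'
        (fun c : Subgroup.centralizer ({x} : Set G) => (χ : G → ℂ) (x * (c : G))) s') =
    ∑ᶠ ψ ∈ e ∩ e', (ψ : Subgroup.centralizer ({x} : Set G) → ℂ) s *
      conj ((ψ : Subgroup.centralizer ({x} : Set G) → ℂ) s') := by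
  classical
  haveI : Fintype (Subgroup.centralizer ({x} : Set G)) := Fintype.ofFinite _
  haveI : Finite (Cfsg.IrrCharacter G) := irr_finite
  haveI : Fintype (Cfsg.IrrCharacter G) := Fintype.ofFinite _
  rw [← section_block_orthogonality x hx e e' (weakOrth_of_isPBlock hM e he.1)
    (weakOrth_of_isPBlock hM e' he') s s' hs hs', finsum_mem_eq_sum_ite]
  apply Finset.sum_congr rfl
  intro χ _
  split_ifs with hχ
  · rfl
  · rw [blockPart_section_eq_zero_of_not_mem hM x hx B e he χ hχ s hs, zero_mul]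

/-- a sum over a union of blocks, block by block -/
theorem finsum_mem_blocks (hM : M.IsMaximal) [Finite (Cfsg.IrrCharacter G)]
    (Q : Set (Cfsg.IrrCharacter G) → Prop) (hQ : ∀ b, Q b → Cfsg.IsPBlock M b)
    (F : Cfsg.IrrCharacter G → ℂ) :
    ∑ᶠ ψ ∈ {ψ : Cfsg.IrrCharacter G | Q (Cfsg.blockOf M (ψ : G → ℂ))}, F ψ =
      ∑ᶠ b ∈ {b : Set (Cfsg.IrrCharacter G) | Q b}, ∑ᶠ ψ ∈ b, F ψ := by
  have hU : {ψ : Cfsg.IrrCharacter G | Q (Cfsg.blockOf M (ψ : G → ℂ))} =
      ⋃ b ∈ {b : Set (Cfsg.IrrCharacter G) | Q b}, b := by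
    ext ψ
    simp only [Set.mem_setOf_eq, Set.mem_iUnion, exists_prop]
    constructor
    · intro h
      exact ⟨_, h, mem_blockOf_self hM ψ⟩
    · rintro ⟨b, hb, hψ⟩
      rw [← eq_blockOf_of_mem hM b (hQ b hb) ψ hψ]
      exact hb
  rw [hU]
  apply finsum_mem_biUnion
  · intro b hb b' hb' hne
    rw [Function.onFun, Set.disjoint_left]
    intro ψ hψ hψ'
    apply hne
    rw [eq_blockOf_of_mem hM b (hQ b hb) ψ hψ, eq_blockOf_of_mem hM b' (hQ b' hb') ψ hψ']
  · exact Set.toFinite _
  · intro b _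
    exact Set.toFinite _

/-- a union of blocks has the weak orthogonality property -/
theorem weakOrth_of_blocks [Finite G] {p : ℕ} [hp : Fact p.Prime] (hM : Cfsg.IsPModular p M)
    (Q : Set (Cfsg.IrrCharacter G) → Prop) (hQ : ∀ b, Q b → Cfsg.IsPBlock M b) :
    WeakOrth p {ψ : Cfsg.IrrCharacter G | Q (Cfsg.blockOf M (ψ : G → ℂ))} := by
  haveI : Finite (Cfsg.IrrCharacter G) := irr_finite
  intro s c hs hc
  rw [finsum_mem_blocks hM.2.1 Q hQ]
  apply finsum_mem_eq_zero_of_forall_eq_zero
  intro b hb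
  exact weak_block_orthogonality hM.2.1 p hM.2.2 b (hQ b hb) s c hs hc

end Cfsg.Agent.Helper6
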