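import Mathlib
import Cfsg.Prelude.Def_Characters
import Cfsg.Prelude.Def_Blocks
import Cfsg.Prelude.Def_BlockRank
import Cfsg.Agent.Helper6.SectionCountA
import Cfsg.Agent.Helper6.SectionOrthB
import Cfsg.Agent.Helper6.RankTrace

/-!
# Brauer's count of the characters in a block by subsections (S4511)
-/

set_option autoImplicit false
set_option linter.style.haveILetI false

namespace Cfsg.Agent.Helper6

open Module
open scoped ComplexConjugate

universe u

variable {G : Type u} [Group G] {M : Ideal Cfsg.AlgInt}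

open Classical in
/-- the sum of `|χ|²` over a block on a `p`-section, through the blocks of the centralizer -/
theorem sum_block_normSq_section [Fintype G] {p : ℕ} [hp : Fact p.Prime]
    (hM : Cfsg.IsPModular p M) (B : Set (Cfsg.IrrCharacter G)) (hB : Cfsg.IsPBlock M B) (x : G)
    (hx : ∃ k : ℕ, orderOf x = p ^ k)
    (s : Subgroup.centralizer ({x} : Set G)) (hs : ¬ p ∣ orderOf s) :
    ∑ᶠ χ ∈ B, (χ : G → ℂ) (x * (s : G)) * conj ((χ : G → ℂ) (x * (s : G))) =
      ∑ᶠ ψ ∈ {ψ : Cfsg.IrrCharacter (Subgroup.centralizer ({x} : Set G)) |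
        Cfsg.IsInducedBlock M (Subgroup.centralizer ({x} : Set G))
          (Cfsg.blockOf M (ψ : Subgroup.centralizer ({x} : Set G) → ℂ)) B},
        (ψ : Subgroup.centralizer ({x} : Set G) → ℂ) s *
          conj ((ψ : Subgroup.centralizer ({x} : Set G) → ℂ) s) := by
  classical
  haveI : Fintype (Subgroup.centralizer ({x} : Set G)) := Fintype.ofFinite _
  haveI : Finite (Cfsg.IrrCharacter G) := irr_finite
  haveI : Fintype (Cfsg.IrrCharacter G) := Fintype.ofFinite _
  obtain ⟨E, hE⟩ : ∃ E : Set (Cfsg.IrrCharacter (Subgroup.centralizer ({x} : Set G))),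
      E = {ψ : Cfsg.IrrCharacter (Subgroup.centralizer ({x} : Set G)) |
        Cfsg.IsInducedBlock M (Subgroup.centralizer ({x} : Set G))
          (Cfsg.blockOf M (ψ : Subgroup.centralizer ({x} : Set G) → ℂ)) B} := ⟨_, rfl⟩
  have hWO : WeakOrth p E := by
    rw [hE]
    exact weakOrth_of_blocks hM
      (fun b => Cfsg.IsInducedBlock M (Subgroup.centralizer ({x} : Set G)) b B) (fun b hb => hb.1)
  have h1 := section_block_orthogonality x hx E E hWO hWO s s hs hs
  rw [Set.inter_self] at h1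
  rw [← hE, ← h1, finsum_mem_eq_sum_ite]
  apply Finset.sum_congr rfl
  intro χ _
  have h2 := second_main_sum hM x hx B hB χ s hs
  rw [← hE] at h2
  rw [blockPart_apply, h2]
  split_ifs
  · rfl
  · rw [zero_mul]

open Classical in
/-- the contribution of one `p`-section -/
theorem sum_section_eq_card_mul_ranks [Fintype G] {p : ℕ} [hp : Fact p.Prime]
    (hM : Cfsg.IsPModular p M) (B : Set (Cfsg.IrrCharacter G)) (hB : Cfsg.IsPBlock M B) (x : G)
    (hx : ∃ k : ℕ, orderOf x = p ^ k) [Fintype (Subgroup.centralizer ({x} : Set G))] :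
    ∑ s : Subgroup.centralizer ({x} : Set G), (if p ∣ orderOf s then (0 : ℂ) else
      ∑ᶠ χ ∈ B, (χ : G → ℂ) (x * (s : G)) * conj ((χ : G → ℂ) (x * (s : G)))) =
    (Nat.card (Subgroup.centralizer ({x} : Set G)) : ℂ) *
      ∑ᶠ b ∈ {b : Set (Cfsg.IrrCharacter (Subgroup.centralizer ({x} : Set G))) |
        Cfsg.IsInducedBlock M (Subgroup.centralizer ({x} : Set G)) b B},
        (Cfsg.blockRank p b : ℂ) := by
  classical
  haveI : Finite (Cfsg.IrrCharacter (Subgroup.centralizer ({x} : Set G))) := irr_finite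
  have hSfin : {b : Set (Cfsg.IrrCharacter (Subgroup.centralizer ({x} : Set G))) |
      Cfsg.IsInducedBlock M (Subgroup.centralizer ({x} : Set G)) b B}.Finite := Set.toFinite _
  have h1 : ∀ s : Subgroup.centralizer ({x} : Set G), (if p ∣ orderOf s then (0 : ℂ) else
      ∑ᶠ χ ∈ B, (χ : G → ℂ) (x * (s : G)) * conj ((χ : G → ℂ) (x * (s : G)))) =
      ∑ᶠ b ∈ {b : Set (Cfsg.IrrCharacter (Subgroup.centralizer ({x} : Set G))) |
        Cfsg.IsInducedBlock M (Subgroup.centralizer ({x} : Set G)) b B},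
        ∑ᶠ ψ ∈ b, Cfsg.pRegularPart p (ψ : Subgroup.centralizer ({x} : Set G) → ℂ) s *
          (ψ : Subgroup.centralizer ({x} : Set G) → ℂ) s⁻¹ := by
    intro s
    by_cases hs : p ∣ orderOf s
    · rw [if_pos hs]
      symm
      apply finsum_mem_eq_zero_of_forall_eq_zero
      intro b _
      apply finsum_mem_eq_zero_of_forall_eq_zero
      intro ψ _
      rw [pRegularPart_apply, if_pos hs, zero_mul]
    · rw [if_neg hs, sum_block_normSq_section hM B hB x hx s hs,
        finsum_mem_blocks hM.2.1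
          (fun b => Cfsg.IsInducedBlock M (Subgroup.centralizer ({x} : Set G)) b B)
          (fun b hb => hb.1)]
      apply finsum_mem_congr rfl
      intro b _
      apply finsum_mem_congr rfl
      intro ψ _
      rw [pRegularPart_apply, if_neg hs, IsCharacter.inv_eq_conj (IsIrrCharacter.isCharacter ψ.2)]
  simp_rw [h1]
  rw [← finsum_mem_coe_finset,
    finsum_mem_comm _ (Finset.finite_toSet _) hSfin, mul_finsum_mem]
  apply finsum_mem_congr rfl
  intro b hb
  rw [card_mul_blockRank hM.2.1 p hM.2.2 b hb.1, finsum_mem_coe_finset]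

/-- **Brauer's count of the irreducible characters in a block by subsections** -/
theorem card_block_eq_sum_blockRank [Finite G] {p : ℕ} [hp : Fact p.Prime]
    (hM : Cfsg.IsPModular p M) (B : Set (Cfsg.IrrCharacter G)) (hB : Cfsg.IsPBlock M B)
    (X : Finset G) (hX : ∀ x ∈ X, ∃ k : ℕ, orderOf x = p ^ k)
    (hXrep : ∀ g : G, (∃ k : ℕ, orderOf g = p ^ k) → ∃! x, x ∈ X ∧ IsConj g x) :
    Nat.card B = ∑ x ∈ X,
      ∑ᶠ b ∈ {b : Set (Cfsg.IrrCharacter (Subgroup.centralizer ({x} : Set G))) |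
        Cfsg.IsInducedBlock M (Subgroup.centralizer ({x} : Set G)) b B}, Cfsg.blockRank p b := by
  classical
  haveI : Fintype G := Fintype.ofFinite G
  haveI : Finite (Cfsg.IrrCharacter G) := irr_finite
  haveI : Fintype (Cfsg.IrrCharacter G) := Fintype.ofFinite _
  have hG0 : (Nat.card G : ℂ) ≠ 0 := by
    have : 0 < Nat.card G := Nat.card_pos
    exact_mod_cast this.ne'
  obtain ⟨Λ, hΛ⟩ : ∃ Λ : G → ℂ, ∀ g, Λ g =
      ∑ᶠ χ ∈ B, (χ : G → ℂ) g * conj ((χ : G → ℂ) g) := ⟨_, fun _ => rfl⟩
  have hΛcf : Cfsg.IsClassFunction G Λ := by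
    intro g h
    rw [hΛ, hΛ]
    apply finsum_mem_congr rfl
    intro χ _
    rw [IsCharacter.isClassFunction (IsIrrCharacter.isCharacter χ.2)]
  -- the total sum
  have hleft : ∑ g : G, Λ g = (Nat.card G : ℂ) * (Nat.card B : ℂ) := by
    simp_rw [hΛ, finsum_mem_eq_sum_ite]
    rw [Finset.sum_comm]
    have h1 : ∀ χ : Cfsg.IrrCharacter G, ∑ g : G,
        (if χ ∈ B then (χ : G → ℂ) g * conj ((χ : G → ℂ) g) else 0) =
        if χ ∈ B then (Nat.card G : ℂ) else 0 := by
      intro χ
      split_ifs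
      · have h2 := classInner_irr_self χ.2
        rw [classInner_def] at h2
        rw [← mul_one (Nat.card G : ℂ), ← h2, ← mul_assoc, mul_inv_cancel₀ hG0, one_mul]
      · rw [Finset.sum_const_zero]
    simp_rw [h1]
    rw [← Finset.sum_filter, Finset.sum_const, nsmul_eq_mul, mul_comm]
    congr 2
    rw [Nat.card_eq_fintype_card, Fintype.card_subtype]
  -- the sum section by section
  have hright : ∑ g : G, Λ g = (Nat.card G : ℂ) * ∑ x ∈ X,
      ∑ᶠ b ∈ {b : Set (Cfsg.IrrCharacter (Subgroup.centralizer ({x} : Set G))) |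
        Cfsg.IsInducedBlock M (Subgroup.centralizer ({x} : Set G)) b B},
        (Cfsg.blockRank p b : ℂ) := by
    rw [sum_eq_sum_sections p Λ hΛcf X hX hXrep, Finset.mul_sum]
    apply Finset.sum_congr rfl
    intro x hxX
    haveI : Fintype (Subgroup.centralizer ({x} : Set G)) := Fintype.ofFinite _
    rw [sum_isPPart_eq x (hX x hxX) Λ]
    simp_rw [hΛ]
    rw [sum_section_eq_card_mul_ranks hM B hB x (hX x hxX), ← mul_assoc]
    congr 1
    exact_mod_cast card_conj_mul_card_centralizer x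
  have hfinal := hleft.symm.trans hright
  have h3 := mul_left_cancel₀ hG0 hfinal
  have h4 : (∑ x ∈ X,
      ∑ᶠ b ∈ {b : Set (Cfsg.IrrCharacter (Subgroup.centralizer ({x} : Set G))) |
        Cfsg.IsInducedBlock M (Subgroup.centralizer ({x} : Set G)) b B},
        (Cfsg.blockRank p b : ℂ)) =
      ((∑ x ∈ X,
      ∑ᶠ b ∈ {b : Set (Cfsg.IrrCharacter (Subgroup.centralizer ({x} : Set G))) |
        Cfsg.IsInducedBlock M (Subgroup.centralizer ({x} : Set G)) b B},
        Cfsg.blockRank p b : ℕ) : ℂ) := by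
    rw [Nat.cast_sum]
    apply Finset.sum_congr rfl
    intro x _
    haveI : Finite (Cfsg.IrrCharacter (Subgroup.centralizer ({x} : Set G))) := irr_finite
    rw [Nat.cast_finsum_mem (Set.toFinite _)]
  rw [h4] at h3
  exact_mod_cast h3

end Cfsg.Agent.Helper6
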