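import Mathlib
import Cfsg.Prelude.Def_Characters
import Cfsg.Prelude.Def_Blocks
import Cfsg.Prelude.Def_BlockRank
import Cfsg.Agent.Helper6.SectionCountB
import Cfsg.Agent.Helper6.NilpPrincipal

/-!
# Consequences of Brauer's count of characters by subsections
-/

set_option autoImplicit false
set_option linter.style.haveILetI false

namespace Cfsg.Agent.Helper6

open Module
open scoped ComplexConjugate

universe u

variable {G : Type u} [Group G] {M : Ideal Cfsg.AlgInt}

/-- a nonempty set of irreducible characters has positive `p`-regular rank -/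
theorem blockRank_pos [Finite G] (p : ℕ) [hp : Fact p.Prime] (B : Set (Cfsg.IrrCharacter G))
    (ψ : Cfsg.IrrCharacter G) (hψ : ψ ∈ B) : 0 < Cfsg.blockRank p B := by
  unfold Cfsg.blockRank
  rw [Module.finrank_pos_iff_exists_ne_zero]
  refine ⟨⟨Cfsg.pRegularPart p (ψ : G → ℂ), Submodule.subset_span ⟨ψ, hψ, rfl⟩⟩, ?_⟩
  intro h
  have h1 := congrArg Subtype.val h
  have h2 := congrFun h1 1
  simp only [ZeroMemClass.coe_zero, Pi.zero_apply] at h2
  rw [pRegularPart_of_isPRegular _ _ isPRegular_one] at h2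
  exact IsIrrCharacter.apply_one_ne_zero ψ.2 h2

/-- a set of representatives of the classes of `p`-elements through a given `p`-element -/
theorem exists_section_reps [Finite G] (p : ℕ) (x₀ : G) (hx₀ : ∃ k : ℕ, orderOf x₀ = p ^ k) :
    ∃ X : Finset G, x₀ ∈ X ∧ (∀ x ∈ X, ∃ k : ℕ, orderOf x = p ^ k) ∧
      ∀ g : G, (∃ k : ℕ, orderOf g = p ^ k) → ∃! x, x ∈ X ∧ IsConj g x := by
  classical
  haveI : Fintype G := Fintype.ofFinite G
  obtain ⟨r, hr⟩ : ∃ r : G → G, ∀ g, r g =
      if IsConj g x₀ then x₀ else Quotient.out (ConjClasses.mk g) := ⟨_, fun _ => rfl⟩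
  have hrconj : ∀ g, IsConj g (r g) := by
    intro g
    rw [hr]
    split_ifs with h
    · exact h
    · have h1 : ConjClasses.mk (Quotient.out (ConjClasses.mk g)) = ConjClasses.mk g :=
        Quotient.out_eq _
      exact (ConjClasses.mk_eq_mk_iff_isConj.mp h1).symm
  have hrclass : ∀ g g', IsConj g g' → r g = r g' := by
    intro g g' h
    rw [hr, hr]
    have hiff : IsConj g x₀ ↔ IsConj g' x₀ :=
      ⟨fun h1 => h.symm.trans h1, fun h1 => h.trans h1⟩
    by_cases h1 : IsConj g x₀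
    · rw [if_pos h1, if_pos (hiff.mp h1)]
    · rw [if_neg h1, if_neg (fun h2 => h1 (hiff.mpr h2))]
      rw [ConjClasses.mk_eq_mk_iff_isConj.mpr h]
  have hord : ∀ g g' : G, IsConj g g' → orderOf g' = orderOf g := by
    intro g g' h
    obtain ⟨t, ht⟩ := isConj_iff.mp h
    rw [← ht]
    have := MulEquiv.orderOf_eq (MulAut.conj t) g
    rw [MulAut.conj_apply] at this
    exact this
  refine ⟨(Finset.univ.filter (fun g : G => ∃ k : ℕ, orderOf g = p ^ k)).image r, ?_, ?_, ?_⟩
  · rw [Finset.mem_image]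
    refine ⟨x₀, Finset.mem_filter.mpr ⟨Finset.mem_univ _, hx₀⟩, ?_⟩
    rw [hr, if_pos (IsConj.refl x₀)]
  · intro x hx
    rw [Finset.mem_image] at hx
    obtain ⟨g, hg, rfl⟩ := hx
    obtain ⟨k, hk⟩ := (Finset.mem_filter.mp hg).2
    exact ⟨k, by rw [hord g (r g) (hrconj g), hk]⟩
  · intro g hg
    refine ⟨r g, ⟨?_, hrconj g⟩, ?_⟩
    · rw [Finset.mem_image]
      exact ⟨g, Finset.mem_filter.mpr ⟨Finset.mem_univ _, hg⟩, rfl⟩
    · rintro x' ⟨hx'X, hx'c⟩
      rw [Finset.mem_image] at hx'X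
      obtain ⟨g', -, rfl⟩ := hx'X
      exact hrclass g' g ((hrconj g').trans hx'c.symm)

end Cfsg.Agent.Helper6
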