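import Mathlib
import Cfsg.Prelude.Def_Characters
import Cfsg.Prelude.Def_Blocks
import Cfsg.Prelude.Def_Transfer
import Cfsg.Agent.Helper6.Codegree
import Cfsg.Agent.Helper6.CentralChar
import Cfsg.Agent.Helper6.GaloisChar
import Cfsg.Agent.Helper6.Linear

/-!
# Characters of extraspecial groups
-/

set_option autoImplicit false
set_option linter.style.haveILetI false

namespace Cfsg.Agent.Helper6

open Module Representation ComplexConjugate
open scoped commutatorElement

universe u v

variable {P : Type u} [Group P]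

/-- A non-central element of a group whose commutator subgroup is central is conjugate to itself
times a non-identity central element. -/
theorem exists_conj_eq_central_mul (hcomm : commutator P = Subgroup.center P) (g : P)
    (hg : g ∉ Subgroup.center P) :
    ∃ h c : P, c ∈ Subgroup.center P ∧ c ≠ 1 ∧ h * g * h⁻¹ = c * g := by
  rw [Subgroup.mem_center_iff] at hg
  push Not at hg
  obtain ⟨h, hh⟩ := hg
  refine ⟨h, ⁅h, g⁆, ?_, ?_, ?_⟩
  · rw [← hcomm, commutator_def]
    exact Subgroup.commutator_mem_commutator (Subgroup.mem_top h) (Subgroup.mem_top g)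
  · intro h1
    rw [commutatorElement_eq_one_iff_mul_comm] at h1
    exact hh h1
  · rw [commutatorElement_def]
    group

/-- In a group whose centre has prime order, any non-identity central element generates the
centre. -/
theorem center_subset_powers [Finite P] (p : ℕ) [hp : Fact p.Prime]
    (hZ : Nat.card (Subgroup.center P) = p) (c : P) (hc : c ∈ Subgroup.center P) (hc1 : c ≠ 1)
    (z : P) (hz : z ∈ Subgroup.center P) : ∃ k : ℕ, c ^ k = z := by
  have h1 : Subgroup.zpowers (⟨c, hc⟩ : Subgroup.center P) = ⊤ := by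
    apply zpowers_eq_top_of_prime_card hZ
    intro h
    apply hc1
    exact congrArg Subtype.val h
  have h2 : (⟨z, hz⟩ : Subgroup.center P) ∈ Subgroup.zpowers (⟨c, hc⟩ : Subgroup.center P) := by
    rw [h1]
    exact Subgroup.mem_top _
  rw [← mem_powers_iff_mem_zpowers] at h2
  obtain ⟨k, hk⟩ := h2
  refine ⟨k, ?_⟩
  have := congrArg Subtype.val hk
  simpa using this

/-- central elements act by scalars -/
theorem exists_scalar_of_mem_center [Finite P] {V : Type v} [AddCommGroup V] [Module ℂ V]
    [FiniteDimensional ℂ V] (ρ : Representation ℂ P V) [ρ.IsIrreducible] (z : P)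
    (hz : z ∈ Subgroup.center P) : ∃ ω : ℂ, ρ z = ω • (LinearMap.id : V →ₗ[ℂ] V) := by
  apply exists_scalar_of_commute ρ (ρ z)
  intro g
  rw [Subgroup.mem_center_iff] at hz
  change ρ z * ρ g = ρ g * ρ z
  rw [← map_mul, ← map_mul, hz g]

/-- An irreducible character of an extraspecial group that is non-trivial on the centre vanishes
off the centre. -/
theorem extraspecial_vanish [Finite P] (p : ℕ) [hp : Fact p.Prime]
    (hcomm : commutator P = Subgroup.center P) (hZ : Nat.card (Subgroup.center P) = p)
    {V : Type v} [AddCommGroup V] [Module ℂ V]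
    [FiniteDimensional ℂ V] (ρ : Representation ℂ P V) [ρ.IsIrreducible]
    (hker : ∃ z ∈ Subgroup.center P, ρ z ≠ 1) (g : P) (hg : g ∉ Subgroup.center P) :
    ρ.character g = 0 := by
  obtain ⟨h, c, hc, hc1, hconj⟩ := exists_conj_eq_central_mul hcomm g hg
  obtain ⟨ω, hω⟩ := exists_scalar_of_mem_center ρ c hc
  have hω1 : ω ≠ 1 := by
    intro h1
    rw [h1, one_smul] at hω
    obtain ⟨z, hz, hρz⟩ := hker
    apply hρz
    obtain ⟨k, rfl⟩ := center_subset_powers p hZ c hc hc1 z hz
    rw [map_pow, hω]
    exact one_pow k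
  have h2 : ρ.character (h * g * h⁻¹) = ρ.character g := Representation.char_conj ρ g h
  rw [hconj] at h2
  have h3 : ρ.character (c * g) = ω * ρ.character g := by
    unfold Representation.character
    rw [map_mul, hω]
    change LinearMap.trace ℂ V ((ω • (1 : Module.End ℂ V)) * ρ g) = _
    rw [smul_mul_assoc, one_mul, map_smul, smul_eq_mul]
  rw [h3] at h2
  have h4 : (ω - 1) * ρ.character g = 0 := by
    rw [sub_mul, h2, one_mul, sub_self]
  rcases mul_eq_zero.mp h4 with h5 | h5
  · exact absurd (sub_eq_zero.mp h5) hω1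
  · exact h5

/-- degree of an irreducible character non-trivial on the centre of an extraspecial group -/
theorem extraspecial_degree [Finite P] (p n : ℕ) [hp : Fact p.Prime]
    (hcomm : commutator P = Subgroup.center P) (hZ : Nat.card (Subgroup.center P) = p)
    (hcard : Nat.card P = p ^ (2 * n + 1))
    {V : Type v} [AddCommGroup V] [Module ℂ V]
    [FiniteDimensional ℂ V] (ρ : Representation ℂ P V) [hirr : ρ.IsIrreducible]
    (hker : ∃ z ∈ Subgroup.center P, ρ z ≠ 1) : finrank ℂ V = p ^ n := by
  classical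
  haveI := Fintype.ofFinite P
  have hχ : Cfsg.IsIrrCharacter P ρ.character := isIrrCharacter_of_rep ρ hirr
  have h1 := sum_norm_sq_irr hχ
  have h2 : ∑ g : P, ‖ρ.character g‖ ^ 2 =
      ∑ g ∈ Finset.univ.filter (fun g : P => g ∈ Subgroup.center P), ((finrank ℂ V : ℝ)) ^ 2 := by
    rw [Finset.sum_filter]
    apply Finset.sum_congr rfl
    intro g _
    split_ifs with hg
    · have := (norm_char_eq_iff ρ g).mpr (exists_scalar_of_mem_center ρ g hg)
      rw [this]
    · rw [extraspecial_vanish p hcomm hZ ρ hker g hg]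
      simp
  rw [h2, Finset.sum_const, nsmul_eq_mul] at h1
  have h3 : (Finset.univ.filter (fun g : P => g ∈ Subgroup.center P)).card = p := by
    rw [← hZ, Nat.card_eq_fintype_card, Fintype.card_subtype]
  rw [h3, hcard] at h1
  have h4 : p * (finrank ℂ V) ^ 2 = p ^ (2 * n + 1) := by exact_mod_cast h1
  have h5 : (finrank ℂ V) ^ 2 = (p ^ n) ^ 2 := by
    have : p ^ (2 * n + 1) = p * (p ^ n) ^ 2 := by ring
    rw [this] at h4
    exact Nat.eq_of_mul_eq_mul_left hp.out.pos h4
  exact Nat.pow_left_injective (two_ne_zero) h5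

/-- An irreducible representation trivial on the centre of a group with central commutator
subgroup has degree one. -/
theorem degree_one_of_center_le_ker [Finite P] (hcomm : commutator P = Subgroup.center P)
    {V : Type v} [AddCommGroup V] [Module ℂ V]
    [FiniteDimensional ℂ V] (ρ : Representation ℂ P V) [hirr : ρ.IsIrreducible]
    (hker : ∀ z ∈ Subgroup.center P, ρ z = 1) : finrank ℂ V = 1 := by
  haveI := quotientRep_isIrreducible ρ (Subgroup.center P) hker
  have hχ : Cfsg.IsIrrCharacter (P ⧸ Subgroup.center P)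
      (quotientRep ρ (Subgroup.center P) hker).character :=
    isIrrCharacter_of_rep _ inferInstance
  have hab : ∀ a b : P ⧸ Subgroup.center P, a * b = b * a := by
    intro a b
    obtain ⟨a, rfl⟩ := QuotientGroup.mk_surjective a
    obtain ⟨b, rfl⟩ := QuotientGroup.mk_surjective b
    rw [← QuotientGroup.mk_mul, ← QuotientGroup.mk_mul, QuotientGroup.eq]
    rw [← hcomm, commutator_def]
    have : (a * b)⁻¹ * (b * a) = ⁅b⁻¹, a⁻¹⁆ := by
      rw [commutatorElement_def]
      group
    rw [this]
    exact Subgroup.commutator_mem_commutator (Subgroup.mem_top _) (Subgroup.mem_top _)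
  have h1 := (comm_iff_forall_irr_degree_one.mp hab) ⟨_, hχ⟩
  simp only at h1
  rw [Representation.char_one] at h1
  exact_mod_cast h1


/-- Degrees of the irreducible characters of an extraspecial group. -/
theorem extraspecial_irr_degrees [Finite P] (p n : ℕ) [hp : Fact p.Prime]
    (hP : Cfsg.IsExtraspecial p P) (hcard : Nat.card P = p ^ (2 * n + 1)) :
    (∀ χ : Cfsg.IrrCharacter P, (χ : P → ℂ) 1 = 1 ∨ (χ : P → ℂ) 1 = (p : ℂ) ^ n) ∧
      Nat.card {χ : Cfsg.IrrCharacter P // (χ : P → ℂ) 1 = (p : ℂ) ^ n} = p - 1 := by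
  classical
  obtain ⟨⟨-, -, hcomm⟩, hZ⟩ := hP
  haveI : Finite (Cfsg.IrrCharacter P) := irr_finite
  haveI : Fintype (Cfsg.IrrCharacter P) := Fintype.ofFinite _
  have hp2 : 2 ≤ p := hp.out.two_le
  -- n ≥ 1
  have hn : 1 ≤ n := by
    by_contra hn0
    have hn0 : n = 0 := by omega
    subst hn0
    have hZtop : Subgroup.center P = ⊤ := by
      apply Subgroup.eq_top_of_card_eq
      rw [hZ, hcard]
      simp
    have hbot : commutator P = ⊥ := by
      rw [commutator_def, Subgroup.commutator_top_left_eq_bot_iff_le_center]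
      exact le_top.trans_eq hZtop.symm
    rw [hcomm] at hbot
    rw [hbot] at hZ
    simp at hZ
    omega
  have hA : ∀ χ : Cfsg.IrrCharacter P,
      (∀ z ∈ Subgroup.center P, (χ : P → ℂ) z = (χ : P → ℂ) 1) →
      (χ : P → ℂ) 1 = 1 ∧ Cfsg.charDegree (χ : P → ℂ) = 1 := by
    intro χ h
    obtain ⟨m, ρ, hirr, hρ⟩ := χ.2
    have hker : ∀ z ∈ Subgroup.center P, ρ z = 1 := by
      intro z hz
      have := h z hz
      rw [← hρ, Representation.char_one, char_eq_finrank_iff] at this
      exact this
    have hd := degree_one_of_center_le_ker hcomm ρ hker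
    constructor
    · rw [← hρ, Representation.char_one, hd, Nat.cast_one]
    · rw [← hρ, charDegree_rep]
      simpa using hd
  have hB : ∀ χ : Cfsg.IrrCharacter P,
      ¬ (∀ z ∈ Subgroup.center P, (χ : P → ℂ) z = (χ : P → ℂ) 1) →
      (χ : P → ℂ) 1 = (p : ℂ) ^ n ∧ Cfsg.charDegree (χ : P → ℂ) = p ^ n := by
    intro χ h
    obtain ⟨m, ρ, hirr, hρ⟩ := χ.2
    push Not at h
    obtain ⟨z, hz, hne⟩ := h
    have hker : ∃ z ∈ Subgroup.center P, ρ z ≠ 1 := by
      refine ⟨z, hz, ?_⟩
      intro h1
      apply hne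
      rw [← hρ, Representation.char_one, char_eq_finrank_iff]
      exact h1
    have hd := extraspecial_degree p n hcomm hZ hcard ρ hker
    constructor
    · rw [← hρ, Representation.char_one, hd]
      push_cast
      rfl
    · rw [← hρ, charDegree_rep]
      simpa using hd
  have hpn : 2 ≤ p ^ n := by
    calc 2 ≤ p := hp2
      _ = p ^ 1 := (pow_one p).symm
      _ ≤ p ^ n := Nat.pow_le_pow_right hp.out.pos hn
  refine ⟨?_, ?_⟩
  · intro χ
    by_cases h : ∀ z ∈ Subgroup.center P, (χ : P → ℂ) z = (χ : P → ℂ) 1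
    · exact Or.inl (hA χ h).1
    · exact Or.inr (hB χ h).1
  · have h1 := sum_sq_charDegree (G := P)
    have h2 := sum_sq_degrees_of_le_ker (G := P) (Subgroup.center P)
    rw [← Finset.sum_filter_add_sum_filter_not Finset.univ
      (fun χ : Cfsg.IrrCharacter P => ∀ n ∈ Subgroup.center P, (χ : P → ℂ) n = (χ : P → ℂ) 1),
      h2] at h1
    have hidx : (Subgroup.center P).index = p ^ (2 * n) := by
      have := Subgroup.card_mul_index (Subgroup.center P)
      rw [hZ, hcard] at this
      have h3 : p ^ (2 * n + 1) = p * p ^ (2 * n) := by ring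
      rw [h3] at this
      exact Nat.eq_of_mul_eq_mul_left hp.out.pos this
    have h3 : ∑ χ ∈ Finset.univ.filter (fun χ : Cfsg.IrrCharacter P =>
        ¬ ∀ n ∈ Subgroup.center P, (χ : P → ℂ) n = (χ : P → ℂ) 1),
        Cfsg.charDegree (χ : P → ℂ) ^ 2 =
        (Finset.univ.filter (fun χ : Cfsg.IrrCharacter P =>
        ¬ ∀ n ∈ Subgroup.center P, (χ : P → ℂ) n = (χ : P → ℂ) 1)).card * p ^ (2 * n) := by
      rw [Finset.sum_congr rfl (fun χ hχ => by
        rw [(hB χ (Finset.mem_filter.mp hχ).2).2]), Finset.sum_const, smul_eq_mul]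
      ring
    rw [h3, hidx, hcard] at h1
    have h4 : (Finset.univ.filter (fun χ : Cfsg.IrrCharacter P =>
        ¬ ∀ n ∈ Subgroup.center P, (χ : P → ℂ) n = (χ : P → ℂ) 1)).card = p - 1 := by
      have h5 : p ^ (2 * n + 1) = p * p ^ (2 * n) := by ring
      rw [h5] at h1
      have h6 : (1 + (Finset.univ.filter (fun χ : Cfsg.IrrCharacter P =>
        ¬ ∀ n ∈ Subgroup.center P, (χ : P → ℂ) n = (χ : P → ℂ) 1)).card) * p ^ (2 * n) =
          p * p ^ (2 * n) := by
        rw [← h1]
        ring
      have h7 := Nat.eq_of_mul_eq_mul_right (pow_pos hp.out.pos _) h6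
      omega
    rw [← h4, Nat.card_eq_fintype_card, Fintype.card_subtype]
    congr 1
    apply Finset.filter_congr
    intro χ _
    constructor
    · intro h hA'
      have h8 := (hA χ hA').1
      rw [h8] at h
      have : (1 : ℕ) = p ^ n := by exact_mod_cast h
      omega
    · intro h
      exact (hB χ h).1

end Cfsg.Agent.Helper6
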