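import Mathlib
import Cfsg.Prelude.Def_Characters
import Cfsg.Prelude.Def_Blocks
import Cfsg.Prelude.Def_BlockRank
import Cfsg.Agent.Helper6.ContribA
import Cfsg.Agent.Helper6.DefectOneTwoA
import Cfsg.Agent.Helper6.DefectOneTwoB
import Cfsg.Agent.Helper6.Extraspecial
import Cfsg.Agent.Helper6.RankTrace
import Cfsg.Agent.Helper6.DefectOrder

/-!
# Blocks with a central defect group have `p`-regular rank one (S4669)
-/

set_option autoImplicit false
set_option linter.style.haveILetI false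

namespace Cfsg.Agent.Helper6

open Module
open scoped ComplexConjugate

universe u

variable {G : Type u} [Group G] {M : Ideal Cfsg.AlgInt}

/-- a central element multiplies the values of an irreducible character by a scalar of norm one -/
theorem irr_center_mul [Finite G] (χ : Cfsg.IrrCharacter G) (z : G)
    (hz : z ∈ Subgroup.center G) :
    ∃ ω : ℂ, ‖ω‖ = 1 ∧ ∀ g : G, (χ : G → ℂ) (z * g) = ω * (χ : G → ℂ) g := by
  obtain ⟨n, ρ, hirr, hχ⟩ := χ.2
  haveI := hirr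
  obtain ⟨ω, hω⟩ := exists_scalar_of_mem_center ρ z hz
  have hmul : ∀ g : G, (χ : G → ℂ) (z * g) = ω * (χ : G → ℂ) g := by
    intro g
    rw [← hχ]
    show LinearMap.trace ℂ _ (ρ (z * g)) = ω * LinearMap.trace ℂ _ (ρ g)
    have h1 : ρ (z * g) = ω • ρ g := by
      rw [map_mul, hω, smul_mul_assoc]
      rfl
    rw [h1, map_smul, smul_eq_mul]
  refine ⟨ω, ?_, hmul⟩
  have hk : 0 < orderOf z := orderOf_pos z
  have h1 := hmul (z ^ (orderOf z - 1))
  have hpow : ∀ k : ℕ, (χ : G → ℂ) (z ^ k) = ω ^ k * (χ : G → ℂ) 1 := by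
    intro k
    induction k with
    | zero => rw [pow_zero, pow_zero, one_mul]
    | succ k ih => rw [pow_succ', hmul, ih, pow_succ']; ring
  have h2 := hpow (orderOf z)
  rw [pow_orderOf_eq_one] at h2
  have hχ1 : (χ : G → ℂ) 1 ≠ 0 := IsIrrCharacter.apply_one_ne_zero χ.2
  have h3 : ω ^ orderOf z = 1 := by
    have : (1 : ℂ) * (χ : G → ℂ) 1 = ω ^ orderOf z * (χ : G → ℂ) 1 := by rw [one_mul]; exact h2
    exact (mul_right_cancel₀ hχ1 this).symm
  have h4 : ‖ω‖ ^ orderOf z = 1 := by rw [← norm_pow, h3, norm_one]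
  exact (pow_eq_one_iff_of_nonneg (norm_nonneg ω) hk.ne').mp h4

/-- for a central `p`-subgroup `P`, the `p`-regular elements carry at most the fraction `1/|P|` of
the norm of an irreducible character -/
theorem card_mul_truncInt_le [Fintype G] (p : ℕ) [hp : Fact p.Prime] (P : Subgroup G)
    (hP : IsPGroup p P) (hPZ : P ≤ Subgroup.center G) (χ : Cfsg.IrrCharacter G) :
    (Nat.card P : ℤ) * truncInt p χ χ ≤ (p : ℤ) ^ (Nat.card G).factorization p := by
  classical
  obtain ⟨F, hF⟩ : ∃ F : G → ℝ, ∀ g, F g = ‖(χ : G → ℂ) g‖ ^ 2 := ⟨_, fun _ => rfl⟩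
  have hFnn : ∀ g, 0 ≤ F g := fun g => by rw [hF]; positivity
  have hGpos : (0 : ℝ) < (Nat.card G : ℝ) := by exact_mod_cast Nat.card_pos
  have hG0 : (Nat.card G : ℂ) ≠ 0 := by
    have : 0 < Nat.card G := Nat.card_pos
    exact_mod_cast this.ne'
  -- the total norm
  have hsumF : ∑ g : G, F g = (Nat.card G : ℝ) := by
    have h1 := classInner_irr_self χ.2
    rw [classInner_self_eq] at h1
    have h2 : ((∑ g : G, ‖(χ : G → ℂ) g‖ ^ 2 : ℝ) : ℂ) = (Nat.card G : ℂ) := by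
      have := congrArg (fun t => (Nat.card G : ℂ) * t) h1
      beta_reduce at this
      rwa [← mul_assoc, mul_inv_cancel₀ hG0, one_mul, mul_one] at this
    simp_rw [hF]
    exact_mod_cast h2
  -- the norm on the regular elements
  obtain ⟨Rf, hRf⟩ : ∃ Rf : Finset G, Rf = Finset.univ.filter (fun g : G => ¬ p ∣ orderOf g) :=
    ⟨_, rfl⟩
  obtain ⟨Pf, hPf⟩ : ∃ Pf : Finset G, Pf = Finset.univ.filter (fun g : G => g ∈ P) := ⟨_, rfl⟩
  have hR : ((truncInt p χ χ : ℤ) : ℝ) * (Nat.card G : ℝ) =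
      ((p ^ (Nat.card G).factorization p : ℕ) : ℝ) * ∑ g ∈ Rf, F g := by
    have h1 := classInner_pRegularPart p χ χ
    rw [classInner_self_eq] at h1
    have h2 : ∑ g : G, ‖Cfsg.pRegularPart p (χ : G → ℂ) g‖ ^ 2 = ∑ g ∈ Rf, F g := by
      rw [hRf, Finset.sum_filter]
      apply Finset.sum_congr rfl
      intro g _
      rw [pRegularPart_apply]
      split_ifs with h
      · simp
      · rw [hF]
    rw [h2] at h1
    have h3 : ((p ^ (Nat.card G).factorization p : ℕ) : ℂ) * ((∑ g ∈ Rf, F g : ℝ) : ℂ) =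
        (truncInt p χ χ : ℂ) * (Nat.card G : ℂ) := by
      rw [← h1]
      field_simp
    have h4 : (((truncInt p χ χ : ℤ) : ℝ) * (Nat.card G : ℝ) : ℂ) =
        ((((p ^ (Nat.card G).factorization p : ℕ) : ℝ) * ∑ g ∈ Rf, F g : ℝ) : ℂ) := by
      push_cast
      rw [← h3]
      push_cast
      rfl
    exact_mod_cast h4
  -- the injection
  have hcomm : ∀ z ∈ Pf, ∀ s : G, Commute z s := by
    intro z hz s
    rw [hPf, Finset.mem_filter] at hz
    have := hPZ hz.2
    rw [Subgroup.mem_center_iff] at this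
    exact (this s).symm
  have hzp : ∀ z ∈ Pf, ∃ k : ℕ, orderOf z = p ^ k := by
    intro z hz
    rw [hPf, Finset.mem_filter] at hz
    obtain ⟨k, hk⟩ := (IsPGroup.iff_orderOf.mp hP) ⟨z, hz.2⟩
    exact ⟨k, by rw [← Subgroup.orderOf_coe] at hk; exact hk⟩
  have hinj : Set.InjOn (fun zs : G × G => zs.1 * zs.2) ((Pf ×ˢ Rf : Finset (G × G)) : Set (G × G)) := by
    rintro ⟨z, s⟩ hzs ⟨z', s'⟩ hzs' heq
    rw [Finset.mem_coe, Finset.mem_product] at hzs hzs'
    simp only at heq hzs hzs'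
    have hs : ¬ p ∣ orderOf s := by
      have := hzs.2
      rw [hRf, Finset.mem_filter] at this
      exact this.2
    have hs' : ¬ p ∣ orderOf s' := by
      have := hzs'.2
      rw [hRf, Finset.mem_filter] at this
      exact this.2
    have h1 : Cfsg.IsPPart p (z * s) z := ⟨s, rfl, hcomm z hzs.1 s, hzp z hzs.1, hs⟩
    have h2 : Cfsg.IsPPart p (z * s) z' := ⟨s', heq.symm, hcomm z' hzs'.1 s', hzp z' hzs'.1, hs'⟩
    have hzz := isPPart_unique p h1 h2
    subst hzz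
    rw [Prod.mk.injEq]
    exact ⟨rfl, mul_left_cancel heq⟩
  have hval : ∀ z ∈ Pf, ∀ s : G, F (z * s) = F s := by
    intro z hz s
    rw [hPf, Finset.mem_filter] at hz
    obtain ⟨ω, hω1, hω2⟩ := irr_center_mul χ z (hPZ hz.2)
    rw [hF, hF, hω2, norm_mul, hω1, one_mul]
  have hineq : (Nat.card P : ℝ) * ∑ g ∈ Rf, F g ≤ ∑ g : G, F g := by
    have h1 : ∑ g ∈ (Pf ×ˢ Rf).image (fun zs : G × G => zs.1 * zs.2), F g ≤ ∑ g : G, F g :=
      Finset.sum_le_sum_of_subset_of_nonneg (Finset.subset_univ _) (fun g _ _ => hFnn g)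
    rw [Finset.sum_image hinj, Finset.sum_product] at h1
    have h2 : ∑ z ∈ Pf, ∑ s ∈ Rf, F (z * s) = (Pf.card : ℝ) * ∑ g ∈ Rf, F g := by
      rw [Finset.sum_congr rfl (fun z hz => Finset.sum_congr rfl (fun s _ => hval z hz s)),
        Finset.sum_const, nsmul_eq_mul]
    rw [h2] at h1
    have h3 : Pf.card = Nat.card P := by
      rw [hPf, Nat.card_eq_fintype_card, Fintype.card_subtype]
    rw [← h3]
    exact h1
  rw [hsumF] at hineq
  have hfinal : (((Nat.card P : ℤ) * truncInt p χ χ : ℤ) : ℝ) ≤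
      (((p : ℤ) ^ (Nat.card G).factorization p : ℤ) : ℝ) := by
    push_cast
    have hpa : (0 : ℝ) ≤ ((p ^ (Nat.card G).factorization p : ℕ) : ℝ) := by positivity
    have h5 : ((Nat.card P : ℝ) * (truncInt p χ χ : ℝ)) * (Nat.card G : ℝ) ≤
        ((p : ℝ) ^ (Nat.card G).factorization p) * (Nat.card G : ℝ) := by
      calc ((Nat.card P : ℝ) * (truncInt p χ χ : ℝ)) * (Nat.card G : ℝ)
          = (Nat.card P : ℝ) * ((truncInt p χ χ : ℝ) * (Nat.card G : ℝ)) := by ring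
        _ = ((p ^ (Nat.card G).factorization p : ℕ) : ℝ) *
              ((Nat.card P : ℝ) * ∑ g ∈ Rf, F g) := by rw [hR]; ring
        _ ≤ ((p ^ (Nat.card G).factorization p : ℕ) : ℝ) * (Nat.card G : ℝ) :=
            mul_le_mul_of_nonneg_left hineq hpa
        _ = ((p : ℝ) ^ (Nat.card G).factorization p) * (Nat.card G : ℝ) := by push_cast; ring
    exact le_of_mul_le_mul_right h5 hGpos
  exact_mod_cast hfinal

/-- **S4669: a block with a central defect group has `p`-regular rank one** -/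
theorem central_defect_rank_one [Fintype G] {p : ℕ} [hp : Fact p.Prime]
    (hM : Cfsg.IsPModular p M) (B : Set (Cfsg.IrrCharacter G)) (hB : Cfsg.IsPBlock M B)
    (P : Subgroup G) (hD : Cfsg.IsDefectGroup p M B P) (hPZ : P ≤ Subgroup.center G) :
    Cfsg.blockRank p B = 1 := by
  classical
  haveI : Finite (Cfsg.IrrCharacter G) := irr_finite
  haveI : Fintype (Cfsg.IrrCharacter G) := Fintype.ofFinite _
  obtain ⟨a, ha⟩ : ∃ a : ℕ, a = (Nat.card G).factorization p := ⟨_, rfl⟩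
  obtain ⟨dd, hdd⟩ : ∃ dd : ℕ, dd = Cfsg.blockDefect p B := ⟨_, rfl⟩
  have hdda : dd ≤ a := by rw [hdd, ha]; exact blockDefect_le_factorization p B
  have hcardP : Nat.card P = p ^ dd := by
    rw [hdd]
    exact card_defectGroup hM.2.1 p hM.2.2 B hB P hD
  have hPp : IsPGroup p P := IsPGroup.of_card hcardP
  obtain ⟨Q, hQ⟩ : ∃ Q : ℤ, Q = (p : ℤ) ^ (a - dd) := ⟨_, rfl⟩
  have hp0 : (0 : ℤ) < (p : ℤ) := by exact_mod_cast hp.out.pos
  have hQpos : 0 < Q := by rw [hQ]; positivity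
  have hpa : (p : ℤ) ^ a = (p : ℤ) ^ dd * Q := by
    rw [hQ, ← pow_add]
    congr 1
    omega
  have hpdpos : (0 : ℤ) < (p : ℤ) ^ dd := by positivity
  obtain ⟨χ₀, hχ₀⟩ : ∃ χ₀ : Cfsg.IrrCharacter G, χ₀ ∈ B := by
    obtain ⟨χ₀, h⟩ := hB
    exact ⟨χ₀, h ▸ mem_blockOf_self hM.2.1 χ₀⟩
  -- the diagonal contributions
  have hdiag : ∀ χ ∈ B, truncInt p χ χ = Q := by
    intro χ hχ
    have h1 := pow_dvd_truncInt (χ := χ) hM B χ hχ
    rw [← ha, ← hdd, ← hQ] at h1
    have h2 := Int.le_of_dvd (truncInt_self_pos p χ) h1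
    have h3 := card_mul_truncInt_le p P hPp hPZ χ
    rw [hcardP, ← ha] at h3
    push_cast at h3
    rw [hpa] at h3
    have h4 := le_of_mul_le_mul_left h3 hpdpos
    omega
  -- the contributions do not vanish
  have hne : ∀ χ ∈ B, ∀ ξ ∈ B, truncInt p χ ξ ≠ 0 := by
    intro χ hχ ξ hξ h0
    have h1 := truncSum_div_congr hM.2.1 p (IsIrrCharacter.isCharacter χ.2) ξ.2 χ.2
      (sameBlock_of_mem_block hM.2.1 B hB hξ hχ)
    rw [truncSum_eq_truncInt p χ ξ, h0, Int.cast_zero, mul_zero, zero_div, zero_sub,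
      truncSum_eq_truncInt p χ χ, hdiag χ hχ, hQ] at h1
    have h2 := MemLocalIdeal.neg h1
    rw [neg_neg, ← charDegree_cast_of_isCharacter (IsIrrCharacter.isCharacter χ.2)] at h2
    have h3 : ((Nat.card G / p ^ (Nat.card G).factorization p : ℕ) : ℂ) *
        (((p : ℤ) ^ (a - dd) : ℤ) : ℂ) =
        ((Nat.card G / p ^ (Nat.card G).factorization p * p ^ (a - dd) : ℕ) : ℂ) := by
      push_cast
      rfl
    rw [h3] at h2
    have hc0 : Nat.card G / p ^ (Nat.card G).factorization p ≠ 0 := by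
      have h1 : 0 < Nat.card G / p ^ (Nat.card G).factorization p :=
        Nat.div_pos (Nat.le_of_dvd Nat.card_pos (Nat.ordProj_dvd _ _)) (pow_pos hp.out.pos _)
      exact h1.ne'
    have h4 := (memLocalIdeal_natCast_div_iff hM _ _
      (mul_ne_zero hc0 (pow_ne_zero _ hp.out.ne_zero))
      (charDegree_ne_zero_of_irr χ.2)).mp h2
    rw [Nat.factorization_mul hc0 (pow_ne_zero _ hp.out.ne_zero), Finsupp.add_apply,
      Nat.factorization_eq_zero_of_not_dvd (not_dvd_ordCompl_card p), zero_add,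
      Nat.Prime.factorization_pow hp.out, Finsupp.single_eq_same] at h4
    have h5 := sub_blockDefect_le p B χ hχ
    rw [← ha, ← hdd] at h5
    omega
  have hsq : ∀ χ ∈ B, ∀ ξ ∈ B, Q ^ 2 ≤ (truncInt p χ ξ) ^ 2 := by
    intro χ hχ ξ hξ
    obtain ⟨m, hm⟩ := pow_dvd_truncInt (χ := χ) hM B ξ hξ
    rw [← ha, ← hdd, ← hQ] at hm
    have hm0 : m ≠ 0 := by
      rintro rfl
      rw [mul_zero] at hm
      exact hne χ hχ ξ hξ hm
    have hm2 : 1 ≤ m ^ 2 := by
      have : 0 < m ^ 2 := by positivity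
      omega
    rw [hm, mul_pow]
    nlinarith [sq_nonneg Q]
  -- the number of characters
  obtain ⟨k, hk⟩ : ∃ k : ℕ, k = (Finset.univ.filter (· ∈ B)).card := ⟨_, rfl⟩
  have hkle : (k : ℤ) ≤ (p : ℤ) ^ dd := by
    have h1 := truncInt_parseval_block hM B hB χ₀ hχ₀
    rw [← ha, hdiag χ₀ hχ₀, hpa] at h1
    have h2 : (k : ℤ) * Q ^ 2 ≤ ∑ ξ ∈ Finset.univ.filter (· ∈ B), (truncInt p χ₀ ξ) ^ 2 := by
      rw [hk, ← nsmul_eq_mul, ← Finset.sum_const]
      apply Finset.sum_le_sum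
      intro ξ hξ
      exact hsq χ₀ hχ₀ ξ (Finset.mem_filter.mp hξ).2
    rw [h1] at h2
    have h3 : (k : ℤ) * Q ^ 2 ≤ (p : ℤ) ^ dd * Q ^ 2 := by
      calc (k : ℤ) * Q ^ 2 ≤ (p : ℤ) ^ dd * Q * Q := h2
        _ = (p : ℤ) ^ dd * Q ^ 2 := by ring
    exact le_of_mul_le_mul_right h3 (by positivity)
  -- the trace formula
  have hG0 : (Nat.card G : ℂ) ≠ 0 := by
    have : 0 < Nat.card G := Nat.card_pos
    exact_mod_cast this.ne'
  have hpa0 : ((p ^ (Nat.card G).factorization p : ℕ) : ℂ) ≠ 0 := by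
    exact_mod_cast (pow_pos hp.out.pos _).ne'
  have htrace : (Cfsg.blockRank p B : ℂ) * ((p ^ (Nat.card G).factorization p : ℕ) : ℂ) =
      (k : ℂ) * (Q : ℂ) := by
    have h1 := card_mul_blockRank hM.2.1 p hM.2.2 B hB
    have h2 : ∀ x : G, ∑ᶠ χ ∈ B, Cfsg.pRegularPart p (χ : G → ℂ) x * (χ : G → ℂ) x⁻¹ =
        ∑ χ ∈ Finset.univ.filter (· ∈ B), Cfsg.pRegularPart p (χ : G → ℂ) x *
          conj (Cfsg.pRegularPart p (χ : G → ℂ) x) := by
      intro x
      rw [finsum_mem_eq_sum_ite, ← Finset.sum_filter]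
      apply Finset.sum_congr rfl
      intro χ _
      rw [IsCharacter.inv_eq_conj (IsIrrCharacter.isCharacter χ.2), pRegularPart_apply]
      split_ifs
      · rw [zero_mul, zero_mul]
      · rfl
    simp_rw [h2] at h1
    rw [Finset.sum_comm] at h1
    have h3 : ∀ χ ∈ Finset.univ.filter (· ∈ B), ∑ x : G, Cfsg.pRegularPart p (χ : G → ℂ) x *
        conj (Cfsg.pRegularPart p (χ : G → ℂ) x) =
        (Nat.card G : ℂ) * ((Q : ℂ) / ((p ^ (Nat.card G).factorization p : ℕ) : ℂ)) := by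
      intro χ hχ
      have h4 := classInner_pRegularPart p χ χ
      rw [hdiag χ (Finset.mem_filter.mp hχ).2, classInner_def] at h4
      rw [← h4]
      field_simp
    rw [Finset.sum_congr rfl h3, Finset.sum_const, nsmul_eq_mul, ← hk] at h1
    have h5 : (Nat.card G : ℂ) * ((Cfsg.blockRank p B : ℂ) *
        ((p ^ (Nat.card G).factorization p : ℕ) : ℂ)) =
        (Nat.card G : ℂ) * ((k : ℂ) * (Q : ℂ)) := by
      rw [← mul_assoc, h1]
      field_simp
    exact mul_left_cancel₀ hG0 h5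
  have htraceI : (Cfsg.blockRank p B : ℤ) * (p : ℤ) ^ dd = (k : ℤ) := by
    have h1 : ((Cfsg.blockRank p B : ℤ) * ((p : ℤ) ^ dd * Q) : ℂ) = (((k : ℤ) * Q : ℤ) : ℂ) := by
      have hpaC : ((p : ℂ)) ^ a = (p : ℂ) ^ dd * (Q : ℂ) := by exact_mod_cast hpa
      rw [← ha] at htrace
      push_cast
      push_cast at htrace
      rw [← hpaC]
      exact htrace
    have h2 : (Cfsg.blockRank p B : ℤ) * ((p : ℤ) ^ dd * Q) = (k : ℤ) * Q := by exact_mod_cast h1
    have h3 : (Cfsg.blockRank p B : ℤ) * (p : ℤ) ^ dd * Q = (k : ℤ) * Q := by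
      rw [mul_assoc]; exact h2
    exact mul_right_cancel₀ hQpos.ne' h3
  have hpos := blockRank_pos p B χ₀ hχ₀
  have hle : (Cfsg.blockRank p B : ℤ) * (p : ℤ) ^ dd ≤ 1 * (p : ℤ) ^ dd := by
    rw [htraceI, one_mul]
    exact hkle
  have hle1 := le_of_mul_le_mul_right hle hpdpos
  have : Cfsg.blockRank p B ≤ 1 := by exact_mod_cast hle1
  omega

end Cfsg.Agent.Helper6
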