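import Mathlib
import Cfsg.Prelude.Def_Characters
import Cfsg.Prelude.Def_Blocks
import Cfsg.Prelude.Def_BlockRank
import Cfsg.Agent.Helper6.CentralDefectA
import Cfsg.Agent.Helper6.InducedPart
import Cfsg.Agent.Helper6.RankTrace

/-!
# Twisting by a central element: explicit form of the block part of `c ↦ χ(y^j c)`
-/

set_option autoImplicit false
set_option linter.style.haveILetI false

namespace Cfsg.Agent.Helper6.Maj

open Module
open scoped ComplexConjugate

universe u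

variable {G : Type u} [Group G] {M : Ideal Cfsg.AlgInt}

/-- a central element acts on an irreducible character through a root of unity -/
theorem exists_center_twist {H : Type u} [Group H] [Finite H] (θ : Cfsg.IrrCharacter H) (z : H)
    (hz : z ∈ Subgroup.center H) :
    ∃ ε : ℂ, ε ^ orderOf z = 1 ∧ ε * conj ε = 1 ∧
      ∀ (k : ℕ) (c : H), (θ : H → ℂ) (z ^ k * c) = ε ^ k * (θ : H → ℂ) c := by
  obtain ⟨ω, hω1, hω⟩ := irr_center_mul θ z hz
  have hpow : ∀ (k : ℕ) (c : H), (θ : H → ℂ) (z ^ k * c) = ω ^ k * (θ : H → ℂ) c := by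
    intro k
    induction k with
    | zero => intro c; rw [pow_zero, pow_zero, one_mul, one_mul]
    | succ k ih =>
      intro c
      rw [pow_succ', mul_assoc, hω, ih, pow_succ']
      ring
  refine ⟨ω, ?_, ?_, hpow⟩
  · have h2 := hpow (orderOf z) 1
    rw [pow_orderOf_eq_one, one_mul] at h2
    have hθ1 : (θ : H → ℂ) 1 ≠ 0 := IsIrrCharacter.apply_one_ne_zero θ.2
    have : (1 : ℂ) * (θ : H → ℂ) 1 = ω ^ orderOf z * (θ : H → ℂ) 1 := by rw [one_mul]; exact h2
    exact (mul_right_cancel₀ hθ1 this).symm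
  · rw [Complex.mul_conj, Complex.normSq_eq_norm_sq, hω1]
    norm_num

/-- the multiplicity of `θ` in `c ↦ χ(y^j c)` -/
theorem classInner_twist (H : Subgroup G) [Fintype H] (χ : G → ℂ) (y : G) (hyH : y ∈ H)
    (θ : Cfsg.IrrCharacter H) (ε : ℂ) (hε1 : ε * conj ε = 1)
    (hε : ∀ (k : ℕ) (c : H), (θ : H → ℂ) ((⟨y, hyH⟩ : H) ^ k * c) = ε ^ k * (θ : H → ℂ) c)
    (j : ℕ) :
    Cfsg.classInner (fun c : H => χ (y ^ j * (c : G))) (θ : H → ℂ) =
      ε ^ j * Cfsg.classInner (fun c : H => χ (c : G)) (θ : H → ℂ) := by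
  rw [classInner_def, classInner_def]
  have h1 : ∑ c : H, χ (c : G) * conj ((θ : H → ℂ) c) =
      conj ε ^ j * ∑ c : H, χ (y ^ j * (c : G)) * conj ((θ : H → ℂ) c) := by
    rw [← Equiv.sum_comp (Equiv.mulLeft ((⟨y, hyH⟩ : H) ^ j)), Finset.mul_sum]
    apply Finset.sum_congr rfl
    intro c _
    rw [Equiv.coe_mulLeft, hε, map_mul, map_pow]
    simp only [Subgroup.coe_mul, SubmonoidClass.coe_pow]
    ring
  rw [h1]
  have h2 : ε ^ j * conj ε ^ j = 1 := by rw [← mul_pow, hε1, one_pow]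
  rw [← mul_assoc, ← mul_assoc, mul_comm (ε ^ j), mul_assoc _ (ε ^ j), h2, mul_one]

/-- the `p`-regular block part of `c ↦ χ(u c)` -/
noncomputable def secPart (p : ℕ) (H : Subgroup G) [Finite H] (e : Set (Cfsg.IrrCharacter H))
    (χ : G → ℂ) (u : G) : H → ℂ :=
  Cfsg.pRegularPart p (Cfsg.blockPart e (fun c : H => χ (u * (c : G))))

open Classical in
/-- a block part as a finite sum -/
theorem blockPart_eq_sum {H : Type u} [Group H] [Fintype H] [Fintype (Cfsg.IrrCharacter H)]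
    (e : Set (Cfsg.IrrCharacter H)) (f : H → ℂ) :
    Cfsg.blockPart e f = ∑ θ : Cfsg.IrrCharacter H,
      if θ ∈ e then Cfsg.classInner f (θ : H → ℂ) • (θ : H → ℂ) else 0 := by
  funext s
  rw [blockPart_apply, finsum_mem_eq_sum_ite, Finset.sum_apply]
  apply Finset.sum_congr rfl
  intro θ _
  split_ifs
  · rfl
  · rfl

open Classical in
/-- explicit form of the section part for the powers of a central element -/
theorem secPart_pow_eq (p : ℕ) (H : Subgroup G) [Fintype H] [Fintype (Cfsg.IrrCharacter H)]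
    (e : Set (Cfsg.IrrCharacter H)) (χ : G → ℂ) (y : G) (hyH : y ∈ H)
    (ε : Cfsg.IrrCharacter H → ℂ) (hε1 : ∀ θ, ε θ * conj (ε θ) = 1)
    (hε : ∀ (θ : Cfsg.IrrCharacter H) (k : ℕ) (c : H),
      (θ : H → ℂ) ((⟨y, hyH⟩ : H) ^ k * c) = ε θ ^ k * (θ : H → ℂ) c) (j : ℕ) :
    secPart p H e χ (y ^ j) = ∑ θ : Cfsg.IrrCharacter H,
      if θ ∈ e then (ε θ ^ j * Cfsg.classInner (fun c : H => χ (c : G)) (θ : H → ℂ)) •
        Cfsg.pRegularPart p (θ : H → ℂ) else 0 := by
  unfold secPart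
  rw [blockPart_eq_sum, pRegularPart_sum]
  apply Finset.sum_congr rfl
  intro θ _
  split_ifs
  · rw [pRegularPart_smul, classInner_twist H χ y hyH θ (ε θ) (hε1 θ) (hε θ) j]
  · exact pRegularPart_zero p

open Classical in
/-- explicit form of the contribution of two characters at the power `y ^ j` -/
theorem classInner_secPart_pow (p : ℕ) (H : Subgroup G) [Fintype H]
    [Fintype (Cfsg.IrrCharacter H)]
    (e : Set (Cfsg.IrrCharacter H)) (χ ψ : G → ℂ) (y : G) (hyH : y ∈ H)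
    (ε : Cfsg.IrrCharacter H → ℂ) (hε1 : ∀ θ, ε θ * conj (ε θ) = 1)
    (hε : ∀ (θ : Cfsg.IrrCharacter H) (k : ℕ) (c : H),
      (θ : H → ℂ) ((⟨y, hyH⟩ : H) ^ k * c) = ε θ ^ k * (θ : H → ℂ) c) (j : ℕ) :
    Cfsg.classInner (secPart p H e χ (y ^ j)) (secPart p H e ψ (y ^ j)) =
      ∑ i : Cfsg.IrrCharacter H × Cfsg.IrrCharacter H,
        (if i.1 ∈ e ∧ i.2 ∈ e then
          Cfsg.classInner (fun c : H => χ (c : G)) (i.1 : H → ℂ) *
          conj (Cfsg.classInner (fun c : H => ψ (c : G)) (i.2 : H → ℂ)) *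
          Cfsg.classInner (Cfsg.pRegularPart p (i.1 : H → ℂ))
            (Cfsg.pRegularPart p (i.2 : H → ℂ)) else 0) *
        (ε i.1 * conj (ε i.2)) ^ j := by
  rw [secPart_pow_eq p H e χ y hyH ε hε1 hε j, secPart_pow_eq p H e ψ y hyH ε hε1 hε j,
    classInner_sum_left, Fintype.sum_prod_type]
  apply Finset.sum_congr rfl
  intro θ _
  rw [classInner_sum_right]
  apply Finset.sum_congr rfl
  intro θ' _
  by_cases h1 : θ ∈ e
  · by_cases h2 : θ' ∈ e
    · rw [if_pos h1, if_pos h2, if_pos ⟨h1, h2⟩, classInner_smul_left, classInner_smul_right,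
        map_mul, map_pow, mul_pow]
      ring
    · rw [if_neg h2, classInner_zero_right, if_neg (fun h => h2 h.2), zero_mul]
  · rw [if_neg h1, classInner_zero_left, if_neg (fun h => h1 h.1), zero_mul]

end Cfsg.Agent.Helper6.Maj
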