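import Mathlib
import Cfsg.Prelude.Def_Characters
import Cfsg.Agent.Helper6.DadeBasic

/-!
# A coset sum under a coprime normalising element

If `a` normalises `K`, has order prime to `|K|`, and `C = C_K(a)`, then every class function has
the same average over `a K` as over `a C`.
-/

set_option autoImplicit false
set_option linter.style.haveILetI false

namespace Cfsg.Agent.Helper6

universe u

variable {G : Type u} [Group G]

open Classical in
theorem coprime_coset_sum [Fintype G] (K C : Subgroup G) (a : G) (hCK : C ≤ K)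
    (hnorm : ∀ u ∈ K, a⁻¹ * u * a ∈ K)
    (hcomm : ∀ c ∈ C, Commute a c)
    (hcent : ∀ w ∈ K, w * a * w⁻¹ = a → w ∈ C)
    (hcop : Nat.Coprime (orderOf a) (Nat.card K))
    (F : G → ℂ) (hF : Cfsg.IsClassFunction G F) :
    (Nat.card C : ℂ) * ∑ u : G, (if u ∈ K then F (a * u) else 0) =
      (Nat.card K : ℂ) * ∑ c : G, (if c ∈ C then F (a * c) else 0) := by
  set Kf : Finset G := Finset.univ.filter (· ∈ K) with hKfdef
  set Cf : Finset G := Finset.univ.filter (· ∈ C) with hCfdef
  have hKf : Kf.card = Nat.card K := by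
    rw [Nat.card_eq_fintype_card, Fintype.card_subtype]
  have hCf : Cf.card = Nat.card C := by
    rw [Nat.card_eq_fintype_card, Fintype.card_subtype]
  have memK : ∀ x, x ∈ Kf ↔ x ∈ K := fun x => by simp [hKfdef]
  have memC : ∀ x, x ∈ Cf ↔ x ∈ C := fun x => by simp [hCfdef]
  set P : Finset (G × G) := Kf ×ˢ Cf with hP
  set Θ : G × G → G := fun p => p.1 * (a * p.2) * p.1⁻¹ with hΘ
  obtain ⟨m, hm1, hm0⟩ := Nat.chineseRemainder hcop 1 0
  have hma : a ^ m = a := pow_eq_self_of_modEq_one a m _ hm1 dvd_rfl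
  have hmc : ∀ c ∈ C, (a * c) ^ m = a := by
    intro c hc
    rw [(hcomm c hc).mul_pow, hma,
      pow_eq_one_of_modEq_zero c m _ hm0 (Subgroup.orderOf_dvd_natCard _ (hCK hc)), mul_one]
  -- the fibres all have size `|C|`
  have hfib : ∀ p ∈ P, (P.filter (fun q => Θ q = Θ p)).card = Nat.card C := by
    intro p hp
    rw [hP, Finset.mem_product, memK, memC] at hp
    rw [← hCf]
    symm
    apply Finset.card_bij (fun w _ => (p.1 * w⁻¹, w * p.2 * w⁻¹))
    · intro w hw
      rw [memC] at hw
      rw [Finset.mem_filter, hP, Finset.mem_product, memK, memC]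
      refine ⟨⟨K.mul_mem hp.1 (K.inv_mem (hCK hw)), C.mul_mem (C.mul_mem hw hp.2) (C.inv_mem hw)⟩,
        ?_⟩
      simp only [hΘ]
      have h1 : a * w = w * a := (hcomm w hw).eq
      calc p.1 * w⁻¹ * (a * (w * p.2 * w⁻¹)) * (p.1 * w⁻¹)⁻¹
          = p.1 * w⁻¹ * (a * w) * p.2 * p.1⁻¹ := by group
        _ = p.1 * w⁻¹ * (w * a) * p.2 * p.1⁻¹ := by rw [h1]
        _ = p.1 * (a * p.2) * p.1⁻¹ := by group
    · intro w₁ _ w₂ _ h
      have := (Prod.ext_iff.mp h).1
      simpa using this
    · intro q hq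
      rw [Finset.mem_filter, hP, Finset.mem_product, memK, memC] at hq
      obtain ⟨⟨hq1, hq2⟩, hq3⟩ := hq
      simp only [hΘ] at hq3
      set w := q.1⁻¹ * p.1 with hw
      have hwK : w ∈ K := K.mul_mem (K.inv_mem hq1) hp.1
      have hconj : w * (a * p.2) * w⁻¹ = a * q.2 := by
        rw [hw]
        calc q.1⁻¹ * p.1 * (a * p.2) * (q.1⁻¹ * p.1)⁻¹
            = q.1⁻¹ * (p.1 * (a * p.2) * p.1⁻¹) * q.1 := by group
          _ = q.1⁻¹ * (q.1 * (a * q.2) * q.1⁻¹) * q.1 := by rw [hq3]
          _ = a * q.2 := by group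
      have hwa : w * a * w⁻¹ = a := by
        have h1 : w * (a * p.2) ^ m * w⁻¹ = (a * q.2) ^ m := by rw [← conj_pow, hconj]
        rwa [hmc p.2 hp.2, hmc q.2 hq2] at h1
      have hwC : w ∈ C := hcent w hwK hwa
      refine ⟨w, (memC w).mpr hwC, ?_⟩
      apply Prod.ext
      · simp only [hw]
        group
      · simp only
        have h2 : w * (a * p.2) * w⁻¹ = (w * a * w⁻¹) * (w * p.2 * w⁻¹) := by group
        rw [h2, hwa] at hconj
        exact mul_left_cancel hconj
  -- the image is the coset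
  have himg_sub : P.image Θ ⊆ Kf.image (fun u => a * u) := by
    intro g hg
    rw [Finset.mem_image] at hg
    obtain ⟨p, hp, rfl⟩ := hg
    rw [hP, Finset.mem_product, memK, memC] at hp
    rw [Finset.mem_image]
    refine ⟨(a⁻¹ * p.1 * a) * p.2 * p.1⁻¹, ?_, ?_⟩
    · rw [memK]
      exact K.mul_mem (K.mul_mem (hnorm _ hp.1) (hCK hp.2)) (K.inv_mem hp.1)
    · simp only [hΘ]
      group
  have hcardP : P.card = (P.image Θ).card * Nat.card C := by
    rw [Finset.card_eq_sum_card_image Θ P]
    rw [Finset.sum_congr rfl (g := fun _ => Nat.card C)]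
    · rw [Finset.sum_const, smul_eq_mul]
    · intro g hg
      rw [Finset.mem_image] at hg
      obtain ⟨p, hp, rfl⟩ := hg
      exact hfib p hp
  have hcardimg : (P.image Θ).card = Nat.card K := by
    have h1 : P.card = Nat.card K * Nat.card C := by
      rw [hP, Finset.card_product, hKf, hCf]
    rw [h1] at hcardP
    have hCpos : 0 < Nat.card C := Nat.card_pos
    exact (Nat.eq_of_mul_eq_mul_right hCpos hcardP).symm
  have hinj : Function.Injective (fun u : G => a * u) := mul_right_injective a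
  have himg : P.image Θ = Kf.image (fun u => a * u) := by
    apply Finset.eq_of_subset_of_card_le himg_sub
    rw [hcardimg, Finset.card_image_of_injective _ hinj, hKf]
  -- the two evaluations of the sum
  have hsum1 : ∑ p ∈ P, F (Θ p) = (Nat.card K : ℂ) * ∑ c ∈ Cf, F (a * c) := by
    rw [hP, Finset.sum_product]
    have : ∀ v ∈ Kf, ∑ c ∈ Cf, F (Θ (v, c)) = ∑ c ∈ Cf, F (a * c) := by
      intro v _
      apply Finset.sum_congr rfl
      intro c _
      simp only [hΘ]
      exact hF (a * c) v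
    rw [Finset.sum_congr rfl this, Finset.sum_const, hKf, nsmul_eq_mul]
  have hsum2 : ∑ p ∈ P, F (Θ p) = (Nat.card C : ℂ) * ∑ u ∈ Kf, F (a * u) := by
    rw [Finset.sum_comp F Θ, himg]
    rw [Finset.sum_image (fun x _ y _ h => hinj h), Finset.mul_sum]
    apply Finset.sum_congr rfl
    intro u hu
    have hmem : a * u ∈ P.image Θ := by
      rw [himg]
      exact Finset.mem_image_of_mem _ hu
    rw [Finset.mem_image] at hmem
    obtain ⟨p, hp, hpe⟩ := hmem
    rw [← hpe, hfib p hp, nsmul_eq_mul]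
  rw [← Finset.sum_filter, ← Finset.sum_filter]
  rw [← hsum1, ← hsum2]

end Cfsg.Agent.Helper6
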