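import Mathlib
import Cfsg.Prelude.Def_OddOrderChar
import Cfsg.Agent.Helper6.DadeBasic
import Cfsg.Agent.Helper6.DadeCount
import Cfsg.Agent.Helper6.DadeIntA

/-!
# Intersections of Dade subgroups over finite subsets of `A`
-/

set_option autoImplicit false
set_option linter.style.haveILetI false

namespace Cfsg.Agent.Helper6

universe u

variable {G : Type u} [Group G]

/-- The intersection of the Dade subgroups over a finite set. -/
def dadeInf (H : G → Subgroup G) (S : Finset G) : Subgroup G := ⨅ b ∈ S, H b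

theorem mem_dadeInf (H : G → Subgroup G) (S : Finset G) (u : G) :
    u ∈ dadeInf H S ↔ ∀ b ∈ S, u ∈ H b := by
  simp [dadeInf, Subgroup.mem_iInf]

open Classical in
/-- Conjugation of a finite subset. -/
noncomputable def dadeConjFinset (x : G) (S : Finset G) : Finset G :=
  S.image (fun b => x * b * x⁻¹)

open Classical in
theorem mem_dadeConjFinset (x : G) (S : Finset G) (b : G) :
    b ∈ dadeConjFinset x S ↔ x⁻¹ * b * x ∈ S := by
  unfold dadeConjFinset
  rw [Finset.mem_image]
  constructor
  · rintro ⟨c, hc, rfl⟩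
    have : x⁻¹ * (x * c * x⁻¹) * x = c := by group
    rwa [this]
  · intro h
    exact ⟨_, h, by group⟩

theorem dadeConjFinset_one (S : Finset G) : dadeConjFinset 1 S = S := by
  ext b
  rw [mem_dadeConjFinset]
  simp

theorem dadeConjFinset_mul (x y : G) (S : Finset G) :
    dadeConjFinset (x * y) S = dadeConjFinset x (dadeConjFinset y S) := by
  ext b
  rw [mem_dadeConjFinset, mem_dadeConjFinset, mem_dadeConjFinset]
  have : (x * y)⁻¹ * b * (x * y) = y⁻¹ * (x⁻¹ * b * x) * y := by group
  rw [this]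

theorem dadeConjFinset_inv_of_eq (x : G) (S : Finset G) (h : dadeConjFinset x S = S) :
    dadeConjFinset x⁻¹ S = S := by
  conv_lhs => rw [← h]
  rw [← dadeConjFinset_mul, inv_mul_cancel, dadeConjFinset_one]

theorem dadeConjFinset_card (x : G) (S : Finset G) : (dadeConjFinset x S).card = S.card := by
  classical
  unfold dadeConjFinset
  apply Finset.card_image_of_injective
  intro b c h
  simpa using h

theorem dadeConjFinset_nonempty (x : G) (S : Finset G) (h : S.Nonempty) :
    (dadeConjFinset x S).Nonempty := by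
  rw [← Finset.card_pos, dadeConjFinset_card]
  exact Finset.card_pos.mpr h

theorem dadeConjFinset_subset (A : Set G) (L : Subgroup G) (H : G → Subgroup G)
    (hD : Cfsg.DadeHypothesis A L H) (x : G) (hx : x ∈ L) (S : Finset G)
    (hS : (↑S : Set G) ⊆ A) : (↑(dadeConjFinset x S) : Set G) ⊆ A := by
  intro b hb
  rw [Finset.mem_coe, mem_dadeConjFinset] at hb
  have := hD.conj_mem x hx _ (hS hb)
  have h2 : x * (x⁻¹ * b * x) * x⁻¹ = b := by group
  rwa [h2] at this

/-- The action of `L` on finite subsets by conjugation. -/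
@[reducible] noncomputable def dadeFinsetAction (L : Subgroup G) : MulAction L (Finset G) where
  smul l S := dadeConjFinset (l : G) S
  one_smul S := dadeConjFinset_one S
  mul_smul l l' S := dadeConjFinset_mul (l : G) (l' : G) S

/-- Conjugation by `x ∈ L` carries `dadeInf H S` into `dadeInf H (x S x⁻¹)`. -/
theorem dadeInf_conj_mem [Finite G] (A : Set G) (L : Subgroup G) (H : G → Subgroup G)
    (hD : Cfsg.DadeHypothesis A L H) (x : G) (hx : x ∈ L) (S : Finset G)
    (hS : (↑S : Set G) ⊆ A) (u : G) (hu : u ∈ dadeInf H S) :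
    x * u * x⁻¹ ∈ dadeInf H (dadeConjFinset x S) := by
  rw [mem_dadeInf] at hu ⊢
  intro b hb
  rw [mem_dadeConjFinset] at hb
  have h1 := dade_map_eq A L H hD _ (hS hb) x hx
  have h2 : x * (x⁻¹ * b * x) * x⁻¹ = b := by group
  rw [h2] at h1
  rw [h1]
  exact ⟨u, hu _ hb, rfl⟩

theorem dadeInf_conj_mem_iff [Finite G] (A : Set G) (L : Subgroup G) (H : G → Subgroup G)
    (hD : Cfsg.DadeHypothesis A L H) (x : G) (hx : x ∈ L) (S : Finset G)
    (hS : (↑S : Set G) ⊆ A) (u : G) :
    x * u * x⁻¹ ∈ dadeInf H (dadeConjFinset x S) ↔ u ∈ dadeInf H S := by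
  constructor
  · intro h
    have h1 := dadeInf_conj_mem A L H hD x⁻¹ (L.inv_mem hx) (dadeConjFinset x S)
      (dadeConjFinset_subset A L H hD x hx S hS) _ h
    rw [← dadeConjFinset_mul, inv_mul_cancel, dadeConjFinset_one] at h1
    have h2 : x⁻¹ * (x * u * x⁻¹) * x⁻¹⁻¹ = u := by group
    rwa [h2] at h1
  · exact dadeInf_conj_mem A L H hD x hx S hS u

theorem dadeInf_conj_card [Finite G] (A : Set G) (L : Subgroup G) (H : G → Subgroup G)
    (hD : Cfsg.DadeHypothesis A L H) (x : G) (hx : x ∈ L) (S : Finset G)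
    (hS : (↑S : Set G) ⊆ A) :
    Nat.card (dadeInf H (dadeConjFinset x S)) = Nat.card (dadeInf H S) := by
  symm
  apply Nat.card_congr
  refine Equiv.subtypeEquiv (MulAut.conj x).toEquiv ?_
  intro u
  exact (dadeInf_conj_mem_iff A L H hD x hx S hS u).symm

/-- An element of the centralizer of `a ∈ A` of order prime to `|C_L(a)|` lies in `H a`. -/
theorem dade_mem_H_of_coprime [Finite G] (A : Set G) (L : Subgroup G) (H : G → Subgroup G)
    (hD : Cfsg.DadeHypothesis A L H) (b : G) (hbA : b ∈ A) (k : G)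
    (hkC : k ∈ Subgroup.centralizer ({b} : Set G))
    (hcop : Nat.Coprime (orderOf k) (Nat.card ↥(L ⊓ Subgroup.centralizer ({b} : Set G)))) :
    k ∈ H b := by
  set C : Subgroup G := Subgroup.centralizer ({b} : Set G) with hC
  set N : Subgroup C := (H b).subgroupOf C with hN
  haveI hNn : N.Normal := by
    constructor
    intro n hn g
    rw [hN, Subgroup.mem_subgroupOf] at hn ⊢
    exact hD.conj_mem_H b hbA g g.2 n hn
  set M : Subgroup C := (L ⊓ C).subgroupOf C with hM
  have hsup : N ⊔ M = ⊤ := by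
    have h1 := Subgroup.subgroupOf_sup (A := H b) (A' := L ⊓ C) (B := C)
      (hD.le_centralizer b hbA) inf_le_right
    rw [hN, hM, ← h1]
    have h2 : H b ⊔ (L ⊓ C) = C := hD.sup_eq b hbA
    rw [h2]
    exact Subgroup.subgroupOf_self (H := C)
  have hinf : N ⊓ M = ⊥ := by
    rw [eq_bot_iff]
    intro y hy
    rw [Subgroup.mem_inf, hN, hM, Subgroup.mem_subgroupOf, Subgroup.mem_subgroupOf] at hy
    have : (y : G) ∈ H b ⊓ (L ⊓ Subgroup.centralizer ({b} : Set G)) := ⟨hy.1, hy.2⟩
    rw [hD.inf_eq_bot b hbA, Subgroup.mem_bot] at this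
    rw [Subgroup.mem_bot]
    exact Subtype.ext this
  have hcompl : N.IsComplement' M := by
    apply Subgroup.isComplement'_of_disjoint_and_mul_eq_univ (disjoint_iff.mpr hinf)
    rw [← Subgroup.normal_mul N M, hsup]
    rfl
  have hidx : N.index = Nat.card M := hcompl.symm.index_eq_card
  have hMcard : Nat.card M = Nat.card ↥(L ⊓ Subgroup.centralizer ({b} : Set G)) := by
    rw [hM]
    exact Nat.card_congr (Subgroup.subgroupOfEquivOfLe inf_le_right).toEquiv
  have hcop' : Nat.Coprime (orderOf (⟨k, hkC⟩ : C)) N.index := by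
    rw [hidx, hMcard, Subgroup.orderOf_mk]
    exact hcop
  have := mem_of_coprime_orderOf_index N _ hcop'
  rw [hN, Subgroup.mem_subgroupOf] at this
  exact this

open Classical in
/-- The average of a function over the coset `x * dadeInf H S`. -/
noncomputable def dadeAvg [Fintype G] (H : G → Subgroup G) (S : Finset G) (F : G → ℂ) (x : G) : ℂ :=
  (Nat.card (dadeInf H S) : ℂ)⁻¹ * ∑ u : G, if u ∈ dadeInf H S then F (x * u) else 0

open Classical in
/-- Adding to `S` an element `a ∈ A` normalising `S` does not change the average at `a`. -/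
theorem dadeAvg_insert [Fintype G] (A : Set G) (L : Subgroup G) (H : G → Subgroup G)
    (hD : Cfsg.DadeHypothesis A L H) (S : Finset G) (hSne : S.Nonempty)
    (hS : (↑S : Set G) ⊆ A) (a : G) (ha : a ∈ A) (haS : dadeConjFinset a S = S)
    (F : G → ℂ) (hF : Cfsg.IsClassFunction G F) :
    dadeAvg H S F a = dadeAvg H (insert a S) F a := by
  have haL : a ∈ L := hD.subset ha
  set K := dadeInf H S with hK
  set C := dadeInf H (insert a S) with hC
  have hCmem : ∀ u, u ∈ C ↔ u ∈ H a ∧ u ∈ K := by
    intro u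
    rw [hC, hK, mem_dadeInf, mem_dadeInf]
    simp [Finset.mem_insert]
  have hCK : C ≤ K := fun u hu => ((hCmem u).mp hu).2
  obtain ⟨b, hb⟩ := hSne
  have hKb : K ≤ H b := by
    intro u hu
    rw [hK, mem_dadeInf] at hu
    exact hu b hb
  have haLC : a ∈ L ⊓ Subgroup.centralizer ({a} : Set G) := ⟨haL, self_mem_centralizer a⟩
  have hcopK : ∀ w ∈ K, Nat.Coprime (orderOf w)
      (Nat.card ↥(L ⊓ Subgroup.centralizer ({a} : Set G))) := by
    intro w hw
    exact Nat.Coprime.coprime_dvd_left (Subgroup.orderOf_dvd_natCard _ (hKb hw))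
      (hD.coprime b (hS hb) a ha)
  have key := coprime_coset_sum K C a hCK ?_ ?_ ?_ ?_ F hF
  · unfold dadeAvg
    rw [← hK, ← hC]
    have hK0 : (Nat.card K : ℂ) ≠ 0 := Nat.cast_ne_zero.mpr Nat.card_pos.ne'
    have hC0 : (Nat.card C : ℂ) ≠ 0 := Nat.cast_ne_zero.mpr Nat.card_pos.ne'
    field_simp
    linear_combination key
  · -- a normalises K
    intro u hu
    have h1 := dadeInf_conj_mem A L H hD a⁻¹ (L.inv_mem haL) S hS u hu
    rw [dadeConjFinset_inv_of_eq a S haS, inv_inv] at h1
    exact h1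
  · intro c hc
    have h1 := hD.le_centralizer a ha ((hCmem c).mp hc).1
    rw [Subgroup.mem_centralizer_iff] at h1
    exact h1 a rfl
  · intro w hw hwa
    rw [hCmem]
    refine ⟨?_, hw⟩
    apply dade_mem_H_of_coprime A L H hD a ha w ?_ (hcopK w hw)
    rw [Subgroup.mem_centralizer_iff]
    intro y hy
    rw [Set.mem_singleton_iff.mp hy]
    calc a * w = (w * a * w⁻¹) * w := by rw [hwa]
      _ = w * a := by group
  · have h1 : Nat.card K ∣ Nat.card (H b) := Subgroup.card_dvd_of_le hKb
    have h2 : orderOf a ∣ Nat.card ↥(L ⊓ Subgroup.centralizer ({a} : Set G)) :=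
      Subgroup.orderOf_dvd_natCard _ haLC
    exact (Nat.Coprime.coprime_dvd_left h1
      (Nat.Coprime.coprime_dvd_right h2 (hD.coprime b (hS hb) a ha))).symm

end Cfsg.Agent.Helper6
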