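import Mathlib
import Cfsg.Prelude.Def_OddOrderChar
import Cfsg.Agent.Helper6.DadeIntC

/-!
# The telescoping sum over subsets of `A`
-/

set_option autoImplicit false
set_option linter.style.haveILetI false

namespace Cfsg.Agent.Helper6

universe u

variable {G : Type u} [Group G]

open Classical in
/-- The nonempty finite subsets of `A`. -/
noncomputable def dadeFam [Fintype G] (A : Set G) : Finset (Finset G) :=
  Finset.univ.filter (fun S : Finset G => S.Nonempty ∧ (↑S : Set G) ⊆ A)

omit [Group G] in
theorem mem_dadeFam [Fintype G] (A : Set G) (S : Finset G) :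
    S ∈ dadeFam A ↔ S.Nonempty ∧ (↑S : Set G) ⊆ A := by
  classical
  unfold dadeFam
  simp

open Classical in
theorem dadeConjFinset_insert_self (a : G) (S : Finset G) :
    dadeConjFinset a (insert a S) = insert a (dadeConjFinset a S) := by
  unfold dadeConjFinset
  rw [Finset.image_insert]
  congr 1
  group

open Classical in
theorem dadeConjFinset_insert_iff (a : G) (S : Finset G) (haS : a ∉ S) :
    dadeConjFinset a (insert a S) = insert a S ↔ dadeConjFinset a S = S := by
  rw [dadeConjFinset_insert_self]
  constructor
  · intro h
    have h1 : a ∉ dadeConjFinset a S := by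
      rw [mem_dadeConjFinset]
      have : a⁻¹ * a * a = a := by group
      rwa [this]
    have h2 : (insert a (dadeConjFinset a S)).erase a = (insert a S).erase a := by rw [h]
    rwa [Finset.erase_insert h1, Finset.erase_insert haS] at h2
  · intro h
    rw [h]

open Classical in
/-- The summand of the telescoping sum. -/
noncomputable def dadeTerm [Fintype G] (H : G → Subgroup G) (F : G → ℂ) (a : G) (S : Finset G) : ℂ :=
  if dadeConjFinset a S = S then (-1 : ℂ) ^ (S.card + 1) * dadeAvg H S F a else 0

open Classical in
theorem dadeTerm_pair [Fintype G] (A : Set G) (L : Subgroup G) (H : G → Subgroup G)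
    (hD : Cfsg.DadeHypothesis A L H) (a : G) (ha : a ∈ A)
    (F : G → ℂ) (hF : Cfsg.IsClassFunction G F) (S : Finset G) (hSne : S.Nonempty)
    (hS : (↑S : Set G) ⊆ A) (haS : a ∉ S) :
    dadeTerm H F a S + dadeTerm H F a (insert a S) = 0 := by
  unfold dadeTerm
  by_cases h : dadeConjFinset a S = S
  · rw [if_pos h, if_pos ((dadeConjFinset_insert_iff a S haS).mpr h),
      ← dadeAvg_insert A L H hD S hSne hS a ha h F hF, Finset.card_insert_of_notMem haS]
    ring
  · rw [if_neg h, if_neg (fun h' => h ((dadeConjFinset_insert_iff a S haS).mp h')), add_zero]

open Classical in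
theorem dade_telescope [Fintype G] (A : Set G) (L : Subgroup G) (H : G → Subgroup G)
    (hD : Cfsg.DadeHypothesis A L H) (a : G) (ha : a ∈ A)
    (F : G → ℂ) (hF : Cfsg.IsClassFunction G F) :
    ∑ S ∈ dadeFam A, dadeTerm H F a S = dadeAvg H {a} F a := by
  have hmem : ({a} : Finset G) ∈ dadeFam A := by
    rw [mem_dadeFam]
    refine ⟨Finset.singleton_nonempty a, ?_⟩
    intro b hb
    rw [Finset.coe_singleton, Set.mem_singleton_iff] at hb
    rw [hb]
    exact ha
  rw [← Finset.add_sum_erase _ _ hmem]
  have h1 : dadeTerm H F a {a} = dadeAvg H {a} F a := by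
    unfold dadeTerm
    have : dadeConjFinset a ({a} : Finset G) = {a} := by
      unfold dadeConjFinset
      rw [Finset.image_singleton]
      congr 1
      group
    rw [if_pos this, Finset.card_singleton]
    norm_num
  rw [h1]
  have h2 : ∑ S ∈ (dadeFam A).erase {a}, dadeTerm H F a S = 0 := by
    -- basic facts about members
    have hne_erase : ∀ S : Finset G, S.Nonempty → S ≠ {a} → a ∈ S → (S.erase a).Nonempty := by
      intro S hSne hSa haS
      by_contra hcon
      rw [Finset.not_nonempty_iff_eq_empty] at hcon
      apply hSa
      rw [← Finset.insert_erase haS, hcon]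
      rfl
    refine Finset.sum_involution
      (fun S _ => if a ∈ S then S.erase a else insert a S) ?_ ?_ ?_ ?_
    · intro S hS
      rw [Finset.mem_erase, mem_dadeFam] at hS
      obtain ⟨hSa, hSne, hSA⟩ := hS
      by_cases haS : a ∈ S
      · simp only [if_pos haS]
        have h3 := dadeTerm_pair A L H hD a ha F hF (S.erase a) (hne_erase S hSne hSa haS)
          (fun b hb => hSA (Finset.mem_of_mem_erase (Finset.mem_coe.mp hb)))
          (Finset.notMem_erase a S)
        rw [Finset.insert_erase haS] at h3
        rw [add_comm]
        exact h3
      · simp only [if_neg haS]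
        exact dadeTerm_pair A L H hD a ha F hF S hSne hSA haS
    · intro S hS _
      by_cases haS : a ∈ S
      · simp only [if_pos haS]
        intro h
        have := Finset.notMem_erase a S
        rw [h] at this
        exact this haS
      · simp only [if_neg haS]
        intro h
        apply haS
        rw [← h]
        exact Finset.mem_insert_self a S
    · intro S hS
      rw [Finset.mem_erase, mem_dadeFam] at hS ⊢
      obtain ⟨hSa, hSne, hSA⟩ := hS
      by_cases haS : a ∈ S
      · simp only [if_pos haS]
        refine ⟨?_, hne_erase S hSne hSa haS, ?_⟩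
        · intro h
          have := Finset.notMem_erase a S
          rw [h] at this
          exact this (Finset.mem_singleton_self a)
        · intro b hb
          exact hSA (Finset.mem_of_mem_erase (Finset.mem_coe.mp hb))
      · simp only [if_neg haS]
        refine ⟨?_, Finset.insert_nonempty a S, ?_⟩
        · intro h
          obtain ⟨b, hb⟩ := hSne
          have h3 : b ∈ insert a S := Finset.mem_insert_of_mem hb
          rw [h, Finset.mem_singleton] at h3
          rw [h3] at hb
          exact haS hb
        · intro b hb
          rw [Finset.coe_insert, Set.mem_insert_iff] at hb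
          rcases hb with rfl | hb
          · exact ha
          · exact hSA hb
    · intro S hS
      by_cases haS : a ∈ S
      · simp only [if_pos haS, Finset.notMem_erase, if_false]
        exact Finset.insert_erase haS
      · simp only [if_neg haS, Finset.mem_insert_self, if_true]
        exact Finset.erase_insert haS
  rw [h2, add_zero]

end Cfsg.Agent.Helper6
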