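import Mathlib
import Cfsg.Prelude.Def_OddOrderChar
import Cfsg.Agent.Helper6.DadeIntD
import Cfsg.Agent.Helper6.CosetAvg
import Cfsg.Agent.Helper6.Induced
import Cfsg.Agent.Helper6.ClassInner

/-!
# Integrality of the local inner products in the Dade expansion
-/

set_option autoImplicit false
set_option linter.style.haveILetI false

namespace Cfsg.Agent.Helper6

open scoped ComplexConjugate

universe u

variable {G : Type u} [Group G]

theorem sum_subtype_ite {X : Type*} [Fintype X] (p : X → Prop) [DecidablePred p]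
    [Fintype {x // p x}] (F : X → ℂ) :
    ∑ x : {x // p x}, F x = ∑ x : X, if p x then F x else 0 := by
  rw [← Finset.sum_filter]
  symm
  exact Finset.sum_subtype (Finset.univ.filter p) (by simp) F

/-- The stabiliser in `L` of a finite subset under conjugation. -/
noncomputable def dadeStab (L : Subgroup G) (S : Finset G) : Subgroup L :=
  @MulAction.stabilizer L (Finset G) _ (dadeFinsetAction L) S

theorem mem_dadeStab (L : Subgroup G) (S : Finset G) (x : L) :
    x ∈ dadeStab L S ↔ dadeConjFinset (x : G) S = S := by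
  unfold dadeStab
  letI := dadeFinsetAction L
  exact MulAction.mem_stabilizer_iff

open Classical in
/-- The local inner product (times the order of the stabiliser). -/
noncomputable def dadeJ [Fintype G] (L : Subgroup G) [Fintype L] (H : G → Subgroup G)
    (α : L → ℂ) (χ : G → ℂ) (S : Finset G) : ℂ :=
  ∑ x : L, if dadeConjFinset (x : G) S = S then α x * conj (dadeAvg H S χ x) else 0

theorem IsGeneralizedCharacter.comp_hom' {X Y : Type*} [Group X] [Group Y] (f : Y →* X)
    {θ : X → ℂ} (h : Cfsg.IsGeneralizedCharacter X θ) :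
    Cfsg.IsGeneralizedCharacter Y (fun y => θ (f y)) := by
  obtain ⟨χ, ψ, hχ, hψ, rfl⟩ := h
  exact ⟨fun y => χ (f y), fun y => ψ (f y), IsCharacter.comp_hom f hχ, IsCharacter.comp_hom f hψ,
    rfl⟩

theorem classInner_gen_char_int {X : Type*} [Group X] [Fintype X] {θ φ : X → ℂ}
    (hθ : Cfsg.IsGeneralizedCharacter X θ) (hφ : Cfsg.IsCharacter X φ) :
    ∃ n : ℤ, Cfsg.classInner θ φ = n := by
  obtain ⟨χ, ψ, hχ, hψ, rfl⟩ := hθ
  obtain ⟨a, ha⟩ := classInner_char_char_nat hχ hφ
  obtain ⟨b, hb⟩ := classInner_char_char_nat hψ hφ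
  refine ⟨(a : ℤ) - b, ?_⟩
  rw [classInner_sub_left, ha, hb]
  push_cast
  rfl

theorem dadeJ_int [Fintype G] (A : Set G) (L : Subgroup G) [Fintype L] (H : G → Subgroup G)
    (hD : Cfsg.DadeHypothesis A L H) (S : Finset G) (hS : (↑S : Set G) ⊆ A)
    (α : L → ℂ) (hα : Cfsg.IsGeneralizedCharacter L α) (χ : G → ℂ)
    (hχ : Cfsg.IsCharacter G χ) :
    ∃ n : ℤ, dadeJ L H α χ S = (Nat.card (dadeStab L S) : ℂ) * n := by
  classical
  set K : Subgroup G := dadeInf H S with hK
  set N : Subgroup L := dadeStab L S with hN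
  set M : Subgroup G := Subgroup.normalizer (K : Set G) with hM
  have hNM : ∀ x : N, ((x : L) : G) ∈ M := by
    intro x
    have hx : dadeConjFinset ((x : L) : G) S = S := (mem_dadeStab L S x).mp x.2
    rw [hM, Subgroup.mem_normalizer_iff]
    intro u
    have := dadeInf_conj_mem_iff A L H hD ((x : L) : G) (x : L).2 S hS u
    rw [hx] at this
    exact this.symm
  set j : N →* M := MonoidHom.codRestrict (L.subtype.comp N.subtype) M hNM with hj
  set f : M → ℂ := fun m => χ m with hf
  have hfchar : Cfsg.IsCharacter M f := IsCharacter.restrict M hχ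
  set K' : Subgroup M := K.subgroupOf M with hK'
  haveI : K'.Normal := Subgroup.normal_in_normalizer
  haveI : Fintype K' := Fintype.ofFinite _
  have hφchar : Cfsg.IsCharacter M (cosetAvg K' f) := cosetAvg_isCharacter K' hfchar
  have hφj : Cfsg.IsCharacter N (fun x => cosetAvg K' f (j x)) := IsCharacter.comp_hom j hφchar
  have hαi : Cfsg.IsGeneralizedCharacter N (fun x => α (N.subtype x)) :=
    IsGeneralizedCharacter.comp_hom' N.subtype hα
  haveI : Fintype N := Fintype.ofFinite _
  obtain ⟨n, hn⟩ := classInner_gen_char_int hαi hφj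
  refine ⟨n, ?_⟩
  rw [← hn, classInner_def]
  have hN0 : (Nat.card N : ℂ) ≠ 0 := Nat.cast_ne_zero.mpr Nat.card_pos.ne'
  rw [← mul_assoc, mul_inv_cancel₀ hN0, one_mul]
  -- the averaged function
  have hKM : K ≤ M := Subgroup.le_normalizer
  have havg : ∀ x : N, cosetAvg K' f (j x) = dadeAvg H S χ ((x : L) : G) := by
    intro x
    unfold cosetAvg dadeAvg
    rw [← hK]
    congr 1
    · have : Nat.card K' = Nat.card K :=
        Nat.card_congr (Subgroup.subgroupOfEquivOfLe hKM).toEquiv
      rw [this]
    · haveI : Fintype K := Fintype.ofFinite _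
      rw [← sum_subtype_ite (fun u => u ∈ K) (fun u => χ (((x : L) : G) * u))]
      apply Fintype.sum_equiv (Subgroup.subgroupOfEquivOfLe hKM).toEquiv
      intro k
      rfl
  unfold dadeJ
  rw [← sum_subtype_ite (fun x : L => dadeConjFinset (x : G) S = S)
    (fun x => α x * conj (dadeAvg H S χ x))]
  apply Fintype.sum_equiv (Equiv.subtypeEquivRight (fun x => (mem_dadeStab L S x).symm))
  intro x
  have := havg ⟨x.1, (mem_dadeStab L S x.1).mpr x.2⟩
  simp only at this
  rw [← this]
  rfl

end Cfsg.Agent.Helper6
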