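import Mathlib

/-!
# Group algebra of a normal subgroup inside the group algebra: inclusion, restriction of support,
conjugation, transversal decomposition (generic coefficient ring)
-/

set_option autoImplicit false

namespace Cfsg.Agent.Helper6.Cov

universe u v

variable (k : Type v) [CommRing k] {G : Type u} [Group G]

/-- inclusion of the group algebra of a subgroup -/
noncomputable def covIncl (N : Subgroup G) : MonoidAlgebra k N →+* MonoidAlgebra k G :=
  MonoidAlgebra.mapDomainRingHom k N.subtype

/-- restriction of the support to the subgroup `N` -/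
noncomputable def covRes (N : Subgroup G) : MonoidAlgebra k G →ₗ[k] MonoidAlgebra k N where
  toFun z := MonoidAlgebra.ofCoeff
    (Finsupp.comapDomain (N.subtype : N → G) z.coeff Subtype.val_injective.injOn)
  map_add' x y := by
    apply MonoidAlgebra.coeff_injective
    ext n
    simp [Finsupp.comapDomain_apply]
  map_smul' c x := by
    apply MonoidAlgebra.coeff_injective
    ext n
    simp [Finsupp.comapDomain_apply]

variable {k}

@[simp]
theorem covRes_coeff (N : Subgroup G) (z : MonoidAlgebra k G) (n : N) :
    (covRes k N z).coeff n = z.coeff (n : G) := by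
  simp [covRes, Finsupp.comapDomain_apply]

theorem covIncl_coeff_coe (N : Subgroup G) (w : MonoidAlgebra k N) (n : N) :
    (covIncl k N w).coeff (n : G) = w.coeff n := by
  unfold covIncl
  rw [MonoidAlgebra.mapDomainRingHom_apply, MonoidAlgebra.coeff_mapDomain]
  exact Finsupp.mapDomain_apply (f := N.subtype) Subtype.val_injective w.coeff n

theorem covIncl_coeff_of_not_mem (N : Subgroup G) (w : MonoidAlgebra k N) {g : G} (hg : g ∉ N) :
    (covIncl k N w).coeff g = 0 := by
  unfold covIncl
  rw [MonoidAlgebra.mapDomainRingHom_apply, MonoidAlgebra.coeff_mapDomain]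
  apply Finsupp.mapDomain_of_notMem_range
  rintro ⟨n, rfl⟩
  exact hg n.2

theorem covIncl_single (N : Subgroup G) (n : N) (c : k) :
    covIncl k N (MonoidAlgebra.single n c) = MonoidAlgebra.single (n : G) c := by
  unfold covIncl
  rw [MonoidAlgebra.mapDomainRingHom_apply, MonoidAlgebra.mapDomain_single]
  rfl

theorem cov_ext {H : Type*} [Monoid H] (x y : MonoidAlgebra k H)
    (h : ∀ g, x.coeff g = y.coeff g) : x = y := by
  apply MonoidAlgebra.coeff_injective
  ext g
  exact h g

theorem covIncl_injective (N : Subgroup G) : Function.Injective (covIncl k N) := by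
  intro a b hab
  apply cov_ext
  intro n
  rw [← covIncl_coeff_coe, ← covIncl_coeff_coe, hab]

@[simp]
theorem covRes_covIncl (N : Subgroup G) (a : MonoidAlgebra k N) : covRes k N (covIncl k N a) = a := by
  apply cov_ext
  intro n
  rw [covRes_coeff, covIncl_coeff_coe]


theorem covRes_covIncl_mul (N : Subgroup G) (a : MonoidAlgebra k N) (z : MonoidAlgebra k G) :
    covRes k N (covIncl k N a * z) = a * covRes k N z := by
  induction a using MonoidAlgebra.induction_linear with
  | zero => simp
  | add x y hx hy => rw [map_add, add_mul, map_add, hx, hy, add_mul]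
  | single m c =>
    apply cov_ext
    intro n
    rw [covRes_coeff, covIncl_single, MonoidAlgebra.coeff_single_mul_apply,
      MonoidAlgebra.coeff_single_mul_apply, covRes_coeff]
    rfl

theorem covRes_mul_covIncl (N : Subgroup G) (z : MonoidAlgebra k G) (a : MonoidAlgebra k N) :
    covRes k N (z * covIncl k N a) = covRes k N z * a := by
  induction a using MonoidAlgebra.induction_linear with
  | zero => simp
  | add x y hx hy => rw [map_add, mul_add, map_add, hx, hy, mul_add]
  | single m c =>
    apply cov_ext
    intro n
    rw [covRes_coeff, covIncl_single, MonoidAlgebra.coeff_mul_single_apply,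
      MonoidAlgebra.coeff_mul_single_apply, covRes_coeff]
    rfl

/-- conjugation by `g` on the group algebra of a normal subgroup -/
noncomputable def covConj (N : Subgroup G) [N.Normal] (g : G) :
    MonoidAlgebra k N ≃+* MonoidAlgebra k N :=
  MonoidAlgebra.mapDomainRingEquiv k (MulAut.conjNormal g : N ≃* N)

theorem covConj_single (N : Subgroup G) [N.Normal] (g : G) (n : N) (c : k) :
    covConj (k := k) N g (MonoidAlgebra.single n c) =
      MonoidAlgebra.single (MulAut.conjNormal g n : N) c := by
  unfold covConj
  apply cov_ext
  intro m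
  rw [MonoidAlgebra.coeff_mapDomainRingEquiv]
  classical
  simp [MonoidAlgebra.coeff_single, Finsupp.single_apply, eq_comm]

theorem single_mul_covIncl (N : Subgroup G) [N.Normal] (g : G) (a : MonoidAlgebra k N) :
    MonoidAlgebra.single g (1 : k) * covIncl k N a =
      covIncl k N (covConj N g a) * MonoidAlgebra.single g 1 := by
  induction a using MonoidAlgebra.induction_linear with
  | zero => simp
  | add x y hx hy => rw [map_add, mul_add, hx, hy, map_add, map_add, add_mul]
  | single m c =>
    rw [covConj_single, covIncl_single, covIncl_single, MonoidAlgebra.single_mul_single,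
      MonoidAlgebra.single_mul_single, one_mul, mul_one]
    congr 1
    simp [MulAut.conjNormal_apply]


/-- right transversal decomposition of a group algebra element over a normal subgroup -/
theorem exists_transversal_decomp [Finite G] (N : Subgroup G) [hN : N.Normal] :
    ∃ T : Finset G, ∀ z : MonoidAlgebra k G,
      z = ∑ t ∈ T, covIncl k N (covRes k N (z * MonoidAlgebra.single t⁻¹ 1)) *
        MonoidAlgebra.single t 1 := by
  classical
  haveI := Fintype.ofFinite (G ⧸ N)
  refine ⟨Finset.univ.image (fun q : G ⧸ N => q.out), fun z => ?_⟩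
  apply cov_ext
  intro h
  rw [MonoidAlgebra.coeff_sum, Finsupp.finsetSum_apply]
  rw [Finset.sum_image (fun a _ b _ hab => by
    have := congrArg (fun x : G => (x : G ⧸ N)) hab
    simpa using this)]
  rw [Finset.sum_eq_single ((h : G ⧸ N))]
  · rw [MonoidAlgebra.coeff_mul_single_apply, mul_one]
    have hmem : h * ((h : G ⧸ N).out)⁻¹ ∈ N := by
      have h1 : ((h : G ⧸ N).out : G ⧸ N) = (h : G ⧸ N) := QuotientGroup.out_eq' _
      have h2 : ((h : G ⧸ N).out)⁻¹ * h ∈ N := QuotientGroup.eq.mp h1
      have := hN.conj_mem _ h2 ((h : G ⧸ N).out)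
      simpa [mul_assoc] using this
    have := covIncl_coeff_coe (k := k) N
      (covRes k N (z * MonoidAlgebra.single ((h : G ⧸ N).out)⁻¹ 1)) ⟨_, hmem⟩
    rw [this, covRes_coeff, MonoidAlgebra.coeff_mul_single_apply, mul_one]
    simp
  · intro q _ hq
    rw [MonoidAlgebra.coeff_mul_single_apply, mul_one]
    apply covIncl_coeff_of_not_mem
    intro hmem
    apply hq
    have h2 : (q.out)⁻¹ * h ∈ N := by
      have := hN.conj_mem _ hmem (q.out)⁻¹
      simpa [mul_assoc] using this
    have h3 : ((q.out : G) : G ⧸ N) = (h : G ⧸ N) := QuotientGroup.eq.mpr h2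
    rw [← h3]
    exact (QuotientGroup.out_eq' q).symm
  · intro hne
    exact absurd (Finset.mem_univ _) hne

end Cfsg.Agent.Helper6.Cov
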