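import Mathlib
import Cfsg.Prelude.Def_Characters
import Cfsg.Prelude.Def_Blocks
import Cfsg.Agent.Helper6.GroupAlgC
import Cfsg.Agent.Helper6.GroupAlgD
import Cfsg.Agent.Helper6.BlockUnion
import Cfsg.Agent.Helper6.CovDefs

/-!
# The local ring at `M` as a subring of `ℂ`, its residue field, and reduction of group algebras
-/

set_option autoImplicit false
set_option linter.style.haveILetI false

namespace Cfsg.Agent.Helper6.Cov

open Cfsg.Agent.Helper6

universe u

variable {G : Type u} [Group G] {M : Ideal Cfsg.AlgInt}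

/-- the local ring at `M` as a subring of `ℂ` -/
def Rloc (hM : M.IsMaximal) : Subring ℂ where
  carrier := {z | Cfsg.MemLocalRing M z}
  mul_mem' hx hy := MemLocalRing.mul hM hx hy
  one_mem' := memLocalRing_one hM
  add_mem' hx hy := MemLocalRing.add hM hx hy
  zero_mem' := memLocalRing_zero hM
  neg_mem' hx := MemLocalRing.neg hx

theorem mem_Rloc (hM : M.IsMaximal) (z : ℂ) : z ∈ Rloc hM ↔ Cfsg.MemLocalRing M z := Iff.rfl

/-- the maximal ideal of the local ring -/
def Mloc (hM : M.IsMaximal) : Ideal (Rloc hM) where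
  carrier := {z | Cfsg.MemLocalIdeal M (z : ℂ)}
  add_mem' hx hy := MemLocalIdeal.add hM hx hy
  zero_mem' := memLocalIdeal_zero hM
  smul_mem' c x hx := MemLocalIdeal.mul_left hM c.2 hx

theorem mem_Mloc (hM : M.IsMaximal) (z : Rloc hM) :
    z ∈ Mloc hM ↔ Cfsg.MemLocalIdeal M (z : ℂ) := Iff.rfl

instance Mloc_isMaximal (hM : M.IsMaximal) : (Mloc hM).IsMaximal := by
  rw [Ideal.isMaximal_iff]
  refine ⟨fun h => not_memLocalIdeal_one h, ?_⟩
  intro J x _ hxM hxJ
  have hinv : Cfsg.MemLocalRing M ((x : ℂ))⁻¹ := memLocalRing_inv_of_unit hM x.2 hxM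
  have hx0 : (x : ℂ) ≠ 0 := by
    intro h0
    apply hxM
    rw [mem_Mloc, h0]
    exact memLocalIdeal_zero hM
  have : (1 : Rloc hM) = (⟨(x : ℂ)⁻¹, hinv⟩ : Rloc hM) * x := by
    apply Subtype.ext
    simp [hx0]
  rw [this]
  exact J.mul_mem_left _ hxJ

/-- the residue field -/
abbrev Fres (hM : M.IsMaximal) : Type := Rloc hM ⧸ Mloc hM

noncomputable instance Fres_field (hM : M.IsMaximal) : Field (Fres hM) :=
  Ideal.Quotient.field (Mloc hM)

/-- embedding of the local group algebra into the complex group algebra -/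
noncomputable def gaEmb (hM : M.IsMaximal) (G : Type u) [Group G] :
    MonoidAlgebra (Rloc hM) G →+* MonoidAlgebra ℂ G :=
  MonoidAlgebra.mapRingHom G (Rloc hM).subtype

/-- reduction of the local group algebra modulo the maximal ideal -/
noncomputable def gaRed (hM : M.IsMaximal) (G : Type u) [Group G] :
    MonoidAlgebra (Rloc hM) G →+* MonoidAlgebra (Fres hM) G :=
  MonoidAlgebra.mapRingHom G (Ideal.Quotient.mk (Mloc hM))

theorem gaEmb_coeff (hM : M.IsMaximal) (x : MonoidAlgebra (Rloc hM) G) (g : G) :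
    (gaEmb hM G x).coeff g = ((x.coeff g : Rloc hM) : ℂ) := by
  unfold gaEmb
  rw [MonoidAlgebra.coeff_mapRingHom]
  rfl

theorem gaRed_coeff (hM : M.IsMaximal) (x : MonoidAlgebra (Rloc hM) G) (g : G) :
    (gaRed hM G x).coeff g = Ideal.Quotient.mk (Mloc hM) (x.coeff g) := by
  unfold gaRed
  rw [MonoidAlgebra.coeff_mapRingHom]

theorem gaEmb_injective (hM : M.IsMaximal) : Function.Injective (gaEmb hM G) := by
  intro x y hxy
  apply cov_ext
  intro g
  have := congrArg (fun w => w.coeff g) hxy
  simp only [gaEmb_coeff] at this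
  exact Subtype.ext this

theorem gaLoc_gaEmb (hM : M.IsMaximal) (x : MonoidAlgebra (Rloc hM) G) : GaLoc M (gaEmb hM G x) := by
  intro g
  rw [gaEmb_coeff]
  exact (x.coeff g).2

/-- lifting an element with local coefficients -/
noncomputable def gaLift [Finite G] (hM : M.IsMaximal) (w : MonoidAlgebra ℂ G) (hw : GaLoc M w) :
    MonoidAlgebra (Rloc hM) G :=
  MonoidAlgebra.ofCoeff (Finsupp.equivFunOnFinite.symm (fun g => (⟨w.coeff g, hw g⟩ : Rloc hM)))

theorem gaLift_coeff [Finite G] (hM : M.IsMaximal) (w : MonoidAlgebra ℂ G) (hw : GaLoc M w) (g : G) :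
    (gaLift hM w hw).coeff g = (⟨w.coeff g, hw g⟩ : Rloc hM) := by
  simp [gaLift]

@[simp]
theorem gaEmb_gaLift [Finite G] (hM : M.IsMaximal) (w : MonoidAlgebra ℂ G) (hw : GaLoc M w) :
    gaEmb hM G (gaLift hM w hw) = w := by
  apply cov_ext
  intro g
  rw [gaEmb_coeff, gaLift_coeff]

theorem gaLift_gaEmb [Finite G] (hM : M.IsMaximal) (x : MonoidAlgebra (Rloc hM) G) :
    gaLift hM (gaEmb hM G x) (gaLoc_gaEmb hM x) = x :=
  gaEmb_injective hM (gaEmb_gaLift hM _ _)

theorem gaRed_eq_zero_iff (hM : M.IsMaximal) (x : MonoidAlgebra (Rloc hM) G) :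
    gaRed hM G x = 0 ↔ ∀ g, Cfsg.MemLocalIdeal M ((gaEmb hM G x).coeff g) := by
  constructor
  · intro h g
    have := congrArg (fun w => w.coeff g) h
    simp only [gaRed_coeff, MonoidAlgebra.coeff_zero, Finsupp.zero_apply] at this
    rw [Ideal.Quotient.eq_zero_iff_mem, mem_Mloc] at this
    rw [gaEmb_coeff]
    exact this
  · intro h
    apply cov_ext
    intro g
    rw [gaRed_coeff, MonoidAlgebra.coeff_zero, Finsupp.zero_apply, Ideal.Quotient.eq_zero_iff_mem,
      mem_Mloc, ← gaEmb_coeff]
    exact h g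

theorem gaRed_surjective [Finite G] (hM : M.IsMaximal) : Function.Surjective (gaRed hM G) := by
  intro y
  refine ⟨MonoidAlgebra.ofCoeff (Finsupp.equivFunOnFinite.symm
    (fun g => Function.surjInv Ideal.Quotient.mk_surjective (y.coeff g))), ?_⟩
  apply cov_ext
  intro g
  rw [gaRed_coeff]
  simp [Function.surjInv_eq]

/-- a section of the reduction whose coefficients depend only on the coefficients -/
noncomputable def gaSec [Finite G] (hM : M.IsMaximal) (y : MonoidAlgebra (Fres hM) G) :
    MonoidAlgebra (Rloc hM) G :=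
  MonoidAlgebra.ofCoeff (Finsupp.equivFunOnFinite.symm
    (fun g => Function.surjInv (Ideal.Quotient.mk_surjective (I := Mloc hM)) (y.coeff g)))

theorem gaSec_coeff [Finite G] (hM : M.IsMaximal) (y : MonoidAlgebra (Fres hM) G) (g : G) :
    (gaSec hM y).coeff g =
      Function.surjInv (Ideal.Quotient.mk_surjective (I := Mloc hM)) (y.coeff g) := by
  simp [gaSec]

@[simp]
theorem gaRed_gaSec [Finite G] (hM : M.IsMaximal) (y : MonoidAlgebra (Fres hM) G) :
    gaRed hM G (gaSec hM y) = y := by
  apply cov_ext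
  intro g
  rw [gaRed_coeff, gaSec_coeff]
  exact Function.surjInv_eq _ _

/-- compatibility of the inclusion of a subgroup algebra with change of coefficients -/
theorem covIncl_mapRingHom {k k' : Type*} [CommRing k] [CommRing k'] (f : k →+* k')
    (N : Subgroup G) (a : MonoidAlgebra k N) :
    covIncl k' N (MonoidAlgebra.mapRingHom N f a) = MonoidAlgebra.mapRingHom G f (covIncl k N a) := by
  induction a using MonoidAlgebra.induction_linear with
  | zero => simp
  | add x y hx hy => simp only [map_add, hx, hy]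
  | single m c =>
    rw [MonoidAlgebra.mapRingHom_single, covIncl_single, covIncl_single,
      MonoidAlgebra.mapRingHom_single]

theorem covRes_mapRingHom {k k' : Type*} [CommRing k] [CommRing k'] (f : k →+* k')
    (N : Subgroup G) (z : MonoidAlgebra k G) :
    covRes k' N (MonoidAlgebra.mapRingHom G f z) = MonoidAlgebra.mapRingHom N f (covRes k N z) := by
  apply cov_ext
  intro n
  rw [covRes_coeff, MonoidAlgebra.coeff_mapRingHom, MonoidAlgebra.coeff_mapRingHom, covRes_coeff]

theorem gaIncl_eq_covIncl (N : Subgroup G) : gaIncl N = covIncl ℂ N := rfl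

end Cfsg.Agent.Helper6.Cov
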