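import Mathlib

/-!
# Definitions for the Külshammer-type argument (S4607): corners, matrix units, symmetric forms
-/

set_option autoImplicit false

namespace Cfsg.Agent.Helper6.Ku

variable (F : Type*) [Field F] {A : Type*} [Ring A] [Algebra F A]

/-- the corner `iAi` (for an idempotent `i`) as an `F`-subspace of `A` -/
def corner (i : A) : Submodule F A where
  carrier := {a | i * a = a ∧ a * i = a}
  add_mem' := by
    rintro a b ⟨ha1, ha2⟩ ⟨hb1, hb2⟩
    exact ⟨by rw [mul_add, ha1, hb1], by rw [add_mul, ha2, hb2]⟩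
  zero_mem' := ⟨mul_zero _, zero_mul _⟩
  smul_mem' := by
    rintro c a ⟨ha1, ha2⟩
    exact ⟨by rw [mul_smul_comm, ha1], by rw [smul_mul_assoc, ha2]⟩

theorem mem_corner {i a : A} : a ∈ corner F i ↔ i * a = a ∧ a * i = a := Iff.rfl

/-- the centre of the corner `iAi`, as an `F`-subspace of `A` -/
def cornerCenter (i : A) : Submodule F A where
  carrier := {a | (i * a = a ∧ a * i = a) ∧ ∀ x : A, i * x = x → x * i = x → a * x = x * a}
  add_mem' := by
    rintro a b ⟨⟨ha1, ha2⟩, ha⟩ ⟨⟨hb1, hb2⟩, hb⟩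
    refine ⟨⟨by rw [mul_add, ha1, hb1], by rw [add_mul, ha2, hb2]⟩, ?_⟩
    intro x hx1 hx2
    rw [add_mul, mul_add, ha x hx1 hx2, hb x hx1 hx2]
  zero_mem' := ⟨⟨mul_zero _, zero_mul _⟩, fun x _ _ => by rw [zero_mul, mul_zero]⟩
  smul_mem' := by
    rintro c a ⟨⟨ha1, ha2⟩, ha⟩
    refine ⟨⟨by rw [mul_smul_comm, ha1], by rw [smul_mul_assoc, ha2]⟩, ?_⟩
    intro x hx1 hx2
    rw [smul_mul_assoc, mul_smul_comm, ha x hx1 hx2]

theorem mem_cornerCenter {i a : A} : a ∈ cornerCenter F i ↔
    (i * a = a ∧ a * i = a) ∧ ∀ x : A, i * x = x → x * i = x → a * x = x * a := Iff.rfl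

/-- the left ideal `A i` as an `F`-subspace -/
def leftIdeal (i : A) : Submodule F A := LinearMap.range (LinearMap.mulRight F i)

theorem mem_leftIdeal {i a : A} : a ∈ leftIdeal F i ↔ ∃ x : A, x * i = a := by
  unfold leftIdeal
  rw [LinearMap.mem_range]
  rfl

/-- the central elements `z` of `A` with `z ε = z` -/
def centerUnder (ε : A) : Submodule F A where
  carrier := {z | (∀ x : A, z * x = x * z) ∧ z * ε = z}
  add_mem' := by
    rintro a b ⟨ha, ha2⟩ ⟨hb, hb2⟩
    exact ⟨fun x => by rw [add_mul, mul_add, ha x, hb x], by rw [add_mul, ha2, hb2]⟩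
  zero_mem' := ⟨fun x => by rw [zero_mul, mul_zero], zero_mul _⟩
  smul_mem' := by
    rintro c a ⟨ha, ha2⟩
    exact ⟨fun x => by rw [smul_mul_assoc, mul_smul_comm, ha x], by rw [smul_mul_assoc, ha2]⟩

theorem mem_centerUnder {ε z : A} : z ∈ centerUnder F ε ↔ (∀ x : A, z * x = x * z) ∧ z * ε = z :=
  Iff.rfl

variable (A) in
/-- the `F`-span of all additive commutators -/
def commSpan : Submodule F A := Submodule.span F {x | ∃ a b : A, x = a * b - b * a}

/-- a symmetrizing form: symmetric and non-degenerate -/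
structure IsSymForm (lam : A →ₗ[F] F) : Prop where
  symm : ∀ a b : A, lam (a * b) = lam (b * a)
  nondeg : ∀ a : A, (∀ b : A, lam (a * b) = 0) → a = 0

/-- a full set of matrix units lifted modulo the two-sided ideal `J`:
`e j` complete orthogonal idempotents, `i` an idempotent with local corner modulo `J`,
`u j ∈ i A e_j`, `v j ∈ e_j A i` with `u j * v j = i`, `v j * u j = e j`. -/
structure MatUnits (n : ℕ) (J : Ideal A) (i : A) (e u v : Fin n → A) : Prop where
  idem : IsIdempotentElem i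
  coi : CompleteOrthogonalIdempotents e
  u_left : ∀ j, i * u j = u j
  u_right : ∀ j, u j * e j = u j
  v_left : ∀ j, e j * v j = v j
  v_right : ∀ j, v j * i = v j
  uv : ∀ j, u j * v j = i
  vu : ∀ j, v j * u j = e j
  loc : ∀ x : A, ∃ t : F, i * x * i - t • i ∈ J

end Cfsg.Agent.Helper6.Ku
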