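import Mathlib
import Cfsg.Prelude.Def_Characters
import Cfsg.Prelude.Def_Blocks
import Cfsg.Agent.Helper6.GroupAlgMat
import Cfsg.Agent.Helper6.CovLoc

/-!
# `1 - m` is a non-zero-divisor of the complex group algebra when `m` has coefficients in the local ideal
-/

set_option autoImplicit false
set_option linter.style.haveILetI false

namespace Cfsg.Agent.Helper6.Cov

open Cfsg.Agent.Helper6

universe u

variable {G : Type u} [Group G] {M : Ideal Cfsg.AlgInt}

theorem eq_zero_of_gaMatL_eq_zero (x : MonoidAlgebra ℂ G) (h : gaMatL x = 0) : x = 0 := by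
  apply cov_ext
  intro g
  have := congrFun (congrFun h g) 1
  rw [gaMatL_apply, inv_one, mul_one] at this
  rw [this]
  simp

theorem gaMatL_sub' (w₁ w₂ : MonoidAlgebra ℂ G) : gaMatL (w₁ - w₂) = gaMatL w₁ - gaMatL w₂ := by
  ext a' a
  rw [Matrix.sub_apply, gaMatL_apply, gaMatL_apply, gaMatL_apply, MonoidAlgebra.coeff_sub,
    Finsupp.sub_apply]

theorem det_one_sub_ne_zero {n : Type*} [Fintype n] [DecidableEq n] (hM : M.IsMaximal)
    (A : Matrix n n ℂ) (hA : ∀ i j, Cfsg.MemLocalIdeal M (A i j)) : (1 - A).det ≠ 0 := by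
  set A' : Matrix n n (Rloc hM) :=
    Matrix.of fun i j => ⟨A i j, memLocalRing_of_memLocalIdeal (hA i j)⟩ with hA'
  have h1 : (1 - A) = ((Rloc hM).subtype.mapMatrix (1 - A')) := by
    rw [map_sub, map_one]
    congr 1
  have h2 : (Ideal.Quotient.mk (Mloc hM)).mapMatrix (1 - A') = 1 := by
    rw [map_sub, map_one]
    have : (Ideal.Quotient.mk (Mloc hM)).mapMatrix A' = 0 := by
      ext i j
      rw [RingHom.mapMatrix_apply, Matrix.map_apply, Matrix.zero_apply,
        Ideal.Quotient.eq_zero_iff_mem, mem_Mloc]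
      exact hA i j
    rw [this, sub_zero]
  have h3 : Ideal.Quotient.mk (Mloc hM) (1 - A').det = 1 := by
    rw [RingHom.map_det, h2, Matrix.det_one]
  have h4 : (1 - A).det = (((1 - A').det : Rloc hM) : ℂ) := by
    rw [h1, ← RingHom.map_det]
    rfl
  rw [h4]
  intro h0
  have : (1 - A').det = 0 := Subtype.ext h0
  rw [this, map_zero] at h3
  exact zero_ne_one h3

theorem eq_zero_of_mul_one_sub [Fintype G] (hM : M.IsMaximal) (m x : MonoidAlgebra ℂ G)
    (hm : ∀ g, Cfsg.MemLocalIdeal M (m.coeff g)) (h : x * (1 - m) = 0) : x = 0 := by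
  classical
  apply eq_zero_of_gaMatL_eq_zero
  have h1 : gaMatL x * (1 - gaMatL m) = 0 := by
    rw [← gaMatL_one, ← gaMatL_sub', ← gaMatL_mul, h, gaMatL_zero]
  have hdet : (1 - gaMatL m).det ≠ 0 :=
    det_one_sub_ne_zero hM (gaMatL m) (fun i j => hm _)
  have hu : IsUnit (1 - gaMatL m) := by
    rw [Matrix.isUnit_iff_isUnit_det]
    exact isUnit_iff_ne_zero.mpr hdet
  obtain ⟨u, hu'⟩ := hu
  have : gaMatL x * (u : Matrix G G ℂ) = 0 := by rw [hu']; exact h1
  calc gaMatL x = gaMatL x * (u : Matrix G G ℂ) * ((u⁻¹ : (Matrix G G ℂ)ˣ) : Matrix G G ℂ) := by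
        rw [mul_assoc, Units.mul_inv, mul_one]
    _ = 0 := by rw [this, zero_mul]

theorem eq_zero_of_one_sub_mul [Fintype G] (hM : M.IsMaximal) (m x : MonoidAlgebra ℂ G)
    (hm : ∀ g, Cfsg.MemLocalIdeal M (m.coeff g)) (h : (1 - m) * x = 0) : x = 0 := by
  classical
  apply eq_zero_of_gaMatL_eq_zero
  have h1 : (1 - gaMatL m) * gaMatL x = 0 := by
    rw [← gaMatL_one, ← gaMatL_sub', ← gaMatL_mul, h, gaMatL_zero]
  have hdet : (1 - gaMatL m).det ≠ 0 :=
    det_one_sub_ne_zero hM (gaMatL m) (fun i j => hm _)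
  have hu : IsUnit (1 - gaMatL m) := by
    rw [Matrix.isUnit_iff_isUnit_det]
    exact isUnit_iff_ne_zero.mpr hdet
  obtain ⟨u, hu'⟩ := hu
  have : (u : Matrix G G ℂ) * gaMatL x = 0 := by rw [hu']; exact h1
  calc gaMatL x = ((u⁻¹ : (Matrix G G ℂ)ˣ) : Matrix G G ℂ) * ((u : Matrix G G ℂ) * gaMatL x) := by
        rw [← mul_assoc, Units.inv_mul, one_mul]
    _ = 0 := by rw [this, mul_zero]

end Cfsg.Agent.Helper6.Cov
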