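import Mathlib
import Cfsg.Prelude.Def_Characters
import Cfsg.Prelude.Def_Blocks
import Cfsg.Agent.Helper6.GroupAlgD
import Cfsg.Agent.Helper6.BrauerMult

/-!
# Elements of the group algebra commuting with a normal subgroup: coset components

For a normal subgroup `N` of `G` we consider the elements of `ℂ G` commuting with `N`,
their components on the cosets of `N`, and the linear functional
`x ↦ ∑ n ∈ N, x n θ(n) / θ(1)` attached to a function `θ` on `N`.
-/

set_option autoImplicit false
set_option linter.style.haveILetI false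

namespace Cfsg.Agent.Helper6.Kn

open Cfsg.Agent.Helper6

universe u

variable {G : Type u} [Group G] {M : Ideal Cfsg.AlgInt}

/-- `x` commutes with the elements of `N` -/
def NInv (N : Subgroup G) (x : MonoidAlgebra ℂ G) : Prop :=
  ∀ n ∈ N, Commute x (MonoidAlgebra.single n 1)

theorem commute_single_iff (x : MonoidAlgebra ℂ G) (n : G) :
    Commute x (MonoidAlgebra.single n 1) ↔ ∀ g : G, x.coeff (n * g * n⁻¹) = x.coeff g := by
  constructor
  · intro h g
    have h1 : (x * MonoidAlgebra.single n 1).coeff (n * g) =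
        (MonoidAlgebra.single n 1 * x).coeff (n * g) := by rw [h.eq]
    rw [MonoidAlgebra.coeff_mul_single_apply, MonoidAlgebra.coeff_single_mul_apply, mul_one,
      one_mul, inv_mul_cancel_left] at h1
    exact h1
  · intro h
    apply ga_ext
    intro k
    rw [MonoidAlgebra.coeff_mul_single_apply, MonoidAlgebra.coeff_single_mul_apply, mul_one,
      one_mul]
    have := h (n⁻¹ * k)
    rw [← this]
    congr 1
    group

theorem nInv_iff_coeff (N : Subgroup G) (x : MonoidAlgebra ℂ G) :
    NInv N x ↔ ∀ n ∈ N, ∀ g : G, x.coeff (n * g * n⁻¹) = x.coeff g := by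
  unfold NInv
  constructor
  · intro h n hn
    exact (commute_single_iff x n).mp (h n hn)
  · intro h n hn
    exact (commute_single_iff x n).mpr (h n hn)

theorem NInv.zero (N : Subgroup G) : NInv N (0 : MonoidAlgebra ℂ G) :=
  fun _ _ => Commute.zero_left _

theorem NInv.one (N : Subgroup G) : NInv N (1 : MonoidAlgebra ℂ G) :=
  fun _ _ => Commute.one_left _

theorem NInv.add {N : Subgroup G} {x y : MonoidAlgebra ℂ G} (hx : NInv N x) (hy : NInv N y) :
    NInv N (x + y) := fun n hn => Commute.add_left (hx n hn) (hy n hn)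

theorem NInv.neg {N : Subgroup G} {x : MonoidAlgebra ℂ G} (hx : NInv N x) :
    NInv N (-x) := fun n hn => Commute.neg_left (hx n hn)

theorem NInv.sub {N : Subgroup G} {x y : MonoidAlgebra ℂ G} (hx : NInv N x) (hy : NInv N y) :
    NInv N (x - y) := fun n hn => Commute.sub_left (hx n hn) (hy n hn)

theorem NInv.mul {N : Subgroup G} {x y : MonoidAlgebra ℂ G} (hx : NInv N x) (hy : NInv N y) :
    NInv N (x * y) := fun n hn => Commute.mul_left (hx n hn) (hy n hn)

theorem NInv.smul {N : Subgroup G} {x : MonoidAlgebra ℂ G} (hx : NInv N x) (c : ℂ) :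
    NInv N (c • x) := fun n hn => Commute.smul_left (hx n hn) c

theorem NInv.sum {N : Subgroup G} {ι : Type*} (s : Finset ι) (f : ι → MonoidAlgebra ℂ G)
    (h : ∀ i ∈ s, NInv N (f i)) : NInv N (∑ i ∈ s, f i) :=
  fun n hn => Commute.sum_left _ _ _ (fun i hi => h i hi n hn)

theorem nInv_of_central (N : Subgroup G) {x : MonoidAlgebra ℂ G}
    (hx : ∀ g : G, Commute x (MonoidAlgebra.single g 1)) : NInv N x :=
  fun n _ => hx n

/-- the support of `x` lies in `N` -/
def SuppIn (N : Subgroup G) (x : MonoidAlgebra ℂ G) : Prop :=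
  ∀ g : G, g ∉ N → x.coeff g = 0

theorem SuppIn.zero (N : Subgroup G) : SuppIn N (0 : MonoidAlgebra ℂ G) := by
  intro g _
  rw [MonoidAlgebra.coeff_zero, Finsupp.zero_apply]

theorem SuppIn.one (N : Subgroup G) : SuppIn N (1 : MonoidAlgebra ℂ G) := by
  classical
  intro g hg
  rw [ga_coeff_one, if_neg]
  rintro rfl
  exact hg N.one_mem

theorem SuppIn.add {N : Subgroup G} {x y : MonoidAlgebra ℂ G} (hx : SuppIn N x)
    (hy : SuppIn N y) : SuppIn N (x + y) := by
  intro g hg
  rw [MonoidAlgebra.coeff_add, Finsupp.add_apply, hx g hg, hy g hg, add_zero]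

theorem SuppIn.neg {N : Subgroup G} {x : MonoidAlgebra ℂ G} (hx : SuppIn N x) :
    SuppIn N (-x) := by
  intro g hg
  rw [MonoidAlgebra.coeff_neg, Finsupp.neg_apply, hx g hg, neg_zero]

theorem SuppIn.mul [Fintype G] {N : Subgroup G} {x y : MonoidAlgebra ℂ G} (hx : SuppIn N x)
    (hy : SuppIn N y) : SuppIn N (x * y) := by
  intro g hg
  rw [ga_coeff_mul]
  apply Finset.sum_eq_zero
  intro t _
  by_cases ht : t ∈ N
  · have : t⁻¹ * g ∉ N := by
      intro h
      apply hg
      have := N.mul_mem ht h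
      rwa [mul_inv_cancel_left] at this
    rw [hy _ this, mul_zero]
  · rw [hx t ht, zero_mul]

/-- an element commuting with `N` commutes with every element supported on `N` -/
theorem commute_of_nInv_of_suppIn [Fintype G] {N : Subgroup G} {x u : MonoidAlgebra ℂ G}
    (hx : NInv N x) (hu : SuppIn N u) : Commute x u := by
  classical
  have hsum : u = ∑ g : G, u.coeff g • MonoidAlgebra.single g (1 : ℂ) := by
    apply ga_ext
    intro k
    rw [ga_coeff_sum, Finset.sum_eq_single k]
    · rw [MonoidAlgebra.coeff_smul, Finsupp.smul_apply, MonoidAlgebra.coeff_single,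
        Finsupp.single_eq_same, smul_eq_mul, mul_one]
    · intro b _ hb
      rw [MonoidAlgebra.coeff_smul, Finsupp.smul_apply, MonoidAlgebra.coeff_single,
        Finsupp.single_eq_of_ne (Ne.symm hb), smul_zero]
    · intro h
      exact absurd (Finset.mem_univ k) h
  rw [hsum]
  apply Commute.sum_right
  intro g _
  by_cases hg : g ∈ N
  · exact Commute.smul_right (hx g hg) _
  · rw [hu g hg, zero_smul]
    exact Commute.zero_right _


section Cosets

variable (N : Subgroup G) [hN : N.Normal]

/-- `x` is supported on the coset `γ` of `N` -/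
def Homog (γ : G ⧸ N) (x : MonoidAlgebra ℂ G) : Prop :=
  ∀ g : G, x.coeff g ≠ 0 → (QuotientGroup.mk g : G ⧸ N) = γ

theorem homog_one_iff (x : MonoidAlgebra ℂ G) : Homog N 1 x ↔ SuppIn N x := by
  unfold Homog SuppIn
  constructor
  · intro h g hg
    by_contra h0
    exact hg ((QuotientGroup.eq_one_iff g).mp (h g h0))
  · intro h g hg
    rw [QuotientGroup.eq_one_iff]
    by_contra hgN
    exact hg (h g hgN)

theorem Homog.mul [Fintype G] {γ δ : G ⧸ N} {x y : MonoidAlgebra ℂ G} (hx : Homog N γ x)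
    (hy : Homog N δ y) : Homog N (γ * δ) (x * y) := by
  intro g hg
  rw [ga_coeff_mul] at hg
  obtain ⟨t, -, ht⟩ := Finset.exists_ne_zero_of_sum_ne_zero hg
  have h1 : x.coeff t ≠ 0 := left_ne_zero_of_mul ht
  have h2 : y.coeff (t⁻¹ * g) ≠ 0 := right_ne_zero_of_mul ht
  have e1 := hx t h1
  have e2 := hy _ h2
  rw [← e1, ← e2, ← QuotientGroup.mk_mul, mul_inv_cancel_left]

theorem Homog.zero (γ : G ⧸ N) : Homog N γ (0 : MonoidAlgebra ℂ G) := by
  intro g hg
  exfalso
  apply hg
  rw [MonoidAlgebra.coeff_zero, Finsupp.zero_apply]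

/-- the component of `x` on the coset `γ` -/
noncomputable def comp [Fintype G] (γ : G ⧸ N) (x : MonoidAlgebra ℂ G) : MonoidAlgebra ℂ G := by
  classical exact gaOfFun (fun g => if (QuotientGroup.mk g : G ⧸ N) = γ then x.coeff g else 0)

theorem comp_coeff [Fintype G] [DecidableEq (G ⧸ N)] (γ : G ⧸ N) (x : MonoidAlgebra ℂ G) (g : G) :
    (comp N γ x).coeff g = if (QuotientGroup.mk g : G ⧸ N) = γ then x.coeff g else 0 := by
  unfold comp
  rw [gaOfFun_coeff]
  congr

theorem homog_comp [Fintype G] (γ : G ⧸ N) (x : MonoidAlgebra ℂ G) : Homog N γ (comp N γ x) := by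
  classical
  intro g hg
  rw [comp_coeff] at hg
  by_contra h
  rw [if_neg h] at hg
  exact hg rfl

theorem comp_of_homog [Fintype G] {γ : G ⧸ N} {x : MonoidAlgebra ℂ G} (hx : Homog N γ x) :
    comp N γ x = x := by
  classical
  apply ga_ext
  intro g
  rw [comp_coeff]
  split_ifs with h
  · rfl
  · by_contra h0
    exact h (hx g (Ne.symm h0))

theorem sum_comp [Fintype G] [Fintype (G ⧸ N)] (x : MonoidAlgebra ℂ G) :
    ∑ γ : G ⧸ N, comp N γ x = x := by
  classical
  apply ga_ext
  intro g
  rw [ga_coeff_sum, Finset.sum_eq_single (QuotientGroup.mk g : G ⧸ N)]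
  · rw [comp_coeff, if_pos rfl]
  · intro b _ hb
    rw [comp_coeff, if_neg (Ne.symm hb)]
  · intro h
    exact absurd (Finset.mem_univ _) h

theorem GaLoc.comp [Fintype G] (hM : M.IsMaximal) (γ : G ⧸ N) {x : MonoidAlgebra ℂ G}
    (hx : GaLoc M x) : GaLoc M (comp N γ x) := by
  classical
  intro g
  rw [comp_coeff]
  split_ifs
  · exact hx g
  · exact memLocalRing_zero hM

include hN in
theorem mk_conj_eq (n : G) (hn : n ∈ N) (g : G) :
    (QuotientGroup.mk (n * g * n⁻¹) : G ⧸ N) = QuotientGroup.mk g := by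
  rw [QuotientGroup.mk_mul, QuotientGroup.mk_mul, QuotientGroup.mk_inv,
    (QuotientGroup.eq_one_iff n).mpr hn, one_mul, inv_one, mul_one]

theorem NInv.comp [Fintype G] (γ : G ⧸ N) {x : MonoidAlgebra ℂ G} (hx : NInv N x) :
    NInv N (comp N γ x) := by
  classical
  rw [nInv_iff_coeff] at hx ⊢
  intro n hn g
  rw [comp_coeff, comp_coeff, mk_conj_eq N n hn g, hx n hn g]

end Cosets

end Cfsg.Agent.Helper6.Kn
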