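import Mathlib
import Cfsg.Agent.Helper6.KnA

/-!
# The functional attached to a character of the normal subgroup
-/

set_option autoImplicit false
set_option linter.style.haveILetI false

namespace Cfsg.Agent.Helper6.Kn

open Cfsg.Agent.Helper6

universe u

variable {G : Type u} [Group G] {M : Ideal Cfsg.AlgInt}

section Lam

variable (N : Subgroup G) [Fintype N]

/-- `x ↦ ∑ n ∈ N, x n θ(n)/θ(1)` -/
noncomputable def lam (θ : N → ℂ) (x : MonoidAlgebra ℂ G) : ℂ :=
  ∑ n : N, x.coeff (n : G) * (θ n / θ 1)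

theorem lam_eq_classVec (θ : Cfsg.IrrCharacter N) (x : MonoidAlgebra ℂ G) :
    lam N (θ : N → ℂ) x = classVec (fun n : N => x.coeff (n : G)) θ := rfl

theorem lam_add (θ : N → ℂ) (x y : MonoidAlgebra ℂ G) :
    lam N θ (x + y) = lam N θ x + lam N θ y := by
  unfold lam
  rw [← Finset.sum_add_distrib]
  apply Finset.sum_congr rfl
  intro n _
  rw [MonoidAlgebra.coeff_add, Finsupp.add_apply, add_mul]

theorem lam_zero (θ : N → ℂ) : lam N θ (0 : MonoidAlgebra ℂ G) = 0 := by
  unfold lam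
  apply Finset.sum_eq_zero
  intro n _
  rw [MonoidAlgebra.coeff_zero, Finsupp.zero_apply, zero_mul]

theorem lam_neg (θ : N → ℂ) (x : MonoidAlgebra ℂ G) : lam N θ (-x) = -lam N θ x := by
  unfold lam
  rw [← Finset.sum_neg_distrib]
  apply Finset.sum_congr rfl
  intro n _
  rw [MonoidAlgebra.coeff_neg, Finsupp.neg_apply, neg_mul]

theorem lam_sum (θ : N → ℂ) {ι : Type*} (s : Finset ι) (f : ι → MonoidAlgebra ℂ G) :
    lam N θ (∑ i ∈ s, f i) = ∑ i ∈ s, lam N θ (f i) := by
  classical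
  induction s using Finset.induction_on with
  | empty => simp [lam_zero]
  | insert a s ha ih => rw [Finset.sum_insert ha, Finset.sum_insert ha, lam_add, ih]

theorem lam_one (θ : N → ℂ) (h1 : θ 1 ≠ 0) : lam N θ (1 : MonoidAlgebra ℂ G) = 1 := by
  classical
  unfold lam
  rw [Finset.sum_eq_single (1 : N)]
  · rw [ga_coeff_one, if_pos (by simp), one_mul, div_self h1]
  · intro b _ hb
    rw [ga_coeff_one, if_neg, zero_mul]
    intro h
    apply hb
    exact Subtype.ext h
  · intro h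
    exact absurd (Finset.mem_univ _) h

/-- the restriction to `N` of the coefficient function of an `N`-invariant element is a class
function -/
theorem isClassFunction_restrict {x : MonoidAlgebra ℂ G} (hx : NInv N x) :
    Cfsg.IsClassFunction N (fun n : N => x.coeff (n : G)) := by
  rw [nInv_iff_coeff] at hx
  intro k n
  exact hx n n.2 k

theorem lam_memLocalRing (hM : M.IsMaximal) (θ : Cfsg.IrrCharacter N) {x : MonoidAlgebra ℂ G}
    (hx : GaLoc M x) (hxN : NInv N x) : Cfsg.MemLocalRing M (lam N (θ : N → ℂ) x) := by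
  rw [lam_eq_classVec]
  exact classVec_memLocalRing hM _ (isClassFunction_restrict N hxN) (fun n => hx _) θ

theorem lam_memLocalIdeal (hM : M.IsMaximal) (θ : Cfsg.IrrCharacter N) {x : MonoidAlgebra ℂ G}
    (hx : ∀ g, Cfsg.MemLocalIdeal M (x.coeff g)) (hxN : NInv N x) :
    Cfsg.MemLocalIdeal M (lam N (θ : N → ℂ) x) := by
  rw [lam_eq_classVec]
  exact classVec_memLocalIdeal hM _ (isClassFunction_restrict N hxN) (fun n => hx _) θ

/-- multiplicativity: `u` supported on `N`, both `N`-invariant -/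
theorem lam_mul [Fintype G] (θ : Cfsg.IrrCharacter N) {u x : MonoidAlgebra ℂ G}
    (hu : SuppIn N u) (hx : NInv N x) :
    lam N (θ : N → ℂ) (u * x) = lam N (θ : N → ℂ) u * lam N (θ : N → ℂ) x := by
  classical
  rw [lam_eq_classVec, lam_eq_classVec, lam_eq_classVec]
  rw [← classVec_cnv _ _ (isClassFunction_restrict N hx)]
  congr 1
  funext m
  unfold cnv
  rw [ga_coeff_mul]
  have hcf := isClassFunction_restrict N hx
  have h1 : ∑ t : G, u.coeff t * x.coeff (t⁻¹ * (m : G)) =
      ∑ t : G, Cfsg.extendByZero N (fun k : N => u.coeff (k : G)) t * x.coeff (t⁻¹ * (m : G)) := by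
    apply Finset.sum_congr rfl
    intro t _
    by_cases ht : t ∈ N
    · rw [extendByZero_mem N _ ht]
    · rw [extendByZero_not_mem N _ ht, hu t ht]
  rw [h1, sum_extendByZero_mul]
  apply Finset.sum_congr rfl
  intro t _
  congr 1
  have h2 : x.coeff ((t⁻¹ * (m * t⁻¹) * t⁻¹⁻¹ : N) : G) = x.coeff ((m * t⁻¹ : N) : G) :=
    hcf (m * t⁻¹) t⁻¹
  show x.coeff ((t : G)⁻¹ * (m : G)) = x.coeff ((m * t⁻¹ : N) : G)
  rw [← h2]
  congr 1
  simp [mul_assoc]

theorem lam_mul_comp [Fintype G] [hN : N.Normal] (θ : N → ℂ) (w y : MonoidAlgebra ℂ G)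
    (γ : G ⧸ N) : lam N θ (w * comp N γ y) = lam N θ (comp N γ⁻¹ w * y) := by
  classical
  unfold lam
  apply Finset.sum_congr rfl
  intro n _
  congr 1
  rw [ga_coeff_mul, ga_coeff_mul]
  apply Finset.sum_congr rfl
  intro t _
  rw [comp_coeff, comp_coeff]
  have h1 : (QuotientGroup.mk (t⁻¹ * (n : G)) : G ⧸ N) = (QuotientGroup.mk t : G ⧸ N)⁻¹ := by
    rw [QuotientGroup.mk_mul, QuotientGroup.mk_inv, (QuotientGroup.eq_one_iff (n : G)).mpr n.2,
      mul_one]
  rw [h1]
  by_cases h : (QuotientGroup.mk t : G ⧸ N) = γ⁻¹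
  · rw [if_pos h, if_pos (by rw [h, inv_inv])]
  · rw [if_neg h, if_neg, mul_zero, zero_mul]
    intro h'
    apply h
    rw [← h', inv_inv]

end Lam

end Cfsg.Agent.Helper6.Kn
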