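import Mathlib
import Cfsg.Agent.Helper6.KnB

/-!
# The ring of `N`-invariant elements with local coefficients, and its centre part
-/

set_option autoImplicit false
set_option linter.style.haveILetI false

namespace Cfsg.Agent.Helper6.Kn

open Cfsg.Agent.Helper6

universe u

variable {G : Type u} [Group G] [Fintype G] {M : Ideal Cfsg.AlgInt}

/-- the ring of `N`-invariant elements with local coefficients -/
def AN (hM : M.IsMaximal) (N : Subgroup G) : Subring (MonoidAlgebra ℂ G) where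
  carrier := {x | GaLoc M x ∧ NInv N x}
  mul_mem' := fun ha hb => ⟨GaLoc.mul hM ha.1 hb.1, NInv.mul ha.2 hb.2⟩
  one_mem' := ⟨GaLoc.one hM, NInv.one N⟩
  add_mem' := fun ha hb => ⟨GaLoc.add hM ha.1 hb.1, NInv.add ha.2 hb.2⟩
  zero_mem' := ⟨GaLoc.zero hM, NInv.zero N⟩
  neg_mem' := fun ha => ⟨GaLoc.neg ha.1, NInv.neg ha.2⟩

theorem mem_AN (hM : M.IsMaximal) (N : Subgroup G) (x : MonoidAlgebra ℂ G) :
    x ∈ AN hM N ↔ GaLoc M x ∧ NInv N x := Iff.rfl

/-- the `N`-invariant elements with local coefficients supported on `N` -/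
def ZN (hM : M.IsMaximal) (N : Subgroup G) : Subring (MonoidAlgebra ℂ G) where
  carrier := {x | GaLoc M x ∧ NInv N x ∧ SuppIn N x}
  mul_mem' := fun ha hb => ⟨GaLoc.mul hM ha.1 hb.1, NInv.mul ha.2.1 hb.2.1,
    SuppIn.mul ha.2.2 hb.2.2⟩
  one_mem' := ⟨GaLoc.one hM, NInv.one N, SuppIn.one N⟩
  add_mem' := fun ha hb => ⟨GaLoc.add hM ha.1 hb.1, NInv.add ha.2.1 hb.2.1,
    SuppIn.add ha.2.2 hb.2.2⟩
  zero_mem' := ⟨GaLoc.zero hM, NInv.zero N, SuppIn.zero N⟩
  neg_mem' := fun ha => ⟨GaLoc.neg ha.1, NInv.neg ha.2.1, SuppIn.neg ha.2.2⟩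

theorem mem_ZN (hM : M.IsMaximal) (N : Subgroup G) (x : MonoidAlgebra ℂ G) :
    x ∈ ZN hM N ↔ GaLoc M x ∧ NInv N x ∧ SuppIn N x := Iff.rfl

theorem ZN_le_AN (hM : M.IsMaximal) (N : Subgroup G) : ZN hM N ≤ AN hM N :=
  fun _ hx => ⟨hx.1, hx.2.1⟩

/-- elements of `ZN` commute with elements of `AN` -/
theorem commute_ZN_AN (hM : M.IsMaximal) (N : Subgroup G) {u x : MonoidAlgebra ℂ G}
    (hu : u ∈ ZN hM N) (hx : x ∈ AN hM N) : Commute u x :=
  (commute_of_nInv_of_suppIn hx.2 hu.2.2).symm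

noncomputable instance instCommRingZN (hM : M.IsMaximal) (N : Subgroup G) :
    CommRing (ZN hM N) :=
  { (inferInstance : Ring (ZN hM N)) with
    mul_comm := fun a b => Subtype.ext
      (commute_ZN_AN hM N a.2 (ZN_le_AN hM N b.2)).eq }

section Ideal

variable (hM : M.IsMaximal) (N : Subgroup G) [Fintype N] (θ : Cfsg.IrrCharacter N)

/-- the kernel of the central character of `θ` modulo the local ideal -/
def JN : Ideal (ZN hM N) where
  carrier := {u | Cfsg.MemLocalIdeal M (lam N (θ : N → ℂ) (u : MonoidAlgebra ℂ G))}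
  add_mem' := by
    intro a b ha hb
    show Cfsg.MemLocalIdeal M (lam N (θ : N → ℂ) ((a + b : ZN hM N) : MonoidAlgebra ℂ G))
    rw [Subring.coe_add, lam_add]
    exact MemLocalIdeal.add hM ha hb
  zero_mem' := by
    show Cfsg.MemLocalIdeal M (lam N (θ : N → ℂ) ((0 : ZN hM N) : MonoidAlgebra ℂ G))
    rw [Subring.coe_zero, lam_zero]
    exact memLocalIdeal_zero hM
  smul_mem' := by
    intro c x hx
    show Cfsg.MemLocalIdeal M (lam N (θ : N → ℂ) ((c • x : ZN hM N) : MonoidAlgebra ℂ G))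
    rw [smul_eq_mul, Subring.coe_mul, lam_mul N θ c.2.2.2 x.2.2.1]
    exact MemLocalIdeal.mul_left hM (lam_memLocalRing N hM θ c.2.1 c.2.2.1) hx

theorem mem_JN (u : ZN hM N) :
    u ∈ JN hM N θ ↔ Cfsg.MemLocalIdeal M (lam N (θ : N → ℂ) (u : MonoidAlgebra ℂ G)) := Iff.rfl

/-- `AN` as a module over `ZN` -/
def ANsub : Submodule (ZN hM N) (MonoidAlgebra ℂ G) where
  carrier := {x | x ∈ AN hM N}
  add_mem' := fun ha hb => (AN hM N).add_mem ha hb
  zero_mem' := (AN hM N).zero_mem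
  smul_mem' := by
    intro c x hx
    show c • x ∈ AN hM N
    rw [Subring.smul_def, smul_eq_mul]
    exact (AN hM N).mul_mem (ZN_le_AN hM N c.2) hx

theorem mem_ANsub (x : MonoidAlgebra ℂ G) : x ∈ ANsub hM N ↔ x ∈ AN hM N := Iff.rfl

end Ideal

end Cfsg.Agent.Helper6.Kn
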