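import Mathlib
import Cfsg.Agent.Helper6.KnC

/-!
# The `N`-invariant elements form a finitely generated module over the centre part
-/

set_option autoImplicit false
set_option linter.style.haveILetI false

namespace Cfsg.Agent.Helper6.Kn

open Cfsg.Agent.Helper6

universe u

variable {G : Type u} [Group G] [Fintype G] {M : Ideal Cfsg.AlgInt}

/-- the sum of the `N`-conjugates of `g` -/
noncomputable def orbSum (N : Subgroup G) (g : G) : MonoidAlgebra ℂ G := by
  classical exact gaOfFun (fun t => if ∃ n ∈ N, n * g * n⁻¹ = t then 1 else 0)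

theorem orbSum_coeff (N : Subgroup G) (g t : G) [Decidable (∃ n ∈ N, n * g * n⁻¹ = t)] :
    (orbSum N g).coeff t = if ∃ n ∈ N, n * g * n⁻¹ = t then 1 else 0 := by
  unfold orbSum
  rw [gaOfFun_coeff]
  congr

theorem orbSum_mem_AN (hM : M.IsMaximal) (N : Subgroup G) (g : G) : orbSum N g ∈ AN hM N := by
  classical
  refine ⟨?_, ?_⟩
  · intro t
    rw [orbSum_coeff]
    split_ifs
    · exact memLocalRing_one hM
    · exact memLocalRing_zero hM
  · rw [nInv_iff_coeff]
    intro m hm t
    rw [orbSum_coeff, orbSum_coeff]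
    have : (∃ n ∈ N, n * g * n⁻¹ = m * t * m⁻¹) ↔ ∃ n ∈ N, n * g * n⁻¹ = t := by
      constructor
      · rintro ⟨n, hn, h⟩
        refine ⟨m⁻¹ * n, N.mul_mem (N.inv_mem hm) hn, ?_⟩
        rw [mul_inv_rev, inv_inv]
        calc m⁻¹ * n * g * (n⁻¹ * m) = m⁻¹ * (n * g * n⁻¹) * m := by group
          _ = m⁻¹ * (m * t * m⁻¹) * m := by rw [h]
          _ = t := by group
      · rintro ⟨n, hn, h⟩
        refine ⟨m * n, N.mul_mem hm hn, ?_⟩
        rw [mul_inv_rev]
        calc m * n * g * (n⁻¹ * m⁻¹) = m * (n * g * n⁻¹) * m⁻¹ := by group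
          _ = m * t * m⁻¹ := by rw [h]
    simp only [this]

/-- a scalar of the local ring as an element of `ZN` -/
noncomputable def scal (hM : M.IsMaximal) (N : Subgroup G) (s : ℂ) (hs : Cfsg.MemLocalRing M s) :
    ZN hM N :=
  ⟨s • (1 : MonoidAlgebra ℂ G), by
    refine ⟨GaLoc.smul hM hs (GaLoc.one hM), NInv.smul (NInv.one N) s, ?_⟩
    intro g hg
    rw [MonoidAlgebra.coeff_smul, Finsupp.smul_apply, SuppIn.one N g hg, smul_zero]⟩

theorem scal_smul (hM : M.IsMaximal) (N : Subgroup G) (s : ℂ) (hs : Cfsg.MemLocalRing M s)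
    (x : MonoidAlgebra ℂ G) : scal hM N s hs • x = s • x := by
  rw [Subring.smul_def]
  show (s • (1 : MonoidAlgebra ℂ G)) • x = s • x
  rw [smul_eq_mul, smul_mul_assoc, one_mul]

theorem mem_span_orbSum (hM : M.IsMaximal) (N : Subgroup G) :
    ∀ (k : ℕ) (x : MonoidAlgebra ℂ G), x ∈ AN hM N →
      ((Finset.univ : Finset G).filter (fun g => x.coeff g ≠ 0)).card = k →
      x ∈ Submodule.span (ZN hM N) (Set.range (orbSum N)) := by
  classical
  intro k
  induction k using Nat.strong_induction_on with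
  | _ k ih =>
  intro x hx hk
  by_cases hemp : (Finset.univ : Finset G).filter (fun g => x.coeff g ≠ 0) = ∅
  · have hx0 : x = 0 := by
      apply ga_ext
      intro g
      rw [MonoidAlgebra.coeff_zero, Finsupp.zero_apply]
      by_contra h
      have : g ∈ (Finset.univ : Finset G).filter (fun g => x.coeff g ≠ 0) := by
        rw [Finset.mem_filter]
        exact ⟨Finset.mem_univ _, h⟩
      rw [hemp] at this
      exact absurd this (Finset.notMem_empty _)
    rw [hx0]
    exact Submodule.zero_mem _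
  obtain ⟨g₀, hg₀⟩ := Finset.nonempty_iff_ne_empty.mpr hemp
  rw [Finset.mem_filter] at hg₀
  set s := x.coeff g₀ with hs
  have hsloc : Cfsg.MemLocalRing M s := hx.1 g₀
  set x' := x - s • orbSum N g₀ with hx'
  have hx'A : x' ∈ AN hM N := by
    apply (AN hM N).sub_mem hx
    have := (ANsub hM N).smul_mem (scal hM N s hsloc) (orbSum_mem_AN hM N g₀)
    rw [scal_smul] at this
    exact this
  have hxN := (nInv_iff_coeff N x).mp hx.2
  have hcoeff : ∀ t, x'.coeff t = if ∃ n ∈ N, n * g₀ * n⁻¹ = t then 0 else x.coeff t := by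
    intro t
    rw [hx', MonoidAlgebra.coeff_sub, Finsupp.sub_apply, MonoidAlgebra.coeff_smul,
      Finsupp.smul_apply, orbSum_coeff, smul_eq_mul]
    split_ifs with h
    · obtain ⟨n, hn, rfl⟩ := h
      rw [hxN n hn g₀, mul_one, sub_self]
    · rw [mul_zero, sub_zero]
  have hsub : (Finset.univ : Finset G).filter (fun g => x'.coeff g ≠ 0) ⊂
      (Finset.univ : Finset G).filter (fun g => x.coeff g ≠ 0) := by
    rw [Finset.ssubset_iff_of_subset]
    · refine ⟨g₀, ?_, ?_⟩
      · rw [Finset.mem_filter]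
        exact ⟨Finset.mem_univ _, hg₀.2⟩
      · rw [Finset.mem_filter, not_and, not_not]
        intro _
        rw [hcoeff, if_pos ⟨1, N.one_mem, by simp⟩]
    · intro t ht
      rw [Finset.mem_filter] at ht ⊢
      refine ⟨Finset.mem_univ _, ?_⟩
      intro h0
      apply ht.2
      rw [hcoeff]
      split_ifs
      · rfl
      · exact h0
  have hlt := Finset.card_lt_card hsub
  rw [hk] at hlt
  have h1 := ih _ hlt x' hx'A rfl
  have h2 : s • orbSum N g₀ ∈ Submodule.span (ZN hM N) (Set.range (orbSum N)) := by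
    rw [← scal_smul hM N s hsloc]
    exact Submodule.smul_mem _ _ (Submodule.subset_span ⟨g₀, rfl⟩)
  have : x = x' + s • orbSum N g₀ := by rw [hx']; abel
  rw [this]
  exact Submodule.add_mem _ h1 h2

theorem ANsub_eq_span (hM : M.IsMaximal) (N : Subgroup G) :
    ANsub hM N = Submodule.span (ZN hM N) (Set.range (orbSum N)) := by
  apply le_antisymm
  · intro x hx
    exact mem_span_orbSum hM N _ x hx rfl
  · rw [Submodule.span_le]
    rintro _ ⟨g, rfl⟩
    exact orbSum_mem_AN hM N g

theorem ANsub_fg (hM : M.IsMaximal) (N : Subgroup G) : (ANsub hM N).FG := by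
  rw [ANsub_eq_span]
  exact Submodule.fg_span (Set.finite_range _)

end Cfsg.Agent.Helper6.Kn
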