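import Mathlib
import Cfsg.Agent.Helper6.KnD

/-!
# The radical of the form `(w, y) ↦ λ(w y)`: a central idempotent in it lies in `J • A`
-/

set_option autoImplicit false
set_option linter.style.haveILetI false

namespace Cfsg.Agent.Helper6.Kn

open Cfsg.Agent.Helper6

universe u

variable {G : Type u} [Group G] [Fintype G] {M : Ideal Cfsg.AlgInt}

variable (hM : M.IsMaximal) (N : Subgroup G) [hN : N.Normal] [Fintype N]
  (θ : Cfsg.IrrCharacter N)

/-- the radical of the form -/
def InR (x : MonoidAlgebra ℂ G) : Prop :=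
  x ∈ AN hM N ∧ ∀ w ∈ AN hM N, Cfsg.MemLocalIdeal M (lam N (θ : N → ℂ) (w * x))

omit hN in
theorem InR.mul_left {a x : MonoidAlgebra ℂ G} (ha : a ∈ AN hM N) (hx : InR hM N θ x) :
    InR hM N θ (a * x) := by
  refine ⟨(AN hM N).mul_mem ha hx.1, ?_⟩
  intro w hw
  rw [← mul_assoc]
  exact hx.2 _ ((AN hM N).mul_mem hw ha)

theorem comp_mem_AN (γ : G ⧸ N) {x : MonoidAlgebra ℂ G} (hx : x ∈ AN hM N) :
    comp N γ x ∈ AN hM N :=
  ⟨GaLoc.comp N hM γ hx.1, NInv.comp N γ hx.2⟩

theorem InR.comp (γ : G ⧸ N) {x : MonoidAlgebra ℂ G} (hx : InR hM N θ x) :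
    InR hM N θ (comp N γ x) := by
  refine ⟨comp_mem_AN hM N γ hx.1, ?_⟩
  intro w hw
  rw [lam_mul_comp]
  exact hx.2 _ (comp_mem_AN hM N γ⁻¹ hw)

/-- the submodule `J • A` -/
noncomputable def JA : Submodule (ZN hM N) (MonoidAlgebra ℂ G) := JN hM N θ • ANsub hM N

omit hN in
theorem JA_le_AN {x : MonoidAlgebra ℂ G} (hx : x ∈ JA hM N θ) : x ∈ AN hM N := by
  have : JA hM N θ ≤ ANsub hM N := Submodule.smul_le_right
  exact this hx

omit hN in
theorem mul_mem_JA_left {a x : MonoidAlgebra ℂ G} (ha : a ∈ AN hM N) (hx : x ∈ JA hM N θ) :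
    a * x ∈ JA hM N θ := by
  unfold JA at hx ⊢
  refine Submodule.smul_induction_on hx ?_ ?_
  · intro u hu c hc
    have h1 : a * (u • c) = u • (a * c) := by
      rw [Subring.smul_def, Subring.smul_def, smul_eq_mul, smul_eq_mul, ← mul_assoc,
        ← (commute_ZN_AN hM N u.2 ha).eq, mul_assoc]
    rw [h1]
    exact Submodule.smul_mem_smul hu ((AN hM N).mul_mem ha hc)
  · intro x y hx hy
    rw [mul_add]
    exact Submodule.add_mem _ hx hy

omit hN in
theorem mul_mem_JA_right {a x : MonoidAlgebra ℂ G} (ha : a ∈ AN hM N) (hx : x ∈ JA hM N θ) :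
    x * a ∈ JA hM N θ := by
  unfold JA at hx ⊢
  refine Submodule.smul_induction_on hx ?_ ?_
  · intro u hu c hc
    have h1 : (u • c) * a = u • (c * a) := by
      rw [Subring.smul_def, Subring.smul_def, smul_eq_mul, smul_eq_mul, mul_assoc]
    rw [h1]
    exact Submodule.smul_mem_smul hu ((AN hM N).mul_mem hc ha)
  · intro x y hx hy
    rw [add_mul]
    exact Submodule.add_mem _ hx hy

/-- a degree one element of the radical lies in `J • A` -/
theorem mem_JA_of_inR_homog_one {r : MonoidAlgebra ℂ G} (hr : InR hM N θ r)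
    (h1 : Homog N 1 r) : r ∈ JA hM N θ := by
  have hrZ : r ∈ ZN hM N := ⟨hr.1.1, hr.1.2, (homog_one_iff N r).mp h1⟩
  have hrJ : (⟨r, hrZ⟩ : ZN hM N) ∈ JN hM N θ := by
    rw [mem_JN]
    have := hr.2 1 (AN hM N).one_mem
    rwa [one_mul] at this
  have : r = (⟨r, hrZ⟩ : ZN hM N) • (1 : MonoidAlgebra ℂ G) := by
    rw [Subring.smul_def, smul_eq_mul, mul_one]
  rw [this]
  exact Submodule.smul_mem_smul hrJ (AN hM N).one_mem

/-- the elements killed into `J • A` by the homogeneous elements of the radical with degree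
in `X` -/
def YX (X : Finset (G ⧸ N)) (x : MonoidAlgebra ℂ G) : Prop :=
  x ∈ AN hM N ∧ ∀ γ ∈ X, ∀ r, InR hM N θ r → Homog N γ r → r * x ∈ JA hM N θ

/-- the filtration -/
noncomputable def Wm (m : ℕ) : AddSubgroup (MonoidAlgebra ℂ G) :=
  AddSubgroup.closure ({x | x ∈ JA hM N θ} ∪
    {x | ∃ X : Finset (G ⧸ N), m + 1 ≤ X.card ∧ YX hM N θ X x})

theorem Wm_le_AN (m : ℕ) {x : MonoidAlgebra ℂ G} (hx : x ∈ Wm hM N θ m) : x ∈ AN hM N := by
  have : Wm hM N θ m ≤ (AN hM N).toAddSubgroup := by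
    unfold Wm
    rw [AddSubgroup.closure_le]
    rintro y (hy | ⟨X, -, hy⟩)
    · exact JA_le_AN hM N θ hy
    · exact hy.1
  exact this hx

theorem mul_mem_Wm {m : ℕ} {γ : G ⧸ N} {r x : MonoidAlgebra ℂ G} (hr : InR hM N θ r)
    (hγ : Homog N γ r) (hx : x ∈ Wm hM N θ m) : r * x ∈ Wm hM N θ (m + 1) := by
  classical
  unfold Wm at hx
  refine AddSubgroup.closure_induction (p := fun y _ => r * y ∈ Wm hM N θ (m + 1))
    ?_ ?_ ?_ ?_ hx
  · rintro y (hy | ⟨X, hX, hy⟩)
    · exact AddSubgroup.subset_closure (Or.inl (mul_mem_JA_left hM N θ hr.1 hy))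
    · by_cases hγX : γ ∈ X
      · exact AddSubgroup.subset_closure (Or.inl (hy.2 γ hγX r hr hγ))
      · apply AddSubgroup.subset_closure
        right
        refine ⟨insert 1 (X.image (fun δ => δ * γ⁻¹)), ?_, ?_⟩
        · rw [Finset.card_insert_of_notMem, Finset.card_image_of_injective _
            (mul_left_injective γ⁻¹)]
          · omega
          · intro h1
            rw [Finset.mem_image] at h1
            obtain ⟨δ, hδ, hδ1⟩ := h1
            apply hγX
            have : δ = γ := by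
              rw [mul_inv_eq_one] at hδ1
              exact hδ1
            rwa [← this]
        · refine ⟨(AN hM N).mul_mem hr.1 hy.1, ?_⟩
          intro δ' hδ' r' hr' hh'
          rw [Finset.mem_insert] at hδ'
          rcases hδ' with rfl | hδ'
          · exact mul_mem_JA_right hM N θ ((AN hM N).mul_mem hr.1 hy.1)
              (mem_JA_of_inR_homog_one hM N θ hr' hh')
          · rw [Finset.mem_image] at hδ'
            obtain ⟨δ, hδ, rfl⟩ := hδ'
            rw [← mul_assoc]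
            apply hy.2 δ hδ (r' * r) (InR.mul_left hM N θ hr'.1 hr)
            have := Homog.mul N hh' hγ
            rwa [inv_mul_cancel_right] at this
  · rw [mul_zero]
    exact AddSubgroup.zero_mem _
  · intro y z _ _ hy hz
    rw [mul_add]
    exact AddSubgroup.add_mem _ hy hz
  · intro y _ hy
    rw [mul_neg]
    exact AddSubgroup.neg_mem _ hy

theorem mul_mem_Wm_of_inR [Fintype (G ⧸ N)] {m : ℕ} {e x : MonoidAlgebra ℂ G}
    (he : InR hM N θ e) (hx : x ∈ Wm hM N θ m) : e * x ∈ Wm hM N θ (m + 1) := by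
  have h1 : e * x = ∑ γ : G ⧸ N, comp N γ e * x := by
    rw [← Finset.sum_mul, sum_comp]
  rw [h1]
  apply AddSubgroup.sum_mem
  intro γ _
  exact mul_mem_Wm hM N θ (InR.comp hM N θ γ he) (homog_comp N γ e) hx

theorem one_mem_Wm_zero : (1 : MonoidAlgebra ℂ G) ∈ Wm hM N θ 0 := by
  classical
  apply AddSubgroup.subset_closure
  right
  refine ⟨{1}, by simp, (AN hM N).one_mem, ?_⟩
  intro γ hγ r hr hh
  rw [Finset.mem_singleton] at hγ
  subst hγ
  rw [mul_one]
  exact mem_JA_of_inR_homog_one hM N θ hr hh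

theorem pow_mem_Wm [Fintype (G ⧸ N)] {e : MonoidAlgebra ℂ G} (he : InR hM N θ e) (m : ℕ) :
    e ^ m ∈ Wm hM N θ m := by
  induction m with
  | zero => rw [pow_zero]; exact one_mem_Wm_zero hM N θ
  | succ m ih =>
    rw [pow_succ']
    exact mul_mem_Wm_of_inR hM N θ he ih

theorem Wm_card_le [Fintype (G ⧸ N)] {x : MonoidAlgebra ℂ G}
    (hx : x ∈ Wm hM N θ (Fintype.card (G ⧸ N))) : x ∈ JA hM N θ := by
  have : Wm hM N θ (Fintype.card (G ⧸ N)) ≤ (JA hM N θ).toAddSubgroup := by
    unfold Wm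
    rw [AddSubgroup.closure_le]
    rintro y (hy | ⟨X, hX, -⟩)
    · exact hy
    · exfalso
      have := Finset.card_le_univ X
      omega
  exact this hx

/-- **an idempotent in the radical lies in `J • A`** -/
theorem mem_JA_of_idem {e : MonoidAlgebra ℂ G} (he : InR hM N θ e) (hidem : e * e = e) :
    e ∈ JA hM N θ := by
  classical
  haveI : Fintype (G ⧸ N) := Fintype.ofFinite _
  have hpow : ∀ m : ℕ, e ^ (m + 1) = e := by
    intro m
    induction m with
    | zero => rw [zero_add, pow_one]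
    | succ m ih => rw [pow_succ, ih, hidem]
  have hq : 0 < Fintype.card (G ⧸ N) := Fintype.card_pos
  have h1 := pow_mem_Wm hM N θ he (Fintype.card (G ⧸ N))
  obtain ⟨m, hm⟩ : ∃ m, Fintype.card (G ⧸ N) = m + 1 := ⟨Fintype.card (G ⧸ N) - 1, by omega⟩
  rw [hm, hpow, ← hm] at h1
  have := Wm_card_le hM N θ (x := e)
  rw [hm] at this
  rw [hm] at h1
  exact this h1

end Cfsg.Agent.Helper6.Kn
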