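import Mathlib
import Cfsg.Agent.Helper6.KnE
import Cfsg.Agent.Helper6.GroupAlgC
import Cfsg.Agent.Helper6.SubpairDown
import Cfsg.Agent.Helper6.Osima3
import Cfsg.Agent.Helper6.BlockUnion

/-!
# A central idempotent below a block idempotent of the normal subgroup pairs to a unit
-/

set_option autoImplicit false
set_option linter.style.haveILetI false

namespace Cfsg.Agent.Helper6.Kn

open Cfsg.Agent.Helper6

universe u

variable {G : Type u} [Group G] {M : Ideal Cfsg.AlgInt}

/-- central character values of members of the same block at a central element with local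
coefficients are congruent -/
theorem classVec_sub_memLocalIdeal_of_sameBlock {H : Type u} [Group H] [Fintype H]
    (hM : M.IsMaximal) (d : H → ℂ) (hd : Cfsg.IsClassFunction H d)
    (hdR : ∀ h, Cfsg.MemLocalRing M (d h)) (ψ θ : Cfsg.IrrCharacter H)
    (hs : Cfsg.SameBlock M (ψ : H → ℂ) (θ : H → ℂ)) :
    Cfsg.MemLocalIdeal M (classVec d ψ - classVec d θ) := by
  classical
  unfold classVec
  rw [← Finset.sum_sub_distrib]
  apply sum_mem_of_class_sums (fun z => Cfsg.MemLocalIdeal M z) (memLocalIdeal_zero hM)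
    (fun x y hx hy => MemLocalIdeal.add hM hx hy) _ _ _ Finset.univ rfl
    (fun g _ x => Finset.mem_univ _)
  intro g
  have h1 : ∑ x ∈ classFinset g, (d x * ((ψ : H → ℂ) x / (ψ : H → ℂ) 1) -
      d x * ((θ : H → ℂ) x / (θ : H → ℂ) 1)) =
      d g * (Cfsg.centralChar (ψ : H → ℂ) g - Cfsg.centralChar (θ : H → ℂ) g) := by
    have h2 : ∀ x ∈ classFinset g, (d x * ((ψ : H → ℂ) x / (ψ : H → ℂ) 1) -
        d x * ((θ : H → ℂ) x / (θ : H → ℂ) 1)) =
        d g * ((ψ : H → ℂ) x / (ψ : H → ℂ) 1) - d g * ((θ : H → ℂ) x / (θ : H → ℂ) 1) := by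
      intro x hx
      rw [mem_classFinset] at hx
      obtain ⟨a, ha⟩ := isConj_iff.mp hx
      rw [← ha, hd]
    rw [Finset.sum_congr rfl h2, Finset.sum_sub_distrib, ← Finset.mul_sum, ← Finset.mul_sum,
      ← Finset.sum_div, ← Finset.sum_div, sum_classFinset_char, sum_classFinset_char]
    unfold Cfsg.centralChar
    ring
  rw [h1]
  exact MemLocalIdeal.mul_left hM (hdR g) (hs g)

section Main

variable [Fintype G] (hM : M.IsMaximal) (N : Subgroup G) [hN : N.Normal] [Fintype N]
  (θ : Cfsg.IrrCharacter N)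

/-- left multiplication by a central element, as a linear map over `ZN` -/
noncomputable def lmul (e : MonoidAlgebra ℂ G)
    (he : ∀ g : G, Commute e (MonoidAlgebra.single g 1)) :
    MonoidAlgebra ℂ G →ₗ[ZN hM N] MonoidAlgebra ℂ G where
  toFun x := e * x
  map_add' := mul_add e
  map_smul' := by
    intro u x
    simp only [RingHom.id_apply]
    rw [Subring.smul_def, Subring.smul_def, smul_eq_mul, smul_eq_mul, ← mul_assoc,
      (commute_of_commute_single e he (u : MonoidAlgebra ℂ G)).eq, mul_assoc]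

/-- right multiplication, as a linear map over `ZN` -/
noncomputable def rmul (a : MonoidAlgebra ℂ G) :
    MonoidAlgebra ℂ G →ₗ[ZN hM N] MonoidAlgebra ℂ G where
  toFun x := x * a
  map_add' := fun x y => add_mul x y a
  map_smul' := by
    intro u x
    simp only [RingHom.id_apply]
    rw [Subring.smul_def, Subring.smul_def, smul_eq_mul, smul_eq_mul, mul_assoc]

omit hN in
/-- Nakayama: an idempotent central element in `J • A` is killed by an element of `1 + J` -/
theorem exists_killer {e : MonoidAlgebra ℂ G}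
    (hecent : ∀ g : G, Commute e (MonoidAlgebra.single g 1)) (heloc : GaLoc M e)
    (hidem : e * e = e) (heJ : e ∈ JA hM N θ) :
    ∃ r : ZN hM N, r - 1 ∈ JN hM N θ ∧ (r : MonoidAlgebra ℂ G) * e = 0 := by
  set E : Submodule (ZN hM N) (MonoidAlgebra ℂ G) := (ANsub hM N).map (lmul hM N e hecent)
    with hE
  have hEfg : E.FG := Submodule.FG.map _ (ANsub_fg hM N)
  have hle : E ≤ JN hM N θ • E := by
    rintro y ⟨c, hc, rfl⟩
    change e * c ∈ JN hM N θ • E
    have h1 : e * c = rmul hM N (e * c) e := by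
      change e * c = e * (e * c)
      rw [← mul_assoc, hidem]
    rw [h1]
    have h2 : rmul hM N (e * c) e ∈ (JN hM N θ • ANsub hM N).map (rmul hM N (e * c)) :=
      Submodule.mem_map_of_mem heJ
    rw [Submodule.map_smul''] at h2
    refine Submodule.smul_mono (le_refl _) ?_ h2
    rintro _ ⟨a, ha, rfl⟩
    change a * (e * c) ∈ E
    refine ⟨a * c, (AN hM N).mul_mem ha hc, ?_⟩
    change e * (a * c) = a * (e * c)
    rw [← mul_assoc, ← mul_assoc, (commute_of_commute_single e hecent a).eq]
  obtain ⟨r, hr1, hr2⟩ :=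
    Submodule.exists_sub_one_mem_and_smul_eq_zero_of_fg_of_le_smul (JN hM N θ) E hEfg hle
  refine ⟨r, hr1, ?_⟩
  have heE : e ∈ E := by
    refine ⟨1, (AN hM N).one_mem, ?_⟩
    change e * 1 = e
    rw [mul_one]
  have := hr2 e heE
  rwa [Subring.smul_def, smul_eq_mul] at this

omit hN in
/-- an element of `1 + J` acts invertibly on what lies below the block idempotent of `θ` -/
theorem eq_zero_of_killer (c : Set (Cfsg.IrrCharacter N)) (hc : c = Cfsg.blockOf M (θ : N → ℂ))
    {e : MonoidAlgebra ℂ G} (hec : gaIncl N (gaOfFun (Cfsg.blockCoeff c)) * e = e)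
    (r : ZN hM N) (hr1 : r - 1 ∈ JN hM N θ) (hre : (r : MonoidAlgebra ℂ G) * e = 0) : e = 0 := by
  classical
  haveI : Finite (Cfsg.IrrCharacter N) := irr_finite
  haveI : Fintype (Cfsg.IrrCharacter N) := Fintype.ofFinite _
  have hcblock : Cfsg.IsPBlock M c := ⟨θ, hc⟩
  set r' : MonoidAlgebra ℂ N := gaOfFun (fun n : N => (r : MonoidAlgebra ℂ G).coeff (n : G))
    with hr'
  set ec : MonoidAlgebra ℂ N := gaOfFun (Cfsg.blockCoeff c) with hec'
  have hrcf : Cfsg.IsClassFunction N (fun n : N => (r : MonoidAlgebra ℂ G).coeff (n : G)) :=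
    isClassFunction_restrict N r.2.2.1
  have hr'c : ∀ g : N, Commute r' (MonoidAlgebra.single g 1) := gaOfFun_commute_single hrcf
  have hecc : ∀ g : N, Commute ec (MonoidAlgebra.single g 1) :=
    gaOfFun_commute_single (blockCoeff_isClassFunction c)
  have hr'loc : GaLoc M r' := GaLoc.ofFun (fun n => r.2.1 _)
  have hecloc : GaLoc M ec := GaLoc.ofFun (fun n => osima hM c hcblock n)
  have hincl : gaIncl N r' = (r : MonoidAlgebra ℂ G) := by
    apply ga_ext
    intro g
    by_cases hg : g ∈ N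
    · rw [gaIncl_coeff_of_mem N _ hg, hr', gaOfFun_coeff]
    · rw [gaIncl_coeff_of_not_mem N _ hg, r.2.2.2 g hg]
  set a' : MonoidAlgebra ℂ N := r' * ec + (1 - ec) with ha'
  have ha'c : ∀ g : N, Commute a' (MonoidAlgebra.single g 1) := by
    intro g
    apply Commute.add_left
    · exact Commute.mul_left (hr'c g) (hecc g)
    · exact Commute.sub_left (Commute.one_left _) (hecc g)
  have ha'loc : GaLoc M a' :=
    GaLoc.add hM (GaLoc.mul hM hr'loc hecloc) (GaLoc.sub hM (GaLoc.one hM) hecloc)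
  -- central character values of `r'`
  have hpair : ∀ ψ : Cfsg.IrrCharacter N, gaPair (ψ : N → ℂ) r' / (ψ : N → ℂ) 1 =
      lam N (ψ : N → ℂ) (r : MonoidAlgebra ℂ G) := by
    intro ψ
    rw [gaPair_ofFun, Finset.sum_div]
    unfold lam
    apply Finset.sum_congr rfl
    intro n _
    ring
  have hlamθ : Cfsg.MemLocalIdeal M (lam N (θ : N → ℂ) (r : MonoidAlgebra ℂ G) - 1) := by
    have := (mem_JN hM N θ (r - 1)).mp hr1
    have hco : ((r - 1 : ZN hM N) : MonoidAlgebra ℂ G) = (r : MonoidAlgebra ℂ G) + -1 := by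
      rw [sub_eq_add_neg]
      rfl
    rw [hco, lam_add, lam_neg,
      lam_one N _ (IsIrrCharacter.apply_one_ne_zero θ.2), ← sub_eq_add_neg] at this
    exact this
  have hω : ∀ ψ : Cfsg.IrrCharacter N,
      Cfsg.MemLocalRing M (gaPair (ψ : N → ℂ) a' / (ψ : N → ℂ) 1) ∧
      ¬ Cfsg.MemLocalIdeal M (gaPair (ψ : N → ℂ) a' / (ψ : N → ℂ) 1) := by
    intro ψ
    have hψ1 : (ψ : N → ℂ) 1 ≠ 0 := IsIrrCharacter.apply_one_ne_zero ψ.2
    have hval : gaPair (ψ : N → ℂ) a' / (ψ : N → ℂ) 1 =
        if ψ ∈ c then lam N (ψ : N → ℂ) (r : MonoidAlgebra ℂ G) else 1 := by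
      rw [ha', gaPair_add, gaPair_sub, gaPair_one, gaPair_mul_of_central ψ r' ec hr'c, hpair,
        hec', gaPair_blockIdem]
      split_ifs with h
      · field_simp
        ring
      · rw [mul_zero, sub_zero, zero_add, div_self hψ1]
    rw [hval]
    split_ifs with h
    · have hs : Cfsg.SameBlock M (ψ : N → ℂ) (θ : N → ℂ) := by
        rw [hc] at h
        intro g
        have := h g
        have h2 := MemLocalIdeal.neg this
        rwa [neg_sub] at h2
      have hcong := classVec_sub_memLocalIdeal_of_sameBlock hM _ hrcf (fun n => r.2.1 _) ψ θ hs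
      rw [← lam_eq_classVec, ← lam_eq_classVec] at hcong
      refine ⟨lam_memLocalRing N hM ψ r.2.1 r.2.2.1, ?_⟩
      intro hmem
      have h3 := MemLocalIdeal.add hM (MemLocalIdeal.neg hcong) hmem
      have h4 := MemLocalIdeal.add hM (MemLocalIdeal.neg hlamθ) h3
      have : -(lam N (θ : N → ℂ) (r : MonoidAlgebra ℂ G) - 1) +
          (-(lam N (ψ : N → ℂ) (r : MonoidAlgebra ℂ G) -
            lam N (θ : N → ℂ) (r : MonoidAlgebra ℂ G)) +
            lam N (ψ : N → ℂ) (r : MonoidAlgebra ℂ G)) = 1 := by ring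
      rw [this] at h4
      exact not_memLocalIdeal_one h4
    · exact ⟨memLocalRing_one hM, not_memLocalIdeal_one⟩
  obtain ⟨z, -, hza, -, -⟩ := exists_inverse_of_central hM a' ha'c ha'loc hω
  have h1 : gaIncl N a' * e = 0 := by
    rw [ha', map_add, map_sub, map_mul, map_one, hincl, add_mul, sub_mul, one_mul, mul_assoc,
      hec, hre, zero_add, sub_self]
  have h2 : gaIncl N z * gaIncl N a' = 1 := by
    rw [← map_mul, hza, map_one]
  calc e = 1 * e := (one_mul e).symm
    _ = gaIncl N z * gaIncl N a' * e := by rw [h2]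
    _ = 0 := by rw [mul_assoc, h1, mul_zero]

/-- **a nonzero central idempotent with local coefficients below the block idempotent of `θ`
pairs to a unit with some `N`-invariant element** -/
theorem exists_pairing_unit (c : Set (Cfsg.IrrCharacter N))
    (hc : c = Cfsg.blockOf M (θ : N → ℂ)) {e : MonoidAlgebra ℂ G}
    (hecent : ∀ g : G, Commute e (MonoidAlgebra.single g 1)) (heloc : GaLoc M e)
    (hidem : e * e = e) (hec : gaIncl N (gaOfFun (Cfsg.blockCoeff c)) * e = e) (hne : e ≠ 0) :
    ∃ w ∈ AN hM N, ¬ Cfsg.MemLocalIdeal M (lam N (θ : N → ℂ) (w * e)) := by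
  by_contra hcon
  push Not at hcon
  have hR : InR hM N θ e := ⟨⟨heloc, nInv_of_central N hecent⟩, hcon⟩
  have heJ := mem_JA_of_idem hM N θ hR hidem
  obtain ⟨r, hr1, hre⟩ := exists_killer hM N θ hecent heloc hidem heJ
  exact hne (eq_zero_of_killer hM N θ c hc hec r hr1 hre)

end Main

end Cfsg.Agent.Helper6.Kn
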