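import Mathlib
import Cfsg.Agent.Helper6.KnF
import Cfsg.Agent.Helper6.LyingOver
import Cfsg.Agent.Helper6.FongCount
import Cfsg.Agent.Helper6.MinMax1
import Cfsg.Agent.Helper6.MinMax2
import Cfsg.Agent.Helper6.FongReynolds2

/-!
# Knörr's theorem for a stable block: the defect group of the covered block centralizes an element
with non-vanishing idempotent coefficient
-/

set_option autoImplicit false
set_option linter.style.haveILetI false

namespace Cfsg.Agent.Helper6.Kn

open Cfsg.Agent.Helper6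

universe u

variable {G : Type u} [Group G] {M : Ideal Cfsg.AlgInt}

/-- a class function with local values whose central character value lies outside the local
ideal has a coefficient and a central character value outside the local ideal at some element -/
theorem exists_coeff_centralChar_not_mem_of_classVec {H : Type u} [Group H] [Fintype H]
    (hM : M.IsMaximal) (d : H → ℂ) (hd : Cfsg.IsClassFunction H d)
    (hdR : ∀ h, Cfsg.MemLocalRing M (d h)) (ξ : Cfsg.IrrCharacter H)
    (hne : ¬ Cfsg.MemLocalIdeal M (classVec d ξ)) :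
    ∃ g : H, ¬ Cfsg.MemLocalIdeal M (d g) ∧
      ¬ Cfsg.MemLocalIdeal M (Cfsg.centralChar (ξ : H → ℂ) g) := by
  classical
  by_contra hcon
  push Not at hcon
  apply hne
  unfold classVec
  apply sum_mem_of_class_sums (fun z => Cfsg.MemLocalIdeal M z) (memLocalIdeal_zero hM)
    (fun x y hx hy => MemLocalIdeal.add hM hx hy) _ _ _ Finset.univ rfl
    (fun g _ x => Finset.mem_univ _)
  intro g
  have h1 : ∑ x ∈ classFinset g, d x * ((ξ : H → ℂ) x / (ξ : H → ℂ) 1) =
      Cfsg.centralChar (ξ : H → ℂ) g * d g := by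
    have h2 : ∀ x ∈ classFinset g, d x * ((ξ : H → ℂ) x / (ξ : H → ℂ) 1) =
        d g * ((ξ : H → ℂ) x / (ξ : H → ℂ) 1) := by
      intro x hx
      rw [mem_classFinset] at hx
      obtain ⟨a, ha⟩ := isConj_iff.mp hx
      rw [← ha, hd]
    rw [Finset.sum_congr rfl h2, ← Finset.mul_sum, ← Finset.sum_div, sum_classFinset_char]
    unfold Cfsg.centralChar
    ring
  rw [h1]
  have hcc : Cfsg.MemLocalRing M (Cfsg.centralChar (ξ : H → ℂ) g) :=
    memLocalRing_of_isIntegral hM (isIntegral_centralChar ξ g)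
  by_cases hdg : Cfsg.MemLocalIdeal M (d g)
  · exact MemLocalIdeal.mul_left hM hcc hdg
  · rw [mul_comm]
    exact MemLocalIdeal.mul_left hM (hdR g) (hcon g hdg)

/-- the product of the idempotents of two sets of irreducible characters, one containing the
other -/
theorem gaOfFun_blockCoeff_mul_of_subset [Fintype G] (A A' : Set (Cfsg.IrrCharacter G))
    (hsub : A' ⊆ A) :
    gaOfFun (Cfsg.blockCoeff A) * gaOfFun (Cfsg.blockCoeff A') = gaOfFun (Cfsg.blockCoeff A') := by
  classical
  rw [← sub_eq_zero]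
  have hcA : ∀ g : G, Commute (gaOfFun (Cfsg.blockCoeff A)) (MonoidAlgebra.single g 1) :=
    gaOfFun_commute_single (blockCoeff_isClassFunction A)
  have hcA' : ∀ g : G, Commute (gaOfFun (Cfsg.blockCoeff A')) (MonoidAlgebra.single g 1) :=
    gaOfFun_commute_single (blockCoeff_isClassFunction A')
  apply ga_eq_zero_of_central
  · intro g
    exact Commute.sub_left (Commute.mul_left (hcA g) (hcA' g)) (hcA' g)
  · intro φ
    rw [gaPair_sub, gaPair_mul_of_central φ _ _ hcA, gaPair_blockIdem, gaPair_blockIdem]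
    have hφ1 : (φ : G → ℂ) 1 ≠ 0 := IsIrrCharacter.apply_one_ne_zero φ.2
    by_cases h' : φ ∈ A'
    · rw [if_pos h', if_pos (hsub h'), div_self hφ1, one_mul, sub_self]
    · rw [if_neg h', mul_zero, sub_self]

/-- product coefficients as a convolution -/
theorem coeff_mul_eq_cnv [Fintype G] (x y : MonoidAlgebra ℂ G) (g : G) :
    (x * y).coeff g = cnv (fun t => y.coeff t) (fun t => x.coeff t) g := by
  rw [ga_coeff_mul']
  unfold cnv
  apply Finset.sum_congr rfl
  intro t _
  ring

/-- the idempotent of the characters over a stable block is the idempotent of the block -/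
theorem gaIncl_blockCoeff_eq [Fintype G] (N : Subgroup G) [hN : N.Normal] [Fintype N]
    (c : Set (Cfsg.IrrCharacter N)) (hO : ∀ g : G, ∀ θ ∈ c, conjIrr N g θ ∈ c) :
    gaIncl N (gaOfFun (Cfsg.blockCoeff c)) = gaOfFun (Cfsg.blockCoeff (lyingOver N c)) := by
  apply ga_ext
  intro g
  rw [gaIncl_coeff_eq_extendByZero, gaOfFun_coeff, blockCoeff_lyingOver N c hO g]
  congr 1

/-- **Knörr, key step**: a conjugate (inside `N`) of the defect group of the stable block `c`
centralizes an element at which the idempotent of the covering block `B` does not vanish. -/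
theorem exists_coeff_not_mem_centralizing [Fintype G] {p : ℕ} [hp : Fact p.Prime]
    (hM : Cfsg.IsPModular p M) (N : Subgroup G) [hN : N.Normal] [Fintype N]
    (c : Set (Cfsg.IrrCharacter N)) (hc : Cfsg.IsPBlock M c)
    (hO : ∀ g : G, ∀ θ ∈ c, conjIrr N g θ ∈ c)
    (B : Set (Cfsg.IrrCharacter G)) (hB : Cfsg.IsPBlock M B) (hBc : B ⊆ lyingOver N c)
    (g₁ : N) (hg₁ : Cfsg.IsDefectClass M c g₁)
    (S₁ : Sylow p (Subgroup.centralizer ({g₁} : Set N))) :
    ∃ (e₁ : N) (s : G), ¬ Cfsg.MemLocalIdeal M (Cfsg.blockCoeff B s) ∧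
      ∀ u : Subgroup.centralizer ({g₁} : Set N), u ∈ S₁ →
        ((e₁ * (u : N) * e₁⁻¹ : N) : G) * s = s * ((e₁ * (u : N) * e₁⁻¹ : N) : G) := by
  classical
  have hMm := hM.2.1
  obtain ⟨θ, hcθ⟩ := hc
  have hc' : Cfsg.IsPBlock M c := ⟨θ, hcθ⟩
  have hθc : θ ∈ c := by rw [hcθ]; exact mem_blockOf_self hMm θ
  set e : MonoidAlgebra ℂ G := gaOfFun (Cfsg.blockCoeff B) with he
  have hecent : ∀ g : G, Commute e (MonoidAlgebra.single g 1) :=
    gaOfFun_commute_single (blockCoeff_isClassFunction B)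
  have heloc : GaLoc M e := GaLoc.ofFun (fun g => osima hMm B hB g)
  have hidem : e * e = e := gaOfFun_blockCoeff_idem B
  have hec : gaIncl N (gaOfFun (Cfsg.blockCoeff c)) * e = e := by
    rw [gaIncl_blockCoeff_eq N c hO]
    exact gaOfFun_blockCoeff_mul_of_subset (lyingOver N c) B hBc
  have hne : e ≠ 0 := by
    obtain ⟨χ₀, hχ₀⟩ := hB
    have hχ₀B : χ₀ ∈ B := by rw [hχ₀]; exact mem_blockOf_self hMm χ₀
    intro h0
    have h1 := gaPair_blockIdem B χ₀
    rw [← he, h0, gaPair_zero, if_pos hχ₀B] at h1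
    exact IsIrrCharacter.apply_one_ne_zero χ₀.2 h1.symm
  obtain ⟨w, hw, hwne⟩ := exists_pairing_unit hMm N θ c hcθ hecent heloc hidem hec hne
  set z := w * e with hz
  have hzA : z ∈ AN hMm N := (AN hMm N).mul_mem hw ⟨heloc, nInv_of_central N hecent⟩
  rw [lam_eq_classVec] at hwne
  obtain ⟨n₀, hn₀1, hn₀2⟩ := exists_coeff_centralChar_not_mem_of_classVec hMm _
    (isClassFunction_restrict N hzA.2) (fun n => hzA.1 _) θ hwne
  obtain ⟨e₁, he₁⟩ := exists_conj_defectGroup_le_centralizer hM c hc' g₁ hg₁ S₁ θ hθc n₀ hn₀2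
  -- the conjugated defect group as a subgroup of `G`
  set D : Subgroup G := (((S₁ : Subgroup (Subgroup.centralizer ({g₁} : Set N))).map
    (Subgroup.centralizer ({g₁} : Set N)).subtype).map
      ((MulAut.conj e₁).toMonoidHom.comp (MonoidHom.id N))).map N.subtype with hD
  have hDp : IsPGroup p D := ((S₁.2.map _).map _).map _
  have hDmem : ∀ d ∈ D, ∃ u : Subgroup.centralizer ({g₁} : Set N), u ∈ S₁ ∧
      d = ((e₁ * (u : N) * e₁⁻¹ : N) : G) := by
    intro d hd
    rw [hD] at hd
    obtain ⟨d', hd', rfl⟩ := Subgroup.mem_map.mp hd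
    obtain ⟨d'', hd'', rfl⟩ := Subgroup.mem_map.mp hd'
    obtain ⟨u, hu, rfl⟩ := Subgroup.mem_map.mp hd''
    exact ⟨u, hu, rfl⟩
  have hDN : D ≤ N := by
    intro d hd
    obtain ⟨u, -, rfl⟩ := hDmem d hd
    exact (e₁ * (u : N) * e₁⁻¹ : N).2
  have hn₀D : (n₀ : G) ∈ Subgroup.centralizer (D : Set G) := by
    rw [Subgroup.mem_centralizer_iff]
    intro d hd
    obtain ⟨u, hu, rfl⟩ := hDmem d hd
    have := Subgroup.mem_centralizer_singleton_iff.mp (he₁ u hu)
    have h2 := congrArg (fun t : N => (t : G)) this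
    simpa using h2
  -- the Brauer map at `D`
  have hβ : ConjInv D (fun t => e.coeff t) := by
    have := isClassFunction_coeff_of_commute e hecent
    exact conjInv_of_isClassFunction D _ this
  have hγ : ConjInv D (fun t => w.coeff t) := by
    intro x u hu
    exact (nInv_iff_coeff N w).mp hw.2 u (hDN hu) x
  have hbr := cnv_sub_sum_centralizer hM D hDp (fun t => e.coeff t) (fun t => w.coeff t) hβ hγ
    (fun t => heloc t) (fun t => hw.1 t) (n₀ : G) hn₀D
  rw [← coeff_mul_eq_cnv w e (n₀ : G)] at hbr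
  by_contra hcon
  push Not at hcon
  apply hn₀1
  have hsum : Cfsg.MemLocalIdeal M
      (∑ t ∈ (Finset.univ : Finset G).filter (· ∈ Subgroup.centralizer (D : Set G)),
        e.coeff t * w.coeff ((n₀ : G) * t⁻¹)) := by
    apply MemLocalIdeal.sum hMm
    intro t ht
    rw [Finset.mem_filter] at ht
    rw [mul_comm]
    apply MemLocalIdeal.mul_left hMm (hw.1 _)
    rw [he, gaOfFun_coeff]
    by_contra hne'
    obtain ⟨u, hu, hne''⟩ := hcon e₁ t hne'
    apply hne''
    have hd : ((e₁ * (u : N) * e₁⁻¹ : N) : G) ∈ D := by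
      rw [hD]
      exact Subgroup.mem_map.mpr ⟨_, Subgroup.mem_map.mpr ⟨_, Subgroup.mem_map.mpr
        ⟨u, hu, rfl⟩, rfl⟩, rfl⟩
    exact (Subgroup.mem_centralizer_iff.mp ht.2 _ hd)
  have := MemLocalIdeal.add hMm hbr hsum
  rwa [sub_add_cancel] at this

end Cfsg.Agent.Helper6.Kn
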