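import Mathlib
import Cfsg.Prelude.Def_Characters
import Cfsg.Prelude.Def_Blocks
import Cfsg.Agent.Helper6.KnG
import Cfsg.Agent.Helper6.CovLoc

/-!
# The reduction of a block idempotent is a primitive central idempotent of the residue group algebra
-/

set_option autoImplicit false
set_option linter.style.haveILetI false

namespace Cfsg.Agent.Helper6.Cov

open Cfsg.Agent.Helper6

universe u

variable {H : Type u} [Group H] {M : Ideal Cfsg.AlgInt}

/-- coefficients of an element commuting with the group elements form a class function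
(generic coefficients) -/
theorem coeff_conj_of_commute {k : Type*} [CommRing k] (x : MonoidAlgebra k H)
    (h : ∀ g : H, Commute x (MonoidAlgebra.single g 1)) (g a : H) :
    x.coeff (g * a * g⁻¹) = x.coeff a := by
  have h1 := congrArg (fun y => y.coeff (g * a)) (h g).eq
  simp only [MonoidAlgebra.coeff_mul_single_apply, MonoidAlgebra.coeff_single_mul_apply, mul_one,
    one_mul] at h1
  rw [h1]
  congr 1
  group

theorem gaPair_div_eq_classVec [Fintype H] (ψ : Cfsg.IrrCharacter H) (x : MonoidAlgebra ℂ H) :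
    gaPair (ψ : H → ℂ) x / (ψ : H → ℂ) 1 = classVec (fun h => x.coeff h) ψ := by
  unfold gaPair classVec
  rw [Finset.sum_div]
  apply Finset.sum_congr rfl
  intro t _
  rw [mul_div_assoc]

/-- a central element of the local group algebra all of whose central character values lie in the
local ideal: `1 - x` is invertible -/
theorem exists_inverse_one_sub [Fintype H] (hM : M.IsMaximal) (x : MonoidAlgebra (Rloc hM) H)
    (hxc : ∀ g : H, Commute (gaEmb hM H x) (MonoidAlgebra.single g 1))
    (hx : ∀ ψ : Cfsg.IrrCharacter H,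
      Cfsg.MemLocalIdeal M (classVec (fun h => (gaEmb hM H x).coeff h) ψ)) :
    ∃ y : MonoidAlgebra (Rloc hM) H, y * (1 - x) = 1 := by
  set a : MonoidAlgebra ℂ H := 1 - gaEmb hM H x with ha
  have hac : ∀ g : H, Commute a (MonoidAlgebra.single g 1) := by
    intro g
    rw [ha]
    exact (Commute.one_left _).sub_left (hxc g)
  have haloc : GaLoc M a := GaLoc.sub hM (GaLoc.one hM) (gaLoc_gaEmb hM x)
  have hω : ∀ ψ : Cfsg.IrrCharacter H,
      Cfsg.MemLocalRing M (gaPair (ψ : H → ℂ) a / (ψ : H → ℂ) 1) ∧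
      ¬ Cfsg.MemLocalIdeal M (gaPair (ψ : H → ℂ) a / (ψ : H → ℂ) 1) := by
    intro ψ
    have hψ1 : (ψ : H → ℂ) 1 ≠ 0 := IsIrrCharacter.apply_one_ne_zero ψ.2
    have h1 : gaPair (ψ : H → ℂ) a / (ψ : H → ℂ) 1 =
        1 - classVec (fun h => (gaEmb hM H x).coeff h) ψ := by
      rw [ha, gaPair_sub, gaPair_one, sub_div, div_self hψ1, gaPair_div_eq_classVec]
    rw [h1]
    exact ⟨MemLocalRing.sub hM (memLocalRing_one hM) (memLocalRing_of_memLocalIdeal (hx ψ)),
      not_memLocalIdeal_one_sub hM (hx ψ)⟩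
  obtain ⟨z, hzloc, hza, -, -⟩ := exists_inverse_of_central hM a hac haloc hω
  refine ⟨gaLift hM z hzloc, ?_⟩
  apply gaEmb_injective hM
  rw [map_mul, map_sub, map_one, gaEmb_gaLift, ← ha, hza]

/-- an idempotent of the residue group algebra which has a central lift with all central character
values in the local ideal vanishes -/
theorem idem_eq_zero_of_lift [Fintype H] (hM : M.IsMaximal) (x : MonoidAlgebra (Rloc hM) H)
    (hxc : ∀ g : H, Commute (gaEmb hM H x) (MonoidAlgebra.single g 1))
    (hx : ∀ ψ : Cfsg.IrrCharacter H,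
      Cfsg.MemLocalIdeal M (classVec (fun h => (gaEmb hM H x).coeff h) ψ))
    (hidem : gaRed hM H x * gaRed hM H x = gaRed hM H x) : gaRed hM H x = 0 := by
  obtain ⟨y, hy⟩ := exists_inverse_one_sub hM x hxc hx
  have h1 : gaRed hM H y * (1 - gaRed hM H x) = 1 := by
    rw [← map_one (gaRed hM H), ← map_sub, ← map_mul, hy, map_one]
  calc gaRed hM H x = gaRed hM H y * (1 - gaRed hM H x) * gaRed hM H x := by rw [h1, one_mul]
    _ = gaRed hM H y * (gaRed hM H x - gaRed hM H x * gaRed hM H x) := by
        rw [mul_assoc, sub_mul, one_mul]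
    _ = 0 := by rw [hidem, sub_self, mul_zero]


/-- **primitivity of the reduced block idempotent** -/
theorem blockIdem_red_primitive [Fintype H] (hM : M.IsMaximal) (b : Set (Cfsg.IrrCharacter H))
    (hb : Cfsg.IsPBlock M b) (E : MonoidAlgebra (Rloc hM) H)
    (hE : gaEmb hM H E = gaOfFun (Cfsg.blockCoeff b))
    (f : MonoidAlgebra (Fres hM) H) (hf : f * f = f) (hfc : ∀ a, Commute f a)
    (hfe : f * gaRed hM H E = f) : f = 0 ∨ f = gaRed hM H E := by
  classical
  set w' : MonoidAlgebra (Rloc hM) H := gaSec hM f with hw'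
  have hred : gaRed hM H w' = f := gaRed_gaSec hM f
  set w : MonoidAlgebra ℂ H := gaEmb hM H w' with hw
  have hwloc : GaLoc M w := gaLoc_gaEmb hM w'
  -- `w` is central
  have hd : Cfsg.IsClassFunction H (fun h => w.coeff h) := by
    intro k g
    change w.coeff (g * k * g⁻¹) = w.coeff k
    rw [hw, gaEmb_coeff, gaEmb_coeff, hw', gaSec_coeff, gaSec_coeff,
      coeff_conj_of_commute f (fun g => hfc _) g k]
  have hwc : ∀ g : H, Commute w (MonoidAlgebra.single g 1) := by
    intro g
    rw [← gaOfFun_coeff_self w]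
    exact gaOfFun_commute_single hd g
  have hebc : ∀ g : H, Commute (gaOfFun (Cfsg.blockCoeff b)) (MonoidAlgebra.single g 1) :=
    gaOfFun_commute_single (blockCoeff_isClassFunction b)
  set cv : Cfsg.IrrCharacter H → ℂ := fun ψ => classVec (fun h => w.coeff h) ψ with hcv
  have hcvP : ∀ ψ : Cfsg.IrrCharacter H, gaPair (ψ : H → ℂ) w / (ψ : H → ℂ) 1 = cv ψ :=
    fun ψ => gaPair_div_eq_classVec ψ w
  have hcvR : ∀ ψ, Cfsg.MemLocalRing M (cv ψ) :=
    fun ψ => classVec_memLocalRing hM _ hd (fun h => hwloc h) ψ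
  -- general tool: a central element with coefficients in the ideal
  have tool : ∀ q' : MonoidAlgebra (Rloc hM) H, gaRed hM H q' = 0 →
      (∀ g : H, Commute (gaEmb hM H q') (MonoidAlgebra.single g 1)) →
      ∀ ψ : Cfsg.IrrCharacter H,
        Cfsg.MemLocalIdeal M (gaPair (ψ : H → ℂ) (gaEmb hM H q') / (ψ : H → ℂ) 1) := by
    intro q' hq' hqc ψ
    rw [gaPair_div_eq_classVec]
    exact classVec_memLocalIdeal hM _ (isClassFunction_coeff_of_commute _ hqc)
      ((gaRed_eq_zero_iff hM q').mp hq') ψ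
  -- (b)
  have hb2 : ∀ ψ, Cfsg.MemLocalIdeal M (cv ψ * (cv ψ - 1)) := by
    intro ψ
    have h1 := tool (w' * w' - w') (by rw [map_sub, map_mul, hred, hf, sub_self])
      (by
        intro g
        rw [map_sub, map_mul]
        exact ((hwc g).mul_left (hwc g)).sub_left (hwc g)) ψ
    rw [map_sub, map_mul, gaPair_sub, gaPair_mul_of_central ψ w w hwc, sub_div, mul_div_assoc,
      hcvP] at h1
    have : cv ψ * (cv ψ - 1) = cv ψ * cv ψ - cv ψ := by ring
    rw [this]
    exact h1
  -- (c)
  have hc : ∀ ψ, ψ ∉ b → Cfsg.MemLocalIdeal M (cv ψ) := by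
    intro ψ hψ
    have h1 := tool (w' - w' * E) (by rw [map_sub, map_mul, hred, hfe, sub_self])
      (by
        intro g
        rw [map_sub, map_mul, hE]
        exact (hwc g).sub_left ((hwc g).mul_left (hebc g))) ψ
    rw [map_sub, map_mul, hE, gaPair_sub, gaPair_mul_of_central ψ w _ hwc, gaPair_blockIdem,
      if_neg hψ, mul_zero, sub_zero, hcvP] at h1
    exact h1
  -- (d)
  obtain ⟨χ₀, hχ₀⟩ := hb
  have hχ₀b : χ₀ ∈ b := by rw [hχ₀]; exact mem_blockOf_self hM χ₀
  have hdd : ∀ ψ ∈ b, Cfsg.MemLocalIdeal M (cv ψ - cv χ₀) := by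
    intro ψ hψ
    rw [hχ₀] at hψ
    exact Kn.classVec_sub_memLocalIdeal_of_sameBlock hM _ hd (fun h => hwloc h) ψ χ₀
      (sameBlock_symm hψ)
  have hEE : E * E = E := by
    apply gaEmb_injective hM
    rw [map_mul, hE, gaOfFun_blockCoeff_idem]
  rcases MemLocalIdeal.of_mul hM (hcvR χ₀) (MemLocalRing.sub hM (hcvR χ₀) (memLocalRing_one hM))
    (hb2 χ₀) with hA | hB
  · -- case A
    left
    rw [← hred]
    apply idem_eq_zero_of_lift hM w' hwc
    · intro ψ
      by_cases hψ : ψ ∈ b
      · have := MemLocalIdeal.add hM (hdd ψ hψ) hA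
        rwa [sub_add_cancel] at this
      · exact hc ψ hψ
    · rw [hred, hf]
  · -- case B
    right
    have hzero : gaRed hM H (E - w') = 0 := by
      apply idem_eq_zero_of_lift hM (E - w')
      · intro g
        rw [map_sub, hE]
        exact (hebc g).sub_left (hwc g)
      · intro ψ
        rw [← gaPair_div_eq_classVec, map_sub, hE, gaPair_sub, gaPair_blockIdem, sub_div, hcvP]
        have hψ1 : (ψ : H → ℂ) 1 ≠ 0 := IsIrrCharacter.apply_one_ne_zero ψ.2
        by_cases hψ : ψ ∈ b
        · rw [if_pos hψ, div_self hψ1]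
          have := MemLocalIdeal.add hM (hdd ψ hψ) hB
          have e : cv ψ - cv χ₀ + (cv χ₀ - 1) = -(1 - cv ψ) := by ring
          rw [e] at this
          have := MemLocalIdeal.neg this
          rwa [neg_neg] at this
        · rw [if_neg hψ, zero_div, zero_sub]
          exact MemLocalIdeal.neg (hc ψ hψ)
      · rw [map_sub, hred]
        have h1 : gaRed hM H E * gaRed hM H E = gaRed hM H E := by rw [← map_mul, hEE]
        have h2 : gaRed hM H E * f = f := by rw [← (hfc _).eq, hfe]
        rw [sub_mul, mul_sub, mul_sub, h1, hfe, h2, hf, sub_self, sub_zero]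
    rw [map_sub, hred, sub_eq_zero] at hzero
    exact hzero.symm

end Cfsg.Agent.Helper6.Cov
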