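import Mathlib
import Cfsg.Prelude.Def_Characters
import Cfsg.Prelude.Def_Blocks
import Cfsg.Agent.Helper6.KnG
import Cfsg.Agent.Helper6.BlockCover3
import Cfsg.Agent.Helper6.InducedBlock
import Cfsg.Agent.Helper6.CovLoc
import Cfsg.Agent.Helper6.CovDet
import Cfsg.Agent.Helper6.CovPrim

/-!
# Covered blocks: every character of the covered block lies under the covering block
(assembly, given the ring-theoretic main step over the residue field)
-/

set_option autoImplicit false
set_option linter.style.haveILetI false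

namespace Cfsg.Agent.Helper6.Cov

open Cfsg.Agent.Helper6

universe u

variable {G : Type u} [Group G] {M : Ideal Cfsg.AlgInt}

/-- product of block idempotents of disjoint sets vanishes -/
theorem gaOfFun_blockCoeff_mul_of_disjoint [Fintype G] (A A' : Set (Cfsg.IrrCharacter G))
    (hdis : ∀ χ, χ ∈ A → χ ∈ A' → False) :
    gaOfFun (Cfsg.blockCoeff A) * gaOfFun (Cfsg.blockCoeff A') = 0 := by
  classical
  have hcA : ∀ g : G, Commute (gaOfFun (Cfsg.blockCoeff A)) (MonoidAlgebra.single g 1) :=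
    gaOfFun_commute_single (blockCoeff_isClassFunction A)
  have hcA' : ∀ g : G, Commute (gaOfFun (Cfsg.blockCoeff A')) (MonoidAlgebra.single g 1) :=
    gaOfFun_commute_single (blockCoeff_isClassFunction A')
  apply ga_eq_zero_of_central _ (fun g => (hcA g).mul_left (hcA' g))
  intro φ
  rw [gaPair_mul_of_central φ _ _ hcA, gaPair_blockIdem, gaPair_blockIdem]
  by_cases h : φ ∈ A
  · by_cases h' : φ ∈ A'
    · exact (hdis φ h h').elim
    · rw [if_neg h', mul_zero]
  · rw [if_neg h, zero_div, zero_mul]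

theorem isPBlock_closed (hM : M.IsMaximal) (B : Set (Cfsg.IrrCharacter G))
    (hB : Cfsg.IsPBlock M B) : ∀ χ ∈ B, Cfsg.blockOf M (χ : G → ℂ) ⊆ B := by
  obtain ⟨χ₀, rfl⟩ := hB
  intro χ hχ ψ hψ
  exact sameBlock_trans hM hχ hψ


/-- the statement of the ring-theoretic main step, over the residue field -/
def MainStep (hM : M.IsMaximal) (G : Type u) [Group G] (N : Subgroup G) : Prop :=
  ∀ (e : MonoidAlgebra (Fres hM) G), IsIdempotentElem e → (∀ z, Commute e z) →
    ∀ (ε : MonoidAlgebra (Fres hM) N), IsIdempotentElem ε → (∀ a, Commute ε a) →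
      (∀ f : MonoidAlgebra (Fres hM) N, IsIdempotentElem f → (∀ a, Commute f a) → f * ε = f →
        f = 0 ∨ f = ε) →
      covIncl (Fres hM) N ε * e ≠ 0 → ∃ z : MonoidAlgebra (Fres hM) G,
        covRes (Fres hM) N (z * e) = ε

theorem classInner_restrict_conjIrr [Fintype G] (N : Subgroup G) [hN : N.Normal] [Fintype N]
    (χ : Cfsg.IrrCharacter G) (θ : Cfsg.IrrCharacter N) (g : G) :
    Cfsg.classInner (fun n : N => (χ : G → ℂ) n) (conjIrr N g θ : N → ℂ) =
      Cfsg.classInner (fun n : N => (χ : G → ℂ) n) (θ : N → ℂ) := by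
  have hχcf := IsCharacter.isClassFunction (IsIrrCharacter.isCharacter χ.2)
  have h1 : Cfsg.classInner (fun n : N => (χ : G → ℂ) n) (conjFun N (θ : N → ℂ) g) =
      Cfsg.classInner (conjFun N (fun n : N => (χ : G → ℂ) n) g) (conjFun N (θ : N → ℂ) g) := by
    rw [conjFun_restrict N (χ : G → ℂ) hχcf g]
  change Cfsg.classInner (fun n : N => (χ : G → ℂ) n) (conjFun N (θ : N → ℂ) g) = _
  rw [h1, classInner_conjFun]

/-- **covered blocks**: assembly -/
theorem exists_over_of_cover [Fintype G] (hM : M.IsMaximal) (N : Subgroup G) [hN : N.Normal]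
    [Fintype N] (B : Set (Cfsg.IrrCharacter G)) (hB : Cfsg.IsPBlock M B)
    (b : Set (Cfsg.IrrCharacter N)) (hb : Cfsg.IsPBlock M b)
    (hcov : ∃ χ ∈ B, ∃ θ ∈ b,
      Cfsg.classInner (fun n : N => (χ : G → ℂ) n) (θ : N → ℂ) ≠ 0)
    (Hmain : MainStep hM G N) (θ : Cfsg.IrrCharacter N) (hθ : θ ∈ b) :
    ∃ χ ∈ B, Cfsg.classInner (fun n : N => (χ : G → ℂ) n) (θ : N → ℂ) ≠ 0 := by
  classical
  haveI : Finite (Cfsg.IrrCharacter N) := irr_finite
  haveI : Fintype (Cfsg.IrrCharacter N) := Fintype.ofFinite _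
  by_contra hcon
  push Not at hcon
  -- the idempotents
  set eB : MonoidAlgebra ℂ G := gaOfFun (Cfsg.blockCoeff B) with heB
  set eb : MonoidAlgebra ℂ N := gaOfFun (Cfsg.blockCoeff b) with heb
  have hBloc : GaLoc M eB := fun g => by
    rw [heB, gaOfFun_coeff]
    exact memLocalRing_blockCoeff_of_closed hM B (isPBlock_closed hM B hB) g
  have hbloc : GaLoc M eb := fun n => by
    rw [heb, gaOfFun_coeff]
    exact memLocalRing_blockCoeff_of_closed hM b (isPBlock_closed hM b hb) n
  have heBc : ∀ w : MonoidAlgebra ℂ G, Commute eB w :=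
    gaOfFun_commute (blockCoeff_isClassFunction B)
  have hebc : ∀ w : MonoidAlgebra ℂ N, Commute eb w :=
    gaOfFun_commute (blockCoeff_isClassFunction b)
  have heBi : eB * eB = eB := gaOfFun_blockCoeff_idem B
  have hebi : eb * eb = eb := gaOfFun_blockCoeff_idem b
  set EB : MonoidAlgebra (Rloc hM) G := gaLift hM eB hBloc with hEB
  set Eb : MonoidAlgebra (Rloc hM) N := gaLift hM eb hbloc with hEb
  have hEBe : gaEmb hM G EB = eB := gaEmb_gaLift hM eB hBloc
  have hEbe : gaEmb hM N Eb = eb := gaEmb_gaLift hM eb hbloc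
  have hEBi : EB * EB = EB := by
    apply gaEmb_injective hM
    rw [map_mul, hEBe, heBi]
  have hEbi : Eb * Eb = Eb := by
    apply gaEmb_injective hM
    rw [map_mul, hEbe, hebi]
  have hEBc : ∀ w : MonoidAlgebra (Rloc hM) G, Commute EB w := by
    intro w
    apply gaEmb_injective hM
    rw [map_mul, map_mul, hEBe]
    exact (heBc _).eq
  have hEbc : ∀ w : MonoidAlgebra (Rloc hM) N, Commute Eb w := by
    intro w
    apply gaEmb_injective hM
    rw [map_mul, map_mul, hEbe]
    exact (hebc _).eq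
  -- hypotheses of the main step
  have h1 : IsIdempotentElem (gaRed hM G EB) := by
    unfold IsIdempotentElem
    rw [← map_mul, hEBi]
  have h2 : ∀ z, Commute (gaRed hM G EB) z := by
    intro z
    obtain ⟨z', rfl⟩ := gaRed_surjective hM z
    exact (hEBc z').map (gaRed hM G)
  have h3 : IsIdempotentElem (gaRed hM N Eb) := by
    unfold IsIdempotentElem
    rw [← map_mul, hEbi]
  have h4 : ∀ a, Commute (gaRed hM N Eb) a := by
    intro a
    obtain ⟨a', rfl⟩ := gaRed_surjective hM a
    exact (hEbc a').map (gaRed hM N)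
  have h5 : ∀ f : MonoidAlgebra (Fres hM) N, IsIdempotentElem f → (∀ a, Commute f a) →
      f * gaRed hM N Eb = f → f = 0 ∨ f = gaRed hM N Eb :=
    fun f hf hfc hfe => blockIdem_red_primitive hM b hb Eb hEbe f hf hfc hfe
  -- non-vanishing
  have h6 : covIncl (Fres hM) N (gaRed hM N Eb) * gaRed hM G EB ≠ 0 := by
    intro h0
    have e1 : covIncl (Fres hM) N (gaRed hM N Eb) * gaRed hM G EB =
        gaRed hM G (covIncl (Rloc hM) N Eb * EB) := by
      rw [map_mul]
      congr 1
      exact covIncl_mapRingHom _ N Eb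
    rw [e1, gaRed_eq_zero_iff] at h0
    set u : MonoidAlgebra ℂ G := gaIncl N eb * eB with hu
    have e2 : gaEmb hM G (covIncl (Rloc hM) N Eb * EB) = u := by
      rw [map_mul, hEBe, hu]
      congr 1
      have := covIncl_mapRingHom (Rloc hM).subtype N Eb
      change covIncl ℂ N (gaEmb hM N Eb) = gaEmb hM G (covIncl (Rloc hM) N Eb) at this
      rw [← this, hEbe]
      rfl
    rw [e2] at h0
    have hui : u * u = u := by
      rw [hu, mul_assoc, ← mul_assoc eB, (heBc _).eq, mul_assoc, heBi, ← mul_assoc, ← map_mul,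
        hebi]
    have hu0 : u = 0 := by
      apply eq_zero_of_mul_one_sub hM u u h0
      rw [mul_sub, mul_one, hui, sub_self]
    -- but `u ≠ 0`
    obtain ⟨χ, hχ, θ₀, hθ₀, hne⟩ := hcov
    set v : MonoidAlgebra ℂ G :=
      gaOfFun (Cfsg.blockCoeff ({χ} : Set (Cfsg.IrrCharacter G))) *
        gaIncl N (gaOfFun (Cfsg.blockCoeff ({θ₀} : Set (Cfsg.IrrCharacter N)))) with hv
    have hχc : ∀ g : G, Commute (gaOfFun (Cfsg.blockCoeff ({χ} : Set (Cfsg.IrrCharacter G))))
        (MonoidAlgebra.single g 1) :=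
      gaOfFun_commute_single (blockCoeff_isClassFunction _)
    have hχc' : ∀ w : MonoidAlgebra ℂ G,
        Commute (gaOfFun (Cfsg.blockCoeff ({χ} : Set (Cfsg.IrrCharacter G)))) w :=
      gaOfFun_commute (blockCoeff_isClassFunction _)
    have hvu : v * u = v := by
      have e3 : gaOfFun (Cfsg.blockCoeff ({θ₀} : Set (Cfsg.IrrCharacter N))) * eb =
          gaOfFun (Cfsg.blockCoeff ({θ₀} : Set (Cfsg.IrrCharacter N))) := by
        rw [← (hebc _).eq]
        exact Kn.gaOfFun_blockCoeff_mul_of_subset b {θ₀} (by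
          intro x hx
          rw [Set.mem_singleton_iff] at hx
          rw [hx]
          exact hθ₀)
      have e4 : gaOfFun (Cfsg.blockCoeff ({χ} : Set (Cfsg.IrrCharacter G))) * eB =
          gaOfFun (Cfsg.blockCoeff ({χ} : Set (Cfsg.IrrCharacter G))) := by
        rw [← (heBc _).eq]
        exact Kn.gaOfFun_blockCoeff_mul_of_subset B {χ} (by
          intro x hx
          rw [Set.mem_singleton_iff] at hx
          rw [hx]
          exact hχ)
      rw [hv, hu, mul_assoc, ← mul_assoc (gaIncl N _) (gaIncl N eb), ← map_mul, e3,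
        (heBc _).eq.symm, ← mul_assoc, e4]
    have hv0 : v = 0 := by rw [← hvu, hu0, mul_zero]
    have hpair : gaPair (χ : G → ℂ) v =
        (θ₀ : N → ℂ) 1 * Cfsg.classInner (fun n : N => (χ : G → ℂ) n) (θ₀ : N → ℂ) := by
      rw [hv, gaPair_mul_of_central χ _ _ hχc, gaPair_blockIdem, if_pos (Set.mem_singleton χ),
        div_self (IsIrrCharacter.apply_one_ne_zero χ.2), one_mul, gaPair_incl]
      simp_rw [gaOfFun_coeff]
      rw [sum_blockCoeff_mul_fun]
      rw [Finset.sum_eq_single θ₀]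
      · rw [if_pos (Set.mem_singleton θ₀)]
      · intro ψ _ hψ
        rw [if_neg (by rwa [Set.mem_singleton_iff])]
      · intro h
        exact absurd (Finset.mem_univ _) h
    rw [hv0, gaPair_zero] at hpair
    have := mul_ne_zero (IsIrrCharacter.apply_one_ne_zero θ₀.2) hne
    exact this hpair.symm
  obtain ⟨zbar, hz⟩ := Hmain _ h1 h2 _ h3 h4 h5 h6
  -- lift
  set z' : MonoidAlgebra (Rloc hM) G := gaSec hM zbar with hz'
  set l' : MonoidAlgebra (Rloc hM) N := covRes (Rloc hM) N (z' * EB) with hl'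
  have hl'red : gaRed hM N (Eb - l') = 0 := by
    rw [map_sub, hl']
    have : gaRed hM N (covRes (Rloc hM) N (z' * EB)) =
        covRes (Fres hM) N (gaRed hM G (z' * EB)) := (covRes_mapRingHom _ N _).symm
    rw [this, map_mul, hz', gaRed_gaSec, hz, sub_self]
  rw [gaRed_eq_zero_iff] at hl'red
  set z : MonoidAlgebra ℂ G := gaEmb hM G z' with hzdef
  have hl : gaEmb hM N l' = covRes ℂ N (z * eB) := by
    rw [hl']
    have : gaEmb hM N (covRes (Rloc hM) N (z' * EB)) =
        covRes ℂ N (gaEmb hM G (z' * EB)) := (covRes_mapRingHom _ N _).symm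
    rw [this, map_mul, hEBe]
  rw [map_sub, hEbe, hl] at hl'red
  -- the orbit of θ
  set O : Set (Cfsg.IrrCharacter N) := {θ' | ∃ g : G, θ' = conjIrr N g θ} with hO
  have hOst : ∀ g : G, ∀ θ' ∈ O, conjIrr N g θ' ∈ O := by
    rintro g θ' ⟨g', rfl⟩
    exact ⟨g' * g, conjIrr_conjIrr N g' g θ⟩
  have hθO : θ ∈ O := ⟨1, (conjIrr_one N θ).symm⟩
  set eO : MonoidAlgebra ℂ N := gaOfFun (Cfsg.blockCoeff O) with heO
  set x : MonoidAlgebra ℂ N := gaOfFun (Cfsg.blockCoeff (O ∩ b)) with hx
  have hxb : x * eb = x := by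
    rw [← (hebc _).eq]
    exact Kn.gaOfFun_blockCoeff_mul_of_subset b (O ∩ b) Set.inter_subset_right
  have hxO : x * eO = x := by
    have hc : Commute eO x := gaOfFun_commute (blockCoeff_isClassFunction O) x
    rw [← hc.eq]
    exact Kn.gaOfFun_blockCoeff_mul_of_subset O (O ∩ b) Set.inter_subset_left
  have hOB : gaIncl N eO * eB = 0 := by
    rw [heO, Kn.gaIncl_blockCoeff_eq N O hOst]
    apply gaOfFun_blockCoeff_mul_of_disjoint
    rintro χ ⟨θ', ⟨g, rfl⟩, hne⟩ hχB
    rw [classInner_restrict_conjIrr] at hne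
    exact hne (hcon χ hχB)
  have hxB : gaIncl N x * eB = 0 := by
    rw [← hxO, map_mul, mul_assoc, hOB, mul_zero]
  have hxl : x * covRes ℂ N (z * eB) = 0 := by
    rw [← covRes_covIncl_mul, ← (heBc z).eq, ← mul_assoc]
    change covRes ℂ N (gaIncl N x * eB * z) = 0
    rw [hxB, zero_mul, map_zero]
  have hx0 : x = 0 := by
    apply eq_zero_of_mul_one_sub hM (eb - covRes ℂ N (z * eB)) x hl'red
    rw [mul_sub, mul_sub, mul_one, hxb, hxl, sub_zero, sub_self]
  have hpx : gaPair (θ : N → ℂ) x = (θ : N → ℂ) 1 := by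
    rw [hx, gaPair_blockIdem, if_pos ⟨hθO, hθ⟩]
  rw [hx0, gaPair_zero] at hpx
  exact IsIrrCharacter.apply_one_ne_zero θ.2 hpx.symm

end Cfsg.Agent.Helper6.Cov
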