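import Mathlib
import Cfsg.Prelude.Def_Characters
import Cfsg.Prelude.Def_Blocks
import Cfsg.Prelude.Def_BrauerPairs
import Cfsg.Agent.Helper6.InducedBlock
import Cfsg.Agent.Helper6.NormTwo
import Cfsg.Agent.Helper6.BlockAction
import Cfsg.Agent.Helper6.PrincipalPairs

/-!
# Stabilizing a set of characters, in terms of its idempotent coefficients
-/

set_option autoImplicit false
set_option linter.style.haveILetI false

namespace Cfsg.Agent.Helper6

open scoped ComplexConjugate

universe u

variable {G : Type u} [Group G]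

/-- membership in a set of irreducible characters, read off its idempotent coefficients -/
theorem mem_iff_sum_blockCoeff_ne_zero [Fintype G] (A : Set (Cfsg.IrrCharacter G))
    (ψ₀ : Cfsg.IrrCharacter G) :
    ψ₀ ∈ A ↔ ∑ g : G, Cfsg.blockCoeff A g * (ψ₀ : G → ℂ) g ≠ 0 := by
  classical
  haveI : Finite (Cfsg.IrrCharacter G) := irr_finite
  haveI : Fintype (Cfsg.IrrCharacter G) := Fintype.ofFinite _
  rw [sum_blockCoeff_mul_fun A (ψ₀ : G → ℂ)]
  have h1 : ∀ ψ : Cfsg.IrrCharacter G,
      (if ψ ∈ A then (ψ : G → ℂ) 1 * Cfsg.classInner (ψ₀ : G → ℂ) (ψ : G → ℂ) else 0) =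
      if ψ = ψ₀ then (if ψ₀ ∈ A then (ψ₀ : G → ℂ) 1 else 0) else 0 := by
    intro ψ
    rw [classInner_irr_ite ψ₀.2 ψ.2]
    by_cases hψ : ψ = ψ₀
    · subst hψ
      rw [if_pos rfl, if_pos rfl, mul_one]
    · rw [if_neg hψ]
      have : ¬ ((ψ₀ : G → ℂ) = (ψ : G → ℂ)) := fun h => hψ (Subtype.ext h.symm)
      rw [if_neg this, mul_zero, ite_self]
  rw [Finset.sum_congr rfl (fun ψ _ => h1 ψ), Finset.sum_ite_eq' Finset.univ ψ₀,
    if_pos (Finset.mem_univ _)]
  constructor
  · intro h
    rw [if_pos h]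
    exact IsIrrCharacter.apply_one_ne_zero ψ₀.2
  · intro h
    by_contra hcon
    rw [if_neg hcon] at h
    exact h rfl

/-- a set of irreducible characters is determined by its idempotent coefficients -/
theorem eq_of_blockCoeff_eq [Finite G] (A A' : Set (Cfsg.IrrCharacter G))
    (h : ∀ g, Cfsg.blockCoeff A g = Cfsg.blockCoeff A' g) : A = A' := by
  haveI : Fintype G := Fintype.ofFinite G
  ext ψ
  rw [mem_iff_sum_blockCoeff_ne_zero, mem_iff_sum_blockCoeff_ne_zero]
  simp only [h]

/-- an element normalizing `K` stabilizes a set of irreducible characters of `K` iff it fixes the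
idempotent coefficients -/
theorem stabilizesBlock_iff_blockCoeff [Finite G] (K : Subgroup G) (g : G)
    (hg : g ∈ Subgroup.normalizer (K : Set G)) (f : Set (Cfsg.IrrCharacter K)) :
    Cfsg.StabilizesBlock K f g ↔
      ∀ k : K, Cfsg.blockCoeff f (nconjHom K g hg k) = Cfsg.blockCoeff f k := by
  haveI : Finite (Cfsg.IrrCharacter K) := irr_finite
  constructor
  · intro hst k
    have himg : nconjIrr K g hg '' f = f := by
      have hsub : nconjIrr K g hg '' f ⊆ f := by
        rintro θ ⟨χ, hχ, rfl⟩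
        exact nconjIrr_mem_of_stabilizes K f g hst χ hχ
      apply Set.eq_of_subset_of_ncard_le hsub _ (Set.toFinite f)
      rw [Set.ncard_image_of_injective _ (nconjIrr_injective K g hg)]
    rw [← blockCoeff_image_nconjIrr K g hg f k, himg]
  · intro h
    have himg : nconjIrr K g hg '' f = f := by
      apply eq_of_blockCoeff_eq
      intro k
      rw [blockCoeff_image_nconjIrr K g hg f k, h k]
    refine ⟨hg, fun χ hχ => ⟨nconjIrr K g hg χ, ?_, isConjCharOf_nconjIrr K g hg χ⟩⟩
    rw [← himg]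
    exact ⟨χ, hχ, rfl⟩

/-- the same, with the idempotent coefficients read on the whole group -/
theorem stabilizesBlock_iff_subgroupBlockCoeff [Finite G] (K : Subgroup G) (g : G)
    (hg : g ∈ Subgroup.normalizer (K : Set G)) (f : Set (Cfsg.IrrCharacter K)) :
    Cfsg.StabilizesBlock K f g ↔
      ∀ x : G, Cfsg.subgroupBlockCoeff K f (g⁻¹ * x * g) = Cfsg.subgroupBlockCoeff K f x := by
  rw [stabilizesBlock_iff_blockCoeff K g hg f]
  constructor
  · intro h x
    by_cases hx : x ∈ K
    · have hx' : g⁻¹ * x * g ∈ K := (Subgroup.mem_normalizer_iff''.mp hg x).mp hx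
      rw [subgroupBlockCoeff_of_mem _ _ _ hx, subgroupBlockCoeff_of_mem _ _ _ hx']
      exact h ⟨x, hx⟩
    · have hx' : g⁻¹ * x * g ∉ K := fun hcon => hx ((Subgroup.mem_normalizer_iff''.mp hg x).mpr hcon)
      rw [subgroupBlockCoeff_of_not_mem _ _ _ hx, subgroupBlockCoeff_of_not_mem _ _ _ hx']
  · intro h k
    have h1 := h (k : G)
    have hx' : g⁻¹ * (k : G) * g ∈ K := (Subgroup.mem_normalizer_iff''.mp hg (k : G)).mp k.2
    rw [subgroupBlockCoeff_of_mem _ _ _ k.2, subgroupBlockCoeff_of_mem _ _ _ hx'] at h1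
    exact h1

/-- the subgroup of elements fixing a function under conjugation -/
def fnConjStab (F : G → ℂ) : Subgroup G where
  carrier := {g | ∀ x : G, F (g⁻¹ * x * g) = F x}
  one_mem' := by
    intro x
    simp
  mul_mem' := by
    intro a b ha hb x
    have e : (a * b)⁻¹ * x * (a * b) = b⁻¹ * (a⁻¹ * x * a) * b := by group
    rw [e, hb, ha]
  inv_mem' := by
    intro a ha x
    have h1 := ha (a⁻¹⁻¹ * x * a⁻¹)
    have e : a⁻¹ * (a⁻¹⁻¹ * x * a⁻¹) * a = x := by group
    rw [e] at h1
    exact h1.symm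

theorem mem_fnConjStab (F : G → ℂ) (g : G) :
    g ∈ fnConjStab F ↔ ∀ x : G, F (g⁻¹ * x * g) = F x := Iff.rfl

end Cfsg.Agent.Helper6
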