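import Mathlib
import Cfsg.Prelude.Def_Characters
import Cfsg.Prelude.Def_Blocks
import Cfsg.Agent.Helper6.BrauerMult
import Cfsg.Agent.Helper6.SubpairDown
import Cfsg.Agent.Helper6.BrauerIdem

/-!
# An idempotent modulo the local ideal with the central character values of a block idempotent is
the block idempotent modulo the local ideal
-/

set_option autoImplicit false
set_option linter.style.haveILetI false

namespace Cfsg.Agent.Helper6

open scoped ComplexConjugate

universe u

variable {K : Type u} [Group K] {M : Ideal Cfsg.AlgInt}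

section Vec

variable [Fintype K] [Fintype (Cfsg.IrrCharacter K)]

/-- the central character values of the central element with prescribed central character values -/
theorem classVec_idemCoeff (v : Cfsg.IrrCharacter K → ℂ) (χ : Cfsg.IrrCharacter K) :
    classVec (idemCoeff v) χ = v χ := by
  classical
  unfold classVec idemCoeff
  have hχ1 : (χ : K → ℂ) 1 ≠ 0 := IsIrrCharacter.apply_one_ne_zero χ.2
  have h1 : ∀ t : K, (Nat.card K : ℂ)⁻¹ * (∑ θ : Cfsg.IrrCharacter K,
      v θ * ((θ : K → ℂ) 1 * conj ((θ : K → ℂ) t))) * ((χ : K → ℂ) t / (χ : K → ℂ) 1) =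
      ∑ θ : Cfsg.IrrCharacter K, v θ * (θ : K → ℂ) 1 / (χ : K → ℂ) 1 *
        ((Nat.card K : ℂ)⁻¹ * ((χ : K → ℂ) t * conj ((θ : K → ℂ) t))) := by
    intro t
    rw [Finset.mul_sum, Finset.sum_mul]
    apply Finset.sum_congr rfl
    intro θ _
    ring
  simp_rw [h1]
  rw [Finset.sum_comm]
  have h2 : ∀ θ : Cfsg.IrrCharacter K, ∑ t : K, v θ * (θ : K → ℂ) 1 / (χ : K → ℂ) 1 *
      ((Nat.card K : ℂ)⁻¹ * ((χ : K → ℂ) t * conj ((θ : K → ℂ) t))) =
      v θ * (θ : K → ℂ) 1 / (χ : K → ℂ) 1 * (if χ = θ then 1 else 0) := by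
    intro θ
    rw [← Finset.mul_sum, ← Finset.mul_sum, ← classInner_def, classInner_irr_ite χ.2 θ.2]
    congr 1
    by_cases h : χ = θ
    · rw [if_pos h, if_pos (congrArg Subtype.val h)]
    · rw [if_neg h, if_neg (fun h' => h (Subtype.ext h'))]
  simp_rw [h2]
  rw [Finset.sum_eq_single χ]
  · rw [if_pos rfl, mul_one, mul_div_assoc, div_self hχ1, mul_one]
  · intro θ _ hθ
    rw [if_neg (fun h => hθ h.symm), mul_zero]
  · intro h
    exact absurd (Finset.mem_univ _) h

/-- an idempotent modulo the local ideal all of whose central character values lie in the local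
ideal has all coefficients in the local ideal -/
theorem idemCoeff_memLocalIdeal_of_idem (hM : M.IsMaximal) (v : Cfsg.IrrCharacter K → ℂ)
    (hv : IsMultiplier M v) (hvI : ∀ χ, Cfsg.MemLocalIdeal M (v χ))
    (hidem : ∀ g, Cfsg.MemLocalIdeal M (idemCoeff (v * v - v) g)) (g : K) :
    Cfsg.MemLocalIdeal M (idemCoeff v g) := by
  classical
  by_contra hg
  have hcf := idemCoeff_isClassFunction v
  have hloc : ∀ t, Cfsg.MemLocalRing M (idemCoeff v t) := hv.isLocalVec hM
  have hid : ∀ g, Cfsg.MemLocalIdeal M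
      (∑ t, idemCoeff v t * idemCoeff v (g * t⁻¹) - idemCoeff v g) := by
    intro g
    have h1 : ∑ t, idemCoeff v t * idemCoeff v (g * t⁻¹) = cnv (idemCoeff v) (idemCoeff v) g :=
      rfl
    rw [h1, cnv_eq_idemCoeff _ _ hcf hcf]
    have h2 : classVec (idemCoeff v) = v := funext (classVec_idemCoeff v)
    rw [h2]
    have h3 := hidem g
    rw [sub_eq_add_neg, idemCoeff_add, idemCoeff_neg, ← sub_eq_add_neg] at h3
    exact h3
  obtain ⟨χ, hχ⟩ := exists_classVec_not_mem hM (idemCoeff v) hcf hloc hid g hg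
  rw [classVec_idemCoeff] at hχ
  exact hχ (hvI χ)

open Classical in
/-- **an idempotent modulo the local ideal with the central character values of the idempotent of
a set `A` of irreducible characters agrees with that idempotent modulo the local ideal** -/
theorem sub_blockCoeff_memLocalIdeal (hM : M.IsMaximal) (u : K → ℂ)
    (hu : Cfsg.IsClassFunction K u) (hloc : ∀ t, Cfsg.MemLocalRing M (u t))
    (hidem : ∀ g, Cfsg.MemLocalIdeal M (∑ t, u t * u (g * t⁻¹) - u g))
    (A : Set (Cfsg.IrrCharacter K)) (hA : ∀ g, Cfsg.MemLocalRing M (Cfsg.blockCoeff A g))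
    (hcv : ∀ ξ, Cfsg.MemLocalIdeal M (classVec u ξ - if ξ ∈ A then 1 else 0)) (x : K) :
    Cfsg.MemLocalIdeal M (u x - Cfsg.blockCoeff A x) := by
  set a := classVec u with ha
  set ε : Cfsg.IrrCharacter K → ℂ := fun θ => if θ ∈ A then (1 : ℂ) else 0 with hε
  have hεcv : classVec (Cfsg.blockCoeff A) = ε := funext (classVec_blockCoeff A)
  have ham : IsMultiplier M a := isMultiplier_classVec hM u hu hloc
  have hεm : IsMultiplier M ε := by
    rw [← hεcv]
    exact isMultiplier_classVec hM _ (blockCoeff_isClassFunction A) hA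
  have hεε : ε * ε = ε := by
    funext θ
    simp only [hε, Pi.mul_apply]
    by_cases hθ : θ ∈ A
    · rw [if_pos hθ, mul_one]
    · rw [if_neg hθ, mul_zero]
  -- the defect of idempotency
  set d : K → ℂ := fun g => cnv u u g - u g with hd
  have hdcf : Cfsg.IsClassFunction K d := by
    intro g h
    simp only [hd]
    rw [cnv_isClassFunction u u hu hu g h, hu g h]
  have hdI : ∀ g, Cfsg.MemLocalIdeal M (d g) := hidem
  have hdcv : classVec d = a * a - a := by
    funext ξ
    simp only [hd]
    rw [classVec_sub, classVec_cnv u u hu, Pi.sub_apply, Pi.mul_apply]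
  have hdmul : ∀ w : Cfsg.IrrCharacter K → ℂ, IsMultiplier M w →
      ∀ g, Cfsg.MemLocalIdeal M (idemCoeff ((a * a - a) * w) g) := by
    intro w hw g
    rw [← hdcv, idemCoeff_classVec_mul d hdcf w g]
    apply MemLocalIdeal.sum hM
    intro t _
    have := MemLocalIdeal.mul_left hM (hw.isLocalVec hM (g * t⁻¹)) (hdI t)
    rwa [mul_comm] at this
  have h1m : IsMultiplier M (1 - ε) := IsMultiplier.sub hM isMultiplier_one hεm
  have h1am : IsMultiplier M (1 - a) := IsMultiplier.sub hM isMultiplier_one ham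
  -- first idempotent
  have hw₁ : ∀ g, Cfsg.MemLocalIdeal M (idemCoeff (a * (1 - ε)) g) := by
    apply idemCoeff_memLocalIdeal_of_idem hM _ (IsMultiplier.mul ham h1m)
    · intro χ
      have h := hcv χ
      simp only [Pi.mul_apply, Pi.sub_apply, Pi.one_apply, hε]
      by_cases hχ : χ ∈ A
      · rw [if_pos hχ, sub_self, mul_zero]
        exact memLocalIdeal_zero hM
      · rw [if_neg hχ, sub_zero] at h
        rw [if_neg hχ, sub_zero, mul_one]
        exact h
    · intro g
      have e : a * (1 - ε) * (a * (1 - ε)) - a * (1 - ε) = (a * a - a) * (1 - ε) := by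
        have : (1 - ε) * (1 - ε) = 1 - ε := by
          rw [mul_sub, mul_one, sub_mul, one_mul, hεε, sub_self, sub_zero]
        calc a * (1 - ε) * (a * (1 - ε)) - a * (1 - ε)
            = a * a * ((1 - ε) * (1 - ε)) - a * (1 - ε) := by ring
          _ = a * a * (1 - ε) - a * (1 - ε) := by rw [this]
          _ = (a * a - a) * (1 - ε) := by ring
      rw [e]
      exact hdmul _ h1m g
  -- second idempotent
  have hw₂ : ∀ g, Cfsg.MemLocalIdeal M (idemCoeff ((1 - a) * ε) g) := by
    apply idemCoeff_memLocalIdeal_of_idem hM _ (IsMultiplier.mul h1am hεm)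
    · intro χ
      have h := hcv χ
      simp only [Pi.mul_apply, Pi.sub_apply, Pi.one_apply, hε]
      by_cases hχ : χ ∈ A
      · rw [if_pos hχ] at h
        rw [if_pos hχ, mul_one]
        have := MemLocalIdeal.neg h
        rwa [neg_sub] at this
      · rw [if_neg hχ, mul_zero]
        exact memLocalIdeal_zero hM
    · intro g
      have e : (1 - a) * ε * ((1 - a) * ε) - (1 - a) * ε = (a * a - a) * ε := by
        calc (1 - a) * ε * ((1 - a) * ε) - (1 - a) * ε
            = (1 - a) * (1 - a) * (ε * ε) - (1 - a) * ε := by ring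
          _ = (1 - a) * (1 - a) * ε - (1 - a) * ε := by rw [hεε]
          _ = (a * a - a) * ε := by ring
      rw [e]
      exact hdmul _ hεm g
  have e1 : u x - Cfsg.blockCoeff A x =
      idemCoeff (a * (1 - ε)) x - idemCoeff ((1 - a) * ε) x := by
    rw [← idemCoeff_classVec u hu x, blockCoeff_eq_idemCoeff A x, ← ha]
    have e2 : a * (1 - ε) = a + -(a * ε) := by ring
    have e3 : (1 - a) * ε = ε + -(a * ε) := by ring
    rw [e2, e3, idemCoeff_add, idemCoeff_add]
    ring
  rw [e1]
  exact MemLocalIdeal.sub hM (hw₁ x) (hw₂ x)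

end Vec

end Cfsg.Agent.Helper6
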