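import Mathlib
import Cfsg.Prelude.Def_Characters
import Cfsg.Prelude.Def_Blocks
import Cfsg.Agent.Helper6.BrCorrA

/-!
# The truncation of a central idempotent to the centralizer of a `p`-subgroup
-/

set_option autoImplicit false
set_option linter.style.haveILetI false

namespace Cfsg.Agent.Helper6

open scoped ComplexConjugate

universe u

variable {G : Type u} [Group G] {M : Ideal Cfsg.AlgInt}

/-- the truncation of a coefficient function to the centralizer of `P` -/
noncomputable def truncCent (P : Subgroup G) (f : G → ℂ) : G → ℂ := by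
  classical exact fun t => if t ∈ Subgroup.centralizer (P : Set G) then f t else 0

theorem truncCent_of_mem (P : Subgroup G) (f : G → ℂ) (t : G)
    (ht : t ∈ Subgroup.centralizer (P : Set G)) : truncCent P f t = f t := by
  classical
  unfold truncCent
  rw [if_pos ht]

theorem truncCent_of_not_mem (P : Subgroup G) (f : G → ℂ) (t : G)
    (ht : t ∉ Subgroup.centralizer (P : Set G)) : truncCent P f t = 0 := by
  classical
  unfold truncCent
  rw [if_neg ht]

theorem truncCent_memLocalRing (hM : M.IsMaximal) (P : Subgroup G) (f : G → ℂ)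
    (hf : ∀ t, Cfsg.MemLocalRing M (f t)) (t : G) : Cfsg.MemLocalRing M (truncCent P f t) := by
  by_cases ht : t ∈ Subgroup.centralizer (P : Set G)
  · rw [truncCent_of_mem P f t ht]; exact hf t
  · rw [truncCent_of_not_mem P f t ht]; exact memLocalRing_zero hM

/-- the truncation is invariant under conjugation by the normalizer of `P` -/
theorem truncCent_conj (P : Subgroup G) (f : G → ℂ) (hf : Cfsg.IsClassFunction G f) (t n : G)
    (hn : n ∈ Subgroup.normalizer (P : Set G)) :
    truncCent P f (n * t * n⁻¹) = truncCent P f t := by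
  have hiff := conj_mem_centralizer_iff_of_mem_normalizer P hn t
  by_cases ht : t ∈ Subgroup.centralizer (P : Set G)
  · rw [truncCent_of_mem P f _ (hiff.mpr ht), truncCent_of_mem P f t ht, hf]
  · rw [truncCent_of_not_mem P f _ (fun h => ht (hiff.mp h)), truncCent_of_not_mem P f t ht]

/-- **the truncation of an idempotent modulo the local ideal is an idempotent modulo the local
ideal** -/
theorem truncCent_idem [Fintype G] {p : ℕ} [hp : Fact p.Prime] (hM : Cfsg.IsPModular p M)
    (P : Subgroup G) (hP : IsPGroup p P) (f : G → ℂ) (hfP : ConjInv P f)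
    (hfloc : ∀ t, Cfsg.MemLocalRing M (f t))
    (hidem : ∀ g, Cfsg.MemLocalIdeal M (cnv f f g - f g)) (g : G) :
    Cfsg.MemLocalIdeal M (cnv (truncCent P f) (truncCent P f) g - truncCent P f g) := by
  classical
  by_cases hg : g ∈ Subgroup.centralizer (P : Set G)
  · have h1 : cnv (truncCent P f) (truncCent P f) g =
        ∑ t ∈ (Finset.univ : Finset G).filter (· ∈ Subgroup.centralizer (P : Set G)),
          f t * f (g * t⁻¹) := by
      unfold cnv
      rw [Finset.sum_filter]
      apply Finset.sum_congr rfl
      intro t _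
      by_cases ht : t ∈ Subgroup.centralizer (P : Set G)
      · have ht2 : g * t⁻¹ ∈ Subgroup.centralizer (P : Set G) :=
          Subgroup.mul_mem _ hg (Subgroup.inv_mem _ ht)
        rw [if_pos ht, truncCent_of_mem P f t ht, truncCent_of_mem P f _ ht2]
      · rw [if_neg ht, truncCent_of_not_mem P f t ht, zero_mul]
    rw [h1, truncCent_of_mem P f g hg]
    have h2 := cnv_sub_sum_centralizer hM P hP f f hfP hfP hfloc hfloc g hg
    have h3 := MemLocalIdeal.sub hM.2.1 (hidem g) h2
    convert h3 using 1
    ring
  · have h1 : cnv (truncCent P f) (truncCent P f) g = 0 := by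
      unfold cnv
      apply Finset.sum_eq_zero
      intro t _
      by_cases ht : t ∈ Subgroup.centralizer (P : Set G)
      · have ht2 : g * t⁻¹ ∉ Subgroup.centralizer (P : Set G) := by
          intro h'
          apply hg
          have := Subgroup.mul_mem _ h' ht
          rwa [inv_mul_cancel_right] at this
        rw [truncCent_of_not_mem P f _ ht2, mul_zero]
      · rw [truncCent_of_not_mem P f t ht, zero_mul]
    rw [h1, truncCent_of_not_mem P f g hg, sub_zero]
    exact memLocalIdeal_zero hM.2.1

/-- the truncation, read on a subgroup containing the centralizer, is an idempotent modulo the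
local ideal -/
theorem truncCent_sub_idem [Fintype G] {p : ℕ} [hp : Fact p.Prime] (hM : Cfsg.IsPModular p M)
    (P H : Subgroup G) [Fintype H] (hP : IsPGroup p P)
    (hCH : Subgroup.centralizer (P : Set G) ≤ H) (f : G → ℂ) (hfP : ConjInv P f)
    (hfloc : ∀ t, Cfsg.MemLocalRing M (f t))
    (hidem : ∀ g, Cfsg.MemLocalIdeal M (cnv f f g - f g)) (g : H) :
    Cfsg.MemLocalIdeal M (∑ t : H, truncCent P f (t : G) * truncCent P f ((g * t⁻¹ : H) : G) -
      truncCent P f (g : G)) := by
  have h1 := cnv_ext_right H (truncCent P f) (truncCent P f) (fun h : H => truncCent P f (h : G))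
    (fun _ => rfl) (fun x hx => truncCent_of_not_mem P f x (fun h => hx (hCH h))) g
  have h2 := truncCent_idem hM P hP f hfP hfloc hidem (g : G)
  rw [h1] at h2
  exact h2

section Vec

variable [Fintype G]

/-- the central character values of the truncation, through a Brauer central character -/
theorem classVec_truncCent_sub {p : ℕ} (hM : Cfsg.IsPModular p M)
    (P H : Subgroup G) [Fintype H] (f : G → ℂ) (hf : Cfsg.IsClassFunction G f)
    (hfloc : ∀ t, Cfsg.MemLocalRing M (f t)) (ξ : Cfsg.IrrCharacter H)
    (χ : Cfsg.IrrCharacter G)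
    (hχ : ∀ g, Cfsg.MemLocalIdeal M
      (Cfsg.brauerCentralChar P H (ξ : H → ℂ) g - Cfsg.centralChar (χ : G → ℂ) g)) :
    Cfsg.MemLocalIdeal M
      (classVec (fun h : H => truncCent P f (h : G)) ξ - classVec f χ) := by
  classical
  set μ := brauerWeight P H (ξ : H → ℂ) with hμ
  have e1 : classVec (fun h : H => truncCent P f (h : G)) ξ = ∑ t : G, f t * μ t := by
    rw [hμ, sum_mul_brauerWeight]
    unfold classVec
    apply Finset.sum_congr rfl
    intro t _
    beta_reduce
    by_cases hc : (t : G) ∈ Subgroup.centralizer (P : Set G)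
    · rw [if_pos hc, truncCent_of_mem P f _ hc]
    · rw [if_neg hc, truncCent_of_not_mem P f _ hc, zero_mul]
  have e3 : classVec (fun h : H => truncCent P f (h : G)) ξ - classVec f χ =
      ∑ t ∈ (Finset.univ : Finset G), f t * (μ t - (χ : G → ℂ) t / (χ : G → ℂ) 1) := by
    simp_rw [mul_sub]
    rw [Finset.sum_sub_distrib, e1]
    rfl
  rw [e3]
  apply sum_mem_of_class_sums (fun z => Cfsg.MemLocalIdeal M z) (memLocalIdeal_zero hM.2.1)
    (fun x y hx hy => MemLocalIdeal.add hM.2.1 hx hy) _ _ _ Finset.univ rfl
    (fun g _ x => Finset.mem_univ _)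
  intro g
  have h1 : ∑ x ∈ classFinset g, f x * (μ x - (χ : G → ℂ) x / (χ : G → ℂ) 1) =
      f g * (Cfsg.brauerCentralChar P H (ξ : H → ℂ) g - Cfsg.centralChar (χ : G → ℂ) g) := by
    have h2 : ∀ x ∈ classFinset g, f x * (μ x - (χ : G → ℂ) x / (χ : G → ℂ) 1) =
        f g * (μ x - (χ : G → ℂ) x / (χ : G → ℂ) 1) := by
      intro x hx
      rw [mem_classFinset] at hx
      obtain ⟨a, ha⟩ := isConj_iff.mp hx
      rw [← ha, hf]
    rw [Finset.sum_congr rfl h2, ← Finset.mul_sum, Finset.sum_sub_distrib, ← Finset.sum_div,
      sum_classFinset_char, hμ, sum_classFinset_brauerWeight]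
    unfold Cfsg.centralChar
    rfl
  rw [h1]
  exact MemLocalIdeal.mul_left hM.2.1 (hfloc g) (hχ g)

end Vec

end Cfsg.Agent.Helper6
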