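import Mathlib
import Cfsg.Prelude.Def_Characters
import Cfsg.Prelude.Def_Blocks
import Cfsg.Agent.Helper6.BrCorrB
import Cfsg.Agent.Helper6.FirstMain
import Cfsg.Agent.Helper6.MaximalPairDefect
import Cfsg.Agent.Helper6.PCoreChar

/-!
# The Brauer image of a block idempotent is the idempotent of the Brauer correspondent
-/

set_option autoImplicit false
set_option linter.style.haveILetI false

namespace Cfsg.Agent.Helper6

open scoped ComplexConjugate

universe u

variable {G : Type u} [Group G] {M : Ideal Cfsg.AlgInt}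

section Normal

variable [Finite G] {p : ℕ} [hp : Fact p.Prime]

/-- **the block idempotents of a group with a normal `p`-subgroup `Q` are supported, modulo the
local ideal, on the centralizer of `Q`** -/
theorem blockCoeff_memLocalIdeal_of_not_mem_centralizer (hM : Cfsg.IsPModular p M)
    (Q : Subgroup G) [hQn : Q.Normal] (hQ : IsPGroup p Q) (b : Set (Cfsg.IrrCharacter G))
    (hb : Cfsg.IsPBlock M b) (x : G) (hx : x ∉ Subgroup.centralizer (Q : Set G)) :
    Cfsg.MemLocalIdeal M (Cfsg.blockCoeff b x) := by
  classical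
  haveI : Fintype G := Fintype.ofFinite G
  haveI : Finite (Cfsg.IrrCharacter G) := irr_finite
  haveI : Fintype (Cfsg.IrrCharacter G) := Fintype.ofFinite _
  set f := Cfsg.blockCoeff b with hf
  have hfcf : Cfsg.IsClassFunction G f := blockCoeff_isClassFunction b
  have hfloc : ∀ g, Cfsg.MemLocalRing M (f g) := fun g => osima hM.2.1 b hb g
  have hnorm : ∀ n : G, n ∈ Subgroup.normalizer (Q : Set G) := by
    intro n
    rw [Subgroup.normalizer_eq_top]
    exact Subgroup.mem_top n
  set u := truncCent Q f with hu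
  have hucf : Cfsg.IsClassFunction G u := fun t n => truncCent_conj Q f hfcf t n (hnorm n)
  have huloc : ∀ t, Cfsg.MemLocalRing M (u t) := truncCent_memLocalRing hM.2.1 Q f hfloc
  have hfidem : ∀ g, Cfsg.MemLocalIdeal M (cnv f f g - f g) := by
    intro g
    have : cnv f f g = f g := blockCoeff_conv b g
    rw [this, sub_self]
    exact memLocalIdeal_zero hM.2.1
  have huidem : ∀ g, Cfsg.MemLocalIdeal M (∑ t, u t * u (g * t⁻¹) - u g) :=
    truncCent_idem hM Q hQ f (conjInv_of_isClassFunction Q f hfcf) hfloc hfidem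
  have hcv : ∀ ξ, Cfsg.MemLocalIdeal M (classVec u ξ - if ξ ∈ b then 1 else 0) := by
    intro ξ
    rw [← classVec_blockCoeff b ξ, ← hf, ← classVec_sub]
    unfold classVec
    apply sum_mem_of_class_sums (fun z => Cfsg.MemLocalIdeal M z) (memLocalIdeal_zero hM.2.1)
      (fun x y hx hy => MemLocalIdeal.add hM.2.1 hx hy) _ _ _ Finset.univ rfl
      (fun g _ x => Finset.mem_univ _)
    intro g
    have h1 : ∑ x ∈ classFinset g, (u x - f x) * ((ξ : G → ℂ) x / (ξ : G → ℂ) 1) =
        Cfsg.centralChar (ξ : G → ℂ) g * (u g - f g) := by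
      have h2 : ∀ x ∈ classFinset g, (u x - f x) * ((ξ : G → ℂ) x / (ξ : G → ℂ) 1) =
          (u g - f g) * ((ξ : G → ℂ) x / (ξ : G → ℂ) 1) := by
        intro x hx
        rw [mem_classFinset] at hx
        obtain ⟨a, ha⟩ := isConj_iff.mp hx
        rw [← ha, hfcf, hucf]
      rw [Finset.sum_congr rfl h2, ← Finset.mul_sum, ← Finset.sum_div, sum_classFinset_char]
      unfold Cfsg.centralChar
      ring
    rw [h1]
    by_cases hg : g ∈ Subgroup.centralizer (Q : Set G)
    · rw [hu, truncCent_of_mem Q f g hg, sub_self, mul_zero]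
      exact memLocalIdeal_zero hM.2.1
    · have h3 := centralChar_memLocalIdeal_of_not_mem_centralizer hM Q hQ ξ g hg
      have h4 : Cfsg.MemLocalRing M (u g - f g) := MemLocalRing.sub hM.2.1 (huloc g) (hfloc g)
      have := MemLocalIdeal.mul_left hM.2.1 h4 h3
      rwa [mul_comm] at this
  have key := sub_blockCoeff_memLocalIdeal hM.2.1 u hucf huloc huidem b hfloc hcv x
  rw [hu, truncCent_of_not_mem Q f x hx, zero_sub] at key
  have := MemLocalIdeal.neg key
  rwa [neg_neg] at this

/-- **blocks of a group with a normal `p`-subgroup `Q` whose idempotents agree modulo the local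
ideal on the centralizer of `Q` coincide** -/
theorem block_eq_of_blockCoeff_congr (hM : Cfsg.IsPModular p M)
    (Q : Subgroup G) [hQn : Q.Normal] (hQ : IsPGroup p Q) (b b' : Set (Cfsg.IrrCharacter G))
    (hb : Cfsg.IsPBlock M b) (hb' : Cfsg.IsPBlock M b')
    (h : ∀ x ∈ Subgroup.centralizer (Q : Set G),
      Cfsg.MemLocalIdeal M (Cfsg.blockCoeff b x - Cfsg.blockCoeff b' x)) : b = b' := by
  classical
  haveI : Fintype G := Fintype.ofFinite G
  haveI : Finite (Cfsg.IrrCharacter G) := irr_finite
  haveI : Fintype (Cfsg.IrrCharacter G) := Fintype.ofFinite _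
  set d : G → ℂ := fun x => Cfsg.blockCoeff b x - Cfsg.blockCoeff b' x with hd
  have hdcf : Cfsg.IsClassFunction G d := by
    intro g x
    simp only [hd]
    rw [blockCoeff_isClassFunction b g x, blockCoeff_isClassFunction b' g x]
  have hdI : ∀ x, Cfsg.MemLocalIdeal M (d x) := by
    intro x
    by_cases hx : x ∈ Subgroup.centralizer (Q : Set G)
    · exact h x hx
    · exact MemLocalIdeal.sub hM.2.1
        (blockCoeff_memLocalIdeal_of_not_mem_centralizer hM Q hQ b hb x hx)
        (blockCoeff_memLocalIdeal_of_not_mem_centralizer hM Q hQ b' hb' x hx)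
  obtain ⟨ξ, hξ⟩ := hb
  have hξb : ξ ∈ b := by rw [hξ]; exact mem_blockOf_self hM.2.1 ξ
  have h1 := classVec_memLocalIdeal hM.2.1 d hdcf hdI ξ
  simp only [hd] at h1
  rw [classVec_sub, classVec_blockCoeff, classVec_blockCoeff, if_pos hξb] at h1
  have hξb' : ξ ∈ b' := by
    by_contra hcon
    rw [if_neg hcon, sub_zero] at h1
    exact not_memLocalIdeal_one h1
  rw [hξ]
  exact (eq_blockOf_of_mem hM.2.1 b' hb' ξ hξb').symm

end Normal

section Main

variable [Finite G] {p : ℕ} [hp : Fact p.Prime]

/-- a block of the normalizer of `D` inducing a block with defect group `D` has defect group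
`D` -/
theorem isDefectGroup_of_induced_normalizer (hM : Cfsg.IsPModular p M) (D : Subgroup G)
    (hD : IsPGroup p D) (B : Set (Cfsg.IrrCharacter G)) (hB : Cfsg.IsPBlock M B)
    (hDB : Cfsg.IsDefectGroup p M B D)
    (b : Set (Cfsg.IrrCharacter (Subgroup.normalizer (D : Set G))))
    (hind : Cfsg.IsInducedBlock M (Subgroup.normalizer (D : Set G)) b B) :
    Cfsg.IsDefectGroup p M b (D.subgroupOf (Subgroup.normalizer (D : Set G))) := by
  classical
  have hDN : D ≤ Subgroup.normalizer (D : Set G) := Subgroup.le_normalizer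
  have hb := hind.1
  obtain ⟨l, hl⟩ := exists_defectClass hM.2.1 _ hb
  obtain ⟨T⟩ : Nonempty (Sylow p (Subgroup.centralizer
    ({l} : Set (Subgroup.normalizer (D : Set G))))) := inferInstance
  have hDb : Cfsg.IsDefectGroup p M b
      ((T : Subgroup _).map (Subgroup.centralizer ({l} : Set _)).subtype) := ⟨l, hl, T, rfl⟩
  haveI : (D.subgroupOf (Subgroup.normalizer (D : Set G))).Normal :=
    Subgroup.normal_in_normalizer
  have hle1 := normal_pSubgroup_le_defectGroup hM (D.subgroupOf (Subgroup.normalizer (D : Set G)))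
    hD.comap_subtype _ hb _ hDb
  obtain ⟨E, hE, hle2⟩ := exists_defectGroup_ge_of_induced hM _ _ _ hind _ hDb
  have hcE := card_defectGroup hM.2.1 p hM.2.2 B hB E hE
  have hcD := card_defectGroup hM.2.1 p hM.2.2 B hB D hDB
  have hc1 : Nat.card ((T : Subgroup _).map (Subgroup.centralizer ({l} : Set _)).subtype) ≤
      Nat.card (D.subgroupOf (Subgroup.normalizer (D : Set G))) := by
    rw [Nat.card_congr (Subgroup.subgroupOfEquivOfLe hDN).toEquiv, hcD, ← hcE,
      ← Subgroup.card_subtype (Subgroup.normalizer (D : Set G))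
        ((T : Subgroup _).map (Subgroup.centralizer ({l} : Set _)).subtype)]
    exact Nat.le_of_dvd Nat.card_pos (Subgroup.card_dvd_of_le hle2)
  have heq := Subgroup.eq_of_le_of_card_ge hle1 hc1
  exact heq ▸ hDb

/-- **the Brauer image at `D` of the idempotent of a block with defect group `D` is the idempotent
of its Brauer correspondent in the normalizer of `D`** -/
theorem blockCoeff_sub_correspondent (hM : Cfsg.IsPModular p M) (D : Subgroup G)
    (hD : IsPGroup p D) (B : Set (Cfsg.IrrCharacter G)) (hB : Cfsg.IsPBlock M B)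
    (hDB : Cfsg.IsDefectGroup p M B D)
    (b : Set (Cfsg.IrrCharacter (Subgroup.normalizer (D : Set G))))
    (hDb : Cfsg.IsDefectGroup p M b (D.subgroupOf (Subgroup.normalizer (D : Set G))))
    (hind : Cfsg.IsInducedBlock M (Subgroup.normalizer (D : Set G)) b B)
    (x : Subgroup.normalizer (D : Set G))
    (hx : (x : G) ∈ Subgroup.centralizer (D : Set G)) :
    Cfsg.MemLocalIdeal M (Cfsg.blockCoeff B (x : G) - Cfsg.blockCoeff b x) := by
  classical
  haveI : Fintype G := Fintype.ofFinite G
  haveI : Fintype (Subgroup.normalizer (D : Set G)) := Fintype.ofFinite _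
  haveI : Finite (Cfsg.IrrCharacter G) := irr_finite
  haveI : Fintype (Cfsg.IrrCharacter G) := Fintype.ofFinite _
  haveI : Finite (Cfsg.IrrCharacter (Subgroup.normalizer (D : Set G))) := irr_finite
  haveI : Fintype (Cfsg.IrrCharacter (Subgroup.normalizer (D : Set G))) := Fintype.ofFinite _
  have hDN : D ≤ Subgroup.normalizer (D : Set G) := Subgroup.le_normalizer
  have hCN : Subgroup.centralizer (D : Set G) ≤ Subgroup.normalizer (D : Set G) :=
    Subgroup.centralizer_le_normalizer _
  have hb := hind.1
  set f := Cfsg.blockCoeff B with hf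
  have hfcf : Cfsg.IsClassFunction G f := blockCoeff_isClassFunction B
  have hfloc : ∀ g, Cfsg.MemLocalRing M (f g) := fun g => osima hM.2.1 B hB g
  have hfidem : ∀ g, Cfsg.MemLocalIdeal M (cnv f f g - f g) := by
    intro g
    have : cnv f f g = f g := blockCoeff_conv B g
    rw [this, sub_self]
    exact memLocalIdeal_zero hM.2.1
  set u : Subgroup.normalizer (D : Set G) → ℂ := fun h => truncCent D f (h : G) with hu
  have hucf : Cfsg.IsClassFunction (Subgroup.normalizer (D : Set G)) u := by
    intro t n
    exact truncCent_conj D f hfcf (t : G) (n : G) n.2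
  have huloc : ∀ t, Cfsg.MemLocalRing M (u t) :=
    fun t => truncCent_memLocalRing hM.2.1 D f hfloc _
  have huidem : ∀ g, Cfsg.MemLocalIdeal M (∑ t, u t * u (g * t⁻¹) - u g) :=
    truncCent_sub_idem hM D _ hD hCN f (conjInv_of_isClassFunction D f hfcf) hfloc hfidem
  have hbloc : ∀ g, Cfsg.MemLocalRing M (Cfsg.blockCoeff b g) := fun g => osima hM.2.1 b hb g
  have hcv : ∀ ξ, Cfsg.MemLocalIdeal M (classVec u ξ - if ξ ∈ b then 1 else 0) := by
    intro ξ
    obtain ⟨χ, hχ⟩ := exists_irr_brauerCentralChar hM D _ hD hCN le_rfl ξ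
    have h1 := classVec_truncCent_sub hM D _ f hfcf hfloc ξ χ hχ
    rw [hf, classVec_blockCoeff] at h1
    have hind' := isInducedBlock_of_brauer hM D _ hD hDN le_rfl ξ χ hχ
    have hiff : χ ∈ B ↔ ξ ∈ b := by
      constructor
      · intro hχB
        have e := eq_blockOf_of_mem hM.2.1 B hB χ hχB
        rw [← e] at hind'
        have hDb' := isDefectGroup_of_induced_normalizer hM D hD B hB hDB _ hind'
        have := firstMain_ii_unique hM D hD B _ b hDb' hDb hind' hind
        rw [← this]
        exact mem_blockOf_self hM.2.1 ξ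
      · intro hξb
        have e := eq_blockOf_of_mem hM.2.1 b hb ξ hξb
        rw [← e] at hind'
        have := isInducedBlock_unique hM.2.1 _ b _ _ hind' hind
        rw [← this]
        exact mem_blockOf_self hM.2.1 χ
    by_cases hξb : ξ ∈ b
    · rw [if_pos hξb]
      rw [if_pos (hiff.mpr hξb)] at h1
      exact h1
    · rw [if_neg hξb]
      rw [if_neg (fun h => hξb (hiff.mp h))] at h1
      exact h1
  have key := sub_blockCoeff_memLocalIdeal hM.2.1 u hucf huloc huidem b hbloc hcv x
  simp only [hu] at key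
  rw [truncCent_of_mem D f _ hx] at key
  exact key

end Main

end Cfsg.Agent.Helper6
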