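import Mathlib
import Cfsg.Prelude.Def_Characters
import Cfsg.Prelude.Def_Blocks
import Cfsg.Prelude.Def_BrauerPairs
import Cfsg.Agent.Helper6.BrCorrC
import Cfsg.Agent.Helper6.CentDefect
import Cfsg.Agent.Helper6.LocalTransport

/-!
# The Brauer correspondence over a subgroup containing the normalizer of the defect group
-/

set_option autoImplicit false
set_option linter.style.haveILetI false

namespace Cfsg.Agent.Helper6

open scoped ComplexConjugate

universe u

variable {G : Type u} [Group G] {M : Ideal Cfsg.AlgInt}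

/-- the normalizer of `P` computed inside a subgroup `H ⊇ N_G(P)` is the normalizer in `G` -/
noncomputable def normSubEquiv (P H : Subgroup G) (hH : Subgroup.normalizer (P : Set G) ≤ H) :
    Subgroup.normalizer ((P.subgroupOf H : Subgroup H) : Set H) ≃*
      Subgroup.normalizer (P : Set G) :=
  (MulEquiv.subgroupCongr
    (Subgroup.subgroupOf_normalizer_eq (Subgroup.le_normalizer.trans hH)).symm).trans
    (Subgroup.subgroupOfEquivOfLe hH)

theorem coe_normSubEquiv (P H : Subgroup G) (hH : Subgroup.normalizer (P : Set G) ≤ H)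
    (n : Subgroup.normalizer ((P.subgroupOf H : Subgroup H) : Set H)) :
    ((normSubEquiv P H hH n : Subgroup.normalizer (P : Set G)) : G) = ((n : H) : G) := rfl

theorem coe_normSubEquiv_symm (P H : Subgroup G) (hH : Subgroup.normalizer (P : Set G) ≤ H)
    (m : Subgroup.normalizer (P : Set G)) :
    ((((normSubEquiv P H hH).symm m :
      Subgroup.normalizer ((P.subgroupOf H : Subgroup H) : Set H)) : H) : G) = (m : G) := rfl

theorem comap_normSubEquiv (P H : Subgroup G) (hH : Subgroup.normalizer (P : Set G) ≤ H) :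
    (P.subgroupOf (Subgroup.normalizer (P : Set G))).comap (normSubEquiv P H hH).toMonoidHom =
      (P.subgroupOf H).subgroupOf (Subgroup.normalizer ((P.subgroupOf H : Subgroup H) : Set H)) := by
  ext n
  rw [Subgroup.mem_comap, Subgroup.mem_subgroupOf, Subgroup.mem_subgroupOf,
    Subgroup.mem_subgroupOf]
  rfl

theorem comap_normSubEquiv_symm (P H : Subgroup G) (hH : Subgroup.normalizer (P : Set G) ≤ H) :
    ((P.subgroupOf H).subgroupOf
      (Subgroup.normalizer ((P.subgroupOf H : Subgroup H) : Set H))).comap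
        (normSubEquiv P H hH).symm.toMonoidHom =
      P.subgroupOf (Subgroup.normalizer (P : Set G)) := by
  ext m
  rw [Subgroup.mem_comap, Subgroup.mem_subgroupOf, Subgroup.mem_subgroupOf,
    Subgroup.mem_subgroupOf]
  rfl

theorem isPBlock_image_irrComp {K K' : Type u} [Group K] [Group K'] (φ : K ≃* K')
    (f : Set (Cfsg.IrrCharacter K')) (hf : Cfsg.IsPBlock M f) :
    Cfsg.IsPBlock M (irrComp φ '' f) := by
  obtain ⟨ζ, rfl⟩ := hf
  exact ⟨irrComp φ ζ, image_irrComp_blockOf φ ζ⟩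

theorem image_irrComp_symm_cancel {K K' : Type u} [Group K] [Group K'] (φ : K ≃* K')
    (f : Set (Cfsg.IrrCharacter K)) : irrComp φ '' (irrComp φ.symm '' f) = f := by
  ext θ
  constructor
  · rintro ⟨_, ⟨χ, hχ, rfl⟩, rfl⟩
    rw [irrComp_symm_cancel]
    exact hχ
  · intro hθ
    exact ⟨irrComp φ.symm θ, ⟨θ, hθ, rfl⟩, irrComp_symm_cancel φ θ⟩

section Main

variable [Finite G] {p : ℕ} [hp : Fact p.Prime]

omit [Finite G] hp in
/-- membership facts for elements of `C_G(P)` -/
theorem mem_normalizer_subgroupOf_of_mem_centralizer (P H : Subgroup G)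
    (hH : Subgroup.normalizer (P : Set G) ≤ H) (x : G)
    (hx : x ∈ Subgroup.centralizer (P : Set G)) :
    ∃ hxH : x ∈ H, (⟨x, hxH⟩ : H) ∈ Subgroup.normalizer ((P.subgroupOf H : Subgroup H) : Set H) ∧
      (⟨x, hxH⟩ : H) ∈ Subgroup.centralizer ((P.subgroupOf H : Subgroup H) : Set H) := by
  have hxN : x ∈ Subgroup.normalizer (P : Set G) := Subgroup.centralizer_le_normalizer _ hx
  refine ⟨hH hxN, ?_, ?_⟩
  · rw [← Subgroup.subgroupOf_normalizer_eq (Subgroup.le_normalizer.trans hH),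
      Subgroup.mem_subgroupOf]
    exact hxN
  · rw [Subgroup.mem_centralizer_iff]
    intro h hh
    apply Subtype.ext
    have hh' : (h : G) ∈ P := Subgroup.mem_subgroupOf.mp hh
    exact Subgroup.mem_centralizer_iff.mp hx (h : G) hh'

/-- **the comparison of the two Brauer correspondences** -/
theorem agree_iff_correspondents (hM : Cfsg.IsPModular p M) (P H : Subgroup G)
    (hP : IsPGroup p P) (hH : Subgroup.normalizer (P : Set G) ≤ H)
    (B : Set (Cfsg.IrrCharacter G)) (hB : Cfsg.IsPBlock M B)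
    (hDB : Cfsg.IsDefectGroup p M B P)
    (b₁ : Set (Cfsg.IrrCharacter (Subgroup.normalizer (P : Set G))))
    (hDb₁ : Cfsg.IsDefectGroup p M b₁ (P.subgroupOf (Subgroup.normalizer (P : Set G))))
    (hind₁ : Cfsg.IsInducedBlock M (Subgroup.normalizer (P : Set G)) b₁ B)
    (c : Set (Cfsg.IrrCharacter H)) (hc : Cfsg.IsPBlock M c)
    (hDc : Cfsg.IsDefectGroup p M c (P.subgroupOf H))
    (b₂ : Set (Cfsg.IrrCharacter
      (Subgroup.normalizer ((P.subgroupOf H : Subgroup H) : Set H))))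
    (hDb₂ : Cfsg.IsDefectGroup p M b₂ ((P.subgroupOf H).subgroupOf
      (Subgroup.normalizer ((P.subgroupOf H : Subgroup H) : Set H))))
    (hind₂ : Cfsg.IsInducedBlock M
      (Subgroup.normalizer ((P.subgroupOf H : Subgroup H) : Set H)) b₂ c) :
    (∀ x : G, x ∈ Subgroup.centralizer (P : Set G) →
      Cfsg.MemLocalIdeal M (Cfsg.blockCoeff B x - Cfsg.subgroupBlockCoeff H c x)) ↔
      b₂ = irrComp (normSubEquiv P H hH) '' b₁ := by
  classical
  have hPH : P ≤ H := Subgroup.le_normalizer.trans hH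
  have hPH' : IsPGroup p (P.subgroupOf H) := hP.comap_subtype
  set φ := normSubEquiv P H hH with hφ
  -- the two congruences
  have hG : ∀ (x : G) (hx : x ∈ Subgroup.centralizer (P : Set G)),
      Cfsg.MemLocalIdeal M (Cfsg.blockCoeff B x -
        Cfsg.blockCoeff b₁ ⟨x, Subgroup.centralizer_le_normalizer _ hx⟩) := by
    intro x hx
    exact blockCoeff_sub_correspondent hM P hP B hB hDB b₁ hDb₁ hind₁
      ⟨x, Subgroup.centralizer_le_normalizer _ hx⟩ hx
  have hHc : ∀ (n : Subgroup.normalizer ((P.subgroupOf H : Subgroup H) : Set H)),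
      (n : H) ∈ Subgroup.centralizer ((P.subgroupOf H : Subgroup H) : Set H) →
      Cfsg.MemLocalIdeal M (Cfsg.blockCoeff c (n : H) - Cfsg.blockCoeff b₂ n) := by
    intro n hn
    exact blockCoeff_sub_correspondent hM (P.subgroupOf H) hPH' c hc hDc b₂ hDb₂ hind₂ n hn
  have htr : ∀ n, Cfsg.blockCoeff (irrComp φ '' b₁) n = Cfsg.blockCoeff b₁ (φ n) :=
    fun n => blockCoeff_image_irrComp φ b₁ n
  constructor
  · intro hag
    haveI : ((P.subgroupOf H).subgroupOf
        (Subgroup.normalizer ((P.subgroupOf H : Subgroup H) : Set H))).Normal :=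
      Subgroup.normal_in_normalizer
    have hQ : IsPGroup p ((P.subgroupOf H).subgroupOf
        (Subgroup.normalizer ((P.subgroupOf H : Subgroup H) : Set H))) := hPH'.comap_subtype
    apply block_eq_of_blockCoeff_congr hM _ hQ b₂ _ hind₂.1
      (isPBlock_image_irrComp φ b₁ hind₁.1)
    intro n hn
    -- `n` centralizes `P`
    have hnG : ((n : H) : G) ∈ Subgroup.centralizer (P : Set G) := by
      rw [Subgroup.mem_centralizer_iff]
      intro g hg
      have hgH : (⟨g, hPH hg⟩ : H) ∈ P.subgroupOf H := Subgroup.mem_subgroupOf.mpr hg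
      have hgN : (⟨g, hPH hg⟩ : H) ∈
          Subgroup.normalizer ((P.subgroupOf H : Subgroup H) : Set H) :=
        Subgroup.le_normalizer hgH
      have hgQ : (⟨⟨g, hPH hg⟩, hgN⟩ :
          Subgroup.normalizer ((P.subgroupOf H : Subgroup H) : Set H)) ∈
          (P.subgroupOf H).subgroupOf
            (Subgroup.normalizer ((P.subgroupOf H : Subgroup H) : Set H)) :=
        Subgroup.mem_subgroupOf.mpr hgH
      have := Subgroup.mem_centralizer_iff.mp hn _ hgQ
      exact congrArg (fun z : Subgroup.normalizer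
        ((P.subgroupOf H : Subgroup H) : Set H) => ((z : H) : G)) this
    have hnH : (n : H) ∈ Subgroup.centralizer ((P.subgroupOf H : Subgroup H) : Set H) := by
      rw [Subgroup.mem_centralizer_iff]
      intro h hh
      apply Subtype.ext
      have hh' : (h : G) ∈ P := Subgroup.mem_subgroupOf.mp hh
      exact Subgroup.mem_centralizer_iff.mp hnG (h : G) hh'
    have h1 := hHc n hnH
    have h2 := hag ((n : H) : G) hnG
    rw [subgroupBlockCoeff_of_mem H c _ (n : H).2] at h2
    have h3 := hG ((n : H) : G) hnG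
    rw [htr n]
    have e : (⟨((n : H) : G), Subgroup.centralizer_le_normalizer _ hnG⟩ :
        Subgroup.normalizer (P : Set G)) = φ n := Subtype.ext rfl
    rw [e] at h3
    -- b₂ n ≡ c n ≡ B n ≡ b₁ (φ n)
    have h4 := MemLocalIdeal.sub hM.2.1 (MemLocalIdeal.sub hM.2.1 h3 h2) h1
    convert h4 using 1
    ring
  · intro hb x hx
    obtain ⟨hxH, hxN, hxC⟩ := mem_normalizer_subgroupOf_of_mem_centralizer P H hH x hx
    rw [subgroupBlockCoeff_of_mem H c x hxH]
    have h1 := hHc ⟨⟨x, hxH⟩, hxN⟩ hxC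
    have h3 := hG x hx
    rw [hb, htr] at h1
    have e : (⟨x, Subgroup.centralizer_le_normalizer _ hx⟩ :
        Subgroup.normalizer (P : Set G)) = φ ⟨⟨x, hxH⟩, hxN⟩ := Subtype.ext rfl
    rw [e] at h3
    have h4 := MemLocalIdeal.sub hM.2.1 h3 h1
    convert h4 using 1
    ring

/-- **the Brauer correspondence over `H ⊇ N_G(P)`, from `G` to `H`** -/
theorem brauer_correspondence_down (hM : Cfsg.IsPModular p M) (P H : Subgroup G)
    (hP : IsPGroup p P) (hH : Subgroup.normalizer (P : Set G) ≤ H)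
    (B : Set (Cfsg.IrrCharacter G)) (hB : Cfsg.IsPBlock M B)
    (hDB : Cfsg.IsDefectGroup p M B P) :
    ∃! c : Set (Cfsg.IrrCharacter H), Cfsg.IsPBlock M c ∧
      Cfsg.IsDefectGroup p M c (P.subgroupOf H) ∧
      ∀ x : G, x ∈ Subgroup.centralizer (P : Set G) →
        Cfsg.MemLocalIdeal M (Cfsg.blockCoeff B x - Cfsg.subgroupBlockCoeff H c x) := by
  classical
  have hPH' : IsPGroup p (P.subgroupOf H) := hP.comap_subtype
  obtain ⟨b₁, hb₁, hDb₁, hind₁⟩ := firstMain_ii_exists hM P hP B hB hDB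
  set φ := normSubEquiv P H hH with hφ
  set b₂ := irrComp φ '' b₁ with hb₂def
  have hb₂ : Cfsg.IsPBlock M b₂ := isPBlock_image_irrComp φ b₁ hb₁
  have hDb₂ : Cfsg.IsDefectGroup p M b₂ ((P.subgroupOf H).subgroupOf
      (Subgroup.normalizer ((P.subgroupOf H : Subgroup H) : Set H))) := by
    have := isDefectGroup_comap_mulEquiv (M := M) φ b₁ _ hDb₁
    rwa [hφ, comap_normSubEquiv] at this
  obtain ⟨c, hc, hDc, hind₂⟩ := firstMain_i hM (P.subgroupOf H) hPH' b₂ hb₂ hDb₂
  refine ⟨c, ⟨hc, hDc, ?_⟩, ?_⟩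
  · exact (agree_iff_correspondents hM P H hP hH B hB hDB b₁ hDb₁ hind₁ c hc hDc b₂ hDb₂
      hind₂).mpr rfl
  · rintro c' ⟨hc', hDc', hag'⟩
    obtain ⟨b₂', hb₂', hDb₂', hind₂'⟩ := firstMain_ii_exists hM (P.subgroupOf H) hPH' c' hc' hDc'
    have h1 := (agree_iff_correspondents hM P H hP hH B hB hDB b₁ hDb₁ hind₁ c' hc' hDc' b₂'
      hDb₂' hind₂').mp hag'
    rw [← hφ, ← hb₂def] at h1
    rw [h1] at hind₂'
    exact isInducedBlock_unique hM.2.1 _ b₂ _ _ hind₂' hind₂

/-- **the Brauer correspondence over `H ⊇ N_G(P)`, from `H` to `G`** -/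
theorem brauer_correspondence_up (hM : Cfsg.IsPModular p M) (P H : Subgroup G)
    (hP : IsPGroup p P) (hH : Subgroup.normalizer (P : Set G) ≤ H)
    (c : Set (Cfsg.IrrCharacter H)) (hc : Cfsg.IsPBlock M c)
    (hDc : Cfsg.IsDefectGroup p M c (P.subgroupOf H)) :
    ∃! B : Set (Cfsg.IrrCharacter G), Cfsg.IsPBlock M B ∧ Cfsg.IsDefectGroup p M B P ∧
      ∀ x : G, x ∈ Subgroup.centralizer (P : Set G) →
        Cfsg.MemLocalIdeal M (Cfsg.blockCoeff B x - Cfsg.subgroupBlockCoeff H c x) := by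
  classical
  have hPH' : IsPGroup p (P.subgroupOf H) := hP.comap_subtype
  obtain ⟨b₂, hb₂, hDb₂, hind₂⟩ := firstMain_ii_exists hM (P.subgroupOf H) hPH' c hc hDc
  set φ := normSubEquiv P H hH with hφ
  set b₁ := irrComp φ.symm '' b₂ with hb₁def
  have hb₁ : Cfsg.IsPBlock M b₁ := isPBlock_image_irrComp φ.symm b₂ hb₂
  have hDb₁ : Cfsg.IsDefectGroup p M b₁ (P.subgroupOf (Subgroup.normalizer (P : Set G))) := by
    have := isDefectGroup_comap_mulEquiv (M := M) φ.symm b₂ _ hDb₂
    rwa [hφ, comap_normSubEquiv_symm] at this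
  have hb₂eq : b₂ = irrComp φ '' b₁ := (image_irrComp_symm_cancel φ b₂).symm
  obtain ⟨B, hB, hDB, hind₁⟩ := firstMain_i hM P hP b₁ hb₁ hDb₁
  refine ⟨B, ⟨hB, hDB, ?_⟩, ?_⟩
  · exact (agree_iff_correspondents hM P H hP hH B hB hDB b₁ hDb₁ hind₁ c hc hDc b₂ hDb₂
      hind₂).mpr hb₂eq
  · rintro B' ⟨hB', hDB', hag'⟩
    obtain ⟨b₁', hb₁', hDb₁', hind₁'⟩ := firstMain_ii_exists hM P hP B' hB' hDB'
    have h1 := (agree_iff_correspondents hM P H hP hH B' hB' hDB' b₁' hDb₁' hind₁' c hc hDc b₂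
      hDb₂ hind₂).mp hag'
    rw [← hφ, hb₂eq] at h1
    have h2 : b₁ = b₁' := Set.image_injective.mpr (irrComp_injective φ) h1
    rw [← h2] at hind₁'
    exact isInducedBlock_unique hM.2.1 _ b₁ _ _ hind₁' hind₁

end Main

end Cfsg.Agent.Helper6
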