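import Mathlib
import Cfsg.Agent.Helper6.GaloisSum

/-!
# Galois conjugates of integer combinations of roots of unity

For `n`-th roots of unity `μ i`, integer weights `w i` and `k` a unit modulo `n`, the weighted
power sums `∑ w i * μ i ^ k` are the Galois conjugates of `∑ w i * μ i`.  Their product is an
integer, they vanish simultaneously, and (AM-GM) the sum of their squared norms is at least
`φ(n)` when they do not vanish.
-/

set_option autoImplicit false
set_option linter.style.haveILetI false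

namespace Cfsg.Agent.Helper6.Maj

open Polynomial

section

variable (n : ℕ) [NeZero n]

theorem galois_core_int {L : Type*} [Field L] [Algebra ℚ L] [IsCyclotomicExtension {n} ℚ L]
    {ι : Type*} [Fintype ι] (w : ι → ℤ) (μ : ι → ℂ) (hμ : ∀ i, μ i ^ n = 1) :
    ∃ (φ : L →ₐ[ℚ] ℂ) (α : L), IsIntegral ℤ α ∧
      ∀ σ : Gal(L/ℚ), φ (σ α) = ∑ i, (w i : ℂ) * μ i ^
        ((IsCyclotomicExtension.autEquivPow L (cyclotomic.irreducible_rat (NeZero.pos n)) σ :
          (ZMod n)ˣ) : ZMod n).val := by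
  classical
  haveI : FiniteDimensional ℚ L := IsCyclotomicExtension.finiteDimensional {n} ℚ L
  haveI : Algebra.IsAlgebraic ℚ L := Algebra.IsAlgebraic.of_finite ℚ L
  let φ : L →ₐ[ℚ] ℂ := IsAlgClosed.lift
  have hφinj : Function.Injective φ := φ.toRingHom.injective
  set ζL := IsCyclotomicExtension.zeta n ℚ L with hζL
  have hζLprim : IsPrimitiveRoot ζL n := IsCyclotomicExtension.zeta_spec n ℚ L
  have hζ : IsPrimitiveRoot (φ ζL) n := hζLprim.map_of_injective hφinj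
  have hex : ∀ i, ∃ a : ℕ, (φ ζL) ^ a = μ i := by
    intro i
    obtain ⟨a, _, ha⟩ := hζ.eq_pow_of_pow_eq_one (hμ i)
    exact ⟨a, ha⟩
  choose a ha using hex
  refine ⟨φ, ∑ i, (w i : L) * ζL ^ a i, ?_, ?_⟩
  · apply IsIntegral.sum
    intro i _
    apply IsIntegral.mul
    · have : (w i : L) = algebraMap ℤ L (w i) := by simp
      rw [this]
      exact isIntegral_algebraMap
    · exact (hζLprim.isIntegral (NeZero.pos n)).pow _
  · intro σ
    have hspec := hζLprim.autToPow_spec ℚ σ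
    rw [map_sum, map_sum]
    apply Finset.sum_congr rfl
    intro i _
    rw [map_mul, map_mul, map_intCast, map_intCast]
    congr 1
    rw [map_pow, map_pow, ← ha i, ← pow_mul, mul_comm, pow_mul]
    congr 1
    rw [IsCyclotomicExtension.autEquivPow_apply, ← map_pow]
    congr 1
    exact hspec.symm

theorem wpowSum_facts_aux {L : Type*} [Field L] [Algebra ℚ L] [IsCyclotomicExtension {n} ℚ L]
    {ι : Type*} [Fintype ι] (w : ι → ℤ) (μ : ι → ℂ) (hμ : ∀ i, μ i ^ n = 1) :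
    (∃ m : ℤ, ∏ k : (ZMod n)ˣ, (∑ i, (w i : ℂ) * μ i ^ (k : ZMod n).val) = m) ∧
    ((∑ i, (w i : ℂ) * μ i) ≠ 0 →
      ∀ k : (ZMod n)ˣ, ∑ i, (w i : ℂ) * μ i ^ (k : ZMod n).val ≠ 0) := by
  classical
  haveI : FiniteDimensional ℚ L := IsCyclotomicExtension.finiteDimensional {n} ℚ L
  haveI : IsGalois ℚ L := IsCyclotomicExtension.isGalois {n} ℚ L
  obtain ⟨φ, α, hαint, hσ⟩ := galois_core_int n (L := L) w μ hμ
  have hφinj : Function.Injective φ := φ.toRingHom.injective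
  set e := IsCyclotomicExtension.autEquivPow L (cyclotomic.irreducible_rat (NeZero.pos n)) with he
  have hone : φ α = ∑ i, (w i : ℂ) * μ i := by
    have h1 := hσ 1
    rw [map_one] at h1
    rw [AlgEquiv.one_apply] at h1
    rw [h1]
    apply Finset.sum_congr rfl
    intro i _
    rw [Units.val_one, pow_one_val_eq n (hμ i)]
  have hk : ∀ k : (ZMod n)ˣ, ∑ i, (w i : ℂ) * μ i ^ (k : ZMod n).val = φ ((e.symm k) α) := by
    intro k
    rw [hσ (e.symm k), MulEquiv.apply_symm_apply]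
  refine ⟨?_, ?_⟩
  · have hnorm := Algebra.norm_eq_prod_automorphisms ℚ α
    have hprod : ∏ k : (ZMod n)ˣ, (∑ i, (w i : ℂ) * μ i ^ (k : ZMod n).val) =
        φ (∏ σ : Gal(L/ℚ), σ α) := by
      rw [map_prod]
      symm
      apply Fintype.prod_equiv e.toEquiv
      intro σ
      rw [hσ σ]
      rfl
    rw [hprod, ← hnorm, AlgHom.commutes]
    have hint : IsIntegral ℤ (Algebra.norm ℚ α) := Algebra.isIntegral_norm ℚ hαint
    obtain ⟨m, hm⟩ := IsIntegrallyClosed.isIntegral_iff.mp hint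
    refine ⟨m, ?_⟩
    rw [← hm]
    simp
  · intro hne k hzero
    rw [hk k] at hzero
    have h1 : (e.symm k) α = 0 := hφinj (by rw [hzero, map_zero])
    have h2 : α = 0 := by
      have := congrArg (e.symm k).symm h1
      rwa [AlgEquiv.symm_apply_apply, map_zero] at this
    apply hne
    rw [← hone, h2, map_zero]

/-- Facts on Galois conjugates of integer combinations of roots of unity, over `ℂ`. -/
theorem wpowSum_facts {ι : Type*} [Fintype ι] (w : ι → ℤ) (μ : ι → ℂ) (hμ : ∀ i, μ i ^ n = 1) :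
    (∃ m : ℤ, ∏ k : (ZMod n)ˣ, (∑ i, (w i : ℂ) * μ i ^ (k : ZMod n).val) = m) ∧
    ((∑ i, (w i : ℂ) * μ i) ≠ 0 →
      ∀ k : (ZMod n)ˣ, ∑ i, (w i : ℂ) * μ i ^ (k : ZMod n).val ≠ 0) :=
  @wpowSum_facts_aux n _ (CyclotomicField n ℚ) _ (CyclotomicField.algebra n ℚ)
    (CyclotomicField.isCyclotomicExtension n ℚ) ι _ w μ hμ

/-- AM-GM for the Galois conjugates: if `∑ w i * μ i ≠ 0` then the squared norms of the conjugate
weighted power sums add up to at least `φ(n)`. -/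
theorem sum_norm_sq_wpowSum_ge {ι : Type*} [Fintype ι] (w : ι → ℤ) (μ : ι → ℂ)
    (hμ : ∀ i, μ i ^ n = 1) (hne : (∑ i, (w i : ℂ) * μ i) ≠ 0) :
    (Fintype.card (ZMod n)ˣ : ℝ) ≤
      ∑ k : (ZMod n)ˣ, ‖∑ i, (w i : ℂ) * μ i ^ (k : ZMod n).val‖ ^ 2 := by
  classical
  obtain ⟨⟨m, hm⟩, hnz⟩ := wpowSum_facts n w μ hμ
  have hnz' := hnz hne
  set s : (ZMod n)ˣ → ℂ := fun k => ∑ i, (w i : ℂ) * μ i ^ (k : ZMod n).val with hs
  have hm0 : m ≠ 0 := by
    intro h0
    rw [h0, Int.cast_zero] at hm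
    obtain ⟨k, _, hk⟩ := Finset.prod_eq_zero_iff.mp hm
    exact hnz' k hk
  have hprod : (1 : ℝ) ≤ ∏ k : (ZMod n)ˣ, ‖s k‖ ^ 2 := by
    rw [Finset.prod_pow, ← norm_prod]
    change 1 ≤ ‖∏ k : (ZMod n)ˣ, (∑ i, (w i : ℂ) * μ i ^ (k : ZMod n).val)‖ ^ 2
    rw [hm, Complex.norm_intCast]
    have h1 : (1 : ℝ) ≤ |(m : ℝ)| := by
      have : (1 : ℤ) ≤ |m| := Int.one_le_abs hm0
      exact_mod_cast this
    nlinarith
  have hpos : ∀ k : (ZMod n)ˣ, 0 < ‖s k‖ ^ 2 := fun k => by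
    have : 0 < ‖s k‖ := norm_pos_iff.mpr (hnz' k)
    positivity
  have hlog : 0 ≤ ∑ k : (ZMod n)ˣ, Real.log (‖s k‖ ^ 2) := by
    rw [← Real.log_prod (fun k _ => (hpos k).ne')]
    exact Real.log_nonneg hprod
  have hle : ∑ k : (ZMod n)ˣ, Real.log (‖s k‖ ^ 2) ≤ ∑ k : (ZMod n)ˣ, (‖s k‖ ^ 2 - 1) :=
    Finset.sum_le_sum (fun k _ => Real.log_le_sub_one_of_pos (hpos k))
  rw [Finset.sum_sub_distrib, Finset.sum_const, Finset.card_univ, nsmul_eq_mul, mul_one] at hle
  linarith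

end

end Cfsg.Agent.Helper6.Maj
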