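import Mathlib
import Cfsg.Prelude.Def_Characters
import Cfsg.Prelude.Def_Blocks
import Cfsg.Agent.Helper6.HeightZeroInduced
import Cfsg.Agent.Helper6.NormalInd
import Cfsg.Agent.Helper6.CharCongr
import Cfsg.Agent.Helper6.Expansion

/-!
# The `b`-part of `c ↦ χ(x c)` on `C_G(x)` for `χ` of height zero (S4428)
-/

set_option autoImplicit false
set_option linter.style.haveILetI false

namespace Cfsg.Agent.Helper6

open Module
open scoped ComplexConjugate

universe u

variable {G : Type u} [Group G] {M : Ideal Cfsg.AlgInt}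

/-- pairing a class function with values in the local ideal against `ψ / ψ(1)` stays in the
local ideal -/
theorem sum_ideal_mul_div_mem [Fintype G] (hM : M.IsMaximal) (u : G → ℂ)
    (hu : Cfsg.IsClassFunction G u) (huloc : ∀ t, Cfsg.MemLocalIdeal M (u t))
    (ψ : Cfsg.IrrCharacter G) :
    Cfsg.MemLocalIdeal M (∑ t, u t * ((ψ : G → ℂ) t / (ψ : G → ℂ) 1)) := by
  classical
  apply sum_mem_of_class_sums (fun z => Cfsg.MemLocalIdeal M z) (memLocalIdeal_zero hM)
    (fun x y hx hy => MemLocalIdeal.add hM hx hy) _ _ _ Finset.univ rfl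
    (fun g _ x => Finset.mem_univ _)
  intro g
  have hψcf := IsCharacter.isClassFunction (IsIrrCharacter.isCharacter ψ.2)
  have h1 : ∑ x ∈ classFinset g, u x * ((ψ : G → ℂ) x / (ψ : G → ℂ) 1) =
      Cfsg.centralChar (ψ : G → ℂ) g * u g := by
    have h2 : ∀ x ∈ classFinset g, u x * ((ψ : G → ℂ) x / (ψ : G → ℂ) 1) =
        u g * ((ψ : G → ℂ) x / (ψ : G → ℂ) 1) := by
      intro x hx
      rw [mem_classFinset] at hx
      obtain ⟨a, ha⟩ := isConj_iff.mp hx
      rw [← ha, hu]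
    rw [Finset.sum_congr rfl h2, ← Finset.mul_sum, ← Finset.sum_div,
      sum_classFinset_classFunction _ hψcf, mul_comm]
    rfl
  rw [h1]
  exact MemLocalIdeal.mul_left hM
    (memLocalRing_of_isIntegral hM (isIntegral_centralChar ψ g)) (huloc g)

/-- the truncated pairing of a class function with a member of a block only sees the block
part -/
theorem trunc_pairing_blockPart [Fintype G] (hM : M.IsMaximal) (p : ℕ) [hp : Fact p.Prime]
    (hpM : (p : Cfsg.AlgInt) ∈ M) (b : Set (Cfsg.IrrCharacter G)) (hb : Cfsg.IsPBlock M b)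
    (ϑ : G → ℂ) (hϑ : Cfsg.IsClassFunction G ϑ) (ψ₀ : Cfsg.IrrCharacter G) (hψ₀ : ψ₀ ∈ b) :
    ∑ c : G, (if p ∣ orderOf c then (0 : ℂ) else ϑ c * conj ((ψ₀ : G → ℂ) c)) =
      ∑ c : G, (if p ∣ orderOf c then (0 : ℂ) else
        Cfsg.blockPart b ϑ c * conj ((ψ₀ : G → ℂ) c)) := by
  classical
  haveI : Finite (Cfsg.IrrCharacter G) := irr_finite
  haveI : Fintype (Cfsg.IrrCharacter G) := Fintype.ofFinite _
  have hexp := classFunction_expansion ϑ hϑ
  -- the pairing of `ψ` outside `b` with `ψ₀` vanishes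
  have hzero : ∀ ψ : Cfsg.IrrCharacter G, ψ ∉ b →
      ∑ c : G, (if p ∣ orderOf c then (0 : ℂ) else
        (ψ : G → ℂ) c * conj ((ψ₀ : G → ℂ) c)) = 0 := by
    intro ψ hψ
    have h0 := sum_pregular_eq_zero hM p hpM b hb ψ₀ ψ hψ₀ hψ
    have h1 := congrArg conj h0
    rw [map_sum, map_zero] at h1
    refine Eq.trans ?_ h1
    apply Finset.sum_congr rfl
    intro c _
    split_ifs
    · simp
    · rw [map_mul, Complex.conj_conj, mul_comm]
  have hL : ∑ c : G, (if p ∣ orderOf c then (0 : ℂ) else ϑ c * conj ((ψ₀ : G → ℂ) c)) =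
      ∑ ψ : Cfsg.IrrCharacter G, Cfsg.classInner ϑ (ψ : G → ℂ) *
        ∑ c : G, (if p ∣ orderOf c then (0 : ℂ) else
          (ψ : G → ℂ) c * conj ((ψ₀ : G → ℂ) c)) := by
    simp_rw [Finset.mul_sum]
    rw [Finset.sum_comm]
    apply Finset.sum_congr rfl
    intro c _
    by_cases hc : p ∣ orderOf c
    · simp only [if_pos hc, mul_zero, Finset.sum_const_zero]
    · simp only [if_neg hc]
      have h1 := congrFun hexp c
      rw [Finset.sum_apply] at h1
      simp only [Pi.smul_apply, smul_eq_mul] at h1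
      conv_lhs => rw [h1]
      rw [Finset.sum_mul]
      apply Finset.sum_congr rfl
      intro ψ _
      ring
  have hR : ∑ c : G, (if p ∣ orderOf c then (0 : ℂ) else
        Cfsg.blockPart b ϑ c * conj ((ψ₀ : G → ℂ) c)) =
      ∑ ψ : Cfsg.IrrCharacter G, (if ψ ∈ b then Cfsg.classInner ϑ (ψ : G → ℂ) *
        ∑ c : G, (if p ∣ orderOf c then (0 : ℂ) else
          (ψ : G → ℂ) c * conj ((ψ₀ : G → ℂ) c)) else 0) := by
    have h2 : ∀ ψ : Cfsg.IrrCharacter G, (if ψ ∈ b then Cfsg.classInner ϑ (ψ : G → ℂ) *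
        ∑ c : G, (if p ∣ orderOf c then (0 : ℂ) else
          (ψ : G → ℂ) c * conj ((ψ₀ : G → ℂ) c)) else 0) =
        ∑ c : G, (if ψ ∈ b then Cfsg.classInner ϑ (ψ : G → ℂ) *
          (if p ∣ orderOf c then (0 : ℂ) else
            (ψ : G → ℂ) c * conj ((ψ₀ : G → ℂ) c)) else 0) := by
      intro ψ
      by_cases hψ : ψ ∈ b
      · simp only [if_pos hψ, Finset.mul_sum]
      · simp only [if_neg hψ, Finset.sum_const_zero]
    rw [Finset.sum_congr rfl (fun ψ _ => h2 ψ), Finset.sum_comm]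
    apply Finset.sum_congr rfl
    intro c _
    by_cases hc : p ∣ orderOf c
    · simp only [if_pos hc, mul_zero, ite_self, Finset.sum_const_zero]
    · simp only [if_neg hc]
      rw [blockPart_apply, finsum_mem_eq_sum_ite, Finset.sum_mul]
      apply Finset.sum_congr rfl
      intro ψ _
      by_cases hψ : ψ ∈ b
      · rw [if_pos hψ, if_pos hψ]
        ring
      · rw [if_neg hψ, if_neg hψ, zero_mul]
  rw [hL, hR]
  apply Finset.sum_congr rfl
  intro ψ _
  by_cases hψ : ψ ∈ b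
  · rw [if_pos hψ]
  · rw [if_neg hψ, hzero ψ hψ, mul_zero]


/-- general form: `C` any subgroup centralised by the `p`-element `x` -/
theorem section_blockPart_ne_zero' [Fintype G] (p : ℕ) [hp : Fact p.Prime]
    (hM : Cfsg.IsPModular p M) (B : Set (Cfsg.IrrCharacter G)) (χ : Cfsg.IrrCharacter G)
    (hχ : χ ∈ B) (h0 : Cfsg.blockHeight p B (χ : G → ℂ) = 0) (x : G)
    (hx : ∃ k : ℕ, orderOf x = p ^ k) (C : Subgroup G) [Fintype C]
    (hcomm : ∀ t : C, x * (t : G) = (t : G) * x)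
    (b : Set (Cfsg.IrrCharacter C)) (hb : Cfsg.IsInducedBlock M C b B) :
    ∃ y : C, ¬ p ∣ orderOf y ∧
      Cfsg.blockPart b (fun c : C => (χ : G → ℂ) (x * (c : G))) y ≠ 0 := by
  classical
  have hχc := IsIrrCharacter.isCharacter χ.2
  have hχcf := IsCharacter.isClassFunction hχc
  obtain ⟨ψ₀, hb1⟩ := hb.1
  have hψ₀ : ψ₀ ∈ b := by
    rw [hb1]
    exact mem_blockOf_self hM.2.1 ψ₀
  set ϑ : C → ℂ := fun c => (χ : G → ℂ) (x * (c : G)) with hϑ
  have hϑcf : Cfsg.IsClassFunction C ϑ := by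
    intro g t
    rw [hϑ]
    simp only [Subgroup.coe_mul, Subgroup.coe_inv]
    have h1 : x * ((t : G) * (g : G) * (t : G)⁻¹) = (t : G) * (x * (g : G)) * (t : G)⁻¹ := by
      rw [← mul_assoc, ← mul_assoc, hcomm t]
      group
    rw [h1, hχcf]
  by_contra hcon
  push Not at hcon
  have hS := trunc_pairing_blockPart hM.2.1 p hM.2.2 b hb.1 ϑ hϑcf ψ₀ hψ₀
  have hS0 : ∑ c : C, (if p ∣ orderOf c then (0 : ℂ) else
      Cfsg.blockPart b ϑ c * conj ((ψ₀ : C → ℂ) c)) = 0 := by
    apply Finset.sum_eq_zero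
    intro c _
    by_cases hc : p ∣ orderOf c
    · rw [if_pos hc]
    · rw [if_neg hc, hcon c hc, zero_mul]
  rw [hS0] at hS
  -- the statement on the restriction of `χ`
  have hX := (induced_trunc_statement hM C b B hb χ ψ₀ hψ₀).2 hχ h0
  apply hX
  -- the difference function
  set u : C → ℂ := fun c => if p ∣ orderOf c then (0 : ℂ) else
    ((χ : G → ℂ) (x * (c : G)) - (χ : G → ℂ) (c : G)) with hu
  have hucf : Cfsg.IsClassFunction C u := by
    intro g t
    have ho : orderOf (t * g * t⁻¹) = orderOf g := by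
      have := MulEquiv.orderOf_eq (MulAut.conj t) g
      simpa using this
    rw [hu]
    simp only [ho]
    have h1 := hϑcf g t
    rw [hϑ] at h1
    simp only at h1
    rw [h1]
    simp only [Subgroup.coe_mul, Subgroup.coe_inv]
    rw [hχcf (g : G) (t : G)]
  have huloc : ∀ t : C, Cfsg.MemLocalIdeal M (u t) := by
    intro t
    rw [hu]
    simp only
    by_cases ht : p ∣ orderOf t
    · rw [if_pos ht]
      exact memLocalIdeal_zero hM.2.1
    · rw [if_neg ht]
      apply char_mul_sub_memLocalIdeal hM.2.1 p hp.out hM.2.2 hχc x (t : G) (hcomm t) hx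
      rwa [Subgroup.orderOf_coe]
  set ψc : Cfsg.IrrCharacter C := ⟨fun c => conj ((ψ₀ : C → ℂ) c), conj_isIrr ψ₀.2⟩ with hψc
  have hψ1 : (ψ₀ : C → ℂ) 1 ≠ 0 := IsIrrCharacter.apply_one_ne_zero ψ₀.2
  have hψ1r : conj ((ψ₀ : C → ℂ) 1) = (ψ₀ : C → ℂ) 1 := by
    rw [← charDegree_cast_of_isCharacter (IsIrrCharacter.isCharacter ψ₀.2)]
    simp
  have hA := sum_ideal_mul_div_mem hM.2.1 u hucf huloc ψc
  have hA2 : ∑ t : C, u t * ((ψc : C → ℂ) t / (ψc : C → ℂ) 1) =
      -((∑ c : C, (if p ∣ orderOf c then (0 : ℂ) else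
        (χ : G → ℂ) (c : G) * conj ((ψ₀ : C → ℂ) c))) / (ψ₀ : C → ℂ) 1) := by
    have h1 : ∀ t : C, u t * ((ψc : C → ℂ) t / (ψc : C → ℂ) 1) =
        ((if p ∣ orderOf t then (0 : ℂ) else ϑ t * conj ((ψ₀ : C → ℂ) t)) -
          (if p ∣ orderOf t then (0 : ℂ) else
            (χ : G → ℂ) (t : G) * conj ((ψ₀ : C → ℂ) t))) / (ψ₀ : C → ℂ) 1 := by
      intro t
      rw [hψc, hu, hϑ]
      simp only
      rw [hψ1r]
      split_ifs
      · simp
      · ring
    rw [Finset.sum_congr rfl (fun t _ => h1 t), ← Finset.sum_div, Finset.sum_sub_distrib, hS,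
      zero_sub, neg_div]
  rw [hA2] at hA
  have hA3 := MemLocalIdeal.neg hA
  rw [neg_neg] at hA3
  -- relate to the inner product
  have hH0 : Nat.card C ≠ 0 := Nat.card_pos.ne'
  have hmp : ¬ p ∣ Nat.card C / p ^ (Nat.card C).factorization p :=
    Nat.not_dvd_ordCompl hp.out hH0
  have hm : p ^ (Nat.card C).factorization p *
      (Nat.card C / p ^ (Nat.card C).factorization p) = Nat.card C :=
    Nat.ordProj_mul_ordCompl_eq_self _ p
  have hCC : (Nat.card C : ℂ) = ((p ^ (Nat.card C).factorization p : ℕ) : ℂ) *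
      ((Nat.card C / p ^ (Nat.card C).factorization p : ℕ) : ℂ) := by
    rw [← Nat.cast_mul, hm]
  have hpa0 : ((p ^ (Nat.card C).factorization p : ℕ) : ℂ) ≠ 0 := by
    have : 0 < p ^ (Nat.card C).factorization p := pow_pos hp.out.pos _
    exact_mod_cast this.ne'
  have hm0 : ((Nat.card C / p ^ (Nat.card C).factorization p : ℕ) : ℂ) ≠ 0 := by
    intro h0'
    have : Nat.card C / p ^ (Nat.card C).factorization p = 0 := by exact_mod_cast h0'
    rw [this, mul_zero] at hm
    exact hH0 hm.symm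
  have hfin : Cfsg.classInner (fun h : C => if p ∣ orderOf h then (0 : ℂ) else
        ((p ^ (Nat.card C).factorization p : ℕ) : ℂ) * (χ : G → ℂ) h) (ψ₀ : C → ℂ) /
          (ψ₀ : C → ℂ) 1 =
      (1 : ℂ) / ((Nat.card C / p ^ (Nat.card C).factorization p : ℕ) : ℂ) *
        ((∑ c : C, (if p ∣ orderOf c then (0 : ℂ) else
          (χ : G → ℂ) (c : G) * conj ((ψ₀ : C → ℂ) c))) / (ψ₀ : C → ℂ) 1) := by
    rw [classInner_def]
    have h1 : ∑ g : C, (if p ∣ orderOf g then (0 : ℂ) else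
        ((p ^ (Nat.card C).factorization p : ℕ) : ℂ) * (χ : G → ℂ) g) *
          conj ((ψ₀ : C → ℂ) g) =
        ((p ^ (Nat.card C).factorization p : ℕ) : ℂ) *
          ∑ c : C, (if p ∣ orderOf c then (0 : ℂ) else
            (χ : G → ℂ) (c : G) * conj ((ψ₀ : C → ℂ) c)) := by
      rw [Finset.mul_sum]
      apply Finset.sum_congr rfl
      intro g _
      split_ifs
      · rw [zero_mul, mul_zero]
      · ring
    rw [h1, hCC]
    field_simp
  rw [hfin]
  exact MemLocalIdeal.mul_left hM.2.1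
    (by
      have := memLocalRing_natCast_div hM.2.1 p hp.out hM.2.2 1 _ hmp
      simpa using this) hA3


/-- **S4428.** -/
theorem section_blockPart_ne_zero [Finite G] (p : ℕ) [hp : Fact p.Prime]
    (hM : Cfsg.IsPModular p M) (B : Set (Cfsg.IrrCharacter G)) (χ : Cfsg.IrrCharacter G)
    (hχ : χ ∈ B) (h0 : Cfsg.blockHeight p B (χ : G → ℂ) = 0) (x : G)
    (hx : ∃ k : ℕ, orderOf x = p ^ k)
    (b : Set (Cfsg.IrrCharacter (Subgroup.centralizer ({x} : Set G))))
    (hb : Cfsg.IsInducedBlock M (Subgroup.centralizer ({x} : Set G)) b B) :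
    ∃ y : Subgroup.centralizer ({x} : Set G), ¬ p ∣ orderOf y ∧
      Cfsg.blockPart b (fun c : Subgroup.centralizer ({x} : Set G) =>
        (χ : G → ℂ) (x * (c : G))) y ≠ 0 := by
  classical
  haveI := Fintype.ofFinite G
  haveI : Fintype (Subgroup.centralizer ({x} : Set G)) := Fintype.ofFinite _
  exact section_blockPart_ne_zero' p hM B χ hχ h0 x hx (Subgroup.centralizer ({x} : Set G))
    (fun t => Subgroup.mem_centralizer_iff.mp t.2 x (Set.mem_singleton x)) b hb

end Cfsg.Agent.Helper6
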