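import Mathlib
import Cfsg.Prelude.Def_Characters
import Cfsg.Prelude.Def_Blocks
import Cfsg.Prelude.Def_BlockLocal
import Cfsg.Prelude.Def_BrauerPairs
import Cfsg.Agent.Helper6.InertialTrivial

/-!
# Abelian defect groups: free action of the inertial quotient and nilpotent local blocks
-/

set_option autoImplicit false
set_option linter.style.haveILetI false

namespace Cfsg.Agent.Helper6

open scoped ComplexConjugate

universe u

variable {G : Type u} [Group G] {M : Ideal Cfsg.AlgInt}

/-- a block of `C_G(P)` inducing `B` gives a Brauer pair of `B` -/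
theorem isBrauerPairOf_of_isInducedBlock [Fintype G] {p : ℕ} [hp : Fact p.Prime]
    (hM : Cfsg.IsPModular p M) (B : Set (Cfsg.IrrCharacter G)) (P : Subgroup G)
    (hP : IsPGroup p P) (c : Set (Cfsg.IrrCharacter (Subgroup.centralizer (P : Set G))))
    (hc : Cfsg.IsInducedBlock M (Subgroup.centralizer (P : Set G)) c B) :
    Cfsg.IsBrauerPairOf p M B P c := by
  classical
  have hB := hc.2.1
  obtain ⟨χ₀, hχ₀⟩ := hB
  have hχ₀B : χ₀ ∈ B := by rw [hχ₀]; exact mem_blockOf_self hM.2.1 χ₀
  refine ⟨⟨hP, hc.1⟩, hc.2.1, fun ξ hξ => ?_⟩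
  have h1 := brauerOmega_blockCoeff hM P B hc.2.1 ξ χ₀ (fun g => by
    rw [brauerCentralChar_centralizer_eq]
    exact hc.2.2 ξ hξ χ₀ hχ₀B g)
  rw [if_pos hχ₀B] at h1
  exact h1

/-- the induced central character from `C_K(P)` inside the group `K` is the central character
induced inside the subgroup `K` from `C_G(P)` -/
theorem inducedCentralChar_irrComp_centSubEquiv (K P : Subgroup G) (hPK : P ≤ K)
    (hCK : Subgroup.centralizer (P : Set G) ≤ K)
    (ξ : Cfsg.IrrCharacter (Subgroup.centralizer (P : Set G))) (h : K) :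
    Cfsg.inducedCentralChar (Subgroup.centralizer ((P.subgroupOf K : Subgroup K) : Set K))
      (irrComp (centSubEquiv K P hPK hCK) ξ :
        Subgroup.centralizer ((P.subgroupOf K : Subgroup K) : Set K) → ℂ) h =
    Cfsg.inducedCentralCharIn K (Subgroup.centralizer (P : Set G))
      (ξ : Subgroup.centralizer (P : Set G) → ℂ) (h : G) := by
  unfold Cfsg.inducedCentralChar Cfsg.inducedCentralCharIn
  symm
  refine finsum_mem_eq_of_bijOn (centSubEquiv K P hPK hCK).symm ?_ ?_
  · refine ⟨?_, (centSubEquiv K P hPK hCK).symm.injective.injOn, ?_⟩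
    · rintro k ⟨x, hx⟩
      show IsConj h (((centSubEquiv K P hPK hCK).symm k : _) : K)
      rw [isConj_iff]
      refine ⟨x⁻¹, ?_⟩
      apply Subtype.ext
      show ((x⁻¹ : K) : G) * (h : G) * (((x⁻¹)⁻¹ : K) : G) = (k : G)
      rw [← hx]
      simp only [Subgroup.coe_inv, inv_inv]
      group
    · intro k' hk'
      have hk'' : IsConj h (k' : K) := hk'
      obtain ⟨a, ha⟩ := isConj_iff.mp hk''
      refine ⟨centSubEquiv K P hPK hCK k', ⟨a⁻¹, ?_⟩, ?_⟩
      · rw [coe_centSubEquiv, ← ha]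
        simp only [Subgroup.coe_inv, Subgroup.coe_mul, inv_inv]
        group
      · exact (centSubEquiv K P hPK hCK).symm_apply_apply k'
  · intro k _
    rw [irrComp_apply, irrComp_apply, (centSubEquiv K P hPK hCK).apply_symm_apply, map_one]

/-- induction inside a subgroup `K` from `C_G(P)`, read in the group `K` -/
theorem isInducedBlockIn_iff_localBlock (K P : Subgroup G) (hPK : P ≤ K)
    (hCK : Subgroup.centralizer (P : Set G) ≤ K)
    (c : Set (Cfsg.IrrCharacter (Subgroup.centralizer (P : Set G))))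
    (f : Set (Cfsg.IrrCharacter K)) :
    Cfsg.IsInducedBlockIn M K (Subgroup.centralizer (P : Set G)) c f ↔
      Cfsg.IsInducedBlock M (Subgroup.centralizer ((P.subgroupOf K : Subgroup K) : Set K))
        (localBlock K P hPK hCK c) f := by
  constructor
  · rintro ⟨hc, hf, h⟩
    refine ⟨isPBlock_localBlock K P hPK hCK c hc, hf, ?_⟩
    rintro _ ⟨ξ, hξ, rfl⟩ χ hχ k
    rw [inducedCentralChar_irrComp_centSubEquiv]
    exact h ξ hξ χ hχ k
  · rintro ⟨hc, hf, h⟩
    refine ⟨?_, hf, ?_⟩
    · obtain ⟨ζ, hζ⟩ := hc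
      have h1 : c = irrComp (centSubEquiv K P hPK hCK).symm ''
          (localBlock K P hPK hCK c) := by
        unfold localBlock
        rw [Set.image_image]
        ext θ
        constructor
        · intro hθ
          exact ⟨θ, hθ, by
            have := irrComp_symm_cancel (centSubEquiv K P hPK hCK).symm θ
            rwa [MulEquiv.symm_symm] at this⟩
        · rintro ⟨θ', hθ', rfl⟩
          have := irrComp_symm_cancel (centSubEquiv K P hPK hCK).symm θ'
          rw [MulEquiv.symm_symm] at this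
          show irrComp (centSubEquiv K P hPK hCK).symm
            (irrComp (centSubEquiv K P hPK hCK) θ') ∈ c
          rw [this]
          exact hθ'
      rw [h1, hζ, image_irrComp_blockOf]
      exact ⟨_, rfl⟩
    · intro ξ hξ χ hχ k
      rw [← inducedCentralChar_irrComp_centSubEquiv K P hPK hCK]
      exact h _ ⟨ξ, hξ, rfl⟩ χ hχ k

/-- for an abelian `p`-group `P` and `P C_G(P) ≤ K`, every block of `C_G(P)` induces a block of
`K` -/
theorem exists_isInducedBlockIn [Finite G] {p : ℕ} [hp : Fact p.Prime]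
    (hM : Cfsg.IsPModular p M) (K P : Subgroup G) (hP : IsPGroup p P)
    (hab : ∀ x ∈ P, ∀ y ∈ P, x * y = y * x) (hPK : P ≤ K)
    (hCK : Subgroup.centralizer (P : Set G) ≤ K)
    (c : Set (Cfsg.IrrCharacter (Subgroup.centralizer (P : Set G)))) (hc : Cfsg.IsPBlock M c) :
    ∃ f : Set (Cfsg.IrrCharacter K),
      Cfsg.IsInducedBlockIn M K (Subgroup.centralizer (P : Set G)) c f := by
  have hP' : IsPGroup p (P.subgroupOf K) := hP.comap_subtype
  have hP'C : P.subgroupOf K ≤ Subgroup.centralizer ((P.subgroupOf K : Subgroup K) : Set K) := by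
    intro u hu
    rw [mem_centralizer_subgroupOf_iff K P hPK, Subgroup.mem_centralizer_iff]
    intro y hy
    exact hab y hy _ (Subgroup.mem_subgroupOf.mp hu)
  obtain ⟨ξ₀, hξ₀⟩ := isPBlock_localBlock (M := M) K P hPK hCK c hc
  obtain ⟨χ₀, hχ₀⟩ := exists_irr_brauerCentralChar hM (P.subgroupOf K)
    (Subgroup.centralizer ((P.subgroupOf K : Subgroup K) : Set K)) hP' le_rfl
    (Subgroup.centralizer_le_normalizer _) ξ₀
  have h1 := isInducedBlock_of_brauer hM (P.subgroupOf K)
    (Subgroup.centralizer ((P.subgroupOf K : Subgroup K) : Set K)) hP' hP'C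
    (Subgroup.centralizer_le_normalizer _) ξ₀ χ₀ hχ₀
  rw [← hξ₀] at h1
  exact ⟨_, (isInducedBlockIn_iff_localBlock K P hPK hCK c _).mpr h1⟩

/-- pointwise form of `stabilizesBlock_localBlock_iff` -/
theorem stabilizesBlock_localBlock_iff' (K P : Subgroup G) (hPK : P ≤ K)
    (hCK : Subgroup.centralizer (P : Set G) ≤ K)
    (e : Set (Cfsg.IrrCharacter (Subgroup.centralizer (P : Set G)))) (k : K)
    (hkN : (k : G) ∈ Subgroup.normalizer (P : Set G)) :
    Cfsg.StabilizesBlock (Subgroup.centralizer ((P.subgroupOf K : Subgroup K) : Set K))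
      (localBlock K P hPK hCK e) k ↔
      Cfsg.StabilizesBlock (Subgroup.centralizer (P : Set G)) e (k : G) := by
  have hn1 : (k : G) ∈ Subgroup.normalizer
      ((Subgroup.centralizer (P : Set G) : Subgroup G) : Set G) :=
    normalizer_le_normalizer_centralizer P hkN
  have hn2 : k ∈ Subgroup.normalizer
      ((Subgroup.centralizer ((P.subgroupOf K : Subgroup K) : Set K) : Subgroup K) : Set K) := by
    apply normalizer_le_normalizer_centralizer (P.subgroupOf K)
    rw [Subgroup.mem_normalizer_iff]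
    intro h
    rw [Subgroup.mem_subgroupOf, Subgroup.mem_subgroupOf]
    exact Subgroup.mem_normalizer_iff.mp hkN (h : G)
  obtain ⟨Φ, hΦ⟩ : ∃ Φ, Φ = centSubEquiv K P hPK hCK := ⟨_, rfl⟩
  constructor
  · rintro ⟨-, h⟩
    refine ⟨hn1, fun χ hχ => ?_⟩
    obtain ⟨χ₁', ⟨χ', hχ', rfl⟩, hc⟩ := h (irrComp (centSubEquiv K P hPK hCK) χ) ⟨χ, hχ, rfl⟩
    refine ⟨χ', hχ', ?_⟩
    intro c c' hcc
    have := hc ((centSubEquiv K P hPK hCK).symm c) ((centSubEquiv K P hPK hCK).symm c') (by
      apply Subtype.ext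
      exact hcc)
    rw [irrComp_apply, irrComp_apply, (centSubEquiv K P hPK hCK).apply_symm_apply,
      (centSubEquiv K P hPK hCK).apply_symm_apply] at this
    exact this
  · rintro ⟨-, h⟩
    refine ⟨hn2, ?_⟩
    rintro χ₁ ⟨χ, hχ, rfl⟩
    obtain ⟨χ', hχ', hc⟩ := h χ hχ
    refine ⟨irrComp (centSubEquiv K P hPK hCK) χ', ⟨χ', hχ', rfl⟩, ?_⟩
    intro c c' hcc
    rw [irrComp_apply, irrComp_apply]
    apply hc
    have := congrArg Subtype.val hcc
    exact this

/-- **abelian defect groups**: for `Q ≤ P` the pair `(P, c)` read in `C_G(Q)` is a maximal Brauer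
pair of the block of `C_G(Q)` induced by `c` -/
theorem isMaximalBrauerPair_localBlock_of_isInducedBlockIn [Fintype G] {p : ℕ}
    [hp : Fact p.Prime] (hM : Cfsg.IsPModular p M) (B : Set (Cfsg.IrrCharacter G))
    (P : Subgroup G) (c : Set (Cfsg.IrrCharacter (Subgroup.centralizer (P : Set G))))
    (hmax : Cfsg.IsMaximalBrauerPair p M B P c) (Q : Subgroup G) (hQP : Q ≤ P)
    (hPH : P ≤ Subgroup.centralizer (Q : Set G))
    (hCH : Subgroup.centralizer (P : Set G) ≤ Subgroup.centralizer (Q : Set G))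
    (f : Set (Cfsg.IrrCharacter (Subgroup.centralizer (Q : Set G))))
    (hf : Cfsg.IsInducedBlockIn M (Subgroup.centralizer (Q : Set G))
      (Subgroup.centralizer (P : Set G)) c f) :
    Cfsg.IsMaximalBrauerPair p M f (P.subgroupOf (Subgroup.centralizer (Q : Set G)))
      (localBlock (Subgroup.centralizer (Q : Set G)) P hPH hCH c) := by
  classical
  haveI : Fintype (Subgroup.centralizer (Q : Set G)) := Fintype.ofFinite _
  have hPc : Cfsg.IsBrauerPair p M P c := hmax.1.1
  have hPN : P ≤ Subgroup.normalizer (Q : Set G) :=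
    hPH.trans (Subgroup.centralizer_le_normalizer _)
  obtain ⟨f₀, hf₀, hle⟩ := exists_subpairLE hM _ P Q c hPc hQP rfl
  have hn := isNormalSubpair_of_subpairLE_of_le_normalizer hM P Q c f₀ hPc hQP hPN hle
  have hcoef : ∀ t : Subgroup.centralizer (Q : Set G), Cfsg.blockCoeff f₀ t =
      Cfsg.subgroupBlockCoeff (Subgroup.centralizer (Q : Set G)) f₀ (t : G) :=
    fun t => (subgroupBlockCoeff_of_mem _ _ _ t.2).symm
  have hpair := isBrauerPairOf_stabilizer_of_isNormalSubpair (M := M) (p := p) Q P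
    (Subgroup.centralizer (Q : Set G)) f₀ c hn hPH hCH f₀ hf₀ hcoef
  have hcardP := card_eq_of_le_centralizer hM B P Q c f₀ hmax hQP hf₀ hle hPH
  have hmaxH : Cfsg.IsMaximalBrauerPair p M f₀ (P.subgroupOf (Subgroup.centralizer (Q : Set G)))
      (localBlock (Subgroup.centralizer (Q : Set G)) P hPH hCH c) :=
    isMaximalBrauerPair_of_card_eq hM f₀ _ _ hpair (by
      rw [Nat.card_congr (Subgroup.subgroupOfEquivOfLe hPH).toEquiv]; exact hcardP)
  have hpair' : Cfsg.IsBrauerPairOf p M f (P.subgroupOf (Subgroup.centralizer (Q : Set G)))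
      (localBlock (Subgroup.centralizer (Q : Set G)) P hPH hCH c) :=
    isBrauerPairOf_of_isInducedBlock hM f _ hpair.1.1 _
      ((isInducedBlockIn_iff_localBlock _ P hPH hCH c f).mp hf)
  have hff : f₀ = f := (existsUnique_isBrauerPairOf hM _ _ hpair.1).unique hpair hpair'
  rw [← hff]
  exact hmaxH

/-- **abelian defect groups**: if the inertial quotient acts freely then the local blocks are
nilpotent -/
theorem isNilpotentBlock_of_free_action [Fintype G] {p : ℕ} [hp : Fact p.Prime]
    (hM : Cfsg.IsPModular p M) (B : Set (Cfsg.IrrCharacter G))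
    (P : Subgroup G) (c : Set (Cfsg.IrrCharacter (Subgroup.centralizer (P : Set G))))
    (hmax : Cfsg.IsMaximalBrauerPair p M B P c)
    (hab : ∀ x ∈ P, ∀ y ∈ P, x * y = y * x)
    (hfree : ∀ g : G, g ∈ Subgroup.normalizer (P : Set G) →
      Cfsg.StabilizesBlock (Subgroup.centralizer (P : Set G)) c g →
        ∀ x ∈ P, x ≠ 1 → g * x * g⁻¹ = x → g ∈ Subgroup.centralizer (P : Set G))
    (Q : Subgroup G) (hQP : Q ≤ P) (hQ1 : Q ≠ ⊥)
    (f : Set (Cfsg.IrrCharacter (Subgroup.centralizer (Q : Set G))))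
    (hf : Cfsg.IsInducedBlockIn M (Subgroup.centralizer (Q : Set G))
      (Subgroup.centralizer (P : Set G)) c f) :
    Cfsg.IsNilpotentBlock p M f := by
  classical
  haveI : Fintype (Subgroup.centralizer (Q : Set G)) := Fintype.ofFinite _
  have hPH : P ≤ Subgroup.centralizer (Q : Set G) := fun u hu =>
    Subgroup.mem_centralizer_iff.mpr (fun q hq => hab q (hQP hq) u hu)
  have hCH : Subgroup.centralizer (P : Set G) ≤ Subgroup.centralizer (Q : Set G) :=
    Subgroup.centralizer_le (by exact_mod_cast hQP)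
  have hmaxH := isMaximalBrauerPair_localBlock_of_isInducedBlockIn hM B P c hmax Q hQP hPH hCH f hf
  have hab' : ∀ x ∈ P.subgroupOf (Subgroup.centralizer (Q : Set G)),
      ∀ y ∈ P.subgroupOf (Subgroup.centralizer (Q : Set G)), x * y = y * x := by
    intro x hx y hy
    apply Subtype.ext
    exact hab _ (Subgroup.mem_subgroupOf.mp hx) _ (Subgroup.mem_subgroupOf.mp hy)
  apply isNilpotentBlock_of_inertial_trivial hM f _ _ hmaxH hab'
  intro x hxN hxst
  have hxN' : (x : G) ∈ Subgroup.normalizer (P : Set G) := by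
    rw [Subgroup.mem_normalizer_iff]
    intro g
    constructor
    · intro hg
      have := (Subgroup.mem_normalizer_iff.mp hxN ⟨g, hPH hg⟩).mp (Subgroup.mem_subgroupOf.mpr hg)
      exact Subgroup.mem_subgroupOf.mp this
    · intro hg
      have hgH : g ∈ Subgroup.centralizer (Q : Set G) := by
        have h1 := hPH hg
        have h2 : g = (x : G)⁻¹ * ((x : G) * g * (x : G)⁻¹) * (x : G) := by group
        rw [h2]
        exact Subgroup.mul_mem _ (Subgroup.mul_mem _ (Subgroup.inv_mem _ x.2) h1) x.2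
      have := (Subgroup.mem_normalizer_iff.mp hxN ⟨g, hgH⟩).mpr (Subgroup.mem_subgroupOf.mpr hg)
      exact Subgroup.mem_subgroupOf.mp this
  have hxst' := (stabilizesBlock_localBlock_iff' _ P hPH hCH c x hxN').mp hxst
  obtain ⟨q, hq1⟩ := (Subgroup.ne_bot_iff_exists_ne_one).mp hQ1
  have hq1' : (q : G) ≠ 1 := fun h => hq1 (Subtype.ext h)
  have hfix : (x : G) * (q : G) * (x : G)⁻¹ = (q : G) := by
    have := Subgroup.mem_centralizer_iff.mp x.2 (q : G) q.2
    rw [← this]; group
  have := hfree (x : G) hxN' hxst' (q : G) (hQP q.2) hq1' hfix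
  exact (mem_centralizer_subgroupOf_iff _ P hPH x).mpr this

/-- **abelian defect groups**: if the local blocks are nilpotent then the inertial quotient acts
freely -/
theorem free_action_of_isNilpotentBlock [Fintype G] {p : ℕ} [hp : Fact p.Prime]
    (hM : Cfsg.IsPModular p M) (B : Set (Cfsg.IrrCharacter G))
    (P : Subgroup G) (c : Set (Cfsg.IrrCharacter (Subgroup.centralizer (P : Set G))))
    (hmax : Cfsg.IsMaximalBrauerPair p M B P c)
    (hab : ∀ x ∈ P, ∀ y ∈ P, x * y = y * x)
    (hnil : ∀ Q : Subgroup G, Q ≤ P → Q ≠ ⊥ →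
      ∀ f : Set (Cfsg.IrrCharacter (Subgroup.centralizer (Q : Set G))),
        Cfsg.IsInducedBlockIn M (Subgroup.centralizer (Q : Set G))
          (Subgroup.centralizer (P : Set G)) c f → Cfsg.IsNilpotentBlock p M f)
    (g : G) (hgN : g ∈ Subgroup.normalizer (P : Set G))
    (hgst : Cfsg.StabilizesBlock (Subgroup.centralizer (P : Set G)) c g)
    (x : G) (hx : x ∈ P) (hx1 : x ≠ 1) (hfix : g * x * g⁻¹ = x) :
    g ∈ Subgroup.centralizer (P : Set G) := by
  classical
  obtain ⟨Q, hQ⟩ : ∃ Q : Subgroup G, Q = Subgroup.zpowers x := ⟨_, rfl⟩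
  have hQP : Q ≤ P := by rw [hQ, Subgroup.zpowers_le]; exact hx
  have hQ1 : Q ≠ ⊥ := by
    rw [hQ]
    intro h
    exact hx1 (Subgroup.zpowers_eq_bot.mp h)
  haveI : Fintype (Subgroup.centralizer (Q : Set G)) := Fintype.ofFinite _
  have hPH : P ≤ Subgroup.centralizer (Q : Set G) := fun u hu =>
    Subgroup.mem_centralizer_iff.mpr (fun q hq => hab q (hQP hq) u hu)
  have hCH : Subgroup.centralizer (P : Set G) ≤ Subgroup.centralizer (Q : Set G) :=
    Subgroup.centralizer_le (by exact_mod_cast hQP)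
  have hgH : g ∈ Subgroup.centralizer (Q : Set G) := by
    rw [Subgroup.mem_centralizer_iff]
    intro y hy
    have hy' : y ∈ Subgroup.zpowers x := by rw [← hQ]; exact hy
    obtain ⟨n, rfl⟩ := Subgroup.mem_zpowers_iff.mp hy'
    have hc : Commute g x := by
      show g * x = x * g
      calc g * x = g * x * g⁻¹ * g := by group
        _ = x * g := by rw [hfix]
    exact ((hc.zpow_right n).eq).symm
  obtain ⟨f, hf⟩ := exists_isInducedBlockIn hM (Subgroup.centralizer (Q : Set G)) P
    hmax.1.1.1 hab hPH hCH c hmax.1.1.2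
  have hfnil := hnil Q hQP hQ1 f hf
  have hmaxH := isMaximalBrauerPair_localBlock_of_isInducedBlockIn hM B P c hmax Q hQP hPH hCH f hf
  have hab' : ∀ x ∈ P.subgroupOf (Subgroup.centralizer (Q : Set G)),
      ∀ y ∈ P.subgroupOf (Subgroup.centralizer (Q : Set G)), x * y = y * x := by
    intro x hx y hy
    apply Subtype.ext
    exact hab _ (Subgroup.mem_subgroupOf.mp hx) _ (Subgroup.mem_subgroupOf.mp hy)
  have hxN' : (⟨g, hgH⟩ : Subgroup.centralizer (Q : Set G)) ∈ Subgroup.normalizer
      ((P.subgroupOf (Subgroup.centralizer (Q : Set G)) :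
        Subgroup (Subgroup.centralizer (Q : Set G))) : Set (Subgroup.centralizer (Q : Set G))) := by
    rw [Subgroup.mem_normalizer_iff]
    intro h
    rw [Subgroup.mem_subgroupOf, Subgroup.mem_subgroupOf]
    exact Subgroup.mem_normalizer_iff.mp hgN (h : G)
  have hxst' := (stabilizesBlock_localBlock_iff' _ P hPH hCH c ⟨g, hgH⟩ hgN).mpr hgst
  have := inertial_trivial_of_isNilpotentBlock hM f _ _ hmaxH hab' hfnil ⟨g, hgH⟩ hxN' hxst'
  exact (mem_centralizer_subgroupOf_iff _ P hPH ⟨g, hgH⟩).mp this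

end Cfsg.Agent.Helper6
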