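import Mathlib
import Cfsg.Prelude.Def_Characters
import Cfsg.Prelude.Def_Blocks
import Cfsg.Prelude.Def_BlockRank
import Cfsg.Prelude.Def_BrauerPairs
import Cfsg.Agent.Helper6.SectionOrthB
import Cfsg.Agent.Helper6.RankTrace

/-!
# The rank of a Brauer element through generalized decomposition (S4683), centralizer form
-/

set_option autoImplicit false
set_option linter.style.haveILetI false

namespace Cfsg.Agent.Helper6

open Module
open scoped ComplexConjugate

universe u

variable {G : Type u} [Group G] {M : Ideal Cfsg.AlgInt}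

/-- the block part of `c ↦ χ(u⁻¹ c)` at `s⁻¹` is conjugate to the block part of `c ↦ χ(u c)` at
`s` -/
theorem blockPart_inv_section [Fintype G] (u : G)
    [Fintype (Subgroup.centralizer ({u} : Set G))]
    (e : Set (Cfsg.IrrCharacter (Subgroup.centralizer ({u} : Set G))))
    (χ : Cfsg.IrrCharacter G) (s : Subgroup.centralizer ({u} : Set G)) :
    Cfsg.blockPart e
      (fun c : Subgroup.centralizer ({u} : Set G) => (χ : G → ℂ) (u⁻¹ * (c : G))) s⁻¹ =
    conj (Cfsg.blockPart e
      (fun c : Subgroup.centralizer ({u} : Set G) => (χ : G → ℂ) (u * (c : G))) s) := by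
  classical
  haveI : Finite (Cfsg.IrrCharacter (Subgroup.centralizer ({u} : Set G))) := irr_finite
  haveI : Fintype (Cfsg.IrrCharacter (Subgroup.centralizer ({u} : Set G))) := Fintype.ofFinite _
  rw [blockPart_apply, blockPart_apply, finsum_mem_eq_sum_ite, finsum_mem_eq_sum_ite, map_sum]
  apply Finset.sum_congr rfl
  intro ψ _
  rw [apply_ite conj, map_zero]
  split_ifs
  · rw [map_mul, IsCharacter.inv_eq_conj (IsIrrCharacter.isCharacter ψ.2)]
    congr 1
    rw [classInner_def, classInner_def, map_mul, map_inv₀, Complex.conj_natCast, map_sum]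
    congr 1
    rw [← Equiv.sum_comp (Equiv.inv (Subgroup.centralizer ({u} : Set G)))]
    apply Finset.sum_congr rfl
    intro c _
    rw [Equiv.inv_apply, map_mul, Complex.conj_conj,
      IsCharacter.inv_eq_conj (IsIrrCharacter.isCharacter ψ.2), Complex.conj_conj,
      ← IsCharacter.inv_eq_conj (IsIrrCharacter.isCharacter χ.2), Subgroup.coe_inv]
    congr 2
    have hc := c.2
    rw [Subgroup.mem_centralizer_singleton_iff] at hc
    rw [mul_inv_rev, ← mul_inv_rev, hc, mul_inv_rev]
  · rfl

/-- **S4683 in centralizer form** -/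
theorem brauer_element_rank_aux [Fintype G] {p : ℕ} [hp : Fact p.Prime]
    (hM : Cfsg.IsPModular p M) (B : Set (Cfsg.IrrCharacter G)) (u : G)
    (hu : ∃ k : ℕ, orderOf u = p ^ k)
    (e : Set (Cfsg.IrrCharacter (Subgroup.centralizer ({u} : Set G))))
    (he : Cfsg.IsInducedBlock M (Subgroup.centralizer ({u} : Set G)) e B) :
    ∑ᶠ χ ∈ B, ∑ᶠ s : Subgroup.centralizer ({u} : Set G),
      Cfsg.pRegularPart p (Cfsg.blockPart e
        (fun c : Subgroup.centralizer ({u} : Set G) => (χ : G → ℂ) (u * (c : G)))) s *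
      Cfsg.blockPart e
        (fun c : Subgroup.centralizer ({u} : Set G) => (χ : G → ℂ) (u⁻¹ * (c : G))) s⁻¹ =
    (Nat.card (Subgroup.centralizer ({u} : Set G)) : ℂ) * (Cfsg.blockRank p e : ℂ) := by
  classical
  haveI : Fintype (Subgroup.centralizer ({u} : Set G)) := Fintype.ofFinite _
  haveI : Finite (Cfsg.IrrCharacter G) := irr_finite
  haveI : Fintype (Cfsg.IrrCharacter G) := Fintype.ofFinite _
  rw [card_mul_blockRank hM.2.1 p hM.2.2 e he.1, finsum_mem_eq_sum_ite]
  simp_rw [finsum_eq_sum_of_fintype]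
  have h1 : ∀ χ : Cfsg.IrrCharacter G,
      (if χ ∈ B then ∑ s : Subgroup.centralizer ({u} : Set G),
        Cfsg.pRegularPart p (Cfsg.blockPart e
          (fun c : Subgroup.centralizer ({u} : Set G) => (χ : G → ℂ) (u * (c : G)))) s *
        Cfsg.blockPart e
          (fun c : Subgroup.centralizer ({u} : Set G) => (χ : G → ℂ) (u⁻¹ * (c : G))) s⁻¹
        else 0) =
      ∑ s : Subgroup.centralizer ({u} : Set G), (if χ ∈ B then
        Cfsg.pRegularPart p (Cfsg.blockPart e
          (fun c : Subgroup.centralizer ({u} : Set G) => (χ : G → ℂ) (u * (c : G)))) s *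
        Cfsg.blockPart e
          (fun c : Subgroup.centralizer ({u} : Set G) => (χ : G → ℂ) (u⁻¹ * (c : G))) s⁻¹
        else 0) := by
    intro χ
    split_ifs
    · rfl
    · rw [Finset.sum_const_zero]
  simp_rw [h1]
  rw [Finset.sum_comm]
  apply Finset.sum_congr rfl
  intro s _
  by_cases hs : p ∣ orderOf s
  · rw [finsum_mem_congr rfl (fun ψ _ => by rw [pRegularPart_apply, if_pos hs, zero_mul] :
      ∀ ψ ∈ e, Cfsg.pRegularPart p (ψ : Subgroup.centralizer ({u} : Set G) → ℂ) s *
        (ψ : Subgroup.centralizer ({u} : Set G) → ℂ) s⁻¹ = 0)]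
    rw [finsum_mem_zero]
    apply Finset.sum_eq_zero
    intro χ _
    rw [pRegularPart_apply, if_pos hs, zero_mul, ite_self]
  · have h2 := section_block_orthogonality_block hM u hu B e e he he.1 s s hs hs
    rw [finsum_mem_eq_sum_ite, Set.inter_self] at h2
    rw [finsum_mem_congr rfl (fun ψ _ => by
      rw [pRegularPart_apply, if_neg hs, IsCharacter.inv_eq_conj (IsIrrCharacter.isCharacter ψ.2)] :
      ∀ ψ ∈ e, Cfsg.pRegularPart p (ψ : Subgroup.centralizer ({u} : Set G) → ℂ) s *
        (ψ : Subgroup.centralizer ({u} : Set G) → ℂ) s⁻¹ =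
        (ψ : Subgroup.centralizer ({u} : Set G) → ℂ) s *
          conj ((ψ : Subgroup.centralizer ({u} : Set G) → ℂ) s))]
    rw [← h2]
    apply Finset.sum_congr rfl
    intro χ _
    rw [pRegularPart_apply, if_neg hs, blockPart_inv_section]

end Cfsg.Agent.Helper6
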