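import Mathlib
import Cfsg.Prelude.Def_Characters
import Cfsg.Prelude.Def_Blocks
import Cfsg.Prelude.Def_BlockRank
import Cfsg.Prelude.Def_BrauerPairs
import Cfsg.Agent.Helper6.SectionOrthC
import Cfsg.Agent.Helper6.FreeActionNilpotent
import Cfsg.Agent.Helper6.BlockUnion

/-!
# The rank of a Brauer element through generalized decomposition (S4683)
-/

set_option autoImplicit false
set_option linter.style.haveILetI false

namespace Cfsg.Agent.Helper6

open Module
open scoped ComplexConjugate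

universe u

variable {G : Type u} [Group G] {M : Ideal Cfsg.AlgInt}

/-- a Brauer pair of `B` on an abelian `p`-subgroup induces `B` -/
theorem isInducedBlock_of_isBrauerPairOf [Fintype G] {p : ℕ} [hp : Fact p.Prime]
    (hM : Cfsg.IsPModular p M) (B : Set (Cfsg.IrrCharacter G)) (P : Subgroup G)
    (hPab : P ≤ Subgroup.centralizer (P : Set G))
    (c : Set (Cfsg.IrrCharacter (Subgroup.centralizer (P : Set G))))
    (hc : Cfsg.IsBrauerPairOf p M B P c) :
    Cfsg.IsInducedBlock M (Subgroup.centralizer (P : Set G)) c B := by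
  classical
  obtain ⟨⟨hP, hcb⟩, hB, h1⟩ := hc
  obtain ⟨B', hB'⟩ := inducedBlockDefined_of_local hM P (Subgroup.centralizer (P : Set G)) hP hPab
    le_rfl (Subgroup.centralizer_le_normalizer _) c hcb
  obtain ⟨ξ, hξ⟩ : ∃ ξ, ξ ∈ c := by
    obtain ⟨ξ₀, rfl⟩ := hcb
    exact ⟨ξ₀, mem_blockOf_self hM.2.1 ξ₀⟩
  obtain ⟨χ₀, hχ₀⟩ : ∃ χ₀, χ₀ ∈ B' := by
    obtain ⟨χ₀, h⟩ := hB'.2.1
    exact ⟨χ₀, by rw [h]; exact mem_blockOf_self hM.2.1 χ₀⟩
  have h2 := brauerOmega_blockCoeff hM P B hB ξ χ₀ (fun g => by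
    rw [brauerCentralChar_centralizer_eq]
    exact hB'.2.2 ξ hξ χ₀ hχ₀ g)
  have h3 := h1 ξ hξ
  have hmem : χ₀ ∈ B := by
    by_contra hne
    rw [if_neg hne, sub_zero] at h2
    have := MemLocalIdeal.sub hM.2.1 h2 h3
    rw [sub_sub_cancel] at this
    exact not_memLocalIdeal_one this
  have : B' = B := by
    rw [eq_blockOf_of_mem hM.2.1 B' hB'.2.1 χ₀ hχ₀, eq_blockOf_of_mem hM.2.1 B hB χ₀ hmem]
  rw [← this]
  exact hB'

/-- **S4683 for a subgroup equal to the centralizer** -/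
theorem brauer_element_rank_subgroup [Fintype G] {p : ℕ} [hp : Fact p.Prime]
    (hM : Cfsg.IsPModular p M) (B : Set (Cfsg.IrrCharacter G)) (u : G)
    (hu : ∃ k : ℕ, orderOf u = p ^ k) (H : Subgroup G)
    (hH : H = Subgroup.centralizer ({u} : Set G))
    (e : Set (Cfsg.IrrCharacter H)) (he : Cfsg.IsInducedBlock M H e B) :
    ∑ᶠ χ ∈ B, ∑ᶠ s : H,
      Cfsg.pRegularPart p (Cfsg.blockPart e (fun c : H => (χ : G → ℂ) (u * (c : G)))) s *
      Cfsg.blockPart e (fun c : H => (χ : G → ℂ) (u⁻¹ * (c : G))) s⁻¹ =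
    (Nat.card H : ℂ) * (Cfsg.blockRank p e : ℂ) := by
  subst hH
  exact brauer_element_rank_aux hM B u hu e he

/-- **S4683** -/
theorem brauer_element_rank [Fintype G] {p : ℕ} [hp : Fact p.Prime]
    (hM : Cfsg.IsPModular p M) (B : Set (Cfsg.IrrCharacter G)) (u : G)
    (hu : ∃ k : ℕ, orderOf u = p ^ k)
    (e : Set (Cfsg.IrrCharacter (Subgroup.centralizer (Subgroup.zpowers u : Set G))))
    (hBe : Cfsg.IsBrauerPairOf p M B (Subgroup.zpowers u) e) :
    ∑ᶠ χ ∈ B, ∑ᶠ s : Subgroup.centralizer (Subgroup.zpowers u : Set G),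
      Cfsg.pRegularPart p (Cfsg.blockPart e
        (fun c : Subgroup.centralizer (Subgroup.zpowers u : Set G) =>
          (χ : G → ℂ) (u * c))) s *
      Cfsg.blockPart e
        (fun c : Subgroup.centralizer (Subgroup.zpowers u : Set G) =>
          (χ : G → ℂ) (u⁻¹ * c)) s⁻¹ =
    (Nat.card (Subgroup.centralizer (Subgroup.zpowers u : Set G)) : ℂ) *
      (Cfsg.blockRank p e : ℂ) := by
  have hH : Subgroup.centralizer (Subgroup.zpowers u : Set G) =
      Subgroup.centralizer ({u} : Set G) := by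
    rw [Subgroup.zpowers_eq_closure, Subgroup.centralizer_closure]
  have hPab : Subgroup.zpowers u ≤ Subgroup.centralizer (Subgroup.zpowers u : Set G) := by
    intro a ha
    rw [hH, Subgroup.mem_centralizer_singleton_iff]
    obtain ⟨i, rfl⟩ := Subgroup.mem_zpowers_iff.mp ha
    exact ((Commute.refl u).zpow_left i).eq
  have he := isInducedBlock_of_isBrauerPairOf hM B (Subgroup.zpowers u) hPab e hBe
  exact brauer_element_rank_subgroup hM B u hu _ hH e he

end Cfsg.Agent.Helper6
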