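import Mathlib
import Cfsg.Prelude.Def_Characters
import Cfsg.Prelude.Def_Blocks
import Cfsg.Prelude.Def_BlockRank
import Cfsg.Agent.Helper6.MajB
import Cfsg.Agent.Helper6.SectionOrthD

/-!
# The matrix of contributions of a subsection is a projection of trace `l(b)`
-/

set_option autoImplicit false
set_option linter.style.haveILetI false

namespace Cfsg.Agent.Helper6.Maj

open Module
open scoped ComplexConjugate

universe u

variable {G : Type u} [Group G] {M : Ideal Cfsg.AlgInt}

/-- pairing against a truncation only sees the truncation -/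
theorem classInner_pRegularPart_left {H : Type u} [Group H] [Fintype H] (p : ℕ) (f g : H → ℂ) :
    Cfsg.classInner (Cfsg.pRegularPart p f) g =
      Cfsg.classInner (Cfsg.pRegularPart p f) (Cfsg.pRegularPart p g) := by
  classical
  rw [classInner_def, classInner_def]
  congr 1
  apply Finset.sum_congr rfl
  intro s _
  rw [pRegularPart_apply, pRegularPart_apply]
  split_ifs
  · rw [zero_mul, zero_mul]
  · rfl

/-- a sum of squared pairings through the kernel -/
theorem sum_inner_sq_eq_kernel {H : Type u} [Group H] [Fintype H] {α : Type*}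
    [Fintype α] (h : α → H → ℂ) (x : H → ℂ) :
    ∑ i, Cfsg.classInner x (h i) * conj (Cfsg.classInner x (h i)) =
      (Nat.card H : ℂ)⁻¹ * (Nat.card H : ℂ)⁻¹ * ∑ s : H, ∑ s' : H,
        x s * conj (x s') * ∑ i, h i s' * conj (h i s) := by
  have h1 : ∀ i, Cfsg.classInner x (h i) * conj (Cfsg.classInner x (h i)) =
      (Nat.card H : ℂ)⁻¹ * (Nat.card H : ℂ)⁻¹ * ∑ s : H, ∑ s' : H,
        (x s * conj (x s') * (h i s' * conj (h i s))) := by
    intro i
    rw [classInner_def, map_mul, map_inv₀, Complex.conj_natCast, map_sum]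
    simp_rw [map_mul, Complex.conj_conj]
    rw [mul_mul_mul_comm, Finset.sum_mul_sum]
    congr 1
    apply Finset.sum_congr rfl
    intro s _
    apply Finset.sum_congr rfl
    intro s' _
    ring
  rw [Finset.sum_congr rfl (fun i _ => h1 i), ← Finset.mul_sum, Finset.sum_comm]
  congr 1
  apply Finset.sum_congr rfl
  intro s _
  rw [Finset.sum_comm]
  apply Finset.sum_congr rfl
  intro s' _
  rw [Finset.mul_sum]

/-- equal kernels give equal sums of squared pairings -/
theorem sum_inner_sq_eq_of_kernel_eq {H : Type u} [Group H] [Fintype H] {ι κ : Type*}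
    [Fintype ι] [Fintype κ] (f : ι → H → ℂ) (g : κ → H → ℂ)
    (hK : ∀ s s' : H, ∑ i, f i s * conj (f i s') = ∑ j, g j s * conj (g j s')) (x : H → ℂ) :
    ∑ i, Cfsg.classInner x (f i) * conj (Cfsg.classInner x (f i)) =
      ∑ j, Cfsg.classInner x (g j) * conj (Cfsg.classInner x (g j)) := by
  rw [sum_inner_sq_eq_kernel f, sum_inner_sq_eq_kernel g]
  congr 1
  apply Finset.sum_congr rfl
  intro s _
  apply Finset.sum_congr rfl
  intro s' _
  rw [hK s' s]

/-- a vector reproduced by a family has squared norm the sum of its squared pairings -/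
theorem sum_inner_sq_eq_self {H : Type u} [Group H] [Fintype H] {κ : Type*} [Fintype κ]
    (g : κ → H → ℂ) (x : H → ℂ) (hx : x = ∑ j, Cfsg.classInner x (g j) • g j) :
    ∑ j, Cfsg.classInner x (g j) * conj (Cfsg.classInner x (g j)) = Cfsg.classInner x x := by
  have h1 : Cfsg.classInner x x = Cfsg.classInner (∑ j, Cfsg.classInner x (g j) • g j) x := by
    rw [← hx]
  rw [h1, classInner_sum_left]
  apply Finset.sum_congr rfl
  intro j _
  rw [classInner_smul_left, classInner_conj_symm x (g j)]

/-- the span of a self-reproducing family is reproduced -/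
theorem reproduced_of_span {H : Type u} [Group H] [Fintype H] {κ : Type*} [Fintype κ]
    (g : κ → H → ℂ) (hP : ∀ j₁, g j₁ = ∑ j, Cfsg.classInner (g j₁) (g j) • g j) (c : κ → ℂ) :
    (∑ j₁, c j₁ • g j₁) =
      ∑ j, Cfsg.classInner (∑ j₁, c j₁ • g j₁) (g j) • g j := by
  simp_rw [classInner_sum_left, classInner_smul_left, Finset.sum_smul]
  rw [Finset.sum_comm]
  apply Finset.sum_congr rfl
  intro j₁ _
  conv_lhs => rw [hP j₁]
  rw [Finset.smul_sum]
  apply Finset.sum_congr rfl
  intro j _
  rw [smul_smul]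

open Classical in
/-- the truncated members of a block reproduce themselves -/
theorem pRegular_family_reproduces {H : Type u} [Group H] [Fintype H]
    [Fintype (Cfsg.IrrCharacter H)] (hM : M.IsMaximal)
    (p : ℕ) [hp : Fact p.Prime] (hpM : (p : Cfsg.AlgInt) ∈ M) (e : Set (Cfsg.IrrCharacter H))
    (he : Cfsg.IsPBlock M e) (θ₁ : Cfsg.IrrCharacter H) :
    (if θ₁ ∈ e then Cfsg.pRegularPart p (θ₁ : H → ℂ) else 0) =
      ∑ θ : Cfsg.IrrCharacter H,
        Cfsg.classInner (if θ₁ ∈ e then Cfsg.pRegularPart p (θ₁ : H → ℂ) else 0)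
          (if θ ∈ e then Cfsg.pRegularPart p (θ : H → ℂ) else 0) •
          (if θ ∈ e then Cfsg.pRegularPart p (θ : H → ℂ) else 0) := by
  by_cases h1 : θ₁ ∈ e
  · simp only [if_pos h1]
    have hexp := pRegularPart_expansion hM p hpM e he θ₁ h1
    have h2 := congrArg (Cfsg.pRegularPart p) hexp
    rw [pRegularPart_idem, pRegularPart_sum] at h2
    conv_lhs => rw [h2]
    apply Finset.sum_congr rfl
    intro θ _
    by_cases h3 : θ ∈ e
    · rw [if_pos h3, if_pos h3, pRegularPart_smul, ← classInner_pRegularPart_left]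
    · rw [if_neg h3, if_neg h3, pRegularPart_zero, smul_zero]
  · simp only [if_neg h1, classInner_zero_left, zero_smul, Finset.sum_const_zero]

open Classical in
/-- the sum of squared pairings of a vector in the span of the truncated members of a block -/
theorem sum_sq_pRegular_eq {H : Type u} [Group H] [Fintype H]
    [Fintype (Cfsg.IrrCharacter H)] (hM : M.IsMaximal)
    (p : ℕ) [hp : Fact p.Prime] (hpM : (p : Cfsg.AlgInt) ∈ M) (e : Set (Cfsg.IrrCharacter H))
    (he : Cfsg.IsPBlock M e) (x : H → ℂ) (c : Cfsg.IrrCharacter H → ℂ)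
    (hx : x = ∑ θ : Cfsg.IrrCharacter H,
      if θ ∈ e then c θ • Cfsg.pRegularPart p (θ : H → ℂ) else 0) :
    ∑ θ : Cfsg.IrrCharacter H,
      Cfsg.classInner x (if θ ∈ e then Cfsg.pRegularPart p (θ : H → ℂ) else 0) *
      conj (Cfsg.classInner x (if θ ∈ e then Cfsg.pRegularPart p (θ : H → ℂ) else 0)) =
    Cfsg.classInner x x := by
  apply sum_inner_sq_eq_self
  have hx' : x = ∑ θ : Cfsg.IrrCharacter H,
      c θ • (if θ ∈ e then Cfsg.pRegularPart p (θ : H → ℂ) else 0) := by
    rw [hx]
    apply Finset.sum_congr rfl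
    intro θ _
    split_ifs
    · rfl
    · rw [smul_zero]
  have h1 := reproduced_of_span
    (fun θ : Cfsg.IrrCharacter H => if θ ∈ e then Cfsg.pRegularPart p (θ : H → ℂ) else 0)
    (fun θ₁ => pRegular_family_reproduces hM p hpM e he θ₁) c
  rw [← hx'] at h1
  exact h1

end Cfsg.Agent.Helper6.Maj
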