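import Mathlib
import Cfsg.Prelude.Def_Characters
import Cfsg.Prelude.Def_Blocks
import Cfsg.Prelude.Def_BlockRank
import Cfsg.Agent.Helper6.MajC

/-!
# The contributions of a subsection: kernel identity, projection property and trace
-/

set_option autoImplicit false
set_option linter.style.haveILetI false

namespace Cfsg.Agent.Helper6.Maj

open Module
open scoped ComplexConjugate

universe u

variable {G : Type u} [Group G] {M : Ideal Cfsg.AlgInt}

open Classical in
/-- the section part as a combination of truncated members of the block -/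
theorem secPart_eq_sum (p : ℕ) (H : Subgroup G) [Fintype H] [Fintype (Cfsg.IrrCharacter H)]
    (e : Set (Cfsg.IrrCharacter H)) (χ : G → ℂ) (u : G) :
    secPart p H e χ u = ∑ θ : Cfsg.IrrCharacter H,
      if θ ∈ e then Cfsg.classInner (fun c : H => χ (u * (c : G))) (θ : H → ℂ) •
        Cfsg.pRegularPart p (θ : H → ℂ) else 0 := by
  unfold secPart
  rw [blockPart_eq_sum, pRegularPart_sum]
  apply Finset.sum_congr rfl
  intro θ _
  split_ifs
  · rw [pRegularPart_smul]
  · exact pRegularPart_zero p

theorem secPart_apply (p : ℕ) (H : Subgroup G) [Finite H]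
    (e : Set (Cfsg.IrrCharacter H)) (χ : G → ℂ) (u : G) (s : H) [Decidable (p ∣ orderOf s)] :
    secPart p H e χ u s = if p ∣ orderOf s then 0 else
      Cfsg.blockPart e (fun c : H => χ (u * (c : G))) s := by
  unfold secPart
  rw [pRegularPart_apply]

open Classical in
/-- **kernel identity** for the section parts -/
theorem secPart_kernel [Fintype G] {p : ℕ} [hp : Fact p.Prime] (hM : Cfsg.IsPModular p M)
    (B : Set (Cfsg.IrrCharacter G)) (u : G) (hu : ∃ k : ℕ, orderOf u = p ^ k) (H : Subgroup G)
    (hH : H = Subgroup.centralizer ({u} : Set G)) [Fintype H]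
    [Fintype (Cfsg.IrrCharacter G)] [Fintype (Cfsg.IrrCharacter H)]
    (e : Set (Cfsg.IrrCharacter H)) (he : Cfsg.IsInducedBlock M H e B) (s s' : H) :
    ∑ ψ : Cfsg.IrrCharacter G,
      (if ψ ∈ B then secPart p H e (ψ : G → ℂ) u else 0) s *
        conj ((if ψ ∈ B then secPart p H e (ψ : G → ℂ) u else 0) s') =
    ∑ θ : Cfsg.IrrCharacter H,
      (if θ ∈ e then Cfsg.pRegularPart p (θ : H → ℂ) else 0) s *
        conj ((if θ ∈ e then Cfsg.pRegularPart p (θ : H → ℂ) else 0) s') := by
  subst hH
  by_cases hs : p ∣ orderOf s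
  · rw [Finset.sum_eq_zero, Finset.sum_eq_zero]
    · intro θ _
      split_ifs
      · rw [pRegularPart_apply, if_pos hs, zero_mul]
      · rw [Pi.zero_apply, zero_mul]
    · intro ψ _
      split_ifs
      · rw [secPart_apply, if_pos hs, zero_mul]
      · rw [Pi.zero_apply, zero_mul]
  by_cases hs' : p ∣ orderOf s'
  · rw [Finset.sum_eq_zero, Finset.sum_eq_zero]
    · intro θ _
      split_ifs
      · rw [pRegularPart_apply (g := s'), if_pos hs', map_zero, mul_zero]
      · rw [Pi.zero_apply, zero_mul]
    · intro ψ _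
      split_ifs
      · rw [secPart_apply (s := s'), if_pos hs', map_zero, mul_zero]
      · rw [Pi.zero_apply, zero_mul]
  have h2 := section_block_orthogonality_block hM u hu B e e he he.1 s s' hs hs'
  rw [finsum_mem_eq_sum_ite, finsum_mem_eq_sum_ite, Set.inter_self] at h2
  refine Eq.trans ?_ (h2.trans ?_)
  · apply Finset.sum_congr rfl
    intro ψ _
    split_ifs
    · rw [secPart_apply, secPart_apply, if_neg hs, if_neg hs']
    · rw [Pi.zero_apply, zero_mul]
  · apply Finset.sum_congr rfl
    intro θ _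
    split_ifs
    · rw [pRegularPart_apply, pRegularPart_apply, if_neg hs, if_neg hs']
    · rw [Pi.zero_apply, zero_mul]

open Classical in
/-- **projection property**: the squared contributions of `χ` against the block add up to the
diagonal contribution -/
theorem sum_secPart_sq [Fintype G] {p : ℕ} [hp : Fact p.Prime] (hM : Cfsg.IsPModular p M)
    (B : Set (Cfsg.IrrCharacter G)) (u : G) (hu : ∃ k : ℕ, orderOf u = p ^ k) (H : Subgroup G)
    (hH : H = Subgroup.centralizer ({u} : Set G)) [Fintype H]
    [Fintype (Cfsg.IrrCharacter G)] [Fintype (Cfsg.IrrCharacter H)]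
    (e : Set (Cfsg.IrrCharacter H)) (he : Cfsg.IsInducedBlock M H e B) (χ : G → ℂ) :
    ∑ ψ : Cfsg.IrrCharacter G, (if ψ ∈ B then
      Cfsg.classInner (secPart p H e χ u) (secPart p H e (ψ : G → ℂ) u) *
        conj (Cfsg.classInner (secPart p H e χ u) (secPart p H e (ψ : G → ℂ) u)) else 0) =
    Cfsg.classInner (secPart p H e χ u) (secPart p H e χ u) := by
  have h1 := sum_inner_sq_eq_of_kernel_eq
    (fun ψ : Cfsg.IrrCharacter G => if ψ ∈ B then secPart p H e (ψ : G → ℂ) u else 0)
    (fun θ : Cfsg.IrrCharacter H => if θ ∈ e then Cfsg.pRegularPart p (θ : H → ℂ) else 0)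
    (secPart_kernel hM B u hu H hH e he) (secPart p H e χ u)
  have h2 := sum_sq_pRegular_eq hM.2.1 p hM.2.2 e he.1 (secPart p H e χ u) _
    (secPart_eq_sum p H e χ u)
  rw [← h2, ← h1]
  apply Finset.sum_congr rfl
  intro ψ _
  split_ifs
  · rfl
  · rw [classInner_zero_right, zero_mul]

/-- **trace**: the diagonal contributions add up to the `p`-regular rank -/
theorem sum_secPart_self [Fintype G] {p : ℕ} [hp : Fact p.Prime] (hM : Cfsg.IsPModular p M)
    (B : Set (Cfsg.IrrCharacter G)) (u : G) (hu : ∃ k : ℕ, orderOf u = p ^ k) (H : Subgroup G)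
    (hH : H = Subgroup.centralizer ({u} : Set G)) [Fintype H]
    (e : Set (Cfsg.IrrCharacter H)) (he : Cfsg.IsInducedBlock M H e B) :
    ∑ᶠ χ ∈ B, Cfsg.classInner (secPart p H e (χ : G → ℂ) u) (secPart p H e (χ : G → ℂ) u) =
      (Cfsg.blockRank p e : ℂ) := by
  classical
  have h1 := brauer_element_rank_subgroup hM B u hu H hH e he
  subst hH
  have hH0 : (Nat.card (Subgroup.centralizer ({u} : Set G)) : ℂ) ≠ 0 := by
    have : 0 < Nat.card (Subgroup.centralizer ({u} : Set G)) := Nat.card_pos
    exact_mod_cast this.ne'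
  have h2 : ∀ χ : Cfsg.IrrCharacter G,
      ∑ᶠ s : Subgroup.centralizer ({u} : Set G),
        Cfsg.pRegularPart p (Cfsg.blockPart e
          (fun c : Subgroup.centralizer ({u} : Set G) => (χ : G → ℂ) (u * (c : G)))) s *
        Cfsg.blockPart e
          (fun c : Subgroup.centralizer ({u} : Set G) => (χ : G → ℂ) (u⁻¹ * (c : G))) s⁻¹ =
      (Nat.card (Subgroup.centralizer ({u} : Set G)) : ℂ) *
        Cfsg.classInner (secPart p _ e (χ : G → ℂ) u) (secPart p _ e (χ : G → ℂ) u) := by
    intro χ
    rw [finsum_eq_sum_of_fintype, classInner_def, ← mul_assoc, mul_inv_cancel₀ hH0, one_mul]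
    apply Finset.sum_congr rfl
    intro s _
    rw [blockPart_inv_section, secPart_apply, pRegularPart_apply]
    split_ifs
    · rw [zero_mul, zero_mul]
    · rfl
  rw [finsum_mem_congr rfl (fun χ _ => h2 χ), ← mul_finsum_mem] at h1
  exact mul_left_cancel₀ hH0 h1

end Cfsg.Agent.Helper6.Maj
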