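import Mathlib
import Cfsg.Prelude.Def_Characters
import Cfsg.Prelude.Def_Blocks
import Cfsg.Prelude.Def_BlockRank
import Cfsg.Agent.Helper6.MajD
import Cfsg.Agent.Helper6.HeightZeroSection
import Cfsg.Agent.Helper6.PowCongr

/-!
# The inversion pairing on `p`-regular elements and its congruences
-/

set_option autoImplicit false
set_option linter.style.haveILetI false

namespace Cfsg.Agent.Helper6.Maj

open Module
open scoped ComplexConjugate

universe u

variable {K : Type u} [Group K] {M : Ideal Cfsg.AlgInt}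

/-- the weight `t ↦ w(t⁻¹)` on `p`-regular elements -/
noncomputable def invWeight (p : ℕ) (w : K → ℂ) : K → ℂ :=
  fun t => by classical exact if p ∣ orderOf t then 0 else w t⁻¹

theorem invWeight_apply (p : ℕ) (w : K → ℂ) (t : K) [Decidable (p ∣ orderOf t)] :
    invWeight p w t = if p ∣ orderOf t then 0 else w t⁻¹ := by
  unfold invWeight
  congr

/-- the pairing `Σ_{t p-regular} w(t⁻¹) ξ(t)` -/
noncomputable def Sinv [Fintype K] (p : ℕ) (w ξ : K → ℂ) : ℂ :=
  ∑ t : K, invWeight p w t * ξ t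

theorem invWeight_isClassFunction (p : ℕ) {w : K → ℂ} (hw : Cfsg.IsClassFunction K w) :
    Cfsg.IsClassFunction K (invWeight p w) := by
  classical
  intro g h
  have ho : orderOf (h * g * h⁻¹) = orderOf g := by
    have := MulEquiv.orderOf_eq (MulAut.conj h) g
    simpa using this
  rw [invWeight_apply, invWeight_apply, ho]
  have h1 : (h * g * h⁻¹)⁻¹ = h * g⁻¹ * h⁻¹ := by group
  rw [h1, hw]

theorem Sinv_symm [Fintype K] (p : ℕ) (w ξ : K → ℂ) : Sinv p w ξ = Sinv p ξ w := by
  classical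
  unfold Sinv
  rw [← Equiv.sum_comp (Equiv.inv K)]
  apply Finset.sum_congr rfl
  intro t _
  rw [Equiv.inv_apply, invWeight_apply, invWeight_apply, orderOf_inv, inv_inv]
  split_ifs
  · rw [zero_mul, zero_mul]
  · rw [mul_comm]

theorem Sinv_sum_left [Fintype K] (p : ℕ) {ι : Type*} (s : Finset ι) (c : ι → ℂ)
    (w : ι → K → ℂ) (ξ : K → ℂ) :
    Sinv p (∑ i ∈ s, c i • w i) ξ = ∑ i ∈ s, c i * Sinv p (w i) ξ := by
  classical
  unfold Sinv
  simp_rw [Finset.mul_sum]
  rw [Finset.sum_comm]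
  apply Finset.sum_congr rfl
  intro t _
  rw [invWeight_apply, Finset.sum_apply]
  simp_rw [invWeight_apply, Pi.smul_apply, smul_eq_mul]
  split_ifs
  · simp
  · rw [Finset.sum_mul]
    apply Finset.sum_congr rfl
    intro i _
    ring

/-- pairing the truncation of `w` against a character -/
theorem classInner_pRegularPart_eq_Sinv [Fintype K] (p : ℕ) (w : K → ℂ) {θ : K → ℂ}
    (hθ : Cfsg.IsCharacter K θ) :
    Cfsg.classInner (Cfsg.pRegularPart p w) θ = (Nat.card K : ℂ)⁻¹ * Sinv p w θ := by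
  classical
  rw [classInner_def]
  congr 1
  unfold Sinv
  rw [← Equiv.sum_comp (Equiv.inv K)]
  apply Finset.sum_congr rfl
  intro t _
  rw [Equiv.inv_apply, pRegularPart_apply, invWeight_apply, orderOf_inv,
    ← IsCharacter.inv_eq_conj hθ, inv_inv]

/-- the normalized pairing lies in the local ring -/
theorem Sinv_div_memLocalRing [Fintype K] (hM : M.IsMaximal) (p : ℕ) {w : K → ℂ}
    (hw : Cfsg.IsClassFunction K w) (hint : ∀ t, IsIntegral ℤ (w t))
    (θ : Cfsg.IrrCharacter K) :
    Cfsg.MemLocalRing M (Sinv p w (θ : K → ℂ) / (θ : K → ℂ) 1) := by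
  classical
  have hint' : ∀ t, IsIntegral ℤ (invWeight p w t) := by
    intro t
    rw [invWeight_apply]
    split_ifs
    · exact isIntegral_zero
    · exact hint _
  obtain ⟨β, hβ, hβeq⟩ := isIntegral_sum_classFunction_mul_div (invWeight p w)
    (invWeight_isClassFunction p hw) hint' θ.2
  have h1 : (θ : K → ℂ) 1 ≠ 0 := IsIrrCharacter.apply_one_ne_zero θ.2
  have h2 : Sinv p w (θ : K → ℂ) / (θ : K → ℂ) 1 = β := by
    unfold Sinv
    rw [hβeq, mul_comm, mul_div_assoc, div_self h1, mul_one]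
  rw [h2]
  exact memLocalRing_of_isIntegral hM hβ

/-- congruence in the second argument within a block -/
theorem Sinv_div_congr [Fintype K] (hM : M.IsMaximal) (p : ℕ) {w : K → ℂ}
    (hw : Cfsg.IsClassFunction K w) (hint : ∀ t, IsIntegral ℤ (w t))
    (θ θ₀ : Cfsg.IrrCharacter K) (h : Cfsg.SameBlock M (θ : K → ℂ) (θ₀ : K → ℂ)) :
    Cfsg.MemLocalIdeal M (Sinv p w (θ : K → ℂ) / (θ : K → ℂ) 1 -
      Sinv p w (θ₀ : K → ℂ) / (θ₀ : K → ℂ) 1) := by
  classical
  have hint' : ∀ t, Cfsg.MemLocalRing M (invWeight p w t) := by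
    intro t
    rw [invWeight_apply]
    split_ifs
    · exact memLocalRing_zero hM
    · exact memLocalRing_of_isIntegral hM (hint _)
  have h1 := sum_mul_sub_of_sameBlock hM (invWeight p w) (invWeight_isClassFunction p hw) hint'
    (θ : K → ℂ) (θ₀ : K → ℂ)
    (IsCharacter.isClassFunction (IsIrrCharacter.isCharacter θ.2))
    (IsCharacter.isClassFunction (IsIrrCharacter.isCharacter θ₀.2)) h
  have h2 : Sinv p w (θ : K → ℂ) / (θ : K → ℂ) 1 - Sinv p w (θ₀ : K → ℂ) / (θ₀ : K → ℂ) 1 =
      ∑ t, invWeight p w t * ((θ : K → ℂ) t / (θ : K → ℂ) 1 -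
        (θ₀ : K → ℂ) t / (θ₀ : K → ℂ) 1) := by
    unfold Sinv
    rw [Finset.sum_div, Finset.sum_div, ← Finset.sum_sub_distrib]
    apply Finset.sum_congr rfl
    intro t _
    ring
  rw [h2]
  exact h1

/-- congruence in the first argument -/
theorem Sinv_div_congr_left [Fintype K] (hM : M.IsMaximal) (p : ℕ) {w w' : K → ℂ}
    (hw : Cfsg.IsClassFunction K w) (hw' : Cfsg.IsClassFunction K w')
    (hloc : ∀ t : K, ¬ p ∣ orderOf t → Cfsg.MemLocalIdeal M (w t - w' t))
    (θ : Cfsg.IrrCharacter K) :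
    Cfsg.MemLocalIdeal M (Sinv p w (θ : K → ℂ) / (θ : K → ℂ) 1 -
      Sinv p w' (θ : K → ℂ) / (θ : K → ℂ) 1) := by
  classical
  set v : K → ℂ := fun t => invWeight p w t - invWeight p w' t with hv
  have hvcf : Cfsg.IsClassFunction K v := by
    intro g h
    rw [hv]
    simp only
    rw [invWeight_isClassFunction p hw, invWeight_isClassFunction p hw']
  have hvloc : ∀ t, Cfsg.MemLocalIdeal M (v t) := by
    intro t
    rw [hv]
    simp only
    rw [invWeight_apply, invWeight_apply]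
    split_ifs with ht
    · rw [sub_zero]
      exact memLocalIdeal_zero hM
    · apply hloc
      rwa [orderOf_inv]
  have h1 := sum_ideal_mul_div_mem hM v hvcf hvloc θ
  have h2 : Sinv p w (θ : K → ℂ) / (θ : K → ℂ) 1 - Sinv p w' (θ : K → ℂ) / (θ : K → ℂ) 1 =
      ∑ t, v t * ((θ : K → ℂ) t / (θ : K → ℂ) 1) := by
    unfold Sinv
    rw [Finset.sum_div, Finset.sum_div, ← Finset.sum_sub_distrib]
    apply Finset.sum_congr rfl
    intro t _
    rw [hv]
    ring
  rw [h2]
  exact h1

end Cfsg.Agent.Helper6.Maj
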