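import Mathlib
import Cfsg.Prelude.Def_Characters
import Cfsg.Prelude.Def_Blocks
import Cfsg.Prelude.Def_BlockRank
import Cfsg.Agent.Helper6.MajE

/-!
# Congruences for weighted sums of inversion pairings over a block
-/

set_option autoImplicit false
set_option linter.style.haveILetI false

namespace Cfsg.Agent.Helper6.Maj

open Module
open scoped ComplexConjugate

universe u

variable {K : Type u} [Group K] {M : Ideal Cfsg.AlgInt}

/-- block orthogonality for the inversion pairing -/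
theorem Sinv_eq_zero_of_not_mem [Fintype K] (hM : M.IsMaximal) (p : ℕ) [hp : Fact p.Prime]
    (hpM : (p : Cfsg.AlgInt) ∈ M) (e : Set (Cfsg.IrrCharacter K)) (he : Cfsg.IsPBlock M e)
    (θ θ₀ : Cfsg.IrrCharacter K) (hθ₀ : θ₀ ∈ e) (hθ : θ ∉ e) :
    Sinv p (θ : K → ℂ) (θ₀ : K → ℂ) = 0 := by
  classical
  have h0 := sum_pregular_eq_zero hM p hpM e he θ₀ θ hθ₀ hθ
  rw [← h0]
  unfold Sinv
  apply Finset.sum_congr rfl
  intro t _
  rw [invWeight_apply, IsCharacter.inv_eq_conj (IsIrrCharacter.isCharacter θ.2)]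
  split_ifs
  · rw [zero_mul]
  · rw [mul_comm]

/-- the ratio of degrees against a member of least `p`-part is local -/
theorem degree_ratio_memLocalRing [Finite K] {p : ℕ} [hp : Fact p.Prime]
    (hM : Cfsg.IsPModular p M) (θ θ₀ : Cfsg.IrrCharacter K)
    (hle : (Cfsg.charDegree (θ₀ : K → ℂ)).factorization p ≤
      (Cfsg.charDegree (θ : K → ℂ)).factorization p) :
    Cfsg.MemLocalRing M ((θ : K → ℂ) 1 / (θ₀ : K → ℂ) 1) := by
  rw [← charDegree_cast_of_isCharacter (IsIrrCharacter.isCharacter θ.2),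
    ← charDegree_cast_of_isCharacter (IsIrrCharacter.isCharacter θ₀.2)]
  exact (memLocalRing_natCast_div_iff hM _ _ (charDegree_ne_zero_of_irr θ.2)
    (charDegree_ne_zero_of_irr θ₀.2)).mpr hle

open Classical in
/-- **weighted congruence**: a weighted sum over a block of pairings `Sinv f θ'` is congruent
to the pairing at a member `θ₀` of least `p`-part times the weighted sum of degree ratios -/
theorem sum_Sinv_congr [Fintype K] [Fintype (Cfsg.IrrCharacter K)] {p : ℕ} [hp : Fact p.Prime]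
    (hM : Cfsg.IsPModular p M) (e : Set (Cfsg.IrrCharacter K)) (he : Cfsg.IsPBlock M e)
    (θ₀ : Cfsg.IrrCharacter K) (hθ₀ : θ₀ ∈ e)
    (hmin : ∀ θ ∈ e, (Cfsg.charDegree (θ₀ : K → ℂ)).factorization p ≤
      (Cfsg.charDegree (θ : K → ℂ)).factorization p)
    {f : K → ℂ} (hf : Cfsg.IsClassFunction K f) (hint : ∀ t, IsIntegral ℤ (f t))
    (d : Cfsg.IrrCharacter K → ℂ) (hd : ∀ θ, Cfsg.MemLocalRing M (d θ)) :
    Cfsg.MemLocalIdeal M
      ((∑ θ : Cfsg.IrrCharacter K,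
          if θ ∈ e then d θ * (Sinv p f (θ : K → ℂ) / (θ₀ : K → ℂ) 1) else 0) -
        Sinv p f (θ₀ : K → ℂ) / (θ₀ : K → ℂ) 1 *
          ∑ θ : Cfsg.IrrCharacter K,
            if θ ∈ e then d θ * ((θ : K → ℂ) 1 / (θ₀ : K → ℂ) 1) else 0) := by
  rw [Finset.mul_sum, ← Finset.sum_sub_distrib]
  apply MemLocalIdeal.sum hM.2.1
  intro θ _
  by_cases hθ : θ ∈ e
  · rw [if_pos hθ, if_pos hθ]
    have hθ1 : (θ : K → ℂ) 1 ≠ 0 := IsIrrCharacter.apply_one_ne_zero θ.2
    have hθ01 : (θ₀ : K → ℂ) 1 ≠ 0 := IsIrrCharacter.apply_one_ne_zero θ₀.2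
    have h1 : d θ * (Sinv p f (θ : K → ℂ) / (θ₀ : K → ℂ) 1) -
        Sinv p f (θ₀ : K → ℂ) / (θ₀ : K → ℂ) 1 * (d θ * ((θ : K → ℂ) 1 / (θ₀ : K → ℂ) 1)) =
        (d θ * ((θ : K → ℂ) 1 / (θ₀ : K → ℂ) 1)) *
          (Sinv p f (θ : K → ℂ) / (θ : K → ℂ) 1 -
            Sinv p f (θ₀ : K → ℂ) / (θ₀ : K → ℂ) 1) := by
      field_simp
    rw [h1]
    apply MemLocalIdeal.mul_left hM.2.1
    · exact MemLocalRing.mul hM.2.1 (hd θ) (degree_ratio_memLocalRing hM θ θ₀ (hmin θ hθ))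
    · exact Sinv_div_congr hM.2.1 p hf hint θ θ₀
        (sameBlock_of_mem_block hM.2.1 e he hθ hθ₀)
  · rw [if_neg hθ, if_neg hθ, mul_zero, sub_zero]
    exact memLocalIdeal_zero hM.2.1

/-- expansion of the pairing along the irreducible constituents of the first argument -/
theorem Sinv_expand [Fintype K] [Fintype (Cfsg.IrrCharacter K)] (p : ℕ) {f : K → ℂ}
    (hf : Cfsg.IsClassFunction K f) (ξ : K → ℂ) :
    Sinv p f ξ = ∑ θ : Cfsg.IrrCharacter K,
      Cfsg.classInner f (θ : K → ℂ) * Sinv p (θ : K → ℂ) ξ := by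
  conv_lhs => rw [classFunction_expansion f hf]
  exact Sinv_sum_left p Finset.univ _ _ ξ

open Classical in
/-- against a member of the block, only the block part of the first argument matters -/
theorem Sinv_expand_block [Fintype K] [Fintype (Cfsg.IrrCharacter K)] (hM : M.IsMaximal)
    (p : ℕ) [hp : Fact p.Prime] (hpM : (p : Cfsg.AlgInt) ∈ M) (e : Set (Cfsg.IrrCharacter K))
    (he : Cfsg.IsPBlock M e) {f : K → ℂ} (hf : Cfsg.IsClassFunction K f)
    (θ' : Cfsg.IrrCharacter K) (hθ' : θ' ∈ e) :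
    Sinv p f (θ' : K → ℂ) = ∑ θ : Cfsg.IrrCharacter K,
      if θ ∈ e then Cfsg.classInner f (θ : K → ℂ) * Sinv p (θ' : K → ℂ) (θ : K → ℂ) else 0 := by
  rw [Sinv_expand p hf]
  apply Finset.sum_congr rfl
  intro θ _
  split_ifs with hθ
  · rw [Sinv_symm]
  · rw [Sinv_eq_zero_of_not_mem hM p hpM e he θ θ' hθ' hθ, mul_zero]

open Classical in
/-- the pairing of a block part against a member of the block -/
theorem Sinv_blockPart [Fintype K] [Fintype (Cfsg.IrrCharacter K)] (hM : M.IsMaximal)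
    (p : ℕ) [hp : Fact p.Prime] (hpM : (p : Cfsg.AlgInt) ∈ M) (e : Set (Cfsg.IrrCharacter K))
    (he : Cfsg.IsPBlock M e) {f : K → ℂ} (hf : Cfsg.IsClassFunction K f)
    (θ' : Cfsg.IrrCharacter K) (hθ' : θ' ∈ e) :
    Sinv p (Cfsg.blockPart e f) (θ' : K → ℂ) = Sinv p f (θ' : K → ℂ) := by
  rw [Sinv_expand_block hM p hpM e he hf θ' hθ', blockPart_eq_sum]
  have h1 : (∑ θ : Cfsg.IrrCharacter K,
      if θ ∈ e then Cfsg.classInner f (θ : K → ℂ) • (θ : K → ℂ) else 0) =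
      ∑ θ : Cfsg.IrrCharacter K,
        (if θ ∈ e then Cfsg.classInner f (θ : K → ℂ) else 0) • (θ : K → ℂ) := by
    apply Finset.sum_congr rfl
    intro θ _
    split_ifs
    · rfl
    · rw [zero_smul]
  rw [h1, Sinv_sum_left]
  apply Finset.sum_congr rfl
  intro θ _
  split_ifs
  · rw [Sinv_symm p (θ : K → ℂ)]
  · rw [zero_mul]

end Cfsg.Agent.Helper6.Maj
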