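import Mathlib
import Cfsg.Prelude.Def_Characters
import Cfsg.Prelude.Def_Blocks
import Cfsg.Prelude.Def_BlockRank
import Cfsg.Agent.Helper6.MajF

/-!
# Non-vanishing of the contributions of two characters of height zero at a subsection
-/

set_option autoImplicit false
set_option linter.style.haveILetI false

namespace Cfsg.Agent.Helper6.Maj

open Module
open scoped ComplexConjugate

universe u

variable {G : Type u} [Group G] {M : Ideal Cfsg.AlgInt}

/-- the twisted restriction `c ↦ χ(y c)` is a class function of `H` -/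
theorem twistRes_isClassFunction (H : Subgroup G) {χ : G → ℂ} (hχ : Cfsg.IsClassFunction G χ)
    (y : G) (hcomm : ∀ t : H, y * (t : G) = (t : G) * y) :
    Cfsg.IsClassFunction H (fun c : H => χ (y * (c : G))) := by
  intro g t
  simp only [Subgroup.coe_mul, Subgroup.coe_inv]
  have h1 : y * ((t : G) * (g : G) * (t : G)⁻¹) = (t : G) * (y * (g : G)) * (t : G)⁻¹ := by
    rw [← mul_assoc, ← mul_assoc, hcomm t]
    group
  rw [h1, hχ]

theorem res_isClassFunction (H : Subgroup G) {χ : G → ℂ} (hχ : Cfsg.IsClassFunction G χ) :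
    Cfsg.IsClassFunction H (fun c : H => χ (c : G)) := by
  intro g t
  simp only [Subgroup.coe_mul, Subgroup.coe_inv]
  rw [hχ]

/-- the restriction of a character of height zero pairs to a unit with a member of a block
inducing its block -/
theorem Sinv_res_not_mem [Fintype G] {p : ℕ} [hp : Fact p.Prime] (hM : Cfsg.IsPModular p M)
    (B : Set (Cfsg.IrrCharacter G)) (χ : Cfsg.IrrCharacter G) (hχ : χ ∈ B)
    (h0 : Cfsg.blockHeight p B (χ : G → ℂ) = 0) (H : Subgroup G) [Fintype H]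
    (e : Set (Cfsg.IrrCharacter H)) (he : Cfsg.IsInducedBlock M H e B)
    (θ₀ : Cfsg.IrrCharacter H) (hθ₀ : θ₀ ∈ e) :
    ¬ Cfsg.MemLocalIdeal M
      (Sinv p (fun c : H => (χ : G → ℂ) (c : G)) (θ₀ : H → ℂ) / (θ₀ : H → ℂ) 1) := by
  classical
  have hX := (induced_trunc_statement hM H e B he χ θ₀ hθ₀).2 hχ h0
  intro hmem
  apply hX
  have hH0 : Nat.card H ≠ 0 := Nat.card_pos.ne'
  have hmp : ¬ p ∣ Nat.card H / p ^ (Nat.card H).factorization p :=
    Nat.not_dvd_ordCompl hp.out hH0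
  have hm : p ^ (Nat.card H).factorization p *
      (Nat.card H / p ^ (Nat.card H).factorization p) = Nat.card H :=
    Nat.ordProj_mul_ordCompl_eq_self _ p
  have hCC : (Nat.card H : ℂ) = ((p ^ (Nat.card H).factorization p : ℕ) : ℂ) *
      ((Nat.card H / p ^ (Nat.card H).factorization p : ℕ) : ℂ) := by
    rw [← Nat.cast_mul, hm]
  have hpa0 : ((p ^ (Nat.card H).factorization p : ℕ) : ℂ) ≠ 0 := by
    have : 0 < p ^ (Nat.card H).factorization p := pow_pos hp.out.pos _
    exact_mod_cast this.ne'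
  have hm0 : ((Nat.card H / p ^ (Nat.card H).factorization p : ℕ) : ℂ) ≠ 0 := by
    intro h0'
    have : Nat.card H / p ^ (Nat.card H).factorization p = 0 := by exact_mod_cast h0'
    rw [this, mul_zero] at hm
    exact hH0 hm.symm
  have hfun : (fun h : H => if p ∣ orderOf h then (0 : ℂ) else
      ((p ^ (Nat.card H).factorization p : ℕ) : ℂ) * (χ : G → ℂ) h) =
      ((p ^ (Nat.card H).factorization p : ℕ) : ℂ) •
        Cfsg.pRegularPart p (fun c : H => (χ : G → ℂ) (c : G)) := by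
    funext h
    rw [Pi.smul_apply, pRegularPart_apply, smul_eq_mul]
    split_ifs
    · rw [mul_zero]
    · rfl
  rw [hfun, classInner_smul_left, classInner_pRegularPart_eq_Sinv p _
    (IsIrrCharacter.isCharacter θ₀.2)]
  have h3 : ((p ^ (Nat.card H).factorization p : ℕ) : ℂ) *
      ((Nat.card H : ℂ)⁻¹ * Sinv p (fun c : H => (χ : G → ℂ) (c : G)) (θ₀ : H → ℂ)) /
        (θ₀ : H → ℂ) 1 =
      ((1 : ℕ) : ℂ) / ((Nat.card H / p ^ (Nat.card H).factorization p : ℕ) : ℂ) *
        (Sinv p (fun c : H => (χ : G → ℂ) (c : G)) (θ₀ : H → ℂ) / (θ₀ : H → ℂ) 1) := by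
    rw [hCC]
    have hθ01 : (θ₀ : H → ℂ) 1 ≠ 0 := IsIrrCharacter.apply_one_ne_zero θ₀.2
    field_simp
    simp
  rw [h3]
  exact MemLocalIdeal.mul_left hM.2.1
    (memLocalRing_natCast_div hM.2.1 p hp.out hM.2.2 1 _ hmp) hmem

/-- the twisted restriction of a character of height zero pairs to a unit with a member of a
block inducing its block -/
theorem Sinv_twist_not_mem [Fintype G] {p : ℕ} [hp : Fact p.Prime] (hM : Cfsg.IsPModular p M)
    (B : Set (Cfsg.IrrCharacter G)) (χ : Cfsg.IrrCharacter G) (hχ : χ ∈ B)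
    (h0 : Cfsg.blockHeight p B (χ : G → ℂ) = 0) (y : G) (hy : ∃ k : ℕ, orderOf y = p ^ k)
    (H : Subgroup G) [Fintype H] (hcomm : ∀ t : H, y * (t : G) = (t : G) * y)
    (e : Set (Cfsg.IrrCharacter H)) (he : Cfsg.IsInducedBlock M H e B)
    (θ₀ : Cfsg.IrrCharacter H) (hθ₀ : θ₀ ∈ e) :
    ¬ Cfsg.MemLocalIdeal M
      (Sinv p (fun c : H => (χ : G → ℂ) (y * (c : G))) (θ₀ : H → ℂ) / (θ₀ : H → ℂ) 1) := by
  have hχc := IsIrrCharacter.isCharacter χ.2
  have hχcf := IsCharacter.isClassFunction hχc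
  intro hmem
  apply Sinv_res_not_mem hM B χ hχ h0 H e he θ₀ hθ₀
  have h1 := Sinv_div_congr_left hM.2.1 p (twistRes_isClassFunction H hχcf y hcomm)
    (res_isClassFunction H hχcf)
    (fun t ht => char_mul_sub_memLocalIdeal hM.2.1 p hp.out hM.2.2 hχc y (t : G) (hcomm t) hy
      (by rwa [Subgroup.orderOf_coe])) θ₀
  have h2 := MemLocalIdeal.sub hM.2.1 hmem h1
  rwa [sub_sub_cancel] at h2

end Cfsg.Agent.Helper6.Maj
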