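import Mathlib
import Cfsg.Prelude.Def_Characters
import Cfsg.Prelude.Def_Blocks
import Cfsg.Prelude.Def_BlockRank
import Cfsg.Agent.Helper6.MajH
import Cfsg.Agent.Helper6.MajA
import Cfsg.Agent.Helper6.ContribA

/-!
# Integer weights for the contributions of a subsection
-/

set_option autoImplicit false
set_option linter.style.haveILetI false

namespace Cfsg.Agent.Helper6.Maj

open Module
open scoped ComplexConjugate

universe u

variable {G : Type u} [Group G] {M : Ideal Cfsg.AlgInt}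

/-- `p^d` times the inner product of two truncated members is an integer -/
theorem pow_defect_mul_inner_int {K : Type u} [Group K] [Fintype K] {p : ℕ} [hp : Fact p.Prime]
    (hM : Cfsg.IsPModular p M) (e : Set (Cfsg.IrrCharacter K))
    (θ θ' : Cfsg.IrrCharacter K) (hθ' : θ' ∈ e) :
    ∃ t : ℤ, ((p : ℂ) ^ Cfsg.blockDefect p e) *
      Cfsg.classInner (Cfsg.pRegularPart p (θ : K → ℂ)) (Cfsg.pRegularPart p (θ' : K → ℂ)) =
        (t : ℂ) := by
  have h1 := classInner_pRegularPart p θ θ'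
  obtain ⟨t, ht⟩ := pow_dvd_truncInt hM e θ θ' hθ'
  refine ⟨t, ?_⟩
  have hd : Cfsg.blockDefect p e ≤ (Nat.card K).factorization p := by
    unfold Cfsg.blockDefect
    exact Nat.sub_le _ _
  have hp0 : ((p : ℂ) ^ ((Nat.card K).factorization p - Cfsg.blockDefect p e)) ≠ 0 := by
    apply pow_ne_zero
    exact_mod_cast hp.out.ne_zero
  apply mul_left_cancel₀ hp0
  rw [← mul_assoc, ← pow_add, Nat.sub_add_cancel hd]
  have h2 : (((p ^ (Nat.card K).factorization p : ℕ) : ℂ)) =
      (p : ℂ) ^ (Nat.card K).factorization p := by push_cast; rfl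
  rw [← h2, h1, ht]
  push_cast
  rfl

open Classical in
/-- integer weights for the contributions -/
theorem exists_int_weights [Fintype G] {p : ℕ} [hp : Fact p.Prime] (hM : Cfsg.IsPModular p M)
    (H : Subgroup G) [Fintype H] (e : Set (Cfsg.IrrCharacter H))
    {χ ψ : G → ℂ} (hχ : Cfsg.IsCharacter G χ) (hψ : Cfsg.IsCharacter G ψ) :
    ∃ W : Cfsg.IrrCharacter H × Cfsg.IrrCharacter H → ℤ, ∀ i,
      ((p : ℂ) ^ Cfsg.blockDefect p e) * (if i.1 ∈ e ∧ i.2 ∈ e then
        Cfsg.classInner (fun c : H => χ (c : G)) (i.1 : H → ℂ) *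
        conj (Cfsg.classInner (fun c : H => ψ (c : G)) (i.2 : H → ℂ)) *
        Cfsg.classInner (Cfsg.pRegularPart p (i.1 : H → ℂ))
          (Cfsg.pRegularPart p (i.2 : H → ℂ)) else 0) = (W i : ℂ) := by
  have h : ∀ i : Cfsg.IrrCharacter H × Cfsg.IrrCharacter H, ∃ w : ℤ,
      ((p : ℂ) ^ Cfsg.blockDefect p e) * (if i.1 ∈ e ∧ i.2 ∈ e then
        Cfsg.classInner (fun c : H => χ (c : G)) (i.1 : H → ℂ) *
        conj (Cfsg.classInner (fun c : H => ψ (c : G)) (i.2 : H → ℂ)) *
        Cfsg.classInner (Cfsg.pRegularPart p (i.1 : H → ℂ))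
          (Cfsg.pRegularPart p (i.2 : H → ℂ)) else 0) = (w : ℂ) := by
    intro i
    by_cases hi : i.1 ∈ e ∧ i.2 ∈ e
    · rw [if_pos hi]
      obtain ⟨a, ha⟩ := classInner_char_char_nat (IsCharacter.restrict H hχ)
        (IsIrrCharacter.isCharacter i.1.2)
      obtain ⟨b, hb⟩ := classInner_char_char_nat (IsCharacter.restrict H hψ)
        (IsIrrCharacter.isCharacter i.2.2)
      obtain ⟨t, ht⟩ := pow_defect_mul_inner_int hM e i.1 i.2 hi.2
      refine ⟨a * b * t, ?_⟩
      rw [ha, hb, Complex.conj_natCast, mul_left_comm, ht]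
      push_cast
      ring
    · rw [if_neg hi, mul_zero]
      exact ⟨0, by simp⟩
  choose W hW using h
  exact ⟨W, hW⟩

end Cfsg.Agent.Helper6.Maj
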