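import Mathlib
import Cfsg.Prelude.Def_Characters
import Cfsg.Prelude.Def_Blocks
import Cfsg.Prelude.Def_BlockRank
import Cfsg.Agent.Helper6.MajI

/-!
# Brauer's inequality for a subsection: `k(B)^2 ≤ p^(2q) l(b)` when all heights vanish
-/

set_option autoImplicit false
set_option linter.style.haveILetI false

namespace Cfsg.Agent.Helper6.Maj

open Module
open scoped ComplexConjugate

universe u

variable {G : Type u} [Group G] {M : Ideal Cfsg.AlgInt}

/-- the centralizer of a generator of the same cyclic group -/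
theorem centralizer_pow_eq [Finite G] (y : G) (j : ℕ) (hj : Nat.Coprime j (orderOf y)) :
    Subgroup.centralizer ({y} : Set G) = Subgroup.centralizer ({y ^ j} : Set G) := by
  obtain ⟨m, hm⟩ := exists_pow_eq_self_of_coprime hj
  ext g
  rw [Subgroup.mem_centralizer_singleton_iff, Subgroup.mem_centralizer_singleton_iff]
  constructor
  · intro h
    exact ((Commute.pow_right (show Commute g y from h) j)).eq
  · intro h
    have := (Commute.pow_right (show Commute g (y ^ j) from h) m).eq
    rwa [hm] at this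

open Classical in
/-- for a fixed element `u` with centralizer `H`, the squared contributions over `B × B` add up
to the `p`-regular rank -/
theorem sum_sum_normSq_secPart [Fintype G] {p : ℕ} [hp : Fact p.Prime]
    (hM : Cfsg.IsPModular p M)
    (B : Set (Cfsg.IrrCharacter G)) (u : G) (hu : ∃ k : ℕ, orderOf u = p ^ k) (H : Subgroup G)
    (hH : H = Subgroup.centralizer ({u} : Set G)) [Fintype H]
    [Fintype (Cfsg.IrrCharacter G)] [Fintype (Cfsg.IrrCharacter H)]
    (e : Set (Cfsg.IrrCharacter H)) (he : Cfsg.IsInducedBlock M H e B) :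
    ∑ χ ∈ Finset.univ.filter (fun χ : Cfsg.IrrCharacter G => χ ∈ B),
      ∑ ψ ∈ Finset.univ.filter (fun ψ : Cfsg.IrrCharacter G => ψ ∈ B),
        ‖Cfsg.classInner (secPart p H e (χ : G → ℂ) u) (secPart p H e (ψ : G → ℂ) u)‖ ^ 2 =
      (Cfsg.blockRank p e : ℝ) := by
  have h1 := sum_secPart_self hM B u hu H hH e he
  rw [finsum_mem_eq_sum_ite, ← Finset.sum_filter] at h1
  have h2 : ∀ χ : Cfsg.IrrCharacter G,
      ((∑ ψ ∈ Finset.univ.filter (fun ψ : Cfsg.IrrCharacter G => ψ ∈ B),
        ‖Cfsg.classInner (secPart p H e (χ : G → ℂ) u) (secPart p H e (ψ : G → ℂ) u)‖ ^ 2 : ℝ) :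
          ℂ) =
      Cfsg.classInner (secPart p H e (χ : G → ℂ) u) (secPart p H e (χ : G → ℂ) u) := by
    intro χ
    rw [← sum_secPart_sq hM B u hu H hH e he (χ : G → ℂ), ← Finset.sum_filter]
    push_cast
    apply Finset.sum_congr rfl
    intro ψ _
    rw [Complex.mul_conj, Complex.normSq_eq_norm_sq]
    push_cast
    rfl
  have h3 : ((∑ χ ∈ Finset.univ.filter (fun χ : Cfsg.IrrCharacter G => χ ∈ B),
      ∑ ψ ∈ Finset.univ.filter (fun ψ : Cfsg.IrrCharacter G => ψ ∈ B),
        ‖Cfsg.classInner (secPart p H e (χ : G → ℂ) u) (secPart p H e (ψ : G → ℂ) u)‖ ^ 2 : ℝ) :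
          ℂ) = ((Cfsg.blockRank p e : ℝ) : ℂ) := by
    rw [Complex.ofReal_sum]
    rw [Finset.sum_congr rfl (fun χ _ => h2 χ), h1]
    simp
  exact Complex.ofReal_injective h3

end Cfsg.Agent.Helper6.Maj
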