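import Mathlib
import Cfsg.Prelude.Def_Characters
import Cfsg.Prelude.Def_Blocks
import Cfsg.Prelude.Def_BlockRank
import Cfsg.Agent.Helper6.MajK
import Cfsg.Agent.Helper6.BrauerPair

/-!
# A congruence for sums over a subgroup against two characters of the same block
-/

set_option autoImplicit false
set_option linter.style.haveILetI false

namespace Cfsg.Agent.Helper6.NilAb

open Cfsg.Agent.Helper6

open scoped ComplexConjugate

universe u

variable {G : Type u} [Group G] {M : Ideal Cfsg.AlgInt}

/-- the order of the centralizer in a subgroup divides the order of the centralizer -/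
theorem card_centralizer_subgroup_dvd [Finite G] (H : Subgroup G) (g : H) :
    Nat.card (Subgroup.centralizer ({g} : Set H)) ∣
      Nat.card (Subgroup.centralizer ({(g : G)} : Set G)) := by
  have h1 : (Subgroup.centralizer ({g} : Set H)).map H.subtype ≤
      Subgroup.centralizer ({(g : G)} : Set G) := by
    rintro _ ⟨x, hx, rfl⟩
    rw [Subgroup.mem_centralizer_singleton_iff]
    have := Subgroup.mem_centralizer_singleton_iff.mp hx
    have h2 := congrArg (fun z : H => (z : G)) this
    simpa using h2
  have h2 := Subgroup.card_dvd_of_le h1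
  rwa [Subgroup.card_map_of_injective H.subtype_injective] at h2

/-- **congruence over a subgroup**: a class function of `H` with local values, summed against the
normalized values of two class functions of `G` in the same block and multiplied by `|G|/|H|`,
gives congruent results -/
theorem card_div_mul_sum_sub_of_sameBlock [Fintype G] (hM : M.IsMaximal) (H : Subgroup G)
    [Fintype H] (u : H → ℂ) (hu : Cfsg.IsClassFunction H u)
    (huloc : ∀ t, Cfsg.MemLocalRing M (u t)) (φ ψ : G → ℂ)
    (hφ : Cfsg.IsClassFunction G φ) (hψ : Cfsg.IsClassFunction G ψ)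
    (h : Cfsg.SameBlock M φ ψ) :
    Cfsg.MemLocalIdeal M ((Nat.card G : ℂ) / (Nat.card H : ℂ) *
      ∑ t : H, u t * (φ (t : G) / φ 1 - ψ (t : G) / ψ 1)) := by
  classical
  rw [Finset.mul_sum]
  apply sum_mem_of_class_sums (fun z => Cfsg.MemLocalIdeal M z) (memLocalIdeal_zero hM)
    (fun x y hx hy => MemLocalIdeal.add hM hx hy) _ _ _ Finset.univ rfl
    (fun g _ x => Finset.mem_univ _)
  intro g
  obtain ⟨k, hk⟩ := card_centralizer_subgroup_dvd H g
  have hH0 : (Nat.card H : ℂ) ≠ 0 := by
    have : 0 < Nat.card H := Nat.card_pos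
    exact_mod_cast this.ne'
  have hCH0 : (Nat.card (Subgroup.centralizer ({g} : Set H)) : ℂ) ≠ 0 := by
    have : 0 < Nat.card (Subgroup.centralizer ({g} : Set H)) := Nat.card_pos
    exact_mod_cast this.ne'
  have hcardG : (Nat.card G : ℂ) = ((Subgroup.centralizer ({(g : G)} : Set G)).index : ℂ) *
      (Nat.card (Subgroup.centralizer ({(g : G)} : Set G)) : ℂ) := by
    rw [← Nat.cast_mul, mul_comm, Subgroup.card_mul_index]
  have hcardH : (Nat.card H : ℂ) = ((Subgroup.centralizer ({g} : Set H)).index : ℂ) *
      (Nat.card (Subgroup.centralizer ({g} : Set H)) : ℂ) := by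
    rw [← Nat.cast_mul, mul_comm, Subgroup.card_mul_index]
  have h1 : ∑ x ∈ classFinset g, (Nat.card G : ℂ) / (Nat.card H : ℂ) *
      (u x * (φ (x : G) / φ 1 - ψ (x : G) / ψ 1)) =
      (k : ℂ) * (u g * (Cfsg.centralChar φ (g : G) - Cfsg.centralChar ψ (g : G))) := by
    have h2 : ∀ x ∈ classFinset g, (Nat.card G : ℂ) / (Nat.card H : ℂ) *
        (u x * (φ (x : G) / φ 1 - ψ (x : G) / ψ 1)) =
        (Nat.card G : ℂ) / (Nat.card H : ℂ) *
        (u g * (φ (g : G) / φ 1 - ψ (g : G) / ψ 1)) := by
      intro x hx
      rw [mem_classFinset] at hx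
      obtain ⟨a, ha⟩ := isConj_iff.mp hx
      rw [← ha, hu]
      simp only [Subgroup.coe_mul, Subgroup.coe_inv]
      rw [hφ, hψ]
    rw [Finset.sum_congr rfl h2, Finset.sum_const, card_classFinset, nsmul_eq_mul]
    unfold Cfsg.centralChar
    rw [hcardG, hcardH, hk]
    push_cast
    have hk0 : (Nat.card (Subgroup.centralizer ({g} : Set H)) : ℂ) ≠ 0 := hCH0
    have hi0 : ((Subgroup.centralizer ({g} : Set H)).index : ℂ) ≠ 0 := by
      intro h0
      rw [hcardH, h0, zero_mul] at hH0
      exact hH0 rfl
    field_simp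
  rw [h1]
  exact MemLocalIdeal.mul_left hM (memLocalRing_natCast hM k)
    (MemLocalIdeal.mul_left hM (huloc g) (h (g : G)))

end Cfsg.Agent.Helper6.NilAb
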