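import Mathlib
import Cfsg.Prelude.Def_Characters
import Cfsg.Prelude.Def_Blocks
import Cfsg.Prelude.Def_BlockRank
import Cfsg.Agent.Helper6.MajK
import Cfsg.Agent.Helper6.NilAbA
import Cfsg.Agent.Helper6.DefectOneTwoA

/-!
# Contributions at a major subsection: non-vanishing against a character of height zero
-/

set_option autoImplicit false
set_option linter.style.haveILetI false

namespace Cfsg.Agent.Helper6.NilAb

open Cfsg.Agent.Helper6 Cfsg.Agent.Helper6.Maj

open scoped ComplexConjugate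

universe u

variable {G : Type u} [Group G] {M : Ideal Cfsg.AlgInt}

open Classical in
/-- the weight attached to the second argument of a contribution -/
noncomputable def contribWeight (H : Subgroup G) [Fintype H] [Fintype (Cfsg.IrrCharacter H)]
    (e : Set (Cfsg.IrrCharacter H)) (ψ : G → ℂ) (y : G) : H → ℂ :=
  fun t => ∑ θ : Cfsg.IrrCharacter H, if θ ∈ e then
    conj (Cfsg.classInner (fun c : H => ψ (y * (c : G))) (θ : H → ℂ)) * (θ : H → ℂ) t else 0

open Classical in
/-- **the contribution as a pairing**: `|H| m_{χψ} = Σ_{t p-regular} χ(y t⁻¹) U_ψ(t)` -/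
theorem card_mul_contribution [Fintype G] {p : ℕ} [hp : Fact p.Prime]
    (hM : Cfsg.IsPModular p M) (χ ψ : G → ℂ) (hχ : Cfsg.IsClassFunction G χ)
    (y : G) (H : Subgroup G) [Fintype H]
    [Fintype (Cfsg.IrrCharacter H)]
    (hcomm : ∀ t : H, y * (t : G) = (t : G) * y)
    (e : Set (Cfsg.IrrCharacter H)) (he : Cfsg.IsPBlock M e) :
    (Nat.card H : ℂ) *
      Cfsg.classInner (secPart p H e χ y) (secPart p H e ψ y) =
      ∑ t : H, invWeight p (fun c : H => χ (y * (c : G))) t * contribWeight H e ψ y t := by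
  have hc0 : (Nat.card H : ℂ) ≠ 0 := by
    have : 0 < Nat.card H := Nat.card_pos
    exact_mod_cast this.ne'
  have hfcf := twistRes_isClassFunction H hχ y hcomm
  rw [secPart_eq_sum p H e ψ y, classInner_sum_right, Finset.mul_sum]
  unfold contribWeight
  simp_rw [Finset.mul_sum]
  rw [Finset.sum_comm]
  apply Finset.sum_congr rfl
  intro θ' _
  by_cases hθ' : θ' ∈ e
  · simp only [if_pos hθ']
    rw [classInner_smul_right]
    have h1 : Cfsg.classInner (secPart p H e χ y)
        (Cfsg.pRegularPart p (θ' : H → ℂ)) =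
        (Nat.card H : ℂ)⁻¹ *
          Sinv p (fun c : H => χ (y * (c : G))) (θ' : H → ℂ) := by
      unfold secPart
      rw [← classInner_pRegularPart_left, classInner_pRegularPart_eq_Sinv p _
        (IsIrrCharacter.isCharacter θ'.2),
        Sinv_blockPart hM.2.1 p hM.2.2 e he hfcf θ' hθ']
    rw [h1]
    unfold Sinv
    rw [← mul_assoc, ← mul_assoc, mul_comm (Nat.card H : ℂ), mul_assoc _ (Nat.card H : ℂ),
      mul_inv_cancel₀ hc0, mul_one, Finset.mul_sum]
    apply Finset.sum_congr rfl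
    intro t _
    ring
  · simp only [if_neg hθ', classInner_zero_right, mul_zero, Finset.sum_const_zero]


/-- the twisted multiplicities are algebraic integers -/
theorem classInner_twist_isIntegral [Fintype G] {ψ : G → ℂ} (hψ : Cfsg.IsCharacter G ψ)
    (y : G) (H : Subgroup G) [Fintype H] (hyH : y ∈ H)
    (hcomm : ∀ t : H, y * (t : G) = (t : G) * y) (θ : Cfsg.IrrCharacter H) :
    IsIntegral ℤ (Cfsg.classInner (fun c : H => ψ (y * (c : G))) (θ : H → ℂ)) := by
  have hz : (⟨y, hyH⟩ : H) ∈ Subgroup.center H := by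
    rw [Subgroup.mem_center_iff]
    intro t
    apply Subtype.ext
    simp only [Subgroup.coe_mul]
    exact (hcomm t).symm
  obtain ⟨ε, hεn, hε1, hε⟩ := exists_center_twist θ ⟨y, hyH⟩ hz
  have h1 := classInner_twist H ψ y hyH θ ε hε1 hε 1
  simp only [pow_one] at h1
  rw [h1]
  obtain ⟨n, hn⟩ := classInner_char_char_nat (IsCharacter.restrict H hψ)
    (IsIrrCharacter.isCharacter θ.2)
  rw [hn]
  apply IsIntegral.mul
  · apply IsIntegral.of_pow (n := orderOf (⟨y, hyH⟩ : H)) (orderOf_pos _)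
    rw [hεn]
    exact isIntegral_one
  · exact isIntegral_algebraMap (R := ℤ) (A := ℂ) (x := (n : ℤ)) |> fun h => by simpa using h

open Classical in
/-- the weight has integral values -/
theorem contribWeight_isIntegral [Fintype G] {ψ : G → ℂ} (hψ : Cfsg.IsCharacter G ψ)
    (y : G) (H : Subgroup G) [Fintype H] [Fintype (Cfsg.IrrCharacter H)] (hyH : y ∈ H)
    (hcomm : ∀ t : H, y * (t : G) = (t : G) * y) (e : Set (Cfsg.IrrCharacter H)) (t : H) :
    IsIntegral ℤ (contribWeight H e ψ y t) := by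
  unfold contribWeight
  apply IsIntegral.sum
  intro θ _
  split_ifs
  · apply IsIntegral.mul
    · exact map_isIntegral_int (starRingEnd ℂ) (classInner_twist_isIntegral hψ y H hyH hcomm θ)
    · exact IsCharacter.isIntegral_value (IsIrrCharacter.isCharacter θ.2) t
  · exact isIntegral_zero

open Classical in
/-- the weight is a class function -/
theorem contribWeight_isClassFunction (H : Subgroup G) [Fintype H]
    [Fintype (Cfsg.IrrCharacter H)] (e : Set (Cfsg.IrrCharacter H)) (ψ : G → ℂ) (y : G) :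
    Cfsg.IsClassFunction H (contribWeight H e ψ y) := by
  intro g h
  unfold contribWeight
  apply Finset.sum_congr rfl
  intro θ _
  split_ifs
  · rw [IsCharacter.isClassFunction (IsIrrCharacter.isCharacter θ.2)]
  · rfl

open Classical in
/-- the reindexed weight: `u(t') = [t'⁻¹ y is p-regular] U(t'⁻¹ y)` -/
noncomputable def shiftWeight (p : ℕ) (H : Subgroup G) [Fintype H]
    [Fintype (Cfsg.IrrCharacter H)]
    (e : Set (Cfsg.IrrCharacter H)) (ψ : G → ℂ) (y : G) (hyH : y ∈ H) : H → ℂ :=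
  fun t => if p ∣ orderOf (t⁻¹ * (⟨y, hyH⟩ : H)) then 0 else
    contribWeight H e ψ y (t⁻¹ * (⟨y, hyH⟩ : H))

open Classical in
theorem shiftWeight_isClassFunction (p : ℕ) (H : Subgroup G) [Fintype H]
    [Fintype (Cfsg.IrrCharacter H)] (e : Set (Cfsg.IrrCharacter H)) (ψ : G → ℂ) (y : G)
    (hyH : y ∈ H) (hcomm : ∀ t : H, y * (t : G) = (t : G) * y) :
    Cfsg.IsClassFunction H (shiftWeight p H e ψ y hyH) := by
  intro g h
  unfold shiftWeight
  have hz : ∀ t : H, (⟨y, hyH⟩ : H) * t = t * ⟨y, hyH⟩ := by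
    intro t
    apply Subtype.ext
    simp only [Subgroup.coe_mul]
    exact hcomm t
  have h1 : (h * g * h⁻¹)⁻¹ * (⟨y, hyH⟩ : H) = h * (g⁻¹ * ⟨y, hyH⟩) * h⁻¹ := by
    have : (h * g * h⁻¹)⁻¹ * (⟨y, hyH⟩ : H) = h * g⁻¹ * (h⁻¹ * ⟨y, hyH⟩) := by group
    rw [this, ← hz h⁻¹]
    group
  rw [h1]
  have ho : orderOf (h * (g⁻¹ * (⟨y, hyH⟩ : H)) * h⁻¹) = orderOf (g⁻¹ * (⟨y, hyH⟩ : H)) := by
    have := MulEquiv.orderOf_eq (MulAut.conj h) (g⁻¹ * (⟨y, hyH⟩ : H))
    simpa using this
  rw [ho, contribWeight_isClassFunction H e ψ y]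

open Classical in
/-- the contribution as a pairing of the first character with the shifted weight -/
theorem card_mul_contribution_shift [Fintype G] {p : ℕ} [hp : Fact p.Prime]
    (hM : Cfsg.IsPModular p M) (χ ψ : G → ℂ) (hχ : Cfsg.IsClassFunction G χ)
    (y : G) (H : Subgroup G) [Fintype H]
    [Fintype (Cfsg.IrrCharacter H)] (hyH : y ∈ H)
    (hcomm : ∀ t : H, y * (t : G) = (t : G) * y)
    (e : Set (Cfsg.IrrCharacter H)) (he : Cfsg.IsPBlock M e) :
    (Nat.card H : ℂ) *
      Cfsg.classInner (secPart p H e χ y) (secPart p H e ψ y) =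
      ∑ t : H, shiftWeight p H e ψ y hyH t * χ (t : G) := by
  rw [card_mul_contribution hM χ ψ hχ y H hcomm e he]
  -- reindex by `t ↦ t⁻¹ * y`
  let φ : H ≃ H := (Equiv.inv H).trans (Equiv.mulRight (⟨y, hyH⟩ : H))
  rw [← Equiv.sum_comp φ]
  apply Finset.sum_congr rfl
  intro t _
  have hφ : φ t = t⁻¹ * (⟨y, hyH⟩ : H) := rfl
  rw [hφ]
  unfold shiftWeight
  rw [invWeight_apply]
  split_ifs with hdiv
  · rw [zero_mul, zero_mul]
  · rw [mul_comm]
    congr 1
    simp only [mul_inv_rev, inv_inv, Subgroup.coe_mul, Subgroup.coe_inv]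
    rw [← mul_assoc, mul_inv_cancel, one_mul]

end Cfsg.Agent.Helper6.NilAb
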