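import Mathlib
import Cfsg.Prelude.Def_Characters
import Cfsg.Prelude.Def_Blocks
import Cfsg.Prelude.Def_BlockRank
import Cfsg.Agent.Helper6.NilAbB

/-!
# Non-vanishing of all contributions against a character of height zero at a major subsection
-/

set_option autoImplicit false
set_option linter.style.haveILetI false

namespace Cfsg.Agent.Helper6.NilAb

open Cfsg.Agent.Helper6 Cfsg.Agent.Helper6.Maj

open scoped ComplexConjugate

universe u

variable {G : Type u} [Group G] {M : Ideal Cfsg.AlgInt}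

open Classical in
/-- **unit contribution**: for two characters of height zero of `B` and a subsection `(y, e)`,
`(|H| / θ₀(1)) m_{χψ}` is a unit of the local ring, `θ₀` of height zero in `e` -/
theorem contribution_not_mem [Fintype G] {p : ℕ} [hp : Fact p.Prime]
    (hM : Cfsg.IsPModular p M)
    (B : Set (Cfsg.IrrCharacter G)) (χ ψ : Cfsg.IrrCharacter G) (hχ : χ ∈ B) (hψ : ψ ∈ B)
    (h0χ : Cfsg.blockHeight p B (χ : G → ℂ) = 0) (h0ψ : Cfsg.blockHeight p B (ψ : G → ℂ) = 0)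
    (y : G) (hy : ∃ k : ℕ, orderOf y = p ^ k) (H : Subgroup G) [Fintype H]
    [Fintype (Cfsg.IrrCharacter H)] (hyH : y ∈ H)
    (hcomm : ∀ t : H, y * (t : G) = (t : G) * y)
    (e : Set (Cfsg.IrrCharacter H)) (he : Cfsg.IsInducedBlock M H e B)
    (θ₀ : Cfsg.IrrCharacter H) (hθ₀ : θ₀ ∈ e)
    (hθ₀h : Cfsg.blockHeight p e (θ₀ : H → ℂ) = 0) :
    ¬ Cfsg.MemLocalIdeal M ((Nat.card H : ℂ) / (θ₀ : H → ℂ) 1 *
      Cfsg.classInner (secPart p H e (χ : G → ℂ) y) (secPart p H e (ψ : G → ℂ) y)) := by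
  have hχc := IsIrrCharacter.isCharacter χ.2
  have hχcf := IsCharacter.isClassFunction hχc
  have hψc := IsIrrCharacter.isCharacter ψ.2
  have hψcf := IsCharacter.isClassFunction hψc
  have hmin := (blockHeight_eq_zero_iff e θ₀ hθ₀).mp hθ₀h
  have hθ01 : (θ₀ : H → ℂ) 1 ≠ 0 := IsIrrCharacter.apply_one_ne_zero θ₀.2
  have hc0 : (Nat.card H : ℂ) ≠ 0 := by
    have : 0 < Nat.card H := Nat.card_pos
    exact_mod_cast this.ne'
  -- the twists
  have hz : (⟨y, hyH⟩ : H) ∈ Subgroup.center H := by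
    rw [Subgroup.mem_center_iff]
    intro t
    apply Subtype.ext
    simp only [Subgroup.coe_mul]
    exact (hcomm t).symm
  choose ε hεn hε1 hε using fun θ : Cfsg.IrrCharacter H => exists_center_twist θ ⟨y, hyH⟩ hz
  obtain ⟨k, hk⟩ := hy
  have hzo : orderOf (⟨y, hyH⟩ : H) = p ^ k := by
    rw [← hk]
    exact Subgroup.orderOf_mk y hyH
  have hcoef : ∀ θ' : Cfsg.IrrCharacter H,
      Cfsg.classInner (fun c : H => (ψ : G → ℂ) (y * (c : G))) (θ' : H → ℂ) =
        ε θ' * Cfsg.classInner (fun c : H => (ψ : G → ℂ) (c : G)) (θ' : H → ℂ) := by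
    intro θ'
    have h1 := classInner_twist H (ψ : G → ℂ) y hyH θ' (ε θ') (hε1 θ') (hε θ') 1
    simp only [pow_one] at h1
    exact h1
  have hnat : ∀ θ' : Cfsg.IrrCharacter H, ∃ n : ℕ,
      Cfsg.classInner (fun c : H => (ψ : G → ℂ) (c : G)) (θ' : H → ℂ) = n := fun θ' =>
    classInner_char_char_nat (IsCharacter.restrict H hψc) (IsIrrCharacter.isCharacter θ'.2)
  have hεc : ∀ θ' : Cfsg.IrrCharacter H, conj (ε θ') ^ p ^ k = 1 := by
    intro θ'
    rw [← map_pow, ← hzo, hεn, map_one]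
  have hdloc : ∀ θ' : Cfsg.IrrCharacter H, Cfsg.MemLocalRing M
      (conj (Cfsg.classInner (fun c : H => (ψ : G → ℂ) (y * (c : G))) (θ' : H → ℂ))) := by
    intro θ'
    obtain ⟨n, hn⟩ := hnat θ'
    rw [hcoef, hn, map_mul, Complex.conj_natCast]
    apply MemLocalRing.mul hM.2.1 _ (memLocalRing_natCast hM.2.1 n)
    apply memLocalRing_of_isIntegral hM.2.1
    apply IsIntegral.of_pow (n := p ^ k) (pow_pos hp.out.pos k)
    rw [hεc]
    exact isIntegral_one
  have hdcong : ∀ θ' : Cfsg.IrrCharacter H, Cfsg.MemLocalIdeal M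
      (conj (Cfsg.classInner (fun c : H => (ψ : G → ℂ) (y * (c : G))) (θ' : H → ℂ)) -
        Cfsg.classInner (fun c : H => (ψ : G → ℂ) (c : G)) (θ' : H → ℂ)) := by
    intro θ'
    obtain ⟨n, hn⟩ := hnat θ'
    rw [hcoef, hn, map_mul, Complex.conj_natCast]
    have h1 : conj (ε θ') * (n : ℂ) - (n : ℂ) = (n : ℂ) * (conj (ε θ') - 1) := by ring
    rw [h1]
    exact MemLocalIdeal.mul_left hM.2.1 (memLocalRing_natCast hM.2.1 n)
      (memLocalIdeal_sub_one_of_pow hM.2.1 p hp.out hM.2.2 _ k (hεc θ'))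
  -- the main formula
  have hfcf := twistRes_isClassFunction H hχcf y hcomm
  have hfint : ∀ t : H, IsIntegral ℤ ((χ : G → ℂ) (y * (t : G))) := fun t =>
    IsCharacter.isIntegral_value hχc _
  have hform : (Nat.card H : ℂ) / (θ₀ : H → ℂ) 1 *
      Cfsg.classInner (secPart p H e (χ : G → ℂ) y) (secPart p H e (ψ : G → ℂ) y) =
      ∑ θ' : Cfsg.IrrCharacter H, if θ' ∈ e then
        conj (Cfsg.classInner (fun c : H => (ψ : G → ℂ) (y * (c : G))) (θ' : H → ℂ)) *
          (Sinv p (fun c : H => (χ : G → ℂ) (y * (c : G))) (θ' : H → ℂ) / (θ₀ : H → ℂ) 1)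
        else 0 := by
    rw [secPart_eq_sum p H e (ψ : G → ℂ) y, classInner_sum_right, Finset.mul_sum]
    apply Finset.sum_congr rfl
    intro θ' _
    by_cases hθ' : θ' ∈ e
    · rw [if_pos hθ', if_pos hθ', classInner_smul_right]
      have h1 : Cfsg.classInner (secPart p H e (χ : G → ℂ) y)
          (Cfsg.pRegularPart p (θ' : H → ℂ)) =
          (Nat.card H : ℂ)⁻¹ *
            Sinv p (fun c : H => (χ : G → ℂ) (y * (c : G))) (θ' : H → ℂ) := by
        unfold secPart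
        rw [← classInner_pRegularPart_left, classInner_pRegularPart_eq_Sinv p _
          (IsIrrCharacter.isCharacter θ'.2),
          Sinv_blockPart hM.2.1 p hM.2.2 e he.1 hfcf θ' hθ']
      rw [h1]
      field_simp
    · rw [if_neg hθ', if_neg hθ', classInner_zero_right, mul_zero]
  -- the congruences
  have hcong1 := sum_Sinv_congr hM e he.1 θ₀ hθ₀ hmin hfcf hfint _ hdloc
  have hQ := Sinv_twist_not_mem hM B χ hχ h0χ y ⟨k, hk⟩ H hcomm e he θ₀ hθ₀
  have hQloc := Sinv_div_memLocalRing (M := M) hM.2.1 p hfcf hfint θ₀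
  have hZ' := blockDegree_ratio_not_mem hM B ψ hψ h0ψ H e he θ₀ hθ₀ hmin
  have hZ'loc : Cfsg.MemLocalRing M (∑ θ : Cfsg.IrrCharacter H,
      if θ ∈ e then Cfsg.classInner (fun c : H => (ψ : G → ℂ) (c : G)) (θ : H → ℂ) *
        ((θ : H → ℂ) 1 / (θ₀ : H → ℂ) 1) else 0) := by
    apply MemLocalRing.sum hM.2.1
    intro θ _
    split_ifs with hθ
    · obtain ⟨n, hn⟩ := hnat θ
      rw [hn]
      exact MemLocalRing.mul hM.2.1 (memLocalRing_natCast hM.2.1 n)
        (degree_ratio_memLocalRing hM θ θ₀ (hmin θ hθ))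
    · exact memLocalRing_zero hM.2.1
  have hZdiff : Cfsg.MemLocalIdeal M
      ((∑ θ : Cfsg.IrrCharacter H, if θ ∈ e then
        conj (Cfsg.classInner (fun c : H => (ψ : G → ℂ) (y * (c : G))) (θ : H → ℂ)) *
          ((θ : H → ℂ) 1 / (θ₀ : H → ℂ) 1) else 0) -
      ∑ θ : Cfsg.IrrCharacter H,
        if θ ∈ e then Cfsg.classInner (fun c : H => (ψ : G → ℂ) (c : G)) (θ : H → ℂ) *
          ((θ : H → ℂ) 1 / (θ₀ : H → ℂ) 1) else 0) := by
    rw [← Finset.sum_sub_distrib]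
    apply MemLocalIdeal.sum hM.2.1
    intro θ _
    split_ifs with hθ
    · rw [← sub_mul, mul_comm]
      exact MemLocalIdeal.mul_left hM.2.1 (degree_ratio_memLocalRing hM θ θ₀ (hmin θ hθ))
        (hdcong θ)
    · rw [sub_zero]
      exact memLocalIdeal_zero hM.2.1
  intro hmem
  rw [hform] at hmem
  have h1 := MemLocalIdeal.sub hM.2.1 hmem hcong1
  rw [sub_sub_cancel] at h1
  -- `Q * Z ∈ M`, hence `Q * Z' ∈ M`
  have h2 := MemLocalIdeal.sub hM.2.1 h1 (MemLocalIdeal.mul_left hM.2.1 hQloc hZdiff)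
  rw [← mul_sub, sub_sub_cancel] at h2
  rcases MemLocalIdeal.of_mul hM.2.1 hQloc hZ'loc h2 with h3 | h3
  · exact hQ h3
  · exact hZ' h3


open Classical in
/-- **Brauer's (4C)**: at a major subsection, the contribution of any character of `B` against a
character of height zero does not vanish -/
theorem contribution_ne_zero_of_major [Fintype G] {p : ℕ} [hp : Fact p.Prime]
    (hM : Cfsg.IsPModular p M)
    (B : Set (Cfsg.IrrCharacter G)) (hB : Cfsg.IsPBlock M B) (χ ψ : Cfsg.IrrCharacter G)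
    (hχ : χ ∈ B) (hψ : ψ ∈ B)
    (h0ψ : Cfsg.blockHeight p B (ψ : G → ℂ) = 0)
    (y : G) (hy : ∃ k : ℕ, orderOf y = p ^ k) (H : Subgroup G) [Fintype H]
    [Fintype (Cfsg.IrrCharacter H)] (hyH : y ∈ H)
    (hcomm : ∀ t : H, y * (t : G) = (t : G) * y)
    (e : Set (Cfsg.IrrCharacter H)) (he : Cfsg.IsInducedBlock M H e B)
    (hmaj : Cfsg.blockDefect p e = Cfsg.blockDefect p B) :
    Cfsg.classInner (secPart p H e (χ : G → ℂ) y) (secPart p H e (ψ : G → ℂ) y) ≠ 0 := by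
  have hχc := IsIrrCharacter.isCharacter χ.2
  have hχcf := IsCharacter.isClassFunction hχc
  have hψc := IsIrrCharacter.isCharacter ψ.2
  have hψcf := IsCharacter.isClassFunction hψc
  obtain ⟨θ₁, hθ₁⟩ : ∃ θ₁ : Cfsg.IrrCharacter H, θ₁ ∈ e := by
    obtain ⟨θ₁, hb1⟩ := he.1
    exact ⟨θ₁, hb1 ▸ mem_blockOf_self hM.2.1 θ₁⟩
  obtain ⟨θ₀, hθ₀, hθ₀h⟩ := exists_height_zero p e ⟨θ₁, hθ₁⟩
  have hθ₀c := IsIrrCharacter.isCharacter θ₀.2
  have hunit := contribution_not_mem hM B ψ ψ hψ hψ h0ψ h0ψ y hy H hyH hcomm e he θ₀ hθ₀ hθ₀h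
  set u := shiftWeight p H e (ψ : G → ℂ) y hyH with hu
  have hucf := shiftWeight_isClassFunction p H e (ψ : G → ℂ) y hyH hcomm
  have huloc : ∀ t, Cfsg.MemLocalRing M (u t) := by
    intro t
    rw [hu]
    unfold shiftWeight
    split_ifs
    · exact memLocalRing_zero hM.2.1
    · exact memLocalRing_of_isIntegral hM.2.1
        (contribWeight_isIntegral hψc y H hyH hcomm e _)
  have hL := card_div_mul_sum_sub_of_sameBlock hM.2.1 H u hucf huloc (χ : G → ℂ) (ψ : G → ℂ)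
    hχcf hψcf (sameBlock_of_mem_block hM.2.1 B hB hχ hψ)
  have hsχ := card_mul_contribution_shift hM (χ : G → ℂ) (ψ : G → ℂ) hχcf y H hyH hcomm e he.1
  have hsψ := card_mul_contribution_shift hM (ψ : G → ℂ) (ψ : G → ℂ) hψcf y H hyH hcomm e he.1
  intro hzero
  rw [hzero, mul_zero] at hsχ
  have hχ1 : (χ : G → ℂ) 1 ≠ 0 := IsIrrCharacter.apply_one_ne_zero χ.2
  have hψ1 : (ψ : G → ℂ) 1 ≠ 0 := IsIrrCharacter.apply_one_ne_zero ψ.2
  have hθ01 : (θ₀ : H → ℂ) 1 ≠ 0 := IsIrrCharacter.apply_one_ne_zero θ₀.2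
  have hc0 : (Nat.card H : ℂ) ≠ 0 := by
    have : 0 < Nat.card H := Nat.card_pos
    exact_mod_cast this.ne'
  have hG0 : (Nat.card G : ℂ) ≠ 0 := by
    have : 0 < Nat.card G := Nat.card_pos
    exact_mod_cast this.ne'
  set m := Cfsg.classInner (secPart p H e (ψ : G → ℂ) y) (secPart p H e (ψ : G → ℂ) y) with hm
  have hsum : ∑ t : H, u t * ((χ : G → ℂ) (t : G) / (χ : G → ℂ) 1 -
      (ψ : G → ℂ) (t : G) / (ψ : G → ℂ) 1) = - ((Nat.card H : ℂ) * m / (ψ : G → ℂ) 1) := by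
    have h1 : ∀ t : H, u t * ((χ : G → ℂ) (t : G) / (χ : G → ℂ) 1 -
        (ψ : G → ℂ) (t : G) / (ψ : G → ℂ) 1) =
        (u t * (χ : G → ℂ) (t : G)) / (χ : G → ℂ) 1 -
          (u t * (ψ : G → ℂ) (t : G)) / (ψ : G → ℂ) 1 := by
      intro t; ring
    rw [Finset.sum_congr rfl (fun t _ => h1 t), Finset.sum_sub_distrib, ← Finset.sum_div,
      ← Finset.sum_div, ← hsχ, ← hsψ, zero_div, zero_sub]
  rw [hsum] at hL
  -- the ratio
  set n := Nat.card H * Cfsg.charDegree (ψ : G → ℂ) with hn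
  set d := Cfsg.charDegree (θ₀ : H → ℂ) * Nat.card G with hd
  have hdegψ : (Cfsg.charDegree (ψ : G → ℂ) : ℂ) = (ψ : G → ℂ) 1 :=
    charDegree_cast_of_isCharacter hψc
  have hdegθ : (Cfsg.charDegree (θ₀ : H → ℂ) : ℂ) = (θ₀ : H → ℂ) 1 :=
    charDegree_cast_of_isCharacter hθ₀c
  have hdψ0 : Cfsg.charDegree (ψ : G → ℂ) ≠ 0 := by
    intro h0
    rw [h0, Nat.cast_zero] at hdegψ
    exact hψ1 hdegψ.symm
  have hdθ0 : Cfsg.charDegree (θ₀ : H → ℂ) ≠ 0 := by
    intro h0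
    rw [h0, Nat.cast_zero] at hdegθ
    exact hθ01 hdegθ.symm
  have hH0 : Nat.card H ≠ 0 := Nat.card_pos.ne'
  have hGn0 : Nat.card G ≠ 0 := Nat.card_pos.ne'
  have hn0 : n ≠ 0 := Nat.mul_ne_zero hH0 hdψ0
  have hd0 : d ≠ 0 := Nat.mul_ne_zero hdθ0 hGn0
  have hfac : d.factorization p ≤ n.factorization p := by
    rw [hn, hd, Nat.factorization_mul hH0 hdψ0, Nat.factorization_mul hdθ0 hGn0]
    simp only [Finsupp.coe_add, Pi.add_apply]
    rw [factorization_charDegree_eq p B ψ hψ,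
      factorization_charDegree_eq p e θ₀ hθ₀, h0ψ, hθ₀h, hmaj]
    have h1 : Cfsg.blockDefect p B ≤ (Nat.card G).factorization p := by
      unfold Cfsg.blockDefect
      exact Nat.sub_le _ _
    have h2 : Cfsg.blockDefect p e ≤ (Nat.card H).factorization p := by
      unfold Cfsg.blockDefect
      exact Nat.sub_le _ _
    rw [hmaj] at h2
    omega
  have hr := (memLocalRing_natCast_div_iff hM n d hn0 hd0).mpr hfac
  apply hunit
  have h3 : (Nat.card H : ℂ) / (θ₀ : H → ℂ) 1 * m =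
      -(((n : ℂ) / (d : ℂ)) * ((Nat.card G : ℂ) / (Nat.card H : ℂ) *
        -((Nat.card H : ℂ) * m / (ψ : G → ℂ) 1))) := by
    rw [hn, hd]
    push_cast
    rw [hdegψ, hdegθ]
    field_simp
  rw [h3]
  exact MemLocalIdeal.neg (MemLocalIdeal.mul_left hM.2.1 hr hL)

end Cfsg.Agent.Helper6.NilAb
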