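import Mathlib
import Cfsg.Prelude.Def_Characters
import Cfsg.Prelude.Def_Blocks
import Cfsg.Prelude.Def_BlockRank
import Cfsg.Agent.Helper6.NilAbC

/-!
# `k(B) ≤ p^d` from a major subsection of rank one
-/

set_option autoImplicit false
set_option linter.style.haveILetI false

namespace Cfsg.Agent.Helper6.NilAb

open Cfsg.Agent.Helper6 Cfsg.Agent.Helper6.Maj

open Module
open scoped ComplexConjugate

universe u

variable {G : Type u} [Group G] {M : Ideal Cfsg.AlgInt}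

open Classical in
/-- the section parts lie in the span of the truncated members of the block -/
theorem secPart_mem_span (p : ℕ) (H : Subgroup G) [Fintype H] [Fintype (Cfsg.IrrCharacter H)]
    (e : Set (Cfsg.IrrCharacter H)) (χ : G → ℂ) (y : G) :
    secPart p H e χ y ∈ Submodule.span ℂ
      ((fun θ : Cfsg.IrrCharacter H => Cfsg.pRegularPart p (θ : H → ℂ)) '' e) := by
  rw [secPart_eq_sum]
  apply Submodule.sum_mem
  intro θ _
  split_ifs with hθ
  · exact Submodule.smul_mem _ _ (Submodule.subset_span ⟨θ, hθ, rfl⟩)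
  · exact Submodule.zero_mem _

open Classical in
/-- **all contributions at a major subsection of rank one are non-zero** -/
theorem contribution_ne_zero_of_rank_one [Fintype G] {p : ℕ} [hp : Fact p.Prime]
    (hM : Cfsg.IsPModular p M)
    (B : Set (Cfsg.IrrCharacter G)) (hB : Cfsg.IsPBlock M B) (χ ψ : Cfsg.IrrCharacter G)
    (hχ : χ ∈ B) (hψ : ψ ∈ B)
    (y : G) (hy : ∃ k : ℕ, orderOf y = p ^ k) (H : Subgroup G) [Fintype H]
    [Fintype (Cfsg.IrrCharacter H)] (hyH : y ∈ H)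
    (hcomm : ∀ t : H, y * (t : G) = (t : G) * y)
    (e : Set (Cfsg.IrrCharacter H)) (he : Cfsg.IsInducedBlock M H e B)
    (hmaj : Cfsg.blockDefect p e = Cfsg.blockDefect p B)
    (hl : Cfsg.blockRank p e = 1) :
    Cfsg.classInner (secPart p H e (χ : G → ℂ) y) (secPart p H e (ψ : G → ℂ) y) ≠ 0 := by
  obtain ⟨ψ₀, hψ₀, hψ₀h⟩ := exists_height_zero p B ⟨χ, hχ⟩
  set S := Submodule.span ℂ
    ((fun θ : Cfsg.IrrCharacter H => Cfsg.pRegularPart p (θ : H → ℂ)) '' e) with hS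
  have hS1 : finrank ℂ S = 1 := hl
  set v₀ := secPart p H e (ψ₀ : G → ℂ) y with hv₀
  have h00 := contribution_ne_zero_of_major hM B hB ψ₀ ψ₀ hψ₀ hψ₀ hψ₀h y hy H hyH hcomm e he hmaj
  have hv₀S : v₀ ∈ S := secPart_mem_span p H e _ y
  have hv₀ne : (⟨v₀, hv₀S⟩ : S) ≠ 0 := by
    intro h0
    have : v₀ = 0 := congrArg Subtype.val h0
    apply h00
    rw [← hv₀, this, classInner_zero_right]
  have key : ∀ ξ : Cfsg.IrrCharacter G, ξ ∈ B → ∃ c : ℂ, c ≠ 0 ∧
      secPart p H e (ξ : G → ℂ) y = c • v₀ := by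
    intro ξ hξ
    obtain ⟨c, hc⟩ := exists_smul_eq_of_finrank_eq_one hS1 hv₀ne
      ⟨secPart p H e (ξ : G → ℂ) y, secPart_mem_span p H e _ y⟩
    have hc' : c • v₀ = secPart p H e (ξ : G → ℂ) y := congrArg Subtype.val hc
    refine ⟨c, ?_, hc'.symm⟩
    intro h0
    have h1 := contribution_ne_zero_of_major hM B hB ξ ψ₀ hξ hψ₀ hψ₀h y hy H hyH hcomm e he hmaj
    apply h1
    rw [← hc', h0, zero_smul, classInner_zero_left]
  obtain ⟨a, ha, hav⟩ := key χ hχ
  obtain ⟨b, hb, hbv⟩ := key ψ hψ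
  rw [hav, hbv, classInner_smul_left, classInner_smul_right]
  exact mul_ne_zero ha (mul_ne_zero ((map_ne_zero _).mpr hb) h00)


open Classical in
/-- **Brauer's inequality for a subsection**: if all contributions at the subsection `(y, b)` of
`B` are non-zero and `b` has defect `q`, then `k(B)^2 ≤ p^(2q) l(b)`. -/
theorem card_sq_le_of_contributions_ne_zero [Finite G] {p : ℕ} [hp : Fact p.Prime]
    (hM : Cfsg.IsPModular p M)
    (B : Set (Cfsg.IrrCharacter G))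
    (y : G) (hy : ∃ k : ℕ, orderOf y = p ^ k)
    (H : Subgroup G) (hHdef : H = Subgroup.centralizer ({y} : Set G))
    (b : Set (Cfsg.IrrCharacter H))
    (hind : Cfsg.IsInducedBlock M H b B)
    (hne : ∀ [Fintype H], ∀ χ ∈ B, ∀ ψ ∈ B,
      Cfsg.classInner (secPart p H b (χ : G → ℂ) y) (secPart p H b (ψ : G → ℂ) y) ≠ 0) :
    Nat.card B ^ 2 ≤ p ^ (2 * Cfsg.blockDefect p b) * Cfsg.blockRank p b := by
  haveI : Fintype G := Fintype.ofFinite G
  haveI : Fintype H := Fintype.ofFinite H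
  haveI : Finite (Cfsg.IrrCharacter G) := irr_finite
  haveI : Finite (Cfsg.IrrCharacter H) := irr_finite
  haveI : Fintype (Cfsg.IrrCharacter G) := Fintype.ofFinite _
  haveI : Fintype (Cfsg.IrrCharacter H) := Fintype.ofFinite _
  set n := orderOf y with hn
  haveI : NeZero n := ⟨(orderOf_pos y).ne'⟩
  set d := Cfsg.blockDefect p b with hd
  have hyH : y ∈ H := by
    rw [hHdef, Subgroup.mem_centralizer_singleton_iff]
  have hcomm : ∀ t : H, y * (t : G) = (t : G) * y := fun t =>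
    Subgroup.mem_centralizer_iff.mp (hHdef ▸ t.2) y (Set.mem_singleton y)
  have hz : (⟨y, hyH⟩ : H) ∈ Subgroup.center H := by
    rw [Subgroup.mem_center_iff]
    intro t
    apply Subtype.ext
    simp only [Subgroup.coe_mul]
    exact (hcomm t).symm
  have hzo : orderOf (⟨y, hyH⟩ : H) = n := Subgroup.orderOf_mk y hyH
  choose ε hεn hε1 hε using fun θ : Cfsg.IrrCharacter H => exists_center_twist θ ⟨y, hyH⟩ hz
  set μ : Cfsg.IrrCharacter H × Cfsg.IrrCharacter H → ℂ :=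
    fun i => ε i.1 * conj (ε i.2) with hμdef
  have hμ : ∀ i, μ i ^ n = 1 := by
    intro i
    rw [hμdef]
    simp only
    rw [mul_pow, ← map_pow, ← hzo, hεn, hεn, map_one, one_mul]
  have hW : ∀ χ ψ : Cfsg.IrrCharacter G,
      ∃ W : Cfsg.IrrCharacter H × Cfsg.IrrCharacter H → ℤ, ∀ i,
      ((p : ℂ) ^ Cfsg.blockDefect p b) * (if i.1 ∈ b ∧ i.2 ∈ b then
        Cfsg.classInner (fun c : H => (χ : G → ℂ) (c : G)) (i.1 : H → ℂ) *
        conj (Cfsg.classInner (fun c : H => (ψ : G → ℂ) (c : G)) (i.2 : H → ℂ)) *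
        Cfsg.classInner (Cfsg.pRegularPart p (i.1 : H → ℂ))
          (Cfsg.pRegularPart p (i.2 : H → ℂ)) else 0) = (W i : ℂ) := fun χ ψ =>
    exists_int_weights hM H b (IsIrrCharacter.isCharacter χ.2) (IsIrrCharacter.isCharacter ψ.2)
  choose W hW using hW
  have hAform : ∀ (j : ℕ) (χ ψ : Cfsg.IrrCharacter G),
      (p : ℂ) ^ d * Cfsg.classInner (secPart p H b (χ : G → ℂ) (y ^ j))
        (secPart p H b (ψ : G → ℂ) (y ^ j)) = ∑ i, (W χ ψ i : ℂ) * μ i ^ j := by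
    intro j χ ψ
    rw [classInner_secPart_pow p H b _ _ y hyH ε hε1 hε j, Finset.mul_sum]
    apply Finset.sum_congr rfl
    intro i _
    rw [← mul_assoc, hW χ ψ i]
  set FB := Finset.univ.filter (fun χ : Cfsg.IrrCharacter G => χ ∈ B) with hFB
  have hcard : Nat.card B = FB.card := by
    rw [Nat.card_eq_fintype_card, Fintype.card_subtype]
  have hpd : (0 : ℝ) < (p : ℝ) ^ d := pow_pos (by exact_mod_cast hp.out.pos) d
  have hk : ∀ k : (ZMod n)ˣ,
      ∑ χ ∈ FB, ∑ ψ ∈ FB, ‖∑ i, (W χ ψ i : ℂ) * μ i ^ (k : ZMod n).val‖ ^ 2 =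
        (p : ℝ) ^ (2 * d) * (Cfsg.blockRank p b : ℝ) := by
    intro k
    have hcop : Nat.Coprime (k : ZMod n).val n := ZMod.val_coe_unit_coprime k
    have hHk : H = Subgroup.centralizer ({y ^ (k : ZMod n).val} : Set G) :=
      hHdef.trans (centralizer_pow_eq y _ hcop)
    have hyk : ∃ m : ℕ, orderOf (y ^ (k : ZMod n).val) = p ^ m := by
      obtain ⟨m, hm⟩ := hy
      have h1 : orderOf (y ^ (k : ZMod n).val) ∣ p ^ m := hm ▸ orderOf_pow_dvd _
      obtain ⟨m', _, hm'⟩ := (Nat.dvd_prime_pow hp.out).mp h1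
      exact ⟨m', hm'⟩
    have h2 := sum_sum_normSq_secPart hM B _ hyk H hHk b hind
    rw [← h2, Finset.mul_sum]
    apply Finset.sum_congr rfl
    intro χ _
    rw [Finset.mul_sum]
    apply Finset.sum_congr rfl
    intro ψ _
    rw [← hAform, norm_mul, mul_pow, norm_pow, Complex.norm_natCast, ← pow_mul, mul_comm d 2]
  have hge : ∀ χ ∈ FB, ∀ ψ ∈ FB, (Fintype.card (ZMod n)ˣ : ℝ) ≤
      ∑ k : (ZMod n)ˣ, ‖∑ i, (W χ ψ i : ℂ) * μ i ^ (k : ZMod n).val‖ ^ 2 := by
    intro χ hχ ψ hψ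
    have hχB : χ ∈ B := (Finset.mem_filter.mp hχ).2
    have hψB : ψ ∈ B := (Finset.mem_filter.mp hψ).2
    apply sum_norm_sq_wpowSum_ge n (W χ ψ) μ hμ
    have h1 := hAform 1 χ ψ
    simp only [pow_one] at h1
    rw [← h1]
    apply mul_ne_zero
    · exact pow_ne_zero _ (by exact_mod_cast hp.out.ne_zero)
    · exact hne χ hχB ψ hψB
  have hφ : (0 : ℝ) < (Fintype.card (ZMod n)ˣ : ℝ) := by
    exact_mod_cast Fintype.card_pos
  have hmain : ((FB.card : ℝ) ^ 2) * (Fintype.card (ZMod n)ˣ : ℝ) ≤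
      (Fintype.card (ZMod n)ˣ : ℝ) * ((p : ℝ) ^ (2 * d) * (Cfsg.blockRank p b : ℝ)) := by
    calc ((FB.card : ℝ) ^ 2) * (Fintype.card (ZMod n)ˣ : ℝ)
        = ∑ χ ∈ FB, ∑ ψ ∈ FB, (Fintype.card (ZMod n)ˣ : ℝ) := by
          simp only [Finset.sum_const, nsmul_eq_mul]
          ring
      _ ≤ ∑ χ ∈ FB, ∑ ψ ∈ FB,
            ∑ k : (ZMod n)ˣ, ‖∑ i, (W χ ψ i : ℂ) * μ i ^ (k : ZMod n).val‖ ^ 2 :=
          Finset.sum_le_sum fun χ hχ => Finset.sum_le_sum fun ψ hψ => hge χ hχ ψ hψ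
      _ = ∑ k : (ZMod n)ˣ, ∑ χ ∈ FB, ∑ ψ ∈ FB,
            ‖∑ i, (W χ ψ i : ℂ) * μ i ^ (k : ZMod n).val‖ ^ 2 := by
          have h1 : ∀ χ ∈ FB, ∑ ψ ∈ FB, ∑ k : (ZMod n)ˣ,
              ‖∑ i, (W χ ψ i : ℂ) * μ i ^ (k : ZMod n).val‖ ^ 2 =
              ∑ k : (ZMod n)ˣ, ∑ ψ ∈ FB,
                ‖∑ i, (W χ ψ i : ℂ) * μ i ^ (k : ZMod n).val‖ ^ 2 := fun χ _ => Finset.sum_comm
          rw [Finset.sum_congr rfl h1, Finset.sum_comm]
      _ = (Fintype.card (ZMod n)ˣ : ℝ) * ((p : ℝ) ^ (2 * d) * (Cfsg.blockRank p b : ℝ)) := by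
          rw [Finset.sum_congr rfl (fun k _ => hk k)]
          simp only [Finset.sum_const, nsmul_eq_mul, Finset.card_univ]
  have hfin : ((FB.card : ℝ) ^ 2) ≤ (p : ℝ) ^ (2 * d) * (Cfsg.blockRank p b : ℝ) := by
    rw [mul_comm] at hmain
    exact le_of_mul_le_mul_left hmain hφ
  rw [hcard]
  exact_mod_cast hfin


/-- **`k(B) ≤ p^d` from a major subsection of rank one** -/
theorem card_le_of_major_rank_one [Finite G] {p : ℕ} [hp : Fact p.Prime]
    (hM : Cfsg.IsPModular p M)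
    (B : Set (Cfsg.IrrCharacter G)) (hB : Cfsg.IsPBlock M B)
    (y : G) (hy : ∃ k : ℕ, orderOf y = p ^ k)
    (b : Set (Cfsg.IrrCharacter ↥(Subgroup.centralizer ({y} : Set G))))
    (hind : Cfsg.IsInducedBlock M (Subgroup.centralizer ({y} : Set G)) b B)
    (hmaj : Cfsg.blockDefect p b = Cfsg.blockDefect p B)
    (hl : Cfsg.blockRank p b = 1) :
    Nat.card B ≤ p ^ Cfsg.blockDefect p B := by
  classical
  haveI : Fintype G := Fintype.ofFinite G
  haveI : Finite (Cfsg.IrrCharacter ↥(Subgroup.centralizer ({y} : Set G))) := irr_finite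
  have hyH : y ∈ Subgroup.centralizer ({y} : Set G) := by
    rw [Subgroup.mem_centralizer_singleton_iff]
  have hcomm : ∀ t : Subgroup.centralizer ({y} : Set G), y * (t : G) = (t : G) * y := fun t =>
    Subgroup.mem_centralizer_iff.mp t.2 y (Set.mem_singleton y)
  have h := card_sq_le_of_contributions_ne_zero hM B y hy _ rfl b hind (by
    intro inst χ hχ ψ hψ
    haveI : Fintype (Cfsg.IrrCharacter ↥(Subgroup.centralizer ({y} : Set G))) :=
      Fintype.ofFinite _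
    exact contribution_ne_zero_of_rank_one hM B hB χ ψ hχ hψ y hy _ hyH hcomm b hind hmaj hl)
  rw [hl, mul_one, hmaj, mul_comm 2, pow_mul] at h
  exact (Nat.pow_le_pow_iff_left (by norm_num)).mp h

end Cfsg.Agent.Helper6.NilAb
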