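import Mathlib
import Cfsg.Prelude.Def_Characters
import Cfsg.Prelude.Def_Blocks
import Cfsg.Prelude.Def_BlockRank
import Cfsg.Agent.Helper6.NilAbD

/-!
# Contributions at a major subsection against a character of height zero: the exact valuation

`B` a block of defect `d`, `(y, e)` a major subsection (`e` a block of `H ≤ C_G(y)`, `e^G = B`, of
defect `d`), `ψ ∈ B` of height zero, `χ ∈ B` of height `h`: then `p^d m_{χψ} / p^h` is a local
integer (Brauer, *On blocks and sections II*, (5H)), and so are its Galois conjugates, whence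
`∑_k |p^d m^{(y^k)}_{χψ}| ≥ φ(|y|) p^h`.
-/

set_option autoImplicit false
set_option linter.style.haveILetI false

namespace Cfsg.Agent.Helper6.HtCen

open Cfsg.Agent.Helper6 Cfsg.Agent.Helper6.Maj Cfsg.Agent.Helper6.NilAb

open scoped ComplexConjugate

universe u

variable {G : Type u} [Group G] {M : Ideal Cfsg.AlgInt}

theorem memLocalRing_of_ideal {z : ℂ} (hz : Cfsg.MemLocalIdeal M z) : Cfsg.MemLocalRing M z := by
  obtain ⟨a, b, _, hb, rfl⟩ := hz
  exact ⟨a, b, hb, rfl⟩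

open Classical in
/-- `p^d m_{χψ}` is an algebraic integer -/
theorem pow_defect_contribution_isIntegral [Fintype G] {p : ℕ} [hp : Fact p.Prime]
    (hM : Cfsg.IsPModular p M) (χ ψ : Cfsg.IrrCharacter G)
    (y : G) (H : Subgroup G) [Fintype H]
    [Fintype (Cfsg.IrrCharacter H)] (hyH : y ∈ H)
    (hcomm : ∀ t : H, y * (t : G) = (t : G) * y)
    (e : Set (Cfsg.IrrCharacter H)) :
    IsIntegral ℤ ((p : ℂ) ^ Cfsg.blockDefect p e *
      Cfsg.classInner (secPart p H e (χ : G → ℂ) y) (secPart p H e (ψ : G → ℂ) y)) := by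
  have hz : (⟨y, hyH⟩ : H) ∈ Subgroup.center H := by
    rw [Subgroup.mem_center_iff]
    intro t
    apply Subtype.ext
    simp only [Subgroup.coe_mul]
    exact (hcomm t).symm
  choose ε hεn hε1 hε using fun θ : Cfsg.IrrCharacter H => exists_center_twist θ ⟨y, hyH⟩ hz
  obtain ⟨W, hW⟩ := exists_int_weights hM H e (IsIrrCharacter.isCharacter χ.2)
    (IsIrrCharacter.isCharacter ψ.2)
  have h1 := classInner_secPart_pow p H e (χ : G → ℂ) (ψ : G → ℂ) y hyH ε hε1 hε 1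
  rw [pow_one] at h1
  rw [h1, Finset.mul_sum]
  apply IsIntegral.sum
  intro i _
  rw [← mul_assoc, hW i, pow_one]
  apply IsIntegral.mul
  · exact isIntegral_algebraMap (R := ℤ) (A := ℂ) (x := W i) |> fun h => by simpa using h
  · have hroot : (ε i.1 * conj (ε i.2)) ^ orderOf (⟨y, hyH⟩ : H) = 1 := by
      rw [mul_pow, ← map_pow, hεn, hεn, map_one, one_mul]
    exact IsIntegral.of_pow (orderOf_pos _) (by rw [hroot]; exact isIntegral_one)

open Classical in
/-- **(5H)**: at a major subsection, against a character of height zero, `p^d m_{χψ} / p^h` is a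
local integer, `h` the height of `χ` -/
theorem contribution_div_mem [Fintype G] {p : ℕ} [hp : Fact p.Prime]
    (hM : Cfsg.IsPModular p M)
    (B : Set (Cfsg.IrrCharacter G)) (hB : Cfsg.IsPBlock M B) (χ ψ : Cfsg.IrrCharacter G)
    (hχ : χ ∈ B) (hψ : ψ ∈ B)
    (h0ψ : Cfsg.blockHeight p B (ψ : G → ℂ) = 0)
    (y : G) (H : Subgroup G) [Fintype H]
    [Fintype (Cfsg.IrrCharacter H)] (hyH : y ∈ H)
    (hcomm : ∀ t : H, y * (t : G) = (t : G) * y)
    (e : Set (Cfsg.IrrCharacter H)) (he : Cfsg.IsInducedBlock M H e B)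
    (hmaj : Cfsg.blockDefect p e = Cfsg.blockDefect p B) :
    Cfsg.MemLocalRing M ((p : ℂ) ^ Cfsg.blockDefect p B *
      Cfsg.classInner (secPart p H e (χ : G → ℂ) y) (secPart p H e (ψ : G → ℂ) y) /
        (p : ℂ) ^ Cfsg.blockHeight p B (χ : G → ℂ)) := by
  have hχc := IsIrrCharacter.isCharacter χ.2
  have hχcf := IsCharacter.isClassFunction hχc
  have hψc := IsIrrCharacter.isCharacter ψ.2
  have hψcf := IsCharacter.isClassFunction hψc
  set u := shiftWeight p H e (ψ : G → ℂ) y hyH with hu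
  have hucf := shiftWeight_isClassFunction p H e (ψ : G → ℂ) y hyH hcomm
  have huloc : ∀ t, Cfsg.MemLocalRing M (u t) := by
    intro t
    rw [hu]
    unfold shiftWeight
    split_ifs
    · exact memLocalRing_zero hM.2.1
    · exact memLocalRing_of_isIntegral hM.2.1
        (contribWeight_isIntegral hψc y H hyH hcomm e _)
  have hL := card_div_mul_sum_sub_of_sameBlock hM.2.1 H u hucf huloc (χ : G → ℂ) (ψ : G → ℂ)
    hχcf hψcf (sameBlock_of_mem_block hM.2.1 B hB hχ hψ)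
  have hsχ := card_mul_contribution_shift hM (χ : G → ℂ) (ψ : G → ℂ) hχcf y H hyH hcomm e he.1
  have hsψ := card_mul_contribution_shift hM (ψ : G → ℂ) (ψ : G → ℂ) hψcf y H hyH hcomm e he.1
  have hχ1 : (χ : G → ℂ) 1 ≠ 0 := IsIrrCharacter.apply_one_ne_zero χ.2
  have hψ1 : (ψ : G → ℂ) 1 ≠ 0 := IsIrrCharacter.apply_one_ne_zero ψ.2
  have hc0 : (Nat.card H : ℂ) ≠ 0 := by
    have : 0 < Nat.card H := Nat.card_pos
    exact_mod_cast this.ne'
  have hG0 : (Nat.card G : ℂ) ≠ 0 := by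
    have : 0 < Nat.card G := Nat.card_pos
    exact_mod_cast this.ne'
  set mχ := Cfsg.classInner (secPart p H e (χ : G → ℂ) y) (secPart p H e (ψ : G → ℂ) y) with hmχ
  set mψ := Cfsg.classInner (secPart p H e (ψ : G → ℂ) y) (secPart p H e (ψ : G → ℂ) y) with hmψ
  have hsum : ∑ t : H, u t * ((χ : G → ℂ) (t : G) / (χ : G → ℂ) 1 -
      (ψ : G → ℂ) (t : G) / (ψ : G → ℂ) 1) =
      (Nat.card H : ℂ) * mχ / (χ : G → ℂ) 1 - (Nat.card H : ℂ) * mψ / (ψ : G → ℂ) 1 := by
    have h1 : ∀ t : H, u t * ((χ : G → ℂ) (t : G) / (χ : G → ℂ) 1 -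
        (ψ : G → ℂ) (t : G) / (ψ : G → ℂ) 1) =
        (u t * (χ : G → ℂ) (t : G)) / (χ : G → ℂ) 1 -
          (u t * (ψ : G → ℂ) (t : G)) / (ψ : G → ℂ) 1 := by
      intro t; ring
    rw [Finset.sum_congr rfl (fun t _ => h1 t), Finset.sum_sub_distrib, ← Finset.sum_div,
      ← Finset.sum_div, ← hsχ, ← hsψ]
  rw [hsum] at hL
  -- notation
  set a := (Nat.card G).factorization p with ha
  set d := Cfsg.blockDefect p B with hd
  set h := Cfsg.blockHeight p B (χ : G → ℂ) with hh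
  have hdegχ : (Cfsg.charDegree (χ : G → ℂ) : ℂ) = (χ : G → ℂ) 1 :=
    charDegree_cast_of_isCharacter hχc
  have hdegψ : (Cfsg.charDegree (ψ : G → ℂ) : ℂ) = (ψ : G → ℂ) 1 :=
    charDegree_cast_of_isCharacter hψc
  have hdχ0 : Cfsg.charDegree (χ : G → ℂ) ≠ 0 := by
    intro h0
    rw [h0, Nat.cast_zero] at hdegχ
    exact hχ1 hdegχ.symm
  have hdψ0 : Cfsg.charDegree (ψ : G → ℂ) ≠ 0 := by
    intro h0
    rw [h0, Nat.cast_zero] at hdegψ
    exact hψ1 hdegψ.symm
  have hGn0 : Nat.card G ≠ 0 := Nat.card_pos.ne'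
  have hda : d ≤ a := by
    rw [hd, ha]
    unfold Cfsg.blockDefect
    exact Nat.sub_le _ _
  have hfχ : (Cfsg.charDegree (χ : G → ℂ)).factorization p = (a - d) + h :=
    factorization_charDegree_eq p B χ hχ
  have hfψ : (Cfsg.charDegree (ψ : G → ℂ)).factorization p = (a - d) + 0 := by
    have := factorization_charDegree_eq p B ψ hψ
    rw [h0ψ] at this
    exact this
  have hpp : ∀ k : ℕ, (p ^ k).factorization p = k := by
    intro k
    rw [Nat.Prime.factorization_pow hp.out, Finsupp.single_eq_same]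
  have hp0 : ∀ k : ℕ, p ^ k ≠ 0 := fun k => pow_ne_zero _ hp.out.ne_zero
  -- `X_ψ = |G| m_ψψ / ψ(1)` is a local integer
  have hint : Cfsg.MemLocalRing M ((p : ℂ) ^ d * mψ) := by
    have := pow_defect_contribution_isIntegral hM ψ ψ y H hyH hcomm e
    rw [hmaj] at this
    exact memLocalRing_of_isIntegral hM.2.1 this
  have hr1 : Cfsg.MemLocalRing M (((Nat.card G : ℕ) : ℂ) /
      ((p ^ d * Cfsg.charDegree (ψ : G → ℂ) : ℕ) : ℂ)) := by
    rw [memLocalRing_natCast_div_iff hM _ _ hGn0 (Nat.mul_ne_zero (hp0 d) hdψ0)]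
    rw [Nat.factorization_mul (hp0 d) hdψ0, Finsupp.add_apply, hpp, hfψ]
    omega
  have hXψ : Cfsg.MemLocalRing M ((Nat.card G : ℂ) * mψ / (ψ : G → ℂ) 1) := by
    have h1 : (Nat.card G : ℂ) * mψ / (ψ : G → ℂ) 1 =
        (((Nat.card G : ℕ) : ℂ) / ((p ^ d * Cfsg.charDegree (ψ : G → ℂ) : ℕ) : ℂ)) *
          ((p : ℂ) ^ d * mψ) := by
      push_cast
      rw [hdegψ]
      have hpc : (p : ℂ) ≠ 0 := by exact_mod_cast hp.out.ne_zero
      field_simp
    rw [h1]
    exact MemLocalRing.mul hM.2.1 hr1 hint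
  -- `X_χ` is a local integer
  have hXχ : Cfsg.MemLocalRing M ((Nat.card G : ℂ) * mχ / (χ : G → ℂ) 1) := by
    have h1 : (Nat.card G : ℂ) * mχ / (χ : G → ℂ) 1 =
        (Nat.card G : ℂ) * mψ / (ψ : G → ℂ) 1 + (Nat.card G : ℂ) / (Nat.card H : ℂ) *
          ((Nat.card H : ℂ) * mχ / (χ : G → ℂ) 1 - (Nat.card H : ℂ) * mψ / (ψ : G → ℂ) 1) := by
      field_simp
      ring
    rw [h1]
    exact MemLocalRing.add hM.2.1 hXψ (memLocalRing_of_ideal hL)
  -- the ratio
  have hr2 : Cfsg.MemLocalRing M (((p ^ d * Cfsg.charDegree (χ : G → ℂ) : ℕ) : ℂ) /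
      ((Nat.card G * p ^ h : ℕ) : ℂ)) := by
    rw [memLocalRing_natCast_div_iff hM _ _ (Nat.mul_ne_zero (hp0 d) hdχ0)
      (Nat.mul_ne_zero hGn0 (hp0 h))]
    rw [Nat.factorization_mul (hp0 d) hdχ0, Nat.factorization_mul hGn0 (hp0 h),
      Finsupp.add_apply, Finsupp.add_apply, hpp, hpp, hfχ]
    omega
  have h2 : (p : ℂ) ^ d * mχ / (p : ℂ) ^ h =
      (((p ^ d * Cfsg.charDegree (χ : G → ℂ) : ℕ) : ℂ) / ((Nat.card G * p ^ h : ℕ) : ℂ)) *
        ((Nat.card G : ℂ) * mχ / (χ : G → ℂ) 1) := by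
    push_cast
    rw [hdegχ]
    have hpc : (p : ℂ) ≠ 0 := by exact_mod_cast hp.out.ne_zero
    field_simp
  rw [h2]
  exact MemLocalRing.mul hM.2.1 hr2 hXχ

end Cfsg.Agent.Helper6.HtCen
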