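import Mathlib
import Cfsg.Prelude.Def_Characters
import Cfsg.Prelude.Def_Blocks
import Cfsg.Prelude.Def_BlockRank
import Cfsg.Agent.Helper6.HtCenA

/-!
# The Galois conjugates of a contribution at a major subsection: `∑_k |p^d m^{(y^k)}_{χψ}| ≥ φ(|y|) p^h`
-/

set_option autoImplicit false
set_option linter.style.haveILetI false

namespace Cfsg.Agent.Helper6.HtCen

open Cfsg.Agent.Helper6 Cfsg.Agent.Helper6.Maj Cfsg.Agent.Helper6.NilAb

open scoped ComplexConjugate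

universe u

variable {G : Type u} [Group G] {M : Ideal Cfsg.AlgInt}

/-- a rational number `m / p^k` that is a local integer is an integer -/
theorem pow_dvd_of_memLocalRing {p : ℕ} [hp : Fact p.Prime] (hM : Cfsg.IsPModular p M)
    (m : ℤ) (hm : m ≠ 0) (k : ℕ)
    (h : Cfsg.MemLocalRing M ((m : ℂ) / ((p ^ k : ℕ) : ℂ))) : p ^ k ≤ m.natAbs := by
  have hn0 : m.natAbs ≠ 0 := Int.natAbs_ne_zero.mpr hm
  have hp0 : p ^ k ≠ 0 := pow_ne_zero _ hp.out.ne_zero
  have hcases := Int.natAbs_eq m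
  set a := m.natAbs with ha
  clear_value a
  have h1 : Cfsg.MemLocalRing M ((a : ℂ) / ((p ^ k : ℕ) : ℂ)) := by
    rcases hcases with h2 | h2
    · have h3 : (m : ℂ) = (a : ℂ) := by
        rw [h2]
        push_cast
        rfl
      rwa [h3] at h
    · have h3 : (m : ℂ) = -(a : ℂ) := by
        rw [h2]
        push_cast
        rfl
      have h4 : (a : ℂ) / ((p ^ k : ℕ) : ℂ) = -((m : ℂ) / ((p ^ k : ℕ) : ℂ)) := by
        rw [h3]
        ring
      rw [h4]
      exact MemLocalRing.neg h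
  rw [memLocalRing_natCast_div_iff hM _ _ hn0 hp0, Nat.Prime.factorization_pow hp.out,
    Finsupp.single_eq_same] at h1
  have h3 : p ^ k ∣ a := (Nat.Prime.pow_dvd_iff_le_factorization hp.out hn0).mpr h1
  exact Nat.le_of_dvd (Nat.pos_of_ne_zero hn0) h3

theorem memLocalRing_prod (hM : M.IsMaximal) {ι : Type*} (s : Finset ι) (f : ι → ℂ)
    (h : ∀ i ∈ s, Cfsg.MemLocalRing M (f i)) : Cfsg.MemLocalRing M (∏ i ∈ s, f i) := by
  classical
  induction s using Finset.induction_on with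
  | empty =>
    rw [Finset.prod_empty]
    exact memLocalRing_of_isIntegral hM isIntegral_one
  | insert a s ha ih =>
    rw [Finset.prod_insert ha]
    exact MemLocalRing.mul hM (h a (Finset.mem_insert_self a s))
      (ih (fun i hi => h i (Finset.mem_insert_of_mem hi)))

open Classical in
/-- **the Galois conjugates of a contribution at a major subsection are large on average** -/
theorem sum_norm_contribution_ge [Fintype G] {p : ℕ} [hp : Fact p.Prime]
    (hM : Cfsg.IsPModular p M)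
    (B : Set (Cfsg.IrrCharacter G)) (hB : Cfsg.IsPBlock M B) (χ ψ : Cfsg.IrrCharacter G)
    (hχ : χ ∈ B) (hψ : ψ ∈ B)
    (h0ψ : Cfsg.blockHeight p B (ψ : G → ℂ) = 0)
    (y : G) (hy : ∃ k : ℕ, orderOf y = p ^ k) (n : ℕ) [NeZero n] (hn : orderOf y = n)
    (H : Subgroup G) [Fintype H]
    [Fintype (Cfsg.IrrCharacter H)] (hyH : y ∈ H)
    (hcomm : ∀ t : H, y * (t : G) = (t : G) * y)
    (e : Set (Cfsg.IrrCharacter H)) (he : Cfsg.IsInducedBlock M H e B)
    (hmaj : Cfsg.blockDefect p e = Cfsg.blockDefect p B) :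
    (Fintype.card (ZMod n)ˣ : ℝ) * (p : ℝ) ^ Cfsg.blockHeight p B (χ : G → ℂ) ≤
      ∑ k : (ZMod n)ˣ, ‖(p : ℂ) ^ Cfsg.blockDefect p B *
        Cfsg.classInner (secPart p H e (χ : G → ℂ) (y ^ (k : ZMod n).val))
          (secPart p H e (ψ : G → ℂ) (y ^ (k : ZMod n).val))‖ := by
  set d := Cfsg.blockDefect p B with hd
  set h := Cfsg.blockHeight p B (χ : G → ℂ) with hh
  have hz : (⟨y, hyH⟩ : H) ∈ Subgroup.center H := by
    rw [Subgroup.mem_center_iff]
    intro t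
    apply Subtype.ext
    simp only [Subgroup.coe_mul]
    exact (hcomm t).symm
  have hzo : orderOf (⟨y, hyH⟩ : H) = n := (Subgroup.orderOf_mk y hyH).trans hn
  choose ε hεn hε1 hε using fun θ : Cfsg.IrrCharacter H => exists_center_twist θ ⟨y, hyH⟩ hz
  set μ : Cfsg.IrrCharacter H × Cfsg.IrrCharacter H → ℂ :=
    fun i => ε i.1 * conj (ε i.2) with hμdef
  have hμ : ∀ i, μ i ^ n = 1 := by
    intro i
    rw [hμdef]
    simp only
    rw [mul_pow, ← map_pow, ← hzo, hεn, hεn, map_one, one_mul]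
  obtain ⟨W, hW⟩ := exists_int_weights hM H e (IsIrrCharacter.isCharacter χ.2)
    (IsIrrCharacter.isCharacter ψ.2)
  have hAform : ∀ j : ℕ,
      (p : ℂ) ^ d * Cfsg.classInner (secPart p H e (χ : G → ℂ) (y ^ j))
        (secPart p H e (ψ : G → ℂ) (y ^ j)) = ∑ i, (W i : ℂ) * μ i ^ j := by
    intro j
    rw [classInner_secPart_pow p H e _ _ y hyH ε hε1 hε j, Finset.mul_sum]
    apply Finset.sum_congr rfl
    intro i _
    rw [← mul_assoc, ← hmaj, hW i]
  set s : (ZMod n)ˣ → ℂ := fun k => ∑ i, (W i : ℂ) * μ i ^ (k : ZMod n).val with hs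
  -- facts on the powers of `y`
  have hpowH : ∀ j : ℕ, y ^ j ∈ H := fun j => H.pow_mem hyH j
  have hpowcomm : ∀ (j : ℕ) (t : H), y ^ j * (t : G) = (t : G) * y ^ j := by
    intro j t
    have : Commute y (t : G) := hcomm t
    exact (this.pow_left j).eq
  have hpowp : ∀ j : ℕ, ∃ m : ℕ, orderOf (y ^ j) = p ^ m := by
    intro j
    obtain ⟨m, hm⟩ := hy
    have h1 : orderOf (y ^ j) ∣ p ^ m := hm ▸ orderOf_pow_dvd _
    obtain ⟨m', _, hm'⟩ := (Nat.dvd_prime_pow hp.out).mp h1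
    exact ⟨m', hm'⟩
  have hne : ∀ k : (ZMod n)ˣ, s k ≠ 0 := by
    intro k
    rw [hs]
    simp only
    rw [← hAform]
    apply mul_ne_zero
    · exact pow_ne_zero _ (by exact_mod_cast hp.out.ne_zero)
    · exact contribution_ne_zero_of_major hM B hB χ ψ hχ hψ h0ψ _ (hpowp _) H (hpowH _)
        (hpowcomm _) e he hmaj
  have hloc : ∀ k : (ZMod n)ˣ, Cfsg.MemLocalRing M (s k / (p : ℂ) ^ h) := by
    intro k
    rw [hs]
    simp only
    rw [← hAform]
    exact contribution_div_mem hM B hB χ ψ hχ hψ h0ψ _ H (hpowH _) (hpowcomm _) e he hmaj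
  obtain ⟨⟨m, hm⟩, -⟩ := wpowSum_facts n W μ hμ
  have hm0 : m ≠ 0 := by
    intro h0
    rw [h0, Int.cast_zero] at hm
    obtain ⟨k, _, hk⟩ := Finset.prod_eq_zero_iff.mp hm
    exact hne k hk
  set φ := Fintype.card (ZMod n)ˣ with hφ
  have hpc : (p : ℂ) ≠ 0 := by exact_mod_cast hp.out.ne_zero
  have hprodloc : Cfsg.MemLocalRing M ((m : ℂ) / ((p ^ (h * φ) : ℕ) : ℂ)) := by
    have h1 : (m : ℂ) / ((p ^ (h * φ) : ℕ) : ℂ) = ∏ k : (ZMod n)ˣ, s k / (p : ℂ) ^ h := by
      rw [Finset.prod_div_distrib, Finset.prod_const, Finset.card_univ, ← hφ, ← pow_mul]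
      push_cast
      rw [← hm]
    rw [h1]
    exact memLocalRing_prod hM.2.1 _ _ (fun k _ => hloc k)
  have hbig : p ^ (h * φ) ≤ m.natAbs := pow_dvd_of_memLocalRing hM m hm0 _ hprodloc
  -- AM-GM
  have hpr : (0 : ℝ) < (p : ℝ) ^ h := pow_pos (by exact_mod_cast hp.out.pos) h
  set t : (ZMod n)ˣ → ℝ := fun k => ‖s k‖ / (p : ℝ) ^ h with ht
  have htpos : ∀ k, 0 < t k := fun k => div_pos (norm_pos_iff.mpr (hne k)) hpr
  have hprod : (1 : ℝ) ≤ ∏ k : (ZMod n)ˣ, t k := by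
    rw [ht]
    simp only
    rw [Finset.prod_div_distrib, Finset.prod_const, Finset.card_univ, ← hφ, ← norm_prod]
    change 1 ≤ ‖∏ k : (ZMod n)ˣ, (∑ i, (W i : ℂ) * μ i ^ (k : ZMod n).val)‖ / _
    rw [hm, Complex.norm_intCast, ← pow_mul, le_div_iff₀ (pow_pos (by exact_mod_cast hp.out.pos) _),
      one_mul]
    have h1 : ((p ^ (h * φ) : ℕ) : ℝ) ≤ (m.natAbs : ℝ) := by exact_mod_cast hbig
    have h2 : (m.natAbs : ℝ) = |(m : ℝ)| := by
      rw [Nat.cast_natAbs, Int.cast_abs]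
    rw [← h2]
    push_cast at h1
    exact h1
  have hlog : 0 ≤ ∑ k : (ZMod n)ˣ, Real.log (t k) := by
    rw [← Real.log_prod (fun k _ => (htpos k).ne')]
    exact Real.log_nonneg hprod
  have hle : ∑ k : (ZMod n)ˣ, Real.log (t k) ≤ ∑ k : (ZMod n)ˣ, (t k - 1) :=
    Finset.sum_le_sum (fun k _ => Real.log_le_sub_one_of_pos (htpos k))
  rw [Finset.sum_sub_distrib, Finset.sum_const, Finset.card_univ, nsmul_eq_mul, mul_one,
    ← hφ] at hle
  have hsum : (φ : ℝ) ≤ ∑ k : (ZMod n)ˣ, t k := by linarith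
  have hfin : (φ : ℝ) * (p : ℝ) ^ h ≤ ∑ k : (ZMod n)ˣ, ‖s k‖ := by
    have h1 : ∑ k : (ZMod n)ˣ, ‖s k‖ = (∑ k : (ZMod n)ˣ, t k) * (p : ℝ) ^ h := by
      rw [Finset.sum_mul]
      apply Finset.sum_congr rfl
      intro k _
      rw [ht]
      simp only
      rw [div_mul_cancel₀ _ hpr.ne']
    rw [h1]
    exact mul_le_mul_of_nonneg_right hsum hpr.le
  refine hfin.trans (le_of_eq ?_)
  apply Finset.sum_congr rfl
  intro k _
  rw [hs]
  simp only
  rw [← hAform]

end Cfsg.Agent.Helper6.HtCen
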