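import Mathlib
import Cfsg.Prelude.Def_Characters
import Cfsg.Prelude.Def_Blocks
import Cfsg.Prelude.Def_BlockRank
import Cfsg.Agent.Helper6.K4C
import Cfsg.Agent.Helper6.MajK
import Cfsg.Agent.Helper6.DefectOneTwoA

/-!
# A `2`-block with all heights zero having a subsection `(y, b)` with `y^2 = 1`, `b` of defect
two and rank one has exactly four characters
-/

set_option autoImplicit false
set_option linter.style.haveILetI false

namespace Cfsg.Agent.Helper6.K4

open Cfsg.Agent.Helper6 Cfsg.Agent.Helper6.Maj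

open Module
open scoped ComplexConjugate

universe u

variable {G : Type u} [Group G] {M : Ideal Cfsg.AlgInt}

/-- a symmetric-type integer matrix with odd entries, `∑_ψ A_{χψ}^2 = 4 A_{χχ}` and trace `4`
has size `4` -/
theorem card_eq_four_of_odd_matrix {ι : Type*} (F : Finset ι) (A : ι → ι → ℤ)
    (hodd : ∀ χ ∈ F, ∀ ψ ∈ F, Odd (A χ ψ))
    (hsq : ∀ χ ∈ F, ∑ ψ ∈ F, A χ ψ ^ 2 = 4 * A χ χ)
    (htr : ∑ χ ∈ F, A χ χ = 4) : F.card = 4 := by
  have hpos : ∀ χ ∈ F, 1 ≤ A χ χ := by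
    intro χ hχ
    have h1 : A χ χ ^ 2 ≤ ∑ ψ ∈ F, A χ ψ ^ 2 :=
      Finset.single_le_sum (f := fun ψ => A χ ψ ^ 2) (fun ψ _ => sq_nonneg _) hχ
    rw [hsq χ hχ] at h1
    obtain ⟨m, hm⟩ := hodd χ hχ χ hχ
    have h2 : A χ χ ≠ 0 := by omega
    by_contra hlt
    push Not at hlt
    have h3 : A χ χ ≤ -1 := by omega
    nlinarith
  have hk4 : (F.card : ℤ) ≤ 4 := by
    calc (F.card : ℤ) = ∑ χ ∈ F, (1 : ℤ) := by simp
      _ ≤ ∑ χ ∈ F, A χ χ := Finset.sum_le_sum hpos
      _ = 4 := htr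
  have htot : ∑ χ ∈ F, ∑ ψ ∈ F, A χ ψ ^ 2 = 16 := by
    rw [Finset.sum_congr rfl hsq, ← Finset.mul_sum, htr]; norm_num
  have h8 : (8 : ℤ) ∣ ∑ χ ∈ F, ∑ ψ ∈ F, (A χ ψ ^ 2 - 1) :=
    Finset.dvd_sum (fun χ hχ => Finset.dvd_sum (fun ψ hψ =>
      Int.eight_dvd_sq_sub_one_of_odd (hodd χ hχ ψ hψ)))
  have h9 : ∑ χ ∈ F, ∑ ψ ∈ F, (A χ ψ ^ 2 - 1) = 16 - (F.card : ℤ) ^ 2 := by
    have h10 : ∀ χ ∈ F, ∑ ψ ∈ F, (A χ ψ ^ 2 - 1) = ∑ ψ ∈ F, A χ ψ ^ 2 - (F.card : ℤ) := by
      intro χ _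
      rw [Finset.sum_sub_distrib]
      simp
    rw [Finset.sum_congr rfl h10, Finset.sum_sub_distrib, htot]
    simp
    ring
  rw [h9] at h8
  have hk0 : F.card ≠ 0 := by
    intro h0
    rw [Finset.card_eq_zero] at h0
    rw [h0, Finset.sum_empty] at htr
    norm_num at htr
  have hk4' : F.card ≤ 4 := by exact_mod_cast hk4
  interval_cases h : F.card
  · exact absurd rfl hk0
  · norm_num at h8
  · norm_num at h8
  · norm_num at h8
  · rfl

open Classical in
/-- **four characters**: a `2`-block all of whose characters have height zero and which has a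
subsection `(y, b)` with `y^2 = 1`, `b` of defect two and of rank one, has exactly four
irreducible characters -/
theorem card_eq_four_of_subsection [Finite G] (hM : Cfsg.IsPModular 2 M)
    (B : Set (Cfsg.IrrCharacter G))
    (hh : ∀ χ ∈ B, Cfsg.blockHeight 2 B (χ : G → ℂ) = 0)
    (y : G) (hy2 : y ^ 2 = 1)
    (H : Subgroup G) (hHdef : H = Subgroup.centralizer ({y} : Set G))
    (b : Set (Cfsg.IrrCharacter H))
    (hind : Cfsg.IsInducedBlock M H b B)
    (hd : Cfsg.blockDefect 2 b = 2) (hl : Cfsg.blockRank 2 b = 1) :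
    Nat.card B = 4 := by
  haveI hp : Fact (Nat.Prime 2) := ⟨Nat.prime_two⟩
  haveI : Fintype G := Fintype.ofFinite G
  haveI : Fintype H := Fintype.ofFinite H
  haveI : Finite (Cfsg.IrrCharacter G) := irr_finite
  haveI : Finite (Cfsg.IrrCharacter H) := irr_finite
  haveI : Fintype (Cfsg.IrrCharacter G) := Fintype.ofFinite _
  haveI : Fintype (Cfsg.IrrCharacter H) := Fintype.ofFinite _
  have hy : ∃ k : ℕ, orderOf y = 2 ^ k := by
    have h1 : orderOf y ∣ 2 ^ 1 := by rw [pow_one]; exact orderOf_dvd_of_pow_eq_one hy2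
    obtain ⟨m', _, hm'⟩ := (Nat.dvd_prime_pow Nat.prime_two).mp h1
    exact ⟨m', hm'⟩
  have hyH : y ∈ H := by
    rw [hHdef, Subgroup.mem_centralizer_singleton_iff]
  have hcomm : ∀ t : H, y * (t : G) = (t : G) * y := fun t =>
    Subgroup.mem_centralizer_iff.mp (hHdef ▸ t.2) y (Set.mem_singleton y)
  have hz : (⟨y, hyH⟩ : H) ∈ Subgroup.center H := by
    rw [Subgroup.mem_center_iff]
    intro t
    apply Subtype.ext
    simp only [Subgroup.coe_mul]
    exact (hcomm t).symm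
  have hzo : orderOf (⟨y, hyH⟩ : H) = orderOf y := Subgroup.orderOf_mk y hyH
  choose ε hεn hε1 hε using fun θ : Cfsg.IrrCharacter H => exists_center_twist θ ⟨y, hyH⟩ hz
  have hεsq : ∀ θ, ε θ = 1 ∨ ε θ = -1 := by
    intro θ
    have h1 : ε θ ^ 2 = 1 := by
      obtain ⟨c, hc⟩ := orderOf_dvd_of_pow_eq_one hy2
      rw [hc, ← hzo, pow_mul, hεn, one_pow]
    rw [sq] at h1
    exact mul_self_eq_one_iff.mp h1
  set s : Cfsg.IrrCharacter H → ℤ := fun θ => if ε θ = 1 then 1 else -1 with hsdef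
  have hs : ∀ θ, ((s θ : ℤ) : ℂ) = ε θ := by
    intro θ
    rw [hsdef]
    simp only
    rcases hεsq θ with h | h
    · rw [if_pos h, h]; norm_num
    · have hne : ε θ ≠ 1 := by rw [h]; norm_num
      rw [if_neg hne, h]; norm_num
  have hconj : ∀ θ, conj (ε θ) = ε θ := by
    intro θ
    rw [← hs θ, map_intCast]
  have hW : ∀ χ ψ : Cfsg.IrrCharacter G,
      ∃ W : Cfsg.IrrCharacter H × Cfsg.IrrCharacter H → ℤ, ∀ i,
      (((2 : ℕ) : ℂ) ^ Cfsg.blockDefect 2 b) * (if i.1 ∈ b ∧ i.2 ∈ b then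
        Cfsg.classInner (fun c : H => (χ : G → ℂ) (c : G)) (i.1 : H → ℂ) *
        conj (Cfsg.classInner (fun c : H => (ψ : G → ℂ) (c : G)) (i.2 : H → ℂ)) *
        Cfsg.classInner (Cfsg.pRegularPart 2 (i.1 : H → ℂ))
          (Cfsg.pRegularPart 2 (i.2 : H → ℂ)) else 0) = (W i : ℂ) := fun χ ψ =>
    exists_int_weights hM H b (IsIrrCharacter.isCharacter χ.2) (IsIrrCharacter.isCharacter ψ.2)
  choose W hW using hW
  set m : Cfsg.IrrCharacter G → Cfsg.IrrCharacter G → ℂ := fun χ ψ =>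
    Cfsg.classInner (secPart 2 H b (χ : G → ℂ) y) (secPart 2 H b (ψ : G → ℂ) y) with hmdef
  set A : Cfsg.IrrCharacter G → Cfsg.IrrCharacter G → ℤ := fun χ ψ =>
    ∑ i, W χ ψ i * (s i.1 * s i.2) with hAdef
  have hA : ∀ χ ψ : Cfsg.IrrCharacter G, (4 : ℂ) * m χ ψ = (A χ ψ : ℂ) := by
    intro χ ψ
    have h1 := classInner_secPart_pow 2 H b (χ : G → ℂ) (ψ : G → ℂ) y hyH ε hε1 hε 1
    simp only [pow_one] at h1
    rw [hmdef, hAdef]
    simp only
    rw [h1, Finset.mul_sum]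
    push_cast
    apply Finset.sum_congr rfl
    intro i _
    rw [← mul_assoc, ← hW χ ψ i, hd, hs, hs, hconj]
    norm_num
  have hmreal : ∀ χ ψ : Cfsg.IrrCharacter G, conj (m χ ψ) = m χ ψ := by
    intro χ ψ
    have h1 : m χ ψ = (A χ ψ : ℂ) / 4 := by rw [← hA]; ring
    rw [h1, map_div₀, map_intCast]
    congr 1
    exact Complex.conj_ofNat 4
  set FB := Finset.univ.filter (fun χ : Cfsg.IrrCharacter G => χ ∈ B) with hFB
  have hcard : Nat.card B = FB.card := by
    rw [Nat.card_eq_fintype_card, Fintype.card_subtype]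
  rw [hcard]
  apply card_eq_four_of_odd_matrix FB A
  · -- oddness
    intro χ hχ ψ hψ
    have hχB : χ ∈ B := (Finset.mem_filter.mp hχ).2
    have hψB : ψ ∈ B := (Finset.mem_filter.mp hψ).2
    obtain ⟨θ₀, hθ₀, hθ₀h, hnot⟩ := contribution_not_memLocalIdeal hM B χ ψ hχB hψB
      (hh χ hχB) (hh ψ hψB) y hy H hyH hcomm b hind
    rw [← Int.not_even_iff_odd]
    rintro ⟨A', hA'⟩
    apply hnot
    have hdeg := charDegree_cast_of_isCharacter (IsIrrCharacter.isCharacter θ₀.2)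
    have hfac := factorization_charDegree_eq 2 b θ₀ hθ₀
    rw [hθ₀h, hd, add_zero] at hfac
    have hdle := blockDefect_le_factorization 2 b
    rw [hd] at hdle
    have hD0 : Cfsg.charDegree (θ₀ : H → ℂ) ≠ 0 := charDegree_ne_zero_of_irr θ₀.2
    have hmm : m χ ψ = (A χ ψ : ℂ) / 4 := by rw [← hA]; ring
    have hrew : (Nat.card H : ℂ) / (θ₀ : H → ℂ) 1 *
        Cfsg.classInner (secPart 2 H b (χ : G → ℂ) y) (secPart 2 H b (ψ : G → ℂ) y) =
        (A' : ℂ) * (((Nat.card H : ℕ) : ℂ) / ((2 * Cfsg.charDegree (θ₀ : H → ℂ) : ℕ) : ℂ)) := by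
      have : Cfsg.classInner (secPart 2 H b (χ : G → ℂ) y) (secPart 2 H b (ψ : G → ℂ) y) =
          m χ ψ := rfl
      rw [this, hmm, hA', ← hdeg]
      have hD0' : (Cfsg.charDegree (θ₀ : H → ℂ) : ℂ) ≠ 0 := by exact_mod_cast hD0
      push_cast
      field_simp
      ring
    rw [hrew]
    apply MemLocalIdeal.mul_left hM.2.1 (memLocalRing_of_isIntegral hM.2.1 (isIntegral_algebraMap (R := ℤ) (A := ℂ) (x := A') |> fun h => by simpa using h))
    rw [memLocalIdeal_natCast_div_iff hM _ _ Nat.card_pos.ne' (by omega)]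
    rw [Nat.factorization_mul (by norm_num) hD0]
    simp only [Finsupp.coe_add, Pi.add_apply, Nat.Prime.factorization_self Nat.prime_two]
    omega
  · -- the square relation
    intro χ hχ
    have h1 := sum_secPart_sq hM B y hy H hHdef b hind (χ : G → ℂ)
    have h2 : ∑ ψ ∈ FB, ((A χ ψ : ℂ)) ^ 2 = 4 * (A χ χ : ℂ) := by
      rw [← hA χ χ]
      have h3 : m χ χ = Cfsg.classInner (secPart 2 H b (χ : G → ℂ) y)
          (secPart 2 H b (χ : G → ℂ) y) := rfl
      rw [h3, ← h1, hFB, Finset.sum_filter, Finset.mul_sum, Finset.mul_sum]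
      apply Finset.sum_congr rfl
      intro ψ _
      split_ifs with hψ
      · have h4 : Cfsg.classInner (secPart 2 H b (χ : G → ℂ) y)
            (secPart 2 H b (ψ : G → ℂ) y) = m χ ψ := rfl
        rw [h4, hmreal, ← hA]
        ring
      · ring
    exact_mod_cast h2
  · -- the trace
    have h1 := sum_secPart_self hM B y hy H hHdef b hind
    rw [hl, finsum_mem_eq_sum_ite] at h1
    have h2 : ∑ χ ∈ FB, (A χ χ : ℂ) = 4 := by
      rw [hFB, Finset.sum_filter]
      have h3 : (4 : ℂ) = 4 * ((1 : ℕ) : ℂ) := by norm_num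
      rw [h3, ← h1, Finset.mul_sum]
      apply Finset.sum_congr rfl
      intro χ _
      split_ifs with hχ
      · rw [← hA]
      · ring
    exact_mod_cast h2

end Cfsg.Agent.Helper6.K4
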