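import Mathlib
import Cfsg.Prelude.Def_Characters
import Cfsg.Prelude.Def_Blocks
import Cfsg.Prelude.Def_BlockRank
import Cfsg.Agent.Helper6.DefectOneTwoB

/-!
# Uniqueness of the inducing block of a centralizer for a block with two characters
-/

set_option autoImplicit false
set_option linter.style.haveILetI false

namespace Cfsg.Agent.Helper6

open Module
open scoped ComplexConjugate

universe u

variable {G : Type u} [Group G] {M : Ideal Cfsg.AlgInt}

/-- some block of `C_G(1)` induces a given block -/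
theorem exists_inducing_block_one [Finite G] {p : ℕ} [hp : Fact p.Prime]
    (hM : Cfsg.IsPModular p M) (B : Set (Cfsg.IrrCharacter G)) (hB : Cfsg.IsPBlock M B) :
    ∃ b₁ : Set (Cfsg.IrrCharacter (Subgroup.centralizer ({(1 : G)} : Set G))),
      Cfsg.IsInducedBlock M (Subgroup.centralizer ({(1 : G)} : Set G)) b₁ B := by
  classical
  haveI : Fintype G := Fintype.ofFinite G
  haveI : Fintype (Subgroup.centralizer ({(1 : G)} : Set G)) := Fintype.ofFinite _
  obtain ⟨χ₀, hχ₀⟩ : ∃ χ₀ : Cfsg.IrrCharacter G, χ₀ ∈ B := by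
    obtain ⟨χ₀, h⟩ := hB
    exact ⟨χ₀, h ▸ mem_blockOf_self hM.2.1 χ₀⟩
  have h1 := second_main_sum hM (1 : G) ⟨0, by rw [orderOf_one, pow_zero]⟩ B hB χ₀
    (1 : Subgroup.centralizer ({(1 : G)} : Set G)) (by
      rw [orderOf_one]
      exact hp.out.one_lt.ne' ∘ Nat.dvd_one.mp)
  rw [if_pos hχ₀, Subgroup.coe_one, mul_one] at h1
  by_contra hcon
  push Not at hcon
  have hempty : {ψ : Cfsg.IrrCharacter (Subgroup.centralizer ({(1 : G)} : Set G)) |
      Cfsg.IsInducedBlock M (Subgroup.centralizer ({(1 : G)} : Set G))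
        (Cfsg.blockOf M (ψ : Subgroup.centralizer ({(1 : G)} : Set G) → ℂ)) B} = ∅ := by
    ext ψ
    simp only [Set.mem_setOf_eq, Set.mem_empty_iff_false, iff_false]
    exact hcon _
  rw [hempty, finsum_mem_empty] at h1
  exact IsIrrCharacter.apply_one_ne_zero χ₀.2 h1.symm

/-- for a block with two characters, at most one block of the centralizer of a non-identity
`p`-element induces it -/
theorem inducing_block_unique_of_card_two [Finite G] {p : ℕ} [hp : Fact p.Prime]
    (hM : Cfsg.IsPModular p M) (B : Set (Cfsg.IrrCharacter G)) (hB : Cfsg.IsPBlock M B)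
    (hcard : Nat.card B = 2) (x : G) (hx : ∃ k : ℕ, orderOf x = p ^ k) (hx1 : x ≠ 1)
    (b b' : Set (Cfsg.IrrCharacter (Subgroup.centralizer ({x} : Set G))))
    (hb : Cfsg.IsInducedBlock M (Subgroup.centralizer ({x} : Set G)) b B)
    (hb' : Cfsg.IsInducedBlock M (Subgroup.centralizer ({x} : Set G)) b' B) : b = b' := by
  classical
  by_contra hne
  obtain ⟨X, hxX, hXp, hXrep⟩ := exists_section_reps p x hx
  have h1X : (1 : G) ∈ X := by
    obtain ⟨x', ⟨hx'X, hx'c⟩, -⟩ := hXrep 1 ⟨0, by rw [orderOf_one, pow_zero]⟩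
    have : x' = 1 := by
      obtain ⟨t, ht⟩ := isConj_iff.mp hx'c
      rw [← ht]
      group
    rwa [this] at hx'X
  have hformula := card_block_eq_sum_blockRank hM B hB X hXp hXrep
  rw [hcard] at hformula
  obtain ⟨t, ht⟩ : ∃ t : G → ℕ, ∀ x' : G, t x' =
      ∑ᶠ b ∈ {b : Set (Cfsg.IrrCharacter (Subgroup.centralizer ({x'} : Set G))) |
        Cfsg.IsInducedBlock M (Subgroup.centralizer ({x'} : Set G)) b B}, Cfsg.blockRank p b :=
    ⟨_, fun _ => rfl⟩
  simp_rw [← ht] at hformula
  have hrank : ∀ (x' : G) (b'' : Set (Cfsg.IrrCharacter (Subgroup.centralizer ({x'} : Set G)))),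
      Cfsg.IsPBlock M b'' → 1 ≤ Cfsg.blockRank p b'' := by
    intro x' b'' hb''
    obtain ⟨ψ, hψ⟩ := hb''
    exact blockRank_pos p b'' ψ (hψ ▸ mem_blockOf_self hM.2.1 ψ)
  -- the section of `1`
  have ht1 : 1 ≤ t 1 := by
    obtain ⟨b₁, hb₁⟩ := exists_inducing_block_one hM B hB
    haveI : Finite (Cfsg.IrrCharacter (Subgroup.centralizer ({(1 : G)} : Set G))) := irr_finite
    rw [ht, finsum_mem_eq_finite_toFinset_sum _ (Set.toFinite _)]
    calc 1 ≤ Cfsg.blockRank p b₁ := hrank 1 b₁ hb₁.1
      _ ≤ _ := Finset.single_le_sum (f := fun b => Cfsg.blockRank p b) (fun _ _ => Nat.zero_le _)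
        ((Set.Finite.mem_toFinset _).mpr hb₁)
  -- the section of `x`
  have htx : 2 ≤ t x := by
    haveI : Finite (Cfsg.IrrCharacter (Subgroup.centralizer ({x} : Set G))) := irr_finite
    rw [ht, finsum_mem_eq_finite_toFinset_sum _ (Set.toFinite _)]
    have hsub : ({b, b'} : Finset (Set (Cfsg.IrrCharacter (Subgroup.centralizer ({x} : Set G))))) ⊆
        (Set.toFinite {b : Set (Cfsg.IrrCharacter (Subgroup.centralizer ({x} : Set G))) |
          Cfsg.IsInducedBlock M (Subgroup.centralizer ({x} : Set G)) b B}).toFinset := by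
      intro b'' hb''
      rw [Finset.mem_insert, Finset.mem_singleton] at hb''
      rw [Set.Finite.mem_toFinset]
      rcases hb'' with rfl | rfl
      · exact hb
      · exact hb'
    calc 2 ≤ Cfsg.blockRank p b + Cfsg.blockRank p b' := by
          have := hrank x b hb.1
          have := hrank x b' hb'.1
          omega
      _ = ∑ b'' ∈ ({b, b'} : Finset _), Cfsg.blockRank p b'' := (Finset.sum_pair hne).symm
      _ ≤ _ := Finset.sum_le_sum_of_subset hsub
  have hsub2 : ({1, x} : Finset G) ⊆ X := by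
    intro y hy
    rw [Finset.mem_insert, Finset.mem_singleton] at hy
    rcases hy with rfl | rfl
    · exact h1X
    · exact hxX
  have hge : t 1 + t x ≤ ∑ x' ∈ X, t x' := by
    rw [← Finset.sum_pair (f := t) (Ne.symm hx1)]
    exact Finset.sum_le_sum_of_subset hsub2
  omega

end Cfsg.Agent.Helper6
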