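import Mathlib
import Cfsg.Prelude.Def_Characters
import Cfsg.Prelude.Def_Blocks
import Cfsg.Agent.Helper6.GaloisSum
import Cfsg.Agent.Helper6.RootsModM

/-!
# Galois-stable families of algebraic integers and the maximal ideals over `p`

If all Galois conjugates of an algebraic integer in a cyclotomic field lie in one maximal ideal
`M` over `p`, then it lies in every maximal ideal over `p`.
-/

set_option autoImplicit false
set_option linter.style.haveILetI false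

namespace Cfsg.Agent.Helper6

open Polynomial

section

variable (n : ℕ) [NeZero n]

/-- Weighted version of `galois_core`. -/
theorem galois_core_weighted {L : Type*} [Field L] [Algebra ℚ L] [IsCyclotomicExtension {n} ℚ L]
    {ι : Type*} [Fintype ι] (w : ι → ℚ) (μ : ι → ℂ) (hμ : ∀ i, μ i ^ n = 1) :
    ∃ (φ : L →ₐ[ℚ] ℂ) (α : L),
      ∀ σ : Gal(L/ℚ), φ (σ α) = ∑ i, (w i : ℂ) * μ i ^
        ((IsCyclotomicExtension.autEquivPow L (cyclotomic.irreducible_rat (NeZero.pos n)) σ :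
          (ZMod n)ˣ) : ZMod n).val := by
  classical
  haveI : FiniteDimensional ℚ L := IsCyclotomicExtension.finiteDimensional {n} ℚ L
  haveI : Algebra.IsAlgebraic ℚ L := Algebra.IsAlgebraic.of_finite ℚ L
  let φ : L →ₐ[ℚ] ℂ := IsAlgClosed.lift
  have hφinj : Function.Injective φ := φ.toRingHom.injective
  set ζL := IsCyclotomicExtension.zeta n ℚ L with hζL
  have hζLprim : IsPrimitiveRoot ζL n := IsCyclotomicExtension.zeta_spec n ℚ L
  have hζ : IsPrimitiveRoot (φ ζL) n := hζLprim.map_of_injective hφinj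
  have hex : ∀ i, ∃ a : ℕ, (φ ζL) ^ a = μ i := by
    intro i
    obtain ⟨a, _, ha⟩ := hζ.eq_pow_of_pow_eq_one (hμ i)
    exact ⟨a, ha⟩
  choose a ha using hex
  refine ⟨φ, ∑ i, algebraMap ℚ L (w i) * ζL ^ a i, ?_⟩
  intro σ
  have hspec := hζLprim.autToPow_spec ℚ σ
  rw [map_sum, map_sum]
  apply Finset.sum_congr rfl
  intro i _
  rw [map_mul, map_mul, AlgEquiv.commutes, AlgHom.commutes]
  congr 1
  rw [map_pow, map_pow, ← ha i, ← pow_mul, mul_comm, pow_mul]
  congr 1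
  rw [IsCyclotomicExtension.autEquivPow_apply, ← map_pow]
  congr 1
  exact hspec.symm

end

/-- An integer lying in a maximal ideal over `p` is divisible by `p`. -/
theorem int_dvd_of_mem (p : ℕ) [hp : Fact p.Prime] (M : Ideal Cfsg.AlgInt)
    (hM : Cfsg.IsPModular p M) (z : ℤ) (hz : (z : Cfsg.AlgInt) ∈ M) : (p : ℤ) ∣ z := by
  by_contra hnd
  have hprime : Prime (p : ℤ) := Nat.prime_iff_prime_int.mp hp.out
  obtain ⟨a, b, hab⟩ := (Prime.coprime_iff_not_dvd hprime).mpr hnd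
  have h1 : ((a * p + b * z : ℤ) : Cfsg.AlgInt) ∈ M := by
    push_cast
    exact M.add_mem (M.mul_mem_left _ hM.2.2) (M.mul_mem_left _ hz)
  rw [hab, Int.cast_one] at h1
  exact (M.ne_top_iff_one.mp hM.2.1.ne_top) h1

/-- If all Galois conjugates `D k` of the algebraic integer `D 1` (a rational combination of
`n`-th roots of unity) lie in `M`, then `D 1` lies in every maximal ideal over `p`. -/
theorem mem_of_conjugates_mem_aux (n : ℕ) [NeZero n] {L : Type*} [Field L] [Algebra ℚ L]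
    [IsCyclotomicExtension {n} ℚ L] (p : ℕ) [hp : Fact p.Prime]
    (M M' : Ideal Cfsg.AlgInt) (hM : Cfsg.IsPModular p M) (hM' : Cfsg.IsPModular p M')
    {ι : Type*} [Fintype ι] (w : ι → ℚ) (μ : ι → ℂ) (hμ : ∀ i, μ i ^ n = 1)
    (D : (ZMod n)ˣ → Cfsg.AlgInt)
    (hD : ∀ k : (ZMod n)ˣ, ((D k : Cfsg.AlgInt) : ℂ) = ∑ i, (w i : ℂ) * μ i ^ (k : ZMod n).val)
    (hDM : ∀ k, D k ∈ M) : D 1 ∈ M' := by
  classical
  haveI : FiniteDimensional ℚ L := IsCyclotomicExtension.finiteDimensional {n} ℚ L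
  haveI : IsGalois ℚ L := IsCyclotomicExtension.isGalois {n} ℚ L
  haveI hM'max : M'.IsMaximal := hM'.2.1
  haveI hMmax : M.IsMaximal := hM.2.1
  by_contra hnot
  obtain ⟨m, hm0, -, hpow⟩ := exists_pow_eq_one_residue p M' hM'.2.2 (D 1) hnot
  have hmem1 : 1 - (D 1) ^ m ∈ M' := by
    rw [← Ideal.Quotient.eq_zero_iff_mem, map_sub, map_one, map_pow, hpow, sub_self]
  obtain ⟨φ, α, hσ⟩ := galois_core_weighted n (L := L) w μ hμ
  have hφinj : Function.Injective φ := φ.toRingHom.injective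
  set e := IsCyclotomicExtension.autEquivPow L (cyclotomic.irreducible_rat (NeZero.pos n)) with he
  have hσ' : ∀ σ : Gal(L/ℚ), φ (σ α) = ((D (e σ) : Cfsg.AlgInt) : ℂ) := by
    intro σ
    rw [hσ σ, hD (e σ)]
  obtain ⟨β, hβ⟩ : ∃ β : L, β = 1 - α ^ m := ⟨_, rfl⟩
  have hσβ : ∀ σ : Gal(L/ℚ), φ (σ β) = ((1 - (D (e σ)) ^ m : Cfsg.AlgInt) : ℂ) := by
    intro σ
    rw [hβ, map_sub, map_sub, map_one, map_one, map_pow, map_pow, hσ' σ]
    push_cast
    rfl
  have hβint : IsIntegral ℤ β := by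
    have h1 : IsIntegral ℤ (φ β) := by
      have h2 := hσβ 1
      rw [AlgEquiv.one_apply] at h2
      rw [h2]
      exact (1 - (D (e 1)) ^ m : Cfsg.AlgInt).2
    exact (isIntegral_algHom_iff (φ.restrictScalars ℤ) hφinj).mp h1
  have hnorm := Algebra.norm_eq_prod_automorphisms ℚ β
  have hint : IsIntegral ℤ (Algebra.norm ℚ β) := Algebra.isIntegral_norm ℚ hβint
  obtain ⟨z, hz⟩ := IsIntegrallyClosed.isIntegral_iff.mp hint
  -- the product of the conjugates is the integer `z`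
  have hprod : ((z : ℤ) : Cfsg.AlgInt) = ∏ σ : Gal(L/ℚ), (1 - (D (e σ)) ^ m) := by
    apply Subtype.ext
    have h1 : φ (algebraMap ℚ L (Algebra.norm ℚ β)) = ((z : ℤ) : ℂ) := by
      rw [AlgHom.commutes, ← hz]
      simp
    have h2 : φ (∏ σ : Gal(L/ℚ), σ β) =
        ((∏ σ : Gal(L/ℚ), (1 - (D (e σ)) ^ m) : Cfsg.AlgInt) : ℂ) := by
      rw [map_prod]
      have : (((∏ σ : Gal(L/ℚ), (1 - (D (e σ)) ^ m) : Cfsg.AlgInt) : Cfsg.AlgInt) : ℂ) =
          ∏ σ : Gal(L/ℚ), ((1 - (D (e σ)) ^ m : Cfsg.AlgInt) : ℂ) := by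
        exact map_prod (Cfsg.AlgInt).subtype _ _
      rw [this]
      exact Finset.prod_congr rfl (fun σ _ => hσβ σ)
    rw [hnorm, h2] at h1
    rw [h1]
    simp
  -- it lies in `M'`
  have hzM' : ((z : ℤ) : Cfsg.AlgInt) ∈ M' := by
    rw [hprod]
    apply Ideal.prod_mem M' (Finset.mem_univ (1 : Gal(L/ℚ)))
    rw [map_one]
    exact hmem1
  have hpz : (p : ℤ) ∣ z := int_dvd_of_mem p M' hM' z hzM'
  -- but it is congruent to one modulo `M`
  have hzM : Ideal.Quotient.mk M ((z : ℤ) : Cfsg.AlgInt) = 1 := by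
    rw [hprod, map_prod]
    apply Finset.prod_eq_one
    intro σ _
    rw [map_sub, map_one, map_pow, Ideal.Quotient.eq_zero_iff_mem.mpr (hDM (e σ)),
      zero_pow hm0.ne', sub_zero]
  obtain ⟨z', rfl⟩ := hpz
  have hzM0 : Ideal.Quotient.mk M (((p : ℤ) * z' : ℤ) : Cfsg.AlgInt) = 0 := by
    rw [Ideal.Quotient.eq_zero_iff_mem]
    push_cast
    exact M.mul_mem_right _ hM.2.2
  rw [hzM0] at hzM
  have h1 : (1 : Cfsg.AlgInt) ∈ M := by
    rw [← Ideal.Quotient.eq_zero_iff_mem, map_one]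
    exact hzM.symm
  exact (M.ne_top_iff_one.mp hM.2.1.ne_top) h1

/-- The same statement, without reference to a cyclotomic field. -/
theorem mem_of_conjugates_mem (n : ℕ) [NeZero n] (p : ℕ) [hp : Fact p.Prime]
    (M M' : Ideal Cfsg.AlgInt) (hM : Cfsg.IsPModular p M) (hM' : Cfsg.IsPModular p M')
    {ι : Type*} [Fintype ι] (w : ι → ℚ) (μ : ι → ℂ) (hμ : ∀ i, μ i ^ n = 1)
    (D : (ZMod n)ˣ → Cfsg.AlgInt)
    (hD : ∀ k : (ZMod n)ˣ, ((D k : Cfsg.AlgInt) : ℂ) = ∑ i, (w i : ℂ) * μ i ^ (k : ZMod n).val)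
    (hDM : ∀ k, D k ∈ M) : D 1 ∈ M' :=
  @mem_of_conjugates_mem_aux n _ (CyclotomicField n ℚ) _ (CyclotomicField.algebra n ℚ)
    (CyclotomicField.isCyclotomicExtension n ℚ) p hp M M' hM hM' ι _ w μ hμ D hD hDM

end Cfsg.Agent.Helper6
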