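import Mathlib
import Cfsg.Prelude.Def_Characters
import Cfsg.Prelude.Def_Blocks
import Cfsg.Agent.Helper6.GaloisIdeal
import Cfsg.Agent.Helper6.GaloisChar
import Cfsg.Agent.Helper6.Osima3
import Cfsg.Agent.Helper6.BlockEquiv

/-!
# Blocks do not depend on the choice of the maximal ideal over `p`
-/

set_option autoImplicit false
set_option linter.style.haveILetI false

namespace Cfsg.Agent.Helper6

open Module Representation

universe u

variable {G : Type u} [Group G]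

theorem centralizer_pow_eq_of_coprime [Finite G] (g : G) (k : ℕ) (hk : k.Coprime (Nat.card G)) :
    Subgroup.centralizer ({g ^ k} : Set G) = Subgroup.centralizer ({g} : Set G) := by
  have hk' : k.Coprime (orderOf g) := Nat.Coprime.coprime_dvd_right (orderOf_dvd_natCard g) hk
  obtain ⟨m, hm⟩ := exists_pow_eq_self_of_coprime hk'
  ext x
  rw [Subgroup.mem_centralizer_singleton_iff, Subgroup.mem_centralizer_singleton_iff]
  constructor
  · intro h
    have h1 : Commute x (g ^ k) := h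
    have h2 : Commute x ((g ^ k) ^ m) := h1.pow_right m
    rw [hm] at h2
    exact h2
  · intro h
    have h1 : Commute x g := h
    exact h1.pow_right k

/-- **Blocks are independent of the maximal ideal**: the difference of the central characters of
two characters in the same block for `M` lies in every maximal ideal over `p`. -/
theorem centralChar_sub_mem_all [Finite G] (p : ℕ) [hp : Fact p.Prime]
    (M M' : Ideal Cfsg.AlgInt) (hM : Cfsg.IsPModular p M) (hM' : Cfsg.IsPModular p M')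
    (χ ψ : Cfsg.IrrCharacter G) (h : Cfsg.SameBlock M (χ : G → ℂ) (ψ : G → ℂ)) (g : G) :
    ∃ r : Cfsg.AlgInt, r ∈ M' ∧
      (r : ℂ) = Cfsg.centralChar (χ : G → ℂ) g - Cfsg.centralChar (ψ : G → ℂ) g := by
  classical
  haveI : NeZero (Nat.card G) := ⟨Nat.card_pos.ne'⟩
  obtain ⟨n, hn⟩ : ∃ n : ℕ, n = Nat.card G := ⟨_, rfl⟩
  haveI : NeZero n := by rw [hn]; infer_instance
  obtain ⟨n₁, ρ₁, -, hρ₁⟩ := χ.2
  obtain ⟨n₂, ρ₂, -, hρ₂⟩ := ψ.2
  obtain ⟨ι₁, hι₁, b₁, μ, hμ1, hμ2, -⟩ := exists_eigenbasis_rep ρ₁ g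
  obtain ⟨ι₂, hι₂, b₂, ν, hν1, hν2, -⟩ := exists_eigenbasis_rep ρ₂ g
  have hgn : g ^ n = 1 := by rw [hn]; exact pow_card_eq_one'
  have hμ : ∀ i, μ i ^ n = 1 := by
    intro i
    obtain ⟨c, hc⟩ := orderOf_dvd_of_pow_eq_one hgn
    rw [hc, pow_mul, hμ2 i, one_pow]
  have hν : ∀ i, ν i ^ n = 1 := by
    intro i
    obtain ⟨c, hc⟩ := orderOf_dvd_of_pow_eq_one hgn
    rw [hc, pow_mul, hν2 i, one_pow]
  have hpow₁ : ∀ k : ℕ, (χ : G → ℂ) (g ^ k) = ∑ i, μ i ^ k := by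
    intro k
    rw [← hρ₁]
    exact char_pow_eq_sum ρ₁ g b₁ μ hμ1 k
  have hpow₂ : ∀ k : ℕ, (ψ : G → ℂ) (g ^ k) = ∑ i, ν i ^ k := by
    intro k
    rw [← hρ₂]
    exact char_pow_eq_sum ρ₂ g b₂ ν hν1 k
  have hχ1 : (χ : G → ℂ) 1 = (Fintype.card ι₁ : ℂ) := by
    have := hpow₁ 0
    simpa using this
  have hψ1 : (ψ : G → ℂ) 1 = (Fintype.card ι₂ : ℂ) := by
    have := hpow₂ 0
    simpa using this
  obtain ⟨c, hc⟩ : ∃ c : ℕ, c = (Subgroup.centralizer ({g} : Set G)).index := ⟨_, rfl⟩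
  set w : ι₁ ⊕ ι₂ → ℚ :=
    Sum.elim (fun _ => (c : ℚ) / (Fintype.card ι₁ : ℚ)) (fun _ => -((c : ℚ) / (Fintype.card ι₂ : ℚ)))
    with hw
  set lam : ι₁ ⊕ ι₂ → ℂ := Sum.elim μ ν with hlam
  have hlam1 : ∀ i, lam i ^ n = 1 := by
    rintro (i | i)
    · exact hμ i
    · exact hν i
  set D : (ZMod n)ˣ → Cfsg.AlgInt := fun k =>
    ⟨Cfsg.centralChar (χ : G → ℂ) (g ^ (k : ZMod n).val) -
      Cfsg.centralChar (ψ : G → ℂ) (g ^ (k : ZMod n).val),
      (isIntegral_centralChar χ _).sub (isIntegral_centralChar ψ _)⟩ with hDdef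
  have hD : ∀ k : (ZMod n)ˣ, ((D k : Cfsg.AlgInt) : ℂ) =
      ∑ i, (w i : ℂ) * lam i ^ (k : ZMod n).val := by
    intro k
    have hcop : Nat.Coprime (k : ZMod n).val (Nat.card G) := by
      rw [← hn]
      exact ZMod.val_coe_unit_coprime k
    change Cfsg.centralChar (χ : G → ℂ) (g ^ (k : ZMod n).val) -
      Cfsg.centralChar (ψ : G → ℂ) (g ^ (k : ZMod n).val) = _
    unfold Cfsg.centralChar
    rw [centralizer_pow_eq_of_coprime g _ hcop, ← hc, hpow₁, hpow₂, hχ1, hψ1,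
      Fintype.sum_sum_type]
    simp only [hw, hlam, Sum.elim_inl, Sum.elim_inr]
    rw [← Finset.mul_sum, ← Finset.mul_sum]
    push_cast
    ring
  have hDM : ∀ k, D k ∈ M := by
    intro k
    exact (memLocalIdeal_coe_iff hM.2.1 (D k)).mp (h (g ^ (k : ZMod n).val))
  refine ⟨D 1, mem_of_conjugates_mem n p M M' hM hM' w lam hlam1 D hD hDM, ?_⟩
  have hg1 : g ^ ((1 : (ZMod n)ˣ) : ZMod n).val = g := by
    rw [Units.val_one, ZMod.val_one_eq_one_mod, hn, pow_mod_natCard, pow_one]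
  change Cfsg.centralChar (χ : G → ℂ) (g ^ ((1 : (ZMod n)ˣ) : ZMod n).val) -
      Cfsg.centralChar (ψ : G → ℂ) (g ^ ((1 : (ZMod n)ˣ) : ZMod n).val) = _
  rw [hg1]

end Cfsg.Agent.Helper6
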