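import Mathlib
import Cfsg.Prelude.Def_Characters
import Cfsg.Prelude.Def_Blocks
import Cfsg.Agent.Helper6.PrincipalSolv
import Cfsg.Agent.Helper6.GaloisChar
import Cfsg.Agent.Helper6.GaloisConj
import Cfsg.Agent.Helper6.SameBlockAllIdeals
import Cfsg.Agent.Helper6.ColumnOrth
import Cfsg.Agent.Helper6.Brauer10
import Cfsg.Agent.Helper6.BrauerPerm2
import Cfsg.Agent.Helper6.Codegree
import Cfsg.Agent.Helper6.HeightZeroTrunc
import Cfsg.Agent.Helper6.PowCongr

/-!
# The sum of `|χ(x)|²` over the principal block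

`λ(G, x) = ∑_{χ ∈ B₀(G)} |χ(x)|²` is a positive integer, is unchanged on passing to
`G / O_{p'}(G)`, is bounded by the order of the centralizer of the image of `x`, and
`λ(G, 1) = [G : O_{p'}(G)]` iff `G / O_{p'}(G)` has a single block.
-/

set_option autoImplicit false
set_option linter.style.haveILetI false

namespace Cfsg.Agent.Helper6

open scoped ComplexConjugate

universe u

variable {G : Type u} [Group G] {M : Ideal Cfsg.AlgInt}

/-- The Galois conjugate `g ↦ χ (g ^ k)` of an irreducible character, `k` coprime to `|G|`. -/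
noncomputable def powIrr [Finite G] (k : ℕ) (hk : k.Coprime (Nat.card G))
    (χ : Cfsg.IrrCharacter G) : Cfsg.IrrCharacter G :=
  ⟨fun g => (χ : G → ℂ) (g ^ k), by
    haveI := Fintype.ofFinite G
    exact IsIrrCharacter.comp_pow χ.2 k hk⟩

theorem powIrr_apply [Finite G] (k : ℕ) (hk : k.Coprime (Nat.card G))
    (χ : Cfsg.IrrCharacter G) (g : G) :
    ((powIrr k hk χ : Cfsg.IrrCharacter G) : G → ℂ) g = (χ : G → ℂ) (g ^ k) := rfl

theorem powIrr_injective [Finite G] (k : ℕ) (hk : k.Coprime (Nat.card G)) :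
    Function.Injective (powIrr (G := G) k hk) := by
  intro χ ψ h
  apply Subtype.ext
  funext g
  obtain ⟨g', rfl⟩ := (powCoprime hk.symm).surjective g
  have := congrFun (congrArg Subtype.val h) g'
  exact this

theorem powIrr_mem_principalBlock [Finite G] (k : ℕ) (hk : k.Coprime (Nat.card G))
    (χ : Cfsg.IrrCharacter G) (hχ : χ ∈ Cfsg.principalBlock M G) :
    powIrr k hk χ ∈ Cfsg.principalBlock M G := by
  show Cfsg.SameBlock M (fun _ : G => (1 : ℂ)) ((powIrr k hk χ : Cfsg.IrrCharacter G) : G → ℂ)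
  intro g
  have h : Cfsg.MemLocalIdeal M (Cfsg.centralChar (fun _ : G => (1 : ℂ)) (g ^ k) -
      Cfsg.centralChar (χ : G → ℂ) (g ^ k)) := hχ (g ^ k)
  have e1 : Cfsg.centralChar (fun _ : G => (1 : ℂ)) g =
      Cfsg.centralChar (fun _ : G => (1 : ℂ)) (g ^ k) := by
    unfold Cfsg.centralChar
    rw [centralizer_pow_eq_of_coprime g k hk]
  have e2 : Cfsg.centralChar ((powIrr k hk χ : Cfsg.IrrCharacter G) : G → ℂ) g =
      Cfsg.centralChar (χ : G → ℂ) (g ^ k) := by
    unfold Cfsg.centralChar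
    rw [powIrr_apply, powIrr_apply, one_pow, centralizer_pow_eq_of_coprime g k hk]
  rw [e1, e2]
  exact h


/-- The class function `g ↦ ∑_{χ ∈ S} χ(g) χ(g⁻¹)` is a character. -/
theorem isCharacter_sum_mul_inv [Finite G] (S : Finset (Cfsg.IrrCharacter G)) :
    Cfsg.IsCharacter G (fun g => ∑ χ ∈ S, (χ : G → ℂ) g * (χ : G → ℂ) g⁻¹) := by
  have h := IsCharacter.sum S (fun (χ : Cfsg.IrrCharacter G) (g : G) =>
      (χ : G → ℂ) g * (χ : G → ℂ) g⁻¹) (fun χ _ =>
      IsCharacter.mul (IsIrrCharacter.isCharacter χ.2)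
        (IsCharacter.comp_inv (IsIrrCharacter.isCharacter χ.2)))
  convert h using 1
  funext g
  rw [Finset.sum_apply]

theorem normSq_eq_mul_inv [Finite G] (χ : Cfsg.IrrCharacter G) (g : G) :
    ((Complex.normSq ((χ : G → ℂ) g) : ℝ) : ℂ) = (χ : G → ℂ) g * (χ : G → ℂ) g⁻¹ := by
  rw [IsCharacter.inv_eq_conj (IsIrrCharacter.isCharacter χ.2), Complex.mul_conj]

/-- The sum of `|χ(x)|²` over a Galois-stable set of irreducible characters is an integer. -/
theorem sum_normSq_int_of_stable [Finite G] (S : Finset (Cfsg.IrrCharacter G))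
    (hS : ∀ (k : ℕ) (hk : k.Coprime (Nat.card G)), ∀ χ ∈ S, powIrr k hk χ ∈ S) (x : G) :
    ∃ n : ℤ, (∑ χ ∈ S, Complex.normSq ((χ : G → ℂ) x) : ℝ) = n := by
  classical
  obtain ⟨d, ρ, hρ⟩ := isCharacter_sum_mul_inv S
  have hval : ∀ g : G, ρ.character g = ∑ χ ∈ S, (χ : G → ℂ) g * (χ : G → ℂ) g⁻¹ := by
    intro g
    rw [hρ]
  have hrat : ∃ q : ℚ, ρ.character x = q := by
    rw [char_rational_iff]
    intro m hm
    rw [hval, hval]
    have himg : S.image (powIrr m hm) = S := by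
      apply Finset.eq_of_subset_of_card_le
      · intro ψ hψ
        obtain ⟨χ, hχ, rfl⟩ := Finset.mem_image.mp hψ
        exact hS m hm χ hχ
      · rw [Finset.card_image_of_injective _ (powIrr_injective m hm)]
    calc ∑ χ ∈ S, (χ : G → ℂ) (x ^ m) * (χ : G → ℂ) (x ^ m)⁻¹
        = ∑ χ ∈ S, ((powIrr m hm χ : Cfsg.IrrCharacter G) : G → ℂ) x *
            ((powIrr m hm χ : Cfsg.IrrCharacter G) : G → ℂ) x⁻¹ := by
          apply Finset.sum_congr rfl
          intro χ _
          rw [powIrr_apply, powIrr_apply, inv_pow]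
      _ = ∑ ψ ∈ S.image (powIrr m hm), (ψ : G → ℂ) x * (ψ : G → ℂ) x⁻¹ := by
          rw [Finset.sum_image]
          intro a _ b _ hab
          exact powIrr_injective m hm hab
      _ = ∑ χ ∈ S, (χ : G → ℂ) x * (χ : G → ℂ) x⁻¹ := by rw [himg]
  obtain ⟨q, hq⟩ := hrat
  have hint : IsIntegral ℤ (ρ.character x) := by
    have := IsCharacter.isIntegral_value (isCharacter_sum_mul_inv S) x
    rw [hval]
    exact this
  rw [hq] at hint
  have hq' : IsIntegral ℤ q := by
    have : ((q : ℚ) : ℂ) = algebraMap ℚ ℂ q := rfl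
    rw [this] at hint
    exact (isIntegral_algebraMap_iff (algebraMap ℚ ℂ).injective).mp hint
  obtain ⟨n, hn⟩ := IsIntegrallyClosed.isIntegral_iff.mp hq'
  refine ⟨n, ?_⟩
  have h1 : ((∑ χ ∈ S, Complex.normSq ((χ : G → ℂ) x) : ℝ) : ℂ) = ((n : ℝ) : ℂ) := by
    rw [Complex.ofReal_sum]
    simp_rw [normSq_eq_mul_inv]
    rw [← hval, hq, ← hn]
    simp
  exact_mod_cast h1


/-- Inflation of irreducible characters from a quotient. -/
noncomputable def inflIrr (N : Subgroup G) [N.Normal] (ψ : Cfsg.IrrCharacter (G ⧸ N)) :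
    Cfsg.IrrCharacter G :=
  ⟨(ψ : G ⧸ N → ℂ) ∘ QuotientGroup.mk, isIrrCharacter_inflate N ψ⟩

theorem inflIrr_apply (N : Subgroup G) [N.Normal] (ψ : Cfsg.IrrCharacter (G ⧸ N)) (g : G) :
    ((inflIrr N ψ : Cfsg.IrrCharacter G) : G → ℂ) g = (ψ : G ⧸ N → ℂ) (QuotientGroup.mk g) := rfl

theorem inflIrr_injective (N : Subgroup G) [N.Normal] : Function.Injective (inflIrr N) := by
  intro ψ ψ' h
  apply Subtype.ext
  funext y
  obtain ⟨g, rfl⟩ := QuotientGroup.mk_surjective y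
  exact congrFun (congrArg Subtype.val h) g

/-- Inflation is a bijection from the principal block of `G / O_{p'}(G)` onto that of `G`. -/
theorem inflIrr_bijOn_principalBlock [Finite G] (p : ℕ) [hp : Fact p.Prime]
    (hM : Cfsg.IsPModular p M) :
    Set.BijOn (inflIrr (Cfsg.pPrimeCore p G))
      (Cfsg.principalBlock M (G ⧸ Cfsg.pPrimeCore p G)) (Cfsg.principalBlock M G) := by
  refine ⟨?_, (inflIrr_injective _).injOn, ?_⟩
  · intro ψ hψ
    have hs : Cfsg.SameBlock M (fun _ : G ⧸ Cfsg.pPrimeCore p G => (1 : ℂ))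
        (ψ : G ⧸ Cfsg.pPrimeCore p G → ℂ) := hψ
    exact sameBlock_inflate hM.2.1 (Cfsg.pPrimeCore p G) _ _ hs
  · intro χ hχ
    have hcop : ¬ p ∣ Nat.card (Cfsg.pPrimeCore p G) := by
      intro hdvd
      have h1 := Helper1.card_pPrimeCore_coprime (G := G) p
      have : p ∣ Nat.gcd (Nat.card (Cfsg.pPrimeCore p G)) p := Nat.dvd_gcd hdvd dvd_rfl
      rw [h1] at this
      exact hp.out.one_lt.ne' (Nat.dvd_one.mp this)
    have hχ' : χ ∈ Cfsg.blockOf M
        (((trivIrr (G ⧸ Cfsg.pPrimeCore p G) : Cfsg.IrrCharacter (G ⧸ Cfsg.pPrimeCore p G)) :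
          G ⧸ Cfsg.pPrimeCore p G → ℂ) ∘ QuotientGroup.mk) := hχ
    obtain ⟨ψ', hψ', hs⟩ := quotient_block hM.2.1 p hp.out hM.2.2 (Cfsg.pPrimeCore p G) hcop
      (trivIrr (G ⧸ Cfsg.pPrimeCore p G)) χ hχ'
    refine ⟨ψ', hs, ?_⟩
    apply Subtype.ext
    exact hψ'.symm


theorem charDegree_inflIrr (N : Subgroup G) [N.Normal] (ψ : Cfsg.IrrCharacter (G ⧸ N)) :
    Cfsg.charDegree ((inflIrr N ψ : Cfsg.IrrCharacter G) : G → ℂ) =
      Cfsg.charDegree (ψ : G ⧸ N → ℂ) := by
  unfold Cfsg.charDegree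
  rw [inflIrr_apply, QuotientGroup.mk_one]

/-- `λ(G, x)` is a positive integer. -/
theorem lambdaSum_pos_nat [Finite G] (p : ℕ) [hp : Fact p.Prime] (hM : Cfsg.IsPModular p M)
    (x : G) :
    ∃ n : ℕ, 0 < n ∧
      ∑ᶠ χ ∈ Cfsg.principalBlock M G, Complex.normSq ((χ : G → ℂ) x) = n := by
  classical
  haveI : Finite (Cfsg.IrrCharacter G) := irr_finite
  have hfin : (Cfsg.principalBlock M G).Finite := Set.toFinite _
  rw [finsum_mem_eq_finite_toFinset_sum _ hfin]
  obtain ⟨n, hn⟩ := sum_normSq_int_of_stable hfin.toFinset (by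
    intro k hk χ hχ
    rw [Set.Finite.mem_toFinset] at hχ ⊢
    exact powIrr_mem_principalBlock k hk χ hχ) x
  have hge : (1 : ℝ) ≤ ∑ χ ∈ hfin.toFinset, Complex.normSq ((χ : G → ℂ) x) := by
    have hmem : trivIrr G ∈ hfin.toFinset := by
      rw [Set.Finite.mem_toFinset]
      exact trivIrr_mem_principalBlock hM.2.1
    have h1 : Complex.normSq (((trivIrr G : Cfsg.IrrCharacter G) : G → ℂ) x) = 1 := by
      show Complex.normSq (1 : ℂ) = 1
      simp
    rw [← h1]
    exact Finset.single_le_sum (f := fun χ : Cfsg.IrrCharacter G =>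
      Complex.normSq ((χ : G → ℂ) x)) (fun χ _ => Complex.normSq_nonneg _) hmem
  rw [hn] at hge ⊢
  have hn1 : (1 : ℤ) ≤ n := by exact_mod_cast hge
  refine ⟨n.toNat, by omega, ?_⟩
  have : ((n.toNat : ℤ) : ℝ) = (n : ℝ) := by
    rw [Int.toNat_of_nonneg (by omega)]
  exact_mod_cast this.symm

/-- `λ(G, x) = λ(G / O_{p'}(G), x̄)`. -/
theorem lambdaSum_quotient [Finite G] (p : ℕ) [hp : Fact p.Prime] (hM : Cfsg.IsPModular p M)
    (x : G) :
    ∑ᶠ χ ∈ Cfsg.principalBlock M G, Complex.normSq ((χ : G → ℂ) x) =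
      ∑ᶠ ψ ∈ Cfsg.principalBlock M (G ⧸ Cfsg.pPrimeCore p G),
        Complex.normSq ((ψ : G ⧸ Cfsg.pPrimeCore p G → ℂ) (QuotientGroup.mk x)) := by
  symm
  apply finsum_mem_eq_of_bijOn (inflIrr (Cfsg.pPrimeCore p G))
    (inflIrr_bijOn_principalBlock p hM)
  intro ψ _
  rw [inflIrr_apply]

/-- The sum of `|ψ(y)|²` over a set of irreducible characters is at most `|C(y)|`. -/
theorem sum_normSq_le_card_centralizer [Finite G] (B : Set (Cfsg.IrrCharacter G)) (y : G) :
    ∑ᶠ ψ ∈ B, Complex.normSq ((ψ : G → ℂ) y) ≤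
      (Nat.card (Subgroup.centralizer ({y} : Set G)) : ℝ) := by
  classical
  haveI := Fintype.ofFinite G
  haveI : Finite (Cfsg.IrrCharacter G) := irr_finite
  haveI := Fintype.ofFinite (Cfsg.IrrCharacter G)
  have hfin : B.Finite := Set.toFinite _
  rw [finsum_mem_eq_finite_toFinset_sum _ hfin]
  have hcol := column_orthogonality_aux y y
  rw [if_pos (IsConj.refl y)] at hcol
  have hall : ∑ ψ : Cfsg.IrrCharacter G, Complex.normSq ((ψ : G → ℂ) y) =
      (Nat.card (Subgroup.centralizer ({y} : Set G)) : ℝ) := by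
    have : ((∑ ψ : Cfsg.IrrCharacter G, Complex.normSq ((ψ : G → ℂ) y) : ℝ) : ℂ) =
        ((Nat.card (Subgroup.centralizer ({y} : Set G)) : ℝ) : ℂ) := by
      rw [Complex.ofReal_sum]
      simp_rw [← Complex.mul_conj]
      rw [hcol]
      simp
    exact_mod_cast this
  rw [← hall]
  exact Finset.sum_le_sum_of_subset_of_nonneg (Finset.subset_univ _)
    (fun ψ _ _ => Complex.normSq_nonneg _)


/-- `∑_{χ ∈ B₀} χ(1)² = |G|` iff the principal block is the only block. -/
theorem sum_sq_principalBlock_eq_card_iff [Finite G] (hM : M.IsMaximal) :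
    (∑ᶠ χ ∈ Cfsg.principalBlock M G, Cfsg.charDegree (χ : G → ℂ) ^ 2) = Nat.card G ↔
      ∀ B : Set (Cfsg.IrrCharacter G), Cfsg.IsPBlock M B → B = Cfsg.principalBlock M G := by
  classical
  haveI : Finite (Cfsg.IrrCharacter G) := irr_finite
  haveI := Fintype.ofFinite (Cfsg.IrrCharacter G)
  have hfin : (Cfsg.principalBlock M G).Finite := Set.toFinite _
  have hall := sum_sq_charDegree (G := G)
  constructor
  · intro h
    have huniv : ∀ χ : Cfsg.IrrCharacter G, χ ∈ Cfsg.principalBlock M G := by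
      intro χ₀
      by_contra hχ₀
      rw [finsum_mem_eq_finite_toFinset_sum _ hfin] at h
      have hnot : χ₀ ∉ hfin.toFinset := by
        rw [Set.Finite.mem_toFinset]
        exact hχ₀
      have hle : ∑ χ ∈ insert χ₀ hfin.toFinset, Cfsg.charDegree (χ : G → ℂ) ^ 2 ≤
          ∑ χ : Cfsg.IrrCharacter G, Cfsg.charDegree (χ : G → ℂ) ^ 2 :=
        Finset.sum_le_sum_of_subset (Finset.subset_univ _)
      rw [Finset.sum_insert hnot, h, hall] at hle
      have hpos : 0 < Cfsg.charDegree (χ₀ : G → ℂ) ^ 2 :=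
        pow_pos (Nat.pos_of_ne_zero (charDegree_ne_zero_of_irr χ₀.2)) 2
      omega
    intro B hB
    obtain ⟨χ, rfl⟩ := hB
    exact (eq_blockOf_of_mem hM _ (isPBlock_principalBlock G) χ (huniv χ)).symm
  · intro h
    have huniv : Cfsg.principalBlock M G = Set.univ := by
      apply Set.eq_univ_of_forall
      intro χ
      rw [← h _ ⟨χ, rfl⟩]
      exact mem_blockOf_self hM χ
    rw [huniv, finsum_mem_univ, finsum_eq_sum_of_fintype]
    exact hall

/-- `λ(G, 1) = [G : O_{p'}(G)]` iff `G / O_{p'}(G)` has only the principal block. -/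
theorem lambdaSum_one_iff [Finite G] (p : ℕ) [hp : Fact p.Prime] (hM : Cfsg.IsPModular p M) :
    (∑ᶠ χ ∈ Cfsg.principalBlock M G, Cfsg.charDegree (χ : G → ℂ) ^ 2) =
        (Cfsg.pPrimeCore p G).index ↔
      ∀ B : Set (Cfsg.IrrCharacter (G ⧸ Cfsg.pPrimeCore p G)), Cfsg.IsPBlock M B →
        B = Cfsg.principalBlock M (G ⧸ Cfsg.pPrimeCore p G) := by
  have h1 : (∑ᶠ χ ∈ Cfsg.principalBlock M G, Cfsg.charDegree (χ : G → ℂ) ^ 2) =
      ∑ᶠ ψ ∈ Cfsg.principalBlock M (G ⧸ Cfsg.pPrimeCore p G),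
        Cfsg.charDegree (ψ : G ⧸ Cfsg.pPrimeCore p G → ℂ) ^ 2 := by
    symm
    apply finsum_mem_eq_of_bijOn (inflIrr (Cfsg.pPrimeCore p G))
      (inflIrr_bijOn_principalBlock p hM)
    intro ψ _
    rw [charDegree_inflIrr]
  rw [h1, Subgroup.index_eq_card]
  exact sum_sq_principalBlock_eq_card_iff hM.2.1

end Cfsg.Agent.Helper6
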