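import Mathlib
import Cfsg.Prelude.Def_Characters
import Cfsg.Prelude.Def_Blocks
import Cfsg.Agent.Helper6.BlockBasic
import Cfsg.Agent.Helper6.InducedPart
import Cfsg.Agent.Helper6.Osima1

/-!
# A weighted fixed point congruence for permutations of prime power order (towards S0940)
-/

set_option autoImplicit false
set_option linter.style.haveILetI false

namespace Cfsg.Agent.Helper6

universe u

variable {M : Ideal Cfsg.AlgInt}

/-- the support of a permutation of `p`-power order has cardinality divisible by `p` -/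
theorem dvd_card_support_of_pow_eq_one {X : Type*} [Fintype X] [DecidableEq X] {p n : ℕ}
    [hp : Fact p.Prime] (σ : Equiv.Perm X) (hσ : σ ^ (p ^ n) = 1) : p ∣ σ.support.card := by
  have h1 := Equiv.Perm.card_compl_support_modEq hσ
  have h2 : σ.supportᶜ.card + σ.support.card = Fintype.card X := by
    rw [Finset.card_compl]
    have := Finset.card_le_univ σ.support
    omega
  rw [← h2] at h1
  have h3 : (σ.supportᶜ.card + 0) ≡ (σ.supportᶜ.card + σ.support.card) [MOD p] := by
    rw [add_zero]; exact h1
  have h4 := Nat.ModEq.add_left_cancel' _ h3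
  exact (Nat.modEq_zero_iff_dvd.mp h4.symm)

/-- **weighted fixed point congruence**: a sum of invariant local integers over a finite set is
congruent to the sum over the fixed points of a permutation of `p`-power order -/
theorem sum_sub_sum_fixed_perm_memLocalIdeal {X : Type*} [Fintype X] [DecidableEq X] {p n : ℕ}
    [hp : Fact p.Prime] (hM : Cfsg.IsPModular p M) (σ : Equiv.Perm X) (hσ : σ ^ (p ^ n) = 1)
    (w : X → ℂ) (hw : ∀ x, w (σ x) = w x) (hloc : ∀ x, Cfsg.MemLocalRing M (w x)) :
    Cfsg.MemLocalIdeal M (∑ x, w x - ∑ x ∈ Finset.univ.filter (fun x => σ x = x), w x) := by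
  classical
  have hMm := hM.2.1
  have hsplit : ∑ x, w x - ∑ x ∈ Finset.univ.filter (fun x => σ x = x), w x =
      ∑ x ∈ σ.support, w x := by
    rw [← Finset.sum_filter_add_sum_filter_not Finset.univ (fun x => σ x = x) w, add_sub_cancel_left]
    apply Finset.sum_congr _ (fun _ _ => rfl)
    ext x
    simp [Equiv.Perm.mem_support]
  rw [hsplit]
  have hcomp := Finset.sum_comp (s := σ.support) (fun c : ℂ => c) w
  rw [hcomp]
  apply MemLocalIdeal.sum hMm
  intro c hc
  obtain ⟨x₀, -, hx₀⟩ := Finset.mem_image.mp hc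
  -- the level set
  have hP : ∀ x, (w (σ x) = c) ↔ (w x = c) := fun x => by rw [hw]
  obtain ⟨τ, hτdef⟩ : ∃ τ : Equiv.Perm {x // w x = c},
      τ = Equiv.Perm.subtypePerm (p := fun x => w x = c) σ hP := ⟨_, rfl⟩
  have hτapp : ∀ y : {x // w x = c}, ((τ y : {x // w x = c}) : X) = σ (y : X) := by
    intro y
    rw [hτdef]
    rfl
  have hτ : τ ^ (p ^ n) = 1 := by
    rw [hτdef, Equiv.Perm.subtypePerm_pow]
    ext x
    simp [Equiv.Perm.subtypePerm_apply, hσ]
  have hdvd := dvd_card_support_of_pow_eq_one τ hτ
  have hcard : (σ.support.filter (fun a => w a = c)).card = τ.support.card := by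
    rw [← Finset.card_map (Function.Embedding.subtype (fun x => w x = c))]
    congr 1
    ext x
    rw [Finset.mem_filter, Finset.mem_map, Equiv.Perm.mem_support]
    constructor
    · rintro ⟨hx, hxc⟩
      refine ⟨⟨x, hxc⟩, ?_, rfl⟩
      rw [Equiv.Perm.mem_support]
      intro h
      apply hx
      have := congrArg Subtype.val h
      rw [hτapp] at this
      exact this
    · rintro ⟨y, hy, rfl⟩
      rw [Equiv.Perm.mem_support] at hy
      refine ⟨?_, y.2⟩
      intro h
      apply hy
      apply Subtype.ext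
      rw [hτapp]
      exact h
  rw [hcard]
  obtain ⟨k, hk⟩ := hdvd
  rw [hk, nsmul_eq_mul]
  push_cast
  have e : (p : ℂ) * (k : ℂ) * c = ((k : ℂ) * c) * (p : ℂ) := by ring
  rw [e]
  apply MemLocalIdeal.mul_left hMm _ (memLocalIdeal_prime hM)
  rw [← hx₀]
  exact MemLocalRing.mul hMm (memLocalRing_natCast hMm k) (hloc x₀)

end Cfsg.Agent.Helper6
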