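import Mathlib
import Cfsg.Prelude.Def_Characters
import Cfsg.Prelude.Def_Blocks
import Cfsg.Agent.Helper6.FrobTrickA
import Cfsg.Agent.Helper6.GroupAlgA

/-!
# The coefficient at the identity of a `p`-power power in the group algebra (towards S0940)
-/

set_option autoImplicit false
set_option linter.style.haveILetI false

namespace Cfsg.Agent.Helper6

open Equiv.Perm

universe u

variable {G : Type u} [Group G] {M : Ideal Cfsg.AlgInt}

/-- vectors of length `n + 1` as pairs -/
def vecConsEquiv (G : Type u) (n : ℕ) : G × List.Vector G n ≃ List.Vector G (n + 1) where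
  toFun q := q.1 ::ᵥ q.2
  invFun v := (v.head, v.tail)
  left_inv q := by simp
  right_inv v := by simp

/-- the weight of a list: the product of the coefficients -/
noncomputable def listWeight (x : MonoidAlgebra ℂ G) (l : List G) : ℂ :=
  (l.map (fun g => x.coeff g)).prod

omit [Group G] in
theorem listWeight_cons (x : MonoidAlgebra ℂ G) (t : G) (l : List G) :
    listWeight x (t :: l) = x.coeff t * listWeight x l := by
  unfold listWeight
  rw [List.map_cons, List.prod_cons]

omit [Group G] in
theorem listWeight_rotate (x : MonoidAlgebra ℂ G) (l : List G) (k : ℕ) :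
    listWeight x (l.rotate k) = listWeight x l := by
  unfold listWeight
  rw [List.map_rotate]
  exact (List.rotate_perm _ _).prod_eq

omit [Group G] in
theorem listWeight_replicate (x : MonoidAlgebra ℂ G) (n : ℕ) (h : G) :
    listWeight x (List.replicate n h) = x.coeff h ^ n := by
  unfold listWeight
  rw [List.map_replicate, List.prod_replicate]

/-- the coefficients of a power as sums over vectors -/
theorem sum_vector_weight [Fintype G] (x : MonoidAlgebra ℂ G) (n : ℕ) :
    ∀ F : G → ℂ, ∑ u : List.Vector G n, F u.toList.prod * listWeight x u.toList =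
      ∑ g : G, F g * (x ^ n).coeff g := by
  classical
  induction n with
  | zero =>
    intro F
    rw [pow_zero]
    have h1 : ∀ g : G, F g * (1 : MonoidAlgebra ℂ G).coeff g = if g = 1 then F 1 else 0 := by
      intro g
      rw [ga_coeff_one]
      by_cases h : g = 1
      · rw [if_pos h, if_pos h, h, mul_one]
      · rw [if_neg h, if_neg h, mul_zero]
    rw [Finset.sum_congr rfl (fun g _ => h1 g), Finset.sum_ite_eq' Finset.univ 1, if_pos (Finset.mem_univ _)]
    haveI : Unique (List.Vector G 0) := ⟨⟨List.Vector.nil⟩, fun v => v.eq_nil⟩
    rw [Fintype.sum_unique]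
    have : (default : List.Vector G 0).toList = [] := by
      have h := (default : List.Vector G 0).2
      exact List.length_eq_zero_iff.mp h
    rw [this]
    simp [listWeight]
  | succ n ih =>
    intro F
    rw [← Equiv.sum_comp (vecConsEquiv G n), Fintype.sum_prod_type]
    have h1 : ∀ (t : G) (u : List.Vector G n),
        F ((vecConsEquiv G n (t, u)).toList.prod) * listWeight x (vecConsEquiv G n (t, u)).toList =
        x.coeff t * ((fun g => F (t * g)) u.toList.prod * listWeight x u.toList) := by
      intro t u
      have : (vecConsEquiv G n (t, u)).toList = t :: u.toList := List.Vector.toList_cons t u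
      rw [this, List.prod_cons, listWeight_cons]
      ring
    have h2 : ∀ t : G, ∑ u : List.Vector G n,
        F ((vecConsEquiv G n (t, u)).toList.prod) * listWeight x (vecConsEquiv G n (t, u)).toList =
        x.coeff t * ∑ g : G, F (t * g) * (x ^ n).coeff g := by
      intro t
      rw [Finset.sum_congr rfl (fun u _ => h1 t u), ← Finset.mul_sum, ih (fun g => F (t * g))]
    rw [Finset.sum_congr rfl (fun t _ => h2 t), pow_succ']
    have h3 : ∀ g : G, F g * (x * x ^ n).coeff g =
        ∑ t : G, F g * (x.coeff t * (x ^ n).coeff (t⁻¹ * g)) := by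
      intro g
      rw [ga_coeff_mul, Finset.mul_sum]
    rw [Finset.sum_congr rfl (fun g _ => h3 g), Finset.sum_comm]
    apply Finset.sum_congr rfl
    intro t _
    rw [Finset.mul_sum]
    apply Fintype.sum_equiv (Equiv.mulLeft t)
    intro g
    simp only [Equiv.coe_mulLeft, inv_mul_cancel_left]
    ring

/-- the coefficient at the identity of a positive power as a sum over the vectors of product one -/
theorem coeff_one_pow_succ [Fintype G] (x : MonoidAlgebra ℂ G) (n : ℕ) :
    (x ^ (n + 1)).coeff 1 =
      ∑ v : vectorsProdEqOne G (n + 1), listWeight x v.1.toList := by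
  classical
  rw [← Equiv.sum_comp (VectorsProdEqOne.vectorEquiv G n)]
  have h1 : ∀ u : List.Vector G n,
      listWeight x ((VectorsProdEqOne.vectorEquiv G n u).1.toList) =
        (fun g => x.coeff g⁻¹) u.toList.prod * listWeight x u.toList := by
    intro u
    have : (VectorsProdEqOne.vectorEquiv G n u).1.toList = u.toList.prod⁻¹ :: u.toList :=
      List.Vector.toList_cons _ u
    rw [this, listWeight_cons]
  rw [Finset.sum_congr rfl (fun u _ => h1 u), sum_vector_weight x n (fun g => x.coeff g⁻¹),
    pow_succ', ga_coeff_mul']
  apply Finset.sum_congr rfl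
  intro t _
  rw [one_mul]

end Cfsg.Agent.Helper6
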