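import Mathlib
import Cfsg.Prelude.Def_Characters
import Cfsg.Prelude.Def_Blocks
import Cfsg.Agent.Helper6.FrobTrickB

/-!
# The Frobenius congruence for the coefficient at the identity (towards S0940)
-/

set_option autoImplicit false
set_option linter.style.haveILetI false

namespace Cfsg.Agent.Helper6

open Equiv.Perm

universe u

variable {G : Type u} [Group G] {M : Ideal Cfsg.AlgInt}

omit [Group G] in
theorem memLocalRing_listWeight (hM : M.IsMaximal) (x : MonoidAlgebra ℂ G) (hx : GaLoc M x)
    (l : List G) : Cfsg.MemLocalRing M (listWeight x l) := by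
  induction l with
  | nil =>
    unfold listWeight
    simp only [List.map_nil, List.prod_nil]
    exact memLocalRing_one hM
  | cons t l ih =>
    rw [listWeight_cons]
    exact MemLocalRing.mul hM (hx t) ih

/-- the constant vector -/
def repVec (q : ℕ) (h : G) (hh : h ^ q = 1) : vectorsProdEqOne G q :=
  ⟨List.Vector.replicate q h, (List.prod_replicate q h).trans hh⟩

theorem repVec_toList (q : ℕ) (h : G) (hh : h ^ q = 1) :
    (repVec q h hh).1.toList = List.replicate q h := rfl

/-- **the Frobenius congruence**: the coefficient at the identity of the `p ^ k`-th power is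
congruent to the sum of the `p ^ k`-th powers of the coefficients at the solutions of
`h ^ (p ^ k) = 1` -/
theorem coeff_one_pow_prime_pow [Fintype G] [DecidableEq G] {p : ℕ} [hp : Fact p.Prime]
    (hM : Cfsg.IsPModular p M) (x : MonoidAlgebra ℂ G) (hx : GaLoc M x) (k : ℕ) :
    Cfsg.MemLocalIdeal M ((x ^ (p ^ k)).coeff 1 -
      ∑ h ∈ Finset.univ.filter (fun h : G => h ^ (p ^ k) = 1), x.coeff h ^ (p ^ k)) := by
  classical
  have hMm := hM.2.1
  obtain ⟨q, hq⟩ : ∃ q : ℕ, q = p ^ k := ⟨_, rfl⟩
  have hq0 : q ≠ 0 := by rw [hq]; exact pow_ne_zero _ hp.out.ne_zero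
  obtain ⟨n, hn⟩ : ∃ n : ℕ, q = n + 1 := ⟨q - 1, by omega⟩
  rw [← hq]
  have hco : (x ^ q).coeff 1 = ∑ v : vectorsProdEqOne G q, listWeight x v.1.toList := by
    subst hn
    exact coeff_one_pow_succ x n
  rw [hco]
  -- the rotation
  have hf2 : ∀ (j l : ℕ) (v : vectorsProdEqOne G q),
      VectorsProdEqOne.rotate (VectorsProdEqOne.rotate v j) l = VectorsProdEqOne.rotate v (j + l) :=
    fun j l v => VectorsProdEqOne.rotate_rotate v j l
  have hf3 : ∀ v : vectorsProdEqOne G q, VectorsProdEqOne.rotate v q = v :=
    VectorsProdEqOne.rotate_length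
  obtain ⟨σ, hσdef⟩ : ∃ σ : Equiv.Perm (vectorsProdEqOne G q),
      ∀ v, σ v = VectorsProdEqOne.rotate v 1 :=
    ⟨Equiv.mk (fun v => VectorsProdEqOne.rotate v 1) (fun v => VectorsProdEqOne.rotate v (q - 1))
      (fun v => by
        show VectorsProdEqOne.rotate (VectorsProdEqOne.rotate v 1) (q - 1) = v
        rw [hf2, show 1 + (q - 1) = q by omega, hf3])
      (fun v => by
        show VectorsProdEqOne.rotate (VectorsProdEqOne.rotate v (q - 1)) 1 = v
        rw [hf2, show q - 1 + 1 = q by omega, hf3]), fun v => rfl⟩
  have hσpow : ∀ (j : ℕ) (v : vectorsProdEqOne G q), (σ ^ j) v = VectorsProdEqOne.rotate v j := by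
    intro j
    induction j with
    | zero =>
      intro v
      rw [pow_zero, Equiv.Perm.one_apply, VectorsProdEqOne.rotate_zero]
    | succ j ih =>
      intro v
      rw [pow_succ', Equiv.Perm.mul_apply, ih, hσdef, hf2]
  have hσq : σ ^ (p ^ k) = 1 := by
    ext1 v
    rw [← hq, hσpow, hf3, Equiv.Perm.one_apply]
  have hlist : ∀ v : vectorsProdEqOne G q, (σ v).1.toList = v.1.toList.rotate 1 := by
    intro v
    rw [hσdef]
    rfl
  have hW := sum_sub_sum_fixed_perm_memLocalIdeal hM σ hσq
    (fun v : vectorsProdEqOne G q => listWeight x v.1.toList)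
    (fun v => by
      rw [hlist, listWeight_rotate])
    (fun v => memLocalRing_listWeight hMm x hx _)
  -- the fixed points
  have hfix : ∑ h ∈ Finset.univ.filter (fun h : G => h ^ q = 1), x.coeff h ^ q =
      ∑ v ∈ Finset.univ.filter (fun v : vectorsProdEqOne G q => σ v = v),
        listWeight x v.1.toList := by
    apply Finset.sum_bij (fun (h : G) (hh : h ∈ Finset.univ.filter (fun h : G => h ^ q = 1)) =>
      repVec q h (Finset.mem_filter.mp hh).2)
    · intro h hh
      rw [Finset.mem_filter]
      refine ⟨Finset.mem_univ _, ?_⟩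
      apply Subtype.ext
      apply Subtype.ext
      show (σ _).1.toList = List.replicate q h
      rw [hlist, repVec_toList]
      exact List.rotate_replicate h q 1
    · intro a _ b _ hab
      have h1 : List.replicate q a = List.replicate q b := by
        have := congrArg (fun v : vectorsProdEqOne G q => v.1.toList) hab
        simpa only [repVec_toList] using this
      exact (List.replicate_right_inj hq0).mp h1
    · intro v hv
      rw [Finset.mem_filter] at hv
      have h1 : v.1.toList.rotate 1 = v.1.toList := by
        rw [← hlist, hv.2]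
      haveI : Nonempty G := ⟨1⟩
      obtain ⟨a, ha⟩ := List.rotate_one_eq_self_iff_eq_replicate.mp h1
      have hlen : v.1.toList.length = q := v.1.2
      rw [hlen] at ha
      have hprod : v.1.toList.prod = 1 := v.2
      have haq : a ^ q = 1 := by
        rw [ha, List.prod_replicate] at hprod
        exact hprod
      refine ⟨a, by rw [Finset.mem_filter]; exact ⟨Finset.mem_univ _, haq⟩, ?_⟩
      apply Subtype.ext
      apply Subtype.ext
      exact ha.symm
    · intro h hh
      rw [repVec_toList, listWeight_replicate]
  rw [hfix]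
  exact hW

end Cfsg.Agent.Helper6
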