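import Mathlib
import Cfsg.Prelude.Def_Characters
import Cfsg.Prelude.Def_Blocks
import Cfsg.Agent.Helper6.FrobTrickC
import Cfsg.Agent.Helper6.LocalSubring
import Cfsg.Agent.Helper6.SecondMainB
import Cfsg.Agent.Helper6.NilVec
import Cfsg.Agent.Helper6.ClassVec
import Cfsg.Agent.Helper6.MinMax1
import Cfsg.Agent.Helper6.MinMax2

/-!
# Coefficients of `p`-power powers of central elements (towards S0940)
-/

set_option autoImplicit false
set_option linter.style.haveILetI false

namespace Cfsg.Agent.Helper6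

universe u

variable {G : Type u} [Group G] {M : Ideal Cfsg.AlgInt}

/-- a local integer whose power lies in the local ideal lies in the local ideal -/
theorem MemLocalIdeal.of_pow (hM : M.IsMaximal) {x : ℂ} (hx : Cfsg.MemLocalRing M x) (n : ℕ)
    (h : Cfsg.MemLocalIdeal M (x ^ n)) : Cfsg.MemLocalIdeal M x := by
  induction n with
  | zero =>
    rw [pow_zero] at h
    exact absurd h not_memLocalIdeal_one
  | succ n ih =>
    rw [pow_succ] at h
    have hxn : Cfsg.MemLocalRing M (x ^ n) := by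
      have := (localSubring M hM).pow_mem ((mem_localSubring hM x).mpr hx) n
      exact this
    rcases MemLocalIdeal.of_mul hM hxn hx h with h1 | h1
    · exact ih h1
    · exact h1

/-- the Frobenius map is additive modulo the local ideal -/
theorem sum_pow_sub_sum_pow_memLocalIdeal {p : ℕ} [hp : Fact p.Prime] (hM : Cfsg.IsPModular p M)
    {ι : Type*} (s : Finset ι) (f : ι → ℂ) (hf : ∀ i ∈ s, Cfsg.MemLocalRing M (f i)) (k : ℕ) :
    Cfsg.MemLocalIdeal M ((∑ i ∈ s, f i) ^ (p ^ k) - ∑ i ∈ s, f i ^ (p ^ k)) := by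
  classical
  have hMm := hM.2.1
  induction s using Finset.induction_on with
  | empty =>
    rw [Finset.sum_empty, Finset.sum_empty, zero_pow (pow_ne_zero _ hp.out.ne_zero), sub_zero]
    exact memLocalIdeal_zero hMm
  | insert a s ha ih =>
    rw [Finset.sum_insert ha, Finset.sum_insert ha]
    have hfa := hf a (Finset.mem_insert_self a s)
    have hfs : ∀ i ∈ s, Cfsg.MemLocalRing M (f i) := fun i hi => hf i (Finset.mem_insert_of_mem hi)
    have hS : Cfsg.MemLocalRing M (∑ i ∈ s, f i) := MemLocalRing.sum hMm s f hfs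
    obtain ⟨r, hr⟩ := exists_add_pow_prime_pow_eq hp.out
      (⟨f a, hfa⟩ : localSubring M hMm) ⟨∑ i ∈ s, f i, hS⟩ k
    have hr' := congrArg (fun z : localSubring M hMm => (z : ℂ)) hr
    simp only [Subring.coe_add, Subring.coe_pow, Subring.coe_mul, Subring.coe_natCast] at hr'
    rw [hr']
    have e : f a ^ p ^ k + (∑ i ∈ s, f i) ^ p ^ k +
        ((p : ℂ) * f a * ∑ i ∈ s, f i) * (r : ℂ) - (f a ^ p ^ k + ∑ i ∈ s, f i ^ p ^ k) =
        ((∑ i ∈ s, f i) ^ p ^ k - ∑ i ∈ s, f i ^ p ^ k) +
        ((f a * ∑ i ∈ s, f i) * (r : ℂ)) * (p : ℂ) := by ring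
    rw [e]
    apply MemLocalIdeal.add hMm (ih hfs)
    apply MemLocalIdeal.mul_left hMm _ (memLocalIdeal_prime hM)
    exact MemLocalRing.mul hMm (MemLocalRing.mul hMm hfa hS) r.2

/-- **coefficients of `p`-power powers of central elements** -/
theorem coeff_pow_prime_pow_central [Fintype G] [DecidableEq G] {p : ℕ} [hp : Fact p.Prime]
    (hM : Cfsg.IsPModular p M) (u : G → ℂ) (hu : Cfsg.IsClassFunction G u)
    (hloc : ∀ t, Cfsg.MemLocalRing M (u t)) (k : ℕ) (g : G) (hg : g ^ (p ^ k) = g) :
    Cfsg.MemLocalIdeal M (((gaOfFun u) ^ (p ^ k)).coeff g -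
      (∑ h ∈ Finset.univ.filter (fun h : G => h ^ (p ^ k) = 1), u (g * h)) ^ (p ^ k)) := by
  have hMm := hM.2.1
  obtain ⟨x, hx⟩ : ∃ x : MonoidAlgebra ℂ G, x = MonoidAlgebra.single g⁻¹ (1 : ℂ) * gaOfFun u :=
    ⟨_, rfl⟩
  have hxloc : GaLoc M x := by
    rw [hx]
    exact GaLoc.mul hMm (GaLoc.single hMm _ (memLocalRing_one hMm)) (GaLoc.ofFun hloc)
  have hxc : ∀ h : G, x.coeff h = u (g * h) := by
    intro h
    rw [hx, MonoidAlgebra.coeff_single_mul_apply, one_mul, gaOfFun_coeff, inv_inv]
  have hcomm : Commute (MonoidAlgebra.single g⁻¹ (1 : ℂ)) (gaOfFun u) :=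
    (gaOfFun_commute_single hu g⁻¹).symm
  have hxpow : (x ^ (p ^ k)).coeff 1 = ((gaOfFun u) ^ (p ^ k)).coeff g := by
    rw [hx, hcomm.mul_pow, single_one_pow, MonoidAlgebra.coeff_single_mul_apply, one_mul, mul_one,
      inv_pow, inv_inv, hg]
  have h1 := coeff_one_pow_prime_pow hM x hxloc k
  rw [hxpow] at h1
  have h2 := sum_pow_sub_sum_pow_memLocalIdeal hM
    (Finset.univ.filter (fun h : G => h ^ (p ^ k) = 1)) (fun h => u (g * h))
    (fun h _ => hloc _) k
  have h3 := MemLocalIdeal.sub hMm h1 h2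
  have e : ∀ h : G, x.coeff h ^ p ^ k = (fun h => u (g * h)) h ^ p ^ k := fun h => by rw [hxc]
  rw [Finset.sum_congr rfl (fun h _ => e h)] at h3
  convert h3 using 1
  ring

section Nil

variable [Fintype G] [Fintype (Cfsg.IrrCharacter G)]

/-- the coefficients of the powers of a central element -/
theorem coeff_pow_eq_idemCoeff [DecidableEq G] (u : G → ℂ) (hu : Cfsg.IsClassFunction G u)
    (j : ℕ) (g : G) :
    ((gaOfFun u) ^ j).coeff g = idemCoeff ((classVec u) ^ j) g := by
  induction j generalizing g with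
  | zero => rw [pow_zero, pow_zero, ga_coeff_one, idemCoeff_one]
  | succ j ih =>
    rw [pow_succ', pow_succ', ga_coeff_mul, idemCoeff_classVec_mul u hu]
    apply Finset.sum_congr rfl
    intro t _
    rw [gaOfFun_coeff, ih]
    congr 1
    have := idemCoeff_isClassFunction ((classVec u) ^ j) (t⁻¹ * g) t
    rw [← this]
    congr 1
    group

/-- **nilpotency modulo the local ideal**: if all central character values of a central element
with local coefficients lie in the local ideal, so do the coefficients of its high powers -/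
theorem coeff_pow_memLocalIdeal_of_classVec [DecidableEq G] (hM : M.IsMaximal) (u : G → ℂ)
    (hu : Cfsg.IsClassFunction G u) (hloc : ∀ t, Cfsg.MemLocalRing M (u t))
    (hv : ∀ χ, Cfsg.MemLocalIdeal M (classVec u χ)) (j : ℕ)
    (hj : Fintype.card (Cfsg.IrrCharacter G) ≤ j) (g : G) :
    Cfsg.MemLocalIdeal M (((gaOfFun u) ^ j).coeff g) := by
  obtain ⟨i, rfl⟩ := Nat.exists_eq_add_of_le hj
  induction i generalizing g with
  | zero =>
    rw [add_zero, coeff_pow_eq_idemCoeff u hu]
    exact memLocalIdeal_idemCoeff_pow hM (classVec u) (isMultiplier_classVec hM u hu hloc) hv g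
  | succ i ih =>
    rw [← add_assoc, pow_succ', ga_coeff_mul]
    apply MemLocalIdeal.sum hM
    intro t _
    rw [gaOfFun_coeff]
    exact MemLocalIdeal.mul_left hM (hloc t) (ih _ (by omega))

end Nil

end Cfsg.Agent.Helper6
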