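import Mathlib
import Cfsg.Prelude.Def_Characters
import Cfsg.Prelude.Def_Blocks
import Cfsg.Agent.Helper6.FrobTrickD
import Cfsg.Agent.Helper6.BlockOrth
import Cfsg.Agent.Helper6.GroupAlgB
import Cfsg.Agent.Helper6.DefectClassValues
import Cfsg.Agent.Helper6.IrrBasis

/-!
# The idempotent coefficients of the principal block at `p`-regular elements (S0940)
-/

set_option autoImplicit false
set_option linter.style.haveILetI false

namespace Cfsg.Agent.Helper6

open scoped ComplexConjugate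

universe u

variable {G : Type u} [Group G] {M : Ideal Cfsg.AlgInt}

/-- Fermat for natural numbers, modulo the local ideal -/
theorem natCast_pow_sub_memLocalIdeal {p : ℕ} [hp : Fact p.Prime] (hM : Cfsg.IsPModular p M)
    (n k : ℕ) : Cfsg.MemLocalIdeal M (((n : ℂ)) ^ (p ^ k) - (n : ℂ)) := by
  have hMm := hM.2.1
  have h1 : (((n : ℤ) ^ (p ^ k) - (n : ℤ) : ℤ) : ZMod p) = 0 := by
    push_cast
    rw [ZMod.pow_card_pow, sub_self]
  obtain ⟨c, hc⟩ := (ZMod.intCast_zmod_eq_zero_iff_dvd _ p).mp h1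
  have h2 : ((n : ℂ)) ^ (p ^ k) - (n : ℂ) = ((c : ℤ) : ℂ) * (p : ℂ) := by
    have := congrArg (fun z : ℤ => (z : ℂ)) hc
    push_cast at this
    rw [this]
    ring
  rw [h2]
  apply MemLocalIdeal.mul_left hMm _ (memLocalIdeal_prime hM)
  apply memLocalRing_of_isIntegral hMm
  exact isIntegral_algebraMap (R := ℤ) (A := ℂ) (x := c) |> fun h => by simpa using h

/-- congruent local integers have congruent powers -/
theorem pow_sub_pow_memLocalIdeal (hM : M.IsMaximal) {a b : ℂ} (ha : Cfsg.MemLocalRing M a)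
    (hb : Cfsg.MemLocalRing M b) (h : Cfsg.MemLocalIdeal M (a - b)) (n : ℕ) :
    Cfsg.MemLocalIdeal M (a ^ n - b ^ n) := by
  induction n with
  | zero =>
    rw [pow_zero, pow_zero, sub_self]
    exact memLocalIdeal_zero hM
  | succ n ih =>
    have e : a ^ (n + 1) - b ^ (n + 1) = a ^ n * (a - b) + b * (a ^ n - b ^ n) := by ring
    rw [e]
    have han : Cfsg.MemLocalRing M (a ^ n) :=
      (localSubring M hM).pow_mem ((mem_localSubring hM a).mpr ha) n
    exact MemLocalIdeal.add hM (MemLocalIdeal.mul_left hM han h) (MemLocalIdeal.mul_left hM hb ih)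

/-- a suitable exponent -/
theorem exists_good_exponent [Finite G] (p : ℕ) [hp : Fact p.Prime] (K : ℕ) :
    ∃ k : ℕ, (∀ h : G, h ^ (p ^ k) = 1 ↔ ∃ j : ℕ, orderOf h = p ^ j) ∧
      (∀ g : G, ¬ p ∣ orderOf g → g ^ (p ^ k) = g) ∧ K ≤ p ^ k := by
  have hG0 : Nat.card G ≠ 0 := Nat.card_pos.ne'
  obtain ⟨a, ha⟩ : ∃ a : ℕ, a = (Nat.card G).factorization p := ⟨_, rfl⟩
  obtain ⟨m, hm⟩ : ∃ m : ℕ, m = Nat.card G / p ^ a := ⟨_, rfl⟩
  have hpm : Nat.Coprime p m := by
    rw [hm, ha]
    exact Nat.coprime_ordCompl hp.out hG0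
  have hcard : p ^ a * m = Nat.card G := by
    rw [hm, ha]
    exact Nat.ordProj_mul_ordCompl_eq_self _ _
  have hm0 : 0 < m := by
    rcases Nat.eq_zero_or_pos m with h | h
    · rw [h, mul_zero] at hcard
      exact absurd hcard.symm hG0
    · exact h
  have hφ : 0 < Nat.totient m := Nat.totient_pos.mpr hm0
  refine ⟨Nat.totient m * (a + K), ?_, ?_, ?_⟩
  · intro h
    constructor
    · intro hh
      have := orderOf_dvd_of_pow_eq_one hh
      obtain ⟨j, -, hj⟩ := (Nat.dvd_prime_pow hp.out).mp this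
      exact ⟨j, hj⟩
    · rintro ⟨j, hj⟩
      have h1 : p ^ j ∣ Nat.card G := by
        rw [← hj]
        exact orderOf_dvd_natCard h
      have h2 : j ≤ a := by
        rw [ha]
        exact (Nat.Prime.pow_dvd_iff_le_factorization hp.out hG0).mp h1
      apply orderOf_dvd_iff_pow_eq_one.mp
      rw [hj]
      apply pow_dvd_pow
      calc j ≤ a := h2
        _ ≤ a + K := Nat.le_add_right _ _
        _ ≤ Nat.totient m * (a + K) := Nat.le_mul_of_pos_left _ hφ
  · intro g hg
    have h1 : orderOf g ∣ m := by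
      have h2 : orderOf g ∣ m * p ^ a := by
        rw [mul_comm, hcard]
        exact orderOf_dvd_natCard g
      have h3 : Nat.Coprime (orderOf g) (p ^ a) :=
        Nat.Coprime.pow_right _ ((Nat.Prime.coprime_iff_not_dvd hp.out).mpr hg).symm
      exact Nat.Coprime.dvd_of_dvd_mul_right h3 h2
    have h4 : p ^ (Nat.totient m * (a + K)) ≡ 1 [MOD m] := by
      rw [pow_mul]
      have := (Nat.ModEq.pow_totient hpm).pow (a + K)
      rwa [one_pow] at this
    have h5 : p ^ (Nat.totient m * (a + K)) ≡ 1 [MOD orderOf g] := h4.of_dvd h1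
    have := pow_eq_pow_iff_modEq.mpr h5
    rwa [pow_one] at this
  · calc K ≤ a + K := Nat.le_add_left _ _
      _ ≤ Nat.totient m * (a + K) := Nat.le_mul_of_pos_left _ hφ
      _ ≤ p ^ (Nat.totient m * (a + K)) := (Nat.lt_pow_self hp.out.one_lt).le

end Cfsg.Agent.Helper6
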