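import Mathlib
import Cfsg.Prelude.Def_Characters
import Cfsg.Prelude.Def_Blocks
import Cfsg.Agent.Helper6.FrobTrickE

/-!
# The idempotent coefficients of the principal block at `p`-regular elements (S0940), main part
-/

set_option autoImplicit false
set_option linter.style.haveILetI false

namespace Cfsg.Agent.Helper6

open scoped ComplexConjugate

universe u

variable {G : Type u} [Group G] {M : Ideal Cfsg.AlgInt}

/-- the central character values of the sum of the `p`-regular elements -/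
theorem classVec_pRegular [Fintype G] [Fintype (Cfsg.IrrCharacter G)] [DecidableEq G] {p : ℕ}
    [hp : Fact p.Prime] (hM : Cfsg.IsPModular p M) (χ : Cfsg.IrrCharacter G) :
    (χ ∉ Cfsg.principalBlock M G →
      classVec (fun g : G => if p ∣ orderOf g then (0 : ℂ) else 1) χ = 0) ∧
    (χ ∈ Cfsg.principalBlock M G → Cfsg.MemLocalIdeal M
      (classVec (fun g : G => if p ∣ orderOf g then (0 : ℂ) else 1) χ -
        ((Finset.univ.filter (fun y : G => ¬ p ∣ orderOf y)).card : ℂ))) := by
  classical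
  have hMm := hM.2.1
  obtain ⟨triv, htriv⟩ : ∃ t : Cfsg.IrrCharacter G, t = ⟨fun _ => 1, isIrrCharacter_one⟩ :=
    ⟨_, rfl⟩
  have htrivf : (triv : G → ℂ) = fun _ => 1 := by rw [htriv]
  have hB : Cfsg.IsPBlock M (Cfsg.principalBlock M G) := ⟨triv, by rw [htrivf]; rfl⟩
  have htrivB : triv ∈ Cfsg.principalBlock M G := by
    have := mem_blockOf_self hMm triv
    rw [htrivf] at this
    exact this
  have hχ1 : (χ : G → ℂ) 1 ≠ 0 := IsIrrCharacter.apply_one_ne_zero χ.2
  have hcv : classVec (fun g : G => if p ∣ orderOf g then (0 : ℂ) else 1) χ =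
      ∑ t : G, (if p ∣ orderOf t then (0 : ℂ) else (χ : G → ℂ) t / (χ : G → ℂ) 1) := by
    unfold classVec
    apply Finset.sum_congr rfl
    intro t _
    by_cases ht : p ∣ orderOf t
    · simp only [if_pos ht, zero_mul]
    · simp only [if_neg ht, one_mul]
  constructor
  · intro hχ
    rw [hcv]
    have h0 := sum_pregular_eq_zero hMm p hM.2.2 _ hB triv χ htrivB hχ
    have h1 : ∑ t : G, (if p ∣ orderOf t then (0 : ℂ) else (χ : G → ℂ) t / (χ : G → ℂ) 1) =
        conj (∑ x : G, (if p ∣ orderOf x then (0 : ℂ) else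
          (triv : G → ℂ) x * conj ((χ : G → ℂ) x))) / (χ : G → ℂ) 1 := by
      rw [map_sum, Finset.sum_div]
      apply Finset.sum_congr rfl
      intro t _
      by_cases ht : p ∣ orderOf t
      · rw [if_pos ht, if_pos ht, map_zero, zero_div]
      · rw [if_neg ht, if_neg ht, htrivf, one_mul, Complex.conj_conj]
    rw [h1, h0, map_zero, zero_div]
  · intro hχ
    rw [hcv]
    have hsame : ∀ g, Cfsg.MemLocalIdeal M (Cfsg.centralChar (fun _ : G => (1 : ℂ)) g -
        Cfsg.centralChar (χ : G → ℂ) g) := hχ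
    have hcard : ((Finset.univ.filter (fun y : G => ¬ p ∣ orderOf y)).card : ℂ) =
        ∑ t : G, (if p ∣ orderOf t then (0 : ℂ) else 1) := by
      rw [Finset.card_eq_sum_ones, Finset.sum_filter]
      push_cast
      apply Finset.sum_congr rfl
      intro t _
      by_cases ht : p ∣ orderOf t
      · rw [if_pos ht, if_neg (not_not.mpr ht)]
      · rw [if_neg ht, if_pos ht]
    rw [hcard, ← Finset.sum_sub_distrib]
    apply sum_mem_of_class_sums (Cfsg.MemLocalIdeal M) (memLocalIdeal_zero hMm)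
      (fun x y => MemLocalIdeal.add hMm) _ ?_ _ _ rfl
    · intro g _ x
      exact Finset.mem_univ _
    · intro g
      have hord : ∀ x ∈ classFinset g, orderOf x = orderOf g := by
        intro x hx
        rw [mem_classFinset] at hx
        obtain ⟨c, hc⟩ := isConj_iff.mp hx
        rw [← hc]
        have := MulEquiv.orderOf_eq (MulAut.conj c) g
        rw [MulAut.conj_apply] at this
        exact this
      by_cases hg : p ∣ orderOf g
      · have : ∑ x ∈ classFinset g, ((if p ∣ orderOf x then (0 : ℂ) else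
            (χ : G → ℂ) x / (χ : G → ℂ) 1) - if p ∣ orderOf x then (0 : ℂ) else 1) = 0 := by
          apply Finset.sum_eq_zero
          intro x hx
          rw [hord x hx, if_pos hg, if_pos hg, sub_zero]
        rw [this]
        exact memLocalIdeal_zero hMm
      · have : ∑ x ∈ classFinset g, ((if p ∣ orderOf x then (0 : ℂ) else
            (χ : G → ℂ) x / (χ : G → ℂ) 1) - if p ∣ orderOf x then (0 : ℂ) else 1) =
            ∑ x ∈ classFinset g, ((χ : G → ℂ) x / (χ : G → ℂ) 1 - 1) := by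
          apply Finset.sum_congr rfl
          intro x hx
          rw [hord x hx, if_neg hg, if_neg hg]
        rw [this, Finset.sum_sub_distrib,
          sum_classFinset_classFunction (fun x => (χ : G → ℂ) x / (χ : G → ℂ) 1)
            (fun a b => by
              simp only
              rw [IsCharacter.isClassFunction (IsIrrCharacter.isCharacter χ.2) a b]),
          Finset.sum_const, card_classFinset, nsmul_eq_mul, mul_one]
        have e : ((Subgroup.centralizer ({g} : Set G)).index : ℂ) *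
            ((χ : G → ℂ) g / (χ : G → ℂ) 1) -
            ((Subgroup.centralizer ({g} : Set G)).index : ℂ) =
            -(Cfsg.centralChar (fun _ : G => (1 : ℂ)) g - Cfsg.centralChar (χ : G → ℂ) g) := by
          unfold Cfsg.centralChar
          ring
        rw [e]
        exact MemLocalIdeal.neg (hsame g)

open Classical in
/-- **the idempotent coefficients of the principal block at `p`-regular elements**, multiplied by
the number of `p`-regular elements -/
theorem principal_blockCoeff_mul_card [Fintype G] {p : ℕ} [hp : Fact p.Prime]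
    (hM : Cfsg.IsPModular p M) (g : G) (hg : ¬ p ∣ orderOf g) :
    ¬ p ∣ (Finset.univ.filter (fun y : G => ¬ p ∣ orderOf y)).card ∧
    Cfsg.MemLocalIdeal M
      (((Finset.univ.filter (fun y : G => ¬ p ∣ orderOf y)).card : ℂ) *
          Cfsg.blockCoeff (Cfsg.principalBlock M G) g -
        ((Finset.univ.filter (fun h : G => (∃ j : ℕ, orderOf h = p ^ j) ∧
          ¬ p ∣ orderOf (g * h))).card : ℂ)) := by
  classical
  haveI : Finite (Cfsg.IrrCharacter G) := irr_finite
  haveI : Fintype (Cfsg.IrrCharacter G) := Fintype.ofFinite _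
  have hMm := hM.2.1
  obtain ⟨k, hQ1, hQ2, hQ3⟩ :=
    exists_good_exponent (G := G) p (Fintype.card (Cfsg.IrrCharacter G))
  obtain ⟨R, hR⟩ : ∃ R : ℕ, R = (Finset.univ.filter (fun y : G => ¬ p ∣ orderOf y)).card :=
    ⟨_, rfl⟩
  rw [← hR]
  obtain ⟨Tf, hTf⟩ : ∃ Tf : G → ℂ, Tf = fun g : G => if p ∣ orderOf g then (0 : ℂ) else 1 :=
    ⟨_, rfl⟩
  obtain ⟨ef, hef⟩ : ∃ ef : G → ℂ, ef = Cfsg.blockCoeff (Cfsg.principalBlock M G) := ⟨_, rfl⟩
  rw [← hef]
  obtain ⟨triv, htriv⟩ : ∃ t : Cfsg.IrrCharacter G, t = ⟨fun _ => 1, isIrrCharacter_one⟩ :=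
    ⟨_, rfl⟩
  have htrivf : (triv : G → ℂ) = fun _ => 1 := by rw [htriv]
  have hB : Cfsg.IsPBlock M (Cfsg.principalBlock M G) := ⟨triv, by rw [htrivf]; rfl⟩
  have hTcf : Cfsg.IsClassFunction G Tf := by
    intro a b
    rw [hTf]
    simp only
    have := MulEquiv.orderOf_eq (MulAut.conj b) a
    rw [MulAut.conj_apply] at this
    rw [this]
  have hecf : Cfsg.IsClassFunction G ef := by rw [hef]; exact blockCoeff_isClassFunction _
  have hTloc : ∀ t, Cfsg.MemLocalRing M (Tf t) := by
    intro t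
    rw [hTf]
    simp only
    split_ifs
    · exact memLocalRing_zero hMm
    · exact memLocalRing_one hMm
  have heloc : ∀ t, Cfsg.MemLocalRing M (ef t) := by
    intro t
    rw [hef]
    exact osima hMm _ hB t
  obtain ⟨Ω, hΩ⟩ : ∃ Ω : Finset G, Ω = Finset.univ.filter (fun h : G => h ^ (p ^ k) = 1) :=
    ⟨_, rfl⟩
  have hmemΩ : ∀ h, h ∈ Ω ↔ ∃ j : ℕ, orderOf h = p ^ j := by
    intro h
    rw [hΩ, Finset.mem_filter, ← hQ1 h]
    simp
  have hcvT : ∀ χ : Cfsg.IrrCharacter G,
      (χ ∉ Cfsg.principalBlock M G → classVec Tf χ = 0) ∧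
      (χ ∈ Cfsg.principalBlock M G → Cfsg.MemLocalIdeal M (classVec Tf χ - (R : ℂ))) := by
    intro χ
    have := classVec_pRegular hM χ
    rw [← hTf, ← hR] at this
    exact this
  -- Part 1
  have hpR : ¬ p ∣ R := by
    intro hdvd
    have hRI : Cfsg.MemLocalIdeal M (R : ℂ) := by
      obtain ⟨c, hc⟩ := hdvd
      rw [hc]
      push_cast
      rw [mul_comm]
      exact MemLocalIdeal.mul_left hMm (memLocalRing_natCast hMm c) (memLocalIdeal_prime hM)
    have hv : ∀ χ, Cfsg.MemLocalIdeal M (classVec Tf χ) := by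
      intro χ
      obtain ⟨h1, h2⟩ := hcvT χ
      by_cases hχ : χ ∈ Cfsg.principalBlock M G
      · have := MemLocalIdeal.add hMm (h2 hχ) hRI
        rwa [sub_add_cancel] at this
      · rw [h1 hχ]
        exact memLocalIdeal_zero hMm
    have hnil := coeff_pow_memLocalIdeal_of_classVec hMm Tf hTcf hTloc hv (p ^ k) hQ3 1
    have hD := coeff_pow_prime_pow_central hM Tf hTcf hTloc k 1 (one_pow _)
    rw [← hΩ] at hD
    have hsum : ∑ h ∈ Ω, Tf (1 * h) = 1 := by
      rw [Finset.sum_eq_single 1]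
      · rw [hTf]
        simp only [mul_one, orderOf_one]
        rw [if_neg]
        exact hp.out.not_dvd_one
      · intro h hh hne
        obtain ⟨j, hj⟩ := (hmemΩ h).mp hh
        rw [hTf, one_mul]
        simp only
        rw [if_pos]
        rw [hj]
        apply dvd_pow_self
        rintro rfl
        rw [pow_zero, orderOf_eq_one_iff] at hj
        exact hne hj
      · intro h
        exfalso
        apply h
        rw [hmemΩ]
        exact ⟨0, by rw [orderOf_one, pow_zero]⟩
    rw [hsum, one_pow] at hD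
    have := MemLocalIdeal.sub hMm hnil hD
    rw [sub_sub_cancel] at this
    exact not_memLocalIdeal_one this
  refine ⟨hpR, ?_⟩
  -- Part 2
  obtain ⟨u, hu⟩ : ∃ u : G → ℂ, u = fun t => Tf t - (R : ℂ) * ef t := ⟨_, rfl⟩
  have hucf : Cfsg.IsClassFunction G u := by
    intro a b
    rw [hu]
    simp only
    rw [hTcf a b, hecf a b]
  have huloc : ∀ t, Cfsg.MemLocalRing M (u t) := by
    intro t
    rw [hu]
    exact MemLocalRing.sub hMm (hTloc t)
      (MemLocalRing.mul hMm (memLocalRing_natCast hMm R) (heloc t))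
  have hcve : ∀ χ : Cfsg.IrrCharacter G,
      classVec ef χ = if χ ∈ Cfsg.principalBlock M G then 1 else 0 := by
    intro χ
    have hχ1 : (χ : G → ℂ) 1 ≠ 0 := IsIrrCharacter.apply_one_ne_zero χ.2
    unfold classVec
    have h1 : ∑ t : G, ef t * ((χ : G → ℂ) t / (χ : G → ℂ) 1) =
        (∑ t : G, ef t * (χ : G → ℂ) t) / (χ : G → ℂ) 1 := by
      rw [Finset.sum_div]
      apply Finset.sum_congr rfl
      intro t _
      ring
    rw [h1, hef, sum_blockCoeff_mul]
    by_cases hχ : χ ∈ Cfsg.principalBlock M G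
    · rw [if_pos hχ, if_pos hχ, div_self hχ1]
    · rw [if_neg hχ, if_neg hχ, zero_div]
  have hcvu : ∀ χ : Cfsg.IrrCharacter G, classVec u χ = classVec Tf χ - (R : ℂ) * classVec ef χ := by
    intro χ
    unfold classVec
    rw [hu, Finset.mul_sum, ← Finset.sum_sub_distrib]
    apply Finset.sum_congr rfl
    intro t _
    ring
  have hv : ∀ χ, Cfsg.MemLocalIdeal M (classVec u χ) := by
    intro χ
    obtain ⟨h1, h2⟩ := hcvT χ
    rw [hcvu, hcve]
    by_cases hχ : χ ∈ Cfsg.principalBlock M G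
    · rw [if_pos hχ, mul_one]
      exact h2 hχ
    · rw [if_neg hχ, mul_zero, sub_zero, h1 hχ]
      exact memLocalIdeal_zero hMm
  have hnil := coeff_pow_memLocalIdeal_of_classVec hMm u hucf huloc hv (p ^ k) hQ3 g
  have hD := coeff_pow_prime_pow_central hM u hucf huloc k g (hQ2 g hg)
  rw [← hΩ] at hD
  have hsumloc : Cfsg.MemLocalRing M (∑ h ∈ Ω, u (g * h)) :=
    MemLocalRing.sum hMm _ _ (fun h _ => huloc _)
  have hsumI : Cfsg.MemLocalIdeal M (∑ h ∈ Ω, u (g * h)) := by
    apply MemLocalIdeal.of_pow hMm hsumloc (p ^ k)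
    have := MemLocalIdeal.sub hMm hnil hD
    rwa [sub_sub_cancel] at this
  obtain ⟨E, hE⟩ : ∃ E : ℂ, E = ∑ h ∈ Ω, ef (g * h) := ⟨_, rfl⟩
  have hEloc : Cfsg.MemLocalRing M E := by
    rw [hE]
    exact MemLocalRing.sum hMm _ _ (fun h _ => heloc _)
  obtain ⟨N, hN⟩ : ∃ N : ℕ, N = (Finset.univ.filter (fun h : G => (∃ j : ℕ, orderOf h = p ^ j) ∧
      ¬ p ∣ orderOf (g * h))).card := ⟨_, rfl⟩
  rw [← hN]
  have hNsum : ∑ h ∈ Ω, Tf (g * h) = (N : ℂ) := by
    rw [hN, Finset.card_eq_sum_ones, hTf]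
    push_cast
    rw [Finset.sum_filter]
    have : ∑ h ∈ Ω, (if p ∣ orderOf (g * h) then (0 : ℂ) else 1) =
        ∑ h : G, if h ∈ Ω then (if p ∣ orderOf (g * h) then (0 : ℂ) else 1) else 0 := by
      rw [Finset.sum_ite_mem, Finset.univ_inter]
    rw [this]
    apply Finset.sum_congr rfl
    intro h _
    by_cases h1 : h ∈ Ω
    · by_cases h2 : p ∣ orderOf (g * h)
      · rw [if_pos h1, if_pos h2, if_neg]
        rintro ⟨-, h3⟩
        exact h3 h2
      · rw [if_pos h1, if_neg h2, if_pos ⟨(hmemΩ h).mp h1, h2⟩]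
    · rw [if_neg h1, if_neg]
      rintro ⟨h3, -⟩
      exact h1 ((hmemΩ h).mpr h3)
  have hNRE : Cfsg.MemLocalIdeal M ((R : ℂ) * E - (N : ℂ)) := by
    have e : ∑ h ∈ Ω, u (g * h) = (N : ℂ) - (R : ℂ) * E := by
      rw [hu, Finset.sum_sub_distrib, hNsum, hE, Finset.mul_sum]
    rw [e] at hsumI
    have := MemLocalIdeal.neg hsumI
    rwa [neg_sub] at this
  -- the idempotent
  have hDe := coeff_pow_prime_pow_central hM ef hecf heloc k g (hQ2 g hg)
  rw [← hΩ, ← hE] at hDe
  have hidem : (gaOfFun ef) ^ (p ^ k) = gaOfFun ef := by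
    obtain ⟨n, hn⟩ : ∃ n : ℕ, p ^ k = n + 1 :=
      ⟨p ^ k - 1, by have := pow_pos hp.out.pos k; omega⟩
    rw [hn]
    have hi : IsIdempotentElem (gaOfFun ef) := by
      rw [hef]
      exact gaOfFun_blockCoeff_idem _
    exact hi.pow_succ_eq n
  rw [hidem, gaOfFun_coeff] at hDe
  -- combine
  have hRloc := memLocalRing_natCast hMm (M := M) R
  have hNloc := memLocalRing_natCast hMm (M := M) N
  have hRqloc : Cfsg.MemLocalRing M ((R : ℂ) ^ (p ^ k)) :=
    (localSubring M hMm).pow_mem ((mem_localSubring hMm _).mpr hRloc) _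
  have h1 := natCast_pow_sub_memLocalIdeal hM R k
  have h2 := natCast_pow_sub_memLocalIdeal hM N k
  have h3 := pow_sub_pow_memLocalIdeal hMm (MemLocalRing.mul hMm hRloc hEloc) hNloc hNRE (p ^ k)
  have e : (R : ℂ) * ef g - (N : ℂ) =
      -(((R : ℂ) ^ (p ^ k) - (R : ℂ)) * ef g) + (R : ℂ) ^ (p ^ k) * (ef g - E ^ (p ^ k)) +
      (((R : ℂ) * E) ^ (p ^ k) - (N : ℂ) ^ (p ^ k)) + ((N : ℂ) ^ (p ^ k) - (N : ℂ)) := by
    rw [mul_pow]
    ring
  rw [e]
  refine MemLocalIdeal.add hMm (MemLocalIdeal.add hMm (MemLocalIdeal.add hMm ?_ ?_) h3) h2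
  · apply MemLocalIdeal.neg
    rw [mul_comm]
    exact MemLocalIdeal.mul_left hMm (heloc g) h1
  · exact MemLocalIdeal.mul_left hMm hRqloc hDe

end Cfsg.Agent.Helper6
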