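import Mathlib
import Cfsg.Agent.Helper6.ColumnOrth

/-!
# Landau's theorem: the order of a finite group is bounded in terms of its class number
-/

set_option autoImplicit false
set_option linter.style.haveILetI false

namespace Cfsg.Agent.Helper6

universe u

/-- finitely many solutions of `∑ 1 / nᵢ = r` in `k` positive integers: a bound on the `nᵢ` -/
theorem recip_sum_bound (k : ℕ) : ∀ r : ℚ, 0 < r → ∃ N : ℕ, ∀ (ι : Type u) [DecidableEq ι]
    (s : Finset ι) (f : ι → ℕ), s.card = k → (∀ i ∈ s, 0 < f i) →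
    ∑ i ∈ s, (1 : ℚ) / (f i : ℚ) = r → ∀ i ∈ s, f i ≤ N := by
  induction k with
  | zero =>
    intro r hr
    refine ⟨0, ?_⟩
    intro ι _ s f hs _ _ i hi
    rw [Finset.card_eq_zero] at hs
    rw [hs] at hi
    exact absurd hi (Finset.notMem_empty i)
  | succ k ih =>
    intro r hr
    obtain ⟨L, hL⟩ : ∃ L : ℕ, ((k + 1 : ℕ) : ℚ) / r ≤ L :=
      ⟨⌈((k + 1 : ℕ) : ℚ) / r⌉₊, Nat.le_ceil _⟩
    have hch : ∀ m : ℕ, ∃ Nm : ℕ, (0 < r - 1 / (m : ℚ)) → ∀ (ι : Type u) [DecidableEq ι]
        (s : Finset ι) (f : ι → ℕ), s.card = k → (∀ i ∈ s, 0 < f i) →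
        ∑ i ∈ s, (1 : ℚ) / (f i : ℚ) = r - 1 / (m : ℚ) → ∀ i ∈ s, f i ≤ Nm := by
      intro m
      by_cases h : 0 < r - 1 / (m : ℚ)
      · obtain ⟨Nm, hNm⟩ := ih _ h
        exact ⟨Nm, fun _ => hNm⟩
      · exact ⟨0, fun h' => absurd h' h⟩
    choose Nf hNf using hch
    refine ⟨(Finset.range (L + 1)).sup (fun m => max m (Nf m)), ?_⟩
    intro ι _ s f hs hpos hsum i hi
    have hk : (0 : ℚ) < ((k + 1 : ℕ) : ℚ) := by positivity
    have hex : ∃ j ∈ s, f j ≤ L := by
      by_contra hcon
      have hcon : ∀ j ∈ s, L < f j := by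
        intro j hj
        by_contra hle
        exact hcon ⟨j, hj, not_lt.mp hle⟩
      have hlt : ∑ j ∈ s, (1 : ℚ) / (f j : ℚ) < ∑ j ∈ s, r / ((k + 1 : ℕ) : ℚ) := by
        apply Finset.sum_lt_sum_of_nonempty
        · rw [← Finset.card_pos, hs]
          exact Nat.succ_pos k
        · intro j hj
          have h1 := hcon j hj
          have h2 : (L : ℚ) < (f j : ℚ) := by exact_mod_cast h1
          have h3 : ((k + 1 : ℕ) : ℚ) / r < (f j : ℚ) := lt_of_le_of_lt hL h2
          have hfj : (0 : ℚ) < (f j : ℚ) := by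
            have := hpos j hj
            exact_mod_cast this
          rw [div_lt_iff₀ hr] at h3
          rw [div_lt_div_iff₀ hfj hk]
          linarith
      rw [Finset.sum_const, hs, hsum, nsmul_eq_mul] at hlt
      have e : ((k + 1 : ℕ) : ℚ) * (r / ((k + 1 : ℕ) : ℚ)) = r := by
        field_simp
      rw [e] at hlt
      exact lt_irrefl _ hlt
    obtain ⟨j, hj, hjL⟩ := hex
    have hsplit : (1 : ℚ) / (f j : ℚ) + ∑ i ∈ s.erase j, (1 : ℚ) / (f i : ℚ) = r := by
      rw [← hsum]
      exact Finset.add_sum_erase s (fun i => (1 : ℚ) / (f i : ℚ)) hj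
    have hcard : (s.erase j).card = k := by
      rw [Finset.card_erase_of_mem hj, hs]
      rfl
    have hjmem : f j ∈ Finset.range (L + 1) := Finset.mem_range.mpr (Nat.lt_succ_of_le hjL)
    have hsup := Finset.le_sup (f := fun m => max m (Nf m)) hjmem
    by_cases hij : i = j
    · rw [hij]
      exact le_trans (le_max_left _ _) hsup
    · have hi' : i ∈ s.erase j := Finset.mem_erase.mpr ⟨hij, hi⟩
      have hposr : 0 < r - 1 / (f j : ℚ) := by
        have : 0 < ∑ i ∈ s.erase j, (1 : ℚ) / (f i : ℚ) := by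
          apply Finset.sum_pos
          · intro x hx
            have h0 := hpos x (Finset.mem_of_mem_erase hx)
            have h1 : (0 : ℚ) < (f x : ℚ) := by exact_mod_cast h0
            positivity
          · exact ⟨i, hi'⟩
        linarith
      have := hNf (f j) hposr ι (s.erase j) f hcard
        (fun x hx => hpos x (Finset.mem_of_mem_erase hx)) (by linarith) i hi'
      exact le_trans this (le_trans (le_max_right _ _) hsup)

/-- the carrier of a conjugacy class -/
theorem ncard_carrier_mk {G : Type u} [Group G] [Finite G] (g : G) :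
    (ConjClasses.mk g).carrier.ncard * Nat.card (Subgroup.centralizer ({g} : Set G)) =
      Nat.card G := by
  rw [← card_conj_mul_card_centralizer g]
  congr 1

/-- **Landau's theorem**: the order of a finite group is bounded in terms of the number of its
conjugacy classes -/
theorem landau (k : ℕ) : ∃ N : ℕ, ∀ (G : Type u) [Group G] [Finite G],
    Nat.card (ConjClasses G) ≤ k → Nat.card G ≤ N := by
  have h := fun k' : ℕ => recip_sum_bound.{u} k' 1 one_pos
  choose Nf hNf using h
  refine ⟨(Finset.range (k + 1)).sup Nf, ?_⟩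
  intro G _ _ hk
  classical
  haveI := Fintype.ofFinite G
  haveI : Fintype (ConjClasses G) := Fintype.ofFinite _
  have hG0 : 0 < Nat.card G := Nat.card_pos
  have hGQ : (Nat.card G : ℚ) ≠ 0 := by exact_mod_cast hG0.ne'
  obtain ⟨f, hf⟩ : ∃ f : ConjClasses G → ℕ, f = fun C => Nat.card G / C.carrier.ncard := ⟨_, rfl⟩
  have hdiv : ∀ C : ConjClasses G, C.carrier.ncard ∣ Nat.card G ∧ 0 < C.carrier.ncard := by
    intro C
    obtain ⟨g, rfl⟩ := ConjClasses.exists_rep C
    have h := ncard_carrier_mk g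
    refine ⟨⟨_, h.symm⟩, ?_⟩
    rcases Nat.eq_zero_or_pos (ConjClasses.mk g).carrier.ncard with h0 | h0
    · rw [h0, zero_mul] at h
      exact absurd h.symm hG0.ne'
    · exact h0
  have hfpos : ∀ C ∈ (Finset.univ : Finset (ConjClasses G)), 0 < f C := by
    intro C _
    rw [hf]
    exact Nat.div_pos (Nat.le_of_dvd hG0 (hdiv C).1) (hdiv C).2
  have hfC : ∀ C : ConjClasses G, (1 : ℚ) / (f C : ℚ) = (C.carrier.ncard : ℚ) / (Nat.card G : ℚ) := by
    intro C
    rw [hf]
    simp only
    have hn0 : (C.carrier.ncard : ℚ) ≠ 0 := by exact_mod_cast (hdiv C).2.ne'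
    rw [Nat.cast_div (hdiv C).1 hn0, one_div, inv_div]
  have hsum : ∑ C : ConjClasses G, (1 : ℚ) / (f C : ℚ) = 1 := by
    have h1 := Group.sum_card_conj_classes_eq_card G
    rw [finsum_eq_sum_of_fintype] at h1
    have h2 : ∑ C : ConjClasses G, (1 : ℚ) / (f C : ℚ) =
        ((∑ C : ConjClasses G, C.carrier.ncard : ℕ) : ℚ) / (Nat.card G : ℚ) := by
      rw [Nat.cast_sum, Finset.sum_div]
      exact Finset.sum_congr rfl (fun C _ => hfC C)
    rw [h2, h1, div_self hGQ]
  have hone := hNf (Nat.card (ConjClasses G)) (ConjClasses G) Finset.univ f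
    (by rw [Finset.card_univ, Nat.card_eq_fintype_card]) hfpos hsum (ConjClasses.mk 1)
    (Finset.mem_univ _)
  have hf1 : f (ConjClasses.mk 1) = Nat.card G := by
    rw [hf]
    simp only
    have h := ncard_carrier_mk (1 : G)
    have hc : Nat.card (Subgroup.centralizer ({1} : Set G)) = Nat.card G := by
      have : Subgroup.centralizer ({1} : Set G) = ⊤ := by
        rw [eq_top_iff]
        intro x _
        rw [Subgroup.mem_centralizer_iff]
        intro y hy
        rw [Set.mem_singleton_iff] at hy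
        rw [hy, one_mul, mul_one]
      rw [this]
      exact Subgroup.card_top
    rw [hc] at h
    have h1 : (ConjClasses.mk (1 : G)).carrier.ncard = 1 := by
      have := Nat.eq_of_mul_eq_mul_right hG0 (h.trans (one_mul _).symm)
      exact this
    rw [h1, Nat.div_one]
  rw [hf1] at hone
  have hmem : Nat.card (ConjClasses G) ∈ Finset.range (k + 1) :=
    Finset.mem_range.mpr (Nat.lt_succ_of_le hk)
  exact le_trans hone (Finset.le_sup (f := Nf) hmem)

end Cfsg.Agent.Helper6
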