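import Mathlib
import Cfsg.Prelude.Def_Characters
import Cfsg.Prelude.Def_Blocks
import Cfsg.Agent.Helper6.RealOddPrincipal
import Cfsg.Agent.Helper6.FrobTrickF
import Cfsg.Agent.Helper6.IrrCount
import Cfsg.Agent.Helper6.LandauA

/-!
# The number of characters of the principal block is at most `p ^ (2 a)` (S4718)
-/

set_option autoImplicit false
set_option linter.style.haveILetI false

namespace Cfsg.Agent.Helper6

open Module
open scoped ComplexConjugate

universe u

variable {G : Type u} [Group G] {M : Ideal Cfsg.AlgInt}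

/-- the sum of a character of the principal block over the `p`-regular elements is not zero -/
theorem truncSum_one_ne_zero [Fintype G] {p : ℕ} [hp : Fact p.Prime]
    (hM : Cfsg.IsPModular p M) (χ : Cfsg.IrrCharacter G) (hχ : χ ∈ Cfsg.principalBlock M G) :
    truncSum p (fun _ : G => (1 : ℂ)) (χ : G → ℂ) ≠ 0 := by
  classical
  haveI : Finite (Cfsg.IrrCharacter G) := irr_finite
  haveI : Fintype (Cfsg.IrrCharacter G) := Fintype.ofFinite _
  intro h0
  have hMm := hM.2.1
  have h1 := (classVec_pRegular hM χ).2 hχ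
  have hpR := (principal_blockCoeff_mul_card hM (1 : G) (by
    rw [orderOf_one]
    exact hp.out.one_lt.ne' ∘ Nat.dvd_one.mp)).1
  have hcv : classVec (fun g : G => if p ∣ orderOf g then (0 : ℂ) else 1) χ = 0 := by
    have e : classVec (fun g : G => if p ∣ orderOf g then (0 : ℂ) else 1) χ =
        truncSum p (fun _ : G => (1 : ℂ)) (χ : G → ℂ) / (χ : G → ℂ) 1 := by
      unfold classVec truncSum truncConj
      rw [Finset.sum_div]
      apply Finset.sum_congr rfl
      intro t _
      by_cases ht : p ∣ orderOf t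
      · simp only [if_pos ht, zero_mul, zero_div]
      · simp only [if_neg ht, map_one, one_mul]
    rw [e, h0, zero_div]
  rw [hcv, zero_sub] at h1
  have h2 := MemLocalIdeal.neg h1
  rw [neg_neg] at h2
  apply hpR
  have h3 := dvd_of_memLocalIdeal_natCast hM _ h2
  convert h3

/-- **the number of irreducible characters of the principal block** is at most `p ^ (2 a)` -/
theorem card_principalBlock_le [Finite G] {p : ℕ} [hp : Fact p.Prime]
    (hM : Cfsg.IsPModular p M) :
    Nat.card {χ : Cfsg.IrrCharacter G // χ ∈ Cfsg.principalBlock M G} ≤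
      p ^ (2 * (Nat.card G).factorization p) := by
  classical
  haveI := Fintype.ofFinite G
  haveI : Finite (Cfsg.IrrCharacter G) := irr_finite
  haveI : Fintype (Cfsg.IrrCharacter G) := Fintype.ofFinite _
  obtain ⟨a, ha⟩ : ∃ a : ℕ, a = (Nat.card G).factorization p := ⟨_, rfl⟩
  rw [← ha]
  have hint : ∀ ξ : Cfsg.IrrCharacter G, ∃ n : ℤ,
      Cfsg.classInner (truncScaled p (fun _ : G => (1 : ℂ))) (ξ : G → ℂ) = n ∧
      truncSum p (fun _ : G => (1 : ℂ)) (ξ : G → ℂ) =
        ((Nat.card G / p ^ (Nat.card G).factorization p : ℕ) : ℂ) * n := by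
    intro ξ
    obtain ⟨n, h1, h2, -⟩ := exists_truncInt p (isIrrCharacter_one (G := G)) ξ.2
    exact ⟨n, h1, h2⟩
  choose n hn1 hn2 using hint
  obtain ⟨θ, hθ⟩ : ∃ θ : G → ℂ, θ = truncScaled p (fun _ : G => (1 : ℂ)) := ⟨_, rfl⟩
  have hθapp : ∀ x : G, θ x = if p ∣ orderOf x then (0 : ℂ) else ((p ^ a : ℕ) : ℂ) := by
    intro x
    rw [hθ, ha]
    unfold truncScaled
    split_ifs
    · rfl
    · rw [mul_one]
  have hθcf : Cfsg.IsClassFunction G θ := by
    intro g h
    rw [hθapp, hθapp]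
    have : orderOf (h * g * h⁻¹) = orderOf g := by
      have := MulEquiv.orderOf_eq (MulAut.conj h) g
      rwa [MulAut.conj_apply] at this
    rw [this]
  -- Parseval
  have hpars : Cfsg.classInner θ θ = ∑ ξ : Cfsg.IrrCharacter G, ((n ξ : ℤ) : ℂ) ^ 2 := by
    have hexp := classFunction_expansion θ hθcf
    have h1 : Cfsg.classInner θ θ = Cfsg.classInner
        (∑ ξ : Cfsg.IrrCharacter G, Cfsg.classInner θ (ξ : G → ℂ) • (ξ : G → ℂ)) θ := by
      rw [← hexp]
    rw [h1, classInner_sum_left]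
    apply Finset.sum_congr rfl
    intro ξ _
    rw [classInner_smul_left, classInner_conj_symm θ (ξ : G → ℂ), hθ, hn1 ξ, map_intCast,
      pow_two]
  -- direct computation
  have hG0 : (0 : ℝ) < (Nat.card G : ℝ) := by
    have : 0 < Nat.card G := Nat.card_pos
    exact_mod_cast this
  have hdirect : Cfsg.classInner θ θ = (Nat.card G : ℂ)⁻¹ *
      (((Finset.univ.filter (fun x : G => ¬ p ∣ orderOf x)).card : ℂ) * ((p ^ a : ℕ) : ℂ) ^ 2) := by
    rw [classInner_def]
    congr 1
    rw [Finset.card_filter, Nat.cast_sum, Finset.sum_mul]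
    apply Finset.sum_congr rfl
    intro x _
    rw [hθapp]
    split_ifs
    · simp
    · rw [Complex.conj_natCast]
      push_cast
      ring
  have hsum_le : ∑ ξ : Cfsg.IrrCharacter G, ((n ξ : ℤ) : ℝ) ^ 2 ≤ ((p ^ a : ℕ) : ℝ) ^ 2 := by
    have h2 : ((∑ ξ : Cfsg.IrrCharacter G, ((n ξ : ℤ) : ℝ) ^ 2 : ℝ) : ℂ) =
        (((Nat.card G : ℝ)⁻¹ * (((Finset.univ.filter (fun x : G => ¬ p ∣ orderOf x)).card : ℝ) *
          ((p ^ a : ℕ) : ℝ) ^ 2) : ℝ) : ℂ) := by
      have h4 : ((∑ ξ : Cfsg.IrrCharacter G, ((n ξ : ℤ) : ℝ) ^ 2 : ℝ) : ℂ) =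
          ∑ ξ : Cfsg.IrrCharacter G, ((n ξ : ℤ) : ℂ) ^ 2 := by
        push_cast
        rfl
      rw [h4, ← hpars, hdirect]
      push_cast
      rfl
    have h3 := Complex.ofReal_injective h2
    rw [h3]
    have hcard : ((Finset.univ.filter (fun x : G => ¬ p ∣ orderOf x)).card : ℝ) ≤
        (Nat.card G : ℝ) := by
      have : (Finset.univ.filter (fun x : G => ¬ p ∣ orderOf x)).card ≤ Fintype.card G :=
        Finset.card_le_univ _
      rw [← Nat.card_eq_fintype_card] at this
      exact_mod_cast this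
    have hsq : (0 : ℝ) ≤ ((p ^ a : ℕ) : ℝ) ^ 2 := sq_nonneg _
    rw [inv_mul_le_iff₀ hG0]
    exact mul_le_mul_of_nonneg_right hcard hsq
  -- nonvanishing
  have hnz : ∀ ξ : Cfsg.IrrCharacter G, ξ ∈ Cfsg.principalBlock M G → n ξ ≠ 0 := by
    intro ξ hξ h0
    have h1 := hn2 ξ
    rw [h0, Int.cast_zero, mul_zero] at h1
    exact truncSum_one_ne_zero hM ξ hξ h1
  rw [Nat.card_eq_fintype_card, Fintype.card_subtype]
  have hfinal : (((Finset.univ.filter (fun χ : Cfsg.IrrCharacter G =>
      χ ∈ Cfsg.principalBlock M G)).card : ℕ) : ℝ) ≤ ((p ^ (2 * a) : ℕ) : ℝ) := by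
    calc (((Finset.univ.filter (fun χ : Cfsg.IrrCharacter G =>
        χ ∈ Cfsg.principalBlock M G)).card : ℕ) : ℝ)
        = ∑ ξ ∈ Finset.univ.filter (fun χ : Cfsg.IrrCharacter G =>
          χ ∈ Cfsg.principalBlock M G), (1 : ℝ) := by
          rw [Finset.sum_const, nsmul_eq_mul, mul_one]
      _ ≤ ∑ ξ ∈ Finset.univ.filter (fun χ : Cfsg.IrrCharacter G =>
          χ ∈ Cfsg.principalBlock M G), ((n ξ : ℤ) : ℝ) ^ 2 := by
          apply Finset.sum_le_sum
          intro ξ hξ
          rw [Finset.mem_filter] at hξ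
          have h1 := hnz ξ hξ.2
          have h2 : (1 : ℤ) ≤ (n ξ) ^ 2 := by
            have := sq_nonneg (n ξ)
            have h3 : (n ξ) ^ 2 ≠ 0 := pow_ne_zero 2 h1
            omega
          exact_mod_cast h2
      _ ≤ ∑ ξ : Cfsg.IrrCharacter G, ((n ξ : ℤ) : ℝ) ^ 2 := by
          apply Finset.sum_le_sum_of_subset_of_nonneg (Finset.filter_subset _ _)
          intro ξ _ _
          exact sq_nonneg _
      _ ≤ ((p ^ a : ℕ) : ℝ) ^ 2 := hsum_le
      _ = ((p ^ (2 * a) : ℕ) : ℝ) := by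
          push_cast
          ring
  exact_mod_cast hfinal

/-- if the principal block is the only block, the class number is at most `p ^ (2 a)` -/
theorem card_conjClasses_le_of_only_principal [Finite G] {p : ℕ} [hp : Fact p.Prime]
    (hM : Cfsg.IsPModular p M)
    (hall : ∀ B : Set (Cfsg.IrrCharacter G), Cfsg.IsPBlock M B → B = Cfsg.principalBlock M G) :
    Nat.card (ConjClasses G) ≤ p ^ (2 * (Nat.card G).factorization p) := by
  rw [← card_irr_eq_card_conjClasses]
  refine le_trans (le_of_eq ?_) (card_principalBlock_le (G := G) hM)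
  apply Nat.card_congr
  refine (Equiv.subtypeUnivEquiv ?_).symm
  intro χ
  have h1 := hall (Cfsg.blockOf M χ) ⟨χ, rfl⟩
  rw [← h1]
  exact mem_blockOf_self hM.2.1 χ

end Cfsg.Agent.Helper6
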