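import Mathlib
import Cfsg.Prelude.Def_Characters
import Cfsg.Prelude.Def_Blocks
import Cfsg.Agent.Helper6.LambdaSumA
import Cfsg.Agent.Helper6.PrincipalOnlyA
import Cfsg.Agent.Helper6.WeakOrth
import Cfsg.Agent.Helper6.FongReynolds2
import Cfsg.Agent.Helper6.CliffordOrbit
import Cfsg.Agent.Helper6.Regular

/-!
# The sum of squares of the degrees in the principal block and normal subgroups

`λ(H) ≤ λ(G) ≤ [G : H] λ(H)` for `H` normal in `G`, where `λ(X) = ∑_{χ ∈ B₀(X)} χ(1)²`.
-/

set_option autoImplicit false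
set_option linter.style.haveILetI false

namespace Cfsg.Agent.Helper6

open scoped ComplexConjugate

universe u

variable {G : Type u} [Group G] {M : Ideal Cfsg.AlgInt}

theorem sum_mul_conj_irr_ite [Fintype G] (χ ψ : Cfsg.IrrCharacter G) :
    ∑ g : G, (χ : G → ℂ) g * conj ((ψ : G → ℂ) g) =
      (Nat.card G : ℂ) * if χ = ψ then 1 else 0 := by
  have h := classInner_irr_ite χ.2 ψ.2
  rw [classInner_def] at h
  have hG0 : (Nat.card G : ℂ) ≠ 0 := by
    have : 0 < Nat.card G := Nat.card_pos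
    exact_mod_cast this.ne'
  have h2 : (if (χ : G → ℂ) = (ψ : G → ℂ) then (1 : ℂ) else 0) = if χ = ψ then 1 else 0 := by
    by_cases hc : χ = ψ
    · rw [if_pos hc, if_pos (congrArg Subtype.val hc)]
    · rw [if_neg hc, if_neg (fun h' => hc (Subtype.ext h'))]
  rw [← h2, ← h, ← mul_assoc, mul_inv_cancel₀ hG0, one_mul]

/-- **Block orthogonality on `p`-regular elements**: characters in different blocks are
orthogonal on the `p`-regular elements. -/
theorem truncSum_eq_zero_of_not_mem [Fintype G] {p : ℕ} [hp : Fact p.Prime]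
    (hM : Cfsg.IsPModular p M) (B : Set (Cfsg.IrrCharacter G)) (hB : Cfsg.IsPBlock M B)
    (χ₀ : Cfsg.IrrCharacter G) (hχ₀ : χ₀ ∈ B) (ψ : Cfsg.IrrCharacter G) (hψ : ψ ∉ B) :
    truncSum p (ψ : G → ℂ) (χ₀ : G → ℂ) = 0 := by
  classical
  haveI : Finite (Cfsg.IrrCharacter G) := irr_finite
  haveI : Fintype (Cfsg.IrrCharacter G) := Fintype.ofFinite _
  obtain ⟨Φ, hΦ⟩ : ∃ Φ : G → G → ℂ, Φ = fun x y => ∑ χ : Cfsg.IrrCharacter G,
      if χ ∈ B then (χ : G → ℂ) x * conj ((χ : G → ℂ) y) else 0 := ⟨_, rfl⟩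
  obtain ⟨r, hr⟩ : ∃ r : G → ℂ, r = fun x => if p ∣ orderOf x then (0 : ℂ) else 1 := ⟨_, rfl⟩
  have hΦ0 : ∀ x y : G, ¬ p ∣ orderOf x → p ∣ orderOf y → Φ x y = 0 := by
    intro x y hx hy
    have := weak_block_orthogonality hM.2.1 p hM.2.2 B hB x y hx hy
    rw [finsum_mem_eq_sum_ite] at this
    rw [hΦ]
    exact this
  have hΦconj : ∀ x y : G, Φ y x = conj (Φ x y) := by
    intro x y
    rw [hΦ]
    simp only
    rw [map_sum]
    apply Finset.sum_congr rfl
    intro χ _
    split_ifs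
    · rw [map_mul, Complex.conj_conj, mul_comm]
    · rw [map_zero]
  have hkey : ∀ x y : G, r x * Φ x y = r y * Φ x y := by
    intro x y
    rw [hr]
    simp only
    by_cases hx : p ∣ orderOf x <;> by_cases hy : p ∣ orderOf y
    · rw [if_pos hx, if_pos hy]
    · rw [if_pos hx, if_neg hy, hΦconj y x, hΦ0 y x hy hx]
      simp
    · rw [if_neg hx, if_pos hy, hΦ0 x y hx hy]
      simp
    · rw [if_neg hx, if_neg hy]
  have hA : ∀ x : G, ∑ y : G, Φ x y * (χ₀ : G → ℂ) y = (Nat.card G : ℂ) * (χ₀ : G → ℂ) x := by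
    intro x
    rw [hΦ]
    simp only
    simp_rw [Finset.sum_mul]
    rw [Finset.sum_comm]
    have : ∀ χ : Cfsg.IrrCharacter G,
        ∑ y : G, (if χ ∈ B then (χ : G → ℂ) x * conj ((χ : G → ℂ) y) else 0) * (χ₀ : G → ℂ) y =
        if χ = χ₀ then (Nat.card G : ℂ) * (χ₀ : G → ℂ) x else 0 := by
      intro χ
      by_cases hχ : χ ∈ B
      · simp only [if_pos hχ]
        have h1 : ∀ y : G, (χ : G → ℂ) x * conj ((χ : G → ℂ) y) * (χ₀ : G → ℂ) y =
            (χ : G → ℂ) x * ((χ₀ : G → ℂ) y * conj ((χ : G → ℂ) y)) := by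
          intro y; ring
        simp_rw [h1]
        rw [← Finset.mul_sum, sum_mul_conj_irr_ite]
        by_cases hc : χ = χ₀
        · rw [if_pos hc, if_pos hc.symm, hc]; ring
        · rw [if_neg hc, if_neg (fun h => hc h.symm)]; ring
      · simp only [if_neg hχ, zero_mul, Finset.sum_const_zero]
        rw [if_neg]
        intro hc
        exact hχ (hc ▸ hχ₀)
    simp_rw [this]
    rw [Finset.sum_ite_eq' Finset.univ χ₀, if_pos (Finset.mem_univ _)]
  have hBz : ∀ y : G, ∑ x : G, Φ x y * conj ((ψ : G → ℂ) x) = 0 := by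
    intro y
    rw [hΦ]
    simp only
    simp_rw [Finset.sum_mul]
    rw [Finset.sum_comm]
    apply Finset.sum_eq_zero
    intro χ _
    by_cases hχ : χ ∈ B
    · simp only [if_pos hχ]
      have h1 : ∀ x : G, (χ : G → ℂ) x * conj ((χ : G → ℂ) y) * conj ((ψ : G → ℂ) x) =
          conj ((χ : G → ℂ) y) * ((χ : G → ℂ) x * conj ((ψ : G → ℂ) x)) := by
        intro x; ring
      simp_rw [h1]
      rw [← Finset.mul_sum, sum_mul_conj_irr_ite, if_neg, mul_zero, mul_zero]
      intro hc
      exact hψ (hc ▸ hχ)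
    · simp only [if_neg hχ, zero_mul, Finset.sum_const_zero]
  have hG0 : (Nat.card G : ℂ) ≠ 0 := by
    have : 0 < Nat.card G := Nat.card_pos
    exact_mod_cast this.ne'
  have htr : ∀ x : G, truncConj p (ψ : G → ℂ) x = r x * conj ((ψ : G → ℂ) x) := by
    intro x
    unfold truncConj
    rw [hr]
    simp only
    split_ifs <;> simp
  have hfin : (Nat.card G : ℂ) * truncSum p (ψ : G → ℂ) (χ₀ : G → ℂ) = 0 := by
    unfold truncSum
    rw [Finset.mul_sum]
    calc ∑ x : G, (Nat.card G : ℂ) * (truncConj p (ψ : G → ℂ) x * (χ₀ : G → ℂ) x)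
        = ∑ x : G, ∑ y : G, (r x * Φ x y) * (conj ((ψ : G → ℂ) x) * (χ₀ : G → ℂ) y) := by
          apply Finset.sum_congr rfl
          intro x _
          rw [htr, mul_left_comm, ← hA x, Finset.mul_sum]
          apply Finset.sum_congr rfl
          intro y _
          ring
      _ = ∑ x : G, ∑ y : G, (r y * Φ x y) * (conj ((ψ : G → ℂ) x) * (χ₀ : G → ℂ) y) := by
          apply Finset.sum_congr rfl
          intro x _
          apply Finset.sum_congr rfl
          intro y _
          rw [hkey]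
      _ = ∑ y : G, r y * (χ₀ : G → ℂ) y * ∑ x : G, Φ x y * conj ((ψ : G → ℂ) x) := by
          rw [Finset.sum_comm]
          apply Finset.sum_congr rfl
          intro y _
          rw [Finset.mul_sum]
          apply Finset.sum_congr rfl
          intro x _
          ring
      _ = 0 := by
          apply Finset.sum_eq_zero
          intro y _
          rw [hBz, mul_zero]
  rcases mul_eq_zero.mp hfin with h | h
  · exact absurd h hG0
  · exact h


/-- **Criterion for the principal block**: `χ ∈ B₀` iff the sum of `χ` over the `p`-regular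
elements does not vanish. -/
theorem mem_principalBlock_iff_truncSum [Fintype G] {p : ℕ} [hp : Fact p.Prime]
    (hM : Cfsg.IsPModular p M) (χ : Cfsg.IrrCharacter G) :
    χ ∈ Cfsg.principalBlock M G ↔ truncSum p (fun _ : G => (1 : ℂ)) (χ : G → ℂ) ≠ 0 := by
  constructor
  · exact truncSum_one_ne_zero hM χ
  · intro hne
    by_contra hχ
    apply hne
    have hnot : trivIrr G ∉ Cfsg.blockOf M (χ : G → ℂ) := by
      intro h
      apply hχ
      have h1 : Cfsg.SameBlock M (χ : G → ℂ) (fun _ : G => (1 : ℂ)) := h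
      exact sameBlock_symm h1
    exact truncSum_eq_zero_of_not_mem hM (Cfsg.blockOf M (χ : G → ℂ)) ⟨χ, rfl⟩ χ
      (mem_blockOf_self hM.2.1 χ) (trivIrr G) hnot

/-- Every member of the principal block of a subgroup `H` is a constituent of the restriction of
some member of the principal block of `G`. -/
theorem exists_principal_over [Fintype G] {p : ℕ} [hp : Fact p.Prime]
    (hM : Cfsg.IsPModular p M) (H : Subgroup G) [Fintype H]
    (θ : Cfsg.IrrCharacter H) (hθ : θ ∈ Cfsg.principalBlock M H) :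
    ∃ χ ∈ Cfsg.principalBlock M G,
      Cfsg.classInner (fun h : H => (χ : G → ℂ) h) (θ : H → ℂ) ≠ 0 := by
  classical
  haveI : Finite (Cfsg.IrrCharacter G) := irr_finite
  haveI : Fintype (Cfsg.IrrCharacter G) := Fintype.ofFinite _
  by_contra hcon
  push Not at hcon
  have hne := truncSum_one_ne_zero hM θ hθ
  apply hne
  obtain ⟨r, hr⟩ : ∃ r : G → ℂ, r = truncConj p (fun _ : G => (1 : ℂ)) := ⟨_, rfl⟩
  have hrcf : Cfsg.IsClassFunction G r := by
    rw [hr]
    exact truncConj_isClassFunction p (fun _ _ => rfl)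
  have hexp := classFunction_expansion r hrcf
  have hc : ∀ χ : Cfsg.IrrCharacter G, χ ∉ Cfsg.principalBlock M G →
      Cfsg.classInner r (χ : G → ℂ) = 0 := by
    intro χ hχ
    have h0 : truncSum p (fun _ : G => (1 : ℂ)) (χ : G → ℂ) = 0 := by
      by_contra h
      exact hχ ((mem_principalBlock_iff_truncSum hM χ).mpr h)
    rw [classInner_def]
    have : ∑ g : G, r g * conj ((χ : G → ℂ) g) =
        conj (truncSum p (fun _ : G => (1 : ℂ)) (χ : G → ℂ)) := by
      unfold truncSum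
      rw [map_sum]
      apply Finset.sum_congr rfl
      intro g _
      rw [map_mul, hr]
      congr 1
      unfold truncConj
      split_ifs <;> simp
    rw [this, h0, map_zero, mul_zero]
  have hrH : ∀ h : H, truncConj p (fun _ : H => (1 : ℂ)) h = r (h : G) := by
    intro h
    rw [hr]
    unfold truncConj
    rw [Subgroup.orderOf_coe]
  have hrconj : ∀ g : G, conj (r g) = r g := by
    intro g
    rw [hr]
    unfold truncConj
    split_ifs <;> simp
  have hH0 : (Nat.card H : ℂ) ≠ 0 := by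
    have : 0 < Nat.card H := Nat.card_pos
    exact_mod_cast this.ne'
  have hz : conj (truncSum p (fun _ : H => (1 : ℂ)) (θ : H → ℂ)) = 0 := by
    unfold truncSum
    rw [map_sum]
    calc ∑ h : H, conj (truncConj p (fun _ : H => (1 : ℂ)) h * (θ : H → ℂ) h)
        = ∑ h : H, ∑ χ : Cfsg.IrrCharacter G, Cfsg.classInner r (χ : G → ℂ) *
            ((χ : G → ℂ) h * conj ((θ : H → ℂ) h)) := by
          apply Finset.sum_congr rfl
          intro h _
          rw [map_mul, hrH, hrconj]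
          have := congrFun hexp (h : G)
          rw [Finset.sum_apply] at this
          simp only [Pi.smul_apply, smul_eq_mul] at this
          rw [this, Finset.sum_mul]
          apply Finset.sum_congr rfl
          intro χ _
          ring
      _ = ∑ χ : Cfsg.IrrCharacter G, Cfsg.classInner r (χ : G → ℂ) *
            ((Nat.card H : ℂ) * Cfsg.classInner (fun h : H => (χ : G → ℂ) h) (θ : H → ℂ)) := by
          rw [Finset.sum_comm]
          apply Finset.sum_congr rfl
          intro χ _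
          rw [← Finset.mul_sum]
          congr 1
          rw [classInner_def, ← mul_assoc (Nat.card H : ℂ), mul_inv_cancel₀ hH0, one_mul]
      _ = 0 := by
          apply Finset.sum_eq_zero
          intro χ _
          by_cases hχ : χ ∈ Cfsg.principalBlock M G
          · rw [hcon χ hχ, mul_zero, mul_zero]
          · rw [hc χ hχ, zero_mul]
  have := congrArg conj hz
  rwa [Complex.conj_conj, map_zero] at this


/-- For `H` normal, constituents of the restriction of members of the principal block of `G` lie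
in the principal block of `H`. -/
theorem principal_constituent [Fintype G] (hM : M.IsMaximal) (H : Subgroup G) [hN : H.Normal]
    [Fintype H] (χ : Cfsg.IrrCharacter G) (hχ : χ ∈ Cfsg.principalBlock M G)
    (θ : Cfsg.IrrCharacter H)
    (hne : Cfsg.classInner (fun h : H => (χ : G → ℂ) h) (θ : H → ℂ) ≠ 0) :
    θ ∈ Cfsg.principalBlock M H := by
  have hcov : ∃ χ₁ ∈ Cfsg.principalBlock M G, ∃ θ₁ ∈ Cfsg.principalBlock M H,
      Cfsg.classInner (fun n : H => (χ₁ : G → ℂ) n) (θ₁ : H → ℂ) ≠ 0 := by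
    refine ⟨trivIrr G, trivIrr_mem_principalBlock hM, trivIrr H, trivIrr_mem_principalBlock hM, ?_⟩
    have : Cfsg.classInner (fun n : H => ((trivIrr G : Cfsg.IrrCharacter G) : G → ℂ) n)
        ((trivIrr H : Cfsg.IrrCharacter H) : H → ℂ) = 1 :=
      classInner_irr_self (trivIrr H).2
    rw [this]
    exact one_ne_zero
  obtain ⟨θ', hθ', hne'⟩ := cover_all hM H (Cfsg.principalBlock M H) (isPBlock_principalBlock H)
    (Cfsg.principalBlock M G) (isPBlock_principalBlock G) hcov χ hχ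
  obtain ⟨g, hg⟩ := conj_of_constituents H (χ : G → ℂ) χ.2 (θ' : H → ℂ) θ'.2 hne'
    (θ : H → ℂ) θ.2 hne
  have h1 : Cfsg.SameBlock M (fun _ : H => (1 : ℂ)) (θ' : H → ℂ) := hθ'
  have h2 := sameBlock_conjFun (M := M) H g h1
  show Cfsg.SameBlock M (fun _ : H => (1 : ℂ)) (θ : H → ℂ)
  rw [hg]
  exact h2

/-- The degree of `χ` is the sum of the degrees of the constituents of its restriction. -/
theorem charDegree_eq_sum_mult [Fintype G] (H : Subgroup G) [Fintype H]
    [Fintype (Cfsg.IrrCharacter H)] (χ : Cfsg.IrrCharacter G) (m : Cfsg.IrrCharacter H → ℕ)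
    (hm : ∀ θ : Cfsg.IrrCharacter H,
      Cfsg.classInner (fun h : H => (χ : G → ℂ) h) (θ : H → ℂ) = m θ) :
    Cfsg.charDegree (χ : G → ℂ) = ∑ θ : Cfsg.IrrCharacter H, m θ * Cfsg.charDegree (θ : H → ℂ) := by
  have hres : Cfsg.IsCharacter H (fun h : H => (χ : G → ℂ) h) :=
    IsCharacter.restrict H (IsIrrCharacter.isCharacter χ.2)
  have hexp := classFunction_expansion _ (IsCharacter.isClassFunction hres)
  have h1 := congrFun hexp 1
  rw [Finset.sum_apply] at h1
  simp only [Pi.smul_apply, smul_eq_mul] at h1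
  have : ((Cfsg.charDegree (χ : G → ℂ) : ℕ) : ℂ) =
      ((∑ θ : Cfsg.IrrCharacter H, m θ * Cfsg.charDegree (θ : H → ℂ) : ℕ) : ℂ) := by
    rw [charDegree_cast_of_isCharacter (IsIrrCharacter.isCharacter χ.2)]
    push_cast
    rw [show (χ : G → ℂ) 1 = (χ : G → ℂ) ((1 : H) : G) from rfl, h1]
    apply Finset.sum_congr rfl
    intro θ _
    rw [hm θ, charDegree_cast_of_isCharacter (IsIrrCharacter.isCharacter θ.2)]
  exact_mod_cast this

/-- Frobenius reciprocity at the identity: `∑_χ ⟨χ_H, θ⟩ χ(1) = [G : H] θ(1)`. -/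
theorem sum_mult_mul_charDegree [Fintype G] (H : Subgroup G) [Fintype H]
    [Fintype (Cfsg.IrrCharacter G)] (θ : Cfsg.IrrCharacter H) (m : Cfsg.IrrCharacter G → ℕ)
    (hm : ∀ χ : Cfsg.IrrCharacter G,
      Cfsg.classInner (fun h : H => (χ : G → ℂ) h) (θ : H → ℂ) = m χ) :
    ∑ χ : Cfsg.IrrCharacter G, m χ * Cfsg.charDegree (χ : G → ℂ) =
      H.index * Cfsg.charDegree (θ : H → ℂ) := by
  classical
  have hH0 : (Nat.card H : ℂ) ≠ 0 := by
    have : 0 < Nat.card H := Nat.card_pos
    exact_mod_cast this.ne'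
  have hidx : (Nat.card G : ℂ) = (Nat.card H : ℂ) * (H.index : ℂ) := by
    have := H.card_mul_index
    exact_mod_cast this.symm
  have : ((∑ χ : Cfsg.IrrCharacter G, m χ * Cfsg.charDegree (χ : G → ℂ) : ℕ) : ℂ) =
      ((H.index * Cfsg.charDegree (θ : H → ℂ) : ℕ) : ℂ) := by
    push_cast
    calc ∑ χ : Cfsg.IrrCharacter G, (m χ : ℂ) * (Cfsg.charDegree (χ : G → ℂ) : ℂ)
        = ∑ χ : Cfsg.IrrCharacter G, ∑ h : H, (Nat.card H : ℂ)⁻¹ *
            (conj ((θ : H → ℂ) h) * ((χ : G → ℂ) 1 * (χ : G → ℂ) h)) := by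
          apply Finset.sum_congr rfl
          intro χ _
          rw [← hm χ, charDegree_cast_of_isCharacter (IsIrrCharacter.isCharacter χ.2),
            classInner_def, Finset.mul_sum, Finset.sum_mul]
          apply Finset.sum_congr rfl
          intro h _
          ring
      _ = ∑ h : H, (Nat.card H : ℂ)⁻¹ * (conj ((θ : H → ℂ) h) *
            ∑ χ : Cfsg.IrrCharacter G, (χ : G → ℂ) 1 * (χ : G → ℂ) h) := by
          rw [Finset.sum_comm]
          apply Finset.sum_congr rfl
          intro h _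
          rw [Finset.mul_sum, Finset.mul_sum]
      _ = (Nat.card H : ℂ)⁻¹ * (conj ((θ : H → ℂ) 1) * (Nat.card G : ℂ)) := by
          rw [Finset.sum_eq_single (1 : H)]
          · rw [sum_degree_mul_irr, if_pos (by rfl)]
          · intro h _ hne
            rw [sum_degree_mul_irr, if_neg, mul_zero, mul_zero]
            intro h1
            exact hne (Subtype.ext h1)
          · intro h
            exact absurd (Finset.mem_univ _) h
      _ = (H.index : ℂ) * (Cfsg.charDegree (θ : H → ℂ) : ℂ) := by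
          rw [charDegree_cast_of_isCharacter (IsIrrCharacter.isCharacter θ.2), hidx]
          obtain ⟨n, hn⟩ := IsCharacter.apply_one (IsIrrCharacter.isCharacter θ.2)
          rw [hn, Complex.conj_natCast]
          field_simp
  exact_mod_cast this


/-- Double counting behind `λ(H) ≤ λ(G) ≤ [G : H] λ(H)`. -/
theorem double_count_bounds {α β : Type*} [Fintype α] [Fintype β] (B : Finset α) (b : Finset β)
    (m : α → β → ℕ) (d : α → ℕ) (e : β → ℕ) (idx : ℕ)
    (ha : ∀ χ, d χ = ∑ θ, m χ θ * e θ)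
    (hb : ∀ θ, ∑ χ, m χ θ * d χ = idx * e θ)
    (hc : ∀ χ ∈ B, ∀ θ, m χ θ ≠ 0 → θ ∈ b)
    (hd : ∀ θ ∈ b, ∃ χ ∈ B, m χ θ ≠ 0) :
    ∑ θ ∈ b, e θ ^ 2 ≤ ∑ χ ∈ B, d χ ^ 2 ∧ ∑ χ ∈ B, d χ ^ 2 ≤ idx * ∑ θ ∈ b, e θ ^ 2 := by
  classical
  have hswap : ∑ χ ∈ B, d χ * ∑ θ ∈ b, m χ θ * e θ = ∑ θ ∈ b, e θ * ∑ χ ∈ B, m χ θ * d χ := by
    simp_rw [Finset.mul_sum]
    rw [Finset.sum_comm]
    apply Finset.sum_congr rfl
    intro θ _
    apply Finset.sum_congr rfl
    intro χ _
    ring
  have hrow : ∀ χ ∈ B, ∑ θ ∈ b, m χ θ * e θ = d χ := by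
    intro χ hχ
    rw [ha χ]
    apply Finset.sum_subset (Finset.subset_univ _)
    intro θ _ hθ
    have : m χ θ = 0 := by
      by_contra h
      exact hθ (hc χ hχ θ h)
    rw [this, zero_mul]
  have hsq : ∑ χ ∈ B, d χ ^ 2 = ∑ θ ∈ b, e θ * ∑ χ ∈ B, m χ θ * d χ := by
    rw [← hswap]
    apply Finset.sum_congr rfl
    intro χ hχ
    rw [hrow χ hχ, sq]
  constructor
  · rw [hsq]
    apply Finset.sum_le_sum
    intro θ hθ
    obtain ⟨χ, hχ, hne⟩ := hd θ hθ
    have h1 : m χ θ * d χ ≤ ∑ χ' ∈ B, m χ' θ * d χ' :=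
      Finset.single_le_sum (f := fun χ' => m χ' θ * d χ') (fun _ _ => Nat.zero_le _) hχ
    have h2 : m χ θ * e θ ≤ d χ := by
      rw [ha χ]
      exact Finset.single_le_sum (f := fun θ' => m χ θ' * e θ') (fun _ _ => Nat.zero_le _)
        (Finset.mem_univ θ)
    have h3 : 1 ≤ m χ θ := Nat.one_le_iff_ne_zero.mpr hne
    have h4 : e θ ≤ m χ θ * d χ := by
      calc e θ = 1 * e θ := (one_mul _).symm
        _ ≤ m χ θ * e θ := Nat.mul_le_mul_right _ h3
        _ ≤ d χ := h2
        _ = 1 * d χ := (one_mul _).symm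
        _ ≤ m χ θ * d χ := Nat.mul_le_mul_right _ h3
    rw [sq]
    exact Nat.mul_le_mul_left _ (h4.trans h1)
  · rw [hsq, Finset.mul_sum]
    apply Finset.sum_le_sum
    intro θ _
    have h1 : ∑ χ ∈ B, m χ θ * d χ ≤ idx * e θ := by
      rw [← hb θ]
      exact Finset.sum_le_sum_of_subset (Finset.subset_univ _)
    calc e θ * ∑ χ ∈ B, m χ θ * d χ ≤ e θ * (idx * e θ) := Nat.mul_le_mul_left _ h1
      _ = idx * e θ ^ 2 := by ring

/-- **`λ(H) ≤ λ(G) ≤ [G : H] λ(H)`** for a normal subgroup `H`. -/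
theorem lambda_normal_bounds [Finite G] (p : ℕ) [hp : Fact p.Prime] (hM : Cfsg.IsPModular p M)
    (H : Subgroup G) [hN : H.Normal] :
    (∑ᶠ θ ∈ Cfsg.principalBlock M H, Cfsg.charDegree (θ : H → ℂ) ^ 2) ≤
        (∑ᶠ χ ∈ Cfsg.principalBlock M G, Cfsg.charDegree (χ : G → ℂ) ^ 2) ∧
      (∑ᶠ χ ∈ Cfsg.principalBlock M G, Cfsg.charDegree (χ : G → ℂ) ^ 2) ≤
        H.index * ∑ᶠ θ ∈ Cfsg.principalBlock M H, Cfsg.charDegree (θ : H → ℂ) ^ 2 := by
  classical
  haveI := Fintype.ofFinite G
  haveI : Finite (Cfsg.IrrCharacter G) := irr_finite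
  haveI : Fintype (Cfsg.IrrCharacter G) := Fintype.ofFinite _
  haveI : Finite (Cfsg.IrrCharacter H) := irr_finite
  haveI : Fintype (Cfsg.IrrCharacter H) := Fintype.ofFinite _
  have hfinG : (Cfsg.principalBlock M G).Finite := Set.toFinite _
  have hfinH : (Cfsg.principalBlock M H).Finite := Set.toFinite _
  rw [finsum_mem_eq_finite_toFinset_sum _ hfinG, finsum_mem_eq_finite_toFinset_sum _ hfinH]
  have hnat : ∀ (χ : Cfsg.IrrCharacter G) (θ : Cfsg.IrrCharacter H), ∃ n : ℕ,
      Cfsg.classInner (fun h : H => (χ : G → ℂ) h) (θ : H → ℂ) = n := by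
    intro χ θ
    exact classInner_char_char_nat (IsCharacter.restrict H (IsIrrCharacter.isCharacter χ.2))
      (IsIrrCharacter.isCharacter θ.2)
  choose m hm using hnat
  apply double_count_bounds hfinG.toFinset hfinH.toFinset m
    (fun χ => Cfsg.charDegree (χ : G → ℂ)) (fun θ => Cfsg.charDegree (θ : H → ℂ)) H.index
  · intro χ
    exact charDegree_eq_sum_mult H χ (m χ) (hm χ)
  · intro θ
    exact sum_mult_mul_charDegree H θ (fun χ => m χ θ) (fun χ => hm χ θ)
  · intro χ hχ θ hne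
    rw [Set.Finite.mem_toFinset] at hχ ⊢
    apply principal_constituent hM.2.1 H χ hχ θ
    rw [hm χ θ]
    exact_mod_cast hne
  · intro θ hθ
    rw [Set.Finite.mem_toFinset] at hθ
    obtain ⟨χ, hχ, hne⟩ := exists_principal_over hM H θ hθ
    refine ⟨χ, by rw [Set.Finite.mem_toFinset]; exact hχ, ?_⟩
    intro h0
    apply hne
    rw [hm χ θ, h0, Nat.cast_zero]

end Cfsg.Agent.Helper6
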