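import Mathlib
import Cfsg.Prelude.Def_Characters
import Cfsg.Prelude.Def_Blocks
import Cfsg.Prelude.Def_BlockRank
import Cfsg.Agent.Helper6.LambdaSumB
import Cfsg.Agent.Helper6.InflationBlocks
import Cfsg.Agent.Helper6.RankDefect
import Cfsg.Agent.Helper6.RankTrace
import Cfsg.Agent.Helper6.BlockOrth
import Cfsg.Agent.S0941

/-!
# The rank of the principal block of `G / Q` for `G = Q C_G(Q)`

For a normal `p`-subgroup `Q` with `G = Q C_G(Q)` the principal blocks of `G` and `G / Q` have
the same `p`-regular rank.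
-/

set_option autoImplicit false
set_option linter.style.haveILetI false

namespace Cfsg.Agent.Helper6

open scoped ComplexConjugate

universe u

variable {G : Type u} [Group G] {M : Ideal Cfsg.AlgInt}

/-- If `G = Q C_G(Q)` for a `p`-group `Q`, the index of `C_G(Q)` is a power of `p`. -/
theorem index_centralizer_pow_of_sup_eq_top [Finite G] (p : ℕ) [hp : Fact p.Prime]
    (Q : Subgroup G) [hQn : Q.Normal] (hQ : IsPGroup p Q)
    (hsup : Q ⊔ Subgroup.centralizer (Q : Set G) = ⊤) :
    ∃ k : ℕ, (Subgroup.centralizer (Q : Set G)).index = p ^ k := by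
  haveI : (Subgroup.centralizer (Q : Set G)).Normal := Subgroup.normal_centralizer
  have h1 : (Subgroup.centralizer (Q : Set G)).index =
      (Subgroup.centralizer (Q : Set G)).relIndex Q := by
    rw [← Subgroup.relIndex_top_right, ← hsup, Subgroup.relIndex_sup_right]
  obtain ⟨n, hn⟩ := IsPGroup.iff_card.mp hQ
  have h2 : (Subgroup.centralizer (Q : Set G)).relIndex Q ∣ p ^ n := by
    rw [← hn]
    exact Subgroup.relIndex_dvd_card _ _
  obtain ⟨k, -, hk⟩ := (Nat.dvd_prime_pow hp.out).mp h2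
  exact ⟨k, by rw [h1, hk]⟩

/-- `p`-regular lifts are unique when the `p`-regular elements centralize `Q`. -/
theorem pRegular_lift_unique [Finite G] (p : ℕ) [hp : Fact p.Prime]
    (Q : Subgroup G) [hQn : Q.Normal] (hQ : IsPGroup p Q)
    (hcent : ∀ g : G, ¬ p ∣ orderOf g → g ∈ Subgroup.centralizer (Q : Set G))
    (y y' : G) (hy : ¬ p ∣ orderOf y) (hy' : ¬ p ∣ orderOf y')
    (h : (QuotientGroup.mk y : G ⧸ Q) = QuotientGroup.mk y') : y = y' := by
  have hq : y⁻¹ * y' ∈ Q := QuotientGroup.eq.mp h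
  have hcomm : Commute y (y⁻¹ * y') := by
    have := Subgroup.mem_centralizer_iff.mp (hcent y hy) _ hq
    exact this.symm
  have hy'eq : y' = y * (y⁻¹ * y') := by group
  set N := orderOf y * orderOf y' with hN
  have h1 : (y⁻¹ * y') ^ N = 1 := by
    have h2 : y' ^ N = y ^ N * (y⁻¹ * y') ^ N := by
      conv_lhs => rw [hy'eq]
      exact hcomm.mul_pow N
    have h3 : y' ^ N = 1 := by
      rw [hN, mul_comm, pow_mul, pow_orderOf_eq_one, one_pow]
    have h4 : y ^ N = 1 := by
      rw [hN, pow_mul, pow_orderOf_eq_one, one_pow]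
    rw [h3, h4, one_mul] at h2
    exact h2.symm
  obtain ⟨k, hk⟩ := hQ ⟨y⁻¹ * y', hq⟩
  have hk' : (y⁻¹ * y') ^ p ^ k = 1 := by
    have := congrArg Subtype.val hk
    simpa using this
  have hcop : Nat.Coprime N (p ^ k) := by
    apply Nat.Coprime.pow_right
    rw [hN]
    apply Nat.Coprime.mul_left
    · exact ((Nat.Prime.coprime_iff_not_dvd hp.out).mpr hy).symm
    · exact ((Nat.Prime.coprime_iff_not_dvd hp.out).mpr hy').symm
  have h5 : orderOf (y⁻¹ * y') ∣ Nat.gcd N (p ^ k) :=
    Nat.dvd_gcd (orderOf_dvd_of_pow_eq_one h1) (orderOf_dvd_of_pow_eq_one hk')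
  rw [hcop, Nat.dvd_one, orderOf_eq_one_iff] at h5
  calc y = y * 1 := (mul_one y).symm
    _ = y * (y⁻¹ * y') := by rw [h5]
    _ = y' := by group


theorem pRegularPart_add' (p : ℕ) (f g : G → ℂ) :
    Cfsg.pRegularPart p (f + g) = Cfsg.pRegularPart p f + Cfsg.pRegularPart p g := by
  classical
  funext x
  rw [Pi.add_apply, pRegularPart_apply, pRegularPart_apply, pRegularPart_apply, Pi.add_apply]
  split_ifs
  · simp
  · rfl

/-- Inflation followed by truncation to the `p`-regular elements, as a linear map. -/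
noncomputable def truncInfl (p : ℕ) (N : Subgroup G) [N.Normal] :
    ((G ⧸ N) → ℂ) →ₗ[ℂ] (G → ℂ) where
  toFun f := Cfsg.pRegularPart p (f ∘ QuotientGroup.mk)
  map_add' f g := by
    rw [← pRegularPart_add']
    rfl
  map_smul' c f := by
    rw [RingHom.id_apply, ← pRegularPart_smul]
    rfl

theorem truncInfl_apply (p : ℕ) (N : Subgroup G) [N.Normal] (f : G ⧸ N → ℂ) :
    truncInfl p N f = Cfsg.pRegularPart p (f ∘ QuotientGroup.mk) := rfl

theorem not_dvd_orderOf_mk (p : ℕ) (N : Subgroup G) [N.Normal] (g : G)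
    (hg : ¬ p ∣ orderOf g) : ¬ p ∣ orderOf (QuotientGroup.mk g : G ⧸ N) := by
  intro h
  exact hg (h.trans (orderOf_map_dvd (QuotientGroup.mk' N) g))

/-- Truncated inflation of a truncated function is the truncated inflation. -/
theorem truncInfl_pRegularPart (p : ℕ) (N : Subgroup G) [N.Normal] (f : G ⧸ N → ℂ) :
    truncInfl p N (Cfsg.pRegularPart p f) = Cfsg.pRegularPart p (f ∘ QuotientGroup.mk) := by
  classical
  rw [truncInfl_apply]
  funext g
  rw [pRegularPart_apply, pRegularPart_apply]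
  by_cases hg : p ∣ orderOf g
  · rw [if_pos hg, if_pos hg]
  · rw [if_neg hg, if_neg hg, Function.comp_apply, Function.comp_apply, pRegularPart_apply,
      if_neg (not_dvd_orderOf_mk p N g hg)]

/-- Truncated inflation is injective on functions supported on the `p`-regular elements. -/
theorem truncInfl_injOn [Finite G] (p : ℕ) [hp : Fact p.Prime] (N : Subgroup G) [hN : N.Normal]
    (f : G ⧸ N → ℂ) (hf : ∀ x : G ⧸ N, p ∣ orderOf x → f x = 0)
    (h0 : truncInfl p N f = 0) : f = 0 := by
  classical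
  funext x
  by_cases hx : p ∣ orderOf x
  · exact hf x hx
  · obtain ⟨g, rfl, hg⟩ := exists_pRegular_lift (p := p) N x hx
    have := congrFun h0 g
    rw [truncInfl_apply, pRegularPart_apply, if_neg hg] at this
    exact this


/-- When `p`-regular lifts are unique, the truncation of a member of a block `B` of `G` is a
combination of truncated inflations of characters of `G / Q` whose inflation lies in `B`. -/
theorem pRegularPart_mem_span_infl [Fintype G] {p : ℕ} [hp : Fact p.Prime]
    (hM : Cfsg.IsPModular p M) (Q : Subgroup G) [hQn : Q.Normal] (hQ : IsPGroup p Q)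
    (hcent : ∀ g : G, ¬ p ∣ orderOf g → g ∈ Subgroup.centralizer (Q : Set G))
    (B : Set (Cfsg.IrrCharacter G)) (hB : Cfsg.IsPBlock M B) (χ : Cfsg.IrrCharacter G)
    (hχ : χ ∈ B) :
    Cfsg.pRegularPart p (χ : G → ℂ) ∈ Submodule.span ℂ
      ((fun ψ : Cfsg.IrrCharacter (G ⧸ Q) =>
        Cfsg.pRegularPart p ((ψ : G ⧸ Q → ℂ) ∘ QuotientGroup.mk)) '' {ψ | inflIrr Q ψ ∈ B}) := by
  classical
  haveI : Finite (Cfsg.IrrCharacter (G ⧸ Q)) := irr_finite
  haveI : Fintype (Cfsg.IrrCharacter (G ⧸ Q)) := Fintype.ofFinite _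
  obtain ⟨F, hF⟩ : ∃ F : G → ℂ, F = Cfsg.pRegularPart p (χ : G → ℂ) := ⟨_, rfl⟩
  have hFcf : Cfsg.IsClassFunction G F := by
    rw [hF]
    exact pRegularPart_isClassFunction p
      (IsCharacter.isClassFunction (IsIrrCharacter.isCharacter χ.2))
  have hFapp : ∀ y : G, F y = if p ∣ orderOf y then (0 : ℂ) else (χ : G → ℂ) y := by
    intro y
    rw [hF, pRegularPart_apply]
  obtain ⟨f, hf⟩ : ∃ f : G ⧸ Q → ℂ, f = fun x =>
      ∑ y ∈ Finset.univ.filter (fun y : G => (QuotientGroup.mk y : G ⧸ Q) = x), F y := ⟨_, rfl⟩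
  have hcf : Cfsg.IsClassFunction (G ⧸ Q) f := by
    intro x h
    obtain ⟨h, rfl⟩ := QuotientGroup.mk_surjective h
    rw [hf]
    simp only
    symm
    apply Finset.sum_bij (fun (y : G) _ => h * y * h⁻¹)
    · intro y hy
      rw [Finset.mem_filter] at hy ⊢
      refine ⟨Finset.mem_univ _, ?_⟩
      rw [QuotientGroup.mk_mul, QuotientGroup.mk_mul, QuotientGroup.mk_inv, hy.2]
    · intro y _ y' _ hyy
      exact mul_left_cancel (mul_right_cancel hyy)
    · intro z hz
      rw [Finset.mem_filter] at hz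
      refine ⟨h⁻¹ * z * h, ?_, by group⟩
      rw [Finset.mem_filter]
      refine ⟨Finset.mem_univ _, ?_⟩
      rw [QuotientGroup.mk_mul, QuotientGroup.mk_mul, QuotientGroup.mk_inv, hz.2]
      group
    · intro y _
      exact (hFcf y h).symm
  have hval : ∀ y : G, ¬ p ∣ orderOf y → f (QuotientGroup.mk y) = (χ : G → ℂ) y := by
    intro y hy
    rw [hf]
    simp only
    rw [Finset.sum_eq_single y]
    · rw [hFapp, if_neg hy]
    · intro y' hy' hne
      rw [Finset.mem_filter] at hy'
      rw [hFapp]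
      by_cases hy'r : p ∣ orderOf y'
      · rw [if_pos hy'r]
      · exfalso
        exact hne (pRegular_lift_unique p Q hQ hcent y' y hy'r hy hy'.2)
    · intro h
      exfalso
      apply h
      rw [Finset.mem_filter]
      exact ⟨Finset.mem_univ _, rfl⟩
  have hexp := classFunction_expansion f hcf
  have hc : ∀ ψ : Cfsg.IrrCharacter (G ⧸ Q), inflIrr Q ψ ∉ B →
      Cfsg.classInner f (ψ : G ⧸ Q → ℂ) = 0 := by
    intro ψ hψ
    rw [classInner_def]
    have h1 : ∑ x : G ⧸ Q, f x * conj ((ψ : G ⧸ Q → ℂ) x) =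
        ∑ y : G, F y * conj ((ψ : G ⧸ Q → ℂ) (QuotientGroup.mk y)) := by
      rw [← Finset.sum_fiberwise Finset.univ (fun y : G => (QuotientGroup.mk y : G ⧸ Q))
        (fun y => F y * conj ((ψ : G ⧸ Q → ℂ) (QuotientGroup.mk y)))]
      apply Finset.sum_congr rfl
      intro x _
      rw [hf]
      simp only
      rw [Finset.sum_mul]
      apply Finset.sum_congr rfl
      intro y hy
      rw [Finset.mem_filter] at hy
      rw [hy.2]
    have h2 := truncSum_eq_zero_of_not_mem hM B hB χ hχ (inflIrr Q ψ) hψ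
    have h3 : ∑ y : G, F y * conj ((ψ : G ⧸ Q → ℂ) (QuotientGroup.mk y)) =
        truncSum p ((inflIrr Q ψ : Cfsg.IrrCharacter G) : G → ℂ) (χ : G → ℂ) := by
      unfold truncSum truncConj
      apply Finset.sum_congr rfl
      intro y _
      rw [hFapp, inflIrr_apply]
      split_ifs
      · simp
      · ring
    rw [h1, h3, h2, mul_zero]
  have hmain : Cfsg.pRegularPart p (χ : G → ℂ) = ∑ ψ : Cfsg.IrrCharacter (G ⧸ Q),
      Cfsg.classInner f (ψ : G ⧸ Q → ℂ) •
        Cfsg.pRegularPart p ((ψ : G ⧸ Q → ℂ) ∘ QuotientGroup.mk) := by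
    funext y
    rw [Finset.sum_apply]
    simp only [Pi.smul_apply, smul_eq_mul]
    by_cases hy : p ∣ orderOf y
    · rw [pRegularPart_apply, if_pos hy]
      symm
      apply Finset.sum_eq_zero
      intro ψ _
      rw [pRegularPart_apply, if_pos hy, mul_zero]
    · rw [pRegularPart_apply, if_neg hy, ← hval y hy]
      have := congrFun hexp (QuotientGroup.mk y)
      rw [Finset.sum_apply] at this
      simp only [Pi.smul_apply, smul_eq_mul] at this
      rw [this]
      apply Finset.sum_congr rfl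
      intro ψ _
      rw [pRegularPart_apply, if_neg hy, Function.comp_apply]
  rw [hmain]
  apply Submodule.sum_mem
  intro ψ _
  by_cases hψ : inflIrr Q ψ ∈ B
  · exact Submodule.smul_mem _ _ (Submodule.subset_span ⟨ψ, hψ, rfl⟩)
  · rw [hc ψ hψ, zero_smul]
    exact Submodule.zero_mem _


/-- **The principal blocks of `G` and `G / Q` have the same rank** when `G = Q C_G(Q)` for a
normal `p`-subgroup `Q`. -/
theorem blockRank_principal_quotient [Finite G] (p : ℕ) [hp : Fact p.Prime]
    (hM : Cfsg.IsPModular p M) (Q : Subgroup G) [hQn : Q.Normal] (hQ : IsPGroup p Q)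
    (hsup : Q ⊔ Subgroup.centralizer (Q : Set G) = ⊤) :
    Cfsg.blockRank p (Cfsg.principalBlock M G) =
      Cfsg.blockRank p (Cfsg.principalBlock M (G ⧸ Q)) := by
  classical
  haveI := Fintype.ofFinite G
  have hC := index_centralizer_pow_of_sup_eq_top p Q hQ hsup
  have hcent : ∀ g : G, ¬ p ∣ orderOf g → g ∈ Subgroup.centralizer (Q : Set G) :=
    fun g hg => mem_centralizer_of_pRegular Q hC g hg
  have hdom := (Cfsg.Agent.S0941.result p M hM Q hQ hC).1
  unfold Cfsg.blockRank
  set Sbar : Submodule ℂ (G ⧸ Q → ℂ) := Submodule.span ℂ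
    ((fun ψ : Cfsg.IrrCharacter (G ⧸ Q) => Cfsg.pRegularPart p (ψ : G ⧸ Q → ℂ)) ''
      Cfsg.principalBlock M (G ⧸ Q)) with hSbar
  have hmap : Sbar.map (truncInfl p Q) = Submodule.span ℂ
      ((fun ψ : Cfsg.IrrCharacter (G ⧸ Q) =>
        Cfsg.pRegularPart p ((ψ : G ⧸ Q → ℂ) ∘ QuotientGroup.mk)) ''
          Cfsg.principalBlock M (G ⧸ Q)) := by
    rw [hSbar, Submodule.map_span, ← Set.image_comp]
    congr 1
    apply Set.image_congr
    intro ψ _
    exact truncInfl_pRegularPart p Q _
  have hV : Submodule.span ℂ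
      ((fun χ : Cfsg.IrrCharacter G => Cfsg.pRegularPart p (χ : G → ℂ)) ''
        Cfsg.principalBlock M G) = Sbar.map (truncInfl p Q) := by
    rw [hmap]
    apply le_antisymm
    · rw [Submodule.span_le]
      rintro _ ⟨χ, hχ, rfl⟩
      have h1 := pRegularPart_mem_span_infl hM Q hQ hcent (Cfsg.principalBlock M G)
        (isPBlock_principalBlock G) χ hχ
      refine Submodule.span_mono (Set.image_mono ?_) h1
      intro ψ hψ
      have h2 : Cfsg.SameBlock M
          (((trivIrr (G ⧸ Q) : Cfsg.IrrCharacter (G ⧸ Q)) : G ⧸ Q → ℂ) ∘ QuotientGroup.mk)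
          ((ψ : G ⧸ Q → ℂ) ∘ QuotientGroup.mk) := hψ
      exact (hdom (trivIrr (G ⧸ Q)) ψ).mpr h2
    · rw [Submodule.span_le]
      rintro _ ⟨ψ, hψ, rfl⟩
      apply Submodule.subset_span
      refine ⟨inflIrr Q ψ, ?_, rfl⟩
      have h1 : Cfsg.SameBlock M (fun _ : G ⧸ Q => (1 : ℂ)) (ψ : G ⧸ Q → ℂ) := hψ
      exact sameBlock_inflate hM.2.1 Q _ _ h1
  rw [hV]
  have hvan : ∀ f ∈ Sbar, ∀ x : G ⧸ Q, p ∣ orderOf x → f x = 0 := by
    intro f hf
    induction hf using Submodule.span_induction with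
    | mem f hf =>
      obtain ⟨ψ, -, rfl⟩ := hf
      intro x hx
      simp only
      rw [pRegularPart_apply, if_pos hx]
    | zero => intro x _; rfl
    | add f g _ _ hf hg =>
      intro x hx
      rw [Pi.add_apply, hf x hx, hg x hx, add_zero]
    | smul c f _ hf =>
      intro x hx
      rw [Pi.smul_apply, hf x hx, smul_zero]
  have hinj : Function.Injective ((truncInfl p Q).domRestrict Sbar) := by
    rw [← LinearMap.ker_eq_bot, LinearMap.ker_eq_bot']
    intro f hf
    apply Subtype.ext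
    exact truncInfl_injOn p Q f.1 (hvan f.1 f.2) hf
  have := LinearMap.finrank_range_of_inj hinj
  rw [LinearMap.range_domRestrict] at this
  exact this

end Cfsg.Agent.Helper6
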