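import Mathlib
import Cfsg.Prelude.Def_Characters
import Cfsg.Prelude.Def_Blocks
import Cfsg.Prelude.Def_BlockRank
import Cfsg.Agent.Helper6.QuotientRankA

/-!
# The rank of a block and of its deflation modulo a normal `p`-subgroup centralized by the
`p`-regular elements
-/

set_option autoImplicit false
set_option linter.style.haveILetI false

namespace Cfsg.Agent.Helper6.K4

open Cfsg.Agent.Helper6

open scoped ComplexConjugate

universe u

variable {G : Type u} [Group G] {M : Ideal Cfsg.AlgInt}

/-- the characters of the quotient whose inflation lies in `B` -/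
def deflSetL (N : Subgroup G) [hN : N.Normal] (B : Set (Cfsg.IrrCharacter G)) :
    Set (Cfsg.IrrCharacter (G ⧸ N)) :=
  {χ | inflIrr N χ ∈ B}

/-- for a normal `p`-subgroup `Q` centralized by all `p`-regular elements, a block of `G` and
the set of characters of `G / Q` inflating into it have the same rank -/
theorem blockRank_eq_deflSet [Finite G] (p : ℕ) [hp : Fact p.Prime]
    (hM : Cfsg.IsPModular p M) (Q : Subgroup G) [hQn : Q.Normal] (hQ : IsPGroup p Q)
    (hcent : ∀ g : G, ¬ p ∣ orderOf g → g ∈ Subgroup.centralizer (Q : Set G))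
    (B : Set (Cfsg.IrrCharacter G)) (hB : Cfsg.IsPBlock M B) :
    Cfsg.blockRank p B = Cfsg.blockRank p (deflSetL Q B) := by
  classical
  haveI := Fintype.ofFinite G
  unfold Cfsg.blockRank
  set Sbar : Submodule ℂ (G ⧸ Q → ℂ) := Submodule.span ℂ
    ((fun ψ : Cfsg.IrrCharacter (G ⧸ Q) => Cfsg.pRegularPart p (ψ : G ⧸ Q → ℂ)) ''
      deflSetL Q B) with hSbar
  have hmap : Sbar.map (truncInfl p Q) = Submodule.span ℂ
      ((fun ψ : Cfsg.IrrCharacter (G ⧸ Q) =>
        Cfsg.pRegularPart p ((ψ : G ⧸ Q → ℂ) ∘ QuotientGroup.mk)) '' deflSetL Q B) := by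
    rw [hSbar, Submodule.map_span, ← Set.image_comp]
    congr 1
    apply Set.image_congr
    intro ψ _
    exact truncInfl_pRegularPart p Q _
  have hV : Submodule.span ℂ
      ((fun χ : Cfsg.IrrCharacter G => Cfsg.pRegularPart p (χ : G → ℂ)) '' B) =
        Sbar.map (truncInfl p Q) := by
    rw [hmap]
    apply le_antisymm
    · rw [Submodule.span_le]
      rintro _ ⟨χ, hχ, rfl⟩
      exact pRegularPart_mem_span_infl hM Q hQ hcent B hB χ hχ
    · rw [Submodule.span_le]
      rintro _ ⟨ψ, hψ, rfl⟩
      apply Submodule.subset_span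
      exact ⟨inflIrr Q ψ, hψ, rfl⟩
  rw [hV]
  have hvan : ∀ f ∈ Sbar, ∀ x : G ⧸ Q, p ∣ orderOf x → f x = 0 := by
    intro f hf
    induction hf using Submodule.span_induction with
    | mem f hf =>
      obtain ⟨ψ, -, rfl⟩ := hf
      intro x hx
      simp only
      rw [pRegularPart_apply, if_pos hx]
    | zero => intro x _; rfl
    | add f g _ _ hf hg =>
      intro x hx
      rw [Pi.add_apply, hf x hx, hg x hx, add_zero]
    | smul c f _ hf =>
      intro x hx
      rw [Pi.smul_apply, hf x hx, smul_zero]
  have hinj : Function.Injective ((truncInfl p Q).domRestrict Sbar) := by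
    rw [← LinearMap.ker_eq_bot, LinearMap.ker_eq_bot']
    intro f hf
    apply Subtype.ext
    exact truncInfl_injOn p Q f.1 (hvan f.1 f.2) hf
  have := LinearMap.finrank_range_of_inj hinj
  rw [LinearMap.range_domRestrict] at this
  exact this

end Cfsg.Agent.Helper6.K4
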