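import Mathlib
import Cfsg.Prelude.Def_Characters
import Cfsg.Prelude.Def_Blocks
import Cfsg.Prelude.Def_BlockRank
import Cfsg.Agent.Helper6.K4A
import Cfsg.Agent.Helper6.DefectOneTwoA
import Cfsg.Agent.Helper6.RankDefect

/-!
# A `2`-block of defect two of a group with a central involution has rank one
-/

set_option autoImplicit false
set_option linter.style.haveILetI false

namespace Cfsg.Agent.Helper6.K4

open Cfsg.Agent.Helper6

open scoped ComplexConjugate

universe u

variable {G : Type u} [Group G] {M : Ideal Cfsg.AlgInt}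

/-- a nonempty set of irreducible characters with a common `p`-regular part has rank one -/
theorem blockRank_eq_one_of_pRegularPart_eq [Finite G] (p : ℕ) [hp : Fact p.Prime]
    (S : Set (Cfsg.IrrCharacter G)) (χ₀ : Cfsg.IrrCharacter G) (hχ₀ : χ₀ ∈ S)
    (h : ∀ χ ∈ S, Cfsg.pRegularPart p (χ : G → ℂ) = Cfsg.pRegularPart p (χ₀ : G → ℂ)) :
    Cfsg.blockRank p S = 1 := by
  classical
  unfold Cfsg.blockRank
  have himg : (fun χ : Cfsg.IrrCharacter G => Cfsg.pRegularPart p (χ : G → ℂ)) '' S =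
      {Cfsg.pRegularPart p (χ₀ : G → ℂ)} := by
    ext v
    constructor
    · rintro ⟨χ, hχ, rfl⟩
      exact h χ hχ
    · intro hv
      rw [Set.mem_singleton_iff] at hv
      exact ⟨χ₀, hχ₀, hv.symm⟩
  rw [himg]
  apply finrank_span_singleton
  intro h0
  have h1 := congrFun h0 1
  rw [pRegularPart_apply, if_neg (by rw [orderOf_one]; exact hp.out.one_lt.ne' ∘ Nat.dvd_one.mp)]
    at h1
  exact IsIrrCharacter.apply_one_ne_zero χ₀.2 h1

/-- **a `2`-block of defect two of a group with a central involution has rank one** -/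
theorem blockRank_eq_one_of_central_involution [Finite G] (hM : Cfsg.IsPModular 2 M)
    (b : Set (Cfsg.IrrCharacter G)) (hb : Cfsg.IsPBlock M b)
    (hd : Cfsg.blockDefect 2 b = 2) (u : G) (hu : u ∈ Subgroup.center G)
    (hu2 : orderOf u = 2) : Cfsg.blockRank 2 b = 1 := by
  classical
  haveI := Fintype.ofFinite G
  haveI hp2 : Fact (Nat.Prime 2) := ⟨Nat.prime_two⟩
  set Q : Subgroup G := Subgroup.zpowers u with hQdef
  have hQc : Q ≤ Subgroup.center G := by
    rw [hQdef, Subgroup.zpowers_le]; exact hu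
  haveI hQn : Q.Normal := by
    constructor
    intro n hn g
    have := Subgroup.mem_center_iff.mp (hQc hn) g
    have h1 : g * n * g⁻¹ = n := by rw [this, mul_inv_cancel_right]
    rw [h1]; exact hn
  have hQcard : Nat.card Q = 2 := by rw [hQdef, Nat.card_zpowers, hu2]
  have hQ : IsPGroup 2 Q := IsPGroup.of_card (n := 1) (by rw [hQcard, pow_one])
  have hcentop : Subgroup.centralizer (Q : Set G) = ⊤ := by
    rw [Subgroup.centralizer_eq_top_iff_subset]
    exact hQc
  have hcent : ∀ g : G, ¬ 2 ∣ orderOf g → g ∈ Subgroup.centralizer (Q : Set G) := by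
    intro g _; rw [hcentop]; exact Subgroup.mem_top g
  have hC : ∃ k : ℕ, (Subgroup.centralizer (Q : Set G)).index = 2 ^ k :=
    ⟨0, by rw [hcentop, Subgroup.index_top, pow_zero]⟩
  obtain ⟨hS1, hS2⟩ := Cfsg.Agent.S0941.result 2 M hM Q hQ hC
  rw [blockRank_eq_deflSet 2 hM Q hQ hcent b hb]
  -- the deflated set is a block
  obtain ⟨χ₀, θ, hθb, hθ⟩ := hS2 b hb
  have hinf : inflIrr Q χ₀ = θ := Subtype.ext hθ.symm
  have hχ₀ : χ₀ ∈ deflSetL Q b := by
    show inflIrr Q χ₀ ∈ b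
    rw [hinf]; exact hθb
  have hbeq : b = Cfsg.blockOf M ((inflIrr Q χ₀ : Cfsg.IrrCharacter G) : G → ℂ) :=
    eq_blockOf_of_mem hM.2.1 b hb _ hχ₀
  have hbar : deflSetL Q b = Cfsg.blockOf M (χ₀ : G ⧸ Q → ℂ) := by
    ext ψ
    constructor
    · intro hψ
      have h1 : inflIrr Q ψ ∈ b := hψ
      rw [hbeq] at h1
      exact (hS1 χ₀ ψ).mpr h1
    · intro hψ
      show inflIrr Q ψ ∈ b
      rw [hbeq]
      exact (hS1 χ₀ ψ).mp hψ
  have hbarB : Cfsg.IsPBlock M (deflSetL Q b) := ⟨χ₀, hbar⟩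
  -- its defect is at most one
  have hcardG : Nat.card G = Nat.card (G ⧸ Q) * 2 := by
    rw [Subgroup.card_eq_card_quotient_mul_card_subgroup Q, hQcard]
  have hfac : (Nat.card G).factorization 2 = (Nat.card (G ⧸ Q)).factorization 2 + 1 := by
    rw [hcardG, Nat.factorization_mul Nat.card_pos.ne' (by norm_num)]
    simp [Nat.Prime.factorization_self Nat.prime_two]
  have hne : ((fun χ : Cfsg.IrrCharacter (G ⧸ Q) =>
      (Cfsg.charDegree (χ : G ⧸ Q → ℂ)).factorization 2) '' deflSetL Q b).Nonempty :=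
    ⟨_, χ₀, hχ₀, rfl⟩
  have hle : sInf ((fun χ : Cfsg.IrrCharacter G =>
      (Cfsg.charDegree (χ : G → ℂ)).factorization 2) '' b) ≤
      sInf ((fun χ : Cfsg.IrrCharacter (G ⧸ Q) =>
      (Cfsg.charDegree (χ : G ⧸ Q → ℂ)).factorization 2) '' deflSetL Q b) := by
    obtain ⟨ψ, hψ, hψe⟩ := Nat.sInf_mem hne
    rw [← hψe]
    apply Nat.sInf_le
    exact ⟨inflIrr Q ψ, hψ, by simp only; rw [charDegree_inflIrr]⟩
  have hdbar : Cfsg.blockDefect 2 (deflSetL Q b) ≤ 1 := by
    unfold Cfsg.blockDefect at hd ⊢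
    omega
  rcases Nat.le_one_iff_eq_zero_or_eq_one.mp hdbar with h0 | h1
  · exact (((rank_defect hM.2.1 2 hM.2.2 (deflSetL Q b) hbarB).2.1).mp h0).2
  · obtain ⟨-, hall⟩ := defect_one_two hM (deflSetL Q b) hbarB h1
    exact blockRank_eq_one_of_pRegularPart_eq 2 (deflSetL Q b) χ₀ hχ₀
      (fun χ hχ => hall χ hχ χ₀ hχ₀)

end Cfsg.Agent.Helper6.K4
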