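import Mathlib
import Cfsg.Prelude.Def_Characters
import Cfsg.Prelude.Def_Blocks
import Cfsg.Agent.Helper6.SecondMainD
import Cfsg.Agent.Helper6.DefectClassValues
import Cfsg.Agent.Helper6.PairConj2
import Cfsg.Agent.Helper6.OsimaSupport

/-!
# Second main theorem, part F: `p`-sections meeting a defect group
-/

set_option autoImplicit false
set_option linter.style.haveILetI false

namespace Cfsg.Agent.Helper6

open Module
open scoped ComplexConjugate

universe u

variable {G : Type u} [Group G] {M : Ideal Cfsg.AlgInt}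

/-- **S0926**: a height zero character is nonzero somewhere on the `p`-section of `x` iff a
conjugate of `x` lies in the defect group -/
theorem section_meets_defect_iff [Finite G] {p : ℕ} [hp : Fact p.Prime]
    (hM : Cfsg.IsPModular p M) (B : Set (Cfsg.IrrCharacter G)) (hB : Cfsg.IsPBlock M B)
    (D : Subgroup G) (hD : Cfsg.IsDefectGroup p M B D) (χ : Cfsg.IrrCharacter G) (hχ : χ ∈ B)
    (h0 : Cfsg.blockHeight p B (χ : G → ℂ) = 0) (x : G) (hx : ∃ k : ℕ, orderOf x = p ^ k) :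
    (∃ g : G, g * x * g⁻¹ ∈ D) ↔
      ∃ u : G, (∃ z : G, Cfsg.IsPPart p u z ∧ IsConj x z) ∧ (χ : G → ℂ) u ≠ 0 := by
  classical
  have hMm := hM.2.1
  constructor
  · rintro ⟨g, hg⟩
    obtain ⟨y₀, hy₀, P, hDdef⟩ := hD
    rw [hDdef, Subgroup.mem_map] at hg
    obtain ⟨x'', hx''P, hx''eq⟩ := hg
    have hx''eq' : (x'' : G) = g * x * g⁻¹ := hx''eq
    have hcomm : (x'' : G) * y₀ = y₀ * (x'' : G) :=
      (Subgroup.mem_centralizer_iff.mp x''.2 y₀ (Set.mem_singleton y₀)).symm
    have hord : ∃ k : ℕ, orderOf (x'' : G) = p ^ k := by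
      obtain ⟨k, hk⟩ := hx
      refine ⟨k, ?_⟩
      rw [hx''eq']
      have := MulEquiv.orderOf_eq (MulAut.conj g) x
      rw [MulAut.conj_apply] at this
      rw [this, hk]
    have h1 := not_memLocalIdeal_apply_mul hMm p hM.2.2 B hB y₀ hy₀ (x'' : G) hcomm hord χ hχ h0
    have hy₀reg : ¬ p ∣ orderOf y₀ := by
      intro hdvd
      apply hy₀.2.1
      rw [blockCoeff_eq_zero_of_singular hMm p hM.2.2 B hB y₀ hdvd]
      exact memLocalIdeal_zero hMm
    refine ⟨(x'' : G) * y₀, ⟨(x'' : G), ⟨y₀, rfl, hcomm, hord, hy₀reg⟩, ?_⟩, ?_⟩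
    · rw [hx''eq']
      exact isConj_iff.mpr ⟨g, rfl⟩
    · intro hzero
      apply h1
      rw [hzero]
      exact memLocalIdeal_zero hMm
  · rintro ⟨u, ⟨z, hz, hxz⟩, hne⟩
    by_contra hcon
    push Not at hcon
    apply hne
    apply char_vanish_off_defect hM χ u z hz
    intro E hE hzE
    rw [← eq_blockOf_of_mem hMm B hB χ hχ] at hE
    obtain ⟨a, ha⟩ := exists_conj_eq_of_isDefectGroup hM B hB D E hD hE
    obtain ⟨t, ht⟩ := isConj_iff.mp hxz
    apply hcon (a * t)
    rw [← ha, Subgroup.mem_map]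
    refine ⟨z, hzE, ?_⟩
    simp only [MulEquiv.coe_toMonoidHom, MulAut.conj_apply]
    rw [← ht]
    group

end Cfsg.Agent.Helper6
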