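import Mathlib
import Cfsg.Prelude.Def_Characters
import Cfsg.Prelude.Def_Blocks
import Cfsg.Agent.Helper6.SecondMainF
import Cfsg.Agent.Helper6.FirstMain
import Cfsg.Agent.Helper6.MinMax1
import Cfsg.Agent.Helper6.NilVec

/-!
# Central characters, defect groups and centres of defect groups (S0929, S0930, S0931)
-/

set_option autoImplicit false
set_option linter.style.haveILetI false

namespace Cfsg.Agent.Helper6

open Module
open scoped ComplexConjugate

universe u

variable {G : Type u} [Group G] {M : Ideal Cfsg.AlgInt}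

/-- `p`-parts of elements of a subgroup lie in the subgroup -/
theorem isPPart_subgroup (p : ℕ) [hp : Fact p.Prime] (H : Subgroup G) (h : H) (z : G)
    (hz : Cfsg.IsPPart p (h : G) z) : ∃ hzH : z ∈ H, Cfsg.IsPPart p h ⟨z, hzH⟩ := by
  obtain ⟨y, hzy, hc, ⟨k, hk⟩, hy⟩ := hz
  have hcop : Nat.Coprime (orderOf y) (orderOf z) := by
    rw [hk]
    exact (Nat.Coprime.pow_right k ((Nat.Prime.coprime_iff_not_dvd hp.1).mpr hy).symm)
  obtain ⟨hzm, hym⟩ := mem_zpowers_mul_of_coprime z y hc.eq hcop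
  rw [hzy] at hzm hym
  have hzH : z ∈ H := (Subgroup.zpowers_le.mpr h.2) hzm
  have hyH : y ∈ H := (Subgroup.zpowers_le.mpr h.2) hym
  refine ⟨hzH, ⟨y, hyH⟩, ?_, ?_, ⟨k, ?_⟩, ?_⟩
  · apply Subtype.ext
    exact hzy
  · unfold Commute SemiconjBy
    apply Subtype.ext
    exact hc.eq
  · rw [← hk, ← Subgroup.orderOf_coe]
  · rw [← Subgroup.orderOf_coe]
    exact hy

/-- `p`-parts in a subgroup are `p`-parts in the group -/
theorem IsPPart.coe_subgroup {p : ℕ} (H : Subgroup G) {h z : H} (hz : Cfsg.IsPPart p h z) :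
    Cfsg.IsPPart p (h : G) (z : G) := by
  obtain ⟨y, hzy, hc, ⟨k, hk⟩, hy⟩ := hz
  refine ⟨(y : G), ?_, ?_, ⟨k, ?_⟩, ?_⟩
  · rw [← hzy]; rfl
  · unfold Commute SemiconjBy
    have := congrArg (fun t : H => (t : G)) hc.eq
    simpa using this
  · rw [Subgroup.orderOf_coe, hk]
  · rw [Subgroup.orderOf_coe]; exact hy

/-- if the induced central character is a unit at `g`, some class of the subgroup inside the class
of `g` has unit central character -/
theorem exists_class_of_inducedCentralChar [Finite G] (hM : M.IsMaximal) (H : Subgroup G)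
    (ψ : Cfsg.IrrCharacter H) (g : G)
    (h : ¬ Cfsg.MemLocalIdeal M (Cfsg.inducedCentralChar H (ψ : H → ℂ) g)) :
    ∃ x : H, IsConj g (x : G) ∧ ¬ Cfsg.MemLocalIdeal M (Cfsg.centralChar (ψ : H → ℂ) x) := by
  classical
  haveI : Fintype H := Fintype.ofFinite H
  by_contra hcon
  push Not at hcon
  apply h
  rw [inducedCentralChar_eq_sum]
  have hψ1 : (ψ : H → ℂ) 1 ≠ 0 := IsIrrCharacter.apply_one_ne_zero ψ.2
  have key := sum_mem_of_class_sums (G := H) (fun t => Cfsg.MemLocalIdeal M t)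
    (memLocalIdeal_zero hM) (fun x y hx hy => MemLocalIdeal.add hM hx hy)
    (fun x : H => if IsConj g (x : G) then (ψ : H → ℂ) x / (ψ : H → ℂ) 1 else 0) ?_ _
    (Finset.univ.filter (fun x : H => IsConj g (x : G))) rfl ?_
  · rw [Finset.sum_filter]
    rw [Finset.sum_filter] at key
    refine Eq.mp ?_ key
    congr 1
    apply Finset.sum_congr rfl
    intro x _
    split_ifs <;> rfl
  · intro x
    by_cases hx : IsConj g (x : G)
    · have h1 : ∑ t ∈ classFinset x,
          (if IsConj g (t : G) then (ψ : H → ℂ) t / (ψ : H → ℂ) 1 else 0) =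
          Cfsg.centralChar (ψ : H → ℂ) x := by
        have h2 : ∀ t ∈ classFinset x,
            (if IsConj g (t : G) then (ψ : H → ℂ) t / (ψ : H → ℂ) 1 else 0) =
            (ψ : H → ℂ) t / (ψ : H → ℂ) 1 := by
          intro t ht
          rw [mem_classFinset] at ht
          obtain ⟨a, ha⟩ := isConj_iff.mp ht
          rw [if_pos]
          rw [← ha]
          exact hx.trans (isConj_iff.mpr ⟨(a : G), rfl⟩)
        rw [Finset.sum_congr rfl h2, ← Finset.sum_div, sum_classFinset_char]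
        unfold Cfsg.centralChar
        rfl
      rw [h1]
      exact hcon x hx
    · have h2 : ∀ t ∈ classFinset x,
          (if IsConj g (t : G) then (ψ : H → ℂ) t / (ψ : H → ℂ) 1 else 0) = 0 := by
        intro t ht
        rw [mem_classFinset] at ht
        obtain ⟨a, ha⟩ := isConj_iff.mp ht
        rw [if_neg]
        intro hgt
        apply hx
        rw [← ha] at hgt
        exact hgt.trans (isConj_iff.mpr ⟨(a : G)⁻¹, by simp [mul_assoc]⟩)
      rw [Finset.sum_congr rfl h2, Finset.sum_const_zero]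
      exact memLocalIdeal_zero hM
  · intro x hx a
    rw [Finset.mem_filter] at hx ⊢
    refine ⟨Finset.mem_univ _, ?_⟩
    exact hx.2.trans (isConj_iff.mpr ⟨(a : G), rfl⟩)

/-- defect groups are `p`-groups -/
theorem IsDefectGroup.isPGroup [Finite G] {p : ℕ} [hp : Fact p.Prime] (hM : Cfsg.IsPModular p M)
    (B : Set (Cfsg.IrrCharacter G)) (hB : Cfsg.IsPBlock M B) (D : Subgroup G)
    (hD : Cfsg.IsDefectGroup p M B D) : IsPGroup p D :=
  IsPGroup.of_card (card_defectGroup hM.2.1 p hM.2.2 B hB D hD)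

/-- **S0929** -/
theorem exists_conj_centralizing_defect [Finite G] {p : ℕ} [hp : Fact p.Prime]
    (hM : Cfsg.IsPModular p M) (B : Set (Cfsg.IrrCharacter G)) (hB : Cfsg.IsPBlock M B)
    (P : Subgroup G) (hP : Cfsg.IsDefectGroup p M B P) (g : G)
    (hg : ∃ χ ∈ B, ¬ Cfsg.MemLocalIdeal M (Cfsg.centralChar (χ : G → ℂ) g)) :
    ∃ x : G, IsConj g x ∧ x ∈ Subgroup.centralizer (P : Set G) ∧
      ∀ z : G, Cfsg.IsPPart p x z → z ∈ P ∧ ∀ w ∈ P, z * w = w * z := by
  classical
  have hMm := hM.2.1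
  have hPp := IsDefectGroup.isPGroup hM B hB P hP
  obtain ⟨b, hb, hDb, hind⟩ := firstMain_ii_exists hM P hPp B hB hP
  obtain ⟨χ, hχ, hχg⟩ := hg
  obtain ⟨ψ, hψdef⟩ := hb
  have hψ : ψ ∈ b := by rw [hψdef]; exact mem_blockOf_self hMm ψ
  have h1 := hind.2.2 ψ hψ χ hχ g
  have h2 : ¬ Cfsg.MemLocalIdeal M
      (Cfsg.inducedCentralChar (Subgroup.normalizer (P : Set G))
        (ψ : Subgroup.normalizer (P : Set G) → ℂ) g) := by
    intro hmem
    apply hχg
    have := MemLocalIdeal.sub hMm hmem h1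
    rwa [sub_sub_cancel] at this
  obtain ⟨x', hconj, hx'⟩ := exists_class_of_inducedCentralChar hMm _ ψ g h2
  -- the defect group of `b` is normal in the normalizer
  have hPN : P ≤ Subgroup.normalizer (P : Set G) := Subgroup.le_normalizer
  haveI hnorm : (P.subgroupOf (Subgroup.normalizer (P : Set G))).Normal :=
    Subgroup.normal_in_normalizer
  have hbblock : Cfsg.IsPBlock M b := ⟨ψ, hψdef⟩
  -- `x'` centralizes `P`
  have hcent : ∀ w ∈ P, (x' : G) * w = w * (x' : G) := by
    obtain ⟨g₀, hg₀, S₀, hS₀⟩ := hDb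
    obtain ⟨e, he⟩ := exists_conj_defectGroup_le_centralizer hM b hbblock g₀ hg₀ S₀ ψ hψ x' hx'
    intro w hw
    -- `w₁ = e⁻¹ w e ∈ P`
    have hw₁ : (e⁻¹ * ⟨w, hPN hw⟩ * e : Subgroup.normalizer (P : Set G)) ∈
        P.subgroupOf (Subgroup.normalizer (P : Set G)) := by
      have := hnorm.conj_mem ⟨w, hPN hw⟩ (by rw [Subgroup.mem_subgroupOf]; exact hw) e⁻¹
      rwa [inv_inv] at this
    rw [hS₀, Subgroup.mem_map] at hw₁
    obtain ⟨u, hu, hueq⟩ := hw₁
    have h3 := he u hu
    rw [Subgroup.mem_centralizer_singleton_iff] at h3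
    have h4 : e * (u : Subgroup.normalizer (P : Set G)) * e⁻¹ = ⟨w, hPN hw⟩ := by
      have : (u : Subgroup.normalizer (P : Set G)) = e⁻¹ * ⟨w, hPN hw⟩ * e := hueq
      rw [this]
      group
    rw [h4] at h3
    have := congrArg (fun t : Subgroup.normalizer (P : Set G) => (t : G)) h3
    simpa using this.symm
  refine ⟨(x' : G), hconj, ?_, ?_⟩
  · rw [Subgroup.mem_centralizer_iff]
    intro w hw
    exact (hcent w hw).symm
  · intro z hz
    obtain ⟨hzN, hz'⟩ := isPPart_subgroup p _ x' z hz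
    -- `z` is a power of `x'`, so centralizes `P`
    have hzc : ∀ w ∈ P, z * w = w * z := by
      obtain ⟨y, hzy, hc, ⟨k, hk⟩, hy⟩ := hz
      have hcop : Nat.Coprime (orderOf y) (orderOf z) := by
        rw [hk]
        exact (Nat.Coprime.pow_right k ((Nat.Prime.coprime_iff_not_dvd hp.1).mpr hy).symm)
      obtain ⟨hzm, -⟩ := mem_zpowers_mul_of_coprime z y hc.eq hcop
      rw [hzy] at hzm
      obtain ⟨i, hi⟩ := Subgroup.mem_zpowers_iff.mp hzm
      intro w hw
      have hcw : Commute (x' : G) w := hcent w hw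
      rw [← hi]
      exact (hcw.zpow_left i).eq
    refine ⟨?_, hzc⟩
    -- `ψ x' ≠ 0`, so the `p`-part lies in a defect group of `b`
    have hψx : (ψ : Subgroup.normalizer (P : Set G) → ℂ) x' ≠ 0 := by
      intro h0
      apply hx'
      unfold Cfsg.centralChar
      rw [h0, mul_zero, zero_div]
      exact memLocalIdeal_zero hMm
    by_contra hzP
    apply hψx
    apply char_vanish_off_defect hM ψ x' ⟨z, hzN⟩ hz'
    intro E hE hzE
    rw [← hψdef] at hE
    obtain ⟨a, ha⟩ := exists_conj_eq_of_isDefectGroup hM b hbblock _ E hDb hE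
    -- `E` is conjugate to the normal subgroup `P`, so `z ∈ P`
    apply hzP
    have h5 : (MulAut.conj a) ⟨z, hzN⟩ ∈ P.subgroupOf (Subgroup.normalizer (P : Set G)) := by
      rw [← ha]
      exact Subgroup.mem_map_of_mem _ hzE
    have h6 := hnorm.conj_mem _ h5 a⁻¹
    rw [MulAut.conj_apply, inv_inv] at h6
    have h7 : a⁻¹ * (a * ⟨z, hzN⟩ * a⁻¹) * a = (⟨z, hzN⟩ : Subgroup.normalizer (P : Set G)) := by
      group
    rw [h7, Subgroup.mem_subgroupOf] at h6
    exact h6

end Cfsg.Agent.Helper6
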