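import Mathlib
import Cfsg.Prelude.Def_Characters
import Cfsg.Prelude.Def_Blocks
import Cfsg.Agent.Helper6.NilVec
import Cfsg.Agent.Helper6.IndCentralB
import Cfsg.Agent.Helper6.InducedPart
import Cfsg.Agent.Helper6.BlockBasic
import Cfsg.Agent.Helper6.PrincipalPairs
import Cfsg.Agent.Helper6.FirstMain

/-!
# Transitivity of block induction, and blocks of local subgroups inducing a block with a given
defect group
-/

set_option autoImplicit false
set_option linter.style.haveILetI false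

namespace Cfsg.Agent.Helper6

open scoped ComplexConjugate

universe u

variable {G : Type u} [Group G] {M : Ideal Cfsg.AlgInt}

/-- the key congruence behind the transitivity of block induction -/
theorem inducedCentralChar_trans_sub [Fintype G] (hM : M.IsMaximal) (H K : Subgroup G)
    (hHK : H ≤ K) (ξ : H → ℂ) (ψ : K → ℂ) (hψ : Cfsg.IsClassFunction K ψ)
    (h : ∀ k : K, Cfsg.MemLocalIdeal M
      (Cfsg.inducedCentralChar (H.subgroupOf K)
        (fun x => ξ (Subgroup.subgroupOfEquivOfLe hHK x)) k - Cfsg.centralChar ψ k))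
    (g : G) :
    Cfsg.MemLocalIdeal M (Cfsg.inducedCentralChar H ξ g - Cfsg.inducedCentralChar K ψ g) := by
  classical
  haveI : Fintype K := Fintype.ofFinite K
  haveI : Fintype H := Fintype.ofFinite H
  haveI : Fintype (H.subgroupOf K) := Fintype.ofFinite _
  obtain ⟨e, he⟩ : ∃ e : H.subgroupOf K ≃* H, e = Subgroup.subgroupOfEquivOfLe hHK := ⟨_, rfl⟩
  rw [← he] at h
  obtain ⟨ξ', hξ'⟩ : ∃ ξ' : H.subgroupOf K → ℂ, ξ' = fun x => ξ (e x) := ⟨_, rfl⟩
  rw [← hξ'] at h
  have hξ'1 : ξ' 1 = ξ 1 := by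
    rw [hξ']
    beta_reduce
    rw [map_one]
  obtain ⟨T, hT⟩ : ∃ T : Finset K, T = Finset.univ.filter (fun k : K => IsConj g (k : G)) :=
    ⟨_, rfl⟩
  obtain ⟨f, hf⟩ : ∃ f : K → ℂ, f = fun k =>
      Cfsg.extendByZero (H.subgroupOf K) ξ' k / ξ 1 - ψ k / ψ 1 := ⟨_, rfl⟩
  have hclosed : ∀ k ∈ T, ∀ x : K, x * k * x⁻¹ ∈ T := by
    intro k hk x
    rw [hT, Finset.mem_filter] at hk ⊢
    refine ⟨Finset.mem_univ _, hk.2.trans ?_⟩
    exact isConj_iff.mpr ⟨(x : G), rfl⟩
  have hJ : ∀ k₀ : K, Cfsg.MemLocalIdeal M (∑ x ∈ classFinset k₀, f x) := by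
    intro k₀
    have h1 : ∑ x ∈ classFinset k₀, f x =
        Cfsg.inducedCentralChar (H.subgroupOf K) ξ' k₀ - Cfsg.centralChar ψ k₀ := by
      rw [hf, Finset.sum_sub_distrib, ← Finset.sum_div, ← Finset.sum_div,
        sum_classFinset_classFunction ψ hψ, inducedCentralChar_eqB, hξ'1]
      rfl
    rw [h1]
    exact h k₀
  have hsum := sum_mem_of_class_sums (fun z => Cfsg.MemLocalIdeal M z) (memLocalIdeal_zero hM)
    (fun x y hx hy => MemLocalIdeal.add hM hx hy) f hJ T.card T rfl hclosed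
  have h2 : ∑ k ∈ T, f k =
      Cfsg.inducedCentralChar H ξ g - Cfsg.inducedCentralChar K ψ g := by
    rw [hf, Finset.sum_sub_distrib, inducedCentralChar_eq_sum K ψ g, ← hT]
    congr 1
    rw [inducedCentralChar_eq_sum H ξ g, hT, Finset.sum_filter, Finset.sum_filter]
    have h3 : ∀ k : K, (if IsConj g (k : G) then
        Cfsg.extendByZero (H.subgroupOf K) ξ' k / ξ 1 else 0) =
        Cfsg.extendByZero (H.subgroupOf K) ξ' k *
          (if IsConj g (k : G) then (ξ 1)⁻¹ else 0) := by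
      intro k
      split_ifs
      · rw [div_eq_mul_inv]
      · rw [mul_zero]
    rw [Finset.sum_congr rfl (fun k _ => h3 k),
      sum_extendByZero_mul (H.subgroupOf K) ξ'
        (fun k : K => if IsConj g (k : G) then (ξ 1)⁻¹ else 0)]
    rw [← Fintype.sum_equiv e.toEquiv (fun x : H.subgroupOf K =>
      ξ' x * (if IsConj g ((x : K) : G) then (ξ 1)⁻¹ else 0))
      (fun h : H => if IsConj g (h : G) then ξ h / ξ 1 else 0)]
    intro x
    have hx : ((e x : H) : G) = ((x : K) : G) := by rw [he]; rfl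
    show ξ' x * _ = if IsConj g ((e x : H) : G) then ξ (e x) / ξ 1 else 0
    rw [hx, hξ']
    split_ifs
    · rw [div_eq_mul_inv]
    · rw [mul_zero]
  rw [← h2]
  exact hsum

/-- **transitivity of block induction** -/
theorem isInducedBlock_trans [Finite G] (hM : M.IsMaximal) (H K : Subgroup G) (hHK : H ≤ K)
    (b : Set (Cfsg.IrrCharacter H)) (hb : Cfsg.IsPBlock M b) (c : Set (Cfsg.IrrCharacter K))
    (B : Set (Cfsg.IrrCharacter G))
    (h1 : Cfsg.IsInducedBlock M (H.subgroupOf K)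
      (irrComp (Subgroup.subgroupOfEquivOfLe hHK) '' b) c)
    (h2 : Cfsg.IsInducedBlock M K c B) : Cfsg.IsInducedBlock M H b B := by
  classical
  haveI : Fintype G := Fintype.ofFinite G
  refine ⟨hb, h2.2.1, fun ξ hξ χ hχ g => ?_⟩
  obtain ⟨ψ, hψc⟩ := h2.1
  have hψ : ψ ∈ c := by rw [hψc]; exact mem_blockOf_self hM ψ
  have hψcf := IsCharacter.isClassFunction (IsIrrCharacter.isCharacter ψ.2)
  have e1 := inducedCentralChar_trans_sub hM H K hHK (ξ : H → ℂ) (ψ : K → ℂ) hψcf
    (fun k => h1.2.2 (irrComp (Subgroup.subgroupOfEquivOfLe hHK) ξ) ⟨ξ, hξ, rfl⟩ ψ hψ k) g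
  have e2 := h2.2.2 ψ hψ χ hχ g
  have := MemLocalIdeal.add hM e1 e2
  rwa [sub_add_sub_cancel] at this

section Local

variable [Finite G] {p : ℕ} [hp : Fact p.Prime]

/-- a block of a local subgroup inducing a block with defect group `D` has defect group `D` -/
theorem isDefectGroup_of_induced_local (hM : Cfsg.IsPModular p M) (D K : Subgroup G)
    (hD : IsPGroup p D) (hDK : D ≤ K) (hKN : K ≤ Subgroup.normalizer (D : Set G))
    (B : Set (Cfsg.IrrCharacter G)) (hDB : Cfsg.IsDefectGroup p M B D)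
    (b : Set (Cfsg.IrrCharacter K)) (hind : Cfsg.IsInducedBlock M K b B) :
    Cfsg.IsDefectGroup p M b (D.subgroupOf K) := by
  classical
  have hb := hind.1
  have hB := hind.2.1
  obtain ⟨l, hl⟩ := exists_defectClass hM.2.1 _ hb
  obtain ⟨T⟩ : Nonempty (Sylow p (Subgroup.centralizer ({l} : Set K))) := inferInstance
  have hDb : Cfsg.IsDefectGroup p M b
      ((T : Subgroup _).map (Subgroup.centralizer ({l} : Set _)).subtype) := ⟨l, hl, T, rfl⟩
  haveI : (D.subgroupOf K).Normal := Subgroup.normal_subgroupOf_of_le_normalizer hKN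
  have hle1 := normal_pSubgroup_le_defectGroup hM (D.subgroupOf K) hD.comap_subtype _ hb _ hDb
  obtain ⟨E, hE, hle2⟩ := exists_defectGroup_ge_of_induced hM _ _ _ hind _ hDb
  have hcE := card_defectGroup hM.2.1 p hM.2.2 B hB E hE
  have hcD := card_defectGroup hM.2.1 p hM.2.2 B hB D hDB
  have hc1 : Nat.card ((T : Subgroup _).map (Subgroup.centralizer ({l} : Set _)).subtype) ≤
      Nat.card (D.subgroupOf K) := by
    rw [Nat.card_congr (Subgroup.subgroupOfEquivOfLe hDK).toEquiv, hcD, ← hcE,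
      ← Subgroup.card_subtype K
        ((T : Subgroup _).map (Subgroup.centralizer ({l} : Set _)).subtype)]
    exact Nat.le_of_dvd Nat.card_pos (Subgroup.card_dvd_of_le hle2)
  have heq := Subgroup.eq_of_le_of_card_ge hle1 hc1
  exact heq ▸ hDb

/-- every block with defect group `D` is induced from a block of any local subgroup between
`D C_G(D)` and `N_G(D)` -/
theorem exists_block_inducing_local (hM : Cfsg.IsPModular p M) (D K : Subgroup G)
    (hD : IsPGroup p D) (hDK : D ≤ K) (hCK : Subgroup.centralizer (D : Set G) ≤ K)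
    (hKN : K ≤ Subgroup.normalizer (D : Set G))
    (B : Set (Cfsg.IrrCharacter G)) (hB : Cfsg.IsPBlock M B)
    (hDB : Cfsg.IsDefectGroup p M B D) :
    ∃ b : Set (Cfsg.IrrCharacter K), Cfsg.IsInducedBlock M K b B := by
  classical
  obtain ⟨g₀, hg₀, S₀, hS₀⟩ := hDB
  have hg₀c : g₀ ∈ Subgroup.centralizer (D : Set G) := by
    rw [Subgroup.mem_centralizer_iff]
    intro u hu
    have hu' : u ∈ D := hu
    rw [hS₀] at hu'
    have h2 := sylow_map_le S₀ hu'
    exact Subgroup.mem_centralizer_singleton_iff.mp h2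
  obtain ⟨ξ, χ, hχB, hcong⟩ := exists_irr_brauer_block hM D K hD hCK hKN B hB g₀ hg₀c hg₀.2.1
  have hind := isInducedBlock_of_brauer hM D K hD hDK hKN ξ χ hcong
  have hBeq : Cfsg.blockOf M (χ : G → ℂ) = B := by
    obtain ⟨χB, rfl⟩ := hB
    exact (blockOf_eq_of_sameBlock hM.2.1 hχB).symm
  rw [hBeq] at hind
  exact ⟨_, hind⟩

/-- every block of a local subgroup induces a block of the group -/
theorem exists_induced_of_local (hM : Cfsg.IsPModular p M) (D K : Subgroup G)
    (hD : IsPGroup p D) (hDK : D ≤ K) (hCK : Subgroup.centralizer (D : Set G) ≤ K)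
    (hKN : K ≤ Subgroup.normalizer (D : Set G))
    (b : Set (Cfsg.IrrCharacter K)) (hb : Cfsg.IsPBlock M b) :
    ∃ B : Set (Cfsg.IrrCharacter G), Cfsg.IsInducedBlock M K b B := by
  obtain ⟨ξ, rfl⟩ := hb
  obtain ⟨χ, hχ⟩ := exists_irr_brauerCentralChar hM D K hD hCK hKN ξ
  exact ⟨_, isInducedBlock_of_brauer hM D K hD hDK hKN ξ χ hχ⟩

end Local

end Cfsg.Agent.Helper6
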