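import Mathlib
import Cfsg.Prelude.Def_Characters
import Cfsg.Prelude.Def_Blocks
import Cfsg.Agent.Helper6.FongReynolds2
import Cfsg.Agent.Helper6.InducedDefect
import Cfsg.Agent.Helper6.DefectOrder
import Cfsg.Agent.Helper6.BlockPart
import Cfsg.Agent.Helper6.MaximalPairDefect

/-!
# Fong–Reynolds: defect groups and heights
-/

set_option autoImplicit false
set_option linter.style.haveILetI false

namespace Cfsg.Agent.Helper6

open Module Representation
open scoped ComplexConjugate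

universe u v

variable {G : Type u} [Group G] {M : Ideal Cfsg.AlgInt}

/-- The degree of an induced character. -/
theorem charDegree_indFun [Fintype G] (T : Subgroup G) [Fintype T] (ψ : T → ℂ)
    (hψ : Cfsg.IsCharacter T ψ) :
    Cfsg.charDegree (Cfsg.indFun T ψ) = T.index * Cfsg.charDegree ψ := by
  have h1 := charDegree_cast_of_isCharacter (isCharacter_indFun T ψ hψ)
  have h2 := charDegree_cast_of_isCharacter hψ
  rw [indFun_apply_one, ← h2] at h1
  exact_mod_cast h1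

/-- The infimum of a shifted set of natural numbers. -/
theorem nat_sInf_image_add (S : Set ℕ) (hS : S.Nonempty) (c : ℕ) :
    sInf ((fun x => c + x) '' S) = c + sInf S := by
  apply le_antisymm
  · apply Nat.sInf_le
    exact ⟨sInf S, Nat.sInf_mem hS, rfl⟩
  · apply le_csInf (hS.image _)
    rintro x ⟨y, hy, rfl⟩
    exact Nat.add_le_add_left (Nat.sInf_le hy) c

/-- **Fong–Reynolds: defect groups and heights.** -/
theorem fr_defect_height [Fintype G] {p : ℕ} [hp : Fact p.Prime] (hM : Cfsg.IsPModular p M)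
    (N : Subgroup G) [hN : N.Normal] [Fintype N] (b : Set (Cfsg.IrrCharacter N))
    (hb : Cfsg.IsPBlock M b) (T : Subgroup G) [Fintype T] (hT : IsBlockStab N b T) (hNT : N ≤ T)
    (B' : Set (Cfsg.IrrCharacter T)) (hB' : Cfsg.IsPBlock M B')
    (hcov : ∃ ψ ∈ B', ∃ θ ∈ b,
      Cfsg.classInner (fun n : N => (ψ : T → ℂ) ⟨(n : G), hNT n.2⟩) (θ : N → ℂ) ≠ 0)
    (B : Set (Cfsg.IrrCharacter G)) (hind : Cfsg.IsInducedBlock M T B' B) :
    (∀ D : Subgroup T, Cfsg.IsDefectGroup p M B' D →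
        Cfsg.IsDefectGroup p M B (D.map T.subtype)) ∧
      ∀ ψ ∈ B', ∃ χ ∈ B, (χ : G → ℂ) = Cfsg.indFun T (ψ : T → ℂ) ∧
        Cfsg.blockHeight p B (χ : G → ℂ) = Cfsg.blockHeight p B' (ψ : T → ℂ) := by
  classical
  have hM' : M.IsMaximal := hM.2.1
  obtain ⟨B₀, hind₀, hcovB, hirr, hmem⟩ := fr_block_exists hM' N b hb T hT hNT B' hB' hcov
  have hBB₀ : B₀ = B := isInducedBlock_unique hM' T B' B₀ B hind₀ hind
  subst hBB₀
  obtain ⟨c, hc⟩ : ∃ c : ℕ, c = T.index.factorization p := ⟨_, rfl⟩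
  obtain ⟨f', hf'⟩ : ∃ f' : Cfsg.IrrCharacter T → ℕ,
      f' = fun ψ : Cfsg.IrrCharacter T => (Cfsg.charDegree (ψ : T → ℂ)).factorization p := ⟨_, rfl⟩
  obtain ⟨f, hf⟩ : ∃ f : Cfsg.IrrCharacter G → ℕ,
      f = fun χ : Cfsg.IrrCharacter G => (Cfsg.charDegree (χ : G → ℂ)).factorization p := ⟨_, rfl⟩
  have hidx0 : T.index ≠ 0 := Subgroup.index_ne_zero_of_finite
  have hdeg0 : ∀ ψ : Cfsg.IrrCharacter T, Cfsg.charDegree (ψ : T → ℂ) ≠ 0 := by
    intro ψ h0
    have h1 := charDegree_cast_of_isCharacter (IsIrrCharacter.isCharacter ψ.2)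
    rw [h0, Nat.cast_zero] at h1
    exact IsIrrCharacter.apply_one_ne_zero ψ.2 h1.symm
  have hdeg : ∀ ψ : Cfsg.IrrCharacter T, ∀ χ : Cfsg.IrrCharacter G,
      (χ : G → ℂ) = Cfsg.indFun T (ψ : T → ℂ) → f χ = c + f' ψ := by
    intro ψ χ hχ
    rw [hf, hf', hc]
    simp only
    rw [hχ, charDegree_indFun T (ψ : T → ℂ) (IsIrrCharacter.isCharacter ψ.2),
      Nat.factorization_mul hidx0 (hdeg0 ψ)]
    rfl
  have himage : f '' B₀ = (fun x => c + x) '' (f' '' B') := by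
    ext x
    constructor
    · rintro ⟨χ, hχ, rfl⟩
      obtain ⟨ψ, hψ, hχψ⟩ := (hmem χ).mp hχ
      exact ⟨f' ψ, ⟨ψ, hψ, rfl⟩, (hdeg ψ χ hχψ).symm⟩
    · rintro ⟨y, ⟨ψ, hψ, rfl⟩, rfl⟩
      exact ⟨⟨Cfsg.indFun T (ψ : T → ℂ), hirr ψ hψ⟩, (hmem _).mpr ⟨ψ, hψ, rfl⟩, hdeg ψ _ rfl⟩
  have hne : (f' '' B').Nonempty := by
    obtain ⟨ψ, hψ, -⟩ := hcov
    exact ⟨f' ψ, ψ, hψ, rfl⟩
  have hinf : sInf (f '' B₀) = c + sInf (f' '' B') := by
    rw [himage]
    exact nat_sInf_image_add _ hne c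
  have hdef : Cfsg.blockDefect p B₀ = Cfsg.blockDefect p B' := by
    unfold Cfsg.blockDefect
    rw [hf] at hinf
    rw [hinf, ← hf']
    have : (Nat.card G).factorization p = c + (Nat.card T).factorization p := by
      rw [← T.index_mul_card, Nat.factorization_mul hidx0 Nat.card_pos.ne', hc]
      rfl
    rw [this]
    omega
  constructor
  · intro D hD
    obtain ⟨E, hE, hDE⟩ := exists_defectGroup_ge_of_induced hM T B' B₀ hind D hD
    have hcardE := card_defectGroup hM' p hM.2.2 B₀ hind.2.1 E hE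
    have hcardD := card_defectGroup hM' p hM.2.2 B' hB' D hD
    have hcardmap : Nat.card (D.map T.subtype) = Nat.card D :=
      Subgroup.card_map_of_injective T.subtype_injective
    have heq : D.map T.subtype = E := by
      apply Subgroup.eq_of_le_of_card_ge hDE
      rw [hcardmap, hcardE, hcardD, hdef]
    rw [heq]
    exact hE
  · intro ψ hψ
    refine ⟨⟨Cfsg.indFun T (ψ : T → ℂ), hirr ψ hψ⟩, (hmem _).mpr ⟨ψ, hψ, rfl⟩, rfl, ?_⟩
    unfold Cfsg.blockHeight
    have h1 := hdeg ψ ⟨Cfsg.indFun T (ψ : T → ℂ), hirr ψ hψ⟩ rfl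
    rw [hf] at hinf h1
    rw [hf'] at hinf h1
    simp only at h1
    rw [hinf, h1]
    omega
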