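import Mathlib
import Cfsg.Prelude.Def_Characters
import Cfsg.Prelude.Def_Blocks
import Cfsg.Agent.Helper6.BlockCover3
import Cfsg.Agent.Helper6.PCoreChar

/-!
# Characters lying over a character of a subgroup; blocks induced from `Q C_G(Q)`
-/

set_option autoImplicit false
set_option linter.style.haveILetI false

namespace Cfsg.Agent.Helper6

open scoped ComplexConjugate

universe u

variable {G : Type u} [Group G] {M : Ideal Cfsg.AlgInt}

/-- every irreducible character of a subgroup is a constituent of the restriction of some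
irreducible character of the group -/
theorem exists_irr_over [Fintype G] (N : Subgroup G) [Fintype N] (θ₀ : Cfsg.IrrCharacter N) :
    ∃ χ : Cfsg.IrrCharacter G,
      Cfsg.classInner (fun n : N => (χ : G → ℂ) n) (θ₀ : N → ℂ) ≠ 0 := by
  classical
  haveI : Finite (Cfsg.IrrCharacter G) := irr_finite
  haveI : Fintype (Cfsg.IrrCharacter G) := Fintype.ofFinite _
  by_contra hno
  push Not at hno
  have hexp := classFunction_expansion (Cfsg.indFun N (θ₀ : N → ℂ)) (indFun_isClassFunction N _)
  have hzero : Cfsg.indFun N (θ₀ : N → ℂ) = 0 := by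
    rw [hexp]
    apply Finset.sum_eq_zero
    intro χ _
    have h1 := frobenius_reciprocity N (θ₀ : N → ℂ) (χ : G → ℂ)
      (IsCharacter.isClassFunction (IsIrrCharacter.isCharacter χ.2))
    have h2 := hno χ
    rw [classInner_conj_symm] at h2
    have h3 : Cfsg.classInner (θ₀ : N → ℂ) (fun h : N => (χ : G → ℂ) h) = 0 := by
      have := congrArg (starRingEnd ℂ) h2
      simpa using this
    rw [h1, h3, zero_smul]
  have h1 := congrFun hzero 1
  rw [indFun_apply_one] at h1
  have hI0 : (N.index : ℂ) ≠ 0 := by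
    have : N.index ≠ 0 := Subgroup.index_ne_zero_of_finite
    exact_mod_cast this
  exact mul_ne_zero hI0 (IsIrrCharacter.apply_one_ne_zero θ₀.2) h1

/-- a block `B` covering a block `b` of `H = Q C_G(Q)` (with `Q` a normal `p`-subgroup) is the
induced block `b^G` -/
theorem isInducedBlock_of_covering [Fintype G] {p : ℕ} (hM : Cfsg.IsPModular p M)
    (Q : Subgroup G) [Q.Normal] (hQ : IsPGroup p Q) (H : Subgroup G) [hH : H.Normal] [Fintype H]
    (hCH : Subgroup.centralizer (Q : Set G) ≤ H)
    (b : Set (Cfsg.IrrCharacter H)) (hb : Cfsg.IsPBlock M b)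
    (B : Set (Cfsg.IrrCharacter G)) (hB : Cfsg.IsPBlock M B)
    (hcov : ∃ χ ∈ B, ∃ θ ∈ b, Cfsg.classInner (fun n : H => (χ : G → ℂ) n) (θ : H → ℂ) ≠ 0) :
    Cfsg.IsInducedBlock M H b B := by
  classical
  refine ⟨hb, hB, fun ξ hξ χ hχ g => ?_⟩
  have hcong := (covering_iff hM.2.1 H B hB b hb).mp hcov χ hχ ξ hξ
  by_cases hg : g ∈ H
  · have h1 := MemLocalIdeal.neg (hcong ⟨g, hg⟩)
    rwa [neg_sub] at h1
  · have h0 : Cfsg.inducedCentralChar H (ξ : H → ℂ) g = 0 := by
      unfold Cfsg.inducedCentralChar
      have hempty : {h : H | IsConj g (h : G)} = ∅ := by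
        ext h
        simp only [Set.mem_ofPred_eq, Set.mem_empty_iff_false, iff_false]
        intro hc
        obtain ⟨a, ha⟩ := isConj_iff.mp hc
        apply hg
        have h2 : g = a⁻¹ * (h : G) * a⁻¹⁻¹ := by rw [← ha]; group
        rw [h2]
        exact hH.conj_mem _ h.2 _
      rw [hempty]
      exact finsum_mem_empty
    rw [h0, zero_sub]
    apply MemLocalIdeal.neg
    apply centralChar_memLocalIdeal_of_not_mem_centralizer hM Q hQ χ g
    intro hgc
    exact hg (hCH hgc)

end Cfsg.Agent.Helper6
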