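import Mathlib
import Cfsg.Prelude.Def_Characters
import Cfsg.Prelude.Def_Blocks
import Cfsg.Agent.Helper6.InducedTrans
import Cfsg.Agent.Helper6.IrrOver
import Cfsg.Agent.Helper6.FongReynolds2
import Cfsg.Agent.Helper6.MaximalPairDefect

/-!
# Blocks of `P C_G(P)` inducing a block with defect group `P` are conjugate under `N_G(P)` (S0973)
-/

set_option autoImplicit false
set_option linter.style.haveILetI false

namespace Cfsg.Agent.Helper6

open scoped ComplexConjugate

universe u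

variable {G : Type u} [Group G] {M : Ideal Cfsg.AlgInt}

/-- the normalizer of `P` normalizes `P C_G(P)` -/
theorem normalizer_le_normalizer_sup_centralizer (P : Subgroup G) :
    Subgroup.normalizer (P : Set G) ≤
      Subgroup.normalizer ((P ⊔ Subgroup.centralizer (P : Set G) : Subgroup G) : Set G) := by
  have key : ∀ n ∈ Subgroup.normalizer (P : Set G), ∀ x ∈ P ⊔ Subgroup.centralizer (P : Set G),
      n * x * n⁻¹ ∈ P ⊔ Subgroup.centralizer (P : Set G) := by
    intro n hn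
    have h1 : P ⊔ Subgroup.centralizer (P : Set G) ≤
        (P ⊔ Subgroup.centralizer (P : Set G)).comap (MulAut.conj n).toMonoidHom := by
      apply sup_le
      · intro u hu
        rw [Subgroup.mem_comap]
        apply (le_sup_left : P ≤ P ⊔ Subgroup.centralizer (P : Set G))
        exact (Subgroup.mem_normalizer_iff.mp hn u).mp hu
      · intro c hc
        rw [Subgroup.mem_comap]
        apply (le_sup_right : Subgroup.centralizer (P : Set G) ≤
          P ⊔ Subgroup.centralizer (P : Set G))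
        exact (Subgroup.mem_normalizer_iff.mp (normalizer_le_normalizer_centralizer P hn) c).mp hc
    intro x hx
    exact h1 hx
  intro n hn
  rw [Subgroup.mem_normalizer_iff]
  intro x
  constructor
  · exact key n hn x
  · intro hx
    have := key n⁻¹ (inv_mem hn) _ hx
    convert this using 1
    group

set_option maxHeartbeats 1600000 in
/-- the block of the normalizer lying over a block of a local subgroup that induces a block with
defect group `P` -/
theorem exists_normalizer_block [Fintype G] {p : ℕ} [hp : Fact p.Prime]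
    (hM : Cfsg.IsPModular p M) (P L : Subgroup G) (hP : IsPGroup p P)
    (hCL : Subgroup.centralizer (P : Set G) ≤ L)
    (hLN : L ≤ Subgroup.normalizer (P : Set G))
    [hLn : (L.subgroupOf (Subgroup.normalizer (P : Set G))).Normal]
    [Fintype (Subgroup.normalizer (P : Set G))]
    [Fintype (L.subgroupOf (Subgroup.normalizer (P : Set G)))]
    (B : Set (Cfsg.IrrCharacter G)) (hDB : Cfsg.IsDefectGroup p M B P)
    (b : Set (Cfsg.IrrCharacter L)) (hind : Cfsg.IsInducedBlock M L b B) :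
    ∃ c : Set (Cfsg.IrrCharacter (Subgroup.normalizer (P : Set G))),
      Cfsg.IsPBlock M c ∧
      Cfsg.IsDefectGroup p M c (P.subgroupOf (Subgroup.normalizer (P : Set G))) ∧
      Cfsg.IsInducedBlock M (Subgroup.normalizer (P : Set G)) c B ∧
      ∃ ψ ∈ c, ∃ θ ∈ irrComp (Subgroup.subgroupOfEquivOfLe hLN) '' b,
        Cfsg.classInner
          (fun n : L.subgroupOf (Subgroup.normalizer (P : Set G)) =>
            (ψ : Subgroup.normalizer (P : Set G) → ℂ) n)
          (θ : _ → ℂ) ≠ 0 := by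
  classical
  have hPN : P ≤ Subgroup.normalizer (P : Set G) := Subgroup.le_normalizer
  have hCN : Subgroup.centralizer (P : Set G) ≤ Subgroup.normalizer (P : Set G) :=
    Subgroup.centralizer_le_normalizer _
  have hb := hind.1
  obtain ⟨θ₀, hθ₀⟩ := hb
  have hθ₀b : θ₀ ∈ b := by rw [hθ₀]; exact mem_blockOf_self hM.2.1 θ₀
  obtain ⟨e, he⟩ : ∃ e : L.subgroupOf (Subgroup.normalizer (P : Set G)) ≃* L,
    e = Subgroup.subgroupOfEquivOfLe hLN := ⟨_, rfl⟩
  rw [← he]
  have hbt : Cfsg.IsPBlock M (irrComp e '' b) := by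
    rw [hθ₀]
    exact ⟨irrComp e θ₀, image_irrComp_blockOf e θ₀⟩
  obtain ⟨ψ, hψ⟩ := exists_irr_over (L.subgroupOf (Subgroup.normalizer (P : Set G)))
    (irrComp e θ₀)
  have hc : Cfsg.IsPBlock M (Cfsg.blockOf M (ψ : _ → ℂ)) := ⟨ψ, rfl⟩
  have hψc := mem_blockOf_self hM.2.1 ψ
  have hcov : ∃ χ ∈ Cfsg.blockOf M (ψ : _ → ℂ), ∃ θ ∈ irrComp e '' b,
      Cfsg.classInner
        (fun n : L.subgroupOf (Subgroup.normalizer (P : Set G)) =>
          (χ : Subgroup.normalizer (P : Set G) → ℂ) n)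
        (θ : _ → ℂ) ≠ 0 := ⟨ψ, hψc, irrComp e θ₀, ⟨θ₀, hθ₀b, rfl⟩, hψ⟩
  haveI : (P.subgroupOf (Subgroup.normalizer (P : Set G))).Normal :=
    Subgroup.normal_in_normalizer
  have hCL' : Subgroup.centralizer
      ((P.subgroupOf (Subgroup.normalizer (P : Set G)) : Subgroup _) : Set _) ≤
      L.subgroupOf (Subgroup.normalizer (P : Set G)) := by
    intro x hx
    rw [Subgroup.mem_subgroupOf]
    apply hCL
    rw [Subgroup.mem_centralizer_iff]
    intro u hu
    have h1 := Subgroup.mem_centralizer_iff.mp hx ⟨u, hPN hu⟩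
      (by rw [SetLike.mem_coe, Subgroup.mem_subgroupOf]; exact hu)
    exact congrArg Subtype.val h1
  have h1 := isInducedBlock_of_covering hM (P.subgroupOf (Subgroup.normalizer (P : Set G)))
    hP.comap_subtype (L.subgroupOf (Subgroup.normalizer (P : Set G))) hCL'
    (irrComp e '' b) hbt _ hc hcov
  obtain ⟨B₁, h2⟩ := exists_induced_of_local hM P _ hP hPN hCN le_rfl _ hc
  rw [he] at h1
  have h3 := isInducedBlock_trans hM.2.1 L _ hLN b ⟨θ₀, hθ₀⟩ _ B₁ h1 h2
  have hBB := isInducedBlock_unique hM.2.1 L b B B₁ hind h3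
  rw [← hBB] at h2
  have hD := isDefectGroup_of_induced_local hM P _ hP hPN le_rfl B hDB _ h2
  exact ⟨_, hc, hD, h2, hcov⟩

set_option maxHeartbeats 1600000 in
/-- blocks of a local subgroup inducing the same block with defect group `P` are conjugate under
`N_G(P)` -/
theorem local_blocks_conj [Fintype G] {p : ℕ} [hp : Fact p.Prime]
    (hM : Cfsg.IsPModular p M) (P L : Subgroup G) (hP : IsPGroup p P)
    (hCL : Subgroup.centralizer (P : Set G) ≤ L)
    (hLN : L ≤ Subgroup.normalizer (P : Set G))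
    (hNL : Subgroup.normalizer (P : Set G) ≤ Subgroup.normalizer (L : Set G))
    (B : Set (Cfsg.IrrCharacter G)) (hDB : Cfsg.IsDefectGroup p M B P)
    (b b' : Set (Cfsg.IrrCharacter L)) (hind : Cfsg.IsInducedBlock M L b B)
    (hind' : Cfsg.IsInducedBlock M L b' B) :
    ∃ n ∈ Subgroup.normalizer (P : Set G), ∃ hn : n⁻¹ ∈ Subgroup.normalizer (L : Set G),
      ∀ θ ∈ b, nconjIrr L n⁻¹ hn θ ∈ b' := by
  classical
  haveI : Fintype (Subgroup.normalizer (P : Set G)) := Fintype.ofFinite _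
  haveI : Fintype (L.subgroupOf (Subgroup.normalizer (P : Set G))) := Fintype.ofFinite _
  haveI hLn : (L.subgroupOf (Subgroup.normalizer (P : Set G))).Normal :=
    Subgroup.normal_subgroupOf_of_le_normalizer hNL
  obtain ⟨c, hc, hDc, hindc, ψ, hψc, θ₁, hθ₁, hne⟩ :=
    exists_normalizer_block hM P L hP hCL hLN B hDB b hind
  obtain ⟨c', hc', hDc', hindc', ψ', hψc', θ₁', hθ₁', hne'⟩ :=
    exists_normalizer_block hM P L hP hCL hLN B hDB b' hind'
  have hcc : c = c' := firstMain_ii_unique hM P hP B c c' hDc hDc' hindc hindc'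
  subst hcc
  obtain ⟨e, he⟩ : ∃ e : L.subgroupOf (Subgroup.normalizer (P : Set G)) ≃* L,
    e = Subgroup.subgroupOfEquivOfLe hLN := ⟨_, rfl⟩
  rw [← he] at hθ₁ hθ₁'
  have hbt : Cfsg.IsPBlock M (irrComp e '' b) := by
    obtain ⟨θ₀, hθ₀⟩ := hind.1
    rw [hθ₀]
    exact ⟨irrComp e θ₀, image_irrComp_blockOf e θ₀⟩
  have hbt' : Cfsg.IsPBlock M (irrComp e '' b') := by
    obtain ⟨θ₀, hθ₀⟩ := hind'.1
    rw [hθ₀]
    exact ⟨irrComp e θ₀, image_irrComp_blockOf e θ₀⟩
  -- a constituent of `ψ` in the transported `b'`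
  obtain ⟨θ₂, hθ₂, hne₂⟩ := cover_all hM.2.1 (L.subgroupOf (Subgroup.normalizer (P : Set G)))
    (irrComp e '' b') hbt' c hc ⟨ψ', hψc', θ₁', hθ₁', hne'⟩ ψ hψc
  obtain ⟨g, θ₃, hθ₃, hconj⟩ := covering_conj hM.2.1
    (L.subgroupOf (Subgroup.normalizer (P : Set G))) c hc (irrComp e '' b) hbt ψ hψc θ₁ hθ₁ hne
    ψ hψc θ₂ hne₂
  obtain ⟨θ₂₀, hθ₂₀, rfl⟩ := hθ₂
  obtain ⟨θ₃₀, hθ₃₀, rfl⟩ := hθ₃
  have hgn : ((g : G))⁻¹ ∈ Subgroup.normalizer (L : Set G) := inv_mem (hNL g.2)
  refine ⟨(g : G), g.2, hgn, fun θ hθ => ?_⟩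
  have hcoe : ∀ y : L.subgroupOf (Subgroup.normalizer (P : Set G)),
      ((e y : L) : G) = ((y : Subgroup.normalizer (P : Set G)) : G) := by
    intro y
    rw [he]
    rfl
  -- `θ₂₀` is the conjugate of `θ₃₀`
  have h23 : nconjIrr L ((g : G))⁻¹ hgn θ₃₀ = θ₂₀ := by
    apply Subtype.ext
    funext x
    rw [nconjIrr_apply]
    have h1 := hconj (e.symm x)
    rw [irrComp_apply, irrComp_apply, e.apply_symm_apply] at h1
    rw [h1]
    refine congrArg (θ₃₀ : L → ℂ) ?_
    apply Subtype.ext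
    rw [coe_nconjHom, hcoe]
    show ((g : G))⁻¹⁻¹ * (x : G) * ((g : G))⁻¹ =
      (g : G) * (((e.symm x : L.subgroupOf _) : Subgroup.normalizer (P : Set G)) : G) *
        ((g : G))⁻¹
    rw [← hcoe (e.symm x), e.apply_symm_apply, inv_inv]
  have hs : Cfsg.SameBlock M (θ₃₀ : L → ℂ) (θ : L → ℂ) := by
    have h0 : θ ∈ Cfsg.blockOf M (θ₃₀ : L → ℂ) :=
      (eq_blockOf_of_mem hM.2.1 b hind.1 θ₃₀ hθ₃₀) ▸ hθ
    exact h0
  have hs' := sameBlock_nconjIrr (M := M) L ((g : G))⁻¹ hgn θ₃₀ θ hs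
  rw [h23] at hs'
  rw [eq_blockOf_of_mem hM.2.1 b' hind'.1 θ₂₀ hθ₂₀]
  exact hs'

end Cfsg.Agent.Helper6
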