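import Mathlib
import Cfsg.Prelude.Def_Characters
import Cfsg.Prelude.Def_Blocks
import Cfsg.Prelude.Def_BlockLocal
import Cfsg.Agent.Helper6.StableDefect
import Cfsg.Agent.Helper6.IrrOver
import Cfsg.Agent.Helper6.FongReynolds2
import Cfsg.Agent.Helper6.NormalPairBlock
import Cfsg.Agent.Helper6.MaximalPairDefect
import Cfsg.Agent.Helper6.InducedTrans

/-!
# The block covering a stable block of a normal subgroup containing `C_G(P)`
-/

set_option autoImplicit false
set_option linter.style.haveILetI false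

namespace Cfsg.Agent.Helper6

open scoped ComplexConjugate

universe u

variable {G : Type u} [Group G] {M : Ideal Cfsg.AlgInt}

/-- a block covering a stable block `b` of a normal subgroup `H ≥ C_G(P)` (`P` a normal
`p`-subgroup) has the idempotent of `b` -/
theorem blockCoeff_of_stable_cover [Fintype G] {p : ℕ} [hp : Fact p.Prime]
    (hM : Cfsg.IsPModular p M) (P H : Subgroup G) [hPn : P.Normal] [hHn : H.Normal] [Fintype H]
    (hP : IsPGroup p P) (hCH : Subgroup.centralizer (P : Set G) ≤ H)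
    (b : Set (Cfsg.IrrCharacter H)) (hb : Cfsg.IsPBlock M b)
    (hst : ∀ x : G, Cfsg.StabilizesBlock H b x)
    (c : Set (Cfsg.IrrCharacter G)) (hc : Cfsg.IsPBlock M c)
    (hcov : ∃ χ ∈ c, ∃ θ ∈ b, Cfsg.classInner (fun n : H => (χ : G → ℂ) n) (θ : H → ℂ) ≠ 0)
    (g : G) : Cfsg.blockCoeff c g = Cfsg.subgroupBlockCoeff H b g := by
  classical
  have hind := isInducedBlock_of_covering hM P hP H hCH b hb c hc hcov
  have hlo : lyingOver H b = c := by
    ext χ
    constructor
    · rintro ⟨θ, hθ, hne⟩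
      have hcχ : Cfsg.IsPBlock M (Cfsg.blockOf M (χ : G → ℂ)) := ⟨χ, rfl⟩
      have hind' := isInducedBlock_of_covering hM P hP H hCH b hb _ hcχ
        ⟨χ, mem_blockOf_self hM.2.1 χ, θ, hθ, hne⟩
      have := isInducedBlock_unique hM.2.1 H b _ _ hind hind'
      rw [this]
      exact mem_blockOf_self hM.2.1 χ
    · intro hχ
      exact cover_all hM.2.1 H b hb c hc hcov χ hχ
  have hO : ∀ g : G, ∀ θ ∈ b, conjIrr H g θ ∈ b := by
    intro g θ hθ
    rw [← mem_nact_iff, (nact_eq_self_iff H g b).mpr (hst g)]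
    exact hθ
  rw [← hlo, blockCoeff_lyingOver H b hO g]
  by_cases hg : g ∈ H
  · rw [extendByZero_mem _ _ hg, subgroupBlockCoeff_of_mem _ _ _ hg]
  · rw [extendByZero_not_mem _ _ hg, subgroupBlockCoeff_of_not_mem _ _ _ hg]

/-- **defect groups of the block covering a stable block**: the covering block has defect group
`P` exactly when the index of `H` is prime to `p` -/
theorem stable_cover_defect [Fintype G] {p : ℕ} [hp : Fact p.Prime]
    (hM : Cfsg.IsPModular p M) (P H : Subgroup G) [hPn : P.Normal] [hHn : H.Normal] [Fintype H]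
    (hP : IsPGroup p P) (hPH : P ≤ H) (hCH : Subgroup.centralizer (P : Set G) ≤ H)
    (b : Set (Cfsg.IrrCharacter H)) (hb : Cfsg.IsPBlock M b)
    (hcardP : Nat.card P = p ^ Cfsg.blockDefect p b)
    (hst : ∀ x : G, Cfsg.StabilizesBlock H b x)
    (c : Set (Cfsg.IrrCharacter G)) (hc : Cfsg.IsPBlock M c)
    (hcov : ∃ χ ∈ c, ∃ θ ∈ b, Cfsg.classInner (fun n : H => (χ : G → ℂ) n) (θ : H → ℂ) ≠ 0) :
    Cfsg.IsDefectGroup p M c P ↔ ¬ p ∣ H.index := by
  classical
  have hBc := blockCoeff_of_stable_cover hM P H hP hCH b hb hst c hc hcov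
  constructor
  · intro hD
    have h1 := (defectGroup_of_stable_gen hM H b hb hst c hBc P hD).1
    rwa [sup_eq_left.mpr hPH] at h1
  · intro hidx
    obtain ⟨y, hy⟩ := exists_defectClass hM.2.1 c hc
    obtain ⟨S⟩ : Nonempty (Sylow p (Subgroup.centralizer ({y} : Set G))) := inferInstance
    obtain ⟨D, hDdef⟩ : ∃ D : Subgroup G, D =
      (S : Subgroup _).map (Subgroup.centralizer ({y} : Set G)).subtype := ⟨_, rfl⟩
    have hD : Cfsg.IsDefectGroup p M c D := ⟨y, hy, S, hDdef⟩
    have hPD := normal_pSubgroup_le_defectGroup hM P hP c hc D hD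
    have hDp : IsPGroup p D := IsPGroup.of_card (card_defectGroup hM.2.1 p hM.2.2 c hc D hD)
    obtain ⟨-, h2⟩ := defectGroup_of_stable_gen hM H b hb hst c hBc D hD
    have hc1 := card_defectGroup hM.2.1 p hM.2.2 b hb _ h2
    -- `D ≤ H`
    have hDH : D ≤ H := by
      rw [← Subgroup.relIndex_eq_one]
      have h3 : H.relIndex D ∣ H.index := Subgroup.relIndex_dvd_index_of_normal H D
      obtain ⟨k, hk⟩ := hDp.exists_card_eq
      have h4 : H.relIndex D ∣ p ^ k := by
        rw [← hk]
        exact Subgroup.relIndex_dvd_card H D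
      obtain ⟨j, -, hj⟩ := (Nat.dvd_prime_pow hp.out).mp h4
      rw [hj] at h3 ⊢
      rcases Nat.eq_zero_or_pos j with h0 | hpos
      · rw [h0, pow_zero]
      · exfalso
        exact hidx ((dvd_pow_self p hpos.ne').trans h3)
    have hcard : Nat.card D = Nat.card P := by
      have e1 : Nat.card ((D ⊓ H).subgroupOf H) = Nat.card D := by
        rw [inf_eq_left.mpr hDH]
        exact Nat.card_congr (Subgroup.subgroupOfEquivOfLe hDH).toEquiv
      rw [← e1, hc1, hcardP]
    have hPDeq : P = D := Subgroup.eq_of_le_of_card_ge hPD hcard.le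
    rw [hPDeq]
    exact hD

end Cfsg.Agent.Helper6
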