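import Mathlib
import Cfsg.Prelude.Def_Characters
import Cfsg.Prelude.Def_Blocks
import Cfsg.Prelude.Def_BlockLocal
import Cfsg.Agent.Helper6.StableCover
import Cfsg.Agent.Helper6.LocalBlockConj
import Cfsg.Agent.Helper6.BlockFusionRec1
import Cfsg.Agent.Helper6.FongReynolds3

/-!
# Defect groups of induced blocks and the index of the stabilizer (S4437)
-/

set_option autoImplicit false
set_option linter.style.haveILetI false

namespace Cfsg.Agent.Helper6

open scoped ComplexConjugate

universe u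

variable {G : Type u} [Group G] {M : Ideal Cfsg.AlgInt}

/-- stabilizing a block of a subgroup, seen inside an intermediate subgroup -/
theorem stabilizesBlock_subgroupOf_iff (K L : Subgroup G) (hLK : L ≤ K)
    (b : Set (Cfsg.IrrCharacter L)) (g : K) :
    Cfsg.StabilizesBlock (L.subgroupOf K) (irrComp (Subgroup.subgroupOfEquivOfLe hLK) '' b) g ↔
      Cfsg.StabilizesBlock L b (g : G) := by
  obtain ⟨e, he⟩ : ∃ e : L.subgroupOf K ≃* L, e = Subgroup.subgroupOfEquivOfLe hLK := ⟨_, rfl⟩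
  rw [← he]
  have hcoe : ∀ y : L.subgroupOf K, ((e y : L) : G) = ((y : K) : G) := by
    intro y
    rw [he]
    rfl
  have hconj : ∀ χ χ' : Cfsg.IrrCharacter L,
      Cfsg.IsConjCharOf (L.subgroupOf K) g (irrComp e χ : _ → ℂ) (irrComp e χ' : _ → ℂ) ↔
        Cfsg.IsConjCharOf L (g : G) (χ : L → ℂ) (χ' : L → ℂ) := by
    intro χ χ'
    constructor
    · intro h k k' hk
      have := h (e.symm k) (e.symm k') (by
        apply Subtype.ext
        have h1 := hcoe (e.symm k')
        have h2 := hcoe (e.symm k)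
        rw [e.apply_symm_apply] at h1 h2
        rw [Subgroup.coe_mul, Subgroup.coe_mul, Subgroup.coe_inv, ← h1, ← h2]
        exact hk)
      rw [irrComp_apply, irrComp_apply, e.apply_symm_apply, e.apply_symm_apply] at this
      exact this
    · intro h k k' hk
      rw [irrComp_apply, irrComp_apply]
      apply h
      rw [hcoe, hcoe, hk]
      rfl
  constructor
  · rintro ⟨hn, hst⟩
    refine ⟨?_, fun χ hχ => ?_⟩
    · rw [Subgroup.mem_normalizer_iff] at hn ⊢
      intro h
      constructor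
      · intro hh
        have := (hn ⟨h, hLK hh⟩).mp (Subgroup.mem_subgroupOf.mpr hh)
        exact Subgroup.mem_subgroupOf.mp this
      · intro hh
        have hK : h ∈ K := by
          have h1 : (g : G)⁻¹ * ((g : G) * h * (g : G)⁻¹) * (g : G) ∈ K :=
            K.mul_mem (K.mul_mem (K.inv_mem g.2) (hLK hh)) g.2
          have e1 : (g : G)⁻¹ * ((g : G) * h * (g : G)⁻¹) * (g : G) = h := by group
          rwa [e1] at h1
        have := (hn ⟨h, hK⟩).mpr (Subgroup.mem_subgroupOf.mpr hh)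
        exact Subgroup.mem_subgroupOf.mp this
    · obtain ⟨χ', ⟨χ'', hχ'', rfl⟩, hc⟩ := hst (irrComp e χ) ⟨χ, hχ, rfl⟩
      exact ⟨χ'', hχ'', (hconj χ χ'').mp hc⟩
  · rintro ⟨hn, hst⟩
    refine ⟨?_, ?_⟩
    · rw [Subgroup.mem_normalizer_iff] at hn ⊢
      intro h
      rw [Subgroup.mem_subgroupOf, Subgroup.mem_subgroupOf]
      exact hn (h : G)
    · rintro _ ⟨χ, hχ, rfl⟩
      obtain ⟨χ', hχ', hc⟩ := hst χ hχ
      exact ⟨irrComp e χ', ⟨χ', hχ', rfl⟩, (hconj χ χ').mpr hc⟩

/-- the stabilizer of a block in the sense of `StabilizesBlock` is the block stabilizer of the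
Fong–Reynolds theorems -/
theorem isBlockStab_of_stabilizesBlock [Finite G] (N : Subgroup G) [hN : N.Normal]
    (b : Set (Cfsg.IrrCharacter N)) (T : Subgroup G)
    (hT : ∀ g : G, g ∈ T ↔ Cfsg.StabilizesBlock N b g) : IsBlockStab N b T := by
  haveI : Finite (Cfsg.IrrCharacter N) := irr_finite
  intro g
  rw [hT g, ← nact_eq_self_iff]
  constructor
  · intro h θ hθ θ' hθ'
    have e : θ' = conjIrr N g θ := Subtype.ext (funext hθ')
    rw [e, ← mem_nact_iff, h]
    exact hθ
  · intro h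
    have hsub : b ⊆ nact N g b := by
      intro θ hθ
      rw [mem_nact_iff]
      exact h θ hθ (conjIrr N g θ) (fun n => rfl)
    symm
    apply Set.eq_of_subset_of_ncard_le hsub _ (Set.toFinite _)
    unfold nact
    rw [Set.ncard_image_of_injective _ (nconjIrr_injective N g _)]

set_option maxHeartbeats 1600000 in
/-- the stable-cover criterion inside an intermediate subgroup `T` -/
theorem stable_cover_defect_sub [Fintype G] {p : ℕ} [hp : Fact p.Prime]
    (hM : Cfsg.IsPModular p M) (P H T : Subgroup G) [hPn : P.Normal] [hHn : H.Normal]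
    [Fintype H] [Fintype T]
    (hP : IsPGroup p P) (hPH : P ≤ H) (hCH : Subgroup.centralizer (P : Set G) ≤ H)
    (hHT : H ≤ T) (b : Set (Cfsg.IrrCharacter H)) (hb : Cfsg.IsPBlock M b)
    (hcardP : Nat.card P = p ^ Cfsg.blockDefect p b)
    (hst : ∀ x ∈ T, Cfsg.StabilizesBlock H b x)
    (B' : Set (Cfsg.IrrCharacter T)) (hB' : Cfsg.IsPBlock M B')
    (hcov : ∃ ψ ∈ B', ∃ θ ∈ b,
      Cfsg.classInner (fun n : H => (ψ : T → ℂ) ⟨(n : G), hHT n.2⟩) (θ : H → ℂ) ≠ 0) :
    Cfsg.IsDefectGroup p M B' (P.subgroupOf T) ↔ ¬ p ∣ H.relIndex T := by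
  classical
  haveI : Fintype (H.subgroupOf T) := Fintype.ofFinite _
  obtain ⟨e, he⟩ : ∃ e : H.subgroupOf T ≃* H, e = Subgroup.subgroupOfEquivOfLe hHT := ⟨_, rfl⟩
  have hPT : P ≤ T := hPH.trans hHT
  have hP₂ : IsPGroup p (P.subgroupOf T) := hP.comap_subtype
  have hPH₂ : P.subgroupOf T ≤ H.subgroupOf T := Subgroup.comap_mono hPH
  have hCH₂ : Subgroup.centralizer ((P.subgroupOf T : Subgroup T) : Set T) ≤ H.subgroupOf T := by
    intro x hx
    rw [Subgroup.mem_subgroupOf]
    apply hCH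
    rw [Subgroup.mem_centralizer_iff]
    intro u hu
    have h1 := Subgroup.mem_centralizer_iff.mp hx ⟨u, hPT hu⟩
      (by rw [SetLike.mem_coe, Subgroup.mem_subgroupOf]; exact hu)
    exact congrArg Subtype.val h1
  have hb₂ : Cfsg.IsPBlock M (irrComp e '' b) := by
    obtain ⟨θ₀, rfl⟩ := hb
    exact ⟨irrComp e θ₀, image_irrComp_blockOf e θ₀⟩
  have hcard₂ : Nat.card (P.subgroupOf T) = p ^ Cfsg.blockDefect p (irrComp e '' b) := by
    rw [blockDefect_image_irrComp, ← hcardP]
    exact Nat.card_congr (Subgroup.subgroupOfEquivOfLe hPT).toEquiv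
  have hst₂ : ∀ x : T, Cfsg.StabilizesBlock (H.subgroupOf T) (irrComp e '' b) x := by
    intro x
    rw [he]
    exact (stabilizesBlock_subgroupOf_iff T H hHT b x).mpr (hst x x.2)
  have hinner : ∀ (ψ : T → ℂ) (θ : Cfsg.IrrCharacter H),
      Cfsg.classInner (fun n : H.subgroupOf T => ψ n) (irrComp e θ : H.subgroupOf T → ℂ) =
        Cfsg.classInner (fun n : H => ψ ⟨(n : G), hHT n.2⟩) (θ : H → ℂ) := by
    intro ψ θ
    have hres : (fun n : H.subgroupOf T => ψ n) = (fun n : H => ψ ⟨(n : G), hHT n.2⟩) ∘ e := by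
      rw [he]
      rfl
    have hθ' : (irrComp e θ : H.subgroupOf T → ℂ) = (θ : H → ℂ) ∘ e := rfl
    rw [hres, hθ']
    exact classInner_comp_equiv' e.toEquiv _ _
  have hcov₂ : ∃ χ ∈ B', ∃ θ ∈ irrComp e '' b,
      Cfsg.classInner (fun n : H.subgroupOf T => (χ : T → ℂ) n) (θ : H.subgroupOf T → ℂ) ≠ 0 := by
    obtain ⟨ψ, hψ, θ, hθ, hne⟩ := hcov
    exact ⟨ψ, hψ, irrComp e θ, ⟨θ, hθ, rfl⟩, by rw [hinner]; exact hne⟩
  exact stable_cover_defect hM (P.subgroupOf T) (H.subgroupOf T) hP₂ hPH₂ hCH₂ (irrComp e '' b)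
    hb₂ hcard₂ hst₂ B' hB' hcov₂

/-- elements of a subgroup stabilize every set of its irreducible characters -/
theorem stabilizesBlock_of_mem_self (L : Subgroup G) (b : Set (Cfsg.IrrCharacter L)) (x : G)
    (hx : x ∈ L) : Cfsg.StabilizesBlock L b x := by
  refine ⟨Subgroup.le_normalizer hx, fun χ hχ => ⟨χ, hχ, fun k k' hk => ?_⟩⟩
  have hcf := IsCharacter.isClassFunction (IsIrrCharacter.isCharacter χ.2)
  have : k' = ⟨x, hx⟩ * k * ⟨x, hx⟩⁻¹ := by
    apply Subtype.ext
    rw [hk]
    rfl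
  rw [this]
  exact hcf k ⟨x, hx⟩

/-- defect groups under the Fong–Reynolds correspondence, for a normal `p`-subgroup -/
theorem fr_defect_iff [Finite G] {p : ℕ} [hp : Fact p.Prime] (hM : Cfsg.IsPModular p M)
    (P T : Subgroup G) [hPn : P.Normal] (hP : IsPGroup p P) (hPT : P ≤ T)
    (c : Set (Cfsg.IrrCharacter G)) (hc : Cfsg.IsPBlock M c)
    (B' : Set (Cfsg.IrrCharacter T)) (hB' : Cfsg.IsPBlock M B')
    (hdef : ∀ D : Subgroup T, Cfsg.IsDefectGroup p M B' D →
      Cfsg.IsDefectGroup p M c (D.map T.subtype)) :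
    Cfsg.IsDefectGroup p M c P ↔ Cfsg.IsDefectGroup p M B' (P.subgroupOf T) := by
  constructor
  · intro h
    obtain ⟨D', hD'⟩ := exists_isDefectGroup hM.2.1 p B' hB'
    have h1 := hdef D' hD'
    have hc1 := card_defectGroup hM.2.1 p hM.2.2 c hc _ h1
    have hc2 := card_defectGroup hM.2.1 p hM.2.2 c hc _ h
    have hle := normal_pSubgroup_le_defectGroup hM (P.subgroupOf T) hP.comap_subtype B' hB' D' hD'
    have hcard : Nat.card D' ≤ Nat.card (P.subgroupOf T) := by
      rw [Nat.card_congr (Subgroup.subgroupOfEquivOfLe hPT).toEquiv, hc2, ← hc1,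
        Subgroup.card_subtype]
    have := Subgroup.eq_of_le_of_card_ge hle hcard
    rw [this]
    exact hD'
  · intro h
    have h1 := hdef _ h
    rwa [Subgroup.map_subgroupOf_eq_of_le hPT] at h1

set_option maxHeartbeats 1600000 in
/-- the block of the normalizer lying over a block of a local subgroup -/
theorem exists_normalizer_block' [Fintype G] {p : ℕ} [hp : Fact p.Prime]
    (hM : Cfsg.IsPModular p M) (P L : Subgroup G) (hP : IsPGroup p P)
    (hCL : Subgroup.centralizer (P : Set G) ≤ L)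
    (hLN : L ≤ Subgroup.normalizer (P : Set G))
    [hLn : (L.subgroupOf (Subgroup.normalizer (P : Set G))).Normal]
    [Fintype (Subgroup.normalizer (P : Set G))]
    [Fintype (L.subgroupOf (Subgroup.normalizer (P : Set G)))]
    (B : Set (Cfsg.IrrCharacter G))
    (b : Set (Cfsg.IrrCharacter L)) (hind : Cfsg.IsInducedBlock M L b B) :
    ∃ c : Set (Cfsg.IrrCharacter (Subgroup.normalizer (P : Set G))),
      Cfsg.IsPBlock M c ∧
      Cfsg.IsInducedBlock M (Subgroup.normalizer (P : Set G)) c B ∧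
      ∃ ψ ∈ c, ∃ θ ∈ irrComp (Subgroup.subgroupOfEquivOfLe hLN) '' b,
        Cfsg.classInner
          (fun n : L.subgroupOf (Subgroup.normalizer (P : Set G)) =>
            (ψ : Subgroup.normalizer (P : Set G) → ℂ) n)
          (θ : _ → ℂ) ≠ 0 := by
  classical
  have hPN : P ≤ Subgroup.normalizer (P : Set G) := Subgroup.le_normalizer
  have hCN : Subgroup.centralizer (P : Set G) ≤ Subgroup.normalizer (P : Set G) :=
    Subgroup.centralizer_le_normalizer _
  have hb := hind.1
  obtain ⟨θ₀, hθ₀⟩ := hb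
  have hθ₀b : θ₀ ∈ b := by rw [hθ₀]; exact mem_blockOf_self hM.2.1 θ₀
  obtain ⟨e, he⟩ : ∃ e : L.subgroupOf (Subgroup.normalizer (P : Set G)) ≃* L,
    e = Subgroup.subgroupOfEquivOfLe hLN := ⟨_, rfl⟩
  rw [← he]
  have hbt : Cfsg.IsPBlock M (irrComp e '' b) := by
    rw [hθ₀]
    exact ⟨irrComp e θ₀, image_irrComp_blockOf e θ₀⟩
  obtain ⟨ψ, hψ⟩ := exists_irr_over (L.subgroupOf (Subgroup.normalizer (P : Set G)))
    (irrComp e θ₀)
  have hc : Cfsg.IsPBlock M (Cfsg.blockOf M (ψ : _ → ℂ)) := ⟨ψ, rfl⟩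
  have hψc := mem_blockOf_self hM.2.1 ψ
  have hcov : ∃ χ ∈ Cfsg.blockOf M (ψ : _ → ℂ), ∃ θ ∈ irrComp e '' b,
      Cfsg.classInner
        (fun n : L.subgroupOf (Subgroup.normalizer (P : Set G)) =>
          (χ : Subgroup.normalizer (P : Set G) → ℂ) n)
        (θ : _ → ℂ) ≠ 0 := ⟨ψ, hψc, irrComp e θ₀, ⟨θ₀, hθ₀b, rfl⟩, hψ⟩
  haveI : (P.subgroupOf (Subgroup.normalizer (P : Set G))).Normal :=
    Subgroup.normal_in_normalizer
  have hCL' : Subgroup.centralizer
      ((P.subgroupOf (Subgroup.normalizer (P : Set G)) : Subgroup _) : Set _) ≤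
      L.subgroupOf (Subgroup.normalizer (P : Set G)) := by
    intro x hx
    rw [Subgroup.mem_subgroupOf]
    apply hCL
    rw [Subgroup.mem_centralizer_iff]
    intro u hu
    have h1 := Subgroup.mem_centralizer_iff.mp hx ⟨u, hPN hu⟩
      (by rw [SetLike.mem_coe, Subgroup.mem_subgroupOf]; exact hu)
    exact congrArg Subtype.val h1
  have h1 := isInducedBlock_of_covering hM (P.subgroupOf (Subgroup.normalizer (P : Set G)))
    hP.comap_subtype (L.subgroupOf (Subgroup.normalizer (P : Set G))) hCL'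
    (irrComp e '' b) hbt _ hc hcov
  obtain ⟨B₁, h2⟩ := exists_induced_of_local hM P _ hP hPN hCN le_rfl _ hc
  rw [he] at h1
  have h3 := isInducedBlock_trans hM.2.1 L _ hLN b ⟨θ₀, hθ₀⟩ _ B₁ h1 h2
  have hBB := isInducedBlock_unique hM.2.1 L b B B₁ hind h3
  rw [← hBB] at h2
  exact ⟨_, hc, h2, hcov⟩

set_option maxHeartbeats 1600000 in
/-- **S4437**: the induced block `b^G` of a block `b` of `L ≥ P C_G(P)` with defect group `P` has
defect group `P` iff the index of `L` in the stabilizer of `b` in `N_G(P)` is prime to `p` -/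
theorem defect_iff_stabilizer_index [Fintype G] {p : ℕ} [hp : Fact p.Prime]
    (hM : Cfsg.IsPModular p M) (P L : Subgroup G) (hP : IsPGroup p P) (hPL : P ≤ L)
    (hCL : Subgroup.centralizer (P : Set G) ≤ L)
    (hLN : L ≤ Subgroup.normalizer (P : Set G))
    (hNL : Subgroup.normalizer (P : Set G) ≤ Subgroup.normalizer (L : Set G))
    (b : Set (Cfsg.IrrCharacter L)) (hDb : Cfsg.IsDefectGroup p M b (P.subgroupOf L))
    (B : Set (Cfsg.IrrCharacter G)) (hind : Cfsg.IsInducedBlock M L b B)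
    (T : Subgroup G)
    (hT : ∀ g : G, g ∈ T ↔ g ∈ Subgroup.normalizer (P : Set G) ∧ Cfsg.StabilizesBlock L b g) :
    Cfsg.IsDefectGroup p M B P ↔ ¬ p ∣ L.relIndex T := by
  classical
  haveI : Fintype (Subgroup.normalizer (P : Set G)) := Fintype.ofFinite _
  haveI : Fintype (L.subgroupOf (Subgroup.normalizer (P : Set G))) := Fintype.ofFinite _
  haveI : Fintype (T.subgroupOf (Subgroup.normalizer (P : Set G))) := Fintype.ofFinite _
  haveI hLn : (L.subgroupOf (Subgroup.normalizer (P : Set G))).Normal :=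
    Subgroup.normal_subgroupOf_of_le_normalizer hNL
  haveI hPn : (P.subgroupOf (Subgroup.normalizer (P : Set G))).Normal :=
    Subgroup.normal_in_normalizer
  have hPN : P ≤ Subgroup.normalizer (P : Set G) := Subgroup.le_normalizer
  have hTN : T ≤ Subgroup.normalizer (P : Set G) := fun g hg => ((hT g).mp hg).1
  have hLT : L ≤ T := fun x hx => (hT x).mpr ⟨hLN hx, stabilizesBlock_of_mem_self L b x hx⟩
  have hb := hind.1
  obtain ⟨c, hc, hindc, hcov⟩ := exists_normalizer_block' hM P L hP hCL hLN B b hind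
  obtain ⟨e, he⟩ : ∃ e : L.subgroupOf (Subgroup.normalizer (P : Set G)) ≃* L,
    e = Subgroup.subgroupOfEquivOfLe hLN := ⟨_, rfl⟩
  rw [← he] at hcov
  have hbt : Cfsg.IsPBlock M (irrComp e '' b) := by
    obtain ⟨θ₀, hθ₀⟩ := hb
    rw [hθ₀]
    exact ⟨irrComp e θ₀, image_irrComp_blockOf e θ₀⟩
  -- step 1
  have h1 : Cfsg.IsDefectGroup p M B P ↔
      Cfsg.IsDefectGroup p M c (P.subgroupOf (Subgroup.normalizer (P : Set G))) := by
    constructor
    · intro h
      exact isDefectGroup_of_induced_local hM P _ hP hPN le_rfl B h c hindc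
    · intro h
      obtain ⟨B₂, hB₂, hD₂, hind₂⟩ := firstMain_i hM P hP c hc h
      have := isInducedBlock_unique hM.2.1 _ c B B₂ hindc hind₂
      rw [this]
      exact hD₂
  -- the stabilizer
  have hT' : ∀ g : Subgroup.normalizer (P : Set G),
      g ∈ T.subgroupOf (Subgroup.normalizer (P : Set G)) ↔
        Cfsg.StabilizesBlock (L.subgroupOf (Subgroup.normalizer (P : Set G)))
          (irrComp e '' b) g := by
    intro g
    rw [Subgroup.mem_subgroupOf, hT, he, stabilizesBlock_subgroupOf_iff]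
    exact and_iff_right g.2
  have hstab := isBlockStab_of_stabilizesBlock
    (L.subgroupOf (Subgroup.normalizer (P : Set G))) (irrComp e '' b)
    (T.subgroupOf (Subgroup.normalizer (P : Set G))) hT'
  have hLT' : L.subgroupOf (Subgroup.normalizer (P : Set G)) ≤
      T.subgroupOf (Subgroup.normalizer (P : Set G)) := Subgroup.comap_mono hLT
  have hPL' : P.subgroupOf (Subgroup.normalizer (P : Set G)) ≤
      L.subgroupOf (Subgroup.normalizer (P : Set G)) := Subgroup.comap_mono hPL
  obtain ⟨B', hB', hcov', hindB'⟩ := fr_block_surj hM.2.1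
    (L.subgroupOf (Subgroup.normalizer (P : Set G))) (irrComp e '' b) hbt
    (T.subgroupOf (Subgroup.normalizer (P : Set G))) hstab hLT' c hc hcov
  obtain ⟨hdef, -⟩ := fr_defect_height hM
    (L.subgroupOf (Subgroup.normalizer (P : Set G))) (irrComp e '' b) hbt
    (T.subgroupOf (Subgroup.normalizer (P : Set G))) hstab hLT' B' hB' hcov' c hindB'
  have h2 := fr_defect_iff hM (P.subgroupOf (Subgroup.normalizer (P : Set G)))
    (T.subgroupOf (Subgroup.normalizer (P : Set G))) hP.comap_subtype (hPL'.trans hLT')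
    c hc B' hB' hdef
  have hCL' : Subgroup.centralizer
      ((P.subgroupOf (Subgroup.normalizer (P : Set G)) : Subgroup _) : Set _) ≤
      L.subgroupOf (Subgroup.normalizer (P : Set G)) := by
    intro x hx
    rw [Subgroup.mem_subgroupOf]
    apply hCL
    rw [Subgroup.mem_centralizer_iff]
    intro u hu
    have h1 := Subgroup.mem_centralizer_iff.mp hx ⟨u, hPN hu⟩
      (by rw [SetLike.mem_coe, Subgroup.mem_subgroupOf]; exact hu)
    exact congrArg Subtype.val h1
  have hcard : Nat.card (P.subgroupOf (Subgroup.normalizer (P : Set G))) =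
      p ^ Cfsg.blockDefect p (irrComp e '' b) := by
    rw [blockDefect_image_irrComp, ← card_defectGroup hM.2.1 p hM.2.2 b hb _ hDb,
      Nat.card_congr (Subgroup.subgroupOfEquivOfLe hPN).toEquiv,
      Nat.card_congr (Subgroup.subgroupOfEquivOfLe hPL).toEquiv]
  have h3 := stable_cover_defect_sub hM (P.subgroupOf (Subgroup.normalizer (P : Set G)))
    (L.subgroupOf (Subgroup.normalizer (P : Set G)))
    (T.subgroupOf (Subgroup.normalizer (P : Set G))) hP.comap_subtype hPL' hCL' hLT'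
    (irrComp e '' b) hbt hcard (fun x hx => (hT' x).mp hx) B' hB' hcov'
  rw [h1, h2, h3]
  have h4 : (L.subgroupOf (Subgroup.normalizer (P : Set G))).relIndex
      (T.subgroupOf (Subgroup.normalizer (P : Set G))) = L.relIndex T := by
    have := Subgroup.relIndex_comap L (Subgroup.normalizer (P : Set G)).subtype
      (T.subgroupOf (Subgroup.normalizer (P : Set G)))
    rw [Subgroup.map_subgroupOf_eq_of_le hTN] at this
    exact this
  rw [h4]

end Cfsg.Agent.Helper6
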