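import Mathlib
import Cfsg.Prelude.Def_Characters
import Cfsg.Prelude.Def_Blocks
import Cfsg.Prelude.Def_BlockLocal
import Cfsg.Agent.Helper6.StabilizerIndex
import Cfsg.Agent.Helper6.InducedTrans
import Cfsg.Agent.Helper6.BlockFusionAut
import Cfsg.Agent.Helper6.DefectCenter

/-!
# The inertial index of a block with a Klein four defect group is `1` or `3`
-/

set_option autoImplicit false
set_option linter.style.haveILetI false

namespace Cfsg.Agent.Helper6.K4

open Cfsg.Agent.Helper6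

open scoped ComplexConjugate

universe u

variable {G : Type u} [Group G] {M : Ideal Cfsg.AlgInt}

/-- basic facts on a Klein four subgroup -/
theorem klein_facts (P : Subgroup G) (hP : IsKleinFour P) :
    (∀ x ∈ P, x * x = 1) ∧ (∀ x ∈ P, ∀ y ∈ P, x * y = y * x) ∧
    (∀ x ∈ P, ∀ y ∈ P, ∀ z ∈ P, x ≠ 1 → y ≠ 1 → x ≠ y → z ≠ 1 → z ≠ x → z ≠ y → z = x * y) := by
  refine ⟨?_, ?_, ?_⟩
  · intro x hx
    have h := IsKleinFour.mul_self (⟨x, hx⟩ : P)
    exact congrArg Subtype.val h
  · intro x hx y hy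
    have h := (IsKleinFour.isMulCommutative (G := P)).is_comm.comm ⟨x, hx⟩ ⟨y, hy⟩
    exact congrArg Subtype.val h
  · intro x hx y hy z hz hx1 hy1 hxy hz1 hzx hzy
    have h := IsKleinFour.eq_mul_of_ne_all (G := P) (x := ⟨x, hx⟩) (y := ⟨y, hy⟩) (z := ⟨z, hz⟩)
      (fun h => hx1 (congrArg Subtype.val h)) (fun h => hy1 (congrArg Subtype.val h))
      (fun h => hxy (congrArg Subtype.val h)) (fun h => hz1 (congrArg Subtype.val h))
      (fun h => hzx (congrArg Subtype.val h)) (fun h => hzy (congrArg Subtype.val h))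
    exact congrArg Subtype.val h

/-- an element normalizing a Klein four group `P`, not centralizing it, whose cube centralizes
it, permutes the involutions of `P` transitively -/
theorem klein_transitive_of_order_three (P : Subgroup G) (hP : IsKleinFour P) (t : G)
    (htN : ∀ x ∈ P, t * x * t⁻¹ ∈ P) (ht3 : ∀ x ∈ P, t ^ 3 * x * (t ^ 3)⁻¹ = x)
    (htC : ∃ x ∈ P, t * x * t⁻¹ ≠ x) (u v : G) (hu : u ∈ P) (hu1 : u ≠ 1) (hv : v ∈ P)
    (hv1 : v ≠ 1) : ∃ i : ℕ, t ^ i * u * (t ^ i)⁻¹ = v := by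
  obtain ⟨hsq, hcomm, hmul⟩ := klein_facts P hP
  have hσ3 : ∀ x : G, t * (t * (t * x * t⁻¹) * t⁻¹) * t⁻¹ = t ^ 3 * x * (t ^ 3)⁻¹ := by
    intro x
    have h3 : t ^ 3 = t * t * t := by rw [pow_succ, pow_succ, pow_one]
    rw [h3]; group
  have hσinj : ∀ x y : G, t * x * t⁻¹ = t * y * t⁻¹ → x = y := by
    intro x y h
    have := congrArg (fun z => t⁻¹ * z * t) h
    have e1 : t⁻¹ * (t * x * t⁻¹) * t = x := by group
    have e2 : t⁻¹ * (t * y * t⁻¹) * t = y := by group
    rw [e1, e2] at this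
    exact this
  have hσ1 : ∀ x : G, x ≠ 1 → t * x * t⁻¹ ≠ 1 := by
    intro x hx h
    apply hx
    apply hσinj
    rw [h]; group
  have hσmul : ∀ x y : G, t * (x * y) * t⁻¹ = (t * x * t⁻¹) * (t * y * t⁻¹) := by
    intro x y; group
  -- no fixed points
  have hA : ∀ w ∈ P, w ≠ 1 → t * w * t⁻¹ ≠ w := by
    intro w hw hw1 hfix
    obtain ⟨x, hx, hxne⟩ := htC
    have hx1 : x ≠ 1 := by
      rintro rfl
      apply hxne; group
    have hxw : x ≠ w := by
      rintro rfl
      exact hxne hfix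
    have hy : t * x * t⁻¹ ∈ P := htN x hx
    have hy1 : t * x * t⁻¹ ≠ 1 := hσ1 x hx1
    have hyw : t * x * t⁻¹ ≠ w := by
      intro h
      apply hxw
      apply hσinj
      rw [h, hfix]
    have hyeq : t * x * t⁻¹ = w * x :=
      hmul w hw x hx _ hy hw1 hx1 hxw.symm hy1 hyw hxne
    have h2 : t * (t * x * t⁻¹) * t⁻¹ = x := by
      rw [hyeq, hσmul, hfix, hyeq, ← mul_assoc, hsq w hw, one_mul]
    have h3 := hσ3 x
    rw [h2, ht3 x hx] at h3
    exact hxne h3
  have ha : t * u * t⁻¹ ∈ P := htN u hu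
  have ha1 : t * u * t⁻¹ ≠ 1 := hσ1 u hu1
  have hau : t * u * t⁻¹ ≠ u := hA u hu hu1
  have hb : t * (t * u * t⁻¹) * t⁻¹ ∈ P := htN _ ha
  have hb1 : t * (t * u * t⁻¹) * t⁻¹ ≠ 1 := hσ1 _ ha1
  have hba : t * (t * u * t⁻¹) * t⁻¹ ≠ t * u * t⁻¹ := hA _ ha ha1
  have hbu : t * (t * u * t⁻¹) * t⁻¹ ≠ u := by
    intro h
    have h3 := hσ3 u
    rw [h, ht3 u hu] at h3
    exact hau h3
  by_cases h1 : v = u
  · exact ⟨0, by rw [h1]; group⟩
  by_cases h2 : v = t * u * t⁻¹
  · exact ⟨1, by rw [h2]; group⟩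
  refine ⟨2, ?_⟩
  have e1 := hmul u hu _ ha v hv hu1 ha1 hau.symm hv1 h1 h2
  have e2 := hmul u hu _ ha _ hb hu1 ha1 hau.symm hb1 hbu hba
  rw [e1, ← e2]
  have h3 : t ^ 2 = t * t := by rw [pow_succ, pow_one]
  rw [h3]; group

/-- the permutation action of a subgroup of `N_G(P)` on `P`, with kernel the centralizer -/
theorem exists_perm_hom (P T : Subgroup G) (hTN : T ≤ Subgroup.normalizer (P : Set G))
    (hPT : P ≤ T) :
    ∃ φ : T →* Equiv.Perm P, φ.ker = (Subgroup.centralizer (P : Set G)).subgroupOf T := by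
  refine ⟨(MulAut.toPerm P).comp (stabAut P T hTN), ?_⟩
  ext t
  rw [MonoidHom.mem_ker, Subgroup.mem_subgroupOf,
    ← mem_centralizer_subgroupOf_iff T P hPT t, ← stabAut_ker P T hTN hPT, MonoidHom.mem_ker,
    MonoidHom.comp_apply]
  constructor
  · intro h
    ext x
    have h1 := congrArg (fun σ : Equiv.Perm P => σ x) h
    exact congrArg Subtype.val h1
  · intro h
    rw [h, map_one]

/-- **the inertial index is odd and divides `24`**, hence is `1` or `3` -/
theorem inertial_index_cases [Finite G] (hM : Cfsg.IsPModular 2 M)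
    (B : Set (Cfsg.IrrCharacter G)) (P : Subgroup G)
    (hPD : Cfsg.IsDefectGroup 2 M B P) (hV : IsKleinFour P)
    (c : Set (Cfsg.IrrCharacter (Subgroup.centralizer (P : Set G))))
    (hc : Cfsg.IsInducedBlock M (Subgroup.centralizer (P : Set G)) c B) (T : Subgroup G)
    (hT : ∀ g : G, g ∈ T ↔ (g ∈ Subgroup.normalizer (P : Set G) ∧
      Cfsg.StabilizesBlock (Subgroup.centralizer (P : Set G)) c g)) :
    (Subgroup.centralizer (P : Set G)).relIndex T = 1 ∨
      (Subgroup.centralizer (P : Set G)).relIndex T = 3 := by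
  classical
  haveI := Fintype.ofFinite G
  haveI hp2 : Fact (Nat.Prime 2) := ⟨Nat.prime_two⟩
  obtain ⟨hsq, hcomm, -⟩ := klein_facts P hV
  have hP2 : IsPGroup 2 P := IsPGroup.of_card (n := 2) (by rw [hV.card_four]; norm_num)
  have hPL : P ≤ Subgroup.centralizer (P : Set G) := fun u hu =>
    Subgroup.mem_centralizer_iff.mpr (fun q hq => hcomm q hq u hu)
  have hLN : Subgroup.centralizer (P : Set G) ≤ Subgroup.normalizer (P : Set G) :=
    Subgroup.centralizer_le_normalizer _
  have hDc := isDefectGroup_of_induced_local hM P (Subgroup.centralizer (P : Set G)) hP2 hPL hLN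
    B hPD c hc
  have hodd := (defect_iff_stabilizer_index hM P (Subgroup.centralizer (P : Set G)) hP2 hPL
    le_rfl hLN (normalizer_le_normalizer_centralizer P) c hDc B hc T hT).mp hPD
  have hTN : T ≤ Subgroup.normalizer (P : Set G) := fun g hg => ((hT g).mp hg).1
  have hLT : Subgroup.centralizer (P : Set G) ≤ T := by
    intro g hg
    rw [hT]
    exact ⟨hLN hg, stabilizesBlock_of_mem_centralizer P c g hg⟩
  have hPT : P ≤ T := hPL.trans hLT
  obtain ⟨φ, hker⟩ := exists_perm_hom P T hTN hPT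
  have hidx : (Subgroup.centralizer (P : Set G)).relIndex T = Nat.card φ.range := by
    rw [Subgroup.relIndex, ← hker, Subgroup.index_ker]
  have hdvd : Nat.card φ.range ∣ 24 := by
    have h1 := Subgroup.card_subgroup_dvd_card φ.range
    have h2 : Nat.card (Equiv.Perm P) = 24 := by
      haveI : Fintype P := Fintype.ofFinite P
      rw [Nat.card_eq_fintype_card, Fintype.card_perm, ← Nat.card_eq_fintype_card,
        hV.card_four]
      rfl
    rwa [h2] at h1
  rw [hidx] at hodd ⊢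
  have hle : Nat.card φ.range ≤ 24 := Nat.le_of_dvd (by norm_num) hdvd
  interval_cases h : Nat.card φ.range <;> omega

/-- **inertial index three**: the stabilizer of the root permutes the involutions of `P`
transitively -/
theorem inertial_transitive [Finite G] (P : Subgroup G) (hV : IsKleinFour P) (T : Subgroup G)
    (hTN : T ≤ Subgroup.normalizer (P : Set G)) (hLT : Subgroup.centralizer (P : Set G) ≤ T)
    (he : (Subgroup.centralizer (P : Set G)).relIndex T = 3) (u v : G) (hu : u ∈ P)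
    (hu1 : u ≠ 1) (hv : v ∈ P) (hv1 : v ≠ 1) : ∃ t ∈ T, t * u * t⁻¹ = v := by
  classical
  obtain ⟨hsq, hcomm, -⟩ := klein_facts P hV
  have hPL : P ≤ Subgroup.centralizer (P : Set G) := fun u hu =>
    Subgroup.mem_centralizer_iff.mpr (fun q hq => hcomm q hq u hu)
  have hPT : P ≤ T := hPL.trans hLT
  obtain ⟨φ, hker⟩ := exists_perm_hom P T hTN hPT
  have hidx : Nat.card φ.range = 3 := by
    rw [← he, Subgroup.relIndex, ← hker, Subgroup.index_ker]
  -- an element outside the kernel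
  have hne : φ.range ≠ ⊥ := by
    intro h0
    rw [h0, Subgroup.card_bot] at hidx
    norm_num at hidx
  obtain ⟨σ, hσ1⟩ := (Subgroup.ne_bot_iff_exists_ne_one).mp hne
  obtain ⟨σ, t, rfl⟩ := σ
  have ht1 : φ t ≠ 1 := by
    intro h
    apply hσ1
    exact Subtype.ext h
  have htnot : (t : G) ∉ Subgroup.centralizer (P : Set G) := by
    intro h
    apply ht1
    have : t ∈ φ.ker := by rw [hker]; exact Subgroup.mem_subgroupOf.mpr h
    exact MonoidHom.mem_ker.mp this
  have ht3 : ((t : G)) ^ 3 ∈ Subgroup.centralizer (P : Set G) := by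
    have h1 : (⟨φ t, t, rfl⟩ : φ.range) ^ 3 = 1 := by
      rw [← hidx]; exact pow_card_eq_one'
    have h2 : φ (t ^ 3) = 1 := by
      rw [map_pow]
      exact congrArg Subtype.val h1
    have h3 : t ^ 3 ∈ φ.ker := MonoidHom.mem_ker.mpr h2
    rw [hker, Subgroup.mem_subgroupOf] at h3
    exact h3
  have htN : ∀ x ∈ P, (t : G) * x * (t : G)⁻¹ ∈ P := by
    intro x hx
    exact (Subgroup.mem_normalizer_iff.mp (hTN t.2) x).mp hx
  have ht3' : ∀ x ∈ P, (t : G) ^ 3 * x * ((t : G) ^ 3)⁻¹ = x := by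
    intro x hx
    have := Subgroup.mem_centralizer_iff.mp ht3 x hx
    rw [← this, mul_inv_cancel_right]
  have htC : ∃ x ∈ P, (t : G) * x * (t : G)⁻¹ ≠ x := by
    by_contra hcon
    push Not at hcon
    apply htnot
    rw [Subgroup.mem_centralizer_iff]
    intro x hx
    have := hcon x hx
    calc x * (t : G) = (t : G) * x * (t : G)⁻¹ * (t : G) := by rw [this]
      _ = (t : G) * x := by group
  obtain ⟨i, hi⟩ := klein_transitive_of_order_three P hV (t : G) htN ht3' htC u v hu hu1 hv hv1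
  exact ⟨(t : G) ^ i, Subgroup.pow_mem T t.2 i, hi⟩

end Cfsg.Agent.Helper6.K4
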