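import Mathlib
import Cfsg.Prelude.Def_Characters
import Cfsg.Prelude.Def_Blocks
import Cfsg.Prelude.Def_BlockRank
import Cfsg.Agent.Helper6.K4B
import Cfsg.Agent.Helper6.K4E
import Cfsg.Agent.Helper6.CentralChar
import Cfsg.Agent.Helper6.BrCorrD

/-!
# Transport of ranks along isomorphisms; blocks of the top subgroup
-/

set_option autoImplicit false
set_option linter.style.haveILetI false

namespace Cfsg.Agent.Helper6.K4

open Cfsg.Agent.Helper6

open scoped ComplexConjugate

universe u

variable {G : Type u} [Group G] {M : Ideal Cfsg.AlgInt}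

/-- the rank is invariant under transport along an isomorphism -/
theorem blockRank_image_irrComp {K K' : Type u} [Group K] [Group K'] (p : ℕ) (φ : K ≃* K')
    (f : Set (Cfsg.IrrCharacter K')) :
    Cfsg.blockRank p (irrComp φ '' f) = Cfsg.blockRank p f := by
  classical
  unfold Cfsg.blockRank
  set L : (K' → ℂ) ≃ₗ[ℂ] (K → ℂ) := LinearEquiv.funCongrLeft ℂ ℂ φ.toEquiv with hL
  have hLapp : ∀ θ : K' → ℂ, L (Cfsg.pRegularPart p θ) = Cfsg.pRegularPart p (fun k => θ (φ k)) := by
    intro θ
    funext k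
    rw [hL, LinearEquiv.funCongrLeft_apply]
    show Cfsg.pRegularPart p θ (φ k) = _
    rw [pRegularPart_apply, pRegularPart_apply]
    have : orderOf (φ k) = orderOf k := MulEquiv.orderOf_eq φ k
    rw [this]
  have hmap : Submodule.span ℂ ((fun χ : Cfsg.IrrCharacter K =>
      Cfsg.pRegularPart p (χ : K → ℂ)) '' (irrComp φ '' f)) =
      (Submodule.span ℂ ((fun χ : Cfsg.IrrCharacter K' =>
      Cfsg.pRegularPart p (χ : K' → ℂ)) '' f)).map (L : (K' → ℂ) →ₗ[ℂ] (K → ℂ)) := by
    rw [Submodule.map_span, ← Set.image_comp, ← Set.image_comp]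
    congr 1
    apply Set.image_congr
    intro θ _
    simp only [Function.comp_apply]
    exact (hLapp _).symm
  rw [hmap]
  exact LinearEquiv.finrank_map_eq L _

theorem isPBlock_nonempty' {K : Type u} [Group K] (hM : M.IsMaximal)
    (b : Set (Cfsg.IrrCharacter K)) (hb : Cfsg.IsPBlock M b) : ∃ ψ, ψ ∈ b := by
  obtain ⟨ψ, rfl⟩ := hb
  exact ⟨ψ, mem_blockOf_self hM ψ⟩

/-- the blocks of the whole group, viewed as a subgroup, inducing `B` -/
theorem induced_top_eq (hM : M.IsMaximal) [Finite G] (K : Subgroup G) (hK : K = ⊤)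
    (β : Set (Cfsg.IrrCharacter K)) (B : Set (Cfsg.IrrCharacter G))
    (h : Cfsg.IsInducedBlock M K β B) :
    β = irrComp ((MulEquiv.subgroupCongr hK).trans Subgroup.topEquiv) '' B := by
  classical
  haveI := Fintype.ofFinite G
  subst hK
  set φ : (⊤ : Subgroup G) ≃* G := (MulEquiv.subgroupCongr rfl).trans Subgroup.topEquiv with hφ
  have hφapp : ∀ k : (⊤ : Subgroup G), φ k = (k : G) := fun k => rfl
  have key : ∀ ξ ∈ β, irrComp φ.symm ξ ∈ B := by
    intro ξ hξ
    obtain ⟨χ, hχB⟩ := isPBlock_nonempty' hM B h.2.1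
    have hBeq := eq_blockOf_of_mem hM B h.2.1 χ hχB
    rw [hBeq]
    apply sameBlock_symm
    intro g
    have h1 := h.2.2 ξ hξ χ hχB g
    have h2 : Cfsg.inducedCentralChar (⊤ : Subgroup G) (ξ : (⊤ : Subgroup G) → ℂ) g =
        Cfsg.centralChar (irrComp φ.symm ξ : G → ℂ) g := by
      unfold Cfsg.inducedCentralChar Cfsg.centralChar
      have hcf := IsCharacter.isClassFunction
        (IsIrrCharacter.isCharacter (irrComp φ.symm ξ).2)
      have hval : ∀ k : (⊤ : Subgroup G), (ξ : (⊤ : Subgroup G) → ℂ) k =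
          (irrComp φ.symm ξ : G → ℂ) (k : G) := by
        intro k
        rw [irrComp_apply]
        congr 1
      rw [finsum_mem_eq_of_bijOn (s := {h : (⊤ : Subgroup G) | IsConj g (h : G)})
        (t := ((classFinset g : Finset G) : Set G))
        (g := fun x : G => (irrComp φ.symm ξ : G → ℂ) x / (irrComp φ.symm ξ : G → ℂ) 1)
        (fun h : (⊤ : Subgroup G) => (h : G))]
      · rw [finsum_mem_coe_finset]
        have hconst : ∀ x ∈ classFinset g,
            (irrComp φ.symm ξ : G → ℂ) x / (irrComp φ.symm ξ : G → ℂ) 1 =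
            (irrComp φ.symm ξ : G → ℂ) g / (irrComp φ.symm ξ : G → ℂ) 1 := by
          intro x hx
          rw [mem_classFinset] at hx
          obtain ⟨t, ht⟩ := isConj_iff.mp hx
          rw [← ht, hcf]
        rw [Finset.sum_congr rfl hconst, Finset.sum_const, card_classFinset, nsmul_eq_mul]
        ring
      · refine ⟨?_, ?_, ?_⟩
        · intro k hk
          rw [Finset.mem_coe, mem_classFinset]
          exact hk
        · intro a _ b _ hab
          exact Subtype.ext hab
        · intro x hx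
          rw [Finset.mem_coe, mem_classFinset] at hx
          exact ⟨⟨x, Subgroup.mem_top x⟩, hx, rfl⟩
      · intro k _
        rw [hval k, hval 1]
        rfl
    rw [h2] at h1
    exact h1
  obtain ⟨ξ₀, hξ₀⟩ := isPBlock_nonempty' hM β h.1
  have h3 : irrComp φ (irrComp φ.symm ξ₀) = ξ₀ := irrComp_symm_cancel φ ξ₀
  have hblk : Cfsg.IsPBlock M (irrComp φ '' B) := isPBlock_image_irrComp φ B h.2.1
  have hmem : ξ₀ ∈ irrComp φ '' B := ⟨_, key ξ₀ hξ₀, h3⟩
  rw [eq_blockOf_of_mem hM β h.1 ξ₀ hξ₀, eq_blockOf_of_mem hM _ hblk ξ₀ hmem]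

end Cfsg.Agent.Helper6.K4
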