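import Mathlib
import Cfsg.Prelude.Def_Characters
import Cfsg.Prelude.Def_Blocks
import Cfsg.Prelude.Def_BlockRank
import Cfsg.Prelude.Def_BrauerPairs
import Cfsg.Agent.Helper6.K4F
import Cfsg.Agent.Helper6.K4G
import Cfsg.Agent.Helper6.FreeActionNilpotent
import Cfsg.Agent.Helper6.SectionOrthD
import Cfsg.Agent.Helper6.MaximalPairNormalizer
import Cfsg.Agent.Helper6.BlockFusionDef
import Cfsg.Agent.Helper6.StabPairs
import Cfsg.Agent.Helper6.AbelianInertial1
import Cfsg.Agent.Helper6.PairConj2
import Cfsg.Agent.Helper6.BlockFusionRec1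
import Cfsg.Agent.Helper6.DefectOrder

/-!
# Subsections of a block with a Klein four defect group as Brauer pairs: fusion
-/

set_option autoImplicit false
set_option linter.style.haveILetI false

namespace Cfsg.Agent.Helper6.K4

open Cfsg.Agent.Helper6

open scoped ComplexConjugate

universe u

variable {G : Type u} [Group G] {M : Ideal Cfsg.AlgInt}

/-- transport of a set of characters along an equality of subgroups -/
def castBlock {H K : Subgroup G} (h : H = K) (β : Set (Cfsg.IrrCharacter H)) :
    Set (Cfsg.IrrCharacter K) := h ▸ β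

theorem castBlock_rfl {H : Subgroup G} (β : Set (Cfsg.IrrCharacter H)) :
    castBlock rfl β = β := rfl

theorem castBlock_castBlock {H K : Subgroup G} (h : H = K) (h' : K = H)
    (β : Set (Cfsg.IrrCharacter H)) : castBlock h' (castBlock h β) = β := by
  subst h
  rfl

theorem castBlock_injective {H K : Subgroup G} (h : H = K) :
    Function.Injective (castBlock (G := G) h) := by
  subst h
  intro a b hab
  exact hab

theorem isInducedBlock_castBlock {H K : Subgroup G} (h : H = K)
    (β : Set (Cfsg.IrrCharacter H)) (B : Set (Cfsg.IrrCharacter G)) :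
    Cfsg.IsInducedBlock M K (castBlock h β) B ↔ Cfsg.IsInducedBlock M H β B := by
  subst h
  rfl

theorem blockDefect_castBlock {H K : Subgroup G} (h : H = K) (p : ℕ)
    (β : Set (Cfsg.IrrCharacter H)) :
    Cfsg.blockDefect p (castBlock h β) = Cfsg.blockDefect p β := by
  subst h
  rfl

theorem blockRank_castBlock {H K : Subgroup G} (h : H = K) (p : ℕ)
    (β : Set (Cfsg.IrrCharacter H)) :
    Cfsg.blockRank p (castBlock h β) = Cfsg.blockRank p β := by
  subst h
  rfl

/-- equality of pairs obtained by transport -/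
theorem pair_castBlock_eq (Q Q' K : Subgroup G) (hq : Q' = Q)
    (h1 : Subgroup.centralizer (Q : Set G) = K) (h2 : Subgroup.centralizer (Q' : Set G) = K)
    (f : Set (Cfsg.IrrCharacter (Subgroup.centralizer (Q : Set G)))) :
    (⟨Q', castBlock h2.symm (castBlock h1 f)⟩ : Cfsg.BrauerPairIdx G) = ⟨Q, f⟩ := by
  subst hq
  subst h1
  rfl

/-- the centralizer of the cyclic group generated by `x` -/
theorem centralizer_zpowers_eq' (x : G) :
    Subgroup.centralizer (Subgroup.zpowers x : Set G) = Subgroup.centralizer ({x} : Set G) := by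
  rw [Subgroup.zpowers_eq_closure, Subgroup.centralizer_closure]

/-- the pair attached to a block of the centralizer of an element -/
def pairOf (x : G) (β : Set (Cfsg.IrrCharacter (Subgroup.centralizer ({x} : Set G)))) :
    Cfsg.BrauerPairIdx G :=
  ⟨Subgroup.zpowers x, castBlock (centralizer_zpowers_eq' x).symm β⟩

theorem pairOf_injective (x : G) : Function.Injective (pairOf x) := by
  intro β β' h
  have h1 := eq_of_heq (Sigma.mk.inj h).2
  exact castBlock_injective _ h1

theorem zpowers_le_centralizer_zpowers (x : G) :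
    Subgroup.zpowers x ≤ Subgroup.centralizer (Subgroup.zpowers x : Set G) := by
  intro a ha
  rw [centralizer_zpowers_eq', Subgroup.mem_centralizer_singleton_iff]
  obtain ⟨i, rfl⟩ := Subgroup.mem_zpowers_iff.mp ha
  exact ((Commute.refl x).zpow_left i).eq

theorem isPGroup_zpowers {p : ℕ} (x : G) (hx : ∃ k : ℕ, orderOf x = p ^ k) :
    IsPGroup p (Subgroup.zpowers x) := by
  obtain ⟨k, hk⟩ := hx
  apply IsPGroup.of_card (n := k)
  rw [Nat.card_zpowers, hk]

/-- the pair of a subsection is a Brauer pair of the block -/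
theorem isBrauerPairOf_pairOf [Fintype G] {p : ℕ} [hp : Fact p.Prime]
    (hM : Cfsg.IsPModular p M) (B : Set (Cfsg.IrrCharacter G)) (x : G)
    (hx : ∃ k : ℕ, orderOf x = p ^ k)
    (β : Set (Cfsg.IrrCharacter (Subgroup.centralizer ({x} : Set G))))
    (hβ : Cfsg.IsInducedBlock M (Subgroup.centralizer ({x} : Set G)) β B) :
    Cfsg.IsBrauerPairOf p M B (pairOf x β).1 (pairOf x β).2 := by
  apply isBrauerPairOf_of_isInducedBlock hM B (Subgroup.zpowers x) (isPGroup_zpowers x hx)
  exact (isInducedBlock_castBlock _ β B).mpr hβ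

/-- a Brauer pair of the block on a cyclic group gives a subsection -/
theorem isInducedBlock_of_pair [Fintype G] {p : ℕ} [hp : Fact p.Prime]
    (hM : Cfsg.IsPModular p M) (B : Set (Cfsg.IrrCharacter G)) (Q : Subgroup G)
    (hQab : Q ≤ Subgroup.centralizer (Q : Set G))
    (f : Set (Cfsg.IrrCharacter (Subgroup.centralizer (Q : Set G))))
    (hf : Cfsg.IsBrauerPairOf p M B Q f) (x : G)
    (h : Subgroup.centralizer (Q : Set G) = Subgroup.centralizer ({x} : Set G)) :
    Cfsg.IsInducedBlock M (Subgroup.centralizer ({x} : Set G)) (castBlock h f) B :=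
  (isInducedBlock_castBlock h f B).mpr (isInducedBlock_of_isBrauerPairOf hM B Q hQab f hf)

theorem map_conj_zpowers (g x : G) :
    (Subgroup.zpowers x).map (MulAut.conj g).toMonoidHom = Subgroup.zpowers (g * x * g⁻¹) := by
  rw [MonoidHom.map_zpowers]
  rfl

/-- the maximal Brauer pair given by a root of a block with abelian defect group -/
theorem isMaximalBrauerPair_of_root [Fintype G] {p : ℕ} [hp : Fact p.Prime]
    (hM : Cfsg.IsPModular p M) (B : Set (Cfsg.IrrCharacter G)) (P : Subgroup G)
    (hPD : Cfsg.IsDefectGroup p M B P)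
    (c : Set (Cfsg.IrrCharacter (Subgroup.centralizer (P : Set G))))
    (hc : Cfsg.IsInducedBlock M (Subgroup.centralizer (P : Set G)) c B) :
    Cfsg.IsMaximalBrauerPair p M B P c := by
  have hP : IsPGroup p P := IsDefectGroup.isPGroup hM B hc.2.1 P hPD
  have h1 := isBrauerPairOf_of_isInducedBlock hM B P hP c hc
  exact isMaximalBrauerPair_of_card_eq hM B P c h1
    (card_defectGroup hM.2.1 p hM.2.2 B hc.2.1 P hPD)

/-- in a group of exponent two, the non-identity elements of `⟨v⟩` -/
theorem eq_of_mem_zpowers_of_sq {u v : G} (hv : v * v = 1) (hu : u ∈ Subgroup.zpowers v)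
    (hu1 : u ≠ 1) : u = v := by
  obtain ⟨i, rfl⟩ := Subgroup.mem_zpowers_iff.mp hu
  rcases Int.even_or_odd i with ⟨k, rfl⟩ | ⟨k, rfl⟩
  · exfalso
    apply hu1
    rw [← two_mul, zpow_mul, zpow_two, hv, one_zpow]
  · rw [zpow_add, zpow_one, zpow_mul, zpow_two, hv, one_zpow, one_mul]

/-- **subsections of a Klein four block**: the element of a non-trivial subsection is an
involution and its block has defect two -/
theorem subsection_defect [Fintype G] (hM : Cfsg.IsPModular 2 M)
    (B : Set (Cfsg.IrrCharacter G)) (P : Subgroup G)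
    (c : Set (Cfsg.IrrCharacter (Subgroup.centralizer (P : Set G))))
    (hmax : Cfsg.IsMaximalBrauerPair 2 M B P c) (hV : IsKleinFour P) (x : G)
    (hx : ∃ k : ℕ, orderOf x = 2 ^ k) (hx1 : x ≠ 1)
    (β : Set (Cfsg.IrrCharacter (Subgroup.centralizer ({x} : Set G))))
    (hβ : Cfsg.IsInducedBlock M (Subgroup.centralizer ({x} : Set G)) β B) :
    orderOf x = 2 ∧ Cfsg.blockDefect 2 β = 2 := by
  classical
  haveI hp2 : Fact (Nat.Prime 2) := ⟨Nat.prime_two⟩
  obtain ⟨hsq, hcomm, -⟩ := klein_facts P hV
  have ha := isBrauerPairOf_pairOf hM B x hx β hβ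
  obtain ⟨g, hg⟩ := exists_conj_subpairLE hM B P (Subgroup.zpowers x) c
    (castBlock (centralizer_zpowers_eq' x).symm β) hmax ha
  have hQP := SubpairLE.le hg
  have hgx : g * x * g⁻¹ ∈ P := hQP ⟨x, Subgroup.mem_zpowers x, rfl⟩
  have hx2 : x ^ 2 = 1 := by
    have h1 := hsq _ hgx
    have h2 : g * x * g⁻¹ * (g * x * g⁻¹) = g * (x * x) * g⁻¹ := by group
    rw [h2] at h1
    have h3 : x * x = 1 := by
      have := congrArg (fun y => g⁻¹ * y * g) h1
      have e1 : g⁻¹ * (g * (x * x) * g⁻¹) * g = x * x := by group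
      have e2 : g⁻¹ * 1 * g = 1 := by group
      rw [← e1, ← e2]
      exact this
    rw [sq]; exact h3
  refine ⟨orderOf_eq_prime hx2 hx1, ?_⟩
  have hPH : P ≤ Subgroup.centralizer
      (((Subgroup.zpowers x).map (MulAut.conj g).toMonoidHom : Subgroup G) : Set G) :=
    fun u hu => Subgroup.mem_centralizer_iff.mpr (fun q hq => hcomm q (hQP hq) u hu)
  have hf : Cfsg.IsPBlock M (Cfsg.conjBlock (Subgroup.zpowers x) g
      (castBlock (centralizer_zpowers_eq' x).symm β)) :=
    isPBlock_conjBlock _ _ _ ha.1.2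
  have hcard := card_eq_of_le_centralizer hM B P _ c _ hmax hQP hf hg hPH
  rw [conjBlock_eq_image, blockDefect_image_irrComp, blockDefect_castBlock, hV.card_four] at hcard
  have h4 : (2 : ℕ) ^ Cfsg.blockDefect 2 β = 2 ^ 2 := by rw [← hcard]; norm_num
  exact Nat.pow_right_injective (le_refl 2) h4

/-- **subsections of a Klein four block have rank one** -/
theorem subsection_rank_one [Fintype G] (hM : Cfsg.IsPModular 2 M)
    (B : Set (Cfsg.IrrCharacter G)) (P : Subgroup G)
    (c : Set (Cfsg.IrrCharacter (Subgroup.centralizer (P : Set G))))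
    (hmax : Cfsg.IsMaximalBrauerPair 2 M B P c) (hV : IsKleinFour P) (x : G)
    (hx : ∃ k : ℕ, orderOf x = 2 ^ k) (hx1 : x ≠ 1)
    (β : Set (Cfsg.IrrCharacter (Subgroup.centralizer ({x} : Set G))))
    (hβ : Cfsg.IsInducedBlock M (Subgroup.centralizer ({x} : Set G)) β B) :
    Cfsg.blockRank 2 β = 1 := by
  obtain ⟨ho, hd⟩ := subsection_defect hM B P c hmax hV x hx hx1 β hβ
  have hxH : x ∈ Subgroup.centralizer ({x} : Set G) := by
    rw [Subgroup.mem_centralizer_singleton_iff]
  have hzc : (⟨x, hxH⟩ : Subgroup.centralizer ({x} : Set G)) ∈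
      Subgroup.center (Subgroup.centralizer ({x} : Set G)) := by
    rw [Subgroup.mem_center_iff]
    intro t
    apply Subtype.ext
    simp only [Subgroup.coe_mul]
    exact (Subgroup.mem_centralizer_iff.mp t.2 x (Set.mem_singleton x)).symm
  exact blockRank_eq_one_of_central_involution hM β hβ.1 hd ⟨x, hxH⟩ hzc
    (by rw [Subgroup.orderOf_mk]; exact ho)

end Cfsg.Agent.Helper6.K4
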