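import Mathlib
import Cfsg.Prelude.Def_Characters
import Cfsg.Prelude.Def_Blocks
import Cfsg.Prelude.Def_BlockRank
import Cfsg.Prelude.Def_BrauerPairs
import Cfsg.Agent.Helper6.K4H

/-!
# Fusion of the subsections of a block with a Klein four defect group
-/

set_option autoImplicit false
set_option linter.style.haveILetI false

namespace Cfsg.Agent.Helper6.K4

open Cfsg.Agent.Helper6

open scoped ComplexConjugate

universe u

variable {G : Type u} [Group G] {M : Ideal Cfsg.AlgInt}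

/-- **inertial index three**: any two Brauer pairs of the block on groups of order two are
conjugate -/
theorem exists_conj_pair_of_transitive [Fintype G] {p : ℕ} [hp : Fact p.Prime]
    (hM : Cfsg.IsPModular p M)
    (B : Set (Cfsg.IrrCharacter G)) (P : Subgroup G)
    (c : Set (Cfsg.IrrCharacter (Subgroup.centralizer (P : Set G))))
    (hmax : Cfsg.IsMaximalBrauerPair p M B P c) (T : Subgroup G)
    (hT : ∀ g : G, g ∈ T ↔ (g ∈ Subgroup.normalizer (P : Set G) ∧
      Cfsg.StabilizesBlock (Subgroup.centralizer (P : Set G)) c g))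
    (htrans : ∀ u ∈ P, u ≠ 1 → ∀ v ∈ P, v ≠ 1 → ∃ t ∈ T, t * u * t⁻¹ = v)
    (x x' : G) (hx1 : x ≠ 1) (hx'1 : x' ≠ 1)
    (f : Set (Cfsg.IrrCharacter (Subgroup.centralizer (Subgroup.zpowers x : Set G))))
    (f' : Set (Cfsg.IrrCharacter (Subgroup.centralizer (Subgroup.zpowers x' : Set G))))
    (ha : Cfsg.IsBrauerPairOf p M B (Subgroup.zpowers x) f)
    (ha' : Cfsg.IsBrauerPairOf p M B (Subgroup.zpowers x') f') :
    ∃ h : G, conjPair h ⟨Subgroup.zpowers x, f⟩ =
      (⟨Subgroup.zpowers x', f'⟩ : Cfsg.BrauerPairIdx G) := by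
  have hPc : Cfsg.IsBrauerPair p M P c := hmax.1.1
  obtain ⟨g, hg⟩ := exists_conj_subpairLE hM B P (Subgroup.zpowers x) c f hmax ha
  obtain ⟨g', hg'⟩ := exists_conj_subpairLE hM B P (Subgroup.zpowers x') c f' hmax ha'
  have hu : g * x * g⁻¹ ∈ P := SubpairLE.le hg ⟨x, Subgroup.mem_zpowers x, rfl⟩
  have hu' : g' * x' * g'⁻¹ ∈ P := SubpairLE.le hg' ⟨x', Subgroup.mem_zpowers x', rfl⟩
  have hu1 : g * x * g⁻¹ ≠ 1 := by
    intro h
    apply hx1
    have := congrArg (fun y => g⁻¹ * y * g) h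
    have e1 : g⁻¹ * (g * x * g⁻¹) * g = x := by group
    have e2 : g⁻¹ * 1 * g = 1 := by group
    rw [← e1, ← e2]; exact this
  have hu'1 : g' * x' * g'⁻¹ ≠ 1 := by
    intro h
    apply hx'1
    have := congrArg (fun y => g'⁻¹ * y * g') h
    have e1 : g'⁻¹ * (g' * x' * g'⁻¹) * g' = x' := by group
    have e2 : g'⁻¹ * 1 * g' = 1 := by group
    rw [← e1, ← e2]; exact this
  obtain ⟨t, htT, htu⟩ := htrans _ hu hu1 _ hu' hu'1
  have hst := (hT t).mp htT
  have h1 := reflTransGen_conjPair (M := M) (p := p) t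
    (conjPair g ⟨Subgroup.zpowers x, f⟩) ⟨P, c⟩ hg
  rw [conjPair_eq_self_of_stabilizes hM.2.1 P c hPc.2 t hst.1 hst.2] at h1
  have h2 : Relation.ReflTransGen (Cfsg.NormalSubpairRel p M)
      (conjPair g' ⟨Subgroup.zpowers x', f'⟩) ⟨P, c⟩ := hg'
  have hfst : (conjPair t (conjPair g ⟨Subgroup.zpowers x, f⟩)).1 =
      (conjPair g' ⟨Subgroup.zpowers x', f'⟩).1 := by
    show ((Subgroup.zpowers x).map (MulAut.conj g).toMonoidHom).map
      (MulAut.conj t).toMonoidHom = (Subgroup.zpowers x').map (MulAut.conj g').toMonoidHom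
    rw [map_conj_zpowers, map_conj_zpowers, map_conj_zpowers, htu]
  have h3 := pair_eq_of_le_of_fst_eq hM ⟨P, c⟩ hPc _ _ h1 h2 hfst
  refine ⟨g'⁻¹ * (t * g), ?_⟩
  calc conjPair (g'⁻¹ * (t * g)) ⟨Subgroup.zpowers x, f⟩
      = conjPair g'⁻¹ (conjPair (t * g) ⟨Subgroup.zpowers x, f⟩) :=
        (conjPair_conjPair _ _ _).symm
    _ = conjPair g'⁻¹ (conjPair t (conjPair g ⟨Subgroup.zpowers x, f⟩)) := by
        rw [conjPair_conjPair t g]
    _ = conjPair g'⁻¹ (conjPair g' ⟨Subgroup.zpowers x', f'⟩) := by rw [h3]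
    _ = conjPair (g'⁻¹ * g') ⟨Subgroup.zpowers x', f'⟩ := conjPair_conjPair _ _ _
    _ = ⟨Subgroup.zpowers x', f'⟩ := by rw [inv_mul_cancel, conjPair_one]

/-- **inertial index one**: conjugate subpairs of the maximal pair on groups of order two
coincide -/
theorem eq_of_conj_pair_of_trivial [Fintype G] {p : ℕ} [hp : Fact p.Prime]
    (hM : Cfsg.IsPModular p M)
    (B : Set (Cfsg.IrrCharacter G)) (P : Subgroup G)
    (c : Set (Cfsg.IrrCharacter (Subgroup.centralizer (P : Set G))))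
    (hmax : Cfsg.IsMaximalBrauerPair p M B P c)
    (hab : ∀ x ∈ P, ∀ y ∈ P, x * y = y * x) (hsq : ∀ x ∈ P, x * x = 1)
    (hTC : ∀ g : G, g ∈ Subgroup.normalizer (P : Set G) →
      Cfsg.StabilizesBlock (Subgroup.centralizer (P : Set G)) c g →
      g ∈ Subgroup.centralizer (P : Set G))
    (u v : G) (hu : u ∈ P) (hu1 : u ≠ 1) (hv : v ∈ P)
    (fu : Set (Cfsg.IrrCharacter (Subgroup.centralizer (Subgroup.zpowers u : Set G))))
    (fv : Set (Cfsg.IrrCharacter (Subgroup.centralizer (Subgroup.zpowers v : Set G))))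
    (hfu : Cfsg.SubpairLE p M (Subgroup.zpowers u) fu P c)
    (hfv : Cfsg.SubpairLE p M (Subgroup.zpowers v) fv P c) (hfvB : Cfsg.IsPBlock M fv)
    (x : G)
    (hx : conjPair x ⟨Subgroup.zpowers u, fu⟩ =
      (⟨Subgroup.zpowers v, fv⟩ : Cfsg.BrauerPairIdx G)) : u = v := by
  have huP : Subgroup.zpowers u ≤ P := by rw [Subgroup.zpowers_le]; exact hu
  have hvP : Subgroup.zpowers v ≤ P := by rw [Subgroup.zpowers_le]; exact hv
  obtain ⟨y, hyN, hyst, c₀, hc₀, hy⟩ := exists_mul_of_conj_abelian hM B P c hmax hab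
    (Subgroup.zpowers v) fv hvP hfvB hfv (Subgroup.zpowers u) fu huP hfu x hx
  have hyC := hTC y hyN hyst
  have hyu : y * u * y⁻¹ = u := by
    have := Subgroup.mem_centralizer_iff.mp hyC u hu
    rw [← this, mul_inv_cancel_right]
  have hfst : (Subgroup.zpowers u).map (MulAut.conj x).toMonoidHom = Subgroup.zpowers v :=
    congrArg Sigma.fst hx
  rw [map_conj_zpowers] at hfst
  have hxu : x * u * x⁻¹ ∈ Subgroup.zpowers v := by
    rw [← hfst]; exact Subgroup.mem_zpowers _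
  have hcomm := Subgroup.mem_centralizer_iff.mp hc₀ _ hxu
  have h2 : y * u * y⁻¹ = x * u * x⁻¹ := by
    rw [hy]
    calc c₀ * x * u * (c₀ * x)⁻¹ = c₀ * (x * u * x⁻¹) * c₀⁻¹ := by group
      _ = x * u * x⁻¹ * c₀ * c₀⁻¹ := by rw [← hcomm]
      _ = x * u * x⁻¹ := by group
  rw [hyu] at h2
  rw [← h2] at hxu
  exact eq_of_mem_zpowers_of_sq (hsq v hv) hxu hu1

end Cfsg.Agent.Helper6.K4
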