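import Mathlib
import Cfsg.Prelude.Def_Characters
import Cfsg.Prelude.Def_Blocks
import Cfsg.Prelude.Def_BlockRank
import Cfsg.Prelude.Def_BrauerPairs
import Cfsg.Agent.Helper6.K4I
import Cfsg.Agent.Helper6.DefectOneTwoC
import Cfsg.Agent.Helper6.SubpairBlock

/-!
# Counting the subsections of a block with a Klein four defect group
-/

set_option autoImplicit false
set_option linter.style.haveILetI false

namespace Cfsg.Agent.Helper6.K4

open Cfsg.Agent.Helper6

open scoped ComplexConjugate

universe u

variable {G : Type u} [Group G] {M : Ideal Cfsg.AlgInt}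

/-- the set of blocks of `C_G(x)` inducing `B` -/
def subsecSet (M : Ideal Cfsg.AlgInt) (B : Set (Cfsg.IrrCharacter G)) (x : G) :
    Set (Set (Cfsg.IrrCharacter (Subgroup.centralizer ({x} : Set G)))) :=
  {β | Cfsg.IsInducedBlock M (Subgroup.centralizer ({x} : Set G)) β B}

/-- the trivial subsection contributes the rank of the block -/
theorem finsum_subsec_one [Finite G] {p : ℕ} [hp : Fact p.Prime] (hM : Cfsg.IsPModular p M)
    (B : Set (Cfsg.IrrCharacter G)) (hB : Cfsg.IsPBlock M B) :
    ∑ᶠ β ∈ subsecSet M B 1, Cfsg.blockRank p β = Cfsg.blockRank p B := by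
  classical
  have hK : Subgroup.centralizer ({(1 : G)} : Set G) = ⊤ := by
    rw [Subgroup.centralizer_eq_top_iff_subset]
    intro y hy
    rw [Set.mem_singleton_iff] at hy
    rw [hy]
    exact Subgroup.one_mem _
  obtain ⟨β₁, hβ₁⟩ := exists_inducing_block_one hM B hB
  have hset : subsecSet M B 1 =
      {irrComp ((MulEquiv.subgroupCongr hK).trans Subgroup.topEquiv) '' B} := by
    ext β
    rw [Set.mem_singleton_iff]
    constructor
    · intro h
      exact induced_top_eq hM.2.1 _ hK β B h
    · intro h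
      rw [h, ← induced_top_eq hM.2.1 _ hK β₁ B hβ₁]
      exact hβ₁
  rw [hset, finsum_mem_singleton, blockRank_image_irrComp]

/-- a non-trivial subsection contributes one -/
theorem finsum_subsec_eq_ncard [Fintype G] (hM : Cfsg.IsPModular 2 M)
    (B : Set (Cfsg.IrrCharacter G)) (P : Subgroup G)
    (c : Set (Cfsg.IrrCharacter (Subgroup.centralizer (P : Set G))))
    (hmax : Cfsg.IsMaximalBrauerPair 2 M B P c) (hV : IsKleinFour P) (x : G)
    (hx : ∃ k : ℕ, orderOf x = 2 ^ k) (hx1 : x ≠ 1) :
    ∑ᶠ β ∈ subsecSet M B x, Cfsg.blockRank 2 β = (subsecSet M B x).ncard := by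
  classical
  haveI : Finite (Cfsg.IrrCharacter (Subgroup.centralizer ({x} : Set G))) := irr_finite
  have hfin : (subsecSet M B x).Finite := Set.toFinite _
  rw [finsum_mem_eq_finite_toFinset_sum _ hfin, Set.ncard_eq_toFinset_card _ hfin]
  have h1 : ∀ β ∈ hfin.toFinset, Cfsg.blockRank 2 β = 1 := by
    intro β hβ
    rw [Set.Finite.mem_toFinset] at hβ
    exact subsection_rank_one hM B P c hmax hV x hx hx1 β hβ
  rw [Finset.sum_congr rfl h1, Finset.sum_const, smul_eq_mul, mul_one]

/-- a conjugate of a subpair `(⟨u⟩, f)` of the maximal pair gives a subsection at the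
conjugate element -/
theorem exists_subsection_of_mem [Fintype G] {p : ℕ} [hp : Fact p.Prime]
    (hM : Cfsg.IsPModular p M)
    (B : Set (Cfsg.IrrCharacter G)) (P : Subgroup G)
    (c : Set (Cfsg.IrrCharacter (Subgroup.centralizer (P : Set G))))
    (hmax : Cfsg.IsMaximalBrauerPair p M B P c) (u : G)
    (f : Set (Cfsg.IrrCharacter (Subgroup.centralizer (Subgroup.zpowers u : Set G))))
    (hle : Cfsg.SubpairLE p M (Subgroup.zpowers u) f P c) (x g : G)
    (hg : g * u * g⁻¹ = x) :
    ∃ β ∈ subsecSet M B x, pairOf x β = conjPair g ⟨Subgroup.zpowers u, f⟩ := by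
  have hBf : Cfsg.IsBrauerPairOf p M B (Subgroup.zpowers u) f :=
    isBrauerPairOf_of_subpairLE hM P _ c f hle B hmax.1
  have hconj := isBrauerPairOf_conj (M := M) (p := p) B (Subgroup.zpowers u) f g hBf
  have hq : Subgroup.zpowers x = (Subgroup.zpowers u).map (MulAut.conj g).toMonoidHom := by
    rw [map_conj_zpowers, hg]
  have h1 : Subgroup.centralizer
      (((Subgroup.zpowers u).map (MulAut.conj g).toMonoidHom : Subgroup G) : Set G) =
      Subgroup.centralizer ({x} : Set G) := by
    rw [← hq]; exact centralizer_zpowers_eq' x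
  have hQab : (Subgroup.zpowers u).map (MulAut.conj g).toMonoidHom ≤ Subgroup.centralizer
      (((Subgroup.zpowers u).map (MulAut.conj g).toMonoidHom : Subgroup G) : Set G) := by
    rw [← hq]; exact zpowers_le_centralizer_zpowers x
  refine ⟨castBlock h1 (Cfsg.conjBlock (Subgroup.zpowers u) g f),
    isInducedBlock_of_pair hM B _ hQab _ hconj x h1, ?_⟩
  exact pair_castBlock_eq _ (Subgroup.zpowers x) _ hq h1 (centralizer_zpowers_eq' x) _

/-- the index type of the non-trivial subsections over a set of representatives -/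
def SubsecIdx (M : Ideal Cfsg.AlgInt) (B : Set (Cfsg.IrrCharacter G)) (X : Finset G) : Type u :=
  Σ x : {x : G // x ≠ 1 ∧ x ∈ X}, ↥(subsecSet M B x.1)

instance [Finite G] (B : Set (Cfsg.IrrCharacter G)) (X : Finset G) :
    Finite (SubsecIdx M B X) := by
  unfold SubsecIdx
  haveI : ∀ x : G, Finite (Cfsg.IrrCharacter (Subgroup.centralizer ({x} : Set G))) :=
    fun x => irr_finite
  infer_instance

theorem card_subsecIdx [Finite G] [DecidableEq G] (B : Set (Cfsg.IrrCharacter G))
    (X : Finset G) :
    Nat.card (SubsecIdx M B X) = ∑ x ∈ X.erase 1, (subsecSet M B x).ncard := by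
  classical
  haveI : ∀ x : G, Finite (Cfsg.IrrCharacter (Subgroup.centralizer ({x} : Set G))) :=
    fun x => irr_finite
  haveI : Fintype {x : G // x ≠ 1 ∧ x ∈ X} := Fintype.ofFinite _
  unfold SubsecIdx
  rw [Nat.card_sigma]
  rw [Finset.sum_subtype (X.erase 1) (p := fun x => x ≠ 1 ∧ x ∈ X)
    (fun x => Finset.mem_erase) (fun x => (subsecSet M B x).ncard)]
  rfl

end Cfsg.Agent.Helper6.K4
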