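import Mathlib
import Cfsg.Prelude.Def_Solvable

/-!
# Groups with a Klein four Sylow 2-subgroup: centralizers of involutions have a normal
2-complement (towards S0948)
-/

set_option autoImplicit false
set_option linter.style.haveILetI false

namespace Cfsg.Agent.Helper6

universe u

variable {G : Type u} [Group G]

theorem isKleinFour_of_mulEquiv {A B : Type*} [Group A] [Group B] (e : A ≃* B)
    (hA : IsKleinFour A) : IsKleinFour B :=
  ⟨by rw [← Nat.card_congr e.toEquiv]; exact hA.card_four,
   by rw [← Monoid.exponent_eq_of_mulEquiv e]; exact hA.exponent_two⟩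

/-- a Klein four Sylow `2`-subgroup containing a central involution is central in its
normalizer -/
theorem klein_normalizer_le_centralizer [Finite G] (Q : Sylow 2 G)
    (hQ : IsKleinFour (Q : Subgroup G)) (z : G) (hzQ : z ∈ (Q : Subgroup G)) (hz1 : z ≠ 1)
    (hzc : ∀ g : G, g * z = z * g) :
    Subgroup.normalizer (Q : Set G) ≤ Subgroup.centralizer (Q : Set G) := by
  haveI := hQ
  intro g hg
  rw [Subgroup.mem_centralizer_iff]
  intro a ha
  replace ha : a ∈ (Q : Subgroup G) := ha
  have hcommQ : ∀ x ∈ (Q : Subgroup G), ∀ y ∈ (Q : Subgroup G), x * y = y * x := by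
    intro x hx y hy
    have h := (IsKleinFour.isMulCommutative (G := (Q : Subgroup G))).is_comm.comm ⟨x, hx⟩ ⟨y, hy⟩
    exact congrArg (fun t : (Q : Subgroup G) => (t : G)) h
  have hzz : z * z = 1 := by
    have h := IsKleinFour.mul_self (⟨z, hzQ⟩ : (Q : Subgroup G))
    exact congrArg (fun t : (Q : Subgroup G) => (t : G)) h
  have hnorm := Subgroup.mem_normalizer_iff.mp hg
  by_contra hne
  have hbQ : g * a * g⁻¹ ∈ (Q : Subgroup G) := (hnorm a).mp ha
  have ha1 : a ≠ 1 := by
    rintro rfl
    apply hne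
    rw [one_mul, mul_one]
  have haz : a ≠ z := by
    rintro rfl
    exact hne (hzc g).symm
  have hb1 : g * a * g⁻¹ ≠ 1 := by
    intro h
    apply ha1
    have := congrArg (fun t => g⁻¹ * t * g) h
    simpa [mul_assoc] using this
  have hbz : g * a * g⁻¹ ≠ z := by
    intro h
    apply haz
    have h2 : g * a = z * g := by
      have := congrArg (fun t => t * g) h
      simpa [mul_assoc] using this
    rw [← hzc g] at h2
    exact mul_left_cancel h2
  have hba : g * a * g⁻¹ ≠ a := by
    intro h
    apply hne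
    have := congrArg (fun t => t * g) h
    simp only [inv_mul_cancel_right] at this
    exact this.symm
  -- so `g a g⁻¹ = z a`
  have hbza : g * a * g⁻¹ = z * a := by
    have h := IsKleinFour.eq_mul_of_ne_all (G := (Q : Subgroup G))
      (x := ⟨z, hzQ⟩) (y := ⟨a, ha⟩) (z := ⟨g * a * g⁻¹, hbQ⟩)
      (fun h => hz1 (congrArg (fun t : (Q : Subgroup G) => (t : G)) h))
      (fun h => ha1 (congrArg (fun t : (Q : Subgroup G) => (t : G)) h))
      (fun h => haz (congrArg (fun t : (Q : Subgroup G) => (t : G)) h).symm)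
      (fun h => hb1 (congrArg (fun t : (Q : Subgroup G) => (t : G)) h))
      (fun h => hbz (congrArg (fun t : (Q : Subgroup G) => (t : G)) h))
      (fun h => hba (congrArg (fun t : (Q : Subgroup G) => (t : G)) h))
    exact congrArg (fun t : (Q : Subgroup G) => (t : G)) h
  have hpow : ∀ j : ℕ, g ^ j * a * (g ^ j)⁻¹ = z ^ j * a := by
    intro j
    induction j with
    | zero => simp
    | succ j ih =>
      have hgz : g * z ^ j = z ^ j * g := by
        have : Commute g z := hzc g
        exact (this.pow_right j).eq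
      calc g ^ (j + 1) * a * (g ^ (j + 1))⁻¹
          = g * (g ^ j * a * (g ^ j)⁻¹) * g⁻¹ := by
            rw [pow_succ']
            group
        _ = g * (z ^ j * a) * g⁻¹ := by rw [ih]
        _ = z ^ j * (g * a * g⁻¹) := by
            rw [← mul_assoc, hgz]
            group
        _ = z ^ (j + 1) * a := by
            rw [hbza, pow_succ, mul_assoc]
  -- the odd part of the order of `g`
  have hord : orderOf g ≠ 0 := (orderOf_pos g).ne'
  obtain ⟨k, m, hm, hkm⟩ := Nat.exists_eq_two_pow_mul_odd hord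
  have hgmQ : g ^ m ∈ (Q : Subgroup G) := by
    have hR : IsPGroup 2 (Subgroup.zpowers (g ^ m)) := by
      intro x
      refine ⟨k, ?_⟩
      obtain ⟨x, hx⟩ := x
      obtain ⟨i, rfl⟩ := Subgroup.mem_zpowers_iff.mp hx
      apply Subtype.ext
      simp only [Subgroup.coe_pow, Subgroup.coe_one]
      rw [← zpow_natCast, ← zpow_mul, mul_comm, zpow_mul, zpow_natCast, ← pow_mul, mul_comm,
        ← hkm, pow_orderOf_eq_one, one_zpow]
    have h1 := hR.inf_normalizer_sylow Q
    have h2 : g ^ m ∈ Subgroup.zpowers (g ^ m) ⊓ Subgroup.normalizer (Q : Set G) :=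
      ⟨Subgroup.mem_zpowers _, Subgroup.pow_mem _ hg m⟩
    rw [h1] at h2
    exact h2.2
  have h3 := hpow m
  have h4 : g ^ m * a * (g ^ m)⁻¹ = a := by
    rw [hcommQ _ hgmQ _ ha, mul_inv_cancel_right]
  rw [h4] at h3
  have h5 : z ^ m = 1 := by
    have := congrArg (fun t => t * a⁻¹) h3
    simp only [mul_inv_cancel, mul_inv_cancel_right] at this
    exact this.symm
  obtain ⟨j, hj⟩ := hm
  rw [hj, pow_succ, pow_mul, pow_two, hzz, one_pow, one_mul] at h5
  exact hz1 h5

/-- In a group with Klein four Sylow `2`-subgroups, every Sylow `2`-subgroup is Klein four. -/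
theorem isKleinFour_sylow [Finite G] (P Q : Sylow 2 G) (hP : IsKleinFour (P : Subgroup G)) :
    IsKleinFour (Q : Subgroup G) := by
  obtain ⟨g, hg⟩ := MulAction.exists_smul_eq G P Q
  rw [← hg]
  exact isKleinFour_of_mulEquiv (Sylow.equivSMul P g) hP

/-- the centralizer of an involution in a group with Klein four Sylow `2`-subgroups has a normal
`2`-complement, and contains a Sylow `2`-subgroup of the group -/
theorem exists_index_pPrimeCore_of_klein [Finite G] (P : Sylow 2 G)
    (hP : IsKleinFour (P : Subgroup G)) (z : G) (hz : orderOf z = 2) :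
    (∃ k : ℕ, (Cfsg.pPrimeCore 2 (Subgroup.centralizer ({z} : Set G))).index = 2 ^ k) ∧
      (Nat.card (Subgroup.centralizer ({z} : Set G))).factorization 2 = 2 := by
  haveI : Fact (Nat.Prime 2) := ⟨Nat.prime_two⟩
  have hz1 : z ≠ 1 := by
    rintro rfl
    rw [orderOf_one] at hz
    omega
  have hzp : IsPGroup 2 (Subgroup.zpowers z) := by
    apply IsPGroup.of_card (n := 1)
    rw [Nat.card_zpowers, hz, pow_one]
  obtain ⟨Q, hzQ⟩ := hzp.exists_le_sylow
  have hQ : IsKleinFour (Q : Subgroup G) := isKleinFour_sylow P Q hP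
  haveI := hQ
  have hzQ' : z ∈ (Q : Subgroup G) := hzQ (Subgroup.mem_zpowers z)
  have hcommQ : ∀ x ∈ (Q : Subgroup G), ∀ y ∈ (Q : Subgroup G), x * y = y * x := by
    intro x hx y hy
    have h := (IsKleinFour.isMulCommutative (G := (Q : Subgroup G))).is_comm.comm ⟨x, hx⟩ ⟨y, hy⟩
    exact congrArg (fun t : (Q : Subgroup G) => (t : G)) h
  have hQC : (Q : Subgroup G) ≤ Subgroup.centralizer ({z} : Set G) := by
    intro x hx
    rw [Subgroup.mem_centralizer_singleton_iff]
    exact hcommQ x hx z hzQ'
  obtain ⟨QC, hQCdef⟩ : ∃ QC : Sylow 2 (Subgroup.centralizer ({z} : Set G)),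
      QC = Q.subtype hQC := ⟨_, rfl⟩
  have hcoe : (QC : Subgroup (Subgroup.centralizer ({z} : Set G))) =
      (Q : Subgroup G).subgroupOf (Subgroup.centralizer ({z} : Set G)) := by
    rw [hQCdef, Sylow.coe_subtype]
  have hQCK : IsKleinFour (QC : Subgroup (Subgroup.centralizer ({z} : Set G))) := by
    rw [hcoe]
    exact isKleinFour_of_mulEquiv (Subgroup.subgroupOfEquivOfLe hQC).symm hQ
  have hzC : z ∈ Subgroup.centralizer ({z} : Set G) := by
    rw [Subgroup.mem_centralizer_singleton_iff]
  have hNC := klein_normalizer_le_centralizer QC hQCK ⟨z, hzC⟩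
    (by
      rw [hcoe, Subgroup.mem_subgroupOf]
      exact hzQ')
    (by
      intro h
      exact hz1 (congrArg (fun t : Subgroup.centralizer ({z} : Set G) => (t : G)) h))
    (by
      intro g
      apply Subtype.ext
      simp only [Subgroup.coe_mul]
      have := g.2
      rw [Subgroup.mem_centralizer_singleton_iff] at this
      exact this)
  have hcompl := MonoidHom.ker_transferSylow_isComplement' QC hNC
  have hnd := MonoidHom.not_dvd_card_ker_transferSylow QC hNC
  have hidx : (MonoidHom.transferSylow QC hNC).ker.index =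
      Nat.card (QC : Subgroup (Subgroup.centralizer ({z} : Set G))) :=
    hcompl.symm.index_eq_card
  have hcard4 : Nat.card (QC : Subgroup (Subgroup.centralizer ({z} : Set G))) = 4 :=
    hQCK.card_four
  have hle : (MonoidHom.transferSylow QC hNC).ker ≤
      Cfsg.pPrimeCore 2 (Subgroup.centralizer ({z} : Set G)) := by
    apply le_sSup
    refine ⟨inferInstance, ?_⟩
    rw [Nat.coprime_comm, Nat.Prime.coprime_iff_not_dvd Nat.prime_two]
    exact hnd
  constructor
  · have hdvd := Subgroup.index_dvd_of_le hle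
    rw [hidx, hcard4] at hdvd
    have h4 : (4 : ℕ) = 2 ^ 2 := by norm_num
    rw [h4] at hdvd
    obtain ⟨k, -, hk⟩ := (Nat.dvd_prime_pow Nat.prime_two).mp hdvd
    exact ⟨k, hk⟩
  · have h1 := Sylow.card_eq_multiplicity QC
    rw [hcard4] at h1
    have h4 : (4 : ℕ) = 2 ^ 2 := by norm_num
    rw [h4] at h1
    exact (Nat.pow_right_injective (le_refl 2) h1).symm

/-- nontrivial `2`-elements of a group with Klein four Sylow `2`-subgroups are involutions -/
theorem orderOf_eq_two_of_klein [Finite G] (P : Sylow 2 G) (hP : IsKleinFour (P : Subgroup G))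
    (x : G) (hx : ∃ k : ℕ, orderOf x = 2 ^ k) (hx1 : x ≠ 1) : orderOf x = 2 := by
  haveI : Fact (Nat.Prime 2) := ⟨Nat.prime_two⟩
  obtain ⟨k, hk⟩ := hx
  have hxp : IsPGroup 2 (Subgroup.zpowers x) := by
    apply IsPGroup.of_card (n := k)
    rw [Nat.card_zpowers, hk]
  obtain ⟨Q, hxQ⟩ := hxp.exists_le_sylow
  have hQ : IsKleinFour (Q : Subgroup G) := isKleinFour_sylow P Q hP
  haveI := hQ
  have hxQ' : x ∈ (Q : Subgroup G) := hxQ (Subgroup.mem_zpowers x)
  have hxx : x * x = 1 := by
    have h := IsKleinFour.mul_self (⟨x, hxQ'⟩ : (Q : Subgroup G))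
    exact congrArg (fun t : (Q : Subgroup G) => (t : G)) h
  apply orderOf_eq_prime
  · rw [pow_two, hxx]
  · exact hx1

/-- a Klein four group contains an involution -/
theorem exists_involution_of_klein (P : Subgroup G) (hP : IsKleinFour P) :
    ∃ z ∈ P, orderOf z = 2 := by
  haveI := hP
  haveI : Fact (Nat.Prime 2) := ⟨Nat.prime_two⟩
  haveI : Finite P := Nat.finite_of_card_ne_zero (by rw [hP.card_four]; norm_num)
  haveI : Nontrivial P := by
    rw [← Finite.one_lt_card_iff_nontrivial, hP.card_four]
    norm_num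
  obtain ⟨x, hx⟩ := exists_ne (1 : P)
  refine ⟨(x : G), x.2, ?_⟩
  have hxx : (x : G) * (x : G) = 1 := by
    have h := IsKleinFour.mul_self x
    exact congrArg (fun t : P => (t : G)) h
  apply orderOf_eq_prime
  · rw [pow_two, hxx]
  · intro h
    exact hx (Subtype.ext h)

/-- nonidentity elements of a Klein four group are involutions -/
theorem orderOf_eq_two_of_mem_klein (P : Subgroup G) (hP : IsKleinFour P) (x : G) (hx : x ∈ P)
    (hx1 : x ≠ 1) : orderOf x = 2 := by
  haveI := hP
  haveI : Fact (Nat.Prime 2) := ⟨Nat.prime_two⟩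
  have hxx : x * x = 1 := by
    have h := IsKleinFour.mul_self (⟨x, hx⟩ : P)
    exact congrArg (fun t : P => (t : G)) h
  apply orderOf_eq_prime
  · rw [pow_two, hxx]
  · exact hx1

end Cfsg.Agent.Helper6
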