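import Mathlib
import Cfsg.Prelude.Def_Characters
import Cfsg.Prelude.Def_Blocks
import Cfsg.Prelude.Def_BlockLocal
import Cfsg.Prelude.Def_BlockRank
import Cfsg.Prelude.Def_BrauerPairs
import Cfsg.Agent.Helper6.K4D
import Cfsg.Agent.Helper6.K4J
import Cfsg.Agent.Helper6.KleinFourA
import Cfsg.Agent.Helper6.BrauerFeitE
import Cfsg.Agent.Helper6.SubpairUnique

/-!
# Blocks with a Klein four defect group: `e ∈ {1, 3}`, `k(B) = 4`, `l(B) = e`
-/

set_option autoImplicit false
set_option linter.style.haveILetI false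

namespace Cfsg.Agent.Helper6.K4

open Cfsg.Agent.Helper6

open scoped ComplexConjugate

universe u

variable {G : Type u} [Group G] {M : Ideal Cfsg.AlgInt}

set_option maxHeartbeats 1000000 in
/-- **Brauer's theorem on blocks with a Klein four defect group** -/
theorem klein_four_main [Finite G] (hM : Cfsg.IsPModular 2 M)
    (B : Set (Cfsg.IrrCharacter G)) (hB : Cfsg.IsPBlock M B) (P : Subgroup G)
    (hPD : Cfsg.IsDefectGroup 2 M B P) (hV : IsKleinFour P)
    (c : Set (Cfsg.IrrCharacter (Subgroup.centralizer (P : Set G))))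
    (hc : Cfsg.IsInducedBlock M (Subgroup.centralizer (P : Set G)) c B) (T : Subgroup G)
    (hT : ∀ g : G, g ∈ T ↔ (g ∈ Subgroup.normalizer (P : Set G) ∧
      Cfsg.StabilizesBlock (Subgroup.centralizer (P : Set G)) c g)) (e : ℕ)
    (he : (Subgroup.centralizer (P : Set G)).relIndex T = e) :
    (e = 1 ∨ e = 3) ∧ Nat.card B = 4 ∧ Cfsg.blockRank 2 B = e := by
  classical
  haveI := Fintype.ofFinite G
  haveI hp2 : Fact (Nat.Prime 2) := ⟨Nat.prime_two⟩
  obtain ⟨hsq, hcomm, hmul⟩ := klein_facts P hV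
  have hcases := inertial_index_cases hM B P hPD hV c hc T hT
  rw [he] at hcases
  have hmax := isMaximalBrauerPair_of_root hM B P hPD c hc
  have hPc : Cfsg.IsBrauerPair 2 M P c := hmax.1.1
  -- defect two, heights zero
  have hdB : Cfsg.blockDefect 2 B = 2 := by
    have h1 := card_defectGroup hM.2.1 2 hM.2.2 B hB P hPD
    rw [hV.card_four] at h1
    have h4 : (2 : ℕ) ^ Cfsg.blockDefect 2 B = 2 ^ 2 := by rw [← h1]; norm_num
    exact Nat.pow_right_injective (le_refl 2) h4
  have hh : ∀ χ ∈ B, Cfsg.blockHeight 2 B (χ : G → ℂ) = 0 := by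
    intro χ hχ
    have := (blockHeight_le_sub_two hM B hB χ hχ).2 (by omega)
    omega
  -- the subpairs on the cyclic subgroups
  have hfu : ∀ u ∈ P, ∃ f : Set (Cfsg.IrrCharacter
      (Subgroup.centralizer (Subgroup.zpowers u : Set G))),
      Cfsg.IsPBlock M f ∧ Cfsg.SubpairLE 2 M (Subgroup.zpowers u) f P c := fun u hu =>
    (existsUnique_subpairLE hM P (Subgroup.zpowers u) c hPc
      (by rw [Subgroup.zpowers_le]; exact hu)).exists
  -- representatives
  obtain ⟨X, h1X, hXp, hXrep⟩ := exists_section_reps 2 (1 : G) ⟨0, by rw [orderOf_one, pow_zero]⟩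
  have hformula := card_block_eq_sum_blockRank hM B hB X hXp hXrep
  -- an involution and `k(B) = 4`
  obtain ⟨u₀, hu₀P, hu₀o⟩ := exists_involution_of_klein P hV
  have hu₀1 : u₀ ≠ 1 := by
    intro h
    rw [h, orderOf_one] at hu₀o
    norm_num at hu₀o
  have hord : ∀ u ∈ P, u ≠ 1 → orderOf u = 2 := fun u hu hu1 =>
    orderOf_eq_prime (by rw [sq]; exact hsq u hu) hu1
  obtain ⟨f₀, hf₀B, hf₀⟩ := hfu u₀ hu₀P
  obtain ⟨β₀, hβ₀, -⟩ := exists_subsection_of_mem hM B P c hmax u₀ f₀ hf₀ u₀ 1 (by group)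
  have hx₀ : ∃ k : ℕ, orderOf u₀ = 2 ^ k := ⟨1, by rw [hu₀o, pow_one]⟩
  obtain ⟨-, hd₀⟩ := subsection_defect hM B P c hmax hV u₀ hx₀ hu₀1 β₀ hβ₀
  have hl₀ := subsection_rank_one hM B P c hmax hV u₀ hx₀ hu₀1 β₀ hβ₀
  have hk : Nat.card B = 4 := card_eq_four_of_subsection hM B hh u₀
    (by rw [sq]; exact hsq u₀ hu₀P) _ rfl β₀ hβ₀ hd₀ hl₀
  -- counting
  rw [hk, ← Finset.add_sum_erase X _ h1X] at hformula
  have hN1 : ∑ᶠ b ∈ {b : Set (Cfsg.IrrCharacter (Subgroup.centralizer ({(1 : G)} : Set G))) |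
      Cfsg.IsInducedBlock M (Subgroup.centralizer ({(1 : G)} : Set G)) b B},
      Cfsg.blockRank 2 b = Cfsg.blockRank 2 B := finsum_subsec_one hM B hB
  have hNx : ∀ x ∈ X.erase 1,
      ∑ᶠ b ∈ {b : Set (Cfsg.IrrCharacter (Subgroup.centralizer ({x} : Set G))) |
      Cfsg.IsInducedBlock M (Subgroup.centralizer ({x} : Set G)) b B},
      Cfsg.blockRank 2 b = (subsecSet M B x).ncard := fun x hx =>
    finsum_subsec_eq_ncard hM B P c hmax hV x (hXp x (Finset.mem_of_mem_erase hx))
      (Finset.ne_of_mem_erase hx)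
  rw [hN1, Finset.sum_congr rfl hNx, ← card_subsecIdx B X] at hformula
  -- the construction of subsections from the involutions of `P`
  have hmk : ∀ u ∈ P, u ≠ 1 → ∀ f : Set (Cfsg.IrrCharacter
      (Subgroup.centralizer (Subgroup.zpowers u : Set G))),
      Cfsg.SubpairLE 2 M (Subgroup.zpowers u) f P c →
      ∃ ω : SubsecIdx M B X, ∃ g : G,
        pairOf ω.1.1 ω.2.1 = conjPair g ⟨Subgroup.zpowers u, f⟩ := by
    intro u hu hu1 f hle
    obtain ⟨x, ⟨hxX, hconj⟩, -⟩ := hXrep u ⟨1, by rw [hord u hu hu1, pow_one]⟩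
    obtain ⟨g, hg⟩ := isConj_iff.mp hconj
    have hx1 : x ≠ 1 := by
      intro h
      apply hu1
      rw [h] at hg
      have := congrArg (fun y => g⁻¹ * y * g) hg
      have e1 : g⁻¹ * (g * u * g⁻¹) * g = u := by group
      have e2 : g⁻¹ * 1 * g = 1 := by group
      rw [← e1, ← e2]; exact this
    obtain ⟨β, hβ, hpair⟩ := exists_subsection_of_mem hM B P c hmax u f hle x g hg
    exact ⟨⟨⟨x, hx1, hxX⟩, ⟨β, hβ⟩⟩, g, hpair⟩
  have hrank1 : 1 ≤ Cfsg.blockRank 2 B := by
    obtain ⟨χ, hχ⟩ := isPBlock_nonempty' hM.2.1 B hB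
    exact blockRank_pos 2 B χ hχ
  rcases hcases with he1 | he3
  · -- inertial index one
    refine ⟨Or.inl he1, hk, ?_⟩
    have hTle : T ≤ Subgroup.centralizer (P : Set G) :=
      Subgroup.relIndex_eq_one.mp (he.trans he1)
    have hTC : ∀ g : G, g ∈ Subgroup.normalizer (P : Set G) →
        Cfsg.StabilizesBlock (Subgroup.centralizer (P : Set G)) c g →
        g ∈ Subgroup.centralizer (P : Set G) := fun g hgN hgst =>
      hTle ((hT g).mpr ⟨hgN, hgst⟩)
    choose f hfB hfle using hfu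
    have hmk' : ∀ v : {x : P // x ≠ 1}, ∃ ω : SubsecIdx M B X, ∃ g : G,
        pairOf ω.1.1 ω.2.1 = conjPair g ⟨Subgroup.zpowers (v.1 : G), f v.1.1 v.1.2⟩ := fun v =>
      hmk v.1.1 v.1.2 (fun h => v.2 (Subtype.ext h)) _ (hfle v.1.1 v.1.2)
    choose ι gι hι using hmk'
    have hinj : Function.Injective ι := by
      intro v w hvw
      have h1 := hι v
      rw [hvw, hι w] at h1
      -- conjPair (gι w) ⟨⟨w⟩, f w⟩ = conjPair (gι v) ⟨⟨v⟩, f v⟩
      have h2 : conjPair ((gι v)⁻¹ * gι w) ⟨Subgroup.zpowers (w.1 : G), f w.1.1 w.1.2⟩ =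
          (⟨Subgroup.zpowers (v.1 : G), f v.1.1 v.1.2⟩ : Cfsg.BrauerPairIdx G) := by
        rw [← conjPair_conjPair, h1, conjPair_conjPair, inv_mul_cancel, conjPair_one]
      have h3 := eq_of_conj_pair_of_trivial hM B P c hmax hcomm hsq hTC (w.1 : G) (v.1 : G)
        w.1.2 (fun h => w.2 (Subtype.ext h)) v.1.2 _ _ (hfle w.1.1 w.1.2) (hfle v.1.1 v.1.2)
        (hfB v.1.1 v.1.2) _ h2
      exact (Subtype.ext (Subtype.ext h3)).symm
    have hcard3 : Nat.card {x : P // x ≠ 1} = 3 := by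
      haveI : Fintype P := Fintype.ofFinite P
      have h1 : Fintype.card P = 4 := by rw [← Nat.card_eq_fintype_card]; exact hV.card_four
      rw [Nat.card_eq_fintype_card]
      have := Set.card_ne_eq (1 : P)
      simp only [Set.coe_ofPred] at this
      rw [this, h1]
    have hge : 3 ≤ Nat.card (SubsecIdx M B X) := by
      rw [← hcard3]
      exact Nat.card_le_card_of_injective ι hinj
    omega
  · -- inertial index three
    refine ⟨Or.inr he3, hk, ?_⟩
    have hTN : T ≤ Subgroup.normalizer (P : Set G) := fun g hg => ((hT g).mp hg).1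
    have hLT : Subgroup.centralizer (P : Set G) ≤ T := by
      intro g hg
      rw [hT]
      exact ⟨Subgroup.centralizer_le_normalizer _ hg, stabilizesBlock_of_mem_centralizer P c g hg⟩
    have htrans : ∀ u ∈ P, u ≠ 1 → ∀ v ∈ P, v ≠ 1 → ∃ t ∈ T, t * u * t⁻¹ = v :=
      fun u hu hu1 v hv hv1 =>
        inertial_transitive P hV T hTN hLT (he.trans he3) u v hu hu1 hv hv1
    -- nonempty
    obtain ⟨ω₀, -⟩ := hmk u₀ hu₀P hu₀1 f₀ hf₀
    -- subsingleton
    have hsub : ∀ ω ω' : SubsecIdx M B X, ω = ω' := by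
      rintro ⟨⟨x, hx1, hxX⟩, ⟨β, hβ⟩⟩ ⟨⟨x', hx'1, hx'X⟩, ⟨β', hβ'⟩⟩
      have hxp := hXp x hxX
      have hx'p := hXp x' hx'X
      have ha := isBrauerPairOf_pairOf hM B x hxp β hβ
      have ha' := isBrauerPairOf_pairOf hM B x' hx'p β' hβ'
      obtain ⟨h, hh'⟩ := exists_conj_pair_of_transitive hM B P c hmax T hT htrans x x' hx1 hx'1
        _ _ ha ha'
      have hfst : (Subgroup.zpowers x).map (MulAut.conj h).toMonoidHom = Subgroup.zpowers x' :=
        congrArg Sigma.fst hh'
      rw [map_conj_zpowers] at hfst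
      obtain ⟨hox, -⟩ := subsection_defect hM B P c hmax hV x hxp hx1 β hβ
      have hxx : x * x = 1 := by
        have := pow_orderOf_eq_one x
        rw [hox, sq] at this
        exact this
      have hmem : x' ∈ Subgroup.zpowers (h * x * h⁻¹) := by
        rw [hfst]; exact Subgroup.mem_zpowers x'
      have hsq' : h * x * h⁻¹ * (h * x * h⁻¹) = 1 := by
        have : h * x * h⁻¹ * (h * x * h⁻¹) = h * (x * x) * h⁻¹ := by group
        rw [this, hxx]; group
      have hx'eq : x' = h * x * h⁻¹ := eq_of_mem_zpowers_of_sq hsq' hmem hx'1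
      have hconj : IsConj x x' := isConj_iff.mpr ⟨h, hx'eq.symm⟩
      obtain ⟨y, -, hyu⟩ := hXrep x hxp
      have e1 : x = y := hyu x ⟨hxX, IsConj.refl x⟩
      have e2 : x' = y := hyu x' ⟨hx'X, hconj⟩
      have hxx' : x = x' := e1.trans e2.symm
      subst hxx'
      have hhc : h ∈ Subgroup.centralizer (Subgroup.zpowers x : Set G) := by
        rw [centralizer_zpowers_eq', Subgroup.mem_centralizer_singleton_iff]
        calc h * x = h * x * h⁻¹ * h := by group
          _ = x * h := by rw [← hx'eq]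
      have hself := conjPair_eq_self_of_stabilizes hM.2.1 (Subgroup.zpowers x)
        (castBlock (centralizer_zpowers_eq' x).symm β) ha.1.2 h
        (Subgroup.centralizer_le_normalizer _ hhc)
        (stabilizesBlock_of_mem_centralizer _ _ h hhc)
      have hββ' : β = β' := by
        apply pairOf_injective x
        exact hself.symm.trans hh'
      subst hββ'
      rfl
    have hcard1 : Nat.card (SubsecIdx M B X) = 1 := by
      haveI : Subsingleton (SubsecIdx M B X) := ⟨hsub⟩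
      haveI : Nonempty (SubsecIdx M B X) := ⟨ω₀⟩
      exact Nat.card_of_subsingleton ω₀
    omega

end Cfsg.Agent.Helper6.K4
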