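import Mathlib
import Cfsg.Prelude.Def_Characters
import Cfsg.Prelude.Def_Blocks
import Cfsg.Prelude.Def_BlockLocal
import Cfsg.Prelude.Def_BrauerPairs
import Cfsg.Agent.Helper6.NilpotentInner

/-!
# Brauer pairs of nilpotent blocks
-/

set_option autoImplicit false
set_option linter.style.haveILetI false

namespace Cfsg.Agent.Helper6

open scoped ComplexConjugate

universe u

variable {G : Type u} [Group G] {M : Ideal Cfsg.AlgInt}

theorem mem_normalizer_sup (A C : Subgroup G) (x : G)
    (hA : x ∈ Subgroup.normalizer (A : Set G)) (hC : x ∈ Subgroup.normalizer (C : Set G)) :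
    x ∈ Subgroup.normalizer ((A ⊔ C : Subgroup G) : Set G) := by
  rw [Subgroup.mem_normalizer_iff_map_conj_eq] at hA hC ⊢
  rw [Subgroup.map_sup, hA, hC]

/-- **the blocks of the Brauer pairs of a nilpotent block are nilpotent** -/
theorem isNilpotentBlock_of_isBrauerPairOf [Fintype G] {p : ℕ} [hp : Fact p.Prime]
    (hM : Cfsg.IsPModular p M) (B : Set (Cfsg.IrrCharacter G))
    (hnil : Cfsg.IsNilpotentBlock p M B) (Q : Subgroup G)
    (f : Set (Cfsg.IrrCharacter (Subgroup.centralizer (Q : Set G))))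
    (hQf : Cfsg.IsBrauerPairOf p M B Q f) : Cfsg.IsNilpotentBlock p M f := by
  classical
  have hQ : IsPGroup p Q := hQf.1.1
  refine ⟨hQf.1.2, ?_⟩
  intro R' g' hpair y hyN hyst hyreg
  have hn := isNormalSubpair_up Q hQ R' f g' hpair
  have hBR : Cfsg.IsBrauerPairOf p M B
      (Q ⊔ R'.map (Subgroup.centralizer (Q : Set G)).subtype)
      (irrComp (centQEquiv Q R').symm '' g') :=
    (isBrauerPairOf_iff_of_subpairLE hM _ Q _ f hn.2.1 hn.1
      (Relation.ReflTransGen.single hn) B).mpr hQf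
  have hyNG : (y : G) ∈ Subgroup.normalizer
      ((Q ⊔ R'.map (Subgroup.centralizer (Q : Set G)).subtype : Subgroup G) : Set G) := by
    apply mem_normalizer_sup
    · exact Subgroup.centralizer_le_normalizer _ y.2
    · exact Subgroup.le_normalizer_map (Subgroup.centralizer (Q : Set G)).subtype ⟨y, hyN, rfl⟩
  have hyst' : Cfsg.StabilizesBlock (Subgroup.centralizer
      ((Q ⊔ R'.map (Subgroup.centralizer (Q : Set G)).subtype : Subgroup G) : Set G))
      (irrComp (centQEquiv Q R').symm '' g') (y : G) := by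
    refine ⟨normalizer_le_normalizer_centralizer _ hyNG, ?_⟩
    rintro _ ⟨χ, hχ, rfl⟩
    obtain ⟨χ', hχ', hc⟩ := hyst.2 χ hχ
    refine ⟨irrComp (centQEquiv Q R').symm χ', ⟨χ', hχ', rfl⟩, ?_⟩
    intro k k' hk
    rw [irrComp_apply, irrComp_apply]
    apply hc
    apply Subtype.ext
    exact hk
  have hreg' : Cfsg.IsPRegular p (y : G) := by
    unfold Cfsg.IsPRegular
    rw [Subgroup.orderOf_coe]
    exact hyreg
  have h1 := hnil.2 _ _ hBR (y : G) hyNG hyst' hreg'
  rw [mem_centralizer_sup_iff] at h1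
  rw [Subgroup.mem_centralizer_iff]
  intro s hs
  apply Subtype.ext
  exact Subgroup.mem_centralizer_iff.mp h1.2 (s : G) ⟨s, hs, rfl⟩

/-- **in a nilpotent block, `C_P(Q)` is a defect group of `f` for every `(Q, f) ≤ (P, e)`** -/
theorem inf_centralizer_isDefectGroup_of_nilpotent [Fintype G] {p : ℕ} [hp : Fact p.Prime]
    (hM : Cfsg.IsPModular p M) (B : Set (Cfsg.IrrCharacter G)) (P : Subgroup G)
    (e : Set (Cfsg.IrrCharacter (Subgroup.centralizer (P : Set G))))
    (hmax : Cfsg.IsMaximalBrauerPair p M B P e) (hnil : Cfsg.IsNilpotentBlock p M B)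
    (Q : Subgroup G) (f : Set (Cfsg.IrrCharacter (Subgroup.centralizer (Q : Set G))))
    (hf : Cfsg.IsPBlock M f) (hle : Cfsg.SubpairLE p M Q f P e) :
    Cfsg.IsDefectGroup p M f
      ((P ⊓ Subgroup.centralizer (Q : Set G)).subgroupOf (Subgroup.centralizer (Q : Set G))) := by
  classical
  have hQP : Q ≤ P := SubpairLE.le hle
  have hcardS : ∀ R : Subgroup G, Nat.card ((P ⊓ Subgroup.centralizer (R : Set G)).subgroupOf
      (Subgroup.centralizer (R : Set G))) =
      Nat.card (P ⊓ Subgroup.centralizer (R : Set G) : Subgroup G) := fun R =>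
    Nat.card_congr (Subgroup.subgroupOfEquivOfLe inf_le_right).toEquiv
  obtain ⟨⟨D, hD, hSD⟩, x, hlex, hDx⟩ := centralizer_defectGroup hM B P Q e f hmax hQP hle
  obtain ⟨u, hu, huq⟩ := exists_conj_eq_of_nilpotent hM B P e hmax hnil _ Q f rfl hQP hf hle x hlex
  obtain ⟨D', hD', hcard'⟩ := exists_isDefectGroup_conjBlock_card (M := M) (p := p) Q x f D hD
  have hfx : Cfsg.IsPBlock M (Cfsg.conjBlock Q x f) := isPBlock_conjBlock Q x f hf
  have hc1 := card_defectGroup hM.2.1 p hM.2.2 _ hfx _ hD'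
  have hc2 := card_defectGroup hM.2.1 p hM.2.2 _ hfx _ hDx
  have hQxu : Q.map (MulAut.conj x).toMonoidHom = Q.map (MulAut.conj u).toMonoidHom := by
    ext w
    constructor
    · rintro ⟨q, hq, rfl⟩
      exact ⟨q, hq, by simp only [MulEquiv.coe_toMonoidHom, MulAut.conj_apply]; exact (huq q hq).symm⟩
    · rintro ⟨q, hq, rfl⟩
      exact ⟨q, hq, by simp only [MulEquiv.coe_toMonoidHom, MulAut.conj_apply]; exact huq q hq⟩
  have hmap : P ⊓ Subgroup.centralizer ((Q.map (MulAut.conj u).toMonoidHom : Subgroup G) : Set G) =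
      (P ⊓ Subgroup.centralizer (Q : Set G)).map (MulAut.conj u).toMonoidHom := by
    ext w
    constructor
    · rintro ⟨hwP, hwC⟩
      refine ⟨u⁻¹ * w * u, ⟨P.mul_mem (P.mul_mem (P.inv_mem hu) hwP) hu,
        (mem_centralizer_map_conj_iff Q u w).mp hwC⟩, ?_⟩
      simp only [MulEquiv.coe_toMonoidHom, MulAut.conj_apply]
      group
    · rintro ⟨v, ⟨hvP, hvC⟩, rfl⟩
      refine ⟨?_, (mem_centralizer_map_conj_iff Q u _).mpr ?_⟩
      · simp only [MulEquiv.coe_toMonoidHom, MulAut.conj_apply]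
        exact P.mul_mem (P.mul_mem hu hvP) (P.inv_mem hu)
      · simp only [MulEquiv.coe_toMonoidHom, MulAut.conj_apply]
        have e1 : u⁻¹ * (u * v * u⁻¹) * u = v := by group
        rw [e1]
        exact hvC
  have key : Subgroup.centralizer ((Q.map (MulAut.conj x).toMonoidHom : Subgroup G) : Set G) =
      Subgroup.centralizer ((Q.map (MulAut.conj u).toMonoidHom : Subgroup G) : Set G) := by
    rw [hQxu]
  have h4 : Nat.card D ≤ Nat.card ((P ⊓ Subgroup.centralizer (Q : Set G)).subgroupOf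
      (Subgroup.centralizer (Q : Set G))) := by
    rw [hcardS Q, ← hcard', hc1, ← hc2, hcardS, key, hmap,
      Subgroup.card_map_of_injective (MulAut.conj u).injective]
  rw [Subgroup.eq_of_le_of_card_ge hSD h4]
  exact hD

end Cfsg.Agent.Helper6
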