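import Mathlib
import Cfsg.Prelude.Def_Characters
import Cfsg.Prelude.Def_Blocks
import Cfsg.Prelude.Def_Local
import Cfsg.Agent.Helper6.Ito
import Cfsg.Agent.Helper6.Linear
import Cfsg.Agent.Helper6.IrrOver
import Cfsg.Agent.Helper6.CliffordCorr
import Cfsg.Agent.Helper6.CliffordOrbit
import Cfsg.Agent.Helper6.BrauerPerm
import Cfsg.Agent.Helper6.IrrCount
import Cfsg.Agent.Helper6.Inflation
import Cfsg.Agent.Helper6.DefectZeroBlock
import Cfsg.Agent.Helper6.ColumnOrth
import Cfsg.Agent.Helper6.BlockPart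
import Cfsg.Agent.Helper4.PSolvable
import Cfsg.Agent.Helper4.OrbitSpanA
import Cfsg.Agent.Helper4.ConjUnion
import Cfsg.Agent.Helper4.SolvPSolv

/-!
# The Ito–Michler theorem for `p`-solvable groups
-/

set_option autoImplicit false
set_option linter.style.haveILetI false

namespace Cfsg.Agent.Helper6

open scoped ComplexConjugate

universe u

variable {G : Type u} [Group G]

/-- Clifford: degrees and inertial indices of constituents divide. -/
theorem degree_dvd_of_over [Fintype G] (N : Subgroup G) [hN : N.Normal] [Fintype N]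
    (χ : Cfsg.IrrCharacter G) (θ : Cfsg.IrrCharacter N)
    (hne : Cfsg.classInner (fun n : N => (χ : G → ℂ) n) (θ : N → ℂ) ≠ 0) :
    Cfsg.charDegree (θ : N → ℂ) ∣ Cfsg.charDegree (χ : G → ℂ) ∧
      (conjStab N (θ : N → ℂ)).index ∣ Cfsg.charDegree (χ : G → ℂ) := by
  have hcl := clifford_degree N (χ : G → ℂ) χ.2 (θ : N → ℂ) θ.2 hne
    (conjStab N (θ : N → ℂ)) (fun g => Iff.rfl)
  have hχchar := IsIrrCharacter.isCharacter χ.2
  have hθchar := IsIrrCharacter.isCharacter θ.2
  obtain ⟨m, hm⟩ := classInner_char_char_nat (IsCharacter.restrict N hχchar) hθchar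
  have hdχ := charDegree_cast_of_isCharacter hχchar
  have hdθ := charDegree_cast_of_isCharacter hθchar
  have hnat : Cfsg.charDegree (χ : G → ℂ) =
      m * (conjStab N (θ : N → ℂ)).index * Cfsg.charDegree (θ : N → ℂ) := by
    have h1 : (Cfsg.charDegree (χ : G → ℂ) : ℂ) =
        ((m * (conjStab N (θ : N → ℂ)).index * Cfsg.charDegree (θ : N → ℂ) : ℕ) : ℂ) := by
      push_cast
      rw [hdχ, hdθ, hcl, hm]
    exact_mod_cast h1
  constructor
  · exact ⟨m * (conjStab N (θ : N → ℂ)).index, by rw [hnat]; ring⟩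
  · exact ⟨m * Cfsg.charDegree (θ : N → ℂ), by rw [hnat]; ring⟩

/-- Degrees of a normal subgroup are prime to `p` if those of the group are. -/
theorem degrees_of_normal [Finite G] (p : ℕ) (K : Subgroup G) [hK : K.Normal]
    (hdeg : ∀ χ : Cfsg.IrrCharacter G, ¬ p ∣ Cfsg.charDegree (χ : G → ℂ))
    (θ : Cfsg.IrrCharacter K) : ¬ p ∣ Cfsg.charDegree (θ : K → ℂ) := by
  classical
  haveI := Fintype.ofFinite G
  haveI : Fintype K := Fintype.ofFinite _
  obtain ⟨χ, hne⟩ := exists_irr_over K θ
  intro h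
  exact hdeg χ (h.trans (degree_dvd_of_over K χ θ hne).1)

/-- Degrees of a quotient are prime to `p` if those of the group are. -/
theorem degrees_of_quotient (p : ℕ) (N : Subgroup G) [hN : N.Normal]
    (hdeg : ∀ χ : Cfsg.IrrCharacter G, ¬ p ∣ Cfsg.charDegree (χ : G → ℂ))
    (χ : Cfsg.IrrCharacter (G ⧸ N)) : ¬ p ∣ Cfsg.charDegree (χ : G ⧸ N → ℂ) := by
  have h1 := hdeg ⟨_, isIrrCharacter_inflate N χ⟩
  have h2 : Cfsg.charDegree ((χ : G ⧸ N → ℂ) ∘ QuotientGroup.mk) =
      Cfsg.charDegree (χ : G ⧸ N → ℂ) := by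
    unfold Cfsg.charDegree
    rfl
  rw [← h2]
  exact h1

/-- A normal `p`-subgroup of a group all of whose degrees are prime to `p` is abelian. -/
theorem normal_pgroup_abelian [Finite G] (p : ℕ) [hp : Fact p.Prime] (P : Subgroup G)
    [hP : P.Normal] (hPp : IsPGroup p P)
    (hdeg : ∀ χ : Cfsg.IrrCharacter G, ¬ p ∣ Cfsg.charDegree (χ : G → ℂ)) :
    ∀ x ∈ P, ∀ y ∈ P, x * y = y * x := by
  classical
  have hlin : ∀ θ : Cfsg.IrrCharacter P, (θ : P → ℂ) 1 = 1 := by
    intro θ
    have h1 := degrees_of_normal p P hdeg θ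
    have h2 := charDegree_dvd_card θ.2
    obtain ⟨k, hk⟩ := hPp.exists_card_eq
    rw [hk] at h2
    obtain ⟨i, -, hi⟩ := (Nat.dvd_prime_pow hp.out).mp h2
    have hi0 : i = 0 := by
      by_contra h
      apply h1
      rw [hi]
      exact dvd_pow_self p h
    have h3 := charDegree_cast_of_isCharacter (IsIrrCharacter.isCharacter θ.2)
    rw [← h3, hi, hi0, pow_zero, Nat.cast_one]
  have hcomm := (comm_iff_forall_irr_degree_one (G := P)).mpr hlin
  intro a ha b hb
  have := hcomm ⟨a, ha⟩ ⟨b, hb⟩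
  exact congrArg Subtype.val this

/-- With a normal subgroup of `p`-power index and all degrees prime to `p`, every irreducible
character of the normal subgroup is invariant. -/
theorem conjFun_eq_of_degrees [Finite G] (p : ℕ) [hp : Fact p.Prime] (N : Subgroup G)
    [hN : N.Normal] (k : ℕ) (hidx : N.index = p ^ k)
    (hdeg : ∀ χ : Cfsg.IrrCharacter G, ¬ p ∣ Cfsg.charDegree (χ : G → ℂ))
    (θ : Cfsg.IrrCharacter N) (g : G) : conjFun N (θ : N → ℂ) g = θ := by
  classical
  haveI := Fintype.ofFinite G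
  haveI : Fintype N := Fintype.ofFinite _
  obtain ⟨χ, hne⟩ := exists_irr_over N θ
  have h1 := (degree_dvd_of_over N χ θ hne).2
  have hle : N ≤ conjStab N (θ : N → ℂ) := le_conjStab_of_isClassFunction N _
    (IsCharacter.isClassFunction (IsIrrCharacter.isCharacter θ.2))
  have h2 : (conjStab N (θ : N → ℂ)).index ∣ p ^ k := by
    rw [← hidx]
    exact Subgroup.index_dvd_of_le hle
  obtain ⟨j, -, hj⟩ := (Nat.dvd_prime_pow hp.out).mp h2
  have hj0 : j = 0 := by
    by_contra h
    apply hdeg χ
    refine Dvd.dvd.trans ?_ h1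
    rw [hj]
    exact dvd_pow_self p h
  rw [hj0, pow_zero, Subgroup.index_eq_one] at hj
  have : g ∈ conjStab N (θ : N → ℂ) := by rw [hj]; exact Subgroup.mem_top g
  exact this

/-- If all irreducible characters of a normal subgroup are invariant, so are all its classes. -/
theorem isConj_conj_of_all_invariant [Finite G] (N : Subgroup G) [hN : N.Normal]
    (hinv : ∀ θ : Cfsg.IrrCharacter N, ∀ g : G, conjFun N (θ : N → ℂ) g = θ) (g : G) (n : N) :
    IsConj ((MulAut.conjNormal g : N ≃* N) n) n := by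
  classical
  haveI : Finite (Cfsg.IrrCharacter N) := irr_finite
  haveI : Fintype (Cfsg.IrrCharacter N) := Fintype.ofFinite _
  haveI : Fintype (ConjClasses N) := Fintype.ofFinite _
  set τ : N ≃ N := (MulAut.conjNormal g : N ≃* N).toEquiv with hτ
  have hcomp : ∀ χ : N → ℂ, χ ∘ τ = conjFun N χ g := fun χ => rfl
  have hτirr : ∀ χ : N → ℂ, Cfsg.IsIrrCharacter N χ → Cfsg.IsIrrCharacter N (χ ∘ τ) := by
    intro χ hχ
    rw [hcomp, hinv ⟨χ, hχ⟩ g]
    exact hχ
  have hτconj : ∀ a b : N, IsConj a b → IsConj (τ a) (τ b) := by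
    intro a b hab
    exact (MulAut.conjNormal g : N ≃* N).toMonoidHom.map_isConj hab
  have hcount := brauer_permutation_count τ hτirr hτconj
  have hall : Nat.card {χ : Cfsg.IrrCharacter N // (χ : N → ℂ) ∘ τ = (χ : N → ℂ)} =
      Nat.card (Cfsg.IrrCharacter N) := by
    apply Nat.card_congr
    exact Equiv.subtypeUnivEquiv (fun χ => by rw [hcomp]; exact hinv χ g)
  rw [hall, card_irr_eq_card_conjClasses] at hcount
  by_contra hcon
  have hlt : Fintype.card {C : ConjClasses N // ∀ m : N, ConjClasses.mk m = C → IsConj (τ m) m} <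
      Fintype.card (ConjClasses N) := by
    apply Fintype.card_subtype_lt (x := ConjClasses.mk n)
    intro h
    exact hcon (h n rfl)
  rw [← Nat.card_eq_fintype_card, ← Nat.card_eq_fintype_card, ← hcount] at hlt
  exact lt_irrefl _ hlt

/-- In the above situation every `p`-subgroup centralizes the normal `p'`-subgroup. -/
theorem centralizes_of_degrees [Finite G] (p : ℕ) [hp : Fact p.Prime] (N : Subgroup G)
    [hN : N.Normal] (hcop : (Nat.card N).Coprime p) (k : ℕ) (hidx : N.index = p ^ k)
    (hdeg : ∀ χ : Cfsg.IrrCharacter G, ¬ p ∣ Cfsg.charDegree (χ : G → ℂ))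
    (P : Subgroup G) (hP : IsPGroup p P) : N ≤ Subgroup.centralizer (P : Set G) := by
  classical
  have hinv := conjFun_eq_of_degrees p N k hidx hdeg
  have hconj := isConj_conj_of_all_invariant N hinv
  obtain ⟨H, hH⟩ : ∃ H : Subgroup N, H = (Subgroup.centralizer (P : Set G)).subgroupOf N :=
    ⟨_, rfl⟩
  have hHtop : H = ⊤ := by
    by_contra hne
    obtain ⟨n₀, hn₀⟩ := Cfsg.Agent.Helper4.exists_not_mem_conj H hne
    let S := {m : N // IsConj n₀ m}
    letI : MulAction P S :=
      { smul := fun g s => ⟨(MulAut.conjNormal (g : G) : N ≃* N) s.1,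
          s.2.trans (hconj (g : G) s.1).symm⟩
        one_smul := by
          intro s
          apply Subtype.ext
          change (MulAut.conjNormal ((1 : P) : G) : N ≃* N) s.1 = s.1
          rw [Subgroup.coe_one, map_one]
          rfl
        mul_smul := by
          intro a b s
          apply Subtype.ext
          change (MulAut.conjNormal ((a * b : P) : G) : N ≃* N) s.1 =
            (MulAut.conjNormal (a : G) : N ≃* N) ((MulAut.conjNormal (b : G) : N ≃* N) s.1)
          rw [Subgroup.coe_mul, map_mul]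
          rfl }
    have hcard : ¬ p ∣ Nat.card S := by
      have h1 : Nat.card S = (Subgroup.centralizer ({n₀} : Set N)).index :=
        (index_centralizer_eq_card_conj n₀).symm
      rw [h1]
      intro hdvd
      have h2 : p ∣ Nat.card N := hdvd.trans (Subgroup.index_dvd_card _)
      have h3 := Nat.Coprime.eq_one_of_dvd hcop.symm h2
      exact hp.out.one_lt.ne' h3
    obtain ⟨s, hs⟩ := hP.nonempty_fixed_point_of_prime_not_dvd_card S hcard
    rw [MulAction.mem_fixedPoints] at hs
    have hsH : s.1 ∈ H := by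
      rw [hH, Subgroup.mem_subgroupOf, Subgroup.mem_centralizer_iff]
      intro x hx
      have h1 := hs ⟨x, hx⟩
      have h2 : (MulAut.conjNormal x : N ≃* N) s.1 = s.1 := congrArg Subtype.val h1
      have h3 : x * (s.1 : G) * x⁻¹ = (s.1 : G) := by
        have := congrArg Subtype.val h2
        rwa [MulAut.conjNormal_apply] at this
      calc x * (s.1 : G) = x * (s.1 : G) * x⁻¹ * x := by group
        _ = (s.1 : G) * x := by rw [h3]
    obtain ⟨c, hc⟩ := isConj_iff.mp s.2
    apply hn₀ c⁻¹
    rw [inv_inv, hc]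
    exact hsH
  intro n hn
  have : (⟨n, hn⟩ : N) ∈ H := by rw [hHtop]; exact Subgroup.mem_top _
  rw [hH, Subgroup.mem_subgroupOf] at this
  exact this

/-- The case of a normal `p`-complement. -/
theorem normal_sylow_of_complement [Finite G] (p : ℕ) [hp : Fact p.Prime] (N : Subgroup G)
    [hN : N.Normal] (hcop : (Nat.card N).Coprime p) (k : ℕ) (hidx : N.index = p ^ k)
    (hdeg : ∀ χ : Cfsg.IrrCharacter G, ¬ p ∣ Cfsg.charDegree (χ : G → ℂ)) :
    ∃ Q : Subgroup G, Q.Normal ∧ IsPGroup p Q ∧ ¬ p ∣ Q.index := by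
  obtain ⟨P⟩ : Nonempty (Sylow p G) := inferInstance
  have hcen := centralizes_of_degrees p N hcop k hidx hdeg (P : Subgroup G) P.isPGroup'
  have hPidx : ¬ p ∣ (P : Subgroup G).index := P.not_dvd_index
  refine ⟨P, ?_, P.isPGroup', hPidx⟩
  have hsup : (P : Subgroup G) ⊔ N = ⊤ := by
    rw [← Subgroup.index_eq_one]
    have h1 : ((P : Subgroup G) ⊔ N).index ∣ (P : Subgroup G).index :=
      Subgroup.index_dvd_of_le le_sup_left
    have h2 : ((P : Subgroup G) ⊔ N).index ∣ p ^ k := by
      rw [← hidx]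
      exact Subgroup.index_dvd_of_le le_sup_right
    obtain ⟨j, -, hj⟩ := (Nat.dvd_prime_pow hp.out).mp h2
    by_contra hne
    have hj0 : j ≠ 0 := by
      rintro rfl
      exact hne (by rw [hj, pow_zero])
    apply hPidx
    refine Dvd.dvd.trans ?_ h1
    rw [hj]
    exact dvd_pow_self p hj0
  rw [← Subgroup.normalizer_eq_top_iff, eq_top_iff, ← hsup]
  exact sup_le Subgroup.le_normalizer (hcen.trans (Subgroup.centralizer_le_normalizer _))

/-- **Ito–Michler for `p`-solvable groups**, existence of a normal Sylow `p`-subgroup. -/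
theorem exists_normal_sylow_of_degrees (p : ℕ) [hp : Fact p.Prime] :
    ∀ (n : ℕ) (G : Type u) [Group G] [Finite G], Nat.card G = n → Cfsg.IsPSolvable p G →
      (∀ χ : Cfsg.IrrCharacter G, ¬ p ∣ Cfsg.charDegree (χ : G → ℂ)) →
      ∃ Q : Subgroup G, Q.Normal ∧ IsPGroup p Q ∧ ¬ p ∣ Q.index := by
  intro n
  induction n using Nat.strong_induction_on with
  | _ n ih =>
    intro G _ _ hcard hsolv hdeg
    by_cases h1 : Nat.card G = 1
    · refine ⟨⊥, inferInstance, IsPGroup.of_bot, ?_⟩
      rw [Subgroup.index_bot, h1]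
      exact hp.out.one_lt.ne' ∘ Nat.dvd_one.mp
    haveI : Nontrivial G := by
      rw [← Finite.one_lt_card_iff_nontrivial]
      have := Nat.card_pos (α := G)
      omega
    obtain ⟨W, hWn, hlt, -, hW⟩ :=
      Cfsg.Agent.Helper4.exists_normal_section_of_isPSolvable hsolv ⊤ ⊥ bot_lt_top
    haveI := hWn
    rw [Subgroup.relIndex_bot_left] at hW
    have hWcard : 1 < Nat.card W := by
      rw [Subgroup.one_lt_card_iff_ne_bot]
      exact hlt.ne'
    have hquot : Nat.card (G ⧸ W) < n := by
      rw [← hcard, ← W.index_mul_card]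
      change W.index < _
      have : 0 < W.index := Nat.pos_of_ne_zero Subgroup.index_ne_zero_of_finite
      nlinarith
    obtain ⟨Qb, hQbn, hQbp, hQbidx⟩ := ih _ hquot (G ⧸ W) rfl
      (Cfsg.Agent.Helper4.isPSolvable_quotient hsolv W) (degrees_of_quotient p W hdeg)
    obtain ⟨K, hK⟩ : ∃ K : Subgroup G, K = Qb.comap (QuotientGroup.mk' W) := ⟨_, rfl⟩
    haveI hKn : K.Normal := by rw [hK]; exact hQbn.comap _
    have hKidx : K.index = Qb.index := by
      rw [hK]
      exact Subgroup.index_comap_of_surjective Qb (QuotientGroup.mk'_surjective W)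
    rcases hW with ⟨m, hm⟩ | hcop
    · -- `W` is a `p`-group
      refine ⟨K, hKn, ?_, by rw [hKidx]; exact hQbidx⟩
      rw [hK]
      apply hQbp.comap_of_ker_isPGroup
      rw [QuotientGroup.ker_mk']
      exact IsPGroup.of_card hm
    · -- `W` is a `p'`-group
      by_cases hKtop : K = ⊤
      · have hQbtop : Qb = ⊤ := by
          rw [eq_top_iff]
          intro x _
          obtain ⟨g, rfl⟩ := QuotientGroup.mk'_surjective W x
          have : g ∈ K := by rw [hKtop]; exact Subgroup.mem_top g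
          rw [hK] at this
          exact this
        have hGp : IsPGroup p (G ⧸ W) := by
          intro x
          obtain ⟨j, hj⟩ := hQbp ⟨x, by rw [hQbtop]; exact Subgroup.mem_top x⟩
          exact ⟨j, congrArg Subtype.val hj⟩
        obtain ⟨k, hk⟩ := hGp.exists_card_eq
        exact normal_sylow_of_complement p W hcop k hk hdeg
      · have hKlt : Nat.card K < n := by
          rw [← hcard]
          have hle := Subgroup.card_le_card_group K
          rcases hle.lt_or_eq with h | h
          · exact h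
          · exact absurd ((Subgroup.card_eq_iff_eq_top K).mp h) hKtop
        obtain ⟨Q', hQ'n, hQ'p, hQ'idx⟩ := ih _ hKlt K rfl
          (Cfsg.Agent.Helper4.isPSolvable_subgroup hsolv K) (degrees_of_normal p K hdeg)
        have hchar : Q'.Characteristic := by
          have h2 := Sylow.characteristic_of_normal (hQ'p.toSylow hQ'idx) hQ'n
          exact h2
        refine ⟨Q'.map K.subtype, ?_, hQ'p.map _, ?_⟩
        · exact ConjAct.normal_of_characteristic_of_normal
        · rw [Subgroup.index_map_subtype, hKidx]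
          intro hdvd
          rcases (Nat.Prime.dvd_mul hp.out).mp hdvd with h | h
          · exact hQ'idx h
          · exact hQbidx h

/-- **Ito–Michler for `p`-solvable groups.** -/
theorem ito_michler_psolvable [Finite G] (p : ℕ) [hp : Fact p.Prime]
    (hsolv : Cfsg.IsPSolvable p G)
    (hdeg : ∀ χ : Cfsg.IrrCharacter G, ¬ p ∣ Cfsg.charDegree (χ : G → ℂ)) :
    ∃ Q : Subgroup G, Q.Normal ∧ (∀ x ∈ Q, ∀ y ∈ Q, x * y = y * x) ∧ IsPGroup p Q ∧
      ¬ p ∣ Q.index := by
  obtain ⟨Q, hQn, hQp, hQidx⟩ := exists_normal_sylow_of_degrees p _ G rfl hsolv hdeg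
  haveI := hQn
  exact ⟨Q, hQn, normal_pgroup_abelian p Q hQp hdeg, hQp, hQidx⟩

/-- Ito's theorem in terms of degrees: an abelian normal subgroup of index prime to `p` forces all
degrees to be prime to `p`. -/
theorem not_dvd_degree_of_abelian_normal [Finite G] (p : ℕ) (Q : Subgroup G) [hQ : Q.Normal]
    (hab : ∀ x ∈ Q, ∀ y ∈ Q, x * y = y * x) (hidx : ¬ p ∣ Q.index) (χ : Cfsg.IrrCharacter G) :
    ¬ p ∣ Cfsg.charDegree (χ : G → ℂ) := by
  obtain ⟨n, ρ, hirr, hρ⟩ := χ.2
  haveI := hirr
  have hito := ito ρ Q hab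
  rw [Module.finrank_fin_fun] at hito
  have hdeg : Cfsg.charDegree (χ : G → ℂ) = n := by
    have h1 := charDegree_cast_of_isCharacter (IsIrrCharacter.isCharacter χ.2)
    have h2 : (χ : G → ℂ) 1 = (n : ℂ) := by
      rw [← hρ, Representation.char_one, Module.finrank_fin_fun]
    rw [h2] at h1
    exact_mod_cast h1
  rw [hdeg]
  intro h
  exact hidx (h.trans hito)

end Cfsg.Agent.Helper6
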