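import Mathlib
import Cfsg.Prelude.Def_Characters
import Cfsg.Prelude.Def_Blocks
import Cfsg.Prelude.Def_Local
import Cfsg.Agent.Helper6.ItoMichler
import Cfsg.Agent.Helper6.Codegree
import Cfsg.Agent.Helper6.Expansion

/-!
# Derived length of Sylow `p`-subgroups of `p`-solvable groups and the number of characters of
degree divisible by `p`
-/

set_option autoImplicit false
set_option linter.style.haveILetI false

namespace Cfsg.Agent.Helper6

open scoped ComplexConjugate

universe u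

variable {G : Type u} [Group G]

/-- A normal subgroup in the kernel of an irreducible character is in the kernel of all
constituents of its restriction to a subgroup. -/
theorem ker_constituent [Fintype G] (W : Subgroup G) [Fintype W] (N' : Subgroup W)
    [hN' : N'.Normal] (χ : Cfsg.IrrCharacter G)
    (hker : ∀ n ∈ N', (χ : G → ℂ) ((n : W) : G) = (χ : G → ℂ) 1)
    (ψ : Cfsg.IrrCharacter W)
    (hne : Cfsg.classInner (fun w : W => (χ : G → ℂ) w) (ψ : W → ℂ) ≠ 0) :
    ∀ n ∈ N', (ψ : W → ℂ) n = (ψ : W → ℂ) 1 := by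
  classical
  haveI : Finite (Cfsg.IrrCharacter W) := irr_finite
  haveI : Fintype (Cfsg.IrrCharacter W) := Fintype.ofFinite _
  haveI : Fintype N' := Fintype.ofFinite _
  obtain ⟨φ, hφ⟩ : ∃ φ : W → ℂ, φ = fun w : W => (χ : G → ℂ) w := ⟨_, rfl⟩
  rw [← hφ] at hne
  have hφchar : Cfsg.IsCharacter W φ := by
    rw [hφ]
    exact IsCharacter.restrict W (IsIrrCharacter.isCharacter χ.2)
  have hm : ∀ ψ' : Cfsg.IrrCharacter W, ∃ m : ℕ, Cfsg.classInner φ (ψ' : W → ℂ) = m :=
    fun ψ' => classInner_char_char_nat hφchar (IsIrrCharacter.isCharacter ψ'.2)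
  choose m hm using hm
  have hd : ∀ ψ' : Cfsg.IrrCharacter W, (Cfsg.charDegree (ψ' : W → ℂ) : ℂ) = (ψ' : W → ℂ) 1 :=
    fun ψ' => charDegree_cast_of_isCharacter (IsIrrCharacter.isCharacter ψ'.2)
  have hexp := classFunction_expansion φ (IsCharacter.isClassFunction hφchar)
  have hval : ∀ w : W, φ w = ∑ ψ' : Cfsg.IrrCharacter W, (m ψ' : ℂ) * (ψ' : W → ℂ) w := by
    intro w
    have := congrFun hexp w
    rw [Finset.sum_apply] at this
    rw [this]
    apply Finset.sum_congr rfl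
    intro ψ' _
    rw [Pi.smul_apply, smul_eq_mul, hm]
  -- sum over `N'`
  have hsumL : ∑ n : N', φ (n : W) = (Nat.card N' : ℂ) * φ 1 := by
    have h1 : ∀ n : N', φ (n : W) = φ 1 := by
      intro n
      rw [hφ]
      exact hker n n.2
    rw [Finset.sum_congr rfl (fun n _ => h1 n), Finset.sum_const, Finset.card_univ,
      nsmul_eq_mul, Nat.card_eq_fintype_card]
  have hsumR : ∑ n : N', φ (n : W) = ∑ ψ' : Cfsg.IrrCharacter W, (m ψ' : ℂ) *
      (if (∀ n ∈ N', (ψ' : W → ℂ) n = (ψ' : W → ℂ) 1) then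
        (Nat.card N' : ℂ) * (ψ' : W → ℂ) 1 else 0) := by
    have h2 : ∑ n : N', φ (n : W) =
        ∑ n : N', ∑ ψ' : Cfsg.IrrCharacter W, (m ψ' : ℂ) * (ψ' : W → ℂ) (n : W) :=
      Finset.sum_congr rfl (fun n _ => hval (n : W))
    rw [h2, Finset.sum_comm]
    apply Finset.sum_congr rfl
    intro ψ' _
    rw [← Finset.mul_sum, sum_normal_irr N' ψ'.2]
  have hnat : ∑ ψ' : Cfsg.IrrCharacter W,
      m ψ' * (Nat.card N' * Cfsg.charDegree (ψ' : W → ℂ)) =
      ∑ ψ' : Cfsg.IrrCharacter W,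
        if (∀ n ∈ N', (ψ' : W → ℂ) n = (ψ' : W → ℂ) 1) then
          m ψ' * (Nat.card N' * Cfsg.charDegree (ψ' : W → ℂ)) else 0 := by
    have h1 : ((∑ ψ' : Cfsg.IrrCharacter W,
        m ψ' * (Nat.card N' * Cfsg.charDegree (ψ' : W → ℂ)) : ℕ) : ℂ) =
        ((∑ ψ' : Cfsg.IrrCharacter W,
          if (∀ n ∈ N', (ψ' : W → ℂ) n = (ψ' : W → ℂ) 1) then
            m ψ' * (Nat.card N' * Cfsg.charDegree (ψ' : W → ℂ)) else 0 : ℕ) : ℂ) := by
      push_cast
      have e1 : ∑ ψ' : Cfsg.IrrCharacter W, (m ψ' : ℂ) *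
          ((Nat.card N' : ℂ) * (Cfsg.charDegree (ψ' : W → ℂ) : ℂ)) =
          (Nat.card N' : ℂ) * φ 1 := by
        rw [hval 1, Finset.mul_sum]
        apply Finset.sum_congr rfl
        intro ψ' _
        rw [hd]
        ring
      rw [e1, ← hsumL, hsumR]
      apply Finset.sum_congr rfl
      intro ψ' _
      by_cases h : ∀ n ∈ N', (ψ' : W → ℂ) n = (ψ' : W → ℂ) 1
      · rw [if_pos h, if_pos h, hd]
      · rw [if_neg h, if_neg h, mul_zero]
    exact_mod_cast h1
  by_contra hcon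
  have hle : ∀ ψ' ∈ (Finset.univ : Finset (Cfsg.IrrCharacter W)),
      (if (∀ n ∈ N', (ψ' : W → ℂ) n = (ψ' : W → ℂ) 1) then
          m ψ' * (Nat.card N' * Cfsg.charDegree (ψ' : W → ℂ)) else 0) ≤
        m ψ' * (Nat.card N' * Cfsg.charDegree (ψ' : W → ℂ)) := by
    intro ψ' _
    split_ifs
    · exact le_rfl
    · exact Nat.zero_le _
  have heq := (Finset.sum_eq_sum_iff_of_le hle).mp hnat.symm ψ (Finset.mem_univ ψ)
  rw [if_neg hcon] at heq
  have hm0 : m ψ ≠ 0 := by
    intro h0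
    apply hne
    rw [hm, h0, Nat.cast_zero]
  have hd0 : Cfsg.charDegree (ψ : W → ℂ) ≠ 0 := by
    intro h0
    have h1 := hd ψ
    rw [h0, Nat.cast_zero] at h1
    exact IsIrrCharacter.apply_one_ne_zero ψ.2 h1.symm
  have hc0 : Nat.card N' ≠ 0 := Nat.card_pos.ne'
  exact absurd heq.symm (Nat.mul_ne_zero hm0 (Nat.mul_ne_zero hc0 hd0))

/-- If all degrees of the normal subgroup `N` are prime to `p` and `W / N` is a `p'`-group, then
all degrees of `W` are prime to `p` (for `p`-solvable groups). -/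
theorem degrees_of_pprime_extension [Finite G] (p : ℕ) [hp : Fact p.Prime]
    (hsolv : Cfsg.IsPSolvable p G) (N W : Subgroup G) [hNn : N.Normal] [hWn : W.Normal]
    (hNW : N ≤ W) (hcop : (N.relIndex W).Coprime p)
    (hN : ∀ θ : Cfsg.IrrCharacter N, ¬ p ∣ Cfsg.charDegree (θ : N → ℂ))
    (ψ : Cfsg.IrrCharacter W) : ¬ p ∣ Cfsg.charDegree (ψ : W → ℂ) := by
  obtain ⟨QN, hQNn, hQNab, hQNp, hQNidx⟩ :=
    ito_michler_psolvable p (Cfsg.Agent.Helper4.isPSolvable_subgroup hsolv N) hN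
  haveI hchar : QN.Characteristic :=
    Sylow.characteristic_of_normal (hQNp.toSylow hQNidx) hQNn
  obtain ⟨Q, hQ⟩ : ∃ Q : Subgroup G, Q = QN.map N.subtype := ⟨_, rfl⟩
  have hQn : Q.Normal := by
    rw [hQ]
    exact ConjAct.normal_of_characteristic_of_normal
  have hQN : Q ≤ N := by
    rw [hQ]
    exact Subgroup.map_subtype_le QN
  haveI : (Q.subgroupOf W).Normal := hQn.subgroupOf W
  apply not_dvd_degree_of_abelian_normal p (Q.subgroupOf W) _ _ ψ
  · intro x hx y hy
    rw [Subgroup.mem_subgroupOf, hQ] at hx hy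
    obtain ⟨a, ha, hax⟩ := hx
    obtain ⟨b, hb, hby⟩ := hy
    apply Subtype.ext
    change (x : G) * (y : G) = (y : G) * (x : G)
    rw [← hax, ← hby]
    have := hQNab a ha b hb
    exact congrArg Subtype.val this
  · have h1 : (Q.subgroupOf W).index = Q.relIndex W := rfl
    have h2 : Q.relIndex N = QN.index := by
      change (Q.subgroupOf N).index = _
      have : Q.subgroupOf N = QN := by
        rw [hQ]
        exact Subgroup.comap_map_eq_self_of_injective N.subtype_injective QN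
      rw [this]
    rw [h1, ← Subgroup.relIndex_mul_relIndex Q N W hQN hNW, h2]
    intro hdvd
    rcases (Nat.Prime.dvd_mul hp.out).mp hdvd with h | h
    · exact hQNidx h
    · exact hp.out.one_lt.ne' (Nat.Coprime.eq_one_of_dvd hcop.symm h)

/-- Above a normal subgroup `N` with `W / N` a nontrivial `p`-group there is a normal subgroup
`W₁ > N` with `W₁ / N` abelian. -/
theorem exists_abelian_section [Finite G] (p : ℕ) [hp : Fact p.Prime] (N W : Subgroup G)
    [hNn : N.Normal] [hWn : W.Normal] (hlt : N < W) (m : ℕ) (hm : N.relIndex W = p ^ m) :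
    ∃ W₁ : Subgroup G, W₁.Normal ∧ N < W₁ ∧ ∀ a ∈ W₁, ∀ b ∈ W₁, a * b * a⁻¹ * b⁻¹ ∈ N := by
  classical
  obtain ⟨Wb, hWb⟩ : ∃ Wb : Subgroup (G ⧸ N), Wb = W.map (QuotientGroup.mk' N) := ⟨_, rfl⟩
  haveI hWbn : Wb.Normal := by
    rw [hWb]
    exact hWn.map _ (QuotientGroup.mk'_surjective N)
  -- `W / N` is a `p`-group
  have hquot : IsPGroup p (W ⧸ N.subgroupOf W) := by
    apply IsPGroup.of_card (n := m)
    rw [← Subgroup.index_eq_card]
    exact hm
  have hWbp : IsPGroup p Wb := by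
    rintro ⟨x, hx⟩
    rw [hWb] at hx
    obtain ⟨w, hw, rfl⟩ := hx
    obtain ⟨k, hk⟩ := hquot (QuotientGroup.mk (⟨w, hw⟩ : W))
    refine ⟨k, ?_⟩
    apply Subtype.ext
    rw [← QuotientGroup.mk_pow, QuotientGroup.eq_one_iff, Subgroup.mem_subgroupOf] at hk
    change (QuotientGroup.mk' N w) ^ p ^ k = 1
    rw [← map_pow]
    exact (QuotientGroup.eq_one_iff _).mpr hk
  haveI : Nontrivial Wb := by
    obtain ⟨w, hw, hwN⟩ := Set.exists_of_ssubset hlt
    refine ⟨⟨⟨QuotientGroup.mk' N w, by rw [hWb]; exact ⟨w, hw, rfl⟩⟩, 1, ?_⟩⟩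
    intro h
    apply hwN
    have := congrArg Subtype.val h
    exact (QuotientGroup.eq_one_iff w).mp this
  haveI := hWbp.center_nontrivial
  obtain ⟨Zb, hZb⟩ : ∃ Zb : Subgroup (G ⧸ N), Zb = (Subgroup.center Wb).map Wb.subtype :=
    ⟨_, rfl⟩
  have hZbn : Zb.Normal := by
    rw [hZb]
    exact ConjAct.normal_of_characteristic_of_normal
  refine ⟨Zb.comap (QuotientGroup.mk' N), hZbn.comap _, ?_, ?_⟩
  · rw [lt_iff_le_and_ne]
    constructor
    · intro n hn
      rw [Subgroup.mem_comap]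
      have : QuotientGroup.mk' N n = 1 := (QuotientGroup.eq_one_iff n).mpr hn
      rw [this]
      exact Zb.one_mem
    · intro heq
      obtain ⟨z, hz⟩ := exists_ne (1 : Subgroup.center Wb)
      obtain ⟨g, hg⟩ := QuotientGroup.mk'_surjective N ((z : Wb) : G ⧸ N)
      have hgmem : g ∈ Zb.comap (QuotientGroup.mk' N) := by
        rw [Subgroup.mem_comap, hg, hZb]
        exact ⟨z, z.2, rfl⟩
      rw [← heq] at hgmem
      apply hz
      apply Subtype.ext
      apply Subtype.ext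
      change ((z : Wb) : G ⧸ N) = 1
      rw [← hg]
      exact (QuotientGroup.eq_one_iff g).mpr hgmem
  · intro a ha b hb
    rw [Subgroup.mem_comap, hZb] at ha hb
    obtain ⟨za, hza, hza'⟩ := ha
    obtain ⟨zb, -, hzb'⟩ := hb
    have hcomm : za * zb = zb * za := (Subgroup.mem_center_iff.mp hza zb).symm
    have h1 : QuotientGroup.mk' N a * QuotientGroup.mk' N b =
        QuotientGroup.mk' N b * QuotientGroup.mk' N a := by
      rw [← hza', ← hzb']
      have := congrArg (Wb.subtype) hcomm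
      simpa using this
    rw [← QuotientGroup.eq_one_iff]
    change QuotientGroup.mk' N (a * b * a⁻¹ * b⁻¹) = 1
    rw [map_mul, map_mul, map_mul, map_inv, map_inv, h1]
    group

theorem card_lt_of_lt' [Finite G] {N W : Subgroup G} (h : N < W) : Nat.card N < Nat.card W := by
  by_contra hcon
  exact h.ne (Subgroup.eq_of_le_of_card_ge h.le (not_lt.mp hcon))

/-- An irreducible character with an abelian quotient modulo a normal subgroup of its kernel is
linear. -/
theorem linear_of_abelian_quotient [Finite G] (K : Subgroup G) [hK : K.Normal]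
    (χ : Cfsg.IrrCharacter G) (hker : ∀ n ∈ K, (χ : G → ℂ) n = (χ : G → ℂ) 1)
    (hab : ∀ a b : G, a * b * a⁻¹ * b⁻¹ ∈ K) : Cfsg.charDegree (χ : G → ℂ) = 1 := by
  obtain ⟨χ', hχ'⟩ := exists_deflate K χ hker
  have hcomm : ∀ x y : G ⧸ K, x * y = y * x := by
    intro x y
    obtain ⟨a, rfl⟩ := QuotientGroup.mk_surjective x
    obtain ⟨b, rfl⟩ := QuotientGroup.mk_surjective y
    have h1 : ((a * b * a⁻¹ * b⁻¹ : G) : G ⧸ K) = 1 := (QuotientGroup.eq_one_iff _).mpr (hab a b)
    rw [QuotientGroup.mk_mul, QuotientGroup.mk_mul, QuotientGroup.mk_mul, QuotientGroup.mk_inv,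
      QuotientGroup.mk_inv] at h1
    calc (a : G ⧸ K) * b = ((a : G ⧸ K) * b * (a : G ⧸ K)⁻¹ * (b : G ⧸ K)⁻¹) * (b * a) := by group
      _ = b * a := by rw [h1, one_mul]
  have h1 := (comm_iff_forall_irr_degree_one (G := G ⧸ K)).mp hcomm χ'
  have h2 : (χ : G → ℂ) 1 = 1 := by
    rw [hχ']
    change (χ' : G ⧸ K → ℂ) ((1 : G) : G ⧸ K) = 1
    rw [QuotientGroup.mk_one]
    exact h1
  unfold Cfsg.charDegree
  rw [h2]
  simp

/-- Key step: a normal subgroup maximal with all degrees prime to `p` is not in the kernel of all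
characters of degree divisible by `p`. -/
theorem exists_bad_not_ker [Finite G] (p : ℕ) [hp : Fact p.Prime]
    (hsolv : Cfsg.IsPSolvable p G) (N : Subgroup G) [hNn : N.Normal]
    (hN : ∀ θ : Cfsg.IrrCharacter N, ¬ p ∣ Cfsg.charDegree (θ : N → ℂ))
    (hmax : ∀ W : Subgroup G, W.Normal →
      (∀ ψ : Cfsg.IrrCharacter W, ¬ p ∣ Cfsg.charDegree (ψ : W → ℂ)) → Nat.card W ≤ Nat.card N)
    (χ₁ : Cfsg.IrrCharacter G) (hχ₁ : p ∣ Cfsg.charDegree (χ₁ : G → ℂ)) :
    ∃ χ₀ : Cfsg.IrrCharacter G, p ∣ Cfsg.charDegree (χ₀ : G → ℂ) ∧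
      ¬ ∀ n ∈ N, (χ₀ : G → ℂ) n = (χ₀ : G → ℂ) 1 := by
  classical
  haveI := Fintype.ofFinite G
  by_contra hcon
  have hstar : ∀ χ : Cfsg.IrrCharacter G, p ∣ Cfsg.charDegree (χ : G → ℂ) →
      ∀ n ∈ N, (χ : G → ℂ) n = (χ : G → ℂ) 1 := by
    intro χ hχ
    by_contra h
    exact hcon ⟨χ, hχ, h⟩
  have hp1 : ¬ p ∣ 1 := fun h => hp.out.one_lt.ne' (Nat.dvd_one.mp h)
  by_cases hNtop : N = ⊤
  · have h1 := linear_of_abelian_quotient N χ₁ (hstar χ₁ hχ₁)
      (fun a b => by rw [hNtop]; exact Subgroup.mem_top _)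
    rw [h1] at hχ₁
    exact hp1 hχ₁
  · obtain ⟨W, hWn, hlt, -, hW⟩ := Cfsg.Agent.Helper4.exists_normal_section_of_isPSolvable hsolv
      ⊤ N (lt_top_iff_ne_top.mpr hNtop)
    haveI := hWn
    rcases hW with ⟨m, hm⟩ | hcop
    · obtain ⟨W₁, hW₁n, hlt₁, hcommW⟩ := exists_abelian_section p N W hlt m hm
      haveI := hW₁n
      haveI : Fintype W₁ := Fintype.ofFinite _
      have hnot : ¬ ∀ ψ : Cfsg.IrrCharacter W₁, ¬ p ∣ Cfsg.charDegree (ψ : W₁ → ℂ) :=
        fun h => absurd (hmax W₁ hW₁n h) (not_le.mpr (card_lt_of_lt' hlt₁))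
      push Not at hnot
      obtain ⟨ψ, hψ⟩ := hnot
      obtain ⟨χ, hne⟩ := exists_irr_over W₁ ψ
      have hχbad : p ∣ Cfsg.charDegree (χ : G → ℂ) :=
        hψ.trans (degree_dvd_of_over W₁ χ ψ hne).1
      have hkerχ := hstar χ hχbad
      have hkerψ := ker_constituent W₁ (N.subgroupOf W₁) χ
        (fun n hn => hkerχ _ (Subgroup.mem_subgroupOf.mp hn)) ψ hne
      have hlin := linear_of_abelian_quotient (G := W₁) (N.subgroupOf W₁) ψ hkerψ (by
        intro a b
        rw [Subgroup.mem_subgroupOf]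
        exact hcommW a a.2 b b.2)
      rw [hlin] at hψ
      exact hp1 hψ
    · have h1 := degrees_of_pprime_extension p hsolv N W hlt.le hcop hN
      exact absurd (hmax W hWn h1) (not_le.mpr (card_lt_of_lt' hlt))

/-- Passing to a quotient by a normal subgroup outside the kernel of some character of degree
divisible by `p` decreases the number of such characters. -/
theorem badCount_quotient_lt [Finite G] (p : ℕ) (N : Subgroup G) [hN : N.Normal]
    (χ₀ : Cfsg.IrrCharacter G) (hbad : p ∣ Cfsg.charDegree (χ₀ : G → ℂ))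
    (hker : ¬ ∀ n ∈ N, (χ₀ : G → ℂ) n = (χ₀ : G → ℂ) 1) :
    Nat.card {χ : Cfsg.IrrCharacter (G ⧸ N) // p ∣ Cfsg.charDegree (χ : G ⧸ N → ℂ)} <
      Nat.card {χ : Cfsg.IrrCharacter G // p ∣ Cfsg.charDegree (χ : G → ℂ)} := by
  classical
  haveI : Finite (Cfsg.IrrCharacter G) := irr_finite
  haveI : Finite (Cfsg.IrrCharacter (G ⧸ N)) := irr_finite
  haveI : Fintype {χ : Cfsg.IrrCharacter (G ⧸ N) // p ∣ Cfsg.charDegree (χ : G ⧸ N → ℂ)} :=
    Fintype.ofFinite _
  haveI : Fintype {χ : Cfsg.IrrCharacter G // p ∣ Cfsg.charDegree (χ : G → ℂ)} :=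
    Fintype.ofFinite _
  rw [Nat.card_eq_fintype_card, Nat.card_eq_fintype_card]
  have hdeg : ∀ χ' : Cfsg.IrrCharacter (G ⧸ N),
      Cfsg.charDegree ((χ' : G ⧸ N → ℂ) ∘ QuotientGroup.mk) =
        Cfsg.charDegree (χ' : G ⧸ N → ℂ) := by
    intro χ'
    unfold Cfsg.charDegree
    rfl
  let f : {χ : Cfsg.IrrCharacter (G ⧸ N) // p ∣ Cfsg.charDegree (χ : G ⧸ N → ℂ)} →
      {χ : Cfsg.IrrCharacter G // p ∣ Cfsg.charDegree (χ : G → ℂ)} :=
    fun χ' => ⟨⟨_, isIrrCharacter_inflate N χ'.1⟩, by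
      change p ∣ Cfsg.charDegree ((χ'.1 : G ⧸ N → ℂ) ∘ QuotientGroup.mk)
      rw [hdeg]; exact χ'.2⟩
  apply Fintype.card_lt_of_injective_of_notMem f (b := ⟨χ₀, hbad⟩)
  · intro a b hab
    have h1 : ((a.1 : G ⧸ N → ℂ) ∘ QuotientGroup.mk : G → ℂ) =
        (b.1 : G ⧸ N → ℂ) ∘ QuotientGroup.mk := by
      have := congrArg (fun x => ((x.1 : Cfsg.IrrCharacter G) : G → ℂ)) hab
      exact this
    have h2 : (a.1 : G ⧸ N → ℂ) = (b.1 : G ⧸ N → ℂ) :=
      (QuotientGroup.mk_surjective (s := N)).injective_comp_right h1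
    exact Subtype.ext (Subtype.ext h2)
  · rintro ⟨χ', hχ'⟩
    apply hker
    intro n hn
    have h1 : (χ₀ : G → ℂ) = (χ'.1 : G ⧸ N → ℂ) ∘ QuotientGroup.mk := by
      have := congrArg (fun x => ((x.1 : Cfsg.IrrCharacter G) : G → ℂ)) hχ'
      exact this.symm
    rw [h1]
    change (χ'.1 : G ⧸ N → ℂ) ((n : G) : G ⧸ N) = (χ'.1 : G ⧸ N → ℂ) ((1 : G) : G ⧸ N)
    rw [(QuotientGroup.eq_one_iff n).mpr hn, QuotientGroup.mk_one]

/-- **Derived length of `p`-subgroups of a `p`-solvable group** in terms of the number of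
irreducible characters of degree divisible by `p`. -/
theorem derivedSeries_of_bad (p : ℕ) [hp : Fact p.Prime] :
    ∀ (m : ℕ) (G : Type u) [Group G] [Finite G], Nat.card G = m → Cfsg.IsPSolvable p G →
      ∀ A : Subgroup G, IsPGroup p A →
        derivedSeries ↥A
          (Nat.card {χ : Cfsg.IrrCharacter G // p ∣ Cfsg.charDegree (χ : G → ℂ)} + 1) = ⊥ := by
  intro m
  induction m using Nat.strong_induction_on with
  | _ m ih =>
    intro G _ _ hcard hsolv A hA
    classical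
    obtain ⟨n, hn⟩ : ∃ n : ℕ,
        n = Nat.card {χ : Cfsg.IrrCharacter G // p ∣ Cfsg.charDegree (χ : G → ℂ)} := ⟨_, rfl⟩
    rw [← hn]
    have hp1 : ¬ p ∣ 1 := fun h => hp.out.one_lt.ne' (Nat.dvd_one.mp h)
    -- abelian `p`-subgroups
    have hfinal : ∀ k : ℕ, (∀ x ∈ derivedSeries ↥A k, ∀ y ∈ derivedSeries ↥A k, x * y = y * x) →
        derivedSeries ↥A (k + 1) = ⊥ := by
      intro k hk
      rw [derivedSeries_succ, Subgroup.commutator_eq_bot_iff_le_centralizer]
      intro x hx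
      rw [Subgroup.mem_centralizer_iff]
      intro y hy
      exact hk y hy x hx
    by_cases hbad : ∃ χ₁ : Cfsg.IrrCharacter G, p ∣ Cfsg.charDegree (χ₁ : G → ℂ)
    · obtain ⟨χ₁, hχ₁⟩ := hbad
      -- a normal subgroup of maximal order with all degrees prime to `p`
      set S : Set ℕ := {k | ∃ N : Subgroup G, N.Normal ∧
        (∀ θ : Cfsg.IrrCharacter N, ¬ p ∣ Cfsg.charDegree (θ : N → ℂ)) ∧ Nat.card N = k} with hS
      have hSne : S.Nonempty := by
        refine ⟨Nat.card (⊥ : Subgroup G), ⊥, inferInstance, ?_, rfl⟩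
        intro θ hdvd
        have h1 := charDegree_dvd_card θ.2
        rw [Subgroup.card_bot] at h1
        rw [Nat.dvd_one.mp h1] at hdvd
        exact hp1 hdvd
      have hSbdd : BddAbove S := by
        refine ⟨Nat.card G, ?_⟩
        rintro k ⟨N, -, -, rfl⟩
        exact Subgroup.card_le_card_group N
      obtain ⟨N, hNn, hN, hNcard⟩ := Nat.sSup_mem hSne hSbdd
      haveI := hNn
      have hmax : ∀ W : Subgroup G, W.Normal →
          (∀ ψ : Cfsg.IrrCharacter W, ¬ p ∣ Cfsg.charDegree (ψ : W → ℂ)) →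
          Nat.card W ≤ Nat.card N := by
        intro W hWn hW
        rw [hNcard]
        exact le_csSup hSbdd ⟨W, hWn, hW, rfl⟩
      obtain ⟨χ₀, hχ₀bad, hχ₀ker⟩ := exists_bad_not_ker p hsolv N hN hmax χ₁ hχ₁
      have hlt := badCount_quotient_lt p N χ₀ hχ₀bad hχ₀ker
      rw [← hn] at hlt
      have hNbot : N ≠ ⊥ := by
        rintro rfl
        apply hχ₀ker
        intro x hx
        rw [Subgroup.mem_bot.mp hx]
      have hquot : Nat.card (G ⧸ N) < m := by
        rw [← hcard, ← N.index_mul_card]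
        change N.index < _
        have h1 : 0 < N.index := Nat.pos_of_ne_zero Subgroup.index_ne_zero_of_finite
        have h2 : 1 < Nat.card N := by
          rw [Subgroup.one_lt_card_iff_ne_bot]
          exact hNbot
        nlinarith
      have hIH := ih _ hquot (G ⧸ N) rfl (Cfsg.Agent.Helper4.isPSolvable_quotient hsolv N)
        (A.map (QuotientGroup.mk' N)) (hA.map _)
      have hAb : derivedSeries ↥(A.map (QuotientGroup.mk' N)) n = ⊥ := by
        rw [eq_bot_iff, ← hIH]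
        exact derivedSeries_antitone _ hlt
      have hmem : ∀ x ∈ derivedSeries ↥A n, ((x : A) : G) ∈ N := by
        intro x hx
        have h1 := map_derivedSeries_le_derivedSeries ((QuotientGroup.mk' N).subgroupMap A) n
          ⟨x, hx, rfl⟩
        rw [hAb, Subgroup.mem_bot] at h1
        have h2 := congrArg Subtype.val h1
        exact (QuotientGroup.eq_one_iff _).mp h2
      obtain ⟨QN, hQNn, hQNab, hQNp, hQNidx⟩ :=
        ito_michler_psolvable p (Cfsg.Agent.Helper4.isPSolvable_subgroup hsolv N) hN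
      haveI := hQNn
      have hAN : A.subgroupOf N ≤ QN :=
        IsPGroup_le_of_normal_of_not_dvd_index hA.comap_subtype QN hQNidx
      rcases Nat.eq_zero_or_pos n with hn0 | hnpos
      · omega
      apply hfinal
      intro x hx y hy
      have hxN := hmem x hx
      have hyN := hmem y hy
      have hxQ : (⟨(x : G), hxN⟩ : N) ∈ QN := hAN (Subgroup.mem_subgroupOf.mpr x.2)
      have hyQ : (⟨(y : G), hyN⟩ : N) ∈ QN := hAN (Subgroup.mem_subgroupOf.mpr y.2)
      have h1 := hQNab _ hxQ _ hyQ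
      have h2 : ((x : A) : G) * ((y : A) : G) = ((y : A) : G) * ((x : A) : G) :=
        congrArg Subtype.val h1
      apply Subtype.ext
      exact h2
    · push Not at hbad
      obtain ⟨Q, hQn, hQab, hQp, hQidx⟩ := ito_michler_psolvable p hsolv hbad
      haveI := hQn
      have hAQ : A ≤ Q := IsPGroup_le_of_normal_of_not_dvd_index hA Q hQidx
      have h1 : derivedSeries ↥A (0 + 1) = ⊥ := by
        apply hfinal
        intro x _ y _
        apply Subtype.ext
        exact hQab _ (hAQ x.2) _ (hAQ y.2)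
      rw [eq_bot_iff, ← h1]
      exact derivedSeries_antitone _ (by omega)

end Cfsg.Agent.Helper6
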