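import Mathlib
import Cfsg.Prelude.Def_Characters
import Cfsg.Prelude.Def_Blocks
import Cfsg.Prelude.Def_OddOrderLocal
import Cfsg.Agent.Helper6.BrCorrB
import Cfsg.Agent.Helper6.Gallagher
import Cfsg.Agent.Helper6.BrauerPair

/-!
# Normal subgroups of order prime to `p` in the kernel of a block: the averaging idempotent
-/

set_option autoImplicit false
set_option linter.style.haveILetI false

namespace Cfsg.Agent.Helper6

open scoped ComplexConjugate

universe u

section PiCore

variable {X : Type u} [Group X]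

theorem card_sup_dvd_mul_of_normal [Finite X] (H K : Subgroup X) [K.Normal] :
    Nat.card ↥(H ⊔ K) ∣ Nat.card H * Nat.card K := by
  have h1 : Nat.card ↥(K.subgroupOf (H ⊔ K)) * (K.subgroupOf (H ⊔ K)).index =
      Nat.card ↥(H ⊔ K) := Subgroup.card_mul_index _
  have h2 : Nat.card ↥(K.subgroupOf (H ⊔ K)) = Nat.card K :=
    Nat.card_congr (Subgroup.subgroupOfEquivOfLe (le_sup_right : K ≤ H ⊔ K)).toEquiv
  have h3 : (K.subgroupOf (H ⊔ K)).index = K.relIndex H := Subgroup.relIndex_sup_right H K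
  have h4 : K.relIndex H ∣ Nat.card H := Subgroup.relIndex_dvd_card K H
  rw [← h1, h2, h3, mul_comm]
  exact Nat.mul_dvd_mul_right h4 _

/-- `O_π(X)` of a finite group is a `π`-group -/
theorem piCore_card_prime_mem [Finite X] (π : Set ℕ) :
    ∀ q : ℕ, q.Prime → q ∣ Nat.card (Cfsg.piCore π X) → q ∈ π := by
  classical
  set S : Set (Subgroup X) :=
    {N : Subgroup X | N.Normal ∧ ∀ q : ℕ, q.Prime → q ∣ Nat.card N → q ∈ π} with hS
  have hSne : S.Nonempty := by
    refine ⟨⊥, inferInstance, ?_⟩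
    intro q hq hd
    rw [Subgroup.card_bot] at hd
    exact absurd (Nat.dvd_one.mp hd) hq.ne_one
  obtain ⟨N₀, hN₀S, hN₀max⟩ :=
    Set.exists_max_image S (fun N => Nat.card N) (Set.toFinite S) hSne
  have hle : ∀ N ∈ S, N ≤ N₀ := by
    intro N hN
    haveI : N.Normal := hN.1
    haveI : N₀.Normal := hN₀S.1
    have hMN : N₀ ⊔ N ∈ S := by
      refine ⟨inferInstance, ?_⟩
      intro q hq hd
      have hd2 := hd.trans (card_sup_dvd_mul_of_normal N₀ N)
      rcases (Nat.Prime.dvd_mul hq).mp hd2 with h | h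
      · exact hN₀S.2 q hq h
      · exact hN.2 q hq h
    have h1 := hN₀max _ hMN
    have h2 : N₀ ⊔ N = N₀ := (Subgroup.eq_of_le_of_card_ge le_sup_left h1).symm
    rw [← h2]; exact le_sup_right
  have : Cfsg.piCore π X = N₀ := le_antisymm (sSup_le hle) (le_sSup hN₀S)
  rw [this]; exact hN₀S.2

/-- a normal `π`-subgroup lies in `O_π` -/
theorem le_piCore_of_normal (π : Set ℕ) (N : Subgroup X) (hN : N.Normal)
    (h : ∀ q : ℕ, q.Prime → q ∣ Nat.card N → q ∈ π) : N ≤ Cfsg.piCore π X :=
  le_sSup ⟨hN, h⟩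

/-- the order of `O_π'(X)` is prime to `p` when `p ∈ π` -/
theorem not_dvd_card_piCore_compl [Finite X] {p : ℕ} (hp : p.Prime) (π : Set ℕ) (hpπ : p ∈ π) :
    ¬ p ∣ Nat.card (Cfsg.piCore {q | q ∉ π} X) := by
  intro h
  exact piCore_card_prime_mem {q | q ∉ π} p hp h hpπ

/-- `O_π` is carried to `O_π` by isomorphisms -/
theorem piCore_map_mulEquiv {Y : Type u} [Group Y] (π : Set ℕ) (φ : X ≃* Y) :
    (Cfsg.piCore π X).map φ.toMonoidHom = Cfsg.piCore π Y := by
  have key : ∀ {A B : Type u} [Group A] [Group B] (ψ : A ≃* B),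
      (Cfsg.piCore π A).map ψ.toMonoidHom ≤ Cfsg.piCore π B := by
    intro A B _ _ ψ
    unfold Cfsg.piCore
    rw [Subgroup.map_le_iff_le_comap]
    apply sSup_le
    intro N hN
    rw [← Subgroup.map_le_iff_le_comap]
    apply le_sSup
    refine ⟨?_, ?_⟩
    · haveI := hN.1
      exact Subgroup.Normal.map hN.1 ψ.toMonoidHom ψ.surjective
    · intro q hq hd
      rw [Subgroup.card_map_of_injective ψ.injective] at hd
      exact hN.2 q hq hd
  apply le_antisymm (key φ)
  have h1 := key φ.symm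
  intro y hy
  have h2 := h1 ⟨y, hy, rfl⟩
  refine ⟨φ.symm y, h2, ?_⟩
  exact φ.apply_symm_apply y

end PiCore

variable {G : Type u} [Group G] {M : Ideal Cfsg.AlgInt}

/-- the coefficient function of the averaging idempotent of a subgroup -/
noncomputable def avgFun (K : Subgroup G) : G → ℂ := by
  classical exact fun g => if g ∈ K then (Nat.card K : ℂ)⁻¹ else 0

theorem avgFun_of_mem (K : Subgroup G) {g : G} (hg : g ∈ K) :
    avgFun K g = (Nat.card K : ℂ)⁻¹ := by
  classical
  unfold avgFun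
  rw [if_pos hg]

theorem avgFun_of_not_mem (K : Subgroup G) {g : G} (hg : g ∉ K) : avgFun K g = 0 := by
  classical
  unfold avgFun
  rw [if_neg hg]

/-- the averaging function is invariant under conjugation by the normalizer -/
theorem avgFun_conj (K : Subgroup G) (g n : G) (hn : n ∈ Subgroup.normalizer (K : Set G)) :
    avgFun K (n * g * n⁻¹) = avgFun K g := by
  have hiff : n * g * n⁻¹ ∈ K ↔ g ∈ K := (Subgroup.mem_normalizer_iff.mp hn g).symm
  by_cases hg : g ∈ K
  · rw [avgFun_of_mem K hg, avgFun_of_mem K (hiff.mpr hg)]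
  · rw [avgFun_of_not_mem K hg, avgFun_of_not_mem K (fun h => hg (hiff.mp h))]

theorem avgFun_isClassFunction (K : Subgroup G) [hK : K.Normal] :
    Cfsg.IsClassFunction G (avgFun K) := by
  intro g n
  apply avgFun_conj
  rw [Subgroup.normalizer_eq_top]
  exact Subgroup.mem_top n

theorem avgFun_memLocalRing {p : ℕ} [hp : Fact p.Prime] (hM : Cfsg.IsPModular p M)
    (K : Subgroup G) (hK : ¬ p ∣ Nat.card K) (g : G) : Cfsg.MemLocalRing M (avgFun K g) := by
  by_cases hg : g ∈ K
  · rw [avgFun_of_mem K hg]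
    have h1 : ¬ Cfsg.MemLocalIdeal M ((Nat.card K : ℕ) : ℂ) :=
      fun h => hK (dvd_of_memLocalIdeal_natCast hM _ h)
    exact memLocalRing_inv_of_not_memLocalIdeal hM.2.1 (isIntegral_natCast (Nat.card K)) h1
  · rw [avgFun_of_not_mem K hg]
    exact memLocalRing_zero hM.2.1

end Cfsg.Agent.Helper6
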