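import Mathlib
import Cfsg.Prelude.Def_Characters
import Cfsg.Prelude.Def_Blocks
import Cfsg.Agent.Helper6.PiKerA

/-!
# Normal subgroups of order prime to `p` in the kernel of a block, and block induction
-/

set_option autoImplicit false
set_option linter.style.haveILetI false

namespace Cfsg.Agent.Helper6

open scoped ComplexConjugate

universe u

variable {G : Type u} [Group G] {M : Ideal Cfsg.AlgInt}

section Vec

variable [Fintype G]

open Classical in
/-- the central character value of the averaging idempotent of a normal subgroup -/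
theorem classVec_avgFun (K : Subgroup G) [hK : K.Normal] (θ : Cfsg.IrrCharacter G) :
    classVec (avgFun K) θ =
      if (∀ n ∈ K, (θ : G → ℂ) n = (θ : G → ℂ) 1) then 1 else 0 := by
  haveI : Fintype K := Fintype.ofFinite K
  have hθ1 : (θ : G → ℂ) 1 ≠ 0 := IsIrrCharacter.apply_one_ne_zero θ.2
  have hK0 : (Nat.card K : ℂ) ≠ 0 := by
    have : 0 < Nat.card K := Nat.card_pos
    exact_mod_cast this.ne'
  unfold classVec
  have h1 : ∑ t : G, avgFun K t * ((θ : G → ℂ) t / (θ : G → ℂ) 1) =
      ∑ t ∈ (Finset.univ : Finset G).filter (· ∈ K),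
        (Nat.card K : ℂ)⁻¹ * ((θ : G → ℂ) t / (θ : G → ℂ) 1) := by
    rw [Finset.sum_filter]
    apply Finset.sum_congr rfl
    intro t _
    by_cases ht : t ∈ K
    · rw [if_pos ht, avgFun_of_mem K ht]
    · rw [if_neg ht, avgFun_of_not_mem K ht, zero_mul]
  rw [h1, Finset.sum_subtype ((Finset.univ : Finset G).filter (· ∈ K)) (p := (· ∈ K))
    (fun x => by simp)]
  have h2 := sum_coset_irr K θ.2 (1 : G)
  simp only [one_mul] at h2
  have h3 : ∑ n : K, (Nat.card K : ℂ)⁻¹ * ((θ : G → ℂ) n / (θ : G → ℂ) 1) =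
      (Nat.card K : ℂ)⁻¹ * ((∑ n : K, (θ : G → ℂ) n) / (θ : G → ℂ) 1) := by
    rw [Finset.sum_div, Finset.mul_sum]
  rw [h3, h2]
  by_cases hker : ∀ n ∈ K, (θ : G → ℂ) n = (θ : G → ℂ) 1
  · rw [if_pos hker, if_pos hker]
    field_simp
  · rw [if_neg hker, if_neg hker, zero_div, mul_zero]

/-- **a normal subgroup of order prime to `p` in the kernel of one member of a block lies in the
kernel of every member** -/
theorem ker_of_sameBlock {p : ℕ} [hp : Fact p.Prime] (hM : Cfsg.IsPModular p M)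
    (K : Subgroup G) [hK : K.Normal] (hKp : ¬ p ∣ Nat.card K) (θ θ' : Cfsg.IrrCharacter G)
    (h : Cfsg.SameBlock M (θ : G → ℂ) (θ' : G → ℂ))
    (hθ : ∀ n ∈ K, (θ : G → ℂ) n = (θ : G → ℂ) 1) :
    ∀ n ∈ K, (θ' : G → ℂ) n = (θ' : G → ℂ) 1 := by
  classical
  by_contra hcon
  have h1 := sum_mul_sub_of_sameBlock hM.2.1 (avgFun K) (avgFun_isClassFunction K)
    (avgFun_memLocalRing hM K hKp) (θ : G → ℂ) (θ' : G → ℂ)
    (IsCharacter.isClassFunction (IsIrrCharacter.isCharacter θ.2))
    (IsCharacter.isClassFunction (IsIrrCharacter.isCharacter θ'.2)) h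
  have h2 : ∑ t, avgFun K t * ((θ : G → ℂ) t / (θ : G → ℂ) 1 - (θ' : G → ℂ) t / (θ' : G → ℂ) 1) =
      classVec (avgFun K) θ - classVec (avgFun K) θ' := by
    unfold classVec
    rw [← Finset.sum_sub_distrib]
    apply Finset.sum_congr rfl
    intro t _
    ring
  rw [h2, classVec_avgFun, classVec_avgFun, if_pos hθ, if_neg hcon, sub_zero] at h1
  exact not_memLocalIdeal_one h1

/-- a normal subgroup of order prime to `p` in the kernel of one member of a block lies in the
kernel of the block -/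
theorem ker_block_of_mem {p : ℕ} [hp : Fact p.Prime] (hM : Cfsg.IsPModular p M)
    (K : Subgroup G) [hK : K.Normal] (hKp : ¬ p ∣ Nat.card K) (f : Set (Cfsg.IrrCharacter G))
    (hf : Cfsg.IsPBlock M f) (θ : Cfsg.IrrCharacter G) (hθf : θ ∈ f)
    (hθ : ∀ n ∈ K, (θ : G → ℂ) n = (θ : G → ℂ) 1) :
    ∀ θ' ∈ f, ∀ n ∈ K, (θ' : G → ℂ) n = (θ' : G → ℂ) 1 := by
  intro θ' hθ'
  rw [eq_blockOf_of_mem hM.2.1 f hf θ hθf] at hθ'
  exact ker_of_sameBlock hM K hKp θ θ' hθ' hθ

omit [Fintype G] in
/-- the Brauer central character at the trivial subgroup is the induced central character -/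
theorem brauerCentralChar_bot (H : Subgroup G) (ξ : H → ℂ) (g : G) :
    Cfsg.brauerCentralChar (⊥ : Subgroup G) H ξ g = Cfsg.inducedCentralChar H ξ g := by
  unfold Cfsg.brauerCentralChar Cfsg.inducedCentralChar
  have e : {h : H | IsConj g (h : G) ∧
      (h : G) ∈ Subgroup.centralizer (((⊥ : Subgroup G) : Subgroup G) : Set G)} =
      {h : H | IsConj g (h : G)} := by
    ext h
    constructor
    · intro hh; exact hh.1
    · intro hh
      refine ⟨hh, ?_⟩
      rw [Subgroup.mem_centralizer_iff]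
      intro u hu
      have : u = 1 := hu
      rw [this, one_mul, mul_one]
  rw [e]

/-- central character values of a class function with local values through an induced block -/
theorem classVec_restrict_sub_of_induced {p : ℕ} (hM : Cfsg.IsPModular p M) (H : Subgroup G)
    [Fintype H] (b : Set (Cfsg.IrrCharacter H)) (B : Set (Cfsg.IrrCharacter G))
    (hind : Cfsg.IsInducedBlock M H b B) (u : G → ℂ) (hu : Cfsg.IsClassFunction G u)
    (huloc : ∀ t, Cfsg.MemLocalRing M (u t)) (ξ : Cfsg.IrrCharacter H) (hξ : ξ ∈ b)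
    (χ : Cfsg.IrrCharacter G) (hχ : χ ∈ B) :
    Cfsg.MemLocalIdeal M (classVec (fun h : H => u (h : G)) ξ - classVec u χ) := by
  have h1 := classVec_truncCent_sub hM (⊥ : Subgroup G) H u hu huloc ξ χ
    (fun g => by rw [brauerCentralChar_bot]; exact hind.2.2 ξ hξ χ hχ g)
  have e : (fun h : H => truncCent (⊥ : Subgroup G) u (h : G)) = fun h : H => u (h : G) := by
    funext h
    apply truncCent_of_mem
    rw [Subgroup.mem_centralizer_iff]
    intro v hv
    have : v = 1 := hv
    rw [this, one_mul, mul_one]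
  rw [e] at h1
  exact h1

/-- **a normal subgroup `K` of order prime to `p` lies in the kernel of an induced block as soon
as its intersection with the subgroup lies in the kernel of the inducing block** -/
theorem ker_of_induced {p : ℕ} [hp : Fact p.Prime] (hM : Cfsg.IsPModular p M) (H : Subgroup G)
    (b : Set (Cfsg.IrrCharacter H)) (B : Set (Cfsg.IrrCharacter G))
    (hind : Cfsg.IsInducedBlock M H b B) (K : Subgroup G) [hK : K.Normal]
    (hKp : ¬ p ∣ Nat.card K)
    (hker : ∀ ξ ∈ b, ∀ h : H, (h : G) ∈ K → (ξ : H → ℂ) h = (ξ : H → ℂ) 1) :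
    ∀ χ ∈ B, ∀ k ∈ K, (χ : G → ℂ) k = (χ : G → ℂ) 1 := by
  classical
  haveI : Fintype H := Fintype.ofFinite H
  intro χ hχ
  by_contra hcon
  obtain ⟨ξ, hξb⟩ := hind.1
  have hξ : ξ ∈ b := by rw [hξb]; exact mem_blockOf_self hM.2.1 ξ
  have hξ1 : (ξ : H → ℂ) 1 ≠ 0 := IsIrrCharacter.apply_one_ne_zero ξ.2
  have h1 := classVec_restrict_sub_of_induced hM H b B hind (avgFun K) (avgFun_isClassFunction K)
    (avgFun_memLocalRing hM K hKp) ξ hξ χ hχ
  rw [classVec_avgFun, if_neg hcon, sub_zero] at h1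
  have hK0 : (Nat.card K : ℂ) ≠ 0 := by
    have : 0 < Nat.card K := Nat.card_pos
    exact_mod_cast this.ne'
  have h2 : classVec (fun h : H => avgFun K (h : G)) ξ =
      (Nat.card (K.subgroupOf H) : ℂ) * (Nat.card K : ℂ)⁻¹ := by
    unfold classVec
    have h3 : ∀ t : H, avgFun K (t : G) * ((ξ : H → ℂ) t / (ξ : H → ℂ) 1) =
        if t ∈ K.subgroupOf H then (Nat.card K : ℂ)⁻¹ else 0 := by
      intro t
      by_cases ht : (t : G) ∈ K
      · rw [if_pos (Subgroup.mem_subgroupOf.mpr ht), avgFun_of_mem K ht, hker ξ hξ t ht,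
          div_self hξ1, mul_one]
      · rw [if_neg (fun h => ht (Subgroup.mem_subgroupOf.mp h)), avgFun_of_not_mem K ht, zero_mul]
    rw [Finset.sum_congr rfl (fun t _ => h3 t), ← Finset.sum_filter, Finset.sum_const,
      nsmul_eq_mul]
    congr 2
    rw [Nat.card_eq_fintype_card, Fintype.card_subtype]
  rw [h2] at h1
  have h4 := MemLocalIdeal.mul_left hM.2.1 (memLocalRing_natCast hM.2.1 (M := M) (Nat.card K)) h1
  have e : (Nat.card K : ℂ) * ((Nat.card (K.subgroupOf H) : ℂ) * (Nat.card K : ℂ)⁻¹) =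
      ((Nat.card (K.subgroupOf H) : ℕ) : ℂ) := by
    field_simp
  rw [e] at h4
  have h5 := dvd_of_memLocalIdeal_natCast hM _ h4
  apply hKp
  apply h5.trans
  rw [← Subgroup.card_map_of_injective (Subgroup.subtype_injective H)]
  apply Subgroup.card_dvd_of_le
  rw [Subgroup.subgroupOf_map_subtype]
  exact inf_le_left

end Vec

end Cfsg.Agent.Helper6
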