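import Mathlib
import Cfsg.Prelude.Def_Characters
import Cfsg.Prelude.Def_Blocks
import Cfsg.Prelude.Def_BlockLocal
import Cfsg.Prelude.Def_BrauerPairs
import Cfsg.Prelude.Def_OddOrderLocal
import Cfsg.Agent.Helper6.PiKerB
import Cfsg.Agent.Helper6.PairConj2

/-!
# The `π'`-core of the centralizer in the kernel of a Brauer pair: descent along inclusions
-/

set_option autoImplicit false
set_option linter.style.haveILetI false

namespace Cfsg.Agent.Helper6

open scoped ComplexConjugate

universe u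

variable {G : Type u} [Group G] {M : Ideal Cfsg.AlgInt}

/-- the `π'`-core of `C_G(Q)` lies in the kernel of every member of `f` -/
def PiKer (π : Set ℕ) (Q : Subgroup G)
    (f : Set (Cfsg.IrrCharacter (Subgroup.centralizer (Q : Set G)))) : Prop :=
  ∀ ξ ∈ f, ∀ c ∈ Cfsg.piCore {q | q ∉ π} (Subgroup.centralizer (Q : Set G)),
    (ξ : Subgroup.centralizer (Q : Set G) → ℂ) c = (ξ : Subgroup.centralizer (Q : Set G) → ℂ) 1

/-- conjugation by an element of the normalizer, as an automorphism -/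
noncomputable def nconjEquiv (K : Subgroup G) (g : G)
    (hg : g ∈ Subgroup.normalizer (K : Set G)) : K ≃* K :=
  MulEquiv.ofBijective (nconjHom K g hg) (nconjHom_bijective K g hg)

theorem coe_nconjEquiv (K : Subgroup G) (g : G) (hg : g ∈ Subgroup.normalizer (K : Set G))
    (k : K) : ((nconjEquiv K g hg k : K) : G) = g⁻¹ * (k : G) * g := rfl

/-- the image in `G` of the `π`-core of a subgroup is normalized by the normalizer of the
subgroup -/
theorem conj_mem_piCore_map (π : Set ℕ) (K : Subgroup G) (g : G)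
    (hg : g ∈ Subgroup.normalizer (K : Set G)) (x : G)
    (hx : x ∈ (Cfsg.piCore π K).map K.subtype) :
    g⁻¹ * x * g ∈ (Cfsg.piCore π K).map K.subtype := by
  obtain ⟨k, hk, rfl⟩ := hx
  have h1 : nconjEquiv K g hg k ∈ (Cfsg.piCore π K).map (nconjEquiv K g hg).toMonoidHom :=
    ⟨k, hk, rfl⟩
  rw [piCore_map_mulEquiv] at h1
  exact ⟨nconjEquiv K g hg k, h1, rfl⟩

theorem normalizer_le_normalizer_piCore_map (π : Set ℕ) (K : Subgroup G) :
    Subgroup.normalizer (K : Set G) ≤
      Subgroup.normalizer (((Cfsg.piCore π K).map K.subtype : Subgroup G) : Set G) := by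
  intro g hg
  rw [Subgroup.mem_normalizer_iff]
  intro x
  constructor
  · intro hx
    have hg' : g⁻¹ ∈ Subgroup.normalizer (K : Set G) := Subgroup.inv_mem _ hg
    have := conj_mem_piCore_map π K g⁻¹ hg' x hx
    rwa [inv_inv] at this
  · intro hx
    have := conj_mem_piCore_map π K g hg _ hx
    have e : g⁻¹ * (g * x * g⁻¹) * g = x := by group
    rwa [e] at this

section Main

variable [Fintype G] {p : ℕ} [hp : Fact p.Prime]

/-- **descent along a normal inclusion of Brauer pairs** -/
theorem piKer_of_isNormalSubpair (hM : Cfsg.IsPModular p M) (π : Set ℕ) (hpπ : p ∈ π)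
    (Q P : Subgroup G) (f : Set (Cfsg.IrrCharacter (Subgroup.centralizer (Q : Set G))))
    (e : Set (Cfsg.IrrCharacter (Subgroup.centralizer (P : Set G))))
    (hn : Cfsg.IsNormalSubpair p M Q f P e) (hPe : PiKer π P e) : PiKer π Q f := by
  classical
  obtain ⟨⟨hQ, hf⟩, ⟨hP, he⟩, hQP, hPN, hst, hΩ⟩ := hn
  haveI : Fintype (Subgroup.centralizer (Q : Set G)) := Fintype.ofFinite _
  haveI : Fintype (Subgroup.centralizer (P : Set G)) := Fintype.ofFinite _
  haveI : Finite (Cfsg.IrrCharacter (Subgroup.centralizer (Q : Set G))) := irr_finite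
  haveI : Fintype (Cfsg.IrrCharacter (Subgroup.centralizer (Q : Set G))) := Fintype.ofFinite _
  have hCle : Subgroup.centralizer (P : Set G) ≤ Subgroup.centralizer (Q : Set G) :=
    Subgroup.centralizer_le hQP
  set K := Cfsg.piCore {q | q ∉ π} (Subgroup.centralizer (Q : Set G)) with hK
  have hKp : ¬ p ∣ Nat.card K := not_dvd_card_piCore_compl hp.1 π hpπ
  obtain ⟨ζ, hζf⟩ := hf
  have hζ : ζ ∈ f := by rw [hζf]; exact mem_blockOf_self hM.2.1 ζ
  have hfblock : Cfsg.IsPBlock M f := ⟨ζ, hζf⟩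
  by_contra hcon
  -- no member of `f` has `K` in its kernel
  have hnone : ∀ θ ∈ f, ¬ ∀ n ∈ K, (θ : Subgroup.centralizer (Q : Set G) → ℂ) n =
      (θ : Subgroup.centralizer (Q : Set G) → ℂ) 1 := by
    intro θ hθ hker
    apply hcon
    intro ξ hξ c hc
    exact ker_block_of_mem hM K hKp f hfblock θ hθ hker ξ hξ c hc
  -- the product of the block idempotent with the averaging idempotent vanishes
  have hprod : ∀ x : Subgroup.centralizer (Q : Set G),
      cnv (Cfsg.blockCoeff f) (avgFun K) x = 0 := by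
    intro x
    rw [cnv_eq_idemCoeff _ _ (blockCoeff_isClassFunction f) (avgFun_isClassFunction K)]
    have h0 : classVec (Cfsg.blockCoeff f) * classVec (avgFun K) = 0 := by
      funext θ
      rw [Pi.mul_apply, classVec_blockCoeff, classVec_avgFun, Pi.zero_apply]
      by_cases hθ : θ ∈ f
      · rw [if_neg (hnone θ hθ), mul_zero]
      · rw [if_neg hθ, zero_mul]
    rw [h0, idemCoeff_zero]
  -- the functions on `G`
  set K' : Subgroup G := K.map (Subgroup.centralizer (Q : Set G)).subtype with hK'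
  have hK'le : K' ≤ Subgroup.centralizer (Q : Set G) := Subgroup.map_subtype_le _
  have hcardK' : Nat.card K' = Nat.card K :=
    Subgroup.card_map_of_injective (Subgroup.subtype_injective _)
  have hK'p : ¬ p ∣ Nat.card K' := by rw [hcardK']; exact hKp
  have hmemK' : ∀ y : Subgroup.centralizer (Q : Set G), (y : G) ∈ K' ↔ y ∈ K := by
    intro y
    constructor
    · rintro ⟨k, hk, hky⟩
      have : k = y := Subtype.ext hky
      rwa [← this]
    · intro hy
      exact ⟨y, hy, rfl⟩
  set β := Cfsg.subgroupBlockCoeff (Subgroup.centralizer (Q : Set G)) f with hβ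
  set γ := avgFun K' with hγ
  have hγ1 : ∀ y : Subgroup.centralizer (Q : Set G), γ (y : G) = avgFun K y := by
    intro y
    by_cases hy : y ∈ K
    · rw [hγ, avgFun_of_mem K' ((hmemK' y).mpr hy), avgFun_of_mem K hy, hcardK']
    · rw [hγ, avgFun_of_not_mem K' (fun h => hy ((hmemK' y).mp h)), avgFun_of_not_mem K hy]
  have hγ0 : ∀ x, x ∉ Subgroup.centralizer (Q : Set G) → γ x = 0 :=
    fun x hx => avgFun_of_not_mem K' (fun h => hx (hK'le h))
  have hcnv0 : ∀ x : Subgroup.centralizer (Q : Set G), cnv β γ (x : G) = 0 := by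
    intro x
    rw [cnv_ext_right (Subgroup.centralizer (Q : Set G)) β γ (avgFun K) hγ1 hγ0 x]
    have e : (fun h : Subgroup.centralizer (Q : Set G) => β (h : G)) = Cfsg.blockCoeff f := by
      funext h
      rw [hβ, subgroupBlockCoeff_of_mem _ _ _ h.2]
    rw [e]
    exact hprod x
  -- invariance
  have hNQ : Subgroup.normalizer (Q : Set G) ≤ Subgroup.normalizer
      ((Subgroup.centralizer (Q : Set G) : Subgroup G) : Set G) :=
    fun x hx => normalizer_le_normalizer_centralizer Q hx
  have hK'norm : Subgroup.normalizer (Q : Set G) ≤ Subgroup.normalizer (K' : Set G) :=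
    hNQ.trans (normalizer_le_normalizer_piCore_map _ _)
  have hβP : ConjInv P β := conjInv_subgroupBlockCoeff_of_stabilizes _ P f hst
  have hβC : ConjInv (Subgroup.centralizer (P : Set G)) β :=
    (conjInv_subgroupBlockCoeff_self _ f).mono hCle
  have hγN : ∀ x u : G, u ∈ Subgroup.normalizer (Q : Set G) → γ (u * x * u⁻¹) = γ x :=
    fun x u hu => avgFun_conj K' x u (hK'norm hu)
  have hγP : ConjInv P γ := fun x u hu => hγN x u (hPN hu)
  have hγC : ConjInv (Subgroup.centralizer (P : Set G)) γ :=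
    fun x u hu => hγN x u (Subgroup.centralizer_le_normalizer _ (hCle hu))
  have hβloc : ∀ t, Cfsg.MemLocalRing M (β t) :=
    memLocalRing_subgroupBlockCoeff hM.2.1 _ f hfblock
  have hγloc : ∀ t, Cfsg.MemLocalRing M (γ t) := avgFun_memLocalRing hM K' hK'p
  obtain ⟨ξ, hξe⟩ := he
  have hξ : ξ ∈ e := by rw [hξe]; exact mem_blockOf_self hM.2.1 ξ
  have hξ1 : (ξ : Subgroup.centralizer (P : Set G) → ℂ) 1 ≠ 0 :=
    IsIrrCharacter.apply_one_ne_zero ξ.2
  have hmult := brauerOmega_cnv hM P hP β γ hβP hβC hγP hγC hβloc hγloc ξ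
  have h0 : Cfsg.brauerOmega P (cnv β γ) (ξ : Subgroup.centralizer (P : Set G) → ℂ) = 0 := by
    rw [brauerOmega_eq_classVec]
    apply Finset.sum_eq_zero
    intro x _
    have := hcnv0 ⟨(x : G), hCle x.2⟩
    rw [this, zero_mul]
  have h1 := hΩ ξ hξ
  -- the Brauer image of the averaging idempotent
  set K'' : Subgroup (Subgroup.centralizer (P : Set G)) :=
    K'.subgroupOf (Subgroup.centralizer (P : Set G)) with hK''
  have hK''n : K''.Normal := by
    refine ⟨fun n hn g => ?_⟩
    rw [hK'', Subgroup.mem_subgroupOf] at hn ⊢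
    have hgN : (g : G) ∈ Subgroup.normalizer (K' : Set G) :=
      hK'norm (Subgroup.centralizer_le_normalizer _ (hCle g.2))
    exact (Subgroup.mem_normalizer_iff.mp hgN _).mp hn
  have hK''card : Nat.card K'' ∣ Nat.card K' := by
    rw [← Subgroup.card_map_of_injective (Subgroup.subtype_injective
      (Subgroup.centralizer (P : Set G)))]
    apply Subgroup.card_dvd_of_le
    rw [hK'', Subgroup.subgroupOf_map_subtype]
    exact inf_le_left
  have hK''le : K'' ≤ Cfsg.piCore {q | q ∉ π} (Subgroup.centralizer (P : Set G)) := by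
    apply le_piCore_of_normal _ _ hK''n
    intro q hq hd
    have hd2 : q ∣ Nat.card K := by rw [← hcardK']; exact hd.trans hK''card
    exact piCore_card_prime_mem {q | q ∉ π} q hq hd2
  have h2 : Cfsg.brauerOmega P γ (ξ : Subgroup.centralizer (P : Set G) → ℂ) =
      (Nat.card K'' : ℂ) * (Nat.card K' : ℂ)⁻¹ := by
    rw [brauerOmega_eq_classVec]
    have h3 : ∀ t : Subgroup.centralizer (P : Set G),
        γ (t : G) * ((ξ : Subgroup.centralizer (P : Set G) → ℂ) t /
          (ξ : Subgroup.centralizer (P : Set G) → ℂ) 1) =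
        if t ∈ K'' then (Nat.card K' : ℂ)⁻¹ else 0 := by
      intro t
      by_cases ht : (t : G) ∈ K'
      · have ht'' : t ∈ K'' := Subgroup.mem_subgroupOf.mpr ht
        rw [if_pos ht'', hγ, avgFun_of_mem K' ht, hPe ξ hξ t (hK''le ht''), div_self hξ1, mul_one]
      · rw [if_neg (fun h => ht (Subgroup.mem_subgroupOf.mp h)), hγ, avgFun_of_not_mem K' ht,
          zero_mul]
    rw [Finset.sum_congr rfl (fun t _ => h3 t), ← Finset.sum_filter, Finset.sum_const,
      nsmul_eq_mul]
    congr 2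
    rw [Nat.card_eq_fintype_card, Fintype.card_subtype]
  rw [h0, h2, zero_sub] at hmult
  -- contradiction
  have h4 : Cfsg.MemLocalRing M ((Nat.card K'' : ℂ) * (Nat.card K' : ℂ)⁻¹) := by
    apply MemLocalRing.mul hM.2.1 (memLocalRing_natCast hM.2.1 _)
    have h5 : ¬ Cfsg.MemLocalIdeal M ((Nat.card K' : ℕ) : ℂ) :=
      fun h => hK'p (dvd_of_memLocalIdeal_natCast hM _ h)
    exact memLocalRing_inv_of_not_memLocalIdeal hM.2.1 (isIntegral_natCast (Nat.card K')) h5
  have h6 := MemLocalIdeal.mul_left hM.2.1 h4 h1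
  have h7 := MemLocalIdeal.add hM.2.1 (MemLocalIdeal.neg hmult) (MemLocalIdeal.neg h6)
  have e7 : -(-(Cfsg.brauerOmega P β (ξ : Subgroup.centralizer (P : Set G) → ℂ) *
      ((Nat.card K'' : ℂ) * (Nat.card K' : ℂ)⁻¹))) +
      -((Nat.card K'' : ℂ) * (Nat.card K' : ℂ)⁻¹ *
        (Cfsg.brauerOmega P β (ξ : Subgroup.centralizer (P : Set G) → ℂ) - 1)) =
      (Nat.card K'' : ℂ) * (Nat.card K' : ℂ)⁻¹ := by ring
  rw [e7] at h7
  have hK'0 : (Nat.card K' : ℂ) ≠ 0 := by
    have : 0 < Nat.card K' := Nat.card_pos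
    exact_mod_cast this.ne'
  have h8 := MemLocalIdeal.mul_left hM.2.1 (memLocalRing_natCast hM.2.1 (M := M) (Nat.card K')) h7
  have e8 : (Nat.card K' : ℂ) * ((Nat.card K'' : ℂ) * (Nat.card K' : ℂ)⁻¹) =
      ((Nat.card K'' : ℕ) : ℂ) := by
    field_simp
  rw [e8] at h8
  exact hK'p ((dvd_of_memLocalIdeal_natCast hM _ h8).trans hK''card)

/-- **descent along an inclusion of Brauer pairs** -/
theorem piKer_of_reflTransGen (hM : Cfsg.IsPModular p M) (π : Set ℕ) (hpπ : p ∈ π)
    (a b : Cfsg.BrauerPairIdx G)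
    (h : Relation.ReflTransGen (Cfsg.NormalSubpairRel p M) a b) (hb : PiKer π b.1 b.2) :
    PiKer π a.1 a.2 := by
  induction h with
  | refl => exact hb
  | tail _ hbc ih =>
    exact ih (piKer_of_isNormalSubpair hM π hpπ _ _ _ _ hbc hb)

theorem piKer_of_subpairLE (hM : Cfsg.IsPModular p M) (π : Set ℕ) (hpπ : p ∈ π)
    (Q P : Subgroup G) (f : Set (Cfsg.IrrCharacter (Subgroup.centralizer (Q : Set G))))
    (e : Set (Cfsg.IrrCharacter (Subgroup.centralizer (P : Set G))))
    (hle : Cfsg.SubpairLE p M Q f P e) (hPe : PiKer π P e) : PiKer π Q f :=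
  piKer_of_reflTransGen hM π hpπ ⟨Q, f⟩ ⟨P, e⟩ hle hPe

end Main

/-- the property is invariant under conjugation -/
theorem piKer_conj (π : Set ℕ) (Q : Subgroup G)
    (f : Set (Cfsg.IrrCharacter (Subgroup.centralizer (Q : Set G)))) (x : G)
    (h : PiKer π (Q.map (MulAut.conj x).toMonoidHom) (Cfsg.conjBlock Q x f)) : PiKer π Q f := by
  intro ξ hξ c hc
  have h1 : irrComp (centConjEquiv Q x).symm ξ ∈ Cfsg.conjBlock Q x f := by
    rw [conjBlock_eq_image]
    exact ⟨ξ, hξ, rfl⟩
  have h2 : centConjEquiv Q x c ∈ Cfsg.piCore {q | q ∉ π}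
      (Subgroup.centralizer ((Q.map (MulAut.conj x).toMonoidHom : Subgroup G) : Set G)) := by
    rw [← piCore_map_mulEquiv _ (centConjEquiv Q x)]
    exact ⟨c, hc, rfl⟩
  have h3 := h _ h1 _ h2
  rw [irrComp_apply, irrComp_apply, MulEquiv.symm_apply_apply, map_one] at h3
  exact h3

end Cfsg.Agent.Helper6
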