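import Mathlib
import Cfsg.Prelude.Def_Characters
import Cfsg.Prelude.Def_Blocks
import Cfsg.Prelude.Def_BlockLocal
import Cfsg.Prelude.Def_BrauerPairs
import Cfsg.Prelude.Def_OddOrderLocal
import Cfsg.Agent.Helper6.PiKerC
import Cfsg.Agent.Helper6.MaximalPairNormalizer
import Cfsg.Agent.Helper6.DerivedLengthBad

/-!
# The `π'`-core in the kernel of the Brauer correspondent: the maximal Brauer pair
-/

set_option autoImplicit false
set_option linter.style.haveILetI false

namespace Cfsg.Agent.Helper6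

open scoped ComplexConjugate

universe u

variable {G : Type u} [Group G] {M : Ideal Cfsg.AlgInt}

section Main

variable [Fintype G] {p : ℕ} [hp : Fact p.Prime]

/-- a block with defect group `D` has a Brauer pair on `D` -/
theorem exists_isBrauerPairOf_of_isDefectGroup (hM : Cfsg.IsPModular p M)
    (B : Set (Cfsg.IrrCharacter G)) (hB : Cfsg.IsPBlock M B) (D : Subgroup G)
    (hBD : Cfsg.IsDefectGroup p M B D) :
    ∃ e : Set (Cfsg.IrrCharacter (Subgroup.centralizer (D : Set G))),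
      Cfsg.IsMaximalBrauerPair p M B D e := by
  classical
  have hD : IsPGroup p D := IsPGroup.of_card (card_defectGroup hM.2.1 p hM.2.2 B hB D hBD)
  have hBD' := hBD
  obtain ⟨g₀, hg₀, S₀, hS₀⟩ := hBD
  have hg₀c : g₀ ∈ Subgroup.centralizer (D : Set G) := by
    rw [Subgroup.mem_centralizer_iff]
    intro u hu
    have hu' : u ∈ D := hu
    rw [hS₀] at hu'
    have h2 := sylow_map_le S₀ hu'
    exact Subgroup.mem_centralizer_singleton_iff.mp h2
  obtain ⟨ξ, χ, hχB, hcong⟩ := exists_irr_brauer_block hM D _ hD le_rfl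
    (Subgroup.centralizer_le_normalizer _) B hB g₀ hg₀c hg₀.2.1
  obtain ⟨B', hB', -⟩ := existsUnique_isBrauerPairOf hM D
    (Cfsg.blockOf M (ξ : Subgroup.centralizer (D : Set G) → ℂ)) ⟨hD, ξ, rfl⟩
  have h1 := brauerOmega_blockCoeff hM D B' hB'.2.1 ξ χ hcong
  have h2 := hB'.2.2 ξ (mem_blockOf_self hM.2.1 ξ)
  have hχB' : χ ∈ B' := by
    by_contra hcon
    rw [if_neg hcon, sub_zero] at h1
    have := MemLocalIdeal.sub hM.2.1 h1 h2
    rw [sub_sub_cancel] at this
    exact not_memLocalIdeal_one this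
  have hBB' : B' = B := by
    rw [eq_blockOf_of_mem hM.2.1 B' hB'.2.1 χ hχB', eq_blockOf_of_mem hM.2.1 B hB χ hχB]
  rw [hBB'] at hB'
  exact ⟨_, isMaximalBrauerPair_of_card_eq hM B D _ hB'
    (card_defectGroup hM.2.1 p hM.2.2 B hB D hBD')⟩

/-- **if the `π'`-core of `N_G(D)` lies in the kernel of the Brauer correspondent, then the
`π'`-core of `C_G(D)` lies in the kernel of a maximal Brauer pair on `D`** -/
theorem exists_maximal_piKer (hM : Cfsg.IsPModular p M) (π : Set ℕ) (hpπ : p ∈ π)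
    (B : Set (Cfsg.IrrCharacter G)) (hB : Cfsg.IsPBlock M B) (D : Subgroup G)
    (hBD : Cfsg.IsDefectGroup p M B D)
    (B₁ : Set (Cfsg.IrrCharacter (Subgroup.normalizer (D : Set G))))
    (hB₁ : Cfsg.IsInducedBlock M (Subgroup.normalizer (D : Set G)) B₁ B)
    (hB₁D : Cfsg.IsDefectGroup p M B₁ (D.subgroupOf (Subgroup.normalizer (D : Set G))))
    (hker : ∀ n : Subgroup.normalizer (D : Set G),
      n ∈ Cfsg.piCore {q | q ∉ π} (Subgroup.normalizer (D : Set G)) → n ∈ Cfsg.blockKer B₁) :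
    ∃ e : Set (Cfsg.IrrCharacter (Subgroup.centralizer (D : Set G))),
      Cfsg.IsMaximalBrauerPair p M B D e ∧ PiKer π D e := by
  classical
  obtain ⟨e, hmax⟩ := exists_isBrauerPairOf_of_isDefectGroup hM B hB D hBD
  refine ⟨e, hmax, ?_⟩
  have hD : IsPGroup p D := hmax.1.1.1
  have he : Cfsg.IsPBlock M e := hmax.1.1.2
  have hDN : D ≤ Subgroup.normalizer (D : Set G) := Subgroup.le_normalizer
  have hCN : Subgroup.centralizer (D : Set G) ≤ Subgroup.normalizer (D : Set G) :=
    Subgroup.centralizer_le_normalizer _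
  obtain ⟨b, hbpair, hDb, hind⟩ := normalizer_block_of_isMaximalBrauerPair hM B D e hmax
  have hbB₁ : b = B₁ := firstMain_ii_unique hM D hD B b B₁ hDb hB₁D hind hB₁
  subst hbB₁
  haveI hPn : (D.subgroupOf (Subgroup.normalizer (D : Set G))).Normal :=
    Subgroup.normal_in_normalizer
  haveI : Fintype (Subgroup.normalizer (D : Set G)) := Fintype.ofFinite _
  haveI : Fintype (Subgroup.centralizer
    ((D.subgroupOf (Subgroup.normalizer (D : Set G)) :
      Subgroup (Subgroup.normalizer (D : Set G))) : Set (Subgroup.normalizer (D : Set G)))) :=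
    Fintype.ofFinite _
  set C₁ := Subgroup.centralizer
    ((D.subgroupOf (Subgroup.normalizer (D : Set G)) :
      Subgroup (Subgroup.normalizer (D : Set G))) : Set (Subgroup.normalizer (D : Set G)))
    with hC₁
  haveI hC₁n : C₁.Normal := by
    rw [hC₁]
    infer_instance
  set Φ := centSubEquiv (Subgroup.normalizer (D : Set G)) D hDN hCN with hΦ
  set e₁ := localBlock (Subgroup.normalizer (D : Set G)) D hDN hCN e with he₁
  have hlo := eq_lyingOver_of_isBrauerPairOf hM
    (D.subgroupOf (Subgroup.normalizer (D : Set G))) b e₁ hbpair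
  obtain ⟨η, hηb⟩ := hbpair.2.1
  have hη : η ∈ b := by rw [hηb]; exact mem_blockOf_self hM.2.1 η
  have hη' := hη
  rw [hlo] at hη'
  obtain ⟨θ, ⟨g, hθg⟩, hne⟩ := hη'
  -- the conjugate `θ₀` of `θ` lying in `e₁` is a constituent of the restriction of `η`
  set θ₀ := conjIrr C₁ g θ with hθ₀
  have hηcf : Cfsg.IsClassFunction (Subgroup.normalizer (D : Set G))
      (η : Subgroup.normalizer (D : Set G) → ℂ) :=
    IsCharacter.isClassFunction (IsIrrCharacter.isCharacter η.2)
  have hne₀ : Cfsg.classInner (fun n : C₁ => (η : Subgroup.normalizer (D : Set G) → ℂ) n)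
      (θ₀ : C₁ → ℂ) ≠ 0 := by
    have h1 := classInner_conjFun C₁
      (fun n : C₁ => (η : Subgroup.normalizer (D : Set G) → ℂ) n) (θ : C₁ → ℂ) g
    rw [conjFun_restrict C₁ _ hηcf g] at h1
    have h2 : (θ₀ : C₁ → ℂ) = conjFun C₁ (θ : C₁ → ℂ) g := rfl
    rw [h2, h1]
    exact hne
  -- the `π'`-core of `C₁`
  set K₁ := Cfsg.piCore {q | q ∉ π} C₁ with hK₁
  set K₁' : Subgroup (Subgroup.normalizer (D : Set G)) := K₁.map C₁.subtype with hK₁'
  have hK₁'n : K₁'.Normal := by
    rw [← Subgroup.normalizer_eq_top_iff]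
    apply top_le_iff.mp
    calc (⊤ : Subgroup (Subgroup.normalizer (D : Set G)))
        = Subgroup.normalizer ((C₁ : Subgroup (Subgroup.normalizer (D : Set G))) :
            Set (Subgroup.normalizer (D : Set G))) := (Subgroup.normalizer_eq_top_iff.mpr hC₁n).symm
      _ ≤ _ := normalizer_le_normalizer_piCore_map _ C₁
  have hK₁'le : K₁' ≤ Cfsg.piCore {q | q ∉ π} (Subgroup.normalizer (D : Set G)) := by
    apply le_piCore_of_normal _ _ hK₁'n
    intro q hq hd
    rw [hK₁', Subgroup.card_map_of_injective (Subgroup.subtype_injective _)] at hd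
    exact piCore_card_prime_mem {q | q ∉ π} q hq hd
  have hkerη : ∀ n ∈ K₁, (η : Subgroup.normalizer (D : Set G) → ℂ)
      ((n : C₁) : Subgroup.normalizer (D : Set G)) =
      (η : Subgroup.normalizer (D : Set G) → ℂ) 1 := by
    intro n hn
    exact hker _ (hK₁'le ⟨n, hn, rfl⟩) η hη
  have hkerθ₀ := ker_constituent C₁ K₁ η hkerη θ₀ hne₀
  -- transport to `C_G(D)`
  obtain ⟨ξ₀, hξ₀e, hξ₀θ⟩ : ∃ ξ₀ ∈ e, irrComp Φ ξ₀ = θ₀ := hθg
  have hKmap := piCore_map_mulEquiv {q | q ∉ π} Φ
  have hkerξ₀ : ∀ c ∈ Cfsg.piCore {q | q ∉ π} (Subgroup.centralizer (D : Set G)),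
      (ξ₀ : Subgroup.centralizer (D : Set G) → ℂ) c =
        (ξ₀ : Subgroup.centralizer (D : Set G) → ℂ) 1 := by
    intro c hc
    rw [← hKmap] at hc
    obtain ⟨k, hk, rfl⟩ := hc
    have h1 := hkerθ₀ k hk
    rw [← hξ₀θ, irrComp_apply, irrComp_apply, map_one] at h1
    exact h1
  have hKp : ¬ p ∣ Nat.card (Cfsg.piCore {q | q ∉ π} (Subgroup.centralizer (D : Set G))) :=
    not_dvd_card_piCore_compl hp.1 π hpπ
  haveI : Fintype (Subgroup.centralizer (D : Set G)) := Fintype.ofFinite _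
  intro ξ hξ c hc
  exact ker_block_of_mem hM _ hKp e he ξ₀ hξ₀e hkerξ₀ ξ hξ c hc

end Main

end Cfsg.Agent.Helper6
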