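import Mathlib
import Cfsg.Prelude.Def_Characters
import Cfsg.Prelude.Def_Blocks
import Cfsg.Prelude.Def_BlockLocal
import Cfsg.Prelude.Def_BlockRank
import Cfsg.Prelude.Def_BrauerPairs
import Cfsg.Agent.Helper6.NilAbD
import Cfsg.Agent.Helper6.K4K
import Cfsg.Agent.Helper6.NilpotentInner
import Cfsg.Agent.Helper6.NilpotentSubpairs
import Cfsg.Agent.Helper6.InertialTrivial
import Cfsg.Agent.Helper6.CentralDefectA
import Cfsg.Agent.Helper6.PiKerD

/-!
# A nilpotent block with an abelian defect group has `p`-regular rank one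
-/

set_option autoImplicit false
set_option linter.style.haveILetI false

namespace Cfsg.Agent.Helper6.NilAb

open Cfsg.Agent.Helper6 Cfsg.Agent.Helper6.K4

open scoped ComplexConjugate

universe u

variable {G : Type u} [Group G] {M : Ideal Cfsg.AlgInt}

theorem isNilpotentBlock_castBlock {H K : Subgroup G} (h : H = K) (p : ℕ)
    (β : Set (Cfsg.IrrCharacter H)) (hβ : Cfsg.IsNilpotentBlock p M β) :
    Cfsg.IsNilpotentBlock p M (castBlock h β) := by
  subst h
  exact hβ

theorem isDefectGroup_castBlock {H K : Subgroup G} (h : H = K) (p : ℕ)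
    (β : Set (Cfsg.IrrCharacter H)) (D : Subgroup G)
    (hβ : Cfsg.IsDefectGroup p M β (D.subgroupOf H)) :
    Cfsg.IsDefectGroup p M (castBlock h β) (D.subgroupOf K) := by
  subst h
  exact hβ

/-- the sum of the ranks of the subsections at a non-trivial element is at least their number -/
theorem ncard_le_finsum_subsec [Finite G] (p : ℕ) [hp : Fact p.Prime] (hM : M.IsMaximal)
    (B : Set (Cfsg.IrrCharacter G)) (x : G) :
    (subsecSet M B x).ncard ≤ ∑ᶠ β ∈ subsecSet M B x, Cfsg.blockRank p β := by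
  classical
  haveI : Finite (Cfsg.IrrCharacter (Subgroup.centralizer ({x} : Set G))) := irr_finite
  have hfin : (subsecSet M B x).Finite := Set.toFinite _
  rw [finsum_mem_eq_finite_toFinset_sum _ hfin, Set.ncard_eq_toFinset_card _ hfin,
    Finset.card_eq_sum_ones]
  apply Finset.sum_le_sum
  intro β hβ
  rw [Set.Finite.mem_toFinset] at hβ
  obtain ⟨ψ, hψ⟩ := isPBlock_nonempty' hM β hβ.1
  exact blockRank_pos p β ψ hψ


/-- **a nilpotent block with an abelian defect group has `p`-regular rank one** -/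
theorem rank_one_of_nilpotent_abelian_aux {p : ℕ} [hp : Fact p.Prime]
    (hM : Cfsg.IsPModular p M) :
    ∀ n : ℕ, ∀ (G : Type u) [Group G] [Finite G], Nat.card G = n →
      ∀ (B : Set (Cfsg.IrrCharacter G)), Cfsg.IsNilpotentBlock p M B →
      ∀ P : Subgroup G, Cfsg.IsDefectGroup p M B P → (∀ x ∈ P, ∀ y ∈ P, x * y = y * x) →
        Cfsg.blockRank p B = 1 := by
  intro n
  induction n using Nat.strong_induction_on with
  | _ n ih =>
  intro G _ _ hn B hnil P hPD hab
  classical
  haveI := Fintype.ofFinite G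
  have hB := hnil.1
  by_cases hPZ : P ≤ Subgroup.center G
  · exact central_defect_rank_one hM B hB P hPD hPZ
  obtain ⟨v, hvP, hvZ⟩ := SetLike.not_le_iff_exists.mp hPZ
  obtain ⟨c, hmax⟩ := exists_isBrauerPairOf_of_isDefectGroup hM B hB P hPD
  have hPc : Cfsg.IsBrauerPair p M P c := hmax.1.1
  have hPp : IsPGroup p P := hPc.1
  have hcardP := card_defectGroup hM.2.1 p hM.2.2 B hB P hPD
  -- the subpairs on the cyclic subgroups
  have hfu : ∀ u ∈ P, ∃ f : Set (Cfsg.IrrCharacter
      (Subgroup.centralizer (Subgroup.zpowers u : Set G))),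
      Cfsg.IsPBlock M f ∧ Cfsg.SubpairLE p M (Subgroup.zpowers u) f P c := fun u hu =>
    (existsUnique_subpairLE hM P (Subgroup.zpowers u) c hPc
      (by rw [Subgroup.zpowers_le]; exact hu)).exists
  choose f hfB hfle using hfu
  -- the major subsection at `v`
  have hBf : Cfsg.IsBrauerPairOf p M B (Subgroup.zpowers v) (f v hvP) :=
    isBrauerPairOf_of_subpairLE hM P _ c (f v hvP) (hfle v hvP) B hmax.1
  set βv := castBlock (centralizer_zpowers_eq' v) (f v hvP) with hβv
  have hβind : Cfsg.IsInducedBlock M (Subgroup.centralizer ({v} : Set G)) βv B :=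
    isInducedBlock_of_pair hM B (Subgroup.zpowers v) (zpowers_le_centralizer_zpowers v)
      (f v hvP) hBf v (centralizer_zpowers_eq' v)
  have hβnil : Cfsg.IsNilpotentBlock p M βv :=
    isNilpotentBlock_castBlock _ p _ (isNilpotentBlock_of_isBrauerPairOf hM B hnil _ _ hBf)
  have hβD : Cfsg.IsDefectGroup p M βv
      ((P ⊓ Subgroup.centralizer (Subgroup.zpowers v : Set G)).subgroupOf
        (Subgroup.centralizer ({v} : Set G))) :=
    isDefectGroup_castBlock _ p _ _
      (inf_centralizer_isDefectGroup_of_nilpotent hM B P c hmax hnil _ _ (hfB v hvP)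
        (hfle v hvP))
  have hPle : P ≤ Subgroup.centralizer (Subgroup.zpowers v : Set G) := by
    intro x hx
    rw [centralizer_zpowers_eq', Subgroup.mem_centralizer_singleton_iff]
    exact hab x hx v hvP
  have hinf : P ⊓ Subgroup.centralizer (Subgroup.zpowers v : Set G) = P :=
    inf_eq_left.mpr hPle
  rw [hinf] at hβD
  have hPle' : P ≤ Subgroup.centralizer ({v} : Set G) := by
    rw [← centralizer_zpowers_eq']; exact hPle
  have hcardD : Nat.card (P.subgroupOf (Subgroup.centralizer ({v} : Set G))) = Nat.card P :=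
    Nat.card_congr (Subgroup.subgroupOfEquivOfLe hPle').toEquiv
  have hβab : ∀ x ∈ P.subgroupOf (Subgroup.centralizer ({v} : Set G)),
      ∀ y ∈ P.subgroupOf (Subgroup.centralizer ({v} : Set G)), x * y = y * x := by
    intro x hx y hy
    apply Subtype.ext
    simp only [Subgroup.coe_mul]
    exact hab _ (Subgroup.mem_subgroupOf.mp hx) _ (Subgroup.mem_subgroupOf.mp hy)
  have hlt : Nat.card (Subgroup.centralizer ({v} : Set G)) < n := by
    rw [← hn]
    have hne : Subgroup.centralizer ({v} : Set G) ≠ ⊤ := by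
      intro htop
      apply hvZ
      rw [Subgroup.mem_center_iff]
      intro g
      have hg : g ∈ Subgroup.centralizer ({v} : Set G) := by rw [htop]; exact Subgroup.mem_top g
      exact Subgroup.mem_centralizer_singleton_iff.mp hg
    have hle := Subgroup.card_le_card_group (Subgroup.centralizer ({v} : Set G))
    rcases lt_or_eq_of_le hle with h | h
    · exact h
    · exact absurd ((Subgroup.card_eq_iff_eq_top _).mp h) hne
  have hβrank : Cfsg.blockRank p βv = 1 :=
    ih _ hlt (Subgroup.centralizer ({v} : Set G)) rfl βv hβnil _ hβD hβab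
  have hβdef : Cfsg.blockDefect p βv = Cfsg.blockDefect p B := by
    have h1 := card_defectGroup hM.2.1 p hM.2.2 βv hβnil.1 _ hβD
    rw [hcardD, hcardP] at h1
    exact (Nat.pow_right_injective hp.out.two_le h1).symm
  have hvp : ∃ k : ℕ, orderOf v = p ^ k := by
    obtain ⟨k, hk⟩ := hPp ⟨v, hvP⟩
    have h1 : v ^ p ^ k = 1 := by
      have := congrArg (fun z : P => (z : G)) hk
      simpa using this
    obtain ⟨j, -, hj⟩ := (Nat.dvd_prime_pow hp.out).mp (orderOf_dvd_of_pow_eq_one h1)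
    exact ⟨j, hj⟩
  have hkle : Nat.card B ≤ Nat.card P := by
    rw [hcardP]
    exact card_le_of_major_rank_one hM B hB v hvp βv hβind hβdef hβrank
  -- counting the subsections
  obtain ⟨X, h1X, hXp, hXrep⟩ := exists_section_reps p (1 : G) ⟨0, by rw [orderOf_one, pow_zero]⟩
  have hformula := card_block_eq_sum_blockRank hM B hB X hXp hXrep
  rw [← Finset.add_sum_erase X _ h1X] at hformula
  have hN1 : ∑ᶠ b ∈ {b : Set (Cfsg.IrrCharacter (Subgroup.centralizer ({(1 : G)} : Set G))) |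
      Cfsg.IsInducedBlock M (Subgroup.centralizer ({(1 : G)} : Set G)) b B},
      Cfsg.blockRank p b = Cfsg.blockRank p B := finsum_subsec_one hM B hB
  have hNx : ∑ x ∈ X.erase 1, (subsecSet M B x).ncard ≤ ∑ x ∈ X.erase 1,
      ∑ᶠ b ∈ {b : Set (Cfsg.IrrCharacter (Subgroup.centralizer ({x} : Set G))) |
      Cfsg.IsInducedBlock M (Subgroup.centralizer ({x} : Set G)) b B},
      Cfsg.blockRank p b :=
    Finset.sum_le_sum fun x _ => ncard_le_finsum_subsec p hM.2.1 B x
  rw [hN1] at hformula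
  rw [← card_subsecIdx B X] at hNx
  -- the subsections coming from the elements of `P`
  have hord : ∀ u ∈ P, ∃ k : ℕ, orderOf u = p ^ k := by
    intro u hu
    obtain ⟨k, hk⟩ := hPp ⟨u, hu⟩
    have h1 : u ^ p ^ k = 1 := by
      have := congrArg (fun z : P => (z : G)) hk
      simpa using this
    obtain ⟨j, -, hj⟩ := (Nat.dvd_prime_pow hp.out).mp (orderOf_dvd_of_pow_eq_one h1)
    exact ⟨j, hj⟩
  have hmk' : ∀ w : {x : P // x ≠ 1}, ∃ ω : SubsecIdx M B X, ∃ g : G,
      g * (w.1 : G) * g⁻¹ = ω.1.1 ∧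
      pairOf ω.1.1 ω.2.1 = conjPair g ⟨Subgroup.zpowers (w.1 : G), f w.1.1 w.1.2⟩ := by
    intro w
    obtain ⟨x, ⟨hxX, hconj⟩, -⟩ := hXrep (w.1 : G) (hord _ w.1.2)
    obtain ⟨g, hg⟩ := isConj_iff.mp hconj
    have hx1 : x ≠ 1 := by
      intro h
      apply w.2
      apply Subtype.ext
      rw [h] at hg
      have := congrArg (fun y => g⁻¹ * y * g) hg
      have e1 : g⁻¹ * (g * (w.1 : G) * g⁻¹) * g = (w.1 : G) := by group
      have e2 : g⁻¹ * 1 * g = (1 : G) := by group
      have this' : g⁻¹ * (g * (w.1 : G) * g⁻¹) * g = g⁻¹ * 1 * g := this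
      rw [e1, e2] at this'
      exact this'
    obtain ⟨β, hβ, hpair⟩ := exists_subsection_of_mem hM B P c hmax (w.1 : G) _
      (hfle w.1.1 w.1.2) x g hg
    exact ⟨⟨⟨x, hx1, hxX⟩, ⟨β, hβ⟩⟩, g, hg, hpair⟩
  choose ι gι hιg hι using hmk'
  have hinj : Function.Injective ι := by
    intro w₁ w₂ h12
    have h1 := hι w₁
    rw [h12, hι w₂] at h1
    have hg1 := hιg w₁
    rw [h12, ← hιg w₂] at hg1
    -- `gι w₁ * w₁ * (gι w₁)⁻¹ = gι w₂ * w₂ * (gι w₂)⁻¹`
    set g := (gι w₁)⁻¹ * gι w₂ with hg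
    have h2 : conjPair g ⟨Subgroup.zpowers (w₂.1 : G), f w₂.1.1 w₂.1.2⟩ =
        (⟨Subgroup.zpowers (w₁.1 : G), f w₁.1.1 w₁.1.2⟩ : Cfsg.BrauerPairIdx G) := by
      rw [hg, ← conjPair_conjPair, h1, conjPair_conjPair, inv_mul_cancel, conjPair_one]
    have hle' : Cfsg.SubpairLE p M ((Subgroup.zpowers (w₂.1 : G)).map (MulAut.conj g).toMonoidHom)
        (Cfsg.conjBlock (Subgroup.zpowers (w₂.1 : G)) g (f w₂.1.1 w₂.1.2)) P c := by
      change Relation.ReflTransGen (Cfsg.NormalSubpairRel p M)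
        (conjPair g ⟨Subgroup.zpowers (w₂.1 : G), f w₂.1.1 w₂.1.2⟩) ⟨P, c⟩
      rw [h2]
      exact hfle w₁.1.1 w₁.1.2
    obtain ⟨u, huP, hu⟩ := exists_conj_eq_of_nilpotent hM B P c hmax hnil _
      (Subgroup.zpowers (w₂.1 : G)) (f w₂.1.1 w₂.1.2) rfl
      (by rw [Subgroup.zpowers_le]; exact w₂.1.2) (hfB w₂.1.1 w₂.1.2) (hfle w₂.1.1 w₂.1.2) g hle'
    have h3 := hu (w₂.1 : G) (Subgroup.mem_zpowers _)
    have h4 : u * (w₂.1 : G) * u⁻¹ = (w₂.1 : G) := by
      rw [hab u huP _ w₂.1.2, mul_assoc, mul_inv_cancel, mul_one]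
    rw [h4] at h3
    have h5 : g * (w₂.1 : G) * g⁻¹ = (w₁.1 : G) := by
      rw [hg]
      have : (gι w₁)⁻¹ * gι w₂ * (w₂.1 : G) * ((gι w₁)⁻¹ * gι w₂)⁻¹ =
          (gι w₁)⁻¹ * (gι w₂ * (w₂.1 : G) * (gι w₂)⁻¹) * gι w₁ := by group
      rw [this, ← hg1]
      group
    rw [h5] at h3
    exact Subtype.ext (Subtype.ext h3)
  have hcardP1 : Nat.card {x : P // x ≠ 1} = Nat.card P - 1 := by
    haveI : Fintype P := Fintype.ofFinite P
    rw [Nat.card_eq_fintype_card, Nat.card_eq_fintype_card]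
    have := Set.card_ne_eq (1 : P)
    simp only [Set.coe_ofPred] at this
    rw [this]
  have hge : Nat.card P - 1 ≤ Nat.card (SubsecIdx M B X) := by
    rw [← hcardP1]
    exact Nat.card_le_card_of_injective ι hinj
  have hrank1 : 1 ≤ Cfsg.blockRank p B := by
    obtain ⟨χ, hχ⟩ := isPBlock_nonempty' hM.2.1 B hB
    exact blockRank_pos p B χ hχ
  have hPpos : 0 < Nat.card P := Nat.card_pos
  omega

/-- **a nilpotent block with an abelian defect group has `p`-regular rank one** -/
theorem rank_one_of_nilpotent_abelian [Finite G] {p : ℕ} [hp : Fact p.Prime]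
    (hM : Cfsg.IsPModular p M) (B : Set (Cfsg.IrrCharacter G))
    (hnil : Cfsg.IsNilpotentBlock p M B) (P : Subgroup G)
    (hPD : Cfsg.IsDefectGroup p M B P) (hab : ∀ x ∈ P, ∀ y ∈ P, x * y = y * x) :
    Cfsg.blockRank p B = 1 :=
  rank_one_of_nilpotent_abelian_aux hM _ G rfl B hnil P hPD hab

end Cfsg.Agent.Helper6.NilAb
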