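import Mathlib
import Cfsg.Prelude.Def_Characters
import Cfsg.Prelude.Def_Blocks
import Cfsg.Prelude.Def_BlockRank
import Cfsg.Prelude.Def_BrauerPairs
import Cfsg.Agent.Helper6.HtCenB
import Cfsg.Agent.Helper6.NilAbE
import Cfsg.Agent.Helper6.Constituent

/-!
# Contributions attached to Brauer pairs, and their invariance under conjugation

For a pair `a = (Q, f)` (a subgroup with a set of irreducible characters of its centralizer), the
contribution `m^{(z, f)}_{χψ}` is the inner product of the section parts of `χ` and `ψ` at `z`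
relative to `f`.  It is invariant under simultaneous conjugation of the pair and the element.
-/

set_option autoImplicit false
set_option linter.style.haveILetI false

namespace Cfsg.Agent.Helper6.HtCen

open Cfsg.Agent.Helper6 Cfsg.Agent.Helper6.Maj Cfsg.Agent.Helper6.K4

open scoped ComplexConjugate

universe u

variable {G : Type u} [Group G] {M : Ideal Cfsg.AlgInt}

theorem classInner_inst_irrel {K : Type*} [Group K] (i₁ i₂ : Fintype K) (φ ψ : K → ℂ) :
    @Cfsg.classInner K _ i₁ φ ψ = @Cfsg.classInner K _ i₂ φ ψ := by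
  have : i₁ = i₂ := Subsingleton.elim _ _
  rw [this]

/-- the contribution of `χ, ψ` at the element `z`, relative to the pair `a` -/
noncomputable def contribP [Finite G] (p : ℕ) (a : Cfsg.BrauerPairIdx G) (χ ψ : G → ℂ) (z : G) : ℂ :=
  @Cfsg.classInner _ _ (Fintype.ofFinite (Subgroup.centralizer (a.1 : Set G)))
    (secPart p (Subgroup.centralizer (a.1 : Set G)) a.2 χ z)
    (secPart p (Subgroup.centralizer (a.1 : Set G)) a.2 ψ z)

theorem contribP_eq [Finite G] (p : ℕ) (Q : Subgroup G)
    (f : Set (Cfsg.IrrCharacter (Subgroup.centralizer (Q : Set G))))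
    [inst : Fintype (Subgroup.centralizer (Q : Set G))] (χ ψ : G → ℂ) (z : G) :
    contribP p ⟨Q, f⟩ χ ψ z =
      Cfsg.classInner (secPart p (Subgroup.centralizer (Q : Set G)) f χ z)
        (secPart p (Subgroup.centralizer (Q : Set G)) f ψ z) :=
  classInner_inst_irrel _ _ _ _

/-- the block part transported along an isomorphism -/
theorem blockPart_image_irrComp {K K' : Type u} [Group K] [Group K'] [Fintype K] [Fintype K']
    (κ : K ≃* K') (E : Set (Cfsg.IrrCharacter K')) (F : K' → ℂ) :
    Cfsg.blockPart (irrComp κ '' E) (fun k => F (κ k)) = fun k => Cfsg.blockPart E F (κ k) := by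
  funext k
  rw [blockPart_apply, blockPart_apply, finsum_mem_image (irrComp_injective κ).injOn]
  apply finsum_mem_congr rfl
  intro χ _
  rw [irrComp_apply]
  congr 1
  exact classInner_comp_equiv' κ.toEquiv F (χ : K' → ℂ)

/-- the `p`-regular truncation transported along an isomorphism -/
theorem pRegularPart_comp_mulEquiv {K K' : Type u} [Group K] [Group K'] (p : ℕ)
    (κ : K ≃* K') (F : K' → ℂ) :
    Cfsg.pRegularPart p (fun k => F (κ k)) = fun k => Cfsg.pRegularPart p F (κ k) := by
  classical
  funext k
  rw [pRegularPart_apply, pRegularPart_apply, MulEquiv.orderOf_eq]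

/-- **invariance of the contributions under conjugation** -/
theorem contribP_conjPair [Finite G] (p : ℕ) (g : G) (a : Cfsg.BrauerPairIdx G) (χ ψ : G → ℂ)
    (hχ : Cfsg.IsClassFunction G χ) (hψ : Cfsg.IsClassFunction G ψ) (z : G) :
    contribP p (conjPair g a) χ ψ (g * z * g⁻¹) = contribP p a χ ψ z := by
  classical
  obtain ⟨Q, f⟩ := a
  haveI : Fintype (Subgroup.centralizer (Q : Set G)) := Fintype.ofFinite _
  haveI : Fintype (Subgroup.centralizer
    ((Q.map (MulAut.conj g).toMonoidHom : Subgroup G) : Set G)) := Fintype.ofFinite _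
  show contribP p ⟨Q.map (MulAut.conj g).toMonoidHom, Cfsg.conjBlock Q g f⟩ χ ψ (g * z * g⁻¹) = _
  rw [contribP_eq, contribP_eq, conjBlock_eq_image]
  set κ := (centConjEquiv Q g).symm with hκ
  have hsec : ∀ ξ : G → ℂ, Cfsg.IsClassFunction G ξ →
      secPart p (Subgroup.centralizer
        ((Q.map (MulAut.conj g).toMonoidHom : Subgroup G) : Set G)) (irrComp κ '' f) ξ
          (g * z * g⁻¹) =
      fun k => secPart p (Subgroup.centralizer (Q : Set G)) f ξ z (κ k) := by
    intro ξ hξ
    unfold secPart
    have h1 : (fun c : Subgroup.centralizer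
        ((Q.map (MulAut.conj g).toMonoidHom : Subgroup G) : Set G) => ξ (g * z * g⁻¹ * (c : G))) =
        fun k => (fun c : Subgroup.centralizer (Q : Set G) => ξ (z * (c : G))) (κ k) := by
      funext c
      have e1 : ((κ c : Subgroup.centralizer (Q : Set G)) : G) = g⁻¹ * (c : G) * g := rfl
      simp only
      rw [e1]
      have e2 : g * z * g⁻¹ * (c : G) = g * (z * (g⁻¹ * (c : G) * g)) * g⁻¹ := by group
      rw [e2, hξ]
    rw [h1]
    have h2 := blockPart_image_irrComp κ f
      (fun c : Subgroup.centralizer (Q : Set G) => ξ (z * (c : G)))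
    have h3 := pRegularPart_comp_mulEquiv p κ
      (Cfsg.blockPart f (fun c : Subgroup.centralizer (Q : Set G) => ξ (z * (c : G))))
    exact (congrArg (Cfsg.pRegularPart p) h2).trans h3
  rw [hsec χ hχ, hsec ψ hψ]
  exact classInner_comp_equiv' κ.toEquiv _ _

/-- the diagonal contributions are non-negative reals -/
theorem classInner_self_eq {K : Type*} [Group K] [Fintype K] (A : K → ℂ) :
    Cfsg.classInner A A = ((((Nat.card K : ℝ))⁻¹ * ∑ s : K, Complex.normSq (A s) : ℝ) : ℂ) := by
  rw [classInner_def]
  push_cast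
  congr 1
  apply Finset.sum_congr rfl
  intro s _
  rw [Complex.mul_conj]

theorem classInner_self_re_nonneg {K : Type*} [Group K] [Fintype K] (A : K → ℂ) :
    0 ≤ (Cfsg.classInner A A).re := by
  rw [classInner_self_eq, Complex.ofReal_re]
  apply mul_nonneg
  · exact inv_nonneg.mpr (Nat.cast_nonneg _)
  · exact Finset.sum_nonneg (fun s _ => Complex.normSq_nonneg _)

/-- the arithmetic-geometric form of the Cauchy–Schwarz inequality -/
theorem norm_classInner_le {K : Type*} [Group K] [Fintype K] (A B : K → ℂ) :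
    ‖Cfsg.classInner A B‖ ≤ ((Cfsg.classInner A A).re + (Cfsg.classInner B B).re) / 2 := by
  rw [classInner_self_eq, classInner_self_eq, Complex.ofReal_re, Complex.ofReal_re, classInner_def,
    norm_mul, norm_inv, Complex.norm_natCast, ← mul_add, mul_div_assoc]
  apply mul_le_mul_of_nonneg_left _ (inv_nonneg.mpr (Nat.cast_nonneg _))
  rw [← Finset.sum_add_distrib, Finset.sum_div]
  refine (norm_sum_le _ _).trans (Finset.sum_le_sum (fun s _ => ?_))
  rw [norm_mul, RCLike.norm_conj, Complex.normSq_eq_norm_sq, Complex.normSq_eq_norm_sq]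
  nlinarith [sq_nonneg (‖A s‖ - ‖B s‖)]

theorem contribP_self_re_nonneg [Finite G] (p : ℕ) (a : Cfsg.BrauerPairIdx G) (χ : G → ℂ) (z : G) :
    0 ≤ (contribP p a χ χ z).re := by
  unfold contribP
  exact @classInner_self_re_nonneg _ _ (Fintype.ofFinite _) _

theorem norm_contribP_le [Finite G] (p : ℕ) (a : Cfsg.BrauerPairIdx G) (χ ψ : G → ℂ) (z : G) :
    ‖contribP p a χ ψ z‖ ≤ ((contribP p a χ χ z).re + (contribP p a ψ ψ z).re) / 2 := by
  unfold contribP
  exact @norm_classInner_le _ _ (Fintype.ofFinite _) _ _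

end Cfsg.Agent.Helper6.HtCen
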