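import Mathlib
import Cfsg.Prelude.Def_Characters
import Cfsg.Prelude.Def_Blocks
import Cfsg.Prelude.Def_BlockRank
import Cfsg.Prelude.Def_BrauerPairs
import Cfsg.Agent.Helper6.HtCenD
import Cfsg.Agent.Helper6.SectionCountB

/-!
# The diagonal contributions of distinct blocks at one element add up to at most the section norm
-/

set_option autoImplicit false
set_option linter.style.haveILetI false

namespace Cfsg.Agent.Helper6.HtCen

open Cfsg.Agent.Helper6 Cfsg.Agent.Helper6.Maj Cfsg.Agent.Helper6.K4

open scoped ComplexConjugate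

universe u

variable {G : Type u} [Group G] {M : Ideal Cfsg.AlgInt}

open Classical in
/-- pairing a block part against an irreducible character -/
theorem classInner_blockPart_irr {K : Type u} [Group K] [Fintype K]
    [Fintype (Cfsg.IrrCharacter K)] (β : Set (Cfsg.IrrCharacter K)) (F : K → ℂ)
    (θ' : Cfsg.IrrCharacter K) :
    Cfsg.classInner (Cfsg.blockPart β F) (θ' : K → ℂ) =
      if θ' ∈ β then Cfsg.classInner F (θ' : K → ℂ) else 0 := by
  rw [blockPart_eq_sum, classInner_sum_left, Finset.sum_eq_single θ']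
  · split_ifs
    · rw [classInner_smul_left, classInner_irr_self θ'.2, mul_one]
    · rw [classInner_zero_left]
  · intro θ _ hne
    split_ifs
    · rw [classInner_smul_left, classInner_irr_ne θ.2 θ'.2 (fun h => hne (Subtype.ext h)),
        mul_zero]
    · rw [classInner_zero_left]
  · intro h
    exact absurd (Finset.mem_univ _) h

theorem classInner_pRegularPart_right' {K : Type u} [Group K] [Fintype K] (p : ℕ) (f g : K → ℂ) :
    Cfsg.classInner f (Cfsg.pRegularPart p g) =
      Cfsg.classInner (Cfsg.pRegularPart p f) (Cfsg.pRegularPart p g) := by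
  rw [classInner_conj_symm (Cfsg.pRegularPart p g) f, classInner_pRegularPart_left,
    ← classInner_conj_symm]

open Classical in
/-- the truncation of the block part of `F` pairs with the members of the block like the
truncation of `F` -/
theorem classInner_pRegularPart_blockPart {K : Type u} [Group K] [Fintype K]
    [Fintype (Cfsg.IrrCharacter K)] {p : ℕ} [hp : Fact p.Prime] (hM : Cfsg.IsPModular p M)
    (β : Set (Cfsg.IrrCharacter K)) (hβ : Cfsg.IsPBlock M β) (F : K → ℂ)
    (hF : Cfsg.IsClassFunction K F) (θ : Cfsg.IrrCharacter K) (hθ : θ ∈ β) :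
    Cfsg.classInner (Cfsg.pRegularPart p (Cfsg.blockPart β F)) (θ : K → ℂ) =
      Cfsg.classInner (Cfsg.pRegularPart p F) (θ : K → ℂ) := by
  -- both sides are pairings against the truncation of `θ`
  rw [classInner_pRegularPart_left, ← classInner_pRegularPart_right',
    classInner_pRegularPart_left p F, ← classInner_pRegularPart_right' p F]
  have hexp := pRegularPart_expansion hM.2.1 p hM.2.2 β hβ θ hθ
  have key : ∀ Φ : K → ℂ, Cfsg.classInner Φ (Cfsg.pRegularPart p (θ : K → ℂ)) =
      ∑ θ' : Cfsg.IrrCharacter K, if θ' ∈ β then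
        conj (Cfsg.classInner (Cfsg.pRegularPart p (θ : K → ℂ)) (θ' : K → ℂ)) *
          Cfsg.classInner Φ (θ' : K → ℂ) else 0 := by
    intro Φ
    conv_lhs => rw [hexp]
    rw [classInner_sum_right]
    apply Finset.sum_congr rfl
    intro θ' _
    split_ifs
    · rw [classInner_smul_right]
    · rw [classInner_zero_right]
  rw [key (Cfsg.blockPart β F), key F]
  apply Finset.sum_congr rfl
  intro θ' _
  split_ifs with h
  · rw [classInner_blockPart_irr, if_pos h]
  · rfl

open Classical in
/-- **the squared norms of the truncated block parts of a class function, over distinct blocks, add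
up to at most the squared norm of its truncation** -/
theorem sum_blockParts_le {K : Type u} [Group K] [Fintype K] {p : ℕ} [hp : Fact p.Prime]
    (hM : Cfsg.IsPModular p M) (F : K → ℂ) (hF : Cfsg.IsClassFunction K F)
    (S : Finset (Set (Cfsg.IrrCharacter K))) (hS : ∀ β ∈ S, Cfsg.IsPBlock M β) :
    ∑ β ∈ S, (Cfsg.classInner (Cfsg.pRegularPart p (Cfsg.blockPart β F))
        (Cfsg.pRegularPart p (Cfsg.blockPart β F))).re ≤
      (Cfsg.classInner (Cfsg.pRegularPart p F) (Cfsg.pRegularPart p F)).re := by
  haveI : Finite (Cfsg.IrrCharacter K) := irr_finite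
  haveI : Fintype (Cfsg.IrrCharacter K) := Fintype.ofFinite _
  set F₀ := Cfsg.pRegularPart p F with hF₀
  have hF₀cf : Cfsg.IsClassFunction K F₀ := pRegularPart_isClassFunction p hF
  set w : Cfsg.IrrCharacter K → ℝ := fun θ =>
    Complex.normSq (Cfsg.classInner F₀ (θ : K → ℂ)) with hw
  have hw0 : ∀ θ, 0 ≤ w θ := fun θ => Complex.normSq_nonneg _
  -- Parseval for the truncation
  have hP1 : (Cfsg.classInner F₀ F₀).re = ∑ θ : Cfsg.IrrCharacter K, w θ := by
    have h1 := sum_inner_sq_eq_self (fun θ : Cfsg.IrrCharacter K => (θ : K → ℂ)) F₀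
      (classFunction_expansion F₀ hF₀cf)
    rw [← h1, Complex.re_sum]
    apply Finset.sum_congr rfl
    intro θ _
    rw [Complex.mul_conj, Complex.ofReal_re]
  -- Parseval inside a block
  have hP2 : ∀ β ∈ S, (Cfsg.classInner (Cfsg.pRegularPart p (Cfsg.blockPart β F))
        (Cfsg.pRegularPart p (Cfsg.blockPart β F))).re =
      ∑ θ : Cfsg.IrrCharacter K, if θ ∈ β then w θ else 0 := by
    intro β hβ
    have hx : Cfsg.pRegularPart p (Cfsg.blockPart β F) = ∑ θ : Cfsg.IrrCharacter K,
        if θ ∈ β then Cfsg.classInner F (θ : K → ℂ) • Cfsg.pRegularPart p (θ : K → ℂ) else 0 := by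
      rw [blockPart_eq_sum, pRegularPart_sum]
      apply Finset.sum_congr rfl
      intro θ _
      split_ifs
      · rw [pRegularPart_smul]
      · exact pRegularPart_zero p
    have h1 := sum_sq_pRegular_eq hM.2.1 p hM.2.2 β (hS β hβ)
      (Cfsg.pRegularPart p (Cfsg.blockPart β F)) (fun θ => Cfsg.classInner F (θ : K → ℂ)) hx
    rw [← h1, Complex.re_sum]
    apply Finset.sum_congr rfl
    intro θ _
    split_ifs with hθ
    · rw [← classInner_pRegularPart_left,
        classInner_pRegularPart_blockPart hM β (hS β hβ) F hF θ hθ, Complex.mul_conj,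
        Complex.ofReal_re]
    · rw [classInner_zero_right, zero_mul, Complex.zero_re]
  rw [Finset.sum_congr rfl hP2, hP1, Finset.sum_comm]
  apply Finset.sum_le_sum
  intro θ _
  rw [← Finset.sum_filter, Finset.sum_const, nsmul_eq_mul]
  have hcard : (S.filter (fun β => θ ∈ β)).card ≤ 1 := by
    rw [Finset.card_le_one]
    intro β₁ h₁ β₂ h₂
    rw [Finset.mem_filter] at h₁ h₂
    rw [eq_blockOf_of_mem hM.2.1 β₁ (hS β₁ h₁.1) θ h₁.2,
      eq_blockOf_of_mem hM.2.1 β₂ (hS β₂ h₂.1) θ h₂.2]
  have hc1 : ((S.filter (fun β => θ ∈ β)).card : ℝ) ≤ 1 := by exact_mod_cast hcard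
  calc ((S.filter (fun β => θ ∈ β)).card : ℝ) * w θ ≤ 1 * w θ :=
        mul_le_mul_of_nonneg_right hc1 (hw0 θ)
    _ = w θ := one_mul _

end Cfsg.Agent.Helper6.HtCen
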