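import Mathlib
import Cfsg.Prelude.Def_Characters
import Cfsg.Prelude.Def_Blocks
import Cfsg.Prelude.Def_BlockRank
import Cfsg.Prelude.Def_BrauerPairs
import Cfsg.Agent.Helper6.HtCenE

/-!
# The diagonal contributions of a family of subsections with bounded fusion classes
-/

set_option autoImplicit false
set_option linter.style.haveILetI false

namespace Cfsg.Agent.Helper6.HtCen

open Cfsg.Agent.Helper6 Cfsg.Agent.Helper6.Maj Cfsg.Agent.Helper6.K4

open scoped ComplexConjugate

universe u

variable {G : Type u} [Group G] {M : Ideal Cfsg.AlgInt}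

/-- the squared norm of `c ↦ χ(z c)` on the `p`-regular elements of `K` -/
noncomputable def secNorm (p : ℕ) (K : Subgroup G) [Finite K] (χ : G → ℂ) (z : G) : ℝ :=
  (@Cfsg.classInner _ _ (Fintype.ofFinite K)
    (Cfsg.pRegularPart p (fun c : K => χ (z * (c : G))))
    (Cfsg.pRegularPart p (fun c : K => χ (z * (c : G))))).re

theorem secNorm_congr [Finite G] (p : ℕ) {K K' : Subgroup G} (h : K = K') (χ : G → ℂ) (z : G) :
    secNorm p K χ z = secNorm p K' χ z := by
  subst h
  rfl

theorem secNorm_eq (p : ℕ) (K : Subgroup G) [Finite K] [inst : Fintype K] (χ : G → ℂ) (z : G) :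
    secNorm p K χ z = (Cfsg.classInner (Cfsg.pRegularPart p (fun c : K => χ (z * (c : G))))
      (Cfsg.pRegularPart p (fun c : K => χ (z * (c : G))))).re := by
  unfold secNorm
  rw [classInner_inst_irrel _ inst]

theorem pair_eq_mk (Q : Subgroup G) (b : Cfsg.BrauerPairIdx G) (h : b.1 = Q) :
    ∃ β : Set (Cfsg.IrrCharacter (Subgroup.centralizer (Q : Set G))), b = ⟨Q, β⟩ := by
  obtain ⟨Q', β⟩ := b
  simp only at h
  subst h
  exact ⟨β, rfl⟩

open Classical in
/-- distinct pairs on the same subgroup, at an element of that subgroup -/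
theorem sum_contribP_le [Finite G] {p : ℕ} [hp : Fact p.Prime] (hM : Cfsg.IsPModular p M)
    (χ : G → ℂ) (hχ : Cfsg.IsClassFunction G χ) (Q : Subgroup G) (z : G) (hz : z ∈ Q)
    (S : Finset (Cfsg.BrauerPairIdx G)) (hS : ∀ b ∈ S, b.1 = Q ∧ Cfsg.IsPBlock M b.2) :
    ∑ b ∈ S, (contribP p b χ χ z).re ≤ secNorm p (Subgroup.centralizer (Q : Set G)) χ z := by
  haveI : Fintype (Subgroup.centralizer (Q : Set G)) := Fintype.ofFinite _
  set ψ : Set (Cfsg.IrrCharacter (Subgroup.centralizer (Q : Set G))) → Cfsg.BrauerPairIdx G :=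
    fun β => ⟨Q, β⟩ with hψ
  have hinj : Function.Injective ψ := by
    intro β β' h
    exact eq_of_heq (Sigma.mk.inj_iff.mp h).2
  have h1 := Finset.sum_preimage ψ S hinj.injOn (fun b => (contribP p b χ χ z).re) (by
    intro b hb hnr
    exfalso
    obtain ⟨β, rfl⟩ := pair_eq_mk Q b (hS b hb).1
    exact hnr ⟨β, rfl⟩)
  rw [← h1, secNorm_eq]
  set F : Subgroup.centralizer (Q : Set G) → ℂ := fun c => χ (z * (c : G)) with hF
  have hFcf : Cfsg.IsClassFunction (Subgroup.centralizer (Q : Set G)) F := by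
    intro c k
    rw [hF]
    simp only [Subgroup.coe_mul, Subgroup.coe_inv]
    have hk : z * (k : G) = (k : G) * z := Subgroup.mem_centralizer_iff.mp k.2 z hz
    have e1 : z * ((k : G) * (c : G) * (k : G)⁻¹) = (k : G) * (z * (c : G)) * (k : G)⁻¹ := by
      rw [← mul_assoc, ← mul_assoc, hk]
      group
    rw [e1, hχ]
  have h2 := sum_blockParts_le hM F hFcf (S.preimage ψ hinj.injOn) (by
    intro β hβ
    rw [Finset.mem_preimage] at hβ
    exact (hS _ hβ).2)
  refine le_trans (le_of_eq ?_) h2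
  apply Finset.sum_congr rfl
  intro β _
  rw [hψ]
  simp only
  rw [contribP_eq]
  rfl

open Classical in
/-- **the section norms of an irreducible character add up to one** -/
theorem sum_secNorm_eq_one [Finite G] {p : ℕ} [hp : Fact p.Prime] (χ : Cfsg.IrrCharacter G)
    (X : Finset G) (hX : ∀ x ∈ X, ∃ k : ℕ, orderOf x = p ^ k)
    (hXrep : ∀ g : G, (∃ k : ℕ, orderOf g = p ^ k) → ∃! x, x ∈ X ∧ IsConj g x) :
    ∑ x ∈ X, secNorm p (Subgroup.centralizer ({x} : Set G)) (χ : G → ℂ) x = 1 := by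
  haveI : Fintype G := Fintype.ofFinite G
  have hG0 : (Nat.card G : ℂ) ≠ 0 := by
    have : 0 < Nat.card G := Nat.card_pos
    exact_mod_cast this.ne'
  obtain ⟨Λ, hΛ⟩ : ∃ Λ : G → ℂ, ∀ g, Λ g = (χ : G → ℂ) g * conj ((χ : G → ℂ) g) :=
    ⟨_, fun _ => rfl⟩
  have hΛcf : Cfsg.IsClassFunction G Λ := by
    intro g h
    rw [hΛ, hΛ, IsCharacter.isClassFunction (IsIrrCharacter.isCharacter χ.2)]
  have hleft : ∑ g : G, Λ g = (Nat.card G : ℂ) := by
    have h2 := classInner_irr_self χ.2
    rw [classInner_def] at h2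
    simp_rw [hΛ]
    rw [← mul_one (Nat.card G : ℂ), ← h2, ← mul_assoc, mul_inv_cancel₀ hG0, one_mul]
  have hright : ∑ g : G, Λ g = (Nat.card G : ℂ) *
      ((∑ x ∈ X, secNorm p (Subgroup.centralizer ({x} : Set G)) (χ : G → ℂ) x : ℝ) : ℂ) := by
    rw [sum_eq_sum_sections p Λ hΛcf X hX hXrep]
    push_cast
    rw [Finset.mul_sum]
    apply Finset.sum_congr rfl
    intro x hxX
    haveI : Fintype (Subgroup.centralizer ({x} : Set G)) := Fintype.ofFinite _
    rw [sum_isPPart_eq x (hX x hxX) Λ, secNorm_eq]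
    set A := Cfsg.pRegularPart p
      (fun c : Subgroup.centralizer ({x} : Set G) => (χ : G → ℂ) (x * (c : G))) with hA
    have hre : ((Cfsg.classInner A A).re : ℂ) = Cfsg.classInner A A := by
      rw [classInner_self_eq, Complex.ofReal_re]
    rw [hre, classInner_def]
    have hK0 : (Nat.card (Subgroup.centralizer ({x} : Set G)) : ℂ) ≠ 0 := by
      have : 0 < Nat.card (Subgroup.centralizer ({x} : Set G)) := Nat.card_pos
      exact_mod_cast this.ne'
    have hcc : (Nat.card {z : G // IsConj x z} : ℂ) *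
        (Nat.card (Subgroup.centralizer ({x} : Set G)) : ℂ) = (Nat.card G : ℂ) := by
      exact_mod_cast card_conj_mul_card_centralizer x
    have hsum : ∑ s : Subgroup.centralizer ({x} : Set G),
        (if p ∣ orderOf s then (0 : ℂ) else Λ (x * (s : G))) =
        ∑ s : Subgroup.centralizer ({x} : Set G), A s * conj (A s) := by
      apply Finset.sum_congr rfl
      intro s _
      rw [hA, pRegularPart_apply]
      split_ifs
      · rw [zero_mul]
      · rw [hΛ]
    rw [hsum, ← hcc]
    field_simp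
  have h3 := mul_left_cancel₀ hG0 ((mul_one _).trans (hleft.symm.trans hright))
  exact_mod_cast h3.symm

end Cfsg.Agent.Helper6.HtCen
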