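import Mathlib
import Cfsg.Prelude.Def_Characters
import Cfsg.Prelude.Def_Blocks
import Cfsg.Prelude.Def_BlockLocal
import Cfsg.Prelude.Def_BrauerPairs
import Cfsg.Agent.Helper6.AbelianInertial2

/-!
# Fusion of subpairs centralized by the defect group

`(P, e)` a maximal Brauer pair of `B`, `(Q, f) ≤ (P, e)` with `P ≤ C_G(Q)`, and `x` an element
such that the conjugate pair `(Q, f)^x` again lies below `(P, e)` and is centralized by `P`.  Then
`x = c⁻¹ y` with `c ∈ C_G(Q^x)` and `y` in the stabilizer of `(P, e)`.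
-/

set_option autoImplicit false
set_option linter.style.haveILetI false

namespace Cfsg.Agent.Helper6.HtCen

open Cfsg.Agent.Helper6

open scoped ComplexConjugate

universe u

variable {G : Type u} [Group G] {M : Ideal Cfsg.AlgInt}

set_option maxHeartbeats 1000000 in
/-- **fusion of central subpairs is controlled by the stabilizer of the maximal pair** -/
theorem exists_mul_of_conj_central [Fintype G] {p : ℕ} [hp : Fact p.Prime]
    (hM : Cfsg.IsPModular p M) (B : Set (Cfsg.IrrCharacter G)) (P : Subgroup G)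
    (e : Set (Cfsg.IrrCharacter (Subgroup.centralizer (P : Set G))))
    (hmax : Cfsg.IsMaximalBrauerPair p M B P e) (Q₀ : Subgroup G)
    (f₀ : Set (Cfsg.IrrCharacter (Subgroup.centralizer (Q₀ : Set G))))
    (hf₀ : Cfsg.IsPBlock M f₀) (hle₀ : Cfsg.SubpairLE p M Q₀ f₀ P e)
    (hPQ₀ : P ≤ Subgroup.centralizer (Q₀ : Set G)) (x : G)
    (hle : Cfsg.SubpairLE p M (Q₀.map (MulAut.conj x).toMonoidHom) (Cfsg.conjBlock Q₀ x f₀) P e)
    (hPH : P ≤ Subgroup.centralizer ((Q₀.map (MulAut.conj x).toMonoidHom : Subgroup G) : Set G)) :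
    ∃ c ∈ Subgroup.centralizer ((Q₀.map (MulAut.conj x).toMonoidHom : Subgroup G) : Set G),
      c * x ∈ Subgroup.normalizer (P : Set G) ∧
      Cfsg.StabilizesBlock (Subgroup.centralizer (P : Set G)) e (c * x) := by
  classical
  obtain ⟨Q, hQ⟩ : ∃ Q : Subgroup G, Q = Q₀.map (MulAut.conj x).toMonoidHom := ⟨_, rfl⟩
  obtain ⟨f, hfdef⟩ : ∃ f : Set (Cfsg.IrrCharacter (Subgroup.centralizer
      ((Q₀.map (MulAut.conj x).toMonoidHom : Subgroup G) : Set G))), f = Cfsg.conjBlock Q₀ x f₀ :=
    ⟨_, rfl⟩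
  have hf : Cfsg.IsPBlock M f := by rw [hfdef]; exact isPBlock_conjBlock Q₀ x f₀ hf₀
  rw [← hfdef] at hle
  have hlex0 := reflTransGen_conjPair (M := M) (p := p) x ⟨Q₀, f₀⟩ ⟨P, e⟩ hle₀
  have hlex : Cfsg.SubpairLE p M (Q₀.map (MulAut.conj x).toMonoidHom) f
      (P.map (MulAut.conj x).toMonoidHom) (Cfsg.conjBlock P x e) := by
    rw [hfdef]; exact hlex0
  have hPxH0 : P.map (MulAut.conj x).toMonoidHom ≤
      Subgroup.centralizer ((Q₀.map (MulAut.conj x).toMonoidHom : Subgroup G) : Set G) := by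
    rintro _ ⟨u, hu, rfl⟩
    rw [mem_centralizer_map_conj_iff]
    have e1 : x⁻¹ * ((MulAut.conj x).toMonoidHom u) * x = u := by
      show x⁻¹ * (x * u * x⁻¹) * x = u
      group
    rw [e1]
    exact hPQ₀ hu
  clear hlex0 hfdef hle₀ hPQ₀ hf₀
  revert f hPH hPxH0
  rw [← hQ]
  intro hPH f hle hf hlex hPxH
  haveI : Fintype (Subgroup.centralizer (Q : Set G)) := Fintype.ofFinite _
  have hPe : Cfsg.IsBrauerPair p M P e := hmax.1.1
  have hP : IsPGroup p P := hPe.1
  have hQP : Q ≤ P := SubpairLE.le hle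
  have hCH : Subgroup.centralizer (P : Set G) ≤ Subgroup.centralizer (Q : Set G) :=
    Subgroup.centralizer_le (by exact_mod_cast hQP)
  have hPN : P ≤ Subgroup.normalizer (Q : Set G) :=
    hPH.trans (Subgroup.centralizer_le_normalizer _)
  have hn := isNormalSubpair_of_subpairLE_of_le_normalizer hM P Q e f hPe hQP hPN hle
  have hcoef : ∀ t : Subgroup.centralizer (Q : Set G), Cfsg.blockCoeff f t =
      Cfsg.subgroupBlockCoeff (Subgroup.centralizer (Q : Set G)) f (t : G) :=
    fun t => (subgroupBlockCoeff_of_mem _ _ _ t.2).symm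
  have hpair := isBrauerPairOf_stabilizer_of_isNormalSubpair (M := M) (p := p) Q P
    (Subgroup.centralizer (Q : Set G)) f e hn hPH hCH f hf hcoef
  have hcardP := card_eq_of_le_centralizer hM B P Q e f hmax hQP hf hle hPH
  have hmaxH : Cfsg.IsMaximalBrauerPair p M f (P.subgroupOf (Subgroup.centralizer (Q : Set G)))
      (localBlock (Subgroup.centralizer (Q : Set G)) P hPH hCH e) :=
    isMaximalBrauerPair_of_card_eq hM f _ _ hpair (by
      rw [Nat.card_congr (Subgroup.subgroupOfEquivOfLe hPH).toEquiv]; exact hcardP)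
  -- the conjugate pair
  have hQPx : Q ≤ P.map (MulAut.conj x).toMonoidHom := SubpairLE.le hlex
  have hPxe : Cfsg.IsBrauerPair p M (P.map (MulAut.conj x).toMonoidHom)
      (Cfsg.conjBlock P x e) := ⟨hP.map _, isPBlock_conjBlock P x e hPe.2⟩
  have hCxH : Subgroup.centralizer
      ((P.map (MulAut.conj x).toMonoidHom : Subgroup G) : Set G) ≤
      Subgroup.centralizer (Q : Set G) := Subgroup.centralizer_le (by exact_mod_cast hQPx)
  have hnx := isNormalSubpair_of_subpairLE_of_le_normalizer hM _ Q _ f hPxe hQPx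
    (hPxH.trans (Subgroup.centralizer_le_normalizer _)) hlex
  have hpairx := isBrauerPairOf_stabilizer_of_isNormalSubpair (M := M) (p := p) Q _
    (Subgroup.centralizer (Q : Set G)) f _ hnx hPxH hCxH f hf hcoef
  obtain ⟨c, hc⟩ := exists_conj_subpairLE hM f _ _ _ _ hmaxH hpairx
  have hfst : ((P.map (MulAut.conj x).toMonoidHom).subgroupOf
      (Subgroup.centralizer (Q : Set G))).map (MulAut.conj c).toMonoidHom =
      P.subgroupOf (Subgroup.centralizer (Q : Set G)) :=
    Subgroup.eq_of_le_of_card_ge (SubpairLE.le hc) (by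
      rw [Subgroup.card_map_of_injective (MulAut.conj c).injective,
        Nat.card_congr (Subgroup.subgroupOfEquivOfLe hPxH).toEquiv,
        Nat.card_congr (Subgroup.subgroupOfEquivOfLe hPH).toEquiv,
        Subgroup.card_map_of_injective (MulAut.conj x).injective])
  have hsig := eq_of_reflTransGen_of_fst_eq hM
    ⟨P.subgroupOf (Subgroup.centralizer (Q : Set G)),
      localBlock (Subgroup.centralizer (Q : Set G)) P hPH hCH e⟩ ⟨_, _⟩ hc hfst
  obtain ⟨-, hag⟩ := exists_agree_of_sigma_eq _ _ _ _ hsig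
  -- the element `y = c x`
  have hyP : ∀ u ∈ P, (c : G) * x * u * ((c : G) * x)⁻¹ ∈ P := by
    intro u hu
    have hw : x * u * x⁻¹ ∈ P.map (MulAut.conj x).toMonoidHom := ⟨u, hu, rfl⟩
    have h1 : (⟨x * u * x⁻¹, hPxH hw⟩ : Subgroup.centralizer (Q : Set G)) ∈
        (P.map (MulAut.conj x).toMonoidHom).subgroupOf (Subgroup.centralizer (Q : Set G)) :=
      Subgroup.mem_subgroupOf.mpr hw
    have h2 : c * (⟨x * u * x⁻¹, hPxH hw⟩ : Subgroup.centralizer (Q : Set G)) * c⁻¹ ∈
        ((P.map (MulAut.conj x).toMonoidHom).subgroupOf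
          (Subgroup.centralizer (Q : Set G))).map (MulAut.conj c).toMonoidHom :=
      ⟨_, h1, rfl⟩
    rw [hfst, Subgroup.mem_subgroupOf] at h2
    have e1 : ((c * (⟨x * u * x⁻¹, hPxH hw⟩ : Subgroup.centralizer (Q : Set G)) * c⁻¹ :
        Subgroup.centralizer (Q : Set G)) : G) = (c : G) * x * u * ((c : G) * x)⁻¹ := by
      show (c : G) * (x * u * x⁻¹) * (c : G)⁻¹ = _
      group
    rw [e1] at h2
    exact h2
  have hyN : (c : G) * x ∈ Subgroup.normalizer (P : Set G) := by
    rw [Subgroup.mem_normalizer_iff_map_conj_eq]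
    apply Subgroup.eq_of_le_of_card_ge
    · rintro _ ⟨u, hu, rfl⟩
      exact hyP u hu
    · rw [Subgroup.card_map_of_injective (MulAut.conj ((c : G) * x)).injective]
  have hyst : Cfsg.StabilizesBlock (Subgroup.centralizer (P : Set G)) e ((c : G) * x) := by
    refine ⟨normalizer_le_normalizer_centralizer P hyN, fun ξ hξ => ?_⟩
    have hξ₁ : irrComp (centConjEquiv P x).symm ξ ∈ Cfsg.conjBlock P x e := by
      rw [conjBlock_eq_image]; exact ⟨ξ, hξ, rfl⟩
    have hξ₂ : irrComp (centSubEquiv (Subgroup.centralizer (Q : Set G)) _ hPxH hCxH)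
        (irrComp (centConjEquiv P x).symm ξ) ∈
        localBlock (Subgroup.centralizer (Q : Set G)) _ hPxH hCxH (Cfsg.conjBlock P x e) :=
      ⟨_, hξ₁, rfl⟩
    have hξ₃ : irrComp (centConjEquiv ((P.map (MulAut.conj x).toMonoidHom).subgroupOf
        (Subgroup.centralizer (Q : Set G))) c).symm
        (irrComp (centSubEquiv (Subgroup.centralizer (Q : Set G)) _ hPxH hCxH)
          (irrComp (centConjEquiv P x).symm ξ)) ∈
        Cfsg.conjBlock _ c
          (localBlock (Subgroup.centralizer (Q : Set G)) _ hPxH hCxH (Cfsg.conjBlock P x e)) := by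
      rw [conjBlock_eq_image]; exact ⟨_, hξ₂, rfl⟩
    obtain ⟨ξ₄, hξ₄, hag4⟩ := hag _ hξ₃
    obtain ⟨ξ', hξ', rfl⟩ := hξ₄
    refine ⟨ξ', hξ', fun k k' hk => ?_⟩
    have hk₃ : ((centSubEquiv (Subgroup.centralizer (Q : Set G)) P hPH hCH).symm k' :
        Subgroup.centralizer (Q : Set G)) ∈ Subgroup.centralizer
        ((((P.map (MulAut.conj x).toMonoidHom).subgroupOf
          (Subgroup.centralizer (Q : Set G))).map (MulAut.conj c).toMonoidHom :
            Subgroup (Subgroup.centralizer (Q : Set G))) :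
              Set (Subgroup.centralizer (Q : Set G))) := by
      rw [hfst]
      exact ((centSubEquiv (Subgroup.centralizer (Q : Set G)) P hPH hCH).symm k').2
    have h5 := hag4 ⟨_, hk₃⟩ ((centSubEquiv (Subgroup.centralizer (Q : Set G)) P hPH hCH).symm k')
      rfl
    rw [irrComp_apply, irrComp_apply, irrComp_apply, irrComp_apply,
      MulEquiv.apply_symm_apply] at h5
    rw [← h5]
    refine congrArg (ξ : Subgroup.centralizer (P : Set G) → ℂ) ?_
    apply Subtype.ext
    show x⁻¹ * ((c : G)⁻¹ * (k' : G) * (c : G)) * x = (k : G)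
    rw [hk]
    group
  exact ⟨(c : G), c.2, hyN, hyst⟩

end Cfsg.Agent.Helper6.HtCen
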