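import Mathlib
import Cfsg.Prelude.Def_Characters
import Cfsg.Prelude.Def_Blocks
import Cfsg.Prelude.Def_BlockRank
import Cfsg.Prelude.Def_BrauerPairs
import Cfsg.Agent.Helper6.HtCenF

/-!
# A family of subsections whose fusion classes have at most `e` members has total diagonal
contribution at most `e`
-/

set_option autoImplicit false
set_option linter.style.haveILetI false

namespace Cfsg.Agent.Helper6.HtCen

open Cfsg.Agent.Helper6 Cfsg.Agent.Helper6.Maj Cfsg.Agent.Helper6.K4

open scoped ComplexConjugate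

universe u

variable {G : Type u} [Group G] {M : Ideal Cfsg.AlgInt}

set_option maxHeartbeats 1000000 in
open Classical in
/-- **bound for the diagonal contributions of a family of subsections** -/
theorem sum_contribP_le_of_fusion [Finite G] {p : ℕ} [hp : Fact p.Prime]
    (hM : Cfsg.IsPModular p M) (χ : Cfsg.IrrCharacter G)
    {ι : Type*} [Fintype ι] (u : ι → G) (hu : ∀ i, ∃ k : ℕ, orderOf (u i) = p ^ k)
    (pair : ι → Cfsg.BrauerPairIdx G) (hp1 : ∀ i, (pair i).1 = Subgroup.zpowers (u i))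
    (hp2 : ∀ i, Cfsg.IsPBlock M (pair i).2) (e : ℕ)
    (hfus : ∀ i₀ : ι, (Finset.univ.filter (fun i => ∃ g : G, g * u i₀ * g⁻¹ = u i ∧
      conjPair g (pair i₀) = pair i)).card ≤ e) :
    ∑ i, (contribP p (pair i) (χ : G → ℂ) (χ : G → ℂ) (u i)).re ≤ e := by
  obtain ⟨X, -, hXp, hXrep⟩ := exists_section_reps p (1 : G) ⟨0, by rw [orderOf_one, pow_zero]⟩
  have hch : ∀ i, ∃ x g, x ∈ X ∧ g * u i * g⁻¹ = x := by
    intro i
    obtain ⟨x, ⟨hxX, hconj⟩, -⟩ := hXrep (u i) (hu i)
    obtain ⟨g, hg⟩ := isConj_iff.mp hconj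
    exact ⟨x, g, hxX, hg⟩
  choose xx gg hxX hgg using hch
  set bb : ι → Cfsg.BrauerPairIdx G := fun i => conjPair (gg i) (pair i) with hbb
  have hχcf := IsCharacter.isClassFunction (IsIrrCharacter.isCharacter χ.2)
  have h1 : ∀ i, (contribP p (pair i) (χ : G → ℂ) (χ : G → ℂ) (u i)).re =
      (contribP p (bb i) (χ : G → ℂ) (χ : G → ℂ) (xx i)).re := by
    intro i
    rw [← hgg i, hbb]
    simp only
    rw [contribP_conjPair p (gg i) (pair i) _ _ hχcf hχcf]
  rw [Finset.sum_congr rfl (fun i _ => h1 i),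
    ← Finset.sum_fiberwise_of_maps_to (s := Finset.univ) (t := X) (g := xx) (fun i _ => hxX i)]
  have hX1 := sum_secNorm_eq_one (p := p) χ X hXp hXrep
  have key : ∀ x ∈ X, ∑ i ∈ Finset.univ.filter (fun i => xx i = x),
      (contribP p (bb i) (χ : G → ℂ) (χ : G → ℂ) (xx i)).re ≤
      (e : ℝ) * secNorm p (Subgroup.centralizer ({x} : Set G)) (χ : G → ℂ) x := by
    intro x hx
    set Gx : Cfsg.BrauerPairIdx G → ℝ := fun b =>
      (contribP p b (χ : G → ℂ) (χ : G → ℂ) x).re with hGx
    have hGx0 : ∀ b, 0 ≤ Gx b := fun b => contribP_self_re_nonneg p b _ x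
    have h2 : ∑ i ∈ Finset.univ.filter (fun i => xx i = x),
        (contribP p (bb i) (χ : G → ℂ) (χ : G → ℂ) (xx i)).re =
        ∑ i ∈ Finset.univ.filter (fun i => xx i = x), Gx (bb i) := by
      apply Finset.sum_congr rfl
      intro i hi
      rw [(Finset.mem_filter.mp hi).2]
    rw [h2, Finset.sum_comp Gx bb]
    have h3 : ∀ b ∈ (Finset.univ.filter (fun i => xx i = x)).image bb,
        ((Finset.univ.filter (fun i => xx i = x)).filter (fun i => bb i = b)).card • Gx b ≤
          (e : ℝ) * Gx b := by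
      intro b hb
      obtain ⟨i₀, hi₀, hbi₀⟩ := Finset.mem_image.mp hb
      have hxi₀ : xx i₀ = x := (Finset.mem_filter.mp hi₀).2
      have hsub : ((Finset.univ.filter (fun i => xx i = x)).filter (fun i => bb i = b)) ⊆
          Finset.univ.filter (fun i => ∃ g : G, g * u i₀ * g⁻¹ = u i ∧
            conjPair g (pair i₀) = pair i) := by
        intro i hi
        rw [Finset.mem_filter, Finset.mem_filter] at hi
        obtain ⟨⟨-, hxi⟩, hbi⟩ := hi
        rw [Finset.mem_filter]
        refine ⟨Finset.mem_univ _, (gg i)⁻¹ * gg i₀, ?_, ?_⟩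
        · have e1 : (gg i)⁻¹ * gg i₀ * u i₀ * ((gg i)⁻¹ * gg i₀)⁻¹ =
              (gg i)⁻¹ * (gg i₀ * u i₀ * (gg i₀)⁻¹) * gg i := by group
          have e2 : u i = (gg i)⁻¹ * (gg i * u i * (gg i)⁻¹) * gg i := by group
          rw [e1, e2, hgg i₀, hgg i, hxi₀, hxi]
        · rw [← conjPair_conjPair]
          have e3 : conjPair (gg i₀) (pair i₀) = conjPair (gg i) (pair i) := by
            have := hbi₀.trans hbi.symm
            exact this
          rw [e3, conjPair_conjPair, inv_mul_cancel, conjPair_one]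
      have hcard := (Finset.card_le_card hsub).trans (hfus i₀)
      rw [nsmul_eq_mul]
      exact mul_le_mul_of_nonneg_right (by exact_mod_cast hcard) (hGx0 b)
    refine (Finset.sum_le_sum h3).trans ?_
    rw [← Finset.mul_sum]
    apply mul_le_mul_of_nonneg_left _ (Nat.cast_nonneg e)
    rw [← secNorm_congr p (centralizer_zpowers_eq' x)]
    apply sum_contribP_le hM (χ : G → ℂ) hχcf (Subgroup.zpowers x) x (Subgroup.mem_zpowers x)
    intro b hb
    obtain ⟨i, hi, rfl⟩ := Finset.mem_image.mp hb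
    have hxi : xx i = x := (Finset.mem_filter.mp hi).2
    constructor
    · show (pair i).1.map (MulAut.conj (gg i)).toMonoidHom = Subgroup.zpowers x
      rw [hp1 i, map_conj_zpowers, hgg i, hxi]
    · exact isPBlock_conjBlock (pair i).1 (gg i) (pair i).2 (hp2 i)
  calc ∑ x ∈ X, ∑ i ∈ Finset.univ.filter (fun i => xx i = x),
        (contribP p (bb i) (χ : G → ℂ) (χ : G → ℂ) (xx i)).re
      ≤ ∑ x ∈ X, (e : ℝ) * secNorm p (Subgroup.centralizer ({x} : Set G)) (χ : G → ℂ) x :=
        Finset.sum_le_sum key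
    _ = (e : ℝ) := by rw [← Finset.mul_sum, hX1, mul_one]

end Cfsg.Agent.Helper6.HtCen
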