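import Mathlib
import Cfsg.Prelude.Def_Characters
import Cfsg.Prelude.Def_Blocks
import Cfsg.Prelude.Def_BlockLocal
import Cfsg.Prelude.Def_BrauerPairs
import Cfsg.Agent.Helper6.NilAbE
import Cfsg.Agent.Helper6.StableCover
import Cfsg.Agent.Helper6.NormalPairBlock
import Cfsg.Agent.Helper6.MaximalPairNormalizer
import Cfsg.Agent.Helper6.LocalBlockConj
import Cfsg.Agent.Helper6.StabilizerCoeff

/-!
# The maximal Brauer pair attached to a root of a block

`B` a block with defect group `D`, `b` a block of `D C_G(D)` inducing `B`: there is a maximal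
Brauer pair `(D, c)` of `B` such that every element of `N_G(D)` stabilizing `c` stabilizes `b`.
-/

set_option autoImplicit false
set_option linter.style.haveILetI false

namespace Cfsg.Agent.Helper6.HtCen

open Cfsg.Agent.Helper6

open scoped ComplexConjugate

universe u

variable {G : Type u} [Group G] {M : Ideal Cfsg.AlgInt}

/-- the elements of `D C_G(D)` stabilize every set of characters of `C_G(D)` -/
theorem stabilizesBlock_of_mem_sup [Finite G] (D : Subgroup G)
    (c : Set (Cfsg.IrrCharacter (Subgroup.centralizer (D : Set G)))) (y : G)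
    (hy : y ∈ D ⊔ Subgroup.centralizer (D : Set G)) :
    Cfsg.StabilizesBlock (Subgroup.centralizer (D : Set G)) c y := by
  have h1 : D ⊔ Subgroup.centralizer (D : Set G) ≤ pairStabilizer D c := by
    apply sup_le
    · intro u hu
      exact ⟨Subgroup.le_normalizer hu, stabilizesBlock_of_mem D c u hu⟩
    · intro k hk
      exact ⟨Subgroup.centralizer_le_normalizer _ hk, stabilizesBlock_of_mem_centralizer D c k hk⟩
  exact (h1 hy).2

set_option maxHeartbeats 1000000 in
/-- **the maximal pair of a root**, for a local subgroup `L` -/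
theorem exists_maxPair_of_root_aux [Fintype G] {p : ℕ} [hp : Fact p.Prime]
    (hM : Cfsg.IsPModular p M) (B : Set (Cfsg.IrrCharacter G)) (hB : Cfsg.IsPBlock M B)
    (D : Subgroup G) (hBD : Cfsg.IsDefectGroup p M B D) (L : Subgroup G)
    (hL : L = D ⊔ Subgroup.centralizer (D : Set G))
    (b : Set (Cfsg.IrrCharacter L)) (hind : Cfsg.IsInducedBlock M L b B) :
    ∃ c : Set (Cfsg.IrrCharacter (Subgroup.centralizer (D : Set G))),
      Cfsg.IsMaximalBrauerPair p M B D c ∧
      ∀ y ∈ Subgroup.normalizer (D : Set G),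
        Cfsg.StabilizesBlock (Subgroup.centralizer (D : Set G)) c y →
          Cfsg.StabilizesBlock L b y := by
  classical
  have hPL : D ≤ L := by rw [hL]; exact le_sup_left
  have hCL : Subgroup.centralizer (D : Set G) ≤ L := by rw [hL]; exact le_sup_right
  have hLN : L ≤ Subgroup.normalizer (D : Set G) := by
    rw [hL]; exact sup_le Subgroup.le_normalizer (Subgroup.centralizer_le_normalizer _)
  have hNL : Subgroup.normalizer (D : Set G) ≤ Subgroup.normalizer (L : Set G) := by
    rw [hL]; exact normalizer_le_normalizer_sup_centralizer D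
  have hP : IsPGroup p D := IsDefectGroup.isPGroup hM B hB D hBD
  have hb : Cfsg.IsPBlock M b := hind.1
  have hDb : Cfsg.IsDefectGroup p M b (D.subgroupOf L) :=
    isDefectGroup_of_induced_local hM D _ hP hPL hLN B hBD b hind
  haveI : Fintype L := Fintype.ofFinite _
  obtain ⟨c₁, hmax₁⟩ := exists_isBrauerPairOf_of_isDefectGroup hM b hb _ hDb
  have hpair₁ := hmax₁.1
  have hc₁ : Cfsg.IsPBlock M c₁ := hpair₁.1.2
  set Φ := centSubEquiv L D hPL hCL with hΦ
  obtain ⟨c, hcdef⟩ : ∃ c : Set (Cfsg.IrrCharacter (Subgroup.centralizer (D : Set G))),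
      c = irrComp Φ.symm '' c₁ := ⟨_, rfl⟩
  have hloc : localBlock L D hPL hCL c = c₁ := by
    unfold localBlock
    rw [hcdef, Set.image_image]
    have : (fun θ => irrComp Φ (irrComp Φ.symm θ)) = id := by
      funext θ
      exact irrComp_symm_cancel Φ θ
    rw [← hΦ, this, Set.image_id]
  have hc : Cfsg.IsPBlock M c := by
    obtain ⟨ζ, hζ⟩ := hc₁
    rw [hcdef, hζ]
    exact ⟨_, image_irrComp_blockOf Φ.symm ζ⟩
  have hPc : Cfsg.IsBrauerPair p M D c := ⟨hP, hc⟩
  obtain ⟨B', hB'pair, -⟩ := existsUnique_isBrauerPairOf hM D c hPc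
  have hpair₁' : Cfsg.IsBrauerPairOf p M b (D.subgroupOf L) (localBlock L D hPL hCL c) := by
    rw [hloc]; exact hpair₁
  have hind' := isInducedBlock_of_localBlock hM D _ hPL hCL hLN B' c hB'pair b hpair₁'
  have hBB : B = B' := isInducedBlock_unique hM.2.1 _ b B B' hind hind'
  rw [← hBB] at hB'pair
  have hmax := isMaximalBrauerPair_of_card_eq hM B D c hB'pair
    (card_defectGroup hM.2.1 p hM.2.2 B hB D hBD)
  refine ⟨c, hmax, ?_⟩
  -- the idempotent of `b` is that of `c`
  haveI hPn : (D.subgroupOf L).Normal :=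
    (Subgroup.normal_subgroupOf_iff_le_normalizer hPL).mpr hLN
  haveI : Fintype (Subgroup.centralizer ((D.subgroupOf L : Subgroup L) : Set L)) :=
    Fintype.ofFinite _
  have hst : ∀ x : L,
      Cfsg.StabilizesBlock (Subgroup.centralizer ((D.subgroupOf L : Subgroup L) : Set L)) c₁ x := by
    intro x
    rw [← hloc, stabilizesBlock_localBlock_iff _ D hPL hCL hLN c x]
    exact stabilizesBlock_of_mem_sup D c (x : G) (hL ▸ x.2)
  have hcov : ∃ χ ∈ b, ∃ θ ∈ c₁, Cfsg.classInner
      (fun n : Subgroup.centralizer ((D.subgroupOf L : Subgroup L) : Set L) =>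
        (χ : L → ℂ) n) (θ : _ → ℂ) ≠ 0 := by
    have h1 := eq_lyingOver_of_isBrauerPairOf hM (D.subgroupOf L) b c₁ hpair₁
    obtain ⟨η, hηb⟩ := hb
    have hη : η ∈ b := by rw [hηb]; exact mem_blockOf_self hM.2.1 η
    have hη' := hη
    rw [h1] at hη'
    obtain ⟨θ, hθO, hne⟩ := hη'
    obtain ⟨x, hx⟩ := (mem_orbitUnion_iff _ c₁ θ).mp hθO
    rw [(nact_eq_self_iff _ x c₁).mpr (hst x)] at hx
    exact ⟨η, hη, θ, hx, hne⟩
  have hcoef := blockCoeff_of_stable_cover hM (D.subgroupOf L)
    (Subgroup.centralizer ((D.subgroupOf L : Subgroup L) : Set L))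
    hP.comap_subtype le_rfl c₁ hc₁ hst b hb hcov
  have hkey : ∀ x : G, Cfsg.subgroupBlockCoeff L b x =
      Cfsg.subgroupBlockCoeff (Subgroup.centralizer (D : Set G)) c x := by
    intro x
    by_cases hx : x ∈ L
    · rw [subgroupBlockCoeff_of_mem _ _ _ hx, hcoef ⟨x, hx⟩, ← hloc,
        subgroupBlockCoeff_localBlock _ D hPL hCL c ⟨x, hx⟩]
    · rw [subgroupBlockCoeff_of_not_mem _ _ _ hx,
        subgroupBlockCoeff_of_not_mem _ _ _ (fun h => hx (hCL h))]
  intro y hy hyst
  have hyL := hNL hy
  have hyC := normalizer_le_normalizer_centralizer D hy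
  rw [stabilizesBlock_iff_subgroupBlockCoeff _ y hyL b]
  intro x
  rw [hkey, hkey]
  exact (stabilizesBlock_iff_subgroupBlockCoeff _ y hyC c).mp hyst x

end Cfsg.Agent.Helper6.HtCen
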