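import Mathlib
import Cfsg.Prelude.Def_Characters
import Cfsg.Prelude.Def_Blocks
import Cfsg.Prelude.Def_BlockLocal
import Cfsg.Prelude.Def_BlockRank
import Cfsg.Prelude.Def_BrauerPairs
import Cfsg.Agent.Helper6.HtCenC
import Cfsg.Agent.Helper6.HtCenG
import Cfsg.Agent.Helper6.HtCenH
import Cfsg.Agent.Blk47.P
import Cfsg.Agent.Blk47.OrbitArith

/-!
# Brauer's bound `h + c ≤ n + d` for the heights in a block

`B` a block with defect group `D` of order `p^d`, `|Z(D)| = p^c`, inertial index `e` with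
`p^n ≤ e < p^(n+1)`: every `χ ∈ B` has height `h` with `h + c ≤ n + d`
(Brauer, *On blocks and sections II*).
-/

set_option autoImplicit false
set_option linter.style.haveILetI false

namespace Cfsg.Agent.Helper6.HtCen

open Cfsg.Agent.Helper6 Cfsg.Agent.Helper6.Maj Cfsg.Agent.Helper6.K4 Cfsg.Agent.Blk47

open scoped ComplexConjugate

universe u

variable {G : Type u} [Group G] {M : Ideal Cfsg.AlgInt}

/-- elements of a subgroup stabilize every set of its irreducible characters -/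
theorem stabilizesBlock_of_mem_self' (L : Subgroup G) (b : Set (Cfsg.IrrCharacter L)) (x : G)
    (hx : x ∈ L) : Cfsg.StabilizesBlock L b x := by
  refine ⟨Subgroup.le_normalizer hx, fun χ hχ => ⟨χ, hχ, fun k k' hk => ?_⟩⟩
  have hcf := IsCharacter.isClassFunction (IsIrrCharacter.isCharacter χ.2)
  have : k' = ⟨x, hx⟩ * k * ⟨x, hx⟩⁻¹ := by
    apply Subtype.ext
    rw [hk]
    rfl
  rw [this]
  exact hcf k ⟨x, hx⟩

/-- two subpairs of the same pair on the same subgroup are equal -/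
theorem pair_eq_of_subpairLE [Fintype G] {p : ℕ} [hp : Fact p.Prime] (hM : Cfsg.IsPModular p M)
    (P : Subgroup G) (e : Set (Cfsg.IrrCharacter (Subgroup.centralizer (P : Set G))))
    (hPe : Cfsg.IsBrauerPair p M P e) (Q Q' : Subgroup G) (h : Q = Q') (hQP : Q ≤ P)
    (f : Set (Cfsg.IrrCharacter (Subgroup.centralizer (Q : Set G))))
    (f' : Set (Cfsg.IrrCharacter (Subgroup.centralizer (Q' : Set G))))
    (hle : Cfsg.SubpairLE p M Q f P e) (hle' : Cfsg.SubpairLE p M Q' f' P e) :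
    (⟨Q, f⟩ : Cfsg.BrauerPairIdx G) = ⟨Q', f'⟩ := by
  subst h
  rw [subpairLE_unique hM _ P Q e hPe hQP rfl f f' hle hle']

/-- the stabilizer of `b` in the form of the statement -/
theorem mem_T_iff (D : Subgroup G)
    (b : Set (Cfsg.IrrCharacter ↥(D ⊔ Subgroup.centralizer (D : Set G)))) (T : Subgroup G)
    (hT : ∀ g : G, g ∈ T ↔ (g ∈ Subgroup.normalizer (D : Set G) ∧ ∀ θ ∈ b,
      ∀ θ' : Cfsg.IrrCharacter ↥(D ⊔ Subgroup.centralizer (D : Set G)),
        (∀ h h' : ↥(D ⊔ Subgroup.centralizer (D : Set G)), (h' : G) = g * h * g⁻¹ →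
          (θ' : _ → ℂ) h' = (θ : _ → ℂ) h) → θ' ∈ b)) (g : G) :
    g ∈ T ↔ g ∈ Subgroup.normalizer (D : Set G) ∧
      Cfsg.StabilizesBlock (D ⊔ Subgroup.centralizer (D : Set G)) b g := by
  have hNL := normalizer_le_normalizer_sup_centralizer D
  rw [hT g]
  constructor
  · rintro ⟨hg, h⟩
    refine ⟨hg, hNL hg, fun χ hχ => ⟨nconjIrr _ g (hNL hg) χ, ?_,
      isConjCharOf_nconjIrr _ g (hNL hg) χ⟩⟩
    exact h χ hχ _ (isConjCharOf_nconjIrr _ g (hNL hg) χ)
  · rintro ⟨hg, hgn, hst⟩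
    refine ⟨hg, fun θ hθ θ' hθ' => ?_⟩
    obtain ⟨χ', hχ', hc⟩ := hst θ hθ
    have : θ' = χ' := by
      apply Subtype.ext
      funext k'
      have hk : g⁻¹ * (k' : G) * g ∈ D ⊔ Subgroup.centralizer (D : Set G) :=
        (Subgroup.mem_normalizer_iff''.mp hgn (k' : G)).mp k'.2
      have e1 : (k' : G) = g * ((⟨g⁻¹ * (k' : G) * g, hk⟩ :
          ↥(D ⊔ Subgroup.centralizer (D : Set G))) : G) * g⁻¹ := by
        show (k' : G) = g * (g⁻¹ * (k' : G) * g) * g⁻¹
        group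
      rw [hθ' ⟨g⁻¹ * (k' : G) * g, hk⟩ k' e1, hc ⟨g⁻¹ * (k' : G) * g, hk⟩ k' e1]
    rw [this]
    exact hχ'

end Cfsg.Agent.Helper6.HtCen
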