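import Mathlib
import Cfsg.Prelude.Def_Characters
import Cfsg.Agent.Helper6.FrobSchur
import Cfsg.Agent.Helper6.NormalInd
import Cfsg.Agent.Helper6.IndFun

/-!
# Orthogonality of matrix coefficients and a twisted sum
-/

set_option autoImplicit false
set_option linter.style.haveILetI false
set_option linter.unusedSimpArgs false

namespace Cfsg.Agent.Helper6

open Matrix Module Representation
open scoped ComplexConjugate

universe u

/-- If the characters of two representations are orthogonal, every intertwining map vanishes. -/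
theorem intertwining_eq_zero_of_orth {N : Type u} [Group N] [Fintype N] {V W : Type*}
    [AddCommGroup V] [Module ℂ V] [FiniteDimensional ℂ V] [AddCommGroup W] [Module ℂ W]
    [FiniteDimensional ℂ W] (ρ : Representation ℂ N V) (σ : Representation ℂ N W)
    (h : ∑ n : N, σ.character n * ρ.character n⁻¹ = 0) (f : V →ₗ[ℂ] W)
    (hf : ∀ n, f ∘ₗ ρ n = σ n ∘ₗ f) : f = 0 := by
  haveI : Invertible (Nat.card N : ℂ) :=
    invertibleOfNonzero (by exact_mod_cast Nat.card_pos.ne')
  have h1 := Representation.card_inv_mul_sum_char_mul_char_eq_finrank ρ σ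
  rw [h, mul_zero] at h1
  have h2 : finrank ℂ (IntertwiningMap ρ σ) = 0 := by exact_mod_cast h1.symm
  haveI : Subsingleton (IntertwiningMap ρ σ) := Module.finrank_zero_iff.mp h2
  have h3 : (⟨f, hf⟩ : IntertwiningMap ρ σ) = 0 := Subsingleton.elim _ _
  exact congrArg IntertwiningMap.toLinearMap h3

theorem single_sandwich_rect {d₁ d₂ : ℕ} (A : Matrix (Fin d₂) (Fin d₂) ℂ)
    (B : Matrix (Fin d₁) (Fin d₁) ℂ) (i j : Fin d₂) (k l : Fin d₁) :
    (A * Matrix.single j k (1:ℂ) * B) i l = A i j * B k l := by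
  rw [Matrix.mul_apply, Finset.sum_eq_single k]
  · congr 1
    rw [Matrix.mul_apply, Finset.sum_eq_single j]
    · simp [Matrix.single_apply]
    · intro b _ hb
      simp [Matrix.single_apply, Ne.symm hb]
    · intro h; exact absurd (Finset.mem_univ _) h
  · intro b _ hb
    have : (A * Matrix.single j k (1:ℂ)) i b = 0 := by
      rw [Matrix.mul_apply]
      apply Finset.sum_eq_zero
      intro y _
      simp [Matrix.single_apply, Ne.symm hb]
    rw [this, zero_mul]
  · intro h; exact absurd (Finset.mem_univ _) h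

/-- Orthogonality of matrix coefficients of two representations with orthogonal characters. -/
theorem sum_repMat_inv_mul_repMat_eq_zero {N : Type u} [Group N] [Fintype N] {d₁ d₂ : ℕ}
    (ρ₁ : Representation ℂ N (Fin d₁ → ℂ)) (ρ₂ : Representation ℂ N (Fin d₂ → ℂ))
    (h : ∑ n : N, ρ₂.character n * ρ₁.character n⁻¹ = 0) (i j : Fin d₂) (k l : Fin d₁) :
    ∑ n : N, repMat ρ₂ n⁻¹ i j * repMat ρ₁ n k l = 0 := by
  set X : Matrix (Fin d₂) (Fin d₁) ℂ := Matrix.single j k (1:ℂ) with hX
  set Y : Matrix (Fin d₂) (Fin d₁) ℂ := ∑ n : N, repMat ρ₂ n⁻¹ * X * repMat ρ₁ n with hY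
  have hint : ∀ m : N, Y * repMat ρ₁ m = repMat ρ₂ m * Y := by
    intro m
    rw [hY, Matrix.sum_mul, Matrix.mul_sum]
    apply Fintype.sum_equiv (Equiv.mulRight m)
    intro n
    rw [Equiv.coe_mulRight, _root_.mul_inv_rev, repMat_mul, repMat_mul ρ₁ n m]
    simp only [Matrix.mul_assoc]
    rw [← Matrix.mul_assoc (repMat ρ₂ m), ← repMat_mul ρ₂, mul_inv_cancel, repMat_one, Matrix.one_mul]
  have hY0 : Matrix.toLin' Y = 0 := by
    apply intertwining_eq_zero_of_orth ρ₁ ρ₂ h
    intro m
    rw [← toLin'_repMat ρ₁ m, ← toLin'_repMat ρ₂ m, ← Matrix.toLin'_mul, ← Matrix.toLin'_mul,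
      hint m]
  have hY0' : Y = 0 := by
    have := congrArg LinearMap.toMatrix' hY0
    rwa [LinearMap.toMatrix'_toLin', map_zero] at this
  have h1 := congrFun (congrFun hY0' i) l
  rw [hY, Matrix.sum_apply, Matrix.zero_apply] at h1
  rw [← h1]
  apply Finset.sum_congr rfl
  intro n _
  rw [hX, single_sandwich_rect]

/-- The dual of a matrix representation. -/
noncomputable def dualMatRep {N : Type u} [Group N] {d : ℕ}
    (ρ : Representation ℂ N (Fin d → ℂ)) : Representation ℂ N (Fin d → ℂ) where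
  toFun n := Matrix.toLin' (repMat ρ n⁻¹)ᵀ
  map_one' := by
    rw [inv_one, repMat_one, Matrix.transpose_one, Matrix.toLin'_one]
    rfl
  map_mul' a b := by
    rw [_root_.mul_inv_rev, repMat_mul, Matrix.transpose_mul, Matrix.toLin'_mul]
    rfl

theorem repMat_dualMatRep {N : Type u} [Group N] {d : ℕ}
    (ρ : Representation ℂ N (Fin d → ℂ)) (n : N) :
    repMat (dualMatRep ρ) n = (repMat ρ n⁻¹)ᵀ := by
  unfold repMat dualMatRep
  exact LinearMap.toMatrix'_toLin' _

theorem dualMatRep_character {N : Type u} [Group N] {d : ℕ}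
    (ρ : Representation ℂ N (Fin d → ℂ)) (n : N) :
    (dualMatRep ρ).character n = ρ.character n⁻¹ := by
  rw [← trace_repMat, repMat_dualMatRep, Matrix.trace_transpose, trace_repMat]

/-- Orthogonality of matrix coefficients, bilinear version. -/
theorem sum_repMat_mul_repMat_eq_zero {N : Type u} [Group N] [Fintype N] {d₁ d₂ : ℕ}
    (ρ₁ : Representation ℂ N (Fin d₁ → ℂ)) (ρ₂ : Representation ℂ N (Fin d₂ → ℂ))
    (h : ∑ n : N, ρ₂.character n * ρ₁.character n = 0) (i j : Fin d₂) (k l : Fin d₁) :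
    ∑ n : N, repMat ρ₂ n i j * repMat ρ₁ n k l = 0 := by
  have h' : ∑ n : N, ρ₂.character n * (dualMatRep ρ₁).character n⁻¹ = 0 := by
    rw [← h]
    apply Finset.sum_congr rfl
    intro n _
    rw [dualMatRep_character, inv_inv]
  have h1 := sum_repMat_inv_mul_repMat_eq_zero (dualMatRep ρ₁) ρ₂ h' i j l k
  rw [← h1]
  apply Fintype.sum_equiv (Equiv.inv N)
  intro n
  rw [Equiv.inv_apply, inv_inv, repMat_dualMatRep, Matrix.transpose_apply, inv_inv]

end Cfsg.Agent.Helper6
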