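import Mathlib
import Cfsg.Prelude.Def_Characters
import Cfsg.Agent.Helper6.TwistedSum
import Cfsg.Agent.Helper6.CharBasic
import Cfsg.Agent.Helper6.ClassInner

/-!
# The Frobenius–Schur indicator of a character induced from an inertia group
-/

set_option autoImplicit false
set_option linter.style.haveILetI false
set_option linter.unusedSimpArgs false

namespace Cfsg.Agent.Helper6

open Matrix Module Representation
open scoped ComplexConjugate

universe u

variable {G : Type u} [Group G]

theorem sum_comm4 {α β γ ι : Type*} [Fintype α] [Fintype β] [Fintype γ] [Fintype ι] {M : Type*}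
    [AddCommMonoid M] (f : ι → α → β → γ → M) :
    ∑ n : ι, ∑ a : α, ∑ b : β, ∑ c : γ, f n a b c =
      ∑ a : α, ∑ b : β, ∑ c : γ, ∑ n : ι, f n a b c := by
  rw [Finset.sum_comm]
  apply Finset.sum_congr rfl
  intro a _
  rw [Finset.sum_comm]
  apply Finset.sum_congr rfl
  intro b _
  rw [Finset.sum_comm]

theorem trace_mul3 {d : ℕ} (A B C : Matrix (Fin d) (Fin d) ℂ) :
    (A * B * C).trace = ∑ i, ∑ j, ∑ k, A i j * B j k * C k i := by
  rw [Matrix.trace]
  apply Finset.sum_congr rfl
  intro i _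
  rw [Matrix.diag_apply, Matrix.mul_apply]
  simp only [Matrix.mul_apply, Finset.sum_mul]
  exact Finset.sum_comm

theorem sq_mul_mem (N I : Subgroup G) [hN : N.Normal] (hNI : N ≤ I) (n : N) {g : G}
    (hg2 : g * g ∈ I) : (n : G) * g * ((n : G) * g) ∈ I := by
  have h : (n : G) * g * ((n : G) * g) = (n : G) * (g * (n : G) * g⁻¹) * (g * g) := by group
  rw [h]
  exact I.mul_mem (I.mul_mem (hNI n.2) (hNI (hN.conj_mem n n.2 g))) hg2

/-- The twisted sum over a coset of `N` outside the inertia group vanishes. -/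
theorem twisted_sum_eq_zero [Fintype G] (N I : Subgroup G) [hN : N.Normal] [Fintype N]
    (hNI : N ≤ I) {d : ℕ} (σ : Representation ℂ I (Fin d → ℂ))
    (hφ : Cfsg.IsIrrCharacter N (fun n : N => σ.character ⟨(n : G), hNI n.2⟩))
    (hreal : ∀ x : I, σ.character x⁻¹ = σ.character x) (g : G)
    (hg : conjFun N (fun n : N => σ.character ⟨(n : G), hNI n.2⟩) g ≠
      (fun n : N => σ.character ⟨(n : G), hNI n.2⟩))
    (hg2 : g * g ∈ I) :
    ∑ n : N, Cfsg.extendByZero I σ.character ((n : G) * g * ((n : G) * g)) = 0 := by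
  classical
  haveI : Finite I := inferInstance
  set φ : N → ℂ := fun n : N => σ.character ⟨(n : G), hNI n.2⟩ with hφdef
  have hσchar : Cfsg.IsCharacter I σ.character := ⟨d, σ, rfl⟩
  have hconj : ∀ x : I, conj (σ.character x) = σ.character x := by
    intro x
    rw [← IsCharacter.inv_eq_conj hσchar x, hreal x]
  let ρ₂ : Representation ℂ N (Fin d → ℂ) := MonoidHom.comp σ (Subgroup.inclusion hNI)
  let ρ₁ : Representation ℂ N (Fin d → ℂ) :=
    MonoidHom.comp σ ((Subgroup.inclusion hNI).comp (MulAut.conjNormal g : N ≃* N).toMonoidHom)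
  have hρ₂ : ∀ n : N, repMat ρ₂ n = repMat σ ⟨(n : G), hNI n.2⟩ := fun n => rfl
  have hρ₁ : ∀ n : N, repMat ρ₁ n =
      repMat σ ⟨g * (n : G) * g⁻¹, hNI (hN.conj_mem n n.2 g)⟩ := fun n => rfl
  have hc₂ : ∀ n : N, ρ₂.character n = φ n := fun n => rfl
  have hc₁ : ∀ n : N, ρ₁.character n = conjFun N φ g n := fun n => rfl
  have horth : ∑ n : N, ρ₂.character n * ρ₁.character n = 0 := by
    have h0 := classInner_irr_ne hφ (conjFun_isIrr N hφ g) (Ne.symm hg)
    rw [classInner_def] at h0
    have hN0 : (Nat.card N : ℂ)⁻¹ ≠ 0 := by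
      apply inv_ne_zero
      exact_mod_cast Nat.card_pos.ne'
    rcases mul_eq_zero.mp h0 with h | h
    · exact absurd h hN0
    · rw [← h]
      apply Finset.sum_congr rfl
      intro n _
      rw [hc₂, hc₁]
      congr 1
      exact (hconj _).symm
  have hent : ∀ i j k l : Fin d, ∑ n : N, repMat σ ⟨(n : G), hNI n.2⟩ i j *
      repMat σ ⟨g * (n : G) * g⁻¹, hNI (hN.conj_mem n n.2 g)⟩ k l = 0 := by
    intro i j k l
    have := sum_repMat_mul_repMat_eq_zero ρ₁ ρ₂ horth i j k l
    simpa only [hρ₁, hρ₂] using this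
  have hterm : ∀ n : N, Cfsg.extendByZero I σ.character ((n : G) * g * ((n : G) * g)) =
      ∑ i, ∑ j, ∑ k, repMat σ ⟨(n : G), hNI n.2⟩ i j *
        repMat σ ⟨g * (n : G) * g⁻¹, hNI (hN.conj_mem n n.2 g)⟩ j k *
        repMat σ ⟨g * g, hg2⟩ k i := by
    intro n
    rw [extendByZero_mem I _ (sq_mul_mem N I hNI n hg2), ← trace_mul3, ← repMat_mul,
      ← repMat_mul, trace_repMat]
    congr 1
    apply Subtype.ext
    simp only [Subgroup.coe_mul]
    group
  simp only [hterm]
  rw [sum_comm4]
  apply Finset.sum_eq_zero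
  intro i _
  apply Finset.sum_eq_zero
  intro j _
  apply Finset.sum_eq_zero
  intro k _
  rw [← Finset.sum_mul, hent i j j k, zero_mul]

/-- The sum of `ψ(x²)` over all `x ∈ G` with `x² ∈ I` reduces to the sum over `I`. -/
theorem sum_extendByZero_sq [Fintype G] (N I : Subgroup G) [hN : N.Normal]
    (hNI : N ≤ I) (φ : N → ℂ) (hφ : Cfsg.IsIrrCharacter N φ)
    (hI' : ∀ g : G, g ∈ I ↔ conjFun N φ g = φ) (ψ : I → ℂ) (hψ : Cfsg.IsCharacter I ψ)
    (hext : ∀ n : N, ψ ⟨(n : G), hNI n.2⟩ = φ n) (hreal : ∀ x : I, ψ x⁻¹ = ψ x) [Fintype I] :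
    ∑ x : G, Cfsg.extendByZero I ψ (x * x) = ∑ x : I, ψ (x * x) := by
  classical
  haveI : Fintype N := Fintype.ofFinite N
  obtain ⟨d, σ, rfl⟩ := hψ
  have hφ' : (fun n : N => σ.character ⟨(n : G), hNI n.2⟩) = φ := funext hext
  set θ : I → ℂ := fun x => σ.character (x * x) with hθ
  set R : G → ℂ := fun x => Cfsg.extendByZero I σ.character (x * x) - Cfsg.extendByZero I θ x
    with hR
  have hRmem : ∀ x : G, x ∈ I → R x = 0 := by
    intro x hx
    rw [hR]
    simp only
    rw [extendByZero_mem I _ hx, extendByZero_mem I _ (I.mul_mem hx hx), hθ]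
    simp only
    rw [sub_eq_zero]
    rfl
  have hRnot : ∀ x : G, x ∉ I → R x = Cfsg.extendByZero I σ.character (x * x) := by
    intro x hx
    rw [hR]
    simp only
    rw [extendByZero_not_mem I _ hx, sub_zero]
  have hsumR : ∑ x : G, R x = 0 := by
    have h1 : ∀ n : N, ∑ x : G, R ((n : G) * x) = ∑ x : G, R x := by
      intro n
      exact Fintype.sum_equiv (Equiv.mulLeft (n : G)) _ _ (fun x => rfl)
    have h2 : ∑ n : N, ∑ x : G, R ((n : G) * x) = (Nat.card N : ℂ) * ∑ x : G, R x := by
      simp only [h1, Finset.sum_const, Finset.card_univ, nsmul_eq_mul]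
      rw [Nat.card_eq_fintype_card]
    have h3 : ∑ n : N, ∑ x : G, R ((n : G) * x) = 0 := by
      rw [Finset.sum_comm]
      apply Finset.sum_eq_zero
      intro x _
      by_cases hx : x ∈ I
      · apply Finset.sum_eq_zero
        intro n _
        exact hRmem _ (I.mul_mem (hNI n.2) hx)
      · have hnx : ∀ n : N, (n : G) * x ∉ I := by
          intro n hmem
          apply hx
          have : x = (n : G)⁻¹ * ((n : G) * x) := by group
          rw [this]
          exact I.mul_mem (I.inv_mem (hNI n.2)) hmem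
        simp only [fun n : N => hRnot _ (hnx n)]
        by_cases hx2 : x * x ∈ I
        · apply twisted_sum_eq_zero N I hNI σ _ hreal x _ hx2
          · rw [hφ']
            exact hφ
          · rw [hφ']
            intro h
            exact hx ((hI' x).mpr h)
        · apply Finset.sum_eq_zero
          intro n _
          apply extendByZero_not_mem
          intro hmem
          apply hx2
          have h : x * x = ((n : G) * (x * (n : G) * x⁻¹))⁻¹ * ((n : G) * x * ((n : G) * x)) := by
            group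
          rw [h]
          exact I.mul_mem (I.inv_mem (I.mul_mem (hNI n.2) (hNI (hN.conj_mem n n.2 x)))) hmem
    rw [h3] at h2
    have hN0 : (Nat.card N : ℂ) ≠ 0 := by exact_mod_cast Nat.card_pos.ne'
    rcases mul_eq_zero.mp h2.symm with h | h
    · exact absurd h hN0
    · exact h
  have hsplit : ∑ x : G, Cfsg.extendByZero I σ.character (x * x) =
      ∑ x : G, R x + ∑ x : G, Cfsg.extendByZero I θ x := by
    rw [← Finset.sum_add_distrib]
    apply Finset.sum_congr rfl
    intro x _
    rw [hR]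
    ring
  rw [hsplit, hsumR, zero_add, sum_extendByZero]

/-- The Frobenius–Schur indicator of a character induced from the inertia group of a real
irreducible character that it extends. -/
theorem fs_induced_eq [Fintype G] (N I : Subgroup G) [hN : N.Normal]
    (hNI : N ≤ I) (φ : N → ℂ) (hφ : Cfsg.IsIrrCharacter N φ)
    (hI' : ∀ g : G, g ∈ I ↔ conjFun N φ g = φ) (ψ : I → ℂ) (hψ : Cfsg.IsCharacter I ψ)
    (hext : ∀ n : N, ψ ⟨(n : G), hNI n.2⟩ = φ n) (hreal : ∀ x : I, ψ x⁻¹ = ψ x) [Fintype I] :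
    (Nat.card G : ℂ)⁻¹ * ∑ x : G, Cfsg.indFun I ψ (x * x) =
      (Nat.card I : ℂ)⁻¹ * ∑ x : I, ψ (x * x) := by
  classical
  have hG0 : (Nat.card G : ℂ) ≠ 0 := by exact_mod_cast Nat.card_pos.ne'
  have h1 : ∑ x : G, Cfsg.indFun I ψ (x * x) =
      (Nat.card I : ℂ)⁻¹ * ((Nat.card G : ℂ) * ∑ x : G, Cfsg.extendByZero I ψ (x * x)) := by
    simp only [indFun_apply]
    rw [← Finset.mul_sum, Finset.sum_comm]
    congr 1
    have h2 : ∀ t : G, ∑ x : G, Cfsg.extendByZero I ψ (t⁻¹ * (x * x) * t) =
        ∑ x : G, Cfsg.extendByZero I ψ (x * x) := by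
      intro t
      apply Fintype.sum_equiv (MulAut.conj t⁻¹).toEquiv
      intro x
      congr 1
      simp only [MulEquiv.toEquiv_eq_coe, EquivLike.coe_coe, MulAut.conj_apply]
      group
    simp only [h2, Finset.sum_const, Finset.card_univ, nsmul_eq_mul]
    rw [Nat.card_eq_fintype_card]
  rw [h1, sum_extendByZero_sq N I hNI φ hφ hI' ψ hψ hext hreal]
  field_simp

end Cfsg.Agent.Helper6
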