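import Mathlib
import Cfsg.Prelude.Def_Characters
import Cfsg.Prelude.Def_Blocks
import Cfsg.Agent.Helper6.LinearCount
import Cfsg.Agent.Helper6.Degrees

/-!
# The stabilizer of an induced extension in the group of linear characters
-/

set_option autoImplicit false
set_option linter.style.haveILetI false

namespace Cfsg.Agent.Helper6

open Module Representation
open scoped ComplexConjugate

universe u v

variable {G : Type u} [Group G]

theorem induced_ext_stab [Fintype G] (N I : Subgroup G) [hN : N.Normal]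
    (hNG : N ≤ commutator G) (φ : N → ℂ) (hφ : Cfsg.IsIrrCharacter N φ)
    (hI' : ∀ g : G, g ∈ I ↔ conjFun N φ g = φ) (hNI : N ≤ I) (ψ : I → ℂ)
    (hψ : Cfsg.IsIrrCharacter I ψ) (hext : ∀ n : N, ψ ⟨(n : G), hNI n.2⟩ = φ n) :
    Cfsg.IsIrrCharacter G (Cfsg.indFun I ψ) ∧
      Cfsg.indFun I ψ 1 = (I.index : ℂ) * φ 1 ∧
      ∀ μ : G →* ℂˣ, (∀ g, Cfsg.indFun I ψ g * ((μ g : ℂˣ) : ℂ) = Cfsg.indFun I ψ g) →
        ∀ i ∈ I, μ i = 1 := by
  classical
  haveI : Fintype N := Fintype.ofFinite N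
  haveI : Fintype I := Fintype.ofFinite I
  have hψN : (fun n : N => ψ ⟨(n : G), hNI n.2⟩) = φ := funext hext
  have hf : Cfsg.classInner (fun n : N => ψ ⟨(n : G), hNI n.2⟩) φ ≠ 0 := by
    rw [hψN, classInner_irr_self hφ]
    exact one_ne_zero
  obtain ⟨hirr, -⟩ := clifford_corr_ind_irr N φ hφ I hI' hNI ψ hψ hf
  refine ⟨hirr, ?_, ?_⟩
  · rw [indFun_apply_one, ← hext 1]
    rfl
  · intro μ hμ
    set μI : I →* ℂˣ := μ.comp I.subtype with hμI
    set ψ₂ : I → ℂ := ψ * fun i => ((μI i : ℂˣ) : ℂ) with hψ₂def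
    have hψ₂ : Cfsg.IsIrrCharacter I ψ₂ := IsIrrCharacter.mul_hom μI hψ
    have hμN : ∀ n ∈ N, μ n = 1 := fun n hn => hom_eq_one_of_mem_commutator μ (hNG hn)
    have hψ₂N : (fun n : N => ψ₂ ⟨(n : G), hNI n.2⟩) = φ := by
      funext n
      simp only [hψ₂def, Pi.mul_apply, hμI, MonoidHom.comp_apply, Subgroup.subtype_apply]
      rw [hext n, hμN n n.2, Units.val_one, mul_one]
    have hf₂ : Cfsg.classInner (fun n : N => ψ₂ ⟨(n : G), hNI n.2⟩) φ ≠ 0 := by
      rw [hψ₂N, classInner_irr_self hφ]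
      exact one_ne_zero
    have hμcf : Cfsg.IsClassFunction G (fun g => ((μ g : ℂˣ) : ℂ)) :=
      IsCharacter.isClassFunction (IsIrrCharacter.isCharacter (isIrrCharacter_of_hom μ))
    have hind : Cfsg.indFun I ψ₂ = Cfsg.indFun I ψ := by
      have h1 := mul_indFun I ψ (fun g => ((μ g : ℂˣ) : ℂ)) hμcf
      have h2 : (fun h : I => ((μ h : ℂˣ) : ℂ) * ψ h) = ψ₂ := by
        funext i
        simp only [hψ₂def, Pi.mul_apply, hμI, MonoidHom.comp_apply, Subgroup.subtype_apply]
        ring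
      rw [h2] at h1
      rw [← h1]
      funext g
      rw [Pi.mul_apply, mul_comm]
      exact hμ g
    have heq : ψ₂ = ψ := clifford_corr_unique N φ hφ I hI' hNI ψ₂ ψ hψ₂ hψ hf₂ hf hind
    -- now Gallagher in `I`
    haveI : Fintype (N.subgroupOf I) := Fintype.ofFinite _
    let e : N.subgroupOf I ≃* N := Subgroup.subgroupOfEquivOfLe hNI
    have hψN' : Cfsg.IsIrrCharacter (N.subgroupOf I) (fun n : N.subgroupOf I => ψ n) := by
      have h1 : (fun n : N.subgroupOf I => ψ n) = φ ∘ e := by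
        funext n
        rw [Function.comp_apply, ← hext (e n)]
        rfl
      rw [h1]
      exact IsIrrCharacter.comp_mulEquiv e hφ
    have hone : μI = 1 := by
      apply hom_eq_one_of_mul_eq (N.subgroupOf I) ψ hψ hψN' μI
      · intro n hn
        rw [hμI, MonoidHom.comp_apply, Subgroup.subtype_apply]
        exact hμN _ (Subgroup.mem_subgroupOf.mp hn)
      · intro i
        have := congrFun heq i
        rw [hψ₂def, Pi.mul_apply] at this
        exact this
    intro i hi
    have := congrArg (fun f : I →* ℂˣ => f ⟨i, hi⟩) hone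
    simpa [hμI] using this

end Cfsg.Agent.Helper6
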