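import Mathlib
import Cfsg.Prelude.Def_Characters
import Cfsg.Prelude.Def_Blocks
import Cfsg.Agent.Helper6.LinearCount2
import Cfsg.Agent.Helper6.FSInduced
import Cfsg.Agent.Helper6.OddReal

/-!
# Real linear characters and Frobenius–Schur indicators of products
-/

set_option autoImplicit false
set_option linter.style.haveILetI false

namespace Cfsg.Agent.Helper6

open Module Representation
open scoped ComplexConjugate

universe u v

variable {G : Type u} [Group G]

/-- A linear character with Frobenius–Schur indicator one has trivial square. -/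
theorem hom_sq_eq_one_of_fs [Fintype G] (μ : G →* ℂˣ)
    (h : (Nat.card G : ℂ)⁻¹ * ∑ g : G, ((μ (g * g) : ℂˣ) : ℂ) = 1) : ∀ g : G, μ (g * g) = 1 := by
  classical
  set μ2 : G →* ℂˣ := μ * μ with hμ2
  have hμ2g : ∀ g : G, μ2 g = μ (g * g) := by
    intro g
    rw [hμ2, MonoidHom.mul_apply, map_mul]
  have h1 : μ2 = 1 := by
    by_contra hne
    have hfun : (fun g => ((μ2 g : ℂˣ) : ℂ)) ≠ (fun _ => (1 : ℂ)) := by
      intro hf
      apply hne
      ext g
      have := congrFun hf g
      simpa using this
    have h0 := classInner_irr_ne (isIrrCharacter_of_hom μ2) isIrrCharacter_one hfun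
    rw [classInner_def] at h0
    simp only [map_one, mul_one, hμ2g] at h0
    rw [h0] at h
    exact zero_ne_one h
  intro g
  rw [← hμ2g, h1, MonoidHom.one_apply]

/-- An irreducible character with Frobenius–Schur indicator one is real valued. -/
theorem real_of_fs_eq_one [Fintype G] {ψ : G → ℂ} (hψ : Cfsg.IsIrrCharacter G ψ)
    (h : (Nat.card G : ℂ)⁻¹ * ∑ g : G, ψ (g * g) = 1) : ∀ x : G, ψ x⁻¹ = ψ x := by
  obtain ⟨d, σ, hirr, rfl⟩ := hψ
  by_contra hno
  push Not at hno
  have := fsInd_eq_zero_of_not_real σ hno
  unfold fsInd at this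
  rw [this] at h
  exact zero_ne_one h

end Cfsg.Agent.Helper6
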