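import Mathlib
import Cfsg.Prelude.Def_Characters

/-!
# Split extensions `N ⋊ P` with `N` odd elementary abelian, `P` a `2`-group: group theory
-/

set_option autoImplicit false
set_option linter.style.haveILetI false

namespace Cfsg.Agent.Helper6.SReal

universe u

variable {G : Type u} [Group G]

theorem bijective_mul (N P : Subgroup G) [hN : N.Normal] (hdisj : N ⊓ P = ⊥)
    (hprod : N ⊔ P = ⊤) :
    Function.Bijective (fun x : N × P => (x.1 : G) * (x.2 : G)) := by
  have hc : N.IsComplement' P := by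
    apply Subgroup.isComplement'_of_disjoint_and_mul_eq_univ
    · exact disjoint_iff.mpr hdisj
    · rw [← Subgroup.normal_mul, hprod]; rfl
  exact hc

/-- the decomposition equivalence -/
noncomputable def decomp (N P : Subgroup G) [hN : N.Normal] (hdisj : N ⊓ P = ⊥)
    (hprod : N ⊔ P = ⊤) : N × P ≃ G :=
  Equiv.ofBijective _ (bijective_mul N P hdisj hprod)

theorem decomp_apply (N P : Subgroup G) [hN : N.Normal] (hdisj : N ⊓ P = ⊥)
    (hprod : N ⊔ P = ⊤) (x : N × P) : decomp N P hdisj hprod x = (x.1 : G) * (x.2 : G) := rfl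

theorem exists_decomp (N P : Subgroup G) [hN : N.Normal] (hdisj : N ⊓ P = ⊥)
    (hprod : N ⊔ P = ⊤) (g : G) : ∃ n ∈ N, ∃ h ∈ P, g = n * h := by
  obtain ⟨x, hx⟩ := (bijective_mul N P hdisj hprod).2 g
  exact ⟨x.1, x.1.2, x.2, x.2.2, hx.symm⟩

theorem decomp_unique (N P : Subgroup G) (hdisj : N ⊓ P = ⊥)
    {n n' h h' : G} (hn : n ∈ N) (hn' : n' ∈ N) (hh : h ∈ P) (hh' : h' ∈ P)
    (heq : n * h = n' * h') : n = n' ∧ h = h' := by
  have h1 : n'⁻¹ * n = h' * h⁻¹ := by
    have : n'⁻¹ * (n * h) * h⁻¹ = n'⁻¹ * (n' * h') * h⁻¹ := by rw [heq]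
    simpa [mul_assoc] using this
  have h2 : n'⁻¹ * n ∈ N ⊓ P :=
    ⟨N.mul_mem (N.inv_mem hn') hn, h1 ▸ P.mul_mem hh' (P.inv_mem hh)⟩
  rw [hdisj, Subgroup.mem_bot] at h2
  have h3 : n = n' := by
    have := congrArg (fun t => n' * t) h2
    simpa using this
  refine ⟨h3, ?_⟩
  subst h3
  exact mul_left_cancel heq

/-- a central involution of `P` inverting `N` -/
theorem exists_inverting_involution [Finite G] (N P : Subgroup G) [hN : N.Normal] (q : ℕ)
    (hq : q.Prime) (hq2 : q ≠ 2)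
    (hNab : ∀ a ∈ N, ∀ b ∈ N, a * b = b * a) (hNq : ∀ a ∈ N, a ^ q = 1)
    (hP : IsPGroup 2 P) (hP1 : P ≠ ⊥) (hdisj : N ⊓ P = ⊥) (hprod : N ⊔ P = ⊤)
    (hN1 : N ≠ ⊥) (hmin : ∀ M : Subgroup G, M.Normal → M ≠ ⊥ → N ≤ M) :
    ∃ z ∈ P, z ≠ 1 ∧ z * z = 1 ∧ (∀ h ∈ P, z * h = h * z) ∧ ∀ n ∈ N, z * n * z⁻¹ = n⁻¹ := by
  classical
  haveI : Fact (Nat.Prime 2) := ⟨Nat.prime_two⟩
  haveI : Nontrivial P := (Subgroup.nontrivial_iff_ne_bot P).mpr hP1
  haveI : Nontrivial (Subgroup.center P) := hP.center_nontrivial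
  -- element of order 2 in the centre
  have hcard : 2 ∣ Nat.card (Subgroup.center P) := by
    have hPc : IsPGroup 2 (Subgroup.center P) := hP.to_subgroup _
    obtain ⟨k, hk⟩ := IsPGroup.iff_card.mp hPc
    have hk0 : k ≠ 0 := by
      rintro rfl
      have : Nat.card (Subgroup.center P) = 1 := by simpa using hk
      have h1 := Finite.one_lt_card (α := Subgroup.center P)
      omega
    rw [hk]
    exact dvd_pow_self 2 hk0
  obtain ⟨zc, hzc⟩ := exists_prime_orderOf_dvd_card' 2 hcard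
  set z : G := ((zc : P) : G) with hzdef
  have hzP : z ∈ P := (zc : P).2
  have hzord : orderOf z = 2 := by
    rw [hzdef, Subgroup.orderOf_coe, Subgroup.orderOf_coe]; exact hzc
  have hz1 : z ≠ 1 := by
    intro h
    rw [h, orderOf_one] at hzord
    omega
  have hzz : z * z = 1 := by
    have := pow_orderOf_eq_one z
    rw [hzord, pow_two] at this
    exact this
  have hzinv : z⁻¹ = z := inv_eq_of_mul_eq_one_left hzz
  have hzcomm : ∀ h ∈ P, z * h = h * z := by
    intro h hh
    have h1 := Subgroup.mem_center_iff.mp zc.2 ⟨h, hh⟩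
    have h2 := congrArg (Subtype.val : P → G) h1
    simpa [hzdef] using h2.symm
  refine ⟨z, hzP, hz1, hzz, hzcomm, ?_⟩
  -- M = C_N(z)
  let M : Subgroup G := N ⊓ Subgroup.centralizer ({z} : Set G)
  have hMmem : ∀ m : G, m ∈ M ↔ m ∈ N ∧ z * m = m * z := by
    intro m
    constructor
    · rintro ⟨h1, h2⟩
      refine ⟨h1, ?_⟩
      have := Subgroup.mem_centralizer_iff.mp h2 z (Set.mem_singleton z)
      exact this
    · rintro ⟨h1, h2⟩
      refine ⟨h1, ?_⟩
      show m ∈ Subgroup.centralizer ({z} : Set G)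
      rw [Subgroup.mem_centralizer_iff]
      intro y hy
      rw [Set.mem_singleton_iff] at hy
      rw [hy]; exact h2
  have hMnormal : M.Normal := by
    constructor
    intro m hm g
    obtain ⟨hmN, hmz⟩ := (hMmem m).mp hm
    obtain ⟨n, hn, h, hh, rfl⟩ := exists_decomp N P hdisj hprod g
    rw [hMmem]
    refine ⟨hN.conj_mem m hmN _, ?_⟩
    -- (n h) m (n h)⁻¹ = n (h m h⁻¹) n⁻¹ = h m h⁻¹
    have hx : h * m * h⁻¹ ∈ N := hN.conj_mem m hmN h
    have h1 : n * h * m * (n * h)⁻¹ = h * m * h⁻¹ := by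
      have h2 : n * h * m * (n * h)⁻¹ = n * (h * m * h⁻¹) * n⁻¹ := by group
      rw [h2, hNab n hn _ hx]
      group
    rw [h1]
    have hzh := hzcomm h hh
    have hzh' : z * h⁻¹ = h⁻¹ * z := by
      have : h⁻¹ * (z * h) * h⁻¹ = h⁻¹ * (h * z) * h⁻¹ := by rw [hzh]
      simpa [mul_assoc] using this.symm
    calc z * (h * m * h⁻¹) = (z * h) * m * h⁻¹ := by group
      _ = h * (z * m) * h⁻¹ := by rw [hzh]; group
      _ = h * (m * z) * h⁻¹ := by rw [hmz]
      _ = h * m * (z * h⁻¹) := by group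
      _ = h * m * (h⁻¹ * z) := by rw [hzh']
      _ = h * m * h⁻¹ * z := by group
  have hMbot : M = ⊥ := by
    by_contra hne
    have hNM := hmin M hMnormal hne
    -- z central in G
    have hzcent : ∀ g : G, z * g = g * z := by
      intro g
      obtain ⟨n, hn, h, hh, rfl⟩ := exists_decomp N P hdisj hprod g
      have h1 := ((hMmem n).mp (hNM hn)).2
      calc z * (n * h) = (z * n) * h := by group
        _ = n * (z * h) := by rw [h1]; group
        _ = n * h * z := by rw [hzcomm h hh]; group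
    have hZn : (Subgroup.zpowers z).Normal := by
      constructor
      intro x hx g
      obtain ⟨k, rfl⟩ := Subgroup.mem_zpowers_iff.mp hx
      have : g * z ^ k * g⁻¹ = z ^ k := by
        have hc : Commute z g := hzcent g
        have := (hc.zpow_left k).eq
        rw [← this]; group
      rw [this]
      exact Subgroup.zpow_mem_zpowers z k
    have hZne : Subgroup.zpowers z ≠ ⊥ := by
      intro h
      exact hz1 (Subgroup.zpowers_eq_bot.mp h)
    have hNZ := hmin _ hZn hZne
    obtain ⟨n, hn, hn1⟩ : ∃ n ∈ N, n ≠ 1 := by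
      by_contra hcon
      push Not at hcon
      exact hN1 ((Subgroup.eq_bot_iff_forall N).mpr hcon)
    obtain ⟨k, hk⟩ := Subgroup.mem_zpowers_iff.mp (hNZ hn)
    have hn2 : n ^ 2 = 1 := by
      rw [← hk, ← zpow_natCast, ← zpow_mul, mul_comm, zpow_mul, zpow_natCast, pow_two, hzz,
        one_zpow]
    have hnq := hNq n hn
    have ho2 : orderOf n ∣ 2 := orderOf_dvd_of_pow_eq_one hn2
    have hoq : orderOf n ∣ q := orderOf_dvd_of_pow_eq_one hnq
    have hcop : Nat.Coprime 2 q := by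
      rw [Nat.coprime_primes Nat.prime_two hq]
      exact fun h => hq2 h.symm
    have ho1 : orderOf n ∣ 1 := by
      have := Nat.dvd_gcd ho2 hoq
      rwa [hcop] at this
    exact hn1 (orderOf_eq_one_iff.mp (Nat.dvd_one.mp ho1))
  intro n hn
  rw [hzinv]
  have hx : z * n * z ∈ N := by
    have := hN.conj_mem n hn z
    rwa [hzinv] at this
  have hm : n * (z * n * z) ∈ M := by
    rw [hMmem]
    refine ⟨N.mul_mem hn hx, ?_⟩
    calc z * (n * (z * n * z)) = (z * n * z) * n * z := by group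
      _ = n * (z * n * z) * z := by rw [hNab _ hx n hn]
  rw [hMbot, Subgroup.mem_bot] at hm
  exact (eq_inv_of_mul_eq_one_right hm)

end Cfsg.Agent.Helper6.SReal
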