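import Mathlib
import Cfsg.Prelude.Def_Characters
import Cfsg.Agent.Helper6.Linear

/-!
# Extension of invariant linear characters of coprime order
-/

set_option autoImplicit false
set_option linter.style.haveILetI false

namespace Cfsg.Agent.Helper6

open Module Representation
open scoped ComplexConjugate Pointwise

universe u v

variable {G : Type u} [Group G]

/-- The transfer of an invariant homomorphism from a normal subgroup, evaluated on the subgroup. -/
theorem transfer_invariant_normal {A : Type*} [CommGroup A] (N : Subgroup G) [hN : N.Normal]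
    [N.FiniteIndex] (L : N →* A)
    (hinv : ∀ (g : G) (n : N), L ⟨g * n * g⁻¹, hN.conj_mem n n.2 g⟩ = L n) (n : N) :
    MonoidHom.transfer L (n : G) = L n ^ N.index := by
  classical
  let T : N.LeftTransversal := default
  rw [MonoidHom.transfer_def L T]
  unfold Subgroup.leftTransversals.diff
  simp only
  letI := N.fintypeQuotientOfFiniteIndex
  rw [Finset.prod_eq_pow_card (b := L n)]
  · rw [Finset.card_univ, ← Nat.card_eq_fintype_card, ← Subgroup.index_eq_card]
  · intro q _
    have h1 : ((n : G)⁻¹ • q : G ⧸ N) = q := by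
      induction q using QuotientGroup.induction_on with
      | H x =>
        rw [MulAction.Quotient.smul_mk]
        rw [QuotientGroup.eq]
        simp only [smul_eq_mul, mul_inv_rev, inv_inv]
        have := hN.conj_mem n n.2 x⁻¹
        simpa [mul_assoc] using this
    have h2 : (((n : G) • T).2.leftQuotientEquiv q : G) =
        (n : G) * (T.2.leftQuotientEquiv q : G) := by
      rw [Subgroup.smul_apply_eq_smul_apply_inv_smul, h1, smul_eq_mul]
    have h3 := hinv (T.2.leftQuotientEquiv q : G)⁻¹ n
    rw [← h3]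
    congr 1
    apply Subtype.ext
    simp only [h2, inv_inv, mul_assoc]

/-- A character of degree one comes from a homomorphism to `ℂˣ`. -/
theorem exists_hom_of_char_degree_one {χ : G → ℂ} (hχ : Cfsg.IsCharacter G χ)
    (h1 : χ 1 = 1) : ∃ lam : G →* ℂˣ, χ = fun g => ((lam g : ℂˣ) : ℂ) := by
  obtain ⟨n, ρ, hρ⟩ := hχ
  have hn : n = 1 := by
    have : ρ.character 1 = (finrank ℂ (Fin n → ℂ) : ℂ) := Representation.char_one ρ
    rw [hρ, h1] at this
    simp at this
    exact_mod_cast this.symm
  subst hn
  refine ⟨(charHom ρ).toHomUnits, ?_⟩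
  ext g
  rw [← hρ]
  rfl

/-- Coercion of homomorphisms to functions, as a monoid homomorphism. -/
noncomputable def coeFunHom (G : Type u) [Group G] : (G →* ℂˣ) →* (G → ℂ) where
  toFun f := fun g => ((f g : ℂˣ) : ℂ)
  map_one' := by ext g; simp
  map_mul' a b := by ext g; simp

theorem coeFunHom_injective : Function.Injective (coeFunHom G) := by
  intro a b h
  ext g
  exact congrFun h g

theorem orderOf_coeFun (L : G →* ℂˣ) :
    orderOf (fun g => ((L g : ℂˣ) : ℂ)) = orderOf L :=
  orderOf_injective (coeFunHom G) coeFunHom_injective L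

/-- Extension of an invariant homomorphism of order coprime to the index. -/
theorem extend_invariant_hom_coprime [Finite G] (N : Subgroup G) [hN : N.Normal] (L : N →* ℂˣ)
    (hinv : ∀ (g : G) (n : N), L ⟨g * n * g⁻¹, hN.conj_mem n n.2 g⟩ = L n)
    (hcop : Nat.Coprime N.index (orderOf L)) :
    ∃ M : G →* ℂˣ, (∀ n : N, M n = L n) ∧ orderOf M = orderOf L ∧
      ∀ M' : G →* ℂˣ, (∀ n : N, M' n = L n) → Nat.Coprime N.index (orderOf M') → M' = M := by
  classical
  set m := N.index with hm
  set o := orderOf L with ho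
  set V : G →* ℂˣ := MonoidHom.transfer L with hV
  have hVn : ∀ n : N, V n = L n ^ m := fun n => transfer_invariant_normal N L hinv n
  have hcop2 : Nat.Coprime (m * m) o := Nat.Coprime.mul_left hcop hcop
  obtain ⟨s, hs⟩ := exists_pow_eq_self_of_coprime (x := L) hcop2
  have hpowmem : ∀ g : G, g ^ m ∈ N := fun g => Subgroup.pow_index_mem N g
  have hLo : ∀ n : N, L n ^ o = 1 := by
    intro n
    have : L ^ o = 1 := pow_orderOf_eq_one L
    have h2 := congrArg (fun f : N →* ℂˣ => f n) this
    simpa using h2
  set M := V ^ (m * s) with hM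
  have hMn : ∀ n : N, M n = L n := by
    intro n
    rw [hM, MonoidHom.pow_apply, hVn, ← pow_mul, ← mul_assoc]
    have h2 := congrArg (fun f : N →* ℂˣ => f n) hs
    simp only [MonoidHom.pow_apply] at h2
    rw [← pow_mul] at h2
    exact h2
  have hMord : orderOf M = o := by
    apply Nat.dvd_antisymm
    · apply orderOf_dvd_of_pow_eq_one
      ext1 g
      rw [hM, MonoidHom.pow_apply, MonoidHom.pow_apply, MonoidHom.one_apply]
      have h1 : V g ^ m = V ((⟨g ^ m, hpowmem g⟩ : N) : G) := by
        rw [← map_pow]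
      calc (V g ^ (m * s)) ^ o = (V g ^ m) ^ (s * o) := by rw [← pow_mul, ← pow_mul, mul_assoc]
        _ = (L ⟨g ^ m, hpowmem g⟩ ^ m) ^ (s * o) := by rw [h1, hVn]
        _ = (L ⟨g ^ m, hpowmem g⟩ ^ o) ^ (m * s) := by
            rw [← pow_mul, ← pow_mul]; congr 1; ring
        _ = 1 := by rw [hLo, one_pow]
    · apply orderOf_dvd_of_pow_eq_one
      ext1 n
      have h1 : M ^ orderOf M = 1 := pow_orderOf_eq_one _
      have h2 := congrArg (fun f : G →* ℂˣ => f (n : G)) h1
      simp only [MonoidHom.pow_apply, MonoidHom.one_apply] at h2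
      rw [hMn] at h2
      rw [MonoidHom.pow_apply, MonoidHom.one_apply]
      exact h2
  refine ⟨M, hMn, hMord, ?_⟩
  intro M' hM' hcop'
  have hν1 : (M' / M) ^ m = 1 := by
    ext1 g
    rw [MonoidHom.pow_apply, MonoidHom.one_apply, ← map_pow]
    rw [MonoidHom.div_apply]
    have e1 := hM' ⟨g ^ m, hpowmem g⟩
    have e2 := hMn ⟨g ^ m, hpowmem g⟩
    simp only at e1 e2
    rw [e1, e2, div_self']
  have hM'o : ∀ g : G, M' g ^ orderOf M' = 1 := by
    intro g
    have := congrArg (fun f : G →* ℂˣ => f g) (pow_orderOf_eq_one M')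
    simp only [MonoidHom.pow_apply, MonoidHom.one_apply] at this
    exact this
  have hMo : ∀ g : G, M g ^ orderOf M = 1 := by
    intro g
    have := congrArg (fun f : G →* ℂˣ => f g) (pow_orderOf_eq_one M)
    simp only [MonoidHom.pow_apply, MonoidHom.one_apply] at this
    exact this
  have hν2 : (M' / M) ^ (orderOf M' * orderOf M) = 1 := by
    ext1 g
    rw [MonoidHom.pow_apply, MonoidHom.one_apply, MonoidHom.div_apply, div_pow, pow_mul, hM'o,
      one_pow, mul_comm, pow_mul, hMo, one_pow, div_one]
  have hd1 : orderOf (M' / M) ∣ m := orderOf_dvd_of_pow_eq_one hν1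
  have hd2 : orderOf (M' / M) ∣ orderOf M' * orderOf M := orderOf_dvd_of_pow_eq_one hν2
  have hc : Nat.Coprime m (orderOf M' * orderOf M) := by
    rw [hMord]
    exact Nat.Coprime.mul_right hcop' hcop
  have h1 : orderOf (M' / M) = 1 := Nat.eq_one_of_dvd_coprimes hc hd1 hd2
  rw [orderOf_eq_one_iff] at h1
  exact div_eq_one.mp h1

end Cfsg.Agent.Helper6
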