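import Mathlib
import Cfsg.Prelude.Def_Characters
import Cfsg.Prelude.Def_CharExt
import Cfsg.Agent.Helper6.EquivOfChar
import Cfsg.Agent.Helper6.Linear
import Cfsg.Agent.Helper6.LinearExt

/-!
# The determinantal character
-/

set_option autoImplicit false
set_option linter.style.haveILetI false

namespace Cfsg.Agent.Helper6

open Module Representation
open scoped ComplexConjugate Pointwise

universe u v w

variable {G : Type u} [Group G]

/-- The determinant of a representation as a homomorphism to `ℂˣ`. -/
noncomputable def detHom {V : Type v} [AddCommGroup V] [Module ℂ V]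
    (ρ : Representation ℂ G V) : G →* ℂˣ :=
  MonoidHom.toHomUnits ((LinearMap.det : (V →ₗ[ℂ] V) →* ℂ).comp ρ)

theorem detHom_apply {V : Type v} [AddCommGroup V] [Module ℂ V]
    (ρ : Representation ℂ G V) (g : G) : ((detHom ρ g : ℂˣ) : ℂ) = LinearMap.det (ρ g) := rfl

/-- The determinantal character of the character of a representation. -/
theorem detChar_rep [Finite G] {V : Type v} [AddCommGroup V] [Module ℂ V] [FiniteDimensional ℂ V]
    (ρ : Representation ℂ G V) :
    Cfsg.detChar ρ.character = fun g => ((detHom ρ g : ℂˣ) : ℂ) := by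
  have h : Cfsg.IsCharacter G ρ.character := isCharacter_of_rep ρ
  unfold Cfsg.detChar
  rw [dif_pos h]
  funext g
  have hρ' := Classical.choose_spec (Classical.choose_spec h)
  set ρ' := Classical.choose (Classical.choose_spec h) with hρ'def
  obtain ⟨e⟩ := equiv_of_char_eq ρ' ρ hρ'
  have hconj : ρ g = (e.toLinearEquiv : _ →ₗ[ℂ] V) ∘ₗ ρ' g ∘ₗ
      (e.toLinearEquiv.symm : V →ₗ[ℂ] _) := by
    apply LinearMap.ext
    intro v
    have h1 := LinearMap.congr_fun (e.isIntertwining' g) (e.toLinearEquiv.symm v)
    simp only [LinearMap.coe_comp, Function.comp_apply, LinearEquiv.coe_coe]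
    have h2 : e.toLinearEquiv (e.toLinearEquiv.symm v) = v := e.toLinearEquiv.apply_symm_apply v
    have h3 : e.toLinearEquiv (ρ' g (e.toLinearEquiv.symm v)) =
        ρ g (e.toLinearEquiv (e.toLinearEquiv.symm v)) := h1
    rw [h2] at h3
    exact h3.symm
  rw [detHom_apply, hconj, LinearMap.det_conj]

/-- The determinantal character of a character is a linear character. -/
theorem exists_hom_detChar [Finite G] {χ : G → ℂ} (hχ : Cfsg.IsCharacter G χ) :
    ∃ δ : G →* ℂˣ, Cfsg.detChar χ = fun g => ((δ g : ℂˣ) : ℂ) := by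
  obtain ⟨n, ρ, rfl⟩ := hχ
  exact ⟨detHom ρ, detChar_rep ρ⟩

/-- The determinantal character commutes with pulling back along a homomorphism. -/
theorem detChar_comp_hom [Finite G] {H : Type w} [Group H] [Finite H] (f : H →* G) {χ : G → ℂ}
    (hχ : Cfsg.IsCharacter G χ) :
    Cfsg.detChar (fun h => χ (f h)) = fun h => Cfsg.detChar χ (f h) := by
  obtain ⟨n, ρ, rfl⟩ := hχ
  let σ : Representation ℂ H (Fin n → ℂ) := ρ.comp f
  have h1 : (fun h => ρ.character (f h)) = σ.character := rfl
  rw [h1, detChar_rep, detChar_rep]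
  rfl

/-- Twist of a representation by a linear character. -/
noncomputable def twistRep (μ : G →* ℂˣ) {V : Type v} [AddCommGroup V] [Module ℂ V]
    (ρ : Representation ℂ G V) : Representation ℂ G V where
  toFun g := ((μ g : ℂˣ) : ℂ) • ρ g
  map_one' := by simp
  map_mul' g h := by
    rw [map_mul, map_mul, Units.val_mul, smul_mul_smul_comm]

theorem twistRep_apply (μ : G →* ℂˣ) {V : Type v} [AddCommGroup V] [Module ℂ V]
    (ρ : Representation ℂ G V) (g : G) : twistRep μ ρ g = ((μ g : ℂˣ) : ℂ) • ρ g := rfl

theorem twistRep_character (μ : G →* ℂˣ) {V : Type v} [AddCommGroup V] [Module ℂ V]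
    (ρ : Representation ℂ G V) :
    (twistRep μ ρ).character = fun g => ρ.character g * ((μ g : ℂˣ) : ℂ) := by
  funext g
  unfold Representation.character
  rw [twistRep_apply, map_smul, smul_eq_mul, mul_comm]

/-- The determinantal character of a twist. -/
theorem detChar_mul_hom [Finite G] (μ : G →* ℂˣ) {n : ℕ} (ρ : Representation ℂ G (Fin n → ℂ)) :
    Cfsg.detChar (fun g => ρ.character g * ((μ g : ℂˣ) : ℂ)) =
      fun g => ((detHom ρ g : ℂˣ) : ℂ) * ((μ g : ℂˣ) : ℂ) ^ n := by
  rw [← twistRep_character, detChar_rep]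
  funext g
  rw [detHom_apply, twistRep_apply, LinearMap.det_smul, detHom_apply, mul_comm]
  simp

end Cfsg.Agent.Helper6
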