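import Mathlib
import Cfsg.Prelude.Def_Characters
import Cfsg.Agent.Helper6.CliffordCorr2
import Cfsg.Agent.Helper6.CliffordOrbit
import Cfsg.Agent.Helper6.AbelianInertia
import Cfsg.Agent.Helper6.DetChar
import Cfsg.Agent.Helper6.ItoMichler
import Cfsg.Agent.Helper6.IrrOver
import Cfsg.Agent.Helper6.HeightZeroTrunc
import Cfsg.Agent.Helper6.Linear

/-!
# A normal subgroup of index `m` with a semiregular group of linear characters is abelian
-/

set_option autoImplicit false
set_option linter.style.haveILetI false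

namespace Cfsg.Agent.Helper6

open scoped ComplexConjugate
open Module Representation

universe u

variable {G : Type u} [Group G]

/-- The conjugate of a linear character of a normal subgroup. -/
noncomputable def conjHom (N : Subgroup G) [hN : N.Normal] (μ : N →* ℂˣ) (g : G) : N →* ℂˣ :=
  μ.comp (MulAut.conjNormal g : N ≃* N).toMonoidHom

theorem conjHom_apply (N : Subgroup G) [hN : N.Normal] (μ : N →* ℂˣ) (g : G) (x : N) :
    conjHom N μ g x = μ ⟨g * x * g⁻¹, hN.conj_mem x x.2 g⟩ := rfl

theorem conjFun_coe_hom (N : Subgroup G) [hN : N.Normal] (μ : N →* ℂˣ) (g : G) :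
    conjFun N (fun x : N => ((μ x : ℂˣ) : ℂ)) g = fun x : N => ((conjHom N μ g x : ℂˣ) : ℂ) := rfl

theorem conjHom_conjHom (N : Subgroup G) [hN : N.Normal] (μ : N →* ℂˣ) (a b : G) :
    conjHom N (conjHom N μ a) b = conjHom N μ (a * b) := by
  ext x
  rw [conjHom_apply, conjHom_apply, conjHom_apply]
  congr 3
  simp only [mul_inv_rev]
  group

theorem conjHom_of_mem (N : Subgroup G) [hN : N.Normal] (μ : N →* ℂˣ) (n : G) (hn : n ∈ N) :
    conjHom N μ n = μ := by
  ext x
  rw [conjHom_apply]
  have : (⟨n * x * n⁻¹, hN.conj_mem x x.2 n⟩ : N) = ⟨n, hn⟩ * x * (⟨n, hn⟩ : N)⁻¹ := rfl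
  rw [this, map_mul, map_mul, map_inv, mul_comm (μ ⟨n, hn⟩) (μ x), mul_inv_cancel_right]

theorem conjHom_mul (N : Subgroup G) [hN : N.Normal] (μ ν : N →* ℂˣ) (g : G) :
    conjHom N (μ * ν) g = conjHom N μ g * conjHom N ν g := rfl

theorem conjHom_inv (N : Subgroup G) [hN : N.Normal] (μ : N →* ℂˣ) (g : G) :
    conjHom N μ⁻¹ g = (conjHom N μ g)⁻¹ := rfl

theorem conjHom_one (N : Subgroup G) [hN : N.Normal] (g : G) :
    conjHom N (1 : N →* ℂˣ) g = 1 := rfl

theorem conjHom_eq_one_iff (N : Subgroup G) [hN : N.Normal] (μ : N →* ℂˣ) (g : G) :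
    conjHom N μ g = 1 ↔ μ = 1 := by
  constructor
  · intro h
    have h2 : conjHom N (conjHom N μ g) g⁻¹ = conjHom N 1 g⁻¹ := by rw [h]
    rw [conjHom_conjHom, mul_inv_cancel, conjHom_one] at h2
    rw [← h2]
    ext x
    rw [conjHom_apply]
    congr 3
    simp
  · intro h
    rw [h, conjHom_one]

/-- A linear character fixing an irreducible character under multiplication, of order prime to
its degree, is trivial. -/
theorem hom_eq_one_of_mul_eq_of_coprime {N : Type u} [Group N] [Finite N] {ψ : N → ℂ}
    (hψ : Cfsg.IsIrrCharacter N ψ) (κ : N →* ℂˣ)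
    (h : ∀ x, ψ x * ((κ x : ℂˣ) : ℂ) = ψ x) (k : ℕ) (hk : κ ^ k = 1)
    (hcop : Nat.Coprime k (Cfsg.charDegree ψ)) : κ = 1 := by
  obtain ⟨n, ρ, hirr, rfl⟩ := hψ
  rw [charDegree_rep] at hcop
  have h1 := detChar_mul_hom κ ρ
  have h2 : (fun g => ρ.character g * ((κ g : ℂˣ) : ℂ)) = ρ.character := funext h
  rw [h2, detChar_rep] at h1
  ext x
  have h3 := congrFun h1 x
  have h4 : ((κ x : ℂˣ) : ℂ) ^ n = 1 := by
    have hne : ((detHom ρ x : ℂˣ) : ℂ) ≠ 0 := Units.ne_zero _
    have : ((detHom ρ x : ℂˣ) : ℂ) * 1 = ((detHom ρ x : ℂˣ) : ℂ) * ((κ x : ℂˣ) : ℂ) ^ n := by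
      rw [mul_one]
      exact h3
    exact (mul_left_cancel₀ hne this).symm
  have h5 : (κ x) ^ n = 1 := by
    apply Units.ext
    rw [Units.val_pow_eq_pow_val, h4, Units.val_one]
  have h6 : (κ x) ^ k = 1 := by
    have := congrArg (fun f : N →* ℂˣ => f x) hk
    simpa using this
  have h7 := pow_gcd_eq_one.mpr ⟨h6, h5⟩
  rw [Nat.Coprime.gcd_eq_one hcop, pow_one] at h7
  rw [h7]
  rfl

/-- Pointwise product of conjugates. -/
theorem conjFun_mul_fun (N : Subgroup G) [hN : N.Normal] (F H : N → ℂ) (g : G) :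
    conjFun N (F * H) g = conjFun N F g * conjFun N H g := rfl

/-- **Key step**: let all character degrees of `G` be `1` or `m`, let `N` be a normal subgroup
of index `m` and `L` a nontrivial `G`-stable group of linear characters of `N` of exponent
prime to `m`, on which the elements outside `N` act without nontrivial fixed points.
Then `N` is abelian. -/
theorem abelian_of_semiregular_linear [Fintype G] (m : ℕ)
    (hcd : ∀ χ : Cfsg.IrrCharacter G, Cfsg.charDegree (χ : G → ℂ) = 1 ∨
      Cfsg.charDegree (χ : G → ℂ) = m)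
    (N : Subgroup G) [hN : N.Normal] (hidx : N.index = m)
    (L : Subgroup (N →* ℂˣ))
    (hLconj : ∀ μ ∈ L, ∀ g : G, conjHom N μ g ∈ L)
    (k : ℕ) (hk : ∀ μ ∈ L, μ ^ k = 1) (hkm : Nat.Coprime k m)
    (hsemi : ∀ μ ∈ L, ∀ g : G, g ∉ N → conjHom N μ g = μ → μ = 1)
    (hne : ∃ μ ∈ L, μ ≠ 1) :
    ∀ a ∈ N, ∀ b ∈ N, a * b = b * a := by
  classical
  haveI : Fintype N := Fintype.ofFinite N
  have hm0 : m ≠ 0 := by
    rw [← hidx]
    exact Subgroup.index_ne_zero_of_finite
  have hlin : ∀ ψ : Cfsg.IrrCharacter N, (ψ : N → ℂ) 1 = 1 := by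
    intro ψ
    by_contra hψ1
    have hψc := IsIrrCharacter.isCharacter ψ.2
    have hdcast := charDegree_cast_of_isCharacter hψc
    set d := Cfsg.charDegree (ψ : N → ℂ) with hd
    have hd1 : d ≠ 1 := by
      intro h
      apply hψ1
      rw [← hdcast, h, Nat.cast_one]
    -- d divides m
    obtain ⟨χ, hχ⟩ := exists_irr_over N ψ
    have hdvd := (degree_dvd_of_over N χ ψ hχ).1
    have hdm : d ∣ m := by
      rcases hcd χ with h1 | h1
      · rw [h1] at hdvd
        exact absurd (Nat.dvd_one.mp hdvd) hd1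
      · rw [h1] at hdvd
        exact hdvd
    -- each ψ μ is fixed by an element outside N
    have hfix : ∀ μ : N →* ℂˣ, ∃ g : G, g ∉ N ∧
        conjFun N ((ψ : N → ℂ) * fun x => ((μ x : ℂˣ) : ℂ)) g =
          (ψ : N → ℂ) * fun x => ((μ x : ℂˣ) : ℂ) := by
      intro μ
      by_contra hcon
      push Not at hcon
      set F : N → ℂ := (ψ : N → ℂ) * fun x => ((μ x : ℂˣ) : ℂ) with hF
      have hFirr : Cfsg.IsIrrCharacter N F := IsIrrCharacter.mul_hom μ ψ.2
      have hT' : ∀ g : G, g ∈ N ↔ conjFun N F g = F := by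
        intro g
        constructor
        · intro hg
          exact (mem_conjStab N F g).mp (le_conjStab_of_isClassFunction N F
            (IsCharacter.isClassFunction (IsIrrCharacter.isCharacter hFirr)) hg)
        · intro h
          by_contra hg
          exact hcon g hg h
      have hf : Cfsg.classInner (fun n : N => F ⟨(n : G), (le_refl N) n.2⟩) F ≠ 0 := by
        have : (fun n : N => F ⟨(n : G), (le_refl N) n.2⟩) = F := by
          funext n
          rfl
        rw [this, classInner_irr_self hFirr]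
        exact one_ne_zero
      obtain ⟨hirr, -⟩ := clifford_corr_ind_irr N F hFirr N hT' (le_refl N) F hFirr hf
      have hdeg := charDegree_cast_of_isCharacter (IsIrrCharacter.isCharacter hirr)
      rw [indFun_apply_one, hidx] at hdeg
      have hF1 : F 1 = (d : ℂ) := by
        simp only [hF, Pi.mul_apply, map_one, Units.val_one, mul_one]
        exact hdcast.symm
      rw [hF1] at hdeg
      have hnat : Cfsg.charDegree (Cfsg.indFun N F) = m * d := by exact_mod_cast hdeg
      rcases hcd ⟨_, hirr⟩ with h1 | h1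
      · have h2 : Cfsg.charDegree (Cfsg.indFun N F) = 1 := h1
        rw [hnat] at h2
        exact hd1 (Nat.eq_one_of_mul_eq_one_left h2)
      · have h2 : Cfsg.charDegree (Cfsg.indFun N F) = m := h1
        rw [hnat] at h2
        have h3 : m * d = m * 1 := by rw [h2, mul_one]
        exact hd1 (Nat.eq_of_mul_eq_mul_left (Nat.pos_of_ne_zero hm0) h3)
    choose gsel hgN hgfix using hfix
    -- the selection is injective modulo N on L
    have hinj : ∀ μ ∈ L, ∀ μ' ∈ L,
        (gsel μ : G ⧸ N) = (gsel μ' : G ⧸ N) → μ = μ' := by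
      intro μ hμ μ' hμ' hq
      set g := gsel μ with hg
      -- g also fixes ψ μ'
      have hg' : conjFun N ((ψ : N → ℂ) * fun x => ((μ' x : ℂˣ) : ℂ)) g =
          (ψ : N → ℂ) * fun x => ((μ' x : ℂˣ) : ℂ) := by
        have hmem : (gsel μ')⁻¹ * g ∈ N := by
          rw [← QuotientGroup.eq]
          exact hq.symm
        have h1 : g = gsel μ' * ((gsel μ')⁻¹ * g) := by group
        rw [h1, ← conjFun_mul, hgfix μ']
        have hFirr : Cfsg.IsIrrCharacter N ((ψ : N → ℂ) * fun x => ((μ' x : ℂˣ) : ℂ)) :=
          IsIrrCharacter.mul_hom μ' ψ.2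
        exact (mem_conjStab N _ _).mp (le_conjStab_of_isClassFunction N _
          (IsCharacter.isClassFunction (IsIrrCharacter.isCharacter hFirr)) hmem)
      set ν : N →* ℂˣ := μ⁻¹ * μ' with hν
      have hνL : ν ∈ L := mul_mem (inv_mem hμ) hμ'
      set F : N → ℂ := (ψ : N → ℂ) * fun x => ((μ x : ℂˣ) : ℂ) with hF
      have hFirr : Cfsg.IsIrrCharacter N F := IsIrrCharacter.mul_hom μ ψ.2
      have hFν : (ψ : N → ℂ) * (fun x => ((μ' x : ℂˣ) : ℂ)) = F * fun x => ((ν x : ℂˣ) : ℂ) := by
        funext x
        simp only [hF, hν, Pi.mul_apply, MonoidHom.mul_apply, MonoidHom.inv_apply,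
          Units.val_mul, Units.val_inv_eq_inv_val]
        have : ((μ x : ℂˣ) : ℂ) ≠ 0 := Units.ne_zero _
        field_simp
      rw [hFν, conjFun_mul_fun, hgfix μ, conjFun_coe_hom] at hg'
      -- κ = ν^g ν⁻¹ fixes F
      set κ : N →* ℂˣ := conjHom N ν g * ν⁻¹ with hκ
      have hκL : κ ∈ L := mul_mem (hLconj ν hνL g) (inv_mem hνL)
      have hFκ : ∀ x, F x * ((κ x : ℂˣ) : ℂ) = F x := by
        intro x
        have h1 : F x * ((conjHom N ν g x : ℂˣ) : ℂ) = F x * ((ν x : ℂˣ) : ℂ) := congrFun hg' x
        simp only [hκ, MonoidHom.mul_apply, MonoidHom.inv_apply, Units.val_mul,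
          Units.val_inv_eq_inv_val]
        have hne : ((ν x : ℂˣ) : ℂ) ≠ 0 := Units.ne_zero _
        rw [← mul_assoc, h1, mul_assoc, mul_inv_cancel₀ hne, mul_one]
      have hFdeg : Cfsg.charDegree F = d := by
        have h1 := charDegree_cast_of_isCharacter (IsIrrCharacter.isCharacter hFirr)
        have hF1 : F 1 = (d : ℂ) := by
          simp only [hF, Pi.mul_apply, map_one, Units.val_one, mul_one]
          exact hdcast.symm
        rw [hF1] at h1
        exact_mod_cast h1
      have hcop : Nat.Coprime k (Cfsg.charDegree F) := by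
        rw [hFdeg]
        exact Nat.Coprime.coprime_dvd_right hdm hkm
      have hκ1 := hom_eq_one_of_mul_eq_of_coprime hFirr κ hFκ k (hk κ hκL) hcop
      have hνg : conjHom N ν g = ν := by
        rw [hκ] at hκ1
        exact mul_inv_eq_one.mp hκ1
      have hν1 := hsemi ν hνL g (hgN μ) hνg
      rw [hν] at hν1
      exact inv_mul_eq_one.mp hν1
    -- counting
    haveI : Finite (N →* ℂˣ) := by
      haveI : Finite (Cfsg.IrrCharacter N) := irr_finite
      exact Finite.of_injective (fun μ : N →* ℂˣ =>
        (⟨fun x => ((μ x : ℂˣ) : ℂ), isIrrCharacter_of_hom μ⟩ : Cfsg.IrrCharacter N)) (by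
          intro μ μ' h
          ext x
          have := congrFun (congrArg Subtype.val h) x
          exact this)
    haveI : Fintype L := Fintype.ofFinite L
    haveI : Fintype (G ⧸ N) := Fintype.ofFinite _
    have hcardQ : Fintype.card (G ⧸ N) = m := by
      rw [← Nat.card_eq_fintype_card, ← hidx]
      rfl
    -- upper bound
    have hupper : Fintype.card L + 1 ≤ m := by
      let f : Option L → G ⧸ N := fun o => match o with
        | none => 1
        | some μ => (gsel (μ : N →* ℂˣ) : G ⧸ N)
      have hfinj : Function.Injective f := by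
        intro a b hab
        match a, b with
        | none, none => rfl
        | none, some μ =>
          exfalso
          have : (gsel (μ : N →* ℂˣ) : G ⧸ N) = 1 := hab.symm
          rw [QuotientGroup.eq_one_iff] at this
          exact hgN _ this
        | some μ, none =>
          exfalso
          have : (gsel (μ : N →* ℂˣ) : G ⧸ N) = 1 := hab
          rw [QuotientGroup.eq_one_iff] at this
          exact hgN _ this
        | some μ, some μ' =>
          have : (gsel (μ : N →* ℂˣ) : G ⧸ N) = (gsel (μ' : N →* ℂˣ) : G ⧸ N) := hab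
          have := hinj μ μ.2 μ' μ'.2 this
          rw [Subtype.ext this]
      have := Fintype.card_le_of_injective f hfinj
      rw [Fintype.card_option, hcardQ] at this
      exact this
    -- lower bound
    obtain ⟨μ₀, hμ₀L, hμ₀⟩ := hne
    have hlower : m + 1 ≤ Fintype.card L := by
      let f : Option (G ⧸ N) → L := fun o => match o with
        | none => ⟨1, one_mem L⟩
        | some q => ⟨conjHom N μ₀ q.out, hLconj μ₀ hμ₀L _⟩
      have hfinj : Function.Injective f := by
        intro a b hab
        match a, b with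
        | none, none => rfl
        | none, some q =>
          exfalso
          have : (1 : N →* ℂˣ) = conjHom N μ₀ q.out := congrArg Subtype.val hab
          exact hμ₀ ((conjHom_eq_one_iff N μ₀ _).mp this.symm)
        | some q, none =>
          exfalso
          have : conjHom N μ₀ q.out = (1 : N →* ℂˣ) := congrArg Subtype.val hab
          exact hμ₀ ((conjHom_eq_one_iff N μ₀ _).mp this)
        | some q, some q' =>
          have h1 : conjHom N μ₀ q.out = conjHom N μ₀ q'.out := congrArg Subtype.val hab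
          have h2 : conjHom N μ₀ (q.out * (q'.out)⁻¹) = μ₀ := by
            rw [← conjHom_conjHom, h1, conjHom_conjHom, mul_inv_cancel]
            exact conjHom_of_mem N μ₀ 1 (one_mem N)
          have h3 : q.out * (q'.out)⁻¹ ∈ N := by
            by_contra hnot
            exact hμ₀ (hsemi μ₀ hμ₀L _ hnot h2)
          have h4 : (q.out : G ⧸ N) = (q'.out : G ⧸ N) := by
            rw [QuotientGroup.eq]
            have h5 := hN.conj_mem _ (inv_mem h3) (q.out)⁻¹
            rw [inv_inv] at h5
            have : (q.out)⁻¹ * q'.out = (q.out)⁻¹ * (q.out * (q'.out)⁻¹)⁻¹ * q.out := by group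
            rw [this]
            exact h5
          rw [QuotientGroup.out_eq', QuotientGroup.out_eq'] at h4
          rw [h4]
      have := Fintype.card_le_of_injective f hfinj
      rw [Fintype.card_option, hcardQ] at this
      exact this
    omega
  have hcomm := (comm_iff_forall_irr_degree_one (G := N)).mpr hlin
  intro a ha b hb
  have := hcomm ⟨a, ha⟩ ⟨b, hb⟩
  exact congrArg Subtype.val this

end Cfsg.Agent.Helper6
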