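import Mathlib
import Cfsg.Prelude.Def_Characters
import Cfsg.Agent.Helper6.SRealA
import Cfsg.Agent.Helper6.IndFun
import Cfsg.Agent.Helper6.TwoDegH

/-!
# Frobenius–Schur indicator of a character induced from a linear character (split case)
-/

set_option autoImplicit false
set_option linter.style.haveILetI false

namespace Cfsg.Agent.Helper6.SReal

open Cfsg.Agent.Helper6

universe u

variable {G : Type u} [Group G]

/-- Frobenius–Schur sum of an induced function. -/
theorem fs_indFun [Fintype G] (T : Subgroup G) (ψ : T → ℂ) :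
    (Nat.card G : ℂ)⁻¹ * ∑ x : G, Cfsg.indFun T ψ (x * x) =
      (Nat.card T : ℂ)⁻¹ * ∑ x : G, Cfsg.extendByZero T ψ (x * x) := by
  classical
  have hG0 : (Nat.card G : ℂ) ≠ 0 := by exact_mod_cast Nat.card_pos.ne'
  have h1 : ∑ x : G, Cfsg.indFun T ψ (x * x) =
      (Nat.card T : ℂ)⁻¹ * ((Nat.card G : ℂ) * ∑ x : G, Cfsg.extendByZero T ψ (x * x)) := by
    simp only [indFun_apply]
    rw [← Finset.mul_sum, Finset.sum_comm]
    congr 1
    have h2 : ∀ t : G, ∑ x : G, Cfsg.extendByZero T ψ (t⁻¹ * (x * x) * t) =
        ∑ x : G, Cfsg.extendByZero T ψ (x * x) := by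
      intro t
      apply Fintype.sum_equiv (MulAut.conj t⁻¹).toEquiv
      intro x
      congr 1
      simp only [MulEquiv.toEquiv_eq_coe, EquivLike.coe_coe, MulAut.conj_apply]
      group
    simp only [h2, Finset.sum_const, Finset.card_univ, nsmul_eq_mul]
    rw [Nat.card_eq_fintype_card]
  rw [h1]
  field_simp

theorem sum_hom_coe {A : Type u} [Group A] [Fintype A] (κ : A →* ℂˣ) [Decidable (κ = 1)] :
    ∑ a : A, ((κ a : ℂˣ) : ℂ) = if κ = 1 then (Nat.card A : ℂ) else 0 := by
  classical
  let f : A →* ℂ := (Units.coeHom ℂ).comp κ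
  have hf : ∀ a, f a = ((κ a : ℂˣ) : ℂ) := fun a => rfl
  have hiff : f = 1 ↔ κ = 1 := by
    constructor
    · intro h
      ext a
      have := DFunLike.congr_fun h a
      rw [hf] at this
      simpa using this
    · intro h
      ext a
      rw [hf, h]
      simp
  have := sum_hom_units f
  simp only [hf] at this
  rw [this]
  by_cases h : κ = 1
  · rw [if_pos h, if_pos (hiff.mpr h), Nat.card_eq_fintype_card]
  · rw [if_neg h, if_neg (fun h' => h (hiff.mp h'))]
    simp

/-- The main indicator computation. -/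
theorem fs_ind_eq_one [Fintype G] (N P : Subgroup G) [hN : N.Normal] (hdisj : N ⊓ P = ⊥)
    (hprod : N ⊔ P = ⊤) (lam : N →* ℂˣ) (T : Subgroup G) (hNT : N ≤ T)
    (hT : ∀ g : G, g ∈ T ↔ conjHom N lam g = lam)
    (φ : T →* ℂˣ) (hφN : ∀ n : N, φ ⟨(n : G), hNT n.2⟩ = lam n)
    (hφP : ∀ t : T, (t : G) ∈ P → φ t = 1)
    (z : G) (hzP : z ∈ P) (hzz : z * z = 1) (hzc : ∀ h ∈ P, z * h = h * z)
    (hzinv : conjHom N lam z = lam⁻¹) :
    (Nat.card G : ℂ)⁻¹ * ∑ x : G, Cfsg.indFun T (fun t : T => ((φ t : ℂˣ) : ℂ)) (x * x) = 1 := by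
  classical
  rw [fs_indFun]
  set F : G → ℂ := Cfsg.extendByZero T (fun t : T => ((φ t : ℂˣ) : ℂ)) with hF
  have hzinv' : z⁻¹ = z := inv_eq_of_mul_eq_one_left hzz
  -- the key inner sum
  have key : ∀ h : P, ∑ n : N, F ((n : G) * (h : G) * ((n : G) * (h : G))) =
      if ((h : G) * z ∈ T) then (Nat.card N : ℂ) else 0 := by
    intro h
    have hsq : ∀ n : N, (n : G) * (h : G) * ((n : G) * (h : G)) =
        ((n : G) * ((h : G) * (n : G) * (h : G)⁻¹)) * ((h : G) * (h : G)) := by
      intro n; group
    have haN : ∀ n : N, (n : G) * ((h : G) * (n : G) * (h : G)⁻¹) ∈ N :=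
      fun n => N.mul_mem n.2 (hN.conj_mem n n.2 h)
    have hhzsq : (h : G) * z * ((h : G) * z) = (h : G) * (h : G) := by
      calc (h : G) * z * ((h : G) * z) = (h : G) * (z * (h : G)) * z := by group
        _ = (h : G) * ((h : G) * z) * z := by rw [hzc h h.2]
        _ = (h : G) * (h : G) * (z * z) := by group
        _ = (h : G) * (h : G) := by rw [hzz, mul_one]
    by_cases hhT : (h : G) * (h : G) ∈ T
    · -- case B
      have hterm : ∀ n : N, F ((n : G) * (h : G) * ((n : G) * (h : G))) =
          (((lam * conjHom N lam h) n : ℂˣ) : ℂ) := by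
        intro n
        have hmem : (n : G) * (h : G) * ((n : G) * (h : G)) ∈ T := by
          rw [hsq]
          exact T.mul_mem (hNT (haN n)) hhT
        rw [hF, extendByZero_mem T _ hmem]
        have h1 : (⟨(n : G) * (h : G) * ((n : G) * (h : G)), hmem⟩ : T) =
            ⟨(n : G) * ((h : G) * (n : G) * (h : G)⁻¹), hNT (haN n)⟩ *
              ⟨(h : G) * (h : G), hhT⟩ := by
          apply Subtype.ext
          exact hsq n
        rw [h1, map_mul, hφP ⟨(h : G) * (h : G), hhT⟩ (P.mul_mem h.2 h.2), mul_one]
        have h2 := hφN ⟨(n : G) * ((h : G) * (n : G) * (h : G)⁻¹), haN n⟩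
        rw [h2]
        have h3 : (⟨(n : G) * ((h : G) * (n : G) * (h : G)⁻¹), haN n⟩ : N) =
            n * ⟨(h : G) * (n : G) * (h : G)⁻¹, hN.conj_mem n n.2 h⟩ := rfl
        rw [h3, map_mul, MonoidHom.mul_apply, conjHom_apply]
      rw [Finset.sum_congr rfl (fun n _ => hterm n), sum_hom_coe]
      have hκ : ∀ κ : N →* ℂˣ, lam * κ = 1 ↔ κ = lam⁻¹ := by
        intro κ
        constructor
        · intro h1
          ext n
          have h2 := DFunLike.congr_fun h1 n
          simp only [MonoidHom.mul_apply, MonoidHom.one_apply] at h2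
          rw [MonoidHom.inv_apply]
          exact congrArg Units.val (eq_inv_of_mul_eq_one_right h2)
        · intro h1
          rw [h1]
          ext n
          simp
      have hinvz : conjHom N lam⁻¹ z = lam := by
        ext n
        rw [conjHom_apply, MonoidHom.inv_apply]
        have h2 := DFunLike.congr_fun hzinv n
        rw [conjHom_apply, MonoidHom.inv_apply] at h2
        rw [h2, inv_inv]
      have hiff : (lam * conjHom N lam h = 1) ↔ ((h : G) * z ∈ T) := by
        rw [hT, ← conjHom_conjHom, hκ]
        constructor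
        · intro h1
          rw [h1, hinvz]
        · intro h1
          have h2 : conjHom N (conjHom N (conjHom N lam h) z) z = conjHom N lam z := by rw [h1]
          rw [conjHom_conjHom, hzz, conjHom_of_mem N _ 1 N.one_mem, hzinv] at h2
          exact h2
      by_cases hc : lam * conjHom N lam h = 1
      · rw [if_pos hc, if_pos (hiff.mp hc)]
      · rw [if_neg hc, if_neg (fun h' => hc (hiff.mpr h'))]
    · -- case A
      have hterm : ∀ n : N, F ((n : G) * (h : G) * ((n : G) * (h : G))) = 0 := by
        intro n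
        apply extendByZero_not_mem
        intro hmem
        rw [hsq] at hmem
        apply hhT
        have := T.mul_mem (T.inv_mem (hNT (haN n))) hmem
        rwa [inv_mul_cancel_left] at this
      rw [Finset.sum_congr rfl (fun n _ => hterm n), Finset.sum_const_zero]
      have : ¬ ((h : G) * z ∈ T) := by
        intro h1
        apply hhT
        rw [← hhzsq]
        exact T.mul_mem h1 h1
      rw [if_neg this]
  -- the sum over G
  have hsum : ∑ x : G, F (x * x) =
      ∑ h : P, ∑ n : N, F ((n : G) * (h : G) * ((n : G) * (h : G))) := by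
    rw [← (decomp N P hdisj hprod).sum_comp, Fintype.sum_prod_type, Finset.sum_comm]
    rfl
  rw [hsum, Finset.sum_congr rfl (fun h _ => key h)]
  -- counting
  have hcountT : (Nat.card T : ℂ) =
      (Nat.card N : ℂ) * ((Finset.univ.filter (fun h : P => (h : G) ∈ T)).card : ℂ) := by
    have h1 : (Nat.card T : ℂ) = ∑ x : G, if x ∈ T then (1 : ℂ) else 0 := by
      rw [Finset.sum_ite, Finset.sum_const_zero, add_zero, Finset.sum_const, nsmul_eq_mul,
        mul_one, Nat.card_eq_fintype_card, Fintype.card_subtype]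
    rw [h1, ← (decomp N P hdisj hprod).sum_comp, Fintype.sum_prod_type]
    have h2 : ∀ (n : N) (h : P), (decomp N P hdisj hprod (n, h) ∈ T) ↔ (h : G) ∈ T := by
      intro n h
      rw [decomp_apply]
      constructor
      · intro hm
        have := T.mul_mem (T.inv_mem (hNT n.2)) hm
        simpa using this
      · intro hm
        exact T.mul_mem (hNT n.2) hm
    simp only [h2]
    rw [Finset.sum_const, Finset.sum_ite, Finset.sum_const_zero, add_zero, Finset.sum_const]
    simp only [nsmul_eq_mul, mul_one, Finset.card_univ]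
    rw [Nat.card_eq_fintype_card]
  have hcount2 : (Finset.univ.filter (fun h : P => (h : G) * z ∈ T)).card =
      (Finset.univ.filter (fun h : P => (h : G) ∈ T)).card := by
    apply Finset.card_bij (fun (h : P) _ => h * ⟨z, hzP⟩)
    · intro h hh
      simp only [Finset.mem_filter, Finset.mem_univ, true_and] at hh ⊢
      exact hh
    · intro a _ b _ hab
      exact mul_right_cancel hab
    · intro b hb
      simp only [Finset.mem_filter, Finset.mem_univ, true_and] at hb
      refine ⟨b * ⟨z, hzP⟩, ?_, ?_⟩
      · simp only [Finset.mem_filter, Finset.mem_univ, true_and]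
        show (b : G) * z * z ∈ T
        rw [mul_assoc, hzz, mul_one]; exact hb
      · apply Subtype.ext
        show (b : G) * z * z = b
        rw [mul_assoc, hzz, mul_one]
  rw [Finset.sum_ite, Finset.sum_const_zero, add_zero, Finset.sum_const, nsmul_eq_mul, hcount2,
    hcountT]
  have hN0 : (Nat.card N : ℂ) ≠ 0 := by exact_mod_cast Nat.card_pos.ne'
  have hc0 : ((Finset.univ.filter (fun h : P => (h : G) ∈ T)).card : ℂ) ≠ 0 := by
    have : 0 < (Finset.univ.filter (fun h : P => (h : G) ∈ T)).card := by
      apply Finset.card_pos.mpr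
      exact ⟨1, by simp [T.one_mem]⟩
    exact_mod_cast this.ne'
  field_simp

end Cfsg.Agent.Helper6.SReal
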