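import Mathlib

/-!
# A combinatorial orthonormality criterion
-/

set_option autoImplicit false

namespace Cfsg.Agent.Helper6

/-- If natural numbers `a i j` with `a i i ≥ 1` and positive weights `e i` satisfy
`∑ e i e j a i j = ∑ e i ^ 2`, then `a` is the identity matrix. -/
theorem orthonormal_of_sum_sq {ι : Type*} [DecidableEq ι] (s : Finset ι) (e : ι → ℕ)
    (he : ∀ i ∈ s, 0 < e i) (a : ι → ι → ℕ) (ha : ∀ i ∈ s, 1 ≤ a i i)
    (h : ∑ i ∈ s, ∑ j ∈ s, e i * e j * a i j = ∑ i ∈ s, e i ^ 2) :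
    ∀ i ∈ s, ∀ j ∈ s, a i j = if i = j then 1 else 0 := by
  have hrow1 : ∀ i ∈ s, e i ^ 2 * a i i ≤ ∑ j ∈ s, e i * e j * a i j := by
    intro i hi
    have := Finset.single_le_sum (f := fun j : ι => e i * e j * a i j)
      (fun _ _ => Nat.zero_le _) hi
    rw [sq]
    exact this
  have hle : ∀ i ∈ s, e i ^ 2 ≤ ∑ j ∈ s, e i * e j * a i j := fun i hi =>
    (Nat.le_mul_of_pos_right _ (ha i hi)).trans (hrow1 i hi)
  have heq := (Finset.sum_eq_sum_iff_of_le hle).mp h.symm
  intro i hi j hj
  have hrow := heq i hi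
  have hpos : 0 < e i ^ 2 := pow_pos (he i hi) 2
  have hdiag : a i i = 1 := by
    have h1 := hrow1 i hi
    rw [← hrow] at h1
    have h2 : a i i ≤ 1 := by
      by_contra hcon
      push Not at hcon
      have : e i ^ 2 * 2 ≤ e i ^ 2 * a i i := Nat.mul_le_mul_left _ hcon
      omega
    exact le_antisymm h2 (ha i hi)
  by_cases hij : i = j
  · subst hij
    rw [if_pos rfl, hdiag]
  · rw [if_neg hij]
    have hsub : ∑ k ∈ ({i, j} : Finset ι), e i * e k * a i k ≤ ∑ k ∈ s, e i * e k * a i k := by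
      apply Finset.sum_le_sum_of_subset
      intro k hk
      rw [Finset.mem_insert, Finset.mem_singleton] at hk
      rcases hk with rfl | rfl
      · exact hi
      · exact hj
    rw [Finset.sum_pair hij, ← hrow, hdiag, mul_one, ← sq] at hsub
    have h0 : e i * e j * a i j = 0 := by omega
    rcases Nat.mul_eq_zero.mp h0 with h1 | h1
    · rcases Nat.mul_eq_zero.mp h1 with h2 | h2
      · exact absurd h2 (he i hi).ne'
      · exact absurd h2 (he j hj).ne'
    · exact h1

end Cfsg.Agent.Helper6
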