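import Mathlib
import Cfsg.Prelude.Def_Characters
import Cfsg.Agent.Helper6.OrthoNat
import Cfsg.Agent.Helper6.NormalInd
import Cfsg.Agent.Helper6.Artin
import Cfsg.Agent.Helper6.Induced
import Cfsg.Agent.Helper6.IrrCrit
import Cfsg.Agent.Helper6.IrrDegree

/-!
# Multiplication by an extension: a bijection of character sets
-/

set_option autoImplicit false
set_option linter.style.haveILetI false

namespace Cfsg.Agent.Helper6

open Module Representation ComplexConjugate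

universe u v

variable {G : Type u} [Group G]

/-- The norm of the function induced from an invariant irreducible character of a normal
subgroup. -/
theorem classInner_indFun_invariant [Fintype G] (N : Subgroup G) [hN : N.Normal] (θ : N → ℂ)
    (hθ : Cfsg.IsIrrCharacter N θ)
    (hinv : ∀ (g : G) (n : N), θ ⟨g * n * g⁻¹, hN.conj_mem (n : G) n.2 g⟩ = θ n) :
    Cfsg.classInner (Cfsg.indFun N θ) (Cfsg.indFun N θ) = (N.index : ℂ) := by
  have h := card_mul_classInner_indFun_normal N θ hθ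
  have hall : Nat.card {g : G // conjFun N θ g = θ} = Nat.card G := by
    apply Nat.card_congr
    apply Equiv.subtypeUnivEquiv
    intro g
    ext n
    exact hinv g n
  rw [hall, ← Subgroup.index_mul_card N] at h
  have hN0 : (Nat.card N : ℂ) ≠ 0 := by
    have : 0 < Nat.card N := Nat.card_pos
    exact_mod_cast this.ne'
  apply mul_left_cancel₀ hN0
  rw [h]
  push_cast
  ring

theorem mul_ext_bijOn [Fintype G] (N : Subgroup G) [hN : N.Normal] (φ ϑ : N → ℂ)
    (hφ : Cfsg.IsIrrCharacter N φ)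
    (hφinv : ∀ (g : G) (n : N), φ ⟨g * n * g⁻¹, hN.conj_mem (n : G) n.2 g⟩ = φ n)
    (hϑinv : ∀ (g : G) (n : N), ϑ ⟨g * n * g⁻¹, hN.conj_mem (n : G) n.2 g⟩ = ϑ n)
    (hprod : Cfsg.IsIrrCharacter N (φ * ϑ)) (χ : G → ℂ) (hχ : Cfsg.IsIrrCharacter G χ)
    (hext : ∀ n : N, χ n = ϑ n) :
    Set.BijOn (fun β : G → ℂ => β * χ)
      {β : G → ℂ | Cfsg.IsIrrCharacter G β ∧ Cfsg.classInner (Cfsg.indFun N φ) β ≠ 0}
      {ψ : G → ℂ | Cfsg.IsIrrCharacter G ψ ∧ Cfsg.classInner (Cfsg.indFun N (φ * ϑ)) ψ ≠ 0} := by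
  classical
  haveI : Fintype N := Fintype.ofFinite N
  haveI : Finite (Cfsg.IrrCharacter G) := irr_finite
  haveI : Fintype (Cfsg.IrrCharacter G) := Fintype.ofFinite _
  have hχc := IsIrrCharacter.isCharacter hχ
  set Φ : G → ℂ := Cfsg.indFun N φ with hΦ
  set Ψ : G → ℂ := Cfsg.indFun N (φ * ϑ) with hΨ
  have hΦc : Cfsg.IsCharacter G Φ := isCharacter_indFun N φ (IsIrrCharacter.isCharacter hφ)
  have heex : ∀ β : Cfsg.IrrCharacter G, ∃ e : ℕ, Cfsg.classInner Φ (β : G → ℂ) = e :=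
    fun β => classInner_char_char_nat hΦc (IsIrrCharacter.isCharacter β.2)
  choose e he using heex
  set s : Finset (Cfsg.IrrCharacter G) := Finset.univ.filter (fun β => e β ≠ 0) with hs
  have hΦexp : Φ = ∑ β ∈ s, (e β : ℂ) • (β : G → ℂ) := by
    conv_lhs => rw [classFunction_expansion Φ (IsCharacter.isClassFunction hΦc)]
    rw [hs, Finset.sum_filter]
    apply Finset.sum_congr rfl
    intro β _
    rw [he]
    split_ifs with h
    · rfl
    · push Not at h
      rw [h, Nat.cast_zero, zero_smul]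
  have hΨΦ : Ψ = χ * Φ := by
    rw [hΨ, hΦ, mul_indFun N φ χ (IsCharacter.isClassFunction hχc)]
    congr 1
    ext n
    simp only [Pi.mul_apply]
    rw [hext n, mul_comm]
  have hΨexp : Ψ = ∑ β ∈ s, (e β : ℂ) • ((β : G → ℂ) * χ) := by
    rw [hΨΦ, hΦexp, Finset.mul_sum]
    apply Finset.sum_congr rfl
    intro β _
    ext g
    simp only [Pi.mul_apply, Pi.smul_apply, smul_eq_mul]
    ring
  have hprodinv : ∀ (g : G) (n : N),
      (φ * ϑ) ⟨g * n * g⁻¹, hN.conj_mem (n : G) n.2 g⟩ = (φ * ϑ) n := by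
    intro g n
    simp only [Pi.mul_apply]
    rw [hφinv, hϑinv]
  have hnormΦ : Cfsg.classInner Φ Φ = (N.index : ℂ) :=
    classInner_indFun_invariant N φ hφ hφinv
  have hnormΨ : Cfsg.classInner Ψ Ψ = (N.index : ℂ) :=
    classInner_indFun_invariant N (φ * ϑ) hprod hprodinv
  have hprodchar : ∀ β : Cfsg.IrrCharacter G, Cfsg.IsCharacter G ((β : G → ℂ) * χ) :=
    fun β => IsCharacter.mul (IsIrrCharacter.isCharacter β.2) hχc
  have haex : ∀ β β' : Cfsg.IrrCharacter G, ∃ a : ℕ,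
      Cfsg.classInner ((β : G → ℂ) * χ) ((β' : G → ℂ) * χ) = a :=
    fun β β' => classInner_char_char_nat (hprodchar β) (hprodchar β')
  choose a ha using haex
  have ha1 : ∀ β ∈ s, 1 ≤ a β β := by
    intro β _
    by_contra h0
    have h0' : a β β = 0 := by omega
    have h1 := ha β β
    rw [h0', Nat.cast_zero] at h1
    have h2 := congrFun (classInner_self_eq_zero h1) 1
    simp only [Pi.mul_apply, Pi.zero_apply] at h2
    rcases mul_eq_zero.mp h2 with h3 | h3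
    · exact IsIrrCharacter.apply_one_ne_zero β.2 h3
    · exact IsIrrCharacter.apply_one_ne_zero hχ h3
  -- Σ e² = index
  have hsumsq : ((∑ β ∈ s, e β ^ 2 : ℕ) : ℂ) = (N.index : ℂ) := by
    rw [← hnormΦ]
    conv_rhs => rw [hΦexp]
    rw [classInner_sum_left]
    push_cast
    apply Finset.sum_congr rfl
    intro β hβ
    rw [classInner_smul_left, classInner_conj_symm, ← hΦexp, he, Complex.conj_natCast]
    ring
  have hsumprod : ((∑ β ∈ s, ∑ β' ∈ s, e β * e β' * a β β' : ℕ) : ℂ) = (N.index : ℂ) := by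
    rw [← hnormΨ]
    conv_rhs => rw [hΨexp]
    rw [classInner_sum_left]
    push_cast
    apply Finset.sum_congr rfl
    intro β _
    rw [classInner_sum_right]
    apply Finset.sum_congr rfl
    intro β' _
    rw [classInner_smul_left, classInner_smul_right, ha, Complex.conj_natCast]
    ring
  have hnat : ∑ β ∈ s, ∑ β' ∈ s, e β * e β' * a β β' = ∑ β ∈ s, e β ^ 2 := by
    have : ((∑ β ∈ s, ∑ β' ∈ s, e β * e β' * a β β' : ℕ) : ℂ) =
        ((∑ β ∈ s, e β ^ 2 : ℕ) : ℂ) := by rw [hsumprod, hsumsq]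
    exact_mod_cast this
  have hes : ∀ β ∈ s, 0 < e β := by
    intro β hβ
    rw [hs, Finset.mem_filter] at hβ
    exact Nat.pos_of_ne_zero hβ.2
  have horth := orthonormal_of_sum_sq s e hes a ha1 hnat
  have hmem : ∀ β : Cfsg.IrrCharacter G, β ∈ s ↔ Cfsg.classInner Φ (β : G → ℂ) ≠ 0 := by
    intro β
    rw [hs, Finset.mem_filter, he]
    simp
  -- inner products of Ψ with products
  have hΨinner : ∀ ψ : G → ℂ, Cfsg.classInner Ψ ψ =
      ∑ β ∈ s, (e β : ℂ) * Cfsg.classInner ((β : G → ℂ) * χ) ψ := by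
    intro ψ
    conv_lhs => rw [hΨexp]
    rw [classInner_sum_left]
    apply Finset.sum_congr rfl
    intro β _
    rw [classInner_smul_left]
  refine ⟨?_, ?_, ?_⟩
  · rintro β ⟨hβ, hβne⟩
    have hβs : (⟨β, hβ⟩ : Cfsg.IrrCharacter G) ∈ s := (hmem ⟨β, hβ⟩).mpr hβne
    have h1 : a ⟨β, hβ⟩ ⟨β, hβ⟩ = 1 := by
      rw [horth _ hβs _ hβs, if_pos rfl]
    refine ⟨?_, ?_⟩
    · apply isIrrCharacter_of_classInner_self (hprodchar ⟨β, hβ⟩)
      rw [ha, h1, Nat.cast_one]
    · change Cfsg.classInner Ψ (β * χ) ≠ 0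
      rw [hΨinner]
      rw [Finset.sum_eq_single_of_mem (⟨β, hβ⟩ : Cfsg.IrrCharacter G) hβs]
      · change (e ⟨β, hβ⟩ : ℂ) * Cfsg.classInner (((⟨β, hβ⟩ : Cfsg.IrrCharacter G) : G → ℂ) * χ)
          (((⟨β, hβ⟩ : Cfsg.IrrCharacter G) : G → ℂ) * χ) ≠ 0
        rw [ha, h1, Nat.cast_one, mul_one]
        exact_mod_cast (hes _ hβs).ne'
      · intro β' hβ' hne
        change (e β' : ℂ) * Cfsg.classInner ((β' : G → ℂ) * χ)
          (((⟨β, hβ⟩ : Cfsg.IrrCharacter G) : G → ℂ) * χ) = 0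
        rw [ha, horth _ hβ' _ hβs, if_neg hne, Nat.cast_zero, mul_zero]
  · rintro β ⟨hβ, hβne⟩ β' ⟨hβ', hβne'⟩ heq
    have hβs : (⟨β, hβ⟩ : Cfsg.IrrCharacter G) ∈ s := (hmem ⟨β, hβ⟩).mpr hβne
    have hβs' : (⟨β', hβ'⟩ : Cfsg.IrrCharacter G) ∈ s := (hmem ⟨β', hβ'⟩).mpr hβne'
    by_contra hne
    have hne' : (⟨β, hβ⟩ : Cfsg.IrrCharacter G) ≠ ⟨β', hβ'⟩ := by
      intro h
      exact hne (congrArg Subtype.val h)
    have h0 := horth _ hβs _ hβs'
    rw [if_neg hne'] at h0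
    have h1 := horth _ hβs _ hβs
    rw [if_pos rfl] at h1
    have h2 := ha ⟨β, hβ⟩ ⟨β', hβ'⟩
    have h3 := ha ⟨β, hβ⟩ ⟨β, hβ⟩
    simp only at heq
    change Cfsg.classInner (β * χ) (β' * χ) = _ at h2
    change Cfsg.classInner (β * χ) (β * χ) = _ at h3
    rw [← heq, h3, h1, h0] at h2
    norm_num at h2
  · rintro ψ ⟨hψ, hψne⟩
    change Cfsg.classInner Ψ ψ ≠ 0 at hψne
    rw [hΨinner] at hψne
    obtain ⟨β, hβs, hβne⟩ := Finset.exists_ne_zero_of_sum_ne_zero hψne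
    have hβirr : Cfsg.IsIrrCharacter G ((β : G → ℂ) * χ) := by
      apply isIrrCharacter_of_classInner_self (hprodchar β)
      rw [ha, horth _ hβs _ hβs, if_pos rfl, Nat.cast_one]
    have h1 : Cfsg.classInner ((β : G → ℂ) * χ) ψ ≠ 0 := right_ne_zero_of_mul hβne
    have h2 : (β : G → ℂ) * χ = ψ := by
      by_contra hne
      exact h1 (classInner_irr_ne hβirr hψ hne)
    exact ⟨β, ⟨β.2, (hmem β).mp hβs⟩, h2⟩

end Cfsg.Agent.Helper6
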