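import Mathlib
import Cfsg.Prelude.Def_Characters
import Cfsg.Prelude.Def_CharExt
import Cfsg.Agent.Helper6.DetChar
import Cfsg.Agent.Helper6.GallagherProd
import Cfsg.Agent.Helper6.AbelianInertia
import Cfsg.Agent.Helper6.OddReal

/-!
# Extensions of characters with prescribed determinant
-/

set_option autoImplicit false
set_option linter.style.haveILetI false

namespace Cfsg.Agent.Helper6

open Module Representation
open scoped ComplexConjugate Pointwise

universe u v w

variable {G : Type u} [Group G]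

/-- If an irreducible character of degree coprime to the index extends, then it has a unique
extension with prescribed determinant. -/
theorem unique_ext_with_det [Finite G] (N : Subgroup G) [hN : N.Normal] (ϑ : N → ℂ)
    (hϑ : Cfsg.IsIrrCharacter N ϑ) (d : ℕ) (hd : ϑ 1 = d) (hcop : Nat.Coprime N.index d)
    (η : G → ℂ) (hη : Cfsg.IsIrrCharacter G η) (hηN : ∀ n : N, η n = ϑ n)
    (M : G →* ℂˣ) (hM : ∀ n : N, ((M n : ℂˣ) : ℂ) = Cfsg.detChar ϑ n) :
    ∃! χ : G → ℂ, Cfsg.IsIrrCharacter G χ ∧ (∀ n : N, χ n = ϑ n) ∧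
      Cfsg.detChar χ = fun g => ((M g : ℂˣ) : ℂ) := by
  classical
  haveI := Fintype.ofFinite G
  haveI : Fintype N := Fintype.ofFinite N
  obtain ⟨n, ρ, hirr, rfl⟩ := hη
  have hnd : n = d := by
    have h1 := hηN 1
    rw [hd] at h1
    have h2 : ρ.character ((1 : N) : G) = (n : ℂ) := by
      rw [Subgroup.coe_one, Representation.char_one]
      simp
    rw [h2] at h1
    exact_mod_cast h1
  subst hnd
  have hϑeq : ϑ = fun x : N => ρ.character (N.subtype x) := funext (fun x => (hηN x).symm)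
  have hdetϑ : ∀ x : N, Cfsg.detChar ϑ x = ((detHom ρ x : ℂˣ) : ℂ) := by
    intro x
    rw [hϑeq, detChar_comp_hom N.subtype (isCharacter_of_rep ρ), detChar_rep]
    rfl
  set δ : G →* ℂˣ := M / detHom ρ with hδ
  have hδN : ∀ x : N, δ x = 1 := by
    intro x
    rw [hδ, MonoidHom.div_apply, div_eq_one]
    exact Units.ext ((hM x).trans (hdetϑ x))
  set m := N.index with hm
  have hpowmem : ∀ g : G, g ^ m ∈ N := fun g => Subgroup.pow_index_mem N g
  have htriv_pow : ∀ γ : G →* ℂˣ, (∀ x : N, γ x = 1) → γ ^ m = 1 := by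
    intro γ hγ
    ext1 g
    rw [MonoidHom.pow_apply, MonoidHom.one_apply, ← map_pow]
    exact hγ ⟨g ^ m, hpowmem g⟩
  have hord : orderOf δ ∣ m := orderOf_dvd_of_pow_eq_one (htriv_pow δ hδN)
  have hcop' : Nat.Coprime n (orderOf δ) := (Nat.Coprime.coprime_dvd_left hord hcop).symm
  obtain ⟨s, hs⟩ := exists_pow_eq_self_of_coprime hcop'
  set β : G →* ℂˣ := δ ^ s with hβ
  have hβn : ∀ g : G, β g ^ n = δ g := by
    intro g
    have h1 := congrArg (fun f : G →* ℂˣ => f g) hs
    simp only [MonoidHom.pow_apply] at h1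
    rw [hβ, MonoidHom.pow_apply, ← pow_mul, mul_comm, pow_mul]
    exact h1
  have hβN : ∀ x : N, β x = 1 := by
    intro x
    rw [hβ, MonoidHom.pow_apply, hδN, one_pow]
  have hρirr : Cfsg.IsIrrCharacter G ρ.character := ⟨n, ρ, hirr, rfl⟩
  have hdetform : ∀ γ : G →* ℂˣ, Cfsg.detChar (fun g => ρ.character g * ((γ g : ℂˣ) : ℂ)) =
      (fun g => ((M g : ℂˣ) : ℂ)) → ∀ g : G, γ g ^ n = δ g := by
    intro γ h g
    rw [detChar_mul_hom] at h
    have h1 := congrFun h g
    rw [hδ, MonoidHom.div_apply, eq_div_iff_mul_eq']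
    apply Units.ext
    rw [Units.val_mul, Units.val_pow_eq_pow_val, mul_comm]
    exact h1
  refine ⟨fun g => ρ.character g * ((β g : ℂˣ) : ℂ), ⟨?_, ?_, ?_⟩, ?_⟩
  · exact IsIrrCharacter.mul_hom β hρirr
  · intro x
    simp only
    rw [hβN, Units.val_one, mul_one, hηN]
  · rw [detChar_mul_hom]
    funext g
    rw [← Units.val_pow_eq_pow_val, hβn, ← Units.val_mul, hδ, MonoidHom.div_apply,
      mul_div_cancel]
  · rintro χ' ⟨hχ'irr, hχ'N, hχ'det⟩
    have hρcf := IsCharacter.isClassFunction (IsIrrCharacter.isCharacter hρirr)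
    have hϑinv : ∀ (g : G) (x : N), ϑ ⟨g * x * g⁻¹, hN.conj_mem (x : G) x.2 g⟩ = ϑ x := by
      intro g x
      rw [← hηN, ← hηN]
      exact hρcf x g
    have h1ϑ : ((fun _ => (1 : ℂ)) * ϑ : N → ℂ) = ϑ := by
      funext x
      simp
    have hbij := mul_ext_bijOn N (fun _ => (1 : ℂ)) ϑ isIrrCharacter_one (fun _ _ => rfl) hϑinv
      (by rw [h1ϑ]; exact hϑ) ρ.character hρirr hηN
    have hχ'cf := IsCharacter.isClassFunction (IsIrrCharacter.isCharacter hχ'irr)
    have hmem : χ' ∈ {ψ : G → ℂ | Cfsg.IsIrrCharacter G ψ ∧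
        Cfsg.classInner (Cfsg.indFun N ((fun _ => (1 : ℂ)) * ϑ)) ψ ≠ 0} := by
      refine ⟨hχ'irr, ?_⟩
      rw [h1ϑ, frobenius_reciprocity N ϑ χ' hχ'cf]
      have : (fun h : N => χ' h) = ϑ := funext hχ'N
      rw [this, classInner_irr_self hϑ]
      exact one_ne_zero
    obtain ⟨β', ⟨hβ'irr, hβ'ne⟩, hβ'χ'⟩ := hbij.surjOn hmem
    simp only at hβ'χ'
    -- β' is linear
    have hβ'1 : β' 1 = 1 := by
      have h1 := congrFun hβ'χ' 1
      rw [Pi.mul_apply] at h1
      have h2 : χ' 1 = ρ.character 1 := by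
        have := hχ'N 1
        rw [← hηN] at this
        simpa using this
      rw [h2] at h1
      have h3 : ρ.character 1 ≠ 0 := IsIrrCharacter.apply_one_ne_zero hρirr
      exact mul_right_cancel₀ h3 (h1.trans (one_mul _).symm)
    obtain ⟨B', rfl⟩ := exists_hom_of_irr_degree_one hβ'irr hβ'1
    -- B' is trivial on N
    have hB'N : ∀ x : N, B' x = 1 := by
      have hcf : Cfsg.IsClassFunction G (fun g => ((B' g : ℂˣ) : ℂ)) :=
        IsCharacter.isClassFunction (IsIrrCharacter.isCharacter hβ'irr)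
      rw [frobenius_reciprocity N _ _ hcf] at hβ'ne
      have hres : Cfsg.IsIrrCharacter N (fun x : N => ((B' (x : G) : ℂˣ) : ℂ)) :=
        isIrrCharacter_of_hom (B'.comp N.subtype)
      by_contra hcon
      apply hβ'ne
      rw [classInner_irr_ne isIrrCharacter_one hres]
      intro h
      apply hcon
      intro x
      have := congrFun h x
      apply Units.ext
      rw [Units.val_one]
      exact this.symm
    -- determinants
    have hχ'form : χ' = fun g => ρ.character g * ((B' g : ℂˣ) : ℂ) := by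
      rw [← hβ'χ']
      funext g
      rw [Pi.mul_apply, mul_comm]
    have hB'n := hdetform B' (by rw [← hχ'form]; exact hχ'det)
    have hquot1 : (B' / β) ^ n = 1 := by
      ext1 g
      rw [MonoidHom.pow_apply, MonoidHom.one_apply, MonoidHom.div_apply, div_pow, hB'n, hβn,
        div_self']
    have hquot2 : (B' / β) ^ m = 1 := by
      apply htriv_pow
      intro x
      rw [MonoidHom.div_apply, hB'N, hβN, div_self']
    have hd1 : orderOf (B' / β) ∣ m := orderOf_dvd_of_pow_eq_one hquot2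
    have hd2 : orderOf (B' / β) ∣ n := orderOf_dvd_of_pow_eq_one hquot1
    have h1 : orderOf (B' / β) = 1 := Nat.eq_one_of_dvd_coprimes hcop hd1 hd2
    rw [orderOf_eq_one_iff] at h1
    have hB'β : B' = β := div_eq_one.mp h1
    rw [hχ'form, hB'β]

end Cfsg.Agent.Helper6
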