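import Mathlib
import Cfsg.Prelude.Def_Characters
import Cfsg.Prelude.Def_CharExt
import Cfsg.Agent.Helper6.DetExt
import Cfsg.Agent.Helper6.CyclicExt
import Cfsg.Agent.Helper6.BrauerPerm2
import Cfsg.Agent.Helper6.NormalInd

/-!
# Extension of invariant characters over solvable quotients via determinants
-/

set_option autoImplicit false
set_option linter.style.haveILetI false

namespace Cfsg.Agent.Helper6

open Module Representation
open scoped ComplexConjugate Pointwise

universe u v w

/-- A finite group with proper commutator subgroup has a homomorphism to `ℂˣ` whose kernel has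
prime index. -/
theorem exists_hom_ker_index_prime {Q : Type u} [Group Q] [Finite Q] (hne : commutator Q ≠ ⊤) :
    ∃ (μ : Q →* ℂˣ) (p : ℕ), p.Prime ∧ μ.ker.index = p := by
  haveI hfin : Finite (Q →* ℂˣ) := by
    apply Nat.finite_of_card_ne_zero
    rw [card_hom_units]
    exact Subgroup.index_ne_zero_of_finite
  have ht : Nat.card (Q →* ℂˣ) ≠ 1 := by
    rw [card_hom_units]
    intro h1
    exact hne (Subgroup.index_eq_one.mp h1)
  set p := (Nat.card (Q →* ℂˣ)).minFac with hpdef
  have hp : p.Prime := Nat.minFac_prime ht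
  haveI : Fact p.Prime := ⟨hp⟩
  obtain ⟨μ, hμ⟩ := exists_prime_orderOf_dvd_card' (G := Q →* ℂˣ) p (Nat.minFac_dvd _)
  have hμp : μ ^ p = 1 := by rw [← hμ]; exact pow_orderOf_eq_one μ
  have hμ1 : μ ≠ 1 := by
    intro h1
    rw [h1, orderOf_one] at hμ
    exact hp.one_lt.ne hμ
  have hrange : μ.range ≤ rootsOfUnity p ℂ := by
    rintro x ⟨g, rfl⟩
    rw [mem_rootsOfUnity]
    have := congrArg (fun f : Q →* ℂˣ => f g) hμp
    simpa using this
  have hcard : Nat.card μ.range = p := by
    have h1 : Nat.card μ.range ∣ Nat.card (rootsOfUnity p ℂ) := Subgroup.card_dvd_of_le hrange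
    rw [Complex.card_rootsOfUnity] at h1
    rcases (Nat.dvd_prime hp).mp h1 with h2 | h2
    · exfalso
      apply hμ1
      have hbot : μ.range = ⊥ := Subgroup.card_eq_one.mp h2
      ext g
      have : μ g ∈ μ.range := ⟨g, rfl⟩
      rw [hbot, Subgroup.mem_bot] at this
      rw [this]
      rfl
    · exact h2
  exact ⟨μ, p, hp, by rw [Subgroup.index_ker, hcard]⟩

/-- Over a solvable quotient, an invariant irreducible character of degree coprime to the index
extends if its determinant does. -/
theorem ext_of_det_ext_solvable : ∀ (k : ℕ) (G : Type u) [Group G] [Finite G] (N : Subgroup G)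
    [hN : N.Normal], N.index = k → Group.IsSolvable (G ⧸ N) → ∀ (ϑ : N → ℂ),
    Cfsg.IsIrrCharacter N ϑ →
    (∀ (g : G) (n : N), ϑ ⟨g * n * g⁻¹, hN.conj_mem (n : G) n.2 g⟩ = ϑ n) →
    ∀ d : ℕ, ϑ 1 = d → Nat.Coprime N.index d →
    ∀ M : G →* ℂˣ, (∀ n : N, ((M n : ℂˣ) : ℂ) = Cfsg.detChar ϑ n) →
    ∃ χ : G → ℂ, Cfsg.IsIrrCharacter G χ ∧ ∀ n : N, χ n = ϑ n := by
  intro k
  induction k using Nat.strong_induction_on with
  | _ k ih =>
    intro G _ _ N hN hk hsolv ϑ hϑ hinv d hd hcop M hM
    classical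
    by_cases htop : N = ⊤
    · subst htop
      refine ⟨fun g => ϑ ⟨g, Subgroup.mem_top g⟩, ?_, fun n => rfl⟩
      exact IsIrrCharacter.comp_mulEquiv (Subgroup.topEquiv (G := G)).symm hϑ
    -- a normal subgroup of prime index containing N
    haveI : Nontrivial (G ⧸ N) := by
      rw [← Finite.one_lt_card_iff_nontrivial, ← Subgroup.index_eq_card]
      have h1 : N.index ≠ 1 := fun h => htop (Subgroup.index_eq_one.mp h)
      have h0 : N.index ≠ 0 := Subgroup.index_ne_zero_of_finite
      omega
    have hcomm : commutator (G ⧸ N) ≠ ⊤ :=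
      (Group.IsSolvable.commutator_lt_top_of_nontrivial (G ⧸ N)).ne
    obtain ⟨μ₀, p, hp, hμ₀⟩ := exists_hom_ker_index_prime hcomm
    set f : G →* ℂˣ := μ₀.comp (QuotientGroup.mk' N) with hf
    set K : Subgroup G := f.ker with hK
    have hNK : N ≤ K := by
      intro x hx
      rw [hK, MonoidHom.mem_ker, hf, MonoidHom.comp_apply]
      have : (QuotientGroup.mk' N) x = 1 := (QuotientGroup.eq_one_iff x).mpr hx
      rw [this, map_one]
    have hKidx : K.index = p := by
      rw [hK, Subgroup.index_ker, ← hμ₀, Subgroup.index_ker]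
      congr 1
      rw [hf, MonoidHom.range_comp, MonoidHom.range_eq_top.mpr (QuotientGroup.mk'_surjective N),
        ← MonoidHom.range_eq_map]
    haveI hKn : K.Normal := MonoidHom.normal_ker f
    have hcyc : IsCyclic (G ⧸ K) := by
      haveI : Fact p.Prime := ⟨hp⟩
      apply isCyclic_of_prime_card (p := p)
      rw [← Subgroup.index_eq_card, hKidx]
    -- the data on K
    set N' : Subgroup K := N.subgroupOf K with hN'
    haveI hN'n : N'.Normal := Subgroup.Normal.subgroupOf hN K
    let e : N' ≃* N := Subgroup.subgroupOfEquivOfLe hNK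
    have hrel : N'.index * K.index = N.index := Subgroup.relIndex_mul_index hNK
    have hidxlt : N'.index < k := by
      rw [← hk, ← hrel, hKidx]
      have h0 : N'.index ≠ 0 := Subgroup.index_ne_zero_of_finite
      have := hp.one_lt
      nlinarith [Nat.pos_of_ne_zero h0]
    have hsolv' : Group.IsSolvable (K ⧸ N') := by
      let φ : K ⧸ N' →* G ⧸ N := QuotientGroup.map N' N K.subtype (by
        intro x hx
        exact hx)
      apply Group.isSolvable_of_isSolvable_injective (f := φ)
      rw [injective_iff_map_eq_one]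
      intro q hq
      obtain ⟨x, rfl⟩ := QuotientGroup.mk_surjective q
      rw [QuotientGroup.eq_one_iff]
      have h1 : φ (x : K ⧸ N') = ((x : G) : G ⧸ N) := rfl
      rw [h1, QuotientGroup.eq_one_iff] at hq
      exact hq
    set ϑ' : N' → ℂ := ϑ ∘ e with hϑ'
    have hϑ'irr : Cfsg.IsIrrCharacter N' ϑ' := IsIrrCharacter.comp_mulEquiv e hϑ
    have hϑ'inv : ∀ (g : K) (n : N'),
        ϑ' ⟨g * n * g⁻¹, hN'n.conj_mem (n : K) n.2 g⟩ = ϑ' n := by
      intro g n
      have := hinv (g : G) (e n)
      exact this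
    have hϑ'1 : ϑ' 1 = d := by
      rw [hϑ', Function.comp_apply, map_one, hd]
    have hcop' : Nat.Coprime N'.index d := by
      apply Nat.Coprime.coprime_dvd_left _ hcop
      exact ⟨K.index, hrel.symm⟩
    have hM' : ∀ n : N', (((M.comp K.subtype) (n : K) : ℂˣ) : ℂ) = Cfsg.detChar ϑ' n := by
      intro n
      have h1 : Cfsg.detChar ϑ' = fun x => Cfsg.detChar ϑ (e x) :=
        detChar_comp_hom e.toMonoidHom (IsIrrCharacter.isCharacter hϑ)
      rw [h1]
      exact hM (e n)
    obtain ⟨ψ₀, hψ₀irr, hψ₀N⟩ := ih N'.index hidxlt K N' rfl hsolv' ϑ' hϑ'irr hϑ'inv d hϑ'1 hcop'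
      (M.comp K.subtype) hM'
    obtain ⟨ψ, ⟨hψirr, hψN, hψdet⟩, hψuniq⟩ := unique_ext_with_det N' ϑ' hϑ'irr d hϑ'1 hcop' ψ₀
      hψ₀irr hψ₀N (M.comp K.subtype) hM'
    -- ψ is G-invariant
    have hψinv : ∀ g : G, conjFun K ψ g = ψ := by
      intro g
      apply hψuniq
      refine ⟨conjFun_isIrr K hψirr g, ?_, ?_⟩
      · intro n
        have h1 : conjFun K ψ g (n : K) =
            ψ ((⟨⟨g * ((n : K) : G) * g⁻¹, hKn.conj_mem _ (n : K).2 g⟩,
              Subgroup.mem_subgroupOf.mpr (hN.conj_mem _ (Subgroup.mem_subgroupOf.mp n.2) g)⟩ :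
                N') : K) := rfl
        rw [h1, hψN]
        exact hinv g (e n)
      · rw [conjFun_eq_comp]
        have h1 : Cfsg.detChar (ψ ∘ (MulAut.conjNormal g : K ≃* K)) =
            fun x => Cfsg.detChar ψ ((MulAut.conjNormal g : K ≃* K) x) :=
          detChar_comp_hom (MulAut.conjNormal g : K ≃* K).toMonoidHom
            (IsIrrCharacter.isCharacter hψirr)
        rw [h1, hψdet]
        funext x
        simp only [MonoidHom.comp_apply, Subgroup.coe_subtype]
        rw [MulAut.conjNormal_apply, map_mul, map_mul, map_inv, mul_comm, inv_mul_cancel_left]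
    -- extend to G
    obtain ⟨k', σ, hσirr, rfl⟩ := hψirr
    haveI := hσirr
    obtain ⟨τ, hτirr, hτ⟩ := extend_rep_cyclic K hcyc σ (by
      intro g n
      exact congrFun (hψinv g) n)
    haveI := hτirr
    refine ⟨τ.character, ⟨k', τ, hτirr, rfl⟩, ?_⟩
    intro n
    have h1 : τ.character (n : G) = σ.character ⟨(n : G), hNK n.2⟩ := by
      unfold Representation.character
      rw [← hτ ⟨(n : G), hNK n.2⟩]
    rw [h1]
    exact hψN ⟨⟨(n : G), hNK n.2⟩, Subgroup.mem_subgroupOf.mpr n.2⟩

end Cfsg.Agent.Helper6
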