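import Mathlib
import Cfsg.Prelude.Def_Characters
import Cfsg.Agent.Helper6.Brauer8
import Cfsg.Agent.Helper6.NormOne
import Cfsg.Agent.Helper6.IrrDegree
import Cfsg.Agent.Helper6.Gallagher

/-!
# Gluing extensions via Brauer's characterization of characters
-/

set_option autoImplicit false
set_option linter.style.haveILetI false

namespace Cfsg.Agent.Helper6

open scoped ComplexConjugate

universe u

variable {G : Type u} [Group G]

/-- A class function which is a generalized character on elementary subgroups, has coset norms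
`|N|`, and restricts to an irreducible character of `N`, is an irreducible character. -/
theorem glue_irr [Fintype G] (N : Subgroup G) [hNn : N.Normal] [Fintype N] (ϑ : N → ℂ)
    (hϑ : Cfsg.IsIrrCharacter N ϑ) (Ψ : G → ℂ) (hcf : Cfsg.IsClassFunction G Ψ)
    (hE : ∀ (E : Subgroup G) (p : ℕ), p.Prime → Cfsg.IsElementary p E →
      Cfsg.IsGeneralizedCharacter E (fun e : E => Ψ e))
    (hcoset : ∀ g : G, ∑ n : N, Ψ ((n : G) * g) * conj (Ψ ((n : G) * g)) = (Nat.card N : ℂ))
    (hN : ∀ n : N, Ψ n = ϑ n) : Cfsg.IsIrrCharacter G Ψ := by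
  classical
  have hgen := brauer_characterization Ψ hcf hE
  have hN0 : (Nat.card N : ℂ) ≠ 0 := by
    have : 0 < Nat.card N := Nat.card_pos
    exact_mod_cast this.ne'
  have hG0 : (Nat.card G : ℂ) ≠ 0 := by
    have : 0 < Nat.card G := Nat.card_pos
    exact_mod_cast this.ne'
  have hsum : ∑ g : G, Ψ g * conj (Ψ g) = (Nat.card G : ℂ) := by
    have h1 : ∀ n : N, ∑ g : G, Ψ ((n : G) * g) * conj (Ψ ((n : G) * g)) =
        ∑ g : G, Ψ g * conj (Ψ g) := by
      intro n
      exact Equiv.sum_comp (Equiv.mulLeft (n : G)) (fun g => Ψ g * conj (Ψ g))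
    have h2 : ∑ n : N, ∑ g : G, Ψ ((n : G) * g) * conj (Ψ ((n : G) * g)) =
        (Nat.card N : ℂ) * ∑ g : G, Ψ g * conj (Ψ g) := by
      rw [Finset.sum_congr rfl (fun n _ => h1 n), Finset.sum_const, Finset.card_univ,
        nsmul_eq_mul, Nat.card_eq_fintype_card]
    rw [Finset.sum_comm] at h2
    rw [Finset.sum_congr rfl (fun g _ => hcoset g), Finset.sum_const, Finset.card_univ,
      nsmul_eq_mul, ← Nat.card_eq_fintype_card] at h2
    have h3 : (Nat.card N : ℂ) * (Nat.card G : ℂ) =
        (Nat.card N : ℂ) * ∑ g : G, Ψ g * conj (Ψ g) := by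
      rw [← h2]; ring
    exact (mul_left_cancel₀ hN0 h3).symm
  have hnorm : Cfsg.classInner Ψ Ψ = 1 := by
    rw [classInner_def, hsum, inv_mul_cancel₀ hG0]
  obtain ⟨ξ, hξ, h | h⟩ := exists_signed_irr_of_norm_one hgen hnorm
  · rw [h]; exact hξ
  · exfalso
    have h1 := congrFun h 1
    rw [Pi.neg_apply] at h1
    have h2 : Ψ 1 = ϑ 1 := hN 1
    obtain ⟨a, ha0, ha⟩ := IsIrrCharacter.apply_one_pos hϑ
    obtain ⟨b, hb0, hb⟩ := IsIrrCharacter.apply_one_pos hξ
    rw [h2, ha, hb] at h1
    have : (a : ℂ) + b = 0 := by rw [h1]; ring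
    have h3 : a + b = 0 := by exact_mod_cast this
    omega

end Cfsg.Agent.Helper6
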