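import Mathlib
import Cfsg.Prelude.Def_Characters
import Cfsg.Prelude.Def_CharExt
import Cfsg.Agent.Helper6.Glue1
import Cfsg.Agent.Helper6.DetExt
import Cfsg.Agent.Helper6.DetExt2
import Cfsg.Agent.Helper6.Constituent
import Cfsg.Agent.Helper6.Brauer1

/-!
# Extensions with prescribed determinant over arbitrary quotients (Isaacs 8.16)
-/

set_option autoImplicit false
set_option linter.style.haveILetI false

namespace Cfsg.Agent.Helper6

open scoped ComplexConjugate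

universe u

variable {G : Type u} [Group G]

/-- A character whose restriction to a subgroup is irreducible is irreducible. -/
theorem isIrr_of_restrict_isIrr [Finite G] (N : Subgroup G) {ψ : G → ℂ}
    (hψ : Cfsg.IsCharacter G ψ) (hN : Cfsg.IsIrrCharacter N (fun n : N => ψ n)) :
    Cfsg.IsIrrCharacter G ψ := by
  classical
  haveI := Fintype.ofFinite G
  haveI : Fintype N := Fintype.ofFinite N
  have hψ0 : ψ ≠ 0 := by
    intro h
    have := IsIrrCharacter.apply_one_ne_zero hN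
    apply this
    change ψ ((1 : N) : G) = 0
    rw [h]; rfl
  obtain ⟨ξ, hξ, hne⟩ := exists_irr_constituent hψ hψ0
  have hrest := sub_isCharacter_of_constituent hψ hξ hne
  have hξN : Cfsg.IsCharacter N (fun n : N => ξ n) :=
    IsCharacter.restrict N (IsIrrCharacter.isCharacter hξ)
  have hrN : Cfsg.IsCharacter N (fun n : N => (ψ - ξ) n) := IsCharacter.restrict N hrest
  have hdecomp : (fun n : N => ψ n) = (fun n : N => ξ n) + (fun n : N => (ψ - ξ) n) := by
    ext n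
    simp
  have hnorm := classInner_irr_self hN
  rw [hdecomp, classInner_add_left, classInner_add_right, classInner_add_right] at hnorm
  obtain ⟨a, ha⟩ := classInner_char_char_nat hξN hξN
  obtain ⟨b, hb⟩ := classInner_char_char_nat hξN hrN
  obtain ⟨c, hc⟩ := classInner_char_char_nat hrN hξN
  obtain ⟨e, he⟩ := classInner_char_char_nat hrN hrN
  rw [ha, hb, hc, he] at hnorm
  have hnat : a + b + (c + e) = 1 := by exact_mod_cast hnorm
  have ha0 : a ≠ 0 := by
    rintro rfl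
    rw [Nat.cast_zero] at ha
    have hz := classInner_self_eq_zero ha
    have h1 := congrFun hz 1
    exact IsIrrCharacter.apply_one_ne_zero hξ h1
  have he0 : e = 0 := by omega
  rw [he0, Nat.cast_zero] at he
  have hz := classInner_self_eq_zero he
  have h1 : (ψ - ξ) 1 = 0 := congrFun hz 1
  have h2 := eq_zero_of_isCharacter_of_apply_one hrest h1
  have h3 : ψ = ξ := sub_eq_zero.mp h2
  rw [h3]
  exact hξ


section det

variable [Finite G] (N : Subgroup G) [hN : N.Normal] (ϑ : N → ℂ) (M : G →* ℂˣ)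

/-- Restriction of `ϑ` to `N ⊓ H`, viewed inside `H`. -/
def resSub (H : Subgroup G) : N.subgroupOf H → ℂ :=
  fun n => ϑ ⟨(n : G), Subgroup.mem_subgroupOf.mp n.2⟩

/-- `χ` is an irreducible extension of `ϑ` to `H` with determinant `M`. -/
def GoodExt (H : Subgroup G) (χ : H → ℂ) : Prop :=
  Cfsg.IsIrrCharacter H χ ∧ (∀ n : N.subgroupOf H, χ n = resSub N ϑ H n) ∧
    Cfsg.detChar χ = fun h : H => ((M h : ℂˣ) : ℂ)

variable {N ϑ M}

theorem resSub_isIrr (hϑ : Cfsg.IsIrrCharacter N ϑ) (H : Subgroup G) (hNH : N ≤ H) :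
    Cfsg.IsIrrCharacter (N.subgroupOf H) (resSub N ϑ H) :=
  IsIrrCharacter.comp_mulEquiv (Subgroup.subgroupOfEquivOfLe hNH) hϑ

theorem resSub_inv
    (hinv : ∀ (g : G) (n : N), ϑ ⟨g * n * g⁻¹, hN.conj_mem (n : G) n.2 g⟩ = ϑ n)
    (H : Subgroup G) (h : H) (n : N.subgroupOf H) :
    resSub N ϑ H ⟨h * n * h⁻¹, (inferInstance : (N.subgroupOf H).Normal).conj_mem (n : H) n.2 h⟩ =
      resSub N ϑ H n :=
  hinv (h : G) ⟨((n : H) : G), Subgroup.mem_subgroupOf.mp n.2⟩

theorem resSub_det (hϑ : Cfsg.IsIrrCharacter N ϑ)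
    (hM : ∀ n : N, ((M n : ℂˣ) : ℂ) = Cfsg.detChar ϑ n) (H : Subgroup G) (hNH : N ≤ H)
    (n : N.subgroupOf H) :
    (((M.comp H.subtype) n : ℂˣ) : ℂ) = Cfsg.detChar (resSub N ϑ H) n := by
  have h1 := detChar_comp_hom (Subgroup.subgroupOfEquivOfLe hNH).toMonoidHom
    (IsIrrCharacter.isCharacter hϑ)
  have h2 : resSub N ϑ H = fun h => ϑ ((Subgroup.subgroupOfEquivOfLe hNH).toMonoidHom h) := rfl
  rw [h2, h1]
  exact hM ((Subgroup.subgroupOfEquivOfLe hNH).toMonoidHom n)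

theorem resSub_coprime (d : ℕ) (hcop : Nat.Coprime N.index d) (H : Subgroup G) :
    Nat.Coprime (N.subgroupOf H).index d :=
  Nat.Coprime.coprime_dvd_left (Subgroup.relIndex_dvd_index_of_normal N H) hcop

theorem goodExt_unique (hϑ : Cfsg.IsIrrCharacter N ϑ) (d : ℕ) (hd : ϑ 1 = d)
    (hcop : Nat.Coprime N.index d) (hM : ∀ n : N, ((M n : ℂˣ) : ℂ) = Cfsg.detChar ϑ n)
    (H : Subgroup G) (hNH : N ≤ H) {χ χ' : H → ℂ} (h : GoodExt N ϑ M H χ)
    (h' : GoodExt N ϑ M H χ') : χ = χ' := by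
  have hu := unique_ext_with_det (N.subgroupOf H) (resSub N ϑ H) (resSub_isIrr hϑ H hNH) d hd
    (resSub_coprime d hcop H) χ h.1 h.2.1 (M.comp H.subtype) (resSub_det hϑ hM H hNH)
  exact hu.unique ⟨h.1, h.2.1, h.2.2⟩ ⟨h'.1, h'.2.1, h'.2.2⟩

theorem goodExt_exists (hϑ : Cfsg.IsIrrCharacter N ϑ)
    (hinv : ∀ (g : G) (n : N), ϑ ⟨g * n * g⁻¹, hN.conj_mem (n : G) n.2 g⟩ = ϑ n)
    (d : ℕ) (hd : ϑ 1 = d)
    (hcop : Nat.Coprime N.index d) (hM : ∀ n : N, ((M n : ℂˣ) : ℂ) = Cfsg.detChar ϑ n)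
    (H : Subgroup G) (hNH : N ≤ H) (hsolv : Group.IsSolvable (H ⧸ N.subgroupOf H)) :
    ∃ χ : H → ℂ, GoodExt N ϑ M H χ := by
  obtain ⟨η, hη, hηN⟩ := ext_of_det_ext_solvable (N.subgroupOf H).index H (N.subgroupOf H) rfl
    hsolv (resSub N ϑ H) (resSub_isIrr hϑ H hNH) (resSub_inv hinv H) d hd
    (resSub_coprime d hcop H) (M.comp H.subtype) (resSub_det hϑ hM H hNH)
  obtain ⟨χ, hχ, -⟩ := unique_ext_with_det (N.subgroupOf H) (resSub N ϑ H)
    (resSub_isIrr hϑ H hNH) d hd (resSub_coprime d hcop H) η hη hηN (M.comp H.subtype)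
    (resSub_det hϑ hM H hNH)
  exact ⟨χ, hχ.1, hχ.2.1, hχ.2.2⟩

theorem goodExt_restrict (hϑ : Cfsg.IsIrrCharacter N ϑ) (H K : Subgroup G) (hNK : N ≤ K)
    (hKH : K ≤ H) {χ : H → ℂ} (h : GoodExt N ϑ M H χ) :
    GoodExt N ϑ M K (fun k : K => χ ⟨(k : G), hKH k.2⟩) := by
  have hchar : Cfsg.IsCharacter K (fun k : K => χ ⟨(k : G), hKH k.2⟩) :=
    IsCharacter.comp_hom (Subgroup.inclusion hKH) (IsIrrCharacter.isCharacter h.1)
  have hres : ∀ n : N.subgroupOf K, (fun k : K => χ ⟨(k : G), hKH k.2⟩) n = resSub N ϑ K n := by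
    intro n
    exact h.2.1 ⟨⟨((n : K) : G), hKH (n : K).2⟩, Subgroup.mem_subgroupOf.mpr
      (Subgroup.mem_subgroupOf.mp n.2)⟩
  refine ⟨?_, hres, ?_⟩
  · apply isIrr_of_restrict_isIrr (N.subgroupOf K) hchar
    have : (fun n : N.subgroupOf K => (fun k : K => χ ⟨(k : G), hKH k.2⟩) n) = resSub N ϑ K :=
      funext hres
    rw [this]
    exact resSub_isIrr hϑ K hNK
  · have h1 := detChar_comp_hom (Subgroup.inclusion hKH) (IsIrrCharacter.isCharacter h.1)
    have h2 : (fun k : K => χ ⟨(k : G), hKH k.2⟩) = fun k => χ ((Subgroup.inclusion hKH) k) := rfl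
    rw [h2, h1, h.2.2]
    rfl

theorem goodExt_conj
    (hinv : ∀ (g : G) (n : N), ϑ ⟨g * n * g⁻¹, hN.conj_mem (n : G) n.2 g⟩ = ϑ n)
    (H : Subgroup G) {χ : H → ℂ} (h : GoodExt N ϑ M H χ) (x : G) :
    GoodExt N ϑ M (H.map (MulAut.conj x).toMonoidHom)
      (fun y => χ ((Subgroup.equivMapOfInjective H (MulAut.conj x).toMonoidHom
        (MulAut.conj x).injective).symm y)) := by
  set f := (MulAut.conj x).toMonoidHom with hf
  set e := Subgroup.equivMapOfInjective H f (MulAut.conj x).injective with he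
  have hcoe : ∀ y : H.map f, x * ((e.symm y : H) : G) * x⁻¹ = (y : G) := by
    intro y
    have h1 : ((e (e.symm y) : H.map f) : G) = f ((e.symm y : H) : G) :=
      Subgroup.coe_equivMapOfInjective_apply H f _ (e.symm y)
    rw [MulEquiv.apply_symm_apply] at h1
    rw [h1]
    rfl
  refine ⟨IsIrrCharacter.comp_mulEquiv e.symm h.1, ?_, ?_⟩
  · intro n
    have hn : ((n : H.map f) : G) ∈ N := Subgroup.mem_subgroupOf.mp n.2
    have hm : ((e.symm (n : H.map f) : H) : G) ∈ N := by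
      have h1 := hcoe (n : H.map f)
      have h2 : ((e.symm (n : H.map f) : H) : G) = x⁻¹ * ((n : H.map f) : G) * x⁻¹⁻¹ := by
        rw [← h1]; group
      rw [h2]
      exact hN.conj_mem _ hn x⁻¹
    have h3 := h.2.1 ⟨e.symm (n : H.map f), Subgroup.mem_subgroupOf.mpr hm⟩
    change χ (e.symm (n : H.map f)) = ϑ ⟨((n : H.map f) : G), hn⟩
    rw [h3]
    change ϑ ⟨((e.symm (n : H.map f) : H) : G), hm⟩ = _
    rw [← hinv x ⟨((e.symm (n : H.map f) : H) : G), hm⟩]
    congr 1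
    apply Subtype.ext
    exact hcoe (n : H.map f)
  · have h1 := detChar_comp_hom e.symm.toMonoidHom (IsIrrCharacter.isCharacter h.1)
    have h2 : (fun y => χ (e.symm y)) = fun y => χ (e.symm.toMonoidHom y) := rfl
    rw [h2, h1, h.2.2]
    funext y
    change ((M ((e.symm y : H) : G) : ℂˣ) : ℂ) = ((M (y : G) : ℂˣ) : ℂ)
    rw [← hcoe y, map_mul, map_mul, map_inv, mul_comm (M x), mul_inv_cancel_right]

theorem goodExt_conj_apply (H : Subgroup G) (χ : H → ℂ) (x : G) (h : H) :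
    (fun y => χ ((Subgroup.equivMapOfInjective H (MulAut.conj x).toMonoidHom
        (MulAut.conj x).injective).symm y))
      ⟨x * (h : G) * x⁻¹, Subgroup.mem_map.mpr ⟨h, h.2, MulAut.conj_apply x h⟩⟩ = χ h := by
  change χ _ = χ h
  congr 1
  apply (Subgroup.equivMapOfInjective H (MulAut.conj x).toMonoidHom
        (MulAut.conj x).injective).injective
  rw [MulEquiv.apply_symm_apply]
  apply Subtype.ext
  have := Subgroup.coe_equivMapOfInjective_apply H (MulAut.conj x).toMonoidHom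
    (MulAut.conj x).injective h
  rw [this]
  rfl

omit [Finite G] in
theorem solvable_quot_sup (N : Subgroup G) [hN : N.Normal] (S : Subgroup G)
    [hS : Group.IsSolvable S] :
    Group.IsSolvable ((N ⊔ S : Subgroup G) ⧸ N.subgroupOf (N ⊔ S)) := by
  apply Group.isSolvable_of_surjective
    (f := (QuotientGroup.mk' (N.subgroupOf (N ⊔ S))).comp
      (Subgroup.inclusion (le_sup_right : S ≤ N ⊔ S)))
  intro q
  obtain ⟨⟨h, hh⟩, rfl⟩ := QuotientGroup.mk_surjective q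
  have hh' := hh
  rw [← SetLike.mem_coe, Subgroup.normal_mul] at hh'
  obtain ⟨n, hn, s, hs, rfl⟩ := Set.mem_mul.mp hh'
  refine ⟨⟨s, hs⟩, ?_⟩
  rw [MonoidHom.comp_apply, QuotientGroup.mk'_apply, QuotientGroup.eq]
  rw [Subgroup.mem_subgroupOf]
  have : (((Subgroup.inclusion (le_sup_right : S ≤ N ⊔ S)) ⟨s, hs⟩)⁻¹ *
      (⟨n * s, hh⟩ : (N ⊔ S : Subgroup G)) : (N ⊔ S : Subgroup G)).1 = s⁻¹ * (n * s) := rfl
  rw [this]
  have h2 : s⁻¹ * (n * s) = s⁻¹ * n * s⁻¹⁻¹ := by group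
  rw [h2]
  exact hN.conj_mem n hn s⁻¹

end det

end Cfsg.Agent.Helper6
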