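import Mathlib
import Cfsg.Prelude.Def_Characters
import Cfsg.Prelude.Def_CharExt
import Cfsg.Agent.Helper6.Glue2

/-!
# Isaacs 8.16: an invariant character of degree coprime to the index extends if its determinant
does
-/

set_option autoImplicit false
set_option linter.style.haveILetI false

namespace Cfsg.Agent.Helper6

open scoped ComplexConjugate

universe u

variable {G : Type u} [Group G]

open Classical in
/-- The glued function. -/
noncomputable def gluedFun [Finite G] (N : Subgroup G) [N.Normal] (ϑ : N → ℂ) (M : G →* ℂˣ)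
    (g : G) : ℂ :=
  if h : ∃ χ : (N ⊔ Subgroup.zpowers g : Subgroup G) → ℂ,
      GoodExt N ϑ M (N ⊔ Subgroup.zpowers g) χ then
    Classical.choose h ⟨g, Subgroup.mem_sup_right (Subgroup.mem_zpowers g)⟩
  else 0

section

variable [Finite G] (N : Subgroup G) [hN : N.Normal] (ϑ : N → ℂ) (M : G →* ℂˣ)
  (hϑ : Cfsg.IsIrrCharacter N ϑ)
  (hinv : ∀ (g : G) (n : N), ϑ ⟨g * n * g⁻¹, hN.conj_mem (n : G) n.2 g⟩ = ϑ n)
  (d : ℕ) (hd : ϑ 1 = d) (hcop : Nat.Coprime N.index d)
  (hM : ∀ n : N, ((M n : ℂˣ) : ℂ) = Cfsg.detChar ϑ n)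

include hϑ hd hcop hM in
theorem gluedFun_eq (H : Subgroup G) (hNH : N ≤ H) {χ : H → ℂ} (h : GoodExt N ϑ M H χ)
    (g : G) (hg : g ∈ H) : gluedFun N ϑ M g = χ ⟨g, hg⟩ := by
  have hle : N ⊔ Subgroup.zpowers g ≤ H :=
    sup_le hNH ((Subgroup.zpowers_le).mpr hg)
  have hres := goodExt_restrict hϑ H (N ⊔ Subgroup.zpowers g) le_sup_left hle h
  have hex : ∃ χ : (N ⊔ Subgroup.zpowers g : Subgroup G) → ℂ,
      GoodExt N ϑ M (N ⊔ Subgroup.zpowers g) χ := ⟨_, hres⟩
  unfold gluedFun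
  rw [dif_pos hex]
  have := goodExt_unique hϑ d hd hcop hM (N ⊔ Subgroup.zpowers g) le_sup_left
    (Classical.choose_spec hex) hres
  rw [this]

include hϑ hinv hd hcop hM in
set_option maxHeartbeats 1600000 in
theorem ext_of_det_ext : ∃ χ : G → ℂ, Cfsg.IsIrrCharacter G χ ∧ ∀ n : N, χ n = ϑ n := by
  classical
  haveI := Fintype.ofFinite G
  haveI : Fintype N := Fintype.ofFinite N
  have hkey := gluedFun_eq N ϑ M hϑ d hd hcop hM
  have hzsolv : ∀ g : G, Group.IsSolvable (Subgroup.zpowers g) := by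
    intro g
    letI : CommGroup (Subgroup.zpowers g) := IsCyclic.commGroup
    exact Group.isSolvable_of_comm (fun a b => mul_comm a b)
  have hΨN : ∀ n : N, gluedFun N ϑ M n = ϑ n := by
    intro n
    haveI := hzsolv 1
    obtain ⟨χ, hχ⟩ := goodExt_exists hϑ hinv d hd hcop hM (N ⊔ Subgroup.zpowers (1 : G))
      le_sup_left (solvable_quot_sup N _)
    rw [hkey _ le_sup_left hχ n (Subgroup.mem_sup_left n.2)]
    exact hχ.2.1 ⟨⟨n, Subgroup.mem_sup_left n.2⟩, Subgroup.mem_subgroupOf.mpr n.2⟩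
  refine ⟨gluedFun N ϑ M, ?_, hΨN⟩
  apply glue_irr N ϑ hϑ _ ?_ ?_ ?_ hΨN
  · -- class function
    intro g x
    haveI := hzsolv g
    obtain ⟨χ, hχ⟩ := goodExt_exists hϑ hinv d hd hcop hM (N ⊔ Subgroup.zpowers g)
      le_sup_left (solvable_quot_sup N _)
    have hg : g ∈ N ⊔ Subgroup.zpowers g := Subgroup.mem_sup_right (Subgroup.mem_zpowers g)
    rw [hkey _ le_sup_left hχ g hg]
    have hconj := goodExt_conj hinv (N ⊔ Subgroup.zpowers g) hχ x
    have hNle : N ≤ (N ⊔ Subgroup.zpowers g).map (MulAut.conj x).toMonoidHom := by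
      intro n hn
      refine Subgroup.mem_map.mpr ⟨x⁻¹ * n * x⁻¹⁻¹, Subgroup.mem_sup_left
        (hN.conj_mem n hn x⁻¹), ?_⟩
      change x * (x⁻¹ * n * x⁻¹⁻¹) * x⁻¹ = n
      group
    have hmem : x * g * x⁻¹ ∈ (N ⊔ Subgroup.zpowers g).map (MulAut.conj x).toMonoidHom :=
      Subgroup.mem_map.mpr ⟨g, hg, MulAut.conj_apply x g⟩
    rw [hkey _ hNle hconj (x * g * x⁻¹) hmem]
    exact goodExt_conj_apply (N ⊔ Subgroup.zpowers g) χ x ⟨g, hg⟩
  · -- elementary subgroups
    intro E p hp hE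
    haveI : Group.IsNilpotent E := IsElementary.isNilpotent hp hE
    obtain ⟨χ, hχ⟩ := goodExt_exists hϑ hinv d hd hcop hM (N ⊔ E)
      le_sup_left (solvable_quot_sup N E)
    have hfun : (fun e : E => gluedFun N ϑ M e) =
        fun e : E => χ ((Subgroup.inclusion (le_sup_right : E ≤ N ⊔ E)) e) := by
      funext e
      exact hkey _ le_sup_left hχ e (Subgroup.mem_sup_right e.2)
    rw [hfun]
    exact IsGeneralizedCharacter.of_isCharacter
      (IsCharacter.comp_hom _ (IsIrrCharacter.isCharacter hχ.1))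
  · -- coset norms
    intro g
    haveI := hzsolv g
    set H := N ⊔ Subgroup.zpowers g with hH
    obtain ⟨χ, hχ⟩ := goodExt_exists hϑ hinv d hd hcop hM H le_sup_left (solvable_quot_sup N _)
    have hg : g ∈ H := Subgroup.mem_sup_right (Subgroup.mem_zpowers g)
    have hNH : N ≤ H := le_sup_left
    haveI : Fintype H := Fintype.ofFinite H
    haveI : Fintype (N.subgroupOf H) := Fintype.ofFinite _
    have hχN : Cfsg.IsIrrCharacter (N.subgroupOf H) (fun n : N.subgroupOf H => χ n) := by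
      have : (fun n : N.subgroupOf H => χ n) = resSub N ϑ H := funext hχ.2.1
      rw [this]
      exact resSub_isIrr hϑ H hNH
    have hgal := (gallagher_avg (N.subgroupOf H) χ hχ.1 hχN χ hχ.1 _ rfl).2.2 rfl
    have hgal' : (Nat.card (N.subgroupOf H) : ℂ)⁻¹ *
        ∑ n : N.subgroupOf H, χ ((n : H) * ⟨g, hg⟩) * conj (χ ((n : H) * ⟨g, hg⟩)) = 1 :=
      congrFun hgal ⟨g, hg⟩
    have hN0 : (Nat.card (N.subgroupOf H) : ℂ) ≠ 0 := by
      have : 0 < Nat.card (N.subgroupOf H) := Nat.card_pos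
      exact_mod_cast this.ne'
    have hsum : ∑ n : N.subgroupOf H, χ ((n : H) * ⟨g, hg⟩) * conj (χ ((n : H) * ⟨g, hg⟩)) =
        (Nat.card (N.subgroupOf H) : ℂ) := by
      have h5 : (Nat.card (N.subgroupOf H) : ℂ) * ((Nat.card (N.subgroupOf H) : ℂ)⁻¹ *
          ∑ n : N.subgroupOf H, χ ((n : H) * ⟨g, hg⟩) * conj (χ ((n : H) * ⟨g, hg⟩))) =
          (Nat.card (N.subgroupOf H) : ℂ) * 1 := by rw [hgal']
      rw [← mul_assoc, mul_inv_cancel₀ hN0, one_mul, mul_one] at h5
      exact h5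
    have hcardeq : Nat.card (N.subgroupOf H) = Nat.card N :=
      Nat.card_congr (Subgroup.subgroupOfEquivOfLe hNH).toEquiv
    rw [← hcardeq, ← hsum]
    symm
    apply Fintype.sum_equiv (Subgroup.subgroupOfEquivOfLe hNH).toEquiv
    intro n
    have hmem : ((Subgroup.subgroupOfEquivOfLe hNH n : N) : G) * g ∈ H :=
      H.mul_mem (hNH (Subgroup.subgroupOfEquivOfLe hNH n).2) hg
    have hval : gluedFun N ϑ M (((Subgroup.subgroupOfEquivOfLe hNH).toEquiv n : N) * g) =
        χ ((n : H) * ⟨g, hg⟩) := by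
      change gluedFun N ϑ M (((Subgroup.subgroupOfEquivOfLe hNH n : N) : G) * g) = _
      rw [hkey H hNH hχ _ hmem]
      rfl
    rw [hval]

end

end Cfsg.Agent.Helper6
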