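import Mathlib
import Cfsg.Prelude.Def_Characters
import Cfsg.Prelude.Def_CharExt
import Cfsg.Agent.Helper6.Glue3
import Cfsg.Agent.Helper6.SmallDegree
import Cfsg.Agent.S0867

/-!
# Invariant characters of a normal Hall subgroup extend
-/

set_option autoImplicit false
set_option linter.style.haveILetI false

namespace Cfsg.Agent.Helper6

open scoped ComplexConjugate

universe u

variable {G : Type u} [Group G]

theorem detOrder_dvd_card [Finite G] {χ : G → ℂ} (hχ : Cfsg.IsCharacter G χ) :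
    Cfsg.detOrder χ ∣ Nat.card G := by
  obtain ⟨δ, hδ⟩ := exists_hom_detChar hχ
  unfold Cfsg.detOrder
  apply orderOf_dvd_of_pow_eq_one
  rw [hδ]
  funext g
  rw [Pi.pow_apply, Pi.one_apply, ← Units.val_pow_eq_pow_val, ← map_pow, pow_card_eq_one',
    map_one, Units.val_one]

/-- An invariant irreducible character of a normal subgroup whose order is coprime to its index
extends. -/
theorem extends_of_coprime_card [Finite G] (N : Subgroup G) [hN : N.Normal] (ϑ : N → ℂ)
    (hϑ : Cfsg.IsIrrCharacter N ϑ)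
    (hinv : ∀ (g : G) (n : N), ϑ ⟨g * n * g⁻¹, hN.conj_mem (n : G) n.2 g⟩ = ϑ n)
    (hcop : Nat.Coprime (Nat.card N) N.index) :
    ∃ χ : G → ℂ, Cfsg.IsIrrCharacter G χ ∧ ∀ n : N, χ n = ϑ n := by
  obtain ⟨d, hd, hddvd, -⟩ := IsIrrCharacter.degree_dvd_card hϑ
  have hodvd := detOrder_dvd_card (IsIrrCharacter.isCharacter hϑ)
  have hcop' : Nat.Coprime N.index (Cfsg.detOrder ϑ * d) := by
    apply Nat.Coprime.mul_right
    · exact (Nat.Coprime.coprime_dvd_left hodvd hcop).symm
    · exact (Nat.Coprime.coprime_dvd_left hddvd hcop).symm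
  obtain ⟨χ, ⟨hχ, hχN, -⟩, -⟩ := Cfsg.Agent.S0867.result N ϑ hϑ hinv d hd hcop'
  exact ⟨χ, hχ, hχN⟩

end Cfsg.Agent.Helper6
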