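import Mathlib
import Cfsg.Prelude.Def_Characters
import Cfsg.Agent.Helper6.CoprimeExt
import Cfsg.Agent.Helper6.CliffordCorr2
import Cfsg.Agent.Helper6.CliffordOrbit
import Cfsg.Agent.Helper6.AbelianInertia
import Cfsg.Agent.Helper6.Inflation
import Cfsg.Agent.Helper6.FaithfulIrr
import Cfsg.Agent.Helper6.HeightZeroTrunc
import Cfsg.Agent.Helper6.Linear

/-!
# Stabilizers of linear characters of a normal Hall subgroup when there are two character degrees
-/

set_option autoImplicit false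
set_option linter.style.haveILetI false

namespace Cfsg.Agent.Helper6

open scoped ComplexConjugate
open Module Representation

universe u

variable {G : Type u} [Group G]

/-- Let `D` be an abelian normal subgroup of `G` of order prime to its index, and let all
irreducible character degrees of `G` be `1` or `m`.  If the linear character `lam` of `D` is not
invariant in `G`, its stabilizer has index `m` and is abelian modulo `D`. -/
theorem stab_index_of_two_degrees [Fintype G] (m : ℕ)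
    (hcd : ∀ χ : G → ℂ, Cfsg.IsIrrCharacter G χ → χ 1 = 1 ∨ χ 1 = (m : ℂ))
    (D : Subgroup G) [hD : D.Normal]
    (hcop : Nat.Coprime (Nat.card D) D.index) (lam : D →* ℂˣ)
    (hninv : conjStab D (fun d : D => ((lam d : ℂˣ) : ℂ)) ≠ ⊤) :
    (conjStab D (fun d : D => ((lam d : ℂˣ) : ℂ))).index = m ∧
      ∀ x ∈ conjStab D (fun d : D => ((lam d : ℂˣ) : ℂ)),
        ∀ y ∈ conjStab D (fun d : D => ((lam d : ℂˣ) : ℂ)), x * y * x⁻¹ * y⁻¹ ∈ D := by
  classical
  set θ : D → ℂ := fun d : D => ((lam d : ℂˣ) : ℂ) with hθdef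
  set T : Subgroup G := conjStab D θ with hTdef
  haveI : Fintype D := Fintype.ofFinite D
  haveI : Fintype T := Fintype.ofFinite T
  have hθ : Cfsg.IsIrrCharacter D θ := isIrrCharacter_of_hom lam
  have hDT : D ≤ T := le_conjStab_of_isClassFunction D θ
    (IsCharacter.isClassFunction (IsIrrCharacter.isCharacter hθ))
  have hTmem : ∀ g : G, g ∈ T ↔ conjFun D θ g = θ := fun g => Iff.rfl
  -- the extension to T
  haveI hD'n : (D.subgroupOf T).Normal := inferInstance
  let e : D.subgroupOf T ≃* D := Subgroup.subgroupOfEquivOfLe hDT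
  let lam' : D.subgroupOf T →* ℂˣ := lam.comp e.toMonoidHom
  have hθ' : Cfsg.IsIrrCharacter (D.subgroupOf T) (fun x => ((lam' x : ℂˣ) : ℂ)) :=
    isIrrCharacter_of_hom lam'
  have hlam' : ∀ x : D.subgroupOf T, lam' x = lam ⟨((x : T) : G), x.2⟩ := fun x => rfl
  have hinv' : ∀ (t : T) (n : D.subgroupOf T),
      (fun x => ((lam' x : ℂˣ) : ℂ))
        ⟨t * n * t⁻¹, hD'n.conj_mem (n : T) n.2 t⟩ = (fun x => ((lam' x : ℂˣ) : ℂ)) n := by
    intro t n
    have ht := (hTmem t).mp t.2
    have := congrFun ht ⟨((n : T) : G), n.2⟩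
    simp only [hlam']
    exact this
  have hcop' : Nat.Coprime (Nat.card (D.subgroupOf T)) (D.subgroupOf T).index := by
    rw [Nat.card_congr e.toEquiv]
    have h1 : (D.subgroupOf T).index ∣ D.index := Subgroup.relIndex_dvd_index_of_le hDT
    exact Nat.Coprime.coprime_dvd_right h1 hcop
  obtain ⟨χ', hχ', hχ'N⟩ := extends_of_coprime_card (G := T) (D.subgroupOf T)
    (fun x => ((lam' x : ℂˣ) : ℂ)) hθ' hinv' hcop'
  have hχ'1 : χ' 1 = 1 := by
    have := hχ'N 1
    simp only [map_one, Units.val_one] at this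
    exact this
  obtain ⟨μ, hμ⟩ := exists_hom_of_irr_degree_one hχ' hχ'1
  have hμD : ∀ n : D, μ ⟨(n : G), hDT n.2⟩ = lam n := by
    intro n
    have h1 := hχ'N ⟨⟨(n : G), hDT n.2⟩, n.2⟩
    rw [hμ] at h1
    have h2 : ((μ ⟨(n : G), hDT n.2⟩ : ℂˣ) : ℂ) = ((lam n : ℂˣ) : ℂ) := h1
    exact Units.ext h2
  -- generic induction statement
  have hind : ∀ β : T → ℂ, Cfsg.IsIrrCharacter T β →
      (∀ n : D, β ⟨(n : G), hDT n.2⟩ = β 1) →
      (T.index : ℂ) * β 1 = 1 ∨ (T.index : ℂ) * β 1 = (m : ℂ) := by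
    intro β hβ hβD
    have hprod : Cfsg.IsIrrCharacter T (β * fun t => ((μ t : ℂˣ) : ℂ)) :=
      IsIrrCharacter.mul_hom μ hβ
    have hres : (fun n : D => (β * fun t => ((μ t : ℂˣ) : ℂ)) ⟨(n : G), hDT n.2⟩) =
        β 1 • θ := by
      funext n
      simp only [Pi.mul_apply, Pi.smul_apply, smul_eq_mul, hθdef]
      rw [hβD n, hμD n]
    have hβ1 : β 1 ≠ 0 := IsIrrCharacter.apply_one_ne_zero hβ
    have hf : Cfsg.classInner
        (fun n : D => (β * fun t => ((μ t : ℂˣ) : ℂ)) ⟨(n : G), hDT n.2⟩) θ ≠ 0 := by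
      rw [hres, classInner_smul_left, classInner_irr_self hθ, mul_one]
      exact hβ1
    obtain ⟨hirr, -⟩ := clifford_corr_ind_irr D θ hθ T hTmem hDT _ hprod hf
    have h1 := hcd _ hirr
    rw [indFun_apply_one] at h1
    simp only [Pi.mul_apply, map_one, Units.val_one, mul_one] at h1
    exact h1
  have hTidx1 : T.index ≠ 1 := by
    intro h
    exact hninv (Subgroup.index_eq_one.mp h)
  have hTidx : T.index = m := by
    have h1 := hind (fun _ => 1) isIrrCharacter_one (fun _ => rfl)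
    rw [mul_one] at h1
    rcases h1 with h1 | h1
    · exact absurd (by exact_mod_cast h1) hTidx1
    · exact_mod_cast h1
  refine ⟨hTidx, ?_⟩
  intro x hx y hy
  by_contra hc
  -- the commutator is nontrivial in the quotient T ⧸ D
  let c : T := (⟨x, hx⟩ : T) * ⟨y, hy⟩ * (⟨x, hx⟩ : T)⁻¹ * (⟨y, hy⟩ : T)⁻¹
  have hc1 : (c : T ⧸ D.subgroupOf T) ≠ 1 := by
    intro h
    rw [QuotientGroup.eq_one_iff] at h
    exact hc h
  obtain ⟨n, σ, hirr, hσc⟩ := exists_irr_rep_ne_one (c : T ⧸ D.subgroupOf T) hc1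
  have hσirr : Cfsg.IsIrrCharacter (T ⧸ D.subgroupOf T) σ.character := ⟨n, σ, hirr, rfl⟩
  have hβ := isIrrCharacter_inflate (D.subgroupOf T) ⟨σ.character, hσirr⟩
  have hβD : ∀ d : D, (σ.character ∘ (QuotientGroup.mk : T → T ⧸ D.subgroupOf T))
      ⟨(d : G), hDT d.2⟩ =
      (σ.character ∘ (QuotientGroup.mk : T → T ⧸ D.subgroupOf T)) 1 := by
    intro d
    simp only [Function.comp_apply]
    have : ((⟨(d : G), hDT d.2⟩ : T) : T ⧸ D.subgroupOf T) = ((1 : T) : T ⧸ D.subgroupOf T) := by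
      rw [QuotientGroup.mk_one, QuotientGroup.eq_one_iff]
      exact d.2
    rw [this]
  have h1 := hind _ hβ hβD
  have hm0 : (m : ℂ) ≠ 0 := by
    rw [← hTidx]
    exact_mod_cast Subgroup.index_ne_zero_of_finite
  have hσ1 : σ.character 1 = 1 := by
    simp only [Function.comp_apply, QuotientGroup.mk_one, hTidx] at h1
    rcases h1 with h1 | h1
    · -- m * d = 1 with d a positive integer forces m = 1 = d
      obtain ⟨d, hd⟩ := IsCharacter.apply_one (IsIrrCharacter.isCharacter hσirr)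
      rw [hd] at h1 ⊢
      have h2 : m * d = 1 := by exact_mod_cast h1
      have : d = 1 := Nat.eq_one_of_mul_eq_one_left h2
      rw [this, Nat.cast_one]
    · have := mul_left_cancel₀ hm0 (h1.trans (mul_one _).symm)
      exact this
  obtain ⟨ν, hν⟩ := exists_hom_of_irr_degree_one hσirr hσ1
  have hνc : σ.character (c : T ⧸ D.subgroupOf T) = σ.character 1 := by
    rw [hν]
    show ((ν (c : T ⧸ D.subgroupOf T) : ℂˣ) : ℂ) = ((ν 1 : ℂˣ) : ℂ)
    have : ν (c : T ⧸ D.subgroupOf T) = 1 := by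
      simp only [c, QuotientGroup.mk_mul, QuotientGroup.mk_inv, map_mul, map_inv]
      rw [mul_comm (ν _) (ν _)]
      group
    rw [this, map_one]
  rw [char_one] at hνc
  exact hσc ((char_eq_finrank_iff σ _).mp hνc)

end Cfsg.Agent.Helper6
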