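import Mathlib
import Cfsg.Prelude.Def_Characters
import Cfsg.Agent.Helper6.TwoDegF
import Cfsg.Agent.Helper6.TwoDegH
import Cfsg.Agent.Helper6.MGroup
import Cfsg.Agent.Helper6.Degrees

/-!
# Two character degrees: the case of a non-central abelian normal Hall subgroup
-/

set_option autoImplicit false
set_option linter.style.haveILetI false

namespace Cfsg.Agent.Helper6

open scoped ComplexConjugate
open Module Representation

universe u

variable {G : Type u} [Group G]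

/-- The elements of `G` acting trivially on `D` modulo `M`. -/
def centMod (D M : Subgroup G) [hD : D.Normal] [hM : M.Normal] : Subgroup G where
  carrier := {g | ∀ d ∈ D, g * d * g⁻¹ * d⁻¹ ∈ M}
  one_mem' := by
    intro d _
    simp
  mul_mem' := by
    intro a b ha hb d hd
    have h1 : a * b * d * (a * b)⁻¹ * d⁻¹ =
        a * (b * d * b⁻¹ * d⁻¹) * a⁻¹ * (a * d * a⁻¹ * d⁻¹) := by group
    rw [h1]
    exact mul_mem (hM.conj_mem _ (hb d hd) a) (ha d hd)
  inv_mem' := by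
    intro a ha d hd
    have hd' : a⁻¹ * d * a ∈ D := by
      have := hD.conj_mem d hd a⁻¹
      rwa [inv_inv] at this
    have h1 := ha (a⁻¹ * d * a) hd'
    have h3 : a⁻¹ * d * a⁻¹⁻¹ * d⁻¹ =
        (a * (a⁻¹ * d * a) * a⁻¹ * (a⁻¹ * d * a)⁻¹)⁻¹ := by group
    rw [h3]
    exact inv_mem h1

theorem mem_centMod (D M : Subgroup G) [hD : D.Normal] [hM : M.Normal] (g : G) :
    g ∈ centMod D M ↔ ∀ d ∈ D, g * d * g⁻¹ * d⁻¹ ∈ M := Iff.rfl

instance centMod_normal (D M : Subgroup G) [hD : D.Normal] [hM : M.Normal] :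
    (centMod D M).Normal := by
  constructor
  intro g hg h d hd
  have hd' : h⁻¹ * d * h ∈ D := by
    have := hD.conj_mem d hd h⁻¹
    rwa [inv_inv] at this
  have h1 := hg (h⁻¹ * d * h) hd'
  have h2 : h * g * h⁻¹ * d * (h * g * h⁻¹)⁻¹ * d⁻¹ =
      h * (g * (h⁻¹ * d * h) * g⁻¹ * (h⁻¹ * d * h)⁻¹) * h⁻¹ := by group
  rw [h2]
  exact hM.conj_mem _ h1 h

/-- Characters of an abelian group `D` trivial on `M` separate the points of `D` modulo `M`. -/
theorem exists_hom_ne_one_of_not_mem [Finite G] (D M : Subgroup G) [hM : M.Normal]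
    (hDab : ∀ a ∈ D, ∀ b ∈ D, a * b = b * a) (d : D) (hd : (d : G) ∉ M) :
    ∃ lam : D →* ℂˣ, (∀ x : D, (x : G) ∈ M → lam x = 1) ∧ lam d ≠ 1 := by
  classical
  haveI : (M.subgroupOf D).Normal := inferInstance
  have hd1 : (d : D ⧸ M.subgroupOf D) ≠ 1 := by
    intro h
    rw [QuotientGroup.eq_one_iff] at h
    exact hd h
  obtain ⟨n, σ, hirr, hσd⟩ := exists_irr_rep_ne_one (d : D ⧸ M.subgroupOf D) hd1
  have hσirr : Cfsg.IsIrrCharacter (D ⧸ M.subgroupOf D) σ.character := ⟨n, σ, hirr, rfl⟩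
  have hcommQ : ∀ a b : D ⧸ M.subgroupOf D, a * b = b * a := by
    intro a b
    obtain ⟨a₀, rfl⟩ := QuotientGroup.mk_surjective a
    obtain ⟨b₀, rfl⟩ := QuotientGroup.mk_surjective b
    rw [← QuotientGroup.mk_mul, ← QuotientGroup.mk_mul]
    congr 1
    exact Subtype.ext (hDab a₀ a₀.2 b₀ b₀.2)
  have hσ1 : σ.character 1 = 1 :=
    (comm_iff_forall_irr_degree_one.mp hcommQ) ⟨σ.character, hσirr⟩
  obtain ⟨ν, hν⟩ := exists_hom_of_irr_degree_one hσirr hσ1
  refine ⟨ν.comp (QuotientGroup.mk' (M.subgroupOf D)), ?_, ?_⟩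
  · intro x hx
    rw [MonoidHom.comp_apply, QuotientGroup.mk'_apply]
    have : (x : D ⧸ M.subgroupOf D) = 1 := by
      rw [QuotientGroup.eq_one_iff]
      exact hx
    rw [this, map_one]
  · intro h
    rw [MonoidHom.comp_apply, QuotientGroup.mk'_apply] at h
    apply hσd
    have h1 : σ.character (d : D ⧸ M.subgroupOf D) = σ.character 1 := by
      rw [hν]
      show ((ν (d : D ⧸ M.subgroupOf D) : ℂˣ) : ℂ) = ((ν 1 : ℂˣ) : ℂ)
      rw [h, map_one]
    rw [char_one] at h1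
    exact (char_eq_finrank_iff σ _).mp h1

theorem mem_conjStab_hom (D : Subgroup G) [hD : D.Normal] (lam : D →* ℂˣ) (g : G) :
    g ∈ conjStab D (fun d : D => ((lam d : ℂˣ) : ℂ)) ↔ conjHom D lam g = lam := by
  rw [mem_conjStab, conjFun_coe_hom]
  constructor
  · intro h
    ext d
    exact congrFun h d
  · intro h
    rw [h]

/-- First half of the non-central case: a normal subgroup `N ≥ D` of index `m`, and a normal
subgroup `M ≤ D` such that `N` is the centralizer of `D` modulo `M` and `N` is the exact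
stabilizer of every non-invariant linear character of `D` trivial on `M`. -/
theorem two_degree_noncentral_data [Fintype G] (m : ℕ)
    (hcd : ∀ χ : Cfsg.IrrCharacter G, Cfsg.charDegree (χ : G → ℂ) = 1 ∨
      Cfsg.charDegree (χ : G → ℂ) = m)
    (D : Subgroup G) [hD : D.Normal] (hDab : ∀ a ∈ D, ∀ b ∈ D, a * b = b * a)
    (hcop : Nat.Coprime (Nat.card D) D.index)
    (hnil : Group.IsNilpotent (G ⧸ D))
    (hnc : ∃ d ∈ D, ∃ g : G, g * d * g⁻¹ * d⁻¹ ≠ 1) :
    ∃ (M N : Subgroup G) (_ : M.Normal) (_ : N.Normal), M ≤ D ∧ D ≤ N ∧ N.index = m ∧ N ≠ ⊤ ∧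
      (∀ lam : D →* ℂˣ, (∀ x : D, (x : G) ∈ M → lam x = 1) → ∀ g ∈ N, conjHom D lam g = lam) ∧
      (∀ g : G, g ∉ N → ∃ lam : D →* ℂˣ, (∀ x : D, (x : G) ∈ M → lam x = 1) ∧
        conjHom D lam g ≠ lam) ∧
      (∀ lam : D →* ℂˣ, (∀ x : D, (x : G) ∈ M → lam x = 1) →
        ∀ g : G, g ∉ N → conjHom D lam g = lam → ∀ h : G, conjHom D lam h = lam) := by
  classical
  have hcd' : ∀ χ : G → ℂ, Cfsg.IsIrrCharacter G χ → χ 1 = 1 ∨ χ 1 = (m : ℂ) := by
    intro χ hχ
    have h3 := charDegree_cast_of_isCharacter (IsIrrCharacter.isCharacter hχ)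
    rcases hcd ⟨χ, hχ⟩ with h1 | h1
    · left
      rw [← h3]
      have : Cfsg.charDegree χ = 1 := h1
      rw [this, Nat.cast_one]
    · right
      rw [← h3]
      have : Cfsg.charDegree χ = m := h1
      rw [this]
  -- a maximal M
  let P : Subgroup G → Prop := fun M =>
    M.Normal ∧ M ≤ D ∧ ∃ d ∈ D, ∃ g : G, g * d * g⁻¹ * d⁻¹ ∉ M
  have hP0 : P ⊥ := by
    obtain ⟨d, hd, g, hg⟩ := hnc
    exact ⟨inferInstance, bot_le, d, hd, g, by rwa [Subgroup.mem_bot]⟩
  obtain ⟨M, -, hMmax⟩ := Finite.exists_le_maximal hP0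
  obtain ⟨⟨hMn, hMD, hMnc⟩, hMmax'⟩ := hMmax
  haveI := hMn
  have hmax : ∀ R : Subgroup G, R.Normal → M ≤ R → R ≤ D → ¬ R ≤ M →
      ∀ d ∈ D, ∀ g : G, g * d * g⁻¹ * d⁻¹ ∈ R := by
    intro R hRn hMR hRD hRM
    by_contra hcon
    push Not at hcon
    obtain ⟨d, hd, g, hg⟩ := hcon
    exact hRM (hMmax' ⟨hRn, hRD, d, hd, g, hg⟩ hMR)
  set N := centMod D M with hNdef
  have hDN : D ≤ N := by
    intro x hx d hd
    rw [hDab x hx d hd]
    simp
  have hNtop : N ≠ ⊤ := by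
    obtain ⟨d, hd, g, hg⟩ := hMnc
    intro h
    have : g ∈ N := h ▸ Subgroup.mem_top g
    exact hg (this d hd)
  let Lam : Set (D →* ℂˣ) := {lam | ∀ x : D, (x : G) ∈ M → lam x = 1}
  have hfixN : ∀ lam ∈ Lam, ∀ g ∈ N, conjHom D lam g = lam := by
    intro lam hlam g hg
    ext d
    rw [conjHom_apply]
    have hc : g * d * g⁻¹ * (d : G)⁻¹ ∈ M := hg d d.2
    have hcD : g * d * g⁻¹ * (d : G)⁻¹ ∈ D := mul_mem (hD.conj_mem d d.2 g) (inv_mem d.2)
    have : (⟨g * d * g⁻¹, hD.conj_mem d d.2 g⟩ : D) = ⟨g * d * g⁻¹ * (d : G)⁻¹, hcD⟩ * d := by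
      apply Subtype.ext
      simp
    rw [this, map_mul, hlam ⟨_, hcD⟩ hc, one_mul]
  have hLamconj : ∀ lam ∈ Lam, ∀ g : G, conjHom D lam g ∈ Lam := by
    intro lam hlam g x hx
    rw [conjHom_apply]
    exact hlam _ (hMn.conj_mem x hx g)
  have hmove : ∀ g : G, g ∉ N → ∃ lam ∈ Lam, conjHom D lam g ≠ lam := by
    intro g hg
    rw [hNdef, mem_centMod] at hg
    push Not at hg
    obtain ⟨d, hd, hc⟩ := hg
    have hcD : g * d * g⁻¹ * d⁻¹ ∈ D := mul_mem (hD.conj_mem d hd g) (inv_mem hd)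
    obtain ⟨lam, hlam, hne⟩ := exists_hom_ne_one_of_not_mem D M hDab ⟨_, hcD⟩ hc
    refine ⟨lam, hlam, ?_⟩
    intro h
    apply hne
    have h1 : conjHom D lam g ⟨d, hd⟩ = lam ⟨d, hd⟩ := by rw [h]
    rw [conjHom_apply] at h1
    have : (⟨g * d * g⁻¹ * d⁻¹, hcD⟩ : D) =
        ⟨g * d * g⁻¹, hD.conj_mem d hd g⟩ * (⟨d, hd⟩ : D)⁻¹ := by
      apply Subtype.ext
      simp
    rw [this, map_mul, map_inv, h1, mul_inv_cancel]
  -- K1
  have hK1 : ∀ z : G, (∀ g : G, z * g * z⁻¹ * g⁻¹ ∈ N) → z ∉ N → ∀ lam ∈ Lam,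
      conjHom D lam z = lam → ∀ g : G, conjHom D lam g = lam := by
    intro z hzc hzN lam hlam hlamz
    let Lz : Set (D →* ℂˣ) := {lam' | lam' ∈ Lam ∧ conjHom D lam' z = lam'}
    let R : Subgroup G :=
      { carrier := {x | ∃ hx : x ∈ D, ∀ lam' ∈ Lz, lam' ⟨x, hx⟩ = 1}
        one_mem' := ⟨one_mem D, fun lam' _ => map_one lam'⟩
        mul_mem' := by
          rintro a b ⟨ha, ha'⟩ ⟨hb, hb'⟩
          refine ⟨mul_mem ha hb, fun lam' hlam' => ?_⟩
          have : (⟨a * b, mul_mem ha hb⟩ : D) = ⟨a, ha⟩ * ⟨b, hb⟩ := rfl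
          rw [this, map_mul, ha' lam' hlam', hb' lam' hlam', one_mul]
        inv_mem' := by
          rintro a ⟨ha, ha'⟩
          refine ⟨inv_mem ha, fun lam' hlam' => ?_⟩
          have : (⟨a⁻¹, inv_mem ha⟩ : D) = (⟨a, ha⟩ : D)⁻¹ := rfl
          rw [this, map_inv, ha' lam' hlam', inv_one] }
    have hMR : M ≤ R := by
      intro x hx
      exact ⟨hMD hx, fun lam' hlam' => hlam'.1 ⟨x, hMD hx⟩ hx⟩
    have hRD : R ≤ D := fun x hx => hx.1
    have hLzconj : ∀ lam' ∈ Lz, ∀ h : G, conjHom D lam' h ∈ Lz := by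
      intro lam' hlam' h
      refine ⟨hLamconj lam' hlam'.1 h, ?_⟩
      rw [conjHom_conjHom]
      have hn : z⁻¹ * h * z * h⁻¹ ∈ N := by
        have h1 := hzc h
        have h2 : z⁻¹ * h * z * h⁻¹ = z⁻¹ * (z * h * z⁻¹ * h⁻¹)⁻¹ * z⁻¹⁻¹ := by group
        rw [h2]
        exact (centMod_normal D M).conj_mem _ (inv_mem h1) z⁻¹
      have h3 : h * z = z * (z⁻¹ * h * z * h⁻¹) * h := by group
      rw [h3, ← conjHom_conjHom, ← conjHom_conjHom, hlam'.2, hfixN lam' hlam'.1 _ hn]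
    have hRn : R.Normal := by
      constructor
      rintro x ⟨hx, hx'⟩ h
      refine ⟨hD.conj_mem x hx h, fun lam' hlam' => ?_⟩
      have := hx' (conjHom D lam' h) (hLzconj lam' hlam' h)
      rw [conjHom_apply] at this
      exact this
    have hRM : ¬ R ≤ M := by
      intro hRM
      apply hzN
      intro d hd
      apply hRM
      have hcD : z * d * z⁻¹ * d⁻¹ ∈ D := mul_mem (hD.conj_mem d hd z) (inv_mem hd)
      refine ⟨hcD, fun lam' hlam' => ?_⟩
      have h1 : conjHom D lam' z ⟨d, hd⟩ = lam' ⟨d, hd⟩ := by rw [hlam'.2]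
      rw [conjHom_apply] at h1
      have : (⟨z * d * z⁻¹ * d⁻¹, hcD⟩ : D) =
          ⟨z * d * z⁻¹, hD.conj_mem d hd z⟩ * (⟨d, hd⟩ : D)⁻¹ := by
        apply Subtype.ext
        simp
      rw [this, map_mul, map_inv, h1, mul_inv_cancel]
    have hall := hmax R hRn hMR hRD hRM
    intro g
    ext d
    rw [conjHom_apply]
    obtain ⟨hcD, hc⟩ := hall d d.2 g
    have : (⟨g * d * g⁻¹, hD.conj_mem d d.2 g⟩ : D) = ⟨g * d * g⁻¹ * (d : G)⁻¹, hcD⟩ * d := by
      apply Subtype.ext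
      simp
    rw [this, map_mul, hc lam ⟨hlam, hlamz⟩, one_mul]
  -- the quotient by N is nilpotent and nontrivial
  haveI hNn : N.Normal := centMod_normal D M
  have hnilN : Group.IsNilpotent (G ⧸ N) := by
    haveI := hnil
    let q : G ⧸ D →* G ⧸ N := QuotientGroup.map D N (MonoidHom.id G) (fun x hx => hDN hx)
    apply Group.nilpotent_of_surjective q
    intro y
    obtain ⟨g, rfl⟩ := QuotientGroup.mk_surjective y
    exact ⟨(g : G ⧸ D), rfl⟩
  obtain ⟨g₁, hg₁⟩ : ∃ g : G, g ∉ N := by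
    by_contra h
    push Not at h
    exact hNtop (eq_top_iff.mpr fun x _ => h x)
  haveI : Nontrivial (G ⧸ N) := by
    refine ⟨⟨(g₁ : G ⧸ N), 1, ?_⟩⟩
    intro h
    rw [QuotientGroup.eq_one_iff] at h
    exact hg₁ h
  haveI := hnilN
  obtain ⟨⟨qz, hqzc⟩, hqz1⟩ := Subgroup.ne_bot_iff_exists_ne_one.mp
    (Group.IsNilpotent.center_ne_bot (G ⧸ N))
  obtain ⟨z, rfl⟩ := QuotientGroup.mk_surjective qz
  have hzN : z ∉ N := by
    intro h
    apply hqz1
    apply Subtype.ext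
    exact (QuotientGroup.eq_one_iff z).mpr h
  have hzc : ∀ g : G, z * g * z⁻¹ * g⁻¹ ∈ N := by
    intro g
    rw [← QuotientGroup.eq_one_iff]
    simp only [QuotientGroup.mk_mul, QuotientGroup.mk_inv]
    rw [← Subgroup.mem_center_iff.mp hqzc (g : G ⧸ N)]
    simp
  -- a non-invariant character
  obtain ⟨lam₁, hlam₁, hlam₁g⟩ := hmove g₁ hg₁
  -- stabilizers of non-invariant characters in Lam
  have hstab : ∀ lam ∈ Lam, (∃ g : G, conjHom D lam g ≠ lam) →
      (conjStab D (fun d : D => ((lam d : ℂˣ) : ℂ))).index = m ∧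
      (∀ x ∈ conjStab D (fun d : D => ((lam d : ℂˣ) : ℂ)),
        ∀ y ∈ conjStab D (fun d : D => ((lam d : ℂˣ) : ℂ)), x * y * x⁻¹ * y⁻¹ ∈ D) ∧
      N ≤ conjStab D (fun d : D => ((lam d : ℂˣ) : ℂ)) ∧
      z ∉ conjStab D (fun d : D => ((lam d : ℂˣ) : ℂ)) := by
    intro lam hlam hmv
    have hne : conjStab D (fun d : D => ((lam d : ℂˣ) : ℂ)) ≠ ⊤ := by
      intro h
      obtain ⟨g, hg⟩ := hmv
      apply hg
      rw [← mem_conjStab_hom, h]
      exact Subgroup.mem_top g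
    obtain ⟨h1, h2⟩ := stab_index_of_two_degrees m hcd' D hcop lam hne
    refine ⟨h1, h2, ?_, ?_⟩
    · intro g hg
      rw [mem_conjStab_hom]
      exact hfixN lam hlam g hg
    · intro hz
      rw [mem_conjStab_hom] at hz
      obtain ⟨g, hg⟩ := hmv
      exact hg (hK1 z hzc hzN lam hlam hz g)
  -- the quotient by N is abelian
  have hQab : ∀ g h : G, g * h * g⁻¹ * h⁻¹ ∈ N := by
    by_contra hcon
    push Not at hcon
    obtain ⟨a, b, hab⟩ := hcon
    have hQnab : ¬ ∀ x y : G ⧸ N, x * y = y * x := by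
      intro hc
      apply hab
      rw [← QuotientGroup.eq_one_iff]
      simp only [QuotientGroup.mk_mul, QuotientGroup.mk_inv]
      rw [hc (a : G ⧸ N) (b : G ⧸ N)]
      simp
    have hexψ : ∃ ψ : Cfsg.IrrCharacter (G ⧸ N), (ψ : G ⧸ N → ℂ) 1 ≠ 1 := by
      by_contra hcon
      push Not at hcon
      exact hQnab ((comm_iff_forall_irr_degree_one (G := G ⧸ N)).mpr hcon)
    obtain ⟨ψ, hψ1⟩ := hexψ
    have hinfl := isIrrCharacter_inflate N ψ
    have hψm : (ψ : G ⧸ N → ℂ) 1 = (m : ℂ) := by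
      rcases hcd' _ hinfl with h1 | h1
      · exact absurd h1 hψ1
      · exact h1
    obtain ⟨n, σ, hirr, hσ⟩ := ψ.2
    haveI := hirr
    have hnm : n = m := by
      have h1 : σ.character 1 = (n : ℂ) := by
        rw [Representation.char_one]
        simp
      rw [hσ, hψm] at h1
      exact_mod_cast h1.symm
    set T := conjStab D (fun d : D => ((lam₁ d : ℂˣ) : ℂ)) with hT
    obtain ⟨hTidx, hTab, hNT, hzT⟩ := hstab lam₁ hlam₁ ⟨g₁, hlam₁g⟩
    set Tbar : Subgroup (G ⧸ N) := T.map (QuotientGroup.mk' N) with hTbar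
    set U : Subgroup (G ⧸ N) :=
      Subgroup.closure ((Tbar : Set (G ⧸ N)) ∪ {(z : G ⧸ N)}) with hU
    have hUab : ∀ x ∈ U, ∀ y ∈ U, x * y = y * x := by
      apply closure_comm
      intro s hs t ht
      rcases hs with hs | hs
      · rcases ht with ht | ht
        · obtain ⟨s₀, hs₀, rfl⟩ := hs
          obtain ⟨t₀, ht₀, rfl⟩ := ht
          simp only [QuotientGroup.mk'_apply]
          rw [← QuotientGroup.mk_mul, ← QuotientGroup.mk_mul, QuotientGroup.eq]
          have h1 := hDN (hTab t₀⁻¹ (inv_mem ht₀) s₀⁻¹ (inv_mem hs₀))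
          have h2 : (s₀ * t₀)⁻¹ * (t₀ * s₀) = t₀⁻¹ * s₀⁻¹ * t₀⁻¹⁻¹ * s₀⁻¹⁻¹ := by group
          rw [h2]
          exact h1
        · rw [Set.mem_singleton_iff] at ht
          rw [ht]
          exact (Subgroup.mem_center_iff.mp hqzc s)
      · rw [Set.mem_singleton_iff] at hs
        rw [hs]
        exact (Subgroup.mem_center_iff.mp hqzc t).symm
    have hle := finrank_le_index_of_abelian σ U hUab
    rw [Module.finrank_fin_fun] at hle
    have hTU : Tbar ≤ U := fun x hx => Subgroup.subset_closure (Or.inl hx)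
    have hTbaridx : Tbar.index = m := by
      rw [hTbar, Subgroup.index_map_eq T (QuotientGroup.mk'_surjective N)
        (by rw [QuotientGroup.ker_mk']; exact hNT), hTidx]
    have hrel := Subgroup.relIndex_mul_index hTU
    rw [hTbaridx] at hrel
    have hrel1 : Tbar.relIndex U ≠ 1 := by
      intro h
      rw [Subgroup.relIndex_eq_one] at h
      have hzU : (z : G ⧸ N) ∈ U := Subgroup.subset_closure (Or.inr rfl)
      obtain ⟨t, ht, hzt⟩ := h hzU
      rw [QuotientGroup.mk'_apply, QuotientGroup.eq] at hzt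
      apply hzT
      have : z = t * (t⁻¹ * z) := by group
      rw [this]
      exact mul_mem ht (hNT hzt)
    have hm0 : m ≠ 0 := by
      rw [← hTidx]
      exact Subgroup.index_ne_zero_of_finite
    have hrel0 : Tbar.relIndex U ≠ 0 := by
      intro h
      rw [h, zero_mul] at hrel
      exact hm0 hrel.symm
    have hU0 : U.index ≠ 0 := by
      intro h
      rw [h, mul_zero] at hrel
      exact hm0 hrel.symm
    have h2 : 2 ≤ Tbar.relIndex U := by omega
    have : 2 * U.index ≤ m := by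
      rw [← hrel]
      exact Nat.mul_le_mul_right _ h2
    omega
  -- the exact stabilizer
  have hexact : ∀ lam ∈ Lam, ∀ g : G, g ∉ N → conjHom D lam g = lam →
      ∀ h : G, conjHom D lam h = lam := by
    intro lam hlam g hg hlg
    exact hK1 g (fun h => hQab g h) hg lam hlam hlg
  have hNidx : N.index = m := by
    obtain ⟨hTidx, -, hNT, -⟩ := hstab lam₁ hlam₁ ⟨g₁, hlam₁g⟩
    have : conjStab D (fun d : D => ((lam₁ d : ℂˣ) : ℂ)) = N := by
      apply le_antisymm _ hNT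
      intro g hg
      rw [mem_conjStab_hom] at hg
      by_contra hgN
      exact hlam₁g (hexact lam₁ hlam₁ g hgN hg g₁)
    rw [← this]
    exact hTidx
  exact ⟨M, N, hMn, hNn, hMD, hDN, hNidx, hNtop, fun lam hlam g hg => hfixN lam hlam g hg,
    fun g hg => hmove g hg, fun lam hlam g hg h1 h => hexact lam hlam g hg h1 h⟩

end Cfsg.Agent.Helper6
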