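import Mathlib
import Cfsg.Prelude.Def_Characters
import Cfsg.Agent.Helper6.TwoDegG

/-!
# Two character degrees: the non-central case yields an abelian normal subgroup of index `m`
-/

set_option autoImplicit false
set_option linter.style.haveILetI false

namespace Cfsg.Agent.Helper6

open scoped ComplexConjugate
open Module Representation

universe u

variable {G : Type u} [Group G]

theorem conjHom_pow (N : Subgroup G) [hN : N.Normal] (μ : N →* ℂˣ) (g : G) (k : ℕ) :
    conjHom N (μ ^ k) g = (conjHom N μ g) ^ k := rfl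

/-- Conjugation of linear characters depends only on the coset modulo `N`. -/
theorem conjHom_congr_coset (N : Subgroup G) [hN : N.Normal] (μ : N →* ℂˣ) (a b : G)
    (h : (a : G ⧸ N) = (b : G ⧸ N)) : conjHom N μ a = conjHom N μ b := by
  have hn : a⁻¹ * b ∈ N := QuotientGroup.eq.mp h
  have hb : b = a * (a⁻¹ * b) := by group
  rw [hb, ← conjHom_conjHom, conjHom_of_mem N _ _ hn]

/-- The restriction of a linear character of `N` to `D ≤ N`. -/
noncomputable def resHom {D N : Subgroup G} (hDN : D ≤ N) (μ : N →* ℂˣ) : D →* ℂˣ :=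
  μ.comp (Subgroup.inclusion hDN)

theorem resHom_apply {D N : Subgroup G} (hDN : D ≤ N) (μ : N →* ℂˣ) (d : D) :
    resHom hDN μ d = μ ⟨(d : G), hDN d.2⟩ := rfl

theorem resHom_conjHom {D N : Subgroup G} [hD : D.Normal] [hN : N.Normal] (hDN : D ≤ N)
    (μ : N →* ℂˣ) (g : G) : resHom hDN (conjHom N μ g) = conjHom D (resHom hDN μ) g := rfl

theorem resHom_mul {D N : Subgroup G} (hDN : D ≤ N) (μ ν : N →* ℂˣ) :
    resHom hDN (μ * ν) = resHom hDN μ * resHom hDN ν := rfl

theorem resHom_inv {D N : Subgroup G} (hDN : D ≤ N) (μ : N →* ℂˣ) :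
    resHom hDN μ⁻¹ = (resHom hDN μ)⁻¹ := rfl

theorem resHom_pow {D N : Subgroup G} (hDN : D ≤ N) (μ : N →* ℂˣ) (k : ℕ) :
    resHom hDN (μ ^ k) = (resHom hDN μ) ^ k := rfl

/-- Every linear character of a finite group has order dividing the group order. -/
theorem hom_pow_card_eq_one {H : Type u} [Group H] [Finite H] (κ : H →* ℂˣ) :
    κ ^ Nat.card H = 1 := by
  ext x
  rw [MonoidHom.pow_apply, ← map_pow, pow_card_eq_one', map_one]
  rfl

/-- A linear character of `N` of order prime to `|N : D|` that is trivial on `D` is trivial. -/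
theorem hom_eq_one_of_resHom_eq_one [Finite G] {D N : Subgroup G} [hD : D.Normal] (hDN : D ≤ N)
    (k : ℕ) (hcop : Nat.Coprime k D.index) (μ : N →* ℂˣ) (hk : μ ^ k = 1)
    (hres : resHom hDN μ = 1) : μ = 1 := by
  haveI : (D.subgroupOf N).Normal := inferInstance
  ext x
  set r := (D.subgroupOf N).index with hr
  have hxr : x ^ r ∈ D.subgroupOf N := by
    rw [← QuotientGroup.eq_one_iff, QuotientGroup.mk_pow]
    have : r = Nat.card (N ⧸ D.subgroupOf N) := rfl
    rw [this]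
    exact pow_card_eq_one'
  have h1 : (μ x) ^ r = 1 := by
    rw [← map_pow]
    have h2 := congrArg (fun f : D →* ℂˣ => f ⟨((x ^ r : N) : G), hxr⟩) hres
    simp only [resHom_apply, MonoidHom.one_apply] at h2
    exact h2
  have h3 : (μ x) ^ k = 1 := by
    have := congrArg (fun f : N →* ℂˣ => f x) hk
    simpa using this
  have hrdvd : r ∣ D.index := Subgroup.relIndex_dvd_index_of_le hDN
  have hcop' : Nat.Coprime k r := Nat.Coprime.coprime_dvd_right hrdvd hcop
  have h4 := pow_gcd_eq_one.mpr ⟨h3, h1⟩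
  rw [Nat.Coprime.gcd_eq_one hcop', pow_one] at h4
  rw [h4]
  rfl

/-- Extension of an invariant linear character of a normal subgroup of coprime order and
index. -/
theorem exists_hom_extension [Finite G] (D T : Subgroup G) [hD : D.Normal] (hDT : D ≤ T)
    (lam : D →* ℂˣ) (hinv : ∀ t ∈ T, conjHom D lam t = lam)
    (hcop : Nat.Coprime (Nat.card D) D.index) :
    ∃ μ : T →* ℂˣ, resHom hDT μ = lam := by
  classical
  haveI hD'n : (D.subgroupOf T).Normal := inferInstance
  let e : D.subgroupOf T ≃* D := Subgroup.subgroupOfEquivOfLe hDT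
  let lam' : D.subgroupOf T →* ℂˣ := lam.comp e.toMonoidHom
  have hθ' : Cfsg.IsIrrCharacter (D.subgroupOf T) (fun x => ((lam' x : ℂˣ) : ℂ)) :=
    isIrrCharacter_of_hom lam'
  have hlam' : ∀ x : D.subgroupOf T, lam' x = lam ⟨((x : T) : G), x.2⟩ := fun x => rfl
  have hinv' : ∀ (t : T) (n : D.subgroupOf T),
      (fun x => ((lam' x : ℂˣ) : ℂ))
        ⟨t * n * t⁻¹, hD'n.conj_mem (n : T) n.2 t⟩ = (fun x => ((lam' x : ℂˣ) : ℂ)) n := by
    intro t n
    have ht := hinv t t.2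
    have := congrArg (fun f : D →* ℂˣ => f ⟨((n : T) : G), n.2⟩) ht
    simp only [hlam']
    simp only [conjHom_apply] at this
    exact congrArg Units.val this
  have hcop' : Nat.Coprime (Nat.card (D.subgroupOf T)) (D.subgroupOf T).index := by
    rw [Nat.card_congr e.toEquiv]
    have h1 : (D.subgroupOf T).index ∣ D.index := Subgroup.relIndex_dvd_index_of_le hDT
    exact Nat.Coprime.coprime_dvd_right h1 hcop
  obtain ⟨χ', hχ', hχ'N⟩ := extends_of_coprime_card (G := T) (D.subgroupOf T)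
    (fun x => ((lam' x : ℂˣ) : ℂ)) hθ' hinv' hcop'
  have hχ'1 : χ' 1 = 1 := by
    have := hχ'N 1
    simp only [map_one, Units.val_one] at this
    exact this
  obtain ⟨μ, hμ⟩ := exists_hom_of_irr_degree_one hχ' hχ'1
  refine ⟨μ, ?_⟩
  ext n
  rw [resHom_apply]
  have h1 := hχ'N ⟨⟨(n : G), hDT n.2⟩, n.2⟩
  rw [hμ] at h1
  exact h1

theorem hom_mul_pow {N : Type*} [Group N] (μ ν : N →* ℂˣ) (k : ℕ) (h1 : μ ^ k = 1)
    (h1' : ν ^ k = 1) : (μ * ν) ^ k = 1 := by
  rw [mul_pow μ ν k, h1, h1', mul_one (1 : N →* ℂˣ)]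

theorem hom_inv_pow {N : Type*} [Group N] (μ : N →* ℂˣ) (k : ℕ) (h1 : μ ^ k = 1) :
    (μ⁻¹) ^ k = 1 := by
  rw [inv_pow μ k, h1]
  exact inv_one (G := N →* ℂˣ)

/-- **The non-central case**: if the abelian normal Hall subgroup `D` is not central, then `G`
has an abelian normal subgroup of index `m`. -/
theorem two_degree_noncentral [Fintype G] (m : ℕ)
    (hcd : ∀ χ : Cfsg.IrrCharacter G, Cfsg.charDegree (χ : G → ℂ) = 1 ∨
      Cfsg.charDegree (χ : G → ℂ) = m)
    (D : Subgroup G) [hD : D.Normal] (hDab : ∀ a ∈ D, ∀ b ∈ D, a * b = b * a)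
    (hcop : Nat.Coprime (Nat.card D) D.index) (hcopm : Nat.Coprime (Nat.card D) m)
    (hnil : Group.IsNilpotent (G ⧸ D))
    (hnc : ∃ d ∈ D, ∃ g : G, g * d * g⁻¹ * d⁻¹ ≠ 1) :
    ∃ A : Subgroup G, A.Normal ∧ (∀ a ∈ A, ∀ b ∈ A, a * b = b * a) ∧ A.index = m := by
  classical
  obtain ⟨M, N, hMn, hNn, hMD, hDN, hNidx, hNtop, hfixN, hmove, hexact⟩ :=
    two_degree_noncentral_data m hcd D hDab hcop hnil hnc
  haveI := hMn
  haveI := hNn
  haveI : Fintype (G ⧸ N) := Fintype.ofFinite _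
  refine ⟨N, hNn, ?_, hNidx⟩
  set k := Nat.card D with hk
  let InLam : (D →* ℂˣ) → Prop := fun lam => ∀ x : D, (x : G) ∈ M → lam x = 1
  let Nm : (N →* ℂˣ) → (N →* ℂˣ) := fun μ => ∏ q : G ⧸ N, conjHom N μ q.out
  have hNm_mul : ∀ μ ν, Nm (μ * ν) = Nm μ * Nm ν := by
    intro μ ν
    simp only [Nm, conjHom_mul]
    exact Finset.prod_mul_distrib
  have hNm_inv : ∀ μ, Nm μ⁻¹ = (Nm μ)⁻¹ := by
    intro μ
    simp only [Nm, conjHom_inv]
    exact Finset.prod_inv_distrib (f := fun q : G ⧸ N => conjHom N μ q.out)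
  have hNm_one : Nm 1 = 1 := by
    simp only [Nm, conjHom_one]
    exact Finset.prod_const_one
  have hNm_conj : ∀ μ (h : G), Nm (conjHom N μ h) = Nm μ := by
    intro μ h
    simp only [Nm]
    have h1 : ∀ q : G ⧸ N, conjHom N (conjHom N μ h) q.out =
        conjHom N μ ((Equiv.mulLeft (h : G ⧸ N)) q).out := by
      intro q
      rw [conjHom_conjHom]
      apply conjHom_congr_coset
      rw [QuotientGroup.out_eq', QuotientGroup.mk_mul, QuotientGroup.out_eq']
      rfl
    rw [Finset.prod_congr rfl (fun q _ => h1 q)]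
    exact Equiv.prod_comp (Equiv.mulLeft (h : G ⧸ N)) (fun q => conjHom N μ q.out)
  have hInLam_conj : ∀ lam, InLam lam → ∀ g : G, InLam (conjHom D lam g) := by
    intro lam hlam g x hx
    rw [conjHom_apply]
    exact hlam _ (hMn.conj_mem x hx g)
  let L : Subgroup (N →* ℂˣ) :=
    { carrier := {μ | μ ^ k = 1 ∧ InLam (resHom hDN μ) ∧ Nm μ = 1}
      one_mem' := ⟨one_pow k, fun x _ => rfl, hNm_one⟩
      mul_mem' := by
        rintro μ ν ⟨h1, h2, h3⟩ ⟨h1', h2', h3'⟩
        refine ⟨hom_mul_pow μ ν k h1 h1', ?_, by rw [hNm_mul, h3, h3']; exact mul_one (1 : N →* ℂˣ)⟩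
        intro x hx
        rw [resHom_mul, MonoidHom.mul_apply, h2 x hx, h2' x hx, one_mul]
      inv_mem' := by
        rintro μ ⟨h1, h2, h3⟩
        refine ⟨hom_inv_pow μ k h1, ?_, by rw [hNm_inv, h3]; exact inv_one (G := N →* ℂˣ)⟩
        intro x hx
        rw [resHom_inv, MonoidHom.inv_apply, h2 x hx, inv_one] }
  have hLmem : ∀ μ, μ ∈ L ↔ μ ^ k = 1 ∧ InLam (resHom hDN μ) ∧ Nm μ = 1 := fun μ => Iff.rfl
  have hkD : Nat.Coprime k D.index := hcop
  -- injectivity of restriction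
  have hresinj : ∀ μ μ' : N →* ℂˣ, μ ^ k = 1 → μ' ^ k = 1 → resHom hDN μ = resHom hDN μ' →
      μ = μ' := by
    intro μ μ' h1 h2 h3
    have h4 : μ⁻¹ * μ' = 1 := by
      apply hom_eq_one_of_resHom_eq_one hDN k hkD
      · exact hom_mul_pow _ _ k (hom_inv_pow μ k h1) h2
      · rw [resHom_mul, resHom_inv, h3]
        exact inv_mul_cancel (resHom hDN μ')
    exact inv_mul_eq_one.mp h4
  apply abelian_of_semiregular_linear m hcd N hNidx L ?_ k ?_ hcopm ?_ ?_
  · -- stability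
    intro μ hμ g
    obtain ⟨h1, h2, h3⟩ := (hLmem μ).mp hμ
    refine (hLmem _).mpr ⟨?_, ?_, ?_⟩
    · rw [← conjHom_pow, h1, conjHom_one]
    · rw [resHom_conjHom]
      exact hInLam_conj _ h2 g
    · rw [hNm_conj, h3]
  · intro μ hμ
    exact ((hLmem μ).mp hμ).1
  · -- semiregularity
    intro μ hμ g hg hμg
    obtain ⟨h1, h2, h3⟩ := (hLmem μ).mp hμ
    have hlamg : conjHom D (resHom hDN μ) g = resHom hDN μ := by
      rw [← resHom_conjHom, hμg]
    have hall := hexact (resHom hDN μ) h2 g hg hlamg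
    have hallμ : ∀ h : G, conjHom N μ h = μ := by
      intro h
      apply hresinj _ _ _ h1
      · rw [resHom_conjHom]
        exact hall h
      · rw [← conjHom_pow, h1, conjHom_one]
    have hNmμ : Nm μ = μ ^ m := by
      simp only [Nm, hallμ]
      rw [Finset.prod_const, Finset.card_univ]
      congr 1
      rw [← Nat.card_eq_fintype_card, ← hNidx]
      rfl
    rw [hNmμ] at h3
    have h4 := (pow_gcd_eq_one (a := μ) (m := k) (n := m)).mpr ⟨h1, h3⟩
    rw [Nat.Coprime.gcd_eq_one hcopm, pow_one μ] at h4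
    exact h4
  · -- a nontrivial element
    obtain ⟨g₁, hg₁⟩ : ∃ g : G, g ∉ N := by
      by_contra h
      push Not at h
      exact hNtop (eq_top_iff.mpr fun x _ => h x)
    obtain ⟨lam₁, hlam₁, hlam₁g⟩ := hmove g₁ hg₁
    obtain ⟨μ₁, hμ₁⟩ := exists_hom_extension D N hDN lam₁ (fun t ht => hfixN lam₁ hlam₁ t ht) hcop
    set r := (D.subgroupOf N).index with hr
    have hrk : r * k = Nat.card N := by
      rw [hr, hk, ← Nat.card_congr (Subgroup.subgroupOfEquivOfLe hDN).toEquiv]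
      exact Subgroup.index_mul_card _
    have hrdvd : r ∣ D.index := Subgroup.relIndex_dvd_index_of_le hDN
    have hcoprk : Nat.Coprime r k := (Nat.Coprime.coprime_dvd_right hrdvd hkD).symm
    set μ₂ := μ₁ ^ r with hμ₂
    have hμ₂k : μ₂ ^ k = 1 := by
      rw [hμ₂, ← pow_mul μ₁ r k, hrk]
      exact hom_pow_card_eq_one μ₁
    have hresμ₂ : resHom hDN μ₂ = lam₁ ^ r := by
      rw [hμ₂, resHom_pow, hμ₁]
    have hInLam₂ : InLam (lam₁ ^ r) := by
      intro x hx
      rw [MonoidHom.pow_apply, hlam₁ x hx, one_pow]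
    have hmoved : conjHom D (lam₁ ^ r) g₁ ≠ lam₁ ^ r := by
      intro h
      apply hlam₁g
      set κ : D →* ℂˣ := conjHom D lam₁ g₁ * lam₁⁻¹ with hκ
      have hκr : κ ^ r = 1 := by
        rw [hκ, mul_pow (conjHom D lam₁ g₁) lam₁⁻¹ r, inv_pow lam₁ r, ← conjHom_pow, h]
        exact mul_inv_cancel (lam₁ ^ r)
      have hκk : κ ^ k = 1 := hom_pow_card_eq_one κ
      have h4 := (pow_gcd_eq_one (a := κ) (m := r) (n := k)).mpr ⟨hκr, hκk⟩
      rw [Nat.Coprime.gcd_eq_one hcoprk, pow_one κ] at h4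
      rw [hκ] at h4
      exact mul_inv_eq_one.mp h4
    refine ⟨conjHom N μ₂ g₁ * μ₂⁻¹, (hLmem _).mpr ⟨?_, ?_, ?_⟩, ?_⟩
    · apply hom_mul_pow _ _ k _ (hom_inv_pow μ₂ k hμ₂k)
      rw [← conjHom_pow, hμ₂k, conjHom_one]
    · rw [resHom_mul, resHom_inv, resHom_conjHom, hresμ₂]
      intro x hx
      rw [MonoidHom.mul_apply, MonoidHom.inv_apply, hInLam_conj _ hInLam₂ g₁ x hx,
        hInLam₂ x hx, inv_one, one_mul]
    · rw [hNm_mul, hNm_inv, hNm_conj]
      exact mul_inv_cancel (Nm μ₂)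
    · intro h
      apply hmoved
      have h5 : conjHom N μ₂ g₁ = μ₂ := mul_inv_eq_one.mp h
      rw [← hresμ₂, ← resHom_conjHom, h5]

end Cfsg.Agent.Helper6
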