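import Mathlib
import Cfsg.Prelude.Def_Characters
import Cfsg.Agent.Helper6.SRealA
import Cfsg.Agent.Helper6.TwoDegG
import Cfsg.Agent.Helper6.TwoDegI
import Cfsg.Agent.Helper6.CliffordOrbit

/-!
# Data for the strongly real characters of `N ⋊ P`: the character `lam`, its stabilizer and an
extension trivial on `T ∩ P`
-/

set_option autoImplicit false
set_option linter.style.haveILetI false

namespace Cfsg.Agent.Helper6.SReal

open Cfsg.Agent.Helper6

universe u

variable {G : Type u} [Group G]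

theorem index_eq_card_compl [Finite G] (N P : Subgroup G) [hN : N.Normal] (hdisj : N ⊓ P = ⊥)
    (hprod : N ⊔ P = ⊤) : N.index = Nat.card P := by
  have h1 : Nat.card G = Nat.card N * Nat.card P := by
    rw [← Nat.card_congr (decomp N P hdisj hprod), Nat.card_prod]
  have h2 := Subgroup.card_mul_index N
  rw [h1] at h2
  exact Nat.eq_of_mul_eq_mul_left Nat.card_pos h2

theorem hom_eq_one_of_sq_of_pow {A : Type*} [Group A] (x : A) (q : ℕ) (hq : q.Prime) (hq2 : q ≠ 2)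
    (h2 : x * x = 1) (hq' : x ^ q = 1) : x = 1 := by
  have hc : Nat.Coprime q 2 := (Nat.coprime_primes hq Nat.prime_two).mpr hq2
  have h1 : orderOf x ∣ q := orderOf_dvd_of_pow_eq_one hq'
  have h3 : orderOf x ∣ 2 := orderOf_dvd_of_pow_eq_one (by rw [pow_two]; exact h2)
  have h4 : orderOf x ∣ Nat.gcd q 2 := Nat.dvd_gcd h1 h3
  rw [hc] at h4
  exact orderOf_eq_one_iff.mp (Nat.dvd_one.mp h4)

theorem exists_data [Finite G] (N P : Subgroup G) [hN : N.Normal] (q : ℕ)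
    (hq : q.Prime) (hq2 : q ≠ 2)
    (hNab : ∀ a ∈ N, ∀ b ∈ N, a * b = b * a) (hNq : ∀ a ∈ N, a ^ q = 1)
    (hP : IsPGroup 2 P) (hP1 : P ≠ ⊥) (hdisj : N ⊓ P = ⊥) (hprod : N ⊔ P = ⊤)
    (hN1 : N ≠ ⊥) (hmin : ∀ M : Subgroup G, M.Normal → M ≠ ⊥ → N ≤ M) :
    ∃ (lam : N →* ℂˣ) (T : Subgroup G) (hNT : N ≤ T) (φ : T →* ℂˣ) (z : G),
      (∀ g : G, g ∈ T ↔ conjFun N (fun n : N => ((lam n : ℂˣ) : ℂ)) g =
        fun n : N => ((lam n : ℂˣ) : ℂ)) ∧
      (∀ g : G, g ∈ T ↔ conjHom N lam g = lam) ∧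
      (∀ n : N, φ ⟨(n : G), hNT n.2⟩ = lam n) ∧ (∀ t : T, (t : G) ∈ P → φ t = 1) ∧
      z ∈ P ∧ z * z = 1 ∧ (∀ h ∈ P, z * h = h * z) ∧ conjHom N lam z = lam⁻¹ ∧
      2 ∣ T.index ∧ T.index ≠ 0 := by
  classical
  haveI : Fact q.Prime := ⟨hq⟩
  obtain ⟨z, hzP, -, hzz, hzc, hzN⟩ :=
    exists_inverting_involution N P q hq hq2 hNab hNq hP hP1 hdisj hprod hN1 hmin
  obtain ⟨d, hd⟩ := (Subgroup.ne_bot_iff_exists_ne_one).mp hN1
  have hd' : (d : G) ∉ (⊥ : Subgroup G) := by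
    rw [Subgroup.mem_bot]
    intro h
    exact hd (Subtype.ext h)
  obtain ⟨lam, -, hlam⟩ := exists_hom_ne_one_of_not_mem N ⊥ hNab d hd'
  have hcf : Cfsg.IsClassFunction N (fun n : N => ((lam n : ℂˣ) : ℂ)) := by
    intro a b
    show ((lam (b * a * b⁻¹) : ℂˣ) : ℂ) = ((lam a : ℂˣ) : ℂ)
    rw [map_mul, map_mul, map_inv, mul_comm (lam b), mul_assoc, mul_inv_cancel, mul_one]
  set T : Subgroup G := conjStab N (fun n : N => ((lam n : ℂˣ) : ℂ)) with hTdef
  have hNT : N ≤ T := le_conjStab_of_isClassFunction N _ hcf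
  have hT1 : ∀ g : G, g ∈ T ↔ conjFun N (fun n : N => ((lam n : ℂˣ) : ℂ)) g =
      fun n : N => ((lam n : ℂˣ) : ℂ) := fun g => mem_conjStab N _ g
  have hT2 : ∀ g : G, g ∈ T ↔ conjHom N lam g = lam := fun g => mem_conjStab_hom N lam g
  have hzinv : conjHom N lam z = lam⁻¹ := by
    ext n
    rw [conjHom_apply, MonoidHom.inv_apply]
    have h1 : (⟨z * (n : G) * z⁻¹, hN.conj_mem n n.2 z⟩ : N) = n⁻¹ := by
      apply Subtype.ext
      rw [Subgroup.coe_inv]
      exact hzN n n.2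
    rw [h1, map_inv]
  have hlamq : ∀ n : N, (lam n) ^ q = 1 := by
    intro n
    rw [← map_pow]
    have : n ^ q = 1 := by
      apply Subtype.ext
      rw [Subgroup.coe_pow, Subgroup.coe_one]
      exact hNq n n.2
    rw [this, map_one]
  have hzT : z ∉ T := by
    intro hz
    have h1 := (hT2 z).mp hz
    rw [hzinv] at h1
    have h2 := DFunLike.congr_fun h1 d
    rw [MonoidHom.inv_apply] at h2
    apply hlam
    apply hom_eq_one_of_sq_of_pow (lam d) q hq hq2 _ (hlamq d)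
    calc lam d * lam d = (lam d)⁻¹ * lam d := by rw [h2]
      _ = 1 := inv_mul_cancel _
  -- index facts
  have hidx : N.index = Nat.card P := index_eq_card_compl N P hdisj hprod
  obtain ⟨m, hm⟩ := IsPGroup.exists_card_eq hP
  have hTdvd : T.index ∣ 2 ^ m := by
    rw [← hm, ← hidx]
    exact Subgroup.index_dvd_of_le hNT
  obtain ⟨j, -, hj⟩ := (Nat.dvd_prime_pow Nat.prime_two).mp hTdvd
  have hj0 : j ≠ 0 := by
    intro h0
    rw [h0, pow_zero] at hj
    apply hzT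
    rw [Subgroup.index_eq_one.mp hj]
    exact Subgroup.mem_top z
  have hT2dvd : 2 ∣ T.index := by
    rw [hj]; exact dvd_pow_self 2 hj0
  have hT0 : T.index ≠ 0 := by
    rw [hj]; positivity
  -- extension
  have hNpg : IsPGroup q N := by
    intro n
    refine ⟨1, ?_⟩
    rw [pow_one]
    apply Subtype.ext
    rw [Subgroup.coe_pow, Subgroup.coe_one]
    exact hNq n n.2
  obtain ⟨n₀, hn₀⟩ := IsPGroup.exists_card_eq hNpg
  have hc2 : Nat.Coprime q 2 := (Nat.coprime_primes hq Nat.prime_two).mpr hq2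
  have hcop : Nat.Coprime (Nat.card N) N.index := by
    rw [hidx, hm, hn₀]
    exact Nat.Coprime.pow _ _ hc2
  obtain ⟨μ₁, hμ₁⟩ := exists_hom_extension N T hNT lam (fun t ht => (hT2 t).mp ht) hcop
  have hcopP : Nat.Coprime (Nat.card P) q := by
    rw [hm]
    exact Nat.Coprime.pow_left _ hc2.symm
  obtain ⟨m', -, hm'⟩ := Nat.exists_mul_mod_eq_one_of_coprime hcopP hq.one_lt
  set e : ℕ := Nat.card P * m' with he
  refine ⟨lam, T, hNT, μ₁ ^ e, z, hT1, hT2, ?_, ?_, hzP, hzz, hzc, hzinv, hT2dvd, hT0⟩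
  · intro n
    rw [MonoidHom.pow_apply]
    have h1 : μ₁ ⟨(n : G), hNT n.2⟩ = lam n := by
      rw [← hμ₁, resHom_apply]
    rw [h1]
    have h2 : e = q * (e / q) + 1 := by
      have := (Nat.div_add_mod e q).symm
      rw [hm'] at this
      exact this
    rw [h2, pow_add, pow_mul, hlamq, one_pow, one_mul, pow_one]
  · intro t ht
    rw [MonoidHom.pow_apply, ← map_pow]
    have h1 : t ^ e = 1 := by
      apply Subtype.ext
      rw [Subgroup.coe_pow, Subgroup.coe_one, he, pow_mul]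
      have h2 : (⟨(t : G), ht⟩ : P) ^ Nat.card P = 1 := pow_card_eq_one'
      have h3 := congrArg Subtype.val h2
      rw [Subgroup.coe_pow, Subgroup.coe_one] at h3
      rw [h3, one_pow]
    rw [h1, map_one]

end Cfsg.Agent.Helper6.SReal
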