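import Mathlib
import Cfsg.Prelude.Def_Characters
import Cfsg.Agent.Helper6.SRealB
import Cfsg.Agent.Helper6.SRealC
import Cfsg.Agent.Helper6.AbelianInertia
import Cfsg.Agent.Helper6.CliffordUnique
import Cfsg.Agent.Helper6.Linear
import Cfsg.Agent.Helper6.LinearCountFS
import Cfsg.Agent.Helper6.BlockPart
import Cfsg.Agent.Helper6.IrrBasis
import Cfsg.Agent.Helper6.Degrees

/-!
# Strongly real characters of `N ⋊ P`: the counting
-/

set_option autoImplicit false
set_option linter.style.haveILetI false

namespace Cfsg.Agent.Helper6.SReal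

open Cfsg.Agent.Helper6

universe u

variable {G : Type u} [Group G]

theorem finite_hom_units [Finite G] : Finite (G →* ℂˣ) := by
  apply Nat.finite_of_card_ne_zero
  rw [card_hom_units]
  exact Subgroup.index_ne_zero_of_finite

/-- At most `|G : T|` homomorphisms `G → ℂˣ` are trivial on `T`. -/
theorem card_le_index_of_trivial_on [Finite G] (T : Subgroup G) (F : Finset (G →* ℂˣ))
    (hF : ∀ ε ∈ F, ∀ t ∈ T, ε t = 1) : F.card ≤ T.index := by
  classical
  set K : Subgroup G := Subgroup.normalClosure (T : Set G) with hK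
  have hker : ∀ ε ∈ F, K ≤ ε.ker := by
    intro ε hε
    apply Subgroup.normalClosure_le_normal
    intro t ht
    exact MonoidHom.mem_ker.mpr (hF ε hε t ht)
  haveI : Finite ((G ⧸ K) →* ℂˣ) := finite_hom_units
  let j : {ε // ε ∈ F} → ((G ⧸ K) →* ℂˣ) := fun ε => QuotientGroup.lift K ε.1 (hker ε.1 ε.2)
  have hj : Function.Injective j := by
    intro a b hab
    apply Subtype.ext
    ext g
    have := DFunLike.congr_fun hab (g : G ⧸ K)
    simp only [j, QuotientGroup.lift_mk] at this
    rw [this]
  have h1 : F.card ≤ Nat.card ((G ⧸ K) →* ℂˣ) := by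
    have := Nat.card_le_card_of_injective j hj
    rwa [Nat.card_eq_fintype_card, Fintype.card_coe] at this
  have h2 : Nat.card ((G ⧸ K) →* ℂˣ) ≤ K.index := by
    rw [card_hom_units, Subgroup.index_eq_card K]
    exact Nat.le_of_dvd Nat.card_pos (Subgroup.index_dvd_card _)
  have h3 : K.index ≤ T.index := by
    apply Nat.le_of_dvd (Nat.pos_of_ne_zero Subgroup.index_ne_zero_of_finite)
    exact Subgroup.index_dvd_of_le Subgroup.le_normalClosure
  exact h1.trans (h2.trans h3)

/-- The abstract counting. -/
theorem counting {S A : Type*} [Fintype S] [Fintype A] [DecidableEq S] (deg : S → ℕ) (k : ℕ)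
    (hk : 2 ≤ k) (hdeg : ∀ s, deg s = 1 ∨ 2 ≤ deg s)
    (lin : A → S) (hlin : ∀ s, deg s = 1 → ∃ a, lin a = s)
    (Φ : A → S) (hΦ : ∀ a, deg (Φ a) = k)
    (hfib : ∀ y : S, (Finset.univ.filter (fun a => Φ a = y)).card ≤ k) :
    4 * Fintype.card S ≤ 3 * ∑ s, deg s := by
  classical
  set c : S → ℕ := fun y => (Finset.univ.filter (fun a => Φ a = y)).card with hc
  have hA : Fintype.card A = ∑ y, c y := by
    rw [← Finset.card_univ]
    exact Finset.card_eq_sum_card_fiberwise (fun a _ => Finset.mem_univ (Φ a))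
  have hS1 : (Finset.univ.filter (fun s : S => deg s = 1)).card ≤ Fintype.card A := by
    have hsub : Finset.univ.filter (fun s : S => deg s = 1) ⊆ Finset.univ.image lin := by
      intro s hs
      rw [Finset.mem_filter] at hs
      obtain ⟨a, ha⟩ := hlin s hs.2
      exact Finset.mem_image.mpr ⟨a, Finset.mem_univ a, ha⟩
    exact (Finset.card_le_card hsub).trans (Finset.card_image_le.trans (by rw [Finset.card_univ]))
  have hy : ∀ y, 4 + c y ≤ 3 * deg y + (if deg y = 1 then 1 else 0) := by
    intro y
    by_cases h0 : c y = 0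
    · rw [h0]
      rcases hdeg y with h1 | h1
      · rw [if_pos h1, h1]
      · have : ¬ deg y = 1 := by omega
        rw [if_neg this]; omega
    · obtain ⟨a, ha⟩ := Finset.card_pos.mp (Nat.pos_of_ne_zero h0)
      rw [Finset.mem_filter] at ha
      have hdk : deg y = k := by rw [← ha.2]; exact hΦ a
      have hck : c y ≤ k := hfib y
      have : ¬ deg y = 1 := by omega
      rw [if_neg this]; omega
  have hsum := Finset.sum_le_sum (fun y (_ : y ∈ (Finset.univ : Finset S)) => hy y)
  rw [Finset.sum_add_distrib, Finset.sum_add_distrib, Finset.sum_const, Finset.card_univ,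
    smul_eq_mul, ← hA, ← Finset.mul_sum, Finset.sum_boole] at hsum
  have : ((Finset.univ.filter (fun s : S => deg s = 1)).card : ℕ) ≤ Fintype.card A := hS1
  simp only [Nat.cast_id] at hsum
  omega

end Cfsg.Agent.Helper6.SReal
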