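import Mathlib
import Cfsg.Prelude.Def_Characters
import Cfsg.Agent.Helper6.SRealD

/-!
# Strongly real characters of `N ⋊ P`: main theorem
-/

set_option autoImplicit false
set_option linter.style.haveILetI false

namespace Cfsg.Agent.Helper6.SReal

open Cfsg.Agent.Helper6

universe u

variable {G : Type u} [Group G]

theorem charDegree_eq_of_apply_one (f : G → ℂ) (n : ℕ) (h : f 1 = (n : ℂ)) :
    Cfsg.charDegree f = n := by
  unfold Cfsg.charDegree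
  rw [h, Complex.natCast_re, Nat.floor_natCast]

theorem fs_hom_of_sq [Fintype G] (δ : G →* ℂˣ) (hδ : ∀ g, δ g * δ g = 1) :
    (Nat.card G : ℂ)⁻¹ * ∑ g : G, ((δ (g * g) : ℂˣ) : ℂ) = 1 := by
  have h1 : ∀ g : G, ((δ (g * g) : ℂˣ) : ℂ) = 1 := by
    intro g
    rw [map_mul, hδ, Units.val_one]
  rw [Finset.sum_congr rfl (fun g _ => h1 g), Finset.sum_const, Finset.card_univ, nsmul_eq_mul,
    mul_one, Nat.card_eq_fintype_card]
  have : (Fintype.card G : ℂ) ≠ 0 := by exact_mod_cast Fintype.card_ne_zero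
  field_simp

theorem fs_mul_hom_of_sq [Fintype G] (χ : G → ℂ) (δ : G →* ℂˣ) (hδ : ∀ g, δ g * δ g = 1) :
    ∑ g : G, (χ * fun g => ((δ g : ℂˣ) : ℂ)) (g * g) = ∑ g : G, χ (g * g) := by
  apply Finset.sum_congr rfl
  intro g _
  rw [Pi.mul_apply, map_mul, hδ, Units.val_one, mul_one]

/-- The injectivity statement: twisting the induced character by real linear characters. -/
theorem restrict_eq_of_mul_eq [Fintype G] (N : Subgroup G) [hN : N.Normal] (lam : N →* ℂˣ)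
    (T : Subgroup G) (hNT : N ≤ T)
    (hT1 : ∀ g : G, g ∈ T ↔ conjFun N (fun n : N => ((lam n : ℂˣ) : ℂ)) g =
        fun n : N => ((lam n : ℂˣ) : ℂ))
    (φ : T →* ℂˣ) (hφN : ∀ n : N, φ ⟨(n : G), hNT n.2⟩ = lam n)
    (δ δ' : G →* ℂˣ) (hδN : ∀ n ∈ N, δ n = 1) (hδ'N : ∀ n ∈ N, δ' n = 1)
    (heq : Cfsg.indFun T (fun t : T => ((φ t : ℂˣ) : ℂ)) * (fun g => ((δ g : ℂˣ) : ℂ)) =
      Cfsg.indFun T (fun t : T => ((φ t : ℂˣ) : ℂ)) * (fun g => ((δ' g : ℂˣ) : ℂ))) :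
    ∀ t ∈ T, δ t = δ' t := by
  classical
  haveI : Fintype N := Fintype.ofFinite N
  haveI : Fintype T := Fintype.ofFinite T
  have hcf : ∀ ε : G →* ℂˣ, Cfsg.IsClassFunction G (fun g => ((ε g : ℂˣ) : ℂ)) := fun ε =>
    IsCharacter.isClassFunction (IsIrrCharacter.isCharacter (isIrrCharacter_of_hom ε))
  let ψ : (G →* ℂˣ) → (T →* ℂˣ) := fun ε => (ε.comp T.subtype) * φ
  have hψ : ∀ ε : G →* ℂˣ, (fun g => ((ε g : ℂˣ) : ℂ)) *
      Cfsg.indFun T (fun t : T => ((φ t : ℂˣ) : ℂ)) =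
      Cfsg.indFun T (fun t : T => ((ψ ε t : ℂˣ) : ℂ)) := by
    intro ε
    rw [mul_indFun T _ _ (hcf ε)]
    congr 1
  have hψN : ∀ ε : G →* ℂˣ, (∀ n ∈ N, ε n = 1) →
      (fun n : N => ((ψ ε ⟨(n : G), hNT n.2⟩ : ℂˣ) : ℂ)) = fun n : N => ((lam n : ℂˣ) : ℂ) := by
    intro ε hε
    funext n
    show (((ε.comp T.subtype) ⟨(n : G), hNT n.2⟩ * φ ⟨(n : G), hNT n.2⟩ : ℂˣ) : ℂ) = _
    rw [hφN]
    show ((ε (n : G) * lam n : ℂˣ) : ℂ) = _
    rw [hε n n.2, one_mul]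
  have h11 : Cfsg.classInner (fun n : N => ((lam n : ℂˣ) : ℂ)) (fun n : N => ((lam n : ℂˣ) : ℂ))
      ≠ 0 := by
    rw [classInner_irr_self (isIrrCharacter_of_hom lam)]
    exact one_ne_zero
  have heq' : Cfsg.indFun T (fun t : T => ((ψ δ t : ℂˣ) : ℂ)) =
      Cfsg.indFun T (fun t : T => ((ψ δ' t : ℂˣ) : ℂ)) := by
    rw [← hψ, ← hψ, mul_comm, heq, mul_comm]
  have key := clifford_corr_unique N _ (isIrrCharacter_of_hom lam) T hT1 hNT
    (fun t : T => ((ψ δ t : ℂˣ) : ℂ)) (fun t : T => ((ψ δ' t : ℂˣ) : ℂ))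
    (isIrrCharacter_of_hom (ψ δ)) (isIrrCharacter_of_hom (ψ δ'))
    (by rw [hψN δ hδN]; exact h11) (by rw [hψN δ' hδ'N]; exact h11) heq'
  intro t ht
  have h1 := congrFun key ⟨t, ht⟩
  have h2 : ψ δ ⟨t, ht⟩ = ψ δ' ⟨t, ht⟩ := Units.ext h1
  have h3 : δ t * φ ⟨t, ht⟩ = δ' t * φ ⟨t, ht⟩ := h2
  exact mul_right_cancel h3

/-- Strongly real irreducible characters of degree one or even degree. -/
def IsSR (χ : Cfsg.IrrCharacter G) : Prop :=
  (Cfsg.charDegree (χ : G → ℂ) = 1 ∨ 2 ∣ Cfsg.charDegree (χ : G → ℂ)) ∧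
    (Nat.card G : ℂ)⁻¹ * ∑ᶠ g : G, (χ : G → ℂ) (g * g) = 1

/-- Main theorem. -/
theorem main [Finite G] (N P : Subgroup G) (hN : N.Normal) (q : ℕ) (hq : q.Prime) (hq2 : q ≠ 2)
    (hNab : ∀ a ∈ N, ∀ b ∈ N, a * b = b * a) (hNq : ∀ a ∈ N, a ^ q = 1)
    (hP : IsPGroup 2 P) (hP1 : P ≠ ⊥) (hdisj : N ⊓ P = ⊥) (hprod : N ⊔ P = ⊤)
    (hN1 : N ≠ ⊥) (hmin : ∀ M : Subgroup G, M.Normal → M ≠ ⊥ → N ≤ M) :
    4 * Nat.card {χ : Cfsg.IrrCharacter G // IsSR χ} ≤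
      3 * (∑ᶠ χ : {χ : Cfsg.IrrCharacter G // IsSR χ}, Cfsg.charDegree (χ.1 : G → ℂ)) := by
  classical
  haveI := hN
  haveI : Fintype G := Fintype.ofFinite G
  haveI : Fintype N := Fintype.ofFinite N
  obtain ⟨lam, T, hNT, φ, z, hT1, hT2, hφN, hφP, hzP, hzz, hzc, hzinv, hT2dvd, hT0⟩ :=
    exists_data N P q hq hq2 hNab hNq hP hP1 hdisj hprod hN1 hmin
  haveI : Fintype T := Fintype.ofFinite T
  haveI : Finite (Cfsg.IrrCharacter G) := irr_finite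
  haveI : Finite (G →* ℂˣ) := finite_hom_units
  set χ₀ : G → ℂ := Cfsg.indFun T (fun t : T => ((φ t : ℂˣ) : ℂ)) with hχ₀
  have hres : (fun n : N => ((φ ⟨(n : G), hNT n.2⟩ : ℂˣ) : ℂ)) =
      fun n : N => ((lam n : ℂˣ) : ℂ) := by
    funext n; rw [hφN]
  have hirr0 : Cfsg.IsIrrCharacter G χ₀ := by
    refine (clifford_corr_ind_irr N _ (isIrrCharacter_of_hom lam) T hT1 hNT _
      (isIrrCharacter_of_hom φ) ?_).1
    rw [hres, classInner_irr_self (isIrrCharacter_of_hom lam)]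
    exact one_ne_zero
  have hfs0 : (Nat.card G : ℂ)⁻¹ * ∑ x : G, χ₀ (x * x) = 1 :=
    fs_ind_eq_one N P hdisj hprod lam T hNT hT2 φ hφN hφP z hzP hzz hzc hzinv
  have hdeg0 : χ₀ 1 = (T.index : ℂ) := by
    rw [hχ₀, indFun_apply_one, map_one, Units.val_one, mul_one]
  have hk : 2 ≤ T.index := Nat.le_of_dvd (Nat.pos_of_ne_zero hT0) hT2dvd
  -- real linear characters are trivial on N
  have hδN : ∀ δ : G →* ℂˣ, (∀ g, δ g * δ g = 1) → ∀ n ∈ N, δ n = 1 := by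
    intro δ hδ n hn
    apply hom_eq_one_of_sq_of_pow (δ n) q hq hq2 (hδ n)
    rw [← map_pow, hNq n hn, map_one]
  -- set up the counting
  haveI : Fintype {χ : Cfsg.IrrCharacter G // IsSR χ} := Fintype.ofFinite _
  haveI : Fintype {δ : G →* ℂˣ // ∀ g, δ g * δ g = 1} := Fintype.ofFinite _
  rw [Nat.card_eq_fintype_card, finsum_eq_sum_of_fintype]
  have hdegΦ : ∀ δ : G →* ℂˣ, Cfsg.charDegree (χ₀ * fun g => ((δ g : ℂˣ) : ℂ)) = T.index := by
    intro δ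
    apply charDegree_eq_of_apply_one
    rw [Pi.mul_apply, hdeg0, map_one, Units.val_one, mul_one]
  let lin : {δ : G →* ℂˣ // ∀ g, δ g * δ g = 1} → {χ : Cfsg.IrrCharacter G // IsSR χ} :=
    fun δ => ⟨⟨fun g => ((δ.1 g : ℂˣ) : ℂ), isIrrCharacter_of_hom δ.1⟩, by
      constructor
      · left
        apply charDegree_eq_of_apply_one
        show ((δ.1 1 : ℂˣ) : ℂ) = ((1 : ℕ) : ℂ)
        rw [map_one, Units.val_one, Nat.cast_one]
      · rw [finsum_eq_sum_of_fintype]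
        exact fs_hom_of_sq δ.1 δ.2⟩
  let Φ : {δ : G →* ℂˣ // ∀ g, δ g * δ g = 1} → {χ : Cfsg.IrrCharacter G // IsSR χ} :=
    fun δ => ⟨⟨χ₀ * fun g => ((δ.1 g : ℂˣ) : ℂ), IsIrrCharacter.mul_hom δ.1 hirr0⟩, by
      constructor
      · right
        show 2 ∣ Cfsg.charDegree (χ₀ * fun g => ((δ.1 g : ℂˣ) : ℂ))
        rw [hdegΦ]
        exact hT2dvd
      · rw [finsum_eq_sum_of_fintype]
        show (Nat.card G : ℂ)⁻¹ * ∑ g : G, (χ₀ * fun g => ((δ.1 g : ℂˣ) : ℂ)) (g * g) = 1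
        rw [fs_mul_hom_of_sq χ₀ δ.1 δ.2]
        exact hfs0⟩
  have hΦval : ∀ δ, ((Φ δ).1 : G → ℂ) = χ₀ * fun g => ((δ.1 g : ℂˣ) : ℂ) := fun δ => rfl
  refine counting (S := {χ : Cfsg.IrrCharacter G // IsSR χ})
    (A := {δ : G →* ℂˣ // ∀ g, δ g * δ g = 1})
    (fun s => Cfsg.charDegree (s.1 : G → ℂ)) T.index hk ?_ lin ?_ Φ ?_ ?_
  · -- hdeg
    intro s
    rcases s.2.1 with h1 | h1
    · exact Or.inl h1
    · right
      apply Nat.le_of_dvd _ h1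
      apply Nat.pos_of_ne_zero
      intro h0
      have h2 := charDegree_cast_of_isCharacter (IsIrrCharacter.isCharacter s.1.2)
      rw [h0, Nat.cast_zero] at h2
      exact IsIrrCharacter.apply_one_ne_zero s.1.2 h2.symm
  · -- hlin
    intro s hs
    have h1 : (s.1 : G → ℂ) 1 = 1 := by
      have h2 := charDegree_cast_of_isCharacter (IsIrrCharacter.isCharacter s.1.2)
      rw [hs, Nat.cast_one] at h2
      exact h2.symm
    obtain ⟨δ, hδ⟩ := exists_hom_of_irr_degree_one s.1.2 h1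
    have hfs := s.2.2
    rw [finsum_eq_sum_of_fintype, hδ] at hfs
    have hsq := hom_sq_eq_one_of_fs δ hfs
    refine ⟨⟨δ, fun g => by rw [← map_mul]; exact hsq g⟩, ?_⟩
    apply Subtype.ext
    apply Subtype.ext
    exact hδ.symm
  · -- hΦ
    intro δ
    exact hdegΦ δ.1
  · -- hfib
    intro y
    by_cases hne : (Finset.univ.filter (fun a => Φ a = y)).Nonempty
    · obtain ⟨a₁, ha₁⟩ := hne
      rw [Finset.mem_filter] at ha₁
      have hinj : Function.Injective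
          (fun a : {δ : G →* ℂˣ // ∀ g, δ g * δ g = 1} => a.1 * a₁.1⁻¹) := by
        intro a b hab
        apply Subtype.ext
        exact mul_right_cancel hab
      rw [← Finset.card_image_of_injective _ hinj]
      apply card_le_index_of_trivial_on
      intro ε hε t ht
      obtain ⟨a, ha, rfl⟩ := Finset.mem_image.mp hε
      rw [Finset.mem_filter] at ha
      have hfun : χ₀ * (fun g => ((a.1 g : ℂˣ) : ℂ)) = χ₀ * (fun g => ((a₁.1 g : ℂˣ) : ℂ)) := by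
        have h1 := ha.2.trans ha₁.2.symm
        have h2 := congrArg (fun s => ((s.1 : Cfsg.IrrCharacter G) : G → ℂ)) h1
        exact h2
      have h3 := restrict_eq_of_mul_eq N lam T hNT hT1 φ hφN a.1 a₁.1 (hδN a.1 a.2)
        (hδN a₁.1 a₁.2) hfun t ht
      rw [MonoidHom.mul_apply, MonoidHom.inv_apply, h3, mul_inv_cancel]
    · rw [Finset.not_nonempty_iff_eq_empty] at hne
      rw [hne, Finset.card_empty]
      exact Nat.zero_le _

end Cfsg.Agent.Helper6.SReal
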