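import Mathlib

/-!
# Group-theoretic part of the inertial quotient of a cyclic defect group

For a cyclic `p`-subgroup `P` of a finite group and a subgroup `C_G(P) ≤ T ≤ N_G(P)` all of whose
`p`-elements centralize `P`: `T / C_G(P)` is cyclic of order dividing `p - 1` and acts freely on
`P`.
-/

set_option autoImplicit false

namespace Cfsg.Agent.Helper6

universe u

variable {G : Type u} [Group G]

/-- iterating a conjugation that raises `w` to the `k`-th power -/
theorem conj_pow_eq_pow_pow (g w : G) (k : ℕ) (h : g * w * g⁻¹ = w ^ k) (n : ℕ) :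
    g ^ n * w * (g ^ n)⁻¹ = w ^ (k ^ n) := by
  induction n with
  | zero => simp
  | succ n ih =>
    have h1 : g ^ (n + 1) * w * (g ^ (n + 1))⁻¹ = g * (g ^ n * w * (g ^ n)⁻¹) * g⁻¹ := by
      rw [pow_succ']; group
    have h2 : g * w ^ (k ^ n) * g⁻¹ = (g * w * g⁻¹) ^ (k ^ n) := by
      rw [conj_pow]
    rw [h1, ih, h2, h, ← pow_mul, pow_succ']

/-- **cyclic `p`-groups**: an element normalizing a cyclic group `P` of order `p ^ a` and fixing a
non-identity element of `P` has its `p ^ (a - 1)`-th power in the centralizer of `P` -/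
theorem pow_mem_centralizer_of_fix [Finite G] (p : ℕ) [hp : Fact p.Prime] (P : Subgroup G)
    (hcyc : IsCyclic P) (a : ℕ) (hcard : Nat.card P = p ^ (a + 1)) (g : G)
    (hg : g ∈ Subgroup.normalizer (P : Set G)) (x : G) (hx : x ∈ P) (hx1 : x ≠ 1)
    (hfix : g * x * g⁻¹ = x) : g ^ (p ^ a) ∈ Subgroup.centralizer (P : Set G) := by
  have hpp := hp.out
  obtain ⟨w, hw⟩ := IsCyclic.exists_generator (α := P)
  have how : orderOf w = p ^ (a + 1) := by
    rw [orderOf_eq_card_of_forall_mem_zpowers hw, hcard]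
  have how' : orderOf (w : G) = p ^ (a + 1) := by
    rw [← how]; exact Subgroup.orderOf_coe w
  -- every element of `P` is a natural power of `w`
  have hpowers : ∀ y ∈ P, ∃ m : ℕ, y = (w : G) ^ m := by
    intro y hy
    have h1 : (⟨y, hy⟩ : P) ∈ Submonoid.powers w := mem_powers_iff_mem_zpowers.mpr (hw _)
    obtain ⟨m, hm⟩ := h1
    refine ⟨m, ?_⟩
    have := congrArg (Subtype.val) hm
    simpa using this.symm
  have hgw : g * (w : G) * g⁻¹ ∈ P := by
    have := (Subgroup.mem_normalizer_iff.mp hg (w : G)).mp w.2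
    exact this
  obtain ⟨k, hk⟩ := hpowers _ hgw
  obtain ⟨m, hm⟩ := hpowers x hx
  -- the fixed point gives `k ≡ 1 mod p`
  have h1 : (w : G) ^ (k * m) = (w : G) ^ m := by
    rw [pow_mul, ← hk, conj_pow, ← hm, hfix]
  have h2 : k * m ≡ m [MOD p ^ (a + 1)] := by
    rw [← how']; exact pow_eq_pow_iff_modEq.mp h1
  have h3 : ((p ^ (a + 1) : ℕ) : ℤ) ∣ (m : ℤ) - ((k * m : ℕ) : ℤ) := (Nat.modEq_iff_dvd.mp h2)
  have hm' : ¬ (p ^ (a + 1)) ∣ m := by
    intro hd
    apply hx1
    rw [hm]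
    obtain ⟨c, hc⟩ := hd
    rw [hc, ← how', pow_mul, pow_orderOf_eq_one, one_pow]
  have hpk : (p : ℤ) ∣ (k : ℤ) - 1 := by
    by_contra hnd
    have hcop : IsCoprime ((p : ℤ) ^ (a + 1)) ((k : ℤ) - 1) := by
      apply IsCoprime.pow_left
      exact (Nat.prime_iff_prime_int.mp hpp).coprime_iff_not_dvd.mpr hnd
    have h4 : ((p : ℤ) ^ (a + 1)) ∣ ((k : ℤ) - 1) * (m : ℤ) := by
      have : ((k : ℤ) - 1) * (m : ℤ) = -((m : ℤ) - ((k * m : ℕ) : ℤ)) := by push_cast; ring
      rw [this, dvd_neg]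
      exact_mod_cast h3
    have h5 := hcop.dvd_of_dvd_mul_left h4
    apply hm'
    exact_mod_cast h5
  have h6 : ((p : ℤ)) ^ (a + 1) ∣ (k : ℤ) ^ (p ^ a) - 1 ^ (p ^ a) :=
    dvd_sub_pow_of_dvd_sub hpk a
  rw [one_pow] at h6
  have h7 : k ^ (p ^ a) ≡ 1 [MOD p ^ (a + 1)] := by
    apply Nat.ModEq.symm
    rw [Nat.modEq_iff_dvd]
    exact_mod_cast h6
  have h8 : g ^ (p ^ a) * (w : G) * (g ^ (p ^ a))⁻¹ = (w : G) := by
    rw [conj_pow_eq_pow_pow g (w : G) k hk (p ^ a)]
    have : (w : G) ^ (k ^ (p ^ a)) = (w : G) ^ 1 := by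
      rw [pow_eq_pow_iff_modEq, how']
      exact h7
    rw [this, pow_one]
  have h9 : g ^ (p ^ a) * (w : G) = (w : G) * g ^ (p ^ a) := by
    calc g ^ (p ^ a) * (w : G) = g ^ (p ^ a) * (w : G) * (g ^ (p ^ a))⁻¹ * g ^ (p ^ a) := by group
      _ = (w : G) * g ^ (p ^ a) := by rw [h8]
  rw [Subgroup.mem_centralizer_iff]
  intro y hy
  obtain ⟨n, hn⟩ := hpowers y hy
  rw [hn]
  exact ((Commute.pow_right (show Commute (g ^ (p ^ a)) (w : G) from h9) n).eq).symm

/-- an element with a `p`-power power in `C`, all of whose `p`-power-order powers lie in `C`, lies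
in `C` -/
theorem mem_of_pow_mem_of_pElements [Finite G] (p : ℕ) [hp : Fact p.Prime] (C : Subgroup G)
    (g : G) (j : ℕ) (h1 : g ^ (p ^ j) ∈ C)
    (h2 : ∀ n k : ℕ, orderOf (g ^ n) = p ^ k → g ^ n ∈ C) : g ∈ C := by
  have hpp := hp.out
  have ho : orderOf g ≠ 0 := (orderOf_pos g).ne'
  obtain ⟨s, m, hm, ho'⟩ := Nat.exists_eq_pow_mul_and_not_dvd ho p hpp.ne_one
  have hm0 : m ≠ 0 := by
    rintro rfl
    exact hm (dvd_zero p)
  have h3 : g ^ m ∈ C := by
    apply h2 m s
    rw [orderOf_pow_of_dvd hm0 ⟨p ^ s, by rw [ho']; ring⟩, ho',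
      Nat.mul_div_cancel _ (Nat.pos_of_ne_zero hm0)]
  have hcop : Nat.Coprime m (p ^ j) :=
    Nat.Coprime.pow_right j ((Nat.Prime.coprime_iff_not_dvd hpp).mpr hm).symm
  have hb : (m : ℤ) * Nat.gcdA m (p ^ j) + ((p ^ j : ℕ) : ℤ) * Nat.gcdB m (p ^ j) = 1 := by
    have := Nat.gcd_eq_gcd_ab m (p ^ j)
    rw [hcop] at this
    exact_mod_cast this.symm
  have h4 : g = (g ^ m) ^ (Nat.gcdA m (p ^ j)) * (g ^ (p ^ j)) ^ (Nat.gcdB m (p ^ j)) := by
    rw [← zpow_natCast, ← zpow_natCast, ← zpow_mul, ← zpow_mul, ← zpow_add, hb, zpow_one]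
  rw [h4]
  exact C.mul_mem (C.zpow_mem h3 _) (C.zpow_mem h1 _)

/-- conjugation by an element normalizing a cyclic group maps every element to a power of it -/
theorem conj_mem_zpowers_of_cyclic [Finite G] (P : Subgroup G) (hcyc : IsCyclic P) (g : G)
    (hg : g ∈ Subgroup.normalizer (P : Set G)) (x : G) (hx : x ∈ P) :
    g * x * g⁻¹ ∈ Subgroup.zpowers x := by
  obtain ⟨w, hw⟩ := IsCyclic.exists_generator (α := P)
  have hpowers : ∀ y ∈ P, ∃ m : ℤ, y = (w : G) ^ m := by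
    intro y hy
    obtain ⟨m, hm⟩ := Subgroup.mem_zpowers_iff.mp (hw ⟨y, hy⟩)
    refine ⟨m, ?_⟩
    have := congrArg (Subtype.val) hm
    simpa using this.symm
  have hgw : g * (w : G) * g⁻¹ ∈ P := (Subgroup.mem_normalizer_iff.mp hg (w : G)).mp w.2
  obtain ⟨k, hk⟩ := hpowers _ hgw
  obtain ⟨m, hm⟩ := hpowers x hx
  refine Subgroup.mem_zpowers_iff.mpr ⟨k, ?_⟩
  rw [hm, ← conj_zpow, hk, ← zpow_mul, ← zpow_mul, mul_comm]

/-- the automorphism group of a group of prime order `p` is cyclic of order `p - 1` -/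
theorem mulAut_of_prime_card (p : ℕ) [hp : Fact p.Prime] (H : Type*) [Group H]
    (hcard : Nat.card H = p) : IsCyclic (MulAut H) ∧ Nat.card (MulAut H) = p - 1 := by
  haveI : IsCyclic H := isCyclic_of_prime_card hcard
  have e := IsCyclic.mulAutMulEquiv H
  rw [hcard] at e
  refine ⟨isCyclic_of_injective e.toMonoidHom e.injective, ?_⟩
  rw [Nat.card_congr e.toEquiv, Nat.card_eq_fintype_card, ZMod.card_units]

set_option maxHeartbeats 1000000 in
/-- **the inertial quotient of a cyclic `p`-group**: if `C_G(P) ≤ T ≤ N_G(P)` and the `p`-elements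
of `T` centralize the nontrivial cyclic `p`-group `P`, then `T / C_G(P)` is cyclic of order dividing
`p - 1` and acts freely on `P` -/
theorem cyclic_inertial [Finite G] (p : ℕ) [hp : Fact p.Prime] (P : Subgroup G)
    (hP1 : P ≠ ⊥) (hcyc : IsCyclic P) (hPp : IsPGroup p P) (T : Subgroup G)
    (hTN : T ≤ Subgroup.normalizer (P : Set G)) (hCT : Subgroup.centralizer (P : Set G) ≤ T)
    (hpel : ∀ u ∈ T, ∀ k : ℕ, orderOf u = p ^ k → u ∈ Subgroup.centralizer (P : Set G))
    [hn : ((Subgroup.centralizer (P : Set G)).subgroupOf T).Normal] :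
    IsCyclic (T ⧸ (Subgroup.centralizer (P : Set G)).subgroupOf T) ∧
    (Subgroup.centralizer (P : Set G)).relIndex T ∣ p - 1 ∧
    ∀ g ∈ T, ∀ x ∈ P, x ≠ 1 → g * x * g⁻¹ = x → g ∈ Subgroup.centralizer (P : Set G) := by
  have hpp := hp.out
  -- the order of `P`
  obtain ⟨n, hn'⟩ := IsPGroup.iff_card.mp hPp
  obtain ⟨a, rfl⟩ : ∃ a, n = a + 1 := by
    rcases n with _ | a
    · exfalso
      apply hP1
      apply Subgroup.eq_bot_of_card_eq
      rw [hn', pow_zero]
    · exact ⟨a, rfl⟩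
  -- the action is free
  have hfree : ∀ g ∈ T, ∀ x ∈ P, x ≠ 1 → g * x * g⁻¹ = x →
      g ∈ Subgroup.centralizer (P : Set G) := by
    intro g hg x hx hx1 hfix
    have h1 := pow_mem_centralizer_of_fix p P hcyc a hn' g (hTN hg) x hx hx1 hfix
    exact mem_of_pow_mem_of_pElements p _ g a h1
      (fun n k h => hpel (g ^ n) (T.pow_mem hg n) k h)
  refine ⟨?_, ?_, hfree⟩
  all_goals
    -- `P` is abelian
    have hPC : P ≤ Subgroup.centralizer (P : Set G) := by
      intro x hx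
      rw [Subgroup.mem_centralizer_iff]
      intro y hy
      have := (IsCyclic.isMulCommutative (α := P)).is_comm.comm ⟨y, hy⟩ ⟨x, hx⟩
      exact congrArg Subtype.val this
    -- an element of order `p`
    obtain ⟨w, hw⟩ := IsCyclic.exists_generator (α := P)
    have how : orderOf (w : G) = p ^ (a + 1) := by
      rw [Subgroup.orderOf_coe, orderOf_eq_card_of_forall_mem_zpowers hw, hn']
    obtain ⟨z, hz⟩ : ∃ z : G, z = (w : G) ^ (p ^ a) := ⟨_, rfl⟩
    have hzP : z ∈ P := by rw [hz]; exact P.pow_mem w.2 _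
    have hoz : orderOf z = p := by
      rw [hz, orderOf_pow_of_dvd (pow_ne_zero a hpp.ne_zero) ⟨p, by rw [how, pow_succ]⟩, how,
        pow_succ, Nat.mul_div_cancel_left _ (pow_pos hpp.pos a)]
    have hz1 : z ≠ 1 := by
      intro h
      rw [h, orderOf_one] at hoz
      exact hpp.ne_one hoz.symm
    obtain ⟨Ω, hΩ⟩ : ∃ Ω : Subgroup G, Ω = Subgroup.zpowers z := ⟨_, rfl⟩
    have hΩP : Ω ≤ P := by
      rw [hΩ, Subgroup.zpowers_le]; exact hzP
    have hΩT : Ω ≤ T := hΩP.trans (hPC.trans hCT)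
    have hzΩ : z ∈ Ω := by rw [hΩ]; exact Subgroup.mem_zpowers z
    haveI hΩn : (Ω.subgroupOf T).Normal := by
      constructor
      intro x hx t
      rw [Subgroup.mem_subgroupOf] at hx ⊢
      have h1 : ((t * x * t⁻¹ : T) : G) = (t : G) * (x : G) * (t : G)⁻¹ := by simp
      rw [h1]
      have h2 := conj_mem_zpowers_of_cyclic P hcyc (t : G) (hTN t.2) (x : G) (hΩP hx)
      have h3 : Subgroup.zpowers (x : G) ≤ Ω := by
        rw [Subgroup.zpowers_le]; exact hx
      exact h3 h2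
    have hcardΩ : Nat.card (Ω.subgroupOf T) = p := by
      rw [Nat.card_congr (Subgroup.subgroupOfEquivOfLe hΩT).toEquiv, hΩ, Nat.card_zpowers, hoz]
    obtain ⟨hAcyc, hAcard⟩ := mulAut_of_prime_card p (Ω.subgroupOf T) hcardΩ
    -- the conjugation action on `Ω`
    obtain ⟨ψ, hψ⟩ : ∃ ψ : T →* MulAut (Ω.subgroupOf T), ψ = MulAut.conjNormal := ⟨_, rfl⟩
    have hψapp : ∀ (t : T) (y : Ω.subgroupOf T),
        (((ψ t) y : T) : G) = (t : G) * ((y : T) : G) * (t : G)⁻¹ := by
      intro t y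
      rw [hψ, MulAut.conjNormal_apply]
      simp
    have hker : (Subgroup.centralizer (P : Set G)).subgroupOf T ≤ ψ.ker := by
      intro t ht
      rw [Subgroup.mem_subgroupOf] at ht
      rw [MonoidHom.mem_ker]
      ext y
      rw [hψapp, MulAut.one_apply]
      have hy : ((y : T) : G) ∈ P := hΩP (Subgroup.mem_subgroupOf.mp y.2)
      have := Subgroup.mem_centralizer_iff.mp ht _ hy
      rw [← this]; group
    obtain ⟨φ, hφ⟩ : ∃ φ : T ⧸ (Subgroup.centralizer (P : Set G)).subgroupOf T →*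
        MulAut (Ω.subgroupOf T), φ = QuotientGroup.lift _ ψ hker := ⟨_, rfl⟩
    have hinj : Function.Injective φ := by
      rw [injective_iff_map_eq_one]
      intro q hq
      obtain ⟨t, rfl⟩ := QuotientGroup.mk_surjective q
      rw [hφ, QuotientGroup.lift_mk] at hq
      rw [QuotientGroup.eq_one_iff, Subgroup.mem_subgroupOf]
      apply hfree (t : G) t.2 z hzP hz1
      have h1 := hψapp t ⟨⟨z, hΩT hzΩ⟩, Subgroup.mem_subgroupOf.mpr hzΩ⟩
      rw [hq, MulAut.one_apply] at h1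
      exact h1.symm
  · exact isCyclic_of_injective φ hinj
  · have h1 := Subgroup.card_dvd_of_injective φ hinj
    rw [hAcard] at h1
    unfold Subgroup.relIndex
    rw [Subgroup.index_eq_card]
    exact h1

end Cfsg.Agent.Helper6
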