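import Mathlib
import Cfsg.Prelude.Def_Characters
import Cfsg.Prelude.Def_Blocks
import Cfsg.Prelude.Def_BlockLocal
import Cfsg.Prelude.Def_BlockRank
import Cfsg.Prelude.Def_BrauerPairs
import Cfsg.Agent.Helper6.NilAbE
import Cfsg.Agent.Helper6.FreeActionNilpotent
import Cfsg.Agent.Helper6.AbelianInertial3
import Cfsg.Agent.Helper6.CyclicInertial
import Cfsg.Agent.Helper6.MaximalPairDefect

/-!
# Blocks with a cyclic defect group: the local blocks at the subgroups of the defect group
-/

set_option autoImplicit false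
set_option linter.style.haveILetI false

namespace Cfsg.Agent.Helper6.NilAb

open Cfsg.Agent.Helper6 Cfsg.Agent.Helper6.K4

open scoped ComplexConjugate

universe u

variable {G : Type u} [Group G] {M : Ideal Cfsg.AlgInt}

/-- **abelian defect groups**: the block of `C_G(Q)` induced by the root is the block of the
subpair on `Q` -/
theorem subpairLE_of_isInducedBlockIn [Fintype G] {p : ℕ}
    [hp : Fact p.Prime] (hM : Cfsg.IsPModular p M) (B : Set (Cfsg.IrrCharacter G))
    (P : Subgroup G) (c : Set (Cfsg.IrrCharacter (Subgroup.centralizer (P : Set G))))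
    (hmax : Cfsg.IsMaximalBrauerPair p M B P c) (Q : Subgroup G) (hQP : Q ≤ P)
    (hPH : P ≤ Subgroup.centralizer (Q : Set G))
    (hCH : Subgroup.centralizer (P : Set G) ≤ Subgroup.centralizer (Q : Set G))
    (f : Set (Cfsg.IrrCharacter (Subgroup.centralizer (Q : Set G))))
    (hf : Cfsg.IsInducedBlockIn M (Subgroup.centralizer (Q : Set G))
      (Subgroup.centralizer (P : Set G)) c f) :
    Cfsg.SubpairLE p M Q f P c := by
  classical
  haveI : Fintype (Subgroup.centralizer (Q : Set G)) := Fintype.ofFinite _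
  have hPc : Cfsg.IsBrauerPair p M P c := hmax.1.1
  have hPN : P ≤ Subgroup.normalizer (Q : Set G) :=
    hPH.trans (Subgroup.centralizer_le_normalizer _)
  obtain ⟨f₀, hf₀, hle⟩ := exists_subpairLE hM _ P Q c hPc hQP rfl
  have hn := isNormalSubpair_of_subpairLE_of_le_normalizer hM P Q c f₀ hPc hQP hPN hle
  have hcoef : ∀ t : Subgroup.centralizer (Q : Set G), Cfsg.blockCoeff f₀ t =
      Cfsg.subgroupBlockCoeff (Subgroup.centralizer (Q : Set G)) f₀ (t : G) :=
    fun t => (subgroupBlockCoeff_of_mem _ _ _ t.2).symm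
  have hpair := isBrauerPairOf_stabilizer_of_isNormalSubpair (M := M) (p := p) Q P
    (Subgroup.centralizer (Q : Set G)) f₀ c hn hPH hCH f₀ hf₀ hcoef
  have hpair' : Cfsg.IsBrauerPairOf p M f (P.subgroupOf (Subgroup.centralizer (Q : Set G)))
      (localBlock (Subgroup.centralizer (Q : Set G)) P hPH hCH c) :=
    isBrauerPairOf_of_isInducedBlock hM f _ hpair.1.1 _
      ((isInducedBlockIn_iff_localBlock _ P hPH hCH c f).mp hf)
  have hff : f₀ = f := (existsUnique_isBrauerPairOf hM _ _ hpair.1).unique hpair hpair'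
  rw [← hff]
  exact hle


/-- **blocks with a cyclic defect group: the local blocks** -/
theorem cyclic_local_blocks [Finite G] {p : ℕ} [hp : Fact p.Prime]
    (hM : Cfsg.IsPModular p M) (B : Set (Cfsg.IrrCharacter G)) (hB : Cfsg.IsPBlock M B)
    (P : Subgroup G) (hPD : Cfsg.IsDefectGroup p M B P) (hP1 : P ≠ ⊥) (hcyc : IsCyclic P)
    (c : Set (Cfsg.IrrCharacter (Subgroup.centralizer (P : Set G))))
    (hc : Cfsg.IsInducedBlock M (Subgroup.centralizer (P : Set G)) c B) (T : Subgroup G)
    (hT : ∀ g : G, g ∈ T ↔ (g ∈ Subgroup.normalizer (P : Set G) ∧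
      Cfsg.StabilizesBlock (Subgroup.centralizer (P : Set G)) c g))
    (Q : Subgroup G) (hQP : Q ≤ P) (hQ1 : Q ≠ ⊥)
    (f : Set (Cfsg.IrrCharacter (Subgroup.centralizer (Q : Set G))))
    (hf : Cfsg.IsInducedBlockIn M (Subgroup.centralizer (Q : Set G))
      (Subgroup.centralizer (P : Set G)) c f) (T' : Subgroup G)
    (hT' : ∀ g : G, g ∈ T' ↔ (g ∈ Subgroup.normalizer (Q : Set G) ∧
      Cfsg.StabilizesBlock (Subgroup.centralizer (Q : Set G)) f g)) :
    T' = T ⊔ Subgroup.centralizer (Q : Set G) ∧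
      (Subgroup.centralizer (Q : Set G)).relIndex T' =
        (Subgroup.centralizer (P : Set G)).relIndex T ∧
      Cfsg.blockRank p f = 1 ∧ Cfsg.IsNilpotentBlock p M f := by
  classical
  haveI : Fintype G := Fintype.ofFinite G
  have hcard := card_defectGroup hM.2.1 p hM.2.2 B hB P hPD
  have hPp : IsPGroup p P := IsPGroup.of_card hcard
  have hab : ∀ x ∈ P, ∀ y ∈ P, x * y = y * x := by
    intro x hx y hy
    have := (IsCyclic.isMulCommutative (α := P)).is_comm.comm ⟨x, hx⟩ ⟨y, hy⟩
    exact congrArg Subtype.val this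
  have hmax : Cfsg.IsMaximalBrauerPair p M B P c := isMaximalBrauerPair_of_root hM B P hPD c hc
  have hTN : T ≤ Subgroup.normalizer (P : Set G) := fun g hg => ((hT g).mp hg).1
  have hCT : Subgroup.centralizer (P : Set G) ≤ T := fun g hg =>
    (hT g).mpr ⟨Subgroup.centralizer_le_normalizer _ hg,
      stabilizesBlock_of_mem_centralizer _ _ g hg⟩
  have hpel : ∀ u ∈ T, ∀ k : ℕ, orderOf u = p ^ k → u ∈ Subgroup.centralizer (P : Set G) := by
    intro u hu k hk
    obtain ⟨huN, hust⟩ := (hT u).mp hu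
    exact pElement_mem_centralizer_of_stabilizes hM B P c hmax hab u huN hust k hk
  haveI hn : ((Subgroup.centralizer (P : Set G)).subgroupOf T).Normal := by
    constructor
    intro x hx t
    rw [Subgroup.mem_subgroupOf] at hx ⊢
    have htN := normalizer_le_normalizer_centralizer P (hTN t.2)
    have := (Subgroup.mem_normalizer_iff.mp htN (x : G)).mp hx
    simpa using this
  have hfree : ∀ g ∈ T, ∀ x ∈ P, x ≠ 1 → g * x * g⁻¹ = x →
      g ∈ Subgroup.centralizer (P : Set G) :=
    (cyclic_inertial p P hP1 hcyc hPp T hTN hCT hpel).2.2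
  have hfree' : ∀ g : G, g ∈ Subgroup.normalizer (P : Set G) →
      Cfsg.StabilizesBlock (Subgroup.centralizer (P : Set G)) c g →
        ∀ x ∈ P, x ≠ 1 → g * x * g⁻¹ = x → g ∈ Subgroup.centralizer (P : Set G) :=
    fun g hgN hgst => hfree g ((hT g).mpr ⟨hgN, hgst⟩)
  have hPH : P ≤ Subgroup.centralizer (Q : Set G) := fun u hu =>
    Subgroup.mem_centralizer_iff.mpr (fun q hq => hab q (hQP hq) u hu)
  have hCH : Subgroup.centralizer (P : Set G) ≤ Subgroup.centralizer (Q : Set G) :=
    Subgroup.centralizer_le (by exact_mod_cast hQP)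
  -- nilpotency
  have hnil : Cfsg.IsNilpotentBlock p M f :=
    isNilpotentBlock_of_free_action hM B P c hmax hab hfree' Q hQP hQ1 f hf
  -- rank one
  have hmaxH := isMaximalBrauerPair_localBlock_of_isInducedBlockIn hM B P c hmax Q hQP hPH hCH f hf
  haveI : Fintype (Subgroup.centralizer (Q : Set G)) := Fintype.ofFinite _
  have hDf := isDefectGroup_of_isMaximalBrauerPair hM f _ _ hmaxH
  have hab' : ∀ x ∈ P.subgroupOf (Subgroup.centralizer (Q : Set G)),
      ∀ y ∈ P.subgroupOf (Subgroup.centralizer (Q : Set G)), x * y = y * x := by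
    intro x hx y hy
    apply Subtype.ext
    exact hab _ (Subgroup.mem_subgroupOf.mp hx) _ (Subgroup.mem_subgroupOf.mp hy)
  have hrank : Cfsg.blockRank p f = 1 := rank_one_of_nilpotent_abelian hM f hnil _ hDf hab'
  -- the stabilizers
  have hle := subpairLE_of_isInducedBlockIn hM B P c hmax Q hQP hPH hCH f hf
  obtain ⟨hprod, hidx⟩ := stabilizer_abelian hM B P c hmax hab Q f hQP hf.2.1 hle T' hT' T hT
  -- `T ≤ N(Q)`
  have hTNQ : T ≤ Subgroup.normalizer (Q : Set G) := by
    intro g hg
    have hgN := hTN hg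
    have hginvN : g⁻¹ ∈ Subgroup.normalizer (P : Set G) := Subgroup.inv_mem _ hgN
    rw [Subgroup.mem_normalizer_iff]
    intro h
    constructor
    · intro hh
      have h1 := conj_mem_zpowers_of_cyclic P hcyc g hgN h (hQP hh)
      exact (Subgroup.zpowers_le.mpr hh) h1
    · intro hh
      have h1 := conj_mem_zpowers_of_cyclic P hcyc g⁻¹ hginvN (g * h * g⁻¹) (hQP hh)
      have h2 : g⁻¹ * (g * h * g⁻¹) * g⁻¹⁻¹ = h := by group
      rw [h2] at h1
      exact (Subgroup.zpowers_le.mpr hh) h1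
  have hTT' : T ≤ T' := by
    intro g hg
    obtain ⟨hgN, hgst⟩ := (hT g).mp hg
    exact (hT' g).mpr ⟨hTNQ hg, stabilizesBlock_of_subpairLE' hM P Q c f hmax.1.1 hQP hle g hgN
      hgst (hTNQ hg)⟩
  have hCT' : Subgroup.centralizer (Q : Set G) ≤ T' := fun g hg =>
    (hT' g).mpr ⟨Subgroup.centralizer_le_normalizer _ hg,
      stabilizesBlock_of_mem_centralizer _ _ g hg⟩
  have hT'eq : T' = T ⊔ Subgroup.centralizer (Q : Set G) := by
    apply le_antisymm
    · intro x hx
      obtain ⟨y, hy, z, hz, rfl⟩ := hprod x hx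
      exact Subgroup.mul_mem _ (Subgroup.mem_sup_left hy) (Subgroup.mem_sup_right hz)
    · exact sup_le hTT' hCT'
  refine ⟨hT'eq, ?_, hrank, hnil⟩
  -- the index
  have h1 : T ⊓ Subgroup.normalizer (Q : Set G) = T := inf_eq_left.mpr hTNQ
  have h2 : T ⊓ Subgroup.centralizer (Q : Set G) = Subgroup.centralizer (P : Set G) := by
    apply le_antisymm
    · rintro g ⟨hgT, hgC⟩
      obtain ⟨q, hq1⟩ := (Subgroup.ne_bot_iff_exists_ne_one).mp hQ1
      have hq1' : (q : G) ≠ 1 := fun h => hq1 (Subtype.ext h)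
      have hfix : g * (q : G) * g⁻¹ = (q : G) := by
        have := Subgroup.mem_centralizer_iff.mp hgC (q : G) q.2
        rw [← this]; group
      exact hfree g hgT (q : G) (hQP q.2) hq1' hfix
    · exact le_inf hCT hCH
  unfold Subgroup.relIndex
  rw [hidx]
  have h3 : ((T ⊓ Subgroup.centralizer (Q : Set G)).subgroupOf
      (T ⊓ Subgroup.normalizer (Q : Set G))).index =
      (T ⊓ Subgroup.centralizer (Q : Set G)).relIndex
        (T ⊓ Subgroup.normalizer (Q : Set G)) := rfl
  rw [h3, h1, h2]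
  rfl

end Cfsg.Agent.Helper6.NilAb
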