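import Mathlib
import Cfsg.Prelude.Def_Characters
import Cfsg.Prelude.Def_Blocks
import Cfsg.Prelude.Def_BlockRank
import Cfsg.Agent.Helper6.RankTrace
import Cfsg.Agent.Helper6.SectionOrthB
import Cfsg.Agent.Helper6.BrauerPair

/-!
# The `p`-regular rank of a union of blocks (towards S4651)
-/

set_option autoImplicit false
set_option linter.style.haveILetI false

namespace Cfsg.Agent.Helper6.KR

open Module
open scoped ComplexConjugate
open Cfsg.Agent.Helper6

universe u

variable {G : Type u} [Group G] {M : Ideal Cfsg.AlgInt}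

/-- the trace formula for the `p`-regular rank of a set of irreducible characters that is
orthogonal, on the `p`-regular elements, to its complement -/
theorem card_mul_blockRank_of_orth [Fintype G] (p : ℕ) (U : Set (Cfsg.IrrCharacter G))
    (hU : ∀ ψ ∈ U, ∀ χ : Cfsg.IrrCharacter G, χ ∉ U →
      ∑ x : G, (if p ∣ orderOf x then (0 : ℂ) else (ψ : G → ℂ) x * conj ((χ : G → ℂ) x)) = 0) :
    (Nat.card G : ℂ) * (Cfsg.blockRank p U : ℂ) =
      ∑ x : G, ∑ᶠ χ ∈ U, Cfsg.pRegularPart p (χ : G → ℂ) x * (χ : G → ℂ) x⁻¹ := by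
  classical
  haveI : Finite (Cfsg.IrrCharacter G) := irr_finite
  haveI : Fintype (Cfsg.IrrCharacter G) := Fintype.ofFinite _
  have hG0 : (Nat.card G : ℂ) ≠ 0 := by
    have : 0 < Nat.card G := Nat.card_pos
    exact_mod_cast this.ne'
  have hexpand : ∀ ψ ∈ U, Cfsg.pRegularPart p (ψ : G → ℂ) = ∑ χ : Cfsg.IrrCharacter G,
      if χ ∈ U then Cfsg.classInner (Cfsg.pRegularPart p (ψ : G → ℂ)) (χ : G → ℂ) • (χ : G → ℂ)
      else 0 := by
    intro ψ hψ
    have hcf := pRegularPart_isClassFunction p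
      (IsCharacter.isClassFunction (IsIrrCharacter.isCharacter ψ.2))
    have hexp := classFunction_expansion _ hcf
    conv_lhs => rw [hexp]
    apply Finset.sum_congr rfl
    intro χ _
    split_ifs with hχ
    · rfl
    · have h0 := hU ψ hψ χ hχ
      have h1 : Cfsg.classInner (Cfsg.pRegularPart p (ψ : G → ℂ)) (χ : G → ℂ) = 0 := by
        rw [classInner_def]
        have h2 : ∑ g : G, Cfsg.pRegularPart p (ψ : G → ℂ) g * conj ((χ : G → ℂ) g) =
            ∑ x : G, (if p ∣ orderOf x then (0 : ℂ)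
              else (ψ : G → ℂ) x * conj ((χ : G → ℂ) x)) := by
          apply Finset.sum_congr rfl
          intro g _
          rw [pRegularPart_apply]
          split_ifs
          · rw [zero_mul]
          · rfl
        rw [h2, h0, mul_zero]
      rw [h1, zero_smul]
  -- the operator
  set T : (G → ℂ) →ₗ[ℂ] (G → ℂ) := ∑ χ : Cfsg.IrrCharacter G,
    if χ ∈ U then (innerFunctional (χ : G → ℂ)).smulRight (Cfsg.pRegularPart p (χ : G → ℂ))
    else 0 with hT
  have hTapp : ∀ θ : G → ℂ, T θ = ∑ χ : Cfsg.IrrCharacter G,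
      if χ ∈ U then Cfsg.classInner θ (χ : G → ℂ) • Cfsg.pRegularPart p (χ : G → ℂ) else 0 := by
    intro θ
    rw [hT, LinearMap.sum_apply]
    apply Finset.sum_congr rfl
    intro χ _
    split_ifs
    · rw [LinearMap.smulRight_apply, innerFunctional_apply]
    · rfl
  set S : Submodule ℂ (G → ℂ) := Submodule.span ℂ
    ((fun χ : Cfsg.IrrCharacter G => Cfsg.pRegularPart p (χ : G → ℂ)) '' U) with hS
  have hmem : ∀ θ, T θ ∈ S := by
    intro θ
    rw [hTapp]
    apply Submodule.sum_mem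
    intro χ _
    split_ifs with hχ
    · exact Submodule.smul_mem _ _ (Submodule.subset_span ⟨χ, hχ, rfl⟩)
    · exact Submodule.zero_mem _
  have hfix : ∀ s ∈ S, T s = s := by
    intro s hs
    induction hs using Submodule.span_induction with
    | mem x hx =>
      obtain ⟨ψ, hψ, rfl⟩ := hx
      simp only
      rw [hTapp]
      have hexp := hexpand ψ hψ
      have h1 := congrArg (Cfsg.pRegularPart p) hexp
      rw [pRegularPart_idem, pRegularPart_sum] at h1
      conv_rhs => rw [h1]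
      apply Finset.sum_congr rfl
      intro χ _
      split_ifs
      · rw [pRegularPart_smul]
      · rw [pRegularPart_zero]
    | zero => exact map_zero T
    | add x y _ _ hx hy => rw [map_add, hx, hy]
    | smul c x _ hx => rw [map_smul, hx]
  have hproj : LinearMap.IsProj S T := ⟨hmem, hfix⟩
  have htr := hproj.trace
  have htr2 : LinearMap.trace ℂ (G → ℂ) T = (Nat.card G : ℂ)⁻¹ *
      ∑ x : G, ∑ᶠ χ ∈ U, Cfsg.pRegularPart p (χ : G → ℂ) x * (χ : G → ℂ) x⁻¹ := by
    rw [LinearMap.trace_eq_matrix_trace ℂ (Pi.basisFun ℂ G) T, Matrix.trace, Finset.mul_sum]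
    apply Finset.sum_congr rfl
    intro g _
    rw [Matrix.diag_apply, LinearMap.toMatrix_apply, Pi.basisFun_repr, Pi.basisFun_apply, hTapp,
      Finset.sum_apply, finsum_mem_eq_sum_ite, Finset.mul_sum]
    apply Finset.sum_congr rfl
    intro χ _
    split_ifs
    · rw [Pi.smul_apply, smul_eq_mul, classInner_def]
      have h1 : ∑ x : G, (Pi.single g (1 : ℂ) : G → ℂ) x * conj ((χ : G → ℂ) x) =
          conj ((χ : G → ℂ) g) := by
        rw [Finset.sum_eq_single g]
        · rw [Pi.single_eq_same, one_mul]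
        · intro b _ hb
          rw [Pi.single_eq_of_ne hb, zero_mul]
        · intro h
          exact absurd (Finset.mem_univ _) h
      rw [h1, IsCharacter.inv_eq_conj (IsIrrCharacter.isCharacter χ.2) g]
      ring
    · rw [Pi.zero_apply, mul_zero]
  rw [htr2] at htr
  have hrank : (Cfsg.blockRank p U : ℂ) = (finrank ℂ S : ℂ) := rfl
  rw [hrank, ← htr, ← mul_assoc, mul_inv_cancel₀ hG0, one_mul]

/-- a union of blocks is orthogonal to its complement on the `p`-regular elements -/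
theorem orth_of_blocks [Fintype G] {p : ℕ} [hp : Fact p.Prime] (hM : Cfsg.IsPModular p M)
    (Q : Set (Cfsg.IrrCharacter G) → Prop) (ψ χ : Cfsg.IrrCharacter G)
    (hψ : Q (Cfsg.blockOf M (ψ : G → ℂ))) (hχ : ¬ Q (Cfsg.blockOf M (χ : G → ℂ))) :
    ∑ x : G, (if p ∣ orderOf x then (0 : ℂ) else (ψ : G → ℂ) x * conj ((χ : G → ℂ) x)) = 0 := by
  apply sum_pregular_eq_zero hM.2.1 p hM.2.2 (Cfsg.blockOf M (ψ : G → ℂ)) ⟨ψ, rfl⟩ ψ χ
    (mem_blockOf_self hM.2.1 ψ)
  intro hmem
  apply hχ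
  have : Cfsg.blockOf M (χ : G → ℂ) = Cfsg.blockOf M (ψ : G → ℂ) :=
    (eq_blockOf_of_mem hM.2.1 (Cfsg.blockOf M (ψ : G → ℂ)) ⟨ψ, rfl⟩ χ hmem).symm
  rw [this]
  exact hψ

/-- **additivity of the `p`-regular rank over blocks** -/
theorem blockRank_blocks [Finite G] {p : ℕ} [hp : Fact p.Prime] (hM : Cfsg.IsPModular p M)
    (Q : Set (Cfsg.IrrCharacter G) → Prop) (hQ : ∀ b, Q b → Cfsg.IsPBlock M b) :
    Cfsg.blockRank p {ψ : Cfsg.IrrCharacter G | Q (Cfsg.blockOf M (ψ : G → ℂ))} =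
      ∑ᶠ b ∈ {b : Set (Cfsg.IrrCharacter G) | Q b}, Cfsg.blockRank p b := by
  classical
  haveI : Fintype G := Fintype.ofFinite G
  haveI : Finite (Cfsg.IrrCharacter G) := irr_finite
  have hG0 : (Nat.card G : ℂ) ≠ 0 := by
    have : 0 < Nat.card G := Nat.card_pos
    exact_mod_cast this.ne'
  have hSfin : {b : Set (Cfsg.IrrCharacter G) | Q b}.Finite := Set.toFinite _
  have h1 := card_mul_blockRank_of_orth p {ψ : Cfsg.IrrCharacter G | Q (Cfsg.blockOf M (ψ : G → ℂ))}
    (fun ψ hψ χ hχ => orth_of_blocks hM Q ψ χ hψ hχ)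
  have h2 : ∀ x : G, ∑ᶠ χ ∈ {ψ : Cfsg.IrrCharacter G | Q (Cfsg.blockOf M (ψ : G → ℂ))},
      Cfsg.pRegularPart p (χ : G → ℂ) x * (χ : G → ℂ) x⁻¹ =
      ∑ᶠ b ∈ {b : Set (Cfsg.IrrCharacter G) | Q b}, ∑ᶠ χ ∈ b,
        Cfsg.pRegularPart p (χ : G → ℂ) x * (χ : G → ℂ) x⁻¹ := by
    intro x
    exact finsum_mem_blocks hM.2.1 Q hQ _
  simp_rw [h2] at h1
  rw [← finsum_mem_coe_finset, finsum_mem_comm _ (Finset.finite_toSet _) hSfin] at h1
  have h3 : ∀ b ∈ {b : Set (Cfsg.IrrCharacter G) | Q b},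
      ∑ᶠ x ∈ ((Finset.univ : Finset G) : Set G), ∑ᶠ χ ∈ b,
        Cfsg.pRegularPart p (χ : G → ℂ) x * (χ : G → ℂ) x⁻¹ =
      (Nat.card G : ℂ) * (Cfsg.blockRank p b : ℂ) := by
    intro b hb
    rw [card_mul_blockRank hM.2.1 p hM.2.2 b (hQ b hb), finsum_mem_coe_finset]
  rw [finsum_mem_congr rfl h3, ← mul_finsum_mem] at h1
  have h4 := mul_left_cancel₀ hG0 h1
  rw [← Nat.cast_finsum_mem hSfin] at h4
  exact_mod_cast h4

/-- the number of members of a union of blocks -/
theorem card_blocks [Finite G] (hM : M.IsMaximal)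
    (Q : Set (Cfsg.IrrCharacter G) → Prop) (hQ : ∀ b, Q b → Cfsg.IsPBlock M b) :
    Nat.card {ψ : Cfsg.IrrCharacter G | Q (Cfsg.blockOf M (ψ : G → ℂ))} =
      ∑ᶠ b ∈ {b : Set (Cfsg.IrrCharacter G) | Q b}, Nat.card b := by
  classical
  haveI : Finite (Cfsg.IrrCharacter G) := irr_finite
  have hSfin : {b : Set (Cfsg.IrrCharacter G) | Q b}.Finite := Set.toFinite _
  have h1 := finsum_mem_blocks hM Q hQ (fun _ => (1 : ℂ))
  have h2 : ∀ S : Set (Cfsg.IrrCharacter G), ∑ᶠ ψ ∈ S, (1 : ℂ) = (Nat.card S : ℂ) := by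
    intro S
    rw [finsum_mem_eq_finite_toFinset_sum _ (Set.toFinite S), Finset.sum_const, nsmul_eq_mul,
      mul_one, Nat.card_coe_set_eq, Set.ncard_eq_toFinset_card S (Set.toFinite S)]
  rw [h2] at h1
  simp_rw [h2] at h1
  rw [← Nat.cast_finsum_mem hSfin] at h1
  exact_mod_cast h1

end Cfsg.Agent.Helper6.KR
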