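import Mathlib
import Cfsg.Prelude.Def_Characters
import Cfsg.Agent.Helper6.IrrCrit

/-!
# Irreducible characters of a direct product
-/

set_option autoImplicit false
set_option linter.style.haveILetI false

namespace Cfsg.Agent.Helper6

open Module Representation
open scoped ComplexConjugate

universe u v

variable {G : Type u} [Group G] {H : Type v} [Group H]

theorem classInner_prod [Fintype G] [Fintype H] (φ φ' : G → ℂ) (ψ ψ' : H → ℂ) :
    Cfsg.classInner (fun x : G × H => φ x.1 * ψ x.2) (fun x : G × H => φ' x.1 * ψ' x.2) =
      Cfsg.classInner φ φ' * Cfsg.classInner ψ ψ' := by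
  rw [classInner_def, classInner_def, classInner_def, Fintype.sum_prod_type, Nat.card_prod]
  have : ∀ g : G, ∑ h : H, (φ g * ψ h) * conj (φ' g * ψ' h) =
      (φ g * conj (φ' g)) * ∑ h : H, ψ h * conj (ψ' h) := by
    intro g
    rw [Finset.mul_sum]
    apply Finset.sum_congr rfl
    intro h _
    rw [map_mul]
    ring
  simp_rw [this]
  rw [← Finset.sum_mul]
  push_cast
  rw [mul_inv]
  ring

theorem isIrrCharacter_prod [Finite G] [Finite H] {φ : G → ℂ} {ψ : H → ℂ}
    (hφ : Cfsg.IsIrrCharacter G φ) (hψ : Cfsg.IsIrrCharacter H ψ) :
    Cfsg.IsIrrCharacter (G × H) (fun x : G × H => φ x.1 * ψ x.2) := by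
  classical
  haveI := Fintype.ofFinite G
  haveI := Fintype.ofFinite H
  apply isIrrCharacter_of_classInner_self
  · exact IsCharacter.mul
      (IsCharacter.comp_hom (MonoidHom.fst G H) (IsIrrCharacter.isCharacter hφ))
      (IsCharacter.comp_hom (MonoidHom.snd G H) (IsIrrCharacter.isCharacter hψ))
  · rw [classInner_prod, classInner_irr_self hφ, classInner_irr_self hψ, mul_one]

/-- The irreducible characters of `G × H`. -/
theorem isIrrCharacter_prod_iff [Finite G] [Finite H] (θ : G × H → ℂ) :
    Cfsg.IsIrrCharacter (G × H) θ ↔ ∃ (φ : G → ℂ) (ψ : H → ℂ),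
      Cfsg.IsIrrCharacter G φ ∧ Cfsg.IsIrrCharacter H ψ ∧ θ = fun x => φ x.1 * ψ x.2 := by
  classical
  haveI := Fintype.ofFinite G
  haveI := Fintype.ofFinite H
  constructor
  · intro hθ
    by_contra hcon
    push Not at hcon
    have hθcf := IsCharacter.isClassFunction (IsIrrCharacter.isCharacter hθ)
    have horth : ∀ (φ : G → ℂ) (ψ : H → ℂ), Cfsg.IsIrrCharacter G φ → Cfsg.IsIrrCharacter H ψ →
        Cfsg.classInner θ (fun x : G × H => φ x.1 * ψ x.2) = 0 := by
      intro φ ψ hφ hψ
      exact classInner_irr_ne hθ (isIrrCharacter_prod hφ hψ) (hcon φ ψ hφ hψ)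
    have hG0 : (Nat.card G : ℂ) ≠ 0 := by
      have : 0 < Nat.card G := Nat.card_pos
      exact_mod_cast this.ne'
    have hH0 : (Nat.card H : ℂ) ≠ 0 := by
      have : 0 < Nat.card H := Nat.card_pos
      exact_mod_cast this.ne'
    -- step 1: for each ψ, the partial sums vanish
    have hstep1 : ∀ (ψ : H → ℂ), Cfsg.IsIrrCharacter H ψ → ∀ g : G,
        ∑ h : H, θ (g, h) * conj (ψ h) = 0 := by
      intro ψ hψ
      have hF : (fun g : G => ∑ h : H, θ (g, h) * conj (ψ h)) = 0 := by
        apply eq_zero_of_classInner_irr_eq_zero
        · intro g x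
          apply Finset.sum_congr rfl
          intro h _
          have := hθcf (g, h) (x, 1)
          simp only [Prod.mk_mul_mk, Prod.inv_mk, inv_one, one_mul, mul_one] at this
          rw [this]
        · intro φ hφ
          have h0 := horth φ ψ hφ hψ
          rw [classInner_def, Fintype.sum_prod_type] at h0
          rw [classInner_def]
          have h1 : ∑ g : G, ∑ h : H, θ (g, h) * conj (φ (g, h).1 * ψ (g, h).2) = 0 := by
            rcases mul_eq_zero.mp h0 with h | h
            · exfalso
              rw [Nat.card_prod] at h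
              push_cast at h
              rcases inv_eq_zero.mp h |> mul_eq_zero.mp with h' | h'
              · exact hG0 h'
              · exact hH0 h'
            · exact h
          rw [show ∑ g : G, (∑ h : H, θ (g, h) * conj (ψ h)) * conj (φ g) =
            ∑ g : G, ∑ h : H, θ (g, h) * conj (φ (g, h).1 * ψ (g, h).2) from by
              apply Finset.sum_congr rfl
              intro g _
              rw [Finset.sum_mul]
              apply Finset.sum_congr rfl
              intro h _
              rw [map_mul]
              ring]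
          rw [h1, mul_zero]
      intro g
      exact congrFun hF g
    -- step 2: θ vanishes
    have hzero : θ = 0 := by
      ext ⟨g, h⟩
      have hF : (fun h : H => θ (g, h)) = 0 := by
        apply eq_zero_of_classInner_irr_eq_zero
        · intro h x
          have := hθcf (g, h) (1, x)
          simp only [Prod.mk_mul_mk, Prod.inv_mk, inv_one, one_mul, mul_one] at this
          exact this
        · intro ψ hψ
          rw [classInner_def, hstep1 ψ hψ g, mul_zero]
      exact congrFun hF h
    have h1 := classInner_irr_self hθ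
    rw [hzero, classInner_zero_left] at h1
    exact zero_ne_one h1
  · rintro ⟨φ, ψ, hφ, hψ, rfl⟩
    exact isIrrCharacter_prod hφ hψ

end Cfsg.Agent.Helper6
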