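import Mathlib
import Cfsg.Prelude.Def_Characters
import Cfsg.Prelude.Def_Blocks
import Cfsg.Agent.Helper6.ProdIrr
import Cfsg.Agent.Helper6.Constituent
import Cfsg.Agent.Helper6.DefectClassValues
import Cfsg.Agent.Helper6.DefectZeroBlock
import Cfsg.Agent.Helper6.BlockBasic2
import Cfsg.Agent.Helper6.BlockUnion
import Cfsg.Agent.Helper6.BlockPart
import Cfsg.Agent.Helper6.Linear
import Cfsg.Agent.Helper6.NormalInd2
import Cfsg.Agent.Helper6.Expansion
import Cfsg.Agent.Helper6.IrrBasis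
import Cfsg.Agent.Helper6.PowCongr

/-!
# Linear constituents of the restriction to a `p`-subgroup

If a character `χ` of `G` takes a value outside the local ideal at an element `y` commuting with
a `p`-subgroup `D`, then the restriction of `χ` to `D` has a linear constituent.
-/

namespace Cfsg.Agent.Helper6

open scoped ComplexConjugate

universe u

variable {G : Type u} [Group G] {M : Ideal Cfsg.AlgInt}

/-- The degree of an irreducible character of a `p`-group is `1` or divisible by `p`. -/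
theorem irr_degree_pgroup [Finite G] (p : ℕ) [hp : Fact p.Prime] (hG : IsPGroup p G)
    {φ : G → ℂ} (hφ : Cfsg.IsIrrCharacter G φ) : φ 1 = 1 ∨ p ∣ Cfsg.charDegree φ := by
  obtain ⟨n, hn⟩ := hG.exists_card_eq
  have hdvd := charDegree_dvd_card hφ
  rw [hn] at hdvd
  obtain ⟨j, -, hj⟩ := (Nat.dvd_prime_pow hp.out).mp hdvd
  rcases Nat.eq_zero_or_pos j with h0 | hpos
  · left
    rw [← charDegree_cast_of_isCharacter (IsIrrCharacter.isCharacter hφ), hj, h0, pow_zero,
      Nat.cast_one]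
  · right
    rw [hj]
    exact dvd_pow_self p hpos.ne'

/-- A natural multiple of `p` times an algebraic integer lies in the local ideal. -/
theorem memLocalIdeal_natCast_mul_of_dvd (hM : M.IsMaximal) (p : ℕ)
    (hpM : (p : Cfsg.AlgInt) ∈ M) (n : ℕ) (hn : p ∣ n) (z : ℂ) (hz : IsIntegral ℤ z) :
    Cfsg.MemLocalIdeal M ((n : ℂ) * z) := by
  obtain ⟨k, rfl⟩ := hn
  let a : Cfsg.AlgInt := ⟨z, (mem_integralClosure_iff ℤ ℂ).mpr hz⟩
  have hmem : (p : Cfsg.AlgInt) * ((k : Cfsg.AlgInt) * a) ∈ M := M.mul_mem_right _ hpM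
  have := memLocalIdeal_of_mem hM hmem
  have heq : (((p : Cfsg.AlgInt) * ((k : Cfsg.AlgInt) * a) : Cfsg.AlgInt) : ℂ) =
      ((p * k : ℕ) : ℂ) * z := by
    push_cast
    show (p : ℂ) * ((k : ℂ) * z) = (p : ℂ) * (k : ℂ) * z
    ring
  rwa [heq] at this

/-- If `χ(y)` is not in the local ideal and `y` commutes with the `p`-subgroup `D`, the
restriction of `χ` to `D` has a linear constituent. -/
theorem exists_linear_constituent_of_value [Finite G] (hM : M.IsMaximal) (p : ℕ)
    [hp : Fact p.Prime] (hpM : (p : Cfsg.AlgInt) ∈ M) {χ : G → ℂ} (hχ : Cfsg.IsCharacter G χ)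
    (D : Subgroup G) (hD : IsPGroup p D) (y : G) (hy : ∀ d ∈ D, d * y = y * d)
    (hval : ¬ Cfsg.MemLocalIdeal M (χ y)) :
    ∃ φ : D → ℂ, Cfsg.IsIrrCharacter D φ ∧ φ 1 = 1 ∧
      Cfsg.IsCharacter D ((fun d : D => χ (d : G)) - φ) := by
  classical
  haveI := Fintype.ofFinite G
  set Y : Subgroup G := Subgroup.zpowers y with hY
  have hcomm : ∀ (d : D) (h : Y), Commute (D.subtype d) (Y.subtype h) := by
    intro d h
    obtain ⟨k, hk⟩ := Subgroup.mem_zpowers_iff.mp h.2
    show Commute (d : G) (h : G)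
    rw [← hk]
    exact Commute.zpow_right (hy d d.2) k
  let f : D × Y →* G := MonoidHom.noncommCoprod D.subtype Y.subtype hcomm
  have hf : ∀ x : D × Y, f x = (x.1 : G) * (x.2 : G) := fun x => rfl
  set θ : D × Y → ℂ := fun x => χ (f x) with hθdef
  have hθ : Cfsg.IsCharacter (D × Y) θ := IsCharacter.comp_hom f hχ
  haveI : Finite (Cfsg.IrrCharacter (D × Y)) := irr_finite
  haveI : Fintype (Cfsg.IrrCharacter (D × Y)) := Fintype.ofFinite _
  have hexp := classFunction_expansion θ (IsCharacter.isClassFunction hθ)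
  let y' : Y := ⟨y, Subgroup.mem_zpowers y⟩
  have hval' : χ y = ∑ ξ : Cfsg.IrrCharacter (D × Y),
      Cfsg.classInner θ (ξ : D × Y → ℂ) * (ξ : D × Y → ℂ) (1, y') := by
    have h1 := congrFun hexp (1, y')
    rw [Finset.sum_apply] at h1
    have h2 : θ (1, y') = χ y := by
      show χ (f (1, y')) = χ y
      rw [hf]
      show χ (((1 : D) : G) * y) = χ y
      rw [Subgroup.coe_one, one_mul]
    rw [← h2, h1]
    apply Finset.sum_congr rfl
    intro ξ _
    rfl
  have hYcomm : ∀ a b : Y, a * b = b * a := by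
    intro a b
    obtain ⟨i, hi⟩ := Subgroup.mem_zpowers_iff.mp a.2
    obtain ⟨j, hj⟩ := Subgroup.mem_zpowers_iff.mp b.2
    apply Subtype.ext
    show (a : G) * (b : G) = (b : G) * (a : G)
    rw [← hi, ← hj, ← zpow_add, ← zpow_add, add_comm]
  by_contra hcon
  push Not at hcon
  apply hval
  rw [hval']
  apply MemLocalIdeal.sum hM
  intro ξ _
  obtain ⟨φ, μ, hφ, hμ, hξ⟩ := (isIrrCharacter_prod_iff (ξ : D × Y → ℂ)).mp ξ.2
  obtain ⟨n, hn⟩ := classInner_char_char_nat hθ (IsIrrCharacter.isCharacter ξ.2)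
  by_cases hn0 : n = 0
  · rw [hn, hn0, Nat.cast_zero, zero_mul]
    exact memLocalIdeal_zero hM
  have hμ1 : μ 1 = 1 := (comm_iff_forall_irr_degree_one.mp hYcomm) ⟨μ, hμ⟩
  have hφ1 : φ 1 ≠ 1 := by
    intro h1
    apply hcon φ hφ h1
    have hsub := sub_isCharacter_of_constituent hθ ξ.2 (by
      rw [hn]
      exact_mod_cast hn0)
    have hres := IsCharacter.comp_hom (MonoidHom.inl D Y) hsub
    have heq : (fun d : D => (θ - (ξ : D × Y → ℂ)) (MonoidHom.inl D Y d)) =
        (fun d : D => χ (d : G)) - φ := by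
      funext d
      show θ (d, 1) - (ξ : D × Y → ℂ) (d, 1) = χ (d : G) - φ d
      rw [hξ]
      show χ (f (d, 1)) - φ d * μ 1 = χ (d : G) - φ d
      rw [hμ1, mul_one, hf]
      show χ ((d : G) * ((1 : Y) : G)) - φ d = χ (d : G) - φ d
      rw [Subgroup.coe_one, mul_one]
    rwa [heq] at hres
  have hpdvd : p ∣ Cfsg.charDegree φ := (irr_degree_pgroup p hD hφ).resolve_left hφ1
  rw [hn, hξ]
  show Cfsg.MemLocalIdeal M ((n : ℂ) * (φ 1 * μ y'))
  rw [← charDegree_cast_of_isCharacter (IsIrrCharacter.isCharacter hφ), ← mul_assoc,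
    ← Nat.cast_mul]
  exact memLocalIdeal_natCast_mul_of_dvd hM p hpM _ (Dvd.dvd.mul_left hpdvd n) _
    (Cfsg.Agent.Helper6.IsCharacter.isIntegral_value (IsIrrCharacter.isCharacter hμ) y')

/-- If `ψ = φ + Δ` with `φ`, `Δ` characters and `ψ z = ψ 1 * w` with `‖w‖ = 1`, then
`φ z = φ 1 * w`. -/
theorem constituent_scalar_value [Finite G] {φ Δ : G → ℂ} (hφ : Cfsg.IsCharacter G φ)
    (hΔ : Cfsg.IsCharacter G Δ) (z : G) (w : ℂ) (hw : ‖w‖ = 1)
    (h : φ z + Δ z = (φ 1 + Δ 1) * w) : φ z = φ 1 * w := by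
  obtain ⟨n, hn⟩ := IsCharacter.apply_one hφ
  obtain ⟨m, hm⟩ := IsCharacter.apply_one hΔ
  have h1 := IsCharacter.norm_le hφ z
  have h2 := IsCharacter.norm_le hΔ z
  rw [hn] at h1
  rw [hm] at h2
  simp only [Complex.natCast_re] at h1 h2
  have hww : w * conj w = 1 := by
    rw [Complex.mul_conj, Complex.normSq_eq_norm_sq, hw]
    simp
  set a : ℂ := φ z * conj w with ha
  set b : ℂ := Δ z * conj w with hb
  have hab : a + b = ((n : ℂ) + (m : ℂ)) := by
    rw [ha, hb, ← add_mul, h, hn, hm, mul_assoc, hww, mul_one]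
  have hcw : ‖conj w‖ = 1 := by rw [Complex.norm_conj, hw]
  have hna : ‖a‖ ≤ n := by rw [ha, norm_mul, hcw, mul_one]; exact h1
  have hnb : ‖b‖ ≤ m := by rw [hb, norm_mul, hcw, mul_one]; exact h2
  have hre : a.re + b.re = (n : ℝ) + (m : ℝ) := by
    have := congrArg Complex.re hab
    simpa using this
  have hrea : a.re ≤ n := (Complex.re_le_norm a).trans hna
  have hreb : b.re ≤ m := (Complex.re_le_norm b).trans hnb
  have hrea' : a.re = n := by linarith
  have hsq : ‖a‖ ^ 2 = a.re ^ 2 + a.im ^ 2 := by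
    rw [← Complex.normSq_eq_norm_sq, Complex.normSq_apply]
    ring
  have hn0 : (0 : ℝ) ≤ n := Nat.cast_nonneg n
  have hsq2 : ‖a‖ ^ 2 ≤ (n : ℝ) ^ 2 := by
    have h0 : 0 ≤ ‖a‖ := norm_nonneg a
    nlinarith
  have him : a.im = 0 := by
    rw [hsq, hrea'] at hsq2
    have : a.im ^ 2 ≤ 0 := by linarith
    have h3 : a.im ^ 2 = 0 := le_antisymm this (sq_nonneg _)
    exact pow_eq_zero_iff (two_ne_zero) |>.mp h3
  have haeq : a = (n : ℂ) := by
    apply Complex.ext
    · rw [hrea']; simp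
    · rw [him]; simp
  have : φ z = a * w := by
    rw [ha, mul_assoc, mul_comm (conj w) w, hww, mul_one]
  rw [this, haeq, hn]

end Cfsg.Agent.Helper6
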