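import Mathlib
import Cfsg.Prelude.Def_Characters
import Cfsg.Prelude.Def_Blocks
import Cfsg.Agent.Helper6.Inflation
import Cfsg.Agent.Helper6.MinMax1
import Cfsg.Agent.Helper6.Osima3
import Cfsg.Agent.Helper6.SylowFusion
import Cfsg.Agent.Helper6.PrincipalDefect
import Cfsg.Agent.Helper6.LinConstA
import Cfsg.Agent.Helper6.DefectClass

/-!
# Defect groups of blocks of a quotient group
-/

set_option autoImplicit false
set_option linter.style.haveILetI false

namespace Cfsg.Agent.Helper6

open scoped ComplexConjugate

universe u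

variable {G : Type u} [Group G] {M : Ideal Cfsg.AlgInt}

/-- the preimage of the centralizer of the image of `g` contains the centralizer of `g` -/
theorem centralizer_le_comap_centralizer (N : Subgroup G) [hN : N.Normal] (g : G) :
    Subgroup.centralizer ({g} : Set G) ≤
      (Subgroup.centralizer ({(QuotientGroup.mk g : G ⧸ N)} : Set (G ⧸ N))).comap
        (QuotientGroup.mk' N) := by
  intro x hx
  rw [Subgroup.mem_comap, Subgroup.mem_centralizer_singleton_iff]
  have h := Subgroup.mem_centralizer_singleton_iff.mp hx
  show (QuotientGroup.mk x : G ⧸ N) * QuotientGroup.mk g = QuotientGroup.mk g * QuotientGroup.mk x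
  rw [← QuotientGroup.mk_mul, ← QuotientGroup.mk_mul, h]

/-- the central character of an inflated function is a natural multiple of the central character
in the quotient -/
theorem centralChar_inflate_relIndex [Finite G] (N : Subgroup G) [hN : N.Normal] (χ : G ⧸ N → ℂ) (g : G) :
    Cfsg.centralChar (χ ∘ QuotientGroup.mk) g =
      (((Subgroup.centralizer ({g} : Set G)).relIndex
        ((Subgroup.centralizer ({(QuotientGroup.mk g : G ⧸ N)} : Set (G ⧸ N))).comap
          (QuotientGroup.mk' N)) : ℕ) : ℂ) *
        Cfsg.centralChar χ (QuotientGroup.mk g : G ⧸ N) := by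
  have h1 := Subgroup.relIndex_mul_index (centralizer_le_comap_centralizer N g)
  have h2 : ((Subgroup.centralizer ({(QuotientGroup.mk g : G ⧸ N)} : Set (G ⧸ N))).comap
      (QuotientGroup.mk' N)).index =
      (Subgroup.centralizer ({(QuotientGroup.mk g : G ⧸ N)} : Set (G ⧸ N))).index :=
    Subgroup.index_comap_of_surjective _ (QuotientGroup.mk'_surjective N)
  unfold Cfsg.centralChar
  rw [← h1, h2]
  simp only [Function.comp_apply, QuotientGroup.mk_one]
  push_cast
  ring

/-- a conjugate of a defect group is a defect group -/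
theorem isDefectGroup_conj [Finite G] {p : ℕ} [hp : Fact p.Prime]
    (B : Set (Cfsg.IrrCharacter G)) (D : Subgroup G) (hD : Cfsg.IsDefectGroup p M B D) (x : G) :
    Cfsg.IsDefectGroup p M B (D.map (MulAut.conj x).toMonoidHom) := by
  obtain ⟨g, hg, S, rfl⟩ := hD
  have hle : ((S : Subgroup _).map (Subgroup.centralizer ({g} : Set G)).subtype).map
      (MulAut.conj x).toMonoidHom ≤ Subgroup.centralizer ({x * g * x⁻¹} : Set G) := by
    rintro _ ⟨_, ⟨s, -, rfl⟩, rfl⟩
    have hs := Subgroup.mem_centralizer_singleton_iff.mp s.2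
    rw [Subgroup.mem_centralizer_singleton_iff]
    simp only [MulEquiv.coe_toMonoidHom, MulAut.conj_apply, Subgroup.coe_subtype]
    calc x * (s : G) * x⁻¹ * (x * g * x⁻¹) = x * ((s : G) * g) * x⁻¹ := by group
      _ = x * (g * (s : G)) * x⁻¹ := by rw [hs]
      _ = x * g * x⁻¹ * (x * (s : G) * x⁻¹) := by group
  have hcard : Nat.card (((S : Subgroup _).map (Subgroup.centralizer ({g} : Set G)).subtype).map
      (MulAut.conj x).toMonoidHom) =
      p ^ (Nat.card (Subgroup.centralizer ({x * g * x⁻¹} : Set G))).factorization p := by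
    rw [Subgroup.card_map_of_injective (MulAut.conj x).injective, card_sylow_map,
      card_centralizer_conj]
  obtain ⟨S', hS'⟩ := exists_sylow_map_eq _ _ hle hcard
  exact ⟨x * g * x⁻¹, isDefectClass_conj B g x hg, S', hS'.symm⟩

end Cfsg.Agent.Helper6
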