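import Mathlib
import Cfsg.Agent.Helper6.ColumnOrth

/-!
# Sums of centraliser orders over unions of conjugacy classes; elements inverted by involutions
-/

set_option autoImplicit false
set_option linter.style.haveILetI false
set_option linter.unusedSectionVars false

namespace Cfsg.Agent.Helper6

universe u

variable {G : Type u} [Group G]

theorem card_centralizer_eq_of_conj' [Finite G] {y z : G} (h : IsConj y z) :
    Nat.card (Subgroup.centralizer ({y} : Set G)) =
      Nat.card (Subgroup.centralizer ({z} : Set G)) := by
  have h1 := card_conj_mul_card_centralizer y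
  have h2 := card_conj_mul_card_centralizer z
  have h3 : Nat.card {x : G // IsConj y x} = Nat.card {x : G // IsConj z x} := by
    apply Nat.card_congr
    refine Equiv.subtypeEquivRight ?_
    intro x
    exact ⟨fun hx => h.symm.trans hx, fun hx => h.trans hx⟩
  rw [h3] at h1
  have hpos : 0 < Nat.card {x : G // IsConj z x} := by
    haveI : Nonempty {x : G // IsConj z x} := ⟨⟨z, IsConj.refl z⟩⟩
    exact Nat.card_pos
  exact Nat.eq_of_mul_eq_mul_left hpos (h1.trans h2.symm)

/-- The sum of the centraliser orders over a conjugation-invariant set is the number of its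
classes times the group order. -/
theorem sum_card_centralizer_filter [Fintype G] [DecidableEq G] [Fintype (ConjClasses G)]
    [DecidableEq (ConjClasses G)] (P : G → Prop)
    [DecidablePred P] [DecidablePred (fun C : ConjClasses G => ∃ g, ConjClasses.mk g = C ∧ P g)]
    (hP : ∀ g x : G, P g → P (x * g * x⁻¹)) :
    (∑ g ∈ Finset.univ.filter P, Nat.card (Subgroup.centralizer ({g} : Set G))) =
      (Finset.univ.filter
        (fun C : ConjClasses G => ∃ g, ConjClasses.mk g = C ∧ P g)).card * Fintype.card G := by
  classical
  have hmap : ∀ g ∈ Finset.univ.filter P, ConjClasses.mk g ∈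
      Finset.univ.filter (fun C : ConjClasses G => ∃ g, ConjClasses.mk g = C ∧ P g) := by
    intro g hg
    simp only [Finset.mem_filter, Finset.mem_univ, true_and] at hg ⊢
    exact ⟨g, rfl, hg⟩
  rw [← Finset.sum_fiberwise_of_maps_to hmap]
  have h1 : ∀ C ∈ Finset.univ.filter
      (fun C : ConjClasses G => ∃ g, ConjClasses.mk g = C ∧ P g),
      (∑ g ∈ (Finset.univ.filter P).filter (fun g => ConjClasses.mk g = C),
        Nat.card (Subgroup.centralizer ({g} : Set G))) = Fintype.card G := by
    intro C hC
    simp only [Finset.mem_filter, Finset.mem_univ, true_and] at hC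
    obtain ⟨g₀, rfl, hg₀⟩ := hC
    have h2 : (Finset.univ.filter P).filter (fun g => ConjClasses.mk g = ConjClasses.mk g₀) =
        Finset.univ.filter (fun g => IsConj g₀ g) := by
      ext g
      simp only [Finset.mem_filter, Finset.mem_univ, true_and]
      constructor
      · rintro ⟨-, h⟩
        exact (ConjClasses.mk_eq_mk_iff_isConj.mp h).symm
      · intro h
        refine ⟨?_, ConjClasses.mk_eq_mk_iff_isConj.mpr h.symm⟩
        obtain ⟨c, hc⟩ := isConj_iff.mp h
        rw [← hc]
        exact hP g₀ c hg₀
    rw [h2]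
    have h3 : ∀ g ∈ Finset.univ.filter (fun g => IsConj g₀ g),
        Nat.card (Subgroup.centralizer ({g} : Set G)) =
          Nat.card (Subgroup.centralizer ({g₀} : Set G)) := by
      intro g hg
      simp only [Finset.mem_filter, Finset.mem_univ, true_and] at hg
      exact (card_centralizer_eq_of_conj' hg).symm
    rw [Finset.sum_congr rfl h3, Finset.sum_const, smul_eq_mul]
    have h4 := card_conj_mul_card_centralizer g₀
    rw [Nat.card_eq_fintype_card (α := {x : G // IsConj g₀ x}), Fintype.card_subtype,
      Nat.card_eq_fintype_card (α := G)] at h4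
    exact h4
  rw [Finset.sum_congr rfl h1, Finset.sum_const, smul_eq_mul]

/-- The elements inverting `g` are at most as many as the centraliser of `g`. -/
theorem card_inverting_le [Fintype G] [DecidableEq G] (g : G) :
    (Finset.univ.filter (fun t : G => t * g * t⁻¹ = g⁻¹)).card ≤
      Nat.card (Subgroup.centralizer ({g} : Set G)) := by
  classical
  by_cases hne : (Finset.univ.filter (fun t : G => t * g * t⁻¹ = g⁻¹)).Nonempty
  · obtain ⟨t₀, ht₀⟩ := hne
    simp only [Finset.mem_filter, Finset.mem_univ, true_and] at ht₀
    rw [Nat.card_eq_fintype_card, Fintype.card_subtype]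
    apply Finset.card_le_card_of_injOn (fun t => t₀⁻¹ * t)
    · intro t ht
      simp only [Finset.coe_filter, Finset.mem_univ, true_and, Set.mem_ofPred_eq] at ht ⊢
      rw [Subgroup.mem_centralizer_iff]
      intro h hh
      rw [Set.mem_singleton_iff.mp hh]
      -- g * (t₀⁻¹ * t) = t₀⁻¹ * t * g
      have h1 : t * g = g⁻¹ * t := by
        rw [← ht]
        group
      have h2 : t₀ * g = g⁻¹ * t₀ := by
        rw [← ht₀]
        group
      have h3 : t₀⁻¹ * g⁻¹ = g * t₀⁻¹ := by
        have := congrArg (fun z => t₀⁻¹ * z * t₀⁻¹) h2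
        have e1 : t₀⁻¹ * (t₀ * g) * t₀⁻¹ = g * t₀⁻¹ := by group
        have e2 : t₀⁻¹ * (g⁻¹ * t₀) * t₀⁻¹ = t₀⁻¹ * g⁻¹ := by group
        rw [e1, e2] at this
        exact this.symm
      calc g * (t₀⁻¹ * t) = (g * t₀⁻¹) * t := by group
        _ = (t₀⁻¹ * g⁻¹) * t := by rw [h3]
        _ = t₀⁻¹ * (g⁻¹ * t) := by group
        _ = t₀⁻¹ * (t * g) := by rw [h1]
        _ = t₀⁻¹ * t * g := by group
    · intro t₁ _ t₂ _ h
      exact mul_left_cancel h
  · rw [Finset.not_nonempty_iff_eq_empty.mp hne, Finset.card_empty]
    exact Nat.zero_le _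

end Cfsg.Agent.Helper6
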