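import Mathlib

/-!
# Dixon–Winter: arithmetic and fixed-point counting lemmas
-/

set_option autoImplicit false

namespace Cfsg.Agent.Helper6.Dix

universe u

/-- The conclusion of the Dixon–Winter theorem. -/
def Goal (p n : ℕ) : Prop :=
  ∃ q : ℕ, IsPrimePow q ∧ q ∣ n ∧
    ((q : ℤ) ≡ -1 [ZMOD p] ∨ (q : ℤ) ≡ 0 [ZMOD p] ∨ (q : ℤ) ≡ 1 [ZMOD p])

theorem Goal.of_dvd {p a b : ℕ} (h : Goal p a) (hab : a ∣ b) : Goal p b := by
  obtain ⟨q, hq, hqa, hc⟩ := h
  exact ⟨q, hq, hqa.trans hab, hc⟩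

theorem goal_of_prime_dvd {p n : ℕ} (hp : p.Prime) (h : p ∣ n) : Goal p n := by
  refine ⟨p, hp.isPrimePow, h, Or.inr (Or.inl ?_)⟩
  exact (Int.modEq_zero_iff_dvd).2 dvd_rfl

theorem goal_of_modEq_one {p n q : ℕ} (hq : IsPrimePow q) (hqn : q ∣ n) (h : q ≡ 1 [MOD p]) :
    Goal p n := by
  refine ⟨q, hq, hqn, Or.inr (Or.inr ?_)⟩
  have := (Int.natCast_modEq_iff).2 h
  simpa using this

theorem goal_of_sq_modEq_one {p n d : ℕ} (hp : p.Prime) (hd : IsPrimePow d) (hdn : d ∣ n)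
    (h : d ^ 2 ≡ 1 [MOD p]) : Goal p n := by
  have h1 : ((d : ℤ) ^ 2) ≡ 1 [ZMOD p] := by
    have := (Int.natCast_modEq_iff).2 h
    simpa using this
  have h2 : (p : ℤ) ∣ ((d : ℤ) - 1) * ((d : ℤ) + 1) := by
    have := (Int.modEq_iff_dvd.1 h1.symm)
    have e : ((d : ℤ) - 1) * ((d : ℤ) + 1) = (d : ℤ) ^ 2 - 1 := by ring
    rw [e]; exact this
  have hp' : Prime (p : ℤ) := Nat.prime_iff_prime_int.1 hp
  rcases hp'.dvd_or_dvd h2 with h3 | h3
  · refine ⟨d, hd, hdn, Or.inr (Or.inr ?_)⟩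
    exact (Int.modEq_iff_dvd.2 h3).symm
  · refine ⟨d, hd, hdn, Or.inl ?_⟩
    apply (Int.modEq_iff_dvd.2 _).symm
    have e : (d : ℤ) - (-1) = (d : ℤ) + 1 := by ring
    rw [e]; exact h3

theorem pow_sub_modEq_one {p r k c : ℕ} (hp : p.Prime) (hr : ¬ p ∣ r) (hck : c ≤ k)
    (h : r ^ k ≡ r ^ c [MOD p]) : r ^ (k - c) ≡ 1 [MOD p] := by
  have h1 : r ^ c * r ^ (k - c) ≡ r ^ c * 1 [MOD p] := by
    rw [← pow_add, Nat.add_sub_cancel' hck, mul_one]; exact h
  apply Nat.ModEq.cancel_left_of_coprime _ h1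
  apply Nat.Coprime.pow_right
  exact (Nat.Prime.coprime_iff_not_dvd hp).2 hr

theorem modEq_one_of_mul_modEq {p m z : ℕ} (hp : p.Prime) (hz : ¬ p ∣ z)
    (h : m * z ≡ z [MOD p]) : m ≡ 1 [MOD p] := by
  have h1 : z * m ≡ z * 1 [MOD p] := by rw [mul_one, mul_comm]; exact h
  apply Nat.ModEq.cancel_left_of_coprime _ h1
  exact (Nat.Prime.coprime_iff_not_dvd hp).2 hz

variable {G : Type u} [Group G]

/-- The conjugation action of a subgroup `Q` normalizing `E` on `E`. -/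
@[instance_reducible]
def conjActOn (E Q : Subgroup G) (h : Q ≤ Subgroup.normalizer (E : Set G)) : MulAction Q E where
  smul q e := ⟨q * e * q⁻¹, (Subgroup.mem_normalizer_iff.mp (h q.2) e).mp e.2⟩
  one_smul e := by
    apply Subtype.ext
    show ((1 : Q) : G) * e * ((1 : Q) : G)⁻¹ = e
    simp
  mul_smul a b e := by
    apply Subtype.ext
    show ((a * b : Q) : G) * e * ((a * b : Q) : G)⁻¹ = (a : G) * ((b : G) * e * (b : G)⁻¹) * (a : G)⁻¹
    simp [mul_assoc]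

/-- Orbit counting: a `p`-subgroup `Q` normalizing `E` has `|E| ≡ |C_E(Q)|` modulo `p`. -/
theorem card_modEq_card_centralizer [Finite G] {p : ℕ} [hp : Fact p.Prime] (E Q : Subgroup G)
    (h : Q ≤ Subgroup.normalizer (E : Set G)) (hQ : IsPGroup p Q) :
    Nat.card E ≡ Nat.card (E ⊓ Subgroup.centralizer (Q : Set G) : Subgroup G) [MOD p] := by
  let _inst := conjActOn E Q h
  have h1 := hQ.card_modEq_card_fixedPoints (α := E)
  have h2 : Nat.card (MulAction.fixedPoints Q E) =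
      Nat.card (E ⊓ Subgroup.centralizer (Q : Set G) : Subgroup G) := by
    apply Nat.card_congr
    refine ⟨fun e => ⟨(e.1 : G), ⟨e.1.2, ?_⟩⟩, fun x => ⟨⟨(x : G), x.2.1⟩, ?_⟩, ?_, ?_⟩
    · show (e.1 : G) ∈ Subgroup.centralizer (Q : Set G)
      rw [Subgroup.mem_centralizer_iff]
      intro q hq
      have := e.2 ⟨q, hq⟩
      have h3 : q * (e.1 : G) * q⁻¹ = (e.1 : G) := congrArg Subtype.val this
      calc q * (e.1 : G) = q * (e.1 : G) * q⁻¹ * q := by group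
        _ = (e.1 : G) * q := by rw [h3]
    · intro q
      apply Subtype.ext
      show (q : G) * (x : G) * (q : G)⁻¹ = (x : G)
      have := Subgroup.mem_centralizer_iff.1 x.2.2 q q.2
      rw [this]; group
    · intro e; rfl
    · intro x; rfl
  rw [← h2]
  exact h1

end Cfsg.Agent.Helper6.Dix
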