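import Mathlib
import Cfsg.Prelude.Def_Characters
import Cfsg.Agent.Helper6.Extraspecial
import Cfsg.Agent.Helper6.Expansion
import Cfsg.Agent.Helper6.Induced
import Cfsg.Agent.Helper6.Degrees
import Cfsg.Agent.Helper6.IrrBasis
import Cfsg.Agent.Helper6.BlockKernel
import Cfsg.Agent.Helper6.DixA

/-!
# Dixon–Winter: characters of subgroups with central commutators
-/

set_option autoImplicit false
set_option linter.style.haveILetI false

namespace Cfsg.Agent.Helper6.Dix

open Module Representation ComplexConjugate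

universe u v

variable {X : Type u} [Group X]

/-- multiplication by a central element multiplies the character value by a scalar -/
theorem rep_char_central_mul [Finite X] {V : Type v} [AddCommGroup V] [Module ℂ V]
    [FiniteDimensional ℂ V] (ρ : Representation ℂ X V) [ρ.IsIrreducible] (c : X)
    (hc : c ∈ Subgroup.center X) :
    ∃ ω : ℂ, ρ.character c = ω * ρ.character 1 ∧ ∀ g : X, ρ.character (c * g) = ω * ρ.character g := by
  obtain ⟨ω, hω⟩ := exists_scalar_of_mem_center ρ c hc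
  refine ⟨ω, ?_, ?_⟩
  · unfold Representation.character
    rw [hω, map_one, map_smul, smul_eq_mul]
    rfl
  · intro g
    unfold Representation.character
    rw [map_mul, hω]
    change LinearMap.trace ℂ V ((ω • (1 : Module.End ℂ V)) * ρ g) = _
    rw [smul_mul_assoc, one_mul, map_smul, smul_eq_mul]

theorem char_central_mul [Finite X] {χ : X → ℂ} (hχ : Cfsg.IsIrrCharacter X χ) (c : X)
    (hc : c ∈ Subgroup.center X) (g : X) : χ (c * g) * χ 1 = χ c * χ g := by
  obtain ⟨n, ρ, hirr, rfl⟩ := hχ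
  haveI := hirr
  obtain ⟨ω, h1, h2⟩ := rep_char_central_mul ρ c hc
  rw [h2 g, h1]; ring

theorem char_vanish_of_central_commutator [Finite X] {χ : X → ℂ} (hχ : Cfsg.IsIrrCharacter X χ)
    (g k : X) (hc : k * g * k⁻¹ * g⁻¹ ∈ Subgroup.center X)
    (hne : χ (k * g * k⁻¹ * g⁻¹) ≠ χ 1) : χ g = 0 := by
  have h1 := char_central_mul hχ _ hc g
  have h2 : k * g * k⁻¹ * g⁻¹ * g = k * g * k⁻¹ := by group
  have h3 : χ (k * g * k⁻¹) = χ g := IsCharacter.isClassFunction (IsIrrCharacter.isCharacter hχ) g k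
  rw [h2, h3] at h1
  have h4 : (χ 1 - χ (k * g * k⁻¹ * g⁻¹)) * χ g = 0 := by
    rw [sub_mul, ← h1]; ring
  rcases mul_eq_zero.1 h4 with h5 | h5
  · exact absurd (sub_eq_zero.1 h5).symm hne
  · exact h5

theorem norm_char_central [Finite X] {χ : X → ℂ} (hχ : Cfsg.IsIrrCharacter X χ) (c : X)
    (hc : c ∈ Subgroup.center X) : ‖χ c‖ = ‖χ 1‖ := by
  obtain ⟨n, ρ, hirr, rfl⟩ := hχ
  haveI := hirr
  have := (norm_char_eq_iff ρ c).mpr (exists_scalar_of_mem_center ρ c hc)
  rw [this, Representation.char_one, Complex.norm_natCast]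

/-- The degree formula for an irreducible character vanishing off the centre. -/
theorem degree_sq_of_central_commutators [Fintype X] (ψ : X → ℂ) (hψ : Cfsg.IsIrrCharacter X ψ)
    (h : ∀ g : X, g ∉ Subgroup.center X →
      ∃ k : X, k * g * k⁻¹ * g⁻¹ ∈ Subgroup.center X ∧ ψ (k * g * k⁻¹ * g⁻¹) ≠ ψ 1) :
    ∃ d : ℕ, ψ 1 = d ∧ d ^ 2 * Nat.card (Subgroup.center X) = Nat.card X := by
  classical
  obtain ⟨d, -, hd⟩ := IsIrrCharacter.apply_one_pos hψ
  refine ⟨d, hd, ?_⟩
  have h1 := sum_norm_sq_irr hψ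
  have h2 : ∑ g : X, ‖ψ g‖ ^ 2 =
      ∑ g ∈ Finset.univ.filter (fun g : X => g ∈ Subgroup.center X), ((d : ℝ)) ^ 2 := by
    rw [Finset.sum_filter]
    apply Finset.sum_congr rfl
    intro g _
    split_ifs with hg
    · rw [norm_char_central hψ g hg, hd, Complex.norm_natCast]
    · obtain ⟨k, hk1, hk2⟩ := h g hg
      rw [char_vanish_of_central_commutator hψ g k hk1 hk2]
      simp
  rw [h2, Finset.sum_const, nsmul_eq_mul] at h1
  have h3 : (Finset.univ.filter (fun g : X => g ∈ Subgroup.center X)).card =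
      Nat.card (Subgroup.center X) := by
    rw [Nat.card_eq_fintype_card, Fintype.card_subtype]
  rw [h3] at h1
  have h4 : Nat.card (Subgroup.center X) * d ^ 2 = Nat.card X := by exact_mod_cast h1
  rw [mul_comm]; exact h4

variable {G : Type u} [Group G]

/-- A constituent of the restriction of a faithful character has kernel meeting the centre of the
big group trivially. -/
theorem ker_constituent_central [Fintype G] {χ : G → ℂ} (hχ : Cfsg.IsIrrCharacter G χ)
    (E : Subgroup G) [Fintype E] {ψ : E → ℂ} (hψ : Cfsg.IsIrrCharacter E ψ)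
    (hc : Cfsg.classInner (fun e : E => χ e) ψ ≠ 0) (z : E)
    (hz : (z : G) ∈ Subgroup.center G) (hψz : ψ z = ψ 1) : χ z = χ 1 := by
  unfold Cfsg.classInner at hc
  have hS : (∑ g : E, χ g * conj (ψ g)) ≠ 0 := by
    intro h0
    rw [h0, mul_zero] at hc
    exact hc rfl
  have h1 : ∑ g : E, χ g * conj (ψ g) = ∑ g : E, χ ((z * g : E) : G) * conj (ψ (z * g)) :=
    (Equiv.sum_comp (Equiv.mulLeft z) (fun g : E => χ g * conj (ψ g))).symm
  have h2 : ∀ g : E, χ ((z * g : E) : G) * conj (ψ (z * g)) * χ 1 =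
      χ z * (χ g * conj (ψ g)) := by
    intro g
    have e1 := char_central_mul hχ (z : G) hz (g : G)
    have e2 := (IsIrrCharacter.mul_ker hψ hψz g).2
    rw [e2]
    have : ((z * g : E) : G) = (z : G) * (g : G) := rfl
    rw [this]
    calc χ ((z : G) * (g : G)) * conj (ψ g) * χ 1 = (χ ((z : G) * (g : G)) * χ 1) * conj (ψ g) := by
          ring
      _ = χ z * (χ g * conj (ψ g)) := by rw [e1]; ring
  have h3 : (∑ g : E, χ g * conj (ψ g)) * χ 1 = χ z * ∑ g : E, χ g * conj (ψ g) := by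
    conv_lhs => rw [h1]
    rw [Finset.sum_mul, Finset.mul_sum]
    exact Finset.sum_congr rfl (fun g _ => h2 g)
  have h4 : (χ 1 - χ z) * ∑ g : E, χ g * conj (ψ g) = 0 := by
    rw [sub_mul, ← h3]; ring
  rcases mul_eq_zero.1 h4 with h5 | h5
  · exact (sub_eq_zero.1 h5).symm
  · exact absurd h5 hS

/-- The key degree statement: a subgroup `E` all of whose commutators are central in `G` has
`|E : Z(E)| = d²` with `d` dividing the degree of any faithful irreducible character of `G`. -/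
theorem exists_degree_sq [Fintype G] {χ : G → ℂ} (hχ : Cfsg.IsIrrCharacter G χ)
    (hfaith : ∀ g : G, χ g = χ 1 → g = 1) (E : Subgroup G)
    (hE : ∀ a ∈ E, ∀ b ∈ E, a * b * a⁻¹ * b⁻¹ ∈ Subgroup.center G) (n : ℕ) (hn : χ 1 = n) :
    ∃ d : ℕ, d ∣ n ∧ d ^ 2 * Nat.card (Subgroup.center E) = Nat.card E := by
  classical
  haveI : Fintype E := Fintype.ofFinite _
  haveI : Finite (Cfsg.IrrCharacter E) := irr_finite
  haveI : Fintype (Cfsg.IrrCharacter E) := Fintype.ofFinite _
  have hχc := IsIrrCharacter.isCharacter hχ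
  have hres : Cfsg.IsCharacter E (fun a : E => χ a) := IsCharacter.restrict E hχc
  have key : ∀ ψ : E → ℂ, Cfsg.IsIrrCharacter E ψ →
      Cfsg.classInner (fun e : E => χ e) ψ ≠ 0 →
      ∃ d : ℕ, ψ 1 = d ∧ d ^ 2 * Nat.card (Subgroup.center E) = Nat.card E := by
    intro ψ hψ hc
    apply degree_sq_of_central_commutators ψ hψ
    intro g hg
    rw [Subgroup.mem_center_iff] at hg
    push Not at hg
    obtain ⟨k, hk⟩ := hg
    have hcG : ((k * g * k⁻¹ * g⁻¹ : E) : G) ∈ Subgroup.center G := hE k k.2 g g.2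
    refine ⟨k, ?_, ?_⟩
    · rw [Subgroup.mem_center_iff]
      intro x
      apply Subtype.ext
      have := Subgroup.mem_center_iff.1 hcG (x : G)
      exact this
    · intro h1
      have h2 := ker_constituent_central hχ E hψ hc _ hcG h1
      have h3 := hfaith _ h2
      have h4 : k * g * k⁻¹ * g⁻¹ = 1 := Subtype.ext h3
      apply hk
      have : k * g = (k * g * k⁻¹ * g⁻¹) * (g * k) := by group
      rw [this, h4, one_mul]
  have hne : (fun a : E => χ a) ≠ 0 := by
    intro h0
    have := congrFun h0 1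
    exact IsIrrCharacter.apply_one_ne_zero hχ this
  obtain ⟨ψ₀, hψ₀, hc₀⟩ := exists_irr_constituent hres hne
  obtain ⟨d, hd, hdsq⟩ := key ψ₀ hψ₀ hc₀
  refine ⟨d, ?_, hdsq⟩
  have hcpos : 0 < Nat.card (Subgroup.center E) := Nat.card_pos
  have huniq : ∀ ψ : Cfsg.IrrCharacter E, Cfsg.classInner (fun e : E => χ e) (ψ : E → ℂ) ≠ 0 →
      (ψ : E → ℂ) 1 = d := by
    intro ψ hc
    obtain ⟨d', hd', hdsq'⟩ := key ψ ψ.2 hc
    have : d' ^ 2 = d ^ 2 := by
      apply Nat.eq_of_mul_eq_mul_right hcpos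
      rw [hdsq', hdsq]
    rw [hd', Nat.pow_left_injective (two_ne_zero) this]
  have hexp := classFunction_expansion (fun e : E => χ e) (IsCharacter.isClassFunction hres)
  have hcoef : ∀ ψ : Cfsg.IrrCharacter E, ∃ m : ℕ,
      Cfsg.classInner (fun e : E => χ e) (ψ : E → ℂ) = m :=
    fun ψ => classInner_char_char_nat hres (IsIrrCharacter.isCharacter ψ.2)
  choose m hm using hcoef
  have h1 := congrFun hexp 1
  simp only [Finset.sum_apply, Pi.smul_apply, smul_eq_mul] at h1
  have h2 : ∀ ψ : Cfsg.IrrCharacter E,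
      Cfsg.classInner (fun e : E => χ e) (ψ : E → ℂ) * (ψ : E → ℂ) 1 = ((m ψ * d : ℕ) : ℂ) := by
    intro ψ
    by_cases hc : Cfsg.classInner (fun e : E => χ e) (ψ : E → ℂ) = 0
    · have : m ψ = 0 := by
        have := hm ψ
        rw [hc] at this
        exact_mod_cast this.symm
      rw [hc, this]; simp
    · rw [huniq ψ hc, hm ψ]; push_cast; ring
  rw [Finset.sum_congr rfl (fun ψ _ => h2 ψ)] at h1
  have h3 : (n : ℂ) = ((∑ ψ : Cfsg.IrrCharacter E, m ψ * d : ℕ) : ℂ) := by
    rw [← hn]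
    have : χ ((1 : E) : G) = χ 1 := rfl
    rw [← this, h1]
    push_cast; rfl
  have h4 : n = ∑ ψ : Cfsg.IrrCharacter E, m ψ * d := by exact_mod_cast h3
  rw [h4, ← Finset.sum_mul]
  exact dvd_mul_left d _

end Cfsg.Agent.Helper6.Dix
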