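import Mathlib
import Cfsg.Prelude.Def_Characters
import Cfsg.Agent.Helper6.CliffordCorr

/-!
# Fully ramified characters
-/

set_option autoImplicit false
set_option linter.style.haveILetI false

namespace Cfsg.Agent.Helper6

open Module Representation
open scoped ComplexConjugate

universe u v

variable {G : Type u} [Group G]

/-- `[χ_N, χ_N] = |G : N|` iff `χ` vanishes off `N`. -/
theorem vanish_off_iff_classInner_restrict [Fintype G] (N : Subgroup G) [Fintype N] (χ : G → ℂ)
    (hχ : Cfsg.IsIrrCharacter G χ) :
    (∀ g : G, g ∉ N → χ g = 0) ↔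
      Cfsg.classInner (fun n : N => χ n) (fun n : N => χ n) = (N.index : ℂ) := by
  classical
  have hG0 : (Nat.card G : ℂ) ≠ 0 := by
    have : 0 < Nat.card G := Nat.card_pos
    exact_mod_cast this.ne'
  have hN0 : (Nat.card N : ℂ) ≠ 0 := by
    have : 0 < Nat.card N := Nat.card_pos
    exact_mod_cast this.ne'
  have h1 := classInner_irr_self hχ
  rw [classInner_def] at h1
  have hGsum : ∑ g : G, χ g * conj (χ g) = (Nat.card G : ℂ) := by
    have := congrArg (fun z => (Nat.card G : ℂ) * z) h1
    simp only [mul_one] at this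
    rw [← this, ← mul_assoc, mul_inv_cancel₀ hG0, one_mul]
  have hNsum : ∑ n : N, χ n * conj (χ n) =
      ∑ g : G, Cfsg.extendByZero N (fun n : N => χ n) g * conj (χ g) :=
    (sum_extendByZero_mul N (fun n : N => χ n) (fun g => conj (χ g))).symm
  have hsplit : ∑ g : G, χ g * conj (χ g) =
      ∑ g : G, Cfsg.extendByZero N (fun n : N => χ n) g * conj (χ g) +
        ∑ g : G, (if g ∈ N then 0 else χ g * conj (χ g)) := by
    rw [← Finset.sum_add_distrib]
    apply Finset.sum_congr rfl
    intro g _
    by_cases hg : g ∈ N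
    · rw [extendByZero_mem _ _ hg, if_pos hg, add_zero]
    · rw [extendByZero_not_mem _ _ hg, if_neg hg, zero_mul, zero_add]
  have hkey : Cfsg.classInner (fun n : N => χ n) (fun n : N => χ n) = (N.index : ℂ) ↔
      ∑ g : G, (if g ∈ N then 0 else χ g * conj (χ g)) = 0 := by
    rw [classInner_def, hNsum]
    have hidx : (Nat.card G : ℂ) = (N.index : ℂ) * (Nat.card N : ℂ) := by
      rw [← N.index_mul_card]
      push_cast
      rfl
    rw [hGsum] at hsplit
    constructor
    · intro h
      have h2 : ∑ g : G, Cfsg.extendByZero N (fun n : N => χ n) g * conj (χ g) =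
          (Nat.card N : ℂ) * (N.index : ℂ) := by
        rw [← h, ← mul_assoc, mul_inv_cancel₀ hN0, one_mul]
      rw [h2, hidx] at hsplit
      have : ∑ g : G, (if g ∈ N then 0 else χ g * conj (χ g)) =
          (N.index : ℂ) * (Nat.card N : ℂ) - (Nat.card N : ℂ) * (N.index : ℂ) := by
        rw [hsplit]
        ring
      rw [this]
      ring
    · intro h
      rw [h, add_zero] at hsplit
      rw [← hsplit, hidx]
      field_simp
  rw [hkey]
  constructor
  · intro h
    apply Finset.sum_eq_zero
    intro g _
    split_ifs with hg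
    · rfl
    · rw [h g hg, zero_mul]
  · intro h g hg
    have hre : ∑ g : G, (if g ∈ N then (0 : ℝ) else Complex.normSq (χ g)) = 0 := by
      have : ((∑ g : G, (if g ∈ N then (0 : ℝ) else Complex.normSq (χ g)) : ℝ) : ℂ) = 0 := by
        rw [← h]
        push_cast
        apply Finset.sum_congr rfl
        intro g _
        split_ifs
        · rfl
        · rw [Complex.mul_conj]
      exact_mod_cast this
    have hz := (Finset.sum_eq_zero_iff_of_nonneg (fun g _ => by
      split_ifs
      · exact le_refl _
      · exact Complex.normSq_nonneg _)).mp hre g (Finset.mem_univ g)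
    rw [if_neg hg] at hz
    exact Complex.normSq_eq_zero.mp hz

/-- The restriction to `N` of a function induced from an invariant function. -/
theorem indFun_restrict_of_invariant [Fintype G] (N : Subgroup G) [hN : N.Normal] (ϑ : N → ℂ)
    (hinv : ∀ g : G, conjFun N ϑ g = ϑ) :
    (fun n : N => Cfsg.indFun N ϑ n) = (N.index : ℂ) • ϑ := by
  funext n
  rw [indFun_normal_apply]
  simp_rw [hinv]
  rw [Finset.sum_const, Finset.card_univ, nsmul_eq_mul, ← Nat.card_eq_fintype_card,
    ← N.index_mul_card, Pi.smul_apply, smul_eq_mul]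
  have hN0 : (Nat.card N : ℂ) ≠ 0 := by
    have : 0 < Nat.card N := Nat.card_pos
    exact_mod_cast this.ne'
  push_cast
  field_simp

/-- Clifford's theorem for an invariant constituent. -/
theorem restrict_eq_smul_of_invariant [Fintype G] (N : Subgroup G) [Fintype N] [hN : N.Normal]
    (χ : G → ℂ) (hχ : Cfsg.IsIrrCharacter G χ) (ϑ : N → ℂ) (hϑ : Cfsg.IsIrrCharacter N ϑ)
    (hne : Cfsg.classInner (fun n : N => χ n) ϑ ≠ 0) (hinv : ∀ g : G, conjFun N ϑ g = ϑ) :
    (fun n : N => χ n) = Cfsg.classInner (fun n : N => χ n) ϑ • ϑ := by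
  have hcl := clifford N χ hχ ϑ hϑ hne
  have horbit : {ψ : N → ℂ | ∃ g : G, ψ = conjFun N ϑ g} = {ϑ} := by
    ext ψ
    simp only [Set.mem_ofPred_eq, Set.mem_singleton_iff]
    constructor
    · rintro ⟨g, rfl⟩
      exact hinv g
    · intro h
      exact ⟨1, by rw [h, hinv]⟩
  rw [horbit, finsum_mem_singleton] at hcl
  exact hcl

end Cfsg.Agent.Helper6
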