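import Mathlib
import Cfsg.Prelude.Def_Characters
import Cfsg.Agent.Helper6.Commutators
import Cfsg.Agent.Helper6.AbelianInertia
import Cfsg.Agent.Helper6.NormalInd2
import Cfsg.Agent.Helper6.Expansion
import Cfsg.Agent.Helper6.WeakOrth
import Cfsg.Agent.Helper6.NormTwo
import Cfsg.Agent.Helper6.IrrBasis
import Cfsg.Agent.Helper6.IrrDegree
import Cfsg.Agent.Helper6.FullyRamified

/-!
# Characters lying over an invariant character of a normal subgroup

Projection onto the characters over `θ`, the "second orthogonality relation over `θ`", and the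
consequence for fully ramified characters: no self-centralizing cyclic subgroup of `G / N`.
-/

set_option autoImplicit false
set_option linter.style.haveILetI false

namespace Cfsg.Agent.Helper6

open Module Representation
open scoped ComplexConjugate

universe u v

variable {G : Type u} [Group G]

/-- Schur: the `θ`-weighted sum of `ρ` over a normal subgroup is a scalar when `θ` is
`G`-invariant. -/
theorem sum_smul_rep_normal [Fintype G] (N : Subgroup G) [hN : N.Normal] [Fintype N]
    (θ : N → ℂ) (hinv : ∀ x : G, conjFun N θ x = θ)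
    {V : Type v} [AddCommGroup V] [Module ℂ V] [FiniteDimensional ℂ V]
    (ρ : Representation ℂ G V) [hirr : ρ.IsIrreducible] :
    ∑ z : N, conj (θ z) • ρ (z : G) =
      ((∑ z : N, conj (θ z) * ρ.character (z : G)) / (finrank ℂ V : ℂ)) •
        (LinearMap.id : V →ₗ[ℂ] V) := by
  classical
  haveI : Nontrivial V := irr_nontrivial ρ
  have hd : (finrank ℂ V : ℂ) ≠ 0 := by
    have : finrank ℂ V ≠ 0 := Module.finrank_pos.ne'
    exact_mod_cast this
  have hcomm : ∀ h : G, (∑ z : N, conj (θ z) • ρ (z : G)) ∘ₗ ρ h =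
      ρ h ∘ₗ (∑ z : N, conj (θ z) • ρ (z : G)) := by
    intro h
    change (∑ z : N, conj (θ z) • ρ (z : G)) * ρ h = ρ h * (∑ z : N, conj (θ z) • ρ (z : G))
    rw [Finset.sum_mul, Finset.mul_sum]
    symm
    apply Fintype.sum_equiv (MulAut.conjNormal h : N ≃* N).toEquiv
    intro z
    have h1 : θ ((MulAut.conjNormal h : N ≃* N) z) = θ z := congrFun (hinv h) z
    have h2 : (((MulAut.conjNormal h : N ≃* N) z : N) : G) = h * z * h⁻¹ :=
      MulAut.conjNormal_apply h z
    simp only [MulEquiv.toEquiv_eq_coe, MulEquiv.coe_toEquiv]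
    rw [h1, h2, smul_mul_assoc, mul_smul_comm, ← map_mul, ← map_mul]
    congr 2
    group
  obtain ⟨c, hc⟩ := exists_scalar_of_commute ρ _ hcomm
  have htr := congrArg (LinearMap.trace ℂ V) hc
  rw [map_sum, map_smul, LinearMap.trace_id, smul_eq_mul] at htr
  have h1 : ∑ z : N, (LinearMap.trace ℂ V) (conj (θ z) • ρ (z : G)) =
      ∑ z : N, conj (θ z) * ρ.character (z : G) := by
    apply Finset.sum_congr rfl
    intro z _
    rw [map_smul, smul_eq_mul]
    rfl
  rw [h1] at htr
  rw [hc]
  congr 1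
  rw [htr]
  field_simp

/-- Translating an irreducible character by a normal subgroup against an invariant `θ`. -/
theorem sum_conj_mul_shift [Fintype G] (N : Subgroup G) [hN : N.Normal] [Fintype N]
    (θ : N → ℂ) (hinv : ∀ x : G, conjFun N θ x = θ)
    {χ : G → ℂ} (hχ : Cfsg.IsIrrCharacter G χ) (h : G) :
    ∑ z : N, conj (θ z) * χ (h * z) = (∑ z : N, conj (θ z) * χ (z : G)) * χ h / χ 1 := by
  obtain ⟨n, ρ, hirr, rfl⟩ := hχ
  haveI := hirr
  have hs := sum_smul_rep_normal N θ hinv ρ
  have h1 : ∑ z : N, conj (θ z) * ρ.character (h * z) =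
      LinearMap.trace ℂ _ (ρ h * ∑ z : N, conj (θ z) • ρ (z : G)) := by
    rw [Finset.mul_sum, map_sum]
    apply Finset.sum_congr rfl
    intro z _
    rw [mul_smul_comm, map_smul, smul_eq_mul, ← map_mul]
    rfl
  rw [h1, hs, Representation.char_one, mul_smul_comm, map_smul, smul_eq_mul]
  have h2 : ρ h * (LinearMap.id : (Fin n → ℂ) →ₗ[ℂ] (Fin n → ℂ)) = ρ h := mul_one _
  rw [h2]
  unfold Representation.character
  ring

theorem sum_conj_mul_restrict [Fintype G] (N : Subgroup G) [Fintype N] (θ : N → ℂ) (χ : G → ℂ) :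
    ∑ z : N, conj (θ z) * χ (z : G) =
      (Nat.card N : ℂ) * Cfsg.classInner (fun n : N => χ n) θ := by
  have hN0 : (Nat.card N : ℂ) ≠ 0 := by
    have : 0 < Nat.card N := Nat.card_pos
    exact_mod_cast this.ne'
  rw [classInner_def, ← mul_assoc, mul_inv_cancel₀ hN0, one_mul]
  apply Finset.sum_congr rfl
  intro z _
  rw [mul_comm]

/-- If `χ` does not lie over the invariant `θ`, the `θ`-projection of `χ` vanishes. -/
theorem sum_conj_mul_shift_of_not_over [Fintype G] (N : Subgroup G) [hN : N.Normal] [Fintype N]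
    (θ : N → ℂ) (hinv : ∀ x : G, conjFun N θ x = θ)
    {χ : G → ℂ} (hχ : Cfsg.IsIrrCharacter G χ)
    (h0 : Cfsg.classInner (fun n : N => χ n) θ = 0) (h : G) :
    ∑ z : N, conj (θ z) * χ (h * z) = 0 := by
  rw [sum_conj_mul_shift N θ hinv hχ h, sum_conj_mul_restrict, h0, mul_zero, zero_mul, zero_div]

/-- If `χ` lies over the invariant irreducible `θ`, the `θ`-projection of `χ` is `χ`. -/
theorem sum_conj_mul_shift_of_over [Fintype G] (N : Subgroup G) [hN : N.Normal] [Fintype N]
    (θ : N → ℂ) (hθ : Cfsg.IsIrrCharacter N θ) (hinv : ∀ x : G, conjFun N θ x = θ)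
    {χ : G → ℂ} (hχ : Cfsg.IsIrrCharacter G χ)
    (h0 : Cfsg.classInner (fun n : N => χ n) θ ≠ 0) (h : G) :
    ∑ z : N, conj (θ z) * χ (h * z) = (Nat.card N : ℂ) / θ 1 * χ h := by
  rw [sum_conj_mul_shift N θ hinv hχ h, sum_conj_mul_restrict]
  have hcl := clifford_invariant_top N θ hθ hinv χ hχ h0
  have h1 : χ 1 = Cfsg.classInner (fun n : N => χ n) θ * θ 1 := by
    have := congrFun hcl 1
    simpa using this
  have hθ1 : θ 1 ≠ 0 := IsIrrCharacter.apply_one_ne_zero hθ
  rw [h1]
  field_simp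

/-- Second orthogonality relation, counting form. -/
theorem sum_irr_mul_conj_eq_count [Fintype G] [Fintype (Cfsg.IrrCharacter G)] [DecidableEq G]
    (a b : G) :
    ∑ χ : Cfsg.IrrCharacter G, (χ : G → ℂ) b * conj ((χ : G → ℂ) a) =
      ∑ x : G, if x * a * x⁻¹ = b then (1 : ℂ) else 0 := by
  obtain ⟨f, hf⟩ : ∃ f : G → ℂ, f = fun y => ∑ x : G, if x * a * x⁻¹ = y then (1 : ℂ) else 0 :=
    ⟨_, rfl⟩
  have hcf : Cfsg.IsClassFunction G f := by
    intro y h
    rw [hf]
    simp only
    apply Fintype.sum_equiv (Equiv.mulLeft h⁻¹)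
    intro x
    simp only [Equiv.coe_mulLeft]
    have : (h⁻¹ * x * a * (h⁻¹ * x)⁻¹ = y) ↔ (x * a * x⁻¹ = h * y * h⁻¹) := by
      constructor
      · intro h1
        rw [← h1]
        group
      · intro h1
        have : h⁻¹ * x * a * (h⁻¹ * x)⁻¹ = h⁻¹ * (x * a * x⁻¹) * h := by group
        rw [this, h1]
        group
    simp only [this]
  have hG0 : (Nat.card G : ℂ) ≠ 0 := by
    have : 0 < Nat.card G := Nat.card_pos
    exact_mod_cast this.ne'
  have hin : ∀ χ : Cfsg.IrrCharacter G, Cfsg.classInner f (χ : G → ℂ) =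
      conj ((χ : G → ℂ) a) := by
    intro χ
    rw [classInner_def, hf]
    simp only [Finset.sum_mul]
    rw [Finset.sum_comm]
    have h1 : ∀ x : G, ∑ y : G, (if x * a * x⁻¹ = y then (1 : ℂ) else 0) * conj ((χ : G → ℂ) y) =
        conj ((χ : G → ℂ) a) := by
      intro x
      rw [Finset.sum_eq_single (x * a * x⁻¹)]
      · rw [if_pos rfl, one_mul]
        have := IsCharacter.isClassFunction (IsIrrCharacter.isCharacter χ.2) a x
        rw [this]
      · intro y _ hy
        rw [if_neg (Ne.symm hy), zero_mul]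
      · intro h
        exact absurd (Finset.mem_univ _) h
    simp_rw [h1]
    rw [Finset.sum_const, Finset.card_univ, nsmul_eq_mul, ← Nat.card_eq_fintype_card,
      ← mul_assoc, inv_mul_cancel₀ hG0, one_mul]
  have hexp := congrFun (classFunction_expansion f hcf) b
  rw [Finset.sum_apply] at hexp
  simp only [Pi.smul_apply, smul_eq_mul, hin] at hexp
  rw [hf] at hexp
  simp only at hexp
  rw [hexp]
  apply Finset.sum_congr rfl
  intro χ _
  rw [mul_comm]

/-- Second orthogonality relation over an invariant irreducible character `θ` of a normal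
subgroup. -/
theorem sum_over_mul_conj [Fintype G] [Fintype (Cfsg.IrrCharacter G)]
    (N : Subgroup G) [hN : N.Normal] [Fintype N]
    (θ : N → ℂ) (hθ : Cfsg.IsIrrCharacter N θ) (hinv : ∀ x : G, conjFun N θ x = θ) (g : G) :
    ∑ χ : Cfsg.IrrCharacter G, (if Cfsg.classInner (fun n : N => (χ : G → ℂ) n) θ ≠ 0
        then (χ : G → ℂ) g * conj ((χ : G → ℂ) g) else 0) =
      θ 1 / (Nat.card N : ℂ) *
        ∑ x : G, conj (Cfsg.extendByZero N θ (g⁻¹ * x⁻¹ * g * x)) := by
  classical
  have hN0 : (Nat.card N : ℂ) ≠ 0 := by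
    have : 0 < Nat.card N := Nat.card_pos
    exact_mod_cast this.ne'
  have hθ1 : θ 1 ≠ 0 := IsIrrCharacter.apply_one_ne_zero hθ
  have h1 : ∀ χ : Cfsg.IrrCharacter G,
      (if Cfsg.classInner (fun n : N => (χ : G → ℂ) n) θ ≠ 0
        then (χ : G → ℂ) g * conj ((χ : G → ℂ) g) else 0) =
      θ 1 / (Nat.card N : ℂ) * ∑ z : N, conj (θ z) *
        ((χ : G → ℂ) (g * z) * conj ((χ : G → ℂ) g)) := by
    intro χ
    have h2 : ∑ z : N, conj (θ z) * ((χ : G → ℂ) (g * z) * conj ((χ : G → ℂ) g)) =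
        (∑ z : N, conj (θ z) * (χ : G → ℂ) (g * z)) * conj ((χ : G → ℂ) g) := by
      rw [Finset.sum_mul]
      apply Finset.sum_congr rfl
      intro z _
      ring
    rw [h2]
    by_cases h0 : Cfsg.classInner (fun n : N => (χ : G → ℂ) n) θ = 0
    · rw [if_neg (not_not.mpr h0), sum_conj_mul_shift_of_not_over N θ hinv χ.2 h0, zero_mul,
        mul_zero]
    · rw [if_pos h0, sum_conj_mul_shift_of_over N θ hθ hinv χ.2 h0]
      field_simp
  simp_rw [h1]
  rw [← Finset.mul_sum]
  congr 1
  rw [Finset.sum_comm]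
  simp_rw [← Finset.mul_sum]
  have h3 : ∀ z : N, ∑ χ : Cfsg.IrrCharacter G,
      (χ : G → ℂ) (g * z) * conj ((χ : G → ℂ) g) =
      ∑ x : G, if x * g * x⁻¹ = g * z then (1 : ℂ) else 0 := fun z =>
    sum_irr_mul_conj_eq_count g (g * z)
  simp_rw [h3, Finset.mul_sum]
  rw [Finset.sum_comm]
  rw [← Equiv.sum_comp (Equiv.inv G)]
  apply Finset.sum_congr rfl
  intro x _
  simp only [Equiv.inv_apply, inv_inv]
  by_cases hw : g⁻¹ * x⁻¹ * g * x ∈ N
  · rw [extendByZero_mem N θ hw, Finset.sum_eq_single ⟨g⁻¹ * x⁻¹ * g * x, hw⟩]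
    · rw [if_pos, mul_one]
      simp only
      group
    · intro z _ hz
      rw [if_neg, mul_zero]
      intro h
      apply hz
      apply Subtype.ext
      simp only
      have h' : (z : G) = g⁻¹ * (x⁻¹ * g * x) := by rw [h]; group
      rw [h']
      group
    · intro h
      exact absurd (Finset.mem_univ _) h
  · rw [extendByZero_not_mem N θ hw, map_zero]
    apply Finset.sum_eq_zero
    intro z _
    rw [if_neg, mul_zero]
    intro h
    apply hw
    have : g⁻¹ * x⁻¹ * g * x = (z : G) := by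
      have h' : (z : G) = g⁻¹ * (x⁻¹ * g * x) := by rw [h]; group
      rw [h']
      group
    rw [this]
    exact z.2

theorem apply_zpow_mul_of_apply_mul {F : G → ℂ} {g : G} (hFg : ∀ x, F (g * x) = F x) (k : ℤ)
    (x : G) : F (g ^ k * x) = F x := by
  have hnat : ∀ n : ℕ, ∀ y : G, F (g ^ n * y) = F y := by
    intro n
    induction n with
    | zero => intro y; simp
    | succ n ih =>
      intro y
      rw [pow_succ', mul_assoc, hFg, ih]
  obtain ⟨n, rfl | rfl⟩ := Int.eq_nat_or_neg k
  · rw [zpow_natCast]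
    exact hnat n x
  · rw [zpow_neg, zpow_natCast]
    have := hnat n ((g ^ n)⁻¹ * x)
    rw [mul_inv_cancel_left] at this
    exact this.symm

/-- Summing over `G` a function supported on the preimage of the cyclic subgroup `⟨gN⟩` and
invariant under left translation by `g`. -/
theorem sum_eq_card_zpowers_mul_sum [Fintype G] (N : Subgroup G) [hN : N.Normal] [Fintype N]
    (g : G) (F : G → ℂ)
    (hF0 : ∀ x : G, (x : G ⧸ N) ∉ Subgroup.zpowers (g : G ⧸ N) → F x = 0)
    (hFg : ∀ x, F (g * x) = F x) :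
    ∑ x : G, F x = (Nat.card (Subgroup.zpowers (g : G ⧸ N)) : ℂ) * ∑ b : N, F b := by
  classical
  haveI : Fintype (G ⧸ N) := Fintype.ofFinite _
  rw [← Finset.sum_fiberwise (s := Finset.univ) (g := fun x : G => (x : G ⧸ N)) (f := F)]
  have h1 : ∀ q : G ⧸ N, ∑ x ∈ Finset.univ.filter (fun x : G => (x : G ⧸ N) = q), F x =
      if q ∈ Subgroup.zpowers (g : G ⧸ N) then ∑ b : N, F b else 0 := by
    intro q
    by_cases hq : q ∈ Subgroup.zpowers (g : G ⧸ N)
    · rw [if_pos hq]
      obtain ⟨k, rfl⟩ := Subgroup.mem_zpowers_iff.mp hq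
      rw [← Finset.sum_subtype (Finset.univ.filter (fun y : G => y ∈ N))
        (by intro y; simp) F]
      symm
      apply Finset.sum_bij' (fun y _ => g ^ k * y) (fun x _ => (g ^ k)⁻¹ * x)
      · intro y hy
        simp only [Finset.mem_filter, Finset.mem_univ, true_and] at hy ⊢
        rw [← QuotientGroup.mk_zpow]
        symm
        rw [QuotientGroup.eq]
        simpa using hy
      · intro x hx
        simp only [Finset.mem_filter, Finset.mem_univ, true_and] at hx ⊢
        rw [← QuotientGroup.mk_zpow] at hx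
        exact QuotientGroup.eq.mp hx.symm
      · intro y _
        simp
      · intro x _
        simp
      · intro y _
        exact (apply_zpow_mul_of_apply_mul hFg k y).symm
    · rw [if_neg hq]
      apply Finset.sum_eq_zero
      intro x hx
      simp only [Finset.mem_filter, Finset.mem_univ, true_and] at hx
      apply hF0
      rw [hx]
      exact hq
  simp_rw [h1]
  rw [Finset.sum_ite, Finset.sum_const_zero, add_zero, Finset.sum_const, nsmul_eq_mul]
  congr 1
  rw [Nat.card_eq_fintype_card, Fintype.card_subtype]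

/-- The double sum of an invariant irreducible `θ` over the commutators `[gz, b]`. -/
theorem sum_sum_extendByZero_comm [Fintype G] (N : Subgroup G) [hN : N.Normal] [Fintype N]
    (θ : N → ℂ) (hθ : Cfsg.IsIrrCharacter N θ) (hinv : ∀ x : G, conjFun N θ x = θ) (g : G) :
    ∑ b : N, ∑ z : N, Cfsg.extendByZero N θ ((g * z)⁻¹ * (b : G)⁻¹ * (g * z) * b) =
      (Nat.card N : ℂ) ^ 2 / θ 1 := by
  have hN0 : (Nat.card N : ℂ) ≠ 0 := by
    have : 0 < Nat.card N := Nat.card_pos
    exact_mod_cast this.ne'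
  have hθ1 : θ 1 ≠ 0 := IsIrrCharacter.apply_one_ne_zero hθ
  have h1 : ∀ b : N, ∑ z : N, Cfsg.extendByZero N θ ((g * z)⁻¹ * (b : G)⁻¹ * (g * z) * b) =
      (Nat.card N : ℂ) * (conj (θ b) * θ b) / θ 1 := by
    intro b
    have ha : g⁻¹ * (b : G)⁻¹ * g ∈ N := by
      have := hN.conj_mem _ (N.inv_mem b.2) g⁻¹
      simpa using this
    have h2 : ∀ z : N, Cfsg.extendByZero N θ ((g * z)⁻¹ * (b : G)⁻¹ * (g * z) * b) =
        θ (z⁻¹ * ⟨g⁻¹ * (b : G)⁻¹ * g, ha⟩ * z⁻¹⁻¹ * b) := by
      intro z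
      have : (g * z)⁻¹ * (b : G)⁻¹ * (g * z) * b =
          ((z⁻¹ * ⟨g⁻¹ * (b : G)⁻¹ * g, ha⟩ * z⁻¹⁻¹ * b : N) : G) := by
        simp only [Subgroup.coe_mul, Subgroup.coe_inv]
        group
      rw [this, extendByZero_coe]
    simp_rw [h2]
    have h2' : ∑ z : N, θ (z⁻¹ * ⟨g⁻¹ * (b : G)⁻¹ * g, ha⟩ * z⁻¹⁻¹ * b) =
        ∑ t : N, θ (t * ⟨g⁻¹ * (b : G)⁻¹ * g, ha⟩ * t⁻¹ * b) :=
      Equiv.sum_comp (Equiv.inv N) (fun t : N => θ (t * ⟨g⁻¹ * (b : G)⁻¹ * g, ha⟩ * t⁻¹ * b))
    rw [h2', sum_conj_mul_irr hθ]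
    have h3 : θ ⟨g⁻¹ * (b : G)⁻¹ * g, ha⟩ = conj (θ b) := by
      have h4 := congrFun (hinv g⁻¹) b⁻¹
      have h5 : conjFun N θ g⁻¹ b⁻¹ = θ ⟨g⁻¹ * (b : G)⁻¹ * g, ha⟩ := by
        unfold conjFun
        congr 1
        apply Subtype.ext
        simp
      rw [← h5, h4]
      exact IsCharacter.inv_eq_conj (IsIrrCharacter.isCharacter hθ) b
    rw [h3]
    ring
  simp_rw [h1]
  rw [← Finset.sum_div, ← Finset.mul_sum]
  have h6 : ∑ b : N, conj (θ b) * θ b = (Nat.card N : ℂ) := by
    have := classInner_irr_self hθ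
    rw [classInner_def] at this
    have h7 : ∑ b : N, conj (θ b) * θ b = ∑ b : N, θ b * conj (θ b) := by
      apply Finset.sum_congr rfl
      intro b _
      rw [mul_comm]
    rw [h7]
    field_simp at this
    rw [this]
  rw [h6]
  ring

/-- **Fully ramified characters and self-centralizing cyclic subgroups.** If `χ` is fully
ramified over `N` and the image of `g` in `G / N` generates a subgroup that is its own
centralizer, then `g ∈ N`. -/
theorem mem_of_fullyRamified_of_centralizer_zpowers [Fintype G] (N : Subgroup G) [hN : N.Normal]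
    [Fintype N] (θ : N → ℂ) (hθ : Cfsg.IsIrrCharacter N θ) (χ : G → ℂ)
    (hχ : Cfsg.IsIrrCharacter G χ) (e : ℕ) (he : e ^ 2 = N.index)
    (hres : ∀ z : N, χ z = (e : ℂ) * θ z) (g : G)
    (hg : Subgroup.centralizer ((Subgroup.zpowers (g : G ⧸ N) : Subgroup (G ⧸ N)) : Set (G ⧸ N)) =
      Subgroup.zpowers (g : G ⧸ N)) : g ∈ N := by
  classical
  haveI : Finite (Cfsg.IrrCharacter G) := irr_finite
  haveI : Fintype (Cfsg.IrrCharacter G) := Fintype.ofFinite _
  have hG0 : (Nat.card G : ℂ) ≠ 0 := by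
    have : 0 < Nat.card G := Nat.card_pos
    exact_mod_cast this.ne'
  have hN0 : (Nat.card N : ℂ) ≠ 0 := by
    have : 0 < Nat.card N := Nat.card_pos
    exact_mod_cast this.ne'
  have hθ1 : θ 1 ≠ 0 := IsIrrCharacter.apply_one_ne_zero hθ
  have hidx : N.index ≠ 0 := Subgroup.index_ne_zero_of_finite
  have he0 : (e : ℂ) ≠ 0 := by
    have : e ≠ 0 := by
      rintro rfl
      apply hidx
      rw [← he]
      norm_num
    exact_mod_cast this
  -- θ is invariant
  have hinv : ∀ x : G, conjFun N θ x = θ := by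
    intro x
    funext z
    have h1 : χ ((⟨x * z * x⁻¹, hN.conj_mem z z.2 x⟩ : N) : G) = χ z :=
      IsCharacter.isClassFunction (IsIrrCharacter.isCharacter hχ) z x
    rw [hres, hres] at h1
    exact mul_left_cancel₀ he0 h1
  -- χ vanishes off N
  have hrestr : (fun n : N => χ n) = (e : ℂ) • θ := by
    funext z
    rw [hres]
    rfl
  have hvan : ∀ y : G, y ∉ N → χ y = 0 := by
    rw [vanish_off_iff_classInner_restrict N χ hχ, hrestr, classInner_smul_left,
      classInner_smul_right, classInner_irr_self hθ, ← he]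
    simp only [Complex.conj_natCast, mul_one]
    push_cast
    ring
  -- only χ lies over θ
  have huniq : ∀ ψ : Cfsg.IrrCharacter G,
      Cfsg.classInner (fun n : N => (ψ : G → ℂ) n) θ ≠ 0 → (ψ : G → ℂ) = χ := by
    intro ψ hψ
    by_contra hne
    have h0 := classInner_irr_ne ψ.2 hχ hne
    rw [classInner_def] at h0
    have h1 : ∑ y : G, (ψ : G → ℂ) y * conj (χ y) =
        ∑ z : N, (ψ : G → ℂ) z * conj (χ z) := by
      rw [← Finset.sum_subtype (Finset.univ.filter (fun y : G => y ∈ N)) (by intro y; simp)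
        (fun y => (ψ : G → ℂ) y * conj (χ y))]
      rw [Finset.sum_filter]
      apply Finset.sum_congr rfl
      intro y _
      split_ifs with hy
      · rfl
      · rw [hvan y hy, map_zero, mul_zero]
    rw [h1] at h0
    apply hψ
    rw [classInner_def]
    have h2 : ∑ z : N, (ψ : G → ℂ) z * conj (χ z) =
        (e : ℂ) * ∑ z : N, (ψ : G → ℂ) z * conj (θ z) := by
      rw [Finset.mul_sum]
      apply Finset.sum_congr rfl
      intro z _
      rw [hres, map_mul, Complex.conj_natCast]
      ring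
    rw [h2] at h0
    have h3 : ∑ z : N, (ψ : G → ℂ) z * conj (θ z) = 0 := by
      rcases mul_eq_zero.mp h0 with h | h
      · exact absurd (inv_eq_zero.mp h) hG0
      · rcases mul_eq_zero.mp h with h | h
        · exact absurd h he0
        · exact h
    rw [h3, mul_zero]
  by_contra hgN
  -- the sums over the commutators vanish
  have hzero : ∀ z : N, ∑ b : N,
      conj (Cfsg.extendByZero N θ ((g * z)⁻¹ * (b : G)⁻¹ * (g * z) * b)) = 0 := by
    intro z
    have hgz : g * z ∉ N := by
      intro h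
      apply hgN
      have := N.mul_mem h (N.inv_mem z.2)
      simpa using this
    have hmk : ((g * z : G) : G ⧸ N) = (g : G ⧸ N) := by
      rw [QuotientGroup.eq]
      simp
    have h1 := sum_over_mul_conj N θ hθ hinv (g * z)
    have h2 : ∑ ψ : Cfsg.IrrCharacter G,
        (if Cfsg.classInner (fun n : N => (ψ : G → ℂ) n) θ ≠ 0
          then (ψ : G → ℂ) (g * z) * conj ((ψ : G → ℂ) (g * z)) else 0) = 0 := by
      apply Finset.sum_eq_zero
      intro ψ _
      split_ifs with hψ
      · rw [huniq ψ hψ, hvan _ hgz, zero_mul]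
      · rfl
    rw [h2] at h1
    have h3 : ∑ x : G, conj (Cfsg.extendByZero N θ ((g * z)⁻¹ * x⁻¹ * (g * z) * x)) = 0 := by
      rcases mul_eq_zero.mp h1.symm with h | h
      · exact absurd h (div_ne_zero hθ1 hN0)
      · exact h
    have h4 := sum_eq_card_zpowers_mul_sum N (g * z)
      (fun x => conj (Cfsg.extendByZero N θ ((g * z)⁻¹ * x⁻¹ * (g * z) * x))) ?_ ?_
    · rw [h3] at h4
      rcases mul_eq_zero.mp h4.symm with h | h
      · exfalso
        have : 0 < Nat.card (Subgroup.zpowers (((g * z : G) : G ⧸ N))) := Nat.card_pos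
        have h' : (Nat.card (Subgroup.zpowers (((g * z : G) : G ⧸ N))) : ℂ) ≠ 0 := by
          exact_mod_cast this.ne'
        exact h' h
      · exact h
    · intro x hx
      by_cases hw : (g * z)⁻¹ * x⁻¹ * (g * z) * x ∈ N
      · exfalso
        apply hx
        rw [hmk, ← hg, Subgroup.mem_centralizer_iff]
        intro y hy
        obtain ⟨k, rfl⟩ := Subgroup.mem_zpowers_iff.mp hy
        have hc : (x : G ⧸ N) * (g : G ⧸ N) = (g : G ⧸ N) * (x : G ⧸ N) := by
          rw [← hmk, ← QuotientGroup.mk_mul, ← QuotientGroup.mk_mul, QuotientGroup.eq]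
          have : (x * (g * z))⁻¹ * (g * z * x) = (g * z)⁻¹ * x⁻¹ * (g * z) * x := by group
          rw [this]
          exact hw
        exact ((Commute.zpow_left (show Commute (g : G ⧸ N) (x : G ⧸ N) from hc.symm) k).eq)
      · rw [extendByZero_not_mem N θ hw, map_zero]
    · intro x
      congr 2
      group
  have hsum : ∑ z : N, ∑ b : N,
      conj (Cfsg.extendByZero N θ ((g * z)⁻¹ * (b : G)⁻¹ * (g * z) * b)) = 0 :=
    Finset.sum_eq_zero (fun z _ => hzero z)
  rw [Finset.sum_comm] at hsum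
  simp_rw [← map_sum] at hsum
  rw [sum_sum_extendByZero_comm N θ hθ hinv g, map_eq_zero] at hsum
  have : (Nat.card N : ℂ) ^ 2 / θ 1 ≠ 0 := div_ne_zero (pow_ne_zero 2 hN0) hθ1
  exact this hsum

end Cfsg.Agent.Helper6
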