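import Mathlib
import Cfsg.Prelude.Def_Characters
import Cfsg.Prelude.Def_Blocks
import Cfsg.Agent.Helper6.InflationBlocks
import Cfsg.Agent.Helper6.DefectClass
import Cfsg.Agent.Helper1.Coprime

/-!
# Blocks of `G ⧸ D'` for a normal `p`-subgroup `D`
-/

set_option autoImplicit false
set_option linter.style.haveILetI false

namespace Cfsg.Agent.Helper6

open scoped ComplexConjugate

universe u

/-- in a finite `p`-group, a subgroup generating the group together with the commutator subgroup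
is the whole group -/
theorem eq_top_of_sup_commutator_eq_top {T : Type*} [Group T] [Finite T] {p : ℕ}
    [hp : Fact p.Prime] (hT : IsPGroup p T) (H : Subgroup T) (h : H ⊔ commutator T = ⊤) :
    H = ⊤ := by
  by_contra hne
  obtain ⟨K, hK, hHK⟩ := (eq_top_or_exists_le_coatom H).resolve_left hne
  haveI : Group.IsNilpotent T := hT.isNilpotent
  haveI hKn : K.Normal :=
    Subgroup.NormalizerCondition.normal_of_coatom K Group.normalizerCondition_of_isNilpotent hK
  have hcomm : IsMulCommutative (T ⧸ K) := by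
    haveI : Nontrivial (T ⧸ K) := QuotientGroup.nontrivial_iff.mpr hK.1
    have hQ : IsPGroup p (T ⧸ K) := hT.to_quotient K
    have hZ := hQ.bot_lt_center
    obtain ⟨Z, hZdef⟩ : ∃ Z : Subgroup T,
        Z = (Subgroup.center (T ⧸ K)).comap (QuotientGroup.mk' K) := ⟨_, rfl⟩
    have hKZ : K ≤ Z := by
      intro k hk
      rw [hZdef, Subgroup.mem_comap]
      have : (QuotientGroup.mk' K) k = 1 := (QuotientGroup.eq_one_iff k).mpr hk
      rw [this]
      exact Subgroup.one_mem _
    have hZtop : Z = ⊤ := by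
      by_contra hZne
      have hZK : Z = K := by
        by_contra h'
        exact hZne (hK.2 Z (lt_of_le_of_ne hKZ (Ne.symm h')))
      have : Subgroup.center (T ⧸ K) = ⊥ := by
        rw [← Subgroup.map_comap_eq_self_of_surjective (QuotientGroup.mk'_surjective K)
          (Subgroup.center (T ⧸ K)), ← hZdef, hZK, QuotientGroup.map_mk'_self]
      exact (ne_of_gt hZ) this
    refine ⟨⟨fun a b => ?_⟩⟩
    obtain ⟨a', rfl⟩ := QuotientGroup.mk_surjective a
    have hmem : (a' : T) ∈ Z := by rw [hZtop]; trivial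
    rw [hZdef, Subgroup.mem_comap] at hmem
    exact (Subgroup.mem_center_iff.mp hmem b).symm
  have hle := Subgroup.Normal.quotient_commutative_iff_commutator_le.mp hcomm
  have : H ⊔ commutator T ≤ K := sup_le hHK hle
  rw [h] at this
  exact hK.1 (top_le_iff.mp this)

variable {G : Type u} [Group G] {M : Ideal Cfsg.AlgInt}

/-- **Burnside**: a `p`-regular element acting trivially on `D ⧸ D'` centralizes the normal
`p`-subgroup `D` -/
theorem mem_centralizer_of_commutator_mem [Finite G] {p : ℕ} [hp : Fact p.Prime]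
    (D : Subgroup G) [hDn : D.Normal] (hD : IsPGroup p D) (g : G) (hg : ¬ p ∣ orderOf g)
    (h : ∀ u ∈ D, g * u * g⁻¹ * u⁻¹ ∈ ⁅D, D⁆) : g ∈ Subgroup.centralizer (D : Set G) := by
  haveI hD'n : (⁅D, D⁆ : Subgroup G).Normal := Subgroup.commutator_normal D D
  set A := Subgroup.zpowers g with hA
  have hAN : A ≤ Subgroup.normalizer (D : Set G) := by
    rw [Subgroup.normalizer_eq_top]
    exact le_top
  have hcop : (Nat.card A).Coprime (Nat.card D) := by
    rw [hA, Nat.card_zpowers]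
    obtain ⟨k, hk⟩ := IsPGroup.iff_card.mp hD
    rw [hk]
    exact (Nat.Coprime.pow_left k ((Nat.Prime.coprime_iff_not_dvd hp.1).mpr hg)).symm
  have hsolv : Group.IsSolvable A ∨ Group.IsSolvable D := by
    right
    haveI := hD.isNilpotent
    infer_instance
  have hsup := Helper1.coprime_commutator_sup_centralizer A D hAN hcop hsolv
  -- `[D, A] ≤ D'`
  obtain ⟨S, hS⟩ : ∃ S : Subgroup G, S = (Subgroup.centralizer
      ((D.map (QuotientGroup.mk' ⁅D, D⁆) : Subgroup (G ⧸ ⁅D, D⁆)) : Set (G ⧸ ⁅D, D⁆))).comap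
        (QuotientGroup.mk' ⁅D, D⁆) := ⟨_, rfl⟩
  have hgS : g ∈ S := by
    rw [hS, Subgroup.mem_comap, Subgroup.mem_centralizer_iff]
    rintro _ ⟨u, hu, rfl⟩
    have h1 := h u hu
    have h2 : (QuotientGroup.mk (g * u * g⁻¹ * u⁻¹) : G ⧸ ⁅D, D⁆) = 1 :=
      (QuotientGroup.eq_one_iff _).mpr h1
    show (QuotientGroup.mk u : G ⧸ ⁅D, D⁆) * QuotientGroup.mk g =
      QuotientGroup.mk g * QuotientGroup.mk u
    rw [QuotientGroup.mk_mul, QuotientGroup.mk_mul, QuotientGroup.mk_mul,
      QuotientGroup.mk_inv, QuotientGroup.mk_inv] at h2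
    calc (QuotientGroup.mk u : G ⧸ ⁅D, D⁆) * QuotientGroup.mk g
        = ((QuotientGroup.mk g : G ⧸ ⁅D, D⁆) * QuotientGroup.mk u *
          (QuotientGroup.mk g)⁻¹ * (QuotientGroup.mk u)⁻¹)⁻¹ *
            (QuotientGroup.mk g * QuotientGroup.mk u) := by group
      _ = QuotientGroup.mk g * QuotientGroup.mk u := by rw [h2, inv_one, one_mul]
  have hAS : A ≤ S := by
    rw [hA, Subgroup.zpowers_le]
    exact hgS
  have hcomm : ⁅D, A⁆ ≤ ⁅D, D⁆ := by
    rw [Subgroup.commutator_le]
    intro u hu a ha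
    have haS := hAS ha
    rw [hS, Subgroup.mem_comap, Subgroup.mem_centralizer_iff] at haS
    have h1 := haS _ (Subgroup.mem_map_of_mem _ hu)
    rw [← QuotientGroup.eq_one_iff, commutatorElement_def]
    have h1' : (QuotientGroup.mk u : G ⧸ ⁅D, D⁆) * QuotientGroup.mk a =
      QuotientGroup.mk a * QuotientGroup.mk u := h1
    rw [QuotientGroup.mk_mul, QuotientGroup.mk_mul, QuotientGroup.mk_mul, h1',
      QuotientGroup.mk_inv, QuotientGroup.mk_inv]
    group
  -- Frattini argument inside `D`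
  have hsup2 : ⁅D, D⁆ ⊔ (D ⊓ Subgroup.centralizer (A : Set G)) = D := by
    apply le_antisymm
    · exact sup_le (Subgroup.commutator_le_left D D) inf_le_left
    · calc D = ⁅D, A⁆ ⊔ (D ⊓ Subgroup.centralizer (A : Set G)) := hsup.symm
        _ ≤ ⁅D, D⁆ ⊔ (D ⊓ Subgroup.centralizer (A : Set G)) := sup_le_sup_right hcomm _
  have htop : (D ⊓ Subgroup.centralizer (A : Set G)).subgroupOf D = ⊤ := by
    apply eq_top_of_sup_commutator_eq_top hD
    apply Subgroup.map_injective D.subtype_injective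
    rw [Subgroup.map_sup, Subgroup.map_subgroupOf_eq_of_le inf_le_left,
      Subgroup.map_subtype_commutator, sup_comm, hsup2, ← MonoidHom.range_eq_map,
      Subgroup.range_subtype]
  rw [Subgroup.mem_centralizer_iff]
  intro u hu
  have h1 : (⟨u, hu⟩ : D) ∈ (D ⊓ Subgroup.centralizer (A : Set G)).subgroupOf D := by
    rw [htop]; trivial
  rw [Subgroup.mem_subgroupOf] at h1
  have h2 := Subgroup.mem_centralizer_iff.mp h1.2 g (Subgroup.mem_zpowers g)
  exact h2.symm

/-- **every block contains a character with a given normal `p`-subgroup in its kernel** -/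
theorem exists_mem_block_kernel_general [Finite G] {p : ℕ} [hp : Fact p.Prime]
    (hM : Cfsg.IsPModular p M) (P : Subgroup G) [hPn : P.Normal] (hP : IsPGroup p P)
    (B : Set (Cfsg.IrrCharacter G)) (hB : Cfsg.IsPBlock M B) :
    ∃ θ ∈ B, ∀ n ∈ P, (θ : G → ℂ) n = (θ : G → ℂ) 1 := by
  classical
  haveI := Fintype.ofFinite G
  by_contra hcon
  push Not at hcon
  obtain ⟨A, hA⟩ : ∃ A : Set (Cfsg.IrrCharacter G),
      A = {χ : Cfsg.IrrCharacter G | ∀ n ∈ P, (χ : G → ℂ) n = (χ : G → ℂ) 1} := ⟨_, rfl⟩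
  have hAB : A ∩ B = ∅ := by
    ext θ
    simp only [Set.mem_inter_iff, Set.mem_empty_iff_false, iff_false]
    rintro ⟨h1, h2⟩
    rw [hA] at h1
    obtain ⟨n, hn, hne⟩ := hcon θ h2
    exact hne (h1 n hn)
  obtain ⟨g, hgdc⟩ := exists_defectClass hM.2.1 B hB
  obtain ⟨χ₀, hχ₀⟩ := hB
  have hB' : Cfsg.IsPBlock M B := ⟨χ₀, hχ₀⟩
  have hχ₀B : χ₀ ∈ B := by rw [hχ₀]; exact mem_blockOf_self hM.2.1 χ₀
  have hg : Cfsg.blockCoeff B g ≠ 0 := by
    intro h0
    apply hgdc.2.1
    rw [h0]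
    exact memLocalIdeal_zero hM.2.1
  have hgc : g ∈ Subgroup.centralizer (P : Set G) := by
    by_contra hnc
    exact hgdc.2.2 χ₀ hχ₀B (centralChar_memLocalIdeal_of_not_mem_centralizer hM P hP χ₀ g hnc)
  have hgreg : ¬ p ∣ orderOf g := by
    intro hdiv
    exact hg (blockCoeff_eq_zero_of_singular hM.2.1 p hM.2.2 B hB' g hdiv)
  have h0 : Cfsg.blockCoeff (A ∩ B) g = 0 := by
    rw [hAB]
    unfold Cfsg.blockCoeff
    rw [finsum_mem_empty, mul_zero]
  rw [blockCoeff_inter] at h0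
  have hterm : ∀ t : G, t ≠ 1 → Cfsg.blockCoeff A t * Cfsg.blockCoeff B (g * t⁻¹) = 0 := by
    intro t ht
    rw [hA, blockCoeff_kernelSet]
    by_cases htP : t ∈ P
    · rw [if_pos htP]
      have hsing : p ∣ orderOf (g * t⁻¹) := by
        by_contra hns
        apply ht
        have hcomm : Commute g t⁻¹ := by
          have := Subgroup.mem_centralizer_iff.mp hgc t⁻¹ (P.inv_mem htP)
          exact this.symm
        have hpow : (g * t⁻¹) ^ orderOf g = t⁻¹ ^ orderOf g := by
          rw [hcomm.mul_pow, pow_orderOf_eq_one, one_mul]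
        obtain ⟨j, hj⟩ := hP ⟨t, htP⟩
        have hj' : t ^ p ^ j = 1 := by
          have := congrArg Subtype.val hj
          simpa using this
        have d2 : orderOf (t⁻¹ ^ orderOf g) ∣ p ^ j := by
          apply orderOf_dvd_of_pow_eq_one
          rw [← pow_mul, mul_comm, pow_mul, inv_pow, hj', inv_one, one_pow]
        have d1 : orderOf (t⁻¹ ^ orderOf g) ∣ orderOf (g * t⁻¹) := by
          rw [← hpow]
          exact orderOf_pow_dvd _
        have hcop : Nat.Coprime (orderOf (g * t⁻¹)) (p ^ j) :=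
          (Nat.Coprime.pow_left j ((Nat.Prime.coprime_iff_not_dvd hp.1).mpr hns)).symm
        have h1 : t⁻¹ ^ orderOf g = 1 :=
          orderOf_eq_one_iff.mp (Nat.eq_one_of_dvd_coprimes hcop d1 d2)
        have d3 : orderOf t ∣ orderOf g := by
          apply orderOf_dvd_of_pow_eq_one
          rw [inv_pow, inv_eq_one] at h1
          exact h1
        have d4 : orderOf t ∣ p ^ j := orderOf_dvd_of_pow_eq_one hj'
        have hcop2 : Nat.Coprime (orderOf g) (p ^ j) :=
          (Nat.Coprime.pow_left j ((Nat.Prime.coprime_iff_not_dvd hp.1).mpr hgreg)).symm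
        exact orderOf_eq_one_iff.mp (Nat.eq_one_of_dvd_coprimes hcop2 d3 d4)
      rw [blockCoeff_eq_zero_of_singular hM.2.1 p hM.2.2 B hB' _ hsing, mul_zero]
    · rw [if_neg htP, zero_mul]
  rw [Finset.sum_eq_single (1 : G) (fun t _ ht => hterm t ht)
    (fun h => absurd (Finset.mem_univ _) h), hA, blockCoeff_kernelSet, if_pos P.one_mem,
    inv_one, mul_one] at h0
  have hP0 : (Nat.card P : ℂ)⁻¹ ≠ 0 := by
    have : 0 < Nat.card P := Nat.card_pos
    exact inv_ne_zero (by exact_mod_cast this.ne')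
  rcases mul_eq_zero.mp h0 with h1 | h1
  · exact hP0 h1
  · exact hg h1

/-- characters of `G ⧸ D'` whose inflations lie in the same block lie in the same block -/
theorem sameBlock_of_inflate_commutator [Finite G] {p : ℕ} [hp : Fact p.Prime]
    (hM : Cfsg.IsPModular p M) (D : Subgroup G) [hDn : D.Normal] (hD : IsPGroup p D)
    (χ ψ : Cfsg.IrrCharacter (G ⧸ ⁅D, D⁆))
    (hinf : Cfsg.SameBlock M ((χ : G ⧸ ⁅D, D⁆ → ℂ) ∘ QuotientGroup.mk)
      ((ψ : G ⧸ ⁅D, D⁆ → ℂ) ∘ QuotientGroup.mk)) :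
    Cfsg.SameBlock M (χ : G ⧸ ⁅D, D⁆ → ℂ) (ψ : G ⧸ ⁅D, D⁆ → ℂ) := by
  haveI hD'n : (⁅D, D⁆ : Subgroup G).Normal := Subgroup.commutator_normal D D
  have hD'p : IsPGroup p (⁅D, D⁆ : Subgroup G) := hD.to_le (Subgroup.commutator_le_left D D)
  apply sameBlock_of_pRegular hM.2.1 p hM.2.2 χ ψ
  intro x hx
  obtain ⟨g, rfl, hg⟩ := exists_pRegular_lift (p := p) ⁅D, D⁆ x hx
  set Q : Subgroup (G ⧸ ⁅D, D⁆) := D.map (QuotientGroup.mk' ⁅D, D⁆) with hQ
  haveI hQn : Q.Normal := Subgroup.Normal.map hDn _ (QuotientGroup.mk'_surjective _)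
  have hQp : IsPGroup p Q := hD.map _
  by_cases hxc : (QuotientGroup.mk g : G ⧸ ⁅D, D⁆) ∈ Subgroup.centralizer (Q : Set (G ⧸ ⁅D, D⁆))
  · have hcomm : ∀ u ∈ D, g * u * g⁻¹ * u⁻¹ ∈ ⁅D, D⁆ := by
      intro u hu
      have h1 := Subgroup.mem_centralizer_iff.mp hxc _ (Subgroup.mem_map_of_mem _ hu)
      have h1' : (QuotientGroup.mk u : G ⧸ ⁅D, D⁆) * QuotientGroup.mk g =
        QuotientGroup.mk g * QuotientGroup.mk u := h1
      rw [← QuotientGroup.eq_one_iff, QuotientGroup.mk_mul, QuotientGroup.mk_mul,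
        QuotientGroup.mk_mul, ← h1', QuotientGroup.mk_inv, QuotientGroup.mk_inv]
      group
    have hgD := mem_centralizer_of_commutator_mem D hD g hg hcomm
    have hgD' : g ∈ Subgroup.centralizer ((⁅D, D⁆ : Subgroup G) : Set G) := by
      rw [Subgroup.mem_centralizer_iff] at hgD ⊢
      intro u hu
      exact hgD u (Subgroup.commutator_le_left D D hu)
    have h1 := hinf g
    rw [centralChar_inflate_of_pRegular ⁅D, D⁆ hD'p g hg hgD',
      centralChar_inflate_of_pRegular ⁅D, D⁆ hD'p g hg hgD'] at h1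
    exact h1
  · have h1 := centralChar_memLocalIdeal_of_not_mem_centralizer hM Q hQp χ _ hxc
    have h2 := centralChar_memLocalIdeal_of_not_mem_centralizer hM Q hQp ψ _ hxc
    exact MemLocalIdeal.sub hM.2.1 h1 h2

end Cfsg.Agent.Helper6
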