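import Mathlib
import Cfsg.Prelude.Def_Characters
import Cfsg.Prelude.Def_BlockLocal
import Cfsg.Agent.Helper6.BrauerPerm2

/-!
# Conjugation of characters of a (not necessarily normal) subgroup by normalizing elements
-/

set_option autoImplicit false
set_option linter.style.haveILetI false
set_option linter.unusedSimpArgs false

namespace Cfsg.Agent.Helper6.RMcK

open Cfsg.Agent.Helper6
open scoped ComplexConjugate

universe u

variable {Γ : Type u} [Group Γ]

/-- conjugation `k ↦ g⁻¹ k g` as an automorphism of a subgroup normalized by `g` -/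
def nconj (K : Subgroup Γ) (g : Γ) (hg : g ∈ Subgroup.normalizer (K : Set Γ)) : K ≃* K where
  toFun k := ⟨g⁻¹ * (k : Γ) * g, (Subgroup.mem_normalizer_iff''.mp hg (k : Γ)).mp k.2⟩
  invFun k := ⟨g * (k : Γ) * g⁻¹, (Subgroup.mem_normalizer_iff.mp hg (k : Γ)).mp k.2⟩
  left_inv k := by
    apply Subtype.ext
    simp only
    group
  right_inv k := by
    apply Subtype.ext
    simp only
    group
  map_mul' a b := by
    apply Subtype.ext
    simp only [Subgroup.coe_mul]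
    group

theorem coe_nconj (K : Subgroup Γ) (g : Γ) (hg : g ∈ Subgroup.normalizer (K : Set Γ)) (k : K) :
    ((nconj K g hg k : K) : Γ) = g⁻¹ * (k : Γ) * g := rfl

theorem coe_nconj_symm (K : Subgroup Γ) (g : Γ) (hg : g ∈ Subgroup.normalizer (K : Set Γ))
    (k : K) : (((nconj K g hg).symm k : K) : Γ) = g * (k : Γ) * g⁻¹ := rfl

/-- the conjugate function `k ↦ θ (g⁻¹ k g)` -/
def cjc (K : Subgroup Γ) (g : Γ) (hg : g ∈ Subgroup.normalizer (K : Set Γ)) (θ : K → ℂ) :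
    K → ℂ := θ ∘ nconj K g hg

theorem cjc_apply (K : Subgroup Γ) (g : Γ) (hg : g ∈ Subgroup.normalizer (K : Set Γ))
    (θ : K → ℂ) (k : K) : cjc K g hg θ k = θ (nconj K g hg k) := rfl

theorem cjc_isIrr [Finite Γ] (K : Subgroup Γ) (g : Γ)
    (hg : g ∈ Subgroup.normalizer (K : Set Γ)) {θ : K → ℂ} (hθ : Cfsg.IsIrrCharacter K θ) :
    Cfsg.IsIrrCharacter K (cjc K g hg θ) :=
  IsIrrCharacter.comp_mulEquiv (nconj K g hg) hθ

theorem isConjCharOf_cjc (K : Subgroup Γ) (g : Γ) (hg : g ∈ Subgroup.normalizer (K : Set Γ))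
    (θ : K → ℂ) : Cfsg.IsConjCharOf K g θ (cjc K g hg θ) := by
  intro k k' hk
  rw [cjc_apply]
  congr 1
  apply Subtype.ext
  rw [coe_nconj, hk]
  group

theorem eq_cjc_of_isConjCharOf (K : Subgroup Γ) (g : Γ)
    (hg : g ∈ Subgroup.normalizer (K : Set Γ)) (θ θ' : K → ℂ)
    (h : Cfsg.IsConjCharOf K g θ θ') : θ' = cjc K g hg θ := by
  funext k
  rw [cjc_apply]
  apply h
  rw [coe_nconj]
  group

theorem isConjCharOf_iff (K : Subgroup Γ) (g : Γ) (hg : g ∈ Subgroup.normalizer (K : Set Γ))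
    (θ θ' : K → ℂ) : Cfsg.IsConjCharOf K g θ θ' ↔ θ' = cjc K g hg θ :=
  ⟨eq_cjc_of_isConjCharOf K g hg θ θ', fun h => h ▸ isConjCharOf_cjc K g hg θ⟩

theorem cjc_one (K : Subgroup Γ) (θ : K → ℂ) :
    cjc K 1 (Subgroup.one_mem _) θ = θ := by
  funext k
  rw [cjc_apply]
  congr 1
  apply Subtype.ext
  rw [coe_nconj]
  group

theorem cjc_mul (K : Subgroup Γ) (g h : Γ) (hg : g ∈ Subgroup.normalizer (K : Set Γ))
    (hh : h ∈ Subgroup.normalizer (K : Set Γ)) (θ : K → ℂ) :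
    cjc K (g * h) (Subgroup.mul_mem _ hg hh) θ = cjc K g hg (cjc K h hh θ) := by
  funext k
  rw [cjc_apply, cjc_apply, cjc_apply]
  congr 1
  apply Subtype.ext
  rw [coe_nconj, coe_nconj, coe_nconj]
  group

theorem cjc_of_mem [Finite Γ] (K : Subgroup Γ) (g : Γ) (hgK : g ∈ K) (θ : K → ℂ)
    (hθ : Cfsg.IsClassFunction K θ) :
    cjc K g (Subgroup.le_normalizer hgK) θ = θ := by
  funext k
  rw [cjc_apply]
  have := hθ k (⟨g, hgK⟩ : K)⁻¹
  rw [← this]
  congr 1
  apply Subtype.ext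
  rw [coe_nconj]
  simp

theorem cjc_apply_one (K : Subgroup Γ) (g : Γ) (hg : g ∈ Subgroup.normalizer (K : Set Γ))
    (θ : K → ℂ) : cjc K g hg θ 1 = θ 1 := by
  rw [cjc_apply, map_one]

end Cfsg.Agent.Helper6.RMcK
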