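import Mathlib
import Cfsg.Prelude.Def_Characters
import Cfsg.Prelude.Def_BlockLocal
import Cfsg.Agent.Helper6.RMcKBase
import Cfsg.Agent.Helper6.CyclicExt

/-!
# Inertia subgroups in an ambient group, and extension over a cyclic quotient
-/

set_option autoImplicit false
set_option linter.style.haveILetI false
set_option linter.unusedSimpArgs false

namespace Cfsg.Agent.Helper6.RMcK

open Cfsg.Agent.Helper6
open scoped ComplexConjugate

universe u

variable {Γ : Type u} [Group Γ]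

/-- the inertia subgroup of a function on a subgroup `Y`, inside the normalizer of `Y` -/
def inertia (Y : Subgroup Γ) (φ : Y → ℂ) : Subgroup Γ where
  carrier := {g | g ∈ Subgroup.normalizer (Y : Set Γ) ∧ Cfsg.IsConjCharOf Y g φ φ}
  one_mem' := by
    refine ⟨Subgroup.one_mem _, ?_⟩
    intro k k' hk
    have : k' = k := by
      apply Subtype.ext
      rw [hk]
      group
    rw [this]
  mul_mem' := by
    rintro g h ⟨hg, hg'⟩ ⟨hh, hh'⟩
    refine ⟨Subgroup.mul_mem _ hg hh, ?_⟩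
    intro k k' hk
    have hmem : h * (k : Γ) * h⁻¹ ∈ Y := (Subgroup.mem_normalizer_iff.mp hh (k : Γ)).mp k.2
    have h1 := hh' k ⟨h * (k : Γ) * h⁻¹, hmem⟩ rfl
    have h2 := hg' ⟨h * (k : Γ) * h⁻¹, hmem⟩ k' (by
      rw [hk]
      group)
    rw [h2, h1]
  inv_mem' := by
    rintro g ⟨hg, hg'⟩
    refine ⟨Subgroup.inv_mem _ hg, ?_⟩
    intro k k' hk
    have := hg' k' k (by
      rw [hk]
      group)
    exact this.symm

theorem mem_inertia (Y : Subgroup Γ) (φ : Y → ℂ) (g : Γ) :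
    g ∈ inertia Y φ ↔ g ∈ Subgroup.normalizer (Y : Set Γ) ∧ Cfsg.IsConjCharOf Y g φ φ := Iff.rfl

theorem inertia_le_normalizer (Y : Subgroup Γ) (φ : Y → ℂ) :
    inertia Y φ ≤ Subgroup.normalizer (Y : Set Γ) := fun _ h => h.1

theorem le_inertia_of_isClassFunction (Y : Subgroup Γ) (φ : Y → ℂ)
    (hφ : Cfsg.IsClassFunction Y φ) : Y ≤ inertia Y φ := by
  intro y hy
  refine ⟨Subgroup.le_normalizer hy, ?_⟩
  intro k k' hk
  have := hφ k ⟨y, hy⟩
  rw [← this]
  congr 1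
  apply Subtype.ext
  rw [hk]
  rfl

theorem cjc_eq_of_mem_inertia (Y : Subgroup Γ) (φ : Y → ℂ) (g : Γ) (hg : g ∈ inertia Y φ) :
    cjc Y g hg.1 φ = φ :=
  (eq_cjc_of_isConjCharOf Y g hg.1 φ φ hg.2).symm

/-- An irreducible character invariant under a normalizing element `c` extends to `Y ⊔ ⟨c⟩`. -/
theorem exists_ext_sup_zpowers [Finite Γ] (Y : Subgroup Γ) (c : Γ) (φ : Y → ℂ)
    (hφ : Cfsg.IsIrrCharacter Y φ) (hc : c ∈ inertia Y φ) :
    ∃ ψ : ↥(Y ⊔ Subgroup.zpowers c) → ℂ, Cfsg.IsIrrCharacter ↥(Y ⊔ Subgroup.zpowers c) ψ ∧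
      ∀ y : Y, ψ ⟨y, (le_sup_left : Y ≤ Y ⊔ Subgroup.zpowers c) y.2⟩ = φ y := by
  classical
  set A : Subgroup Γ := Y ⊔ Subgroup.zpowers c with hA
  have hYA : Y ≤ A := le_sup_left
  have hcA : c ∈ A := (le_sup_right : Subgroup.zpowers c ≤ A) (Subgroup.mem_zpowers c)
  have hAin : A ≤ inertia Y φ :=
    sup_le (le_inertia_of_isClassFunction Y φ
      (IsCharacter.isClassFunction (IsIrrCharacter.isCharacter hφ)))
      ((Subgroup.zpowers_le).mpr hc)
  have hAnorm : A ≤ Subgroup.normalizer (Y : Set Γ) := hAin.trans (inertia_le_normalizer Y φ)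
  haveI hN' : (Y.subgroupOf A).Normal :=
    (Subgroup.normal_subgroupOf_iff_le_normalizer hYA).mpr hAnorm
  -- cyclic quotient
  set f := QuotientGroup.mk' (Y.subgroupOf A) with hf
  set q : A ⧸ Y.subgroupOf A := f ⟨c, hcA⟩ with hq
  have hcyc : IsCyclic (A ⧸ Y.subgroupOf A) := by
    refine ⟨⟨q, ?_⟩⟩
    intro z
    obtain ⟨a, rfl⟩ := QuotientGroup.mk_surjective z
    have hle : A ≤ ((Subgroup.zpowers q).comap f).map A.subtype := by
      refine sup_le ?_ ?_
      · intro y hy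
        refine ⟨⟨y, hYA hy⟩, ?_, rfl⟩
        rw [SetLike.mem_coe, Subgroup.mem_comap]
        have : f ⟨y, hYA hy⟩ = 1 := by
          rw [hf, QuotientGroup.mk'_apply, QuotientGroup.eq_one_iff]
          exact Subgroup.mem_subgroupOf.mpr hy
        rw [this]
        exact Subgroup.one_mem _
      · rw [Subgroup.zpowers_le]
        exact ⟨⟨c, hcA⟩, Subgroup.mem_zpowers q, rfl⟩
    obtain ⟨a', ha', haa'⟩ := hle a.2
    have : a' = a := Subtype.ext haa'
    rw [this] at ha'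
    exact ha'
  set e : Y.subgroupOf A ≃* Y := Subgroup.subgroupOfEquivOfLe hYA with he
  have hφ' : Cfsg.IsIrrCharacter (Y.subgroupOf A) (φ ∘ e) := IsIrrCharacter.comp_mulEquiv e hφ
  obtain ⟨d, ρ', hirr', hρ'⟩ := hφ'
  haveI := hirr'
  have hchar : ∀ n : Y.subgroupOf A, ρ'.character n = φ (e n) := by
    intro n
    rw [hρ']
    rfl
  have hinv : ∀ (a : A) (n : Y.subgroupOf A),
      ρ'.character ⟨a * n * a⁻¹, hN'.conj_mem (n : A) n.2 a⟩ = ρ'.character n := by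
    intro a n
    rw [hchar, hchar]
    exact (hAin a.2).2 (e n) (e ⟨a * n * a⁻¹, hN'.conj_mem (n : A) n.2 a⟩) rfl
  obtain ⟨σ, hσirr, hσ⟩ := extend_rep_cyclic (Y.subgroupOf A) hcyc ρ' hinv
  refine ⟨σ.character, ⟨d, σ, hσirr, rfl⟩, ?_⟩
  intro y
  have h1 := hσ (e.symm y)
  have h2 : ((e.symm y : Y.subgroupOf A) : A) = ⟨y, hYA y.2⟩ := rfl
  rw [h2] at h1
  show LinearMap.trace ℂ _ (σ ⟨y, hYA y.2⟩) = φ y
  rw [h1]
  have h3 := hchar (e.symm y)
  rw [MulEquiv.apply_symm_apply] at h3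
  exact h3

end Cfsg.Agent.Helper6.RMcK
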