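import Mathlib
import Cfsg.Prelude.Def_LieExceptional
import Cfsg.Agent.S0739
import Cfsg.Agent.Helper2.Zass

/-!
# Involutions in simple Zassenhaus groups with odd two-point stabiliser
-/

set_option autoImplicit false
set_option linter.style.haveILetI false

namespace Cfsg.Agent.Helper6

open MulAction Cfsg.Agent.Helper2

variable {G Ω : Type*} [Group G] [MulAction G Ω]

theorem zas_two_trans (hZ : Cfsg.IsZassenhausGroup G Ω) {a b c d : Ω} (hab : a ≠ b)
    (hcd : c ≠ d) : ∃ g : G, g • a = c ∧ g • b = d := by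
  have h2 := hZ.2.1
  rw [MulAction.is_two_pretransitive_iff] at h2
  exact h2 hab hcd

theorem zas_card_two_stab_eq (hZ : Cfsg.IsZassenhausGroup G Ω) {a b c d : Ω} (hab : a ≠ b)
    (hcd : c ≠ d) :
    Nat.card ↥(stabilizer G c ⊓ stabilizer G d : Subgroup G) =
      Nat.card ↥(stabilizer G a ⊓ stabilizer G b : Subgroup G) := by
  obtain ⟨g, hga, hgb⟩ := zas_two_trans hZ hab hcd
  have hga' : g⁻¹ • c = a := by rw [← hga, inv_smul_smul]
  have hgb' : g⁻¹ • d = b := by rw [← hgb, inv_smul_smul]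
  apply Nat.card_congr
  exact
    { toFun := fun x => ⟨g⁻¹ * x * g, by
        have hx := ZasOdd.mem_HH.mp x.2
        apply ZasOdd.mem_HH.mpr
        constructor
        · rw [mul_smul, mul_smul, hga, hx.1, hga']
        · rw [mul_smul, mul_smul, hgb, hx.2, hgb']⟩
      invFun := fun y => ⟨g * y * g⁻¹, by
        have hy := ZasOdd.mem_HH.mp y.2
        apply ZasOdd.mem_HH.mpr
        constructor
        · rw [mul_smul, mul_smul, hga', hy.1, hga]
        · rw [mul_smul, mul_smul, hgb', hy.2, hgb]⟩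
      left_inv := fun x => by
        apply Subtype.ext
        show g * (g⁻¹ * x * g) * g⁻¹ = x
        group
      right_inv := fun y => by
        apply Subtype.ext
        show g⁻¹ * (g * y * g⁻¹) * g = y
        group }

theorem zas_simple_no_complement [Finite G] (hZ : Cfsg.IsZassenhausGroup G Ω) {a b : Ω}
    (hab : a ≠ b) [IsSimpleGroup G]
    (hodd : Odd (Nat.card ↥(stabilizer G a ⊓ stabilizer G b : Subgroup G))) :
    ∀ q : ℕ, q.Prime → q ∣ Nat.card ↥(stabilizer G a ⊓ stabilizer G b : Subgroup G) →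
      ¬ ∃ N : Subgroup G, N.Normal ∧ N.index = q ^ (Nat.card G).factorization q := by
  rintro q hq hqd ⟨N, hN, hidx⟩
  have hqG : q ∣ Nat.card G := hqd.trans (Subgroup.card_subgroup_dvd_card _)
  have hv : 0 < (Nat.card G).factorization q :=
    hq.factorization_pos_of_dvd Nat.card_pos.ne' hqG
  rcases hN.eq_bot_or_eq_top with h | h
  · rw [h, Subgroup.index_bot] at hidx
    obtain ⟨s, hsa, hsb⟩ := ZasOdd.exists_swap hZ hab
    have h2 : 2 ∣ Nat.card G :=
      (Zass.two_dvd_orderOf_of_swap s hab hsa hsb).trans (orderOf_dvd_natCard s)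
    rw [hidx] at h2
    have h3 : 2 ∣ q := Nat.Prime.dvd_of_dvd_pow Nat.prime_two h2
    have hq2 : 2 = q := (Nat.prime_dvd_prime_iff_eq Nat.prime_two hq).mp h3
    rw [← hq2] at hqd
    exact (Nat.not_even_iff_odd.mpr hodd) (even_iff_two_dvd.mpr hqd)
  · rw [h, Subgroup.index_top] at hidx
    have := Nat.one_lt_pow hv.ne' hq.one_lt
    omega

section

variable [Finite G] [Fintype Ω] (hZ : Cfsg.IsZassenhausGroup G Ω) {a b : Ω} (hab : a ≠ b)
  [IsSimpleGroup G]
  (hodd : Odd (Nat.card ↥(stabilizer G a ⊓ stabilizer G b : Subgroup G)))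

include hZ hab hodd

theorem zas_odd_two_stab {c d : Ω} (hcd : c ≠ d) :
    Odd (Nat.card ↥(stabilizer G c ⊓ stabilizer G d : Subgroup G)) := by
  rw [zas_card_two_stab_eq hZ hab hcd]
  exact hodd

/-- Swaps invert the two-point stabiliser, for every pair of points. -/
theorem zas_swap_inverts {c d : Ω} (hcd : c ≠ d) {s : G} (hsc : s • c = d) (hsd : s • d = c)
    {x : G} (hx : x ∈ stabilizer G c ⊓ stabilizer G d) : s * x * s⁻¹ = x⁻¹ := by
  have hodd' := zas_odd_two_stab hZ hab hodd hcd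
  exact (Cfsg.Agent.S0739.result hZ hcd hodd'
    (zas_simple_no_complement hZ hcd hodd')).2.2 s hsc hsd x hx

/-- Every element swapping two points is an involution. -/
theorem zas_swap_mul_self {c d : Ω} (hcd : c ≠ d) {s : G} (hsc : s • c = d) (hsd : s • d = c) :
    s * s = 1 := by
  have hodd' := zas_odd_two_stab hZ hab hodd hcd
  have hx : s * s ∈ stabilizer G c ⊓ stabilizer G d := by
    apply ZasOdd.mem_HH.mpr
    constructor
    · rw [mul_smul, hsc, hsd]
    · rw [mul_smul, hsd, hsc]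
  have h1 := zas_swap_inverts hZ hab hodd hcd hsc hsd hx
  have h2 : s * (s * s) * s⁻¹ = s * s := by group
  rw [h2] at h1
  exact ZasOdd.eq_one_of_eq_inv hodd' hx h1

theorem zas_swap_orderOf {c d : Ω} (hcd : c ≠ d) {s : G} (hsc : s • c = d) (hsd : s • d = c) :
    orderOf s = 2 := by
  haveI : Fact (Nat.Prime 2) := ⟨Nat.prime_two⟩
  apply orderOf_eq_prime
  · rw [pow_two]
    exact zas_swap_mul_self hZ hab hodd hcd hsc hsd
  · intro h1
    rw [h1, one_smul] at hsc
    exact hcd hsc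

/-- Two elements swapping the same two points are conjugate under the two-point stabiliser. -/
theorem zas_swap_conj {c d : Ω} (hcd : c ≠ d) {s s' : G} (hsc : s • c = d) (hsd : s • d = c)
    (hsc' : s' • c = d) (hsd' : s' • d = c) :
    ∃ y ∈ stabilizer G c ⊓ stabilizer G d, s' = y * s * y⁻¹ := by
  have hodd' := zas_odd_two_stab hZ hab hodd hcd
  have hx : s' * s⁻¹ ∈ stabilizer G c ⊓ stabilizer G d :=
    ZasOdd.swap_mul_inv_mem hsc hsd hsc' hsd'
  obtain ⟨k, hk⟩ := hodd'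
  have hxe : (s' * s⁻¹) ^ (2 * k + 1) = 1 := by
    have h1 : (⟨s' * s⁻¹, hx⟩ : ↥(stabilizer G c ⊓ stabilizer G d : Subgroup G)) ^
        (Nat.card ↥(stabilizer G c ⊓ stabilizer G d : Subgroup G)) = 1 := pow_card_eq_one'
    rw [hk] at h1
    exact congrArg Subtype.val h1
  refine ⟨(s' * s⁻¹) ^ (k + 1), pow_mem hx _, ?_⟩
  have hy : (s' * s⁻¹) ^ (k + 1) ∈ stabilizer G c ⊓ stabilizer G d := pow_mem hx _
  have h1 := zas_swap_inverts hZ hab hodd hcd hsc hsd (inv_mem hy)
  rw [inv_inv] at h1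
  have h2 : (s' * s⁻¹) ^ (k + 1) * s * ((s' * s⁻¹) ^ (k + 1))⁻¹ =
      (s' * s⁻¹) ^ (k + 1) * (s * ((s' * s⁻¹) ^ (k + 1))⁻¹ * s⁻¹) * s := by group
  rw [h2, h1, ← pow_add]
  have h3 : k + 1 + (k + 1) = (2 * k + 1) + 1 := by ring
  rw [h3, pow_succ, hxe]
  group

/-- Every involution is conjugate to one swapping two given points. -/
theorem zas_involution_conj_swap {u : G} (hu : orderOf u = 2) {c d : Ω} (hcd : c ≠ d) :
    ∃ g : G, (g * u * g⁻¹) • c = d ∧ (g * u * g⁻¹) • d = c := by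
  haveI := hZ.1
  have hu1 : u ≠ 1 := by
    intro h
    rw [h, orderOf_one] at hu
    omega
  have hmv : ∃ c₀ : Ω, u • c₀ ≠ c₀ := by
    by_contra hcon
    push Not at hcon
    apply hu1
    apply eq_of_smul_eq_smul (α := Ω)
    intro c₀
    rw [hcon c₀, one_smul]
  obtain ⟨c₀, hc₀⟩ := hmv
  have h2 : ∀ {a b c d : Ω}, a ≠ b → c ≠ d → ∃ g : G, g • a = c ∧ g • b = d :=
    fun h h' => zas_two_trans hZ h h'
  obtain ⟨g, -, h1, h2, -, -⟩ := Zass.exists_swap_conj h2 u hu c₀ hc₀ hcd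
  exact ⟨g, h1, h2⟩

/-- All involutions are conjugate. -/
theorem zas_involutions_isConj {u v : G} (hu : orderOf u = 2) (hv : orderOf v = 2) :
    IsConj u v := by
  obtain ⟨g, hg1, hg2⟩ := zas_involution_conj_swap hZ hab hodd hu hab
  obtain ⟨g', hg1', hg2'⟩ := zas_involution_conj_swap hZ hab hodd hv hab
  obtain ⟨y, -, hy⟩ := zas_swap_conj hZ hab hodd hab hg1 hg2 hg1' hg2'
  rw [isConj_iff]
  refine ⟨g'⁻¹ * y * g, ?_⟩
  have h1 : g'⁻¹ * y * g * u * (g'⁻¹ * y * g)⁻¹ = g'⁻¹ * (y * (g * u * g⁻¹) * y⁻¹) * g' := by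
    group
  rw [h1, ← hy]
  group

end

end Cfsg.Agent.Helper6
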