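import Mathlib
import Cfsg.Agent.Helper6.ZasInvA

/-!
# Counting involutions in simple Zassenhaus groups with odd two-point stabiliser
-/

set_option autoImplicit false
set_option linter.style.haveILetI false
set_option linter.unusedSectionVars false

namespace Cfsg.Agent.Helper6

open MulAction Cfsg.Agent.Helper2

variable {G Ω : Type*} [Group G] [MulAction G Ω]

section

variable [Finite G] [Fintype Ω] (hZ : Cfsg.IsZassenhausGroup G Ω) {a b : Ω} (hab : a ≠ b)
  [IsSimpleGroup G]
  (hodd : Odd (Nat.card ↥(stabilizer G a ⊓ stabilizer G b : Subgroup G)))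

include hZ hab hodd

/-- An involution has at most one fixed point; the exact number is the parity of the degree. -/
theorem zas_involution_card_fixedBy {x : G} (hx : orderOf x = 2) :
    Nat.card (fixedBy Ω x) = Fintype.card Ω % 2 := by
  classical
  have hx1 : x ≠ 1 := by
    intro h
    rw [h, orderOf_one] at hx
    omega
  have hx2 : x ^ 2 = 1 := by
    rw [← hx]
    exact pow_orderOf_eq_one x
  have h1 := Zass.card_fixedBy_mod_two (Ω := Ω) x hx2
  have h2 := Zass.card_fixedBy_le_two hZ.2.2.1 x hx1
  have h3 : Nat.card (fixedBy Ω x) ≠ 2 := by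
    intro h
    haveI : Fintype (fixedBy Ω x) := Fintype.ofFinite _
    rw [Nat.card_eq_fintype_card] at h
    have h4 : 1 < Fintype.card (fixedBy Ω x) := by omega
    obtain ⟨c, d, hcd⟩ := Fintype.one_lt_card_iff.mp h4
    have hcd' : (c : Ω) ≠ d := fun h => hcd (Subtype.ext h)
    have hmem : x ∈ stabilizer G (c : Ω) ⊓ stabilizer G (d : Ω) :=
      ZasOdd.mem_HH.mpr ⟨c.2, d.2⟩
    have hodd' := zas_odd_two_stab hZ hab hodd hcd'
    have h5 : orderOf x ∣ Nat.card ↥(stabilizer G (c : Ω) ⊓ stabilizer G (d : Ω) : Subgroup G) := by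
      have := orderOf_dvd_natCard
        (⟨x, hmem⟩ : ↥(stabilizer G (c : Ω) ⊓ stabilizer G (d : Ω) : Subgroup G))
      rwa [Subgroup.orderOf_mk] at this
    rw [hx] at h5
    exact (Nat.not_even_iff_odd.mpr hodd') (even_iff_two_dvd.mpr h5)
  omega

/-- The involutions mapping `c` to `d` are as many as the elements of a two-point stabiliser. -/
theorem zas_card_swap_set {c d : Ω} (hcd : c ≠ d) :
    Nat.card {x : G // orderOf x = 2 ∧ x • c = d} =
      Nat.card ↥(stabilizer G a ⊓ stabilizer G b : Subgroup G) := by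
  rw [← zas_card_two_stab_eq hZ hab hcd]
  obtain ⟨s₀, hs₀c, hs₀d⟩ := ZasOdd.exists_swap hZ hcd
  have hs₀c' : s₀⁻¹ • d = c := by rw [← hs₀c, inv_smul_smul]
  have hs₀d' : s₀⁻¹ • c = d := by rw [← hs₀d, inv_smul_smul]
  apply Nat.card_congr
  exact
    { toFun := fun x => ⟨x.1 * s₀⁻¹, by
        obtain ⟨x, hxo, hxc⟩ := x
        have hxd : x • d = c := by
          have h2 : x ^ 2 = 1 := by
            rw [← hxo]
            exact pow_orderOf_eq_one x
          rw [← hxc, smul_smul, ← pow_two, h2, one_smul]
        exact ZasOdd.swap_mul_inv_mem hs₀c hs₀d hxc hxd⟩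
      invFun := fun y => ⟨y.1 * s₀, by
        have hy := ZasOdd.mem_HH.mp y.2
        have h1 : (y.1 * s₀) • c = d := by rw [mul_smul, hs₀c, hy.2]
        have h2 : (y.1 * s₀) • d = c := by rw [mul_smul, hs₀d, hy.1]
        exact ⟨zas_swap_orderOf hZ hab hodd hcd h1 h2, h1⟩⟩
      left_inv := fun x => by
        apply Subtype.ext
        show x.1 * s₀⁻¹ * s₀ = x.1
        group
      right_inv := fun y => by
        apply Subtype.ext
        show y.1 * s₀ * s₀⁻¹ = y.1
        group }

end

section

variable [Fintype G] [DecidableEq G] [Fintype Ω] [DecidableEq Ω]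
  (hZ : Cfsg.IsZassenhausGroup G Ω) {a b : Ω} (hab : a ≠ b)
  [IsSimpleGroup G]
  (hodd : Odd (Nat.card ↥(stabilizer G a ⊓ stabilizer G b : Subgroup G)))

include hZ hab hodd

/-- The double count of involutions against moved points. -/
theorem zas_card_involutions_mul :
    (Finset.univ.filter (fun x : G => orderOf x = 2)).card *
        (Fintype.card Ω - Fintype.card Ω % 2) =
      Fintype.card Ω * ((Fintype.card Ω - 1) *
        Nat.card ↥(stabilizer G a ⊓ stabilizer G b : Subgroup G)) := by
  classical
  set inv := Finset.univ.filter (fun x : G => orderOf x = 2) with hinv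
  set e := Nat.card ↥(stabilizer G a ⊓ stabilizer G b : Subgroup G) with he
  have hL : ∀ x ∈ inv, (∑ c : Ω, if x • c ≠ c then 1 else 0) =
      Fintype.card Ω - Fintype.card Ω % 2 := by
    intro x hx
    have hx2 : orderOf x = 2 := (Finset.mem_filter.mp hx).2
    have h1 := zas_involution_card_fixedBy hZ hab hodd hx2
    rw [← h1, Finset.sum_boole]
    simp only [Nat.cast_id]
    have h2 : Nat.card (fixedBy Ω x) = (Finset.univ.filter (fun c : Ω => x • c = c)).card := by
      rw [Nat.card_eq_fintype_card, Fintype.card_subtype]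
      rfl
    rw [h2]
    have h3 : (Finset.univ.filter (fun c : Ω => x • c = c)).card +
        (Finset.univ.filter (fun c : Ω => x • c ≠ c)).card = Fintype.card Ω := by
      rw [← Finset.card_univ (α := Ω)]
      convert Finset.card_filter_add_card_filter_not (s := (Finset.univ : Finset Ω))
        (fun c : Ω => x • c = c) using 3
    omega
  have hR : ∀ c : Ω, (∑ x ∈ inv, if x • c ≠ c then 1 else 0) = (Fintype.card Ω - 1) * e := by
    intro c
    rw [Finset.sum_boole]
    simp only [Nat.cast_id]
    have h1 : ∀ x ∈ inv.filter (fun x => x • c ≠ c), x • c ∈ Finset.univ.erase c := by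
      intro x hx
      rw [Finset.mem_erase]
      exact ⟨(Finset.mem_filter.mp hx).2, Finset.mem_univ _⟩
    rw [Finset.card_eq_sum_card_fiberwise h1]
    have h2 : ∀ d ∈ Finset.univ.erase c,
        ((inv.filter (fun x => x • c ≠ c)).filter (fun x => x • c = d)).card = e := by
      intro d hd
      have hdc : d ≠ c := (Finset.mem_erase.mp hd).1
      have h3 := zas_card_swap_set hZ hab hodd (Ne.symm hdc)
      rw [← he, Nat.card_eq_fintype_card, Fintype.card_subtype] at h3
      rw [← h3]
      congr 1
      ext x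
      simp only [Finset.mem_filter, Finset.mem_univ, true_and, hinv]
      constructor
      · rintro ⟨⟨h4, -⟩, h5⟩
        exact ⟨h4, h5⟩
      · rintro ⟨h4, h5⟩
        refine ⟨⟨h4, ?_⟩, h5⟩
        rw [h5]
        exact hdc
    rw [Finset.sum_congr rfl h2, Finset.sum_const, Finset.card_erase_of_mem (Finset.mem_univ _),
      Finset.card_univ, smul_eq_mul]
  have hsw : (∑ x ∈ inv, ∑ c : Ω, if x • c ≠ c then 1 else 0) =
      ∑ c : Ω, ∑ x ∈ inv, if x • c ≠ c then 1 else 0 := Finset.sum_comm
  rw [Finset.sum_congr rfl hL, Finset.sum_const, smul_eq_mul] at hsw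
  rw [hsw, Finset.sum_congr rfl (fun c _ => hR c), Finset.sum_const, Finset.card_univ,
    smul_eq_mul]

end

end Cfsg.Agent.Helper6
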