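import Mathlib
import Cfsg.Agent.Helper6.ZasInvB

/-!
# Zassenhaus groups: counting pairs of involutions by the fixed points of their product
-/

set_option autoImplicit false
set_option linter.style.haveILetI false
set_option linter.unusedSectionVars false

namespace Cfsg.Agent.Helper6

open MulAction Cfsg.Agent.Helper2

variable {G Ω : Type*} [Group G] [MulAction G Ω]

theorem involution_mul_self {x : G} (hx : orderOf x = 2) : x * x = 1 := by
  rw [← pow_two, ← hx]
  exact pow_orderOf_eq_one x

theorem involution_smul_smul {x : G} (hx : orderOf x = 2) (c : Ω) : x • x • c = c := by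
  rw [smul_smul, involution_mul_self hx, one_smul]

section

variable [Fintype G] [DecidableEq G] [Fintype Ω] [DecidableEq Ω]
  (hZ : Cfsg.IsZassenhausGroup G Ω) {a b : Ω} (hab : a ≠ b)
  [IsSimpleGroup G]
  (hodd : Odd (Nat.card ↥(stabilizer G a ⊓ stabilizer G b : Subgroup G)))

include hZ hab hodd

theorem zas_card_inv_map {c d : Ω} (hcd : c ≠ d) :
    ((Finset.univ.filter (fun x : G => orderOf x = 2)).filter (fun x => x • c = d)).card =
      Nat.card ↥(stabilizer G a ⊓ stabilizer G b : Subgroup G) := by
  have h := zas_card_swap_set hZ hab hodd hcd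
  rw [Nat.card_eq_fintype_card, Fintype.card_subtype] at h
  rw [← h, Finset.filter_filter]

theorem zas_card_pairs_map {c d : Ω} (hcd : c ≠ d) :
    (((Finset.univ.filter (fun x : G => orderOf x = 2)).offDiag).filter
      (fun p => p.1 • c = d ∧ p.2 • c = d)).card =
      Nat.card ↥(stabilizer G a ⊓ stabilizer G b : Subgroup G) *
        Nat.card ↥(stabilizer G a ⊓ stabilizer G b : Subgroup G) -
        Nat.card ↥(stabilizer G a ⊓ stabilizer G b : Subgroup G) := by
  have h1 : ((Finset.univ.filter (fun x : G => orderOf x = 2)).offDiag).filter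
      (fun p => p.1 • c = d ∧ p.2 • c = d) =
      ((Finset.univ.filter (fun x : G => orderOf x = 2)).filter (fun x => x • c = d)).offDiag := by
    ext ⟨t, s⟩
    simp only [Finset.mem_filter, Finset.mem_offDiag, Finset.mem_univ, true_and]
    tauto
  rw [h1, Finset.offDiag_card, zas_card_inv_map hZ hab hodd hcd]

/-- Pairs of distinct involutions whose product has two fixed points. -/
theorem zas_two_mul_card_pairs_two :
    2 * (((Finset.univ.filter (fun x : G => orderOf x = 2)).offDiag).filter
      (fun p => ∃ c : Ω, p.1 • c = p.2 • c ∧ p.1 • c ≠ c)).card ≤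
      Fintype.card Ω * ((Fintype.card Ω - 1) *
        (Nat.card ↥(stabilizer G a ⊓ stabilizer G b : Subgroup G) *
          Nat.card ↥(stabilizer G a ⊓ stabilizer G b : Subgroup G) -
          Nat.card ↥(stabilizer G a ⊓ stabilizer G b : Subgroup G))) := by
  set inv := Finset.univ.filter (fun x : G => orderOf x = 2) with hinv
  set e := Nat.card ↥(stabilizer G a ⊓ stabilizer G b : Subgroup G) with he
  set P₂ := (inv.offDiag).filter (fun p => ∃ c : Ω, p.1 • c = p.2 • c ∧ p.1 • c ≠ c) with hP₂
  have h1 : ∀ p ∈ P₂, 2 ≤ (Finset.univ.filter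
      (fun c : Ω => p.1 • c = p.2 • c ∧ p.1 • c ≠ c)).card := by
    rintro ⟨t, s⟩ hp
    simp only [hP₂, Finset.mem_filter, Finset.mem_offDiag, hinv, Finset.mem_univ, true_and] at hp
    obtain ⟨⟨ht, hs, -⟩, c, hc1, hc2⟩ := hp
    apply Nat.succ_le_of_lt
    rw [Finset.one_lt_card]
    refine ⟨c, ?_, t • c, ?_, Ne.symm hc2⟩
    · simp only [Finset.mem_filter, Finset.mem_univ, true_and]
      exact ⟨hc1, hc2⟩
    · simp only [Finset.mem_filter, Finset.mem_univ, true_and]
      refine ⟨?_, ?_⟩
      · rw [involution_smul_smul ht]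
        conv_rhs => rw [hc1]
        rw [involution_smul_smul hs]
      · rw [involution_smul_smul ht]
        exact Ne.symm hc2
  have h2 : 2 * P₂.card ≤ ∑ p ∈ P₂, (Finset.univ.filter
      (fun c : Ω => p.1 • c = p.2 • c ∧ p.1 • c ≠ c)).card := by
    rw [mul_comm, ← smul_eq_mul, ← Finset.sum_const]
    exact Finset.sum_le_sum h1
  have h3 : (∑ p ∈ P₂, (Finset.univ.filter
      (fun c : Ω => p.1 • c = p.2 • c ∧ p.1 • c ≠ c)).card) ≤
      ∑ p ∈ inv.offDiag, (Finset.univ.filter
      (fun c : Ω => p.1 • c = p.2 • c ∧ p.1 • c ≠ c)).card :=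
    Finset.sum_le_sum_of_subset (Finset.filter_subset _ _)
  have h4 : (∑ p ∈ inv.offDiag, (Finset.univ.filter
      (fun c : Ω => p.1 • c = p.2 • c ∧ p.1 • c ≠ c)).card) =
      ∑ c : Ω, ((inv.offDiag).filter (fun p => p.1 • c = p.2 • c ∧ p.1 • c ≠ c)).card := by
    simp only [Finset.card_filter]
    exact Finset.sum_comm
  have h5 : ∀ c : Ω, ((inv.offDiag).filter (fun p => p.1 • c = p.2 • c ∧ p.1 • c ≠ c)).card =
      (Fintype.card Ω - 1) * (e * e - e) := by
    intro c
    have h6 : ∀ p ∈ (inv.offDiag).filter (fun p => p.1 • c = p.2 • c ∧ p.1 • c ≠ c),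
        p.1 • c ∈ Finset.univ.erase c := by
      intro p hp
      rw [Finset.mem_erase]
      exact ⟨(Finset.mem_filter.mp hp).2.2, Finset.mem_univ _⟩
    rw [Finset.card_eq_sum_card_fiberwise h6]
    have h7 : ∀ d ∈ Finset.univ.erase c,
        (((inv.offDiag).filter (fun p => p.1 • c = p.2 • c ∧ p.1 • c ≠ c)).filter
          (fun p => p.1 • c = d)).card = e * e - e := by
      intro d hd
      have hdc : d ≠ c := (Finset.mem_erase.mp hd).1
      rw [← zas_card_pairs_map hZ hab hodd (Ne.symm hdc)]
      congr 1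
      ext p
      simp only [Finset.mem_filter]
      constructor
      · rintro ⟨⟨hp, h8, -⟩, h10⟩
        exact ⟨hp, h10, by rw [← h8, h10]⟩
      · rintro ⟨hp, h8, h9⟩
        refine ⟨⟨hp, by rw [h8, h9], ?_⟩, h8⟩
        rw [h8]
        exact hdc
    rw [Finset.sum_congr rfl h7, Finset.sum_const, Finset.card_erase_of_mem (Finset.mem_univ _),
      Finset.card_univ, smul_eq_mul]
  rw [Finset.sum_congr rfl (fun c _ => h5 c), Finset.sum_const, Finset.card_univ,
    smul_eq_mul] at h4
  rw [h4] at h3
  exact h2.trans h3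

/-- Every pair of distinct involutions has a fixed-point-free product, a common fixed point, or
a common swapped point. -/
theorem zas_pairs_cover :
    (Finset.univ.filter (fun x : G => orderOf x = 2)).offDiag ⊆
      (((Finset.univ.filter (fun x : G => orderOf x = 2)).offDiag).filter
        (fun p => ∀ c : Ω, (p.1 * p.2) • c ≠ c)) ∪
      ((((Finset.univ.filter (fun x : G => orderOf x = 2)).offDiag).filter
        (fun p => ∃ c : Ω, p.1 • c = c ∧ p.2 • c = c)) ∪
      (((Finset.univ.filter (fun x : G => orderOf x = 2)).offDiag).filter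
        (fun p => ∃ c : Ω, p.1 • c = p.2 • c ∧ p.1 • c ≠ c))) := by
  rintro ⟨t, s⟩ hp
  have hp' := hp
  simp only [Finset.mem_offDiag, Finset.mem_filter, Finset.mem_univ, true_and] at hp'
  obtain ⟨ht, hs, hts⟩ := hp'
  simp only [Finset.mem_union, Finset.mem_filter]
  by_cases h0 : ∀ c : Ω, (t * s) • c ≠ c
  · exact Or.inl ⟨hp, h0⟩
  · push Not at h0
    obtain ⟨c, hc⟩ := h0
    have h1 : s • c = t • c := by
      have h2 := congrArg (fun z => t • z) hc
      simp only [mul_smul] at h2
      rw [involution_smul_smul ht] at h2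
      exact h2
    by_cases h3 : t • c = c
    · exact Or.inr (Or.inl ⟨hp, c, h3, h1.trans h3⟩)
    · exact Or.inr (Or.inr ⟨hp, c, h1.symm, h3⟩)

/-- In even degree no involution has a fixed point. -/
theorem zas_involution_no_fix (hn : Fintype.card Ω % 2 = 0) {x : G} (hx : orderOf x = 2)
    (c : Ω) : x • c ≠ c := by
  intro h
  have h1 := zas_involution_card_fixedBy hZ hab hodd hx
  rw [hn] at h1
  haveI : Nonempty (fixedBy Ω x) := ⟨⟨c, h⟩⟩
  have := Nat.card_pos (α := fixedBy Ω x)
  omega

/-- In odd degree each point is fixed by exactly `e` involutions. -/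
theorem zas_card_inv_fix (hn : Fintype.card Ω % 2 = 1) (c : Ω) :
    ((Finset.univ.filter (fun x : G => orderOf x = 2)).filter (fun x => x • c = c)).card =
      Nat.card ↥(stabilizer G a ⊓ stabilizer G b : Subgroup G) := by
  haveI : IsMultiplyPretransitive G Ω 2 := hZ.2.1
  haveI : IsPretransitive G Ω := isPretransitive_of_is_two_pretransitive
  set inv := Finset.univ.filter (fun x : G => orderOf x = 2) with hinv
  set e := Nat.card ↥(stabilizer G a ⊓ stabilizer G b : Subgroup G) with he
  -- all points have the same count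
  have hsame : ∀ c' : Ω, (inv.filter (fun x => x • c' = c')).card =
      (inv.filter (fun x => x • c = c)).card := by
    intro c'
    obtain ⟨g, hg⟩ := exists_smul_eq G c' c
    apply Finset.card_bij (fun x _ => g * x * g⁻¹)
    · intro x hx
      simp only [Finset.mem_filter, hinv, Finset.mem_univ, true_and] at hx ⊢
      refine ⟨?_, ?_⟩
      · have hsc : SemiconjBy g x (g * x * g⁻¹) := by
          show g * x = g * x * g⁻¹ * g
          group
        rw [← hsc.orderOf_eq]
        exact hx.1
      · rw [mul_smul, mul_smul, ← hg, inv_smul_smul, hx.2]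
    · intro x₁ _ x₂ _ h
      have h2 := congrArg (fun z => g⁻¹ * z * g) h
      have e1 : g⁻¹ * (g * x₁ * g⁻¹) * g = x₁ := by group
      have e2 : g⁻¹ * (g * x₂ * g⁻¹) * g = x₂ := by group
      rw [e1, e2] at h2
      exact h2
    · intro y hy
      simp only [Finset.mem_filter, hinv, Finset.mem_univ, true_and] at hy
      refine ⟨g⁻¹ * y * g, ?_, by group⟩
      simp only [Finset.mem_filter, hinv, Finset.mem_univ, true_and]
      refine ⟨?_, ?_⟩
      · have hsc : SemiconjBy g⁻¹ y (g⁻¹ * y * g) := by
          show g⁻¹ * y = g⁻¹ * y * g * g⁻¹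
          group
        rw [← hsc.orderOf_eq]
        exact hy.1
      · rw [mul_smul, mul_smul, hg, hy.2, ← hg, inv_smul_smul]
  -- the total
  have htot : (∑ c' : Ω, (inv.filter (fun x => x • c' = c')).card) = inv.card := by
    simp only [Finset.card_filter]
    rw [Finset.sum_comm]
    rw [Finset.card_eq_sum_ones]
    apply Finset.sum_congr rfl
    intro x hx
    have hx2 : orderOf x = 2 := (Finset.mem_filter.mp hx).2
    have h1 := zas_involution_card_fixedBy hZ hab hodd hx2
    rw [hn, Nat.card_eq_fintype_card, Fintype.card_subtype] at h1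
    rw [← Finset.card_filter]
    exact h1
  rw [Finset.sum_congr rfl (fun c' _ => hsame c'), Finset.sum_const, Finset.card_univ,
    smul_eq_mul] at htot
  have h3 := zas_card_involutions_mul hZ hab hodd
  rw [hn, ← hinv, ← he] at h3
  -- inv.card * (n - 1) = n * ((n - 1) * e), n * i = inv.card
  have hn1 : 0 < Fintype.card Ω - 1 := by
    have : 2 ≤ Fintype.card Ω := by
      rw [← Finset.card_univ]
      exact Finset.one_lt_card.mpr ⟨a, Finset.mem_univ _, b, Finset.mem_univ _, hab⟩
    omega
  have hn0 : 0 < Fintype.card Ω := by omega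
  rw [← htot] at h3
  have h4 : (Fintype.card Ω * (Fintype.card Ω - 1)) * (inv.filter (fun x => x • c = c)).card =
      (Fintype.card Ω * (Fintype.card Ω - 1)) * e := by
    calc (Fintype.card Ω * (Fintype.card Ω - 1)) * (inv.filter (fun x => x • c = c)).card
        = Fintype.card Ω * (inv.filter (fun x => x • c = c)).card * (Fintype.card Ω - 1) := by
          ring
      _ = Fintype.card Ω * ((Fintype.card Ω - 1) * e) := h3
      _ = (Fintype.card Ω * (Fintype.card Ω - 1)) * e := by ring
  exact Nat.eq_of_mul_eq_mul_left (Nat.mul_pos hn0 hn1) h4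

/-- Pairs of distinct involutions with a common fixed point. -/
theorem zas_card_pairs_one (hn : Fintype.card Ω % 2 = 1) :
    (((Finset.univ.filter (fun x : G => orderOf x = 2)).offDiag).filter
      (fun p => ∃ c : Ω, p.1 • c = c ∧ p.2 • c = c)).card ≤
      Fintype.card Ω *
        (Nat.card ↥(stabilizer G a ⊓ stabilizer G b : Subgroup G) *
          Nat.card ↥(stabilizer G a ⊓ stabilizer G b : Subgroup G) -
          Nat.card ↥(stabilizer G a ⊓ stabilizer G b : Subgroup G)) := by
  set inv := Finset.univ.filter (fun x : G => orderOf x = 2) with hinv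
  set e := Nat.card ↥(stabilizer G a ⊓ stabilizer G b : Subgroup G) with he
  have h1 : (inv.offDiag).filter (fun p => ∃ c : Ω, p.1 • c = c ∧ p.2 • c = c) ⊆
      (Finset.univ : Finset Ω).biUnion
        (fun c => (inv.filter (fun x => x • c = c)).offDiag) := by
    rintro ⟨t, s⟩ hp
    simp only [Finset.mem_filter, Finset.mem_offDiag] at hp
    obtain ⟨⟨ht, hs, hts⟩, c, hc1, hc2⟩ := hp
    simp only [Finset.mem_biUnion, Finset.mem_univ, true_and, Finset.mem_offDiag,
      Finset.mem_filter]
    exact ⟨c, ⟨ht, hc1⟩, ⟨hs, hc2⟩, hts⟩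
  refine (Finset.card_le_card h1).trans ?_
  rw [← Finset.card_univ (α := Ω)]
  apply Finset.card_biUnion_le_card_mul
  intro c _
  rw [Finset.offDiag_card, zas_card_inv_fix hZ hab hodd hn c]

end

end Cfsg.Agent.Helper6
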