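import Mathlib
import Cfsg.Agent.Helper6.ZasInvB
import Cfsg.Agent.Helper6.ColumnOrth

/-!
# Zassenhaus groups: the elements fixing exactly one point, and centralisers of involutions
-/

set_option autoImplicit false
set_option linter.style.haveILetI false
set_option linter.unusedSectionVars false

namespace Cfsg.Agent.Helper6

open MulAction Cfsg.Agent.Helper2

variable {G Ω : Type*} [Group G] [MulAction G Ω]

section

variable [Fintype G] [DecidableEq G] [Fintype Ω] [DecidableEq Ω]
  (hZ : Cfsg.IsZassenhausGroup G Ω) {a b : Ω} (hab : a ≠ b)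

include hZ hab

/-- The number of elements fixing `a` and `c`. -/
theorem zas_card_filter_two_stab {c : Ω} (hc : c ≠ a) :
    (Finset.univ.filter (fun g : G => g • a = a ∧ g • c = c)).card =
      Nat.card ↥(stabilizer G a ⊓ stabilizer G b : Subgroup G) := by
  classical
  rw [← zas_card_two_stab_eq hZ hab (Ne.symm hc), Nat.card_eq_fintype_card, Fintype.card_subtype]
  congr 1
  ext g
  simp only [Finset.mem_filter, Finset.mem_univ, true_and]
  exact ZasOdd.mem_HH.symm

/-- The order of a point stabiliser. -/
theorem zas_card_stab_filter :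
    (Finset.univ.filter (fun g : G => g • a = a)).card =
      (Fintype.card Ω - 1) * Nat.card ↥(stabilizer G a ⊓ stabilizer G b : Subgroup G) := by
  classical
  have h1 : ∀ g ∈ Finset.univ.filter (fun g : G => g • a = a), g • b ∈ Finset.univ.erase a := by
    intro g hg
    rw [Finset.mem_erase]
    refine ⟨?_, Finset.mem_univ _⟩
    intro h
    have hga : g • a = a := (Finset.mem_filter.mp hg).2
    exact hab (smul_left_cancel g (hga.trans h.symm))
  rw [Finset.card_eq_sum_card_fiberwise h1]
  have h2 : ∀ c ∈ Finset.univ.erase a,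
      ((Finset.univ.filter (fun g : G => g • a = a)).filter (fun g => g • b = c)).card =
        Nat.card ↥(stabilizer G a ⊓ stabilizer G b : Subgroup G) := by
    intro c hc
    have hca : c ≠ a := (Finset.mem_erase.mp hc).1
    obtain ⟨g₀, hg₀a, hg₀b⟩ := zas_two_trans hZ hab (Ne.symm hca)
    rw [Nat.card_eq_fintype_card, Fintype.card_subtype]
    apply Finset.card_bij (fun g _ => g₀⁻¹ * g)
    · intro g hg
      simp only [Finset.mem_filter, Finset.mem_univ, true_and] at hg ⊢
      apply ZasOdd.mem_HH.mpr
      constructor
      · rw [mul_smul, hg.1, ← hg₀a, inv_smul_smul, hg₀a]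
      · rw [mul_smul, hg.2, ← hg₀b, inv_smul_smul]
    · intro g₁ _ g₂ _ h
      exact mul_left_cancel h
    · intro y hy
      simp only [Finset.mem_filter, Finset.mem_univ, true_and] at hy
      have hy' := ZasOdd.mem_HH.mp hy
      refine ⟨g₀ * y, ?_, by group⟩
      simp only [Finset.mem_filter, Finset.mem_univ, true_and]
      constructor
      · rw [mul_smul, hy'.1, hg₀a]
      · rw [mul_smul, hy'.2, hg₀b]
  rw [Finset.sum_congr rfl h2, Finset.sum_const, Finset.card_erase_of_mem (Finset.mem_univ _),
    Finset.card_univ, smul_eq_mul]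

/-- The order of the group. -/
theorem zas_card_group :
    Fintype.card G = Fintype.card Ω *
      ((Fintype.card Ω - 1) * Nat.card ↥(stabilizer G a ⊓ stabilizer G b : Subgroup G)) := by
  classical
  haveI : IsMultiplyPretransitive G Ω 2 := hZ.2.1
  haveI : IsPretransitive G Ω := isPretransitive_of_is_two_pretransitive
  rw [← zas_card_stab_filter hZ hab]
  haveI : Fintype (orbit G a) := Fintype.ofFinite _
  have h1 := MulAction.card_orbit_mul_card_stabilizer_eq_card_group G a
  rw [← h1]
  congr 1
  · rw [← Nat.card_eq_fintype_card, ← Nat.card_eq_fintype_card, MulAction.orbit_eq_univ]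
    exact Nat.card_congr (Equiv.Set.univ Ω)
  · rw [Fintype.card_subtype]
    congr 1

/-- The elements of `G_a` fixing no other point, together with `1`, are `|Ω| - 1` in number. -/
theorem zas_card_kernel_filter :
    (Finset.univ.filter (fun g : G => g • a = a ∧ (g = 1 ∨ ∀ c : Ω, g • c = c → c = a))).card =
      Fintype.card Ω - 1 := by
  set A' := Finset.univ.filter (fun g : G => g • a = a) with hA'
  set K := Finset.univ.filter
    (fun g : G => g • a = a ∧ (g = 1 ∨ ∀ c : Ω, g • c = c → c = a)) with hK
  set e := Nat.card ↥(stabilizer G a ⊓ stabilizer G b : Subgroup G) with he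
  have hKA : K ⊆ A' := by
    intro g hg
    simp only [hK, hA', Finset.mem_filter, Finset.mem_univ, true_and] at hg ⊢
    exact hg.1
  have h1K : (1 : G) ∈ K := by
    simp [hK]
  -- the double count
  have hsw : (∑ g ∈ A', ∑ c ∈ Finset.univ.erase a, if g • c = c then 1 else 0) =
      ∑ c ∈ Finset.univ.erase a, ∑ g ∈ A', if g • c = c then 1 else 0 := Finset.sum_comm
  have hR : ∀ c ∈ Finset.univ.erase a, (∑ g ∈ A', if g • c = c then 1 else 0) = e := by
    intro c hc
    have hca : c ≠ a := (Finset.mem_erase.mp hc).1
    rw [Finset.sum_boole]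
    simp only [Nat.cast_id]
    rw [he, ← zas_card_filter_two_stab hZ hab hca, hA', Finset.filter_filter]
  have hL1 : ∀ g ∈ K, (∑ c ∈ Finset.univ.erase a, if g • c = c then 1 else 0) =
      if g = 1 then Fintype.card Ω - 1 else 0 := by
    intro g hg
    simp only [hK, Finset.mem_filter, Finset.mem_univ, true_and] at hg
    split_ifs with h1
    · rw [h1]
      simp only [one_smul, if_true, Finset.sum_const, smul_eq_mul, mul_one]
      rw [Finset.card_erase_of_mem (Finset.mem_univ _), Finset.card_univ]
    · apply Finset.sum_eq_zero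
      intro c hc
      have hca : c ≠ a := (Finset.mem_erase.mp hc).1
      rw [if_neg]
      intro h
      exact hca ((hg.2.resolve_left h1) c h)
  have hL2 : ∀ g ∈ A' \ K, (∑ c ∈ Finset.univ.erase a, if g • c = c then 1 else 0) = 1 := by
    intro g hg
    rw [Finset.mem_sdiff] at hg
    have hga : g • a = a := by
      have := hg.1
      simp only [hA', Finset.mem_filter, Finset.mem_univ, true_and] at this
      exact this
    have hgK : ¬ (g = 1 ∨ ∀ c : Ω, g • c = c → c = a) := by
      intro h
      apply hg.2
      simp only [hK, Finset.mem_filter, Finset.mem_univ, true_and]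
      exact ⟨hga, h⟩
    push Not at hgK
    obtain ⟨hg1, c₀, hc₀, hc₀a⟩ := hgK
    rw [Finset.sum_eq_single c₀]
    · rw [if_pos hc₀]
    · intro c hc hcc₀
      have hca : c ≠ a := (Finset.mem_erase.mp hc).1
      rw [if_neg]
      intro h
      exact hg1 (hZ.2.2.1 g a c₀ c (Ne.symm hc₀a) (Ne.symm hcc₀) (Ne.symm hca) hga hc₀ h)
    · intro h
      exfalso
      apply h
      rw [Finset.mem_erase]
      exact ⟨hc₀a, Finset.mem_univ _⟩
  have hsplit : (∑ g ∈ A', ∑ c ∈ Finset.univ.erase a, if g • c = c then 1 else 0) =
      (Fintype.card Ω - 1) + (A' \ K).card := by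
    rw [← Finset.sum_sdiff hKA, Finset.sum_congr rfl hL2, Finset.sum_congr rfl hL1,
      Finset.sum_const, smul_eq_mul, mul_one, Finset.sum_ite_eq' K 1, if_pos h1K, add_comm]
  rw [hsplit, Finset.sum_congr rfl hR, Finset.sum_const,
    Finset.card_erase_of_mem (Finset.mem_univ _), Finset.card_univ, smul_eq_mul] at hsw
  have hA'card := zas_card_stab_filter hZ hab
  rw [← hA', ← he] at hA'card
  have hsd : (A' \ K).card = A'.card - K.card := Finset.card_sdiff_of_subset hKA
  have hle : K.card ≤ A'.card := Finset.card_le_card hKA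
  rw [hsd, hA'card] at hsw
  rw [hA'card] at hle
  omega

end

section

variable [Fintype G] [DecidableEq G] [Fintype Ω] [DecidableEq Ω]
  (hZ : Cfsg.IsZassenhausGroup G Ω) {a b : Ω} (hab : a ≠ b)
  [IsSimpleGroup G]
  (hodd : Odd (Nat.card ↥(stabilizer G a ⊓ stabilizer G b : Subgroup G)))

include hZ hab hodd

/-- In odd degree, the centraliser of an involution has order `|Ω| - 1`. -/
theorem zas_card_centralizer_involution (hn : Fintype.card Ω % 2 = 1) {x : G}
    (hx : orderOf x = 2) :
    Nat.card (Subgroup.centralizer ({x} : Set G)) = Fintype.card Ω - 1 := by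
  have h1 := card_conj_mul_card_centralizer x
  have h2 : Nat.card {x' : G // IsConj x x'} =
      (Finset.univ.filter (fun x : G => orderOf x = 2)).card := by
    rw [Nat.card_eq_fintype_card, Fintype.card_subtype]
    congr 1
    ext x'
    simp only [Finset.mem_filter, Finset.mem_univ, true_and]
    constructor
    · intro h
      obtain ⟨c, hc⟩ := isConj_iff.mp h
      have hsc : SemiconjBy c x x' := by
        show c * x = x' * c
        rw [← hc]
        group
      rw [← hsc.orderOf_eq]
      exact hx
    · intro h
      exact zas_involutions_isConj hZ hab hodd hx h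
  have h3 := zas_card_involutions_mul hZ hab hodd
  have h4 := zas_card_group hZ hab
  rw [hn] at h3
  rw [h2, Nat.card_eq_fintype_card (α := G), h4] at h1
  set I := (Finset.univ.filter (fun x : G => orderOf x = 2)).card
  set e := Nat.card ↥(stabilizer G a ⊓ stabilizer G b : Subgroup G)
  set n := Fintype.card Ω
  set C := Nat.card (Subgroup.centralizer ({x} : Set G))
  -- I * (n-1) = n * ((n-1) * e), I * C = n * ((n-1) * e)
  have hIpos : 0 < I := by
    apply Finset.card_pos.mpr
    exact ⟨x, by simp only [Finset.mem_filter, Finset.mem_univ, true_and]; exact hx⟩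
  have h5 : I * C = I * (n - 1) := by rw [h1, h3]
  exact Nat.eq_of_mul_eq_mul_left hIpos h5

end

end Cfsg.Agent.Helper6
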