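import Mathlib
import Cfsg.Agent.Helper6.ZasClsA
import Cfsg.Agent.Helper6.ZasClsB
import Cfsg.Agent.Helper6.ZasInvE

/-!
# Zassenhaus groups: conjugacy classes of fixed-point-free elements
-/

set_option autoImplicit false
set_option linter.style.haveILetI false
set_option linter.unusedSectionVars false

namespace Cfsg.Agent.Helper6

open MulAction Cfsg.Agent.Helper2

variable {G Ω : Type*} [Group G] [MulAction G Ω]

section

variable [Fintype G] [DecidableEq G] [Fintype Ω] [DecidableEq Ω]
  (hZ : Cfsg.IsZassenhausGroup G Ω) {a b : Ω} (hab : a ≠ b)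
  [IsSimpleGroup G]
  (hodd : Odd (Nat.card ↥(stabilizer G a ⊓ stabilizer G b : Subgroup G)))

include hZ hab hodd

/-- Pairs of distinct involutions with fixed-point-free product are at most the number of
fixed-point-free classes times the group order. -/
theorem zas_card_pairs_zero_le [Fintype (ConjClasses G)] [DecidableEq (ConjClasses G)] :
    (((Finset.univ.filter (fun x : G => orderOf x = 2)).offDiag).filter
        (fun p => ∀ c : Ω, (p.1 * p.2) • c ≠ c)).card ≤
      (Finset.univ.filter (fun C : ConjClasses G =>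
        ∃ g, ConjClasses.mk g = C ∧ ∀ c : Ω, g • c ≠ c)).card * Fintype.card G := by
  classical
  set inv := Finset.univ.filter (fun x : G => orderOf x = 2) with hinv
  have hP : ∀ g x : G, (∀ c : Ω, g • c ≠ c) → ∀ c : Ω, (x * g * x⁻¹) • c ≠ c := by
    intro g x hg c h
    apply hg (x⁻¹ • c)
    have h2 := congrArg (fun z => x⁻¹ • z) h
    simp only [mul_smul, inv_smul_smul] at h2
    exact h2
  rw [← sum_card_centralizer_filter (fun g : G => ∀ c : Ω, g • c ≠ c) hP]
  -- the intermediate set of pairs (g, t)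
  set T := (Finset.univ.filter (fun g : G => ∀ c : Ω, g • c ≠ c)).sigma
    (fun g => Finset.univ.filter (fun t : G => t * g * t⁻¹ = g⁻¹)) with hT
  have h1 : ((inv.offDiag).filter (fun p => ∀ c : Ω, (p.1 * p.2) • c ≠ c)).card ≤ T.card := by
    apply Finset.card_le_card_of_injOn (fun p => ⟨p.1 * p.2, p.1⟩)
    · rintro ⟨t, s⟩ hp
      simp only [Finset.coe_filter, Finset.mem_offDiag, hinv, Finset.mem_filter, Finset.mem_univ,
        true_and, Set.mem_ofPred_eq] at hp
      obtain ⟨⟨ht, hs, -⟩, hfpf⟩ := hp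
      simp only [hT, Finset.coe_sigma, Set.mem_sigma_iff, Finset.coe_filter, Finset.mem_univ,
        true_and, Set.mem_ofPred_eq]
      refine ⟨hfpf, ?_⟩
      have ht2 := involution_mul_self ht
      have hs2 := involution_mul_self hs
      have htinv : t⁻¹ = t := inv_eq_of_mul_eq_one_left ht2
      have hsinv : s⁻¹ = s := inv_eq_of_mul_eq_one_left hs2
      rw [mul_inv_rev, htinv, hsinv]
      calc t * (t * s) * t = (t * t) * s * t := by group
        _ = s * t := by rw [ht2, one_mul]
    · rintro ⟨t₁, s₁⟩ _ ⟨t₂, s₂⟩ _ h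
      simp only [Sigma.mk.injEq, heq_eq_eq] at h
      obtain ⟨h1, h2⟩ := h
      rw [h2] at h1
      rw [h2, mul_left_cancel h1]
  refine h1.trans ?_
  rw [hT, Finset.card_sigma]
  apply Finset.sum_le_sum
  intro g _
  exact card_inverting_le g

/-- Conjugate non-identity elements of a two-point stabiliser are equal or inverse. -/
theorem zas_conj_in_two_stab {x y : G} (hx : x ∈ stabilizer G a ⊓ stabilizer G b)
    (hx1 : x ≠ 1) (hy : y ∈ stabilizer G a ⊓ stabilizer G b) (hxy : IsConj x y) :
    y = x ∨ y = x⁻¹ := by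
  obtain ⟨g, hg⟩ := isConj_iff.mp hxy
  have hya := (ZasOdd.mem_HH.mp hy).1
  have hyb := (ZasOdd.mem_HH.mp hy).2
  have hfix : ∀ c : Ω, y • c = c → x • (g⁻¹ • c) = g⁻¹ • c := by
    intro c hc
    rw [← hg] at hc
    have h2 := congrArg (fun z => g⁻¹ • z) hc
    simp only [mul_smul, inv_smul_smul] at h2
    exact h2
  have h1 := ZasOdd.fix_cases hZ hab hx hx1 (hfix a hya)
  have h2 := ZasOdd.fix_cases hZ hab hx hx1 (hfix b hyb)
  have hne : g⁻¹ • a ≠ g⁻¹ • b := fun h => hab (smul_left_cancel _ h)
  rcases h1 with h1 | h1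
  · rcases h2 with h2 | h2
    · exact absurd (h1.trans h2.symm) hne
    · -- g⁻¹ ∈ E, so y = x
      left
      have hgE : g⁻¹ ∈ stabilizer G a ⊓ stabilizer G b := ZasOdd.mem_HH.mpr ⟨h1, h2⟩
      have hcomm := ZasOdd.HH_comm hZ hab hodd (zas_simple_no_complement hZ hab hodd)
        g⁻¹ hgE x hx
      rw [← hg]
      have h3 : g * x * g⁻¹ = g * (x * g⁻¹) := by group
      rw [h3, ← hcomm]
      group
  · rcases h2 with h2 | h2
    · -- g swaps
      right
      have hga : g • a = b := by
        have h0 : g • (g⁻¹ • b) = b := smul_inv_smul _ _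
        rw [h2] at h0
        exact h0
      have hgb : g • b = a := by
        have h0 : g • (g⁻¹ • a) = a := smul_inv_smul _ _
        rw [h1] at h0
        exact h0
      rw [← hg]
      exact zas_swap_inverts hZ hab hodd hab hga hgb hx
    · exact absurd (h1.trans h2.symm) hne

end

end Cfsg.Agent.Helper6
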