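import Mathlib
import Cfsg.Agent.Helper6.ZasClsC

/-!
# Zassenhaus groups: at least `e` conjugacy classes miss the Frobenius kernel of `G_a`
-/

set_option autoImplicit false
set_option linter.style.haveILetI false
set_option linter.unusedSectionVars false

namespace Cfsg.Agent.Helper6

open MulAction Cfsg.Agent.Helper2

theorem zas_arith_even (h e' k₀ I P0 P1 P2 : ℕ) (hpos : 0 < h)
    (hI : I * h = (h + 1) * (h * (e' + 1)))
    (hcover : I * I - I ≤ P0 + P1 + P2)
    (hP0 : P0 ≤ k₀ * ((h + 1) * (h * (e' + 1))))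
    (hP1 : P1 ≤ (h + 1) * ((e' + 1) * (e' + 1) - (e' + 1)))
    (hP2 : 2 * P2 ≤ (h + 1) * (h * ((e' + 1) * (e' + 1) - (e' + 1)))) :
    e' + 2 ≤ 2 * k₀ := by
  have hsub : (e' + 1) * (e' + 1) - (e' + 1) = (e' + 1) * e' := by
    apply Nat.sub_eq_of_eq_add
    ring
  rw [hsub] at hP1 hP2
  have hIA : I = (h + 1) * (e' + 1) := by
    apply Nat.eq_of_mul_eq_mul_right hpos
    rw [hI]
    ring
  subst hIA
  have hApos : 0 < (h + 1) * (e' + 1) := Nat.mul_pos (Nat.succ_pos _) (Nat.succ_pos _)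
  have h1 : (h + 1) * (e' + 1) * ((h + 1) * (e' + 1)) ≤
      P0 + P1 + P2 + (h + 1) * (e' + 1) := by omega
  have key : (h + 1) * (e' + 1) * (2 * ((h + 1) * (e' + 1))) ≤
      (h + 1) * (e' + 1) * (2 * k₀ * h + 2 * e' + h * e' + 2) := by
    calc (h + 1) * (e' + 1) * (2 * ((h + 1) * (e' + 1)))
        = 2 * ((h + 1) * (e' + 1) * ((h + 1) * (e' + 1))) := by ring
      _ ≤ 2 * (k₀ * ((h + 1) * (h * (e' + 1)))) + 2 * ((h + 1) * ((e' + 1) * e')) +
          (h + 1) * (h * ((e' + 1) * e')) + 2 * ((h + 1) * (e' + 1)) := by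
        linarith
      _ = (h + 1) * (e' + 1) * (2 * k₀ * h + 2 * e' + h * e' + 2) := by ring
  have h2 : 2 * ((h + 1) * (e' + 1)) ≤ 2 * k₀ * h + 2 * e' + h * e' + 2 :=
    Nat.le_of_mul_le_mul_left key hApos
  have h3 : h * (e' + 2) ≤ h * (2 * k₀) := by
    nlinarith
  exact Nat.le_of_mul_le_mul_left h3 hpos

theorem zas_arith_odd (h e' k₀ I P0 P2 : ℕ) (hpos : 0 < h) (he' : Even e')
    (hlt : 2 * (e' + 1) < h - 1)
    (hI : I * (h + 1) = (h + 1) * (h * (e' + 1)))
    (hcover : I * I - I ≤ P0 + P2)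
    (hP0 : P0 ≤ k₀ * ((h + 1) * (h * (e' + 1))))
    (hP2 : 2 * P2 ≤ (h + 1) * (h * ((e' + 1) * (e' + 1) - (e' + 1)))) :
    e' + 2 ≤ 2 * k₀ := by
  have hsub : (e' + 1) * (e' + 1) - (e' + 1) = (e' + 1) * e' := by
    apply Nat.sub_eq_of_eq_add
    ring
  rw [hsub] at hP2
  have hIB : I = h * (e' + 1) := by
    apply Nat.eq_of_mul_eq_mul_right (by omega : 0 < h + 1)
    rw [hI]
    ring
  subst hIB
  have hBpos : 0 < h * (e' + 1) := Nat.mul_pos hpos (Nat.succ_pos _)
  have h1 : h * (e' + 1) * (h * (e' + 1)) ≤ P0 + P2 + h * (e' + 1) := by omega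
  have key : h * (e' + 1) * (2 * (h * (e' + 1))) ≤
      h * (e' + 1) * (2 * k₀ * (h + 1) + (h + 1) * e' + 2) := by
    calc h * (e' + 1) * (2 * (h * (e' + 1)))
        = 2 * (h * (e' + 1) * (h * (e' + 1))) := by ring
      _ ≤ 2 * (k₀ * ((h + 1) * (h * (e' + 1)))) +
          (h + 1) * (h * ((e' + 1) * e')) + 2 * (h * (e' + 1)) := by
        linarith
      _ = h * (e' + 1) * (2 * k₀ * (h + 1) + (h + 1) * e' + 2) := by ring
  have h2 : 2 * (h * (e' + 1)) ≤ 2 * k₀ * (h + 1) + (h + 1) * e' + 2 :=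
    Nat.le_of_mul_le_mul_left key hBpos
  by_contra hcon
  push Not at hcon
  obtain ⟨m, hm⟩ := he'
  have h4 : 2 * k₀ ≤ e' := by omega
  have h5 : 2 * k₀ * (h + 1) ≤ e' * (h + 1) := Nat.mul_le_mul_right _ h4
  have h6 : 2 * h ≤ 2 * e' + 2 := by nlinarith
  omega

variable {G Ω : Type*} [Group G] [MulAction G Ω]

section

variable [Fintype G] [DecidableEq G] [Fintype Ω] [DecidableEq Ω]
  (hZ : Cfsg.IsZassenhausGroup G Ω) {a b : Ω} (hab : a ≠ b)
  [IsSimpleGroup G]
  (hodd : Odd (Nat.card ↥(stabilizer G a ⊓ stabilizer G b : Subgroup G)))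

include hZ hab hodd

open Classical in
/-- The non-identity elements of a two-point stabiliser lie in at least `(e - 1) / 2` classes. -/
theorem zas_card_two_stab_classes [Fintype (ConjClasses G)] [DecidableEq (ConjClasses G)] :
    Nat.card ↥(stabilizer G a ⊓ stabilizer G b : Subgroup G) - 1 ≤
      2 * ((Finset.univ.filter
        (fun x : G => x ∈ stabilizer G a ⊓ stabilizer G b ∧ x ≠ 1)).image ConjClasses.mk).card := by
  classical
  set s := Finset.univ.filter (fun x : G => x ∈ stabilizer G a ⊓ stabilizer G b ∧ x ≠ 1) with hs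
  have hcard : s.card = Nat.card ↥(stabilizer G a ⊓ stabilizer G b : Subgroup G) - 1 := by
    have h1 : s = (Finset.univ.filter
        (fun x : G => x ∈ stabilizer G a ⊓ stabilizer G b)).erase 1 := by
      ext x
      simp only [hs, Finset.mem_filter, Finset.mem_univ, true_and, Finset.mem_erase]
      tauto
    rw [h1, Finset.card_erase_of_mem, Nat.card_eq_fintype_card, Fintype.card_subtype]
    simp only [Finset.mem_filter, Finset.mem_univ, true_and]
    exact one_mem _
  rw [← hcard]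
  apply Finset.card_le_mul_card_image
  intro C hC
  obtain ⟨x₀, hx₀, rfl⟩ := Finset.mem_image.mp hC
  simp only [hs, Finset.mem_filter, Finset.mem_univ, true_and] at hx₀
  have hsub : s.filter (fun x => ConjClasses.mk x = ConjClasses.mk x₀) ⊆ {x₀, x₀⁻¹} := by
    intro x hx
    simp only [hs, Finset.mem_filter, Finset.mem_univ, true_and] at hx
    have hconj : IsConj x₀ x := (ConjClasses.mk_eq_mk_iff_isConj.mp hx.2).symm
    rcases zas_conj_in_two_stab hZ hab hodd hx₀.1 hx₀.2 hx.1.1 hconj with h | h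
    · rw [h]; exact Finset.mem_insert_self _ _
    · rw [h]; exact Finset.mem_insert_of_mem (Finset.mem_singleton_self _)
  exact (Finset.card_le_card hsub).trans Finset.card_le_two

open Classical in
/-- At least `e` classes contain no element of `H`. -/
theorem zas_card_classes_missing [Fintype (ConjClasses G)] [DecidableEq (ConjClasses G)]
    (h e : ℕ) (hh : Fintype.card Ω = h + 1)
    (he : Nat.card ↥(stabilizer G a ⊓ stabilizer G b : Subgroup G) = e) (hlt : 2 * e < h - 1)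
    (H : Subgroup G) (hHa : H ≤ stabilizer G a)
    (hHfix : ∀ u ∈ H, u ≠ 1 → ∀ c : Ω, u • c = c → c = a) :
    e ≤ (Finset.univ.filter
      (fun C : ConjClasses G => ∀ g : G, ConjClasses.mk g = C → g ∉ H)).card := by
  classical
  set 𝒯 := Finset.univ.filter
    (fun C : ConjClasses G => ∀ g : G, ConjClasses.mk g = C → g ∉ H) with h𝒯
  set 𝒞₀ := Finset.univ.filter (fun C : ConjClasses G =>
    ∃ g, ConjClasses.mk g = C ∧ ∀ c : Ω, g • c ≠ c) with h𝒞₀
  set 𝒞₂ := (Finset.univ.filter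
    (fun x : G => x ∈ stabilizer G a ⊓ stabilizer G b ∧ x ≠ 1)).image ConjClasses.mk with h𝒞₂
  have hsub0 : 𝒞₀ ⊆ 𝒯 := by
    intro C hC
    simp only [h𝒞₀, h𝒯, Finset.mem_filter, Finset.mem_univ, true_and] at hC ⊢
    obtain ⟨g₀, rfl, hg₀⟩ := hC
    intro g hg hgH
    obtain ⟨x, hx⟩ := isConj_iff.mp (ConjClasses.mk_eq_mk_iff_isConj.mp hg)
    -- g fixes a, so g₀ fixes x • a
    have hga : g • a = a := mem_stabilizer_iff.mp (hHa hgH)
    apply hg₀ (x • a)
    rw [← hx, mul_smul, mul_smul, inv_smul_smul, hga]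
  have hsub2 : 𝒞₂ ⊆ 𝒯 := by
    intro C hC
    simp only [h𝒞₂, Finset.mem_image, Finset.mem_filter, Finset.mem_univ, true_and] at hC
    obtain ⟨x₀, ⟨hx₀E, hx₀1⟩, rfl⟩ := hC
    simp only [h𝒯, Finset.mem_filter, Finset.mem_univ, true_and]
    intro g hg hgH
    obtain ⟨y, hy⟩ := isConj_iff.mp (ConjClasses.mk_eq_mk_iff_isConj.mp hg)
    -- x₀ = y g y⁻¹, g = y⁻¹ x₀ y fixes y⁻¹ a and y⁻¹ b
    have hx₀ := ZasOdd.mem_HH.mp hx₀E
    have hg1 : g ≠ 1 := by
      intro h
      apply hx₀1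
      rw [← hy, h]
      group
    have hfix : ∀ c : Ω, x₀ • c = c → g • (y⁻¹ • c) = y⁻¹ • c := by
      intro c hc
      rw [← hy] at hc
      have h2 := congrArg (fun z => y⁻¹ • z) hc
      simp only [mul_smul, inv_smul_smul] at h2
      exact h2
    have h1 := hHfix g hgH hg1 _ (hfix a hx₀.1)
    have h2 := hHfix g hgH hg1 _ (hfix b hx₀.2)
    exact hab (smul_left_cancel _ (h1.trans h2.symm))
  have hdisj : Disjoint 𝒞₀ 𝒞₂ := by
    rw [Finset.disjoint_left]
    intro C hC0 hC2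
    simp only [h𝒞₀, Finset.mem_filter, Finset.mem_univ, true_and] at hC0
    simp only [h𝒞₂, Finset.mem_image, Finset.mem_filter, Finset.mem_univ, true_and] at hC2
    obtain ⟨g₀, rfl, hg₀⟩ := hC0
    obtain ⟨x₀, ⟨hx₀E, -⟩, hx₀⟩ := hC2
    obtain ⟨y, hy⟩ := isConj_iff.mp (ConjClasses.mk_eq_mk_iff_isConj.mp hx₀)
    have hx₀a := (ZasOdd.mem_HH.mp hx₀E).1
    apply hg₀ (y • a)
    rw [← hy, mul_smul, mul_smul, inv_smul_smul, hx₀a]
  have hcard : 𝒞₀.card + 𝒞₂.card ≤ 𝒯.card := by
    rw [← Finset.card_union_of_disjoint hdisj]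
    exact Finset.card_le_card (Finset.union_subset hsub0 hsub2)
  have h2 := zas_card_two_stab_classes hZ hab hodd
  rw [← h𝒞₂, he] at h2
  -- the count of fixed-point-free classes
  have hcover := Finset.card_le_card (zas_pairs_cover hZ hab hodd)
  rw [Finset.offDiag_card] at hcover
  have hP0 := zas_card_pairs_zero_le hZ hab hodd
  rw [← h𝒞₀, zas_card_group hZ hab, he, hh] at hP0
  have hP2 := zas_two_mul_card_pairs_two hZ hab hodd
  rw [he, hh] at hP2
  have hI := zas_card_involutions_mul hZ hab hodd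
  rw [he, hh] at hI
  have hodde : Odd e := he ▸ hodd
  have he1 : 1 ≤ e := by
    obtain ⟨k, hk⟩ := hodde
    omega
  obtain ⟨e', rfl⟩ : ∃ e', e = e' + 1 := ⟨e - 1, by omega⟩
  have hpos : 0 < h := by omega
  have h3 : h + 1 - 1 = h := by omega
  rw [h3] at hP0 hP2 hI
  have hkey : e' + 2 ≤ 2 * 𝒞₀.card := by
    rcases Nat.even_or_odd h with hev | hod
    · have hmod : (h + 1) % 2 = 1 := by
        obtain ⟨k, hk⟩ := hev
        omega
      rw [hmod, h3] at hI
      have hP1 := zas_card_pairs_one hZ hab hodd (by rw [hh]; exact hmod)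
      rw [he, hh] at hP1
      refine zas_arith_even h e' _ _ _ _ _ hpos hI ?_ hP0 hP1 hP2
      refine hcover.trans ((Finset.card_union_le _ _).trans ?_)
      have := Finset.card_union_le
        (((Finset.univ.filter (fun x : G => orderOf x = 2)).offDiag).filter
          (fun p => ∃ c : Ω, p.1 • c = c ∧ p.2 • c = c))
        (((Finset.univ.filter (fun x : G => orderOf x = 2)).offDiag).filter
          (fun p => ∃ c : Ω, p.1 • c = p.2 • c ∧ p.1 • c ≠ c))
      omega
    · have hmod : (h + 1) % 2 = 0 := by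
        obtain ⟨k, hk⟩ := hod
        omega
      rw [hmod, Nat.sub_zero] at hI
      have hP1 : (((Finset.univ.filter (fun x : G => orderOf x = 2)).offDiag).filter
          (fun p => ∃ c : Ω, p.1 • c = c ∧ p.2 • c = c)) = ∅ := by
        rw [Finset.eq_empty_iff_forall_notMem]
        rintro ⟨t, s⟩ hp
        simp only [Finset.mem_filter, Finset.mem_offDiag, Finset.mem_univ, true_and] at hp
        obtain ⟨⟨ht, -, -⟩, c, hc, -⟩ := hp
        exact zas_involution_no_fix hZ hab hodd (by rw [hh]; exact hmod) ht c hc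
      have he'ev : Even e' := by
        obtain ⟨k, hk⟩ := hodde
        exact ⟨k, by omega⟩
      refine zas_arith_odd h e' _ _ _ _ hpos he'ev hlt hI ?_ hP0 hP2
      refine hcover.trans ((Finset.card_union_le _ _).trans ?_)
      rw [hP1, Finset.empty_union]
  omega

end

end Cfsg.Agent.Helper6
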