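import Mathlib
import Cfsg.Agent.Helper6.ZasInvE

/-!
# Zassenhaus groups: involutions fixing the same point commute
-/

set_option autoImplicit false
set_option linter.style.haveILetI false
set_option linter.unusedSectionVars false

namespace Cfsg.Agent.Helper6

open MulAction Cfsg.Agent.Helper2

variable {G Ω : Type*} [Group G] [MulAction G Ω]

section

variable [Finite G] [Fintype Ω]
  (hZ : Cfsg.IsZassenhausGroup G Ω) {a b : Ω} (hab : a ≠ b)
  [IsSimpleGroup G]
  (hodd : Odd (Nat.card ↥(stabilizer G a ⊓ stabilizer G b : Subgroup G)))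

include hZ hab hodd

/-- In odd degree an involution fixing `a` fixes nothing else. -/
theorem zas_involution_fix_unique (hn : Fintype.card Ω % 2 = 1) {x : G}
    (hx : orderOf x = 2) {a' : Ω} (hxa : x • a' = a') {c : Ω} (hc : x • c = c) : c = a' := by
  have h1 := zas_involution_card_fixedBy hZ hab hodd hx
  rw [hn] at h1
  obtain ⟨hs, -⟩ := Nat.card_eq_one_iff_unique.mp h1
  have h2 : (⟨c, hc⟩ : fixedBy Ω x) = ⟨a', hxa⟩ := Subsingleton.elim _ _
  exact congrArg Subtype.val h2

/-- The centraliser of an involution fixing `a` consists of elements of `G_a` fixing no other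
point (and `1`). -/
theorem zas_centralizer_involution_subset (hn : Fintype.card Ω % 2 = 1) {x : G}
    (hx : orderOf x = 2) {a' : Ω} (hxa : x • a' = a') {z : G}
    (hz : z ∈ Subgroup.centralizer ({x} : Set G)) :
    z • a' = a' ∧ (z = 1 ∨ ∀ c : Ω, z • c = c → c = a') := by
  have hcomm : x * z = z * x := Subgroup.mem_centralizer_iff.mp hz x rfl
  have hza : z • a' = a' := by
    apply zas_involution_fix_unique hZ hab hodd hn hx hxa
    rw [smul_smul, hcomm, mul_smul, hxa]
  refine ⟨hza, ?_⟩
  by_contra hcon
  push Not at hcon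
  obtain ⟨hz1, c, hzc, hca⟩ := hcon
  have hxc : x • c ≠ c := fun h => hca (zas_involution_fix_unique hZ hab hodd hn hx hxa h)
  have hxca : x • c ≠ a' := by
    intro h
    exact hca (smul_left_cancel x (h.trans hxa.symm))
  have hzxc : z • (x • c) = x • c := by
    rw [smul_smul, ← hcomm, mul_smul, hzc]
  exact hz1 (hZ.2.2.1 z a' c (x • c) (Ne.symm hca) (Ne.symm hxc) (Ne.symm hxca) hza hzc hzxc)

/-- In odd degree, two involutions fixing the same point commute. -/
theorem zas_involutions_commute (hn : Fintype.card Ω % 2 = 1) {x y : G}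
    (hx : orderOf x = 2) (hy : orderOf y = 2) {a' : Ω} (hxa : x • a' = a') (hya : y • a' = a') :
    x * y = y * x := by
  classical
  haveI : Fintype G := Fintype.ofFinite G
  obtain ⟨b', hb'⟩ : ∃ b' : Ω, a' ≠ b' := by
    by_cases h : a' = a
    · exact ⟨b, h ▸ hab⟩
    · exact ⟨a, h⟩
  have hK := zas_card_kernel_filter hZ hb'
  set K := Finset.univ.filter
    (fun g : G => g • a' = a' ∧ (g = 1 ∨ ∀ c : Ω, g • c = c → c = a')) with hKdef
  have hcent : ∀ t : G, orderOf t = 2 → t • a' = a' →
      Finset.univ.filter (fun z : G => z ∈ Subgroup.centralizer ({t} : Set G)) = K := by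
    intro t ht hta
    apply Finset.eq_of_subset_of_card_le
    · intro z hz
      simp only [Finset.mem_filter, Finset.mem_univ, true_and] at hz
      simp only [hKdef, Finset.mem_filter, Finset.mem_univ, true_and]
      exact zas_centralizer_involution_subset hZ hab hodd hn ht hta hz
    · rw [hK, ← zas_card_centralizer_involution hZ hab hodd hn ht, Nat.card_eq_fintype_card,
        Fintype.card_subtype]
  have h1 : x ∈ Finset.univ.filter (fun z : G => z ∈ Subgroup.centralizer ({x} : Set G)) := by
    simp only [Finset.mem_filter, Finset.mem_univ, true_and]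
    rw [Subgroup.mem_centralizer_iff]
    intro h hh
    rw [Set.mem_singleton_iff.mp hh]
  rw [hcent x hx hxa, ← hcent y hy hya] at h1
  simp only [Finset.mem_filter, Finset.mem_univ, true_and] at h1
  exact (Subgroup.mem_centralizer_iff.mp h1 y rfl).symm

end

end Cfsg.Agent.Helper6
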