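import Mathlib
import Cfsg.Prelude.Def_Characters
import Cfsg.Agent.Helper6.ZasInvE

/-!
# Zassenhaus groups: the Frobenius kernel of a point stabiliser (group-theoretic facts)
-/

set_option autoImplicit false
set_option linter.style.haveILetI false
set_option linter.unusedSectionVars false

namespace Cfsg.Agent.Helper6

open MulAction Cfsg.Agent.Helper2

variable {G Ω : Type*} [Group G] [MulAction G Ω]

section

variable [Fintype G] [Fintype Ω]
  (hZ : Cfsg.IsZassenhausGroup G Ω) {a b : Ω} (hab : a ≠ b)
  (H : Subgroup G) (hHa : H ≤ stabilizer G a) (hHcard : Nat.card H + 1 = Fintype.card Ω)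
  (hHfix : ∀ u ∈ H, u ≠ 1 → ∀ c : Ω, u • c = c → c = a)

include hZ hab hHa hHcard hHfix

/-- `H` consists of the identity and the elements of `G_a` fixing only `a` -/
theorem zas_mem_kernel_iff (g : G) :
    g ∈ H ↔ g • a = a ∧ (g = 1 ∨ ∀ c : Ω, g • c = c → c = a) := by
  classical
  constructor
  · intro hg
    refine ⟨mem_stabilizer_iff.mp (hHa hg), ?_⟩
    by_cases h1 : g = 1
    · exact Or.inl h1
    · exact Or.inr (hHfix g hg h1)
  · intro hg
    have hK := zas_card_kernel_filter hZ hab
    have hsub : (Finset.univ.filter (fun g : G => g ∈ H)) ⊆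
        Finset.univ.filter (fun g : G => g • a = a ∧ (g = 1 ∨ ∀ c : Ω, g • c = c → c = a)) := by
      intro x hx
      simp only [Finset.mem_filter, Finset.mem_univ, true_and] at hx ⊢
      refine ⟨mem_stabilizer_iff.mp (hHa hx), ?_⟩
      by_cases h1 : x = 1
      · exact Or.inl h1
      · exact Or.inr (hHfix x hx h1)
    have hcardH : (Finset.univ.filter (fun g : G => g ∈ H)).card = Fintype.card Ω - 1 := by
      have : (Finset.univ.filter (fun g : G => g ∈ H)).card = Nat.card H := by
        rw [Nat.card_eq_fintype_card, Fintype.card_subtype]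
      omega
    have heq := Finset.eq_of_subset_of_card_le hsub (by rw [hK, hcardH])
    have : g ∈ Finset.univ.filter
        (fun g : G => g • a = a ∧ (g = 1 ∨ ∀ c : Ω, g • c = c → c = a)) := by
      simp only [Finset.mem_filter, Finset.mem_univ, true_and]
      exact hg
    rw [← heq] at this
    simpa using this

/-- `H` is normalized by `G_a` -/
theorem zas_kernel_conj_mem {x u : G} (hx : x • a = a) (hu : u ∈ H) : x * u * x⁻¹ ∈ H := by
  rw [zas_mem_kernel_iff hZ hab H hHa hHcard hHfix]
  have hxi : x⁻¹ • a = a := by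
    have := congrArg (fun z => x⁻¹ • z) hx
    simp only [inv_smul_smul] at this
    exact this.symm
  have hua : u • a = a := mem_stabilizer_iff.mp (hHa hu)
  refine ⟨by rw [mul_smul, mul_smul, hxi, hua, hx], ?_⟩
  by_cases h1 : u = 1
  · left
    rw [h1]
    group
  · right
    intro c hc
    have h2 : u • (x⁻¹ • c) = x⁻¹ • c := by
      have := congrArg (fun z => x⁻¹ • z) hc
      simp only [mul_smul, inv_smul_smul] at this
      exact this
    have h3 := hHfix u hu h1 _ h2
    have h4 := congrArg (fun z => x • z) h3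
    simp only [smul_inv_smul] at h4
    rw [h4, hx]

/-- the action of `G_a` on `H` is fixed-point-free -/
theorem zas_kernel_free {g k : G} (hg : g • a = a) (hgH : g ∉ H) (hk : k ∈ H)
    (hcomm : g * k = k * g) : k = 1 := by
  by_contra hk1
  have hg1 : g ≠ 1 := fun h => hgH (h ▸ H.one_mem)
  have hnot : ¬ (g = 1 ∨ ∀ c : Ω, g • c = c → c = a) := by
    intro h
    exact hgH ((zas_mem_kernel_iff hZ hab H hHa hHcard hHfix g).mpr ⟨hg, h⟩)
  push Not at hnot
  obtain ⟨-, c, hgc, hca⟩ := hnot
  have hkc : k • c ≠ c := fun h => hca (hHfix k hk hk1 c h)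
  have hka : k • a = a := mem_stabilizer_iff.mp (hHa hk)
  have hkca : k • c ≠ a := by
    intro h
    apply hca
    have := congrArg (fun z => k⁻¹ • z) (h.trans hka.symm)
    simpa using this
  have hgkc : g • (k • c) = k • c := by
    rw [← mul_smul, hcomm, mul_smul, hgc]
  exact hg1 (hZ.2.2.1 g a c (k • c) (Ne.symm hca) (Ne.symm hkc) (Ne.symm hkca) hg hgc hgkc)

/-- `H` is a trivial intersection set with normalizer `G_a` -/
theorem zas_kernel_TI {u x : G} (hu : u ∈ H) (hu1 : u ≠ 1) (h : (x⁻¹ * u * x) • a = a) :
    x • a = a := by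
  apply hHfix u hu hu1
  have := congrArg (fun z => x • z) h
  simp only [mul_smul, smul_inv_smul] at this
  exact this

/-- the order of `G_a` -/
theorem zas_card_stabilizer :
    Nat.card (stabilizer G a) =
      (Fintype.card Ω - 1) * Nat.card ↥(stabilizer G a ⊓ stabilizer G b : Subgroup G) := by
  classical
  rw [← zas_card_stab_filter hZ hab, Nat.card_eq_fintype_card, Fintype.card_subtype]
  congr 1

end

end Cfsg.Agent.Helper6
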