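import Mathlib
import Cfsg.Prelude.Def_Characters
import Cfsg.Agent.Helper6.ZasChA
import Cfsg.Agent.Helper6.IndFun
import Cfsg.Agent.Helper6.Degrees
import Cfsg.Agent.Helper6.ClassInner

/-!
# Zassenhaus groups: induction from a point stabiliser of class functions supported on the kernel
-/

set_option autoImplicit false
set_option linter.style.haveILetI false
set_option linter.unusedSectionVars false

namespace Cfsg.Agent.Helper6

open MulAction Cfsg.Agent.Helper2
open scoped ComplexConjugate

variable {G Ω : Type*} [Group G] [MulAction G Ω]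

section

variable [Fintype G] [Fintype Ω]
  (hZ : Cfsg.IsZassenhausGroup G Ω) {a b : Ω} (hab : a ≠ b)
  (H : Subgroup G) (hHa : H ≤ stabilizer G a) (hHcard : Nat.card H + 1 = Fintype.card Ω)
  (hHfix : ∀ u ∈ H, u ≠ 1 → ∀ c : Ω, u • c = c → c = a)

include hZ hab hHa hHcard hHfix

/-- the value of an induced class function at a non-identity element of the kernel -/
theorem zas_indFun_apply_kernel (ϑ : stabilizer G a → ℂ)
    (hϑ : Cfsg.IsClassFunction (stabilizer G a) ϑ) {u : G} (hu : u ∈ H) (hu1 : u ≠ 1) :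
    Cfsg.indFun (stabilizer G a) ϑ u = ϑ ⟨u, hHa hu⟩ := by
  classical
  rw [indFun_apply]
  have hterm : ∀ x : G, Cfsg.extendByZero (stabilizer G a) ϑ (x⁻¹ * u * x) =
      if x ∈ stabilizer G a then ϑ ⟨u, hHa hu⟩ else 0 := by
    intro x
    split_ifs with hx
    · have hmem : x⁻¹ * u * x ∈ stabilizer G a :=
        (stabilizer G a).mul_mem ((stabilizer G a).mul_mem ((stabilizer G a).inv_mem hx)
          (hHa hu)) hx
      rw [extendByZero_mem _ _ hmem]
      have := hϑ ⟨u, hHa hu⟩ (⟨x, hx⟩⁻¹ : stabilizer G a)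
      rw [inv_inv] at this
      rw [← this]
      rfl
    · apply extendByZero_not_mem
      intro hmem
      apply hx
      exact mem_stabilizer_iff.mpr
        (zas_kernel_TI hZ hab H hHa hHcard hHfix hu hu1 (mem_stabilizer_iff.mp hmem))
  simp_rw [hterm]
  rw [← Finset.sum_filter, Finset.sum_const, nsmul_eq_mul]
  have hcard : (Finset.univ.filter (fun x : G => x ∈ stabilizer G a)).card =
      Nat.card (stabilizer G a) := by
    rw [Nat.card_eq_fintype_card, Fintype.card_subtype]
  rw [hcard]
  have hN : (Nat.card (stabilizer G a) : ℂ) ≠ 0 := by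
    have : 0 < Nat.card (stabilizer G a) := Nat.card_pos
    exact_mod_cast this.ne'
  field_simp

/-- the index of a point stabiliser -/
theorem zas_index_stabilizer : (stabilizer G a).index = Fintype.card Ω := by
  haveI : IsMultiplyPretransitive G Ω 2 := hZ.2.1
  haveI : IsPretransitive G Ω := isPretransitive_of_is_two_pretransitive
  rw [MulAction.index_stabilizer_of_transitive, Nat.card_eq_fintype_card]

/-- the inner product of two induced class functions supported on the kernel -/
theorem zas_classInner_indFun [Fintype (stabilizer G a)] (ϑ ϑ' : stabilizer G a → ℂ)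
    (hϑ' : Cfsg.IsClassFunction (stabilizer G a) ϑ')
    (hvan : ∀ x : stabilizer G a, (x : G) ∉ H → ϑ x = 0) :
    Cfsg.classInner (Cfsg.indFun (stabilizer G a) ϑ) (Cfsg.indFun (stabilizer G a) ϑ') =
      Cfsg.classInner ϑ ϑ' + ϑ 1 * conj (ϑ' 1) /
        (Nat.card ↥(stabilizer G a ⊓ stabilizer G b : Subgroup G) : ℂ) := by
  classical
  rw [frobenius_reciprocity _ _ _ (indFun_isClassFunction _ _), classInner_def, classInner_def]
  have hterm : ∀ x : stabilizer G a,
      ϑ x * conj (Cfsg.indFun (stabilizer G a) ϑ' x) =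
        ϑ x * conj (ϑ' x) + if x = 1 then ϑ 1 * conj (ϑ' 1) * ((Fintype.card Ω : ℂ) - 1) else 0 := by
    intro x
    by_cases hxH : (x : G) ∈ H
    · by_cases hx1 : x = 1
      · rw [if_pos hx1, hx1]
        have h1 : Cfsg.indFun (stabilizer G a) ϑ' ((1 : stabilizer G a) : G) =
            (Fintype.card Ω : ℂ) * ϑ' 1 := by
          rw [Subgroup.coe_one, indFun_apply_one, zas_index_stabilizer hZ hab H hHa hHcard hHfix]
        rw [h1, map_mul, Complex.conj_natCast]
        ring
      · rw [if_neg hx1, add_zero]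
        have hx1' : (x : G) ≠ 1 := fun h => hx1 (Subtype.ext h)
        rw [zas_indFun_apply_kernel hZ hab H hHa hHcard hHfix ϑ' hϑ' hxH hx1']
    · have hx1 : x ≠ 1 := by
        rintro rfl
        exact hxH H.one_mem
      rw [hvan x hxH, if_neg hx1, zero_mul, zero_mul, add_zero]
  rw [Finset.sum_congr rfl (fun x _ => hterm x), Finset.sum_add_distrib,
    Finset.sum_ite_eq' Finset.univ (1 : stabilizer G a), if_pos (Finset.mem_univ _), mul_add]
  congr 1
  rw [zas_card_stabilizer hZ hab H hHa hHcard hHfix]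
  have hpos : 0 < Fintype.card Ω - 1 := by
    have : 0 < Nat.card H := Nat.card_pos
    omega
  have hΩ : ((Fintype.card Ω - 1 : ℕ) : ℂ) = (Fintype.card Ω : ℂ) - 1 := by
    rw [Nat.cast_sub (by omega), Nat.cast_one]
  have hΩ0 : (Fintype.card Ω : ℂ) - 1 ≠ 0 := by
    rw [← hΩ]
    exact_mod_cast hpos.ne'
  have he0 : (Nat.card ↥(stabilizer G a ⊓ stabilizer G b : Subgroup G) : ℂ) ≠ 0 := by
    have : 0 < Nat.card ↥(stabilizer G a ⊓ stabilizer G b : Subgroup G) := Nat.card_pos
    exact_mod_cast this.ne'
  rw [Nat.cast_mul, hΩ]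
  field_simp

end

end Cfsg.Agent.Helper6
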