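import Mathlib
import Cfsg.Prelude.Def_Characters
import Cfsg.Agent.Helper6.ZasChB
import Cfsg.Agent.Helper6.TIFrob
import Cfsg.Agent.Helper6.Linear

/-!
# Zassenhaus groups: the irreducible characters of a point stabiliser not trivial on the kernel
-/

set_option autoImplicit false
set_option linter.style.haveILetI false
set_option linter.unusedSectionVars false

namespace Cfsg.Agent.Helper6

open MulAction Cfsg.Agent.Helper2
open scoped ComplexConjugate

variable {G Ω : Type*} [Group G] [MulAction G Ω]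

/-- the irreducible characters of `G_a` that are not trivial on `H` -/
def zasRel (a : Ω) (H : Subgroup G) : Set (stabilizer G a → ℂ) :=
  {χ | Cfsg.IsIrrCharacter (stabilizer G a) χ ∧ ∃ k : stabilizer G a, (k : G) ∈ H ∧ χ k ≠ χ 1}

section

variable [Fintype G] [Fintype Ω]
  (hZ : Cfsg.IsZassenhausGroup G Ω) {a b : Ω} (hab : a ≠ b)
  (H : Subgroup G) (hHa : H ≤ stabilizer G a) (hHcard : Nat.card H + 1 = Fintype.card Ω)
  (hHfix : ∀ u ∈ H, u ≠ 1 → ∀ c : Ω, u • c = c → c = a)

include hZ hab hHa hHcard hHfix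

theorem zas_kernel_subgroupOf_normal : (H.subgroupOf (stabilizer G a)).Normal := by
  constructor
  intro k hk g
  rw [Subgroup.mem_subgroupOf] at hk ⊢
  exact zas_kernel_conj_mem hZ hab H hHa hHcard hHfix (mem_stabilizer_iff.mp g.2) hk

theorem zas_kernel_subgroupOf_free :
    ∀ g : stabilizer G a, g ∉ H.subgroupOf (stabilizer G a) →
      ∀ k ∈ H.subgroupOf (stabilizer G a), g * k = k * g → k = 1 := by
  intro g hg k hk hcomm
  rw [Subgroup.mem_subgroupOf] at hg hk
  apply Subtype.ext
  exact zas_kernel_free hZ hab H hHa hHcard hHfix (mem_stabilizer_iff.mp g.2) hg hk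
    (congrArg Subtype.val hcomm)

theorem zas_kernel_subgroupOf_index :
    (H.subgroupOf (stabilizer G a)).index =
      Nat.card ↥(stabilizer G a ⊓ stabilizer G b : Subgroup G) := by
  have h1 := Subgroup.card_mul_index (H.subgroupOf (stabilizer G a))
  have h2 : Nat.card (H.subgroupOf (stabilizer G a)) = Nat.card H :=
    Nat.card_congr (Subgroup.subgroupOfEquivOfLe hHa).toEquiv
  rw [h2, zas_card_stabilizer hZ hab H hHa hHcard hHfix] at h1
  have h3 : Nat.card H = Fintype.card Ω - 1 := by omega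
  rw [h3] at h1
  have hpos : 0 < Fintype.card Ω - 1 := by
    have : 0 < Nat.card H := Nat.card_pos
    omega
  exact Nat.eq_of_mul_eq_mul_left hpos h1

/-- characters in `zasRel` vanish off `H` -/
theorem zasRel_apply_off {χ : stabilizer G a → ℂ} (hχ : χ ∈ zasRel a H) (x : stabilizer G a)
    (hx : (x : G) ∉ H) : χ x = 0 := by
  classical
  haveI := zas_kernel_subgroupOf_normal hZ hab H hHa hHcard hHfix
  have hfree := zas_kernel_subgroupOf_free hZ hab H hHa hHcard hHfix
  obtain ⟨k, hk, hne⟩ := hχ.2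
  obtain ⟨φ, -, -, rfl⟩ := irr_eq_ind_of_free (H.subgroupOf (stabilizer G a)) hfree χ hχ.1
    ⟨k, Subgroup.mem_subgroupOf.mpr hk, hne⟩
  apply indFun_normal_apply_off
  rw [Subgroup.mem_subgroupOf]
  exact hx

/-- characters in `zasRel` have degree `e` when `H` is abelian -/
theorem zasRel_apply_one (hHab : ∀ u ∈ H, ∀ v ∈ H, u * v = v * u) {χ : stabilizer G a → ℂ}
    (hχ : χ ∈ zasRel a H) :
    χ 1 = (Nat.card ↥(stabilizer G a ⊓ stabilizer G b : Subgroup G) : ℂ) := by
  classical
  haveI := zas_kernel_subgroupOf_normal hZ hab H hHa hHcard hHfix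
  have hfree := zas_kernel_subgroupOf_free hZ hab H hHa hHcard hHfix
  obtain ⟨k, hk, hne⟩ := hχ.2
  obtain ⟨φ, hφ, -, rfl⟩ := irr_eq_ind_of_free (H.subgroupOf (stabilizer G a)) hfree χ hχ.1
    ⟨k, Subgroup.mem_subgroupOf.mpr hk, hne⟩
  have hcomm : ∀ x y : H.subgroupOf (stabilizer G a), x * y = y * x := by
    intro x y
    apply Subtype.ext
    apply Subtype.ext
    exact hHab _ (Subgroup.mem_subgroupOf.mp x.2) _ (Subgroup.mem_subgroupOf.mp y.2)
  have hφ1 : φ 1 = 1 := (comm_iff_forall_irr_degree_one.mp hcomm) ⟨φ, hφ⟩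
  rw [indFun_apply_one, hφ1, mul_one, zas_kernel_subgroupOf_index hZ hab H hHa hHcard hHfix]

end

end Cfsg.Agent.Helper6
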