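import Mathlib
import Cfsg.Prelude.Def_Characters
import Cfsg.Agent.Helper6.ZasChC
import Cfsg.Agent.Helper6.Codegree
import Cfsg.Agent.Helper6.BlockKernel
import Cfsg.Agent.Helper6.BlockPart
import Cfsg.Agent.Helper6.OddReal
import Cfsg.Agent.Helper6.Expansion

/-!
# Zassenhaus groups: counting the relevant characters of a point stabiliser
-/

set_option autoImplicit false
set_option linter.style.haveILetI false
set_option linter.unusedSectionVars false

namespace Cfsg.Agent.Helper6

open MulAction Cfsg.Agent.Helper2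
open scoped ComplexConjugate

variable {G Ω : Type*} [Group G] [MulAction G Ω]

section

variable [Fintype G] [Fintype Ω]
  (hZ : Cfsg.IsZassenhausGroup G Ω) {a b : Ω} (hab : a ≠ b)
  (H : Subgroup G) (hHa : H ≤ stabilizer G a) (hHcard : Nat.card H + 1 = Fintype.card Ω)
  (hHfix : ∀ u ∈ H, u ≠ 1 → ∀ c : Ω, u • c = c → c = a)

include hZ hab hHa hHcard hHfix

/-- the number of relevant characters times `e` is `h - 1` -/
theorem zas_card_rel_mul (hHab : ∀ u ∈ H, ∀ v ∈ H, u * v = v * u) :
    Nat.card {χ : Cfsg.IrrCharacter (stabilizer G a) //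
        (χ : stabilizer G a → ℂ) ∈ zasRel a H} *
      Nat.card ↥(stabilizer G a ⊓ stabilizer G b : Subgroup G) = Fintype.card Ω - 2 := by
  classical
  haveI : Fintype (stabilizer G a) := Fintype.ofFinite _
  haveI : Finite (Cfsg.IrrCharacter (stabilizer G a)) := irr_finite
  haveI : Fintype (Cfsg.IrrCharacter (stabilizer G a)) := Fintype.ofFinite _
  haveI := zas_kernel_subgroupOf_normal hZ hab H hHa hHcard hHfix
  set e := Nat.card ↥(stabilizer G a ⊓ stabilizer G b : Subgroup G) with he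
  set K := H.subgroupOf (stabilizer G a) with hK
  have hsum := sum_sq_degrees (G := stabilizer G a)
  have hker := sum_sq_degrees_of_le_ker K
  rw [zas_kernel_subgroupOf_index hZ hab H hHa hHcard hHfix, ← he] at hker
  rw [← Finset.sum_filter_add_sum_filter_not Finset.univ
    (fun χ : Cfsg.IrrCharacter (stabilizer G a) =>
      ∀ n ∈ K, (χ : stabilizer G a → ℂ) n = (χ : stabilizer G a → ℂ) 1)] at hsum
  have h1 : ∑ χ ∈ Finset.univ.filter (fun χ : Cfsg.IrrCharacter (stabilizer G a) =>
      ∀ n ∈ K, (χ : stabilizer G a → ℂ) n = (χ : stabilizer G a → ℂ) 1),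
      (χ : stabilizer G a → ℂ) 1 ^ 2 = (e : ℂ) := by
    rw [← hker]
    push_cast
    apply Finset.sum_congr rfl
    intro χ _
    rw [charDegree_cast_of_isCharacter (IsIrrCharacter.isCharacter χ.2)]
  have hrel : ∀ χ : Cfsg.IrrCharacter (stabilizer G a),
      (¬ ∀ n ∈ K, (χ : stabilizer G a → ℂ) n = (χ : stabilizer G a → ℂ) 1) ↔
        (χ : stabilizer G a → ℂ) ∈ zasRel a H := by
    intro χ
    constructor
    · intro h
      push Not at h
      obtain ⟨n, hn, hne⟩ := h
      exact ⟨χ.2, n, Subgroup.mem_subgroupOf.mp hn, hne⟩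
    · rintro ⟨-, n, hn, hne⟩ h
      exact hne (h n (Subgroup.mem_subgroupOf.mpr hn))
  have h2 : ∑ χ ∈ Finset.univ.filter (fun χ : Cfsg.IrrCharacter (stabilizer G a) =>
      ¬ ∀ n ∈ K, (χ : stabilizer G a → ℂ) n = (χ : stabilizer G a → ℂ) 1),
      (χ : stabilizer G a → ℂ) 1 ^ 2 =
      (Nat.card {χ : Cfsg.IrrCharacter (stabilizer G a) //
        (χ : stabilizer G a → ℂ) ∈ zasRel a H} : ℂ) * (e : ℂ) ^ 2 := by
    have h3 : ∀ χ ∈ Finset.univ.filter (fun χ : Cfsg.IrrCharacter (stabilizer G a) =>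
        ¬ ∀ n ∈ K, (χ : stabilizer G a → ℂ) n = (χ : stabilizer G a → ℂ) 1),
        (χ : stabilizer G a → ℂ) 1 ^ 2 = (e : ℂ) ^ 2 := by
      intro χ hχ
      rw [Finset.mem_filter] at hχ
      rw [zasRel_apply_one hZ hab H hHa hHcard hHfix hHab ((hrel χ).mp hχ.2)]
    rw [Finset.sum_congr rfl h3, Finset.sum_const, nsmul_eq_mul]
    congr 2
    rw [Nat.card_eq_fintype_card, Fintype.card_subtype]
    congr 1
    ext χ
    simp only [Finset.mem_filter, Finset.mem_univ, true_and]
    exact hrel χ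
  rw [h1, h2, zas_card_stabilizer hZ hab H hHa hHcard hHfix, ← he] at hsum
  have hpos : 0 < e := Nat.card_pos
  have hΩ : 2 ≤ Fintype.card Ω := by
    have : 0 < Nat.card H := Nat.card_pos
    omega
  set s := Nat.card {χ : Cfsg.IrrCharacter (stabilizer G a) //
        (χ : stabilizer G a → ℂ) ∈ zasRel a H} with hs
  have hnat : e + s * e ^ 2 = (Fintype.card Ω - 1) * e := by exact_mod_cast hsum
  have h4 : e * (1 + s * e) = e * (Fintype.card Ω - 1) := by
    rw [mul_comm e (Fintype.card Ω - 1), ← hnat]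
    ring
  have h5 := Nat.eq_of_mul_eq_mul_left hpos h4
  omega

/-- a non-principal irreducible character of the simple group `G` is a constituent of a
character induced from a relevant character of `G_a` -/
theorem zas_exists_rel_constituent [IsSimpleGroup G] (hH1 : H ≠ ⊥) (Ξ : G → ℂ)
    (hΞ : Cfsg.IsIrrCharacter G Ξ) (hΞ1 : Ξ ≠ fun _ => 1) :
    ∃ χ ∈ zasRel a H, Cfsg.classInner (Cfsg.indFun (stabilizer G a) χ) Ξ ≠ 0 := by
  classical
  haveI : Fintype (stabilizer G a) := Fintype.ofFinite _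
  haveI : Finite (Cfsg.IrrCharacter (stabilizer G a)) := irr_finite
  haveI : Fintype (Cfsg.IrrCharacter (stabilizer G a)) := Fintype.ofFinite _
  by_contra hcon
  push Not at hcon
  have hΞcf := IsCharacter.isClassFunction (IsIrrCharacter.isCharacter hΞ)
  have hres : Cfsg.IsCharacter (stabilizer G a) (fun x : stabilizer G a => Ξ x) :=
    IsCharacter.restrict _ (IsIrrCharacter.isCharacter hΞ)
  have hrescf := IsCharacter.isClassFunction hres
  -- every constituent of the restriction is trivial on `H`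
  have hconst : ∀ ζ : Cfsg.IrrCharacter (stabilizer G a),
      Cfsg.classInner (fun x : stabilizer G a => Ξ x) (ζ : stabilizer G a → ℂ) ≠ 0 →
        ∀ k : stabilizer G a, (k : G) ∈ H →
          (ζ : stabilizer G a → ℂ) k = (ζ : stabilizer G a → ℂ) 1 := by
    intro ζ hζ k hk
    by_contra hne
    have hrel : (ζ : stabilizer G a → ℂ) ∈ zasRel a H := ⟨ζ.2, k, hk, hne⟩
    have h0 := hcon _ hrel
    rw [frobenius_reciprocity _ _ _ hΞcf, classInner_conj_symm] at h0
    apply hζ
    have := congrArg conj h0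
    simpa using this
  have hH : ∀ u ∈ H, Ξ u = Ξ 1 := by
    intro u hu
    have hexp := classFunction_expansion _ hrescf
    have h1 := congrFun hexp ⟨u, hHa hu⟩
    have h2 := congrFun hexp 1
    simp only [Finset.sum_apply, Pi.smul_apply, smul_eq_mul] at h1 h2
    have h3 : Ξ u = ∑ ζ : Cfsg.IrrCharacter (stabilizer G a),
        Cfsg.classInner (fun x : stabilizer G a => Ξ x) (ζ : stabilizer G a → ℂ) *
          (ζ : stabilizer G a → ℂ) ⟨u, hHa hu⟩ := h1
    have h4 : Ξ 1 = ∑ ζ : Cfsg.IrrCharacter (stabilizer G a),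
        Cfsg.classInner (fun x : stabilizer G a => Ξ x) (ζ : stabilizer G a → ℂ) *
          (ζ : stabilizer G a → ℂ) 1 := h2
    rw [h3, h4]
    apply Finset.sum_congr rfl
    intro ζ _
    by_cases hζ : Cfsg.classInner (fun x : stabilizer G a => Ξ x) (ζ : stabilizer G a → ℂ) = 0
    · rw [hζ, zero_mul, zero_mul]
    · rw [hconst ζ hζ ⟨u, hHa hu⟩ hu]
  -- `H` lies in the kernel of `Ξ`
  haveI := kerSub_normal (⟨Ξ, hΞ⟩ : Cfsg.IrrCharacter G)
  have hle : H ≤ kerSub (⟨Ξ, hΞ⟩ : Cfsg.IrrCharacter G) := by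
    intro u hu
    rw [mem_kerSub]
    exact hH u hu
  have htop : kerSub (⟨Ξ, hΞ⟩ : Cfsg.IrrCharacter G) = ⊤ := by
    rcases Subgroup.Normal.eq_bot_or_eq_top (kerSub_normal (⟨Ξ, hΞ⟩ : Cfsg.IrrCharacter G))
      with h | h
    · exfalso
      apply hH1
      rw [eq_bot_iff, ← h]
      exact hle
    · exact h
  have hall : ∀ g : G, Ξ g = Ξ 1 := by
    intro g
    have : g ∈ kerSub (⟨Ξ, hΞ⟩ : Cfsg.IrrCharacter G) := by
      rw [htop]
      exact Subgroup.mem_top g
    exact (mem_kerSub _ g).mp this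
  have hin : Cfsg.classInner Ξ (fun _ => (1 : ℂ)) = Ξ 1 := by
    rw [classInner_def]
    simp only [map_one, mul_one]
    rw [Finset.sum_congr rfl (fun g _ => hall g), Finset.sum_const, Finset.card_univ,
      nsmul_eq_mul, ← Nat.card_eq_fintype_card, ← mul_assoc, inv_mul_cancel₀, one_mul]
    exact_mod_cast Nat.card_pos.ne'
  have h0 := classInner_irr_ne hΞ isIrrCharacter_one hΞ1
  rw [hin] at h0
  exact IsIrrCharacter.apply_one_ne_zero hΞ h0

end

end Cfsg.Agent.Helper6
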