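import Mathlib
import Cfsg.Prelude.Def_Characters
import Cfsg.Agent.Helper6.ZasChD
import Cfsg.Agent.Helper6.NormTwo
import Cfsg.Agent.Helper6.IrrCount

/-!
# Zassenhaus groups with abelian kernel: norms of induced characters and differences
-/

set_option autoImplicit false
set_option linter.style.haveILetI false
set_option linter.unusedSectionVars false

namespace Cfsg.Agent.Helper6

open MulAction Cfsg.Agent.Helper2
open scoped ComplexConjugate

/-- Parseval's identity for class functions -/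
theorem classInner_self_eq_sum_irr {X : Type*} [Group X] [Fintype X]
    [Fintype (Cfsg.IrrCharacter X)] (ψ : X → ℂ) (hψ : Cfsg.IsClassFunction X ψ) :
    Cfsg.classInner ψ ψ = ∑ Ξ : Cfsg.IrrCharacter X,
      Cfsg.classInner ψ (Ξ : X → ℂ) * conj (Cfsg.classInner ψ (Ξ : X → ℂ)) := by
  have h1 : Cfsg.classInner ψ ψ = Cfsg.classInner
      (∑ Ξ : Cfsg.IrrCharacter X, Cfsg.classInner ψ (Ξ : X → ℂ) • (Ξ : X → ℂ)) ψ := by
    rw [← classFunction_expansion ψ hψ]
  rw [h1, classInner_sum_left]
  apply Finset.sum_congr rfl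
  intro Ξ _
  rw [classInner_smul_left, classInner_conj_symm (Ξ : X → ℂ) ψ, Complex.conj_conj]

/-- the number of irreducible constituents of a character is at most its norm -/
theorem card_constituents_le {X : Type*} [Group X] [Fintype X]
    [Fintype (Cfsg.IrrCharacter X)] {Φ : X → ℂ} (hΦ : Cfsg.IsCharacter X Φ) (N : ℕ)
    (hN : Cfsg.classInner Φ Φ = N)
    [DecidablePred fun Ξ : Cfsg.IrrCharacter X => Cfsg.classInner Φ (Ξ : X → ℂ) ≠ 0] :
    (Finset.univ.filter
      (fun Ξ : Cfsg.IrrCharacter X => Cfsg.classInner Φ (Ξ : X → ℂ) ≠ 0)).card ≤ N := by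
  classical
  have hn : ∀ Ξ : Cfsg.IrrCharacter X, ∃ n : ℕ, Cfsg.classInner Φ (Ξ : X → ℂ) = n := fun Ξ =>
    classInner_char_char_nat hΦ (IsIrrCharacter.isCharacter Ξ.2)
  choose n hn using hn
  have hpars := classInner_self_eq_sum_irr Φ (IsCharacter.isClassFunction hΦ)
  rw [hN] at hpars
  have hnat : N = ∑ Ξ : Cfsg.IrrCharacter X, n Ξ * n Ξ := by
    have : (N : ℂ) = ((∑ Ξ : Cfsg.IrrCharacter X, n Ξ * n Ξ : ℕ) : ℂ) := by
      rw [hpars]
      push_cast
      apply Finset.sum_congr rfl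
      intro Ξ _
      rw [hn Ξ, Complex.conj_natCast]
    exact_mod_cast this
  rw [hnat, Finset.card_eq_sum_ones, Finset.sum_filter]
  apply Finset.sum_le_sum
  intro Ξ _
  split_ifs with h
  · have : n Ξ ≠ 0 := by
      intro h0
      apply h
      rw [hn Ξ, h0, Nat.cast_zero]
    have h1 : 1 ≤ n Ξ := Nat.one_le_iff_ne_zero.mpr this
    nlinarith
  · exact Nat.zero_le _

variable {G Ω : Type*} [Group G] [MulAction G Ω]

section

variable [Fintype G] [Fintype Ω]
  (hZ : Cfsg.IsZassenhausGroup G Ω) {a b : Ω} (hab : a ≠ b)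
  (H : Subgroup G) (hHa : H ≤ stabilizer G a) (hHcard : Nat.card H + 1 = Fintype.card Ω)
  (hHfix : ∀ u ∈ H, u ≠ 1 → ∀ c : Ω, u • c = c → c = a)
  (hHab : ∀ u ∈ H, ∀ v ∈ H, u * v = v * u)

include hZ hab hHa hHcard hHfix hHab

/-- inner products of the characters induced from relevant characters -/
theorem zas_classInner_ind_rel [Fintype (stabilizer G a)] {χ χ' : stabilizer G a → ℂ}
    (hχ : χ ∈ zasRel a H) (hχ' : χ' ∈ zasRel a H) :
    Cfsg.classInner (Cfsg.indFun (stabilizer G a) χ) (Cfsg.indFun (stabilizer G a) χ') =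
      Cfsg.classInner χ χ' +
        (Nat.card ↥(stabilizer G a ⊓ stabilizer G b : Subgroup G) : ℂ) := by
  rw [zas_classInner_indFun hZ hab H hHa hHcard hHfix χ χ'
    (IsCharacter.isClassFunction (IsIrrCharacter.isCharacter hχ'.1))
    (zasRel_apply_off hZ hab H hHa hHcard hHfix hχ),
    zasRel_apply_one hZ hab H hHa hHcard hHfix hHab hχ,
    zasRel_apply_one hZ hab H hHa hHcard hHfix hHab hχ', Complex.conj_natCast]
  have he0 : (Nat.card ↥(stabilizer G a ⊓ stabilizer G b : Subgroup G) : ℂ) ≠ 0 := by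
    have : 0 < Nat.card ↥(stabilizer G a ⊓ stabilizer G b : Subgroup G) := Nat.card_pos
    exact_mod_cast this.ne'
  field_simp

/-- the difference of two induced relevant characters is a difference of two irreducible
characters -/
theorem zas_rel_diff {χ χ' : stabilizer G a → ℂ}
    (hχ : χ ∈ zasRel a H) (hχ' : χ' ∈ zasRel a H) (hne : χ ≠ χ') :
    ∃ p q : G → ℂ, Cfsg.IsIrrCharacter G p ∧ Cfsg.IsIrrCharacter G q ∧ p ≠ q ∧
      Cfsg.indFun (stabilizer G a) χ - Cfsg.indFun (stabilizer G a) χ' = p - q := by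
  classical
  haveI : Fintype (stabilizer G a) := Fintype.ofFinite _
  apply exists_sub_of_norm_two
  · exact ⟨_, _, isCharacter_indFun _ χ (IsIrrCharacter.isCharacter hχ.1),
      isCharacter_indFun _ χ' (IsIrrCharacter.isCharacter hχ'.1), rfl⟩
  · rw [classInner_sub_left, classInner_sub_right, classInner_sub_right,
      zas_classInner_ind_rel hZ hab H hHa hHcard hHfix hHab hχ hχ,
      zas_classInner_ind_rel hZ hab H hHa hHcard hHfix hHab hχ hχ',
      zas_classInner_ind_rel hZ hab H hHa hHcard hHfix hHab hχ' hχ,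
      zas_classInner_ind_rel hZ hab H hHa hHcard hHfix hHab hχ' hχ',
      classInner_irr_self hχ.1, classInner_irr_self hχ'.1, classInner_irr_ne hχ.1 hχ'.1 hne,
      classInner_irr_ne hχ'.1 hχ.1 (Ne.symm hne)]
    ring
  · rw [Pi.sub_apply, indFun_apply_one, indFun_apply_one,
      zasRel_apply_one hZ hab H hHa hHcard hHfix hHab hχ,
      zasRel_apply_one hZ hab H hHa hHcard hHfix hHab hχ', sub_self]

end

end Cfsg.Agent.Helper6
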