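import Mathlib
import Cfsg.Prelude.Def_Characters
import Cfsg.Agent.Helper6.ZasChE

/-!
# Zassenhaus groups with abelian kernel: an upper bound for the number of irreducible characters
-/

set_option autoImplicit false
set_option linter.style.haveILetI false
set_option linter.unusedSectionVars false

namespace Cfsg.Agent.Helper6

open MulAction Cfsg.Agent.Helper2
open scoped ComplexConjugate

variable {G Ω : Type*} [Group G] [MulAction G Ω]

section

variable [Fintype G] [Fintype Ω]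
  (hZ : Cfsg.IsZassenhausGroup G Ω) {a b : Ω} (hab : a ≠ b)
  (H : Subgroup G) (hHa : H ≤ stabilizer G a) (hHcard : Nat.card H + 1 = Fintype.card Ω)
  (hHfix : ∀ u ∈ H, u ≠ 1 → ∀ c : Ω, u • c = c → c = a)
  (hHab : ∀ u ∈ H, ∀ v ∈ H, u * v = v * u)

include hZ hab hHa hHcard hHfix hHab

/-- an irreducible character having positive inner product with `χ^G - χ₁^G` is determined -/
theorem zas_unique_pos_constituent {χ χ₁ : stabilizer G a → ℂ}
    (hχ : χ ∈ zasRel a H) (hχ₁ : χ₁ ∈ zasRel a H) (hne : χ ≠ χ₁) {Ξ Ξ' : G → ℂ}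
    (hΞ : Cfsg.IsIrrCharacter G Ξ) (hΞ' : Cfsg.IsIrrCharacter G Ξ')
    (h0 : Cfsg.classInner (Cfsg.indFun (stabilizer G a) χ₁) Ξ = 0)
    (h1 : Cfsg.classInner (Cfsg.indFun (stabilizer G a) χ) Ξ ≠ 0)
    (h0' : Cfsg.classInner (Cfsg.indFun (stabilizer G a) χ₁) Ξ' = 0)
    (h1' : Cfsg.classInner (Cfsg.indFun (stabilizer G a) χ) Ξ' ≠ 0) : Ξ = Ξ' := by
  classical
  obtain ⟨p, q, hp, hq, hpq, hdiff⟩ := zas_rel_diff hZ hab H hHa hHcard hHfix hHab hχ hχ₁ hne
  have key : ∀ Ξ : G → ℂ, Cfsg.IsIrrCharacter G Ξ →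
      Cfsg.classInner (Cfsg.indFun (stabilizer G a) χ₁) Ξ = 0 →
      Cfsg.classInner (Cfsg.indFun (stabilizer G a) χ) Ξ ≠ 0 → p = Ξ := by
    intro Ξ hΞ h0 h1
    obtain ⟨n, hn⟩ := classInner_char_char_nat
      (isCharacter_indFun _ χ (IsIrrCharacter.isCharacter hχ.1)) (IsIrrCharacter.isCharacter hΞ)
    have hn0 : n ≠ 0 := by
      rintro rfl
      rw [Nat.cast_zero] at hn
      exact h1 hn
    have h2 : Cfsg.classInner (Cfsg.indFun (stabilizer G a) χ -
        Cfsg.indFun (stabilizer G a) χ₁) Ξ = n := by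
      rw [classInner_sub_left, h0, sub_zero, hn]
    rw [hdiff, classInner_sub_left, classInner_irr_ite hp hΞ, classInner_irr_ite hq hΞ] at h2
    by_contra hpΞ
    rw [if_neg hpΞ] at h2
    split_ifs at h2 with hqΞ
    · have h3 : ((n : ℤ) : ℂ) = ((-1 : ℤ) : ℂ) := by
        push_cast
        rw [← h2]
        ring
      have h4 : (n : ℤ) = -1 := by exact_mod_cast h3
      omega
    · have h3 : (n : ℂ) = 0 := by
        rw [← h2]
        ring
      exact hn0 (by exact_mod_cast h3)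
  rw [← key Ξ hΞ h0 h1, ← key Ξ' hΞ' h0' h1']

/-- the number of irreducible characters of `G` is at most `1 + e + s` -/
theorem zas_card_irr_le [IsSimpleGroup G] (hH1 : H ≠ ⊥)
    (χ₁ : {χ : Cfsg.IrrCharacter (stabilizer G a) //
      (χ : stabilizer G a → ℂ) ∈ zasRel a H}) :
    Nat.card (Cfsg.IrrCharacter G) ≤
      1 + Nat.card ↥(stabilizer G a ⊓ stabilizer G b : Subgroup G) +
        Nat.card {χ : Cfsg.IrrCharacter (stabilizer G a) //
          (χ : stabilizer G a → ℂ) ∈ zasRel a H} := by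
  classical
  haveI : Fintype (stabilizer G a) := Fintype.ofFinite _
  haveI : Finite (Cfsg.IrrCharacter (stabilizer G a)) := irr_finite
  haveI : Fintype (Cfsg.IrrCharacter (stabilizer G a)) := Fintype.ofFinite _
  haveI : Finite (Cfsg.IrrCharacter G) := irr_finite
  haveI : Fintype (Cfsg.IrrCharacter G) := Fintype.ofFinite _
  set e := Nat.card ↥(stabilizer G a ⊓ stabilizer G b : Subgroup G) with he
  set S := {χ : Cfsg.IrrCharacter (stabilizer G a) //
      (χ : stabilizer G a → ℂ) ∈ zasRel a H} with hS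
  set Φ := Cfsg.indFun (stabilizer G a) (χ₁.1 : stabilizer G a → ℂ) with hΦ
  have hΦc : Cfsg.IsCharacter G Φ :=
    isCharacter_indFun _ _ (IsIrrCharacter.isCharacter χ₁.1.2)
  set B := Finset.univ.filter
    (fun Ξ : Cfsg.IrrCharacter G => Cfsg.classInner Φ (Ξ : G → ℂ) ≠ 0) with hB
  have hBcard : B.card ≤ 1 + e := by
    apply card_constituents_le hΦc (1 + e)
    rw [hΦ, zas_classInner_ind_rel hZ hab H hHa hHcard hHfix hHab χ₁.2 χ₁.2,
      classInner_irr_self χ₁.1.2]
    push_cast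
    ring
  set A := Finset.univ.filter (fun Ξ : Cfsg.IrrCharacter G =>
    (Ξ : G → ℂ) ≠ (fun _ => 1) ∧ Cfsg.classInner Φ (Ξ : G → ℂ) = 0) with hA
  have hchoose : ∀ Ξ : Cfsg.IrrCharacter G, Ξ ∈ A → ∃ χ : S, χ ≠ χ₁ ∧
      Cfsg.classInner (Cfsg.indFun (stabilizer G a) (χ.1 : stabilizer G a → ℂ))
        (Ξ : G → ℂ) ≠ 0 := by
    intro Ξ hΞA
    simp only [hA, Finset.mem_filter, Finset.mem_univ, true_and] at hΞA
    obtain ⟨χ, hχ, hne⟩ := zas_exists_rel_constituent hZ hab H hHa hHcard hHfix hH1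
      (Ξ : G → ℂ) Ξ.2 hΞA.1
    refine ⟨⟨⟨χ, hχ.1⟩, hχ⟩, ?_, hne⟩
    intro h
    apply hne
    have h2 : χ = (χ₁.1 : stabilizer G a → ℂ) := by
      have := congrArg (fun t : S => ((t.1 : Cfsg.IrrCharacter (stabilizer G a)) :
        stabilizer G a → ℂ)) h
      exact this
    rw [h2]
    exact hΞA.2
  let f : Cfsg.IrrCharacter G → S := fun Ξ =>
    if h : Ξ ∈ A then Classical.choose (hchoose Ξ h) else χ₁
  have hf : ∀ Ξ (h : Ξ ∈ A), f Ξ ≠ χ₁ ∧
      Cfsg.classInner (Cfsg.indFun (stabilizer G a) ((f Ξ).1 : stabilizer G a → ℂ))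
        (Ξ : G → ℂ) ≠ 0 := by
    intro Ξ h
    have := Classical.choose_spec (hchoose Ξ h)
    simp only [f, dif_pos h]
    exact this
  have hAcard : A.card ≤ (Finset.univ.erase χ₁ : Finset S).card := by
    apply Finset.card_le_card_of_injOn f
    · intro Ξ hΞ
      rw [Finset.mem_coe, Finset.mem_erase]
      exact ⟨(hf Ξ hΞ).1, Finset.mem_univ _⟩
    · intro Ξ hΞ Ξ' hΞ' heq
      have hΞA := hΞ
      have hΞ'A := hΞ'
      rw [Finset.mem_coe] at hΞA hΞ'A
      have h1 := hf Ξ hΞA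
      have h1' := hf Ξ' hΞ'A
      rw [← heq] at h1'
      simp only [hA, Finset.mem_filter, Finset.mem_univ, true_and] at hΞA hΞ'A
      have hne : ((f Ξ).1 : stabilizer G a → ℂ) ≠ (χ₁.1 : stabilizer G a → ℂ) := by
        intro h
        apply h1.1
        apply Subtype.ext
        apply Subtype.ext
        exact h
      apply Subtype.ext
      exact zas_unique_pos_constituent hZ hab H hHa hHcard hHfix hHab (f Ξ).2 χ₁.2 hne Ξ.2 Ξ'.2
        hΞA.2 h1.2 hΞ'A.2 h1'.2
  rw [Finset.card_erase_of_mem (Finset.mem_univ _), Finset.card_univ] at hAcard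
  have hSpos : 0 < Fintype.card S := Fintype.card_pos_iff.mpr ⟨χ₁⟩
  -- the cover
  have hcover : (Finset.univ : Finset (Cfsg.IrrCharacter G)) ⊆
      ({⟨fun _ => 1, isIrrCharacter_one⟩} ∪ B) ∪ A := by
    intro Ξ _
    by_cases h1 : (Ξ : G → ℂ) = fun _ => 1
    · apply Finset.mem_union_left
      apply Finset.mem_union_left
      rw [Finset.mem_singleton]
      exact Subtype.ext h1
    · by_cases h2 : Cfsg.classInner Φ (Ξ : G → ℂ) = 0
      · apply Finset.mem_union_right
        simp only [hA, Finset.mem_filter, Finset.mem_univ, true_and]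
        exact ⟨h1, h2⟩
      · apply Finset.mem_union_left
        apply Finset.mem_union_right
        simp only [hB, Finset.mem_filter, Finset.mem_univ, true_and]
        exact h2
  have hcard := Finset.card_le_card hcover
  have h3 := Finset.card_union_le (({⟨fun _ => 1, isIrrCharacter_one⟩} : Finset _) ∪ B) A
  have h4 := Finset.card_union_le ({⟨fun _ => 1, isIrrCharacter_one⟩} :
    Finset (Cfsg.IrrCharacter G)) B
  rw [Finset.card_singleton] at h4
  rw [Finset.card_univ] at hcard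
  rw [Nat.card_eq_fintype_card, Nat.card_eq_fintype_card (α := S)]
  omega

end

end Cfsg.Agent.Helper6
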