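import Mathlib
import Cfsg.Prelude.Def_Characters
import Cfsg.Agent.Helper6.ZasChF

/-!
# Zassenhaus groups with abelian kernel: at most `e` classes miss the kernel
-/

set_option autoImplicit false
set_option linter.style.haveILetI false
set_option linter.unusedSectionVars false

namespace Cfsg.Agent.Helper6

open MulAction Cfsg.Agent.Helper2
open scoped ComplexConjugate

variable {G Ω : Type*} [Group G] [MulAction G Ω]

section

variable [Fintype G] [Fintype Ω]
  (hZ : Cfsg.IsZassenhausGroup G Ω) {a b : Ω} (hab : a ≠ b)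
  (H : Subgroup G) (hHa : H ≤ stabilizer G a) (hHcard : Nat.card H + 1 = Fintype.card Ω)
  (hHfix : ∀ u ∈ H, u ≠ 1 → ∀ c : Ω, u • c = c → c = a)
  (hHab : ∀ u ∈ H, ∀ v ∈ H, u * v = v * u)

include hZ hab hHa hHcard hHfix hHab

open Classical in
/-- a conjugacy class of `G` contains at most `e` non-identity elements of `H` -/
theorem zas_card_class_inter_kernel_le {u₀ : G} (hu₀ : u₀ ∈ H) (hu₀1 : u₀ ≠ 1) :
    ((Finset.univ.filter (fun g : G => g ∈ H)).filter
      (fun g => ConjClasses.mk g = ConjClasses.mk u₀)).card ≤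
      Nat.card ↥(stabilizer G a ⊓ stabilizer G b : Subgroup G) := by
  classical
  set e := Nat.card ↥(stabilizer G a ⊓ stabilizer G b : Subgroup G) with he
  set F := (Finset.univ.filter (fun g : G => g ∈ H)).filter
      (fun g => ConjClasses.mk g = ConjClasses.mk u₀) with hF
  set A₀ := Finset.univ.filter (fun x : G => x ∈ stabilizer G a) with hA₀
  have hA₀card : A₀.card = (Fintype.card Ω - 1) * e := by
    rw [← zas_card_stabilizer hZ hab H hHa hHcard hHfix, Nat.card_eq_fintype_card,
      Fintype.card_subtype]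
  have hHcard' : (Finset.univ.filter (fun g : G => g ∈ H)).card = Fintype.card Ω - 1 := by
    have : (Finset.univ.filter (fun g : G => g ∈ H)).card = Nat.card H := by
      rw [Nat.card_eq_fintype_card, Fintype.card_subtype]
    omega
  have hmaps : ∀ x ∈ A₀, x * u₀ * x⁻¹ ∈ F := by
    intro x hx
    simp only [hA₀, Finset.mem_filter, Finset.mem_univ, true_and] at hx
    simp only [hF, Finset.mem_filter, Finset.mem_univ, true_and]
    refine ⟨zas_kernel_conj_mem hZ hab H hHa hHcard hHfix (mem_stabilizer_iff.mp hx) hu₀, ?_⟩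
    rw [ConjClasses.mk_eq_mk_iff_isConj]
    exact (isConj_iff.mpr ⟨x, rfl⟩).symm
  have hsum := Finset.card_eq_sum_card_fiberwise hmaps
  have hfib : ∀ u ∈ F, Fintype.card Ω - 1 ≤ (A₀.filter (fun x => x * u₀ * x⁻¹ = u)).card := by
    intro u hu
    simp only [hF, Finset.mem_filter, Finset.mem_univ, true_and] at hu
    obtain ⟨g, hg⟩ := isConj_iff.mp (ConjClasses.mk_eq_mk_iff_isConj.mp hu.2).symm
    -- `g` fixes `a`
    have hga : g • a = a := by
      have h1 : (g⁻¹⁻¹ * u₀ * g⁻¹) • a = a := by
        rw [inv_inv, hg]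
        exact mem_stabilizer_iff.mp (hHa hu.1)
      have h2 := zas_kernel_TI hZ hab H hHa hHcard hHfix hu₀ hu₀1 h1
      have h3 := congrArg (fun z => g • z) h2
      simp only [smul_inv_smul] at h3
      exact h3.symm
    rw [← hHcard']
    apply Finset.card_le_card_of_injOn (fun k => g * k)
    · intro k hk
      rw [Finset.mem_coe] at hk
      simp only [Finset.mem_filter, Finset.mem_univ, true_and] at hk
      rw [Finset.mem_coe]
      simp only [hA₀, Finset.mem_filter, Finset.mem_univ, true_and]
      refine ⟨(stabilizer G a).mul_mem (mem_stabilizer_iff.mpr hga) (hHa hk), ?_⟩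
      have h1 : k * u₀ * k⁻¹ = u₀ := by
        rw [hHab k hk u₀ hu₀]
        group
      calc g * k * u₀ * (g * k)⁻¹ = g * (k * u₀ * k⁻¹) * g⁻¹ := by group
        _ = u := by rw [h1, hg]
    · intro k _ k' _ h
      exact mul_left_cancel h
  have hle : F.card * (Fintype.card Ω - 1) ≤ A₀.card := by
    rw [hsum, Finset.card_eq_sum_ones, Finset.sum_mul, one_mul]
    exact Finset.sum_le_sum hfib
  rw [hA₀card, mul_comm] at hle
  have hpos : 0 < Fintype.card Ω - 1 := by
    have : 0 < Nat.card H := Nat.card_pos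
    omega
  exact Nat.le_of_mul_le_mul_left hle hpos

open Classical in
/-- the number of classes meeting `H` is at least `s + 1` -/
theorem zas_card_classes_meeting_ge :
    Fintype.card Ω - 1 ≤ 1 + ((Finset.univ.filter
      (fun C : ConjClasses G => ∃ g ∈ H, ConjClasses.mk g = C)).card - 1) *
        Nat.card ↥(stabilizer G a ⊓ stabilizer G b : Subgroup G) := by
  classical
  set e := Nat.card ↥(stabilizer G a ⊓ stabilizer G b : Subgroup G) with he
  set 𝒨 := Finset.univ.filter
    (fun C : ConjClasses G => ∃ g ∈ H, ConjClasses.mk g = C) with h𝒨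
  set Hf := Finset.univ.filter (fun g : G => g ∈ H) with hHf
  have hHcard' : Hf.card = Fintype.card Ω - 1 := by
    have : Hf.card = Nat.card H := by
      rw [Nat.card_eq_fintype_card, Fintype.card_subtype]
    omega
  have hmaps : ∀ g ∈ Hf, ConjClasses.mk g ∈ 𝒨 := by
    intro g hg
    simp only [hHf, Finset.mem_filter, Finset.mem_univ, true_and] at hg
    simp only [h𝒨, Finset.mem_filter, Finset.mem_univ, true_and]
    exact ⟨g, hg, rfl⟩
  have hsum := Finset.card_eq_sum_card_fiberwise hmaps
  have h1mem : ConjClasses.mk (1 : G) ∈ 𝒨 := hmaps 1 (by simp [hHf])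
  rw [← Finset.add_sum_erase _ _ h1mem] at hsum
  have hone : (Hf.filter (fun g => ConjClasses.mk g = ConjClasses.mk (1 : G))).card = 1 := by
    rw [Finset.card_eq_one]
    refine ⟨1, ?_⟩
    ext g
    simp only [hHf, Finset.mem_filter, Finset.mem_univ, true_and, Finset.mem_singleton]
    constructor
    · rintro ⟨-, hg⟩
      rw [ConjClasses.mk_eq_mk_iff_isConj] at hg
      exact (isConj_one_left.mp hg)
    · rintro rfl
      exact ⟨H.one_mem, rfl⟩
  have hothers : ∀ C ∈ 𝒨.erase (ConjClasses.mk (1 : G)),
      (Hf.filter (fun g => ConjClasses.mk g = C)).card ≤ e := by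
    intro C hC
    rw [Finset.mem_erase] at hC
    obtain ⟨hC1, hC𝒨⟩ := hC
    simp only [h𝒨, Finset.mem_filter, Finset.mem_univ, true_and] at hC𝒨
    obtain ⟨u₀, hu₀, rfl⟩ := hC𝒨
    have hu₀1 : u₀ ≠ 1 := by
      rintro rfl
      exact hC1 rfl
    exact zas_card_class_inter_kernel_le hZ hab H hHa hHcard hHfix hHab hu₀ hu₀1
  have hle := Finset.sum_le_sum hothers
  rw [Finset.sum_const, smul_eq_mul, Finset.card_erase_of_mem h1mem] at hle
  rw [← hHcard', hsum, hone]
  omega

open Classical in
/-- **at most `e` conjugacy classes of `G` contain no element of the abelian kernel `H`** -/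
theorem zas_card_classes_missing_le [IsSimpleGroup G] (hlt : 2 *
    Nat.card ↥(stabilizer G a ⊓ stabilizer G b : Subgroup G) < Fintype.card Ω - 2) :
    (Finset.univ.filter
      (fun C : ConjClasses G => ∀ g : G, ConjClasses.mk g = C → g ∉ H)).card ≤
      Nat.card ↥(stabilizer G a ⊓ stabilizer G b : Subgroup G) := by
  classical
  haveI : Fintype (stabilizer G a) := Fintype.ofFinite _
  haveI : Finite (Cfsg.IrrCharacter (stabilizer G a)) := irr_finite
  set e := Nat.card ↥(stabilizer G a ⊓ stabilizer G b : Subgroup G) with he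
  set S := {χ : Cfsg.IrrCharacter (stabilizer G a) //
      (χ : stabilizer G a → ℂ) ∈ zasRel a H} with hS
  have hse := zas_card_rel_mul hZ hab H hHa hHcard hHfix hHab
  rw [← he, ← hS] at hse
  have hSpos : 0 < Nat.card S := by
    by_contra h
    have : Nat.card S = 0 := by omega
    rw [this, zero_mul] at hse
    omega
  obtain ⟨χ₁⟩ : Nonempty S := (Nat.card_pos_iff.mp hSpos).1
  have hH1 : H ≠ ⊥ := by
    intro h
    rw [h, Subgroup.card_bot] at hHcard
    omega
  have hirr := zas_card_irr_le hZ hab H hHa hHcard hHfix hHab hH1 χ₁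
  rw [← he, ← hS, card_irr_eq_card_conjClasses, Nat.card_eq_fintype_card,
    ← Finset.card_univ,
    ← Finset.card_filter_add_card_filter_not
      (fun C : ConjClasses G => ∃ g ∈ H, ConjClasses.mk g = C)] at hirr
  have hmeet := zas_card_classes_meeting_ge hZ hab H hHa hHcard hHfix hHab
  rw [← he] at hmeet
  have hfilt : (Finset.univ.filter
      (fun C : ConjClasses G => ¬ ∃ g ∈ H, ConjClasses.mk g = C)) =
      Finset.univ.filter
        (fun C : ConjClasses G => ∀ g : G, ConjClasses.mk g = C → g ∉ H) := by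
    ext C
    simp only [Finset.mem_filter, Finset.mem_univ, true_and]
    constructor
    · intro h g hg hgH
      exact h ⟨g, hgH, hg⟩
    · rintro h ⟨g, hgH, hg⟩
      exact h g hg hgH
  rw [hfilt] at hirr
  set m := (Finset.univ.filter
    (fun C : ConjClasses G => ∃ g ∈ H, ConjClasses.mk g = C)).card with hm
  set t := (Finset.univ.filter
    (fun C : ConjClasses G => ∀ g : G, ConjClasses.mk g = C → g ∉ H)).card with ht
  have hepos : 0 < e := Nat.card_pos
  -- `s ≤ m - 1`
  have hs : Nat.card S ≤ m - 1 := by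
    have h1 : Nat.card S * e ≤ (m - 1) * e := by
      rw [hse]
      omega
    exact Nat.le_of_mul_le_mul_right h1 hepos
  omega

end

end Cfsg.Agent.Helper6
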