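import Mathlib
import Cfsg.Prelude.Def_Characters
import Cfsg.Agent.Helper6.ZasChG

/-!
# Zassenhaus groups with abelian kernel: the class bound in the form used by `Helper2.FeitAb`
-/

set_option autoImplicit false
set_option linter.style.haveILetI false

namespace Cfsg.Agent.Helper6

open MulAction

universe u v

/-- at most `e` conjugacy classes of a simple Zassenhaus group miss an abelian Frobenius kernel -/
theorem zas_class_bound {G : Type u} {Ω : Type v} [Group G] [Finite G] [MulAction G Ω]
    [Fintype Ω] (hZ : Cfsg.IsZassenhausGroup G Ω) {a b : Ω} (hab : a ≠ b) [IsSimpleGroup G]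
    (h e : ℕ) (hh : Fintype.card Ω = h + 1)
    (he : Nat.card ↥(stabilizer G a ⊓ stabilizer G b : Subgroup G) = e)
    (hlt : 2 * e < h - 1) (H : Subgroup G) (hHa : H ≤ stabilizer G a)
    (hHcard : Nat.card H + 1 = Fintype.card Ω)
    (hHfix : ∀ u ∈ H, u ≠ 1 → ∀ c : Ω, u • c = c → c = a)
    (hHab : ∀ u ∈ H, ∀ v ∈ H, u * v = v * u) :
    Nat.card {C : ConjClasses G // ∀ g : G, ConjClasses.mk g = C → g ∉ H} ≤ e := by
  classical
  haveI : Fintype G := Fintype.ofFinite G
  have hlt' : 2 * Nat.card ↥(stabilizer G a ⊓ stabilizer G b : Subgroup G) <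
      Fintype.card Ω - 2 := by
    rw [he, hh]
    omega
  have := zas_card_classes_missing_le hZ hab H hHa hHcard hHfix hHab hlt'
  rw [he] at this
  rw [Nat.card_eq_fintype_card, Fintype.card_subtype]
  convert this

end Cfsg.Agent.Helper6
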