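import Mathlib
import Cfsg.Prelude.Def_Characters
import Cfsg.Agent.Helper6.ZasChG
import Cfsg.Agent.Helper6.ZasClsD

/-!
# Zassenhaus groups with abelian kernel: the exact number of irreducible characters
-/

set_option autoImplicit false
set_option linter.style.haveILetI false
set_option linter.unusedSectionVars false

namespace Cfsg.Agent.Helper6

open MulAction Cfsg.Agent.Helper2
open scoped ComplexConjugate

variable {G Ω : Type*} [Group G] [MulAction G Ω]

section

variable [Fintype G] [Fintype Ω]
  (hZ : Cfsg.IsZassenhausGroup G Ω) {a b : Ω} (hab : a ≠ b)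
  (H : Subgroup G) (hHa : H ≤ stabilizer G a) (hHcard : Nat.card H + 1 = Fintype.card Ω)
  (hHfix : ∀ u ∈ H, u ≠ 1 → ∀ c : Ω, u • c = c → c = a)
  (hHab : ∀ u ∈ H, ∀ v ∈ H, u * v = v * u)

include hZ hab hHa hHcard hHfix hHab

/-- the relevant characters exist -/
theorem zas_rel_nonempty (hlt : 2 * Nat.card ↥(stabilizer G a ⊓ stabilizer G b : Subgroup G) <
      Fintype.card Ω - 2) :
    Nonempty {χ : Cfsg.IrrCharacter (stabilizer G a) //
        (χ : stabilizer G a → ℂ) ∈ zasRel a H} := by
  classical
  have hse := zas_card_rel_mul hZ hab H hHa hHcard hHfix hHab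
  have hSpos : 0 < Nat.card {χ : Cfsg.IrrCharacter (stabilizer G a) //
        (χ : stabilizer G a → ℂ) ∈ zasRel a H} := by
    by_contra h
    have h0 : Nat.card {χ : Cfsg.IrrCharacter (stabilizer G a) //
        (χ : stabilizer G a → ℂ) ∈ zasRel a H} = 0 := by omega
    rw [h0, zero_mul] at hse
    omega
  exact (Nat.card_pos_iff.mp hSpos).1

/-- **the number of irreducible characters of `G` is exactly `1 + e + s`** -/
theorem zas_card_irr_eq [IsSimpleGroup G]
    (hodd : Odd (Nat.card ↥(stabilizer G a ⊓ stabilizer G b : Subgroup G)))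
    (hlt : 2 * Nat.card ↥(stabilizer G a ⊓ stabilizer G b : Subgroup G) <
      Fintype.card Ω - 2) :
    Nat.card (Cfsg.IrrCharacter G) =
      1 + Nat.card ↥(stabilizer G a ⊓ stabilizer G b : Subgroup G) +
        Nat.card {χ : Cfsg.IrrCharacter (stabilizer G a) //
          (χ : stabilizer G a → ℂ) ∈ zasRel a H} := by
  classical
  haveI : Fintype (stabilizer G a) := Fintype.ofFinite _
  haveI : Finite (Cfsg.IrrCharacter (stabilizer G a)) := irr_finite
  set e := Nat.card ↥(stabilizer G a ⊓ stabilizer G b : Subgroup G) with he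
  set S := {χ : Cfsg.IrrCharacter (stabilizer G a) //
      (χ : stabilizer G a → ℂ) ∈ zasRel a H} with hS
  have hse := zas_card_rel_mul hZ hab H hHa hHcard hHfix hHab
  rw [← he, ← hS] at hse
  obtain ⟨χ₁⟩ : Nonempty S := zas_rel_nonempty hZ hab H hHa hHcard hHfix hHab hlt
  have hH1 : H ≠ ⊥ := by
    intro h
    rw [h, Subgroup.card_bot] at hHcard
    omega
  have hirr := zas_card_irr_le hZ hab H hHa hHcard hHfix hHab hH1 χ₁
  rw [← he, ← hS] at hirr
  apply le_antisymm hirr
  rw [card_irr_eq_card_conjClasses, Nat.card_eq_fintype_card (α := ConjClasses G),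
    ← Finset.card_univ (α := ConjClasses G),
    ← Finset.card_filter_add_card_filter_not
      (fun C : ConjClasses G => ∃ g ∈ H, ConjClasses.mk g = C)]
  have hmeet := zas_card_classes_meeting_ge hZ hab H hHa hHcard hHfix hHab
  rw [← he] at hmeet
  have hfilt : (Finset.univ.filter
      (fun C : ConjClasses G => ¬ ∃ g ∈ H, ConjClasses.mk g = C)) =
      Finset.univ.filter
        (fun C : ConjClasses G => ∀ g : G, ConjClasses.mk g = C → g ∉ H) := by
    ext C
    simp only [Finset.mem_filter, Finset.mem_univ, true_and]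
    constructor
    · intro h g hg hgH
      exact h ⟨g, hgH, hg⟩
    · rintro h ⟨g, hgH, hg⟩
      exact h g hg hgH
  rw [hfilt]
  have hΩ : 3 ≤ Fintype.card Ω := by omega
  have hmiss := zas_card_classes_missing hZ hab hodd (Fintype.card Ω - 1) e
    (by omega) he.symm (by omega) H hHa hHfix
  set m := (Finset.univ.filter
    (fun C : ConjClasses G => ∃ g ∈ H, ConjClasses.mk g = C)).card with hm
  have hepos : 0 < e := Nat.card_pos
  have hs : Nat.card S ≤ m - 1 := by
    have h1 : Nat.card S * e ≤ (m - 1) * e := by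
      rw [hse]
      omega
    exact Nat.le_of_mul_le_mul_right h1 hepos
  have hm1 : 1 ≤ m := by
    rw [hm, Nat.one_le_iff_ne_zero, Finset.card_ne_zero]
    exact ⟨ConjClasses.mk 1, by
      simp only [Finset.mem_filter, Finset.mem_univ, true_and]
      exact ⟨1, H.one_mem, rfl⟩⟩
  set t := (Finset.univ.filter
    (fun C : ConjClasses G => ∀ g : G, ConjClasses.mk g = C → g ∉ H)).card with ht
  have hmiss' : e ≤ t := by
    rw [ht]
    convert hmiss
  omega

end

end Cfsg.Agent.Helper6
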