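import Mathlib
import Cfsg.Prelude.Def_Characters
import Cfsg.Agent.Helper6.ZasChI

/-!
# Zassenhaus groups with abelian kernel: exceptional characters
-/

set_option autoImplicit false
set_option linter.style.haveILetI false
set_option linter.unusedSectionVars false

namespace Cfsg.Agent.Helper6

open MulAction Cfsg.Agent.Helper2
open scoped ComplexConjugate

/-- if a character has as many irreducible constituents as its norm, it is multiplicity free -/
theorem constituents_mult_one {X : Type*} [Group X] [Fintype X]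
    [Fintype (Cfsg.IrrCharacter X)] {Φ : X → ℂ} (hΦ : Cfsg.IsCharacter X Φ) (N : ℕ)
    (hN : Cfsg.classInner Φ Φ = N)
    [DecidablePred fun Ξ : Cfsg.IrrCharacter X => Cfsg.classInner Φ (Ξ : X → ℂ) ≠ 0]
    (hcard : N ≤ (Finset.univ.filter
      (fun Ξ : Cfsg.IrrCharacter X => Cfsg.classInner Φ (Ξ : X → ℂ) ≠ 0)).card)
    (Ξ : Cfsg.IrrCharacter X) (hΞ : Cfsg.classInner Φ (Ξ : X → ℂ) ≠ 0) :
    Cfsg.classInner Φ (Ξ : X → ℂ) = 1 := by
  classical
  have hn : ∀ Ξ : Cfsg.IrrCharacter X, ∃ n : ℕ, Cfsg.classInner Φ (Ξ : X → ℂ) = n := fun Ξ =>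
    classInner_char_char_nat hΦ (IsIrrCharacter.isCharacter Ξ.2)
  choose n hn using hn
  have hpars := classInner_self_eq_sum_irr Φ (IsCharacter.isClassFunction hΦ)
  rw [hN] at hpars
  have hnat : N = ∑ Ξ : Cfsg.IrrCharacter X, n Ξ * n Ξ := by
    have : (N : ℂ) = ((∑ Ξ : Cfsg.IrrCharacter X, n Ξ * n Ξ : ℕ) : ℂ) := by
      rw [hpars]
      push_cast
      apply Finset.sum_congr rfl
      intro Ξ _
      rw [hn Ξ, Complex.conj_natCast]
    exact_mod_cast this
  rw [Finset.card_eq_sum_ones, Finset.sum_filter] at hcard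
  have hle : ∀ Ξ ∈ (Finset.univ : Finset (Cfsg.IrrCharacter X)),
      (if Cfsg.classInner Φ (Ξ : X → ℂ) ≠ 0 then 1 else 0) ≤ n Ξ * n Ξ := by
    intro Ξ _
    split_ifs with h
    · have : n Ξ ≠ 0 := by
        intro h0
        apply h
        rw [hn Ξ, h0, Nat.cast_zero]
      have h1 : 1 ≤ n Ξ := Nat.one_le_iff_ne_zero.mpr this
      nlinarith
    · exact Nat.zero_le _
  have heq : ∑ Ξ : Cfsg.IrrCharacter X,
      (if Cfsg.classInner Φ (Ξ : X → ℂ) ≠ 0 then 1 else 0) =
      ∑ Ξ : Cfsg.IrrCharacter X, n Ξ * n Ξ := by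
    apply le_antisymm (Finset.sum_le_sum hle)
    rw [← hnat]
    exact hcard
  have hpt := (Finset.sum_eq_sum_iff_of_le hle).mp heq Ξ (Finset.mem_univ _)
  rw [if_pos hΞ] at hpt
  have h1 : n Ξ = 1 := by
    have : n Ξ * n Ξ = 1 := hpt.symm
    exact Nat.eq_one_of_mul_eq_one_left this
  rw [hn Ξ, h1, Nat.cast_one]

variable {G Ω : Type*} [Group G] [MulAction G Ω]

/-- `Ξ` is an exceptional character belonging to the relevant character `χ₀` -/
def zasExc [Fintype G] (a : Ω) (H : Subgroup G) (χ₀ : stabilizer G a → ℂ) (Ξ : G → ℂ) : Prop :=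
  Cfsg.classInner (Cfsg.indFun (stabilizer G a) χ₀) Ξ = 1 ∧
    ∀ χ ∈ zasRel a H, χ ≠ χ₀ → Cfsg.classInner (Cfsg.indFun (stabilizer G a) χ) Ξ = 0

section

variable [Fintype G] [Fintype Ω]
  (hZ : Cfsg.IsZassenhausGroup G Ω) {a b : Ω} (hab : a ≠ b)
  (H : Subgroup G) (hHa : H ≤ stabilizer G a) (hHcard : Nat.card H + 1 = Fintype.card Ω)
  (hHfix : ∀ u ∈ H, u ≠ 1 → ∀ c : Ω, u • c = c → c = a)
  (hHab : ∀ u ∈ H, ∀ v ∈ H, u * v = v * u)

include hZ hab hHa hHcard hHfix hHab

/-- the core of the exceptional character theory, relative to a base character `χ₁` -/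
theorem zas_core [IsSimpleGroup G]
    (hcount : Nat.card (Cfsg.IrrCharacter G) =
      1 + Nat.card ↥(stabilizer G a ⊓ stabilizer G b : Subgroup G) +
        Nat.card {χ : Cfsg.IrrCharacter (stabilizer G a) //
          (χ : stabilizer G a → ℂ) ∈ zasRel a H})
    {χ₁ : stabilizer G a → ℂ} (hχ₁ : χ₁ ∈ zasRel a H) :
    (∀ Ξ : G → ℂ, Cfsg.IsIrrCharacter G Ξ →
      Cfsg.classInner (Cfsg.indFun (stabilizer G a) χ₁) Ξ ≠ 0 →
        Cfsg.classInner (Cfsg.indFun (stabilizer G a) χ₁) Ξ = 1) ∧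
    (∀ χ₀ ∈ zasRel a H, χ₀ ≠ χ₁ → ∃ Ξ : G → ℂ, Cfsg.IsIrrCharacter G Ξ ∧ zasExc a H χ₀ Ξ) ∧
    (∀ Ξ : G → ℂ, Cfsg.IsIrrCharacter G Ξ → Ξ ≠ (fun _ => 1) →
      Cfsg.classInner (Cfsg.indFun (stabilizer G a) χ₁) Ξ = 0 →
        ∃ χ₀ ∈ zasRel a H, zasExc a H χ₀ Ξ) := by
  classical
  haveI : Fintype (stabilizer G a) := Fintype.ofFinite _
  haveI : Finite (Cfsg.IrrCharacter (stabilizer G a)) := irr_finite
  haveI : Fintype (Cfsg.IrrCharacter (stabilizer G a)) := Fintype.ofFinite _
  haveI : Finite (Cfsg.IrrCharacter G) := irr_finite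
  haveI : Fintype (Cfsg.IrrCharacter G) := Fintype.ofFinite _
  set e := Nat.card ↥(stabilizer G a ⊓ stabilizer G b : Subgroup G) with he
  set S := {χ : Cfsg.IrrCharacter (stabilizer G a) //
      (χ : stabilizer G a → ℂ) ∈ zasRel a H} with hS
  set Φ := Cfsg.indFun (stabilizer G a) χ₁ with hΦ
  have hΦc : Cfsg.IsCharacter G Φ :=
    isCharacter_indFun _ _ (IsIrrCharacter.isCharacter hχ₁.1)
  have hH1 : H ≠ ⊥ := by
    obtain ⟨k, hk, hne⟩ := hχ₁.2
    intro h
    rw [h, Subgroup.mem_bot] at hk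
    apply hne
    congr 1
    exact Subtype.ext hk
  let χ₁S : S := ⟨⟨χ₁, hχ₁.1⟩, hχ₁⟩
  -- the differences
  have hex : ∀ χ : S, ∃ p q : Cfsg.IrrCharacter G,
      ((χ.1 : stabilizer G a → ℂ) ≠ χ₁ → (p : G → ℂ) ≠ (q : G → ℂ) ∧
        Cfsg.indFun (stabilizer G a) (χ.1 : stabilizer G a → ℂ) - Φ =
          (p : G → ℂ) - (q : G → ℂ)) := by
    intro χ
    by_cases h : (χ.1 : stabilizer G a → ℂ) = χ₁
    · exact ⟨⟨fun _ => 1, isIrrCharacter_one⟩, ⟨fun _ => 1, isIrrCharacter_one⟩,
        fun h' => absurd h h'⟩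
    · obtain ⟨p, q, hp, hq, hpq, hd⟩ :=
        zas_rel_diff hZ hab H hHa hHcard hHfix hHab χ.2 hχ₁ h
      exact ⟨⟨p, hp⟩, ⟨q, hq⟩, fun _ => ⟨hpq, hd⟩⟩
  choose p q hpq using hex
  -- the multiplicity relation
  have hrel : ∀ χ : S, (χ.1 : stabilizer G a → ℂ) ≠ χ₁ → ∀ Ξ : Cfsg.IrrCharacter G,
      Cfsg.classInner (Cfsg.indFun (stabilizer G a) (χ.1 : stabilizer G a → ℂ)) (Ξ : G → ℂ) =
        Cfsg.classInner Φ (Ξ : G → ℂ) + (if p χ = Ξ then 1 else 0) -
          (if q χ = Ξ then 1 else 0) := by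
    intro χ hχ Ξ
    have h1 : Cfsg.classInner (Cfsg.indFun (stabilizer G a) (χ.1 : stabilizer G a → ℂ) - Φ)
        (Ξ : G → ℂ) = (if p χ = Ξ then 1 else 0) - (if q χ = Ξ then 1 else 0) := by
      rw [(hpq χ hχ).2, classInner_sub_left, classInner_irr_ite (p χ).2 Ξ.2,
        classInner_irr_ite (q χ).2 Ξ.2]
      congr 1
      · by_cases h : p χ = Ξ
        · rw [if_pos h, if_pos (congrArg Subtype.val h)]
        · rw [if_neg h, if_neg (fun h' => h (Subtype.ext h'))]
      · by_cases h : q χ = Ξ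
        · rw [if_pos h, if_pos (congrArg Subtype.val h)]
        · rw [if_neg h, if_neg (fun h' => h (Subtype.ext h'))]
    rw [classInner_sub_left] at h1
    linear_combination h1
  have hnat : ∀ (χ : S) (Ξ : Cfsg.IrrCharacter G), ∃ n : ℕ,
      Cfsg.classInner (Cfsg.indFun (stabilizer G a) (χ.1 : stabilizer G a → ℂ))
        (Ξ : G → ℂ) = n := fun χ Ξ =>
    classInner_char_char_nat (isCharacter_indFun _ _ (IsIrrCharacter.isCharacter χ.1.2))
      (IsIrrCharacter.isCharacter Ξ.2)
  -- the sets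
  set B := Finset.univ.filter
    (fun Ξ : Cfsg.IrrCharacter G => Cfsg.classInner Φ (Ξ : G → ℂ) ≠ 0) with hB
  have hnorm : Cfsg.classInner Φ Φ = ((1 + e : ℕ) : ℂ) := by
    rw [hΦ, zas_classInner_ind_rel hZ hab H hHa hHcard hHfix hHab hχ₁ hχ₁,
      classInner_irr_self hχ₁.1]
    push_cast
    ring
  have hBcard : B.card ≤ 1 + e := card_constituents_le hΦc (1 + e) hnorm
  set F := Finset.univ.filter (fun χ : S => (χ.1 : stabilizer G a → ℂ) ≠ χ₁) with hF
  have hFcard : F.card ≤ Fintype.card S - 1 := by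
    have hsub : F ⊆ Finset.univ.erase χ₁S := by
      intro χ hχ
      simp only [hF, Finset.mem_filter, Finset.mem_univ, true_and] at hχ
      rw [Finset.mem_erase]
      refine ⟨?_, Finset.mem_univ _⟩
      intro h
      apply hχ
      rw [h]
    have := Finset.card_le_card hsub
    rwa [Finset.card_erase_of_mem (Finset.mem_univ _), Finset.card_univ] at this
  set P := F.image p with hP
  have hPcard : P.card ≤ F.card := Finset.card_image_le
  have hSpos : 0 < Fintype.card S := Fintype.card_pos_iff.mpr ⟨χ₁S⟩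
  set one : Cfsg.IrrCharacter G := ⟨fun _ => 1, isIrrCharacter_one⟩ with hone
  -- the cover
  have hcover : (Finset.univ : Finset (Cfsg.IrrCharacter G)) ⊆ ({one} ∪ B) ∪ P := by
    intro Ξ _
    by_cases h1 : (Ξ : G → ℂ) = fun _ => 1
    · apply Finset.mem_union_left
      apply Finset.mem_union_left
      rw [Finset.mem_singleton]
      exact Subtype.ext h1
    · by_cases h2 : Cfsg.classInner Φ (Ξ : G → ℂ) = 0
      · apply Finset.mem_union_right
        obtain ⟨χ, hχ, hne⟩ := zas_exists_rel_constituent hZ hab H hHa hHcard hHfix hH1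
          (Ξ : G → ℂ) Ξ.2 h1
        have hχ1 : χ ≠ χ₁ := by
          rintro rfl
          exact hne h2
        let χS : S := ⟨⟨χ, hχ.1⟩, hχ⟩
        have hr := hrel χS hχ1 Ξ
        obtain ⟨n, hn⟩ := hnat χS Ξ
        rw [h2, zero_add, hn] at hr
        have hn0 : n ≠ 0 := by
          rintro rfl
          apply hne
          rw [Nat.cast_zero] at hn
          exact hn
        rw [hP, Finset.mem_image]
        refine ⟨χS, ?_, ?_⟩
        · simp only [hF, Finset.mem_filter, Finset.mem_univ, true_and]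
          exact hχ1
        · by_contra hpΞ
          rw [if_neg hpΞ] at hr
          split_ifs at hr with hqΞ
          · have h3 : ((n : ℤ) : ℂ) = ((-1 : ℤ) : ℂ) := by
              push_cast
              rw [hr]
              ring
            have h4 : (n : ℤ) = -1 := by exact_mod_cast h3
            omega
          · have h3 : (n : ℂ) = 0 := by
              rw [hr]
              ring
            exact hn0 (by exact_mod_cast h3)
      · apply Finset.mem_union_left
        apply Finset.mem_union_right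
        simp only [hB, Finset.mem_filter, Finset.mem_univ, true_and]
        exact h2
  have hcard := Finset.card_le_card hcover
  rw [Finset.card_univ, ← Nat.card_eq_fintype_card, hcount,
    Nat.card_eq_fintype_card (α := S)] at hcard
  have h3 := Finset.card_union_add_card_inter (({one} : Finset _) ∪ B) P
  have h4 := Finset.card_union_le ({one} : Finset (Cfsg.IrrCharacter G)) B
  rw [Finset.card_singleton] at h4
  have hBeq : B.card = 1 + e := by omega
  have hPeq : P.card = F.card := by omega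
  have hinter : ((({one} : Finset _) ∪ B) ∩ P).card = 0 := by omega
  have hinj : Set.InjOn p F := Finset.card_image_iff.mp hPeq
  have hPB : ∀ χ ∈ F, Cfsg.classInner Φ (p χ : G → ℂ) = 0 := by
    intro χ hχ
    by_contra hne
    have hmem : p χ ∈ (({one} : Finset _) ∪ B) ∩ P := by
      rw [Finset.mem_inter]
      refine ⟨Finset.mem_union_right _ ?_, Finset.mem_image_of_mem p hχ⟩
      simp only [hB, Finset.mem_filter, Finset.mem_univ, true_and]
      exact hne
    rw [Finset.card_eq_zero] at hinter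
    rw [hinter] at hmem
    exact absurd hmem (Finset.notMem_empty _)
  -- `p χ₀` is exceptional for `χ₀`
  have hexc : ∀ χ₀ ∈ F, zasExc a H (χ₀.1 : stabilizer G a → ℂ) (p χ₀ : G → ℂ) := by
    intro χ₀ hχ₀
    have hχ₀1 : (χ₀.1 : stabilizer G a → ℂ) ≠ χ₁ := by
      simpa only [hF, Finset.mem_filter, Finset.mem_univ, true_and] using hχ₀
    constructor
    · rw [hrel χ₀ hχ₀1 (p χ₀), hPB χ₀ hχ₀, if_pos rfl, if_neg]
      · ring
      · intro h
        exact (hpq χ₀ hχ₀1).1 (congrArg Subtype.val h).symm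
    · intro χ hχ hne
      by_cases hχ1 : χ = χ₁
      · rw [hχ1]
        exact hPB χ₀ hχ₀
      · let χS : S := ⟨⟨χ, hχ.1⟩, hχ⟩
        have hχF : χS ∈ F := by
          simp only [hF, Finset.mem_filter, Finset.mem_univ, true_and]
          exact hχ1
        have hr := hrel χS hχ1 (p χ₀)
        obtain ⟨n, hn⟩ := hnat χS (p χ₀)
        rw [hPB χ₀ hχ₀, zero_add, hn, if_neg] at hr
        · show Cfsg.classInner (Cfsg.indFun (stabilizer G a)
            ((χS.1 : Cfsg.IrrCharacter (stabilizer G a)) : stabilizer G a → ℂ))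
              (p χ₀ : G → ℂ) = 0
          rw [hn]
          split_ifs at hr with hq
          · have h5 : ((n : ℤ) : ℂ) = ((-1 : ℤ) : ℂ) := by
              push_cast
              rw [hr]
              ring
            have h6 : (n : ℤ) = -1 := by exact_mod_cast h5
            omega
          · rw [hr]
            ring
        · intro h
          have := hinj hχF hχ₀ h
          apply hne
          rw [← this]
  refine ⟨?_, ?_, ?_⟩
  · intro Ξ hΞ hne
    exact constituents_mult_one hΦc (1 + e) hnorm (by rw [← hB, hBeq]) ⟨Ξ, hΞ⟩ hne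
  · intro χ₀ hχ₀ hne
    let χS : S := ⟨⟨χ₀, hχ₀.1⟩, hχ₀⟩
    have hχF : χS ∈ F := by
      simp only [hF, Finset.mem_filter, Finset.mem_univ, true_and]
      exact hne
    exact ⟨(p χS : G → ℂ), (p χS).2, hexc χS hχF⟩
  · intro Ξ hΞ hΞ1 h0
    have hmem := hcover (Finset.mem_univ (⟨Ξ, hΞ⟩ : Cfsg.IrrCharacter G))
    rw [Finset.mem_union, Finset.mem_union, Finset.mem_singleton] at hmem
    rcases hmem with (h | h) | h
    · exfalso
      apply hΞ1
      exact congrArg Subtype.val h
    · exfalso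
      simp only [hB, Finset.mem_filter, Finset.mem_univ, true_and] at h
      exact h h0
    · rw [hP, Finset.mem_image] at h
      obtain ⟨χ₀, hχ₀, hp⟩ := h
      refine ⟨(χ₀.1 : stabilizer G a → ℂ), χ₀.2, ?_⟩
      have := hexc χ₀ hχ₀
      rw [hp] at this
      exact this

end

end Cfsg.Agent.Helper6
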