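import Mathlib
import Cfsg.Prelude.Def_Characters
import Cfsg.Agent.Helper6.ZasChJ

/-!
# Zassenhaus groups with abelian kernel: the structure of the set of irreducible characters
-/

set_option autoImplicit false
set_option linter.style.haveILetI false
set_option linter.unusedSectionVars false

namespace Cfsg.Agent.Helper6

open MulAction Cfsg.Agent.Helper2
open scoped ComplexConjugate

variable {G Ω : Type*} [Group G] [MulAction G Ω]

section

variable [Fintype G] [Fintype Ω]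
  (hZ : Cfsg.IsZassenhausGroup G Ω) {a b : Ω} (hab : a ≠ b)
  (H : Subgroup G) (hHa : H ≤ stabilizer G a) (hHcard : Nat.card H + 1 = Fintype.card Ω)
  (hHfix : ∀ u ∈ H, u ≠ 1 → ∀ c : Ω, u • c = c → c = a)
  (hHab : ∀ u ∈ H, ∀ v ∈ H, u * v = v * u)

include hZ hab hHa hHcard hHfix hHab

/-- there are at least three relevant characters -/
theorem zas_two_lt_card_rel (hlt : 2 * Nat.card ↥(stabilizer G a ⊓ stabilizer G b : Subgroup G) <
      Fintype.card Ω - 2) :
    2 < Nat.card {χ : Cfsg.IrrCharacter (stabilizer G a) //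
        (χ : stabilizer G a → ℂ) ∈ zasRel a H} := by
  have hse := zas_card_rel_mul hZ hab H hHa hHcard hHfix hHab
  rw [← hse] at hlt
  exact Nat.lt_of_mul_lt_mul_right hlt

/-- for every relevant character there is another one -/
theorem zas_exists_rel_ne (hlt : 2 * Nat.card ↥(stabilizer G a ⊓ stabilizer G b : Subgroup G) <
      Fintype.card Ω - 2) {χ₀ : stabilizer G a → ℂ} (hχ₀ : χ₀ ∈ zasRel a H) :
    ∃ χ₁ ∈ zasRel a H, χ₁ ≠ χ₀ := by
  classical
  haveI : Fintype (stabilizer G a) := Fintype.ofFinite _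
  haveI : Finite (Cfsg.IrrCharacter (stabilizer G a)) := irr_finite
  haveI : Fintype (Cfsg.IrrCharacter (stabilizer G a)) := Fintype.ofFinite _
  have h2 := zas_two_lt_card_rel hZ hab H hHa hHcard hHfix hHab hlt
  rw [Nat.card_eq_fintype_card] at h2
  obtain ⟨χ, hχ⟩ := Fintype.exists_ne_of_one_lt_card (by omega)
    (⟨⟨χ₀, hχ₀.1⟩, hχ₀⟩ : {χ : Cfsg.IrrCharacter (stabilizer G a) //
        (χ : stabilizer G a → ℂ) ∈ zasRel a H})
  refine ⟨(χ.1 : stabilizer G a → ℂ), χ.2, ?_⟩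
  intro h
  apply hχ
  apply Subtype.ext
  apply Subtype.ext
  exact h

/-- the exceptional character belonging to a relevant character is unique -/
theorem zasExc_unique (hlt : 2 * Nat.card ↥(stabilizer G a ⊓ stabilizer G b : Subgroup G) <
      Fintype.card Ω - 2) {χ₀ : stabilizer G a → ℂ} (hχ₀ : χ₀ ∈ zasRel a H) {Ξ Ξ' : G → ℂ}
    (hΞ : Cfsg.IsIrrCharacter G Ξ) (hΞ' : Cfsg.IsIrrCharacter G Ξ')
    (h : zasExc a H χ₀ Ξ) (h' : zasExc a H χ₀ Ξ') : Ξ = Ξ' := by
  obtain ⟨χ₁, hχ₁, hne⟩ := zas_exists_rel_ne hZ hab H hHa hHcard hHfix hHab hlt hχ₀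
  apply zas_unique_pos_constituent hZ hab H hHa hHcard hHfix hHab hχ₀ hχ₁ hne.symm hΞ hΞ'
    (h.2 χ₁ hχ₁ hne) _ (h'.2 χ₁ hχ₁ hne)
  · rw [h'.1]
    exact one_ne_zero
  · rw [h.1]
    exact one_ne_zero

/-- an irreducible character is exceptional for at most one relevant character -/
theorem zasExc_index_unique {χ₀ χ₀' : stabilizer G a → ℂ} (hχ₀ : χ₀ ∈ zasRel a H) {Ξ : G → ℂ}
    (h : zasExc a H χ₀ Ξ) (h' : zasExc a H χ₀' Ξ) : χ₀ = χ₀' := by
  by_contra hne
  have h1 := h'.2 χ₀ hχ₀ hne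
  rw [h.1] at h1
  exact one_ne_zero h1

/-- the principal character is not exceptional -/
theorem zasExc_ne_one {χ₀ : stabilizer G a → ℂ} (hχ₀ : χ₀ ∈ zasRel a H) :
    ¬ zasExc a H χ₀ (fun _ => (1 : ℂ)) := by
  classical
  haveI : Fintype (stabilizer G a) := Fintype.ofFinite _
  intro h
  have h1 := h.1
  rw [frobenius_reciprocity _ _ _
    (IsCharacter.isClassFunction (IsIrrCharacter.isCharacter isIrrCharacter_one))] at h1
  have hne : χ₀ ≠ fun _ => (1 : ℂ) := by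
    intro h2
    obtain ⟨k, -, hk⟩ := hχ₀.2
    apply hk
    rw [h2]
  rw [classInner_irr_ne hχ₀.1 isIrrCharacter_one hne] at h1
  exact zero_ne_one h1

/-- **existence of exceptional characters** -/
theorem zas_exists_exc [IsSimpleGroup G]
    (hodd : Odd (Nat.card ↥(stabilizer G a ⊓ stabilizer G b : Subgroup G)))
    (hlt : 2 * Nat.card ↥(stabilizer G a ⊓ stabilizer G b : Subgroup G) <
      Fintype.card Ω - 2) {χ₀ : stabilizer G a → ℂ} (hχ₀ : χ₀ ∈ zasRel a H) :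
    ∃ Ξ : G → ℂ, Cfsg.IsIrrCharacter G Ξ ∧ zasExc a H χ₀ Ξ := by
  obtain ⟨χ₁, hχ₁, hne⟩ := zas_exists_rel_ne hZ hab H hHa hHcard hHfix hHab hlt hχ₀
  have hcount := zas_card_irr_eq hZ hab H hHa hHcard hHfix hHab hodd hlt
  exact (zas_core hZ hab H hHa hHcard hHfix hHab hcount hχ₁).2.1 χ₀ hχ₀ hne.symm

/-- **classification of the non-principal irreducible characters** -/
theorem zas_exc_or_uniform [IsSimpleGroup G]
    (hodd : Odd (Nat.card ↥(stabilizer G a ⊓ stabilizer G b : Subgroup G)))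
    (hlt : 2 * Nat.card ↥(stabilizer G a ⊓ stabilizer G b : Subgroup G) <
      Fintype.card Ω - 2) {Ξ : G → ℂ} (hΞ : Cfsg.IsIrrCharacter G Ξ) (hΞ1 : Ξ ≠ fun _ => 1) :
    (∃ χ₀ ∈ zasRel a H, zasExc a H χ₀ Ξ) ∨
      ∀ χ ∈ zasRel a H, Cfsg.classInner (Cfsg.indFun (stabilizer G a) χ) Ξ = 1 := by
  have hcount := zas_card_irr_eq hZ hab H hHa hHcard hHfix hHab hodd hlt
  by_cases h : ∃ χ₁ ∈ zasRel a H, Cfsg.classInner (Cfsg.indFun (stabilizer G a) χ₁) Ξ = 0
  · obtain ⟨χ₁, hχ₁, h0⟩ := h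
    left
    exact (zas_core hZ hab H hHa hHcard hHfix hHab hcount hχ₁).2.2 Ξ hΞ hΞ1 h0
  · right
    push Not at h
    intro χ hχ
    exact (zas_core hZ hab H hHa hHcard hHfix hHab hcount hχ).1 Ξ hΞ (h χ hχ)

end

end Cfsg.Agent.Helper6
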