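import Mathlib
import Cfsg.Prelude.Def_Characters
import Cfsg.Agent.Helper6.ZasChK

/-!
# Zassenhaus groups with abelian kernel: splitting sums over the irreducible characters
-/

set_option autoImplicit false
set_option linter.style.haveILetI false
set_option linter.unusedSectionVars false

namespace Cfsg.Agent.Helper6

open MulAction Cfsg.Agent.Helper2
open scoped ComplexConjugate

variable {G Ω : Type*} [Group G] [MulAction G Ω]

/-- the type of relevant irreducible characters of `G_a` -/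
abbrev ZasS (a : Ω) (H : Subgroup G) : Type _ :=
  {χ : Cfsg.IrrCharacter (stabilizer G a) // (χ : stabilizer G a → ℂ) ∈ zasRel a H}

section

variable [Fintype G] [Fintype Ω]
  (hZ : Cfsg.IsZassenhausGroup G Ω) {a b : Ω} (hab : a ≠ b)
  (H : Subgroup G) (hHa : H ≤ stabilizer G a) (hHcard : Nat.card H + 1 = Fintype.card Ω)
  (hHfix : ∀ u ∈ H, u ≠ 1 → ∀ c : Ω, u • c = c → c = a)
  (hHab : ∀ u ∈ H, ∀ v ∈ H, u * v = v * u)

include hZ hab hHa hHcard hHfix hHab

/-- **the irreducible characters of `G`**: the principal character, the exceptional characters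
`Λ χ`, and `e` further characters in which every induced relevant character has multiplicity
one -/
theorem zas_irr_structure [IsSimpleGroup G]
    (hodd : Odd (Nat.card ↥(stabilizer G a ⊓ stabilizer G b : Subgroup G)))
    (hlt : 2 * Nat.card ↥(stabilizer G a ⊓ stabilizer G b : Subgroup G) <
      Fintype.card Ω - 2) [Fintype (Cfsg.IrrCharacter G)]
    [Fintype (ZasS a H)] :
    ∃ (Λ : ZasS a H → Cfsg.IrrCharacter G)
      (D : Finset (Cfsg.IrrCharacter G)),
      (∀ χ, zasExc a H ((χ.1 : Cfsg.IrrCharacter (stabilizer G a)) : stabilizer G a → ℂ)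
        (Λ χ : G → ℂ)) ∧
      D.card = Nat.card ↥(stabilizer G a ⊓ stabilizer G b : Subgroup G) ∧
      (∀ Ξ ∈ D, ∀ χ ∈ zasRel a H,
        Cfsg.classInner (Cfsg.indFun (stabilizer G a) χ) (Ξ : G → ℂ) = 1) ∧
      ∀ f : Cfsg.IrrCharacter G → ℂ, ∑ Ξ, f Ξ =
        f ⟨fun _ => 1, isIrrCharacter_one⟩ + ∑ χ, f (Λ χ) + ∑ Ξ ∈ D, f Ξ := by
  classical
  set e := Nat.card ↥(stabilizer G a ⊓ stabilizer G b : Subgroup G) with he
  have hex : ∀ χ : ZasS a H, ∃ Ξ : Cfsg.IrrCharacter G,
      zasExc a H ((χ.1 : Cfsg.IrrCharacter (stabilizer G a)) : stabilizer G a → ℂ)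
        (Ξ : G → ℂ) := by
    intro χ
    obtain ⟨Ξ, hΞ, hexc⟩ := zas_exists_exc hZ hab H hHa hHcard hHfix hHab hodd hlt χ.2
    exact ⟨⟨Ξ, hΞ⟩, hexc⟩
  choose Λ hΛ using hex
  have hinj : Function.Injective Λ := by
    intro χ χ' h
    have h1 := hΛ χ
    have h2 := hΛ χ'
    rw [← h] at h2
    have := zasExc_index_unique hZ hab H hHa hHcard hHfix hHab χ.2 h1 h2
    apply Subtype.ext
    apply Subtype.ext
    exact this
  set one : Cfsg.IrrCharacter G := ⟨fun _ => 1, isIrrCharacter_one⟩ with hone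
  have hΛone : ∀ χ : ZasS a H, Λ χ ≠ one := by
    intro χ h
    have h1 := hΛ χ
    rw [h] at h1
    exact zasExc_ne_one hZ hab H hHa hHcard hHfix hHab χ.2 h1
  set I := (Finset.univ : Finset (ZasS a H)).image Λ with hI
  have hdisj : Disjoint ({one} : Finset (Cfsg.IrrCharacter G)) I := by
    rw [Finset.disjoint_singleton_left, hI, Finset.mem_image]
    rintro ⟨χ, -, h⟩
    exact hΛone χ h
  set D := Finset.univ \ (({one} : Finset (Cfsg.IrrCharacter G)) ∪ I) with hD
  have hcount := zas_card_irr_eq hZ hab H hHa hHcard hHfix hHab hodd hlt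
  rw [← he] at hcount
  have hcount' : Nat.card (Cfsg.IrrCharacter G) = 1 + e + Nat.card (ZasS a H) := hcount
  refine ⟨Λ, D, hΛ, ?_, ?_, ?_⟩
  · have h1 : D.card = (Finset.univ : Finset (Cfsg.IrrCharacter G)).card -
        (({one} : Finset (Cfsg.IrrCharacter G)) ∪ I).card :=
      Finset.card_sdiff_of_subset (Finset.subset_univ _)
    have h2 : (({one} : Finset (Cfsg.IrrCharacter G)) ∪ I).card = 1 + I.card := by
      rw [Finset.card_union_of_disjoint hdisj, Finset.card_singleton]
    have h3 : I.card = Nat.card (ZasS a H) := by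
      rw [hI, Finset.card_image_of_injective _ hinj, Finset.card_univ,
        Nat.card_eq_fintype_card]
    have h4 : (Finset.univ : Finset (Cfsg.IrrCharacter G)).card =
        Nat.card (Cfsg.IrrCharacter G) := by
      rw [Finset.card_univ, Nat.card_eq_fintype_card]
    rw [h1, h2, h3, h4, hcount']
    omega
  · intro Ξ hΞ χ hχ
    rw [hD, Finset.mem_sdiff, Finset.mem_union, Finset.mem_singleton] at hΞ
    have hΞ1 : (Ξ : G → ℂ) ≠ fun _ => 1 := by
      intro h
      apply hΞ.2
      left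
      exact Subtype.ext h
    rcases zas_exc_or_uniform hZ hab H hHa hHcard hHfix hHab hodd hlt Ξ.2 hΞ1 with h | h
    · exfalso
      obtain ⟨χ₀, hχ₀, hexc⟩ := h
      apply hΞ.2
      right
      rw [hI, Finset.mem_image]
      set χS : ZasS a H := ⟨⟨χ₀, hχ₀.1⟩, hχ₀⟩ with hχS
      refine ⟨χS, Finset.mem_univ _, ?_⟩
      apply Subtype.ext
      exact zasExc_unique hZ hab H hHa hHcard hHfix hHab hlt hχ₀ (Λ χS).2 Ξ.2 (hΛ χS) hexc
    · exact h χ hχ
  · intro f
    rw [← Finset.sum_sdiff (Finset.subset_univ (({one} : Finset (Cfsg.IrrCharacter G)) ∪ I)),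
      ← hD, Finset.sum_union hdisj, Finset.sum_singleton, hI,
      Finset.sum_image (fun x _ y _ h => hinj h)]
    ring

end

end Cfsg.Agent.Helper6
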