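import Mathlib
import Cfsg.Prelude.Def_Characters
import Cfsg.Agent.Helper6.StructConst

/-!
# Vanishing class algebra constants in terms of characters
-/

set_option autoImplicit false
set_option linter.style.haveILetI false

namespace Cfsg.Agent.Helper6

open scoped ComplexConjugate

universe u

/-- if no product of two conjugates of `t` is conjugate to `u`, the corresponding character sum
vanishes -/
theorem sum_irr_sq_mul_conj_eq_zero {X : Type u} [Group X] [Fintype X]
    [Fintype (Cfsg.IrrCharacter X)] (t u : X)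
    (h : ∀ x y : X, IsConj t x → IsConj t y → ¬ IsConj u (x * y)) :
    ∑ Ξ : Cfsg.IrrCharacter X,
      (Ξ : X → ℂ) t * (Ξ : X → ℂ) t * conj ((Ξ : X → ℂ) u) / (Ξ : X → ℂ) 1 = 0 := by
  classical
  set c : ℂ := ((Subgroup.centralizer ({t} : Set X)).index : ℂ) with hc
  have hc0 : c ≠ 0 := by
    rw [hc]
    have : (Subgroup.centralizer ({t} : Set X)).index ≠ 0 := Subgroup.index_ne_zero_of_finite
    exact_mod_cast this
  have hzero : ∀ z : X, IsConj z u → ((classPairs t t z).card : ℂ) = 0 := by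
    intro z hz
    rw [Nat.cast_eq_zero, Finset.card_eq_zero, Finset.eq_empty_iff_forall_notMem]
    intro q hq
    rw [mem_classPairs] at hq
    apply h q.1 q.2 hq.1 hq.2.1
    rw [hq.2.2]
    exact hz.symm
  have hΞ : ∀ Ξ : Cfsg.IrrCharacter X,
      c * c * ((Ξ : X → ℂ) t * (Ξ : X → ℂ) t * conj ((Ξ : X → ℂ) u) / (Ξ : X → ℂ) 1) =
        ∑ z : X, ((classPairs t t z).card : ℂ) * ((Ξ : X → ℂ) z * conj ((Ξ : X → ℂ) u)) := by
    intro Ξ
    have hΞ1 : (Ξ : X → ℂ) 1 ≠ 0 := IsIrrCharacter.apply_one_ne_zero Ξ.2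
    have h1 := centralChar_mul_centralChar Ξ t t
    unfold Cfsg.centralChar at h1
    rw [← hc] at h1
    have h2 : ∑ z : X, ((classPairs t t z).card : ℂ) * ((Ξ : X → ℂ) z * conj ((Ξ : X → ℂ) u)) =
        (∑ z : X, ((classPairs t t z).card : ℂ) * (Ξ : X → ℂ) z / (Ξ : X → ℂ) 1) *
          ((Ξ : X → ℂ) 1 * conj ((Ξ : X → ℂ) u)) := by
      rw [Finset.sum_mul]
      apply Finset.sum_congr rfl
      intro z _
      field_simp
    rw [h2, ← h1]
    field_simp
  have hsum : c * c * ∑ Ξ : Cfsg.IrrCharacter X,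
      (Ξ : X → ℂ) t * (Ξ : X → ℂ) t * conj ((Ξ : X → ℂ) u) / (Ξ : X → ℂ) 1 = 0 := by
    rw [Finset.mul_sum, Finset.sum_congr rfl (fun Ξ _ => hΞ Ξ), Finset.sum_comm]
    apply Finset.sum_eq_zero
    intro z _
    rw [← Finset.mul_sum, column_orthogonality_aux z u]
    split_ifs with hz
    · rw [hzero z hz, zero_mul]
    · rw [mul_zero]
  rcases mul_eq_zero.mp hsum with h1 | h1
  · exfalso
    rcases mul_eq_zero.mp h1 with h2 | h2 <;> exact hc0 h2
  · exact h1

end Cfsg.Agent.Helper6
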