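import Mathlib
import Cfsg.Prelude.Def_Characters
import Cfsg.Agent.Helper6.ZasChN

/-!
# Zassenhaus groups with abelian kernel: values of the irreducible characters on the kernel
-/

set_option autoImplicit false
set_option linter.style.haveILetI false
set_option linter.unusedSectionVars false

namespace Cfsg.Agent.Helper6

open MulAction Cfsg.Agent.Helper2
open scoped ComplexConjugate

variable {G Ω : Type*} [Group G] [MulAction G Ω]

section

variable [Fintype G] [Fintype Ω]
  (a : Ω) (H : Subgroup G)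

/-- the values of a character of `G` on `H` in terms of the relevant characters -/
theorem zas_restrict_values [Fintype (Cfsg.IrrCharacter (stabilizer G a))] [Fintype (ZasS a H)]
    {Ξ : G → ℂ} (hΞ : Cfsg.IsCharacter G Ξ) :
    ∃ w : ℕ, ∀ k : stabilizer G a, (k : G) ∈ H →
      Ξ k = ∑ χ : ZasS a H, conj (Cfsg.classInner (Cfsg.indFun (stabilizer G a)
        ((χ.1 : Cfsg.IrrCharacter (stabilizer G a)) : stabilizer G a → ℂ)) Ξ) *
          ((χ.1 : Cfsg.IrrCharacter (stabilizer G a)) : stabilizer G a → ℂ) k + w := by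
  classical
  haveI : Fintype (stabilizer G a) := Fintype.ofFinite _
  have hΞcf := IsCharacter.isClassFunction hΞ
  have hres : Cfsg.IsCharacter (stabilizer G a) (fun x : stabilizer G a => Ξ x) :=
    IsCharacter.restrict _ hΞ
  have hrescf := IsCharacter.isClassFunction hres
  have hn : ∀ ζ : Cfsg.IrrCharacter (stabilizer G a), ∃ n : ℕ,
      Cfsg.classInner (fun x : stabilizer G a => Ξ x) (ζ : stabilizer G a → ℂ) = n := fun ζ =>
    classInner_char_char_nat hres (IsIrrCharacter.isCharacter ζ.2)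
  choose n hn using hn
  have hd : ∀ ζ : Cfsg.IrrCharacter (stabilizer G a), ∃ d : ℕ,
      (ζ : stabilizer G a → ℂ) 1 = d := fun ζ =>
    IsCharacter.apply_one (IsIrrCharacter.isCharacter ζ.2)
  choose d hd using hd
  refine ⟨∑ ζ ∈ Finset.univ.filter (fun ζ : Cfsg.IrrCharacter (stabilizer G a) =>
        ∀ n ∈ H.subgroupOf (stabilizer G a),
          (ζ : stabilizer G a → ℂ) n = (ζ : stabilizer G a → ℂ) 1), n ζ * d ζ, ?_⟩
  intro k hk
  have hexp := classFunction_expansion _ hrescf
  have h1 := congrFun hexp k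
  simp only [Finset.sum_apply, Pi.smul_apply, smul_eq_mul] at h1
  have h2 : Ξ k = ∑ ψ : Cfsg.IrrCharacter (stabilizer G a),
      Cfsg.classInner (fun x : stabilizer G a => Ξ x) (ψ : stabilizer G a → ℂ) *
        (ψ : stabilizer G a → ℂ) k := h1
  rw [h2, zas_sum_irr_split a H]
  congr 1
  · apply Finset.sum_congr rfl
    intro χ _
    rw [frobenius_reciprocity _ _ _ hΞcf, ← classInner_conj_symm]
  · push_cast
    apply Finset.sum_congr rfl
    intro ζ hζ
    rw [Finset.mem_filter] at hζ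
    rw [hζ.2 k (Subgroup.mem_subgroupOf.mpr hk), hn ζ, hd ζ]

/-- the values of an exceptional character on `H` -/
theorem zasExc_values [Fintype (Cfsg.IrrCharacter (stabilizer G a))] [Fintype (ZasS a H)]
    {χ₀ : stabilizer G a → ℂ} (hχ₀ : χ₀ ∈ zasRel a H)
    {Ξ : G → ℂ} (hΞ : Cfsg.IsCharacter G Ξ) (hexc : zasExc a H χ₀ Ξ) :
    ∃ w : ℕ, ∀ k : stabilizer G a, (k : G) ∈ H → Ξ k = χ₀ k + w := by
  classical
  obtain ⟨w, hw⟩ := zas_restrict_values a H hΞ
  refine ⟨w, ?_⟩
  intro k hk
  rw [hw k hk]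
  congr 1
  rw [Finset.sum_eq_single (⟨⟨χ₀, hχ₀.1⟩, hχ₀⟩ : ZasS a H)]
  · show conj (Cfsg.classInner (Cfsg.indFun (stabilizer G a) χ₀) Ξ) * χ₀ k = χ₀ k
    rw [hexc.1, map_one, one_mul]
  · intro χ _ hne
    rw [hexc.2 _ χ.2, map_zero, zero_mul]
    intro h
    apply hne
    apply Subtype.ext
    apply Subtype.ext
    exact h
  · intro h
    exact absurd (Finset.mem_univ _) h

/-- the values on `H` of a character in which all induced relevant characters have multiplicity
one -/
theorem zas_uniform_values [Fintype (Cfsg.IrrCharacter (stabilizer G a))] [Fintype (ZasS a H)]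
    {Ξ : G → ℂ} (hΞ : Cfsg.IsCharacter G Ξ)
    (huni : ∀ χ ∈ zasRel a H, Cfsg.classInner (Cfsg.indFun (stabilizer G a) χ) Ξ = 1) :
    ∃ w : ℕ, ∀ k : stabilizer G a, (k : G) ∈ H →
      Ξ k = ∑ χ : ZasS a H,
        ((χ.1 : Cfsg.IrrCharacter (stabilizer G a)) : stabilizer G a → ℂ) k + w := by
  classical
  obtain ⟨w, hw⟩ := zas_restrict_values a H hΞ
  refine ⟨w, ?_⟩
  intro k hk
  rw [hw k hk]
  congr 1
  apply Finset.sum_congr rfl
  intro χ _
  rw [huni _ χ.2, map_one, one_mul]

end

end Cfsg.Agent.Helper6
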