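import Mathlib
import Cfsg.Prelude.Def_Characters
import Cfsg.Agent.Helper6.ZasChG
import Cfsg.Agent.Helper6.ZasInvA

/-!
# Zassenhaus groups with abelian kernel of even order: involutions of the kernel
-/

set_option autoImplicit false
set_option linter.style.haveILetI false
set_option linter.unusedSectionVars false

namespace Cfsg.Agent.Helper6

open MulAction Cfsg.Agent.Helper2
open scoped ComplexConjugate

variable {G Ω : Type*} [Group G] [MulAction G Ω]

section

variable [Fintype G] [Fintype Ω]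
  (hZ : Cfsg.IsZassenhausGroup G Ω) {a b : Ω} (hab : a ≠ b)
  (H : Subgroup G) (hHa : H ≤ stabilizer G a) (hHcard : Nat.card H + 1 = Fintype.card Ω)
  (hHfix : ∀ u ∈ H, u ≠ 1 → ∀ c : Ω, u • c = c → c = a)

include hZ hab hHa hHcard hHfix

/-- an element of `G_a` of order at most two lies in `H` when `e` is odd -/
theorem zas_involution_mem_kernel
    (hodd : Odd (Nat.card ↥(stabilizer G a ⊓ stabilizer G b : Subgroup G)))
    {x : G} (hxa : x • a = a) (hx : x * x = 1) : x ∈ H := by
  haveI := zas_kernel_subgroupOf_normal hZ hab H hHa hHcard hHfix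
  have h1 := Subgroup.pow_index_mem (H.subgroupOf (stabilizer G a))
    (⟨x, mem_stabilizer_iff.mpr hxa⟩ : stabilizer G a)
  rw [zas_kernel_subgroupOf_index hZ hab H hHa hHcard hHfix] at h1
  obtain ⟨m, hm⟩ := hodd
  rw [hm, Subgroup.mem_subgroupOf] at h1
  have h2 : (((⟨x, mem_stabilizer_iff.mpr hxa⟩ : stabilizer G a) ^ (2 * m + 1) :
      stabilizer G a) : G) = x := by
    rw [Subgroup.coe_pow]
    show x ^ (2 * m + 1) = x
    rw [pow_succ, pow_mul, pow_two, hx, one_pow, one_mul]
  rw [h2] at h1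
  exact h1

variable (hHab : ∀ u ∈ H, ∀ v ∈ H, u * v = v * u)

include hHab

/-- no product of two conjugates of an involution of `H` is conjugate to an element of `H`
whose square is not the identity -/
theorem zas_involution_products
    (hodd : Odd (Nat.card ↥(stabilizer G a ⊓ stabilizer G b : Subgroup G)))
    {t u : G} (ht2 : t * t = 1) (hu : u ∈ H) (hu2 : u * u ≠ 1)
    (x y : G) (hx : IsConj t x) (hy : IsConj t y) : ¬ IsConj u (x * y) := by
  intro hxy
  obtain ⟨g, hg⟩ := isConj_iff.mp hxy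
  -- conjugate back
  obtain ⟨x', hx'⟩ : ∃ x', x' = g⁻¹ * x * g := ⟨_, rfl⟩
  obtain ⟨y', hy'⟩ : ∃ y', y' = g⁻¹ * y * g := ⟨_, rfl⟩
  have hx'y' : x' * y' = u := by
    rw [hx', hy']
    calc g⁻¹ * x * g * (g⁻¹ * y * g) = g⁻¹ * (x * y) * g := by group
      _ = u := by rw [← hg]; group
  have hsq : ∀ z : G, IsConj t z → z * z = 1 := by
    intro z hz
    obtain ⟨c, hc⟩ := isConj_iff.mp hz
    rw [← hc]
    calc c * t * c⁻¹ * (c * t * c⁻¹) = c * (t * t) * c⁻¹ := by group
      _ = 1 := by rw [ht2]; group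
  have hx'2 : x' * x' = 1 := by
    rw [hx']
    calc g⁻¹ * x * g * (g⁻¹ * x * g) = g⁻¹ * (x * x) * g := by group
      _ = 1 := by rw [hsq x hx]; group
  have hy'2 : y' * y' = 1 := by
    rw [hy']
    calc g⁻¹ * y * g * (g⁻¹ * y * g) = g⁻¹ * (y * y) * g := by group
      _ = 1 := by rw [hsq y hy]; group
  have hx'inv : x'⁻¹ = x' := inv_eq_of_mul_eq_one_left hx'2
  have hy'inv : y'⁻¹ = y' := inv_eq_of_mul_eq_one_left hy'2
  -- `x'` inverts `u`
  have hinv : x' * u * x'⁻¹ = u⁻¹ := by
    rw [← hx'y', mul_inv_rev, hx'inv, hy'inv]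
    calc x' * (x' * y') * x' = (x' * x') * y' * x' := by group
      _ = y' * x' := by rw [hx'2, one_mul]
  have hu1 : u ≠ 1 := by
    rintro rfl
    exact hu2 (one_mul 1)
  have huinv1 : u⁻¹ ≠ 1 := by
    intro h
    exact hu1 (inv_eq_one.mp h)
  -- `x'` fixes `a`
  have hx'a : x' • a = a := by
    apply hHfix u⁻¹ (H.inv_mem hu) huinv1
    rw [← hinv, mul_smul, mul_smul, inv_smul_smul, mem_stabilizer_iff.mp (hHa hu)]
  have hx'H := zas_involution_mem_kernel hZ hab H hHa hHcard hHfix hodd hx'a hx'2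
  apply hu2
  have h1 : x' * u * x'⁻¹ = u := by
    rw [hHab x' hx'H u hu]
    group
  rw [hinv] at h1
  calc u * u = u * u⁻¹ := by rw [h1]
    _ = 1 := mul_inv_cancel u

/-- the centraliser in `G_a` of a non-identity element of `H` is `H` -/
theorem zas_card_centralizer_kernel_elt {t : stabilizer G a} (ht : (t : G) ∈ H) (ht1 : t ≠ 1) :
    Nat.card (Subgroup.centralizer ({t} : Set (stabilizer G a))) = Fintype.card Ω - 1 := by
  have hfree := zas_kernel_subgroupOf_free hZ hab H hHa hHcard hHfix
  have heq : Subgroup.centralizer ({t} : Set (stabilizer G a)) =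
      H.subgroupOf (stabilizer G a) := by
    ext x
    rw [Subgroup.mem_centralizer_iff]
    constructor
    · intro h
      by_contra hx
      have h1 := h t (Set.mem_singleton t)
      exact ht1 (hfree x hx t (Subgroup.mem_subgroupOf.mpr ht) h1.symm)
    · intro hx y hy
      rw [Set.mem_singleton_iff] at hy
      subst hy
      apply Subtype.ext
      exact hHab _ ht _ (Subgroup.mem_subgroupOf.mp hx)
  rw [heq, Nat.card_congr (Subgroup.subgroupOfEquivOfLe hHa).toEquiv]
  omega

/-- when `|H|` is even, `H` contains an involution and an element whose square is not `1` -/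
theorem zas_exists_involution_and_non [IsSimpleGroup G]
    (hodd : Odd (Nat.card ↥(stabilizer G a ⊓ stabilizer G b : Subgroup G)))
    (hlt : 2 * Nat.card ↥(stabilizer G a ⊓ stabilizer G b : Subgroup G) <
      Fintype.card Ω - 2) (heven : Even (Nat.card H)) :
    ∃ t ∈ H, t ≠ 1 ∧ t * t = 1 ∧ ∃ u ∈ H, u * u ≠ 1 := by
  classical
  haveI : Fact (Nat.Prime 2) := ⟨Nat.prime_two⟩
  obtain ⟨t, ht⟩ := exists_prime_orderOf_dvd_card' (G := H) 2 heven.two_dvd
  have ht1 : (t : G) ≠ 1 := by
    intro h
    have : t = 1 := Subtype.ext h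
    rw [this, orderOf_one] at ht
    omega
  have ht2 : (t : G) * (t : G) = 1 := by
    have h1 : t ^ 2 = 1 := by
      rw [← ht]
      exact pow_orderOf_eq_one t
    have h2 := congrArg (Subtype.val : H → G) h1
    rw [Subgroup.coe_pow, pow_two] at h2
    exact h2
  refine ⟨(t : G), t.2, ht1, ht2, ?_⟩
  by_contra hcon
  push Not at hcon
  have hord : ∀ u ∈ H, u ≠ 1 → orderOf u = 2 := by
    intro u hu hu1
    apply orderOf_eq_prime
    · rw [pow_two]
      exact hcon u hu
    · exact hu1
  have hle := zas_card_class_inter_kernel_le hZ hab H hHa hHcard hHfix hHab t.2 ht1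
  have hsub : (Finset.univ.filter (fun g : G => g ∈ H)).erase 1 ⊆
      (Finset.univ.filter (fun g : G => g ∈ H)).filter
        (fun g => ConjClasses.mk g = ConjClasses.mk (t : G)) := by
    intro g hg
    rw [Finset.mem_erase] at hg
    rw [Finset.mem_filter]
    refine ⟨hg.2, ?_⟩
    rw [Finset.mem_filter] at hg
    rw [ConjClasses.mk_eq_mk_iff_isConj]
    exact zas_involutions_isConj hZ hab hodd (hord g hg.2.2 hg.1) (hord _ t.2 ht1)
  have hcard := Finset.card_le_card hsub
  rw [Finset.card_erase_of_mem (by simp [H.one_mem])] at hcard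
  have hH : (Finset.univ.filter (fun g : G => g ∈ H)).card = Nat.card H := by
    rw [Nat.card_eq_fintype_card, Fintype.card_subtype]
  rw [hH] at hcard
  omega

end

end Cfsg.Agent.Helper6
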