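import Mathlib

/-!
# The arithmetic behind the even case of Feit's theorem on Zassenhaus groups
-/

set_option autoImplicit false

namespace Cfsg.Agent.Helper6

/-- the final arithmetic contradiction -/
theorem zas_even_arith {ι : Type*} (D : Finset ι) (nn : ι → ℕ) (e s W h : ℕ) (he : 1 < e)
    (hh : h = s * e + 1) (hs : 0 < s)
    (h1 : (W : ℝ) + ∑ i ∈ D, ((nn i : ℝ) - 1) = 0)
    (h2 : 1 + (-(e : ℝ) - 2 * W + s * W ^ 2) + ∑ i ∈ D, ((nn i : ℝ) - 1) ^ 2 = 0)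
    (h3 : 1 + (-(e : ℝ) ^ 2 + W * ((h : ℝ) - e) - 2 * W * e - 3 * W ^ 2 + s * W ^ 3) / (e + W) +
      ∑ i ∈ D, ((nn i : ℝ) - 1) ^ 3 / (((h : ℝ) - 1) + nn i) = 0) : False := by
  have hhR : (h : ℝ) = s * e + 1 := by exact_mod_cast hh
  have he1 : (1 : ℝ) < e := by exact_mod_cast he
  have hs1 : (1 : ℝ) ≤ s := by exact_mod_cast hs
  have hW0 : (0 : ℝ) ≤ W := Nat.cast_nonneg W
  have hhpos : (1 : ℝ) < h := by
    rw [hhR]
    nlinarith
  have heW : (0 : ℝ) < e + W := by linarith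
  have hden : ∀ i, (0 : ℝ) < ((h : ℝ) - 1) + nn i := by
    intro i
    have : (0 : ℝ) ≤ nn i := Nat.cast_nonneg _
    linarith
  -- the termwise identity
  have hterm : ∀ i ∈ D, ((nn i : ℝ) - 1) ^ 3 / (((h : ℝ) - 1) + nn i) =
      ((nn i : ℝ) - 1) ^ 2 - h * (((nn i : ℝ) - 1) ^ 2 / (((h : ℝ) - 1) + nn i)) := by
    intro i _
    have := (hden i).ne'
    field_simp
    ring
  rw [Finset.sum_congr rfl hterm, Finset.sum_sub_distrib, ← Finset.mul_sum] at h3
  set R := ∑ i ∈ D, ((nn i : ℝ) - 1) ^ 2 / (((h : ℝ) - 1) + nn i) with hR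
  set Q := ∑ i ∈ D, ((nn i : ℝ) - 1) ^ 2 with hQ
  have hRnn : 0 ≤ R := by
    apply Finset.sum_nonneg
    intro i _
    exact div_nonneg (sq_nonneg _) (hden i).le
  have hQv : Q = e - 1 + 2 * W - s * W ^ 2 := by linarith
  -- clear the denominator
  have h3' : (e + W : ℝ) + (-(e : ℝ) ^ 2 + W * ((h : ℝ) - e) - 2 * W * e - 3 * W ^ 2 + s * W ^ 3) +
      (e + W) * (Q - h * R) = 0 := by
    have h4 : (-(e : ℝ) ^ 2 + W * ((h : ℝ) - e) - 2 * W * e - 3 * W ^ 2 + s * W ^ 3) / (e + W) =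
        -1 - (Q - h * R) := by linarith
    rw [div_eq_iff heW.ne'] at h4
    linarith
  have hkey : (W : ℝ) * (W - 1) * h + (e + W) * h * R = 0 := by
    rw [hQv, hhR] at h3'
    rw [hhR]
    linarith [h3']
  have hWW : (0 : ℝ) ≤ (W : ℝ) * (W - 1) := by
    rcases Nat.eq_zero_or_pos W with h0 | h0
    · rw [h0]
      simp
    · have : (1 : ℝ) ≤ W := by exact_mod_cast h0
      nlinarith
  have hR0 : R = 0 := by
    have h5 : 0 ≤ (W : ℝ) * (W - 1) * h := mul_nonneg hWW (by linarith)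
    have h6 : 0 ≤ ((e : ℝ) + W) * h * R := mul_nonneg (mul_nonneg heW.le (by linarith)) hRnn
    have h7 : ((e : ℝ) + W) * h * R = 0 := by linarith
    have h8 : ((e : ℝ) + W) * h ≠ 0 := (mul_pos heW (by linarith)).ne'
    exact (mul_eq_zero.mp h7).resolve_left h8
  have hv : ∀ i ∈ D, (nn i : ℝ) - 1 = 0 := by
    intro i hi
    have h9 := (Finset.sum_eq_zero_iff_of_nonneg (fun i _ =>
      div_nonneg (sq_nonneg ((nn i : ℝ) - 1)) (hden i).le)).mp hR0 i hi
    rw [div_eq_zero_iff] at h9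
    rcases h9 with h9 | h9
    · exact pow_eq_zero_iff (two_ne_zero) |>.mp h9
    · exact absurd h9 (hden i).ne'
  have hW : (W : ℝ) = 0 := by
    rw [Finset.sum_congr rfl hv, Finset.sum_const_zero, add_zero] at h1
    exact h1
  have hQ0 : Q = 0 := by
    rw [hQ]
    apply Finset.sum_eq_zero
    intro i hi
    rw [hv i hi]
    ring
  rw [hQ0, hW] at hQv
  linarith

end Cfsg.Agent.Helper6
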