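import Mathlib
import Cfsg.Prelude.Def_Characters
import Cfsg.Prelude.Def_Blocks
import Cfsg.Agent.Helper6.CentralChar
import Cfsg.Agent.Helper6.Inflation
import Cfsg.Agent.Helper6.BlockBasic
import Cfsg.Agent.Helper6.InducedPart
import Cfsg.Agent.Helper6.RepEigen

/-!
# The sum of a central character over the solutions of `x ^ p = 1`, in a group with a central
element of order `p` (towards S0928)
-/

set_option autoImplicit false
set_option linter.style.haveILetI false

namespace Cfsg.Agent.Helper6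

open scoped ComplexConjugate

universe u

variable {H : Type u} [Group H] {M : Ideal Cfsg.AlgInt}

/-- a central element acts on an irreducible character by a scalar -/
theorem exists_scalar_central [Finite H] (ξ : Cfsg.IrrCharacter H) (z : H)
    (hzc : ∀ h : H, h * z = z * h) :
    ∃ c : ℂ, ∀ h : H, (ξ : H → ℂ) (z * h) = c * (ξ : H → ℂ) h := by
  obtain ⟨n, ρ, hirr, hρ⟩ := ξ.2
  haveI := hirr
  obtain ⟨c, hc⟩ := exists_scalar_of_commute ρ (ρ z) (by
    intro g
    change ρ z * ρ g = ρ g * ρ z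
    rw [← map_mul, ← map_mul, hzc g])
  refine ⟨c, fun h => ?_⟩
  rw [← hρ]
  change LinearMap.trace ℂ _ (ρ (z * h)) = c * LinearMap.trace ℂ _ (ρ h)
  rw [map_mul, hc]
  have e : (c • (LinearMap.id : (Fin n → ℂ) →ₗ[ℂ] (Fin n → ℂ))) * ρ h = c • ρ h := by
    ext v i
    simp
  rw [e, map_smul, smul_eq_mul]

/-- in a group with a central element of order `p`, the central character of an irreducible
character maps the sum of the solutions of `x ^ p = 1` into the local ideal -/
theorem sum_pow_eq_one_memLocalIdeal [Fintype H] {p : ℕ} [hp : Fact p.Prime]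
    (hM : Cfsg.IsPModular p M) (z : H) (hzc : ∀ h : H, h * z = z * h) (hz : orderOf z = p)
    (ξ : Cfsg.IrrCharacter H) [DecidableEq H] :
    Cfsg.MemLocalIdeal M (∑ h ∈ Finset.univ.filter (fun h : H => h ^ p = 1),
      (ξ : H → ℂ) h / (ξ : H → ℂ) 1) := by
  classical
  have hMm := hM.2.1
  obtain ⟨c, hc⟩ := exists_scalar_central ξ z hzc
  have hξ1 : (ξ : H → ℂ) 1 ≠ 0 := IsIrrCharacter.apply_one_ne_zero ξ.2
  have hzp : z ^ p = 1 := by rw [← hz]; exact pow_orderOf_eq_one z
  obtain ⟨Ω, hΩ⟩ : ∃ Ω : Finset H, Ω = Finset.univ.filter (fun h : H => h ^ p = 1) := ⟨_, rfl⟩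
  have hmemΩ : ∀ h, h ∈ Ω ↔ h ^ p = 1 := by
    intro h
    rw [hΩ]
    simp
  rw [← hΩ]
  have hzΩ : ∀ h, z * h ∈ Ω ↔ h ∈ Ω := by
    intro h
    rw [hmemΩ, hmemΩ]
    have hcomm : Commute z h := (hzc h).symm
    rw [hcomm.mul_pow, hzp, one_mul]
  have hre : ∑ h ∈ Ω, (ξ : H → ℂ) (z * h) / (ξ : H → ℂ) 1 =
      ∑ h ∈ Ω, (ξ : H → ℂ) h / (ξ : H → ℂ) 1 := by
    apply Finset.sum_bij (fun h _ => z * h)
    · intro h hh
      exact (hzΩ h).mpr hh
    · intro a _ b _ hab
      exact mul_left_cancel hab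
    · intro b hb
      refine ⟨z⁻¹ * b, ?_, by group⟩
      rw [← hzΩ]
      simpa using hb
    · intro h _
      rfl
  by_cases hc1 : c = 1
  · -- the kernel case
    have hcz : ∀ h : H, (ξ : H → ℂ) (z * h) = (ξ : H → ℂ) h := by
      intro h
      rw [hc h, hc1, one_mul]
    obtain ⟨N, hN⟩ : ∃ N : Subgroup H, N = Subgroup.zpowers z := ⟨_, rfl⟩
    haveI : N.Normal := by
      constructor
      intro n hn g
      rw [hN] at hn ⊢
      obtain ⟨i, rfl⟩ := Subgroup.mem_zpowers_iff.mp hn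
      have hcg : Commute g z := hzc g
      rw [(hcg.zpow_right i).eq, mul_inv_cancel_right]
      exact Subgroup.zpow_mem_zpowers z i
    have hpow : ∀ k : ℕ, (ξ : H → ℂ) (z ^ k) = (ξ : H → ℂ) 1 := by
      intro k
      induction k with
      | zero => rw [pow_zero]
      | succ k ih => rw [pow_succ', hcz, ih]
    have hkerN : ∀ n ∈ N, (ξ : H → ℂ) n = (ξ : H → ℂ) 1 := by
      intro n hn
      rw [hN] at hn
      obtain ⟨k, rfl⟩ := (mem_powers_iff_mem_zpowers).mpr hn
      exact hpow k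
    have hNcentral : ∀ n ∈ N, ∀ h : H, Commute h n := by
      intro n hn h
      rw [hN] at hn
      obtain ⟨i, rfl⟩ := Subgroup.mem_zpowers_iff.mp hn
      exact (show Commute h z from hzc h).zpow_right i
    have hNpow : ∀ n ∈ N, n ^ p = 1 := by
      intro n hn
      rw [hN] at hn
      have := orderOf_dvd_of_mem_zpowers hn
      rw [hz] at this
      exact orderOf_dvd_iff_pow_eq_one.mp this
    obtain ⟨ξ', hξ'⟩ := exists_deflate N ξ hkerN
    haveI : Fintype (H ⧸ N) := Fintype.ofFinite _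
    obtain ⟨F, hF⟩ : ∃ F : H ⧸ N → ℂ, F = fun x => (ξ' : H ⧸ N → ℂ) x / (ξ' : H ⧸ N → ℂ) 1 :=
      ⟨_, rfl⟩
    have hval : ∀ h : H, (ξ : H → ℂ) h / (ξ : H → ℂ) 1 = F (QuotientGroup.mk h) := by
      intro h
      rw [hF, hξ']
      rfl
    have hs1 : ∑ h ∈ Ω, (ξ : H → ℂ) h / (ξ : H → ℂ) 1 =
        ∑ h ∈ Ω, F ((QuotientGroup.mk : H → H ⧸ N) h) :=
      Finset.sum_congr rfl (fun h _ => hval h)
    rw [hs1, Finset.sum_comp F (QuotientGroup.mk : H → H ⧸ N)]
    have hfib : ∀ b ∈ Ω.image (QuotientGroup.mk : H → H ⧸ N),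
        (Ω.filter (fun a => (QuotientGroup.mk a : H ⧸ N) = b)).card = p := by
      intro b hb
      obtain ⟨h₀, hh₀, rfl⟩ := Finset.mem_image.mp hb
      have hset : Ω.filter (fun a => (QuotientGroup.mk a : H ⧸ N) = QuotientGroup.mk h₀) =
          (Finset.univ : Finset N).image (fun n : N => h₀ * (n : H)) := by
        ext a
        rw [Finset.mem_filter, Finset.mem_image]
        constructor
        · rintro ⟨_, ha⟩
          have : h₀⁻¹ * a ∈ N := QuotientGroup.eq.mp ha.symm
          exact ⟨⟨h₀⁻¹ * a, this⟩, Finset.mem_univ _, by simp⟩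
        · rintro ⟨n, _, rfl⟩
          refine ⟨?_, ?_⟩
          · rw [hmemΩ, (hNcentral n n.2 h₀).mul_pow, (hmemΩ h₀).mp hh₀, hNpow n n.2, one_mul]
          · symm
            rw [QuotientGroup.eq]
            simp
      rw [hset, Finset.card_image_of_injective _ (fun a b hab => Subtype.ext (mul_left_cancel hab)),
        Finset.card_univ, ← Nat.card_eq_fintype_card, hN, Nat.card_zpowers, hz]
    rw [Finset.sum_congr rfl (fun b hb => by rw [hfib b hb])]
    rw [← Finset.smul_sum, nsmul_eq_mul, mul_comm]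
    apply MemLocalIdeal.mul_left hMm _ (memLocalIdeal_prime hM)
    apply sum_mem_of_conj_closed (Cfsg.MemLocalRing M) (memLocalRing_zero hMm)
      (fun x y => MemLocalRing.add hMm) F ?_ ?_ _ _ rfl
    · rintro _ hb x
      obtain ⟨h₀, hh₀, rfl⟩ := Finset.mem_image.mp hb
      obtain ⟨k, rfl⟩ := QuotientGroup.mk_surjective x
      refine Finset.mem_image.mpr ⟨k * h₀ * k⁻¹, ?_, rfl⟩
      rw [hmemΩ, conj_pow, (hmemΩ h₀).mp hh₀, mul_one, mul_inv_cancel]
    · intro g k
      rw [hF]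
      simp only
      rw [IsCharacter.isClassFunction (IsIrrCharacter.isCharacter ξ'.2) g k]
    · intro g
      have : ((Subgroup.centralizer ({g} : Set (H ⧸ N))).index : ℂ) * F g =
          Cfsg.centralChar (ξ' : H ⧸ N → ℂ) g := by
        rw [hF]
        unfold Cfsg.centralChar
        ring
      rw [this]
      exact memLocalRing_of_isIntegral hMm (isIntegral_centralChar ξ' g)
  · have h2 : ∑ h ∈ Ω, (ξ : H → ℂ) (z * h) / (ξ : H → ℂ) 1 =
        c * ∑ h ∈ Ω, (ξ : H → ℂ) h / (ξ : H → ℂ) 1 := by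
      rw [Finset.mul_sum]
      apply Finset.sum_congr rfl
      intro h _
      rw [hc h]
      ring
    rw [hre] at h2
    have h3 : (c - 1) * ∑ h ∈ Ω, (ξ : H → ℂ) h / (ξ : H → ℂ) 1 = 0 := by
      rw [sub_mul, one_mul, ← h2, sub_self]
    rcases mul_eq_zero.mp h3 with h4 | h4
    · exact absurd (sub_eq_zero.mp h4) hc1
    · rw [h4]
      exact memLocalIdeal_zero hMm

end Cfsg.Agent.Helper6
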