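import Mathlib
import Cfsg.Prelude.Def_Characters
import Cfsg.Prelude.Def_Blocks
import Cfsg.Agent.Helper6.VanishOrderPA
import Cfsg.Agent.Helper6.HeightZeroTrunc
import Cfsg.Agent.Helper6.PowCongr
import Cfsg.Agent.Helper6.BlockCover4
import Cfsg.Agent.Helper6.Induced

/-!
# Auxiliary lemmas for the deficiency class theorem (S4717)
-/

set_option autoImplicit false
set_option linter.style.haveILetI false

namespace Cfsg.Agent.Helper6

open scoped ComplexConjugate

universe u

variable {G : Type u} [Group G] {M : Ideal Cfsg.AlgInt}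

/-- a ratio of natural numbers whose numerator is divisible by a higher power of `p` lies in the
local ideal -/
theorem memLocalIdeal_natCast_div_of_lt {p : ℕ} [hp : Fact p.Prime] (hM : Cfsg.IsPModular p M)
    (n m : ℕ) (hn : n ≠ 0) (hm : m ≠ 0) (h : m.factorization p < n.factorization p) :
    Cfsg.MemLocalIdeal M ((n : ℂ) / (m : ℂ)) := by
  have hpn : p ∣ n := by
    apply Nat.dvd_of_factorization_pos
    omega
  obtain ⟨n', rfl⟩ := hpn
  have hn' : n' ≠ 0 := by
    rintro rfl
    exact hn (mul_zero p)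
  have hfac : (p * n').factorization p = n'.factorization p + 1 := by
    rw [Nat.factorization_mul hp.out.ne_zero hn', Finsupp.add_apply,
      Nat.Prime.factorization_self hp.out, add_comm]
  have hloc : Cfsg.MemLocalRing M ((n' : ℂ) / (m : ℂ)) :=
    (memLocalRing_natCast_div_iff hM n' m hn' hm).mpr (by omega)
  have e : ((p * n' : ℕ) : ℂ) / (m : ℂ) = ((n' : ℂ) / (m : ℂ)) * (p : ℂ) := by
    push_cast
    ring
  rw [e]
  exact MemLocalIdeal.mul_left hM.2.1 hloc (memLocalIdeal_prime hM)

/-- the generalized decomposition numbers at a central element are algebraic integers -/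
theorem isIntegral_classInner_translate [Fintype G] (H : Subgroup G) [Fintype H] {χ : G → ℂ}
    (hχ : Cfsg.IsCharacter G χ) (y : H) (hyc : ∀ h : H, h * y = y * h)
    (ψ : Cfsg.IrrCharacter H) :
    IsIntegral ℤ (Cfsg.classInner (fun c : H => χ ((y : G) * (c : G))) (ψ : H → ℂ)) := by
  classical
  have hyc' : ∀ h : H, h * y⁻¹ = y⁻¹ * h := by
    intro h
    have := hyc h
    calc h * y⁻¹ = y⁻¹ * (y * h) * y⁻¹ := by group
      _ = y⁻¹ * (h * y) * y⁻¹ := by rw [this]
      _ = y⁻¹ * h := by group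
  obtain ⟨c, hc⟩ := exists_scalar_central ψ y⁻¹ hyc'
  have hψ1 : (ψ : H → ℂ) 1 ≠ 0 := IsIrrCharacter.apply_one_ne_zero ψ.2
  have hpow : ∀ k : ℕ, (ψ : H → ℂ) (y⁻¹ ^ k) = c ^ k * (ψ : H → ℂ) 1 := by
    intro k
    induction k with
    | zero => simp
    | succ k ih => rw [pow_succ', hc, ih, pow_succ']; ring
  have hck : c ^ orderOf y = 1 := by
    have h1 := hpow (orderOf y)
    rw [inv_pow, pow_orderOf_eq_one, inv_one] at h1
    have : (c ^ orderOf y - 1) * (ψ : H → ℂ) 1 = 0 := by
      rw [sub_mul, one_mul, ← h1, sub_self]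
    rcases mul_eq_zero.mp this with h | h
    · exact sub_eq_zero.mp h
    · exact absurd h hψ1
  have hcint : IsIntegral ℤ c := by
    apply IsIntegral.of_pow (orderOf_pos y)
    rw [hck]
    exact isIntegral_one
  have hcint' : IsIntegral ℤ (conj c) := map_isIntegral_int (starRingEnd ℂ) hcint
  obtain ⟨n, hn⟩ := classInner_char_char_nat (IsCharacter.restrict H hχ)
    (IsIrrCharacter.isCharacter ψ.2)
  have key : Cfsg.classInner (fun c : H => χ ((y : G) * (c : G))) (ψ : H → ℂ) =
      conj c * Cfsg.classInner (fun x : H => χ x) (ψ : H → ℂ) := by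
    unfold Cfsg.classInner
    rw [mul_left_comm]
    congr 1
    rw [Finset.mul_sum]
    apply Fintype.sum_equiv (Equiv.mulLeft y)
    intro h
    simp only [Equiv.coe_mulLeft]
    have h1 : (ψ : H → ℂ) h = c * (ψ : H → ℂ) (y * h) := by
      rw [← hc (y * h), inv_mul_cancel_left]
    rw [h1, map_mul]
    have : (((y * h : H) : H) : G) = (y : G) * (h : G) := rfl
    rw [this]
    ring
  rw [key, hn]
  exact hcint'.mul (isIntegral_algebraMap (R := ℤ) (A := ℂ) (x := (n : ℤ)) |> fun h => by
    simpa using h)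

/-- multiplying by a commuting `p`-element does not change a character value modulo the local
ideal -/
theorem char_mul_pElement_sub_memLocalIdeal [Finite G] {p : ℕ} [hp : Fact p.Prime]
    (hM : Cfsg.IsPModular p M) {χ : G → ℂ} (hχ : Cfsg.IsCharacter G χ) (u v : G)
    (hc : Commute u v) (hu : orderOf u = p) (hv : ¬ p ∣ orderOf v) :
    Cfsg.MemLocalIdeal M (χ (u * v) - χ v) := by
  have hup : u ^ (p ^ 1) = 1 := by rw [pow_one, ← hu]; exact pow_orderOf_eq_one u
  obtain ⟨γ, hγ⟩ := char_pow_sub_pow p hχ u v hc ⟨1, by rw [hu, pow_one]⟩ hv 1 hup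
  rw [pow_one] at hγ
  apply memLocalIdeal_sub_of_pow hM.2.1 p hp.out hM.2.2 (IsCharacter.isIntegral_value hχ _)
    (IsCharacter.isIntegral_value hχ _)
  rw [hγ, mul_comm]
  exact MemLocalIdeal.mul_left hM.2.1 (memLocalRing_of_isIntegral hM.2.1
    ((mem_integralClosure_iff ℤ ℂ).mp γ.2)) (memLocalIdeal_prime hM)

end Cfsg.Agent.Helper6
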