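import Mathlib

/-!
# Twisted conjugacy for an automorphism of prime order acting coprimely

For `σ` an automorphism of the finite group `G` with `σ^p = 1` and `p ∤ |G|`, and `F` the
subgroup of fixed points, the map `G × F → G`, `(h, c) ↦ h c σ(h)⁻¹` has all fibres of size `|F|`.
-/

set_option autoImplicit false
set_option linter.style.haveILetI false
set_option linter.unusedSimpArgs false

namespace Cfsg.Agent.Helper6

universe u

variable {G : Type u} [Group G]

/-- the twisted norm `g σ(g) ⋯ σ^{n-1}(g)` -/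
def twNorm (σ : G ≃* G) : ℕ → G → G
  | 0, _ => 1
  | (n + 1), g => g * σ (twNorm σ n g)

theorem twNorm_zero (σ : G ≃* G) (g : G) : twNorm σ 0 g = 1 := rfl

theorem twNorm_succ (σ : G ≃* G) (n : ℕ) (g : G) :
    twNorm σ (n + 1) g = g * σ (twNorm σ n g) := rfl

theorem twNorm_of_fixed (σ : G ≃* G) {c : G} (hc : σ c = c) (n : ℕ) : twNorm σ n c = c ^ n := by
  induction n with
  | zero => simp [twNorm_zero]
  | succ n ih => rw [twNorm_succ, ih, map_pow, hc, pow_succ']

theorem twNorm_twisted (σ : G ≃* G) {c : G} (hc : σ c = c) (k : G) (n : ℕ) :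
    twNorm σ n (k * c * (σ k)⁻¹) = k * c ^ n * (σ^[n] k)⁻¹ := by
  induction n with
  | zero => simp [twNorm_zero]
  | succ n ih =>
    rw [twNorm_succ, ih, Function.iterate_succ_apply', map_mul, map_mul, map_pow, hc, map_inv,
      pow_succ']
    group

/-- The key rigidity: a twisted conjugation between fixed points is by a fixed point. -/
theorem fixed_of_twisted_conj [Finite G] (σ : G ≃* G) (p : ℕ) (hp1 : 1 < p)
    (hcop : (Nat.card G).Coprime p) (hσ : ∀ g : G, σ^[p] g = g) {k c c' : G} (hc : σ c = c)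
    (hc' : σ c' = c') (h : k * c * (σ k)⁻¹ = c') : σ k = k := by
  obtain ⟨u, -, hu⟩ := Nat.exists_mul_mod_eq_one_of_coprime hcop hp1
  set m := Nat.card G * u with hm
  have h1 : twNorm σ m c' = 1 := by
    rw [twNorm_of_fixed σ hc', hm, pow_mul, pow_card_eq_one', one_pow]
  have h2 : twNorm σ m (k * c * (σ k)⁻¹) = k * (σ k)⁻¹ := by
    rw [twNorm_twisted σ hc, hm, pow_mul, pow_card_eq_one', one_pow, mul_one]
    have hper : Function.IsPeriodicPt σ p k := hσ k
    have := hper.iterate_mod_apply (Nat.card G * u)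
    rw [hu, Function.iterate_one] at this
    rw [← this]
  rw [h, h1] at h2
  have := mul_inv_eq_one.mp h2.symm
  exact this.symm

variable [Fintype G]

/-- all fibres of the twisted conjugation map have the size of the fixed subgroup -/
theorem card_twisted_fiber [DecidableEq G] (σ : G ≃* G) (p : ℕ) (hp1 : 1 < p)
    (hcop : (Nat.card G).Coprime p) (hσ : ∀ g : G, σ^[p] g = g) (F : Subgroup G) [Fintype F]
    (hF : ∀ g : G, g ∈ F ↔ σ g = g) (g : G) :
    (Finset.univ.filter (fun x : G × F => x.1 * (x.2 : G) * (σ x.1)⁻¹ = g)).card =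
      Fintype.card F := by
  classical
  set Φ : G × F → G := fun x => x.1 * (x.2 : G) * (σ x.1)⁻¹ with hΦ
  have hle : ∀ g : G, (Finset.univ.filter (fun x : G × F => Φ x = g)).card ≤ Fintype.card F := by
    intro g
    by_cases hne : (Finset.univ.filter (fun x : G × F => Φ x = g)).Nonempty
    · obtain ⟨x₀, hx₀⟩ := hne
      rw [Finset.mem_filter] at hx₀
      have hx₀' := hx₀.2
      have key : ∀ x : G × F, Φ x = g → x₀.1⁻¹ * x.1 ∈ F := by
        intro x hx
        rw [hF]
        have h1 : (x₀.1⁻¹ * x.1) * (x.2 : G) * (σ (x₀.1⁻¹ * x.1))⁻¹ = (x₀.2 : G) := by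
          have e1 : Φ x = Φ x₀ := hx.trans hx₀'.symm
          simp only [hΦ] at e1
          rw [map_mul, map_inv, mul_inv_rev, inv_inv]
          calc x₀.1⁻¹ * x.1 * ↑x.2 * ((σ x.1)⁻¹ * σ x₀.1)
              = x₀.1⁻¹ * (x.1 * ↑x.2 * (σ x.1)⁻¹) * σ x₀.1 := by group
            _ = x₀.1⁻¹ * (x₀.1 * ↑x₀.2 * (σ x₀.1)⁻¹) * σ x₀.1 := by rw [e1]
            _ = ↑x₀.2 := by group
        exact fixed_of_twisted_conj σ p hp1 hcop hσ ((hF _).mp x.2.2) ((hF _).mp x₀.2.2) h1
      rw [← Finset.card_univ (α := F)]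
      apply Finset.card_le_card_of_injOn
        (fun x => if h : Φ x = g then (⟨x₀.1⁻¹ * x.1, key x h⟩ : F) else 1)
      · intro x _
        exact Finset.mem_univ _
      · intro x hx y hy hxy
        have hx' : Φ x = g := (Finset.mem_filter.mp hx).2
        have hy' : Φ y = g := (Finset.mem_filter.mp hy).2
        simp only [hx', hy', dif_pos] at hxy
        have h1 : x.1 = y.1 := by
          have := congrArg Subtype.val hxy
          exact mul_left_cancel this
        have h2 : (x.2 : G) = (y.2 : G) := by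
          have e : Φ x = Φ y := hx'.trans hy'.symm
          simp only [hΦ] at e
          rw [h1] at e
          exact mul_left_cancel (mul_right_cancel e)
        exact Prod.ext h1 (Subtype.ext h2)
    · rw [Finset.not_nonempty_iff_eq_empty.mp hne, Finset.card_empty]
      exact Nat.zero_le _
  have hsum : ∑ g : G, (Finset.univ.filter (fun x : G × F => Φ x = g)).card =
      ∑ _g : G, Fintype.card F := by
    rw [← Finset.card_eq_sum_card_fiberwise (f := Φ) (s := Finset.univ) (t := Finset.univ)
      (fun x _ => Finset.mem_univ _)]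
    rw [Finset.card_univ, Fintype.card_prod, Finset.sum_const, Finset.card_univ, smul_eq_mul]
  have := (Finset.sum_eq_sum_iff_of_le (fun g _ => hle g)).mp hsum g (Finset.mem_univ g)
  exact this

/-- Summation over the group of a function invariant under twisted conjugation reduces to a sum
over the fixed points. -/
theorem sum_twisted_invariant (σ : G ≃* G) (p : ℕ) (hp1 : 1 < p)
    (hcop : (Nat.card G).Coprime p) (hσ : ∀ g : G, σ^[p] g = g) (F : Subgroup G) [Fintype F]
    (hF : ∀ g : G, g ∈ F ↔ σ g = g) (f : G → ℂ)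
    (hf : ∀ h g : G, f (h * g * (σ h)⁻¹) = f g) :
    (Fintype.card F : ℂ) * ∑ g : G, f g = (Fintype.card G : ℂ) * ∑ c : F, f (c : G) := by
  classical
  set Φ : G × F → G := fun x => x.1 * (x.2 : G) * (σ x.1)⁻¹ with hΦ
  have h1 : ∑ x : G × F, f (Φ x) = (Fintype.card G : ℂ) * ∑ c : F, f (c : G) := by
    rw [Fintype.sum_prod_type]
    simp only [hΦ, hf]
    rw [Finset.sum_const, Finset.card_univ, nsmul_eq_mul]
  have h2 : ∑ x : G × F, f (Φ x) = (Fintype.card F : ℂ) * ∑ g : G, f g := by
    rw [← Finset.sum_fiberwise (s := Finset.univ) (g := Φ) (f := fun x => f (Φ x))]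
    rw [Finset.mul_sum]
    apply Finset.sum_congr rfl
    intro g _
    have : ∀ x ∈ Finset.univ.filter (fun x : G × F => Φ x = g), f (Φ x) = f g := by
      intro x hx
      rw [(Finset.mem_filter.mp hx).2]
    rw [Finset.sum_congr rfl this, Finset.sum_const, nsmul_eq_mul,
      card_twisted_fiber σ p hp1 hcop hσ F hF g]
  rw [← h2, h1]

end Cfsg.Agent.Helper6
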