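import Mathlib
import Cfsg.Prelude.Def_Characters
import Cfsg.Agent.Helper6.TwistedSum
import Cfsg.Agent.Helper6.CentralChar

/-!
# Schur orthogonality of matrix coefficients, trace form
-/

set_option autoImplicit false
set_option linter.style.haveILetI false
set_option linter.unusedSimpArgs false

namespace Cfsg.Agent.Helper6

open Matrix Module Representation
open scoped ComplexConjugate

universe u

variable {G : Type u} [Group G] [Fintype G]

omit [Fintype G] in
/-- A matrix commuting with an irreducible matrix representation is a scalar. -/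
theorem exists_scalar_of_commute_mat {n : ℕ} (ρ : Representation ℂ G (Fin n → ℂ))
    [hirr : ρ.IsIrreducible] (Y : Matrix (Fin n) (Fin n) ℂ)
    (hY : ∀ g : G, Y * repMat ρ g = repMat ρ g * Y) : ∃ c : ℂ, Y = c • (1 : Matrix (Fin n) (Fin n) ℂ) := by
  have h1 : ∀ g : G, Matrix.toLin' Y ∘ₗ ρ g = ρ g ∘ₗ Matrix.toLin' Y := by
    intro g
    rw [← toLin'_repMat ρ g, ← Matrix.toLin'_mul, ← Matrix.toLin'_mul, hY g]
  obtain ⟨c, hc⟩ := exists_scalar_of_commute ρ _ h1
  refine ⟨c, ?_⟩
  have := congrArg LinearMap.toMatrix' hc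
  rw [LinearMap.toMatrix'_toLin', map_smul, LinearMap.toMatrix'_id] at this
  exact this

/-- averaging a matrix over an irreducible representation gives a scalar -/
theorem sum_repMat_conj {n : ℕ} (ρ : Representation ℂ G (Fin n → ℂ)) [hirr : ρ.IsIrreducible]
    (X : Matrix (Fin n) (Fin n) ℂ) :
    (n : ℂ) • ∑ g : G, repMat ρ g * X * repMat ρ g⁻¹ =
      ((Fintype.card G : ℂ) * X.trace) • (1 : Matrix (Fin n) (Fin n) ℂ) := by
  set Y := ∑ g : G, repMat ρ g * X * repMat ρ g⁻¹ with hYdef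
  have hcomm : ∀ h : G, Y * repMat ρ h = repMat ρ h * Y := by
    intro h
    rw [hYdef, Matrix.sum_mul, Matrix.mul_sum]
    symm
    apply Fintype.sum_equiv (Equiv.mulLeft h)
    intro g
    rw [Equiv.coe_mulLeft, _root_.mul_inv_rev, repMat_mul, repMat_mul ρ g⁻¹ h⁻¹]
    simp only [Matrix.mul_assoc]
    rw [← repMat_mul ρ h⁻¹ h, inv_mul_cancel, repMat_one, Matrix.mul_one]
  obtain ⟨c, hc⟩ := exists_scalar_of_commute_mat ρ Y hcomm
  have htr : Y.trace = (Fintype.card G : ℂ) * X.trace := by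
    rw [hYdef, Matrix.trace_sum]
    have : ∀ g : G, (repMat ρ g * X * repMat ρ g⁻¹).trace = X.trace := by
      intro g
      rw [Matrix.trace_mul_comm, ← Matrix.mul_assoc, repMat_inv_mul, Matrix.one_mul]
    rw [Finset.sum_congr rfl (fun g _ => this g), Finset.sum_const, Finset.card_univ,
      nsmul_eq_mul]
  rw [hc, Matrix.trace_smul, Matrix.trace_one, Fintype.card_fin, smul_eq_mul] at htr
  rw [hc, smul_smul, mul_comm (n : ℂ) c, htr]

/-- Schur orthogonality for the matrix coefficients of an irreducible representation. -/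
theorem sum_repMat_mul_repMat_inv {n : ℕ} (ρ : Representation ℂ G (Fin n → ℂ))
    [hirr : ρ.IsIrreducible] (i j k l : Fin n) :
    (n : ℂ) * ∑ g : G, repMat ρ g i j * repMat ρ g⁻¹ k l =
      if j = k ∧ i = l then (Fintype.card G : ℂ) else 0 := by
  have h1 := sum_repMat_conj ρ (Matrix.single j k (1 : ℂ))
  have h2 := congrFun (congrFun h1 i) l
  rw [Matrix.smul_apply, Matrix.sum_apply, Matrix.smul_apply, smul_eq_mul, smul_eq_mul] at h2
  have h3 : ∀ g : G, (repMat ρ g * Matrix.single j k (1 : ℂ) * repMat ρ g⁻¹) i l =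
      repMat ρ g i j * repMat ρ g⁻¹ k l := fun g => single_sandwich_rect _ _ i j k l
  rw [Finset.sum_congr rfl (fun g _ => h3 g)] at h2
  rw [h2, Matrix.one_apply]
  have htr : (Matrix.single j k (1 : ℂ)).trace = if j = k then 1 else 0 := by
    by_cases hjk : j = k
    · rw [if_pos hjk, hjk, Matrix.trace_single_eq_same]
    · rw [if_neg hjk, Matrix.trace_single_eq_of_ne _ _ _ hjk]
  rw [htr]
  by_cases hjk : j = k
  · by_cases hil : i = l
    · simp [hjk, hil]
    · simp [hjk, hil]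
  · simp [hjk]

theorem trace_mul_eq_sum {n : ℕ} (A M : Matrix (Fin n) (Fin n) ℂ) :
    (A * M).trace = ∑ x : Fin n × Fin n, A x.1 x.2 * M x.2 x.1 := by
  rw [Fintype.sum_prod_type]
  simp [Matrix.trace, Matrix.mul_apply]

/-- Schur orthogonality, trace form. -/
theorem sum_trace_mul_trace {n : ℕ} (ρ : Representation ℂ G (Fin n → ℂ))
    [hirr : ρ.IsIrreducible] (A B : Matrix (Fin n) (Fin n) ℂ) :
    (n : ℂ) * ∑ g : G, (A * repMat ρ g).trace * (B * repMat ρ g⁻¹).trace =
      (Fintype.card G : ℂ) * (A * B).trace := by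
  classical
  have h1 : ∀ g : G, (A * repMat ρ g).trace * (B * repMat ρ g⁻¹).trace =
      ∑ x : Fin n × Fin n, ∑ y : Fin n × Fin n,
        A x.1 x.2 * B y.1 y.2 * (repMat ρ g x.2 x.1 * repMat ρ g⁻¹ y.2 y.1) := by
    intro g
    rw [trace_mul_eq_sum, trace_mul_eq_sum, Finset.sum_mul_sum]
    apply Finset.sum_congr rfl
    intro x _
    apply Finset.sum_congr rfl
    intro y _
    ring
  rw [Finset.sum_congr rfl (fun g _ => h1 g)]
  rw [Finset.sum_comm]
  rw [Finset.mul_sum]
  have h2 : ∀ x : Fin n × Fin n, (n : ℂ) * ∑ g : G, ∑ y : Fin n × Fin n,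
      A x.1 x.2 * B y.1 y.2 * (repMat ρ g x.2 x.1 * repMat ρ g⁻¹ y.2 y.1) =
      (Fintype.card G : ℂ) * (A x.1 x.2 * B x.2 x.1) := by
    intro x
    rw [Finset.sum_comm, Finset.mul_sum]
    rw [Finset.sum_eq_single (x.2, x.1)]
    · rw [← Finset.mul_sum, mul_left_comm, sum_repMat_mul_repMat_inv ρ x.2 x.1 x.1 x.2]
      simp
      ring
    · intro y _ hy
      rw [← Finset.mul_sum, mul_left_comm, sum_repMat_mul_repMat_inv ρ x.2 x.1 y.2 y.1]
      have : ¬ (x.1 = y.2 ∧ x.2 = y.1) := by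
        rintro ⟨h1, h2⟩
        apply hy
        exact Prod.ext h2.symm h1.symm
      rw [if_neg this, mul_zero]
    · intro h
      exact absurd (Finset.mem_univ _) h
  rw [Finset.sum_congr rfl (fun x _ => h2 x), ← Finset.mul_sum, trace_mul_eq_sum]

/-- Schur orthogonality for two irreducible representations with orthogonal characters,
trace form. -/
theorem sum_trace_mul_trace_eq_zero {n₁ n₂ : ℕ} (ρ₁ : Representation ℂ G (Fin n₁ → ℂ))
    (ρ₂ : Representation ℂ G (Fin n₂ → ℂ))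
    (h : ∑ g : G, ρ₂.character g * ρ₁.character g⁻¹ = 0)
    (A : Matrix (Fin n₁) (Fin n₁) ℂ) (B : Matrix (Fin n₂) (Fin n₂) ℂ) :
    ∑ g : G, (A * repMat ρ₁ g).trace * (B * repMat ρ₂ g⁻¹).trace = 0 := by
  classical
  have h1 : ∀ g : G, (A * repMat ρ₁ g).trace * (B * repMat ρ₂ g⁻¹).trace =
      ∑ x : Fin n₁ × Fin n₁, ∑ y : Fin n₂ × Fin n₂,
        A x.1 x.2 * B y.1 y.2 * (repMat ρ₂ g⁻¹ y.2 y.1 * repMat ρ₁ g x.2 x.1) := by
    intro g
    rw [trace_mul_eq_sum, trace_mul_eq_sum, Finset.sum_mul_sum]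
    apply Finset.sum_congr rfl
    intro x _
    apply Finset.sum_congr rfl
    intro y _
    ring
  rw [Finset.sum_congr rfl (fun g _ => h1 g)]
  rw [Finset.sum_comm]
  apply Finset.sum_eq_zero
  intro x _
  rw [Finset.sum_comm]
  apply Finset.sum_eq_zero
  intro y _
  rw [← Finset.mul_sum, sum_repMat_inv_mul_repMat_eq_zero ρ₁ ρ₂ h, mul_zero]

end Cfsg.Agent.Helper6
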