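import Mathlib
import Cfsg.Prelude.Def_Characters
import Cfsg.Agent.Helper6.GlaubB
import Cfsg.Agent.Helper6.EquivOfChar
import Cfsg.Agent.Helper6.DegreeDvd

/-!
# The intertwining matrix of an invariant irreducible representation
-/

set_option autoImplicit false
set_option linter.style.haveILetI false
set_option linter.unusedSimpArgs false

namespace Cfsg.Agent.Helper6

open Matrix Module Representation
open scoped ComplexConjugate

universe u

variable {G : Type u} [Group G]

/-- intertwining relation propagated to powers -/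
theorem intertwine_pow {n : ℕ} (ρ : Representation ℂ G (Fin n → ℂ)) (σ : G ≃* G)
    (T : Matrix (Fin n) (Fin n) ℂ) (hT : ∀ g : G, T * repMat ρ g = repMat ρ (σ g) * T) (k : ℕ)
    (g : G) : T ^ k * repMat ρ g = repMat ρ (σ^[k] g) * T ^ k := by
  induction k generalizing g with
  | zero => simp
  | succ k ih =>
    rw [pow_succ, Matrix.mul_assoc, hT g, ← Matrix.mul_assoc, ih (σ g), Matrix.mul_assoc,
      Function.iterate_succ_apply]

/-- powers of the intertwiner commute with the representation on fixed points -/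
theorem intertwine_pow_fixed {n : ℕ} (ρ : Representation ℂ G (Fin n → ℂ)) (σ : G ≃* G)
    (T : Matrix (Fin n) (Fin n) ℂ) (hT : ∀ g : G, T * repMat ρ g = repMat ρ (σ g) * T) (k : ℕ)
    {c : G} (hc : σ c = c) : T ^ k * repMat ρ c = repMat ρ c * T ^ k := by
  rw [intertwine_pow ρ σ T hT k c, Function.iterate_fixed hc]

/-- An invariant irreducible matrix representation has an intertwining matrix of order
dividing `p` when `σ^p = 1`. -/
theorem exists_intertwiner [Finite G] {n : ℕ} (ρ : Representation ℂ G (Fin n → ℂ))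
    [hirr : ρ.IsIrreducible] (σ : G ≃* G) (hχ : ∀ g : G, ρ.character (σ g) = ρ.character g)
    (p : ℕ) (hp : 0 < p) (hσ : ∀ g : G, σ^[p] g = g) :
    ∃ T : Matrix (Fin n) (Fin n) ℂ, T ^ p = 1 ∧
      ∀ g : G, T * repMat ρ g = repMat ρ (σ g) * T := by
  classical
  set ρ' : Representation ℂ G (Fin n → ℂ) := MonoidHom.comp ρ σ.toMonoidHom with hρ'
  have hchar : ρ.character = ρ'.character := by
    funext g
    rw [← hχ g]
    rfl
  obtain ⟨e⟩ := equiv_of_char_eq ρ ρ' hchar
  have he : ∀ (g : G) (v : Fin n → ℂ),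
      e.toLinearEquiv (ρ g v) = ρ (σ g) (e.toLinearEquiv v) := by
    intro g v
    have := LinearMap.congr_fun (e.isIntertwining' g) v
    exact this
  set T₀ : Matrix (Fin n) (Fin n) ℂ := LinearMap.toMatrix' e.toLinearEquiv.toLinearMap with hT₀
  set S₀ : Matrix (Fin n) (Fin n) ℂ := LinearMap.toMatrix' e.toLinearEquiv.symm.toLinearMap
    with hS₀
  have hTS : T₀ * S₀ = 1 := by
    rw [hT₀, hS₀, ← LinearMap.toMatrix'_comp]
    have : e.toLinearEquiv.toLinearMap ∘ₗ e.toLinearEquiv.symm.toLinearMap = LinearMap.id :=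
      LinearMap.ext fun v => e.toLinearEquiv.apply_symm_apply v
    rw [this, LinearMap.toMatrix'_id]
  have hT₀rel : ∀ g : G, T₀ * repMat ρ g = repMat ρ (σ g) * T₀ := by
    intro g
    unfold repMat
    rw [hT₀, ← LinearMap.toMatrix'_comp, ← LinearMap.toMatrix'_comp]
    congr 1
    exact LinearMap.ext fun v => he g v
  have hcomm : ∀ g : G, T₀ ^ p * repMat ρ g = repMat ρ g * T₀ ^ p := by
    intro g
    rw [intertwine_pow ρ σ T₀ hT₀rel p g, hσ g]
  obtain ⟨c, hc⟩ := exists_scalar_of_commute_mat ρ (T₀ ^ p) hcomm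
  haveI : Nontrivial (Fin n → ℂ) := irr_nontrivial ρ
  have hn : 0 < n := by
    by_contra h
    have h0 : n = 0 := by omega
    subst h0
    exact not_subsingleton (Fin 0 → ℂ) inferInstance
  have hc0 : c ≠ 0 := by
    intro h0
    rw [h0, zero_smul] at hc
    have h1 : (T₀ * S₀) ^ p = 1 := by rw [hTS, one_pow]
    have hST : S₀ * T₀ = 1 := by
      rw [hT₀, hS₀, ← LinearMap.toMatrix'_comp]
      have : e.toLinearEquiv.symm.toLinearMap ∘ₗ e.toLinearEquiv.toLinearMap = LinearMap.id :=
        LinearMap.ext fun v => e.toLinearEquiv.symm_apply_apply v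
      rw [this, LinearMap.toMatrix'_id]
    have hcm : Commute T₀ S₀ := by
      unfold Commute SemiconjBy
      rw [hTS, hST]
    rw [hcm.mul_pow, hc, Matrix.zero_mul] at h1
    have := congrFun (congrFun h1 ⟨0, hn⟩) ⟨0, hn⟩
    rw [Matrix.zero_apply, Matrix.one_apply_eq] at this
    exact zero_ne_one this
  obtain ⟨d, hd⟩ := IsAlgClosed.exists_pow_nat_eq c⁻¹ hp
  refine ⟨d • T₀, ?_, ?_⟩
  · rw [smul_pow, hd, hc, smul_smul, inv_mul_cancel₀ hc0, one_smul]
  · intro g
    rw [Matrix.smul_mul, Matrix.mul_smul, hT₀rel g]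

end Cfsg.Agent.Helper6
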