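import Mathlib
import Cfsg.Prelude.Def_Characters
import Cfsg.Agent.Helper6.GlaubA
import Cfsg.Agent.Helper6.GlaubC
import Cfsg.Agent.Helper6.CharBasic

/-!
# The representation of `F × ℤ/p` attached to an invariant irreducible representation
-/

set_option autoImplicit false
set_option linter.style.haveILetI false
set_option linter.unusedSimpArgs false

namespace Cfsg.Agent.Helper6

open Matrix Module Representation
open scoped ComplexConjugate

universe u

variable {G : Type u} [Group G]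

/-- An irreducible matrix representation together with an intertwiner for `σ` of order
dividing `p`. -/
structure GlaubDatum (σ : G ≃* G) (p : ℕ) where
  /-- degree -/
  n : ℕ
  /-- the representation -/
  ρ : Representation ℂ G (Fin n → ℂ)
  /-- irreducibility -/
  irr : ρ.IsIrreducible
  /-- the intertwiner -/
  T : Matrix (Fin n) (Fin n) ℂ
  /-- its order divides `p` -/
  hTp : T ^ p = 1
  /-- the intertwining relation -/
  hT : ∀ g : G, T * repMat ρ g = repMat ρ (σ g) * T

theorem exists_glaubDatum [Finite G] (σ : G ≃* G) (p : ℕ) (hp : 0 < p)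
    (hσ : ∀ g : G, σ^[p] g = g) {χ : G → ℂ} (hχ : Cfsg.IsIrrCharacter G χ)
    (hinv : ∀ g : G, χ (σ g) = χ g) :
    ∃ D : GlaubDatum σ p, D.ρ.character = χ := by
  obtain ⟨n, ρ, hirr, hρ⟩ := hχ
  haveI := hirr
  have h1 : ∀ g : G, ρ.character (σ g) = ρ.character g := by
    intro g
    rw [hρ]
    exact hinv g
  obtain ⟨T, hTp, hT⟩ := exists_intertwiner ρ σ h1 p hp hσ
  exact ⟨⟨n, ρ, hirr, T, hTp, hT⟩, hρ⟩

theorem pow_val_add {n p : ℕ} [NeZero p] {T : Matrix (Fin n) (Fin n) ℂ} (hTp : T ^ p = 1)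
    (a b : ZMod p) : T ^ (a + b).val = T ^ a.val * T ^ b.val := by
  rw [ZMod.val_add, ← pow_eq_pow_mod _ hTp, pow_add]

theorem pow_val_neg_mul {n p : ℕ} [NeZero p] {T : Matrix (Fin n) (Fin n) ℂ} (hTp : T ^ p = 1)
    (a : ZMod p) : T ^ (-a).val * T ^ a.val = 1 := by
  rw [← pow_val_add hTp, neg_add_cancel, ZMod.val_zero, pow_zero]

theorem pow_val_mul_neg {n p : ℕ} [NeZero p] {T : Matrix (Fin n) (Fin n) ℂ} (hTp : T ^ p = 1)
    (a : ZMod p) : T ^ a.val * T ^ (-a).val = 1 := by
  rw [← pow_val_add hTp, add_neg_cancel, ZMod.val_zero, pow_zero]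

variable {σ : G ≃* G} {p : ℕ} [NeZero p]

/-- the representation of `F × ℤ/p` -/
noncomputable def glRep (D : GlaubDatum σ p) (F : Subgroup G) (hF : ∀ c ∈ F, σ c = c) :
    Representation ℂ (F × Multiplicative (ZMod p)) (Fin D.n → ℂ) where
  toFun x := Matrix.toLin' (repMat D.ρ (x.1 : G) * D.T ^ (Multiplicative.toAdd x.2).val)
  map_one' := by
    change Matrix.toLin' (repMat D.ρ ((1 : F) : G) * D.T ^ (Multiplicative.toAdd
      (1 : Multiplicative (ZMod p))).val) = 1
    rw [toAdd_one, ZMod.val_zero, pow_zero, Subgroup.coe_one, repMat_one, Matrix.mul_one,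
      Matrix.toLin'_one]
    rfl
  map_mul' x y := by
    change Matrix.toLin' (repMat D.ρ ((x.1 * y.1 : F) : G) * D.T ^ (Multiplicative.toAdd
      (x.2 * y.2)).val) = Matrix.toLin' _ ∘ₗ Matrix.toLin' _
    rw [← Matrix.toLin'_mul, toAdd_mul, pow_val_add D.hTp, Subgroup.coe_mul, repMat_mul]
    congr 1
    rw [Matrix.mul_assoc, Matrix.mul_assoc, ← Matrix.mul_assoc (repMat D.ρ (y.1 : G)),
      ← intertwine_pow_fixed D.ρ σ D.T D.hT _ (hF _ y.1.2)]
    simp only [Matrix.mul_assoc]

/-- the character of `F × ℤ/p` -/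
noncomputable def glPsi (D : GlaubDatum σ p) (F : Subgroup G) :
    F × Multiplicative (ZMod p) → ℂ :=
  fun x => (repMat D.ρ (x.1 : G) * D.T ^ (Multiplicative.toAdd x.2).val).trace

theorem glPsi_eq_character (D : GlaubDatum σ p) (F : Subgroup G) (hF : ∀ c ∈ F, σ c = c) :
    (glRep D F hF).character = glPsi D F := by
  funext x
  unfold Representation.character glRep glPsi
  exact Matrix.trace_toLin'_eq _

theorem glPsi_isCharacter (D : GlaubDatum σ p) (F : Subgroup G) (hF : ∀ c ∈ F, σ c = c) :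
    Cfsg.IsCharacter (F × Multiplicative (ZMod p)) (glPsi D F) :=
  ⟨D.n, glRep D F hF, glPsi_eq_character D F hF⟩

omit [NeZero p] in
theorem glPsi_one (D : GlaubDatum σ p) (F : Subgroup G) (c : F) :
    glPsi D F (c, 1) = D.ρ.character (c : G) := by
  unfold glPsi
  rw [toAdd_one, ZMod.val_zero, pow_zero, Matrix.mul_one, trace_repMat]

/-- iterate of an automorphism as an automorphism -/
def iterEquiv (σ : G ≃* G) : ℕ → (G ≃* G)
  | 0 => MulEquiv.refl G
  | (j + 1) => σ.trans (iterEquiv σ j)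

omit [NeZero p] in
theorem iterEquiv_apply (σ : G ≃* G) (j : ℕ) (g : G) : iterEquiv σ j g = σ^[j] g := by
  induction j generalizing g with
  | zero => rfl
  | succ j ih =>
    rw [Function.iterate_succ_apply, ← ih (σ g)]
    rfl

omit [NeZero p] in
/-- Sums of products of twisted traces over the fixed points and over the group. -/
theorem sum_fixed_trace_eq [Fintype G] (τ : G ≃* G) (p : ℕ) (hp1 : 1 < p)
    (hcop : (Nat.card G).Coprime p) (hτ : ∀ g : G, τ^[p] g = g) (F : Subgroup G) [Fintype F]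
    (hF : ∀ g : G, g ∈ F ↔ τ g = g) {n n' : ℕ} (ρ : Representation ℂ G (Fin n → ℂ))
    (ρ' : Representation ℂ G (Fin n' → ℂ)) (U : Matrix (Fin n) (Fin n) ℂ)
    (U' Ui' : Matrix (Fin n') (Fin n') ℂ)
    (hU : ∀ g : G, U * repMat ρ g = repMat ρ (τ g) * U)
    (hU' : ∀ g : G, U' * repMat ρ' g = repMat ρ' (τ g) * U') (h1 : U' * Ui' = 1)
    (h2 : Ui' * U' = 1) :
    (Fintype.card G : ℂ) * ∑ c : F, (repMat ρ (c : G) * U).trace *
        (Ui' * repMat ρ' (c : G)⁻¹).trace =
      (Fintype.card F : ℂ) * ∑ g : G, (U * repMat ρ g).trace * (Ui' * repMat ρ' g⁻¹).trace := by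
  set f : G → ℂ := fun g => (repMat ρ g * U).trace * (Ui' * repMat ρ' g⁻¹).trace with hf
  have hinv : ∀ h g : G, f (h * g * (τ h)⁻¹) = f g := by
    intro h g
    simp only [hf]
    have e1 : repMat ρ (h * g * (τ h)⁻¹) * U = repMat ρ h * (repMat ρ g * U) * repMat ρ h⁻¹ := by
      have := hU h⁻¹
      rw [map_inv] at this
      rw [repMat_mul, repMat_mul, Matrix.mul_assoc, ← this]
      simp only [Matrix.mul_assoc]
    have e2 : Ui' * repMat ρ' (h * g * (τ h)⁻¹)⁻¹ =
        repMat ρ' h * (Ui' * repMat ρ' g⁻¹) * repMat ρ' h⁻¹ := by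
      have e3 : Ui' * repMat ρ' (τ h) = repMat ρ' h * Ui' := by
        calc Ui' * repMat ρ' (τ h) = Ui' * repMat ρ' (τ h) * (U' * Ui') := by
              rw [h1, Matrix.mul_one]
          _ = Ui' * (repMat ρ' (τ h) * U') * Ui' := by simp only [Matrix.mul_assoc]
          _ = Ui' * (U' * repMat ρ' h) * Ui' := by rw [hU' h]
          _ = (Ui' * U') * repMat ρ' h * Ui' := by simp only [Matrix.mul_assoc]
          _ = repMat ρ' h * Ui' := by rw [h2, Matrix.one_mul]
      have e4 : (h * g * (τ h)⁻¹)⁻¹ = τ h * g⁻¹ * h⁻¹ := by group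
      rw [e4, repMat_mul, repMat_mul, ← Matrix.mul_assoc, ← Matrix.mul_assoc, e3]
      simp only [Matrix.mul_assoc]
    rw [e1, e2]
    congr 1
    · rw [Matrix.trace_mul_comm, ← Matrix.mul_assoc, repMat_inv_mul, Matrix.one_mul]
    · rw [Matrix.trace_mul_comm, ← Matrix.mul_assoc, repMat_inv_mul, Matrix.one_mul]
  have key := sum_twisted_invariant τ p hp1 hcop hτ F hF f hinv
  rw [← key]
  congr 1
  apply Finset.sum_congr rfl
  intro g _
  simp only [hf]
  rw [Matrix.trace_mul_comm]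

end Cfsg.Agent.Helper6
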