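import Mathlib
import Cfsg.Prelude.Def_Characters
import Cfsg.Agent.Helper6.GlaubD
import Cfsg.Agent.Helper6.ClassInner

/-!
# Norm relations for the twisted characters
-/

set_option autoImplicit false
set_option linter.style.haveILetI false
set_option linter.unusedSimpArgs false

namespace Cfsg.Agent.Helper6

open Matrix Module Representation
open scoped ComplexConjugate

universe u

variable {G : Type u} [Group G] [Fintype G]

omit [Fintype G] in
theorem iter_fixed_iff (σ : G ≃* G) (p : ℕ) (hp : p.Prime) (hσ : ∀ g : G, σ^[p] g = g)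
    (j : ℕ) (hj : ¬ p ∣ j) (g : G) : σ^[j] g = g ↔ σ g = g := by
  constructor
  · intro h
    have hcop : Nat.Coprime j p := (Nat.Prime.coprime_iff_not_dvd hp).mpr hj |>.symm
    obtain ⟨j', -, hj'⟩ := Nat.exists_mul_mod_eq_one_of_coprime hcop hp.one_lt
    have hper : Function.IsPeriodicPt σ p g := hσ g
    have h1 := hper.iterate_mod_apply (j * j')
    rw [hj', Function.iterate_one] at h1
    rw [h1, Function.iterate_mul]
    exact Function.iterate_fixed h j'
  · intro h
    exact Function.iterate_fixed h j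

omit [Fintype G] in
theorem iter_iter_fixed (σ : G ≃* G) (p : ℕ) (hσ : ∀ g : G, σ^[p] g = g) (j : ℕ) (g : G) :
    (σ^[j])^[p] g = g := by
  rw [← Function.iterate_mul, mul_comm, Function.iterate_mul]
  exact Function.iterate_fixed (hσ g) j

variable {σ : G ≃* G} {p : ℕ} [hp : Fact p.Prime]

/-- The basic sum relation for the twisted characters. -/
theorem glPsi_sum (hcop : (Nat.card G).Coprime p) (hσ : ∀ g : G, σ^[p] g = g)
    (F : Subgroup G) [Fintype F] (hF : ∀ g : G, g ∈ F ↔ σ g = g) (D D' : GlaubDatum σ p)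
    (k : ZMod p) (hk : k ≠ 0) :
    (Fintype.card G : ℂ) * ∑ c : F, glPsi D F (c, Multiplicative.ofAdd k) *
        conj (glPsi D' F (c, Multiplicative.ofAdd k)) =
      (Fintype.card F : ℂ) * ∑ g : G, (D.T ^ k.val * repMat D.ρ g).trace *
        (D'.T ^ (-k).val * repMat D'.ρ g⁻¹).trace := by
  have hFc : ∀ c ∈ F, σ c = c := fun c hc => (hF c).mp hc
  have hjdvd : ¬ p ∣ k.val := by
    intro h
    apply hk
    have := (ZMod.natCast_eq_zero_iff k.val p).mpr h
    rwa [ZMod.natCast_val, ZMod.cast_id', id] at this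
  set τ := iterEquiv σ k.val with hτdef
  have hτ : ∀ g : G, τ g = σ^[k.val] g := fun g => iterEquiv_apply σ k.val g
  have hτfun : (τ : G → G) = σ^[k.val] := funext hτ
  have hτp : ∀ g : G, τ^[p] g = g := by
    intro g
    rw [hτfun]
    exact iter_iter_fixed σ p hσ k.val g
  have hFτ : ∀ g : G, g ∈ F ↔ τ g = g := by
    intro g
    rw [hF, hτ, iter_fixed_iff σ p hp.out hσ k.val hjdvd]
  have hU : ∀ g : G, D.T ^ k.val * repMat D.ρ g = repMat D.ρ (τ g) * D.T ^ k.val := by
    intro g
    rw [hτ]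
    exact intertwine_pow D.ρ σ D.T D.hT k.val g
  have hU' : ∀ g : G, D'.T ^ k.val * repMat D'.ρ g = repMat D'.ρ (τ g) * D'.T ^ k.val := by
    intro g
    rw [hτ]
    exact intertwine_pow D'.ρ σ D'.T D'.hT k.val g
  have key := sum_fixed_trace_eq τ p hp.out.one_lt hcop hτp F hFτ D.ρ D'.ρ (D.T ^ k.val)
    (D'.T ^ k.val) (D'.T ^ (-k).val) hU hU' (pow_val_mul_neg D'.hTp k) (pow_val_neg_mul D'.hTp k)
  rw [← key]
  congr 1
  apply Finset.sum_congr rfl
  intro c _
  have hconj := IsCharacter.inv_eq_conj (glPsi_isCharacter D' F hFc) (c, Multiplicative.ofAdd k)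
  rw [← hconj]
  congr 1
  unfold glPsi
  rw [Matrix.trace_mul_comm]
  simp only [Prod.fst_inv, Prod.snd_inv, Subgroup.coe_inv, toAdd_inv, toAdd_ofAdd]

end Cfsg.Agent.Helper6
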