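import Mathlib
import Cfsg.Prelude.Def_Characters
import Cfsg.Agent.Helper6.GlaubE
import Cfsg.Agent.Helper6.Expansion
import Cfsg.Agent.Helper6.Induced
import Cfsg.Agent.Helper6.Linear

/-!
# Fourier analysis of the twisted characters
-/

set_option autoImplicit false
set_option linter.style.haveILetI false
set_option linter.unusedSimpArgs false

namespace Cfsg.Agent.Helper6

open Matrix Module Representation
open scoped ComplexConjugate

universe u

/-- Parseval's identity for class functions. -/
theorem classInner_parseval {H : Type u} [Group H] [Fintype H] [Fintype (Cfsg.IrrCharacter H)]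
    (φ ψ : H → ℂ) (hφ : Cfsg.IsClassFunction H φ) :
    Cfsg.classInner φ ψ = ∑ χ : Cfsg.IrrCharacter H,
      Cfsg.classInner φ (χ : H → ℂ) * conj (Cfsg.classInner ψ (χ : H → ℂ)) := by
  conv_lhs => rw [classFunction_expansion φ hφ]
  rw [classInner_sum_left]
  apply Finset.sum_congr rfl
  intro χ _
  rw [classInner_smul_left, classInner_conj_symm ψ (χ : H → ℂ)]

/-- every function on a commutative group is a class function -/
theorem isClassFunction_of_comm {H : Type u} [CommGroup H] (a : H → ℂ) :
    Cfsg.IsClassFunction H a := by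
  intro g h
  rw [mul_inv_cancel_comm]

variable {G : Type u} [Group G] [Fintype G]
variable {σ : G ≃* G} {p : ℕ} [hp : Fact p.Prime]

/-- the Fourier coefficient functions -/
noncomputable def glA (D : GlaubDatum σ p) (F : Subgroup G) [Fintype F] (β : F → ℂ) :
    Multiplicative (ZMod p) → ℂ :=
  fun k => Cfsg.classInner (fun c : F => glPsi D F (c, k)) β

omit [Fintype G] in
theorem glPsi_slice_isClassFunction (D : GlaubDatum σ p) (F : Subgroup G)
    (hFc : ∀ c ∈ F, σ c = c) (k : Multiplicative (ZMod p)) :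
    Cfsg.IsClassFunction F (fun c : F => glPsi D F (c, k)) := by
  intro c h
  have := (IsCharacter.isClassFunction (glPsi_isCharacter D F hFc)) (c, k) (h, 1)
  simpa using this

omit [Fintype G] in
theorem glA_one (D : GlaubDatum σ p) (F : Subgroup G) [Fintype F] (β : F → ℂ) :
    glA D F β 1 = Cfsg.classInner (fun c : F => D.ρ.character (c : G)) β := by
  unfold glA
  congr 1
  funext c
  exact glPsi_one D F c

omit [Fintype G] in
theorem classInner_glA (D : GlaubDatum σ p) (F : Subgroup G) [Fintype F] (β : F → ℂ)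
    (lam : Multiplicative (ZMod p) → ℂ) :
    Cfsg.classInner (glA D F β) lam =
      Cfsg.classInner (glPsi D F) (fun x : F × Multiplicative (ZMod p) => β x.1 * lam x.2) := by
  unfold glA Cfsg.classInner
  rw [Nat.card_prod, Nat.cast_mul, Fintype.sum_prod_type_right]
  rw [mul_inv, mul_assoc, mul_comm (Nat.card F : ℂ)⁻¹, mul_assoc]
  congr 1
  rw [Finset.sum_mul]
  apply Finset.sum_congr rfl
  intro k _
  simp only []
  rw [mul_comm _ (Nat.card F : ℂ)⁻¹, mul_assoc, Finset.sum_mul, Finset.mul_sum, Finset.mul_sum]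
  apply Finset.sum_congr rfl
  intro c _
  rw [map_mul]
  ring

omit [Fintype G] in
theorem exists_glN (D : GlaubDatum σ p) (F : Subgroup G) [Fintype F] (hFc : ∀ c ∈ F, σ c = c)
    (β : Cfsg.IrrCharacter F) (lam : Cfsg.IrrCharacter (Multiplicative (ZMod p))) :
    ∃ n : ℕ, Cfsg.classInner (glA D F (β : F → ℂ)) (lam : Multiplicative (ZMod p) → ℂ) = n := by
  rw [classInner_glA]
  apply classInner_char_char_nat (glPsi_isCharacter D F hFc)
  have h1 : Cfsg.IsCharacter (F × Multiplicative (ZMod p))
      (fun x => (β : F → ℂ) x.1) :=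
    IsCharacter.comp_hom (MonoidHom.fst F (Multiplicative (ZMod p)))
      (IsIrrCharacter.isCharacter β.2)
  have h2 : Cfsg.IsCharacter (F × Multiplicative (ZMod p))
      (fun x => (lam : Multiplicative (ZMod p) → ℂ) x.2) :=
    IsCharacter.comp_hom (MonoidHom.snd F (Multiplicative (ZMod p)))
      (IsIrrCharacter.isCharacter lam.2)
  exact IsCharacter.mul h1 h2

/-- the multiplicities -/
noncomputable def glN (D : GlaubDatum σ p) (F : Subgroup G) [Fintype F] (hFc : ∀ c ∈ F, σ c = c)
    (β : Cfsg.IrrCharacter F) (lam : Cfsg.IrrCharacter (Multiplicative (ZMod p))) : ℕ :=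
  Classical.choose (exists_glN D F hFc β lam)

omit [Fintype G] in
theorem glN_spec (D : GlaubDatum σ p) (F : Subgroup G) [Fintype F] (hFc : ∀ c ∈ F, σ c = c)
    (β : Cfsg.IrrCharacter F) (lam : Cfsg.IrrCharacter (Multiplicative (ZMod p))) :
    Cfsg.classInner (glA D F (β : F → ℂ)) (lam : Multiplicative (ZMod p) → ℂ) =
      (glN D F hFc β lam : ℂ) :=
  Classical.choose_spec (exists_glN D F hFc β lam)

omit [Fintype G] in
/-- the multiplicity of `β` in the restriction is the sum of the `glN` -/
theorem glN_sum (D : GlaubDatum σ p) (F : Subgroup G) [Fintype F] (hFc : ∀ c ∈ F, σ c = c)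
    [Fintype (Cfsg.IrrCharacter (Multiplicative (ZMod p)))] (β : Cfsg.IrrCharacter F) :
    Cfsg.classInner (fun c : F => D.ρ.character (c : G)) (β : F → ℂ) =
      ∑ lam : Cfsg.IrrCharacter (Multiplicative (ZMod p)), (glN D F hFc β lam : ℂ) := by
  rw [← glA_one]
  have h1 := classFunction_expansion (glA D F (β : F → ℂ)) (isClassFunction_of_comm _)
  have h2 := congrFun h1 1
  rw [Finset.sum_apply] at h2
  rw [h2]
  apply Finset.sum_congr rfl
  intro lam _
  have hlin : (lam : Multiplicative (ZMod p) → ℂ) 1 = 1 :=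
    (comm_iff_forall_irr_degree_one (G := Multiplicative (ZMod p))).mp
      (fun a b => mul_comm a b) lam
  rw [Pi.smul_apply, hlin, smul_eq_mul, mul_one, glN_spec D F hFc]

omit [Fintype G] in
/-- Parseval on the cyclic group -/
theorem glN_parseval (D D' : GlaubDatum σ p) (F : Subgroup G) [Fintype F]
    (hFc : ∀ c ∈ F, σ c = c)
    [Fintype (Cfsg.IrrCharacter (Multiplicative (ZMod p)))] (β : Cfsg.IrrCharacter F) :
    ∑ k : Multiplicative (ZMod p), glA D F (β : F → ℂ) k * conj (glA D' F (β : F → ℂ) k) =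
      (p : ℂ) * ∑ lam : Cfsg.IrrCharacter (Multiplicative (ZMod p)),
        (glN D F hFc β lam : ℂ) * (glN D' F hFc β lam : ℂ) := by
  have h1 := classInner_parseval (glA D F (β : F → ℂ)) (glA D' F (β : F → ℂ))
    (isClassFunction_of_comm _)
  have h2 : ∀ lam : Cfsg.IrrCharacter (Multiplicative (ZMod p)),
      Cfsg.classInner (glA D F (β : F → ℂ)) (lam : Multiplicative (ZMod p) → ℂ) *
        conj (Cfsg.classInner (glA D' F (β : F → ℂ)) (lam : Multiplicative (ZMod p) → ℂ)) =
      (glN D F hFc β lam : ℂ) * (glN D' F hFc β lam : ℂ) := by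
    intro lam
    rw [glN_spec, glN_spec, Complex.conj_natCast]
  rw [Finset.sum_congr rfl (fun lam _ => h2 lam)] at h1
  rw [← h1]
  unfold Cfsg.classInner
  have hcard : (Nat.card (Multiplicative (ZMod p)) : ℂ) = p := by
    rw [Nat.card_eq_fintype_card, Fintype.card_multiplicative, ZMod.card]
  rw [hcard, ← mul_assoc, mul_inv_cancel₀, one_mul]
  exact_mod_cast hp.out.ne_zero

end Cfsg.Agent.Helper6
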