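import Mathlib
import Cfsg.Prelude.Def_Characters
import Cfsg.Agent.Helper6.GlaubF

/-!
# The numerical relations behind the Glauberman correspondence (prime order case)
-/

set_option autoImplicit false
set_option linter.style.haveILetI false
set_option linter.unusedSimpArgs false

namespace Cfsg.Agent.Helper6

open Matrix Module Representation
open scoped ComplexConjugate

universe u

variable {G : Type u} [Group G] [Fintype G]
variable {σ : G ≃* G} {p : ℕ} [hp : Fact p.Prime]

/-- the general numerical relation, with a parameter `δ` -/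
theorem glaub_numeric (hcop : (Nat.card G).Coprime p) (hσ : ∀ g : G, σ^[p] g = g)
    (F : Subgroup G) [Fintype F] (hF : ∀ g : G, g ∈ F ↔ σ g = g)
    [Fintype (Cfsg.IrrCharacter F)] [Fintype (Cfsg.IrrCharacter (Multiplicative (ZMod p)))]
    (D D' : GlaubDatum σ p) (δ : ℂ)
    (hδ : ∀ k : ZMod p, k ≠ 0 → ∑ g : G, (D.T ^ k.val * repMat D.ρ g).trace *
        (D'.T ^ (-k).val * repMat D'.ρ g⁻¹).trace = δ * (Fintype.card G : ℂ)) :
    (p : ℂ) * ∑ β : Cfsg.IrrCharacter F, ∑ lam : Cfsg.IrrCharacter (Multiplicative (ZMod p)),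
        (glN D F (fun c hc => (hF c).mp hc) β lam : ℂ) *
          (glN D' F (fun c hc => (hF c).mp hc) β lam : ℂ) =
      ∑ β : Cfsg.IrrCharacter F,
        (∑ lam : Cfsg.IrrCharacter (Multiplicative (ZMod p)),
          (glN D F (fun c hc => (hF c).mp hc) β lam : ℂ)) *
        (∑ lam : Cfsg.IrrCharacter (Multiplicative (ZMod p)),
          (glN D' F (fun c hc => (hF c).mp hc) β lam : ℂ)) + ((p : ℂ) - 1) * δ := by
  classical
  have hFc : ∀ c ∈ F, σ c = c := fun c hc => (hF c).mp hc
  have hG0 : (Fintype.card G : ℂ) ≠ 0 := by exact_mod_cast Fintype.card_ne_zero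
  have hF0 : (Fintype.card F : ℂ) ≠ 0 := by exact_mod_cast Fintype.card_ne_zero
  -- step 1: rewrite the left side as a sum over `k`
  have h1 : (p : ℂ) * ∑ β : Cfsg.IrrCharacter F,
      ∑ lam : Cfsg.IrrCharacter (Multiplicative (ZMod p)),
        (glN D F hFc β lam : ℂ) * (glN D' F hFc β lam : ℂ) =
      ∑ k : Multiplicative (ZMod p),
        Cfsg.classInner (fun c : F => glPsi D F (c, k)) (fun c : F => glPsi D' F (c, k)) := by
    rw [Finset.mul_sum]
    have : ∀ β : Cfsg.IrrCharacter F, (p : ℂ) * ∑ lam : Cfsg.IrrCharacter (Multiplicative (ZMod p)),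
        (glN D F hFc β lam : ℂ) * (glN D' F hFc β lam : ℂ) =
        ∑ k : Multiplicative (ZMod p), glA D F (β : F → ℂ) k * conj (glA D' F (β : F → ℂ) k) :=
      fun β => (glN_parseval D D' F hFc β).symm
    rw [Finset.sum_congr rfl (fun β _ => this β), Finset.sum_comm]
    apply Finset.sum_congr rfl
    intro k _
    rw [classInner_parseval _ _ (glPsi_slice_isClassFunction D F hFc k)]
    rfl
  -- step 2: the terms with `k ≠ 1`
  have h2 : ∀ k : Multiplicative (ZMod p), k ≠ 1 →
      Cfsg.classInner (fun c : F => glPsi D F (c, k)) (fun c : F => glPsi D' F (c, k)) = δ := by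
    intro k hk
    have hk' : Multiplicative.toAdd k ≠ 0 := by
      intro h
      apply hk
      exact Multiplicative.toAdd.injective h
    have key := glPsi_sum hcop hσ F hF D D' (Multiplicative.toAdd k) hk'
    rw [hδ _ hk', ofAdd_toAdd] at key
    unfold Cfsg.classInner
    rw [Nat.card_eq_fintype_card]
    have : ∑ c : F, glPsi D F (c, k) * conj (glPsi D' F (c, k)) = (Fintype.card F : ℂ) * δ := by
      apply mul_left_cancel₀ hG0
      rw [key]
      ring
    rw [this, ← mul_assoc, inv_mul_cancel₀ hF0, one_mul]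
  -- step 3: the term with `k = 1`
  have h3 : Cfsg.classInner (fun c : F => glPsi D F (c, 1)) (fun c : F => glPsi D' F (c, 1)) =
      ∑ β : Cfsg.IrrCharacter F,
        (∑ lam : Cfsg.IrrCharacter (Multiplicative (ZMod p)), (glN D F hFc β lam : ℂ)) *
        (∑ lam : Cfsg.IrrCharacter (Multiplicative (ZMod p)), (glN D' F hFc β lam : ℂ)) := by
    rw [classInner_parseval _ _ (glPsi_slice_isClassFunction D F hFc 1)]
    apply Finset.sum_congr rfl
    intro β _
    have e1 : Cfsg.classInner (fun c : F => glPsi D F (c, 1)) (β : F → ℂ) =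
        ∑ lam : Cfsg.IrrCharacter (Multiplicative (ZMod p)), (glN D F hFc β lam : ℂ) := by
      rw [← glN_sum D F hFc β]
      congr 1
      funext c
      exact glPsi_one D F c
    have e2 : Cfsg.classInner (fun c : F => glPsi D' F (c, 1)) (β : F → ℂ) =
        ∑ lam : Cfsg.IrrCharacter (Multiplicative (ZMod p)), (glN D' F hFc β lam : ℂ) := by
      rw [← glN_sum D' F hFc β]
      congr 1
      funext c
      exact glPsi_one D' F c
    rw [e1, e2, map_sum]
    congr 1
    apply Finset.sum_congr rfl
    intro lam _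
    rw [Complex.conj_natCast]
  rw [h1, ← Finset.add_sum_erase Finset.univ _ (Finset.mem_univ (1 : Multiplicative (ZMod p))), h3]
  congr 1
  have h4 : ∀ k ∈ (Finset.univ : Finset (Multiplicative (ZMod p))).erase 1,
      Cfsg.classInner (fun c : F => glPsi D F (c, k)) (fun c : F => glPsi D' F (c, k)) = δ :=
    fun k hk => h2 k (Finset.ne_of_mem_erase hk)
  rw [Finset.sum_congr rfl h4, Finset.sum_const, Finset.card_erase_of_mem (Finset.mem_univ _),
    Finset.card_univ, Fintype.card_multiplicative, ZMod.card, nsmul_eq_mul,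
    Nat.cast_sub hp.out.one_lt.le, Nat.cast_one]

end Cfsg.Agent.Helper6
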