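import Mathlib

/-!
# A combinatorial lemma on integer families
-/

set_option autoImplicit false
set_option linter.style.haveILetI false
set_option linter.unusedSimpArgs false

namespace Cfsg.Agent.Helper6

/-- the "discriminant" is nonnegative (Cauchy–Schwarz) -/
theorem disc_nonneg {κ : Type*} [Fintype κ] (f : κ → ℤ) :
    0 ≤ (Fintype.card κ : ℤ) * ∑ k, f k ^ 2 - (∑ k, f k) ^ 2 := by
  have := sq_sum_le_card_mul_sum_sq (s := (Finset.univ : Finset κ)) (f := f)
  rw [Finset.card_univ] at this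
  linarith

/-- For a non-constant integer family indexed by a set of size `p`, the discriminant is at
least `p - 1`. -/
theorem disc_ge_of_not_const {κ : Type*} [Fintype κ] (f : κ → ℤ) (k₁ k₂ : κ)
    (hne : f k₁ ≠ f k₂) :
    (Fintype.card κ : ℤ) - 1 ≤ (Fintype.card κ : ℤ) * ∑ k, f k ^ 2 - (∑ k, f k) ^ 2 := by
  classical
  set a := f k₁ with ha
  set g : κ → ℤ := fun k => f k - a with hg
  set P : ℤ := (Fintype.card κ : ℤ) with hP
  -- shift invariance
  have hshift : P * ∑ k, f k ^ 2 - (∑ k, f k) ^ 2 = P * ∑ k, g k ^ 2 - (∑ k, g k) ^ 2 := by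
    have e1 : ∑ k, g k = ∑ k, f k - P * a := by
      simp only [hg, Finset.sum_sub_distrib, Finset.sum_const, Finset.card_univ, nsmul_eq_mul, hP]
    have e2 : ∑ k, g k ^ 2 = ∑ k, f k ^ 2 - 2 * a * ∑ k, f k + P * a ^ 2 := by
      simp only [hg, sub_sq, Finset.sum_add_distrib, Finset.sum_sub_distrib, Finset.sum_const,
        Finset.card_univ, nsmul_eq_mul, hP, ← Finset.mul_sum, ← Finset.sum_mul]
      ring
    rw [e1, e2]
    ring
  rw [hshift]
  set S : Finset κ := Finset.univ.filter (fun k => g k ≠ 0) with hS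
  have hk₁ : k₁ ∉ S := by
    rw [hS, Finset.mem_filter]
    simp [hg, ha]
  have hk₂ : k₂ ∈ S := by
    rw [hS, Finset.mem_filter]
    refine ⟨Finset.mem_univ _, ?_⟩
    simp only [hg]
    intro h
    apply hne
    rw [ha]
    linarith
  have hsum : ∑ k, g k = ∑ k ∈ S, g k := by
    rw [hS, Finset.sum_filter]
    apply Finset.sum_congr rfl
    intro k _
    by_cases h : g k = 0
    · simp [h]
    · simp [h]
  have hsumsq : ∑ k, g k ^ 2 = ∑ k ∈ S, g k ^ 2 := by
    rw [hS, Finset.sum_filter]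
    apply Finset.sum_congr rfl
    intro k _
    by_cases h : g k = 0
    · simp [h]
    · simp [h]
  have hCS : (∑ k ∈ S, g k) ^ 2 ≤ (S.card : ℤ) * ∑ k ∈ S, g k ^ 2 :=
    sq_sum_le_card_mul_sum_sq
  have hge : (S.card : ℤ) ≤ ∑ k ∈ S, g k ^ 2 := by
    have : ∀ k ∈ S, (1 : ℤ) ≤ g k ^ 2 := by
      intro k hk
      have hk0 : g k ≠ 0 := (Finset.mem_filter.mp hk).2
      have : 0 < g k ^ 2 := by positivity
      linarith
    have := Finset.card_nsmul_le_sum S (fun k => g k ^ 2) 1 this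
    simpa using this
  have hs1 : (1 : ℤ) ≤ S.card := by
    have : 0 < S.card := Finset.card_pos.mpr ⟨k₂, hk₂⟩
    exact_mod_cast this
  have hs2 : (S.card : ℤ) + 1 ≤ P := by
    have h1 : S.card < Fintype.card κ := by
      rw [← Finset.card_univ]
      apply Finset.card_lt_card
      rw [Finset.ssubset_iff_of_subset (Finset.subset_univ _)]
      exact ⟨k₁, Finset.mem_univ _, hk₁⟩
    rw [hP]
    exact_mod_cast h1
  rw [hsum, hsumsq]
  set Q := ∑ k ∈ S, g k ^ 2 with hQ
  set s : ℤ := (S.card : ℤ) with hs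
  nlinarith

/-- the discriminant vanishes for a constant family -/
theorem disc_const {κ : Type*} [Fintype κ] (f : κ → ℤ) (c : ℤ) (hf : ∀ k, f k = c) :
    (Fintype.card κ : ℤ) * ∑ k, f k ^ 2 - (∑ k, f k) ^ 2 = 0 := by
  simp only [hf, Finset.sum_const, Finset.card_univ, nsmul_eq_mul]
  ring

/-- The combinatorial heart of the Glauberman correspondence. -/
theorem glaub_comb {ι κ : Type*} [Fintype ι] [Fintype κ] (p : ℕ) (hp : p.Prime)
    (hκ : Fintype.card κ = p) (N : ι → κ → ℕ)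
    (h : p * ∑ i, ∑ k, N i k ^ 2 = ∑ i, (∑ k, N i k) ^ 2 + (p - 1)) :
    ∃ i₀ : ι, (((∑ k, N i₀ k : ℕ) : ℤ) ≡ 1 [ZMOD p] ∨ ((∑ k, N i₀ k : ℕ) : ℤ) ≡ -1 [ZMOD p]) ∧
      ∀ i : ι, i ≠ i₀ → p ∣ ∑ k, N i k := by
  classical
  set D : ι → ℤ := fun i => (p : ℤ) * ∑ k, (N i k : ℤ) ^ 2 - (∑ k, (N i k : ℤ)) ^ 2 with hD
  have hD0 : ∀ i, 0 ≤ D i := by
    intro i
    have := disc_nonneg (fun k => (N i k : ℤ))
    rw [hκ] at this
    exact this
  have hDsum : ∑ i, D i = (p : ℤ) - 1 := by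
    have h' : ((p * ∑ i, ∑ k, N i k ^ 2 : ℕ) : ℤ) = ((∑ i, (∑ k, N i k) ^ 2 + (p - 1) : ℕ) : ℤ) := by
      rw [h]
    push_cast [Nat.cast_sub hp.one_lt.le] at h'
    simp only [hD, Finset.sum_sub_distrib, ← Finset.mul_sum]
    linarith
  have hDge : ∀ i, (∃ k₁ k₂, N i k₁ ≠ N i k₂) → (p : ℤ) - 1 ≤ D i := by
    rintro i ⟨k₁, k₂, hne⟩
    have := disc_ge_of_not_const (fun k => (N i k : ℤ)) k₁ k₂ (by exact_mod_cast hne)
    rw [hκ] at this
    exact this
  have hDconst : ∀ i, (¬ ∃ k₁ k₂, N i k₁ ≠ N i k₂) → D i = 0 ∧ p ∣ ∑ k, N i k := by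
    intro i hi
    push Not at hi
    have hne : Nonempty κ := by
      rw [← Fintype.card_pos_iff, hκ]
      exact hp.pos
    obtain ⟨k₀⟩ := hne
    have hc : ∀ k, N i k = N i k₀ := fun k => hi k k₀
    constructor
    · have := disc_const (fun k => (N i k : ℤ)) (N i k₀ : ℤ) (fun k => by rw [hc k])
      rw [hκ] at this
      exact this
    · rw [Finset.sum_congr rfl (fun k _ => hc k), Finset.sum_const, Finset.card_univ, hκ,
        smul_eq_mul]
      exact dvd_mul_right _ _
  -- some `i₀` has positive discriminant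
  have hp1 : (0 : ℤ) < (p : ℤ) - 1 := by
    have := hp.one_lt
    have : (1 : ℤ) < p := by exact_mod_cast this
    linarith
  have hex : ∃ i₀, 0 < D i₀ := by
    by_contra hcon
    push Not at hcon
    have : ∑ i, D i ≤ 0 := Finset.sum_nonpos (fun i _ => hcon i)
    linarith
  obtain ⟨i₀, hi₀⟩ := hex
  have hnc : ∃ k₁ k₂, N i₀ k₁ ≠ N i₀ k₂ := by
    by_contra hcon
    have := (hDconst i₀ hcon).1
    linarith
  have hge := hDge i₀ hnc
  have hothers : ∀ i, i ≠ i₀ → D i = 0 := by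
    intro i hi
    have h1 : D i₀ + D i ≤ ∑ j, D j := by
      have hsub : ({i₀, i} : Finset ι) ⊆ Finset.univ := Finset.subset_univ _
      have := Finset.sum_le_sum_of_subset_of_nonneg hsub (f := D) (fun j _ _ => hD0 j)
      rwa [Finset.sum_pair (Ne.symm hi)] at this
    have := hD0 i
    linarith
  have hDi₀ : D i₀ = (p : ℤ) - 1 := by
    have h1 : ∑ j, D j = D i₀ := by
      apply Finset.sum_eq_single i₀
      · intro j _ hj
        exact hothers j hj
      · intro h
        exact absurd (Finset.mem_univ _) h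
    linarith
  refine ⟨i₀, ?_, ?_⟩
  · -- `m² ≡ 1 mod p`
    set m : ℤ := ((∑ k, N i₀ k : ℕ) : ℤ) with hm
    have hm' : m = ∑ k, (N i₀ k : ℤ) := by
      rw [hm]
      push_cast
      rfl
    have hsq : (p : ℤ) ∣ m ^ 2 - 1 := by
      have : m ^ 2 - 1 = (p : ℤ) * (∑ k, (N i₀ k : ℤ) ^ 2 - 1) := by
        simp only [hD] at hDi₀
        rw [hm']
        linarith
      rw [this]
      exact dvd_mul_right _ _
    have hfac : m ^ 2 - 1 = (m - 1) * (m + 1) := by ring
    rw [hfac] at hsq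
    have hpp : Prime (p : ℤ) := Nat.prime_iff_prime_int.mp hp
    rcases hpp.dvd_or_dvd hsq with h1 | h1
    · left
      exact (Int.modEq_iff_dvd.mpr h1).symm
    · right
      apply Int.ModEq.symm
      apply Int.modEq_iff_dvd.mpr
      have : m - -1 = m + 1 := by ring
      rw [this]
      exact h1
  · intro i hi
    by_contra hnd
    have hnc' : ∃ k₁ k₂, N i k₁ ≠ N i k₂ := by
      by_contra hcon
      exact hnd (hDconst i hcon).2
    have := hDge i hnc'
    have := hothers i hi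
    linarith

end Cfsg.Agent.Helper6
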