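import Mathlib
import Cfsg.Prelude.Def_Characters
import Cfsg.Agent.Helper6.GlaubG
import Cfsg.Agent.Helper6.GlaubH
import Cfsg.Agent.Helper6.IrrBasis
import Cfsg.Agent.Helper6.IrrCount

/-!
# The Glauberman correspondence for an automorphism of prime order: uniqueness, sign, injectivity
-/

set_option autoImplicit false
set_option linter.style.haveILetI false
set_option linter.unusedSimpArgs false

namespace Cfsg.Agent.Helper6

open Matrix Module Representation
open scoped ComplexConjugate

universe u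

variable {G : Type u} [Group G] [Fintype G]
variable {σ : G ≃* G} {p : ℕ} [hp : Fact p.Prime]

theorem card_irr_zmod : Nat.card (Cfsg.IrrCharacter (Multiplicative (ZMod p))) = p := by
  rw [card_irr_eq_card_conjClasses, ← Nat.card_congr (ConjClasses.mkEquiv (α := Multiplicative (ZMod p))),
    Nat.card_eq_fintype_card, Fintype.card_multiplicative, ZMod.card]

/-- numerical relation for a single invariant character, in `ℕ` -/
theorem glaub_numeric_same (hcop : (Nat.card G).Coprime p) (hσ : ∀ g : G, σ^[p] g = g)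
    (F : Subgroup G) [Fintype F] (hF : ∀ g : G, g ∈ F ↔ σ g = g)
    [Fintype (Cfsg.IrrCharacter F)] [Fintype (Cfsg.IrrCharacter (Multiplicative (ZMod p)))]
    (D : GlaubDatum σ p) :
    p * ∑ β : Cfsg.IrrCharacter F, ∑ lam : Cfsg.IrrCharacter (Multiplicative (ZMod p)),
        glN D F (fun c hc => (hF c).mp hc) β lam ^ 2 =
      ∑ β : Cfsg.IrrCharacter F,
        (∑ lam : Cfsg.IrrCharacter (Multiplicative (ZMod p)),
          glN D F (fun c hc => (hF c).mp hc) β lam) ^ 2 + (p - 1) := by
  haveI := D.irr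
  haveI : Nontrivial (Fin D.n → ℂ) := irr_nontrivial D.ρ
  have hn : (D.n : ℂ) ≠ 0 := by
    have : D.n ≠ 0 := by
      intro h0
      have hsub : Subsingleton (Fin D.n → ℂ) := by
        rw [h0]
        infer_instance
      exact not_subsingleton _ hsub
    exact_mod_cast this
  have hδ : ∀ k : ZMod p, k ≠ 0 → ∑ g : G, (D.T ^ k.val * repMat D.ρ g).trace *
      (D.T ^ (-k).val * repMat D.ρ g⁻¹).trace = 1 * (Fintype.card G : ℂ) := by
    intro k _
    have h1 := sum_trace_mul_trace D.ρ (D.T ^ k.val) (D.T ^ (-k).val)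
    rw [pow_val_mul_neg D.hTp k, Matrix.trace_one, Fintype.card_fin] at h1
    apply mul_left_cancel₀ hn
    rw [h1]
    ring
  have key := glaub_numeric hcop hσ F hF D D 1 hδ
  have : ((p * ∑ β : Cfsg.IrrCharacter F, ∑ lam : Cfsg.IrrCharacter (Multiplicative (ZMod p)),
        glN D F (fun c hc => (hF c).mp hc) β lam ^ 2 : ℕ) : ℂ) =
      ((∑ β : Cfsg.IrrCharacter F,
        (∑ lam : Cfsg.IrrCharacter (Multiplicative (ZMod p)),
          glN D F (fun c hc => (hF c).mp hc) β lam) ^ 2 + (p - 1) : ℕ) : ℂ) := by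
    push_cast [Nat.cast_sub hp.out.one_lt.le]
    simp only [sq]
    rw [key]
    ring
  exact_mod_cast this

/-- numerical relation for two distinct invariant characters, in `ℕ` -/
theorem glaub_numeric_orth (hcop : (Nat.card G).Coprime p) (hσ : ∀ g : G, σ^[p] g = g)
    (F : Subgroup G) [Fintype F] (hF : ∀ g : G, g ∈ F ↔ σ g = g)
    [Fintype (Cfsg.IrrCharacter F)] [Fintype (Cfsg.IrrCharacter (Multiplicative (ZMod p)))]
    (D D' : GlaubDatum σ p) (hne : D.ρ.character ≠ D'.ρ.character) :
    p * ∑ β : Cfsg.IrrCharacter F, ∑ lam : Cfsg.IrrCharacter (Multiplicative (ZMod p)),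
        glN D F (fun c hc => (hF c).mp hc) β lam * glN D' F (fun c hc => (hF c).mp hc) β lam =
      ∑ β : Cfsg.IrrCharacter F,
        (∑ lam : Cfsg.IrrCharacter (Multiplicative (ZMod p)),
          glN D F (fun c hc => (hF c).mp hc) β lam) *
        (∑ lam : Cfsg.IrrCharacter (Multiplicative (ZMod p)),
          glN D' F (fun c hc => (hF c).mp hc) β lam) := by
  have hirr : Cfsg.IsIrrCharacter G D.ρ.character := ⟨D.n, D.ρ, D.irr, rfl⟩
  have hirr' : Cfsg.IsIrrCharacter G D'.ρ.character := ⟨D'.n, D'.ρ, D'.irr, rfl⟩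
  have horth : ∑ g : G, D'.ρ.character g * D.ρ.character g⁻¹ = 0 := by
    have h1 := classInner_irr_ne hirr' hirr (Ne.symm hne)
    unfold Cfsg.classInner at h1
    have h2 : (Nat.card G : ℂ)⁻¹ ≠ 0 := by
      apply inv_ne_zero
      exact_mod_cast Nat.card_pos.ne'
    have h3 := (mul_eq_zero.mp h1).resolve_left h2
    rw [← h3]
    apply Finset.sum_congr rfl
    intro g _
    rw [IsCharacter.inv_eq_conj (IsIrrCharacter.isCharacter hirr) g]
  have hδ : ∀ k : ZMod p, k ≠ 0 → ∑ g : G, (D.T ^ k.val * repMat D.ρ g).trace *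
      (D'.T ^ (-k).val * repMat D'.ρ g⁻¹).trace = 0 * (Fintype.card G : ℂ) := by
    intro k _
    rw [zero_mul]
    exact sum_trace_mul_trace_eq_zero D.ρ D'.ρ horth _ _
  have key := glaub_numeric hcop hσ F hF D D' 0 hδ
  have : ((p * ∑ β : Cfsg.IrrCharacter F, ∑ lam : Cfsg.IrrCharacter (Multiplicative (ZMod p)),
        glN D F (fun c hc => (hF c).mp hc) β lam * glN D' F (fun c hc => (hF c).mp hc) β lam : ℕ)
        : ℂ) =
      ((∑ β : Cfsg.IrrCharacter F,
        (∑ lam : Cfsg.IrrCharacter (Multiplicative (ZMod p)),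
          glN D F (fun c hc => (hF c).mp hc) β lam) *
        (∑ lam : Cfsg.IrrCharacter (Multiplicative (ZMod p)),
          glN D' F (fun c hc => (hF c).mp hc) β lam) : ℕ) : ℂ) := by
    push_cast
    rw [key]
    ring
  exact_mod_cast this

end Cfsg.Agent.Helper6
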