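import Mathlib
import Cfsg.Prelude.Def_Characters
import Cfsg.Agent.Helper6.GlaubI

/-!
# The Glauberman correspondence for an automorphism of prime order: uniqueness, sign, injectivity
-/

set_option autoImplicit false
set_option linter.style.haveILetI false
set_option linter.unusedSimpArgs false

namespace Cfsg.Agent.Helper6

open Matrix Module Representation
open scoped ComplexConjugate

universe u

variable {G : Type u} [Group G] [Fintype G]

/-- the Glauberman relation: the multiplicity of `β` in the restriction of `χ` is a natural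
number not divisible by `p` -/
def GlaubRel (p : ℕ) (F : Subgroup G) [Fintype F] (χ : G → ℂ) (β : F → ℂ) : Prop :=
  ∃ m : ℕ, Cfsg.classInner (fun c : F => χ (c : G)) β = (m : ℂ) ∧ ¬ p ∣ m

theorem not_dvd_of_modEq_pm {p : ℕ} (hp : p.Prime) {m : ℕ}
    (h : (m : ℤ) ≡ 1 [ZMOD p] ∨ (m : ℤ) ≡ -1 [ZMOD p]) : ¬ p ∣ m := by
  intro hd
  have hd' : (p : ℤ) ∣ (m : ℤ) := by exact_mod_cast hd
  have h0 : (m : ℤ) ≡ 0 [ZMOD p] := (Int.modEq_zero_iff_dvd).mpr hd'
  have h1 : (p : ℤ) ∣ 1 := by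
    rcases h with h | h
    · have := h0.symm.trans h
      have h2 := (Int.modEq_iff_dvd.mp this)
      simpa using h2
    · have := h0.symm.trans h
      have h2 := (Int.modEq_iff_dvd.mp this)
      have h3 : (-1 : ℤ) - 0 = -1 := by ring
      rw [h3] at h2
      exact (dvd_neg).mp h2
  have h2 : (p : ℤ) = 1 ∨ (p : ℤ) = -1 := Int.isUnit_iff.mp (isUnit_of_dvd_one h1)
  have hp1 := hp.one_lt
  rcases h2 with h2 | h2
  · have : p = 1 := by exact_mod_cast h2
    omega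
  · have : (0 : ℤ) ≤ p := Int.natCast_nonneg p
    omega

variable {σ : G ≃* G} {p : ℕ} [hp : Fact p.Prime]

/-- structure of the restriction of an invariant irreducible character to the fixed points -/
theorem glaub_prime_struct (hcop : (Nat.card G).Coprime p) (hσ : ∀ g : G, σ^[p] g = g)
    (F : Subgroup G) [Fintype F] (hF : ∀ g : G, g ∈ F ↔ σ g = g) {χ : G → ℂ}
    (hχ : Cfsg.IsIrrCharacter G χ) (hinv : ∀ g : G, χ (σ g) = χ g) :
    ∃ β₀ : Cfsg.IrrCharacter F,
      (∃ m : ℕ, Cfsg.classInner (fun c : F => χ (c : G)) (β₀ : F → ℂ) = (m : ℂ) ∧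
        ((m : ℤ) ≡ 1 [ZMOD p] ∨ (m : ℤ) ≡ -1 [ZMOD p])) ∧
      ∀ β : Cfsg.IrrCharacter F, β ≠ β₀ →
        ∃ m : ℕ, Cfsg.classInner (fun c : F => χ (c : G)) (β : F → ℂ) = (m : ℂ) ∧ p ∣ m := by
  classical
  haveI : Finite (Cfsg.IrrCharacter F) := irr_finite
  haveI : Fintype (Cfsg.IrrCharacter F) := Fintype.ofFinite _
  haveI : Finite (Cfsg.IrrCharacter (Multiplicative (ZMod p))) := irr_finite
  haveI : Fintype (Cfsg.IrrCharacter (Multiplicative (ZMod p))) := Fintype.ofFinite _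
  obtain ⟨D, hD⟩ := exists_glaubDatum σ p hp.out.pos hσ hχ hinv
  have hFc : ∀ c ∈ F, σ c = c := fun c hc => (hF c).mp hc
  have hnum := glaub_numeric_same hcop hσ F hF D
  have hκ : Fintype.card (Cfsg.IrrCharacter (Multiplicative (ZMod p))) = p := by
    rw [← Nat.card_eq_fintype_card, card_irr_zmod]
  obtain ⟨β₀, h1, h2⟩ := glaub_comb p hp.out hκ (fun β lam => glN D F hFc β lam) hnum
  have hm : ∀ β : Cfsg.IrrCharacter F, Cfsg.classInner (fun c : F => χ (c : G)) (β : F → ℂ) =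
      ((∑ lam : Cfsg.IrrCharacter (Multiplicative (ZMod p)), glN D F hFc β lam : ℕ) : ℂ) := by
    intro β
    rw [← hD, glN_sum D F hFc β]
    push_cast
    rfl
  refine ⟨β₀, ⟨_, hm β₀, h1⟩, ?_⟩
  intro β hβ
  exact ⟨_, hm β, h2 β hβ⟩

/-- existence and uniqueness of the Glauberman correspondent (prime order case) -/
theorem glaub_prime_existsUnique (hcop : (Nat.card G).Coprime p) (hσ : ∀ g : G, σ^[p] g = g)
    (F : Subgroup G) [Fintype F] (hF : ∀ g : G, g ∈ F ↔ σ g = g) {χ : G → ℂ}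
    (hχ : Cfsg.IsIrrCharacter G χ) (hinv : ∀ g : G, χ (σ g) = χ g) :
    ∃! β : Cfsg.IrrCharacter F, GlaubRel p F χ (β : F → ℂ) := by
  obtain ⟨β₀, ⟨m, hm, hpm⟩, h2⟩ := glaub_prime_struct hcop hσ F hF hχ hinv
  refine ⟨β₀, ⟨m, hm, not_dvd_of_modEq_pm hp.out hpm⟩, ?_⟩
  intro β ⟨m', hm', hnd⟩
  by_contra hne
  obtain ⟨m'', hm'', hd⟩ := h2 β hne
  have : m' = m'' := by
    have := hm'.symm.trans hm''
    exact_mod_cast this
  rw [this] at hnd
  exact hnd hd

/-- the multiplicity is `±1` modulo `p` (prime order case) -/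
theorem glaub_prime_pm (hcop : (Nat.card G).Coprime p) (hσ : ∀ g : G, σ^[p] g = g)
    (F : Subgroup G) [Fintype F] (hF : ∀ g : G, g ∈ F ↔ σ g = g) {χ : G → ℂ}
    (hχ : Cfsg.IsIrrCharacter G χ) (hinv : ∀ g : G, χ (σ g) = χ g) (β : Cfsg.IrrCharacter F)
    (m : ℕ) (hm : Cfsg.classInner (fun c : F => χ (c : G)) (β : F → ℂ) = (m : ℂ))
    (hnd : ¬ p ∣ m) : (m : ℤ) ≡ 1 [ZMOD p] ∨ (m : ℤ) ≡ -1 [ZMOD p] := by
  obtain ⟨β₀, ⟨m₀, hm₀, hpm⟩, h2⟩ := glaub_prime_struct hcop hσ F hF hχ hinv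
  by_cases hβ : β = β₀
  · subst hβ
    have : m = m₀ := by
      have := hm.symm.trans hm₀
      exact_mod_cast this
    rw [this]
    exact hpm
  · obtain ⟨m'', hm'', hd⟩ := h2 β hβ
    have : m = m'' := by
      have := hm.symm.trans hm''
      exact_mod_cast this
    rw [this] at hnd
    exact absurd hd hnd

/-- all other multiplicities are divisible by `p` -/
theorem glaub_prime_dvd (hcop : (Nat.card G).Coprime p) (hσ : ∀ g : G, σ^[p] g = g)
    (F : Subgroup G) [Fintype F] (hF : ∀ g : G, g ∈ F ↔ σ g = g) {χ : G → ℂ}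
    (hχ : Cfsg.IsIrrCharacter G χ) (hinv : ∀ g : G, χ (σ g) = χ g) (β : Cfsg.IrrCharacter F)
    (hβ : ¬ GlaubRel p F χ (β : F → ℂ)) :
    ∃ m : ℕ, Cfsg.classInner (fun c : F => χ (c : G)) (β : F → ℂ) = (m : ℂ) ∧ p ∣ m := by
  obtain ⟨β₀, ⟨m₀, hm₀, hpm⟩, h2⟩ := glaub_prime_struct hcop hσ F hF hχ hinv
  by_cases hββ : β = β₀
  · subst hββ
    exact absurd ⟨m₀, hm₀, not_dvd_of_modEq_pm hp.out hpm⟩ hβ
  · exact h2 β hββ

/-- injectivity of the Glauberman map (prime order case) -/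
theorem glaub_prime_inj (hcop : (Nat.card G).Coprime p) (hσ : ∀ g : G, σ^[p] g = g)
    (F : Subgroup G) [Fintype F] (hF : ∀ g : G, g ∈ F ↔ σ g = g) {χ χ' : G → ℂ}
    (hχ : Cfsg.IsIrrCharacter G χ) (hinv : ∀ g : G, χ (σ g) = χ g)
    (hχ' : Cfsg.IsIrrCharacter G χ') (hinv' : ∀ g : G, χ' (σ g) = χ' g)
    (β : Cfsg.IrrCharacter F) (h : GlaubRel p F χ (β : F → ℂ))
    (h' : GlaubRel p F χ' (β : F → ℂ)) : χ = χ' := by
  classical
  by_contra hne
  haveI : Finite (Cfsg.IrrCharacter F) := irr_finite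
  haveI : Fintype (Cfsg.IrrCharacter F) := Fintype.ofFinite _
  haveI : Finite (Cfsg.IrrCharacter (Multiplicative (ZMod p))) := irr_finite
  haveI : Fintype (Cfsg.IrrCharacter (Multiplicative (ZMod p))) := Fintype.ofFinite _
  obtain ⟨D, hD⟩ := exists_glaubDatum σ p hp.out.pos hσ hχ hinv
  obtain ⟨D', hD'⟩ := exists_glaubDatum σ p hp.out.pos hσ hχ' hinv'
  have hFc : ∀ c ∈ F, σ c = c := fun c hc => (hF c).mp hc
  have hnum := glaub_numeric_orth hcop hσ F hF D D' (by rw [hD, hD']; exact hne)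
  set M : Cfsg.IrrCharacter F → ℕ := fun β =>
    ∑ lam : Cfsg.IrrCharacter (Multiplicative (ZMod p)), glN D F hFc β lam with hM
  set M' : Cfsg.IrrCharacter F → ℕ := fun β =>
    ∑ lam : Cfsg.IrrCharacter (Multiplicative (ZMod p)), glN D' F hFc β lam with hM'
  have hm : ∀ β : Cfsg.IrrCharacter F, Cfsg.classInner (fun c : F => χ (c : G)) (β : F → ℂ) =
      (M β : ℂ) := by
    intro β
    rw [← hD, glN_sum D F hFc β, hM]
    push_cast
    rfl
  have hm' : ∀ β : Cfsg.IrrCharacter F, Cfsg.classInner (fun c : F => χ' (c : G)) (β : F → ℂ) =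
      (M' β : ℂ) := by
    intro β
    rw [← hD', glN_sum D' F hFc β, hM']
    push_cast
    rfl
  -- all terms but `β` are divisible by `p`
  have hdvd : ∀ β' : Cfsg.IrrCharacter F, β' ≠ β → p ∣ M β' * M' β' := by
    intro β' hβ'
    have hnot : ¬ GlaubRel p F χ (β' : F → ℂ) := by
      intro hrel
      exact hβ' ((glaub_prime_existsUnique hcop hσ F hF hχ hinv).unique hrel h)
    obtain ⟨m, hm1, hm2⟩ := glaub_prime_dvd hcop hσ F hF hχ hinv β' hnot
    have : m = M β' := by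
      have := hm1.symm.trans (hm β')
      exact_mod_cast this
    rw [← this]
    exact Dvd.dvd.mul_right hm2 _
  have hsum : p ∣ ∑ β' : Cfsg.IrrCharacter F, M β' * M' β' := by
    rw [← hnum]
    exact dvd_mul_right _ _
  rw [← Finset.add_sum_erase Finset.univ _ (Finset.mem_univ β)] at hsum
  have hrest : p ∣ ∑ β' ∈ (Finset.univ : Finset (Cfsg.IrrCharacter F)).erase β, M β' * M' β' :=
    Finset.dvd_sum (fun β' hβ' => hdvd β' (Finset.ne_of_mem_erase hβ'))
  have hβ : p ∣ M β * M' β := (Nat.dvd_add_left hrest).mp hsum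
  obtain ⟨m, hm1, hm2⟩ := h
  obtain ⟨m', hm1', hm2'⟩ := h'
  have e1 : m = M β := by
    have := hm1.symm.trans (hm β)
    exact_mod_cast this
  have e2 : m' = M' β := by
    have := hm1'.symm.trans (hm' β)
    exact_mod_cast this
  rcases (Nat.Prime.dvd_mul hp.out).mp hβ with h3 | h3
  · exact hm2 (e1 ▸ h3)
  · exact hm2' (e2 ▸ h3)

end Cfsg.Agent.Helper6
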