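import Mathlib
import Cfsg.Agent.Helper6.ColumnOrth

/-!
# Invariant conjugacy classes under a coprime `p`-group of automorphisms
-/

set_option autoImplicit false
set_option linter.style.haveILetI false
set_option linter.unusedSimpArgs false

namespace Cfsg.Agent.Helper6

universe u

variable {G : Type u} [Group G]

theorem conjClasses_map_mk' {H : Type*} [Group H] (f : G →* H) (g : G) :
    ConjClasses.map f (ConjClasses.mk g) = ConjClasses.mk (f g) := rfl

/-- A `p`-group of automorphisms stabilizing a finite subset of size prime to `p` fixes a point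
of it. -/
theorem exists_fixed_mem_of_pgroup {p : ℕ} [Fact p.Prime] (A : Subgroup (MulAut G))
    (hA : IsPGroup p A) (S : Set G) (hS : ∀ a ∈ A, ∀ g ∈ S, a g ∈ S)
    (hcard : ¬ p ∣ Nat.card S) : ∃ g ∈ S, ∀ a ∈ A, a g = g := by
  let X : SubMulAction A G :=
    { carrier := S
      smul_mem' := fun a g hg => hS a.1 a.2 g hg }
  have hcard' : ¬ p ∣ Nat.card X := hcard
  obtain ⟨x, hx⟩ := hA.nonempty_fixed_point_of_prime_not_dvd_card X hcard'
  refine ⟨x.1, x.2, ?_⟩
  intro a ha
  have := hx ⟨a, ha⟩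
  exact congrArg Subtype.val this

/-- Two fixed points conjugate in the group are conjugate by a fixed point. -/
theorem exists_fixed_conj {p : ℕ} [Fact p.Prime] [Finite G] (A : Subgroup (MulAut G))
    (hA : IsPGroup p A) (hcop : ¬ p ∣ Nat.card G) {c c' : G} (hc : ∀ a ∈ A, a c = c)
    (hc' : ∀ a ∈ A, a c' = c') (hconj : IsConj c c') :
    ∃ x : G, (∀ a ∈ A, a x = x) ∧ x * c * x⁻¹ = c' := by
  obtain ⟨h, hh⟩ := isConj_iff.mp hconj
  set S : Set G := {x | x * c * x⁻¹ = c'} with hS
  have hstab : ∀ a ∈ A, ∀ g ∈ S, a g ∈ S := by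
    intro a ha g hg
    simp only [hS, Set.mem_ofPred_eq] at hg ⊢
    have := congrArg a hg
    rw [map_mul, map_mul, map_inv, hc a ha, hc' a ha] at this
    exact this
  have hcard : Nat.card S = Nat.card (Subgroup.centralizer ({c} : Set G)) := by
    apply Nat.card_congr
    refine ⟨fun x => ⟨h⁻¹ * x.1, ?_⟩, fun d => ⟨h * d.1, ?_⟩, ?_, ?_⟩
    · rw [Subgroup.mem_centralizer_iff]
      intro y hy
      rw [Set.mem_singleton_iff] at hy
      subst hy
      have hx : x.1 * y * x.1⁻¹ = c' := x.2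
      have : x.1 * y * x.1⁻¹ = h * y * h⁻¹ := hx.trans hh.symm
      calc y * (h⁻¹ * x.1) = h⁻¹ * (h * y * h⁻¹) * x.1 := by group
        _ = h⁻¹ * (x.1 * y * x.1⁻¹) * x.1 := by rw [this]
        _ = h⁻¹ * x.1 * y := by group
    · have hd := (Subgroup.mem_centralizer_iff.mp d.2) c (Set.mem_singleton c)
      simp only [hS, Set.mem_ofPred_eq]
      calc h * d.1 * c * (h * d.1)⁻¹ = h * (d.1 * c) * d.1⁻¹ * h⁻¹ := by group
        _ = h * (c * d.1) * d.1⁻¹ * h⁻¹ := by rw [hd]
        _ = h * c * h⁻¹ := by group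
        _ = c' := hh
    · intro x
      apply Subtype.ext
      simp
    · intro d
      apply Subtype.ext
      simp
  have hnd : ¬ p ∣ Nat.card S := by
    rw [hcard]
    intro hd
    exact hcop (hd.trans (Subgroup.card_subgroup_dvd_card _))
  obtain ⟨x, hx, hfix⟩ := exists_fixed_mem_of_pgroup A hA S hstab hnd
  exact ⟨x, hfix, hx⟩

/-- An invariant conjugacy class contains a fixed point. -/
theorem exists_fixed_in_class {p : ℕ} [Fact p.Prime] [Finite G] (A : Subgroup (MulAut G))
    (hA : IsPGroup p A) (hcop : ¬ p ∣ Nat.card G) (K : ConjClasses G)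
    (hK : ∀ a ∈ A, ConjClasses.map (a : G ≃* G).toMonoidHom K = K) :
    ∃ g : G, (∀ a ∈ A, a g = g) ∧ ConjClasses.mk g = K := by
  obtain ⟨g₀, hg₀⟩ := ConjClasses.exists_rep K
  set S : Set G := K.carrier with hS
  have hstab : ∀ a ∈ A, ∀ g ∈ S, a g ∈ S := by
    intro a ha g hg
    rw [hS, ConjClasses.mem_carrier_iff_mk_eq] at hg ⊢
    have := hK a ha
    rw [← hg] at this
    rw [← hg]
    exact this
  have hcard : Nat.card S = Nat.card {x : G // IsConj g₀ x} := by
    apply Nat.card_congr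
    refine Equiv.subtypeEquivRight ?_
    intro x
    rw [hS, ConjClasses.mem_carrier_iff_mk_eq, ← hg₀, ConjClasses.mk_eq_mk_iff_isConj]
    exact ⟨fun h => h.symm, fun h => h.symm⟩
  have hnd : ¬ p ∣ Nat.card S := by
    rw [hcard]
    intro hd
    apply hcop
    rw [← card_conj_mul_card_centralizer g₀]
    exact Dvd.dvd.mul_right hd _
  obtain ⟨x, hx, hfix⟩ := exists_fixed_mem_of_pgroup A hA S hstab hnd
  refine ⟨x, hfix, ?_⟩
  rwa [hS, ConjClasses.mem_carrier_iff_mk_eq] at hx

/-- The invariant classes of `G` are in bijection with the classes of the fixed subgroup. -/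
theorem card_invariant_classes {p : ℕ} [Fact p.Prime] [Finite G] (A : Subgroup (MulAut G))
    (hA : IsPGroup p A) (hcop : ¬ p ∣ Nat.card G) (C : Subgroup G)
    (hC : ∀ g : G, g ∈ C ↔ ∀ a ∈ A, a g = g) :
    Nat.card {K : ConjClasses G // ∀ a ∈ A, ConjClasses.map (a : G ≃* G).toMonoidHom K = K} =
      Nat.card (ConjClasses C) := by
  symm
  apply Nat.card_congr
  refine Equiv.ofBijective (fun L => ⟨ConjClasses.map C.subtype L, ?_⟩) ⟨?_, ?_⟩
  · intro a ha
    obtain ⟨c, rfl⟩ := ConjClasses.exists_rep L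
    rw [conjClasses_map_mk', conjClasses_map_mk']
    congr 1
    exact (hC c.1).mp c.2 a ha
  · intro L L' hLL
    obtain ⟨c, rfl⟩ := ConjClasses.exists_rep L
    obtain ⟨c', rfl⟩ := ConjClasses.exists_rep L'
    have h1 := congrArg Subtype.val hLL
    simp only [conjClasses_map_mk'] at h1
    rw [ConjClasses.mk_eq_mk_iff_isConj] at h1 ⊢
    obtain ⟨x, hx, hxc⟩ := exists_fixed_conj A hA hcop ((hC c.1).mp c.2) ((hC c'.1).mp c'.2) h1
    rw [isConj_iff]
    refine ⟨⟨x, (hC x).mpr hx⟩, ?_⟩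
    apply Subtype.ext
    exact hxc
  · rintro ⟨K, hK⟩
    obtain ⟨g, hg, hgK⟩ := exists_fixed_in_class A hA hcop K hK
    refine ⟨ConjClasses.mk ⟨g, (hC g).mpr hg⟩, ?_⟩
    apply Subtype.ext
    simp only [conjClasses_map_mk']
    exact hgK

end Cfsg.Agent.Helper6
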