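import Mathlib
import Cfsg.Prelude.Def_Characters
import Cfsg.Agent.Helper6.GlaubJ
import Cfsg.Agent.Helper6.GlaubK
import Cfsg.Agent.Helper6.BrauerPerm2

/-!
# The Glauberman correspondence for an automorphism of prime order: surjectivity
-/

set_option autoImplicit false
set_option linter.style.haveILetI false
set_option linter.unusedSimpArgs false

namespace Cfsg.Agent.Helper6

open scoped ComplexConjugate

universe u

variable {G : Type u} [Group G]

theorem mulAut_pow_apply (σ : MulAut G) (n : ℕ) (g : G) : (σ ^ n) g = (σ : G → G)^[n] g := by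
  induction n generalizing g with
  | zero => rfl
  | succ n ih =>
    rw [pow_succ, MulAut.mul_apply, ih, Function.iterate_succ_apply]

/-- the stabilizer of a conjugacy class in the automorphism group -/
def classStabilizer (K : ConjClasses G) : Subgroup (MulAut G) where
  carrier := {a | ConjClasses.map (a : G ≃* G).toMonoidHom K = K}
  mul_mem' := by
    intro a b ha hb
    simp only [Set.mem_ofPred_eq] at ha hb ⊢
    have : ConjClasses.map ((a * b : MulAut G) : G ≃* G).toMonoidHom K =
        ConjClasses.map (a : G ≃* G).toMonoidHom (ConjClasses.map (b : G ≃* G).toMonoidHom K) := by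
      obtain ⟨g, rfl⟩ := ConjClasses.exists_rep K
      rfl
    rw [this, hb, ha]
  one_mem' := by
    simp only [Set.mem_ofPred_eq]
    obtain ⟨g, rfl⟩ := ConjClasses.exists_rep K
    rfl
  inv_mem' := by
    intro a ha
    simp only [Set.mem_ofPred_eq] at ha ⊢
    have : ConjClasses.map ((a⁻¹ : MulAut G) : G ≃* G).toMonoidHom
        (ConjClasses.map (a : G ≃* G).toMonoidHom K) = K := by
      obtain ⟨g, rfl⟩ := ConjClasses.exists_rep K
      rw [conjClasses_map_mk', conjClasses_map_mk']
      congr 1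
      exact (a : G ≃* G).symm_apply_apply g
    rw [ha] at this
    exact this

theorem mem_classStabilizer (K : ConjClasses G) (a : MulAut G) :
    a ∈ classStabilizer K ↔ ConjClasses.map (a : G ≃* G).toMonoidHom K = K := Iff.rfl

variable [Fintype G] {σ : G ≃* G} {p : ℕ} [hp : Fact p.Prime]

omit [Fintype G] hp in
theorem isPGroup_zpowers_of_iterate (hσ : ∀ g : G, σ^[p] g = g) :
    IsPGroup p (Subgroup.zpowers (σ : MulAut G)) := by
  have hσp : (σ : MulAut G) ^ p = 1 := by
    apply MulEquiv.ext
    intro g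
    rw [mulAut_pow_apply]
    exact hσ g
  intro a
  refine ⟨1, ?_⟩
  obtain ⟨a, ha⟩ := a
  obtain ⟨n, rfl⟩ := Subgroup.mem_zpowers_iff.mp ha
  apply Subtype.ext
  rw [pow_one, Subgroup.coe_pow, Subgroup.coe_one, ← zpow_natCast, ← zpow_mul, mul_comm, zpow_mul,
    zpow_natCast, hσp, one_zpow]

/-- the number of invariant irreducible characters is the number of irreducible characters of
the fixed subgroup -/
theorem card_invariant_irr_prime (hcop : (Nat.card G).Coprime p) (hσ : ∀ g : G, σ^[p] g = g)
    (F : Subgroup G) (hF : ∀ g : G, g ∈ F ↔ σ g = g) :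
    Nat.card {χ : Cfsg.IrrCharacter G // (χ : G → ℂ) ∘ σ = (χ : G → ℂ)} =
      Nat.card (Cfsg.IrrCharacter F) := by
  rw [← card_fixed_classes_eq_card_fixed_irr σ, card_irr_eq_card_conjClasses]
  have hA := isPGroup_zpowers_of_iterate (σ := σ) (p := p) hσ
  have hnd : ¬ p ∣ Nat.card G := by
    intro hd
    have := Nat.Coprime.eq_one_of_dvd hcop.symm hd
    exact hp.out.one_lt.ne' this
  have hC : ∀ g : G, g ∈ F ↔ ∀ a ∈ Subgroup.zpowers (σ : MulAut G), a g = g := by
    intro g
    rw [hF]
    constructor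
    · intro h a ha
      have hle : Subgroup.zpowers (σ : MulAut G) ≤ MulAction.stabilizer (MulAut G) g := by
        rw [Subgroup.zpowers_le, MulAction.mem_stabilizer_iff]
        exact h
      exact hle ha
    · intro h
      exact h σ (Subgroup.mem_zpowers _)
  rw [← card_invariant_classes (Subgroup.zpowers (σ : MulAut G)) hA hnd F hC]
  apply Nat.card_congr
  refine Equiv.subtypeEquivRight ?_
  intro K
  constructor
  · intro h a ha
    have hle : Subgroup.zpowers (σ : MulAut G) ≤ classStabilizer K := by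
      rw [Subgroup.zpowers_le, mem_classStabilizer]
      exact h
    exact hle ha
  · intro h
    exact h σ (Subgroup.mem_zpowers _)

/-- surjectivity of the Glauberman map (prime order case) -/
theorem glaub_prime_surj (hcop : (Nat.card G).Coprime p) (hσ : ∀ g : G, σ^[p] g = g)
    (F : Subgroup G) [Fintype F] (hF : ∀ g : G, g ∈ F ↔ σ g = g) (β : Cfsg.IrrCharacter F) :
    ∃ χ : G → ℂ, Cfsg.IsIrrCharacter G χ ∧ (∀ g : G, χ (σ g) = χ g) ∧
      GlaubRel p F χ (β : F → ℂ) := by
  classical
  haveI : Finite (Cfsg.IrrCharacter F) := irr_finite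
  haveI : Finite (Cfsg.IrrCharacter G) := irr_finite
  have hinvOf : ∀ χ : {χ : Cfsg.IrrCharacter G // (χ : G → ℂ) ∘ σ = (χ : G → ℂ)},
      ∀ g : G, (χ.1 : G → ℂ) (σ g) = (χ.1 : G → ℂ) g := fun χ g => congrFun χ.2 g
  let f : {χ : Cfsg.IrrCharacter G // (χ : G → ℂ) ∘ σ = (χ : G → ℂ)} → Cfsg.IrrCharacter F :=
    fun χ => Classical.choose (glaub_prime_existsUnique hcop hσ F hF χ.1.2 (hinvOf χ)).exists
  have hf : ∀ χ, GlaubRel p F (χ.1 : G → ℂ) (f χ : F → ℂ) := fun χ =>
    Classical.choose_spec (glaub_prime_existsUnique hcop hσ F hF χ.1.2 (hinvOf χ)).exists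
  have hinj : Function.Injective f := by
    intro χ χ' h
    apply Subtype.ext
    apply Subtype.ext
    have h1 := hf χ
    have h2 := hf χ'
    rw [h] at h1
    exact glaub_prime_inj hcop hσ F hF χ.1.2 (hinvOf χ) χ'.1.2 (hinvOf χ') (f χ') h1 h2
  have hbij := hinj.bijective_of_nat_card_le (card_invariant_irr_prime hcop hσ F hF).ge
  obtain ⟨χ, hχ⟩ := hbij.2 β
  refine ⟨χ.1, χ.1.2, hinvOf χ, ?_⟩
  rw [← hχ]
  exact hf χ

end Cfsg.Agent.Helper6
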