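import Mathlib
import Cfsg.Prelude.Def_Characters
import Cfsg.Agent.Helper6.GlaubL
import Cfsg.Agent.Helper6.Constituent

/-!
# The Glauberman statement along an embedding; the prime order case
-/

set_option autoImplicit false
set_option linter.style.haveILetI false
set_option linter.unusedSimpArgs false

namespace Cfsg.Agent.Helper6

open scoped ComplexConjugate

universe u

variable {G : Type u} [Group G] [Fintype G] {K : Type u} [Group K] [Fintype K]

/-- invariance of a function under a set of automorphisms -/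
def InvUnder (S : Set (MulAut G)) (χ : G → ℂ) : Prop := ∀ a ∈ S, ∀ g : G, χ (a g) = χ g

/-- the Glauberman relation along an embedding -/
def GlaubRelHom (p : ℕ) (ι : K →* G) (χ : G → ℂ) (β : K → ℂ) : Prop :=
  ∃ m : ℕ, Cfsg.classInner (χ ∘ ι) β = (m : ℂ) ∧ ¬ p ∣ m

/-- The full statement of the Glauberman correspondence for a set `S` of automorphisms, the
"fixed points" being given through a homomorphism `ι`. -/
def GlaubStatement (p : ℕ) (S : Set (MulAut G)) (ι : K →* G) : Prop :=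
  (∀ χ : G → ℂ, Cfsg.IsIrrCharacter G χ → InvUnder S χ →
    ∃ β₀ : Cfsg.IrrCharacter K,
      (∃ m : ℕ, Cfsg.classInner (χ ∘ ι) (β₀ : K → ℂ) = (m : ℂ) ∧
        ((m : ℤ) ≡ 1 [ZMOD p] ∨ (m : ℤ) ≡ -1 [ZMOD p])) ∧
      ∀ β : Cfsg.IrrCharacter K, β ≠ β₀ →
        ∃ m : ℕ, Cfsg.classInner (χ ∘ ι) (β : K → ℂ) = (m : ℂ) ∧ p ∣ m) ∧
  (∀ χ χ' : G → ℂ, Cfsg.IsIrrCharacter G χ → InvUnder S χ → Cfsg.IsIrrCharacter G χ' →
    InvUnder S χ' → ∀ β : Cfsg.IrrCharacter K, GlaubRelHom p ι χ (β : K → ℂ) →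
      GlaubRelHom p ι χ' (β : K → ℂ) → χ = χ') ∧
  (∀ β : Cfsg.IrrCharacter K, ∃ χ : G → ℂ, Cfsg.IsIrrCharacter G χ ∧ InvUnder S χ ∧
    GlaubRelHom p ι χ (β : K → ℂ))

omit [Fintype G] in
theorem classInner_hom_eq (ι : K →* G) (hinj : Function.Injective ι) [Fintype ι.range]
    (χ : G → ℂ) (β : K → ℂ) :
    Cfsg.classInner (χ ∘ ι) β =
      Cfsg.classInner (fun c : ι.range => χ (c : G)) (β ∘ (MonoidHom.ofInjective hinj).symm) := by
  rw [← classInner_comp_equiv' (MonoidHom.ofInjective hinj).toEquiv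
    (fun c : ι.range => χ (c : G)) (β ∘ (MonoidHom.ofInjective hinj).symm)]
  congr 1
  funext k
  simp

/-- the prime order case, along an embedding -/
theorem glaubStatement_prime {p : ℕ} [hp : Fact p.Prime] (σ : G ≃* G)
    (hcop : (Nat.card G).Coprime p) (hσ : ∀ g : G, σ^[p] g = g) (ι : K →* G)
    (hinj : Function.Injective ι) (hι : ∀ g : G, g ∈ ι.range ↔ σ g = g) :
    GlaubStatement p ({(σ : MulAut G)} : Set (MulAut G)) ι := by
  classical
  haveI : Fintype ι.range := Fintype.ofFinite _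
  set e := MonoidHom.ofInjective hinj with he
  have hinvσ : ∀ χ : G → ℂ, InvUnder ({(σ : MulAut G)} : Set (MulAut G)) χ →
      ∀ g : G, χ (σ g) = χ g := fun χ h g => h σ (Set.mem_singleton _) g
  have hirrF : ∀ β : Cfsg.IrrCharacter K, Cfsg.IsIrrCharacter ι.range ((β : K → ℂ) ∘ e.symm) :=
    fun β => IsIrrCharacter.comp_mulEquiv e.symm β.2
  have hrel : ∀ (χ : G → ℂ) (β : Cfsg.IrrCharacter K), GlaubRelHom p ι χ (β : K → ℂ) →
      GlaubRel p ι.range χ ((β : K → ℂ) ∘ e.symm) := by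
    rintro χ β ⟨m, hm, hnd⟩
    refine ⟨m, ?_, hnd⟩
    rw [← hm, classInner_hom_eq ι hinj]
  refine ⟨?_, ?_, ?_⟩
  · intro χ hχ hinv
    obtain ⟨β₀', ⟨m, hm, hpm⟩, h2⟩ := glaub_prime_struct hcop hσ ι.range hι hχ (hinvσ χ hinv)
    have hβ₀ : Cfsg.IsIrrCharacter K ((β₀' : ι.range → ℂ) ∘ e) :=
      IsIrrCharacter.comp_mulEquiv e β₀'.2
    have hcomp : ((β₀' : ι.range → ℂ) ∘ e) ∘ e.symm = (β₀' : ι.range → ℂ) := by
      funext c
      simp
    refine ⟨⟨_, hβ₀⟩, ⟨m, ?_, hpm⟩, ?_⟩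
    · rw [classInner_hom_eq ι hinj]
      change Cfsg.classInner _ (((β₀' : ι.range → ℂ) ∘ e) ∘ e.symm) = _
      rw [hcomp, hm]
    · intro β hβ
      have hne : (⟨(β : K → ℂ) ∘ e.symm, hirrF β⟩ : Cfsg.IrrCharacter ι.range) ≠ β₀' := by
        intro h
        apply hβ
        apply Subtype.ext
        have h' := congrArg Subtype.val h
        simp only at h'
        change (β : K → ℂ) = (β₀' : ι.range → ℂ) ∘ e
        rw [← h']
        funext k
        simp
      obtain ⟨m', hm', hd⟩ := h2 _ hne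
      refine ⟨m', ?_, hd⟩
      rw [classInner_hom_eq ι hinj]
      exact hm'
  · intro χ χ' hχ hinv hχ' hinv' β h h'
    exact glaub_prime_inj hcop hσ ι.range hι hχ (hinvσ χ hinv) hχ' (hinvσ χ' hinv')
      ⟨_, hirrF β⟩ (hrel χ β h) (hrel χ' β h')
  · intro β
    obtain ⟨χ, hχ, hinv, m, hm, hnd⟩ := glaub_prime_surj hcop hσ ι.range hι ⟨_, hirrF β⟩
    refine ⟨χ, hχ, ?_, m, ?_, hnd⟩
    · intro a ha g
      rw [Set.mem_singleton_iff] at ha
      subst ha
      exact hinv g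
    · rw [classInner_hom_eq ι hinj]
      exact hm

end Cfsg.Agent.Helper6
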