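import Mathlib
import Cfsg.Prelude.Def_Characters
import Cfsg.Agent.Helper6.GlaubM

/-!
# Composition of Glauberman statements
-/

set_option autoImplicit false
set_option linter.style.haveILetI false
set_option linter.unusedSimpArgs false

namespace Cfsg.Agent.Helper6

open scoped ComplexConjugate

universe u

variable {G : Type u} [Group G] [Fintype G] {H : Type u} [Group H] [Fintype H]
  {K : Type u} [Group K] [Fintype K]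

omit [Fintype G] [Fintype H] in
/-- transitivity of restriction multiplicities -/
theorem classInner_comp_expand [Fintype H] [Fintype (Cfsg.IrrCharacter H)] (φ : H → ℂ)
    (hφ : Cfsg.IsClassFunction H φ) (ι₂ : K →* H) (β : K → ℂ) :
    Cfsg.classInner (φ ∘ ι₂) β = ∑ ψ : Cfsg.IrrCharacter H,
      Cfsg.classInner φ (ψ : H → ℂ) * Cfsg.classInner ((ψ : H → ℂ) ∘ ι₂) β := by
  have h1 : φ ∘ ι₂ = ∑ ψ : Cfsg.IrrCharacter H,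
      Cfsg.classInner φ (ψ : H → ℂ) • ((ψ : H → ℂ) ∘ ι₂) := by
    funext k
    have := congrFun (classFunction_expansion φ hφ) (ι₂ k)
    rw [Finset.sum_apply] at this ⊢
    exact this
  rw [h1, classInner_sum_left]
  apply Finset.sum_congr rfl
  intro ψ _
  rw [classInner_smul_left]

omit [Fintype G] in
/-- the multiplicity in a two-step restriction, modulo `p` -/
theorem glaub_comp_congr {p : ℕ} (ι₁ : H →* G) (ι₂ : K →* H) {χ : G → ℂ}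
    (hχ : Cfsg.IsCharacter G χ) (ψ₀ : Cfsg.IrrCharacter H) (m₀ : ℕ)
    (hm₀ : Cfsg.classInner (χ ∘ ι₁) (ψ₀ : H → ℂ) = (m₀ : ℂ))
    (hothers : ∀ ψ : Cfsg.IrrCharacter H, ψ ≠ ψ₀ →
      ∃ m : ℕ, Cfsg.classInner (χ ∘ ι₁) (ψ : H → ℂ) = (m : ℂ) ∧ p ∣ m)
    {β : K → ℂ} (hβ : Cfsg.IsCharacter K β) (n : ℕ)
    (hn : Cfsg.classInner ((ψ₀ : H → ℂ) ∘ ι₂) β = (n : ℂ)) :
    ∃ m : ℕ, Cfsg.classInner (χ ∘ (ι₁.comp ι₂)) β = (m : ℂ) ∧ m ≡ m₀ * n [MOD p] := by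
  classical
  haveI : Finite (Cfsg.IrrCharacter H) := irr_finite
  haveI : Fintype (Cfsg.IrrCharacter H) := Fintype.ofFinite _
  have hχH : Cfsg.IsCharacter H (χ ∘ ι₁) := IsCharacter.comp_hom ι₁ hχ
  have hM : ∀ ψ : Cfsg.IrrCharacter H, ∃ M : ℕ,
      Cfsg.classInner (χ ∘ ι₁) (ψ : H → ℂ) = (M : ℂ) ∧ (ψ ≠ ψ₀ → p ∣ M) := by
    intro ψ
    by_cases hψ : ψ = ψ₀
    · subst hψ
      exact ⟨m₀, hm₀, fun h => absurd rfl h⟩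
    · obtain ⟨m, hm, hd⟩ := hothers ψ hψ
      exact ⟨m, hm, fun _ => hd⟩
  choose M hM1 hM2 using hM
  have hN : ∀ ψ : Cfsg.IrrCharacter H, ∃ N : ℕ,
      Cfsg.classInner ((ψ : H → ℂ) ∘ ι₂) β = (N : ℂ) := fun ψ =>
    classInner_char_char_nat (IsCharacter.comp_hom ι₂ (IsIrrCharacter.isCharacter ψ.2)) hβ
  choose N hN1 using hN
  have hexp := classInner_comp_expand (χ ∘ ι₁) (IsCharacter.isClassFunction hχH) ι₂ β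
  have hcomp : χ ∘ (ι₁.comp ι₂) = (χ ∘ ι₁) ∘ ι₂ := rfl
  refine ⟨∑ ψ : Cfsg.IrrCharacter H, M ψ * N ψ, ?_, ?_⟩
  · rw [hcomp, hexp]
    push_cast
    apply Finset.sum_congr rfl
    intro ψ _
    rw [hM1, hN1]
  · have hM0 : M ψ₀ = m₀ := by
      have := (hM1 ψ₀).symm.trans hm₀
      exact_mod_cast this
    have hN0 : N ψ₀ = n := by
      have := (hN1 ψ₀).symm.trans hn
      exact_mod_cast this
    rw [← Finset.add_sum_erase Finset.univ _ (Finset.mem_univ ψ₀), hM0, hN0]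
    have hrest : p ∣ ∑ ψ ∈ (Finset.univ : Finset (Cfsg.IrrCharacter H)).erase ψ₀, M ψ * N ψ :=
      Finset.dvd_sum (fun ψ hψ => Dvd.dvd.mul_right (hM2 ψ (Finset.ne_of_mem_erase hψ)) _)
    obtain ⟨c, hc⟩ := hrest
    rw [hc]
    unfold Nat.ModEq
    rw [Nat.add_mul_mod_self_left]

omit [Fintype G] in
/-- from the structure clause: a Glauberman correspondent is the distinguished constituent -/
theorem glaubRel_unique {p : ℕ} (ι : K →* G) {χ : G → ℂ} (β₀ : Cfsg.IrrCharacter K)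
    (h2 : ∀ β : Cfsg.IrrCharacter K, β ≠ β₀ →
        ∃ m : ℕ, Cfsg.classInner (χ ∘ ι) (β : K → ℂ) = (m : ℂ) ∧ p ∣ m)
    (β : Cfsg.IrrCharacter K) (hβ : GlaubRelHom p ι χ (β : K → ℂ)) : β = β₀ := by
  by_contra hne
  obtain ⟨m, hm, hnd⟩ := hβ
  obtain ⟨m', hm', hd⟩ := h2 β hne
  have : m = m' := by
    have := hm.symm.trans hm'
    exact_mod_cast this
  rw [this] at hnd
  exact hnd hd

theorem modEq_pm_mul {p : ℕ} {a b c : ℕ} (ha : (a : ℤ) ≡ 1 [ZMOD p] ∨ (a : ℤ) ≡ -1 [ZMOD p])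
    (hb : (b : ℤ) ≡ 1 [ZMOD p] ∨ (b : ℤ) ≡ -1 [ZMOD p]) (hc : c ≡ a * b [MOD p]) :
    (c : ℤ) ≡ 1 [ZMOD p] ∨ (c : ℤ) ≡ -1 [ZMOD p] := by
  have hc' : (c : ℤ) ≡ (a : ℤ) * (b : ℤ) [ZMOD p] := by
    have := (Int.natCast_modEq_iff).mpr hc
    push_cast at this
    exact this
  rcases ha with ha | ha <;> rcases hb with hb | hb
  · left
    have := hc'.trans (ha.mul hb)
    simpa using this
  · right
    have := hc'.trans (ha.mul hb)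
    simpa using this
  · right
    have := hc'.trans (ha.mul hb)
    simpa using this
  · left
    have := hc'.trans (ha.mul hb)
    simpa using this

omit [Fintype G] in
/-- detailed structure of the composite correspondence -/
theorem glaub_comp_struct {p : ℕ} [hp : Fact p.Prime] (S₁ S : Set (MulAut G))
    (S₂ : Set (MulAut H)) (ι₁ : H →* G) (ι₂ : K →* H) (St₁ : GlaubStatement p S₁ ι₁)
    (St₂ : GlaubStatement p S₂ ι₂) (hsub : ∀ χ : G → ℂ, InvUnder S χ → InvUnder S₁ χ)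
    (hE1 : ∀ χ : G → ℂ, Cfsg.IsIrrCharacter G χ → InvUnder S χ → ∀ ψ : Cfsg.IrrCharacter H,
      GlaubRelHom p ι₁ χ (ψ : H → ℂ) → InvUnder S₂ (ψ : H → ℂ))
    {χ : G → ℂ} (hχ : Cfsg.IsIrrCharacter G χ) (hinv : InvUnder S χ) :
    ∃ (ψ₀ : Cfsg.IrrCharacter H) (β₀ : Cfsg.IrrCharacter K),
      GlaubRelHom p ι₁ χ (ψ₀ : H → ℂ) ∧ InvUnder S₂ (ψ₀ : H → ℂ) ∧
      GlaubRelHom p ι₂ (ψ₀ : H → ℂ) (β₀ : K → ℂ) ∧
      (∃ m : ℕ, Cfsg.classInner (χ ∘ (ι₁.comp ι₂)) (β₀ : K → ℂ) = (m : ℂ) ∧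
        ((m : ℤ) ≡ 1 [ZMOD p] ∨ (m : ℤ) ≡ -1 [ZMOD p])) ∧
      ∀ β : Cfsg.IrrCharacter K, β ≠ β₀ →
        ∃ m : ℕ, Cfsg.classInner (χ ∘ (ι₁.comp ι₂)) (β : K → ℂ) = (m : ℂ) ∧ p ∣ m := by
  obtain ⟨ψ₀, ⟨m₀, hm₀, hpm₀⟩, hoth⟩ := St₁.1 χ hχ (hsub χ hinv)
  have hrel₁ : GlaubRelHom p ι₁ χ (ψ₀ : H → ℂ) := ⟨m₀, hm₀, not_dvd_of_modEq_pm hp.out hpm₀⟩
  have hinvψ : InvUnder S₂ (ψ₀ : H → ℂ) := hE1 χ hχ hinv ψ₀ hrel₁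
  obtain ⟨β₀, ⟨n₀, hn₀, hpn₀⟩, hoth₂⟩ := St₂.1 (ψ₀ : H → ℂ) ψ₀.2 hinvψ
  have hrel₂ : GlaubRelHom p ι₂ (ψ₀ : H → ℂ) (β₀ : K → ℂ) :=
    ⟨n₀, hn₀, not_dvd_of_modEq_pm hp.out hpn₀⟩
  refine ⟨ψ₀, β₀, hrel₁, hinvψ, hrel₂, ?_, ?_⟩
  · obtain ⟨m, hm, hmod⟩ := glaub_comp_congr ι₁ ι₂ (IsIrrCharacter.isCharacter hχ) ψ₀ m₀ hm₀ hoth
      (IsIrrCharacter.isCharacter β₀.2) n₀ hn₀
    exact ⟨m, hm, modEq_pm_mul hpm₀ hpn₀ hmod⟩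
  · intro β hβ
    obtain ⟨n, hn, hd⟩ := hoth₂ β hβ
    obtain ⟨m, hm, hmod⟩ := glaub_comp_congr ι₁ ι₂ (IsIrrCharacter.isCharacter hχ) ψ₀ m₀ hm₀ hoth
      (IsIrrCharacter.isCharacter β.2) n hn
    refine ⟨m, hm, ?_⟩
    have h0 : m₀ * n ≡ 0 [MOD p] := (Nat.modEq_zero_iff_dvd).mpr (Dvd.dvd.mul_left hd _)
    exact (Nat.modEq_zero_iff_dvd).mp (hmod.trans h0)

omit [Fintype G] in
/-- composition of Glauberman statements -/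
theorem glaubStatement_comp {p : ℕ} [hp : Fact p.Prime] (S₁ S : Set (MulAut G))
    (S₂ : Set (MulAut H)) (ι₁ : H →* G) (ι₂ : K →* H) (St₁ : GlaubStatement p S₁ ι₁)
    (St₂ : GlaubStatement p S₂ ι₂) (hsub : ∀ χ : G → ℂ, InvUnder S χ → InvUnder S₁ χ)
    (hE1 : ∀ χ : G → ℂ, Cfsg.IsIrrCharacter G χ → InvUnder S χ → ∀ ψ : Cfsg.IrrCharacter H,
      GlaubRelHom p ι₁ χ (ψ : H → ℂ) → InvUnder S₂ (ψ : H → ℂ))
    (hE2 : ∀ χ : G → ℂ, Cfsg.IsIrrCharacter G χ → InvUnder S₁ χ → ∀ ψ : Cfsg.IrrCharacter H,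
      InvUnder S₂ (ψ : H → ℂ) → GlaubRelHom p ι₁ χ (ψ : H → ℂ) → InvUnder S χ) :
    GlaubStatement p S (ι₁.comp ι₂) := by
  refine ⟨?_, ?_, ?_⟩
  · intro χ hχ hinv
    obtain ⟨ψ₀, β₀, -, -, -, h4, h5⟩ := glaub_comp_struct S₁ S S₂ ι₁ ι₂ St₁ St₂ hsub hE1 hχ hinv
    exact ⟨β₀, h4, h5⟩
  · intro χ χ' hχ hinv hχ' hinv' β hβ hβ'
    obtain ⟨ψ₀, β₀, h1, h2, h3, h4, h5⟩ :=
      glaub_comp_struct S₁ S S₂ ι₁ ι₂ St₁ St₂ hsub hE1 hχ hinv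
    obtain ⟨ψ₀', β₀', h1', h2', h3', h4', h5'⟩ :=
      glaub_comp_struct S₁ S S₂ ι₁ ι₂ St₁ St₂ hsub hE1 hχ' hinv'
    have e1 : β = β₀ := glaubRel_unique (ι₁.comp ι₂) β₀ h5 β hβ
    have e2 : β = β₀' := glaubRel_unique (ι₁.comp ι₂) β₀' h5' β hβ'
    rw [← e1] at h3
    rw [← e2] at h3'
    have e3 : (ψ₀ : H → ℂ) = (ψ₀' : H → ℂ) := St₂.2.1 _ _ ψ₀.2 h2 ψ₀'.2 h2' β h3 h3'
    have e4 : ψ₀ = ψ₀' := Subtype.ext e3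
    rw [← e4] at h1'
    exact St₁.2.1 χ χ' hχ (hsub χ hinv) hχ' (hsub χ' hinv') ψ₀ h1 h1'
  · intro β
    obtain ⟨ψ, hψ, hψinv, hψβ⟩ := St₂.2.2 β
    obtain ⟨χ, hχ, hχinv, hχψ⟩ := St₁.2.2 ⟨ψ, hψ⟩
    have hinv : InvUnder S χ := hE2 χ hχ hχinv ⟨ψ, hψ⟩ hψinv hχψ
    refine ⟨χ, hχ, hinv, ?_⟩
    obtain ⟨ψ₀, β₀, h1, h2, h3, ⟨m, hm, hpm⟩, h5⟩ :=
      glaub_comp_struct S₁ S S₂ ι₁ ι₂ St₁ St₂ hsub hE1 hχ hinv
    -- `ψ₀ = ψ`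
    obtain ⟨ψ₁, -, hoth⟩ := St₁.1 χ hχ hχinv
    have e1 : (⟨ψ, hψ⟩ : Cfsg.IrrCharacter H) = ψ₁ := glaubRel_unique ι₁ ψ₁ hoth _ hχψ
    have e2 : ψ₀ = ψ₁ := glaubRel_unique ι₁ ψ₁ hoth _ h1
    have e3 : ψ₀ = ⟨ψ, hψ⟩ := e2.trans e1.symm
    -- `β₀ = β`
    obtain ⟨β₁, -, hoth₂⟩ := St₂.1 ψ hψ hψinv
    have e4 : β = β₁ := glaubRel_unique ι₂ β₁ hoth₂ _ hψβ
    have e5 : β₀ = β₁ := by
      apply glaubRel_unique ι₂ β₁ hoth₂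
      rw [e3] at h3
      exact h3
    rw [e4, ← e5]
    exact ⟨m, hm, not_dvd_of_modEq_pm hp.out hpm⟩

end Cfsg.Agent.Helper6
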