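import Mathlib
import Cfsg.Prelude.Def_Characters
import Cfsg.Agent.Helper6.GlaubN

/-!
# The Glauberman correspondence for a `p`-group of automorphisms
-/

set_option autoImplicit false
set_option linter.style.haveILetI false
set_option linter.unusedSimpArgs false

namespace Cfsg.Agent.Helper6

open scoped ComplexConjugate

universe u

section aux

variable {G : Type u} [Group G]

/-- the fixed points of a subgroup of automorphisms -/
def fixedSub (T : Subgroup (MulAut G)) : Subgroup G where
  carrier := {g | ∀ a ∈ T, a g = g}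
  mul_mem' := by
    intro x y hx hy a ha
    rw [map_mul, hx a ha, hy a ha]
  one_mem' := by
    intro a _
    exact map_one a
  inv_mem' := by
    intro x hx a ha
    rw [map_inv, hx a ha]

theorem mem_fixedSub (T : Subgroup (MulAut G)) (g : G) :
    g ∈ fixedSub T ↔ ∀ a ∈ T, a g = g := Iff.rfl

/-- the stabilizer of a function under precomposition -/
def funStabilizer (χ : G → ℂ) : Subgroup (MulAut G) where
  carrier := {a | ∀ g : G, χ (a g) = χ g}
  mul_mem' := by
    intro a b ha hb g
    rw [MulAut.mul_apply, ha, hb]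
  one_mem' := by
    intro g
    rfl
  inv_mem' := by
    intro a ha g
    have := ha (a⁻¹ g)
    rw [MulAut.apply_inv_self] at this
    exact this.symm

theorem mem_funStabilizer (χ : G → ℂ) (a : MulAut G) :
    a ∈ funStabilizer χ ↔ ∀ g : G, χ (a g) = χ g := Iff.rfl

/-- a subgroup containing a subgroup of prime index and an element outside it is everything -/
theorem eq_top_of_index_prime {A : Type*} [Group A] {p : ℕ} (hp : p.Prime) (T B : Subgroup A)
    (hT : T.index = p) (hle : T ≤ B) (s : A) (hsB : s ∈ B) (hsT : s ∉ T) : B = ⊤ := by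
  have h1 := Subgroup.relIndex_mul_index hle
  rw [hT] at h1
  have h2 : B.index ∣ p := Dvd.intro_left _ h1
  rcases (Nat.dvd_prime hp).mp h2 with h3 | h3
  · exact Subgroup.index_eq_one.mp h3
  · exfalso
    rw [h3] at h1
    have h4 : T.relIndex B = 1 := by
      have hp0 : 0 < p := hp.pos
      exact Nat.eq_of_mul_eq_mul_right hp0 (by rw [h1, one_mul])
    exact hsT (Subgroup.relIndex_eq_one.mp h4 hsB)

/-- restriction of an automorphism to a stable subgroup -/
def restrictAut (a : MulAut G) (H : Subgroup G) (h1 : ∀ g ∈ H, a g ∈ H)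
    (h2 : ∀ g ∈ H, a⁻¹ g ∈ H) : H ≃* H where
  toFun g := ⟨a g.1, h1 g.1 g.2⟩
  invFun g := ⟨a⁻¹ g.1, h2 g.1 g.2⟩
  left_inv g := by
    apply Subtype.ext
    exact MulAut.inv_apply_self _ a g.1
  right_inv g := by
    apply Subtype.ext
    exact MulAut.apply_inv_self _ a g.1
  map_mul' x y := by
    apply Subtype.ext
    exact map_mul a x.1 y.1

theorem restrictAut_apply (a : MulAut G) (H : Subgroup G) (h1 : ∀ g ∈ H, a g ∈ H)
    (h2 : ∀ g ∈ H, a⁻¹ g ∈ H) (g : H) : ((restrictAut a H h1 h2 g : H) : G) = a g.1 := rfl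

theorem restrictAut_iterate (a : MulAut G) (H : Subgroup G) (h1 : ∀ g ∈ H, a g ∈ H)
    (h2 : ∀ g ∈ H, a⁻¹ g ∈ H) (n : ℕ) (g : H) :
    (((restrictAut a H h1 h2)^[n] g : H) : G) = (a ^ n) g.1 := by
  induction n generalizing g with
  | zero => rfl
  | succ n ih =>
    rw [Function.iterate_succ_apply, ih, restrictAut_apply, pow_succ, MulAut.mul_apply]

end aux

end Cfsg.Agent.Helper6
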