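import Mathlib
import Cfsg.Prelude.Def_Characters
import Cfsg.Agent.Helper6.GlaubO

/-!
# The Glauberman correspondence for a `p`-group of automorphisms: the induction step
-/

set_option autoImplicit false
set_option linter.style.haveILetI false
set_option linter.unusedSimpArgs false

namespace Cfsg.Agent.Helper6

open scoped ComplexConjugate

universe u

variable {G : Type u} [Group G] [Fintype G]

set_option maxHeartbeats 1600000 in
/-- the induction step: from a normal subgroup of index `p` to the whole `p`-group -/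
theorem glaubStatement_step {p : ℕ} [hp : Fact p.Prime] (A : Subgroup (MulAut G))
    (T' : Subgroup A) [hN : T'.Normal] (hidx : T'.index = p) (s : A) (hs : s ∉ T')
    (hcop : (Nat.card G).Coprime p) (T : Subgroup (MulAut G)) (hTdef : T = T'.map A.subtype)
    (H : Subgroup G) (hHmem : ∀ g : G, g ∈ H ↔ ∀ t ∈ T, t g = g) [Fintype H]
    (St₁ : GlaubStatement p (T : Set (MulAut G)) H.subtype)
    {K : Type u} [Group K] [Fintype K] (ι : K →* G) (hinj : Function.Injective ι)
    (hι : ∀ g : G, g ∈ ι.range ↔ ∀ a ∈ A, a g = g) :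
    GlaubStatement p (A : Set (MulAut G)) ι := by
  have hTA : ∀ t ∈ T, t ∈ A := by
    intro t ht
    rw [hTdef] at ht
    obtain ⟨t', -, rfl⟩ := Subgroup.mem_map.mp ht
    exact t'.2
  have hT'T : ∀ t' : A, t' ∈ T' → (t' : MulAut G) ∈ T := fun t' ht' => by
    rw [hTdef]
    exact Subgroup.mem_map.mpr ⟨t', ht', rfl⟩
  have hTex : ∀ t ∈ T, ∃ t' : A, t' ∈ T' ∧ (t' : MulAut G) = t := by
    intro t ht
    rw [hTdef] at ht
    obtain ⟨t', ht', rfl⟩ := Subgroup.mem_map.mp ht
    exact ⟨t', ht', rfl⟩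
  -- `H` is stable under `A`
  have hstable : ∀ b ∈ A, ∀ g ∈ H, b g ∈ H := by
    intro b hb g hg
    rw [hHmem] at hg ⊢
    intro t ht
    obtain ⟨t', ht', rfl⟩ := hTex t ht
    have hc : (⟨b, hb⟩ : A)⁻¹ * t' * (⟨b, hb⟩ : A) ∈ T' := by
      have := hN.conj_mem t' ht' (⟨b, hb⟩ : A)⁻¹
      rwa [inv_inv] at this
    have h1 := hg _ (hT'T _ hc)
    simp only [Subgroup.coe_mul, Subgroup.coe_inv, MulAut.mul_apply, Subgroup.subtype_apply] at h1 ⊢
    have h2 := congrArg b h1
    rwa [MulAut.apply_inv_self] at h2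
  set σ' : H ≃* H := restrictAut (s : MulAut G) H (hstable s s.2)
    (hstable (s : MulAut G)⁻¹ (inv_mem s.2)) with hσ'def
  have hσ'apply : ∀ h : H, ((σ' h : H) : G) = (s : MulAut G) h.1 := fun h => rfl
  have hspT : ((s : MulAut G)) ^ p ∈ T := by
    have := Subgroup.pow_index_mem T' s
    rw [hidx] at this
    have h2 := hT'T _ this
    rwa [Subgroup.coe_pow] at h2
  have hσ' : ∀ h : H, σ'^[p] h = h := by
    intro h
    apply Subtype.ext
    rw [hσ'def, restrictAut_iterate]
    exact (hHmem _).mp h.2 _ hspT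
  have hιH : ∀ k : K, ι k ∈ H := by
    intro k
    rw [hHmem]
    intro t ht
    exact (hι (ι k)).mp ⟨k, rfl⟩ t (hTA t ht)
  set ι₂ : K →* H := ι.codRestrict H hιH with hι₂def
  have hcomp : H.subtype.comp ι₂ = ι := by
    apply MonoidHom.ext
    intro k
    rfl
  have hinj₂ : Function.Injective ι₂ := by
    intro k k' hkk
    apply hinj
    exact congrArg Subtype.val hkk
  have hι₂ : ∀ h : H, h ∈ ι₂.range ↔ σ' h = h := by
    intro h
    constructor
    · rintro ⟨k, rfl⟩
      apply Subtype.ext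
      rw [hσ'apply]
      exact (hι (ι k)).mp ⟨k, rfl⟩ s s.2
    · intro hfix
      have hsfix : (s : MulAut G) h.1 = h.1 := by
        rw [← hσ'apply, hfix]
      set B : Subgroup A := (MulAction.stabilizer (MulAut G) h.1).subgroupOf A with hB
      have hle : T' ≤ B := by
        intro t' ht'
        rw [hB, Subgroup.mem_subgroupOf, MulAction.mem_stabilizer_iff]
        exact (hHmem _).mp h.2 _ (hT'T t' ht')
      have hsB : s ∈ B := by
        rw [hB, Subgroup.mem_subgroupOf, MulAction.mem_stabilizer_iff]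
        exact hsfix
      have htop := eq_top_of_index_prime hp.out T' B hidx hle s hsB hs
      have hall : ∀ a ∈ A, a h.1 = h.1 := by
        intro a ha
        have : (⟨a, ha⟩ : A) ∈ B := by rw [htop]; exact Subgroup.mem_top _
        rw [hB, Subgroup.mem_subgroupOf, MulAction.mem_stabilizer_iff] at this
        exact this
      obtain ⟨k, hk⟩ := (hι h.1).mpr hall
      exact ⟨k, Subtype.ext hk⟩
  have hcopH : (Nat.card H).Coprime p :=
    Nat.Coprime.coprime_dvd_left (Subgroup.card_subgroup_dvd_card H) hcop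
  have St₂ := glaubStatement_prime σ' hcopH hσ' ι₂ hinj₂ hι₂
  have hsub : ∀ χ : G → ℂ, InvUnder (A : Set (MulAut G)) χ → InvUnder (T : Set (MulAut G)) χ :=
    fun χ h a ha g => h a (hTA a ha) g
  -- the restriction to `H` of an `s`-invariant function is `σ'`-invariant
  have hresσ : ∀ χ : G → ℂ, (χ ∘ (s : MulAut G)) ∘ H.subtype = (χ ∘ H.subtype) ∘ σ' := by
    intro χ
    funext h
    rfl
  have hE1 : ∀ χ : G → ℂ, Cfsg.IsIrrCharacter G χ → InvUnder (A : Set (MulAut G)) χ →
      ∀ ψ : Cfsg.IrrCharacter H, GlaubRelHom p H.subtype χ (ψ : H → ℂ) →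
        InvUnder ({(σ' : MulAut H)} : Set (MulAut H)) (ψ : H → ℂ) := by
    intro χ hχ hinv ψ hrel a ha h
    rw [Set.mem_singleton_iff] at ha
    subst ha
    have hψ' : Cfsg.IsIrrCharacter H ((ψ : H → ℂ) ∘ σ') := IsIrrCharacter.comp_mulEquiv σ' ψ.2
    have hχs : χ ∘ (s : MulAut G) = χ := by
      funext g
      exact hinv s s.2 g
    have hrel' : GlaubRelHom p H.subtype χ ((ψ : H → ℂ) ∘ σ') := by
      obtain ⟨m, hm, hnd⟩ := hrel
      refine ⟨m, ?_, hnd⟩
      have key : Cfsg.classInner ((χ ∘ H.subtype) ∘ σ') ((ψ : H → ℂ) ∘ σ') =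
          Cfsg.classInner (χ ∘ H.subtype) (ψ : H → ℂ) :=
        classInner_comp_equiv' σ'.toEquiv (χ ∘ H.subtype) (ψ : H → ℂ)
      have h3 := hresσ χ
      rw [hχs] at h3
      rw [← h3] at key
      rw [key, hm]
    obtain ⟨ψ₁, -, hoth⟩ := St₁.1 χ hχ (hsub χ hinv)
    have e1 : ψ = ψ₁ := glaubRel_unique H.subtype ψ₁ hoth ψ hrel
    have e2 : (⟨_, hψ'⟩ : Cfsg.IrrCharacter H) = ψ₁ := glaubRel_unique H.subtype ψ₁ hoth _ hrel'
    have e3 := congrArg Subtype.val (e2.trans e1.symm)
    exact congrFun e3 h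
  have hE2 : ∀ χ : G → ℂ, Cfsg.IsIrrCharacter G χ → InvUnder (T : Set (MulAut G)) χ →
      ∀ ψ : Cfsg.IrrCharacter H, InvUnder ({(σ' : MulAut H)} : Set (MulAut H)) (ψ : H → ℂ) →
        GlaubRelHom p H.subtype χ (ψ : H → ℂ) → InvUnder (A : Set (MulAut G)) χ := by
    intro χ hχ hinvT ψ hψinv hrel
    have hχ' : Cfsg.IsIrrCharacter G (χ ∘ (s : MulAut G)) :=
      IsIrrCharacter.comp_mulEquiv (s : MulAut G) hχ
    have hinvT' : InvUnder (T : Set (MulAut G)) (χ ∘ (s : MulAut G)) := by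
      intro t ht g
      obtain ⟨t', ht', rfl⟩ := hTex t ht
      have hc : s * t' * s⁻¹ ∈ T' := hN.conj_mem t' ht' s
      have h1 := hinvT _ (hT'T _ hc) ((s : MulAut G) g)
      simp only [Subgroup.coe_mul, Subgroup.coe_inv, MulAut.mul_apply, MulAut.inv_apply_self,
        Subgroup.subtype_apply, Function.comp_apply] at h1 ⊢
      exact h1
    have hψσ : (ψ : H → ℂ) ∘ σ' = (ψ : H → ℂ) := by
      funext h
      exact hψinv σ' (Set.mem_singleton _) h
    have hrel' : GlaubRelHom p H.subtype (χ ∘ (s : MulAut G)) (ψ : H → ℂ) := by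
      obtain ⟨m, hm, hnd⟩ := hrel
      refine ⟨m, ?_, hnd⟩
      have key : Cfsg.classInner ((χ ∘ H.subtype) ∘ σ') ((ψ : H → ℂ) ∘ σ') =
          Cfsg.classInner (χ ∘ H.subtype) (ψ : H → ℂ) :=
        classInner_comp_equiv' σ'.toEquiv (χ ∘ H.subtype) (ψ : H → ℂ)
      rw [hψσ, ← hresσ χ] at key
      rw [key, hm]
    have heq : χ ∘ (s : MulAut G) = χ := St₁.2.1 _ _ hχ' hinvT' hχ hinvT ψ hrel' hrel
    set B : Subgroup A := (funStabilizer χ).subgroupOf A with hB
    have hle : T' ≤ B := by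
      intro t' ht'
      rw [hB, Subgroup.mem_subgroupOf, mem_funStabilizer]
      exact hinvT _ (hT'T t' ht')
    have hsB : s ∈ B := by
      rw [hB, Subgroup.mem_subgroupOf, mem_funStabilizer]
      exact fun g => congrFun heq g
    have htop := eq_top_of_index_prime hp.out T' B hidx hle s hsB hs
    intro a ha g
    have : (⟨a, ha⟩ : A) ∈ B := by rw [htop]; exact Subgroup.mem_top _
    rw [hB, Subgroup.mem_subgroupOf, mem_funStabilizer] at this
    exact this g
  rw [← hcomp]
  exact glaubStatement_comp (T : Set (MulAut G)) (A : Set (MulAut G))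
    ({(σ' : MulAut H)} : Set (MulAut H)) H.subtype ι₂ St₁ St₂ hsub hE1 hE2

end Cfsg.Agent.Helper6
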