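import Mathlib
import Cfsg.Prelude.Def_Characters
import Cfsg.Agent.Helper6.GlaubP

/-!
# The Glauberman correspondence for a `p`-group of automorphisms
-/

set_option autoImplicit false
set_option linter.style.haveILetI false
set_option linter.unusedSimpArgs false

namespace Cfsg.Agent.Helper6

open scoped ComplexConjugate

universe u

/-- The Glauberman correspondence for a `p`-group `A` of automorphisms of a group `G` of order
prime to `p`, the fixed points being the image of the embedding `ι`. -/
theorem glaubStatement_pgroup {p : ℕ} [hp : Fact p.Prime] :
    ∀ (n : ℕ) {G : Type u} [Group G] [Fintype G] (A : Subgroup (MulAut G)), Nat.card A = n →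
      IsPGroup p A → (Nat.card G).Coprime p →
      ∀ {K : Type u} [Group K] [Fintype K] (ι : K →* G), Function.Injective ι →
        (∀ g : G, g ∈ ι.range ↔ ∀ a ∈ A, a g = g) → GlaubStatement p (A : Set (MulAut G)) ι := by
  intro n
  induction n using Nat.strong_induction_on with
  | _ n ih =>
    intro G _ _ A hn hA hcop K _ _ ι hinj hι
    by_cases hbot : A = ⊥
    · subst hbot
      have hσ : ∀ g : G, ((1 : MulAut G) : G → G)^[p] g = g := fun g =>
        Function.iterate_fixed rfl p
      have hι' : ∀ g : G, g ∈ ι.range ↔ (1 : MulAut G) g = g := by
        intro g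
        rw [hι g]
        constructor
        · intro _
          rfl
        · intro _ a ha
          rw [Subgroup.mem_bot] at ha
          rw [ha]
          rfl
      have := glaubStatement_prime (1 : MulAut G) hcop hσ ι hinj hι'
      rwa [Subgroup.coe_bot]
    · obtain ⟨k, hk⟩ := IsPGroup.iff_card.mp hA
      have hk0 : k ≠ 0 := by
        intro h0
        rw [h0, pow_zero] at hk
        exact hbot (Subgroup.card_eq_one.mp hk)
      obtain ⟨j, rfl⟩ := Nat.exists_eq_succ_of_ne_zero hk0
      obtain ⟨T', hT'⟩ := Sylow.exists_subgroup_card_pow_prime p
        (show p ^ j ∣ Nat.card A by rw [hk]; exact pow_dvd_pow p (Nat.le_succ j))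
      have hidx : T'.index = p := by
        have h1 := T'.index_mul_card
        rw [hT', hk, pow_succ] at h1
        have hpos : 0 < p ^ j := pow_pos hp.out.pos j
        have : T'.index * p ^ j = p * p ^ j := by rw [h1, mul_comm]
        exact Nat.eq_of_mul_eq_mul_right hpos this
      haveI hN : T'.Normal := by
        apply Subgroup.normal_of_index_eq_minFac_card
        rw [hidx, hk, Nat.Prime.pow_minFac hp.out (Nat.succ_ne_zero j)]
      have hex : ∃ s : A, s ∉ T' := by
        by_contra hcon
        push Not at hcon
        have htop : T' = ⊤ := by
          rw [eq_top_iff]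
          intro x _
          exact hcon x
        rw [htop, Subgroup.index_top] at hidx
        exact hp.out.one_lt.ne hidx
      obtain ⟨s, hs⟩ := hex
      set T : Subgroup (MulAut G) := T'.map A.subtype with hTdef
      haveI : Fintype (fixedSub T) := Fintype.ofFinite _
      have hcardT : Nat.card T = p ^ j := by
        rw [hTdef, Subgroup.card_map_of_injective A.subtype_injective, hT']
      have hlt : p ^ j < n := by
        rw [← hn, hk]
        exact Nat.pow_lt_pow_right hp.out.one_lt (Nat.lt_succ_self j)
      have hTp : IsPGroup p T := by
        rw [hTdef]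
        exact (hA.to_subgroup T').map A.subtype
      have hιH : ∀ g : G, g ∈ (fixedSub T).subtype.range ↔ ∀ a ∈ T, a g = g := by
        intro g
        rw [Subgroup.range_subtype]
        exact mem_fixedSub T g
      have St₁ := ih (p ^ j) hlt T hcardT hTp hcop (fixedSub T).subtype
        Subtype.val_injective hιH
      exact glaubStatement_step A T' hidx s hs hcop T hTdef (fixedSub T)
        (fun g => mem_fixedSub T g) St₁ ι hinj hι

end Cfsg.Agent.Helper6
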