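import Mathlib
import Cfsg.Prelude.Def_Characters
import Cfsg.Agent.Helper6.GlaubQ

/-!
# The Glauberman correspondence: trivial action, and the conjugation action inside a group
-/

set_option autoImplicit false
set_option linter.style.haveILetI false
set_option linter.unusedSimpArgs false

namespace Cfsg.Agent.Helper6

open scoped ComplexConjugate

universe u

section trivial

variable {G : Type u} [Group G] [Fintype G] {K : Type u} [Group K] [Fintype K]

/-- the Glauberman statement for the trivial group of automorphisms, for any prime -/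
theorem glaubStatement_trivial {p : ℕ} (hp : p.Prime) (ι : K →* G)
    (hbij : Function.Bijective ι) :
    GlaubStatement p (((⊥ : Subgroup (MulAut G)) : Set (MulAut G))) ι := by
  set e : K ≃* G := MulEquiv.ofBijective ι hbij with he
  have hirr : ∀ χ : G → ℂ, Cfsg.IsIrrCharacter G χ → Cfsg.IsIrrCharacter K (χ ∘ ι) :=
    fun χ hχ => IsIrrCharacter.comp_mulEquiv e hχ
  have hp1 : ¬ p ∣ 1 := fun h => hp.one_lt.ne' (Nat.dvd_one.mp h)
  have heq : ∀ (χ : G → ℂ) (β : Cfsg.IrrCharacter K), Cfsg.IsIrrCharacter G χ →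
      GlaubRelHom p ι χ (β : K → ℂ) → χ ∘ ι = (β : K → ℂ) := by
    rintro χ β hχ ⟨m, hm, hnd⟩
    by_contra hne
    rw [classInner_irr_ne (hirr χ hχ) β.2 hne] at hm
    have : m = 0 := by exact_mod_cast hm.symm
    rw [this] at hnd
    exact hnd (dvd_zero p)
  refine ⟨?_, ?_, ?_⟩
  · intro χ hχ _
    refine ⟨⟨χ ∘ ι, hirr χ hχ⟩, ⟨1, ?_, Or.inl (by simp)⟩, ?_⟩
    · rw [classInner_irr_self (hirr χ hχ), Nat.cast_one]
    · intro β hβ
      refine ⟨0, ?_, dvd_zero p⟩
      rw [Nat.cast_zero]
      apply classInner_irr_ne (hirr χ hχ) β.2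
      intro h
      apply hβ
      exact Subtype.ext h.symm
  · intro χ χ' hχ _ hχ' _ β h h'
    have h1 := heq χ β hχ h
    have h2 := heq χ' β hχ' h'
    funext g
    obtain ⟨k, rfl⟩ := hbij.2 g
    exact (congrFun h1 k).trans (congrFun h2 k).symm
  · intro β
    have hχ : Cfsg.IsIrrCharacter G ((β : K → ℂ) ∘ e.symm) := IsIrrCharacter.comp_mulEquiv e.symm β.2
    have hcomp : ((β : K → ℂ) ∘ e.symm) ∘ ι = (β : K → ℂ) := by
      funext k
      have : e.symm (ι k) = k := e.symm_apply_apply k
      simp only [Function.comp_apply, this]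
    refine ⟨_, hχ, ?_, 1, ?_, hp1⟩
    · intro a ha g
      rw [SetLike.mem_coe, Subgroup.mem_bot] at ha
      rw [ha]
      rfl
    · rw [hcomp, classInner_irr_self β.2, Nat.cast_one]

/-- The Glauberman correspondence for a `p`-group of automorphisms of order coprime to the order
of the group. -/
theorem glaubStatement_pgroup_coprime {p : ℕ} [hp : Fact p.Prime] (A : Subgroup (MulAut G))
    (hA : IsPGroup p A) (hcop : (Nat.card G).Coprime (Nat.card A)) (ι : K →* G)
    (hinj : Function.Injective ι) (hι : ∀ g : G, g ∈ ι.range ↔ ∀ a ∈ A, a g = g) :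
    GlaubStatement p (A : Set (MulAut G)) ι := by
  by_cases hbot : A = ⊥
  · subst hbot
    apply glaubStatement_trivial hp.out ι
    refine ⟨hinj, ?_⟩
    intro g
    have : g ∈ ι.range := by
      rw [hι]
      intro a ha
      rw [Subgroup.mem_bot] at ha
      rw [ha]
      rfl
    exact this
  · have hpdvd : p ∣ Nat.card A := by
      obtain ⟨k, hk⟩ := IsPGroup.iff_card.mp hA
      have hk0 : k ≠ 0 := by
        intro h0
        rw [h0, pow_zero] at hk
        exact hbot (Subgroup.card_eq_one.mp hk)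
      rw [hk]
      exact dvd_pow_self p hk0
    have hcop' : (Nat.card G).Coprime p := Nat.Coprime.coprime_dvd_right hpdvd hcop
    exact glaubStatement_pgroup (Nat.card A) A rfl hA hcop' ι hinj hι

end trivial

section conjAction

variable {Γ : Type u} [Group Γ]

/-- conjugation by an element normalizing `G`, as an automorphism of `G` -/
def conjAutOn (G : Subgroup Γ) (s : Γ) (h1 : ∀ g ∈ G, s * g * s⁻¹ ∈ G)
    (h2 : ∀ g ∈ G, s⁻¹ * g * s ∈ G) : MulAut G where
  toFun g := ⟨s * g.1 * s⁻¹, h1 g.1 g.2⟩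
  invFun g := ⟨s⁻¹ * g.1 * s, h2 g.1 g.2⟩
  left_inv g := by
    apply Subtype.ext
    simp only []
    group
  right_inv g := by
    apply Subtype.ext
    simp only []
    group
  map_mul' x y := by
    apply Subtype.ext
    simp only [Subgroup.coe_mul]
    group

/-- the conjugation action of a subgroup `S` normalizing `G` -/
def conjHomOn (G S : Subgroup Γ) (hnorm : ∀ s ∈ S, ∀ g ∈ G, s * g * s⁻¹ ∈ G) : S →* MulAut G where
  toFun s := conjAutOn G s.1 (hnorm s.1 s.2) (fun g hg => by
    have := hnorm s.1⁻¹ (inv_mem s.2) g hg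
    rwa [inv_inv] at this)
  map_one' := by
    apply MulEquiv.ext
    intro g
    apply Subtype.ext
    change (1 : Γ) * g.1 * (1 : Γ)⁻¹ = g.1
    group
  map_mul' s t := by
    apply MulEquiv.ext
    intro g
    apply Subtype.ext
    change (s.1 * t.1) * g.1 * (s.1 * t.1)⁻¹ = s.1 * (t.1 * g.1 * t.1⁻¹) * s.1⁻¹
    group

theorem conjHomOn_apply (G S : Subgroup Γ) (hnorm : ∀ s ∈ S, ∀ g ∈ G, s * g * s⁻¹ ∈ G) (s : S)
    (g : G) : ((conjHomOn G S hnorm s g : G) : Γ) = s.1 * g.1 * s.1⁻¹ := rfl

end conjAction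

end Cfsg.Agent.Helper6
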