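import Mathlib
import Cfsg.Prelude.Def_Characters
import Cfsg.Agent.Helper6.GlaubR

/-!
# Equivariance of the Glauberman correspondence and reduction of invariant characters
-/

set_option autoImplicit false
set_option linter.style.haveILetI false
set_option linter.unusedSimpArgs false

namespace Cfsg.Agent.Helper6

open scoped ComplexConjugate

universe u

variable {G : Type u} [Group G] [Fintype G]

omit [Fintype G] in
/-- the fixed points of a normal subgroup of `A` are stable under `A` -/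
theorem fixedSub_map_stable (A : Subgroup (MulAut G)) (M : Subgroup A) [hN : M.Normal] :
    ∀ b ∈ A, ∀ g ∈ fixedSub (M.map A.subtype), b g ∈ fixedSub (M.map A.subtype) := by
  intro b hb g hg t ht
  obtain ⟨t', ht', rfl⟩ := Subgroup.mem_map.mp ht
  have hc : (⟨b, hb⟩ : A)⁻¹ * t' * (⟨b, hb⟩ : A) ∈ M := by
    have := hN.conj_mem t' ht' (⟨b, hb⟩ : A)⁻¹
    rwa [inv_inv] at this
  have h1 := hg _ (Subgroup.mem_map.mpr ⟨_, hc, rfl⟩)
  simp only [Subgroup.coe_mul, Subgroup.coe_inv, MulAut.mul_apply, Subgroup.subtype_apply] at h1 ⊢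
  have h2 := congrArg b h1
  rwa [MulAut.apply_inv_self] at h2

/-- the restriction homomorphism to a stable subgroup -/
def restrictHom (A : Subgroup (MulAut G)) (H : Subgroup G) (hst : ∀ b ∈ A, ∀ g ∈ H, b g ∈ H) :
    A →* MulAut H where
  toFun a := restrictAut a.1 H (hst a.1 a.2) (hst a.1⁻¹ (inv_mem a.2))
  map_one' := MulEquiv.ext (fun _ => Subtype.ext rfl)
  map_mul' _ _ := MulEquiv.ext (fun _ => Subtype.ext rfl)

omit [Fintype G] in
theorem restrictHom_apply (A : Subgroup (MulAut G)) (H : Subgroup G)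
    (hst : ∀ b ∈ A, ∀ g ∈ H, b g ∈ H) (a : A) (h : H) :
    ((restrictHom A H hst a h : H) : G) = (a : MulAut G) h.1 := rfl

/-- equivariance, first direction -/
theorem glaub_equivariant₁ {p : ℕ} (T : Subgroup (MulAut G)) (H : Subgroup G) [Fintype H]
    (St : GlaubStatement p (T : Set (MulAut G)) H.subtype) (a : H ≃* H) (a₀ : MulAut G)
    (haa : ∀ h : H, ((a h : H) : G) = a₀ h.1) {χ : G → ℂ} (hχ : Cfsg.IsIrrCharacter G χ)
    (hinvT : InvUnder (T : Set (MulAut G)) χ) (hχa : ∀ g : G, χ (a₀ g) = χ g)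
    (ψ : Cfsg.IrrCharacter H) (hrel : GlaubRelHom p H.subtype χ (ψ : H → ℂ)) :
    ∀ h : H, (ψ : H → ℂ) (a h) = (ψ : H → ℂ) h := by
  have hψ' : Cfsg.IsIrrCharacter H ((ψ : H → ℂ) ∘ a) := IsIrrCharacter.comp_mulEquiv a ψ.2
  have hres : (χ ∘ H.subtype) ∘ a = χ ∘ H.subtype := by
    funext h
    simp only [Function.comp_apply, Subgroup.subtype_apply]
    rw [haa, hχa]
  have hrel' : GlaubRelHom p H.subtype χ ((ψ : H → ℂ) ∘ a) := by
    obtain ⟨m, hm, hnd⟩ := hrel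
    refine ⟨m, ?_, hnd⟩
    have key : Cfsg.classInner ((χ ∘ H.subtype) ∘ a) ((ψ : H → ℂ) ∘ a) =
        Cfsg.classInner (χ ∘ H.subtype) (ψ : H → ℂ) :=
      classInner_comp_equiv' a.toEquiv (χ ∘ H.subtype) (ψ : H → ℂ)
    rw [hres] at key
    rw [key, hm]
  obtain ⟨ψ₁, -, hoth⟩ := St.1 χ hχ hinvT
  have e1 : ψ = ψ₁ := glaubRel_unique H.subtype ψ₁ hoth ψ hrel
  have e2 : (⟨_, hψ'⟩ : Cfsg.IrrCharacter H) = ψ₁ := glaubRel_unique H.subtype ψ₁ hoth _ hrel'
  have e3 := congrArg Subtype.val (e2.trans e1.symm)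
  exact fun h => congrFun e3 h

/-- equivariance, second direction -/
theorem glaub_equivariant₂ {p : ℕ} (T : Subgroup (MulAut G)) (H : Subgroup G) [Fintype H]
    (St : GlaubStatement p (T : Set (MulAut G)) H.subtype) (a : H ≃* H) (a₀ : MulAut G)
    (haa : ∀ h : H, ((a h : H) : G) = a₀ h.1) (hnorm : ∀ t ∈ T, a₀ * t * a₀⁻¹ ∈ T)
    {χ : G → ℂ} (hχ : Cfsg.IsIrrCharacter G χ)
    (hinvT : InvUnder (T : Set (MulAut G)) χ)
    (ψ : Cfsg.IrrCharacter H) (hψ : ∀ h : H, (ψ : H → ℂ) (a h) = (ψ : H → ℂ) h)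
    (hrel : GlaubRelHom p H.subtype χ (ψ : H → ℂ)) : ∀ g : G, χ (a₀ g) = χ g := by
  have hχ' : Cfsg.IsIrrCharacter G (χ ∘ a₀) := IsIrrCharacter.comp_mulEquiv a₀ hχ
  have hinvT' : InvUnder (T : Set (MulAut G)) (χ ∘ a₀) := by
    intro t ht g
    have h1 := hinvT _ (hnorm t ht) (a₀ g)
    simp only [MulAut.mul_apply, MulAut.inv_apply_self, Function.comp_apply] at h1 ⊢
    exact h1
  have hψa : (ψ : H → ℂ) ∘ a = (ψ : H → ℂ) := funext hψ
  have hres : (χ ∘ a₀) ∘ H.subtype = (χ ∘ H.subtype) ∘ a := by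
    funext h
    simp only [Function.comp_apply, Subgroup.subtype_apply]
    rw [haa]
  have hrel' : GlaubRelHom p H.subtype (χ ∘ a₀) (ψ : H → ℂ) := by
    obtain ⟨m, hm, hnd⟩ := hrel
    refine ⟨m, ?_, hnd⟩
    have key : Cfsg.classInner ((χ ∘ H.subtype) ∘ a) ((ψ : H → ℂ) ∘ a) =
        Cfsg.classInner (χ ∘ H.subtype) (ψ : H → ℂ) :=
      classInner_comp_equiv' a.toEquiv (χ ∘ H.subtype) (ψ : H → ℂ)
    rw [hψa, ← hres] at key
    rw [key, hm]
  have heq : χ ∘ a₀ = χ := St.2.1 _ _ hχ' hinvT' hχ hinvT ψ hrel' hrel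
  exact fun g => congrFun heq g

end Cfsg.Agent.Helper6
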