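import Mathlib

/-!
# Weighted fixed point counting for `p`-group actions
-/

set_option autoImplicit false
set_option linter.style.haveILetI false
set_option linter.unusedSimpArgs false

namespace Cfsg.Agent.Helper6

open MulAction

/-- For a `p`-group acting on a finite set, the sum of an invariant weight is congruent modulo `p`
to the sum over the fixed points. -/
theorem sum_modEq_sum_fixed {T X : Type*} [Group T] [MulAction T X] [Fintype X] [DecidableEq X]
    {p : ℕ} [hp : Fact p.Prime] (hT : IsPGroup p T) (w : X → ℕ)
    (hw : ∀ (t : T) (x : X), w (t • x) = w x) (F : Finset X)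
    (hF : ∀ x : X, x ∈ F ↔ ∀ t : T, t • x = x) :
    ∑ x, w x ≡ ∑ x ∈ F, w x [MOD p] := by
  classical
  have key : ∀ v : ℕ, (Finset.univ.filter (fun x : X => w x = v)).card ≡
      (F.filter (fun x : X => w x = v)).card [MOD p] := by
    intro v
    let Y : SubMulAction T X :=
      { carrier := {x | w x = v}
        smul_mem' := fun t x hx => by
          simp only [Set.mem_ofPred_eq] at hx ⊢
          rw [hw, hx] }
    have h1 := hT.card_modEq_card_fixedPoints Y
    have h2 : Nat.card Y = (Finset.univ.filter (fun x : X => w x = v)).card := by
      rw [← Fintype.card_subtype, ← Nat.card_eq_fintype_card]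
      rfl
    have h3 : Nat.card (fixedPoints T Y) = (F.filter (fun x : X => w x = v)).card := by
      rw [← Nat.card_eq_finsetCard]
      apply Nat.card_congr
      refine ⟨fun y => ⟨y.1.1, ?_⟩, fun x => ⟨⟨x.1, ?_⟩, ?_⟩, ?_, ?_⟩
      · rw [Finset.mem_filter]
        refine ⟨(hF _).mpr ?_, y.1.2⟩
        intro t
        have := y.2 t
        exact congrArg Subtype.val this
      · exact (Finset.mem_filter.mp x.2).2
      · intro t
        apply Subtype.ext
        exact (hF _).mp (Finset.mem_filter.mp x.2).1 t
      · intro y
        rfl
      · intro x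
        rfl
    rw [h2, h3] at h1
    exact h1
  have e1 : ∑ x, w x = ∑ v ∈ Finset.univ.image w,
      (Finset.univ.filter (fun x : X => w x = v)).card * v := by
    have := Finset.sum_comp (s := (Finset.univ : Finset X)) (f := fun v : ℕ => v) (g := w)
    simpa [smul_eq_mul] using this
  have e2 : ∑ x ∈ F, w x = ∑ v ∈ Finset.univ.image w,
      (F.filter (fun x : X => w x = v)).card * v := by
    have h := Finset.sum_comp (s := F) (f := fun v : ℕ => v) (g := w)
    simp only [smul_eq_mul] at h
    rw [h]
    apply Finset.sum_subset (Finset.image_subset_image (Finset.subset_univ F))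
    intro v _ hv
    have : F.filter (fun x : X => w x = v) = ∅ := by
      rw [Finset.filter_eq_empty_iff]
      intro x hx hwx
      apply hv
      rw [Finset.mem_image]
      exact ⟨x, hx, hwx⟩
    rw [this, Finset.card_empty, zero_mul]
  rw [e1, e2]
  unfold Nat.ModEq
  rw [Finset.sum_nat_mod, Finset.sum_nat_mod (s := Finset.univ.image w)
    (f := fun v => (F.filter (fun x : X => w x = v)).card * v)]
  congr 1
  apply Finset.sum_congr rfl
  intro v _
  exact Nat.ModEq.mul_right v (key v)

end Cfsg.Agent.Helper6
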