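import Mathlib
import Cfsg.Prelude.Def_Characters
import Cfsg.Agent.Helper6.GlaubT
import Cfsg.Agent.Helper6.GlaubY

/-!
# The relative congruence for the Glauberman correspondence over a normal subgroup
-/

set_option autoImplicit false
set_option linter.style.haveILetI false
set_option linter.unusedSimpArgs false

namespace Cfsg.Agent.Helper6

open scoped ComplexConjugate

universe u

/-- the action of the automorphism group on the irreducible characters -/
@[instance_reducible]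
noncomputable def irrMulAction (N : Type u) [Group N] [Finite N] :
    MulAction (MulAut N) (Cfsg.IrrCharacter N) where
  smul a θ := ⟨(θ : N → ℂ) ∘ (a⁻¹ : MulAut N), IsIrrCharacter.comp_mulEquiv _ θ.2⟩
  one_smul θ := by
    apply Subtype.ext
    funext n
    change (θ : N → ℂ) ((1 : MulAut N)⁻¹ n) = (θ : N → ℂ) n
    rw [inv_one, MulAut.one_apply]
  mul_smul a b θ := by
    apply Subtype.ext
    funext n
    change (θ : N → ℂ) ((a * b)⁻¹ n) = (θ : N → ℂ) (b⁻¹ (a⁻¹ n))
    rw [mul_inv_rev, MulAut.mul_apply]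

theorem irrMulAction_smul_apply (N : Type u) [Group N] [Finite N] (a : MulAut N)
    (θ : Cfsg.IrrCharacter N) (n : N) :
    letI := irrMulAction N
    ((a • θ : Cfsg.IrrCharacter N) : N → ℂ) n = (θ : N → ℂ) (a⁻¹ n) := rfl

variable {G : Type u} [Group G]

/-- the embedding of `N ⊓ H`, as a subgroup of `H`, into `N` -/
def subgroupOfHom (N H : Subgroup G) : N.subgroupOf H →* N where
  toFun k := ⟨k.1.1, k.2⟩
  map_one' := rfl
  map_mul' _ _ := rfl

theorem subgroupOfHom_apply (N H : Subgroup G) (k : N.subgroupOf H) :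
    ((subgroupOfHom N H k : N) : G) = ((k : H) : G) := rfl

theorem subgroupOfHom_injective (N H : Subgroup G) : Function.Injective (subgroupOfHom N H) := by
  intro k k' h
  apply Subtype.ext
  apply Subtype.ext
  have h1 := congrArg Subtype.val h
  exact h1

variable [Fintype G]

set_option maxHeartbeats 1600000 in
/-- The relative congruence: if `χ ↔ ψ` and `θ ↔ γ` under the Glauberman correspondences of `G`
and of a stable subgroup `N`, then `p ∣ [χ_N, θ]` implies `p ∣ [ψ_{N ∩ H}, γ]`. -/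
theorem glaub_relative_congr {p : ℕ} [hp : Fact p.Prime] (T : Subgroup (MulAut G))
    (hT : IsPGroup p T) (N : Subgroup G) [Fintype N] (hstN : ∀ t ∈ T, ∀ g ∈ N, t g ∈ N)
    (H : Subgroup G) [Fintype H] (hH : ∀ g : G, g ∈ H ↔ ∀ t ∈ T, t g = g)
    [Fintype (N.subgroupOf H)]
    (StG : GlaubStatement p (T : Set (MulAut G)) H.subtype)
    (StN : GlaubStatement p (((restrictHom T N hstN).range : Subgroup (MulAut N)) :
      Set (MulAut N)) (subgroupOfHom N H))
    {χ : G → ℂ} (hχ : Cfsg.IsIrrCharacter G χ) (hχinv : InvUnder (T : Set (MulAut G)) χ)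
    (ψ : Cfsg.IrrCharacter H) (hrelG : GlaubRelHom p H.subtype χ (ψ : H → ℂ))
    (θ : Cfsg.IrrCharacter N)
    (hθinv : InvUnder (((restrictHom T N hstN).range : Subgroup (MulAut N)) : Set (MulAut N))
      (θ : N → ℂ))
    (γ : Cfsg.IrrCharacter (N.subgroupOf H))
    (hrelN : GlaubRelHom p (subgroupOfHom N H) (θ : N → ℂ) (γ : N.subgroupOf H → ℂ)) :
    ∃ a b : ℕ, Cfsg.classInner (χ ∘ N.subtype) (θ : N → ℂ) = (a : ℂ) ∧
      Cfsg.classInner ((ψ : H → ℂ) ∘ (N.subgroupOf H).subtype) (γ : N.subgroupOf H → ℂ) = (b : ℂ) ∧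
      (p ∣ a → p ∣ b) := by
  classical
  haveI : Finite (Cfsg.IrrCharacter N) := irr_finite
  haveI : Fintype (Cfsg.IrrCharacter N) := Fintype.ofFinite _
  set TN : Subgroup (MulAut N) := (restrictHom T N hstN).range with hTN
  have hχchar := IsIrrCharacter.isCharacter hχ
  have hγchar := IsIrrCharacter.isCharacter γ.2
  -- the `H`-side
  obtain ⟨ψ₁, ⟨m₀, hm₀, hpm₀⟩, hoth⟩ := StG.1 χ hχ hχinv
  have hψ : ψ = ψ₁ := glaubRel_unique H.subtype ψ₁ hoth ψ hrelG
  subst hψ
  have hm₀nd : ¬ p ∣ m₀ := not_dvd_of_modEq_pm hp.out hpm₀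
  obtain ⟨b, hb⟩ := classInner_char_char_nat
    (IsCharacter.comp_hom (N.subgroupOf H).subtype (IsIrrCharacter.isCharacter ψ.2)) hγchar
  obtain ⟨c, hc, hcmod⟩ := glaub_comp_congr H.subtype (N.subgroupOf H).subtype hχchar ψ m₀ hm₀ hoth hγchar b hb
  -- the `N`-side
  have hcomp : χ ∘ (H.subtype.comp (N.subgroupOf H).subtype) = (χ ∘ N.subtype) ∘ (subgroupOfHom N H) := by
    funext k
    rfl
  have hχN : Cfsg.IsCharacter N (χ ∘ N.subtype) := IsCharacter.comp_hom N.subtype hχchar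
  have hA : ∀ θ' : Cfsg.IrrCharacter N, ∃ a' : ℕ,
      Cfsg.classInner (χ ∘ N.subtype) (θ' : N → ℂ) = (a' : ℂ) := fun θ' =>
    classInner_char_char_nat hχN (IsIrrCharacter.isCharacter θ'.2)
  choose a' ha' using hA
  have hB : ∀ θ' : Cfsg.IrrCharacter N, ∃ b' : ℕ,
      Cfsg.classInner ((θ' : N → ℂ) ∘ (subgroupOfHom N H)) (γ : N.subgroupOf H → ℂ) = (b' : ℂ) := fun θ' =>
    classInner_char_char_nat
      (IsCharacter.comp_hom (subgroupOfHom N H) (IsIrrCharacter.isCharacter θ'.2)) hγchar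
  choose b' hb' using hB
  have hcsum : c = ∑ θ' : Cfsg.IrrCharacter N, a' θ' * b' θ' := by
    have h1 := classInner_comp_expand (χ ∘ N.subtype) (IsCharacter.isClassFunction hχN)
      (subgroupOfHom N H) (γ : N.subgroupOf H → ℂ)
    rw [← hcomp, hc] at h1
    have h2 : (c : ℂ) = ((∑ θ' : Cfsg.IrrCharacter N, a' θ' * b' θ' : ℕ) : ℂ) := by
      rw [h1]
      push_cast
      apply Finset.sum_congr rfl
      intro θ' _
      rw [ha', hb']
    exact_mod_cast h2
  -- the action of `TN` on the irreducible characters of `N`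
  letI := irrMulAction N
  have hTNp : IsPGroup p TN :=
    hT.of_surjective (restrictHom T N hstN).rangeRestrict
      (restrictHom T N hstN).rangeRestrict_surjective
  have hfix : ∀ (t : TN) (k : N.subgroupOf H), (t : MulAut N)⁻¹ (subgroupOfHom N H k) = subgroupOfHom N H k := by
    rintro ⟨t, t₀, rfl⟩ k
    rw [← map_inv]
    apply Subtype.ext
    rw [restrictHom_apply]
    exact (hH _).mp k.1.2 _ (inv_mem t₀.2)
  have hχt : ∀ t : TN, (χ ∘ N.subtype) ∘ ((t : MulAut N)⁻¹ : MulAut N) = χ ∘ N.subtype := by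
    rintro ⟨t, t₀, rfl⟩
    funext n
    rw [← map_inv]
    simp only [Function.comp_apply, Subgroup.subtype_apply]
    rw [restrictHom_apply]
    exact hχinv _ (inv_mem t₀.2) _
  have hw : ∀ (t : TN) (θ' : Cfsg.IrrCharacter N), a' (t • θ') * b' (t • θ') = a' θ' * b' θ' := by
    intro t θ'
    have e1 : a' (t • θ') = a' θ' := by
      have h1 : Cfsg.classInner ((χ ∘ N.subtype) ∘ ((t : MulAut N)⁻¹ : MulAut N))
          ((θ' : N → ℂ) ∘ ((t : MulAut N)⁻¹ : MulAut N)) =
          Cfsg.classInner (χ ∘ N.subtype) (θ' : N → ℂ) :=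
        classInner_comp_equiv' ((t : MulAut N)⁻¹ : MulAut N).toEquiv _ _
      rw [hχt t] at h1
      have h2 : ((a' (t • θ') : ℕ) : ℂ) = (a' θ' : ℂ) := by
        rw [← ha', ← ha']
        exact h1
      exact_mod_cast h2
    have e2 : b' (t • θ') = b' θ' := by
      have h1 : ((t • θ' : Cfsg.IrrCharacter N) : N → ℂ) ∘ (subgroupOfHom N H) =
          (θ' : N → ℂ) ∘ (subgroupOfHom N H) := by
        funext k
        change (θ' : N → ℂ) ((t : MulAut N)⁻¹ (subgroupOfHom N H k)) = _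
        rw [hfix t k]
        rfl
      have h2 : ((b' (t • θ') : ℕ) : ℂ) = (b' θ' : ℂ) := by
        rw [← hb', ← hb', h1]
      exact_mod_cast h2
    rw [e1, e2]
  set F : Finset (Cfsg.IrrCharacter N) :=
    Finset.univ.filter (fun θ' => InvUnder (TN : Set (MulAut N)) (θ' : N → ℂ)) with hFdef
  have hF : ∀ θ' : Cfsg.IrrCharacter N, θ' ∈ F ↔ ∀ t : TN, t • θ' = θ' := by
    intro θ'
    rw [hFdef, Finset.mem_filter]
    constructor
    · rintro ⟨-, h⟩ t
      apply Subtype.ext
      funext n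
      change (θ' : N → ℂ) ((t : MulAut N)⁻¹ n) = _
      exact h _ (inv_mem t.2) n
    · intro h
      refine ⟨Finset.mem_univ _, ?_⟩
      intro t ht n
      have h1 := congrArg Subtype.val (h ⟨t⁻¹, inv_mem ht⟩)
      have h2 := congrFun h1 n
      change (θ' : N → ℂ) ((t⁻¹)⁻¹ n) = _ at h2
      rwa [inv_inv] at h2
  have hsum := sum_modEq_sum_fixed hTNp (fun θ' => a' θ' * b' θ') hw F hF
  -- the fixed characters other than `θ` contribute multiples of `p`
  have hθF : θ ∈ F := by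
    rw [hFdef, Finset.mem_filter]
    exact ⟨Finset.mem_univ _, hθinv⟩
  have hothers : ∀ θ' ∈ F.erase θ, p ∣ a' θ' * b' θ' := by
    intro θ' hθ'
    have hne : θ' ≠ θ := Finset.ne_of_mem_erase hθ'
    have hinv' : InvUnder (TN : Set (MulAut N)) (θ' : N → ℂ) := by
      have := Finset.mem_of_mem_erase hθ'
      rw [hFdef, Finset.mem_filter] at this
      exact this.2
    apply Dvd.dvd.mul_left
    by_contra hnd
    have hrel' : GlaubRelHom p (subgroupOfHom N H) (θ' : N → ℂ) (γ : N.subgroupOf H → ℂ) :=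
      ⟨b' θ', hb' θ', hnd⟩
    have := StN.2.1 _ _ θ'.2 hinv' θ.2 hθinv γ hrel' hrelN
    exact hne (Subtype.ext this)
  have hFsum : ∑ θ' ∈ F, a' θ' * b' θ' ≡ a' θ * b' θ [MOD p] := by
    rw [← Finset.add_sum_erase F _ hθF]
    obtain ⟨d, hd⟩ := Finset.dvd_sum hothers
    rw [hd]
    unfold Nat.ModEq
    rw [Nat.add_mul_mod_self_left]
  refine ⟨a' θ, b, ha' θ, hb, ?_⟩
  intro hpa
  have h1 : c ≡ a' θ * b' θ [MOD p] := by
    rw [hcsum]
    exact hsum.trans hFsum
  have h2 : m₀ * b ≡ 0 [MOD p] := by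
    have h3 : a' θ * b' θ ≡ 0 [MOD p] :=
      (Nat.modEq_zero_iff_dvd).mpr (Dvd.dvd.mul_right hpa _)
    exact (hcmod.symm.trans h1).trans h3
  have h4 : p ∣ m₀ * b := (Nat.modEq_zero_iff_dvd).mp h2
  rcases (Nat.Prime.dvd_mul hp.out).mp h4 with h5 | h5
  · exact absurd h5 hm₀nd
  · exact h5

end Cfsg.Agent.Helper6
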