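import Mathlib
import Cfsg.Prelude.Def_Characters
import Cfsg.Agent.Helper6.GlaubZ
import Cfsg.Agent.Helper6.Clifford
import Cfsg.Agent.Helper6.SmallDegree

/-!
# Clifford multiplicities divide the group order; equivariance along embeddings
-/

set_option autoImplicit false
set_option linter.style.haveILetI false
set_option linter.unusedSimpArgs false

namespace Cfsg.Agent.Helper6

open scoped ComplexConjugate

universe u

variable {G : Type u} [Group G] [Fintype G]

/-- The multiplicity of an irreducible constituent of the restriction to a normal subgroup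
divides the order of the group. -/
theorem clifford_mult_dvd_card (N : Subgroup G) [Fintype N] [hN : N.Normal] {ψ : G → ℂ}
    (hψ : Cfsg.IsIrrCharacter G ψ) {γ : N → ℂ} (hγ : Cfsg.IsIrrCharacter N γ) (e : ℕ)
    (he : Cfsg.classInner (fun n : N => ψ n) γ = (e : ℂ)) (he0 : e ≠ 0) : e ∣ Nat.card G := by
  classical
  have hne : Cfsg.classInner (fun n : N => ψ n) γ ≠ 0 := by
    rw [he]
    exact_mod_cast he0
  have hcl := clifford N ψ hψ γ hγ hne
  obtain ⟨d, hd, hdG, -⟩ := IsIrrCharacter.degree_dvd_card hψ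
  obtain ⟨c₀, hc₀, -, -⟩ := IsIrrCharacter.degree_dvd_card hγ
  let O : Finset (N → ℂ) := (Finset.univ : Finset G).image (fun g : G => conjFun N γ g)
  have hset : {ψ' : N → ℂ | ∃ g : G, ψ' = conjFun N γ g} = ↑O := by
    ext ψ'
    simp only [O, Set.mem_ofPred_eq, Finset.coe_image, Finset.coe_univ, Set.image_univ,
      Set.mem_range]
    constructor
    · rintro ⟨g, rfl⟩
      exact ⟨g, rfl⟩
    · rintro ⟨g, rfl⟩
      exact ⟨g, rfl⟩
  rw [hset, finsum_mem_coe_finset] at hcl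
  have h1 := congrFun hcl 1
  rw [Pi.smul_apply, Finset.sum_apply, he, smul_eq_mul] at h1
  have h2 : ∀ ψ' ∈ O, ψ' (1 : N) = (c₀ : ℂ) := by
    intro ψ' hψ'
    simp only [O, Finset.mem_image, Finset.mem_univ, true_and] at hψ'
    obtain ⟨g, rfl⟩ := hψ'
    rw [← hc₀]
    unfold conjFun
    congr 1
    apply Subtype.ext
    simp
  rw [Finset.sum_congr rfl h2, Finset.sum_const, nsmul_eq_mul] at h1
  have h3 : (ψ : G → ℂ) ((1 : N) : G) = (d : ℂ) := by
    rw [Subgroup.coe_one]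
    exact hd
  rw [h3] at h1
  have h4 : d = e * (O.card * c₀) := by exact_mod_cast h1
  exact (Dvd.intro _ h4.symm).trans hdG

variable {K : Type u} [Group K] [Fintype K]

omit [Fintype G] in
/-- equivariance along an embedding, first direction -/
theorem glaub_equivariant_hom₁ {p : ℕ} (S : Set (MulAut G)) (ι : K →* G)
    (St : GlaubStatement p S ι) (a : K ≃* K) (a₀ : MulAut G)
    (haa : ∀ k : K, ι (a k) = a₀ (ι k)) {χ : G → ℂ} (hχ : Cfsg.IsIrrCharacter G χ)
    (hinvS : InvUnder S χ) (hχa : ∀ g : G, χ (a₀ g) = χ g)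
    (ψ : Cfsg.IrrCharacter K) (hrel : GlaubRelHom p ι χ (ψ : K → ℂ)) :
    ∀ k : K, (ψ : K → ℂ) (a k) = (ψ : K → ℂ) k := by
  have hψ' : Cfsg.IsIrrCharacter K ((ψ : K → ℂ) ∘ a) := IsIrrCharacter.comp_mulEquiv a ψ.2
  have hres : (χ ∘ ι) ∘ a = χ ∘ ι := by
    funext k
    simp only [Function.comp_apply]
    rw [haa, hχa]
  have hrel' : GlaubRelHom p ι χ ((ψ : K → ℂ) ∘ a) := by
    obtain ⟨m, hm, hnd⟩ := hrel
    refine ⟨m, ?_, hnd⟩
    have key : Cfsg.classInner ((χ ∘ ι) ∘ a) ((ψ : K → ℂ) ∘ a) =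
        Cfsg.classInner (χ ∘ ι) (ψ : K → ℂ) :=
      classInner_comp_equiv' a.toEquiv (χ ∘ ι) (ψ : K → ℂ)
    rw [hres] at key
    rw [key, hm]
  obtain ⟨ψ₁, -, hoth⟩ := St.1 χ hχ hinvS
  have e1 : ψ = ψ₁ := glaubRel_unique ι ψ₁ hoth ψ hrel
  have e2 : (⟨_, hψ'⟩ : Cfsg.IrrCharacter K) = ψ₁ := glaubRel_unique ι ψ₁ hoth _ hrel'
  have e3 := congrArg Subtype.val (e2.trans e1.symm)
  exact fun k => congrFun e3 k

end Cfsg.Agent.Helper6
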