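import Mathlib
import Cfsg.Prelude.Def_Characters
import Cfsg.Agent.Helper6.GlaubT

/-!
# Reduction of invariant characters and classes along a normal `p`-subgroup of automorphisms
-/

set_option autoImplicit false
set_option linter.style.haveILetI false
set_option linter.unusedSimpArgs false

namespace Cfsg.Agent.Helper6

open scoped ComplexConjugate

universe u

variable {G : Type u} [Group G] [Fintype G]

/-- The invariant irreducible characters of `G` under `A` correspond to the invariant irreducible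
characters of the fixed points of a normal `p`-subgroup of `A`. -/
theorem card_invariant_irr_reduce {p : ℕ} [hp : Fact p.Prime] (A : Subgroup (MulAut G))
    (M : Subgroup A) [hN : M.Normal] (hM : IsPGroup p M)
    (hcop : (Nat.card G).Coprime (Nat.card A)) (T : Subgroup (MulAut G))
    (hT : T = M.map A.subtype) (H : Subgroup G) (hH : ∀ g : G, g ∈ H ↔ ∀ t ∈ T, t g = g)
    [Fintype H] (hst : ∀ b ∈ A, ∀ g ∈ H, b g ∈ H) :
    Nat.card {χ : Cfsg.IrrCharacter G // InvUnder (A : Set (MulAut G)) (χ : G → ℂ)} =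
      Nat.card {ψ : Cfsg.IrrCharacter H //
        InvUnder (((restrictHom A H hst).range : Subgroup (MulAut H)) : Set (MulAut H))
          (ψ : H → ℂ)} := by
  classical
  have hTp : IsPGroup p T := by
    rw [hT]
    exact hM.map A.subtype
  have hTA : ∀ t ∈ T, t ∈ A := by
    intro t ht
    rw [hT] at ht
    obtain ⟨t', -, rfl⟩ := Subgroup.mem_map.mp ht
    exact t'.2
  have hcopT : (Nat.card G).Coprime (Nat.card T) := by
    apply Nat.Coprime.coprime_dvd_right _ hcop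
    rw [hT, Subgroup.card_map_of_injective A.subtype_injective]
    exact Subgroup.card_subgroup_dvd_card M
  have hrange : ∀ g : G, g ∈ H.subtype.range ↔ ∀ a ∈ T, a g = g := by
    intro g
    rw [Subgroup.range_subtype]
    exact hH g
  have St : GlaubStatement p (T : Set (MulAut G)) H.subtype :=
    glaubStatement_pgroup_coprime T hTp hcopT H.subtype Subtype.val_injective hrange
  have hnormA : ∀ a ∈ A, ∀ t ∈ T, a * t * a⁻¹ ∈ T := by
    intro a ha t ht
    rw [hT] at ht ⊢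
    obtain ⟨t', ht', rfl⟩ := Subgroup.mem_map.mp ht
    exact Subgroup.mem_map.mpr ⟨⟨a, ha⟩ * t' * ⟨a, ha⟩⁻¹, hN.conj_mem t' ht' ⟨a, ha⟩, rfl⟩
  have hsubT : ∀ χ : G → ℂ, InvUnder (A : Set (MulAut G)) χ → InvUnder (T : Set (MulAut G)) χ :=
    fun χ h a ha g => h a (hTA a ha) g
  have hF1 : ∀ χ : {χ : Cfsg.IrrCharacter G // InvUnder (A : Set (MulAut G)) (χ : G → ℂ)},
      ∃ ψ : Cfsg.IrrCharacter H, GlaubRelHom p H.subtype (χ.1 : G → ℂ) (ψ : H → ℂ) ∧
        InvUnder (((restrictHom A H hst).range : Subgroup (MulAut H)) : Set (MulAut H))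
          (ψ : H → ℂ) := by
    intro χ
    obtain ⟨ψ₀, ⟨m, hm, hpm⟩, -⟩ := St.1 χ.1 χ.1.2 (hsubT _ χ.2)
    have hrel : GlaubRelHom p H.subtype (χ.1 : G → ℂ) (ψ₀ : H → ℂ) :=
      ⟨m, hm, not_dvd_of_modEq_pm hp.out hpm⟩
    refine ⟨ψ₀, hrel, ?_⟩
    rintro a' ⟨a, rfl⟩ h
    exact glaub_equivariant₁ T H St (restrictHom A H hst a) a.1 (fun h => rfl) χ.1.2
      (hsubT _ χ.2) (fun g => χ.2 a.1 a.2 g) ψ₀ hrel h
  choose f hf1 hf2 using hF1
  have huniq : ∀ (χ : G → ℂ), Cfsg.IsIrrCharacter G χ → InvUnder (T : Set (MulAut G)) χ →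
      ∀ ψ ψ' : Cfsg.IrrCharacter H, GlaubRelHom p H.subtype χ (ψ : H → ℂ) →
        GlaubRelHom p H.subtype χ (ψ' : H → ℂ) → ψ = ψ' := by
    intro χ hχ hinv ψ ψ' h h'
    obtain ⟨ψ₁, -, hoth⟩ := St.1 χ hχ hinv
    exact (glaubRel_unique H.subtype ψ₁ hoth ψ h).trans
      (glaubRel_unique H.subtype ψ₁ hoth ψ' h').symm
  apply Nat.card_congr
  refine Equiv.ofBijective (fun χ => ⟨f χ, hf2 χ⟩) ⟨?_, ?_⟩
  · intro χ χ' h
    have h1 : f χ = f χ' := congrArg Subtype.val h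
    have h2 := hf1 χ
    rw [h1] at h2
    have := St.2.1 _ _ χ.1.2 (hsubT _ χ.2) χ'.1.2 (hsubT _ χ'.2) (f χ') h2 (hf1 χ')
    exact Subtype.ext (Subtype.ext this)
  · rintro ⟨ψ, hψ⟩
    obtain ⟨χ, hχ, hinvT, hrel⟩ := St.2.2 ψ
    have hinvA : InvUnder (A : Set (MulAut G)) χ := by
      intro a ha g
      exact glaub_equivariant₂ T H St (restrictHom A H hst ⟨a, ha⟩) a (fun h => rfl)
        (hnormA a ha) hχ hinvT ψ (fun h => hψ _ ⟨⟨a, ha⟩, rfl⟩ h) hrel g
    refine ⟨⟨⟨χ, hχ⟩, hinvA⟩, ?_⟩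
    apply Subtype.ext
    exact huniq χ hχ hinvT _ _ (hf1 ⟨⟨χ, hχ⟩, hinvA⟩) hrel

end Cfsg.Agent.Helper6
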