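import Mathlib
import Cfsg.Prelude.Def_Characters
import Cfsg.Agent.Helper6.GlaubAA
import Cfsg.Agent.Helper6.GlaubU

/-!
# Invariant characters over invariant characters of a normal subgroup: the induction step
-/

set_option autoImplicit false
set_option linter.style.haveILetI false
set_option linter.unusedSimpArgs false

namespace Cfsg.Agent.Helper6

open scoped ComplexConjugate

universe u

variable {G : Type u} [Group G] [Fintype G]

set_option maxHeartbeats 1600000 in
theorem exists_invariant_over_step {p : ℕ} [hp : Fact p.Prime] (A : Subgroup (MulAut G))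
    (M : Subgroup A) [hMn : M.Normal] (hM : IsPGroup p M) (hMne : M ≠ ⊥)
    (hcop : (Nat.card G).Coprime (Nat.card A)) (T : Subgroup (MulAut G))
    (hT : T = M.map A.subtype) (H : Subgroup G) (hH : ∀ g : G, g ∈ H ↔ ∀ t ∈ T, t g = g)
    [Fintype H] (hstH : ∀ b ∈ A, ∀ g ∈ H, b g ∈ H)
    (IH : ∀ (K : Subgroup H) [K.Normal] [Fintype K]
      (hstK : ∀ a' ∈ (restrictHom A H hstH).range, ∀ h ∈ K, a' h ∈ K) (γ : Cfsg.IrrCharacter K),
      (∀ (a' : (restrictHom A H hstH).range) (k : K),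
        (γ : K → ℂ) (restrictHom (restrictHom A H hstH).range K hstK a' k) = (γ : K → ℂ) k) →
      ∃ ψ : H → ℂ, Cfsg.IsIrrCharacter H ψ ∧
        InvUnder (((restrictHom A H hstH).range : Subgroup (MulAut H)) : Set (MulAut H)) ψ ∧
        Cfsg.classInner (ψ ∘ K.subtype) (γ : K → ℂ) ≠ 0)
    (N : Subgroup G) [hNn : N.Normal] [Fintype N] (hst : ∀ a ∈ A, ∀ g ∈ N, a g ∈ N)
    (θ : Cfsg.IrrCharacter N)
    (hθ : ∀ (a : A) (n : N), (θ : N → ℂ) (restrictHom A N hst a n) = (θ : N → ℂ) n) :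
    ∃ χ : G → ℂ, Cfsg.IsIrrCharacter G χ ∧ InvUnder (A : Set (MulAut G)) χ ∧
      Cfsg.classInner (χ ∘ N.subtype) (θ : N → ℂ) ≠ 0 := by
  classical
  have hTp : IsPGroup p T := by
    rw [hT]
    exact hM.map A.subtype
  have hTA : ∀ t ∈ T, t ∈ A := by
    intro t ht
    rw [hT] at ht
    obtain ⟨t', -, rfl⟩ := Subgroup.mem_map.mp ht
    exact t'.2
  have hcardT : Nat.card T ∣ Nat.card A := by
    rw [hT, Subgroup.card_map_of_injective A.subtype_injective]
    exact Subgroup.card_subgroup_dvd_card M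
  have hcopT : (Nat.card G).Coprime (Nat.card T) := Nat.Coprime.coprime_dvd_right hcardT hcop
  have hpA : p ∣ Nat.card A := by
    obtain ⟨k, hk⟩ := IsPGroup.iff_card.mp hM
    have hk0 : k ≠ 0 := by
      intro h0
      rw [h0, pow_zero] at hk
      exact hMne (Subgroup.card_eq_one.mp hk)
    have : p ∣ Nat.card M := by
      rw [hk]
      exact dvd_pow_self p hk0
    exact this.trans (Subgroup.card_subgroup_dvd_card M)
  have hpG : ¬ p ∣ Nat.card G := by
    intro hd
    have := Nat.Coprime.eq_one_of_dvd (Nat.Coprime.coprime_dvd_right hpA hcop).symm hd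
    exact hp.out.one_lt.ne' this
  have hrangeH : ∀ g : G, g ∈ H.subtype.range ↔ ∀ a ∈ T, a g = g := by
    intro g
    rw [Subgroup.range_subtype]
    exact hH g
  have StG : GlaubStatement p (T : Set (MulAut G)) H.subtype :=
    glaubStatement_pgroup_coprime T hTp hcopT H.subtype Subtype.val_injective hrangeH
  have hnormA : ∀ a ∈ A, ∀ t ∈ T, a * t * a⁻¹ ∈ T := by
    intro a ha t ht
    rw [hT] at ht ⊢
    obtain ⟨t', ht', rfl⟩ := Subgroup.mem_map.mp ht
    exact Subgroup.mem_map.mpr ⟨⟨a, ha⟩ * t' * ⟨a, ha⟩⁻¹, hMn.conj_mem t' ht' ⟨a, ha⟩, rfl⟩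
  -- the action of `T` on `N`
  have hstTN : ∀ t ∈ T, ∀ g ∈ N, t g ∈ N := fun t ht g hg => hst t (hTA t ht) g hg
  have hTNp : IsPGroup p (restrictHom T N hstTN).range :=
    hTp.of_surjective (restrictHom T N hstTN).rangeRestrict
      (restrictHom T N hstTN).rangeRestrict_surjective
  have hcopTN : (Nat.card N).Coprime (Nat.card (restrictHom T N hstTN).range) := by
    apply Nat.Coprime.coprime_dvd_left (Subgroup.card_subgroup_dvd_card N)
    exact Nat.Coprime.coprime_dvd_right (Subgroup.card_range_dvd _) hcopT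
  haveI : Fintype (N.subgroupOf H) := Fintype.ofFinite _
  have hrangeN : ∀ n : N, n ∈ (subgroupOfHom N H).range ↔
      ∀ a ∈ (restrictHom T N hstTN).range, a n = n := by
    intro n
    constructor
    · rintro ⟨k, rfl⟩ a ⟨t, rfl⟩
      apply Subtype.ext
      rw [restrictHom_apply, subgroupOfHom_apply]
      exact (hH _).mp k.1.2 t.1 t.2
    · intro h
      have hnH : (n : G) ∈ H := by
        rw [hH]
        intro t ht
        have := h (restrictHom T N hstTN ⟨t, ht⟩) ⟨⟨t, ht⟩, rfl⟩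
        exact congrArg Subtype.val this
      refine ⟨⟨⟨n.1, hnH⟩, ?_⟩, ?_⟩
      · rw [Subgroup.mem_subgroupOf]
        exact n.2
      · apply Subtype.ext
        rfl
  have StN : GlaubStatement p (((restrictHom T N hstTN).range : Subgroup (MulAut N)) :
      Set (MulAut N)) (subgroupOfHom N H) :=
    glaubStatement_pgroup_coprime _ hTNp hcopTN (subgroupOfHom N H) (subgroupOfHom_injective N H)
      hrangeN
  have hθinvTN : InvUnder (((restrictHom T N hstTN).range : Subgroup (MulAut N)) :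
      Set (MulAut N)) (θ : N → ℂ) := by
    rintro a' ⟨t, rfl⟩ n
    have := hθ ⟨t.1, hTA t.1 t.2⟩ n
    exact this
  obtain ⟨γ, ⟨mγ, hmγ, hpmγ⟩, -⟩ := StN.1 θ θ.2 hθinvTN
  have hrelN : GlaubRelHom p (subgroupOfHom N H) (θ : N → ℂ) (γ : N.subgroupOf H → ℂ) :=
    ⟨mγ, hmγ, not_dvd_of_modEq_pm hp.out hpmγ⟩
  -- stability of `K = N ∩ H` in `H`
  have hstK : ∀ a' ∈ (restrictHom A H hstH).range, ∀ h ∈ N.subgroupOf H, a' h ∈ N.subgroupOf H := by
    rintro a' ⟨a, rfl⟩ h hh
    rw [Subgroup.mem_subgroupOf] at hh ⊢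
    rw [restrictHom_apply]
    exact hst a.1 a.2 _ hh
  have hγinv : ∀ (a' : (restrictHom A H hstH).range) (k : N.subgroupOf H),
      (γ : N.subgroupOf H → ℂ) (restrictHom (restrictHom A H hstH).range (N.subgroupOf H) hstK a' k) =
        (γ : N.subgroupOf H → ℂ) k := by
    rintro ⟨a', a, rfl⟩ k
    exact glaub_equivariant_hom₁ _ (subgroupOfHom N H) StN
      (restrictHom (restrictHom A H hstH).range (N.subgroupOf H) hstK
        ⟨restrictHom A H hstH a, ⟨a, rfl⟩⟩)
      (restrictHom A N hst a) (fun k => Subtype.ext rfl) θ.2 hθinvTN (fun n => hθ a n) γ hrelN k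
  obtain ⟨ψ, hψ, hψinv, hψγ⟩ := IH (N.subgroupOf H) hstK γ hγinv
  obtain ⟨χ, hχ, hχinvT, hrelG⟩ := StG.2.2 ⟨ψ, hψ⟩
  have hχinvA : InvUnder (A : Set (MulAut G)) χ := by
    intro a ha g
    exact glaub_equivariant₂ T H StG (restrictHom A H hstH ⟨a, ha⟩) a (fun h => rfl)
      (hnormA a ha) hχ hχinvT ⟨ψ, hψ⟩ (fun h => hψinv _ ⟨⟨a, ha⟩, rfl⟩ h) hrelG g
  refine ⟨χ, hχ, hχinvA, ?_⟩
  obtain ⟨a, b, ha, hb, hab⟩ := glaub_relative_congr T hTp N hstTN H hH StG StN hχ hχinvT
    ⟨ψ, hψ⟩ hrelG θ hθinvTN γ hrelN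
  have hb0 : b ≠ 0 := by
    intro h0
    apply hψγ
    have hb' : Cfsg.classInner (ψ ∘ (N.subgroupOf H).subtype) (γ : N.subgroupOf H → ℂ) = (b : ℂ) := hb
    rw [hb', h0, Nat.cast_zero]
  have hbH : b ∣ Nat.card H :=
    clifford_mult_dvd_card (N.subgroupOf H) hψ γ.2 b hb hb0
  have hpb : ¬ p ∣ b := by
    intro hd
    exact hpG ((hd.trans hbH).trans (Subgroup.card_subgroup_dvd_card H))
  rw [ha]
  intro h0
  have : a = 0 := by exact_mod_cast h0
  apply hpb
  apply hab
  rw [this]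
  exact dvd_zero p

end Cfsg.Agent.Helper6
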