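import Mathlib
import Cfsg.Prelude.Def_Characters
import Cfsg.Agent.Helper6.GlaubAB
import Cfsg.Agent.Helper6.IrrOver
import Cfsg.Agent.Helper1.SZ

/-!
# Invariant characters over invariant characters of a normal subgroup (coprime solvable action)
-/

set_option autoImplicit false
set_option linter.style.haveILetI false
set_option linter.unusedSimpArgs false

namespace Cfsg.Agent.Helper6

open scoped ComplexConjugate

universe u

/-- the image of `A` acting on the fixed points of a nontrivial normal subgroup is smaller -/
theorem card_restrict_range_lt {G : Type u} [Group G] [Finite G] (A : Subgroup (MulAut G))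
    (M : Subgroup A) (hMne : M ≠ ⊥) (H : Subgroup G) (hstH : ∀ b ∈ A, ∀ g ∈ H, b g ∈ H)
    (hfix : ∀ m ∈ M, ∀ h ∈ H, (m : MulAut G) h = h) :
    Nat.card (restrictHom A H hstH).range < Nat.card A := by
  haveI : Fintype A := Fintype.ofFinite _
  haveI : Fintype (restrictHom A H hstH).range := Fintype.ofFinite _
  rw [Nat.card_eq_fintype_card, Nat.card_eq_fintype_card]
  apply Fintype.card_lt_of_surjective_not_injective (restrictHom A H hstH).rangeRestrict
    (restrictHom A H hstH).rangeRestrict_surjective
  intro hinj
  obtain ⟨m, hmM, hm1⟩ : ∃ m : A, m ∈ M ∧ m ≠ 1 := by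
    by_contra hcon
    push Not at hcon
    apply hMne
    rw [eq_bot_iff]
    intro x hx
    rw [Subgroup.mem_bot]
    exact hcon x hx
  apply hm1
  apply hinj
  apply Subtype.ext
  apply MulEquiv.ext
  intro h
  apply Subtype.ext
  change (m : MulAut G) h.1 = ((1 : A) : MulAut G) h.1
  rw [Subgroup.coe_one, MulAut.one_apply]
  exact hfix m hmM h.1 h.2

/-- For a solvable group `A` of automorphisms of `G` of coprime order and an `A`-stable normal
subgroup `N`, every `A`-invariant irreducible character of `N` lies under an `A`-invariant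
irreducible character of `G`. -/
theorem exists_invariant_over :
    ∀ (n : ℕ) {G : Type u} [Group G] [Fintype G] (A : Subgroup (MulAut G)), Nat.card A = n →
      Group.IsSolvable A → (Nat.card G).Coprime (Nat.card A) →
      ∀ (N : Subgroup G) [N.Normal] [Fintype N] (hst : ∀ a ∈ A, ∀ g ∈ N, a g ∈ N)
        (θ : Cfsg.IrrCharacter N),
        (∀ (a : A) (n : N), (θ : N → ℂ) (restrictHom A N hst a n) = (θ : N → ℂ) n) →
        ∃ χ : G → ℂ, Cfsg.IsIrrCharacter G χ ∧ InvUnder (A : Set (MulAut G)) χ ∧
          Cfsg.classInner (χ ∘ N.subtype) (θ : N → ℂ) ≠ 0 := by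
  intro n
  induction n using Nat.strong_induction_on with
  | _ n ih =>
    intro G _ _ A hn hsolv hcop N _ _ hst θ hθ
    by_cases hbot : A = ⊥
    · subst hbot
      obtain ⟨χ, hχ⟩ := exists_irr_over N θ
      refine ⟨χ, χ.2, ?_, hχ⟩
      intro a ha g
      rw [SetLike.mem_coe, Subgroup.mem_bot] at ha
      rw [ha]
      rfl
    · haveI : Nontrivial A := (Subgroup.nontrivial_iff_ne_bot A).mpr hbot
      haveI := hsolv
      obtain ⟨p, hp, M, hMn, hMne, hMp, -, -⟩ :=
        Cfsg.Agent.Helper1.exists_normal_pgroup_of_solvable A
      haveI := hp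
      haveI := hMn
      haveI : Fintype (fixedSub (M.map A.subtype)) := Fintype.ofFinite _
      have hstH := fixedSub_map_stable A M
      have hlt : Nat.card (restrictHom A (fixedSub (M.map A.subtype)) hstH).range < n := by
        rw [← hn]
        apply card_restrict_range_lt A M hMne
        intro m hm h hh
        exact hh _ (Subgroup.mem_map.mpr ⟨m, hm, rfl⟩)
      have hsolv' : Group.IsSolvable (restrictHom A (fixedSub (M.map A.subtype)) hstH).range :=
        Group.isSolvable_of_surjective
          (restrictHom A (fixedSub (M.map A.subtype)) hstH).rangeRestrict_surjective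
      have hcop' : (Nat.card (fixedSub (M.map A.subtype))).Coprime
          (Nat.card (restrictHom A (fixedSub (M.map A.subtype)) hstH).range) := by
        apply Nat.Coprime.coprime_dvd_left (Subgroup.card_subgroup_dvd_card _)
        exact Nat.Coprime.coprime_dvd_right (Subgroup.card_range_dvd _) hcop
      exact exists_invariant_over_step A M hMp hMne hcop (M.map A.subtype) rfl
        (fixedSub (M.map A.subtype)) (fun g => mem_fixedSub _ g) hstH
        (fun K _ _ hstK γ hγ => ih _ hlt _ rfl hsolv' hcop' K hstK γ hγ) N hst θ hθ

end Cfsg.Agent.Helper6
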