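import Mathlib
import Cfsg.Prelude.Def_Characters
import Cfsg.Agent.Helper6.GlaubU

/-!
# Reduction of invariant classes along a normal `p`-subgroup of automorphisms
-/

set_option autoImplicit false
set_option linter.style.haveILetI false
set_option linter.unusedSimpArgs false

namespace Cfsg.Agent.Helper6

universe u

variable {G : Type u} [Group G] [Finite G]

/-- The invariant classes of `G` under `A` correspond to the invariant classes of the fixed
points of a normal `p`-subgroup of `A`. -/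
theorem card_invariant_classes_reduce {p : ℕ} [hp : Fact p.Prime] (A : Subgroup (MulAut G))
    (M : Subgroup A) (hM : IsPGroup p M) (hcop : ¬ p ∣ Nat.card G)
    (T : Subgroup (MulAut G)) (hT : T = M.map A.subtype) (H : Subgroup G)
    (hH : ∀ g : G, g ∈ H ↔ ∀ t ∈ T, t g = g) (hst : ∀ b ∈ A, ∀ g ∈ H, b g ∈ H) :
    Nat.card {K : ConjClasses G // ∀ a ∈ A, ConjClasses.map (a : G ≃* G).toMonoidHom K = K} =
      Nat.card {L : ConjClasses H // ∀ a' ∈ (restrictHom A H hst).range,
        ConjClasses.map (a' : H ≃* H).toMonoidHom L = L} := by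
  classical
  have hTp : IsPGroup p T := by
    rw [hT]
    exact hM.map A.subtype
  have hTA : ∀ t ∈ T, t ∈ A := by
    intro t ht
    rw [hT] at ht
    obtain ⟨t', -, rfl⟩ := Subgroup.mem_map.mp ht
    exact t'.2
  -- conjugacy in `H` of elements of `H` conjugate in `G`
  have hconjH : ∀ x y : H, IsConj (x : G) (y : G) → IsConj x y := by
    intro x y hxy
    obtain ⟨z, hz, hzc⟩ := exists_fixed_conj T hTp hcop ((hH x.1).mp x.2) ((hH y.1).mp y.2) hxy
    rw [isConj_iff]
    exact ⟨⟨z, (hH z).mpr hz⟩, Subtype.ext hzc⟩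
  symm
  apply Nat.card_congr
  refine Equiv.ofBijective (fun L => ⟨ConjClasses.map H.subtype L.1, ?_⟩) ⟨?_, ?_⟩
  · intro a ha
    obtain ⟨L, hL⟩ := L
    obtain ⟨h, rfl⟩ := ConjClasses.exists_rep L
    have h1 := hL (restrictHom A H hst ⟨a, ha⟩) ⟨⟨a, ha⟩, rfl⟩
    rw [conjClasses_map_mk'] at h1
    have h2 := congrArg (ConjClasses.map H.subtype) h1
    rw [conjClasses_map_mk', conjClasses_map_mk'] at h2
    rw [conjClasses_map_mk', conjClasses_map_mk']
    exact h2
  · rintro ⟨L, hL⟩ ⟨L', hL'⟩ hLL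
    obtain ⟨c, rfl⟩ := ConjClasses.exists_rep L
    obtain ⟨c', rfl⟩ := ConjClasses.exists_rep L'
    have h1 := congrArg Subtype.val hLL
    simp only [conjClasses_map_mk'] at h1
    apply Subtype.ext
    simp only
    rw [ConjClasses.mk_eq_mk_iff_isConj] at h1 ⊢
    exact hconjH c c' h1
  · rintro ⟨K, hK⟩
    obtain ⟨g₀, hg₀, hg₀K⟩ := exists_fixed_in_class T hTp hcop K (fun a ha => hK a (hTA a ha))
    have hg₀H : g₀ ∈ H := (hH g₀).mpr hg₀
    refine ⟨⟨ConjClasses.mk ⟨g₀, hg₀H⟩, ?_⟩, ?_⟩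
    · rintro a' ⟨a, rfl⟩
      rw [conjClasses_map_mk', ConjClasses.mk_eq_mk_iff_isConj]
      apply hconjH
      rw [← ConjClasses.mk_eq_mk_iff_isConj]
      have h1 := hK a.1 a.2
      rw [← hg₀K, conjClasses_map_mk'] at h1
      exact h1
    · apply Subtype.ext
      simp only [conjClasses_map_mk']
      exact hg₀K

end Cfsg.Agent.Helper6
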