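import Mathlib
import Cfsg.Prelude.Def_Characters
import Cfsg.Agent.Helper6.GlaubV
import Cfsg.Agent.Helper1.SZ

/-!
# Invariant characters and invariant classes under a coprime solvable group of automorphisms
-/

set_option autoImplicit false
set_option linter.style.haveILetI false
set_option linter.unusedSimpArgs false

namespace Cfsg.Agent.Helper6

universe u

/-- For a solvable group `A` of automorphisms of `G` of coprime order, the number of invariant
irreducible characters equals the number of invariant conjugacy classes. -/
theorem card_invariant_irr_eq_card_invariant_classes :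
    ∀ (n : ℕ) {G : Type u} [Group G] [Fintype G] (A : Subgroup (MulAut G)), Nat.card A = n →
      Group.IsSolvable A → (Nat.card G).Coprime (Nat.card A) →
      Nat.card {χ : Cfsg.IrrCharacter G // InvUnder (A : Set (MulAut G)) (χ : G → ℂ)} =
        Nat.card {K : ConjClasses G //
          ∀ a ∈ A, ConjClasses.map (a : G ≃* G).toMonoidHom K = K} := by
  intro n
  induction n using Nat.strong_induction_on with
  | _ n ih =>
    intro G _ _ A hn hsolv hcop
    by_cases hbot : A = ⊥
    · subst hbot
      have h1 : Nat.card {χ : Cfsg.IrrCharacter G //
          InvUnder (((⊥ : Subgroup (MulAut G))) : Set (MulAut G)) (χ : G → ℂ)} =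
          Nat.card (Cfsg.IrrCharacter G) := by
        apply Nat.card_congr
        apply Equiv.subtypeUnivEquiv
        intro χ a ha g
        rw [SetLike.mem_coe, Subgroup.mem_bot] at ha
        rw [ha]
        rfl
      have h2 : Nat.card {K : ConjClasses G //
          ∀ a ∈ (⊥ : Subgroup (MulAut G)), ConjClasses.map (a : G ≃* G).toMonoidHom K = K} =
          Nat.card (ConjClasses G) := by
        apply Nat.card_congr
        apply Equiv.subtypeUnivEquiv
        intro K a ha
        rw [Subgroup.mem_bot] at ha
        rw [ha]
        obtain ⟨g, rfl⟩ := ConjClasses.exists_rep K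
        rfl
      rw [h1, h2, card_irr_eq_card_conjClasses]
    · haveI : Nontrivial A := (Subgroup.nontrivial_iff_ne_bot A).mpr hbot
      haveI := hsolv
      obtain ⟨p, hp, M, hMn, hMne, hMp, -, -⟩ :=
        Cfsg.Agent.Helper1.exists_normal_pgroup_of_solvable A
      haveI := hp
      haveI := hMn
      set T : Subgroup (MulAut G) := M.map A.subtype with hT
      haveI : Fintype (fixedSub T) := Fintype.ofFinite _
      have hst := fixedSub_map_stable A M
      have hpM : p ∣ Nat.card M := by
        obtain ⟨k, hk⟩ := IsPGroup.iff_card.mp hMp
        have hk0 : k ≠ 0 := by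
          intro h0
          rw [h0, pow_zero] at hk
          exact hMne (Subgroup.card_eq_one.mp hk)
        rw [hk]
        exact dvd_pow_self p hk0
      have hpA : p ∣ Nat.card A := hpM.trans (Subgroup.card_subgroup_dvd_card M)
      have hpG : ¬ p ∣ Nat.card G := by
        intro hd
        have := Nat.Coprime.eq_one_of_dvd (Nat.Coprime.coprime_dvd_right hpA hcop).symm hd
        exact hp.out.one_lt.ne' this
      rw [card_invariant_irr_reduce A M hMp hcop T hT (fixedSub T) (fun g => mem_fixedSub T g) hst,
        card_invariant_classes_reduce A M hMp hpG T hT (fixedSub T)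
          (fun g => mem_fixedSub T g) hst]
      -- the image of `A` is smaller
      have hlt : Nat.card (restrictHom A (fixedSub T) hst).range < n := by
        rw [← hn]
        haveI : Fintype A := Fintype.ofFinite _
        haveI : Fintype (restrictHom A (fixedSub T) hst).range := Fintype.ofFinite _
        rw [Nat.card_eq_fintype_card, Nat.card_eq_fintype_card]
        apply Fintype.card_lt_of_surjective_not_injective
          (restrictHom A (fixedSub T) hst).rangeRestrict
          (restrictHom A (fixedSub T) hst).rangeRestrict_surjective
        intro hinj
        obtain ⟨m, hmM, hm1⟩ : ∃ m : A, m ∈ M ∧ m ≠ 1 := by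
          by_contra hcon
          push Not at hcon
          apply hMne
          rw [eq_bot_iff]
          intro x hx
          rw [Subgroup.mem_bot]
          exact hcon x hx
        apply hm1
        apply hinj
        apply Subtype.ext
        apply MulEquiv.ext
        intro h
        apply Subtype.ext
        change (m : MulAut G) h.1 = ((1 : A) : MulAut G) h.1
        rw [Subgroup.coe_one, MulAut.one_apply]
        exact h.2 _ (Subgroup.mem_map.mpr ⟨m, hmM, rfl⟩)
      apply ih _ hlt _ rfl
      · exact Group.isSolvable_of_surjective (restrictHom A (fixedSub T) hst).rangeRestrict_surjective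
      · apply Nat.Coprime.coprime_dvd_left (Subgroup.card_subgroup_dvd_card (fixedSub T))
        exact Nat.Coprime.coprime_dvd_right (Subgroup.card_range_dvd _) hcop

end Cfsg.Agent.Helper6
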