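import Mathlib
import Cfsg.Prelude.Def_Characters
import Cfsg.Agent.Helper6.GlaubW
import Cfsg.Agent.Helper6.GlaubAC
import Cfsg.Agent.Helper6.BrauerPerm2

/-!
# Invariant irreducible characters under a coprime solvable group of automorphisms are as many
as the irreducible characters of the fixed-point subgroup
-/

set_option autoImplicit false
set_option linter.style.haveILetI false
set_option linter.unusedSimpArgs false

namespace Cfsg.Agent.Helper6

universe u v

/-- isomorphic groups have the same number of irreducible characters -/
theorem card_irr_congr {X : Type u} {Y : Type v} [Group X] [Group Y] [Finite X] [Finite Y]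
    (e : X ≃* Y) : Nat.card (Cfsg.IrrCharacter X) = Nat.card (Cfsg.IrrCharacter Y) := by
  apply Nat.card_congr
  refine ⟨fun χ => ⟨(χ : X → ℂ) ∘ e.symm, IsIrrCharacter.comp_mulEquiv e.symm χ.2⟩,
    fun ψ => ⟨(ψ : Y → ℂ) ∘ e, IsIrrCharacter.comp_mulEquiv e ψ.2⟩, ?_, ?_⟩
  · intro χ
    apply Subtype.ext
    funext x
    simp
  · intro ψ
    apply Subtype.ext
    funext y
    simp

/-- the fixed points of the restricted action are the fixed points -/
def fixedSubRestrictEquiv {G : Type u} [Group G] (A : Subgroup (MulAut G)) (H : Subgroup G)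
    (hst : ∀ b ∈ A, ∀ g ∈ H, b g ∈ H) (hle : fixedSub A ≤ H) :
    fixedSub ((restrictHom A H hst).range) ≃* fixedSub A where
  toFun x := ⟨x.1.1, by
    intro a ha
    have h1 := x.2 (restrictHom A H hst ⟨a, ha⟩) ⟨⟨a, ha⟩, rfl⟩
    have h2 := congrArg Subtype.val h1
    rwa [restrictHom_apply] at h2⟩
  invFun y := ⟨⟨y.1, hle y.2⟩, by
    rintro a' ⟨a, rfl⟩
    apply Subtype.ext
    rw [restrictHom_apply]
    exact y.2 a.1 a.2⟩
  left_inv x := Subtype.ext (Subtype.ext rfl)
  right_inv y := Subtype.ext rfl
  map_mul' x y := Subtype.ext rfl

/-- For a solvable group `A` of automorphisms of `G` of coprime order, the number of invariant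
irreducible characters equals the number of irreducible characters of the fixed-point subgroup. -/
theorem card_invariant_irr_eq_card_irr_fixedSub :
    ∀ (n : ℕ) {G : Type u} [Group G] [Fintype G] (A : Subgroup (MulAut G)), Nat.card A = n →
      Group.IsSolvable A → (Nat.card G).Coprime (Nat.card A) →
      Nat.card {χ : Cfsg.IrrCharacter G // InvUnder (A : Set (MulAut G)) (χ : G → ℂ)} =
        Nat.card (Cfsg.IrrCharacter (fixedSub A)) := by
  intro n
  induction n using Nat.strong_induction_on with
  | _ n ih =>
    intro G _ _ A hn hsolv hcop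
    by_cases hbot : A = ⊥
    · subst hbot
      have h1 : Nat.card {χ : Cfsg.IrrCharacter G //
          InvUnder (((⊥ : Subgroup (MulAut G))) : Set (MulAut G)) (χ : G → ℂ)} =
          Nat.card (Cfsg.IrrCharacter G) := by
        apply Nat.card_congr
        apply Equiv.subtypeUnivEquiv
        intro χ a ha g
        rw [SetLike.mem_coe, Subgroup.mem_bot] at ha
        rw [ha]
        rfl
      have htop : fixedSub (⊥ : Subgroup (MulAut G)) = ⊤ := by
        rw [eq_top_iff]
        intro g _ a ha
        rw [Subgroup.mem_bot] at ha
        rw [ha]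
        rfl
      rw [h1]
      have e : (fixedSub (⊥ : Subgroup (MulAut G))) ≃* G :=
        (MulEquiv.subgroupCongr htop).trans Subgroup.topEquiv
      exact (card_irr_congr e).symm
    · haveI : Nontrivial A := (Subgroup.nontrivial_iff_ne_bot A).mpr hbot
      haveI := hsolv
      obtain ⟨p, hp, M, hMn, hMne, hMp, -, -⟩ :=
        Cfsg.Agent.Helper1.exists_normal_pgroup_of_solvable A
      haveI := hp
      haveI := hMn
      set T : Subgroup (MulAut G) := M.map A.subtype with hT
      haveI : Fintype (fixedSub T) := Fintype.ofFinite _
      have hst := fixedSub_map_stable A M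
      rw [card_invariant_irr_reduce A M hMp hcop T hT (fixedSub T) (fun g => mem_fixedSub T g) hst]
      have hlt : Nat.card (restrictHom A (fixedSub T) hst).range < n := by
        rw [← hn]
        apply card_restrict_range_lt A M hMne
        intro m hm h hh
        exact hh _ (Subgroup.mem_map.mpr ⟨m, hm, rfl⟩)
      have hle : fixedSub A ≤ fixedSub T := by
        intro g hg t ht
        obtain ⟨t', -, rfl⟩ := Subgroup.mem_map.mp ht
        exact hg _ t'.2
      rw [ih _ hlt _ rfl
        (Group.isSolvable_of_surjective (restrictHom A (fixedSub T) hst).rangeRestrict_surjective)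
        (Nat.Coprime.coprime_dvd_left (Subgroup.card_subgroup_dvd_card (fixedSub T))
          (Nat.Coprime.coprime_dvd_right (Subgroup.card_range_dvd _) hcop))]
      exact card_irr_congr (fixedSubRestrictEquiv A (fixedSub T) hst hle)

end Cfsg.Agent.Helper6
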