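import Mathlib
import Cfsg.Prelude.Def_Characters
import Cfsg.Agent.Helper6.GlaubO

/-!
# Group-theoretic preparations for the count of characters of coprime degree
-/

set_option autoImplicit false
set_option linter.style.haveILetI false
set_option linter.unusedSimpArgs false

namespace Cfsg.Agent.Helper6

universe u v

variable {X : Type u} [Group X]

/-- Linear characters trivial on a normal subgroup `K` correspond to the linear characters of a
complement. -/
theorem card_hom_trivial_on_eq (K : Subgroup X) [hK : K.Normal] {H₀ : Type v} [Group H₀]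
    (ι : H₀ →* X)
    (hint : ∀ h : H₀, ι h ∈ K → h = 1) (hdec : ∀ x : X, ∃ k ∈ K, ∃ h : H₀, x = k * ι h) :
    Nat.card {μ : X →* ℂˣ // ∀ k ∈ K, μ k = 1} = Nat.card (H₀ →* ℂˣ) := by
  have hbij : Function.Bijective ((QuotientGroup.mk' K).comp ι) := by
    constructor
    · rw [injective_iff_map_eq_one]
      intro h hh
      rw [MonoidHom.comp_apply, QuotientGroup.mk'_apply, QuotientGroup.eq_one_iff] at hh
      exact hint h hh
    · intro q
      obtain ⟨x, rfl⟩ := QuotientGroup.mk'_surjective K q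
      obtain ⟨k, hk, h, rfl⟩ := hdec x
      refine ⟨h, ?_⟩
      rw [MonoidHom.comp_apply, map_mul]
      have : QuotientGroup.mk' K k = 1 := by
        rw [QuotientGroup.mk'_apply, QuotientGroup.eq_one_iff]
        exact hk
      rw [this, one_mul]
  let e : H₀ ≃* X ⧸ K := MulEquiv.ofBijective _ hbij
  have he : ∀ h : H₀, e h = QuotientGroup.mk' K (ι h) := fun _ => rfl
  apply Nat.card_congr
  refine Equiv.ofBijective (fun μ => μ.1.comp ι) ⟨?_, ?_⟩
  · intro μ μ' h
    apply Subtype.ext
    ext1 x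
    obtain ⟨k, hk, h₀, rfl⟩ := hdec x
    rw [map_mul, map_mul, μ.2 k hk, μ'.2 k hk]
    have := congrArg (fun f : H₀ →* ℂˣ => f h₀) h
    simp only [MonoidHom.comp_apply] at this
    rw [this]
  · intro ν
    refine ⟨⟨(ν.comp e.symm.toMonoidHom).comp (QuotientGroup.mk' K), ?_⟩, ?_⟩
    · intro k hk
      have : QuotientGroup.mk' K k = 1 := by
        rw [QuotientGroup.mk'_apply, QuotientGroup.eq_one_iff]
        exact hk
      rw [MonoidHom.comp_apply, this, map_one]
    · ext1 h
      simp only [MonoidHom.comp_apply, MulEquiv.toMonoidHom_eq_coe, MonoidHom.coe_coe]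
      rw [← he, MulEquiv.symm_apply_apply]

/-- the index of a normal subgroup with a complement -/
theorem index_eq_card_of_complement (K H : Subgroup X) [hK : K.Normal] (hint : K ⊓ H = ⊥)
    (hsup : K ⊔ H = ⊤) : K.index = Nat.card H := by
  have h1 : K.relIndex (H ⊔ K) = K.relIndex H := Subgroup.relIndex_sup_right H K
  rw [sup_comm, hsup, Subgroup.relIndex_top_right] at h1
  rw [h1, ← Subgroup.inf_relIndex_right, hint, Subgroup.relIndex_bot_left]

/-- elements of a normal subgroup normalizing a complement centralize it -/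
theorem commute_of_mem_normalizer (K H : Subgroup X) [hK : K.Normal] (hint : K ⊓ H = ⊥)
    (x : X) (hxK : x ∈ K) (hxN : x ∈ Subgroup.normalizer (H : Set X)) (h : X) (hh : h ∈ H) :
    h * x * h⁻¹ = x := by
  have h1 : x * h * x⁻¹ * h⁻¹ ∈ K ⊓ H := by
    rw [Subgroup.mem_inf]
    constructor
    · have : x * h * x⁻¹ * h⁻¹ = x * (h * x⁻¹ * h⁻¹) := by group
      rw [this]
      exact K.mul_mem hxK (hK.conj_mem _ (K.inv_mem hxK) h)
    · exact H.mul_mem ((Subgroup.mem_normalizer_iff.mp hxN h).mp hh) (H.inv_mem hh)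
  rw [hint, Subgroup.mem_bot] at h1
  have h2 : x * h = h * x := by
    have : x * h = (x * h * x⁻¹ * h⁻¹) * (h * x) := by group
    rw [this, h1, one_mul]
  calc h * x * h⁻¹ = (h * x) * h⁻¹ := rfl
    _ = (x * h) * h⁻¹ := by rw [h2]
    _ = x := by group

/-- the conjugation action of a subgroup on a normal subgroup -/
def conjActHom (K H : Subgroup X) [hK : K.Normal] : H →* MulAut K :=
  (MulAut.conjNormal (H := K)).comp H.subtype

theorem conjActHom_apply (K H : Subgroup X) [hK : K.Normal] (h : H) (k : K) :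
    ((conjActHom K H h k : K) : X) = (h : X) * k * (h : X)⁻¹ := rfl

/-- the fixed points of the conjugation action of a complement are the elements of `K` in the
normalizer of the complement -/
def fixedSubNormalizerEquiv (K H : Subgroup X) [hK : K.Normal] (hint : K ⊓ H = ⊥) :
    fixedSub (conjActHom K H).range ≃* K.subgroupOf (Subgroup.normalizer (H : Set X)) where
  toFun x := ⟨⟨x.1.1, by
    rw [Subgroup.mem_normalizer_iff]
    intro h
    have hfix : ∀ h' : X, h' ∈ H → h' * (x.1.1 : X) * h'⁻¹ = x.1.1 := by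
      intro h' hh'
      have h1 := x.2 (conjActHom K H ⟨h', hh'⟩) ⟨⟨h', hh'⟩, rfl⟩
      have h2 := congrArg Subtype.val h1
      rwa [conjActHom_apply] at h2
    constructor
    · intro hh
      have h1 := hfix h hh
      have h2 : (x.1.1 : X) * h * (x.1.1 : X)⁻¹ = h := by
        have h3 : h * (x.1.1 : X) = (x.1.1 : X) * h := by
          calc h * (x.1.1 : X) = (h * (x.1.1 : X) * h⁻¹) * h := by group
            _ = (x.1.1 : X) * h := by rw [h1]
        calc (x.1.1 : X) * h * (x.1.1 : X)⁻¹ = (h * (x.1.1 : X)) * (x.1.1 : X)⁻¹ := by rw [h3]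
          _ = h := by group
      rw [h2]
      exact hh
    · intro hh
      have h1 := hfix _ hh
      have h2 : h = (x.1.1 : X)⁻¹ * ((x.1.1 : X) * h * (x.1.1 : X)⁻¹) * (x.1.1 : X) := by group
      have h3 : ((x.1.1 : X) * h * (x.1.1 : X)⁻¹) * (x.1.1 : X) =
          (x.1.1 : X) * ((x.1.1 : X) * h * (x.1.1 : X)⁻¹) := by
        calc ((x.1.1 : X) * h * (x.1.1 : X)⁻¹) * (x.1.1 : X)
            = (((x.1.1 : X) * h * (x.1.1 : X)⁻¹) * (x.1.1 : X) *
              ((x.1.1 : X) * h * (x.1.1 : X)⁻¹)⁻¹) * ((x.1.1 : X) * h * (x.1.1 : X)⁻¹) := by group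
          _ = (x.1.1 : X) * ((x.1.1 : X) * h * (x.1.1 : X)⁻¹) := by rw [h1]
      rw [h2, mul_assoc, h3, ← mul_assoc, inv_mul_cancel, one_mul]
      exact hh⟩, by
    rw [Subgroup.mem_subgroupOf]
    exact x.1.2⟩
  invFun y := ⟨⟨y.1.1, Subgroup.mem_subgroupOf.mp y.2⟩, by
    rintro a ⟨h, rfl⟩
    apply Subtype.ext
    rw [conjActHom_apply]
    exact commute_of_mem_normalizer K H hint y.1.1 (Subgroup.mem_subgroupOf.mp y.2) y.1.2 h.1 h.2⟩
  left_inv x := Subtype.ext (Subtype.ext rfl)
  right_inv y := Subtype.ext (Subtype.ext rfl)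
  map_mul' x y := Subtype.ext (Subtype.ext rfl)

end Cfsg.Agent.Helper6
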