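import Mathlib
import Cfsg.Prelude.Def_Characters
import Cfsg.Agent.Helper6.CopB
import Cfsg.Agent.Helper6.CopD
import Cfsg.Agent.Helper6.NormalInd
import Cfsg.Agent.Helper6.IrrCount

/-!
# Counting the irreducible characters of a normal subgroup invariant under a coprime abelian
group of conjugations whose fixed points form an abelian subgroup
-/

set_option autoImplicit false
set_option linter.style.haveILetI false
set_option linter.unusedSimpArgs false

namespace Cfsg.Agent.Helper6

universe u

variable {X : Type u} [Group X]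

/-- The number of irreducible characters of `K` invariant under conjugation by the solvable
subgroup `Y` of coprime order is the number of irreducible characters of the fixed points. -/
theorem card_conj_invariant_irr [Fintype X] (K Y : Subgroup X) [hK : K.Normal]
    (hsolv : Group.IsSolvable Y) (hcop : (Nat.card K).Coprime (Nat.card Y)) :
    Nat.card {θ : Cfsg.IrrCharacter K // ∀ y ∈ Y, conjFun K (θ : K → ℂ) y = θ} =
      Nat.card (Cfsg.IrrCharacter (fixedSub (conjActHom K Y).range)) := by
  haveI : Fintype K := Fintype.ofFinite K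
  haveI := hsolv
  rw [← card_invariant_irr_eq_card_irr_fixedSub _ (conjActHom K Y).range rfl
    (Group.isSolvable_of_surjective (conjActHom K Y).rangeRestrict_surjective)
    (Nat.Coprime.coprime_dvd_right (Subgroup.card_range_dvd _) hcop)]
  apply Nat.card_congr
  apply Equiv.subtypeEquivRight
  intro θ
  constructor
  · rintro h a ⟨y, rfl⟩ k
    exact congrFun (h y.1 y.2) k
  · intro h y hy
    funext k
    exact h _ ⟨⟨y, hy⟩, rfl⟩ k

/-- the fixed points of conjugation by `Y` on `K`, as a subgroup `Z` of the ambient group -/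
def fixedSubConjEquiv (K Y Z : Subgroup X) [hK : K.Normal] (hZK : Z ≤ K)
    (hZ : ∀ k ∈ K, k ∈ Z ↔ ∀ y ∈ Y, y * k * y⁻¹ = k) :
    fixedSub (conjActHom K Y).range ≃* Z where
  toFun x := ⟨x.1.1, (hZ _ x.1.2).mpr (fun y hy => by
      have h1 := x.2 (conjActHom K Y ⟨y, hy⟩) ⟨⟨y, hy⟩, rfl⟩
      have h2 := congrArg Subtype.val h1
      rwa [conjActHom_apply] at h2)⟩
  invFun z := ⟨⟨z.1, hZK z.2⟩, by
      rintro a ⟨y, rfl⟩
      apply Subtype.ext
      rw [conjActHom_apply]
      exact (hZ _ (hZK z.2)).mp z.2 y.1 y.2⟩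
  left_inv x := Subtype.ext (Subtype.ext rfl)
  right_inv z := Subtype.ext rfl
  map_mul' x y := Subtype.ext rfl

/-- an abelian group has as many irreducible characters as elements -/
theorem card_irr_of_comm {G : Type u} [Group G] [Finite G] (hc : ∀ a b : G, a * b = b * a) :
    Nat.card (Cfsg.IrrCharacter G) = Nat.card G := by
  rw [card_irr_eq_card_conjClasses]
  symm
  apply Nat.card_congr
  refine Equiv.ofBijective ConjClasses.mk ⟨?_, ConjClasses.mk_surjective⟩
  intro a b hab
  rw [ConjClasses.mk_eq_mk_iff_isConj, isConj_iff] at hab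
  obtain ⟨c, hc'⟩ := hab
  rw [← hc', hc c a, mul_inv_cancel_right]

/-- The number of irreducible characters of `K` invariant under conjugation by the abelian
subgroup `Y` of coprime order with abelian fixed points `Z` is the order of `Z`. -/
theorem card_conj_invariant_irr_eq [Fintype X] (K Y Z : Subgroup X) [hK : K.Normal]
    (hYc : ∀ a ∈ Y, ∀ b ∈ Y, a * b = b * a) (hcop : (Nat.card K).Coprime (Nat.card Y))
    (hZK : Z ≤ K) (hZc : ∀ a ∈ Z, ∀ b ∈ Z, a * b = b * a)
    (hZ : ∀ k ∈ K, k ∈ Z ↔ ∀ y ∈ Y, y * k * y⁻¹ = k) :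
    Nat.card {θ : Cfsg.IrrCharacter K // ∀ y ∈ Y, conjFun K (θ : K → ℂ) y = θ} =
      Nat.card Z := by
  rw [card_conj_invariant_irr K Y
    (Group.isSolvable_of_comm fun a b => Subtype.ext (hYc a a.2 b b.2)) hcop,
    card_irr_congr (fixedSubConjEquiv K Y Z hZK hZ)]
  exact card_irr_of_comm fun a b => Subtype.ext (hZc a a.2 b b.2)

/-- If a subgroup and a larger one leave equally many irreducible characters invariant, they
leave the same ones invariant. -/
theorem conj_invariant_of_card_eq [Fintype X] (K Y₁ Y₂ : Subgroup X) [hK : K.Normal]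
    (hle : Y₁ ≤ Y₂)
    (hcard : Nat.card {θ : Cfsg.IrrCharacter K // ∀ y ∈ Y₁, conjFun K (θ : K → ℂ) y = θ} =
      Nat.card {θ : Cfsg.IrrCharacter K // ∀ y ∈ Y₂, conjFun K (θ : K → ℂ) y = θ})
    (θ : Cfsg.IrrCharacter K) (h : ∀ y ∈ Y₁, conjFun K (θ : K → ℂ) y = θ) :
    ∀ y ∈ Y₂, conjFun K (θ : K → ℂ) y = θ := by
  haveI : Finite (Cfsg.IrrCharacter K) := irr_finite
  let f : {θ : Cfsg.IrrCharacter K // ∀ y ∈ Y₂, conjFun K (θ : K → ℂ) y = θ} →
      {θ : Cfsg.IrrCharacter K // ∀ y ∈ Y₁, conjFun K (θ : K → ℂ) y = θ} :=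
    fun θ => ⟨θ.1, fun y hy => θ.2 y (hle hy)⟩
  have hinj : Function.Injective f := by
    intro a b hab
    apply Subtype.ext
    exact congrArg (fun z => z.1) hab
  have hbij := hinj.bijective_of_nat_card_le hcard.le
  obtain ⟨θ', hθ'⟩ := hbij.2 ⟨θ, h⟩
  have h1 : θ'.1 = θ := congrArg Subtype.val hθ'
  rw [← h1]
  exact θ'.2

end Cfsg.Agent.Helper6
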