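import Mathlib
import Cfsg.Prelude.Def_Characters
import Cfsg.Agent.Helper6.GaloisChar
import Cfsg.Agent.Helper6.Ito
import Cfsg.Agent.Helper6.ColumnOrth
import Cfsg.Agent.Helper6.Codegree
import Cfsg.Agent.Helper6.Inflation
import Cfsg.Agent.Helper6.IrrCount
import Cfsg.Agent.Helper6.CycloVanish

/-!
# The `k(GV)` bound from second orthogonality at an element of `V`
-/

set_option autoImplicit false
set_option linter.style.haveILetI false

namespace Cfsg.Agent.Helper6

open Module
open scoped ComplexConjugate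

universe u

variable {X : Type u} [Group X]

/-- the number of conjugacy classes is invariant under isomorphism -/
theorem card_conjClasses_congr {K K' : Type*} [Group K] [Group K'] (φ : K ≃* K') :
    Nat.card (ConjClasses K) = Nat.card (ConjClasses K') := by
  apply Nat.card_congr
  refine ⟨ConjClasses.map φ.toMonoidHom, ConjClasses.map φ.symm.toMonoidHom, ?_, ?_⟩
  · intro c
    obtain ⟨a, rfl⟩ := ConjClasses.mk_surjective c
    show ConjClasses.mk (φ.symm (φ a)) = ConjClasses.mk a
    rw [φ.symm_apply_apply]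
  · intro c
    obtain ⟨a, rfl⟩ := ConjClasses.mk_surjective c
    show ConjClasses.mk (φ (φ.symm a)) = ConjClasses.mk a
    rw [φ.apply_symm_apply]

/-- an irreducible character of a group with an abelian normal Sylow `p`-subgroup `V` does not
vanish on `V` -/
theorem irr_apply_ne_zero_of_abelian_sylow [Finite X] (p : ℕ) [hp : Fact p.Prime]
    (V : Subgroup X) [V.Normal] (hVp : IsPGroup p V) (hidx : ¬ p ∣ V.index)
    (hab : ∀ a ∈ V, ∀ b ∈ V, a * b = b * a) (χ : Cfsg.IrrCharacter X) (v : X) (hv : v ∈ V) :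
    (χ : X → ℂ) v ≠ 0 := by
  classical
  obtain ⟨m, ρ, hirr, hχ⟩ := χ.2
  haveI := hirr
  intro h0
  obtain ⟨ι, hι, b, μ, h1, h2, hcard⟩ := exists_eigenbasis_rep ρ v
  obtain ⟨j, hj⟩ := (IsPGroup.iff_orderOf.mp hVp) ⟨v, hv⟩
  have hord : orderOf v = p ^ j := by
    rw [← hj]
    exact (Subgroup.orderOf_mk v hv).symm
  have hμ : ∀ i, μ i ^ (p ^ (j + 1)) = 1 := by
    intro i
    rw [pow_succ, pow_mul, ← hord, h2 i, one_pow]
  have hsum : ∑ i, μ i = 0 := by
    have := char_pow_eq_sum ρ v b μ h1 1
    rw [pow_one] at this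
    simp only [pow_one] at this
    rw [← this, hχ]
    exact h0
  have hdvd := prime_dvd_card_of_sum_roots_eq_zero p j μ hμ hsum
  rw [hcard] at hdvd
  exact hidx (hdvd.trans (ito ρ V hab))

/-- the centralizer of a power of `v` coprime to the order is the centralizer of `v` -/
theorem centralizer_pow_of_coprime [Finite X] (v : X) (k : ℕ) (hk : k.Coprime (Nat.card X)) :
    Subgroup.centralizer ({v ^ k} : Set X) = Subgroup.centralizer ({v} : Set X) := by
  apply le_antisymm
  · intro x hx
    rw [Subgroup.mem_centralizer_singleton_iff] at hx ⊢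
    have hcop : Nat.Coprime k (orderOf v) :=
      Nat.Coprime.coprime_dvd_right (orderOf_dvd_natCard v) hk
    obtain ⟨l, hl⟩ := exists_pow_eq_self_of_coprime hcop
    rw [← hl]
    exact (Commute.pow_right (show Commute x (v ^ k) from hx) l)
  · intro x hx
    rw [Subgroup.mem_centralizer_singleton_iff] at hx ⊢
    exact (Commute.pow_right (show Commute x v from hx) k)

/-- the order of the centralizer of `v ∈ V` when `V` is abelian with complement `G` -/
theorem card_centralizer_of_complement [Finite X] (V : Subgroup X)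
    (hab : ∀ a ∈ V, ∀ b ∈ V, a * b = b * a) (G : Subgroup X)
    (hGV : Subgroup.IsComplement' V G) (v : X) (hv : v ∈ V) :
    Nat.card (Subgroup.centralizer ({v} : Set X)) =
      Nat.card ↥(G ⊓ Subgroup.centralizer ({v} : Set X)) * Nat.card V := by
  classical
  have hVH : V ≤ Subgroup.centralizer ({v} : Set X) := by
    intro a ha
    rw [Subgroup.mem_centralizer_singleton_iff]
    exact hab a ha v hv
  rw [mul_comm, ← Nat.card_prod]
  symm
  apply Nat.card_congr
  refine Equiv.ofBijective (fun x => ⟨(x.1 : X) * (x.2 : X),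
    Subgroup.mul_mem _ (hVH x.1.2) x.2.2.2⟩) ⟨?_, ?_⟩
  · intro x y hxy
    have h1 : (x.1 : X) * (x.2 : X) = (y.1 : X) * (y.2 : X) := congrArg Subtype.val hxy
    have h2 := hGV.1 (a₁ := (⟨x.1, ⟨x.2.1, x.2.2.1⟩⟩ : V × G))
      (a₂ := (⟨y.1, ⟨y.2.1, y.2.2.1⟩⟩ : V × G)) h1
    have h3 := Prod.ext_iff.mp h2
    apply Prod.ext
    · exact h3.1
    · apply Subtype.ext
      exact congrArg (fun t : G => (t : X)) h3.2
  · intro h
    obtain ⟨⟨a, g⟩, hag⟩ := hGV.2 (h : X)
    have hag' : (a : X) * (g : X) = (h : X) := hag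
    have hg : (g : X) ∈ Subgroup.centralizer ({v} : Set X) := by
      have : (g : X) = (a : X)⁻¹ * (h : X) := by rw [← hag']; group
      rw [this]
      exact Subgroup.mul_mem _ (Subgroup.inv_mem _ (hVH a.2)) h.2
    refine ⟨⟨a, ⟨g, ⟨g.2, hg⟩⟩⟩, ?_⟩
    apply Subtype.ext
    exact hag'

end Cfsg.Agent.Helper6
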