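import Mathlib
import Cfsg.Prelude.Def_Characters
import Cfsg.Agent.Helper6.KGVBoundA

/-!
# The `k(GV)` bound from second orthogonality at an element of `V`: the inequality
-/

set_option autoImplicit false
set_option linter.style.haveILetI false

namespace Cfsg.Agent.Helper6

open Module
open scoped ComplexConjugate

universe u

variable {X : Type u} [Group X]

/-- the irreducible characters trivial on a normal subgroup are counted by the classes of the
quotient -/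
theorem card_irr_trivial_on [Finite X] (V : Subgroup X) [V.Normal] :
    Nat.card {χ : Cfsg.IrrCharacter X // ∀ a ∈ V, (χ : X → ℂ) a = (χ : X → ℂ) 1} =
      Nat.card (ConjClasses (X ⧸ V)) := by
  rw [← card_irr_eq_card_conjClasses]
  symm
  apply Nat.card_congr
  refine Equiv.ofBijective (fun χ' : Cfsg.IrrCharacter (X ⧸ V) =>
    ⟨⟨(χ' : X ⧸ V → ℂ) ∘ QuotientGroup.mk, isIrrCharacter_inflate V χ'⟩, ?_⟩) ⟨?_, ?_⟩
  · intro a ha
    show (χ' : X ⧸ V → ℂ) (a : X ⧸ V) = (χ' : X ⧸ V → ℂ) ((1 : X) : X ⧸ V)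
    rw [(QuotientGroup.eq_one_iff a).mpr ha, QuotientGroup.mk_one]
  · intro χ₁ χ₂ h
    apply Subtype.ext
    funext q
    obtain ⟨x, rfl⟩ := QuotientGroup.mk_surjective q
    have h1 := congrArg (fun t : {χ : Cfsg.IrrCharacter X //
      ∀ a ∈ V, (χ : X → ℂ) a = (χ : X → ℂ) 1} => ((t : Cfsg.IrrCharacter X) : X → ℂ) x) h
    exact h1
  · rintro ⟨ψ, hψ⟩
    obtain ⟨ψ', hψ'⟩ := exists_deflate V ψ hψ
    refine ⟨ψ', ?_⟩
    apply Subtype.ext
    apply Subtype.ext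
    exact hψ'.symm

set_option maxHeartbeats 800000 in
/-- **the `k(GV)` inequality at an element `v` of the abelian normal Sylow subgroup `V`** -/
theorem kgv_bound [Finite X] (p : ℕ) [hp : Fact p.Prime] (V : Subgroup X) [V.Normal]
    (hVp : IsPGroup p V) (hidx : ¬ p ∣ V.index) (hab : ∀ a ∈ V, ∀ b ∈ V, a * b = b * a)
    (G : Subgroup X) (hGV : Subgroup.IsComplement' V G) (v : X) (hv : v ∈ V) :
    Nat.card (ConjClasses X) + Nat.card G ≤
      Nat.card ↥(G ⊓ Subgroup.centralizer ({v} : Set X)) * Nat.card V +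
        Nat.card (ConjClasses G) := by
  classical
  haveI := Fintype.ofFinite X
  haveI : Finite (Cfsg.IrrCharacter X) := irr_finite
  haveI : Fintype (Cfsg.IrrCharacter X) := Fintype.ofFinite _
  haveI : NeZero (Nat.card X) := ⟨Nat.card_pos.ne'⟩
  obtain ⟨n, hn⟩ : ∃ n : ℕ, n = Nat.card X := ⟨_, rfl⟩
  haveI : NeZero n := by rw [hn]; infer_instance
  obtain ⟨A, hAdef⟩ : ∃ A : Finset (Cfsg.IrrCharacter X), A = Finset.univ.filter
      (fun χ : Cfsg.IrrCharacter X => ∀ a ∈ V, (χ : X → ℂ) a = (χ : X → ℂ) 1) := ⟨_, rfl⟩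
  obtain ⟨B, hBdef⟩ : ∃ B : Finset (Cfsg.IrrCharacter X), B = Finset.univ.filter
      (fun χ : Cfsg.IrrCharacter X => ¬ ∀ a ∈ V, (χ : X → ℂ) a = (χ : X → ℂ) 1) := ⟨_, rfl⟩
  -- `|A| = k(G)`
  have hA : A.card = Nat.card (ConjClasses G) := by
    rw [← card_conjClasses_congr hGV.symm.QuotientMulEquiv, ← card_irr_trivial_on V,
      Nat.card_eq_fintype_card, Fintype.card_subtype, hAdef]
  -- the sum of the squares of the degrees over `A`
  have hAdeg : ∑ χ ∈ A, Cfsg.charDegree (χ : X → ℂ) ^ 2 = Nat.card G := by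
    rw [hAdef, sum_sq_degrees_of_le_ker V, hGV.symm.index_eq_card]
  have hAB : A.card + B.card = Nat.card (ConjClasses X) := by
    rw [hAdef, hBdef, Finset.card_filter_add_card_filter_not, Finset.card_univ,
      ← Nat.card_eq_fintype_card, card_irr_eq_card_conjClasses]
  have hvn : v ^ n = 1 := by rw [hn]; exact pow_card_eq_one'
  -- column orthogonality
  have hcol : ∀ k : (ZMod n)ˣ, ∑ χ : Cfsg.IrrCharacter X,
      ‖(χ : X → ℂ) (v ^ (k : ZMod n).val)‖ ^ 2 =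
        (Nat.card (Subgroup.centralizer ({v} : Set X)) : ℝ) := by
    intro k
    have hcop : Nat.Coprime (k : ZMod n).val (Nat.card X) := by
      rw [← hn]
      exact ZMod.val_coe_unit_coprime k
    have h1 := column_orthogonality_aux (v ^ (k : ZMod n).val) (v ^ (k : ZMod n).val)
    rw [if_pos (IsConj.refl _), centralizer_pow_of_coprime v _ hcop] at h1
    have h2 : ((∑ χ : Cfsg.IrrCharacter X, ‖(χ : X → ℂ) (v ^ (k : ZMod n).val)‖ ^ 2 : ℝ) : ℂ) =
        ((Nat.card (Subgroup.centralizer ({v} : Set X)) : ℝ) : ℂ) := by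
      rw [Complex.ofReal_natCast, ← h1, Complex.ofReal_sum]
      apply Finset.sum_congr rfl
      intro χ _
      rw [Complex.mul_conj, Complex.normSq_eq_norm_sq]
    exact_mod_cast h2
  -- the characters outside `A`
  have hB : ∀ χ ∈ B, (Fintype.card (ZMod n)ˣ : ℝ) ≤
      ∑ k : (ZMod n)ˣ, ‖(χ : X → ℂ) (v ^ (k : ZMod n).val)‖ ^ 2 := by
    intro χ _
    have hne := irr_apply_ne_zero_of_abelian_sylow p V hVp hidx hab χ v hv
    obtain ⟨m, ρ, hirr, hχ⟩ := χ.2
    obtain ⟨-, -, -, h4⟩ := char_galois_facts ρ v n hvn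
    rw [hχ] at h4
    exact h4 hne
  -- the characters in `A`
  have hAk : ∀ χ ∈ A, ∑ k : (ZMod n)ˣ, ‖(χ : X → ℂ) (v ^ (k : ZMod n).val)‖ ^ 2 =
      (Fintype.card (ZMod n)ˣ : ℝ) * ((Cfsg.charDegree (χ : X → ℂ) ^ 2 : ℕ) : ℝ) := by
    intro χ hχ
    rw [hAdef, Finset.mem_filter] at hχ
    obtain ⟨K, -, -, -, hd, -⟩ := exists_kernel_data χ.2
    have h1 : ∀ k : (ZMod n)ˣ, ‖(χ : X → ℂ) (v ^ (k : ZMod n).val)‖ ^ 2 =
        ((Cfsg.charDegree (χ : X → ℂ) ^ 2 : ℕ) : ℝ) := by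
      intro k
      rw [hχ.2 _ (V.pow_mem hv _), hd, Complex.norm_natCast]
      push_cast
      rfl
    rw [Finset.sum_congr rfl (fun k _ => h1 k), Finset.sum_const, Finset.card_univ,
      nsmul_eq_mul]
  have hφpos : (0 : ℝ) < (Fintype.card (ZMod n)ˣ : ℝ) := by
    have : 0 < Fintype.card (ZMod n)ˣ := Fintype.card_pos
    exact_mod_cast this
  -- the total
  have htot : (Fintype.card (ZMod n)ˣ : ℝ) *
      (Nat.card (Subgroup.centralizer ({v} : Set X)) : ℝ) =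
      ∑ χ ∈ A, ∑ k : (ZMod n)ˣ, ‖(χ : X → ℂ) (v ^ (k : ZMod n).val)‖ ^ 2 +
        ∑ χ ∈ B, ∑ k : (ZMod n)ˣ, ‖(χ : X → ℂ) (v ^ (k : ZMod n).val)‖ ^ 2 := by
    rw [hAdef, hBdef, Finset.sum_filter_add_sum_filter_not, Finset.sum_comm,
      Finset.sum_congr rfl (fun k _ => hcol k), Finset.sum_const, Finset.card_univ, nsmul_eq_mul]
  have h1 : ∑ χ ∈ A, ∑ k : (ZMod n)ˣ, ‖(χ : X → ℂ) (v ^ (k : ZMod n).val)‖ ^ 2 =
      (Fintype.card (ZMod n)ˣ : ℝ) * (Nat.card G : ℝ) := by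
    rw [Finset.sum_congr rfl hAk, ← Finset.mul_sum, ← hAdeg]
    push_cast
    rfl
  have h2 : (Fintype.card (ZMod n)ˣ : ℝ) * (B.card : ℝ) ≤
      ∑ χ ∈ B, ∑ k : (ZMod n)ˣ, ‖(χ : X → ℂ) (v ^ (k : ZMod n).val)‖ ^ 2 := by
    have := Finset.sum_le_sum hB
    rw [Finset.sum_const, nsmul_eq_mul, mul_comm] at this
    exact this
  rw [h1] at htot
  have h3 : (Nat.card G : ℝ) + (B.card : ℝ) ≤
      (Nat.card (Subgroup.centralizer ({v} : Set X)) : ℝ) := by
    have h4 : (Fintype.card (ZMod n)ˣ : ℝ) * ((Nat.card G : ℝ) + (B.card : ℝ)) ≤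
        (Fintype.card (ZMod n)ˣ : ℝ) * (Nat.card (Subgroup.centralizer ({v} : Set X)) : ℝ) := by
      rw [htot, mul_add]
      linarith
    exact le_of_mul_le_mul_left h4 hφpos
  have h5 : Nat.card G + B.card ≤ Nat.card (Subgroup.centralizer ({v} : Set X)) := by
    exact_mod_cast h3
  rw [card_centralizer_of_complement V hab G hGV v hv] at h5
  omega

end Cfsg.Agent.Helper6
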