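import Mathlib
import Cfsg.Prelude.Def_Characters
import Cfsg.Prelude.Def_Blocks
import Cfsg.Agent.Helper6.BlockCover1
import Cfsg.Agent.Helper6.StructConst
import Cfsg.Agent.Helper6.InflationBlocks
import Cfsg.Agent.Helper6.PrincipalDefect

/-!
# Central products: central characters and principal blocks
-/

set_option autoImplicit false
set_option linter.style.haveILetI false

namespace Cfsg.Agent.Helper6

open scoped ComplexConjugate

universe u

variable {G : Type u} [Group G] {M : Ideal Cfsg.AlgInt}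

theorem cp_orderOf_conj (a g : G) : orderOf (a * g * a⁻¹) = orderOf g := by
  have := MulEquiv.orderOf_eq (MulAut.conj a) g
  simpa using this

theorem cp_normal (U V : Subgroup G) (hcomm : ∀ u ∈ U, ∀ v ∈ V, u * v = v * u)
    (hgen : U ⊔ V = ⊤) : U.Normal := by
  rw [← Subgroup.normalizer_eq_top_iff, eq_top_iff, ← hgen]
  apply sup_le Subgroup.le_normalizer
  intro v hv
  rw [Subgroup.mem_normalizer_iff]
  intro u
  constructor
  · intro hu
    have : v * u * v⁻¹ = u := by rw [← hcomm u hu v hv, mul_inv_cancel_right]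
    rw [this]
    exact hu
  · intro hu
    have h1 := hcomm _ hu v hv
    have : v * u * v⁻¹ = u := by
      have h2 : v * u * v⁻¹ * v = v * u := by group
      have h3 : v * u = v * (v * u * v⁻¹) := by rw [← h1, h2]
      exact (mul_left_cancel h3).symm
    rw [← this]
    exact hu

theorem cp_exists_mul (U V : Subgroup G) (hcomm : ∀ u ∈ U, ∀ v ∈ V, u * v = v * u)
    (hgen : U ⊔ V = ⊤) (g : G) : ∃ u ∈ U, ∃ v ∈ V, g = u * v := by
  haveI := cp_normal U V hcomm hgen
  have h1 : g ∈ ((U ⊔ V : Subgroup G) : Set G) := by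
    rw [hgen]
    exact Set.mem_univ g
  rw [Subgroup.normal_mul U V, Set.mem_mul] at h1
  obtain ⟨u, hu, v, hv, h⟩ := h1
  exact ⟨u, hu, v, hv, h.symm⟩

theorem cp_isConj_iff (U V : Subgroup G) (hcomm : ∀ u ∈ U, ∀ v ∈ V, u * v = v * u)
    (hgen : U ⊔ V = ⊤) (u u' : U) : IsConj (u : G) (u' : G) ↔ IsConj u u' := by
  constructor
  · intro h
    obtain ⟨g, hg⟩ := isConj_iff.mp h
    obtain ⟨a, ha, b, hb, rfl⟩ := cp_exists_mul U V hcomm hgen g
    apply isConj_iff.mpr
    refine ⟨⟨a, ha⟩, ?_⟩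
    apply Subtype.ext
    have h1 : b * (u : G) = (u : G) * b := (hcomm u u.2 b hb).symm
    have : a * b * (u : G) * (a * b)⁻¹ = a * (u : G) * a⁻¹ := by
      rw [mul_assoc a b, h1]
      group
    rw [← hg, this]
    rfl
  · intro h
    obtain ⟨a, ha⟩ := isConj_iff.mp h
    apply isConj_iff.mpr
    refine ⟨(a : G), ?_⟩
    have := congrArg Subtype.val ha
    exact this

/-- In a central product the central character of `χ` on `U` is that of its constituent. -/
theorem cp_centralChar_restrict [Fintype G] (U V : Subgroup G) [Fintype U]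
    (hcomm : ∀ u ∈ U, ∀ v ∈ V, u * v = v * u) (hgen : U ⊔ V = ⊤)
    (χ : Cfsg.IrrCharacter G) (ψ : Cfsg.IrrCharacter U)
    (hne : Cfsg.classInner (fun n : U => (χ : G → ℂ) n) (ψ : U → ℂ) ≠ 0) (n : U) :
    Cfsg.centralChar (χ : G → ℂ) (n : G) = Cfsg.centralChar (ψ : U → ℂ) n := by
  classical
  haveI := cp_normal U V hcomm hgen
  rw [centralChar_eq_induced_of_constituent U χ ψ hne n, inducedCentralChar_eq_sum']
  have hset : normalClassFinset U (n : G) = classFinset n := by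
    ext m
    rw [mem_normalClassFinset, mem_classFinset]
    exact cp_isConj_iff U V hcomm hgen n m
  rw [hset, ← Finset.sum_div, sum_classFinset_char ψ n]
  rfl

/-- A `p`-regular element of a central product is a product of `p`-regular elements of the
factors. -/
theorem cp_exists_mul_pRegular [Finite G] (p : ℕ) [hp : Fact p.Prime] (U V : Subgroup G)
    (hcomm : ∀ u ∈ U, ∀ v ∈ V, u * v = v * u) (hgen : U ⊔ V = ⊤) (g : G)
    (hg : ¬ p ∣ orderOf g) :
    ∃ u ∈ U, ∃ v ∈ V, g = u * v ∧ ¬ p ∣ orderOf u ∧ ¬ p ∣ orderOf v := by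
  obtain ⟨a, ha, b, hb, hab⟩ := cp_exists_mul U V hcomm hgen g
  have hcardpos : Nat.card G ≠ 0 := Nat.card_pos.ne'
  set q := p ^ (Nat.card G).factorization p with hq
  set m := Nat.card G / q with hm
  have hqm : q * m = Nat.card G := Nat.ordProj_mul_ordCompl_eq_self (Nat.card G) p
  have hpm : ¬ p ∣ m := Nat.not_dvd_ordCompl hp.out hcardpos
  have hcop : Nat.Coprime q (orderOf g) := by
    apply Nat.Coprime.pow_left
    exact (Nat.Prime.coprime_iff_not_dvd hp.out).mpr hg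
  -- an exponent `j` divisible by `q` with `g ^ j = g`
  obtain ⟨j, hjq, hjg⟩ : ∃ j : ℕ, q ∣ j ∧ g ^ j = g := by
    by_cases ho : orderOf g = 1
    · refine ⟨q, dvd_rfl, ?_⟩
      rw [orderOf_eq_one_iff] at ho
      rw [ho, one_pow]
    · have h1 : 1 < orderOf g := by
        have := orderOf_pos g
        omega
      obtain ⟨i, -, hi⟩ := Nat.exists_mul_mod_eq_one_of_coprime hcop h1
      refine ⟨q * i, dvd_mul_right q i, ?_⟩
      rw [← pow_mod_orderOf, hi, pow_one]
  have hpow : ∀ x : G, ¬ p ∣ orderOf (x ^ j) := by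
    intro x hdvd
    apply hpm
    obtain ⟨i, rfl⟩ := hjq
    have h1 : (x ^ (q * i)) ^ m = 1 := by
      rw [← pow_mul, mul_right_comm, hqm, pow_mul, pow_card_eq_one', one_pow]
    exact hdvd.trans (orderOf_dvd_of_pow_eq_one h1)
  refine ⟨a ^ j, U.pow_mem ha j, b ^ j, V.pow_mem hb j, ?_, hpow a, hpow b⟩
  have hc : Commute a b := hcomm a ha b hb
  rw [← hc.mul_pow, ← hab, hjg]

open Classical in
/-- The structure constants of classes of `p`-regular elements of the two factors. -/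
theorem cp_card_classPairs [Fintype G] (p : ℕ) [hp : Fact p.Prime] (U V : Subgroup G)
    (hcomm : ∀ u ∈ U, ∀ v ∈ V, u * v = v * u) (hgen : U ⊔ V = ⊤)
    (hZ : IsPGroup p ↥(U ⊓ V)) (u v : G) (hu : u ∈ U) (hv : v ∈ V)
    (hur : ¬ p ∣ orderOf u) (t : G) :
    (classPairs u v t).card = if IsConj (u * v) t then 1 else 0 := by
  classical
  haveI := cp_normal U V hcomm hgen
  haveI : V.Normal := cp_normal V U (fun a ha b hb => (hcomm b hb a ha).symm)
    (by rw [sup_comm]; exact hgen)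
  by_cases ht : IsConj (u * v) t
  · rw [if_pos ht]
    obtain ⟨c, hc⟩ := isConj_iff.mp ht
    rw [Finset.card_eq_one]
    refine ⟨(c * u * c⁻¹, c * v * c⁻¹), ?_⟩
    ext q
    rw [Finset.mem_singleton, mem_classPairs]
    constructor
    · rintro ⟨h1, h2, h3⟩
      have hq1U : q.1 ∈ U := by
        obtain ⟨a, ha⟩ := isConj_iff.mp h1
        rw [← ha]
        exact ‹U.Normal›.conj_mem u hu a
      have hq2V : q.2 ∈ V := by
        obtain ⟨a, ha⟩ := isConj_iff.mp h2
        rw [← ha]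
        exact ‹V.Normal›.conj_mem v hv a
      have hxU : c * u * c⁻¹ ∈ U := ‹U.Normal›.conj_mem u hu c
      have hyV : c * v * c⁻¹ ∈ V := ‹V.Normal›.conj_mem v hv c
      have hprod : q.1 * q.2 = (c * u * c⁻¹) * (c * v * c⁻¹) := by
        rw [h3, ← hc]
        group
      -- z = x'⁻¹ x lies in U ⊓ V
      set z := (c * u * c⁻¹)⁻¹ * q.1 with hz
      have hz' : z = (c * v * c⁻¹) * q.2⁻¹ := by
        rw [hz]
        have : q.1 = (c * u * c⁻¹) * (c * v * c⁻¹) * q.2⁻¹ := by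
          rw [← hprod]; group
        rw [this]
        group
      have hzU : z ∈ U := U.mul_mem (U.inv_mem hxU) hq1U
      have hzV : z ∈ V := by
        rw [hz']
        exact V.mul_mem hyV (V.inv_mem hq2V)
      have hq1 : q.1 = (c * u * c⁻¹) * z := by rw [hz]; group
      have hcommz : Commute (c * u * c⁻¹) z := hcomm _ hxU z hzV
      have ho1 : orderOf q.1 = orderOf u := by
        obtain ⟨a, ha⟩ := isConj_iff.mp h1
        rw [← ha]
        exact cp_orderOf_conj a u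
      have ho2 : orderOf (c * u * c⁻¹) = orderOf u := cp_orderOf_conj c u
      have hzpow : z ^ orderOf u = 1 := by
        have h4 : q.1 ^ orderOf u = 1 := by rw [← ho1]; exact pow_orderOf_eq_one _
        rw [hq1, hcommz.mul_pow, ← ho2, pow_orderOf_eq_one, one_mul] at h4
        rw [← ho2]
        exact h4
      obtain ⟨k, hk⟩ := hZ ⟨z, Subgroup.mem_inf.mpr ⟨hzU, hzV⟩⟩
      have hzk : z ^ p ^ k = 1 := by
        have := congrArg Subtype.val hk
        simpa using this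
      have hz1 : z = 1 := by
        have hcop : Nat.Coprime (p ^ k) (orderOf u) := by
          apply Nat.Coprime.pow_left
          exact (Nat.Prime.coprime_iff_not_dvd hp.out).mpr hur
        have h5 : orderOf z ∣ Nat.gcd (p ^ k) (orderOf u) :=
          Nat.dvd_gcd (orderOf_dvd_of_pow_eq_one hzk) (orderOf_dvd_of_pow_eq_one hzpow)
        rw [hcop.gcd_eq_one, Nat.dvd_one, orderOf_eq_one_iff] at h5
        exact h5
      have hq1' : q.1 = c * u * c⁻¹ := by rw [hq1, hz1, mul_one]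
      have hq2' : q.2 = c * v * c⁻¹ := by
        have h6 := hz'
        rw [hz1] at h6
        have : q.2 = (c * v * c⁻¹) := by
          have h7 : (c * v * c⁻¹) * q.2⁻¹ * q.2 = 1 * q.2 := by rw [← h6]
          rw [inv_mul_cancel_right, one_mul] at h7
          exact h7.symm
        exact this
      exact Prod.ext hq1' hq2'
    · rintro rfl
      refine ⟨isConj_iff.mpr ⟨c, rfl⟩, isConj_iff.mpr ⟨c, rfl⟩, ?_⟩
      simp only
      rw [← hc]
      group
  · rw [if_neg ht, Finset.card_eq_zero]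
    ext q
    simp only [Finset.notMem_empty, iff_false]
    intro hq
    rw [mem_classPairs] at hq
    obtain ⟨h1, h2, h3⟩ := hq
    apply ht
    obtain ⟨a, ha⟩ := isConj_iff.mp h1
    obtain ⟨b, hb⟩ := isConj_iff.mp h2
    obtain ⟨a₁, ha₁, a₂, ha₂, rfl⟩ := cp_exists_mul U V hcomm hgen a
    obtain ⟨b₁, hb₁, b₂, hb₂, rfl⟩ := cp_exists_mul U V hcomm hgen b
    apply isConj_iff.mpr
    refine ⟨a₁ * b₂, ?_⟩
    rw [← h3, ← ha, ← hb]
    have e1 : a₁ * a₂ * u * (a₁ * a₂)⁻¹ = a₁ * u * a₁⁻¹ := by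
      have : a₂ * u = u * a₂ := (hcomm u hu a₂ ha₂).symm
      rw [mul_assoc a₁ a₂, this]
      group
    have e2 : b₁ * b₂ * v * (b₁ * b₂)⁻¹ = b₂ * v * b₂⁻¹ := by
      have h4 : b₁ * (b₂ * v * b₂⁻¹) = (b₂ * v * b₂⁻¹) * b₁ :=
        hcomm b₁ hb₁ _ (V.mul_mem (V.mul_mem hb₂ hv) (V.inv_mem hb₂))
      calc b₁ * b₂ * v * (b₁ * b₂)⁻¹ = b₁ * (b₂ * v * b₂⁻¹) * b₁⁻¹ := by group
        _ = (b₂ * v * b₂⁻¹) * b₁ * b₁⁻¹ := by rw [h4]
        _ = b₂ * v * b₂⁻¹ := by group
    rw [e1, e2]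
    have c1 : b₂ * u = u * b₂ := (hcomm u hu b₂ hb₂).symm
    have c2 : a₁ * v = v * a₁ := hcomm a₁ ha₁ v hv
    have c3 : a₁ * b₂ = b₂ * a₁ := hcomm a₁ ha₁ b₂ hb₂
    have c4 : a₁⁻¹ * b₂ = b₂ * a₁⁻¹ := hcomm a₁⁻¹ (U.inv_mem ha₁) b₂ hb₂
    have c5 : u * b₂⁻¹ = b₂⁻¹ * u := hcomm u hu b₂⁻¹ (V.inv_mem hb₂)
    calc a₁ * b₂ * (u * v) * (a₁ * b₂)⁻¹
        = a₁ * (b₂ * u) * v * b₂⁻¹ * a₁⁻¹ := by group
      _ = a₁ * (u * b₂) * v * b₂⁻¹ * a₁⁻¹ := by rw [c1]
      _ = a₁ * u * (b₂ * v * b₂⁻¹) * a₁⁻¹ := by group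
      _ = a₁ * u * ((b₂ * v * b₂⁻¹) * a₁⁻¹) := by group
      _ = a₁ * u * (a₁⁻¹ * (b₂ * v * b₂⁻¹)) := by
          rw [hcomm a₁⁻¹ (U.inv_mem ha₁) _ (V.mul_mem (V.mul_mem hb₂ hv) (V.inv_mem hb₂))]
      _ = a₁ * u * a₁⁻¹ * (b₂ * v * b₂⁻¹) := by group

/-- The central character is multiplicative on products of `p`-regular elements of the factors. -/
theorem cp_centralChar_mul [Fintype G] (p : ℕ) [hp : Fact p.Prime] (U V : Subgroup G)
    (hcomm : ∀ u ∈ U, ∀ v ∈ V, u * v = v * u) (hgen : U ⊔ V = ⊤)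
    (hZ : IsPGroup p ↥(U ⊓ V)) (χ : Cfsg.IrrCharacter G) (u v : G) (hu : u ∈ U) (hv : v ∈ V)
    (hur : ¬ p ∣ orderOf u) :
    Cfsg.centralChar (χ : G → ℂ) u * Cfsg.centralChar (χ : G → ℂ) v =
      Cfsg.centralChar (χ : G → ℂ) (u * v) := by
  classical
  rw [centralChar_mul_centralChar]
  have h1 : ∀ t : G, ((classPairs u v t).card : ℂ) * (χ : G → ℂ) t / (χ : G → ℂ) 1 =
      if t ∈ classFinset (u * v) then (χ : G → ℂ) t / (χ : G → ℂ) 1 else 0 := by
    intro t
    rw [cp_card_classPairs p U V hcomm hgen hZ u v hu hv hur t]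
    by_cases ht : IsConj (u * v) t
    · rw [if_pos ht, if_pos ((mem_classFinset _ _).mpr ht), Nat.cast_one, one_mul]
    · rw [if_neg ht, if_neg (fun h => ht ((mem_classFinset _ _).mp h)), Nat.cast_zero, zero_mul,
        zero_div]
  rw [Finset.sum_congr rfl (fun t _ => h1 t), Finset.sum_ite_mem, Finset.univ_inter,
    ← Finset.sum_div, sum_classFinset_char χ (u * v)]
  rfl

/-- Restriction of the principal block to a factor of a central product. -/
theorem cp_principal_restrict [Fintype G] (U V : Subgroup G) [Fintype U]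
    (hcomm : ∀ u ∈ U, ∀ v ∈ V, u * v = v * u) (hgen : U ⊔ V = ⊤)
    (χ : Cfsg.IrrCharacter G) (ψ : Cfsg.IrrCharacter U)
    (hne : Cfsg.classInner (fun n : U => (χ : G → ℂ) n) (ψ : U → ℂ) ≠ 0)
    (hχ : χ ∈ Cfsg.principalBlock M G) : ψ ∈ Cfsg.principalBlock M U := by
  intro n
  have e1 := cp_centralChar_restrict U V hcomm hgen χ ψ hne n
  have h1 : Cfsg.classInner (fun n : U => ((trivIrr G : Cfsg.IrrCharacter G) : G → ℂ) n)
      ((trivIrr U : Cfsg.IrrCharacter U) : U → ℂ) = 1 := classInner_irr_self (trivIrr U).2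
  have e2 : Cfsg.centralChar (fun _ : G => (1 : ℂ)) (n : G) =
      Cfsg.centralChar (fun _ : U => (1 : ℂ)) n :=
    cp_centralChar_restrict U V hcomm hgen (trivIrr G) (trivIrr U)
      (by rw [h1]; exact one_ne_zero) n
  have h3 := hχ (n : G)
  rw [e1, e2] at h3
  exact h3

/-- **Principal block of a central product**. -/
theorem cp_principal_iff [Fintype G] (p : ℕ) [hp : Fact p.Prime] (hM : Cfsg.IsPModular p M)
    (U V : Subgroup G) [Fintype U] [Fintype V]
    (hcomm : ∀ u ∈ U, ∀ v ∈ V, u * v = v * u) (hgen : U ⊔ V = ⊤)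
    (hZ : IsPGroup p ↥(U ⊓ V)) (χ : Cfsg.IrrCharacter G)
    (ψ₁ : Cfsg.IrrCharacter U) (ψ₂ : Cfsg.IrrCharacter V)
    (h₁ : Cfsg.classInner (fun u : U => (χ : G → ℂ) u) (ψ₁ : U → ℂ) ≠ 0)
    (h₂ : Cfsg.classInner (fun u : V => (χ : G → ℂ) u) (ψ₂ : V → ℂ) ≠ 0) :
    χ ∈ Cfsg.principalBlock M G ↔
      (ψ₁ ∈ Cfsg.principalBlock M U ∧ ψ₂ ∈ Cfsg.principalBlock M V) := by
  have hcomm' : ∀ v ∈ V, ∀ u ∈ U, v * u = u * v := fun a ha b hb => (hcomm b hb a ha).symm
  have hgen' : V ⊔ U = ⊤ := by rw [sup_comm]; exact hgen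
  constructor
  · intro hχ
    exact ⟨cp_principal_restrict U V hcomm hgen χ ψ₁ h₁ hχ,
      cp_principal_restrict V U hcomm' hgen' χ ψ₂ h₂ hχ⟩
  · rintro ⟨hψ₁, hψ₂⟩
    have hMmax := hM.2.1
    rw [principalBlock_eq]
    apply sameBlock_of_pRegular hMmax p hM.2.2 (trivIrr G) χ
    intro g hg
    obtain ⟨u, hu, v, hv, rfl, hur, hvr⟩ := cp_exists_mul_pRegular p U V hcomm hgen g hg
    rw [← cp_centralChar_mul p U V hcomm hgen hZ χ u v hu hv hur,
      ← cp_centralChar_mul p U V hcomm hgen hZ (trivIrr G) u v hu hv hur]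
    have hT1 : Cfsg.classInner (fun n : U => ((trivIrr G : Cfsg.IrrCharacter G) : G → ℂ) n)
        ((trivIrr U : Cfsg.IrrCharacter U) : U → ℂ) = 1 := classInner_irr_self (trivIrr U).2
    have hT2 : Cfsg.classInner (fun n : V => ((trivIrr G : Cfsg.IrrCharacter G) : G → ℂ) n)
        ((trivIrr V : Cfsg.IrrCharacter V) : V → ℂ) = 1 := classInner_irr_self (trivIrr V).2
    have a1 := cp_centralChar_restrict U V hcomm hgen χ ψ₁ h₁ ⟨u, hu⟩
    have a2 := cp_centralChar_restrict U V hcomm hgen (trivIrr G) (trivIrr U)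
      (by rw [hT1]; exact one_ne_zero) ⟨u, hu⟩
    have b1 := cp_centralChar_restrict V U hcomm' hgen' χ ψ₂ h₂ ⟨v, hv⟩
    have b2 := cp_centralChar_restrict V U hcomm' hgen' (trivIrr G) (trivIrr V)
      (by rw [hT2]; exact one_ne_zero) ⟨v, hv⟩
    have c1 := hψ₁ ⟨u, hu⟩
    have c2 := hψ₂ ⟨v, hv⟩
    have d1 : Cfsg.MemLocalIdeal M
        (Cfsg.centralChar ((trivIrr G : Cfsg.IrrCharacter G) : G → ℂ) u -
          Cfsg.centralChar (χ : G → ℂ) u) := by
      rw [show u = ((⟨u, hu⟩ : U) : G) from rfl, a1, a2]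
      exact c1
    have d2 : Cfsg.MemLocalIdeal M
        (Cfsg.centralChar ((trivIrr G : Cfsg.IrrCharacter G) : G → ℂ) v -
          Cfsg.centralChar (χ : G → ℂ) v) := by
      rw [show v = ((⟨v, hv⟩ : V) : G) from rfl, b1, b2]
      exact c2
    have i1 : Cfsg.MemLocalRing M
        (Cfsg.centralChar ((trivIrr G : Cfsg.IrrCharacter G) : G → ℂ) v) :=
      memLocalRing_of_isIntegral hMmax (isIntegral_centralChar (trivIrr G) v)
    have i2 : Cfsg.MemLocalRing M (Cfsg.centralChar (χ : G → ℂ) u) :=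
      memLocalRing_of_isIntegral hMmax (isIntegral_centralChar χ u)
    have key : Cfsg.centralChar ((trivIrr G : Cfsg.IrrCharacter G) : G → ℂ) u *
        Cfsg.centralChar ((trivIrr G : Cfsg.IrrCharacter G) : G → ℂ) v -
        Cfsg.centralChar (χ : G → ℂ) u * Cfsg.centralChar (χ : G → ℂ) v =
        Cfsg.centralChar ((trivIrr G : Cfsg.IrrCharacter G) : G → ℂ) v *
          (Cfsg.centralChar ((trivIrr G : Cfsg.IrrCharacter G) : G → ℂ) u -
            Cfsg.centralChar (χ : G → ℂ) u) +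
        Cfsg.centralChar (χ : G → ℂ) u *
          (Cfsg.centralChar ((trivIrr G : Cfsg.IrrCharacter G) : G → ℂ) v -
            Cfsg.centralChar (χ : G → ℂ) v) := by ring
    rw [key]
    exact MemLocalIdeal.add hMmax (MemLocalIdeal.mul_left hMmax i1 d1)
      (MemLocalIdeal.mul_left hMmax i2 d2)

end Cfsg.Agent.Helper6
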