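import Mathlib
import Cfsg.Prelude.Def_Characters
import Cfsg.Prelude.Def_Blocks
import Cfsg.Agent.Helper6.ClassInner
import Cfsg.Agent.Helper6.CosetAvg
import Cfsg.Agent.Helper6.CentralProduct
import Cfsg.Agent.Helper6.BlockKernel
import Cfsg.Agent.Helper6.Constituent
import Cfsg.Agent.Helper6.Codegree
import Cfsg.Agent.Helper6.OsimaSupport
import Cfsg.Agent.Helper6.NilpPrincipal
import Cfsg.Agent.Helper6.DefectOrder
import Cfsg.Agent.Helper6.IrrCrit
import Cfsg.Agent.Helper6.Degrees
import Cfsg.Agent.Helper6.Induced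

/-!
# Groups of the form `P C_G(P)`: basic facts and the characters trivial on `P`
-/

set_option autoImplicit false
set_option linter.style.haveILetI false

namespace Cfsg.Agent.Helper6

open scoped ComplexConjugate

universe u v

variable {G : Type u} [Group G] {M : Ideal Cfsg.AlgInt}

/-- a character whose composite with a homomorphism is irreducible is irreducible -/
theorem isIrrCharacter_of_comp_irr {K : Type v} [Group K] [Fintype K] [Fintype G] (f : K →* G)
    {χ : G → ℂ} (hχ : Cfsg.IsCharacter G χ) (hirr : Cfsg.IsIrrCharacter K (χ ∘ f)) :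
    Cfsg.IsIrrCharacter G χ := by
  classical
  have hχ1 : χ 1 ≠ 0 := by
    have := IsIrrCharacter.apply_one_ne_zero hirr
    rwa [Function.comp_apply, map_one] at this
  have hχ0 : χ ≠ 0 := fun h => hχ1 (by rw [h]; rfl)
  obtain ⟨ψ, hψ, hne⟩ := exists_irr_constituent hχ hχ0
  have hΔ := sub_isCharacter_of_constituent hχ hψ hne
  have hψK : Cfsg.IsCharacter K (ψ ∘ f) := IsCharacter.comp_hom f (IsIrrCharacter.isCharacter hψ)
  have hΔK : Cfsg.IsCharacter K ((χ - ψ) ∘ f) := IsCharacter.comp_hom f hΔ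
  have hsum : χ ∘ f = ψ ∘ f + (χ - ψ) ∘ f := by
    funext k
    simp
  obtain ⟨a, ha⟩ := classInner_char_char_nat hψK hψK
  obtain ⟨b, hb⟩ := classInner_char_char_nat hΔK hΔK
  obtain ⟨c, hc⟩ := classInner_char_char_nat hψK hΔK
  have hc' : Cfsg.classInner ((χ - ψ) ∘ f) (ψ ∘ f) = c := by
    rw [classInner_conj_symm, hc, map_natCast]
  have h1 := classInner_irr_self hirr
  rw [hsum, classInner_add_left, classInner_add_right, classInner_add_right, ha, hb, hc, hc'] at h1
  have h2 : a + c + (c + b) = 1 := by exact_mod_cast h1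
  have ha0 : a ≠ 0 := by
    rintro rfl
    rw [Nat.cast_zero] at ha
    have := classInner_self_eq_zero ha
    have h3 := congrFun this 1
    rw [Function.comp_apply, map_one, Pi.zero_apply] at h3
    exact IsIrrCharacter.apply_one_ne_zero hψ h3
  have hb0 : b = 0 := by omega
  rw [hb0, Nat.cast_zero] at hb
  have h4 := classInner_self_eq_zero hb
  have h5 := congrFun h4 1
  rw [Function.comp_apply, map_one, Pi.zero_apply] at h5
  have h6 := eq_zero_of_isCharacter_of_apply_one hΔ h5
  rw [sub_eq_zero.mp h6]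
  exact hψ

/-- an irreducible character whose sum over a normal subgroup is nonzero is trivial on it -/
theorem eq_apply_one_of_sum_normal_ne_zero [Finite G] (N : Subgroup G) [hN : N.Normal] [Fintype N]
    (χ : Cfsg.IrrCharacter G) (hne : ∑ z : N, (χ : G → ℂ) z ≠ 0) :
    ∀ z ∈ N, (χ : G → ℂ) z = (χ : G → ℂ) 1 := by
  obtain ⟨n, ρ, hirr, hχ⟩ := χ.2
  haveI := hirr
  have hN0 : (Nat.card N : ℂ) ≠ 0 := by
    have : 0 < Nat.card N := Nat.card_pos
    exact_mod_cast this.ne'
  have havg1 : cosetAvg N ρ.character 1 ≠ 0 := by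
    unfold cosetAvg
    apply mul_ne_zero (inv_ne_zero hN0)
    simp only [one_mul]
    rw [hχ]
    exact hne
  rcases cosetAvg_irr ρ N with h | h
  · intro z hz
    have h1 : cosetAvg N ρ.character z = cosetAvg N ρ.character 1 := by
      unfold cosetAvg
      congr 1
      simp only [one_mul]
      exact Fintype.sum_equiv (Equiv.mulLeft (⟨z, hz⟩ : N)) _ _ (fun n => rfl)
    rw [h, hχ] at h1
    exact h1
  · exact absurd (by rw [h]; rfl) havg1

/-- **every block contains a character trivial on a given normal `p`-subgroup** -/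
theorem exists_mem_block_trivial_on [Fintype G] {p : ℕ} [hp : Fact p.Prime]
    (hM : Cfsg.IsPModular p M) (P : Subgroup G) [hPn : P.Normal] (hP : IsPGroup p P)
    (B : Set (Cfsg.IrrCharacter G)) (hB : Cfsg.IsPBlock M B) :
    ∃ θ ∈ B, ∀ x ∈ P, (θ : G → ℂ) x = (θ : G → ℂ) 1 := by
  classical
  haveI : Finite (Cfsg.IrrCharacter G) := irr_finite
  haveI : Fintype (Cfsg.IrrCharacter G) := Fintype.ofFinite _
  haveI : Fintype P := Fintype.ofFinite _
  have hpp := hp.1
  obtain ⟨χ₀, hχ₀⟩ := hB
  have hχ₀B : χ₀ ∈ B := by rw [hχ₀]; exact mem_blockOf_self hM.2.1 χ₀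
  have hB' : Cfsg.IsPBlock M B := ⟨χ₀, hχ₀⟩
  have hsum1 : ∑ z : P, Cfsg.blockCoeff B (z : G) = Cfsg.blockCoeff B 1 := by
    rw [Finset.sum_eq_single (1 : P)]
    · rfl
    · intro z _ hz
      apply blockCoeff_eq_zero_of_singular hM.2.1 p hM.2.2 B hB'
      obtain ⟨k, hk⟩ := (IsPGroup.iff_orderOf.mp hP) z
      rcases Nat.eq_zero_or_pos k with rfl | hkpos
      · rw [pow_zero, orderOf_eq_one_iff] at hk
        exact absurd hk hz
      · rw [Subgroup.orderOf_coe, hk]
        exact dvd_pow_self p hkpos.ne'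
    · intro h
      exact absurd (Finset.mem_univ _) h
  have hne := blockCoeff_one_ne_zero B χ₀ hχ₀B
  have hex : ∃ χ ∈ B, ∑ z : P, (χ : G → ℂ) z ≠ 0 := by
    by_contra hcon
    push Not at hcon
    apply hne
    rw [← hsum1]
    unfold Cfsg.blockCoeff
    rw [← Finset.mul_sum]
    have h2 : ∀ z : P, ∑ᶠ χ ∈ B, (χ : G → ℂ) 1 * conj ((χ : G → ℂ) (z : G)) =
        ∑ χ : Cfsg.IrrCharacter G,
          (if χ ∈ B then (χ : G → ℂ) 1 * conj ((χ : G → ℂ) (z : G)) else 0) := by
      intro z
      rw [finsum_mem_eq_sum_ite]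
    rw [Finset.sum_congr rfl (fun z _ => h2 z), Finset.sum_comm]
    have h3 : ∀ χ : Cfsg.IrrCharacter G, ∑ z : P,
        (if χ ∈ B then (χ : G → ℂ) 1 * conj ((χ : G → ℂ) (z : G)) else 0) = 0 := by
      intro χ
      by_cases hχ : χ ∈ B
      · simp only [if_pos hχ]
        rw [← Finset.mul_sum, ← map_sum, hcon χ hχ, map_zero, mul_zero]
      · simp only [if_neg hχ]
        exact Finset.sum_const_zero
    rw [Finset.sum_congr rfl (fun χ _ => h3 χ), Finset.sum_const_zero, mul_zero]
  obtain ⟨θ, hθB, hθne⟩ := hex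
  exact ⟨θ, hθB, eq_apply_one_of_sum_normal_ne_zero P θ hθne⟩

/-- **degree of a character of a block with normal defect group `P` that is trivial on `P`** -/
theorem degree_of_trivial_on_defectGroup [Finite G] {p : ℕ} [hp : Fact p.Prime]
    (hM : Cfsg.IsPModular p M) (P : Subgroup G)
    (B : Set (Cfsg.IrrCharacter G)) (hB : Cfsg.IsPBlock M B)
    (hD : Cfsg.IsDefectGroup p M B P) (θ : Cfsg.IrrCharacter G) (hθ : θ ∈ B)
    (hker : ∀ x ∈ P, (θ : G → ℂ) x = (θ : G → ℂ) 1) :
    (Cfsg.charDegree (θ : G → ℂ)).factorization p = P.index.factorization p := by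
  have hpp := hp.1
  have hcardP := card_defectGroup hM.2.1 p hM.2.2 B hB P hD
  obtain ⟨K, hKn, hKmem, hdpos, -, hdvd⟩ := exists_kernel_data θ.2
  have hPK : P ≤ K := fun x hx => (hKmem x).mpr (hker x hx)
  have hle : (Cfsg.charDegree (θ : G → ℂ)).factorization p ≤ P.index.factorization p := by
    have hdvd' : Cfsg.charDegree (θ : G → ℂ) ∣ P.index := hdvd.trans (Subgroup.index_dvd_of_le hPK)
    exact (Nat.factorization_le_iff_dvd hdpos.ne' Subgroup.index_ne_zero_of_finite).mpr hdvd' p
  have hPfac : (Nat.card P).factorization p = Cfsg.blockDefect p B := by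
    rw [hcardP, Nat.Prime.factorization_pow hpp]
    simp
  have hidx : (Nat.card P).factorization p + P.index.factorization p =
      (Nat.card G).factorization p := by
    rw [← Subgroup.card_mul_index P, Nat.factorization_mul Nat.card_pos.ne'
      Subgroup.index_ne_zero_of_finite]
    rfl
  have hge : (Nat.card G).factorization p ≤
      Cfsg.blockDefect p B + (Cfsg.charDegree (θ : G → ℂ)).factorization p := by
    have h1 : sInf ((fun χ : Cfsg.IrrCharacter G =>
        (Cfsg.charDegree (χ : G → ℂ)).factorization p) '' B) ≤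
        (Cfsg.charDegree (θ : G → ℂ)).factorization p := Nat.sInf_le ⟨θ, hθ, rfl⟩
    unfold Cfsg.blockDefect
    omega
  omega

/-- a character trivial on the defect group `P` with the right degree has height zero -/
theorem blockHeight_eq_zero_of_degree [Finite G] {p : ℕ} [hp : Fact p.Prime]
    (hM : Cfsg.IsPModular p M) (P : Subgroup G)
    (B : Set (Cfsg.IrrCharacter G)) (hB : Cfsg.IsPBlock M B)
    (hD : Cfsg.IsDefectGroup p M B P) (θ : Cfsg.IrrCharacter G) (hθ : θ ∈ B)
    (hdeg : (Cfsg.charDegree (θ : G → ℂ)).factorization p = P.index.factorization p) :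
    Cfsg.blockHeight p B (θ : G → ℂ) = 0 := by
  have hpp := hp.1
  have hcardP := card_defectGroup hM.2.1 p hM.2.2 B hB P hD
  have hPfac : (Nat.card P).factorization p = Cfsg.blockDefect p B := by
    rw [hcardP, Nat.Prime.factorization_pow hpp]
    simp
  have hidx : (Nat.card P).factorization p + P.index.factorization p =
      (Nat.card G).factorization p := by
    rw [← Subgroup.card_mul_index P, Nat.factorization_mul Nat.card_pos.ne'
      Subgroup.index_ne_zero_of_finite]
    rfl
  have h1 : sInf ((fun χ : Cfsg.IrrCharacter G =>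
      (Cfsg.charDegree (χ : G → ℂ)).factorization p) '' B) ≤
      (Cfsg.charDegree (θ : G → ℂ)).factorization p := Nat.sInf_le ⟨θ, hθ, rfl⟩
  unfold Cfsg.blockDefect at hPfac
  unfold Cfsg.blockHeight
  omega

end Cfsg.Agent.Helper6
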