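import Mathlib
import Cfsg.Prelude.Def_Characters
import Cfsg.Prelude.Def_CharExt
import Cfsg.Agent.Helper6.DetChar
import Cfsg.Agent.Helper6.GaloisConj
import Cfsg.Agent.Helper6.CoprimeExt
import Cfsg.Agent.S0867

/-!
# The canonical extension is fixed by the Galois automorphisms over the cyclotomic field of `|G|`
-/

set_option autoImplicit false
set_option linter.style.haveILetI false
set_option linter.unusedSimpArgs false

namespace Cfsg.Agent.Helper6

open scoped ComplexConjugate

universe u

variable {Γ : Type u} [Group Γ]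

/-- the determinantal character of a power-conjugate of a character -/
theorem detChar_comp_pow [Finite Γ] {χ : Γ → ℂ} (hχ : Cfsg.IsCharacter Γ χ) (K : ℕ)
    (hχK : Cfsg.IsCharacter Γ (fun x => χ (x ^ K))) :
    Cfsg.detChar (fun x => χ (x ^ K)) = fun x => (Cfsg.detChar χ x) ^ K := by
  funext x
  set Z : Subgroup Γ := Subgroup.zpowers x with hZ
  haveI : IsMulCommutative Z := by rw [hZ]; infer_instance
  letI : CommGroup Z := { (inferInstance : Group Z) with mul_comm := mul_comm' }
  set x' : Z := ⟨x, Subgroup.mem_zpowers x⟩ with hx'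
  have h1 : Cfsg.detChar (fun h : Z => χ ((h : Γ) ^ K)) x' =
      Cfsg.detChar (fun x => χ (x ^ K)) x := congrFun (detChar_comp_hom Z.subtype hχK) x'
  have h2 : (fun h : Z => χ ((h : Γ) ^ K)) =
      fun h : Z => χ (Z.subtype ((powMonoidHom K : Z →* Z) h)) := by
    funext h
    simp
  have hχZ : Cfsg.IsCharacter Z (fun z : Z => χ (Z.subtype z)) := IsCharacter.comp_hom Z.subtype hχ
  have h3 : Cfsg.detChar (fun h : Z => χ (Z.subtype ((powMonoidHom K : Z →* Z) h))) x' =
      Cfsg.detChar (fun z : Z => χ (Z.subtype z)) (x' ^ K) :=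
    congrFun (detChar_comp_hom (powMonoidHom K : Z →* Z) hχZ) x'
  have h4 : Cfsg.detChar (fun z : Z => χ (Z.subtype z)) (x' ^ K) = Cfsg.detChar χ (x ^ K) :=
    congrFun (detChar_comp_hom Z.subtype hχ) (x' ^ K)
  obtain ⟨δ, hδ⟩ := exists_hom_detChar hχ
  rw [← h1, h2, h3, h4, hδ]
  simp only [map_pow, Units.val_pow_eq_pow_val]

/-- The canonical extension of an irreducible character of a normal Hall subgroup is fixed by
the power maps that are trivial on the subgroup. -/
theorem canonical_ext_pow_invariant [Finite Γ] (G : Subgroup Γ) [hG : G.Normal]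
    (hcop : (Nat.card G).Coprime G.index)
    (χh : Γ → ℂ) (hχh : Cfsg.IsIrrCharacter Γ χh)
    (hres : Cfsg.IsIrrCharacter G (fun g : G => χh g))
    (hdet : (Cfsg.detOrder χh).Coprime G.index) (K : ℕ) (hK : K.Coprime (Nat.card Γ))
    (hK1 : K ≡ 1 [MOD Nat.card G]) : ∀ x : Γ, χh (x ^ K) = χh x := by
  classical
  haveI := Fintype.ofFinite Γ
  have hχc := IsIrrCharacter.isCharacter hχh
  have hcf := IsCharacter.isClassFunction hχc
  obtain ⟨d, hd, hddvd, -⟩ := IsIrrCharacter.degree_dvd_card hres
  have hodvd := detOrder_dvd_card (IsIrrCharacter.isCharacter hres)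
  have hcop' : Nat.Coprime G.index (Cfsg.detOrder (fun g : G => χh g) * d) := by
    apply Nat.Coprime.mul_right
    · exact (Nat.Coprime.coprime_dvd_left hodvd hcop).symm
    · exact (Nat.Coprime.coprime_dvd_left hddvd hcop).symm
  obtain ⟨χ, -, huniq⟩ := Cfsg.Agent.S0867.result G (fun g : G => χh g) hres
    (fun g n => hcf n g) d hd hcop'
  have h1 : χh = χ := huniq χh hχh (fun _ => rfl) hdet.symm
  have hirrK : Cfsg.IsIrrCharacter Γ (fun x => χh (x ^ K)) := IsIrrCharacter.comp_pow hχh K hK
  have h2 : (fun x => χh (x ^ K)) = χ := by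
    apply huniq _ hirrK
    · intro n
      have hn : ((n : Γ) ^ K) = n := by
        have h3 : n ^ K = n := by
          rw [pow_eq_pow_mod K (pow_card_eq_one' (x := n)), hK1,
            ← pow_eq_pow_mod 1 (pow_card_eq_one' (x := n)), pow_one]
        have := congrArg Subtype.val h3
        rwa [Subgroup.coe_pow] at this
      change χh ((n : Γ) ^ K) = χh n
      rw [hn]
    · unfold Cfsg.detOrder
      rw [detChar_comp_pow hχc K (IsIrrCharacter.isCharacter hirrK)]
      have h4 : (fun x => Cfsg.detChar χh x ^ K) = (Cfsg.detChar χh) ^ K := rfl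
      rw [h4]
      exact (Nat.Coprime.coprime_dvd_left (orderOf_pow_dvd K) hdet).symm
  intro x
  have h5 : χh (x ^ K) = χ x := congrFun h2 x
  rw [h5, ← h1]

end Cfsg.Agent.Helper6
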