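import Mathlib
import Cfsg.Prelude.Def_Characters
import Cfsg.Agent.Helper6.GlaubB
import Cfsg.Agent.Helper6.EquivOfChar
import Cfsg.Agent.Helper6.CharBasic
import Cfsg.Agent.Helper6.IrrDegree
import Cfsg.Agent.Helper6.ClassInner

/-!
# Orthogonality on a coset for characters with irreducible restriction
-/

set_option autoImplicit false
set_option linter.style.haveILetI false
set_option linter.unusedSimpArgs false

namespace Cfsg.Agent.Helper6

open scoped ComplexConjugate

universe u

variable {Γ : Type u} [Group Γ]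

/-- the restriction of a representation to a subgroup -/
abbrev cycRes {n : ℕ} (G : Subgroup Γ) (R : Representation ℂ Γ (Fin n → ℂ)) :
    Representation ℂ G (Fin n → ℂ) := R.comp G.subtype

/-- A character whose restriction to `G` is irreducible is afforded by a matrix representation
with irreducible restriction. -/
theorem exists_rep_restrict_irr [Finite Γ] (G : Subgroup Γ) {χh : Γ → ℂ}
    (hχh : Cfsg.IsCharacter Γ χh) (hres : Cfsg.IsIrrCharacter G (fun g : G => χh g)) :
    ∃ (n : ℕ) (R : Representation ℂ Γ (Fin n → ℂ)), R.character = χh ∧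
      (cycRes G R).IsIrreducible := by
  obtain ⟨n, R, hR⟩ := hχh
  obtain ⟨m, ρ, hirr, hρ⟩ := hres
  refine ⟨n, R, hR, ?_⟩
  have h1 : ρ.character = (cycRes G R).character := by
    rw [hρ]
    funext g
    rw [← hR]
    rfl
  obtain ⟨φ⟩ := equiv_of_char_eq ρ (cycRes G R) h1
  exact isIrreducible_of_equiv φ hirr

theorem repMat_comp_subtype {n : ℕ} (G : Subgroup Γ) (R : Representation ℂ Γ (Fin n → ℂ))
    (g : G) : repMat (cycRes G R) g = repMat R (g : Γ) := rfl

/-- the norm of a character with irreducible restriction on a coset -/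
theorem sum_coset_norm [Fintype Γ] (G : Subgroup Γ) [Fintype G] {χh : Γ → ℂ}
    (hχh : Cfsg.IsCharacter Γ χh) (hres : Cfsg.IsIrrCharacter G (fun g : G => χh g)) (t : Γ) :
    ∑ g : G, χh ((g : Γ) * t) * conj (χh ((g : Γ) * t)) = (Fintype.card G : ℂ) := by
  obtain ⟨n, R, hR, hirr⟩ := exists_rep_restrict_irr G hχh hres
  haveI := hirr
  have hn : (n : ℂ) ≠ 0 := by
    have : Nontrivial (Fin n → ℂ) := irr_nontrivial (cycRes G R)
    have h1 : 0 < Module.finrank ℂ (Fin n → ℂ) := Module.finrank_pos
    rw [Module.finrank_fin_fun] at h1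
    exact_mod_cast h1.ne'
  have key := sum_trace_mul_trace (cycRes G R) (repMat R t) (repMat R t⁻¹)
  rw [← repMat_mul, mul_inv_cancel, repMat_one, Matrix.trace_one, Fintype.card_fin] at key
  have h2 : ∀ g : G, (repMat R t * repMat (cycRes G R) g).trace *
      (repMat R t⁻¹ * repMat (cycRes G R) g⁻¹).trace =
      χh ((g : Γ) * t) * conj (χh ((g : Γ) * t)) := by
    intro g
    rw [repMat_comp_subtype, repMat_comp_subtype, Matrix.trace_mul_comm, ← repMat_mul,
      ← repMat_mul, trace_repMat, trace_repMat, hR]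
    congr 1
    rw [← IsCharacter.inv_eq_conj hχh]
    congr 1
    rw [Subgroup.coe_inv]
    group
  rw [Finset.sum_congr rfl (fun g _ => h2 g)] at key
  have h3 : (n : ℂ) * ∑ g : G, χh ((g : Γ) * t) * conj (χh ((g : Γ) * t)) =
      (n : ℂ) * (Fintype.card G : ℂ) := by rw [key]; ring
  exact mul_left_cancel₀ hn h3

/-- orthogonality on a coset of characters with distinct irreducible restrictions -/
theorem sum_coset_orth [Fintype Γ] (G : Subgroup Γ) [Fintype G] {χh χh' : Γ → ℂ}
    (hχh : Cfsg.IsCharacter Γ χh) (hχh' : Cfsg.IsCharacter Γ χh')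
    (hres : Cfsg.IsIrrCharacter G (fun g : G => χh g))
    (hres' : Cfsg.IsIrrCharacter G (fun g : G => χh' g))
    (hne : (fun g : G => χh g) ≠ (fun g : G => χh' g)) (t : Γ) :
    ∑ g : G, χh ((g : Γ) * t) * conj (χh' ((g : Γ) * t)) = 0 := by
  obtain ⟨n, R, hR⟩ := hχh
  obtain ⟨n', R', hR'⟩ := hχh'
  have h0 : ∑ g : G, (cycRes G R').character g * (cycRes G R).character g⁻¹ = 0 := by
    have h1 := classInner_irr_ne hres' hres (Ne.symm hne)
    rw [classInner_def] at h1
    have hG0 : (Nat.card G : ℂ) ≠ 0 := by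
      have : 0 < Nat.card G := Nat.card_pos
      exact_mod_cast this.ne'
    have h2 := (mul_eq_zero.mp h1).resolve_left (inv_ne_zero hG0)
    rw [← h2]
    apply Finset.sum_congr rfl
    intro g _
    change R'.character (g : Γ) * R.character ((g⁻¹ : G) : Γ) = χh' g * conj (χh g)
    rw [hR', hR, Subgroup.coe_inv, IsCharacter.inv_eq_conj ⟨n, R, hR⟩]
  have key := sum_trace_mul_trace_eq_zero (cycRes G R) (cycRes G R') h0
    (repMat R t) (repMat R' t⁻¹)
  rw [← key]
  apply Finset.sum_congr rfl
  intro g _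
  rw [repMat_comp_subtype, repMat_comp_subtype, Matrix.trace_mul_comm, ← repMat_mul,
    ← repMat_mul, trace_repMat, trace_repMat, hR, hR']
  congr 1
  rw [← IsCharacter.inv_eq_conj ⟨n', R', hR'⟩]
  congr 1
  rw [Subgroup.coe_inv]
  group

end Cfsg.Agent.Helper6
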