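import Mathlib
import Cfsg.Prelude.Def_Characters
import Cfsg.Agent.Helper6.GlaubA
import Cfsg.Agent.Helper6.GlaubR

/-!
# Sums over a coset of a coprime element reduce to sums over the centralizer
-/

set_option autoImplicit false
set_option linter.style.haveILetI false
set_option linter.unusedSimpArgs false

namespace Cfsg.Agent.Helper6

open scoped ComplexConjugate

universe u

variable {Γ : Type u} [Group Γ]

theorem conjAutOn_iterate (G : Subgroup Γ) (x : Γ) (hx : ∀ g ∈ G, x * g * x⁻¹ ∈ G)
    (hx' : ∀ g ∈ G, x⁻¹ * g * x ∈ G) (k : ℕ) (g : G) :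
    (((conjAutOn G x hx hx' : G ≃* G))^[k] g : Γ) = x ^ k * (g : Γ) * (x ^ k)⁻¹ := by
  induction k with
  | zero => simp
  | succ k ih =>
    rw [Function.iterate_succ_apply']
    change x * ((((conjAutOn G x hx hx' : G ≃* G))^[k] g : G) : Γ) * x⁻¹ = _
    rw [ih, pow_succ']
    group

/-- Summation of a class function over the coset `G x` reduces to the coset `C x` where
`C = C_G(x)`, when `x` normalizes `G` and has order coprime to `|G|`. -/
theorem sum_coset_eq_sum_centralizer [Fintype Γ] (G C : Subgroup Γ) [Fintype G] [Fintype C]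
    (x : Γ) (hx : ∀ g ∈ G, x * g * x⁻¹ ∈ G) (hx' : ∀ g ∈ G, x⁻¹ * g * x ∈ G)
    (p : ℕ) (hp : 0 < p) (hxp : x ^ p = 1) (hcop : (Nat.card G).Coprime p)
    (hCG : C ≤ G) (hC : ∀ g ∈ G, g ∈ C ↔ x * g * x⁻¹ = g)
    (Φ : Γ → ℂ) (hΦ : Cfsg.IsClassFunction Γ Φ) :
    (Fintype.card C : ℂ) * ∑ g : G, Φ ((g : Γ) * x) =
      (Fintype.card G : ℂ) * ∑ c : C, Φ ((c : Γ) * x) := by
  classical
  rcases Nat.lt_or_ge 1 p with hp1 | hp1
  · set σ : G ≃* G := conjAutOn G x hx hx' with hσ
    have hσp : ∀ g : G, σ^[p] g = g := by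
      intro g
      apply Subtype.ext
      rw [hσ, conjAutOn_iterate, hxp]
      group
    set F : Subgroup G := C.subgroupOf G with hF
    haveI : Fintype F := Fintype.ofFinite _
    have hFmem : ∀ g : G, g ∈ F ↔ σ g = g := by
      intro g
      rw [hF, Subgroup.mem_subgroupOf, hC g.1 g.2]
      constructor
      · intro h
        exact Subtype.ext h
      · intro h
        exact congrArg Subtype.val h
    have hinv : ∀ h g : G, (fun g : G => Φ ((g : Γ) * x)) (h * g * (σ h)⁻¹) =
        (fun g : G => Φ ((g : Γ) * x)) g := by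
      intro h g
      simp only []
      have e1 : ((h * g * (σ h)⁻¹ : G) : Γ) * x = (h : Γ) * ((g : Γ) * x) * (h : Γ)⁻¹ := by
        rw [Subgroup.coe_mul, Subgroup.coe_mul, Subgroup.coe_inv]
        change (h : Γ) * (g : Γ) * (x * (h : Γ) * x⁻¹)⁻¹ * x = _
        group
      rw [e1, hΦ]
    have key := sum_twisted_invariant σ p hp1 hcop hσp F hFmem (fun g : G => Φ ((g : Γ) * x)) hinv
    let e : F ≃* C := Subgroup.subgroupOfEquivOfLe hCG
    have h1 : Fintype.card F = Fintype.card C := Fintype.card_congr e.toEquiv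
    have h2 : ∑ c : F, Φ (((c : G) : Γ) * x) = ∑ c : C, Φ ((c : Γ) * x) := by
      apply Fintype.sum_equiv e.toEquiv
      intro c
      rfl
    rw [← h1, ← h2]
    exact key
  · have hp1' : p = 1 := le_antisymm hp1 hp
    have hx1 : x = 1 := by rw [hp1', pow_one] at hxp; exact hxp
    have hCeq : C = G := by
      apply le_antisymm hCG
      intro g hg
      rw [hC g hg, hx1]
      group
    have h1 : Fintype.card C = Fintype.card G :=
      Fintype.card_congr (MulEquiv.subgroupCongr hCeq).toEquiv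
    have h2 : ∑ c : C, Φ ((c : Γ) * x) = ∑ g : G, Φ ((g : Γ) * x) := by
      apply Fintype.sum_equiv (MulEquiv.subgroupCongr hCeq).toEquiv
      intro c
      rfl
    rw [h1, h2]

end Cfsg.Agent.Helper6
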