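import Mathlib
import Cfsg.Prelude.Def_Characters
import Cfsg.Agent.Helper6.ProdIrr
import Cfsg.Agent.Helper6.IrrBasis
import Cfsg.Agent.Helper6.ClassInner
import Cfsg.Agent.Helper6.CharBasic
import Cfsg.Agent.Helper6.GaloisChar
import Cfsg.Agent.Helper6.PowCongr
import Cfsg.Agent.Helper6.IrrDegree

/-!
# Partial inner products of characters of a direct product; integrality of rational values
-/

set_option autoImplicit false
set_option linter.style.haveILetI false
set_option linter.unusedSimpArgs false

namespace Cfsg.Agent.Helper6

open scoped ComplexConjugate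

universe u v

variable {X : Type u} [Group X] {Y : Type v} [Group Y]

/-- the partial inner product of a function on `X × Y` with a function on `X` -/
noncomputable def partialInner [Fintype X] (Θ : X × Y → ℂ) (β : X → ℂ) : Y → ℂ :=
  fun y => Cfsg.classInner (fun x => Θ (x, y)) β

theorem partialInner_apply [Fintype X] (Θ : X × Y → ℂ) (β : X → ℂ) (y : Y) :
    partialInner Θ β y = Cfsg.classInner (fun x => Θ (x, y)) β := rfl

/-- The partial inner product of a character of `X × Y` with an irreducible character of `X` is
a character of `Y` (possibly zero). -/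
theorem partialInner_isCharacter [Fintype X] [Finite Y] {Θ : X × Y → ℂ}
    (hΘ : Cfsg.IsCharacter (X × Y) Θ) {β : X → ℂ} (hβ : Cfsg.IsIrrCharacter X β) :
    Cfsg.IsCharacter Y (partialInner Θ β) := by
  rw [isCharacter_iff_mem_closure] at hΘ
  induction hΘ using AddSubmonoid.closure_induction with
  | mem θ hθ =>
    obtain ⟨φ, ψ, hφ, hψ, rfl⟩ := (isIrrCharacter_prod_iff θ).mp hθ
    have h1 : partialInner (fun x : X × Y => φ x.1 * ψ x.2) β =
        fun y => Cfsg.classInner φ β * ψ y := by
      funext y
      rw [partialInner_apply]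
      have : (fun x : X => φ x * ψ y) = ψ y • φ := by
        funext x
        simp [mul_comm]
      simp only []
      rw [this, classInner_smul_left, mul_comm]
    rw [h1]
    by_cases hφβ : φ = β
    · subst hφβ
      rw [classInner_irr_self hφ]
      simp only [one_mul]
      exact IsIrrCharacter.isCharacter hψ
    · rw [classInner_irr_ne hφ hβ hφβ]
      simp only [zero_mul]
      exact IsCharacter.zero
  | zero =>
    have : partialInner (0 : X × Y → ℂ) β = 0 := by
      funext y
      rw [partialInner_apply]
      exact classInner_zero_left β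
    rw [this]
    exact IsCharacter.zero
  | add θ₁ θ₂ _ _ h₁ h₂ =>
    have : partialInner (θ₁ + θ₂) β = partialInner θ₁ β + partialInner θ₂ β := by
      funext y
      rw [Pi.add_apply, partialInner_apply, partialInner_apply, partialInner_apply,
        ← classInner_add_left]
      rfl
    rw [this]
    exact IsCharacter.add h₁ h₂

/-- a character vanishing at the identity vanishes -/
theorem IsCharacter.eq_zero_of_apply_one [Finite Y] {ψ : Y → ℂ} (hψ : Cfsg.IsCharacter Y ψ)
    (h1 : ψ 1 = 0) : ψ = 0 := by
  funext y
  have := IsCharacter.norm_le_norm_one hψ y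
  rw [h1, norm_zero] at this
  exact norm_le_zero_iff.mp this

/-- A character value fixed by all the coprime power maps is a rational integer. -/
theorem IsCharacter.exists_int_of_pow_invariant [Finite Y] {ψ : Y → ℂ}
    (hψ : Cfsg.IsCharacter Y ψ) (y : Y)
    (h : ∀ m : ℕ, m.Coprime (Nat.card Y) → ψ (y ^ m) = ψ y) : ∃ z : ℤ, ψ y = z := by
  have hint := IsCharacter.isIntegral_value hψ y
  obtain ⟨n, ρ, rfl⟩ := hψ
  obtain ⟨q, hq⟩ := (char_rational_iff ρ y).mpr h
  rw [hq] at hint ⊢
  have hq' : IsIntegral ℤ q := (isIntegral_algebraMap_iff (algebraMap ℚ ℂ).injective).mp hint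
  obtain ⟨z, hz⟩ := IsIntegrallyClosed.isIntegral_iff.mp hq'
  refine ⟨z, ?_⟩
  have : (q : ℚ) = (z : ℚ) := hz.symm
  rw [this]
  simp

end Cfsg.Agent.Helper6
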