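import Mathlib
import Cfsg.Prelude.Def_Characters
import Cfsg.Prelude.Def_CharExt
import Cfsg.Agent.Helper6.CycA
import Cfsg.Agent.Helper6.CycB
import Cfsg.Agent.Helper6.CycC
import Cfsg.Agent.Helper6.CycD
import Cfsg.Agent.Helper6.GlaubF

/-!
# Values of the canonical extension on commuting products
-/

set_option autoImplicit false
set_option linter.style.haveILetI false
set_option linter.unusedSimpArgs false

namespace Cfsg.Agent.Helper6

open scoped ComplexConjugate

universe u

variable {Γ : Type u} [Group Γ]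

/-- integers whose squares sum to one -/
theorem exists_of_sum_sq_eq_one {ι : Type*} [Fintype ι] (z : ι → ℤ) (h : ∑ i, z i ^ 2 = 1) :
    ∃ i₀, (z i₀ = 1 ∨ z i₀ = -1) ∧ ∀ i, i ≠ i₀ → z i = 0 := by
  classical
  have h1 : ∃ i₀, z i₀ ≠ 0 := by
    by_contra hcon
    push Not at hcon
    simp [hcon] at h
  obtain ⟨i₀, hi₀⟩ := h1
  have h2 := Finset.add_sum_erase Finset.univ (fun i => z i ^ 2) (Finset.mem_univ i₀)
  rw [h] at h2
  have h3 : 0 ≤ ∑ i ∈ Finset.univ.erase i₀, z i ^ 2 :=
    Finset.sum_nonneg (fun i _ => sq_nonneg _)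
  have h4 : 1 ≤ z i₀ ^ 2 := by
    have : 0 < z i₀ ^ 2 := by positivity
    omega
  have h5 : z i₀ ^ 2 = 1 := by omega
  have h6 : ∑ i ∈ Finset.univ.erase i₀, z i ^ 2 = 0 := by omega
  refine ⟨i₀, sq_eq_one_iff.mp h5, ?_⟩
  intro i hi
  have := (Finset.sum_eq_zero_iff_of_nonneg (fun i _ => sq_nonneg (z i))).mp h6 i
    (Finset.mem_erase.mpr ⟨hi, Finset.mem_univ i⟩)
  exact (pow_eq_zero_iff (two_ne_zero)).mp this

/-- The canonical extension takes the same value on `c y ^ k` and `c y` when `c ∈ G` commutes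
with `y ∈ S` and `k` is coprime to `|S|`. -/
theorem canonical_ext_mul_pow [Finite Γ] (G S : Subgroup Γ) [hG : G.Normal]
    (hcop : (Nat.card G).Coprime (Nat.card S)) (hidx : G.index = Nat.card S)
    (χh : Γ → ℂ) (hχh : Cfsg.IsIrrCharacter Γ χh)
    (hres : Cfsg.IsIrrCharacter G (fun g : G => χh g))
    (hdet : (Cfsg.detOrder χh).Coprime (Nat.card S))
    (c : Γ) (hc : c ∈ G) (y : Γ) (hy : y ∈ S) (hcomm : Commute c y) (k : ℕ)
    (hk : k.Coprime (Nat.card S)) : χh (c * y ^ k) = χh (c * y) := by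
  obtain ⟨K, hK1, hKk⟩ := Nat.chineseRemainder hcop 1 k
  have hKG : K.Coprime (Nat.card G) := by
    have := hK1.gcd_eq
    rw [Nat.gcd_one_left] at this
    exact this
  have hKS : K.Coprime (Nat.card S) := by
    have := hKk.gcd_eq
    rw [hk] at this
    exact this
  have hKΓ : K.Coprime (Nat.card Γ) := by
    rw [← Subgroup.card_mul_index G, hidx]
    exact Nat.Coprime.mul_right hKG hKS
  have hcop' : (Nat.card G).Coprime G.index := by rw [hidx]; exact hcop
  have hdet' : (Cfsg.detOrder χh).Coprime G.index := by rw [hidx]; exact hdet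
  have h1 := canonical_ext_pow_invariant G hcop' χh hχh hres hdet' K hKΓ hK1 (c * y)
  rw [hcomm.mul_pow] at h1
  have hcG : c ^ Nat.card G = 1 := by
    have h2 := pow_card_eq_one' (G := G) (x := ⟨c, hc⟩)
    have h3 := congrArg Subtype.val h2
    rwa [Subgroup.coe_pow] at h3
  have hyS : y ^ Nat.card S = 1 := by
    have h2 := pow_card_eq_one' (G := S) (x := ⟨y, hy⟩)
    have h3 := congrArg Subtype.val h2
    rwa [Subgroup.coe_pow] at h3
  have hcK : c ^ K = c := by
    rw [pow_eq_pow_mod K hcG, hK1, ← pow_eq_pow_mod 1 hcG, pow_one]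
  have hyK : y ^ K = y ^ k := by
    rw [pow_eq_pow_mod K hyS, hKk, ← pow_eq_pow_mod k hyS]
  rw [hcK, hyK] at h1
  exact h1

end Cfsg.Agent.Helper6
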