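import Mathlib
import Cfsg.Prelude.Def_Characters
import Cfsg.Prelude.Def_CharExt
import Cfsg.Agent.Helper6.CycE
import Cfsg.Agent.Helper6.Expansion
import Cfsg.Agent.Helper6.Induced

/-!
# The Glauberman correspondent of an invariant character under a cyclic coprime action
-/

set_option autoImplicit false
set_option linter.style.haveILetI false
set_option linter.unusedSimpArgs false

namespace Cfsg.Agent.Helper6

open scoped ComplexConjugate

universe u

variable {Γ : Type u} [Group Γ]

set_option maxHeartbeats 1600000 in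
/-- The values of the canonical extension on the coset `C x` are, up to a sign, those of an
irreducible character of `C = C_G(x)`. -/
theorem cyc_main [Fintype Γ] (G S C : Subgroup Γ) [Fintype G] [Fintype C] [hG : G.Normal]
    (hcop : (Nat.card G).Coprime (Nat.card S)) (hidx : G.index = Nat.card S)
    (hCG : C ≤ G) (hCS : ∀ c ∈ C, ∀ y ∈ S, Commute c y)
    (x : Γ) (hxS : x ∈ S) (hCx : ∀ g ∈ G, g ∈ C ↔ x * g * x⁻¹ = g)
    (χh : Γ → ℂ) (hχh : Cfsg.IsIrrCharacter Γ χh)
    (hres : Cfsg.IsIrrCharacter G (fun g : G => χh g))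
    (hdet : (Cfsg.detOrder χh).Coprime (Nat.card S)) :
    ∃ (β : Cfsg.IrrCharacter C) (ε : ℤ), (ε = 1 ∨ ε = -1) ∧
      (∀ c : C, ∀ k : ℕ, k.Coprime (Nat.card S) →
        χh ((c : Γ) * x ^ k) = (ε : ℂ) * (β : C → ℂ) c) ∧
      Cfsg.classInner (fun c : C => χh c) (β : C → ℂ) ≠ 0 := by
  classical
  haveI : Finite (Cfsg.IrrCharacter C) := irr_finite
  haveI : Fintype (Cfsg.IrrCharacter C) := Fintype.ofFinite _
  have hχc := IsIrrCharacter.isCharacter hχh
  have hcf := IsCharacter.isClassFunction hχc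
  let m : C × S →* Γ := MonoidHom.noncommCoprod C.subtype S.subtype
    (fun c y => hCS c.1 c.2 y.1 y.2)
  have hm : ∀ z : C × S, m z = (z.1 : Γ) * (z.2 : Γ) := fun z => rfl
  set Θ : C × S → ℂ := fun z => χh (m z) with hΘ
  have hΘc : Cfsg.IsCharacter (C × S) Θ := IsCharacter.comp_hom m hχc
  set xs : S := ⟨x, hxS⟩ with hxs
  set f : C → ℂ := fun c => χh ((c : Γ) * x) with hf
  have hfcf : Cfsg.IsClassFunction C f := by
    intro c h
    simp only [hf]
    have e1 : ((h * c * h⁻¹ : C) : Γ) * x = (h : Γ) * ((c : Γ) * x) * (h : Γ)⁻¹ := by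
      have hcomm := hCS h.1 h.2 x hxS
      rw [Subgroup.coe_mul, Subgroup.coe_mul, Subgroup.coe_inv]
      have e2 : (h : Γ)⁻¹ * x = x * (h : Γ)⁻¹ := (hcomm.inv_left).eq
      rw [mul_assoc _ _ x, e2]
      group
    rw [e1, hcf]
  have ha : ∀ β : Cfsg.IrrCharacter C, partialInner Θ β.1 xs = Cfsg.classInner f β.1 :=
    fun β => rfl
  have hinv : ∀ β : Cfsg.IrrCharacter C, ∀ k : ℕ, k.Coprime (Nat.card S) →
      partialInner Θ β.1 (xs ^ k) = partialInner Θ β.1 xs := by
    intro β k hk
    rw [partialInner_apply, partialInner_apply]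
    congr 1
    funext c
    simp only [hΘ, hm]
    rw [Subgroup.coe_pow]
    exact canonical_ext_mul_pow G S hcop hidx χh hχh hres hdet c (hCG c.2) x hxS
      (hCS c.1 c.2 x hxS) k hk
  have hint : ∀ β : Cfsg.IrrCharacter C, ∃ z : ℤ, Cfsg.classInner f β.1 = z := by
    intro β
    have h1 := IsCharacter.exists_int_of_pow_invariant (partialInner_isCharacter hΘc β.2) xs
      (hinv β)
    rwa [ha] at h1
  choose z hz using hint
  -- the norm of `f`
  have hnorm : Cfsg.classInner f f = 1 := by
    rw [classInner_def]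
    have hx1 : ∀ g ∈ G, x * g * x⁻¹ ∈ G := fun g hg => hG.conj_mem g hg x
    have hx2 : ∀ g ∈ G, x⁻¹ * g * x ∈ G := by
      intro g hg
      have := hG.conj_mem g hg x⁻¹
      rwa [inv_inv] at this
    have hxp : x ^ Nat.card S = 1 := by
      have h2 := pow_card_eq_one' (G := S) (x := ⟨x, hxS⟩)
      have h3 := congrArg Subtype.val h2
      rwa [Subgroup.coe_pow] at h3
    have hΦ : Cfsg.IsClassFunction Γ (fun y => χh y * conj (χh y)) := by
      intro g h
      simp only []
      rw [hcf]
    have h1 := sum_coset_eq_sum_centralizer G C x hx1 hx2 (Nat.card S) Nat.card_pos hxp hcop hCG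
      hCx (fun y => χh y * conj (χh y)) hΦ
    rw [sum_coset_norm G hχc hres x] at h1
    have hG0 : (Fintype.card G : ℂ) ≠ 0 := by
      have : 0 < Fintype.card G := Fintype.card_pos
      exact_mod_cast this.ne'
    have hC0 : (Fintype.card C : ℂ) ≠ 0 := by
      have : 0 < Fintype.card C := Fintype.card_pos
      exact_mod_cast this.ne'
    have h2 : ∑ c : C, χh ((c : Γ) * x) * conj (χh ((c : Γ) * x)) = (Fintype.card C : ℂ) := by
      apply mul_left_cancel₀ hG0
      rw [← h1]
      ring
    simp only [hf]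
    rw [h2, Nat.card_eq_fintype_card]
    exact inv_mul_cancel₀ hC0
  have hpars := classInner_parseval f f hfcf
  rw [hnorm] at hpars
  have hsum : ∑ β : Cfsg.IrrCharacter C, z β ^ 2 = 1 := by
    have h1 : ((∑ β : Cfsg.IrrCharacter C, z β ^ 2 : ℤ) : ℂ) = 1 := by
      rw [hpars]
      push_cast
      apply Finset.sum_congr rfl
      intro β _
      rw [hz β, map_intCast]
      ring
    exact_mod_cast h1
  obtain ⟨β₀, hβ₀, hother⟩ := exists_of_sum_sq_eq_one z hsum
  have hexp := classFunction_expansion f hfcf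
  have hfval : ∀ c : C, f c = (z β₀ : ℂ) * (β₀ : C → ℂ) c := by
    intro c
    have h1 := congrFun hexp c
    rw [Finset.sum_apply] at h1
    rw [h1]
    rw [Finset.sum_eq_single β₀]
    · rw [Pi.smul_apply, smul_eq_mul, hz β₀]
    · intro β _ hβ
      rw [Pi.smul_apply, smul_eq_mul, hz β, hother β hβ]
      simp
    · intro h
      exact absurd (Finset.mem_univ β₀) h
  refine ⟨β₀, z β₀, hβ₀, ?_, ?_⟩
  · intro c k hk
    rw [canonical_ext_mul_pow G S hcop hidx χh hχh hres hdet c (hCG c.2) x hxS
      (hCS c.1 c.2 x hxS) k hk]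
    exact hfval c
  · intro h0
    have h1 : partialInner Θ β₀.1 1 = 0 := by
      rw [partialInner_apply, ← h0]
      congr 1
      funext c
      simp only [hΘ, hm]
      rw [Subgroup.coe_one, mul_one]
    have h2 := IsCharacter.eq_zero_of_apply_one (partialInner_isCharacter hΘc β₀.2) h1
    have h3 : Cfsg.classInner f β₀.1 = 0 := by
      rw [← ha, h2]
      rfl
    rw [hz β₀] at h3
    have h4 : z β₀ = 0 := by exact_mod_cast h3
    rcases hβ₀ with h | h <;> omega

end Cfsg.Agent.Helper6
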