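import Mathlib
import Cfsg.Prelude.Def_Characters
import Cfsg.Agent.Helper6.GlaubR

/-!
# The Glauberman correspondence for a `p`-subgroup normalizing a subgroup
-/

set_option autoImplicit false
set_option linter.style.haveILetI false
set_option linter.unusedSimpArgs false

namespace Cfsg.Agent.Helper6

open scoped ComplexConjugate

universe u

variable {Γ : Type u} [Group Γ]

theorem invUnder_conj_iff (G S : Subgroup Γ) (hnorm : ∀ s ∈ S, ∀ g ∈ G, s * g * s⁻¹ ∈ G)
    (χ : G → ℂ) :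
    InvUnder (((conjHomOn G S hnorm).range : Subgroup (MulAut G)) : Set (MulAut G)) χ ↔
      ∀ s ∈ S, ∀ g g' : G, (g' : Γ) = s * g * s⁻¹ → χ g' = χ g := by
  constructor
  · intro h s hs g g' hg'
    have h1 := h (conjHomOn G S hnorm ⟨s, hs⟩) ⟨⟨s, hs⟩, rfl⟩ g
    have h2 : conjHomOn G S hnorm ⟨s, hs⟩ g = g' := by
      apply Subtype.ext
      rw [conjHomOn_apply, hg']
    rwa [h2] at h1
  · intro h a ha g
    obtain ⟨s, rfl⟩ := ha
    exact h s.1 s.2 g _ (conjHomOn_apply G S hnorm s g)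

theorem mem_range_inclusion_iff (G S C : Subgroup Γ)
    (hnorm : ∀ s ∈ S, ∀ g ∈ G, s * g * s⁻¹ ∈ G)
    (hC : C = G ⊓ Subgroup.centralizer (S : Set Γ)) (hCG : C ≤ G) (g : G) :
    g ∈ (Subgroup.inclusion hCG).range ↔ ∀ a ∈ (conjHomOn G S hnorm).range, a g = g := by
  constructor
  · rintro ⟨c, rfl⟩ a ⟨s, rfl⟩
    apply Subtype.ext
    rw [conjHomOn_apply]
    have hc : (c : Γ) ∈ Subgroup.centralizer (S : Set Γ) := by
      have h1 : (c : Γ) ∈ G ⊓ Subgroup.centralizer (S : Set Γ) := hC ▸ c.2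
      exact (Subgroup.mem_inf.mp h1).2
    have := (Subgroup.mem_centralizer_iff.mp hc) s.1 s.2
    change s.1 * (c : Γ) * s.1⁻¹ = (c : Γ)
    rw [this]
    group
  · intro h
    have hg : (g : Γ) ∈ C := by
      rw [hC, Subgroup.mem_inf]
      refine ⟨g.2, ?_⟩
      rw [Subgroup.mem_centralizer_iff]
      intro s hs
      have h1 := h (conjHomOn G S hnorm ⟨s, hs⟩) ⟨⟨s, hs⟩, rfl⟩
      have h2 := congrArg Subtype.val h1
      rw [conjHomOn_apply] at h2
      change s * (g : Γ) * s⁻¹ = (g : Γ) at h2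
      calc s * (g : Γ) = s * (g : Γ) * s⁻¹ * s := by group
        _ = (g : Γ) * s := by rw [h2]
    exact ⟨⟨g.1, hg⟩, Subtype.ext rfl⟩

/-- The Glauberman correspondence for a `p`-subgroup `S` normalizing `G`, with `C = C_G(S)`. -/
theorem glaubStatement_conj (G S : Subgroup Γ) [Fintype G]
    (hnorm : ∀ s ∈ S, ∀ g ∈ G, s * g * s⁻¹ ∈ G) (hcop : (Nat.card G).Coprime (Nat.card S))
    (p : ℕ) [hp : Fact p.Prime] (hS : IsPGroup p S) (C : Subgroup Γ) [Fintype C]
    (hC : C = G ⊓ Subgroup.centralizer (S : Set Γ)) (hCG : C ≤ G) :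
    GlaubStatement p (((conjHomOn G S hnorm).range : Subgroup (MulAut G)) : Set (MulAut G))
      (Subgroup.inclusion hCG) := by
  have hA : IsPGroup p (conjHomOn G S hnorm).range :=
    hS.of_surjective (conjHomOn G S hnorm).rangeRestrict
      (conjHomOn G S hnorm).rangeRestrict_surjective
  have hcop' : (Nat.card G).Coprime (Nat.card (conjHomOn G S hnorm).range) :=
    Nat.Coprime.coprime_dvd_right (Subgroup.card_range_dvd _) hcop
  exact glaubStatement_pgroup_coprime _ hA hcop' (Subgroup.inclusion hCG)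
    (Subgroup.inclusion_injective hCG) (mem_range_inclusion_iff G S C hnorm hC hCG)

end Cfsg.Agent.Helper6
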