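import Mathlib
import Cfsg.Prelude.Def_Characters
import Cfsg.Prelude.Def_CharExt
import Cfsg.Agent.Helper6.CycF
import Cfsg.Agent.Helper6.CopB
import Cfsg.Agent.Helper6.CopD
import Cfsg.Agent.Helper6.GlaubS
import Cfsg.Agent.Helper6.NormalInd

/-!
# Set-up lemmas for a normal subgroup with a cyclic complement of coprime order
-/

set_option autoImplicit false
set_option linter.style.haveILetI false
set_option linter.unusedSimpArgs false

namespace Cfsg.Agent.Helper6

open scoped ComplexConjugate

universe u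

variable {Γ : Type u} [Group Γ]

theorem normal_of_sup_eq_top (G S : Subgroup Γ) (hnorm : ∀ s ∈ S, ∀ g ∈ G, s * g * s⁻¹ ∈ G)
    (htop : G ⊔ S = ⊤) : G.Normal := by
  apply Subgroup.normalizer_eq_top_iff.mp
  apply top_le_iff.mp
  rw [← htop]
  apply sup_le
  · exact Subgroup.le_normalizer
  · intro s hs
    rw [Subgroup.mem_normalizer_iff]
    intro g
    constructor
    · exact hnorm s hs g
    · intro h
      have := hnorm s⁻¹ (inv_mem hs) _ h
      have e : s⁻¹ * (s * g * s⁻¹) * s⁻¹⁻¹ = g := by group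
      rwa [e] at this

theorem index_eq_card_of_coprime_sup (G S : Subgroup Γ) [hG : G.Normal]
    (hcop : (Nat.card G).Coprime (Nat.card S)) (htop : G ⊔ S = ⊤) :
    G.index = Nat.card S :=
  index_eq_card_of_complement G S (Subgroup.disjoint_of_coprime_natCard hcop).eq_bot htop

/-- another generator of a finite cyclic group is a coprime power -/
theorem exists_pow_coprime_of_zpowers_eq [Finite Γ] (s₀ s : Γ)
    (h : Subgroup.zpowers s = Subgroup.zpowers s₀) :
    ∃ k : ℕ, k.Coprime (Nat.card (Subgroup.zpowers s₀)) ∧ s = s₀ ^ k := by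
  have h1 : s ∈ Subgroup.zpowers s₀ := by
    rw [← h]
    exact Subgroup.mem_zpowers s
  obtain ⟨k, hk⟩ := (mem_powers_iff_mem_zpowers (x := s₀) (y := s)).mpr h1
  refine ⟨k, ?_, hk.symm⟩
  have h2 : orderOf s = orderOf s₀ := by
    rw [← Nat.card_zpowers, ← Nat.card_zpowers, h]
  have hk' : s₀ ^ k = s := hk
  rw [← hk', orderOf_pow] at h2
  rw [Nat.card_zpowers]
  have hpos : 0 < orderOf s₀ := orderOf_pos s₀
  rcases Nat.div_eq_self.mp h2 with h3 | h3
  · omega
  · rw [Nat.coprime_comm]
    exact h3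

/-- the centralizer of a generator -/
theorem mem_centralizer_of_zpowers_eq (G S C : Subgroup Γ)
    (hC : C = G ⊓ Subgroup.centralizer (S : Set Γ)) (s : Γ) (hs : Subgroup.zpowers s = S) :
    ∀ g ∈ G, g ∈ C ↔ s * g * s⁻¹ = g := by
  intro g hg
  constructor
  · intro hgC
    rw [hC, Subgroup.mem_inf, Subgroup.mem_centralizer_iff] at hgC
    have h1 := hgC.2 s (by rw [← hs]; exact Subgroup.mem_zpowers s)
    rw [h1]
    group
  · intro h
    rw [hC, Subgroup.mem_inf]
    refine ⟨hg, ?_⟩
    rw [Subgroup.mem_centralizer_iff]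
    intro y hy
    rw [← hs] at hy
    obtain ⟨k, rfl⟩ := Subgroup.mem_zpowers_iff.mp hy
    have hcomm : Commute s g := by
      have : s * g = g * s := by
        calc s * g = s * g * s⁻¹ * s := by group
          _ = g * s := by rw [h]
      exact this
    exact (hcomm.zpow_left k).eq

theorem commute_of_mem_inf_centralizer (G S C : Subgroup Γ)
    (hC : C = G ⊓ Subgroup.centralizer (S : Set Γ)) : ∀ c ∈ C, ∀ y ∈ S, Commute c y := by
  intro c hc y hy
  rw [hC, Subgroup.mem_inf, Subgroup.mem_centralizer_iff] at hc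
  exact (hc.2 y hy).symm

/-- an `S`-invariant class function on `G` is invariant in `G S` -/
theorem invariant_of_sup_eq_top (G S : Subgroup Γ) [hG : G.Normal] (htop : G ⊔ S = ⊤)
    (χ : G → ℂ) (hcf : Cfsg.IsClassFunction G χ)
    (hS : ∀ s ∈ S, ∀ g g' : G, (g' : Γ) = s * g * s⁻¹ → χ g' = χ g) :
    ∀ (g : Γ) (n : G), χ ⟨g * n * g⁻¹, hG.conj_mem n n.2 g⟩ = χ n := by
  have h1 : conjStab G χ = ⊤ := by
    apply top_le_iff.mp
    rw [← htop]
    apply sup_le
    · intro g hg
      rw [mem_conjStab]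
      funext n
      change χ ⟨g * n * g⁻¹, _⟩ = χ n
      have := hcf n ⟨g, hg⟩
      rw [← this]
      congr 1
    · intro s hs
      rw [mem_conjStab]
      funext n
      exact hS s hs n _ rfl
  intro g n
  have h2 : g ∈ conjStab G χ := by rw [h1]; exact Subgroup.mem_top g
  exact congrFun ((mem_conjStab G χ g).mp h2) n

end Cfsg.Agent.Helper6
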