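import Mathlib
import Cfsg.Prelude.Def_Characters
import Cfsg.Prelude.Def_CharExt
import Cfsg.Prelude.Def_Blocks
import Cfsg.Agent.Helper6.CycF
import Cfsg.Agent.Helper6.CharCongr
import Cfsg.Agent.Helper6.PowCongr
import Cfsg.Agent.Helper6.InducedPart
import Cfsg.Agent.Helper6.BlockUnion

/-!
# The values of the canonical extension on a `p`-group all of whose non-identity elements have
the same centralizer: one irreducible character of the centralizer gives all of them
-/

set_option autoImplicit false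
set_option linter.style.haveILetI false

namespace Cfsg.Agent.Helper6

open scoped ComplexConjugate

universe u

variable {Γ : Type u} [Group Γ]

/-- A class function of a `p'`-group congruent to `ε β` modulo the local ideal contains `β` with
multiplicity prime to `p` and every other irreducible character with multiplicity divisible by
`p`. -/
theorem mult_of_congr {C : Type u} [Group C] [Fintype C] {p : ℕ} [hp : Fact p.Prime]
    {M : Ideal Cfsg.AlgInt} (hM : Cfsg.IsPModular p M) (hC : ¬ p ∣ Nat.card C)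
    (f : C → ℂ) (β : Cfsg.IrrCharacter C) (ε : ℤ) (hε : ε = 1 ∨ ε = -1)
    (hcong : ∀ c : C, Cfsg.MemLocalIdeal M (f c - (ε : ℂ) * (β : C → ℂ) c))
    (β' : Cfsg.IrrCharacter C) (n : ℕ) (hn : Cfsg.classInner f (β' : C → ℂ) = (n : ℂ)) :
    (β' ≠ β → p ∣ n) ∧ (β' = β → ¬ p ∣ n) := by
  classical
  have hMm := hM.2.1
  have hC0 : (Nat.card C : ℂ) ≠ 0 := by exact_mod_cast Nat.card_pos.ne'
  -- the sum lies in the local ideal
  have hsum : Cfsg.MemLocalIdeal M
      (∑ c : C, (f c - (ε : ℂ) * (β : C → ℂ) c) * conj ((β' : C → ℂ) c)) := by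
    apply MemLocalIdeal.sum hMm
    intro c _
    rw [mul_comm]
    apply MemLocalIdeal.mul_left hMm _ (hcong c)
    apply memLocalRing_of_isIntegral hMm
    exact map_isIntegral_int (starRingEnd ℂ)
      (IsCharacter.isIntegral_value (IsIrrCharacter.isCharacter β'.2) c)
  have hexp : ∑ c : C, (f c - (ε : ℂ) * (β : C → ℂ) c) * conj ((β' : C → ℂ) c) =
      (Nat.card C : ℂ) * (Cfsg.classInner f (β' : C → ℂ) -
        (ε : ℂ) * Cfsg.classInner (β : C → ℂ) (β' : C → ℂ)) := by
    rw [classInner_def, classInner_def, ← mul_assoc (ε : ℂ), mul_comm (ε : ℂ), mul_assoc,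
      ← mul_sub, ← mul_assoc, mul_inv_cancel₀ hC0, one_mul, Finset.mul_sum,
      ← Finset.sum_sub_distrib]
    apply Finset.sum_congr rfl
    intro c _
    ring
  rw [hexp, hn] at hsum
  constructor
  · intro hne
    rw [classInner_irr_ne β.2 β'.2 (fun h => hne (Subtype.ext h).symm), mul_zero, sub_zero] at hsum
    have h1 : Cfsg.MemLocalIdeal M ((Nat.card C * n : ℕ) : ℂ) := by
      push_cast
      exact hsum
    have h2 := dvd_of_memLocalIdeal_natCast hM _ h1
    rcases (Nat.Prime.dvd_mul hp.out).mp h2 with h | h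
    · exact absurd h hC
    · exact h
  · intro heq hdvd
    subst heq
    rw [classInner_irr_self β'.2, mul_one] at hsum
    obtain ⟨n', rfl⟩ := hdvd
    have h1 : Cfsg.MemLocalIdeal M ((Nat.card C : ℂ) * ((p * n' : ℕ) : ℂ)) := by
      have : (Nat.card C : ℂ) * ((p * n' : ℕ) : ℂ) = ((Nat.card C * n' : ℕ) : ℂ) * (p : ℂ) := by
        push_cast
        ring
      rw [this]
      exact MemLocalIdeal.mul_left hMm (memLocalRing_natCast hMm _) (memLocalIdeal_prime hM)
    have h2 : Cfsg.MemLocalIdeal M ((Nat.card C : ℂ) * (ε : ℂ)) := by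
      have : (Nat.card C : ℂ) * (ε : ℂ) = (Nat.card C : ℂ) * ((p * n' : ℕ) : ℂ) -
          (Nat.card C : ℂ) * (((p * n' : ℕ) : ℂ) - (ε : ℂ)) := by ring
      rw [this]
      exact MemLocalIdeal.sub hMm h1 hsum
    have h3 : Cfsg.MemLocalIdeal M ((Nat.card C : ℕ) : ℂ) := by
      rcases hε with h | h
      · rw [h] at h2
        simpa using h2
      · rw [h] at h2
        have := MemLocalIdeal.neg h2
        simpa using this
    exact hC (dvd_of_memLocalIdeal_natCast hM _ h3)

set_option maxHeartbeats 800000 in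
/-- **the values of the canonical extension** on a `p`-group `P` of operators all of whose
non-identity elements have the same centralizer `C` in `K`: a single irreducible character of `C`
gives, up to signs, the values on all the cosets `C y`, `y ≠ 1`. -/
theorem ti_ext_values [Fintype Γ] (K P C : Subgroup Γ) [Fintype K] [Fintype C] [hK : K.Normal]
    {p : ℕ} [hp : Fact p.Prime] (hP : IsPGroup p P) (hcopK : ¬ p ∣ Nat.card K)
    (hidx : K.index = Nat.card P) (hCK : C ≤ K) (hCP : ∀ c ∈ C, ∀ y ∈ P, Commute c y)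
    (hfp : ∀ y ∈ P, y ≠ 1 → ∀ g ∈ K, g ∈ C ↔ y * g * y⁻¹ = g)
    (ψ : Γ → ℂ) (hψ : Cfsg.IsIrrCharacter Γ ψ)
    (hres : Cfsg.IsIrrCharacter K (fun g : K => ψ g))
    (hdet : (Cfsg.detOrder ψ).Coprime (Nat.card P)) :
    ∃ β : Cfsg.IrrCharacter C, ∀ y ∈ P, y ≠ 1 → ∃ ε : ℤ, (ε = 1 ∨ ε = -1) ∧
      ∀ c : C, ψ ((c : Γ) * y) = (ε : ℂ) * (β : C → ℂ) c := by
  classical
  obtain ⟨M, hM⟩ := exists_isPModular p hp.out
  have hψc := IsIrrCharacter.isCharacter hψ
  have hcop : (Nat.card K).Coprime (Nat.card P) := by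
    obtain ⟨k, hk⟩ := IsPGroup.iff_card.mp hP
    rw [hk]
    exact (Nat.Coprime.pow_left k ((Nat.Prime.coprime_iff_not_dvd hp.out).mpr hcopK)).symm
  have hCcard : ¬ p ∣ Nat.card C := fun h => hcopK (h.trans (Subgroup.card_dvd_of_le hCK))
  have hresC : Cfsg.IsCharacter C (fun c : C => ψ c) := IsCharacter.restrict C hψc
  have key : ∀ y ∈ P, y ≠ 1 → ∃ (β : Cfsg.IrrCharacter C) (ε : ℤ), (ε = 1 ∨ ε = -1) ∧
      (∀ c : C, ψ ((c : Γ) * y) = (ε : ℂ) * (β : C → ℂ) c) ∧
      ∀ (β' : Cfsg.IrrCharacter C) (n : ℕ),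
        Cfsg.classInner (fun c : C => ψ c) (β' : C → ℂ) = (n : ℂ) →
          (β' ≠ β → p ∣ n) ∧ (β' = β → ¬ p ∣ n) := by
    intro y hy hy1
    obtain ⟨β, ε, hε, hval, -⟩ := cyc_main K P C hcop hidx hCK hCP y hy (hfp y hy hy1) ψ hψ
      hres hdet
    have hval1 : ∀ c : C, ψ ((c : Γ) * y) = (ε : ℂ) * (β : C → ℂ) c := by
      intro c
      have := hval c 1 (Nat.coprime_one_left _)
      rwa [pow_one] at this
    refine ⟨β, ε, hε, hval1, ?_⟩
    have hyord : ∃ k : ℕ, orderOf y = p ^ k := by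
      obtain ⟨k, hk⟩ := (IsPGroup.iff_orderOf.mp hP) ⟨y, hy⟩
      rw [Subgroup.orderOf_mk] at hk
      exact ⟨k, hk⟩
    have hcong : ∀ c : C, Cfsg.MemLocalIdeal M
        ((fun c : C => ψ c) c - (ε : ℂ) * (β : C → ℂ) c) := by
      intro c
      have hcy : y * (c : Γ) = (c : Γ) * y := ((hCP c.1 c.2 y hy).eq).symm
      have hcord : ¬ p ∣ orderOf (c : Γ) := by
        intro hd
        have h1 : orderOf (⟨(c : Γ), hCK c.2⟩ : K) ∣ Nat.card K := orderOf_dvd_natCard _
        rw [Subgroup.orderOf_mk] at h1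
        exact hcopK (hd.trans h1)
      have h1 := char_mul_sub_memLocalIdeal hM.2.1 p hp.out hM.2.2 hψc y (c : Γ) hcy hyord hcord
      rw [hcy, hval1 c] at h1
      have h2 := MemLocalIdeal.neg h1
      rw [neg_sub] at h2
      exact h2
    intro β' n hn
    exact mult_of_congr hM hCcard (fun c : C => ψ c) β ε hε hcong β' n hn
  by_cases hex : ∃ y ∈ P, y ≠ 1
  · obtain ⟨y₀, hy₀, hy₀1⟩ := hex
    obtain ⟨β₀, ε₀, hε₀, hval₀, hmult₀⟩ := key y₀ hy₀ hy₀1
    refine ⟨β₀, ?_⟩
    intro y hy hy1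
    obtain ⟨β, ε, hε, hval, hmult⟩ := key y hy hy1
    have hββ : β = β₀ := by
      by_contra hne
      obtain ⟨n, hn⟩ := classInner_char_char_nat hresC (IsIrrCharacter.isCharacter β.2)
      exact (hmult β n hn).2 rfl ((hmult₀ β n hn).1 hne)
    subst hββ
    exact ⟨ε, hε, hval⟩
  · push Not at hex
    refine ⟨⟨fun _ : C => (1 : ℂ), isIrrCharacter_one⟩, ?_⟩
    intro y hy hy1
    exact absurd (hex y hy) hy1

end Cfsg.Agent.Helper6
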