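import Mathlib
import Cfsg.Prelude.Def_Characters
import Cfsg.Prelude.Def_CharExt
import Cfsg.Prelude.Def_Blocks
import Cfsg.Agent.Helper6.TILeoB
import Cfsg.Agent.Helper6.CycG
import Cfsg.Agent.Helper6.CoprimeExt
import Cfsg.Agent.Helper6.RepEigen
import Cfsg.Agent.Helper6.BlockPart

/-!
# An invariant character of small degree under a `p`-group of operators all of whose non-identity
elements have the same centralizer
-/

set_option autoImplicit false
set_option linter.style.haveILetI false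

namespace Cfsg.Agent.Helper6

open Module
open scoped ComplexConjugate

universe u

variable {Γ : Type u} [Group Γ]

/-- an element at which a character has the norm of its degree acts as a scalar, so the character
takes the value of its degree at the commutators with this element -/
theorem char_commutator_of_norm_eq {G : Type u} [Group G] [Finite G] {ψ : G → ℂ}
    (hψ : Cfsg.IsCharacter G ψ) (y : G) (hy : ‖ψ y‖ = ‖ψ 1‖) (k : G) :
    ψ (y * k * y⁻¹ * k⁻¹) = ψ 1 := by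
  obtain ⟨n, ρ, rfl⟩ := hψ
  have h1 : ρ.character 1 = (finrank ℂ (Fin n → ℂ) : ℂ) := Representation.char_one ρ
  have hn : ‖ρ.character y‖ = (finrank ℂ (Fin n → ℂ) : ℝ) := by
    rw [hy, h1, Complex.norm_natCast]
  obtain ⟨ω, hω⟩ := (norm_char_eq_iff ρ y).mp hn
  have hcomm : ρ (y * k) = ρ (k * y) := by
    rw [map_mul, map_mul, hω]
    ext v
    simp
  have hid : ρ (y * k * y⁻¹ * k⁻¹) = LinearMap.id := by
    have e1 : y * k * y⁻¹ * k⁻¹ = (y * k) * (k * y)⁻¹ := by group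
    rw [e1, map_mul, hcomm, ← map_mul, mul_inv_cancel, map_one]
    rfl
  rw [h1]
  exact (char_eq_finrank_iff ρ _).mpr hid

/-- the arithmetic behind the comparison of degrees -/
theorem eq_of_card_mul_eq {N n m b : ℕ} (h : N * n = m ^ 2 + (N - 1) * b ^ 2) (hN : 0 < N)
    (hb1 : 1 ≤ b) (hbm : b ≤ m) (hm : m ^ 2 ≤ N) : m = b := by
  have hb2 : b ^ 2 ≤ m ^ 2 := Nat.pow_le_pow_left hbm 2
  have hb21 : 1 ≤ b ^ 2 := Nat.one_le_pow _ _ hb1
  -- work in ℤ
  have hZ : (N : ℤ) * ((n : ℤ) - (b : ℤ) ^ 2) = (m : ℤ) ^ 2 - (b : ℤ) ^ 2 := by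
    have h' : ((N * n : ℕ) : ℤ) = ((m ^ 2 + (N - 1) * b ^ 2 : ℕ) : ℤ) := by rw [h]
    push_cast [Nat.cast_sub hN] at h'
    linarith
  have hlo : (0 : ℤ) ≤ (m : ℤ) ^ 2 - (b : ℤ) ^ 2 := by
    have : ((b ^ 2 : ℕ) : ℤ) ≤ ((m ^ 2 : ℕ) : ℤ) := by exact_mod_cast hb2
    push_cast at this
    linarith
  have hhi : (m : ℤ) ^ 2 - (b : ℤ) ^ 2 < (N : ℤ) := by
    have h1 : ((m ^ 2 : ℕ) : ℤ) ≤ (N : ℤ) := by exact_mod_cast hm
    have h2 : (1 : ℤ) ≤ ((b ^ 2 : ℕ) : ℤ) := by exact_mod_cast hb21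
    push_cast at h1 h2
    linarith
  have hNpos : (0 : ℤ) < N := by exact_mod_cast hN
  have hd : (n : ℤ) - (b : ℤ) ^ 2 = 0 := by
    by_contra hne
    rcases lt_or_gt_of_ne hne with hlt | hgt
    · have : (N : ℤ) * ((n : ℤ) - (b : ℤ) ^ 2) < 0 := mul_neg_of_pos_of_neg hNpos hlt
      linarith
    · have h1 : (1 : ℤ) ≤ (n : ℤ) - (b : ℤ) ^ 2 := hgt
      have : (N : ℤ) * 1 ≤ (N : ℤ) * ((n : ℤ) - (b : ℤ) ^ 2) :=
        mul_le_mul_of_nonneg_left h1 hNpos.le
      linarith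
  rw [hd, mul_zero] at hZ
  have hsq : (m : ℤ) ^ 2 = (b : ℤ) ^ 2 := by linarith
  have hsq' : m ^ 2 = b ^ 2 := by exact_mod_cast hsq
  exact Nat.pow_left_injective (by norm_num : (2 : ℕ) ≠ 0) hsq'

/-- the norm of a character value is at most the degree -/
theorem IsCharacter.norm_le_one {G : Type u} [Group G] [Finite G] {ψ : G → ℂ}
    (hψ : Cfsg.IsCharacter G ψ) (g : G) : ‖ψ g‖ ≤ ‖ψ 1‖ := by
  obtain ⟨n, ρ, rfl⟩ := hψ
  have h1 : ρ.character 1 = (finrank ℂ (Fin n → ℂ) : ℂ) := Representation.char_one ρ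
  rw [h1, Complex.norm_natCast]
  exact norm_char_le ρ g

set_option maxHeartbeats 1600000 in
/-- **the main step**: an irreducible character `θ` of `K` invariant under the `p`-group `P` of
operators all of whose non-identity elements have the same centralizer in `K`, with
`θ(1)² ≤ |P|`, has `[K, P]` in its kernel. -/
theorem ti_invariant_small [Fintype Γ] (K P C : Subgroup Γ) [Fintype K] [Fintype C]
    [hK : K.Normal] {p : ℕ} [hp : Fact p.Prime] (hP : IsPGroup p P) (hcopK : ¬ p ∣ Nat.card K)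
    (htop : K ⊔ P = ⊤) (hC : C = K ⊓ Subgroup.centralizer (P : Set Γ))
    (hfp : ∀ y ∈ P, y ≠ 1 → ∀ g ∈ K, g ∈ C ↔ y * g * y⁻¹ = g)
    (θ : Cfsg.IrrCharacter K)
    (hinv : ∀ s ∈ P, ∀ g g' : K, (g' : Γ) = s * g * s⁻¹ → (θ : K → ℂ) g' = (θ : K → ℂ) g)
    (hdeg : Cfsg.charDegree (θ : K → ℂ) ^ 2 ≤ Nat.card P) :
    ∀ y ∈ P, ∀ k k' : K, (k' : Γ) = y * k * y⁻¹ * (k : Γ)⁻¹ →
      (θ : K → ℂ) k' = (θ : K → ℂ) 1 := by
  classical
  haveI : Fintype P := Fintype.ofFinite _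
  have hcop : (Nat.card K).Coprime (Nat.card P) := by
    obtain ⟨j, hj⟩ := IsPGroup.iff_card.mp hP
    rw [hj]
    exact (Nat.Coprime.pow_left j ((Nat.Prime.coprime_iff_not_dvd hp.out).mpr hcopK)).symm
  have hidx := index_eq_card_of_coprime_sup K P hcop htop
  have hCK : C ≤ K := by rw [hC]; exact inf_le_left
  have hCP := commute_of_mem_inf_centralizer K P C hC
  have hθc := IsIrrCharacter.isCharacter θ.2
  have hθcf := IsCharacter.isClassFunction hθc
  have hinvΓ := invariant_of_sup_eq_top K P htop (θ : K → ℂ) hθcf hinv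
  obtain ⟨d, hd, hddvd, hdpos⟩ := IsIrrCharacter.degree_dvd_card θ.2
  have hodvd := detOrder_dvd_card hθc
  have hcop' : Nat.Coprime K.index (Cfsg.detOrder (θ : K → ℂ) * d) := by
    rw [hidx]
    apply Nat.Coprime.mul_right
    · exact (Nat.Coprime.coprime_dvd_left hodvd hcop).symm
    · exact (Nat.Coprime.coprime_dvd_left hddvd hcop).symm
  obtain ⟨⟨ψ, ⟨hψ, hψK, hψdet⟩⟩, -⟩ :
      (∃ χ : Γ → ℂ, (Cfsg.IsIrrCharacter Γ χ ∧ (∀ n : K, χ n = (θ : K → ℂ) n) ∧
        Cfsg.detOrder χ = Cfsg.detOrder (θ : K → ℂ))) ∧ True := by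
    obtain ⟨χ, h1, -⟩ := Cfsg.Agent.S0867.result K (θ : K → ℂ) θ.2 hinvΓ d hd hcop'
    exact ⟨⟨χ, h1⟩, trivial⟩
  have hψc := IsIrrCharacter.isCharacter hψ
  have hres : Cfsg.IsIrrCharacter K (fun g : K => ψ g) := by
    have : (fun g : K => ψ g) = (θ : K → ℂ) := funext hψK
    rw [this]
    exact θ.2
  have hdet : (Cfsg.detOrder ψ).Coprime (Nat.card P) := by
    rw [hψdet]
    exact Nat.Coprime.coprime_dvd_left hodvd hcop
  obtain ⟨β, hβ⟩ := ti_ext_values K P C hP hcopK hidx hCK hCP hfp ψ hψ hres hdet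
  have hψ1 : ψ 1 = (d : ℂ) := by
    have := hψK 1
    rw [Subgroup.coe_one] at this
    rw [this, hd]
  have hdd : Cfsg.charDegree (θ : K → ℂ) = d := by
    have := charDegree_cast_of_isCharacter hθc
    rw [hd] at this
    exact_mod_cast this
  rw [hdd] at hdeg
  intro y hy k k' hk'
  by_cases hy1 : y = 1
  · have : k' = 1 := by
      apply Subtype.ext
      rw [hk', hy1]
      simp
    rw [this]
  -- the degree of `β`
  obtain ⟨b, hb⟩ := IsCharacter.apply_one (IsIrrCharacter.isCharacter β.2)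
  have hb0 : b ≠ 0 := by
    rintro rfl
    exact IsIrrCharacter.apply_one_ne_zero β.2 (by rw [hb]; simp)
  have hval : ∀ z ∈ P, z ≠ 1 → ∃ ε : ℤ, (ε = 1 ∨ ε = -1) ∧ ψ z = (ε : ℂ) * (b : ℂ) := by
    intro z hz hz1
    obtain ⟨ε, hε, h⟩ := hβ z hz hz1
    refine ⟨ε, hε, ?_⟩
    have := h 1
    rwa [Subgroup.coe_one, one_mul, hb] at this
  have hnorm : ∀ z ∈ P, z ≠ 1 → ‖ψ z‖ = (b : ℝ) := by
    intro z hz hz1
    obtain ⟨ε, hε, h⟩ := hval z hz hz1
    rw [h]
    rcases hε with h' | h' <;> rw [h'] <;> simp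
  have hbm : b ≤ d := by
    have h1 := IsCharacter.norm_le_one hψc y
    rw [hnorm y hy hy1, hψ1, Complex.norm_natCast] at h1
    exact_mod_cast h1
  -- the norm of the restriction to `P`
  have hresP : Cfsg.IsCharacter P (fun z : P => ψ z) := IsCharacter.restrict P hψc
  obtain ⟨nn, hnn⟩ := classInner_char_char_nat hresP hresP
  have hN0 : (Nat.card P : ℂ) ≠ 0 := by exact_mod_cast Nat.card_pos.ne'
  have hsum : ∑ z : P, ψ z * conj (ψ z) = (Nat.card P : ℂ) * (nn : ℂ) := by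
    rw [← hnn, classInner_def, ← mul_assoc, mul_inv_cancel₀ hN0, one_mul]
  have hterm : ∀ z ∈ (Finset.univ : Finset P).erase 1, ψ z * conj (ψ z) = ((b ^ 2 : ℕ) : ℂ) := by
    intro z hz
    have hz1 : (z : Γ) ≠ 1 := by
      intro h
      exact (Finset.mem_erase.mp hz).1 (Subtype.ext h)
    obtain ⟨ε, hε, h⟩ := hval z z.2 hz1
    rw [h]
    rcases hε with h' | h' <;> rw [h'] <;> simp <;> ring
  have hsum2 : ∑ z : P, ψ z * conj (ψ z) =
      ((d ^ 2 + (Nat.card P - 1) * b ^ 2 : ℕ) : ℂ) := by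
    rw [← Finset.add_sum_erase Finset.univ _ (Finset.mem_univ (1 : P)),
      Finset.sum_congr rfl hterm, Finset.sum_const, Finset.card_erase_of_mem (Finset.mem_univ _),
      Finset.card_univ, ← Nat.card_eq_fintype_card, Subgroup.coe_one, hψ1]
    simp only [Complex.conj_natCast, nsmul_eq_mul]
    push_cast
    ring
  have hnat : Nat.card P * nn = d ^ 2 + (Nat.card P - 1) * b ^ 2 := by
    have := hsum.symm.trans hsum2
    exact_mod_cast this
  have hdb := eq_of_card_mul_eq hnat Nat.card_pos (Nat.one_le_iff_ne_zero.mpr hb0) hbm hdeg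
  -- now `y` acts as a scalar
  have hny : ‖ψ y‖ = ‖ψ 1‖ := by
    rw [hnorm y hy hy1, hψ1, Complex.norm_natCast, hdb]
  have hfin := char_commutator_of_norm_eq hψc y hny (k : Γ)
  rw [← hk', hψK k', hψ1] at hfin
  rw [hfin, hd]

end Cfsg.Agent.Helper6
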