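import Mathlib
import Cfsg.Prelude.Def_Characters
import Cfsg.Prelude.Def_CharExt
import Cfsg.Prelude.Def_Blocks
import Cfsg.Agent.Helper6.TILeoC
import Cfsg.Agent.Helper6.CentralDefectA

/-!
# An invariant character of a `p'`-group under an automorphism of order `p`: either the
automorphism acts trivially modulo the kernel, or the degree is at least `p - 1`
-/

set_option autoImplicit false
set_option linter.style.haveILetI false

namespace Cfsg.Agent.Helper6

open Module
open scoped ComplexConjugate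

universe u

variable {Γ : Type u} [Group Γ]

theorem card_filter_dvd_range (p r : ℕ) (hp : 0 < p) :
    ((Finset.range (p * r)).filter (fun k => p ∣ k)).card = r := by
  have h : (Finset.range (p * r)).filter (fun k => p ∣ k) =
      (Finset.range r).image (fun m => p * m) := by
    ext k
    simp only [Finset.mem_filter, Finset.mem_range, Finset.mem_image]
    constructor
    · rintro ⟨hk, ⟨m, rfl⟩⟩
      exact ⟨m, Nat.lt_of_mul_lt_mul_left hk, rfl⟩
    · rintro ⟨m, hm, rfl⟩
      exact ⟨Nat.mul_lt_mul_of_pos_left hm hp, dvd_mul_right p m⟩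
  rw [h, Finset.card_image_of_injective _ (mul_right_injective₀ hp.ne'), Finset.card_range]

theorem sum_zpowers_eq_sum_range [Finite Γ] (y : Γ) (f : Γ → ℂ) [Fintype (Subgroup.zpowers y)] :
    ∑ s : Subgroup.zpowers y, f s = ∑ k ∈ Finset.range (orderOf y), f (y ^ k) := by
  have hy : IsOfFinOrder y := isOfFinOrder_of_finite y
  rw [← Fin.sum_univ_eq_sum_range (fun k => f (y ^ k)) (orderOf y)]
  symm
  apply Fintype.sum_equiv (finEquivZPowers hy)
  intro k
  rw [finEquivZPowers_apply]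

set_option maxHeartbeats 1600000 in
/-- **the dichotomy** -/
theorem cyc_dichotomy [Fintype Γ] (K : Subgroup Γ) [Fintype K] [hK : K.Normal]
    {p : ℕ} [hp : Fact p.Prime] (hcopK : ¬ p ∣ Nat.card K) (y : Γ)
    (hy : IsPGroup p (Subgroup.zpowers y)) (htop : K ⊔ Subgroup.zpowers y = ⊤)
    (hyp : ∀ g ∈ K, y ^ p * g = g * y ^ p)
    (θ : Cfsg.IrrCharacter K)
    (hinv : ∀ s ∈ Subgroup.zpowers y, ∀ g g' : K, (g' : Γ) = s * g * s⁻¹ →
      (θ : K → ℂ) g' = (θ : K → ℂ) g) :
    (∀ k k' : K, (k' : Γ) = y * k * y⁻¹ * (k : Γ)⁻¹ → (θ : K → ℂ) k' = (θ : K → ℂ) 1) ∨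
      p - 1 ≤ Cfsg.charDegree (θ : K → ℂ) := by
  classical
  set S : Subgroup Γ := Subgroup.zpowers y with hS
  haveI : Fintype S := Fintype.ofFinite _
  set C : Subgroup Γ := K ⊓ Subgroup.centralizer (S : Set Γ) with hC
  haveI : Fintype C := Fintype.ofFinite _
  have hpp := hp.out
  have hcop : (Nat.card K).Coprime (Nat.card S) := by
    obtain ⟨j, hj⟩ := IsPGroup.iff_card.mp hy
    rw [hj]
    exact (Nat.Coprime.pow_left j ((Nat.Prime.coprime_iff_not_dvd hpp).mpr hcopK)).symm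
  have hidx := index_eq_card_of_coprime_sup K S hcop htop
  have hCK : C ≤ K := by rw [hC]; exact inf_le_left
  have hCS := commute_of_mem_inf_centralizer K S C hC
  have hCx := mem_centralizer_of_zpowers_eq K S C hC y rfl
  have hθc := IsIrrCharacter.isCharacter θ.2
  have hθcf := IsCharacter.isClassFunction hθc
  have hinvΓ := invariant_of_sup_eq_top K S htop (θ : K → ℂ) hθcf hinv
  obtain ⟨d, hd, hddvd, hdpos⟩ := IsIrrCharacter.degree_dvd_card θ.2
  have hodvd := detOrder_dvd_card hθc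
  have hcop' : Nat.Coprime K.index (Cfsg.detOrder (θ : K → ℂ) * d) := by
    rw [hidx]
    apply Nat.Coprime.mul_right
    · exact (Nat.Coprime.coprime_dvd_left hodvd hcop).symm
    · exact (Nat.Coprime.coprime_dvd_left hddvd hcop).symm
  obtain ⟨⟨ψ, ⟨hψ, hψK, hψdet⟩⟩, -⟩ :
      (∃ χ : Γ → ℂ, (Cfsg.IsIrrCharacter Γ χ ∧ (∀ n : K, χ n = (θ : K → ℂ) n) ∧
        Cfsg.detOrder χ = Cfsg.detOrder (θ : K → ℂ))) ∧ True := by
    obtain ⟨χ, h1, -⟩ := Cfsg.Agent.S0867.result K (θ : K → ℂ) θ.2 hinvΓ d hd hcop'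
    exact ⟨⟨χ, h1⟩, trivial⟩
  have hψc := IsIrrCharacter.isCharacter hψ
  have hres : Cfsg.IsIrrCharacter K (fun g : K => ψ g) := by
    have : (fun g : K => ψ g) = (θ : K → ℂ) := funext hψK
    rw [this]
    exact θ.2
  have hdet : (Cfsg.detOrder ψ).Coprime (Nat.card S) := by
    rw [hψdet]
    exact Nat.Coprime.coprime_dvd_left hodvd hcop
  have hyS : y ∈ S := Subgroup.mem_zpowers y
  obtain ⟨β, ε, hε, hβ, -⟩ := cyc_main K S C hcop hidx hCK hCS y hyS hCx ψ hψ hres hdet
  have hψ1 : ψ 1 = (d : ℂ) := by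
    have := hψK 1
    rw [Subgroup.coe_one] at this
    rw [this, hd]
  have hdd : Cfsg.charDegree (θ : K → ℂ) = d := by
    have := charDegree_cast_of_isCharacter hθc
    rw [hd] at this
    exact_mod_cast this
  rw [hdd]
  obtain ⟨b, hb⟩ := IsCharacter.apply_one (IsIrrCharacter.isCharacter β.2)
  have hb0 : b ≠ 0 := by
    rintro rfl
    exact IsIrrCharacter.apply_one_ne_zero β.2 (by rw [hb]; simp)
  have hεb : ((ε : ℂ) * (b : ℂ)) ≠ 0 := by
    apply mul_ne_zero
    · rcases hε with h | h <;> rw [h] <;> simp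
    · exact_mod_cast hb0
  -- values at the generators
  have hgen : ∀ k : ℕ, k.Coprime (Nat.card S) → ψ (y ^ k) = (ε : ℂ) * (b : ℂ) := by
    intro k hk
    have := hβ 1 k hk
    rwa [Subgroup.coe_one, one_mul, hb] at this
  -- the case `y = 1`
  by_cases hy1 : y = 1
  · left
    intro k k' hk'
    have : k' = 1 := by
      apply Subtype.ext
      rw [hk', hy1]
      simp
    rw [this]
  -- the order of `y`
  obtain ⟨a, ha⟩ := IsPGroup.iff_card.mp hy
  have hcardS : Nat.card S = orderOf y := Nat.card_zpowers y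
  have ha0 : a ≠ 0 := by
    rintro rfl
    rw [pow_zero] at ha
    apply hy1
    have : orderOf y = 1 := by rw [← hcardS, ha]
    exact orderOf_eq_one_iff.mp this
  have hcopk : ∀ k : ℕ, ¬ p ∣ k → k.Coprime (Nat.card S) := by
    intro k hk
    rw [ha]
    exact Nat.Coprime.pow_right a ((Nat.Prime.coprime_iff_not_dvd hpp).mpr hk).symm
  have hψy : ψ y = (ε : ℂ) * (b : ℂ) := by
    have := hgen 1 (hcopk 1 (fun h => hpp.one_lt.ne' (Nat.dvd_one.mp h)))
    rwa [pow_one] at this
  -- values at the non-generators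
  have hnon : ∀ k : ℕ, p ∣ k → ψ (y ^ k) = (d : ℂ) := by
    rintro k ⟨m, rfl⟩
    set z : Γ := y ^ (p * m) with hz
    have hzK : ∀ g ∈ K, z * g = g * z := by
      intro g hg
      have h1 : Commute (y ^ p) g := hyp g hg
      have h2 : Commute ((y ^ p) ^ m) g := h1.pow_left m
      rw [hz, pow_mul]
      exact h2.eq
    have hzS : ∀ s ∈ S, z * s = s * z := by
      intro s hs
      obtain ⟨j, rfl⟩ := Subgroup.mem_zpowers_iff.mp hs
      rw [hz]
      exact ((Commute.refl y).pow_left (p * m)).zpow_right j |>.eq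
    have hzc : z ∈ Subgroup.center Γ := by
      have h1 : K ⊔ S ≤ Subgroup.centralizer ({z} : Set Γ) := by
        apply sup_le
        · intro g hg
          rw [Subgroup.mem_centralizer_iff]
          intro w hw
          rw [Set.mem_singleton_iff] at hw
          rw [hw]
          exact hzK g hg
        · intro s hs
          rw [Subgroup.mem_centralizer_iff]
          intro w hw
          rw [Set.mem_singleton_iff] at hw
          rw [hw]
          exact hzS s hs
      rw [htop] at h1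
      rw [Subgroup.mem_center_iff]
      intro g
      have := h1 (Subgroup.mem_top g)
      rw [Subgroup.mem_centralizer_iff] at this
      exact (this z rfl).symm
    obtain ⟨ω, -, hω⟩ := irr_center_mul (⟨ψ, hψ⟩ : Cfsg.IrrCharacter Γ) z hzc
    have h1 := hω y
    have h2 : z * y = y ^ (p * m + 1) := by rw [hz, pow_succ]
    have h3 : ¬ p ∣ p * m + 1 := by
      intro h
      have := (Nat.dvd_add_right (dvd_mul_right p m)).mp h
      exact hpp.one_lt.ne' (Nat.dvd_one.mp this)
    change ψ (z * y) = ω * ψ y at h1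
    rw [h2, hgen _ (hcopk _ h3), hψy] at h1
    have hω1 : ω = 1 := by
      have : (1 : ℂ) * ((ε : ℂ) * (b : ℂ)) = ω * ((ε : ℂ) * (b : ℂ)) := by rw [one_mul]; exact h1
      exact (mul_right_cancel₀ hεb this).symm
    have h4 := hω 1
    change ψ (z * 1) = ω * ψ 1 at h4
    rw [mul_one, hω1, one_mul, hψ1] at h4
    exact h4
  -- the multiplicity of the principal character of `S`
  have hresS : Cfsg.IsCharacter S (fun z : S => ψ z) := IsCharacter.restrict S hψc
  obtain ⟨A, hA⟩ := classInner_char_char_nat hresS (isCharacter_one (G := S))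
  have hq : orderOf y = p * p ^ (a - 1) := by
    rw [← hcardS, ha, ← pow_succ']
    congr 1
    omega
  have hsum : ∑ s : S, ψ s = ((p ^ (a - 1) : ℕ) : ℂ) * (d : ℂ) +
      ((p * p ^ (a - 1) - p ^ (a - 1) : ℕ) : ℂ) * ((ε : ℂ) * (b : ℂ)) := by
    rw [sum_zpowers_eq_sum_range y ψ, hq,
      ← Finset.sum_filter_add_sum_filter_not (Finset.range (p * p ^ (a - 1))) (fun k => p ∣ k)]
    have h1 : ∀ k ∈ (Finset.range (p * p ^ (a - 1))).filter (fun k => p ∣ k),
        ψ (y ^ k) = (d : ℂ) := fun k hk => hnon k (Finset.mem_filter.mp hk).2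
    have h2 : ∀ k ∈ (Finset.range (p * p ^ (a - 1))).filter (fun k => ¬ p ∣ k),
        ψ (y ^ k) = (ε : ℂ) * (b : ℂ) :=
      fun k hk => hgen k (hcopk k (Finset.mem_filter.mp hk).2)
    rw [Finset.sum_congr rfl h1, Finset.sum_congr rfl h2, Finset.sum_const, Finset.sum_const,
      card_filter_dvd_range p _ hpp.pos, nsmul_eq_mul, nsmul_eq_mul]
    congr 2
    have h3 := Finset.card_filter_add_card_filter_not (s := Finset.range (p * p ^ (a - 1)))
      (fun k => p ∣ k)
    rw [card_filter_dvd_range p _ hpp.pos, Finset.card_range] at h3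
    have h4 : ((Finset.range (p * p ^ (a - 1))).filter (fun k => ¬ p ∣ k)).card =
        p * p ^ (a - 1) - p ^ (a - 1) := by omega
    rw [h4]
  have hA' : ∑ s : S, ψ s = (Nat.card S : ℂ) * (A : ℂ) := by
    have hcard : (Nat.card S : ℂ) ≠ 0 := by exact_mod_cast Nat.card_pos.ne'
    rw [classInner_def] at hA
    rw [← hA, ← mul_assoc, mul_inv_cancel₀ hcard, one_mul]
    apply Finset.sum_congr rfl
    intro s _
    rw [map_one, mul_one]
  -- the integer relation `p A = d + (p - 1) ε b`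
  have hr0 : (0 : ℤ) < ((p ^ (a - 1) : ℕ) : ℤ) := by
    exact_mod_cast Nat.pos_of_ne_zero (pow_ne_zero _ hpp.ne_zero)
  have hrel : (p : ℤ) * (A : ℤ) = (d : ℤ) + ((p : ℤ) - 1) * (ε * (b : ℤ)) := by
    have h1 := hsum.symm.trans hA'
    rw [hcardS, hq] at h1
    have hle : p ^ (a - 1) ≤ p * p ^ (a - 1) := Nat.le_mul_of_pos_left _ hpp.pos
    have h2 : ((p ^ (a - 1) : ℕ) : ℤ) * (d : ℤ) +
        (((p * p ^ (a - 1) : ℕ) : ℤ) - ((p ^ (a - 1) : ℕ) : ℤ)) * (ε * (b : ℤ)) =
        ((p * p ^ (a - 1) : ℕ) : ℤ) * (A : ℤ) := by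
      have : (((p ^ (a - 1) : ℕ) : ℤ) * (d : ℤ) +
        (((p * p ^ (a - 1) : ℕ) : ℤ) - ((p ^ (a - 1) : ℕ) : ℤ)) * (ε * (b : ℤ)) : ℂ) =
        ((((p * p ^ (a - 1) : ℕ) : ℤ) * (A : ℤ) : ℤ) : ℂ) := by
        push_cast [Nat.cast_sub hle] at h1 ⊢
        exact h1
      exact_mod_cast this
    push_cast at h2
    have h3 : ((p ^ (a - 1) : ℕ) : ℤ) * ((p : ℤ) * (A : ℤ)) =
        ((p ^ (a - 1) : ℕ) : ℤ) * ((d : ℤ) + ((p : ℤ) - 1) * (ε * (b : ℤ))) := by
      push_cast
      linarith
    exact mul_left_cancel₀ hr0.ne' h3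
  -- `b ≤ d`
  have hbd : b ≤ d := by
    have h1 := IsCharacter.norm_le_one hψc y
    rw [hψy, hψ1, Complex.norm_natCast, norm_mul, Complex.norm_natCast] at h1
    have h2 : ‖(ε : ℂ)‖ = 1 := by
      rcases hε with h | h <;> rw [h] <;> simp
    rw [h2, one_mul] at h1
    exact_mod_cast h1
  have hp1 : (1 : ℤ) ≤ (p : ℤ) := by exact_mod_cast hpp.pos
  have hb1 : (1 : ℤ) ≤ (b : ℤ) := by exact_mod_cast Nat.one_le_iff_ne_zero.mpr hb0
  have hA0 : (0 : ℤ) ≤ (A : ℤ) := Int.natCast_nonneg A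
  rcases hε with h | h
  · -- `ε = 1`
    rw [h, one_mul] at hrel
    by_cases hdb : d = b
    · left
      intro k k' hk'
      have hny : ‖ψ y‖ = ‖ψ 1‖ := by
        rw [hψy, hψ1, h, hdb]
        simp
      have hfin := char_commutator_of_norm_eq hψc y hny (k : Γ)
      rw [← hk', hψK k', hψ1] at hfin
      rw [hfin, hd]
    · right
      have hlt : (b : ℤ) < (d : ℤ) := by
        have : b < d := lt_of_le_of_ne hbd (Ne.symm hdb)
        exact_mod_cast this
      have hdvd : (p : ℤ) ∣ (d : ℤ) - (b : ℤ) := by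
        refine ⟨(A : ℤ) - (b : ℤ), ?_⟩
        linarith
      have hge : (p : ℤ) ≤ (d : ℤ) - (b : ℤ) := Int.le_of_dvd (by linarith) hdvd
      have : (p : ℤ) - 1 ≤ (d : ℤ) := by linarith
      omega
  · -- `ε = -1`
    right
    rw [h] at hrel
    have : ((p : ℤ) - 1) * (b : ℤ) ≤ (d : ℤ) := by nlinarith
    have h2 : ((p : ℤ) - 1) ≤ ((p : ℤ) - 1) * (b : ℤ) := by nlinarith
    omega

end Cfsg.Agent.Helper6
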