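import Mathlib
import Cfsg.Prelude.Def_Characters
import Cfsg.Prelude.Def_Blocks
import Cfsg.Agent.Helper6.GaloisChar
import Cfsg.Agent.Helper6.PowCongr
import Cfsg.Agent.Helper6.Codegree
import Cfsg.Agent.Helper6.ItoCycA

/-!
# Values of a faithful rational-valued character of a `p`-group
-/

set_option autoImplicit false
set_option linter.style.haveILetI false

namespace Cfsg.Agent.Helper6

open Module Representation

universe u

variable {P : Type u} [Group P]

/-- a rational algebraic integer in `ℂ` is an integer -/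
theorem exists_int_of_rat_isIntegral {z : ℂ} (hz : IsIntegral ℤ z) (q : ℚ) (hq : z = q) :
    ∃ c : ℤ, z = c := by
  have h1 : IsIntegral ℤ (algebraMap ℚ ℂ q) := by
    rw [hq] at hz
    exact hz
  have h2 : IsIntegral ℤ q :=
    (isIntegral_algebraMap_iff (FaithfulSMul.algebraMap_injective ℚ ℂ)).mp h1
  obtain ⟨c, hc⟩ := IsIntegrallyClosed.isIntegral_iff.mp h2
  refine ⟨c, ?_⟩
  rw [hq, ← hc]
  simp

/-- sum of the powers of a root of unity has nonnegative real part -/
theorem re_geom_sum_root_nonneg {μ : ℂ} {K : ℕ} (hμ : μ ^ K = 1) :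
    0 ≤ (∑ j ∈ Finset.range K, μ ^ j).re := by
  by_cases h1 : μ = 1
  · rw [h1]
    simp
  · have h2 : (μ - 1) * ∑ j ∈ Finset.range K, μ ^ j = 0 := by
      rw [mul_comm, geom_sum_mul, hμ, sub_self]
    rcases mul_eq_zero.mp h2 with h3 | h3
    · exact absurd (sub_eq_zero.mp h3) h1
    · rw [h3]
      simp

set_option maxHeartbeats 1600000 in
theorem schur_values [Finite P] {p : ℕ} [hp : Fact p.Prime] (hP : IsPGroup p P) (ψ : P → ℂ)
    (hψ : Cfsg.IsCharacter P ψ) (hfaith : ∀ g, ψ g = ψ 1 → g = 1)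
    (hrat : ∀ x, ∃ q : ℚ, ψ x = q) (n : ℕ) (hn : Cfsg.charDegree ψ = n) :
    ∀ x : P, x ≠ 1 → ∃ s : ℕ, 1 ≤ s ∧ s ≤ n / (p - 1) ∧ ψ x = (n : ℂ) - p * s := by
  classical
  have hpp := hp.out
  intro x hx1
  have hψ' := hψ
  obtain ⟨d, ρ, hρ⟩ := hψ
  have hdn : d = n := by
    rw [← hn, ← hρ, charDegree_rep]
  subst hdn
  have hψ1 : ψ 1 = (d : ℂ) := by
    rw [← hρ, Representation.char_one]
    simp
  -- integrality
  obtain ⟨q, hq⟩ := hrat x
  obtain ⟨c, hc⟩ := exists_int_of_rat_isIntegral (IsCharacter.isIntegral_value hψ' x) q hq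
  -- congruence mod p
  obtain ⟨a, ha⟩ := IsPGroup.exists_card_eq hP
  have hxa : x ^ (p ^ a) = 1 := by
    rw [← ha]
    exact pow_card_eq_one'
  have hordx : ∃ k : ℕ, orderOf x = p ^ k := by
    obtain ⟨k, -, hk⟩ := (Nat.dvd_prime_pow hpp).mp (orderOf_dvd_of_pow_eq_one hxa)
    exact ⟨k, hk⟩
  have hdvd : (p : ℤ) ∣ c - d := by
    obtain ⟨γ, hγ⟩ := char_pow_sub_pow p hψ' x 1 (Commute.one_right x) hordx
      (by
        rw [orderOf_one]
        exact hpp.one_lt.ne' ∘ Nat.dvd_one.mp) a hxa
    rw [mul_one, hc, hψ1] at hγ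
    set D : ℤ := c ^ (p ^ a) - (d : ℤ) ^ (p ^ a) with hD
    have hDγ : (D : ℂ) = (p : ℂ) * (γ : ℂ) := by
      rw [← hγ, hD]
      push_cast
      rfl
    have hpne : (p : ℂ) ≠ 0 := by exact_mod_cast hpp.ne_zero
    have hγq : (γ : ℂ) = ((D : ℚ) / (p : ℚ) : ℚ) := by
      push_cast
      rw [hDγ]
      field_simp
    obtain ⟨g', hg'⟩ := exists_int_of_rat_isIntegral
      ((mem_integralClosure_iff ℤ ℂ).mp γ.2) _ hγq
    have hDg : D = p * g' := by
      have : (D : ℂ) = ((p * g' : ℤ) : ℂ) := by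
        rw [hDγ, hg']
        push_cast
        rfl
      exact_mod_cast this
    have hz : ((c - d : ℤ) : ZMod p) = 0 := by
      have h1 : ((D : ℤ) : ZMod p) = 0 := by
        rw [hDg]
        push_cast
        simp
      rw [hD] at h1
      push_cast at h1
      rw [ZMod.pow_card_pow, ZMod.pow_card_pow] at h1
      push_cast
      exact h1
    exact (ZMod.intCast_zmod_eq_zero_iff_dvd _ _).mp hz
  -- upper bound
  have hnorm : ‖ψ x‖ ≤ (d : ℝ) := by
    have := norm_char_le ρ x
    rw [hρ] at this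
    simpa using this
  have hcle : c ≤ d := by
    have h1 : (c : ℝ) ≤ (d : ℝ) := by
      calc (c : ℝ) ≤ |(c : ℝ)| := le_abs_self _
        _ = ‖ψ x‖ := by
          rw [hc]
          simp
        _ ≤ d := hnorm
    exact_mod_cast h1
  have hcne : c ≠ d := by
    intro h
    apply hx1
    apply hfaith
    rw [hc, hψ1, h]
    simp
  -- lower bound by averaging
  obtain ⟨k, hk⟩ := hordx
  have hk0 : k ≠ 0 := by
    intro h0
    rw [h0, pow_zero, orderOf_eq_one_iff] at hk
    exact hx1 hk
  set K' := p ^ (k - 1) with hK'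
  have hKK' : orderOf x = p * K' := by
    rw [hk, hK', ← pow_succ']
    congr 1
    omega
  have hK'pos : 0 < K' := pow_pos hpp.pos _
  have hlow : 0 ≤ ((p : ℤ) - 1) * c + d := by
    obtain ⟨ι, hι, b, μ, h1, h2, -⟩ := exists_eigenbasis_rep ρ x
    have hpow : ∀ j : ℕ, ψ (x ^ j) = ∑ i, μ i ^ j := by
      intro j
      rw [← hρ]
      exact char_pow_eq_sum ρ x b μ h1 j
    set T : ℂ := ∑ j ∈ Finset.range (orderOf x), ψ (x ^ j) with hT
    have hT0 : 0 ≤ T.re := by
      rw [hT, Finset.sum_congr rfl (fun j _ => hpow j), Finset.sum_comm, Complex.re_sum]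
      apply Finset.sum_nonneg
      intro i _
      exact re_geom_sum_root_nonneg (h2 i)
    have hcop : ∀ j : ℕ, ¬ p ∣ j → ψ (x ^ j) = c := by
      intro j hj
      have h3 := (char_rational_iff ρ x).mp ⟨q, by rw [hρ]; exact hq⟩ j (by
        rw [ha]
        exact Nat.Coprime.pow_right a ((Nat.Prime.coprime_iff_not_dvd hpp).mpr hj).symm)
      rw [hρ] at h3
      rw [h3, hc]
    have hsplit := Finset.sum_filter_add_sum_filter_not (Finset.range (orderOf x))
      (fun j => p ∣ j) (fun j => ψ (x ^ j))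
    have hA : (∑ j ∈ (Finset.range (orderOf x)).filter (fun j => ¬ p ∣ j), ψ (x ^ j)).re =
        ((p * K' - K' : ℕ) : ℝ) * c := by
      rw [Finset.sum_congr rfl (fun j hj => hcop j (Finset.mem_filter.mp hj).2),
        Finset.sum_const]
      have hcard : ((Finset.range (orderOf x)).filter (fun j => ¬ p ∣ j)).card =
          p * K' - K' := by
        have h5 := Finset.card_filter_add_card_filter_not (s := Finset.range (orderOf x))
          (fun j => p ∣ j)
        rw [Finset.card_range] at h5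
        have h6 := card_filter_dvd_range p K' hpp.pos
        rw [← hKK'] at h6
        omega
      rw [hcard]
      simp
    have hB : (∑ j ∈ (Finset.range (orderOf x)).filter (fun j => p ∣ j), ψ (x ^ j)).re ≤
        (K' : ℝ) * d := by
      rw [Complex.re_sum]
      calc ∑ j ∈ (Finset.range (orderOf x)).filter (fun j => p ∣ j), (ψ (x ^ j)).re
          ≤ ∑ j ∈ (Finset.range (orderOf x)).filter (fun j => p ∣ j), (d : ℝ) := by
            apply Finset.sum_le_sum
            intro j _
            calc (ψ (x ^ j)).re ≤ ‖ψ (x ^ j)‖ := Complex.re_le_norm _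
              _ ≤ d := by
                have := norm_char_le ρ (x ^ j)
                rw [hρ] at this
                simpa using this
        _ = (K' : ℝ) * d := by
            rw [Finset.sum_const]
            have h6 := card_filter_dvd_range p K' hpp.pos
            rw [← hKK'] at h6
            rw [h6]
            simp
    have hTre : T.re ≤ ((p * K' - K' : ℕ) : ℝ) * c + (K' : ℝ) * d := by
      rw [hT, ← hsplit, Complex.add_re, hA]
      linarith
    have h7 : (0 : ℝ) ≤ (K' : ℝ) * (((p : ℝ) - 1) * c + d) := by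
      have h8 : ((p * K' - K' : ℕ) : ℝ) = ((p : ℝ) - 1) * K' := by
        rw [Nat.cast_sub (Nat.le_mul_of_pos_left K' hpp.pos)]
        push_cast
        ring
      rw [h8] at hTre
      nlinarith
    have h9 : (0 : ℝ) ≤ ((p : ℝ) - 1) * c + d := by
      by_contra hneg
      rw [not_le] at hneg
      have : (K' : ℝ) * (((p : ℝ) - 1) * c + d) < 0 :=
        mul_neg_of_pos_of_neg (by exact_mod_cast hK'pos) hneg
      linarith
    exact_mod_cast h9
  -- conclusion
  obtain ⟨s', hs'⟩ := hdvd
  have hs'neg : s' < 0 := by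
    have h1 : c - d < 0 := by omega
    rw [hs'] at h1
    by_contra hge
    rw [not_lt] at hge
    have : 0 ≤ (p : ℤ) * s' := mul_nonneg (by exact_mod_cast hpp.pos.le) hge
    omega
  refine ⟨(-s').toNat, ?_, ?_, ?_⟩
  · omega
  · rw [Nat.le_div_iff_mul_le (by have := hpp.two_le; omega)]
    have h1 : ((-s').toNat : ℤ) = -s' := Int.toNat_of_nonneg (by omega)
    have h2 : (((-s').toNat * (p - 1) : ℕ) : ℤ) ≤ (d : ℤ) := by
      push_cast
      rw [h1, Nat.cast_sub hpp.one_lt.le]
      have h3 : c = d + p * s' := by omega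
      rw [h3] at hlow
      push_cast
      have hp1 : (1 : ℤ) ≤ p := by exact_mod_cast hpp.one_lt.le
      nlinarith
    exact_mod_cast h2
  · rw [hc]
    have h1 : ((-s').toNat : ℤ) = -s' := Int.toNat_of_nonneg (by omega)
    have h3 : c = d - p * ((-s').toNat : ℤ) := by
      rw [h1]
      linarith [hs']
    rw [h3]
    push_cast
    rfl

end Cfsg.Agent.Helper6
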