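import Mathlib

/-!
# Involutions normalizing Sylow subgroups when centralizers of `p`-elements have odd order
-/

set_option autoImplicit false
set_option linter.style.haveILetI false

namespace Cfsg.Agent.Helper6

open scoped Pointwise

universe u

variable {G : Type u} [Group G]

/-- A fixed-point-free involutory conjugation on a finite subgroup inverts it, and the subgroup is
abelian. -/
theorem inverts_of_fixedPointFree [Finite G] (R : Subgroup G) (t : G) (ht : t * t = 1)
    (hR : ∀ r ∈ R, t * r * t⁻¹ ∈ R) (hfix : ∀ r ∈ R, t * r * t⁻¹ = r → r = 1) :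
    (∀ r ∈ R, t * r * t⁻¹ = r⁻¹) ∧ ∀ r ∈ R, ∀ s ∈ R, r * s = s * r := by
  have htinv : t⁻¹ = t := inv_eq_of_mul_eq_one_left ht
  have htt : ∀ x : G, t * (t * x * t⁻¹) * t⁻¹ = x := by
    intro x
    rw [htinv]
    calc t * (t * x * t) * t = (t * t) * x * (t * t) := by group
      _ = x := by rw [ht, one_mul, mul_one]
  let φ : R → R := fun r => ⟨(r : G)⁻¹ * (t * r * t⁻¹), R.mul_mem (R.inv_mem r.2) (hR r r.2)⟩
  have hinj : Function.Injective φ := by
    intro r s hrs
    have h1 : (r : G)⁻¹ * (t * r * t⁻¹) = (s : G)⁻¹ * (t * s * t⁻¹) := congrArg Subtype.val hrs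
    have h2 : t * ((s : G) * (r : G)⁻¹) * t⁻¹ = (s : G) * (r : G)⁻¹ := by
      have h3 : t * ((s : G) * (r : G)⁻¹) * t⁻¹ = (t * s * t⁻¹) * (t * r * t⁻¹)⁻¹ := by group
      rw [h3]
      have h4 : t * s * t⁻¹ = (s : G) * ((r : G)⁻¹ * (t * r * t⁻¹)) := by
        rw [h1]
        group
      rw [h4]
      group
    have h5 := hfix _ (R.mul_mem s.2 (R.inv_mem r.2)) h2
    apply Subtype.ext
    have : (s : G) = r := by
      have := mul_inv_eq_one.mp h5
      exact this
    exact this.symm
  have hsurj : Function.Surjective φ := Finite.injective_iff_surjective.mp hinj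
  have hinvert : ∀ r ∈ R, t * r * t⁻¹ = r⁻¹ := by
    intro r hr
    obtain ⟨s, hs⟩ := hsurj ⟨r, hr⟩
    have h1 : (s : G)⁻¹ * (t * s * t⁻¹) = r := congrArg Subtype.val hs
    rw [← h1]
    have h2 : t * ((s : G)⁻¹ * (t * s * t⁻¹)) * t⁻¹ =
        (t * s * t⁻¹)⁻¹ * (t * (t * s * t⁻¹) * t⁻¹) := by group
    rw [h2, htt]
    group
  refine ⟨hinvert, ?_⟩
  intro r hr s hs
  have h1 := hinvert (r * s) (R.mul_mem hr hs)
  have h2 : t * (r * s) * t⁻¹ = (t * r * t⁻¹) * (t * s * t⁻¹) := by group
  rw [h2, hinvert r hr, hinvert s hs] at h1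
  have h3 : (r⁻¹ * s⁻¹)⁻¹ = ((r * s)⁻¹)⁻¹ := by rw [h1]
  rw [inv_inv] at h3
  rw [← h3]
  group

/-- A `p`-subgroup of `C` normalizing a subgroup `Q ≤ C` of order the full power of `p` in `|C|`
lies in `Q`. -/
theorem le_of_card_eq_pow_factorization [Finite G] (p : ℕ) [hp : Fact p.Prime]
    (Q H C : Subgroup G) (hQC : Q ≤ C) (hHC : H ≤ C)
    (hQ : Nat.card Q = p ^ (Nat.card C).factorization p) (hH : IsPGroup p H)
    (hn : H ≤ Subgroup.normalizer (Q : Set G)) : H ≤ Q := by
  have hpg : IsPGroup p (H ⊔ Q : Subgroup G) :=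
    IsPGroup.to_sup_of_normal_right' hH (IsPGroup.of_card hQ) hn
  obtain ⟨j, hj⟩ := IsPGroup.iff_card.mp hpg
  have hle : (H ⊔ Q : Subgroup G) ≤ C := sup_le hHC hQC
  have hdvd : p ^ j ∣ Nat.card C := by
    rw [← hj]
    exact Subgroup.card_dvd_of_le hle
  have hC0 : Nat.card C ≠ 0 := (Nat.card_pos (α := C)).ne'
  have hjle : j ≤ (Nat.card C).factorization p :=
    (hp.out.pow_dvd_iff_le_factorization hC0).mp hdvd
  have hcard : Nat.card (H ⊔ Q : Subgroup G) ≤ Nat.card Q := by
    rw [hj, hQ]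
    exact Nat.pow_le_pow_right hp.out.pos hjle
  have heq : Q = H ⊔ Q := Subgroup.eq_of_le_of_card_ge le_sup_right hcard
  rw [heq]
  exact le_sup_left

/-- An involution normalizing a subgroup `C` of odd order normalizes some Sylow `p`-subgroup of
`C`. -/
theorem exists_invariant_sylow_of_odd [Finite G] (p : ℕ) [hp : Fact p.Prime] (C : Subgroup G)
    (hodd : Odd (Nat.card C)) (t : G) (ht : t * t = 1) (hC : ∀ c ∈ C, t * c * t⁻¹ ∈ C) :
    ∃ Q : Subgroup G, Q ≤ C ∧ Nat.card Q = p ^ (Nat.card C).factorization p ∧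
      ∀ q ∈ Q, t * q * t⁻¹ ∈ Q := by
  classical
  have htinv : t⁻¹ = t := inv_eq_of_mul_eq_one_left ht
  have htt : ∀ x : G, t * (t * x * t⁻¹) * t⁻¹ = x := by
    intro x
    rw [htinv]
    calc t * (t * x * t) * t = (t * t) * x * (t * t) := by group
      _ = x := by rw [ht, one_mul, mul_one]
  let τ : MulAut C :=
    { toFun := fun c => ⟨t * c * t⁻¹, hC c c.2⟩
      invFun := fun c => ⟨t * c * t⁻¹, hC c c.2⟩
      left_inv := fun c => Subtype.ext (htt c)
      right_inv := fun c => Subtype.ext (htt c)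
      map_mul' := fun a b => Subtype.ext (by
        change t * ((a : G) * (b : G)) * t⁻¹ = (t * a * t⁻¹) * (t * b * t⁻¹)
        group) }
  have hτ2 : τ * τ = 1 := by
    ext c
    exact htt c
  let A : Subgroup (MulAut C) := Subgroup.zpowers τ
  have hA : IsPGroup 2 A := by
    rintro ⟨a, ha⟩
    obtain ⟨k, rfl⟩ := Subgroup.mem_zpowers_iff.mp ha
    refine ⟨1, ?_⟩
    apply Subtype.ext
    change (τ ^ k) ^ 2 ^ 1 = 1
    rw [pow_one, ← zpow_natCast, ← zpow_mul, mul_comm, zpow_mul, zpow_natCast, pow_two, hτ2,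
      one_zpow]
  haveI : Fact (Nat.Prime 2) := ⟨Nat.prime_two⟩
  have hcard : ¬ 2 ∣ Nat.card (Sylow p C) := by
    obtain Q₀ : Sylow p C := default
    intro h2
    have h1 : Nat.card (Sylow p C) ∣ Nat.card C :=
      dvd_trans (Sylow.card_dvd_index Q₀) (Subgroup.index_dvd_card _)
    exact (Nat.not_even_iff_odd.mpr hodd) (even_iff_two_dvd.mpr (dvd_trans h2 h1))
  obtain ⟨Q, hQ⟩ := hA.nonempty_fixed_point_of_prime_not_dvd_card (Sylow p C) hcard
  have hτQ : τ • Q = Q := hQ ⟨τ, Subgroup.mem_zpowers τ⟩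
  refine ⟨(Q : Subgroup C).map C.subtype, ?_, ?_, ?_⟩
  · rintro x ⟨q, -, rfl⟩
    exact q.2
  · rw [Subgroup.card_map_of_injective C.subtype_injective]
    exact Sylow.card_eq_multiplicity Q
  · rintro x ⟨q, hq, rfl⟩
    have h1 : τ • q ∈ τ • (Q : Subgroup C) := Subgroup.smul_mem_pointwise_smul q τ _ hq
    have h2 : (τ • (Q : Subgroup C)) = ((τ • Q : Sylow p C) : Subgroup C) := rfl
    rw [h2, hτQ] at h1
    exact ⟨τ • q, h1, rfl⟩

/-- If centralizers of nonidentity `p`-elements have odd order and some involution inverts a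
nonidentity `p`-element, then the normalizer of every Sylow `p`-subgroup has even order and the
Sylow `p`-subgroups are abelian. -/
theorem sylow_normalizer_even_of_inverted [Finite G] (p : ℕ) [hp : Fact p.Prime]
    (hC : ∀ g : G, g ≠ 1 → (∃ k : ℕ, orderOf g = p ^ k) →
      Odd (Nat.card ↥(Subgroup.centralizer ({g} : Set G))))
    (t u : G) (ht : orderOf t = 2) (hu1 : u ≠ 1) (hup : ∃ k : ℕ, orderOf u = p ^ k)
    (hinv : t * u * t⁻¹ = u⁻¹) :
    ∀ P : Sylow p G, Even (Nat.card ↥(Subgroup.normalizer ((P : Subgroup G) : Set G))) ∧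
      IsMulCommutative ↥(P : Subgroup G) := by
  classical
  have htt : t * t = 1 := by
    have := pow_orderOf_eq_one t
    rwa [ht, pow_two] at this
  have htinv : t⁻¹ = t := inv_eq_of_mul_eq_one_left htt
  have ht1 : t ≠ 1 := by
    intro h
    rw [h, orderOf_one] at ht
    omega
  -- fixed points of `t` on `p`-subgroups are trivial
  have hfix : ∀ R : Subgroup G, IsPGroup p R → ∀ r ∈ R, t * r * t⁻¹ = r → r = 1 := by
    intro R hR r hr hfixr
    by_contra hr1
    obtain ⟨k, hk⟩ := hR ⟨r, hr⟩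
    have hk' : r ^ p ^ k = 1 := by
      have := congrArg Subtype.val hk
      simpa using this
    obtain ⟨j, -, hj⟩ := (Nat.dvd_prime_pow hp.out).mp (orderOf_dvd_of_pow_eq_one hk')
    have hodd := hC r hr1 ⟨j, hj⟩
    have htmem : t ∈ Subgroup.centralizer ({r} : Set G) := by
      rw [Subgroup.mem_centralizer_iff]
      intro y hy
      rw [Set.mem_singleton_iff] at hy
      rw [hy]
      have : t * r = r * t := by
        have := congrArg (· * t) hfixr
        simpa [mul_assoc] using this
      exact this.symm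
    have h2 := Subgroup.orderOf_dvd_natCard _ htmem
    rw [ht] at h2
    exact (Nat.not_even_iff_odd.mpr hodd) (even_iff_two_dvd.mpr h2)
  -- invariance of centralizers of inverted elements
  have hcentinv : ∀ y : G, t * y * t⁻¹ = y⁻¹ →
      ∀ c ∈ Subgroup.centralizer ({y} : Set G), t * c * t⁻¹ ∈ Subgroup.centralizer ({y} : Set G) := by
    intro y hy c hc
    rw [Subgroup.mem_centralizer_iff] at hc ⊢
    intro z hz
    rw [Set.mem_singleton_iff] at hz
    rw [hz]
    have h1 : y * c = c * y := hc y rfl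
    have h2 : y = t * y⁻¹ * t⁻¹ := by
      have : t * (t * y * t⁻¹) * t⁻¹ = t * y⁻¹ * t⁻¹ := by rw [hy]
      rw [htinv] at this ⊢
      calc y = (t * t) * y * (t * t) := by rw [htt, one_mul, mul_one]
        _ = t * (t * y * t) * t := by group
        _ = t * y⁻¹ * t := this
    have h3 : y⁻¹ * c = c * y⁻¹ := by
      have := congrArg (fun z => y⁻¹ * z * y⁻¹) h1
      simp only [mul_assoc, inv_mul_cancel_left, mul_inv_cancel, mul_one] at this
      exact this.symm
    calc y * (t * c * t⁻¹) = (t * y⁻¹ * t⁻¹) * (t * c * t⁻¹) := by rw [← h2]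
      _ = t * (y⁻¹ * c) * t⁻¹ := by group
      _ = t * (c * y⁻¹) * t⁻¹ := by rw [h3]
      _ = (t * c * t⁻¹) * (t * y⁻¹ * t⁻¹) := by group
      _ = (t * c * t⁻¹) * y := by rw [← h2]
  -- first step: an invariant Sylow subgroup of `C_G(u)`
  obtain ⟨Q, hQC, hQcard, hQt⟩ := exists_invariant_sylow_of_odd p
    (Subgroup.centralizer ({u} : Set G)) (hC u hu1 hup) t htt (hcentinv u hinv)
  have hQp : IsPGroup p Q := IsPGroup.of_card hQcard
  have huQ : u ∈ Q := by
    have hle : Subgroup.zpowers u ≤ Q := by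
      apply le_of_card_eq_pow_factorization p Q (Subgroup.zpowers u)
        (Subgroup.centralizer ({u} : Set G)) hQC
      · rw [Subgroup.zpowers_le, Subgroup.mem_centralizer_iff]
        intro y hy
        rw [Set.mem_singleton_iff] at hy
        rw [hy]
      · exact hQcard
      · obtain ⟨k, hk⟩ := hup
        apply IsPGroup.of_card (n := k)
        rw [Nat.card_zpowers, hk]
      · rw [Subgroup.zpowers_le, Subgroup.mem_normalizer_iff]
        intro q
        have hcomm : ∀ x ∈ Q, u * x * u⁻¹ = x := by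
          intro x hx
          have := Subgroup.mem_centralizer_iff.mp (hQC hx) u rfl
          rw [this]
          group
        constructor
        · intro hq
          rw [hcomm q hq]
          exact hq
        · intro hq
          have h2 := hcomm _ hq
          have h3 : u * q * u⁻¹ = q := by
            have := congrArg (fun z => u⁻¹ * z * u) h2
            beta_reduce at this
            have h4 : u⁻¹ * (u * (u * q * u⁻¹) * u⁻¹) * u = u * q * u⁻¹ := by group
            have h5 : u⁻¹ * (u * q * u⁻¹) * u = q := by group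
            rw [h4, h5] at this
            exact this
          rw [← h3]
          exact hq
    exact hle (Subgroup.mem_zpowers u)
  obtain ⟨P₀, hP₀⟩ := hQp.exists_le_sylow
  -- the centre of `P₀` lies in `Q`
  have hZ : ∀ y ∈ (P₀ : Subgroup G), (∀ x ∈ (P₀ : Subgroup G), x * y = y * x) → y ∈ Q := by
    intro y hy hycent
    have hle : Subgroup.zpowers y ≤ Q := by
      apply le_of_card_eq_pow_factorization p Q (Subgroup.zpowers y)
        (Subgroup.centralizer ({u} : Set G)) hQC
      · rw [Subgroup.zpowers_le, Subgroup.mem_centralizer_iff]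
        intro z hz
        rw [Set.mem_singleton_iff] at hz
        rw [hz]
        exact hycent u (hP₀ huQ)
      · exact hQcard
      · exact (P₀.2.to_le (Subgroup.zpowers_le.mpr hy))
      · rw [Subgroup.zpowers_le, Subgroup.mem_normalizer_iff]
        intro q
        have hcomm : ∀ x ∈ Q, y * x * y⁻¹ = x := by
          intro x hx
          have := hycent x (hP₀ hx)
          rw [← this]
          group
        constructor
        · intro hq
          rw [hcomm q hq]
          exact hq
        · intro hq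
          have h2 := hcomm _ hq
          have h3 : y * q * y⁻¹ = q := by
            have := congrArg (fun z => y⁻¹ * z * y) h2
            beta_reduce at this
            have h4 : y⁻¹ * (y * (y * q * y⁻¹) * y⁻¹) * y = y * q * y⁻¹ := by group
            have h5 : y⁻¹ * (y * q * y⁻¹) * y = q := by group
            rw [h4, h5] at this
            exact this
          rw [← h3]
          exact hq
    exact hle (Subgroup.mem_zpowers y)
  -- a nonidentity central element of `P₀`
  have hP₀nt : Nontrivial (P₀ : Subgroup G) := by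
    refine ⟨⟨⟨u, hP₀ huQ⟩, 1, ?_⟩⟩
    intro h
    exact hu1 (congrArg Subtype.val h)
  haveI := hP₀nt
  haveI : Nontrivial (Subgroup.center (P₀ : Subgroup G)) := P₀.2.center_nontrivial
  obtain ⟨⟨y₀, hy₀⟩, hy₀1⟩ := exists_ne (1 : Subgroup.center (P₀ : Subgroup G))
  have hy1 : (y₀ : G) ≠ 1 := by
    intro h
    apply hy₀1
    apply Subtype.ext
    apply Subtype.ext
    exact h
  have hycent : ∀ x ∈ (P₀ : Subgroup G), x * (y₀ : G) = (y₀ : G) * x := by
    intro x hx
    have := Subgroup.mem_center_iff.mp hy₀ ⟨x, hx⟩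
    exact congrArg Subtype.val this
  have hyQ : (y₀ : G) ∈ Q := hZ y₀ y₀.2 hycent
  have hQinv := (inverts_of_fixedPointFree Q t htt hQt (hfix Q hQp)).1
  have hyinv : t * (y₀ : G) * t⁻¹ = (y₀ : G)⁻¹ := hQinv y₀ hyQ
  have hyp : ∃ k : ℕ, orderOf (y₀ : G) = p ^ k := by
    obtain ⟨k, hk⟩ := hQp ⟨y₀, hyQ⟩
    have hk' : (y₀ : G) ^ p ^ k = 1 := by
      have := congrArg Subtype.val hk
      simpa using this
    obtain ⟨j, -, hj⟩ := (Nat.dvd_prime_pow hp.out).mp (orderOf_dvd_of_pow_eq_one hk')
    exact ⟨j, hj⟩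
  -- second step: an invariant Sylow subgroup of `C_G(y₀)`, which is Sylow in `G`
  obtain ⟨P₁, hP₁C, hP₁card, hP₁t⟩ := exists_invariant_sylow_of_odd p
    (Subgroup.centralizer ({(y₀ : G)} : Set G)) (hC y₀ hy1 hyp) t htt (hcentinv y₀ hyinv)
  have hP₀le : (P₀ : Subgroup G) ≤ Subgroup.centralizer ({(y₀ : G)} : Set G) := by
    intro x hx
    rw [Subgroup.mem_centralizer_iff]
    intro z hz
    rw [Set.mem_singleton_iff] at hz
    rw [hz]
    exact (hycent x hx).symm
  have hfac : (Nat.card ↥(Subgroup.centralizer ({(y₀ : G)} : Set G))).factorization p =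
      (Nat.card G).factorization p := by
    have hG0 : Nat.card G ≠ 0 := (Nat.card_pos (α := G)).ne'
    have hC0 : Nat.card ↥(Subgroup.centralizer ({(y₀ : G)} : Set G)) ≠ 0 :=
      (Nat.card_pos (α := ↥(Subgroup.centralizer ({(y₀ : G)} : Set G)))).ne'
    apply le_antisymm
    · exact (Nat.factorization_le_iff_dvd hC0 hG0).mpr (Subgroup.card_subgroup_dvd_card _) p
    · have h1 : p ^ (Nat.card G).factorization p ∣
          Nat.card ↥(Subgroup.centralizer ({(y₀ : G)} : Set G)) := by
        rw [← Sylow.card_eq_multiplicity P₀]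
        exact Subgroup.card_dvd_of_le hP₀le
      exact (hp.out.pow_dvd_iff_le_factorization hC0).mp h1
  rw [hfac] at hP₁card
  have hP₁p : IsPGroup p P₁ := IsPGroup.of_card hP₁card
  obtain ⟨hP₁inv, hP₁comm⟩ := inverts_of_fixedPointFree P₁ t htt hP₁t (hfix P₁ hP₁p)
  -- transport to every Sylow subgroup
  intro P
  obtain ⟨g, hg⟩ := MulAction.exists_smul_eq G (Sylow.ofCard P₁ hP₁card) P
  have hmem : ∀ x : G, x ∈ (P : Subgroup G) ↔ g⁻¹ * x * g ∈ P₁ := by
    intro x
    rw [← hg, Sylow.smul_def, Sylow.pointwise_smul_def, Sylow.coe_ofCard,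
      Subgroup.mem_pointwise_smul_iff_inv_smul_mem]
    simp
  constructor
  · have htmem : g * t * g⁻¹ ∈ Subgroup.normalizer ((P : Subgroup G) : Set G) := by
      rw [Subgroup.mem_normalizer_iff]
      intro x
      rw [hmem, hmem]
      have h1 : g⁻¹ * (g * t * g⁻¹ * x * (g * t * g⁻¹)⁻¹) * g = t * (g⁻¹ * x * g) * t⁻¹ := by group
      rw [h1]
      constructor
      · intro hx
        exact hP₁t _ hx
      · intro hx
        have := hP₁t _ hx
        have h2 : t * (t * (g⁻¹ * x * g) * t⁻¹) * t⁻¹ = g⁻¹ * x * g := by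
          rw [htinv]
          calc t * (t * (g⁻¹ * x * g) * t) * t = (t * t) * (g⁻¹ * x * g) * (t * t) := by group
            _ = g⁻¹ * x * g := by rw [htt, one_mul, mul_one]
        rwa [h2] at this
    have hord : orderOf (g * t * g⁻¹) = 2 := by
      have := (MulAut.conj g).orderOf_eq t
      rw [MulAut.conj_apply] at this
      rw [this, ht]
    have h2 := Subgroup.orderOf_dvd_natCard _ htmem
    rw [hord] at h2
    exact even_iff_two_dvd.mpr h2
  · refine ⟨⟨fun a b => ?_⟩⟩
    apply Subtype.ext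
    have ha := (hmem a).mp a.2
    have hb := (hmem b).mp b.2
    have h1 := hP₁comm _ ha _ hb
    have h2 : (a : G) * b = g * ((g⁻¹ * a * g) * (g⁻¹ * b * g)) * g⁻¹ := by group
    have h3 : (b : G) * a = g * ((g⁻¹ * b * g) * (g⁻¹ * a * g)) * g⁻¹ := by group
    change (a : G) * b = b * a
    rw [h2, h3, h1]

end Cfsg.Agent.Helper6
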