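import Mathlib
import Cfsg.Prelude.Def_Characters
import Cfsg.Agent.Helper6.BLeoD
import Cfsg.Agent.Helper6.BLeoC

/-!
# Brauer–Leonard (degree bound): Fourier analysis on a finite abelian group and multiplicities
-/

set_option autoImplicit false
set_option linter.style.haveILetI false

namespace Cfsg.Agent.Helper6.BLd

open scoped ComplexConjugate

universe u

/-- Fourier inversion on a finite abelian group. -/
theorem fourier_inversion {A : Type u} [Group A] [Fintype A] (hab : ∀ a b : A, a * b = b * a)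
    [Fintype (A →* ℂˣ)] (f : A → ℂ) (y : A) :
    f y = ∑ l : A →* ℂˣ, Cfsg.classInner f (fun z : A => ((l z : ℂˣ) : ℂ)) * ((l y : ℂˣ) : ℂ) := by
  classical
  have hA0 : (Nat.card A : ℂ) ≠ 0 := by
    exact_mod_cast (Nat.card_pos (α := A)).ne'
  have h1 : ∀ l : A →* ℂˣ, Cfsg.classInner f (fun z : A => ((l z : ℂˣ) : ℂ)) * ((l y : ℂˣ) : ℂ) =
      (Nat.card A : ℂ)⁻¹ * ∑ z : A, f z * ((l (z⁻¹ * y) : ℂˣ) : ℂ) := by
    intro l
    rw [Cfsg.classInner, mul_assoc, Finset.sum_mul]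
    congr 1
    apply Finset.sum_congr rfl
    intro z _
    rw [← BLeo.hom_inv_eq_conj, map_mul]
    push_cast
    ring
  rw [Finset.sum_congr rfl (fun l _ => h1 l), ← Finset.mul_sum, Finset.sum_comm]
  have h2 : ∀ z : A, ∑ l : A →* ℂˣ, f z * ((l (z⁻¹ * y) : ℂˣ) : ℂ) =
      if z = y then f y * (Nat.card A : ℂ) else 0 := by
    intro z
    rw [← Finset.mul_sum, sum_hom_units_apply hab (z⁻¹ * y)]
    by_cases hz : z = y
    · subst hz
      simp
    · rw [if_neg hz, if_neg, mul_zero]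
      intro h
      apply hz
      have : y = z := by
        calc y = z * (z⁻¹ * y) := by group
          _ = z := by rw [h, mul_one]
      exact this.symm
  rw [Finset.sum_congr rfl (fun z _ => h2 z), Finset.sum_ite_eq' Finset.univ y,
    if_pos (Finset.mem_univ _)]
  field_simp

/-- The sum of the Fourier coefficients is the value at the identity. -/
theorem sum_classInner_hom {A : Type u} [Group A] [Fintype A] (hab : ∀ a b : A, a * b = b * a)
    [Fintype (A →* ℂˣ)] (f : A → ℂ) :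
    ∑ l : A →* ℂˣ, Cfsg.classInner f (fun z : A => ((l z : ℂˣ) : ℂ)) = f 1 := by
  rw [fourier_inversion hab f 1]
  apply Finset.sum_congr rfl
  intro l _
  rw [map_one, Units.val_one, mul_one]

/-- Parseval's identity on a finite abelian group. -/
theorem parseval {A : Type u} [Group A] [Fintype A] (hab : ∀ a b : A, a * b = b * a)
    [Fintype (A →* ℂˣ)] (f : A → ℂ) :
    Cfsg.classInner f f = ∑ l : A →* ℂˣ, Cfsg.classInner f (fun z : A => ((l z : ℂˣ) : ℂ)) *
      conj (Cfsg.classInner f (fun z : A => ((l z : ℂˣ) : ℂ))) := by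
  have h1 : ∀ l : A →* ℂˣ, Cfsg.classInner f (fun z : A => ((l z : ℂˣ) : ℂ)) *
      conj (Cfsg.classInner f (fun z : A => ((l z : ℂˣ) : ℂ))) =
      (Nat.card A : ℂ)⁻¹ * ∑ y : A, Cfsg.classInner f (fun z : A => ((l z : ℂˣ) : ℂ)) *
        ((l y : ℂˣ) : ℂ) * conj (f y) := by
    intro l
    have h2 : conj (Cfsg.classInner f (fun z : A => ((l z : ℂˣ) : ℂ))) =
        (Nat.card A : ℂ)⁻¹ * ∑ y : A, ((l y : ℂˣ) : ℂ) * conj (f y) := by
      rw [Cfsg.classInner, map_mul, map_inv₀, Complex.conj_natCast, map_sum]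
      congr 1
      apply Finset.sum_congr rfl
      intro y _
      rw [map_mul, Complex.conj_conj]
      ring
    rw [h2, Finset.mul_sum, Finset.mul_sum, Finset.mul_sum]
    apply Finset.sum_congr rfl
    intro y _
    ring
  rw [Finset.sum_congr rfl (fun l _ => h1 l), ← Finset.mul_sum, Finset.sum_comm]
  conv_lhs => rw [Cfsg.classInner]
  congr 1
  apply Finset.sum_congr rfl
  intro y _
  rw [← Finset.sum_mul, ← fourier_inversion hab f y]

variable {G : Type u} [Group G]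

/-- The multiplicities of the linear characters of `P` in the restriction of a character. -/
theorem exists_mult [Finite G] (P : Subgroup G) [Fintype ↥P] (ξ : G → ℂ)
    (hξ : Cfsg.IsCharacter G ξ) :
    ∃ μ : (↥P →* ℂˣ) → ℕ, ∀ l : ↥P →* ℂˣ,
      Cfsg.classInner (fun y : ↥P => ξ (y : G)) (fun y : ↥P => ((l y : ℂˣ) : ℂ)) = (μ l : ℂ) := by
  have hres : Cfsg.IsCharacter ↥P (fun y : ↥P => ξ (y : G)) := IsCharacter.restrict P hξ
  have key : ∀ l : ↥P →* ℂˣ, ∃ n : ℕ,
      Cfsg.classInner (fun y : ↥P => ξ (y : G)) (fun y : ↥P => ((l y : ℂˣ) : ℂ)) = (n : ℂ) := by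
    intro l
    obtain ⟨n, hn⟩ := classInner_irr_char_nat (isIrrCharacter_of_hom l) hres
    refine ⟨n, ?_⟩
    rw [classInner_conj_symm, hn, Complex.conj_natCast]
  choose μ hμ using key
  exact ⟨μ, hμ⟩

/-- The multiplicities are invariant under the normalizer. -/
theorem classInner_rel_eq (P : Subgroup G) [Fintype ↥P] (ξ : G → ℂ)
    (hξ : Cfsg.IsClassFunction G ξ) (l l' : ↥P →* ℂˣ)
    (hrel : ∃ n : G, n ∈ Subgroup.normalizer (P : Set G) ∧
      ∀ w w' : ↥P, (w' : G) = n * w * n⁻¹ → l' w' = l w) :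
    Cfsg.classInner (fun y : ↥P => ξ (y : G)) (fun y : ↥P => ((l' y : ℂˣ) : ℂ)) =
      Cfsg.classInner (fun y : ↥P => ξ (y : G)) (fun y : ↥P => ((l y : ℂˣ) : ℂ)) := by
  obtain ⟨n, hn, h⟩ := hrel
  have hn' : n⁻¹ ∈ Subgroup.normalizer (P : Set G) := Subgroup.inv_mem _ hn
  rw [Cfsg.classInner, Cfsg.classInner]
  congr 1
  symm
  apply Fintype.sum_equiv (normConjEquiv P ⟨n⁻¹, hn'⟩).toEquiv
  intro w
  have hc : ((normConjEquiv P ⟨n⁻¹, hn'⟩ w : ↥P) : G) = n * w * n⁻¹ := by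
    rw [normConjEquiv_apply_coe]
    simp
  have h1 := h w (normConjEquiv P ⟨n⁻¹, hn'⟩ w) hc
  change ξ (w : G) * conj ((l w : ℂˣ) : ℂ) =
    ξ ((normConjEquiv P ⟨n⁻¹, hn'⟩ w : ↥P) : G) *
      conj ((l' (normConjEquiv P ⟨n⁻¹, hn'⟩ w) : ℂˣ) : ℂ)
  rw [h1, hc, hξ]

open Classical in
/-- The orbit of a non-principal linear character, as a finset. -/
theorem card_filter_rel [Finite G] (P : Subgroup G)
    (hfree : ∀ n ∈ Subgroup.normalizer (P : Set G), n ∉ Subgroup.centralizer (P : Set G) →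
      ∀ y ∈ P, y ≠ 1 → n * y * n⁻¹ ≠ y)
    [Fintype (↥P →* ℂˣ)] (l : ↥P →* ℂˣ) (hl : l ≠ 1) :
    (Finset.univ.filter (fun l' : ↥P →* ℂˣ => ∃ n : G, n ∈ Subgroup.normalizer (P : Set G) ∧
      ∀ w w' : ↥P, (w' : G) = n * w * n⁻¹ → l' w' = l w)).card =
      (Subgroup.centralizer (P : Set G)).relIndex (Subgroup.normalizer (P : Set G)) := by
  letI := BLeo.dualAction P
  rw [← BLeo.card_orbit P hfree l hl, Nat.card_eq_fintype_card, Fintype.card_subtype]
  congr 1
  apply Finset.filter_congr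
  intro l' _
  exact BLeo.rel_iff P l l'

open Classical in
/-- If a non-principal linear character occurs in an invariant family of multiplicities, the sum
of the multiplicities and the sum of their squares are at least `|N : C|`. -/
theorem relIndex_le_sum [Finite G] (P : Subgroup G)
    (hfree : ∀ n ∈ Subgroup.normalizer (P : Set G), n ∉ Subgroup.centralizer (P : Set G) →
      ∀ y ∈ P, y ≠ 1 → n * y * n⁻¹ ≠ y)
    [Fintype (↥P →* ℂˣ)] (μ : (↥P →* ℂˣ) → ℕ)
    (hinv : ∀ l l' : ↥P →* ℂˣ, (∃ n : G, n ∈ Subgroup.normalizer (P : Set G) ∧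
      ∀ w w' : ↥P, (w' : G) = n * w * n⁻¹ → l' w' = l w) → μ l' = μ l)
    (l₀ : ↥P →* ℂˣ) (hl₀ : l₀ ≠ 1) (hpos : 1 ≤ μ l₀) :
    (Subgroup.centralizer (P : Set G)).relIndex (Subgroup.normalizer (P : Set G)) ≤ ∑ l, μ l ∧
    (Subgroup.centralizer (P : Set G)).relIndex (Subgroup.normalizer (P : Set G)) ≤
      ∑ l, μ l ^ 2 := by
  rw [← card_filter_rel P hfree l₀ hl₀]
  constructor
  · calc (Finset.univ.filter (fun l' : ↥P →* ℂˣ => ∃ n : G,
          n ∈ Subgroup.normalizer (P : Set G) ∧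
          ∀ w w' : ↥P, (w' : G) = n * w * n⁻¹ → l' w' = l₀ w)).card
        = ∑ _l ∈ Finset.univ.filter (fun l' : ↥P →* ℂˣ => ∃ n : G,
          n ∈ Subgroup.normalizer (P : Set G) ∧
          ∀ w w' : ↥P, (w' : G) = n * w * n⁻¹ → l' w' = l₀ w), 1 := by simp
      _ ≤ ∑ l ∈ Finset.univ.filter (fun l' : ↥P →* ℂˣ => ∃ n : G,
          n ∈ Subgroup.normalizer (P : Set G) ∧
          ∀ w w' : ↥P, (w' : G) = n * w * n⁻¹ → l' w' = l₀ w), μ l := by
          apply Finset.sum_le_sum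
          intro l hl
          rw [hinv l₀ l (Finset.mem_filter.mp hl).2]
          exact hpos
      _ ≤ ∑ l, μ l := Finset.sum_le_sum_of_subset (Finset.filter_subset _ _)
  · calc (Finset.univ.filter (fun l' : ↥P →* ℂˣ => ∃ n : G,
          n ∈ Subgroup.normalizer (P : Set G) ∧
          ∀ w w' : ↥P, (w' : G) = n * w * n⁻¹ → l' w' = l₀ w)).card
        = ∑ _l ∈ Finset.univ.filter (fun l' : ↥P →* ℂˣ => ∃ n : G,
          n ∈ Subgroup.normalizer (P : Set G) ∧
          ∀ w w' : ↥P, (w' : G) = n * w * n⁻¹ → l' w' = l₀ w), 1 := by simp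
      _ ≤ ∑ l ∈ Finset.univ.filter (fun l' : ↥P →* ℂˣ => ∃ n : G,
          n ∈ Subgroup.normalizer (P : Set G) ∧
          ∀ w w' : ↥P, (w' : G) = n * w * n⁻¹ → l' w' = l₀ w), μ l ^ 2 := by
          apply Finset.sum_le_sum
          intro l hl
          rw [hinv l₀ l (Finset.mem_filter.mp hl).2]
          exact Nat.one_le_pow _ _ hpos
      _ ≤ ∑ l, μ l ^ 2 := Finset.sum_le_sum_of_subset (Finset.filter_subset _ _)

end Cfsg.Agent.Helper6.BLd
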