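import Mathlib
import Cfsg.Prelude.Def_Characters
import Cfsg.Agent.Helper6.BLdA
import Cfsg.Agent.Helper6.CharBasic
import Cfsg.Agent.Helper6.Induced
import Cfsg.Agent.Helper6.Linear

/-!
# Characters with root-of-unity values on `p`-singular elements: basic counting lemmas
-/

set_option autoImplicit false
set_option linter.style.haveILetI false

namespace Cfsg.Agent.Helper6.RootU

open Cfsg.Agent.Helper6.BLd

open scoped ComplexConjugate

universe u

variable {G : Type u} [Group G]

/-- A root of unity has norm square one. -/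
theorem mul_conj_eq_one_of_pow {z : ℂ} {n : ℕ} (hn : 0 < n) (h : z ^ n = 1) :
    z * conj z = 1 := by
  have h1 : ‖z‖ = 1 := norm_eq_one_of_pow_eq_one hn h
  rw [Complex.mul_conj, Complex.normSq_eq_norm_sq, h1]
  norm_num

/-- The sum of `|χ|²` over a `p`-subgroup when `χ` has norm one on `p`-singular elements. -/
theorem sum_mul_conj_pgroup (p : ℕ) [hp : Fact p.Prime] (χ : G → ℂ)
    (hχ : ∀ g : G, p ∣ orderOf g → χ g * conj (χ g) = 1)
    (A : Subgroup G) [Fintype A] (hA : IsPGroup p A) :
    ∑ a : A, χ a * conj (χ a) = χ 1 * conj (χ 1) + ((Nat.card A : ℂ) - 1) := by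
  classical
  have h1 : ∀ a ∈ (Finset.univ : Finset A).erase 1, χ a * conj (χ a) = 1 := by
    intro a ha
    have hne : a ≠ 1 := (Finset.mem_erase.mp ha).1
    apply hχ
    obtain ⟨k, hk⟩ := hA a
    have hk' : (a : G) ^ p ^ k = 1 := by
      have := congrArg (Subtype.val) hk
      simpa using this
    have hdvd : orderOf (a : G) ∣ p ^ k := orderOf_dvd_of_pow_eq_one hk'
    obtain ⟨j, hj, hjk⟩ := (Nat.dvd_prime_pow hp.out).mp hdvd
    have hj0 : j ≠ 0 := by
      rintro rfl
      rw [pow_zero, orderOf_eq_one_iff] at hjk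
      exact hne (Subtype.ext hjk)
    rw [hjk]
    exact dvd_pow_self p hj0
  rw [← Finset.add_sum_erase _ _ (Finset.mem_univ (1 : A)), Finset.sum_congr rfl h1]
  simp only [Subgroup.coe_one, Finset.sum_const, nsmul_eq_mul, mul_one]
  rw [Finset.card_erase_of_mem (Finset.mem_univ _), Finset.card_univ, Nat.card_eq_fintype_card,
    Nat.cast_sub Fintype.card_pos]
  simp

/-- Multiplicity-freeness passes to abelian overgroups: if every linear character of `P` occurs at
most once in `χ` restricted to `P`, the norm of `χ` restricted to an abelian overgroup `A` is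
`χ 1`. -/
theorem sum_mul_conj_abelian [Finite G] (χ : G → ℂ) (hχ : Cfsg.IsCharacter G χ)
    (P A : Subgroup G) (hPA : P ≤ A) [Fintype A] [Fintype P]
    (hab : ∀ a ∈ A, ∀ b ∈ A, a * b = b * a)
    (hmf : ∀ lam : P →* ℂˣ, ∃ n : ℕ, n ≤ 1 ∧
      Cfsg.classInner (fun x : P => χ x) (fun x => ((lam x : ℂˣ) : ℂ)) = n) :
    ∑ a : A, χ a * conj (χ a) = (Nat.card A : ℂ) * χ 1 := by
  classical
  haveI : Finite (↥A →* ℂˣ) := finite_hom_units
  haveI : Fintype (↥A →* ℂˣ) := Fintype.ofFinite _
  have habA : ∀ a b : A, a * b = b * a := fun a b => Subtype.ext (hab a a.2 b b.2)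
  obtain ⟨μ, hμ⟩ := exists_mult A χ hχ
  -- the restriction map on homs
  let res : (↥A →* ℂˣ) → (↥P →* ℂˣ) := fun l => l.comp (Subgroup.inclusion hPA)
  -- each multiplicity is at most one
  have hle : ∀ l : ↥A →* ℂˣ, μ l ≤ 1 := by
    intro l
    obtain ⟨n, hn1, hn⟩ := hmf (res l)
    -- expand χ on A and restrict to P
    have hexp : ∀ x : P, χ x = ∑ l' : ↥A →* ℂˣ, (μ l' : ℂ) * ((res l' x : ℂˣ) : ℂ) := by
      intro x
      have := fourier_inversion habA (fun a : A => χ a) (Subgroup.inclusion hPA x)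
      simp only [Subgroup.coe_inclusion] at this
      rw [this]
      apply Finset.sum_congr rfl
      intro l' _
      rw [hμ l']
      rfl
    have hinner : Cfsg.classInner (fun x : P => χ x) (fun x => ((res l x : ℂˣ) : ℂ)) =
        ∑ l' : ↥A →* ℂˣ, (μ l' : ℂ) *
          Cfsg.classInner (fun x : P => ((res l' x : ℂˣ) : ℂ)) (fun x => ((res l x : ℂˣ) : ℂ)) := by
      simp only [Cfsg.classInner]
      have : ∀ x : P, χ x * conj (((res l x : ℂˣ) : ℂ)) =
          ∑ l' : ↥A →* ℂˣ, (μ l' : ℂ) * (((res l' x : ℂˣ) : ℂ) * conj (((res l x : ℂˣ) : ℂ))) := by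
        intro x
        rw [hexp x, Finset.sum_mul]
        apply Finset.sum_congr rfl
        intro l' _
        ring
      conv_lhs => rw [Finset.sum_congr rfl (fun x _ => this x), Finset.sum_comm, Finset.mul_sum]
      apply Finset.sum_congr rfl
      intro l' _
      rw [← Finset.mul_sum]
      ring
    -- each inner product of restrictions is 0 or 1
    have h01 : ∀ l' : ↥A →* ℂˣ, ∃ k : ℕ,
        Cfsg.classInner (fun x : P => ((res l' x : ℂˣ) : ℂ)) (fun x => ((res l x : ℂˣ) : ℂ)) = k ∧
          (l' = l → k = 1) := by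
      intro l'
      by_cases h : (fun x : P => ((res l' x : ℂˣ) : ℂ)) = (fun x => ((res l x : ℂˣ) : ℂ))
      · refine ⟨1, ?_, fun _ => rfl⟩
        rw [h, classInner_irr_self (isIrrCharacter_of_hom (res l))]
        simp
      · refine ⟨0, ?_, ?_⟩
        · rw [classInner_irr_ne (isIrrCharacter_of_hom (res l')) (isIrrCharacter_of_hom (res l)) h]
          simp
        · intro hl
          exact absurd (by rw [hl]) h
    choose k hk hk1 using h01
    have hnat : n = ∑ l' : ↥A →* ℂˣ, μ l' * k l' := by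
      have : (n : ℂ) = ((∑ l' : ↥A →* ℂˣ, μ l' * k l' : ℕ) : ℂ) := by
        rw [← hn, hinner]
        push_cast
        apply Finset.sum_congr rfl
        intro l' _
        rw [hk l']
      exact_mod_cast this
    have hge : μ l * k l ≤ n := by
      rw [hnat]
      exact Finset.single_le_sum (f := fun l' => μ l' * k l') (fun _ _ => Nat.zero_le _)
        (Finset.mem_univ l)
    rw [hk1 l rfl, mul_one] at hge
    omega
  -- now Parseval
  have hpars := parseval habA (fun a : A => χ a)
  have hsum1 := sum_classInner_hom habA (fun a : A => χ a)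
  simp only [Subgroup.coe_one] at hsum1
  have hsq : ∀ l : ↥A →* ℂˣ, Cfsg.classInner (fun a : A => χ a) (fun z : A => ((l z : ℂˣ) : ℂ)) *
      conj (Cfsg.classInner (fun a : A => χ a) (fun z : A => ((l z : ℂˣ) : ℂ))) =
      Cfsg.classInner (fun a : A => χ a) (fun z : A => ((l z : ℂˣ) : ℂ)) := by
    intro l
    rw [hμ l, Complex.conj_natCast]
    have := hle l
    interval_cases h : μ l <;> simp
  rw [Finset.sum_congr rfl (fun l _ => hsq l), hsum1] at hpars
  rw [Cfsg.classInner] at hpars
  have hA0 : (Nat.card A : ℂ) ≠ 0 := by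
    exact_mod_cast (Nat.card_pos (α := A)).ne'
  rw [← hpars]
  field_simp

end Cfsg.Agent.Helper6.RootU
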