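import Mathlib
import Cfsg.Prelude.Def_Characters
import Cfsg.Agent.Helper6.Commutators
import Cfsg.Agent.Helper6.ColumnOrth
import Cfsg.Agent.Helper6.Linear
import Cfsg.Agent.Helper6.IrrCount
import Cfsg.Agent.Helper6.RootUA

/-!
# Characters multiplicative on pairs of elements of coprime prime-power orders: character theory
-/

set_option autoImplicit false
set_option linter.style.haveILetI false

namespace Cfsg.Agent.Helper6.MultCh

open Module Representation
open scoped ComplexConjugate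

universe u

variable {G : Type u} [Group G]

/-- `∑_g χ(g x g⁻¹ y) = |G| χ(x) χ(y) / χ(1)` for an irreducible character `χ`. -/
theorem sum_conj_mul_char [Fintype G] {χ : G → ℂ} (hχ : Cfsg.IsIrrCharacter G χ) (x y : G) :
    ∑ g : G, χ (g * x * g⁻¹ * y) = (Nat.card G : ℂ) * χ x * χ y / χ 1 := by
  classical
  obtain ⟨n, ρ, hirr, rfl⟩ := hχ
  haveI := hirr
  have h1 : ∑ g : G, ρ (g * x * g⁻¹ * y) = (∑ g : G, ρ (g * x * g⁻¹)) * ρ y := by
    rw [Finset.sum_mul]
    apply Finset.sum_congr rfl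
    intro g _
    rw [← map_mul]
  have h2 : ρ.character 1 = (finrank ℂ (Fin n → ℂ) : ℂ) := Representation.char_one ρ
  unfold Representation.character at h2 ⊢
  rw [← map_sum, h1, sum_conj_rep ρ x, smul_mul_assoc, map_smul, smul_eq_mul, h2]
  have h3 : (LinearMap.id : (Fin n → ℂ) →ₗ[ℂ] (Fin n → ℂ)) * ρ y = ρ y := rfl
  rw [h3]
  unfold Representation.character
  ring

/-- If `χ` is multiplicative on all pairs `(g x g⁻¹, y)` and non-linear, then `χ x χ y = 0`. -/
theorem mul_eq_zero_of_mult [Fintype G] {χ : G → ℂ} (hχ : Cfsg.IsIrrCharacter G χ) (x y : G)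
    (hmul : ∀ g : G, χ (g * x * g⁻¹ * y) = χ x * χ y) (hnl : χ 1 ≠ 1) :
    χ x * χ y = 0 := by
  have h1 := sum_conj_mul_char hχ x y
  have hG : (Nat.card G : ℂ) ≠ 0 := by
    have : 0 < Nat.card G := Nat.card_pos
    exact_mod_cast this.ne'
  have h2 : ∑ g : G, χ (g * x * g⁻¹ * y) = (Nat.card G : ℂ) * (χ x * χ y) := by
    rw [Finset.sum_congr rfl (fun g _ => hmul g), Finset.sum_const, Finset.card_univ,
      nsmul_eq_mul, Nat.card_eq_fintype_card]
  have hd0 : χ 1 ≠ 0 := by
    obtain ⟨n, ρ, hirr, rfl⟩ := hχ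
    haveI := hirr
    have h2 : ρ.character 1 = (finrank ℂ (Fin n → ℂ) : ℂ) := Representation.char_one ρ
    rw [h2]
    haveI : Nontrivial (Fin n → ℂ) := irr_nontrivial ρ
    have : finrank ℂ (Fin n → ℂ) ≠ 0 := Module.finrank_pos.ne'
    exact_mod_cast this
  rw [h2] at h1
  by_contra hne
  have h3 : (Nat.card G : ℂ) * (χ x * χ y) * χ 1 = (Nat.card G : ℂ) * (χ x * χ y) := by
    have h6 : (Nat.card G : ℂ) * (χ x * χ y) * χ 1 =
        (Nat.card G : ℂ) * χ x * χ y / χ 1 * χ 1 := by rw [← h1]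
    rw [h6]
    field_simp
  have h4 : χ 1 = 1 := by
    have h5 : (Nat.card G : ℂ) * (χ x * χ y) ≠ 0 := mul_ne_zero hG hne
    have := mul_left_cancel₀ h5 (h3.trans (mul_one _).symm)
    exact this
  exact hnl h4

/-- The value of a linear irreducible character has absolute value one. -/
theorem linear_mul_conj [Finite G] {χ : G → ℂ} (hχ : Cfsg.IsIrrCharacter G χ) (h1 : χ 1 = 1)
    (g : G) : χ g * conj (χ g) = 1 := by
  obtain ⟨lam, rfl⟩ := exists_hom_of_irr_degree_one hχ h1
  have hpos : 0 < orderOf g := orderOf_pos g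
  apply Cfsg.Agent.Helper6.RootU.mul_conj_eq_one_of_pow hpos
  simp only
  rw [← Units.val_pow_eq_pow_val, ← map_pow, pow_orderOf_eq_one, map_one, Units.val_one]

/-- Column orthogonality at `g`, split into linear and non-linear characters. -/
theorem column_split [Fintype G] [Fintype (Cfsg.IrrCharacter G)] (g : G) :
    ((commutator G).index : ℝ) +
      ∑ χ ∈ Finset.univ.filter (fun χ : Cfsg.IrrCharacter G => ¬ (χ : G → ℂ) 1 = 1),
        Complex.normSq ((χ : G → ℂ) g) =
      (Nat.card (Subgroup.centralizer ({g} : Set G)) : ℝ) := by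
  classical
  have h := column_orthogonality_aux g g
  rw [if_pos (IsConj.refl g)] at h
  have h1 : ∀ χ : Cfsg.IrrCharacter G, (χ : G → ℂ) g * conj ((χ : G → ℂ) g) =
      ((Complex.normSq ((χ : G → ℂ) g) : ℝ) : ℂ) := fun χ => Complex.mul_conj _
  rw [Finset.sum_congr rfl (fun χ _ => h1 χ), ← Complex.ofReal_sum] at h
  have h2 : ∑ χ : Cfsg.IrrCharacter G, Complex.normSq ((χ : G → ℂ) g) =
      (Nat.card (Subgroup.centralizer ({g} : Set G)) : ℝ) := by
    have := congrArg Complex.re h
    simpa using this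
  rw [← h2, ← Finset.sum_filter_add_sum_filter_not Finset.univ
    (fun χ : Cfsg.IrrCharacter G => (χ : G → ℂ) 1 = 1)]
  congr 1
  have h3 : ∀ χ ∈ Finset.univ.filter (fun χ : Cfsg.IrrCharacter G => (χ : G → ℂ) 1 = 1),
      Complex.normSq ((χ : G → ℂ) g) = 1 := by
    intro χ hχ
    rw [Finset.mem_filter] at hχ
    have h4 := linear_mul_conj χ.2 hχ.2 g
    rw [Complex.mul_conj] at h4
    exact_mod_cast h4
  rw [Finset.sum_congr rfl h3, Finset.sum_const, nsmul_eq_mul, mul_one]
  have h5 : (Finset.univ.filter (fun χ : Cfsg.IrrCharacter G => (χ : G → ℂ) 1 = 1)).card =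
      (commutator G).index := by
    rw [← card_linear_irr, Nat.card_eq_fintype_card, Fintype.card_subtype]
  rw [h5]

/-- If `|C_G(g)| ≤ |G : G'|`, every non-linear irreducible character vanishes at `g`. -/
theorem vanish_of_card_centralizer_le [Finite G] (g : G)
    (hle : Nat.card (Subgroup.centralizer ({g} : Set G)) ≤ (commutator G).index)
    (χ : Cfsg.IrrCharacter G) (hnl : (χ : G → ℂ) 1 ≠ 1) : (χ : G → ℂ) g = 0 := by
  classical
  haveI := Fintype.ofFinite G
  haveI : Finite (Cfsg.IrrCharacter G) := irr_finite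
  haveI : Fintype (Cfsg.IrrCharacter G) := Fintype.ofFinite _
  have h := column_split g
  have hle' : (Nat.card (Subgroup.centralizer ({g} : Set G)) : ℝ) ≤
      ((commutator G).index : ℝ) := by exact_mod_cast hle
  have hnonneg : ∀ ψ ∈ Finset.univ.filter (fun χ : Cfsg.IrrCharacter G => ¬ (χ : G → ℂ) 1 = 1),
      0 ≤ Complex.normSq ((ψ : G → ℂ) g) := fun ψ _ => Complex.normSq_nonneg _
  have hsum0 : ∑ χ ∈ Finset.univ.filter (fun χ : Cfsg.IrrCharacter G => ¬ (χ : G → ℂ) 1 = 1),
      Complex.normSq ((χ : G → ℂ) g) = 0 := by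
    have h1 := Finset.sum_nonneg hnonneg
    linarith
  have h2 := (Finset.sum_eq_zero_iff_of_nonneg hnonneg).mp hsum0 χ
    (by rw [Finset.mem_filter]; exact ⟨Finset.mem_univ _, hnl⟩)
  exact Complex.normSq_eq_zero.mp h2

/-- If every non-linear irreducible character vanishes at `g`, then `|C_G(g)| = |G : G'|`. -/
theorem card_centralizer_of_vanish [Finite G] (g : G)
    (hv : ∀ χ : Cfsg.IrrCharacter G, (χ : G → ℂ) 1 ≠ 1 → (χ : G → ℂ) g = 0) :
    Nat.card (Subgroup.centralizer ({g} : Set G)) = (commutator G).index := by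
  classical
  haveI := Fintype.ofFinite G
  haveI : Finite (Cfsg.IrrCharacter G) := irr_finite
  haveI : Fintype (Cfsg.IrrCharacter G) := Fintype.ofFinite _
  have h := column_split g
  have hsum0 : ∑ χ ∈ Finset.univ.filter (fun χ : Cfsg.IrrCharacter G => ¬ (χ : G → ℂ) 1 = 1),
      Complex.normSq ((χ : G → ℂ) g) = 0 := by
    apply Finset.sum_eq_zero
    intro χ hχ
    rw [Finset.mem_filter] at hχ
    rw [hv χ hχ.2, map_zero]
  rw [hsum0, add_zero] at h
  exact_mod_cast h.symm

end Cfsg.Agent.Helper6.MultCh
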