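import Mathlib
import Cfsg.Prelude.Def_FusionSystem
import Cfsg.Agent.Lead.RealSimpleA
import Cfsg.Agent.Lead.FusionAut

/-!
# The automorphism group induced by a realizing group on a subgroup with normal image
-/

set_option autoImplicit false

namespace Cfsg.Agent.Helper6.FusPSolv

open Cfsg Cfsg.FusionSystem Cfsg.Agent.Lead Cfsg.Agent.Lead.RealSimple

variable {Ω : Type*} [Group Ω] {S : Subgroup Ω} {G : Type*} [Group G] (ι : S →* G)

/-- When the image of `Q ≤ S` is normal in `G`, conjugates of images of elements of `Q` are images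
of elements of `Q`. -/
theorem exists_conj_of_map_normal {Q : Subgroup Ω} (hQ : Q ≤ S)
    (hn : ((Q.subgroupOf S).map ι).Normal) (g : G) (x : Q) :
    ∃ y : Q, ι ⟨y, hQ y.2⟩ = g * ι ⟨x, hQ x.2⟩ * g⁻¹ := by
  have hx : ι ⟨x, hQ x.2⟩ ∈ (Q.subgroupOf S).map ι :=
    ⟨⟨x, hQ x.2⟩, by rw [SetLike.mem_coe, Subgroup.mem_subgroupOf]; exact x.2, rfl⟩
  obtain ⟨s, hs, hs'⟩ := hn.conj_mem _ hx g
  rw [SetLike.mem_coe, Subgroup.mem_subgroupOf] at hs
  exact ⟨⟨s, hs⟩, hs'⟩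

theorem exists_conj_of_map_normal' {Q : Subgroup Ω} (hQ : Q ≤ S)
    (hn : ((Q.subgroupOf S).map ι).Normal) (g : G) (x : Q) :
    ∃ y : Q, ι ⟨y, hQ y.2⟩ = g⁻¹ * ι ⟨x, hQ x.2⟩ * g := by
  obtain ⟨y, hy⟩ := exists_conj_of_map_normal ι hQ hn g⁻¹ x
  exact ⟨y, by rw [hy, inv_inv]⟩

/-- The automorphism of `Q` (with normal image) induced by conjugation with `g`. -/
noncomputable def autFun (hinj : Function.Injective ι) {Q : Subgroup Ω} (hQ : Q ≤ S)
    (hn : ((Q.subgroupOf S).map ι).Normal) (g : G) : MulAut Q :=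
  realAut ι hinj Q hQ g (exists_conj_of_map_normal ι hQ hn g)
    (exists_conj_of_map_normal' ι hQ hn g)

theorem map_autFun (hinj : Function.Injective ι) {Q : Subgroup Ω} (hQ : Q ≤ S)
    (hn : ((Q.subgroupOf S).map ι).Normal) (g : G) (x : Q) :
    ι ⟨(autFun ι hinj hQ hn g x : Q), hQ (autFun ι hinj hQ hn g x).2⟩ =
      g * ι ⟨x, hQ x.2⟩ * g⁻¹ :=
  map_realAut ι hinj Q hQ g _ _ x

theorem autFun_one (hinj : Function.Injective ι) {Q : Subgroup Ω} (hQ : Q ≤ S)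
    (hn : ((Q.subgroupOf S).map ι).Normal) : autFun ι hinj hQ hn 1 = 1 := by
  apply MulEquiv.ext
  intro x
  apply app_injective ι hinj Q hQ
  show ι ⟨_, _⟩ = ι ⟨_, _⟩
  rw [map_autFun]
  simp

theorem autFun_mul (hinj : Function.Injective ι) {Q : Subgroup Ω} (hQ : Q ≤ S)
    (hn : ((Q.subgroupOf S).map ι).Normal) (g h : G) :
    autFun ι hinj hQ hn (g * h) = autFun ι hinj hQ hn g * autFun ι hinj hQ hn h := by
  apply MulEquiv.ext
  intro x
  apply app_injective ι hinj Q hQ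
  show ι ⟨_, _⟩ = ι ⟨(autFun ι hinj hQ hn g (autFun ι hinj hQ hn h x) : Q), _⟩
  rw [map_autFun, map_autFun, map_autFun]
  group

/-- The action of `G` on `Q` (with normal image) by conjugation, as a homomorphism into `Aut_F(Q)`. -/
noncomputable def autHom (F : FusionSystem S) (hι : F.IsRealizedBy ι) {Q : Subgroup Ω} (hQ : Q ≤ S)
    (hn : ((Q.subgroupOf S).map ι).Normal) : G →* F.autGroup Q where
  toFun g := ⟨autFun ι hι.1 hQ hn g, realAut_mem_autGroup ι F hι Q hQ g _ _⟩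
  map_one' := Subtype.ext (autFun_one ι hι.1 hQ hn)
  map_mul' g h := Subtype.ext (autFun_mul ι hι.1 hQ hn g h)

theorem map_autHom (F : FusionSystem S) (hι : F.IsRealizedBy ι) {Q : Subgroup Ω} (hQ : Q ≤ S)
    (hn : ((Q.subgroupOf S).map ι).Normal) (g : G) (x : Q) :
    ι ⟨((autHom ι F hι hQ hn g : MulAut Q) x : Q), hQ ((autHom ι F hι hQ hn g : MulAut Q) x).2⟩ =
      g * ι ⟨x, hQ x.2⟩ * g⁻¹ :=
  map_autFun ι hι.1 hQ hn g x

theorem autHom_surjective (F : FusionSystem S) (hι : F.IsRealizedBy ι) {Q : Subgroup Ω} (hQ : Q ≤ S)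
    (hn : ((Q.subgroupOf S).map ι).Normal) : Function.Surjective (autHom ι F hι hQ hn) := by
  rintro ⟨α, hα⟩
  obtain ⟨g, hg⟩ := exists_of_mem_autGroup ι F hι Q hQ α hα
  refine ⟨g, ?_⟩
  apply Subtype.ext
  apply MulEquiv.ext
  intro x
  apply app_injective ι hι.1 Q hQ
  show ι ⟨_, _⟩ = ι ⟨_, _⟩
  rw [map_autHom, hg]

theorem ker_autHom_le (F : FusionSystem S) (hι : F.IsRealizedBy ι) {Q : Subgroup Ω} (hQ : Q ≤ S)
    (hn : ((Q.subgroupOf S).map ι).Normal) :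
    (autHom ι F hι hQ hn).ker ≤ Subgroup.centralizer (((Q.subgroupOf S).map ι : Subgroup G) : Set G) := by
  intro g hg
  rw [MonoidHom.mem_ker] at hg
  rw [Subgroup.mem_centralizer_iff]
  rintro _ ⟨s, hs, rfl⟩
  rw [SetLike.mem_coe, Subgroup.mem_subgroupOf] at hs
  have h1 := map_autHom ι F hι hQ hn g ⟨s, hs⟩
  rw [hg] at h1
  have h2 : ι s = g * ι s * g⁻¹ := h1
  calc ι s * g = g * ι s * g⁻¹ * g := by rw [← h2]
    _ = g * ι s := by group

end Cfsg.Agent.Helper6.FusPSolv
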