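import Mathlib
import Cfsg.Prelude.Def_FusionSystem
import Cfsg.Agent.Lead.FusionMorph3

/-!
# Realization is preserved modulo a normal `p'`-subgroup
-/

set_option autoImplicit false

namespace Cfsg.Agent.Helper6.FusPSolv

open Cfsg Cfsg.FusionSystem Cfsg.Agent.Lead

variable {Ω : Type*} [Group Ω] {S : Subgroup Ω} {G : Type*} [Group G] (ι : S →* G)

theorem sylow_inf_eq_bot [Finite G] {p : ℕ} [hp : Fact p.Prime] (T : Sylow p G) (H : Subgroup G)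
    (hH : (Nat.card H).Coprime p) : (T : Subgroup G) ⊓ H = ⊥ := by
  rw [← disjoint_iff]
  apply Subgroup.disjoint_of_coprime_natCard
  obtain ⟨n, hn⟩ := IsPGroup.iff_card.mp T.2
  rw [hn]
  exact (Nat.Coprime.pow_left n hH.symm)

/-- If `G` realizes `F` on a Sylow `p`-subgroup, so does `G/H` for every normal `p'`-subgroup `H`. -/
theorem isRealizedBy_quotient [Finite G] {p : ℕ} [hp : Fact p.Prime] (F : FusionSystem S)
    (hι : F.IsRealizedBy ι) (T : Sylow p G) (hT : (T : Subgroup G) = ι.range)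
    (H : Subgroup G) [hHn : H.Normal] (hH : (Nat.card H).Coprime p) :
    F.IsRealizedBy ((QuotientGroup.mk' H).comp ι) ∧
      ∃ T' : Sylow p (G ⧸ H), (T' : Subgroup (G ⧸ H)) = ((QuotientGroup.mk' H).comp ι).range := by
  have hTH := sylow_inf_eq_bot T H hH
  have hιT : ∀ s : S, ι s ∈ (T : Subgroup G) := fun s => hT ▸ ⟨s, rfl⟩
  have hkey : ∀ a b : G, a ∈ (T : Subgroup G) → b ∈ (T : Subgroup G) →
      ((a : G) : G ⧸ H) = ((b : G) : G ⧸ H) → a = b := by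
    intro a b ha hb hab
    have h1 : a⁻¹ * b ∈ H := QuotientGroup.eq.mp hab
    have h2 : a⁻¹ * b ∈ (T : Subgroup G) ⊓ H :=
      ⟨(T : Subgroup G).mul_mem ((T : Subgroup G).inv_mem ha) hb, h1⟩
    rw [hTH, Subgroup.mem_bot] at h2
    exact (inv_mul_eq_one.mp h2)
  refine ⟨⟨?_, ?_⟩, ?_⟩
  · intro s t hst
    apply hι.1
    exact hkey _ _ (hιT s) (hιT t) hst
  · intro P hP φ hφ
    rw [hι.2 P hP φ hφ]
    constructor
    · rintro ⟨g, hg⟩
      refine ⟨(g : G ⧸ H), fun x => ?_⟩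
      show ((ι ⟨φ x, hφ x⟩ : G) : G ⧸ H) = _
      rw [hg x]
      rfl
    · rintro ⟨gbar, hg⟩
      obtain ⟨g, rfl⟩ := QuotientGroup.mk_surjective gbar
      -- the conjugate image of `P`
      set B : Subgroup G := (((P.subgroupOf S).map ι).map (MulAut.conj g).toMonoidHom) with hB
      have hBp : IsPGroup p B := by
        have h1 : IsPGroup p ((P.subgroupOf S).map ι) := by
          apply T.2.to_le
          rintro _ ⟨s, -, rfl⟩
          exact hιT s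
        exact h1.map _
      have hBle : B ≤ (T : Subgroup G) ⊔ H := by
        rintro _ ⟨_, ⟨s, hs, rfl⟩, rfl⟩
        rw [SetLike.mem_coe, Subgroup.mem_subgroupOf] at hs
        have h1 := hg ⟨s, hs⟩
        have h2 : ((ι ⟨φ ⟨s, hs⟩, hφ ⟨s, hs⟩⟩ : G) : G ⧸ H) = ((g * ι s * g⁻¹ : G) : G ⧸ H) := h1
        have h3 : (ι ⟨φ ⟨s, hs⟩, hφ ⟨s, hs⟩⟩)⁻¹ * (g * ι s * g⁻¹) ∈ H := QuotientGroup.eq.mp h2
        have h4 : g * ι s * g⁻¹ = ι ⟨φ ⟨s, hs⟩, hφ ⟨s, hs⟩⟩ *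
            ((ι ⟨φ ⟨s, hs⟩, hφ ⟨s, hs⟩⟩)⁻¹ * (g * ι s * g⁻¹)) := by group
        show g * ι s * g⁻¹ ∈ _
        rw [h4]
        exact Subgroup.mul_mem_sup (hιT _) h3
      obtain ⟨k, hk, hkB⟩ := exists_conj_le_of_le_sup (p := p) (A := ⊤) (R := (T : Subgroup G))
        (K := H) le_top (by rw [Subgroup.card_top]; exact T.card_eq_multiplicity) le_top
        (by rw [Subgroup.normalizer_eq_top]; exact le_top) T.2 hBp hBle
      refine ⟨k * g, fun x => ?_⟩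
      have hxmem : k * (g * ι ⟨x, hP x.2⟩ * g⁻¹) * k⁻¹ ∈ (T : Subgroup G) := by
        apply hkB
        refine ⟨g * ι ⟨x, hP x.2⟩ * g⁻¹, ⟨ι ⟨x, hP x.2⟩, ⟨⟨x, hP x.2⟩, ?_, rfl⟩, rfl⟩, rfl⟩
        rw [SetLike.mem_coe, Subgroup.mem_subgroupOf]
        exact x.2
      have e : k * g * ι ⟨x, hP x.2⟩ * (k * g)⁻¹ = k * (g * ι ⟨x, hP x.2⟩ * g⁻¹) * k⁻¹ := by group
      rw [e]
      apply hkey _ _ (hιT _) hxmem
      have h1 := hg x
      have h2 : ((ι ⟨φ x, hφ x⟩ : G) : G ⧸ H) = ((g * ι ⟨x, hP x.2⟩ * g⁻¹ : G) : G ⧸ H) := h1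
      rw [h2]
      have hk1 : ((k : G) : G ⧸ H) = 1 := (QuotientGroup.eq_one_iff k).mpr hk
      have h3 : ((k * (g * ι ⟨x, hP x.2⟩ * g⁻¹) * k⁻¹ : G) : G ⧸ H) =
          ((k : G) : G ⧸ H) * ((g * ι ⟨x, hP x.2⟩ * g⁻¹ : G) : G ⧸ H) * ((k : G) : G ⧸ H)⁻¹ := rfl
      rw [h3, hk1]
      simp
  · refine ⟨T.mapSurjective (QuotientGroup.mk'_surjective H), ?_⟩
    rw [Sylow.coe_mapSurjective, hT, MonoidHom.range_comp]

end Cfsg.Agent.Helper6.FusPSolv
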