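import Mathlib
import Cfsg.Prelude.Def_FusionSystem
import Cfsg.Agent.Lead.Fusion
import Cfsg.Agent.Lead.FusionAut
import Cfsg.Agent.Lead.FusionConj
import Cfsg.Agent.Lead.FusionSat
import Cfsg.Agent.Lead.FusionInner
import Cfsg.Agent.Lead.FusionGroupoid
import Cfsg.Agent.Lead.FusionKNorm1
import Cfsg.Agent.Lead.SylowLemmas
import Cfsg.Agent.Lead.AutInduced
import Cfsg.Agent.Helper4.PCore

set_option autoImplicit false

/-!
Basic tools for the saturation criterion of Broto–Castellana–Grodal–Levi–Oliver (S5110):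
images of subgroups under maps of a fusion system, stabilizers in automorphism groups,
the subgroup `O_p(Aut_F(P))` and its preimage in `N_S(P)`.
-/

namespace Cfsg.Agent.Helper6.Bcglo

open Cfsg Cfsg.FusionSystem Cfsg.Agent.Lead

variable {Ω : Type*} [Group Ω] {S : Subgroup Ω}

/-- The image of (the part inside `Q` of) a subgroup `R` under a homomorphism defined on `Q`. -/
def img {Q : Subgroup Ω} (φ : Q →* Ω) (R : Subgroup Ω) : Subgroup Ω := (R.subgroupOf Q).map φ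

theorem mem_img {Q : Subgroup Ω} (φ : Q →* Ω) (R : Subgroup Ω) (y : Ω) :
    y ∈ img φ R ↔ ∃ x : Q, (x : Ω) ∈ R ∧ φ x = y := by
  unfold img
  constructor
  · rintro ⟨x, hx, rfl⟩
    exact ⟨x, Subgroup.mem_subgroupOf.mp hx, rfl⟩
  · rintro ⟨x, hx, rfl⟩
    exact ⟨x, Subgroup.mem_subgroupOf.mpr hx, rfl⟩

theorem map_mem_img {Q : Subgroup Ω} (φ : Q →* Ω) {R : Subgroup Ω} (x : Q) (hx : (x : Ω) ∈ R) :
    φ x ∈ img φ R := (mem_img φ R _).mpr ⟨x, hx, rfl⟩

theorem img_le_range {Q : Subgroup Ω} (φ : Q →* Ω) (R : Subgroup Ω) : img φ R ≤ φ.range := by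
  intro y hy
  obtain ⟨x, -, rfl⟩ := (mem_img φ R y).mp hy
  exact ⟨x, rfl⟩

theorem img_mono {Q : Subgroup Ω} (φ : Q →* Ω) {R R' : Subgroup Ω} (h : R ≤ R') :
    img φ R ≤ img φ R' := by
  intro y hy
  obtain ⟨x, hx, rfl⟩ := (mem_img φ R y).mp hy
  exact map_mem_img φ x (h hx)

theorem img_of_ge {Q : Subgroup Ω} (φ : Q →* Ω) {R : Subgroup Ω} (h : Q ≤ R) :
    img φ R = φ.range := by
  apply le_antisymm (img_le_range φ R)
  rintro _ ⟨x, rfl⟩
  exact map_mem_img φ x (h x.2)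

theorem range_restrict {Q : Subgroup Ω} (φ : Q →* Ω) {R : Subgroup Ω} (h : R ≤ Q) :
    (φ.comp (Subgroup.inclusion h)).range = img φ R := by
  ext y
  rw [mem_img]
  constructor
  · rintro ⟨x, rfl⟩
    exact ⟨Subgroup.inclusion h x, x.2, rfl⟩
  · rintro ⟨x, hx, rfl⟩
    exact ⟨⟨x.1, hx⟩, rfl⟩

theorem map_mem_img_iff {Q : Subgroup Ω} (φ : Q →* Ω) (hinj : Function.Injective φ)
    (R : Subgroup Ω) (x : Q) : φ x ∈ img φ R ↔ (x : Ω) ∈ R := by
  constructor
  · intro h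
    obtain ⟨x', hx', he⟩ := (mem_img φ R _).mp h
    rw [← hinj he]
    exact hx'
  · exact map_mem_img φ x

theorem card_img {Q : Subgroup Ω} (φ : Q →* Ω) (hinj : Function.Injective φ) {R : Subgroup Ω}
    (h : R ≤ Q) : Nat.card (img φ R) = Nat.card R := by
  unfold img
  rw [Subgroup.card_map_of_injective hinj, card_subgroupOf_of_le h]

theorem isConj_img (F : FusionSystem S) {Q R : Subgroup Ω} {φ : Q →* Ω} (hφ : φ ∈ F.Hom Q)
    (h : R ≤ Q) : F.IsConj R (img φ R) :=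
  ⟨_, Fusion.restrict_mem F hφ h, range_restrict φ h⟩

theorem img_le (F : FusionSystem S) {Q : Subgroup Ω} {φ : Q →* Ω} (hφ : φ ∈ F.Hom Q)
    (R : Subgroup Ω) : img φ R ≤ S :=
  (img_le_range φ R).trans (Fusion.range_le F hφ)

/-- The image of a normalizing element normalizes the image. -/
theorem map_mem_normalizer_img {Q : Subgroup Ω} (φ : Q →* Ω) (P : Subgroup Ω) (g : Q)
    (hg : (g : Ω) ∈ Subgroup.normalizer (P : Set Ω)) :
    φ g ∈ Subgroup.normalizer ((img φ P : Subgroup Ω) : Set Ω) := by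
  apply mem_normalizer_of_conj_mem
  · intro y hy
    obtain ⟨x, hx, rfl⟩ := (mem_img φ P y).mp hy
    rw [← map_inv, ← map_mul, ← map_mul]
    apply map_mem_img
    exact (Subgroup.mem_normalizer_iff.mp hg x).mp hx
  · intro y hy
    obtain ⟨x, hx, rfl⟩ := (mem_img φ P y).mp hy
    rw [← map_inv, ← map_mul, ← map_mul]
    apply map_mem_img
    have := (Subgroup.mem_normalizer_iff.mp (Subgroup.inv_mem _ hg) x).mp hx
    simpa using this

/-- A map of the system on a subgroup of `N_S(P)` containing `P` takes values in `N_S` of the image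
of `P`. -/
theorem map_mem_normalizerIn_img (F : FusionSystem S) {N P : Subgroup Ω} {ψ : N →* Ω}
    (hψ : ψ ∈ F.Hom N) (hN : N ≤ normalizerIn S P) (x : N) :
    ψ x ∈ normalizerIn S (img ψ P) :=
  Subgroup.mem_inf.mpr ⟨Fusion.map_mem F hψ x,
    map_mem_normalizer_img ψ P x (Subgroup.mem_inf.mp (hN x.2)).2⟩

/-! ### Stabilizers -/

/-- `A(P,Q)`: the automorphisms of `Q` in the system stabilizing `P`. -/
def stab (F : FusionSystem S) (P Q : Subgroup Ω) : Subgroup (MulAut Q) where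
  carrier := {α | α ∈ F.autGroup Q ∧ ∀ x : Q, (x : Ω) ∈ P ↔ ((α x : Q) : Ω) ∈ P}
  one_mem' := ⟨Subgroup.one_mem _, fun _ => Iff.rfl⟩
  mul_mem' := by
    rintro α β ⟨hα1, hα2⟩ ⟨hβ1, hβ2⟩
    refine ⟨Subgroup.mul_mem _ hα1 hβ1, fun x => ?_⟩
    rw [MulAut.mul_apply, ← hα2, ← hβ2]
  inv_mem' := by
    rintro α ⟨hα1, hα2⟩
    refine ⟨Subgroup.inv_mem _ hα1, fun x => ?_⟩
    rw [hα2 (α⁻¹ x), MulAut.apply_inv_self]

theorem mem_stab_iff (F : FusionSystem S) (P Q : Subgroup Ω) (α : MulAut Q) :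
    α ∈ stab F P Q ↔ α ∈ F.autGroup Q ∧ ∀ x : Q, (x : Ω) ∈ P ↔ ((α x : Q) : Ω) ∈ P := Iff.rfl

theorem stab_le (F : FusionSystem S) (P Q : Subgroup Ω) : stab F P Q ≤ F.autGroup Q :=
  fun _ h => h.1

/-- Membership in the stabilizer from stability in one direction (finite case). -/
theorem mem_stab_of_maps (F : FusionSystem S) (P Q : Subgroup Ω) [Finite Q] (α : MulAut Q)
    (h1 : α ∈ F.autGroup Q) (h2 : ∀ x : Q, (x : Ω) ∈ P → ((α x : Q) : Ω) ∈ P) :
    α ∈ stab F P Q := by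
  refine ⟨h1, fun x => ⟨h2 x, fun hx => ?_⟩⟩
  set f : {y : Q // (y : Ω) ∈ P} → {y : Q // (y : Ω) ∈ P} := fun y => ⟨α y.1, h2 y.1 y.2⟩ with hf
  have hinj : Function.Injective f := by
    intro y z hyz
    have h4 : α y.1 = α z.1 := congrArg (fun w : {y : Q // (y : Ω) ∈ P} => w.1) hyz
    exact Subtype.ext (α.injective h4)
  have hsurj : Function.Surjective f := Finite.injective_iff_surjective.mp hinj
  obtain ⟨y, hy⟩ := hsurj ⟨α x, hx⟩
  have h4 : α y.1 = α x := congrArg (fun w : {y : Q // (y : Ω) ∈ P} => w.1) hy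
  rw [← α.injective h4]
  exact y.2

/-- Restriction `A(P,Q) → Aut(P)`. -/
def stabRes (F : FusionSystem S) {P Q : Subgroup Ω} (hPQ : P ≤ Q) : ↥(stab F P Q) →* MulAut P where
  toFun α := Fusion.resAut hPQ α.1 α.2.2
  map_one' := by
    ext x
    rfl
  map_mul' α β := by
    ext x
    rfl

theorem stabRes_apply (F : FusionSystem S) {P Q : Subgroup Ω} (hPQ : P ≤ Q) (α : ↥(stab F P Q))
    (x : P) : ((stabRes F hPQ α x : P) : Ω) = ((α.1 (Subgroup.inclusion hPQ x) : Q) : Ω) := rfl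

/-! ### Isomorphisms of the system as `MulEquiv`s -/

/-- The isomorphism `e : P ≃* Q` of subgroups is a map of the system. -/
def IsIso (F : FusionSystem S) {P Q : Subgroup Ω} (e : P ≃* Q) : Prop :=
  Q.subtype.comp e.toMonoidHom ∈ F.Hom P

theorem IsIso.src_le {F : FusionSystem S} {P Q : Subgroup Ω} {e : P ≃* Q} (he : IsIso F e) :
    P ≤ S := Fusion.src_le F he

theorem IsIso.tgt_le {F : FusionSystem S} {P Q : Subgroup Ω} {e : P ≃* Q} (he : IsIso F e) :
    Q ≤ S := by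
  intro y hy
  have := Fusion.map_mem F he (e.symm ⟨y, hy⟩)
  simpa using this

theorem range_subtype_comp {P Q : Subgroup Ω} (e : P ≃* Q) :
    (Q.subtype.comp e.toMonoidHom).range = Q := by
  ext y
  constructor
  · rintro ⟨x, rfl⟩
    exact (e x).2
  · intro hy
    exact ⟨e.symm ⟨y, hy⟩, by simp⟩

theorem IsIso.isConj {F : FusionSystem S} {P Q : Subgroup Ω} {e : P ≃* Q} (he : IsIso F e) :
    F.IsConj P Q := ⟨_, he, range_subtype_comp e⟩

theorem IsIso.of_hom {F : FusionSystem S} {P Q : Subgroup Ω} {φ : P →* Ω} (hφ : φ ∈ F.Hom P)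
    (hr : φ.range = Q) : IsIso F (Fusion.equivOfRange φ (F.injective_of_mem hφ) hr) := by
  have : Q.subtype.comp (Fusion.equivOfRange φ (F.injective_of_mem hφ) hr).toMonoidHom = φ := by
    ext x
    rfl
  unfold IsIso
  rw [this]
  exact hφ

theorem IsIso.refl (F : FusionSystem S) {P : Subgroup Ω} (hP : P ≤ S) :
    IsIso F (MulEquiv.refl P) := by
  have : P.subtype.comp (MulEquiv.refl P).toMonoidHom = P.subtype := by
    ext x
    rfl
  unfold IsIso
  rw [this]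
  exact Fusion.subtype_mem F hP

theorem IsIso.symm {F : FusionSystem S} {P Q : Subgroup Ω} {e : P ≃* Q} (he : IsIso F e) :
    IsIso F e.symm := by
  have h1 := Fusion.equivOfRange_symm_mem F he (range_subtype_comp e)
  have h2 : Fusion.equivOfRange (Q.subtype.comp e.toMonoidHom) (F.injective_of_mem he)
      (range_subtype_comp e) = e := by
    ext x
    rfl
  rw [h2] at h1
  exact h1

theorem IsIso.comp_hom {F : FusionSystem S} {P Q : Subgroup Ω} {e : P ≃* Q} (he : IsIso F e)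
    {ψ : Q →* Ω} (hψ : ψ ∈ F.Hom Q) : ψ.comp e.toMonoidHom ∈ F.Hom P := by
  have h := F.comp_mem he hψ (fun x => (e x).2)
  have h2 : ψ.comp e.toMonoidHom =
      ψ.comp ((Q.subtype.comp e.toMonoidHom).codRestrict Q (fun x => (e x).2)) := by
    ext x
    rfl
  rw [h2]
  exact h

theorem IsIso.trans {F : FusionSystem S} {P Q R : Subgroup Ω} {e : P ≃* Q} {e' : Q ≃* R}
    (he : IsIso F e) (he' : IsIso F e') : IsIso F (e.trans e') := by
  have h := he.comp_hom he'
  exact h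

theorem isIso_iff_mem_autGroup (F : FusionSystem S) {P : Subgroup Ω} (hP : P ≤ S) (α : MulAut P) :
    IsIso F α ↔ α ∈ F.autGroup P := (Fusion.mem_autGroup_iff F hP α).symm

theorem IsIso.congr_mem {F : FusionSystem S} {P Q : Subgroup Ω} {e : P ≃* Q} (he : IsIso F e)
    {α : MulAut P} (hα : α ∈ F.autGroup P) : MulAut.congr e α ∈ F.autGroup Q := by
  rw [← isIso_iff_mem_autGroup F he.tgt_le]
  rw [← isIso_iff_mem_autGroup F he.src_le] at hα
  have h : IsIso F (e.symm.trans ((α : P ≃* P).trans e)) := he.symm.trans (hα.trans he)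
  exact h

/-! ### `O_p(Aut_F(P))` -/

/-- `Θ(P) = O_p(Aut_F(P))` as a subgroup of `Aut(P)`. -/
def theta (p : ℕ) (F : FusionSystem S) (P : Subgroup Ω) : Subgroup (MulAut P) :=
  (pCore p (F.autGroup P)).map (F.autGroup P).subtype

theorem theta_le (p : ℕ) (F : FusionSystem S) (P : Subgroup Ω) : theta p F P ≤ F.autGroup P := by
  rintro _ ⟨x, -, rfl⟩
  exact x.2

theorem isPGroup_theta (p : ℕ) [Fact p.Prime] (F : FusionSystem S) (P : Subgroup Ω) :
    IsPGroup p (theta p F P) := (Cfsg.Agent.Helper4.pCore_isPGroup).map _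

theorem theta_conj_mem (p : ℕ) (F : FusionSystem S) (P : Subgroup Ω) {α θ : MulAut P}
    (hα : α ∈ F.autGroup P) (hθ : θ ∈ theta p F P) : α * θ * α⁻¹ ∈ theta p F P := by
  obtain ⟨t, ht, rfl⟩ := hθ
  have := (Cfsg.Agent.Helper4.pCore_normal (G := F.autGroup P) (p := p)).conj_mem t ht ⟨α, hα⟩
  exact ⟨_, this, rfl⟩

theorem le_theta (p : ℕ) (F : FusionSystem S) (P : Subgroup Ω) (N : Subgroup (MulAut P))
    (hN : N ≤ F.autGroup P) (hp : IsPGroup p N)
    (hnorm : ∀ α ∈ F.autGroup P, ∀ n ∈ N, α * n * α⁻¹ ∈ N) : N ≤ theta p F P := by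
  have h1 : (N.subgroupOf (F.autGroup P)).Normal := ⟨fun n hn α => by
    rw [Subgroup.mem_subgroupOf] at hn ⊢
    exact hnorm α.1 α.2 n.1 hn⟩
  have h2 : IsPGroup p (N.subgroupOf (F.autGroup P)) := hp.comap_subtype
  have h3 := Cfsg.Agent.Helper4.le_pCore _ h1 h2
  intro n hn
  exact ⟨⟨n, hN hn⟩, h3 (Subgroup.mem_subgroupOf.mpr hn), rfl⟩

theorem theta_map_le (p : ℕ) [Fact p.Prime] {F : FusionSystem S} {P Q : Subgroup Ω} {e : P ≃* Q}
    (he : IsIso F e) : (theta p F P).map (MulAut.congr e).toMonoidHom ≤ theta p F Q := by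
  apply le_theta
  · rintro _ ⟨θ, hθ, rfl⟩
    exact he.congr_mem (theta_le p F P hθ)
  · exact (isPGroup_theta p F P).map _
  · rintro α hα _ ⟨θ, hθ, rfl⟩
    have hα' : MulAut.congr e.symm α ∈ F.autGroup P := he.symm.congr_mem hα
    refine ⟨MulAut.congr e.symm α * θ * (MulAut.congr e.symm α)⁻¹, theta_conj_mem p F P hα' hθ, ?_⟩
    simp only [MulEquiv.coe_toMonoidHom, map_mul, map_inv]
    have : MulAut.congr e (MulAut.congr e.symm α) = α := by
      ext x
      simp [MulAut.congr]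
    rw [this]

theorem theta_congr_mem (p : ℕ) [Fact p.Prime] {F : FusionSystem S} {P Q : Subgroup Ω} {e : P ≃* Q}
    (he : IsIso F e) {θ : MulAut P} (hθ : θ ∈ theta p F P) : MulAut.congr e θ ∈ theta p F Q :=
  theta_map_le p he ⟨θ, hθ, rfl⟩

theorem inn_le_theta (p : ℕ) [Fact p.Prime] (hS : IsPGroup p S) (F : FusionSystem S) {P : Subgroup Ω}
    (hP : P ≤ S) : Inn P ≤ theta p F P := by
  apply le_theta
  · rintro _ ⟨x, rfl⟩
    apply Fusion.autInducedBy_le_autGroup F hP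
    rw [mem_autInducedBy_iff]
    exact ⟨x.1, hP x.2, fun y => rfl⟩
  · have hPp : IsPGroup p P := hS.to_le hP
    exact hPp.of_surjective (MulAut.conj : P →* MulAut P).rangeRestrict
      (MonoidHom.rangeRestrict_surjective _)
  · rintro α _ _ ⟨x, rfl⟩
    refine ⟨α x, ?_⟩
    ext y
    simp [MulAut.conj_apply]

/-! ### The preimage `Q̂(P)` of `O_p(Aut_F(P))` in `N_S(P)` -/

/-- `Q̂(P)`: the elements of `N_S(P)` inducing on `P` an element of `O_p(Aut_F(P))`. -/
def qhat (p : ℕ) (F : FusionSystem S) (P : Subgroup Ω) : Subgroup Ω where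
  carrier := {g | g ∈ normalizerIn S P ∧
    ∃ θ ∈ theta p F P, ∀ x : P, ((θ x : P) : Ω) = g * x * g⁻¹}
  one_mem' := ⟨Subgroup.one_mem _, 1, Subgroup.one_mem _, fun x => by simp⟩
  mul_mem' := by
    rintro g h ⟨hg, θ, hθ, hgθ⟩ ⟨hh, θ', hθ', hhθ⟩
    refine ⟨Subgroup.mul_mem _ hg hh, θ * θ', Subgroup.mul_mem _ hθ hθ', fun x => ?_⟩
    rw [MulAut.mul_apply, hgθ, hhθ]
    group
  inv_mem' := by
    rintro g ⟨hg, θ, hθ, hgθ⟩
    refine ⟨Subgroup.inv_mem _ hg, θ⁻¹, Subgroup.inv_mem _ hθ, fun x => ?_⟩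
    have := hgθ (θ⁻¹ x)
    rw [MulAut.apply_inv_self] at this
    rw [this]
    group

theorem mem_qhat_iff (p : ℕ) (F : FusionSystem S) (P : Subgroup Ω) (g : Ω) :
    g ∈ qhat p F P ↔ g ∈ normalizerIn S P ∧
      ∃ θ ∈ theta p F P, ∀ x : P, ((θ x : P) : Ω) = g * x * g⁻¹ := Iff.rfl

theorem qhat_le_normalizerIn (p : ℕ) (F : FusionSystem S) (P : Subgroup Ω) :
    qhat p F P ≤ normalizerIn S P := fun _ h => h.1

theorem le_qhat (p : ℕ) [Fact p.Prime] (hS : IsPGroup p S) (F : FusionSystem S) {P : Subgroup Ω}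
    (hP : P ≤ S) : P ≤ qhat p F P := by
  intro g hg
  refine ⟨Fusion.le_normalizerIn hP hg, MulAut.conj ⟨g, hg⟩,
    inn_le_theta p hS F hP ⟨⟨g, hg⟩, rfl⟩, fun x => ?_⟩
  simp [MulAut.conj_apply]

theorem centralizerIn_le_qhat (p : ℕ) (F : FusionSystem S) (P : Subgroup Ω) :
    centralizerIn S P ≤ qhat p F P := by
  intro g hg
  refine ⟨Subgroup.mem_inf.mpr ⟨hg.1, Subgroup.centralizer_le_normalizer _ hg.2⟩, 1,
    Subgroup.one_mem _, fun x => ?_⟩
  have := hg.2 x x.2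
  rw [MulAut.one_apply, ← this]
  group

theorem conjAut_mem_autGroup (F : FusionSystem S) {P : Subgroup Ω} (hP : P ≤ S) {n : Ω}
    (hn : n ∈ normalizerIn S P) :
    conjAut P n (Subgroup.mem_inf.mp hn).2 ∈ F.autGroup P := by
  apply Fusion.autInducedBy_le_autGroup F hP
  rw [mem_autInducedBy_iff]
  exact ⟨n, (Subgroup.mem_inf.mp hn).1, fun y => rfl⟩

/-- `Q̂(P)` is normal in `N_S(P)`. -/
theorem normalizerIn_le_normalizer_qhat (p : ℕ) (F : FusionSystem S) {P : Subgroup Ω}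
    (hP : P ≤ S) : normalizerIn S P ≤ Subgroup.normalizer ((qhat p F P : Subgroup Ω) : Set Ω) := by
  have key : ∀ n ∈ normalizerIn S P, ∀ g ∈ qhat p F P, n * g * n⁻¹ ∈ qhat p F P := by
    rintro n hn g ⟨hg, θ, hθ, hgθ⟩
    refine ⟨Subgroup.mul_mem _ (Subgroup.mul_mem _ hn hg) (Subgroup.inv_mem _ hn), ?_⟩
    set c := conjAut P n (Subgroup.mem_inf.mp hn).2 with hc
    refine ⟨c * θ * c⁻¹, theta_conj_mem p F P (conjAut_mem_autGroup F hP hn) hθ, fun x => ?_⟩
    rw [MulAut.mul_apply, MulAut.mul_apply, hc, conjAut_apply, hgθ]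
    have h1 : (((conjAut P n (Subgroup.mem_inf.mp hn).2)⁻¹ x : P) : Ω) = n⁻¹ * x * n := rfl
    rw [h1]
    group
  intro n hn
  apply mem_normalizer_of_conj_mem
  · exact key n hn
  · intro g hg
    have := key n⁻¹ (Subgroup.inv_mem _ hn) g hg
    simpa using this

/-- Transport of `Q̂` along a map of the system defined on a subgroup of `N_S(P)` containing `P`. -/
theorem map_mem_qhat (p : ℕ) [Fact p.Prime] (F : FusionSystem S) {N P : Subgroup Ω} {ψ : N →* Ω}
    (hψ : ψ ∈ F.Hom N) (hPN : P ≤ N) (hN : N ≤ normalizerIn S P) (g : N)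
    (hg : (g : Ω) ∈ qhat p F P) : ψ g ∈ qhat p F (img ψ P) := by
  obtain ⟨-, θ, hθ, hgθ⟩ := hg
  refine ⟨map_mem_normalizerIn_img F hψ hN g, ?_⟩
  have hres := Fusion.restrict_mem F hψ hPN
  set e := Fusion.equivOfRange (ψ.comp (Subgroup.inclusion hPN)) (F.injective_of_mem hres)
    (range_restrict ψ hPN) with he
  have hiso : IsIso F e := IsIso.of_hom hres (range_restrict ψ hPN)
  refine ⟨MulAut.congr e θ, theta_congr_mem p hiso hθ, fun y => ?_⟩
  have h1 : ((MulAut.congr e θ y : ↥(img ψ P)) : Ω) = ψ (Subgroup.inclusion hPN (θ (e.symm y))) := rfl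
  have h2 : ψ (Subgroup.inclusion hPN (e.symm y)) = y :=
    Fusion.map_equivOfRange_symm (ψ.comp (Subgroup.inclusion hPN)) (F.injective_of_mem hres)
      (range_restrict ψ hPN) y
  have h3 : Subgroup.inclusion hPN (θ (e.symm y)) =
      g * Subgroup.inclusion hPN (e.symm y) * g⁻¹ := by
    apply Subtype.ext
    exact hgθ (e.symm y)
  rw [h1, h3, map_mul, map_mul, map_inv, h2]

end Cfsg.Agent.Helper6.Bcglo
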