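import Mathlib
import Cfsg.Agent.Helper6.BcgloA

set_option autoImplicit false

/-!
Pairs `(P,Q)` with `P` in the class under study and `P < Q ≤ N_S(P)`; good pairs; existence of
good pairs and extension of isomorphisms onto good pairs (S5110).
-/

namespace Cfsg.Agent.Helper6.Bcglo

open Cfsg Cfsg.FusionSystem Cfsg.Agent.Lead

variable {Ω : Type*} [Group Ω] {S : Subgroup Ω}

/-- Hypotheses of the inductive step of the saturation criterion. -/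
structure Step (p : ℕ) (F : FusionSystem S) (ℋ : Set (Subgroup Ω)) (P₀ : Subgroup Ω) : Prop where
  hS : IsPGroup p S
  sub : ∀ P ∈ ℋ, P ≤ S
  conj : ∀ P ∈ ℋ, ∀ Q, F.IsConj P Q → Q ∈ ℋ
  sat : ∀ P ∈ ℋ, ∃ Q, F.IsConj P Q ∧ F.IsFullyAutomized p Q ∧ F.IsReceptive Q
  gen : ∀ E : FusionSystem S, (∀ P ∈ ℋ, F.Hom P ⊆ E.Hom P) → F ≤ E
  le : P₀ ≤ S
  nmem : P₀ ∉ ℋ
  big : ∀ Q : Subgroup Ω, Q ≤ S → Nat.card P₀ < Nat.card Q → Q ∈ ℋ

/-- `(P,Q)` is a pair: `P` is in the class of `P₀` and `P < Q ≤ N_S(P)`. -/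
def IsPair (F : FusionSystem S) (P₀ P Q : Subgroup Ω) : Prop :=
  F.IsConj P₀ P ∧ P ≤ Q ∧ Q ≤ normalizerIn S P ∧ Nat.card P < Nat.card Q

/-- `N(P,Q) = N_S(P) ∩ N_S(Q)`. -/
def npair (S P Q : Subgroup Ω) : Subgroup Ω := normalizerIn S P ⊓ normalizerIn S Q

/-- `T(P,Q) = A(P,Q) ∩ Aut_S(Q)`. -/
def tsub (F : FusionSystem S) (P Q : Subgroup Ω) : Subgroup (MulAut Q) :=
  stab F P Q ⊓ autInducedBy S Q

/-- `(P,Q)` is a good pair. -/
def IsGood (p : ℕ) (F : FusionSystem S) (P₀ P Q : Subgroup Ω) : Prop :=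
  IsPair F P₀ P Q ∧ F.IsFullyAutomized p Q ∧ F.IsReceptive Q ∧
    Nat.card (tsub F P Q) = p ^ (Nat.card (stab F P Q)).factorization p

theorem IsPair.le_S {F : FusionSystem S} {P₀ P Q : Subgroup Ω} (h : IsPair F P₀ P Q) : Q ≤ S :=
  h.2.2.1.trans inf_le_left

theorem IsPair.src_le_S {F : FusionSystem S} {P₀ P Q : Subgroup Ω} (h : IsPair F P₀ P Q) : P ≤ S :=
  h.2.1.trans h.le_S

theorem IsPair.mem {p : ℕ} {F : FusionSystem S} {ℋ : Set (Subgroup Ω)} {P₀ P Q : Subgroup Ω}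
    (st : Step p F ℋ P₀) (h : IsPair F P₀ P Q) : Q ∈ ℋ := by
  apply st.big Q h.le_S
  rw [Fusion.card_eq_of_isConj F h.1]
  exact h.2.2.2

theorem IsPair.le_npair {F : FusionSystem S} {P₀ P Q : Subgroup Ω} (h : IsPair F P₀ P Q) :
    Q ≤ npair S P Q := le_inf h.2.2.1 (Fusion.le_normalizerIn h.le_S)

theorem npair_le_S (P Q : Subgroup Ω) : npair S P Q ≤ S := inf_le_left.trans inf_le_left

theorem mem_tsub_iff (F : FusionSystem S) {P Q : Subgroup Ω} (hPQ : P ≤ Q) (hQS : Q ≤ S)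
    (α : MulAut Q) : α ∈ tsub F P Q ↔
      ∃ g ∈ npair S P Q, ∀ x : Q, ((α x : Q) : Ω) = g * x * g⁻¹ := by
  constructor
  · rintro ⟨hα1, hα2⟩
    obtain ⟨g, hgS, hg⟩ := (mem_autInducedBy_iff S Q α).mp hα2
    have hgQ : g ∈ Subgroup.normalizer (Q : Set Ω) := mem_normalizer_of_conj_eq_aut Q α g hg
    refine ⟨g, Subgroup.mem_inf.mpr ⟨Subgroup.mem_inf.mpr ⟨hgS, ?_⟩,
      Subgroup.mem_inf.mpr ⟨hgS, hgQ⟩⟩, hg⟩
    rw [Subgroup.mem_normalizer_iff]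
    intro x
    constructor
    · intro hx
      have := (hα1.2 ⟨x, hPQ hx⟩).mp hx
      rwa [hg] at this
    · intro hx
      have hxQ : x ∈ Q := (Subgroup.mem_normalizer_iff.mp hgQ x).mpr (hPQ hx)
      apply (hα1.2 ⟨x, hxQ⟩).mpr
      rw [hg]
      exact hx
  · rintro ⟨g, hg, hgα⟩
    have hgS : g ∈ S := (npair_le_S P Q) hg
    have hα2 : α ∈ autInducedBy S Q := (mem_autInducedBy_iff S Q α).mpr ⟨g, hgS, hgα⟩
    refine ⟨⟨Fusion.autInducedBy_le_autGroup F hQS hα2, fun x => ?_⟩, hα2⟩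
    rw [hgα]
    exact Subgroup.mem_normalizer_iff.mp (Subgroup.mem_inf.mp (Subgroup.mem_inf.mp hg).1).2 x

theorem isPGroup_tsub (p : ℕ) (hS : IsPGroup p S) (F : FusionSystem S) (P Q : Subgroup Ω) :
    IsPGroup p (tsub F P Q) :=
  (Fusion.isPGroup_autInducedBy p hS Q).to_le inf_le_right

/-- For an isomorphism `e` induced by `φ` with `φ(P) = P'`. -/
theorem equiv_mem_iff (F : FusionSystem S) {Q Q' P P' : Subgroup Ω} {φ : Q →* Ω}
    (hφ : φ ∈ F.Hom Q) (hr : φ.range = Q') (hP : img φ P = P') (x : Q) :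
    (x : Ω) ∈ P ↔ ((Fusion.equivOfRange φ (F.injective_of_mem hφ) hr x : Q') : Ω) ∈ P' := by
  rw [Fusion.equivOfRange_coe, ← hP, map_mem_img_iff φ (F.injective_of_mem hφ)]

/-- The image of a pair under a map of the system is a pair. -/
theorem IsPair.img {F : FusionSystem S} {P₀ P Q : Subgroup Ω} (h : IsPair F P₀ P Q) {φ : Q →* Ω}
    (hφ : φ ∈ F.Hom Q) : IsPair F P₀ (img φ P) φ.range := by
  refine ⟨Fusion.isConj_trans F h.1 (isConj_img F hφ h.2.1), img_le_range φ P, ?_, ?_⟩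
  · rintro _ ⟨x, rfl⟩
    exact map_mem_normalizerIn_img F hφ h.2.2.1 x
  · rw [card_img φ (F.injective_of_mem hφ) h.2.1]
    have : Nat.card φ.range = Nat.card Q :=
      (Nat.card_congr (MonoidHom.ofInjective (F.injective_of_mem hφ)).toEquiv).symm
    rw [this]
    exact h.2.2.2

/-- Conjugating the stabilizer. -/
theorem stab_conj (F : FusionSystem S) {P₁ P' Q : Subgroup Ω} {γ : MulAut Q}
    (hγ : γ ∈ F.autGroup Q) (hkey : ∀ y : Q, (y : Ω) ∈ P₁ ↔ ((γ y : Q) : Ω) ∈ P') :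
    stab F P' Q = (stab F P₁ Q).map (MulAut.conj γ).toMonoidHom := by
  ext α
  constructor
  · rintro ⟨hα1, hα2⟩
    refine ⟨γ⁻¹ * α * γ, ⟨?_, fun y => ?_⟩, ?_⟩
    · exact Subgroup.mul_mem _ (Subgroup.mul_mem _ (Subgroup.inv_mem _ hγ) hα1) hγ
    · rw [hkey y, hα2 (γ y), hkey ((γ⁻¹ * α * γ) y)]
      simp [MulAut.mul_apply]
    · simp [MulAut.conj_apply, mul_assoc]
  · rintro ⟨β, ⟨hβ1, hβ2⟩, rfl⟩
    refine ⟨?_, fun x => ?_⟩
    · simp only [MulEquiv.coe_toMonoidHom, MulAut.conj_apply]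
      exact Subgroup.mul_mem _ (Subgroup.mul_mem _ hγ hβ1) (Subgroup.inv_mem _ hγ)
    · have h1 : x = γ (γ⁻¹ x) := by simp
      have h2 := hkey (γ⁻¹ x)
      rw [← h1] at h2
      rw [← h2, hβ2 (γ⁻¹ x), hkey (β (γ⁻¹ x))]
      simp [MulAut.conj_apply, MulAut.mul_apply]

/-- **G1**: every pair is isomorphic to a good pair. -/
theorem exists_good [Finite S] {p : ℕ} [Fact p.Prime] {F : FusionSystem S}
    {ℋ : Set (Subgroup Ω)} {P₀ : Subgroup Ω} (st : Step p F ℋ P₀) {P Q : Subgroup Ω}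
    (hpair : IsPair F P₀ P Q) :
    ∃ (P' Q' : Subgroup Ω) (φ : Q →* Ω), IsGood p F P₀ P' Q' ∧ φ ∈ F.Hom Q ∧ φ.range = Q' ∧
      img φ P = P' := by
  obtain ⟨Q₀, ⟨φ₀, hφ₀, hr₀⟩, hFA, hRec⟩ := st.sat Q (hpair.mem st)
  have hQ₀S : Q₀ ≤ S := hFA.1
  haveI : Finite Q₀ := Fusion.finite_of_le hQ₀S
  obtain ⟨R, hR⟩ := hFA.2
  have hle : autInducedBy S Q₀ ≤ F.autGroup Q₀ := Fusion.autInducedBy_le_autGroup F hQ₀S
  have hcardS : Nat.card (autInducedBy S Q₀) = p ^ (Nat.card (F.autGroup Q₀)).factorization p := by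
    rw [← R.card_eq_multiplicity, ← card_subgroupOf_of_le hle, ← hR]
  obtain ⟨U, -, hU1, hUp, hUcard⟩ := exists_le_card_eq_ppart (p := p) (H := stab F (img φ₀ P) Q₀)
    (U := ⊥) (IsPGroup.of_bot) bot_le
  obtain ⟨γ, hγ, hγU⟩ := exists_conj_le_of_card_eq_ppart (p := p) hle hcardS
    (hU1.trans (stab_le F (img φ₀ P) Q₀)) hUp
  have hγ' := (Fusion.mem_autGroup_iff F hQ₀S γ).mp hγ
  have hφ₀Q₀ : ∀ x : Q, φ₀ x ∈ Q₀ := fun x => hr₀ ▸ ⟨x, rfl⟩
  set φ : Q →* Ω := (Q₀.subtype.comp γ.toMonoidHom).comp (φ₀.codRestrict Q₀ hφ₀Q₀) with hφdef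
  have hφ : φ ∈ F.Hom Q := F.comp_mem hφ₀ hγ' hφ₀Q₀
  have hφx : ∀ x : Q, φ x = ((γ ⟨φ₀ x, hφ₀Q₀ x⟩ : Q₀) : Ω) := fun x => rfl
  have hφr : φ.range = Q₀ := by
    ext y
    constructor
    · rintro ⟨x, rfl⟩
      rw [hφx]
      exact (γ _).2
    · intro hy
      have h1 : ((γ⁻¹ ⟨y, hy⟩ : Q₀) : Ω) ∈ φ₀.range := by
        rw [hr₀]
        exact (γ⁻¹ ⟨y, hy⟩).2
      obtain ⟨x, hx⟩ := h1
      refine ⟨x, ?_⟩
      rw [hφx]
      have h2 : (⟨φ₀ x, hφ₀Q₀ x⟩ : Q₀) = γ⁻¹ ⟨y, hy⟩ := Subtype.ext hx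
      rw [h2]
      simp
  have hkey : ∀ y : Q₀, (y : Ω) ∈ img φ₀ P ↔ ((γ y : Q₀) : Ω) ∈ img φ P := by
    intro y
    rw [mem_img, mem_img]
    constructor
    · rintro ⟨x, hx, hxy⟩
      refine ⟨x, hx, ?_⟩
      rw [hφx]
      have h2 : (⟨φ₀ x, hφ₀Q₀ x⟩ : Q₀) = y := Subtype.ext hxy
      rw [h2]
    · rintro ⟨x, hx, hxy⟩
      refine ⟨x, hx, ?_⟩
      rw [hφx] at hxy
      have h2 : γ ⟨φ₀ x, hφ₀Q₀ x⟩ = γ y := Subtype.ext hxy
      have h3 := γ.injective h2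
      exact congrArg (fun w : Q₀ => (w : Ω)) h3
  have hstab := stab_conj F hγ hkey
  refine ⟨img φ P, Q₀, φ, ⟨?_, hFA, hRec, ?_⟩, hφ, hφr, rfl⟩
  · have := hpair.img hφ
    rwa [hφr] at this
  · have hcardstab : Nat.card (stab F (img φ P) Q₀) = Nat.card (stab F (img φ₀ P) Q₀) := by
      rw [hstab, card_map_conj]
    have hU' : U.map (MulAut.conj γ).toMonoidHom ≤ tsub F (img φ P) Q₀ := by
      apply le_inf _ hγU
      rw [hstab]
      exact Subgroup.map_mono hU1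
    have h1 : Nat.card (U.map (MulAut.conj γ).toMonoidHom) ≤ Nat.card (tsub F (img φ P) Q₀) :=
      Subgroup.card_le_of_le hU'
    rw [card_map_conj, hUcard, ← hcardstab] at h1
    have h2 : Nat.card (tsub F (img φ P) Q₀) ≤
        p ^ (Nat.card (stab F (img φ P) Q₀)).factorization p :=
      card_le_ppart_of_isPGroup (isPGroup_tsub p st.hS F _ _) inf_le_left
    omega

/-- **G2**: an isomorphism of pairs onto a good pair extends, after composing with an element of the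
stabilizer, to `N(P,Q)`. -/
theorem exists_extension [Finite S] {p : ℕ} [Fact p.Prime] {F : FusionSystem S}
    {ℋ : Set (Subgroup Ω)} {P₀ : Subgroup Ω} (st : Step p F ℋ P₀) {P Q P' Q' : Subgroup Ω}
    (hpair : IsPair F P₀ P Q) (hgood : IsGood p F P₀ P' Q') {φ : Q →* Ω} (hφ : φ ∈ F.Hom Q)
    (hr : φ.range = Q') (hP : img φ P = P') :
    ∃ δ ∈ stab F P' Q', ∃ ε ∈ F.Hom (npair S P Q),
      ∀ (x : Q) (h : φ x ∈ Q'), ε (Subgroup.inclusion hpair.le_npair x) = ((δ ⟨φ x, h⟩ : Q') : Ω) := by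
  obtain ⟨hpair', hFA, hRec, hcard⟩ := hgood
  have hQS : Q ≤ S := hpair.le_S
  have hQ'S : Q' ≤ S := hFA.1
  haveI : Finite Q' := Fusion.finite_of_le hQ'S
  set e := Fusion.equivOfRange φ (F.injective_of_mem hφ) hr with he
  have hiso : IsIso F e := IsIso.of_hom hφ hr
  have hemem : ∀ x : Q, (x : Ω) ∈ P ↔ ((e x : Q') : Ω) ∈ P' := equiv_mem_iff F hφ hr hP
  set X : Subgroup (MulAut Q') :=
    ((npair S P Q).subgroupOf (Subgroup.normalizer (Q : Set Ω))).map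
      ((MulAut.congr e).toMonoidHom.comp (conjAutHom Q)) with hXdef
  have hX : IsPGroup p X := ((st.hS.to_le (npair_le_S P Q)).comap_subtype).map _
  have hXstab : X ≤ stab F P' Q' := by
    rintro _ ⟨n, hn, rfl⟩
    rw [SetLike.mem_coe, Subgroup.mem_subgroupOf] at hn
    have hnQ : n.1 ∈ normalizerIn S Q := (Subgroup.mem_inf.mp hn).2
    have hnP : n.1 ∈ Subgroup.normalizer (P : Set Ω) :=
      (Subgroup.mem_inf.mp (Subgroup.mem_inf.mp hn).1).2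
    refine ⟨hiso.congr_mem (conjAut_mem_autGroup F hQS hnQ), fun y => ?_⟩
    have h1 : ((MulAut.congr e).toMonoidHom.comp (conjAutHom Q)) n y =
        e (conjAutHom Q n (e.symm y)) := rfl
    rw [h1, ← hemem]
    have h2 : (((conjAutHom Q n) (e.symm y) : Q) : Ω) = n.1 * (e.symm y : Q) * n.1⁻¹ := rfl
    rw [h2, ← Subgroup.mem_normalizer_iff.mp hnP, hemem, MulEquiv.apply_symm_apply]
  obtain ⟨δ, hδ, hδX⟩ := exists_conj_le_of_card_eq_ppart (p := p)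
    (inf_le_left : tsub F P' Q' ≤ stab F P' Q') hcard hXstab hX
  have hδ' := (Fusion.mem_autGroup_iff F hQ'S δ).mp hδ.1
  set ψ : Q →* Ω := (Q'.subtype.comp δ.toMonoidHom).comp e.toMonoidHom with hψdef
  have hψ : ψ ∈ F.Hom Q := hiso.comp_hom hδ'
  have hψx : ∀ x : Q, ψ x = ((δ (e x) : Q') : Ω) := fun x => rfl
  have hψr : ψ.range = Q' := by
    ext y
    constructor
    · rintro ⟨x, rfl⟩
      rw [hψx]
      exact (δ (e x)).2
    · intro hy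
      refine ⟨e.symm (δ.symm ⟨y, hy⟩), ?_⟩
      rw [hψx]
      simp
  have hle : npair S P Q ≤ extender S Q ψ := by
    intro g hg
    apply Subgroup.subset_closure
    have hgS : g ∈ S := npair_le_S P Q hg
    have hgN : g ∈ Subgroup.normalizer (Q : Set Ω) := (Subgroup.mem_inf.mp (Subgroup.mem_inf.mp hg).2).2
    refine ⟨hgS, hgN, ?_⟩
    set n : Subgroup.normalizer (Q : Set Ω) := ⟨g, hgN⟩ with hn
    set β : MulAut Q' := MulAut.congr e (conjAutHom Q n) with hβ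
    have hβX : β ∈ X := by
      refine ⟨n, ?_, rfl⟩
      rw [SetLike.mem_coe, Subgroup.mem_subgroupOf]
      exact hg
    have h1 : (MulAut.conj δ) β ∈ autInducedBy S Q' := (hδX ⟨β, hβX, rfl⟩).2
    rw [mem_autInducedBy_iff] at h1
    obtain ⟨h, hhS, hh⟩ := h1
    refine ⟨h, hhS, ?_⟩
    intro x hx
    have h2 := hh (δ (e x))
    rw [hψx, hψx, ← h2]
    rw [MulAut.conj_apply]
    simp only [MulAut.mul_apply, MulAut.inv_apply_self]
    rw [hβ]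
    simp only [MulAut.congr_apply, MulEquiv.trans_apply, MulEquiv.symm_apply_apply]
    rfl
  obtain ⟨ψ', hψ', hext⟩ := hRec.2 Q ψ hψ hψr
  refine ⟨δ, hδ, ψ'.comp (Subgroup.inclusion hle), Fusion.restrict_mem F hψ' hle, fun x h => ?_⟩
  have h3 := hext x.1 x.2 (hle (hpair.le_npair x.2))
  have h4 : (ψ'.comp (Subgroup.inclusion hle)) (Subgroup.inclusion hpair.le_npair x) =
      ψ' ⟨x.1, hle (hpair.le_npair x.2)⟩ := rfl
  rw [h4, h3]
  rfl

/-- Properties of the extension produced by `exists_extension`. -/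
theorem extension_props {F : FusionSystem S} {P₀ P Q P' Q' : Subgroup Ω}
    (hpair : IsPair F P₀ P Q) {φ : Q →* Ω} (hφ : φ ∈ F.Hom Q) (hr : φ.range = Q')
    (hP : img φ P = P') {δ : MulAut Q'} (hδ : δ ∈ stab F P' Q') {ε : ↥(npair S P Q) →* Ω}
    (hε : ε ∈ F.Hom (npair S P Q))
    (hext : ∀ (x : Q) (h : φ x ∈ Q'),
      ε (Subgroup.inclusion hpair.le_npair x) = ((δ ⟨φ x, h⟩ : Q') : Ω)) :
    img ε Q = Q' ∧ img ε P = P' ∧ ∀ x, ε x ∈ npair S P' Q' := by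
  have hφQ' : ∀ x : Q, φ x ∈ Q' := fun x => hr ▸ ⟨x, rfl⟩
  have hP'Q' : P' ≤ Q' := by
    rw [← hP, ← hr]
    exact img_le_range φ P
  have hQ : img ε Q = Q' := by
    ext y
    rw [mem_img]
    constructor
    · rintro ⟨x, hx, rfl⟩
      have := hext ⟨x.1, hx⟩ (hφQ' _)
      have h1 : Subgroup.inclusion hpair.le_npair ⟨x.1, hx⟩ = x := Subtype.ext rfl
      rw [h1] at this
      rw [this]
      exact (δ _).2
    · intro hy
      have h1 : ((δ⁻¹ ⟨y, hy⟩ : Q') : Ω) ∈ φ.range := by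
        rw [hr]
        exact (δ⁻¹ ⟨y, hy⟩).2
      obtain ⟨x, hx⟩ := h1
      refine ⟨Subgroup.inclusion hpair.le_npair x, x.2, ?_⟩
      rw [hext x (hφQ' x)]
      have h2 : (⟨φ x, hφQ' x⟩ : Q') = δ⁻¹ ⟨y, hy⟩ := Subtype.ext hx
      rw [h2]
      simp
  have hPP : img ε P = P' := by
    ext y
    rw [mem_img]
    constructor
    · rintro ⟨x, hx, rfl⟩
      have hxQ : (x : Ω) ∈ Q := hpair.2.1 hx
      have := hext ⟨x.1, hxQ⟩ (hφQ' _)
      have h1 : Subgroup.inclusion hpair.le_npair ⟨x.1, hxQ⟩ = x := Subtype.ext rfl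
      rw [h1] at this
      rw [this]
      apply (hδ.2 _).mp
      show φ ⟨x.1, hxQ⟩ ∈ P'
      rw [← hP]
      exact map_mem_img φ _ hx
    · intro hy
      have hyQ : y ∈ Q' := hP'Q' hy
      have h0 : ((δ⁻¹ ⟨y, hyQ⟩ : Q') : Ω) ∈ P' := by
        apply (hδ.2 _).mpr
        simpa using hy
      rw [← hP, mem_img] at h0
      obtain ⟨x, hxP, hx⟩ := h0
      refine ⟨Subgroup.inclusion hpair.le_npair x, hxP, ?_⟩
      rw [hext x (hφQ' x)]
      have h2 : (⟨φ x, hφQ' x⟩ : Q') = δ⁻¹ ⟨y, hyQ⟩ := Subtype.ext hx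
      rw [h2]
      simp
  refine ⟨hQ, hPP, fun x => ?_⟩
  have h1 := map_mem_normalizerIn_img F hε (inf_le_left : npair S P Q ≤ normalizerIn S P) x
  have h2 := map_mem_normalizerIn_img F hε (inf_le_right : npair S P Q ≤ normalizerIn S Q) x
  rw [hPP] at h1
  rw [hQ] at h2
  exact Subgroup.mem_inf.mpr ⟨h1, h2⟩

end Cfsg.Agent.Helper6.Bcglo
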