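import Mathlib
import Cfsg.Agent.Helper6.BcgloB

set_option autoImplicit false

/-!
The "generation trick" for the saturation criterion (S5110): a property of maps between members of
the class which holds for restrictions of maps defined on pairs holds for all maps.
-/

namespace Cfsg.Agent.Helper6.Bcglo

open Cfsg Cfsg.FusionSystem Cfsg.Agent.Lead

variable {Ω : Type*} [Group Ω] {S : Subgroup Ω}

theorem img_comp {Q Q' : Subgroup Ω} (φ : Q →* Ω) (ψ : Q' →* Ω) (h : ∀ x : Q, φ x ∈ Q')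
    (R : Subgroup Ω) : img (ψ.comp (φ.codRestrict Q' h)) R = img ψ (img φ R) := by
  ext y
  rw [mem_img, mem_img]
  constructor
  · rintro ⟨x, hx, rfl⟩
    exact ⟨⟨φ x, h x⟩, map_mem_img φ x hx, rfl⟩
  · rintro ⟨z, hz, rfl⟩
    obtain ⟨x, hx, hxz⟩ := (mem_img φ R _).mp hz
    refine ⟨x, hx, ?_⟩
    show ψ ⟨φ x, h x⟩ = ψ z
    congr 1
    exact Subtype.ext hxz

theorem range_comp_of_range {Q Q' : Subgroup Ω} (φ : Q →* Ω) (ψ : Q' →* Ω) (h : ∀ x : Q, φ x ∈ Q')
    (hr : φ.range = Q') : (ψ.comp (φ.codRestrict Q' h)).range = ψ.range := by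
  rw [← img_of_ge _ (le_refl Q), img_comp, img_of_ge φ (le_refl Q), hr, img_of_ge ψ (le_refl Q')]

theorem img_inv {Q Q' : Subgroup Ω} (φ : Q →* Ω) (ψ : Q' →* Ω)
    (hinv : ∀ (x : Q) (h : φ x ∈ Q'), ψ ⟨φ x, h⟩ = (x : Ω)) (hr : φ.range = Q') {R : Subgroup Ω}
    (hR : R ≤ Q) : img ψ (img φ R) = R := by
  ext y
  rw [mem_img]
  constructor
  · rintro ⟨z, hz, rfl⟩
    obtain ⟨x, hx, hxz⟩ := (mem_img φ R _).mp hz
    have h1 : φ x ∈ Q' := hxz ▸ z.2
    have h2 : z = ⟨φ x, h1⟩ := Subtype.ext hxz.symm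
    rw [h2, hinv x h1]
    exact hx
  · intro hy
    have h1 : φ ⟨y, hR hy⟩ ∈ Q' := hr ▸ ⟨_, rfl⟩
    exact ⟨⟨φ ⟨y, hR hy⟩, h1⟩, map_mem_img φ _ hy, hinv _ h1⟩

theorem comp_inclusion_refl {Q : Subgroup Ω} (φ : Q →* Ω) :
    φ.comp (Subgroup.inclusion (le_refl Q)) = φ := by
  ext x
  rfl

/-- The generation trick: a family of maps of the system between members of the class of `P₀`,
closed under composition and inverses and containing the restrictions of all maps defined on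
pairs, contains every map of the system whose source is in the class. -/
theorem etrick [Finite S] {p : ℕ} [Fact p.Prime] {F : FusionSystem S} {ℋ : Set (Subgroup Ω)}
    {P₀ : Subgroup Ω} (st : Step p F ℋ P₀) (hne : P₀ ≠ S)
    (G : (P : Subgroup Ω) → Set (P →* Ω))
    (hcomp : ∀ {P : Subgroup Ω} {φ : P →* Ω} {ψ : φ.range →* Ω}, F.IsConj P₀ P → φ ∈ F.Hom P →
      φ ∈ G P → ψ ∈ G φ.range → ψ.comp (φ.codRestrict φ.range (fun x => ⟨x, rfl⟩)) ∈ G P)
    (hinv : ∀ {P : Subgroup Ω} {φ : P →* Ω}, F.IsConj P₀ P → φ ∈ F.Hom P → φ ∈ G P →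
      ∃ ψ ∈ G φ.range, ∀ x : P, ψ ⟨φ x, ⟨x, rfl⟩⟩ = (x : Ω))
    (hbase : ∀ (P Q : Subgroup Ω) (hpair : IsPair F P₀ P Q) (φ : Q →* Ω), φ ∈ F.Hom Q →
      φ.comp (Subgroup.inclusion hpair.2.1) ∈ G P) :
    ∀ (P : Subgroup Ω), F.IsConj P₀ P → ∀ φ ∈ F.Hom P, φ ∈ G P := by
  have hC : ∀ P P' : Subgroup Ω, F.IsConj P₀ P → F.IsConj P P' → F.IsConj P₀ P' :=
    fun P P' h h' => Fusion.isConj_trans F h h'
  have hcardlt : ∀ P : Subgroup Ω, F.IsConj P₀ P → Nat.card P < Nat.card S := by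
    intro P hP
    rw [← Fusion.card_eq_of_isConj F hP]
    apply card_lt_of_lt
    exact lt_of_le_of_ne st.le hne
  have hpairN : ∀ P : Subgroup Ω, F.IsConj P₀ P → IsPair F P₀ P (normalizerIn S P) := by
    intro P hP
    have hPS : P ≤ S := Fusion.isConj_tgt_le F hP
    refine ⟨hP, Fusion.le_normalizerIn hPS, le_refl _, ?_⟩
    apply Fusion.card_lt_card_normalizerIn st.hS hPS
    intro h
    have := hcardlt P hP
    rw [h] at this
    exact lt_irrefl _ this
  let 𝓖 : Fusion.Groupoid F (fun P => F.IsConj P₀ P) :=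
    { G := G
      conj := by
        intro P g hP hPS hg
        have h1 := hbase P (normalizerIn S P) (hpairN P hP) (conjHom (normalizerIn S P) g)
          (F.conj_mem inf_le_left hg)
        exact h1
      comp := hcomp
      inv := hinv }
  have hle : F ≤ Fusion.filterSysG F (fun P => F.IsConj P₀ P) hC 𝓖 := by
    apply st.gen
    intro R hR φ hφ
    rw [Fusion.mem_filterSysG]
    refine ⟨hφ, fun P hPR hP => ?_⟩
    have hRS : R ≤ S := st.sub R hR
    haveI : Finite R := Fusion.finite_of_le hRS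
    have hPneR : P ≠ R := by
      rintro rfl
      exact st.nmem (st.conj _ hR _ (Fusion.isConj_symm F hP))
    have hpair : IsPair F P₀ P (normalizerIn R P) := by
      refine ⟨hP, Fusion.le_normalizerIn hPR, ?_, ?_⟩
      · exact inf_le_inf_right _ hRS
      · exact Fusion.card_lt_card_normalizerIn (st.hS.to_le hRS) hPR hPneR
    have hQR : normalizerIn R P ≤ R := inf_le_left
    have h1 := hbase P (normalizerIn R P) hpair (φ.comp (Subgroup.inclusion hQR))
      (Fusion.restrict_mem F hφ hQR)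
    exact h1
  intro P hP φ hφ
  have h1 := hle P hφ
  rw [Fusion.mem_filterSysG] at h1
  have h2 := h1.2 P (le_refl P) hP
  rwa [comp_inclusion_refl] at h2

/-- A property of subgroups preserved by maps defined on pairs is constant on the class. -/
theorem class_prop [Finite S] {p : ℕ} [Fact p.Prime] {F : FusionSystem S} {ℋ : Set (Subgroup Ω)}
    {P₀ : Subgroup Ω} (st : Step p F ℋ P₀) (hne : P₀ ≠ S) (good : Subgroup Ω → Prop)
    (hbase : ∀ (P Q : Subgroup Ω), IsPair F P₀ P Q → ∀ φ ∈ F.Hom Q, (good P ↔ good (img φ P))) :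
    ∀ P P' : Subgroup Ω, F.IsConj P₀ P → F.IsConj P P' → (good P ↔ good P') := by
  have key := etrick st hne (fun P => {φ | φ ∈ F.Hom P ∧ (good P ↔ good φ.range)})
    (by
      rintro P φ ψ hP hφ ⟨-, h1⟩ ⟨hψ, h2⟩
      refine ⟨F.comp_mem hφ hψ _, ?_⟩
      have h3 := range_comp_of_range φ ψ (fun x => ⟨x, rfl⟩) rfl
      have h4 : good ψ.range ↔
          good (ψ.comp (φ.codRestrict φ.range (fun x => ⟨x, rfl⟩))).range := by
        rw [h3]
      exact (h1.trans h2).trans h4)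
    (by
      rintro P φ hP hφ ⟨-, h1⟩
      obtain ⟨ψ, hψ, hinv, hr⟩ := Fusion.exists_inv F hφ rfl
      refine ⟨ψ, ⟨hψ, ?_⟩, fun x => hinv x _⟩
      rw [hr]
      exact h1.symm)
    (by
      intro P Q hpair φ hφ
      refine ⟨Fusion.restrict_mem F hφ hpair.2.1, ?_⟩
      rw [range_restrict]
      exact hbase P Q hpair φ hφ)
  rintro P P' hP ⟨φ, hφ, rfl⟩
  exact (key P hP φ hφ).2

end Cfsg.Agent.Helper6.Bcglo
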