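import Mathlib
import Cfsg.Agent.Helper6.BcgloC

set_option autoImplicit false

/-!
Lemma A for the saturation criterion (S5110): every member `P` of the class admits a map
`N_S(P) → N_S(P̂)` of the system carrying `P` onto a fully normalized member `P̂`.
-/

namespace Cfsg.Agent.Helper6.Bcglo

open Cfsg Cfsg.FusionSystem Cfsg.Agent.Lead

variable {Ω : Type*} [Group Ω] {S : Subgroup Ω}

/-- Some map of the system on `N_S(P)` carries `P` onto `Phat`. -/
def LeHat (F : FusionSystem S) (P Phat : Subgroup Ω) : Prop :=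
  ∃ ψ ∈ F.Hom (normalizerIn S P), img ψ P = Phat

/-- `Phat` is a fully normalized member of the class of `P₀`. -/
def IsTop (F : FusionSystem S) (P₀ Phat : Subgroup Ω) : Prop :=
  F.IsConj P₀ Phat ∧ ∀ P : Subgroup Ω, F.IsConj P₀ P →
    Nat.card (normalizerIn S P) ≤ Nat.card (normalizerIn S Phat)

theorem card_le_card_S [Finite S] {X : Subgroup Ω} (h : X ≤ S) : Nat.card X ≤ Nat.card S :=
  Subgroup.card_le_of_le h

theorem card_lt_card_npair [Finite S] {p : ℕ} [Fact p.Prime] (hS : IsPGroup p S) {P Q : Subgroup Ω}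
    (hQ : Q ≤ normalizerIn S P) (hne : Q ≠ normalizerIn S P) :
    Nat.card Q < Nat.card (npair S P Q) := by
  haveI : Finite (normalizerIn S P) := Fusion.finite_of_le (inf_le_left : normalizerIn S P ≤ S)
  haveI : Finite (npair S P Q) := Fusion.finite_of_le (npair_le_S P Q)
  have h1 := Fusion.card_lt_card_normalizerIn (S := normalizerIn S P) (hS.to_le inf_le_left) hQ hne
  have h2 : normalizerIn (normalizerIn S P) Q ≤ npair S P Q := by
    intro x hx
    exact Subgroup.mem_inf.mpr ⟨hx.1, Subgroup.mem_inf.mpr ⟨hx.1.1, hx.2⟩⟩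
  exact lt_of_lt_of_le h1 (Subgroup.card_le_of_le h2)

theorem card_range_eq (F : FusionSystem S) {Q : Subgroup Ω} {φ : Q →* Ω} (hφ : φ ∈ F.Hom Q) :
    Nat.card φ.range = Nat.card Q :=
  (Nat.card_congr (MonoidHom.ofInjective (F.injective_of_mem hφ)).toEquiv).symm

/-- No "bad triples". -/
theorem leHat_of_triple [Finite S] {p : ℕ} [Fact p.Prime] {F : FusionSystem S}
    {ℋ : Set (Subgroup Ω)} {P₀ Phat : Subgroup Ω} (st : Step p F ℋ P₀) (htop : IsTop F P₀ Phat) :
    ∀ (n : ℕ) (P Q : Subgroup Ω), IsPair F P₀ P Q → Nat.card S - Nat.card Q = n →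
      ∀ ψ ∈ F.Hom Q, img ψ P = Phat → LeHat F P Phat := by
  intro n
  induction n using Nat.strong_induction_on with
  | _ n ih =>
  intro P Q hpair hn ψ hψ hψP
  by_cases hQ : Q = normalizerIn S P
  · subst hQ
    exact ⟨ψ, hψ, hψP⟩
  have hQS := hpair.le_S
  have hcardQlt : Nat.card Q < Nat.card (npair S P Q) := card_lt_card_npair st.hS hpair.2.2.1 hQ
  have hpairN : IsPair F P₀ P (npair S P Q) :=
    ⟨hpair.1, hpair.2.1.trans hpair.le_npair, inf_le_left, lt_trans hpair.2.2.2 hcardQlt⟩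
  obtain ⟨P', Q', χ, hgood, hχ, hχr, hχP⟩ := exists_good st hpair
  obtain ⟨δ, hδ, ε, hε, hext⟩ := exists_extension st hpair hgood hχ hχr hχP
  obtain ⟨hεQ, hεP, hεN⟩ := extension_props hpair hχ hχr hχP hδ hε hext
  have hsub : LeHat F P' Phat := by
    have hpair₁ : IsPair F P₀ (img ψ P) ψ.range := hpair.img hψ
    rw [hψP] at hpair₁
    obtain ⟨ι₁, hι₁, hinv₁, hι₁r⟩ := Fusion.exists_inv F hψ rfl
    have hι₁Q : ∀ y : ψ.range, ι₁ y ∈ Q := fun y => (le_of_eq hι₁r) ⟨y, rfl⟩
    set θ : ψ.range →* Ω := χ.comp (ι₁.codRestrict Q hι₁Q) with hθdef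
    have hθ : θ ∈ F.Hom ψ.range := F.comp_mem hι₁ hχ hι₁Q
    have hθr : θ.range = Q' := by
      rw [hθdef, range_comp_of_range ι₁ χ hι₁Q hι₁r]
      exact hχr
    have hθP : img θ Phat = P' := by
      rw [hθdef, img_comp, ← hψP, img_inv ψ ι₁ hinv₁ rfl hpair.2.1]
      exact hχP
    obtain ⟨δ₁, hδ₁, ε₁, hε₁, hext₁⟩ := exists_extension st hpair₁ hgood hθ hθr hθP
    obtain ⟨hε₁Q, hε₁P, hε₁N⟩ := extension_props hpair₁ hθ hθr hθP hδ₁ hε₁ hext₁
    obtain ⟨κ, hκ, hinvκ, hκr⟩ := Fusion.exists_inv F hε₁ rfl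
    have hcardlt₁ : Nat.card Phat < Nat.card (npair S Phat ψ.range) :=
      lt_of_lt_of_le hpair₁.2.2.2 (by
        haveI : Finite (npair S Phat ψ.range) := Fusion.finite_of_le (npair_le_S _ _)
        exact Subgroup.card_le_of_le hpair₁.le_npair)
    have hpairN₁ : IsPair F P₀ Phat (npair S Phat ψ.range) :=
      ⟨hpair₁.1, hpair₁.2.1.trans hpair₁.le_npair, inf_le_left, hcardlt₁⟩
    have hpairM : IsPair F P₀ P' ε₁.range := by
      have := hpairN₁.img hε₁
      rwa [hε₁P] at this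
    have hκP : img κ P' = Phat := by
      rw [← hε₁P]
      exact img_inv ε₁ κ hinvκ rfl hpairN₁.2.1
    have hcard1 : Nat.card ε₁.range = Nat.card (npair S Phat ψ.range) := card_range_eq F hε₁
    have hcard2 : Nat.card ψ.range = Nat.card Q := card_range_eq F hψ
    by_cases hM : Nat.card Q < Nat.card ε₁.range
    · have hle1 : Nat.card ε₁.range ≤ Nat.card S := card_le_card_S (Fusion.range_le F hε₁)
      exact ih (Nat.card S - Nat.card ε₁.range) (by omega) P' ε₁.range hpairM rfl κ hκ hκP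
    · exfalso
      have hQ₁ : ψ.range = normalizerIn S Phat := by
        by_contra hne
        have := card_lt_card_npair st.hS hpair₁.2.2.1 hne
        omega
      have h1 : Nat.card (normalizerIn S P) ≤ Nat.card (normalizerIn S Phat) := htop.2 P hpair.1
      have h2 : Nat.card Q < Nat.card (normalizerIn S P) := by
        haveI : Finite (normalizerIn S P) := Fusion.finite_of_le (inf_le_left : normalizerIn S P ≤ S)
        apply card_lt_of_lt
        exact lt_of_le_of_ne hpair.2.2.1 hQ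
      rw [← hQ₁, hcard2] at h1
      omega
  obtain ⟨ψ', hψ', hψ'P⟩ := hsub
  have hεN' : ∀ x, ε x ∈ normalizerIn S P' := fun x => (Subgroup.mem_inf.mp (hεN x)).1
  have hle1 : Nat.card (npair S P Q) ≤ Nat.card S := card_le_card_S (npair_le_S P Q)
  refine ih (Nat.card S - Nat.card (npair S P Q)) (by omega) P (npair S P Q) hpairN rfl
    (ψ'.comp (ε.codRestrict _ hεN')) (F.comp_mem hε hψ' hεN') ?_
  rw [img_comp, hεP]
  exact hψ'P

theorem img_subtype {N R : Subgroup Ω} (h : R ≤ N) : img N.subtype R = R := by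
  ext y
  rw [mem_img]
  constructor
  · rintro ⟨x, hx, rfl⟩
    exact hx
  · intro hy
    exact ⟨⟨y, h hy⟩, hy, rfl⟩

theorem img_restrict {Q Q₂ R : Subgroup Ω} (φ : Q →* Ω) (h : Q₂ ≤ Q) (hR : R ≤ Q₂) :
    img (φ.comp (Subgroup.inclusion h)) R = img φ R := by
  ext y
  rw [mem_img, mem_img]
  constructor
  · rintro ⟨x, hx, rfl⟩
    exact ⟨Subgroup.inclusion h x, hx, rfl⟩
  · rintro ⟨x, hx, rfl⟩
    exact ⟨⟨x.1, hR hx⟩, hx, rfl⟩

/-- **Lemma A**: every member of the class maps onto a fully normalized member, normalizer to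
normalizer. -/
theorem leHat_all [Finite S] {p : ℕ} [Fact p.Prime] {F : FusionSystem S}
    {ℋ : Set (Subgroup Ω)} {P₀ Phat : Subgroup Ω} (st : Step p F ℋ P₀) (hne : P₀ ≠ S)
    (htop : IsTop F P₀ Phat) : ∀ P : Subgroup Ω, F.IsConj P₀ P → LeHat F P Phat := by
  have hPhatS : Phat ≤ S := Fusion.isConj_tgt_le F htop.1
  have key := class_prop st hne (fun P => LeHat F P Phat) (by
    intro P Q hpair φ hφ
    have hφN : ∀ x : Q, φ x ∈ normalizerIn S (img φ P) :=
      fun x => map_mem_normalizerIn_img F hφ hpair.2.2.1 x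
    constructor
    · rintro ⟨ψ, hψ, hψP⟩
      obtain ⟨ι, hι, hinv, hιr⟩ := Fusion.exists_inv F hφ rfl
      have hιQ : ∀ y : φ.range, ι y ∈ Q := fun y => (le_of_eq hιr) ⟨y, rfl⟩
      have hψQ := Fusion.restrict_mem F hψ hpair.2.2.1
      refine leHat_of_triple st htop _ (img φ P) φ.range (hpair.img hφ) rfl
        ((ψ.comp (Subgroup.inclusion hpair.2.2.1)).comp (ι.codRestrict Q hιQ))
        (F.comp_mem hι hψQ hιQ) ?_
      rw [img_comp, img_inv φ ι hinv rfl hpair.2.1, img_restrict ψ hpair.2.2.1 hpair.2.1]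
      exact hψP
    · rintro ⟨ψ₂, hψ₂, hψ₂P⟩
      refine leHat_of_triple st htop _ P Q hpair rfl (ψ₂.comp (φ.codRestrict _ hφN))
        (F.comp_mem hφ hψ₂ hφN) ?_
      rw [img_comp]
      exact hψ₂P)
  intro P hP
  have h1 : LeHat F Phat Phat :=
    ⟨(normalizerIn S Phat).subtype, Fusion.subtype_mem F inf_le_left,
      img_subtype (Fusion.le_normalizerIn hPhatS)⟩
  exact (key Phat P htop.1 (Fusion.isConj_trans F (Fusion.isConj_symm F htop.1) hP)).mp h1

end Cfsg.Agent.Helper6.Bcglo
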