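import Mathlib
import Cfsg.Agent.Helper6.BcgloD

set_option autoImplicit false

/-!
Saturation criterion (S5110): the subgroup `Q̂(P̂)` is strictly larger than `P̂` for a fully
normalized `P̂`, and `P̂` can be chosen so that `(P̂, Q̂(P̂))` is a good pair.
-/

namespace Cfsg.Agent.Helper6.Bcglo

open Cfsg Cfsg.FusionSystem Cfsg.Agent.Lead

variable {Ω : Type*} [Group Ω] {S : Subgroup Ω}

/-- The extra hypothesis on centric subgroups outside the family. -/
def StarHyp (p : ℕ) (F : FusionSystem S) (P₀ : Subgroup Ω) : Prop :=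
  F.IsCentric P₀ → ∃ Q, F.IsConj P₀ Q ∧
    ¬ (autInducedBy S Q ⊓ (pCore p ↥(F.autGroup Q)).map (F.autGroup Q).subtype ≤ Inn Q)

theorem exists_isTop [Finite S] (F : FusionSystem S) {P₀ : Subgroup Ω} (hP₀ : P₀ ≤ S) :
    ∃ Phat, IsTop F P₀ Phat := by
  obtain ⟨Q, hQ, -, hmax⟩ := Fusion.exists_isConj_fullyNormalized F hP₀
  exact ⟨Q, hQ, fun P hP => hmax P (Fusion.isConj_trans F (Fusion.isConj_symm F hQ) hP)⟩

theorem autInducedBy_self_le_inn : autInducedBy S S ≤ Inn S := by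
  intro α hα
  obtain ⟨g, hg, hgα⟩ := (mem_autInducedBy_iff S S α).mp hα
  refine ⟨⟨g, hg⟩, ?_⟩
  ext x
  rw [hgα]
  simp [MulAut.conj_apply]

theorem ne_top_of_starHyp [Finite S] {p : ℕ} {F : FusionSystem S} {P₀ : Subgroup Ω}
    (hstar : StarHyp p F P₀) : P₀ ≠ S := by
  intro h
  have h' := h.symm
  subst h'
  have hc : F.IsCentric S := by
    refine ⟨le_refl S, fun Q hQ => ?_⟩
    rw [Fusion.isConj_top_eq F hQ]
    exact inf_le_left
  obtain ⟨Q, hQ, hn⟩ := hstar hc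
  have hQS : Q = S := Fusion.isConj_top_eq F hQ
  subst hQS
  exact hn (inf_le_left.trans autInducedBy_self_le_inn)

/-- Some member of the class has `Q̂(P) ≠ P`. -/
theorem exists_qhat_not_mem [Finite S] {p : ℕ} [Fact p.Prime] {F : FusionSystem S}
    {P₀ : Subgroup Ω} (hP₀ : P₀ ≤ S) (hstar : StarHyp p F P₀) :
    ∃ P₁, F.IsConj P₀ P₁ ∧ ∃ g ∈ qhat p F P₁, g ∉ P₁ := by
  by_cases hc : F.IsCentric P₀
  · obtain ⟨P₁, hP₁, hn⟩ := hstar hc
    refine ⟨P₁, hP₁, ?_⟩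
    rw [SetLike.not_le_iff_exists] at hn
    obtain ⟨α, hα, hαInn⟩ := hn
    obtain ⟨g, hgS, hgα⟩ := (mem_autInducedBy_iff S P₁ α).mp hα.1
    have hgN : g ∈ Subgroup.normalizer (P₁ : Set Ω) := mem_normalizer_of_conj_eq_aut P₁ α g hgα
    refine ⟨g, ⟨Subgroup.mem_inf.mpr ⟨hgS, hgN⟩, α, hα.2, hgα⟩, fun hgP => ?_⟩
    apply hαInn
    refine ⟨⟨g, hgP⟩, ?_⟩
    ext x
    rw [hgα]
    simp [MulAut.conj_apply]
  · unfold FusionSystem.IsCentric at hc
    push Not at hc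
    obtain ⟨P₁, hP₁, hn⟩ := hc hP₀
    rw [SetLike.not_le_iff_exists] at hn
    obtain ⟨g, hg, hgP⟩ := hn
    exact ⟨P₁, hP₁, g, centralizerIn_le_qhat p F P₁ hg, hgP⟩

/-- **(K)**: for a fully normalized `P̂`, `Q̂(P̂) ≠ P̂`. -/
theorem exists_qhat_top_not_mem [Finite S] {p : ℕ} [Fact p.Prime] {F : FusionSystem S}
    {ℋ : Set (Subgroup Ω)} {P₀ Phat : Subgroup Ω} (st : Step p F ℋ P₀) (hstar : StarHyp p F P₀)
    (htop : IsTop F P₀ Phat) : ∃ h ∈ qhat p F Phat, h ∉ Phat := by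
  obtain ⟨P₁, hP₁, g, hg, hgP⟩ := exists_qhat_not_mem (p := p) st.le hstar
  obtain ⟨ψ, hψ, hψP⟩ := leHat_all st (ne_top_of_starHyp hstar) htop P₁ hP₁
  have hP₁S : P₁ ≤ S := Fusion.isConj_tgt_le F hP₁
  have hgN : g ∈ normalizerIn S P₁ := qhat_le_normalizerIn p F P₁ hg
  have h1 := map_mem_qhat p F hψ (Fusion.le_normalizerIn hP₁S) (le_refl _) ⟨g, hgN⟩ hg
  rw [hψP] at h1
  refine ⟨ψ ⟨g, hgN⟩, h1, fun h2 => ?_⟩
  rw [← hψP, map_mem_img_iff ψ (F.injective_of_mem hψ)] at h2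
  exact hgP h2

theorem isPair_qhat [Finite S] {p : ℕ} [Fact p.Prime] {F : FusionSystem S}
    {ℋ : Set (Subgroup Ω)} {P₀ Phat : Subgroup Ω} (st : Step p F ℋ P₀) (hstar : StarHyp p F P₀)
    (htop : IsTop F P₀ Phat) : IsPair F P₀ Phat (qhat p F Phat) := by
  have hPS : Phat ≤ S := Fusion.isConj_tgt_le F htop.1
  obtain ⟨h, hh, hhP⟩ := exists_qhat_top_not_mem st hstar htop
  refine ⟨htop.1, le_qhat p st.hS F hPS, qhat_le_normalizerIn p F Phat, ?_⟩
  haveI : Finite (qhat p F Phat) :=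
    Fusion.finite_of_le ((qhat_le_normalizerIn p F Phat).trans inf_le_left)
  apply card_lt_of_lt
  refine lt_of_le_of_ne (le_qhat p st.hS F hPS) ?_
  intro heq
  apply hhP
  rw [heq]
  exact hh

theorem npair_qhat (p : ℕ) (F : FusionSystem S) {P : Subgroup Ω} (hP : P ≤ S) :
    npair S P (qhat p F P) = normalizerIn S P := by
  apply le_antisymm inf_le_left
  intro x hx
  exact Subgroup.mem_inf.mpr ⟨hx, Subgroup.mem_inf.mpr ⟨hx.1, normalizerIn_le_normalizer_qhat p F hP hx⟩⟩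

/-- The fully normalized member can be chosen with `(P̂, Q̂(P̂))` a good pair. -/
theorem exists_top_good [Finite S] {p : ℕ} [Fact p.Prime] {F : FusionSystem S}
    {ℋ : Set (Subgroup Ω)} {P₀ : Subgroup Ω} (st : Step p F ℋ P₀) (hstar : StarHyp p F P₀) :
    ∃ Phat, IsTop F P₀ Phat ∧ IsGood p F P₀ Phat (qhat p F Phat) := by
  obtain ⟨Phat₀, htop₀⟩ := exists_isTop F st.le
  have hpair₀ := isPair_qhat st hstar htop₀
  have hP₀S : Phat₀ ≤ S := Fusion.isConj_tgt_le F htop₀.1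
  obtain ⟨P', Q', χ, hgood, hχ, hχr, hχP⟩ := exists_good st hpair₀
  obtain ⟨δ, hδ, ε, hε, hext⟩ := exists_extension st hpair₀ hgood hχ hχr hχP
  obtain ⟨hεQ, hεP, hεN⟩ := extension_props hpair₀ hχ hχr hχP hδ hε hext
  have hnp : npair S Phat₀ (qhat p F Phat₀) = normalizerIn S Phat₀ := npair_qhat p F hP₀S
  have hrle : ε.range ≤ normalizerIn S P' := by
    rintro _ ⟨x, rfl⟩
    exact (Subgroup.mem_inf.mp (hεN x)).1
  have hcardr : Nat.card ε.range = Nat.card (normalizerIn S Phat₀) := by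
    rw [card_range_eq F hε, hnp]
  haveI : Finite (normalizerIn S P') := Fusion.finite_of_le (inf_le_left : normalizerIn S P' ≤ S)
  have hP'conj : F.IsConj P₀ P' := hgood.1.1
  have htop' : IsTop F P₀ P' := by
    refine ⟨hP'conj, fun P hP => ?_⟩
    calc Nat.card (normalizerIn S P) ≤ Nat.card (normalizerIn S Phat₀) := htop₀.2 P hP
      _ = Nat.card ε.range := hcardr.symm
      _ ≤ Nat.card (normalizerIn S P') := Subgroup.card_le_of_le hrle
  have hrange : ε.range = normalizerIn S P' := by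
    apply Subgroup.eq_of_le_of_card_ge hrle
    rw [hcardr]
    exact htop₀.2 P' hP'conj
  have hPN : Phat₀ ≤ npair S Phat₀ (qhat p F Phat₀) := hpair₀.2.1.trans hpair₀.le_npair
  have hQ' : Q' = qhat p F P' := by
    apply le_antisymm
    · intro y hy
      rw [← hεQ, mem_img] at hy
      obtain ⟨x, hx, rfl⟩ := hy
      have := map_mem_qhat p F hε hPN inf_le_left x hx
      rwa [hεP] at this
    · intro y hy
      have hyN : y ∈ normalizerIn S P' := qhat_le_normalizerIn p F P' hy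
      have hyr : y ∈ ε.range := by
        rw [hrange]
        exact hyN
      obtain ⟨κ, hκ, hinvκ, hκr⟩ := Fusion.exists_inv F hε rfl
      have hκP : img κ P' = Phat₀ := by
        rw [← hεP]
        exact img_inv ε κ hinvκ rfl hPN
      have hP'r : P' ≤ ε.range := by
        rw [← hεP]
        exact img_le_range ε Phat₀
      have h1 := map_mem_qhat p F hκ hP'r hrle ⟨y, hyr⟩ hy
      rw [hκP] at h1
      obtain ⟨x, rfl⟩ := hyr
      rw [hinvκ x ⟨x, rfl⟩] at h1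
      rw [← hεQ]
      exact map_mem_img ε x h1
  subst hQ'
  exact ⟨P', htop', hgood⟩

end Cfsg.Agent.Helper6.Bcglo
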