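import Mathlib
import Cfsg.Agent.Helper6.BcgloE

set_option autoImplicit false

/-!
Saturation criterion (S5110), stage 1 preparations: a Frattini decomposition, the group `A₁` of
automorphisms of `P̂` extending to `Q̂`, and the two cases of the downward induction.
-/

namespace Cfsg.Agent.Helper6.Bcglo

open Cfsg Cfsg.FusionSystem Cfsg.Agent.Lead

/-- Frattini decomposition relative to a homomorphism `ρ` and a `p`-subgroup `Θ` of the target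
normalized by the image: every element is the product of an element of the kernel and an element
normalizing `T ∩ ρ⁻¹(Θ)`, `T` a Sylow `p`-subgroup. -/
theorem frattini_decomp {G H : Type*} [Group G] [Finite G] [Group H] {p : ℕ} [Fact p.Prime]
    (ρ : G →* H) (Θ : Subgroup H) (hΘ : IsPGroup p Θ)
    (hnorm : ∀ g : G, ∀ θ ∈ Θ, ρ g * θ * (ρ g)⁻¹ ∈ Θ) (T : Sylow p G) (g : G) :
    ∃ d ∈ ρ.ker, ∃ ν ∈ Subgroup.normalizer ((((T : Subgroup G) ⊓ Θ.comap ρ : Subgroup G)) : Set G),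
      g = d * ν := by
  set N : Subgroup G := Θ.comap ρ with hN
  haveI hNn : N.Normal := ⟨fun n hn g => by
    show ρ (g * n * g⁻¹) ∈ Θ
    rw [map_mul, map_mul, map_inv]
    exact hnorm g _ hn⟩
  have hTcard : Nat.card (T : Subgroup G) = p ^ (Nat.card (⊤ : Subgroup G)).factorization p := by
    rw [Subgroup.card_top]
    exact T.card_eq_multiplicity
  have hUcard : Nat.card ↥((T : Subgroup G) ⊓ N) = p ^ (Nat.card N).factorization p :=
    card_inf_eq_ppart_of_normal (p := p) (A := (T : Subgroup G)) (C := N) (N := ⊤) le_top le_top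
      (by rw [Subgroup.normalizer_eq_top]) T.isPGroup' hTcard
  have hUcard' : Nat.card (((T : Subgroup G) ⊓ N).subgroupOf N) = p ^ (Nat.card N).factorization p := by
    rw [card_subgroupOf_of_le inf_le_right]
    exact hUcard
  set U : Sylow p N := Sylow.ofCard _ hUcard' with hU
  have hUmap : (U : Subgroup N).map N.subtype = (T : Subgroup G) ⊓ N := by
    rw [hU, Sylow.coe_ofCard, Subgroup.subgroupOf_map_subtype, inf_assoc, inf_idem]
  have hfrat := Sylow.normalizer_sup_eq_top U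
  rw [hUmap] at hfrat
  have hg : g ∈ Subgroup.normalizer ((((T : Subgroup G) ⊓ N : Subgroup G)) : Set G) ⊔ N := by
    rw [hfrat]
    trivial
  obtain ⟨ν₀, hν₀, n, hn, rfl⟩ := Subgroup.mem_sup_of_normal_right.mp hg
  have hclaim : ∀ n ∈ N, ∃ u ∈ (T : Subgroup G) ⊓ N, ρ u = ρ n := by
    intro n hn
    set f : N →* H := ρ.comp N.subtype with hf
    have hfr : f.range ≤ Θ := by
      rintro _ ⟨x, rfl⟩
      exact x.2
    have hfp : IsPGroup p f.range := hΘ.to_le hfr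
    have hsurj : Function.Surjective f.rangeRestrict := MonoidHom.rangeRestrict_surjective f
    have h1 := (U.mapSurjective hsurj).is_maximal' (hfp.to_subgroup ⊤) le_top
    have h2 : f.rangeRestrict ⟨n, hn⟩ ∈
        ((U.mapSurjective hsurj : Sylow p f.range) : Subgroup f.range) := by
      rw [← h1]
      trivial
    rw [Sylow.coe_mapSurjective] at h2
    obtain ⟨u, hu, hun⟩ := h2
    refine ⟨u.1, ?_, ?_⟩
    · rw [← hUmap]
      exact ⟨u, hu, rfl⟩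
    · exact congrArg (fun y : f.range => (y : H)) hun
  have hn' : ν₀ * n * ν₀⁻¹ ∈ N := hNn.conj_mem n hn ν₀
  obtain ⟨u, hu, hρ⟩ := hclaim _ hn'
  refine ⟨ν₀ * n * ν₀⁻¹ * u⁻¹, ?_, u * ν₀, ?_, by group⟩
  · rw [MonoidHom.mem_ker, map_mul, map_inv, hρ]
    simp
  · exact Subgroup.mul_mem _ (Subgroup.le_normalizer hu) hν₀

variable {Ω : Type*} [Group Ω] {S : Subgroup Ω}

/-- The two maps `β, β'` defined on `Q` differ on `P` by an element of `A ≤ Aut(Phat)`. -/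
def TwinOn {Phat : Subgroup Ω} (A : Subgroup (MulAut Phat)) (P : Subgroup Ω) {Q : Subgroup Ω}
    (β β' : Q →* Ω) : Prop :=
  ∃ μ ∈ A, ∀ (x : Q), (x : Ω) ∈ P → ∀ (h : β x ∈ Phat), ((μ ⟨β x, h⟩ : Phat) : Ω) = β' x

/-- `A₁`: the automorphisms of `Phat` which extend to an automorphism of `Qhat` in the system. -/
def aone (F : FusionSystem S) {Phat Qhat : Subgroup Ω} (h : Phat ≤ Qhat) :
    Subgroup (MulAut Phat) := (stabRes F h).range

theorem stabRes_mem_autGroup (F : FusionSystem S) {P Q : Subgroup Ω} (hPQ : P ≤ Q) (hQS : Q ≤ S)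
    (α : ↥(stab F P Q)) : stabRes F hPQ α ∈ F.autGroup P := by
  rw [Fusion.mem_autGroup_iff F (hPQ.trans hQS)]
  have h1 := (Fusion.mem_autGroup_iff F hQS α.1).mp α.2.1
  have h2 := Fusion.restrict_mem F h1 hPQ
  have h3 : P.subtype.comp (stabRes F hPQ α).toMonoidHom =
      (Q.subtype.comp (α.1).toMonoidHom).comp (Subgroup.inclusion hPQ) := by
    ext x
    rfl
  rw [h3]
  exact h2

/-- Case 1 of the downward induction: `Q̂ ≤ β(Q)`. -/
theorem twinOn_of_qhat_le [Finite S] {p : ℕ} [Fact p.Prime] {F : FusionSystem S}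
    {P₀ Phat P Q : Subgroup Ω} (hpair : IsPair F P₀ P Q) (hPQh : Phat ≤ qhat p F Phat)
    {β β' : Q →* Ω} (hβ : β ∈ F.Hom Q) (hβ' : β' ∈ F.Hom Q) (hβP : img β P = Phat)
    (hβ'P : img β' P = Phat) (hle : qhat p F Phat ≤ β.range) :
    TwinOn (aone F hPQh) P β β' := by
  have hQhS : qhat p F Phat ≤ S := (qhat_le_normalizerIn p F Phat).trans inf_le_left
  haveI : Finite (qhat p F Phat) := Fusion.finite_of_le hQhS
  obtain ⟨ι, hι, hinv, hιr⟩ := Fusion.exists_inv F hβ rfl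
  have hιQ : ∀ y : β.range, ι y ∈ Q := fun y => (le_of_eq hιr) ⟨y, rfl⟩
  have hPhat_r : Phat ≤ β.range := by
    rw [← hβP]
    exact img_le_range β P
  have hr_N : β.range ≤ normalizerIn S Phat := by
    rintro _ ⟨x, rfl⟩
    have := map_mem_normalizerIn_img F hβ hpair.2.2.1 x
    rwa [hβP] at this
  have hιP : img ι Phat = P := by
    rw [← hβP]
    exact img_inv β ι hinv rfl hpair.2.1
  have hιq := Fusion.restrict_mem F hι hle
  have hιqQ : ∀ y : ↥(qhat p F Phat), (ι.comp (Subgroup.inclusion hle)) y ∈ Q := fun y => hιQ _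
  set γ' : ↥(qhat p F Phat) →* Ω :=
    β'.comp ((ι.comp (Subgroup.inclusion hle)).codRestrict Q hιqQ) with hγ'def
  have hγ' : γ' ∈ F.Hom (qhat p F Phat) := F.comp_mem hιq hβ' hιqQ
  have hγ'x : ∀ y : ↥(qhat p F Phat), γ' y = β' ⟨ι ⟨y.1, hle y.2⟩, hιQ _⟩ := fun y => rfl
  have hγ'mem : ∀ y : ↥(qhat p F Phat), γ' y ∈ qhat p F Phat := by
    intro y
    have h1 := map_mem_qhat p F hι hPhat_r hr_N ⟨y.1, hle y.2⟩ y.2
    rw [hιP] at h1
    have h2 := map_mem_qhat p F hβ' hpair.2.1 hpair.2.2.1 ⟨ι ⟨y.1, hle y.2⟩, hιQ _⟩ h1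
    rw [hβ'P] at h2
    exact h2
  have hγ'r : γ'.range = qhat p F Phat := by
    apply Subgroup.eq_of_le_of_card_ge
    · rintro _ ⟨y, rfl⟩
      exact hγ'mem y
    · rw [card_range_eq F hγ']
  set γ : MulAut ↥(qhat p F Phat) :=
    Fusion.equivOfRange γ' (F.injective_of_mem hγ') hγ'r with hγdef
  have hγaut : γ ∈ F.autGroup (qhat p F Phat) :=
    (isIso_iff_mem_autGroup F hQhS γ).mp (IsIso.of_hom hγ' hγ'r)
  have hγstab : γ ∈ stab F Phat (qhat p F Phat) := by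
    apply mem_stab_of_maps F Phat (qhat p F Phat) γ hγaut
    intro y hy
    show γ' y ∈ Phat
    rw [hγ'x]
    have h1 : ι ⟨y.1, hle y.2⟩ ∈ P := (le_of_eq hιP) (map_mem_img ι _ hy)
    exact (le_of_eq hβ'P) (map_mem_img β' ⟨ι ⟨y.1, hle y.2⟩, hιQ _⟩ h1)
  refine ⟨stabRes F hPQh ⟨γ, hγstab⟩, ⟨_, rfl⟩, fun x hx h => ?_⟩
  rw [stabRes_apply]
  show γ' ⟨β x, _⟩ = β' x
  rw [hγ'x]
  congr 1
  apply Subtype.ext
  exact hinv x _

/-- Claim Ω: restrictions to `P'` of elements of `A(P',Q')`, transported to `Phat`, lie in `A`,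
provided the twin property holds for larger pairs and `Q̂(P') ∩ N(P',Q')` is not inside `Q'`. -/
theorem claim_omega [Finite S] {p : ℕ} [Fact p.Prime] {F : FusionSystem S} {P₀ Phat : Subgroup Ω}
    (A : Subgroup (MulAut Phat)) {P' Q' : Subgroup Ω} (hgood : IsGood p F P₀ P' Q')
    {ψ : ↥(normalizerIn S P') →* Ω} (hψ : ψ ∈ F.Hom (normalizerIn S P')) (hψP : img ψ P' = Phat)
    (IH : ∀ Q'' : Subgroup Ω, IsPair F P₀ P' Q'' → Nat.card Q' < Nat.card Q'' →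
      ∀ β₁ ∈ F.Hom Q'', ∀ β₂ ∈ F.Hom Q'', img β₁ P' = Phat → img β₂ P' = Phat → TwinOn A P' β₁ β₂)
    (hh : ∃ h' ∈ npair S P' Q' ⊓ qhat p F P', h' ∉ Q')
    {ω' : MulAut Q'} (hω' : ω' ∈ stab F P' Q') :
    ∃ μ ∈ A, ∀ (z : Q') (_ : (z : Ω) ∈ P') (hN : (z : Ω) ∈ normalizerIn S P')
      (hN' : ((ω' z : Q') : Ω) ∈ normalizerIn S P') (h : ψ ⟨z, hN⟩ ∈ Phat),
      ((μ ⟨ψ ⟨z, hN⟩, h⟩ : Phat) : Ω) = ψ ⟨ω' z, hN'⟩ := by
  obtain ⟨hpair', hFA, hRec, hcard⟩ := hgood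
  have hQ'S : Q' ≤ S := hFA.1
  have hP'Q' : P' ≤ Q' := hpair'.2.1
  have hQ'N : Q' ≤ normalizerIn S P' := hpair'.2.2.1
  haveI : Finite Q' := Fusion.finite_of_le hQ'S
  obtain ⟨T, hT⟩ := (exists_sylow_eq_subgroupOf_iff (p := p) (stab F P' Q') (tsub F P' Q')
    inf_le_left).mpr hcard
  have hnormΘ : ∀ g : ↥(stab F P' Q'), ∀ θ ∈ theta p F P',
      stabRes F hP'Q' g * θ * (stabRes F hP'Q' g)⁻¹ ∈ theta p F P' := fun g θ hθ =>
    theta_conj_mem p F P' (stabRes_mem_autGroup F hP'Q' hQ'S g) hθ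
  obtain ⟨d, hd, ν, hν, hων⟩ := frattini_decomp (stabRes F hP'Q') (theta p F P')
    (isPGroup_theta p F P') hnormΘ T ⟨ω', hω'⟩
  have hνt := (Fusion.mem_autGroup_iff F hQ'S ν.1).mp ν.2.1
  set νt : Q' →* Ω := Q'.subtype.comp (ν.1).toMonoidHom with hνtdef
  have hνtr : νt.range = Q' := range_subtype_comp ν.1
  have hLext : npair S P' Q' ⊓ qhat p F P' ≤ extender S Q' νt := by
    intro g hg
    apply Subgroup.subset_closure
    have hgnp : g ∈ npair S P' Q' := hg.1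
    have hgS : g ∈ S := npair_le_S _ _ hgnp
    have hgNQ : g ∈ normalizerIn S Q' := hgnp.2
    refine ⟨hgS, hgNQ.2, ?_⟩
    set c : MulAut Q' := conjAut Q' g hgNQ.2 with hc
    have hct : c ∈ tsub F P' Q' := (mem_tsub_iff F hP'Q' hQ'S c).mpr ⟨g, hgnp, fun x => rfl⟩
    set u : ↥(stab F P' Q') := ⟨c, hct.1⟩ with hu
    have huT : u ∈ (T : Subgroup ↥(stab F P' Q')) := by
      rw [hT, Subgroup.mem_subgroupOf]
      exact hct
    have huN : u ∈ (theta p F P').comap (stabRes F hP'Q') := by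
      obtain ⟨-, θ, hθ, hgθ⟩ := hg.2
      rw [Subgroup.mem_comap]
      have : stabRes F hP'Q' u = θ := by
        ext z
        rw [stabRes_apply, hgθ]
        rfl
      rw [this]
      exact hθ
    have h1 : ν * u * ν⁻¹ ∈ (T : Subgroup ↥(stab F P' Q')) ⊓ (theta p F P').comap (stabRes F hP'Q') :=
      (Subgroup.mem_normalizer_iff.mp hν u).mp ⟨huT, huN⟩
    have h2 : (ν * u * ν⁻¹).1 ∈ tsub F P' Q' := by
      have h1' : ν * u * ν⁻¹ ∈ (T : Subgroup ↥(stab F P' Q')) := h1.1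
      rw [hT] at h1'
      exact Subgroup.mem_subgroupOf.mp h1'
    obtain ⟨g', hg', hg'c⟩ := (mem_tsub_iff F hP'Q' hQ'S _).mp h2
    refine ⟨g', npair_le_S _ _ hg', fun x hx => ?_⟩
    have h3 := hg'c (ν.1 x)
    have h4' : ((ν * u * ν⁻¹ : ↥(stab F P' Q')) : MulAut Q') = ν.1 * c * (ν.1)⁻¹ := rfl
    have h4 : ((ν * u * ν⁻¹ : ↥(stab F P' Q')) : MulAut Q') (ν.1 x) = ν.1 (c x) := by
      rw [h4', MulAut.mul_apply, MulAut.mul_apply, MulAut.inv_apply_self]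
    rw [h4] at h3
    show ((ν.1 ⟨g * x * g⁻¹, hx⟩ : Q') : Ω) = g' * ((ν.1 x : Q') : Ω) * g'⁻¹
    rw [← h3]
    rfl
  obtain ⟨νb, hνb, hνbext⟩ := hRec.2 Q' νt hνt hνtr
  have hQ'ext : Q' ≤ extender S Q' νt :=
    Fusion.le_extender Q' hQ'S νt (fun x => hQ'S (ν.1 x).2)
  have hQ''ext : Q' ⊔ (npair S P' Q' ⊓ qhat p F P') ≤ extender S Q' νt := sup_le hQ'ext hLext
  have hQ''N : Q' ⊔ (npair S P' Q' ⊓ qhat p F P') ≤ normalizerIn S P' :=
    sup_le hQ'N (inf_le_left.trans inf_le_left)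
  have hQ''S : Q' ⊔ (npair S P' Q' ⊓ qhat p F P') ≤ S := hQ''N.trans inf_le_left
  haveI : Finite ↥(Q' ⊔ (npair S P' Q' ⊓ qhat p F P')) := Fusion.finite_of_le hQ''S
  have hQ'le : Q' ≤ Q' ⊔ (npair S P' Q' ⊓ qhat p F P') := le_sup_left
  have hLle : npair S P' Q' ⊓ qhat p F P' ≤ Q' ⊔ (npair S P' Q' ⊓ qhat p F P') := le_sup_right
  set ν₂ : ↥(Q' ⊔ (npair S P' Q' ⊓ qhat p F P')) →* Ω :=
    νb.comp (Subgroup.inclusion hQ''ext) with hν₂def
  have hν₂ : ν₂ ∈ F.Hom (Q' ⊔ (npair S P' Q' ⊓ qhat p F P')) := Fusion.restrict_mem F hνb hQ''ext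
  have hν₂Q' : ∀ x : Q', ν₂ ⟨x.1, hQ'le x.2⟩ = ((ν.1 x : Q') : Ω) :=
    fun x => hνbext x.1 x.2 _
  obtain ⟨h', hh'L, hh'Q'⟩ := hh
  have hlt : Nat.card Q' < Nat.card ↥(Q' ⊔ (npair S P' Q' ⊓ qhat p F P')) := by
    apply card_lt_of_lt
    refine lt_of_le_of_ne hQ'le (fun heq => hh'Q' ?_)
    rw [heq]
    exact hLle hh'L
  have hpair'' : IsPair F P₀ P' (Q' ⊔ (npair S P' Q' ⊓ qhat p F P')) :=
    ⟨hpair'.1, hP'Q'.trans hQ'le, hQ''N, lt_trans hpair'.2.2.2 hlt⟩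
  have hν₂P : img ν₂ P' = P' := by
    ext y
    rw [mem_img]
    constructor
    · rintro ⟨x, hx, rfl⟩
      have h1 := hν₂Q' ⟨x.1, hP'Q' hx⟩
      have h2 : (⟨x.1, hQ'le (hP'Q' hx)⟩ : ↥(Q' ⊔ (npair S P' Q' ⊓ qhat p F P'))) = x :=
        Subtype.ext rfl
      rw [h2] at h1
      rw [h1]
      exact (ν.2.2 _).mp hx
    · intro hy
      have h0 : ((ν.1⁻¹ ⟨y, hP'Q' hy⟩ : Q') : Ω) ∈ P' := by
        apply (ν.2.2 _).mpr
        simpa using hy
      refine ⟨⟨(ν.1⁻¹ ⟨y, hP'Q' hy⟩ : Q').1, hQ'le (ν.1⁻¹ ⟨y, hP'Q' hy⟩ : Q').2⟩, h0, ?_⟩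
      rw [hν₂Q' (ν.1⁻¹ ⟨y, hP'Q' hy⟩)]
      simp
  have hν₂N : ∀ x, ν₂ x ∈ normalizerIn S P' := by
    intro x
    have := map_mem_normalizerIn_img F hν₂ hQ''N x
    rwa [hν₂P] at this
  have hβ₁ := Fusion.restrict_mem F hψ hQ''N
  have hβ₂ := F.comp_mem hν₂ hψ hν₂N
  have hβ₁P : img (ψ.comp (Subgroup.inclusion hQ''N)) P' = Phat := by
    rw [img_restrict ψ hQ''N (hP'Q'.trans hQ'le)]
    exact hψP
  have hβ₂P : img (ψ.comp (ν₂.codRestrict _ hν₂N)) P' = Phat := by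
    rw [img_comp, hν₂P]
    exact hψP
  obtain ⟨μ, hμ, hμeq⟩ := IH _ hpair'' hlt _ hβ₁ _ hβ₂ hβ₁P hβ₂P
  refine ⟨μ, hμ, fun z hz hN hN' h => ?_⟩
  have h5 : ((μ ⟨ψ ⟨z, hN⟩, h⟩ : Phat) : Ω) =
      (ψ.comp (ν₂.codRestrict _ hν₂N)) ⟨z.1, hQ'le z.2⟩ := hμeq ⟨z.1, hQ'le z.2⟩ hz h
  rw [h5]
  show ψ ⟨ν₂ ⟨z.1, hQ'le z.2⟩, _⟩ = ψ ⟨ω' z, hN'⟩
  congr 1
  apply Subtype.ext
  show ν₂ ⟨z.1, hQ'le z.2⟩ = ((ω' z : Q') : Ω)
  rw [hν₂Q' z]
  have h6 : stabRes F hP'Q' ⟨ω', hω'⟩ = stabRes F hP'Q' ν := by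
    rw [hων, map_mul, MonoidHom.mem_ker.mp hd, one_mul]
  have h7 := congrArg (fun m : MulAut P' => ((m ⟨z.1, hz⟩ : P') : Ω)) h6
  simp only [stabRes_apply] at h7
  have h8 : Subgroup.inclusion hP'Q' ⟨z.1, hz⟩ = z := Subtype.ext rfl
  rw [h8] at h7
  exact h7.symm

end Cfsg.Agent.Helper6.Bcglo
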