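import Mathlib
import Cfsg.Agent.Helper6.BcgloF

set_option autoImplicit false

/-!
Saturation criterion (S5110), stage 1: any two maps of a pair `(P,Q)` onto `P̂` differ on `P` by an
element of `A₁`; consequently `Aut_F(P̂) = A₁`.
-/

namespace Cfsg.Agent.Helper6.Bcglo

open Cfsg Cfsg.FusionSystem Cfsg.Agent.Lead

variable {Ω : Type*} [Group Ω] {S : Subgroup Ω}

/-- In a finite `p`-group: if `Qh` is normalized by `N ≥ Q₁, Qh` and `Qh ≰ Q₁`, some element of `Qh`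
normalizes `Q₁` without lying in it. -/
theorem exists_mem_normalizer_not_mem [Finite S] {p : ℕ} [Fact p.Prime] (hS : IsPGroup p S)
    {Q₁ Qh N : Subgroup Ω} (hN : N ≤ S) (hQ₁ : Q₁ ≤ N) (hQh : Qh ≤ N)
    (hnorm : N ≤ Subgroup.normalizer (Qh : Set Ω)) (hnle : ¬ Qh ≤ Q₁) :
    ∃ h ∈ Qh, h ∈ Subgroup.normalizer (Q₁ : Set Ω) ∧ h ∉ Q₁ := by
  have hKS : Q₁ ⊔ Qh ≤ S := (sup_le hQ₁ hQh).trans hN
  haveI : Finite ↥(Q₁ ⊔ Qh) := Fusion.finite_of_le hKS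
  have hne : Q₁ ≠ Q₁ ⊔ Qh := by
    intro heq
    apply hnle
    rw [heq]
    exact le_sup_right
  obtain ⟨n, hn, hnQ₁⟩ := Fusion.exists_mem_normalizerIn_not_mem (S := Q₁ ⊔ Qh) (hS.to_le hKS)
    le_sup_left hne
  have hn' : n ∈ ((Q₁ ⊔ Qh : Subgroup Ω) : Set Ω) := hn.1
  rw [Subgroup.coe_mul_of_left_le_normalizer_right Q₁ Qh (hQ₁.trans hnorm)] at hn'
  obtain ⟨q₁, hq₁, q, hq, rfl⟩ := Set.mem_mul.mp hn'
  refine ⟨q, hq, ?_, fun hqQ₁ => hnQ₁ (Q₁.mul_mem hq₁ hqQ₁)⟩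
  have h1 : q = q₁⁻¹ * (q₁ * q) := by group
  rw [h1]
  exact Subgroup.mul_mem _ (Subgroup.inv_mem _ (Subgroup.le_normalizer hq₁)) hn.2

/-- Half of the argument in case 2: transport along a good pair. -/
theorem half_step [Finite S] {p : ℕ} [Fact p.Prime] {F : FusionSystem S} {ℋ : Set (Subgroup Ω)}
    {P₀ Phat : Subgroup Ω} (st : Step p F ℋ P₀) (A : Subgroup (MulAut Phat))
    {P Q P' Q' : Subgroup Ω} (hpair : IsPair F P₀ P Q) (hgood : IsGood p F P₀ P' Q')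
    {χ : Q →* Ω} (hχ : χ ∈ F.Hom Q) (hχr : χ.range = Q') (hχP : img χ P = P')
    {ψ : ↥(normalizerIn S P') →* Ω} (hψ : ψ ∈ F.Hom (normalizerIn S P')) (hψP : img ψ P' = Phat)
    {β : Q →* Ω} (hβ : β ∈ F.Hom Q) (hβP : img β P = Phat)
    (hβne : β.range ≠ normalizerIn S Phat)
    (IH : ∀ Q₂ : Subgroup Ω, IsPair F P₀ Phat Q₂ → Nat.card Q < Nat.card Q₂ →
      ∀ β₁ ∈ F.Hom Q₂, ∀ β₂ ∈ F.Hom Q₂, img β₁ Phat = Phat → img β₂ Phat = Phat →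
        TwinOn A Phat β₁ β₂) :
    ∃ δ ∈ stab F P' Q', ∃ ε ∈ F.Hom (npair S Phat β.range),
      img ε Phat = P' ∧ img ε β.range = Q' ∧ (∀ x, ε x ∈ npair S P' Q') ∧
      ∃ μ₁ ∈ A, ∀ (x : Q), (x : Ω) ∈ P → ∀ (h : β x ∈ Phat) (hQ' : χ x ∈ Q')
        (hN : ((δ ⟨χ x, hQ'⟩ : Q') : Ω) ∈ normalizerIn S P'),
        ((μ₁ ⟨β x, h⟩ : Phat) : Ω) = ψ ⟨δ ⟨χ x, hQ'⟩, hN⟩ := by
  have hpair₁ : IsPair F P₀ (img β P) β.range := hpair.img hβ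
  rw [hβP] at hpair₁
  obtain ⟨ι, hι, hinv, hιr⟩ := Fusion.exists_inv F hβ rfl
  have hιQ : ∀ y : β.range, ι y ∈ Q := fun y => (le_of_eq hιr) ⟨y, rfl⟩
  set θ : β.range →* Ω := χ.comp (ι.codRestrict Q hιQ) with hθdef
  have hθ : θ ∈ F.Hom β.range := F.comp_mem hι hχ hιQ
  have hθr : θ.range = Q' := by
    rw [hθdef, range_comp_of_range ι χ hιQ hιr]
    exact hχr
  have hθP : img θ Phat = P' := by
    rw [hθdef, img_comp, ← hβP, img_inv β ι hinv rfl hpair.2.1]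
    exact hχP
  obtain ⟨δ, hδ, ε, hε, hext⟩ := exists_extension st hpair₁ hgood hθ hθr hθP
  obtain ⟨hεQ, hεP, hεN⟩ := extension_props hpair₁ hθ hθr hθP hδ hε hext
  refine ⟨δ, hδ, ε, hε, hεP, hεQ, hεN, ?_⟩
  have hcardlt : Nat.card β.range < Nat.card (npair S Phat β.range) :=
    card_lt_card_npair st.hS hpair₁.2.2.1 hβne
  have hpairN : IsPair F P₀ Phat (npair S Phat β.range) :=
    ⟨hpair₁.1, hpair₁.2.1.trans hpair₁.le_npair, inf_le_left, lt_trans hpair₁.2.2.2 hcardlt⟩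
  have hεN' : ∀ x, ε x ∈ normalizerIn S P' := fun x => (Subgroup.mem_inf.mp (hεN x)).1
  have hβ₁ : (npair S Phat β.range).subtype ∈ F.Hom (npair S Phat β.range) :=
    Fusion.subtype_mem F (npair_le_S _ _)
  have hβ₂ := F.comp_mem hε hψ hεN'
  have hβ₁P : img (npair S Phat β.range).subtype Phat = Phat := img_subtype hpairN.2.1
  have hβ₂P : img (ψ.comp (ε.codRestrict _ hεN')) Phat = Phat := by
    rw [img_comp, hεP]
    exact hψP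
  have hcardQ : Nat.card Q < Nat.card (npair S Phat β.range) := by
    rw [← card_range_eq F hβ]
    exact hcardlt
  obtain ⟨μ₁, hμ₁, hμ₁eq⟩ := IH _ hpairN hcardQ _ hβ₁ _ hβ₂ hβ₁P hβ₂P
  refine ⟨μ₁, hμ₁, fun x hx h hQ' hN => ?_⟩
  have hβxr : β x ∈ β.range := ⟨x, rfl⟩
  have hβxN : β x ∈ npair S Phat β.range := hpair₁.le_npair hβxr
  have h1 : ((μ₁ ⟨β x, h⟩ : Phat) : Ω) = (ψ.comp (ε.codRestrict _ hεN')) ⟨β x, hβxN⟩ :=
    hμ₁eq ⟨β x, hβxN⟩ h h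
  rw [h1]
  show ψ ⟨ε ⟨β x, hβxN⟩, _⟩ = ψ ⟨δ ⟨χ x, hQ'⟩, hN⟩
  congr 1
  apply Subtype.ext
  show ε ⟨β x, hβxN⟩ = ((δ ⟨χ x, hQ'⟩ : Q') : Ω)
  have hθx : θ ⟨β x, hβxr⟩ = χ x := by
    show χ ⟨ι ⟨β x, hβxr⟩, _⟩ = χ x
    congr 1
    apply Subtype.ext
    exact hinv x hβxr
  have hθQ' : θ ⟨β x, hβxr⟩ ∈ Q' := hθx ▸ hQ'
  have h2 := hext ⟨β x, hβxr⟩ hθQ'
  have h3 : Subgroup.inclusion hpair₁.le_npair ⟨β x, hβxr⟩ = ⟨β x, hβxN⟩ := Subtype.ext rfl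
  rw [h3] at h2
  rw [h2]
  congr 2
  exact Subtype.ext hθx

/-- Stage 1 for pairs: any two maps of the system on `Q` carrying `P` onto `Phat` differ on `P` by an
element of `A₁`. -/
theorem stage1_pairs [Finite S] {p : ℕ} [Fact p.Prime] {F : FusionSystem S}
    {ℋ : Set (Subgroup Ω)} {P₀ Phat : Subgroup Ω} (st : Step p F ℋ P₀) (hstar : StarHyp p F P₀)
    (htop : IsTop F P₀ Phat) (hPQh : Phat ≤ qhat p F Phat) :
    ∀ (n : ℕ) (P Q : Subgroup Ω), IsPair F P₀ P Q → Nat.card S - Nat.card Q = n →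
      ∀ β ∈ F.Hom Q, ∀ β' ∈ F.Hom Q, img β P = Phat → img β' P = Phat →
        TwinOn (aone F hPQh) P β β' := by
  intro n
  induction n using Nat.strong_induction_on with
  | _ n ih =>
  intro P Q hpair hn β hβ β' hβ' hβP hβ'P
  by_cases hle : qhat p F Phat ≤ β.range
  · exact twinOn_of_qhat_le hpair hPQh hβ hβ' hβP hβ'P hle
  have hne : P₀ ≠ S := ne_top_of_starHyp hstar
  have hPhatS : Phat ≤ S := Fusion.isConj_tgt_le F htop.1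
  have hQS : Q ≤ S := hpair.le_S
  have hQcard : Nat.card Q ≤ Nat.card S := card_le_card_S hQS
  -- the induction hypothesis in usable form
  have IH : ∀ (P₂ Q₂ : Subgroup Ω), IsPair F P₀ P₂ Q₂ → Nat.card Q < Nat.card Q₂ →
      ∀ β₁ ∈ F.Hom Q₂, ∀ β₂ ∈ F.Hom Q₂, img β₁ P₂ = Phat → img β₂ P₂ = Phat →
        TwinOn (aone F hPQh) P₂ β₁ β₂ := by
    intro P₂ Q₂ hpair₂ hlt β₁ hβ₁ β₂ hβ₂ h1 h2
    have hQ₂card : Nat.card Q₂ ≤ Nat.card S := card_le_card_S hpair₂.le_S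
    exact ih (Nat.card S - Nat.card Q₂) (by omega) P₂ Q₂ hpair₂ rfl β₁ hβ₁ β₂ hβ₂ h1 h2
  obtain ⟨P', Q', χ, hgood, hχ, hχr, hχP⟩ := exists_good st hpair
  obtain ⟨ψ, hψ, hψP⟩ := leHat_all st hne htop P' hgood.1.1
  -- ranges are proper in `N_S(Phat)`
  have hrN : β.range ≤ normalizerIn S Phat := by
    rintro _ ⟨x, rfl⟩
    have := map_mem_normalizerIn_img F hβ hpair.2.2.1 x
    rwa [hβP] at this
  have hr'N : β'.range ≤ normalizerIn S Phat := by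
    rintro _ ⟨x, rfl⟩
    have := map_mem_normalizerIn_img F hβ' hpair.2.2.1 x
    rwa [hβ'P] at this
  have hβne : β.range ≠ normalizerIn S Phat := by
    intro heq
    apply hle
    rw [heq]
    exact qhat_le_normalizerIn p F Phat
  haveI : Finite (normalizerIn S Phat) := Fusion.finite_of_le (inf_le_left : normalizerIn S Phat ≤ S)
  have hβ'ne : β'.range ≠ normalizerIn S Phat := by
    intro heq
    apply hβne
    apply Subgroup.eq_of_le_of_card_ge hrN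
    rw [← heq, card_range_eq F hβ', card_range_eq F hβ]
  obtain ⟨δ, hδ, ε, hε, hεP, hεQ, hεN, μ₁, hμ₁, hμ₁eq⟩ := half_step st (aone F hPQh) hpair hgood hχ hχr
    hχP hψ hψP hβ hβP hβne (IH Phat)
  obtain ⟨δ', hδ', ε', hε', -, -, -, μ₁', hμ₁', hμ₁'eq⟩ := half_step st (aone F hPQh) hpair hgood hχ
    hχr hχP hψ hψP hβ' hβ'P hβ'ne (IH Phat)
  -- the element `h'`
  have hpair₁ : IsPair F P₀ (img β P) β.range := hpair.img hβ
  rw [hβP] at hpair₁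
  obtain ⟨h, hhQ, hhN, hhn⟩ := exists_mem_normalizer_not_mem st.hS (inf_le_left : normalizerIn S Phat ≤ S)
    hrN (qhat_le_normalizerIn p F Phat) (normalizerIn_le_normalizer_qhat p F hPhatS) hle
  have hhNS : h ∈ normalizerIn S Phat := qhat_le_normalizerIn p F Phat hhQ
  have hhnp : h ∈ npair S Phat β.range :=
    Subgroup.mem_inf.mpr ⟨hhNS, Subgroup.mem_inf.mpr ⟨hhNS.1, hhN⟩⟩
  have hh' : ∃ h' ∈ npair S P' Q' ⊓ qhat p F P', h' ∉ Q' := by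
    refine ⟨ε ⟨h, hhnp⟩, Subgroup.mem_inf.mpr ⟨hεN _, ?_⟩, ?_⟩
    · have := map_mem_qhat p F hε (hpair₁.2.1.trans hpair₁.le_npair) inf_le_left ⟨h, hhnp⟩ hhQ
      rwa [hεP] at this
    · rw [← hεQ, map_mem_img_iff ε (F.injective_of_mem hε)]
      exact hhn
  have hQ'card : Nat.card Q' = Nat.card Q := by
    rw [← hχr]
    exact card_range_eq F hχ
  have IH' : ∀ Q'' : Subgroup Ω, IsPair F P₀ P' Q'' → Nat.card Q' < Nat.card Q'' →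
      ∀ β₁ ∈ F.Hom Q'', ∀ β₂ ∈ F.Hom Q'', img β₁ P' = Phat → img β₂ P' = Phat →
        TwinOn (aone F hPQh) P' β₁ β₂ := by
    intro Q'' hpair'' hlt
    rw [hQ'card] at hlt
    exact IH P' Q'' hpair'' hlt
  have hω' : δ' * δ⁻¹ ∈ stab F P' Q' := Subgroup.mul_mem _ hδ' (Subgroup.inv_mem _ hδ)
  obtain ⟨μ₂, hμ₂, hμ₂eq⟩ := claim_omega (aone F hPQh) hgood hψ hψP IH' hh' hω'
  refine ⟨μ₁'⁻¹ * μ₂ * μ₁, Subgroup.mul_mem _ (Subgroup.mul_mem _ (Subgroup.inv_mem _ hμ₁') hμ₂) hμ₁,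
    fun x hx hβx => ?_⟩
  have hQ'N : Q' ≤ normalizerIn S P' := hgood.1.2.2.1
  have hχQ' : χ x ∈ Q' := hχr ▸ ⟨x, rfl⟩
  have hχP' : χ x ∈ P' := by
    rw [← hχP]
    exact map_mem_img χ x hx
  have hβ'x : β' x ∈ Phat := by
    rw [← hβ'P]
    exact map_mem_img β' x hx
  set z : Q' := δ ⟨χ x, hχQ'⟩ with hz
  have hzP' : (z : Ω) ∈ P' := (hδ.2 _).mp hχP'
  have hzN : (z : Ω) ∈ normalizerIn S P' := hQ'N z.2
  have hωz : (δ' * δ⁻¹) z = δ' ⟨χ x, hχQ'⟩ := by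
    rw [MulAut.mul_apply, hz, MulAut.inv_apply_self]
  have hωzN : (((δ' * δ⁻¹) z : Q') : Ω) ∈ normalizerIn S P' := hQ'N ((δ' * δ⁻¹) z).2
  have e1 := hμ₁eq x hx hβx hχQ' hzN
  have hψz : ψ ⟨z, hzN⟩ ∈ Phat := by
    rw [← hψP]
    exact map_mem_img ψ ⟨z, hzN⟩ hzP'
  have e1' : μ₁ ⟨β x, hβx⟩ = ⟨ψ ⟨z, hzN⟩, hψz⟩ := Subtype.ext e1
  have e2 := hμ₂eq z hzP' hzN hωzN hψz
  have hδ'N : ((δ' ⟨χ x, hχQ'⟩ : Q') : Ω) ∈ normalizerIn S P' := hQ'N (δ' ⟨χ x, hχQ'⟩).2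
  have e3 := hμ₁'eq x hx hβ'x hχQ' hδ'N
  have e4 : μ₂ ⟨ψ ⟨z, hzN⟩, hψz⟩ = μ₁' ⟨β' x, hβ'x⟩ := by
    apply Subtype.ext
    rw [e2, e3]
    congr 1
    apply Subtype.ext
    show (((δ' * δ⁻¹) z : Q') : Ω) = ((δ' ⟨χ x, hχQ'⟩ : Q') : Ω)
    rw [hωz]
  rw [MulAut.mul_apply, MulAut.mul_apply, e1', e4, MulAut.inv_apply_self]

end Cfsg.Agent.Helper6.Bcglo
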