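import Mathlib
import Cfsg.Agent.Helper6.BcgloG

set_option autoImplicit false

/-!
Saturation criterion (S5110), end of stage 1: every automorphism of `P̂` in the system extends to
an automorphism of `Q̂` in the system.
-/

namespace Cfsg.Agent.Helper6.Bcglo

open Cfsg Cfsg.FusionSystem Cfsg.Agent.Lead

variable {Ω : Type*} [Group Ω] {S : Subgroup Ω}

/-- Compatibility of a map `φ` between members of the class with `A ≤ Aut(Phat)`, measured through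
maps of normalizers onto `Phat`. -/
def Compat {Phat : Subgroup Ω} (A : Subgroup (MulAut Phat)) (F : FusionSystem S) (P : Subgroup Ω)
    (φ : P →* Ω) : Prop :=
  ∀ ψ ∈ F.Hom (normalizerIn S P), img ψ P = Phat → ∀ (R : Subgroup Ω), φ.range = R →
    ∀ ψ₂ ∈ F.Hom (normalizerIn S R), img ψ₂ R = Phat →
      ∃ μ ∈ A, ∀ (x : P) (hN : (x : Ω) ∈ normalizerIn S P) (h : ψ ⟨x, hN⟩ ∈ Phat)
        (hN₂ : φ x ∈ normalizerIn S R), ((μ ⟨ψ ⟨x, hN⟩, h⟩ : Phat) : Ω) = ψ₂ ⟨φ x, hN₂⟩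

theorem compat_all [Finite S] {p : ℕ} [Fact p.Prime] {F : FusionSystem S}
    {ℋ : Set (Subgroup Ω)} {P₀ Phat : Subgroup Ω} (st : Step p F ℋ P₀) (hstar : StarHyp p F P₀)
    (htop : IsTop F P₀ Phat) (hPQh : Phat ≤ qhat p F Phat) :
    ∀ (P : Subgroup Ω), F.IsConj P₀ P → ∀ φ ∈ F.Hom P, Compat (aone F hPQh) F P φ := by
  have hne : P₀ ≠ S := ne_top_of_starHyp hstar
  have key := etrick st hne (fun P => {φ | φ ∈ F.Hom P ∧ Compat (aone F hPQh) F P φ})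
    (by
      rintro P φ ψ' hP hφ ⟨-, h1⟩ ⟨hψ', h2⟩
      refine ⟨F.comp_mem hφ hψ' _, ?_⟩
      intro ψ hψ hψP R hR ψ₃ hψ₃ hψ₃P
      have hrange : ψ'.range = R := by
        rw [← hR]
        exact (range_comp_of_range φ ψ' (fun x => ⟨x, rfl⟩) rfl).symm
      have hPS : P ≤ S := Fusion.isConj_tgt_le F hP
      have hconj : F.IsConj P₀ φ.range := Fusion.isConj_trans F hP ⟨φ, hφ, rfl⟩
      obtain ⟨ψ₂, hψ₂, hψ₂P⟩ := leHat_all st hne htop φ.range hconj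
      obtain ⟨μ, hμ, hμeq⟩ := h1 ψ hψ hψP φ.range rfl ψ₂ hψ₂ hψ₂P
      obtain ⟨μ', hμ', hμ'eq⟩ := h2 ψ₂ hψ₂ hψ₂P R hrange ψ₃ hψ₃ hψ₃P
      refine ⟨μ' * μ, Subgroup.mul_mem _ hμ' hμ, fun x hN h hN₂ => ?_⟩
      have hφxr : φ x ∈ φ.range := ⟨x, rfl⟩
      have hφxN : φ x ∈ normalizerIn S φ.range :=
        Fusion.le_normalizerIn (Fusion.range_le F hφ) hφxr
      have e1 := hμeq x hN h hφxN
      have hψ₂x : ψ₂ ⟨φ x, hφxN⟩ ∈ Phat := by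
        rw [← hψ₂P]
        exact map_mem_img ψ₂ ⟨φ x, hφxN⟩ hφxr
      have e1' : μ ⟨ψ ⟨x, hN⟩, h⟩ = ⟨ψ₂ ⟨φ x, hφxN⟩, hψ₂x⟩ := Subtype.ext e1
      have e2 := hμ'eq ⟨φ x, hφxr⟩ hφxN hψ₂x hN₂
      rw [MulAut.mul_apply, e1', e2]
      rfl)
    (by
      rintro P φ hP hφ ⟨-, h1⟩
      obtain ⟨ψ', hψ', hinv, hr⟩ := Fusion.exists_inv F hφ rfl
      refine ⟨ψ', ⟨hψ', ?_⟩, fun x => hinv x _⟩
      intro ψ₂ hψ₂ hψ₂P R hR ψ₃ hψ₃ hψ₃P
      have hRP : R = P := hR.symm.trans hr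
      subst hRP
      obtain ⟨μ, hμ, hμeq⟩ := h1 ψ₃ hψ₃ hψ₃P φ.range rfl ψ₂ hψ₂ hψ₂P
      refine ⟨μ⁻¹, Subgroup.inv_mem _ hμ, fun y hN h hN₂ => ?_⟩
      obtain ⟨x, hx⟩ := y.2
      have hy : y = ⟨φ x, ⟨x, rfl⟩⟩ := Subtype.ext hx.symm
      subst hy
      have hψ'x : ψ' ⟨φ x, ⟨x, rfl⟩⟩ = (x : Ω) := hinv x _
      have hxN : (x : Ω) ∈ normalizerIn S R := hψ'x ▸ hN₂
      have hψ₃x : ψ₃ ⟨x, hxN⟩ ∈ Phat := by
        rw [← hψ₃P]
        exact map_mem_img ψ₃ ⟨x, hxN⟩ x.2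
      have e1 := hμeq x hxN hψ₃x hN
      have e1' : μ ⟨ψ₃ ⟨x, hxN⟩, hψ₃x⟩ = ⟨ψ₂ ⟨φ x, hN⟩, h⟩ := Subtype.ext e1
      rw [← e1', MulAut.inv_apply_self]
      show ψ₃ ⟨x, hxN⟩ = ψ₃ ⟨ψ' ⟨φ x, _⟩, hN₂⟩
      congr 1
      exact Subtype.ext hψ'x.symm)
    (by
      intro P Q hpair φ hφ
      refine ⟨Fusion.restrict_mem F hφ hpair.2.1, ?_⟩
      intro ψ hψ hψP R hR ψ₂ hψ₂ hψ₂P
      have hR' : img φ P = R := by
        rw [← hR, range_restrict]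
      have hφN : ∀ x : Q, φ x ∈ normalizerIn S R := by
        intro x
        rw [← hR']
        exact map_mem_normalizerIn_img F hφ hpair.2.2.1 x
      have hβ := Fusion.restrict_mem F hψ hpair.2.2.1
      have hβ' := F.comp_mem hφ hψ₂ hφN
      have hβP : img (ψ.comp (Subgroup.inclusion hpair.2.2.1)) P = Phat := by
        rw [img_restrict ψ hpair.2.2.1 hpair.2.1]
        exact hψP
      have hβ'P : img (ψ₂.comp (φ.codRestrict _ hφN)) P = Phat := by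
        rw [img_comp, hR']
        exact hψ₂P
      obtain ⟨μ, hμ, hμeq⟩ := stage1_pairs st hstar htop hPQh _ P Q hpair rfl _ hβ _ hβ' hβP hβ'P
      refine ⟨μ, hμ, fun x hN h hN₂ => ?_⟩
      exact hμeq ⟨x.1, hpair.2.1 x.2⟩ x.2 h)
  intro P hP φ hφ
  exact (key P hP φ hφ).2

/-- **Stage 1**: `Aut_F(P̂) = A₁`. -/
theorem autGroup_le_aone [Finite S] {p : ℕ} [Fact p.Prime] {F : FusionSystem S}
    {ℋ : Set (Subgroup Ω)} {P₀ Phat : Subgroup Ω} (st : Step p F ℋ P₀) (hstar : StarHyp p F P₀)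
    (htop : IsTop F P₀ Phat) (hPQh : Phat ≤ qhat p F Phat) :
    F.autGroup Phat ≤ aone F hPQh := by
  intro α hα
  have hPhatS : Phat ≤ S := Fusion.isConj_tgt_le F htop.1
  have hα' := (Fusion.mem_autGroup_iff F hPhatS α).mp hα
  have hsub : (normalizerIn S Phat).subtype ∈ F.Hom (normalizerIn S Phat) :=
    Fusion.subtype_mem F inf_le_left
  have hsubP : img (normalizerIn S Phat).subtype Phat = Phat :=
    img_subtype (Fusion.le_normalizerIn hPhatS)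
  obtain ⟨μ, hμ, hμeq⟩ := compat_all st hstar htop hPQh Phat htop.1 _ hα' _ hsub hsubP Phat
    (range_subtype_comp α) _ hsub hsubP
  have : μ = α := by
    ext x
    exact hμeq x (Fusion.le_normalizerIn hPhatS x.2) x.2 (Fusion.le_normalizerIn hPhatS (α x).2)
  rw [← this]
  exact hμ

end Cfsg.Agent.Helper6.Bcglo
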