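import Mathlib
import Cfsg.Agent.Helper6.BcgloH

set_option autoImplicit false

/-!
Saturation criterion (S5110), stage 2: the fully normalized member `P̂` with `(P̂, Q̂(P̂))` a good
pair is fully automized.
-/

namespace Cfsg.Agent.Helper6.Bcglo

open Cfsg Cfsg.FusionSystem Cfsg.Agent.Lead

variable {Ω : Type*} [Group Ω] {S : Subgroup Ω}

/-- The generating set of the extender is already a subgroup. -/
theorem mem_extender_iff (P : Subgroup Ω) (φ : P →* Ω) (g : Ω) :
    g ∈ extender S P φ ↔ g ∈ S ∧ g ∈ Subgroup.normalizer (P : Set Ω) ∧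
      ∃ h ∈ S, ∀ (x : P) (hx : g * (x : Ω) * g⁻¹ ∈ P), φ ⟨g * x * g⁻¹, hx⟩ = h * φ x * h⁻¹ := by
  constructor
  · intro hg
    unfold extender at hg
    induction hg using Subgroup.closure_induction with
    | mem x hx => exact hx
    | one =>
      refine ⟨S.one_mem, Subgroup.one_mem _, 1, S.one_mem, fun x hx => ?_⟩
      have : (⟨1 * (x : Ω) * 1⁻¹, hx⟩ : P) = x := Subtype.ext (by simp)
      rw [this]
      simp
    | mul a b _ _ ha hb =>
      obtain ⟨haS, haN, h₁, hh₁, ha'⟩ := ha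
      obtain ⟨hbS, hbN, h₂, hh₂, hb'⟩ := hb
      refine ⟨S.mul_mem haS hbS, Subgroup.mul_mem _ haN hbN, h₁ * h₂, S.mul_mem hh₁ hh₂,
        fun x hx => ?_⟩
      have hbx : b * (x : Ω) * b⁻¹ ∈ P := (Subgroup.mem_normalizer_iff.mp hbN x).mp x.2
      have hax : a * ((⟨b * (x : Ω) * b⁻¹, hbx⟩ : P) : Ω) * a⁻¹ ∈ P :=
        (Subgroup.mem_normalizer_iff.mp haN _).mp hbx
      have e1 := ha' ⟨b * x * b⁻¹, hbx⟩ hax
      have e2 := hb' x hbx
      have e3 : (⟨a * b * (x : Ω) * (a * b)⁻¹, hx⟩ : P) =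
          ⟨a * ((⟨b * (x : Ω) * b⁻¹, hbx⟩ : P) : Ω) * a⁻¹, hax⟩ := by
        apply Subtype.ext
        show a * b * (x : Ω) * (a * b)⁻¹ = a * (b * (x : Ω) * b⁻¹) * a⁻¹
        group
      rw [e3, e1, e2]
      group
    | inv a _ ha =>
      obtain ⟨haS, haN, h₁, hh₁, ha'⟩ := ha
      refine ⟨S.inv_mem haS, Subgroup.inv_mem _ haN, h₁⁻¹, S.inv_mem hh₁, fun x hx => ?_⟩
      have hax : a * ((⟨a⁻¹ * (x : Ω) * a⁻¹⁻¹, hx⟩ : P) : Ω) * a⁻¹ ∈ P := by
        have : a * (a⁻¹ * (x : Ω) * a⁻¹⁻¹) * a⁻¹ = x := by group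
        show a * (a⁻¹ * (x : Ω) * a⁻¹⁻¹) * a⁻¹ ∈ P
        rw [this]
        exact x.2
      have e1 := ha' ⟨a⁻¹ * x * a⁻¹⁻¹, hx⟩ hax
      have e2 : (⟨a * ((⟨a⁻¹ * (x : Ω) * a⁻¹⁻¹, hx⟩ : P) : Ω) * a⁻¹, hax⟩ : P) = x := by
        apply Subtype.ext
        show a * (a⁻¹ * (x : Ω) * a⁻¹⁻¹) * a⁻¹ = x
        group
      rw [e2] at e1
      rw [e1]
      group
  · intro h
    exact Subgroup.subset_closure h

theorem extender_le_normalizerIn (P : Subgroup Ω) (φ : P →* Ω) :
    extender S P φ ≤ normalizerIn S P := by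
  intro g hg
  obtain ⟨h1, h2, -⟩ := (mem_extender_iff P φ g).mp hg
  exact Subgroup.mem_inf.mpr ⟨h1, h2⟩

/-- **Stage 2a**: `P̂` is fully automized. -/
theorem fullyAutomized_top [Finite S] {p : ℕ} [Fact p.Prime] {F : FusionSystem S}
    {ℋ : Set (Subgroup Ω)} {P₀ Phat : Subgroup Ω} (st : Step p F ℋ P₀) (hstar : StarHyp p F P₀)
    (htop : IsTop F P₀ Phat) (hgood : IsGood p F P₀ Phat (qhat p F Phat)) :
    F.IsFullyAutomized p Phat := by
  have hPhatS : Phat ≤ S := Fusion.isConj_tgt_le F htop.1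
  have hPQh : Phat ≤ qhat p F Phat := hgood.1.2.1
  have hQhS : qhat p F Phat ≤ S := hgood.1.le_S
  haveI : Finite ↥(qhat p F Phat) := Fusion.finite_of_le hQhS
  haveI : Finite Phat := Fusion.finite_of_le hPhatS
  have hrange : (stabRes F hPQh).range = F.autGroup Phat := by
    apply le_antisymm
    · rintro _ ⟨a, rfl⟩
      exact stabRes_mem_autGroup F hPQh hQhS a
    · exact autGroup_le_aone st hstar htop hPQh
  obtain ⟨T, hT⟩ := (exists_sylow_eq_subgroupOf_iff (p := p) (stab F Phat (qhat p F Phat))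
    (tsub F Phat (qhat p F Phat)) inf_le_left).mpr hgood.2.2.2
  have hmap : (T : Subgroup ↥(stab F Phat (qhat p F Phat))).map (stabRes F hPQh) =
      autInducedBy S Phat := by
    ext α
    constructor
    · rintro ⟨t, ht, rfl⟩
      rw [SetLike.mem_coe, hT, Subgroup.mem_subgroupOf] at ht
      obtain ⟨g, hg, hgt⟩ := (mem_tsub_iff F hPQh hQhS t.1).mp ht
      rw [mem_autInducedBy_iff]
      refine ⟨g, npair_le_S _ _ hg, fun x => ?_⟩
      rw [stabRes_apply, hgt]
      rfl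
    · intro hα
      obtain ⟨g, hgS, hgα⟩ := (mem_autInducedBy_iff S Phat α).mp hα
      have hgN : g ∈ Subgroup.normalizer (Phat : Set Ω) := mem_normalizer_of_conj_eq_aut Phat α g hgα
      have hgnp : g ∈ npair S Phat (qhat p F Phat) := by
        rw [npair_qhat p F hPhatS]
        exact Subgroup.mem_inf.mpr ⟨hgS, hgN⟩
      have hgNQ : g ∈ Subgroup.normalizer ((qhat p F Phat : Subgroup Ω) : Set Ω) :=
        (Subgroup.mem_inf.mp (Subgroup.mem_inf.mp hgnp).2).2
      have hct : conjAut (qhat p F Phat) g hgNQ ∈ tsub F Phat (qhat p F Phat) :=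
        (mem_tsub_iff F hPQh hQhS _).mpr ⟨g, hgnp, fun x => rfl⟩
      refine ⟨⟨conjAut (qhat p F Phat) g hgNQ, hct.1⟩, ?_, ?_⟩
      · rw [SetLike.mem_coe, hT, Subgroup.mem_subgroupOf]
        exact hct
      · ext x
        rw [stabRes_apply, hgα]
        rfl
  have hsurj := MonoidHom.rangeRestrict_surjective (stabRes F hPQh)
  have hT'card := (T.mapSurjective hsurj).card_eq_multiplicity
  have h2 : ((T.mapSurjective hsurj : Sylow p (stabRes F hPQh).range) :
      Subgroup (stabRes F hPQh).range).map (stabRes F hPQh).range.subtype =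
      (T : Subgroup ↥(stab F Phat (qhat p F Phat))).map (stabRes F hPQh) := by
    rw [Sylow.coe_mapSurjective, Subgroup.map_map]
    rfl
  have h1 : Nat.card (autInducedBy S Phat) =
      Nat.card ((T.mapSurjective hsurj : Sylow p (stabRes F hPQh).range) :
        Subgroup (stabRes F hPQh).range) := by
    rw [← hmap, ← h2, Subgroup.card_map_of_injective (Subgroup.subtype_injective _)]
  refine ⟨hPhatS, (exists_sylow_eq_subgroupOf_iff (p := p) (F.autGroup Phat) (autInducedBy S Phat)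
    (Fusion.autInducedBy_le_autGroup F hPhatS)).mpr ?_⟩
  rw [h1, hT'card, hrange]

end Cfsg.Agent.Helper6.Bcglo
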