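import Mathlib
import Cfsg.Agent.Helper6.BcgloI
import Cfsg.Agent.Lead.FusionMorph3

set_option autoImplicit false

/-!
Saturation criterion (S5110), stage 2: the fully normalized member `P̂` with `(P̂, Q̂(P̂))` a good
pair is receptive.
-/

namespace Cfsg.Agent.Helper6.Bcglo

open Cfsg Cfsg.FusionSystem Cfsg.Agent.Lead

variable {Ω : Type*} [Group Ω] {S : Subgroup Ω}

/-- **Stage 2b**: every automorphism `α` of `P̂` in the system extends to `N_α`. -/
theorem receptive_aut [Finite S] {p : ℕ} [Fact p.Prime] {F : FusionSystem S}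
    {ℋ : Set (Subgroup Ω)} {P₀ Phat : Subgroup Ω} (st : Step p F ℋ P₀) (hstar : StarHyp p F P₀)
    (htop : IsTop F P₀ Phat) (hgood : IsGood p F P₀ Phat (qhat p F Phat))
    (α : MulAut Phat) (hα : α ∈ F.autGroup Phat) :
    ∃ β ∈ F.Hom (extender S Phat (Phat.subtype.comp α.toMonoidHom)),
      ∀ (x : Ω) (hP : x ∈ Phat) (hN : x ∈ extender S Phat (Phat.subtype.comp α.toMonoidHom)),
        β ⟨x, hN⟩ = ((α ⟨x, hP⟩ : Phat) : Ω) := by
  have hPhatS : Phat ≤ S := Fusion.isConj_tgt_le F htop.1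
  have hPQh : Phat ≤ qhat p F Phat := hgood.1.2.1
  have hQhS : qhat p F Phat ≤ S := hgood.1.le_S
  haveI : Finite ↥(qhat p F Phat) := Fusion.finite_of_le hQhS
  haveI : Finite Phat := Fusion.finite_of_le hPhatS
  obtain ⟨⟨a, ha⟩, hρa⟩ := autGroup_le_aone st hstar htop hPQh hα
  have hρax : ∀ x : Phat, ((a (Subgroup.inclusion hPQh x) : ↥(qhat p F Phat)) : Ω) = ((α x : Phat) : Ω) := by
    intro x
    rw [← hρa, stabRes_apply]
  set αt : Phat →* Ω := Phat.subtype.comp α.toMonoidHom with hαt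
  have hNαN : extender S Phat αt ≤ normalizerIn S Phat := extender_le_normalizerIn Phat αt
  have hNαnp : extender S Phat αt ≤ npair S Phat (qhat p F Phat) := by
    rw [npair_qhat p F hPhatS]
    exact hNαN
  -- the subgroup `Y`
  set Y : Subgroup (MulAut ↥(qhat p F Phat)) :=
    ((extender S Phat αt).subgroupOf (Subgroup.normalizer ((qhat p F Phat : Subgroup Ω) : Set Ω))).map
      ((MulAut.conj a).toMonoidHom.comp (conjAutHom (qhat p F Phat))) with hYdef
  have hY : IsPGroup p Y :=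
    ((st.hS.to_le (hNαN.trans inf_le_left)).comap_subtype).map _
  -- the kernel of restriction, inside `Aut(Q̂)`
  set K : Subgroup (MulAut ↥(qhat p F Phat)) :=
    ((stabRes F hPQh).ker).map (stab F Phat (qhat p F Phat)).subtype with hKdef
  have hKstab : K ≤ stab F Phat (qhat p F Phat) := by
    rintro _ ⟨k, -, rfl⟩
    exact k.2
  have htK : tsub F Phat (qhat p F Phat) ≤ Subgroup.normalizer (K : Set (MulAut ↥(qhat p F Phat))) := by
    intro t ht
    have key : ∀ s ∈ stab F Phat (qhat p F Phat), ∀ κ ∈ K, s * κ * s⁻¹ ∈ K := by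
      rintro s hs _ ⟨k, hk, rfl⟩
      refine ⟨⟨s, hs⟩ * k * ⟨s, hs⟩⁻¹, ?_, rfl⟩
      exact (MonoidHom.normal_ker (stabRes F hPQh)).conj_mem k hk ⟨s, hs⟩
    apply mem_normalizer_of_conj_mem
    · exact key t ht.1
    · intro κ hκ
      have := key t⁻¹ (Subgroup.inv_mem _ ht.1) κ hκ
      simpa using this
  have hYle : Y ≤ tsub F Phat (qhat p F Phat) ⊔ K := by
    rintro _ ⟨n, hn, rfl⟩
    rw [SetLike.mem_coe, Subgroup.mem_subgroupOf] at hn
    obtain ⟨hnS, hnN, h, hhS, hh⟩ := (mem_extender_iff Phat αt n.1).mp hn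
    have hnnp : n.1 ∈ npair S Phat (qhat p F Phat) := hNαnp hn
    -- conjugation by `n` on `Q̂`, as an element of the stabilizer
    have hct : conjAutHom (qhat p F Phat) n ∈ tsub F Phat (qhat p F Phat) :=
      (mem_tsub_iff F hPQh hQhS _).mpr ⟨n.1, hnnp, fun x => rfl⟩
    -- the automorphism `τ = α c_n α⁻¹` of `Phat` is conjugation by `h`
    set c₀ : MulAut Phat := conjAut Phat n.1 hnN with hc₀
    have hτ : ∀ x : Phat, (((α * c₀ * α⁻¹) x : Phat) : Ω) = h * (x : Ω) * h⁻¹ := by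
      intro x
      have hx' : n.1 * ((α⁻¹ x : Phat) : Ω) * n.1⁻¹ ∈ Phat :=
        (Subgroup.mem_normalizer_iff.mp hnN _).mp (α⁻¹ x).2
      have e1 := hh (α⁻¹ x) hx'
      have e2 : αt (α⁻¹ x) = (x : Ω) := by
        show ((α (α⁻¹ x) : Phat) : Ω) = x
        rw [MulAut.apply_inv_self]
      rw [e2] at e1
      rw [← e1]
      rfl
    have hhN : h ∈ Subgroup.normalizer (Phat : Set Ω) :=
      mem_normalizer_of_conj_eq_aut Phat (α * c₀ * α⁻¹) h hτ
    have hhnp : h ∈ npair S Phat (qhat p F Phat) := by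
      rw [npair_qhat p F hPhatS]
      exact Subgroup.mem_inf.mpr ⟨hhS, hhN⟩
    have hhNQ : h ∈ Subgroup.normalizer ((qhat p F Phat : Subgroup Ω) : Set Ω) :=
      (Subgroup.mem_inf.mp (Subgroup.mem_inf.mp hhnp).2).2
    have htt : conjAut (qhat p F Phat) h hhNQ ∈ tsub F Phat (qhat p F Phat) :=
      (mem_tsub_iff F hPQh hQhS _).mpr ⟨h, hhnp, fun x => rfl⟩
    set t : MulAut ↥(qhat p F Phat) := conjAut (qhat p F Phat) h hhNQ with ht
    set y : MulAut ↥(qhat p F Phat) := a * conjAutHom (qhat p F Phat) n * a⁻¹ with hy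
    have hystab : y ∈ stab F Phat (qhat p F Phat) :=
      Subgroup.mul_mem _ (Subgroup.mul_mem _ ha hct.1) (Subgroup.inv_mem _ ha)
    have hgoal : ((MulAut.conj a).toMonoidHom.comp (conjAutHom (qhat p F Phat))) n = t * (t⁻¹ * y) := by
      rw [mul_inv_cancel_left]
      rfl
    rw [hgoal]
    apply Subgroup.mul_mem_sup htt
    refine ⟨⟨t, htt.1⟩⁻¹ * ⟨y, hystab⟩, ?_, rfl⟩
    rw [SetLike.mem_coe, MonoidHom.mem_ker, map_mul, map_inv]
    have e1 : stabRes F hPQh ⟨t, htt.1⟩ = α * c₀ * α⁻¹ := by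
      ext x
      rw [stabRes_apply, hτ]
      rfl
    have e2 : stabRes F hPQh ⟨y, hystab⟩ = α * c₀ * α⁻¹ := by
      have e3 : (⟨y, hystab⟩ : ↥(stab F Phat (qhat p F Phat))) =
          ⟨a, ha⟩ * ⟨conjAutHom (qhat p F Phat) n, hct.1⟩ * ⟨a, ha⟩⁻¹ := rfl
      rw [e3, map_mul, map_mul, map_inv, hρa]
      congr 2
    rw [e1, e2, inv_mul_cancel]
  obtain ⟨k, hk, hkY⟩ := exists_conj_le_of_le_sup (p := p) (A := stab F Phat (qhat p F Phat))
    (R := tsub F Phat (qhat p F Phat)) (K := K) (B := Y) inf_le_left hgood.2.2.2 hKstab htK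
    (isPGroup_tsub p st.hS F _ _) hY hYle
  have ha' : k * a ∈ stab F Phat (qhat p F Phat) := Subgroup.mul_mem _ (hKstab hk) ha
  have hρa' : ∀ x : Phat, (((k * a) (Subgroup.inclusion hPQh x) : ↥(qhat p F Phat)) : Ω) =
      ((α x : Phat) : Ω) := by
    intro x
    obtain ⟨k', hk', hkk'⟩ := hk
    have e1 : stabRes F hPQh k' = 1 := MonoidHom.mem_ker.mp hk'
    have e2 := congrArg (fun m : MulAut Phat => ((m (α x) : Phat) : Ω)) e1
    simp only [stabRes_apply, MulAut.one_apply] at e2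
    rw [MulAut.mul_apply, ← hkk']
    have e3 : a (Subgroup.inclusion hPQh x) = Subgroup.inclusion hPQh (α x) :=
      Subtype.ext (hρax x)
    rw [e3]
    exact e2
  set at' : ↥(qhat p F Phat) →* Ω := (qhat p F Phat).subtype.comp (k * a).toMonoidHom with hat'def
  have hat' : at' ∈ F.Hom (qhat p F Phat) := (Fusion.mem_autGroup_iff F hQhS (k * a)).mp ha'.1
  have hat'r : at'.range = qhat p F Phat := range_subtype_comp (k * a)
  have hle : extender S Phat αt ≤ extender S (qhat p F Phat) at' := by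
    intro g hg
    have hgnp : g ∈ npair S Phat (qhat p F Phat) := hNαnp hg
    have hgS : g ∈ S := npair_le_S _ _ hgnp
    have hgN : g ∈ Subgroup.normalizer ((qhat p F Phat : Subgroup Ω) : Set Ω) :=
      (Subgroup.mem_inf.mp (Subgroup.mem_inf.mp hgnp).2).2
    apply Subgroup.subset_closure
    refine ⟨hgS, hgN, ?_⟩
    set n : Subgroup.normalizer ((qhat p F Phat : Subgroup Ω) : Set Ω) := ⟨g, hgN⟩ with hn
    set b : MulAut ↥(qhat p F Phat) := a * conjAutHom (qhat p F Phat) n * a⁻¹ with hb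
    have hbY : b ∈ Y := by
      refine ⟨n, ?_, rfl⟩
      rw [SetLike.mem_coe, Subgroup.mem_subgroupOf]
      exact hg
    have h1 : (MulAut.conj k) b ∈ autInducedBy S (qhat p F Phat) := (hkY ⟨b, hbY, rfl⟩).2
    rw [mem_autInducedBy_iff] at h1
    obtain ⟨h, hhS, hh⟩ := h1
    refine ⟨h, hhS, ?_⟩
    intro x hx
    have h2 := hh ((k * a) x)
    show (((k * a) ⟨g * x * g⁻¹, hx⟩ : ↥(qhat p F Phat)) : Ω) = h * (((k * a) x : ↥(qhat p F Phat)) : Ω) * h⁻¹
    rw [← h2, MulAut.conj_apply, hb]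
    simp only [MulAut.mul_apply, MulAut.inv_apply_self]
    rfl
  obtain ⟨ψ', hψ', hext⟩ := hgood.2.2.1.2 (qhat p F Phat) at' hat' hat'r
  refine ⟨ψ'.comp (Subgroup.inclusion hle), Fusion.restrict_mem F hψ' hle, fun x hP hN => ?_⟩
  have h3 := hext x (hPQh hP) (hle hN)
  show ψ' ⟨x, hle hN⟩ = _
  rw [h3]
  exact hρa' ⟨x, hP⟩

end Cfsg.Agent.Helper6.Bcglo
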