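import Mathlib
import Cfsg.Agent.Helper6.BcgloJ

set_option autoImplicit false

/-!
Saturation criterion (S5110): receptivity of `P̂`, the inductive step, and the criterion itself
(Broto–Castellana–Grodal–Levi–Oliver, Theorem 2.2).
-/

namespace Cfsg.Agent.Helper6.Bcglo

open Cfsg Cfsg.FusionSystem Cfsg.Agent.Lead

variable {Ω : Type*} [Group Ω] {S : Subgroup Ω}

/-- **Stage 2c**: `P̂` is receptive. -/
theorem receptive_top [Finite S] {p : ℕ} [Fact p.Prime] {F : FusionSystem S}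
    {ℋ : Set (Subgroup Ω)} {P₀ Phat : Subgroup Ω} (st : Step p F ℋ P₀) (hstar : StarHyp p F P₀)
    (htop : IsTop F P₀ Phat) (hgood : IsGood p F P₀ Phat (qhat p F Phat)) :
    F.IsReceptive Phat := by
  have hne : P₀ ≠ S := ne_top_of_starHyp hstar
  have hPhatS : Phat ≤ S := Fusion.isConj_tgt_le F htop.1
  refine ⟨hPhatS, fun P φ hφ hr => ?_⟩
  have hPconj : F.IsConj P₀ P :=
    Fusion.isConj_trans F htop.1 (Fusion.isConj_symm F ⟨φ, hφ, hr⟩)
  have hPS : P ≤ S := Fusion.src_le F hφ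
  obtain ⟨ψP, hψP, hψPP⟩ := leHat_all st hne htop P hPconj
  have hPN : P ≤ normalizerIn S P := Fusion.le_normalizerIn hPS
  have hres := Fusion.restrict_mem F hψP hPN
  have hresr : (ψP.comp (Subgroup.inclusion hPN)).range = Phat := by
    rw [range_restrict]
    exact hψPP
  set eψ := Fusion.equivOfRange (ψP.comp (Subgroup.inclusion hPN)) (F.injective_of_mem hres) hresr
    with heψ
  set eφ := Fusion.equivOfRange φ (F.injective_of_mem hφ) hr with heφ
  have hisoψ : IsIso F eψ := IsIso.of_hom hres hresr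
  have hisoφ : IsIso F eφ := IsIso.of_hom hφ hr
  set α : MulAut Phat := eψ.symm.trans eφ with hαdef
  have hα : α ∈ F.autGroup Phat :=
    (isIso_iff_mem_autGroup F hPhatS α).mp (hisoψ.symm.trans hisoφ)
  have hαψ : ∀ x : P, ((α (eψ x) : Phat) : Ω) = φ x := by
    intro x
    show ((eφ (eψ.symm (eψ x)) : Phat) : Ω) = φ x
    rw [MulEquiv.symm_apply_apply]
    rfl
  obtain ⟨β, hβ, hβext⟩ := receptive_aut st hstar htop hgood α hα
  have hNφN : extender S P φ ≤ normalizerIn S P := extender_le_normalizerIn P φ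
  have hmaps : ∀ g : ↥(extender S P φ), (ψP.comp (Subgroup.inclusion hNφN)) g ∈
      extender S Phat (Phat.subtype.comp α.toMonoidHom) := by
    intro g
    obtain ⟨hgS, hgN, h, hhS, hh⟩ := (mem_extender_iff P φ g.1).mp g.2
    rw [mem_extender_iff]
    have hgNS : g.1 ∈ normalizerIn S P := hNφN g.2
    refine ⟨Fusion.map_mem F hψP _, ?_, h, hhS, fun y hy => ?_⟩
    · have := map_mem_normalizer_img ψP P ⟨g.1, hgNS⟩ hgN
      rwa [hψPP] at this
    · have hyx : ψP ⟨(eψ.symm y : P).1, hPN (eψ.symm y : P).2⟩ = (y : Ω) :=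
        Fusion.map_equivOfRange_symm (ψP.comp (Subgroup.inclusion hPN)) (F.injective_of_mem hres)
          hresr y
      have hgx : g.1 * ((eψ.symm y : P) : Ω) * g.1⁻¹ ∈ P :=
        (Subgroup.mem_normalizer_iff.mp hgN _).mp (eψ.symm y : P).2
      have e1 : (⟨(ψP.comp (Subgroup.inclusion hNφN)) g * (y : Ω) *
          ((ψP.comp (Subgroup.inclusion hNφN)) g)⁻¹, hy⟩ : Phat) =
          eψ ⟨g.1 * ((eψ.symm y : P) : Ω) * g.1⁻¹, hgx⟩ := by
        apply Subtype.ext
        show ψP ⟨g.1, hgNS⟩ * (y : Ω) * (ψP ⟨g.1, hgNS⟩)⁻¹ = ψP ⟨g.1 * ((eψ.symm y : P) : Ω) * g.1⁻¹, _⟩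
        rw [← hyx, ← map_inv, ← map_mul, ← map_mul]
        rfl
      show ((α ⟨_, hy⟩ : Phat) : Ω) = h * ((α y : Phat) : Ω) * h⁻¹
      rw [e1, hαψ, hh (eψ.symm y) hgx]
      have e2 : ((α y : Phat) : Ω) = φ (eψ.symm y) := by
        have := hαψ (eψ.symm y)
        rwa [MulEquiv.apply_symm_apply] at this
      rw [e2]
  refine ⟨β.comp ((ψP.comp (Subgroup.inclusion hNφN)).codRestrict _ hmaps),
    F.comp_mem (Fusion.restrict_mem F hψP hNφN) hβ hmaps, fun x hP hN => ?_⟩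
  have hmem : ψP ⟨x, hNφN hN⟩ ∈ Phat := by
    rw [← hψPP]
    exact map_mem_img ψP _ hP
  have h1 := hβext (ψP ⟨x, hNφN hN⟩) hmem (hmaps ⟨x, hN⟩)
  show β ⟨ψP ⟨x, hNφN hN⟩, _⟩ = φ ⟨x, hP⟩
  rw [h1]
  have e : (⟨ψP ⟨x, hNφN hN⟩, hmem⟩ : Phat) = eψ ⟨x, hP⟩ := Subtype.ext rfl
  rw [e, hαψ]

/-- The inductive step: the class of `P₀` contains a fully automized receptive member. -/
theorem step_lemma [Finite S] {p : ℕ} [Fact p.Prime] {F : FusionSystem S}
    {ℋ : Set (Subgroup Ω)} {P₀ : Subgroup Ω} (st : Step p F ℋ P₀) (hstar : StarHyp p F P₀) :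
    ∃ Q, F.IsConj P₀ Q ∧ F.IsFullyAutomized p Q ∧ F.IsReceptive Q := by
  obtain ⟨Phat, htop, hgood⟩ := exists_top_good st hstar
  exact ⟨Phat, htop.1, fullyAutomized_top st hstar htop hgood, receptive_top st hstar htop hgood⟩

/-- **BCGLO Theorem 2.2** (AKO I.3.10): the saturation criterion. -/
theorem saturated_of_generated [Finite S] (p : ℕ) [Fact p.Prime] (hS : IsPGroup p S)
    (F : FusionSystem S) (ℋ : Set (Subgroup Ω)) (hℋS : ∀ P ∈ ℋ, P ≤ S)
    (hℋconj : ∀ P ∈ ℋ, ∀ Q, F.IsConj P Q → Q ∈ ℋ)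
    (hsat : ∀ P ∈ ℋ, ∃ Q, F.IsConj P Q ∧ F.IsFullyAutomized p Q ∧ F.IsReceptive Q)
    (hgen : ∀ E : FusionSystem S, (∀ P ∈ ℋ, F.Hom P ⊆ E.Hom P) → F ≤ E)
    (hstar : ∀ P : Subgroup Ω, F.IsCentric P → P ∉ ℋ → ∃ Q, F.IsConj P Q ∧
      ¬ (autInducedBy S Q ⊓ (pCore p ↥(F.autGroup Q)).map (F.autGroup Q).subtype ≤ Inn Q)) :
    F.IsSaturated p := by
  have key : ∀ n : ℕ, ∀ P : Subgroup Ω, P ≤ S → Nat.card S - Nat.card P = n →
      ∃ Q, F.IsConj P Q ∧ F.IsFullyAutomized p Q ∧ F.IsReceptive Q := by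
    intro n
    induction n using Nat.strong_induction_on with
    | _ n ih =>
    intro P hPS hn
    by_cases hPℋ : P ∈ ℋ
    · exact hsat P hPℋ
    have hPcard : Nat.card P ≤ Nat.card S := card_le_card_S hPS
    have st : Step p F (ℋ ∪ {Q | Q ≤ S ∧ Nat.card P < Nat.card Q}) P :=
      { hS := hS
        sub := by
          rintro Q (hQ | hQ)
          · exact hℋS Q hQ
          · exact hQ.1
        conj := by
          rintro Q (hQ | hQ) Q' hQQ'
          · exact Or.inl (hℋconj Q hQ Q' hQQ')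
          · refine Or.inr ⟨Fusion.isConj_tgt_le F hQQ', ?_⟩
            rw [← Fusion.card_eq_of_isConj F hQQ']
            exact hQ.2
        sat := by
          rintro Q (hQ | hQ)
          · exact hsat Q hQ
          · have hQcard : Nat.card Q ≤ Nat.card S := card_le_card_S hQ.1
            have hlt := hQ.2
            exact ih (Nat.card S - Nat.card Q) (by omega) Q hQ.1 rfl
        gen := fun E hE => hgen E (fun Q hQ => hE Q (Or.inl hQ))
        le := hPS
        nmem := by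
          rintro (h | h)
          · exact hPℋ h
          · exact lt_irrefl _ h.2
        big := fun Q hQS hlt => Or.inr ⟨hQS, hlt⟩ }
    have hst : StarHyp p F P := fun hc => hstar P hc hPℋ
    exact step_lemma st hst
  intro P hPS
  exact key _ P hPS rfl

end Cfsg.Agent.Helper6.Bcglo
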