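import Mathlib
import Cfsg.Prelude.Def_FusionComponents
import Cfsg.Agent.Lead.FusionPResidual
import Cfsg.Agent.Lead.FusionHypAct
import Cfsg.Agent.Lead.FusionInvariant
import Cfsg.Agent.Lead.FusionWeak
import Cfsg.Agent.Lead.ConjAutDef

set_option autoImplicit false
set_option linter.style.haveILetI false

/-!
# Saturated subsystems of `p`-power index over a normal subgroup are normal (S5120), part A

Strong closure of `T`, restriction homomorphisms of automorphism groups, and invariance of a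
saturated subsystem of `p`-power index under `Aut_F(T)`.
-/

namespace Cfsg.Agent.Helper6.PPowNorm

open Cfsg Cfsg.FusionSystem Cfsg.Agent.Lead

variable {Ω : Type*} [Group Ω] {S : Subgroup Ω}

/-- A subgroup of `S`, normal in `S`, that contains the hyperfocal subgroup is strongly closed. -/
theorem stronglyClosed_of_hyperfocal_le [Finite S] (p : ℕ) [Fact p.Prime] (hS : IsPGroup p S)
    (F : FusionSystem S) (hF : F.IsSaturated p) {T : Subgroup Ω} (hTS : T ≤ S)
    (hTn : ∀ s ∈ S, ∀ t ∈ T, s * t * s⁻¹ ∈ T) (hT : F.hyperfocalSubgroup p ≤ T) :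
    F.StronglyClosed T := by
  refine ⟨hTS, fun R hR φ hφ x => ?_⟩
  have key := Fusion.pred_of_alperin p hS F hF
    (fun P φ => ∀ x : P, (x : Ω) ∈ T ↔ φ x ∈ T) ?_ ?_ ?_ ?_ hφ
  · exact (key x).mp (hR x.2)
  · intro P g _ hg x
    show (x : Ω) ∈ T ↔ g * (x : Ω) * g⁻¹ ∈ T
    constructor
    · intro hx
      exact hTn g hg _ hx
    · intro hx
      have := hTn g⁻¹ (S.inv_mem hg) _ hx
      have h2 : g⁻¹ * (g * (x : Ω) * g⁻¹) * g⁻¹⁻¹ = x := by group
      rwa [h2] at this
  · intro P Q φ ψ h _ _ hPφ hPψ x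
    rw [hPφ x]
    exact hPψ ⟨φ x, h x⟩
  · intro P φ ψ _ hPφ _ hinv
    rintro ⟨_, x, rfl⟩
    rw [hinv x]
    exact (hPφ x).symm
  · intro P hPS β hβ x
    have h1 := hT (Fusion.mem_hyperfocal F p hPS β hβ x)
    show (x : Ω) ∈ _ ↔ (((β : MulAut P) x : P) : Ω) ∈ _
    constructor
    · intro hx
      have := Subgroup.mul_mem _ hx h1
      rwa [mul_inv_cancel_left] at this
    · intro hx
      have := Subgroup.mul_mem _ hx (Subgroup.inv_mem _ h1)
      rw [mul_inv_rev, inv_inv, ← mul_assoc, mul_inv_cancel, one_mul] at this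
      exact this

/-- The restriction homomorphism `Aut_F(P) → Aut_F(R)` for an invariant subgroup `R ≤ P`. -/
noncomputable def resAut (F : FusionSystem S) {P R : Subgroup Ω} (hPS : P ≤ S) (hRP : R ≤ P)
    [Finite R]
    (hR : ∀ β ∈ F.autGroup P, ∀ x : P, (x : Ω) ∈ R → ((β x : P) : Ω) ∈ R) :
    F.autGroup P →* F.autGroup R :=
  MonoidHom.mk'
    (fun β => ⟨Classical.choose (Fusion.exists_restrict_aut F hPS hRP β.1 β.2 (hR β.1 β.2)),
      (Classical.choose_spec (Fusion.exists_restrict_aut F hPS hRP β.1 β.2 (hR β.1 β.2))).1⟩)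
    (by
      intro β₁ β₂
      apply Subtype.ext
      apply MulEquiv.ext
      intro x
      apply Subtype.ext
      have h12 := (Classical.choose_spec
        (Fusion.exists_restrict_aut F hPS hRP (β₁ * β₂).1 (β₁ * β₂).2 (hR _ (β₁ * β₂).2))).2
      have h1 := (Classical.choose_spec
        (Fusion.exists_restrict_aut F hPS hRP β₁.1 β₁.2 (hR _ β₁.2))).2
      have h2 := (Classical.choose_spec
        (Fusion.exists_restrict_aut F hPS hRP β₂.1 β₂.2 (hR _ β₂.2))).2
      show ((Classical.choose (Fusion.exists_restrict_aut F hPS hRP (β₁ * β₂).1 (β₁ * β₂).2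
        (hR _ (β₁ * β₂).2)) x : R) : Ω) = _
      rw [h12 x]
      show _ = ((Classical.choose (Fusion.exists_restrict_aut F hPS hRP β₁.1 β₁.2
        (hR _ β₁.2)) (Classical.choose (Fusion.exists_restrict_aut F hPS hRP β₂.1 β₂.2
        (hR _ β₂.2)) x) : R) : Ω)
      rw [h1]
      show (((β₁ : MulAut P) ((β₂ : MulAut P) ⟨x, hRP x.2⟩) : P) : Ω) = _
      congr 2
      apply Subtype.ext
      exact (h2 x).symm)

theorem resAut_apply (F : FusionSystem S) {P R : Subgroup Ω} (hPS : P ≤ S) (hRP : R ≤ P)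
    [Finite R]
    (hR : ∀ β ∈ F.autGroup P, ∀ x : P, (x : Ω) ∈ R → ((β x : P) : Ω) ∈ R)
    (β : F.autGroup P) (x : R) :
    (((resAut F hPS hRP hR β : F.autGroup R) : MulAut R) x : Ω) =
      (((β : MulAut P) ⟨x, hRP x.2⟩ : P) : Ω) :=
  (Classical.choose_spec (Fusion.exists_restrict_aut F hPS hRP β.1 β.2 (hR β.1 β.2))).2 x

/-- Restriction sends `O^p(Aut_F(P))` into `O^p(Aut_F(R))`. -/
theorem resAut_mem_pResidual (F : FusionSystem S) (p : ℕ) {P R : Subgroup Ω} (hPS : P ≤ S)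
    (hRP : R ≤ P) [Finite R]
    (hR : ∀ β ∈ F.autGroup P, ∀ x : P, (x : Ω) ∈ R → ((β x : P) : Ω) ∈ R)
    (β : F.autGroup P) (hβ : β ∈ pResidual p (F.autGroup P)) :
    resAut F hPS hRP hR β ∈ pResidual p (F.autGroup R) :=
  pResidual_map_le p (resAut F hPS hRP hR) ⟨β, hβ, rfl⟩

end Cfsg.Agent.Helper6.PPowNorm
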