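import Mathlib
import Cfsg.Agent.Helper6.PPowNormA

set_option autoImplicit false
set_option linter.style.haveILetI false

/-!
# S5120, part B: invariance of a saturated subsystem of `p`-power index under `Aut_F(T)`
-/

namespace Cfsg.Agent.Helper6.PPowNorm

open Cfsg Cfsg.FusionSystem Cfsg.Agent.Lead

variable {Ω : Type*} [Group Ω] {S : Subgroup Ω}

/-- The image of `P` under an automorphism `α` of `T` (in the form used by `IsInvariantIn`). -/
abbrev autImg {T : Subgroup Ω} (α : MulAut T) (P : Subgroup Ω) : Subgroup Ω :=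
  (P.subgroupOf T).map (T.subtype.comp α.toMonoidHom)

/-- The restriction of `α ∈ Aut(T)` to `P ≤ T`, as a map into the ambient group. -/
def autRes {T : Subgroup Ω} (α : MulAut T) {P : Subgroup Ω} (hPT : P ≤ T) : P →* Ω :=
  (T.subtype.comp α.toMonoidHom).comp (Subgroup.inclusion hPT)

theorem autRes_apply {T : Subgroup Ω} (α : MulAut T) {P : Subgroup Ω} (hPT : P ≤ T) (x : P) :
    autRes α hPT x = ((α ⟨x, hPT x.2⟩ : T) : Ω) := rfl

theorem autRes_mem (F : FusionSystem S) {T : Subgroup Ω} (hTS : T ≤ S) (α : MulAut T)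
    (hα : α ∈ F.autGroup T) {P : Subgroup Ω} (hPT : P ≤ T) : autRes α hPT ∈ F.Hom P :=
  Fusion.restrict_mem F ((Fusion.mem_autGroup_iff F hTS α).mp hα) hPT

theorem mem_autImg_iff {T : Subgroup Ω} (α : MulAut T) {P : Subgroup Ω} (hPT : P ≤ T) (y : Ω) :
    y ∈ autImg α P ↔ ∃ x : P, ((α ⟨x, hPT x.2⟩ : T) : Ω) = y := by
  constructor
  · rintro ⟨t, ht, rfl⟩
    rw [SetLike.mem_coe, Subgroup.mem_subgroupOf] at ht
    exact ⟨⟨t.1, ht⟩, rfl⟩
  · rintro ⟨x, rfl⟩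
    refine ⟨⟨x, hPT x.2⟩, ?_, rfl⟩
    rw [SetLike.mem_coe, Subgroup.mem_subgroupOf]
    exact x.2

theorem autImg_le {T : Subgroup Ω} (α : MulAut T) (P : Subgroup Ω) : autImg α P ≤ T := by
  rintro _ ⟨t, -, rfl⟩
  exact (α t).2

theorem autRes_range {T : Subgroup Ω} (α : MulAut T) {P : Subgroup Ω} (hPT : P ≤ T) :
    (autRes α hPT).range = autImg α P := by
  ext y
  rw [mem_autImg_iff α hPT]
  constructor
  · rintro ⟨x, rfl⟩
    exact ⟨x, rfl⟩
  · rintro ⟨x, rfl⟩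
    exact ⟨x, rfl⟩

theorem mem_autImg {T : Subgroup Ω} (α : MulAut T) {P : Subgroup Ω} (hPT : P ≤ T) (x : P) :
    ((α ⟨x, hPT x.2⟩ : T) : Ω) ∈ autImg α P :=
  (mem_autImg_iff α hPT _).mpr ⟨x, rfl⟩

/-- The invariance predicate. -/
def InvPred {T : Subgroup Ω} (E : FusionSystem T) (F : FusionSystem S) (P : Subgroup Ω)
    (φ : P →* Ω) : Prop :=
  ∀ (hPT : P ≤ T) (hφT : ∀ x : P, φ x ∈ T) (α : MulAut T), α ∈ F.autGroup T →
    ∃ χ ∈ E.Hom (autImg α P), ∀ (x : P) (hαx : ((α ⟨x, hPT x.2⟩ : T) : Ω) ∈ autImg α P),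
      χ ⟨_, hαx⟩ = ((α ⟨φ x, hφT x⟩ : T) : Ω)

theorem autGroup_le_of_subsystem {T : Subgroup Ω} (E : FusionSystem T) (F : FusionSystem S)
    (hEF : E.IsSubsystemOf F) (P : Subgroup Ω) : E.autGroup P ≤ F.autGroup P := by
  unfold FusionSystem.autGroup
  apply Subgroup.closure_mono
  intro β hβ
  exact hEF P hβ

/-- A saturated subsystem of `p`-power index over `T` is invariant under `Aut_F(T)`. -/
theorem invariant_of_ppower [Finite S] (p : ℕ) [Fact p.Prime] (hS : IsPGroup p S)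
    (F : FusionSystem S) {T : Subgroup Ω} (E : FusionSystem T) (hEs : E.IsSaturated p)
    (hEi : E.HasPPowerIndexIn F p) {P : Subgroup Ω} {φ : P →* Ω} (hφ : φ ∈ E.Hom P) :
    InvPred E F P φ := by
  have hTS : T ≤ S := Fusion.le_of_isSubsystemOf E F hEi.1
  haveI hTfin : Finite T := Fusion.finite_of_le hTS
  have hTp : IsPGroup p T := hS.to_le hTS
  refine Fusion.pred_of_alperin p hTp E hEs (InvPred E F) ?_ ?_ ?_ ?_ hφ
  · -- conjugation
    intro P g _ hg hPT hφT α hα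
    set ag : Ω := ((α ⟨g, hg⟩ : T) : Ω) with hag
    refine ⟨conjHom (autImg α P) ag, E.conj_mem (autImg_le α P) (α ⟨g, hg⟩).2, ?_⟩
    intro x hαx
    show ag * ((α ⟨x, hPT x.2⟩ : T) : Ω) * ag⁻¹ = _
    have h1 : (⟨conjHom P g x, hφT x⟩ : T) = ⟨g, hg⟩ * ⟨x, hPT x.2⟩ * ⟨g, hg⟩⁻¹ := by
      apply Subtype.ext
      rfl
    rw [h1, map_mul, map_mul, map_inv]
    rfl
  · -- composition
    intro P Q φ ψ h hφE hψE hPφ hPψ hPT hT' α hα
    have hQT : Q ≤ T := Fusion.src_le E hψE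
    have hφT : ∀ x : P, φ x ∈ T := fun x => hQT (h x)
    have hψT : ∀ y : Q, ψ y ∈ T := fun y => Fusion.map_mem E hψE y
    obtain ⟨χφ, hχφ, hχφx⟩ := hPφ hPT hφT α hα
    obtain ⟨χψ, hχψ, hχψx⟩ := hPψ hQT hψT α hα
    have hmap : ∀ y : ↥(autImg α P), χφ y ∈ autImg α Q := by
      intro y
      obtain ⟨x, hx⟩ := (mem_autImg_iff α hPT _).mp y.2
      have hy : y = ⟨_, mem_autImg α hPT x⟩ := Subtype.ext hx.symm
      rw [hy, hχφx x]
      exact mem_autImg α hQT ⟨φ x, h x⟩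
    refine ⟨χψ.comp (χφ.codRestrict _ hmap), E.comp_mem hχφ hχψ hmap, ?_⟩
    intro x hαx
    show χψ ⟨χφ ⟨_, hαx⟩, hmap _⟩ = _
    have h1 : (⟨χφ ⟨_, hαx⟩, hmap _⟩ : ↥(autImg α Q)) =
        ⟨_, mem_autImg α hQT ⟨φ x, h x⟩⟩ := Subtype.ext (hχφx x hαx)
    rw [h1, hχψx ⟨φ x, h x⟩]
    rfl
  · -- inverses
    intro P φ ψ hφE hPφ hψE hinv hRT hψT α hα
    have hPT : P ≤ T := Fusion.src_le E hφE
    have hφT : ∀ x : P, φ x ∈ T := fun x => Fusion.map_mem E hφE x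
    obtain ⟨χφ, hχφ, hχφx⟩ := hPφ hPT hφT α hα
    obtain ⟨χ', hχ', hχ'x⟩ := E.inv_mem hχφ
    have hrange : χφ.range = autImg α φ.range := by
      ext z
      rw [mem_autImg_iff α hRT]
      constructor
      · rintro ⟨y, rfl⟩
        obtain ⟨x, hx⟩ := (mem_autImg_iff α hPT _).mp y.2
        have hy : y = ⟨_, mem_autImg α hPT x⟩ := Subtype.ext hx.symm
        rw [hy, hχφx x]
        exact ⟨⟨φ x, ⟨x, rfl⟩⟩, rfl⟩
      · rintro ⟨⟨_, x, rfl⟩, rfl⟩
        exact ⟨⟨_, mem_autImg α hPT x⟩, hχφx x _⟩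
    obtain ⟨χ'', hχ'', hχ''x⟩ := Fusion.exists_hom_of_eq E hrange hχ'
    refine ⟨χ'', hχ'', ?_⟩
    rintro ⟨_, x, rfl⟩ hαx
    have hmem : ((α ⟨φ x, hφT x⟩ : T) : Ω) ∈ χφ.range := by rw [hrange]; exact hαx
    rw [hχ''x _ hmem hαx]
    have h1 : (⟨((α ⟨φ x, hφT x⟩ : T) : Ω), hmem⟩ : χφ.range) =
        ⟨χφ ⟨_, mem_autImg α hPT x⟩, ⟨_, rfl⟩⟩ := Subtype.ext (hχφx x _).symm
    rw [h1, hχ'x]
    show ((α ⟨x, hPT x.2⟩ : T) : Ω) = ((α ⟨ψ ⟨φ x, ⟨x, rfl⟩⟩, _⟩ : T) : Ω)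
    congr 2
    apply Subtype.ext
    exact (hinv x).symm
  · -- `O^p(Aut_E(P))`
    intro P hPT' β hβ hPT hφT α hα
    have haF : autRes α hPT ∈ F.Hom P := autRes_mem F hTS α hα hPT
    have hr : (autRes α hPT).range = autImg α P := autRes_range α hPT
    have hImgT : autImg α P ≤ T := autImg_le α P
    set f := Fusion.autGroupMap F haF hr with hf
    set e := Fusion.equivOfRange (autRes α hPT) (F.injective_of_mem haF) hr with he
    have hEF : E.autGroup P ≤ F.autGroup P := autGroup_le_of_subsystem E F hEi.1 P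
    have hβ' : Subgroup.inclusion hEF β ∈ pResidual p (F.autGroup P) :=
      pResidual_map_le p (Subgroup.inclusion hEF) ⟨β, hβ, rfl⟩
    have hfβ : f (Subgroup.inclusion hEF β) ∈ pResidual p (F.autGroup (autImg α P)) :=
      pResidual_map_le p f ⟨_, hβ', rfl⟩
    have hmemE : ((f (Subgroup.inclusion hEF β) : F.autGroup (autImg α P)) :
        MulAut ↥(autImg α P)) ∈ E.autGroup (autImg α P) :=
      hEi.2.2 (autImg α P) hImgT ⟨_, hfβ, rfl⟩
    refine ⟨_, (Fusion.mem_autGroup_iff E hImgT _).mp hmemE, ?_⟩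
    intro x hαx
    have hex : (⟨_, hαx⟩ : ↥(autImg α P)) = e x := Subtype.ext rfl
    rw [hex]
    show (((f (Subgroup.inclusion hEF β) : MulAut _) (e x) : ↥(autImg α P)) : Ω) = _
    have h1 : ((f (Subgroup.inclusion hEF β) : MulAut _) (e x)) =
        e ((β : MulAut P) (e.symm (e x))) := rfl
    rw [h1, MulEquiv.symm_apply_apply]
    rfl

end Cfsg.Agent.Helper6.PPowNorm
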