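import Mathlib
import Cfsg.Agent.Helper6.PPowNormB

set_option autoImplicit false
set_option linter.style.haveILetI false

/-!
# S5120, part C: the Frattini condition
-/

namespace Cfsg.Agent.Helper6.PPowNorm

open Cfsg Cfsg.FusionSystem Cfsg.Agent.Lead

variable {Ω : Type*} [Group Ω] {S : Subgroup Ω}

/-- Backward transport: for `α ∈ Aut_F(T)` mapping `R'` into `R` and `ψ ∈ Hom_E(R, ·)`, the map
`α⁻¹ ψ α` on `R'` is a map of `E`. -/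
theorem transport_back (F : FusionSystem S) {T : Subgroup Ω} (E : FusionSystem T)
    (hInv : ∀ {P : Subgroup Ω} {φ : P →* Ω}, φ ∈ E.Hom P → InvPred E F P φ)
    (α : MulAut T) (hα : α ∈ F.autGroup T) {R R' : Subgroup Ω} (hR'T : R' ≤ T)
    (hR' : ∀ r' : R', ((α ⟨r', hR'T r'.2⟩ : T) : Ω) ∈ R) {ψ : R →* Ω} (hψ : ψ ∈ E.Hom R) :
    ∃ χ ∈ E.Hom R', ∀ r' : R', ∃ h : χ r' ∈ T,
      ((α ⟨χ r', h⟩ : T) : Ω) = ψ ⟨_, hR' r'⟩ := by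
  have hRT : R ≤ T := Fusion.src_le E hψ
  have hψT : ∀ y : R, ψ y ∈ T := fun y => Fusion.map_mem E hψ y
  have hle : autImg α R' ≤ R := by
    intro y hy
    obtain ⟨r', rfl⟩ := (mem_autImg_iff α hR'T y).mp hy
    exact hR' r'
  have hψ'' := Fusion.restrict_mem E hψ hle
  have hImgT : autImg α R' ≤ T := autImg_le α R'
  have hψ''T : ∀ y : ↥(autImg α R'), (ψ.comp (Subgroup.inclusion hle)) y ∈ T :=
    fun y => hψT _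
  obtain ⟨χ₀, hχ₀, hχ₀x⟩ := hInv hψ'' hImgT hψ''T α⁻¹ (Subgroup.inv_mem _ hα)
  have heq : autImg α⁻¹ (autImg α R') = R' := by
    ext z
    rw [mem_autImg_iff α⁻¹ hImgT]
    constructor
    · rintro ⟨⟨y, hy⟩, rfl⟩
      obtain ⟨r', rfl⟩ := (mem_autImg_iff α hR'T y).mp hy
      have : (α⁻¹ ⟨((α ⟨r', hR'T r'.2⟩ : T) : Ω), hImgT hy⟩ : T) = ⟨r', hR'T r'.2⟩ := by
        have h1 : (⟨((α ⟨r', hR'T r'.2⟩ : T) : Ω), hImgT hy⟩ : T) = α ⟨r', hR'T r'.2⟩ :=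
          Subtype.ext rfl
        rw [h1]
        exact MulAut.inv_apply_self _ _ _
      rw [this]
      exact r'.2
    · intro hz
      refine ⟨⟨_, mem_autImg α hR'T ⟨z, hz⟩⟩, ?_⟩
      have h1 : (⟨((α ⟨z, hR'T hz⟩ : T) : Ω), hImgT (mem_autImg α hR'T ⟨z, hz⟩)⟩ : T) =
          α ⟨z, hR'T hz⟩ := Subtype.ext rfl
      rw [h1]
      have := MulAut.inv_apply_self _ α (⟨z, hR'T hz⟩ : T)
      rw [this]
  obtain ⟨χ, hχ, hχx⟩ := Fusion.exists_hom_of_eq E heq hχ₀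
  refine ⟨χ, hχ, fun r' => ?_⟩
  set y : ↥(autImg α R') := ⟨_, mem_autImg α hR'T r'⟩ with hy
  have h1 : (α⁻¹ ⟨(y : Ω), hImgT y.2⟩ : T) = ⟨r', hR'T r'.2⟩ := by
    have h2 : (⟨(y : Ω), hImgT y.2⟩ : T) = α ⟨r', hR'T r'.2⟩ := Subtype.ext rfl
    rw [h2]
    exact MulAut.inv_apply_self _ _ _
  have hmem : ((α⁻¹ ⟨(y : Ω), hImgT y.2⟩ : T) : Ω) ∈ autImg α⁻¹ (autImg α R') :=
    mem_autImg α⁻¹ hImgT y
  have h3 := hχ₀x y hmem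
  have h4 : χ r' = χ₀ ⟨_, hmem⟩ := by
    have h5 : ((α⁻¹ ⟨(y : Ω), hImgT y.2⟩ : T) : Ω) = (r' : Ω) := by rw [h1]
    have h6 := hχx _ hmem (by rw [h5]; exact r'.2)
    rw [← h6]
    congr 1
    exact Subtype.ext h5.symm
  have hval : χ r' = ((α⁻¹ ⟨(ψ.comp (Subgroup.inclusion hle)) y, hψ''T y⟩ : T) : Ω) := by
    rw [h4, h3]
  refine ⟨by rw [hval]; exact (α⁻¹ _).2, ?_⟩
  have h7 : (⟨χ r', by rw [hval]; exact (α⁻¹ _).2⟩ : T) =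
      α⁻¹ ⟨(ψ.comp (Subgroup.inclusion hle)) y, hψ''T y⟩ := Subtype.ext hval
  rw [h7]
  have := MulAut.apply_inv_self _ α (⟨(ψ.comp (Subgroup.inclusion hle)) y, hψ''T y⟩ : T)
  rw [this]
  rfl

/-- The Frattini predicate. -/
def FratPred {T : Subgroup Ω} (E : FusionSystem T) (F : FusionSystem S) (P : Subgroup Ω)
    (φ : P →* Ω) : Prop :=
  ∃ α ∈ F.autGroup T, ∃ φ₀ ∈ E.Hom (P ⊓ T), ∀ (x : ↥(P ⊓ T)) (hx : φ₀ x ∈ T),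
    φ ⟨x, (Subgroup.mem_inf.mp x.2).1⟩ = ((α ⟨φ₀ x, hx⟩ : T) : Ω)

end Cfsg.Agent.Helper6.PPowNorm

namespace Cfsg.Agent.Helper6.PPowNorm

open Cfsg Cfsg.FusionSystem Cfsg.Agent.Lead

variable {Ω : Type*} [Group Ω] {S : Subgroup Ω}

theorem mem_normalizer_of_forall_conj {T : Subgroup Ω}
    (hTn : ∀ s ∈ S, ∀ t ∈ T, s * t * s⁻¹ ∈ T) {g : Ω} (hg : g ∈ S) :
    g ∈ Subgroup.normalizer (T : Set Ω) := by
  rw [Subgroup.mem_normalizer_iff]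
  intro h
  constructor
  · exact hTn g hg h
  · intro hh
    have := hTn g⁻¹ (S.inv_mem hg) _ hh
    have h2 : g⁻¹ * (g * h * g⁻¹) * g⁻¹⁻¹ = h := by group
    rwa [h2] at this

/-- Every map of `F` restricted to `T` is an element of `Aut_F(T)` composed with a map of `E`. -/
theorem frattini_of_ppower [Finite S] (p : ℕ) [Fact p.Prime] (hS : IsPGroup p S)
    (F : FusionSystem S) (hF : F.IsSaturated p) {T : Subgroup Ω} (E : FusionSystem T)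
    (hEs : E.IsSaturated p) (hEi : E.HasPPowerIndexIn F p)
    (hTn : ∀ s ∈ S, ∀ t ∈ T, s * t * s⁻¹ ∈ T)
    {P : Subgroup Ω} {φ : P →* Ω} (hφ : φ ∈ F.Hom P) : FratPred E F P φ := by
  have hTS : T ≤ S := Fusion.le_of_isSubsystemOf E F hEi.1
  haveI hTfin : Finite T := Fusion.finite_of_le hTS
  have hSC : F.StronglyClosed T :=
    stronglyClosed_of_hyperfocal_le p hS F hF hTS hTn hEi.2.1
  have hInv : ∀ {P : Subgroup Ω} {φ : P →* Ω}, φ ∈ E.Hom P → InvPred E F P φ :=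
    fun hφ => invariant_of_ppower p hS F E hEs hEi hφ
  refine Fusion.pred_of_alperin p hS F hF (FratPred E F) ?_ ?_ ?_ ?_ hφ
  · -- conjugation
    intro P g hPS hg
    have hgN := mem_normalizer_of_forall_conj hTn hg
    refine ⟨conjAutHom T ⟨g, hgN⟩, ?_, (P ⊓ T).subtype, Fusion.subtype_mem E inf_le_right, ?_⟩
    · rw [Fusion.mem_autGroup_iff F hTS]
      have h1 : T.subtype.comp (conjAutHom T ⟨g, hgN⟩).toMonoidHom = conjHom T g := by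
        ext x
        rfl
      rw [h1]
      exact F.conj_mem hTS hg
    · intro x hx
      rfl
  · -- composition
    intro P Q φ ψ h hφF hψF hPφ hPψ
    obtain ⟨α₁, hα₁, φ₁, hφ₁, hφ₁x⟩ := hPφ
    obtain ⟨α₂, hα₂, ψ₂, hψ₂, hψ₂x⟩ := hPψ
    have hφ₁T : ∀ x, φ₁ x ∈ T := fun x => Fusion.map_mem E hφ₁ x
    have hR'T : φ₁.range ≤ T := by
      rintro _ ⟨x, rfl⟩
      exact hφ₁T x
    have hR' : ∀ r' : φ₁.range, ((α₁ ⟨r', hR'T r'.2⟩ : T) : Ω) ∈ Q ⊓ T := by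
      rintro ⟨_, x, rfl⟩
      refine Subgroup.mem_inf.mpr ⟨?_, (α₁ _).2⟩
      have := hφ₁x x (hφ₁T x)
      rw [← this]
      exact h _
    obtain ⟨χ, hχ, hχx⟩ := transport_back F E hInv α₁ hα₁ hR'T hR' hψ₂
    have hrr : ∀ x : ↥(P ⊓ T), φ₁ x ∈ φ₁.range := fun x => ⟨x, rfl⟩
    refine ⟨α₂ * α₁, Subgroup.mul_mem _ hα₂ hα₁, χ.comp (φ₁.codRestrict φ₁.range hrr),
      E.comp_mem hφ₁ hχ hrr, ?_⟩
    intro x hx
    obtain ⟨hχT, hχeq⟩ := hχx ⟨φ₁ x, hrr x⟩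
    show ψ ⟨φ ⟨x, _⟩, h _⟩ = ((α₂ (α₁ ⟨χ ⟨φ₁ x, hrr x⟩, hx⟩) : T) : Ω)
    have h1 : (α₁ ⟨χ ⟨φ₁ x, hrr x⟩, hx⟩ : T) =
        ⟨ψ₂ ⟨_, hR' ⟨φ₁ x, hrr x⟩⟩, Fusion.map_mem E hψ₂ _⟩ := Subtype.ext hχeq
    rw [h1, ← hψ₂x ⟨_, hR' ⟨φ₁ x, hrr x⟩⟩ (Fusion.map_mem E hψ₂ _)]
    congr 1
    apply Subtype.ext
    exact hφ₁x x (hφ₁T x)
  · -- inverses
    intro P φ ψ hφF hPφ hψF hinv
    obtain ⟨α, hα, φ₀, hφ₀, hφ₀x⟩ := hPφ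
    have hφ₀T : ∀ x, φ₀ x ∈ T := fun x => Fusion.map_mem E hφ₀ x
    have hR₀T : φ₀.range ≤ T := by
      rintro _ ⟨x, rfl⟩
      exact hφ₀T x
    obtain ⟨φ₀', hφ₀', hφ₀'x⟩ := E.inv_mem hφ₀
    have hφ₀'T : ∀ r, φ₀' r ∈ T := fun r => Fusion.map_mem E hφ₀' r
    obtain ⟨χ, hχ, hχx⟩ := hInv hφ₀' hR₀T hφ₀'T α hα
    -- elements of `φ.range ⊓ T` come from `P ⊓ T`
    have hpre : ∀ y ∈ φ.range ⊓ T, ∃ x : ↥(P ⊓ T), φ ⟨x, (Subgroup.mem_inf.mp x.2).1⟩ = y := by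
      intro y hy
      obtain ⟨hy1, hy2⟩ := Subgroup.mem_inf.mp hy
      obtain ⟨x', rfl⟩ := hy1
      have hle : φ.range ⊓ T ≤ φ.range := inf_le_left
      have h1 := hSC.2 (φ.range ⊓ T) inf_le_right _ (Fusion.restrict_mem F hψF hle) ⟨φ x', hy⟩
      have h2 : (ψ.comp (Subgroup.inclusion hle)) ⟨φ x', hy⟩ = (x' : Ω) := hinv x'
      rw [h2] at h1
      exact ⟨⟨x', Subgroup.mem_inf.mpr ⟨x'.2, h1⟩⟩, rfl⟩
    have heq : autImg α φ₀.range = φ.range ⊓ T := by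
      ext z
      rw [mem_autImg_iff α hR₀T]
      constructor
      · rintro ⟨⟨_, x, rfl⟩, rfl⟩
        rw [← hφ₀x x (hφ₀T x)]
        exact Subgroup.mem_inf.mpr ⟨⟨_, rfl⟩, hSC.2 (P ⊓ T) inf_le_right _
          (Fusion.restrict_mem F hφF inf_le_left) x⟩
      · intro hz
        obtain ⟨x, rfl⟩ := hpre z hz
        exact ⟨⟨φ₀ x, ⟨x, rfl⟩⟩, (hφ₀x x (hφ₀T x)).symm⟩
    obtain ⟨ψ₀, hψ₀, hψ₀x⟩ := Fusion.exists_hom_of_eq E heq hχ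
    refine ⟨α⁻¹, Subgroup.inv_mem _ hα, ψ₀, hψ₀, ?_⟩
    intro y hy
    obtain ⟨x, hxy⟩ := hpre y y.2
    have hxeq : φ ⟨x, (Subgroup.mem_inf.mp x.2).1⟩ = ((α ⟨φ₀ x, hφ₀T x⟩ : T) : Ω) :=
      hφ₀x x (hφ₀T x)
    have hyimg : (y : Ω) ∈ autImg α φ₀.range := by rw [heq]; exact y.2
    have h1 : ψ₀ y = χ ⟨y, hyimg⟩ := hψ₀x y hyimg y.2
    have h2 : (⟨(y : Ω), hyimg⟩ : ↥(autImg α φ₀.range)) =
        ⟨_, mem_autImg α hR₀T ⟨φ₀ x, ⟨x, rfl⟩⟩⟩ := by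
      apply Subtype.ext
      show (y : Ω) = ((α ⟨φ₀ x, _⟩ : T) : Ω)
      rw [← hxy, hxeq]
    have h3 : ψ₀ y = ((α ⟨(x : Ω), (Subgroup.mem_inf.mp x.2).2⟩ : T) : Ω) := by
      rw [h1, h2, hχx ⟨φ₀ x, ⟨x, rfl⟩⟩]
      congr 2
      apply Subtype.ext
      exact hφ₀'x x
    have h4 : (⟨ψ₀ y, hy⟩ : T) = α ⟨(x : Ω), (Subgroup.mem_inf.mp x.2).2⟩ := Subtype.ext h3
    rw [h4]
    have h5 := MulAut.inv_apply_self _ α (⟨(x : Ω), (Subgroup.mem_inf.mp x.2).2⟩ : T)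
    rw [h5]
    show ψ ⟨y, _⟩ = (x : Ω)
    have h6 : (⟨(y : Ω), (Subgroup.mem_inf.mp y.2).1⟩ : φ.range) =
        ⟨φ ⟨x, (Subgroup.mem_inf.mp x.2).1⟩, ⟨_, rfl⟩⟩ := Subtype.ext hxy.symm
    rw [h6]
    exact hinv _
  · -- `O^p(Aut_F(P))`
    intro P hPS β hβ
    haveI : Finite ↥(P ⊓ T) := Fusion.finite_of_le (inf_le_right.trans hTS)
    have hR : ∀ β ∈ F.autGroup P, ∀ x : P, (x : Ω) ∈ P ⊓ T → ((β x : P) : Ω) ∈ P ⊓ T := by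
      intro β hβ x hx
      exact Subgroup.mem_inf.mpr ⟨(β x).2,
        Fusion.aut_mem_of_stronglyClosed F hPS hSC β hβ x (Subgroup.mem_inf.mp hx).2⟩
    have hγ := resAut_mem_pResidual F p hPS inf_le_left hR β hβ
    have hγE : ((resAut F hPS inf_le_left hR β : F.autGroup (P ⊓ T)) : MulAut ↥(P ⊓ T)) ∈
        E.autGroup (P ⊓ T) := hEi.2.2 (P ⊓ T) inf_le_right ⟨_, hγ, rfl⟩
    refine ⟨1, Subgroup.one_mem _, _, (Fusion.mem_autGroup_iff E inf_le_right _).mp hγE, ?_⟩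
    intro x hx
    show (((β : MulAut P) ⟨x, _⟩ : P) : Ω) = _
    rw [← resAut_apply F hPS inf_le_left hR β x]
    rfl

/-- The Frattini condition for subgroups of `T`. -/
theorem frattini_of_ppower' [Finite S] (p : ℕ) [Fact p.Prime] (hS : IsPGroup p S)
    (F : FusionSystem S) (hF : F.IsSaturated p) {T : Subgroup Ω} (E : FusionSystem T)
    (hEs : E.IsSaturated p) (hEi : E.HasPPowerIndexIn F p)
    (hTn : ∀ s ∈ S, ∀ t ∈ T, s * t * s⁻¹ ∈ T)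
    {P : Subgroup Ω} (hPT : P ≤ T) {φ : P →* Ω} (hφ : φ ∈ F.Hom P) :
    ∃ α ∈ F.autGroup T, ∃ φ₀ ∈ E.Hom P, ∀ (x : P) (hx : φ₀ x ∈ T),
      φ x = ((α ⟨φ₀ x, hx⟩ : T) : Ω) := by
  obtain ⟨α, hα, φ₀, hφ₀, hφ₀x⟩ := frattini_of_ppower p hS F hF E hEs hEi hTn hφ
  have heq : P ⊓ T = P := inf_eq_left.mpr hPT
  obtain ⟨φ₀', hφ₀', hφ₀'x⟩ := Fusion.exists_hom_of_eq E heq hφ₀
  refine ⟨α, hα, φ₀', hφ₀', ?_⟩
  intro x hx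
  have hxm : (x : Ω) ∈ P ⊓ T := Subgroup.mem_inf.mpr ⟨x.2, hPT x.2⟩
  have h1 : φ₀' x = φ₀ ⟨x, hxm⟩ := hφ₀'x x hxm x.2
  have hx' : φ₀ ⟨x, hxm⟩ ∈ T := by rw [← h1]; exact hx
  have h2 := hφ₀x ⟨x, hxm⟩ hx'
  have h3 : (⟨φ₀' x, hx⟩ : T) = ⟨φ₀ ⟨x, hxm⟩, hx'⟩ := Subtype.ext h1
  rw [h3, ← h2]

end Cfsg.Agent.Helper6.PPowNorm
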