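import Mathlib
import Cfsg.Agent.Helper6.PPowNormC

set_option autoImplicit false
set_option linter.style.haveILetI false

/-!
# S5120, part D: the extension condition and the main theorem
-/

namespace Cfsg.Agent.Helper6.PPowNorm

open Cfsg Cfsg.FusionSystem Cfsg.Agent.Lead

variable {Ω : Type*} [Group Ω] {S : Subgroup Ω}

/-- `α ∈ Aut(T)` has an extension to `T C_S(T)` in `F` acting trivially on `C_S(T)` modulo
`Z(T)`. -/
def ExtOK (F : FusionSystem S) (T : Subgroup Ω) (α : MulAut T) : Prop :=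
  ∃ β ∈ F.autGroup (T ⊔ centralizerIn S T),
    (∀ x : T, ((β (Subgroup.inclusion le_sup_left x) : ↥(T ⊔ centralizerIn S T)) : Ω) =
      ((α x : T) : Ω)) ∧
    ∀ c : ↥(T ⊔ centralizerIn S T), (c : Ω) ∈ centralizerIn S T →
      (c : Ω)⁻¹ * ((β c : ↥(T ⊔ centralizerIn S T)) : Ω) ∈ T ⊓ Subgroup.centralizer (T : Set Ω)

theorem extOK_one (F : FusionSystem S) (T : Subgroup Ω) : ExtOK F T 1 := by
  refine ⟨1, Subgroup.one_mem _, fun x => rfl, fun c _ => ?_⟩
  show (c : Ω)⁻¹ * (c : Ω) ∈ _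
  rw [inv_mul_cancel]
  exact Subgroup.one_mem _

theorem extOK_mul (F : FusionSystem S) {T : Subgroup Ω} (hTS : T ≤ S) {α₁ α₂ : MulAut T}
    (h₁ : ExtOK F T α₁) (h₂ : ExtOK F T α₂) : ExtOK F T (α₁ * α₂) := by
  obtain ⟨β₁, hβ₁, hβ₁T, hβ₁C⟩ := h₁
  obtain ⟨β₂, hβ₂, hβ₂T, hβ₂C⟩ := h₂
  refine ⟨β₁ * β₂, Subgroup.mul_mem _ hβ₁ hβ₂, ?_, ?_⟩
  · intro x
    show ((β₁ (β₂ (Subgroup.inclusion le_sup_left x)) : ↥(T ⊔ centralizerIn S T)) : Ω) =
      ((α₁ (α₂ x) : T) : Ω)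
    have h1 : β₂ (Subgroup.inclusion le_sup_left x) = Subgroup.inclusion le_sup_left (α₂ x) :=
      Subtype.ext (hβ₂T x)
    rw [h1, hβ₁T]
  · intro c hc
    have hz := hβ₂C c hc
    have hc2 : ((β₂ c : ↥(T ⊔ centralizerIn S T)) : Ω) ∈ centralizerIn S T := by
      have h1 : ((β₂ c : ↥(T ⊔ centralizerIn S T)) : Ω) =
          (c : Ω) * ((c : Ω)⁻¹ * ((β₂ c : ↥(T ⊔ centralizerIn S T)) : Ω)) := by group
      rw [h1]
      refine Subgroup.mul_mem _ hc ?_
      obtain ⟨hzT, hzC⟩ := Subgroup.mem_inf.mp hz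
      exact Subgroup.mem_inf.mpr ⟨hTS hzT, hzC⟩
    have hz' := hβ₁C (β₂ c) hc2
    have h2 : (c : Ω)⁻¹ * (((β₁ * β₂) c : ↥(T ⊔ centralizerIn S T)) : Ω) =
        ((c : Ω)⁻¹ * ((β₂ c : ↥(T ⊔ centralizerIn S T)) : Ω)) *
        (((β₂ c : ↥(T ⊔ centralizerIn S T)) : Ω)⁻¹ *
          ((β₁ (β₂ c) : ↥(T ⊔ centralizerIn S T)) : Ω)) := by
      show (c : Ω)⁻¹ * ((β₁ (β₂ c) : ↥(T ⊔ centralizerIn S T)) : Ω) = _
      group
    rw [h2]
    exact Subgroup.mul_mem _ hz hz'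

theorem extOK_pow (F : FusionSystem S) {T : Subgroup Ω} (hTS : T ≤ S) {α : MulAut T}
    (h : ExtOK F T α) (n : ℕ) : ExtOK F T (α ^ n) := by
  induction n with
  | zero => rw [pow_zero]; exact extOK_one F T
  | succ n ih => rw [pow_succ]; exact extOK_mul F hTS ih h

theorem extOK_inv (F : FusionSystem S) {T : Subgroup Ω} [Finite T] (hTS : T ≤ S) {α : MulAut T}
    (h : ExtOK F T α) : ExtOK F T α⁻¹ := by
  have hpos : 0 < orderOf α := orderOf_pos α
  have h1 : α * α ^ (orderOf α - 1) = 1 := by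
    rw [← pow_succ', Nat.sub_add_cancel hpos, pow_orderOf_eq_one]
  have h2 : α⁻¹ = α ^ (orderOf α - 1) := inv_eq_of_mul_eq_one_right h1
  rw [h2]
  exact extOK_pow F hTS h _

/-- The subgroup of automorphisms of `T` with a good extension. -/
def extSub (F : FusionSystem S) (T : Subgroup Ω) [Finite T] (hTS : T ≤ S) : Subgroup (MulAut T) where
  carrier := {α | ExtOK F T α}
  mul_mem' := fun h₁ h₂ => extOK_mul F hTS h₁ h₂
  one_mem' := extOK_one F T
  inv_mem' := fun h => extOK_inv F hTS h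

/-- Inner automorphisms have good extensions. -/
theorem extOK_of_inner (F : FusionSystem S) {T : Subgroup Ω} (hTS : T ≤ S) (α : MulAut T)
    (g : Ω) (hg : g ∈ T) (hα : ∀ x : T, ((α x : T) : Ω) = g * (x : Ω) * g⁻¹) : ExtOK F T α := by
  have hTC : T ⊔ centralizerIn S T ≤ S := sup_le hTS inf_le_left
  have hgN : g ∈ Subgroup.normalizer ((T ⊔ centralizerIn S T : Subgroup Ω) : Set Ω) :=
    Subgroup.le_normalizer ((le_sup_left : T ≤ T ⊔ centralizerIn S T) hg)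
  refine ⟨conjAutHom (T ⊔ centralizerIn S T) ⟨g, hgN⟩, ?_, ?_, ?_⟩
  · rw [Fusion.mem_autGroup_iff F hTC]
    have h1 : (T ⊔ centralizerIn S T).subtype.comp
        (conjAutHom (T ⊔ centralizerIn S T) ⟨g, hgN⟩).toMonoidHom =
        conjHom (T ⊔ centralizerIn S T) g := by
      ext x
      rfl
    rw [h1]
    exact F.conj_mem hTC (hTS hg)
  · intro x
    rw [hα]
    rfl
  · intro c hc
    show (c : Ω)⁻¹ * (g * (c : Ω) * g⁻¹) ∈ _
    have hcomm : g * (c : Ω) = (c : Ω) * g := (Subgroup.mem_inf.mp hc).2 g hg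
    have h1 : (c : Ω)⁻¹ * (g * (c : Ω) * g⁻¹) = 1 := by
      rw [hcomm]; group
    rw [h1]
    exact Subgroup.one_mem _

theorem pow_apply_incl {T C : Subgroup Ω} (β : MulAut ↥(T ⊔ C)) (α : MulAut T)
    (h : ∀ x : T, ((β (Subgroup.inclusion le_sup_left x) : ↥(T ⊔ C)) : Ω) = ((α x : T) : Ω))
    (k : ℕ) (x : T) :
    (((β ^ k) (Subgroup.inclusion le_sup_left x) : ↥(T ⊔ C)) : Ω) = (((α ^ k) x : T) : Ω) := by
  induction k generalizing x with
  | zero => rfl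
  | succ k ih =>
    rw [pow_succ, pow_succ, MulAut.mul_apply, MulAut.mul_apply]
    have h1 : β (Subgroup.inclusion le_sup_left x) = Subgroup.inclusion le_sup_left (α x) :=
      Subtype.ext (h x)
    rw [h1, ih]

theorem pow_maps {T C : Subgroup Ω} (β : MulAut ↥(T ⊔ C))
    (h : ∀ c : ↥(T ⊔ C), (c : Ω) ∈ C → ((β c : ↥(T ⊔ C)) : Ω) ∈ C) (k : ℕ)
    (c : ↥(T ⊔ C)) (hc : (c : Ω) ∈ C) : (((β ^ k) c : ↥(T ⊔ C)) : Ω) ∈ C := by
  induction k generalizing c with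
  | zero => exact hc
  | succ k ih =>
    rw [pow_succ, MulAut.mul_apply]
    exact ih _ (h c hc)

/-- Automorphisms of `T` in `F` of order prime to `p` have good extensions, when `T` is strongly
closed and contains the hyperfocal subgroup. -/
theorem extOK_of_coprime [Finite S] (p : ℕ) [Fact p.Prime]
    (F : FusionSystem S) (hF : F.IsSaturated p) {T : Subgroup Ω} (hSC : F.StronglyClosed T)
    (hT : F.hyperfocalSubgroup p ≤ T) (α : MulAut T) (hα : α ∈ F.autGroup T)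
    (hcop : (orderOf α).Coprime p) : ExtOK F T α := by
  have hTS : T ≤ S := hSC.1
  haveI hTfin : Finite T := Fusion.finite_of_le hTS
  have hWC := Fusion.weaklyClosed_of_stronglyClosed F hSC
  have hrec : F.IsReceptive T := by
    obtain ⟨Q, ⟨φ, hφ, hr⟩, -, hQ₂⟩ := hF T hTS
    have : Q = T := by rw [← hr]; exact hWC.2 φ hφ
    rwa [this] at hQ₂
  set φ : T →* Ω := T.subtype.comp α.toMonoidHom with hφdef
  have hφ : φ ∈ F.Hom T := (Fusion.mem_autGroup_iff F hTS α).mp hα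
  have hr : φ.range = T := hWC.2 φ hφ
  obtain ⟨ψ, hψ, hψx⟩ := hrec.2 T φ hφ hr
  set C := centralizerIn S T with hC
  have hle : T ⊔ C ≤ extender S T φ :=
    sup_le (Fusion.le_extender T hTS φ (fun x => hTS (α x).2)) (Fusion.centralizerIn_le_extender T φ)
  have hTC : T ⊔ C ≤ S := sup_le hTS inf_le_left
  haveI : Finite ↥(T ⊔ C) := Fusion.finite_of_le hTC
  have hψ' := Fusion.restrict_mem F hψ hle
  set ψ' : ↥(T ⊔ C) →* Ω := ψ.comp (Subgroup.inclusion hle) with hψ'def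
  have hψ'T : ∀ x : T, ψ' (Subgroup.inclusion le_sup_left x) = ((α x : T) : Ω) := by
    intro x
    exact hψx x x.2 (hle ((le_sup_left : T ≤ T ⊔ C) x.2))
  have hψ'C : ∀ c : ↥(T ⊔ C), (c : Ω) ∈ C → ψ' c ∈ C := by
    intro c hc
    refine Subgroup.mem_inf.mpr ⟨Fusion.map_mem F hψ' c, ?_⟩
    rw [Subgroup.mem_centralizer_iff]
    intro t ht
    -- `t = α t'`
    obtain ⟨t', ht'⟩ : ∃ t' : T, ((α t' : T) : Ω) = t := ⟨α.symm ⟨t, ht⟩, by simp⟩
    rw [← ht', ← hψ'T t', ← map_mul, ← map_mul]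
    congr 1
    apply Subtype.ext
    show (t' : Ω) * (c : Ω) = (c : Ω) * (t' : Ω)
    exact (Subgroup.mem_inf.mp hc).2 t' t'.2
  have hrange : ψ'.range = T ⊔ C := by
    apply Subgroup.eq_of_le_of_card_ge
    · rintro _ ⟨y, rfl⟩
      revert y
      apply Fusion.sup_map_mem
      · intro x
        rw [hψ'T]
        exact (le_sup_left : T ≤ T ⊔ C) (α x).2
      · intro c
        exact (le_sup_right : C ≤ T ⊔ C) (hψ'C _ c.2)
    · rw [Nat.card_congr (Equiv.ofInjective ψ' (F.injective_of_mem hψ'))]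
      rfl
  obtain ⟨β₀, hβ₀, hβ₀x⟩ := Fusion.exists_aut_of_range_eq F hψ' hrange
  obtain ⟨k, hk, hk1⟩ := exists_pow_coprime p (⟨β₀, hβ₀⟩ : F.autGroup (T ⊔ C)) (orderOf α) hcop
  have hβ₀T : ∀ x : T, ((β₀ (Subgroup.inclusion le_sup_left x) : ↥(T ⊔ C)) : Ω) =
      ((α x : T) : Ω) := fun x => by rw [hβ₀x, hψ'T]
  have hβ₀C : ∀ c : ↥(T ⊔ C), (c : Ω) ∈ C → ((β₀ c : ↥(T ⊔ C)) : Ω) ∈ C :=
    fun c hc => by rw [hβ₀x]; exact hψ'C c hc
  have hαk : α ^ k = α := by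
    have := (pow_eq_pow_iff_modEq (x := α) (n := k) (m := 1)).mpr hk1
    rwa [pow_one] at this
  refine ⟨β₀ ^ k, Subgroup.pow_mem _ hβ₀ k, ?_, ?_⟩
  · intro x
    rw [pow_apply_incl β₀ α hβ₀T k x, hαk]
  · intro c hc
    refine Subgroup.mem_inf.mpr ⟨?_, ?_⟩
    · have hres : (⟨β₀, hβ₀⟩ : F.autGroup (T ⊔ C)) ^ k ∈ pResidual p (F.autGroup (T ⊔ C)) :=
        mem_pResidual_of_coprime' hk
      exact hT (Fusion.mem_hyperfocal F p hTC _ hres c)
    · have h1 := pow_maps β₀ hβ₀C k c hc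
      exact Subgroup.mul_mem _ (Subgroup.inv_mem _ (Subgroup.mem_inf.mp hc).2)
        (Subgroup.mem_inf.mp h1).2

end Cfsg.Agent.Helper6.PPowNorm

namespace Cfsg.Agent.Helper6.PPowNorm

open Cfsg Cfsg.FusionSystem Cfsg.Agent.Lead

variable {Ω : Type*} [Group Ω] {S : Subgroup Ω}

/-- Every automorphism in `Aut_E(T)` has a good extension. -/
theorem extOK_of_mem_autGroup [Finite S] (p : ℕ) [Fact p.Prime]
    (F : FusionSystem S) (hF : F.IsSaturated p) {T : Subgroup Ω} (E : FusionSystem T)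
    (hEs : E.IsSaturated p) (hEi : E.HasPPowerIndexIn F p) (hSC : F.StronglyClosed T)
    (α : MulAut T) (hα : α ∈ E.autGroup T) : ExtOK F T α := by
  have hTS : T ≤ S := hSC.1
  haveI hTfin : Finite T := Fusion.finite_of_le hTS
  have hEF : E.autGroup T ≤ F.autGroup T := autGroup_le_of_subsystem E F hEi.1 T
  obtain ⟨-, R, hR⟩ := Fusion.top_fullyAutomized p E hEs
  have hsup := pResidual_sup_sylow' R
  have h1 : pResidual p (E.autGroup T) ≤ (extSub F T hTS).subgroupOf (E.autGroup T) := by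
    unfold Cfsg.pResidual
    rw [Subgroup.closure_le]
    intro γ hγ
    rw [SetLike.mem_coe, Subgroup.mem_subgroupOf]
    have hγ' : (orderOf (γ : MulAut T)).Coprime p := by
      rw [Subgroup.orderOf_coe]; exact hγ
    exact extOK_of_coprime p F hF hSC hEi.2.1 γ.1 (hEF γ.2) hγ'
  have h2 : (R : Subgroup (E.autGroup T)) ≤ (extSub F T hTS).subgroupOf (E.autGroup T) := by
    rw [hR]
    intro γ hγ
    rw [Subgroup.mem_subgroupOf] at hγ ⊢
    have hle : autInducedBy T T ≤ extSub F T hTS := by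
      unfold autInducedBy
      rw [Subgroup.closure_le]
      rintro δ ⟨g, hg, hδ⟩
      exact extOK_of_inner F hTS δ g hg hδ
    exact hle hγ
  have h3 : (⊤ : Subgroup (E.autGroup T)) ≤ (extSub F T hTS).subgroupOf (E.autGroup T) := by
    rw [← hsup]
    exact sup_le h1 h2
  have := h3 (Subgroup.mem_top (⟨α, hα⟩ : E.autGroup T))
  rwa [Subgroup.mem_subgroupOf] at this

/-- **S5120**: a saturated subsystem of `p`-power index over a subgroup `T` normal in `S` is a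
normal subsystem. -/
theorem isNormalIn_of_ppower [Finite S] (p : ℕ) [Fact p.Prime] (hS : IsPGroup p S)
    (F : FusionSystem S) (hF : F.IsSaturated p) {T : Subgroup Ω} (E : FusionSystem T)
    (hEs : E.IsSaturated p) (hEi : E.HasPPowerIndexIn F p)
    (hTn : ∀ s ∈ S, ∀ t ∈ T, s * t * s⁻¹ ∈ T) : E.IsNormalIn F p := by
  have hTS : T ≤ S := Fusion.le_of_isSubsystemOf E F hEi.1
  have hSC : F.StronglyClosed T :=
    stronglyClosed_of_hyperfocal_le p hS F hF hTS hTn hEi.2.1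
  refine ⟨⟨hEs, hF, hEi.1, hSC, ?_, ?_⟩, ?_⟩
  · intro P hPT φ hφ α hα
    obtain ⟨χ, hχ, hχx⟩ :=
      invariant_of_ppower p hS F E hEs hEi hφ hPT (fun x => Fusion.map_mem E hφ x) α hα
    exact ⟨χ, hχ, fun x _ hαx => hχx x hαx⟩
  · intro P hPT φ hφ
    exact frattini_of_ppower' p hS F hF E hEs hEi hTn hPT hφ
  · intro α hα
    exact extOK_of_mem_autGroup p F hF E hEs hEi hSC α hα

end Cfsg.Agent.Helper6.PPowNorm
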