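import Mathlib

/-!
# Vanishing of the transfer on centralizers of `p`-subgroups, part A

The transfer computed through an arbitrary section, sections equivariant (modulo the kernel of the
target homomorphism) for a group of left translations, and products of invariant functions over a
set on which a `p`-group acts.
-/

set_option autoImplicit false
set_option linter.style.haveILetI false

namespace Cfsg.Agent.Helper6.TrfVan

open Subgroup MulAction

variable {G : Type*} [Group G] {H : Subgroup G} {A : Type*} [CommGroup A]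

/-- The quotient of two representatives of the same coset. -/
theorem section_mem (f : G ⧸ H → G) (hf : ∀ q, (f q : G ⧸ H) = q) (g : G) (q : G ⧸ H) :
    (f q)⁻¹ * (g * f (g⁻¹ • q)) ∈ H := by
  rw [← QuotientGroup.eq, hf, ← smul_eq_mul, ← MulAction.Quotient.smul_coe, hf, smul_inv_smul]

/-- The quotient of two representatives of the same coset, second form. -/
theorem section_mem' (f : G ⧸ H → G) (hf : ∀ q, (f q : G ⧸ H) = q) (l : G) (q : G ⧸ H) :
    (f (l • q))⁻¹ * (l * f q) ∈ H := by
  rw [← QuotientGroup.eq, hf, ← smul_eq_mul, ← MulAction.Quotient.smul_coe, hf]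

/-- The transfer computed through an arbitrary section. -/
theorem transfer_eq_prod_section [H.FiniteIndex] (ϕ : H →* A) (f : G ⧸ H → G)
    (hf : ∀ q, (f q : G ⧸ H) = q) (g : G) :
    MonoidHom.transfer ϕ g = @Finset.prod (G ⧸ H) A _
      (@Finset.univ (G ⧸ H) H.fintypeQuotientOfFiniteIndex)
      (fun q => ϕ ⟨(f q)⁻¹ * (g * f (g⁻¹ • q)), section_mem f hf g q⟩) := by
  letI := H.fintypeQuotientOfFiniteIndex
  rw [MonoidHom.transfer_def ϕ ⟨Set.range f, isComplement_range_left hf⟩ g]
  unfold leftTransversals.diff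
  apply Finset.prod_congr rfl
  intro q _
  congr 1
  apply Subtype.ext
  simp only [smul_apply_eq_smul_apply_inv_smul, IsComplement.leftQuotientEquiv_apply hf,
    smul_eq_mul]

/-- Sections equivariant, modulo the kernel of `ϕ`, for the left translations by a subgroup `L`, on
an `L`-stable set of cosets on which the point stabilizers of `L` are killed by `ϕ`. -/
theorem exists_equivariant_section (ϕ : H →* A) (L : Subgroup G) (Y : Set (G ⧸ H))
    (hY : ∀ l ∈ L, ∀ q ∈ Y, l • q ∈ Y)
    (hstab : ∀ g : G, (g : G ⧸ H) ∈ Y → ∀ l ∈ L, ∀ h : g⁻¹ * l * g ∈ H, ϕ ⟨_, h⟩ = 1) :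
    ∃ f : G ⧸ H → G, (∀ q, (f q : G ⧸ H) = q) ∧
      ∀ l ∈ L, ∀ q ∈ Y, ∀ h : (f (l • q))⁻¹ * (l * f q) ∈ H, ϕ ⟨_, h⟩ = 1 := by
  classical
  -- the orbit representative of a coset
  let q₀ : G ⧸ H → G ⧸ H := fun q => (Quotient.mk (orbitRel L (G ⧸ H)) q).out
  have hq₀ : ∀ q, ∃ l : L, l • q₀ q = q := by
    intro q
    have h1 : (orbitRel L (G ⧸ H)) (q₀ q) q := Quotient.exact (Quotient.out_eq _)
    obtain ⟨l, hl⟩ := h1
    exact ⟨l⁻¹, by rw [← hl, inv_smul_smul]⟩
  choose lq hlq using hq₀
  have hq₀_eq : ∀ (l : L) (q : G ⧸ H), q₀ (l • q) = q₀ q := by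
    intro l q
    have : Quotient.mk (orbitRel L (G ⧸ H)) (l • q) = Quotient.mk (orbitRel L (G ⧸ H)) q :=
      Quotient.sound ⟨l, rfl⟩
    change (Quotient.mk (orbitRel L (G ⧸ H)) (l • q)).out = _
    rw [this]
  refine ⟨fun q => (lq q : G) * (q₀ q).out, ?_, ?_⟩
  · intro q
    have h1 : (((lq q : G) * (q₀ q).out : G) : G ⧸ H) = (lq q : G) • ((q₀ q).out : G ⧸ H) := by
      rw [MulAction.Quotient.smul_coe, smul_eq_mul]
    rw [h1, QuotientGroup.out_eq']
    exact hlq q
  · intro l hl q hq h
    have hq' : q₀ ((⟨l, hl⟩ : L) • q) = q₀ q := hq₀_eq ⟨l, hl⟩ q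
    have hq'' : q₀ (l • q) = q₀ q := hq'
    -- the element of `L` fixing the representative
    set m : L := (lq (l • q))⁻¹ * ⟨l, hl⟩ * lq q with hm
    have hmfix : m • q₀ q = q₀ q := by
      rw [hm, mul_smul, mul_smul, hlq q]
      have h2 : (⟨l, hl⟩ : L) • q = l • q := rfl
      rw [h2, inv_smul_eq_iff, ← hq'', hlq (l • q)]
    have hY₀ : (((q₀ q).out : G) : G ⧸ H) ∈ Y := by
      rw [QuotientGroup.out_eq']
      have h3 : q₀ q = (lq q)⁻¹ • q := by rw [eq_inv_smul_iff, hlq q]
      rw [h3]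
      exact hY _ (L.inv_mem (lq q).2) q hq
    have hmem : ((q₀ q).out)⁻¹ * (m : G) * (q₀ q).out ∈ H := by
      rw [mul_assoc, ← QuotientGroup.eq, ← smul_eq_mul, ← MulAction.Quotient.smul_coe,
        QuotientGroup.out_eq']
      exact hmfix.symm
    have h4 := hstab _ hY₀ (m : G) m.2 hmem
    rw [← h4]
    congr 1
    apply Subtype.ext
    change (↑(lq (l • q)) * Quotient.out (q₀ (l • q)))⁻¹ * (l * (↑(lq q) * Quotient.out (q₀ q))) = _
    rw [hq'']
    change _ = (Quotient.out (q₀ q))⁻¹ * (m : G) * Quotient.out (q₀ q)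
    have hm' : (m : G) = ((lq (l • q) : L) : G)⁻¹ * l * (lq q : G) := by
      rw [hm]
      rfl
    rw [hm']
    simp only [mul_inv_rev, mul_assoc]

/-- The product, over a finite set on which a `p`-group acts, of an invariant function with values
in a group of exponent `p` that is trivial on the fixed points, is trivial. -/
theorem prod_eq_one_of_invariant (p : ℕ) [Fact p.Prime] {Q : Type*} [Group Q] (hQ : IsPGroup p Q)
    {Y : Type*} [Fintype Y] [MulAction Q Y] (F : Y → A) (hA : ∀ a : A, a ^ p = 1)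
    (hinv : ∀ (x : Q) (y : Y), F (x • y) = F y)
    (hfix : ∀ y : Y, (∀ x : Q, x • y = y) → F y = 1) : ∏ y, F y = 1 := by
  classical
  rw [← Finset.prod_fiberwise Finset.univ (fun y => Quotient.mk (orbitRel Q Y) y) F]
  apply Finset.prod_eq_one
  intro ω _
  have hconst : ∀ y ∈ Finset.univ.filter (fun y => Quotient.mk (orbitRel Q Y) y = ω),
      F y = F ω.out := by
    intro y hy
    rw [Finset.mem_filter] at hy
    have h1 : (orbitRel Q Y) y ω.out := Quotient.exact (hy.2.trans (Quotient.out_eq ω).symm)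
    obtain ⟨x, hx⟩ := h1
    rw [← hx, hinv]
  rw [Finset.prod_eq_pow_card hconst]
  have hcard : (Finset.univ.filter (fun y => Quotient.mk (orbitRel Q Y) y = ω)).card
      = Nat.card (orbit Q ω.out) := by
    rw [Nat.card_eq_fintype_card, Fintype.card_subtype]
    congr 1
    ext y
    rw [Finset.mem_filter, Finset.mem_filter]
    simp only [Finset.mem_univ, true_and]
    constructor
    · intro hy
      exact Quotient.exact (hy.trans (Quotient.out_eq ω).symm)
    · intro hy
      exact (Quotient.sound hy).trans (Quotient.out_eq ω)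
  rw [hcard]
  obtain ⟨n, hn⟩ := hQ.card_orbit ω.out
  rw [hn]
  rcases Nat.eq_zero_or_pos n with h0 | hpos
  · -- the orbit is a point: a fixed point
    rw [h0, pow_zero] at hn
    rw [h0, pow_zero, pow_one]
    apply hfix
    intro x
    have h2 : Subsingleton (orbit Q ω.out) := (Nat.card_eq_one_iff_unique.mp hn).1
    have h3 : (⟨x • ω.out, mem_orbit _ x⟩ : orbit Q ω.out) = ⟨ω.out, mem_orbit_self _⟩ :=
      Subsingleton.elim _ _
    exact congrArg Subtype.val h3
  · obtain ⟨k, rfl⟩ : ∃ k, n = k + 1 := ⟨n - 1, by omega⟩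
    rw [pow_succ', pow_mul, hA]
    exact one_pow _

end Cfsg.Agent.Helper6.TrfVan
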