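import Mathlib
import Cfsg.Agent.Helper6.TrfVanA

/-!
# Vanishing of the transfer on centralizers of `p`-subgroups, part B

Let `ϕ : H →* A` with `A` of exponent `p`, `Q` a `p`-subgroup of `G` and `e` an element centralizing
`Q`.  If `ϕ` kills every conjugate of an element of `Q` lying in `H`, and every conjugate `g⁻¹ e ^ k g`
lying in `H` for which `g⁻¹ Q g ≤ H`, then the transfer of `ϕ` kills `e`.
-/

set_option autoImplicit false
set_option linter.style.haveILetI false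

namespace Cfsg.Agent.Helper6.TrfVan

open Subgroup MulAction

variable {G : Type*} [Group G] {H : Subgroup G} {A : Type*} [CommGroup A]

theorem smul_coe_eq_iff (x g : G) : x • (g : G ⧸ H) = (g : G ⧸ H) ↔ g⁻¹ * x * g ∈ H := by
  rw [MulAction.Quotient.smul_coe, smul_eq_mul, eq_comm, QuotientGroup.eq, mul_assoc]

theorem transfer_eq_one_of_centralizes [H.FiniteIndex] (p : ℕ) [Fact p.Prime] (ϕ : H →* A)
    (hA : ∀ a : A, a ^ p = 1) (Q : Subgroup G) (hQ : IsPGroup p Q) (e : G)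
    (hcomm : ∀ x ∈ Q, e * x = x * e)
    (ha : ∀ (g x : G), x ∈ Q → ∀ h : g⁻¹ * x * g ∈ H, ϕ ⟨_, h⟩ = 1)
    (hb : ∀ g : G, (∀ x ∈ Q, g⁻¹ * x * g ∈ H) → ∀ l ∈ zpowers e,
      ∀ h : g⁻¹ * l * g ∈ H, ϕ ⟨_, h⟩ = 1) :
    MonoidHom.transfer ϕ e = 1 := by
  classical
  letI := H.fintypeQuotientOfFiniteIndex
  let Fix : Set (G ⧸ H) := {q | ∀ x ∈ Q, x • q = q}
  have hecomm : ∀ l ∈ zpowers e, ∀ x ∈ Q, l * x = x * l := by
    intro l hl x hx
    have h1 : e ∈ Subgroup.centralizer (Q : Set G) := by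
      rw [Subgroup.mem_centralizer_iff]
      intro y hy
      exact (hcomm y hy).symm
    have h2 : l ∈ Subgroup.centralizer (Q : Set G) :=
      (Subgroup.zpowers_le.mpr h1) hl
    rw [Subgroup.mem_centralizer_iff] at h2
    exact (h2 x hx).symm
  have hFixe : ∀ l ∈ zpowers e, ∀ q ∈ Fix, l • q ∈ Fix := by
    intro l hl q hq x hx
    rw [← mul_smul, ← hecomm l hl x hx, mul_smul, hq x hx]
  have hFixQ : ∀ x ∈ Q, ∀ q, q ∉ Fix → x • q ∉ Fix := by
    intro x hx q hq hxq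
    apply hq
    have h1 : x⁻¹ • (x • q) = x • q := hxq x⁻¹ (Q.inv_mem hx)
    rw [inv_smul_smul] at h1
    rw [h1]
    exact hxq
  -- the two equivariant sections
  obtain ⟨f₁, hf₁, hf₁e⟩ := exists_equivariant_section ϕ (zpowers e) Fix hFixe (by
    intro g hg l hl h
    apply hb g _ l hl h
    intro x hx
    exact (smul_coe_eq_iff x g).mp (hg x hx))
  obtain ⟨f₂, hf₂, hf₂e⟩ := exists_equivariant_section ϕ Q Fixᶜ
    (fun x hx q hq => hFixQ x hx q hq) (by
    intro g _ x hx h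
    exact ha g x hx h)
  let f : G ⧸ H → G := fun q => if q ∈ Fix then f₁ q else f₂ q
  have hf : ∀ q, (f q : G ⧸ H) = q := by
    intro q
    by_cases hq : q ∈ Fix
    · simp only [f, if_pos hq, hf₁]
    · simp only [f, if_neg hq, hf₂]
  rw [transfer_eq_prod_section ϕ f hf e]
  have he : e ∈ zpowers e := Subgroup.mem_zpowers e
  have hei : e⁻¹ ∈ zpowers e := Subgroup.inv_mem _ he
  apply prod_eq_one_of_invariant p (Q := ↥Q) hQ _ hA
  · -- invariance
    rintro ⟨x, hx⟩ q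
    by_cases hq : q ∈ Fix
    · have h1 : (⟨x, hx⟩ : ↥Q) • q = q := hq x hx
      simp only [h1]
    · have hxq : x • q ∉ Fix := hFixQ x hx q hq
      have heq : e⁻¹ • q ∉ Fix := by
        intro h
        apply hq
        have := hFixe e he _ h
        rwa [smul_inv_smul] at this
      have hxeq : x • e⁻¹ • q ∉ Fix := hFixQ x hx _ heq
      have hsw : e⁻¹ • x • q = x • e⁻¹ • q := by
        rw [← mul_smul, ← mul_smul, hecomm e⁻¹ hei x hx]
      have h1 : (⟨x, hx⟩ : ↥Q) • q = x • q := rfl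
      have ea := hf₂e x hx q hq (section_mem' f₂ hf₂ x q)
      have ec := hf₂e x hx (e⁻¹ • q) heq (section_mem' f₂ hf₂ x (e⁻¹ • q))
      simp only [h1]
      have hfa : f (x • q) = f₂ (x • q) := if_neg hxq
      have hfb : f q = f₂ q := if_neg hq
      have hfc : f (e⁻¹ • x • q) = f₂ (x • e⁻¹ • q) := by
        rw [hsw]
        exact if_neg hxeq
      have hfd : f (e⁻¹ • q) = f₂ (e⁻¹ • q) := if_neg heq
      have key : (⟨(f (x • q))⁻¹ * (e * f (e⁻¹ • x • q)), section_mem f hf e (x • q)⟩ : H)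
          = ⟨(f₂ (x • q))⁻¹ * (x * f₂ q), section_mem' f₂ hf₂ x q⟩
            * ⟨(f q)⁻¹ * (e * f (e⁻¹ • q)), section_mem f hf e q⟩
            * ⟨(f₂ (x • e⁻¹ • q))⁻¹ * (x * f₂ (e⁻¹ • q)), section_mem' f₂ hf₂ x (e⁻¹ • q)⟩⁻¹ := by
        apply Subtype.ext
        rw [Subgroup.coe_mul, Subgroup.coe_mul, Subgroup.coe_inv]
        change (f (x • q))⁻¹ * (e * f (e⁻¹ • x • q)) = (f₂ (x • q))⁻¹ * (x * f₂ q)
          * ((f q)⁻¹ * (e * f (e⁻¹ • q))) * ((f₂ (x • e⁻¹ • q))⁻¹ * (x * f₂ (e⁻¹ • q)))⁻¹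
        rw [hfa, hfb, hfc, hfd]
        have hxe : x * e = e * x := (hcomm x hx).symm
        simp only [mul_inv_rev, mul_assoc, inv_inv, mul_inv_cancel_left]
        rw [← mul_assoc x e, hxe, mul_assoc, mul_inv_cancel_left]
      rw [key, map_mul, map_mul, map_inv, ea, ec, inv_one, mul_one, one_mul]
  · -- fixed points
    intro q hq
    have hqF : q ∈ Fix := fun x hx => hq ⟨x, hx⟩
    have heq : e⁻¹ • q ∈ Fix := hFixe e⁻¹ hei q hqF
    have h1 := hf₁e e he (e⁻¹ • q) heq (section_mem' f₁ hf₁ e (e⁻¹ • q))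
    rw [← h1]
    congr 1
    apply Subtype.ext
    change (f q)⁻¹ * (e * f (e⁻¹ • q)) = (f₁ (e • e⁻¹ • q))⁻¹ * (e * f₁ (e⁻¹ • q))
    rw [smul_inv_smul]
    have hfa : f q = f₁ q := if_pos hqF
    have hfb : f (e⁻¹ • q) = f₁ (e⁻¹ • q) := if_pos heq
    rw [hfa, hfb]

end Cfsg.Agent.Helper6.TrfVan
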