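import Mathlib
import Cfsg.Agent.Helper3.CharI
import Cfsg.Agent.Helper6.TrfVanB

/-!
# Subsystems of `p`-power index, part A: the degree

For a saturated fusion system `F` over `S` and a homomorphism `θ` from `S` to a commutative group of
exponent `p` that is constant on the classes of `F`, the characteristic biset gives a finite group
`𝔄` with a homomorphism `ι : S →* 𝔄` realizing every map of `F` by a conjugation, and a
homomorphism `τ : 𝔄 →* A` with `τ ∘ ι = θ ^ n` (`n` prime to `p`) that kills the centralizer of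
`ι Q` whenever `θ` kills `Q` and the centralizers in `S` of the images of `Q` under the maps of `F`.
-/

set_option autoImplicit false
set_option linter.style.haveILetI false
set_option maxHeartbeats 800000

namespace Cfsg.Agent.Helper6.Ppi

open Cfsg Cfsg.FusionSystem Cfsg.Agent.Lead Cfsg.Agent.Helper3.Marks Cfsg.Agent.Helper3.Park
  Cfsg.Agent.Helper3.Char

universe u

variable {Ω : Type u} [Group Ω] {S : Subgroup Ω}

theorem exists_degree [Finite S] (p : ℕ) [Fact p.Prime] (hS : IsPGroup p S)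
    (F : FusionSystem S) (hF : F.IsSaturated p) {A : Type*} [CommGroup A]
    (hA : ∀ a : A, a ^ p = 1) (θ : S →* A)
    (hθ : ∀ (P : Subgroup Ω) (φ : P →* Ω) (hφ : φ ∈ F.Hom P) (x : P),
        θ ⟨φ x, Fusion.map_mem F hφ x⟩ = θ ⟨x, Fusion.src_le F hφ x.2⟩) :
    ∃ (𝔄 : Type u) (_ : Group 𝔄) (ι : S →* 𝔄) (τ : 𝔄 →* A) (n : ℕ), ¬ p ∣ n ∧
      (∀ s : S, τ (ι s) = θ s ^ n) ∧
      (∀ (P : Subgroup Ω) (φ : P →* Ω) (hφ : φ ∈ F.Hom P), ∃ e : 𝔄, ∀ x : P,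
          e * ι ⟨x, Fusion.src_le F hφ x.2⟩ = ι ⟨φ x, Fusion.map_mem F hφ x⟩ * e) ∧
      (∀ (Q : Subgroup Ω) (hQS : Q ≤ S), (∀ x : Q, θ ⟨x, hQS x.2⟩ = 1) →
          (∀ (ψ : Q →* Ω), ψ ∈ F.Hom Q → ∀ c : S, (∀ x : Q, (c : Ω) * ψ x = ψ x * c) → θ c = 1) →
          ∀ e : 𝔄, (∀ x : Q, e * ι ⟨x, hQS x.2⟩ = ι ⟨x, hQS x.2⟩ * e) → τ e = 1) := by
  obtain ⟨X, hXf, hXa, hstab, ⟨x₀, hx₀⟩, hmarks, n, hn, hpn⟩ := exists_char_biset p hS F hF
  have hfree : ∀ (b : S) (x : X), mkT (1 : S) b • x = x → b = 1 := by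
    intro b x hb
    obtain ⟨D, ⟨Q, ψ, hψ, hT⟩, hD⟩ := hstab x
    obtain ⟨h1, h2⟩ := hT (((1 : S) : Ω), (b : Ω)) ⟨mkT 1 b, (hD _).mp hb, rfl⟩
    have h3 : (⟨((1 : S) : Ω), h1⟩ : Q) = 1 := Subtype.ext rfl
    change ψ ⟨((1 : S) : Ω), h1⟩ = (b : Ω) at h2
    rw [h3, map_one] at h2
    exact Subtype.ext h2.symm
  have hindex : (stabR S x₀).index = n := by
    have h1 := index_stabR hfree x₀
    rw [hn, mul_comm] at h1
    exact Nat.eq_of_mul_eq_mul_left Nat.card_pos h1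
  have key' : ∀ (a : S) (g₀ : autR S X) (hh : g₀⁻¹ * iotaR S X a * g₀ ∈ stabR S x₀),
      phiR (fun b => hfree b x₀) θ ⟨_, hh⟩ = θ a := by
    intro a g₀ hh
    rw [phiR_apply]
    have h1 := smul_conj_eq g₀ a hh
    obtain ⟨D, ⟨Q, ψ, hψ, hT⟩, hD⟩ := hstab ((g₀ : Equiv.Perm X) x₀)
    obtain ⟨h2, h3⟩ := hT ((a : Ω), (((tauR x₀ ⟨_, hh⟩)⁻¹ : S) : Ω))
      ⟨mkT a (tauR x₀ ⟨_, hh⟩)⁻¹, (hD _).mp h1, rfl⟩
    change ψ ⟨(a : Ω), h2⟩ = (((tauR x₀ ⟨_, hh⟩)⁻¹ : S) : Ω) at h3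
    have h4 : (tauR x₀ ⟨_, hh⟩)⁻¹ = ⟨ψ ⟨(a : Ω), h2⟩, Fusion.map_mem F hψ _⟩ :=
      Subtype.ext h3.symm
    rw [h4]
    exact hθ Q ψ hψ ⟨(a : Ω), h2⟩
  refine ⟨autR S X, inferInstance, iotaR S X,
    MonoidHom.transfer (phiR (fun b => hfree b x₀) θ), n, hpn, ?_, ?_, ?_⟩
  · intro z
    rw [← hindex]
    apply transfer_eq_pow_of_key
    intro k g₀ hk
    have hk' : g₀⁻¹ * iotaR S X (z ^ k) * g₀ ∈ stabR S x₀ := by
      rw [map_pow]; exact hk
    have h5 : (⟨g₀⁻¹ * (iotaR S X z) ^ k * g₀, hk⟩ : stabR S x₀)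
        = ⟨g₀⁻¹ * iotaR S X (z ^ k) * g₀, hk'⟩ := by
      apply Subtype.ext
      change g₀⁻¹ * (iotaR S X z) ^ k * g₀ = g₀⁻¹ * iotaR S X (z ^ k) * g₀
      rw [map_pow]
    rw [h5, key' (z ^ k) g₀ hk', map_pow]
  · intro P φ hφ
    have hP : P ≤ S := Fusion.src_le F hφ
    obtain ⟨e, he⟩ := exists_perm_of_mem F hstab hmarks hP hφ
    have heG : e ∈ autR S X := by
      rw [mem_autR]
      intro b w
      have h1 := he 1 b w
      have h2 : (⟨((1 : P) : Ω), hP (1 : P).2⟩ : S) = 1 := Subtype.ext rfl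
      have h3 : (⟨φ (1 : P), Fusion.map_mem F hφ 1⟩ : S) = 1 := Subtype.ext (map_one φ)
      rw [h2, h3] at h1
      exact h1
    refine ⟨⟨e, heG⟩, fun x => ?_⟩
    apply Subtype.ext
    apply Equiv.ext
    intro y
    change e (((iotaR S X ⟨x, hP x.2⟩ : autR S X) : Equiv.Perm X) y)
      = ((iotaR S X ⟨φ x, Fusion.map_mem F hφ x⟩ : autR S X) : Equiv.Perm X) (e y)
    rw [iotaR_apply, iotaR_apply]
    exact he x 1 y
  · intro Q hQS hQ1 hsmall e he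
    have hQ' : IsPGroup p ((Q.subgroupOf S).map (iotaR S X)) :=
      (hS.to_subgroup (Q.subgroupOf S)).map _
    apply TrfVan.transfer_eq_one_of_centralizes p _ hA ((Q.subgroupOf S).map (iotaR S X)) hQ' e
    · rintro _ ⟨x, hx, rfl⟩
      exact he ⟨(x : Ω), hx⟩
    · rintro g _ ⟨x, hx, rfl⟩ h
      rw [key' x g h]
      exact hQ1 ⟨(x : Ω), hx⟩
    · intro g hg l hl h
      rw [phiR_apply]
      -- the point `ω = g x₀` and its stabilizer
      obtain ⟨D, ⟨Q₁, ψ₁, hψ₁, hT⟩, hD⟩ := hstab ((g : Equiv.Perm X) x₀)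
      set t : S := tauR x₀ ⟨_, h⟩ with ht
      have hlω : (l : Equiv.Perm X) ((g : Equiv.Perm X) x₀)
          = mkT (1 : S) t • (g : Equiv.Perm X) x₀ := by
        have h1 := tauR_spec x₀ ⟨_, h⟩
        change (g : Equiv.Perm X)⁻¹ ((l : Equiv.Perm X) ((g : Equiv.Perm X) x₀)) = _ at h1
        rw [Equiv.Perm.inv_eq_iff_eq, autR_apply_smul] at h1
        exact h1
      -- `l` commutes with the left translations by `Q`
      have hlcomm : ∀ x : Q, l * iotaR S X ⟨x, hQS x.2⟩ = iotaR S X ⟨x, hQS x.2⟩ * l := by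
        intro x
        have h1 : iotaR S X ⟨x, hQS x.2⟩ ∈ Subgroup.centralizer ({e} : Set (autR S X)) := by
          rw [Subgroup.mem_centralizer_iff]
          rintro _ rfl
          exact he x
        have h2 : e ∈ Subgroup.centralizer
            ({iotaR S X ⟨x, hQS x.2⟩} : Set (autR S X)) := by
          rw [Subgroup.mem_centralizer_iff]
          rintro _ rfl
          exact (he x).symm
        have h3 := (Subgroup.zpowers_le.mpr h2) hl
        rw [Subgroup.mem_centralizer_iff] at h3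
        exact (h3 _ rfl).symm
      have hQQ₁ : ∀ x : Q, ∃ (hx₁ : (x : Ω) ∈ Q₁) (tx : S),
          ψ₁ ⟨x, hx₁⟩ = ((tx⁻¹ : S) : Ω) ∧
          mkT (⟨x, hQS x.2⟩ : S) 1 • (g : Equiv.Perm X) x₀
            = mkT (1 : S) tx • (g : Equiv.Perm X) x₀ := by
        intro x
        have hh := hg _ ⟨⟨(x : Ω), hQS x.2⟩, x.2, rfl⟩
        have h1 := smul_conj_eq g ⟨(x : Ω), hQS x.2⟩ hh
        obtain ⟨h2, h3⟩ := hT (((x : Ω)), (((tauR x₀ ⟨_, hh⟩)⁻¹ : S) : Ω))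
          ⟨mkT ⟨(x : Ω), hQS x.2⟩ (tauR x₀ ⟨_, hh⟩)⁻¹, (hD _).mp h1, rfl⟩
        refine ⟨h2, tauR x₀ ⟨_, hh⟩, h3, ?_⟩
        have h4 : mkT (⟨x, hQS x.2⟩ : S) 1
            = mkT (1 : S) (tauR x₀ ⟨_, hh⟩) * mkT ⟨(x : Ω), hQS x.2⟩ (tauR x₀ ⟨_, hh⟩)⁻¹ := by
          rw [mkT_mul, one_mul, mul_inv_cancel]
        rw [h4, mul_smul, h1]
      have hQle : Q ≤ Q₁ := fun x hx => (hQQ₁ ⟨x, hx⟩).1
      have hψ : ψ₁.comp (Subgroup.inclusion hQle) ∈ F.Hom Q := Fusion.restrict_mem F hψ₁ hQle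
      have hθt : θ t = 1 := by
        apply hsmall _ hψ t
        intro x
        obtain ⟨hx₁, tx, hψx, hsm⟩ := hQQ₁ x
        have hcomm : tx * t = t * tx := by
          apply eq_of_smul_eq (fun b => hfree b ((g : Equiv.Perm X) x₀))
          have e1 : (l : Equiv.Perm X) (mkT (⟨x, hQS x.2⟩ : S) 1 • (g : Equiv.Perm X) x₀)
              = mkT (⟨x, hQS x.2⟩ : S) 1 • (l : Equiv.Perm X) ((g : Equiv.Perm X) x₀) := by
            have := congrArg (fun f : autR S X => (f : Equiv.Perm X) ((g : Equiv.Perm X) x₀))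
              (hlcomm x)
            exact this
          rw [hsm, autR_apply_smul, hlω, ← mul_smul, ← mul_smul, mkT_mul, mkT_mul, one_mul,
            one_mul, mul_one] at e1
          have e2 : mkT (⟨x, hQS x.2⟩ : S) t = mkT (1 : S) t * mkT (⟨x, hQS x.2⟩ : S) 1 := by
            rw [mkT_mul, one_mul, mul_one]
          rw [e2, mul_smul, hsm, ← mul_smul, mkT_mul, one_mul] at e1
          exact e1
        change (t : Ω) * ψ₁ ⟨x, hx₁⟩ = ψ₁ ⟨x, hx₁⟩ * t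
        rw [hψx]
        have h5 : (t * tx⁻¹ : S) = tx⁻¹ * t := by
          rw [eq_inv_mul_iff_mul_eq, ← mul_assoc, hcomm, mul_assoc, mul_inv_cancel, mul_one]
        exact congrArg Subtype.val h5
      rw [map_inv, hθt, inv_one]

end Cfsg.Agent.Helper6.Ppi
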