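import Mathlib
import Cfsg.Agent.Helper6.PpiA
import Cfsg.Agent.Lead.FusionFocal

/-!
# Subsystems of `p`-power index, part B: the kernel subsystem of a degree

The degree data packaged with total functions, the kernel of the class function `θ`, and the
subsystem over that kernel of the maps of the system realized by a conjugation of degree `1`.
-/

set_option autoImplicit false
set_option linter.style.haveILetI false

namespace Cfsg.Agent.Helper6.Ppi

open Cfsg Cfsg.FusionSystem Cfsg.Agent.Lead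

universe u v

variable {Ω : Type u} [Group Ω] {S : Subgroup Ω}

/-- Degree data for a fusion system: a class function `θ` to a commutative group `A`, a group `𝔄`
with a map `ι` from `S` realizing the maps of the system by conjugations, and a homomorphism `τ`
from `𝔄` to `A` extending a power of `θ` and vanishing on the centralizers of the subgroups killed,
with the centralizers of all their images, by `θ`. -/
structure Deg (p : ℕ) (F : FusionSystem S) (A : Type v) [CommGroup A] where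
  /-- the realizing group -/
  𝔄 : Type u
  /-- its group structure -/
  grp : Group 𝔄
  /-- the realization of `S` -/
  ι : Ω → 𝔄
  /-- the class function -/
  θ : Ω → A
  /-- the degree -/
  τ : 𝔄 →* A
  /-- the exponent -/
  n : ℕ
  hn : ¬ p ∣ n
  ι_mul : ∀ x ∈ S, ∀ y ∈ S, ι (x * y) = ι x * ι y
  θ_mul : ∀ x ∈ S, ∀ y ∈ S, θ (x * y) = θ x * θ y
  θ_stable : ∀ (P : Subgroup Ω) (φ : P →* Ω), φ ∈ F.Hom P → ∀ x : P, θ (φ x) = θ x
  τι : ∀ s ∈ S, τ (ι s) = θ s ^ n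
  real : ∀ (P : Subgroup Ω) (φ : P →* Ω), φ ∈ F.Hom P → ∃ e : 𝔄, ∀ x : P, e * ι x = ι (φ x) * e
  van : ∀ Q : Subgroup Ω, Q ≤ S → (∀ x ∈ Q, θ x = 1) →
    (∀ ψ : Q →* Ω, ψ ∈ F.Hom Q → ∀ c ∈ S, (∀ x : Q, c * ψ x = ψ x * c) → θ c = 1) →
    ∀ e : 𝔄, (∀ x ∈ Q, e * ι x = ι x * e) → τ e = 1

attribute [instance] Deg.grp

/-- Degree data exist for every class function to a group of exponent `p`. -/
theorem exists_deg [Finite S] (p : ℕ) [Fact p.Prime] (hS : IsPGroup p S)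
    (F : FusionSystem S) (hF : F.IsSaturated p) {A : Type v} [CommGroup A]
    (hA : ∀ a : A, a ^ p = 1) (θ : S →* A)
    (hθ : ∀ (P : Subgroup Ω) (φ : P →* Ω) (hφ : φ ∈ F.Hom P) (x : P),
        θ ⟨φ x, Fusion.map_mem F hφ x⟩ = θ ⟨x, Fusion.src_le F hφ x.2⟩) :
    ∃ D : Deg p F A, ∀ (x : Ω) (hx : x ∈ S), D.θ x = θ ⟨x, hx⟩ := by
  classical
  obtain ⟨𝔄, grp, ι, τ, n, hn, hτι, hreal, hvan⟩ := exists_degree p hS F hF hA θ hθ
  refine ⟨{ 𝔄 := 𝔄, grp := grp, ι := fun x => if h : x ∈ S then ι ⟨x, h⟩ else 1,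
            θ := fun x => if h : x ∈ S then θ ⟨x, h⟩ else 1, τ := τ, n := n, hn := hn,
            ι_mul := ?_, θ_mul := ?_, θ_stable := ?_, τι := ?_, real := ?_, van := ?_ }, ?_⟩
  · intro x hx y hy
    simp only [dif_pos hx, dif_pos hy, dif_pos (S.mul_mem hx hy)]
    rw [← map_mul]
    rfl
  · intro x hx y hy
    simp only [dif_pos hx, dif_pos hy, dif_pos (S.mul_mem hx hy)]
    rw [← map_mul]
    rfl
  · intro P φ hφ x
    simp only [dif_pos (Fusion.map_mem F hφ x), dif_pos (Fusion.src_le F hφ x.2)]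
    exact hθ P φ hφ x
  · intro s hs
    simp only [dif_pos hs]
    exact hτι ⟨s, hs⟩
  · intro P φ hφ
    obtain ⟨e, he⟩ := hreal P φ hφ
    refine ⟨e, fun x => ?_⟩
    simp only [dif_pos (Fusion.map_mem F hφ x), dif_pos (Fusion.src_le F hφ x.2)]
    exact he x
  · intro Q hQS hQ1 hsmall e he
    apply hvan Q hQS
    · intro x
      have := hQ1 x x.2
      simp only [dif_pos (hQS x.2)] at this
      exact this
    · intro ψ hψ c hc
      have := hsmall ψ hψ c c.2 hc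
      simp only [dif_pos c.2] at this
      exact this
    · intro x
      have := he x x.2
      simp only [dif_pos (hQS x.2)] at this
      exact this
  · intro x hx
    simp only [dif_pos hx]

namespace Deg

variable {p : ℕ} {F : FusionSystem S} {A : Type v} [CommGroup A] (D : Deg p F A)

theorem ι_one : D.ι 1 = 1 := by
  have h := D.ι_mul 1 S.one_mem 1 S.one_mem
  rw [mul_one] at h
  exact (mul_eq_left.mp h.symm)

theorem θ_one : D.θ 1 = 1 := by
  have h := D.θ_mul 1 S.one_mem 1 S.one_mem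
  rw [mul_one] at h
  exact (mul_eq_left.mp h.symm)

theorem θ_inv {x : Ω} (hx : x ∈ S) : D.θ x⁻¹ = (D.θ x)⁻¹ := by
  have h := D.θ_mul x hx x⁻¹ (S.inv_mem hx)
  rw [mul_inv_cancel, D.θ_one] at h
  exact eq_inv_of_mul_eq_one_right h.symm

theorem ι_inv {x : Ω} (hx : x ∈ S) : D.ι x⁻¹ = (D.ι x)⁻¹ := by
  have h := D.ι_mul x hx x⁻¹ (S.inv_mem hx)
  rw [mul_inv_cancel, D.ι_one] at h
  exact eq_inv_of_mul_eq_one_right h.symm

/-- The kernel of the class function, as a subgroup of the ambient group. -/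
def ker : Subgroup Ω where
  carrier := {x | x ∈ S ∧ D.θ x = 1}
  one_mem' := ⟨S.one_mem, D.θ_one⟩
  mul_mem' := by
    rintro x y ⟨hx, hx1⟩ ⟨hy, hy1⟩
    exact ⟨S.mul_mem hx hy, by rw [D.θ_mul x hx y hy, hx1, hy1, one_mul]⟩
  inv_mem' := by
    rintro x ⟨hx, hx1⟩
    exact ⟨S.inv_mem hx, by rw [D.θ_inv hx, hx1, inv_one]⟩

theorem mem_ker {x : Ω} : x ∈ D.ker ↔ x ∈ S ∧ D.θ x = 1 := Iff.rfl

theorem ker_le : D.ker ≤ S := fun _ hx => hx.1

/-- The kernel subsystem: the maps of the system between subgroups of the kernel that are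
realized by a conjugation of degree `1`. -/
def sub : FusionSystem D.ker where
  Hom P := {φ | φ ∈ F.Hom P ∧ P ≤ D.ker ∧
    ∃ e : D.𝔄, D.τ e = 1 ∧ ∀ x : P, e * D.ι x = D.ι (φ x) * e}
  le_of_mem := by
    rintro P φ ⟨hφ, hP, -⟩
    refine ⟨hP, fun x => ⟨Fusion.map_mem F hφ x, ?_⟩⟩
    rw [D.θ_stable P φ hφ x]
    exact (hP x.2).2
  injective_of_mem := by
    rintro P φ ⟨hφ, -, -⟩
    exact F.injective_of_mem hφ
  conj_mem := by
    intro P g hP hg
    refine ⟨F.conj_mem (hP.trans D.ker_le) hg.1, hP, D.ι g, ?_, fun x => ?_⟩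
    · rw [D.τι g hg.1, hg.2, one_pow]
    · have hxS : (x : Ω) ∈ S := (hP x.2).1
      change D.ι g * D.ι x = D.ι (g * x * g⁻¹) * D.ι g
      rw [← D.ι_mul _ hg.1 _ hxS, ← D.ι_mul _ (S.mul_mem (S.mul_mem hg.1 hxS) (S.inv_mem hg.1))
        _ hg.1, inv_mul_cancel_right]
  comp_mem := by
    rintro P Q φ ψ ⟨hφ, hP, e₁, he₁, h₁⟩ ⟨hψ, hQ, e₂, he₂, h₂⟩ h
    refine ⟨F.comp_mem hφ hψ h, hP, e₂ * e₁, by rw [map_mul, he₁, he₂, one_mul], fun x => ?_⟩
    change e₂ * e₁ * D.ι x = D.ι (ψ ⟨φ x, h x⟩) * (e₂ * e₁)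
    rw [mul_assoc, h₁ x, ← mul_assoc, h₂ ⟨φ x, h x⟩, mul_assoc]
  inv_mem := by
    rintro P φ ⟨hφ, hP, e, he, h₁⟩
    obtain ⟨ψ, hψ, hinv⟩ := F.inv_mem hφ
    refine ⟨ψ, ⟨hψ, ?_, e⁻¹, by rw [map_inv, he, inv_one], ?_⟩, hinv⟩
    · rintro _ ⟨x, rfl⟩
      refine ⟨Fusion.map_mem F hφ x, ?_⟩
      rw [D.θ_stable P φ hφ x]
      exact (hP x.2).2
    · rintro ⟨_, x, rfl⟩
      rw [hinv x, inv_mul_eq_iff_eq_mul, ← mul_assoc, h₁ x, mul_inv_cancel_right]

theorem mem_sub_hom {P : Subgroup Ω} {φ : P →* Ω} :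
    φ ∈ D.sub.Hom P ↔ φ ∈ F.Hom P ∧ P ≤ D.ker ∧
      ∃ e : D.𝔄, D.τ e = 1 ∧ ∀ x : P, e * D.ι x = D.ι (φ x) * e := Iff.rfl

theorem sub_isSubsystemOf : D.sub.IsSubsystemOf F := fun _ _ h => h.1

end Deg

end Cfsg.Agent.Helper6.Ppi
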