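import Mathlib
import Cfsg.Agent.Helper6.PpiB

/-!
# Subsystems of `p`-power index, part C

The kernel subsystem of a degree has `p`-power index; every map of the system between subgroups of
the kernel is a map of the kernel subsystem followed by a conjugation by an element of `S`; and on
subgroups whose images all have centralizer inside the kernel, only the elements of the kernel
induce maps of the kernel subsystem.
-/

set_option autoImplicit false
set_option linter.style.haveILetI false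

namespace Cfsg.Agent.Helper6.Ppi

open Cfsg Cfsg.FusionSystem Cfsg.Agent.Lead

universe u v

variable {Ω : Type u} [Group Ω] {S : Subgroup Ω}

theorem pow_eq_one_of_coprime {A : Type*} [Group A] {p n : ℕ} (hpn : Nat.Coprime n p) {a : A}
    (h1 : a ^ p = 1) (h2 : a ^ n = 1) : a = 1 := by
  have h3 : orderOf a ∣ Nat.gcd n p := Nat.dvd_gcd (orderOf_dvd_of_pow_eq_one h2)
    (orderOf_dvd_of_pow_eq_one h1)
  rw [hpn, Nat.dvd_one] at h3
  exact orderOf_eq_one_iff.mp h3

theorem exists_root {A : Type*} [Group A] {p n : ℕ} [hp : Fact p.Prime] (hpn : ¬ p ∣ n)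
    (hA : ∀ a : A, a ^ p = 1) (a : A) : ∃ b : A, b ^ n = a := by
  have hcop : Nat.Coprime n p := ((Nat.Prime.coprime_iff_not_dvd hp.out).mpr hpn).symm
  obtain ⟨m, -, hm⟩ := Nat.exists_mul_mod_eq_one_of_coprime hcop hp.out.one_lt
  refine ⟨a ^ m, ?_⟩
  rw [← pow_mul, mul_comm, ← Nat.div_add_mod (n * m) p, hm, pow_add, pow_mul, hA, one_pow, one_mul,
    pow_one]

namespace Deg

variable {p : ℕ} [hp : Fact p.Prime] {F : FusionSystem S} {A : Type v} [CommGroup A]
  (D : Deg p F A)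

omit hp in
/-- Powers of a realizing element realize the powers of an automorphism. -/
theorem real_pow {P : Subgroup Ω} (α : MulAut P) (e : D.𝔄)
    (he : ∀ x : P, e * D.ι x = D.ι ((α x : P) : Ω) * e) (k : ℕ) :
    ∀ x : P, e ^ k * D.ι x = D.ι (((α ^ k) x : P) : Ω) * e ^ k := by
  induction k with
  | zero => intro x; simp
  | succ k ih =>
    intro x
    rw [pow_succ, mul_assoc, he x, ← mul_assoc, ih (α x), mul_assoc, pow_succ]
    rfl

omit hp in
theorem hyperfocal_le_ker : F.hyperfocalSubgroup p ≤ D.ker := by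
  unfold FusionSystem.hyperfocalSubgroup
  rw [Subgroup.closure_le]
  rintro y ⟨P, α, x, hPS, -, rfl⟩
  have hα : P.subtype.comp (α : MulAut P).toMonoidHom ∈ F.Hom P :=
    (Fusion.mem_autGroup_iff F hPS _).mp α.2
  have hxS : (x : Ω) ∈ S := hPS x.2
  have hαxS : (((α : MulAut P) x : P) : Ω) ∈ S := hPS ((α : MulAut P) x).2
  refine ⟨S.mul_mem (S.inv_mem hxS) hαxS, ?_⟩
  rw [D.θ_mul _ (S.inv_mem hxS) _ hαxS, D.θ_inv hxS]
  have := D.θ_stable P _ hα x
  change D.θ (((α : MulAut P) x : P) : Ω) = D.θ x at this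
  rw [this, inv_mul_cancel]

omit hp in
theorem sub_hasPPowerIndexIn (hA : ∀ a : A, a ^ p = 1) : D.sub.HasPPowerIndexIn F p := by
  refine ⟨D.sub_isSubsystemOf, D.hyperfocal_le_ker, ?_⟩
  intro P hP
  have hPS : P ≤ S := hP.trans D.ker_le
  unfold Cfsg.pResidual
  rw [MonoidHom.map_closure, Subgroup.closure_le]
  rintro _ ⟨α, hα, rfl⟩
  change (α : MulAut P) ∈ D.sub.autGroup P
  apply Subgroup.subset_closure
  change P.subtype.comp (α : MulAut P).toMonoidHom ∈ D.sub.Hom P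
  have hαF : P.subtype.comp (α : MulAut P).toMonoidHom ∈ F.Hom P :=
    (Fusion.mem_autGroup_iff F hPS _).mp α.2
  obtain ⟨e₀, he₀⟩ := D.real P _ hαF
  have hcop : Nat.Coprime (orderOf (α : MulAut P)) p := by
    rw [Subgroup.orderOf_coe]
    exact hα
  -- an exponent congruent to `1` modulo the order and to `0` modulo `p`
  let m : ℕ := (Nat.chineseRemainder hcop 1 0 : ℕ)
  have hm1 : m ≡ 1 [MOD orderOf (α : MulAut P)] := (Nat.chineseRemainder hcop 1 0).2.1
  have hm0 : m ≡ 0 [MOD p] := (Nat.chineseRemainder hcop 1 0).2.2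
  have hαm : (α : MulAut P) ^ m = (α : MulAut P) := by
    have := (pow_eq_pow_iff_modEq (x := (α : MulAut P)) (n := m) (m := 1)).mpr hm1
    rw [pow_one] at this
    exact this
  have hpm : p ∣ m := (Nat.modEq_zero_iff_dvd).mp hm0
  refine ⟨hαF, hP, e₀ ^ m, ?_, fun x => ?_⟩
  · obtain ⟨j, hj⟩ := hpm
    rw [map_pow, hj, pow_mul, hA, one_pow]
  · have h1 := D.real_pow (α : MulAut P) e₀ he₀ m x
    rw [hαm] at h1
    exact h1

/-- Every map of the system between subgroups of the kernel is a map of the kernel subsystem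
followed by a conjugation by an element of `S`. -/
theorem frattini (hA : ∀ a : A, a ^ p = 1) (hsurj : ∀ a : A, ∃ s ∈ S, D.θ s = a)
    {P : Subgroup Ω} (hP : P ≤ D.ker) {φ : P →* Ω} (hφ : φ ∈ F.Hom P) :
    ∃ s ∈ S, ∃ χ ∈ D.sub.Hom P, ∀ x : P, χ x = s * φ x * s⁻¹ := by
  obtain ⟨e₀, he₀⟩ := D.real P φ hφ
  obtain ⟨b, hb⟩ := exists_root D.hn hA (D.τ e₀)⁻¹
  obtain ⟨s, hs, hsb⟩ := hsurj b
  have hc : conjHom S s ∈ F.Hom S := F.conj_mem le_rfl hs
  have hcomp := F.comp_mem hφ hc (fun x => Fusion.map_mem F hφ x)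
  refine ⟨s, hs, _, ⟨hcomp, hP, D.ι s * e₀, ?_, fun x => ?_⟩, fun x => rfl⟩
  · rw [map_mul, D.τι s hs, hsb, hb, inv_mul_cancel]
  · change D.ι s * e₀ * D.ι x = D.ι (s * φ x * s⁻¹) * (D.ι s * e₀)
    have hφxS : φ x ∈ S := Fusion.map_mem F hφ x
    rw [mul_assoc, he₀ x, ← mul_assoc, ← mul_assoc, ← D.ι_mul _ hs _ hφxS,
      ← D.ι_mul _ (S.mul_mem (S.mul_mem hs hφxS) (S.inv_mem hs)) _ hs, inv_mul_cancel_right]

/-- On a subgroup of the kernel all of whose images have centralizer inside the kernel, only the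
elements of the kernel induce maps of the kernel subsystem. -/
theorem mem_ker_of_conj_mem (hA : ∀ a : A, a ^ p = 1) {Q : Subgroup Ω} (hQ : Q ≤ D.ker)
    (hsmall : ∀ ψ : Q →* Ω, ψ ∈ F.Hom Q → ∀ c ∈ S, (∀ x : Q, c * ψ x = ψ x * c) → D.θ c = 1)
    {s : Ω} (hs : s ∈ S) {χ : Q →* Ω} (hχ : χ ∈ D.sub.Hom Q)
    (hχs : ∀ x : Q, χ x = s * x * s⁻¹) : s ∈ D.ker := by
  obtain ⟨-, -, e, he, h₁⟩ := hχ
  refine ⟨hs, ?_⟩
  have hcomm : ∀ x ∈ Q, (D.ι s)⁻¹ * e * D.ι x = D.ι x * ((D.ι s)⁻¹ * e) := by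
    intro x hx
    have hxS : x ∈ S := (hQ hx).1
    have h2 := h₁ ⟨x, hx⟩
    rw [hχs ⟨x, hx⟩] at h2
    change e * D.ι x = D.ι (s * x * s⁻¹) * e at h2
    rw [D.ι_mul _ (S.mul_mem hs hxS) _ (S.inv_mem hs), D.ι_mul _ hs _ hxS, D.ι_inv hs] at h2
    rw [mul_assoc, h2]
    group
  have h3 := D.van Q (hQ.trans D.ker_le) (fun x hx => (hQ hx).2) hsmall _ hcomm
  rw [map_mul, map_inv, he, mul_one, inv_eq_one, D.τι s hs] at h3
  have hcop : Nat.Coprime D.n p := ((Nat.Prime.coprime_iff_not_dvd hp.out).mpr D.hn).symm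
  exact pow_eq_one_of_coprime hcop (hA _) h3

end Deg

end Cfsg.Agent.Helper6.Ppi
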