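import Mathlib
import Cfsg.Agent.Helper6.PpiC
import Cfsg.Agent.Lead.FusionSat3
import Cfsg.Agent.Helper6.PPowNormB

/-!
# Subsystems of `p`-power index, part D: auxiliary group theory and conjugation by `S`

A Sylow subgroup meets a normal subgroup in a subgroup of index prime to `p`; conjugates by
elements of `S` of fully normalized subgroups are fully normalized.
-/

set_option autoImplicit false
set_option linter.style.haveILetI false

namespace Cfsg.Agent.Helper6.Ppi

open Cfsg Cfsg.FusionSystem Cfsg.Agent.Lead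

universe u v

open scoped Pointwise in
/-- A Sylow `p`-subgroup meets a normal subgroup in a subgroup of index prime to `p`. -/
theorem not_dvd_relIndex_of_normal {G : Type*} [Group G] [Finite G] (p : ℕ) [Fact p.Prime]
    (N : Subgroup G) [N.Normal] (P : Sylow p G) : ¬ p ∣ (P : Subgroup G).relIndex N := by
  obtain ⟨P_N⟩ : Nonempty (Sylow p N) := inferInstance
  obtain ⟨Q, hQ⟩ := P_N.exists_comap_subtype_eq
  obtain ⟨g, hg⟩ := MulAction.exists_smul_eq G Q P
  have h1 : (P : Subgroup G).relIndex N = (Q : Subgroup G).relIndex N := by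
    rw [← hg, Sylow.coe_subgroup_smul]
    conv_lhs => rw [← Subgroup.Normal.conj_smul_eq_self g N]
    exact Subgroup.relIndex_pointwise_smul (MulAut.conj g) _ _
  rw [h1]
  have h2 : (Q : Subgroup G).subgroupOf N = P_N := by
    rw [← hQ]
    rfl
  unfold Subgroup.relIndex
  rw [h2]
  exact P_N.not_dvd_index

variable {Ω : Type u} [Group Ω] {S : Subgroup Ω}

/-- Conjugation by an element of `S` does not change the order of the normalizer in `S`. -/
theorem card_normalizerIn_map_conj {s : Ω} (hs : s ∈ S) (Q : Subgroup Ω) :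
    Nat.card (normalizerIn S (Q.map (MulAut.conj s).toMonoidHom))
      = Nat.card (normalizerIn S Q) := by
  have h1 : normalizerIn S (Q.map (MulAut.conj s).toMonoidHom)
      = (normalizerIn S Q).map (MulAut.conj s).toMonoidHom := by
    unfold normalizerIn
    rw [Subgroup.map_inf _ _ _ (MulAut.conj s).injective, Subgroup.map_equiv_normalizer_eq]
    congr 1
    ext x
    rw [Subgroup.mem_map_equiv, MulAut.conj_symm_apply]
    constructor
    · intro hx
      exact S.mul_mem (S.mul_mem (S.inv_mem hs) hx) hs
    · intro hx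
      have : x = s * (s⁻¹ * x * s) * s⁻¹ := by group
      rw [this]
      exact S.mul_mem (S.mul_mem hs hx) (S.inv_mem hs)
  rw [h1]
  exact Subgroup.card_map_of_injective (MulAut.conj s).injective

/-- A conjugate by an element of `S` of a fully normalized subgroup is fully normalized. -/
theorem fullyNormalized_map_conj (F : FusionSystem S) {s : Ω} (hs : s ∈ S) {Q₀ : Subgroup Ω}
    (hQ₀ : F.IsFullyNormalized Q₀) :
    F.IsFullyNormalized (Q₀.map (MulAut.conj s).toMonoidHom) := by
  have hQ₀S : Q₀ ≤ S := hQ₀.1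
  have hconj : F.IsConj Q₀ (Q₀.map (MulAut.conj s).toMonoidHom) := by
    refine ⟨conjHom Q₀ s, F.conj_mem hQ₀S hs, ?_⟩
    ext y
    constructor
    · rintro ⟨x, rfl⟩
      exact ⟨x, x.2, rfl⟩
    · rintro ⟨x, hx, rfl⟩
      exact ⟨⟨x, hx⟩, rfl⟩
  refine ⟨Fusion.isConj_tgt_le F hconj, fun Q' hQ' => ?_⟩
  rw [card_normalizerIn_map_conj hs]
  exact hQ₀.2 Q' (Fusion.isConj_trans F hconj hQ')

end Cfsg.Agent.Helper6.Ppi
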