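import Mathlib
import Cfsg.Agent.Helper6.PpiD
import Cfsg.Agent.Lead.FusionProdSat

/-!
# Subsystems of `p`-power index, part E: the kernel subsystem of a degree of order `p`

For a degree onto a group of order `p`: the key centralizing property of the elements of `S` that
induce maps of the kernel subsystem on a receptive subgroup, and the resulting full automization.
-/

set_option autoImplicit false
set_option linter.style.haveILetI false
set_option maxHeartbeats 800000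

namespace Cfsg.Agent.Helper6.Ppi

open Cfsg Cfsg.FusionSystem Cfsg.Agent.Lead

universe u v

variable {Ω : Type u} [Group Ω] {S : Subgroup Ω}

namespace Deg

variable {p : ℕ} [hp : Fact p.Prime] {F : FusionSystem S} {A : Type v} [CommGroup A]
  (D : Deg p F A)

/-- The hypotheses making the kernel of the class function a subgroup of index `p`. -/
structure IndexP : Prop where
  hA : ∀ a : A, a ^ p = 1
  hsurj : ∀ a : A, ∃ s ∈ S, D.θ s = a
  hidx : ∀ c ∈ S, D.θ c ≠ 1 → ∀ a : A, ∃ k : ℕ, D.θ c ^ k = a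

omit hp in
theorem θ_pow {x : Ω} (hx : x ∈ S) (k : ℕ) : D.θ (x ^ k) = D.θ x ^ k := by
  induction k with
  | zero => rw [pow_zero, pow_zero, D.θ_one]
  | succ k ih => rw [pow_succ, pow_succ, D.θ_mul _ (S.pow_mem hx k) _ hx, ih]

/-- The centralizing property `(★)`: an element of `S` inducing a map of the kernel subsystem on
`Q` agrees on `Q`, up to an element of the kernel, with an element centralizing `Q`. -/
def Star (Q : Subgroup Ω) : Prop :=
  ∀ s' ∈ S, ∀ χ : Q →* Ω, χ ∈ D.sub.Hom Q → (∀ y : Q, χ y = s' * y * s'⁻¹) →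
    ∃ u ∈ D.ker, ∀ y ∈ Q, u * s' * y = y * (u * s')

theorem star_of_receptive (hI : D.IndexP) {Q : Subgroup Ω} (hQ : Q ≤ D.ker)
    (hrec : F.IsReceptive Q) : D.Star Q := by
  intro s' hs' χ hχ hχs
  by_cases h : ∃ c ∈ S, (∀ y ∈ Q, c * y = y * c) ∧ D.θ c ≠ 1
  · obtain ⟨c, hc, hcQ, hc1⟩ := h
    obtain ⟨k, hk⟩ := hI.hidx c hc hc1 (D.θ s')
    refine ⟨c ^ k * s'⁻¹, ⟨S.mul_mem (S.pow_mem hc k) (S.inv_mem hs'), ?_⟩, fun y hy => ?_⟩
    · rw [D.θ_mul _ (S.pow_mem hc k) _ (S.inv_mem hs'), D.θ_pow hc, hk, D.θ_inv hs',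
        mul_inv_cancel]
    · rw [inv_mul_cancel_right]
      have hcomm : Commute c y := hcQ y hy
      exact (hcomm.pow_left k).eq
  · push Not at h
    have hsmall : ∀ ψ : Q →* Ω, ψ ∈ F.Hom Q → ∀ c ∈ S, (∀ x : Q, c * ψ x = ψ x * c) →
        D.θ c = 1 := by
      intro ψ hψ c hc hcψ
      have hQS : Q ≤ S := hQ.trans D.ker_le
      obtain ⟨ψ', hψ', hinv, hr'⟩ := Fusion.exists_inv F hψ rfl
      obtain ⟨ρ, hρ, hext⟩ := hrec.2 ψ.range ψ' hψ' hr'
      have hcC : c ∈ centralizerIn S ψ.range := by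
        refine Subgroup.mem_inf.mpr ⟨hc, ?_⟩
        rw [Subgroup.mem_centralizer_iff]
        rintro _ ⟨x, rfl⟩
        exact (hcψ x).symm
      have hcN : c ∈ extender S ψ.range ψ' := Fusion.centralizerIn_le_extender _ _ hcC
      have hrN : ψ.range ≤ extender S ψ.range ψ' :=
        Fusion.le_extender _ (Fusion.range_le F hψ) ψ' (fun x => Fusion.map_mem F hψ' x)
      have hρc : D.θ (ρ ⟨c, hcN⟩) = D.θ c := D.θ_stable _ ρ hρ ⟨c, hcN⟩
      rw [← hρc]
      apply h _ (Fusion.map_mem F hρ _)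
      intro y hy
      have hy' : ψ ⟨y, hy⟩ ∈ ψ.range := ⟨_, rfl⟩
      have h1 : ρ ⟨ψ ⟨y, hy⟩, hrN hy'⟩ = y := by
        rw [hext _ hy' (hrN hy')]
        exact hinv ⟨y, hy⟩ hy'
      rw [← h1, ← map_mul, ← map_mul]
      congr 1
      exact Subtype.ext (hcψ ⟨y, hy⟩)
    have hs'k := D.mem_ker_of_conj_mem hI.hA hQ hsmall hs' hχ hχs
    refine ⟨s'⁻¹, D.ker.inv_mem hs'k, fun y _ => ?_⟩
    rw [inv_mul_cancel, one_mul, mul_one]

omit hp in
/-- The automizer of the kernel subsystem is normalized by the automizer of the system. -/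
theorem autGroup_sub_normal {Q : Subgroup Ω} (hQ : Q ≤ D.ker) :
    ((D.sub.autGroup Q).subgroupOf (F.autGroup Q)).Normal := by
  have hQS : Q ≤ S := hQ.trans D.ker_le
  constructor
  intro n hn g
  rw [Subgroup.mem_subgroupOf] at hn ⊢
  rw [Fusion.mem_autGroup_iff D.sub hQ] at hn ⊢
  obtain ⟨hβF, -, eβ, heβ, hβ⟩ := hn
  have hγF : Q.subtype.comp (g : MulAut Q).toMonoidHom ∈ F.Hom Q :=
    (Fusion.mem_autGroup_iff F hQS _).mp g.2
  obtain ⟨eγ, hγ⟩ := D.real Q _ hγF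
  have hconjF : Q.subtype.comp ((g * n * g⁻¹ : F.autGroup Q) : MulAut Q).toMonoidHom ∈ F.Hom Q :=
    (Fusion.mem_autGroup_iff F hQS _).mp (g * n * g⁻¹).2
  refine ⟨hconjF, hQ, eγ * eβ * eγ⁻¹, ?_, fun x => ?_⟩
  · rw [map_mul, map_mul, map_inv, heβ, mul_one, mul_inv_cancel]
  · change eγ * eβ * eγ⁻¹ * D.ι x
      = D.ι ((((g : MulAut Q) ((n : MulAut Q) ((g : MulAut Q)⁻¹ x)) : Q)) : Ω) * (eγ * eβ * eγ⁻¹)
    have h1 : eγ⁻¹ * D.ι x = D.ι (((g : MulAut Q)⁻¹ x : Q) : Ω) * eγ⁻¹ := by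
      have h2 := hγ ((g : MulAut Q)⁻¹ x)
      change eγ * D.ι (((g : MulAut Q)⁻¹ x : Q) : Ω)
        = D.ι (((g : MulAut Q) ((g : MulAut Q)⁻¹ x) : Q) : Ω) * eγ at h2
      rw [MulAut.apply_inv_self] at h2
      rw [inv_mul_eq_iff_eq_mul, ← mul_assoc, h2, mul_inv_cancel_right]
    have h3 := hβ ((g : MulAut Q)⁻¹ x)
    change eβ * D.ι (((g : MulAut Q)⁻¹ x : Q) : Ω)
      = D.ι (((n : MulAut Q) ((g : MulAut Q)⁻¹ x) : Q) : Ω) * eβ at h3
    have h4 := hγ ((n : MulAut Q) ((g : MulAut Q)⁻¹ x))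
    change eγ * D.ι (((n : MulAut Q) ((g : MulAut Q)⁻¹ x) : Q) : Ω)
      = D.ι (((g : MulAut Q) ((n : MulAut Q) ((g : MulAut Q)⁻¹ x)) : Q) : Ω) * eγ at h4
    rw [mul_assoc, h1, mul_assoc eγ eβ, ← mul_assoc eβ, h3, mul_assoc, ← mul_assoc eγ, h4]
    simp only [mul_assoc]

omit hp in
/-- Given `(★)`, the automorphisms induced by `S` lying in the automizer of the kernel subsystem
are induced by the kernel. -/
theorem autInducedBy_ker_eq {Q : Subgroup Ω} (hQ : Q ≤ D.ker) (hstar : D.Star Q) :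
    autInducedBy D.ker Q = autInducedBy S Q ⊓ D.sub.autGroup Q := by
  ext α
  rw [Subgroup.mem_inf, mem_autInducedBy_iff, mem_autInducedBy_iff]
  constructor
  · rintro ⟨g, hg, hα⟩
    refine ⟨⟨g, hg.1, hα⟩, Fusion.autInducedBy_le_autGroup D.sub hQ ?_⟩
    exact (mem_autInducedBy_iff _ _ _).mpr ⟨g, hg, hα⟩
  · rintro ⟨⟨g, hg, hα⟩, hαE⟩
    have hχ := (Fusion.mem_autGroup_iff D.sub hQ α).mp hαE
    obtain ⟨u, hu, hcent⟩ := hstar g hg _ hχ (fun y => hα y)
    refine ⟨u⁻¹, D.ker.inv_mem hu, fun x => ?_⟩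
    rw [hα x, inv_inv]
    have h1 := hcent x x.2
    calc g * (x : Ω) * g⁻¹ = u⁻¹ * (u * g * x) * g⁻¹ := by group
      _ = u⁻¹ * (x * (u * g)) * g⁻¹ := by rw [h1]
      _ = u⁻¹ * x * u := by group

/-- Given `(★)`, a subgroup of the kernel fully automized in the system is fully automized in the
kernel subsystem. -/
theorem sub_fullyAutomized [Finite S] (hS : IsPGroup p S) {Q : Subgroup Ω} (hQ : Q ≤ D.ker)
    (hstar : D.Star Q) (hfa : F.IsFullyAutomized p Q) : D.sub.IsFullyAutomized p Q := by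
  have hQS : Q ≤ S := hQ.trans D.ker_le
  have : Finite Q := Fusion.finite_of_le hQS
  have hEF : D.sub.autGroup Q ≤ F.autGroup Q :=
    PPowNorm.autGroup_le_of_subsystem D.sub F D.sub_isSubsystemOf Q
  obtain ⟨-, R, hR⟩ := hfa
  haveI := D.autGroup_sub_normal hQ
  have h1 := not_dvd_relIndex_of_normal p ((D.sub.autGroup Q).subgroupOf (F.autGroup Q)) R
  rw [hR, Subgroup.relIndex_subgroupOf hEF, ← Subgroup.inf_relIndex_right,
    ← D.autInducedBy_ker_eq hQ hstar] at h1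
  have h2 : IsPGroup p ((autInducedBy D.ker Q).subgroupOf (D.sub.autGroup Q)) :=
    (Fusion.isPGroup_autInducedBy p (hS.to_le D.ker_le) Q).comap_subtype
  exact ⟨hQ, h2.toSylow h1, IsPGroup.toSylow_coe h2 h1⟩

end Deg

end Cfsg.Agent.Helper6.Ppi
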