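import Mathlib
import Cfsg.Agent.Helper6.PpiE

/-!
# Subsystems of `p`-power index, part F: saturation of the kernel subsystem

Receptivity in the kernel subsystem, and the saturation of the kernel subsystem of a degree onto a
group of order `p`.
-/

set_option autoImplicit false
set_option linter.style.haveILetI false
set_option maxHeartbeats 800000

namespace Cfsg.Agent.Helper6.Ppi

open Cfsg Cfsg.FusionSystem Cfsg.Agent.Lead

universe u v

variable {Ω : Type u} [Group Ω] {S : Subgroup Ω}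

namespace Deg

variable {p : ℕ} [hp : Fact p.Prime] {F : FusionSystem S} {A : Type v} [CommGroup A]
  (D : Deg p F A)

omit hp in
theorem extender_ker_le (R : Subgroup Ω) (φ : R →* Ω) :
    extender D.ker R φ ≤ extender S R φ := by
  unfold extender
  apply Subgroup.closure_mono
  rintro g ⟨hg, hgN, h, hh, hgh⟩
  exact ⟨hg.1, hgN, h, hh.1, hgh⟩

/-- Given `(★)`, a subgroup of the kernel receptive in the system is receptive in the kernel
subsystem. -/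
theorem sub_receptive (hI : D.IndexP) {Q : Subgroup Ω} (hQ : Q ≤ D.ker)
    (hstar : D.Star Q) (hrec : F.IsReceptive Q) : D.sub.IsReceptive Q := by
  refine ⟨hQ, fun R φ hφ hrange => ?_⟩
  have hφF : φ ∈ F.Hom R := hφ.1
  have hRk : R ≤ D.ker := Fusion.src_le D.sub hφ
  obtain ⟨ψ, hψ, hext⟩ := hrec.2 R φ hφF hrange
  have hNle : extender D.ker R φ ≤ extender S R φ := D.extender_ker_le R φ
  have hNT : extender D.ker R φ ≤ D.ker := ProdSat.extender_le' D.ker R φ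
  have hRN : R ≤ extender D.ker R φ :=
    Fusion.le_extender R hRk φ (fun x => Fusion.map_mem D.sub hφ x)
  have hψ₁ : ψ.comp (Subgroup.inclusion hNle) ∈ F.Hom (extender D.ker R φ) :=
    Fusion.restrict_mem F hψ hNle
  obtain ⟨s', hs', χ', hχ', hχ's⟩ := D.frattini hI.hA hI.hsurj hNT hψ₁
  -- the inverse of `φ` in the kernel subsystem
  obtain ⟨φ', hφ', hinv, hr'⟩ := Fusion.exists_inv D.sub hφ hrange
  have hφ'R : ∀ y : Q, φ' y ∈ R := fun y => hr' ▸ ⟨y, rfl⟩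
  have hχ'R : χ'.comp (Subgroup.inclusion hRN) ∈ D.sub.Hom R := Fusion.restrict_mem D.sub hχ' hRN
  have hχ'' := D.sub.comp_mem hφ' hχ'R hφ'R
  have hφφ' : ∀ y : Q, φ ⟨φ' y, hφ'R y⟩ = y := by
    intro y
    have hy : (y : Ω) ∈ φ.range := hrange ▸ y.2
    obtain ⟨x, hx⟩ := hy
    have h1 : φ' ⟨φ x, hx ▸ y.2⟩ = x := hinv x _
    have h2 : (⟨φ x, hx ▸ y.2⟩ : Q) = y := Subtype.ext hx
    rw [h2] at h1
    have h3 : (⟨φ' y, hφ'R y⟩ : R) = x := Subtype.ext h1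
    rw [h3, hx]
  obtain ⟨u, hu, hcent⟩ := hstar s' hs' _ hχ'' (by
    intro y
    change χ' (Subgroup.inclusion hRN ⟨φ' y, hφ'R y⟩) = s' * y * s'⁻¹
    rw [hχ's]
    change s' * ψ ⟨φ' y, hNle (hRN (hφ'R y))⟩ * s'⁻¹ = _
    rw [hext _ (hφ'R y), hφφ' y])
  -- the extension
  have hrk : χ'.range ≤ D.ker := Fusion.range_le D.sub hχ'
  have hcu : conjHom χ'.range u ∈ D.sub.Hom χ'.range := D.sub.conj_mem hrk hu
  have hfinal := D.sub.comp_mem hχ' hcu (fun x => ⟨x, rfl⟩)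
  refine ⟨_, hfinal, fun x hP hN => ?_⟩
  change u * χ' ⟨x, hN⟩ * u⁻¹ = φ ⟨x, hP⟩
  rw [hχ's]
  change u * (s' * ψ ⟨x, hNle hN⟩ * s'⁻¹) * u⁻¹ = φ ⟨x, hP⟩
  rw [hext x hP]
  have hφQ : φ ⟨x, hP⟩ ∈ Q := hrange ▸ ⟨_, rfl⟩
  have h1 := hcent _ hφQ
  calc u * (s' * φ ⟨x, hP⟩ * s'⁻¹) * u⁻¹ = (u * s' * φ ⟨x, hP⟩) * s'⁻¹ * u⁻¹ := by group
    _ = φ ⟨x, hP⟩ * (u * s') * s'⁻¹ * u⁻¹ := by rw [h1]
    _ = φ ⟨x, hP⟩ := by group

/-- **Saturation of the kernel subsystem** of a degree onto a group of order `p`. -/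
theorem sub_isSaturated [Finite S] (hS : IsPGroup p S) (hF : F.IsSaturated p) (hI : D.IndexP) :
    D.sub.IsSaturated p := by
  intro P hP
  have hPS : P ≤ S := hP.trans D.ker_le
  obtain ⟨Q₀, ⟨φ₀, hφ₀, hr₀⟩, hfa₀, hrec₀⟩ := hF P hPS
  obtain ⟨s, hs, χ, hχ, hχs⟩ := D.frattini hI.hA hI.hsurj hP hφ₀
  have hrχ : χ.range = Q₀.map (MulAut.conj s).toMonoidHom := by
    ext y
    constructor
    · rintro ⟨x, rfl⟩
      rw [hχs]
      exact ⟨φ₀ x, hr₀ ▸ ⟨x, rfl⟩, rfl⟩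
    · rintro ⟨z, hz, rfl⟩
      rw [← hr₀] at hz
      obtain ⟨x, rfl⟩ := hz
      exact ⟨x, hχs x⟩
  have hQ₀fn : F.IsFullyNormalized Q₀ := Fusion.fullyNormalized_of_FAR p hS F hfa₀ hrec₀
  have hQfn : F.IsFullyNormalized χ.range := by
    rw [hrχ]
    exact fullyNormalized_map_conj F hs hQ₀fn
  obtain ⟨h1, h2⟩ := (Fusion.isSaturated_iff p hS F).mp hF
  obtain ⟨hQfc, hQfa⟩ := h1 _ hQfn
  have hQrec := h2 _ hQfc
  have hQk : χ.range ≤ D.ker := Fusion.range_le D.sub hχ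
  have hstar := D.star_of_receptive hI hQk hQrec
  exact ⟨χ.range, ⟨χ, hχ, rfl⟩, D.sub_fullyAutomized hS hQk hstar hQfa,
    D.sub_receptive hI hQk hstar hQrec⟩

end Deg

end Cfsg.Agent.Helper6.Ppi
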