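import Mathlib
import Cfsg.Prelude.Def_FusionReduction
import Cfsg.Agent.Lead.FusionPResidual

set_option autoImplicit false
set_option linter.style.haveILetI false

/-!
# Residual limits of fusion systems (S5203), part A

Extensionality of fusion systems, an eliminator for two systems (over possibly different
subgroups) with the same maps, uniqueness of the two residual subsystems, and uniqueness of the
residual limit.
-/

namespace Cfsg.Agent.Helper6.ResLim

open Cfsg Cfsg.FusionSystem Cfsg.Agent.Lead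

variable {Ω : Type*} [Group Ω]

/-- Two fusion systems over the same subgroup with the same maps are equal. -/
theorem fusionSystem_ext {T : Subgroup Ω} (E₁ E₂ : FusionSystem T)
    (h : ∀ P : Subgroup Ω, E₁.Hom P = E₂.Hom P) : E₁ = E₂ := by
  obtain ⟨H₁, _, _, _, _, _⟩ := E₁
  obtain ⟨H₂, _, _, _, _, _⟩ := E₂
  have h' : H₁ = H₂ := funext h
  subst h'
  rfl

/-- Two fusion systems with the same maps live over the same subgroup. -/
theorem base_eq_of_sameHom {T₁ T₂ : Subgroup Ω} (E₁ : FusionSystem T₁) (E₂ : FusionSystem T₂)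
    (h : ∀ P : Subgroup Ω, E₁.Hom P = E₂.Hom P) : T₁ = T₂ := by
  apply le_antisymm
  · have h1 := Fusion.subtype_mem E₁ (le_refl T₁)
    rw [h] at h1
    exact Fusion.src_le E₂ h1
  · have h1 := Fusion.subtype_mem E₂ (le_refl T₂)
    rw [← h] at h1
    exact Fusion.src_le E₁ h1

/-- Eliminator: to prove something about two systems with the same maps, it is enough to prove it
for a system and itself. -/
theorem sameHom_elim
    {motive : ∀ {T₁ T₂ : Subgroup Ω}, FusionSystem T₁ → FusionSystem T₂ → Prop}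
    (refl : ∀ {T : Subgroup Ω} (E : FusionSystem T), motive E E)
    {T₁ T₂ : Subgroup Ω} (E₁ : FusionSystem T₁) (E₂ : FusionSystem T₂)
    (h : ∀ P : Subgroup Ω, E₁.Hom P = E₂.Hom P) : motive E₁ E₂ := by
  have hT := base_eq_of_sameHom E₁ E₂ h
  subst hT
  have hE := fusionSystem_ext E₁ E₂ h
  subst hE
  exact refl E₁

/-- The `p`-residual subsystem is unique. -/
theorem pResidual_unique {S : Subgroup Ω} [Finite S] (p : ℕ) [Fact p.Prime] (hS : IsPGroup p S)
    (F : FusionSystem S) (D₁ D₂ : FusionSystem (F.hyperfocalSubgroup p))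
    (h₁ : F.IsPResidual p D₁) (h₂ : F.IsPResidual p D₂) : D₁ = D₂ :=
  fusionSystem_ext D₁ D₂ (Fusion.ppower_index_unique p hS F rfl D₁ D₂ h₁.1 h₂.1 h₁.2 h₂.2)

/-- The `p'`-residual subsystem is unique. -/
theorem pPrimeResidual_unique {S : Subgroup Ω} (p : ℕ) (F : FusionSystem S)
    (D₁ D₂ : FusionSystem S) (h₁ : F.IsPPrimeResidual p D₁) (h₂ : F.IsPPrimeResidual p D₂) :
    D₁ = D₂ :=
  fusionSystem_ext D₁ D₂ fun P =>
    Set.Subset.antisymm (h₁.2.2 D₂ h₂.1 h₂.2.1 P) (h₂.2.2 D₁ h₁.1 h₁.2.1 P)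

/-- Same-maps version of the uniqueness of the `p'`-residual subsystem. -/
theorem pPrimeResidual_sameHom {S₁ S₂ : Subgroup Ω} (p : ℕ) (F₁ : FusionSystem S₁)
    (F₂ : FusionSystem S₂) (h : ∀ P : Subgroup Ω, F₁.Hom P = F₂.Hom P)
    (D₁ : FusionSystem S₁) (D₂ : FusionSystem S₂) (h₁ : F₁.IsPPrimeResidual p D₁)
    (h₂ : F₂.IsPPrimeResidual p D₂) : ∀ P : Subgroup Ω, D₁.Hom P = D₂.Hom P := by
  revert D₁ D₂
  refine sameHom_elim (motive := fun {T₁ T₂} (E₁ : FusionSystem T₁) (E₂ : FusionSystem T₂) =>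
    ∀ (D₁ : FusionSystem T₁) (D₂ : FusionSystem T₂), E₁.IsPPrimeResidual p D₁ →
      E₂.IsPPrimeResidual p D₂ → ∀ P : Subgroup Ω, D₁.Hom P = D₂.Hom P) ?_ F₁ F₂ h
  intro T E D₁ D₂ h₁ h₂ P
  rw [pPrimeResidual_unique p E D₁ D₂ h₁ h₂]

/-- A system is *stable* when it is its own hyperfocal subgroup's system and its own
`p'`-residual. -/
def Stable {S : Subgroup Ω} (F : FusionSystem S) (p : ℕ) : Prop :=
  F.hyperfocalSubgroup p = S ∧ F.IsPPrimeResidual p F

/-- Inversion of a residual-limit derivation. -/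
theorem limit_inv {T S : Subgroup Ω} {X : FusionSystem T} {F : FusionSystem S} {p : ℕ}
    (h : X.IsResidualLimitOf F p) :
    ((∀ P : Subgroup Ω, X.Hom P = F.Hom P) ∧ Stable F p) ∨
      ∃ D D' : FusionSystem (F.hyperfocalSubgroup p), F.IsPResidual p D ∧
        D.IsPPrimeResidual p D' ∧ X.IsResidualLimitOf D' p := by
  cases h with
  | stable _ _ h1 h2 => exact Or.inl ⟨fun _ => rfl, h1, h2⟩
  | step _ _ D D' h1 h2 h3 => exact Or.inr ⟨D, D', h1, h2, h3⟩

/-- A system has `p`-power index in itself. -/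
theorem hasPPowerIndexIn_self {S : Subgroup Ω} (F : FusionSystem S) (p : ℕ) :
    F.HasPPowerIndexIn F p := by
  refine ⟨fun P => subset_rfl, Fusion.hyperfocal_le F p, ?_⟩
  rintro P - _ ⟨α, -, rfl⟩
  exact α.2

/-- Lemma A: every residual limit of a stable system has the maps of the system. -/
theorem limit_of_stable {T S : Subgroup Ω} {X : FusionSystem T} {F : FusionSystem S} {p : ℕ}
    (h : X.IsResidualLimitOf F p) :
    Fact p.Prime → Finite S → IsPGroup p S → Stable F p →
      ∀ P : Subgroup Ω, X.Hom P = F.Hom P := by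
  induction h with
  | stable F p h1 h2 => exact fun _ _ _ _ _ => rfl
  | step F p D D' hD hD' hX ih =>
    intro hp hfin hS hst
    -- `D` has the maps of `F`
    have hDF : ∀ P : Subgroup Ω, D.Hom P = F.Hom P :=
      Fusion.ppower_index_unique p hS F hst.1 D F hD.1 hst.2.1 hD.2 (hasPPowerIndexIn_self F p)
    -- `D'` has the maps of `F`
    have hD'F : ∀ P : Subgroup Ω, D'.Hom P = F.Hom P :=
      pPrimeResidual_sameHom p D F hDF D' F hD' hst.2
    -- `D'` is stable
    have hst' : Stable D' p := by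
      revert hst
      refine sameHom_elim (motive := fun {T₁ T₂} (E₁ : FusionSystem T₁)
        (E₂ : FusionSystem T₂) => Stable E₂ p → Stable E₁ p) ?_ D' F hD'F
      exact fun E h => h
    have hle := Fusion.hyperfocal_le F p
    have hfin' : Finite (F.hyperfocalSubgroup p) := Fusion.finite_of_le hle
    intro P
    rw [ih hp hfin' (hS.to_le hle) hst' P, hD'F P]

/-- Uniqueness of the residual limit of a given system. -/
theorem limit_unique_same {T₁ S : Subgroup Ω} {X₁ : FusionSystem T₁} {F : FusionSystem S} {p : ℕ}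
    (h₁ : X₁.IsResidualLimitOf F p) :
    Fact p.Prime → Finite S → IsPGroup p S → ∀ {T₂ : Subgroup Ω} (X₂ : FusionSystem T₂),
      X₂.IsResidualLimitOf F p → ∀ P : Subgroup Ω, X₁.Hom P = X₂.Hom P := by
  induction h₁ with
  | stable F p h1 h2 =>
    intro hp hfin hS T₂ X₂ h₂ P
    exact (limit_of_stable h₂ hp hfin hS ⟨h1, h2⟩ P).symm
  | step F p D D' hD hD' hX ih =>
    intro hp hfin hS T₂ X₂ h₂ P
    rcases limit_inv h₂ with ⟨hXF, hst⟩ | ⟨D₂, D₂', hD₂, hD₂', hX₂⟩
    · rw [hXF P]
      exact limit_of_stable (IsResidualLimitOf.step F p D D' hD hD' hX) hp hfin hS hst P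
    · have e1 : D = D₂ := pResidual_unique p hS F D D₂ hD hD₂
      subst e1
      have e2 : D' = D₂' := pPrimeResidual_unique p D D' D₂' hD' hD₂'
      subst e2
      have hle := Fusion.hyperfocal_le F p
      have hfin' : Finite (F.hyperfocalSubgroup p) := Fusion.finite_of_le hle
      exact ih hp hfin' (hS.to_le hle) X₂ hX₂ P

/-- Uniqueness of the residual limit: systems with the same maps have residual limits with the
same maps. -/
theorem limit_unique {T₁ T₂ S₁ S₂ : Subgroup Ω} {X₁ : FusionSystem T₁} {X₂ : FusionSystem T₂}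
    {F₁ : FusionSystem S₁} {F₂ : FusionSystem S₂} {p : ℕ} [Fact p.Prime]
    (hF : ∀ P : Subgroup Ω, F₁.Hom P = F₂.Hom P) [Finite S₁] (hS : IsPGroup p S₁)
    (h₁ : X₁.IsResidualLimitOf F₁ p) (h₂ : X₂.IsResidualLimitOf F₂ p) :
    ∀ P : Subgroup Ω, X₁.Hom P = X₂.Hom P := by
  have hfin : Finite S₁ := inferInstance
  revert h₂
  revert h₁
  revert hS
  revert hfin
  refine sameHom_elim (motive := fun {U₁ U₂} (E₁ : FusionSystem U₁) (E₂ : FusionSystem U₂) =>
    Finite U₁ → IsPGroup p U₁ → X₁.IsResidualLimitOf E₁ p → X₂.IsResidualLimitOf E₂ p →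
      ∀ P : Subgroup Ω, X₁.Hom P = X₂.Hom P) ?_ F₁ F₂ hF
  intro U E hfin hS h₁ h₂
  exact limit_unique_same h₁ inferInstance hfin hS X₂ h₂

end Cfsg.Agent.Helper6.ResLim
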