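import Mathlib
import Cfsg.Prelude.Def_FusionReduction
import Cfsg.Agent.Lead.FusionPResidual
import Cfsg.Agent.Lead.FusionHypQuot
import Cfsg.Agent.Helper6.PPowNormA
import Cfsg.Agent.Helper6.ResLimA

set_option autoImplicit false
set_option linter.style.haveILetI false

/-!
# Residual limits of fusion systems (S5203), part B

A subsystem `E` of `p`-power index in `F` over a strongly closed subgroup has the same hyperfocal
subgroup as `F`, and its `p`-residual subsystem is the `p`-residual subsystem of `F`.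
-/

namespace Cfsg.Agent.Helper6.ResLim

open Cfsg Cfsg.FusionSystem Cfsg.Agent.Lead Cfsg.Agent.Helper6.PPowNorm

/-! ### A coprime-action lemma -/

section coprime

variable {G : Type*} [Group G]

theorem coprime_aux1 (R N : Subgroup G) (hN : ∀ r ∈ R, ∀ m ∈ N, r⁻¹ * m * r ∈ N) (c d : G)
    (hc : c ∈ R) (hd : d ∈ N) : ∀ j : ℕ, (c ^ j)⁻¹ * (c * d) ^ j ∈ N := by
  intro j
  induction j with
  | zero => simp
  | succ j ih =>
    have h1 := hN c hc _ ih
    have h2 := N.mul_mem h1 hd
    have h3 : (c ^ (j + 1))⁻¹ * (c * d) ^ (j + 1) =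
        c⁻¹ * ((c ^ j)⁻¹ * (c * d) ^ j) * c * d := by
      rw [pow_succ, pow_succ]
      group
    rw [h3]
    exact h2

theorem coprime_aux2 (β : MulAut G) (R N : Subgroup G) (hNR : N ≤ R)
    (hN : ∀ r ∈ R, ∀ m ∈ N, r⁻¹ * m * r ∈ N) (hβ : ∀ r ∈ R, r⁻¹ * β r ∈ N) (x : G)
    (hc : x⁻¹ * β x ∈ R) : ∀ j : ℕ, (x * (x⁻¹ * β x) ^ j)⁻¹ * (β ^ j) x ∈ N := by
  intro j
  induction j with
  | zero => simp
  | succ j ih =>
    obtain ⟨c, hcdef⟩ : ∃ c, c = x⁻¹ * β x := ⟨_, rfl⟩
    rw [← hcdef] at ih hc ⊢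
    obtain ⟨m, hm⟩ : ∃ m, m = (x * c ^ j)⁻¹ * (β ^ j) x := ⟨_, rfl⟩
    rw [← hm] at ih
    have hx : (β ^ j) x = x * c ^ j * m := by
      rw [hm]
      group
    have h1 : (β ^ (j + 1)) x = β x * (β c) ^ j * β m := by
      rw [pow_succ', MulAut.mul_apply, hx, map_mul, map_mul, map_pow]
    have hd : c⁻¹ * β c ∈ N := hβ c hc
    have h2 := coprime_aux1 R N hN c (c⁻¹ * β c) hc hd j
    have h3 : c * (c⁻¹ * β c) = β c := by group
    rw [h3] at h2
    have h4 : β m ∈ N := by
      have := N.mul_mem ih (hβ m (hNR ih))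
      rwa [mul_inv_cancel_left] at this
    have h5 : β x = x * c := by
      rw [hcdef]
      group
    have h6 : (x * c ^ (j + 1))⁻¹ * (β ^ (j + 1)) x = ((c ^ j)⁻¹ * (β c) ^ j) * β m := by
      rw [h1, pow_succ, h5]
      group
    rw [h6]
    exact N.mul_mem h2 h4

/-- Let `β` be an automorphism of `G` with `β ^ n = 1`, `R` a subgroup on which `β` acts trivially
modulo a subgroup `N` normal in `R`. If `c = x⁻¹ β(x)` lies in `R` and has order prime to `n`, then
`c ∈ N`. -/
theorem mem_of_coprime_action (β : MulAut G) (R N : Subgroup G) (hNR : N ≤ R)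
    (hN : ∀ r ∈ R, ∀ m ∈ N, r⁻¹ * m * r ∈ N) (hβ : ∀ r ∈ R, r⁻¹ * β r ∈ N) (x : G)
    (hc : x⁻¹ * β x ∈ R) (n : ℕ) (hn : β ^ n = 1)
    (hcop : n.Coprime (orderOf (x⁻¹ * β x))) : x⁻¹ * β x ∈ N := by
  have h := coprime_aux2 β R N hNR hN hβ x hc n
  rw [hn, MulAut.one_apply] at h
  have h2 : ((x⁻¹ * β x) ^ n)⁻¹ ∈ N := by
    have e : ((x⁻¹ * β x) ^ n)⁻¹ = (x * (x⁻¹ * β x) ^ n)⁻¹ * x := by group
    rw [e]
    exact h
  have h3 := N.inv_mem h2
  rw [inv_inv] at h3
  obtain ⟨m, hm⟩ := exists_pow_eq_self_of_coprime hcop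
  rw [← hm]
  exact N.pow_mem h3 m

end coprime

variable {Ω : Type*} [Group Ω] {S : Subgroup Ω}

/-- For a subsystem `E` of `p`-power index in `F` and `R ≤ T`, every element of `O^p(Aut_F(R))` is
an element of `O^p(Aut_E(R))`. -/
theorem exists_pResidual_sub (p : ℕ) (F : FusionSystem S) {T : Subgroup Ω} (E : FusionSystem T)
    (hidx : E.HasPPowerIndexIn F p) {R : Subgroup Ω} (hRT : R ≤ T) (γ : F.autGroup R)
    (hγ : γ ∈ pResidual p (F.autGroup R)) :
    ∃ δ : E.autGroup R, δ ∈ pResidual p (E.autGroup R) ∧ (δ : MulAut R) = (γ : MulAut R) := by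
  have key : pResidual p (F.autGroup R) ≤
      ((pResidual p (E.autGroup R)).map (E.autGroup R).subtype).comap (F.autGroup R).subtype := by
    unfold pResidual
    rw [Subgroup.closure_le]
    intro g hg
    have hgc : (orderOf g).Coprime p := hg
    have hgE : (g : MulAut R) ∈ E.autGroup R :=
      hidx.2.2 R hRT ⟨g, mem_pResidual_of_coprime' hgc, rfl⟩
    refine ⟨⟨g.1, hgE⟩, ?_, rfl⟩
    apply Subgroup.subset_closure
    show (orderOf (⟨g.1, hgE⟩ : E.autGroup R)).Coprime p
    rw [← Subgroup.orderOf_coe]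
    rw [← Subgroup.orderOf_coe] at hgc
    exact hgc
  obtain ⟨δ, hδ, hδγ⟩ := key hγ
  exact ⟨δ, hδ, hδγ⟩

/-- A subsystem `E` of `p`-power index in `F` over a strongly closed subgroup has the same
hyperfocal subgroup as `F`. -/
theorem hyperfocal_eq_of_ppower [Finite S] (p : ℕ) [Fact p.Prime] (hS : IsPGroup p S)
    (F : FusionSystem S) {T : Subgroup Ω} (E : FusionSystem T) (hsc : F.StronglyClosed T)
    (hidx : E.HasPPowerIndexIn F p) : E.hyperfocalSubgroup p = F.hyperfocalSubgroup p := by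
  have hTS : T ≤ S := hsc.1
  apply le_antisymm
  · unfold FusionSystem.hyperfocalSubgroup
    rw [Subgroup.closure_le]
    rintro y ⟨P, α, x, hPT, hα, rfl⟩
    have hEF : E.autGroup P ≤ F.autGroup P := by
      unfold FusionSystem.autGroup
      apply Subgroup.closure_mono
      intro β hβ
      exact hidx.1 P hβ
    have h2 := pResidual_map_le p (Subgroup.inclusion hEF) ⟨α, hα, rfl⟩
    exact Fusion.mem_hyperfocal F p (hPT.trans hTS) _ h2 x
  · conv_lhs => unfold FusionSystem.hyperfocalSubgroup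
    rw [Subgroup.closure_le]
    rintro y ⟨P, β, x, hPS, hβ, rfl⟩
    have key : pResidual p (F.autGroup P) ≤
        Fusion.commSub (F.autGroup P) (E.hyperfocalSubgroup p) := by
      unfold pResidual
      rw [Subgroup.closure_le]
      intro β hβ
      have hβc : (orderOf β).Coprime p := hβ
      have hβres : β ∈ pResidual p (F.autGroup P) := mem_pResidual_of_coprime' hβc
      have hRP : P ⊓ T ≤ P := inf_le_left
      have hRT : P ⊓ T ≤ T := inf_le_right
      haveI : Finite ↥(P ⊓ T) := Fusion.finite_of_le (hRT.trans hTS)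
      have hR : ∀ β ∈ F.autGroup P, ∀ x : P, (x : Ω) ∈ P ⊓ T → ((β x : P) : Ω) ∈ P ⊓ T :=
        fun β hβ x hx => ⟨(β x).2, Fusion.aut_mem_of_stronglyClosed F hPS hsc β hβ x hx.2⟩
      have hγ := resAut_mem_pResidual F p hPS hRP hR β hβres
      obtain ⟨δ, hδ, hδγ⟩ := exists_pResidual_sub p F E hidx hRT _ hγ
      -- `β` acts trivially on `P ∩ T` modulo the hyperfocal subgroup of `E`
      have hstar : ∀ r : P, (r : Ω) ∈ T →
          (r : Ω)⁻¹ * (((β : MulAut P) r : P) : Ω) ∈ E.hyperfocalSubgroup p := by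
        intro r hr
        have h1 := Fusion.mem_hyperfocal E p hRT δ hδ ⟨r.1, r.2, hr⟩
        rw [hδγ, resAut_apply] at h1
        exact h1
      intro x
      have hcT : (x : Ω)⁻¹ * (((β : MulAut P) x : P) : Ω) ∈ T :=
        hidx.2.1 (Fusion.mem_hyperfocal F p hPS β hβres x)
      have hn : (β : MulAut P) ^ orderOf β = 1 := by
        have h1 := pow_orderOf_eq_one β
        have h2 : ((β ^ orderOf β : F.autGroup P) : MulAut P) = ((1 : F.autGroup P) : MulAut P) := by
          rw [h1]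
        rw [Subgroup.coe_pow, Subgroup.coe_one] at h2
        exact h2
      have hPp : IsPGroup p P := hS.to_le hPS
      obtain ⟨k, hk⟩ := (IsPGroup.iff_orderOf.mp hPp) (x⁻¹ * (β : MulAut P) x)
      have hcop : (orderOf β).Coprime (orderOf (x⁻¹ * (β : MulAut P) x)) := by
        rw [hk]
        exact Nat.Coprime.pow_right k hβc
      have := mem_of_coprime_action (β : MulAut P) (T.subgroupOf P)
        ((E.hyperfocalSubgroup p).subgroupOf P)
        (fun z hz => Fusion.hyperfocal_le E p hz) ?_ ?_ x ?_ (orderOf β) hn hcop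
      · simpa [Subgroup.mem_subgroupOf] using this
      · intro r hr m hm
        rw [Subgroup.mem_subgroupOf] at hr hm ⊢
        have := Fusion.conj_mem_hyperfocal E p (g := (r : Ω)⁻¹) (T.inv_mem hr) hm
        simpa using this
      · intro r hr
        rw [Subgroup.mem_subgroupOf] at hr ⊢
        simpa using hstar r hr
      · rw [Subgroup.mem_subgroupOf]
        simpa using hcT
    exact key hβ x

/-- The `p`-residual subsystem of a subsystem `E` of `p`-power index in `F` over a strongly closed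
subgroup has `p`-power index in `F`. -/
theorem pResidual_hasPPowerIndexIn [Finite S] (p : ℕ) [Fact p.Prime] (hS : IsPGroup p S)
    (F : FusionSystem S) {T : Subgroup Ω} (E : FusionSystem T) (hsc : F.StronglyClosed T)
    (hidx : E.HasPPowerIndexIn F p) (D : FusionSystem (E.hyperfocalSubgroup p))
    (hD : E.IsPResidual p D) : D.HasPPowerIndexIn F p := by
  refine ⟨fun P => (hD.2.1 P).trans (hidx.1 P), ?_, ?_⟩
  · rw [hyperfocal_eq_of_ppower p hS F E hsc hidx]
  · rintro P hP _ ⟨γ, hγ, rfl⟩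
    have hPT : P ≤ T := hP.trans (Fusion.hyperfocal_le E p)
    obtain ⟨δ, hδ, hδγ⟩ := exists_pResidual_sub p F E hidx hPT γ hγ
    have := hD.2.2.2 P hP ⟨δ, hδ, rfl⟩
    rw [Subgroup.coe_subtype] at this ⊢
    rw [← hδγ]
    exact this

/-- **Residual limits of a normal subsystem of `p`-power index** (with only strong closure of the
underlying subgroup used). -/
theorem limit_of_ppower [Finite S] (p : ℕ) [Fact p.Prime] (hS : IsPGroup p S)
    (F : FusionSystem S) (hF : F.IsSaturated p) {T : Subgroup Ω} (E : FusionSystem T)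
    (hEsat : E.IsSaturated p) (hsc : F.StronglyClosed T) (hidx : E.HasPPowerIndexIn F p)
    {U V : Subgroup Ω} (Finf : FusionSystem U) (hFinf : Finf.IsResidualLimitOf F p)
    (Einf : FusionSystem V) (hEinf : Einf.IsResidualLimitOf E p) :
    ∀ P : Subgroup Ω, Finf.Hom P = Einf.Hom P := by
  have hTS : T ≤ S := hsc.1
  haveI : Finite T := Fusion.finite_of_le hTS
  have hT : IsPGroup p T := hS.to_le hTS
  have hhyp := hyperfocal_eq_of_ppower p hS F E hsc hidx
  have hle := Fusion.hyperfocal_le F p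
  haveI hfin' : Finite (F.hyperfocalSubgroup p) := Fusion.finite_of_le hle
  have hS' : IsPGroup p (F.hyperfocalSubgroup p) := hS.to_le hle
  rcases limit_inv hFinf with ⟨hFF, hst⟩ | ⟨D, D', hD, hD', hlim⟩
  · -- `F` is stable, so `T = S` and `E` has the maps of `F`
    have hST : S = T := le_antisymm (by rw [← hst.1]; exact hidx.2.1) hTS
    have hEF : ∀ P : Subgroup Ω, F.Hom P = E.Hom P :=
      Fusion.ppower_index_unique p hS F hST F E hF hEsat (hasPPowerIndexIn_self F p) hidx
    exact limit_unique hEF hS hFinf hEinf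
  · rcases limit_inv hEinf with ⟨hEE, hstE⟩ | ⟨DE, DE', hDE, hDE', hlimE⟩
    · -- `E` is stable
      have hTh : F.hyperfocalSubgroup p = T := by rw [← hhyp]; exact hstE.1
      have hDE : ∀ P : Subgroup Ω, D.Hom P = E.Hom P :=
        Fusion.ppower_index_unique p hS F hTh D E hD.1 hEsat hD.2 hidx
      have hD'E : ∀ P : Subgroup Ω, D'.Hom P = E.Hom P :=
        pPrimeResidual_sameHom p D E hDE D' E hD' hstE.2
      exact limit_unique hD'E hS' hlim hEinf
    · have hDD : ∀ P : Subgroup Ω, D.Hom P = DE.Hom P :=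
        Fusion.ppower_index_unique p hS F hhyp.symm D DE hD.1 hDE.1 hD.2
          (pResidual_hasPPowerIndexIn p hS F E hsc hidx DE hDE)
      have hD'D' : ∀ P : Subgroup Ω, D'.Hom P = DE'.Hom P :=
        pPrimeResidual_sameHom p D DE hDD D' DE' hD' hDE'
      exact limit_unique hD'D' hS' hlim hlimE

end Cfsg.Agent.Helper6.ResLim
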