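import Mathlib
import Cfsg.Agent.Helper6.PpiF
import Cfsg.Agent.Helper6.ResLimB

/-!
# Subsystems of `p`-power index, part G: existence over a normal subgroup of index `p`

For a saturated fusion system `F` over a finite `p`-group `S` and a normal subgroup `M` of index `p`
in `S` containing the hyperfocal subgroup of `F`, there is a saturated subsystem of `F` over `M` of
`p`-power index.
-/

set_option autoImplicit false
set_option linter.style.haveILetI false
set_option maxHeartbeats 800000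

namespace Cfsg.Agent.Helper6.Ppi

open Cfsg Cfsg.FusionSystem Cfsg.Agent.Lead
open scoped commutatorElement

universe u

variable {Ω : Type u} [Group Ω] {S : Subgroup Ω}

/-- Transport of a saturated subsystem of `p`-power index along an equality of subgroups. -/
theorem exists_of_eq {p : ℕ} {F : FusionSystem S} {T T' : Subgroup Ω} (h : T = T')
    (E : FusionSystem T) (hsat : E.IsSaturated p) (hidx : E.HasPPowerIndexIn F p) :
    ∃ E' : FusionSystem T', E'.IsSaturated p ∧ E'.HasPPowerIndexIn F p := by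
  subst h
  exact ⟨E, hsat, hidx⟩

/-- The kernel of a class function is strongly closed. -/
theorem Deg.ker_stronglyClosed {p : ℕ} {F : FusionSystem S} {A : Type*} [CommGroup A]
    (D : Deg p F A) : F.StronglyClosed D.ker := by
  refine ⟨D.ker_le, fun R hR φ hφ x => ⟨Fusion.map_mem F hφ x, ?_⟩⟩
  rw [D.θ_stable R φ hφ x]
  exact (hR x.2).2

/-- Existence over a normal subgroup of index `p`. -/
theorem exists_ppower_of_index_p [Finite S] (p : ℕ) [hp : Fact p.Prime] (hS : IsPGroup p S)
    (F : FusionSystem S) (hF : F.IsSaturated p) (M : Subgroup Ω) (hMS : M ≤ S)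
    (hhyp : F.hyperfocalSubgroup p ≤ M) (hidx : (M.subgroupOf S).index = p) :
    F.StronglyClosed M ∧ ∃ E : FusionSystem M, E.IsSaturated p ∧ E.HasPPowerIndexIn F p := by
  classical
  -- normality
  obtain ⟨k, hk⟩ := (IsPGroup.iff_card (p := p) (G := S)).mp hS
  have hk0 : k ≠ 0 := by
    rintro rfl
    rw [pow_zero] at hk
    have h1 : (M.subgroupOf S).index ∣ Nat.card S := Subgroup.index_dvd_card _
    rw [hidx, hk, Nat.dvd_one] at h1
    exact hp.out.one_lt.ne' h1
  haveI hnorm : (M.subgroupOf S).Normal := by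
    apply Subgroup.normal_of_index_eq_minFac_card
    rw [hidx, hk, hp.out.pow_minFac hk0]
  -- the quotient is commutative of order `p`
  have hcard : Nat.card (↥S ⧸ M.subgroupOf S) = p := by
    rw [← Subgroup.index_eq_card, hidx]
  haveI : Finite (↥S ⧸ M.subgroupOf S) := Nat.finite_of_card_ne_zero (by
    rw [hcard]; exact hp.out.ne_zero)
  haveI : IsCyclic (↥S ⧸ M.subgroupOf S) := isCyclic_of_prime_card hcard
  letI : CommGroup (↥S ⧸ M.subgroupOf S) := IsCyclic.commGroup
  let θ : S →* (↥S ⧸ M.subgroupOf S) := QuotientGroup.mk' (M.subgroupOf S)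
  have hθ1 : ∀ s : S, θ s = 1 ↔ (s : Ω) ∈ M := by
    intro s
    change ((s : S) : ↥S ⧸ M.subgroupOf S) = 1 ↔ _
    rw [QuotientGroup.eq_one_iff, Subgroup.mem_subgroupOf]
  have hA : ∀ a : (↥S ⧸ M.subgroupOf S), a ^ p = 1 := by
    intro a
    rw [← hcard]
    exact pow_card_eq_one'
  -- commutators of `S` lie in `M`
  have hcomm : ⁅(S : Subgroup Ω), (S : Subgroup Ω)⁆ ≤ M := by
    rw [Subgroup.commutator_le]
    intro a ha b hb
    have h1 : θ (⁅(⟨a, ha⟩ : S), ⟨b, hb⟩⁆) = 1 := by
      rw [map_commutatorElement]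
      exact commutatorElement_eq_one_iff_commute.mpr (Commute.all _ _)
    exact (hθ1 _).mp h1
  have hθ : ∀ (P : Subgroup Ω) (φ : P →* Ω) (hφ : φ ∈ F.Hom P) (x : P),
      θ ⟨φ x, Fusion.map_mem F hφ x⟩ = θ ⟨x, Fusion.src_le F hφ x.2⟩ := by
    intro P φ hφ x
    have h1 : (x : Ω)⁻¹ * φ x ∈ F.focalSubgroup :=
      Subgroup.subset_closure ⟨P, φ, x, hφ, rfl⟩
    rw [Fusion.focal_eq p hS F hF] at h1
    have h2 : (x : Ω)⁻¹ * φ x ∈ M := (sup_le hhyp hcomm) h1
    have h3 : θ ((⟨x, Fusion.src_le F hφ x.2⟩ : S)⁻¹ * ⟨φ x, Fusion.map_mem F hφ x⟩) = 1 :=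
      (hθ1 _).mpr h2
    rw [map_mul, map_inv, inv_mul_eq_one] at h3
    exact h3.symm
  obtain ⟨D, hDθ⟩ := exists_deg p hS F hF hA θ hθ
  have hker : D.ker = M := by
    ext x
    rw [D.mem_ker]
    constructor
    · rintro ⟨hx, hx1⟩
      rw [hDθ x hx] at hx1
      exact (hθ1 _).mp hx1
    · intro hx
      refine ⟨hMS hx, ?_⟩
      rw [hDθ x (hMS hx)]
      exact (hθ1 _).mpr hx
  have hI : D.IndexP := by
    refine ⟨hA, ?_, ?_⟩
    · intro a
      obtain ⟨s, rfl⟩ := QuotientGroup.mk'_surjective (M.subgroupOf S) a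
      exact ⟨s, s.2, hDθ s s.2⟩
    · intro c hc hc1 a
      have h1 := zpowers_eq_top_of_prime_card hcard hc1
      have h2 : a ∈ Submonoid.powers (D.θ c) := by
        rw [mem_powers_iff_mem_zpowers, h1]
        trivial
      exact h2
  exact ⟨hker ▸ D.ker_stronglyClosed,
    exists_of_eq hker D.sub (D.sub_isSaturated hS hF hI) (D.sub_hasPPowerIndexIn hA)⟩

end Cfsg.Agent.Helper6.Ppi
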