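import Mathlib
import Cfsg.Agent.Helper6.PpiG
import Cfsg.Agent.Lead.FusionPResidual

/-!
# Subsystems of `p`-power index, part H: existence and uniqueness over any subgroup

For a saturated fusion system `F` over a finite `p`-group `S` and any subgroup `T` of `S` containing
the hyperfocal subgroup of `F`, there is exactly one saturated subsystem of `F` over `T` of `p`-power
index (Broto–Castellana–Grodal–Levi–Oliver).
-/

set_option autoImplicit false
set_option linter.style.haveILetI false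
set_option maxHeartbeats 800000

namespace Cfsg.Agent.Helper6.Ppi

open Cfsg Cfsg.FusionSystem Cfsg.Agent.Lead

universe u

variable {Ω : Type u} [Group Ω]

/-- A proper subgroup of a finite `p`-group lies in a subgroup of index `p`. -/
theorem exists_index_p {S : Subgroup Ω} [Finite S] (p : ℕ) [hp : Fact p.Prime] (hS : IsPGroup p S)
    {T : Subgroup Ω} (hTS : T ≤ S) (hne : T ≠ S) :
    ∃ M : Subgroup Ω, T ≤ M ∧ M ≤ S ∧ (M.subgroupOf S).index = p := by
  obtain ⟨k, hk⟩ := (IsPGroup.iff_card (p := p) (G := S)).mp hS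
  obtain ⟨n, hn⟩ := (IsPGroup.iff_card (p := p) (G := T.subgroupOf S)).mp
    (hS.to_subgroup (T.subgroupOf S))
  have hlt : n < k := by
    by_contra hge
    push Not at hge
    apply hne
    have h1 : Nat.card (T.subgroupOf S) ∣ Nat.card S := Subgroup.card_subgroup_dvd_card _
    have h2 : Nat.card S ≤ Nat.card (T.subgroupOf S) := by
      rw [hk, hn]
      exact Nat.pow_le_pow_right hp.out.pos hge
    have h3 : T.subgroupOf S = ⊤ :=
      Subgroup.eq_top_of_le_card _ h2
    exact le_antisymm hTS (Subgroup.subgroupOf_eq_top.mp h3)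
  obtain ⟨K, hK, hTK⟩ := Sylow.exists_subgroup_card_pow_prime_le p (m := k - 1)
    (by rw [hk]; exact pow_dvd_pow p (Nat.sub_le k 1)) (T.subgroupOf S) hn (by omega)
  refine ⟨K.map S.subtype, ?_, ?_, ?_⟩
  · intro x hx
    exact ⟨⟨x, hTS hx⟩, hTK (Subgroup.mem_subgroupOf.mpr hx), rfl⟩
  · rintro _ ⟨x, -, rfl⟩
    exact x.2
  · have h1 : (K.map S.subtype).subgroupOf S = K := by
      ext x
      rw [Subgroup.mem_subgroupOf]
      constructor
      · rintro ⟨y, hy, hxy⟩
        have : y = x := Subtype.ext hxy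
        exact this ▸ hy
      · intro hx
        exact ⟨x, hx, rfl⟩
    rw [h1]
    have h2 := Subgroup.card_mul_index K
    rw [hK, hk] at h2
    have h3 : p ^ (k - 1) * p = p ^ k := by
      rw [← pow_succ]
      congr 1
      omega
    rw [← h3] at h2
    exact Nat.eq_of_mul_eq_mul_left (pow_pos hp.out.pos _) h2

/-- Transitivity of `p`-power index. -/
theorem hasPPowerIndexIn_trans {S : Subgroup Ω} {p : ℕ} {F : FusionSystem S} {M T : Subgroup Ω}
    (E₁ : FusionSystem M) (E₂ : FusionSystem T) (hTM : T ≤ M)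
    (h₁ : E₁.HasPPowerIndexIn F p) (h₂ : E₂.HasPPowerIndexIn E₁ p)
    (hhyp : F.hyperfocalSubgroup p ≤ T) : E₂.HasPPowerIndexIn F p := by
  refine ⟨fun P => (h₂.1 P).trans (h₁.1 P), hhyp, ?_⟩
  intro P hPT
  unfold Cfsg.pResidual
  rw [MonoidHom.map_closure, Subgroup.closure_le]
  rintro _ ⟨α, hα, rfl⟩
  -- `α` lies in the automizer of `E₁`
  have hα₁ : (α : MulAut P) ∈ E₁.autGroup P :=
    h₁.2.2 P (hPT.trans hTM) ⟨α, mem_pResidual_of_coprime' hα, rfl⟩
  have hcop : Nat.Coprime (orderOf (⟨(α : MulAut P), hα₁⟩ : E₁.autGroup P)) p := by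
    have h1 : orderOf (⟨(α : MulAut P), hα₁⟩ : E₁.autGroup P) = orderOf (α : MulAut P) :=
      (Subgroup.orderOf_coe (⟨(α : MulAut P), hα₁⟩ : E₁.autGroup P)).symm
    rw [h1, Subgroup.orderOf_coe]
    exact hα
  exact h₂.2.2 P hPT ⟨⟨(α : MulAut P), hα₁⟩, mem_pResidual_of_coprime' hcop, rfl⟩

/-- **Existence of the saturated subsystem of `p`-power index over a subgroup containing the
hyperfocal subgroup.** -/
theorem exists_ppower (p : ℕ) [hp : Fact p.Prime] :
    ∀ (n : ℕ) (S : Subgroup Ω) [Finite S], Nat.card S = n → IsPGroup p S →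
      ∀ F : FusionSystem S, F.IsSaturated p → ∀ T : Subgroup Ω, T ≤ S →
        F.hyperfocalSubgroup p ≤ T →
        ∃ E : FusionSystem T, E.IsSaturated p ∧ E.HasPPowerIndexIn F p := by
  intro n
  induction n using Nat.strong_induction_on with
  | _ n ih =>
  intro S _ hn hS F hF T hTS hhyp
  by_cases hTeq : T = S
  · exact exists_of_eq hTeq.symm F hF (ResLim.hasPPowerIndexIn_self F p)
  · obtain ⟨M, hTM, hMS, hidx⟩ := exists_index_p p hS hTS hTeq
    obtain ⟨hsc, E₁, hE₁sat, hE₁idx⟩ :=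
      exists_ppower_of_index_p p hS F hF M hMS (hhyp.trans hTM) hidx
    have hfinM : Finite M := Fusion.finite_of_le hMS
    have hcardM : Nat.card M < n := by
      rw [← hn]
      have h1 : Nat.card (M.subgroupOf S) = Nat.card M :=
        Nat.card_congr (Subgroup.subgroupOfEquivOfLe hMS).toEquiv
      have h2 := Subgroup.card_mul_index (M.subgroupOf S)
      rw [hidx, h1] at h2
      rw [← h2]
      have hpos : 0 < Nat.card M := Nat.card_pos
      have := hp.out.one_lt
      nlinarith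
    have hhyp₁ : E₁.hyperfocalSubgroup p ≤ T := by
      rw [ResLim.hyperfocal_eq_of_ppower p hS F E₁ hsc hE₁idx]
      exact hhyp
    obtain ⟨E₂, hE₂sat, hE₂idx⟩ :=
      ih (Nat.card M) hcardM M rfl (hS.to_le hMS) E₁ hE₁sat T hTM hhyp₁
    exact ⟨E₂, hE₂sat, hasPPowerIndexIn_trans E₁ E₂ hTM hE₁idx hE₂idx hhyp⟩

/-- Existence and uniqueness. -/
theorem existsUnique_ppower {S : Subgroup Ω} [Finite S] (p : ℕ) [Fact p.Prime] (hS : IsPGroup p S)
    (F : FusionSystem S) (hF : F.IsSaturated p) (T : Subgroup Ω) (hTS : T ≤ S)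
    (hT : F.hyperfocalSubgroup p ≤ T) :
    ∃ E : FusionSystem T, (E.IsSaturated p ∧ E.HasPPowerIndexIn F p) ∧
      ∀ E' : FusionSystem T, E'.IsSaturated p → E'.HasPPowerIndexIn F p → E' = E := by
  obtain ⟨E, hsat, hidx⟩ := exists_ppower p (Nat.card S) S rfl hS F hF T hTS hT
  refine ⟨E, ⟨hsat, hidx⟩, fun E' hsat' hidx' => ?_⟩
  exact ResLim.fusionSystem_ext E' E
    (Fusion.ppower_index_unique p hS F rfl E' E hsat' hsat hidx' hidx)

end Cfsg.Agent.Helper6.Ppi
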