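import Mathlib
import Cfsg.Agent.Lead.FusionProdSat
import Cfsg.Agent.Lead.FusionHypQuot
import Cfsg.Agent.Lead.FusionInnerSat

/-!
# Tate's theorem for fusion systems, part A: hyperfocal subgroups of inner systems and products
-/

set_option autoImplicit false
set_option linter.style.haveILetI false

namespace Cfsg.Agent.Helper6.Tate

open Cfsg Cfsg.FusionSystem Cfsg.Agent.Lead

/-- `O^p` of a `p`-group is trivial. -/
theorem pResidual_eq_bot_of_isPGroup {G : Type*} [Group G] (p : ℕ) (hG : IsPGroup p G) :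
    Cfsg.pResidual p G = ⊥ := by
  unfold Cfsg.pResidual
  rw [Subgroup.closure_eq_bot_iff]
  intro g hg
  have hg' : Nat.Coprime (orderOf g) p := hg
  obtain ⟨k, hk⟩ := hG g
  have h1 : orderOf g ∣ p ^ k := orderOf_dvd_of_pow_eq_one hk
  have h2 : Nat.Coprime (orderOf g) (p ^ k) := Nat.Coprime.pow_right k hg'
  have h3 : orderOf g = 1 := Nat.Coprime.eq_one_of_dvd h2 h1
  exact orderOf_eq_one_iff.mp h3

/-- The hyperfocal subgroup of an inner fusion system of a `p`-group is trivial. -/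
theorem hyperfocal_inner {Ω : Type*} [Group Ω] (p : ℕ) (Q : Subgroup Ω) (hQ : IsPGroup p Q) :
    (innerFusionSystem Q).hyperfocalSubgroup p = ⊥ := by
  unfold FusionSystem.hyperfocalSubgroup
  rw [Subgroup.closure_eq_bot_iff]
  rintro y ⟨P, α, x, hPQ, hα, rfl⟩
  have hp : IsPGroup p ((innerFusionSystem Q).autGroup P) :=
    (Fusion.isPGroup_autInducedBy p hQ P).to_le (Fusion.inner_autGroup_le Q P)
  rw [pResidual_eq_bot_of_isPGroup p hp, Subgroup.mem_bot] at hα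
  rw [hα]
  simp

variable {Ω₁ Ω₂ : Type*} [Group Ω₁] [Group Ω₂] {S₁ : Subgroup Ω₁} {S₂ : Subgroup Ω₂}

/-- The first projection on `S₁ × S₂`. -/
def fstHom (S₁ : Subgroup Ω₁) (S₂ : Subgroup Ω₂) : ↥(S₁.prod S₂) →* Ω₁ :=
  (MonoidHom.fst Ω₁ Ω₂).comp (S₁.prod S₂).subtype

/-- The second projection on `S₁ × S₂`. -/
def sndHom (S₁ : Subgroup Ω₁) (S₂ : Subgroup Ω₂) : ↥(S₁.prod S₂) →* Ω₂ :=
  (MonoidHom.snd Ω₁ Ω₂).comp (S₁.prod S₂).subtype

theorem imageAlong_fstHom {R : Subgroup (Ω₁ × Ω₂)} (hR : R ≤ S₁.prod S₂) :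
    imageAlong (fstHom S₁ S₂) R = R.map (MonoidHom.fst Ω₁ Ω₂) := by
  ext y
  rw [Fusion.mem_imageAlong]
  constructor
  · rintro ⟨x, hx, hxS, rfl⟩
    exact ⟨x, hx, rfl⟩
  · rintro ⟨x, hx, rfl⟩
    exact ⟨x, hx, hR hx, rfl⟩

theorem imageAlong_sndHom {R : Subgroup (Ω₁ × Ω₂)} (hR : R ≤ S₁.prod S₂) :
    imageAlong (sndHom S₁ S₂) R = R.map (MonoidHom.snd Ω₁ Ω₂) := by
  ext y
  rw [Fusion.mem_imageAlong]
  constructor
  · rintro ⟨x, hx, hxS, rfl⟩
    exact ⟨x, hx, rfl⟩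
  · rintro ⟨x, hx, rfl⟩
    exact ⟨x, hx, hR hx, rfl⟩

/-- The first projection is a morphism from the product system. -/
theorem fstHom_isMorphism {F₁ : FusionSystem S₁} {F₂ : FusionSystem S₂}
    {E : FusionSystem (S₁.prod S₂)} (hE : IsProductSystem F₁ F₂ E) :
    E.IsMorphism F₁ (fstHom S₁ S₂) := by
  refine ⟨fun s => s.2.1, fun R φ hφ => ?_⟩
  have hR : R ≤ S₁.prod S₂ := Fusion.src_le E hφ
  obtain ⟨φ₁, hφ₁, φ₂, hφ₂, h, -, -⟩ := ProdSat.exists_components hE hφ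
  rw [imageAlong_fstHom hR]
  refine ⟨φ₁, hφ₁, hR, fun x => Fusion.map_mem E hφ x, fun x => ⟨x, x.2, rfl⟩, fun x => ?_⟩
  have := h x
  show φ₁ ⟨(x : Ω₁ × Ω₂).1, _⟩ = (φ x).1
  rw [this]

/-- The second projection is a morphism from the product system. -/
theorem sndHom_isMorphism {F₁ : FusionSystem S₁} {F₂ : FusionSystem S₂}
    {E : FusionSystem (S₁.prod S₂)} (hE : IsProductSystem F₁ F₂ E) :
    E.IsMorphism F₂ (sndHom S₁ S₂) := by
  refine ⟨fun s => s.2.2, fun R φ hφ => ?_⟩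
  have hR : R ≤ S₁.prod S₂ := Fusion.src_le E hφ
  obtain ⟨φ₁, hφ₁, φ₂, hφ₂, h, -, -⟩ := ProdSat.exists_components hE hφ
  rw [imageAlong_sndHom hR]
  refine ⟨φ₂, hφ₂, hR, fun x => Fusion.map_mem E hφ x, fun x => ⟨x, x.2, rfl⟩, fun x => ?_⟩
  have := h x
  show φ₂ ⟨(x : Ω₁ × Ω₂).2, _⟩ = (φ x).2
  rw [this]

/-- The hyperfocal subgroup of a product system lies in the product of the hyperfocal subgroups. -/
theorem hyperfocal_prod_le [Finite S₁] [Finite S₂] (p : ℕ) [Fact p.Prime]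
    {F₁ : FusionSystem S₁} {F₂ : FusionSystem S₂}
    {E : FusionSystem (S₁.prod S₂)} (hE : IsProductSystem F₁ F₂ E) :
    E.hyperfocalSubgroup p ≤ (F₁.hyperfocalSubgroup p).prod (F₂.hyperfocalSubgroup p) := by
  haveI : Finite ↥(S₁.prod S₂) := Finite.of_equiv _ (Subgroup.prodEquiv S₁ S₂).symm.toEquiv
  intro y hy
  have hyS : y ∈ S₁.prod S₂ := Fusion.hyperfocal_le E p hy
  have h1 := Fusion.image_hyperfocal_le p E F₁ (fstHom S₁ S₂) (fstHom_isMorphism hE)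
  have h2 := Fusion.image_hyperfocal_le p E F₂ (sndHom S₁ S₂) (sndHom_isMorphism hE)
  refine ⟨h1 ⟨⟨y, hyS⟩, ?_, rfl⟩, h2 ⟨⟨y, hyS⟩, ?_, rfl⟩⟩
  · rw [SetLike.mem_coe, Subgroup.mem_subgroupOf]; exact hy
  · rw [SetLike.mem_coe, Subgroup.mem_subgroupOf]; exact hy

end Cfsg.Agent.Helper6.Tate
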