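import Mathlib
import Cfsg.Agent.Helper6.TateA

/-!
# Tate's theorem for fusion systems, part B: the twisted diagonal subgroup

For a homomorphism `π : S →* E` and a central subgroup `Z` of `E`, the subgroup
`Ŝ = {(s, e) : e π(s)⁻¹ ∈ Z}` of `S × E` and the homomorphism `ρ : Ŝ → Z`, `(s, e) ↦ e π(s)⁻¹`.
-/

set_option autoImplicit false
set_option linter.style.haveILetI false

namespace Cfsg.Agent.Helper6.Tate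

open Cfsg Cfsg.FusionSystem Cfsg.Agent.Lead

variable {Ω : Type*} [Group Ω] {S : Subgroup Ω} {E : Type*} [Group E]

/-- The subgroup `Ŝ = {(s, e) : s ∈ S, e π(s)⁻¹ ∈ Z}` of `Ω × E`. -/
def hatS (π : S →* E) (Z : Subgroup E) (hZ : Z ≤ Subgroup.center E) : Subgroup (Ω × E) where
  carrier := {x | ∃ h : x.1 ∈ S, x.2 * (π ⟨x.1, h⟩)⁻¹ ∈ Z}
  one_mem' := by
    refine ⟨S.one_mem, ?_⟩
    have e1 : (⟨(1 : Ω × E).1, S.one_mem⟩ : S) = 1 := rfl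
    rw [e1, map_one, inv_one, mul_one]
    exact Z.one_mem
  mul_mem' := by
    rintro x y ⟨hx, hzx⟩ ⟨hy, hzy⟩
    refine ⟨S.mul_mem hx hy, ?_⟩
    have e1 : (⟨(x * y).1, S.mul_mem hx hy⟩ : S) = ⟨x.1, hx⟩ * ⟨y.1, hy⟩ := rfl
    have hc := Subgroup.mem_center_iff.mp (hZ hzy) x.2
    have e2 : (x * y).2 * (π ⟨(x * y).1, S.mul_mem hx hy⟩)⁻¹
        = (y.2 * (π ⟨y.1, hy⟩)⁻¹) * (x.2 * (π ⟨x.1, hx⟩)⁻¹) := by
      rw [e1, map_mul, mul_inv_rev]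
      calc (x * y).2 * ((π ⟨y.1, hy⟩)⁻¹ * (π ⟨x.1, hx⟩)⁻¹)
          = x.2 * (y.2 * (π ⟨y.1, hy⟩)⁻¹) * (π ⟨x.1, hx⟩)⁻¹ := by
            rw [Prod.snd_mul]; group
        _ = (y.2 * (π ⟨y.1, hy⟩)⁻¹) * x.2 * (π ⟨x.1, hx⟩)⁻¹ := by rw [hc]
        _ = _ := by group
    rw [e2]
    exact Z.mul_mem hzy hzx
  inv_mem' := by
    rintro x ⟨hx, hzx⟩
    refine ⟨S.inv_mem hx, ?_⟩
    have e1 : (⟨(x⁻¹).1, S.inv_mem hx⟩ : S) = (⟨x.1, hx⟩ : S)⁻¹ := rfl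
    have hc := Subgroup.mem_center_iff.mp (hZ hzx) (π ⟨x.1, hx⟩)
    have e2 : (x⁻¹).2 * (π ⟨(x⁻¹).1, S.inv_mem hx⟩)⁻¹ = (x.2 * (π ⟨x.1, hx⟩)⁻¹)⁻¹ := by
      rw [e1, map_inv, inv_inv, Prod.snd_inv]
      have h3 : x.2 = (x.2 * (π ⟨x.1, hx⟩)⁻¹) * π ⟨x.1, hx⟩ := by group
      calc (x.2)⁻¹ * π ⟨x.1, hx⟩
          = ((x.2 * (π ⟨x.1, hx⟩)⁻¹) * π ⟨x.1, hx⟩)⁻¹ * π ⟨x.1, hx⟩ := by rw [← h3]
        _ = (π ⟨x.1, hx⟩ * (x.2 * (π ⟨x.1, hx⟩)⁻¹))⁻¹ * π ⟨x.1, hx⟩ := by rw [hc]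
        _ = _ := by group
    rw [e2]
    exact Z.inv_mem hzx

theorem mem_hatS_iff (π : S →* E) (Z : Subgroup E) (hZ : Z ≤ Subgroup.center E) {x : Ω × E}
    (h : x.1 ∈ S) : x ∈ hatS π Z hZ ↔ x.2 * (π ⟨x.1, h⟩)⁻¹ ∈ Z :=
  ⟨fun ⟨_, hz⟩ => hz, fun hz => ⟨h, hz⟩⟩

theorem hatS_le (π : S →* E) (Z : Subgroup E) (hZ : Z ≤ Subgroup.center E) :
    hatS π Z hZ ≤ S.prod ⊤ := fun _ hx => ⟨hx.choose, Subgroup.mem_top _⟩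

theorem fst_mem_of_mem_hatS (π : S →* E) (Z : Subgroup E) (hZ : Z ≤ Subgroup.center E) {x : Ω × E}
    (hx : x ∈ hatS π Z hZ) : x.1 ∈ S := hx.choose

/-- The homomorphism `ρ : Ŝ → Z`. -/
def rho (π : S →* E) (Z : Subgroup E) (hZ : Z ≤ Subgroup.center E) : ↥(hatS π Z hZ) →* ↥Z :=
  MonoidHom.mk' (fun x => ⟨x.1.2 * (π ⟨x.1.1, x.2.choose⟩)⁻¹, x.2.choose_spec⟩) (by
    intro x y
    apply Subtype.ext
    have hx := x.2.choose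
    have hy := y.2.choose
    have hzy := y.2.choose_spec
    have hzx := x.2.choose_spec
    have e1 : (⟨((x * y : ↥(hatS π Z hZ)) : Ω × E).1, (x * y).2.choose⟩ : S)
        = ⟨x.1.1, hx⟩ * ⟨y.1.1, hy⟩ := rfl
    have hc := Subgroup.mem_center_iff.mp (hZ hzy) x.1.2
    have hc2 := Subgroup.mem_center_iff.mp (hZ hzy) (x.1.2 * (π ⟨x.1.1, hx⟩)⁻¹)
    show ((x * y : ↥(hatS π Z hZ)) : Ω × E).2 * (π ⟨((x * y : ↥(hatS π Z hZ)) : Ω × E).1, _⟩)⁻¹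
      = (x.1.2 * (π ⟨x.1.1, hx⟩)⁻¹) * (y.1.2 * (π ⟨y.1.1, hy⟩)⁻¹)
    rw [e1, map_mul, mul_inv_rev, hc2]
    calc ((x * y : ↥(hatS π Z hZ)) : Ω × E).2 * ((π ⟨y.1.1, hy⟩)⁻¹ * (π ⟨x.1.1, hx⟩)⁻¹)
        = x.1.2 * (y.1.2 * (π ⟨y.1.1, hy⟩)⁻¹) * (π ⟨x.1.1, hx⟩)⁻¹ := by
          rw [Subgroup.coe_mul, Prod.snd_mul]; group
      _ = (y.1.2 * (π ⟨y.1.1, hy⟩)⁻¹) * x.1.2 * (π ⟨x.1.1, hx⟩)⁻¹ := by rw [hc]
      _ = _ := by group)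

theorem rho_coe (π : S →* E) (Z : Subgroup E) (hZ : Z ≤ Subgroup.center E) (x : ↥(hatS π Z hZ))
    (h : x.1.1 ∈ S) : ((rho π Z hZ x : ↥Z) : E) = x.1.2 * (π ⟨x.1.1, h⟩)⁻¹ := rfl

/-- The graph embedding `S → Ŝ`, `s ↦ (s, π s)`. -/
def graphHom (π : S →* E) (Z : Subgroup E) (hZ : Z ≤ Subgroup.center E) : S →* ↥(hatS π Z hZ) :=
  (MonoidHom.prod S.subtype π).codRestrict (hatS π Z hZ) (fun s => by
    refine ⟨s.2, ?_⟩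
    show π s * (π ⟨(s : Ω), s.2⟩)⁻¹ ∈ Z
    rw [Subtype.coe_eta, mul_inv_cancel]
    exact Z.one_mem)

theorem graphHom_coe (π : S →* E) (Z : Subgroup E) (hZ : Z ≤ Subgroup.center E) (s : S) :
    ((graphHom π Z hZ s : ↥(hatS π Z hZ)) : Ω × E) = ((s : Ω), π s) := rfl

/-- The embedding `Z → Ŝ`, `z ↦ (1, z)`. -/
def inrHom (π : S →* E) (Z : Subgroup E) (hZ : Z ≤ Subgroup.center E) : ↥Z →* ↥(hatS π Z hZ) :=
  ((MonoidHom.inr Ω E).comp Z.subtype).codRestrict (hatS π Z hZ) (fun z => by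
    refine ⟨S.one_mem, ?_⟩
    show (z : E) * (π ⟨(1 : Ω), S.one_mem⟩)⁻¹ ∈ Z
    have e1 : (⟨(1 : Ω), S.one_mem⟩ : S) = 1 := rfl
    rw [e1, map_one, inv_one, mul_one]
    exact z.2)

theorem inrHom_coe (π : S →* E) (Z : Subgroup E) (hZ : Z ≤ Subgroup.center E) (z : ↥Z) :
    ((inrHom π Z hZ z : ↥(hatS π Z hZ)) : Ω × E) = (1, (z : E)) := rfl

theorem rho_graphHom (π : S →* E) (Z : Subgroup E) (hZ : Z ≤ Subgroup.center E) (s : S) :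
    rho π Z hZ (graphHom π Z hZ s) = 1 := by
  apply Subtype.ext
  rw [rho_coe π Z hZ _ s.2]
  show π s * (π ⟨(s : Ω), s.2⟩)⁻¹ = 1
  rw [Subtype.coe_eta, mul_inv_cancel]

theorem rho_inrHom (π : S →* E) (Z : Subgroup E) (hZ : Z ≤ Subgroup.center E) (z : ↥Z) :
    rho π Z hZ (inrHom π Z hZ z) = z := by
  apply Subtype.ext
  rw [rho_coe π Z hZ _ S.one_mem]
  show (z : E) * (π ⟨(1 : Ω), S.one_mem⟩)⁻¹ = z
  have e1 : (⟨(1 : Ω), S.one_mem⟩ : S) = 1 := rfl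
  rw [e1, map_one, inv_one, mul_one]

/-- Every element of `Ŝ` is the product of a graph element and an element of `1 × Z`. -/
theorem eq_graph_mul_inr (π : S →* E) (Z : Subgroup E) (hZ : Z ≤ Subgroup.center E)
    (x : ↥(hatS π Z hZ)) (h : x.1.1 ∈ S) :
    x = graphHom π Z hZ ⟨x.1.1, h⟩ * inrHom π Z hZ (rho π Z hZ x) := by
  apply Subtype.ext
  rw [Subgroup.coe_mul, graphHom_coe, inrHom_coe, rho_coe π Z hZ x h]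
  have hc := Subgroup.mem_center_iff.mp (hZ (rho π Z hZ x).2) (π ⟨x.1.1, h⟩)
  rw [rho_coe π Z hZ x h] at hc
  apply Prod.ext
  · simp
  · show x.1.2 = π ⟨x.1.1, h⟩ * (x.1.2 * (π ⟨x.1.1, h⟩)⁻¹)
    rw [hc]
    group

end Cfsg.Agent.Helper6.Tate
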