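import Mathlib
import Cfsg.Agent.Helper6.TateB

/-!
# Tate's theorem for fusion systems, part C: the product system with an inner system

The product `𝓕 = F × F_E(E)`; its hyperfocal subgroup lies in `Ŝ`; its maps fix `1 × Z(E)`; and an
automorphism `γ` of `P ≤ S` of order prime to `p` lifts to an automorphism `γ × id` of
`P̂ = Ŝ ∩ (P × E)` of order prime to `p`.
-/

set_option autoImplicit false
set_option linter.style.haveILetI false

namespace Cfsg.Agent.Helper6.Tate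

open Cfsg Cfsg.FusionSystem Cfsg.Agent.Lead

universe u

variable {Ω : Type u} [Group Ω] {S : Subgroup Ω} {E : Type u} [Group E]

/-- The product of `F` with the inner system of the group `E`. -/
def prodSys (F : FusionSystem S) (E : Type u) [Group E] :
    FusionSystem (S.prod (⊤ : Subgroup E)) :=
  Fusion.productSystem F (innerFusionSystem (⊤ : Subgroup E))

theorem prodSys_isProductSystem (F : FusionSystem S) (E : Type u) [Group E] :
    IsProductSystem F (innerFusionSystem (⊤ : Subgroup E)) (prodSys F E) :=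
  Fusion.productSystem_isProductSystem F _

theorem finite_prod [Finite S] [Finite E] : Finite ↥(S.prod (⊤ : Subgroup E)) :=
  Finite.of_equiv _ (Subgroup.prodEquiv S (⊤ : Subgroup E)).symm.toEquiv

theorem isPGroup_prod [Finite S] [Finite E] (p : ℕ) [Fact p.Prime] (hS : IsPGroup p S)
    (hE : IsPGroup p E) : IsPGroup p ↥(S.prod (⊤ : Subgroup E)) := by
  have hE' : IsPGroup p ↥(⊤ : Subgroup E) := hE.to_subgroup ⊤
  obtain ⟨a, ha⟩ := IsPGroup.iff_card.mp hS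
  obtain ⟨b, hb⟩ := IsPGroup.iff_card.mp hE'
  apply IsPGroup.of_card (n := a + b)
  rw [ProdSat.card_prod_subgroup, ha, hb, pow_add]

theorem prodSys_isSaturated [Finite S] [Finite E] (p : ℕ) [Fact p.Prime] (hS : IsPGroup p S)
    (hE : IsPGroup p E) (F : FusionSystem S) (hF : F.IsSaturated p) :
    (prodSys F E).IsSaturated p := by
  have hE' : IsPGroup p ↥(⊤ : Subgroup E) := hE.to_subgroup ⊤
  exact ProdSat.main p hS hE' F _ hF (Fusion.inner_isSaturated p ⊤ hE') _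
    (prodSys_isProductSystem F E)

/-- The hyperfocal subgroup of the product lies in `hyp(F) × 1`. -/
theorem hyperfocal_prodSys_le [Finite S] [Finite E] (p : ℕ) [Fact p.Prime]
    (hE : IsPGroup p E) (F : FusionSystem S) :
    (prodSys F E).hyperfocalSubgroup p ≤ (F.hyperfocalSubgroup p).prod ⊥ := by
  have hE' : IsPGroup p ↥(⊤ : Subgroup E) := hE.to_subgroup ⊤
  have h := hyperfocal_prod_le p (prodSys_isProductSystem F E)
  rw [hyperfocal_inner p ⊤ hE'] at h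
  exact h

/-- `hyp(F) × 1` lies in `Ŝ`. -/
theorem hyperfocal_prod_bot_le_hatS (p : ℕ) (F : FusionSystem S) (π : S →* E) (Z : Subgroup E)
    (hZ : Z ≤ Subgroup.center E)
    (hπ : ∀ u : S, (u : Ω) ∈ F.hyperfocalSubgroup p → π u ∈ Z) :
    (F.hyperfocalSubgroup p).prod ⊥ ≤ hatS π Z hZ := by
  rintro ⟨y, e⟩ ⟨hy, he⟩
  have he' : e = 1 := Subgroup.mem_bot.mp he
  have hyS : y ∈ S := Fusion.hyperfocal_le F p hy
  refine ⟨hyS, ?_⟩
  show e * (π ⟨y, hyS⟩)⁻¹ ∈ Z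
  rw [he', one_mul]
  exact Z.inv_mem (hπ ⟨y, hyS⟩ hy)

/-- Maps of the product system fix the elements `(1, z)` with `z` central in `E`. -/
theorem prodSys_map_inr (F : FusionSystem S) {Q : Subgroup (Ω × E)} {ψ : Q →* Ω × E}
    (hψ : ψ ∈ (prodSys F E).Hom Q) {z : E} (hz : z ∈ Subgroup.center E)
    (h : ((1 : Ω), z) ∈ Q) : ψ ⟨((1 : Ω), z), h⟩ = ((1 : Ω), z) := by
  obtain ⟨φ₁, hφ₁, φ₂, hφ₂, hcomp, -, -⟩ :=
    ProdSat.exists_components (prodSys_isProductSystem F E) hψ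
  rw [hcomp ⟨((1 : Ω), z), h⟩]
  obtain ⟨-, g, -, hg⟩ := hφ₂
  apply Prod.ext
  · show φ₁ ⟨(1 : Ω), _⟩ = 1
    have e1 : (⟨(1 : Ω), Fusion.fst_mem_map Q ⟨((1 : Ω), z), h⟩⟩ :
        ↥(Q.map (MonoidHom.fst Ω E))) = 1 := rfl
    rw [e1, map_one]
  · show φ₂ ⟨z, _⟩ = z
    rw [hg]
    show g * z * g⁻¹ = z
    rw [Subgroup.mem_center_iff.mp hz g, mul_inv_cancel_right]

/-- The subgroup `P̂ = Ŝ ∩ (P × E)`. -/
def hatP (π : S →* E) (Z : Subgroup E) (hZ : Z ≤ Subgroup.center E) (P : Subgroup Ω) :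
    Subgroup (Ω × E) :=
  hatS π Z hZ ⊓ P.prod ⊤

theorem hatP_le_hatS (π : S →* E) (Z : Subgroup E) (hZ : Z ≤ Subgroup.center E) (P : Subgroup Ω) :
    hatP π Z hZ P ≤ hatS π Z hZ := inf_le_left

theorem fst_mem_of_mem_hatP (π : S →* E) (Z : Subgroup E) (hZ : Z ≤ Subgroup.center E)
    {P : Subgroup Ω} (x : ↥(hatP π Z hZ P)) : x.1.1 ∈ P := x.2.2.1

/-- Powers of a lifted automorphism. -/
theorem lift_pow (π : S →* E) (Z : Subgroup E) (hZ : Z ≤ Subgroup.center E) {P : Subgroup Ω}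
    (γ : MulAut P) (γ' : MulAut ↥(hatP π Z hZ P))
    (h : ∀ x : ↥(hatP π Z hZ P), ((γ' x : ↥(hatP π Z hZ P)) : Ω × E)
      = (((γ ⟨x.1.1, fst_mem_of_mem_hatP π Z hZ x⟩ : P) : Ω), x.1.2)) (k : ℕ) :
    ∀ x : ↥(hatP π Z hZ P), (((γ' ^ k) x : ↥(hatP π Z hZ P)) : Ω × E)
      = ((((γ ^ k) ⟨x.1.1, fst_mem_of_mem_hatP π Z hZ x⟩ : P) : Ω), x.1.2) := by
  induction k with
  | zero => intro x; rfl
  | succ k ih =>
    intro x
    rw [pow_succ, pow_succ, MulAut.mul_apply, MulAut.mul_apply, ih (γ' x)]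
    have h1 := h x
    apply Prod.ext
    · show (((γ ^ k) ⟨(γ' x).1.1, _⟩ : P) : Ω) = (((γ ^ k) (γ ⟨x.1.1, _⟩) : P) : Ω)
      congr 2
      apply Subtype.ext
      show (γ' x).1.1 = _
      rw [h1]
    · show (γ' x).1.2 = x.1.2
      rw [h1]

/-- **Lifting automorphisms of order prime to `p`.** -/
theorem exists_lift [Finite S] [Finite E] (p : ℕ) [Fact p.Prime] (F : FusionSystem S)
    (π : S →* E) (Z : Subgroup E) (hZ : Z ≤ Subgroup.center E)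
    (hπ : ∀ u : S, (u : Ω) ∈ F.hyperfocalSubgroup p → π u ∈ Z)
    {P : Subgroup Ω} (hP : P ≤ S) (α : F.autGroup P) (hα : (orderOf α).Coprime p) :
    ∃ γ' : (prodSys F E).autGroup (hatP π Z hZ P), (orderOf γ').Coprime p ∧
      ∀ x : ↥(hatP π Z hZ P), ((((γ' : MulAut ↥(hatP π Z hZ P)) x : ↥(hatP π Z hZ P)) : Ω × E)
        = ((((α : MulAut P) ⟨x.1.1, fst_mem_of_mem_hatP π Z hZ x⟩ : P) : Ω), x.1.2)) := by
  haveI : Finite ↥(S.prod (⊤ : Subgroup E)) := finite_prod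
  have hle : hatP π Z hZ P ≤ S.prod ⊤ := (hatP_le_hatS π Z hZ P).trans (hatS_le π Z hZ)
  haveI : Finite ↥(hatP π Z hZ P) := Fusion.finite_of_le hle
  have hαres : α ∈ pResidual p (F.autGroup P) := mem_pResidual_of_coprime' hα
  -- the product map
  have h₁ : (hatP π Z hZ P).map (MonoidHom.fst Ω E) ≤ P := by
    rintro _ ⟨x, hx, rfl⟩
    exact hx.2.1
  have h₂ : (hatP π Z hZ P).map (MonoidHom.snd Ω E) ≤ (⊤ : Subgroup E) := le_top
  have hψ₁ : P.subtype.comp (α : MulAut P).toMonoidHom ∈ F.Hom P :=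
    (Fusion.mem_autGroup_iff F hP _).mp α.2
  have hψ₂ : (⊤ : Subgroup E).subtype ∈ (innerFusionSystem (⊤ : Subgroup E)).Hom ⊤ :=
    Fusion.subtype_mem _ le_rfl
  obtain ⟨ψ, hψ, hψv⟩ := ProdSat.prod_mem_of_hom (prodSys_isProductSystem F E) hle h₁ h₂ hψ₁ hψ₂
  have hψv' : ∀ x : ↥(hatP π Z hZ P), ψ x
      = ((((α : MulAut P) ⟨x.1.1, fst_mem_of_mem_hatP π Z hZ x⟩ : P) : Ω), x.1.2) := fun x =>
    hψv x (fst_mem_of_mem_hatP π Z hZ x) (Subgroup.mem_top _)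
  have hinj : Function.Injective ψ := (prodSys F E).injective_of_mem hψ
  have hrle : ψ.range ≤ hatP π Z hZ P := by
    rintro _ ⟨x, rfl⟩
    rw [hψv' x]
    have hxP := fst_mem_of_mem_hatP π Z hZ x
    have hxS : x.1.1 ∈ S := hP hxP
    have hxz := (mem_hatS_iff π Z hZ hxS).mp x.2.1
    have hαS : (((α : MulAut P) ⟨x.1.1, hxP⟩ : P) : Ω) ∈ S := hP ((α : MulAut P) ⟨x.1.1, hxP⟩).2
    refine ⟨?_, ((α : MulAut P) ⟨x.1.1, hxP⟩).2, Subgroup.mem_top _⟩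
    refine (mem_hatS_iff π Z hZ (x := ((((α : MulAut P) ⟨x.1.1, hxP⟩ : P) : Ω), x.1.2)) hαS).mpr ?_
    show x.1.2 * (π ⟨_, hαS⟩)⁻¹ ∈ Z
    -- `π(x) π(α x)⁻¹ ∈ Z`
    have hgen := Fusion.mem_hyperfocal F p hP α hαres ⟨x.1.1, hxP⟩
    have hgenS : (x.1.1)⁻¹ * (((α : MulAut P) ⟨x.1.1, hxP⟩ : P) : Ω) ∈ S :=
      S.mul_mem (S.inv_mem hxS) hαS
    have h3 := hπ ⟨_, hgenS⟩ hgen
    have e1 : (⟨(x.1.1)⁻¹ * (((α : MulAut P) ⟨x.1.1, hxP⟩ : P) : Ω), hgenS⟩ : S)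
        = (⟨x.1.1, hxS⟩ : S)⁻¹ * ⟨_, hαS⟩ := rfl
    rw [e1, map_mul, map_inv] at h3
    have hc := Subgroup.mem_center_iff.mp (hZ (Z.inv_mem h3)) x.1.2
    have e2 : x.1.2 * (π ⟨_, hαS⟩)⁻¹
        = ((π ⟨x.1.1, hxS⟩)⁻¹ * π ⟨_, hαS⟩)⁻¹ * (x.1.2 * (π ⟨x.1.1, hxS⟩)⁻¹) := by
      rw [← mul_assoc, ← hc]
      group
    rw [e2]
    exact Z.mul_mem (Z.inv_mem h3) hxz
  have hr : ψ.range = hatP π Z hZ P := by
    apply Subgroup.eq_of_le_of_card_ge hrle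
    exact (Nat.card_congr (MonoidHom.ofInjective hinj).toEquiv).le
  set γ' : MulAut ↥(hatP π Z hZ P) := Fusion.equivOfRange ψ hinj hr with hγ'
  have hγ'v : ∀ x : ↥(hatP π Z hZ P), ((γ' x : ↥(hatP π Z hZ P)) : Ω × E)
      = ((((α : MulAut P) ⟨x.1.1, fst_mem_of_mem_hatP π Z hZ x⟩ : P) : Ω), x.1.2) := by
    intro x
    rw [hγ', Fusion.equivOfRange_coe]
    exact hψv' x
  have hmem : γ' ∈ (prodSys F E).autGroup (hatP π Z hZ P) := by
    rw [Fusion.mem_autGroup_iff _ hle]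
    have : (hatP π Z hZ P).subtype.comp γ'.toMonoidHom = ψ := by
      ext x
      · show ((γ' x : ↥(hatP π Z hZ P)) : Ω × E).1 = (ψ x).1
        rw [hγ', Fusion.equivOfRange_coe]
      · show ((γ' x : ↥(hatP π Z hZ P)) : Ω × E).2 = (ψ x).2
        rw [hγ', Fusion.equivOfRange_coe]
    rw [this]
    exact hψ
  refine ⟨⟨γ', hmem⟩, ?_, hγ'v⟩
  -- order
  have hpow : γ' ^ orderOf (α : MulAut P) = 1 := by
    apply MulEquiv.ext
    intro x
    apply Subtype.ext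
    rw [lift_pow π Z hZ (α : MulAut P) γ' hγ'v, pow_orderOf_eq_one]
    rfl
  have hdvd : orderOf (⟨γ', hmem⟩ : (prodSys F E).autGroup (hatP π Z hZ P))
      ∣ orderOf α := by
    rw [← Subgroup.orderOf_coe α]
    have h1 : orderOf (⟨γ', hmem⟩ : (prodSys F E).autGroup (hatP π Z hZ P)) = orderOf γ' :=
      (Subgroup.orderOf_coe (⟨γ', hmem⟩ : (prodSys F E).autGroup (hatP π Z hZ P))).symm
    rw [h1]
    exact orderOf_dvd_of_pow_eq_one hpow
  exact Nat.Coprime.coprime_dvd_left hdvd hα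

end Cfsg.Agent.Helper6.Tate
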