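import Mathlib
import Cfsg.Agent.Helper3.CharI

/-!
# Control of transfer for fusion systems, part E

A variant of the transfer of a saturated fusion system (through its characteristic biset): the
transfer of `θ` equals `θ ^ n` on every element whose images under the maps of the system are not
distinguished from it by `θ`.
-/

set_option autoImplicit false
set_option linter.style.haveILetI false

namespace Cfsg.Agent.Helper6.TC

open Cfsg Cfsg.FusionSystem Cfsg.Agent.Lead Cfsg.Agent.Helper3.Marks Cfsg.Agent.Helper3.Park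
  Cfsg.Agent.Helper3.Char

universe u

variable {Ω : Type u} [Group Ω] {S : Subgroup Ω}

/-- **The transfer of a saturated fusion system**, strong form: every homomorphism `θ` from `S` to a
commutative group gives a homomorphism `V` constant on the classes of the system and equal to
`θ ^ n` (for some `n` prime to `p`) on every element `z` such that `θ (ψ (z ^ k)) = θ (z ^ k)` for
all maps `ψ` of the system defined at `z ^ k`. -/
theorem exists_transfer' [Finite S] (p : ℕ) [Fact p.Prime] (hS : IsPGroup p S)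
    (F : FusionSystem S) (hF : F.IsSaturated p) {A : Type*} [CommGroup A] (θ : S →* A) :
    ∃ (n : ℕ) (V : S →* A), ¬ p ∣ n ∧
      (∀ (P : Subgroup Ω) (φ : P →* Ω) (hφ : φ ∈ F.Hom P) (x : P),
        V ⟨φ x, Fusion.map_mem F hφ x⟩ = V ⟨x, Fusion.src_le F hφ x.2⟩) ∧
      (∀ z : S, (∀ (k : ℕ) (Q : Subgroup Ω) (ψ : Q →* Ω) (hψ : ψ ∈ F.Hom Q)
          (h : ((z ^ k : S) : Ω) ∈ Q),
          θ ⟨ψ ⟨((z ^ k : S) : Ω), h⟩, Fusion.map_mem F hψ _⟩ = θ (z ^ k)) → V z = θ z ^ n) := by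
  obtain ⟨X, hXf, hXa, hstab, ⟨x₀, hx₀⟩, hmarks, n, hn, hpn⟩ := exists_char_biset p hS F hF
  have hfree : ∀ (b : S) (x : X), mkT (1 : S) b • x = x → b = 1 := by
    intro b x hb
    obtain ⟨D, ⟨Q, ψ, hψ, hT⟩, hD⟩ := hstab x
    obtain ⟨h1, h2⟩ := hT (((1 : S) : Ω), (b : Ω)) ⟨mkT 1 b, (hD _).mp hb, rfl⟩
    have h3 : (⟨((1 : S) : Ω), h1⟩ : Q) = 1 := Subtype.ext rfl
    change ψ ⟨((1 : S) : Ω), h1⟩ = (b : Ω) at h2
    rw [h3, map_one] at h2
    exact Subtype.ext h2.symm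
  have hindex : (stabR S x₀).index = n := by
    have h1 := index_stabR hfree x₀
    rw [hn, mul_comm] at h1
    exact Nat.eq_of_mul_eq_mul_left Nat.card_pos h1
  refine ⟨n, (MonoidHom.transfer (phiR (fun b => hfree b x₀) θ)).comp (iotaR S X), hpn, ?_, ?_⟩
  · intro P φ hφ x
    have hP : P ≤ S := Fusion.src_le F hφ
    obtain ⟨e, he⟩ := exists_perm_of_mem F hstab hmarks hP hφ
    have heG : e ∈ autR S X := by
      rw [mem_autR]
      intro b w
      have h1 := he 1 b w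
      have h2 : (⟨((1 : P) : Ω), hP (1 : P).2⟩ : S) = 1 := Subtype.ext rfl
      have h3 : (⟨φ (1 : P), Fusion.map_mem F hφ 1⟩ : S) = 1 := Subtype.ext (map_one φ)
      rw [h2, h3] at h1
      exact h1
    have hconj : iotaR S X ⟨φ x, Fusion.map_mem F hφ x⟩
        = (⟨e, heG⟩ : autR S X) * iotaR S X ⟨x, hP x.2⟩ * (⟨e, heG⟩ : autR S X)⁻¹ := by
      rw [eq_mul_inv_iff_mul_eq]
      apply Subtype.ext
      apply Equiv.ext
      intro y
      change ((iotaR S X ⟨φ x, Fusion.map_mem F hφ x⟩ : autR S X) : Equiv.Perm X) (e y)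
        = e (((iotaR S X ⟨x, hP x.2⟩ : autR S X) : Equiv.Perm X) y)
      rw [iotaR_apply, iotaR_apply]
      exact (he x 1 y).symm
    rw [MonoidHom.comp_apply, MonoidHom.comp_apply, hconj, map_mul, map_mul, map_inv,
      mul_comm, ← mul_assoc, inv_mul_cancel, one_mul]
  · intro z hz
    rw [MonoidHom.comp_apply, ← hindex]
    apply transfer_eq_pow_of_key
    have key' : ∀ (a : S) (g₀ : autR S X) (hh : g₀⁻¹ * iotaR S X a * g₀ ∈ stabR S x₀),
        (∀ (Q : Subgroup Ω) (ψ : Q →* Ω) (hψ : ψ ∈ F.Hom Q) (h : (a : Ω) ∈ Q),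
          θ ⟨ψ ⟨(a : Ω), h⟩, Fusion.map_mem F hψ _⟩ = θ a) →
        phiR (fun b => hfree b x₀) θ ⟨_, hh⟩ = θ a := by
      intro a g₀ hh ha
      rw [phiR_apply]
      have h1 := smul_conj_eq g₀ a hh
      obtain ⟨D, ⟨Q, ψ, hψ, hT⟩, hD⟩ := hstab ((g₀ : Equiv.Perm X) x₀)
      obtain ⟨h2, h3⟩ := hT ((a : Ω), (((tauR x₀ ⟨_, hh⟩)⁻¹ : S) : Ω))
        ⟨mkT a (tauR x₀ ⟨_, hh⟩)⁻¹, (hD _).mp h1, rfl⟩
      change ψ ⟨(a : Ω), h2⟩ = (((tauR x₀ ⟨_, hh⟩)⁻¹ : S) : Ω) at h3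
      have h4 : (tauR x₀ ⟨_, hh⟩)⁻¹ = ⟨ψ ⟨(a : Ω), h2⟩, Fusion.map_mem F hψ _⟩ :=
        Subtype.ext h3.symm
      rw [h4]
      exact ha Q ψ hψ h2
    intro k g₀ hk
    have hk' : g₀⁻¹ * iotaR S X (z ^ k) * g₀ ∈ stabR S x₀ := by
      rw [map_pow]; exact hk
    have h5 : (⟨g₀⁻¹ * (iotaR S X z) ^ k * g₀, hk⟩ : stabR S x₀)
        = ⟨g₀⁻¹ * iotaR S X (z ^ k) * g₀, hk'⟩ := by
      apply Subtype.ext
      change g₀⁻¹ * (iotaR S X z) ^ k * g₀ = g₀⁻¹ * iotaR S X (z ^ k) * g₀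
      rw [map_pow]
    rw [h5, key' (z ^ k) g₀ hk' (hz k), map_pow]

end Cfsg.Agent.Helper6.TC
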