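import Mathlib
import Cfsg.Agent.Helper6.TateC
import Cfsg.Agent.Helper6.PpiH
import Cfsg.Agent.Helper6.TcE

/-!
# Tate's theorem for fusion systems, part D: the twisted transfer

For a saturated fusion system `F` over `S`, a homomorphism `π : S →* E` to a finite `p`-group and a
central subgroup `Z` of `E` containing the image of the hyperfocal subgroup, there is a homomorphism
`v : S →* Z` that agrees with `π ^ n` on the hyperfocal subgroup, for some `n` prime to `p`.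
-/

set_option autoImplicit false
set_option linter.style.haveILetI false
set_option maxHeartbeats 800000

namespace Cfsg.Agent.Helper6.Tate

open Cfsg Cfsg.FusionSystem Cfsg.Agent.Lead

universe u

variable {Ω : Type u} [Group Ω] {S : Subgroup Ω} {E : Type u} [Group E]

/-- **The twisted transfer.** -/
theorem exists_twisted_transfer [Finite S] [Finite E] (p : ℕ) [Fact p.Prime] (hS : IsPGroup p S)
    (hE : IsPGroup p E) (F : FusionSystem S) (hF : F.IsSaturated p)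
    (π : S →* E) (Z : Subgroup E) (hZ : Z ≤ Subgroup.center E)
    (hπ : ∀ u : S, (u : Ω) ∈ F.hyperfocalSubgroup p → π u ∈ Z) :
    ∃ (n : ℕ) (v : S →* E), ¬ p ∣ n ∧ (∀ s, v s ∈ Z) ∧
      ∀ u : S, (u : Ω) ∈ F.hyperfocalSubgroup p → v u = π u ^ n := by
  haveI : Finite ↥(S.prod (⊤ : Subgroup E)) := finite_prod
  have hprodP := isPGroup_prod p hS hE
  have hsat := prodSys_isSaturated p hS hE F hF
  have hŜle := hatS_le π Z hZ
  have hhyp : (prodSys F E).hyperfocalSubgroup p ≤ hatS π Z hZ :=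
    (hyperfocal_prodSys_le p hE F).trans (hyperfocal_prod_bot_le_hatS p F π Z hZ hπ)
  obtain ⟨𝓚, h𝓚sat, h𝓚idx⟩ := Ppi.exists_ppower p _ (S.prod (⊤ : Subgroup E)) rfl hprodP
    (prodSys F E) hsat (hatS π Z hZ) hŜle hhyp
  haveI : Finite ↥(hatS π Z hZ) := Fusion.finite_of_le hŜle
  have hŜp : IsPGroup p ↥(hatS π Z hZ) := hprodP.to_le hŜle
  letI : CommGroup ↥Z :=
    { (inferInstance : Group ↥Z) with
      mul_comm := fun a b => Subtype.ext (Subgroup.mem_center_iff.mp (hZ b.2) a) }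
  obtain ⟨n, V, hn, hVstab, hVpow⟩ := TC.exists_transfer' p hŜp 𝓚 h𝓚sat (rho π Z hZ)
  -- the transfer on `1 × Z`
  have hV1 : ∀ z : ↥Z, V (inrHom π Z hZ z) = z ^ n := by
    intro z
    have h1 := hVpow (inrHom π Z hZ z) ?_
    · rw [h1, rho_inrHom]
    intro k Q ψ hψ h
    have hψ' := h𝓚idx.1 Q hψ
    have hk : (((inrHom π Z hZ z) ^ k : ↥(hatS π Z hZ)) : Ω × E) = (1, ((z ^ k : ↥Z) : E)) := by
      rw [← map_pow]; rfl
    have aux : ∀ (y : Ω × E) (hy : y ∈ Q) (z' : E), z' ∈ Subgroup.center E → y = (1, z') →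
        ψ ⟨y, hy⟩ = y := by
      intro y hy z' hz' hyz
      subst hyz
      exact prodSys_map_inr F hψ' hz' hy
    apply congrArg (rho π Z hZ)
    apply Subtype.ext
    exact aux _ h _ (hZ (z ^ k).2) hk
  -- the homomorphism `v`
  set v : S →* ↥Z := V.comp (graphHom π Z hZ) with hv
  -- key claim
  have key : ∀ (P : Subgroup Ω) (hP : P ≤ S) (α : F.autGroup P), (orderOf α).Coprime p →
      ∀ (x : P) (hg : (x : Ω)⁻¹ * (((α : MulAut P) x : P) : Ω) ∈ S),
      ((v ⟨_, hg⟩ : ↥Z) : E) = π ⟨_, hg⟩ ^ n := by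
    intro P hP α hα x hg
    obtain ⟨γ', hγ'ord, hγ'v⟩ := exists_lift p F π Z hZ hπ hP α hα
    have hres : γ' ∈ pResidual p ((prodSys F E).autGroup (hatP π Z hZ P)) :=
      mem_pResidual_of_coprime' hγ'ord
    have hPh := hatP_le_hatS π Z hZ P
    have hmem𝓚 : (γ' : MulAut ↥(hatP π Z hZ P)) ∈ 𝓚.autGroup (hatP π Z hZ P) :=
      h𝓚idx.2.2 _ hPh ⟨γ', hres, rfl⟩
    have hhom := (Fusion.mem_autGroup_iff 𝓚 hPh _).mp hmem𝓚
    have hxS : (x : Ω) ∈ S := hP x.2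
    have hαxS : (((α : MulAut P) x : P) : Ω) ∈ S := hP ((α : MulAut P) x).2
    have hxh : ((x : Ω), π ⟨x, hxS⟩) ∈ hatP π Z hZ P :=
      ⟨(graphHom π Z hZ ⟨x, hxS⟩).2, x.2, Subgroup.mem_top _⟩
    have h1 := hVstab _ _ hhom ⟨_, hxh⟩
    have hαres : α ∈ pResidual p (F.autGroup P) := mem_pResidual_of_coprime' hα
    have hgen := Fusion.mem_hyperfocal F p hP α hαres x
    -- the two elements of `Ŝ`
    set a : ↥(hatS π Z hZ) := graphHom π Z hZ ⟨x, hxS⟩ with ha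
    set b : ↥(hatS π Z hZ) := ⟨((hatP π Z hZ P).subtype.comp
      (γ' : MulAut ↥(hatP π Z hZ P)).toMonoidHom) ⟨_, hxh⟩, Fusion.map_mem 𝓚 hhom _⟩ with hb
    have hbcoe : (b : Ω × E) = ((((α : MulAut P) x : P) : Ω), π ⟨x, hxS⟩) := by
      have := hγ'v ⟨_, hxh⟩
      exact this
    have hVab : V b = V a := h1
    have hb1 : (b : Ω × E).1 ∈ S := by rw [hbcoe]; exact hαxS
    have hbdec := eq_graph_mul_inr π Z hZ b hb1
    have hgb : graphHom π Z hZ ⟨(b : Ω × E).1, hb1⟩ = graphHom π Z hZ ⟨_, hαxS⟩ := by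
      congr 1
      apply Subtype.ext
      show (b : Ω × E).1 = _
      rw [hbcoe]
    have hrb : ((rho π Z hZ b : ↥Z) : E) = π ⟨x, hxS⟩ * (π ⟨_, hαxS⟩)⁻¹ := by
      rw [rho_coe π Z hZ b hb1]
      have e1 : (b : Ω × E).2 = π ⟨x, hxS⟩ := by rw [hbcoe]
      have e2 : (⟨(b : Ω × E).1, hb1⟩ : S) = ⟨_, hαxS⟩ := by
        apply Subtype.ext
        show (b : Ω × E).1 = _
        rw [hbcoe]
      rw [e1, e2]
    have hVb : V b = v ⟨_, hαxS⟩ * (rho π Z hZ b) ^ n := by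
      conv_lhs => rw [hbdec]
      rw [map_mul, hV1, hgb]
      rfl
    have hVa : V a = v ⟨x, hxS⟩ := rfl
    have hvx : v ⟨x, hxS⟩ = v ⟨_, hαxS⟩ * (rho π Z hZ b) ^ n := by
      rw [← hVa, ← hVab, hVb]
    have hgdec : (⟨_, hg⟩ : S) = (⟨x, hxS⟩ : S)⁻¹ * ⟨_, hαxS⟩ := rfl
    have hvg : v ⟨_, hg⟩ = ((rho π Z hZ b)⁻¹) ^ n := by
      rw [hgdec, map_mul, map_inv, hvx, mul_inv_rev, inv_mul_cancel_right, inv_pow]
    rw [hvg]
    have hcz : π ⟨_, hg⟩ ∈ Z := hπ ⟨_, hg⟩ hgen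
    have hc := Subgroup.mem_center_iff.mp (hZ hcz) (π ⟨x, hxS⟩)
    have e3 : ((rho π Z hZ b : ↥Z) : E)⁻¹ = π ⟨_, hg⟩ := by
      rw [hrb, mul_inv_rev, inv_inv]
      have e4 : π ⟨_, hαxS⟩ = π ⟨x, hxS⟩ * π ⟨_, hg⟩ := by
        rw [hgdec, map_mul, map_inv, mul_inv_cancel_left]
      rw [e4, hc, mul_inv_cancel_right]
    rw [← e3]
    rfl
  have hUS := Fusion.hyperfocal_le F p
  refine ⟨n, Z.subtype.comp v, hn, fun s => (v s).2, ?_⟩
  -- the subgroup of the hyperfocal subgroup where the two maps agree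
  let H : Subgroup Ω :=
    { carrier := {y | ∃ hy : y ∈ F.hyperfocalSubgroup p,
        ((v ⟨y, hUS hy⟩ : ↥Z) : E) = π ⟨y, hUS hy⟩ ^ n}
      one_mem' := by
        refine ⟨Subgroup.one_mem _, ?_⟩
        have e1 : (⟨(1 : Ω), hUS (Subgroup.one_mem _)⟩ : S) = 1 := rfl
        rw [e1, map_one, map_one, one_pow]
        rfl
      mul_mem' := by
        rintro y y' ⟨hy, h⟩ ⟨hy', h'⟩
        refine ⟨Subgroup.mul_mem _ hy hy', ?_⟩
        have e1 : (⟨y * y', hUS (Subgroup.mul_mem _ hy hy')⟩ : S)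
            = ⟨y, hUS hy⟩ * ⟨y', hUS hy'⟩ := rfl
        have hcomm : Commute (π ⟨y, hUS hy⟩) (π ⟨y', hUS hy'⟩) :=
          Subgroup.mem_center_iff.mp (hZ (hπ ⟨y', hUS hy'⟩ hy')) _
        rw [e1, map_mul, map_mul, hcomm.mul_pow, ← h, ← h']
        rfl
      inv_mem' := by
        rintro y ⟨hy, h⟩
        refine ⟨Subgroup.inv_mem _ hy, ?_⟩
        have e1 : (⟨y⁻¹, hUS (Subgroup.inv_mem _ hy)⟩ : S) = (⟨y, hUS hy⟩ : S)⁻¹ := rfl
        rw [e1, map_inv, map_inv, inv_pow, ← h]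
        rfl }
  have hle : F.hyperfocalSubgroup p ≤ H := by
    unfold FusionSystem.hyperfocalSubgroup
    rw [Subgroup.closure_le]
    rintro y ⟨P, α, x, hP, hα, rfl⟩
    have keyres : pResidual p (F.autGroup P) ≤ Fusion.commSub (F.autGroup P) H := by
      unfold pResidual
      rw [Subgroup.closure_le]
      intro γ hγ x
      exact ⟨Fusion.mem_hyperfocal F p hP γ (mem_pResidual_of_coprime' hγ) x, key P hP γ hγ x _⟩
    exact keyres hα x
  intro u hu
  obtain ⟨hy, h⟩ := hle hu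
  exact h

end Cfsg.Agent.Helper6.Tate
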