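import Mathlib
import Cfsg.Agent.Helper6.TateD

/-!
# Tate's theorem for fusion systems, part E: the core of the argument

If a normal subgroup `N` of `S` inside the hyperfocal subgroup `U` contains `[U, S]` and `U ≤ N Φ(S)`,
then `U = N`.
-/

set_option autoImplicit false
set_option linter.style.haveILetI false
set_option maxHeartbeats 800000

namespace Cfsg.Agent.Helper6.Tate

open Cfsg Cfsg.FusionSystem Cfsg.Agent.Lead
open scoped commutatorElement

universe u

variable {Ω : Type u} [Group Ω] {S : Subgroup Ω}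

/-- **The core of Tate's theorem.** -/
theorem hyperfocal_le_of_commutator_le [Finite S] (p : ℕ) [hp : Fact p.Prime] (hS : IsPGroup p S)
    (F : FusionSystem S) (hF : F.IsSaturated p) (N : Subgroup S) [hN : N.Normal]
    (hNU : N ≤ (F.hyperfocalSubgroup p).subgroupOf S)
    (hcomm : ⁅(F.hyperfocalSubgroup p).subgroupOf S, (⊤ : Subgroup S)⁆ ≤ N)
    (hΦ : (F.hyperfocalSubgroup p).subgroupOf S ≤ N ⊔ frattini S) :
    (F.hyperfocalSubgroup p).subgroupOf S ≤ N := by
  set U' := (F.hyperfocalSubgroup p).subgroupOf S with hU'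
  set π : S →* S ⧸ N := QuotientGroup.mk' N with hπdef
  set Z : Subgroup (S ⧸ N) := U'.map π with hZdef
  have hE : IsPGroup p (S ⧸ N) := hS.to_quotient N
  have hZ : Z ≤ Subgroup.center (S ⧸ N) := by
    rintro _ ⟨u, hu, rfl⟩
    rw [Subgroup.mem_center_iff]
    intro g
    obtain ⟨s, rfl⟩ := QuotientGroup.mk_surjective g
    show π s * π u = π u * π s
    rw [← map_mul, ← map_mul]
    apply (QuotientGroup.eq).mpr
    apply hcomm
    have h1 := Subgroup.commutator_mem_commutator (U'.inv_mem hu) (Subgroup.mem_top s⁻¹)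
    have h2 : ⁅u⁻¹, s⁻¹⁆ = (s * u)⁻¹ * (u * s) := by
      rw [commutatorElement_def]; group
    rw [← h2]
    exact h1
  have hπ : ∀ u : S, (u : Ω) ∈ F.hyperfocalSubgroup p → π u ∈ Z := fun u hu =>
    ⟨u, Subgroup.mem_subgroupOf.mpr hu, rfl⟩
  obtain ⟨n, v, hn, hvZ, hvU⟩ := exists_twisted_transfer p hS hE F hF π Z hZ hπ
  -- `Z` is a `p`-group and `n` is prime to `p`
  have hZp : IsPGroup p ↥Z := hE.to_subgroup Z
  set v' : S →* ↥Z := v.codRestrict Z hvZ with hv'
  -- every element of `Z` is `v u` with `u` in the hyperfocal subgroup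
  have hsurjU : ∀ z : ↥Z, ∃ u ∈ U', v' u = z := by
    rintro ⟨_, u, hu, rfl⟩
    have hcop : n.Coprime (orderOf (π u)) := by
      obtain ⟨k, hk⟩ := hE (π u)
      have h1 : orderOf (π u) ∣ p ^ k := orderOf_dvd_of_pow_eq_one hk
      have h2 : n.Coprime p := ((Nat.Prime.coprime_iff_not_dvd hp.out).mpr hn).symm
      exact Nat.Coprime.coprime_dvd_right h1 (Nat.Coprime.pow_right k h2)
    obtain ⟨m, hm⟩ := exists_pow_eq_self_of_coprime hcop
    refine ⟨u ^ m, U'.pow_mem hu m, ?_⟩
    apply Subtype.ext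
    show v (u ^ m) = π u
    rw [hvU (u ^ m) (Subgroup.mem_subgroupOf.mp (U'.pow_mem hu m)), map_pow, ← pow_mul,
      mul_comm, pow_mul, hm]
  have hsurj : Function.Surjective v' := fun z => by
    obtain ⟨u, -, h⟩ := hsurjU z
    exact ⟨u, h⟩
  have hfr := frattini_le_comap_frattini_of_surjective hsurj
  -- the Frattini subgroup of `Z` is everything
  have htop : frattini ↥Z = ⊤ := by
    rw [eq_top_iff]
    intro z _
    obtain ⟨u, hu, rfl⟩ := hsurjU z
    have h1 : (u : S) ∈ ((N ⊔ frattini S : Subgroup S) : Set S) := hΦ hu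
    rw [Subgroup.normal_mul] at h1
    obtain ⟨t, ht, f, hf, rfl⟩ := Set.mem_mul.mp h1
    have hvt : v' t = 1 := by
      apply Subtype.ext
      show v t = 1
      rw [hvU t (Subgroup.mem_subgroupOf.mp (hNU ht))]
      have : π t = 1 := (QuotientGroup.eq_one_iff t).mpr ht
      rw [this, one_pow]
    rw [map_mul, hvt, one_mul]
    exact hfr hf
  have hbot : (⊥ : Subgroup ↥Z) = ⊤ := by
    apply frattini_nongenerating
    rw [bot_sup_eq, htop]
  -- conclusion
  intro u hu
  have h1 : (⟨π u, u, hu, rfl⟩ : ↥Z) ∈ (⊥ : Subgroup ↥Z) := by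
    rw [hbot]; exact Subgroup.mem_top _
  rw [Subgroup.mem_bot] at h1
  have h2 : π u = 1 := congrArg Subtype.val h1
  exact (QuotientGroup.eq_one_iff u).mp h2

end Cfsg.Agent.Helper6.Tate
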