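import Mathlib
import Cfsg.Agent.Helper6.TateE

/-!
# Tate's theorem for fusion systems, part F: the hyperfocal subgroup and the Frattini subgroup

If a normal subgroup `N` of `S` inside the hyperfocal subgroup `U` satisfies `U ≤ N Φ(S)`, then
`U = N`.
-/

set_option autoImplicit false
set_option linter.style.haveILetI false
set_option maxHeartbeats 800000

namespace Cfsg.Agent.Helper6.Tate

open Cfsg Cfsg.FusionSystem Cfsg.Agent.Lead
open scoped commutatorElement

universe u

variable {Ω : Type u} [Group Ω] {S : Subgroup Ω}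

/-- The hyperfocal subgroup is normal in `S`. -/
theorem hyperfocal_subgroupOf_normal (p : ℕ) (F : FusionSystem S) :
    ((F.hyperfocalSubgroup p).subgroupOf S).Normal := by
  refine ⟨fun u hu g => ?_⟩
  rw [Subgroup.mem_subgroupOf] at hu ⊢
  exact Fusion.conj_mem_hyperfocal F p g.2 hu

/-- In a nilpotent group, a subgroup `U` with `U ≤ [U, G]` is trivial. -/
theorem eq_bot_of_le_commutator_top {G : Type*} [Group G] [hG : Group.IsNilpotent G]
    (U : Subgroup G) (h : U ≤ ⁅U, (⊤ : Subgroup G)⁆) : U = ⊥ := by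
  obtain ⟨k, hk⟩ := Subgroup.nilpotent_iff_lowerCentralSeries.mp hG
  have key : ∀ i, U ≤ (⊤ : Subgroup G).lowerCentralSeries i := by
    intro i
    induction i with
    | zero => simp
    | succ i ih =>
      refine h.trans ?_
      rw [Subgroup.lowerCentralSeries_succ]
      exact Subgroup.commutator_mono ih le_rfl
  rw [eq_bot_iff, ← hk]
  exact key k

/-- **Tate's theorem, subgroup form.** -/
theorem hyperfocal_le_of_le_sup_frattini [Finite S] (p : ℕ) [hp : Fact p.Prime]
    (hS : IsPGroup p S) (F : FusionSystem S) (hF : F.IsSaturated p) (N : Subgroup S) [hN : N.Normal]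
    (hNU : N ≤ (F.hyperfocalSubgroup p).subgroupOf S)
    (hΦ : (F.hyperfocalSubgroup p).subgroupOf S ≤ N ⊔ frattini S) :
    (F.hyperfocalSubgroup p).subgroupOf S ≤ N := by
  haveI hUn := hyperfocal_subgroupOf_normal p F
  set U' := (F.hyperfocalSubgroup p).subgroupOf S with hU'
  have hcl : ⁅U', (⊤ : Subgroup S)⁆ ≤ U' := Subgroup.commutator_le_left U' ⊤
  have h1 : U' ≤ N ⊔ ⁅U', (⊤ : Subgroup S)⁆ :=
    hyperfocal_le_of_commutator_le p hS F hF (N ⊔ ⁅U', (⊤ : Subgroup S)⁆)
      (sup_le hNU hcl) le_sup_right (hΦ.trans (sup_le_sup_right le_sup_left _))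
  -- pass to the quotient by `N`
  haveI : Group.IsNilpotent (S ⧸ N) := (hS.to_quotient N).isNilpotent
  have h2 : U'.map (QuotientGroup.mk' N) ≤
      ⁅U'.map (QuotientGroup.mk' N), (⊤ : Subgroup (S ⧸ N))⁆ := by
    calc U'.map (QuotientGroup.mk' N)
        ≤ (N ⊔ ⁅U', (⊤ : Subgroup S)⁆).map (QuotientGroup.mk' N) := Subgroup.map_mono h1
      _ = ⁅U'.map (QuotientGroup.mk' N), (⊤ : Subgroup S).map (QuotientGroup.mk' N)⁆ := by
          rw [Subgroup.map_sup, QuotientGroup.map_mk'_self, bot_sup_eq, Subgroup.map_commutator]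
      _ ≤ _ := Subgroup.commutator_mono le_rfl le_top
  have h3 := eq_bot_of_le_commutator_top _ h2
  intro u hu
  have h4 : QuotientGroup.mk' N u ∈ U'.map (QuotientGroup.mk' N) := ⟨u, hu, rfl⟩
  rw [h3, Subgroup.mem_bot] at h4
  exact (QuotientGroup.eq_one_iff u).mp h4

end Cfsg.Agent.Helper6.Tate
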