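import Mathlib
import Cfsg.Prelude.Def_Characters
import Cfsg.Prelude.Def_Blocks
import Cfsg.Prelude.Def_BlockLocal
import Cfsg.Prelude.Def_BrauerPairs
import Cfsg.Agent.Helper6.StableDefect
import Cfsg.Agent.Helper6.PrincipalDefect

/-!
# Fong's theorem: defect groups of a block of maximal defect covering a stable block
-/

set_option autoImplicit false
set_option linter.style.haveILetI false

namespace Cfsg.Agent.Helper6

open scoped ComplexConjugate

universe u

variable {G : Type u} [Group G] {M : Ideal Cfsg.AlgInt}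

/-- For a member `χ₀` of a set of characters with local idempotent coefficients there is an element
at which both the idempotent coefficient and the central character of `χ₀` are outside the local
ideal. -/
theorem exists_coeff_centralChar_not_mem_gen [Finite G] (hM : M.IsMaximal)
    (A : Set (Cfsg.IrrCharacter G)) (hA : ∀ g : G, Cfsg.MemLocalRing M (Cfsg.blockCoeff A g))
    (χ₀ : Cfsg.IrrCharacter G) (hχ₀ : χ₀ ∈ A) :
    ∃ g : G, ¬ Cfsg.MemLocalIdeal M (Cfsg.blockCoeff A g) ∧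
      ¬ Cfsg.MemLocalIdeal M (Cfsg.centralChar (χ₀ : G → ℂ) g) := by
  classical
  haveI := Fintype.ofFinite G
  by_contra hno
  push Not at hno
  have hχ1 : (χ₀ : G → ℂ) 1 ≠ 0 := IsIrrCharacter.apply_one_ne_zero χ₀.2
  have hχcf := IsCharacter.isClassFunction (IsIrrCharacter.isCharacter χ₀.2)
  have hBcf := blockCoeff_isClassFunction A
  set d : G → ℂ := fun g => Cfsg.blockCoeff A g * ((χ₀ : G → ℂ) g / (χ₀ : G → ℂ) 1) with hd
  have hdcf : Cfsg.IsClassFunction G d := by
    intro g h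
    simp only [hd]
    rw [hBcf g h, hχcf g h]
  have hsum : ∑ g : G, d g = 1 := by
    have e1 := sum_blockCoeff_mul A χ₀
    rw [if_pos hχ₀] at e1
    have : ∑ g : G, d g =
        (∑ g : G, Cfsg.blockCoeff A g * (χ₀ : G → ℂ) g) / (χ₀ : G → ℂ) 1 := by
      rw [Finset.sum_div]
      apply Finset.sum_congr rfl
      intro g _
      simp only [hd]
      ring
    rw [this, e1, div_self hχ1]
  have hJ : Cfsg.MemLocalIdeal M (∑ g ∈ (Finset.univ : Finset G), d g) := by
    apply sum_mem_of_conj_closed (fun z => Cfsg.MemLocalIdeal M z) (memLocalIdeal_zero hM)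
      (fun x y hx hy => MemLocalIdeal.add hM hx hy) d hdcf _ _ Finset.univ rfl
      (fun g _ x => Finset.mem_univ _)
    intro g
    have e : ((Subgroup.centralizer ({g} : Set G)).index : ℂ) * d g =
        Cfsg.blockCoeff A g * Cfsg.centralChar (χ₀ : G → ℂ) g := by
      simp only [hd]
      unfold Cfsg.centralChar
      ring
    rw [e]
    by_cases h1 : Cfsg.MemLocalIdeal M (Cfsg.blockCoeff A g)
    · rw [mul_comm]
      exact MemLocalIdeal.mul_left hM
        (memLocalRing_of_isIntegral hM (isIntegral_centralChar χ₀ g)) h1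
    · exact MemLocalIdeal.mul_left hM (hA g) (hno g h1)
  rw [hsum] at hJ
  exact not_memLocalIdeal_one hJ

/-- If the idempotent coefficient of a union of blocks is outside the local ideal at `g`, so is
that of one of its blocks. -/
theorem exists_block_coeff_not_mem [Finite G] (hM : M.IsMaximal) (g : G)
    (A : Set (Cfsg.IrrCharacter G))
    (hA : ∀ χ ∈ A, Cfsg.blockOf M (χ : G → ℂ) ⊆ A)
    (hg : ¬ Cfsg.MemLocalIdeal M (Cfsg.blockCoeff A g)) :
    ∃ χ ∈ A, ¬ Cfsg.MemLocalIdeal M (Cfsg.blockCoeff (Cfsg.blockOf M (χ : G → ℂ)) g) := by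
  classical
  haveI : Finite (Cfsg.IrrCharacter G) := irr_finite
  haveI : Fintype (Cfsg.IrrCharacter G) := Fintype.ofFinite _
  have key : ∀ (n : ℕ) (A : Set (Cfsg.IrrCharacter G)), A.ncard = n →
      (∀ χ ∈ A, Cfsg.blockOf M (χ : G → ℂ) ⊆ A) →
      ¬ Cfsg.MemLocalIdeal M (Cfsg.blockCoeff A g) →
      ∃ χ ∈ A, ¬ Cfsg.MemLocalIdeal M (Cfsg.blockCoeff (Cfsg.blockOf M (χ : G → ℂ)) g) := by
    intro n
    induction n using Nat.strong_induction_on with
    | _ n ih =>
    intro A hn hA hg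
    by_cases hemp : A = ∅
    · exfalso
      apply hg
      rw [hemp]
      unfold Cfsg.blockCoeff
      simp only [Set.mem_empty_iff_false, finsum_false, finsum_zero, mul_zero]
      exact memLocalIdeal_zero hM
    obtain ⟨χ₀, hχ₀⟩ := Set.nonempty_iff_ne_empty.mpr hemp
    by_cases hB0 : Cfsg.MemLocalIdeal M (Cfsg.blockCoeff (Cfsg.blockOf M (χ₀ : G → ℂ)) g)
    swap
    · exact ⟨χ₀, hχ₀, hB0⟩
    set B := Cfsg.blockOf M (χ₀ : G → ℂ) with hB
    have hBA : B ⊆ A := hA χ₀ hχ₀
    have hχ₀B : χ₀ ∈ B := mem_blockOf_self hM χ₀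
    have hA' : ∀ χ ∈ A \ B, Cfsg.blockOf M (χ : G → ℂ) ⊆ A \ B := by
      intro χ hχ ψ hψ
      refine ⟨hA χ hχ.1 hψ, ?_⟩
      intro hψB
      apply hχ.2
      exact sameBlock_trans hM hψB (sameBlock_symm hψ)
    have hcard : (A \ B).ncard < n := by
      rw [← hn]
      apply Set.ncard_lt_ncard _ (Set.toFinite A)
      refine ⟨Set.sdiff_subset, ?_⟩
      intro h
      exact (h hχ₀).2 hχ₀B
    have hsplit : Cfsg.blockCoeff A g = Cfsg.blockCoeff B g + Cfsg.blockCoeff (A \ B) g := by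
      unfold Cfsg.blockCoeff
      rw [← mul_add]
      congr 1
      rw [← finsum_mem_union Set.disjoint_sdiff_right (Set.toFinite _) (Set.toFinite _),
        Set.union_sdiff_cancel hBA]
    have hg' : ¬ Cfsg.MemLocalIdeal M (Cfsg.blockCoeff (A \ B) g) := by
      intro h
      apply hg
      rw [hsplit]
      exact MemLocalIdeal.add hM hB0 h
    obtain ⟨χ, hχ, hχg⟩ := ih _ hcard (A \ B) rfl hA' hg'
    exact ⟨χ, hχ.1, hχg⟩
  exact key _ A rfl hA hg

/-- if `t` is prime to `p` and `t * x` lies in the local ideal, so does `x` -/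
theorem memLocalIdeal_of_natCast_mul {p : ℕ} [hp : Fact p.Prime] (hM : Cfsg.IsPModular p M)
    (t : ℕ) (ht : ¬ p ∣ t) (x : ℂ) (h : Cfsg.MemLocalIdeal M ((t : ℂ) * x)) :
    Cfsg.MemLocalIdeal M x := by
  have hnot : (t : Cfsg.AlgInt) ∉ M := natCast_not_mem_of_not_dvd hM.2.1 hp.out hM.2.2 ht
  have hloc : Cfsg.MemLocalRing M ((t : ℂ)⁻¹) := by
    refine ⟨1, (t : Cfsg.AlgInt), hnot, ?_⟩
    simp
  have ht0 : (t : ℂ) ≠ 0 := by
    intro h0
    apply ht
    have : t = 0 := by exact_mod_cast h0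
    rw [this]
    exact dvd_zero p
  have := MemLocalIdeal.mul_left hM.2.1 hloc h
  rwa [← mul_assoc, inv_mul_cancel₀ ht0, one_mul] at this

set_option maxHeartbeats 1000000 in
/-- **Fong's theorem**: a block `B` of maximal defect among the blocks covering the `G`-stable block
`b` of the normal subgroup `N`, and a defect group `P` of `B`: the index of `P N` is prime to `p`,
`P ∩ N` is a defect group of `b`, and `d(B) = d(b) + ν_p |G : N|`. -/
theorem fong_max_defect [Fintype G] {p : ℕ} [hp : Fact p.Prime]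
    (hM : Cfsg.IsPModular p M) (N : Subgroup G) [hN : N.Normal] [Fintype N]
    (b : Set (Cfsg.IrrCharacter N)) (hb : Cfsg.IsPBlock M b)
    (hO : ∀ g : G, ∀ θ ∈ b, conjIrr N g θ ∈ b)
    (B : Set (Cfsg.IrrCharacter G)) (hB : Cfsg.IsPBlock M B)
    (hcov : ∃ χ ∈ B, ∃ θ ∈ b, Cfsg.classInner (fun n : N => (χ : G → ℂ) n) (θ : N → ℂ) ≠ 0)
    (hmax : ∀ B' : Set (Cfsg.IrrCharacter G), Cfsg.IsPBlock M B' →
      (∃ χ ∈ B', ∃ θ ∈ b, Cfsg.classInner (fun n : N => (χ : G → ℂ) n) (θ : N → ℂ) ≠ 0) →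
      Cfsg.blockDefect p B' ≤ Cfsg.blockDefect p B)
    (P : Subgroup G) (hP : Cfsg.IsDefectGroup p M B P) :
    ¬ p ∣ (P ⊔ N).index ∧ Cfsg.IsDefectGroup p M b ((P ⊓ N).subgroupOf N) ∧
      Cfsg.blockDefect p B = Cfsg.blockDefect p b + N.index.factorization p := by
  classical
  have hMm := hM.2.1
  have hpM := hM.2.2
  have hpp := hp.out
  obtain ⟨χ, hχB, θ, hθb, hconst⟩ := hcov
  have hcardP := card_defectGroup hMm p hpM B hB P hP
  obtain ⟨g₀, hg₀, S₀, hPdef⟩ := hP
  -- the characters lying over b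
  have hLcoef : ∀ g : G, Cfsg.blockCoeff (lyingOver N b) g =
      Cfsg.extendByZero N (Cfsg.blockCoeff b) g := blockCoeff_lyingOver N b hO
  have hLloc : ∀ g : G, Cfsg.MemLocalRing M (Cfsg.blockCoeff (lyingOver N b) g) := by
    intro g
    rw [hLcoef g]
    by_cases hg : g ∈ N
    · rw [extendByZero_mem N _ hg]
      exact osima hMm b hb _
    · rw [extendByZero_not_mem N _ hg]
      exact memLocalRing_zero hMm
  have hLclosed : ∀ χ ∈ lyingOver N b, Cfsg.blockOf M (χ : G → ℂ) ⊆ lyingOver N b :=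
    fun χ hχ => block_subset_of_local M hMm _ hLloc χ hχ
  have hχL : χ ∈ lyingOver N b := ⟨θ, hθb, hconst⟩
  obtain ⟨g, hg1, hg2⟩ := exists_coeff_centralChar_not_mem_gen hMm _ hLloc χ hχL
  obtain ⟨e, he⟩ := exists_conj_defectGroup_le_centralizer hM B hB g₀ hg₀ S₀ χ hχB g hg2
  -- the conjugate `l` of `g` centralized by `P`
  obtain ⟨l, hl⟩ : ∃ l : G, l = e⁻¹ * g * e := ⟨_, rfl⟩
  have hl1 : ¬ Cfsg.MemLocalIdeal M (Cfsg.blockCoeff (lyingOver N b) l) := by
    have := blockCoeff_isClassFunction (lyingOver N b) g e⁻¹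
    rw [inv_inv] at this
    rw [hl, this]
    exact hg1
  have hl2 : ¬ Cfsg.MemLocalIdeal M (Cfsg.centralChar (χ : G → ℂ) l) := by
    have := centralChar_conj χ g e⁻¹
    rw [inv_inv] at this
    rw [hl, this]
    exact hg2
  have hlN : l ∈ N := by
    by_contra hlN
    apply hl1
    rw [hLcoef l, extendByZero_not_mem N _ hlN]
    exact memLocalIdeal_zero hMm
  have hPl : P ≤ Subgroup.centralizer ({l} : Set G) := by
    rw [hPdef]
    rintro x ⟨u, hu, rfl⟩
    have h1 := he u hu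
    rw [Subgroup.mem_centralizer_singleton_iff] at h1 ⊢
    show (u : G) * l = l * (u : G)
    rw [hl]
    have h2 : e⁻¹ * (g * (e * (u : G) * e⁻¹)) * e = e⁻¹ * ((e * (u : G) * e⁻¹) * g) * e := by
      rw [h1]
    have h3 : e⁻¹ * (g * (e * (u : G) * e⁻¹)) * e = e⁻¹ * g * e * (u : G) := by group
    have h4 : e⁻¹ * ((e * (u : G) * e⁻¹) * g) * e = (u : G) * (e⁻¹ * g * e) := by group
    rw [← h3, h2, h4]
  -- `l` is a defect class of `b`
  obtain ⟨θ₀, hbθ₀⟩ := hb
  have hb' : Cfsg.IsPBlock M b := ⟨θ₀, hbθ₀⟩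
  have hsame : ∀ θ' ∈ b, ∀ x : G,
      Cfsg.SameBlock M (θ' : N → ℂ) (conjFun N (θ' : N → ℂ) x) := by
    intro θ' hθ' x
    have h1 : conjIrr N x θ' ∈ b := hO x θ' hθ'
    rw [hbθ₀] at h1 hθ'
    exact sameBlock_trans hMm (sameBlock_symm hθ') h1
  have hbl : Cfsg.blockCoeff b ⟨l, hlN⟩ = Cfsg.blockCoeff (lyingOver N b) l := by
    rw [hLcoef l, extendByZero_mem N _ hlN]
  obtain ⟨t, ht, hcong⟩ := centralChar_congr_count hMm N χ θ hconst (hsame θ hθb) ⟨l, hlN⟩
  have htθ : ¬ Cfsg.MemLocalIdeal M ((t : ℂ) * Cfsg.centralChar (θ : N → ℂ) ⟨l, hlN⟩) := by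
    intro h
    apply hl2
    have := MemLocalIdeal.add hMm hcong h
    rwa [sub_add_cancel] at this
  have htint : Cfsg.MemLocalRing M (t : ℂ) :=
    memLocalRing_of_isIntegral hMm
      (by exact_mod_cast isIntegral_algebraMap (R := ℤ) (A := ℂ) (x := (t : ℤ)))
  have hθl : ¬ Cfsg.MemLocalIdeal M (Cfsg.centralChar (θ : N → ℂ) ⟨l, hlN⟩) := by
    intro h
    exact htθ (MemLocalIdeal.mul_left hMm htint h)
  have hpt : ¬ p ∣ t := by
    rintro ⟨s, rfl⟩
    apply htθ
    have h1 : Cfsg.MemLocalIdeal M (p : ℂ) := memLocalIdeal_prime hM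
    have hsint : Cfsg.MemLocalRing M ((s : ℂ) * Cfsg.centralChar (θ : N → ℂ) ⟨l, hlN⟩) :=
      memLocalRing_of_isIntegral hMm (IsIntegral.mul
        (by exact_mod_cast isIntegral_algebraMap (R := ℤ) (A := ℂ) (x := (s : ℤ)))
        (isIntegral_centralChar θ _))
    have := MemLocalIdeal.mul_left hMm hsint h1
    convert this using 1
    push_cast
    ring
  have hbl_all : ∀ θ' ∈ b, ¬ Cfsg.MemLocalIdeal M (Cfsg.centralChar (θ' : N → ℂ) ⟨l, hlN⟩) := by
    intro θ' hθ' h
    apply hθl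
    have h1 : Cfsg.SameBlock M (θ : N → ℂ) (θ' : N → ℂ) := by
      rw [hbθ₀] at hθb hθ'
      exact sameBlock_trans hMm (sameBlock_symm hθb) hθ'
    have := MemLocalIdeal.add hMm (h1 ⟨l, hlN⟩) h
    rwa [sub_add_cancel] at this
  have hdcb : Cfsg.IsDefectClass M b ⟨l, hlN⟩ := by
    refine ⟨osima hMm b hb' _, ?_, hbl_all⟩
    rw [hbl]
    exact hl1
  have hidxN0 : (Subgroup.centralizer ({(⟨l, hlN⟩ : N)} : Set N)).index ≠ 0 :=
    Subgroup.index_ne_zero_of_finite
  -- a block covering `b` with defect class `l`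
  obtain ⟨χ', hχ'L, hχ'l⟩ := exists_block_coeff_not_mem hMm l (lyingOver N b) hLclosed hl1
  obtain ⟨θ', hθ'b, hconst'⟩ := hχ'L
  have hB' : Cfsg.IsPBlock M (Cfsg.blockOf M (χ' : G → ℂ)) := ⟨χ', rfl⟩
  have hχ'B' : χ' ∈ Cfsg.blockOf M (χ' : G → ℂ) := mem_blockOf_self hMm χ'
  obtain ⟨t', ht', hcong'⟩ :=
    centralChar_congr_count hMm N χ' θ' hconst' (hsame θ' hθ'b) ⟨l, hlN⟩
  have htt' : t' = t := by
    have : t' * (Subgroup.centralizer ({(⟨l, hlN⟩ : N)} : Set N)).index =
        t * (Subgroup.centralizer ({(⟨l, hlN⟩ : N)} : Set N)).index := by rw [ht', ht]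
    exact Nat.eq_of_mul_eq_mul_right (Nat.pos_of_ne_zero hidxN0) this
  have hχ'l2 : ¬ Cfsg.MemLocalIdeal M (Cfsg.centralChar (χ' : G → ℂ) l) := by
    intro h
    apply hbl_all θ' hθ'b
    apply memLocalIdeal_of_natCast_mul hM t hpt
    have h1 := MemLocalIdeal.neg hcong'
    rw [neg_sub, htt'] at h1
    have := MemLocalIdeal.add hMm h1 h
    rwa [sub_add_cancel] at this
  have hdcB' : Cfsg.IsDefectClass M (Cfsg.blockOf M (χ' : G → ℂ)) l := by
    refine ⟨osima hMm _ hB' l, hχ'l, ?_⟩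
    intro χ'' hχ'' h
    apply hχ'l2
    have h1 : Cfsg.SameBlock M (χ' : G → ℂ) (χ'' : G → ℂ) := hχ''
    have := MemLocalIdeal.add hMm (h1 l) h
    rwa [sub_add_cancel] at this
  have hdB' := blockDefect_eq_of_defectClass hMm p hpM _ hB' l hdcB'
  have hdb := blockDefect_eq_of_defectClass hMm p hpM b hb' ⟨l, hlN⟩ hdcb
  have hle := hmax _ hB' ⟨χ', hχ'B', θ', hθ'b, hconst'⟩
  -- `P` is a Sylow subgroup of the centralizer of `l`
  have hC0 : Nat.card (Subgroup.centralizer ({l} : Set G)) ≠ 0 := Nat.card_pos.ne'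
  have hdvd : p ^ Cfsg.blockDefect p B ∣ Nat.card (Subgroup.centralizer ({l} : Set G)) := by
    rw [← hcardP]
    exact Subgroup.card_dvd_of_le hPl
  have hle2 : Cfsg.blockDefect p B ≤
      (Nat.card (Subgroup.centralizer ({l} : Set G))).factorization p :=
    (hpp.pow_dvd_iff_le_factorization hC0).mp hdvd
  have hdB : Cfsg.blockDefect p B =
      (Nat.card (Subgroup.centralizer ({l} : Set G))).factorization p := by
    rw [hdB'] at hle
    omega
  have hcardS : Nat.card (P.subgroupOf (Subgroup.centralizer ({l} : Set G))) =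
      p ^ (Nat.card (Subgroup.centralizer ({l} : Set G))).factorization p := by
    rw [Nat.card_congr (Subgroup.subgroupOfEquivOfLe hPl).toEquiv, hcardP, hdB]
  obtain ⟨S, hS⟩ : ∃ S : Sylow p (Subgroup.centralizer ({l} : Set G)),
      (S : Subgroup (Subgroup.centralizer ({l} : Set G))).map
        (Subgroup.centralizer ({l} : Set G)).subtype = P :=
    ⟨Sylow.ofCard _ hcardS, by rw [Sylow.coe_ofCard, Subgroup.map_subgroupOf_eq_of_le hPl]⟩
  obtain ⟨h1, h2⟩ := sylow_normal_count_gen N (Subgroup.centralizer ({l} : Set G)) t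
    (Subgroup.centralizer ({(⟨l, hlN⟩ : N)} : Set N)).index
    (Nat.card (Subgroup.centralizer ({(⟨l, hlN⟩ : N)} : Set N))) hpt
    hidxN0 ht (Subgroup.card_mul_index _)
    (card_centralizer_subgroup N ⟨l, hlN⟩) S
  rw [hS] at h1 h2
  refine ⟨by rwa [sup_comm], ⟨⟨l, hlN⟩, hdcb, ?_⟩, ?_⟩
  · have hle3 : ((P ⊓ N).subgroupOf N) ≤ Subgroup.centralizer ({(⟨l, hlN⟩ : N)} : Set N) := by
      intro x hx
      rw [Subgroup.mem_subgroupOf] at hx
      have hxg : (x : G) ∈ Subgroup.centralizer ({l} : Set G) := hPl hx.1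
      have hx1 := Subgroup.mem_centralizer_singleton_iff.mp hxg
      exact Subgroup.mem_centralizer_singleton_iff.mpr (Subtype.ext hx1)
    have hcard : Nat.card (((P ⊓ N).subgroupOf N).subgroupOf
          (Subgroup.centralizer ({(⟨l, hlN⟩ : N)} : Set N))) =
        p ^ (Nat.card (Subgroup.centralizer ({(⟨l, hlN⟩ : N)} : Set N))).factorization p := by
      rw [Nat.card_congr (Subgroup.subgroupOfEquivOfLe hle3).toEquiv,
        Nat.card_congr (Subgroup.subgroupOfEquivOfLe (inf_le_right : P ⊓ N ≤ N)).toEquiv]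
      exact h2
    refine ⟨Sylow.ofCard _ hcard, ?_⟩
    rw [Sylow.coe_ofCard, Subgroup.map_subgroupOf_eq_of_le hle3]
  · -- the arithmetic of the defects
    rw [hdB, hdb]
    have a1 : Nat.card (Subgroup.centralizer ({l} : Set G)) *
        (Subgroup.centralizer ({l} : Set G)).index = Nat.card G := Subgroup.card_mul_index _
    have a2 : Nat.card N * N.index = Nat.card G := Subgroup.card_mul_index N
    have a3 : Nat.card (Subgroup.centralizer ({(⟨l, hlN⟩ : N)} : Set N)) *
        (Subgroup.centralizer ({(⟨l, hlN⟩ : N)} : Set N)).index = Nat.card N :=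
      Subgroup.card_mul_index _
    have hcn0 : Nat.card (Subgroup.centralizer ({(⟨l, hlN⟩ : N)} : Set N)) ≠ 0 :=
      Nat.card_pos.ne'
    have hNi0 : N.index ≠ 0 := Subgroup.index_ne_zero_of_finite
    have ht0 : t ≠ 0 := by
      rintro rfl
      exact hpt (dvd_zero p)
    have b1 : Nat.card (Subgroup.centralizer ({l} : Set G)) * t =
        Nat.card (Subgroup.centralizer ({(⟨l, hlN⟩ : N)} : Set N)) * N.index := by
      have : (Nat.card (Subgroup.centralizer ({l} : Set G)) * t) *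
          (Subgroup.centralizer ({(⟨l, hlN⟩ : N)} : Set N)).index =
          (Nat.card (Subgroup.centralizer ({(⟨l, hlN⟩ : N)} : Set N)) * N.index) *
            (Subgroup.centralizer ({(⟨l, hlN⟩ : N)} : Set N)).index := by
        calc (Nat.card (Subgroup.centralizer ({l} : Set G)) * t) *
              (Subgroup.centralizer ({(⟨l, hlN⟩ : N)} : Set N)).index
            = Nat.card (Subgroup.centralizer ({l} : Set G)) *
              (t * (Subgroup.centralizer ({(⟨l, hlN⟩ : N)} : Set N)).index) := by ring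
          _ = Nat.card G := by rw [ht]; exact a1
          _ = Nat.card N * N.index := a2.symm
          _ = (Nat.card (Subgroup.centralizer ({(⟨l, hlN⟩ : N)} : Set N)) *
              (Subgroup.centralizer ({(⟨l, hlN⟩ : N)} : Set N)).index) * N.index := by rw [a3]
          _ = _ := by ring
      exact Nat.eq_of_mul_eq_mul_right (Nat.pos_of_ne_zero hidxN0) this
    have h3 : (Nat.card (Subgroup.centralizer ({l} : Set G)) * t).factorization p =
        (Nat.card (Subgroup.centralizer ({(⟨l, hlN⟩ : N)} : Set N)) * N.index).factorization p := by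
      rw [b1]
    rw [Nat.factorization_mul hC0 ht0, Nat.factorization_mul hcn0 hNi0, Finsupp.add_apply,
      Finsupp.add_apply, Nat.factorization_eq_zero_of_not_dvd hpt, add_zero] at h3
    exact h3

end Cfsg.Agent.Helper6
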