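import Mathlib
import Cfsg.Prelude.Def_Characters
import Cfsg.Prelude.Def_Blocks
import Cfsg.Agent.Helper6.StructConst
import Cfsg.Agent.Helper6.Regular
import Cfsg.Agent.Helper6.CharBasic
import Cfsg.Agent.Helper6.IrrDegree

/-!
# Robinson's rank formula (S4443), part C: the counting formula
-/

set_option autoImplicit false
set_option linter.style.haveILetI false
set_option linter.unusedSimpArgs false

namespace Cfsg.Agent.Helper6.Rob

open Cfsg.Agent.Helper6
open scoped ComplexConjugate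

universe u

variable {G : Type u} [Group G]

/-- inversion maps the class of `a` onto the class of `a⁻¹` -/
theorem sum_classFinset_inv [Fintype G] (a : G) (f : G → ℂ) :
    ∑ y ∈ classFinset a, f y⁻¹ = ∑ y ∈ classFinset a⁻¹, f y := by
  apply Finset.sum_nbij' (fun y => y⁻¹) (fun y => y⁻¹)
  · intro y hy
    rw [mem_classFinset] at hy ⊢
    obtain ⟨c, hc⟩ := isConj_iff.mp hy
    exact isConj_iff.mpr ⟨c, by rw [← hc]; group⟩
  · intro y hy
    rw [mem_classFinset] at hy ⊢
    obtain ⟨c, hc⟩ := isConj_iff.mp hy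
    exact isConj_iff.mpr ⟨c, by rw [← hc]; group⟩
  · intro y _
    exact inv_inv y
  · intro y _
    exact inv_inv y
  · intro y _
    rfl

/-- the number of pairs as a sum of indicator values -/
theorem card_pairs_eq_sum [Fintype G] [DecidableEq G] (S : Subgroup G) [Fintype S] (a b : G) :
    ((Nat.card {yz : G × G // yz.1 ∈ (ConjClasses.mk a).carrier ∧
        yz.2 ∈ (ConjClasses.mk b).carrier ∧ yz.2 * yz.1⁻¹ ∈ S} : ℕ) : ℂ) =
      ∑ s : S, ∑ z ∈ classFinset b, ∑ y ∈ classFinset a⁻¹,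
        (if z * y = (s : G) then (1 : ℂ) else 0) := by
  classical
  rw [Nat.card_eq_fintype_card, Fintype.card_subtype, Finset.card_filter, Nat.cast_sum,
    Fintype.sum_prod_type]
  -- the inner indicator
  have h1 : ∀ y z : G, (((if (y ∈ (ConjClasses.mk a).carrier ∧ z ∈ (ConjClasses.mk b).carrier ∧
      z * y⁻¹ ∈ S) then 1 else 0 : ℕ)) : ℂ) =
      (if y ∈ classFinset a then (if z ∈ classFinset b then
        ∑ s : S, (if z * y⁻¹ = (s : G) then (1 : ℂ) else 0) else 0) else 0) := by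
    intro y z
    have hy : y ∈ (ConjClasses.mk a).carrier ↔ y ∈ classFinset a := by
      rw [ConjClasses.mem_carrier_iff_mk_eq, ConjClasses.mk_eq_mk_iff_isConj, mem_classFinset]
      exact ⟨fun h => h.symm, fun h => h.symm⟩
    have hz : z ∈ (ConjClasses.mk b).carrier ↔ z ∈ classFinset b := by
      rw [ConjClasses.mem_carrier_iff_mk_eq, ConjClasses.mk_eq_mk_iff_isConj, mem_classFinset]
      exact ⟨fun h => h.symm, fun h => h.symm⟩
    have hs : ∑ s : S, (if z * y⁻¹ = (s : G) then (1 : ℂ) else 0) =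
        if z * y⁻¹ ∈ S then 1 else 0 := by
      by_cases hmem : z * y⁻¹ ∈ S
      · rw [if_pos hmem]
        rw [Finset.sum_eq_single (⟨z * y⁻¹, hmem⟩ : S)]
        · rw [if_pos rfl]
        · intro s _ hne
          rw [if_neg]
          intro h
          apply hne
          exact Subtype.ext h.symm
        · intro h
          exact absurd (Finset.mem_univ _) h
      · rw [if_neg hmem]
        apply Finset.sum_eq_zero
        intro s _
        rw [if_neg]
        intro h
        apply hmem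
        rw [h]
        exact s.2
    rw [hs]
    by_cases h1 : y ∈ classFinset a
    · by_cases h2 : z ∈ classFinset b
      · by_cases h3 : z * y⁻¹ ∈ S
        · rw [if_pos ⟨hy.mpr h1, hz.mpr h2, h3⟩, if_pos h1, if_pos h2, if_pos h3, Nat.cast_one]
        · rw [if_neg (fun h => h3 h.2.2), if_pos h1, if_pos h2, if_neg h3, Nat.cast_zero]
      · rw [if_neg (fun h => h2 (hz.mp h.2.1)), if_pos h1, if_neg h2, Nat.cast_zero]
    · rw [if_neg (fun h => h1 (hy.mp h.1)), if_neg h1, Nat.cast_zero]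
  dsimp only
  simp_rw [h1]
  have h3 : ∀ y : G, (∑ z : G, if y ∈ classFinset a then (if z ∈ classFinset b then
      ∑ s : S, (if z * y⁻¹ = (s : G) then (1 : ℂ) else 0) else 0) else 0) =
      if y ∈ classFinset a then ∑ z ∈ classFinset b, ∑ s : S,
        (if z * y⁻¹ = (s : G) then (1 : ℂ) else 0) else 0 := by
    intro y
    split_ifs with hy
    · rw [Finset.sum_ite_mem, Finset.univ_inter]
    · exact Finset.sum_const_zero
  simp_rw [h3]
  rw [Finset.sum_ite_mem, Finset.univ_inter]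
  rw [sum_classFinset_inv a (fun y => ∑ z ∈ classFinset b, ∑ s : S,
    (if z * y = (s : G) then (1 : ℂ) else 0))]
  rw [Finset.sum_comm]
  simp_rw [Finset.sum_comm (s := classFinset a⁻¹) (t := (Finset.univ : Finset S))]
  rw [Finset.sum_comm]

/-- class multiplication coefficients through central characters -/
theorem class_mult_count' [Fintype G] [Fintype (Cfsg.IrrCharacter G)] [DecidableEq G]
    (a b c : G) :
    ∑ x ∈ classFinset a, ∑ y ∈ classFinset b, (if x * y = c then (1 : ℂ) else 0) =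
      (Nat.card G : ℂ)⁻¹ * ∑ χ : Cfsg.IrrCharacter G, (χ : G → ℂ) 1 *
        (Cfsg.centralChar (χ : G → ℂ) a * Cfsg.centralChar (χ : G → ℂ) b *
          conj ((χ : G → ℂ) c)) := by
  have hG0 : (Nat.card G : ℂ) ≠ 0 := by
    have : 0 < Nat.card G := Nat.card_pos
    exact_mod_cast this.ne'
  have hind : ∀ x y : G, (if x * y = c then (1 : ℂ) else 0) =
      (Nat.card G : ℂ)⁻¹ * ∑ χ : Cfsg.IrrCharacter G,
        (χ : G → ℂ) 1 * (χ : G → ℂ) (x * y * c⁻¹) := by
    intro x y
    rw [sum_degree_mul_irr]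
    have hiff : x * y * c⁻¹ = 1 ↔ x * y = c := mul_inv_eq_one
    by_cases h : x * y = c
    · rw [if_pos h, if_pos (hiff.mpr h), inv_mul_cancel₀ hG0]
    · rw [if_neg h, if_neg (fun h' => h (hiff.mp h')), mul_zero]
  simp_rw [hind, ← Finset.mul_sum]
  congr 1
  have hswap : ∑ x ∈ classFinset a, ∑ y ∈ classFinset b, ∑ χ : Cfsg.IrrCharacter G,
      (χ : G → ℂ) 1 * (χ : G → ℂ) (x * y * c⁻¹) =
      ∑ χ : Cfsg.IrrCharacter G, ∑ x ∈ classFinset a, ∑ y ∈ classFinset b,
        (χ : G → ℂ) 1 * (χ : G → ℂ) (x * y * c⁻¹) := by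
    calc _ = ∑ x ∈ classFinset a, ∑ χ : Cfsg.IrrCharacter G, ∑ y ∈ classFinset b,
          (χ : G → ℂ) 1 * (χ : G → ℂ) (x * y * c⁻¹) :=
          Finset.sum_congr rfl (fun x _ => Finset.sum_comm)
      _ = _ := Finset.sum_comm
  rw [hswap]
  apply Finset.sum_congr rfl
  intro χ _
  simp_rw [← Finset.mul_sum]
  congr 1
  have hcf : Cfsg.IsClassFunction G (χ : G → ℂ) :=
    IsCharacter.isClassFunction (IsIrrCharacter.isCharacter χ.2)
  have h1 : ∀ x : G, ∑ y ∈ classFinset b, (χ : G → ℂ) (x * y * c⁻¹) =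
      Cfsg.centralChar (χ : G → ℂ) b * (χ : G → ℂ) (x * c⁻¹) := by
    intro x
    have h2 : ∀ y : G, (χ : G → ℂ) (x * y * c⁻¹) = (χ : G → ℂ) (y * (c⁻¹ * x)) := by
      intro y
      have := hcf (y * (c⁻¹ * x)) x
      rw [← this]
      congr 1
      group
    simp_rw [h2]
    rw [sum_classFinset_char_mul]
    congr 1
    have := hcf (c⁻¹ * x) x
    rw [← this]
    congr 1
    group
  simp_rw [h1, ← Finset.mul_sum]
  rw [sum_classFinset_char_mul, IsCharacter.inv_eq_conj (IsIrrCharacter.isCharacter χ.2) c]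
  ring

/-- **the counting formula** -/
theorem card_pairs_mul_card_centralizer [Fintype G] [Fintype (Cfsg.IrrCharacter G)]
    [DecidableEq G] (S : Subgroup G) [Fintype S] (a b : G) :
    ((Nat.card {yz : G × G // yz.1 ∈ (ConjClasses.mk a).carrier ∧
        yz.2 ∈ (ConjClasses.mk b).carrier ∧ yz.2 * yz.1⁻¹ ∈ S} : ℕ) : ℂ) *
        (Nat.card (Subgroup.centralizer ({a} : Set G)) : ℂ) =
      ∑ χ : Cfsg.IrrCharacter G, Cfsg.centralChar (χ : G → ℂ) b * conj ((χ : G → ℂ) a) *
        ∑ s : S, conj ((χ : G → ℂ) (s : G)) := by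
  classical
  rw [card_pairs_eq_sum]
  simp_rw [class_mult_count' b a⁻¹]
  have hG0 : (Nat.card G : ℂ) ≠ 0 := by
    have : 0 < Nat.card G := Nat.card_pos
    exact_mod_cast this.ne'
  have hC0 : (Nat.card (Subgroup.centralizer ({a} : Set G)) : ℂ) ≠ 0 := by
    have : 0 < Nat.card (Subgroup.centralizer ({a} : Set G)) := Nat.card_pos
    exact_mod_cast this.ne'
  have hcen : Subgroup.centralizer ({a⁻¹} : Set G) = Subgroup.centralizer ({a} : Set G) := by
    ext x
    simp only [Subgroup.mem_centralizer_iff, Set.mem_singleton_iff, forall_eq]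
    constructor
    · intro h
      have h' : x * a⁻¹ = a⁻¹ * x := h.symm
      calc a * x = a * (x * a⁻¹) * a := by group
        _ = a * (a⁻¹ * x) * a := by rw [h']
        _ = x * a := by group
    · intro h
      have h' : x * a = a * x := h.symm
      calc a⁻¹ * x = a⁻¹ * (x * a) * a⁻¹ := by group
        _ = a⁻¹ * (a * x) * a⁻¹ := by rw [h']
        _ = x * a⁻¹ := by group
  have hidx : ((Subgroup.centralizer ({a} : Set G)).index : ℂ) *
      (Nat.card (Subgroup.centralizer ({a} : Set G)) : ℂ) = (Nat.card G : ℂ) := by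
    rw [← Nat.cast_mul, Subgroup.index_mul_card]
  rw [← Finset.mul_sum, Finset.sum_comm, mul_assoc, Finset.sum_mul, Finset.mul_sum]
  apply Finset.sum_congr rfl
  intro χ _
  have hχ1 : (χ : G → ℂ) 1 ≠ 0 := IsIrrCharacter.apply_one_ne_zero χ.2
  have hinv : (χ : G → ℂ) a⁻¹ = conj ((χ : G → ℂ) a) :=
    IsCharacter.inv_eq_conj (IsIrrCharacter.isCharacter χ.2) a
  have hcc : (χ : G → ℂ) 1 * Cfsg.centralChar (χ : G → ℂ) a⁻¹ =
      ((Subgroup.centralizer ({a} : Set G)).index : ℂ) * conj ((χ : G → ℂ) a) := by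
    unfold Cfsg.centralChar
    rw [hcen, hinv]
    field_simp
  rw [Finset.sum_mul, Finset.mul_sum, Finset.mul_sum]
  apply Finset.sum_congr rfl
  intro s _
  have hi0 : ((Subgroup.centralizer ({a} : Set G)).index : ℂ) ≠ 0 := by
    intro h0
    rw [h0, zero_mul] at hidx
    exact hG0 hidx.symm
  calc (Nat.card G : ℂ)⁻¹ * ((χ : G → ℂ) 1 * (Cfsg.centralChar (χ : G → ℂ) b *
        Cfsg.centralChar (χ : G → ℂ) a⁻¹ * conj ((χ : G → ℂ) (s : G))) *
        (Nat.card (Subgroup.centralizer ({a} : Set G)) : ℂ))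
      = (Nat.card G : ℂ)⁻¹ * (((χ : G → ℂ) 1 * Cfsg.centralChar (χ : G → ℂ) a⁻¹) *
        (Nat.card (Subgroup.centralizer ({a} : Set G)) : ℂ)) *
        (Cfsg.centralChar (χ : G → ℂ) b * conj ((χ : G → ℂ) (s : G))) := by ring
    _ = (Nat.card G : ℂ)⁻¹ * ((Nat.card G : ℂ) * conj ((χ : G → ℂ) a)) *
        (Cfsg.centralChar (χ : G → ℂ) b * conj ((χ : G → ℂ) (s : G))) := by
        rw [hcc, ← hidx]; ring
    _ = _ := by
        field_simp

end Cfsg.Agent.Helper6.Rob
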