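import Mathlib
import Cfsg.Prelude.Def_Characters
import Cfsg.Prelude.Def_Blocks
import Cfsg.Agent.Helper6.MinMax2
import Cfsg.Agent.Helper6.WeakOrth
import Cfsg.Agent.Helper6.DefectOrder
import Cfsg.Agent.Helper6.RobC
import Cfsg.Agent.Helper6.InducedPart
import Cfsg.Agent.Helper6.RepEigen

/-!
# The block idempotent times a class sum (for Green's theorem on defect groups)
-/

set_option autoImplicit false
set_option linter.style.haveILetI false
set_option linter.unusedSectionVars false

namespace Cfsg.Agent.Helper6.Green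

open scoped ComplexConjugate

universe u

variable {G : Type u} [Group G] {M : Ideal Cfsg.AlgInt}

/-- the coefficient function of the block idempotent times the class sum of `k` -/
noncomputable def greenZ [Fintype G] (B : Set (Cfsg.IrrCharacter G)) (k g : G) : ℂ :=
  ∑ x ∈ classFinset k, Cfsg.blockCoeff B (g * x⁻¹)

open Classical in
theorem greenZ_eq [Fintype G] [Fintype (Cfsg.IrrCharacter G)] (B : Set (Cfsg.IrrCharacter G))
    (k g : G) :
    greenZ B k g = (Nat.card G : ℂ)⁻¹ * ((Subgroup.centralizer ({k} : Set G)).index : ℂ) *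
      ∑ χ : Cfsg.IrrCharacter G,
        if χ ∈ B then (χ : G → ℂ) k * conj ((χ : G → ℂ) g) else 0 := by
  unfold greenZ
  simp_rw [blockCoeff_eq_idemCoeff]
  rw [← idemCoeff_centralChar_mul]
  unfold idemCoeff
  rw [mul_assoc]
  congr 1
  rw [Finset.mul_sum]
  apply Finset.sum_congr rfl
  intro χ _
  have h1 : (χ : G → ℂ) 1 ≠ 0 := IsIrrCharacter.apply_one_ne_zero χ.2
  rw [Pi.mul_apply]
  by_cases hχ : χ ∈ B
  · rw [if_pos hχ, if_pos hχ]
    unfold Cfsg.centralChar
    field_simp
  · rw [if_neg hχ, if_neg hχ]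
    ring

theorem greenZ_isClassFunction [Fintype G] (B : Set (Cfsg.IrrCharacter G)) (k : G) :
    Cfsg.IsClassFunction G (greenZ B k) := by
  classical
  haveI : Finite (Cfsg.IrrCharacter G) := irr_finite
  haveI : Fintype (Cfsg.IrrCharacter G) := Fintype.ofFinite _
  intro g h
  rw [greenZ_eq, greenZ_eq]
  congr 1
  apply Finset.sum_congr rfl
  intro χ _
  rw [IsCharacter.isClassFunction (IsIrrCharacter.isCharacter χ.2) g h]

theorem greenZ_memLocalRing [Fintype G] (hM : M.IsMaximal) (B : Set (Cfsg.IrrCharacter G))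
    (hB : Cfsg.IsPBlock M B) (k g : G) : Cfsg.MemLocalRing M (greenZ B k g) := by
  unfold greenZ
  apply MemLocalRing.sum hM
  intro x _
  exact osima hM B hB _

theorem greenZ_one [Fintype G] (B : Set (Cfsg.IrrCharacter G)) (k : G) :
    greenZ B k 1 = ((Subgroup.centralizer ({k⁻¹} : Set G)).index : ℂ) *
      Cfsg.blockCoeff B k⁻¹ := by
  unfold greenZ
  simp_rw [one_mul]
  rw [Rob.sum_classFinset_inv k (Cfsg.blockCoeff B),
    sum_classFinset_classFunction _ (blockCoeff_isClassFunction B)]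

theorem greenZ_eq_zero_of_singular [Fintype G] (hM : M.IsMaximal) (p : ℕ) [hp : Fact p.Prime]
    (hpM : (p : Cfsg.AlgInt) ∈ M) (B : Set (Cfsg.IrrCharacter G)) (hB : Cfsg.IsPBlock M B)
    (k g : G) (hk : ¬ p ∣ orderOf k) (hg : p ∣ orderOf g) : greenZ B k g = 0 := by
  classical
  haveI : Finite (Cfsg.IrrCharacter G) := irr_finite
  haveI : Fintype (Cfsg.IrrCharacter G) := Fintype.ofFinite _
  rw [greenZ_eq]
  have h := weak_block_orthogonality hM p hpM B hB k g hk hg
  rw [finsum_mem_eq_sum_ite] at h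
  rw [h, mul_zero]

/-- convolution with the block idempotent fixes `greenZ` -/
theorem greenZ_conv [Fintype G] (B : Set (Cfsg.IrrCharacter G)) (k g : G) :
    ∑ w : G, greenZ B k w * Cfsg.blockCoeff B (w⁻¹ * g) = greenZ B k g := by
  classical
  unfold greenZ
  simp_rw [Finset.sum_mul]
  rw [Finset.sum_comm]
  apply Finset.sum_congr rfl
  intro x _
  have hcf := blockCoeff_isClassFunction B
  rw [← blockCoeff_convolution B (g * x⁻¹)]
  apply Finset.sum_nbij' (fun w => w * x⁻¹) (fun y => y * x)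
  · intro w _; exact Finset.mem_univ _
  · intro y _; exact Finset.mem_univ _
  · intro w _; group
  · intro y _; group
  · intro w _
    congr 1
    have : (w * x⁻¹)⁻¹ * (g * x⁻¹) = x * (w⁻¹ * g) * x⁻¹ := by group
    rw [this, hcf]

/-- the divisibility of `greenZ` by the order of a centralizing `p`-subgroup -/
theorem card_mul_greenZ_eq [Fintype G] (hM : M.IsMaximal) (p : ℕ) [hp : Fact p.Prime]
    (hpM : (p : Cfsg.AlgInt) ∈ M) (B : Set (Cfsg.IrrCharacter G)) (hB : Cfsg.IsPBlock M B)
    (k g : G) (hk : ¬ p ∣ orderOf k) (hg : ¬ p ∣ orderOf g) (Q : Subgroup G)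
    (hQ : IsPGroup p Q) (hcomm : ∀ q ∈ Q, g * q = q * g) :
    ∃ β : ℂ, IsIntegral ℤ β ∧
      (Nat.card (Subgroup.centralizer ({k} : Set G)) : ℂ) * greenZ B k g =
        (Nat.card Q : ℂ) * β := by
  classical
  haveI : Finite (Cfsg.IrrCharacter G) := irr_finite
  haveI : Fintype (Cfsg.IrrCharacter G) := Fintype.ofFinite _
  haveI : Fintype Q := Fintype.ofFinite _
  have hG0 : (Nat.card G : ℂ) ≠ 0 := by
    have : 0 < Nat.card G := Nat.card_pos
    exact_mod_cast this.ne'
  have hsum : ∑ q : Q, greenZ B k (g * q) = greenZ B k g := by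
    rw [Finset.sum_eq_single (1 : Q)]
    · simp
    · intro q _ hq
      apply greenZ_eq_zero_of_singular hM p hpM B hB k _ hk
      apply dvd_orderOf_mul_of_pgroup p g q hg
      · obtain ⟨n, hn⟩ := (IsPGroup.iff_orderOf.mp hQ) q
        exact ⟨n, by rw [Subgroup.orderOf_coe, hn]⟩
      · intro h1
        exact hq (Subtype.ext h1)
      · exact hcomm q q.2
    · intro h1
      exact absurd (Finset.mem_univ _) h1
  have hdata : ∀ χ : Cfsg.IrrCharacter G, ∃ β : ℂ, IsIntegral ℤ β ∧
      ∑ q : Q, (χ : G → ℂ) k * conj ((χ : G → ℂ) (g * q)) = (Nat.card Q : ℂ) * β := by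
    intro χ
    obtain ⟨n, ρ, hirr, hρ⟩ := χ.2
    obtain ⟨β, hβ, hβeq⟩ := isIntegral_avg_char_mul ρ Q g hcomm
    refine ⟨(χ : G → ℂ) k * conj β, ?_, ?_⟩
    · apply IsIntegral.mul
      · rw [← hρ]
        exact isIntegral_char ρ k
      · exact hβ.map (Complex.conjAe.toAlgHom.restrictScalars ℤ)
    · rw [← Finset.mul_sum, ← map_sum, ← hρ, hβeq, hρ]
      simp only [map_mul, map_natCast]
      ring
  choose β hβ hβeq using hdata
  refine ⟨∑ χ : Cfsg.IrrCharacter G, if χ ∈ B then β χ else 0, ?_, ?_⟩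
  · apply IsIntegral.sum
    intro χ _
    split_ifs
    · exact hβ χ
    · exact isIntegral_zero
  · rw [← hsum]
    simp_rw [greenZ_eq]
    rw [← Finset.mul_sum, Finset.sum_comm]
    have hidx : (Nat.card (Subgroup.centralizer ({k} : Set G)) : ℂ) *
        ((Nat.card G : ℂ)⁻¹ * ((Subgroup.centralizer ({k} : Set G)).index : ℂ)) = 1 := by
      have := Subgroup.card_mul_index (Subgroup.centralizer ({k} : Set G))
      have h2 : (Nat.card G : ℂ) = (Nat.card (Subgroup.centralizer ({k} : Set G)) : ℂ) *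
          ((Subgroup.centralizer ({k} : Set G)).index : ℂ) := by
        rw [← this]
        push_cast
        rfl
      rw [h2] at hG0 ⊢
      have hc0 := left_ne_zero_of_mul hG0
      have hi0 := right_ne_zero_of_mul hG0
      field_simp
    rw [← mul_assoc, hidx, one_mul, Finset.mul_sum]
    apply Finset.sum_congr rfl
    intro χ _
    by_cases hχ : χ ∈ B
    · simp only [if_pos hχ]
      exact hβeq χ
    · simp only [if_neg hχ, Finset.sum_const_zero, mul_zero]

end Cfsg.Agent.Helper6.Green
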