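import Mathlib

/-!
# Sums of invariant complex functions over orbits (for Green's theorem on defect groups)
-/

set_option autoImplicit false
set_option linter.style.haveILetI false
set_option linter.unusedSectionVars false

namespace Cfsg.Agent.Helper6.Green

open MulAction

/-- the sum of an invariant complex function is the sum over orbit representatives weighted by
the orbit sizes -/
theorem sum_eq_sum_orbits_complex {α X : Type*} [Group α] [MulAction α X] [Fintype X]
    [Fintype (orbitRel.Quotient α X)] (f : X → ℂ) (hf : ∀ (a : α) (x : X), f (a • x) = f x) :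
    ∑ x, f x = ∑ ω : orbitRel.Quotient α X, ((stabilizer α ω.out).index : ℂ) * f ω.out := by
  classical
  rw [← Finset.sum_fiberwise (s := Finset.univ)
    (g := fun x => (Quotient.mk'' x : orbitRel.Quotient α X)) (f := f)]
  apply Finset.sum_congr rfl
  intro ω _
  have hmem : ∀ x : X, (Quotient.mk'' x : orbitRel.Quotient α X) = ω ↔ x ∈ orbit α ω.out := by
    intro x
    rw [← orbitRel.Quotient.orbit_eq_orbit_out ω Quotient.out_eq', orbitRel.Quotient.mem_orbit]
  have h1 : ∀ x ∈ Finset.univ.filter
      (fun x => (Quotient.mk'' x : orbitRel.Quotient α X) = ω), f x = f ω.out := by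
    intro x hx
    rw [Finset.mem_filter] at hx
    obtain ⟨a, ha⟩ := mem_orbit_iff.mp ((hmem x).mp hx.2)
    rw [← ha, hf]
  rw [Finset.sum_congr rfl h1, Finset.sum_const, nsmul_eq_mul]
  congr 2
  rw [index_stabilizer, Set.ncard_eq_toFinset_card']
  congr 1
  ext x
  simp only [Finset.mem_filter, Finset.mem_univ, true_and, Set.mem_toFinset]
  exact hmem x

/-- a sum of an invariant function lies in an additive set as soon as the orbit sums do -/
theorem sum_mem_of_orbits {α X : Type*} [Group α] [MulAction α X] [Fintype X]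
    (f : X → ℂ) (hf : ∀ (a : α) (x : X), f (a • x) = f x) (I : ℂ → Prop) (h0 : I 0)
    (hadd : ∀ a b, I a → I b → I (a + b))
    (hI : ∀ x : X, I (((stabilizer α x).index : ℂ) * f x)) : I (∑ x, f x) := by
  classical
  haveI : Fintype (orbitRel.Quotient α X) := Fintype.ofFinite _
  rw [sum_eq_sum_orbits_complex f hf]
  apply Finset.sum_induction _ I hadd h0
  intro ω _
  exact hI _

variable {G : Type*} [Group G]

theorem mem_map_conj (P : Subgroup G) (g y : G) :
    y ∈ P.map (MulAut.conj g).toMonoidHom ↔ g⁻¹ * y * g ∈ P := by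
  rw [Subgroup.mem_map]
  constructor
  · rintro ⟨u, hu, rfl⟩
    simpa [mul_assoc] using hu
  · intro h
    exact ⟨g⁻¹ * y * g, h, by simp [mul_assoc]⟩

/-- sums over the group of a function invariant under conjugation by a subgroup -/
theorem conj_orbit_sum_mem [Fintype G] (S : Subgroup G) (F : G → ℂ)
    (hF : ∀ s ∈ S, ∀ x, F (s * x * s⁻¹) = F x) (I : ℂ → Prop) (h0 : I 0)
    (hadd : ∀ a b, I a → I b → I (a + b))
    (hI : ∀ x : G, ∀ n : ℕ,
      n * Nat.card (S ⊓ Subgroup.centralizer ({x} : Set G) : Subgroup G) = Nat.card S →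
        I ((n : ℂ) * F x)) :
    I (∑ x, F x) := by
  classical
  letI act : MulAction S G :=
    MulAction.compHom G ((ConjAct.toConjAct (G := G)).toMonoidHom.comp S.subtype)
  have hsmul : ∀ (s : S) (x : G), s • x = (s : G) * x * (s : G)⁻¹ := fun s x => rfl
  apply sum_mem_of_orbits (α := S) F (fun s x => by rw [hsmul]; exact hF s s.2 x) I h0 hadd
  intro x
  apply hI
  have h1 := Subgroup.card_mul_index (stabilizer S x)
  have h2 : (stabilizer S x).map S.subtype =
      S ⊓ Subgroup.centralizer ({x} : Set G) := by
    ext y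
    rw [Subgroup.mem_map, Subgroup.mem_inf, Subgroup.mem_centralizer_iff]
    constructor
    · rintro ⟨s, hs, rfl⟩
      refine ⟨s.2, ?_⟩
      intro z hz
      rw [Set.mem_singleton_iff] at hz
      subst hz
      rw [mem_stabilizer_iff, hsmul] at hs
      have : (s : G) * z = z * (s : G) := by
        calc (s : G) * z = (s : G) * z * (s : G)⁻¹ * (s : G) := by group
          _ = z * (s : G) := by rw [hs]
      exact this.symm
    · rintro ⟨hyS, hy⟩
      refine ⟨⟨y, hyS⟩, ?_, rfl⟩
      rw [mem_stabilizer_iff, hsmul]
      have := hy x (Set.mem_singleton x)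
      show y * x * y⁻¹ = x
      rw [← this]
      group
  rw [← h2, Subgroup.card_subtype, mul_comm]
  exact h1

end Cfsg.Agent.Helper6.Green
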