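import Mathlib
import Cfsg.Prelude.Def_Characters
import Cfsg.Prelude.Def_Blocks
import Cfsg.Agent.Helper6.GreenA
import Cfsg.Agent.Helper6.Osima1
import Cfsg.Agent.Helper6.BlockBasic
import Cfsg.Agent.Helper6.BlockUnion
import Cfsg.Agent.Helper6.InducedPart

/-!
# The valuation argument for Green's theorem on defect groups
-/

set_option autoImplicit false
set_option linter.style.haveILetI false
set_option linter.unusedSectionVars false

namespace Cfsg.Agent.Helper6.Green

open scoped ComplexConjugate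

universe u

variable {G : Type u} [Group G] {M : Ideal Cfsg.AlgInt}

/-- a local class function whose values are divisible by `|Q| / p ^ d` for every `p`-subgroup
`Q` of the centralizer -/
structure GoodFun (M : Ideal Cfsg.AlgInt) (p d : ℕ) (f : G → ℂ) : Prop where
  cf : Cfsg.IsClassFunction G f
  loc : ∀ y : G, Cfsg.MemLocalRing M (f y)
  div : ∀ (y : G) (Q : Subgroup G), IsPGroup p Q → (∀ q ∈ Q, y * q = q * y) →
    Cfsg.MemLocalRing M ((p : ℂ) ^ d * f y / (Nat.card Q : ℂ))

theorem memLocalIdeal_prime_pow {p : ℕ} [hp : Fact p.Prime] (hM : Cfsg.IsPModular p M) (j : ℕ)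
    (hj : 0 < j) : Cfsg.MemLocalIdeal M ((p : ℂ) ^ j) := by
  obtain ⟨i, rfl⟩ : ∃ i, j = i + 1 := ⟨j - 1, by omega⟩
  rw [pow_succ]
  apply MemLocalIdeal.mul_left hM.2.1 _ (memLocalIdeal_prime hM)
  have := memLocalRing_natCast (M := M) hM.2.1 (p ^ i)
  simpa using this

theorem sum_subgroup_eq_sum_ite [Fintype G] (P : Subgroup G) [Fintype P] (φ : G → ℂ)
    [DecidablePred (· ∈ P)] :
    ∑ v : P, φ v = ∑ u : G, if u ∈ P then φ u else 0 := by
  rw [← Finset.sum_filter, Finset.sum_subtype (Finset.univ.filter (· ∈ P)) (p := (· ∈ P))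
    (fun x => by simp)]

/-- the sum of a good function over a coset of a `p`-subgroup -/
theorem coset_sum_bound [Fintype G] {p : ℕ} [hp : Fact p.Prime] (hM : Cfsg.IsPModular p M)
    (d : ℕ) (f : G → ℂ) (hf : GoodFun M p d f) (P : Subgroup G) (hP : IsPGroup p P)
    [Fintype P] (g : G) :
    Cfsg.MemLocalRing M ((p : ℂ) ^ d * (∑ v : P, f (g * v)) /
      (Nat.card (P ⊓ P.map (MulAut.conj g).toMonoidHom : Subgroup G) : ℂ)) := by
  classical
  set R : Subgroup G := P ⊓ P.map (MulAut.conj g).toMonoidHom with hR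
  have hRp : IsPGroup p R := hP.to_le inf_le_left
  have hR0 : (Nat.card R : ℂ) ≠ 0 := by
    have : 0 < Nat.card R := Nat.card_pos
    exact_mod_cast this.ne'
  set F : G → ℂ := fun y => if g⁻¹ * y ∈ P then f y else 0 with hF
  have hsum : ∑ y, F y = ∑ v : P, f (g * v) := by
    rw [sum_subgroup_eq_sum_ite P (fun u => f (g * u))]
    apply Fintype.sum_equiv (Equiv.mulLeft g⁻¹)
    intro y
    simp only [hF, Equiv.coe_mulLeft]
    rw [mul_inv_cancel_left]
    by_cases h : g⁻¹ * y ∈ P
    · simp [h]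
    · simp [h]
  rw [← hsum]
  apply conj_orbit_sum_mem R F _
    (fun t => Cfsg.MemLocalRing M ((p : ℂ) ^ d * t / (Nat.card R : ℂ)))
  · simp only [mul_zero, zero_div]
    exact memLocalRing_zero hM.2.1
  · intro a b ha hb
    have : (p : ℂ) ^ d * (a + b) / (Nat.card R : ℂ) =
        (p : ℂ) ^ d * a / (Nat.card R : ℂ) + (p : ℂ) ^ d * b / (Nat.card R : ℂ) := by ring
    rw [this]
    exact MemLocalRing.add hM.2.1 ha hb
  · intro y n hn
    have hQ0 : (Nat.card (R ⊓ Subgroup.centralizer ({y} : Set G) : Subgroup G) : ℂ) ≠ 0 := by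
      have : 0 < Nat.card (R ⊓ Subgroup.centralizer ({y} : Set G) : Subgroup G) := Nat.card_pos
      exact_mod_cast this.ne'
    have hn0 : (n : ℂ) ≠ 0 := by
      intro h0
      have : n = 0 := by exact_mod_cast h0
      rw [this, zero_mul] at hn
      exact (Nat.card_pos (α := R)).ne' hn.symm
    by_cases hy : g⁻¹ * y ∈ P
    · have h1 : (p : ℂ) ^ d * ((n : ℂ) * F y) / (Nat.card R : ℂ) = (p : ℂ) ^ d * f y /
          (Nat.card (R ⊓ Subgroup.centralizer ({y} : Set G) : Subgroup G) : ℂ) := by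
        simp only [hF, if_pos hy]
        rw [← hn]
        push_cast
        field_simp
      rw [h1]
      apply hf.div y _ (hRp.to_le inf_le_left)
      intro q hq
      exact (Subgroup.mem_centralizer_iff.mp hq.2) y (Set.mem_singleton y)
    · simp only [hF, if_neg hy, mul_zero, zero_div]
      exact memLocalRing_zero hM.2.1
  · intro s hs y
    simp only [hF]
    have hiff : g⁻¹ * (s * y * s⁻¹) ∈ P ↔ g⁻¹ * y ∈ P := by
      have hs1 : s ∈ P := hs.1
      have hs2 : g⁻¹ * s * g ∈ P := (mem_map_conj P g s).mp hs.2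
      have : g⁻¹ * (s * y * s⁻¹) = (g⁻¹ * s * g) * (g⁻¹ * y) * s⁻¹ := by group
      rw [this]
      constructor
      · intro h
        have h2 := P.mul_mem (P.mul_mem (P.inv_mem hs2) h) hs1
        have h3 : (g⁻¹ * s * g)⁻¹ * ((g⁻¹ * s * g) * (g⁻¹ * y) * s⁻¹) * s = g⁻¹ * y := by group
        rwa [h3] at h2
      · intro h
        exact P.mul_mem (P.mul_mem hs2 h) (P.inv_mem hs1)
    by_cases hy : g⁻¹ * y ∈ P
    · rw [if_pos hy, if_pos (hiff.mpr hy), hf.cf]
    · rw [if_neg hy, if_neg (fun h => hy (hiff.mp h))]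

end Cfsg.Agent.Helper6.Green
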