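import Mathlib
import Cfsg.Prelude.Def_Characters
import Cfsg.Prelude.Def_Blocks
import Cfsg.Agent.Helper6.GreenC

/-!
# The main valuation estimate for Green's theorem on defect groups
-/

set_option autoImplicit false
set_option linter.style.haveILetI false
set_option linter.unusedSectionVars false

namespace Cfsg.Agent.Helper6.Green

open scoped ComplexConjugate

universe u

variable {G : Type u} [Group G] {M : Ideal Cfsg.AlgInt}

set_option maxHeartbeats 1000000 in
/-- if no element is good, the Hecke sum is divisible by more than `p ^ (a - d)` -/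
theorem main_sum_memLocalIdeal [Fintype G] {p : ℕ} [hp : Fact p.Prime]
    (hM : Cfsg.IsPModular p M) (d a : ℕ) (f₁ f₂ : G → ℂ) (h₁ : GoodFun M p d f₁)
    (h₂ : GoodFun M p d f₂) (hsing : ∀ w : G, p ∣ orderOf w → f₁ w = 0)
    (P : Subgroup G) [Fintype P] (hPcard : Nat.card P = p ^ a)
    (hbad : ∀ w : G, ¬ p ∣ orderOf w →
      (∀ u ∈ P, w * u * w⁻¹ ∈ P → w * u = u * w) →
      (∀ Q : Subgroup G, IsPGroup p Q → (∀ q ∈ Q, w * q = q * w) → Nat.card Q ≤ p ^ d) →
      Nat.card (P ⊓ P.map (MulAut.conj w⁻¹).toMonoidHom : Subgroup G) ≠ p ^ d) :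
    Cfsg.MemLocalIdeal M ((p : ℂ) ^ d / (p : ℂ) ^ a *
      ∑ w : G, f₁ w * ∑ v : P, f₂ (w⁻¹ * v)) := by
  classical
  have hP : IsPGroup p P := IsPGroup.of_card hPcard
  have hp0 : (p : ℂ) ≠ 0 := by exact_mod_cast hp.out.ne_zero
  apply conj_orbit_sum_mem P (fun w => f₁ w * ∑ v : P, f₂ (w⁻¹ * v)) _
    (fun t => Cfsg.MemLocalIdeal M ((p : ℂ) ^ d / (p : ℂ) ^ a * t))
  · simp only [mul_zero]
    exact memLocalIdeal_zero hM.2.1
  · intro x y hx hy
    rw [mul_add]
    exact MemLocalIdeal.add hM.2.1 hx hy
  · intro w n hn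
    set C : Subgroup G := P ⊓ Subgroup.centralizer ({w} : Set G) with hC
    set R : Subgroup G := P ⊓ P.map (MulAut.conj w⁻¹).toMonoidHom with hR
    set E : ℂ := ∑ v : P, f₂ (w⁻¹ * v) with hE
    have hCR : C ≤ R := by
      intro u hu
      refine Subgroup.mem_inf.mpr ⟨hu.1, (mem_map_conj P w⁻¹ u).mpr ?_⟩
      rw [inv_inv]
      have := (Subgroup.mem_centralizer_iff.mp hu.2) w (Set.mem_singleton w)
      rw [this, mul_inv_cancel_right]
      exact hu.1
    have hRp : IsPGroup p R := hP.to_le inf_le_left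
    have hCp : IsPGroup p C := hP.to_le inf_le_left
    obtain ⟨r, hr⟩ := (IsPGroup.iff_card.mp hRp)
    obtain ⟨c, hc⟩ := (IsPGroup.iff_card.mp hCp)
    have hcr : c ≤ r := by
      have := Subgroup.card_dvd_of_le hCR
      rw [hr, hc] at this
      exact (Nat.pow_dvd_pow_iff_le_right hp.out.one_lt).mp this
    have hn' : n * p ^ c = p ^ a := by rw [← hc, ← hPcard]; exact hn
    have hElocR : Cfsg.MemLocalRing M ((p : ℂ) ^ d * E / (Nat.card R : ℂ)) :=
      coset_sum_bound hM d f₂ h₂ P hP w⁻¹
    have hEloc : Cfsg.MemLocalRing M E := by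
      apply MemLocalRing.sum hM.2.1
      intro v _
      exact h₂.loc _
    have hn0 : (n : ℂ) ≠ 0 := by
      intro h0
      have : n = 0 := by exact_mod_cast h0
      rw [this, zero_mul] at hn'
      exact (pow_pos hp.out.pos a).ne hn'
    have hpa : (p : ℂ) ^ a = (n : ℂ) * (p : ℂ) ^ c := by
      rw [← Nat.cast_pow, ← hn']
      push_cast
      rfl
    show Cfsg.MemLocalIdeal M ((p : ℂ) ^ d / (p : ℂ) ^ a * ((n : ℂ) * (f₁ w * E)))
    rcases Nat.lt_or_ge c r with hlt | hge
    · -- the centralizer part is smaller than the intersection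
      have h1 : (p : ℂ) ^ d / (p : ℂ) ^ a * ((n : ℂ) * (f₁ w * E)) =
          (f₁ w * ((p : ℂ) ^ d * E / (Nat.card R : ℂ))) * (p : ℂ) ^ (r - c) := by
        rw [hpa, hr]
        have : r = c + (r - c) := by omega
        conv_lhs => rw [show (p : ℂ) ^ d = (p : ℂ) ^ d from rfl]
        push_cast
        conv_rhs => rw [this, pow_add]
        have hpc : (p : ℂ) ^ c ≠ 0 := pow_ne_zero _ hp0
        have hprc : (p : ℂ) ^ (r - c) ≠ 0 := pow_ne_zero _ hp0
        have : c + (r - c) - c = r - c := by omega
        rw [this]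
        field_simp
      rw [h1]
      exact MemLocalIdeal.mul_left hM.2.1 (MemLocalRing.mul hM.2.1 (h₁.loc w) hElocR)
        (memLocalIdeal_prime_pow hM _ (by omega))
    · have hrc : r = c := le_antisymm hge hcr
      have hRC : R = C := by
        symm
        apply Subgroup.eq_of_le_of_card_ge hCR
        rw [hr, hc, hrc]
      by_cases hf : Cfsg.MemLocalIdeal M (f₁ w)
      · have h1 : (p : ℂ) ^ d / (p : ℂ) ^ a * ((n : ℂ) * (f₁ w * E)) =
            ((p : ℂ) ^ d * E / (Nat.card R : ℂ)) * f₁ w := by
          rw [hpa, hr, hrc]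
          have hpc : (p : ℂ) ^ c ≠ 0 := pow_ne_zero _ hp0
          push_cast
          field_simp
        rw [h1]
        exact MemLocalIdeal.mul_left hM.2.1 hElocR hf
      · have hreg : ¬ p ∣ orderOf w := by
          intro hdiv
          apply hf
          rw [hsing w hdiv]
          exact memLocalIdeal_zero hM.2.1
        have hQ : ∀ Q : Subgroup G, IsPGroup p Q → (∀ q ∈ Q, w * q = q * w) →
            Nat.card Q ≤ p ^ d := by
          intro Q hQp hQc
          by_contra hlt
          push Not at hlt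
          obtain ⟨j, hj⟩ := IsPGroup.iff_card.mp hQp
          rw [hj] at hlt
          have hdj : d < j := (Nat.pow_lt_pow_iff_right hp.out.one_lt).mp hlt
          apply hf
          have h2 := h₁.div w Q hQp hQc
          have h3 : f₁ w = ((p : ℂ) ^ d * f₁ w / (Nat.card Q : ℂ)) * (p : ℂ) ^ (j - d) := by
            rw [hj]
            push_cast
            have : j = d + (j - d) := by omega
            conv_rhs => rw [this, pow_add]
            have hpd : (p : ℂ) ^ d ≠ 0 := pow_ne_zero _ hp0
            have hpjd : (p : ℂ) ^ (j - d) ≠ 0 := pow_ne_zero _ hp0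
            have : d + (j - d) - d = j - d := by omega
            rw [this]
            field_simp
          rw [h3]
          exact MemLocalIdeal.mul_left hM.2.1 h2 (memLocalIdeal_prime_pow hM _ (by omega))
        have hcent : ∀ u ∈ P, w * u * w⁻¹ ∈ P → w * u = u * w := by
          intro u hu hwu
          have huR : u ∈ R := by
            refine Subgroup.mem_inf.mpr ⟨hu, (mem_map_conj P w⁻¹ u).mpr ?_⟩
            rw [inv_inv]
            exact hwu
          rw [hRC] at huR
          exact (Subgroup.mem_centralizer_iff.mp huR.2) w (Set.mem_singleton w)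
        have hne := hbad w hreg hcent hQ
        have hCle : Nat.card C ≤ p ^ d := by
          apply hQ C hCp
          intro q hq
          exact (Subgroup.mem_centralizer_iff.mp hq.2) w (Set.mem_singleton w)
        rw [hc] at hCle
        have hcd : c ≤ d := (Nat.pow_le_pow_iff_right hp.out.one_lt).mp hCle
        have hcd' : c < d := by
          rcases Nat.lt_or_ge c d with h | h
          · exact h
          · exfalso
            apply hne
            show Nat.card R = p ^ d
            rw [hr, hrc, le_antisymm hcd h]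
        have h1 : (p : ℂ) ^ d / (p : ℂ) ^ a * ((n : ℂ) * (f₁ w * E)) =
            (f₁ w * E) * (p : ℂ) ^ (d - c) := by
          rw [hpa]
          have : d = c + (d - c) := by omega
          conv_lhs => rw [this, pow_add]
          have hpc : (p : ℂ) ^ c ≠ 0 := pow_ne_zero _ hp0
          field_simp
        rw [h1]
        exact MemLocalIdeal.mul_left hM.2.1 (MemLocalRing.mul hM.2.1 (h₁.loc w) hEloc)
          (memLocalIdeal_prime_pow hM _ (by omega))
  · intro s hs w
    rw [h₁.cf]
    congr 1
    have hinv : (s * w * s⁻¹)⁻¹ = s * w⁻¹ * s⁻¹ := by group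
    rw [hinv]
    apply Fintype.sum_equiv (MulAut.conj (⟨s, hs⟩ : P)⁻¹).toEquiv
    intro v
    have : w⁻¹ * (((MulAut.conj (⟨s, hs⟩ : P)⁻¹).toEquiv v : P) : G) =
        s⁻¹ * (s * w⁻¹ * s⁻¹ * (v : G)) * s := by
      simp only [MulEquiv.toEquiv_eq_coe, MulEquiv.coe_toEquiv, MulAut.conj_apply, inv_inv,
        Subgroup.coe_mul, Subgroup.coe_inv]
      group
    rw [this]
    have h3 := h₂.cf (s * w⁻¹ * s⁻¹ * (v : G)) s⁻¹
    rw [inv_inv] at h3
    rw [h3]

end Cfsg.Agent.Helper6.Green
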