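import Mathlib
import Cfsg.Prelude.Def_Characters
import Cfsg.Prelude.Def_Blocks
import Cfsg.Agent.Helper6.GreenB
import Cfsg.Agent.Helper6.GreenD
import Cfsg.Agent.Helper6.DefectClassValues
import Cfsg.Agent.Helper6.FongMax

/-!
# Defect groups are Sylow intersections (the existence of a good element)
-/

set_option autoImplicit false
set_option linter.style.haveILetI false
set_option linter.unusedSectionVars false

namespace Cfsg.Agent.Helper6.Green

open scoped ComplexConjugate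

universe u

variable {G : Type u} [Group G] {M : Ideal Cfsg.AlgInt}

theorem centralizer_inv_eq (g : G) :
    Subgroup.centralizer ({g⁻¹} : Set G) = Subgroup.centralizer ({g} : Set G) := by
  ext x
  simp only [Subgroup.mem_centralizer_iff, Set.mem_singleton_iff, forall_eq]
  constructor
  · intro h
    calc g * x = g * (x * g⁻¹) * g := by group
      _ = g * (g⁻¹ * x) * g := by rw [h]
      _ = x * g := by group
  · intro h
    calc g⁻¹ * x = g⁻¹ * (x * g) * g⁻¹ := by group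
      _ = g⁻¹ * (g * x) * g⁻¹ := by rw [h]
      _ = x * g⁻¹ := by group

theorem card_eq_pow_mul (p : ℕ) [hp : Fact p.Prime] (n : ℕ) (hn : n ≠ 0) :
    ∃ m : ℕ, ¬ p ∣ m ∧ n = p ^ n.factorization p * m :=
  ⟨n / p ^ n.factorization p, Nat.not_dvd_ordCompl hp.out hn,
    (Nat.ordProj_mul_ordCompl_eq_self n p).symm⟩

theorem goodFun_blockCoeff [Fintype G] {p : ℕ} [hp : Fact p.Prime] (hM : Cfsg.IsPModular p M)
    (B : Set (Cfsg.IrrCharacter G)) (hB : Cfsg.IsPBlock M B) (d : ℕ)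
    (hda : d ≤ (Nat.card G).factorization p)
    (hd : ∀ χ ∈ B, p ^ ((Nat.card G).factorization p - d) ∣ Cfsg.charDegree (χ : G → ℂ)) :
    GoodFun M p d (Cfsg.blockCoeff B) := by
  refine ⟨blockCoeff_isClassFunction B, fun y => osima hM.2.1 B hB y, ?_⟩
  intro y Q hQ hcomm
  by_cases hy : p ∣ orderOf y
  · rw [blockCoeff_eq_zero_of_singular hM.2.1 p hM.2.2 B hB y hy]
    simp only [mul_zero, zero_div]
    exact memLocalRing_zero hM.2.1
  · obtain ⟨β, hβ, hβeq⟩ := card_mul_blockCoeff_eq hM.2.1 p hM.2.2 B hB y hy Q hQ hcomm _ hd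
    obtain ⟨m, hm, hGm⟩ := card_eq_pow_mul p (Nat.card G) Nat.card_pos.ne'
    set a := (Nat.card G).factorization p with ha
    have hp0 : (p : ℂ) ≠ 0 := by exact_mod_cast hp.out.ne_zero
    have hQ0 : (Nat.card Q : ℂ) ≠ 0 := by
      have : 0 < Nat.card Q := Nat.card_pos
      exact_mod_cast this.ne'
    have hm0 : (m : ℂ) ≠ 0 := by
      intro h0
      have : m = 0 := by exact_mod_cast h0
      exact hm (this ▸ dvd_zero p)
    have hG : (Nat.card G : ℂ) = (p : ℂ) ^ a * (m : ℂ) := by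
      conv_lhs => rw [hGm]
      push_cast
      rfl
    have h1 : (p : ℂ) ^ d * Cfsg.blockCoeff B y / (Nat.card Q : ℂ) = β * ((1 : ℕ) : ℂ) / (m : ℂ) := by
      rw [hG] at hβeq
      have hpa : (p : ℂ) ^ a = (p : ℂ) ^ d * (p : ℂ) ^ (a - d) := by
        rw [← pow_add]
        congr 1
        omega
      have hpd : (p : ℂ) ^ d ≠ 0 := pow_ne_zero _ hp0
      have hpad : (p : ℂ) ^ (a - d) ≠ 0 := pow_ne_zero _ hp0
      rw [hpa] at hβeq
      have h2 : (p : ℂ) ^ d * Cfsg.blockCoeff B y * (m : ℂ) = (Nat.card Q : ℂ) * β := by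
        apply mul_left_cancel₀ hpad
        calc (p : ℂ) ^ (a - d) * ((p : ℂ) ^ d * Cfsg.blockCoeff B y * (m : ℂ))
            = (p : ℂ) ^ d * (p : ℂ) ^ (a - d) * (m : ℂ) * Cfsg.blockCoeff B y := by ring
          _ = (Nat.card Q : ℂ) * (p : ℂ) ^ (a - d) * β := hβeq
          _ = (p : ℂ) ^ (a - d) * ((Nat.card Q : ℂ) * β) := by ring
      rw [div_eq_div_iff hQ0 hm0, h2]
      push_cast
      ring
    rw [h1, mul_div_assoc]
    exact MemLocalRing.mul hM.2.1 (memLocalRing_of_isIntegral hM.2.1 hβ)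
      (memLocalRing_natCast_div hM.2.1 p hp.out hM.2.2 1 m hm)

theorem goodFun_greenZ [Fintype G] {p : ℕ} [hp : Fact p.Prime] (hM : Cfsg.IsPModular p M)
    (B : Set (Cfsg.IrrCharacter G)) (hB : Cfsg.IsPBlock M B) (k : G) (hk : ¬ p ∣ orderOf k)
    (d : ℕ) (hd : d = (Nat.card (Subgroup.centralizer ({k} : Set G))).factorization p) :
    GoodFun M p d (greenZ B k) := by
  refine ⟨greenZ_isClassFunction B k, fun y => greenZ_memLocalRing hM.2.1 B hB k y, ?_⟩
  intro y Q hQ hcomm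
  by_cases hy : p ∣ orderOf y
  · rw [greenZ_eq_zero_of_singular hM.2.1 p hM.2.2 B hB k y hk hy]
    simp only [mul_zero, zero_div]
    exact memLocalRing_zero hM.2.1
  · obtain ⟨β, hβ, hβeq⟩ := card_mul_greenZ_eq hM.2.1 p hM.2.2 B hB k y hk hy Q hQ hcomm
    obtain ⟨m, hm, hCm⟩ := card_eq_pow_mul p
      (Nat.card (Subgroup.centralizer ({k} : Set G))) Nat.card_pos.ne'
    rw [← hd] at hCm
    have hp0 : (p : ℂ) ≠ 0 := by exact_mod_cast hp.out.ne_zero
    have hQ0 : (Nat.card Q : ℂ) ≠ 0 := by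
      have : 0 < Nat.card Q := Nat.card_pos
      exact_mod_cast this.ne'
    have hm0 : (m : ℂ) ≠ 0 := by
      intro h0
      have : m = 0 := by exact_mod_cast h0
      exact hm (this ▸ dvd_zero p)
    have hC : (Nat.card (Subgroup.centralizer ({k} : Set G)) : ℂ) = (p : ℂ) ^ d * (m : ℂ) := by
      conv_lhs => rw [hCm]
      push_cast
      rfl
    have h1 : (p : ℂ) ^ d * greenZ B k y / (Nat.card Q : ℂ) = β * ((1 : ℕ) : ℂ) / (m : ℂ) := by
      rw [hC] at hβeq
      rw [div_eq_div_iff hQ0 hm0]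
      calc (p : ℂ) ^ d * greenZ B k y * (m : ℂ) = (p : ℂ) ^ d * (m : ℂ) * greenZ B k y := by ring
        _ = (Nat.card Q : ℂ) * β := hβeq
        _ = β * ((1 : ℕ) : ℂ) * (Nat.card Q : ℂ) := by push_cast; ring
    rw [h1, mul_div_assoc]
    exact MemLocalRing.mul hM.2.1 (memLocalRing_of_isIntegral hM.2.1 hβ)
      (memLocalRing_natCast_div hM.2.1 p hp.out hM.2.2 1 m hm)

end Cfsg.Agent.Helper6.Green
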