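import Mathlib
import Cfsg.Prelude.Def_Characters
import Cfsg.Prelude.Def_Blocks
import Cfsg.Agent.Helper6.GreenE

/-!
# Defect groups are Sylow intersections (the existence of a good element)
-/

set_option autoImplicit false
set_option linter.style.haveILetI false
set_option linter.unusedSectionVars false

namespace Cfsg.Agent.Helper6.Green

open scoped ComplexConjugate

universe u

variable {G : Type u} [Group G] {M : Ideal Cfsg.AlgInt}

set_option maxHeartbeats 1000000 in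
/-- **Green**: for every Sylow `p`-subgroup `P` there is a `p`-regular `w` with
`P ∩ w⁻¹ P w` centralizing `w`, of the order of a defect group, which is the full `p`-part
of the centralizer of `w` -/
theorem exists_good_element [Finite G] {p : ℕ} [hp : Fact p.Prime] (hM : Cfsg.IsPModular p M)
    (B : Set (Cfsg.IrrCharacter G)) (hB : Cfsg.IsPBlock M B) (D : Subgroup G)
    (hD : Cfsg.IsDefectGroup p M B D) (P : Sylow p G) :
    ∃ w : G, ¬ p ∣ orderOf w ∧
      (∀ u ∈ (P : Subgroup G), w * u * w⁻¹ ∈ (P : Subgroup G) → w * u = u * w) ∧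
      (∀ Q : Subgroup G, IsPGroup p Q → (∀ q ∈ Q, w * q = q * w) →
        Nat.card Q ≤ Nat.card D) ∧
      Nat.card ((P : Subgroup G) ⊓ (P : Subgroup G).map (MulAut.conj w⁻¹).toMonoidHom :
        Subgroup G) = Nat.card D := by
  classical
  haveI := Fintype.ofFinite G
  haveI : Fintype (P : Subgroup G) := Fintype.ofFinite _
  obtain ⟨x₀, hx₀, S, hS⟩ := hD
  set C := Subgroup.centralizer ({x₀} : Set G) with hC
  set d := (Nat.card C).factorization p with hd
  set a := (Nat.card G).factorization p with ha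
  have hDcard : Nat.card D = p ^ d := by
    rw [hS, Subgroup.card_subtype, Sylow.card_eq_multiplicity]
  have hPcard : Nat.card (P : Subgroup G) = p ^ a := Sylow.card_eq_multiplicity P
  have hG0 : Nat.card G ≠ 0 := Nat.card_pos.ne'
  have hC0 : Nat.card C ≠ 0 := Nat.card_pos.ne'
  have hda : d ≤ a :=
    (Nat.factorization_le_iff_dvd hC0 hG0).mpr (Subgroup.card_subgroup_dvd_card C) p
  have hbd : Cfsg.blockDefect p B = d :=
    blockDefect_eq_of_defectClass hM.2.1 p hM.2.2 B hB x₀ hx₀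
  have hdeg : ∀ χ ∈ B, p ^ (a - d) ∣ Cfsg.charDegree (χ : G → ℂ) := by
    intro χ hχ
    have h1 : sInf ((fun ξ : Cfsg.IrrCharacter G =>
        (Cfsg.charDegree (ξ : G → ℂ)).factorization p) '' B) ≤
        (Cfsg.charDegree (χ : G → ℂ)).factorization p := Nat.sInf_le ⟨χ, hχ, rfl⟩
    have h2 : Cfsg.blockDefect p B = a - sInf ((fun ξ : Cfsg.IrrCharacter G =>
        (Cfsg.charDegree (ξ : G → ℂ)).factorization p) '' B) := rfl
    have h3 : a - d ≤ (Cfsg.charDegree (χ : G → ℂ)).factorization p := by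
      rw [hbd] at h2
      omega
    exact (pow_dvd_pow p h3).trans (Nat.ordProj_dvd _ p)
  have hreg : ¬ p ∣ orderOf x₀ := IsDefectClass.not_dvd_orderOf hM.2.1 p hM.2.2 B hB x₀ hx₀
  have hk : ¬ p ∣ orderOf x₀⁻¹ := by rwa [orderOf_inv]
  have h₁ : GoodFun M p d (greenZ B x₀⁻¹) :=
    goodFun_greenZ hM B hB x₀⁻¹ hk d (by rw [centralizer_inv_eq])
  have h₂ : GoodFun M p d (Cfsg.blockCoeff B) := goodFun_blockCoeff hM B hB d hda hdeg
  by_contra hno
  have hmem := main_sum_memLocalIdeal hM d a _ _ h₁ h₂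
    (fun w hw => greenZ_eq_zero_of_singular hM.2.1 p hM.2.2 B hB x₀⁻¹ w hk hw)
    (P : Subgroup G) hPcard (fun w hw hc hQ heq => hno ⟨w, hw, hc,
      fun Q hQp hQc => by rw [hDcard]; exact hQ Q hQp hQc, by rw [heq, hDcard]⟩)
  have hsum : ∑ w : G, greenZ B x₀⁻¹ w *
      ∑ v : (P : Subgroup G), Cfsg.blockCoeff B (w⁻¹ * v) = greenZ B x₀⁻¹ 1 := by
    simp_rw [Finset.mul_sum]
    rw [Finset.sum_comm]
    simp_rw [greenZ_conv]
    rw [Finset.sum_eq_single (1 : (P : Subgroup G))]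
    · rfl
    · intro v _ hv
      apply greenZ_eq_zero_of_singular hM.2.1 p hM.2.2 B hB x₀⁻¹ _ hk
      obtain ⟨n, hn⟩ := (IsPGroup.iff_orderOf.mp P.isPGroup') v
      rw [Subgroup.orderOf_coe, hn]
      have hn0 : n ≠ 0 := by
        intro h0
        rw [h0, pow_zero, orderOf_eq_one_iff] at hn
        exact hv hn
      exact dvd_pow_self p hn0
    · intro h
      exact absurd (Finset.mem_univ _) h
  rw [hsum, greenZ_one, inv_inv] at hmem
  obtain ⟨m, hm, hGm⟩ := card_eq_pow_mul p (Nat.card G) hG0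
  obtain ⟨m₀, hm₀, hCm⟩ := card_eq_pow_mul p (Nat.card C) hC0
  rw [← ha] at hGm
  rw [← hd] at hCm
  have hidx : Nat.card C * C.index = Nat.card G := Subgroup.card_mul_index C
  have hp0 : (p : ℂ) ≠ 0 := by exact_mod_cast hp.out.ne_zero
  have hkey : (m₀ : ℂ) * ((p : ℂ) ^ d / (p : ℂ) ^ a * ((C.index : ℂ) * Cfsg.blockCoeff B x₀)) =
      (m : ℂ) * Cfsg.blockCoeff B x₀ := by
    have h1 : ((p : ℂ) ^ d * (m₀ : ℂ)) * (C.index : ℂ) = (p : ℂ) ^ a * (m : ℂ) := by
      have : (p ^ d * m₀) * C.index = p ^ a * m := by rw [← hCm, ← hGm]; exact hidx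
      exact_mod_cast this
    have hpa : (p : ℂ) ^ a ≠ 0 := pow_ne_zero _ hp0
    have h2 : (m₀ : ℂ) * ((p : ℂ) ^ d / (p : ℂ) ^ a * ((C.index : ℂ) * Cfsg.blockCoeff B x₀)) =
        (((p : ℂ) ^ d * (m₀ : ℂ)) * (C.index : ℂ)) / (p : ℂ) ^ a * Cfsg.blockCoeff B x₀ := by
      ring
    rw [h2, h1]
    field_simp
  have h5 : Cfsg.MemLocalIdeal M ((m : ℂ) * Cfsg.blockCoeff B x₀) := by
    rw [← hkey]
    exact MemLocalIdeal.mul_left hM.2.1 (memLocalRing_natCast hM.2.1 m₀) hmem
  exact hx₀.2.1 (memLocalIdeal_of_natCast_mul hM m hm _ h5)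

end Cfsg.Agent.Helper6.Green
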