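import Mathlib

/-!
# Chains of subgroups: toggling a member, stabilizers, signs (towards S4651)
-/

set_option autoImplicit false
set_option linter.style.haveILetI false

namespace Cfsg.Agent.Helper6.KR

universe u

variable {G : Type u} [Group G]

open Classical in
/-- toggle the membership of `M` in the finite set `s` -/
noncomputable def tog (M : Subgroup G) (s : Finset (Subgroup G)) : Finset (Subgroup G) :=
  if M ∈ s then s.erase M else insert M s

theorem mem_tog (M : Subgroup G) (s : Finset (Subgroup G)) (Q : Subgroup G) :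
    Q ∈ tog M s ↔ (Q ≠ M ∧ Q ∈ s) ∨ (Q = M ∧ M ∉ s) := by
  classical
  unfold tog
  split_ifs with h
  · rw [Finset.mem_erase]
    constructor
    · intro h1
      exact Or.inl h1
    · rintro (h1 | h1)
      · exact h1
      · exact absurd h h1.2
  · rw [Finset.mem_insert]
    constructor
    · rintro (h1 | h1)
      · exact Or.inr ⟨h1, h⟩
      · refine Or.inl ⟨?_, h1⟩
        rintro rfl
        exact h h1
    · rintro (h1 | h1)
      · exact Or.inr h1.2
      · exact Or.inl h1.1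

theorem mem_tog_of_ne (M : Subgroup G) (s : Finset (Subgroup G)) (Q : Subgroup G) (hQ : Q ≠ M) :
    Q ∈ tog M s ↔ Q ∈ s := by
  rw [mem_tog]
  constructor
  · rintro (h | h)
    · exact h.2
    · exact absurd h.1 hQ
  · intro h
    exact Or.inl ⟨hQ, h⟩

theorem self_mem_tog_iff (M : Subgroup G) (s : Finset (Subgroup G)) :
    M ∈ tog M s ↔ M ∉ s := by
  rw [mem_tog]
  constructor
  · rintro (h | h)
    · exact absurd rfl h.1
    · exact h.2
  · intro h
    exact Or.inr ⟨rfl, h⟩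

theorem tog_tog (M : Subgroup G) (s : Finset (Subgroup G)) : tog M (tog M s) = s := by
  ext Q
  by_cases hQ : Q = M
  · rw [hQ, self_mem_tog_iff, self_mem_tog_iff, not_not]
  · rw [mem_tog_of_ne M _ Q hQ, mem_tog_of_ne M _ Q hQ]

theorem mem_of_mem_tog (M : Subgroup G) (s : Finset (Subgroup G)) (Q : Subgroup G)
    (h : Q ∈ tog M s) : Q = M ∨ Q ∈ s := by
  rw [mem_tog] at h
  rcases h with h | h
  · exact Or.inr h.2
  · exact Or.inl h.1

theorem card_tog (M : Subgroup G) (s : Finset (Subgroup G)) :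
    (M ∈ s ∧ (tog M s).card + 1 = s.card) ∨ (M ∉ s ∧ (tog M s).card = s.card + 1) := by
  classical
  unfold tog
  split_ifs with h
  · left
    refine ⟨h, ?_⟩
    rw [Finset.card_erase_of_mem h]
    have : 0 < s.card := Finset.card_pos.mpr ⟨M, h⟩
    omega
  · right
    exact ⟨h, Finset.card_insert_of_notMem h⟩

theorem tog_ne (M : Subgroup G) (s : Finset (Subgroup G)) : tog M s ≠ s := by
  intro h
  rcases card_tog M s with h1 | h1
  · rw [h] at h1
    omega
  · rw [h] at h1
    omega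

/-- the sign of a chain -/
def sgn (s : Finset (Subgroup G)) : ℤ := (-1 : ℤ) ^ (s.card - 1)

theorem sgn_tog (M : Subgroup G) (s : Finset (Subgroup G)) (hs : s.Nonempty)
    (hs' : (tog M s).Nonempty) : sgn (tog M s) = - sgn s := by
  unfold sgn
  have h0 : 0 < s.card := Finset.card_pos.mpr hs
  have h0' : 0 < (tog M s).card := Finset.card_pos.mpr hs'
  rcases card_tog M s with h1 | h1
  · have : s.card - 1 = ((tog M s).card - 1) + 1 := by omega
    rw [this, pow_succ]
    ring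
  · have : (tog M s).card - 1 = (s.card - 1) + 1 := by omega
    rw [this, pow_succ]
    ring

/-- a filter that does not see `M` is unchanged by toggling `M` -/
theorem filter_tog (M : Subgroup G) (s : Finset (Subgroup G)) (P : Subgroup G → Prop)
    [DecidablePred P] (hM : ¬ P M) : (tog M s).filter P = s.filter P := by
  ext Q
  rw [Finset.mem_filter, Finset.mem_filter]
  by_cases hQ : Q = M
  · rw [hQ]
    constructor
    · intro h
      exact absurd h.2 hM
    · intro h
      exact absurd h.2 hM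
  · rw [mem_tog_of_ne M s Q hQ]

/-- the stabilizer of a chain: the intersection of the normalizers of the members -/
def nrm (s : Finset (Subgroup G)) : Subgroup G :=
  ⨅ Q ∈ s, Subgroup.normalizer ((Q : Subgroup G) : Set G)

theorem mem_nrm (s : Finset (Subgroup G)) (g : G) :
    g ∈ nrm s ↔ ∀ Q ∈ s, g ∈ Subgroup.normalizer ((Q : Subgroup G) : Set G) := by
  unfold nrm
  simp only [Subgroup.mem_iInf]

/-- toggling a member normalized by everything that stabilizes the rest of the chain (inside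
`C`) does not change the stabilizer inside `C` -/
theorem nrm_tog_inf (M : Subgroup G) (s : Finset (Subgroup G)) (C : Subgroup G)
    (h : ∀ g : G, (∀ Q ∈ s, Q ≠ M → g ∈ Subgroup.normalizer ((Q : Subgroup G) : Set G)) → g ∈ C →
      g ∈ Subgroup.normalizer ((M : Subgroup G) : Set G)) :
    nrm (tog M s) ⊓ C = nrm s ⊓ C := by
  ext g
  rw [Subgroup.mem_inf, Subgroup.mem_inf, mem_nrm, mem_nrm]
  constructor
  · rintro ⟨h1, h2⟩
    refine ⟨?_, h2⟩
    have h3 : ∀ Q ∈ s, Q ≠ M → g ∈ Subgroup.normalizer ((Q : Subgroup G) : Set G) := by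
      intro Q hQ hne
      exact h1 Q ((mem_tog_of_ne M s Q hne).mpr hQ)
    intro Q hQ
    by_cases hne : Q = M
    · rw [hne]
      exact h g h3 h2
    · exact h3 Q hQ hne
  · rintro ⟨h1, h2⟩
    refine ⟨?_, h2⟩
    intro Q hQ
    by_cases hne : Q = M
    · rw [hne]
      exact h g (fun Q hQ _ => h1 Q hQ) h2
    · exact h1 Q ((mem_tog_of_ne M s Q hne).mp hQ)

/-- a non-empty finite chain has a largest member -/
theorem exists_top_of_chain (t : Finset (Subgroup G)) (ht : t.Nonempty)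
    (hch : ∀ Q ∈ t, ∀ R ∈ t, Q ≤ R ∨ R ≤ Q) : ∃ T ∈ t, ∀ Q ∈ t, Q ≤ T := by
  obtain ⟨T, hT⟩ := Finset.exists_maximal ht
  refine ⟨T, hT.1, fun Q hQ => ?_⟩
  rcases hch Q hQ T hT.1 with h | h
  · exact h
  · exact hT.2 hQ h

/-- a non-empty finite chain has a smallest member -/
theorem exists_bot_of_chain (t : Finset (Subgroup G)) (ht : t.Nonempty)
    (hch : ∀ Q ∈ t, ∀ R ∈ t, Q ≤ R ∨ R ≤ Q) : ∃ T ∈ t, ∀ Q ∈ t, T ≤ Q := by
  obtain ⟨T, hT⟩ := Finset.exists_minimal ht
  refine ⟨T, hT.1, fun Q hQ => ?_⟩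
  rcases hch Q hQ T hT.1 with h | h
  · exact hT.2 hQ h
  · exact h

theorem sup_eq_of_top (t : Finset (Subgroup G)) (T : Subgroup G) (hT : T ∈ t)
    (h : ∀ Q ∈ t, Q ≤ T) : t.sup id = T :=
  le_antisymm (Finset.sup_le fun Q hQ => h Q hQ) (Finset.le_sup (f := id) hT)

theorem inf_eq_of_bot (t : Finset (Subgroup G)) (T : Subgroup G) (hT : T ∈ t)
    (h : ∀ Q ∈ t, T ≤ Q) : t.inf id = T :=
  le_antisymm (Finset.inf_le (f := id) hT) (Finset.le_inf fun Q hQ => h Q hQ)

theorem sup_mem_of_chain (t : Finset (Subgroup G)) (ht : t.Nonempty)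
    (hch : ∀ Q ∈ t, ∀ R ∈ t, Q ≤ R ∨ R ≤ Q) : t.sup id ∈ t := by
  obtain ⟨T, hT, h⟩ := exists_top_of_chain t ht hch
  rw [sup_eq_of_top t T hT h]
  exact hT

theorem inf_mem_of_chain (t : Finset (Subgroup G)) (ht : t.Nonempty)
    (hch : ∀ Q ∈ t, ∀ R ∈ t, Q ≤ R ∨ R ≤ Q) : t.inf id ∈ t := by
  obtain ⟨T, hT, h⟩ := exists_bot_of_chain t ht hch
  rw [inf_eq_of_bot t T hT h]
  exact hT

/-- chains of non-trivial `p`-subgroups -/
def IsCh (p : ℕ) (s : Finset (Subgroup G)) : Prop :=
  s.Nonempty ∧ (∀ Q ∈ s, ∀ R ∈ s, Q ≤ R ∨ R ≤ Q) ∧ (∀ Q ∈ s, Q ≠ ⊥ ∧ IsPGroup p Q)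

/-- chains all of whose members are normal in the largest one -/
def IsNrmCh (s : Finset (Subgroup G)) : Prop :=
  ∃ T ∈ s, ∀ Q ∈ s, Q ≤ T ∧ T ≤ Subgroup.normalizer ((Q : Subgroup G) : Set G)

/-- toggling a non-trivial `p`-subgroup comparable with all members keeps a chain a chain -/
theorem isCh_tog {p : ℕ} (M : Subgroup G) (s : Finset (Subgroup G)) (hs : IsCh p s)
    (hne : (tog M s).Nonempty) (hM1 : M ≠ ⊥) (hMp : IsPGroup p M)
    (hcomp : ∀ Q ∈ s, Q ≤ M ∨ M ≤ Q) : IsCh p (tog M s) := by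
  refine ⟨hne, ?_, ?_⟩
  · intro Q hQ R hR
    rcases mem_of_mem_tog M s Q hQ with hQ | hQ <;> rcases mem_of_mem_tog M s R hR with hR | hR
    · rw [hQ, hR]; exact Or.inl le_rfl
    · rw [hQ]; exact (hcomp R hR).symm
    · rw [hR]; exact hcomp Q hQ
    · exact hs.2.1 Q hQ R hR
  · intro Q hQ
    rcases mem_of_mem_tog M s Q hQ with hQ | hQ
    · rw [hQ]; exact ⟨hM1, hMp⟩
    · exact hs.2.2 Q hQ

end Cfsg.Agent.Helper6.KR
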