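import Mathlib
import Cfsg.Agent.Helper6.KRe

/-!
# The second involution: chains with a member not normal in the largest member cancel
(towards S4651)
-/

set_option autoImplicit false
set_option linter.style.haveILetI false

namespace Cfsg.Agent.Helper6.KR

universe u

variable {G : Type u} [Group G]

/-- a proper subgroup of a finite `p`-group is properly contained in its normalizer -/
theorem ne_inf_normalizer [Finite G] {p : ℕ} [hp : Fact p.Prime] (A R : Subgroup G)
    (hR : IsPGroup p R) (hAR : A ≤ R) (hne : A ≠ R) :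
    A ≠ R ⊓ Subgroup.normalizer ((A : Subgroup G) : Set G) := by
  intro h
  haveI : Group.IsNilpotent R := IsPGroup.isNilpotent hR
  have hnc : NormalizerCondition R := Group.normalizerCondition_of_isNilpotent
  rw [normalizerCondition_iff_only_full_group_self_normalizing] at hnc
  have h1 : Subgroup.normalizer ((A.subgroupOf R : Subgroup R) : Set R) = A.subgroupOf R := by
    rw [← Subgroup.subgroupOf_normalizer_eq hAR]
    conv_rhs => rw [h]
    rw [Subgroup.inf_subgroupOf_left]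
  have h2 := hnc _ h1
  rw [Subgroup.subgroupOf_eq_top] at h2
  exact hne (le_antisymm hAR h2)

open Classical in
/-- the smallest member not normal in the largest member -/
noncomputable def aB (s : Finset (Subgroup G)) : Subgroup G :=
  (s.filter (fun Q => ¬ s.sup id ≤ Subgroup.normalizer ((Q : Subgroup G) : Set G))).inf id

open Classical in
/-- the smallest member not normalizing `aB s` -/
noncomputable def rB (s : Finset (Subgroup G)) : Subgroup G :=
  (s.filter (fun R => ¬ R ≤ Subgroup.normalizer ((aB s : Subgroup G) : Set G))).inf id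

/-- the member to be toggled -/
noncomputable def mB (s : Finset (Subgroup G)) : Subgroup G :=
  rB s ⊓ Subgroup.normalizer ((aB s : Subgroup G) : Set G)

/-- the data of a chain that is not normal -/
structure BData (s : Finset (Subgroup G)) (T A R : Subgroup G) : Prop where
  hT : T ∈ s
  hTtop : ∀ Q ∈ s, Q ≤ T
  hA : A ∈ s
  hTA : ¬ T ≤ Subgroup.normalizer ((A : Subgroup G) : Set G)
  hAmin : ∀ Q ∈ s, ¬ T ≤ Subgroup.normalizer ((Q : Subgroup G) : Set G) → A ≤ Q
  hR : R ∈ s
  hRA : ¬ R ≤ Subgroup.normalizer ((A : Subgroup G) : Set G)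
  hRmin : ∀ Q ∈ s, ¬ Q ≤ Subgroup.normalizer ((A : Subgroup G) : Set G) → R ≤ Q

/-- the data determine `mB` -/
theorem mB_eq_of_bdata (s : Finset (Subgroup G)) (T A R : Subgroup G) (h : BData s T A R) :
    mB s = R ⊓ Subgroup.normalizer ((A : Subgroup G) : Set G) := by
  classical
  have hsup : s.sup id = T := sup_eq_of_top s T h.hT h.hTtop
  have hA : aB s = A := by
    unfold aB
    rw [hsup]
    apply inf_eq_of_bot
    · exact Finset.mem_filter.mpr ⟨h.hA, h.hTA⟩
    · intro Q hQ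
      rw [Finset.mem_filter] at hQ
      exact h.hAmin Q hQ.1 hQ.2
  have hR : rB s = R := by
    unfold rB
    rw [hA]
    apply inf_eq_of_bot
    · exact Finset.mem_filter.mpr ⟨h.hR, h.hRA⟩
    · intro Q hQ
      rw [Finset.mem_filter] at hQ
      exact h.hRmin Q hQ.1 hQ.2
  unfold mB
  rw [hA, hR]

/-- a chain that is not normal has such data -/
theorem exists_bdata (s : Finset (Subgroup G)) (hne : s.Nonempty)
    (hch : ∀ Q ∈ s, ∀ R ∈ s, Q ≤ R ∨ R ≤ Q) (hnn : ¬ IsNrmCh s) :
    ∃ T A R, BData s T A R := by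
  classical
  obtain ⟨T, hT, hTtop⟩ := exists_top_of_chain s hne hch
  have ht1 : (s.filter (fun Q => ¬ T ≤ Subgroup.normalizer ((Q : Subgroup G) : Set G))).Nonempty := by
    by_contra hempty
    rw [Finset.not_nonempty_iff_eq_empty, Finset.filter_eq_empty_iff] at hempty
    apply hnn
    refine ⟨T, hT, fun Q hQ => ⟨hTtop Q hQ, ?_⟩⟩
    have := hempty hQ
    rwa [not_not] at this
  obtain ⟨A, hA, hAmin⟩ := exists_bot_of_chain _ ht1 (fun Q hQ R hR =>
    hch Q (Finset.mem_filter.mp hQ).1 R (Finset.mem_filter.mp hR).1)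
  rw [Finset.mem_filter] at hA
  have ht2 : (s.filter (fun Q => ¬ Q ≤ Subgroup.normalizer ((A : Subgroup G) : Set G))).Nonempty :=
    ⟨T, Finset.mem_filter.mpr ⟨hT, hA.2⟩⟩
  obtain ⟨R, hR, hRmin⟩ := exists_bot_of_chain _ ht2 (fun Q hQ R hR =>
    hch Q (Finset.mem_filter.mp hQ).1 R (Finset.mem_filter.mp hR).1)
  rw [Finset.mem_filter] at hR
  exact ⟨T, A, R, ⟨hT, hTtop, hA.1, hA.2,
    fun Q hQ hQ2 => hAmin Q (Finset.mem_filter.mpr ⟨hQ, hQ2⟩), hR.1, hR.2,
    fun Q hQ hQ2 => hRmin Q (Finset.mem_filter.mpr ⟨hQ, hQ2⟩)⟩⟩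

/-- the properties of the member to be toggled -/
theorem bdata_props [Finite G] {p : ℕ} [hp : Fact p.Prime] (s : Finset (Subgroup G))
    (hch : ∀ Q ∈ s, ∀ R ∈ s, Q ≤ R ∨ R ≤ Q) (hpg : ∀ Q ∈ s, Q ≠ ⊥ ∧ IsPGroup p Q)
    (T A R : Subgroup G) (h : BData s T A R) :
    A ≤ R ⊓ Subgroup.normalizer ((A : Subgroup G) : Set G) ∧
    R ⊓ Subgroup.normalizer ((A : Subgroup G) : Set G) ≠ A ∧
    R ⊓ Subgroup.normalizer ((A : Subgroup G) : Set G) ≠ R ∧
    R ⊓ Subgroup.normalizer ((A : Subgroup G) : Set G) ≠ T ∧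
    (∀ Q ∈ s, Q ≤ R ⊓ Subgroup.normalizer ((A : Subgroup G) : Set G) ∨
      R ⊓ Subgroup.normalizer ((A : Subgroup G) : Set G) ≤ Q) ∧
    R ⊓ Subgroup.normalizer ((A : Subgroup G) : Set G) ≠ ⊥ ∧
    IsPGroup p (R ⊓ Subgroup.normalizer ((A : Subgroup G) : Set G) : Subgroup G) := by
  have hAR : A ≤ R := by
    rcases hch A h.hA R h.hR with h1 | h1
    · exact h1
    · exact absurd (h1.trans Subgroup.le_normalizer) h.hRA
  have hAneR : A ≠ R := by
    intro h1
    apply h.hRA
    rw [← h1]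
    exact Subgroup.le_normalizer
  have hAM : A ≤ R ⊓ Subgroup.normalizer ((A : Subgroup G) : Set G) :=
    le_inf hAR Subgroup.le_normalizer
  have hMR : R ⊓ Subgroup.normalizer ((A : Subgroup G) : Set G) ≠ R := by
    intro h1
    apply h.hRA
    rw [← h1]
    exact inf_le_right
  refine ⟨hAM, ?_, hMR, ?_, ?_, ?_, ?_⟩
  · exact (ne_inf_normalizer A R (hpg R h.hR).2 hAR hAneR).symm
  · intro h1
    apply hMR
    apply le_antisymm inf_le_left
    rw [h1]
    exact h.hTtop R h.hR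
  · intro Q hQ
    by_cases hRQ : R ≤ Q
    · right
      exact inf_le_left.trans hRQ
    · left
      have h1 : Q ≤ Subgroup.normalizer ((A : Subgroup G) : Set G) := by
        by_contra h2
        exact hRQ (h.hRmin Q hQ h2)
      have h2 : Q ≤ R := by
        rcases hch Q hQ R h.hR with h3 | h3
        · exact h3
        · exact absurd h3 hRQ
      exact le_inf h2 h1
  · intro h1
    rw [h1] at hAM
    exact (hpg A h.hA).1 (le_bot_iff.mp hAM)
  · exact IsPGroup.to_le (hpg R h.hR).2 inf_le_left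

/-- toggling keeps the data -/
theorem bdata_tog [Finite G] {p : ℕ} [hp : Fact p.Prime] (s : Finset (Subgroup G))
    (hch : ∀ Q ∈ s, ∀ R ∈ s, Q ≤ R ∨ R ≤ Q) (hpg : ∀ Q ∈ s, Q ≠ ⊥ ∧ IsPGroup p Q)
    (T A R : Subgroup G) (h : BData s T A R) :
    BData (tog (R ⊓ Subgroup.normalizer ((A : Subgroup G) : Set G)) s) T A R := by
  obtain ⟨hAM, hMA, hMR, hMT, hcomp, hM1, hMp⟩ := bdata_props s hch hpg T A R h
  have hmem : ∀ Q, Q ∈ tog (R ⊓ Subgroup.normalizer ((A : Subgroup G) : Set G)) s →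
      Q = R ⊓ Subgroup.normalizer ((A : Subgroup G) : Set G) ∨ Q ∈ s :=
    fun Q hQ => mem_of_mem_tog _ s Q hQ
  refine ⟨?_, ?_, ?_, h.hTA, ?_, ?_, h.hRA, ?_⟩
  · exact (mem_tog_of_ne _ s T hMT.symm).mpr h.hT
  · intro Q hQ
    rcases hmem Q hQ with h1 | h1
    · rw [h1]
      exact inf_le_left.trans (h.hTtop R h.hR)
    · exact h.hTtop Q h1
  · exact (mem_tog_of_ne _ s A hMA.symm).mpr h.hA
  · intro Q hQ hQ2
    rcases hmem Q hQ with h1 | h1
    · rw [h1]
      exact hAM
    · exact h.hAmin Q h1 hQ2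
  · exact (mem_tog_of_ne _ s R hMR.symm).mpr h.hR
  · intro Q hQ hQ2
    rcases hmem Q hQ with h1 | h1
    · rw [h1] at hQ2
      exact absurd inf_le_right hQ2
    · exact h.hRmin Q h1 hQ2

/-- a chain with such data is not normal -/
theorem not_isNrmCh_of_bdata (s : Finset (Subgroup G)) (T A R : Subgroup G)
    (h : BData s T A R) : ¬ IsNrmCh s := by
  rintro ⟨T', hT', hall⟩
  have h1 : T' = T := le_antisymm (h.hTtop T' hT') (hall T h.hT).1
  rw [h1] at hall
  exact h.hTA (hall A h.hA).2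

/-- conjugation by an element normalizing `R` and `A` normalizes `N_R(A)` -/
theorem mem_normalizer_inf_normalizer (A R : Subgroup G) (g : G)
    (hR : g ∈ Subgroup.normalizer ((R : Subgroup G) : Set G))
    (hA : g ∈ Subgroup.normalizer ((A : Subgroup G) : Set G)) :
    g ∈ Subgroup.normalizer
      ((R ⊓ Subgroup.normalizer ((A : Subgroup G) : Set G) : Subgroup G) : Set G) := by
  rw [Subgroup.mem_normalizer_iff_map_conj_eq] at hR hA ⊢
  rw [Subgroup.map_inf _ _ _ (MulAut.conj g).injective,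
    Subgroup.map_normalizer_eq_of_bijective _ (MulAut.conj g).bijective, hR, hA]

/-- **the alternating sum over the chains that are not normal vanishes** -/
theorem sumB [Finite G] {p : ℕ} [hp : Fact p.Prime] (C : Subgroup G) (x : G)
    (S : Finset (Finset (Subgroup G)))
    (hS : ∀ s, s ∈ S ↔ IsCh p s ∧ ¬ IsNrmCh s ∧ x ∈ nrm s) (F : Subgroup G → ℤ) :
    ∑ s ∈ S, sgn s * F (nrm s ⊓ C) = 0 := by
  classical
  have hmem : ∀ s ∈ S, tog (mB s) s ∈ S ∧ (tog (mB s) s).Nonempty ∧
      nrm (tog (mB s) s) ⊓ C = nrm s ⊓ C ∧ mB (tog (mB s) s) = mB s := by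
    intro s hs
    rw [hS] at hs
    obtain ⟨hch, hnn, hxs⟩ := hs
    obtain ⟨T, A, R, hd⟩ := exists_bdata s hch.1 hch.2.1 hnn
    have hM := mB_eq_of_bdata s T A R hd
    obtain ⟨hAM, hMA, hMR, hMT, hcomp, hM1, hMp⟩ := bdata_props s hch.2.1 hch.2.2 T A R hd
    have hd' := bdata_tog s hch.2.1 hch.2.2 T A R hd
    rw [← hM] at hd' hAM hMA hMR hMT hcomp hM1 hMp
    have hM' := mB_eq_of_bdata _ T A R hd'
    have hne : (tog (mB s) s).Nonempty := ⟨T, hd'.hT⟩
    have hnrm : nrm (tog (mB s) s) ⊓ (⊤ : Subgroup G) = nrm s ⊓ ⊤ := by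
      apply nrm_tog_inf
      intro g hg _
      rw [hM]
      apply mem_normalizer_inf_normalizer
      · exact hg R hd.hR hMR.symm
      · exact hg A hd.hA hMA.symm
    rw [inf_top_eq, inf_top_eq] at hnrm
    refine ⟨?_, hne, by rw [hnrm], by rw [hM', hM]⟩
    rw [hS]
    refine ⟨isCh_tog _ s hch hne hM1 hMp hcomp, not_isNrmCh_of_bdata _ T A R hd', ?_⟩
    rw [hnrm]
    exact hxs
  apply Finset.sum_involution (fun s _ => tog (mB s) s)
  · intro s hs
    obtain ⟨-, hne, hnrm, -⟩ := hmem s hs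
    rw [hS] at hs
    rw [hnrm, sgn_tog _ s hs.1.1 hne]
    ring
  · intro s _ _
    exact tog_ne _ s
  · intro s hs
    exact (hmem s hs).1
  · intro s hs
    rw [(hmem s hs).2.2.2, tog_tog]

end Cfsg.Agent.Helper6.KR
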