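import Mathlib
import Cfsg.Agent.Helper6.GreenA
import Cfsg.Agent.Helper6.KRg

/-!
# Green's theorem on defect groups: the reduction to the normalizer of the defect group
-/

set_option autoImplicit false
set_option linter.style.haveILetI false
set_option linter.unusedSectionVars false

namespace Cfsg.Agent.Helper6.Green

universe u

variable {G : Type u} [Group G]

theorem card_subgroupOf_of_le {H K : Subgroup G} (h : H ≤ K) :
    Nat.card (H.subgroupOf K) = Nat.card H :=
  Nat.card_congr (Subgroup.subgroupOfEquivOfLe h).toEquiv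

set_option maxHeartbeats 1000000 in
/-- the group-theoretic reduction: a good element of the normalizer of `D` is good in `G` -/
theorem green_reduction [Finite G] {p : ℕ} [hp : Fact p.Prime] (D : Subgroup G) (P : Sylow p G)
    (hDP : D ≤ (P : Subgroup G)) (N : Subgroup G) (hN : N = Subgroup.normalizer (D : Set G))
    (P₁ : Sylow p N)
    (hRP₁ : ((P : Subgroup G) ⊓ N).subgroupOf N ≤ (P₁ : Subgroup N))
    (w : N) (hw : ¬ p ∣ orderOf w)
    (hc : ∀ u ∈ (P₁ : Subgroup N), w * u * w⁻¹ ∈ (P₁ : Subgroup N) → w * u = u * w)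
    (hQ : ∀ Q : Subgroup N, IsPGroup p Q → (∀ q ∈ Q, w * q = q * w) →
        Nat.card Q ≤ Nat.card (D.subgroupOf N))
    (hcard : Nat.card ((P₁ : Subgroup N) ⊓
        (P₁ : Subgroup N).map (MulAut.conj w⁻¹).toMonoidHom : Subgroup N) =
      Nat.card (D.subgroupOf N)) :
    ¬ p ∣ orderOf (((w⁻¹ : N) : G)) ∧
    (∃ S : Sylow p (Subgroup.centralizer ({((w⁻¹ : N) : G)} : Set G)),
      (S : Subgroup (Subgroup.centralizer ({((w⁻¹ : N) : G)} : Set G))).map
        (Subgroup.centralizer ({((w⁻¹ : N) : G)} : Set G)).subtype = D) ∧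
    (P : Subgroup G) ⊓ (P : Subgroup G).map
      (MulAut.conj ((w⁻¹ : N) : G)).toMonoidHom = D := by
  classical
  have hDN : D ≤ N := by rw [hN]; exact Subgroup.le_normalizer
  set D' : Subgroup N := D.subgroupOf N with hD'
  set x : G := ((w⁻¹ : N) : G) with hx
  have hxw : x = (w : G)⁻¹ := rfl
  -- `w` normalizes `D`
  have hwD : ∀ u : G, u ∈ D ↔ (w : G) * u * (w : G)⁻¹ ∈ D := fun u =>
    (Subgroup.mem_normalizer_iff.mp (hN ▸ w.2)) u
  -- `D'` is the intersection
  have hD'le : D' ≤ (P₁ : Subgroup N) ⊓ (P₁ : Subgroup N).map (MulAut.conj w⁻¹).toMonoidHom := by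
    intro u hu
    have hu' : (u : G) ∈ D := Subgroup.mem_subgroupOf.mp hu
    refine Subgroup.mem_inf.mpr ⟨?_, (mem_map_conj _ w⁻¹ u).mpr ?_⟩
    · apply hRP₁
      rw [Subgroup.mem_subgroupOf]
      exact ⟨hDP hu', u.2⟩
    · rw [inv_inv]
      apply hRP₁
      rw [Subgroup.mem_subgroupOf]
      have h1 : (((w * u * w⁻¹ : N)) : G) = (w : G) * u * (w : G)⁻¹ := rfl
      rw [h1]
      exact ⟨hDP ((hwD u).mp hu'), (w * u * w⁻¹).2⟩
  have hD'eq : D' = (P₁ : Subgroup N) ⊓ (P₁ : Subgroup N).map (MulAut.conj w⁻¹).toMonoidHom :=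
    Subgroup.eq_of_le_of_card_ge hD'le (le_of_eq hcard)
  have hcardD' : Nat.card D' = Nat.card D := card_subgroupOf_of_le hDN
  -- `D` centralizes `w`
  have hDw : ∀ u ∈ D, (w : G) * u = u * (w : G) := by
    intro u hu
    have huN : u ∈ N := hDN hu
    have h1 : (⟨u, huN⟩ : N) ∈ D' := Subgroup.mem_subgroupOf.mpr hu
    have h2 := hD'le h1
    have h3 := (mem_map_conj _ w⁻¹ _).mp (Subgroup.mem_inf.mp h2).2
    rw [inv_inv] at h3
    have h4 := hc _ (Subgroup.mem_inf.mp h2).1 h3
    exact congrArg Subtype.val h4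
  refine ⟨?_, ?_, ?_⟩
  · rw [Subgroup.orderOf_coe, orderOf_inv]
    exact hw
  · -- the Sylow subgroup of the centralizer
    set C := Subgroup.centralizer ({x} : Set G) with hC
    have hDC : D ≤ C := by
      intro u hu
      rw [hC, Subgroup.mem_centralizer_iff]
      intro y hy
      rw [Set.mem_singleton_iff] at hy
      subst hy
      have := hDw u hu
      rw [hxw]
      calc (w : G)⁻¹ * u = (w : G)⁻¹ * (u * (w : G)) * (w : G)⁻¹ := by group
        _ = (w : G)⁻¹ * ((w : G) * u) * (w : G)⁻¹ := by rw [this]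
        _ = u * (w : G)⁻¹ := by group
    have hDp : IsPGroup p D := P.isPGroup'.to_le hDP
    have hD₁p : IsPGroup p (D.subgroupOf C) :=
      hDp.comap_of_injective C.subtype C.subtype_injective
    obtain ⟨S, hS⟩ := hD₁p.exists_le_sylow
    refine ⟨S, ?_⟩
    set S' : Subgroup G := (S : Subgroup C).map C.subtype with hS'
    have hS'p : IsPGroup p S' := S.isPGroup'.map _
    have hDS' : D ≤ S' := by
      intro u hu
      exact ⟨⟨u, hDC hu⟩, hS (Subgroup.mem_subgroupOf.mpr hu), rfl⟩
    have hS'C : S' ≤ C := by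
      rintro _ ⟨c, -, rfl⟩
      exact c.2
    by_contra hne
    have hne' : D ≠ S' := fun h => hne h.symm
    have h1 := KR.ne_inf_normalizer D S' hS'p hDS' hne'
    rw [← hN] at h1
    apply h1
    set T : Subgroup G := S' ⊓ N with hT
    have hDT : D ≤ T := le_inf hDS' hDN
    have hTp : IsPGroup p T := hS'p.to_le inf_le_left
    have hTN : T ≤ N := inf_le_right
    have hT'p : IsPGroup p (T.subgroupOf N) :=
      hTp.comap_of_injective N.subtype N.subtype_injective
    have hT'c : ∀ q ∈ T.subgroupOf N, w * q = q * w := by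
      intro q hq
      have hqT : (q : G) ∈ T := Subgroup.mem_subgroupOf.mp hq
      have hqC : (q : G) ∈ C := hS'C hqT.1
      have h2 := (Subgroup.mem_centralizer_iff.mp hqC) x (Set.mem_singleton x)
      rw [hxw] at h2
      apply Subtype.ext
      show (w : G) * q = q * (w : G)
      calc (w : G) * q = (w : G) * (q * (w : G)⁻¹) * (w : G) := by group
        _ = (w : G) * ((w : G)⁻¹ * q) * (w : G) := by rw [h2]
        _ = q * (w : G) := by group
    have h3 := hQ _ hT'p hT'c
    rw [card_subgroupOf_of_le hTN, card_subgroupOf_of_le hDN] at h3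
    exact Subgroup.eq_of_le_of_card_ge hDT h3
  · -- the Sylow intersection
    set U : Subgroup G := (P : Subgroup G) ⊓ (P : Subgroup G).map (MulAut.conj x).toMonoidHom
      with hU
    have hUp : IsPGroup p U := P.isPGroup'.to_le inf_le_left
    have hDU : D ≤ U := by
      intro u hu
      refine Subgroup.mem_inf.mpr ⟨hDP hu, (mem_map_conj _ x u).mpr ?_⟩
      rw [hxw, inv_inv]
      exact hDP ((hwD u).mp hu)
    by_contra hne
    have hne' : D ≠ U := fun h => hne h.symm
    have h1 := KR.ne_inf_normalizer D U hUp hDU hne'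
    rw [← hN] at h1
    apply h1
    apply le_antisymm (le_inf hDU hDN)
    intro u hu
    have huU : u ∈ U := hu.1
    have huN : u ∈ N := hu.2
    have huP : u ∈ (P : Subgroup G) := (Subgroup.mem_inf.mp huU).1
    have huP' : (w : G) * u * (w : G)⁻¹ ∈ (P : Subgroup G) := by
      have := (mem_map_conj _ x u).mp (Subgroup.mem_inf.mp huU).2
      rwa [hxw, inv_inv] at this
    have h2 : (⟨u, huN⟩ : N) ∈ (P₁ : Subgroup N) := by
      apply hRP₁
      rw [Subgroup.mem_subgroupOf]
      exact ⟨huP, huN⟩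
    have h3 : w * (⟨u, huN⟩ : N) * w⁻¹ ∈ (P₁ : Subgroup N) := by
      apply hRP₁
      rw [Subgroup.mem_subgroupOf]
      exact ⟨huP', (w * (⟨u, huN⟩ : N) * w⁻¹).2⟩
    have h4 : (⟨u, huN⟩ : N) ∈ D' := by
      rw [hD'eq]
      refine Subgroup.mem_inf.mpr ⟨h2, (mem_map_conj _ w⁻¹ _).mpr ?_⟩
      rw [inv_inv]
      exact h3
    exact Subgroup.mem_subgroupOf.mp h4

end Cfsg.Agent.Helper6.Green
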