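import Mathlib
import Cfsg.Prelude.Def_Characters
import Cfsg.Prelude.Def_Blocks
import Cfsg.Agent.Helper6.GreenF
import Cfsg.Agent.Helper6.GreenG
import Cfsg.Agent.Helper6.FirstMain

/-!
# Green's theorem: defect groups are Sylow intersections
-/

set_option autoImplicit false
set_option linter.style.haveILetI false
set_option linter.unusedSectionVars false

namespace Cfsg.Agent.Helper6.Green

universe u

variable {G : Type u} [Group G] {M : Ideal Cfsg.AlgInt}

/-- **Green's theorem** -/
theorem green [Finite G] (p : ℕ) [hp : Fact p.Prime] (hM : Cfsg.IsPModular p M)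
    (B : Set (Cfsg.IrrCharacter G)) (hB : Cfsg.IsPBlock M B) (D : Subgroup G)
    (hD : Cfsg.IsDefectGroup p M B D) (P : Sylow p G) (hDP : D ≤ (P : Subgroup G)) :
    ∃ x : G, ¬ p ∣ orderOf x ∧
      (∃ S : Sylow p (Subgroup.centralizer ({x} : Set G)),
        (S : Subgroup (Subgroup.centralizer ({x} : Set G))).map
          (Subgroup.centralizer ({x} : Set G)).subtype = D) ∧
      (P : Subgroup G) ⊓ (P : Subgroup G).map (MulAut.conj x).toMonoidHom = D := by
  classical
  have hDp : IsPGroup p D := P.isPGroup'.to_le hDP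
  obtain ⟨b, hb, hDb, -⟩ := firstMain_ii_exists hM D hDp B hB hD
  have hRp : IsPGroup p (((P : Subgroup G) ⊓ Subgroup.normalizer (D : Set G)).subgroupOf
      (Subgroup.normalizer (D : Set G))) :=
    (P.isPGroup'.to_le inf_le_left).comap_of_injective _ (Subgroup.subtype_injective _)
  obtain ⟨P₁, hP₁⟩ := hRp.exists_le_sylow
  obtain ⟨w, hw, hc, hQ, hcard⟩ := exists_good_element hM b hb _ hDb P₁
  exact ⟨_, green_reduction D P hDP _ rfl P₁ hP₁ w hw hc hQ hcard⟩

end Cfsg.Agent.Helper6.Green
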