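import Mathlib
import Cfsg.Prelude.Def_Characters
import Cfsg.Prelude.Def_Blocks
import Cfsg.Agent.Helper6.MinMaxOrder
import Cfsg.Agent.Helper6.LocalSubring

/-!
# Counting blocks by classes
-/

set_option autoImplicit false
set_option linter.style.haveILetI false

namespace Cfsg.Agent.Helper6

open Module
open scoped ComplexConjugate

universe u

variable {G : Type u} [Group G] {M : Ideal Cfsg.AlgInt}

/-- Two blocks with a common member are equal. -/
theorem block_eq_of_mem_of_mem (hM : M.IsMaximal) {B B' : Set (Cfsg.IrrCharacter G)}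
    (hB : Cfsg.IsPBlock M B) (hB' : Cfsg.IsPBlock M B') (χ : Cfsg.IrrCharacter G) (h : χ ∈ B)
    (h' : χ ∈ B') : B = B' := by
  obtain ⟨χ₁, rfl⟩ := hB
  obtain ⟨χ₂, rfl⟩ := hB'
  rw [blockOf_eq_of_sameBlock hM h, blockOf_eq_of_sameBlock hM h']

/-- A generic counting principle: if, for blocks with property `PB`, the products of idempotent
coefficients and central characters are in the local ideal outside the classes with property
`PC`, then there are at most as many such blocks as such classes. -/
theorem card_blocks_le_card_classes [Finite G] (hM : M.IsMaximal)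
    (PB : Set (Cfsg.IrrCharacter G) → Prop) (PC : ConjClasses G → Prop)
    (h : ∀ B B' : Set (Cfsg.IrrCharacter G), Cfsg.IsPBlock M B → PB B → Cfsg.IsPBlock M B' →
      PB B' → ∀ χ ∈ B, ∀ g : G, ¬ PC (ConjClasses.mk g) →
      Cfsg.MemLocalIdeal M (Cfsg.blockCoeff B' g * Cfsg.centralChar (χ : G → ℂ) g)) :
    Nat.card {B : Set (Cfsg.IrrCharacter G) // Cfsg.IsPBlock M B ∧ PB B} ≤
      Nat.card {C : ConjClasses G // PC C} := by
  classical
  haveI := Fintype.ofFinite G
  haveI : Fintype (ConjClasses G) := Fintype.ofFinite _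
  haveI : Finite (Cfsg.IrrCharacter G) := irr_finite
  haveI : Fintype (Cfsg.IrrCharacter G) := Fintype.ofFinite _
  haveI : Fintype {B : Set (Cfsg.IrrCharacter G) // Cfsg.IsPBlock M B ∧ PB B} :=
    Fintype.ofFinite _
  haveI : Fintype {C : ConjClasses G // PC C} := Fintype.ofFinite _
  set ι := {B : Set (Cfsg.IrrCharacter G) // Cfsg.IsPBlock M B ∧ PB B} with hι
  set κ := {C : ConjClasses G // PC C} with hκ
  -- representatives
  have hrep : ∀ i : ι, ∃ χ : Cfsg.IrrCharacter G, χ ∈ (i : Set (Cfsg.IrrCharacter G)) := by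
    intro i
    obtain ⟨χ₀, hχ₀⟩ := i.2.1
    exact ⟨χ₀, by rw [hχ₀]; exact mem_blockOf_self hM χ₀⟩
  choose χ hχ using hrep
  have hG0 : (Nat.card G : ℂ) ≠ 0 := by
    have : 0 < Nat.card G := Nat.card_pos
    exact_mod_cast this.ne'
  -- the class function
  set F' : ι → ι → G → ℂ := fun i j g => Cfsg.blockCoeff (j : Set (Cfsg.IrrCharacter G)) g *
    Cfsg.centralChar ((χ i : Cfsg.IrrCharacter G) : G → ℂ) g with hF'
  have hF'cf : ∀ i j (g x : G), F' i j (x * g * x⁻¹) = F' i j g := by
    intro i j g x
    rw [hF']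
    simp only
    rw [centralChar_conj, blockCoeff_isClassFunction _ g x]
  have hout : ∀ i j (g : G), F' i j (Quotient.out (ConjClasses.mk g)) = F' i j g := by
    intro i j g
    have h1 : ConjClasses.mk (Quotient.out (ConjClasses.mk g)) = ConjClasses.mk g :=
      Quotient.out_eq _
    rw [ConjClasses.mk_eq_mk_iff_isConj, isConj_iff] at h1
    obtain ⟨c, hc⟩ := h1
    have h2 := hF'cf i j (Quotient.out (ConjClasses.mk g)) c
    rw [hc] at h2
    exact h2.symm
  have hdelta : ∀ i j : ι, ∑ C : ConjClasses G, F' i j (Quotient.out C) =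
      if i = j then 1 else 0 := by
    intro i j
    have hsum := sum_div_card_class (G := G) (fun C : ConjClasses G => F' i j (Quotient.out C))
    simp only [hout] at hsum
    rw [← hsum]
    have hχ1 : ((χ i : Cfsg.IrrCharacter G) : G → ℂ) 1 ≠ 0 :=
      IsIrrCharacter.apply_one_ne_zero (χ i).2
    have h1 : ∀ g : G, F' i j g *
        ((Nat.card (Subgroup.centralizer ({g} : Set G)) : ℂ) / (Nat.card G : ℂ)) =
        Cfsg.blockCoeff (j : Set (Cfsg.IrrCharacter G)) g *
          ((χ i : Cfsg.IrrCharacter G) : G → ℂ) g / ((χ i : Cfsg.IrrCharacter G) : G → ℂ) 1 := by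
      intro g
      rw [hF']
      simp only
      unfold Cfsg.centralChar
      have hidx : ((Subgroup.centralizer ({g} : Set G)).index : ℂ) *
          (Nat.card (Subgroup.centralizer ({g} : Set G)) : ℂ) = (Nat.card G : ℂ) := by
        rw [← Nat.cast_mul, Subgroup.index_mul_card]
      have hC0 : (Nat.card (Subgroup.centralizer ({g} : Set G)) : ℂ) ≠ 0 := by
        have : 0 < Nat.card (Subgroup.centralizer ({g} : Set G)) := Nat.card_pos
        exact_mod_cast this.ne'
      have hi0 : ((Subgroup.centralizer ({g} : Set G)).index : ℂ) ≠ 0 := by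
        have : (Subgroup.centralizer ({g} : Set G)).index ≠ 0 :=
          Subgroup.index_ne_zero_of_finite
        exact_mod_cast this
      rw [← hidx]
      field_simp
    simp_rw [h1]
    rw [← Finset.sum_div, sum_blockCoeff_mul]
    by_cases hij : i = j
    · rw [if_pos hij, if_pos (by rw [← hij]; exact hχ i), div_self hχ1]
    · rw [if_neg hij, if_neg, zero_div]
      intro hmem
      apply hij
      apply Subtype.ext
      exact block_eq_of_mem_of_mem hM i.2.1 j.2.1 (χ i) (hχ i) hmem
  -- the matrices
  set Λ : Matrix ι κ ℂ := fun i C =>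
    Cfsg.centralChar ((χ i : Cfsg.IrrCharacter G) : G → ℂ) (Quotient.out (C : ConjClasses G))
    with hΛ
  set A : Matrix κ ι ℂ := fun C j =>
    Cfsg.blockCoeff (j : Set (Cfsg.IrrCharacter G)) (Quotient.out (C : ConjClasses G)) with hA
  have hprod : ∀ i j : ι, (Λ * A) i j = ∑ C : κ, F' i j (Quotient.out (C : ConjClasses G)) := by
    intro i j
    rw [Matrix.mul_apply]
    apply Finset.sum_congr rfl
    intro C _
    rw [hΛ, hA, hF']
    simp only
    rw [mul_comm]
  have hcongr : ∀ i j : ι, Cfsg.MemLocalIdeal M ((Λ * A) i j - (1 : Matrix ι ι ℂ) i j) := by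
    intro i j
    rw [hprod, Matrix.one_apply, ← hdelta i j]
    have hsplit : ∑ C : ConjClasses G, F' i j (Quotient.out C) =
        ∑ C : κ, F' i j (Quotient.out (C : ConjClasses G)) +
          ∑ C ∈ Finset.univ.filter (fun C : ConjClasses G => ¬ PC C), F' i j (Quotient.out C) := by
      rw [← Finset.sum_filter_add_sum_filter_not Finset.univ PC]
      congr 1
      rw [← Finset.sum_subtype (Finset.univ.filter PC) (by intro C; simp)
        (fun C => F' i j (Quotient.out C))]
    rw [hsplit, sub_add_cancel_left]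
    apply MemLocalIdeal.neg
    apply MemLocalIdeal.sum hM
    intro C hC
    rw [Finset.mem_filter] at hC
    have hC' : ¬ PC (ConjClasses.mk (Quotient.out C)) := by
      have : ConjClasses.mk (Quotient.out C) = C := Quotient.out_eq C
      rw [this]
      exact hC.2
    exact h i j i.2.1 i.2.2 j.2.1 j.2.2 (χ i) (hχ i) (Quotient.out C) hC'
  have hR : ∀ i j : ι, Cfsg.MemLocalRing M ((Λ * A) i j) := by
    intro i j
    rw [Matrix.mul_apply]
    apply MemLocalRing.sum hM
    intro C _
    apply MemLocalRing.mul hM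
    · exact memLocalRing_of_isIntegral hM (isIntegral_centralChar _ _)
    · exact osima hM _ j.2.1 _
  have hR1 : ∀ i j : ι, Cfsg.MemLocalRing M ((1 : Matrix ι ι ℂ) i j) := by
    intro i j
    rw [Matrix.one_apply]
    split_ifs
    · exact memLocalRing_one hM
    · exact memLocalRing_zero hM
  have hdet := det_congr_mod hM (Λ * A) 1 hR hcongr hR1
  rw [Matrix.det_one] at hdet
  have hdet0 : (Λ * A).det ≠ 0 := by
    intro h0
    rw [h0, zero_sub] at hdet
    have := MemLocalIdeal.neg hdet
    rw [neg_neg] at this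
    exact not_memLocalIdeal_one this
  have hunit : IsUnit (Λ * A) := (Matrix.isUnit_iff_isUnit_det _).mpr (isUnit_iff_ne_zero.mpr hdet0)
  have hrank := Matrix.rank_of_isUnit (Λ * A) hunit
  have h1 := Matrix.rank_mul_le_left Λ A
  have h2 := Matrix.rank_le_card_width Λ
  rw [Nat.card_eq_fintype_card, Nat.card_eq_fintype_card]
  omega

end Cfsg.Agent.Helper6
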