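import Mathlib
import Cfsg.Prelude.Def_Characters
import Cfsg.Prelude.Def_Blocks
import Cfsg.Agent.Helper6.BlockCount

/-!
# Counting blocks of a given defect
-/

set_option autoImplicit false
set_option linter.style.haveILetI false

namespace Cfsg.Agent.Helper6

open Module
open scoped ComplexConjugate

universe u

variable {G : Type u} [Group G] {M : Ideal Cfsg.AlgInt}

/-- **S4505.** -/
theorem card_blocks_defect_eq_le [Finite G] (hM : M.IsMaximal) (p : ℕ) [hp : Fact p.Prime]
    (hpM : (p : Cfsg.AlgInt) ∈ M) (σ : ℕ) :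
    Nat.card {B : Set (Cfsg.IrrCharacter G) // Cfsg.IsPBlock M B ∧ Cfsg.blockDefect p B = σ} ≤
      Nat.card {C : ConjClasses G // ∃ g : G, ConjClasses.mk g = C ∧ ¬ p ∣ orderOf g ∧
        (Nat.card (Subgroup.centralizer ({g} : Set G))).factorization p = σ} := by
  apply card_blocks_le_card_classes hM (fun B => Cfsg.blockDefect p B = σ)
  intro B B' hB hσ hB' hσ' χ hχ g hg
  have hg' : ¬ (¬ p ∣ orderOf g ∧
      (Nat.card (Subgroup.centralizer ({g} : Set G))).factorization p = σ) :=
    fun h => hg ⟨g, rfl, h⟩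
  by_cases hf : Cfsg.MemLocalIdeal M (Cfsg.blockCoeff B' g)
  · rw [mul_comm]
    exact MemLocalIdeal.mul_left hM
      (memLocalRing_of_isIntegral hM (isIntegral_centralChar χ g)) hf
  · apply MemLocalIdeal.mul_left hM (osima hM B' hB' g)
    by_contra hω
    have hreg : ¬ p ∣ orderOf g := by
      intro hdiv
      apply hf
      rw [blockCoeff_eq_zero_of_singular hM p hpM B' hB' g hdiv]
      exact memLocalIdeal_zero hM
    have h1 := factorization_centralizer_le_of_blockCoeff hM p hpM B' hB' g hf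
    have h2 := blockDefect_le_of_centralChar hM p hpM B hB χ hχ g hω
    rw [hσ'] at h1
    rw [hσ] at h2
    exact hg' ⟨hreg, le_antisymm h1 h2⟩

/-- **S0962.** -/
theorem card_blocks_defect_ge_le [Finite G] (hM : M.IsMaximal) (p : ℕ) [hp : Fact p.Prime]
    (hpM : (p : Cfsg.AlgInt) ∈ M) (d : ℕ) :
    Nat.card {B : Set (Cfsg.IrrCharacter G) // Cfsg.IsPBlock M B ∧ d ≤ Cfsg.blockDefect p B} ≤
      Nat.card {C : ConjClasses G // ∃ g : G, ConjClasses.mk g = C ∧ Cfsg.IsPRegular p g ∧
        d ≤ (Nat.card (Subgroup.centralizer ({g} : Set G))).factorization p} := by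
  apply card_blocks_le_card_classes hM (fun B => d ≤ Cfsg.blockDefect p B)
  intro B B' hB hσ hB' hσ' χ hχ g hg
  have hg' : ¬ (¬ p ∣ orderOf g ∧
      d ≤ (Nat.card (Subgroup.centralizer ({g} : Set G))).factorization p) :=
    fun h => hg ⟨g, rfl, h⟩
  by_cases hdiv : p ∣ orderOf g
  · rw [blockCoeff_eq_zero_of_singular hM p hpM B' hB' g hdiv, zero_mul]
    exact memLocalIdeal_zero hM
  · apply MemLocalIdeal.mul_left hM (osima hM B' hB' g)
    by_contra hω
    have h2 := blockDefect_le_of_centralChar hM p hpM B hB χ hχ g hω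
    exact hg' ⟨hdiv, hσ.trans h2⟩

end Cfsg.Agent.Helper6
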