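import Mathlib
import Cfsg.Prelude.Def_Characters
import Cfsg.Prelude.Def_Blocks
import Cfsg.Agent.Helper6.LyingOver
import Cfsg.Agent.Helper6.BlockUnion
import Cfsg.Agent.Helper6.IrrOver
import Cfsg.Agent.Helper6.CliffordOrbit
import Cfsg.Agent.Helper6.Expansion
import Cfsg.Agent.Helper6.DefectClass

/-!
# Blocks and orbits of characters of a normal `p'`-subgroup

For a normal subgroup `K` of order prime to `p`, the number of blocks of the group is at least
the number of orbits on the irreducible characters of `K`, which is at least the number of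
conjugacy classes of the group contained in `K`.
-/

set_option autoImplicit false
set_option linter.style.haveILetI false

namespace Cfsg.Agent.Helper6

open scoped ComplexConjugate

universe u

variable {X : Type u} [Group X] {M : Ideal Cfsg.AlgInt}

/-- the orbit relation of the group on the irreducible characters of a normal subgroup -/
def irrOrbitSetoid [Finite X] (K : Subgroup X) [hK : K.Normal] : Setoid (Cfsg.IrrCharacter K) where
  r θ θ' := ∃ x : X, conjIrr K x θ = θ'
  iseqv := ⟨fun θ => ⟨1, conjIrr_one K θ⟩,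
    fun {θ θ'} ⟨x, hx⟩ => ⟨x⁻¹, by rw [← hx, conjIrr_conjIrr, mul_inv_cancel, conjIrr_one]⟩,
    fun {a b c} ⟨x, hx⟩ ⟨y, hy⟩ => ⟨x * y, by rw [← conjIrr_conjIrr, hx, hy]⟩⟩

/-- the blocks of a finite group form a finite type -/
theorem finite_blocks [Finite X] :
    Finite {b : Set (Cfsg.IrrCharacter X) // Cfsg.IsPBlock M b} := by
  haveI : Finite (Cfsg.IrrCharacter X) := irr_finite
  exact Subtype.finite

/-- **the number of orbits on the characters of a normal `p'`-subgroup is at most the number
of blocks** -/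
theorem card_irrOrbits_le_card_blocks [Finite X] (hM : M.IsMaximal) (p : ℕ) (hp : p.Prime)
    (hpM : (p : Cfsg.AlgInt) ∈ M) (K : Subgroup X) [hK : K.Normal] (hpK : ¬ p ∣ Nat.card K) :
    Nat.card (Quotient (irrOrbitSetoid K)) ≤
      Nat.card {b : Set (Cfsg.IrrCharacter X) // Cfsg.IsPBlock M b} := by
  classical
  haveI := Fintype.ofFinite X
  haveI : Fintype K := Fintype.ofFinite K
  haveI : Finite {b : Set (Cfsg.IrrCharacter X) // Cfsg.IsPBlock M b} := finite_blocks
  have hex : ∀ q : Quotient (irrOrbitSetoid K), ∃ χ : Cfsg.IrrCharacter X,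
      Cfsg.classInner (fun n : K => (χ : X → ℂ) n) ((Quotient.out q : Cfsg.IrrCharacter K) : K → ℂ)
        ≠ 0 := fun q => exists_irr_over K (Quotient.out q)
  choose χq hχq using hex
  refine Nat.card_le_card_of_injective
    (fun q => (⟨Cfsg.blockOf M (χq q : X → ℂ), ⟨χq q, rfl⟩⟩ :
      {b : Set (Cfsg.IrrCharacter X) // Cfsg.IsPBlock M b})) ?_
  intro q₁ q₂ h12
  have hb : Cfsg.blockOf M (χq q₁ : X → ℂ) = Cfsg.blockOf M (χq q₂ : X → ℂ) :=
    congrArg Subtype.val h12
  set O : Set (Cfsg.IrrCharacter K) :=
    {θ | (Quotient.mk (irrOrbitSetoid K) θ) = q₁} with hO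
  have hOst : ∀ g : X, ∀ θ ∈ O, conjIrr K g θ ∈ O := by
    intro g θ hθ
    rw [hO, Set.mem_ofPred_eq] at hθ ⊢
    rw [← hθ]
    exact Quotient.sound (s := irrOrbitSetoid K) ⟨g⁻¹, by
      rw [conjIrr_conjIrr, mul_inv_cancel, conjIrr_one]⟩
  have hloc : ∀ g : X, Cfsg.MemLocalRing M (Cfsg.blockCoeff (lyingOver K O) g) := by
    intro g
    rw [blockCoeff_lyingOver K O hOst g]
    by_cases hg : g ∈ K
    · rw [extendByZero_mem K _ hg]
      exact memLocalRing_blockCoeff_of_coprime hM p hp hpM hpK O _
    · rw [extendByZero_not_mem K _ hg]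
      exact memLocalRing_zero hM
  have h1 : χq q₁ ∈ lyingOver K O :=
    ⟨Quotient.out q₁, by rw [hO, Set.mem_ofPred_eq]; exact Quotient.out_eq q₁, hχq q₁⟩
  have hsub := block_subset_of_local M hM (lyingOver K O) hloc (χq q₁) h1
  have h2 : χq q₂ ∈ lyingOver K O := by
    apply hsub
    rw [hb]
    exact mem_blockOf_self hM _
  obtain ⟨θ, hθO, hθ⟩ := h2
  obtain ⟨g, hg⟩ := conj_of_constituents K (χq q₂ : X → ℂ) (χq q₂).2 (θ : K → ℂ) θ.2 hθ
    ((Quotient.out q₂ : Cfsg.IrrCharacter K) : K → ℂ) (Quotient.out q₂).2 (hχq q₂)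
  have hconj : conjIrr K g θ = Quotient.out q₂ := Subtype.ext hg.symm
  rw [hO, Set.mem_ofPred_eq] at hθO
  rw [← hθO, ← Quotient.out_eq q₂]
  exact Quotient.sound (s := irrOrbitSetoid K) ⟨g, hconj⟩

/-- **the number of conjugacy classes of the group contained in a normal subgroup is at most
the number of orbits on the irreducible characters of that subgroup** -/
theorem card_classes_in_normal_le_card_irrOrbits [Finite X] (K : Subgroup X) [hK : K.Normal] :
    Nat.card {C : ConjClasses X // ∃ k ∈ K, ConjClasses.mk k = C} ≤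
      Nat.card (Quotient (irrOrbitSetoid K)) := by
  classical
  haveI := Fintype.ofFinite X
  haveI : Fintype K := Fintype.ofFinite K
  haveI : Finite (Cfsg.IrrCharacter K) := irr_finite
  haveI : Fintype (Cfsg.IrrCharacter K) := Fintype.ofFinite _
  haveI : Fintype {C : ConjClasses X // ∃ k ∈ K, ConjClasses.mk k = C} := Fintype.ofFinite _
  haveI : Fintype (Quotient (irrOrbitSetoid K)) := Fintype.ofFinite _
  set v : {C : ConjClasses X // ∃ k ∈ K, ConjClasses.mk k = C} → (K → ℂ) :=
    fun C k => if ConjClasses.mk (k : X) = C.1 then 1 else 0 with hv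
  set w : Quotient (irrOrbitSetoid K) → (K → ℂ) :=
    fun q => ∑ θ : Cfsg.IrrCharacter K,
      if Quotient.mk (irrOrbitSetoid K) θ = q then (θ : K → ℂ) else 0 with hw
  have hli : LinearIndependent ℂ v := by
    rw [Fintype.linearIndependent_iff]
    intro c hc C
    obtain ⟨k, hkK, hkC⟩ := C.2
    have h1 := congrFun hc ⟨k, hkK⟩
    rw [Finset.sum_apply, Pi.zero_apply] at h1
    rw [Finset.sum_eq_single C] at h1
    · simpa [hv, hkC] using h1
    · intro C' _ hne
      have : ConjClasses.mk k ≠ C'.1 := by
        rw [hkC]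
        exact fun h => hne (Subtype.ext h.symm)
      simp [hv, this]
    · intro h
      exact absurd (Finset.mem_univ _) h
  have hsub : Set.range v ≤ Submodule.span ℂ (Set.range w) := by
    rintro _ ⟨C, rfl⟩
    have hvcf : ∀ x : X, conjFun K (v C) x = v C := by
      intro x
      funext k
      change (if ConjClasses.mk (x * (k : X) * x⁻¹) = C.1 then (1 : ℂ) else 0) =
        if ConjClasses.mk (k : X) = C.1 then 1 else 0
      have : ConjClasses.mk (x * (k : X) * x⁻¹) = ConjClasses.mk (k : X) :=
        ConjClasses.mk_eq_mk_iff_isConj.mpr (isConj_iff.mpr ⟨x⁻¹, by group⟩)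
      rw [this]
    have hcf : Cfsg.IsClassFunction K (v C) := by
      intro k y
      have := congrFun (hvcf (y : X)) k
      exact this
    have hexp := classFunction_expansion (v C) hcf
    have hconst : ∀ θ : Cfsg.IrrCharacter K,
        Cfsg.classInner (v C) (θ : K → ℂ) =
          Cfsg.classInner (v C)
            ((Quotient.out (Quotient.mk (irrOrbitSetoid K) θ) : Cfsg.IrrCharacter K) : K → ℂ) := by
      intro θ
      have hrel : (irrOrbitSetoid K).r θ (Quotient.out (Quotient.mk (irrOrbitSetoid K) θ)) :=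
        Quotient.exact (s := irrOrbitSetoid K) (Quotient.out_eq _).symm
      obtain ⟨x, hx⟩ := hrel
      rw [← hx]
      change _ = Cfsg.classInner (v C) (conjFun K (θ : K → ℂ) x)
      conv_rhs => rw [← hvcf x]
      rw [classInner_conjFun]
    have hsum : v C = ∑ q : Quotient (irrOrbitSetoid K),
        Cfsg.classInner (v C) ((Quotient.out q : Cfsg.IrrCharacter K) : K → ℂ) • w q := by
      conv_lhs => rw [hexp]
      simp only [hw, Finset.smul_sum]
      rw [Finset.sum_comm]
      apply Finset.sum_congr rfl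
      intro θ _
      rw [Finset.sum_eq_single (Quotient.mk (irrOrbitSetoid K) θ)]
      · rw [if_pos rfl, ← hconst θ]
      · intro q _ hq
        rw [if_neg (fun h => hq h.symm), smul_zero]
      · intro h
        exact absurd (Finset.mem_univ _) h
    rw [hsum]
    apply Submodule.sum_mem
    intro q _
    exact Submodule.smul_mem _ _ (Submodule.subset_span (Set.mem_range_self q))
  have h1 := linearIndependent_le_span_aux' v hli (Set.range w) hsub
  have h2 : Fintype.card (Set.range w) ≤ Fintype.card (Quotient (irrOrbitSetoid K)) :=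
    Fintype.card_range_le w
  rw [Nat.card_eq_fintype_card, Nat.card_eq_fintype_card]
  exact h1.trans h2

/-- **the number of blocks is at least the number of conjugacy classes contained in a normal
`p'`-subgroup** -/
theorem card_classes_in_normal_le_card_blocks [Finite X] (hM : M.IsMaximal) (p : ℕ) (hp : p.Prime)
    (hpM : (p : Cfsg.AlgInt) ∈ M) (K : Subgroup X) [hK : K.Normal] (hpK : ¬ p ∣ Nat.card K) :
    Nat.card {C : ConjClasses X // ∃ k ∈ K, ConjClasses.mk k = C} ≤
      Nat.card {b : Set (Cfsg.IrrCharacter X) // Cfsg.IsPBlock M b} :=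
  (card_classes_in_normal_le_card_irrOrbits K).trans
    (card_irrOrbits_le_card_blocks hM p hp hpM K hpK)

end Cfsg.Agent.Helper6
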