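import Mathlib
import Cfsg.Prelude.Def_Characters
import Cfsg.Prelude.Def_Blocks
import Cfsg.Agent.Helper6.SylBlkA
import Cfsg.Agent.Helper6.BrauerIdem
import Cfsg.Agent.Helper6.DefectOrder
import Cfsg.Agent.Helper6.BlockFusionRec1

/-!
# Blocks of a group with a normal Sylow `p`-subgroup
-/

set_option autoImplicit false
set_option linter.style.haveILetI false

namespace Cfsg.Agent.Helper6

open scoped ComplexConjugate

universe u

variable {X : Type u} [Group X] {M : Ideal Cfsg.AlgInt}

/-- every `p`-subgroup lies in a normal Sylow `p`-subgroup -/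
theorem le_normal_sylow [Finite X] {p : ℕ} [hp : Fact p.Prime] (P : Sylow p X)
    [hPn : (P : Subgroup X).Normal] (Q : Subgroup X) (hQ : IsPGroup p Q) : Q ≤ P := by
  obtain ⟨S, hS⟩ := hQ.exists_le_sylow
  haveI := Sylow.unique_of_normal P hPn
  rw [Subsingleton.elim S P] at hS
  exact hS

/-- **the normal `p`-complement of the centralizer of a normal Sylow `p`-subgroup** -/
theorem exists_normal_pPrime_centralizer [Finite X] {p : ℕ} [hp : Fact p.Prime] (P : Sylow p X)
    [hPn : (P : Subgroup X).Normal] :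
    ∃ K : Subgroup X, K.Normal ∧ ¬ p ∣ Nat.card K ∧
      ∀ x : X, x ∈ Subgroup.centralizer ((P : Subgroup X) : Set X) → ¬ p ∣ orderOf x → x ∈ K := by
  classical
  set C : Subgroup X := Subgroup.centralizer ((P : Subgroup X) : Set X) with hC
  haveI hCn : C.Normal := Subgroup.normal_centralizer
  obtain ⟨Z⟩ : Nonempty (Sylow p C) := inferInstance
  have hZP : ∀ z : C, z ∈ Z → (z : X) ∈ (P : Subgroup X) := by
    intro z hz
    have h1 : IsPGroup p ((Z : Subgroup C).map C.subtype) := Z.2.map _
    exact le_normal_sylow P _ h1 ⟨z, hz, rfl⟩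
  have hZ : Subgroup.normalizer ((Z : Subgroup C) : Set C) ≤
      Subgroup.centralizer ((Z : Subgroup C) : Set C) := by
    intro c _
    rw [Subgroup.mem_centralizer_iff]
    intro z hz
    apply Subtype.ext
    have h1 : (c : X) ∈ Subgroup.centralizer ((P : Subgroup X) : Set X) := c.2
    rw [Subgroup.mem_centralizer_iff] at h1
    exact h1 (z : X) (hZP z hz)
  set K' : Subgroup C := (MonoidHom.transferSylow Z hZ).ker with hK'
  have hK'card : ¬ p ∣ Nat.card K' := MonoidHom.not_dvd_card_ker_transferSylow Z hZ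
  have hcompl : Subgroup.IsComplement' K' Z := MonoidHom.ker_transferSylow_isComplement' Z hZ
  have hidx : K'.index = Nat.card Z := hcompl.symm.index_eq_card
  obtain ⟨m, hm⟩ := IsPGroup.iff_card.mp Z.2
  have hmem : ∀ c : C, ¬ p ∣ orderOf c → c ∈ K' := by
    intro c hc
    have h1 : c ^ K'.index ∈ K' := Subgroup.pow_index_mem K' c
    rw [hidx] at h1
    have hcop : (Nat.card Z).Coprime (orderOf c) := by
      rw [hm]
      exact Nat.Coprime.pow_left _ ((Nat.Prime.coprime_iff_not_dvd hp.out).mpr hc)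
    obtain ⟨k, hk⟩ := exists_pow_eq_self_of_coprime hcop
    rw [← hk]
    exact K'.pow_mem h1 k
  set K : Subgroup X := K'.map C.subtype with hK
  have hKcard : ¬ p ∣ Nat.card K := by
    rw [hK, Subgroup.card_map_of_injective (Subgroup.subtype_injective C)]
    exact hK'card
  have hKmem : ∀ x : X, x ∈ C → ¬ p ∣ orderOf x → x ∈ K := by
    intro x hx hox
    refine ⟨⟨x, hx⟩, hmem ⟨x, hx⟩ ?_, rfl⟩
    rw [Subgroup.orderOf_mk]
    exact hox
  refine ⟨K, ⟨?_⟩, hKcard, hKmem⟩
  intro k hk x
  have hkC : k ∈ C := by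
    obtain ⟨c, -, rfl⟩ := hk
    exact c.2
  apply hKmem _ (hCn.conj_mem k hkC x)
  have h1 : orderOf (x * k * x⁻¹) = orderOf k := by
    have := orderOf_injective (MulAut.conj x).toMonoidHom (MulAut.conj x).injective k
    simpa using this
  rw [h1]
  intro hdvd
  exact hKcard (hdvd.trans (orderOf_dvd_natCard (⟨k, hk⟩ : K) |> fun h => by
    rwa [Subgroup.orderOf_mk] at h))

/-- **in a group with a normal Sylow `p`-subgroup every block has that subgroup as its defect
group** -/
theorem isDefectGroup_normal_sylow [Finite X] {p : ℕ} [hp : Fact p.Prime]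
    (hM : Cfsg.IsPModular p M) (P : Sylow p X) [hPn : (P : Subgroup X).Normal]
    (b : Set (Cfsg.IrrCharacter X)) (hb : Cfsg.IsPBlock M b) :
    Cfsg.IsDefectGroup p M b (P : Subgroup X) := by
  obtain ⟨D, hD⟩ := exists_isDefectGroup hM.2.1 p b hb
  have h1 : (P : Subgroup X) ≤ D := normal_pSubgroup_le_defectGroup hM (P : Subgroup X) P.2 b hb D hD
  have hDp : IsPGroup p D := IsPGroup.of_card (card_defectGroup hM.2.1 p hM.2.2 b hb D hD)
  have h2 : D ≤ (P : Subgroup X) := le_normal_sylow P D hDp
  rw [le_antisymm h1 h2]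
  exact hD

/-- **in a group with a normal Sylow `p`-subgroup the number of conjugacy classes of `p`-regular
elements centralizing that subgroup is at most the number of blocks** -/
theorem card_regular_central_classes_le_card_blocks [Finite X] {p : ℕ} [hp : Fact p.Prime]
    (hM : Cfsg.IsPModular p M) (P : Sylow p X) [hPn : (P : Subgroup X).Normal] :
    Nat.card {C : ConjClasses X // ∀ n : X, ConjClasses.mk n = C →
        ¬ p ∣ orderOf n ∧ n ∈ Subgroup.centralizer ((P : Subgroup X) : Set X)} ≤
      Nat.card {b : Set (Cfsg.IrrCharacter X) // Cfsg.IsPBlock M b} := by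
  obtain ⟨K, hKn, hKcard, hKmem⟩ := exists_normal_pPrime_centralizer P
  haveI := hKn
  refine le_trans ?_ (card_classes_in_normal_le_card_blocks hM.2.1 p hp.out hM.2.2 K hKcard)
  refine Nat.card_le_card_of_injective
    (fun C => (⟨C.1, by
      obtain ⟨n, hn⟩ := ConjClasses.exists_rep C.1
      have := C.2 n hn
      exact ⟨n, hKmem n this.2 this.1, hn⟩⟩ :
        {C : ConjClasses X // ∃ k ∈ K, ConjClasses.mk k = C})) ?_
  intro C₁ C₂ h
  have h' : C₁.1 = C₂.1 := congrArg (fun D : {C : ConjClasses X // ∃ k ∈ K, ConjClasses.mk k = C} =>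
    D.1) h
  exact Subtype.ext h'

end Cfsg.Agent.Helper6
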