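import Mathlib
import Cfsg.Prelude.Def_Characters
import Cfsg.Prelude.Def_Blocks
import Cfsg.Agent.Helper6.SylBlkB
import Cfsg.Agent.Helper6.FirstMain
import Cfsg.Agent.Helper6.BlockCount2
import Cfsg.Agent.Helper6.MaximalPairDefect

/-!
# The number of blocks with a Sylow `p`-subgroup as defect group
-/

set_option autoImplicit false
set_option linter.style.haveILetI false

namespace Cfsg.Agent.Helper6

open scoped ComplexConjugate

universe u

variable {G : Type u} [Group G] {M : Ideal Cfsg.AlgInt}

/-- lower bound: classes of the normalizer inject into blocks with defect group `P` -/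
theorem card_sylow_classes_le_card_blocks [Finite G] {p : ℕ} [hp : Fact p.Prime]
    (hM : Cfsg.IsPModular p M) (P : Sylow p G) :
    Nat.card {C : ConjClasses (Subgroup.normalizer ((P : Subgroup G) : Set G)) //
        ∀ n : Subgroup.normalizer ((P : Subgroup G) : Set G), ConjClasses.mk n = C →
          ¬ p ∣ orderOf n ∧ (n : G) ∈ Subgroup.centralizer ((P : Subgroup G) : Set G)} ≤
      Nat.card {B : Set (Cfsg.IrrCharacter G) //
        Cfsg.IsPBlock M B ∧ Cfsg.IsDefectGroup p M B (P : Subgroup G)} := by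
  classical
  set N : Subgroup G := Subgroup.normalizer ((P : Subgroup G) : Set G) with hN
  have hPN : (P : Subgroup G) ≤ N := Subgroup.le_normalizer
  set PN : Sylow p N := P.subtype hPN with hPNdef
  have hcoe : (PN : Subgroup N) = (P : Subgroup G).subgroupOf N := Sylow.coe_subtype P hPN
  haveI hnorm : (PN : Subgroup N).Normal := by
    rw [hcoe]
    exact Subgroup.normal_in_normalizer
  haveI : Finite {B : Set (Cfsg.IrrCharacter G) //
      Cfsg.IsPBlock M B ∧ Cfsg.IsDefectGroup p M B (P : Subgroup G)} := by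
    haveI : Finite (Cfsg.IrrCharacter G) := irr_finite
    exact Subtype.finite
  haveI : Finite {b : Set (Cfsg.IrrCharacter N) // Cfsg.IsPBlock M b} := finite_blocks
  have h1 := card_regular_central_classes_le_card_blocks hM PN
  have hiff : ∀ n : N, n ∈ Subgroup.centralizer ((PN : Subgroup N) : Set N) ↔
      (n : G) ∈ Subgroup.centralizer ((P : Subgroup G) : Set G) := by
    intro n
    rw [Subgroup.mem_centralizer_iff, Subgroup.mem_centralizer_iff]
    constructor
    · intro h u hu
      have hu' : (⟨u, hPN hu⟩ : N) ∈ (PN : Subgroup N) := by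
        rw [hcoe, Subgroup.mem_subgroupOf]
        exact hu
      exact congrArg Subtype.val (h _ hu')
    · intro h q hq
      have hq' : (q : G) ∈ (P : Subgroup G) := by
        have : q ∈ (PN : Subgroup N) := hq
        rw [hcoe, Subgroup.mem_subgroupOf] at this
        exact this
      exact Subtype.ext (h _ hq')
  have h2 : Nat.card {C : ConjClasses N // ∀ n : N, ConjClasses.mk n = C →
        ¬ p ∣ orderOf n ∧ (n : G) ∈ Subgroup.centralizer ((P : Subgroup G) : Set G)} ≤
      Nat.card {b : Set (Cfsg.IrrCharacter N) // Cfsg.IsPBlock M b} := by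
    refine le_trans (le_of_eq ?_) h1
    apply Nat.card_congr
    refine Equiv.subtypeEquivRight ?_
    intro C
    constructor
    · intro h n hn
      exact ⟨(h n hn).1, (hiff n).mpr (h n hn).2⟩
    · intro h n hn
      exact ⟨(h n hn).1, (hiff n).mp (h n hn).2⟩
  refine le_trans h2 ?_
  have hdef : ∀ b : {b : Set (Cfsg.IrrCharacter N) // Cfsg.IsPBlock M b},
      Cfsg.IsDefectGroup p M b.1 ((P : Subgroup G).subgroupOf N) := by
    intro b
    rw [← hcoe]
    exact isDefectGroup_normal_sylow hM PN b.1 b.2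
  have hex : ∀ b : {b : Set (Cfsg.IrrCharacter N) // Cfsg.IsPBlock M b},
      ∃ B : Set (Cfsg.IrrCharacter G), Cfsg.IsPBlock M B ∧
        Cfsg.IsDefectGroup p M B (P : Subgroup G) ∧ Cfsg.IsInducedBlock M N b.1 B :=
    fun b => firstMain_i hM (P : Subgroup G) P.2 b.1 b.2 (hdef b)
  choose Bf hBf using hex
  refine Nat.card_le_card_of_injective
    (fun b => (⟨Bf b, (hBf b).1, (hBf b).2.1⟩ : {B : Set (Cfsg.IrrCharacter G) //
      Cfsg.IsPBlock M B ∧ Cfsg.IsDefectGroup p M B (P : Subgroup G)})) ?_
  intro b₁ b₂ h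
  have h' : Bf b₁ = Bf b₂ := congrArg (fun D : {B : Set (Cfsg.IrrCharacter G) //
      Cfsg.IsPBlock M B ∧ Cfsg.IsDefectGroup p M B (P : Subgroup G)} => D.1) h
  have hi₂ := (hBf b₂).2.2
  rw [← h'] at hi₂
  exact Subtype.ext (firstMain_ii_unique hM (P : Subgroup G) P.2 (Bf b₁) b₁.1 b₂.1
    (hdef b₁) (hdef b₂) (hBf b₁).2.2 hi₂)

/-- a `p`-regular element whose centralizer has full `p`-part is conjugate to an element
centralizing the given Sylow `p`-subgroup -/
theorem exists_conj_centralizing_sylow [Finite G] {p : ℕ} [hp : Fact p.Prime] (P : Sylow p G)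
    (g : G) (hg : (Nat.card (Subgroup.centralizer ({g} : Set G))).factorization p =
      (Nat.card G).factorization p) :
    ∃ x : G, x * g * x⁻¹ ∈ Subgroup.centralizer ((P : Subgroup G) : Set G) := by
  classical
  obtain ⟨S⟩ : Nonempty (Sylow p (Subgroup.centralizer ({g} : Set G))) := inferInstance
  set S' : Subgroup G := (S : Subgroup _).map (Subgroup.centralizer ({g} : Set G)).subtype
    with hS'
  have hS'card : Nat.card S' = p ^ (Nat.card G).factorization p := by
    rw [hS', card_sylow_map, hg]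
  have hS'p : IsPGroup p S' := IsPGroup.of_card hS'card
  obtain ⟨Q, hQ⟩ := hS'p.exists_le_sylow
  have hQcard : Nat.card Q = p ^ (Nat.card G).factorization p := Sylow.card_eq_multiplicity Q
  have hSQ : S' = (Q : Subgroup G) :=
    Subgroup.eq_of_le_of_card_ge hQ (by rw [hS'card, hQcard])
  obtain ⟨x, hx⟩ := MulAction.exists_smul_eq G Q P
  refine ⟨x, ?_⟩
  rw [Subgroup.mem_centralizer_iff]
  intro u hu
  have hu' : u ∈ ((x • Q : Sylow p G) : Subgroup G) := by rw [hx]; exact hu
  rw [Sylow.coe_subgroup_smul, Subgroup.mem_pointwise_smul_iff_inv_smul_mem] at hu'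
  have h1 : x⁻¹ * u * x ∈ (Q : Subgroup G) := by
    simpa [MulAut.smul_def] using hu'
  rw [← hSQ] at h1
  have h2 : x⁻¹ * u * x ∈ Subgroup.centralizer ({g} : Set G) := sylow_map_le S h1
  have h3 : g * (x⁻¹ * u * x) = x⁻¹ * u * x * g :=
    (Subgroup.mem_centralizer_singleton_iff.mp h2).symm
  have h4 : u * (x * g * x⁻¹) = x * (x⁻¹ * u * x * g) * x⁻¹ := by group
  have h5 : x * g * x⁻¹ * u = x * (g * (x⁻¹ * u * x)) * x⁻¹ := by group
  rw [h4, h5, h3]

/-- upper bound: blocks with defect group `P` inject into classes of the normalizer -/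
theorem card_blocks_sylow_le_card_classes [Finite G] {p : ℕ} [hp : Fact p.Prime]
    (hM : Cfsg.IsPModular p M) (P : Sylow p G) :
    Nat.card {B : Set (Cfsg.IrrCharacter G) //
        Cfsg.IsPBlock M B ∧ Cfsg.IsDefectGroup p M B (P : Subgroup G)} ≤
      Nat.card {C : ConjClasses (Subgroup.normalizer ((P : Subgroup G) : Set G)) //
        ∀ n : Subgroup.normalizer ((P : Subgroup G) : Set G), ConjClasses.mk n = C →
          ¬ p ∣ orderOf n ∧ (n : G) ∈ Subgroup.centralizer ((P : Subgroup G) : Set G)} := by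
  classical
  set N : Subgroup G := Subgroup.normalizer ((P : Subgroup G) : Set G) with hN
  set a : ℕ := (Nat.card G).factorization p with ha
  haveI : Finite {B : Set (Cfsg.IrrCharacter G) //
      Cfsg.IsPBlock M B ∧ Cfsg.blockDefect p B = a} := by
    haveI : Finite (Cfsg.IrrCharacter G) := irr_finite
    exact Subtype.finite
  have h1 : Nat.card {B : Set (Cfsg.IrrCharacter G) //
        Cfsg.IsPBlock M B ∧ Cfsg.IsDefectGroup p M B (P : Subgroup G)} ≤
      Nat.card {B : Set (Cfsg.IrrCharacter G) //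
        Cfsg.IsPBlock M B ∧ Cfsg.blockDefect p B = a} := by
    refine Nat.card_le_card_of_injective
      (fun B => (⟨B.1, B.2.1, ?_⟩ : {B : Set (Cfsg.IrrCharacter G) //
        Cfsg.IsPBlock M B ∧ Cfsg.blockDefect p B = a})) ?_
    · have hc := card_defectGroup hM.2.1 p hM.2.2 B.1 B.2.1 _ B.2.2
      have hc' : Nat.card (P : Subgroup G) = p ^ a := Sylow.card_eq_multiplicity P
      rw [hc'] at hc
      exact (Nat.pow_right_injective hp.out.two_le hc).symm
    · intro B₁ B₂ h
      have h' : B₁.1 = B₂.1 := congrArg (fun D : {B : Set (Cfsg.IrrCharacter G) //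
        Cfsg.IsPBlock M B ∧ Cfsg.blockDefect p B = a} => D.1) h
      exact Subtype.ext h'
  refine le_trans h1 (le_trans (card_blocks_defect_eq_le hM.2.1 p hM.2.2 a) ?_)
  haveI : Finite {C : ConjClasses N // ∀ n : N, ConjClasses.mk n = C →
      ¬ p ∣ orderOf n ∧ (n : G) ∈ Subgroup.centralizer ((P : Subgroup G) : Set G)} :=
    Subtype.finite
  have hex : ∀ C : {C : ConjClasses G // ∃ g : G, ConjClasses.mk g = C ∧ ¬ p ∣ orderOf g ∧
      (Nat.card (Subgroup.centralizer ({g} : Set G))).factorization p = a},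
      ∃ g' : G, ConjClasses.mk g' = C.1 ∧ ¬ p ∣ orderOf g' ∧
        g' ∈ Subgroup.centralizer ((P : Subgroup G) : Set G) := by
    intro C
    obtain ⟨g, hgC, hgo, hga⟩ := C.2
    obtain ⟨x, hx⟩ := exists_conj_centralizing_sylow P g hga
    refine ⟨x * g * x⁻¹, ?_, ?_, hx⟩
    · rw [← hgC]
      exact ConjClasses.mk_eq_mk_iff_isConj.mpr (isConj_iff.mpr ⟨x⁻¹, by group⟩)
    · have h1 : orderOf (x * g * x⁻¹) = orderOf g := by
        have := orderOf_injective (MulAut.conj x).toMonoidHom (MulAut.conj x).injective g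
        simpa using this
      rw [h1]
      exact hgo
  choose g' hg' using hex
  have hg'N : ∀ C, g' C ∈ N := fun C =>
    Subgroup.centralizer_le_normalizer _ (hg' C).2.2
  refine Nat.card_le_card_of_injective
    (fun C => (⟨ConjClasses.mk (⟨g' C, hg'N C⟩ : N), ?_⟩ :
      {C : ConjClasses N // ∀ n : N, ConjClasses.mk n = C →
        ¬ p ∣ orderOf n ∧ (n : G) ∈ Subgroup.centralizer ((P : Subgroup G) : Set G)})) ?_
  · intro n hn
    obtain ⟨y, hy⟩ := isConj_iff.mp (ConjClasses.mk_eq_mk_iff_isConj.mp hn)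
    have hyG : (y : G) * (n : G) * (y : G)⁻¹ = g' C := by
      have := congrArg Subtype.val hy
      simpa using this
    constructor
    · have h1 : orderOf n = orderOf (g' C) := by
        rw [← Subgroup.orderOf_coe n, ← hyG]
        have := orderOf_injective (MulAut.conj (y : G)).toMonoidHom
          (MulAut.conj (y : G)).injective (n : G)
        simpa using this.symm
      rw [h1]
      exact (hg' C).2.1
    · have hn' : (n : G) = (y : G)⁻¹ * g' C * (y : G) := by rw [← hyG]; group
      rw [hn', Subgroup.mem_centralizer_iff]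
      intro u hu
      have hyN : (y : G)⁻¹ ∈ N := N.inv_mem y.2
      have hu' : (y : G) * u * (y : G)⁻¹ ∈ (P : Subgroup G) := by
        have := (Subgroup.mem_normalizer_iff.mp y.2 u).mp hu
        exact this
      have hc := Subgroup.mem_centralizer_iff.mp (hg' C).2.2 _ hu'
      have e1 : u * ((y : G)⁻¹ * g' C * (y : G)) =
          (y : G)⁻¹ * ((y : G) * u * (y : G)⁻¹ * g' C) * (y : G) := by group
      have e2 : (y : G)⁻¹ * g' C * (y : G) * u =
          (y : G)⁻¹ * (g' C * ((y : G) * u * (y : G)⁻¹)) * (y : G) := by group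
      rw [e1, e2, hc]
  · intro C₁ C₂ h
    have h' : ConjClasses.mk (⟨g' C₁, hg'N C₁⟩ : N) = ConjClasses.mk (⟨g' C₂, hg'N C₂⟩ : N) :=
      congrArg (fun D : {C : ConjClasses N // ∀ n : N, ConjClasses.mk n = C →
        ¬ p ∣ orderOf n ∧ (n : G) ∈ Subgroup.centralizer ((P : Subgroup G) : Set G)} => D.1) h
    obtain ⟨y, hy⟩ := isConj_iff.mp (ConjClasses.mk_eq_mk_iff_isConj.mp h')
    have hyG : (y : G) * g' C₁ * (y : G)⁻¹ = g' C₂ := by
      have := congrArg Subtype.val hy
      simpa using this
    apply Subtype.ext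
    rw [← (hg' C₁).1, ← (hg' C₂).1]
    exact ConjClasses.mk_eq_mk_iff_isConj.mpr (isConj_iff.mpr ⟨y, hyG⟩)

/-- **the number of blocks with a Sylow `p`-subgroup `P` as defect group is the number of classes
of `p`-regular elements of `N_G(P)` centralizing `P`** -/
theorem card_blocks_sylow_eq [Finite G] {p : ℕ} [hp : Fact p.Prime]
    (hM : Cfsg.IsPModular p M) (P : Sylow p G) :
    Nat.card {B : Set (Cfsg.IrrCharacter G) //
        Cfsg.IsPBlock M B ∧ Cfsg.IsDefectGroup p M B (P : Subgroup G)} =
      Nat.card {C : ConjClasses (Subgroup.normalizer ((P : Subgroup G) : Set G)) //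
        ∀ n : Subgroup.normalizer ((P : Subgroup G) : Set G), ConjClasses.mk n = C →
          ¬ p ∣ orderOf n ∧ (n : G) ∈ Subgroup.centralizer ((P : Subgroup G) : Set G)} :=
  le_antisymm (card_blocks_sylow_le_card_classes hM P) (card_sylow_classes_le_card_blocks hM P)

end Cfsg.Agent.Helper6
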