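import Mathlib
import Cfsg.Prelude.Def_Characters
import Cfsg.Prelude.Def_Blocks
import Cfsg.Agent.Helper6.Brauer11
import Cfsg.Agent.Helper6.Involutions
import Cfsg.Agent.Helper6.Degrees
import Cfsg.Agent.Helper6.Codegree
import Cfsg.Agent.Helper6.IrrDegree
import Cfsg.Agent.Helper6.ColumnOrth

/-!
# Irreducible characters of defect zero for 2 and involutions
-/

set_option autoImplicit false
set_option linter.style.haveILetI false

namespace Cfsg.Agent.Helper6

open Module Representation
open scoped ComplexConjugate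

universe u v

variable {G : Type u} [Group G]

/-- Vanishing on `p`-singular elements, phrased with factorizations and `charDegree`. -/
theorem irr_vanish_of_factorization [Fintype G] (χ : Cfsg.IrrCharacter G) {p : ℕ} (hp : p.Prime)
    (hdvd : p ^ (Nat.card G).factorization p ∣ Cfsg.charDegree (χ : G → ℂ)) (x : G)
    (hx : p ∣ orderOf x) : (χ : G → ℂ) x = 0 := by
  obtain ⟨n, ρ, hirr, hρ⟩ := χ.2
  haveI := hirr
  haveI : Fact p.Prime := ⟨hp⟩
  have hcard : Nat.card G ≠ 0 := Nat.card_pos.ne'
  rw [← hρ, charDegree_rep] at hdvd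
  rw [← hρ]
  apply defect_zero_vanish ρ p ((Nat.card G).factorization p) (Nat.ordProj_dvd _ _)
    (Nat.pow_succ_factorization_not_dvd hcard hp) _ x hx
  rw [Module.finrank_fin_fun]
  exact hdvd

/-- Squaring permutes the elements of odd order. -/
theorem sum_sq_odd [Fintype G] [DecidableEq G] (f : G → ℂ) :
    ∑ g ∈ Finset.univ.filter (fun g : G => Odd (orderOf g)), f (g * g) =
      ∑ g ∈ Finset.univ.filter (fun g : G => Odd (orderOf g)), f g := by
  apply Finset.sum_nbij' (fun g => g * g) (fun y => y ^ ((orderOf y + 1) / 2))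
  · intro g hg
    rw [Finset.mem_filter] at hg ⊢
    refine ⟨Finset.mem_univ _, ?_⟩
    rw [← pow_two]
    exact Odd.of_dvd_nat hg.2 (orderOf_pow_dvd 2)
  · intro y hy
    rw [Finset.mem_filter] at hy ⊢
    refine ⟨Finset.mem_univ _, ?_⟩
    exact Odd.of_dvd_nat hy.2 (orderOf_pow_dvd _)
  · intro g hg
    rw [Finset.mem_filter] at hg
    obtain ⟨k, hk⟩ := hg.2
    have hcop : (orderOf g).Coprime 2 := Nat.coprime_two_right.mpr hg.2
    have ho : orderOf (g * g) = orderOf g := by
      rw [← pow_two]
      exact hcop.orderOf_pow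
    show (g * g) ^ ((orderOf (g * g) + 1) / 2) = g
    rw [ho, ← pow_two, ← pow_mul]
    have : 2 * ((orderOf g + 1) / 2) = orderOf g + 1 := by omega
    rw [this, pow_succ, pow_orderOf_eq_one, one_mul]
  · intro y hy
    rw [Finset.mem_filter] at hy
    obtain ⟨k, hk⟩ := hy.2
    show y ^ ((orderOf y + 1) / 2) * y ^ ((orderOf y + 1) / 2) = y
    rw [← pow_add]
    have : (orderOf y + 1) / 2 + (orderOf y + 1) / 2 = orderOf y + 1 := by omega
    rw [this, pow_succ, pow_orderOf_eq_one, one_mul]
  · intro g _
    rfl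

/-- The square of an element of even order is either the identity, has even order, or has
order divisible by an odd prime `p` such that the group has an element of order `2p`. -/
theorem sq_even_cases [Finite G] (g : G) (hev : 2 ∣ orderOf g) (hne : g * g ≠ 1) :
    2 ∣ orderOf (g * g) ∨ ∃ p : ℕ, p.Prime ∧ p ≠ 2 ∧ (∃ x : G, orderOf x = 2 * p) ∧
      p ∣ orderOf (g * g) := by
  obtain ⟨m, hm⟩ := hev
  have hpos : 0 < orderOf g := orderOf_pos g
  have hm0 : m ≠ 0 := by rintro rfl; omega
  have ho : orderOf (g * g) = m := by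
    rw [← pow_two, orderOf_pow_of_dvd two_ne_zero ⟨m, hm⟩, hm]
    simp
  by_cases h2 : 2 ∣ m
  · left; rw [ho]; exact h2
  right
  have hm1 : m ≠ 1 := by
    rintro rfl
    apply hne
    rw [← orderOf_eq_one_iff, ho]
  have hpm := Nat.minFac_dvd m
  have hpp := Nat.minFac_prime hm1
  generalize m.minFac = p at hpm hpp
  refine ⟨p, hpp, ?_, ?_, ?_⟩
  · intro h
    apply h2
    rw [← h]
    exact hpm
  · obtain ⟨k, hk⟩ := hpm
    have hk0 : k ≠ 0 := by rintro rfl; rw [mul_zero] at hk; exact hm0 hk
    refine ⟨g ^ k, ?_⟩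
    have hdvd : k ∣ orderOf g := ⟨2 * p, by rw [hm, hk]; ring⟩
    rw [orderOf_pow_of_dvd hk0 hdvd, hm]
    apply Nat.div_eq_of_eq_mul_left (Nat.pos_of_ne_zero hk0)
    rw [hk]
    ring
  · rw [ho]
    exact hpm

/-- An odd-order nonidentity element commuting with an involution yields an element of order
`2p` for a prime `p` dividing its order. -/
theorem exists_order_two_mul_prime (s u : G) (hs : orderOf s = 2) (hsu : Commute s u)
    (hu1 : u ≠ 1) (hodd : ¬ 2 ∣ orderOf u) :
    ∃ p : ℕ, p.Prime ∧ p ≠ 2 ∧ (∃ x : G, orderOf x = 2 * p) ∧ p ∣ orderOf u := by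
  have ho1 : orderOf u ≠ 1 := by
    intro h
    exact hu1 (orderOf_eq_one_iff.mp h)
  have hpm := Nat.minFac_dvd (orderOf u)
  have hpp := Nat.minFac_prime ho1
  generalize (orderOf u).minFac = p at hpm hpp
  have hp2 : p ≠ 2 := by
    rintro rfl
    exact hodd hpm
  refine ⟨p, hpp, hp2, ?_, hpm⟩
  obtain ⟨k, hk⟩ := hpm
  have hk0 : k ≠ 0 := by rintro rfl; rw [mul_zero] at hk; omega
  have hw : orderOf (u ^ k) = p := by
    rw [orderOf_pow_of_dvd hk0 ⟨p, by rw [hk]; ring⟩]
    apply Nat.div_eq_of_eq_mul_left (Nat.pos_of_ne_zero hk0)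
    rw [hk]
  refine ⟨s * u ^ k, ?_⟩
  rw [(hsu.pow_right k).orderOf_mul_eq_mul_orderOf_of_coprime, hs, hw]
  rw [hs, hw]
  exact (Nat.coprime_primes Nat.prime_two hpp).mpr (Ne.symm hp2)

/-- Core computation: a character vanishing on all `2`-singular elements and on the
`p`-singular elements for the odd primes `p` with an element of order `2p` has
Frobenius–Schur indicator one, and the number of involutions times the degree is the group
order. -/
theorem defect_zero_involution_core [Fintype G] [DecidableEq G] (χ : Cfsg.IrrCharacter G)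
    (heven : Even (Nat.card G))
    (hv2 : ∀ x : G, 2 ∣ orderOf x → (χ : G → ℂ) x = 0)
    (hvp : ∀ p : ℕ, p.Prime → p ≠ 2 → (∃ g : G, orderOf g = 2 * p) →
      ∀ x : G, p ∣ orderOf x → (χ : G → ℂ) x = 0) :
    fsIndFun (χ : G → ℂ) = 1 ∧ ∃ d : ℕ, (χ : G → ℂ) 1 = d ∧ 0 < d ∧
      (Finset.univ.filter (fun g : G => orderOf g = 2)).card * d = Nat.card G := by
  classical
  obtain ⟨d, hdpos, hd⟩ := IsIrrCharacter.apply_one_pos χ.2
  have hG0 : (Nat.card G : ℂ) ≠ 0 := Nat.cast_ne_zero.mpr Nat.card_pos.ne'
  -- an involution exists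
  haveI : Fact (Nat.Prime 2) := ⟨Nat.prime_two⟩
  obtain ⟨t, ht⟩ := exists_prime_orderOf_dvd_card' (G := G) 2 heven.two_dvd
  have hipos : 0 < (Finset.univ.filter (fun g : G => orderOf g = 2)).card :=
    Finset.card_pos.mpr ⟨t, Finset.mem_filter.mpr ⟨Finset.mem_univ _, ht⟩⟩
  -- χ is not the trivial character
  have hne : (χ : G → ℂ) ≠ fun _ => 1 := by
    intro h
    have h1 := hv2 t (by rw [ht])
    rw [h] at h1
    exact one_ne_zero h1
  have hsum0 : ∑ g : G, (χ : G → ℂ) g = 0 := by
    have h1 := classInner_irr_ne χ.2 (isIrrCharacter_one (G := G)) hne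
    rw [classInner_def] at h1
    simp only [map_one, mul_one] at h1
    rcases mul_eq_zero.mp h1 with h2 | h2
    · exact absurd (inv_eq_zero.mp h2) hG0
    · exact h2
  have hnotodd : ∀ g : G, ¬ Odd (orderOf g) → 2 ∣ orderOf g := by
    intro g hg
    exact (Nat.not_odd_iff_even.mp hg).two_dvd
  -- the sum over odd-order elements
  have hodd_sum : ∑ g ∈ Finset.univ.filter (fun g : G => Odd (orderOf g)),
      (χ : G → ℂ) (g * g) = 0 := by
    rw [sum_sq_odd]
    have h1 := Finset.sum_filter_add_sum_filter_not Finset.univ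
      (fun g : G => Odd (orderOf g)) (fun g => (χ : G → ℂ) g)
    rw [hsum0] at h1
    have h2 : ∑ g ∈ Finset.univ.filter (fun g : G => ¬ Odd (orderOf g)),
        (χ : G → ℂ) g = 0 := by
      apply Finset.sum_eq_zero
      intro g hg
      exact hv2 g (hnotodd g (Finset.mem_filter.mp hg).2)
    rw [h2, add_zero] at h1
    exact h1
  -- the sum over even-order elements
  have heven_sum : ∑ g ∈ Finset.univ.filter (fun g : G => ¬ Odd (orderOf g)),
      (χ : G → ℂ) (g * g) =
      ((Finset.univ.filter (fun g : G => orderOf g = 2)).card : ℂ) * d := by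
    have h1 : ∀ g ∈ Finset.univ.filter (fun g : G => ¬ Odd (orderOf g)),
        (χ : G → ℂ) (g * g) = if orderOf g = 2 then (d : ℂ) else 0 := by
      intro g hg
      have hg2 := hnotodd g (Finset.mem_filter.mp hg).2
      split_ifs with h2
      · have : g * g = 1 := by
          rw [← pow_two, ← h2, pow_orderOf_eq_one]
        rw [this, hd]
      · have hgg : g * g ≠ 1 := by
          intro h
          apply h2
          have h3 : orderOf g ∣ 2 := by
            apply orderOf_dvd_of_pow_eq_one
            rw [pow_two, h]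
          have h4 : orderOf g ≤ 2 := Nat.le_of_dvd (by norm_num) h3
          have h5 : 0 < orderOf g := orderOf_pos g
          obtain ⟨m, hm⟩ := hg2
          omega
        rcases sq_even_cases g hg2 hgg with h3 | ⟨p, hp, hp2, hex, hpd⟩
        · exact hv2 _ h3
        · exact hvp p hp hp2 hex _ hpd
    have hfilt : Finset.univ.filter (fun g : G => ¬ Odd (orderOf g) ∧ orderOf g = 2) =
        Finset.univ.filter (fun g : G => orderOf g = 2) := by
      ext g
      simp only [Finset.mem_filter, Finset.mem_univ, true_and]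
      constructor
      · rintro ⟨_, h⟩
        exact h
      · intro h
        refine ⟨?_, h⟩
        rw [h]
        decide
    rw [Finset.sum_congr rfl h1, ← Finset.sum_filter, Finset.filter_filter, Finset.sum_const,
      nsmul_eq_mul, hfilt]
  have htotal : ∑ g : G, (χ : G → ℂ) (g * g) =
      ((Finset.univ.filter (fun g : G => orderOf g = 2)).card : ℂ) * d := by
    rw [← Finset.sum_filter_add_sum_filter_not Finset.univ (fun g : G => Odd (orderOf g)),
      hodd_sum, heven_sum, zero_add]
  have hfs : fsIndFun (χ : G → ℂ) = (Nat.card G : ℂ)⁻¹ *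
      (((Finset.univ.filter (fun g : G => orderOf g = 2)).card * d : ℕ) : ℂ) := by
    unfold fsIndFun
    rw [htotal]
    push_cast
    rfl
  have hidpos : 0 < (Finset.univ.filter (fun g : G => orderOf g = 2)).card * d :=
    Nat.mul_pos hipos hdpos
  have hcases : fsIndFun (χ : G → ℂ) = 1 ∨ fsIndFun (χ : G → ℂ) = -1 ∨
      fsIndFun (χ : G → ℂ) = 0 := by
    rcases irr_fs_cases χ with ⟨_, h | h⟩ | ⟨_, h⟩
    · exact Or.inl h
    · exact Or.inr (Or.inl h)
    · exact Or.inr (Or.inr h)
  rcases hcases with h | h | h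
  · refine ⟨h, d, hd, hdpos, ?_⟩
    rw [hfs] at h
    have h2 : (((Finset.univ.filter (fun g : G => orderOf g = 2)).card * d : ℕ) : ℂ) =
        (Nat.card G : ℂ) := by
      field_simp at h
      exact h
    exact_mod_cast h2
  · exfalso
    rw [hfs] at h
    have h2 : (((Finset.univ.filter (fun g : G => orderOf g = 2)).card * d + Nat.card G : ℕ) : ℂ)
        = 0 := by
      field_simp at h
      push_cast at h ⊢
      rw [h]
      ring
    have h3 : (Finset.univ.filter (fun g : G => orderOf g = 2)).card * d + Nat.card G = 0 := by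
      exact_mod_cast h2
    omega
  · exfalso
    rw [hfs] at h
    rcases mul_eq_zero.mp h with h2 | h2
    · exact absurd (inv_eq_zero.mp h2) hG0
    · have h3 : (Finset.univ.filter (fun g : G => orderOf g = 2)).card * d = 0 := by
        exact_mod_cast h2
      omega

/-- Main theorem on characters of defect zero for `2` and for the odd primes `p` such that
there is an element of order `2p`. -/
theorem defect_zero_involution_main [Fintype G] (heven : Even (Nat.card G))
    (χ : Cfsg.IrrCharacter G)
    (h2 : 2 ^ (Nat.card G).factorization 2 ∣ Cfsg.charDegree (χ : G → ℂ))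
    (hp : ∀ p : ℕ, p.Prime → p ≠ 2 → (∃ g : G, orderOf g = 2 * p) →
      p ^ (Nat.card G).factorization p ∣ Cfsg.charDegree (χ : G → ℂ)) :
    (∀ s t : G, orderOf s = 2 → orderOf t = 2 → IsConj s t) ∧
    (∀ s : G, orderOf s = 2 →
      Nat.card (Subgroup.centralizer ({s} : Set G)) = Cfsg.charDegree (χ : G → ℂ) ∧
      (Nat.card (Subgroup.centralizer ({s} : Set G))).Coprime
        (Subgroup.centralizer ({s} : Set G)).index) ∧
    (Nat.card G : ℂ)⁻¹ * ∑ g : G, (χ : G → ℂ) (g * g) = 1 := by
  classical
  have hv2 : ∀ x : G, 2 ∣ orderOf x → (χ : G → ℂ) x = 0 :=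
    fun x hx => irr_vanish_of_factorization χ Nat.prime_two h2 x hx
  have hvp : ∀ p : ℕ, p.Prime → p ≠ 2 → (∃ g : G, orderOf g = 2 * p) →
      ∀ x : G, p ∣ orderOf x → (χ : G → ℂ) x = 0 :=
    fun p hpp hp2 hex x hx => irr_vanish_of_factorization χ hpp (hp p hpp hp2 hex) x hx
  obtain ⟨hfs, d, hd, hdpos, hid⟩ := defect_zero_involution_core χ heven hv2 hvp
  have hdeg : Cfsg.charDegree (χ : G → ℂ) = d := by
    unfold Cfsg.charDegree
    rw [hd]
    simp
  have key : ∀ s : G, orderOf s = 2 →
      Nat.card (Subgroup.centralizer ({s} : Set G)) = d ∧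
        ∀ t : G, orderOf t = 2 → IsConj s t := by
    intro s hs
    have hvan : ∀ g : G, g ∈ Subgroup.centralizer ({s} : Set G) → g ≠ 1 →
        (χ : G → ℂ) g = 0 := by
      intro u hu hu1
      by_cases h2u : 2 ∣ orderOf u
      · exact hv2 u h2u
      · have hsu : Commute s u := (Subgroup.mem_centralizer_iff.mp hu) s rfl
        obtain ⟨p, hpp, hp2, hex, hpd⟩ := exists_order_two_mul_prime s u hs hsu hu1 h2u
        exact hvp p hpp hp2 hex u hpd
    obtain ⟨k, hk⟩ := card_dvd_degree_of_vanishing (Subgroup.centralizer ({s} : Set G))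
      (χ : G → ℂ) (IsIrrCharacter.isCharacter χ.2) hvan
    have hk' : d = Nat.card (Subgroup.centralizer ({s} : Set G)) * k := by
      rw [hd] at hk
      exact_mod_cast hk
    have hcc := card_conj_mul_card_centralizer s
    have hsub : Finset.univ.filter (fun x : G => IsConj s x) ⊆
        Finset.univ.filter (fun g : G => orderOf g = 2) := by
      intro x hx
      rw [Finset.mem_filter] at hx ⊢
      refine ⟨Finset.mem_univ _, ?_⟩
      obtain ⟨c, hc⟩ := isConj_iff.mp hx.2
      rw [← hc, ← MulAut.conj_apply, MulEquiv.orderOf_eq]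
      exact hs
    have hcard_class : Nat.card {x : G // IsConj s x} =
        (Finset.univ.filter (fun x : G => IsConj s x)).card := by
      rw [Nat.card_eq_fintype_card, Fintype.card_subtype]
    have hle := Finset.card_le_card hsub
    have hcpos : 0 < Nat.card (Subgroup.centralizer ({s} : Set G)) := Nat.card_pos
    have hkpos : 0 < k := by
      rcases Nat.eq_zero_or_pos k with h | h
      · rw [h, mul_zero] at hk'
        omega
      · exact h
    have hipos : 0 < (Finset.univ.filter (fun g : G => orderOf g = 2)).card :=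
      Finset.card_pos.mpr ⟨s, Finset.mem_filter.mpr ⟨Finset.mem_univ _, hs⟩⟩
    have h1 : (Finset.univ.filter (fun x : G => IsConj s x)).card *
        Nat.card (Subgroup.centralizer ({s} : Set G)) =
        ((Finset.univ.filter (fun g : G => orderOf g = 2)).card * k) *
          Nat.card (Subgroup.centralizer ({s} : Set G)) := by
      rw [← hcard_class, hcc, ← hid, hk']
      ring
    have h3 : (Finset.univ.filter (fun x : G => IsConj s x)).card =
        (Finset.univ.filter (fun g : G => orderOf g = 2)).card * k :=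
      Nat.eq_of_mul_eq_mul_right hcpos h1
    have hk1 : k = 1 := by
      have h4 : (Finset.univ.filter (fun g : G => orderOf g = 2)).card * k ≤
          (Finset.univ.filter (fun g : G => orderOf g = 2)).card * 1 := by
        rw [← h3, mul_one]
        exact hle
      have := Nat.le_of_mul_le_mul_left h4 hipos
      omega
    rw [hk1, mul_one] at hk' h3
    refine ⟨hk'.symm, ?_⟩
    intro t ht
    have heq := Finset.eq_of_subset_of_card_le hsub (le_of_eq h3.symm)
    have htm : t ∈ Finset.univ.filter (fun g : G => orderOf g = 2) :=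
      Finset.mem_filter.mpr ⟨Finset.mem_univ _, ht⟩
    rw [← heq] at htm
    exact (Finset.mem_filter.mp htm).2
  refine ⟨fun s t hs ht => (key s hs).2 t ht, ?_, hfs⟩
  intro s hs
  obtain ⟨hc, -⟩ := key s hs
  refine ⟨by rw [hc, hdeg], ?_⟩
  apply Nat.coprime_of_dvd'
  intro p hpp hpc hpi
  exfalso
  have hcard : Nat.card G ≠ 0 := Nat.card_pos.ne'
  have hpow : p ^ (Nat.card G).factorization p ∣
      Nat.card (Subgroup.centralizer ({s} : Set G)) := by
    rw [hc, ← hdeg]
    by_cases hp2 : p = 2
    · subst hp2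
      exact h2
    · apply hp p hpp hp2
      haveI : Fact p.Prime := ⟨hpp⟩
      obtain ⟨w, hw⟩ := exists_prime_orderOf_dvd_card'
        (G := Subgroup.centralizer ({s} : Set G)) p hpc
      have hw' : orderOf (w : G) = p := by rw [Subgroup.orderOf_coe, hw]
      have hsw : Commute s (w : G) := (Subgroup.mem_centralizer_iff.mp w.2) s rfl
      refine ⟨s * (w : G), ?_⟩
      rw [hsw.orderOf_mul_eq_mul_orderOf_of_coprime, hs, hw']
      rw [hs, hw']
      exact (Nat.coprime_primes Nat.prime_two hpp).mpr (Ne.symm hp2)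
  have hdvd : p ^ ((Nat.card G).factorization p + 1) ∣ Nat.card G := by
    have h5 := Nat.mul_dvd_mul hpow hpi
    rw [Subgroup.card_mul_index] at h5
    rw [pow_succ]
    exact h5
  exact Nat.pow_succ_factorization_not_dvd hcard hpp hdvd

end Cfsg.Agent.Helper6
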