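import Mathlib
import Cfsg.Prelude.Def_Characters
import Cfsg.Agent.Helper6.CharBasic
import Cfsg.Agent.Helper6.RepEigen

/-!
# The Burnside–Brauer theorem
-/

set_option autoImplicit false
set_option linter.style.haveILetI false

namespace Cfsg.Agent.Helper6

open Module Representation
open scoped ComplexConjugate

universe u v

variable {G : Type u} [Group G]

theorem burnside_brauer [Fintype G] {V : Type v} [AddCommGroup V] [Module ℂ V]
    [FiniteDimensional ℂ V] (ρ : Representation ℂ G V) (hfaithful : Function.Injective ρ)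
    (ψ : G → ℂ) (hψ : Cfsg.IsIrrCharacter G ψ) :
    ∃ i : ℕ, i < Nat.card (Set.range ρ.character) ∧
      Cfsg.classInner (fun g => ρ.character g ^ i) ψ ≠ 0 := by
  classical
  by_contra hcon
  push Not at hcon
  set χ := ρ.character with hχ
  let S : Finset ℂ := Finset.univ.image χ
  have hm : Nat.card (Set.range χ) = S.card := by
    rw [Nat.card_coe_set_eq, ← Set.ncard_coe_finset S]
    congr 1
    simp [S]
  set m := S.card with hmdef
  let e : Fin m ≃ S := S.equivFin.symm
  let f : Fin m → ℂ := fun j => (e j : ℂ)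
  have hf : Function.Injective f := by
    intro a b hab
    exact e.injective (Subtype.ext hab)
  let v : Fin m → ℂ := fun j => ∑ g ∈ Finset.univ.filter (fun g : G => χ g = f j), conj (ψ g)
  have hG0 : (Nat.card G : ℂ) ≠ 0 := by
    have : 0 < Nat.card G := Nat.card_pos
    exact_mod_cast this.ne'
  have hv : v = 0 := by
    apply Matrix.eq_zero_of_forall_pow_sum_mul_pow_eq_zero hf
    intro i
    have h0 := hcon (i : ℕ) (by rw [hm]; exact i.2)
    rw [classInner_def] at h0
    have h1 : ∑ g : G, χ g ^ (i : ℕ) * conj (ψ g) = 0 := by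
      rcases mul_eq_zero.mp h0 with h | h
      · exact absurd (inv_eq_zero.mp h) hG0
      · exact h
    -- group by the value of χ
    have h2 : ∑ g : G, χ g ^ (i : ℕ) * conj (ψ g) =
        ∑ a ∈ S, ∑ g ∈ Finset.univ.filter (fun g : G => χ g = a), χ g ^ (i : ℕ) * conj (ψ g) := by
      rw [Finset.sum_fiberwise_of_maps_to]
      intro g _
      exact Finset.mem_image_of_mem χ (Finset.mem_univ g)
    rw [h2] at h1
    have h3 : ∑ a ∈ S, ∑ g ∈ Finset.univ.filter (fun g : G => χ g = a),
        χ g ^ (i : ℕ) * conj (ψ g) =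
        ∑ a : S, ∑ g ∈ Finset.univ.filter (fun g : G => χ g = (a : ℂ)),
          χ g ^ (i : ℕ) * conj (ψ g) := by
      rw [← Finset.sum_coe_sort S]
    rw [h3, ← Equiv.sum_comp e] at h1
    rw [← h1]
    apply Finset.sum_congr rfl
    intro j _
    simp only [v]
    rw [Finset.sum_mul]
    apply Finset.sum_congr rfl
    intro g hg
    rw [(Finset.mem_filter.mp hg).2]
    ring
  -- the index of χ(1)
  have h1mem : χ 1 ∈ S := Finset.mem_image_of_mem χ (Finset.mem_univ 1)
  let j₁ : Fin m := e.symm ⟨χ 1, h1mem⟩
  have hfj₁ : f j₁ = χ 1 := by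
    simp [f, j₁]
  have hvj₁ : v j₁ = conj (ψ 1) := by
    simp only [v]
    rw [hfj₁]
    have hfilter : Finset.univ.filter (fun g : G => χ g = χ 1) = {1} := by
      ext g
      simp only [Finset.mem_filter, Finset.mem_univ, true_and, Finset.mem_singleton]
      constructor
      · intro hg
        rw [hχ, char_one] at hg
        have := (char_eq_finrank_iff ρ g).mp hg
        apply hfaithful
        rw [this, map_one]
        rfl
      · rintro rfl
        rfl
    rw [hfilter, Finset.sum_singleton]
  have hψ1 : ψ 1 ≠ 0 := by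
    obtain ⟨n, σ, hσirr, hσ⟩ := hψ
    haveI := hσirr
    rw [← hσ, char_one]
    haveI : Nontrivial (Fin n → ℂ) := by
      by_contra hnt
      rw [not_nontrivial_iff_subsingleton] at hnt
      have hbt : (⊥ : Subrepresentation σ) ≠ ⊤ := bot_ne_top
      apply hbt
      apply Subrepresentation.toSubmodule_injective
      exact Subsingleton.elim _ _
    have : finrank ℂ (Fin n → ℂ) ≠ 0 := Module.finrank_pos.ne'
    exact_mod_cast this
  have := congrFun hv j₁
  rw [hvj₁] at this
  exact hψ1 ((map_eq_zero (starRingEnd ℂ)).mp this)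

end Cfsg.Agent.Helper6
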