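import Mathlib
import Cfsg.Prelude.Def_Characters
import Cfsg.Agent.Helper6.Constituent
import Cfsg.Agent.Helper6.Induced
import Cfsg.Agent.Helper6.NormTwo
import Cfsg.Agent.Helper6.RepEigen
import Cfsg.Agent.Helper6.Linear
import Cfsg.Agent.Helper6.FaithfulIrr
import Cfsg.Agent.Helper6.OddReal
import Cfsg.Agent.Helper6.Degrees
import Cfsg.Agent.Helper6.IrrDegree

/-!
# Taketa's theorem: M-groups are solvable
-/

set_option autoImplicit false

namespace Cfsg.Agent.Helper6

open Module Representation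

universe u

variable {G : Type u} [Group G]

/-- If every irreducible constituent of `π` takes its degree at `g`, so does `π`. -/
theorem apply_eq_of_constituents [Fintype G] {π : G → ℂ} (hπ : Cfsg.IsClassFunction G π) (g : G)
    (h : ∀ ψ : G → ℂ, Cfsg.IsIrrCharacter G ψ → Cfsg.classInner π ψ ≠ 0 → ψ g = ψ 1) :
    π g = π 1 := by
  classical
  haveI : Finite (Cfsg.IrrCharacter G) := irr_finite
  haveI : Fintype (Cfsg.IrrCharacter G) := Fintype.ofFinite _
  have hexp := classFunction_expansion π hπ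
  have h1 := congrFun hexp g
  have h2 := congrFun hexp 1
  rw [Finset.sum_apply] at h1 h2
  rw [h1, h2]
  apply Finset.sum_congr rfl
  intro χ _
  simp only [Pi.smul_apply, smul_eq_mul]
  by_cases h0 : Cfsg.classInner π (χ : G → ℂ) = 0
  · rw [h0, zero_mul, zero_mul]
  · rw [h χ χ.2 h0]

/-- If the permutation character on `G/H` takes its degree at `g`, all conjugates of `g` lie in
`H`. -/
theorem conj_mem_of_indFun_one_apply_eq [Fintype G] (H : Subgroup G) (g : G)
    (h : Cfsg.indFun H (fun _ : H => (1 : ℂ)) g = Cfsg.indFun H (fun _ : H => (1 : ℂ)) 1) :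
    ∀ x : G, x⁻¹ * g * x ∈ H := by
  classical
  have hH0 : (Nat.card H : ℂ) ≠ 0 := by
    have : 0 < Nat.card H := Nat.card_pos
    exact_mod_cast this.ne'
  rw [indFun_apply, indFun_apply] at h
  have h2 := mul_left_cancel₀ (inv_ne_zero hH0) h
  have hext : ∀ y : G, Cfsg.extendByZero H (fun _ : H => (1 : ℂ)) y = if y ∈ H then 1 else 0 := by
    intro y
    split_ifs with hy
    · rw [extendByZero_mem H _ hy]
    · rw [extendByZero_not_mem H _ hy]
  have h3 : ∑ x : G, (if x⁻¹ * g * x ∈ H then (0 : ℝ) else 1) = 0 := by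
    have h4 : ∑ x : G, ((Cfsg.extendByZero H (fun _ : H => (1 : ℂ)) (x⁻¹ * 1 * x)) -
        (Cfsg.extendByZero H (fun _ : H => (1 : ℂ)) (x⁻¹ * g * x))) = 0 := by
      rw [Finset.sum_sub_distrib, h2, sub_self]
    have h5 := congrArg Complex.re h4
    rw [Complex.re_sum, Complex.zero_re] at h5
    refine Eq.trans ?_ h5
    apply Finset.sum_congr rfl
    intro x _
    rw [hext, hext]
    have : x⁻¹ * 1 * x ∈ H := by simp
    rw [if_pos this]
    split_ifs <;> simp
  rw [Finset.sum_eq_zero_iff_of_nonneg (fun x _ => by split_ifs <;> norm_num)] at h3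
  intro x
  have := h3 x (Finset.mem_univ _)
  by_contra hx
  rw [if_neg hx] at this
  exact one_ne_zero this

/-- The inductive statement behind Taketa's theorem. -/
theorem taketa_aux [Fintype G]
    (hM : ∀ χ : G → ℂ, Cfsg.IsIrrCharacter G χ → ∃ (H : Subgroup G) (lam : H →* ℂˣ),
      χ = Cfsg.indFun H (fun h => (lam h : ℂ))) :
    ∀ n : ℕ, ∃ m : ℕ, ∀ χ : G → ℂ, Cfsg.IsIrrCharacter G χ → ∀ d : ℕ, χ 1 = d → d ≤ n →
      ∀ g ∈ derivedSeries G m, χ g = χ 1 := by
  classical
  intro n
  induction n with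
  | zero =>
    refine ⟨0, ?_⟩
    intro χ hχ d hd hdn g _
    exfalso
    have : d = 0 := Nat.le_zero.mp hdn
    rw [this, Nat.cast_zero] at hd
    exact Cfsg.Agent.Helper6.IsIrrCharacter.apply_one_ne_zero hχ hd
  | succ n ih =>
    obtain ⟨m, hm⟩ := ih
    refine ⟨m + 1, ?_⟩
    intro χ hχ d hd hdn g hg
    have hgm : g ∈ derivedSeries G m := derivedSeries_antitone G (Nat.le_succ m) hg
    by_cases hle : d ≤ n
    · exact hm χ hχ d hd hle g hgm
    have hdeq : d = n + 1 := by omega
    by_cases hn0 : n = 0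
    · -- linear character
      have hd1 : χ 1 = 1 := by rw [hd, hdeq, hn0]; simp
      obtain ⟨μ, hμ⟩ := exists_hom_of_irr_degree_one hχ hd1
      have hg1 : g ∈ derivedSeries G 1 :=
        derivedSeries_antitone G (Nat.le_add_left 1 m) hg
      rw [derivedSeries_one] at hg1
      have hker : g ∈ μ.ker := Abelianization.commutator_subset_ker μ hg1
      rw [hμ]
      show ((μ g : ℂˣ) : ℂ) = ((μ 1 : ℂˣ) : ℂ)
      rw [MonoidHom.mem_ker.mp hker, map_one]
    have hn1 : 1 ≤ n := Nat.one_le_iff_ne_zero.mpr hn0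
    obtain ⟨H, lam, hχeq⟩ := hM χ hχ
    have hidx : H.index = n + 1 := by
      have h1 : χ 1 = (H.index : ℂ) := by
        rw [hχeq, indFun_apply_one, map_one, Units.val_one, mul_one]
      rw [hd, hdeq] at h1
      exact_mod_cast h1.symm
    set π := Cfsg.indFun H (fun _ : H => (1 : ℂ)) with hπ
    have hπchar : Cfsg.IsCharacter G π := isCharacter_indFun H _ isCharacter_one
    have hπ1 : π 1 = ((n + 1 : ℕ) : ℂ) := by
      rw [hπ, indFun_apply_one, mul_one, hidx]
    have hone : Cfsg.IsIrrCharacter G (fun _ : G => (1 : ℂ)) := isIrrCharacter_one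
    have hinner1 : Cfsg.classInner π (fun _ : G => (1 : ℂ)) = 1 := by
      haveI : Fintype H := Fintype.ofFinite H
      have hH0 : (Fintype.card H : ℂ) ≠ 0 := by
        have : 0 < Fintype.card H := Fintype.card_pos
        exact_mod_cast this.ne'
      rw [hπ, frobenius_reciprocity H _ _ (IsCharacter.isClassFunction isCharacter_one),
        classInner_def]
      simp only [map_one, mul_one, Finset.sum_const, Finset.card_univ, nsmul_eq_mul]
      rw [Nat.card_eq_fintype_card]
      field_simp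
    -- degrees of the constituents
    have hconst : ∀ ψ : G → ℂ, Cfsg.IsIrrCharacter G ψ → Cfsg.classInner π ψ ≠ 0 →
        ∀ g' ∈ derivedSeries G m, ψ g' = ψ 1 := by
      intro ψ hψ hne
      obtain ⟨e, he⟩ := IsCharacter.apply_one (IsIrrCharacter.isCharacter hψ)
      apply hm ψ hψ e he
      by_cases h1 : ψ = fun _ => (1 : ℂ)
      · rw [h1] at he
        have he' : (1 : ℂ) = (e : ℂ) := he
        have : e = 1 := by exact_mod_cast he'.symm
        omega
      · have hΔ₁ : Cfsg.IsCharacter G (π - fun _ => (1 : ℂ)) :=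
          sub_isCharacter_of_constituent hπchar hone (by rw [hinner1]; exact one_ne_zero)
        have hne2 : Cfsg.classInner (π - fun _ => (1 : ℂ)) ψ ≠ 0 := by
          rw [classInner_sub_left, classInner_irr_ne hone hψ (fun h => h1 h.symm), sub_zero]
          exact hne
        have hΔ₂ := sub_isCharacter_of_constituent hΔ₁ hψ hne2
        obtain ⟨k, hk⟩ := IsCharacter.apply_one hΔ₂
        simp only [Pi.sub_apply, hπ1, he] at hk
        have : ((n + 1 : ℕ) : ℂ) = ((1 + e + k : ℕ) : ℂ) := by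
          push_cast at hk ⊢
          linear_combination hk
        have h2 : n + 1 = 1 + e + k := by exact_mod_cast this
        omega
    -- conjugates of elements of the m-th derived subgroup lie in H
    have hconjH : ∀ g' ∈ derivedSeries G m, ∀ x : G, x⁻¹ * g' * x ∈ H := by
      intro g' hg'
      apply conj_mem_of_indFun_one_apply_eq
      exact apply_eq_of_constituents (IsCharacter.isClassFunction hπchar) g'
        (fun ψ hψ hne => hconst ψ hψ hne g' hg')
    have hDH : derivedSeries G m ≤ H := by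
      intro g' hg'
      have := hconjH g' hg' 1
      simpa using this
    -- the next derived subgroup lies in the kernel of lam
    have hDK : derivedSeries G (m + 1) ≤ (lam.ker).map H.subtype := by
      rw [derivedSeries_succ, Subgroup.commutator_le]
      intro a ha b hb
      refine ⟨(⟨a, hDH ha⟩ : H) * ⟨b, hDH hb⟩ * (⟨a, hDH ha⟩ : H)⁻¹ * (⟨b, hDH hb⟩ : H)⁻¹, ?_, ?_⟩
      · rw [SetLike.mem_coe, MonoidHom.mem_ker]
        simp only [map_mul, map_inv]
        rw [mul_comm (lam ⟨a, hDH ha⟩) (lam ⟨b, hDH hb⟩)]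
        group
      · rw [commutatorElement_def]
        rfl
    haveI : (derivedSeries G (m + 1)).Normal := derivedSeries_normal G (m + 1)
    rw [hχeq, indFun_apply, indFun_apply]
    congr 1
    apply Finset.sum_congr rfl
    intro x _
    have hxg : x⁻¹ * g * x ∈ derivedSeries G (m + 1) := by
      have := (derivedSeries_normal G (m + 1)).conj_mem g hg x⁻¹
      rwa [inv_inv] at this
    obtain ⟨k, hk, hkx⟩ := hDK hxg
    have h1 : x⁻¹ * 1 * x = ((1 : H) : G) := by simp
    rw [h1, extendByZero_coe, ← hkx]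
    show Cfsg.extendByZero H (fun h => ((lam h : ℂˣ) : ℂ)) ((k : H) : G) = _
    rw [extendByZero_coe, MonoidHom.mem_ker.mp hk, map_one]

/-- **Taketa's theorem**. -/
theorem taketa [Fintype G]
    (hM : ∀ χ : G → ℂ, Cfsg.IsIrrCharacter G χ → ∃ (H : Subgroup G) (lam : H →* ℂˣ),
      χ = Cfsg.indFun H (fun h => (lam h : ℂ))) : Group.IsSolvable G := by
  classical
  haveI : Finite (Cfsg.IrrCharacter G) := irr_finite
  -- a bound on the degrees
  have hdeg : ∀ χ : Cfsg.IrrCharacter G, ∃ d : ℕ, (χ : G → ℂ) 1 = d := fun χ =>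
    IsCharacter.apply_one (IsIrrCharacter.isCharacter χ.2)
  choose deg hdegeq using hdeg
  obtain ⟨N, hN⟩ := (Set.finite_range deg).bddAbove
  obtain ⟨m, hm⟩ := taketa_aux hM N
  refine ⟨⟨m, ?_⟩⟩
  rw [eq_bot_iff]
  intro g hg
  rw [Subgroup.mem_bot]
  by_contra hg1
  obtain ⟨n, ρ, hirr, hρg⟩ := exists_irr_rep_ne_one g hg1
  apply hρg
  have hχ : Cfsg.IsIrrCharacter G ρ.character := ⟨n, ρ, hirr, rfl⟩
  have h1 := hm ρ.character hχ (deg ⟨_, hχ⟩) (hdegeq ⟨_, hχ⟩) (hN ⟨⟨_, hχ⟩, rfl⟩) g hg
  rw [char_one] at h1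
  exact (char_eq_finrank_iff ρ g).mp h1

end Cfsg.Agent.Helper6
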