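import Mathlib
import Cfsg.Prelude.Def_Characters
import Cfsg.Agent.Helper6.Taketa
import Cfsg.Agent.Helper6.NormalInd
import Cfsg.Agent.Helper6.AbelianInertia
import Cfsg.Agent.Helper6.Gallagher
import Cfsg.Agent.Helper6.BurnsideBrauer
import Cfsg.Agent.Helper6.Expansion
import Cfsg.Agent.Helper6.LinearCount
import Cfsg.Agent.Helper6.Inflation

/-!
# Three character degrees: a product trick

If all irreducible degrees of `G` lie in `{1, m, n}` with `m, n` coprime and every nonlinear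
irreducible character is faithful, then the degrees `m` and `n` do not both occur.
-/

set_option autoImplicit false
set_option linter.style.haveILetI false

namespace Cfsg.Agent.Helper6.Cd3

open Module Representation
open scoped ComplexConjugate

universe u

variable {G : Type u} [Group G]

theorem classInner_mul_adj [Fintype G] (α β γ : G → ℂ) :
    Cfsg.classInner (α * β) γ = Cfsg.classInner α ((fun g => conj (β g)) * γ) := by
  rw [classInner_def, classInner_def]
  congr 1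
  apply Finset.sum_congr rfl
  intro g _
  simp only [Pi.mul_apply, map_mul, Complex.conj_conj]
  ring

theorem classInner_conj_mul [Fintype G] (α β γ : G → ℂ) :
    Cfsg.classInner ((fun g => conj (α g)) * β) γ = Cfsg.classInner β (α * γ) := by
  rw [classInner_def, classInner_def]
  congr 1
  apply Finset.sum_congr rfl
  intro g _
  simp only [Pi.mul_apply, map_mul]
  ring

/-- An irreducible character trivial on the commutator subgroup is linear. -/
theorem degree_one_of_commutator_le_ker [Finite G] {χ : G → ℂ} (hχ : Cfsg.IsIrrCharacter G χ)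
    (hker : ∀ g ∈ commutator G, χ g = χ 1) : χ 1 = 1 := by
  obtain ⟨χ', hχ'⟩ := exists_deflate (commutator G) ⟨χ, hχ⟩ hker
  have hab : ∀ a b : G ⧸ commutator G, a * b = b * a := fun a b =>
    @mul_comm (Abelianization G) _ a b
  have h1 := (comm_iff_forall_irr_degree_one (G := G ⧸ commutator G)).mp hab χ'
  have h2 := congrFun hχ' 1
  simp only [Function.comp_apply, QuotientGroup.mk_one] at h2
  rw [h2]
  exact h1

/-- Degree bookkeeping for a character of a group whose irreducible degrees lie in `{1, m, n}`. -/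
theorem degree_sum [Fintype G] (m n : ℕ) (hm : 1 < m) (hmn : m < n)
    (hcd : ∀ χ : G → ℂ, Cfsg.IsIrrCharacter G χ → χ 1 = 1 ∨ χ 1 = (m : ℂ) ∨ χ 1 = (n : ℂ))
    (φ : G → ℂ) (hφ : Cfsg.IsCharacter G φ) (d : ℕ) (hd : φ 1 = d) :
    ∃ a A B : ℕ, d = a + m * A + n * B ∧
      ((∀ ξ : G → ℂ, Cfsg.IsIrrCharacter G ξ → ξ 1 = 1 → Cfsg.classInner φ ξ = 0) → a = 0) ∧
      (A = 0 → ∀ ξ : G → ℂ, Cfsg.IsIrrCharacter G ξ → ξ 1 = (m : ℂ) →
        Cfsg.classInner φ ξ = 0) ∧
      (B = 0 → ∀ ξ : G → ℂ, Cfsg.IsIrrCharacter G ξ → ξ 1 = (n : ℂ) →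
        Cfsg.classInner φ ξ = 0) := by
  classical
  haveI : Finite (Cfsg.IrrCharacter G) := irr_finite
  haveI : Fintype (Cfsg.IrrCharacter G) := Fintype.ofFinite _
  have hc : ∀ ξ : Cfsg.IrrCharacter G, ∃ c : ℕ, Cfsg.classInner φ (ξ : G → ℂ) = c := fun ξ =>
    classInner_char_char_nat hφ (IsIrrCharacter.isCharacter ξ.2)
  choose c hc using hc
  have hexp := congrFun (classFunction_expansion φ (IsCharacter.isClassFunction hφ)) 1
  rw [Finset.sum_apply] at hexp
  have h1m : (1 : ℂ) ≠ (m : ℂ) := by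
    intro h
    have : (1 : ℕ) = m := by exact_mod_cast h
    omega
  have h1n : (1 : ℂ) ≠ (n : ℂ) := by
    intro h
    have : (1 : ℕ) = n := by exact_mod_cast h
    omega
  have hmn' : (m : ℂ) ≠ (n : ℂ) := by
    intro h
    have : m = n := by exact_mod_cast h
    omega
  refine ⟨∑ ξ : Cfsg.IrrCharacter G, if (ξ : G → ℂ) 1 = 1 then c ξ else 0,
    ∑ ξ : Cfsg.IrrCharacter G, if (ξ : G → ℂ) 1 = (m : ℂ) then c ξ else 0,
    ∑ ξ : Cfsg.IrrCharacter G, if (ξ : G → ℂ) 1 = (n : ℂ) then c ξ else 0, ?_, ?_, ?_, ?_⟩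
  · have : (d : ℂ) = ((((∑ ξ : Cfsg.IrrCharacter G, if (ξ : G → ℂ) 1 = 1 then c ξ else 0) +
        m * (∑ ξ : Cfsg.IrrCharacter G, if (ξ : G → ℂ) 1 = (m : ℂ) then c ξ else 0) +
        n * (∑ ξ : Cfsg.IrrCharacter G, if (ξ : G → ℂ) 1 = (n : ℂ) then c ξ else 0) : ℕ)) : ℂ) := by
      rw [← hd, hexp]
      push_cast
      rw [Finset.mul_sum, Finset.mul_sum, ← Finset.sum_add_distrib, ← Finset.sum_add_distrib]
      apply Finset.sum_congr rfl
      intro ξ _
      simp only [Pi.smul_apply, smul_eq_mul, hc]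
      rcases hcd ξ ξ.2 with h | h | h
      · rw [h, if_pos rfl, if_neg h1m, if_neg h1n]
        ring
      · rw [h, if_neg (Ne.symm h1m), if_pos rfl, if_neg hmn']
        ring
      · rw [h, if_neg (Ne.symm h1n), if_neg (Ne.symm hmn'), if_pos rfl]
        ring
    exact_mod_cast this
  · intro h
    apply Finset.sum_eq_zero
    intro ξ _
    split_ifs with h1
    · have h2 := h ξ ξ.2 h1
      rw [hc] at h2
      exact_mod_cast h2
    · rfl
  · intro hA ξ hξ hξm
    have h2 := (Finset.sum_eq_zero_iff.mp hA) ⟨ξ, hξ⟩ (Finset.mem_univ _)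
    rw [if_pos hξm] at h2
    rw [hc ⟨ξ, hξ⟩, h2, Nat.cast_zero]
  · intro hB ξ hξ hξn
    have h2 := (Finset.sum_eq_zero_iff.mp hB) ⟨ξ, hξ⟩ (Finset.mem_univ _)
    rw [if_pos hξn] at h2
    rw [hc ⟨ξ, hξ⟩, h2, Nat.cast_zero]

/-- The hypotheses of the product trick. -/
structure TrickHyp (G : Type u) [Group G] (m n : ℕ) : Prop where
  hm : 1 < m
  hmn : m < n
  hcop : m.Coprime n
  hcd : ∀ χ : G → ℂ, Cfsg.IsIrrCharacter G χ → χ 1 = 1 ∨ χ 1 = (m : ℂ) ∨ χ 1 = (n : ℂ)
  hfaith : ∀ χ : G → ℂ, Cfsg.IsIrrCharacter G χ → χ 1 ≠ 1 → ∀ g : G, χ g = χ 1 → g = 1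

theorem TrickHyp.m_ne_n {m n : ℕ} (H : TrickHyp G m n) : (m : ℂ) ≠ (n : ℂ) := by
  intro h
  have h1 : m = n := by exact_mod_cast h
  have := H.hmn
  omega

theorem TrickHyp.m_ne_one {m n : ℕ} (H : TrickHyp G m n) : (m : ℂ) ≠ 1 := by
  intro h
  have h1 : m = 1 := by exact_mod_cast h
  have := H.hm
  omega

theorem TrickHyp.n_ne_one {m n : ℕ} (H : TrickHyp G m n) : (n : ℂ) ≠ 1 := by
  intro h
  have h1 : n = 1 := by exact_mod_cast h
  have := H.hm
  have := H.hmn
  omega

theorem conj_mul_hom_apply_one {χ : G → ℂ} (μ : G →* ℂˣ) (d : ℕ) (hd : χ 1 = d) :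
    ((fun g => conj (χ g)) * fun g => ((μ g : ℂˣ) : ℂ)) 1 = d := by
  simp [hd]

theorem mul_hom_apply_one {χ : G → ℂ} (μ : G →* ℂˣ) (d : ℕ) (hd : χ 1 = d) :
    (χ * fun g => ((μ g : ℂˣ) : ℂ)) 1 = d := by
  simp [hd]

/-- Step 1: a degree-`n` constituent of `χ̄ χ'` forces `χ'` to be a linear twist of `χ`. -/
theorem TrickHyp.step_one [Fintype G] {m n : ℕ} (H : TrickHyp G m n) {χ χ' ψ : G → ℂ}
    (hχ : Cfsg.IsIrrCharacter G χ) (hχm : χ 1 = m) (hχ' : Cfsg.IsIrrCharacter G χ')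
    (hχ'm : χ' 1 = m) (hψ : Cfsg.IsIrrCharacter G ψ) (hψn : ψ 1 = n)
    (hne : Cfsg.classInner ((fun g => conj (χ g)) * χ') ψ ≠ 0) :
    ∃ μ : G →* ℂˣ, χ' = χ * fun g => ((μ g : ℂˣ) : ℂ) := by
  by_contra hno
  push Not at hno
  have hφ : Cfsg.IsCharacter G ((fun g => conj (χ g)) * χ') :=
    IsCharacter.mul (IsIrrCharacter.isCharacter (conj_isIrr hχ)) (IsIrrCharacter.isCharacter hχ')
  have hφ1 : ((fun g => conj (χ g)) * χ') 1 = ((m * m : ℕ) : ℂ) := by
    simp [hχm, hχ'm]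
  obtain ⟨a, A, B, hsum, ha, -, hB⟩ := degree_sum m n H.hm H.hmn H.hcd _ hφ (m * m) hφ1
  have ha0 : a = 0 := by
    apply ha
    intro ξ hξ hξ1
    obtain ⟨μ, hμ⟩ := exists_hom_of_irr_degree_one hξ hξ1
    rw [classInner_conj_mul, hμ]
    exact classInner_irr_ne hχ' (IsIrrCharacter.mul_hom μ hχ) (hno μ)
  have hB0 : B = 0 := by
    subst ha0
    have h1 : m ∣ n * B := by
      have : m ∣ m * m - m * A := by
        exact Nat.dvd_sub (dvd_mul_right m m) (dvd_mul_right m A)
      have h2 : n * B = m * m - m * A := by omega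
      rw [h2]
      exact this
    have h2 : m ∣ B := H.hcop.dvd_of_dvd_mul_left h1
    by_contra hB0
    have h3 : m ≤ B := Nat.le_of_dvd (Nat.pos_of_ne_zero hB0) h2
    have h4 : n * m ≤ n * B := Nat.mul_le_mul_left n h3
    have h5 : m * m < n * m := Nat.mul_lt_mul_of_pos_right H.hmn (by have := H.hm; omega)
    omega
  exact hne (hB hB0 ψ hψ hψn)

/-- Step 2: for `χ` of degree `m` and `ψ` of degree `n`, all constituents of `χ ψ` have
degree `n`. -/
theorem TrickHyp.step_two [Fintype G] {m n : ℕ} (H : TrickHyp G m n) {χ ψ ξ : G → ℂ}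
    (hχ : Cfsg.IsIrrCharacter G χ) (hχm : χ 1 = m) (hψ : Cfsg.IsIrrCharacter G ψ)
    (hψn : ψ 1 = n) (hξ : Cfsg.IsIrrCharacter G ξ) (hξm : ξ 1 = m) :
    Cfsg.classInner (χ * ψ) ξ = 0 := by
  classical
  have hm0 : 0 < m := by have := H.hm; omega
  have hφ : Cfsg.IsCharacter G (χ * ψ) :=
    IsCharacter.mul (IsIrrCharacter.isCharacter hχ) (IsIrrCharacter.isCharacter hψ)
  have hφ1 : (χ * ψ) 1 = ((m * n : ℕ) : ℂ) := by
    simp [hχm, hψn]
  obtain ⟨a, A, B, hsum, ha, hA, hB⟩ := degree_sum m n H.hm H.hmn H.hcd _ hφ (m * n) hφ1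
  have hlin : ∀ ξ' : G → ℂ, Cfsg.IsIrrCharacter G ξ' → ξ' 1 = 1 →
      Cfsg.classInner (χ * ψ) ξ' = 0 := by
    intro ξ' hξ' hξ'1
    obtain ⟨μ, hμ⟩ := exists_hom_of_irr_degree_one hξ' hξ'1
    rw [mul_comm χ ψ, classInner_mul_adj, hμ]
    apply classInner_irr_ne hψ (IsIrrCharacter.mul_hom μ (conj_isIrr hχ))
    intro heq
    have h1 := congrFun heq 1
    rw [hψn, conj_mul_hom_apply_one μ m hχm] at h1
    exact H.m_ne_n h1.symm
  have ha0 : a = 0 := ha hlin
  subst ha0
  have h1 : m ∣ n * B := by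
    have h2 : n * B = m * n - m * A := by omega
    rw [h2]
    exact Nat.dvd_sub (dvd_mul_right m n) (dvd_mul_right m A)
  have h2 : m ∣ B := H.hcop.dvd_of_dvd_mul_left h1
  by_cases hB0 : B = 0
  · exfalso
    haveI : Finite (Cfsg.IrrCharacter G) := irr_finite
    haveI : Fintype (Cfsg.IrrCharacter G) := Fintype.ofFinite _
    have hexp := classFunction_expansion (χ * ψ) (IsCharacter.isClassFunction hφ)
    have htw : ∀ ξ' : Cfsg.IrrCharacter G, Cfsg.classInner (χ * ψ) (ξ' : G → ℂ) ≠ 0 →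
        ∀ g ∈ commutator G, (ξ' : G → ℂ) g = χ g := by
      intro ξ' hne g hg
      have hξ'm : (ξ' : G → ℂ) 1 = m := by
        rcases H.hcd ξ' ξ'.2 with h | h | h
        · exact absurd (hlin ξ' ξ'.2 h) hne
        · exact h
        · exact absurd (hB hB0 ξ' ξ'.2 h) hne
      have hne2 : Cfsg.classInner ((fun g => conj (χ g)) * (ξ' : G → ℂ)) ψ ≠ 0 := by
        rw [classInner_conj_mul, classInner_conj_symm (χ * ψ) (ξ' : G → ℂ)]
        intro h0
        apply hne
        have := congrArg (starRingEnd ℂ) h0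
        simpa using this
      obtain ⟨μ, hμ⟩ := H.step_one hχ hχm ξ'.2 hξ'm hψ hψn hne2
      rw [hμ]
      simp [hom_eq_one_of_mem_commutator μ hg]
    have hgen : ∀ g ∈ commutator G, (χ * ψ) g =
        (∑ ξ' : Cfsg.IrrCharacter G, Cfsg.classInner (χ * ψ) (ξ' : G → ℂ)) * χ g := by
      intro g hg
      have h3 := congrFun hexp g
      rw [Finset.sum_apply] at h3
      rw [h3, Finset.sum_mul]
      apply Finset.sum_congr rfl
      intro ξ' _
      simp only [Pi.smul_apply, smul_eq_mul]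
      by_cases h0 : Cfsg.classInner (χ * ψ) (ξ' : G → ℂ) = 0
      · rw [h0, zero_mul, zero_mul]
      · rw [htw ξ' h0 g hg]
    have hmC : (m : ℂ) ≠ 0 := by exact_mod_cast hm0.ne'
    have hS : (∑ ξ' : Cfsg.IrrCharacter G, Cfsg.classInner (χ * ψ) (ξ' : G → ℂ)) = (n : ℂ) := by
      have h3 := hgen 1 (one_mem _)
      rw [hφ1, hχm] at h3
      push_cast at h3
      apply mul_right_cancel₀ hmC
      rw [← h3]
      ring
    have hval : ∀ g ∈ commutator G, g ≠ 1 → χ g = 0 := by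
      intro g hg hg1
      have h3 := hgen g hg
      rw [hS, Pi.mul_apply] at h3
      have h4 : χ g * (ψ g - (n : ℂ)) = 0 := by
        rw [mul_sub, h3]
        ring
      rcases mul_eq_zero.mp h4 with h5 | h5
      · exact h5
      · exfalso
        apply hg1
        apply H.hfaith ψ hψ (by rw [hψn]; exact H.n_ne_one) g
        rw [hψn]
        exact sub_eq_zero.mp h5
    haveI : Fintype (commutator G) := Fintype.ofFinite _
    have hs := sum_coset_irr (commutator G) hχ 1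
    have hlhs : ∑ x : commutator G, χ (1 * (x : G)) = (m : ℂ) := by
      rw [Finset.sum_eq_single (1 : commutator G)]
      · simp [hχm]
      · intro x _ hx
        rw [one_mul]
        apply hval x x.2
        intro h
        apply hx
        exact Subtype.ext h
      · intro h
        exact absurd (Finset.mem_univ _) h
    rw [hlhs] at hs
    split_ifs at hs with hc
    · -- then G is abelian
      have h3 : χ 1 = 1 := degree_one_of_commutator_le_ker hχ hc
      rw [hχm] at h3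
      exact H.m_ne_one h3
    · exact hmC hs
  · have h3 : m ≤ B := Nat.le_of_dvd (Nat.pos_of_ne_zero hB0) h2
    have h4 : n * m ≤ n * B := Nat.mul_le_mul_left n h3
    have hA0 : A = 0 := by
      have h5 : m * A = 0 := by
        have h6 : m * n = n * m := mul_comm m n
        omega
      rcases Nat.mul_eq_zero.mp h5 with h6 | h6
      · omega
      · exact h6
    exact hA hA0 ξ hξ hξm

/-- Step 3: no power of a degree-`m` character has a degree-`n` constituent. -/
theorem TrickHyp.no_n_in_pow [Fintype G] {m n : ℕ} (H : TrickHyp G m n) {χ₀ : G → ℂ}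
    (hχ₀ : Cfsg.IsIrrCharacter G χ₀) (hχ₀m : χ₀ 1 = m) (k : ℕ) :
    Cfsg.IsCharacter G (fun g => χ₀ g ^ k) ∧ ∀ ψ : G → ℂ, Cfsg.IsIrrCharacter G ψ →
      ψ 1 = (n : ℂ) → Cfsg.classInner (fun g => χ₀ g ^ k) ψ = 0 := by
  classical
  induction k with
  | zero =>
    simp only [pow_zero]
    refine ⟨isCharacter_one, ?_⟩
    intro ψ hψ hψn
    apply classInner_irr_ne isIrrCharacter_one hψ
    intro h
    have h1 := congrFun h 1
    rw [hψn] at h1
    exact H.n_ne_one h1.symm
  | succ k ih =>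
    obtain ⟨hchar, hno⟩ := ih
    have heq : (fun g => χ₀ g ^ (k + 1)) = (fun g => χ₀ g ^ k) * χ₀ := by
      ext g
      simp [pow_succ]
    rw [heq]
    refine ⟨IsCharacter.mul hchar (IsIrrCharacter.isCharacter hχ₀), ?_⟩
    intro ψ hψ hψn
    rw [classInner_mul_adj]
    haveI : Finite (Cfsg.IrrCharacter G) := irr_finite
    haveI : Fintype (Cfsg.IrrCharacter G) := Fintype.ofFinite _
    have hexp := classFunction_expansion _ (IsCharacter.isClassFunction hchar)
    generalize (fun g => χ₀ g ^ k) = φ at hexp hno hchar ⊢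
    rw [hexp, classInner_sum_left]
    apply Finset.sum_eq_zero
    intro ξ _
    rw [classInner_smul_left]
    have hconj : Cfsg.IsIrrCharacter G (fun g => conj (χ₀ g)) := conj_isIrr hχ₀
    have hconj1 : (fun g => conj (χ₀ g)) 1 = (m : ℂ) := by simp [hχ₀m]
    rcases H.hcd ξ ξ.2 with h | h | h
    · obtain ⟨μ, hμ⟩ := exists_hom_of_irr_degree_one ξ.2 h
      have h0 : Cfsg.classInner ((fun g => conj (χ₀ g)) * ψ) (ξ : G → ℂ) = 0 := by
        rw [classInner_conj_mul, hμ]
        apply classInner_irr_ne hψ (IsIrrCharacter.mul_hom μ hχ₀)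
        intro heq2
        have h1 := congrFun heq2 1
        rw [hψn, mul_hom_apply_one μ m hχ₀m] at h1
        exact H.m_ne_n h1.symm
      rw [classInner_conj_symm ((fun g => conj (χ₀ g)) * ψ) (ξ : G → ℂ), h0, map_zero, mul_zero]
    · have h0 := H.step_two hconj hconj1 hψ hψn ξ.2 h
      rw [classInner_conj_symm ((fun g => conj (χ₀ g)) * ψ) (ξ : G → ℂ), h0, map_zero, mul_zero]
    · rw [hno ξ ξ.2 h, zero_mul]

/-- **The product trick**: under the hypotheses, the degrees `m` and `n` do not both occur. -/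
theorem TrickHyp.false_of_both [Fintype G] {m n : ℕ} (H : TrickHyp G m n) {χ₀ ψ₀ : G → ℂ}
    (hχ₀ : Cfsg.IsIrrCharacter G χ₀) (hχ₀m : χ₀ 1 = m) (hψ₀ : Cfsg.IsIrrCharacter G ψ₀)
    (hψ₀n : ψ₀ 1 = n) : False := by
  obtain ⟨k, ρ, hirr, hρ⟩ := id hχ₀
  have hinj : Function.Injective ρ := by
    intro x y hxy
    have h1 : ρ (x * y⁻¹) = LinearMap.id := by
      rw [map_mul, hxy, ← map_mul, mul_inv_cancel, map_one]
      rfl
    have h2 : ρ.character (x * y⁻¹) = ρ.character 1 := by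
      rw [Representation.char_one]
      exact (char_eq_finrank_iff ρ _).mpr h1
    rw [hρ] at h2
    have h3 := H.hfaith χ₀ hχ₀ (by rw [hχ₀m]; exact H.m_ne_one) _ h2
    exact mul_inv_eq_one.mp h3
  obtain ⟨i, -, hi⟩ := burnside_brauer ρ hinj ψ₀ hψ₀
  rw [hρ] at hi
  exact hi ((H.no_n_in_pow hχ₀ hχ₀m i).2 ψ₀ hψ₀ hψ₀n)

end Cfsg.Agent.Helper6.Cd3
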