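import Mathlib
import Cfsg.Prelude.Def_Characters
import Cfsg.Prelude.Def_Blocks
import Cfsg.Agent.Helper6.CoprimeExt
import Cfsg.Agent.Helper6.GallagherProd
import Cfsg.Agent.Helper6.CliffordCorr
import Cfsg.Agent.Helper6.CliffordOrbit
import Cfsg.Agent.Helper6.CliffordUnique
import Cfsg.Agent.Helper6.NormalComplementBlock2
import Cfsg.Agent.Helper6.BlockPart
import Cfsg.Agent.Helper6.DefectZeroBlock
import Cfsg.Agent.Helper6.QuotientRep
import Cfsg.Agent.Helper6.OddReal
import Cfsg.Agent.Helper6.Linear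
import Cfsg.Agent.Helper6.Inflation

/-!
# Characters of degree coprime to the index of a normal Hall subgroup
-/

set_option autoImplicit false
set_option linter.style.haveILetI false
set_option linter.unusedSimpArgs false

namespace Cfsg.Agent.Helper6

open Module
open scoped ComplexConjugate

universe u

variable {G : Type u} [Group G]

/-- If the degree of `χ` is coprime to the index of the normal subgroup `K`, the irreducible
constituents of the restriction of `χ` to `K` are invariant. -/
theorem invariant_of_coprime_degree [Fintype G] (K : Subgroup G) [hK : K.Normal] [Fintype K]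
    (χ : G → ℂ) (hχ : Cfsg.IsIrrCharacter G χ) (hdeg : (Cfsg.charDegree χ).Coprime K.index)
    (θ : K → ℂ) (hθ : Cfsg.IsIrrCharacter K θ)
    (hne : Cfsg.classInner (fun n : K => χ n) θ ≠ 0) :
    ∀ (g : G) (n : K), θ ⟨g * n * g⁻¹, hK.conj_mem (n : G) n.2 g⟩ = θ n := by
  classical
  have hχc := IsIrrCharacter.isCharacter hχ
  have hθc := IsIrrCharacter.isCharacter hθ
  obtain ⟨en, hen⟩ := classInner_char_char_nat (IsCharacter.restrict K hχc) hθc
  have hdegf := clifford_degree K χ hχ θ hθ hne (conjStab K θ) (fun g => mem_conjStab K θ g)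
  rw [hen, ← charDegree_cast_of_isCharacter hχc, ← charDegree_cast_of_isCharacter hθc] at hdegf
  have hdegN : Cfsg.charDegree χ = en * (conjStab K θ).index * Cfsg.charDegree θ := by
    exact_mod_cast hdegf
  have hle : K ≤ conjStab K θ :=
    le_conjStab_of_isClassFunction K θ (IsCharacter.isClassFunction hθc)
  have hTdvd : (conjStab K θ).index ∣ K.index := Subgroup.index_dvd_of_le hle
  have hTdvd2 : (conjStab K θ).index ∣ Cfsg.charDegree χ := by
    rw [hdegN]
    exact Dvd.dvd.mul_right (Dvd.intro_left _ rfl) _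
  have h1 : (conjStab K θ).index = 1 := Nat.eq_one_of_dvd_coprimes hdeg hTdvd2 hTdvd
  have hTtop : conjStab K θ = ⊤ := Subgroup.index_eq_one.mp h1
  intro g n
  have : g ∈ conjStab K θ := by rw [hTtop]; exact Subgroup.mem_top g
  exact congrFun this n

/-- an irreducible character lying over the trivial character of a normal subgroup has it in
its kernel -/
theorem le_ker_of_over_trivial [Fintype G] (K : Subgroup G) [hK : K.Normal] [Fintype K]
    (β : G → ℂ) (hβ : Cfsg.IsIrrCharacter G β)
    (hne : Cfsg.classInner (fun n : K => β n) (fun _ => (1 : ℂ)) ≠ 0) :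
    ∀ n ∈ K, β n = β 1 := by
  classical
  have hcl := clifford K β hβ (fun _ => (1 : ℂ)) isIrrCharacter_one hne
  have horbit : {ψ : K → ℂ | ∃ g : G, ψ = conjFun K (fun _ => (1 : ℂ)) g} =
      {(fun _ => (1 : ℂ))} := by
    ext ψ
    simp only [Set.mem_ofPred_eq, Set.mem_singleton_iff]
    constructor
    · rintro ⟨g, rfl⟩
      rfl
    · intro h
      exact ⟨1, by rw [h]; rfl⟩
  rw [horbit, finsum_mem_singleton] at hcl
  intro n hn
  have h1 := congrFun hcl ⟨n, hn⟩
  have h2 := congrFun hcl 1
  simp only [Pi.smul_apply, smul_eq_mul, mul_one] at h1 h2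
  rw [Subgroup.coe_one] at h2
  change β n = _ at h1
  rw [h1, h2]

/-- Gallagher for characters of coprime degree: such a character is a linear character trivial
on `K` times any extension of its constituent. -/
theorem exists_linear_mul_ext [Fintype G] (K : Subgroup G) [hK : K.Normal] [Fintype K]
    (χ : G → ℂ) (hχ : Cfsg.IsIrrCharacter G χ) (hdeg : (Cfsg.charDegree χ).Coprime K.index)
    (θ : K → ℂ) (hθ : Cfsg.IsIrrCharacter K θ)
    (hne : Cfsg.classInner (fun n : K => χ n) θ ≠ 0)
    (E : G → ℂ) (hE : Cfsg.IsIrrCharacter G E) (hEK : ∀ n : K, E n = θ n) :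
    ∃ μ : G →* ℂˣ, (∀ k ∈ K, μ k = 1) ∧ χ = fun g => ((μ g : ℂˣ) : ℂ) * E g := by
  classical
  have hχc := IsIrrCharacter.isCharacter hχ
  have hχcf := IsCharacter.isClassFunction hχc
  have hinv := invariant_of_coprime_degree K χ hχ hdeg θ hθ hne
  have h1θ : ((fun _ => (1 : ℂ)) * θ : K → ℂ) = θ := by
    funext x
    simp
  have hbij := mul_ext_bijOn K (fun _ => (1 : ℂ)) θ isIrrCharacter_one (fun _ _ => rfl) hinv
    (by rw [h1θ]; exact hθ) E hE hEK
  have hmem : χ ∈ {ψ : G → ℂ | Cfsg.IsIrrCharacter G ψ ∧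
      Cfsg.classInner (Cfsg.indFun K ((fun _ => (1 : ℂ)) * θ)) ψ ≠ 0} := by
    refine ⟨hχ, ?_⟩
    rw [h1θ, frobenius_reciprocity K θ χ hχcf, classInner_conj_symm]
    intro h0
    apply hne
    have := congrArg conj h0
    simpa using this
  obtain ⟨β, ⟨hβirr, hβne⟩, hβχ⟩ := hbij.surjOn hmem
  simp only at hβχ
  have hβc := IsIrrCharacter.isCharacter hβirr
  have hβcf := IsCharacter.isClassFunction hβc
  rw [frobenius_reciprocity K _ β hβcf] at hβne
  have hβne' : Cfsg.classInner (fun n : K => β n) (fun _ => (1 : ℂ)) ≠ 0 := by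
    rw [classInner_conj_symm]
    intro h0
    apply hβne
    have := congrArg conj h0
    simpa using this
  have hker := le_ker_of_over_trivial K β hβirr hβne'
  -- the degree of β divides the index and the degree of χ
  have hEc := IsIrrCharacter.isCharacter hE
  have hd1 : Cfsg.charDegree χ = Cfsg.charDegree β * Cfsg.charDegree E := by
    have h1 := congrFun hβχ 1
    rw [Pi.mul_apply, ← charDegree_cast_of_isCharacter hχc, ← charDegree_cast_of_isCharacter hβc,
      ← charDegree_cast_of_isCharacter hEc] at h1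
    exact_mod_cast h1.symm
  have hd2 : Cfsg.charDegree β ∣ K.index := by
    obtain ⟨ψ', hψ'⟩ := exists_deflate K ⟨β, hβirr⟩ hker
    have h1 := charDegree_dvd_card ψ'.2
    have h2 : Cfsg.charDegree β = Cfsg.charDegree (ψ' : G ⧸ K → ℂ) := by
      unfold Cfsg.charDegree
      change ⌊(β 1).re⌋₊ = _
      rw [show β = (ψ' : G ⧸ K → ℂ) ∘ QuotientGroup.mk from hψ']
      rfl
    rw [h2, Subgroup.index_eq_card]
    exact h1
  have hd3 : Cfsg.charDegree β = 1 := by
    apply Nat.eq_one_of_dvd_coprimes hdeg _ hd2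
    rw [hd1]
    exact Dvd.intro _ rfl
  have hβ1 : β 1 = 1 := by
    rw [← charDegree_cast_of_isCharacter hβc, hd3]
    simp
  obtain ⟨μ, rfl⟩ := exists_hom_of_irr_degree_one hβirr hβ1
  refine ⟨μ, ?_, ?_⟩
  · intro k hk
    have h1 := hker k hk
    simp only [map_one, Units.val_one] at h1
    exact Units.ext h1
  · rw [← hβχ]
    rfl

end Cfsg.Agent.Helper6
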