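import Mathlib
import Cfsg.Prelude.Def_Characters
import Cfsg.Agent.Helper6.ClassInner

/-!
# Multiplicity of the trivial character is the dimension of the invariants
-/

set_option autoImplicit false
set_option linter.style.haveILetI false

namespace Cfsg.Agent.Helper6

open Module Representation
open scoped ComplexConjugate

universe u v

variable {G : Type u} [Group G]

/-- The multiplicity of the trivial character in a character is the dimension of the space of
invariants. -/
theorem classInner_one_eq_finrank_invariants [Fintype G] {V : Type v} [AddCommGroup V]
    [Module ℂ V] [FiniteDimensional ℂ V] (ρ : Representation ℂ G V) :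
    Cfsg.classInner ρ.character (fun _ => 1) = (finrank ℂ (invariants ρ) : ℂ) := by
  haveI : Invertible (Fintype.card G : ℂ) := invertibleOfNonzero (by
    have : 0 < Fintype.card G := Fintype.card_pos
    exact_mod_cast this.ne')
  rw [← (isProj_averageMap ρ).trace, classInner_def]
  simp only [averageMap, GroupAlgebra.average, map_smul, map_sum, MonoidAlgebra.of_apply,
    asAlgebraHom_single, one_smul, smul_eq_mul, map_one, mul_one, Representation.character]
  rw [Nat.card_eq_fintype_card, invOf_eq_inv]

end Cfsg.Agent.Helper6
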