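import Mathlib
import Cfsg.Prelude.Def_Characters
import Cfsg.Agent.Helper6.GaloisChar
import Cfsg.Agent.Helper6.GaloisConj

/-!
# Ring automorphisms of `ℂ` act on character values by power maps
-/

set_option autoImplicit false
set_option linter.style.haveILetI false

namespace Cfsg.Agent.Helper6.PConj

open Module Representation

universe u v

/-- A ring automorphism of `ℂ` acts on the `n`-th roots of unity as a power map, for an exponent
coprime to `n`. -/
theorem exists_pow_of_ringEquiv (σ : ℂ ≃+* ℂ) (n : ℕ) (hn : n ≠ 0) :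
    ∃ j : ℕ, j.Coprime n ∧ ∀ μ : ℂ, μ ^ n = 1 → σ μ = μ ^ j := by
  have hζ : IsPrimitiveRoot (Complex.exp (2 * Real.pi * Complex.I / n)) n :=
    Complex.isPrimitiveRoot_exp n hn
  set ζ := Complex.exp (2 * Real.pi * Complex.I / n) with hζdef
  have hσζ : IsPrimitiveRoot (σ ζ) n := by
    have := hζ.map_of_injective (f := (σ : ℂ →+* ℂ)) σ.injective
    simpa using this
  haveI : NeZero n := ⟨hn⟩
  obtain ⟨j, _, hj⟩ := hζ.eq_pow_of_pow_eq_one hσζ.pow_eq_one
  have hcop : j.Coprime n := by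
    rw [← hζ.pow_iff_coprime (Nat.pos_of_ne_zero hn) j, hj]
    exact hσζ
  refine ⟨j, hcop, ?_⟩
  intro μ hμ
  obtain ⟨i, _, hi⟩ := hζ.eq_pow_of_pow_eq_one hμ
  rw [← hi, map_pow, ← hj, ← pow_mul, ← pow_mul, mul_comm]

variable {G : Type u} [Group G] [Finite G] {V : Type v} [AddCommGroup V] [Module ℂ V]
  [FiniteDimensional ℂ V]

/-- A ring automorphism acting as the `j`-th power on `|G|`-th roots of unity sends `χ(g)` to
`χ(g^j)`. -/
theorem rep_char_ringEquiv (σ : ℂ ≃+* ℂ) (j : ℕ)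
    (hj : ∀ μ : ℂ, μ ^ Nat.card G = 1 → σ μ = μ ^ j) (ρ : Representation ℂ G V) (g : G) :
    σ (ρ.character g) = ρ.character (g ^ j) := by
  classical
  obtain ⟨ι, hι, b, μ, h1, h2, -⟩ := exists_eigenbasis_rep ρ g
  have hpow : ∀ k : ℕ, ρ.character (g ^ k) = ∑ i, μ i ^ k := char_pow_eq_sum ρ g b μ h1
  have hone : ρ.character g = ∑ i, μ i := by
    have := hpow 1
    simpa using this
  rw [hone, hpow j, map_sum]
  apply Finset.sum_congr rfl
  intro i _
  apply hj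
  obtain ⟨c, hc⟩ := orderOf_dvd_natCard g
  rw [hc, pow_mul, h2 i, one_pow]

theorem isCharacter_ringEquiv (σ : ℂ ≃+* ℂ) (j : ℕ)
    (hj : ∀ μ : ℂ, μ ^ Nat.card G = 1 → σ μ = μ ^ j) {χ : G → ℂ} (hχ : Cfsg.IsCharacter G χ)
    (g : G) : σ (χ g) = χ (g ^ j) := by
  obtain ⟨n, ρ, rfl⟩ := hχ
  exact rep_char_ringEquiv σ j hj ρ g

/-- If the automorphism fixes the primitive `m`-th root of unity `exp(2πi/m)`, with `m ∣ |G|`, then
the exponent is `≡ 1 mod m`. -/
theorem modEq_one_of_fixes (σ : ℂ ≃+* ℂ) (n m : ℕ) (hm : m ≠ 0) (hmn : m ∣ n) (j : ℕ)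
    (hj : ∀ μ : ℂ, μ ^ n = 1 → σ μ = μ ^ j)
    (hfix : σ (Complex.exp (2 * Real.pi * Complex.I / m)) =
      Complex.exp (2 * Real.pi * Complex.I / m)) : j ≡ 1 [MOD m] := by
  have hζ : IsPrimitiveRoot (Complex.exp (2 * Real.pi * Complex.I / m)) m :=
    Complex.isPrimitiveRoot_exp m hm
  set ζ := Complex.exp (2 * Real.pi * Complex.I / m) with hζdef
  have h1 : ζ ^ n = 1 := by
    obtain ⟨c, rfl⟩ := hmn
    rw [pow_mul, hζ.pow_eq_one, one_pow]
  have h2 := hj ζ h1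
  rw [hfix] at h2
  have h3 : ζ ^ j = ζ ^ 1 := by rw [pow_one]; exact h2.symm
  have hne : ζ ≠ 0 := hζ.ne_zero hm
  have h4 : (Units.mk0 ζ hne) ^ j = (Units.mk0 ζ hne) ^ 1 := by
    apply Units.ext
    simpa using h3
  rw [pow_eq_pow_iff_modEq] at h4
  have hord : orderOf (Units.mk0 ζ hne) = m := by
    have : orderOf ζ = m := hζ.eq_orderOf.symm
    rw [← this]
    exact (orderOf_injective (Units.coeHom ℂ) Units.val_injective (Units.mk0 ζ hne)).symm
  rwa [hord] at h4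

end Cfsg.Agent.Helper6.PConj
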