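import Mathlib
import Cfsg.Prelude.Def_Characters
import Cfsg.Agent.Helper6.GaloisConj
import Cfsg.Agent.Helper6.IrrBasis

/-!
# The action of `(ℤ/|G|)ˣ` on the irreducible characters, and orbit bookkeeping
-/

set_option autoImplicit false
set_option linter.style.haveILetI false

namespace Cfsg.Agent.Helper6.PConj

universe u

section Abstract

variable {Γ : Type*} [CommGroup Γ] [Finite Γ] {X : Type*} [MulAction Γ X]

theorem stabilizer_subgroup_eq (H : Subgroup Γ) (x : X) :
    MulAction.stabilizer H x = (MulAction.stabilizer Γ x).subgroupOf H := by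
  ext h
  simp only [MulAction.mem_stabilizer_iff, Subgroup.mem_subgroupOf]
  rfl

theorem card_orbit_subgroup (H : Subgroup Γ) (x : X) :
    Nat.card (MulAction.orbit H x) = (MulAction.stabilizer Γ x).relIndex H := by
  rw [Nat.card_coe_set_eq, ← MulAction.index_stabilizer, stabilizer_subgroup_eq]
  rfl

theorem relIndex_ne_zero' (A B : Subgroup Γ) : A.relIndex B ≠ 0 := by
  unfold Subgroup.relIndex
  exact Subgroup.index_ne_zero_of_finite

theorem relIndex_dvd_of_le_right' (A H K : Subgroup Γ) (hHK : H ≤ K) :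
    A.relIndex H ∣ A.relIndex K := by
  rw [← Subgroup.relIndex_subgroupOf (H := A) hHK]
  have := Subgroup.relIndex_dvd_index_of_normal (A.subgroupOf K) (H.subgroupOf K)
  exact this

/-- orbit bookkeeping: the `p`-part of an `H`-orbit is at most that of the `Q`-orbit, when
`H, Q ≤ K` and `|K : Q|` is prime to `p` -/
theorem factorization_relIndex_le (p : ℕ) (A H K Q : Subgroup Γ) (hHK : H ≤ K)
    (hQK : Q ≤ K) (hcop : ¬ p ∣ Q.relIndex K) (hp : p.Prime) :
    (A.relIndex H).factorization p ≤ (A.relIndex Q).factorization p := by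
  have h1 : A.relIndex H ∣ A.relIndex K := relIndex_dvd_of_le_right' A H K hHK
  have h2 : A.relIndex Q * Q.relIndex K = (A ⊓ Q).relIndex K := by
    have := Subgroup.relIndex_inf_mul_relIndex A Q K
    rwa [inf_eq_left.mpr hQK] at this
  have h3 : A.relIndex K ∣ (A ⊓ Q).relIndex K :=
    Subgroup.relIndex_dvd_of_le_left K (inf_le_left : A ⊓ Q ≤ A)
  rw [← h2] at h3
  have h4 : (A.relIndex H).factorization p ≤ (A.relIndex K).factorization p :=
    (Nat.factorization_le_iff_dvd (relIndex_ne_zero' A H) (relIndex_ne_zero' A K)).mpr h1 p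
  have h5 : (A.relIndex K).factorization p ≤ (A.relIndex Q * Q.relIndex K).factorization p :=
    (Nat.factorization_le_iff_dvd (relIndex_ne_zero' A K)
      (mul_ne_zero (relIndex_ne_zero' A Q) (relIndex_ne_zero' Q K))).mpr h3 p
  rw [Nat.factorization_mul (relIndex_ne_zero' A Q) (relIndex_ne_zero' Q K)] at h5
  have h6 : (Q.relIndex K).factorization p = 0 := Nat.factorization_eq_zero_of_not_dvd hcop
  simp only [Finsupp.coe_add, Pi.add_apply, h6, add_zero] at h5
  exact h4.trans h5

/-- if `K/Q` has exponent dividing `e` prime to `p` then `|K : Q|` is prime to `p` -/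
theorem not_dvd_relIndex_of_pow_mem (p : ℕ) [hp : Fact p.Prime] (K Q : Subgroup Γ) (e : ℕ)
    (he : ¬ p ∣ e) (hpow : ∀ k ∈ K, k ^ e ∈ Q) : ¬ p ∣ Q.relIndex K := by
  intro hdvd
  unfold Subgroup.relIndex at hdvd
  rw [Subgroup.index_eq_card] at hdvd
  obtain ⟨x, hx⟩ := exists_prime_orderOf_dvd_card' p hdvd
  have h1 : x ^ e = 1 := by
    induction x using QuotientGroup.induction_on with
    | H k =>
      rw [← QuotientGroup.mk_pow, QuotientGroup.eq_one_iff, Subgroup.mem_subgroupOf]
      exact hpow k k.2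
  have h2 : orderOf x ∣ e := orderOf_dvd_of_pow_eq_one h1
  rw [hx] at h2
  exact he h2

end Abstract

variable {G : Type u} [Group G] [Finite G]

theorem pow_eq_pow_of_modEq {a b : ℕ} (h : a ≡ b [MOD Nat.card G]) (x : G) : x ^ a = x ^ b := by
  rw [pow_eq_pow_iff_modEq]
  exact h.of_dvd (orderOf_dvd_natCard x)

/-- the Galois conjugate of an irreducible character by a unit of `ℤ/|G|` -/
noncomputable def galSmul (k : (ZMod (Nat.card G))ˣ) (χ : Cfsg.IrrCharacter G) :
    Cfsg.IrrCharacter G :=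
  ⟨fun g => (χ : G → ℂ) (g ^ (k : ZMod (Nat.card G)).val), by
    haveI := Fintype.ofFinite G
    exact IsIrrCharacter.comp_pow χ.2 _ (ZMod.val_coe_unit_coprime k)⟩

noncomputable instance galAction : MulAction (ZMod (Nat.card G))ˣ (Cfsg.IrrCharacter G) where
  smul := galSmul
  one_smul χ := by
    haveI : NeZero (Nat.card G) := ⟨Nat.card_pos.ne'⟩
    apply Subtype.ext
    funext g
    change (χ : G → ℂ) (g ^ ((1 : (ZMod (Nat.card G))ˣ) : ZMod (Nat.card G)).val) = _
    rw [Units.val_one, ZMod.val_one_eq_one_mod,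
      pow_eq_pow_of_modEq (Nat.mod_modEq 1 (Nat.card G)) g, pow_one]
  mul_smul k k' χ := by
    haveI : NeZero (Nat.card G) := ⟨Nat.card_pos.ne'⟩
    apply Subtype.ext
    funext g
    change (χ : G → ℂ) (g ^ ((k * k' : (ZMod (Nat.card G))ˣ) : ZMod (Nat.card G)).val) =
      (χ : G → ℂ) ((g ^ (k : ZMod (Nat.card G)).val) ^ (k' : ZMod (Nat.card G)).val)
    rw [Units.val_mul, ZMod.val_mul, ← pow_mul,
      pow_eq_pow_of_modEq (Nat.mod_modEq _ (Nat.card G)) g]

theorem galSmul_apply (k : (ZMod (Nat.card G))ˣ) (χ : Cfsg.IrrCharacter G) (g : G) :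
    ((k • χ : Cfsg.IrrCharacter G) : G → ℂ) g = (χ : G → ℂ) (g ^ (k : ZMod (Nat.card G)).val) :=
  rfl

/-- the units congruent to one modulo a divisor `m` of `|G|` -/
noncomputable def congrSubgroup (n m : ℕ) (h : m ∣ n) : Subgroup (ZMod n)ˣ :=
  (ZMod.unitsMap h).ker

theorem mem_congrSubgroup (n m : ℕ) [NeZero n] (h : m ∣ n) (k : (ZMod n)ˣ) :
    k ∈ congrSubgroup n m h ↔ (k : ZMod n).val ≡ 1 [MOD m] := by
  unfold congrSubgroup
  rw [MonoidHom.mem_ker, Units.ext_iff, ZMod.unitsMap_def, Units.coe_map, Units.val_one,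
    MonoidHom.coe_coe, ZMod.castHom_apply, ZMod.cast_eq_val, ← Nat.cast_one (R := ZMod m),
    ZMod.natCast_eq_natCast_iff]

end Cfsg.Agent.Helper6.PConj
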