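import Mathlib
import Cfsg.Prelude.Def_Characters
import Cfsg.Agent.Helper6.PConjA
import Cfsg.Agent.Helper6.PConjB
import Cfsg.Agent.Helper6.RepEigen
import Cfsg.Agent.Helper6.GaloisChar

/-!
# Averaging a character over the units congruent to one modulo `m`
-/

set_option autoImplicit false
set_option linter.style.haveILetI false
set_option linter.unusedSectionVars false

namespace Cfsg.Agent.Helper6.PConj

open Module Representation

universe u v

section Shift

variable (n m : ℕ) [NeZero n] (h : m ∣ n)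

theorem coprime_of_modEq_one (hrad : ∀ q : ℕ, q.Prime → q ∣ n → q ∣ m) (j : ℕ)
    (hj : j ≡ 1 [MOD m]) : j.Coprime n := by
  apply Nat.Coprime.symm
  apply Nat.coprime_of_dvd
  intro q hq hqn hqj
  have hqm := hrad q hq hqn
  have h1 : j ≡ 1 [MOD q] := hj.of_dvd hqm
  have h0 : j ≡ 0 [MOD q] := (Nat.modEq_zero_iff_dvd).2 hqj
  have : q ∣ 1 := (Nat.modEq_zero_iff_dvd).1 (h1.symm.trans h0)
  exact hq.one_lt.ne' (Nat.dvd_one.1 this)

theorem val_add_modEq_one (k : congrSubgroup n m h) :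
    ((k : (ZMod n)ˣ) : ZMod n).val + m ≡ 1 [MOD m] := by
  have h1 := (mem_congrSubgroup n m h k.1).1 k.2
  have h2 : m ≡ 0 [MOD m] := (Nat.modEq_zero_iff_dvd).2 dvd_rfl
  simpa using h1.add h2

/-- translation by `m` on the units congruent to one modulo `m` -/
noncomputable def shiftUnit (hrad : ∀ q : ℕ, q.Prime → q ∣ n → q ∣ m)
    (k : congrSubgroup n m h) : congrSubgroup n m h :=
  ⟨ZMod.unitOfCoprime (((k : (ZMod n)ˣ) : ZMod n).val + m)
      (coprime_of_modEq_one n m hrad _ (val_add_modEq_one n m h k)), by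
    rw [mem_congrSubgroup, ZMod.coe_unitOfCoprime, ZMod.val_natCast]
    exact ((Nat.mod_modEq _ n).of_dvd h).trans (val_add_modEq_one n m h k)⟩

theorem shiftUnit_val (hrad : ∀ q : ℕ, q.Prime → q ∣ n → q ∣ m) (k : congrSubgroup n m h) :
    (((shiftUnit n m h hrad k : congrSubgroup n m h) : (ZMod n)ˣ) : ZMod n).val =
      (((k : (ZMod n)ˣ) : ZMod n).val + m) % n := by
  unfold shiftUnit
  rw [ZMod.coe_unitOfCoprime, ZMod.val_natCast]

theorem shiftUnit_injective (hrad : ∀ q : ℕ, q.Prime → q ∣ n → q ∣ m) :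
    Function.Injective (shiftUnit n m h hrad) := by
  intro k k' hkk
  have h1 : (((shiftUnit n m h hrad k : congrSubgroup n m h) : (ZMod n)ˣ) : ZMod n) =
      (((shiftUnit n m h hrad k' : congrSubgroup n m h) : (ZMod n)ˣ) : ZMod n) := by rw [hkk]
  unfold shiftUnit at h1
  simp only [ZMod.coe_unitOfCoprime, Nat.cast_add, ZMod.natCast_val, ZMod.cast_id', id_eq,
    add_left_inj] at h1
  exact Subtype.ext (Units.ext h1)

theorem pow_eq_pow_of_modEq' (μ : ℂ) (k : ℕ) (hμ : μ ^ k = 1) {a b : ℕ} (hab : a ≡ b [MOD k]) :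
    μ ^ a = μ ^ b := by
  rw [pow_eq_pow_mod a hμ, pow_eq_pow_mod b hμ]
  congr 1

theorem sum_pow_val_of_ne (hrad : ∀ q : ℕ, q.Prime → q ∣ n → q ∣ m)
    [Fintype (congrSubgroup n m h)] (μ : ℂ) (hμ : μ ^ n = 1) (hμm : μ ^ m ≠ 1) :
    ∑ k : congrSubgroup n m h, μ ^ ((k : (ZMod n)ˣ) : ZMod n).val = 0 := by
  have hbij : Function.Bijective (shiftUnit n m h hrad) :=
    Finite.injective_iff_bijective.1 (shiftUnit_injective n m h hrad)
  have h1 := Fintype.sum_bijective _ hbij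
    (fun k => μ ^ (((shiftUnit n m h hrad k : congrSubgroup n m h) : (ZMod n)ˣ) : ZMod n).val)
    (fun k => μ ^ ((k : (ZMod n)ˣ) : ZMod n).val) (fun _ => rfl)
  have h2 : ∀ k : congrSubgroup n m h,
      μ ^ (((shiftUnit n m h hrad k : congrSubgroup n m h) : (ZMod n)ˣ) : ZMod n).val =
        μ ^ m * μ ^ ((k : (ZMod n)ˣ) : ZMod n).val := by
    intro k
    rw [shiftUnit_val, ← pow_add, add_comm m]
    exact pow_eq_pow_of_modEq' μ n hμ (Nat.mod_modEq _ n)
  rw [Finset.sum_congr rfl (fun k _ => h2 k), ← Finset.mul_sum] at h1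
  have h3 : (μ ^ m - 1) * ∑ k : congrSubgroup n m h, μ ^ ((k : (ZMod n)ˣ) : ZMod n).val = 0 := by
    rw [sub_mul, h1, one_mul, sub_self]
  exact (mul_eq_zero.1 h3).resolve_left (sub_ne_zero.2 hμm)

theorem sum_pow_val_of_eq [Fintype (congrSubgroup n m h)] (μ : ℂ) (hμm : μ ^ m = 1) :
    ∑ k : congrSubgroup n m h, μ ^ ((k : (ZMod n)ˣ) : ZMod n).val =
      (Nat.card (congrSubgroup n m h) : ℂ) * μ := by
  have h2 : ∀ k : congrSubgroup n m h, μ ^ ((k : (ZMod n)ˣ) : ZMod n).val = μ := by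
    intro k
    have h1 := (mem_congrSubgroup n m h k.1).1 k.2
    rw [pow_eq_pow_of_modEq' μ m hμm h1, pow_one]
  rw [Finset.sum_congr rfl (fun k _ => h2 k), Finset.sum_const, Finset.card_univ, nsmul_eq_mul,
    Nat.card_eq_fintype_card]

end Shift

variable {G : Type u} [Group G] [Finite G]

/-- the average of a character over the units congruent to one modulo `m` is an algebraic integer,
when every prime divisor of `|G|` divides `m` -/
theorem exists_avg_char_integral (m : ℕ) (h : m ∣ Nat.card G)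
    (hrad : ∀ q : ℕ, q.Prime → q ∣ Nat.card G → q ∣ m)
    [Fintype (congrSubgroup (Nat.card G) m h)] {χ : G → ℂ} (hχ : Cfsg.IsCharacter G χ) (x : G) :
    ∃ β : ℂ, IsIntegral ℤ β ∧
      ∑ k : congrSubgroup (Nat.card G) m h,
        χ (x ^ ((k : (ZMod (Nat.card G))ˣ) : ZMod (Nat.card G)).val) =
        (Nat.card (congrSubgroup (Nat.card G) m h) : ℂ) * β := by
  classical
  haveI : NeZero (Nat.card G) := ⟨Nat.card_pos.ne'⟩
  obtain ⟨nn, ρ, rfl⟩ := hχ
  obtain ⟨ι, hι, b, μ, h1, h2, -⟩ := exists_eigenbasis_rep ρ x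
  have hpow : ∀ k : ℕ, ρ.character (x ^ k) = ∑ i, μ i ^ k := char_pow_eq_sum ρ x b μ h1
  have hμn : ∀ i, μ i ^ Nat.card G = 1 := by
    intro i
    obtain ⟨c, hc⟩ := orderOf_dvd_natCard x
    rw [hc, pow_mul, h2 i, one_pow]
  refine ⟨∑ i, if μ i ^ m = 1 then μ i else 0, ?_, ?_⟩
  · apply IsIntegral.sum
    intro i _
    split_ifs with hi
    · exact IsIntegral.of_pow (orderOf_pos x) (by rw [h2 i]; exact isIntegral_one)
    · exact isIntegral_zero
  · rw [Finset.sum_congr rfl (fun k _ => hpow _), Finset.sum_comm, Finset.mul_sum]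
    apply Finset.sum_congr rfl
    intro i _
    split_ifs with hi
    · exact sum_pow_val_of_eq _ m h (μ i) hi
    · rw [mul_zero]
      exact sum_pow_val_of_ne _ m h hrad (μ i) (hμn i) hi

end Cfsg.Agent.Helper6.PConj
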