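import Mathlib
import Cfsg.Prelude.Def_Characters
import Cfsg.Prelude.Def_Blocks
import Cfsg.Agent.Helper6.DeficiencyClassA
import Cfsg.Agent.Helper6.SecondMainD
import Cfsg.Agent.Helper6.InducedDefect
import Cfsg.Agent.Helper6.DefectOrder
import Cfsg.Agent.Helper6.DefectClass
import Cfsg.Agent.Helper6.DefectCenter
import Cfsg.Agent.Helper6.OsimaSupport
import Cfsg.Agent.Helper6.Osima3
import Cfsg.Agent.Helper6.BlockPart

/-!
# Blocks of centralizers of elements of order `p` inducing a given block, of the same defect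
(S4717)
-/

set_option autoImplicit false
set_option linter.style.haveILetI false

namespace Cfsg.Agent.Helper6

open scoped ComplexConjugate

universe u

variable {G : Type u} [Group G] {M : Ideal Cfsg.AlgInt}

/-- the defect of a block is at most the defect of the block it induces -/
theorem blockDefect_le_of_induced [Finite G] {p : ℕ} [hp : Fact p.Prime]
    (hM : Cfsg.IsPModular p M) (H : Subgroup G) (b : Set (Cfsg.IrrCharacter H))
    (B : Set (Cfsg.IrrCharacter G)) (hind : Cfsg.IsInducedBlock M H b B) :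
    Cfsg.blockDefect p b ≤ Cfsg.blockDefect p B := by
  have hMm := hM.2.1
  have hb := hind.1
  have hB := hind.2.1
  obtain ⟨g, hg⟩ := exists_defectClass hMm b hb
  obtain ⟨S⟩ : Nonempty (Sylow p (Subgroup.centralizer ({g} : Set H))) := inferInstance
  obtain ⟨D, hDdef⟩ : ∃ D : Subgroup H, D = (S : Subgroup (Subgroup.centralizer
    ({g} : Set H))).map (Subgroup.centralizer ({g} : Set H)).subtype := ⟨_, rfl⟩
  have hD : Cfsg.IsDefectGroup p M b D := ⟨g, hg, S, hDdef⟩
  obtain ⟨E, hE, hle⟩ := exists_defectGroup_ge_of_induced hM H b B hind D hD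
  have h1 := card_defectGroup hMm p hM.2.2 b hb D hD
  have h2 := card_defectGroup hMm p hM.2.2 B hB E hE
  have h3 : Nat.card (D.map H.subtype) = Nat.card D :=
    Subgroup.card_map_of_injective H.subtype_injective
  have h4 : Nat.card (D.map H.subtype) ≤ Nat.card E := Subgroup.card_le_of_le hle
  rw [h3, h1, h2] at h4
  exact (Nat.pow_le_pow_iff_right hp.out.one_lt).mp h4

/-- **a block of positive defect is induced from a block of the same defect of the centralizer of
an element of order `p`** -/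
theorem exists_induced_block_defect_ge [Finite G] {p : ℕ} [hp : Fact p.Prime]
    (hM : Cfsg.IsPModular p M) (B : Set (Cfsg.IrrCharacter G)) (hB : Cfsg.IsPBlock M B)
    (hdef : Cfsg.blockDefect p B ≠ 0) :
    ∃ y : G, orderOf y = p ∧ ∃ b : Set (Cfsg.IrrCharacter (Subgroup.centralizer ({y} : Set G))),
      Cfsg.IsInducedBlock M (Subgroup.centralizer ({y} : Set G)) b B ∧
      Cfsg.blockDefect p B ≤ Cfsg.blockDefect p b := by
  classical
  haveI := Fintype.ofFinite G
  have hMm := hM.2.1
  obtain ⟨g₀, hg₀⟩ := exists_defectClass hMm B hB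
  obtain ⟨S⟩ : Nonempty (Sylow p (Subgroup.centralizer ({g₀} : Set G))) := inferInstance
  obtain ⟨D, hDdef⟩ : ∃ D : Subgroup G, D = (S : Subgroup (Subgroup.centralizer
    ({g₀} : Set G))).map (Subgroup.centralizer ({g₀} : Set G)).subtype := ⟨_, rfl⟩
  have hD : Cfsg.IsDefectGroup p M B D := ⟨g₀, hg₀, S, hDdef⟩
  have hDp : IsPGroup p D := IsDefectGroup.isPGroup hM B hB D hD
  have hDcard := card_defectGroup hMm p hM.2.2 B hB D hD
  have hdC := blockDefect_eq_of_defectClass hMm p hM.2.2 B hB g₀ hg₀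
  obtain ⟨d, hd⟩ : ∃ d : ℕ, d = Cfsg.blockDefect p B := ⟨_, rfl⟩
  rw [← hd] at hDcard hdC hdef ⊢
  haveI : Nontrivial D := by
    rw [← Finite.one_lt_card_iff_nontrivial, hDcard]
    exact Nat.one_lt_pow hdef hp.out.one_lt
  haveI := hDp.center_nontrivial
  have hpc : p ∣ Nat.card (Subgroup.center D) := by
    have hZp : IsPGroup p (Subgroup.center D) := hDp.to_subgroup _
    obtain ⟨k, hk⟩ := IsPGroup.iff_card.mp hZp
    have h1 : 1 < Nat.card (Subgroup.center D) :=
      Finite.one_lt_card_iff_nontrivial.mpr inferInstance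
    rw [hk] at h1 ⊢
    have : k ≠ 0 := by
      rintro rfl
      simp at h1
    exact dvd_pow_self p this
  obtain ⟨z', hz'⟩ := exists_prime_orderOf_dvd_card' p hpc
  obtain ⟨y, hydef⟩ : ∃ y : G, y = ((z' : D) : G) := ⟨_, rfl⟩
  have hyD : y ∈ D := by rw [hydef]; exact (z' : D).2
  have hyord : orderOf y = p := by
    rw [hydef, Subgroup.orderOf_coe, Subgroup.orderOf_coe, hz']
  have hycent : ∀ t ∈ D, t * y = y * t := by
    intro t ht
    have := Subgroup.mem_center_iff.mp z'.2 ⟨t, ht⟩
    rw [hydef]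
    exact congrArg Subtype.val this
  have hDg₀ : ∀ t ∈ D, t * g₀ = g₀ * t := by
    intro t ht
    rw [hDdef] at ht
    obtain ⟨s, _, rfl⟩ := Subgroup.mem_map.mp ht
    exact Subgroup.mem_centralizer_singleton_iff.mp s.2
  have hyg₀ : y * g₀ = g₀ * y := hDg₀ y hyD
  refine ⟨y, hyord, ?_⟩
  by_contra hcon
  have hall : ∀ b : Set (Cfsg.IrrCharacter (Subgroup.centralizer ({y} : Set G))),
      Cfsg.IsInducedBlock M (Subgroup.centralizer ({y} : Set G)) b B →
      Cfsg.blockDefect p b < d := by
    intro b hb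
    by_contra hlt
    exact hcon ⟨b, hb, not_lt.mp hlt⟩
  obtain ⟨H, hH⟩ : ∃ H : Subgroup G, H = Subgroup.centralizer ({y} : Set G) := ⟨_, rfl⟩
  haveI : Fintype (Subgroup.centralizer ({y} : Set G)) := Fintype.ofFinite _
  have hg₀H : g₀ ∈ Subgroup.centralizer ({y} : Set G) := by
    rw [Subgroup.mem_centralizer_singleton_iff]
    exact hyg₀.symm
  have hg₀reg : ¬ p ∣ orderOf g₀ := by
    intro hdiv
    apply hg₀.2.1
    rw [blockCoeff_eq_zero_of_singular hMm p hM.2.2 B hB g₀ hdiv]
    exact memLocalIdeal_zero hMm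
  obtain ⟨c₀, hc₀⟩ : ∃ c₀ : Subgroup.centralizer ({y} : Set G), c₀ = ⟨g₀, hg₀H⟩ := ⟨_, rfl⟩
  have hc₀G : (c₀ : G) = g₀ := by rw [hc₀]
  have hc₀reg : ¬ p ∣ orderOf c₀ := by
    rw [← Subgroup.orderOf_coe, hc₀G]
    exact hg₀reg
  -- a character of height zero
  obtain ⟨a, ha⟩ : ∃ a : ℕ, a = (Nat.card G).factorization p := ⟨_, rfl⟩
  obtain ⟨χ, hχB, hχdeg⟩ : ∃ χ ∈ B, (Cfsg.charDegree (χ : G → ℂ)).factorization p + d = a := by
    obtain ⟨χ₀, hχ₀⟩ := hB
    have hχ₀B : χ₀ ∈ B := by rw [hχ₀]; exact mem_blockOf_self hMm χ₀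
    have hne : ((fun χ : Cfsg.IrrCharacter G =>
        (Cfsg.charDegree (χ : G → ℂ)).factorization p) '' B).Nonempty := ⟨_, χ₀, hχ₀B, rfl⟩
    obtain ⟨χ, hχB, hχ⟩ := Nat.sInf_mem hne
    refine ⟨χ, hχB, ?_⟩
    have h2 : (Cfsg.charDegree (χ : G → ℂ)).factorization p ≤ (Nat.card G).factorization p := by
      have hdvd := charDegree_dvd_card χ.2
      exact (Nat.factorization_le_iff_dvd (charDegree_ne_zero_of_irr χ.2)
        Nat.card_pos.ne').mpr hdvd p
    simp only at hχ
    rw [hd, ha]
    unfold Cfsg.blockDefect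
    rw [← hχ]
    omega
  have hχchar := IsIrrCharacter.isCharacter χ.2
  have hχ1 : (χ : G → ℂ) 1 ≠ 0 := IsIrrCharacter.apply_one_ne_zero χ.2
  -- Claim A
  have hA : ¬ Cfsg.MemLocalIdeal M ((χ : G → ℂ) g₀) := by
    intro hmem
    apply hg₀.2.2 χ hχB
    have hidx0 : (Subgroup.centralizer ({g₀} : Set G)).index ≠ 0 := Subgroup.index_ne_zero_of_finite
    have hC0 : Nat.card (Subgroup.centralizer ({g₀} : Set G)) ≠ 0 := Nat.card_pos.ne'
    have hmul := Subgroup.card_mul_index (Subgroup.centralizer ({g₀} : Set G))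
    have hf := congrArg (fun n => n.factorization p) hmul
    simp only [Nat.factorization_mul hC0 hidx0, Finsupp.add_apply] at hf
    have hloc : Cfsg.MemLocalRing M
        (((Subgroup.centralizer ({g₀} : Set G)).index : ℂ) /
          (Cfsg.charDegree (χ : G → ℂ) : ℂ)) :=
      (memLocalRing_natCast_div_iff hM _ _ hidx0 (charDegree_ne_zero_of_irr χ.2)).mpr (by omega)
    have e : Cfsg.centralChar (χ : G → ℂ) g₀ =
        (((Subgroup.centralizer ({g₀} : Set G)).index : ℂ) /
          (Cfsg.charDegree (χ : G → ℂ) : ℂ)) * (χ : G → ℂ) g₀ := by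
      unfold Cfsg.centralChar
      rw [charDegree_cast_of_isCharacter hχchar]
      ring
    rw [e]
    exact MemLocalIdeal.mul_left hMm hloc hmem
  -- Claim B
  have hBc := char_mul_pElement_sub_memLocalIdeal hM hχchar y g₀ hyg₀ hyord hg₀reg
  -- Claim C
  have hsm := second_main_sum hM y ⟨1, by rw [hyord, pow_one]⟩ B hB χ c₀ hc₀reg
  rw [if_pos hχB, hc₀G] at hsm
  have hC : Cfsg.MemLocalIdeal M ((χ : G → ℂ) (y * g₀)) := by
    rw [← hsm]
    apply finsum_mem_induction (Cfsg.MemLocalIdeal M) (memLocalIdeal_zero hMm)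
      (fun x y => MemLocalIdeal.add hMm)
    intro ψ hψ
    have hψind : Cfsg.IsInducedBlock M (Subgroup.centralizer ({y} : Set G))
        (Cfsg.blockOf M (ψ : Subgroup.centralizer ({y} : Set G) → ℂ)) B := hψ
    have hlt := hall _ hψind
    have hint := isIntegral_classInner_translate (Subgroup.centralizer ({y} : Set G)) hχchar
      (⟨y, by rw [Subgroup.mem_centralizer_singleton_iff]⟩ : Subgroup.centralizer ({y} : Set G))
      (by
        intro h
        apply Subtype.ext
        exact Subgroup.mem_centralizer_singleton_iff.mp h.2) ψ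
    apply MemLocalIdeal.mul_left hMm (memLocalRing_of_isIntegral hMm hint)
    -- `ψ c₀` lies in the ideal
    have hψchar := IsIrrCharacter.isCharacter ψ.2
    have hψ1 : (ψ : Subgroup.centralizer ({y} : Set G) → ℂ) 1 ≠ 0 :=
      IsIrrCharacter.apply_one_ne_zero ψ.2
    have hidx0 : (Subgroup.centralizer
        ({c₀} : Set (Subgroup.centralizer ({y} : Set G)))).index ≠ 0 :=
      Subgroup.index_ne_zero_of_finite
    have hC0 : Nat.card (Subgroup.centralizer
        ({c₀} : Set (Subgroup.centralizer ({y} : Set G)))) ≠ 0 := Nat.card_pos.ne'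
    have hmul := Subgroup.card_mul_index (Subgroup.centralizer
        ({c₀} : Set (Subgroup.centralizer ({y} : Set G))))
    have hf := congrArg (fun n => n.factorization p) hmul
    simp only [Nat.factorization_mul hC0 hidx0, Finsupp.add_apply] at hf
    -- the degree
    have hdeg : (Nat.card (Subgroup.centralizer ({y} : Set G))).factorization p ≤
        (Cfsg.charDegree (ψ : Subgroup.centralizer ({y} : Set G) → ℂ)).factorization p +
          Cfsg.blockDefect p (Cfsg.blockOf M (ψ : Subgroup.centralizer ({y} : Set G) → ℂ)) := by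
      have h1 : sInf ((fun ξ : Cfsg.IrrCharacter (Subgroup.centralizer ({y} : Set G)) =>
          (Cfsg.charDegree (ξ : Subgroup.centralizer ({y} : Set G) → ℂ)).factorization p) ''
            (Cfsg.blockOf M (ψ : Subgroup.centralizer ({y} : Set G) → ℂ))) ≤
          (Cfsg.charDegree (ψ : Subgroup.centralizer ({y} : Set G) → ℂ)).factorization p :=
        Nat.sInf_le ⟨ψ, mem_blockOf_self hMm ψ, rfl⟩
      unfold Cfsg.blockDefect
      omega
    -- the centralizer of `c₀` contains `D`
    have hDle : D.subgroupOf (Subgroup.centralizer ({y} : Set G)) ≤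
        Subgroup.centralizer ({c₀} : Set (Subgroup.centralizer ({y} : Set G))) := by
      intro t ht
      rw [Subgroup.mem_centralizer_singleton_iff]
      apply Subtype.ext
      have := hDg₀ (t : G) (Subgroup.mem_subgroupOf.mp ht)
      rw [Subgroup.coe_mul, Subgroup.coe_mul, hc₀G]
      exact this
    have hDH : D ≤ Subgroup.centralizer ({y} : Set G) := by
      intro t ht
      rw [Subgroup.mem_centralizer_singleton_iff]
      exact hycent t ht
    have hcardD' : Nat.card (D.subgroupOf (Subgroup.centralizer ({y} : Set G))) = p ^ d := by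
      rw [← hDcard]
      exact Nat.card_congr (Subgroup.subgroupOfEquivOfLe hDH).toEquiv
    have hdvd := Subgroup.card_dvd_of_le hDle
    rw [hcardD'] at hdvd
    have hdle : d ≤ (Nat.card (Subgroup.centralizer
        ({c₀} : Set (Subgroup.centralizer ({y} : Set G))))).factorization p :=
      (Nat.Prime.pow_dvd_iff_le_factorization hp.out hC0).mp hdvd
    have hratio := memLocalIdeal_natCast_div_of_lt hM
      (Cfsg.charDegree (ψ : Subgroup.centralizer ({y} : Set G) → ℂ))
      (Subgroup.centralizer ({c₀} : Set (Subgroup.centralizer ({y} : Set G)))).index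
      (charDegree_ne_zero_of_irr ψ.2) hidx0 (by omega)
    have e : (ψ : Subgroup.centralizer ({y} : Set G) → ℂ) c₀ =
        Cfsg.centralChar (ψ : Subgroup.centralizer ({y} : Set G) → ℂ) c₀ *
        (((Cfsg.charDegree (ψ : Subgroup.centralizer ({y} : Set G) → ℂ) : ℕ) : ℂ) /
          ((Subgroup.centralizer
            ({c₀} : Set (Subgroup.centralizer ({y} : Set G)))).index : ℂ)) := by
      unfold Cfsg.centralChar
      rw [charDegree_cast_of_isCharacter hψchar]
      have hi : ((Subgroup.centralizer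
          ({c₀} : Set (Subgroup.centralizer ({y} : Set G)))).index : ℂ) ≠ 0 := by
        exact_mod_cast hidx0
      field_simp
    rw [e]
    exact MemLocalIdeal.mul_left hMm
      (memLocalRing_of_isIntegral hMm (isIntegral_centralChar ψ c₀)) hratio
  apply hA
  have := MemLocalIdeal.sub hMm hC hBc
  rwa [sub_sub_cancel] at this

end Cfsg.Agent.Helper6
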