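import Mathlib
import Cfsg.Prelude.Def_Characters
import Cfsg.Agent.Helper6.PermChar

/-!
# A twisted Burnside count for transitive actions

For a transitive action of a finite group `G` on a nonempty finite set `W` and ANY map
`τ : W → W`, the number of pairs `(g, w)` with `g • w = τ w` is `|G|`.
-/

set_option autoImplicit false
set_option linter.style.haveILetI false

namespace Cfsg.Agent.Helper6.FourTr

open Finset

universe u v

theorem sum_card_twisted {G : Type u} [Group G] [Fintype G] {W : Type v} [Fintype W]
    [DecidableEq W] [MulAction G W] [MulAction.IsPretransitive G W] [Nonempty W] (τ : W → W) :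
    ∑ g : G, (univ.filter (fun w : W => g • w = τ w)).card = Fintype.card G := by
  classical
  have h1 : ∑ g : G, (univ.filter (fun w : W => g • w = τ w)).card
      = ∑ w : W, (univ.filter (fun g : G => g • w = τ w)).card := by
    simp only [card_filter]
    exact sum_comm
  rw [h1]
  have h2 : ∀ w : W, (univ.filter (fun g : G => g • w = τ w)).card * Fintype.card W
      = Fintype.card G := by
    intro w
    rw [Cfsg.Agent.Helper6.card_fiber_smul W w (τ w)]
    have h3 := MulAction.index_stabilizer_of_transitive G w
    have h4 := Subgroup.card_mul_index (MulAction.stabilizer G w)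
    rw [h3, Nat.card_eq_fintype_card (α := W), Nat.card_eq_fintype_card (α := G)] at h4
    exact h4
  have hW : 0 < Fintype.card W := Fintype.card_pos
  apply Nat.eq_of_mul_eq_mul_right hW
  rw [sum_mul, sum_congr rfl (fun w _ => h2 w)]
  simp [mul_comm]

/-- The twisted count on injective `k`-tuples for a `k`-transitive action. -/
theorem sum_card_twisted_emb {G : Type u} [Group G] [Fintype G] {α : Type v} [Fintype α]
    [DecidableEq α] [MulAction G α] (k : ℕ) [MulAction.IsMultiplyPretransitive G α k]
    (hk : k ≤ Fintype.card α) (σ : Equiv.Perm (Fin k)) :
    ∑ g : G, (univ.filter (fun w : Fin k ↪ α => ∀ i, g • w i = w (σ i))).card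
      = Fintype.card G := by
  classical
  haveI : Nonempty (Fin k ↪ α) := by
    apply Function.Embedding.nonempty_of_card_le
    simpa using hk
  have key := sum_card_twisted (G := G) (W := Fin k ↪ α)
    (fun w => σ.toEmbedding.trans w)
  rw [← key]
  apply sum_congr rfl
  intro g _
  congr 1
  ext w
  simp only [mem_filter, mem_univ, true_and]
  constructor
  · intro h
    ext i
    simpa using h i
  · intro h i
    have := congrArg (fun v : Fin k ↪ α => v i) h
    simpa using this

end Cfsg.Agent.Helper6.FourTr
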