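import Mathlib
import Cfsg.Prelude.Def_Characters
import Cfsg.Agent.Helper6.FourTrA

/-!
# Counting twisted fixed tuples in terms of fixed points and swapped points
-/

set_option autoImplicit false
set_option linter.style.haveILetI false

namespace Cfsg.Agent.Helper6.FourTr

open Finset

universe u v

variable {G : Type u} [Group G] {α : Type v} [Fintype α] [DecidableEq α] [MulAction G α]

/-- The fixed points of `g`. -/
def fixS (g : G) : Finset α := univ.filter (fun x => g • x = x)

/-- The points lying in a 2-cycle of `g`. -/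
def swS (g : G) : Finset α := univ.filter (fun x => g • x ≠ x ∧ g • g • x = x)

theorem mem_fixS {g : G} {x : α} : x ∈ fixS g ↔ g • x = x := by simp [fixS]

theorem mem_swS {g : G} {x : α} : x ∈ swS g ↔ g • x ≠ x ∧ g • g • x = x := by simp [swS]

theorem smul_mem_swS {g : G} {x : α} (hx : x ∈ swS g) : g • x ∈ swS g := by
  rw [mem_swS] at hx ⊢
  refine ⟨?_, ?_⟩
  · rw [hx.2]; exact fun h => hx.1 h.symm
  · rw [hx.2]

theorem ne_of_fix_sw {g : G} {x y : α} (hx : x ∈ fixS g) (hy : y ∈ swS g) : x ≠ y := by
  rintro rfl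
  exact (mem_swS.mp hy).1 (mem_fixS.mp hx)

/-- injective pairs -/
def emb2 (x y : α) (h : x ≠ y) : Fin 2 ↪ α :=
  ⟨![x, y], by
    intro i j hij
    fin_cases i <;> fin_cases j <;> simp_all⟩

def emb3 (x y z : α) (hxy : x ≠ y) (hxz : x ≠ z) (hyz : y ≠ z) : Fin 3 ↪ α :=
  ⟨![x, y, z], by
    intro i j hij
    fin_cases i <;> fin_cases j <;> simp_all⟩

def emb4 (x y z t : α) (hxy : x ≠ y) (hxz : x ≠ z) (hxt : x ≠ t) (hyz : y ≠ z) (hyt : y ≠ t)
    (hzt : z ≠ t) : Fin 4 ↪ α :=
  ⟨![x, y, z, t], by
    intro i j hij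
    fin_cases i <;> fin_cases j <;> simp_all⟩

/-- Fixed injective `k`-tuples. -/
theorem card_fixed_emb (g : G) (k : ℕ) :
    (univ.filter (fun w : Fin k ↪ α => ∀ i, g • w i = w i)).card
      = (fixS (α := α) g).card.descFactorial k := by
  classical
  rw [← Fintype.card_subtype]
  have e : {w : Fin k ↪ α // ∀ i, g • w i = w i} ≃ (Fin k ↪ {x // x ∈ fixS g}) :=
    { toFun := fun w => ⟨fun i => ⟨w.1 i, mem_fixS.mpr (w.2 i)⟩, fun i j h =>
        w.1.injective (by simpa using congrArg Subtype.val h)⟩
      invFun := fun u => ⟨⟨fun i => (u i).1, fun i j h => u.injective (Subtype.ext h)⟩,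
        fun i => mem_fixS.mp (u i).2⟩
      left_inv := fun w => by ext; rfl
      right_inv := fun u => by ext; rfl }
  rw [Fintype.card_congr e, Fintype.card_embedding_eq, Fintype.card_coe, Fintype.card_fin]

/-- Swapped injective pairs. -/
theorem card_swap_emb2 (g : G) :
    (univ.filter (fun w : Fin 2 ↪ α => g • w 0 = w 1 ∧ g • w 1 = w 0)).card
      = (swS (α := α) g).card := by
  classical
  refine card_bij' (i := fun w _ => w 0)
    (j := fun x hx => emb2 x (g • x) (Ne.symm (mem_swS.mp hx).1)) ?hi ?hj ?li ?ri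
  case hi =>
    intro w hw
    simp only [mem_filter, mem_univ, true_and] at hw
    rw [mem_swS]
    refine ⟨?_, ?_⟩
    · rw [hw.1]
      exact w.injective.ne (by decide)
    · rw [hw.1, hw.2]
  case hj =>
    intro x hx
    simp only [mem_filter, mem_univ, true_and, emb2]
    exact ⟨rfl, (mem_swS.mp hx).2⟩
  case li =>
    intro w hw
    simp only [mem_filter, mem_univ, true_and] at hw
    ext i
    fin_cases i
    · rfl
    · simp [emb2, hw.1]
  case ri =>
    intro x hx
    rfl

/-- One fixed point and a swapped pair. -/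
theorem card_fix_swap_emb3 (g : G) :
    (univ.filter (fun w : Fin 3 ↪ α => g • w 0 = w 0 ∧ g • w 1 = w 2 ∧ g • w 2 = w 1)).card
      = (fixS (α := α) g).card * (swS (α := α) g).card := by
  classical
  rw [← card_product]
  refine card_bij' (i := fun w _ => (w 0, w 1))
    (j := fun p hp => emb3 p.1 p.2 (g • p.2)
      (ne_of_fix_sw (mem_product.mp hp).1 (mem_product.mp hp).2)
      (ne_of_fix_sw (mem_product.mp hp).1 (smul_mem_swS (mem_product.mp hp).2))
      (Ne.symm (mem_swS.mp (mem_product.mp hp).2).1)) ?hi ?hj ?li ?ri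
  case hi =>
    intro w hw
    simp only [mem_filter, mem_univ, true_and] at hw
    rw [mem_product, mem_fixS, mem_swS]
    refine ⟨hw.1, ?_, ?_⟩
    · rw [hw.2.1]
      exact w.injective.ne (by decide)
    · rw [hw.2.1, hw.2.2]
  case hj =>
    intro p hp
    simp only [mem_filter, mem_univ, true_and, emb3]
    exact ⟨mem_fixS.mp (mem_product.mp hp).1, rfl, (mem_swS.mp (mem_product.mp hp).2).2⟩
  case li =>
    intro w hw
    simp only [mem_filter, mem_univ, true_and] at hw
    ext i
    fin_cases i
    · rfl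
    · rfl
    · simp [emb3, hw.2.1]
  case ri =>
    intro p hp
    rfl

/-- Two fixed points and a swapped pair. -/
theorem card_fix_fix_swap_emb4 (g : G) :
    (univ.filter (fun w : Fin 4 ↪ α =>
        g • w 0 = w 0 ∧ g • w 1 = w 1 ∧ g • w 2 = w 3 ∧ g • w 3 = w 2)).card
      = (fixS (α := α) g).offDiag.card * (swS (α := α) g).card := by
  classical
  rw [← card_product]
  refine card_bij' (i := fun w _ => ((w 0, w 1), w 2))
    (j := fun p hp => emb4 p.1.1 p.1.2 p.2 (g • p.2)
      (mem_offDiag.mp (mem_product.mp hp).1).2.2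
      (ne_of_fix_sw (mem_offDiag.mp (mem_product.mp hp).1).1 (mem_product.mp hp).2)
      (ne_of_fix_sw (mem_offDiag.mp (mem_product.mp hp).1).1 (smul_mem_swS (mem_product.mp hp).2))
      (ne_of_fix_sw (mem_offDiag.mp (mem_product.mp hp).1).2.1 (mem_product.mp hp).2)
      (ne_of_fix_sw (mem_offDiag.mp (mem_product.mp hp).1).2.1
        (smul_mem_swS (mem_product.mp hp).2))
      (Ne.symm (mem_swS.mp (mem_product.mp hp).2).1)) ?hi ?hj ?li ?ri
  case hi =>
    intro w hw
    simp only [mem_filter, mem_univ, true_and] at hw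
    rw [mem_product, mem_offDiag, mem_fixS, mem_fixS, mem_swS]
    refine ⟨⟨hw.1, hw.2.1, w.injective.ne (by decide)⟩, ?_, ?_⟩
    · rw [hw.2.2.1]
      exact w.injective.ne (by decide)
    · rw [hw.2.2.1, hw.2.2.2]
  case hj =>
    intro p hp
    simp only [mem_filter, mem_univ, true_and, emb4]
    exact ⟨mem_fixS.mp (mem_offDiag.mp (mem_product.mp hp).1).1,
      mem_fixS.mp (mem_offDiag.mp (mem_product.mp hp).1).2.1, rfl,
      (mem_swS.mp (mem_product.mp hp).2).2⟩
  case li =>
    intro w hw
    simp only [mem_filter, mem_univ, true_and] at hw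
    ext i
    fin_cases i
    · rfl
    · rfl
    · rfl
    · simp [emb4, hw.2.2.1]
  case ri =>
    intro p hp
    rfl

/-- Pairs of swapped points in different 2-cycles. -/
theorem card_swS_pairs (g : G) :
    ((swS (α := α) g ×ˢ swS (α := α) g).filter (fun p => p.2 ≠ p.1 ∧ p.2 ≠ g • p.1)).card
      + 2 * (swS (α := α) g).card = (swS (α := α) g).card * (swS (α := α) g).card := by
  classical
  rw [card_filter, sum_product]
  have h : ∀ x ∈ swS (α := α) g,
      (∑ y ∈ swS (α := α) g, if (y ≠ x ∧ y ≠ g • x) then 1 else 0) + 2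
        = (swS (α := α) g).card := by
    intro x hx
    rw [← card_filter]
    have hsub : ({x, g • x} : Finset α) ⊆ swS (α := α) g := by
      intro y hy
      rw [mem_insert, mem_singleton] at hy
      rcases hy with rfl | rfl
      · exact hx
      · exact smul_mem_swS hx
    have hc : ({x, g • x} : Finset α).card = 2 :=
      card_pair (Ne.symm (mem_swS.mp hx).1)
    have heq : (swS (α := α) g).filter (fun y => y ≠ x ∧ y ≠ g • x)
        = swS (α := α) g \ {x, g • x} := by
      ext y
      simp only [mem_filter, mem_sdiff, mem_insert, mem_singleton, not_or]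
    rw [heq, card_sdiff_of_subset hsub, hc]
    have : 2 ≤ (swS (α := α) g).card := hc ▸ card_le_card hsub
    omega
  have h2 : ∑ x ∈ swS (α := α) g,
      ((∑ y ∈ swS (α := α) g, if (y ≠ x ∧ y ≠ g • x) then 1 else 0) + 2)
        = (swS (α := α) g).card * (swS (α := α) g).card := by
    rw [sum_congr rfl h]
    simp
  rw [sum_add_distrib] at h2
  simp only [sum_const, smul_eq_mul] at h2
  rw [← h2, mul_comm 2]

/-- Two swapped pairs. -/
theorem card_swap_swap_emb4 (g : G) :
    (univ.filter (fun w : Fin 4 ↪ α =>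
        g • w 0 = w 1 ∧ g • w 1 = w 0 ∧ g • w 2 = w 3 ∧ g • w 3 = w 2)).card
      + 2 * (swS (α := α) g).card = (swS (α := α) g).card * (swS (α := α) g).card := by
  classical
  rw [← card_swS_pairs g]
  congr 1
  refine card_bij' (i := fun w _ => (w 0, w 2))
    (j := fun p hp => emb4 p.1 (g • p.1) p.2 (g • p.2)
      (Ne.symm (mem_swS.mp (mem_product.mp (mem_filter.mp hp).1).1).1)
      (Ne.symm (mem_filter.mp hp).2.1)
      (by
        intro h
        apply (mem_filter.mp hp).2.2
        rw [h, (mem_swS.mp (mem_product.mp (mem_filter.mp hp).1).2).2])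
      (Ne.symm (mem_filter.mp hp).2.2)
      (by
        intro h
        exact (mem_filter.mp hp).2.1 (MulAction.injective g h).symm)
      (Ne.symm (mem_swS.mp (mem_product.mp (mem_filter.mp hp).1).2).1)) ?hi ?hj ?li ?ri
  case hi =>
    intro w hw
    simp only [mem_filter, mem_univ, true_and] at hw
    rw [mem_filter, mem_product, mem_swS, mem_swS]
    refine ⟨⟨⟨?_, ?_⟩, ?_, ?_⟩, ?_, ?_⟩
    · rw [hw.1]; exact w.injective.ne (by decide)
    · rw [hw.1, hw.2.1]
    · rw [hw.2.2.1]; exact w.injective.ne (by decide)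
    · rw [hw.2.2.1, hw.2.2.2]
    · exact w.injective.ne (by decide)
    · show w 2 ≠ g • w 0
      rw [hw.1]; exact w.injective.ne (by decide)
  case hj =>
    intro p hp
    simp only [mem_filter, mem_univ, true_and, emb4]
    exact ⟨rfl, (mem_swS.mp (mem_product.mp (mem_filter.mp hp).1).1).2, rfl,
      (mem_swS.mp (mem_product.mp (mem_filter.mp hp).1).2).2⟩
  case li =>
    intro w hw
    simp only [mem_filter, mem_univ, true_and] at hw
    ext i
    fin_cases i
    · rfl
    · simp [emb4, hw.1]
    · rfl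
    · simp [emb4, hw.2.2.1]
  case ri =>
    intro p hp
    rfl

end Cfsg.Agent.Helper6.FourTr
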