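import Mathlib
import Cfsg.Prelude.Def_Characters
import Cfsg.Agent.Helper6.FourTrB

/-!
# Moments of the fixed-point and swapped-point counts for a 4-transitive action
-/

set_option autoImplicit false
set_option linter.style.haveILetI false

namespace Cfsg.Agent.Helper6.FourTr

open Finset

universe u v

variable {G : Type u} [Group G] [Fintype G] {α : Type v} [Fintype α] [DecidableEq α]
  [MulAction G α]

/-- number of fixed points, as a complex number -/
noncomputable def fN (α : Type v) [Fintype α] [DecidableEq α] [MulAction G α] (g : G) : ℂ :=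
  ((fixS (α := α) g).card : ℂ)

/-- number of swapped points, as a complex number -/
noncomputable def sN (α : Type v) [Fintype α] [DecidableEq α] [MulAction G α] (g : G) : ℂ :=
  ((swS (α := α) g).card : ℂ)

theorem cast_descFactorial_one (n : ℕ) : ((n.descFactorial 1 : ℕ) : ℂ) = n := by
  simp

theorem cast_descFactorial_two (n : ℕ) : ((n.descFactorial 2 : ℕ) : ℂ) = n * (n - 1) := by
  rcases n with _ | n
  · simp
  · simp only [Nat.descFactorial_succ, Nat.descFactorial_zero]
    push_cast
    simp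
    ring

theorem cast_descFactorial_three (n : ℕ) :
    ((n.descFactorial 3 : ℕ) : ℂ) = n * (n - 1) * (n - 2) := by
  rcases n with _ | _ | n
  · simp
  · simp [Nat.descFactorial_succ]
  · simp only [Nat.descFactorial_succ, Nat.descFactorial_zero]
    have h1 : n + 1 + 1 - 2 = n := by omega
    have h2 : n + 1 + 1 - 1 = n + 1 := by omega
    have h3 : n + 1 + 1 - 0 = n + 2 := by omega
    rw [h1, h2, h3]
    push_cast
    ring

theorem cast_descFactorial_four (n : ℕ) :
    ((n.descFactorial 4 : ℕ) : ℂ) = n * (n - 1) * (n - 2) * (n - 3) := by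
  rcases n with _ | _ | _ | n
  · simp
  · simp [Nat.descFactorial_succ]
  · simp [Nat.descFactorial_succ]
  · simp only [Nat.descFactorial_succ, Nat.descFactorial_zero]
    have h0 : n + 1 + 1 + 1 - 3 = n := by omega
    have h1 : n + 1 + 1 + 1 - 2 = n + 1 := by omega
    have h2 : n + 1 + 1 + 1 - 1 = n + 2 := by omega
    have h3 : n + 1 + 1 + 1 - 0 = n + 3 := by omega
    rw [h0, h1, h2, h3]
    push_cast
    ring

section moments

variable [h4t : MulAction.IsMultiplyPretransitive G α 4]

theorem sum_descFactorial (h4 : 4 ≤ Fintype.card α) (k : ℕ) (hk : k ≤ 4) :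
    ∑ g : G, (((fixS (α := α) g).card.descFactorial k : ℕ) : ℂ) = Fintype.card G := by
  classical
  haveI : MulAction.IsMultiplyPretransitive G α k :=
    MulAction.isMultiplyPretransitive_of_le hk (by rw [Nat.card_eq_fintype_card]; exact h4)
  have key := sum_card_twisted_emb (G := G) (α := α) k (le_trans hk h4) 1
  rw [← key, Nat.cast_sum]
  apply sum_congr rfl
  intro g _
  rw [← card_fixed_emb g k]
  congr!

theorem sum_tw1 (h4 : 4 ≤ Fintype.card α) :
    ∑ g : G, (((swS (α := α) g).card : ℕ) : ℂ) = Fintype.card G := by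
  classical
  haveI : MulAction.IsMultiplyPretransitive G α 2 :=
    MulAction.isMultiplyPretransitive_of_le (n := 4) (by norm_num)
      (by rw [Nat.card_eq_fintype_card]; exact h4)
  have key := sum_card_twisted_emb (G := G) (α := α) 2 (by omega) (Equiv.swap 0 1)
  rw [← key, Nat.cast_sum]
  apply sum_congr rfl
  intro g _
  rw [← card_swap_emb2 g]
  have e0 : (Equiv.swap (0 : Fin 2) 1) 0 = 1 := by decide
  have e1 : (Equiv.swap (0 : Fin 2) 1) 1 = 0 := by decide
  congr 2
  ext w
  simp only [mem_filter, mem_univ, true_and]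
  constructor
  · intro h
    intro i
    fin_cases i
    · show g • w 0 = w ((Equiv.swap (0 : Fin 2) 1) 0)
      rw [e0]; exact h.1
    · show g • w 1 = w ((Equiv.swap (0 : Fin 2) 1) 1)
      rw [e1]; exact h.2
  · intro h
    have h0 := h 0
    have h1 := h 1
    rw [e0] at h0
    rw [e1] at h1
    exact ⟨h0, h1⟩

theorem sum_tw2 (h4 : 4 ≤ Fintype.card α) :
    ∑ g : G, ((((fixS (α := α) g).card * (swS (α := α) g).card : ℕ)) : ℂ) = Fintype.card G := by
  classical
  haveI : MulAction.IsMultiplyPretransitive G α 3 :=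
    MulAction.isMultiplyPretransitive_of_le (n := 4) (by norm_num)
      (by rw [Nat.card_eq_fintype_card]; exact h4)
  have key := sum_card_twisted_emb (G := G) (α := α) 3 (by omega) (Equiv.swap 1 2)
  rw [← key, Nat.cast_sum]
  apply sum_congr rfl
  intro g _
  have hc := card_fix_swap_emb3 (α := α) g
  have hc' : (((fixS (α := α) g).card : ℂ)) * ((swS (α := α) g).card : ℂ)
      = (((univ.filter (fun w : Fin 3 ↪ α =>
          g • w 0 = w 0 ∧ g • w 1 = w 2 ∧ g • w 2 = w 1)).card : ℕ) : ℂ) := by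
    rw [hc]; push_cast; rfl
  rw [Nat.cast_mul, hc']
  have e0 : (Equiv.swap (1 : Fin 3) 2) 0 = 0 := by decide
  have e1 : (Equiv.swap (1 : Fin 3) 2) 1 = 2 := by decide
  have e2 : (Equiv.swap (1 : Fin 3) 2) 2 = 1 := by decide
  congr 2
  ext w
  simp only [mem_filter, mem_univ, true_and]
  constructor
  · intro h
    intro i
    fin_cases i
    · show g • w 0 = w ((Equiv.swap (1 : Fin 3) 2) 0)
      rw [e0]; exact h.1
    · show g • w 1 = w ((Equiv.swap (1 : Fin 3) 2) 1)
      rw [e1]; exact h.2.1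
    · show g • w 2 = w ((Equiv.swap (1 : Fin 3) 2) 2)
      rw [e2]; exact h.2.2
  · intro h
    have h0 := h 0
    have h1 := h 1
    have h2 := h 2
    rw [e0] at h0
    rw [e1] at h1
    rw [e2] at h2
    exact ⟨h0, h1, h2⟩

theorem sum_tw3 (h4 : 4 ≤ Fintype.card α) :
    ∑ g : G, ((((fixS (α := α) g).offDiag.card * (swS (α := α) g).card : ℕ)) : ℂ)
      = Fintype.card G := by
  classical
  have key := sum_card_twisted_emb (G := G) (α := α) 4 h4 (Equiv.swap 2 3)
  rw [← key, Nat.cast_sum]
  apply sum_congr rfl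
  intro g _
  have hc := card_fix_fix_swap_emb4 (α := α) g
  have hc' : (((fixS (α := α) g).offDiag.card : ℂ)) * ((swS (α := α) g).card : ℂ)
      = (((univ.filter (fun w : Fin 4 ↪ α =>
          g • w 0 = w 0 ∧ g • w 1 = w 1 ∧ g • w 2 = w 3 ∧ g • w 3 = w 2)).card : ℕ) : ℂ) := by
    rw [hc]; push_cast; rfl
  rw [Nat.cast_mul, hc']
  have e0 : (Equiv.swap (2 : Fin 4) 3) 0 = 0 := by decide
  have e1 : (Equiv.swap (2 : Fin 4) 3) 1 = 1 := by decide
  have e2 : (Equiv.swap (2 : Fin 4) 3) 2 = 3 := by decide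
  have e3 : (Equiv.swap (2 : Fin 4) 3) 3 = 2 := by decide
  congr 2
  ext w
  simp only [mem_filter, mem_univ, true_and]
  constructor
  · intro h
    intro i
    fin_cases i
    · show g • w 0 = w ((Equiv.swap (2 : Fin 4) 3) 0)
      rw [e0]; exact h.1
    · show g • w 1 = w ((Equiv.swap (2 : Fin 4) 3) 1)
      rw [e1]; exact h.2.1
    · show g • w 2 = w ((Equiv.swap (2 : Fin 4) 3) 2)
      rw [e2]; exact h.2.2.1
    · show g • w 3 = w ((Equiv.swap (2 : Fin 4) 3) 3)
      rw [e3]; exact h.2.2.2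
  · intro h
    have h0 := h 0
    have h1 := h 1
    have h2 := h 2
    have h3 := h 3
    rw [e0] at h0
    rw [e1] at h1
    rw [e2] at h2
    rw [e3] at h3
    exact ⟨h0, h1, h2, h3⟩

theorem sum_tw4 (h4 : 4 ≤ Fintype.card α) :
    ∑ g : G, ((((swS (α := α) g).card : ℂ)) * ((swS (α := α) g).card : ℂ)
      - 2 * ((swS (α := α) g).card : ℂ)) = Fintype.card G := by
  classical
  have key := sum_card_twisted_emb (G := G) (α := α) 4 h4
    (Equiv.swap 0 1 * Equiv.swap 2 3)
  rw [← key, Nat.cast_sum]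
  apply sum_congr rfl
  intro g _
  have hc := card_swap_swap_emb4 (α := α) g
  have hc' : (((swS (α := α) g).card : ℂ)) * ((swS (α := α) g).card : ℂ)
      - 2 * ((swS (α := α) g).card : ℂ)
      = (((univ.filter (fun w : Fin 4 ↪ α =>
          g • w 0 = w 1 ∧ g • w 1 = w 0 ∧ g • w 2 = w 3 ∧ g • w 3 = w 2)).card : ℕ) : ℂ) := by
    have := congrArg (fun n : ℕ => (n : ℂ)) hc
    simp only [Nat.cast_add, Nat.cast_mul, Nat.cast_ofNat] at this
    rw [← this]; ring
  rw [hc']
  have e0 : (Equiv.swap (0 : Fin 4) 1 * Equiv.swap 2 3 : Equiv.Perm (Fin 4)) 0 = 1 := by decide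
  have e1 : (Equiv.swap (0 : Fin 4) 1 * Equiv.swap 2 3 : Equiv.Perm (Fin 4)) 1 = 0 := by decide
  have e2 : (Equiv.swap (0 : Fin 4) 1 * Equiv.swap 2 3 : Equiv.Perm (Fin 4)) 2 = 3 := by decide
  have e3 : (Equiv.swap (0 : Fin 4) 1 * Equiv.swap 2 3 : Equiv.Perm (Fin 4)) 3 = 2 := by decide
  congr 2
  ext w
  simp only [mem_filter, mem_univ, true_and]
  constructor
  · intro h
    intro i
    fin_cases i
    · show g • w 0 = w ((Equiv.swap (0 : Fin 4) 1 * Equiv.swap 2 3 : Equiv.Perm (Fin 4)) 0)
      rw [e0]; exact h.1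
    · show g • w 1 = w ((Equiv.swap (0 : Fin 4) 1 * Equiv.swap 2 3 : Equiv.Perm (Fin 4)) 1)
      rw [e1]; exact h.2.1
    · show g • w 2 = w ((Equiv.swap (0 : Fin 4) 1 * Equiv.swap 2 3 : Equiv.Perm (Fin 4)) 2)
      rw [e2]; exact h.2.2.1
    · show g • w 3 = w ((Equiv.swap (0 : Fin 4) 1 * Equiv.swap 2 3 : Equiv.Perm (Fin 4)) 3)
      rw [e3]; exact h.2.2.2
  · intro h
    have h0 := h 0
    have h1 := h 1
    have h2 := h 2
    have h3 := h 3
    rw [e0] at h0
    rw [e1] at h1
    rw [e2] at h2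
    rw [e3] at h3
    exact ⟨h0, h1, h2, h3⟩

theorem mom1 (h4 : 4 ≤ Fintype.card α) : ∑ g : G, fN α g = Fintype.card G := by
  have := sum_descFactorial (G := G) (α := α) h4 1 (by norm_num)
  simp only [cast_descFactorial_one] at this
  exact this

theorem mom2 (h4 : 4 ≤ Fintype.card α) :
    ∑ g : G, fN α g * (fN α g - 1) = Fintype.card G := by
  have := sum_descFactorial (G := G) (α := α) h4 2 (by norm_num)
  simp only [cast_descFactorial_two] at this
  exact this

theorem mom3 (h4 : 4 ≤ Fintype.card α) :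
    ∑ g : G, fN α g * (fN α g - 1) * (fN α g - 2) = Fintype.card G := by
  have := sum_descFactorial (G := G) (α := α) h4 3 (by norm_num)
  simp only [cast_descFactorial_three] at this
  exact this

theorem mom4 (h4 : 4 ≤ Fintype.card α) :
    ∑ g : G, fN α g * (fN α g - 1) * (fN α g - 2) * (fN α g - 3) = Fintype.card G := by
  have := sum_descFactorial (G := G) (α := α) h4 4 (by norm_num)
  simp only [cast_descFactorial_four] at this
  exact this

theorem tw1 (h4 : 4 ≤ Fintype.card α) : ∑ g : G, sN α g = Fintype.card G :=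
  sum_tw1 h4

theorem tw2 (h4 : 4 ≤ Fintype.card α) : ∑ g : G, fN α g * sN α g = Fintype.card G := by
  have := sum_tw2 (G := G) (α := α) h4
  simp only [Nat.cast_mul] at this
  exact this

theorem tw3 (h4 : 4 ≤ Fintype.card α) :
    ∑ g : G, fN α g * (fN α g - 1) * sN α g = Fintype.card G := by
  have := sum_tw3 (G := G) (α := α) h4
  rw [← this]
  apply sum_congr rfl
  intro g _
  rw [Nat.cast_mul, offDiag_card, Nat.cast_sub (Nat.le_mul_self _), Nat.cast_mul]
  unfold fN sN
  ring

theorem tw4 (h4 : 4 ≤ Fintype.card α) :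
    ∑ g : G, (sN α g * sN α g - 2 * sN α g) = Fintype.card G :=
  sum_tw4 h4

end moments

end Cfsg.Agent.Helper6.FourTr
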