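import Mathlib
import Cfsg.Prelude.Def_Characters
import Cfsg.Agent.Helper6.FourTrC
import Cfsg.Agent.Helper6.PermOrbits
import Cfsg.Agent.Helper6.Induced
import Cfsg.Agent.Helper6.Brauer10
import Cfsg.Agent.Helper6.CharBasic

/-!
# Permutation characters on points and on 2-subsets
-/

set_option autoImplicit false
set_option linter.style.haveILetI false

namespace Cfsg.Agent.Helper6.FourTr

open Finset
open scoped Pointwise

universe u v

/-- Any permutation character is a character. -/
theorem isCharacter_permChar {G : Type u} [Group G] [Fintype G] (X : Type v) [MulAction G X]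
    [Finite X] : Cfsg.IsCharacter G (fun g : G => (Nat.card (MulAction.fixedBy X g) : ℂ)) := by
  classical
  haveI : Fintype (MulAction.orbitRel.Quotient G X) := Fintype.ofFinite _
  rw [Cfsg.Agent.Helper6.permChar_eq_sum_indFun X (fun ω => Quotient.out ω)
    (fun ω => Quotient.out_eq' ω)]
  apply Cfsg.Agent.Helper6.IsCharacter.sum
  intro ω _
  exact Cfsg.Agent.Helper6.isCharacter_indFun _ _ Cfsg.Agent.Helper6.isCharacter_one

variable {G : Type u} [Group G] {α : Type v} [Fintype α] [DecidableEq α] [MulAction G α]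

theorem card_fixedBy_eq (g : G) :
    Nat.card (MulAction.fixedBy α g) = (fixS (α := α) g).card := by
  classical
  rw [Nat.card_eq_fintype_card, fixS, ← Fintype.card_subtype]
  apply Fintype.card_congr
  exact Equiv.subtypeEquivRight (fun x => MulAction.mem_fixedBy)

theorem finset_pair_eq_pair_iff {x y z w : α} :
    ({x, y} : Finset α) = {z, w} ↔ x = z ∧ y = w ∨ x = w ∧ y = z := by
  rw [← Finset.coe_inj]
  push_cast
  exact Set.pair_eq_pair_iff

/-- The `g`-invariant 2-subsets. -/
def pairS (g : G) : Finset (Finset α) :=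
  (univ.powersetCard 2).filter (fun A => g • A = A)

theorem mem_pairS {g : G} {A : Finset α} : A ∈ pairS g ↔ A.card = 2 ∧ g • A = A := by
  simp [pairS, mem_powersetCard]

theorem smul_pair (g : G) (x y : α) : g • ({x, y} : Finset α) = {g • x, g • y} := by
  rw [smul_finset_insert, smul_finset_singleton]

theorem two_mul_card_pairS (g : G) :
    2 * (pairS (α := α) g).card = (fixS (α := α) g).offDiag.card + (swS (α := α) g).card := by
  classical
  -- ordered pairs spanning an invariant 2-subset
  obtain ⟨T, hT⟩ : ∃ T : Finset (α × α), T = univ.filter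
      (fun p : α × α => p.1 ≠ p.2 ∧ g • ({p.1, p.2} : Finset α) = {p.1, p.2}) := ⟨_, rfl⟩
  have hmem : ∀ p : α × α, p ∈ T ↔ p.1 ≠ p.2 ∧
      ((g • p.1 = p.1 ∧ g • p.2 = p.2) ∨ (g • p.1 = p.2 ∧ g • p.2 = p.1)) := by
    intro p
    rw [hT, mem_filter, smul_pair, finset_pair_eq_pair_iff]
    simp
  -- first count
  have h1 : T.card = (pairS (α := α) g).card * 2 := by
    have hmaps : (T : Set (α × α)).MapsTo (fun p : α × α => ({p.1, p.2} : Finset α))
        (pairS (α := α) g) := by
      intro p hp
      rw [mem_coe, hT, mem_filter] at hp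
      rw [mem_coe, mem_pairS]
      exact ⟨card_pair hp.2.1, hp.2.2⟩
    rw [card_eq_sum_card_fiberwise hmaps]
    rw [sum_const_nat]
    intro A hA
    rw [mem_pairS] at hA
    obtain ⟨a, b, hab, rfl⟩ := card_eq_two.mp hA.1
    have hfib : T.filter (fun p : α × α => ({p.1, p.2} : Finset α) = {a, b})
        = {(a, b), (b, a)} := by
      ext p
      rw [mem_filter, mem_insert, mem_singleton, finset_pair_eq_pair_iff]
      constructor
      · rintro ⟨_, h | h⟩
        · left; exact Prod.ext h.1 h.2
        · right; exact Prod.ext h.1 h.2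
      · rintro (rfl | rfl)
        · refine ⟨?_, Or.inl ⟨rfl, rfl⟩⟩
          rw [hT, mem_filter]
          exact ⟨mem_univ _, hab, hA.2⟩
        · refine ⟨?_, Or.inr ⟨rfl, rfl⟩⟩
          rw [hT, mem_filter]
          refine ⟨mem_univ _, hab.symm, ?_⟩
          show g • ({b, a} : Finset α) = {b, a}
          rw [pair_comm b a]
          exact hA.2
    rw [hfib]
    apply card_pair
    intro h
    exact hab (Prod.ext_iff.mp h).1
  -- second count
  have h2 : T = (fixS (α := α) g).offDiag ∪ (swS (α := α) g).image (fun x => (x, g • x)) := by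
    ext p
    rw [hmem, mem_union, mem_offDiag, mem_image, mem_fixS, mem_fixS]
    constructor
    · rintro ⟨hne, h | h⟩
      · left; exact ⟨h.1, h.2, hne⟩
      · right
        refine ⟨p.1, ?_, Prod.ext rfl h.1⟩
        rw [mem_swS, h.1, h.2]
        exact ⟨hne.symm, rfl⟩
    · rintro (⟨h1, h2, hne⟩ | ⟨x, hx, rfl⟩)
      · exact ⟨hne, Or.inl ⟨h1, h2⟩⟩
      · rw [mem_swS] at hx
        exact ⟨hx.1.symm, Or.inr ⟨rfl, hx.2⟩⟩
  have h3 : Disjoint (fixS (α := α) g).offDiag
      ((swS (α := α) g).image (fun x => (x, g • x))) := by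
    rw [disjoint_left]
    intro p hp hq
    rw [mem_offDiag, mem_fixS] at hp
    rw [mem_image] at hq
    obtain ⟨x, hx, rfl⟩ := hq
    exact (mem_swS.mp hx).1 hp.1
  have h4 : ((swS (α := α) g).image (fun x => (x, g • x))).card = (swS (α := α) g).card := by
    apply card_image_of_injective
    intro x y h
    exact (Prod.ext_iff.mp h).1
  rw [mul_comm, ← h1, h2, card_union_of_disjoint h3, h4]

theorem card_fixedBy_pairs_eq (g : G) :
    Nat.card (MulAction.fixedBy (Set.powersetCard α 2) g) = (pairS (α := α) g).card := by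
  classical
  rw [Nat.card_eq_fintype_card, ← Fintype.card_coe]
  apply Fintype.card_congr
  refine
    { toFun := fun s => ⟨(s.1 : Finset α), ?_⟩
      invFun := fun A => ⟨⟨A.1, ?_⟩, ?_⟩
      left_inv := fun s => by rfl
      right_inv := fun A => by rfl }
  · rw [mem_pairS]
    refine ⟨s.1.2, ?_⟩
    have h := s.2
    rw [MulAction.mem_fixedBy] at h
    have h2 := congrArg (fun t : Set.powersetCard α 2 => (t : Finset α)) h
    simpa using h2
  · exact (mem_pairS.mp A.2).1
  · rw [MulAction.mem_fixedBy]
    apply Subtype.ext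
    rw [Set.powersetCard.coe_smul]
    exact (mem_pairS.mp A.2).2

end Cfsg.Agent.Helper6.FourTr
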