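import Mathlib
import Cfsg.Agent.Helper6.BLeoA

/-!
# Dihedral Sylow 2-subgroups: the combinatorial lemma, part 1 (vectors of small norm)
-/

set_option autoImplicit false
set_option linter.style.haveILetI false

namespace Cfsg.Agent.Helper6.DihBr

variable {ι : Type*} [Fintype ι] [DecidableEq ι]

omit [DecidableEq ι] in
theorem sq_le_norm (x : ι → ℤ) (j : ι) : x j ^ 2 ≤ ∑ i, x i ^ 2 :=
  Finset.single_le_sum (f := fun i => x i ^ 2) (fun i _ => sq_nonneg (x i)) (Finset.mem_univ j)

omit [DecidableEq ι] in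
/-- entries of a vector of norm at most three -/
theorem entry_of_norm_le_three (x : ι → ℤ) (h : ∑ i, x i ^ 2 ≤ 3) (j : ι) :
    x j = 0 ∨ x j = 1 ∨ x j = -1 := by
  have h1 := sq_le_norm x j
  have h2 : x j ^ 2 ≤ 3 := le_trans h1 h
  have h3 : x j < 2 := by nlinarith
  have h4 : -2 < x j := by nlinarith
  omega

/-- An integer vector of square norm `2` is `± e_a ± e_b`. -/
theorem norm_two_classify (x : ι → ℤ) (h2 : ∑ i, x i ^ 2 = 2) :
    ∃ a b, a ≠ b ∧ (x a = 1 ∨ x a = -1) ∧ (x b = 1 ∨ x b = -1) ∧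
      ∀ i, i ≠ a → i ≠ b → x i = 0 := by
  have hne : ∃ a, x a ≠ 0 := by
    by_contra hcon
    simp only [not_exists, not_not] at hcon
    have : ∑ i, x i ^ 2 = 0 := Finset.sum_eq_zero (fun i _ => by rw [hcon i]; ring)
    omega
  obtain ⟨a, ha⟩ := hne
  have hsplit : x a ^ 2 + ∑ i ∈ Finset.univ.erase a, x i ^ 2 = 2 := by
    have := Finset.add_sum_erase Finset.univ (fun i => x i ^ 2) (Finset.mem_univ a)
    rw [this]; exact h2
  have hrest_nonneg : 0 ≤ ∑ i ∈ Finset.univ.erase a, x i ^ 2 :=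
    Finset.sum_nonneg (fun i _ => sq_nonneg _)
  have hxa : x a = 1 ∨ x a = -1 := BLeo.int_sq_le_two (by omega) ha
  have hxa2 : x a ^ 2 = 1 := by rcases hxa with h | h <;> rw [h] <;> norm_num
  have hrest : ∑ i ∈ Finset.univ.erase a, x i ^ 2 = 1 := by omega
  have hne' : ∃ b ∈ Finset.univ.erase a, x b ≠ 0 := by
    by_contra hcon
    simp only [not_exists, not_and, not_not] at hcon
    have : ∑ i ∈ Finset.univ.erase a, x i ^ 2 = 0 :=
      Finset.sum_eq_zero (fun i hi => by rw [hcon i hi]; ring)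
    omega
  obtain ⟨b, hb, hxb0⟩ := hne'
  have hba : b ≠ a := (Finset.mem_erase.mp hb).1
  have hsplit2 : x b ^ 2 + ∑ i ∈ (Finset.univ.erase a).erase b, x i ^ 2 = 1 := by
    have := Finset.add_sum_erase (Finset.univ.erase a) (fun i => x i ^ 2) hb
    rw [this]; exact hrest
  have hrest2_nonneg : 0 ≤ ∑ i ∈ (Finset.univ.erase a).erase b, x i ^ 2 :=
    Finset.sum_nonneg (fun i _ => sq_nonneg _)
  have hxb : x b = 1 ∨ x b = -1 := BLeo.int_sq_le_two (by omega) hxb0
  have hxb2 : x b ^ 2 = 1 := by rcases hxb with h | h <;> rw [h] <;> norm_num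
  have hrest2 : ∑ i ∈ (Finset.univ.erase a).erase b, x i ^ 2 = 0 := by omega
  have hzero : ∀ i, i ≠ a → i ≠ b → x i = 0 := by
    intro i hia hib
    have hmem : i ∈ (Finset.univ.erase a).erase b :=
      Finset.mem_erase.mpr ⟨hib, Finset.mem_erase.mpr ⟨hia, Finset.mem_univ i⟩⟩
    have := (Finset.sum_eq_zero_iff_of_nonneg (fun i _ => sq_nonneg (x i))).mp hrest2 i hmem
    exact pow_eq_zero_iff (two_ne_zero) |>.mp this
  exact ⟨a, b, hba.symm, hxa, hxb, hzero⟩

/-- The sum of a function supported on two points. -/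
theorem sum_of_support_two (f : ι → ℤ) (a b : ι) (hab : a ≠ b)
    (h : ∀ i, i ≠ a → i ≠ b → f i = 0) : ∑ i, f i = f a + f b := by
  have h1 : ∑ i, f i = f a + ∑ i ∈ Finset.univ.erase a, f i :=
    (Finset.add_sum_erase Finset.univ f (Finset.mem_univ a)).symm
  have hb : b ∈ Finset.univ.erase a := Finset.mem_erase.mpr ⟨hab.symm, Finset.mem_univ b⟩
  have h2 : ∑ i ∈ Finset.univ.erase a, f i = f b + ∑ i ∈ (Finset.univ.erase a).erase b, f i :=
    (Finset.add_sum_erase (Finset.univ.erase a) f hb).symm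
  have h3 : ∑ i ∈ (Finset.univ.erase a).erase b, f i = 0 := by
    apply Finset.sum_eq_zero
    intro i hi
    have hib : i ≠ b := (Finset.mem_erase.mp hi).1
    have hia : i ≠ a := (Finset.mem_erase.mp (Finset.mem_erase.mp hi).2).1
    exact h i hia hib
  rw [h1, h2, h3, add_zero]

/-- The sum of a function supported on three points. -/
theorem sum_of_support_three (f : ι → ℤ) (a b c : ι) (hab : a ≠ b) (hac : a ≠ c) (hbc : b ≠ c)
    (h : ∀ i, i ≠ a → i ≠ b → i ≠ c → f i = 0) : ∑ i, f i = f a + f b + f c := by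
  have h1 : ∑ i, f i = f a + ∑ i ∈ Finset.univ.erase a, f i :=
    (Finset.add_sum_erase Finset.univ f (Finset.mem_univ a)).symm
  have hb : b ∈ Finset.univ.erase a := Finset.mem_erase.mpr ⟨hab.symm, Finset.mem_univ b⟩
  have h2 : ∑ i ∈ Finset.univ.erase a, f i = f b + ∑ i ∈ (Finset.univ.erase a).erase b, f i :=
    (Finset.add_sum_erase (Finset.univ.erase a) f hb).symm
  have hc : c ∈ (Finset.univ.erase a).erase b :=
    Finset.mem_erase.mpr ⟨hbc.symm, Finset.mem_erase.mpr ⟨hac.symm, Finset.mem_univ c⟩⟩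
  have h3 : ∑ i ∈ (Finset.univ.erase a).erase b, f i =
      f c + ∑ i ∈ ((Finset.univ.erase a).erase b).erase c, f i :=
    (Finset.add_sum_erase ((Finset.univ.erase a).erase b) f hc).symm
  have h4 : ∑ i ∈ ((Finset.univ.erase a).erase b).erase c, f i = 0 := by
    apply Finset.sum_eq_zero
    intro i hi
    have hic : i ≠ c := (Finset.mem_erase.mp hi).1
    have hib : i ≠ b := (Finset.mem_erase.mp (Finset.mem_erase.mp hi).2).1
    have hia : i ≠ a := (Finset.mem_erase.mp (Finset.mem_erase.mp (Finset.mem_erase.mp hi).2).2).1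
    exact h i hia hib hic
  rw [h1, h2, h3, h4, add_zero]
  ring

/-- An integer vector of square norm `2` whose weighted sum against a strictly positive vector is
`1` is `e_p - e_q`. -/
theorem eq_single_sub_single_one (x : ι → ℤ) (deg : ι → ℤ) (hdeg : ∀ i, 0 < deg i)
    (h2 : ∑ i, x i ^ 2 = 2) (h1 : ∑ i, x i * deg i = 1) :
    ∃ p q, p ≠ q ∧ ∀ i, x i = (if i = p then 1 else 0) - (if i = q then 1 else 0) := by
  obtain ⟨a, b, hab, hxa, hxb, hzero⟩ := norm_two_classify x h2
  have hsum := sum_of_support_two (fun i => x i * deg i) a b hab (fun i hia hib => by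
    beta_reduce
    rw [hzero i hia hib, zero_mul])
  beta_reduce at hsum
  rw [h1] at hsum
  have hda := hdeg a
  have hdb := hdeg b
  rcases hxa with h1' | h1' <;> rcases hxb with h2' | h2'
  · exfalso; rw [h1', h2'] at hsum; linarith
  · refine ⟨a, b, hab, ?_⟩
    intro i
    by_cases hia : i = a
    · subst hia
      rw [if_pos rfl, if_neg hab, h1']; ring
    · by_cases hib : i = b
      · subst hib
        rw [if_neg hia, if_pos rfl, h2']; ring
      · rw [if_neg hia, if_neg hib, hzero i hia hib]; ring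
  · refine ⟨b, a, hab.symm, ?_⟩
    intro i
    by_cases hia : i = a
    · subst hia
      rw [if_neg hab, if_pos rfl, h1']; ring
    · by_cases hib : i = b
      · subst hib
        rw [if_pos rfl, if_neg hia, h2']; ring
      · rw [if_neg hib, if_neg hia, hzero i hia hib]; ring
  · exfalso; rw [h1', h2'] at hsum; linarith

/-- A vector of norm three with three equal entries `t = ±1` has weighted sum `t (d₁ + d₂ + d₃)`. -/
theorem weighted_sum_of_three (x : ι → ℤ) (deg : ι → ℤ) (h3 : ∑ i, x i ^ 2 = 3) (t : ℤ)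
    (ht : t = 1 ∨ t = -1) (j₁ j₂ j₃ : ι) (h12 : j₁ ≠ j₂) (h13 : j₁ ≠ j₃) (h23 : j₂ ≠ j₃)
    (h1 : x j₁ = t) (h2 : x j₂ = t) (h3' : x j₃ = t) :
    ∑ i, x i * deg i = t * (deg j₁ + deg j₂ + deg j₃) := by
  have ht2 : t ^ 2 = 1 := by rcases ht with h | h <;> rw [h] <;> norm_num
  -- the other entries vanish
  have hzero : ∀ i, i ≠ j₁ → i ≠ j₂ → i ≠ j₃ → x i = 0 := by
    intro i hi1 hi2 hi3
    by_contra hne
    have hpos : 1 ≤ x i ^ 2 := by
      have : 0 < x i ^ 2 := by positivity
      omega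
    -- sum over the four distinct indices
    have hsub : ∑ k ∈ ({j₁, j₂, j₃, i} : Finset ι), x k ^ 2 ≤ ∑ k, x k ^ 2 :=
      Finset.sum_le_sum_of_subset_of_nonneg (Finset.subset_univ _) (fun k _ _ => sq_nonneg _)
    rw [Finset.sum_insert (by
        simp only [Finset.mem_insert, Finset.mem_singleton, not_or]
        exact ⟨h12, h13, fun h => hi1 h.symm⟩),
      Finset.sum_insert (by
        simp only [Finset.mem_insert, Finset.mem_singleton, not_or]
        exact ⟨h23, fun h => hi2 h.symm⟩),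
      Finset.sum_insert (by
        simp only [Finset.mem_singleton]
        exact fun h => hi3 h.symm),
      Finset.sum_singleton, h1, h2, h3', ht2, h3] at hsub
    omega
  have hsum := sum_of_support_three (fun i => x i * deg i) j₁ j₂ j₃ h12 h13 h23
    (fun i hi1 hi2 hi3 => by
      beta_reduce
      rw [hzero i hi1 hi2 hi3, zero_mul])
  beta_reduce at hsum
  rw [hsum, h1, h2, h3']
  ring

end Cfsg.Agent.Helper6.DihBr
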