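import Mathlib
import Cfsg.Prelude.Def_Characters
import Cfsg.Agent.Helper6.ClassMult
import Cfsg.Agent.Helper6.IndFun

/-!
# Induction from a strongly embedded-like subgroup: general identities

* `sum_class_mul_eq`: for any function `Θ` on `G`,
  `∑_{x ∈ g^G} ∑_{y ∈ h^G} Θ (x y) = |g^G| |h^G| ∑_χ ⟨Θ, χ⟩ χ(g) χ(h) / χ(1)`.
* `sum_class_mul_indFun`: the same double sum for an induced function is computed inside the
  subgroup.
* `indFun_apply_of_TI`, `indFun_eq_zero_of_not_conj`: values of functions induced from a subgroup `N`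
  which are supported on a subset `A ⊆ N` such that `g⁻¹ t g ∈ A`, `t ∈ A` force `g ∈ N`.
* `classInner_indFun_indFun_of_TI`: induction is an isometry on such functions.
-/

set_option autoImplicit false
set_option linter.style.haveILetI false

namespace Cfsg.Agent.Helper6.SEmb

open Cfsg.Agent.Helper6
open scoped ComplexConjugate

universe u

variable {G : Type u} [Group G]

/-- Double class sums of an arbitrary function in terms of its inner products with the irreducible
characters. -/
theorem sum_class_mul_eq [Fintype G] [Fintype (Cfsg.IrrCharacter G)] (Θ : G → ℂ) (g h : G) :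
    ∑ x ∈ classFinset g, ∑ y ∈ classFinset h, Θ (x * y) =
      ((classFinset g).card : ℂ) * ((classFinset h).card : ℂ) *
        ∑ χ : Cfsg.IrrCharacter G,
          Cfsg.classInner Θ (χ : G → ℂ) * ((χ : G → ℂ) g * (χ : G → ℂ) h / (χ : G → ℂ) 1) := by
  classical
  have hG0 : (Nat.card G : ℂ) ≠ 0 := by
    have : 0 < Nat.card G := Nat.card_pos
    exact_mod_cast this.ne'
  have h1 : ∀ x y : G, Θ (x * y) = ∑ c : G, (if x * y = c then (1 : ℂ) else 0) * Θ c := by
    intro x y
    rw [Finset.sum_eq_single (x * y)]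
    · simp
    · intro c _ hc
      rw [if_neg (fun h' => hc h'.symm), zero_mul]
    · intro hx
      exact absurd (Finset.mem_univ _) hx
  simp_rw [h1]
  have h2 : ∑ x ∈ classFinset g, ∑ y ∈ classFinset h, ∑ c : G,
      (if x * y = c then (1 : ℂ) else 0) * Θ c =
      ∑ c : G, (∑ x ∈ classFinset g, ∑ y ∈ classFinset h,
        (if x * y = c then (1 : ℂ) else 0)) * Θ c := by
    calc _ = ∑ x ∈ classFinset g, ∑ c : G, ∑ y ∈ classFinset h,
          (if x * y = c then (1 : ℂ) else 0) * Θ c :=
          Finset.sum_congr rfl (fun x _ => Finset.sum_comm)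
      _ = ∑ c : G, ∑ x ∈ classFinset g, ∑ y ∈ classFinset h,
          (if x * y = c then (1 : ℂ) else 0) * Θ c := Finset.sum_comm
      _ = _ := by
          apply Finset.sum_congr rfl
          intro c _
          rw [Finset.sum_mul]
          apply Finset.sum_congr rfl
          intro x _
          rw [Finset.sum_mul]
  rw [h2]
  simp_rw [class_mult_count]
  unfold Cfsg.classInner
  simp_rw [Finset.mul_sum, Finset.sum_mul]
  rw [Finset.sum_comm]
  apply Finset.sum_congr rfl
  intro χ _
  rw [Finset.mul_sum]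
  apply Finset.sum_congr rfl
  intro c _
  field_simp

/-- Conjugation by `z` permutes a conjugacy class. -/
theorem sum_classFinset_conj [Fintype G] (g z : G) (f : G → ℂ) :
    ∑ x ∈ classFinset g, f (z⁻¹ * x * z) = ∑ x ∈ classFinset g, f x := by
  apply Finset.sum_bij (fun x _ => z⁻¹ * x * z)
  · intro x hx
    rw [mem_classFinset] at hx ⊢
    exact hx.trans (isConj_iff.mpr ⟨z⁻¹, by simp⟩)
  · intro x _ y _ hxy
    simpa using hxy
  · intro y hy
    refine ⟨z * y * z⁻¹, ?_, by group⟩
    rw [mem_classFinset] at hy ⊢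
    exact hy.trans (isConj_iff.mpr ⟨z, rfl⟩)
  · intro x _
    rfl

/-- Double class sums of an induced function are computed inside the subgroup. -/
theorem sum_class_mul_indFun [Fintype G] (N : Subgroup G) (φ : N → ℂ) (g h : G) :
    ∑ x ∈ classFinset g, ∑ y ∈ classFinset h, Cfsg.indFun N φ (x * y) =
      (Nat.card N : ℂ)⁻¹ * (Nat.card G : ℂ) *
        ∑ x ∈ classFinset g, ∑ y ∈ classFinset h, Cfsg.extendByZero N φ (x * y) := by
  simp_rw [indFun_apply, ← Finset.mul_sum]
  rw [mul_assoc]
  congr 1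
  have h1 : ∑ x ∈ classFinset g, ∑ y ∈ classFinset h, ∑ z : G,
      Cfsg.extendByZero N φ (z⁻¹ * (x * y) * z) =
      ∑ z : G, ∑ x ∈ classFinset g, ∑ y ∈ classFinset h,
        Cfsg.extendByZero N φ (z⁻¹ * (x * y) * z) := by
    calc _ = ∑ x ∈ classFinset g, ∑ z : G, ∑ y ∈ classFinset h,
          Cfsg.extendByZero N φ (z⁻¹ * (x * y) * z) :=
          Finset.sum_congr rfl (fun x _ => Finset.sum_comm)
      _ = _ := Finset.sum_comm
  rw [h1]
  have h2 : ∀ z : G, ∑ x ∈ classFinset g, ∑ y ∈ classFinset h,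
      Cfsg.extendByZero N φ (z⁻¹ * (x * y) * z) =
      ∑ x ∈ classFinset g, ∑ y ∈ classFinset h, Cfsg.extendByZero N φ (x * y) := by
    intro z
    have h3 : ∀ x y : G, z⁻¹ * (x * y) * z = (z⁻¹ * x * z) * (z⁻¹ * y * z) := by
      intro x y; group
    simp_rw [h3]
    rw [sum_classFinset_conj g z (fun x' => ∑ y ∈ classFinset h,
      Cfsg.extendByZero N φ (x' * (z⁻¹ * y * z)))]
    apply Finset.sum_congr rfl
    intro x _
    exact sum_classFinset_conj h z (fun y' => Cfsg.extendByZero N φ (x * y'))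
  rw [Finset.sum_congr rfl (fun z _ => h2 z), Finset.sum_const, Finset.card_univ, nsmul_eq_mul,
    Nat.card_eq_fintype_card]

/-- Value of an induced function at an element of the support set. -/
theorem indFun_apply_of_TI [Fintype G] (N : Subgroup G) (A : Set G) (φ : N → ℂ)
    (hφ : Cfsg.IsClassFunction N φ) (hvan : ∀ x : N, (x : G) ∉ A → φ x = 0)
    (hTI : ∀ t ∈ A, ∀ z : G, z⁻¹ * t * z ∈ A → z ∈ N) (t : N) (ht : (t : G) ∈ A) :
    Cfsg.indFun N φ (t : G) = φ t := by
  classical
  haveI : Fintype N := Fintype.ofFinite N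
  rw [indFun_apply]
  have hN0 : (Nat.card N : ℂ) ≠ 0 := by
    have : 0 < Nat.card N := Nat.card_pos
    exact_mod_cast this.ne'
  have h1 : ∀ z : G, Cfsg.extendByZero N φ (z⁻¹ * (t : G) * z) =
      Cfsg.extendByZero N (fun _ => φ t) z := by
    intro z
    by_cases hz : z ∈ N
    · have hm : z⁻¹ * (t : G) * z ∈ N := N.mul_mem (N.mul_mem (N.inv_mem hz) t.2) hz
      rw [extendByZero_mem N φ hm, extendByZero_mem N _ hz]
      have := hφ t (⟨z, hz⟩⁻¹ : N)
      rw [inv_inv] at this
      rw [← this]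
      rfl
    · rw [extendByZero_not_mem N _ hz]
      by_cases hm : z⁻¹ * (t : G) * z ∈ N
      · rw [extendByZero_mem N φ hm]
        apply hvan
        intro hA
        exact hz (hTI _ ht z hA)
      · exact extendByZero_not_mem N φ hm
  rw [Finset.sum_congr rfl (fun z _ => h1 z), sum_extendByZero, Finset.sum_const, Finset.card_univ,
    nsmul_eq_mul, ← Nat.card_eq_fintype_card, ← mul_assoc, inv_mul_cancel₀ hN0, one_mul]

/-- An induced function vanishes at elements not conjugate into the support set. -/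
theorem indFun_eq_zero_of_not_conj [Fintype G] (N : Subgroup G) (A : Set G) (φ : N → ℂ)
    (hvan : ∀ x : N, (x : G) ∉ A → φ x = 0) (g : G) (hg : ∀ z : G, z⁻¹ * g * z ∉ A) :
    Cfsg.indFun N φ g = 0 := by
  rw [indFun_apply, Finset.sum_eq_zero, mul_zero]
  intro z _
  by_cases hm : z⁻¹ * g * z ∈ N
  · rw [extendByZero_mem N φ hm]
    exact hvan _ (hg z)
  · exact extendByZero_not_mem N φ hm

/-- Induction is an isometry on class functions of `N` supported on the set `A`. -/
theorem classInner_indFun_indFun_of_TI [Fintype G] (N : Subgroup G) [Fintype N] (A : Set G)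
    (α φ : N → ℂ) (hφ : Cfsg.IsClassFunction N φ) (hvanα : ∀ x : N, (x : G) ∉ A → α x = 0)
    (hvan : ∀ x : N, (x : G) ∉ A → φ x = 0)
    (hTI : ∀ t ∈ A, ∀ z : G, z⁻¹ * t * z ∈ A → z ∈ N) :
    Cfsg.classInner (Cfsg.indFun N α) (Cfsg.indFun N φ) = Cfsg.classInner α φ := by
  rw [frobenius_reciprocity N α _ (indFun_isClassFunction N φ)]
  unfold Cfsg.classInner
  congr 1
  apply Finset.sum_congr rfl
  intro x _
  by_cases hx : (x : G) ∈ A
  · show α x * conj (Cfsg.indFun N φ (x : G)) = α x * conj (φ x)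
    rw [indFun_apply_of_TI N A φ hφ hvan hTI x hx]
  · rw [hvanα x hx, zero_mul, zero_mul]

end Cfsg.Agent.Helper6.SEmb
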