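import Mathlib
import Cfsg.Prelude.Def_Characters
import Cfsg.Agent.Helper6.SEmbA
import Cfsg.Agent.Helper6.Brauer8
import Cfsg.Agent.Helper6.BlockKernel
import Cfsg.Agent.Helper6.NormTwo
import Cfsg.Agent.Helper6.OddReal
import Cfsg.Agent.Helper6.DihBrG

/-!
# The kernel lemma for generalized characters of norm three

If `Θ` is a generalized character with `⟨Θ,Θ⟩ = 3`, `⟨Θ,1⟩ = -1`, `Θ 1 = 0`, then
`Θ = -1 + X - X'` for distinct nontrivial irreducible characters.  If moreover `Θ g = Θ h = 0` and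
`∑_{x ∈ g^G, y ∈ h^G} Θ (x y) = 0`, then `g` or `h` lies in the kernels of both `X` and `X'`.
-/

set_option autoImplicit false
set_option linter.style.haveILetI false

namespace Cfsg.Agent.Helper6.SEmb

open Cfsg.Agent.Helper6
open scoped ComplexConjugate

universe u

variable {G : Type u} [Group G]

/-- A generalized character of norm two is `± a ± b` for distinct irreducible characters. -/
theorem exists_two_of_norm_two [Fintype G] {θ : G → ℂ} (hθ : Cfsg.IsGeneralizedCharacter G θ)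
    (hnorm : Cfsg.classInner θ θ = 2) :
    ∃ a b : Cfsg.IrrCharacter G, a ≠ b ∧ ∃ s t : ℤ, (s = 1 ∨ s = -1) ∧ (t = 1 ∨ t = -1) ∧
      Cfsg.classInner θ (a : G → ℂ) = s ∧ Cfsg.classInner θ (b : G → ℂ) = t ∧
      (∀ χ : Cfsg.IrrCharacter G, χ ≠ a → χ ≠ b → Cfsg.classInner θ (χ : G → ℂ) = 0) ∧
      θ = (s : ℂ) • (a : G → ℂ) + (t : ℂ) • (b : G → ℂ) := by
  classical
  haveI : Finite (Cfsg.IrrCharacter G) := irr_finite
  haveI : Fintype (Cfsg.IrrCharacter G) := Fintype.ofFinite _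
  have hcf := IsGeneralizedCharacter.isClassFunction hθ
  have hc : ∀ χ : Cfsg.IrrCharacter G, ∃ c : ℤ, Cfsg.classInner θ (χ : G → ℂ) = c := fun χ =>
    IsGeneralizedCharacter.classInner_irr_int hθ χ.2
  choose c hc using hc
  have hc' : ∀ χ : Cfsg.IrrCharacter G, Cfsg.classInner (χ : G → ℂ) θ = c χ := by
    intro χ
    rw [classInner_conj_symm, hc, map_intCast]
  have hsumC : ((∑ χ : Cfsg.IrrCharacter G, c χ ^ 2 : ℤ) : ℂ) = 2 := by
    rw [← hnorm, classInner_self_expansion θ hcf θ]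
    push_cast
    apply Finset.sum_congr rfl
    intro χ _
    rw [hc, hc', sq]
  have hsum : ∑ χ : Cfsg.IrrCharacter G, c χ ^ 2 = 2 := by exact_mod_cast hsumC
  obtain ⟨a, b, hab, ha, hb, hoth⟩ := DihBr.norm_two_classify c hsum
  refine ⟨a, b, hab, c a, c b, ha, hb, hc a, hc b, ?_, ?_⟩
  · intro χ h1 h2
    rw [hc, hoth χ h1 h2, Int.cast_zero]
  · conv_lhs => rw [classFunction_expansion θ hcf]
    rw [← Finset.add_sum_erase Finset.univ _ (Finset.mem_univ a),
      ← Finset.add_sum_erase (Finset.univ.erase a) _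
        (Finset.mem_erase.mpr ⟨hab.symm, Finset.mem_univ b⟩), hc, hc]
    rw [Finset.sum_eq_zero, add_zero]
    intro χ hχ
    have hn2 : χ ≠ b := (Finset.mem_erase.mp hχ).1
    have hn1 : χ ≠ a := (Finset.mem_erase.mp (Finset.mem_erase.mp hχ).2).1
    rw [hc, hoth χ hn1 hn2, Int.cast_zero, zero_smul]

/-- The trivial character as an element of `IrrCharacter G`. -/
noncomputable def oneIrr : Cfsg.IrrCharacter G := ⟨fun _ => (1 : ℂ), isIrrCharacter_one⟩

/-- Decomposition of a generalized character of norm three containing `-1`. -/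
theorem exists_decomp_norm_three [Fintype G] {Θ : G → ℂ} (hΘ : Cfsg.IsGeneralizedCharacter G Θ)
    (hnorm : Cfsg.classInner Θ Θ = 3) (h1 : Cfsg.classInner Θ (fun _ => (1 : ℂ)) = -1)
    (hΘ1 : Θ 1 = 0) :
    ∃ X X' : Cfsg.IrrCharacter G, X ≠ X' ∧ X ≠ oneIrr ∧ X' ≠ oneIrr ∧
      (∀ g, Θ g = -1 + (X : G → ℂ) g - (X' : G → ℂ) g) := by
  classical
  set θ : G → ℂ := Θ + (fun _ => (1 : ℂ)) with hθdef
  have hone : Cfsg.IsGeneralizedCharacter G (fun _ : G => (1 : ℂ)) :=
    IsGeneralizedCharacter.of_isCharacter (IsIrrCharacter.isCharacter isIrrCharacter_one)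
  have hθ : Cfsg.IsGeneralizedCharacter G θ := IsGeneralizedCharacter.add hΘ hone
  have h1' : Cfsg.classInner (fun _ : G => (1 : ℂ)) Θ = -1 := by
    rw [classInner_conj_symm, h1]; simp
  have h11 : Cfsg.classInner (fun _ : G => (1 : ℂ)) (fun _ : G => (1 : ℂ)) = 1 :=
    classInner_irr_self isIrrCharacter_one
  have hnormθ : Cfsg.classInner θ θ = 2 := by
    rw [hθdef, classInner_add_left, classInner_add_right, classInner_add_right, hnorm, h1, h1',
      h11]
    norm_num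
  have hθone : Cfsg.classInner θ (fun _ : G => (1 : ℂ)) = 0 := by
    rw [hθdef, classInner_add_left, h1, h11]; norm_num
  obtain ⟨a, b, hab, s, t, hs, ht, hca, hcb, hoth, hexp⟩ := exists_two_of_norm_two hθ hnormθ
  have ha1 : a ≠ oneIrr := by
    intro h
    rw [h] at hca
    have : Cfsg.classInner θ ((oneIrr : Cfsg.IrrCharacter G) : G → ℂ) = 0 := hθone
    rw [this] at hca
    rcases hs with h | h <;> rw [h] at hca <;> norm_num at hca
  have hb1 : b ≠ oneIrr := by
    intro h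
    rw [h] at hcb
    have : Cfsg.classInner θ ((oneIrr : Cfsg.IrrCharacter G) : G → ℂ) = 0 := hθone
    rw [this] at hcb
    rcases ht with h | h <;> rw [h] at hcb <;> norm_num at hcb
  obtain ⟨d₁, hd₁, -, hd₁pos⟩ := IsIrrCharacter.degree_dvd_card a.2
  obtain ⟨d₂, hd₂, -, hd₂pos⟩ := IsIrrCharacter.degree_dvd_card b.2
  have hΘeq : ∀ g, Θ g = -1 + (s : ℂ) * (a : G → ℂ) g + (t : ℂ) * (b : G → ℂ) g := by
    intro g
    have := congrFun hexp g
    simp only [hθdef, Pi.add_apply, Pi.smul_apply, smul_eq_mul] at this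
    linear_combination this
  have hval : (s : ℂ) * d₁ + (t : ℂ) * d₂ = 1 := by
    have := hΘeq 1
    rw [hΘ1, hd₁, hd₂] at this
    linear_combination -this
  have hvalZ : s * d₁ + t * d₂ = 1 := by exact_mod_cast hval
  have h1' : (0 : ℤ) < d₁ := by exact_mod_cast hd₁pos
  have h2' : (0 : ℤ) < d₂ := by exact_mod_cast hd₂pos
  rcases hs with s1 | s1 <;> rcases ht with t1 | t1
  · exfalso
    rw [s1, t1] at hvalZ
    omega
  · refine ⟨a, b, hab, ha1, hb1, ?_⟩
    intro g
    rw [hΘeq g, s1, t1]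
    push_cast
    ring
  · refine ⟨b, a, hab.symm, hb1, ha1, ?_⟩
    intro g
    rw [hΘeq g, s1, t1]
    push_cast
    ring
  · exfalso
    rw [s1, t1] at hvalZ
    omega

/-- Inner products of `-1 + X - X'` with the irreducible characters. -/
theorem classInner_decomp [Fintype G] {Θ : G → ℂ} (X X' : Cfsg.IrrCharacter G)
    (hdec : ∀ g, Θ g = -1 + (X : G → ℂ) g - (X' : G → ℂ) g) (χ : Cfsg.IrrCharacter G) :
    Cfsg.classInner Θ (χ : G → ℂ) =
      -(if oneIrr = χ then (1 : ℂ) else 0) + (if X = χ then 1 else 0) - (if X' = χ then 1 else 0) := by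
  classical
  have hΘ : Θ = -((oneIrr : Cfsg.IrrCharacter G) : G → ℂ) + (X : G → ℂ) - (X' : G → ℂ) := by
    funext g
    rw [hdec g]
    rfl
  rw [hΘ, classInner_sub_left, classInner_add_left, classInner_neg_left,
    classInner_irr_ite oneIrr.2 χ.2, classInner_irr_ite X.2 χ.2, classInner_irr_ite X'.2 χ.2]
  simp only [Subtype.ext_iff]

/-- The kernel lemma. -/
theorem kernel_lemma [Fintype G] {Θ : G → ℂ} (X X' : Cfsg.IrrCharacter G)
    (hdec : ∀ g, Θ g = -1 + (X : G → ℂ) g - (X' : G → ℂ) g) (hΘ1 : Θ 1 = 0) (g h : G)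
    (hg : Θ g = 0) (hh : Θ h = 0)
    (hsum : ∑ x ∈ classFinset g, ∑ y ∈ classFinset h, Θ (x * y) = 0) :
    ((X : G → ℂ) g = (X : G → ℂ) 1 ∧ (X' : G → ℂ) g = (X' : G → ℂ) 1) ∨
      ((X : G → ℂ) h = (X : G → ℂ) 1 ∧ (X' : G → ℂ) h = (X' : G → ℂ) 1) := by
  classical
  haveI : Finite (Cfsg.IrrCharacter G) := irr_finite
  haveI : Fintype (Cfsg.IrrCharacter G) := Fintype.ofFinite _
  rw [sum_class_mul_eq] at hsum
  have hcg : ((classFinset g).card : ℂ) ≠ 0 := by
    have : g ∈ classFinset g := (mem_classFinset g g).mpr (IsConj.refl g)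
    have := Finset.card_pos.mpr ⟨g, this⟩
    exact_mod_cast this.ne'
  have hch : ((classFinset h).card : ℂ) ≠ 0 := by
    have : h ∈ classFinset h := (mem_classFinset h h).mpr (IsConj.refl h)
    have := Finset.card_pos.mpr ⟨h, this⟩
    exact_mod_cast this.ne'
  have hsum' : ∑ χ : Cfsg.IrrCharacter G, Cfsg.classInner Θ (χ : G → ℂ) *
      ((χ : G → ℂ) g * (χ : G → ℂ) h / (χ : G → ℂ) 1) = 0 := by
    rcases mul_eq_zero.mp hsum with h' | h'
    · rcases mul_eq_zero.mp h' with h'' | h''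
      · exact absurd h'' hcg
      · exact absurd h'' hch
    · exact h'
  simp_rw [classInner_decomp X X' hdec] at hsum'
  simp_rw [sub_mul, add_mul, neg_mul, ite_mul, one_mul, zero_mul] at hsum'
  rw [Finset.sum_sub_distrib, Finset.sum_add_distrib, Finset.sum_neg_distrib,
    Finset.sum_ite_eq Finset.univ oneIrr, Finset.sum_ite_eq Finset.univ X,
    Finset.sum_ite_eq Finset.univ X'] at hsum'
  simp only [Finset.mem_univ, if_true] at hsum'
  obtain ⟨d₁, hd₁, -, hd₁pos⟩ := IsIrrCharacter.degree_dvd_card X.2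
  obtain ⟨d₂, hd₂, -, hd₂pos⟩ := IsIrrCharacter.degree_dvd_card X'.2
  have hD : (X : G → ℂ) 1 ≠ 0 := by rw [hd₁]; exact_mod_cast hd₁pos.ne'
  have hD' : (X' : G → ℂ) 1 ≠ 0 := by rw [hd₂]; exact_mod_cast hd₂pos.ne'
  have e1 := hdec 1
  have eg := hdec g
  have eh := hdec h
  rw [hΘ1] at e1
  rw [hg] at eg
  rw [hh] at eh
  have hone : ((oneIrr : Cfsg.IrrCharacter G) : G → ℂ) g * ((oneIrr : Cfsg.IrrCharacter G) : G → ℂ) h /
      ((oneIrr : Cfsg.IrrCharacter G) : G → ℂ) 1 = 1 := by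
    show (1 : ℂ) * 1 / 1 = 1
    norm_num
  rw [hone] at hsum'
  have hX'1v : (X' : G → ℂ) 1 = (X : G → ℂ) 1 - 1 := by linear_combination e1
  have hX'g : (X' : G → ℂ) g = (X : G → ℂ) g - 1 := by linear_combination eg
  have hX'h : (X' : G → ℂ) h = (X : G → ℂ) h - 1 := by linear_combination eh
  rw [hX'1v] at hD'
  rw [hX'g, hX'h, hX'1v] at hsum'
  have key : ((X : G → ℂ) 1 - (X : G → ℂ) g) * ((X : G → ℂ) 1 - (X : G → ℂ) h) = 0 := by
    field_simp at hsum'
    linear_combination -hsum'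
  rcases mul_eq_zero.mp key with h' | h'
  · left
    have : (X : G → ℂ) g = (X : G → ℂ) 1 := by linear_combination -h'
    exact ⟨this, by rw [hX'g, hX'1v, this]⟩
  · right
    have : (X : G → ℂ) h = (X : G → ℂ) 1 := by linear_combination -h'
    exact ⟨this, by rw [hX'h, hX'1v, this]⟩

end Cfsg.Agent.Helper6.SEmb
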