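import Mathlib
import Cfsg.Prelude.Def_Characters
import Cfsg.Agent.Helper6.SEmbB
import Cfsg.Agent.Helper6.FourTrD
import Cfsg.Agent.Helper6.Linear
import Cfsg.Agent.Helper6.DadeIntE

/-!
# The model group `D₃ × D₃` (order 36) and its generalized characters supported on
`3`-singular elements
-/

set_option autoImplicit false
set_option linter.style.haveILetI false

namespace Cfsg.Agent.Helper6.SEmb

open Cfsg.Agent.Helper6
open DihedralGroup

/-- The dihedral group of order six. -/
abbrev D3 := DihedralGroup 3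

/-- The model of `S₃ × S₃`. -/
abbrev M36 := D3 × D3

/-- A three point set on which `D3` acts. -/
def Pt3 : Type := ZMod 3

instance : Fintype Pt3 := inferInstanceAs (Fintype (ZMod 3))
instance : DecidableEq Pt3 := inferInstanceAs (DecidableEq (ZMod 3))

/-- The action of `D3` on three points. -/
def dAct : D3 → Pt3 → Pt3
  | r i, k => (show ZMod 3 from k) - i
  | sr i, k => i - (show ZMod 3 from k)

instance : MulAction D3 Pt3 where
  smul := dAct
  one_smul := by decide
  mul_smul := by decide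

/-- elements of order three -/
def isThree : D3 → Bool
  | r i => decide (i ≠ 0)
  | sr _ => false

/-- reflections -/
def isRefl : D3 → Bool
  | r _ => false
  | sr _ => true

/-- rotations -/
def isRot : D3 → Bool
  | r _ => true
  | sr _ => false

/-- the sign character -/
def sgnZ : D3 → ℤ
  | r _ => 1
  | sr _ => -1

/-- the permutation character on three points -/
def piZ : D3 → ℤ
  | r i => if i = 0 then 3 else 0
  | sr _ => 1

/-- the generalized character `χ - 1 - s` -/
def delZ (x : D3) : ℤ := if isThree x then -3 else 0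

theorem delZ_eq (x : D3) : delZ x = piZ x - 2 - sgnZ x := by
  revert x
  decide

theorem card_fixedBy_pt3 (g : D3) : (Nat.card (MulAction.fixedBy Pt3 g) : ℤ) = piZ g := by
  rw [FourTr.card_fixedBy_eq]
  revert g
  decide

theorem isCharacter_pi : Cfsg.IsCharacter D3 (fun x => (piZ x : ℂ)) := by
  have h := FourTr.isCharacter_permChar (G := D3) Pt3
  have h2 : (fun g : D3 => (Nat.card (MulAction.fixedBy Pt3 g) : ℂ)) = fun x => (piZ x : ℂ) := by
    funext g
    have := card_fixedBy_pt3 g
    exact_mod_cast this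
  rw [h2] at h
  exact h

/-- the sign homomorphism to `ℤˣ` -/
def sgnHomZ : D3 →* ℤˣ where
  toFun x := match x with
    | r _ => 1
    | sr _ => -1
  map_one' := by decide
  map_mul' := by decide

theorem sgnHomZ_val (x : D3) : ((sgnHomZ x : ℤˣ) : ℤ) = sgnZ x := by
  revert x
  decide

theorem isIrrCharacter_sgn : Cfsg.IsIrrCharacter D3 (fun x => (sgnZ x : ℂ)) := by
  have h := isIrrCharacter_of_hom ((Units.map (Int.castRingHom ℂ).toMonoidHom).comp sgnHomZ)
  have h2 : (fun g : D3 => ((((Units.map (Int.castRingHom ℂ).toMonoidHom).comp sgnHomZ) g : ℂˣ) : ℂ))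
      = fun x => (sgnZ x : ℂ) := by
    funext g
    rw [← sgnHomZ_val]
    rfl
  rw [h2] at h
  exact h

theorem isCharacter_sgn : Cfsg.IsCharacter D3 (fun x => (sgnZ x : ℂ)) :=
  IsIrrCharacter.isCharacter isIrrCharacter_sgn

theorem isGenChar_del : Cfsg.IsGeneralizedCharacter D3 (fun x => (delZ x : ℂ)) := by
  have h1 : Cfsg.IsCharacter D3 ((fun _ : D3 => (1 : ℂ)) + (fun _ : D3 => (1 : ℂ)) +
      (fun x => (sgnZ x : ℂ))) :=
    IsCharacter.add (IsCharacter.add isCharacter_one isCharacter_one) isCharacter_sgn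
  refine ⟨_, _, isCharacter_pi, h1, ?_⟩
  funext x
  simp only [Pi.sub_apply, Pi.add_apply]
  rw [delZ_eq]
  push_cast
  ring

/-! ### class functions on `M36` -/

/-- `(χ - 1 - s) ⊗ 1` -/
def d1 (m : M36) : ℤ := delZ m.1

/-- `(χ - 1 - s) ⊗ s` -/
def d2 (m : M36) : ℤ := delZ m.1 * sgnZ m.2

/-- `1 ⊗ (χ - 1 - s)` -/
def d3 (m : M36) : ℤ := delZ m.2

/-- `s ⊗ 1` -/
def s1 (m : M36) : ℤ := sgnZ m.1

theorem isGenChar_d1 : Cfsg.IsGeneralizedCharacter M36 (fun m => (d1 m : ℂ)) :=
  IsGeneralizedCharacter.comp_hom' (MonoidHom.fst D3 D3) isGenChar_del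

theorem isGenChar_d3 : Cfsg.IsGeneralizedCharacter M36 (fun m => (d3 m : ℂ)) :=
  IsGeneralizedCharacter.comp_hom' (MonoidHom.snd D3 D3) isGenChar_del

theorem isIrrCharacter_s1 : Cfsg.IsIrrCharacter M36 (fun m => (s1 m : ℂ)) := by
  have h := isIrrCharacter_of_hom
    (((Units.map (Int.castRingHom ℂ).toMonoidHom).comp sgnHomZ).comp (MonoidHom.fst D3 D3))
  have h2 : (fun g : M36 => (((((Units.map (Int.castRingHom ℂ).toMonoidHom).comp sgnHomZ).comp
      (MonoidHom.fst D3 D3)) g : ℂˣ) : ℂ)) = fun m => (s1 m : ℂ) := by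
    funext g
    unfold s1
    rw [← sgnHomZ_val]
    rfl
  rw [h2] at h
  exact h

theorem isCharacter_s2 : Cfsg.IsCharacter M36 (fun m => (sgnZ m.2 : ℂ)) :=
  IsCharacter.comp_hom (MonoidHom.snd D3 D3) isCharacter_sgn

theorem isGenChar_d2 : Cfsg.IsGeneralizedCharacter M36 (fun m => (d2 m : ℂ)) := by
  have h := IsGeneralizedCharacter.mul_char isGenChar_d1 isCharacter_s2
  have h2 : ((fun m : M36 => (d1 m : ℂ)) * fun m : M36 => (sgnZ m.2 : ℂ)) =
      fun m => (d2 m : ℂ) := by
    funext m
    simp only [Pi.mul_apply, d2, d1]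
    push_cast
    ring
  rw [h2] at h
  exact h

end Cfsg.Agent.Helper6.SEmb
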