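import Mathlib
import Cfsg.Prelude.Def_Characters
import Cfsg.Agent.Helper6.SEmbC

/-!
# The model group `(ℤ/3)² ⋊ D₄` of order 72 (`≅ S₃ ≀ 2`)

`D₄ = DihedralGroup 4` acts on pairs by `r : (i, j) ↦ (-j, i)`, `sr 0 : (i, j) ↦ (i, -j)`.
`cls` numbers the nine conjugacy classes:
`0` identity, `1` = `I1` (6 involutions centralizing an element of `3A`), `2` = `I12` (9 involutions
inverting the normal subgroup), `3` = `Iτ` (6 involutions centralizing an element of `3B`),
`4` = `4A`, `5` = `3A`, `6` = `3B`, `7` = `6A`, `8` = `6B`.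
-/

set_option autoImplicit false
set_option linter.style.haveILetI false

namespace Cfsg.Agent.Helper6.H72

open DihedralGroup

/-- the dihedral group of order eight -/
abbrev D4 := DihedralGroup 4

/-- the elementary abelian group of order nine -/
abbrev V9 := Multiplicative (ZMod 3 × ZMod 3)

/-- action of `D₄` on pairs -/
def act : D4 → ZMod 3 × ZMod 3 → ZMod 3 × ZMod 3
  | r 0, (i, j) => (i, j)
  | r 1, (i, j) => (-j, i)
  | r 2, (i, j) => (-i, -j)
  | r 3, (i, j) => (j, -i)
  | sr 0, (i, j) => (i, -j)
  | sr 1, (i, j) => (-j, -i)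
  | sr 2, (i, j) => (-i, j)
  | sr 3, (i, j) => (j, i)

theorem act_one : ∀ v, act 1 v = v := by decide
theorem act_mul : ∀ g h v, act (g * h) v = act g (act h v) := by decide
theorem act_add : ∀ g v w, act g (v + w) = act g v + act g w := by decide

/-- the automorphism given by an element of `D₄` -/
def actAut (g : D4) : MulAut V9 where
  toFun v := Multiplicative.ofAdd (act g v.toAdd)
  invFun v := Multiplicative.ofAdd (act g⁻¹ v.toAdd)
  left_inv v := by
    show Multiplicative.ofAdd (act g⁻¹ (act g v.toAdd)) = v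
    rw [← act_mul, inv_mul_cancel, act_one]; rfl
  right_inv v := by
    show Multiplicative.ofAdd (act g (act g⁻¹ v.toAdd)) = v
    rw [← act_mul, mul_inv_cancel, act_one]; rfl
  map_mul' v w := by
    show Multiplicative.ofAdd (act g (v.toAdd + w.toAdd)) = _
    rw [act_add]; rfl

/-- the action homomorphism -/
def phi : D4 →* MulAut V9 where
  toFun := actAut
  map_one' := by
    apply MulEquiv.ext
    intro v
    show Multiplicative.ofAdd (act 1 v.toAdd) = v
    rw [act_one]; rfl
  map_mul' g h := by
    apply MulEquiv.ext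
    intro v
    show Multiplicative.ofAdd (act (g * h) v.toAdd) = Multiplicative.ofAdd (act g (act h v.toAdd))
    rw [act_mul]

/-- the model group of order 72 -/
abbrev M72 := V9 ⋊[phi] D4

instance : Fintype M72 := Fintype.ofEquiv _ SemidirectProduct.equivProd.symm

theorem card_M72 : Nat.card M72 = 72 := by
  rw [Nat.card_eq_fintype_card]
  decide +kernel

/-- elements of the model -/
def mk (i j : ZMod 3) (g : D4) : M72 := ⟨Multiplicative.ofAdd (i, j), g⟩

/-- the class number -/
def cls (m : M72) : ℕ :=
  match m.right, m.left.toAdd with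
  | r 0, (i, j) => if i = 0 ∧ j = 0 then 0 else if i = 0 ∨ j = 0 then 5 else 6
  | r 1, _ => 4
  | r 2, _ => 2
  | r 3, _ => 4
  | sr 0, (i, _) => if i = 0 then 1 else 7
  | sr 1, (i, j) => if i = j then 3 else 8
  | sr 2, (_, j) => if j = 0 then 1 else 7
  | sr 3, (i, j) => if i + j = 0 then 3 else 8

/-- 3-singular elements -/
def sing (m : M72) : Bool := decide (5 ≤ cls m)

set_option maxRecDepth 100000 in
theorem cls_conj : ∀ m c : M72, cls (c * m * c⁻¹) = cls m := by decide +kernel

theorem cls_inv : ∀ m : M72, cls m⁻¹ = cls m := by decide +kernel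

theorem cls_one : ∀ m : M72, cls m = 0 ↔ m = 1 := by decide +kernel

theorem sq_of_cls : ∀ m : M72, m * m = 1 ↔ cls m ≤ 3 := by decide +kernel

theorem sing_inv (m : M72) : sing m⁻¹ = sing m := by
  unfold sing; rw [cls_inv]

theorem sing_conj (m c : M72) : sing (c * m * c⁻¹) = sing m := by
  unfold sing; rw [cls_conj]

theorem sing_sq_ne : ∀ m : M72, sing m = true → m * m ≠ 1 := by decide +kernel

end Cfsg.Agent.Helper6.H72
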