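import Mathlib
import Cfsg.Prelude.Def_Characters
import Cfsg.Agent.Helper6.H72A

/-!
# The model group of order 72: class functions supported on 3-singular elements

`fa, fb, fc, fd` are the four integer valued class functions with values on `(3A, 3B, 6A, 6B)`
`(-3,-6,-3,0)`, `(-3,-6,3,0)`, `(6,3,0,3)`, `(6,3,0,-3)`.  They are generalized characters:
`fa = π₁ - π₅ - 1 - x₂`, `fc = 1 + x₃ + π₆ - π₃`, `fb = x₄ fa`, `fd = x₄ fc`, where `π_k` is the permutation
character of the conjugation action on the class number `k`, and `x₂, x₃, x₄` are linear characters.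
-/

set_option autoImplicit false
set_option linter.style.haveILetI false

namespace Cfsg.Agent.Helper6.H72

open DihedralGroup
open Cfsg.Agent.Helper6

/-! ### the class functions -/

/-- values `(-3,-6,-3,0)` -/
def fa (m : M72) : ℤ :=
  match cls m with
  | 5 => -3
  | 6 => -6
  | 7 => -3
  | _ => 0

/-- values `(-3,-6,3,0)` -/
def fb (m : M72) : ℤ :=
  match cls m with
  | 5 => -3
  | 6 => -6
  | 7 => 3
  | _ => 0

/-- values `(6,3,0,3)` -/
def fc (m : M72) : ℤ :=
  match cls m with
  | 5 => 6
  | 6 => 3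
  | 8 => 3
  | _ => 0

/-- values `(6,3,0,-3)` -/
def fd (m : M72) : ℤ :=
  match cls m with
  | 5 => 6
  | 6 => 3
  | 8 => -3
  | _ => 0

theorem fa_cf (m c : M72) : fa (c * m * c⁻¹) = fa m := by unfold fa; rw [cls_conj]
theorem fb_cf (m c : M72) : fb (c * m * c⁻¹) = fb m := by unfold fb; rw [cls_conj]
theorem fc_cf (m c : M72) : fc (c * m * c⁻¹) = fc m := by unfold fc; rw [cls_conj]
theorem fd_cf (m c : M72) : fd (c * m * c⁻¹) = fd m := by unfold fd; rw [cls_conj]

theorem fa_van : ∀ m : M72, sing m = false → fa m = 0 := by decide +kernel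
theorem fb_van : ∀ m : M72, sing m = false → fb m = 0 := by decide +kernel
theorem fc_van : ∀ m : M72, sing m = false → fc m = 0 := by decide +kernel
theorem fd_van : ∀ m : M72, sing m = false → fd m = 0 := by decide +kernel

/-! ### linear characters -/

/-- the sign with kernel `{1, r², s, sr²}` -/
def e2 : D4 →* ℤˣ where
  toFun x := match x with
    | r i => if i = 0 ∨ i = 2 then 1 else -1
    | sr i => if i = 0 ∨ i = 2 then 1 else -1
  map_one' := by decide
  map_mul' := by decide

/-- the sign with kernel `{1, r², sr, sr³}` -/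
def e3 : D4 →* ℤˣ where
  toFun x := match x with
    | r i => if i = 0 ∨ i = 2 then 1 else -1
    | sr i => if i = 0 ∨ i = 2 then -1 else 1
  map_one' := by decide
  map_mul' := by decide

/-- the sign with kernel the rotations -/
def e4 : D4 →* ℤˣ where
  toFun x := match x with
    | r _ => 1
    | sr _ => -1
  map_one' := by decide
  map_mul' := by decide

/-- linear character of the model with kernel `N₁` -/
def x2 (m : M72) : ℤ := ((e2 m.right : ℤˣ) : ℤ)
/-- linear character of the model with kernel `N₃` -/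
def x3 (m : M72) : ℤ := ((e3 m.right : ℤˣ) : ℤ)
/-- linear character of the model with kernel `N₂` -/
def x4 (m : M72) : ℤ := ((e4 m.right : ℤˣ) : ℤ)

theorem isIrr_of_sign (e : D4 →* ℤˣ) :
    Cfsg.IsIrrCharacter M72 (fun m => (((e m.right : ℤˣ) : ℤ) : ℂ)) := by
  have h := isIrrCharacter_of_hom
    (((Units.map (Int.castRingHom ℂ).toMonoidHom).comp e).comp
      (SemidirectProduct.rightHom (N := V9) (G := D4) (φ := phi)))
  exact h

theorem isChar_x2 : Cfsg.IsCharacter M72 (fun m => (x2 m : ℂ)) :=
  IsIrrCharacter.isCharacter (isIrr_of_sign e2)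
theorem isChar_x3 : Cfsg.IsCharacter M72 (fun m => (x3 m : ℂ)) :=
  IsIrrCharacter.isCharacter (isIrr_of_sign e3)
theorem isChar_x4 : Cfsg.IsCharacter M72 (fun m => (x4 m : ℂ)) :=
  IsIrrCharacter.isCharacter (isIrr_of_sign e4)

/-! ### permutation characters of the conjugation action on classes -/

/-- the class number `k` as a type -/
def Cl (k : ℕ) : Type := {x : M72 // cls x = k}

instance (k : ℕ) : Fintype (Cl k) := inferInstanceAs (Fintype {x : M72 // cls x = k})
instance (k : ℕ) : DecidableEq (Cl k) := inferInstanceAs (DecidableEq {x : M72 // cls x = k})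

instance (k : ℕ) : MulAction M72 (Cl k) where
  smul c x := ⟨c * x.1 * c⁻¹, by rw [cls_conj]; exact x.2⟩
  one_smul x := by
    apply Subtype.ext
    show 1 * x.1 * 1⁻¹ = x.1
    group
  mul_smul c c' x := by
    apply Subtype.ext
    show c * c' * x.1 * (c * c')⁻¹ = c * (c' * x.1 * c'⁻¹) * c⁻¹
    group

/-- number of elements of the class `k` commuting with `m` -/
def piZ (k : ℕ) (m : M72) : ℤ :=
  ((Finset.univ.filter (fun x : M72 => cls x = k ∧ m * x * m⁻¹ = x)).card : ℤ)

theorem card_fixedBy_cl (k : ℕ) (m : M72) :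
    (Nat.card (MulAction.fixedBy (Cl k) m) : ℤ) = piZ k m := by
  classical
  unfold piZ
  rw [Nat.card_eq_fintype_card]
  congr 1
  rw [← Fintype.card_subtype]
  apply Fintype.card_congr
  refine ⟨fun x => ⟨x.1.1, x.1.2, ?_⟩, fun y => ⟨(show Cl k from ⟨y.1, y.2.1⟩), ?_⟩, ?_, ?_⟩
  · have := x.2
    rw [MulAction.mem_fixedBy] at this
    exact congrArg Subtype.val this
  · show (show Cl k from ⟨y.1, y.2.1⟩) ∈ MulAction.fixedBy (Cl k) m
    rw [MulAction.mem_fixedBy]
    apply Subtype.ext
    exact y.2.2
  · intro x; rfl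
  · intro y; rfl

theorem isChar_pi (k : ℕ) : Cfsg.IsCharacter M72 (fun m => (piZ k m : ℂ)) := by
  have h := FourTr.isCharacter_permChar (G := M72) (Cl k)
  have h2 : (fun g : M72 => (Nat.card (MulAction.fixedBy (Cl k) g) : ℂ)) = fun m => (piZ k m : ℂ) := by
    funext g
    have := card_fixedBy_cl k g
    exact_mod_cast this
  rw [h2] at h
  exact h

set_option maxRecDepth 100000 in
theorem fa_eq : ∀ m : M72, fa m = piZ 1 m - piZ 5 m - 1 - x2 m := by decide +kernel

set_option maxRecDepth 100000 in
theorem fc_eq : ∀ m : M72, fc m = 1 + x3 m + piZ 6 m - piZ 3 m := by decide +kernel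

theorem fb_eq : ∀ m : M72, fb m = x4 m * fa m := by decide +kernel
theorem fd_eq : ∀ m : M72, fd m = x4 m * fc m := by decide +kernel

end Cfsg.Agent.Helper6.H72
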