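import Mathlib
import Cfsg.Prelude.Def_Characters
import Cfsg.Agent.Helper6.H72B

/-!
# The model group of order 72: generalized characters, Gram matrix, involution pair sums
-/

set_option autoImplicit false
set_option linter.style.haveILetI false

namespace Cfsg.Agent.Helper6.H72

open DihedralGroup
open Cfsg.Agent.Helper6

theorem isGenChar_fa : Cfsg.IsGeneralizedCharacter M72 (fun m => (fa m : ℂ)) := by
  have h1 : Cfsg.IsCharacter M72 ((fun m : M72 => (piZ 5 m : ℂ)) + (fun _ : M72 => (1 : ℂ)) +
      (fun m => (x2 m : ℂ))) :=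
    IsCharacter.add (IsCharacter.add (isChar_pi 5) isCharacter_one) isChar_x2
  refine ⟨_, _, isChar_pi 1, h1, ?_⟩
  funext m
  simp only [Pi.sub_apply, Pi.add_apply]
  rw [fa_eq]
  push_cast
  ring

theorem isGenChar_fc : Cfsg.IsGeneralizedCharacter M72 (fun m => (fc m : ℂ)) := by
  have h1 : Cfsg.IsCharacter M72 ((fun _ : M72 => (1 : ℂ)) + (fun m => (x3 m : ℂ)) +
      (fun m : M72 => (piZ 6 m : ℂ))) :=
    IsCharacter.add (IsCharacter.add isCharacter_one isChar_x3) (isChar_pi 6)
  refine ⟨_, _, h1, isChar_pi 3, ?_⟩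
  funext m
  simp only [Pi.sub_apply, Pi.add_apply]
  rw [fc_eq]
  push_cast
  ring

theorem isGenChar_fb : Cfsg.IsGeneralizedCharacter M72 (fun m => (fb m : ℂ)) := by
  have h := IsGeneralizedCharacter.mul_char isGenChar_fa isChar_x4
  have h2 : (fun m : M72 => (fb m : ℂ)) = (fun m => (fa m : ℂ)) * (fun m => (x4 m : ℂ)) := by
    funext m
    rw [Pi.mul_apply, fb_eq]
    push_cast
    ring
  rw [h2]
  exact h

theorem isGenChar_fd : Cfsg.IsGeneralizedCharacter M72 (fun m => (fd m : ℂ)) := by
  have h := IsGeneralizedCharacter.mul_char isGenChar_fc isChar_x4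
  have h2 : (fun m : M72 => (fd m : ℂ)) = (fun m => (fc m : ℂ)) * (fun m => (x4 m : ℂ)) := by
    funext m
    rw [Pi.mul_apply, fd_eq]
    push_cast
    ring
  rw [h2]
  exact h

/-! ### the Gram matrix (sums over the model; inner products are these divided by 72) -/

theorem sum_fa_fa : ∑ m : M72, fa m * fa m = 288 := by decide +kernel
theorem sum_fa_fb : ∑ m : M72, fa m * fb m = 72 := by decide +kernel
theorem sum_fa_fc : ∑ m : M72, fa m * fc m = -144 := by decide +kernel
theorem sum_fa_fd : ∑ m : M72, fa m * fd m = -144 := by decide +kernel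
theorem sum_fb_fb : ∑ m : M72, fb m * fb m = 288 := by decide +kernel
theorem sum_fb_fc : ∑ m : M72, fb m * fc m = -144 := by decide +kernel
theorem sum_fb_fd : ∑ m : M72, fb m * fd m = -144 := by decide +kernel
theorem sum_fc_fc : ∑ m : M72, fc m * fc m = 288 := by decide +kernel
theorem sum_fc_fd : ∑ m : M72, fc m * fd m = 72 := by decide +kernel
theorem sum_fd_fd : ∑ m : M72, fd m * fd m = 288 := by decide +kernel

theorem sum_fa : ∑ m : M72, fa m = -72 := by decide +kernel
theorem sum_fb : ∑ m : M72, fb m = 0 := by decide +kernel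
theorem sum_fc : ∑ m : M72, fc m = 72 := by decide +kernel
theorem sum_fd : ∑ m : M72, fd m = 0 := by decide +kernel

/-! ### involution classes and pair sums -/

/-- the elements of class number `k` -/
def finCl (k : ℕ) : Finset M72 := Finset.univ.filter (fun m => cls m = k)

/-- the elements of class number `k` or `l` -/
def finCl2 (k l : ℕ) : Finset M72 := Finset.univ.filter (fun m => cls m = k ∨ cls m = l)

/-- pair sum of a function over two finsets -/
def pairSum (U V : Finset M72) (f : M72 → ℤ) : ℤ := ∑ m₁ ∈ U, ∑ m₂ ∈ V, f (m₁ * m₂)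

-- unfused
theorem ps_11_a : pairSum (finCl 1) (finCl 1) fa = -36 := by decide +kernel
theorem ps_11_b : pairSum (finCl 1) (finCl 1) fb = -36 := by decide +kernel
theorem ps_11_c : pairSum (finCl 1) (finCl 1) fc = 72 := by decide +kernel
theorem ps_11_d : pairSum (finCl 1) (finCl 1) fd = 72 := by decide +kernel
theorem ps_12_a : pairSum (finCl 1) (finCl 2) fa = -108 := by decide +kernel
theorem ps_12_b : pairSum (finCl 1) (finCl 2) fb = 108 := by decide +kernel
theorem ps_12_c : pairSum (finCl 1) (finCl 2) fc = 0 := by decide +kernel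
theorem ps_12_d : pairSum (finCl 1) (finCl 2) fd = 0 := by decide +kernel
theorem ps_13_a : pairSum (finCl 1) (finCl 3) fa = 0 := by decide +kernel
theorem ps_13_b : pairSum (finCl 1) (finCl 3) fb = 0 := by decide +kernel
theorem ps_13_c : pairSum (finCl 1) (finCl 3) fc = 0 := by decide +kernel
theorem ps_13_d : pairSum (finCl 1) (finCl 3) fd = 0 := by decide +kernel
theorem ps_22_a : pairSum (finCl 2) (finCl 2) fa = -324 := by decide +kernel
theorem ps_22_b : pairSum (finCl 2) (finCl 2) fb = -324 := by decide +kernel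
theorem ps_22_c : pairSum (finCl 2) (finCl 2) fc = 324 := by decide +kernel
theorem ps_22_d : pairSum (finCl 2) (finCl 2) fd = 324 := by decide +kernel
theorem ps_23_a : pairSum (finCl 2) (finCl 3) fa = 0 := by decide +kernel
theorem ps_23_b : pairSum (finCl 2) (finCl 3) fb = 0 := by decide +kernel
theorem ps_23_c : pairSum (finCl 2) (finCl 3) fc = 108 := by decide +kernel
theorem ps_23_d : pairSum (finCl 2) (finCl 3) fd = -108 := by decide +kernel
theorem ps_33_a : pairSum (finCl 3) (finCl 3) fa = -72 := by decide +kernel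
theorem ps_33_b : pairSum (finCl 3) (finCl 3) fb = -72 := by decide +kernel
theorem ps_33_c : pairSum (finCl 3) (finCl 3) fc = 36 := by decide +kernel
theorem ps_33_d : pairSum (finCl 3) (finCl 3) fd = 36 := by decide +kernel

-- fused `I12 ~ I1` : the class `P = I1 ∪ I12` and `Iτ`
theorem psF1_PP_a : pairSum (finCl2 1 2) (finCl2 1 2) fa = -576 := by decide +kernel
theorem psF1_PP_b : pairSum (finCl2 1 2) (finCl2 1 2) fb = -144 := by decide +kernel
theorem psF1_PP_c : pairSum (finCl2 1 2) (finCl2 1 2) fc = 396 := by decide +kernel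
theorem psF1_PP_d : pairSum (finCl2 1 2) (finCl2 1 2) fd = 396 := by decide +kernel
theorem psF1_Pt_a : pairSum (finCl2 1 2) (finCl 3) fa = 0 := by decide +kernel
theorem psF1_Pt_b : pairSum (finCl2 1 2) (finCl 3) fb = 0 := by decide +kernel
theorem psF1_Pt_c : pairSum (finCl2 1 2) (finCl 3) fc = 108 := by decide +kernel
theorem psF1_Pt_d : pairSum (finCl2 1 2) (finCl 3) fd = -108 := by decide +kernel

-- fused `I12 ~ Iτ` : `I1` and the class `P = I12 ∪ Iτ`
theorem psFt_PP_a : pairSum (finCl2 2 3) (finCl2 2 3) fa = -396 := by decide +kernel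
theorem psFt_PP_b : pairSum (finCl2 2 3) (finCl2 2 3) fb = -396 := by decide +kernel
theorem psFt_PP_c : pairSum (finCl2 2 3) (finCl2 2 3) fc = 576 := by decide +kernel
theorem psFt_PP_d : pairSum (finCl2 2 3) (finCl2 2 3) fd = 144 := by decide +kernel
theorem psFt_1P_a : pairSum (finCl 1) (finCl2 2 3) fa = -108 := by decide +kernel
theorem psFt_1P_b : pairSum (finCl 1) (finCl2 2 3) fb = 108 := by decide +kernel
theorem psFt_1P_c : pairSum (finCl 1) (finCl2 2 3) fc = 0 := by decide +kernel
theorem psFt_1P_d : pairSum (finCl 1) (finCl2 2 3) fd = 0 := by decide +kernel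

end Cfsg.Agent.Helper6.H72
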