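import Mathlib
import Cfsg.Agent.Helper6.SEmbC

/-!
# Homomorphisms from `D₃` and from `D₃ × D₃`
-/

set_option autoImplicit false
set_option linter.style.haveILetI false

namespace Cfsg.Agent.Helper6.SEmb

open DihedralGroup

variable {H : Type*} [Group H]

/-- `a ^ i` for `i : ZMod 3`. -/
def pw3 (a : H) (i : ZMod 3) : H := a ^ i.val

theorem pw3_zero (a : H) : pw3 a 0 = 1 := by
  unfold pw3
  simp

theorem pw3_one (a : H) : pw3 a 1 = a := by
  unfold pw3
  have : (1 : ZMod 3).val = 1 := rfl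
  rw [this, pow_one]

theorem pw3_add (a : H) (ha : a ^ 3 = 1) (i j : ZMod 3) : pw3 a (i + j) = pw3 a i * pw3 a j := by
  unfold pw3
  rw [← pow_add, ZMod.val_add, ← pow_eq_pow_mod _ ha]

theorem pw3_neg (a : H) (ha : a ^ 3 = 1) (i : ZMod 3) : pw3 a (-i) = (pw3 a i)⁻¹ := by
  have h := pw3_add a ha (-i) i
  rw [neg_add_cancel, pw3_zero] at h
  exact eq_inv_of_mul_eq_one_left h.symm

theorem pw3_sub (a : H) (ha : a ^ 3 = 1) (i j : ZMod 3) :
    pw3 a (j - i) = (pw3 a i)⁻¹ * pw3 a j := by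
  rw [sub_eq_add_neg, add_comm, pw3_add a ha, pw3_neg a ha]

theorem pw3_conj_inv (a u : H) (hua : u * a * u⁻¹ = a⁻¹) (i : ZMod 3) :
    u * pw3 a i * u⁻¹ = (pw3 a i)⁻¹ := by
  unfold pw3
  rw [← conj_pow, hua, inv_pow]

theorem pw3_conj_fix (a u : H) (hua : u * a * u⁻¹ = a) (i : ZMod 3) :
    u * pw3 a i * u⁻¹ = pw3 a i := by
  unfold pw3
  rw [← conj_pow, hua]

theorem pw3_mem (a : H) (T : Subgroup H) (ha : a ∈ T) (i : ZMod 3) : pw3 a i ∈ T :=
  T.pow_mem ha _

/-- The homomorphism from `D₃` determined by `a` of order dividing three and an involution `u`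
inverting `a`. -/
def dihHom (a u : H) (ha : a ^ 3 = 1) (hu : u * u = 1) (hua : u * a * u⁻¹ = a⁻¹) : D3 →* H where
  toFun x := match x with
    | r i => pw3 a i
    | sr i => u * pw3 a i
  map_one' := by
    show pw3 a 0 = 1
    exact pw3_zero a
  map_mul' := by
    have hinv : u⁻¹ = u := inv_eq_of_mul_eq_one_left hu
    have hc : ∀ i, u * pw3 a i * u = (pw3 a i)⁻¹ := by
      intro i
      have := pw3_conj_inv a u hua i
      rw [hinv] at this
      exact this
    have hc' : ∀ i, pw3 a i * u = u * (pw3 a i)⁻¹ := by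
      intro i
      have h1 := hc i
      calc pw3 a i * u = (u * u) * (pw3 a i * u) := by rw [hu, one_mul]
        _ = u * (u * pw3 a i * u) := by group
        _ = u * (pw3 a i)⁻¹ := by rw [h1]
    intro x y
    rcases x with i | i <;> rcases y with j | j
    · show pw3 a (i + j) = pw3 a i * pw3 a j
      exact pw3_add a ha i j
    · show u * pw3 a (j - i) = pw3 a i * (u * pw3 a j)
      rw [pw3_sub a ha, ← mul_assoc, ← mul_assoc, hc' i]
    · show u * pw3 a (i + j) = u * pw3 a i * pw3 a j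
      rw [pw3_add a ha, mul_assoc]
    · show pw3 a (j - i) = u * pw3 a i * (u * pw3 a j)
      rw [pw3_sub a ha, ← mul_assoc, hc i]

theorem dihHom_r (a u : H) (ha : a ^ 3 = 1) (hu : u * u = 1) (hua : u * a * u⁻¹ = a⁻¹)
    (i : ZMod 3) : dihHom a u ha hu hua (r i) = pw3 a i := rfl

theorem dihHom_sr (a u : H) (ha : a ^ 3 = 1) (hu : u * u = 1) (hua : u * a * u⁻¹ = a⁻¹)
    (i : ZMod 3) : dihHom a u ha hu hua (sr i) = u * pw3 a i := rfl

end Cfsg.Agent.Helper6.SEmb
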