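import Mathlib
import Cfsg.Agent.Helper6.SEmbD

/-!
# Structure of a group of order 36 with a self-centralizing normal elementary abelian subgroup of
order nine and Klein four quotient: choice of generators
-/

set_option autoImplicit false
set_option linter.style.haveILetI false

namespace Cfsg.Agent.Helper6.SEmb

open DihedralGroup

variable {H : Type*} [Group H]

theorem exists_mem_ne_ne [Finite H] (P : Subgroup H) (h : 2 < Nat.card P) (x : H) :
    ∃ y ∈ P, y ≠ 1 ∧ y ≠ x := by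
  classical
  by_contra hcon
  push Not at hcon
  have hsub : (P : Set H) ⊆ {1, x} := by
    intro y hy
    by_cases h1 : y = 1
    · left; exact h1
    · right; exact hcon y hy h1
  have h2 : Nat.card P ≤ 2 := by
    have h3 : Nat.card P = (P : Set H).ncard := rfl
    rw [h3]
    calc (P : Set H).ncard ≤ ({1, x} : Set H).ncard := Set.ncard_le_ncard hsub (Set.toFinite _)
      _ ≤ ({x} : Set H).ncard + 1 := Set.ncard_insert_le 1 {x}
      _ = 2 := by rw [Set.ncard_singleton]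
  omega

/-- Facts about a subgroup of order four meeting a normal subgroup of order nine trivially, when the
quotient is a Klein four group. -/
theorem klein_facts [Finite H] (T : Subgroup H) [hTn : T.Normal] (hT9 : Nat.card T = 9)
    (hK : IsKleinFour (H ⧸ T)) (P : Subgroup H) (hP4 : Nat.card P = 4) :
    P ⊓ T = ⊥ ∧ (∀ p ∈ P, p * p = 1) ∧ (∀ p ∈ P, ∀ q ∈ P, p * q = q * p) := by
  have hbot : P ⊓ T = ⊥ := by
    apply disjoint_iff.mp
    apply Subgroup.disjoint_of_coprime_natCard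
    rw [hP4, hT9]
    decide
  have hmem : ∀ z : H, z ∈ P → z ∈ T → z = 1 := by
    intro z hz1 hz2
    have : z ∈ P ⊓ T := ⟨hz1, hz2⟩
    rw [hbot] at this
    exact Subgroup.mem_bot.mp this
  refine ⟨hbot, ?_, ?_⟩
  · intro p hp
    apply hmem _ (P.mul_mem hp hp)
    rw [← QuotientGroup.eq_one_iff, QuotientGroup.mk_mul]
    exact IsKleinFour.mul_self _
  · intro p hp q hq
    have h1 : (p * q) * (q * p)⁻¹ = 1 := by
      apply hmem _ (P.mul_mem (P.mul_mem hp hq) (P.inv_mem (P.mul_mem hq hp)))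
      rw [← QuotientGroup.eq_one_iff, QuotientGroup.mk_mul, QuotientGroup.mk_inv,
        QuotientGroup.mk_mul, QuotientGroup.mk_mul]
      rw [mul_comm_of_exponent_two (IsKleinFour.exponent_two (G := H ⧸ T)) (q : H ⧸ T)
        (p : H ⧸ T), mul_inv_cancel]
    exact mul_inv_eq_one.mp h1


theorem pw3_eq_one_iff (a : H) (ha : a ^ 3 = 1) (ha1 : a ≠ 1) (i : ZMod 3) : pw3 a i = 1 ↔ i = 0 := by
  constructor
  · intro h
    fin_cases i
    · rfl
    · exfalso
      apply ha1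
      have : pw3 a 1 = a := pw3_one a
      rw [← this]
      exact h
    · exfalso
      apply ha1
      have h2 : a ^ 2 = 1 := h
      calc a = a ^ 3 * (a ^ 2)⁻¹ := by group
        _ = 1 := by rw [ha, h2]; simp
  · intro h
    rw [h, pw3_zero]

/-- an element which is both inverted and centralized by `u` and has order dividing three is `1`. -/
theorem eq_one_of_inv_fix (u c : H) (hc3 : c ^ 3 = 1) (h1 : u * c * u⁻¹ = c⁻¹) (h2 : u * c * u⁻¹ = c) :
    c = 1 := by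
  have h3 : c⁻¹ = c := h1.symm.trans h2
  have h4 : c * c = 1 := by
    calc c * c = c⁻¹ * c := by rw [h3]
      _ = 1 := inv_mul_cancel c
  calc c = c ^ 3 * (c * c)⁻¹ := by group
    _ = 1 := by rw [hc3, h4]; simp

/-- Independence of `a` (inverted by `u`) and `b` (centralized by `u`). -/
theorem pw3_indep (a b u : H) (ha : a ^ 3 = 1) (hb : b ^ 3 = 1) (ha1 : a ≠ 1) (hb1 : b ≠ 1)
    (hua : u * a * u⁻¹ = a⁻¹) (hub : u * b * u⁻¹ = b) (i j : ZMod 3)
    (h : pw3 a i * pw3 b j = 1) : i = 0 ∧ j = 0 := by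
  set c := pw3 a i with hc
  have hcb : c = (pw3 b j)⁻¹ := eq_inv_of_mul_eq_one_left h
  have hc3 : c ^ 3 = 1 := by
    rw [hc]
    unfold pw3
    rw [← pow_mul, mul_comm, pow_mul, ha, one_pow]
  have h1 : u * c * u⁻¹ = c⁻¹ := pw3_conj_inv a u hua i
  have h2 : u * c * u⁻¹ = c := by
    rw [hcb, ← conj_inv, pw3_conj_fix b u hub j]
  have hc1 : c = 1 := eq_one_of_inv_fix u c hc3 h1 h2
  have hi : i = 0 := (pw3_eq_one_iff a ha ha1 i).mp hc1
  have hj : pw3 b j = 1 := by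
    rw [hc1, one_mul] at h
    exact h
  exact ⟨hi, (pw3_eq_one_iff b hb hb1 j).mp hj⟩

/-- The nine elements `a^i b^j` exhaust `T`. -/
theorem exists_pw3_of_mem [Finite H] (T : Subgroup H) (hT9 : Nat.card T = 9)
    (a b u : H) (haT : a ∈ T) (hbT : b ∈ T)
    (ha : a ^ 3 = 1) (hb : b ^ 3 = 1) (ha1 : a ≠ 1) (hb1 : b ≠ 1) (hab : a * b = b * a)
    (hua : u * a * u⁻¹ = a⁻¹) (hub : u * b * u⁻¹ = b) (t : H) (ht : t ∈ T) :
    ∃ i j : ZMod 3, t = pw3 a i * pw3 b j := by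
  classical
  haveI : Fintype H := Fintype.ofFinite H
  let φ : ZMod 3 × ZMod 3 → T := fun q =>
    ⟨pw3 a q.1 * pw3 b q.2, T.mul_mem (pw3_mem a T haT _) (pw3_mem b T hbT _)⟩
  have hcomm_pw : ∀ i j : ZMod 3, pw3 a i * pw3 b j = pw3 b j * pw3 a i := by
    intro i j
    unfold pw3
    exact ((Commute.pow_pow (show Commute a b from hab) _ _)).eq
  have hinj : Function.Injective φ := by
    intro q q' hq
    have h1 : pw3 a q.1 * pw3 b q.2 = pw3 a q'.1 * pw3 b q'.2 := congrArg Subtype.val hq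
    have h2 : pw3 a (q.1 - q'.1) * pw3 b (q.2 - q'.2) = 1 := by
      rw [pw3_sub a ha, pw3_sub b hb]
      calc (pw3 a q'.1)⁻¹ * pw3 a q.1 * ((pw3 b q'.2)⁻¹ * pw3 b q.2)
          = (pw3 a q'.1)⁻¹ * (pw3 a q.1 * (pw3 b q'.2)⁻¹) * pw3 b q.2 := by group
        _ = (pw3 a q'.1)⁻¹ * ((pw3 b q'.2)⁻¹ * pw3 a q.1) * pw3 b q.2 := by
            congr 2
            have := hcomm_pw q.1 q'.2
            calc pw3 a q.1 * (pw3 b q'.2)⁻¹
                = (pw3 b q'.2)⁻¹ * (pw3 b q'.2 * pw3 a q.1) * (pw3 b q'.2)⁻¹ := by group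
              _ = (pw3 b q'.2)⁻¹ * (pw3 a q.1 * pw3 b q'.2) * (pw3 b q'.2)⁻¹ := by rw [this]
              _ = (pw3 b q'.2)⁻¹ * pw3 a q.1 := by group
        _ = (pw3 a q'.1 * pw3 b q'.2)⁻¹ * (pw3 a q.1 * pw3 b q.2) := by
            rw [hcomm_pw q'.1 q'.2]; group
        _ = 1 := by rw [h1]; group
    obtain ⟨hi, hj⟩ := pw3_indep a b u ha hb ha1 hb1 hua hub _ _ h2
    exact Prod.ext (sub_eq_zero.mp hi) (sub_eq_zero.mp hj)
  have hbij : Function.Bijective φ := by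
    rw [Fintype.bijective_iff_injective_and_card]
    refine ⟨hinj, ?_⟩
    rw [← Nat.card_eq_fintype_card, ← Nat.card_eq_fintype_card, hT9]
    simp
  obtain ⟨q, hq⟩ := hbij.2 ⟨t, ht⟩
  exact ⟨q.1, q.2, (congrArg Subtype.val hq).symm⟩

/-- Choice of the generators `a, b, u, v`. -/
theorem exists_abuv [Finite H] (T : Subgroup H) [hTn : T.Normal] (hT9 : Nat.card T = 9)
    (hcomm : ∀ x ∈ T, ∀ y ∈ T, x * y = y * x) (hexp : ∀ t ∈ T, t ^ 3 = 1)
    (hCT : ∀ h : H, (∀ t ∈ T, h * t = t * h) → h ∈ T)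
    (P : Subgroup H) (hP4 : Nat.card P = 4) (hbot : P ⊓ T = ⊥) (hsq : ∀ p ∈ P, p * p = 1)
    (hPc : ∀ p ∈ P, ∀ q ∈ P, p * q = q * p) :
    ∃ a b u v : H, a ∈ T ∧ b ∈ T ∧ a ≠ 1 ∧ b ≠ 1 ∧ u ∈ P ∧ v ∈ P ∧ u ≠ 1 ∧ v ≠ 1 ∧ u ≠ v ∧
      u * a * u⁻¹ = a⁻¹ ∧ u * b * u⁻¹ = b ∧ v * a * v⁻¹ = a ∧ v * b * v⁻¹ = b⁻¹ := by
  have hPT : ∀ z : H, z ∈ P → z ∈ T → z = 1 := by
    intro z hz1 hz2
    have : z ∈ P ⊓ T := ⟨hz1, hz2⟩
    rw [hbot] at this
    exact Subgroup.mem_bot.mp this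
  have hinv : ∀ w ∈ P, w⁻¹ = w := fun w hw => inv_eq_of_mul_eq_one_left (hsq w hw)
  -- Claim A
  have hA : ∃ u ∈ P, u ≠ 1 ∧ ∃ b ∈ T, b ≠ 1 ∧ u * b * u⁻¹ = b := by
    by_contra hcon
    push Not at hcon
    have hinvert : ∀ w ∈ P, w ≠ 1 → ∀ t ∈ T, w * t * w⁻¹ = t⁻¹ := by
      intro w hw hw1 t ht
      have hwt : w * t * w⁻¹ ∈ T := hTn.conj_mem t ht w
      set s := t * (w * t * w⁻¹) with hs
      have hsT : s ∈ T := T.mul_mem ht hwt
      have hfix : w * s * w⁻¹ = s := by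
        have e1 : w * s * w⁻¹ = (w * t * w⁻¹) * ((w * w) * t * (w * w)⁻¹) := by
          rw [hs]; group
        rw [e1, hsq w hw, one_mul, inv_one, mul_one, hs]
        exact hcomm _ hwt _ ht
      have hs1 : s = 1 := by
        by_contra hne
        exact hcon w hw hw1 s hsT hne hfix
      exact eq_inv_of_mul_eq_one_right hs1
    obtain ⟨x, hxP, hx1, -⟩ := exists_mem_ne_ne P (by omega) 1
    obtain ⟨y, hyP, hy1, hyx⟩ := exists_mem_ne_ne P (by omega) x
    have hxy : x * y ∈ T := by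
      apply hCT
      intro t ht
      have h1 := hinvert y hyP hy1 t ht
      have h2 := hinvert x hxP hx1 t⁻¹ (T.inv_mem ht)
      rw [inv_inv] at h2
      have h3 : (x * y) * t * (x * y)⁻¹ = t := by
        calc (x * y) * t * (x * y)⁻¹ = x * (y * t * y⁻¹) * x⁻¹ := by group
          _ = t := by rw [h1, h2]
      calc x * y * t = (x * y) * t * (x * y)⁻¹ * (x * y) := by group
        _ = t * (x * y) := by rw [h3]
    have hxy1 : x * y = 1 := hPT _ (P.mul_mem hxP hyP) hxy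
    apply hyx
    have : y = x⁻¹ := eq_inv_of_mul_eq_one_right hxy1
    rw [this, hinv x hxP]
  obtain ⟨u, huP, hu1, b, hbT, hb1, hub⟩ := hA
  have huT : u ∉ T := fun h => hu1 (hPT u huP h)
  have hex : ∃ t₀ ∈ T, u * t₀ ≠ t₀ * u := by
    by_contra hcon
    push Not at hcon
    exact huT (hCT u hcon)
  obtain ⟨t₀, ht₀, hne⟩ := hex
  have hut₀ : u * t₀ * u⁻¹ ∈ T := hTn.conj_mem t₀ ht₀ u
  set a := t₀ * (u * t₀ * u⁻¹)⁻¹ with ha_def
  have haT : a ∈ T := T.mul_mem ht₀ (T.inv_mem hut₀)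
  have ha1 : a ≠ 1 := by
    intro h
    apply hne
    have : t₀ = u * t₀ * u⁻¹ := by
      have := mul_inv_eq_one.mp h
      exact this
    calc u * t₀ = (u * t₀ * u⁻¹) * u := by group
      _ = t₀ * u := by rw [← this]
  have hua : u * a * u⁻¹ = a⁻¹ := by
    have e1 : u * a * u⁻¹ = (u * t₀ * u⁻¹) * ((u * u) * t₀⁻¹ * (u * u)⁻¹) := by
      rw [ha_def]; group
    rw [e1, hsq u huP, one_mul, inv_one, mul_one, ha_def]
    group
  have ha3 : a ^ 3 = 1 := hexp a haT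
  have hb3 : b ^ 3 = 1 := hexp b hbT
  have hab : a * b = b * a := hcomm a haT b hbT
  have hstruct := exists_pw3_of_mem T hT9 a b u haT hbT ha3 hb3 ha1 hb1 hab hua hub
  have hcomm_pw : ∀ i j : ZMod 3, pw3 a i * pw3 b j = pw3 b j * pw3 a i := by
    intro i j
    unfold pw3
    exact ((Commute.pow_pow (show Commute a b from hab) _ _)).eq
  -- elements of `T` inverted by `u` are powers of `a`; those fixed are powers of `b`
  have hI : ∀ t ∈ T, u * t * u⁻¹ = t⁻¹ → ∃ i : ZMod 3, t = pw3 a i := by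
    intro t ht hinvt
    obtain ⟨i, j, rfl⟩ := hstruct t ht
    refine ⟨i, ?_⟩
    have e1 : u * (pw3 a i * pw3 b j) * u⁻¹ = (pw3 a i)⁻¹ * pw3 b j := by
      calc u * (pw3 a i * pw3 b j) * u⁻¹ = (u * pw3 a i * u⁻¹) * (u * pw3 b j * u⁻¹) := by group
        _ = _ := by rw [pw3_conj_inv a u hua, pw3_conj_fix b u hub]
    rw [e1, mul_inv_rev] at hinvt
    have e2 : pw3 b j = (pw3 b j)⁻¹ := by
      have := mul_left_cancel (a := (pw3 a i)⁻¹) (b := pw3 b j) (c := (pw3 b j)⁻¹)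
      apply this
      rw [hinvt]
      have := hcomm_pw i j
      calc (pw3 b j)⁻¹ * (pw3 a i)⁻¹ = (pw3 a i * pw3 b j)⁻¹ := by group
        _ = (pw3 b j * pw3 a i)⁻¹ := by rw [this]
        _ = (pw3 a i)⁻¹ * (pw3 b j)⁻¹ := by group
    have e3 : pw3 b j = 1 := by
      apply eq_one_of_inv_fix (pw3 b j) (pw3 b j)
      · unfold pw3
        rw [← pow_mul, mul_comm, pow_mul, hb3, one_pow]
      · rw [mul_inv_cancel_right]; exact e2
      · rw [mul_inv_cancel_right]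
    rw [e3, mul_one]
  have hC : ∀ t ∈ T, u * t * u⁻¹ = t → ∃ j : ZMod 3, t = pw3 b j := by
    intro t ht hfix
    obtain ⟨i, j, rfl⟩ := hstruct t ht
    refine ⟨j, ?_⟩
    have e1 : u * (pw3 a i * pw3 b j) * u⁻¹ = (pw3 a i)⁻¹ * pw3 b j := by
      calc u * (pw3 a i * pw3 b j) * u⁻¹ = (u * pw3 a i * u⁻¹) * (u * pw3 b j * u⁻¹) := by group
        _ = _ := by rw [pw3_conj_inv a u hua, pw3_conj_fix b u hub]
    rw [e1] at hfix
    have e2 : (pw3 a i)⁻¹ = pw3 a i := mul_right_cancel hfix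
    have e3 : pw3 a i = 1 := by
      apply eq_one_of_inv_fix (pw3 a i) (pw3 a i)
      · unfold pw3
        rw [← pow_mul, mul_comm, pow_mul, ha3, one_pow]
      · rw [mul_inv_cancel_right]; exact e2.symm
      · rw [mul_inv_cancel_right]
    rw [e3, one_mul]
  -- a second involution
  obtain ⟨y, hyP, hy1, hyu⟩ := exists_mem_ne_ne P (by omega) u
  have hyu_comm : y * u = u * y := hPc y hyP u huP
  have hya_inv : u * (y * a * y⁻¹) * u⁻¹ = (y * a * y⁻¹)⁻¹ := by
    calc u * (y * a * y⁻¹) * u⁻¹ = (u * y) * a * (u * y)⁻¹ := by group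
      _ = (y * u) * a * (y * u)⁻¹ := by rw [hyu_comm]
      _ = y * (u * a * u⁻¹) * y⁻¹ := by group
      _ = y * a⁻¹ * y⁻¹ := by rw [hua]
      _ = (y * a * y⁻¹)⁻¹ := by group
  have hyb_fix : u * (y * b * y⁻¹) * u⁻¹ = y * b * y⁻¹ := by
    calc u * (y * b * y⁻¹) * u⁻¹ = (u * y) * b * (u * y)⁻¹ := by group
      _ = (y * u) * b * (y * u)⁻¹ := by rw [hyu_comm]
      _ = y * (u * b * u⁻¹) * y⁻¹ := by group
      _ = y * b * y⁻¹ := by rw [hub]
  obtain ⟨i, hi⟩ := hI _ (hTn.conj_mem a haT y) hya_inv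
  obtain ⟨j, hj⟩ := hC _ (hTn.conj_mem b hbT y) hyb_fix
  have hi0 : i ≠ 0 := by
    intro h
    rw [h, pw3_zero] at hi
    apply ha1
    have : a = y⁻¹ * (y * a * y⁻¹) * y := by group
    rw [this, hi]; group
  have hj0 : j ≠ 0 := by
    intro h
    rw [h, pw3_zero] at hj
    apply hb1
    have : b = y⁻¹ * (y * b * y⁻¹) * y := by group
    rw [this, hj]; group
  have hpw2a : pw3 a 2 = a⁻¹ := by
    have : (2 : ZMod 3) = -1 := by decide
    rw [this, pw3_neg a ha3, pw3_one]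
  have hpw2b : pw3 b 2 = b⁻¹ := by
    have : (2 : ZMod 3) = -1 := by decide
    rw [this, pw3_neg b hb3, pw3_one]
  have hya : y * a * y⁻¹ = a ∨ y * a * y⁻¹ = a⁻¹ := by
    fin_cases i
    · exact absurd rfl hi0
    · left; rw [hi]; exact pw3_one a
    · right; rw [hi]; exact hpw2a
  have hyb : y * b * y⁻¹ = b ∨ y * b * y⁻¹ = b⁻¹ := by
    fin_cases j
    · exact absurd rfl hj0
    · left; rw [hj]; exact pw3_one b
    · right; rw [hj]; exact hpw2b
  -- an element of `P` centralizing `a` and `b` is trivial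
  have hcent : ∀ w ∈ P, w * a * w⁻¹ = a → w * b * w⁻¹ = b → w = 1 := by
    intro w hw hwa hwb
    apply hPT w hw
    apply hCT
    intro t ht
    obtain ⟨i, j, rfl⟩ := hstruct t ht
    have e1 : w * (pw3 a i * pw3 b j) * w⁻¹ = pw3 a i * pw3 b j := by
      calc w * (pw3 a i * pw3 b j) * w⁻¹ = (w * pw3 a i * w⁻¹) * (w * pw3 b j * w⁻¹) := by group
        _ = _ := by rw [pw3_conj_fix a w hwa, pw3_conj_fix b w hwb]
    calc w * (pw3 a i * pw3 b j) = w * (pw3 a i * pw3 b j) * w⁻¹ * w := by group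
      _ = pw3 a i * pw3 b j * w := by rw [e1]
  have huy1 : u * y ≠ 1 := by
    intro h
    apply hyu
    have : y = u⁻¹ := eq_inv_of_mul_eq_one_right h
    rw [this, hinv u huP]
  rcases hya with hya | hya <;> rcases hyb with hyb | hyb
  · exact absurd (hcent y hyP hya hyb) hy1
  · exact ⟨a, b, u, y, haT, hbT, ha1, hb1, huP, hyP, hu1, hy1, fun h => hyu h.symm, hua, hub, hya,
      hyb⟩
  · exfalso
    apply huy1
    apply hcent _ (P.mul_mem huP hyP)
    · calc (u * y) * a * (u * y)⁻¹ = u * (y * a * y⁻¹) * u⁻¹ := by group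
        _ = u * a⁻¹ * u⁻¹ := by rw [hya]
        _ = (u * a * u⁻¹)⁻¹ := by group
        _ = a := by rw [hua, inv_inv]
    · calc (u * y) * b * (u * y)⁻¹ = u * (y * b * y⁻¹) * u⁻¹ := by group
        _ = b := by rw [hyb, hub]
  · refine ⟨a, b, u, u * y, haT, hbT, ha1, hb1, huP, P.mul_mem huP hyP, hu1, huy1, ?_, hua, hub, ?_,
      ?_⟩
    · intro h
      apply hy1
      have : u * 1 = u * y := by rw [mul_one]; exact h
      exact (mul_left_cancel this).symm
    · calc (u * y) * a * (u * y)⁻¹ = u * (y * a * y⁻¹) * u⁻¹ := by group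
        _ = u * a⁻¹ * u⁻¹ := by rw [hya]
        _ = (u * a * u⁻¹)⁻¹ := by group
        _ = a := by rw [hua, inv_inv]
    · calc (u * y) * b * (u * y)⁻¹ = u * (y * b * y⁻¹) * u⁻¹ := by group
        _ = u * b⁻¹ * u⁻¹ := by rw [hyb]
        _ = (u * b * u⁻¹)⁻¹ := by group
        _ = b⁻¹ := by rw [hub]

end Cfsg.Agent.Helper6.SEmb
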