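import Mathlib
import Cfsg.Agent.Helper5.HupDefs

set_option autoImplicit false
set_option linter.unusedVariables false

/-!
Helper6: S3360 (Huppert) piece G, part 1: the subgroup of scalars and transversals of `zc D`.
-/

open Cfsg.Agent.Helper5.Hup
open scoped commutatorElement

namespace Cfsg.Agent.Helper6.Hup

universe u w

variable {q : ℕ} [hq : Fact q.Prime] {V : Type u} [AddCommGroup V] [Module (ZMod q) V]
variable {G : Type w} [Group G]

/-- the subgroup of elements acting as scalars -/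
def scalSub (ι : G →* Module.End (ZMod q) V) : Subgroup G :=
  (Units.map ((algebraMap (ZMod q) (Module.End (ZMod q) V)) : ZMod q →* _)).range.comap
    ι.toHomUnits

theorem isScal_of_mem_scalSub (ι : G →* Module.End (ZMod q) V) {g : G} (hg : g ∈ scalSub ι) :
    IsScal (ι g) := by
  obtain ⟨u, hu⟩ := hg
  refine ⟨(u : ZMod q), ?_⟩
  have := congrArg Units.val hu
  rw [MonoidHom.coe_toHomUnits] at this
  rw [← this]
  rfl

theorem algebraMap_ne_zero_of_nontrivial [Nontrivial V] {c : ZMod q} (hc : c ≠ 0) :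
    algebraMap (ZMod q) (Module.End (ZMod q) V) c ≠ 0 := by
  obtain ⟨v, hv⟩ := exists_ne (0 : V)
  intro h
  have h1 := congrArg (fun f : Module.End (ZMod q) V => f v) h
  simp only [Module.algebraMap_end_apply, LinearMap.zero_apply] at h1
  rcases smul_eq_zero.1 h1 with h2 | h2
  · exact hc h2
  · exact hv h2

theorem map_ne_zero_of_nontrivial [Nontrivial V] (ι : G →* Module.End (ZMod q) V) (g : G) :
    ι g ≠ 0 := by
  obtain ⟨v, hv⟩ := exists_ne (0 : V)
  intro h
  have h1 : ι g⁻¹ * ι g = 1 := by rw [← map_mul, inv_mul_cancel, map_one]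
  rw [h, mul_zero] at h1
  have h2 := congrArg (fun f : Module.End (ZMod q) V => f v) h1
  simp only [LinearMap.zero_apply, Module.End.one_apply] at h2
  exact hv h2.symm

theorem mem_scalSub_iff [Nontrivial V] (ι : G →* Module.End (ZMod q) V) (g : G) :
    g ∈ scalSub ι ↔ IsScal (ι g) := by
  constructor
  · exact isScal_of_mem_scalSub ι
  · rintro ⟨c, hc⟩
    have hc0 : c ≠ 0 := by
      rintro rfl
      rw [map_zero] at hc
      exact map_ne_zero_of_nontrivial ι g hc
    refine ⟨Units.mk0 c hc0, ?_⟩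
    apply Units.ext
    rw [MonoidHom.coe_toHomUnits, hc]
    rfl

theorem scalSub_central (ι : G →* Module.End (ZMod q) V) (hι : Function.Injective ι) {g : G}
    (hg : g ∈ scalSub ι) (h : G) : h * g = g * h := by
  obtain ⟨c, hc⟩ := isScal_of_mem_scalSub ι hg
  apply hι
  rw [map_mul, map_mul, hc]
  exact (Algebra.commutes c (ι h)).symm

theorem scalSub_normal (ι : G →* Module.End (ZMod q) V) (hι : Function.Injective ι) :
    (scalSub ι).Normal := by
  constructor
  intro g hg h
  have := scalSub_central ι hι hg h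
  have e : h * g * h⁻¹ = g := by rw [this]; group
  rw [e]; exact hg

theorem card_scalSub_dvd (ι : G →* Module.End (ZMod q) V) (hι : Function.Injective ι) :
    Nat.card (scalSub ι) ∣ q - 1 := by
  have hinj : Function.Injective ι.toHomUnits := by
    intro a b hab
    apply hι
    have := congrArg Units.val hab
    simpa [MonoidHom.coe_toHomUnits] using this
  rw [← Subgroup.card_map_of_injective (K := scalSub ι) hinj]
  have hle : (scalSub ι).map ι.toHomUnits ≤
      (Units.map ((algebraMap (ZMod q) (Module.End (ZMod q) V)) : ZMod q →* _)).range := by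
    rw [scalSub]
    exact Subgroup.map_comap_le _ _
  have h1 := Subgroup.card_dvd_of_le hle
  have h2 := Subgroup.card_range_dvd
    (Units.map ((algebraMap (ZMod q) (Module.End (ZMod q) V)) :
      ZMod q →* Module.End (ZMod q) V))
  have h3 : Nat.card (ZMod q)ˣ = q - 1 := by
    rw [Nat.card_eq_fintype_card, ZMod.card_units]
  rw [h3] at h2
  exact h1.trans h2

/-- a finite transversal of `zc D` in `D` -/
theorem exists_transversal [Finite G] (D : Subgroup G) :
    ∃ T : Finset G, (∀ t ∈ T, t ∈ D) ∧ (∀ t ∈ T, ∀ t' ∈ T, t⁻¹ * t' ∈ zc D → t = t') ∧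
      ∀ d ∈ D, ∃ t ∈ T, t⁻¹ * d ∈ zc D := by
  classical
  haveI : Fintype (↥D ⧸ Subgroup.center ↥D) := Fintype.ofFinite _
  let f : ↥D ⧸ Subgroup.center ↥D → G := fun x => ((Quotient.out x : D) : G)
  have hzc : ∀ a b : D, ((a : G)⁻¹ * (b : G) ∈ zc D) ↔ a⁻¹ * b ∈ Subgroup.center ↥D := by
    intro a b
    rw [← subgroupOf_zc, Subgroup.mem_subgroupOf]
    rfl
  refine ⟨Finset.univ.image f, ?_, ?_, ?_⟩
  · intro t ht
    obtain ⟨x, -, rfl⟩ := Finset.mem_image.1 ht
    exact (Quotient.out x : D).2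
  · intro t ht t' ht' h
    obtain ⟨x, -, rfl⟩ := Finset.mem_image.1 ht
    obtain ⟨x', -, rfl⟩ := Finset.mem_image.1 ht'
    have h1 : (Quotient.out x : D)⁻¹ * (Quotient.out x' : D) ∈ Subgroup.center ↥D :=
      (hzc _ _).1 h
    have h2 : ((Quotient.out x : D) : ↥D ⧸ Subgroup.center ↥D) = (Quotient.out x' : D) :=
      QuotientGroup.eq.2 h1
    rw [QuotientGroup.out_eq', QuotientGroup.out_eq'] at h2
    rw [h2]
  · intro d hd
    refine ⟨f ((⟨d, hd⟩ : D) : ↥D ⧸ Subgroup.center ↥D), Finset.mem_image_of_mem f (Finset.mem_univ _), ?_⟩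
    have h1 : ((Quotient.out ((⟨d, hd⟩ : D) : ↥D ⧸ Subgroup.center ↥D) : D) :
        ↥D ⧸ Subgroup.center ↥D) = ((⟨d, hd⟩ : D) : ↥D ⧸ Subgroup.center ↥D) :=
      QuotientGroup.out_eq' _
    have h2 := QuotientGroup.eq.1 h1
    exact (hzc _ _).2 h2

end Cfsg.Agent.Helper6.Hup
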