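import Mathlib
import Cfsg.Agent.Helper5.HupDefs
import Cfsg.Agent.Helper1.Basic
import Cfsg.Agent.Helper1.AutPlumbing
import Cfsg.Agent.Helper6.HupG1

set_option autoImplicit false
set_option linter.unusedVariables false

/-!
Helper6: S3360 (Huppert) piece G, part 2: the kernel of the action on `D / Z(D)` lies in
`D ⊔ (scalars)`, and the order bound, modulo the inputs from pieces E and AUT.
-/

open Cfsg.Agent.Helper5.Hup
open scoped commutatorElement

namespace Cfsg.Agent.Helper6.Hup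

universe u w

variable {q : ℕ} [hq : Fact q.Prime] {V : Type u} [AddCommGroup V] [Module (ZMod q) V]
variable {G : Type w} [Group G]

/-- an endomorphism commuting with a spanning set is a scalar -/
theorem isScal_of_commute_span (S : Set (Module.End (ZMod q) V))
    (hS : Submodule.span (ZMod q) S = ⊤) (f : Module.End (ZMod q) V)
    (hf : ∀ s ∈ S, f * s = s * f) : IsScal f := by
  have h1 : ∀ e ∈ Submodule.span (ZMod q) S, f * e = e * f := by
    intro e he
    induction he using Submodule.span_induction with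
    | mem x hx => exact hf x hx
    | zero => simp
    | add x y _ _ hx hy => rw [mul_add, add_mul, hx, hy]
    | smul a x _ hx => rw [mul_smul_comm, smul_mul_assoc, hx]
  have h2 : f ∈ Set.center (Module.End (ZMod q) V) := by
    rw [Semigroup.mem_center_iff]
    intro g
    have : g ∈ Submodule.span (ZMod q) S := by rw [hS]; trivial
    exact (h1 g this).symm
  obtain ⟨α, hα, h3⟩ := Module.End.mem_center_iff.1 h2
  refine ⟨α, ?_⟩
  rw [h3]
  ext v
  simp

/-- the kernel lemma: an element acting trivially on `D / zc D` lies in `D ⊔ scalars` -/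
theorem mem_sup_of_comm_mem [Finite G] [Nontrivial V] (ι : G →* Module.End (ZMod q) V)
    (hι : Function.Injective ι) (D : Subgroup G)
    (hZ : ∀ z ∈ zc D, IsScal (ι z)) (hcl : ∀ a ∈ D, ∀ b ∈ D, ⁅a, b⁆ ∈ zc D)
    (hindep : ∀ (T : Finset G), (∀ t ∈ T, t ∈ D) →
      (∀ t ∈ T, ∀ t' ∈ T, t⁻¹ * t' ∈ zc D → t = t') →
      ∀ c : G → ZMod q, (∑ t ∈ T, c t • ι t = 0) → ∀ t ∈ T, c t = 0)
    (hspan : Submodule.span (ZMod q) (ι '' (D : Set G)) = ⊤)
    (g : G) (hg : ∀ t ∈ D, ⁅g, t⁆ ∈ zc D) : g ∈ D ⊔ scalSub ι := by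
  classical
  obtain ⟨T, hTD, hTd, hTcov⟩ := exists_transversal D
  -- expansion of ι g over the transversal
  have hle : Submodule.span (ZMod q) (ι '' (D : Set G)) ≤
      Submodule.span (ZMod q) (↑(T.image ι) : Set (Module.End (ZMod q) V)) := by
    rw [Submodule.span_le]
    rintro _ ⟨d, hd, rfl⟩
    obtain ⟨t, ht, hz⟩ := hTcov d hd
    obtain ⟨c, hc⟩ := hZ _ hz
    have e : ι d = c • ι t := by
      have : d = t * (t⁻¹ * d) := by group
      rw [this, map_mul, hc, ← Algebra.commutes, Algebra.smul_def]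
    rw [e]
    apply Submodule.smul_mem
    apply Submodule.subset_span
    exact Finset.mem_coe.2 (Finset.mem_image_of_mem ι ht)
  have hmem : ι g ∈ Submodule.span (ZMod q) (↑(T.image ι) : Set (Module.End (ZMod q) V)) := by
    apply hle
    rw [hspan]; trivial
  obtain ⟨f, -, hf⟩ := Submodule.mem_span_finset.1 hmem
  rw [Finset.sum_image (fun a _ b _ hab => hι hab)] at hf
  set a : G → ZMod q := fun t => f (ι t) with ha
  have hsum : ∑ t ∈ T, a t • ι t = ι g := hf
  -- the scalars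
  have hm : ∀ t' : D, ∃ c : ZMod q, ι ⁅g, (t' : G)⁆ = algebraMap _ _ c :=
    fun t' => hZ _ (hg t' t'.2)
  choose m hm' using hm
  have hl : ∀ t' : D, ∀ t : G, ∃ c : ZMod q, t ∈ D → ι ⁅(t' : G), t⁆ = algebraMap _ _ c := by
    intro t' t
    by_cases ht : t ∈ D
    · obtain ⟨c, hc⟩ := hZ _ (hcl t' t'.2 t ht)
      exact ⟨c, fun _ => hc⟩
    · exact ⟨0, fun h => absurd h ht⟩
  choose l hl' using hl
  -- the key relation
  have hkey : ∀ t' : D, ∀ t ∈ T, a t - m t' * (a t * l t' t) = 0 := by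
    intro t'
    apply hindep T hTD hTd
    have h1 : ι g * ι (t' : G) = ι ⁅g, (t' : G)⁆ * (ι (t' : G) * ι g) := by
      rw [← map_mul, ← map_mul, ← map_mul]
      congr 1
      rw [commutatorElement_def]; group
    have h2 : ∀ t ∈ T, ι (t' : G) * ι t = l t' t • (ι t * ι (t' : G)) := by
      intro t ht
      have : ι (t' : G) * ι t = ι ⁅(t' : G), t⁆ * (ι t * ι (t' : G)) := by
        rw [← map_mul, ← map_mul, ← map_mul]
        congr 1
        rw [commutatorElement_def]; group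
      rw [this, hl' t' t (hTD t ht), Algebra.smul_def]
    -- expand both sides
    have h3 : ∑ t ∈ T, a t • (ι t * ι (t' : G)) =
        ∑ t ∈ T, (m t' * (a t * l t' t)) • (ι t * ι (t' : G)) := by
      calc ∑ t ∈ T, a t • (ι t * ι (t' : G)) = (∑ t ∈ T, a t • ι t) * ι (t' : G) := by
            rw [Finset.sum_mul]
            apply Finset.sum_congr rfl
            intro t _
            rw [smul_mul_assoc]
        _ = ι g * ι (t' : G) := by rw [hsum]
        _ = ι ⁅g, (t' : G)⁆ * (ι (t' : G) * ι g) := h1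
        _ = m t' • (ι (t' : G) * ∑ t ∈ T, a t • ι t) := by
            rw [hm' t', hsum, Algebra.smul_def]
        _ = ∑ t ∈ T, (m t' * (a t * l t' t)) • (ι t * ι (t' : G)) := by
            rw [Finset.mul_sum, Finset.smul_sum]
            apply Finset.sum_congr rfl
            intro t ht
            rw [mul_smul_comm, h2 t ht, smul_smul, smul_smul, mul_assoc]
    have h4 : ∑ t ∈ T, (a t - m t' * (a t * l t' t)) • (ι t * ι (t' : G)) = 0 := by
      simp only [sub_smul, Finset.sum_sub_distrib]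
      rw [h3, sub_self]
    have h5 : (∑ t ∈ T, (a t - m t' * (a t * l t' t)) • (ι t * ι (t' : G))) *
        ι ((t' : G)⁻¹) = ∑ t ∈ T, (a t - m t' * (a t * l t' t)) • ι t := by
      rw [Finset.sum_mul]
      apply Finset.sum_congr rfl
      intro t _
      rw [smul_mul_assoc, mul_assoc, ← map_mul, mul_inv_cancel, map_one, mul_one]
    rw [← h5, h4, zero_mul]
  -- some coefficient is nonzero
  have hex : ∃ t₀ ∈ T, a t₀ ≠ 0 := by
    by_contra hcon
    push Not at hcon
    have : ι g = 0 := by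
      rw [← hsum]
      apply Finset.sum_eq_zero
      intro t ht
      rw [hcon t ht, zero_smul]
    exact map_ne_zero_of_nontrivial ι g this
  obtain ⟨t₀, ht₀, hat₀⟩ := hex
  have ht₀D : t₀ ∈ D := hTD t₀ ht₀
  -- t₀⁻¹ * g centralizes D
  have hcen : ∀ t' ∈ D, (t₀⁻¹ * g) * t' = t' * (t₀⁻¹ * g) := by
    intro t' ht'
    have h1 := hkey ⟨t', ht'⟩ t₀ ht₀
    have h2 : m ⟨t', ht'⟩ * l ⟨t', ht'⟩ t₀ = 1 := by
      have : a t₀ * (1 - m ⟨t', ht'⟩ * l ⟨t', ht'⟩ t₀) = 0 := by
        rw [← h1]; ring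
      rcases mul_eq_zero.1 this with h | h
      · exact absurd h hat₀
      · exact (sub_eq_zero.1 h).symm
    have h3 : ι (⁅g, t'⁆ * ⁅t', t₀⁆) = ι 1 := by
      rw [map_mul, hm' ⟨t', ht'⟩, hl' ⟨t', ht'⟩ t₀ ht₀D, ← map_mul, h2, map_one, map_one]
    have h4 := hι h3
    rw [commutatorElement_def, commutatorElement_def] at h4
    have h5 : g * t' * g⁻¹ = t₀ * t' * t₀⁻¹ := by
      have : g * t' * g⁻¹ * (t₀ * t' * t₀⁻¹)⁻¹ = 1 := by
        rw [← h4]; group
      exact mul_inv_eq_one.1 this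
    calc t₀⁻¹ * g * t' = t₀⁻¹ * (g * t' * g⁻¹) * g := by group
      _ = t₀⁻¹ * (t₀ * t' * t₀⁻¹) * g := by rw [h5]
      _ = t' * (t₀⁻¹ * g) := by group
  -- hence it is a scalar
  have hscal : IsScal (ι (t₀⁻¹ * g)) := by
    apply isScal_of_commute_span _ hspan
    rintro _ ⟨d, hd, rfl⟩
    rw [← map_mul, ← map_mul, hcen d hd]
  have hmemZ : t₀⁻¹ * g ∈ scalSub ι := (mem_scalSub_iff ι _).2 hscal
  have : g = t₀ * (t₀⁻¹ * g) := by group
  rw [this]
  exact Subgroup.mul_mem_sup ht₀D hmemZ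

/-- the action of `G` on `D / Z(D)` -/
noncomputable def actQ (D : Subgroup G) [D.Normal] : G →* MulAut (↥D ⧸ Subgroup.center ↥D) :=
  (Cfsg.Agent.Helper1.AutPlumbing.quotAut (Subgroup.center ↥D)
    Subgroup.centerCharacteristic).comp MulAut.conjNormal

theorem comm_mem_zc_of_mem_ker (D : Subgroup G) [D.Normal] {g : G} (hg : g ∈ (actQ D).ker)
    (t : G) (ht : t ∈ D) : ⁅g, t⁆ ∈ zc D := by
  rw [MonoidHom.mem_ker] at hg
  have h1 := congrArg (fun f : MulAut (↥D ⧸ Subgroup.center ↥D) =>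
    f ((⟨t, ht⟩ : D) : ↥D ⧸ Subgroup.center ↥D)) hg
  simp only [actQ, MonoidHom.comp_apply, Cfsg.Agent.Helper1.AutPlumbing.quotAut_mk,
    MulAut.one_apply] at h1
  have h2 := QuotientGroup.eq.1 h1.symm
  rw [← subgroupOf_zc, Subgroup.mem_subgroupOf] at h2
  have h3 : ((⟨t, ht⟩ : D)⁻¹ * (MulAut.conjNormal g) ⟨t, ht⟩ : D).1 = t⁻¹ * (g * t * g⁻¹) := by
    rw [Subgroup.coe_mul, MulAut.conjNormal_apply]
    rfl
  rw [h3] at h2
  have h4 := (zc_normal D).conj_mem _ h2 t
  have e : t * (t⁻¹ * (g * t * g⁻¹)) * t⁻¹ = ⁅g, t⁆ := by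
    rw [commutatorElement_def]; group
  rw [e] at h4
  exact h4

/-- the order bound, modulo the inputs of pieces E (`hindep`, `hspan`) and AUT (`haut`) -/
theorem card_dvd_of_symplectic_of [Finite V] [Finite G] (ι : G →* Module.End (ZMod q) V)
    (hι : Function.Injective ι)
    {n m : ℕ} (hV : Nat.card V = q ^ n) (hn : n = 2 ^ m) (D : Subgroup G) [D.Normal]
    (hZ : ∀ z ∈ zc D, IsScal (ι z)) (hcl : ∀ a ∈ D, ∀ b ∈ D, ⁅a, b⁆ ∈ zc D)
    (hexp : ∀ a ∈ D, a ^ 2 ∈ zc D) (hidx : (zc D).relIndex D = n ^ 2)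
    (hindep : ∀ (T : Finset G), (∀ t ∈ T, t ∈ D) →
      (∀ t ∈ T, ∀ t' ∈ T, t⁻¹ * t' ∈ zc D → t = t') →
      ∀ c : G → ZMod q, (∑ t ∈ T, c t • ι t = 0) → ∀ t ∈ T, c t = 0)
    (hspan : Submodule.span (ZMod q) (ι '' (D : Set G)) = ⊤)
    (haut : (∀ a b : ↥D ⧸ Subgroup.center ↥D, a * b = b * a) →
      Nat.card (↥D ⧸ Subgroup.center ↥D) = 2 ^ (2 * m) →
      (∀ x : ↥D ⧸ Subgroup.center ↥D, x ^ 2 = 1) →
      Nat.card (MulAut (↥D ⧸ Subgroup.center ↥D)) ∣ Nat.card (GL (Fin (2 * m)) (ZMod 2))) :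
    Nat.card G ∣ (q - 1) * n ^ 2 * Nat.card (GL (Fin (2 * m)) (ZMod 2)) := by
  classical
  have hq1 : 1 < q := hq.out.one_lt
  have hn1 : 1 ≤ n := by rw [hn]; exact Nat.one_le_two_pow
  haveI : Nontrivial V := by
    rw [← Finite.one_lt_card_iff_nontrivial, hV]
    calc 1 < q := hq1
      _ = q ^ 1 := (pow_one q).symm
      _ ≤ q ^ n := Nat.pow_le_pow_right (by omega) hn1
  -- properties of the quotient
  have hQcomm : ∀ a b : ↥D ⧸ Subgroup.center ↥D, a * b = b * a := by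
    intro a b
    obtain ⟨a, rfl⟩ := QuotientGroup.mk_surjective a
    obtain ⟨b, rfl⟩ := QuotientGroup.mk_surjective b
    rw [← QuotientGroup.mk_mul, ← QuotientGroup.mk_mul]
    apply QuotientGroup.eq.2
    rw [← subgroupOf_zc, Subgroup.mem_subgroupOf]
    have h1 := hcl _ (b⁻¹).2 _ (a⁻¹).2
    have e : (((a * b)⁻¹ * (b * a) : D) : G) = ⁅((b⁻¹ : D) : G), ((a⁻¹ : D) : G)⁆ := by
      rw [commutatorElement_def]
      simp only [Subgroup.coe_mul, Subgroup.coe_inv]
      group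
    rw [e]
    exact h1
  have hQcard : Nat.card (↥D ⧸ Subgroup.center ↥D) = 2 ^ (2 * m) := by
    have : Nat.card (↥D ⧸ Subgroup.center ↥D) = (Subgroup.center ↥D).index := rfl
    rw [this, ← relIndex_zc, hidx, hn, ← pow_mul, mul_comm]
  have hQexp : ∀ x : ↥D ⧸ Subgroup.center ↥D, x ^ 2 = 1 := by
    intro x
    obtain ⟨a, rfl⟩ := QuotientGroup.mk_surjective x
    rw [← QuotientGroup.mk_pow, QuotientGroup.eq_one_iff, ← subgroupOf_zc,
      Subgroup.mem_subgroupOf]
    have := hexp _ a.2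
    simpa using this
  have hAut := haut hQcomm hQcard hQexp
  -- the kernel
  set K := (actQ D).ker with hK
  have hKle : K ≤ D ⊔ scalSub ι := by
    intro g hg
    exact mem_sup_of_comm_mem ι hι D hZ hcl hindep hspan g
      (fun t ht => comm_mem_zc_of_mem_ker D hg t ht)
  have hidxK : K.index ∣ Nat.card (GL (Fin (2 * m)) (ZMod 2)) := by
    rw [hK, Subgroup.index_ker]
    exact (Subgroup.card_subgroup_dvd_card _).trans hAut
  haveI := scalSub_normal ι hι
  have hzle : zc D ≤ scalSub ι := fun z hz => (mem_scalSub_iff ι z).2 (hZ z hz)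
  have hcardsup : Nat.card (D ⊔ scalSub ι : Subgroup G) ∣ n ^ 2 * (q - 1) := by
    rw [← Cfsg.Agent.Helper1.relIndex_mul_card_of_le (le_sup_right : scalSub ι ≤ D ⊔ scalSub ι),
      Subgroup.relIndex_sup_right]
    apply Nat.mul_dvd_mul
    · rw [← hidx]
      exact Subgroup.relIndex_dvd_of_le_left D hzle
    · exact card_scalSub_dvd ι hι
  have hcardK : Nat.card K ∣ n ^ 2 * (q - 1) :=
    (Subgroup.card_dvd_of_le hKle).trans hcardsup
  rw [← Subgroup.card_mul_index K]
  have : (q - 1) * n ^ 2 * Nat.card (GL (Fin (2 * m)) (ZMod 2)) =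
      (n ^ 2 * (q - 1)) * Nat.card (GL (Fin (2 * m)) (ZMod 2)) := by ring
  rw [this]
  exact Nat.mul_dvd_mul hcardK hidxK

end Cfsg.Agent.Helper6.Hup
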