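import Mathlib
import Cfsg.Agent.Helper5.HupDefs
import Cfsg.Agent.Helper5.HupE2
import Cfsg.Agent.Helper9.HupAut
import Cfsg.Agent.Helper6.HupG2

set_option autoImplicit false
set_option linter.unusedVariables false

/-!
Helper6: S3360 (Huppert) piece G: the order bound `card_dvd_of_symplectic` (exact stub).
-/

open scoped commutatorElement

namespace Cfsg.Agent.Helper6.Hup

universe u w

variable {q : ℕ} [hq : Fact q.Prime] {V : Type u} [AddCommGroup V] [Module (ZMod q) V] [Finite V]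
variable {G : Type w} [Group G] [Finite G]

theorem card_dvd_of_symplectic (ι : G →* Module.End (ZMod q) V) (hι : Function.Injective ι)
    {n m : ℕ} (hV : Nat.card V = q ^ n) (hn : n = 2 ^ m) (D : Subgroup G) [D.Normal]
    (hZ : ∀ z ∈ Cfsg.Agent.Helper5.Hup.zc D, Cfsg.Agent.Helper5.Hup.IsScal (ι z))
    (hcl : ∀ a ∈ D, ∀ b ∈ D, ⁅a, b⁆ ∈ Cfsg.Agent.Helper5.Hup.zc D)
    (hexp : ∀ a ∈ D, a ^ 2 ∈ Cfsg.Agent.Helper5.Hup.zc D)
    (hidx : (Cfsg.Agent.Helper5.Hup.zc D).relIndex D = n ^ 2) :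
    Nat.card G ∣ (q - 1) * n ^ 2 * Nat.card (GL (Fin (2 * m)) (ZMod 2)) := by
  have hn0 : 0 < n := by rw [hn]; exact Nat.two_pow_pos m
  haveI : Nontrivial V := Cfsg.Agent.Helper5.Hup.nontrivial_of_card hn0 hV
  obtain ⟨h1, h2, h3, h4⟩ := Cfsg.Agent.Helper5.Hup.bot_hyps ι D hZ
  refine card_dvd_of_symplectic_of ι hι hV hn D hZ hcl hexp hidx ?_
    (Cfsg.Agent.Helper5.Hup.span_of_relIndex_eq ι hι D hZ hcl hn0 hV hidx)
    (fun a b c => Cfsg.Agent.Helper9.Hup.card_mulAut_dvd a (2 * m) b c)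
  intro T hT hTd c hsum t ht
  have key := Cfsg.Agent.Helper5.Hup.indep ι hι D ⊥ h1 h2 h3 h4 hcl T hT hTd
    (fun t => algebraMap (ZMod q) (Module.End (ZMod q) V) (c t))
    (fun t _ => Subalgebra.algebraMap_mem _ _)
    (by
      rw [← hsum]
      apply Finset.sum_congr rfl
      intro t _
      rw [Algebra.smul_def]) t ht
  exact (map_eq_zero_iff _ (algebraMap (ZMod q) (Module.End (ZMod q) V)).injective).1 key

end Cfsg.Agent.Helper6.Hup
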