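import Mathlib
import Cfsg.Agent.Helper5.HupDefs
import Cfsg.Agent.Helper1.Fitting
import Cfsg.Agent.Helper1.Fitting2
import Cfsg.Agent.Helper1.PGroup
import Cfsg.Agent.Helper1.HHD3Grp

set_option autoImplicit false
set_option linter.unusedVariables false

/-!
Helper6: S3360 (Huppert) piece D1 (`exists_D`): abstract group theory.
-/

open Cfsg.Agent.Helper5.Hup
open scoped commutatorElement

namespace Cfsg.Agent.Helper6.Hup

universe w

variable {G : Type w} [Group G]

/-- an element of order `r` lying in a subgroup of order prime to `r` does not exist -/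
theorem not_mem_of_coprime_orderOf [Finite G] {r : ℕ} (hr : r.Prime) {x : G} (hx : orderOf x = r)
    (F : Subgroup G) (hF : (Nat.card F).Coprime r) : x ∉ F := by
  intro hxF
  have h1 : orderOf (⟨x, hxF⟩ : F) = r := by
    rw [← hx]
    exact Subgroup.orderOf_mk x hxF
  have h2 : r ∣ Nat.card F := h1 ▸ orderOf_dvd_natCard _
  have h3 := Nat.Coprime.eq_one_of_dvd hF.symm h2
  exact hr.ne_one h3

/-- if `c` commutes with `x`, `x ^ r = 1`, `c * x` is conjugate to `x`, and `c` lies in an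
`s`-group with `s ≠ r`, then `c = 1` -/
theorem comm_eq_one_of_commute {r s : ℕ} (hr : r.Prime) (hs : s.Prime) (hsr : s ≠ r) {x d : G}
    (hx : x ^ r = 1) (D : Subgroup G) (hD : IsPGroup s D) (hc : ⁅d, x⁆ ∈ D)
    (hcomm : ⁅d, x⁆ * x = x * ⁅d, x⁆) : ⁅d, x⁆ = 1 := by
  set c := ⁅d, x⁆ with hcdef
  have h1 : c * x = d * x * d⁻¹ := by
    rw [hcdef, commutatorElement_def]; group
  have h2 : (c * x) ^ r = 1 := by
    rw [h1, conj_pow, hx]; group
  have h3 : (c * x) ^ r = c ^ r * x ^ r := (Commute.mul_pow hcomm r)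
  rw [h3, hx, mul_one] at h2
  -- c has s-power order and c^r = 1
  obtain ⟨k, hk⟩ := hD ⟨c, hc⟩
  have hk' : c ^ (s ^ k) = 1 := by
    have := congrArg Subtype.val hk
    simpa using this
  have hcop : Nat.Coprime (s ^ k) r := by
    apply Nat.Coprime.pow_left
    exact (Nat.coprime_primes hs hr).2 hsr
  have h4 : orderOf c ∣ Nat.gcd (s ^ k) r :=
    Nat.dvd_gcd (orderOf_dvd_of_pow_eq_one hk') (orderOf_dvd_of_pow_eq_one h2)
  rw [hcop] at h4
  exact orderOf_eq_one_iff.1 (Nat.dvd_one.1 h4)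

theorem exists_D [Finite G] (hsol : Group.IsSolvable G) {r q : ℕ} (hr : r.Prime) (hq : q.Prime)
    (x : G) (hx : orderOf x = r)
    (hOr : ∀ N : Subgroup G, N.Normal → IsPGroup r N → N = ⊥)
    (hOq : ∀ N : Subgroup G, N.Normal → IsPGroup q N → N = ⊥)
    (hC : ∀ B : Subgroup G, (∀ a ∈ B, ∀ b ∈ B, a * b = b * a) → (∀ b ∈ B, x * b * x⁻¹ ∈ B) →
      (Nat.card B).Coprime q → ∀ b ∈ B, x * b = b * x) :
    ∃ (s : ℕ) (D : Subgroup G), s.Prime ∧ s ≠ q ∧ s ≠ r ∧ D.Normal ∧ IsPGroup s D ∧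
      (∀ a ∈ D, ∀ b ∈ D, ⁅a, b⁆ ∈ zc D) ∧ (∀ a ∈ D, a ^ s ∈ zc D) ∧
      (∀ z ∈ zc D, x * z = z * x) ∧ (∃ d ∈ D, x * d ≠ d * x) := by
  classical
  have hrF : Fact r.Prime := ⟨hr⟩
  have hqF : Fact q.Prime := ⟨hq⟩
  have hxr : x ^ r = 1 := hx ▸ pow_orderOf_eq_one x
  -- Step 1: some `O_s(G)` is not centralized by `x`
  have hex : ∃ s : Nat.Primes, ∃ d ∈ Cfsg.pCore (s : ℕ) G, x * d ≠ d * x := by
    by_contra hcon
    push Not at hcon
    have hxC : x ∈ Subgroup.centralizer (Cfsg.fittingSubgroup G : Set G) := by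
      rw [Cfsg.Agent.Helper1.fittingSubgroup_eq_fitJoin, Cfsg.Agent.Helper1.fitJoin]
      have hle : (⨆ p : Nat.Primes, Cfsg.pCore (p : ℕ) G) ≤ Subgroup.centralizer {x} := by
        apply iSup_le
        intro p d hd
        rw [Subgroup.mem_centralizer_singleton_iff]
        exact (hcon p d hd).symm
      rw [Subgroup.mem_centralizer_iff]
      intro d hd
      have := hle hd
      rw [Subgroup.mem_centralizer_singleton_iff] at this
      exact this
    have hxF : x ∈ Cfsg.fittingSubgroup G :=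
      Cfsg.Agent.Helper1.centralizer_fittingSubgroup_le hxC
    have hOr' : Cfsg.pCore r G = ⊥ :=
      hOr _ inferInstance (Cfsg.Agent.Helper1.pCore_isPGroup r)
    have hFeq : Cfsg.fittingSubgroup G =
        (⨆ (p : Nat.Primes) (_ : p ≠ ⟨r, hr⟩), Cfsg.pCore (p : ℕ) G : Subgroup G) := by
      rw [Cfsg.Agent.Helper1.fittingSubgroup_eq_fitJoin, Cfsg.Agent.Helper1.fitJoin]
      have h1 := iSup_split_single (fun p : Nat.Primes => Cfsg.pCore (p : ℕ) G)
        (⟨r, hr⟩ : Nat.Primes)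
      rw [h1]
      show Cfsg.pCore r G ⊔ _ = _
      rw [hOr', bot_sup_eq]
    have hcop := Cfsg.Agent.Helper1.card_iSup_pCore_ne_coprime (G := G) ⟨r, hr⟩
    rw [← hFeq] at hcop
    exact not_mem_of_coprime_orderOf hr hx _ hcop hxF
  obtain ⟨⟨s, hs⟩, d₀, hd₀S, hd₀⟩ := hex
  have hsF : Fact s.Prime := ⟨hs⟩
  simp only at hd₀S
  set S := Cfsg.pCore s G with hS
  have hSp : IsPGroup s S := Cfsg.Agent.Helper1.pCore_isPGroup s
  have hsr : s ≠ r := by
    rintro rfl
    have : S = ⊥ := hOr _ inferInstance hSp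
    rw [this, Subgroup.mem_bot] at hd₀S
    apply hd₀
    rw [hd₀S, mul_one, one_mul]
  have hsq : s ≠ q := by
    rintro rfl
    have : S = ⊥ := hOq _ inferInstance hSp
    rw [this, Subgroup.mem_bot] at hd₀S
    apply hd₀
    rw [hd₀S, mul_one, one_mul]
  -- Step 2: minimal D
  let 𝒟 : Set (Subgroup G) := {N | N.Normal ∧ N ≤ S ∧ ∃ d ∈ N, x * d ≠ d * x}
  have hS𝒟 : S ∈ 𝒟 := ⟨inferInstance, le_rfl, d₀, hd₀S, hd₀⟩
  obtain ⟨D, -, hDmin⟩ := (Set.toFinite 𝒟).exists_le_minimal hS𝒟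
  obtain ⟨hDn, hDS, hDne⟩ : D ∈ 𝒟 := hDmin.prop
  have hDp : IsPGroup s D := hSp.to_le hDS
  -- every proper normal subgroup of D is centralized by x
  have hprop : ∀ N : Subgroup G, N.Normal → N ≤ D → N ≠ D → ∀ z ∈ N, x * z = z * x := by
    intro N hNn hND hne z hz
    by_contra hcon
    have hmem : N ∈ 𝒟 := ⟨hNn, hND.trans hDS, z, hz, hcon⟩
    exact hne (le_antisymm hND (hDmin.2 hmem hND))
  -- the normal closure of x
  set X := Subgroup.normalClosure ({x} : Set G) with hX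
  have hXn : X.Normal := Subgroup.normalClosure_normal
  have hxX : x ∈ X := Subgroup.subset_normalClosure (Set.mem_singleton x)
  have hpropX : ∀ N : Subgroup G, N.Normal → N ≤ D → N ≠ D →
      X ≤ Subgroup.centralizer (N : Set G) := by
    intro N hNn hND hne
    haveI := hNn
    apply Subgroup.normalClosure_le_normal
    rw [Set.singleton_subset_iff, SetLike.mem_coe, Subgroup.mem_centralizer_iff]
    intro z hz
    exact (hprop N hNn hND hne z hz).symm
  have hcard_cop : (Nat.card D).Coprime q := by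
    obtain ⟨k, hk⟩ := IsPGroup.iff_card.1 hDp
    rw [hk]
    apply Nat.Coprime.pow_left
    exact (Nat.coprime_primes hs hq).2 hsq
  have hxD : ∀ b ∈ D, x * b * x⁻¹ ∈ D := fun b hb => hDn.conj_mem b hb x
  -- zc D ≠ D
  have hzc_ne : zc D ≠ D := by
    intro h
    have hab : ∀ a ∈ D, ∀ b ∈ D, a * b = b * a := by
      intro a ha b hb
      rw [← h] at ha hb
      exact zc_comm ha hb
    obtain ⟨d, hd, hdx⟩ := hDne
    exact hdx (hC D hab hxD hcard_cop d hd)
  haveI := hDn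
  have hzcx : ∀ z ∈ zc D, x * z = z * x :=
    hprop (zc D) inferInstance (zc_le D) hzc_ne
  -- the Frattini subgroup of D
  have hDnt : Nontrivial D := by
    obtain ⟨d, hd, hdx⟩ := hDne
    refine ⟨⟨⟨d, hd⟩, 1, ?_⟩⟩
    intro h
    have : d = 1 := congrArg Subtype.val h
    apply hdx
    rw [this, mul_one, one_mul]
  set Φ := (frattini ↥D).map D.subtype with hΦ
  have hΦn : Φ.Normal := ConjAct.normal_of_characteristic_of_normal
  have hΦD : Φ ≤ D := Subgroup.map_subtype_le _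
  have hΦne : Φ ≠ D := by
    intro h
    have h1 : frattini ↥D = ⊤ := by
      apply Subgroup.map_injective D.subtype_injective
      rw [← hΦ, h]
      rw [← MonoidHom.range_eq_map, Subgroup.range_subtype]
    exact Cfsg.Agent.Helper1.HHD3.frattini_ne_top' D h1
  have hXΦ : X ≤ Subgroup.centralizer (Φ : Set G) := hpropX Φ hΦn hΦD hΦne
  -- ⁅D, X⁆ = D
  have hDX : ⁅D, X⁆ = D := by
    by_contra hne
    have hn : (⁅D, X⁆ : Subgroup G).Normal := Subgroup.commutator_normal D X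
    have hle : ⁅D, X⁆ ≤ D := Subgroup.commutator_le_left D X
    have hcen := hprop ⁅D, X⁆ hn hle hne
    obtain ⟨d, hd, hdx⟩ := hDne
    have hcm : ⁅d, x⁆ ∈ ⁅D, X⁆ := Subgroup.commutator_mem_commutator hd hxX
    have h1 : ⁅d, x⁆ = 1 :=
      comm_eq_one_of_commute hr hs hsr hxr D hDp (hle hcm) (hcen _ hcm).symm
    apply hdx
    rw [commutatorElement_eq_one_iff_mul_comm] at h1
    exact h1.symm
  -- three subgroups
  have h3 : ⁅⁅D, X⁆, Φ⁆ = ⊥ := by
    apply Subgroup.commutator_commutator_eq_bot_of_rotate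
    · have : ⁅X, Φ⁆ = ⊥ := by
        rw [Subgroup.commutator_eq_bot_iff_le_centralizer]
        exact hXΦ
      rw [this]
      exact Subgroup.commutator_bot_left D
    · have h1 : ⁅Φ, D⁆ ≤ Φ := Subgroup.commutator_le_left Φ D
      have h2 : ⁅Φ, X⁆ = ⊥ := by
        rw [Subgroup.commutator_comm, Subgroup.commutator_eq_bot_iff_le_centralizer]
        exact hXΦ
      rw [eq_bot_iff, ← h2]
      exact Subgroup.commutator_mono h1 le_rfl
  rw [hDX] at h3
  have hΦzc : Φ ≤ zc D := by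
    intro z hz
    rw [mem_zc]
    refine ⟨hΦD hz, fun d hd => ?_⟩
    rw [Subgroup.commutator_eq_bot_iff_le_centralizer] at h3
    have := h3 hd
    rw [Subgroup.mem_centralizer_iff] at this
    exact (this z hz).symm
  refine ⟨s, D, hs, hsq, hsr, hDn, hDp, ?_, ?_, hzcx, hDne⟩
  · intro a ha b hb
    apply hΦzc
    have h1 : ⁅(⟨a, ha⟩ : D), ⟨b, hb⟩⁆ ∈ frattini ↥D := by
      apply Cfsg.Agent.Helper1.IsPGroup.commutator_le_frattini (hDp)
      rw [commutator_def]
      exact Subgroup.commutator_mem_commutator (Subgroup.mem_top _) (Subgroup.mem_top _)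
    have h2 : D.subtype ⁅(⟨a, ha⟩ : D), ⟨b, hb⟩⁆ ∈ Φ := Subgroup.mem_map_of_mem _ h1
    simpa [map_commutatorElement] using h2
  · intro a ha
    apply hΦzc
    have h1 : (⟨a, ha⟩ : D) ^ s ∈ frattini ↥D :=
      Cfsg.Agent.Helper1.IsPGroup.pow_mem_frattini hDp _
    have h2 : D.subtype ((⟨a, ha⟩ : D) ^ s) ∈ Φ := Subgroup.mem_map_of_mem _ h1
    simpa using h2

end Cfsg.Agent.Helper6.Hup
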