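import Mathlib
import Cfsg.Agent.Helper5.HupDefs
import Cfsg.Agent.Helper6.HupD1

set_option autoImplicit false
set_option linter.unusedVariables false

/-!
Helper6: S3360 (Huppert) piece D2 (`exists_D₁`): abstract group theory.
-/

open Cfsg.Agent.Helper5.Hup
open scoped commutatorElement

namespace Cfsg.Agent.Helper6.Hup

universe w

variable {G : Type w} [Group G]

/-- in a finite group, `x D x⁻¹ ⊆ D` implies `x⁻¹ D x ⊆ D` -/
theorem conj_inv_mem_of_conj_mem [Finite G] (x : G) (D : Subgroup G)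
    (hDx : ∀ d ∈ D, x * d * x⁻¹ ∈ D) : ∀ d ∈ D, x⁻¹ * d * x ∈ D := by
  -- x⁻¹ = x ^ k
  have hpow : ∀ k : ℕ, ∀ d ∈ D, x ^ k * d * (x ^ k)⁻¹ ∈ D := by
    intro k
    induction k with
    | zero => intro d hd; simpa using hd
    | succ k ih =>
      intro d hd
      have h1 := hDx _ (ih d hd)
      have e : x ^ (k + 1) * d * (x ^ (k + 1))⁻¹ = x * (x ^ k * d * (x ^ k)⁻¹) * x⁻¹ := by
        rw [pow_succ']; group
      rw [e]; exact h1
  intro d hd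
  have hfin : IsOfFinOrder x := isOfFinOrder_of_finite x
  have hpos : 0 < orderOf x := hfin.orderOf_pos
  have e : x⁻¹ = x ^ (orderOf x - 1) := by
    rw [inv_eq_iff_mul_eq_one, ← pow_succ', Nat.sub_add_cancel hpos, pow_orderOf_eq_one]
  have := hpow (orderOf x - 1) d hd
  rw [← e, inv_inv] at this
  exact this

/-- key word identity for class two: if `c` commutes with `x`, and `z = ⁅c, d⁆` commutes with `x`
and with `⁅d, x⁆`, then `c` commutes with `⁅d, x⁆` -/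
theorem comm_commutator_of_class_two {c d x : G} (hcx : x * c = c * x)
    (hzx : x * ⁅c, d⁆ = ⁅c, d⁆ * x) (hzw : ⁅d, x⁆ * ⁅c, d⁆ = ⁅c, d⁆ * ⁅d, x⁆) :
    c * ⁅d, x⁆ = ⁅d, x⁆ * c := by
  set z := ⁅c, d⁆ with hz
  have h1 : c * d = z * d * c := by rw [hz, commutatorElement_def]; group
  have h2 : c * d⁻¹ = d⁻¹ * z⁻¹ * c := by
    have : c * d⁻¹ * c⁻¹ = (z * d)⁻¹ := by
      have : z * d = c * d * c⁻¹ := by rw [h1]; group
      rw [this]; group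
    calc c * d⁻¹ = (c * d⁻¹ * c⁻¹) * c := by group
      _ = (z * d)⁻¹ * c := by rw [this]
      _ = d⁻¹ * z⁻¹ * c := by group
  have hcx' : c * x⁻¹ = x⁻¹ * c := by
    calc c * x⁻¹ = x⁻¹ * (x * c) * x⁻¹ := by group
      _ = x⁻¹ * (c * x) * x⁻¹ := by rw [hcx]
      _ = x⁻¹ * c := by group
  have hzx' : z⁻¹ * x⁻¹ = x⁻¹ * z⁻¹ := by
    have : (x * z)⁻¹ = (z * x)⁻¹ := by rw [hzx]
    simpa [mul_inv_rev] using this
  have hw : ⁅d, x⁆ = d * x * d⁻¹ * x⁻¹ := commutatorElement_def d x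
  calc c * ⁅d, x⁆ = (c * d) * x * d⁻¹ * x⁻¹ := by rw [hw]; group
    _ = z * d * c * x * d⁻¹ * x⁻¹ := by rw [h1]
    _ = z * d * (c * x) * d⁻¹ * x⁻¹ := by group
    _ = z * d * (x * c) * d⁻¹ * x⁻¹ := by rw [hcx]
    _ = z * d * x * (c * d⁻¹) * x⁻¹ := by group
    _ = z * d * x * (d⁻¹ * z⁻¹ * c) * x⁻¹ := by rw [h2]
    _ = z * d * x * d⁻¹ * z⁻¹ * (c * x⁻¹) := by group
    _ = z * d * x * d⁻¹ * z⁻¹ * (x⁻¹ * c) := by rw [hcx']
    _ = z * d * x * d⁻¹ * (z⁻¹ * x⁻¹) * c := by group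
    _ = z * d * x * d⁻¹ * (x⁻¹ * z⁻¹) * c := by rw [hzx']
    _ = z * (d * x * d⁻¹ * x⁻¹) * z⁻¹ * c := by group
    _ = z * ⁅d, x⁆ * z⁻¹ * c := by rw [hw]
    _ = (⁅d, x⁆ * z) * z⁻¹ * c := by rw [hzw]
    _ = ⁅d, x⁆ * c := by group

theorem exists_D₁ [Finite G] {r q s : ℕ} (hr : r.Prime) (hs : s.Prime) (hq : q.Prime)
    (hsq : s ≠ q) (hsr : s ≠ r) (x : G)
    (hx : orderOf x = r)
    (hC : ∀ B : Subgroup G, (∀ a ∈ B, ∀ b ∈ B, a * b = b * a) → (∀ b ∈ B, x * b * x⁻¹ ∈ B) →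
      (Nat.card B).Coprime q → ∀ b ∈ B, x * b = b * x)
    (D : Subgroup G) (hDx : ∀ d ∈ D, x * d * x⁻¹ ∈ D) (hD : IsPGroup s D)
    (hcl : ∀ a ∈ D, ∀ b ∈ D, ⁅a, b⁆ ∈ zc D) (hexp : ∀ a ∈ D, a ^ s ∈ zc D)
    (hZx : ∀ z ∈ zc D, x * z = z * x) (hne : ∃ d ∈ D, x * d ≠ d * x) :
    ∃ D₁ : Subgroup G, D₁ ≤ D ∧ (∀ d ∈ D₁, x * d * x⁻¹ ∈ D₁) ∧
      (∀ a ∈ D₁, ∀ b ∈ D₁, ⁅a, b⁆ ∈ zc D₁) ∧ (∀ a ∈ D₁, a ^ s ∈ zc D₁) ∧
      (∀ z ∈ zc D₁, x * z = z * x) ∧ (∀ d ∈ D₁, x * d = d * x → d ∈ zc D₁) ∧ zc D₁ ≠ D₁ := by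
  classical
  have hsF : Fact s.Prime := ⟨hs⟩
  have hxr : x ^ r = 1 := hx ▸ pow_orderOf_eq_one x
  let 𝒰 : Set (Subgroup G) :=
    {U | U ≤ D ∧ (∀ d ∈ U, x * d * x⁻¹ ∈ U) ∧ zc D ≤ U ∧ ∃ d ∈ U, x * d ≠ d * x}
  have hD𝒰 : D ∈ 𝒰 := ⟨le_rfl, hDx, zc_le D, hne⟩
  obtain ⟨D₁, -, hmin⟩ := (Set.toFinite 𝒰).exists_le_minimal hD𝒰
  obtain ⟨hD₁D, hD₁x, hzD₁, hD₁ne⟩ : D₁ ∈ 𝒰 := hmin.prop
  have hcop : ∀ B : Subgroup G, B ≤ D → (Nat.card B).Coprime q := by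
    intro B hB
    obtain ⟨k, hk⟩ := IsPGroup.iff_card.1 (hD.to_le hB)
    rw [hk]
    apply Nat.Coprime.pow_left
    exact (Nat.coprime_primes hs hq).2 hsq
  -- zc D ≤ zc D₁
  have hzz : zc D ≤ zc D₁ := by
    intro z hz
    rw [mem_zc]
    exact ⟨hzD₁ hz, fun d hd => (mem_zc.1 hz).2 d (hD₁D hd)⟩
  -- zc D₁ ≠ D₁
  have hzne : zc D₁ ≠ D₁ := by
    intro h
    have hab : ∀ a ∈ D₁, ∀ b ∈ D₁, a * b = b * a := by
      intro a ha b hb
      rw [← h] at ha hb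
      exact zc_comm ha hb
    obtain ⟨d, hd, hdx⟩ := hD₁ne
    exact hdx (hC D₁ hab hD₁x (hcop D₁ hD₁D) d hd)
  -- zc D₁ is x-invariant, hence centralized
  have hD₁x' := conj_inv_mem_of_conj_mem x D₁ hD₁x
  have hzcx : ∀ z ∈ zc D₁, x * z * x⁻¹ ∈ zc D₁ := by
    intro z hz
    apply zc_conj_mem _ hz
    intro d
    constructor
    · exact hD₁x d
    · intro hd
      have := hD₁x' _ hd
      simpa [mul_assoc] using this
  have hzcen : ∀ z ∈ zc D₁, x * z = z * x :=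
    hC (zc D₁) (fun a ha b hb => zc_comm ha hb) hzcx (hcop _ ((zc_le D₁).trans hD₁D))
  -- U := closure {⁅d, x⁆} ⊔ zc D equals D₁
  set U := Subgroup.closure {c : G | ∃ d ∈ D₁, c = ⁅d, x⁆} ⊔ zc D with hU
  have hcD₁ : ∀ d ∈ D₁, ⁅d, x⁆ ∈ D₁ := by
    intro d hd
    have : ⁅d, x⁆ = d * (x * d⁻¹ * x⁻¹) := by rw [commutatorElement_def]; group
    rw [this]
    exact D₁.mul_mem hd (hD₁x _ (D₁.inv_mem hd))
  have hUD₁ : U ≤ D₁ := by
    apply sup_le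
    · rw [Subgroup.closure_le]
      rintro c ⟨d, hd, rfl⟩
      exact hcD₁ d hd
    · exact hzD₁
  have hUx : ∀ u ∈ U, x * u * x⁻¹ ∈ U := by
    -- U is mapped into itself by conjugation by x
    have hmap : U.map (MulAut.conj x).toMonoidHom ≤ U := by
      rw [hU, Subgroup.map_sup]
      apply sup_le_sup
      · rw [MonoidHom.map_closure, Subgroup.closure_le]
        rintro _ ⟨c, ⟨d, hd, rfl⟩, rfl⟩
        apply Subgroup.subset_closure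
        refine ⟨x * d * x⁻¹, hD₁x d hd, ?_⟩
        simp only [MulEquiv.coe_toMonoidHom, MulAut.conj_apply]
        rw [commutatorElement_def, commutatorElement_def]; group
      · rintro _ ⟨z, hz, rfl⟩
        simp only [MulEquiv.coe_toMonoidHom, MulAut.conj_apply]
        have h1 := hZx z hz
        have : x * z * x⁻¹ = z := by rw [h1]; group
        rw [this]; exact hz
    intro u hu
    apply hmap
    exact ⟨u, hu, by simp [MulAut.conj_apply]⟩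
  have hUne : ∃ d ∈ U, x * d ≠ d * x := by
    by_contra hcon
    push Not at hcon
    obtain ⟨d, hd, hdx⟩ := hD₁ne
    have hcU : ⁅d, x⁆ ∈ U := by
      apply (le_sup_left : _ ≤ U)
      apply Subgroup.subset_closure
      exact ⟨d, hd, rfl⟩
    have h1 : ⁅d, x⁆ = 1 :=
      comm_eq_one_of_commute hr hs hsr hxr D hD (hD₁D (hcD₁ d hd)) (hcon _ hcU).symm
    apply hdx
    rw [commutatorElement_eq_one_iff_mul_comm] at h1
    exact h1.symm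
  have hU𝒰 : U ∈ 𝒰 := ⟨hUD₁.trans hD₁D, hUx, le_sup_right, hUne⟩
  have hUeq : U = D₁ := le_antisymm hUD₁ (hmin.2 hU𝒰 hUD₁)
  refine ⟨D₁, hD₁D, hD₁x, ?_, ?_, hzcen, ?_, hzne⟩
  · intro a ha b hb
    exact hzz (hcl a (hD₁D ha) b (hD₁D hb))
  · intro a ha
    exact hzz (hexp a (hD₁D ha))
  · intro c hc hcx
    rw [mem_zc]
    refine ⟨hc, ?_⟩
    -- c centralizes U = D₁
    have hcen : U ≤ Subgroup.centralizer {c} := by
      apply sup_le
      · rw [Subgroup.closure_le]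
        rintro _ ⟨d, hd, rfl⟩
        rw [SetLike.mem_coe, Subgroup.mem_centralizer_singleton_iff]
        have hz : ⁅c, d⁆ ∈ zc D := hcl c (hD₁D hc) d (hD₁D hd)
        have hw : ⁅d, x⁆ ∈ D := hD₁D (hcD₁ d hd)
        exact (comm_commutator_of_class_two hcx (hZx _ hz) ((mem_zc.1 hz).2 _ hw)).symm
      · intro z hz
        rw [Subgroup.mem_centralizer_singleton_iff]
        exact ((mem_zc.1 hz).2 c (hD₁D hc)).symm
    intro d hd
    rw [← hUeq] at hd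
    have := hcen hd
    rw [Subgroup.mem_centralizer_singleton_iff] at this
    exact this

end Cfsg.Agent.Helper6.Hup
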