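import Mathlib

set_option autoImplicit false
set_option linter.unusedVariables false

/-!
Helper6: ASCH-PRIME piece P9, field part: a proper subfield `F₀` of a finite field `F` is contained
in the fixed field `F₁` of an automorphism `σ` of prime order `r`, and `|F| = |F₁| ^ r`.
-/

namespace Cfsg.Agent.Helper6.Asch

theorem exists_prime_fixed_subfield {F : Type*} [Field F] [Fintype F] (F₀ : Subfield F)
    (h0 : F₀ ≠ ⊤) :
    ∃ (σ : F ≃+* F) (F₁ : Subfield F) (r : ℕ), r.Prime ∧ Fintype.card F = Nat.card F₁ ^ r ∧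
      (∀ x ∈ F₀, σ x = x) ∧ (∀ x, σ x = x → x ∈ F₁) := by
  classical
  haveI : Finite (F ≃ₐ[F₀] F) := inferInstance
  haveI : Fintype (F ≃ₐ[F₀] F) := Fintype.ofFinite _
  have hcard : Nat.card (F ≃ₐ[F₀] F) = Module.finrank F₀ F := IsGalois.card_aut_eq_finrank F₀ F
  -- the degree is not one
  have hne1 : Module.finrank F₀ F ≠ 1 := by
    intro h1
    have h2 := (Subalgebra.bot_eq_top_iff_finrank_eq_one (F := F₀) (E := F)).2 h1
    apply h0
    rw [eq_top_iff]
    intro x _
    have hx : x ∈ (⊤ : Subalgebra F₀ F) := Algebra.mem_top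
    rw [← h2] at hx
    obtain ⟨y, hy⟩ := Algebra.mem_bot.1 hx
    rw [← hy]
    exact y.2
  have hne1' : Fintype.card (F ≃ₐ[F₀] F) ≠ 1 := by
    rw [← Nat.card_eq_fintype_card, hcard]
    exact hne1
  obtain ⟨r, hr, hrd⟩ := Nat.exists_prime_and_dvd hne1'
  haveI : Fact r.Prime := ⟨hr⟩
  obtain ⟨σ, hσ⟩ := exists_prime_orderOf_dvd_card r hrd
  set K₁ := IntermediateField.fixedField (Subgroup.zpowers σ) with hK₁
  have hfin : Module.finrank K₁ F = r := by
    rw [hK₁, IntermediateField.finrank_fixedField_eq_card, Nat.card_zpowers, hσ]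
  refine ⟨σ.toRingEquiv, K₁.toSubfield, r, hr, ?_, ?_, ?_⟩
  · haveI : Fintype K₁ := Fintype.ofFinite _
    have h1 := Module.card_eq_pow_finrank (K := K₁) (V := F)
    rw [hfin] at h1
    rw [h1]
    congr 1
    rw [← Nat.card_eq_fintype_card]
    rfl
  · intro x hx
    have := σ.commutes (⟨x, hx⟩ : F₀)
    exact this
  · intro x hx
    show x ∈ K₁
    rw [hK₁, IntermediateField.mem_fixedField_iff]
    intro f hf
    have hle : Subgroup.zpowers σ ≤ MulAction.stabilizer (F ≃ₐ[F₀] F) x := by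
      rw [Subgroup.zpowers_le, MulAction.mem_stabilizer_iff]
      exact hx
    have := hle hf
    rw [MulAction.mem_stabilizer_iff] at this
    exact this

end Cfsg.Agent.Helper6.Asch
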