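import Mathlib
import Cfsg.Prelude.Def_GeometricClasses
import Cfsg.Agent.Lead.AschBase
import Cfsg.Agent.Helper6.AschSubA

set_option autoImplicit false
set_option linter.unusedVariables false

/-!
Helper6: ASCH-PRIME piece P9 `subfield_case` (exact stub of notes/lead_asch_stubs.lean.txt).
Galois descent instead of Burnside: for `h` normalizing the absolutely irreducible group `P`,
realised over `F₀ ≤ F₁ = Fix(σ)`, the matrix `h'⁻¹ σ(h')` (with `h' = B h B⁻¹`) commutes with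
`B P B⁻¹`, hence is a scalar, and a scalar multiple of `h'` is fixed by `σ`.
-/

namespace Cfsg.Agent.Helper6.Asch

open Cfsg Cfsg.Geo Cfsg.Agent.Lead.Asch
open scoped MatrixGroups Matrix

variable {n : ℕ} {F : Type*} [Field F]

/-- an invertible matrix all of whose entries lie in the subfield `F₁` comes from `GL_n(F₁)` -/
theorem mem_range_map_of_entries (F₁ : Subfield F) (g : GL (Fin n) F)
    (hg : ∀ i j, (g : Matrix (Fin n) (Fin n) F) i j ∈ F₁) :
    g ∈ (Matrix.GeneralLinearGroup.map (F₁.subtype : F₁ →+* F)).range := by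
  let M₁ : Matrix (Fin n) (Fin n) F₁ := fun i j => ⟨(g : Matrix (Fin n) (Fin n) F) i j, hg i j⟩
  have hmap : (F₁.subtype : F₁ →+* F).mapMatrix M₁ = (g : Matrix (Fin n) (Fin n) F) := by
    ext i j
    rfl
  have hdet : M₁.det ≠ 0 := by
    intro h
    have h1 := RingHom.map_det (F₁.subtype : F₁ →+* F) M₁
    rw [hmap, h, map_zero] at h1
    have h2 : IsUnit (g : Matrix (Fin n) (Fin n) F).det := by
      rw [← Matrix.isUnit_iff_isUnit_det]
      exact g.isUnit
    rw [← h1] at h2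
    exact not_isUnit_zero h2
  refine ⟨Matrix.GeneralLinearGroup.mkOfDetNeZero M₁ hdet, ?_⟩
  apply Units.ext
  ext i j
  rw [Matrix.GeneralLinearGroup.map_apply]
  rfl

/-- a unit of `F`, as a scalar matrix in `GL` -/
theorem smul_one_mem_scalars (c : Fˣ) (g : GL (Fin n) F)
    (hg : (g : Matrix (Fin n) (Fin n) F) = (c : F) • (1 : Matrix (Fin n) (Fin n) F)) :
    g ∈ scalars (Fin n) F :=
  (mem_scalars_iff g).2 ⟨c, hg⟩

theorem subfield_case [Fintype F] (hn : 2 ≤ n) {H P : Subgroup (GL (Fin n) F)} (hnz : Nzes H P)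
    (hP : ActsAbsolutelyIrreducibly (matrixSet P)) (F₀ : Subfield F) (h0 : F₀ ≠ ⊤)
    (hr : RealisableOver F₀ (matrixSet P)) :
    ∃ (F₁ : Subfield F) (r : ℕ) (Pm : GL (Fin n) F), r.Prime ∧ Fintype.card F = Nat.card F₁ ^ r ∧
      H ≤ subfieldSubgroup F₁ Pm := by
  classical
  obtain ⟨σ, F₁, r, hrp, hcard, hfix, hmem⟩ := exists_prime_fixed_subfield (F := F) F₀ h0
  obtain ⟨B, hB⟩ := hr
  refine ⟨F₁, r, B⁻¹, hrp, hcard, ?_⟩
  intro h hh
  set Φ : GL (Fin n) F →* GL (Fin n) F := Matrix.GeneralLinearGroup.map (σ : F →+* F) with hΦ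
  -- conjugates of elements of P are fixed by Φ
  have hPfix : ∀ x ∈ P, Φ (B * x * B⁻¹) = B * x * B⁻¹ := by
    intro x hx
    apply Units.ext
    ext i j
    rw [hΦ, Matrix.GeneralLinearGroup.map_apply]
    have := hB _ (coe_mem_matrixSet hx) i j
    have e : ((B * x * B⁻¹ : GL (Fin n) F) : Matrix (Fin n) (Fin n) F) =
        (B : Matrix (Fin n) (Fin n) F) * (x : Matrix (Fin n) (Fin n) F) *
          ((B⁻¹ : GL (Fin n) F) : Matrix (Fin n) (Fin n) F) := by
      simp [Units.val_mul]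
    rw [e]
    exact hfix _ this
  set h' := B * h * B⁻¹ with hh'
  -- u := h'⁻¹ * Φ h' commutes with B P B⁻¹
  set u := h'⁻¹ * Φ h' with hu
  have hucomm : ∀ x ∈ P, u * (B * x * B⁻¹) = (B * x * B⁻¹) * u := by
    intro x hx
    have h1 : h' * (B * x * B⁻¹) * h'⁻¹ = B * (h * x * h⁻¹) * B⁻¹ := by
      rw [hh']; group
    have h2 : Φ (h' * (B * x * B⁻¹) * h'⁻¹) = h' * (B * x * B⁻¹) * h'⁻¹ := by
      rw [h1]
      exact hPfix _ (hnz h hh x hx)
    rw [map_mul, map_mul, hPfix x hx, map_inv] at h2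
    -- Φ h' * y * (Φ h')⁻¹ = h' * y * h'⁻¹
    rw [hu]
    calc h'⁻¹ * Φ h' * (B * x * B⁻¹)
        = h'⁻¹ * (Φ h' * (B * x * B⁻¹) * (Φ h')⁻¹) * Φ h' := by group
      _ = h'⁻¹ * (h' * (B * x * B⁻¹) * h'⁻¹) * Φ h' := by rw [h2]
      _ = B * x * B⁻¹ * (h'⁻¹ * Φ h') := by group
  -- hence B⁻¹ u B commutes with P and is a scalar
  obtain ⟨c, hc⟩ := hP.2 ((B⁻¹ * u * B : GL (Fin n) F) : Matrix (Fin n) (Fin n) F) (by
    intro s hs
    obtain ⟨x, hx, rfl⟩ := mem_matrixSet_iff.1 hs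
    rw [← Units.val_mul, ← Units.val_mul]
    congr 1
    have := hucomm x hx
    calc B⁻¹ * u * B * x = B⁻¹ * (u * (B * x * B⁻¹)) * B := by group
      _ = B⁻¹ * ((B * x * B⁻¹) * u) * B := by rw [this]
      _ = x * (B⁻¹ * u * B) := by group)
  have hc0 : c ≠ 0 := by
    rintro rfl
    rw [zero_smul] at hc
    have h1 : IsUnit ((B⁻¹ * u * B : GL (Fin n) F) : Matrix (Fin n) (Fin n) F) := Units.isUnit _
    rw [hc] at h1
    haveI : Nonempty (Fin n) := ⟨⟨0, by omega⟩⟩
    exact not_isUnit_zero h1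
  -- u itself is the scalar c
  have hu_eq : (u : Matrix (Fin n) (Fin n) F) = c • (1 : Matrix (Fin n) (Fin n) F) := by
    have e : u = B * (B⁻¹ * u * B) * B⁻¹ := by group
    rw [e, Units.val_mul, Units.val_mul, hc]
    rw [Matrix.mul_smul, Matrix.mul_one, Matrix.smul_mul, ← Units.val_mul, mul_inv_cancel,
      Units.val_one]
  -- Φ h' = c • h'
  have hΦh : ∀ i j, σ ((h' : Matrix (Fin n) (Fin n) F) i j) =
      c * (h' : Matrix (Fin n) (Fin n) F) i j := by
    intro i j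
    have e : Φ h' = h' * u := by rw [hu]; group
    have e2 : ((Φ h' : GL (Fin n) F) : Matrix (Fin n) (Fin n) F) i j =
        σ ((h' : Matrix (Fin n) (Fin n) F) i j) := by
      rw [hΦ, Matrix.GeneralLinearGroup.map_apply]
      rfl
    rw [← e2, e, Units.val_mul, hu_eq, Matrix.mul_smul, Matrix.mul_one, Matrix.smul_apply,
      smul_eq_mul]
  -- a nonzero entry of h'
  obtain ⟨k, i, ha⟩ : ∃ k i, (h' : Matrix (Fin n) (Fin n) F) k i ≠ 0 := by
    by_contra hcon
    push Not at hcon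
    have : (h' : Matrix (Fin n) (Fin n) F) = 0 := by
      ext k i
      exact hcon k i
    have h1 : IsUnit (h' : Matrix (Fin n) (Fin n) F) := Units.isUnit _
    rw [this] at h1
    haveI : Nonempty (Fin n) := ⟨⟨0, by omega⟩⟩
    exact not_isUnit_zero h1
  set a := (h' : Matrix (Fin n) (Fin n) F) k i with hadef
  -- the scalar matrix a • 1 as an element of GL
  let au : Fˣ := Units.mk0 a ha
  let z : GL (Fin n) F := Units.map (Matrix.scalar (Fin n) : F →+* Matrix (Fin n) (Fin n) F).toMonoidHom au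
  have hz : (z : Matrix (Fin n) (Fin n) F) = a • (1 : Matrix (Fin n) (Fin n) F) := by
    simp [z, au, Matrix.smul_one_eq_diagonal]
  have hzs : z ∈ scalars (Fin n) F := smul_one_mem_scalars au z hz
  -- g := h' * z⁻¹ has σ-fixed entries
  set g := h' * z⁻¹ with hg
  have hzinv : ((z⁻¹ : GL (Fin n) F) : Matrix (Fin n) (Fin n) F) =
      a⁻¹ • (1 : Matrix (Fin n) (Fin n) F) := by
    have h1 : (z : Matrix (Fin n) (Fin n) F) * (a⁻¹ • (1 : Matrix (Fin n) (Fin n) F)) = 1 := by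
      rw [hz, Matrix.smul_mul, Matrix.one_mul, smul_smul, mul_inv_cancel₀ ha, one_smul]
    have h2 : ((z⁻¹ : GL (Fin n) F) : Matrix (Fin n) (Fin n) F) =
        ((z⁻¹ : GL (Fin n) F) : Matrix (Fin n) (Fin n) F) *
          ((z : Matrix (Fin n) (Fin n) F) * (a⁻¹ • (1 : Matrix (Fin n) (Fin n) F))) := by
      rw [h1, Matrix.mul_one]
    rw [h2, ← Matrix.mul_assoc, ← Units.val_mul, inv_mul_cancel, Units.val_one, Matrix.one_mul]
  have hgent : ∀ k' i', (g : Matrix (Fin n) (Fin n) F) k' i' =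
      (h' : Matrix (Fin n) (Fin n) F) k' i' * a⁻¹ := by
    intro k' i'
    rw [hg, Units.val_mul, hzinv, Matrix.mul_smul, Matrix.mul_one, Matrix.smul_apply, smul_eq_mul,
      mul_comm]
  have hgfix : ∀ k' i', (g : Matrix (Fin n) (Fin n) F) k' i' ∈ F₁ := by
    intro k' i'
    apply hmem
    rw [hgent, map_mul, map_inv₀, hΦh k' i', hΦh k i, ← hadef]
    field_simp
  have hgr : g ∈ (Matrix.GeneralLinearGroup.map (F₁.subtype : F₁ →+* F)).range :=
    mem_range_map_of_entries F₁ g hgfix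
  -- conclusion
  unfold subfieldSubgroup
  rw [Subgroup.mem_map]
  refine ⟨h', ?_, ?_⟩
  · have e : h' = g * z := by rw [hg]; group
    rw [e]
    exact Subgroup.mul_mem_sup hgr hzs
  · rw [hh']
    simp only [MulEquiv.coe_toMonoidHom, MulAut.conj_apply]
    group

end Cfsg.Agent.Helper6.Asch
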