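import Mathlib
import Cfsg.Prelude.Def_GeometricClasses
import Cfsg.Agent.Lead.AschBase

set_option autoImplicit false

namespace Cfsg.Agent.Helper6.AschComp

open Cfsg Cfsg.Geo Cfsg.Agent.Lead.Asch
open scoped MatrixGroups Matrix

variable {n : ℕ} {F : Type*} [Field F]

/-- the `F`-span of (the matrices of) a subgroup, as a subalgebra of the matrix algebra -/
def spanAlg (N : Subgroup (GL (Fin n) F)) : Subalgebra F (Matrix (Fin n) (Fin n) F) :=
  Algebra.adjoin F (matrixSet N)

theorem spanAlg_toSubmodule (N : Subgroup (GL (Fin n) F)) :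
    Subalgebra.toSubmodule (spanAlg N) = Submodule.span F (matrixSet N) := by
  unfold spanAlg
  rw [Algebra.adjoin_eq_span]
  congr 1
  apply le_antisymm
  · intro m hm
    induction hm using Submonoid.closure_induction with
    | mem x hx => exact hx
    | one => exact ⟨1, N.one_mem, rfl⟩
    | mul x y _ _ hx hy =>
      obtain ⟨a, ha, rfl⟩ := hx
      obtain ⟨b, hb, rfl⟩ := hy
      exact ⟨a * b, N.mul_mem ha hb, by simp⟩
  · exact Submonoid.subset_closure

/-- the subalgebra of `End_F(V)` generated by a set of matrices -/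
def endAlg (S : Set (Matrix (Fin n) (Fin n) F)) : Subalgebra F (Module.End F (Fin n → F)) :=
  Algebra.adjoin F ((fun s => Matrix.toLin' s) '' S)

theorem toLin'_mem_endAlg {S : Set (Matrix (Fin n) (Fin n) F)} {s : Matrix (Fin n) (Fin n) F} (hs : s ∈ S) :
    Matrix.toLin' s ∈ endAlg S :=
  Algebra.subset_adjoin ⟨s, hs, rfl⟩

/-- a subspace invariant under `S` is invariant under the algebra generated by `S` -/
theorem endAlg_map_le {S : Set (Matrix (Fin n) (Fin n) F)} {W : Submodule F (Fin n → F)}
    (hW : ∀ s ∈ S, W.map (Matrix.toLin' s) ≤ W) {a : Module.End F (Fin n → F)} (ha : a ∈ endAlg S) :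
    W.map a ≤ W := by
  unfold endAlg at ha
  induction ha using Algebra.adjoin_induction with
  | mem x hx =>
    obtain ⟨s, hs, rfl⟩ := hx
    exact hW s hs
  | algebraMap c =>
    rintro _ ⟨v, hv, rfl⟩
    rw [Module.algebraMap_end_apply]
    exact W.smul_mem c hv
  | add x y _ _ hx hy =>
    rintro _ ⟨v, hv, rfl⟩
    rw [LinearMap.add_apply]
    exact W.add_mem (hx (Submodule.mem_map_of_mem hv)) (hy (Submodule.mem_map_of_mem hv))
  | mul x y _ _ hx hy =>
    rintro _ ⟨v, hv, rfl⟩
    rw [Module.End.mul_apply]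
    exact hx (Submodule.mem_map_of_mem (hy (Submodule.mem_map_of_mem hv)))

theorem isSimpleModule_endAlg (hn : 0 < n) {S : Set (Matrix (Fin n) (Fin n) F)} (hS : ActsIrreducibly S) :
    IsSimpleModule (endAlg S) (Fin n → F) := by
  have : Nonempty (Fin n) := ⟨⟨0, hn⟩⟩
  have : Nontrivial (Fin n → F) := inferInstance
  rw [isSimpleModule_iff]
  refine { exists_pair_ne := ⟨⊥, ⊤, bot_ne_top⟩, eq_bot_or_eq_top := ?_ }
  intro U
  have hinv : ∀ s ∈ S, (U.restrictScalars F).map (Matrix.toLin' s) ≤ U.restrictScalars F := by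
    intro s hs
    rintro _ ⟨v, hv, rfl⟩
    have : (⟨Matrix.toLin' s, toLin'_mem_endAlg hs⟩ : endAlg S) • v ∈ U := U.smul_mem _ hv
    exact this
  rcases hS (U.restrictScalars F) hinv with h | h
  · left
    rw [eq_bot_iff]
    intro v hv
    have : v ∈ U.restrictScalars F := hv
    rw [h] at this
    exact this
  · right
    rw [eq_top_iff]
    intro v _
    have : v ∈ U.restrictScalars F := by rw [h]; trivial
    exact this


/-- an `endAlg S`-endomorphism of `V` is (the map of) a matrix commuting with `S` -/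
theorem end_endAlg_comm {S : Set (Matrix (Fin n) (Fin n) F)}
    (φ : Module.End (endAlg S) (Fin n → F)) (s : Matrix (Fin n) (Fin n) F) (hs : s ∈ S) :
    LinearMap.toMatrix' (φ.restrictScalars F) * s = s * LinearMap.toMatrix' (φ.restrictScalars F) := by
  apply Matrix.toLin'.injective
  rw [Matrix.toLin'_mul, Matrix.toLin'_mul, Matrix.toLin'_toMatrix']
  apply LinearMap.ext
  intro v
  have := φ.map_smul (⟨Matrix.toLin' s, toLin'_mem_endAlg hs⟩ : endAlg S) v
  exact this

/-- **Burnside**: an absolutely irreducible set of matrices generates the full matrix algebra -/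
theorem endAlg_eq_top (hn : 0 < n) {S : Set (Matrix (Fin n) (Fin n) F)} (hS : ActsAbsolutelyIrreducibly S) :
    endAlg S = ⊤ := by
  classical
  have := isSimpleModule_endAlg hn hS.1
  rw [eq_top_iff]
  intro g _
  -- `g` commutes with the endomorphisms of the module
  have hsc : ∀ φ : Module.End (endAlg S) (Fin n → F), ∃ c : F, ∀ v, φ v = c • v := by
    intro φ
    obtain ⟨c, hc⟩ := hS.2 _ (fun s hs => end_endAlg_comm φ s hs)
    refine ⟨c, fun v => ?_⟩
    have h1 : φ.restrictScalars F = Matrix.toLin' (c • (1 : Matrix (Fin n) (Fin n) F)) := by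
      rw [← hc, Matrix.toLin'_toMatrix']
    have h2 := congrArg (fun f : (Fin n → F) →ₗ[F] (Fin n → F) => f v) h1
    simpa using h2
  let g' : Module.End (Module.End (endAlg S) (Fin n → F)) (Fin n → F) :=
    { toFun := g
      map_add' := g.map_add
      map_smul' := by
        intro φ v
        obtain ⟨c, hc⟩ := hsc φ
        simp only [Module.End.smul_def, RingHom.id_apply]
        rw [hc, hc, g.map_smul] }
  obtain ⟨r, hr⟩ := jacobson_density (R := endAlg S) (M := Fin n → F) g' (Finset.univ.image (fun i : Fin n => (Pi.single i 1 : Fin n → F)))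
  have hgr : g = (r : Module.End F (Fin n → F)) := by
    apply LinearMap.pi_ext'
    intro i
    apply LinearMap.ext
    intro c
    simp only [LinearMap.coe_comp, LinearMap.coe_single, Function.comp_apply]
    have h1 : (Pi.single i c : Fin n → F) = c • Pi.single i 1 := by
      rw [← Pi.single_smul, smul_eq_mul, mul_one]
    rw [h1, map_smul, map_smul]
    congr 1
    have := hr (Pi.single i 1) (Finset.mem_image_of_mem _ (Finset.mem_univ i))
    exact this
  rw [hgr]
  exact r.2

theorem span_matrixSet_eq_top {N : Subgroup (GL (Fin n) F)} (hN : ActsAbsolutelyIrreducibly (matrixSet N)) :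
    Submodule.span F (matrixSet N) = ⊤ := by
  rcases Nat.eq_zero_or_pos n with h0 | hn
  · subst h0
    rw [eq_top_iff]
    intro M _
    have : M = 0 := Subsingleton.elim _ _
    rw [this]
    exact Submodule.zero_mem _
  rw [← spanAlg_toSubmodule, eq_top_iff]
  intro M _
  have h1 : Matrix.toLin' M ∈ endAlg (matrixSet N) := by
    rw [endAlg_eq_top hn hN]; trivial
  have h2 : endAlg (matrixSet N) = (spanAlg N).map (Matrix.toLinAlgEquiv' : Matrix (Fin n) (Fin n) F ≃ₐ[F] _).toAlgHom := by
    unfold endAlg spanAlg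
    rw [AlgHom.map_adjoin]
    rfl
  rw [h2] at h1
  obtain ⟨M', hM', hMM'⟩ := h1
  have : M' = M := Matrix.toLin'.injective hMM'
  rw [← this]
  exact hM'

end Cfsg.Agent.Helper6.AschComp
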