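import Mathlib
import Cfsg.Prelude.Def_GeometricClasses
import Cfsg.Agent.Lead.AschBase
import Cfsg.Agent.Lead.AschSymA
import Cfsg.Agent.Helper6.AschCompBurnside

set_option autoImplicit false
set_option linter.unusedVariables false
set_option linter.style.haveILetI false

namespace Cfsg.Agent.Helper6.AschComp

open Cfsg Cfsg.Geo Cfsg.Agent.Lead.Asch
open scoped MatrixGroups Matrix commutatorElement

variable {n : ℕ} {F : Type*} [Field F]

/-- The running hypotheses of the symplectic-type case in arbitrary dimension. -/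
structure SymC (n : ℕ) (F : Type*) [Field F] (N : Subgroup (GL (Fin n) F)) : Prop where
  pos : 0 < n
  abs : ActsAbsolutelyIrreducibly (matrixSet N)
  comm : ⁅N, N⁆ ≤ scalars (Fin n) F

namespace SymC

variable {N : Subgroup (GL (Fin n) F)}

theorem neZero (h : SymC n F N) : NeZero n := ⟨h.pos.ne'⟩

theorem comm_mem (h : SymC n F N) {x y : GL (Fin n) F} (hx : x ∈ N) (hy : y ∈ N) :
    ⁅x, y⁆ ∈ scalars (Fin n) F :=
  h.comm (Subgroup.commutator_mem_commutator hx hy)

/-- An element of `GL` commuting with all of `N` is scalar. -/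
theorem scalar_of_central (h : SymC n F N) {g : GL (Fin n) F}
    (hg : ∀ y ∈ N, g * y = y * g) : g ∈ scalars (Fin n) F := by
  obtain ⟨c, hc⟩ := h.abs.2 (g : Matrix (Fin n) (Fin n) F) (by
    intro s hs
    obtain ⟨y, hy, rfl⟩ := mem_matrixSet_iff.1 hs
    rw [← Units.val_mul, ← Units.val_mul, hg y hy])
  have hc0 : c ≠ 0 := by
    rintro rfl
    have h1 : (g : Matrix (Fin n) (Fin n) F) = 0 := by rw [hc, zero_smul]
    have h2 := g.mul_inv
    rw [h1, zero_mul] at h2
    haveI := h.neZero
    haveI : Nonempty (Fin n) := ⟨0⟩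
    exact zero_ne_one h2
  exact (mem_scalars_iff g).2 ⟨Units.mk0 c hc0, hc⟩

/-- the commutator scalar -/
noncomputable def zeta (h : SymC n F N) (y x : N) : Fˣ :=
  Classical.choose (h.comm_mem y.2 x.2)

theorem zeta_spec (h : SymC n F N) (y x : N) :
    sc n F (h.zeta y x) = ⁅(y : GL (Fin n) F), (x : GL (Fin n) F)⁆ :=
  Classical.choose_spec (h.comm_mem y.2 x.2)

theorem conj_eq (h : SymC n F N) (y x : N) :
    (y : GL (Fin n) F) * x * (y : GL (Fin n) F)⁻¹ = sc n F (h.zeta y x) * x := by
  rw [h.zeta_spec, commutatorElement_def]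
  group

theorem conj_val (h : SymC n F N) (y x : N) :
    ((y : GL (Fin n) F) : Matrix (Fin n) (Fin n) F) * ((x : GL (Fin n) F) : Matrix (Fin n) (Fin n) F) *
      (((y : GL (Fin n) F)⁻¹ : GL (Fin n) F) : Matrix (Fin n) (Fin n) F) =
      ((h.zeta y x : Fˣ) : F) • ((x : GL (Fin n) F) : Matrix (Fin n) (Fin n) F) := by
  have := congrArg (fun g : GL (Fin n) F => (g : Matrix (Fin n) (Fin n) F)) (h.conj_eq y x)
  simp only [Units.val_mul, sc_val, Matrix.smul_mul, Matrix.one_mul] at this
  exact this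

end SymC


namespace SymC

variable {N : Subgroup (GL (Fin n) F)}

/-- the quotient of `N` by its scalars -/
abbrev Q (N : Subgroup (GL (Fin n) F)) : Type _ := N ⧸ (scalars (Fin n) F).subgroupOf N

/-- a system of representatives -/
noncomputable def rep (q : Q N) : N := Quotient.out q

theorem mk_rep (q : Q N) : (QuotientGroup.mk (rep q) : Q N) = q := Quotient.out_eq' q

/-- the matrices of the representatives -/
noncomputable def repMat (q : Q N) : Matrix (Fin n) (Fin n) F := ((rep q : N) : GL (Fin n) F)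

theorem repMat_ne_zero (h : SymC n F N) (q : Q N) : repMat q ≠ 0 := by
  intro h0
  have h2 := ((rep q : N) : GL (Fin n) F).mul_inv
  unfold repMat at h0
  rw [h0, zero_mul] at h2
  haveI := h.neZero
  haveI : Nonempty (Fin n) := ⟨0⟩
  exact zero_ne_one h2

/-- two different cosets are separated by a commutator scalar -/
theorem exists_zeta_ne (h : SymC n F N) {q a : Q N} (hqa : q ≠ a) :
    ∃ y : N, h.zeta y (rep q) ≠ h.zeta y (rep a) := by
  by_contra hcon
  push Not at hcon
  apply hqa
  rw [← mk_rep q, ← mk_rep a]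
  symm
  rw [QuotientGroup.eq]
  rw [Subgroup.mem_subgroupOf]
  apply h.scalar_of_central
  intro y hy
  have h1 := h.conj_eq ⟨y, hy⟩ (rep q)
  have h2 := h.conj_eq ⟨y, hy⟩ (rep a)
  rw [hcon ⟨y, hy⟩] at h1
  simp only at h1 h2
  have hsc := sc_comm (n := n) (h.zeta ⟨y, hy⟩ (rep a))
  -- y w y⁻¹ = w
  have key : y * (((rep a)⁻¹ * rep q : N) : GL (Fin n) F) * y⁻¹ = (((rep a)⁻¹ * rep q : N) : GL (Fin n) F) := by
    rw [Subgroup.coe_mul, Subgroup.coe_inv]
    have e : y * (((rep a : N) : GL (Fin n) F)⁻¹ * ((rep q : N) : GL (Fin n) F)) * y⁻¹ =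
        (y * ((rep a : N) : GL (Fin n) F) * y⁻¹)⁻¹ * (y * ((rep q : N) : GL (Fin n) F) * y⁻¹) := by group
    rw [e, h1, h2, mul_inv_rev, mul_assoc, ← mul_assoc _ (sc n F _) _, inv_mul_cancel, one_mul]
  have := congrArg (fun g => g * y) key
  simp only [inv_mul_cancel_right] at this
  exact this.symm

theorem linearIndependent_repMat (h : SymC n F N) : LinearIndependent F (repMat : Q N → _) := by
  classical
  rw [linearIndependent_iff']
  intro s
  induction s using Finset.induction_on with
  | empty => intro g _ i hi; exact absurd hi (Finset.notMem_empty i)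
  | insert a s has ih =>
    intro g hg
    have hs : ∀ q ∈ s, g q = 0 := by
      intro q hq
      have hqa : q ≠ a := fun e => has (e ▸ hq)
      obtain ⟨y, hy⟩ := h.exists_zeta_ne hqa
      -- conjugate the relation by `y`
      have hconj : ∑ i ∈ insert a s, (g i * ((h.zeta y (rep i) : Fˣ) : F)) • repMat i = 0 := by
        have h1 := congrArg (fun M : Matrix (Fin n) (Fin n) F =>
          ((y : GL (Fin n) F) : Matrix (Fin n) (Fin n) F) * M *
            (((y : GL (Fin n) F)⁻¹ : GL (Fin n) F) : Matrix (Fin n) (Fin n) F)) hg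
        simp only [Matrix.mul_zero, Matrix.zero_mul, Finset.mul_sum, Finset.sum_mul, Matrix.mul_smul,
          Matrix.smul_mul] at h1
        rw [← h1]
        apply Finset.sum_congr rfl
        intro i _
        unfold repMat
        rw [h.conj_val y (rep i), smul_smul]
      have hsub : ∑ i ∈ insert a s, (g i * (((h.zeta y (rep i) : Fˣ) : F) - ((h.zeta y (rep a) : Fˣ) : F))) •
          repMat i = 0 := by
        have h2 : ∑ i ∈ insert a s, (g i * (((h.zeta y (rep i) : Fˣ) : F) - ((h.zeta y (rep a) : Fˣ) : F))) •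
          repMat i = ∑ i ∈ insert a s, (g i * ((h.zeta y (rep i) : Fˣ) : F)) • repMat i -
            ((h.zeta y (rep a) : Fˣ) : F) • ∑ i ∈ insert a s, g i • repMat i := by
          rw [Finset.smul_sum, ← Finset.sum_sub_distrib]
          apply Finset.sum_congr rfl
          intro i _
          rw [smul_smul, ← sub_smul]
          congr 1
          ring
        rw [h2, hconj, hg, smul_zero, sub_zero]
      rw [Finset.sum_insert has, sub_self, mul_zero, zero_smul, zero_add] at hsub
      have h3 := ih _ hsub q hq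
      rcases mul_eq_zero.1 h3 with h4 | h4
      · exact h4
      · exfalso
        apply hy
        apply Units.ext
        exact sub_eq_zero.1 h4
    intro i hi
    rcases Finset.mem_insert.1 hi with rfl | hi
    · rw [Finset.sum_insert has] at hg
      have h5 : ∑ x ∈ s, g x • repMat x = 0 := by
        apply Finset.sum_eq_zero
        intro x hx
        rw [hs x hx, zero_smul]
      rw [h5, add_zero] at hg
      rcases smul_eq_zero.1 hg with h6 | h6
      · exact h6
      · exact absurd h6 (h.repMat_ne_zero i)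
    · exact hs i hi

end SymC


namespace SymC

variable {N : Subgroup (GL (Fin n) F)}

theorem span_repMat (h : SymC n F N) : Submodule.span F (Set.range (repMat : Q N → _)) = ⊤ := by
  rw [eq_top_iff, ← span_matrixSet_eq_top h.abs]
  apply Submodule.span_le.2
  rintro _ ⟨x, hx, rfl⟩
  set q : Q N := QuotientGroup.mk (⟨x, hx⟩ : N) with hq
  have hz : (rep q)⁻¹ * (⟨x, hx⟩ : N) ∈ (scalars (Fin n) F).subgroupOf N := by
    rw [← QuotientGroup.eq, mk_rep]
  rw [Subgroup.mem_subgroupOf] at hz
  obtain ⟨c, hc⟩ := (mem_scalars_iff _).1 hz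
  have hx' : (x : Matrix (Fin n) (Fin n) F) = (c : F) • repMat q := by
    have e : x = ((rep q : N) : GL (Fin n) F) * (((rep q)⁻¹ * (⟨x, hx⟩ : N) : N) : GL (Fin n) F) := by
      rw [Subgroup.coe_mul, Subgroup.coe_inv]
      simp
    have := congrArg (fun g : GL (Fin n) F => (g : Matrix (Fin n) (Fin n) F)) e
    simp only [Units.val_mul] at this
    rw [this, hc, Matrix.mul_smul, Matrix.mul_one]
    rfl
  show (x : Matrix (Fin n) (Fin n) F) ∈ _
  rw [hx']
  exact Submodule.smul_mem _ _ (Submodule.subset_span ⟨q, rfl⟩)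

theorem card_Q [Fintype F] (h : SymC n F N) : Nat.card (Q N) = n * n := by
  classical
  let b : Module.Basis (Q N) F (Matrix (Fin n) (Fin n) F) :=
    Module.Basis.mk h.linearIndependent_repMat (by rw [h.span_repMat])
  have h1 := Module.finrank_eq_nat_card_basis b
  rw [← h1, Module.finrank_matrix]
  simp

end SymC


namespace SymC

variable {N : Subgroup (GL (Fin n) F)}

/-- the preimage in `N` of the `r`-primary part of the abelian group `N / (N ∩ Z)` -/
def primPart (h : SymC n F N) (r : ℕ) : Subgroup (GL (Fin n) F) where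
  carrier := {x | x ∈ N ∧ ∃ k : ℕ, x ^ (r ^ k) ∈ scalars (Fin n) F}
  one_mem' := ⟨N.one_mem, 0, by simp [Subgroup.one_mem]⟩
  mul_mem' := by
    rintro a b ⟨ha, ka, hka⟩ ⟨hb, kb, hkb⟩
    refine ⟨N.mul_mem ha hb, ka + kb, ?_⟩
    have hc : ⁅b, a⁆ ∈ scalars (Fin n) F := h.comm_mem hb ha
    rw [mul_pow_of_comm (commute_of_mem_scalars hc a) (commute_of_mem_scalars hc b)
      (by simp [commutatorElement_def]) (r ^ (ka + kb))]
    refine mul_mem (mul_mem ?_ ?_) (pow_mem hc _)
    · rw [pow_add, pow_mul]; exact pow_mem hka _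
    · rw [pow_add, mul_comm, pow_mul]; exact pow_mem hkb _
  inv_mem' := by
    rintro a ⟨ha, k, hk⟩
    exact ⟨N.inv_mem ha, k, by rw [inv_pow]; exact inv_mem hk⟩

theorem mem_primPart (h : SymC n F N) {r : ℕ} {x : GL (Fin n) F} :
    x ∈ h.primPart r ↔ x ∈ N ∧ ∃ k : ℕ, x ^ (r ^ k) ∈ scalars (Fin n) F := Iff.rfl

theorem primPart_le (h : SymC n F N) (r : ℕ) : h.primPart r ≤ N := fun _ hx => hx.1

theorem primPart_nzes (h : SymC n F N) {H : Subgroup (GL (Fin n) F)} (hnz : Nzes H N) (r : ℕ) :
    Nzes H (h.primPart r) := by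
  rintro g hg x ⟨hx, k, hk⟩
  refine ⟨hnz g hg x hx, k, ?_⟩
  rw [conj_pow]
  exact (scalars_normal (ι := Fin n) (F := F)).conj_mem _ hk g

end SymC

/-- **K3**: a minimal non-scalar normalized absolutely irreducible subgroup with scalar commutator subgroup
exists only in prime power dimension. -/
theorem symplectic_type_prime_pow [Fintype F] (hn : 2 ≤ n) {H N : Subgroup (GL (Fin n) F)}
    (hNH : N ≤ H) (hnz : Nzes H N) (hns : ¬ N ≤ scalars (Fin n) F)
    (hNabs : ActsAbsolutelyIrreducibly (matrixSet N))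
    (hmin : ∀ M : Subgroup (GL (Fin n) F), M ≤ N → Nzes H M → ¬ M ≤ scalars (Fin n) F → M = N)
    (hcomm : ⁅N, N⁆ ≤ scalars (Fin n) F) : ∃ r k : ℕ, r.Prime ∧ n = r ^ k := by
  classical
  have h : SymC n F N := ⟨by omega, hNabs, hcomm⟩
  have hcard := h.card_Q
  set r := n.minFac with hr
  have hrp : r.Prime := Nat.minFac_prime (by omega)
  haveI : Fact r.Prime := ⟨hrp⟩
  have hrn : r ∣ n := Nat.minFac_dvd n
  have hrQ : r ∣ Nat.card (SymC.Q N) := by
    rw [hcard]; exact Dvd.dvd.mul_right hrn n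
  obtain ⟨q, hq⟩ := exists_prime_orderOf_dvd_card' r hrQ
  -- the primary part is not scalar
  have hPns : ¬ h.primPart r ≤ scalars (Fin n) F := by
    intro hle
    have hx : ((SymC.rep q : N) : GL (Fin n) F) ∈ h.primPart r := by
      refine ⟨(SymC.rep q).2, 1, ?_⟩
      rw [pow_one]
      have h1 : (QuotientGroup.mk ((SymC.rep q) ^ r) : SymC.Q N) = 1 := by
        rw [QuotientGroup.mk_pow, SymC.mk_rep, ← hq, pow_orderOf_eq_one]
      rw [QuotientGroup.eq_one_iff, Subgroup.mem_subgroupOf] at h1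
      simpa using h1
    have h2 := hle hx
    have h3 : q = 1 := by
      rw [← SymC.mk_rep q, QuotientGroup.eq_one_iff, Subgroup.mem_subgroupOf]
      exact h2
    rw [h3, orderOf_one] at hq
    exact hrp.one_lt.ne hq
  have hPN : h.primPart r = N := hmin _ (h.primPart_le r) (h.primPart_nzes hnz r) hPns
  -- so the quotient is an `r`-group
  have hpg : IsPGroup r (SymC.Q N) := by
    intro q
    have hx : ((SymC.rep q : N) : GL (Fin n) F) ∈ h.primPart r := by
      rw [hPN]; exact (SymC.rep q).2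
    obtain ⟨-, k, hk⟩ := hx
    refine ⟨k, ?_⟩
    rw [← SymC.mk_rep q, ← QuotientGroup.mk_pow, QuotientGroup.eq_one_iff, Subgroup.mem_subgroupOf]
    simpa using hk
  obtain ⟨j, hj⟩ := IsPGroup.iff_card.1 hpg
  rw [hcard] at hj
  have hdvd : n ∣ r ^ j := ⟨n, hj.symm⟩
  obtain ⟨k, -, hk⟩ := (Nat.dvd_prime_pow hrp).1 hdvd
  exact ⟨r, k, hrp, hk⟩

end Cfsg.Agent.Helper6.AschComp
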