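import Mathlib
import Cfsg.Prelude.Def_GeometricClasses
import Cfsg.Agent.Lead.AschBase
import Cfsg.Agent.Lead.AschSymA
import Cfsg.Agent.Helper6.AschCompSym

/-!
# ASCH-GEN-Sp piece Sp-C6 (helper6), part A: linear algebra for the minus-type argument

* `exists_common_eigenvector`: commuting involutions in characteristic `≠ 2` have a common eigenvector in every
  non-zero invariant subspace;
* `le_finrank_span_of_card`: an abelian subgroup `A` of a group `N` of symplectic type spans a space of matrices of
  dimension at least `|A| / |Z(N)|`.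
-/

set_option autoImplicit false
set_option linter.unusedVariables false

namespace Cfsg.Agent.Helper6.AschGSp

open Cfsg Cfsg.Geo Cfsg.Agent.Lead.Asch Cfsg.Agent.Helper6.AschComp
open scoped MatrixGroups Matrix

variable {n : ℕ} {F : Type*} [Field F]

/-- commuting involutions in characteristic `≠ 2` have a common eigenvector in every non-zero invariant subspace -/
theorem exists_common_eigenvector (h2 : (2 : F) ≠ 0) (S : Finset (Matrix (Fin n) (Fin n) F)) :
    (∀ x ∈ S, ∀ y ∈ S, x * y = y * x) → (∀ x ∈ S, x * x = 1) →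
    ∀ W : Submodule F (Fin n → F), W ≠ ⊥ → (∀ x ∈ S, ∀ w ∈ W, x *ᵥ w ∈ W) →
    ∃ v ∈ W, v ≠ 0 ∧ ∀ x ∈ S, ∃ ε : F, x *ᵥ v = ε • v := by
  classical
  induction S using Finset.induction_on with
  | empty =>
    intro _ _ W hW _
    obtain ⟨v, hv, hv0⟩ := (Submodule.ne_bot_iff W).1 hW
    exact ⟨v, hv, hv0, fun x hx => absurd hx (Finset.notMem_empty x)⟩
  | insert x S hxS ih =>
    intro hcomm hinv W hW hWinv
    have hxx : x * x = 1 := hinv x (Finset.mem_insert_self x S)
    obtain ⟨w, hw, hw0⟩ := (Submodule.ne_bot_iff W).1 hW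
    -- the two eigenspaces of `x` inside `W`
    have key : ∀ ε : F, ε * ε = 1 → (w + ε • (x *ᵥ w)) ≠ 0 →
        ∃ v ∈ W, v ≠ 0 ∧ ∀ y ∈ insert x S, ∃ ε' : F, y *ᵥ v = ε' • v := by
      intro ε hε hne
      set W' : Submodule F (Fin n → F) :=
        { carrier := {v | v ∈ W ∧ x *ᵥ v = ε • v}
          add_mem' := by
            rintro a b ⟨ha, ha'⟩ ⟨hb, hb'⟩
            exact ⟨W.add_mem ha hb, by rw [Matrix.mulVec_add, ha', hb', smul_add]⟩
          zero_mem' := ⟨W.zero_mem, by rw [Matrix.mulVec_zero, smul_zero]⟩
          smul_mem' := by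
            rintro c a ⟨ha, ha'⟩
            exact ⟨W.smul_mem c ha, by rw [Matrix.mulVec_smul, ha', smul_comm]⟩ } with hW'
      have hmem : (w + ε • (x *ᵥ w)) ∈ W' := by
        refine ⟨W.add_mem hw (W.smul_mem _ (hWinv x (Finset.mem_insert_self x S) w hw)), ?_⟩
        rw [Matrix.mulVec_add, Matrix.mulVec_smul, Matrix.mulVec_mulVec, hxx, Matrix.one_mulVec, smul_add,
          smul_smul, hε, one_smul, add_comm]
      have hW'0 : W' ≠ ⊥ := by
        intro hbot
        rw [hbot, Submodule.mem_bot] at hmem
        exact hne hmem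
      obtain ⟨v, hv, hv0, hvS⟩ := ih (fun a ha b hb => hcomm a (Finset.mem_insert_of_mem ha) b (Finset.mem_insert_of_mem hb))
        (fun a ha => hinv a (Finset.mem_insert_of_mem ha)) W' hW'0 (by
          intro y hy v hv
          refine ⟨hWinv y (Finset.mem_insert_of_mem hy) v hv.1, ?_⟩
          rw [Matrix.mulVec_mulVec, hcomm x (Finset.mem_insert_self x S) y (Finset.mem_insert_of_mem hy),
            ← Matrix.mulVec_mulVec, hv.2, Matrix.mulVec_smul])
      refine ⟨v, hv.1, hv0, fun y hy => ?_⟩
      rcases Finset.mem_insert.1 hy with rfl | hy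
      · exact ⟨ε, hv.2⟩
      · exact hvS y hy
    by_cases hplus : w + (1 : F) • (x *ᵥ w) = 0
    · apply key (-1) (by ring)
      intro hminus
      apply hw0
      have h3 : (2 : F) • w = 0 := by
        have := congrArg₂ (· + ·) hplus hminus
        simp only [one_smul, neg_smul, add_zero] at this
        rw [two_smul]
        rw [← this]
        abel
      rcases smul_eq_zero.1 h3 with h | h
      · exact absurd h h2
      · exact h
    · exact key 1 (by ring) hplus

variable {N : Subgroup (GL (Fin n) F)}

/-- the matrix of an element of a subgroup of `N` -/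
def matA (A : Subgroup N) (x : A) : Matrix (Fin n) (Fin n) F := (((x : N) : GL (Fin n) F) : Matrix (Fin n) (Fin n) F)

/-- an element of `N` is a scalar multiple of the representative of its coset -/
theorem exists_smul_repMat (x : N) :
    ∃ c : Fˣ, ((x : GL (Fin n) F) : Matrix (Fin n) (Fin n) F) =
      (c : F) • SymC.repMat (QuotientGroup.mk x : SymC.Q N) := by
  have h1 : (QuotientGroup.mk (SymC.rep (QuotientGroup.mk x : SymC.Q N)) : SymC.Q N) = QuotientGroup.mk x :=
    SymC.mk_rep _
  rw [QuotientGroup.eq, Subgroup.mem_subgroupOf] at h1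
  obtain ⟨c, hc⟩ := h1
  refine ⟨c, ?_⟩
  have h2 : (x : GL (Fin n) F) = ((SymC.rep (QuotientGroup.mk x : SymC.Q N) : N) : GL (Fin n) F) * sc n F c := by
    have : sc n F c = ((SymC.rep (QuotientGroup.mk x : SymC.Q N) : N) : GL (Fin n) F)⁻¹ * (x : GL (Fin n) F) := by
      have hc' : sc n F c = (((SymC.rep (QuotientGroup.mk x : SymC.Q N))⁻¹ * x : N) : GL (Fin n) F) := hc
      rw [hc']
      simp
    rw [this]
    group
  have h3 := congrArg (fun g : GL (Fin n) F => (g : Matrix (Fin n) (Fin n) F)) h2
  simp only [Units.val_mul, sc_val, Matrix.mul_smul, Matrix.mul_one] at h3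
  rw [h3]
  rfl

/-- a subgroup `A` of `N` spans a space of matrices of dimension at least `|A| / |Z ∩ N|` -/
theorem card_le_finrank_span [Fintype F] (hS : SymC n F N) (A : Subgroup N) {z : ℕ}
    (hz : Nat.card ((scalars (Fin n) F).subgroupOf N) ≤ z) :
    Nat.card A ≤ z * Module.finrank F (Submodule.span F (Set.range (matA A))) := by
  classical
  haveI : Finite (GL (Fin n) F) := inferInstance
  set π : N →* SymC.Q N := QuotientGroup.mk' _ with hπ
  set φ : A →* SymC.Q N := π.comp A.subtype with hφ
  -- the kernel is small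
  have hker : Nat.card φ.ker ≤ z := by
    refine le_trans ?_ hz
    let g : φ.ker → (scalars (Fin n) F).subgroupOf N := fun x => ⟨((x : A) : N), by
      have := x.2
      rw [MonoidHom.mem_ker] at this
      exact (QuotientGroup.eq_one_iff _).1 this⟩
    apply Nat.card_le_card_of_injective g
    intro a b hab
    apply Subtype.ext
    apply Subtype.ext
    exact congrArg (fun w : (scalars (Fin n) F).subgroupOf N => (w : N)) hab
  have hcard : Nat.card φ.ker * Nat.card φ.range = Nat.card A := by
    rw [← Subgroup.index_ker, Subgroup.card_mul_index]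
  -- representatives
  have hsec : ∀ t : φ.range, ∃ x : A, φ x = t := fun t => t.2
  choose sec hsecφ using hsec
  have hli : LinearIndependent F (fun t : φ.range => matA A (sec t)) := by
    have h1 : LinearIndependent F (fun t : φ.range => SymC.repMat (t : SymC.Q N)) :=
      hS.linearIndependent_repMat.comp _ Subtype.val_injective
    have hc : ∀ t : φ.range, ∃ c : Fˣ, matA A (sec t) = (c : F) • SymC.repMat (t : SymC.Q N) := by
      intro t
      obtain ⟨c, hc⟩ := exists_smul_repMat ((sec t : A) : N)
      refine ⟨c, ?_⟩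
      have : (QuotientGroup.mk ((sec t : A) : N) : SymC.Q N) = t := hsecφ t
      rw [← this]
      exact hc
    choose w hw using hc
    have h2 := h1.units_smul w
    convert h2 using 1
    funext t
    rw [hw t]
    rfl
  have hle : Submodule.span F (Set.range (fun t : φ.range => matA A (sec t))) ≤
      Submodule.span F (Set.range (matA A)) := by
    apply Submodule.span_mono
    rintro _ ⟨t, rfl⟩
    exact ⟨sec t, rfl⟩
  have h3 : Nat.card φ.range ≤ Module.finrank F (Submodule.span F (Set.range (matA A))) := by
    haveI : Fintype φ.range := Fintype.ofFinite _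
    rw [Nat.card_eq_fintype_card, ← finrank_span_eq_card hli]
    exact Submodule.finrank_mono hle
  calc Nat.card A = Nat.card φ.ker * Nat.card φ.range := hcard.symm
    _ ≤ z * Module.finrank F (Submodule.span F (Set.range (matA A))) := Nat.mul_le_mul hker h3

end Cfsg.Agent.Helper6.AschGSp
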