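import Mathlib
import Cfsg.Prelude.Def_GeometricClasses
import Cfsg.Agent.Lead.AschBase
import Cfsg.Agent.Lead.AschSymA
import Cfsg.Agent.Helper6.AschCompSym
import Cfsg.Agent.Helper6.AschGSpMinusA

/-!
# ASCH-GEN-Sp piece Sp-C6 (helper6), part B: a symplectic-type 2-group fixing an alternating form is of minus type

`isOfMinusType_of_symplectic`: `N ≤ GL_n(F)` absolutely irreducible with scalar commutators, `n = 2 ^ a`, `2 ≠ 0`,
at most two scalars in `N`, fixing a non-degenerate alternating form: every elementary abelian 2-subgroup of `N` has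
order `< 2 ^ (a + 1)`.  (Otherwise it spans an `n`-dimensional algebra of self-adjoint matrices, diagonal in a
basis of common eigenvectors; the diagonal idempotents are self-adjoint, so the basis is orthogonal, and the form,
being alternating, vanishes.)
-/

set_option autoImplicit false
set_option linter.unusedVariables false

namespace Cfsg.Agent.Helper6.AschGSp

open Cfsg Cfsg.Geo Cfsg.Agent.Lead.Asch Cfsg.Agent.Helper6.AschComp
open scoped MatrixGroups Matrix

variable {n : ℕ} {F : Type*} [Field F] {N : Subgroup (GL (Fin n) F)}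

theorem isOfMinusType_of_symplectic [Fintype F] (hS : SymC n F N) (h2 : (2 : F) ≠ 0)
    {f : (Fin n → F) → (Fin n → F) → F} (hf : IsSymplecticForm f) (hfix : FixesForm (matrixSet N) f)
    {a : ℕ} (hn : n = 2 ^ a) (hz : Nat.card ((scalars (Fin n) F).subgroupOf N) ≤ 2) : IsOfMinusType a N := by
  classical
  intro A hAc hA2
  by_contra hge
  push Not at hge
  haveI : Finite (GL (Fin n) F) := inferInstance
  haveI : Fintype A := Fintype.ofFinite _
  have hn0 : 0 < n := hS.pos
  set 𝒜 : Submodule F (Matrix (Fin n) (Fin n) F) := Submodule.span F (Set.range (matA A)) with h𝒜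
  -- Step 1: `n ≤ finrank 𝒜`
  have hfr : n ≤ Module.finrank F 𝒜 := by
    have h1 : Nat.card A ≤ 2 * Module.finrank F 𝒜 := card_le_finrank_span hS A hz
    have h3 : 2 ^ (a + 1) = 2 * n := by rw [hn, pow_succ]; ring
    rw [h3] at hge
    omega
  -- Step 2: a common eigenvector
  have hxx : ∀ x : A, matA A x * matA A x = 1 := by
    intro x
    have h1 : (x : N) * (x : N) = 1 := hA2 x x.2
    have h3 : ((x : N) : GL (Fin n) F) * ((x : N) : GL (Fin n) F) = 1 := by
      have := congrArg (fun w : N => (w : GL (Fin n) F)) h1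
      simpa using this
    have := congrArg (fun g : GL (Fin n) F => (g : Matrix (Fin n) (Fin n) F)) h3
    simpa [matA] using this
  have hxy : ∀ x y : A, matA A x * matA A y = matA A y * matA A x := by
    intro x y
    have h1 : x * y = y * x := hAc.is_comm.comm x y
    have h3 : ((x : N) : GL (Fin n) F) * ((y : N) : GL (Fin n) F) =
        ((y : N) : GL (Fin n) F) * ((x : N) : GL (Fin n) F) := by
      have := congrArg (fun w : A => (((w : N) : GL (Fin n) F))) h1
      simpa using this
    have := congrArg (fun g : GL (Fin n) F => (g : Matrix (Fin n) (Fin n) F)) h3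
    simpa [matA] using this
  obtain ⟨v₀, -, hv₀, hv₀e⟩ := exists_common_eigenvector h2 (Finset.univ.image (matA A))
    (by
      intro x hx y hy
      obtain ⟨x', -, rfl⟩ := Finset.mem_image.1 hx
      obtain ⟨y', -, rfl⟩ := Finset.mem_image.1 hy
      exact hxy x' y')
    (by
      intro x hx
      obtain ⟨x', -, rfl⟩ := Finset.mem_image.1 hx
      exact hxx x')
    ⊤ (by
      intro h
      haveI : Nonempty (Fin n) := ⟨⟨0, hn0⟩⟩
      have : (Pi.single ⟨0, hn0⟩ 1 : Fin n → F) ∈ (⊤ : Submodule F (Fin n → F)) := Submodule.mem_top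
      rw [h, Submodule.mem_bot] at this
      have := congrFun this ⟨0, hn0⟩
      simp at this)
    (fun _ _ _ _ => Submodule.mem_top)
  -- common eigenvectors
  set IsEig : (Fin n → F) → Prop := fun v => ∀ x : A, ∃ ε : F, matA A x *ᵥ v = ε • v with hIsEig
  have heig0 : IsEig v₀ := fun x => hv₀e _ (Finset.mem_image_of_mem _ (Finset.mem_univ x))
  have heigN : ∀ g : N, IsEig (((g : GL (Fin n) F) : Matrix (Fin n) (Fin n) F) *ᵥ v₀) := by
    intro g x
    obtain ⟨ε, hε⟩ := heig0 x
    have hc := hS.conj_val (g⁻¹) (x : N)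
    set G : Matrix (Fin n) (Fin n) F := ((g : GL (Fin n) F) : Matrix (Fin n) (Fin n) F) with hG
    set Gi : Matrix (Fin n) (Fin n) F := (((g : GL (Fin n) F)⁻¹ : GL (Fin n) F) : Matrix (Fin n) (Fin n) F) with hGi
    have hGGi : G * Gi = 1 := by rw [hG, hGi, ← Units.val_mul, mul_inv_cancel, Units.val_one]
    have hc' : Gi * matA A x * G = ((hS.zeta g⁻¹ (x : N) : Fˣ) : F) • matA A x := by
      have e1 : (((g⁻¹ : N) : GL (Fin n) F) : Matrix (Fin n) (Fin n) F) = Gi := by
        rw [hGi, Subgroup.coe_inv]
      have e2 : (((((g⁻¹ : N) : GL (Fin n) F))⁻¹ : GL (Fin n) F) : Matrix (Fin n) (Fin n) F) = G := by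
        rw [hG, Subgroup.coe_inv, inv_inv]
      rw [e1, e2] at hc
      exact hc
    have hxg : matA A x * G = ((hS.zeta g⁻¹ (x : N) : Fˣ) : F) • (G * matA A x) := by
      calc matA A x * G = (G * Gi) * matA A x * G := by rw [hGGi, Matrix.one_mul]
        _ = G * (Gi * matA A x * G) := by simp only [Matrix.mul_assoc]
        _ = _ := by rw [hc', Matrix.mul_smul]
    refine ⟨((hS.zeta g⁻¹ (x : N) : Fˣ) : F) * ε, ?_⟩
    rw [Matrix.mulVec_mulVec, hxg, Matrix.smul_mulVec, ← Matrix.mulVec_mulVec, hε, Matrix.mulVec_smul, smul_smul]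
  -- Step 3: the orbit of `v₀` spans
  set W : Submodule F (Fin n → F) := Submodule.span F
    (Set.range (fun g : N => ((g : GL (Fin n) F) : Matrix (Fin n) (Fin n) F) *ᵥ v₀)) with hW
  have hWtop : W = ⊤ := by
    have hinv : ∀ s ∈ matrixSet N, W.map (Matrix.toLin' s) ≤ W := by
      intro s hs
      obtain ⟨h, hh, rfl⟩ := mem_matrixSet_iff.1 hs
      rw [hW, Submodule.map_span]
      apply Submodule.span_mono
      rintro _ ⟨_, ⟨g, rfl⟩, rfl⟩
      refine ⟨⟨h, hh⟩ * g, ?_⟩
      simp only [Subgroup.coe_mul, Units.val_mul, Matrix.toLin'_apply, Matrix.mulVec_mulVec]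
    rcases hS.abs.1 W hinv with h | h
    · exfalso
      apply hv₀
      have : v₀ ∈ W := Submodule.subset_span ⟨1, by simp⟩
      rw [h, Submodule.mem_bot] at this
      exact this
    · exact h
  -- Step 4: a basis of common eigenvectors
  obtain ⟨b, hbsub, hbspan, hbli⟩ := exists_linearIndependent F
    (Set.range (fun g : N => ((g : GL (Fin n) F) : Matrix (Fin n) (Fin n) F) *ᵥ v₀))
  have hbtop : ⊤ ≤ Submodule.span F (Set.range (Subtype.val : b → Fin n → F)) := by
    rw [Subtype.range_coe, hbspan, ← hW, hWtop]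
  set B : Module.Basis b F (Fin n → F) := Module.Basis.mk hbli hbtop with hB
  haveI : Finite b := Module.Finite.finite_basis B
  haveI : Fintype b := Fintype.ofFinite _
  have hBi : ∀ i : b, B i = (i : Fin n → F) := fun i => by rw [hB, Module.Basis.mk_apply]
  have hBeig : ∀ i : b, IsEig (B i) := by
    intro i
    rw [hBi]
    obtain ⟨g, hg⟩ := hbsub i.2
    rw [← hg]
    exact heigN g
  have hcardb : Fintype.card b = n := by
    have := Module.finrank_eq_card_basis B
    rw [Module.finrank_fin_fun] at this
    exact this.symm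
  -- elements of `𝒜` are diagonal in the basis
  have hdiag : ∀ M ∈ 𝒜, ∀ v, IsEig v → ∃ c : F, M *ᵥ v = c • v := by
    intro M hM v hv
    induction hM using Submodule.span_induction with
    | mem M hM =>
      obtain ⟨x, rfl⟩ := hM
      exact hv x
    | zero => exact ⟨0, by rw [Matrix.zero_mulVec, zero_smul]⟩
    | add M M' _ _ h1 h2 =>
      obtain ⟨c, hc⟩ := h1
      obtain ⟨c', hc'⟩ := h2
      exact ⟨c + c', by rw [Matrix.add_mulVec, hc, hc', add_smul]⟩
    | smul r M _ h1 =>
      obtain ⟨c, hc⟩ := h1
      exact ⟨r * c, by rw [Matrix.smul_mulVec, hc, smul_smul]⟩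
  -- elements of `𝒜` are self-adjoint
  have hadj : ∀ M ∈ 𝒜, ∀ u v, f (M *ᵥ u) v = f u (M *ᵥ v) := by
    intro M hM u v
    induction hM using Submodule.span_induction with
    | mem M hM =>
      obtain ⟨x, rfl⟩ := hM
      have hmem : matA A x ∈ matrixSet N := mem_matrixSet_iff.2 ⟨((x : N) : GL (Fin n) F), (x : N).2, rfl⟩
      have h1 := hfix _ hmem (matA A x *ᵥ u) v
      rw [Matrix.mulVec_mulVec, hxx, Matrix.one_mulVec] at h1
      exact h1.symm
    | zero =>
      rw [Matrix.zero_mulVec, Matrix.zero_mulVec]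
      have e1 := hf.bilinear.smul_left 0 0 v
      have e2 := hf.bilinear.smul_right 0 u 0
      rw [zero_smul, zero_mul] at e1 e2
      rw [e1, e2]
    | add M M' _ _ h1 h2 =>
      rw [Matrix.add_mulVec, Matrix.add_mulVec, hf.bilinear.add_left, hf.bilinear.add_right, h1, h2]
    | smul r M _ h1 =>
      rw [Matrix.smul_mulVec, Matrix.smul_mulVec, hf.bilinear.smul_left, hf.bilinear.smul_right, h1]
  -- Step 5: the diagonal idempotents lie in `𝒜`
  let Ψ : Matrix (Fin n) (Fin n) F →ₗ[F] (b → F) :=
    { toFun := fun M i => B.repr (M *ᵥ B i) i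
      map_add' := by
        intro M M'
        funext i
        simp [Matrix.add_mulVec]
      map_smul' := by
        intro r M
        funext i
        simp [Matrix.smul_mulVec] }
  have hΨinj : Function.Injective (Ψ.domRestrict 𝒜) := by
    rw [← LinearMap.ker_eq_bot, LinearMap.ker_eq_bot']
    intro M hM
    apply Subtype.ext
    show (M : Matrix (Fin n) (Fin n) F) = 0
    have hz' : ∀ i : b, (M : Matrix (Fin n) (Fin n) F) *ᵥ B i = 0 := by
      intro i
      obtain ⟨c, hc⟩ := hdiag M M.2 (B i) (hBeig i)
      have h1 : B.repr ((M : Matrix (Fin n) (Fin n) F) *ᵥ B i) i = 0 := by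
        have := congrFun hM i
        exact this
      rw [hc, map_smul, Module.Basis.repr_self, Finsupp.smul_apply, Finsupp.single_eq_same, smul_eq_mul,
        mul_one] at h1
      rw [hc, h1, zero_smul]
    have h3 : Matrix.toLin' (M : Matrix (Fin n) (Fin n) F) = 0 := by
      apply B.ext
      intro i
      rw [Matrix.toLin'_apply, hz' i]
      rfl
    have := congrArg LinearMap.toMatrix' h3
    simpa using this
  have hfr2 : Module.finrank F 𝒜 = Module.finrank F (b → F) := by
    have h1 := LinearMap.finrank_le_finrank_of_injective hΨinj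
    rw [Module.finrank_fintype_fun_eq_card, hcardb] at h1 ⊢
    omega
  have hΨsurj : Function.Surjective (Ψ.domRestrict 𝒜) :=
    (LinearMap.injective_iff_surjective_of_finrank_eq_finrank hfr2).1 hΨinj
  -- Step 6: the basis is orthogonal
  have horth : ∀ i j : b, f (B i) (B j) = 0 := by
    intro i j
    by_cases hij : i = j
    · subst hij
      exact hf.alternating _
    · obtain ⟨M, hM⟩ := hΨsurj (Pi.single i 1)
      have hMi : (M : Matrix (Fin n) (Fin n) F) *ᵥ B i = B i := by
        obtain ⟨c, hc⟩ := hdiag M M.2 (B i) (hBeig i)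
        have h1 : B.repr ((M : Matrix (Fin n) (Fin n) F) *ᵥ B i) i = 1 := by
          have := congrFun hM i
          rw [Pi.single_eq_same] at this
          exact this
        rw [hc, map_smul, Module.Basis.repr_self, Finsupp.smul_apply, Finsupp.single_eq_same, smul_eq_mul,
          mul_one] at h1
        rw [hc, h1, one_smul]
      have hMj : (M : Matrix (Fin n) (Fin n) F) *ᵥ B j = 0 := by
        obtain ⟨c, hc⟩ := hdiag M M.2 (B j) (hBeig j)
        have h1 : B.repr ((M : Matrix (Fin n) (Fin n) F) *ᵥ B j) j = 0 := by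
          have := congrFun hM j
          rw [Pi.single_eq_of_ne (Ne.symm hij)] at this
          exact this
        rw [hc, map_smul, Module.Basis.repr_self, Finsupp.smul_apply, Finsupp.single_eq_same, smul_eq_mul,
          mul_one] at h1
        rw [hc, h1, zero_smul]
      have h1 := hadj M M.2 (B i) (B j)
      rw [hMi, hMj] at h1
      rw [h1]
      have e2 := hf.bilinear.smul_right 0 (B i) 0
      rw [zero_smul, zero_mul] at e2
      exact e2
  -- contradiction with non-degeneracy
  have hbne : Nonempty b := by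
    by_contra hemp
    rw [not_nonempty_iff] at hemp
    rw [Fintype.card_eq_zero] at hcardb
    omega
  obtain ⟨i₀⟩ := hbne
  obtain ⟨⟨x, hx⟩, -⟩ := hf.nondegenerate (B i₀) (B.ne_zero i₀)
  apply hx
  let L : (Fin n → F) →ₗ[F] F :=
    { toFun := fun y => f y (B i₀)
      map_add' := fun y y' => hf.bilinear.add_left y y' _
      map_smul' := fun c y => by simpa using hf.bilinear.smul_left c y (B i₀) }
  have hL : L = 0 := by
    apply B.ext
    intro j
    exact horth j i₀
  have := congrArg (fun l : (Fin n → F) →ₗ[F] F => l x) hL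
  exact this

end Cfsg.Agent.Helper6.AschGSp
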