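import Mathlib
import Cfsg.Prelude.Def_GeometricClasses
import Cfsg.Agent.Lead.AschBase
import Cfsg.Agent.Helper5.AschHom4
import Cfsg.Agent.Helper4.AschFieldB
import Cfsg.Agent.Helper9.AschCompTensor
import Cfsg.Agent.Helper9.AschCompHom
import Cfsg.Agent.Helper7.DcpC

/-!
# ASCH-COMP piece K1 (assembly, helper6): Clifford theory in arbitrary dimension

`H` irreducible, `N ≤ H` normalized by `H`: then `H` is imprimitive (class 2), normalizes an extension field of
prime degree (class 3), stabilizes a tensor decomposition (class 4), or `N` is scalar or absolutely irreducible.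
Built from helper5's `clifford_general`/`homog_data`, helper4's `field_of_fullyInv`, helper9's
`rho_absIrred_of_centreTrivial`/`tensor_exit`/`le_scalars_of_dim_one`/`absIrred_of_dvd`.
-/

set_option autoImplicit false
set_option linter.unusedVariables false

namespace Cfsg.Agent.Helper6.AschComp

open Cfsg Cfsg.Geo Cfsg.Agent.Lead.Asch Cfsg.Agent.Helper5.Asch Cfsg.Agent.Helper9.AschComp
open scoped MatrixGroups Matrix Kronecker

variable {n : ℕ} {F : Type*} [Field F]

/-- the number of blocks times the block dimension is the dimension -/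
theorem card_mul_of_isMDecomposition {t m : ℕ} (D : Fin t → Submodule F (Fin n → F))
    (hD : IsMDecomposition m D) : t * m = n := by
  obtain ⟨B, -⟩ := Cfsg.Agent.Helper7.Dcp.exists_adapted D hD
  have h := Module.finrank_eq_card_basis B
  rw [Module.finrank_fin_fun, Fintype.card_prod, Fintype.card_fin, Fintype.card_fin] at h
  exact h.symm

/-- **K1**: Clifford theory in arbitrary dimension. -/
theorem clifford_comp [Fintype F] (hn : 0 < n) {H N : Subgroup (GL (Fin n) F)}
    (hH : ActsIrreducibly (matrixSet H)) (hNH : N ≤ H) (hnz : Nzes H N) :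
    (∃ (t m : ℕ) (D : Fin t → Submodule F (Fin n → F)), IsMDecomposition m D ∧ t * m = n ∧
      H ≤ decompositionStabilizer D) ∨
    (∃ (r : ℕ) (K : Subalgebra F (Matrix (Fin n) (Fin n) F)), r.Prime ∧ r ∣ n ∧ IsFieldSubalgebra r K ∧
      H ≤ subalgebraNormalizer K) ∨
    (∃ (n₁ n₂ : ℕ) (e : Fin n ≃ Fin n₁ × Fin n₂) (P : GL (Fin n) F), 2 ≤ n₁ ∧ 2 ≤ n₂ ∧
      H ≤ tensorProductSubgroup n₁ n₂ e P) ∨
    N ≤ scalars (Fin n) F ∨ ActsAbsolutelyIrreducibly (matrixSet N) := by
  rcases clifford_general hn hH hnz with ⟨t, m, D, hD, hle, -, -⟩ | hhom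
  · exact Or.inl ⟨t, m, D, hD, card_mul_of_isMDecomposition D hD, hle⟩
  rcases Cfsg.Agent.Helper4.AschP.field_of_fullyInv hn hnz hhom with hK | hct
  · exact Or.inr (Or.inl hK)
  obtain ⟨d, e, eqv, P, ρ, hd, he, hrel, hirr, hdvd⟩ := homog_data hn hH hnz hhom
  have habs := rho_absIrred_of_centreTrivial he eqv P ρ hrel hirr hct
  have hcard : n = e * d := by
    have := Fintype.card_congr eqv
    simpa using this
  by_cases hd1 : d = 1
  · subst hd1
    exact Or.inr (Or.inr (Or.inr (Or.inl (le_scalars_of_dim_one eqv P ρ hrel))))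
  by_cases he1 : e = 1
  · subst he1
    have hdn : d = n := by omega
    refine Or.inr (Or.inr (Or.inr (Or.inr (absIrred_of_dvd hn (fun X hX => ?_) hct))))
    have h1 := hdvd X hX
    rw [hdn] at h1
    exact h1
  · refine Or.inr (Or.inr (Or.inl ⟨e, d, eqv, P, by omega, by omega, fun g hg => ?_⟩))
    exact tensor_exit hn eqv P (fun x => ((ρ x : GL (Fin d) F) : Matrix (Fin d) (Fin d) F)) hrel habs
      (fun x hx => hnz g hg x hx)

end Cfsg.Agent.Helper6.AschComp
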