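import Mathlib
import Cfsg.Prelude.Def_GeometricClasses
import Cfsg.Agent.Lead.AschBase
import Cfsg.Agent.Lead.AschMain
import Cfsg.Agent.Helper3.AschForms
import Cfsg.Agent.Helper6.AschSub
import Cfsg.Agent.Helper9.AschCompK
import Cfsg.Agent.Helper9.AschCompForms
import Cfsg.Agent.Helper9.AschC6Base
import Cfsg.Agent.Helper6.AschCompCliff
import Cfsg.Agent.Helper6.AschCompSym

/-!
# ASCH-PP: Aschbacher's theorem for subgroups of `GL_n(F)`, `n ≥ 3` ARBITRARY, generic form (helper6)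

`asch_gen`: `H` an arbitrary subgroup of `GL_n(F)`; the conclusions are containments `H ≤ X`.  The two cases
needing new theory are hypotheses ("slots"):
* `PerfectCaseGen n F`: the perfect case, with the tensor-induced alternative (helper4's shape);
* `SympCaseGen n F`: the symplectic-type case `⁅N, N⁆ ≤ Z` (the conclusion of helper9's `symplectic_type_case_gen`).
-/

set_option autoImplicit false
set_option linter.unusedVariables false

namespace Cfsg.Agent.Helper6.AschGen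

open Cfsg Cfsg.Geo Cfsg.Agent.Lead.Asch Cfsg.Agent.Helper6.AschComp Cfsg.Agent.Helper9.AschC6
open scoped MatrixGroups Matrix Kronecker

variable {n : ℕ} {F : Type*} [Field F]

/-- slot (i): the perfect case, with the tensor-induced alternative -/
def PerfectCaseGen (n : ℕ) (F : Type*) [Field F] : Prop :=
  ∀ {H N : Subgroup (GL (Fin n) F)}, N ≤ H → Nzes H N → ¬ N ≤ scalars (Fin n) F →
    (∀ M : Subgroup (GL (Fin n) F), M ≤ H → Nzes H M →
      M ≤ scalars (Fin n) F ∨ ActsAbsolutelyIrreducibly (matrixSet M)) →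
    (∀ M : Subgroup (GL (Fin n) F), M ≤ N → Nzes H M → ¬ M ≤ scalars (Fin n) F → M = N) →
    ⁅N, N⁆ = N →
    (∃ (d k : ℕ) (e : Fin n ≃ (Fin k → Fin d)) (Pm : GL (Fin n) F), 2 ≤ d ∧ 2 ≤ k ∧
      H ≤ tensorWreathSubgroup d k e Pm) ∨
    (IsSimpleGroup (N ⧸ (scalars (Fin n) F).subgroupOf N) ∧
      ¬ IsMulCommutative (N ⧸ (scalars (Fin n) F).subgroupOf N) ∧
      (∀ h ∈ H, (∀ x ∈ N, h * x * h⁻¹ * x⁻¹ ∈ scalars (Fin n) F) → h ∈ scalars (Fin n) F))

/-- slot (ii): the symplectic-type case -/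
def SympCaseGen (n : ℕ) (F : Type*) [Field F] [Fintype F] : Prop :=
  ∀ {H N : Subgroup (GL (Fin n) F)}, C6Hyp n F H N →
    (∃ r a : ℕ, r.Prime ∧ n = r ^ a ∧ IsLinearSymplecticTypeData r N) ∨
    (∃ (F₁ : Subfield F) (r' : ℕ) (Pm : GL (Fin n) F), r'.Prime ∧ Fintype.card F = Nat.card F₁ ^ r' ∧
      H ≤ subfieldSubgroup F₁ Pm) ∨
    (∃ (σ : F ≃+* F) (f : (Fin n → F) → (Fin n → F) → F), IsUnitaryForm σ f ∧ H ≤ similarityGroup f) ∨
    (∃ f : (Fin n → F) → (Fin n → F) → F, IsSymplecticForm f ∧ H ≤ similarityGroup f) ∨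
    (Odd (Fintype.card F) ∧ ∃ Q : (Fin n → F) → F, IsNondegenerateQuadraticForm Q ∧
      H ≤ quadSimilarityGroup Q)

/-- a perfect case without the tensor-induced alternative gives the general slot -/
theorem perfectCaseGen_of_perfectCase (h : PerfectCase n F) : PerfectCaseGen n F :=
  fun hNH hnz hns hall hmin hperf => Or.inr (h hNH hnz hns hall hmin hperf)

theorem le_subgroupNormalizer_of_nzes {H N : Subgroup (GL (Fin n) F)} [Finite (GL (Fin n) F)]
    (hnz : Nzes H N) : H ≤ subgroupNormalizer N := by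
  intro h hh
  have hsub : ∀ g ∈ H, ∀ x ∈ N, g * x * g⁻¹ ∈ N := hnz
  unfold subgroupNormalizer
  rw [Subgroup.mem_normalizer_iff]
  intro x
  constructor
  · intro hx
    exact hsub h hh x hx
  · intro hx
    have := hsub h⁻¹ (H.inv_mem hh) _ hx
    simpa [mul_assoc] using this

/-- Aschbacher's theorem for subgroups of `GL_n(F)`, `n ≥ 3`, generic form. -/
theorem asch_gen [Fintype F] (hperfect : PerfectCaseGen n F) (hsymp : SympCaseGen n F) (hn3 : 3 ≤ n)
    (H : Subgroup (GL (Fin n) F)) :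
    (∃ W : Submodule F (Fin n → F), W ≠ ⊥ ∧ W ≠ ⊤ ∧ H ≤ subspaceStabilizer W) ∨
    (∃ (t m : ℕ) (D : Fin t → Submodule F (Fin n → F)), IsMDecomposition m D ∧ t * m = n ∧
      H ≤ decompositionStabilizer D) ∨
    (∃ (r : ℕ) (K : Subalgebra F (Matrix (Fin n) (Fin n) F)), r.Prime ∧ r ∣ n ∧ IsFieldSubalgebra r K ∧
      H ≤ subalgebraNormalizer K) ∨
    (∃ (n₁ n₂ : ℕ) (e : Fin n ≃ Fin n₁ × Fin n₂) (P : GL (Fin n) F), 2 ≤ n₁ ∧ 2 ≤ n₂ ∧
      H ≤ tensorProductSubgroup n₁ n₂ e P) ∨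
    (∃ (F₀ : Subfield F) (r : ℕ) (P : GL (Fin n) F), r.Prime ∧ Fintype.card F = Nat.card F₀ ^ r ∧
      H ≤ subfieldSubgroup F₀ P) ∨
    (∃ (r a : ℕ) (R : Subgroup (GL (Fin n) F)), r.Prime ∧ n = r ^ a ∧ IsLinearSymplecticTypeData r R ∧
      R ≤ H ∧ H ≤ subgroupNormalizer R) ∨
    (∃ (d k : ℕ) (e : Fin n ≃ (Fin k → Fin d)) (Pm : GL (Fin n) F), 2 ≤ d ∧ 2 ≤ k ∧
      H ≤ tensorWreathSubgroup d k e Pm) ∨
    (Odd (Fintype.card F) ∧ ∃ Q : (Fin n → F) → F, IsNondegenerateQuadraticForm Q ∧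
      H ≤ quadSimilarityGroup Q) ∨
    (∃ f : (Fin n → F) → (Fin n → F) → F, IsSymplecticForm f ∧ H ≤ similarityGroup f) ∨
    (∃ (σ : F ≃+* F) (f : (Fin n → F) → (Fin n → F) → F), IsUnitaryForm σ f ∧ H ≤ similarityGroup f) ∨
    InLinearResidualClass H := by
  -- Step 1: reducible
  by_cases hirr : ActsIrreducibly (matrixSet H)
  swap
  · exact Or.inl (exists_stab_of_not_irred hirr)
  -- Step 2: imprimitive
  by_cases hC2 : ∃ (t m : ℕ) (D : Fin t → Submodule F (Fin n → F)), IsMDecomposition m D ∧ t * m = n ∧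
      H ≤ decompositionStabilizer D
  · exact Or.inr (Or.inl hC2)
  -- Step 3: extension field
  by_cases hC3 : ∃ (r : ℕ) (K : Subalgebra F (Matrix (Fin n) (Fin n) F)), r.Prime ∧ r ∣ n ∧ IsFieldSubalgebra r K ∧
      H ≤ subalgebraNormalizer K
  · exact Or.inr (Or.inr (Or.inl hC3))
  -- Step 4: tensor
  by_cases hC4 : ∃ (n₁ n₂ : ℕ) (e : Fin n ≃ Fin n₁ × Fin n₂) (P : GL (Fin n) F), 2 ≤ n₁ ∧ 2 ≤ n₂ ∧
      H ≤ tensorProductSubgroup n₁ n₂ e P
  · exact Or.inr (Or.inr (Or.inr (Or.inl hC4)))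
  -- Step 5: all normal subgroups are scalar or absolutely irreducible
  have hall : ∀ M : Subgroup (GL (Fin n) F), M ≤ H → Nzes H M →
      M ≤ scalars (Fin n) F ∨ ActsAbsolutelyIrreducibly (matrixSet M) := by
    intro M hMH hMnz
    rcases clifford_comp (by omega) hirr hMH hMnz with h | h | h | h | h
    · exact absurd h hC2
    · exact absurd h hC3
    · exact absurd h hC4
    · exact Or.inl h
    · exact Or.inr h
  have hHns : ¬ H ≤ scalars (Fin n) F := not_le_scalars_of_irred (by omega) hirr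
  obtain ⟨N, hNH, hNnz, hNns, hmin⟩ := exists_minimal hHns
  have hNabs : ActsAbsolutelyIrreducibly (matrixSet N) := (hall N hNH hNnz).resolve_left hNns
  by_cases hperf : ⁅N, N⁆ = N
  · -- perfect case
    rcases hperfect hNH hNnz hNns hall hmin hperf with hti | ⟨hsimp, hnab, hcent⟩
    · exact Or.inr (Or.inr (Or.inr (Or.inr (Or.inr (Or.inr (Or.inl hti))))))
    by_cases hsub : ∃ F₀ : Subfield F, F₀ ≠ ⊤ ∧ RealisableOver F₀ (matrixSet N)
    · obtain ⟨F₀, h0, hr⟩ := hsub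
      exact Or.inr (Or.inr (Or.inr (Or.inr (Or.inl
        (Cfsg.Agent.Helper6.Asch.subfield_case (by omega) hNnz hNabs F₀ h0 hr)))))
    by_cases hS : ∃ f : (Fin n → F) → (Fin n → F) → F, IsSymplecticForm f ∧ FixesForm (matrixSet N) f
    · obtain ⟨f, hf, hfix⟩ := hS
      exact Or.inr (Or.inr (Or.inr (Or.inr (Or.inr (Or.inr (Or.inr (Or.inr (Or.inl
        ⟨f, hf, Cfsg.Agent.Helper9.AschCompK.le_similarityGroup_symplectic hNnz hNabs f hf hfix⟩))))))))
    by_cases hQ : ∃ Q : (Fin n → F) → F, IsNondegenerateQuadraticForm Q ∧ FixesQuadForm (matrixSet N) Q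
    · obtain ⟨Q, hQ, hfix⟩ := hQ
      by_cases ho : Odd (Fintype.card F)
      · exact Or.inr (Or.inr (Or.inr (Or.inr (Or.inr (Or.inr (Or.inr (Or.inl
          ⟨ho, Q, hQ, Cfsg.Agent.Helper3.Asch.le_quadSimilarityGroup hNnz hNabs ho Q hQ hfix⟩)))))))
      · exact absurd ⟨_, Cfsg.Agent.Helper9.AschCompK.polar_symplectic_of_even ho Q hQ,
          Cfsg.Agent.Helper9.AschCompK.fixesForm_polar Q hfix⟩ hS
    by_cases hU : ∃ (σ : F ≃+* F) (f : (Fin n → F) → (Fin n → F) → F), IsUnitaryForm σ f ∧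
        FixesForm (matrixSet N) f
    · obtain ⟨σ, f, hf, hfix⟩ := hU
      exact Or.inr (Or.inr (Or.inr (Or.inr (Or.inr (Or.inr (Or.inr (Or.inr (Or.inr (Or.inl
        ⟨σ, f, hf, Cfsg.Agent.Helper3.Asch.le_similarityGroup_unitary hNnz hNabs σ f hf hfix⟩)))))))))
    · refine Or.inr (Or.inr (Or.inr (Or.inr (Or.inr (Or.inr (Or.inr (Or.inr (Or.inr (Or.inr
        ⟨N, ?_, hQ, hS, hU⟩)))))))))
      exact
          { le := hNH
            normal := hNnz
            perfect := hperf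
            simple := hsimp
            nonabelian := hnab
            centralizer_scalar := hcent
            absIrred := hNabs
            no_subfield := fun F₀ h0 hr => hsub ⟨F₀, h0, hr⟩ }
  · -- symplectic-type case
    have hcomm : ⁅N, N⁆ ≤ scalars (Fin n) F := by
      by_contra hc
      exact hperf (hmin _ (Subgroup.commutator_le_self N) (nzes_commutator hNnz) hc)
    rcases hsymp (H := H) (N := N) ⟨hNH, hNnz, hNns, hNabs, hmin, hcomm⟩ with
      ⟨r, a, hr, hra, hdata⟩ | hsub | hU | hS | hQ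
    · exact Or.inr (Or.inr (Or.inr (Or.inr (Or.inr (Or.inl
        ⟨r, a, N, hr, hra, hdata, hNH, le_subgroupNormalizer_of_nzes hNnz⟩)))))
    · exact Or.inr (Or.inr (Or.inr (Or.inr (Or.inl hsub))))
    · exact Or.inr (Or.inr (Or.inr (Or.inr (Or.inr (Or.inr (Or.inr (Or.inr (Or.inr (Or.inl hU)))))))))
    · exact Or.inr (Or.inr (Or.inr (Or.inr (Or.inr (Or.inr (Or.inr (Or.inr (Or.inl hS))))))))
    · exact Or.inr (Or.inr (Or.inr (Or.inr (Or.inr (Or.inr (Or.inr (Or.inl hQ)))))))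

end Cfsg.Agent.Helper6.AschGen
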