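import Mathlib
import Cfsg.Prelude.Def_GeometricClasses
import Cfsg.Agent.Lead.AschBase
import Cfsg.Agent.Lead.AschSymA
import Cfsg.Agent.Helper1.AschSpSub
import Cfsg.Agent.Helper9.AschC6Base
import Cfsg.Agent.Helper9.AschC6StrB
import Cfsg.Agent.Helper9.AschC6Intertwine
import Cfsg.Agent.Helper9.AschC6Field
import Cfsg.Agent.Helper5.AschPPG3b
import Cfsg.Agent.Helper6.AschCompSym
import Cfsg.Agent.Helper6.AschGenMain
import Cfsg.Agent.Helper6.AschGSpMinusB

/-!
# ASCH-GEN-Sp piece Sp-C6 (helper6): the symplectic-type case inside a symplectic group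

`realisable_of_nonminimal`: in the symplectic-type case, if `F` is not the minimal field for `|Z(N)|`, then `N` is
realisable over a proper subfield (helper9's G2 + helper5's G3);
`symplectic_type_case_sp`: `C6Hyp n F H N` with `N` fixing a symplectic form `f`: class 6 of
`InSymplecticPartialClass` (with `IsOfMinusType`), or the subfield exit with its rational structure.
-/

set_option autoImplicit false
set_option linter.unusedVariables false

namespace Cfsg.Agent.Helper6.AschGSp

open Cfsg Cfsg.Geo Cfsg.Agent.Lead.Asch Cfsg.Agent.Helper6.AschComp Cfsg.Agent.Helper9.AschC6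
open scoped MatrixGroups Matrix

variable {n : ℕ} {F : Type*} [Field F]

/-- not the minimal field: `N` is realisable over a proper subfield -/
theorem realisable_of_nonminimal [Fintype F] (hn : 2 ≤ n) {H N : Subgroup (GL (Fin n) F)} (h : C6Hyp n F H N)
    {r a z : ℕ} (hs : C6Str n F N r a z) (τ : F →+* F) (q₁ m : ℕ) (hm : 2 ≤ m)
    (hq : Fintype.card F = q₁ ^ m) (hzq : z ∣ q₁ - 1) (hτ : ∀ x, τ x = x ^ q₁) :
    ∃ F₁ : Subfield F, F₁ ≠ ⊤ ∧ RealisableOver F₁ (matrixSet N) := by
  classical
  have hn0 : 0 < n := by omega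
  haveI : NeZero n := ⟨by omega⟩
  have hsym : SymC n F N := ⟨hn0, h.abs, h.comm⟩
  have hscal : ∀ x : N, (x : GL (Fin n) F) ∈ scalars (Fin n) F →
      ∃ c : Fˣ, (x : GL (Fin n) F) = sc n F c ∧ c ^ z = 1 := by
    intro x hx
    rw [scalars_eq_range] at hx
    obtain ⟨c, hc⟩ := hx
    refine ⟨c, hc.symm, hs.scalar_pow c ?_⟩
    rw [hc]
    exact x.2
  have hq1 : 2 ≤ q₁ := by
    by_contra hcon
    have h1 : q₁ = 0 ∨ q₁ = 1 := by omega
    have h2 := Fintype.one_lt_card (α := F)
    rcases h1 with h1 | h1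
    · rw [h1, zero_pow (by omega)] at hq; omega
    · rw [h1, one_pow] at hq; omega
  set ρ : N →* GL (Fin n) F := (Matrix.GeneralLinearGroup.map τ).comp N.subtype with hρdef
  have hρ : ∀ x : N, (x : GL (Fin n) F) ∈ scalars (Fin n) F → ρ x = x := by
    intro x hx
    obtain ⟨c, hxc, hcz⟩ := hscal x hx
    apply Units.ext
    show ((x : GL (Fin n) F) : Matrix (Fin n) (Fin n) F).map τ = _
    rw [hxc, sc_val]
    ext i j
    rw [Matrix.map_apply, Matrix.smul_apply, Matrix.one_apply, smul_eq_mul, map_mul, hτ,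
      scalar_fixed_of_pow hzq (by omega) hcz]
    split_ifs <;> simp
  obtain ⟨J, hJ⟩ := exists_intertwiner hsym ρ hρ
  set F₁ : Subfield F := RingHom.eqLocusField τ (RingHom.id F) with hF₁def
  have hF₁ : ∀ x, x ∈ F₁ ↔ x ^ q₁ = x := by
    intro x
    show τ x = x ↔ _
    rw [hτ]
  have hreal : RealisableOver F₁ (matrixSet N) :=
    Cfsg.Agent.Helper5.AschPP.realisable_of_twist hq τ hτ h.abs J (fun x hx => hJ ⟨x, hx⟩) F₁ hF₁
  have h0 : F₁ ≠ ⊤ := by
    intro htop
    have hall : ∀ x : F, x ^ q₁ = x := fun x => (hF₁ x).1 (by rw [htop]; trivial)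
    have hdeg : (Polynomial.X ^ q₁ - Polynomial.X : Polynomial F).natDegree = q₁ :=
      FiniteField.X_pow_card_sub_X_natDegree_eq F (by omega)
    have hne : (Polynomial.X ^ q₁ - Polynomial.X : Polynomial F) ≠ 0 := by
      intro h'
      rw [h', Polynomial.natDegree_zero] at hdeg
      omega
    have hsub : (Finset.univ : Finset F) ⊆ (Polynomial.X ^ q₁ - Polynomial.X : Polynomial F).roots.toFinset := by
      intro x _
      rw [Multiset.mem_toFinset, Polynomial.mem_roots hne]
      simp [hall x]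
    have h1 := Finset.card_le_card hsub
    have h2 : (Polynomial.X ^ q₁ - Polynomial.X : Polynomial F).roots.toFinset.card ≤ q₁ := by
      calc _ ≤ Multiset.card (Polynomial.X ^ q₁ - Polynomial.X : Polynomial F).roots := Multiset.toFinset_card_le _
        _ ≤ (Polynomial.X ^ q₁ - Polynomial.X : Polynomial F).natDegree := Polynomial.card_roots' _
        _ = q₁ := hdeg
    rw [Finset.card_univ, hq] at h1
    have h3 : q₁ ^ 2 ≤ q₁ ^ m := Nat.pow_le_pow_right (by omega) hm
    nlinarith
  exact ⟨F₁, h0, hreal⟩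

/-- the centre of `N` is its group of scalars -/
theorem center_eq_scalars {N : Subgroup (GL (Fin n) F)} (hS : SymC n F N) :
    Subgroup.center N = (scalars (Fin n) F).subgroupOf N := by
  ext x
  rw [Subgroup.mem_subgroupOf]
  constructor
  · intro hx
    apply hS.scalar_of_central
    intro y hy
    have := (Subgroup.mem_center_iff.1 hx) ⟨y, hy⟩
    exact (congrArg Subtype.val this).symm
  · intro hx
    rw [Subgroup.mem_center_iff]
    intro y
    apply Subtype.ext
    exact ((commute_of_mem_scalars hx (y : GL (Fin n) F)).eq).symm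

/-- a scalar fixing a non-degenerate bilinear form is `±1` -/
theorem scalar_sq_of_fixes (hn0 : 0 < n) {N : Subgroup (GL (Fin n) F)}
    {f : (Fin n → F) → (Fin n → F) → F} (hf : IsSymplecticForm f) (hfix : FixesForm (matrixSet N) f)
    (c : Fˣ) (hc : sc n F c ∈ N) : (c : F) * c = 1 := by
  have hv : (Pi.single ⟨0, hn0⟩ 1 : Fin n → F) ≠ 0 := by
    intro h
    have := congrFun h ⟨0, hn0⟩
    simp at this
  obtain ⟨⟨x, hx⟩, -⟩ := hf.nondegenerate _ hv
  have h1 := hfix _ (mem_matrixSet_iff.2 ⟨sc n F c, hc, rfl⟩) x (Pi.single ⟨0, hn0⟩ 1)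
  rw [sc_val, Matrix.smul_mulVec, Matrix.smul_mulVec, Matrix.one_mulVec, Matrix.one_mulVec,
    hf.bilinear.smul_left, hf.bilinear.smul_right, ← mul_assoc] at h1
  have h2 : ((c : F) * c) * f x (Pi.single ⟨0, hn0⟩ 1) = 1 * f x (Pi.single ⟨0, hn0⟩ 1) := by
    rw [one_mul]; exact h1
  exact mul_right_cancel₀ hx h2

/-- **Sp-C6**: the symplectic-type case inside a symplectic group -/
theorem symplectic_type_case_sp [Fintype F] (hn : 2 ≤ n) {H N : Subgroup (GL (Fin n) F)} (h : C6Hyp n F H N)
    {f : (Fin n → F) → (Fin n → F) → F} (hf : IsSymplecticForm f) (hfix : FixesForm (matrixSet N) f) :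
    (∃ p k : ℕ, IsSymplecticTypeGroup 2 N ∧ ActsAbsolutelyIrreducibly (matrixSet N) ∧ N ≤ similarityGroup f ∧
      p.Prime ∧ Odd p ∧ Fintype.card F = p ∧ Nat.card N = 2 ^ (1 + 2 * k) ∧ Nat.card (Subgroup.center N) = 2 ∧
      IsOfMinusType k N ∧ H ≤ subgroupNormalizer N) ∨
    (∃ (F₁ : Subfield F) (r : ℕ) (Pm : GL (Fin n) F) (ζ : F), r.Prime ∧ Fintype.card F = Nat.card F₁ ^ r ∧
      ζ ≠ 0 ∧ IsFormRationalStructure f F₁ ζ Pm ∧ H ≤ subfieldSubgroup F₁ Pm) := by
  classical
  have hn0 : 0 < n := by omega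
  haveI : NeZero n := ⟨by omega⟩
  haveI : Finite (GL (Fin n) F) := inferInstance
  obtain ⟨r, a, z, hs⟩ := c6_structure hn h
  have hsym : SymC n F N := ⟨hn0, h.abs, h.comm⟩
  have hceq := center_eq_scalars hsym
  -- the centre has exponent 2
  have hc2 : ∀ x : Subgroup.center N, x ^ 2 = 1 := by
    intro x
    have hx : ((x : N) : GL (Fin n) F) ∈ scalars (Fin n) F := by
      have h1 : (x : N) ∈ Subgroup.center N := x.2
      have h3 : (x : N) ∈ (scalars (Fin n) F).subgroupOf N := hceq ▸ h1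
      exact Subgroup.mem_subgroupOf.1 h3
    rw [scalars_eq_range] at hx
    obtain ⟨c, hc⟩ := hx
    have hcN : sc n F c ∈ N := by rw [hc]; exact (x : N).2
    have hcc := scalar_sq_of_fixes hn0 hf hfix c hcN
    have hcu : c * c = 1 := Units.ext (by rw [Units.val_mul, hcc, Units.val_one])
    apply Subtype.ext
    apply Subtype.ext
    show ((x : N) : GL (Fin n) F) ^ 2 = 1
    rw [← hc, ← map_pow, pow_two, hcu, map_one]
  haveI hcyc : IsCyclic (Subgroup.center N) :=
    hs.cyc (Subgroup.center N) inferInstance inferInstance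
  have hz2 : z ∣ 2 := by
    rw [← hs.card_center, ← IsCyclic.exponent_eq_card]
    exact Monoid.exponent_dvd_of_forall_pow_eq_one hc2
  have hzle : z ≤ 2 := Nat.le_of_dvd (by norm_num) hz2
  obtain ⟨hr2, hzeq⟩ : r = 2 ∧ z = 2 := by
    rcases hs.z_cases with ⟨hr, hz⟩ | ⟨hr, hz⟩ | ⟨hr, hz⟩
    · exfalso
      have := hs.prime.two_le
      omega
    · exact ⟨hr, hz⟩
    · omega
  subst hr2
  subst hzeq
  have hzdvd := hs.z_dvd
  have hodd : Odd (Fintype.card F) := by
    have h1 : 1 ≤ Fintype.card F := Fintype.card_pos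
    rw [Nat.odd_iff]
    omega
  have h2 : (2 : F) ≠ 0 := by
    intro h20
    have hchar : ringChar F = 2 :=
      CharP.ringChar_of_prime_eq_zero Nat.prime_two (by exact_mod_cast h20)
    have := FiniteField.even_card_of_char_two hchar
    rw [Nat.odd_iff] at hodd
    omega
  rcases field_cases 2 hzdvd with ⟨τ, q₁, m, hm, hq, hzq, hτ⟩ | ⟨p, e, hmin⟩
  · -- subfield exit
    right
    obtain ⟨F₁, h0, hreal⟩ := realisable_of_nonminimal hn h hs τ q₁ m hm hq hzq hτ
    exact Cfsg.Agent.Helper1.AschSp.subfield_symp f hf hfix h.nzes h.abs F₁ h0 hreal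
  · -- the prime field: class 6
    left
    obtain ⟨hp, hchar, hcard, hzd, hmind⟩ := hmin
    have hepos : 0 < e := by
      rcases Nat.eq_zero_or_pos e with h0 | h0
      · rw [h0, pow_zero] at hcard
        have := Fintype.one_lt_card (α := F)
        omega
      · exact h0
    have hpodd : Odd p := by
      rcases hp.eq_two_or_odd' with hp2 | hpo
      · exfalso
        rw [hcard, hp2] at hodd
        have : Even (2 ^ e) := (Nat.even_pow' hepos.ne').2 even_two
        exact (Nat.not_odd_iff_even.2 this) hodd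
      · exact hpo
    have he1 : e = 1 := by
      by_contra hne
      have h1 : 1 < e := by omega
      apply hmind 1 (by norm_num) h1
      rw [pow_one]
      obtain ⟨k, hk⟩ := hpodd
      exact ⟨k, by omega⟩
    rw [he1, pow_one] at hcard
    refine ⟨p, a, ⟨hs.prime, hs.pgroup, hs.cyc, hs.exponent⟩, h.abs, ?_, hp, hpodd, hcard, ?_, hs.card_center, ?_,
      Cfsg.Agent.Helper6.AschGen.le_subgroupNormalizer_of_nzes h.nzes⟩
    · -- N ≤ similarityGroup f
      intro g hg
      refine ⟨1, fun u v => ?_⟩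
      rw [Units.val_one, one_mul]
      exact hfix _ (mem_matrixSet_iff.2 ⟨g, hg, rfl⟩) u v
    · rw [hs.card, pow_add, pow_one]
    · exact isOfMinusType_of_symplectic hsym h2 hf hfix hs.dim (by rw [← hceq, hs.card_center])

end Cfsg.Agent.Helper6.AschGSp
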