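import Mathlib
import Cfsg.Prelude.Def_GeometricClasses
import Cfsg.Agent.Lead.AschBase
import Cfsg.Agent.Helper1.AschSpBase
import Cfsg.Agent.Helper1.AschSp12Base
import Cfsg.Agent.Helper1.AschSpMain
import Cfsg.Agent.Helper9.AschC6Base
import Cfsg.Agent.Helper6.AschGSpBase
import Cfsg.Agent.Helper6.AschGSpC6

/-!
# ASCH-GEN-Sp: the assembly (helper6)

`asch_gsp`: the general subgroup structure theorem on `Fin n`, `n = 2m`, for an abstract symplectic form and any
group `H` of isometries, from helper1's general-`n` pieces `Sp12Pieces n F`, the symplectic-type case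
`symplectic_type_case_sp` and the slot `SpPerfectCase n F`.
-/

set_option autoImplicit false
set_option linter.unusedVariables false

namespace Cfsg.Agent.Helper6.AschGSp

open Cfsg Cfsg.Geo Cfsg.Agent.Lead.Asch Cfsg.Agent.Helper1.AschSp Cfsg.Agent.Helper9.AschC6
open scoped MatrixGroups Matrix Kronecker

variable {n : ℕ} {F : Type*} [Field F]

/-- The general subgroup structure theorem for groups of isometries of a symplectic form in dimension `n = 2m`. -/
theorem asch_gsp [Fintype F] (hp : Sp12Pieces n F) (hperfect : SpPerfectCase n F) {m : ℕ} (hnm : n = 2 * m)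
    (hm : 2 ≤ m) (f : (Fin n → F) → (Fin n → F) → F) (hf : IsSymplecticForm f) (H : Subgroup (GL (Fin n) F))
    (hfix : FixesForm (matrixSet H) f) : GSpConcl m f H := by
  have hq2 : 2 ≤ Fintype.card F := Fintype.one_lt_card
  have hn2 : 2 ≤ n := by omega
  -- the exits
  have exitQ : ¬ Odd (Fintype.card F) → QuadExit f H → GSpConcl m f H := by
    rintro ho ⟨Q, hQ, hpol, hle⟩
    exact Or.inr (Or.inr (Or.inr (Or.inr (Or.inr (Or.inr (Or.inl ⟨Q, ho, hQ, hpol, hle⟩))))))
  have exitD : ∀ (t k : ℕ) (D : Fin t → Submodule F (Fin n → F)), IsNondegenerateMDecomposition f k D →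
      H ≤ decompositionStabilizer D → GSpConcl m f H := by
    intro t k D hD hle
    exact Or.inr (Or.inr (Or.inl ⟨t, k, D, hD, hle⟩))
  have exitP : ∀ (k : ℕ) (D : Fin 2 → Submodule F (Fin n → F)), IsMDecomposition k D → 2 * k = n →
      (∀ i, IsTotallySingularFor f (D i)) → H ≤ decompositionStabilizer D → GSpConcl m f H := by
    intro k D hD h2k hts hle
    have hkm : k = m := by omega
    subst hkm
    by_cases ho : Odd (Fintype.card F)
    · exact Or.inr (Or.inr (Or.inr (Or.inl ⟨D, ho, hD, hts, hle⟩)))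
    · exact exitQ ho (hp.evenPair ho f hf k D hD hts H hfix hle)
  have exitNS : ∀ K : Subalgebra F (Matrix (Fin n) (Fin n) F), IsFieldSubalgebra 2 K → IsAdjointClosedFor f K →
      ¬ IsSelfAdjointFor f K → H ≤ subalgebraNormalizer K → GSpConcl m f H := by
    intro K hK hadj hnsa hle
    by_cases ho : Odd (Fintype.card F)
    · exact Or.inr (Or.inr (Or.inr (Or.inr (Or.inr (Or.inr (Or.inr (Or.inr (Or.inl
        ⟨K, ho, hK, hadj, hnsa, hle⟩))))))))
    · exact exitQ ho (hp.evenField ho f hf K hK hadj hnsa H hfix hle)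
  -- Step 1: reducible
  by_cases hirr : ActsIrreducibly (matrixSet H)
  swap
  · rcases hp.reducibleG f hf H hfix hirr with ⟨W, h0, hts, hle⟩ | ⟨W, h0, hnd, hdim, hle⟩ | ⟨k, D, hD, h2k, hle⟩
    · exact Or.inl ⟨W, h0, hts, hle⟩
    · exact Or.inr (Or.inl ⟨W, h0, hnd, by omega, hle⟩)
    · exact exitD 2 k D hD hle
  have exitK : ∀ (r : ℕ) (K : Subalgebra F (Matrix (Fin n) (Fin n) F)), r.Prime →
      IsFieldSubalgebra r K → IsAdjointClosedFor f K → H ≤ subalgebraNormalizer K → GSpConcl m f H := by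
    intro r K hr hK hadj hle
    by_cases hsa : IsSelfAdjointFor f K
    · have halt := hp.altOfSelfAdj f hf H hfix hirr r K hK hsa hle
      exact Or.inr (Or.inr (Or.inr (Or.inr (Or.inr (Or.inr (Or.inr (Or.inl ⟨r, K, hr, hK, hsa, halt, hle⟩)))))))
    · rcases hr.eq_two_or_odd' with rfl | hodd
      · exact exitNS K hK hadj hsa hle
      · exact absurd (hp.adjOdd f hf r K hodd hK hadj) hsa
  have exitT : Odd (Fintype.card F) → ∀ (n₁ n₂ : ℕ) (e : Fin n ≃ Fin n₁ × Fin n₂) (P : GL (Fin n) F)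
      (f₁ : (Fin n₁ → F) → (Fin n₁ → F) → F) (f₂ : (Fin n₂ → F) → (Fin n₂ → F) → F), 2 ≤ n₁ → 2 ≤ n₂ →
      ((IsSymplecticForm f₁ ∧ IsSymmetricForm f₂) ∨ (IsSymmetricForm f₁ ∧ IsSymplecticForm f₂)) →
      IsTensorFormStructure id f f₁ f₂ e P → H ≤ tensorProductSubgroup n₁ n₂ e P → GSpConcl m f H := by
    intro ho n₁ n₂ e P f₁ f₂ h1 h2 hforms hT hle
    have key : ∀ (k₁ k₂ : ℕ) (e' : Fin n ≃ Fin k₁ × Fin k₂) (g₁ : (Fin k₁ → F) → (Fin k₁ → F) → F)
        (g₂ : (Fin k₂ → F) → (Fin k₂ → F) → F), 2 ≤ k₁ → 2 ≤ k₂ → IsSymplecticForm g₁ → IsSymmetricForm g₂ →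
        IsTensorFormStructure id f g₁ g₂ e' P → H ≤ tensorProductSubgroup k₁ k₂ e' P → GSpConcl m f H := by
      intro k₁ k₂ e' g₁ g₂ hk1 hk2 hg1 hg2 hT' hle'
      have hcard : n = k₁ * k₂ := by
        have := Fintype.card_congr e'
        simpa using this
      rcases Nat.lt_or_ge k₂ 3 with hlt | hge
      · have hk22 : k₂ = 2 := by omega
        subst hk22
        have hk1m : k₁ = m := by omega
        rcases hp.tensorO2 ho f hf k₁ e' P g₁ g₂ hg1 hg2 hT' H hfix hle' with ⟨D, hD, hts, hDle⟩ |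
          ⟨K, hK, hadj, hnsa, hKle⟩
        · exact exitP k₁ D hD (by omega) hts hDle
        · exact exitNS K hK hadj hnsa hKle
      · exact Or.inr (Or.inr (Or.inr (Or.inr (Or.inr (Or.inr (Or.inr (Or.inr (Or.inr (Or.inl
          ⟨k₁, k₂, e', P, g₁, g₂, ho, hge, hg1, hg2, hT', hle'⟩)))))))))
    rcases hforms with ⟨hf1, hf2⟩ | ⟨hf1, hf2⟩
    · exact key n₁ n₂ e f₁ f₂ h1 h2 hf1 hf2 hT hle
    · obtain ⟨hT', heq⟩ := hp.tensorSwap f _ _ e P f₁ f₂ hT
      rw [heq] at hle
      exact key n₂ n₁ _ f₂ f₁ h2 h1 hf2 hf1 hT' hle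
  -- Step 2: Clifford
  by_cases hexit : GSpConcl m f H
  · exact hexit
  have hall : ∀ M : Subgroup (GL (Fin n) F), M ≤ H → Nzes H M →
      M ≤ scalars (Fin n) F ∨ ActsAbsolutelyIrreducibly (matrixSet M) := by
    intro M hMH hMnz
    rcases hp.cliffordG f hf hfix hirr hMH hMnz with ⟨t, k, D, hD, htk, hle⟩ | ⟨k, D, hD, h2k, hts, hle⟩ |
      ⟨r, K, hr, hrn, hK, hadj, hle⟩ | ⟨ho, n₁, n₂, e, P, f₁, f₂, h1, h2, hforms, hT, hle⟩ | ⟨ho, hQ⟩ | h | h
    · exact absurd (exitD t k D hD hle) hexit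
    · exact absurd (exitP k D hD h2k hts hle) hexit
    · exact absurd (exitK r K hr hK hadj hle) hexit
    · exact absurd (exitT ho n₁ n₂ e P f₁ f₂ h1 h2 hforms hT hle) hexit
    · exact absurd (exitQ ho hQ) hexit
    · exact Or.inl h
    · exact Or.inr h
  have hHns : ¬ H ≤ scalars (Fin n) F := not_le_scalars_of_irred hn2 hirr
  obtain ⟨N, hNH, hNnz, hNns, hmin⟩ := exists_minimal hHns
  have hNabs : ActsAbsolutelyIrreducibly (matrixSet N) := (hall N hNH hNnz).resolve_left hNns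
  have hNfix : FixesForm (matrixSet N) f := fun s hs => hfix s (matrixSet_mono hNH hs)
  by_cases hperf : ⁅N, N⁆ = N
  · -- the perfect case
    rcases hperfect f hf hfix hNH hNnz hNns hall hmin hperf with
      ⟨ho, k, t, e, P, f₁, hto, ht3, hex, hf₁, hT, hle⟩ | ⟨ho, hQ⟩ | ⟨hsimp, hnab, hcent⟩
    · exact Or.inr (Or.inr (Or.inr (Or.inr (Or.inr (Or.inr (Or.inr (Or.inr (Or.inr (Or.inr (Or.inl
        ⟨k, t, e, P, f₁, ho, hto, ht3, hex, hf₁, hT, hle⟩))))))))))
    · exact exitQ ho hQ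
    by_cases hsub : ∃ F₀ : Subfield F, F₀ ≠ ⊤ ∧ RealisableOver F₀ (matrixSet N)
    · obtain ⟨F₀, h0, hr⟩ := hsub
      exact Or.inr (Or.inr (Or.inr (Or.inr (Or.inl (hp.subfield f hf hNfix hNnz hNabs F₀ h0 hr)))))
    by_cases hQ : ∃ Q : (Fin n → F) → F, IsNondegenerateQuadraticForm Q ∧ FixesQuadForm (matrixSet N) Q
    · obtain ⟨Q, hQ, hQfix⟩ := hQ
      by_cases ho : Odd (Fintype.card F)
      · exact absurd hQfix (hp.quadOdd ho f hf N hNfix hNabs Q hQ)
      · exact exitQ ho (hp.quadEven ho f hf hNfix hNnz hNabs Q hQ hQfix)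
    by_cases hU : ∃ (σ : F ≃+* F) (g : (Fin n → F) → (Fin n → F) → F), IsUnitaryForm σ g ∧
        FixesForm (matrixSet N) g
    · obtain ⟨σ, g, hg, hgfix⟩ := hU
      exact absurd (hp.unitary f hf N hNfix hNabs σ g hg hgfix) hsub
    · refine Or.inr (Or.inr (Or.inr (Or.inr (Or.inr (Or.inr (Or.inr (Or.inr (Or.inr (Or.inr (Or.inr
        ⟨N, ?_, hQ, hU⟩))))))))))
      exact
        { le := hNH
          normal := hNnz
          perfect := hperf
          simple := hsimp
          nonabelian := hnab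
          centralizer_scalar := hcent
          absIrred := hNabs
          no_subfield := fun F₀ h0 hr => hsub ⟨F₀, h0, hr⟩ }
  · -- the symplectic-type case
    have hcomm : ⁅N, N⁆ ≤ scalars (Fin n) F := by
      by_contra hc
      exact hperf (hmin _ (Subgroup.commutator_le_self N) (nzes_commutator hNnz) hc)
    rcases symplectic_type_case_sp hn2 (H := H) (N := N) ⟨hNH, hNnz, hNns, hNabs, hmin, hcomm⟩ hf hNfix with
      ⟨p, k, h1, h2, h3, h4, h5, h6, h7, h8, h9, h10⟩ | hsub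
    · exact Or.inr (Or.inr (Or.inr (Or.inr (Or.inr (Or.inl ⟨N, p, k, h1, h2, h3, h4, h5, h6, h7, h8, h9, h10⟩)))))
    · exact Or.inr (Or.inr (Or.inr (Or.inr (Or.inl hsub))))

end Cfsg.Agent.Helper6.AschGSp
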