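import Mathlib
import Cfsg.Prelude.Def_GeometricClasses
import Cfsg.Agent.Helper2.AschTrE
import Cfsg.Agent.Helper6.AschGSpBase

/-!
# ASCH-GEN-Sp: transport of `GSpConcl` along a bijection of index types (helper6)

`pull_class6` (the pull-back of a symplectic-type group of minus type) and `gspConcl_of_map`.
-/

set_option autoImplicit false
set_option linter.unusedVariables false

namespace Cfsg.Agent.Helper6.AschGSp

open Cfsg Cfsg.Geo Cfsg.Agent.Lead.Asch Cfsg.Agent.Helper1.AschSp Cfsg.Agent.Helper2.AschTr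
open scoped MatrixGroups Matrix Kronecker

variable {ι κ : Type} [Fintype ι] [DecidableEq ι] [Fintype κ] [DecidableEq κ] {F : Type*} [Field F]

/-- the image of a characteristic subgroup under an isomorphism is characteristic -/
theorem characteristic_map_mulEquiv {G G' : Type*} [Group G] [Group G'] (φ : G ≃* G') (A : Subgroup G)
    [hA : A.Characteristic] : (A.map φ.toMonoidHom).Characteristic := by
  rw [Subgroup.characteristic_iff_map_eq]
  intro ψ
  have h1 := (Subgroup.characteristic_iff_map_eq.1 hA) ((φ.trans ψ).trans φ.symm)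
  ext y
  constructor
  · rintro ⟨z, ⟨x, hx, rfl⟩, rfl⟩
    have hx' : ((φ.trans ψ).trans φ.symm) x ∈ A := by
      rw [← h1]; exact ⟨x, hx, rfl⟩
    refine ⟨_, hx', ?_⟩
    simp
  · rintro ⟨x, hx, rfl⟩
    have hx' : x ∈ A.map ((φ.trans ψ).trans φ.symm).toMonoidHom := by rw [h1]; exact hx
    obtain ⟨w, hw, rfl⟩ := hx'
    refine ⟨φ w, ⟨w, hw, rfl⟩, ?_⟩
    simp

/-- `IsSymplecticTypeGroup` is invariant under isomorphisms of the underlying groups -/
theorem isSymplecticTypeGroup_of_mulEquiv {r : ℕ} {R : Subgroup (GL ι F)} {R' : Subgroup (GL κ F)}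
    (φ : R ≃* R') (h : IsSymplecticTypeGroup r R') : IsSymplecticTypeGroup r R := by
  refine ⟨h.prime, h.pGroup.of_equiv φ.symm, ?_, ?_⟩
  · intro A hA hcomm
    haveI := hA
    have hchar : (A.map φ.toMonoidHom).Characteristic := characteristic_map_mulEquiv φ A
    have hcomm' : IsMulCommutative (A.map φ.toMonoidHom) := by
      refine ⟨⟨?_⟩⟩
      rintro ⟨_, x, hx, rfl⟩ ⟨_, y, hy, rfl⟩
      have := hcomm.is_comm.comm ⟨x, hx⟩ ⟨y, hy⟩
      have h2 : x * y = y * x := congrArg Subtype.val this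
      apply Subtype.ext
      show φ x * φ y = φ y * φ x
      rw [← map_mul, ← map_mul, h2]
    have hcyc := h.cyclic_of_characteristic _ hchar hcomm'
    exact isCyclic_of_surjective (A.equivMapOfInjective φ.toMonoidHom φ.injective).symm
      (A.equivMapOfInjective φ.toMonoidHom φ.injective).symm.surjective
  · rw [Monoid.exponent_eq_of_mulEquiv φ]; exact h.exponent_eq

/-- `IsOfMinusType` is invariant under isomorphisms of the underlying groups -/
theorem isOfMinusType_of_mulEquiv {k : ℕ} {R : Subgroup (GL ι F)} {R' : Subgroup (GL κ F)}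
    (φ : R ≃* R') (h : IsOfMinusType k R') : IsOfMinusType k R := by
  intro A hcomm hsq
  have hcomm' : IsMulCommutative (A.map φ.toMonoidHom) := by
    refine ⟨⟨?_⟩⟩
    rintro ⟨_, x, hx, rfl⟩ ⟨_, y, hy, rfl⟩
    have := hcomm.is_comm.comm ⟨x, hx⟩ ⟨y, hy⟩
    have h2 : x * y = y * x := congrArg Subtype.val this
    apply Subtype.ext
    show φ x * φ y = φ y * φ x
    rw [← map_mul, ← map_mul, h2]
  have hsq' : ∀ x ∈ A.map φ.toMonoidHom, x * x = 1 := by
    rintro _ ⟨x, hx, rfl⟩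
    show φ x * φ x = 1
    rw [← map_mul, hsq x hx, map_one]
  have := h _ hcomm' hsq'
  rwa [← Nat.card_congr (A.equivMapOfInjective φ.toMonoidHom φ.injective).toEquiv] at this

/-- class 6 -/
theorem pull_class6 (e : ι ≃ κ) {f : (ι → F) → (ι → F) → F} {H : Subgroup (GL ι F)} {q : ℕ}
    (h : ∃ (R : Subgroup (GL κ F)) (p k : ℕ), IsSymplecticTypeGroup 2 R ∧
      ActsAbsolutelyIrreducibly (matrixSet R) ∧ R ≤ similarityGroup (pf e f) ∧ p.Prime ∧ Odd p ∧ q = p ∧
      Nat.card R = 2 ^ (1 + 2 * k) ∧ Nat.card (Subgroup.center R) = 2 ∧ IsOfMinusType k R ∧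
      H.map (glReindex e : GL ι F ≃* GL κ F).toMonoidHom ≤ subgroupNormalizer R) :
    ∃ (R : Subgroup (GL ι F)) (p k : ℕ), IsSymplecticTypeGroup 2 R ∧
      ActsAbsolutelyIrreducibly (matrixSet R) ∧ R ≤ similarityGroup f ∧ p.Prime ∧ Odd p ∧ q = p ∧
      Nat.card R = 2 ^ (1 + 2 * k) ∧ Nat.card (Subgroup.center R) = 2 ∧ IsOfMinusType k R ∧
      H ≤ subgroupNormalizer R := by
  obtain ⟨R', p, k, hst, habs, hsim, hp, hpo, hq, hcard, hcen, hminus, hle⟩ := h
  refine ⟨pb e R', p, k, isSymplecticTypeGroup_of_mulEquiv (pbEquiv e R') hst,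
    actsAbsolutelyIrreducibly_pb e habs, ?_, hp, hpo, hq, ?_, ?_,
    isOfMinusType_of_mulEquiv (pbEquiv e R') hminus, ?_⟩
  · intro g hg
    obtain ⟨c, hc⟩ := hsim ((mem_pb e).1 hg)
    refine ⟨c, fun u v => ?_⟩
    have h1 := hc ((th e).symm u) ((th e).symm v)
    unfold pf at h1
    rw [th_mulVec, th_mulVec, LinearEquiv.apply_symm_apply, LinearEquiv.apply_symm_apply] at h1
    exact h1
  · rw [Nat.card_congr (pbEquiv e R').toEquiv]; exact hcard
  · rw [Nat.card_congr (Subgroup.centerCongr (pbEquiv e R')).toEquiv]; exact hcen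
  · intro g hg
    have h1 := hle ⟨g, hg, rfl⟩
    unfold subgroupNormalizer at h1 ⊢
    rw [Subgroup.mem_normalizer_iff] at h1 ⊢
    intro y
    have h2 := h1 (glReindex e y)
    show glReindex e y ∈ R' ↔ glReindex e (g * y * g⁻¹) ∈ R'
    rw [map_mul, map_mul, map_inv]
    exact h2

/-- transport of the conclusion `GSpConcl` along a bijection of index types -/
theorem gspConcl_of_map [Fintype F] (m : ℕ) (e : ι ≃ κ) (f : (ι → F) → (ι → F) → F) (H : Subgroup (GL ι F))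
    (h : GSpConcl m (pf e f) (H.map (glReindex e : GL ι F ≃* GL κ F).toMonoidHom)) : GSpConcl m f H := by
  rcases h with h | h | ⟨t, k, h⟩ | ⟨D, hq, hD, hts, hle⟩ | h | h | ⟨Q, hq, hQ, hpol, hle⟩ | ⟨r, K, hr, h⟩ |
    ⟨K, hq, h⟩ | ⟨n₁, n₂, e', P, f₁, f₂, hq, hn₂, h⟩ | ⟨k, t, e', P, f₁, hq, ht, ht3, hq3, h⟩ | h
  · exact Or.inl (pull_ts e h)
  · exact Or.inr (Or.inl (pull_nondegSub e (· < m) h))
  · obtain ⟨D, hD⟩ := pull_nondegDecomp e h
    exact Or.inr (Or.inr (Or.inl ⟨t, k, D, hD⟩))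
  · obtain ⟨D', hD', hts', hle'⟩ := pull_tsPair e ⟨D, hD, hts, hle⟩
    exact Or.inr (Or.inr (Or.inr (Or.inl ⟨D', hq, hD', hts', hle'⟩)))
  · exact Or.inr (Or.inr (Or.inr (Or.inr (Or.inl (pull_subfield e h)))))
  · exact Or.inr (Or.inr (Or.inr (Or.inr (Or.inr (Or.inl (pull_class6 e h))))))
  · obtain ⟨Q', hQ', hpol', hle'⟩ := pull_quad e ⟨Q, hQ, hpol, hle⟩
    exact Or.inr (Or.inr (Or.inr (Or.inr (Or.inr (Or.inr (Or.inl ⟨Q', hq, hQ', hpol', hle'⟩))))))
  · obtain ⟨K', hK'⟩ := pull_fieldSelfAdj e ⟨K, h⟩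
    exact Or.inr (Or.inr (Or.inr (Or.inr (Or.inr (Or.inr (Or.inr (Or.inl ⟨r, K', hr, hK'⟩)))))))
  · obtain ⟨K', hK'⟩ := pull_fieldAdjClosed e ⟨K, h⟩
    exact Or.inr (Or.inr (Or.inr (Or.inr (Or.inr (Or.inr (Or.inr (Or.inr (Or.inl ⟨K', hq, hK'⟩))))))))
  · obtain ⟨e'', P', g₁, g₂, h'⟩ := pull_tensor e id IsSymplecticForm IsSymmetricForm ⟨e', P, f₁, f₂, h⟩
    exact Or.inr (Or.inr (Or.inr (Or.inr (Or.inr (Or.inr (Or.inr (Or.inr (Or.inr (Or.inl
      ⟨n₁, n₂, e'', P', g₁, g₂, hq, hn₂, h'⟩)))))))))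
  · obtain ⟨e'', P', g₁, h'⟩ := pull_tensorWreath e id IsSymplecticForm ⟨e', P, f₁, h⟩
    exact Or.inr (Or.inr (Or.inr (Or.inr (Or.inr (Or.inr (Or.inr (Or.inr (Or.inr (Or.inr (Or.inl
      ⟨k, t, e'', P', g₁, hq, ht, ht3, hq3, h'⟩))))))))))
  · exact Or.inr (Or.inr (Or.inr (Or.inr (Or.inr (Or.inr (Or.inr (Or.inr (Or.inr (Or.inr (Or.inr
      (pull_residual e h)))))))))))

end Cfsg.Agent.Helper6.AschGSp
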