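import Mathlib
import Cfsg.Prelude.Def_GeometricClasses
import Cfsg.Agent.Helper4.AschFC7I
import Cfsg.Agent.Helper4.AschFC7J
import Cfsg.Agent.Helper6.AschGSpBase

/-!
# ASCH-GEN-Sp: the slot `SpPerfectCase n F` filled (helper6)

from helper4's FORM-C7 family shapes `perfect_case_symp_odd` / `perfect_case_symp_even`.
-/

set_option autoImplicit false
set_option linter.unusedVariables false

namespace Cfsg.Agent.Helper6.AschGSp

open Cfsg Cfsg.Geo Cfsg.Agent.Lead.Asch Cfsg.Agent.Helper1.AschSp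
open scoped MatrixGroups Matrix Kronecker

variable {n : ℕ} {F : Type*} [Field F]

/-- the slot `SpPerfectCase n F`, for `2 ≤ n`. -/
theorem spPerfectCase [Fintype F] (hn : 2 ≤ n) : SpPerfectCase n F := by
  intro f hf H N hfix hNH hnz hns hall hmin hperf
  have hfixN : FixesForm (matrixSet N) f := by
    rintro g ⟨x, hx, rfl⟩ u v
    exact hfix _ ⟨x, hNH hx, rfl⟩ u v
  by_cases ho : Odd (Fintype.card F)
  · rcases Cfsg.Agent.Helper4.AschTI.perfect_case_symp_odd hn ho hf hNH hnz hns hall hmin hperf hfixN with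
      ⟨d, k, e, Pm, f₁, hd, hk, hko, hq3, hf₁, hT, hle⟩ | h3
    · exact Or.inl ⟨ho, d, k, e, Pm, f₁, hko, hk, hq3, hf₁, hT, hle⟩
    · exact Or.inr (Or.inr h3)
  · rcases Cfsg.Agent.Helper4.AschTI.perfect_case_symp_even hn ho hf hNH hnz hns hall hmin hperf hfixN with
      hQ | h3
    · exact Or.inr (Or.inl ⟨ho, hQ⟩)
    · exact Or.inr (Or.inr h3)

end Cfsg.Agent.Helper6.AschGSp
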