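import Mathlib
import Cfsg.Prelude.Def_GeometricClasses
import Cfsg.Agent.Lead.AschBase
import Cfsg.Agent.Helper1.AschSpBase
import Cfsg.Agent.Helper1.AschSp12Base
import Cfsg.Agent.Helper1.AschSpMain
import Cfsg.Agent.Helper9.AschC6Base
import Cfsg.Agent.Helper6.AschGSpBase
import Cfsg.Agent.Helper6.AschGSpC6
import Cfsg.Agent.Helper6.AschGSpTr

/-!
# ASCH-PP-Sp (helper6): the general subgroup structure theorem for `Sp_{2m}(q)` with the dimension data kept

`GSpConclD m f H` is `GSpConcl m f H` with three pieces of numerical information added: `t * k = 2 * m` for the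
non-degenerate decompositions (and `¬ (|F| = 2 ∧ k = 2)`: over the field with two elements a decomposition into
non-degenerate planes goes to the quadratic exit), `2 * m = 2 ^ k` for the symplectic-type groups of order `2 ^ (1 + 2 k)` and `r ∣ 2 * m`
for the self-adjoint fields of degree `r`, `Even k` for the decompositions and `2 ≤ n₁ ∧ 2 * m = n₁ * n₂` for the
tensor products.  `asch_gsp_d` is `asch_gsp` with this conclusion and `gspConclD_of_map` its
transport along a bijection of index types.  Used for the finals `Sp_4(q)` (`q` odd) and `Sp_8(q)`.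
-/

set_option autoImplicit false
set_option linter.unusedVariables false

namespace Cfsg.Agent.Helper6.AschGSp

open Cfsg Cfsg.Geo Cfsg.Agent.Lead.Asch Cfsg.Agent.Helper1.AschSp Cfsg.Agent.Helper9.AschC6
  Cfsg.Agent.Helper2.AschTr Cfsg.Agent.Helper6.AschComp
open scoped MatrixGroups Matrix Kronecker

/-- **Sp-C6**: the symplectic-type case inside a symplectic group, with `n = 2 ^ k` -/
theorem symplectic_type_case_sp_dim {n : ℕ} {F : Type*} [Field F] [Fintype F] (hn : 2 ≤ n) {H N : Subgroup (GL (Fin n) F)} (h : C6Hyp n F H N)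
    {f : (Fin n → F) → (Fin n → F) → F} (hf : IsSymplecticForm f) (hfix : FixesForm (matrixSet N) f) :
    (∃ p k : ℕ, IsSymplecticTypeGroup 2 N ∧ ActsAbsolutelyIrreducibly (matrixSet N) ∧ N ≤ similarityGroup f ∧
      FixesForm (matrixSet N) f ∧ p.Prime ∧ Odd p ∧ Fintype.card F = p ∧ Nat.card N = 2 ^ (1 + 2 * k) ∧ Nat.card (Subgroup.center N) = 2 ∧
      IsOfMinusType k N ∧ n = 2 ^ k ∧ H ≤ subgroupNormalizer N) ∨
    (∃ (F₁ : Subfield F) (r : ℕ) (Pm : GL (Fin n) F) (ζ : F), r.Prime ∧ Fintype.card F = Nat.card F₁ ^ r ∧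
      ζ ≠ 0 ∧ IsFormRationalStructure f F₁ ζ Pm ∧ H ≤ subfieldSubgroup F₁ Pm) := by
  classical
  have hn0 : 0 < n := by omega
  haveI : NeZero n := ⟨by omega⟩
  haveI : Finite (GL (Fin n) F) := inferInstance
  obtain ⟨r, a, z, hs⟩ := c6_structure hn h
  have hsym : SymC n F N := ⟨hn0, h.abs, h.comm⟩
  have hceq := center_eq_scalars hsym
  -- the centre has exponent 2
  have hc2 : ∀ x : Subgroup.center N, x ^ 2 = 1 := by
    intro x
    have hx : ((x : N) : GL (Fin n) F) ∈ scalars (Fin n) F := by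
      have h1 : (x : N) ∈ Subgroup.center N := x.2
      have h3 : (x : N) ∈ (scalars (Fin n) F).subgroupOf N := hceq ▸ h1
      exact Subgroup.mem_subgroupOf.1 h3
    rw [scalars_eq_range] at hx
    obtain ⟨c, hc⟩ := hx
    have hcN : sc n F c ∈ N := by rw [hc]; exact (x : N).2
    have hcc := scalar_sq_of_fixes hn0 hf hfix c hcN
    have hcu : c * c = 1 := Units.ext (by rw [Units.val_mul, hcc, Units.val_one])
    apply Subtype.ext
    apply Subtype.ext
    show ((x : N) : GL (Fin n) F) ^ 2 = 1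
    rw [← hc, ← map_pow, pow_two, hcu, map_one]
  haveI hcyc : IsCyclic (Subgroup.center N) :=
    hs.cyc (Subgroup.center N) inferInstance inferInstance
  have hz2 : z ∣ 2 := by
    rw [← hs.card_center, ← IsCyclic.exponent_eq_card]
    exact Monoid.exponent_dvd_of_forall_pow_eq_one hc2
  have hzle : z ≤ 2 := Nat.le_of_dvd (by norm_num) hz2
  obtain ⟨hr2, hzeq⟩ : r = 2 ∧ z = 2 := by
    rcases hs.z_cases with ⟨hr, hz⟩ | ⟨hr, hz⟩ | ⟨hr, hz⟩
    · exfalso
      have := hs.prime.two_le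
      omega
    · exact ⟨hr, hz⟩
    · omega
  subst hr2
  subst hzeq
  have hzdvd := hs.z_dvd
  have hodd : Odd (Fintype.card F) := by
    have h1 : 1 ≤ Fintype.card F := Fintype.card_pos
    rw [Nat.odd_iff]
    omega
  have h2 : (2 : F) ≠ 0 := by
    intro h20
    have hchar : ringChar F = 2 :=
      CharP.ringChar_of_prime_eq_zero Nat.prime_two (by exact_mod_cast h20)
    have := FiniteField.even_card_of_char_two hchar
    rw [Nat.odd_iff] at hodd
    omega
  rcases field_cases 2 hzdvd with ⟨τ, q₁, m, hm, hq, hzq, hτ⟩ | ⟨p, e, hmin⟩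
  · -- subfield exit
    right
    obtain ⟨F₁, h0, hreal⟩ := realisable_of_nonminimal hn h hs τ q₁ m hm hq hzq hτ
    exact Cfsg.Agent.Helper1.AschSp.subfield_symp f hf hfix h.nzes h.abs F₁ h0 hreal
  · -- the prime field: class 6
    left
    obtain ⟨hp, hchar, hcard, hzd, hmind⟩ := hmin
    have hepos : 0 < e := by
      rcases Nat.eq_zero_or_pos e with h0 | h0
      · rw [h0, pow_zero] at hcard
        have := Fintype.one_lt_card (α := F)
        omega
      · exact h0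
    have hpodd : Odd p := by
      rcases hp.eq_two_or_odd' with hp2 | hpo
      · exfalso
        rw [hcard, hp2] at hodd
        have : Even (2 ^ e) := (Nat.even_pow' hepos.ne').2 even_two
        exact (Nat.not_odd_iff_even.2 this) hodd
      · exact hpo
    have he1 : e = 1 := by
      by_contra hne
      have h1 : 1 < e := by omega
      apply hmind 1 (by norm_num) h1
      rw [pow_one]
      obtain ⟨k, hk⟩ := hpodd
      exact ⟨k, by omega⟩
    rw [he1, pow_one] at hcard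
    refine ⟨p, a, ⟨hs.prime, hs.pgroup, hs.cyc, hs.exponent⟩, h.abs, ?_, hfix, hp, hpodd, hcard, ?_, hs.card_center, ?_, hs.dim,
      Cfsg.Agent.Helper6.AschGen.le_subgroupNormalizer_of_nzes h.nzes⟩
    · -- N ≤ similarityGroup f
      intro g hg
      refine ⟨1, fun u v => ?_⟩
      rw [Units.val_one, one_mul]
      exact hfix _ (mem_matrixSet_iff.2 ⟨g, hg, rfl⟩) u v
    · rw [hs.card, pow_add, pow_one]
    · exact isOfMinusType_of_symplectic hsym h2 hf hfix hs.dim (by rw [← hceq, hs.card_center])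

/-- The conclusion of the general subgroup structure theorem for a subgroup `H` of the isometry group of the
symplectic form `f` in dimension `2m` (with `≤` instead of `= · ⊓ Sp`), with the dimension data. -/
def GSpConclD {ι : Type} [Fintype ι] [DecidableEq ι] {F : Type*} [Field F] [Fintype F] (m : ℕ)
    (f : (ι → F) → (ι → F) → F) (H : Subgroup (GL ι F)) : Prop :=
  (∃ W : Submodule F (ι → F), W ≠ ⊥ ∧ IsTotallySingularFor f W ∧ H ≤ subspaceStabilizer W) ∨
  (∃ W : Submodule F (ι → F), W ≠ ⊥ ∧ IsNondegenerateOn f W ∧ Module.finrank F W < m ∧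
      H ≤ subspaceStabilizer W) ∨
  (∃ (t k : ℕ) (D : Fin t → Submodule F (ι → F)), IsNondegenerateMDecomposition f k D ∧ t * k = 2 * m ∧ Even k ∧
      ¬ (Fintype.card F = 2 ∧ k = 2) ∧ H ≤ decompositionStabilizer D) ∨
  (∃ (D : Fin 2 → Submodule F (ι → F)), Odd (Fintype.card F) ∧ IsMDecomposition m D ∧
      (∀ i, IsTotallySingularFor f (D i)) ∧ H ≤ decompositionStabilizer D) ∨
  (∃ (F₀ : Subfield F) (r : ℕ) (P : GL ι F) (ζ : F), r.Prime ∧ Fintype.card F = Nat.card F₀ ^ r ∧ ζ ≠ 0 ∧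
      IsFormRationalStructure f F₀ ζ P ∧ H ≤ subfieldSubgroup F₀ P) ∨
  (∃ (R : Subgroup (GL ι F)) (p k : ℕ), IsSymplecticTypeGroup 2 R ∧
      ActsAbsolutelyIrreducibly (matrixSet R) ∧ R ≤ similarityGroup f ∧ FixesForm (matrixSet R) f ∧
      p.Prime ∧ Odd p ∧ Fintype.card F = p ∧
      Nat.card R = 2 ^ (1 + 2 * k) ∧ Nat.card (Subgroup.center R) = 2 ∧ IsOfMinusType k R ∧
      2 * m = 2 ^ k ∧ H ≤ subgroupNormalizer R) ∨
  (∃ Q : (ι → F) → F, ¬ Odd (Fintype.card F) ∧ IsNondegenerateQuadraticForm Q ∧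
      (∀ u v, QuadraticMap.polar Q u v = f u v) ∧ H ≤ quadSimilarityGroup Q) ∨
  (∃ (r : ℕ) (K : Subalgebra F (Matrix ι ι F)), r.Prime ∧ r ∣ 2 * m ∧ IsFieldSubalgebra r K ∧
      IsSelfAdjointFor f K ∧ (∀ k ∈ K, ∀ v, f (k *ᵥ v) v = 0) ∧ H ≤ subalgebraNormalizer K) ∨
  (∃ K : Subalgebra F (Matrix ι ι F), Odd (Fintype.card F) ∧ IsFieldSubalgebra 2 K ∧
      IsAdjointClosedFor f K ∧ ¬ IsSelfAdjointFor f K ∧ H ≤ subalgebraNormalizer K) ∨
  (∃ (n₁ n₂ : ℕ) (e : ι ≃ Fin n₁ × Fin n₂) (P : GL ι F)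
      (f₁ : (Fin n₁ → F) → (Fin n₁ → F) → F) (f₂ : (Fin n₂ → F) → (Fin n₂ → F) → F),
      Odd (Fintype.card F) ∧ 2 ≤ n₁ ∧ 2 * m = n₁ * n₂ ∧ 3 ≤ n₂ ∧ IsSymplecticForm f₁ ∧ IsSymmetricForm f₂ ∧
      IsTensorFormStructure id f f₁ f₂ e P ∧ H ≤ tensorProductSubgroup n₁ n₂ e P) ∨
  (∃ (k t : ℕ) (e : ι ≃ (Fin t → Fin k)) (P : GL ι F) (f₁ : (Fin k → F) → (Fin k → F) → F),
      Odd (Fintype.card F) ∧ Odd t ∧ 3 ≤ t ∧ ¬ (Fintype.card F = 3 ∧ k = 2) ∧ IsSymplecticForm f₁ ∧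
      IsTensorPowerFormStructure id f f₁ e P ∧ H ≤ tensorWreathSubgroup k t e P) ∨
  InSymplecticResidualClass H


/-- The general subgroup structure theorem for groups of isometries of a symplectic form in dimension `n = 2m`, with
the dimension data. -/
theorem asch_gsp_d {n : ℕ} {F : Type*} [Field F] [Fintype F] (hp : Sp12Pieces n F) (hperfect : SpPerfectCase n F) {m : ℕ} (hnm : n = 2 * m)
    (hm : 2 ≤ m) (f : (Fin n → F) → (Fin n → F) → F) (hf : IsSymplecticForm f) (H : Subgroup (GL (Fin n) F))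
    (hfix : FixesForm (matrixSet H) f) : GSpConclD m f H := by
  have hq2 : 2 ≤ Fintype.card F := Fintype.one_lt_card
  have hn2 : 2 ≤ n := by omega
  -- the exits
  have exitQ : ¬ Odd (Fintype.card F) → QuadExit f H → GSpConclD m f H := by
    rintro ho ⟨Q, hQ, hpol, hle⟩
    exact Or.inr (Or.inr (Or.inr (Or.inr (Or.inr (Or.inr (Or.inl ⟨Q, ho, hQ, hpol, hle⟩))))))
  have exitD : ∀ (t k : ℕ) (D : Fin t → Submodule F (Fin n → F)), IsNondegenerateMDecomposition f k D →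
      t * k = n → H ≤ decompositionStabilizer D → GSpConclD m f H := by
    intro t k D hD htk hle
    by_cases hq : Fintype.card F = 2 ∧ k = 2
    · obtain ⟨hq2', rfl⟩ := hq
      exact exitQ (by rw [hq2']; decide) (hp.evenDecomp hq2' f hf D hD H hfix hle)
    · have ht2 := hD.decomp.two_le
      have hev : Even k := by
        have h1 := hp.evenRank f hf (D ⟨0, by omega⟩) (hD.nondegenerate _)
        rwa [hD.decomp.finrank_eq] at h1
      exact Or.inr (Or.inr (Or.inl ⟨t, k, D, hD, by omega, hev, hq, hle⟩))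
  have exitP : ∀ (k : ℕ) (D : Fin 2 → Submodule F (Fin n → F)), IsMDecomposition k D → 2 * k = n →
      (∀ i, IsTotallySingularFor f (D i)) → H ≤ decompositionStabilizer D → GSpConclD m f H := by
    intro k D hD h2k hts hle
    have hkm : k = m := by omega
    subst hkm
    by_cases ho : Odd (Fintype.card F)
    · exact Or.inr (Or.inr (Or.inr (Or.inl ⟨D, ho, hD, hts, hle⟩)))
    · exact exitQ ho (hp.evenPair ho f hf k D hD hts H hfix hle)
  have exitNS : ∀ K : Subalgebra F (Matrix (Fin n) (Fin n) F), IsFieldSubalgebra 2 K → IsAdjointClosedFor f K →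
      ¬ IsSelfAdjointFor f K → H ≤ subalgebraNormalizer K → GSpConclD m f H := by
    intro K hK hadj hnsa hle
    by_cases ho : Odd (Fintype.card F)
    · exact Or.inr (Or.inr (Or.inr (Or.inr (Or.inr (Or.inr (Or.inr (Or.inr (Or.inl
        ⟨K, ho, hK, hadj, hnsa, hle⟩))))))))
    · exact exitQ ho (hp.evenField ho f hf K hK hadj hnsa H hfix hle)
  -- Step 1: reducible
  by_cases hirr : ActsIrreducibly (matrixSet H)
  swap
  · rcases hp.reducibleG f hf H hfix hirr with ⟨W, h0, hts, hle⟩ | ⟨W, h0, hnd, hdim, hle⟩ | ⟨k, D, hD, h2k, hle⟩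
    · exact Or.inl ⟨W, h0, hts, hle⟩
    · exact Or.inr (Or.inl ⟨W, h0, hnd, by omega, hle⟩)
    · exact exitD 2 k D hD (by omega) hle
  have exitK : ∀ (r : ℕ) (K : Subalgebra F (Matrix (Fin n) (Fin n) F)), r.Prime → r ∣ n →
      IsFieldSubalgebra r K → IsAdjointClosedFor f K → H ≤ subalgebraNormalizer K → GSpConclD m f H := by
    intro r K hr hrn hK hadj hle
    by_cases hsa : IsSelfAdjointFor f K
    · have halt := hp.altOfSelfAdj f hf H hfix hirr r K hK hsa hle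
      exact Or.inr (Or.inr (Or.inr (Or.inr (Or.inr (Or.inr (Or.inr (Or.inl ⟨r, K, hr, hnm ▸ hrn, hK, hsa, halt, hle⟩)))))))
    · rcases hr.eq_two_or_odd' with rfl | hodd
      · exact exitNS K hK hadj hsa hle
      · exact absurd (hp.adjOdd f hf r K hodd hK hadj) hsa
  have exitT : Odd (Fintype.card F) → ∀ (n₁ n₂ : ℕ) (e : Fin n ≃ Fin n₁ × Fin n₂) (P : GL (Fin n) F)
      (f₁ : (Fin n₁ → F) → (Fin n₁ → F) → F) (f₂ : (Fin n₂ → F) → (Fin n₂ → F) → F), 2 ≤ n₁ → 2 ≤ n₂ →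
      ((IsSymplecticForm f₁ ∧ IsSymmetricForm f₂) ∨ (IsSymmetricForm f₁ ∧ IsSymplecticForm f₂)) →
      IsTensorFormStructure id f f₁ f₂ e P → H ≤ tensorProductSubgroup n₁ n₂ e P → GSpConclD m f H := by
    intro ho n₁ n₂ e P f₁ f₂ h1 h2 hforms hT hle
    have key : ∀ (k₁ k₂ : ℕ) (e' : Fin n ≃ Fin k₁ × Fin k₂) (g₁ : (Fin k₁ → F) → (Fin k₁ → F) → F)
        (g₂ : (Fin k₂ → F) → (Fin k₂ → F) → F), 2 ≤ k₁ → 2 ≤ k₂ → IsSymplecticForm g₁ → IsSymmetricForm g₂ →
        IsTensorFormStructure id f g₁ g₂ e' P → H ≤ tensorProductSubgroup k₁ k₂ e' P → GSpConclD m f H := by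
      intro k₁ k₂ e' g₁ g₂ hk1 hk2 hg1 hg2 hT' hle'
      have hcard : n = k₁ * k₂ := by
        have := Fintype.card_congr e'
        simpa using this
      rcases Nat.lt_or_ge k₂ 3 with hlt | hge
      · have hk22 : k₂ = 2 := by omega
        subst hk22
        have hk1m : k₁ = m := by omega
        rcases hp.tensorO2 ho f hf k₁ e' P g₁ g₂ hg1 hg2 hT' H hfix hle' with ⟨D, hD, hts, hDle⟩ |
          ⟨K, hK, hadj, hnsa, hKle⟩
        · exact exitP k₁ D hD (by omega) hts hDle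
        · exact exitNS K hK hadj hnsa hKle
      · exact Or.inr (Or.inr (Or.inr (Or.inr (Or.inr (Or.inr (Or.inr (Or.inr (Or.inr (Or.inl
          ⟨k₁, k₂, e', P, g₁, g₂, ho, hk1, by omega, hge, hg1, hg2, hT', hle'⟩)))))))))
    rcases hforms with ⟨hf1, hf2⟩ | ⟨hf1, hf2⟩
    · exact key n₁ n₂ e f₁ f₂ h1 h2 hf1 hf2 hT hle
    · obtain ⟨hT', heq⟩ := hp.tensorSwap f _ _ e P f₁ f₂ hT
      rw [heq] at hle
      exact key n₂ n₁ _ f₂ f₁ h2 h1 hf2 hf1 hT' hle
  -- Step 2: Clifford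
  by_cases hexit : GSpConclD m f H
  · exact hexit
  have hall : ∀ M : Subgroup (GL (Fin n) F), M ≤ H → Nzes H M →
      M ≤ scalars (Fin n) F ∨ ActsAbsolutelyIrreducibly (matrixSet M) := by
    intro M hMH hMnz
    rcases hp.cliffordG f hf hfix hirr hMH hMnz with ⟨t, k, D, hD, htk, hle⟩ | ⟨k, D, hD, h2k, hts, hle⟩ |
      ⟨r, K, hr, hrn, hK, hadj, hle⟩ | ⟨ho, n₁, n₂, e, P, f₁, f₂, h1, h2, hforms, hT, hle⟩ | ⟨ho, hQ⟩ | h | h
    · exact absurd (exitD t k D hD htk hle) hexit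
    · exact absurd (exitP k D hD h2k hts hle) hexit
    · exact absurd (exitK r K hr hrn hK hadj hle) hexit
    · exact absurd (exitT ho n₁ n₂ e P f₁ f₂ h1 h2 hforms hT hle) hexit
    · exact absurd (exitQ ho hQ) hexit
    · exact Or.inl h
    · exact Or.inr h
  have hHns : ¬ H ≤ scalars (Fin n) F := not_le_scalars_of_irred hn2 hirr
  obtain ⟨N, hNH, hNnz, hNns, hmin⟩ := exists_minimal hHns
  have hNabs : ActsAbsolutelyIrreducibly (matrixSet N) := (hall N hNH hNnz).resolve_left hNns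
  have hNfix : FixesForm (matrixSet N) f := fun s hs => hfix s (matrixSet_mono hNH hs)
  by_cases hperf : ⁅N, N⁆ = N
  · -- the perfect case
    rcases hperfect f hf hfix hNH hNnz hNns hall hmin hperf with
      ⟨ho, k, t, e, P, f₁, hto, ht3, hex, hf₁, hT, hle⟩ | ⟨ho, hQ⟩ | ⟨hsimp, hnab, hcent⟩
    · exact Or.inr (Or.inr (Or.inr (Or.inr (Or.inr (Or.inr (Or.inr (Or.inr (Or.inr (Or.inr (Or.inl
        ⟨k, t, e, P, f₁, ho, hto, ht3, hex, hf₁, hT, hle⟩))))))))))
    · exact exitQ ho hQ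
    by_cases hsub : ∃ F₀ : Subfield F, F₀ ≠ ⊤ ∧ RealisableOver F₀ (matrixSet N)
    · obtain ⟨F₀, h0, hr⟩ := hsub
      exact Or.inr (Or.inr (Or.inr (Or.inr (Or.inl (hp.subfield f hf hNfix hNnz hNabs F₀ h0 hr)))))
    by_cases hQ : ∃ Q : (Fin n → F) → F, IsNondegenerateQuadraticForm Q ∧ FixesQuadForm (matrixSet N) Q
    · obtain ⟨Q, hQ, hQfix⟩ := hQ
      by_cases ho : Odd (Fintype.card F)
      · exact absurd hQfix (hp.quadOdd ho f hf N hNfix hNabs Q hQ)
      · exact exitQ ho (hp.quadEven ho f hf hNfix hNnz hNabs Q hQ hQfix)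
    by_cases hU : ∃ (σ : F ≃+* F) (g : (Fin n → F) → (Fin n → F) → F), IsUnitaryForm σ g ∧
        FixesForm (matrixSet N) g
    · obtain ⟨σ, g, hg, hgfix⟩ := hU
      exact absurd (hp.unitary f hf N hNfix hNabs σ g hg hgfix) hsub
    · refine Or.inr (Or.inr (Or.inr (Or.inr (Or.inr (Or.inr (Or.inr (Or.inr (Or.inr (Or.inr (Or.inr
        ⟨N, ?_, hQ, hU⟩))))))))))
      exact
        { le := hNH
          normal := hNnz
          perfect := hperf
          simple := hsimp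
          nonabelian := hnab
          centralizer_scalar := hcent
          absIrred := hNabs
          no_subfield := fun F₀ h0 hr => hsub ⟨F₀, h0, hr⟩ }
  · -- the symplectic-type case
    have hcomm : ⁅N, N⁆ ≤ scalars (Fin n) F := by
      by_contra hc
      exact hperf (hmin _ (Subgroup.commutator_le_self N) (nzes_commutator hNnz) hc)
    rcases symplectic_type_case_sp_dim hn2 (H := H) (N := N) ⟨hNH, hNnz, hNns, hNabs, hmin, hcomm⟩ hf hNfix with
      ⟨p, k, h1, h2, h3, h3', h4, h5, h6, h7, h8, h9, hdim, h10⟩ | hsub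
    · exact Or.inr (Or.inr (Or.inr (Or.inr (Or.inr (Or.inl
        ⟨N, p, k, h1, h2, h3, h3', h4, h5, h6, h7, h8, h9, hnm ▸ hdim, h10⟩)))))
    · exact Or.inr (Or.inr (Or.inr (Or.inr (Or.inl hsub))))

/-- the pull-back of a group fixing the transported form fixes the form -/
theorem fixesForm_pb_d {ι κ : Type} [Fintype ι] [DecidableEq ι] [Fintype κ] [DecidableEq κ] {F : Type*} [Field F]
    (e : ι ≃ κ) {R' : Subgroup (GL κ F)} {f : (ι → F) → (ι → F) → F}
    (h : FixesForm (matrixSet R') (pf e f)) : FixesForm (matrixSet (pb e R')) f := by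
  intro s hs u v
  obtain ⟨g, hg, rfl⟩ := hs
  have h1 := h _ ⟨glReindex e g, (mem_pb e).1 hg, rfl⟩ ((th e).symm u) ((th e).symm v)
  unfold pf at h1
  rw [th_mulVec, th_mulVec, LinearEquiv.apply_symm_apply, LinearEquiv.apply_symm_apply] at h1
  exact h1

/-- class 6, with one more property of `k` carried along -/
theorem pull_class6_dim {ι κ : Type} [Fintype ι] [DecidableEq ι] [Fintype κ] [DecidableEq κ] {F : Type*} [Field F]
    (X : ℕ → Prop) (e : ι ≃ κ) {f : (ι → F) → (ι → F) → F} {H : Subgroup (GL ι F)} {q : ℕ}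
    (h : ∃ (R : Subgroup (GL κ F)) (p k : ℕ), IsSymplecticTypeGroup 2 R ∧
      ActsAbsolutelyIrreducibly (matrixSet R) ∧ R ≤ similarityGroup (pf e f) ∧
      FixesForm (matrixSet R) (pf e f) ∧ p.Prime ∧ Odd p ∧ q = p ∧
      Nat.card R = 2 ^ (1 + 2 * k) ∧ Nat.card (Subgroup.center R) = 2 ∧ IsOfMinusType k R ∧ X k ∧
      H.map (glReindex e : GL ι F ≃* GL κ F).toMonoidHom ≤ subgroupNormalizer R) :
    ∃ (R : Subgroup (GL ι F)) (p k : ℕ), IsSymplecticTypeGroup 2 R ∧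
      ActsAbsolutelyIrreducibly (matrixSet R) ∧ R ≤ similarityGroup f ∧ FixesForm (matrixSet R) f ∧
      p.Prime ∧ Odd p ∧ q = p ∧
      Nat.card R = 2 ^ (1 + 2 * k) ∧ Nat.card (Subgroup.center R) = 2 ∧ IsOfMinusType k R ∧ X k ∧
      H ≤ subgroupNormalizer R := by
  obtain ⟨R', p, k, hst, habs, hsim, hfix, hp, hpo, hq, hcard, hcen, hminus, hX, hle⟩ := h
  refine ⟨pb e R', p, k, isSymplecticTypeGroup_of_mulEquiv (pbEquiv e R') hst,
    actsAbsolutelyIrreducibly_pb e habs, ?_, fixesForm_pb_d e hfix, hp, hpo, hq, ?_, ?_,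
    isOfMinusType_of_mulEquiv (pbEquiv e R') hminus, hX, ?_⟩
  · intro g hg
    obtain ⟨c, hc⟩ := hsim ((mem_pb e).1 hg)
    refine ⟨c, fun u v => ?_⟩
    have h1 := hc ((th e).symm u) ((th e).symm v)
    unfold pf at h1
    rw [th_mulVec, th_mulVec, LinearEquiv.apply_symm_apply, LinearEquiv.apply_symm_apply] at h1
    exact h1
  · rw [Nat.card_congr (pbEquiv e R').toEquiv]; exact hcard
  · rw [Nat.card_congr (Subgroup.centerCongr (pbEquiv e R')).toEquiv]; exact hcen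
  · intro g hg
    have h1 := hle ⟨g, hg, rfl⟩
    unfold subgroupNormalizer at h1 ⊢
    rw [Subgroup.mem_normalizer_iff] at h1 ⊢
    intro y
    have h2 := h1 (glReindex e y)
    show glReindex e y ∈ R' ↔ glReindex e (g * y * g⁻¹) ∈ R'
    rw [map_mul, map_mul, map_inv]
    exact h2

/-- transport of the conclusion `GSpConclD` along a bijection of index types -/
theorem gspConclD_of_map {ι κ : Type} [Fintype ι] [DecidableEq ι] [Fintype κ] [DecidableEq κ] {F : Type*} [Field F] [Fintype F] (m : ℕ) (e : ι ≃ κ) (f : (ι → F) → (ι → F) → F) (H : Subgroup (GL ι F))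
    (h : GSpConclD m (pf e f) (H.map (glReindex e : GL ι F ≃* GL κ F).toMonoidHom)) : GSpConclD m f H := by
  rcases h with h | h | ⟨t, k, D, hD, htk, hev, hq2, hle⟩ | ⟨D, hq, hD, hts, hle⟩ | h | h | ⟨Q, hq, hQ, hpol, hle⟩ | ⟨r, K, hr, hrn, h⟩ |
    ⟨K, hq, h⟩ | ⟨n₁, n₂, e', P, f₁, f₂, hq, hn₁, hnn, hn₂, h⟩ | ⟨k, t, e', P, f₁, hq, ht, ht3, hq3, h⟩ | h
  · exact Or.inl (pull_ts e h)
  · exact Or.inr (Or.inl (pull_nondegSub e (· < m) h))
  · obtain ⟨D', hD', hle'⟩ := pull_nondegDecomp e ⟨D, hD, hle⟩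
    exact Or.inr (Or.inr (Or.inl ⟨t, k, D', hD', htk, hev, hq2, hle'⟩))
  · obtain ⟨D', hD', hts', hle'⟩ := pull_tsPair e ⟨D, hD, hts, hle⟩
    exact Or.inr (Or.inr (Or.inr (Or.inl ⟨D', hq, hD', hts', hle'⟩)))
  · exact Or.inr (Or.inr (Or.inr (Or.inr (Or.inl (pull_subfield e h)))))
  · exact Or.inr (Or.inr (Or.inr (Or.inr (Or.inr (Or.inl (pull_class6_dim (fun k => 2 * m = 2 ^ k) e h))))))
  · obtain ⟨Q', hQ', hpol', hle'⟩ := pull_quad e ⟨Q, hQ, hpol, hle⟩
    exact Or.inr (Or.inr (Or.inr (Or.inr (Or.inr (Or.inr (Or.inl ⟨Q', hq, hQ', hpol', hle'⟩))))))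
  · obtain ⟨K', hK'⟩ := pull_fieldSelfAdj e ⟨K, h⟩
    exact Or.inr (Or.inr (Or.inr (Or.inr (Or.inr (Or.inr (Or.inr (Or.inl ⟨r, K', hr, hrn, hK'⟩)))))))
  · obtain ⟨K', hK'⟩ := pull_fieldAdjClosed e ⟨K, h⟩
    exact Or.inr (Or.inr (Or.inr (Or.inr (Or.inr (Or.inr (Or.inr (Or.inr (Or.inl ⟨K', hq, hK'⟩))))))))
  · obtain ⟨e'', P', g₁, g₂, h'⟩ := pull_tensor e id IsSymplecticForm IsSymmetricForm ⟨e', P, f₁, f₂, h⟩
    exact Or.inr (Or.inr (Or.inr (Or.inr (Or.inr (Or.inr (Or.inr (Or.inr (Or.inr (Or.inl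
      ⟨n₁, n₂, e'', P', g₁, g₂, hq, hn₁, hnn, hn₂, h'⟩)))))))))
  · obtain ⟨e'', P', g₁, h'⟩ := pull_tensorWreath e id IsSymplecticForm ⟨e', P, f₁, h⟩
    exact Or.inr (Or.inr (Or.inr (Or.inr (Or.inr (Or.inr (Or.inr (Or.inr (Or.inr (Or.inr (Or.inl
      ⟨k, t, e'', P', g₁, hq, ht, ht3, hq3, h'⟩))))))))))
  · exact Or.inr (Or.inr (Or.inr (Or.inr (Or.inr (Or.inr (Or.inr (Or.inr (Or.inr (Or.inr (Or.inr
      (pull_residual e h)))))))))))

end Cfsg.Agent.Helper6.AschGSp
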