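import Mathlib
import Cfsg.Prelude.Def_LocalStructure
import Cfsg.Agent.Helper5.Basic
import Cfsg.Agent.Helper5.Cores
import Cfsg.Agent.Helper5.Misc
import Cfsg.Agent.Helper5.CharP
import Cfsg.Agent.Helper5.SylowSub
import Cfsg.Agent.Helper5.StrongEmb
import Cfsg.Agent.Helper5.PReducedRel2
import Cfsg.Agent.S2845

/-!
helper6: base library for members of `𝔐_G(S)`, compatible with `Helper5.PReducedRel2` (which clashes with
`Helper5.CharP2`): copies of the needed `CharP2` lemmas under the namespace `FrakN`, the basic facts of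
`Helper6/FrakMA`, and the membership criterion for `𝓛_H` in groups of parabolic characteristic `p`.
-/

set_option autoImplicit false

namespace Cfsg.Agent.Helper6.FrakN

open Cfsg Cfsg.Agent.Helper5

variable {G : Type*} [Group G]

theorem mem_normalizer_inf (X K : Subgroup G) (y : G) (hX : y ∈ Subgroup.normalizer (X : Set G))
    (hK : y ∈ Subgroup.normalizer (K : Set G)) : y ∈ Subgroup.normalizer ((X ⊓ K : Subgroup G) : Set G) := by
  rw [Subgroup.mem_normalizer_iff] at hX hK ⊢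
  intro n
  exact ⟨fun h => ⟨(hX n).mp h.1, (hK n).mp h.2⟩, fun h => ⟨(hX n).mpr h.1, (hK n).mpr h.2⟩⟩

/-! ### `O_p(L)` as a subgroup of the ambient group -/

theorem pCore_map_subtype_le (p : ℕ) (L : Subgroup G) : (Cfsg.pCore p ↥L).map L.subtype ≤ L := by
  rintro _ ⟨y, -, rfl⟩
  exact y.2

theorem isPGroup_pCore_map_subtype (p : ℕ) (L : Subgroup G) :
    IsPGroup p ((Cfsg.pCore p ↥L).map L.subtype) :=
  (isPGroup_pCore p).map _

theorem le_normalizer_pCore_map_subtype (p : ℕ) (L : Subgroup G) :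
    L ≤ Subgroup.normalizer (((Cfsg.pCore p ↥L).map L.subtype : Subgroup G) : Set G) := by
  intro l hl
  have hn : (Cfsg.pCore p ↥L).Normal := inferInstance
  have aux : ∀ m : G, m ∈ L → ∀ x ∈ (Cfsg.pCore p ↥L).map L.subtype,
      m * x * m⁻¹ ∈ (Cfsg.pCore p ↥L).map L.subtype := by
    rintro m hm _ ⟨y, hy, rfl⟩
    exact ⟨⟨m, hm⟩ * y * ⟨m, hm⟩⁻¹, hn.conj_mem y hy ⟨m, hm⟩, rfl⟩
  rw [Subgroup.mem_normalizer_iff]
  intro x
  constructor
  · exact aux l hl x
  · intro hx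
    have := aux l⁻¹ (Subgroup.inv_mem _ hl) _ hx
    have h4 : l⁻¹ * (l * x * l⁻¹) * l⁻¹⁻¹ = x := by group
    rwa [h4] at this

/-- `O_p(L)` contains every `p`-subgroup of `L` normalized by `L`. -/
theorem le_pCore_map_subtype {p : ℕ} (L N : Subgroup G) (hNL : N ≤ L) (hN : IsPGroup p N)
    (hLN : L ≤ Subgroup.normalizer (N : Set G)) : N ≤ (Cfsg.pCore p ↥L).map L.subtype := by
  have h1 : N.subgroupOf L ≤ Cfsg.pCore p ↥L := by
    apply le_pCore
    · exact (Subgroup.normal_subgroupOf_iff_le_normalizer hNL).mpr hLN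
    · exact hN.comap_subtype
  intro n hn
  exact ⟨⟨n, hNL hn⟩, h1 (Subgroup.mem_subgroupOf.mpr hn), rfl⟩

theorem mem_centralizer_pCore_iff (p : ℕ) (L : Subgroup G) (c : ↥L) :
    c ∈ Subgroup.centralizer (Cfsg.pCore p ↥L : Set ↥L) ↔
      (c : G) ∈ Subgroup.centralizer (((Cfsg.pCore p ↥L).map L.subtype : Subgroup G) : Set G) := by
  rw [Subgroup.mem_centralizer_iff, Subgroup.mem_centralizer_iff]
  constructor
  · rintro h _ ⟨y, hy, rfl⟩
    have := congrArg Subtype.val (h y hy)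
    simpa using this
  · intro h y hy
    have := h (y : G) ⟨y, hy, rfl⟩
    exact Subtype.ext (by simpa using this)

/-- If `X ≤ L` is normalized by `L`, every `p`-subgroup `N ≤ X` normalized by `X` lies in `O_p(L)`. -/
theorem le_pCore_of_normal_in_normal [Finite G] {p : ℕ} [Fact p.Prime] (L X N : Subgroup G) (hXL : X ≤ L)
    (hLX : L ≤ Subgroup.normalizer (X : Set G)) (hNX : N ≤ X) (hN : IsPGroup p N)
    (hXN : X ≤ Subgroup.normalizer (N : Set G)) : N ≤ (Cfsg.pCore p ↥L).map L.subtype := by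
  obtain ⟨S, -, hSX, hSp, -, hSconj⟩ := exists_sylow_of_subgroup X ⊥ bot_le (IsPGroup.of_bot (p := p))
  have hconjS : ∀ l ∈ L, N.map (MulAut.conj l).toMonoidHom ≤ S := by
    intro l hl
    set E := N.map (MulAut.conj l).toMonoidHom with hE
    have hlX : ∀ y ∈ X, l⁻¹ * y * l ∈ X := by
      intro y hy
      have := (Subgroup.mem_normalizer_iff.mp (hLX (Subgroup.inv_mem _ hl)) y).mp hy
      simpa using this
    have hEX : E ≤ X := by
      rintro _ ⟨n, hn, rfl⟩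
      have := (Subgroup.mem_normalizer_iff.mp (hLX hl) n).mp (hNX hn)
      simpa using this
    have hEn : ∀ y ∈ X, ∀ x ∈ E, y * x * y⁻¹ ∈ E := by
      rintro y hy _ ⟨n, hn, rfl⟩
      have h1 : (l⁻¹ * y * l) * n * (l⁻¹ * y * l)⁻¹ ∈ N :=
        (Subgroup.mem_normalizer_iff.mp (hXN (hlX y hy)) n).mp hn
      refine ⟨(l⁻¹ * y * l) * n * (l⁻¹ * y * l)⁻¹, h1, ?_⟩
      simp only [MulEquiv.coe_toMonoidHom, MulAut.conj_apply]
      group
    obtain ⟨k, hkX, hk⟩ := hSconj E hEX (hN.map _)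
    intro x hx
    have h2 : k⁻¹ * x * k⁻¹⁻¹ ∈ E := hEn k⁻¹ (Subgroup.inv_mem _ hkX) x hx
    have h3 := hk _ h2
    have h4 : k * (k⁻¹ * x * k⁻¹⁻¹) * k⁻¹ = x := by group
    rwa [h4] at h3
  set NL : Subgroup G := ⨆ l : ↥L, N.map (MulAut.conj (l : G)).toMonoidHom with hNL
  have hNLS : NL ≤ S := iSup_le fun l => hconjS l l.2
  have hNNL : N ≤ NL := by
    have h0 := le_iSup (fun l : ↥L => N.map (MulAut.conj (l : G)).toMonoidHom) 1
    have h1 : N.map (MulAut.conj ((1 : ↥L) : G)).toMonoidHom = N := by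
      rw [Subgroup.coe_one]; exact map_conj_one N
    rw [h1] at h0
    exact h0
  have hmap : ∀ m ∈ L, NL.map (MulAut.conj m).toMonoidHom ≤ NL := by
    intro m hm
    rw [hNL, Subgroup.map_iSup]
    apply iSup_le
    intro l
    rw [map_conj_map_conj]
    exact le_iSup (fun l : ↥L => N.map (MulAut.conj (l : G)).toMonoidHom) (⟨m, hm⟩ * l)
  have hnorm : L ≤ Subgroup.normalizer (NL : Set G) := by
    intro m hm
    rw [mem_normalizer_iff_map_conj]
    apply le_antisymm (hmap m hm)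
    have h1 := Subgroup.map_mono (f := (MulAut.conj m).toMonoidHom) (hmap m⁻¹ (Subgroup.inv_mem _ hm))
    rw [map_conj_map_conj, mul_inv_cancel, map_conj_one] at h1
    exact h1
  exact hNNL.trans (le_pCore_map_subtype L NL (hNLS.trans (hSX.trans hXL)) (hSp.to_le hNLS) hnorm)

/-! ### The stability group of `R ≥ A` modulo `A` -/

/-- Elements normalizing `A` and `R` and acting trivially on `R` modulo `A`. -/
def stabMod (R A : Subgroup G) : Subgroup G where
  carrier := {g | g ∈ Subgroup.normalizer (A : Set G) ∧ g ∈ Subgroup.normalizer (R : Set G) ∧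
    ∀ r ∈ R, r⁻¹ * (g * r * g⁻¹) ∈ A}
  one_mem' := ⟨Subgroup.one_mem _, Subgroup.one_mem _, fun r _ => by simp⟩
  mul_mem' := by
    rintro g h ⟨hgA, hgR, hg⟩ ⟨hhA, hhR, hh⟩
    refine ⟨Subgroup.mul_mem _ hgA hhA, Subgroup.mul_mem _ hgR hhR, ?_⟩
    intro r hr
    have h1 : r⁻¹ * (g * h * r * (g * h)⁻¹) =
        (r⁻¹ * (g * r * g⁻¹)) * (g * (r⁻¹ * (h * r * h⁻¹)) * g⁻¹) := by group
    rw [h1]
    exact Subgroup.mul_mem _ (hg r hr) ((Subgroup.mem_normalizer_iff.mp hgA _).mp (hh r hr))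
  inv_mem' := by
    rintro g ⟨hgA, hgR, hg⟩
    refine ⟨Subgroup.inv_mem _ hgA, Subgroup.inv_mem _ hgR, ?_⟩
    intro r hr
    have hs : g⁻¹ * r * g⁻¹⁻¹ ∈ R := (Subgroup.mem_normalizer_iff.mp (Subgroup.inv_mem _ hgR) r).mp hr
    have h1 := hg _ hs
    have h2 : r⁻¹ * (g⁻¹ * r * g⁻¹⁻¹) =
        ((g⁻¹ * r * g⁻¹⁻¹)⁻¹ * (g * (g⁻¹ * r * g⁻¹⁻¹) * g⁻¹))⁻¹ := by group
    rw [h2]
    exact Subgroup.inv_mem _ h1

theorem mem_stabMod_iff (R A : Subgroup G) (g : G) :
    g ∈ stabMod R A ↔ g ∈ Subgroup.normalizer (A : Set G) ∧ g ∈ Subgroup.normalizer (R : Set G) ∧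
      ∀ r ∈ R, r⁻¹ * (g * r * g⁻¹) ∈ A := Iff.rfl

theorem conj_mem_stabMod (R A : Subgroup G) (x g : G) (hxA : x ∈ Subgroup.normalizer (A : Set G))
    (hxR : x ∈ Subgroup.normalizer (R : Set G)) (hg : g ∈ stabMod R A) : x * g * x⁻¹ ∈ stabMod R A := by
  obtain ⟨hgA, hgR, hgT⟩ := hg
  refine ⟨Subgroup.mul_mem _ (Subgroup.mul_mem _ hxA hgA) (Subgroup.inv_mem _ hxA),
    Subgroup.mul_mem _ (Subgroup.mul_mem _ hxR hgR) (Subgroup.inv_mem _ hxR), ?_⟩
  intro r hr
  have hr' : x⁻¹ * r * x⁻¹⁻¹ ∈ R := (Subgroup.mem_normalizer_iff.mp (Subgroup.inv_mem _ hxR) r).mp hr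
  have h1 := hgT _ hr'
  have h2 := (Subgroup.mem_normalizer_iff.mp hxA _).mp h1
  have h3 : r⁻¹ * (x * g * x⁻¹ * r * (x * g * x⁻¹)⁻¹) =
      x * ((x⁻¹ * r * x⁻¹⁻¹)⁻¹ * (g * (x⁻¹ * r * x⁻¹⁻¹) * g⁻¹)) * x⁻¹ := by group
  rw [h3]
  exact h2

theorem mem_normalizer_stabMod (R A : Subgroup G) (x : G) (hxA : x ∈ Subgroup.normalizer (A : Set G))
    (hxR : x ∈ Subgroup.normalizer (R : Set G)) :
    x ∈ Subgroup.normalizer ((stabMod R A : Subgroup G) : Set G) := by
  rw [Subgroup.mem_normalizer_iff]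
  intro g
  constructor
  · exact conj_mem_stabMod R A x g hxA hxR
  · intro h
    have := conj_mem_stabMod R A x⁻¹ _ (Subgroup.inv_mem _ hxA) (Subgroup.inv_mem _ hxR) h
    have h4 : x⁻¹ * (x * g * x⁻¹) * x⁻¹⁻¹ = g := by group
    rwa [h4] at this

/-- A `p'`-element of the stability group which centralizes `A` centralizes the `p`-group `R`. -/
theorem commute_of_mem_stabMod {p : ℕ} [Fact p.Prime] (R A : Subgroup G) (hA : IsPGroup p A) (k : G)
    (hk : k ∈ stabMod R A) (hkp : (orderOf k).Coprime p) (hkA : ∀ a ∈ A, k * a = a * k) :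
    ∀ r ∈ R, k * r = r * k := by
  intro r hr
  have h1 := hk.2.2 r hr
  apply stability_elt (p := p) k r hkp
  · obtain ⟨j, hj⟩ := hA ⟨_, h1⟩
    exact ⟨j, by simpa using congrArg Subtype.val hj⟩
  · exact hkA _ h1


/-- Every member of `𝓛_G` lies in a maximal member. -/
theorem exists_max_charP_ge [Finite G] {p : ℕ} (L : Subgroup G) (hL : L ∈ Cfsg.charPSubgroups p G) :
    ∃ X ∈ Cfsg.maxCharPSubgroups p G, L ≤ X := by
  classical
  have hfin : (Cfsg.charPSubgroups p G).Finite := Set.toFinite _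
  obtain ⟨X, hLX, hX⟩ := hfin.exists_le_maximal hL
  refine ⟨X, ⟨hX.prop, ?_⟩, hLX⟩
  intro L' hL' hXL'
  exact le_antisymm (hX.le_of_ge hL' hXL') hXL'

/-- A member of `𝓛_G` containing `M ∈ 𝔐_G` lies in `M†`. -/
theorem le_dagger_of_mem_charP [Finite G] {p : ℕ} {M : Subgroup G} (hM : Cfsg.IsInFrakM p M)
    (L : Subgroup G) (hL : L ∈ Cfsg.charPSubgroups p G) (hML : M ≤ L) :
    L ≤ M ⊔ Subgroup.centralizer (Cfsg.largestPReducedOf p M : Set G) := by
  obtain ⟨X, hX, hLX⟩ := exists_max_charP_ge L hL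
  have := hM.2.2.1 X hX (hML.trans hLX)
  rw [← this]; exact hLX

/-- With a large subgroup: a parabolic subgroup with nontrivial `p`-core lies in `𝓛_G`. -/
theorem mem_charP_of_parabolic [Finite G] {p : ℕ} [Fact p.Prime] (Q : Subgroup G) (hQp : IsPGroup p ↥Q)
    (hQ1 : Q ≠ ⊥) (hQ : Cfsg.IsLarge Q) (R : Subgroup G) (hR : Cfsg.IsParabolic p R)
    (hR1 : Cfsg.pCore p ↥R ≠ ⊥) : R ∈ Cfsg.charPSubgroups p G :=
  ⟨hR1, (Cfsg.Agent.S2845.result Q hQp hQ1 hQ).2.1 R hR hR1⟩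

/-- `O_p(R) ≠ 1` when `R` normalizes a nontrivial `p`-subgroup of itself. -/
theorem pCore_ne_bot_of_normal_pSubgroup {p : ℕ} (R I : Subgroup G) (hI1 : I ≠ ⊥) (hIp : IsPGroup p ↥I)
    (hIR : I ≤ R) (hRI : R ≤ Subgroup.normalizer (I : Set G)) : Cfsg.pCore p ↥R ≠ ⊥ := by
  intro h
  have h1 := le_pCore_map_subtype R I hIR hIp hRI
  rw [h, Subgroup.map_bot] at h1
  exact hI1 (le_bot_iff.mp h1)

/-- With a large subgroup `Q ≤ S ≤ M`, `M ∈ 𝔐_G(S)`: any subgroup containing `M` that normalizes a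
nontrivial `p`-subgroup of itself lies in `M†`. -/
theorem le_dagger_of_normalizes [Finite G] {p : ℕ} [Fact p.Prime] (S : Sylow p G) (Q : Subgroup G)
    (hQp : IsPGroup p ↥Q) (hQ1 : Q ≠ ⊥) (hQ : Cfsg.IsLarge Q) {M : Subgroup G}
    (hSM : (S : Subgroup G) ≤ M) (hM : Cfsg.IsInFrakM p M) (X I : Subgroup G) (hMX : M ≤ X)
    (hI1 : I ≠ ⊥) (hIp : IsPGroup p ↥I) (hIX : I ≤ X) (hXI : X ≤ Subgroup.normalizer (I : Set G)) :
    X ≤ M ⊔ Subgroup.centralizer (Cfsg.largestPReducedOf p M : Set G) := by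
  apply le_dagger_of_mem_charP hM X _ hMX
  exact mem_charP_of_parabolic Q hQp hQ1 hQ X ⟨S, hSM.trans hMX⟩
    (pCore_ne_bot_of_normal_pSubgroup X I hI1 hIp hIX hXI)

/-- `N_G(I) ≤ M†` for a nontrivial `p`-subgroup `I` of `M` normalized by `M`. -/
theorem normalizer_le_dagger [Finite G] {p : ℕ} [Fact p.Prime] (S : Sylow p G) (Q : Subgroup G)
    (hQp : IsPGroup p ↥Q) (hQ1 : Q ≠ ⊥) (hQ : Cfsg.IsLarge Q) {M : Subgroup G}
    (hSM : (S : Subgroup G) ≤ M) (hM : Cfsg.IsInFrakM p M) (I : Subgroup G)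
    (hI1 : I ≠ ⊥) (hIp : IsPGroup p ↥I) (hMI : M ≤ Subgroup.normalizer (I : Set G)) :
    Subgroup.normalizer (I : Set G) ≤ M ⊔ Subgroup.centralizer (Cfsg.largestPReducedOf p M : Set G) :=
  le_dagger_of_normalizes S Q hQp hQ1 hQ hSM hM _ I hMI hI1 hIp Subgroup.le_normalizer le_rfl


/-- `N_G(D)` normalizes `O_p(D)`. -/
theorem normalizer_le_normalizer_pCoreOf [Finite G] (p : ℕ) (D : Subgroup G) :
    Subgroup.normalizer (D : Set G) ≤ Subgroup.normalizer ((Cfsg.pCoreOf p D : Subgroup G) : Set G) := by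
  intro g hg
  apply mem_normalizer_of_conj_mem
  have hOD : Cfsg.pCoreOf p D ≤ D := pCore_map_subtype_le p D
  set N := (Cfsg.pCoreOf p D).map (MulAut.conj g).toMonoidHom with hN
  have hND : N ≤ D := by
    rw [hN, map_conj_le_iff]
    intro x hx
    exact (Subgroup.mem_normalizer_iff.mp hg x).mp (hOD hx)
  have hNp : IsPGroup p ↥N := (isPGroup_pCore_map_subtype p D).map _
  have hDN : D ≤ Subgroup.normalizer (N : Set G) := by
    rw [hN, normalizer_map_conj]
    intro d hd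
    rw [mem_map_conj_iff]
    apply le_normalizer_pCore_map_subtype p D
    have := (Subgroup.mem_normalizer_iff.mp (Subgroup.inv_mem _ hg) d).mp hd
    simpa using this
  have h1 := le_pCore_map_subtype D N hND hNp hDN
  intro x hx
  exact h1 (conj_mem_map_conj _ g x hx)


variable {H : Type*} [Group H]

/-- Characteristic `p` of a subgroup in relative terms. -/
theorem hasCharP_iff_rel (p : ℕ) (L : Subgroup H) :
    (Subgroup.centralizer (Cfsg.pCore p ↥L : Set ↥L) ≤ Cfsg.pCore p ↥L) ↔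
      L ⊓ Subgroup.centralizer ((Cfsg.pCoreOf p L : Subgroup H) : Set H) ≤ Cfsg.pCoreOf p L := by
  constructor
  · intro h x hx
    have h1 : (⟨x, hx.1⟩ : ↥L) ∈ Subgroup.centralizer (Cfsg.pCore p ↥L : Set ↥L) :=
      (mem_centralizer_pCore_iff p L ⟨x, hx.1⟩).mpr hx.2
    exact ⟨⟨x, hx.1⟩, h h1, rfl⟩
  · intro h c hc
    have h1 := (mem_centralizer_pCore_iff p L c).mp hc
    obtain ⟨y, hy, hyc⟩ := h ⟨c.2, h1⟩
    have : y = c := Subtype.ext hyc
    rwa [this] at hy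

/-- A member of `𝓛_H` has characteristic `p`. -/
theorem hasCharP_of_mem_charP {p : ℕ} {L : Subgroup H} (hL : L ∈ Cfsg.charPSubgroups p H) :
    Subgroup.centralizer (Cfsg.pCore p ↥L : Set ↥L) ≤ Cfsg.pCore p ↥L :=
  (hasCharP_iff_rel p L).mpr (inf_le_right.trans hL.2)

theorem pCoreOf_ne_bot {p : ℕ} {L : Subgroup H} (hL : Cfsg.pCore p ↥L ≠ ⊥) : Cfsg.pCoreOf p L ≠ ⊥ := by
  intro h
  apply hL
  have := (Subgroup.map_eq_bot_iff_of_injective _ L.subtype_injective).mp h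
  exact this

/-- In a group of parabolic characteristic `p`, a parabolic subgroup with `O_p ≠ 1` lies in `𝓛_H`. -/
theorem mem_charP_of_parabolicChar [Finite H] {p : ℕ} [Fact p.Prime]
    (hH : Cfsg.IsOfParabolicCharacteristic p H) (R : Subgroup H) (hR : Cfsg.IsParabolic p R)
    (hR1 : Cfsg.pCore p ↥R ≠ ⊥) : R ∈ Cfsg.charPSubgroups p H := by
  classical
  obtain ⟨T, hTR⟩ := hR
  set O := Cfsg.pCoreOf p R with hO
  have hOp : IsPGroup p ↥O := isPGroup_pCore_map_subtype p R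
  have hO1 : O ≠ ⊥ := pCoreOf_ne_bot hR1
  set N := Subgroup.normalizer (O : Set H) with hN
  have hRN : R ≤ N := le_normalizer_pCore_map_subtype p R
  have hTN : (T : Subgroup H) ≤ N := hTR.trans hRN
  have hNchar := hH O hOp hO1 ⟨T, hTN⟩
  have hNrel := (hasCharP_iff_rel p N).mp hNchar
  set ON := Cfsg.pCoreOf p N with hON
  have hONp : IsPGroup p ↥ON := isPGroup_pCore_map_subtype p N
  have hNON : N ≤ Subgroup.normalizer (ON : Set H) := le_normalizer_pCore_map_subtype p N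
  have hONT : ON ≤ (T : Subgroup H) := pCoreOf_le_sylow T hTN
  set K := Subgroup.centralizer (O : Set H) with hK
  have hKN : K ≤ N := Subgroup.centralizer_le_normalizer _
  have hNK : N ≤ Subgroup.normalizer (K : Set H) :=
    Cfsg.Agent.Helper5.normalizer_le_normalizer_centralizer O
  -- O_p(K) ≤ O
  have hOK : Cfsg.pCoreOf p K ≤ O := by
    have h1 : Cfsg.pCoreOf p K ≤ ON :=
      le_pCore_map_subtype N _ ((pCore_map_subtype_le p K).trans hKN) (isPGroup_pCore_map_subtype p K)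
        (hNK.trans (normalizer_le_normalizer_pCoreOf p K))
    exact le_pCore_map_subtype R _ ((h1.trans hONT).trans hTR) (isPGroup_pCore_map_subtype p K)
      ((hRN.trans hNK).trans (normalizer_le_normalizer_pCoreOf p K))
  have hKON : K ⊓ ON ≤ O := by
    refine le_trans ?_ hOK
    apply le_pCore_map_subtype K _ inf_le_left (hONp.to_le inf_le_right)
    intro k hk
    exact mem_normalizer_inf K ON k (Subgroup.le_normalizer hk) (hNON (hKN hk))
  have hKp : IsPGroup p ↥K := by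
    apply isPGroup_of_pprime_elements
    intro c hc hcp
    have hcst : c ∈ stabMod ON O := by
      refine ⟨hKN hc, hNON (hKN hc), ?_⟩
      intro r hr
      apply hKON
      refine ⟨?_, ?_⟩
      · have h1 : r⁻¹ * c * r⁻¹⁻¹ ∈ K :=
          (Subgroup.mem_normalizer_iff.mp (hNK (Subgroup.inv_mem _ ((pCore_map_subtype_le p N) hr))) c).mp hc
        have h2 : r⁻¹ * (c * r * c⁻¹) = (r⁻¹ * c * r⁻¹⁻¹) * c⁻¹ := by group
        rw [h2]
        exact K.mul_mem h1 (K.inv_mem hc)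
      · exact ON.mul_mem (ON.inv_mem hr) ((Subgroup.mem_normalizer_iff.mp (hNON (hKN hc)) r).mp hr)
    have hcomm := commute_of_mem_stabMod ON O hOp c hcst hcp
      (fun a ha => ((Subgroup.mem_centralizer_iff.mp hc) a ha).symm)
    have hcON : c ∈ ON := by
      apply hNrel
      refine ⟨hKN hc, Subgroup.mem_centralizer_iff.mpr ?_⟩
      intro r hr
      exact (hcomm r hr).symm
    exact eq_one_of_coprime_of_mem_pgroup ON hONp c hcON hcp
  have hKON' : K ≤ ON := le_pCore_map_subtype N K hKN hKp hNK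
  have hKO : K ≤ O :=
    le_pCore_map_subtype R K ((hKON'.trans hONT).trans hTR) hKp (hRN.trans hNK)
  exact ⟨hR1, hKO⟩


end Cfsg.Agent.Helper6.FrakN
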