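import Mathlib
import Cfsg.Prelude.Def_LocalStructure
import Cfsg.Agent.Helper6.FrakNA

/-!
helper6: monotonicity of the largest `p`-reduced normal subgroup along parabolic subgroups of characteristic `p`
(relative form of the normal-closure lemma).
-/

set_option autoImplicit false

namespace Cfsg.Agent.Helper6.FrakN

open Cfsg Cfsg.Agent.Helper5

variable {H : Type*} [Group H]

theorem isElementaryAbelian_closure' {p : ℕ} (s : Set H) (hcomm : ∀ x ∈ s, ∀ y ∈ s, x * y = y * x)
    (hexp : ∀ x ∈ s, x ^ p = 1) : Cfsg.IsElementaryAbelian p (Subgroup.closure s) := by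
  have hc : IsMulCommutative ↥(Subgroup.closure s) := Subgroup.isMulCommutative_closure hcomm
  refine ⟨hc, ?_⟩
  intro v hv
  induction hv using Subgroup.closure_induction with
  | mem y hy => exact hexp y hy
  | one => exact one_pow _
  | mul a b ha hb iha ihb =>
    have hab : Commute a b := setLike_mul_comm ha hb
    rw [hab.mul_pow, iha, ihb, one_mul]
  | inv a _ iha => rw [inv_pow, iha, inv_one]

/-- The join of the `L`-conjugates of `V` (normal closure of `V` in `L`, for `V ≤ L`). -/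
def conjJoinIn (L V : Subgroup H) : Subgroup H :=
  ⨆ l : ↥L, V.map (MulAut.conj (l : H)).toMonoidHom

theorem le_conjJoinIn (L V : Subgroup H) : V ≤ conjJoinIn L V := by
  have h0 := le_iSup (fun l : ↥L => V.map (MulAut.conj (l : H)).toMonoidHom) 1
  have h1 : V.map (MulAut.conj ((1 : ↥L) : H)).toMonoidHom = V := by
    rw [Subgroup.coe_one]; exact map_conj_one V
  rw [h1] at h0
  exact h0

theorem conjJoinIn_le {L V X : Subgroup H} (hV : V ≤ X) (hLX : L ≤ Subgroup.normalizer (X : Set H)) :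
    conjJoinIn L V ≤ X := by
  apply iSup_le
  intro l
  rw [map_conj_le_iff]
  intro v hv
  exact (Subgroup.mem_normalizer_iff.mp (hLX l.2) v).mp (hV hv)

theorem le_normalizer_conjJoinIn [Finite H] (L V : Subgroup H) :
    L ≤ Subgroup.normalizer ((conjJoinIn L V : Subgroup H) : Set H) := by
  have hmap : ∀ m ∈ L, (conjJoinIn L V).map (MulAut.conj m).toMonoidHom ≤ conjJoinIn L V := by
    intro m hm
    unfold conjJoinIn
    rw [Subgroup.map_iSup]
    apply iSup_le
    intro l
    rw [map_conj_map_conj]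
    exact le_iSup (fun l : ↥L => V.map (MulAut.conj (l : H)).toMonoidHom) (⟨m, hm⟩ * l)
  intro m hm
  apply mem_normalizer_of_conj_mem
  intro x hx
  exact hmap m hm (conj_mem_map_conj _ m x hx)

/-- Monotonicity: `Y_R ≤ Y_{R'}` for `T ≤ R ≤ R'` with `R'` of characteristic `p`. More precisely the normal
closure in `R'` of a `p`-reduced normal subgroup of `R` is `p`-reduced in `R'`. -/
theorem PRedIn.conjJoinIn_of_sylow [Finite H] {p : ℕ} [Fact p.Prime] (T : Sylow p H) {R R' V : Subgroup H}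
    (hTR : (T : Subgroup H) ≤ R) (hRR' : R ≤ R')
    (hchar : Subgroup.centralizer (Cfsg.pCore p ↥R' : Set ↥R') ≤ Cfsg.pCore p ↥R')
    (hV : PRedIn p R V) : PRedIn p R' (conjJoinIn R' V) := by
  classical
  have hTR' : (T : Subgroup H) ≤ R' := hTR.trans hRR'
  set P' := Cfsg.pCoreOf p R' with hP'
  have hP'p : IsPGroup p ↥P' := isPGroup_pCore_map_subtype p R'
  have hR'P' : R' ≤ Subgroup.normalizer (P' : Set H) := le_normalizer_pCore_map_subtype p R'
  have hP'R : P' ≤ Cfsg.pCoreOf p R :=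
    le_pCore_map_subtype R P' ((pCoreOf_le_sylow T hTR').trans hTR) hP'p (hRR'.trans hR'P')
  have hVcP' : V ≤ Subgroup.centralizer (P' : Set H) :=
    Subgroup.le_centralizer_iff.mp (hP'R.trans hV.pCoreOf_le_centralizer)
  have hVP' : V ≤ P' := by
    intro v hv
    exact (hasCharP_iff_rel p R').mp hchar ⟨hRR' (hV.1 hv), hVcP' hv⟩
  set Z' := P' ⊓ Subgroup.centralizer (P' : Set H) with hZ'
  have hVZ' : V ≤ Z' := le_inf hVP' hVcP'
  have hR'Z' : R' ≤ Subgroup.normalizer (Z' : Set H) := by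
    intro r hr
    exact mem_normalizer_inf P' _ r (hR'P' hr)
      (Cfsg.Agent.Helper5.normalizer_le_normalizer_centralizer P' (hR'P' hr))
  set W := conjJoinIn R' V with hW
  have hWZ' : W ≤ Z' := conjJoinIn_le hVZ' hR'Z'
  have hVW : V ≤ W := le_conjJoinIn R' V
  have hWel : Cfsg.IsElementaryAbelian p W := by
    have hWcl : W = Subgroup.closure (⋃ l : ↥R', ((V.map (MulAut.conj (l : H)).toMonoidHom : Subgroup H) : Set H)) := by
      rw [hW]; unfold conjJoinIn; exact Subgroup.iSup_eq_closure _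
    rw [hWcl]
    apply isElementaryAbelian_closure'
    · intro x hx y hy
      have hx' : x ∈ Z' := hWZ' (by rw [hWcl]; exact Subgroup.subset_closure hx)
      have hy' : y ∈ Z' := hWZ' (by rw [hWcl]; exact Subgroup.subset_closure hy)
      exact (Subgroup.mem_centralizer_iff.mp hy'.2 x hx'.1)
    · intro x hx
      obtain ⟨l, hl⟩ := Set.mem_iUnion.mp hx
      obtain ⟨v, hv, rfl⟩ := hl
      simp only [MulEquiv.coe_toMonoidHom, MulAut.conj_apply]
      rw [conj_pow, hV.2.2.1.2 v hv, mul_one, mul_inv_cancel]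
  refine ⟨conjJoinIn_le (hV.1.trans hRR') Subgroup.le_normalizer, le_normalizer_conjJoinIn R' V, hWel, ?_⟩
  intro D hDR' hR'D hcond
  -- `D ⊓ R ≤ C(V)`
  have h7a : D ⊓ R ≤ Subgroup.centralizer (V : Set H) := by
    apply hV.2.2.2 _ inf_le_right
    · intro r hr
      exact mem_normalizer_inf D R r (hR'D (hRR' hr)) (Subgroup.le_normalizer hr)
    · intro d hd
      obtain ⟨k, hk⟩ := hcond d hd.1
      exact ⟨k, Subgroup.centralizer_le (show (V : Set H) ⊆ W from hVW) hk⟩
  -- `D ≤ C(V)` by the Sylow criterion inside `R'`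
  have h7b : D ≤ Subgroup.centralizer (V : Set H) := by
    have hDn : (D.subgroupOf R').Normal := (Subgroup.normal_subgroupOf_iff_le_normalizer hDR').mpr hR'D
    have key := @le_of_sylow_inf_le ↥R' _ _ p _ (D.subgroupOf R') hDn
      ((Subgroup.centralizer (V : Set H)).subgroupOf R') ?_ (T.subtype hTR') ?_
    · intro d hd
      exact Subgroup.mem_subgroupOf.mp (key (show (⟨d, hDR' hd⟩ : ↥R') ∈ D.subgroupOf R' from
        Subgroup.mem_subgroupOf.mpr hd))
    · intro d hd
      obtain ⟨k, hk⟩ := hcond (d : H) (Subgroup.mem_subgroupOf.mp hd)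
      refine ⟨k, ?_⟩
      rw [Subgroup.mem_subgroupOf, Subgroup.coe_pow]
      exact Subgroup.centralizer_le (show (V : Set H) ⊆ W from hVW) hk
    · intro x hx
      rw [Subgroup.mem_subgroupOf]
      apply h7a
      have h1 : (x : H) ∈ (T : Subgroup H) := by
        have h0 : x ∈ ((T.subtype hTR' : Sylow p ↥R') : Subgroup ↥R') := hx.1
        rw [Sylow.coe_subtype] at h0
        exact Subgroup.mem_subgroupOf.mp h0
      exact ⟨Subgroup.mem_subgroupOf.mp hx.2, hTR h1⟩
  -- `D ≤ C(W)`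
  rw [Subgroup.le_centralizer_iff]
  apply iSup_le
  intro l
  rw [map_conj_le_iff]
  intro v hv
  rw [Subgroup.mem_centralizer_iff]
  intro d hd
  have hd' : (l : H)⁻¹ * d * (l : H)⁻¹⁻¹ ∈ D :=
    (Subgroup.mem_normalizer_iff.mp (hR'D (Subgroup.inv_mem _ l.2)) d).mp hd
  have h1 := Subgroup.mem_centralizer_iff.mp (h7b hd') v hv
  calc d * ((l : H) * v * (l : H)⁻¹) = (l : H) * (((l : H)⁻¹ * d * (l : H)⁻¹⁻¹) * v) * (l : H)⁻¹ := by group
    _ = (l : H) * (v * ((l : H)⁻¹ * d * (l : H)⁻¹⁻¹)) * (l : H)⁻¹ := by rw [h1]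
    _ = (l : H) * v * (l : H)⁻¹ * d := by group

theorem largestPReducedOf_mono [Finite H] {p : ℕ} [Fact p.Prime] (T : Sylow p H) {R R' : Subgroup H}
    (hTR : (T : Subgroup H) ≤ R) (hRR' : R ≤ R')
    (hchar : Subgroup.centralizer (Cfsg.pCore p ↥R' : Set ↥R') ≤ Cfsg.pCore p ↥R') :
    Cfsg.largestPReducedOf p R ≤ Cfsg.largestPReducedOf p R' :=
  (le_conjJoinIn R' _).trans
    (PRedIn.conjJoinIn_of_sylow T hTR hRR' hchar (pRedIn_largestPReducedOf p R)).le_largestPReducedOf

end Cfsg.Agent.Helper6.FrakN
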