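import Mathlib
import Cfsg.Prelude.Def_LocalStructure
import Cfsg.Agent.Helper5.PGroupCenter
import Cfsg.Agent.S2821
import Cfsg.Agent.S2824
import Cfsg.Agent.Helper6.FrakNB

/-!
helper6: the relation `L ≪ M` (`L ≤ M · C_H(Y_L)`) on parabolic subgroups of characteristic `p`.
-/

set_option autoImplicit false

namespace Cfsg.Agent.Helper6.FrakN

open Cfsg Cfsg.Agent.Helper5

variable {H : Type*} [Group H]

/-- `Ω₁(Z(T)) ≠ 1` for a nontrivial Sylow `p`-subgroup. -/
theorem omegaOne_center_ne_bot [Finite H] {p : ℕ} [Fact p.Prime] (T : Sylow p H)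
    (hT : (T : Subgroup H) ≠ ⊥) :
    Cfsg.omegaOne p ((T : Subgroup H) ⊓ Subgroup.centralizer ((T : Subgroup H) : Set H)) ≠ ⊥ := by
  obtain ⟨x, hxT, hxo, hxc⟩ := exists_orderOf_eq_prime_central (T : Subgroup H) (T : Subgroup H) T.2 le_rfl hT
    Subgroup.le_normalizer
  intro h
  have hx1 : x ≠ 1 := by
    intro h1
    rw [h1, orderOf_one] at hxo
    exact (Fact.out : p.Prime).one_lt.ne hxo
  apply hx1
  have hmem : x ∈ Cfsg.omegaOne p ((T : Subgroup H) ⊓ Subgroup.centralizer ((T : Subgroup H) : Set H)) := by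
    apply Subgroup.subset_closure
    refine ⟨⟨hxT, Subgroup.mem_centralizer_iff.mpr (fun t ht => (hxc t ht))⟩, ?_⟩
    rw [← hxo]; exact pow_orderOf_eq_one x
  rw [h, Subgroup.mem_bot] at hmem
  exact hmem

theorem sylow_ne_bot_of_pCore_ne_bot [Finite H] {p : ℕ} [Fact p.Prime] (T : Sylow p H) {L : Subgroup H}
    (hTL : (T : Subgroup H) ≤ L) (hL1 : Cfsg.pCore p ↥L ≠ ⊥) : (T : Subgroup H) ≠ ⊥ := by
  intro h
  apply pCoreOf_ne_bot hL1
  have := pCoreOf_le_sylow T hTL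
  rw [h] at this
  exact le_bot_iff.mp this

/-- `Y_L ≠ 1` for a parabolic subgroup of characteristic `p` when `p` divides the group order. -/
theorem largestPReducedOf_ne_bot [Finite H] {p : ℕ} [Fact p.Prime] (T : Sylow p H) {L : Subgroup H}
    (hTL : (T : Subgroup H) ≤ L)
    (hL : Subgroup.centralizer (Cfsg.pCore p ↥L : Set ↥L) ≤ Cfsg.pCore p ↥L)
    (hT : (T : Subgroup H) ≠ ⊥) : Cfsg.largestPReducedOf p L ≠ ⊥ := by
  have h := Cfsg.Agent.S2821.result T L hTL hL _ rfl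
  have h1 : Cfsg.omegaOne p ((T : Subgroup H) ⊓ Subgroup.centralizer ((T : Subgroup H) : Set H)) ≤
      Cfsg.largestPReducedOf p L := h.2.2.2.1.trans h.2.2.2.2.1
  intro hbot
  rw [hbot] at h1
  exact omegaOne_center_ne_bot T hT (le_bot_iff.mp h1)

theorem largestPReducedOf_le_sylow [Finite H] {p : ℕ} [Fact p.Prime] (T : Sylow p H) {L : Subgroup H}
    (hTL : (T : Subgroup H) ≤ L) : Cfsg.largestPReducedOf p L ≤ (T : Subgroup H) :=
  (largestPReducedOf_le_pCoreOf p L).trans (pCoreOf_le_sylow T hTL)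

/-- A subgroup containing `T` and normalizing `Y_L ≠ 1` has nontrivial `p`-core. -/
theorem pCore_ne_bot_of_normalizes_Y [Finite H] {p : ℕ} [Fact p.Prime] (T : Sylow p H) {L X : Subgroup H}
    (hTL : (T : Subgroup H) ≤ L) (hTX : (T : Subgroup H) ≤ X)
    (hY1 : Cfsg.largestPReducedOf p L ≠ ⊥)
    (hXY : X ≤ Subgroup.normalizer ((Cfsg.largestPReducedOf p L : Subgroup H) : Set H)) :
    Cfsg.pCore p ↥X ≠ ⊥ :=
  pCore_ne_bot_of_normal_pSubgroup X _ hY1
    (T.2.to_le (largestPReducedOf_le_sylow T hTL)) ((largestPReducedOf_le_sylow T hTL).trans hTX) hXY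

/-- `L ≪ M`: every element of `L` is a product of an element of `M` and an element of `C_H(Y_L)`. -/
def LL (p : ℕ) (L M : Subgroup H) : Prop :=
  ∀ l ∈ L, ∃ m ∈ M, ∃ c ∈ Subgroup.centralizer ((Cfsg.largestPReducedOf p L : Subgroup H) : Set H), l = m * c

theorem LL.of_le {p : ℕ} {L M : Subgroup H} (h : L ≤ M) : LL p L M :=
  fun l hl => ⟨l, h hl, 1, Subgroup.one_mem _, (mul_one l).symm⟩

theorem LL.mono_right {p : ℕ} {L M M' : Subgroup H} (h : LL p L M) (hMM' : M ≤ M') : LL p L M' := by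
  intro l hl
  obtain ⟨m, hm, c, hc, rfl⟩ := h l hl
  exact ⟨m, hMM' hm, c, hc, rfl⟩

/-- The subgroup `L* = M ∩ L·C_H(Y_L)` attached to `L ≪ M`. -/
theorem LL.sup_eq [Finite H] {p : ℕ} [Fact p.Prime] {L M : Subgroup H} (h : LL p L M) :
    (M ⊓ (L ⊔ Subgroup.centralizer ((Cfsg.largestPReducedOf p L : Subgroup H) : Set H))) ⊔
        Subgroup.centralizer ((Cfsg.largestPReducedOf p L : Subgroup H) : Set H) =
      L ⊔ Subgroup.centralizer ((Cfsg.largestPReducedOf p L : Subgroup H) : Set H) := by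
  apply le_antisymm
  · exact sup_le inf_le_right le_sup_right
  · refine sup_le ?_ le_sup_right
    intro l hl
    obtain ⟨m, hm, c, hc, rfl⟩ := h l hl
    refine Subgroup.mul_mem _ (Subgroup.mem_sup_left ⟨hm, ?_⟩) (Subgroup.mem_sup_right hc)
    have : m = (m * c) * c⁻¹ := by group
    rw [this]
    exact Subgroup.mul_mem _ (Subgroup.mem_sup_left hl) (Subgroup.mem_sup_right (Subgroup.inv_mem _ hc))

/-- `L ≪ M` implies `Y_L ≤ Y_M`. -/
theorem LL.Y_le [Finite H] {p : ℕ} [Fact p.Prime] (T : Sylow p H) {L M : Subgroup H} (h : LL p L M)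
    (hTL : (T : Subgroup H) ≤ L) (hTM : (T : Subgroup H) ≤ M)
    (hM : Subgroup.centralizer (Cfsg.pCore p ↥M : Set ↥M) ≤ Cfsg.pCore p ↥M) :
    Cfsg.largestPReducedOf p L ≤ Cfsg.largestPReducedOf p M := by
  set C := Subgroup.centralizer ((Cfsg.largestPReducedOf p L : Subgroup H) : Set H) with hC
  set Ls := M ⊓ (L ⊔ C) with hLs
  have hTLs : (T : Subgroup H) ≤ Ls := le_inf hTM (hTL.trans le_sup_left)
  have hYLs : Cfsg.largestPReducedOf p L ≤ Ls := (largestPReducedOf_le_sylow T hTL).trans hTLs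
  have h1 : PRedIn p Ls (Cfsg.largestPReducedOf p L) :=
    (pRedIn_largestPReducedOf p L).transfer hYLs h.sup_eq
  exact h1.le_largestPReducedOf.trans (largestPReducedOf_mono T hTLs inf_le_left hM)

theorem LL.trans' {p : ℕ} {L M M' : Subgroup H} (h : LL p L M) (h' : LL p M M')
    (hY : Cfsg.largestPReducedOf p L ≤ Cfsg.largestPReducedOf p M) : LL p L M' := by
  intro l hl
  obtain ⟨m, hm, c, hc, rfl⟩ := h l hl
  obtain ⟨m', hm', c', hc', rfl⟩ := h' m hm
  refine ⟨m', hm', c' * c, Subgroup.mul_mem _ (Subgroup.centralizer_le hY hc') hc, ?_⟩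
  group

end Cfsg.Agent.Helper6.FrakN
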