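import Mathlib
import Cfsg.Agent.Helper1.Rank2Key

set_option autoImplicit false

/-!
Narrow `p`-groups (Bender–Glauberman, Section 5), part A: `Ω₁` of a critical subgroup, with the
critical subgroup exposed.
-/

namespace Cfsg.Agent.Helper6.Narrow

open Cfsg.Agent.Helper1 Cfsg.Agent.Helper1.AutPlumbing

open scoped commutatorElement

universe u

variable {R : Type u} [Group R]

/-- A critical subgroup `C` together with `D = Ω₁(C)`: both characteristic, `[C, R] ≤ Z(C)`,
`D` is the set of elements of `C` of order dividing `p`, and `p'`-automorphisms act faithfully on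
`D`. -/
theorem exists_crit_omega [Finite R] {p : ℕ} [hp : Fact p.Prime] (hp2 : p ≠ 2)
    (hR : IsPGroup p R) :
    ∃ C D : Subgroup R, C.Characteristic ∧ D.Characteristic ∧
      ⁅C, (⊤ : Subgroup R)⁆ ≤ C ⊓ Subgroup.centralizer (C : Set R) ∧
      (∀ x, x ∈ D ↔ x ∈ C ∧ x ^ p = 1) ∧
      (∀ a : MulAut R, (orderOf a).Coprime p → (∀ x ∈ D, a x = x) → a = 1) := by
  obtain ⟨C, hCchar, h1, h2, h3⟩ := exists_critical_subgroup hR
  have hCn : C.Normal := inferInstance
  have haC : ∀ a : MulAut R, ∀ x, x ∈ C → a x ∈ C := by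
    intro a x hx
    have := (Subgroup.characteristic_iff_le_comap.1 hCchar) a hx
    exact this
  have hFC : frattini ↥C ≤ Subgroup.center ↥C := by
    intro x hx
    rw [Subgroup.mem_center_iff]
    intro y
    have hx' : (x : R) ∈ Subgroup.centralizer (C : Set R) := h1 ⟨x, hx, rfl⟩
    apply Subtype.ext
    exact (Subgroup.mem_centralizer_iff.1 hx' y y.2)
  have hCp : IsPGroup p ↥C := hR.to_subgroup C
  have hpowmul : ∀ x y : ↥C, (x * y) ^ p = x ^ p * y ^ p :=
    mul_pow_prime_of_frattini_le_center hp2 hCp hFC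
  -- `D = Ω₁(C)`
  let D : Subgroup R :=
    { carrier := {x | x ∈ C ∧ x ^ p = 1}
      one_mem' := ⟨C.one_mem, one_pow p⟩
      mul_mem' := by
        rintro x y ⟨hx, hxp⟩ ⟨hy, hyp⟩
        refine ⟨C.mul_mem hx hy, ?_⟩
        have h := congrArg (fun z : ↥C => (z : R)) (hpowmul ⟨x, hx⟩ ⟨y, hy⟩)
        simp only [Subgroup.coe_pow, Subgroup.coe_mul] at h
        rw [h, hxp, hyp, one_mul]
      inv_mem' := by
        rintro x ⟨hx, hxp⟩
        exact ⟨C.inv_mem hx, by rw [inv_pow, hxp, inv_one]⟩ }
  have hDmem : ∀ x, x ∈ D ↔ x ∈ C ∧ x ^ p = 1 := fun x => Iff.rfl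
  have haD : ∀ a : MulAut R, ∀ x ∈ D, a x ∈ D := fun a x hx =>
    ⟨haC a x hx.1, by rw [← map_pow, hx.2, map_one]⟩
  refine ⟨C, D, hCchar, ?_, h2, hDmem, ?_⟩
  · rw [Subgroup.characteristic_iff_le_comap]
    intro a x hx
    exact haD a x hx
  · intro a hacop hD
    apply aut_trivial_of_trivial_on_selfcentralizing hR C hCn h3 a hacop
    -- induction on the exponent
    have key : ∀ n : ℕ, ∀ x ∈ C, x ^ p ^ n = 1 → a x = x := by
      intro n
      induction n with
      | zero =>
        intro x _ hx
        rw [pow_zero, pow_one] at hx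
        rw [hx, map_one]
      | succ n ih =>
        intro x hxC hx
        have hxp : a (x ^ p) = x ^ p := by
          apply ih (x ^ p) (C.pow_mem hxC p)
          rw [← pow_mul, ← pow_succ']
          exact hx
        set y := x⁻¹ * a x with hy
        have hyC : y ∈ C := C.mul_mem (C.inv_mem hxC) (haC a x hxC)
        have hyp : y ^ p = 1 := by
          have h := congrArg (fun z : ↥C => (z : R))
            (hpowmul ⟨x⁻¹, C.inv_mem hxC⟩ ⟨a x, haC a x hxC⟩)
          simp only [Subgroup.coe_pow, Subgroup.coe_mul] at h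
          rw [hy, h, ← map_pow, hxp, inv_pow, inv_mul_cancel]
        have hay : a y = y := hD y ⟨hyC, hyp⟩
        have hax : a x = x * y := by rw [hy]; group
        have hpow : ∀ k : ℕ, (a ^ k) x = x * y ^ k := by
          intro k
          induction k with
          | zero => simp
          | succ k ih =>
            rw [pow_succ', MulAut.mul_apply, ih, map_mul, map_pow, hay, hax, mul_assoc,
              ← pow_succ']
        have h4 := hpow (orderOf a)
        rw [pow_orderOf_eq_one, MulAut.one_apply] at h4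
        have h5 : y ^ orderOf a = 1 := by
          have : x * y ^ orderOf a = x * 1 := by rw [← h4, mul_one]
          exact mul_left_cancel this
        have h6 : orderOf y ∣ orderOf a := orderOf_dvd_of_pow_eq_one h5
        have h7 : orderOf y ∣ p := orderOf_dvd_of_pow_eq_one hyp
        have h8 : orderOf y = 1 := Nat.eq_one_of_dvd_coprimes hacop h6 h7
        have h9 : y = 1 := orderOf_eq_one_iff.1 h8
        rw [hax, h9, mul_one]
    intro x hx
    obtain ⟨n, hn⟩ := hR x
    exact key n x hx hn

end Cfsg.Agent.Helper6.Narrow
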