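import Mathlib
import Cfsg.Agent.Helper6.NarrowA
import Cfsg.Agent.Helper1.Coprime

set_option autoImplicit false

/-!
Narrow `p`-groups (Bender–Glauberman, Section 5), part B: an element `x` of order `p` whose
centralizer has rank at most two, in a `p`-group of rank at least three, lies outside every
critical subgroup `C`, centralizes at most `p` elements of `Ω₁(C)`, and the intersections of
`Ω₁(C)` with the upper central series form a chain with factors of order at most `p`.
-/

namespace Cfsg.Agent.Helper6.Narrow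

open Cfsg.Agent.Helper1

open scoped commutatorElement

universe u

/-- fibre counting -/
theorem card_le_mul_of_fibre_inj {α β γ : Type*} [Finite α] [Finite β] [Finite γ] (f : α → β)
    (g : α → α → γ) (hg : ∀ a a₁ a₂ : α, f a₁ = f a → f a₂ = f a → g a a₁ = g a a₂ → a₁ = a₂) :
    Nat.card α ≤ Nat.card γ * Nat.card β := by
  classical
  haveI := Fintype.ofFinite α
  haveI := Fintype.ofFinite β
  haveI := Fintype.ofFinite γ
  rw [Nat.card_eq_fintype_card, Nat.card_eq_fintype_card, Nat.card_eq_fintype_card]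
  have h := Finset.card_le_mul_card_image_of_maps_to (f := f) (s := Finset.univ)
    (t := Finset.univ) (fun a _ => Finset.mem_univ _) (Fintype.card γ) ?_
  · simpa using h
  · intro b _
    by_cases hb : ∃ a, f a = b
    · obtain ⟨a, rfl⟩ := hb
      have : (Finset.univ.filter (fun a' => f a' = f a)).card ≤ (Finset.univ : Finset γ).card := by
        apply Finset.card_le_card_of_injOn (g a)
        · intro a' _; exact Finset.mem_coe.mpr (Finset.mem_univ _)
        · intro a₁ h₁ a₂ h₂ h12
          have h₁' : f a₁ = f a := by simpa using h₁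
          have h₂' : f a₂ = f a := by simpa using h₂
          exact hg a a₁ a₂ h₁' h₂' h12
      simpa using this
    · have : Finset.univ.filter (fun a' => f a' = b) = ∅ := by
        apply Finset.filter_eq_empty_iff.mpr
        intro a _ hab
        exact hb ⟨a, hab⟩
      rw [this]; simp

variable {R : Type u} [Group R]

/-- the rank bound for subgroups of a subgroup, stated inside the ambient group -/
theorem card_le_of_pRankLE_sub {p k : ℕ} {N : Subgroup R} (h : Cfsg.PRankLE p k ↥N)
    (A : Subgroup R) (hAN : A ≤ N) (hc : ∀ a ∈ A, ∀ b ∈ A, a * b = b * a)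
    (he : ∀ a ∈ A, a ^ p = 1) : Nat.card A ≤ p ^ k := by
  have h1 := h (A.subgroupOf N) (by
    refine ⟨⟨?_⟩⟩
    rintro ⟨a, ha⟩ ⟨b, hb⟩
    apply Subtype.ext
    apply Subtype.ext
    exact hc a ha b hb) (by
    intro a ha
    apply Subtype.ext
    exact he a ha)
  rwa [card_subgroupOf_of_le hAN] at h1

/-- The standing hypothesis: `x` has order `p`, its centralizer has `p`-rank at most two, and the
whole group has `p`-rank at least three. -/
structure NHyp (p : ℕ) (x : R) : Prop where
  ord : orderOf x = p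
  cent : Cfsg.PRankLE p 2 ↥(Subgroup.centralizer ({x} : Set R))
  rk : ¬ Cfsg.PRankLE p 2 R

theorem NHyp.pow_eq_one {p : ℕ} {x : R} (h : NHyp p x) : x ^ p = 1 := by
  rw [← h.ord]; exact pow_orderOf_eq_one x

variable [Finite R] {p : ℕ} [hp : Fact p.Prime] {x : R}

omit [Finite R] in
theorem NHyp.ne_one (h : NHyp p x) : x ≠ 1 := by
  intro h1
  have := h.ord
  rw [h1, orderOf_one] at this
  exact hp.out.one_lt.ne this

omit [Finite R] hp in
/-- an elementary abelian subgroup centralized by `x` has order at most `p ^ 2`, even after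
adjoining `x` -/
theorem NHyp.card_sup_le (h : NHyp p x) (Y : Subgroup R)
    (hYx : ∀ y ∈ Y, y * x = x * y) (hYc : ∀ a ∈ Y, ∀ b ∈ Y, a * b = b * a)
    (hYe : ∀ a ∈ Y, a ^ p = 1) : Nat.card ↥(Y ⊔ Subgroup.zpowers x) ≤ p ^ 2 := by
  have hn : Subgroup.zpowers x ≤ Subgroup.normalizer (Y : Set R) := by
    rw [Subgroup.zpowers_le]
    rw [Subgroup.mem_normalizer_iff]
    intro y
    constructor
    · intro hy
      have : x * y * x⁻¹ = y := by rw [← hYx y hy, mul_inv_cancel_right]
      rw [this]; exact hy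
    · intro hy
      have h1 := hYx _ hy
      have : y = x * y * x⁻¹ := by
        have h2 : x * y * x⁻¹ * x = x * (x * y * x⁻¹) := h1
        have h3 : x * y = x * (x * y * x⁻¹) := by rw [← h2]; group
        exact mul_left_cancel h3
      rw [this]; exact hy
  have hform : ∀ e ∈ Y ⊔ Subgroup.zpowers x, ∃ y ∈ Y, ∃ k : ℤ, e = y * x ^ k := by
    intro e he
    obtain ⟨y, hy, a, ha, rfl⟩ := mem_sup_of_le_normalizer hn he
    obtain ⟨k, rfl⟩ := Subgroup.mem_zpowers_iff.mp ha
    exact ⟨y, hy, k, rfl⟩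
  have hcomm : ∀ y ∈ Y, ∀ k : ℤ, Commute y (x ^ k) := fun y hy k =>
    (show Commute y x from hYx y hy).zpow_right k
  apply card_le_of_pRankLE_sub h.cent
  · intro e he
    obtain ⟨y, hy, k, rfl⟩ := hform e he
    rw [Subgroup.mem_centralizer_iff]
    intro z hz
    rw [Set.mem_singleton_iff] at hz
    subst hz
    have h1 : Commute z (y * z ^ k) :=
      ((show Commute y z from hYx y hy).symm).mul_right (Commute.zpow_right (Commute.refl z) k)
    exact h1.eq
  · intro a ha b hb
    obtain ⟨y, hy, k, rfl⟩ := hform a ha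
    obtain ⟨y', hy', k', rfl⟩ := hform b hb
    have h1 : Commute y y' := hYc y hy y' hy'
    have h2 : Commute (y * x ^ k) (y' * x ^ k') := by
      apply Commute.mul_left
      · exact h1.mul_right (hcomm y hy k')
      · apply Commute.mul_right
        · exact (hcomm y' hy' k).symm
        · exact (Commute.refl x).zpow_zpow k k'
    exact h2.eq
  · intro a ha
    obtain ⟨y, hy, k, rfl⟩ := hform a ha
    rw [(hcomm y hy k).mul_pow, hYe y hy, one_mul, ← zpow_natCast, ← zpow_mul, mul_comm,
      zpow_mul, zpow_natCast, h.pow_eq_one, one_zpow]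

/-- an elementary abelian subgroup of order at least `p ^ 2` centralized by `x` contains `x` -/
theorem NHyp.mem_of_card_ge (h : NHyp p x) (Y : Subgroup R)
    (hYx : ∀ y ∈ Y, y * x = x * y) (hYc : ∀ a ∈ Y, ∀ b ∈ Y, a * b = b * a)
    (hYe : ∀ a ∈ Y, a ^ p = 1) (hcard : p ^ 2 ≤ Nat.card Y) : x ∈ Y := by
  have h1 := h.card_sup_le Y hYx hYc hYe
  have h2 : Y = Y ⊔ Subgroup.zpowers x :=
    Subgroup.eq_of_le_of_card_ge le_sup_left (h1.trans hcard)
  rw [h2]
  exact (le_sup_right : Subgroup.zpowers x ≤ Y ⊔ Subgroup.zpowers x) (Subgroup.mem_zpowers x)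

/-- a subgroup of exponent `p` not containing `x` meets the centralizer of `x` in a subgroup of order
at most `p` -/
theorem NHyp.card_inf_centralizer_le (h : NHyp p x) (hR : IsPGroup p R) (D : Subgroup R)
    (hDe : ∀ d ∈ D, d ^ p = 1) (hxD : x ∉ D) :
    Nat.card ↥(D ⊓ Subgroup.centralizer ({x} : Set R)) ≤ p := by
  by_contra hcon
  push Not at hcon
  obtain ⟨Y, hY⟩ : ∃ Y : Subgroup R, Y = D ⊓ Subgroup.centralizer ({x} : Set R) := ⟨_, rfl⟩
  rw [← hY] at hcon
  have hYp : IsPGroup p ↥Y := hR.to_subgroup Y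
  obtain ⟨k, hk⟩ := IsPGroup.iff_card.mp hYp
  have hk2 : 2 ≤ k := by
    by_contra hlt
    push Not at hlt
    have : p ^ k ≤ p ^ 1 := Nat.pow_le_pow_right hp.out.pos (by omega)
    rw [pow_one, ← hk] at this
    omega
  have hdvd : p ^ 2 ∣ Nat.card ↥Y := by
    rw [hk]; exact pow_dvd_pow p hk2
  obtain ⟨K, hK⟩ := Sylow.exists_subgroup_card_pow_prime p hdvd
  obtain ⟨Y₂, hY₂⟩ : ∃ Y₂ : Subgroup R, Y₂ = K.map Y.subtype := ⟨_, rfl⟩
  have hY₂Y : Y₂ ≤ Y := hY₂ ▸ Subgroup.map_subtype_le K
  have hY₂card : Nat.card ↥Y₂ = p ^ 2 := by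
    rw [hY₂, Subgroup.card_map_of_injective Y.subtype_injective, hK]
  have hY₂D : Y₂ ≤ D := hY₂Y.trans (hY ▸ inf_le_left)
  have hY₂c : ∀ a ∈ Y₂, ∀ b ∈ Y₂, a * b = b * a := by
    have hmc : IsMulCommutative ↥Y₂ := IsPGroup.isMulCommutative_of_card_eq_prime_sq hY₂card
    intro a ha b hb
    have := hmc.is_comm.comm (⟨a, ha⟩ : ↥Y₂) ⟨b, hb⟩
    exact congrArg Subtype.val this
  have hx : x ∈ Y₂ := by
    apply h.mem_of_card_ge Y₂ _ hY₂c (fun a ha => hDe a (hY₂D ha)) hY₂card.ge
    intro y hy
    have h1 : y ∈ Subgroup.centralizer ({x} : Set R) := (hY ▸ hY₂Y hy : y ∈ D ⊓ _).2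
    exact (Subgroup.mem_centralizer_iff.mp h1 x rfl).symm
  exact hxD (hY₂D hx)

end Cfsg.Agent.Helper6.Narrow
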