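import Mathlib
import Cfsg.Agent.Helper6.NarrowB

set_option autoImplicit false

/-!
Narrow `p`-groups, part C: `x` lies outside every critical subgroup, and the chain
`D ⊓ Z_i(R)` has factors of order at most `p`.
-/

namespace Cfsg.Agent.Helper6.Narrow

open Cfsg.Agent.Helper1

open scoped commutatorElement

universe u

variable {R : Type u} [Group R] [Finite R] {p : ℕ} [hp : Fact p.Prime] {x : R}

/-- `x` does not lie in a subgroup `C` with `[C, R] ≤ Z(C)`. -/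
theorem NHyp.not_mem_crit (h : NHyp p x) (hR : IsPGroup p R) (C : Subgroup R)
    (hC : ⁅C, (⊤ : Subgroup R)⁆ ≤ C ⊓ Subgroup.centralizer (C : Set R)) : x ∉ C := by
  intro hxC
  -- `F₁ = Ω₁(Z(C))`
  let F₁ : Subgroup R :=
    { carrier := {c | c ∈ C ∧ c ∈ Subgroup.centralizer (C : Set R) ∧ c ^ p = 1}
      one_mem' := ⟨C.one_mem, Subgroup.one_mem _, one_pow p⟩
      mul_mem' := by
        rintro a b ⟨ha, hac, hap⟩ ⟨hb, hbc, hbp⟩
        refine ⟨C.mul_mem ha hb, Subgroup.mul_mem _ hac hbc, ?_⟩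
        have hcomm : Commute a b := (Subgroup.mem_centralizer_iff.mp hac b hb).symm
        rw [hcomm.mul_pow, hap, hbp, one_mul]
      inv_mem' := by
        rintro a ⟨ha, hac, hap⟩
        exact ⟨C.inv_mem ha, Subgroup.inv_mem _ hac, by rw [inv_pow, hap, inv_one]⟩ }
  have hF₁mem : ∀ c, c ∈ F₁ ↔ c ∈ C ∧ c ∈ Subgroup.centralizer (C : Set R) ∧ c ^ p = 1 :=
    fun c => Iff.rfl
  have hF₁x : ∀ y ∈ F₁, y * x = x * y := by
    intro y hy
    exact (Subgroup.mem_centralizer_iff.mp ((hF₁mem y).mp hy).2.1 x hxC).symm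
  have hF₁c : ∀ a ∈ F₁, ∀ b ∈ F₁, a * b = b * a := by
    intro a ha b hb
    exact (Subgroup.mem_centralizer_iff.mp ((hF₁mem a).mp ha).2.1 b ((hF₁mem b).mp hb).1).symm
  have hF₁e : ∀ a ∈ F₁, a ^ p = 1 := fun a ha => ((hF₁mem a).mp ha).2.2
  obtain ⟨E', hE'⟩ : ∃ E' : Subgroup R, E' = F₁ ⊔ Subgroup.zpowers x := ⟨_, rfl⟩
  have hE'card : Nat.card ↥E' ≤ p ^ 2 := hE' ▸ h.card_sup_le F₁ hF₁x hF₁c hF₁e
  -- conjugates of `x` lie in `E'`
  have hconj : ∀ g : R, g * x * g⁻¹ ∈ E' := by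
    intro g
    have hc : ⁅x, g⁆ ∈ C ⊓ Subgroup.centralizer (C : Set R) :=
      hC (Subgroup.commutator_mem_commutator hxC (Subgroup.mem_top g))
    have hcx : Commute ⁅x, g⁆⁻¹ x :=
      (show Commute ⁅x, g⁆ x from (Subgroup.mem_centralizer_iff.mp hc.2 x hxC).symm).inv_left
    have heq : g * x * g⁻¹ = ⁅x, g⁆⁻¹ * x := by
      rw [commutatorElement_def]; group
    have hpow : (g * x * g⁻¹) ^ p = 1 := by
      rw [conj_pow, h.pow_eq_one, mul_one, mul_inv_cancel]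
    rw [heq, hcx.mul_pow, h.pow_eq_one, mul_one] at hpow
    rw [heq, hE']
    apply Subgroup.mul_mem
    · apply (le_sup_left : F₁ ≤ F₁ ⊔ Subgroup.zpowers x)
      rw [hF₁mem]
      exact ⟨C.inv_mem hc.1, Subgroup.inv_mem _ hc.2, hpow⟩
    · exact (le_sup_right : Subgroup.zpowers x ≤ F₁ ⊔ Subgroup.zpowers x) (Subgroup.mem_zpowers x)
  -- a large elementary abelian subgroup
  have hrk := h.rk
  unfold Cfsg.PRankLE at hrk
  push Not at hrk
  obtain ⟨L, hLc, hLe, hLcard⟩ := hrk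
  have hLcomm : ∀ a ∈ L, ∀ b ∈ L, a * b = b * a := by
    intro a ha b hb
    exact congrArg Subtype.val (hLc.is_comm.comm ⟨a, ha⟩ ⟨b, hb⟩)
  obtain ⟨L₀, hL₀⟩ : ∃ L₀ : Subgroup R, L₀ = L ⊓ Subgroup.centralizer ({x} : Set R) := ⟨_, rfl⟩
  -- counting
  have hcount : Nat.card ↥L ≤ Nat.card ↥L₀ * Nat.card {e : ↥E' // e ≠ 1} := by
    classical
    let f : ↥L → {e : ↥E' // e ≠ 1} := fun l =>
      ⟨⟨(l : R) * x * (l : R)⁻¹, hconj l⟩, by
        intro h1
        have h2 : (l : R) * x * (l : R)⁻¹ = 1 := congrArg Subtype.val h1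
        apply h.ne_one
        have : x = (l : R)⁻¹ * ((l : R) * x * (l : R)⁻¹) * (l : R) := by group
        rw [this, h2]; group⟩
    have hfib : ∀ a a' : ↥L, f a' = f a → (a : R)⁻¹ * (a' : R) ∈ L₀ := by
      intro a a' hfa
      have h1 : (a' : R) * x * (a' : R)⁻¹ = (a : R) * x * (a : R)⁻¹ := by
        have := congrArg (fun e : {e : ↥E' // e ≠ 1} => ((e : ↥E') : R)) hfa
        exact this
      rw [hL₀]
      refine ⟨L.mul_mem (L.inv_mem a.2) a'.2, ?_⟩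
      show _ ∈ Subgroup.centralizer ({x} : Set R)
      rw [Subgroup.mem_centralizer_iff]
      intro z hz
      rw [Set.mem_singleton_iff] at hz
      subst hz
      have : (a : R)⁻¹ * ((a' : R) * z * (a' : R)⁻¹) * (a : R) = z := by rw [h1]; group
      calc z * ((a : R)⁻¹ * (a' : R))
          = ((a : R)⁻¹ * ((a' : R) * z * (a' : R)⁻¹) * (a : R)) * ((a : R)⁻¹ * (a' : R)) := by
            rw [this]
        _ = (a : R)⁻¹ * (a' : R) * z := by group
    let g : ↥L → ↥L → ↥L₀ := fun a a' =>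
      if hfa : f a' = f a then ⟨(a : R)⁻¹ * (a' : R), hfib a a' hfa⟩ else 1
    have := card_le_mul_of_fibre_inj f g (by
      intro a a₁ a₂ h₁ h₂ h12
      simp only [g, dif_pos h₁, dif_pos h₂] at h12
      have h3 : (a : R)⁻¹ * (a₁ : R) = (a : R)⁻¹ * (a₂ : R) := congrArg Subtype.val h12
      exact Subtype.ext (mul_left_cancel h3))
    exact this
  have hE'lt : Nat.card {e : ↥E' // e ≠ 1} < p ^ 2 := by
    classical
    haveI := Fintype.ofFinite ↥E'
    rw [Nat.card_eq_fintype_card]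
    calc Fintype.card {e : ↥E' // e ≠ 1} < Fintype.card ↥E' :=
          Fintype.card_subtype_lt (x := (1 : ↥E')) (by simp)
      _ = Nat.card ↥E' := (Nat.card_eq_fintype_card).symm
      _ ≤ p ^ 2 := hE'card
  obtain ⟨a, ha⟩ := IsPGroup.iff_card.mp (hR.to_subgroup L)
  obtain ⟨b, hb⟩ := IsPGroup.iff_card.mp (hR.to_subgroup L₀)
  have hp1 : 1 < p := hp.out.one_lt
  have ha3 : 3 ≤ a := by
    rw [ha] at hLcard
    have := (Nat.pow_lt_pow_iff_right hp1).mp hLcard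
    omega
  have hab : a < b + 2 := by
    have h1 : p ^ a < p ^ (b + 2) := by
      calc p ^ a = Nat.card ↥L := ha.symm
        _ ≤ Nat.card ↥L₀ * Nat.card {e : ↥E' // e ≠ 1} := hcount
        _ < Nat.card ↥L₀ * p ^ 2 := Nat.mul_lt_mul_of_pos_left hE'lt Nat.card_pos
        _ = p ^ (b + 2) := by rw [hb, pow_add]
    exact (Nat.pow_lt_pow_iff_right hp1).mp h1
  have hb2 : p ^ 2 ≤ Nat.card ↥L₀ := by
    rw [hb]; exact Nat.pow_le_pow_right hp.out.pos (by omega)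
  have hxL₀ : x ∈ L₀ := by
    apply h.mem_of_card_ge L₀ _ _ _ hb2
    · intro y hy
      have : y ∈ Subgroup.centralizer ({x} : Set R) := (hL₀ ▸ hy : y ∈ L ⊓ _).2
      exact (Subgroup.mem_centralizer_iff.mp this x rfl).symm
    · intro a ha b hb
      exact hLcomm a (hL₀ ▸ ha : a ∈ L ⊓ _).1 b (hL₀ ▸ hb : b ∈ L ⊓ _).1
    · intro a ha
      exact hLe a (hL₀ ▸ ha : a ∈ L ⊓ _).1
  have hxL : x ∈ L := (hL₀ ▸ hxL₀ : x ∈ L ⊓ _).1
  have hLle : L ≤ Subgroup.centralizer ({x} : Set R) := by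
    intro l hl
    rw [Subgroup.mem_centralizer_iff]
    intro z hz
    rw [Set.mem_singleton_iff] at hz
    subst hz
    exact hLcomm z hxL l hl
  have := card_le_of_pRankLE_sub h.cent L hLle hLcomm hLe
  omega

omit [Finite R] hp in
/-- the counting step for a chain: if `d⁻¹ d^x ∈ N₀` for all `d ∈ N₁ ≤ D` then
`|N₁| ≤ |C_D(x)| |N₀|`. -/
theorem card_le_mul_of_comm_mem [Finite R] {D N₀ N₁ : Subgroup R} (hN₁D : N₁ ≤ D) (x : R)
    (hmap : ∀ d ∈ N₁, d⁻¹ * (x * d * x⁻¹) ∈ N₀) :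
    Nat.card ↥N₁ ≤ Nat.card ↥(D ⊓ Subgroup.centralizer ({x} : Set R)) * Nat.card ↥N₀ := by
  classical
  let f : ↥N₁ → ↥N₀ := fun d => ⟨(d : R)⁻¹ * (x * (d : R) * x⁻¹), hmap d d.2⟩
  have hfib : ∀ d e : ↥N₁, f e = f d →
      (e : R) * (d : R)⁻¹ ∈ D ⊓ Subgroup.centralizer ({x} : Set R) := by
    intro d e hfe
    have h1 : (e : R)⁻¹ * (x * (e : R) * x⁻¹) = (d : R)⁻¹ * (x * (d : R) * x⁻¹) :=
      congrArg Subtype.val hfe
    refine ⟨D.mul_mem (hN₁D e.2) (D.inv_mem (hN₁D d.2)), ?_⟩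
    show _ ∈ Subgroup.centralizer ({x} : Set R)
    rw [Subgroup.mem_centralizer_iff]
    intro z hz
    rw [Set.mem_singleton_iff] at hz
    subst hz
    have h2 : z * (e : R) * z⁻¹ = (e : R) * ((d : R)⁻¹ * (z * (d : R) * z⁻¹)) := by
      rw [← h1]; group
    calc z * ((e : R) * (d : R)⁻¹) = (z * (e : R) * z⁻¹) * (z * (d : R)⁻¹) := by group
      _ = ((e : R) * ((d : R)⁻¹ * (z * (d : R) * z⁻¹))) * (z * (d : R)⁻¹) := by rw [h2]
      _ = (e : R) * (d : R)⁻¹ * z := by group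
  let g : ↥N₁ → ↥N₁ → ↥(D ⊓ Subgroup.centralizer ({x} : Set R)) := fun d e =>
    if hfe : f e = f d then ⟨(e : R) * (d : R)⁻¹, hfib d e hfe⟩ else 1
  exact card_le_mul_of_fibre_inj f g (by
    intro d e₁ e₂ h₁ h₂ h12
    simp only [g, dif_pos h₁, dif_pos h₂] at h12
    have h3 : (e₁ : R) * (d : R)⁻¹ = (e₂ : R) * (d : R)⁻¹ := congrArg Subtype.val h12
    exact Subtype.ext (mul_right_cancel h3))

/-- the chain `D ⊓ Z_i(R)` has factors of order at most `p`. -/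
theorem NHyp.card_chain_le (h : NHyp p x) (hR : IsPGroup p R) (D : Subgroup R) [D.Normal]
    (hDe : ∀ d ∈ D, d ^ p = 1) (hxD : x ∉ D) (i : ℕ) :
    Nat.card ↥(D ⊓ Subgroup.upperCentralSeries R (i + 1)) ≤ p * Nat.card ↥(D ⊓ Subgroup.upperCentralSeries R i) := by
  have h1 := card_le_mul_of_comm_mem (D := D) (N₀ := D ⊓ Subgroup.upperCentralSeries R i)
    (N₁ := D ⊓ Subgroup.upperCentralSeries R (i + 1)) inf_le_left x (by
    rintro d ⟨hdD, hdZ⟩
    refine ⟨D.mul_mem (D.inv_mem hdD) (‹D.Normal›.conj_mem d hdD x), ?_⟩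
    have h2 := (Subgroup.mem_upperCentralSeries_succ_iff).mp
      ((Subgroup.upperCentralSeries R (i + 1)).inv_mem hdZ) x
    have : d⁻¹ * (x * d * x⁻¹) = d⁻¹ * x * d⁻¹⁻¹ * x⁻¹ := by group
    rw [this]; exact h2)
  exact h1.trans (Nat.mul_le_mul_right _ (h.card_inf_centralizer_le hR D hDe hxD))

end Cfsg.Agent.Helper6.Narrow
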