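import Mathlib
import Cfsg.Agent.Helper6.NarrowC
import Cfsg.Agent.Helper1.AutPlumbing

set_option autoImplicit false

/-!
Narrow `p`-groups, part D: automorphisms of a `p`-group containing an element `x` of order `p`
with centralizer of rank at most two, when the group has rank at least three: the `p'`-elements
of the derived subgroup of any group of automorphisms are trivial and every `p'`-automorphism has
order dividing `p - 1`.
-/

namespace Cfsg.Agent.Helper6.Narrow

open Cfsg.Agent.Helper1 Cfsg.Agent.Helper1.AutPlumbing Cfsg.Agent.Helper1.Rank2Key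

open scoped commutatorElement

universe u

variable {R : Type u} [Group R]

/-- automorphisms induced on the section `M / (N ⊓ M)` for characteristic subgroups `M`, `N` -/
def relQuotAut (M N : Subgroup R) [hM : M.Characteristic] [hN : N.Characteristic] :
    MulAut R →* MulAut (↥M ⧸ N.subgroupOf M) where
  toFun ϕ := QuotientGroup.congr (N.subgroupOf M) (N.subgroupOf M) (restrictAut M ϕ) (by
    ext y
    constructor
    · rintro ⟨z, hz, rfl⟩
      rw [Subgroup.mem_subgroupOf]
      have := (Subgroup.characteristic_iff_le_comap.1 hN) ϕ (Subgroup.mem_subgroupOf.mp hz)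
      exact this
    · intro hy
      refine ⟨(restrictAut M ϕ).symm y, ?_, by simp⟩
      rw [SetLike.mem_coe, Subgroup.mem_subgroupOf]
      have := (Subgroup.characteristic_iff_le_comap.1 hN) ϕ.symm (Subgroup.mem_subgroupOf.mp hy)
      exact this)
  map_one' := by
    ext x
    induction x using QuotientGroup.induction_on
    rfl
  map_mul' ϕ ψ := by
    ext x
    induction x using QuotientGroup.induction_on
    rfl

theorem relQuotAut_mk (M N : Subgroup R) [M.Characteristic] [N.Characteristic] (ϕ : MulAut R)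
    (m : ↥M) : relQuotAut M N ϕ (QuotientGroup.mk m) = QuotientGroup.mk (restrictAut M ϕ m) := rfl

/-- trivial action on the section, elementwise -/
theorem mem_of_relQuotAut_eq_one (M N : Subgroup R) [M.Characteristic] [N.Characteristic]
    (ϕ : MulAut R) (h : relQuotAut M N ϕ = 1) : ∀ m ∈ M, m⁻¹ * ϕ m ∈ N := by
  intro m hm
  have h1 : relQuotAut M N ϕ (QuotientGroup.mk ⟨m, hm⟩) = QuotientGroup.mk ⟨m, hm⟩ := by
    rw [h]; rfl
  rw [relQuotAut_mk, eq_comm, QuotientGroup.eq, Subgroup.mem_subgroupOf] at h1
  exact h1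

/-- a `p'`-automorphism acting trivially on `N` and on `M / N` acts trivially on `M`. -/
theorem fix_of_fix_section {p : ℕ} [Fact p.Prime] (hR : IsPGroup p R) (b : MulAut R)
    (hb : (orderOf b).Coprime p) (M N : Subgroup R) (hN : ∀ n ∈ N, b n = n)
    (hMN : ∀ m ∈ M, m⁻¹ * b m ∈ N) : ∀ m ∈ M, b m = m := by
  intro m hm
  set y := m⁻¹ * b m with hy
  have hay : b y = y := hN y (hMN m hm)
  have hax : b m = m * y := by rw [hy]; group
  have hpow : ∀ k : ℕ, (b ^ k) m = m * y ^ k := by
    intro k
    induction k with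
    | zero => simp
    | succ k ih =>
      rw [pow_succ', MulAut.mul_apply, ih, map_mul, map_pow, hay, hax, mul_assoc, ← pow_succ']
  have h4 := hpow (orderOf b)
  rw [pow_orderOf_eq_one, MulAut.one_apply] at h4
  have h5 : y ^ orderOf b = 1 := by
    have : m * y ^ orderOf b = m * 1 := by rw [← h4, mul_one]
    exact mul_left_cancel this
  have h6 : orderOf y ∣ orderOf b := orderOf_dvd_of_pow_eq_one h5
  obtain ⟨n, hn⟩ := hR y
  have h7 : orderOf y ∣ p ^ n := orderOf_dvd_of_pow_eq_one hn
  have h8 : orderOf y = 1 := Nat.eq_one_of_dvd_coprimes (hb.pow_right n) h6 h7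
  have h9 : y = 1 := orderOf_eq_one_iff.1 h8
  rw [hax, h9, mul_one]

/-- a `p'`-automorphism acting trivially on all factors of a chain starting at `⊥` acts trivially
on all terms. -/
theorem fix_of_fix_chain {p : ℕ} [hp : Fact p.Prime] (hR : IsPGroup p R) (b : MulAut R)
    (hb : (orderOf b).Coprime p) (c : ℕ → Subgroup R) (h0 : c 0 = ⊥)
    (hstep : ∀ i, ∀ m ∈ c (i + 1), m⁻¹ * b m ∈ c i) : ∀ i, ∀ m ∈ c i, b m = m := by
  intro i
  induction i with
  | zero =>
    intro m hm
    rw [h0, Subgroup.mem_bot] at hm
    rw [hm, map_one]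
  | succ i ih => exact fix_of_fix_section hR b hb (c (i + 1)) (c i) ih (hstep i)

/-- automorphisms of a group of order at most `p` have order dividing `p - 1` -/
theorem mulAut_pow_eq_one_of_card_le {V : Type*} [Group V] [Finite V] {p : ℕ}
    [hp : Fact p.Prime] (hV : IsPGroup p V) (hcard : Nat.card V ≤ p) (a : MulAut V) :
    a ^ (p - 1) = 1 := by
  obtain ⟨k, hk⟩ := IsPGroup.iff_card.mp hV
  have hk1 : k ≤ 1 := by
    by_contra hlt
    push Not at hlt
    have : p ^ 2 ≤ p ^ k := Nat.pow_le_pow_right hp.out.pos hlt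
    have h2 : p < p ^ 2 := by
      have := hp.out.one_lt
      nlinarith
    omega
  interval_cases k
  · rw [pow_zero] at hk
    haveI : Subsingleton V := (Nat.card_eq_one_iff_unique.mp hk).1
    apply MulEquiv.ext
    intro v
    exact Subsingleton.elim _ _
  · rw [pow_one] at hk
    haveI : IsCyclic V := isCyclic_of_prime_card hk
    have h1 := IsCyclic.card_mulAut V
    rw [hk, Nat.totient_prime hp.out] at h1
    rw [← h1]
    exact pow_card_eq_one'

/-- automorphisms of a group of order at most `p` commute -/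
theorem mulAut_comm_of_card_le {V : Type*} [Group V] [Finite V] {p : ℕ}
    [hp : Fact p.Prime] (hV : IsPGroup p V) (hcard : Nat.card V ≤ p) (a b : MulAut V) :
    a * b = b * a := by
  obtain ⟨k, hk⟩ := IsPGroup.iff_card.mp hV
  have hk1 : k ≤ 1 := by
    by_contra hlt
    push Not at hlt
    have : p ^ 2 ≤ p ^ k := Nat.pow_le_pow_right hp.out.pos hlt
    have h2 : p < p ^ 2 := by
      have := hp.out.one_lt
      nlinarith
    omega
  interval_cases k
  · rw [pow_zero] at hk
    haveI : Subsingleton V := (Nat.card_eq_one_iff_unique.mp hk).1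
    apply MulEquiv.ext
    intro v
    exact Subsingleton.elim _ _
  · rw [pow_one] at hk
    haveI : IsCyclic V := isCyclic_of_prime_card hk
    exact mulAut_comm_of_isCyclic a b

variable [Finite R] {p : ℕ} [hp : Fact p.Prime] {x : R}

/-- **Main theorem on automorphisms.**  The `p'`-elements of the derived subgroup of any group of
automorphisms are trivial, and every `p'`-automorphism has order dividing `p - 1`. -/
theorem NHyp.aut_key (h : NHyp p x) (hp2 : p ≠ 2) (hR : IsPGroup p R) :
    (∀ X : Subgroup (MulAut R), ∀ y ∈ ⁅X, X⁆, (orderOf y).Coprime p → y = 1) ∧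
    (∀ a : MulAut R, (orderOf a).Coprime p → a ^ (p - 1) = 1) := by
  obtain ⟨C, D, hCchar, hDchar, hC, hDmem, hDfaith⟩ := exists_crit_omega hp2 hR
  haveI := hDchar
  haveI hDn : D.Normal := inferInstance
  have hxC : x ∉ C := h.not_mem_crit hR C hC
  have hxD : x ∉ D := fun hx => hxC ((hDmem x).mp hx).1
  have hDe : ∀ d ∈ D, d ^ p = 1 := fun d hd => ((hDmem d).mp hd).2
  have hchain := h.card_chain_le hR D hDe hxD
  -- the chain
  let c : ℕ → Subgroup R := fun i => D ⊓ Subgroup.upperCentralSeries R i
  have hc0 : c 0 = ⊥ := by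
    show D ⊓ Subgroup.upperCentralSeries R 0 = ⊥
    rw [Subgroup.upperCentralSeries_zero, inf_bot_eq]
  haveI hcchar : ∀ i, (c i).Characteristic := by
    intro i
    show (D ⊓ Subgroup.upperCentralSeries R i).Characteristic
    infer_instance
  have hcmono : ∀ i, c i ≤ c (i + 1) := fun i =>
    inf_le_inf_left D (Subgroup.upperCentralSeries_mono R (Nat.le_succ i))
  haveI := hR.isNilpotent
  obtain ⟨n, hn⟩ := (Group.isNilpotent_iff R).mp inferInstance
  have hcn : c n = D := by
    show D ⊓ Subgroup.upperCentralSeries R n = D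
    rw [hn, inf_top_eq]
  -- the sections have order at most `p`
  have hsec : ∀ i, Nat.card (↥(c (i + 1)) ⧸ (c i).subgroupOf (c (i + 1))) ≤ p := by
    intro i
    have h1 := Subgroup.card_eq_card_quotient_mul_card_subgroup ((c i).subgroupOf (c (i + 1)))
    rw [card_subgroupOf_of_le (hcmono i)] at h1
    have h2 := hchain i
    have h3 : Nat.card (↥(c (i + 1)) ⧸ (c i).subgroupOf (c (i + 1))) * Nat.card ↥(c i) ≤
        p * Nat.card ↥(c i) := by rw [← h1]; exact h2
    exact Nat.le_of_mul_le_mul_right h3 Nat.card_pos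
  have hsecp : ∀ i, IsPGroup p (↥(c (i + 1)) ⧸ (c i).subgroupOf (c (i + 1))) := fun i =>
    (hR.to_subgroup (c (i + 1))).to_quotient _
  -- a `p'`-automorphism trivial on all sections is trivial
  have hkill : ∀ b : MulAut R, (orderOf b).Coprime p →
      (∀ i, relQuotAut (c (i + 1)) (c i) b = 1) → b = 1 := by
    intro b hb hall
    apply hDfaith b hb
    intro d hd
    rw [← hcn] at hd
    exact fix_of_fix_chain hR b hb c hc0
      (fun i => mem_of_relQuotAut_eq_one (c (i + 1)) (c i) b (hall i)) n d hd
  refine ⟨?_, ?_⟩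
  · intro X y hy hycop
    apply hkill y hycop
    intro i
    apply map_commutator_eq_one (relQuotAut (c (i + 1)) (c i)) X _ y hy
    intro a _ b _
    exact mulAut_comm_of_card_le (hsecp i) (hsec i) _ _
  · intro a hacop
    apply hkill (a ^ (p - 1)) (hacop.coprime_dvd_left (orderOf_pow_dvd (p - 1)))
    intro i
    rw [map_pow]
    exact mulAut_pow_eq_one_of_card_le (hsecp i) (hsec i) _

end Cfsg.Agent.Helper6.Narrow
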