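import Mathlib
import Cfsg.Agent.Helper6.NarrowD
import Cfsg.Prelude.Def_OddOrderLocal

set_option autoImplicit false

/-!
Narrow `p`-groups, part E: transfer lemmas (rank bounds along injective homomorphisms, the
hypothesis `NHyp` along isomorphisms), the hypothesis `NHyp` from `IsNarrow`, and the internal
forms of the theorem on automorphisms.
-/

namespace Cfsg.Agent.Helper6.Narrow

open Cfsg.Agent.Helper1

open scoped commutatorElement

universe u v

/-- rank bounds pull back along injective homomorphisms -/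
theorem pRankLE_of_injective {H : Type u} {K : Type v} [Group H] [Group K] (f : H →* K)
    (hf : Function.Injective f) {p k : ℕ} (h : Cfsg.PRankLE p k K) : Cfsg.PRankLE p k H := by
  intro A hAc hAe
  have h1 := h (A.map f) (by
    refine ⟨⟨?_⟩⟩
    rintro ⟨_, x, hx, rfl⟩ ⟨_, y, hy, rfl⟩
    apply Subtype.ext
    have := hAc.is_comm.comm ⟨x, hx⟩ ⟨y, hy⟩
    have h5 := congrArg (fun z : ↥A => f (z : H)) this
    simpa using h5) (by
    rintro _ ⟨x, hx, rfl⟩
    rw [← map_pow, hAe x hx, map_one])
  rwa [Nat.card_congr (A.equivMapOfInjective f hf).toEquiv]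

variable {R : Type u} [Group R]

/-- `NHyp` transfers along isomorphisms -/
theorem NHyp.of_mulEquiv {R' : Type v} [Group R'] {p : ℕ} {x : R} (h : NHyp p x) (e : R ≃* R') :
    NHyp p (e x) := by
  refine ⟨?_, ?_, ?_⟩
  · rw [MulEquiv.orderOf_eq]; exact h.ord
  · -- the centralizer of `e x` maps injectively into the centralizer of `x`
    let f : ↥(Subgroup.centralizer ({e x} : Set R')) →* ↥(Subgroup.centralizer ({x} : Set R)) :=
      { toFun := fun y => ⟨e.symm (y : R'), by
          rw [Subgroup.mem_centralizer_iff]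
          intro z hz
          rw [Set.mem_singleton_iff] at hz
          subst hz
          have h1 := Subgroup.mem_centralizer_iff.mp y.2 (e z) rfl
          have h2 := congrArg e.symm h1
          simpa using h2⟩
        map_one' := by
          apply Subtype.ext
          simp
        map_mul' := by
          intro a b
          apply Subtype.ext
          simp }
    apply pRankLE_of_injective f _ h.cent
    intro a b hab
    have h1 : e.symm (a : R') = e.symm (b : R') := congrArg Subtype.val hab
    exact Subtype.ext (e.symm.injective h1)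
  · intro hcon
    exact h.rk (pRankLE_of_injective e.toMonoidHom e.injective hcon)

variable [Finite R] {p : ℕ} [hp : Fact p.Prime]

/-- a narrow `p`-group of rank at least three contains an element `x` with `NHyp p x` -/
theorem exists_nHyp_of_isNarrow (hnar : Cfsg.IsNarrow p R) (hrk : ¬ Cfsg.PRankLE p 2 R) :
    ∃ x : R, NHyp p x := by
  rcases hnar with h2 | ⟨R₀, R₁, hR₀card, hR₁cyc, hdisj, hcomm, hsup⟩
  · exact absurd h2 hrk
  haveI : IsCyclic ↥R₀ := isCyclic_of_prime_card hR₀card
  obtain ⟨g, hg⟩ := IsCyclic.exists_generator (α := ↥R₀)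
  have hgord : orderOf g = p := by
    rw [orderOf_eq_card_of_forall_mem_zpowers hg, hR₀card]
  have hxord : orderOf (g : R) = p := by
    rw [← hgord]
    exact orderOf_injective R₀.subtype R₀.subtype_injective g
  have hR₀pow : ∀ r ∈ R₀, ∃ k : ℤ, r = (g : R) ^ k := by
    intro r hr
    obtain ⟨k, hk⟩ := Subgroup.mem_zpowers_iff.mp (hg ⟨r, hr⟩)
    refine ⟨k, ?_⟩
    have := congrArg Subtype.val hk
    simpa using this.symm
  have hR₀exp : ∀ r ∈ R₀, r ^ p = 1 := by
    intro r hr
    have h1 : (⟨r, hr⟩ : ↥R₀) ^ Nat.card ↥R₀ = 1 := pow_card_eq_one'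
    rw [hR₀card] at h1
    have := congrArg Subtype.val h1
    simpa using this
  refine ⟨(g : R), hxord, ?_, hrk⟩
  intro A hAc hAe
  -- elements of `A` decompose in `R₀ R₁`
  have hnorm : R₁ ≤ Subgroup.normalizer (R₀ : Set R) := by
    intro b hb
    rw [Subgroup.mem_normalizer_iff]
    intro a
    have key : ∀ a ∈ R₀, b * a * b⁻¹ = a := by
      intro a ha
      rw [← hcomm a ha b hb, mul_inv_cancel_right]
    constructor
    · intro ha
      rw [key a ha]; exact ha
    · intro ha
      have h1 : b⁻¹ * (b * a * b⁻¹) * b = b * a * b⁻¹ := by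
        rw [mul_assoc, hcomm _ ha b hb, inv_mul_cancel_left]
      have h2 : b⁻¹ * (b * a * b⁻¹) * b = a := by group
      rw [← h2, h1]; exact ha
  have hdec : ∀ y : ↥A, ∃ t : ↥R₀ × {r : ↥R₁ // r ^ p = 1},
      ((y : ↥(Subgroup.centralizer ({(g : R)} : Set R))) : R) = (t.1 : R) * ((t.2 : ↥R₁) : R) := by
    intro y
    have hy1 : ((y : ↥(Subgroup.centralizer ({(g : R)} : Set R))) : R) ∈
        Subgroup.centralizer (R₀ : Set R) := by
      rw [Subgroup.mem_centralizer_iff]
      intro r hr
      obtain ⟨k, rfl⟩ := hR₀pow r hr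
      have h1 : Commute (g : R) ((y : ↥(Subgroup.centralizer ({(g : R)} : Set R))) : R) :=
        Subgroup.mem_centralizer_iff.mp (y : ↥(Subgroup.centralizer ({(g : R)} : Set R))).2 _ rfl
      exact (h1.zpow_left k).eq
    rw [← hsup] at hy1
    obtain ⟨a, ha, b, hb, hab⟩ := mem_sup_of_le_normalizer hnorm hy1
    have hyp : ((y : ↥(Subgroup.centralizer ({(g : R)} : Set R))) : R) ^ p = 1 := by
      have := hAe y y.2
      have h2 := congrArg Subtype.val this
      simpa using h2
    have hbp : b ^ p = 1 := by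
      rw [hab, (show Commute a b from hcomm a ha b hb).mul_pow, hR₀exp a ha, one_mul] at hyp
      exact hyp
    refine ⟨(⟨a, ha⟩, ⟨⟨b, hb⟩, Subtype.ext (by simpa using hbp)⟩), ?_⟩
    exact hab
  choose t ht using hdec
  have hinj : Function.Injective t := by
    intro y y' hyy
    apply Subtype.ext
    apply Subtype.ext
    rw [ht y, ht y', hyy]
  have h1 := Nat.card_le_card_of_injective t hinj
  have h2 : Nat.card {r : ↥R₁ // r ^ p = 1} ≤ p := by
    classical
    haveI := Fintype.ofFinite ↥R₁
    rw [Nat.card_eq_fintype_card, Fintype.card_subtype]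
    exact IsCyclic.card_pow_eq_one_le hp.out.pos
  calc Nat.card ↥A ≤ Nat.card (↥R₀ × {r : ↥R₁ // r ^ p = 1}) := h1
    _ = Nat.card ↥R₀ * Nat.card {r : ↥R₁ // r ^ p = 1} := Nat.card_prod _ _
    _ ≤ p * p := by rw [hR₀card]; exact Nat.mul_le_mul_left p h2
    _ = p ^ 2 := (sq p).symm

end Cfsg.Agent.Helper6.Narrow
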