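import Mathlib
import Cfsg.Agent.Helper6.NarrowE

set_option autoImplicit false

/-!
Narrow `p`-groups, part F: internal forms of the theorem on automorphisms, for a subgroup `A`
normalizing a `p`-subgroup `R` of a finite group.
-/

namespace Cfsg.Agent.Helper6.Narrow

open Cfsg.Agent.Helper1

open scoped commutatorElement

universe u

variable {G : Type u} [Group G] [Finite G] {p : ℕ} [hp : Fact p.Prime]

/-- the `p'`-elements of `⁅A, A⁆` centralize `R` -/
theorem NHyp.commutator_coprime_le_centralizer (hp2 : p ≠ 2) (R A : Subgroup G)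
    (hR : IsPGroup p R) {x : ↥R} (h : NHyp p x)
    (hA : A ≤ Subgroup.normalizer (R : Set G)) :
    ∀ z ∈ ⁅A, A⁆, (orderOf z).Coprime p → z ∈ Subgroup.centralizer (R : Set G) := by
  set φ : Subgroup.normalizer (R : Set G) →* MulAut R := R.normalizerMonoidHom with hφ
  set ψ : A →* MulAut R := φ.comp (Subgroup.inclusion hA) with hψ
  set X : Subgroup (MulAut R) := ψ.range with hX
  have key := (h.aut_key hp2 hR).1 X
  intro z hz hzcop
  have hcomm : ⁅A, A⁆ = Subgroup.map A.subtype ⁅(⊤ : Subgroup A), (⊤ : Subgroup A)⁆ := by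
    rw [Subgroup.map_commutator, ← MonoidHom.range_eq_map, Subgroup.range_subtype]
  rw [hcomm] at hz
  obtain ⟨w, hw, rfl⟩ := hz
  have h1 : ψ w ∈ ⁅X, X⁆ := by
    rw [hX, MonoidHom.range_eq_map, ← Subgroup.map_commutator]
    exact Subgroup.mem_map_of_mem ψ hw
  have h2 : orderOf (ψ w) ∣ orderOf (A.subtype w) := by
    rw [orderOf_injective A.subtype A.subtype_injective w]
    exact orderOf_map_dvd ψ w
  have h3 : ψ w = 1 := key (ψ w) h1 (hzcop.coprime_dvd_left h2)
  have h4 : Subgroup.inclusion hA w ∈ φ.ker := h3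
  rw [hφ, Subgroup.normalizerMonoidHom_ker, Subgroup.mem_subgroupOf] at h4
  exact h4

/-- the `(p - 1)`-st power of a `p'`-element normalizing `R` centralizes `R` -/
theorem NHyp.pow_mem_centralizer (hp2 : p ≠ 2) (R : Subgroup G)
    (hR : IsPGroup p R) {x : ↥R} (h : NHyp p x) :
    ∀ a ∈ Subgroup.normalizer (R : Set G), (orderOf a).Coprime p →
      a ^ (p - 1) ∈ Subgroup.centralizer (R : Set G) := by
  set φ : Subgroup.normalizer (R : Set G) →* MulAut R := R.normalizerMonoidHom with hφ
  intro a ha hacop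
  have h2 : orderOf (φ ⟨a, ha⟩) ∣ orderOf a := by
    have h3 : orderOf (⟨a, ha⟩ : ↥(Subgroup.normalizer (R : Set G))) = orderOf a :=
      (orderOf_injective (Subgroup.normalizer (R : Set G)).subtype
        (Subgroup.subtype_injective _) ⟨a, ha⟩).symm
    rw [← h3]
    exact orderOf_map_dvd φ _
  have h3 := (h.aut_key hp2 hR).2 (φ ⟨a, ha⟩) (hacop.coprime_dvd_left h2)
  rw [← map_pow] at h3
  have h4 : (⟨a, ha⟩ : ↥(Subgroup.normalizer (R : Set G))) ^ (p - 1) ∈ φ.ker := h3
  rw [hφ, Subgroup.normalizerMonoidHom_ker, Subgroup.mem_subgroupOf] at h4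
  exact h4

end Cfsg.Agent.Helper6.Narrow
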