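import Mathlib
import Cfsg.Agent.Helper6.NarrowF
import Cfsg.Agent.Helper1.Rank2Fitting

set_option autoImplicit false

/-!
Narrow `p`-groups, part G: the derived subgroup of a solvable group lies in the Fitting subgroup
as soon as, for every prime `q`, the `q'`-elements of the derived subgroup centralize `O_q(G)`.
(The argument of `Helper1.Rank2Fitting` with its rank hypothesis replaced by its consequence.)
-/

namespace Cfsg.Agent.Helper6.Narrow

open Cfsg.Agent.Helper1 Cfsg.Agent.Helper1.Rank2Struct Cfsg.Agent.Helper1.Rank2Fitting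

universe u

variable {G : Type u} [Group G]

/-- every `q`-subgroup of `G'` lies in `O_q(G)` -/
theorem le_pCore_of_le_commutator_of_K1 [Finite G] [Group.IsSolvable G]
    (hK1 : ∀ (r : ℕ) [Fact r.Prime], ∀ z ∈ commutator G, (orderOf z).Coprime r →
      z ∈ Subgroup.centralizer (Cfsg.pCore r G : Set G)) (q : ℕ)
    [hq : Fact q.Prime] (Y : Subgroup G) (hY : IsPGroup q ↥Y) (hYH : Y ≤ commutator G) :
    Y ≤ Cfsg.pCore q G := by
  set H := commutator G with hH
  set Cq : Subgroup G := ⨅ (r : Nat.Primes), ⨅ (_ : (r : ℕ) ≠ q),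
    Subgroup.centralizer (Cfsg.pCore (r : ℕ) G : Set G) with hCq
  have hCqn : Cq.Normal := by
    apply Subgroup.normal_iInf_normal
    intro r
    apply Subgroup.normal_iInf_normal
    intro _
    infer_instance
  have hmemCq : ∀ x : G, x ∈ Cq ↔ ∀ r : Nat.Primes, (r : ℕ) ≠ q →
      x ∈ Subgroup.centralizer (Cfsg.pCore (r : ℕ) G : Set G) := by
    intro x
    rw [hCq]
    simp only [Subgroup.mem_iInf]
  set D : Subgroup G := H ⊓ Cq with hD
  haveI hDn : D.Normal := inferInstance
  -- `q`-subgroups of `H` lie in `D`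
  have hYD : Y ≤ D := by
    intro y hy
    refine ⟨hYH hy, ?_⟩
    show y ∈ Cq
    rw [hmemCq]
    intro r hrq
    haveI : Fact (r : ℕ).Prime := ⟨r.2⟩
    exact hK1 r y (hYH hy) (coprime_orderOf_of_mem_pGroup hY hy hq.out r.2 hrq)
  apply le_pCore_of_le_normal_of_sylow_normal D _ Y hY hYD
  intro P
  rw [← Subgroup.normalizer_eq_top_iff]
  apply eq_top_of_forall_sylow_le
  intro r hrP
  by_cases hrq : r = q
  · subst hrq
    exact ⟨P, Subgroup.le_normalizer⟩
  · obtain ⟨R⟩ : Nonempty (Sylow r ↥D) := inferInstance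
    refine ⟨R, ?_⟩
    have hRp : IsPGroup r ↥((R : Subgroup ↥D).map D.subtype) := R.2.map _
    have hRF : (R : Subgroup ↥D).map D.subtype ≤ Cfsg.pCore r G := by
      apply le_pCore_of_le_fitting _ hRp
      intro x hx
      have hxD : x ∈ D := Subgroup.map_subtype_le _ hx
      apply mem_fittingSubgroup_of_forall_mem_centralizer_pCore
      intro s
      by_cases hsq : (s : ℕ) = q
      · haveI : Fact (s : ℕ).Prime := ⟨s.2⟩
        apply hK1 s x hxD.1
        rw [hsq]
        exact coprime_orderOf_of_mem_pGroup hRp hx hrP.out hq.out (Ne.symm hrq)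
      · exact (hmemCq x).1 hxD.2 s hsq
    refine le_trans ?_ (Subgroup.centralizer_le_normalizer _)
    intro x hx
    rw [Subgroup.mem_centralizer_iff]
    intro y hy
    apply Subtype.ext
    rw [Subgroup.coe_mul, Subgroup.coe_mul]
    have hxr : (x : G) ∈ Cfsg.pCore r G := hRF ⟨x, hx, rfl⟩
    have hyC : (y : G) ∈ Cq := y.2.2
    have := (hmemCq (y : G)).1 hyC ⟨r, hrP.out⟩ hrq
    exact ((Subgroup.mem_centralizer_iff.1 this) (x : G) hxr).symm

/-- the derived subgroup lies in the Fitting subgroup -/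
theorem commutator_le_fittingSubgroup_of_K1 [Finite G] [Group.IsSolvable G]
    (hK1 : ∀ (r : ℕ) [Fact r.Prime], ∀ z ∈ commutator G, (orderOf z).Coprime r →
      z ∈ Subgroup.centralizer (Cfsg.pCore r G : Set G)) :
    commutator G ≤ Cfsg.fittingSubgroup G := by
  have h1 : (Cfsg.fittingSubgroup G).subgroupOf (commutator G) = ⊤ := by
    apply eq_top_of_forall_sylow_le
    intro r hr
    obtain ⟨R⟩ : Nonempty (Sylow r ↥(commutator G)) := inferInstance
    refine ⟨R, ?_⟩
    intro x hx
    rw [Subgroup.mem_subgroupOf]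
    have h2 : (R : Subgroup ↥(commutator G)).map (commutator G).subtype ≤ Cfsg.pCore r G :=
      le_pCore_of_le_commutator_of_K1 hK1 r _ (R.2.map _) (Subgroup.map_subtype_le _)
    exact pCore_le_fittingSubgroup r (h2 ⟨x, hx, rfl⟩)
  exact Subgroup.subgroupOf_eq_top.1 h1

end Cfsg.Agent.Helper6.Narrow
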