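import Mathlib
import Cfsg.Agent.Helper6.NarrowG

set_option autoImplicit false

/-!
Narrow `p`-groups, part H: a `p`-group of rank at least three with an elementary abelian subgroup
`E` whose centralizer has rank at most two contains an element `x` of order `p` whose centralizer
has rank at most two.
-/

namespace Cfsg.Agent.Helper6.Narrow

open Cfsg.Agent.Helper1 Cfsg.Agent.Helper1.Rank2Fitting

open scoped commutatorElement

universe u

variable {R : Type u} [Group R] [Finite R] {p : ℕ} [hp : Fact p.Prime]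

theorem exists_nHyp_of_centralizer_rank (hR : IsPGroup p R) (E : Subgroup R)
    (hEc : ∀ a ∈ E, ∀ b ∈ E, a * b = b * a) (hEe : ∀ a ∈ E, a ^ p = 1)
    (hr : Cfsg.PRankLE p 2 ↥(Subgroup.centralizer (E : Set R)))
    (hrk : ¬ Cfsg.PRankLE p 2 R) : ∃ x : R, NHyp p x := by
  -- `Z₁ = Ω₁(Z(R))`
  let Z₁ : Subgroup R :=
    { carrier := {z | z ∈ Subgroup.center R ∧ z ^ p = 1}
      one_mem' := ⟨Subgroup.one_mem _, one_pow p⟩
      mul_mem' := by
        rintro a b ⟨ha, hap⟩ ⟨hb, hbp⟩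
        refine ⟨Subgroup.mul_mem _ ha hb, ?_⟩
        have hcomm : Commute a b := Subgroup.mem_center_iff.mp hb a
        rw [hcomm.mul_pow, hap, hbp, one_mul]
      inv_mem' := by
        rintro a ⟨ha, hap⟩
        exact ⟨Subgroup.inv_mem _ ha, by rw [inv_pow, hap, inv_one]⟩ }
  have hZ₁mem : ∀ z, z ∈ Z₁ ↔ z ∈ Subgroup.center R ∧ z ^ p = 1 := fun z => Iff.rfl
  have hZ₁comm : ∀ z ∈ Z₁, ∀ g : R, g * z = z * g := fun z hz g =>
    Subgroup.mem_center_iff.mp ((hZ₁mem z).mp hz).1 g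
  have hZ₁norm : ∀ H : Subgroup R, Z₁ ≤ Subgroup.normalizer (H : Set R) := by
    intro H z hz
    rw [Subgroup.mem_normalizer_iff]
    intro a
    have : z * a * z⁻¹ = a := by rw [← hZ₁comm z hz a, mul_inv_cancel_right]
    rw [this]
  -- `R` is nontrivial
  haveI hnt : Nontrivial R := by
    by_contra hnt
    rw [not_nontrivial_iff_subsingleton] at hnt
    apply hrk
    intro A _ _
    have : Nat.card ↥A = 1 := Nat.card_eq_one_iff_unique.mpr ⟨inferInstance, ⟨1⟩⟩
    rw [this]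
    exact Nat.one_le_pow _ _ hp.out.pos
  -- `Z₁ ≠ ⊥`
  have hZ₁ne : p ≤ Nat.card ↥Z₁ := by
    haveI := hR.center_nontrivial
    have hcp : IsPGroup p ↥(Subgroup.center R) := hR.to_subgroup _
    obtain ⟨k, hk⟩ := IsPGroup.iff_card.mp hcp
    have hk0 : k ≠ 0 := by
      rintro rfl
      rw [pow_zero] at hk
      have := (Nat.card_eq_one_iff_unique.mp hk).1
      exact not_subsingleton ↥(Subgroup.center R) this
    have hdvd : p ∣ Nat.card ↥(Subgroup.center R) := by
      rw [hk]; exact dvd_pow_self p hk0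
    obtain ⟨z, hz⟩ := exists_prime_orderOf_dvd_card' p hdvd
    have hzmem : (z : R) ∈ Z₁ := by
      rw [hZ₁mem]
      refine ⟨z.2, ?_⟩
      have h1 : z ^ p = 1 := by rw [← hz]; exact pow_orderOf_eq_one z
      have := congrArg Subtype.val h1
      simpa using this
    have hzord : orderOf (z : R) = p := by
      rw [← hz]; exact orderOf_injective (Subgroup.center R).subtype (Subgroup.subtype_injective _) z
    calc p = Nat.card ↥(Subgroup.zpowers (z : R)) := by rw [Nat.card_zpowers, hzord]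
      _ ≤ Nat.card ↥Z₁ := Nat.le_of_dvd Nat.card_pos
          (Subgroup.card_dvd_of_le (by rw [Subgroup.zpowers_le]; exact hzmem))
  -- `E₁ = E Z₁`
  obtain ⟨E₁, hE₁⟩ : ∃ E₁ : Subgroup R, E₁ = E ⊔ Z₁ := ⟨_, rfl⟩
  have hE₁form : ∀ e ∈ E₁, ∃ a ∈ E, ∃ z ∈ Z₁, e = a * z := by
    intro e he
    rw [hE₁] at he
    exact mem_sup_of_le_normalizer (hZ₁norm E) he
  have hE₁c : ∀ a ∈ E₁, ∀ b ∈ E₁, a * b = b * a := by
    intro a ha b hb
    obtain ⟨a', ha', z, hz, rfl⟩ := hE₁form a ha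
    obtain ⟨b', hb', w, hw, rfl⟩ := hE₁form b hb
    have h1 : Commute a' b' := hEc a' ha' b' hb'
    have h2 : ∀ g : R, Commute g z := fun g => hZ₁comm z hz g
    have h3 : ∀ g : R, Commute g w := fun g => hZ₁comm w hw g
    exact ((h1.mul_right (h3 a')).mul_left ((h2 b').symm.mul_right (h3 z))).eq
  have hE₁e : ∀ a ∈ E₁, a ^ p = 1 := by
    intro a ha
    obtain ⟨a', ha', z, hz, rfl⟩ := hE₁form a ha
    have h2 : Commute a' z := hZ₁comm z hz a'
    rw [h2.mul_pow, hEe a' ha', ((hZ₁mem z).mp hz).2, one_mul]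
  have hEE₁ : E ≤ E₁ := hE₁ ▸ le_sup_left
  have hZE₁ : Z₁ ≤ E₁ := hE₁ ▸ le_sup_right
  have hE₁cent : E₁ ≤ Subgroup.centralizer (E : Set R) := by
    intro a ha
    rw [Subgroup.mem_centralizer_iff]
    intro e he
    exact hE₁c e (hEE₁ he) a ha
  have hE₁card : Nat.card ↥E₁ ≤ p ^ 2 := card_le_of_pRankLE_sub hr E₁ hE₁cent hE₁c hE₁e
  -- an element outside the centre
  obtain ⟨x, hxE₁, hxZ⟩ : ∃ x ∈ E₁, x ∉ Subgroup.center R := by
    by_contra hcon
    push Not at hcon
    apply hrk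
    intro A hAc hAe
    have h1 := hr ((A.subgroupOf (Subgroup.centralizer (E : Set R)))) (by
      refine ⟨⟨?_⟩⟩
      rintro ⟨a, ha⟩ ⟨b, hb⟩
      apply Subtype.ext
      apply Subtype.ext
      have := hAc.is_comm.comm ⟨a, ha⟩ ⟨b, hb⟩
      show ((a : R) * (b : R) = (b : R) * (a : R))
      exact congrArg Subtype.val this) (by
      intro a ha
      apply Subtype.ext
      exact hAe a ha)
    have hAle : A ≤ Subgroup.centralizer (E : Set R) := by
      intro a _
      rw [Subgroup.mem_centralizer_iff]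
      intro e he
      exact (Subgroup.mem_center_iff.mp (hcon e (hEE₁ he)) a).symm
    rwa [card_subgroupOf_of_le hAle] at h1
  have hxp : x ^ p = 1 := hE₁e x hxE₁
  have hx1 : x ≠ 1 := by
    rintro rfl
    exact hxZ (Subgroup.one_mem _)
  have hxord : orderOf x = p := orderOf_eq_prime hxp hx1
  -- `Y = Z₁ ⟨x⟩ = E₁`
  obtain ⟨Y, hY⟩ : ∃ Y : Subgroup R, Y = Z₁ ⊔ Subgroup.zpowers x := ⟨_, rfl⟩
  have hYE₁ : Y ≤ E₁ := by
    rw [hY]
    apply sup_le hZE₁
    rw [Subgroup.zpowers_le]; exact hxE₁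
  have hZY : Z₁ ≤ Y := hY ▸ le_sup_left
  have hxY : x ∈ Y := by
    rw [hY]
    exact (le_sup_right : Subgroup.zpowers x ≤ Z₁ ⊔ Subgroup.zpowers x) (Subgroup.mem_zpowers x)
  have hYcard : p ^ 2 ≤ Nat.card ↥Y := by
    obtain ⟨j, hj⟩ := IsPGroup.iff_card.mp (hR.to_subgroup Z₁)
    obtain ⟨k, hk⟩ := IsPGroup.iff_card.mp (hR.to_subgroup Y)
    have hj1 : 1 ≤ j := by
      by_contra hj0
      push Not at hj0
      have : j = 0 := by omega
      rw [this, pow_zero] at hj
      have := hp.out.one_lt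
      omega
    have hlt : Nat.card ↥Z₁ < Nat.card ↥Y := by
      apply lt_of_le_of_ne (Nat.le_of_dvd Nat.card_pos (Subgroup.card_dvd_of_le hZY))
      intro heq
      have h1 : Z₁ = Y := Subgroup.eq_of_le_of_card_ge hZY heq.ge
      apply hxZ
      have : x ∈ Z₁ := h1 ▸ hxY
      exact ((hZ₁mem x).mp this).1
    rw [hj, hk] at hlt
    have hjk : j < k := (Nat.pow_lt_pow_iff_right hp.out.one_lt).mp hlt
    rw [hk]
    exact Nat.pow_le_pow_right hp.out.pos (by omega)
  have hYeq : Y = E₁ := Subgroup.eq_of_le_of_card_ge hYE₁ (hE₁card.trans hYcard)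
  have hYform : ∀ e ∈ Y, ∃ z ∈ Z₁, ∃ k : ℤ, e = z * x ^ k := by
    intro e he
    rw [hY] at he
    have hn : Subgroup.zpowers x ≤ Subgroup.normalizer (Z₁ : Set R) := by
      intro g _
      rw [Subgroup.mem_normalizer_iff]
      intro z
      constructor
      · intro hz
        have : g * z * g⁻¹ = z := by rw [hZ₁comm z hz g, mul_inv_cancel_right]
        rw [this]; exact hz
      · intro hz
        have h1 := hZ₁comm _ hz g⁻¹
        have h2 : z = g⁻¹ * (g * z * g⁻¹) * g := by group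
        rw [h2, h1]
        have : g * z * g⁻¹ * g⁻¹ * g = g * z * g⁻¹ := by group
        rw [this]; exact hz
    obtain ⟨z, hz, a, ha, rfl⟩ := mem_sup_of_le_normalizer hn he
    obtain ⟨k, rfl⟩ := Subgroup.mem_zpowers_iff.mp ha
    exact ⟨z, hz, k, rfl⟩
  refine ⟨x, hxord, ?_, hrk⟩
  apply pRankLE_of_le _ hr
  intro g hg
  rw [Subgroup.mem_centralizer_iff]
  intro e he
  have heY : e ∈ Y := hYeq ▸ hEE₁ he
  obtain ⟨z, hz, k, rfl⟩ := hYform e heY
  have h1 : Commute g z := hZ₁comm z hz g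
  have h2 : Commute g x := (Subgroup.mem_centralizer_iff.mp hg x rfl).symm
  exact ((h1.mul_right (h2.zpow_right k)).eq).symm

end Cfsg.Agent.Helper6.Narrow
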