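import Mathlib
import Cfsg.Agent.Helper6.NarrowH

set_option autoImplicit false

/-!
Narrow `p`-groups, part I: a solvable group of odd order in which some elementary abelian
`p`-subgroup `E` of the Fitting subgroup has `F(G) ∩ C_G(E)` of rank at most two has its derived
subgroup inside the Fitting subgroup.
-/

namespace Cfsg.Agent.Helper6.Narrow

open Cfsg.Agent.Helper1 Cfsg.Agent.Helper1.Rank2Fitting Cfsg.Agent.Helper1.Rank2Struct

open scoped commutatorElement

universe u

variable {G : Type u} [Group G]

theorem derived_le_fitting_of_small_centralizer_rank [Finite G] [Group.IsSolvable G]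
    (hodd : Odd (Nat.card G)) (p : ℕ) [hp : Fact p.Prime] (E : Subgroup G)
    (hE : E ≤ Cfsg.fittingSubgroup G) (hEe : Cfsg.IsElementaryAbelian p E)
    (hr : Cfsg.RankLE 2 ↥(Cfsg.fittingSubgroup G ⊓ Subgroup.centralizer (E : Set G))) :
    commutator G ≤ Cfsg.fittingSubgroup G := by
  have hEcomm : ∀ a ∈ E, ∀ b ∈ E, a * b = b * a := by
    intro a ha b hb
    exact congrArg Subtype.val (hEe.1.is_comm.comm ⟨a, ha⟩ ⟨b, hb⟩)
  have hEp : IsPGroup p ↥E := by
    intro a
    refine ⟨1, ?_⟩
    apply Subtype.ext
    rw [pow_one, Subgroup.coe_pow]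
    exact hEe.2 a a.2
  have hEP : E ≤ Cfsg.pCore p G := le_pCore_of_le_fitting E hEp hE
  apply commutator_le_fittingSubgroup_of_K1
  intro q hq
  by_cases hq2 : q = 2
  · subst hq2
    intro z _ _
    rw [pCore_two_eq_bot hodd, Subgroup.coe_bot, Subgroup.centralizer_eq_top_iff_subset.2]
    · exact Subgroup.mem_top z
    · intro x hx
      rw [Set.mem_singleton_iff] at hx
      rw [hx]
      exact Subgroup.one_mem _
  have hnorm : (⊤ : Subgroup G) ≤ Subgroup.normalizer (Cfsg.pCore q G : Set G) := by
    rw [Subgroup.normalizer_eq_top]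
  have htopsol : Group.IsSolvable (⊤ : Subgroup G) := inferInstance
  have htopodd : Odd (Nat.card (⊤ : Subgroup G)) := by rw [Subgroup.card_top]; exact hodd
  by_cases hrank : Cfsg.PRankLE q 2 ↥(Cfsg.pCore q G)
  · exact commutator_coprime_le_centralizer hq2 (Cfsg.pCore q G) ⊤ (pCore_isPGroup q)
      hrank hnorm htopsol htopodd
  · have hqp : q = p := by
      by_contra hqp
      apply hrank
      apply pRankLE_of_le _ (hr q hq.out)
      intro y hy
      refine ⟨pCore_le_fittingSubgroup q hy, ?_⟩
      show y ∈ Subgroup.centralizer (E : Set G)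
      rw [Subgroup.mem_centralizer_iff]
      intro e he
      have hdisj : Disjoint (Cfsg.pCore p G) (Cfsg.pCore q G) :=
        IsPGroup.disjoint_of_ne p q (Ne.symm hqp) _ _ (pCore_isPGroup p) (pCore_isPGroup q)
      exact (Subgroup.commute_of_normal_of_disjoint _ _ inferInstance inferInstance hdisj e y
        (hEP he) hy).eq
    subst hqp
    set P := Cfsg.pCore q G with hP
    have hPp : IsPGroup q ↥P := pCore_isPGroup q
    -- the centralizer of `E` in `P` has rank at most two
    have hr' : Cfsg.PRankLE q 2 ↥(Subgroup.centralizer ((E.subgroupOf P : Subgroup ↥P) : Set ↥P)) := by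
      let f : ↥(Subgroup.centralizer ((E.subgroupOf P : Subgroup ↥P) : Set ↥P)) →*
          ↥(Cfsg.fittingSubgroup G ⊓ Subgroup.centralizer (E : Set G)) :=
        { toFun := fun y => ⟨((y : ↥P) : G), by
            refine ⟨pCore_le_fittingSubgroup q (y : ↥P).2, ?_⟩
            show ((y : ↥P) : G) ∈ Subgroup.centralizer (E : Set G)
            rw [Subgroup.mem_centralizer_iff]
            intro e he
            have h1 := Subgroup.mem_centralizer_iff.mp y.2 (⟨e, hEP he⟩ : ↥P)
              (by rw [SetLike.mem_coe, Subgroup.mem_subgroupOf]; exact he)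
            exact congrArg Subtype.val h1⟩
          map_one' := rfl
          map_mul' := fun a b => rfl }
      apply pRankLE_of_injective f _ (hr q hq.out)
      intro a b hab
      have h1 : ((a : ↥P) : G) = ((b : ↥P) : G) :=
        congrArg (fun t : ↥(Cfsg.fittingSubgroup G ⊓ Subgroup.centralizer (E : Set G)) => (t : G)) hab
      exact Subtype.ext (Subtype.ext h1)
    obtain ⟨x, hx⟩ := exists_nHyp_of_centralizer_rank hPp (E.subgroupOf P)
      (by
        intro a ha b hb
        apply Subtype.ext
        exact hEcomm a (Subgroup.mem_subgroupOf.mp ha) b (Subgroup.mem_subgroupOf.mp hb))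
      (by
        intro a ha
        apply Subtype.ext
        rw [Subgroup.coe_pow]
        exact hEe.2 a (Subgroup.mem_subgroupOf.mp ha)) hr' hrank
    intro z hz hzcop
    rw [commutator_def] at hz
    exact hx.commutator_coprime_le_centralizer hq2 P ⊤ hPp hnorm z hz hzcop

end Cfsg.Agent.Helper6.Narrow
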