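import Mathlib
import Cfsg.Agent.Helper6.NarrowI
import Cfsg.Agent.Helper1.BGUb
import Cfsg.Agent.Helper2.T36h
import Cfsg.Agent.Helper3.PLen

set_option autoImplicit false

/-!
Narrow `p`-groups, part J: structure of solvable groups of odd order with narrow Sylow
`p`-subgroups (Bender–Glauberman, Theorem 5.5(b)-(e) type statements).
-/

namespace Cfsg.Agent.Helper6.Narrow

open Cfsg.Agent.Helper1 Cfsg.Agent.Helper1.Rank2Fitting Cfsg.Agent.Helper1.Rank2Struct

open scoped commutatorElement

universe u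

variable {G : Type u} [Group G]

/-- the analogue of `structure_of_pPrimeCore_eq_bot` with `NHyp` on `O_p(G)` -/
theorem structure_of_pPrimeCore_eq_bot_of_nHyp [Finite G] [Group.IsSolvable G]
    {p : ℕ} [hp : Fact p.Prime] (hp2 : p ≠ 2) {x : ↥(Cfsg.pCore p G)} (h : NHyp p x)
    (hbot : Cfsg.pPrimeCore p G = ⊥) :
    commutator G ≤ Cfsg.pCore p G ∧ ∀ q : ℕ, q.Prime → q ∣ Nat.card G → q ≤ p := by
  set P := Cfsg.pCore p G with hP
  have hPn : P.Normal := inferInstance
  have hPp : IsPGroup p P := pCore_isPGroup p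
  have hCP : Subgroup.centralizer (P : Set G) ≤ P := centralizer_pCore_le p hbot
  have hnorm : (⊤ : Subgroup G) ≤ Subgroup.normalizer (P : Set G) := by
    rw [Subgroup.normalizer_eq_top]
  have key := h.commutator_coprime_le_centralizer hp2 P ⊤ hPp hnorm
  have htriv : ∀ z ∈ commutator G, (orderOf z).Coprime p → z = 1 := by
    intro z hz hzcop
    rw [commutator_def] at hz
    have h1 : z ∈ P := hCP (key z hz hzcop)
    have h2 : (Nat.card (Subgroup.zpowers z)).Coprime p := by
      rw [Nat.card_zpowers]; exact hzcop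
    exact eq_one_of_mem_pGroup_of_mem_coprime hPp h2 h1 (Subgroup.mem_zpowers z)
  have hcp : IsPGroup p ↥(commutator G) := isPGroup_of_coprime_trivial _ htriv
  refine ⟨le_pCore inferInstance hcp, ?_⟩
  intro q hq hqdvd
  by_cases hqp : q = p
  · exact hqp.le
  haveI : Fact q.Prime := ⟨hq⟩
  obtain ⟨y, hy⟩ := exists_prime_orderOf_dvd_card' q hqdvd
  have hycop : (orderOf y).Coprime p := by
    rw [hy]; exact (Nat.coprime_primes hq hp.out).2 hqp
  have h1 := h.pow_mem_centralizer hp2 P hPp y (hnorm (Subgroup.mem_top y)) hycop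
  have h2 : y ^ (p - 1) ∈ P := hCP h1
  have h3 : (Nat.card (Subgroup.zpowers y)).Coprime p := by
    rw [Nat.card_zpowers]; exact hycop
  have h4 : y ^ (p - 1) = 1 :=
    eq_one_of_mem_pGroup_of_mem_coprime hPp h3 h2 (Subgroup.pow_mem _ (Subgroup.mem_zpowers y) _)
  have h5 : q ∣ p - 1 := by
    rw [← hy]; exact orderOf_dvd_of_pow_eq_one h4
  have h6 : q ≤ p - 1 := Nat.le_of_dvd (by have := hp.out.two_le; omega) h5
  omega

/-- the generic tail of the structure theorem -/
theorem structure_tail [Finite G] [Group.IsSolvable G] (hodd : Odd (Nat.card G))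
    (p : ℕ) [hp : Fact p.Prime]
    (hB1 : commutator (G ⧸ Cfsg.pPrimeCore p G) ≤ Cfsg.pCore p (G ⧸ Cfsg.pPrimeCore p G))
    (hB2 : ∀ q : ℕ, q.Prime → q ∣ Nat.card (G ⧸ Cfsg.pPrimeCore p G) → q ≤ p) :
    (∀ q : ℕ, q.Prime → q ∣ (Cfsg.pPrimeCore p G).index → q ≤ p) ∧
      ((p = 3 ∨ ∀ q : ℕ, q.Prime → q ∣ Nat.card G → p ≤ q) → Cfsg.HasNormalPComplement p G) ∧
      Cfsg.HasNormalPComplement p ↥(commutator G) ∧
      (∀ L : Subgroup ↥(commutator G), (Nat.card L).Coprime p →
        L ≤ Cfsg.pPrimeCore p ↥(commutator G)) ∧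
      commutator G ≤ Cfsg.pPrimePCore p G ∧ ((Cfsg.pPrimePCore p G).index).Coprime p := by
  set K := Cfsg.pPrimeCore p G with hK
  have hKcop : (Nat.card K).Coprime p := card_pPrimeCore_coprime p
  set π := QuotientGroup.mk' K with hπ
  have hπs : Function.Surjective π := QuotientGroup.mk'_surjective K
  set Pb := Cfsg.pCore p (G ⧸ K) with hPb
  have hPbp : IsPGroup p Pb := pCore_isPGroup p
  -- image of the derived subgroup
  have hmapcomm : (commutator G).map π ≤ Pb := by
    rw [commutator_def, Subgroup.map_commutator]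
    exact (Subgroup.commutator_mono le_top le_top).trans hB1
  have hmapp : IsPGroup p ((commutator G).map π) := hPbp.to_le hmapcomm
  have hidx : K.index = Nat.card (G ⧸ K) := Subgroup.index_eq_card K
  -- (1)
  have c1 : ∀ q : ℕ, q.Prime → q ∣ K.index → q ≤ p := by
    intro q hq hqd
    rw [hidx] at hqd
    exact hB2 q hq hqd
  -- the normal `p`-complement of `G'`
  set M : Subgroup ↥(commutator G) := K.subgroupOf (commutator G) with hM
  have hMn : M.Normal := inferInstance
  have hMcop : (Nat.card M).Coprime p := by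
    have h1 : Nat.card M ∣ Nat.card K := by
      rw [hM, Cfsg.Agent.Helper1.card_subgroupOf]
      exact Subgroup.card_dvd_of_le inf_le_left
    exact hKcop.coprime_dvd_left h1
  have hMidx : ∃ k : ℕ, M.index = p ^ k := by
    obtain ⟨k, hk⟩ := IsPGroup.iff_card.1 hmapp
    refine ⟨k, ?_⟩
    rw [← hk, hM]
    show K.relIndex (commutator G) = _
    have := Subgroup.relIndex_ker (K := commutator G) π
    rwa [hπ, QuotientGroup.ker_mk'] at this
  refine ⟨c1, ?_, ?_, ?_, ?_, ?_⟩
  · -- (2)
    intro hcase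
    rw [hasNormalPComplement_iff_exists]
    refine ⟨K, inferInstance, hKcop, ?_⟩
    have hall : ∀ {q : ℕ}, q.Prime → q ∣ K.index → q = p := by
      intro q hq hqd
      have hqp := c1 q hq hqd
      have hqG : q ∣ Nat.card G := hqd.trans (Subgroup.index_dvd_card K)
      rcases hcase with h3 | hmin
      · have hq2 : q ≠ 2 := by
          rintro rfl
          exact (Nat.not_even_iff_odd.2 hodd) (even_iff_two_dvd.2 hqG)
        have := hq.two_le
        omega
      · exact le_antisymm hqp (hmin q hq hqG)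
    have hne : K.index ≠ 0 := Subgroup.index_ne_zero_of_finite
    exact ⟨_, Nat.eq_prime_pow_of_unique_prime_dvd hne hall⟩
  · -- (3)
    rw [hasNormalPComplement_iff_exists]
    exact ⟨M, hMn, hMcop, hMidx⟩
  · -- (4)
    intro L hL
    refine le_trans ?_ (le_pPrimeCore hMn hMcop)
    intro l hl
    rw [hM, Subgroup.mem_subgroupOf, ← QuotientGroup.ker_mk' K, MonoidHom.mem_ker]
    have h1 : π (l : G) ∈ (commutator G).map π := Subgroup.mem_map_of_mem π l.2
    have h2 : orderOf (π (l : G)) ∣ Nat.card L := by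
      have h3 : orderOf (π (l : G)) ∣ orderOf (l : G) := orderOf_map_dvd π _
      have h4 : orderOf (l : G) = orderOf l :=
        orderOf_injective (commutator G).subtype (Subgroup.subtype_injective _) l
      have h5 : orderOf l = orderOf (⟨l, hl⟩ : ↥L) :=
        orderOf_injective L.subtype (Subgroup.subtype_injective _) ⟨l, hl⟩
      rw [h4, h5] at h3
      exact h3.trans (orderOf_dvd_natCard _)
    have h6 : (Nat.card (Subgroup.zpowers (π (l : G)))).Coprime p := by
      rw [Nat.card_zpowers]; exact hL.coprime_dvd_left h2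
    exact eq_one_of_mem_pGroup_of_mem_coprime hmapp h6 h1 (Subgroup.mem_zpowers _)
  · -- (5)
    intro g hg
    show g ∈ (Cfsg.pCore p (G ⧸ Cfsg.pPrimeCore p G)).comap
      (QuotientGroup.mk' (Cfsg.pPrimeCore p G))
    rw [Subgroup.mem_comap]
    exact hmapcomm (Subgroup.mem_map_of_mem π hg)
  · -- (6)
    have h1 : (Cfsg.pPrimePCore p G).index = Pb.index := by
      show ((Cfsg.pCore p (G ⧸ Cfsg.pPrimeCore p G)).comap
        (QuotientGroup.mk' (Cfsg.pPrimeCore p G))).index = _
      exact Subgroup.index_comap_of_surjective _ hπs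
    rw [h1]
    obtain ⟨S⟩ : Nonempty (Sylow p (G ⧸ K)) := inferInstance
    have hPbS : Pb ≤ S := pCore_le_sylow S
    have hSn : (S : Subgroup (G ⧸ K)).Normal := by
      constructor
      intro n hn g
      have h2 : g * n * g⁻¹ = (g * n * g⁻¹ * n⁻¹) * n := by group
      rw [h2]
      apply Subgroup.mul_mem _ _ hn
      apply hPbS
      apply hB1
      rw [commutator_def]
      exact Subgroup.commutator_mem_commutator (Subgroup.mem_top g) (Subgroup.mem_top n)
    have hSPb : (S : Subgroup (G ⧸ K)) ≤ Pb := le_pCore hSn S.2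
    have heq : Pb = S := le_antisymm hPbS hSPb
    rw [heq]
    exact ((Nat.Prime.coprime_iff_not_dvd hp.out).2 S.not_dvd_index).symm

/-- with `p`-length one, a Sylow `p`-subgroup of `G` is isomorphic to `O_p(G / O_{p'}(G))` -/
theorem sylow_equiv_pCore_quotient [Finite G] (p : ℕ) [hp : Fact p.Prime]
    (hpl : Cfsg.PLengthLE p 1 G) (S : Sylow p G) :
    Nonempty (↥(S : Subgroup G) ≃* ↥(Cfsg.pCore p (G ⧸ Cfsg.pPrimeCore p G))) := by
  set K := Cfsg.pPrimeCore p G with hK
  have hKcop : (Nat.card K).Coprime p := card_pPrimeCore_coprime p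
  set π := QuotientGroup.mk' K with hπ
  have hπs : Function.Surjective π := QuotientGroup.mk'_surjective K
  have hQbot : Cfsg.pPrimeCore p (G ⧸ K) = ⊥ := pPrimeCore_quotient_pPrimeCore p
  have hQpl : Cfsg.PLengthLE p 1 (G ⧸ K) :=
    Cfsg.Agent.Helper3.PLen.pLengthLE_of_surjective p π hπs hpl
  set Pb := Cfsg.pCore p (G ⧸ K) with hPb
  have hSle : (S : Subgroup G).map π ≤ Pb :=
    Cfsg.Agent.Helper2.T36.le_pCore_of_pLengthLE_one hQbot hQpl (S.2.map π)
  obtain ⟨T⟩ : Nonempty (Sylow p (G ⧸ K)) := inferInstance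
  have hTn : (T : Subgroup (G ⧸ K)).Normal :=
    Cfsg.Agent.Helper2.T36.normal_sylow_of_pLengthLE_one hQbot hQpl T
  have hPbT : Pb = T := le_antisymm (pCore_le_sylow T) (le_pCore hTn T.2)
  let f : ↥(S : Subgroup G) →* ↥Pb :=
    { toFun := fun s => ⟨π (s : G), hSle (Subgroup.mem_map_of_mem π s.2)⟩
      map_one' := by apply Subtype.ext; simp
      map_mul' := by intro a b; apply Subtype.ext; simp }
  have hf : Function.Injective f := by
    rw [injective_iff_map_eq_one]
    intro s hs
    have h1 : π (s : G) = 1 := congrArg Subtype.val hs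
    have h2 : (s : G) ∈ K := by
      rw [← QuotientGroup.ker_mk' K]; exact h1
    apply Subtype.ext
    exact eq_one_of_mem_pGroup_of_mem_coprime S.2 hKcop s.2 h2
  have hcard : Nat.card ↥Pb ≤ Nat.card ↥(S : Subgroup G) := by
    rw [hPbT, T.card_eq_multiplicity, S.card_eq_multiplicity]
    have h1 : Nat.card G = Nat.card (G ⧸ K) * Nat.card K :=
      Subgroup.card_eq_card_quotient_mul_card_subgroup K
    rw [h1, Nat.factorization_mul Nat.card_pos.ne' Nat.card_pos.ne']
    simp only [Finsupp.coe_add, Pi.add_apply]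
    exact Nat.pow_le_pow_right hp.out.pos (Nat.le_add_right _ _)
  have hbij : Function.Bijective f := hf.bijective_of_nat_card_le hcard
  exact ⟨MulEquiv.ofBijective f hbij⟩

/-- **Structure of solvable groups of odd order with narrow Sylow `p`-subgroups.** -/
theorem odd_solvable_narrow_structure [Finite G] [Group.IsSolvable G] (hodd : Odd (Nat.card G))
    (p : ℕ) [hp : Fact p.Prime] (hpG : p ∣ Nat.card G) (S : Sylow p G)
    (hS : Cfsg.IsNarrow p ↥(S : Subgroup G))
    (hpl : ¬ Cfsg.PRankLE p 2 ↥(S : Subgroup G) → Cfsg.PLengthLE p 1 G) :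
    (∀ q : ℕ, q.Prime → q ∣ (Cfsg.pPrimeCore p G).index → q ≤ p) ∧
      ((p = 3 ∨ ∀ q : ℕ, q.Prime → q ∣ Nat.card G → p ≤ q) → Cfsg.HasNormalPComplement p G) ∧
      Cfsg.HasNormalPComplement p ↥(commutator G) ∧
      (∀ L : Subgroup ↥(commutator G), (Nat.card L).Coprime p →
        L ≤ Cfsg.pPrimeCore p ↥(commutator G)) ∧
      commutator G ≤ Cfsg.pPrimePCore p G ∧ ((Cfsg.pPrimePCore p G).index).Coprime p := by
  by_cases hr : Cfsg.PRankLE p 2 ↥(S : Subgroup G)
  · exact odd_solvable_rank_two_structure hodd p hpG (Cfsg.Agent.Helper1.BGU.pRankLE_of_sylow S hr)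
  have hp2 : p ≠ 2 := by
    rintro rfl
    exact (Nat.not_even_iff_odd.2 hodd) (even_iff_two_dvd.2 hpG)
  obtain ⟨x, hx⟩ := exists_nHyp_of_isNarrow hS hr
  obtain ⟨e⟩ := sylow_equiv_pCore_quotient p (hpl hr) S
  have hx' := hx.of_mulEquiv e
  have hQbot : Cfsg.pPrimeCore p (G ⧸ Cfsg.pPrimeCore p G) = ⊥ := pPrimeCore_quotient_pPrimeCore p
  obtain ⟨hB1, hB2⟩ := structure_of_pPrimeCore_eq_bot_of_nHyp hp2 hx' hQbot
  exact structure_tail hodd p hB1 hB2

end Cfsg.Agent.Helper6.Narrow
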