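import Mathlib
import Cfsg.Agent.Helper6.NarrowJ

set_option autoImplicit false

/-!
Narrow `p`-groups, part K: the automorphism theorem for narrow `p`-groups (Bender–Glauberman,
Theorem 5.5 type statements) in internal form.
-/

namespace Cfsg.Agent.Helper6.Narrow

open Cfsg.Agent.Helper1 Cfsg.Agent.Helper1.Rank2Fitting Cfsg.Agent.Helper1.Rank2Struct
  Cfsg.Agent.Helper1.AutPlumbing

open scoped commutatorElement

universe u

/-- if `H' ≤ O_p(H)` then `O_p(H)` is a Sylow `p`-subgroup -/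
theorem index_pCore_coprime_of_commutator_le {H : Type u} [Group H] [Finite H] {p : ℕ}
    [hp : Fact p.Prime] (hB1 : commutator H ≤ Cfsg.pCore p H) :
    ((Cfsg.pCore p H).index).Coprime p := by
  obtain ⟨S⟩ : Nonempty (Sylow p H) := inferInstance
  have hPbS : Cfsg.pCore p H ≤ S := pCore_le_sylow S
  have hSn : (S : Subgroup H).Normal := by
    constructor
    intro n hn g
    have h2 : g * n * g⁻¹ = (g * n * g⁻¹ * n⁻¹) * n := by group
    rw [h2]
    apply Subgroup.mul_mem _ _ hn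
    apply hPbS
    apply hB1
    rw [commutator_def]
    exact Subgroup.commutator_mem_commutator (Subgroup.mem_top g) (Subgroup.mem_top n)
  have hSPb : (S : Subgroup H) ≤ Cfsg.pCore p H := le_pCore hSn S.2
  have heq : Cfsg.pCore p H = S := le_antisymm hPbS hSPb
  rw [heq]
  exact ((Nat.Prime.coprime_iff_not_dvd hp.out).2 S.not_dvd_index).symm

variable {G : Type u} [Group G] [Finite G]

/-- **(a)** for a narrow `p`-subgroup `R` and a solvable group `A` of odd order acting faithfully,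
`[A, A]` is a `p`-group. -/
theorem narrow_commutator_isPGroup (p : ℕ) [hp : Fact p.Prime] (hp2 : p ≠ 2) (R A : Subgroup G)
    (hR : IsPGroup p R) (hRn : Cfsg.IsNarrow p R)
    (hA : A ≤ Subgroup.normalizer (R : Set G)) (hAs : Group.IsSolvable A)
    (hAodd : Odd (Nat.card A)) (hfaith : A ⊓ Subgroup.centralizer (R : Set G) = ⊥) :
    IsPGroup p ↥⁅A, A⁆ := by
  apply isPGroup_of_coprime_trivial
  intro z hz hzcop
  have h1 : z ∈ Subgroup.centralizer (R : Set G) := by
    by_cases hr : Cfsg.PRankLE p 2 R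
    · exact Rank2Struct.commutator_coprime_le_centralizer hp2 R A hR hr hA hAs hAodd z hz hzcop
    · obtain ⟨x, hx⟩ := exists_nHyp_of_isNarrow hRn hr
      exact hx.commutator_coprime_le_centralizer hp2 R A hR hA z hz hzcop
  have h2 : z ∈ A ⊓ Subgroup.centralizer (R : Set G) := ⟨Subgroup.commutator_le_self A hz, h1⟩
  rw [hfaith, Subgroup.mem_bot] at h2
  exact h2

/-- **(a)** in the form of the statement -/
theorem narrow_commutator_le_pCore (p : ℕ) [hp : Fact p.Prime] (hp2 : p ≠ 2) (R A : Subgroup G)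
    (hR : IsPGroup p R) (hRn : Cfsg.IsNarrow p R)
    (hA : A ≤ Subgroup.normalizer (R : Set G)) (hAs : Group.IsSolvable A)
    (hAodd : Odd (Nat.card A)) (hfaith : A ⊓ Subgroup.centralizer (R : Set G) = ⊥) :
    commutator ↥A ≤ Cfsg.pCore p ↥A ∧ ((Cfsg.pCore p ↥A).index).Coprime p := by
  have hcp := narrow_commutator_isPGroup p hp2 R A hR hRn hA hAs hAodd hfaith
  have hcomm : ⁅A, A⁆ = Subgroup.map A.subtype ⁅(⊤ : Subgroup A), (⊤ : Subgroup A)⁆ := by
    rw [Subgroup.map_commutator, ← MonoidHom.range_eq_map, Subgroup.range_subtype]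
  have hcp' : IsPGroup p ↥(commutator ↥A) := by
    intro g
    have hmem : ((g : ↥A) : G) ∈ ⁅A, A⁆ := by
      rw [hcomm]
      refine ⟨(g : ↥A), ?_, rfl⟩
      have h0 : ∀ y : ↥A, y ∈ commutator ↥A → y ∈ ⁅(⊤ : Subgroup ↥A), (⊤ : Subgroup ↥A)⁆ := by
        intro y hy
        rwa [commutator_def] at hy
      exact h0 _ g.2
    obtain ⟨k, hk⟩ := hcp ⟨_, hmem⟩
    refine ⟨k, ?_⟩
    apply Subtype.ext
    apply Subtype.ext
    have := congrArg Subtype.val hk
    simpa using this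
  have h1 : commutator ↥A ≤ Cfsg.pCore p ↥A := le_pCore inferInstance hcp'
  exact ⟨h1, index_pCore_coprime_of_commutator_le h1⟩

/-- **(b)** when `R` has rank at least three, the `p'`-elements of `A` have order dividing
`p - 1`. -/
theorem narrow_orderOf_dvd (p : ℕ) [hp : Fact p.Prime] (hp2 : p ≠ 2) (R A : Subgroup G)
    (hR : IsPGroup p R) (hRn : Cfsg.IsNarrow p R)
    (hA : A ≤ Subgroup.normalizer (R : Set G))
    (hfaith : A ⊓ Subgroup.centralizer (R : Set G) = ⊥) (hr : ¬ Cfsg.PRankLE p 2 R) :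
    ∀ a ∈ A, (orderOf a).Coprime p → orderOf a ∣ p - 1 := by
  intro a ha hacop
  obtain ⟨x, hx⟩ := exists_nHyp_of_isNarrow hRn hr
  have h1 := hx.pow_mem_centralizer hp2 R hR a (hA ha) hacop
  have h2 : a ^ (p - 1) ∈ A ⊓ Subgroup.centralizer (R : Set G) := ⟨A.pow_mem ha _, h1⟩
  rw [hfaith, Subgroup.mem_bot] at h2
  exact orderOf_dvd_of_pow_eq_one h2

/-- **(c1)** if `A` has prime order `q` not dividing `p (p - 1)` then `2 q` divides `p + 1`. -/
theorem narrow_two_mul_dvd (p : ℕ) [hp : Fact p.Prime] (hp2 : p ≠ 2) (R A : Subgroup G)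
    (hR : IsPGroup p R) (hRn : Cfsg.IsNarrow p R)
    (hA : A ≤ Subgroup.normalizer (R : Set G)) (hAodd : Odd (Nat.card A))
    (hfaith : A ⊓ Subgroup.centralizer (R : Set G) = ⊥)
    (hq : (Nat.card A).Prime) (hqn : ¬ Nat.card A ∣ p * (p - 1)) :
    Cfsg.PRankLE p 2 R ∧ 2 * Nat.card A ∣ p + 1 := by
  haveI : Fact (Nat.card A).Prime := ⟨hq⟩
  obtain ⟨a', ha'⟩ := exists_prime_orderOf_dvd_card' (G := ↥A) (Nat.card A) dvd_rfl
  have haord : orderOf (a' : G) = Nat.card A := by
    rw [← ha']; exact orderOf_injective A.subtype A.subtype_injective a'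
  have hqp : Nat.card A ≠ p := by
    intro h
    apply hqn
    rw [h]; exact dvd_mul_right p (p - 1)
  have hacop : (orderOf (a' : G)).Coprime p := by
    rw [haord]; exact (Nat.coprime_primes hq hp.out).2 hqp
  have hr : Cfsg.PRankLE p 2 R := by
    by_contra hr
    have := narrow_orderOf_dvd p hp2 R A hR hRn hA hfaith hr (a' : G) a'.2 hacop
    rw [haord] at this
    exact hqn (Dvd.dvd.mul_left this p)
  refine ⟨hr, ?_⟩
  -- `q` divides `|Aut R|`
  set φ : Subgroup.normalizer (R : Set G) →* MulAut R := R.normalizerMonoidHom with hφ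
  set x' : Subgroup.normalizer (R : Set G) := ⟨(a' : G), hA a'.2⟩ with hx'
  have hox' : orderOf x' = Nat.card A := by
    rw [← haord, ← orderOf_injective (Subgroup.normalizer (R : Set G)).subtype
      (Subgroup.subtype_injective _) x']
    rfl
  have hφx : φ x' ≠ 1 := by
    intro h1
    have h4 : x' ∈ φ.ker := h1
    rw [hφ, Subgroup.normalizerMonoidHom_ker, Subgroup.mem_subgroupOf] at h4
    have h5 : (a' : G) ∈ A ⊓ Subgroup.centralizer (R : Set G) := ⟨a'.2, h4⟩
    rw [hfaith, Subgroup.mem_bot] at h5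
    rw [h5, orderOf_one] at haord
    exact hq.one_lt.ne haord
  have h1 : orderOf (φ x') ∣ Nat.card A := by
    rw [← hox']; exact orderOf_map_dvd φ x'
  have h2 : orderOf (φ x') = Nat.card A := by
    rcases (Nat.dvd_prime hq).1 h1 with h | h
    · exact absurd (orderOf_eq_one_iff.1 h) hφx
    · exact h
  have h3 : Nat.card A ∣ Nat.card (MulAut ↥R) := by
    rw [← h2]; exact orderOf_dvd_natCard _
  have h4 := Rank2Aut.prime_dvd_card_aut hp2 hR hr (Nat.card A) hq hqp h3
  have hp3 : 3 ≤ p := by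
    have := hp.out.two_le
    omega
  have e : p ^ 2 - 1 = (p - 1) * (p + 1) := by
    obtain ⟨k, rfl⟩ : ∃ k, p = k + 1 := ⟨p - 1, by omega⟩
    simp only [Nat.add_sub_cancel]
    have : (k + 1) ^ 2 = k * (k + 1 + 1) + 1 := by ring
    rw [this, Nat.add_sub_cancel]
  rw [e] at h4
  have h5 : Nat.card A ∣ p + 1 := by
    rcases (Nat.Prime.dvd_mul hq).1 h4 with h | h
    · exact absurd (Dvd.dvd.mul_left h p) hqn
    · exact h
  have h6 : 2 ∣ p + 1 := by
    rcases hp.out.eq_two_or_odd with h2 | h2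
    · exact absurd h2 hp2
    · omega
  have h7 : Nat.Coprime 2 (Nat.card A) := by
    rw [Nat.coprime_two_left]
    exact hAodd
  exact h7.mul_dvd_of_dvd_of_dvd h6 h5

/-- **(c2)** given the central product structure, `[R, A] = R` forces `|R| = p ^ 3`. -/
theorem card_eq_of_central_product (p : ℕ) [hp : Fact p.Prime] (R A : Subgroup G)
    (hR : IsPGroup p R) (hA : A ≤ Subgroup.normalizer (R : Set G))
    (hq : (Nat.card A).Prime) (hqn : ¬ Nat.card A ∣ p * (p - 1)) (hRA : ⁅R, A⁆ = R)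
    (R₁ R₂ : Subgroup G) (hsup : R₁ ⊔ R₂ = R) (hcomm : ∀ a ∈ R₁, ∀ b ∈ R₂, a * b = b * a)
    (hcard : Nat.card R₁ = p ^ 3) (hexp : Monoid.exponent R₁ = p) (hcyc : IsCyclic R₂)
    (hΩ : Subgroup.closure {x : G | x ∈ R₂ ∧ x ^ p = 1} = ⁅R₁, R₁⁆) : Nat.card R = p ^ 3 := by
  have hR₁R : R₁ ≤ R := hsup ▸ le_sup_left
  have hR₂R : R₂ ≤ R := hsup ▸ le_sup_right
  have hnorm : R₂ ≤ Subgroup.normalizer (R₁ : Set G) := by
    intro b hb
    rw [Subgroup.mem_normalizer_iff]
    intro a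
    have key : ∀ a ∈ R₁, b * a * b⁻¹ = a := by
      intro a ha
      rw [← hcomm a ha b hb, mul_inv_cancel_right]
    constructor
    · intro ha
      rw [key a ha]; exact ha
    · intro ha
      have h1 : b⁻¹ * (b * a * b⁻¹) * b = b * a * b⁻¹ := by
        rw [mul_assoc, hcomm _ ha b hb, inv_mul_cancel_left]
      have h2 : b⁻¹ * (b * a * b⁻¹) * b = a := by group
      rw [← h2, h1]; exact ha
  have hform : ∀ r ∈ R, ∃ a ∈ R₁, ∃ b ∈ R₂, r = a * b := by
    intro r hr
    rw [← hsup] at hr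
    exact mem_sup_of_le_normalizer hnorm hr
  have hR₁exp : ∀ a ∈ R₁, a ^ p = 1 := by
    intro a ha
    have h1 := Monoid.pow_exponent_eq_one (⟨a, ha⟩ : ↥R₁)
    rw [hexp] at h1
    have := congrArg Subtype.val h1
    simpa using this
  -- `R₁ = Ω₁(R)`
  have hmemR₁ : ∀ r ∈ R, (r ^ p = 1 ↔ r ∈ R₁) := by
    intro r hr
    constructor
    · intro hrp
      obtain ⟨a, ha, b, hb, rfl⟩ := hform r hr
      rw [(show Commute a b from hcomm a ha b hb).mul_pow, hR₁exp a ha, one_mul] at hrp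
      have hb' : b ∈ ⁅R₁, R₁⁆ := by
        rw [← hΩ]
        exact Subgroup.subset_closure ⟨hb, hrp⟩
      exact R₁.mul_mem ha (Subgroup.commutator_le_self R₁ hb')
    · exact hR₁exp r
  set Ω : Subgroup ↥R := R₁.subgroupOf R with hΩdef
  have hΩmem : ∀ r : ↥R, r ∈ Ω ↔ r ^ p = 1 := by
    intro r
    rw [hΩdef, Subgroup.mem_subgroupOf, ← hmemR₁ (r : G) r.2]
    constructor
    · intro h
      apply Subtype.ext
      simpa using h
    · intro h
      have := congrArg Subtype.val h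
      simpa using this
  have hΩchar : Ω.Characteristic := by
    rw [Subgroup.characteristic_iff_le_comap]
    intro ϕ r hr
    rw [Subgroup.mem_comap]
    show ϕ r ∈ Ω
    rw [hΩmem] at hr ⊢
    rw [← map_pow, hr, map_one]
  haveI hΩn : Ω.Normal := inferInstance
  -- the quotient is cyclic
  haveI hQcyc : IsCyclic (↥R ⧸ Ω) := by
    haveI := hcyc
    let f : ↥R₂ →* ↥R ⧸ Ω := (QuotientGroup.mk' Ω).comp (Subgroup.inclusion hR₂R)
    apply isCyclic_of_surjective f
    intro y
    induction y using QuotientGroup.induction_on with | _ r => ?_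
    obtain ⟨a, ha, b, hb, hab⟩ := hform (r : G) r.2
    refine ⟨⟨b, hb⟩, ?_⟩
    show (QuotientGroup.mk (Subgroup.inclusion hR₂R ⟨b, hb⟩) : ↥R ⧸ Ω) = QuotientGroup.mk r
    rw [QuotientGroup.eq, hΩdef, Subgroup.mem_subgroupOf]
    have : (((Subgroup.inclusion hR₂R ⟨b, hb⟩)⁻¹ * r : ↥R) : G) = b⁻¹ * (r : G) := rfl
    rw [this, hab, hcomm a ha b hb, inv_mul_cancel_left]
    exact ha
  -- `q` is coprime to `|Aut (R / Ω)|`
  have hQp : IsPGroup p (↥R ⧸ Ω) := hR.to_quotient Ω
  obtain ⟨m, hm⟩ := IsPGroup.iff_card.mp hQp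
  have hqp : (Nat.card A).Coprime p := by
    rw [Nat.coprime_primes hq hp.out]
    intro h
    apply hqn
    rw [h]; exact dvd_mul_right p (p - 1)
  have hqp1 : (Nat.card A).Coprime (p - 1) := by
    rw [Nat.Prime.coprime_iff_not_dvd hq]
    intro h
    exact hqn (Dvd.dvd.mul_left h p)
  have hcop : (Nat.card A).Coprime (Nat.card (MulAut (↥R ⧸ Ω))) := by
    rw [IsCyclic.card_mulAut, hm]
    rcases Nat.eq_zero_or_pos m with h0 | hpos
    · rw [h0, pow_zero, Nat.totient_one]
      exact Nat.coprime_one_right _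
    · rw [Nat.totient_prime_pow hp.out hpos]
      exact Nat.Coprime.mul_right (hqp.pow_right _) hqp1
  -- every element of `A` acts trivially on `R / Ω`
  set φ : Subgroup.normalizer (R : Set G) →* MulAut R := R.normalizerMonoidHom with hφ
  set θ : MulAut ↥R →* MulAut (↥R ⧸ Ω) := quotAut Ω hΩchar with hθ
  have htriv : ∀ a ∈ A, ∀ r ∈ R, r⁻¹ * (a * r * a⁻¹) ∈ R₁ := by
    intro a ha r hr
    set a' : Subgroup.normalizer (R : Set G) := ⟨a, hA ha⟩ with ha'
    have h1 : (θ (φ a')) ^ Nat.card A = 1 := by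
      rw [← map_pow, ← map_pow]
      have : a' ^ Nat.card A = 1 := by
        apply Subtype.ext
        rw [Subgroup.coe_pow, Subgroup.coe_one]
        have h2 : (⟨a, ha⟩ : ↥A) ^ Nat.card ↥A = 1 := pow_card_eq_one'
        have h3 : a ^ Nat.card ↥A = 1 := by
          have h4 := congrArg (fun t : ↥A => (t : G)) h2
          simpa only [Subgroup.coe_pow, Subgroup.coe_one] using h4
        exact h3
      rw [this, map_one, map_one]
    have h2 : orderOf (θ (φ a')) ∣ Nat.card A := orderOf_dvd_of_pow_eq_one h1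
    have h3 : orderOf (θ (φ a')) ∣ Nat.card (MulAut (↥R ⧸ Ω)) := orderOf_dvd_natCard _
    have h4 : orderOf (θ (φ a')) = 1 := Nat.eq_one_of_dvd_coprimes hcop h2 h3
    have h5 : θ (φ a') = 1 := orderOf_eq_one_iff.mp h4
    have h6 : θ (φ a') (QuotientGroup.mk ⟨r, hr⟩) = QuotientGroup.mk ⟨r, hr⟩ := by
      rw [h5]; rfl
    rw [hθ, quotAut_mk, eq_comm, QuotientGroup.eq, hΩdef, Subgroup.mem_subgroupOf] at h6
    exact h6
  have hle : ⁅R, A⁆ ≤ R₁ := by
    rw [Subgroup.commutator_le]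
    intro r hr a ha
    have h1 := htriv a ha r⁻¹ (R.inv_mem hr)
    have h2 : ⁅r, a⁆ = r⁻¹⁻¹ * (a * r⁻¹ * a⁻¹) := by
      rw [commutatorElement_def]; group
    rw [h2]; exact h1
  have heq : R₁ = R := le_antisymm hR₁R (hRA ▸ hle)
  rw [← heq]; exact hcard

end Cfsg.Agent.Helper6.Narrow
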