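import Mathlib
import Cfsg.Agent.Helper6.NarrowK

set_option autoImplicit false

/-!
Narrow `p`-groups, part L: the automorphism theorem for narrow `p`-groups, assembled, with the
structure theorem for `p`-groups of rank at most two with `[R, A] = R` as a hypothesis.
-/

namespace Cfsg.Agent.Helper6.Narrow

open scoped commutatorElement

universe u

variable {G : Type u} [Group G] [Finite G]

theorem narrow_main (p : ℕ) [hp : Fact p.Prime] (hp2 : p ≠ 2) (R A : Subgroup G)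
    (hR : IsPGroup p R) (hRn : Cfsg.IsNarrow p R)
    (hA : A ≤ Subgroup.normalizer (R : Set G)) (hAs : Group.IsSolvable A)
    (hAodd : Odd (Nat.card A)) (hfaith : A ⊓ Subgroup.centralizer (R : Set G) = ⊥)
    (h48 : R ≠ ⊥ → Cfsg.PRankLE p 2 R → (Nat.card A).Coprime p → ⁅R, A⁆ = R →
      3 < p ∧ (IsMulCommutative R ∨ ∃ R₁ R₂ : Subgroup G, R₁ ⊔ R₂ = R ∧
        (∀ a ∈ R₁, ∀ b ∈ R₂, a * b = b * a) ∧
        ¬ IsMulCommutative R₁ ∧ Nat.card R₁ = p ^ 3 ∧ Monoid.exponent R₁ = p ∧ IsCyclic R₂ ∧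
        Subgroup.closure {x : G | x ∈ R₂ ∧ x ^ p = 1} = ⁅R₁, R₁⁆)) :
    (commutator ↥A ≤ Cfsg.pCore p ↥A ∧ ((Cfsg.pCore p ↥A).index).Coprime p) ∧
      (¬ Cfsg.PRankLE p 2 R → ∀ a ∈ A, (orderOf a).Coprime p → orderOf a ∣ p - 1) ∧
      ((Nat.card A).Prime → ¬ Nat.card A ∣ p * (p - 1) →
        2 * Nat.card A ∣ p + 1 ∧
          (⁅R, A⁆ = R → ¬ IsMulCommutative R → Nat.card R = p ^ 3)) := by
  refine ⟨narrow_commutator_le_pCore p hp2 R A hR hRn hA hAs hAodd hfaith, ?_, ?_⟩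
  · intro hr
    exact narrow_orderOf_dvd p hp2 R A hR hRn hA hfaith hr
  · intro hq hqn
    obtain ⟨hr, h2⟩ := narrow_two_mul_dvd p hp2 R A hR hRn hA hAodd hfaith hq hqn
    refine ⟨h2, ?_⟩
    intro hRA hnc
    have hR1 : R ≠ ⊥ := by
      rintro rfl
      apply hnc
      refine ⟨⟨fun a b => ?_⟩⟩
      have ha : a = 1 := Subtype.ext (Subgroup.mem_bot.mp a.2)
      have hb : b = 1 := Subtype.ext (Subgroup.mem_bot.mp b.2)
      rw [ha, hb]
    have hcop : (Nat.card A).Coprime p := by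
      rw [Nat.coprime_primes hq hp.out]
      intro h
      apply hqn
      rw [h]; exact dvd_mul_right p (p - 1)
    obtain ⟨_, h | ⟨R₁, R₂, hsup, hcomm, _, hcard, hexp, hcyc, hΩ⟩⟩ := h48 hR1 hr hcop hRA
    · exact absurd h hnc
    · exact card_eq_of_central_product p R A hR hA hq hqn hRA R₁ R₂ hsup hcomm hcard hexp hcyc hΩ

end Cfsg.Agent.Helper6.Narrow
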