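import Mathlib
import Cfsg.Prelude.Def_Characters
import Cfsg.Agent.Helper1.BswChDefs
import Cfsg.Agent.Helper6.NormTwo

/-!
# S3282 (abstract BSW), character side: bridge pieces HC1, HC3, HC4, HC5a, HC5b, HC6, HC8c, HC10, HC11.
-/

set_option autoImplicit false
namespace Cfsg.Agent.Helper1.BswCh
open scoped ComplexConjugate Classical
open Cfsg.Agent.Lead.Bsw (F nInv)
universe u
variable {G : Type u} [Group G]

/-- C1 -/
theorem one_irr [Finite G] : Cfsg.IsIrrCharacter G (fun _ => (1 : ℂ)) := by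
  have h := Cfsg.Agent.Helper6.isIrrCharacter_of_hom (1 : G →* ℂˣ)
  simpa using h

/-- `lam l` is a character of `K`. -/
theorem h6_lam_isCharacter {K : Subgroup G} (l : Dual K) : Cfsg.IsCharacter ↥K (lam l) :=
  Cfsg.Agent.Helper6.IsIrrCharacter.isCharacter (Cfsg.Agent.Helper6.isIrrCharacter_of_hom l)

/-- the constant function `1` is a character of `K`. -/
theorem h6_one_isCharacter (K : Subgroup G) : Cfsg.IsCharacter ↥K (fun _ => (1 : ℂ)) := by
  have h := Cfsg.Agent.Helper6.IsIrrCharacter.isCharacter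
    (Cfsg.Agent.Helper6.isIrrCharacter_of_hom (1 : ↥K →* ℂˣ))
  simpa using h

/-- C3 -/
theorem Dl_isGeneralizedCharacter [Fintype G] (K : Subgroup G) (l : Dual K) :
    Cfsg.IsGeneralizedCharacter G (Dl K l) := by
  refine ⟨Cfsg.indFun K (fun _ => (1 : ℂ)), Cfsg.indFun K (lam l),
    Cfsg.Agent.Helper6.isCharacter_indFun K _ (h6_one_isCharacter K),
    Cfsg.Agent.Helper6.isCharacter_indFun K _ (h6_lam_isCharacter l), ?_⟩
  rw [Dl_def, ← Cfsg.Agent.Helper6.indFun_sub]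
  rfl

/-- C4 -/
theorem classInner_Dl_eq_ai [Fintype G] (K : Subgroup G) (l : Dual K) (ψ : Cfsg.IrrCharacter G) :
    Cfsg.classInner (Dl K l) (ψ : G → ℂ) = (ai K l ψ : ℂ) := by
  obtain ⟨c, hc⟩ := Cfsg.Agent.Helper6.IsGeneralizedCharacter.classInner_irr_int
    (Dl_isGeneralizedCharacter K l) ψ.2
  rw [ai_def, hc]
  simp

/-- C8c: `D_l` is a class function -/
theorem Dl_isClassFunction [Fintype G] (K : Subgroup G) (l : Dual K) :
    Cfsg.IsClassFunction G (Dl K l) :=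
  Cfsg.Agent.Helper6.indFun_isClassFunction K _

/-- C5a: expansion of `D_l` in the irreducible characters -/
theorem Dl_expand [Fintype G] [Fintype (Cfsg.IrrCharacter G)] (K : Subgroup G) (l : Dual K) (g : G) :
    Dl K l g = ∑ ψ : Cfsg.IrrCharacter G, (ai K l ψ : ℂ) * (ψ : G → ℂ) g := by
  have h := congrFun (Cfsg.Agent.Helper6.classFunction_expansion (Dl K l) (Dl_isClassFunction K l)) g
  rw [Finset.sum_apply] at h
  rw [h]
  apply Finset.sum_congr rfl
  intro ψ _
  rw [Pi.smul_apply, smul_eq_mul, classInner_Dl_eq_ai]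

/-- C5b: Parseval for the `D_l` -/
theorem Dl_parseval [Fintype G] [Fintype (Cfsg.IrrCharacter G)] (K : Subgroup G) (l m : Dual K) :
    Cfsg.classInner (Dl K l) (Dl K m) = ((∑ ψ : Cfsg.IrrCharacter G, ai K l ψ * ai K m ψ : ℤ) : ℂ) := by
  conv_lhs => rw [Cfsg.Agent.Helper6.classFunction_expansion (Dl K l) (Dl_isClassFunction K l)]
  rw [Cfsg.Agent.Helper6.classInner_sum_left]
  push_cast
  apply Finset.sum_congr rfl
  intro ψ _
  rw [Cfsg.Agent.Helper6.classInner_smul_left,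
    Cfsg.Agent.Helper6.classInner_conj_symm (Dl K m) (ψ : G → ℂ), classInner_Dl_eq_ai,
    classInner_Dl_eq_ai, map_intCast]

/-- C6 -/
theorem dg_spec [Finite G] (ψ : Cfsg.IrrCharacter G) : (ψ : G → ℂ) 1 = (dg ψ : ℂ) ∧ 1 ≤ dg ψ := by
  obtain ⟨n, ρ, hirr, hρ⟩ := ψ.2
  haveI := hirr
  haveI : Nontrivial (Fin n → ℂ) := Cfsg.Agent.Helper6.irr_nontrivial ρ
  have h1 : (ψ : G → ℂ) 1 = (n : ℂ) := by
    rw [← hρ, Representation.char_one]
    simp
  have hn : 0 < n := by
    have := Module.finrank_pos (R := ℂ) (M := Fin n → ℂ)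
    simpa using this
  have hdg : dg ψ = (n : ℤ) := by
    rw [dg_def, h1]
    simp
  refine ⟨?_, ?_⟩
  · rw [h1, hdg]
    simp
  · rw [hdg]
    exact_mod_cast hn

/-- C10: a rational character value is an integer -/
theorem irr_rat_int [Finite G] (ψ : Cfsg.IrrCharacter G) (g : G) (q : ℚ)
    (h : (ψ : G → ℂ) g = (q : ℂ)) : ∃ m : ℤ, (ψ : G → ℂ) g = (m : ℂ) := by
  obtain ⟨n, ρ, -, hρ⟩ := ψ.2
  have hint : IsIntegral ℤ ((ψ : G → ℂ) g) := by
    rw [← hρ]
    exact Cfsg.Agent.Helper6.isIntegral_char ρ g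
  rw [h] at hint
  have hq : IsIntegral ℤ q := by
    have h2 : IsIntegral ℤ (algebraMap ℚ ℂ q) := by simpa using hint
    exact (isIntegral_algebraMap_iff (algebraMap ℚ ℂ).injective).mp h2
  obtain ⟨m, hm⟩ := IsIntegrallyClosed.isIntegral_iff.mp hq
  refine ⟨m, ?_⟩
  rw [h, ← hm]
  simp

/-- C11: irreducible characters are class functions -/
theorem irr_isClassFunction (ψ : Cfsg.IrrCharacter G) : Cfsg.IsClassFunction G (ψ : G → ℂ) :=
  Cfsg.Agent.Helper6.IsCharacter.isClassFunction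
    (Cfsg.Agent.Helper6.IsIrrCharacter.isCharacter ψ.2)

end Cfsg.Agent.Helper1.BswCh
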