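import Mathlib
import Cfsg.Agent.Lead.BswDefs
import Cfsg.Agent.Lead.Bsw_A1_12
import Cfsg.Agent.Helper5.Bsw_A21_27

/-!
# S3282 (abstract BSW), pieces A29, A30: `|G| = 2 k n` and `k ∣ n - 1`.
-/

set_option autoImplicit false
namespace Cfsg.Agent.Lead.Bsw
variable {G : Type*} [Group G] [Finite G] {t s : G} {K : Subgroup G}

/-- Orbit-stabiliser for conjugation, `Nat.card` form. -/
theorem h6_card_conj_mul_card_centralizer (g : G) :
    Nat.card {x : G // IsConj g x} * Nat.card (Subgroup.centralizer ({g} : Set G)) =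
      Nat.card G := by
  classical
  have := Fintype.ofFinite G
  have h := MulAction.card_orbit_mul_card_stabilizer_eq_card_group (ConjAct G) g
  rw [← Nat.card_eq_fintype_card, ← Nat.card_eq_fintype_card, ← Nat.card_eq_fintype_card] at h
  rw [Subgroup.nat_card_centralizer_nat_card_stabilizer]
  have h2 : Nat.card (MulAction.orbit (ConjAct G) g) = Nat.card {x : G // IsConj g x} := by
    apply Nat.card_congr
    refine Equiv.subtypeEquivRight ?_
    intro x
    rw [ConjAct.mem_orbit_conjAct]
    exact ⟨fun h => h.symm, fun h => h.symm⟩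
  rw [← h2, h]
  exact Nat.card_congr ConjAct.toConjAct.toEquiv.symm

omit [Finite G] in
theorem h6_orderOf_conj (x v : G) : orderOf (x * v * x⁻¹) = orderOf v := by
  have := (MulAut.conj x).orderOf_eq v
  simpa [MulAut.conj_apply] using this

-- A29
theorem card_G (h : Hyp t K s) : Nat.card G = 2 * Nat.card K * nInv G := by
  have h1 := h6_card_conj_mul_card_centralizer t
  have h2 : Nat.card {x : G // IsConj t x} = nInv G := by
    rw [nInv_def]
    refine Nat.card_congr (Equiv.subtypeEquivRight ?_)
    intro x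
    constructor
    · intro hx
      obtain ⟨c, hc⟩ := isConj_iff.mp hx
      rw [← hc, h6_orderOf_conj, h.ht]
    · intro hx
      exact h.hconj t x h.ht hx
  rw [← h1, h2, card_cent_t h]; ring

/-- the involutions outside `C(t)`. -/
abbrev h6_X (t : G) : Type _ :=
  {v : G // orderOf v = 2 ∧ v ∉ Subgroup.centralizer ({t} : Set G)}

/-- conjugation action of `K` on the involutions outside `C(t)`. -/
@[instance_reducible] noncomputable def h6_act (h : Hyp t K s) : MulAction K (h6_X t) where
  smul x v := ⟨(x : G) * v.1 * (x : G)⁻¹, by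
    refine ⟨by rw [h6_orderOf_conj]; exact v.2.1, fun hmem => v.2.2 ?_⟩
    have hx : (x : G) ∈ Subgroup.centralizer ({t} : Set G) := h.hKH x.2
    have := Subgroup.mul_mem _ (Subgroup.mul_mem _ (Subgroup.inv_mem _ hx) hmem) hx
    have h4 : (x : G)⁻¹ * ((x : G) * v.1 * (x : G)⁻¹) * (x : G) = v.1 := by group
    rwa [h4] at this⟩
  one_smul v := by
    apply Subtype.ext
    show ((1 : K) : G) * v.1 * ((1 : K) : G)⁻¹ = v.1
    simp
  mul_smul x y v := by
    apply Subtype.ext
    show ((x * y : K) : G) * v.1 * ((x * y : K) : G)⁻¹ = (x : G) * ((y : G) * v.1 * (y : G)⁻¹) * (x : G)⁻¹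
    simp only [Subgroup.coe_mul, mul_inv_rev]; group

theorem h6_stab_trivial (h : Hyp t K s) (v : h6_X t) (x : K)
    (hx : (x : G) * v.1 * (x : G)⁻¹ = v.1) : x = 1 := by
  by_contra hne
  have hne' : (x : G) ≠ 1 := fun h1 => hne (Subtype.ext h1)
  have hcomm : (x : G) * v.1 = v.1 * (x : G) := by
    have := congrArg (· * (x : G)) hx
    simpa [mul_assoc] using this
  by_cases hx2 : (x : G) * (x : G) = 1
  · -- x is an involution of K, so x = t
    have ho : orderOf (x : G) = 2 := by
      refine orderOf_eq_prime ?_ hne'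
      rw [pow_two]; exact hx2
    have hxt : (x : G) = t := inv_of_mem_K h x.2 ho
    apply v.2.2
    rw [Subgroup.mem_centralizer_iff]
    intro g hg
    rw [Set.mem_singleton_iff] at hg
    rw [hg]
    have hc2 : t * v.1 = v.1 * t := by
      have := hcomm
      simp only [hxt] at this
      exact this
    exact hc2
  · have hC := cent_of_mem_K h x.2 hx2
    have hv : v.1 ∈ Subgroup.centralizer ({(x : G)} : Set G) := by
      rw [Subgroup.mem_centralizer_iff]
      intro g hg
      rw [Set.mem_singleton_iff] at hg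
      rw [hg]; exact hcomm
    rw [hC] at hv
    exact v.2.2 (h.hKH hv)

theorem h6_card_X_dvd (h : Hyp t K s) : Nat.card K ∣ Nat.card (h6_X t) := by
  classical
  let _ := h6_act h
  have := Fintype.ofFinite G
  have hs : ∀ v : h6_X t, MulAction.stabilizer K v = ⊥ := by
    intro v
    rw [eq_bot_iff]
    intro x hx
    rw [MulAction.mem_stabilizer_iff] at hx
    have hx' : (x : G) * v.1 * (x : G)⁻¹ = v.1 := congrArg Subtype.val hx
    rw [Subgroup.mem_bot]
    exact h6_stab_trivial h v x hx'
  have hcard := MulAction.card_eq_sum_card_group_div_card_stabilizer K (h6_X t)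
  rw [Nat.card_eq_fintype_card, Nat.card_eq_fintype_card, hcard]
  refine Finset.dvd_sum (fun ω _ => ?_)
  have h1 : Fintype.card ↥(MulAction.stabilizer K (Quotient.out ω)) = 1 := by
    rw [← Nat.card_eq_fintype_card, hs]; simp
  rw [h1, Nat.div_one]

-- A30
theorem nInv_mod (h : Hyp t K s) : (Nat.card K : ℤ) ∣ (nInv G : ℤ) - 1 := by
  classical
  have := Fintype.ofFinite G
  have h1 := card_inv_in_cent h h.ht
  obtain ⟨m, hm⟩ := h6_card_X_dvd h
  have hsplit : nInv G =
      Nat.card {u : G // orderOf u = 2 ∧ u ∈ Subgroup.centralizer ({t} : Set G)} +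
        Nat.card (h6_X t) := by
    rw [nInv_def, Nat.card_eq_fintype_card, Nat.card_eq_fintype_card, Nat.card_eq_fintype_card,
      Fintype.card_subtype, Fintype.card_subtype, Fintype.card_subtype]
    rw [← Finset.card_filter_add_card_filter_not
      (s := Finset.univ.filter (fun z : G => orderOf z = 2))
      (fun z : G => z ∈ Subgroup.centralizer ({t} : Set G))]
    simp only [Finset.filter_filter]
  rw [hsplit, h1, hm]
  push_cast
  refine ⟨1 + (m : ℤ), by ring⟩

end Cfsg.Agent.Lead.Bsw
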