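import Mathlib
import Cfsg.Prelude.Def_Characters
import Cfsg.Agent.Helper6.IndFun

/-!
# Induced class functions summed over products of involutions
-/

set_option autoImplicit false
set_option linter.style.haveILetI false

namespace Cfsg.Agent.Helper6

universe u

variable {G : Type u} [Group G]

theorem sum_indFun_involution_products [Fintype G] (H : Subgroup G) (S : Set G)
    (hTI : ∀ g : G, g ∉ H → ∀ s ∈ S, g * s * g⁻¹ ∉ S)
    (hinv : ∀ s ∈ S, s⁻¹ ∈ S) (φ : H → ℂ)
    (hφS : ∀ x : H, (x : G) ∉ S → φ x = 0) (u v : G) (hu : orderOf u = 2)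
    (hv : orderOf v = 2) :
    ∑ᶠ p ∈ {p : G × G | IsConj u p.1 ∧ IsConj v p.2}, Cfsg.indFun H φ (p.1 * p.2) =
      (H.index : ℂ) * ∑ᶠ p ∈ {p : H × H | IsConj u (p.1 : G) ∧ IsConj v (p.2 : G)},
        φ (p.1 * p.2) := by
  classical
  haveI : Fintype H := Fintype.ofFinite H
  set A : Finset (G × G) := Finset.univ.filter (fun p : G × G => IsConj u p.1 ∧ IsConj v p.2)
    with hA
  set B : Finset (H × H) := Finset.univ.filter
    (fun p : H × H => IsConj u (p.1 : G) ∧ IsConj v (p.2 : G)) with hB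
  have hAset : {p : G × G | IsConj u p.1 ∧ IsConj v p.2} = ↑A := by
    ext p; simp [hA]
  have hBset : {p : H × H | IsConj u (p.1 : G) ∧ IsConj v (p.2 : G)} = ↑B := by
    ext p; simp [hB]
  rw [hAset, hBset, finsum_mem_coe_finset, finsum_mem_coe_finset]
  -- reindexing by conjugation
  have hconj : ∀ x : G, ∑ p ∈ A, Cfsg.extendByZero H φ (x⁻¹ * (p.1 * p.2) * x) =
      ∑ p ∈ A, Cfsg.extendByZero H φ (p.1 * p.2) := by
    intro x
    apply Finset.sum_nbij' (fun p => (x⁻¹ * p.1 * x, x⁻¹ * p.2 * x))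
      (fun p => (x * p.1 * x⁻¹, x * p.2 * x⁻¹))
    · intro p hp
      rw [hA, Finset.mem_filter] at hp ⊢
      refine ⟨Finset.mem_univ _, ?_, ?_⟩
      · exact hp.2.1.trans (isConj_iff.mpr ⟨x⁻¹, by simp⟩)
      · exact hp.2.2.trans (isConj_iff.mpr ⟨x⁻¹, by simp⟩)
    · intro p hp
      rw [hA, Finset.mem_filter] at hp ⊢
      refine ⟨Finset.mem_univ _, ?_, ?_⟩
      · exact hp.2.1.trans (isConj_iff.mpr ⟨x, rfl⟩)
      · exact hp.2.2.trans (isConj_iff.mpr ⟨x, rfl⟩)
    · intro p _
      ext <;> simp [mul_assoc]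
    · intro p _
      ext <;> simp [mul_assoc]
    · intro p _
      congr 1
      simp only
      group
  have hLHS : ∑ p ∈ A, Cfsg.indFun H φ (p.1 * p.2) =
      (H.index : ℂ) * ∑ p ∈ A, Cfsg.extendByZero H φ (p.1 * p.2) := by
    simp only [indFun_apply]
    rw [← Finset.mul_sum, Finset.sum_comm]
    simp only [hconj]
    rw [Finset.sum_const, Finset.card_univ, nsmul_eq_mul, ← mul_assoc]
    congr 1
    rw [← Nat.card_eq_fintype_card, ← H.index_mul_card]
    have hH : (Nat.card H : ℂ) ≠ 0 := by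
      have : 0 < Nat.card H := Nat.card_pos
      exact_mod_cast this.ne'
    push_cast
    field_simp
  rw [hLHS]
  congr 1
  -- restrict to pairs in H
  have hsub : ∑ p ∈ A.filter (fun p => p.1 ∈ H ∧ p.2 ∈ H), Cfsg.extendByZero H φ (p.1 * p.2) =
      ∑ p ∈ A, Cfsg.extendByZero H φ (p.1 * p.2) := by
    apply Finset.sum_filter_of_ne
    intro p hp hne
    rw [hA, Finset.mem_filter] at hp
    by_cases hm : p.1 * p.2 ∈ H
    · rw [extendByZero_mem H φ hm] at hne
      have hs : p.1 * p.2 ∈ S := by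
        by_contra hs
        exact hne (hφS ⟨_, hm⟩ hs)
      -- p.1 and p.2 are involutions
      have hinvol : ∀ w a : G, orderOf w = 2 → IsConj w a → a⁻¹ = a := by
        intro w a hw hwa
        have ho : orderOf a = 2 := by
          obtain ⟨c, hc⟩ := isConj_iff.mp hwa
          rw [← hc]
          have : c * w * c⁻¹ = MulAut.conj c w := rfl
          rw [this, MulEquiv.orderOf_eq, hw]
        have hsq : a * a = 1 := by
          rw [← sq, ← ho, pow_orderOf_eq_one]
        exact inv_eq_of_mul_eq_one_left hsq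
      have hi1 := hinvol u p.1 hu hp.2.1
      have hi2 := hinvol v p.2 hv hp.2.2
      have h1 : p.1 ∈ H := by
        by_contra h1
        apply hTI p.1 h1 (p.1 * p.2) hs
        have : p.1 * (p.1 * p.2) * p.1⁻¹ = (p.1 * p.2)⁻¹ := by
          rw [mul_inv_rev, hi1, hi2, ← mul_assoc]
          nth_rewrite 1 [← hi1]
          rw [inv_mul_cancel, one_mul]
        rw [this]
        exact hinv _ hs
      refine ⟨h1, ?_⟩
      have : p.2 = p.1⁻¹ * (p.1 * p.2) := by group
      rw [this]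
      exact H.mul_mem (H.inv_mem h1) hm
    · exact absurd (extendByZero_not_mem H φ hm) hne
  rw [← hsub]
  symm
  apply Finset.sum_bij (fun (q : H × H) _ => ((q.1 : G), (q.2 : G)))
  · intro q hq
    rw [hB, Finset.mem_filter] at hq
    rw [Finset.mem_filter, hA, Finset.mem_filter]
    exact ⟨⟨Finset.mem_univ _, hq.2⟩, q.1.2, q.2.2⟩
  · intro q₁ _ q₂ _ h
    simp only [Prod.mk.injEq] at h
    exact Prod.ext (Subtype.ext h.1) (Subtype.ext h.2)
  · intro p hp
    rw [Finset.mem_filter, hA, Finset.mem_filter] at hp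
    refine ⟨(⟨p.1, hp.2.1⟩, ⟨p.2, hp.2.2⟩), ?_, rfl⟩
    rw [hB, Finset.mem_filter]
    exact ⟨Finset.mem_univ _, hp.1.2⟩
  · intro q _
    have : ((q.1 : G) * (q.2 : G)) = ((q.1 * q.2 : H) : G) := rfl
    rw [this, extendByZero_coe]

end Cfsg.Agent.Helper6
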