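import Mathlib
import Cfsg.Prelude.Def_Characters
import Cfsg.Prelude.Def_Blocks
import Cfsg.Prelude.Def_Local
import Cfsg.Agent.Helper6.KleinFourA
import Cfsg.Agent.Helper6.KleinFourB
import Cfsg.Agent.Helper6.DefectZeroBlock
import Cfsg.Agent.Helper6.PPartBasic
import Cfsg.Agent.Helper6.WeakOrth
import Cfsg.Agent.Helper6.IrrDegree

/-!
# The principal 2-block of a group with Klein four Sylow 2-subgroups and one class of involutions
(S0948)
-/

set_option autoImplicit false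
set_option linter.style.haveILetI false

namespace Cfsg.Agent.Helper6

open Module
open scoped ComplexConjugate

universe u

variable {G : Type u} [Group G] {M : Ideal Cfsg.AlgInt}

/-- the facts on the principal block needed for S0948, in terms of an integer valued function
`v` giving the values at involutions -/
theorem klein_principal_block_core [Finite G] [Fintype (Cfsg.IrrCharacter G)]
    (hM : Cfsg.IsPModular 2 M) (P : Sylow 2 G)
    (hP : IsKleinFour (P : Subgroup G))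
    (hone : ∀ s t : G, orderOf s = 2 → orderOf t = 2 → IsConj s t) :
    ∃ v : Cfsg.IrrCharacter G → ℤ,
      (∀ ζ : Cfsg.IrrCharacter G, ∀ z : G, orderOf z = 2 → (ζ : G → ℂ) z = (v ζ : ℂ)) ∧
      (∀ ζ : Cfsg.IrrCharacter G, (4 : ℤ) ∣ (Cfsg.charDegree (ζ : G → ℂ) : ℤ) - v ζ) ∧
      (∀ ζ ∈ Cfsg.principalBlock M G, v ζ = 1 ∨ v ζ = -1) ∧
      (∑ᶠ ζ ∈ Cfsg.principalBlock M G, (v ζ) ^ 2 = 4) ∧
      (∀ y : G, Odd (orderOf y) →
        ∑ᶠ ζ ∈ Cfsg.principalBlock M G, (ζ : G → ℂ) y * (v ζ : ℂ) = 0) := by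
  classical
  haveI : Fact (Nat.Prime 2) := ⟨Nat.prime_two⟩
  haveI := Fintype.ofFinite G
  have hMm := hM.2.1
  obtain ⟨triv, htriv⟩ : ∃ t : Cfsg.IrrCharacter G, t = ⟨fun _ => 1, isIrrCharacter_one⟩ :=
    ⟨_, rfl⟩
  have htrivf : (triv : G → ℂ) = fun _ => 1 := by rw [htriv]
  have hB : Cfsg.IsPBlock M (Cfsg.principalBlock M G) := ⟨triv, by rw [htrivf]; rfl⟩
  have htrivB : triv ∈ Cfsg.principalBlock M G := by
    have := mem_blockOf_self hMm triv
    rw [htrivf] at this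
    exact this
  obtain ⟨z₀, hz₀P, hz₀⟩ := exists_involution_of_klein _ hP
  have hC := fun z hz => exists_index_pPrimeCore_of_klein P hP z hz
  have hconst : ∀ ζ ∈ Cfsg.principalBlock M G, ∀ z : G, orderOf z = 2 → ∀ y : G, Commute z y →
      ¬ 2 ∣ orderOf y → (ζ : G → ℂ) (z * y) = (ζ : G → ℂ) z := by
    intro ζ hζ z hz y hzy hy
    have hyC : y ∈ Subgroup.centralizer ({z} : Set G) := by
      rw [Subgroup.mem_centralizer_singleton_iff]
      exact hzy.eq.symm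
    exact principal_section_const hM z ⟨1, by rw [hz, pow_one]⟩ (hC z hz).1 ζ hζ ⟨y, hyC⟩
      (by rwa [Subgroup.orderOf_mk])
  have hval : ∀ ζ : Cfsg.IrrCharacter G, ∀ z : G, orderOf z = 2 →
      (ζ : G → ℂ) z = (ζ : G → ℂ) z₀ := fun ζ z hz =>
    IsClassFunction.eq_of_isConj (IsCharacter.isClassFunction (IsIrrCharacter.isCharacter ζ.2))
      (hone z z₀ hz hz₀)
  have hv : ∀ ζ : Cfsg.IrrCharacter G, ∃ v : ℤ, (ζ : G → ℂ) z₀ = (v : ℂ) := fun ζ =>
    char_involution_int (IsIrrCharacter.isCharacter ζ.2) z₀ hz₀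
  choose v hv using hv
  have hvtriv : v triv = 1 := by
    have h := hv triv
    rw [htrivf] at h
    have h' : ((v triv : ℤ) : ℂ) = ((1 : ℤ) : ℂ) := by
      rw [← h]
      simp
    exact_mod_cast h'
  -- the sum of squares
  have h1ord : ¬ 2 ∣ orderOf (1 : Subgroup.centralizer ({z₀} : Set G)) := by
    rw [orderOf_one]
    norm_num
  have hsq := (principal_section_sq hM z₀ ⟨1, by rw [hz₀, pow_one]⟩
    (1 : Subgroup.centralizer ({z₀} : Set G)) h1ord).2 (hC z₀ hz₀).1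
  rw [(hC z₀ hz₀).2] at hsq
  simp only [Subgroup.coe_one, mul_one] at hsq
  have hsqZ : ∑ᶠ ζ ∈ Cfsg.principalBlock M G, (v ζ) ^ 2 = 4 := by
    have h2 : ((∑ᶠ ζ ∈ Cfsg.principalBlock M G, (v ζ) ^ 2 : ℤ) : ℝ) = 4 := by
      have h3 : ∑ᶠ ζ ∈ Cfsg.principalBlock M G, (v ζ) ^ 2 =
          ∑ ζ : Cfsg.IrrCharacter G, if ζ ∈ Cfsg.principalBlock M G then (v ζ) ^ 2 else 0 := by
        rw [finsum_mem_def, finsum_eq_sum_of_fintype]
        apply Finset.sum_congr rfl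
        intro i _
        rw [Set.indicator_apply]
      rw [h3, finsum_mem_eq_sum_ite_real] at *
      rw [Int.cast_sum]
      have h4 : ((2 ^ 2 : ℕ) : ℝ) = 4 := by norm_num
      rw [← h4, ← hsq]
      apply Finset.sum_congr rfl
      intro ζ _
      split_ifs
      · rw [hv ζ, Complex.norm_intCast, sq_abs]
        push_cast
        rfl
      · simp
    exact_mod_cast h2
  -- vanishing
  have hnz : ∀ ζ ∈ Cfsg.principalBlock M G, v ζ ≠ 0 := by
    intro ζ hζ h0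
    have hvan : ∀ g : G, 2 ∣ orderOf g → (ζ : G → ℂ) g = 0 := by
      intro g hg
      obtain ⟨x, y, hxy, hcomm, hxord, hyord⟩ := exists_isPPart 2 g
      have hx1 : x ≠ 1 := by
        rintro rfl
        rw [one_mul] at hxy
        rw [hxy] at hyord
        exact hyord hg
      have hx2 := orderOf_eq_two_of_klein P hP x hxord hx1
      rw [← hxy, hconst ζ hζ x hx2 y hcomm hyord, hval ζ x hx2, hv ζ, h0, Int.cast_zero]
    obtain ⟨d, hdpos, hd⟩ := IsIrrCharacter.apply_one_pos ζ.2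
    have hdvd := pow_factorization_dvd_of_vanish 2 (IsIrrCharacter.isCharacter ζ.2) d hd hvan
    have hdeg : Cfsg.charDegree (ζ : G → ℂ) = d := by
      have := charDegree_cast_of_isCharacter (IsIrrCharacter.isCharacter ζ.2)
      rw [hd] at this
      exact_mod_cast this
    have hdG := charDegree_dvd_card ζ.2
    rw [hdeg] at hdG
    have hnd : ¬ 2 ∣ Nat.card G / Cfsg.charDegree (ζ : G → ℂ) := by
      rw [hdeg]
      intro h2
      have h3 : 2 ^ ((Nat.card G).factorization 2 + 1) ∣ Nat.card G := by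
        have h4 : 2 ^ ((Nat.card G).factorization 2 + 1) ∣ d * (Nat.card G / d) := by
          rw [pow_succ]
          exact Nat.mul_dvd_mul hdvd h2
        rwa [Nat.mul_div_cancel' hdG] at h4
      exact Nat.pow_succ_factorization_not_dvd Nat.card_pos.ne' Nat.prime_two h3
    have hsing := blockOf_eq_singleton_of_not_dvd hMm 2 Nat.prime_two hM.2.2 ζ hnd
    have hblock : Cfsg.blockOf M (ζ : G → ℂ) = Cfsg.principalBlock M G :=
      (blockOf_eq_principalBlock_iff hMm ζ).mpr hζ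
    rw [hblock] at hsing
    rw [hsing, Set.mem_singleton_iff] at htrivB
    rw [← htrivB, hvtriv] at h0
    exact one_ne_zero h0
  refine ⟨v, ?_, ?_, ?_, hsqZ, ?_⟩
  · intro ζ z hz
    rw [hval ζ z hz, hv ζ]
  · intro ζ
    have hc : ∀ x ∈ (P : Subgroup G), x ≠ 1 → (ζ : G → ℂ) x = (ζ : G → ℂ) z₀ := by
      intro x hx hx1
      exact hval ζ x (orderOf_eq_two_of_mem_klein _ hP x hx hx1)
    obtain ⟨n, hn⟩ := char_sum_const_off_one (P : Subgroup G) (IsIrrCharacter.isCharacter ζ.2)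
      _ hc
    rw [hP.card_four, hv ζ, ← charDegree_cast_of_isCharacter (IsIrrCharacter.isCharacter ζ.2)] at hn
    refine ⟨(n : ℤ) - v ζ, ?_⟩
    have h2 : ((Cfsg.charDegree (ζ : G → ℂ) : ℤ) : ℂ) - ((v ζ : ℤ) : ℂ) =
        ((4 * ((n : ℤ) - v ζ) : ℤ) : ℂ) := by
      push_cast at hn ⊢
      linear_combination hn
    exact_mod_cast h2
  · -- the values are signs
    intro ζ hζ
    have h3 : ∑ᶠ ζ ∈ Cfsg.principalBlock M G, (v ζ) ^ 2 =
        ∑ ζ : Cfsg.IrrCharacter G, if ζ ∈ Cfsg.principalBlock M G then (v ζ) ^ 2 else 0 := by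
      rw [finsum_mem_def, finsum_eq_sum_of_fintype]
      apply Finset.sum_congr rfl
      intro i _
      rw [Set.indicator_apply]
    rw [h3, ← Finset.sum_filter] at hsqZ
    by_cases hζt : ζ = triv
    · left
      rw [hζt, hvtriv]
    · have hmem : ζ ∈ (Finset.univ.filter (fun ζ => ζ ∈ Cfsg.principalBlock M G)).erase triv := by
        rw [Finset.mem_erase, Finset.mem_filter]
        exact ⟨hζt, Finset.mem_univ _, hζ⟩
      have htm : triv ∈ Finset.univ.filter (fun ζ => ζ ∈ Cfsg.principalBlock M G) := by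
        rw [Finset.mem_filter]
        exact ⟨Finset.mem_univ _, htrivB⟩
      rw [← Finset.add_sum_erase _ _ htm, hvtriv] at hsqZ
      have hle := Finset.single_le_sum (f := fun ζ => (v ζ) ^ 2)
        (fun i _ => sq_nonneg (v i)) hmem
      have h5 : (v ζ) ^ 2 ≤ 3 := by linarith
      have h6 := hnz ζ hζ
      have h7 : -2 < v ζ ∧ v ζ < 2 := by constructor <;> nlinarith
      omega
  · intro y hy
    have hy2 : ¬ 2 ∣ orderOf y := by
      rw [← even_iff_two_dvd, Nat.not_even_iff_odd]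
      exact hy
    have hz2 : 2 ∣ orderOf z₀ := by rw [hz₀]
    have h := weak_block_orthogonality hMm 2 hM.2.2 (Cfsg.principalBlock M G) hB y z₀ hy2 hz2
    rw [← h]
    apply finsum_mem_congr rfl
    intro ζ _
    rw [hv ζ, map_intCast]

/-- **S0948** -/
theorem klein_principal_block [Finite G] (hM : Cfsg.IsPModular 2 M) (P : Sylow 2 G)
    (hP : IsKleinFour (P : Subgroup G))
    (hone : ∀ s t : G, orderOf s = 2 → orderOf t = 2 → IsConj s t) :
    ∃ ζ₂ ζ₃ ζ₄ : Cfsg.IrrCharacter G, ∃ ε : ℤ, (ε = 1 ∨ ε = -1) ∧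
      (ζ₂ : G → ℂ) ≠ (fun _ => 1) ∧ (ζ₃ : G → ℂ) ≠ (fun _ => 1) ∧ ζ₂ ≠ ζ₃ ∧ ζ₂ ≠ ζ₄ ∧ ζ₃ ≠ ζ₄ ∧
      Cfsg.principalBlock M G = {χ : Cfsg.IrrCharacter G |
        (χ : G → ℂ) = (fun _ => 1) ∨ χ = ζ₂ ∨ χ = ζ₃ ∨ χ = ζ₄} ∧
      (∀ z : G, orderOf z = 2 → (ζ₂ : G → ℂ) z = 1 ∧ (ζ₃ : G → ℂ) z = (ε : ℂ) ∧
        (ζ₄ : G → ℂ) z = -1) ∧
      (4 : ℤ) ∣ (Cfsg.charDegree (ζ₂ : G → ℂ) : ℤ) - 1 ∧
      (4 : ℤ) ∣ (Cfsg.charDegree (ζ₃ : G → ℂ) : ℤ) - ε ∧
      (4 : ℤ) ∣ (Cfsg.charDegree (ζ₄ : G → ℂ) : ℤ) + 1 ∧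
      ∀ y : G, Odd (orderOf y) →
        1 + (ζ₂ : G → ℂ) y + (ε : ℂ) * (ζ₃ : G → ℂ) y - (ζ₄ : G → ℂ) y = 0 := by
  classical
  haveI : Finite (Cfsg.IrrCharacter G) := irr_finite
  haveI : Fintype (Cfsg.IrrCharacter G) := Fintype.ofFinite _
  have hMm := hM.2.1
  obtain ⟨v, hvval, hv4, hvsign, hsq, horth⟩ := klein_principal_block_core hM P hP hone
  obtain ⟨triv, htriv⟩ : ∃ t : Cfsg.IrrCharacter G, t = ⟨fun _ => 1, isIrrCharacter_one⟩ :=
    ⟨_, rfl⟩
  have htrivf : (triv : G → ℂ) = fun _ => 1 := by rw [htriv]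
  have htrivB : triv ∈ Cfsg.principalBlock M G := by
    have := mem_blockOf_self hMm triv
    rw [htrivf] at this
    exact this
  obtain ⟨z₀, hz₀P, hz₀⟩ := exists_involution_of_klein _ hP
  have hvtriv : v triv = 1 := by
    have h := hvval triv z₀ hz₀
    rw [htrivf] at h
    have h' : ((v triv : ℤ) : ℂ) = ((1 : ℤ) : ℂ) := by
      rw [← h]
      simp
    exact_mod_cast h'
  obtain ⟨S, hS⟩ : ∃ S : Finset (Cfsg.IrrCharacter G),
      S = Finset.univ.filter (fun ζ => ζ ∈ Cfsg.principalBlock M G) := ⟨_, rfl⟩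
  have hmemS : ∀ ζ, ζ ∈ S ↔ ζ ∈ Cfsg.principalBlock M G := by
    intro ζ
    rw [hS, Finset.mem_filter]
    exact ⟨fun h => h.2, fun h => ⟨Finset.mem_univ _, h⟩⟩
  have hfinZ : ∀ f : Cfsg.IrrCharacter G → ℤ,
      ∑ᶠ ζ ∈ Cfsg.principalBlock M G, f ζ = ∑ ζ ∈ S, f ζ := by
    intro f
    rw [hS, Finset.sum_filter, finsum_mem_def, finsum_eq_sum_of_fintype]
    apply Finset.sum_congr rfl
    intro i _
    rw [Set.indicator_apply]
  have hfinC : ∀ f : Cfsg.IrrCharacter G → ℂ,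
      ∑ᶠ ζ ∈ Cfsg.principalBlock M G, f ζ = ∑ ζ ∈ S, f ζ := by
    intro f
    rw [hS, Finset.sum_filter, finsum_mem_def, finsum_eq_sum_of_fintype]
    apply Finset.sum_congr rfl
    intro i _
    rw [Set.indicator_apply]
  rw [hfinZ] at hsq
  have hcardS : S.card = 4 := by
    have h1 : ∑ ζ ∈ S, (v ζ) ^ 2 = ∑ ζ ∈ S, (1 : ℤ) := by
      apply Finset.sum_congr rfl
      intro ζ hζ
      rcases hvsign ζ ((hmemS ζ).mp hζ) with h | h <;> rw [h] <;> norm_num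
    rw [h1, Finset.sum_const, nsmul_eq_mul, mul_one] at hsq
    exact_mod_cast hsq
  have htm : triv ∈ S := (hmemS triv).mpr htrivB
  -- degrees
  have hdeg : ∀ ζ : Cfsg.IrrCharacter G, (ζ : G → ℂ) 1 = ((Cfsg.charDegree (ζ : G → ℂ) : ℤ) : ℂ) := by
    intro ζ
    rw [Int.cast_natCast, charDegree_cast_of_isCharacter (IsIrrCharacter.isCharacter ζ.2)]
  have hdpos : ∀ ζ : Cfsg.IrrCharacter G, (1 : ℤ) ≤ (Cfsg.charDegree (ζ : G → ℂ) : ℤ) := by
    intro ζ
    have := charDegree_ne_zero_of_irr ζ.2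
    omega
  have horth1 : ∑ ζ ∈ S, (Cfsg.charDegree (ζ : G → ℂ) : ℤ) * v ζ = 0 := by
    have h := horth 1 (by rw [orderOf_one]; exact odd_one)
    rw [hfinC] at h
    have h2 : ((∑ ζ ∈ S, (Cfsg.charDegree (ζ : G → ℂ) : ℤ) * v ζ : ℤ) : ℂ) = 0 := by
      rw [← h, Int.cast_sum]
      apply Finset.sum_congr rfl
      intro ζ _
      rw [hdeg ζ, Int.cast_mul]
    exact_mod_cast h2
  rw [← Finset.add_sum_erase _ _ htm, hvtriv, htrivf] at horth1
  have hdt : (Cfsg.charDegree (fun _ : G => (1 : ℂ)) : ℤ) = 1 := by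
    rw [charDegree_one_fun]
    rfl
  rw [hdt] at horth1
  have hcardS' : (S.erase triv).card = 3 := by
    rw [Finset.card_erase_of_mem htm, hcardS]
  have hsignS' : ∀ ζ ∈ S.erase triv, v ζ = 1 ∨ v ζ = -1 := fun ζ hζ =>
    hvsign ζ ((hmemS ζ).mp (Finset.mem_of_mem_erase hζ))
  -- a character with value `1`
  have hex2 : ∃ ζ₂ ∈ S.erase triv, v ζ₂ = 1 := by
    by_contra hcon
    have hall : ∀ ζ ∈ S.erase triv, v ζ = -1 := fun ζ hζ =>
      (hsignS' ζ hζ).resolve_left (fun h => hcon ⟨ζ, hζ, h⟩)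
    have h1 : ∑ ζ ∈ S.erase triv, (Cfsg.charDegree (ζ : G → ℂ) : ℤ) * v ζ =
        - ∑ ζ ∈ S.erase triv, (Cfsg.charDegree (ζ : G → ℂ) : ℤ) := by
      rw [← Finset.sum_neg_distrib]
      apply Finset.sum_congr rfl
      intro ζ hζ
      rw [hall ζ hζ]
      ring
    have h2 : (3 : ℤ) ≤ ∑ ζ ∈ S.erase triv, (Cfsg.charDegree (ζ : G → ℂ) : ℤ) := by
      have := Finset.card_nsmul_le_sum (S.erase triv)
        (fun ζ => (Cfsg.charDegree (ζ : G → ℂ) : ℤ)) 1 (fun ζ _ => hdpos ζ)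
      rw [hcardS'] at this
      simpa using this
    rw [h1] at horth1
    linarith
  have hex4 : ∃ ζ₄ ∈ S.erase triv, v ζ₄ = -1 := by
    by_contra hcon
    have hall : ∀ ζ ∈ S.erase triv, v ζ = 1 := fun ζ hζ =>
      (hsignS' ζ hζ).resolve_right (fun h => hcon ⟨ζ, hζ, h⟩)
    have h1 : ∑ ζ ∈ S.erase triv, (Cfsg.charDegree (ζ : G → ℂ) : ℤ) * v ζ =
        ∑ ζ ∈ S.erase triv, (Cfsg.charDegree (ζ : G → ℂ) : ℤ) := by
      apply Finset.sum_congr rfl
      intro ζ hζ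
      rw [hall ζ hζ, mul_one]
    have h2 : (0 : ℤ) ≤ ∑ ζ ∈ S.erase triv, (Cfsg.charDegree (ζ : G → ℂ) : ℤ) :=
      Finset.sum_nonneg (fun ζ _ => by have := hdpos ζ; linarith)
    rw [h1] at horth1
    linarith
  obtain ⟨ζ₂, hζ₂, hv2⟩ := hex2
  obtain ⟨ζ₄, hζ₄, hv4'⟩ := hex4
  have h24 : ζ₂ ≠ ζ₄ := by
    rintro rfl
    rw [hv2] at hv4'
    norm_num at hv4'
  have hζ₄' : ζ₄ ∈ (S.erase triv).erase ζ₂ := Finset.mem_erase.mpr ⟨h24.symm, hζ₄⟩
  have hcard1 : (((S.erase triv).erase ζ₂).erase ζ₄).card = 1 := by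
    rw [Finset.card_erase_of_mem hζ₄', Finset.card_erase_of_mem hζ₂, hcardS']
  obtain ⟨ζ₃, hζ₃⟩ := Finset.card_eq_one.mp hcard1
  have hζ₃mem : ζ₃ ∈ ((S.erase triv).erase ζ₂).erase ζ₄ := by
    rw [hζ₃]
    exact Finset.mem_singleton_self _
  have h34 : ζ₃ ≠ ζ₄ := (Finset.mem_erase.mp hζ₃mem).1
  have hζ₃' := (Finset.mem_erase.mp hζ₃mem).2
  have h32 : ζ₃ ≠ ζ₂ := (Finset.mem_erase.mp hζ₃').1
  have hζ₃'' := (Finset.mem_erase.mp hζ₃').2
  have h3t : ζ₃ ≠ triv := (Finset.mem_erase.mp hζ₃'').1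
  have h2t : ζ₂ ≠ triv := (Finset.mem_erase.mp hζ₂).1
  have h4t : ζ₄ ≠ triv := (Finset.mem_erase.mp hζ₄).1
  have hζ₃S : ζ₃ ∈ S := (Finset.mem_erase.mp hζ₃'').2
  have hζ₂S : ζ₂ ∈ S := (Finset.mem_erase.mp hζ₂).2
  have hζ₄S : ζ₄ ∈ S := (Finset.mem_erase.mp hζ₄).2
  -- expanding sums over `S`
  have hexpand : ∀ f : Cfsg.IrrCharacter G → ℂ,
      ∑ ζ ∈ S, f ζ = f triv + (f ζ₂ + (f ζ₄ + f ζ₃)) := by
    intro f
    rw [← Finset.add_sum_erase _ _ htm, ← Finset.add_sum_erase _ _ hζ₂,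
      ← Finset.add_sum_erase _ _ hζ₄', hζ₃, Finset.sum_singleton]
  have hne_fun : ∀ ζ : Cfsg.IrrCharacter G, ζ ≠ triv → (ζ : G → ℂ) ≠ (fun _ => 1) := by
    intro ζ hζ h
    apply hζ
    apply Subtype.ext
    rw [h, htrivf]
  refine ⟨ζ₂, ζ₃, ζ₄, v ζ₃, hvsign ζ₃ ((hmemS ζ₃).mp hζ₃S), hne_fun ζ₂ h2t, hne_fun ζ₃ h3t,
    h32.symm, h24, h34, ?_, ?_, ?_, ?_, ?_, ?_⟩
  · ext χ
    change χ ∈ Cfsg.principalBlock M G ↔
      ((χ : G → ℂ) = (fun _ => 1) ∨ χ = ζ₂ ∨ χ = ζ₃ ∨ χ = ζ₄)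
    constructor
    · intro hχ
      by_cases h1 : χ = triv
      · left
        rw [h1, htrivf]
      by_cases h2 : χ = ζ₂
      · right; left; exact h2
      by_cases h4 : χ = ζ₄
      · right; right; right; exact h4
      right; right; left
      have : χ ∈ ((S.erase triv).erase ζ₂).erase ζ₄ := by
        rw [Finset.mem_erase, Finset.mem_erase, Finset.mem_erase]
        exact ⟨h4, h2, h1, (hmemS χ).mpr hχ⟩
      rw [hζ₃, Finset.mem_singleton] at this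
      exact this
    · rintro (h | h | h | h)
      · have : χ = triv := by
          apply Subtype.ext
          rw [h, htrivf]
        rw [this]
        exact htrivB
      · rw [h]; exact (hmemS _).mp hζ₂S
      · rw [h]; exact (hmemS _).mp hζ₃S
      · rw [h]; exact (hmemS _).mp hζ₄S
  · intro z hz
    refine ⟨?_, hvval ζ₃ z hz, ?_⟩
    · rw [hvval ζ₂ z hz, hv2, Int.cast_one]
    · rw [hvval ζ₄ z hz, hv4', Int.cast_neg, Int.cast_one]
  · have := hv4 ζ₂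
    rwa [hv2] at this
  · exact hv4 ζ₃
  · have := hv4 ζ₄
    rwa [hv4', sub_neg_eq_add] at this
  · intro y hy
    have h := horth y hy
    rw [hfinC, hexpand, htrivf, hvtriv, hv2, hv4'] at h
    push_cast at h
    linear_combination h

end Cfsg.Agent.Helper6
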