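import Mathlib

/-!
# Integrality condition for triangle-free strongly regular graphs

For a strongly regular graph with parameters `(n, k, 0, μ)`, `k > 0`, either `k + μ = 3`
or `μ ^ 2 + 4 * k - 4 * μ` is a perfect square.
-/

set_option autoImplicit false
set_option linter.unusedSectionVars false

namespace Cfsg.Agent.Helper6.SrgSpec

open Matrix SimpleGraph Finset

variable {V : Type*} [Fintype V] [DecidableEq V] (Γ : SimpleGraph V) [DecidableRel Γ.Adj]

/-- the adjacency matrix over `ℝ` is Hermitian -/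
theorem h6_isHermitian_adj : (Γ.adjMatrix ℝ).IsHermitian := by
  rw [Matrix.IsHermitian, Matrix.conjTranspose_eq_transpose_of_trivial]
  exact Γ.transpose_adjMatrix

/-- `tr (A ^ j) = Σ λ_i ^ j` for a Hermitian real matrix -/
theorem h6_trace_pow {A : Matrix V V ℝ} (hA : A.IsHermitian) (j : ℕ) :
    (A ^ j).trace = ∑ i, hA.eigenvalues i ^ j := by
  conv_lhs => rw [hA.spectral_theorem]
  rw [← map_pow, Unitary.conjStarAlgAut_apply, Matrix.trace_mul_cycle, Unitary.coe_star_mul_self,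
    one_mul, Matrix.diagonal_pow, Matrix.trace_diagonal]
  simp

variable {Γ}

/-- every eigenvalue of a triangle-free SRG is `k` or a root of `x² + μ x - (k - μ)` -/
theorem h6_eigenvalue_cases {n k μ : ℕ} (h : Γ.IsSRGWith n k 0 μ) (i : V) :
    (h6_isHermitian_adj Γ).eigenvalues i = k ∨
      (h6_isHermitian_adj Γ).eigenvalues i ^ 2 + μ * (h6_isHermitian_adj Γ).eigenvalues i
        - ((k : ℝ) - μ) = 0 := by
  obtain ⟨hA, hAdef⟩ : ∃ hA : (Γ.adjMatrix ℝ).IsHermitian, hA = h6_isHermitian_adj Γ := ⟨_, rfl⟩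
  rw [← hAdef]
  obtain ⟨b, hbdef⟩ : ∃ b : V → ℝ, b = ⇑(hA.eigenvectorBasis i) := ⟨_, rfl⟩
  obtain ⟨l, hldef⟩ : ∃ l : ℝ, l = hA.eigenvalues i := ⟨_, rfl⟩
  rw [← hldef]
  have hb0 : b ≠ 0 := by
    rw [hbdef]
    exact (WithLp.ofLp_eq_zero 2).ne.2 (hA.eigenvectorBasis.orthonormal.ne_zero i)
  have hev : Γ.adjMatrix ℝ *ᵥ b = l • b := by
    rw [hbdef, hldef]; exact hA.mulVec_eigenvectorBasis i
  -- the key identity
  have hsq : ∀ v : V, (l ^ 2 + μ * l - ((k : ℝ) - μ)) * b v = μ * ∑ w, b w := by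
    intro v
    have h2 : (Γ.adjMatrix ℝ ^ 2) *ᵥ b = (l ^ 2) • b := by
      rw [pow_two, ← Matrix.mulVec_mulVec, hev, Matrix.mulVec_smul, hev, smul_smul, pow_two]
    have h3 := congrFun h2 v
    rw [h.matrix_eq (α := ℝ)] at h3
    simp only [zero_smul, add_zero, Matrix.add_mulVec, Pi.add_apply, Pi.smul_apply, smul_eq_mul]
      at h3
    have h4 : ((k • (1 : Matrix V V ℝ)) *ᵥ b) v = k * b v := by
      rw [Matrix.smul_mulVec, Matrix.one_mulVec]
      simp
    have h5 : ((μ • Γᶜ.adjMatrix ℝ) *ᵥ b) v = μ * (∑ w, b w - b v - l * b v) := by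
      rw [Matrix.smul_mulVec]
      simp only [Pi.smul_apply, nsmul_eq_mul]
      congr 1
      have h6 := congrFun hev v
      rw [adjMatrix_mulVec_apply] at h6
      simp only [Pi.smul_apply, smul_eq_mul] at h6
      rw [adjMatrix_mulVec_apply, ← h6]
      rw [neighborFinset_compl]
      have hv : v ∈ (Γ.neighborFinset v)ᶜ := by
        rw [Finset.mem_compl]; exact Γ.notMem_neighborFinset_self v
      have h7 := Finset.sum_add_sum_compl (Γ.neighborFinset v) b
      have h8 := Finset.sum_sdiff (f := b) (Finset.singleton_subset_iff.mpr hv)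
      rw [Finset.sum_singleton] at h8
      linarith
    rw [h4, h5] at h3
    linarith
  by_cases hc : l ^ 2 + μ * l - ((k : ℝ) - μ) = 0
  · exact Or.inr hc
  · left
    -- `b` is constant
    have hconst : ∀ v : V, b v = μ * (∑ w, b w) / (l ^ 2 + μ * l - ((k : ℝ) - μ)) := by
      intro v
      rw [eq_div_iff hc, mul_comm]
      exact hsq v
    obtain ⟨β, hβ⟩ : ∃ β : ℝ, ∀ v, b v = β := ⟨_, hconst⟩
    have hβ0 : β ≠ 0 := by
      intro h0
      apply hb0
      funext v
      rw [hβ v, h0]; rfl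
    obtain ⟨v⟩ : Nonempty V := ⟨i⟩
    have h6 := congrFun hev v
    rw [adjMatrix_mulVec_apply] at h6
    simp only [Pi.smul_apply, smul_eq_mul] at h6
    simp_rw [hβ] at h6
    rw [Finset.sum_const, Γ.card_neighborFinset_eq_degree v, h.regular v, nsmul_eq_mul] at h6
    have := mul_right_cancel₀ hβ0 h6
    exact this.symm

end Cfsg.Agent.Helper6.SrgSpec
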