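import Mathlib
import Cfsg.Agent.Helper6.SrgSpec
import Cfsg.Agent.Helper7.Fo3_F9b

/-!
# S1615, label F9: eigenvalue integrality for triangle-free strongly regular graphs
-/

set_option autoImplicit false

namespace Cfsg.Agent.Helper1.Fo3

open Matrix SimpleGraph Finset Cfsg.Agent.Helper6.SrgSpec

/-- a sum over a function taking three pairwise distinct values -/
theorem h6_sum_three {ι : Type*} [Fintype ι] (l : ι → ℝ) (x0 x1 x2 : ℝ) (h01 : x0 ≠ x1)
    (h02 : x0 ≠ x2) (h12 : x1 ≠ x2) (hl : ∀ i, l i = x0 ∨ l i = x1 ∨ l i = x2) (φ : ℝ → ℝ) :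
    ∑ i, φ (l i) = ((univ.filter fun i => l i = x0).card : ℝ) * φ x0 +
      ((univ.filter fun i => l i = x1).card : ℝ) * φ x1 +
      ((univ.filter fun i => l i = x2).card : ℝ) * φ x2 := by
  classical
  have hpt : ∀ i, φ (l i) = (if l i = x0 then φ x0 else 0) + (if l i = x1 then φ x1 else 0) +
      (if l i = x2 then φ x2 else 0) := by
    intro i
    rcases hl i with h | h | h
    · rw [h, if_pos rfl, if_neg h01, if_neg h02]; ring
    · rw [h, if_neg h01.symm, if_pos rfl, if_neg h12]; ring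
    · rw [h, if_neg h02.symm, if_neg h12.symm, if_pos rfl]; ring
  simp_rw [hpt]
  rw [Finset.sum_add_distrib, Finset.sum_add_distrib, ← Finset.sum_filter, ← Finset.sum_filter,
    ← Finset.sum_filter, Finset.sum_const, Finset.sum_const, Finset.sum_const]
  simp only [nsmul_eq_mul]

/-- F9: eigenvalue integrality for triangle-free strongly regular graphs -/
theorem srg_integrality {V : Type*} [Fintype V] [DecidableEq V] [Nonempty V] (Γ : SimpleGraph V)
    [DecidableRel Γ.Adj] {n k μ : ℕ} (h : Γ.IsSRGWith n k 0 μ) (hμ : 0 < μ) (hμk : μ ≤ k) :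
    k + μ = 3 ∨ ∃ s : ℕ, s ^ 2 = μ ^ 2 + 4 * (k - μ) := by
  classical
  obtain ⟨hA, hAdef⟩ : ∃ hA : (Γ.adjMatrix ℝ).IsHermitian, hA = h6_isHermitian_adj Γ := ⟨_, rfl⟩
  have hcases : ∀ i, hA.eigenvalues i = k ∨
      hA.eigenvalues i ^ 2 + μ * hA.eigenvalues i - ((k : ℝ) - μ) = 0 := by
    intro i
    rw [hAdef]
    exact h6_eigenvalue_cases h i
  have hkμ : (μ : ℝ) ≤ k := by exact_mod_cast hμk
  have hμ0 : (0 : ℝ) < μ := by exact_mod_cast hμ
  -- the two roots
  obtain ⟨Δ, hΔ⟩ : ∃ Δ : ℝ, Δ = (μ : ℝ) ^ 2 + 4 * ((k : ℝ) - μ) := ⟨_, rfl⟩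
  have hΔpos : 0 < Δ := by rw [hΔ]; nlinarith
  obtain ⟨r, hr⟩ : ∃ r : ℝ, r = Real.sqrt Δ := ⟨_, rfl⟩
  have hrpos : 0 < r := by rw [hr]; exact Real.sqrt_pos.mpr hΔpos
  have hr2 : r ^ 2 = Δ := by rw [hr]; exact Real.sq_sqrt hΔpos.le
  obtain ⟨θ, hθdef⟩ : ∃ θ : ℝ, θ = (-(μ : ℝ) + r) / 2 := ⟨_, rfl⟩
  obtain ⟨τ, hτdef⟩ : ∃ τ : ℝ, τ = (-(μ : ℝ) - r) / 2 := ⟨_, rfl⟩
  have hθ : θ ^ 2 + (μ : ℝ) * θ - ((k : ℝ) - (μ : ℝ)) = 0 := by
    rw [hθdef]; nlinarith
  have hτ : τ ^ 2 + (μ : ℝ) * τ - ((k : ℝ) - (μ : ℝ)) = 0 := by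
    rw [hτdef]; nlinarith
  have hθτ : θ ≠ τ := by
    rw [hθdef, hτdef]; intro heq; linarith
  have hkpos : (1 : ℝ) ≤ k := by
    have : 1 ≤ k := le_trans hμ hμk
    exact_mod_cast this
  have hkθ : (k : ℝ) ≠ θ := by
    intro heq
    rw [← heq] at hθ
    nlinarith
  have hkτ : (k : ℝ) ≠ τ := by
    intro heq
    rw [← heq] at hτ
    nlinarith
  have hl : ∀ i, hA.eigenvalues i = k ∨ hA.eigenvalues i = θ ∨ hA.eigenvalues i = τ := by
    intro i
    rcases hcases i with h1 | h1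
    · exact Or.inl h1
    · right
      have h2 : (hA.eigenvalues i - θ) * (hA.eigenvalues i - τ) = 0 := by
        rw [hθdef, hτdef]; nlinarith
      rcases mul_eq_zero.mp h2 with h3 | h3
      · exact Or.inl (sub_eq_zero.mp h3)
      · exact Or.inr (sub_eq_zero.mp h3)
  -- traces
  have htrA : ∑ i, hA.eigenvalues i = 0 := by
    have := h6_trace_pow hA 1
    simp only [pow_one] at this
    rw [← this, trace_adjMatrix]
  have htrA2 : ∑ i, hA.eigenvalues i ^ 2 = (n : ℝ) * k := by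
    rw [← h6_trace_pow hA 2, pow_two, Matrix.trace]
    simp only [Matrix.diag_apply, adjMatrix_mul_self_apply_self, h.regular.degree_eq]
    rw [Finset.sum_const, Finset.card_univ, h.card, nsmul_eq_mul]
  have hcount := h6_sum_three hA.eigenvalues (k : ℝ) θ τ hkθ hkτ hθτ hl
  have h0 := hcount (fun _ => 1)
  have h1 := hcount (fun x => x)
  have h2 := hcount (fun x => x ^ 2)
  simp only [mul_one, Finset.sum_const, Finset.card_univ, nsmul_eq_mul] at h0
  rw [htrA] at h1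
  rw [htrA2] at h2
  have hn : 0 < n := by rw [← h.card]; exact Fintype.card_pos
  have hsum : (univ.filter fun i => hA.eigenvalues i = (k : ℝ)).card +
      (univ.filter fun i => hA.eigenvalues i = θ).card +
      (univ.filter fun i => hA.eigenvalues i = τ).card = n := by
    rw [h.card] at h0
    exact_mod_cast h0.symm
  exact srg_arith_core hμ hμk hn hsum θ τ hθ hτ hθτ h1.symm h2.symm

end Cfsg.Agent.Helper1.Fo3
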