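import Mathlib
import Cfsg.Agent.Helper2.PComp2

/-!
# Helper lemmas for piece G-two of Theorem G (helper6)

* `pElt_eq_one_of_perfect_of_central`: in a finite perfect group whose `p`-elements are all central,
  every `p`-element is trivial (transfer into the centre).
* `le_of_central_pgroup_of_pow_mem`: a subgroup `D` with a central `p`-subgroup `A` such that
  `d ^ m ∈ A` (`m` prime to `p`) and with no nontrivial `N(D)`-invariant `p'`-subgroup equals `A`.
* `exists_coboundary`: a `1`-cocycle constant on the cosets of a subgroup of index prime to the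
  exponent of the (abelian) module is a coboundary.
-/

set_option autoImplicit false

namespace Cfsg.Agent.Helper6.Glaub

open Cfsg.Agent.Helper2

theorem card_coprime_of_forall_pow_eq_one' {X : Type*} [Group X] [Finite X] {p : ℕ}
    [hp : Fact p.Prime] (m : ℕ) (hm : m.Coprime p) (h : ∀ x : X, x ^ m = 1) :
    (Nat.card X).Coprime p := by
  rw [Nat.coprime_comm, Nat.Prime.coprime_iff_not_dvd hp.out]
  intro hdvd
  obtain ⟨x, hx⟩ := exists_prime_orderOf_dvd_card' p hdvd
  have h2 : p ∣ m := hx ▸ orderOf_dvd_of_pow_eq_one (h x)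
  exact (Nat.Prime.coprime_iff_not_dvd hp.out).1 hm.symm h2

theorem card_coprime_of_forall_pow_eq_one {G : Type*} [Group G] [Finite G] {p : ℕ}
    [hp : Fact p.Prime] (V : Subgroup G) (m : ℕ) (hm : m.Coprime p) (h : ∀ x ∈ V, x ^ m = 1) :
    (Nat.card V).Coprime p :=
  card_coprime_of_forall_pow_eq_one' m hm (fun x => Subtype.ext (by simpa using h x x.2))

/-- In a finite perfect group whose `p`-elements are central, all `p`-elements are trivial. -/
theorem pElt_eq_one_of_perfect_of_central {X : Type*} [Group X] [Finite X] {p : ℕ}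
    [hp : Fact p.Prime] (hperf : commutator X = ⊤)
    (hc : ∀ x : X, IsPElt p x → x ∈ Subgroup.center X) :
    ∀ x : X, IsPElt p x → x = 1 := by
  intro x hx
  have h1 : ∀ y : X, y ^ (Subgroup.center X).index = 1 := by
    intro y
    have hle : commutator X ≤ (MonoidHom.transferCenterPow X).ker := by
      rw [commutator_def, Subgroup.commutator_le]
      intro a _ b _
      rw [MonoidHom.mem_ker, commutatorElement_def, map_mul, map_mul, map_mul, map_inv, map_inv]
      have hcomm : MonoidHom.transferCenterPow X a * MonoidHom.transferCenterPow X b =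
          MonoidHom.transferCenterPow X b * MonoidHom.transferCenterPow X a :=
        Subtype.ext ((MonoidHom.transferCenterPow X b).2.comm _).symm
      rw [hcomm, mul_inv_cancel_right, mul_inv_cancel]
    have hy : y ∈ (MonoidHom.transferCenterPow X).ker := hle (by rw [hperf]; trivial)
    have h2 : ((MonoidHom.transferCenterPow X y : Subgroup.center X) : X) = 1 := by
      rw [MonoidHom.mem_ker.mp hy]; rfl
    rwa [MonoidHom.transferCenterPow_apply] at h2
  obtain ⟨P⟩ : Nonempty (Sylow p X) := inferInstance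
  have hP : (P : Subgroup X) ≤ Subgroup.center X := fun y hy => hc y (by
    obtain ⟨k, hk⟩ := P.2 ⟨y, hy⟩
    exact ⟨k, by simpa using congrArg Subtype.val hk⟩)
  have hidx : (Subgroup.center X).index ∣ (P : Subgroup X).index := Subgroup.index_dvd_of_le hP
  have hcop : ((Subgroup.center X).index).Coprime p :=
    Nat.Coprime.coprime_dvd_left hidx
      ((Nat.Prime.coprime_iff_not_dvd hp.out).2 P.not_dvd_index).symm
  exact hx.eq_one_of_coprime (h1 x) hcop


/-- A subgroup `D` with a central `p`-subgroup `A` such that `d ^ m ∈ A` for all `d ∈ D` (`m` prime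
to `p`) and without nontrivial `N(D)`-invariant `p'`-subgroups is contained in `A`. -/
theorem le_of_central_pgroup_of_pow_mem {G : Type*} [Group G] [Finite G] {p : ℕ}
    [hp : Fact p.Prime] (D A : Subgroup G)
    (hcen : ∀ a ∈ A, ∀ d ∈ D, a * d = d * a) (hA : IsPGroup p A)
    (m : ℕ) (hm : m.Coprime p) (hpow : ∀ d ∈ D, d ^ m ∈ A)
    (hodd : ∀ V : Subgroup G, V ≤ D →
      Subgroup.normalizer (D : Set G) ≤ Subgroup.normalizer (V : Set G) →
      (Nat.card V).Coprime p → V = ⊥) : D ≤ A := by
  classical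
  -- conjugation by an element of `N(D)` preserves `D`
  have hconj : ∀ g ∈ Subgroup.normalizer (D : Set G), ∀ x, x ∈ D ↔ g * x * g⁻¹ ∈ D :=
    fun g hg x => Subgroup.mem_normalizer_iff.mp hg x
  -- Step (a): the index of the centre of `D` is prime to `p`
  set r := (Subgroup.center ↥D).index with hr
  have hrcop : r.Coprime p := by
    rw [hr, Subgroup.index_eq_card]
    refine card_coprime_of_forall_pow_eq_one' m hm ?_
    intro q
    obtain ⟨d, rfl⟩ := QuotientGroup.mk_surjective q
    rw [← QuotientGroup.mk_pow, QuotientGroup.eq_one_iff, Subgroup.mem_center_iff]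
    intro g
    apply Subtype.ext
    have := hcen _ (hpow d d.2) g g.2
    simpa using this.symm
  -- the kernel of the transfer into the centre
  set f := MonoidHom.transferCenterPow ↥D with hf
  have hfapp : ∀ y : ↥D, ((f y : Subgroup.center ↥D) : ↥D) = y ^ r := fun y => rfl
  have hV1mem : ∀ x : G, x ∈ f.ker.map D.subtype ↔ x ∈ D ∧ x ^ r = 1 := by
    intro x
    constructor
    · rintro ⟨y, hy, rfl⟩
      refine ⟨y.2, ?_⟩
      have h1 : ((f y : Subgroup.center ↥D) : ↥D) = 1 := by
        rw [MonoidHom.mem_ker.mp hy]; rfl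
      rw [hfapp] at h1
      simpa using congrArg Subtype.val h1
    · rintro ⟨hxD, hx⟩
      refine ⟨⟨x, hxD⟩, ?_, rfl⟩
      show (⟨x, hxD⟩ : ↥D) ∈ f.ker
      rw [MonoidHom.mem_ker]
      apply Subtype.ext
      rw [hfapp]
      apply Subtype.ext
      simpa using hx
  have hV1 : f.ker.map D.subtype = ⊥ := by
    apply hodd
    · rintro x hx
      exact ((hV1mem x).mp hx).1
    · intro g hg
      rw [Subgroup.mem_normalizer_iff]
      intro x
      rw [hV1mem, hV1mem, ← hconj g hg x, conj_pow]
      constructor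
      · rintro ⟨h1, h2⟩
        exact ⟨h1, by rw [h2, mul_one, mul_inv_cancel]⟩
      · rintro ⟨h1, h2⟩
        refine ⟨h1, ?_⟩
        have := congrArg (fun y => g⁻¹ * y * g) h2
        simpa [mul_assoc] using this
    · exact card_coprime_of_forall_pow_eq_one _ r hrcop (fun x hx => ((hV1mem x).mp hx).2)
  have hfinj : Function.Injective f := by
    rw [← MonoidHom.ker_eq_bot_iff]
    have := hV1
    rwa [Subgroup.map_eq_bot_iff_of_injective _ D.subtype_injective] at this
  have hDcomm : ∀ a ∈ D, ∀ b ∈ D, a * b = b * a := by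
    intro a ha b hb
    have h1 : f (⟨a, ha⟩ * ⟨b, hb⟩) = f (⟨b, hb⟩ * ⟨a, ha⟩) := by
      rw [map_mul, map_mul]
      exact Subtype.ext ((f ⟨b, hb⟩).2.comm _).symm
    exact congrArg Subtype.val (hfinj h1)
  -- Step (b): the elements of `D` killed by `m`
  let V2 : Subgroup G :=
    { carrier := {x | x ∈ D ∧ x ^ m = 1}
      mul_mem' := by
        rintro a b ⟨ha, ha'⟩ ⟨hb, hb'⟩
        refine ⟨D.mul_mem ha hb, ?_⟩
        have hc : Commute a b := hDcomm a ha b hb
        rw [hc.mul_pow, ha', hb', one_mul]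
      one_mem' := ⟨D.one_mem, one_pow _⟩
      inv_mem' := by
        rintro a ⟨ha, ha'⟩
        exact ⟨D.inv_mem ha, by rw [inv_pow, ha', inv_one]⟩ }
  have hV2mem : ∀ x : G, x ∈ V2 ↔ x ∈ D ∧ x ^ m = 1 := fun x => Iff.rfl
  have hV2 : V2 = ⊥ := by
    apply hodd
    · intro x hx
      exact hx.1
    · intro g hg
      rw [Subgroup.mem_normalizer_iff]
      intro x
      rw [hV2mem, hV2mem, ← hconj g hg x, conj_pow]
      constructor
      · rintro ⟨h1, h2⟩
        exact ⟨h1, by rw [h2, mul_one, mul_inv_cancel]⟩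
      · rintro ⟨h1, h2⟩
        refine ⟨h1, ?_⟩
        have := congrArg (fun y => g⁻¹ * y * g) h2
        simpa [mul_assoc] using this
    · exact card_coprime_of_forall_pow_eq_one _ m hm (fun x hx => hx.2)
  -- Step (c)
  intro d hd
  obtain ⟨e, he⟩ := hA.exists_card_eq
  have h1 : (d ^ m) ^ (p ^ e) = 1 := by
    have := pow_card_eq_one' (G := ↥A) (x := ⟨d ^ m, hpow d hd⟩)
    rw [he] at this
    simpa using congrArg Subtype.val this
  have h2 : d ^ (p ^ e) = 1 := by
    have h3 : d ^ (p ^ e) ∈ V2 := by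
      refine ⟨D.pow_mem hd _, ?_⟩
      rw [← pow_mul, mul_comm, pow_mul, h1]
    rw [hV2] at h3
    exact Subgroup.mem_bot.mp h3
  by_cases hpe : p ^ e = 1
  · rw [hpe, pow_one] at h2
    rw [h2]; exact A.one_mem
  · have hpe1 : 1 < p ^ e := by
      have : 0 < p ^ e := pow_pos hp.out.pos e
      omega
    obtain ⟨c, -, hc⟩ := Nat.exists_mul_mod_eq_one_of_coprime (hm.pow_right e) hpe1
    have h4 : d = (d ^ m) ^ c := by
      rw [← pow_mul]
      conv_lhs => rw [← pow_one d, ← hc]
      exact (pow_eq_pow_mod (m * c) h2).symm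
    rw [h4]
    exact A.pow_mem (hpow d hd) c

/-- A `1`-cocycle `z : K → A` (`A` abelian, `z (g h) = g • z h * z g`) which is constant on the left
cosets of a subgroup `C` whose index is prime to an exponent `e` of `A` is a coboundary. -/
theorem exists_coboundary {K A : Type*} [Group K] [CommGroup A] [MulDistribMulAction K A]
    (C : Subgroup K) [C.FiniteIndex] (z : K → A)
    (hz : ∀ g h, z (g * h) = g • z h * z g)
    (hC : ∀ g, ∀ c ∈ C, z (g * c) = z g)
    (e : ℕ) (hA : ∀ a : A, a ^ e = 1) (hcop : Nat.Coprime C.index e) :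
    ∃ w : A, ∀ h, z h = w * (h • w)⁻¹ := by
  classical
  haveI : Fintype (K ⧸ C) := Subgroup.fintypeQuotientOfFiniteIndex
  let zt : K ⧸ C → A := fun q => Quotient.liftOn' q z (by
    intro a b hab
    rw [QuotientGroup.leftRel_apply] at hab
    have := hC a _ hab
    rw [mul_inv_cancel_left] at this
    exact this.symm)
  have hzt : ∀ g : K, zt (QuotientGroup.mk g) = z g := fun g => rfl
  set u : A := ∏ q : K ⧸ C, zt q with hu
  set m := C.index with hm
  have hcard : Fintype.card (K ⧸ C) = m := by
    rw [hm, Subgroup.index_eq_card, Nat.card_eq_fintype_card]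
  have key : ∀ h : K, (z h) ^ m = u * (h • u)⁻¹ := by
    intro h
    have h1 : h • u = ∏ q : K ⧸ C, h • zt q := by
      rw [hu]
      exact map_prod (MulDistribMulAction.toMonoidHom A h) _ _
    have h2 : ∀ q : K ⧸ C, h • zt q = zt (h • q) * (z h)⁻¹ := by
      intro q
      obtain ⟨g, rfl⟩ := QuotientGroup.mk_surjective q
      have : h • (QuotientGroup.mk g : K ⧸ C) = QuotientGroup.mk (h * g) := rfl
      rw [this, hzt, hzt, hz h g, mul_inv_cancel_right]
    have h3 : ∏ q : K ⧸ C, zt (h • q) = u := by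
      rw [hu]
      exact Equiv.prod_comp (MulAction.toPerm h) zt
    rw [h1, Finset.prod_congr rfl (fun q _ => h2 q), Finset.prod_mul_distrib, h3,
      Finset.prod_const, Finset.card_univ, hcard, mul_inv_rev, inv_pow, inv_inv]
    rw [mul_comm ((z h) ^ m), mul_inv_cancel_left]
  -- Bezout
  have hgcd : (m : ℤ) * Nat.gcdA m e + (e : ℤ) * Nat.gcdB m e = 1 := by
    have := Nat.gcd_eq_gcd_ab m e
    rw [hcop.gcd_eq_one] at this
    simpa using this.symm
  refine ⟨u ^ (Nat.gcdA m e), fun h => ?_⟩
  have h1 : z h = (z h ^ m) ^ (Nat.gcdA m e) := by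
    have h2 : z h = z h ^ ((m : ℤ) * Nat.gcdA m e + (e : ℤ) * Nat.gcdB m e) := by
      rw [hgcd, zpow_one]
    rw [zpow_add, zpow_mul, zpow_mul, zpow_natCast, zpow_natCast, hA, one_zpow, mul_one] at h2
    exact h2
  rw [h1, key h, mul_zpow, inv_zpow]
  congr 2
  exact (map_zpow (MulDistribMulAction.toMonoidHom A h) u _).symm

end Cfsg.Agent.Helper6.Glaub
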