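import Mathlib
import Cfsg.Agent.Helper3.GlaubDefs
import Cfsg.Agent.Helper6.GlaubTwoA

/-!
# Piece G-two of Theorem G: transport of `Hyp` (helper6)

`Hyp` passes to `subgroupOf` a subgroup containing `K` and `L`, and to images under homomorphisms whose
kernel lies in `S`.
-/

set_option autoImplicit false

namespace Cfsg.Agent.Helper6.Glaub

open Cfsg.Agent.Helper2 Cfsg.Agent.Helper3.Glaub

theorem Hyp.subgroupOf {G : Type*} [Group G] {K L S : Subgroup G} (h : Hyp K L S) (N : Subgroup G)
    (hKN : K ≤ N) (hLN : L ≤ N) :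
    Hyp (K.subgroupOf N) (L.subgroupOf N) (S.subgroupOf N) where
  norm := by
    intro l hl
    rw [Subgroup.mem_normalizer_iff]
    intro x
    have := Subgroup.mem_normalizer_iff.mp (h.norm (Subgroup.mem_subgroupOf.mp hl)) (x : G)
    simpa [Subgroup.mem_subgroupOf] using this
  perf := by
    apply Subgroup.map_injective N.subtype_injective
    rw [Subgroup.map_commutator, Subgroup.map_subgroupOf_eq_of_le hLN, h.perf]
  le := fun x hx => h.le hx
  pgroup := h.pgroup.comap_of_injective N.subtype N.subtype_injective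
  odd := by
    rw [Subgroup.relIndex_subgroupOf hKN]
    exact h.odd
  cent := by
    intro l hl
    rw [Subgroup.mem_centralizer_iff]
    intro s hs
    apply Subtype.ext
    have := Subgroup.mem_centralizer_iff.mp (h.cent (Subgroup.mem_subgroupOf.mp hl)) (s : G)
      (Subgroup.mem_subgroupOf.mp hs)
    simpa using this

theorem Hyp.map {G H : Type*} [Group G] [Group H] {K L S : Subgroup G} (h : Hyp K L S)
    (f : G →* H) (hker : f.ker ≤ S) :
    Hyp (K.map f) (L.map f) (S.map f) where
  norm := (Subgroup.map_mono h.norm).trans (Subgroup.le_normalizer_map f)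
  perf := by rw [← Subgroup.map_commutator, h.perf]
  le := Subgroup.map_mono h.le
  pgroup := h.pgroup.map f
  odd := by
    rw [Subgroup.relIndex_map_map, sup_of_le_left hker, sup_of_le_left (hker.trans h.le)]
    exact h.odd
  cent := by
    rintro _ ⟨l, hl, rfl⟩
    rw [Subgroup.mem_centralizer_iff]
    rintro _ ⟨s, hs, rfl⟩
    rw [← map_mul, ← map_mul, Subgroup.mem_centralizer_iff.mp (h.cent hl) s hs]

/-- A normal `2`-subgroup of `K` lies in every "Sylow" subgroup of `K`. -/
theorem Hyp.le_of_normal {G : Type*} [Group G] [Finite G] {K L S : Subgroup G} (h : Hyp K L S)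
    (Q : Subgroup G) (hQK : Q ≤ K) (hQn : K ≤ Subgroup.normalizer (Q : Set G))
    (hQ2 : IsPGroup 2 ↥Q) : Q ≤ S := by
  haveI : Fact (Nat.Prime 2) := ⟨Nat.prime_two⟩
  have h1 : IsPGroup 2 ↥(S ⊔ Q) := h.pgroup.to_sup_of_normal_right' hQ2 (h.le.trans hQn)
  have h2 : S.relIndex (S ⊔ Q) * (S ⊔ Q).relIndex K = S.relIndex K :=
    Subgroup.relIndex_mul_relIndex S (S ⊔ Q) K le_sup_left (sup_le h.le hQK)
  obtain ⟨j, hj⟩ := h1.index (S.subgroupOf (S ⊔ Q))
  have h3 : S.relIndex (S ⊔ Q) = 1 := by
    rw [Subgroup.relIndex, hj]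
    rcases Nat.eq_zero_or_pos j with hj0 | hj0
    · rw [hj0, pow_zero]
    · exfalso
      apply h.odd
      rw [← h2, Subgroup.relIndex, hj]
      exact Dvd.dvd.mul_right (dvd_pow_self 2 hj0.ne') _
  exact le_sup_right.trans (Subgroup.relIndex_eq_one.mp h3)

end Cfsg.Agent.Helper6.Glaub
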