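import Mathlib
import Cfsg.Agent.Helper6.GlaubTwoA

/-!
# Piece G-two of Theorem G: the barycenter argument (helper6)

If all `K`-conjugates of `τ` lie in the coset `A τ` of an abelian subgroup `A` normalized by `K`, and
the centralizer of `τ` in `K` has index prime to an exponent of `A`, then `w * τ` centralizes `K` for
some `w ∈ A`.
-/

set_option autoImplicit false

namespace Cfsg.Agent.Helper6.Glaub

/-- The conjugation action of a normalizing subgroup `K` on a subgroup `A`. -/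
@[reducible] def conjMulDistribMulAction {G : Type*} [Group G] (K A : Subgroup G)
    (hAn : K ≤ Subgroup.normalizer (A : Set G)) : MulDistribMulAction K A where
  smul k a := ⟨k * a * (k : G)⁻¹, (Subgroup.mem_normalizer_iff.mp (hAn k.2) a).mp a.2⟩
  one_smul a := Subtype.ext (by
    show ((1 : K) : G) * a * ((1 : K) : G)⁻¹ = a
    simp)
  mul_smul k k' a := Subtype.ext (by
    show ((k * k' : K) : G) * a * ((k * k' : K) : G)⁻¹ = k * (k' * a * (k' : G)⁻¹) * (k : G)⁻¹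
    simp [mul_assoc])
  smul_mul k a b := Subtype.ext (by
    show (k : G) * ((a * b : A) : G) * (k : G)⁻¹ = (k * a * (k : G)⁻¹) * (k * b * (k : G)⁻¹)
    simp [mul_assoc])
  smul_one k := Subtype.ext (by
    show (k : G) * ((1 : A) : G) * (k : G)⁻¹ = 1
    simp)

theorem exists_mul_centralizes {G : Type*} [Group G] [Finite G] (K A C : Subgroup G)
    (hAn : K ≤ Subgroup.normalizer (A : Set G))
    (hAc : ∀ a ∈ A, ∀ b ∈ A, a * b = b * a)
    (τ : G) (hz : ∀ g ∈ K, g * τ * g⁻¹ * τ⁻¹ ∈ A)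
    (hCτ : ∀ c ∈ C, c * τ = τ * c)
    (e : ℕ) (hA : ∀ a ∈ A, a ^ e = 1) (hcop : (C.relIndex K).Coprime e) :
    ∃ w ∈ A, ∀ h ∈ K, h * (w * τ) = (w * τ) * h := by
  classical
  letI : CommGroup ↥A :=
    { (inferInstance : Group ↥A) with
      mul_comm := fun a b => Subtype.ext (hAc a a.2 b b.2) }
  letI : MulDistribMulAction K A := conjMulDistribMulAction K A hAn
  have hsmul : ∀ (k : K) (a : A), ((k • a : A) : G) = k * a * (k : G)⁻¹ := fun k a => rfl
  let z : K → A := fun g => ⟨g * τ * (g : G)⁻¹ * τ⁻¹, hz g g.2⟩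
  have hzc : ∀ g : K, ((z g : A) : G) = g * τ * (g : G)⁻¹ * τ⁻¹ := fun g => rfl
  obtain ⟨w, hw⟩ := exists_coboundary (C.subgroupOf K) z
    (by
      intro g h
      apply Subtype.ext
      rw [Subgroup.coe_mul, hsmul, hzc, hzc, hzc, Subgroup.coe_mul]
      group)
    (by
      intro g c hc
      apply Subtype.ext
      rw [hzc, hzc, Subgroup.coe_mul]
      have h1 : (c : G) * τ = τ * c := hCτ _ (Subgroup.mem_subgroupOf.mp hc)
      have h2 : (c : G) * τ * (c : G)⁻¹ = τ := by rw [h1, mul_inv_cancel_right]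
      calc (g : G) * c * τ * ((g : G) * c)⁻¹ * τ⁻¹
          = g * (c * τ * (c : G)⁻¹) * (g : G)⁻¹ * τ⁻¹ := by group
        _ = g * τ * (g : G)⁻¹ * τ⁻¹ := by rw [h2])
    e (fun a => Subtype.ext (by simpa using hA a a.2)) hcop
  refine ⟨w, w.2, fun h hh => ?_⟩
  have h1 := congrArg Subtype.val (hw ⟨h, hh⟩)
  rw [hzc, Subgroup.coe_mul, Subgroup.coe_inv, hsmul] at h1
  -- h1 : h τ h⁻¹ τ⁻¹ = w (h w h⁻¹)⁻¹
  have h2 : (h * w * h⁻¹) * (w : G) = w * (h * w * h⁻¹) :=
    hAc _ ((Subgroup.mem_normalizer_iff.mp (hAn hh) w).mp w.2) _ w.2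
  have h3 : h * τ * h⁻¹ = w * (h * w * h⁻¹)⁻¹ * τ := by
    rw [← h1]; group
  calc h * (w * τ) = (h * w * h⁻¹) * (h * τ * h⁻¹) * h := by group
    _ = (h * w * h⁻¹) * (w * (h * w * h⁻¹)⁻¹ * τ) * h := by rw [h3]
    _ = ((h * w * h⁻¹) * w) * (h * w * h⁻¹)⁻¹ * τ * h := by group
    _ = (w * (h * w * h⁻¹)) * (h * w * h⁻¹)⁻¹ * τ * h := by rw [h2]
    _ = (w * τ) * h := by group

end Cfsg.Agent.Helper6.Glaub
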