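import Mathlib
import Cfsg.Agent.Helper3.GlaubDefs
import Cfsg.Agent.Helper6.GlaubTwoA
import Cfsg.Agent.Helper6.GlaubTwoB
import Cfsg.Agent.Helper6.GlaubTwoC
import Cfsg.Agent.Helper1.Fitting
import Cfsg.Agent.Helper2.PComp1
import Cfsg.Agent.Helper2.Layer5

/-!
# Piece G-two of Theorem G (helper6)

Case `O(K) = 1`, `Q ≠ 1` a `2`-subgroup of `K` normalized by `N_G(K)`.
-/

set_option autoImplicit false

namespace Cfsg.Agent.Helper6.Glaub

open Cfsg.Agent.Helper2 Cfsg.Agent.Helper3.Glaub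

universe u

/-- Conjugating an element of `C_G(Q)` by an element normalizing `Q` stays in `C_G(Q)`. -/
theorem conj_mem_centralizer {G : Type*} [Group G] (Q : Subgroup G) {g x : G}
    (hg : g ∈ Subgroup.normalizer (Q : Set G)) (hx : x ∈ Subgroup.centralizer (Q : Set G)) :
    g * x * g⁻¹ ∈ Subgroup.centralizer (Q : Set G) := by
  rw [Subgroup.mem_centralizer_iff] at hx ⊢
  intro q hq
  have hq' : g⁻¹ * q * g ∈ Q := (Subgroup.mem_normalizer_iff''.mp hg q).mp hq
  have h1 := hx _ hq'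
  calc q * (g * x * g⁻¹) = g * ((g⁻¹ * q * g) * x) * g⁻¹ := by group
    _ = g * (x * (g⁻¹ * q * g)) * g⁻¹ := by rw [h1]
    _ = g * x * g⁻¹ * q := by group

/-- First half: all commutators `[τ,k]` lie in `Z(Q)`. -/
theorem comm_mem_center_of (n : ℕ) (ih : Stmt.{u} n) {G : Type u} [Group G] [Finite G]
    (K L S : Subgroup G) (hcard : Nat.card K ≤ n + 1) (h : Hyp K L S)
    (hodd : ∀ V : Subgroup G, V ≤ K → K ≤ Subgroup.normalizer (V : Set G) →
      (Nat.card V).Coprime 2 → V = ⊥)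
    (Q : Subgroup G) (hQK : Q ≤ K)
    (hQn : Subgroup.normalizer (K : Set G) ≤ Subgroup.normalizer (Q : Set G))
    (hQ2 : IsPGroup 2 ↥Q) (hQ : Q ≠ ⊥) (hQS : Q ≤ S) :
    ∀ τ ∈ L, IsPElt 2 τ → ∀ k ∈ K,
      τ * k * τ⁻¹ * k⁻¹ ∈ Q ⊓ Subgroup.centralizer (Q : Set G) := by
  classical
  haveI : Fact (Nat.Prime 2) := ⟨Nat.prime_two⟩
  set N : Subgroup G := Subgroup.normalizer (K : Set G) with hN
  have hKN : K ≤ N := Subgroup.le_normalizer
  have hLN : L ≤ N := h.norm
  haveI hQNn : (Q.subgroupOf N).Normal := by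
    constructor
    intro x hx g
    rw [Subgroup.mem_subgroupOf] at hx ⊢
    exact (Subgroup.mem_normalizer_iff.mp (hQn g.2) x).mp hx
  set π := QuotientGroup.mk' (Q.subgroupOf N) with hπ
  have hπs : Function.Surjective π := QuotientGroup.mk'_surjective _
  have hker : π.ker = Q.subgroupOf N := QuotientGroup.ker_mk' _
  have hHN := Hyp.subgroupOf h N hKN hLN
  have hHb := Hyp.map hHN π (by rw [hker]; exact fun x hx => hQS hx)
  set Kb := (K.subgroupOf N).map π with hKb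
  set Lb := (L.subgroupOf N).map π with hLb
  -- the order of `Kb`
  have hcardb : Nat.card Kb ≤ n := by
    have h1 : Nat.card Kb = Q.relIndex K := by
      have h2 := Subgroup.relIndex_map_map π ⊥ (K.subgroupOf N)
      rw [Subgroup.map_bot, Subgroup.relIndex_bot_left, bot_sup_eq, hker,
        sup_of_le_left (show Q.subgroupOf N ≤ K.subgroupOf N from fun x hx => hQK hx),
        Subgroup.relIndex_subgroupOf hKN] at h2
      exact h2
    have h3 : Q.relIndex K * Nat.card Q = Nat.card K := by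
      rw [Subgroup.relIndex, mul_comm,
        ← Nat.card_congr (Subgroup.subgroupOfEquivOfLe hQK).toEquiv]
      exact Subgroup.card_mul_index _
    have h4 : 1 < Nat.card Q := (Subgroup.one_lt_card_iff_ne_bot (H := Q)).mpr hQ
    have h5 : 0 < Q.relIndex K := by
      rcases Nat.eq_zero_or_pos (Q.relIndex K) with h0 | h0
      · rw [h0, zero_mul] at h3
        have : 0 < Nat.card K := Nat.card_pos
        omega
      · exact h0
    have h6 : Q.relIndex K < Nat.card K := by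
      rw [← h3]
      nlinarith
    omega
  have hconcl : Concl Kb Lb := ih _ Kb Lb _ hcardb hHb
  -- `Kb` is normal
  haveI hKNn : (K.subgroupOf N).Normal := by
    constructor
    intro x hx g
    rw [Subgroup.mem_subgroupOf] at hx ⊢
    exact (Subgroup.mem_normalizer_iff.mp g.2 x).mp hx
  haveI hKbn : Kb.Normal := Subgroup.Normal.map hKNn π hπs
  haveI hcn : (coreOf 2 Kb).Normal := by
    unfold coreOf
    infer_instance
  set m := Nat.card (coreOf 2 Kb) with hm
  have hmcop : m.Coprime 2 := by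
    rw [hm]
    unfold coreOf
    rw [Subgroup.card_map_of_injective Kb.subtype_injective]
    exact Cfsg.Agent.Helper1.card_pPrimeCore_coprime 2
  -- the subgroup `D`
  set A : Subgroup G := Q ⊓ Subgroup.centralizer (Q : Set G) with hA
  set D : Subgroup G := K ⊓ Subgroup.centralizer (Q : Set G) ⊓
    ((coreOf 2 Kb).comap π).map N.subtype with hD
  have hDmem : ∀ x : G, x ∈ D ↔ x ∈ K ∧ x ∈ Subgroup.centralizer (Q : Set G) ∧
      ∃ hx : x ∈ N, π ⟨x, hx⟩ ∈ coreOf 2 Kb := by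
    intro x
    rw [hD, Subgroup.mem_inf, Subgroup.mem_inf, and_assoc]
    refine and_congr Iff.rfl (and_congr Iff.rfl ?_)
    constructor
    · rintro ⟨y, hy, rfl⟩
      exact ⟨y.2, hy⟩
    · rintro ⟨hx, hy⟩
      exact ⟨⟨x, hx⟩, hy, rfl⟩
  have hKnormD : K ≤ Subgroup.normalizer (D : Set G) := by
    have key : ∀ g ∈ K, ∀ x ∈ D, g * x * g⁻¹ ∈ D := by
      intro g hg x hx
      obtain ⟨hx1, hx2, hx3, hx4⟩ := (hDmem x).mp hx
      refine (hDmem _).mpr ⟨K.mul_mem (K.mul_mem hg hx1) (K.inv_mem hg),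
        conj_mem_centralizer Q (hQn (hKN hg)) hx2,
        N.mul_mem (N.mul_mem (hKN hg) hx3) (N.inv_mem (hKN hg)), ?_⟩
      have : (⟨g * x * g⁻¹, N.mul_mem (N.mul_mem (hKN hg) hx3) (N.inv_mem (hKN hg))⟩ : ↥N) =
          ⟨g, hKN hg⟩ * ⟨x, hx3⟩ * (⟨g, hKN hg⟩ : ↥N)⁻¹ := rfl
      rw [this, map_mul, map_mul, map_inv]
      exact hcn.conj_mem _ hx4 _
    intro g hg
    rw [Subgroup.mem_normalizer_iff]
    intro x
    refine ⟨key g hg x, fun hx => ?_⟩
    have := key g⁻¹ (K.inv_mem hg) _ hx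
    simpa [mul_assoc] using this
  have hDK : D ≤ K := fun x hx => ((hDmem x).mp hx).1
  have hDA : D ≤ A := by
    refine le_of_central_pgroup_of_pow_mem (p := 2) D A ?_ (hQ2.to_le inf_le_left) m hmcop ?_ ?_
    · intro a ha d hd
      exact Subgroup.mem_centralizer_iff.mp ((hDmem d).mp hd).2.1 a ha.1
    · intro d hd
      obtain ⟨hd1, hd2, hd3, hd4⟩ := (hDmem d).mp hd
      refine ⟨?_, Subgroup.pow_mem _ hd2 m⟩
      have h1 : (π ⟨d, hd3⟩) ^ m = 1 := by
        have := pow_card_eq_one' (G := ↥(coreOf 2 Kb)) (x := ⟨π ⟨d, hd3⟩, hd4⟩)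
        rw [← hm] at this
        simpa using congrArg Subtype.val this
      rw [← map_pow, ← MonoidHom.mem_ker, hker, Subgroup.mem_subgroupOf] at h1
      simpa using h1
    · intro V hVD hVn hVc
      exact hodd V (hVD.trans hDK) (hKnormD.trans hVn) hVc
  -- the commutators lie in `D`
  intro τ hτ hτ2 k hk
  apply hDA
  have hτN : τ ∈ N := hLN hτ
  have hkN : k ∈ N := hKN hk
  have hτk : τ * k * τ⁻¹ ∈ K := (Subgroup.mem_normalizer_iff.mp hτN k).mp hk
  have hτQ : τ ∈ Subgroup.centralizer (Q : Set G) := by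
    rw [Subgroup.mem_centralizer_iff]
    intro q hq
    exact Subgroup.mem_centralizer_iff.mp (h.cent hτ) q (hQS hq)
  refine (hDmem _).mpr ⟨K.mul_mem hτk (K.inv_mem hk), ?_, ?_, ?_⟩
  · have h1 : k * τ⁻¹ * k⁻¹ ∈ Subgroup.centralizer (Q : Set G) :=
      conj_mem_centralizer Q (hQn hkN) (Subgroup.inv_mem _ hτQ)
    have h2 : τ * k * τ⁻¹ * k⁻¹ = τ * (k * τ⁻¹ * k⁻¹) := by group
    rw [h2]
    exact Subgroup.mul_mem _ hτQ h1
  · exact N.mul_mem (N.mul_mem (N.mul_mem hτN hkN) (N.inv_mem hτN)) (N.inv_mem hkN)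
  · have h1 := hconcl (π ⟨τ, hτN⟩) ⟨⟨τ, hτN⟩, Subgroup.mem_subgroupOf.mpr hτ, rfl⟩
      (by
        obtain ⟨j, hj⟩ := hτ2
        exact ⟨j, by rw [← map_pow]; convert map_one π; exact Subtype.ext hj⟩)
      (π ⟨k, hkN⟩) ⟨⟨k, hkN⟩, Subgroup.mem_subgroupOf.mpr hk, rfl⟩
    rw [← map_inv, ← map_inv, ← map_mul, ← map_mul, ← map_mul] at h1
    exact h1


/-- **PIECE G-two** of Theorem G: case `O(K) = 1`, `Q` a nontrivial `2`-subgroup of `K` normalized by
`N_G(K)`. -/
theorem two_case (n : ℕ) (ih : Stmt.{u} n) {G : Type u} [Group G] [Finite G] (K L S : Subgroup G)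
    (hcard : Nat.card K ≤ n + 1) (h : Hyp K L S)
    (hodd : ∀ V : Subgroup G, V ≤ K → K ≤ Subgroup.normalizer (V : Set G) →
      (Nat.card V).Coprime 2 → V = ⊥)
    (Q : Subgroup G) (hQK : Q ≤ K)
    (hQn : Subgroup.normalizer (K : Set G) ≤ Subgroup.normalizer (Q : Set G))
    (hQ2 : IsPGroup 2 ↥Q) (hQ : Q ≠ ⊥) : Concl K L := by
  classical
  haveI : Fact (Nat.Prime 2) := ⟨Nat.prime_two⟩
  have hKN : K ≤ Subgroup.normalizer (K : Set G) := Subgroup.le_normalizer
  have hQS : Q ≤ S := Hyp.le_of_normal h Q hQK (hKN.trans hQn) hQ2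
  have hcA := comm_mem_center_of n ih K L S hcard h hodd Q hQK hQn hQ2 hQ hQS
  set A : Subgroup G := Q ⊓ Subgroup.centralizer (Q : Set G) with hA
  have hAS : A ≤ S := inf_le_left.trans hQS
  have hAK : A ≤ K := hAS.trans h.le
  have hAc : ∀ a ∈ A, ∀ b ∈ A, a * b = b * a := fun a ha b hb =>
    Subgroup.mem_centralizer_iff.mp hb.2 a ha.1
  have hAn : K ≤ Subgroup.normalizer (A : Set G) := by
    have key : ∀ g ∈ K, ∀ x ∈ A, g * x * g⁻¹ ∈ A := fun g hg x hx =>
      ⟨(Subgroup.mem_normalizer_iff.mp (hQn (hKN hg)) x).mp hx.1,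
        conj_mem_centralizer Q (hQn (hKN hg)) hx.2⟩
    intro g hg
    rw [Subgroup.mem_normalizer_iff]
    intro x
    refine ⟨key g hg x, fun hx => ?_⟩
    have := key g⁻¹ (K.inv_mem hg) _ hx
    simpa [mul_assoc] using this
  have hA2 : IsPGroup 2 ↥A := hQ2.to_le inf_le_left
  -- Step 1: every 2-element of `L` acts on `K` like an element of `A`
  have step1 : ∀ τ ∈ L, IsPElt 2 τ → ∃ w ∈ A, ∀ k ∈ K, k * (w * τ) = (w * τ) * k := by
    intro τ hτ hτ2
    obtain ⟨j, hj⟩ := hA2.exists_card_eq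
    refine exists_mul_centralizes K A S hAn hAc τ ?_ ?_ (2 ^ j) ?_ ?_
    · intro g hg
      have h1 := A.inv_mem (hcA τ hτ hτ2 g hg)
      have h2 : (τ * g * τ⁻¹ * g⁻¹)⁻¹ = g * τ * g⁻¹ * τ⁻¹ := by group
      rwa [h2] at h1
    · intro c hc
      exact Subgroup.mem_centralizer_iff.mp (h.cent hτ) c hc
    · intro a ha
      have := pow_card_eq_one' (G := ↥A) (x := ⟨a, ha⟩)
      rw [hj] at this
      simpa using congrArg Subtype.val this
    · exact Nat.Coprime.pow_right j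
        ((Nat.Prime.coprime_iff_not_dvd Nat.prime_two).2 h.odd).symm
  -- Step 2: commutators of 2-elements of `L` with `L` centralize `K`
  have step2 : ∀ τ ∈ L, IsPElt 2 τ → ∀ l ∈ L,
      τ * l * τ⁻¹ * l⁻¹ ∈ Subgroup.centralizer (K : Set G) := by
    intro τ hτ hτ2 l hl
    obtain ⟨w, hw, hwτ⟩ := step1 τ hτ hτ2
    have hlw : l * w = w * l :=
      (Subgroup.mem_centralizer_iff.mp (h.cent hl) w (hAS hw)).symm
    rw [Subgroup.mem_centralizer_iff]
    intro k hk
    have hk1 : l⁻¹ * k * l ∈ K :=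
      (Subgroup.mem_normalizer_iff''.mp (h.norm hl) k).mp hk
    have hwK : w ∈ K := hAK hw
    -- conjugation by `τ` on `K` is conjugation by `w⁻¹`
    have f0 : ∀ x ∈ K, x * τ = τ * (w * x * w⁻¹) := by
      intro x hx
      have hx' : w * x * w⁻¹ ∈ K := K.mul_mem (K.mul_mem hwK hx) (K.inv_mem hwK)
      have := hwτ _ hx'
      have h3 : w * (x * τ) = w * (τ * (w * x * w⁻¹)) := by
        calc w * (x * τ) = (w * x * w⁻¹) * (w * τ) := by group
          _ = (w * τ) * (w * x * w⁻¹) := this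
          _ = w * (τ * (w * x * w⁻¹)) := by group
      exact mul_left_cancel h3
    have f1 : τ⁻¹ * (l⁻¹ * k * l) * τ = w * (l⁻¹ * k * l) * w⁻¹ := by
      rw [mul_assoc, f0 _ hk1]; group
    have f2 : τ * (w * k * w⁻¹) * τ⁻¹ = k := by
      rw [← f0 k hk]; group
    have f3 : l * w * l⁻¹ = w := by rw [hlw, mul_inv_cancel_right]
    symm
    calc τ * l * τ⁻¹ * l⁻¹ * k
        = τ * l * (τ⁻¹ * (l⁻¹ * k * l) * τ) * τ⁻¹ * l⁻¹ := by group
      _ = τ * l * (w * (l⁻¹ * k * l) * w⁻¹) * τ⁻¹ * l⁻¹ := by rw [f1]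
      _ = τ * ((l * w * l⁻¹) * k * (l * w * l⁻¹)⁻¹) * l * τ⁻¹ * l⁻¹ := by group
      _ = τ * (w * k * w⁻¹) * l * τ⁻¹ * l⁻¹ := by rw [f3]
      _ = (τ * (w * k * w⁻¹) * τ⁻¹) * (τ * l * τ⁻¹ * l⁻¹) := by group
      _ = k * (τ * l * τ⁻¹ * l⁻¹) := by rw [f2]
  -- Step 3: the quotient of `L` by `C_L(K)`
  set CL : Subgroup ↥L := (Subgroup.centralizer (K : Set G)).subgroupOf L with hCL
  haveI hCLn : CL.Normal := by
    constructor
    intro x hx g
    rw [hCL, Subgroup.mem_subgroupOf] at hx ⊢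
    have hg : (g : G) ∈ Subgroup.normalizer (K : Set G) := h.norm g.2
    rw [Subgroup.mem_centralizer_iff] at hx ⊢
    intro k hk
    have hk1 : (g : G)⁻¹ * k * g ∈ K := (Subgroup.mem_normalizer_iff''.mp hg k).mp hk
    have h1 := hx _ hk1
    simp only [Subgroup.coe_mul, Subgroup.coe_inv]
    calc k * ((g : G) * x * (g : G)⁻¹)
        = g * (((g : G)⁻¹ * k * g) * x) * (g : G)⁻¹ := by group
      _ = g * (x * ((g : G)⁻¹ * k * g)) * (g : G)⁻¹ := by rw [h1]
      _ = (g : G) * x * (g : G)⁻¹ * k := by group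
  have hperf : commutator (↥L ⧸ CL) = ⊤ := by
    have h1 : commutator ↥L = ⊤ := by
      apply Subgroup.map_injective L.subtype_injective
      rw [commutator_subtype_le, h.perf, ← MonoidHom.range_eq_map, Subgroup.range_subtype]
    rw [commutator_def, ← Subgroup.map_top_of_surjective (QuotientGroup.mk' CL)
      (QuotientGroup.mk'_surjective CL), ← Subgroup.map_commutator, ← commutator_def, h1]
  have hcentral : ∀ x : ↥L ⧸ CL, IsPElt 2 x → x ∈ Subgroup.center (↥L ⧸ CL) := by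
    intro x hx
    obtain ⟨t, -, ht2, rfl⟩ := exists_isPElt_lift (QuotientGroup.mk' CL) ⊤
      (by rw [Subgroup.map_top_of_surjective _ (QuotientGroup.mk'_surjective CL)]; trivial) hx
    rw [Subgroup.mem_center_iff]
    intro y
    obtain ⟨l, rfl⟩ := QuotientGroup.mk'_surjective CL y
    rw [← map_mul, ← map_mul]
    apply (QuotientGroup.eq (s := CL)).mpr
    rw [hCL, Subgroup.mem_subgroupOf]
    have ht2' : IsPElt 2 ((t : G)⁻¹) := by
      obtain ⟨j, hj⟩ := ht2
      refine ⟨j, ?_⟩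
      rw [inv_pow]
      have := congrArg Subtype.val hj
      simp only [Subgroup.coe_pow, Subgroup.coe_one] at this
      rw [this, inv_one]
    have := step2 _ (L.inv_mem t.2) ht2' _ (L.inv_mem l.2)
    have h2 : ((l * t)⁻¹ * (t * l) : ↥L) = (t⁻¹ * l⁻¹ * t⁻¹⁻¹ * l⁻¹⁻¹ : ↥L) := by group
    rw [h2]
    simpa using this
  have hall := pElt_eq_one_of_perfect_of_central (p := 2) hperf hcentral
  intro τ hτ hτ2 k hk
  have h1 : QuotientGroup.mk' CL ⟨τ, hτ⟩ = 1 := by
    apply hall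
    obtain ⟨j, hj⟩ := hτ2
    exact ⟨j, by rw [← map_pow]; convert map_one (QuotientGroup.mk' CL); exact Subtype.ext hj⟩
  rw [QuotientGroup.mk'_apply, QuotientGroup.eq_one_iff, hCL, Subgroup.mem_subgroupOf] at h1
  have h2 : k * τ = τ * k := Subgroup.mem_centralizer_iff.mp h1 k hk
  have h3 : τ * k * τ⁻¹ * k⁻¹ = 1 := by
    rw [← h2]; group
  rw [h3]
  exact Subgroup.one_mem _

end Cfsg.Agent.Helper6.Glaub
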