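import Mathlib
import Cfsg.Prelude.Def_Characters
import Cfsg.Prelude.Def_Blocks
import Cfsg.Agent.Helper6.HeightZeroTrunc
import Cfsg.Agent.Helper6.WeakOrth
import Cfsg.Agent.Helper6.BlockOrth
import Cfsg.Agent.Helper6.DefectZeroBlock

/-!
# The exact power of `p` dividing `∑_{χ ∈ B} χ(1)^2`

The multiplicities `s_φ = ⟨φ|_P, 1_P⟩` for a Sylow `p`-subgroup `P`: the class function
`∑ s_φ φ` equals `|G : P|` at `1` and vanishes at the other `p`-regular elements.
-/

set_option autoImplicit false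
set_option linter.style.haveILetI false

namespace Cfsg.Agent.Helper6.DegSq

open Module
open scoped ComplexConjugate

universe u

variable {G : Type u} [Group G] {M : Ideal Cfsg.AlgInt}

/-- the multiplicity of the trivial character in the restriction to `P` -/
noncomputable def sylMult (P : Subgroup G) [Fintype P] (φ : G → ℂ) : ℂ :=
  (Nat.card P : ℂ)⁻¹ * ∑ y : P, φ y

theorem sylMult_eq_classInner (P : Subgroup G) [Fintype P] (φ : G → ℂ) :
    sylMult P φ = Cfsg.classInner (fun y : P => φ y) (fun _ => (1 : ℂ)) := by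
  unfold sylMult
  rw [classInner_def]
  congr 1
  apply Finset.sum_congr rfl
  intro y _
  simp

theorem sylMult_nat (P : Subgroup G) [Fintype P] {φ : G → ℂ} (hφ : Cfsg.IsCharacter G φ) :
    ∃ n : ℕ, sylMult P φ = n := by
  rw [sylMult_eq_classInner]
  exact classInner_char_char_nat (IsCharacter.restrict P hφ)
    (IsIrrCharacter.isCharacter isIrrCharacter_one)

/-- a `p`-regular element conjugate to an element of a `p`-group is trivial -/
theorem eq_one_of_isConj_of_pgroup [Finite G] (p : ℕ) [hp : Fact p.Prime] (P : Subgroup G)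
    (hP : IsPGroup p P) (y : P) (x : G) (hx : ¬ p ∣ orderOf x) (h : IsConj (y : G) x⁻¹) :
    x = 1 ∧ y = 1 := by
  have ho : orderOf (y : G) = orderOf x := by
    obtain ⟨c, hc⟩ := isConj_iff.mp h
    have h1 := MulEquiv.orderOf_eq (MulAut.conj c) (y : G)
    rw [MulAut.conj_apply, hc, orderOf_inv] at h1
    exact h1.symm
  obtain ⟨k, hk⟩ := IsPGroup.iff_orderOf.mp hP y
  rw [Subgroup.orderOf_coe] at ho
  have hk0 : k = 0 := by
    by_contra hne
    apply hx
    rw [← ho, hk]
    exact dvd_pow_self p hne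
  rw [hk0, pow_zero] at hk
  have hy1 : y = 1 := orderOf_eq_one_iff.mp hk
  refine ⟨?_, hy1⟩
  rw [hk] at ho
  exact orderOf_eq_one_iff.mp ho.symm

open Classical in
/-- **the Sylow permutation character on `p`-regular elements** -/
theorem sum_sylMult_mul [Fintype G] [Fintype (Cfsg.IrrCharacter G)] (p : ℕ) [hp : Fact p.Prime]
    (P : Subgroup G) [Fintype P] (hP : IsPGroup p P) (x : G) (hx : ¬ p ∣ orderOf x) :
    ∑ φ : Cfsg.IrrCharacter G, sylMult P (φ : G → ℂ) * (φ : G → ℂ) x =
      if x = 1 then (Nat.card G : ℂ) / (Nat.card P : ℂ) else 0 := by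
  have h1 : ∀ φ : Cfsg.IrrCharacter G, sylMult P (φ : G → ℂ) * (φ : G → ℂ) x =
      (Nat.card P : ℂ)⁻¹ * ∑ y : P, (φ : G → ℂ) y * conj ((φ : G → ℂ) x⁻¹) := by
    intro φ
    unfold sylMult
    rw [IsCharacter.inv_eq_conj (IsIrrCharacter.isCharacter φ.2), Complex.conj_conj, mul_assoc,
      Finset.sum_mul]
  rw [Finset.sum_congr rfl (fun φ _ => h1 φ), ← Finset.mul_sum, Finset.sum_comm]
  have h2 : ∀ y : P, ∑ φ : Cfsg.IrrCharacter G, (φ : G → ℂ) y * conj ((φ : G → ℂ) x⁻¹) =
      if x = 1 ∧ y = 1 then (Nat.card G : ℂ) else 0 := by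
    intro y
    rw [column_orthogonality_aux]
    by_cases hc : IsConj (y : G) x⁻¹
    · obtain ⟨hx1, hy1⟩ := eq_one_of_isConj_of_pgroup p P hP y x hx hc
      rw [if_pos hc, if_pos ⟨hx1, hy1⟩, hy1]
      congr 1
      have : Subgroup.centralizer ({((1 : P) : G)} : Set G) = ⊤ := by
        ext g
        simp [Subgroup.mem_centralizer_iff]
      rw [this]
      exact Subgroup.card_top
    · rw [if_neg hc, if_neg]
      rintro ⟨hx1, hy1⟩
      apply hc
      rw [hx1, hy1]
      simp
  rw [Finset.sum_congr rfl (fun y _ => h2 y)]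
  by_cases hx1 : x = 1
  · rw [if_pos hx1]
    have : ∀ y : P, (if x = 1 ∧ y = 1 then (Nat.card G : ℂ) else 0) =
        if y = 1 then (Nat.card G : ℂ) else 0 := by
      intro y
      simp [hx1]
    rw [Finset.sum_congr rfl (fun y _ => this y), Finset.sum_ite_eq' Finset.univ (1 : P),
      if_pos (Finset.mem_univ _)]
    field_simp
  · rw [if_neg hx1]
    have : ∀ y : P, (if x = 1 ∧ y = 1 then (Nat.card G : ℂ) else 0) = 0 := by
      intro y
      simp [hx1]
    rw [Finset.sum_congr rfl (fun y _ => this y), Finset.sum_const_zero, mul_zero]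

end Cfsg.Agent.Helper6.DegSq
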