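import Mathlib
import Cfsg.Prelude.Def_Characters
import Cfsg.Prelude.Def_Blocks
import Cfsg.Agent.Helper6.DegSqA

/-!
# The exact power of `p` dividing `∑_{χ ∈ B} χ(1)^2` (Brauer)
-/

set_option autoImplicit false
set_option linter.style.haveILetI false

namespace Cfsg.Agent.Helper6.DegSq

open Module
open scoped ComplexConjugate

universe u

variable {G : Type u} [Group G] {M : Ideal Cfsg.AlgInt}

open Classical in
/-- the degrees of a block against the Sylow multiplicities -/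
theorem sum_sq_eq_pow_mul_sum [Fintype G] [Fintype (Cfsg.IrrCharacter G)] {p : ℕ}
    [hp : Fact p.Prime] (hM : Cfsg.IsPModular p M) (B : Set (Cfsg.IrrCharacter G))
    (hB : Cfsg.IsPBlock M B) (P : Subgroup G) [Fintype P] (hP : IsPGroup p P) :
    ∑ φ ∈ Finset.univ.filter (fun φ : Cfsg.IrrCharacter G => φ ∈ B),
        (φ : G → ℂ) 1 * (φ : G → ℂ) 1 =
      (Nat.card P : ℂ) * ∑ φ ∈ Finset.univ.filter (fun φ : Cfsg.IrrCharacter G => φ ∈ B),
        sylMult P (φ : G → ℂ) * (φ : G → ℂ) 1 := by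
  have hP0 : (Nat.card P : ℂ) ≠ 0 := by
    have : 0 < Nat.card P := Nat.card_pos
    exact_mod_cast this.ne'
  unfold sylMult
  have h1 : ∀ φ : Cfsg.IrrCharacter G,
      (Nat.card P : ℂ)⁻¹ * (∑ y : P, (φ : G → ℂ) y) * (φ : G → ℂ) 1 =
      (Nat.card P : ℂ)⁻¹ * ∑ y : P, (φ : G → ℂ) y * (φ : G → ℂ) 1 := by
    intro φ
    rw [mul_assoc, Finset.sum_mul]
  rw [Finset.sum_congr rfl (fun φ _ => h1 φ), ← Finset.mul_sum, ← mul_assoc,
    mul_inv_cancel₀ hP0, one_mul, Finset.sum_comm]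
  -- only `y = 1` contributes
  have h2 : ∀ y : P, y ≠ 1 →
      ∑ φ ∈ Finset.univ.filter (fun φ : Cfsg.IrrCharacter G => φ ∈ B),
        (φ : G → ℂ) y * (φ : G → ℂ) 1 = 0 := by
    intro y hy
    have hy' : p ∣ orderOf (y : G) := by
      rw [Subgroup.orderOf_coe]
      exact hP.dvd_orderOf hy
    have h3 := weak_block_orthogonality hM.2.1 p hM.2.2 B hB (1 : G) (y : G)
      (by rw [orderOf_one]; exact hp.out.not_dvd_one) hy'
    rw [finsum_mem_eq_sum_ite, ← Finset.sum_filter] at h3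
    have h4 := congrArg conj h3
    rw [map_sum, map_zero] at h4
    rw [← h4]
    apply Finset.sum_congr rfl
    intro φ _
    rw [map_mul, Complex.conj_conj, mul_comm]
    congr 1
    rw [← IsCharacter.inv_eq_conj (IsIrrCharacter.isCharacter φ.2), inv_one]
  rw [Finset.sum_eq_single (1 : P) (fun y _ hy => h2 y hy)
    (fun h => absurd (Finset.mem_univ _) h)]
  rfl

open Classical in
/-- the `p`-regular pairing of a member of `B` with the Sylow multiplicities -/
theorem sum_sylMult_truncSum [Fintype G] [Fintype (Cfsg.IrrCharacter G)] {p : ℕ}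
    [hp : Fact p.Prime] (hM : Cfsg.IsPModular p M) (B : Set (Cfsg.IrrCharacter G))
    (hB : Cfsg.IsPBlock M B) (P : Subgroup G) [Fintype P] (hP : IsPGroup p P)
    (ψ : Cfsg.IrrCharacter G) (hψ : ψ ∈ B) :
    ∑ φ ∈ Finset.univ.filter (fun φ : Cfsg.IrrCharacter G => φ ∈ B),
        sylMult P (φ : G → ℂ) * truncSum p (ψ : G → ℂ) (φ : G → ℂ) =
      (Nat.card G : ℂ) / (Nat.card P : ℂ) * (ψ : G → ℂ) 1 := by
  -- members outside `B` do not contribute
  have h1 : ∀ φ : Cfsg.IrrCharacter G, φ ∉ B → truncSum p (ψ : G → ℂ) (φ : G → ℂ) = 0 := by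
    intro φ hφ
    have h2 := sum_pregular_eq_zero hM.2.1 p hM.2.2 B hB ψ φ hψ hφ
    have h3 := congrArg conj h2
    rw [map_sum, map_zero] at h3
    rw [← h3]
    unfold truncSum truncConj
    apply Finset.sum_congr rfl
    intro x _
    split_ifs
    · simp
    · rw [map_mul, Complex.conj_conj]
  have h2 : ∑ φ ∈ Finset.univ.filter (fun φ : Cfsg.IrrCharacter G => φ ∈ B),
        sylMult P (φ : G → ℂ) * truncSum p (ψ : G → ℂ) (φ : G → ℂ) =
      ∑ φ : Cfsg.IrrCharacter G,
        sylMult P (φ : G → ℂ) * truncSum p (ψ : G → ℂ) (φ : G → ℂ) := by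
    rw [Finset.sum_filter]
    apply Finset.sum_congr rfl
    intro φ _
    by_cases hφ : φ ∈ B
    · rw [if_pos hφ]
    · rw [if_neg hφ, h1 φ hφ, mul_zero]
  rw [h2]
  unfold truncSum
  have h3 : ∀ φ : Cfsg.IrrCharacter G,
      sylMult P (φ : G → ℂ) * ∑ x : G, truncConj p (ψ : G → ℂ) x * (φ : G → ℂ) x =
      ∑ x : G, truncConj p (ψ : G → ℂ) x * (sylMult P (φ : G → ℂ) * (φ : G → ℂ) x) := by
    intro φ
    rw [Finset.mul_sum]
    apply Finset.sum_congr rfl
    intro x _
    ring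
  rw [Finset.sum_congr rfl (fun φ _ => h3 φ), Finset.sum_comm]
  have h4 : ∀ x : G, ∑ φ : Cfsg.IrrCharacter G,
      truncConj p (ψ : G → ℂ) x * (sylMult P (φ : G → ℂ) * (φ : G → ℂ) x) =
      if x = 1 then (Nat.card G : ℂ) / (Nat.card P : ℂ) * (ψ : G → ℂ) 1 else 0 := by
    intro x
    rw [← Finset.mul_sum]
    by_cases hx : p ∣ orderOf x
    · have hx1 : x ≠ 1 := by
        rintro rfl
        rw [orderOf_one] at hx
        exact hp.out.not_dvd_one hx
      rw [if_neg hx1]
      unfold truncConj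
      rw [if_pos hx, zero_mul]
    · rw [sum_sylMult_mul p P hP x hx]
      by_cases hx1 : x = 1
      · rw [if_pos hx1, if_pos hx1, hx1]
        unfold truncConj
        rw [if_neg (by rw [orderOf_one]; exact hp.out.not_dvd_one),
          ← IsCharacter.inv_eq_conj (IsIrrCharacter.isCharacter ψ.2), inv_one, mul_comm]
      · rw [if_neg hx1, if_neg hx1, mul_zero]
  rw [Finset.sum_congr rfl (fun x _ => h4 x), Finset.sum_ite_eq' Finset.univ (1 : G),
    if_pos (Finset.mem_univ _)]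

end Cfsg.Agent.Helper6.DegSq
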