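import Mathlib
import Cfsg.Prelude.Def_Characters
import Cfsg.Prelude.Def_Blocks
import Cfsg.Agent.Helper6.DegSqB

/-!
# The exact power of `p` dividing `∑_{χ ∈ B} χ(1)^2` (Brauer): final form
-/

set_option autoImplicit false
set_option linter.style.haveILetI false

namespace Cfsg.Agent.Helper6.DegSq

open Module
open scoped ComplexConjugate

universe u

variable {G : Type u} [Group G] {M : Ideal Cfsg.AlgInt}

open Classical in
/-- **Brauer**: `∑_{χ ∈ B} χ(1)^2 = p^(a + μ) X` with `p ∤ X`, where `p^a` is the `p`-part of `|G|`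
and `p^μ` the least `p`-part of a degree in `B` -/
theorem exists_sum_sq_eq [Finite G] {p : ℕ} [hp : Fact p.Prime] (hM : Cfsg.IsPModular p M)
    (B : Set (Cfsg.IrrCharacter G)) (hB : Cfsg.IsPBlock M B) :
    ∃ X : ℕ, ∑ᶠ χ ∈ B, Cfsg.charDegree (χ : G → ℂ) ^ 2 =
      p ^ ((Nat.card G).factorization p +
        sInf ((fun χ : Cfsg.IrrCharacter G =>
          (Cfsg.charDegree (χ : G → ℂ)).factorization p) '' B)) * X ∧ ¬ p ∣ X := by
  haveI : Fintype G := Fintype.ofFinite G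
  haveI : Finite (Cfsg.IrrCharacter G) := irr_finite
  haveI : Fintype (Cfsg.IrrCharacter G) := Fintype.ofFinite _
  have hB' := hB
  set a := (Nat.card G).factorization p with ha
  set μ := sInf ((fun χ : Cfsg.IrrCharacter G =>
    (Cfsg.charDegree (χ : G → ℂ)).factorization p) '' B) with hμ
  obtain ⟨P⟩ : Nonempty (Sylow p G) := inferInstance
  haveI : Fintype (P : Subgroup G) := Fintype.ofFinite _
  have hPcard : Nat.card (P : Subgroup G) = p ^ a := P.card_eq_multiplicity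
  have hPp : IsPGroup p (P : Subgroup G) := P.isPGroup'
  have hp0 : (p : ℂ) ≠ 0 := by exact_mod_cast hp.out.ne_zero
  have hfin : ∑ᶠ χ ∈ B, Cfsg.charDegree (χ : G → ℂ) ^ 2 =
      ∑ χ ∈ Finset.univ.filter (fun φ : Cfsg.IrrCharacter G => φ ∈ B),
        Cfsg.charDegree (χ : G → ℂ) ^ 2 := by
    have hBFB : B = ((Finset.univ.filter (fun φ : Cfsg.IrrCharacter G => φ ∈ B) :
        Finset (Cfsg.IrrCharacter G)) : Set (Cfsg.IrrCharacter G)) := by
      ext φ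
      simp
    conv_lhs => rw [hBFB]
    rw [finsum_mem_coe_finset]
  set FB := Finset.univ.filter (fun φ : Cfsg.IrrCharacter G => φ ∈ B) with hFB
  have hmemFB : ∀ φ, φ ∈ FB ↔ φ ∈ B := fun φ => by rw [hFB]; simp
  choose s hs using fun φ : Cfsg.IrrCharacter G =>
    sylMult_nat (P : Subgroup G) (IsIrrCharacter.isCharacter φ.2)
  -- a member of height zero
  obtain ⟨χ₀, hχ₀⟩ := hB
  have hne : B.Nonempty := ⟨χ₀, hχ₀ ▸ mem_blockOf_self hM.2.1 χ₀⟩
  obtain ⟨ψ, hψB, hψ0⟩ := exists_height_zero p B hne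
  have hμle : ∀ φ ∈ B, μ ≤ (Cfsg.charDegree (φ : G → ℂ)).factorization p :=
    fun φ hφ => Nat.sInf_le ⟨φ, hφ, rfl⟩
  have hψμ : (Cfsg.charDegree (ψ : G → ℂ)).factorization p = μ := by
    have h1 := hμle ψ hψB
    unfold Cfsg.blockHeight at hψ0
    rw [← hμ] at hψ0
    omega
  have hdvd : ∀ φ ∈ B, p ^ μ ∣ Cfsg.charDegree (φ : G → ℂ) :=
    fun φ hφ => (pow_dvd_pow p (hμle φ hφ)).trans (Nat.ordProj_dvd _ p)
  set d' : Cfsg.IrrCharacter G → ℕ := fun φ => Cfsg.charDegree (φ : G → ℂ) / p ^ μ with hd'def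
  have hd' : ∀ φ ∈ B, Cfsg.charDegree (φ : G → ℂ) = p ^ μ * d' φ :=
    fun φ hφ => (Nat.mul_div_cancel' (hdvd φ hφ)).symm
  have hdeg : ∀ φ : Cfsg.IrrCharacter G, (φ : G → ℂ) 1 = (Cfsg.charDegree (φ : G → ℂ) : ℂ) :=
    fun φ => (charDegree_cast_of_isCharacter (IsIrrCharacter.isCharacter φ.2)).symm
  have hdeg' : ∀ φ ∈ B, (φ : G → ℂ) 1 = (p : ℂ) ^ μ * (d' φ : ℂ) := by
    intro φ hφ
    rw [hdeg φ, hd' φ hφ]
    push_cast
    rfl
  refine ⟨∑ φ ∈ FB, s φ * d' φ, ?_, ?_⟩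
  · rw [hfin]
    apply Nat.cast_injective (R := ℂ)
    have h1 := sum_sq_eq_pow_mul_sum hM B hB' (P : Subgroup G) hPp
    rw [← hFB] at h1
    push_cast
    have h2 : ∑ φ ∈ FB, ((Cfsg.charDegree (φ : G → ℂ) : ℂ)) ^ 2 =
        ∑ φ ∈ FB, (φ : G → ℂ) 1 * (φ : G → ℂ) 1 := by
      apply Finset.sum_congr rfl
      intro φ _
      rw [hdeg φ, sq]
    have h3 : ∑ φ ∈ FB, sylMult (P : Subgroup G) (φ : G → ℂ) * (φ : G → ℂ) 1 =
        (p : ℂ) ^ μ * ∑ φ ∈ FB, (s φ : ℂ) * (d' φ : ℂ) := by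
      rw [Finset.mul_sum]
      apply Finset.sum_congr rfl
      intro φ hφ
      rw [hs φ, hdeg' φ ((hmemFB φ).mp hφ)]
      ring
    rw [h2, h1, hPcard, h3]
    push_cast
    ring
  · intro hdiv
    have h2 := sum_sylMult_truncSum hM B hB' (P : Subgroup G) hPp ψ hψB
    rw [← hFB] at h2
    have hψc := IsIrrCharacter.isCharacter ψ.2
    set c := truncSum p (ψ : G → ℂ) (ψ : G → ℂ) / (ψ : G → ℂ) 1 with hc
    have hcloc : Cfsg.MemLocalRing M c := truncSum_div_memLocalRing hM.2.1 p hψc ψ.2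
    have hε : ∀ φ ∈ B, Cfsg.MemLocalIdeal M
        (truncSum p (ψ : G → ℂ) (φ : G → ℂ) / (φ : G → ℂ) 1 - c) :=
      fun φ hφ => truncSum_div_congr hM.2.1 p hψc φ.2 ψ.2
        (sameBlock_of_mem_block hM.2.1 B hB' hφ hψB)
    have hpa : p ^ a ∣ Nat.card G := Nat.ordProj_dvd _ p
    have hGdiv : (Nat.card G : ℂ) / (Nat.card (P : Subgroup G) : ℂ) =
        ((Nat.card G / p ^ a : ℕ) : ℂ) := by
      rw [hPcard, Nat.cast_div hpa (by exact_mod_cast pow_ne_zero a hp.out.ne_zero)]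
    have hpμ0 : ((p : ℂ) ^ μ) ≠ 0 := pow_ne_zero _ hp0
    have key : ((Nat.card G / p ^ a : ℕ) : ℂ) * (d' ψ : ℂ) =
        c * ((∑ φ ∈ FB, s φ * d' φ : ℕ) : ℂ) + ∑ φ ∈ FB, ((s φ : ℂ) * (d' φ : ℂ)) *
          (truncSum p (ψ : G → ℂ) (φ : G → ℂ) / (φ : G → ℂ) 1 - c) := by
      apply mul_left_cancel₀ hpμ0
      have h3 : (p : ℂ) ^ μ * (((Nat.card G / p ^ a : ℕ) : ℂ) * (d' ψ : ℂ)) =
          (Nat.card G : ℂ) / (Nat.card (P : Subgroup G) : ℂ) * (ψ : G → ℂ) 1 := by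
        rw [hGdiv, hdeg' ψ hψB]
        ring
      rw [h3, ← h2]
      push_cast
      rw [Finset.mul_sum, mul_add, Finset.mul_sum, Finset.mul_sum, ← Finset.sum_add_distrib]
      apply Finset.sum_congr rfl
      intro φ hφ
      have hφB := (hmemFB φ).mp hφ
      have hφ1 : (φ : G → ℂ) 1 ≠ 0 := IsIrrCharacter.apply_one_ne_zero φ.2
      rw [hs φ]
      set t := truncSum p (ψ : G → ℂ) (φ : G → ℂ) / (φ : G → ℂ) 1 with ht
      have h4 : truncSum p (ψ : G → ℂ) (φ : G → ℂ) = (φ : G → ℂ) 1 * t := by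
        rw [ht]
        field_simp
      rw [h4, hdeg' φ hφB]
      ring
    have hXmem : Cfsg.MemLocalIdeal M (((∑ φ ∈ FB, s φ * d' φ : ℕ) : ℂ)) := by
      obtain ⟨k, hk⟩ := hdiv
      rw [hk]
      push_cast
      rw [mul_comm]
      exact MemLocalIdeal.mul_left hM.2.1 (memLocalRing_natCast hM.2.1 k) (memLocalIdeal_prime hM)
    have hmem : Cfsg.MemLocalIdeal M (((Nat.card G / p ^ a * d' ψ : ℕ) : ℂ)) := by
      push_cast
      rw [key]
      apply MemLocalIdeal.add hM.2.1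
      · exact MemLocalIdeal.mul_left hM.2.1 hcloc hXmem
      · apply MemLocalIdeal.sum hM.2.1
        intro φ hφ
        apply MemLocalIdeal.mul_left hM.2.1 _ (hε φ ((hmemFB φ).mp hφ))
        exact MemLocalRing.mul hM.2.1 (memLocalRing_natCast hM.2.1 _)
          (memLocalRing_natCast hM.2.1 _)
    have hpd := dvd_of_memLocalIdeal_natCast hM _ hmem
    rcases (Nat.Prime.dvd_mul hp.out).mp hpd with h5 | h5
    · exact Nat.not_dvd_ordCompl hp.out Nat.card_pos.ne' h5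
    · have h6 : d' ψ = Cfsg.charDegree (ψ : G → ℂ) /
          p ^ (Cfsg.charDegree (ψ : G → ℂ)).factorization p := by
        rw [hψμ]
      rw [h6] at h5
      exact Nat.not_dvd_ordCompl hp.out (charDegree_ne_zero_of_irr ψ.2) h5

/-- **Brauer**: the exact power of `p` dividing `∑_{χ ∈ B} χ(1)^2` is `p^(2a - d)` -/
theorem factorization_sum_sq [Finite G] {p : ℕ} [hp : Fact p.Prime] (hM : Cfsg.IsPModular p M)
    (B : Set (Cfsg.IrrCharacter G)) (hB : Cfsg.IsPBlock M B) :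
    (∑ᶠ χ ∈ B, Cfsg.charDegree (χ : G → ℂ) ^ 2).factorization p =
      2 * (Nat.card G).factorization p - Cfsg.blockDefect p B := by
  obtain ⟨X, hX, hpX⟩ := exists_sum_sq_eq hM B hB
  have hX0 : X ≠ 0 := by
    rintro rfl
    exact hpX (dvd_zero p)
  rw [hX, Nat.factorization_mul (pow_ne_zero _ hp.out.ne_zero) hX0,
    Nat.Prime.factorization_pow hp.out]
  simp only [Finsupp.coe_add, Pi.add_apply, Finsupp.single_eq_same]
  rw [Nat.factorization_eq_zero_of_not_dvd hpX, add_zero]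
  -- `μ ≤ a`
  obtain ⟨χ₀, hχ₀⟩ := hB
  have hmem : χ₀ ∈ B := hχ₀ ▸ mem_blockOf_self hM.2.1 χ₀
  have h1 : sInf ((fun χ : Cfsg.IrrCharacter G =>
      (Cfsg.charDegree (χ : G → ℂ)).factorization p) '' B) ≤
      (Cfsg.charDegree (χ₀ : G → ℂ)).factorization p := Nat.sInf_le ⟨χ₀, hmem, rfl⟩
  have h2 : (Cfsg.charDegree (χ₀ : G → ℂ)).factorization p ≤ (Nat.card G).factorization p :=
    (Nat.factorization_le_iff_dvd (charDegree_ne_zero_of_irr χ₀.2) Nat.card_pos.ne').mpr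
      (charDegree_dvd_card χ₀.2) p
  unfold Cfsg.blockDefect
  omega

end Cfsg.Agent.Helper6.DegSq
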