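import Cfsg.Agent.Helper6.MCDepth

/-!
# Blackburn project, PIECE D': depth counting inside `K₂ = lev 1`

`depth_key`: the inductive inequality `|H ∩ lev i| ≤ p^(p-1) |℧₁(H) ∩ lev (i+p-1)|`, and
`relIndex_agemo_le_of_le_lev_one_aux`: `|H : ℧₁(H)| ≤ p^(p-1)` for `H ≤ lev 1`.
-/

set_option autoImplicit false

namespace Cfsg.Agent.Helper6.MC

open Cfsg.Agent.Helper8.HP (agemo pow_mem_agemo agemo_le)
open Cfsg.Agent.Helper4.MC

variable {G : Type*} [Group G] [Finite G] {p n : ℕ} [Fact p.Prime]

theorem depth_key (hcardG : Nat.card G = p ^ n) (hn : p + 2 ≤ n)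
    (hcard : ∀ i, i ≤ n → Nat.card (lev G i) = p ^ (n - i)) (hanti : Antitone (lev G))
    (hP : PowerStr p n G) (H : Subgroup G) :
    ∀ d i, 1 ≤ i → i + d = n - p + 1 →
      Nat.card (H ⊓ lev G i : Subgroup G) ≤
        p ^ (p - 1) * Nat.card (agemo p H ⊓ lev G (i + p - 1) : Subgroup G) := by
  have hp : p.Prime := Fact.out
  have hp2 : 2 ≤ p := hp.two_le
  set U : Subgroup G := agemo p H with hU
  have hUH : U ≤ H := agemo_le p H
  -- index of consecutive levels
  have hidx : ∀ i, i < n → (lev G (i + 1)).relIndex (lev G i) = p := by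
    intro i hi
    have h := card_mul_relIndex_of_le' (hanti (Nat.le_succ i))
    rw [hcard i hi.le, hcard (i + 1) hi] at h
    have e : n - i = (n - (i + 1)) + 1 := by omega
    rw [e, pow_succ] at h
    exact Nat.eq_of_mul_eq_mul_left (pow_pos hp.pos _) h
  intro d
  induction d with
  | zero =>
    intro i hi hid
    have h1 : Nat.card (H ⊓ lev G i : Subgroup G) ≤ Nat.card (lev G i) :=
      Subgroup.card_le_of_le inf_le_right
    have h2 : Nat.card (lev G i) = p ^ (p - 1) := by
      rw [hcard i (by omega)]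
      congr 1
      omega
    have h3 : 1 ≤ Nat.card (U ⊓ lev G (i + p - 1) : Subgroup G) := Nat.card_pos
    calc Nat.card (H ⊓ lev G i : Subgroup G) ≤ p ^ (p - 1) * 1 := by rw [mul_one, ← h2]; exact h1
      _ ≤ _ := Nat.mul_le_mul_left _ h3
  | succ d ih =>
    intro i hi hid
    have hip : i + p ≤ n := by omega
    have ih' := ih (i + 1) (by omega) (by omega)
    have e1 : i + 1 + p - 1 = i + p := by omega
    rw [e1] at ih'
    have hmono : Nat.card (U ⊓ lev G (i + p) : Subgroup G) ≤
        Nat.card (U ⊓ lev G (i + p - 1) : Subgroup G) :=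
      Subgroup.card_le_of_le (inf_le_inf_left U (hanti (by omega)))
    by_cases hcase : H ⊓ lev G i ≤ lev G (i + 1)
    · have heq : H ⊓ lev G i = H ⊓ lev G (i + 1) :=
        le_antisymm (le_inf inf_le_left hcase) (inf_le_inf_left H (hanti (Nat.le_succ i)))
      rw [heq]
      exact ih'.trans (Nat.mul_le_mul_left _ hmono)
    · obtain ⟨x, hx, hx'⟩ := SetLike.not_le_iff_exists.1 hcase
      obtain ⟨hxp, hxp'⟩ := hP i hi hip x hx.2 hx'
      have hxU : x ^ p ∈ U := pow_mem_agemo p hx.1
      -- strict inclusion gives a factor p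
      have hle : U ⊓ lev G (i + p) ≤ U ⊓ lev G (i + p - 1) :=
        inf_le_inf_left U (hanti (by omega))
      have hm := card_mul_relIndex_of_le' hle
      set m := (U ⊓ lev G (i + p)).relIndex (U ⊓ lev G (i + p - 1)) with hmdef
      have hm1 : m ≠ 1 := by
        intro h1
        have := Subgroup.relIndex_eq_one.1 h1
        exact hxp' (this ⟨hxU, hxp⟩).2
      have hmdvd : m ∣ p ^ n := by
        rw [← hcardG]
        exact (Subgroup.relIndex_dvd_card _ _).trans (Subgroup.card_subgroup_dvd_card _)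
      obtain ⟨j, -, hj⟩ := (Nat.dvd_prime_pow hp).1 hmdvd
      have hpm : p ≤ m := by
        rcases j with _ | j
        · exact absurd (by simpa using hj) hm1
        · rw [hj, pow_succ]
          exact Nat.le_mul_of_pos_left _ (pow_pos hp.pos _)
      have hfac : p * Nat.card (U ⊓ lev G (i + p) : Subgroup G) ≤
          Nat.card (U ⊓ lev G (i + p - 1) : Subgroup G) := by
        rw [← hm, mul_comm]
        exact Nat.mul_le_mul_left _ hpm
      have hstep := card_inf_le_mul H (hanti (Nat.le_succ i))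
      rw [hidx i (by omega)] at hstep
      calc Nat.card (H ⊓ lev G i : Subgroup G)
          ≤ p * Nat.card (H ⊓ lev G (i + 1) : Subgroup G) := hstep
        _ ≤ p * (p ^ (p - 1) * Nat.card (U ⊓ lev G (i + p) : Subgroup G)) :=
            Nat.mul_le_mul_left _ ih'
        _ = p ^ (p - 1) * (p * Nat.card (U ⊓ lev G (i + p) : Subgroup G)) := by ring
        _ ≤ _ := Nat.mul_le_mul_left _ hfac

theorem relIndex_agemo_le_of_le_lev_one_aux (hcardG : Nat.card G = p ^ n) (hn : p + 2 ≤ n)
    (hcard : ∀ i, i ≤ n → Nat.card (lev G i) = p ^ (n - i)) (hanti : Antitone (lev G))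
    (hP : PowerStr p n G) (H : Subgroup G) (hH : H ≤ lev G 1) :
    (agemo p H).relIndex H ≤ p ^ (p - 1) := by
  have hp : p.Prime := Fact.out
  have hp2 : 2 ≤ p := hp.two_le
  have hUH : agemo p H ≤ H := agemo_le p H
  have h1 := depth_key hcardG hn hcard hanti hP H (n - p) 1 le_rfl (by omega)
  have e1 : 1 + p - 1 = p := by omega
  rw [e1, inf_eq_left.2 hH] at h1
  have hUp : Nat.card (agemo p H ⊓ lev G p : Subgroup G) ≤ Nat.card (agemo p H) :=
    Subgroup.card_le_of_le inf_le_left
  have hH' : Nat.card H ≤ p ^ (p - 1) * Nat.card (agemo p H) :=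
    h1.trans (Nat.mul_le_mul_left _ hUp)
  have hrel := card_mul_relIndex_of_le' hUH
  rw [← hrel, mul_comm] at hH'
  exact Nat.le_of_mul_le_mul_right hH' Nat.card_pos

end Cfsg.Agent.Helper6.MC
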