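import Cfsg.Agent.Helper4.MCDefs

/-!
# Blackburn project, PIECE D: depth counting

`relIndex_agemo_le_aux`: in a `p`-group of maximal class with Blackburn's power structure,
`|H : ℧₁(H)| ≤ p ^ p` for every subgroup `H`.  The two facts about the chain `lev G`
(orders and monotonicity, helper4's PIECE B1) are taken as hypotheses here; the exact stub
is obtained in `MCDepthFinal.lean` once B1 is landed.
-/

set_option autoImplicit false

namespace Cfsg.Agent.Helper6.MC

open Cfsg.Agent.Helper8.HP (agemo pow_mem_agemo agemo_le)
open Cfsg.Agent.Helper4.MC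

section generic
variable {G : Type*} [Group G]

theorem card_mul_relIndex_of_le' {A B : Subgroup G} (h : A ≤ B) :
    Nat.card A * A.relIndex B = Nat.card B := by
  have := Subgroup.relIndex_mul_relIndex (⊥ : Subgroup G) A B bot_le h
  simpa [Subgroup.relIndex_bot_left] using this

theorem card_inf_le_mul [Finite G] (H : Subgroup G) {A B : Subgroup G} (hAB : A ≤ B) :
    Nat.card (H ⊓ B : Subgroup G) ≤ A.relIndex B * Nat.card (H ⊓ A : Subgroup G) := by
  have hle : H ⊓ A ≤ H ⊓ B := inf_le_inf_left H hAB
  have h1 := card_mul_relIndex_of_le' hle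
  have h2 : (H ⊓ A).relIndex (H ⊓ B) = A.relIndex (H ⊓ B) := by
    have : H ⊓ A = A ⊓ (H ⊓ B) := by
      apply le_antisymm
      · exact le_inf inf_le_right hle
      · exact le_inf (inf_le_right.trans inf_le_left) inf_le_left
    rw [this, Subgroup.inf_relIndex_right]
  have h3 : A.relIndex (H ⊓ B) ≤ A.relIndex B :=
    Subgroup.relIndex_le_of_le_right inf_le_right
      (by
        intro h0
        have := card_mul_relIndex_of_le' hAB
        rw [h0, mul_zero] at this
        exact (Nat.card_pos (α := B)).ne this)
  rw [← h1, h2, mul_comm]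
  exact Nat.mul_le_mul_right _ h3

end generic

variable {G : Type*} [Group G] [Finite G] {p n : ℕ} [Fact p.Prime]

theorem relIndex_agemo_le_aux (hcardG : Nat.card G = p ^ n) (hn : p + 2 ≤ n)
    (hcard : ∀ i, i ≤ n → Nat.card (lev G i) = p ^ (n - i)) (hanti : Antitone (lev G))
    (hP : PowerStr p n G) (H : Subgroup G) :
    (agemo p H).relIndex H ≤ p ^ p := by
  have hp : p.Prime := Fact.out
  have hp2 : 2 ≤ p := hp.two_le
  set U : Subgroup G := agemo p H with hU
  have hUH : U ≤ H := agemo_le p H
  -- index of consecutive levels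
  have hidx : ∀ i, i < n → (lev G (i + 1)).relIndex (lev G i) = p := by
    intro i hi
    have h := card_mul_relIndex_of_le' (hanti (Nat.le_succ i))
    rw [hcard i hi.le, hcard (i + 1) hi] at h
    have e : n - i = (n - (i + 1)) + 1 := by omega
    rw [e, pow_succ] at h
    exact Nat.eq_of_mul_eq_mul_left (pow_pos hp.pos _) h
  -- the key inequality, by downward induction
  have key : ∀ d i, 1 ≤ i → i + d = n - p + 1 →
      Nat.card (H ⊓ lev G i : Subgroup G) ≤
        p ^ (p - 1) * Nat.card (U ⊓ lev G (i + p - 1) : Subgroup G) := by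
    intro d
    induction d with
    | zero =>
      intro i hi hid
      have h1 : Nat.card (H ⊓ lev G i : Subgroup G) ≤ Nat.card (lev G i) :=
        Subgroup.card_le_of_le inf_le_right
      have h2 : Nat.card (lev G i) = p ^ (p - 1) := by
        rw [hcard i (by omega)]
        congr 1
        omega
      have h3 : 1 ≤ Nat.card (U ⊓ lev G (i + p - 1) : Subgroup G) := Nat.card_pos
      calc Nat.card (H ⊓ lev G i : Subgroup G) ≤ p ^ (p - 1) * 1 := by rw [mul_one, ← h2]; exact h1
        _ ≤ _ := Nat.mul_le_mul_left _ h3
    | succ d ih =>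
      intro i hi hid
      have hip : i + p ≤ n := by omega
      have ih' := ih (i + 1) (by omega) (by omega)
      have e1 : i + 1 + p - 1 = i + p := by omega
      rw [e1] at ih'
      have hmono : Nat.card (U ⊓ lev G (i + p) : Subgroup G) ≤
          Nat.card (U ⊓ lev G (i + p - 1) : Subgroup G) :=
        Subgroup.card_le_of_le (inf_le_inf_left U (hanti (by omega)))
      by_cases hcase : H ⊓ lev G i ≤ lev G (i + 1)
      · have heq : H ⊓ lev G i = H ⊓ lev G (i + 1) :=
          le_antisymm (le_inf inf_le_left hcase) (inf_le_inf_left H (hanti (Nat.le_succ i)))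
        rw [heq]
        exact ih'.trans (Nat.mul_le_mul_left _ hmono)
      · obtain ⟨x, hx, hx'⟩ := SetLike.not_le_iff_exists.1 hcase
        obtain ⟨hxp, hxp'⟩ := hP i hi hip x hx.2 hx'
        have hxU : x ^ p ∈ U := pow_mem_agemo p hx.1
        -- strict inclusion gives a factor p
        have hle : U ⊓ lev G (i + p) ≤ U ⊓ lev G (i + p - 1) :=
          inf_le_inf_left U (hanti (by omega))
        have hm := card_mul_relIndex_of_le' hle
        set m := (U ⊓ lev G (i + p)).relIndex (U ⊓ lev G (i + p - 1)) with hmdef
        have hm1 : m ≠ 1 := by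
          intro h1
          have := Subgroup.relIndex_eq_one.1 h1
          exact hxp' (this ⟨hxU, hxp⟩).2
        have hmdvd : m ∣ p ^ n := by
          rw [← hcardG]
          exact (Subgroup.relIndex_dvd_card _ _).trans (Subgroup.card_subgroup_dvd_card _)
        obtain ⟨j, -, hj⟩ := (Nat.dvd_prime_pow hp).1 hmdvd
        have hpm : p ≤ m := by
          rcases j with _ | j
          · exact absurd (by simpa using hj) hm1
          · rw [hj, pow_succ]
            exact Nat.le_mul_of_pos_left _ (pow_pos hp.pos _)
        have hfac : p * Nat.card (U ⊓ lev G (i + p) : Subgroup G) ≤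
            Nat.card (U ⊓ lev G (i + p - 1) : Subgroup G) := by
          rw [← hm, mul_comm]
          exact Nat.mul_le_mul_left _ hpm
        have hstep := card_inf_le_mul H (hanti (Nat.le_succ i))
        rw [hidx i (by omega)] at hstep
        calc Nat.card (H ⊓ lev G i : Subgroup G)
            ≤ p * Nat.card (H ⊓ lev G (i + 1) : Subgroup G) := hstep
          _ ≤ p * (p ^ (p - 1) * Nat.card (U ⊓ lev G (i + p) : Subgroup G)) :=
              Nat.mul_le_mul_left _ ih'
          _ = p ^ (p - 1) * (p * Nat.card (U ⊓ lev G (i + p) : Subgroup G)) := by ring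
          _ ≤ _ := Nat.mul_le_mul_left _ hfac
  -- conclusion
  have h1 := key (n - p) 1 le_rfl (by omega)
  have e1 : 1 + p - 1 = p := by omega
  rw [e1] at h1
  have h0 := card_inf_le_mul H (hanti (Nat.le_succ 0))
  rw [hidx 0 (by omega), lev_zero, inf_top_eq] at h0
  have hUp : Nat.card (U ⊓ lev G p : Subgroup G) ≤ Nat.card U :=
    Subgroup.card_le_of_le inf_le_left
  have hH : Nat.card H ≤ p ^ p * Nat.card U := by
    calc Nat.card H ≤ p * Nat.card (H ⊓ lev G (0 + 1) : Subgroup G) := h0
      _ ≤ p * (p ^ (p - 1) * Nat.card (U ⊓ lev G p : Subgroup G)) := by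
          simpa using Nat.mul_le_mul_left p h1
      _ ≤ p * (p ^ (p - 1) * Nat.card U) :=
          Nat.mul_le_mul_left _ (Nat.mul_le_mul_left _ hUp)
      _ = p ^ p * Nat.card U := by
          have : p ^ p = p * p ^ (p - 1) := by
            conv_lhs => rw [show p = (p - 1) + 1 by omega]
            rw [pow_succ, mul_comm]
            congr 2 <;> omega
          rw [this]; ring
  have hrel := card_mul_relIndex_of_le' hUH
  rw [← hrel, mul_comm] at hH
  exact Nat.le_of_mul_le_mul_right hH Nat.card_pos

end Cfsg.Agent.Helper6.MC
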