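import Cfsg.Agent.Helper4.MCBase
import Cfsg.Agent.Helper1.MCB2
import Cfsg.Agent.Helper1.PGroup
import Cfsg.Agent.Helper6.MCDepth

/-!
# Blackburn project, PIECE B3

* `isUniform_of_not_mem_twoStep`: an element outside every two-step centralizer is uniform;
* `exists_eq_gam_of_uniform_normalizes`: a subgroup of `γ₂` normalized by a uniform element is a
  term of the lower central series;
* `IsUniform.exists_comm_eq`: `⁅s, γ_j⁆ = γ_{j+1}` elementwise for a uniform `s`.
-/

set_option autoImplicit false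

namespace Cfsg.Agent.Helper6.MC

open scoped commutatorElement
open Cfsg.Agent.Helper4.MC

variable {G : Type*} [Group G] [Finite G] {p n : ℕ} [Fact p.Prime]

/-- `⁅s, γ_j⁆ = γ_{j+1}` elementwise for a uniform `s`. -/
theorem IsUniform.exists_comm_eq (hG : IsMC p n G) (_hn : 4 ≤ n) {s : G} (hs : IsUniform p s)
    {j : ℕ} (hj : 2 ≤ j) {y : G} (hy : y ∈ gam G (j + 1)) : ∃ x ∈ gam G j, ⁅s, x⁆ = y := by
  rcases Nat.lt_or_ge n (j + 1) with h | h
  · have hbot : gam G (j + 1) = ⊥ := hG.gam_eq_bot h.le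
    rw [hbot, Subgroup.mem_bot] at hy
    exact ⟨1, Subgroup.one_mem _, by rw [hy]; simp⟩
  · exact Cfsg.Agent.Helper1.MC.IsUniform.exists_comm hG hs hj h y hy

/-- A subgroup of `γ₂` normalized by a uniform element is a term of the lower central series. -/
theorem exists_eq_gam_of_uniform_normalizes (hG : IsMC p n G) (hn : 4 ≤ n) {s : G}
    (hs : IsUniform p s) (M : Subgroup G) (hM : M ≤ gam G 2)
    (hsM : ∀ x ∈ M, ⁅s, x⁆ ∈ M) : ∃ j, 2 ≤ j ∧ j ≤ n ∧ M = gam G j := by
  -- an element of `M` of exact level `i` forces `γ_i ≤ M`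
  have key : ∀ d i, i + d = n → 2 ≤ i → ∀ x ∈ M, x ∈ gam G i → x ∉ gam G (i + 1) →
      gam G i ≤ M := by
    intro d
    induction d with
    | zero =>
      intro i hid _ x _ _ _
      rw [hG.gam_eq_bot (by omega)]
      exact bot_le
    | succ d ih =>
      intro i hid hi x hxM hx hx'
      rw [hG.gam_eq_zpowers_sup hi (by omega) hx hx']
      apply sup_le ((Subgroup.zpowers_le).2 hxM)
      rcases Nat.lt_or_ge n (i + 2) with h | h
      · rw [hG.gam_eq_bot (by omega)]
        exact bot_le
      · have hcl := Cfsg.Agent.Helper1.MC.IsUniform.comm_lev hG hn hs (i := i) (by omega) h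
          (x := x) (by rw [lev_of_two_le G hi]; exact hx)
          (by rw [lev_of_two_le G (show 2 ≤ i + 1 by omega)]; exact hx')
        rw [lev_of_two_le G (show 2 ≤ i + 1 by omega),
          lev_of_two_le G (show 2 ≤ i + 2 by omega)] at hcl
        exact ih (i + 1) (by omega) (by omega) _ (hsM x hxM) hcl.1 hcl.2
  have main : ∀ d i, i + d = n → 2 ≤ i → M ≤ gam G i → ∃ j, 2 ≤ j ∧ j ≤ n ∧ M = gam G j := by
    intro d
    induction d with
    | zero =>
      intro i hid hi hMi
      refine ⟨i, hi, by omega, le_antisymm hMi ?_⟩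
      rw [hG.gam_eq_bot (by omega)]
      exact bot_le
    | succ d ih =>
      intro i hid hi hMi
      by_cases hle : M ≤ gam G (i + 1)
      · exact ih (i + 1) (by omega) (by omega) hle
      · obtain ⟨x, hxM, hx'⟩ := SetLike.not_le_iff_exists.1 hle
        exact ⟨i, hi, by omega,
          le_antisymm hMi (key (d + 1) i hid hi x hxM (hMi hxM) hx')⟩
  exact main (n - 2) 2 (by omega) le_rfl hM

/-- `s` outside every two-step centralizer `K_j`, `2 ≤ j ≤ n - 2`, is uniform. -/
theorem isUniform_of_not_mem_twoStep (hG : IsMC p n G) (hn : 4 ≤ n) {s : G}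
    (hs : ∀ j, 2 ≤ j → j + 2 ≤ n → s ∉ twoStep G j) : IsUniform p s := by
  have hp : p.Prime := Fact.out
  have hpG : IsPGroup p G := hG.isPGroup
  set C : Subgroup G := Subgroup.centralizer ({s} : Set G) with hC
  have hsC : s ∈ C := Subgroup.mem_centralizer_singleton_iff.2 rfl
  have hs2 : s ∉ gam G 2 := fun h => hs 2 le_rfl (by omega) (gam_two_le_twoStep le_rfl h)
  have hZ2 : Subgroup.center G ≤ gam G 2 := by
    rw [hG.center_eq]; exact gam_anti (by omega)
  -- `C ⊓ γ₂ ≤ Z(G)`
  have hCZ : C ⊓ gam G 2 ≤ Subgroup.center G := by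
    intro c hc
    rw [hG.center_eq]
    by_contra hcn
    have hc2 : c ∈ lev G 2 := by rw [lev_of_two_le G le_rfl]; exact hc.2
    have hcn' : c ∉ lev G (n - 1) := by rw [lev_of_two_le G (by omega)]; exact hcn
    obtain ⟨j, hj2, hjn, hcj, hcj'⟩ := hG.exists_lev hn hc2 hcn'
    rw [lev_of_two_le G hj2] at hcj
    rw [lev_of_two_le G (show 2 ≤ j + 1 by omega)] at hcj'
    apply hs j hj2 (by omega)
    rw [hG.mem_twoStep_iff hj2 (by omega) hcj hcj']
    have hcomm : ⁅s, c⁆ = 1 := by
      rw [commutatorElement_eq_one_iff_commute]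
      exact (Subgroup.mem_centralizer_singleton_iff.1 hc.1).symm
    rw [hcomm]
    exact Subgroup.one_mem _
  have hcardCZ : Nat.card (C ⊓ gam G 2 : Subgroup G) ≤ p := by
    have := Subgroup.card_le_of_le hCZ
    rwa [hG.card_center] at this
  -- `C ⊔ γ₂ ≠ ⊤`
  have hsup : C ⊔ gam G 2 ≠ ⊤ := by
    intro htop
    have hfr : gam G 2 ≤ frattini G := by
      have : gam G 2 = commutator G := Subgroup.top_lowerCentralSeries_one
      rw [this]
      exact Cfsg.Agent.Helper1.IsPGroup.commutator_le_frattini hpG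
    have h1 : C ⊔ frattini G = ⊤ := by
      rw [eq_top_iff, ← htop]
      exact sup_le_sup_left hfr C
    have hCtop : C = ⊤ := frattini_nongenerating h1
    apply hs2
    apply hZ2
    rw [Subgroup.mem_center_iff]
    intro g
    have : g ∈ C := by rw [hCtop]; trivial
    exact Subgroup.mem_centralizer_singleton_iff.1 this
  -- `|C : C ⊓ γ₂| ≤ p`
  have hrel : (gam G 2).relIndex C ≤ p := by
    have h1 : (gam G 2).relIndex (C ⊔ gam G 2) = (gam G 2).relIndex C :=
      Subgroup.relIndex_sup_right C (gam G 2)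
    have h2 := Subgroup.relIndex_mul_index (show gam G 2 ≤ C ⊔ gam G 2 from le_sup_right)
    rw [h1, hG.index_gam le_rfl (by omega)] at h2
    have h3 : 1 < (C ⊔ gam G 2).index := Subgroup.one_lt_index_of_ne_top hsup
    have h4 : (C ⊔ gam G 2).index ∣ p ^ 2 := ⟨_, by rw [← h2, mul_comm]⟩
    obtain ⟨k, -, hk⟩ := (Nat.dvd_prime_pow hp).1 h4
    have hk1 : 1 ≤ k := by
      rcases k with _ | k
      · rw [hk] at h3; simp at h3
      · omega
    have hpk : p ≤ (C ⊔ gam G 2).index := by
      rw [hk]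
      calc p = p ^ 1 := (pow_one p).symm
        _ ≤ p ^ k := Nat.pow_le_pow_right hp.pos hk1
    by_contra hcon
    have hcon' : p < (gam G 2).relIndex C := not_le.1 hcon
    have : p * p < (gam G 2).relIndex C * (C ⊔ gam G 2).index :=
      Nat.mul_lt_mul_of_lt_of_le hcon' hpk (lt_of_lt_of_le hp.pos hpk)
    rw [h2, pow_two] at this
    exact lt_irrefl _ this
  -- `|C| ≤ p²`
  have hcard : Nat.card C = Nat.card (C ⊓ gam G 2 : Subgroup G) * (gam G 2).relIndex C := by
    have h := card_mul_relIndex_of_le' (show C ⊓ gam G 2 ≤ C from inf_le_left)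
    rw [Subgroup.inf_relIndex_left] at h
    exact h.symm
  have hle : Nat.card C ≤ p ^ 2 := by
    rw [hcard, pow_two]
    exact Nat.mul_le_mul hcardCZ hrel
  -- `|C| > p`
  have hZC : Subgroup.center G ≤ C := Subgroup.center_le_centralizer _
  have hlt : Subgroup.center G < C := by
    refine lt_of_le_of_ne hZC ?_
    intro h
    apply hs2
    apply hZ2
    rw [h]; exact hsC
  have hgt : p < Nat.card C := by
    have h1 : Nat.card (Subgroup.center G) < Nat.card C := by
      rcases lt_or_eq_of_le (Subgroup.card_le_of_le hZC) with h | h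
      · exact h
      · exact absurd (Subgroup.eq_of_le_of_card_ge hZC h.ge) hlt.ne
    rwa [hG.card_center] at h1
  obtain ⟨k, hk⟩ := IsPGroup.iff_card.1 (hpG.to_subgroup C)
  rw [hk] at hle hgt
  have hk2 : k ≤ 2 := (Nat.pow_le_pow_iff_right hp.one_lt).1 hle
  have hk1 : 1 < k := by
    have : p ^ 1 < p ^ k := by rwa [pow_one]
    exact (Nat.pow_lt_pow_iff_right hp.one_lt).1 this
  have hk' : k = 2 := by omega
  show Nat.card C = p ^ 2
  rw [hk, hk']

end Cfsg.Agent.Helper6.MC
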