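import Cfsg.Agent.Helper6.MCDepth2
import Cfsg.Agent.Helper4.MCBase

/-!
# Blackburn project, PIECES D and D' (exact stubs)
-/

set_option autoImplicit false

namespace Cfsg.Agent.Helper6.MC

open Cfsg.Agent.Helper8.HP (agemo)
open Cfsg.Agent.Helper4.MC

/-- PIECE D (depth counting): `|H : ℧₁(H)| ≤ p^p`. -/
theorem relIndex_agemo_le {G : Type*} [Group G] [Finite G] {p n : ℕ} [Fact p.Prime]
    (hG : IsMC p n G) (hn : p + 2 ≤ n) (hP : PowerStr p n G) (H : Subgroup G) :
    (agemo p H).relIndex H ≤ p ^ p := by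
  have hp2 : 2 ≤ p := (Fact.out : p.Prime).two_le
  exact relIndex_agemo_le_aux hG.card hn (fun i hi => hG.card_lev (by omega) hi)
    (hG.lev_anti (by omega)) hP H

/-- PIECE D' (depth counting inside `K₂ = lev 1`). -/
theorem relIndex_agemo_le_of_le_lev_one {G : Type*} [Group G] [Finite G] {p n : ℕ}
    [Fact p.Prime] (hG : IsMC p n G) (hn : p + 2 ≤ n) (hP : PowerStr p n G) (H : Subgroup G)
    (hH : H ≤ lev G 1) : (agemo p H).relIndex H ≤ p ^ (p - 1) := by
  have hp2 : 2 ≤ p := (Fact.out : p.Prime).two_le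
  exact relIndex_agemo_le_of_le_lev_one_aux hG.card hn (fun i hi => hG.card_lev (by omega) hi)
    (hG.lev_anti (by omega)) hP H hH

end Cfsg.Agent.Helper6.MC
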