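import Mathlib
import Cfsg.Prelude.Def_Characters
import Cfsg.Prelude.Def_Blocks
import Cfsg.Agent.Helper6.BurnsideSimple
import Cfsg.Agent.Helper6.PrincipalDefect
import Cfsg.Agent.Helper6.DefectZeroBlock

/-!
# Characters of prime power degree in the principal block of a simple group
-/

set_option autoImplicit false
set_option linter.style.haveILetI false

namespace Cfsg.Agent.Helper6

open Module Representation
open scoped ComplexConjugate

universe u

variable {G : Type u} [Group G] {M : Ideal Cfsg.AlgInt}

/-- In a non-abelian simple group, a non-principal irreducible character vanishes at a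
non-identity element whose class size is prime to its degree. -/
theorem irr_apply_eq_zero_of_simple_of_coprime [Finite G] [IsSimpleGroup G]
    (hna : ∃ a b : G, a * b ≠ b * a) (χ : Cfsg.IrrCharacter G)
    (hχ1 : (χ : G → ℂ) ≠ fun _ => 1) (g : G) (hg : g ≠ 1)
    (hcop : Nat.Coprime (Cfsg.charDegree (χ : G → ℂ))
      (Subgroup.centralizer ({g} : Set G)).index) : (χ : G → ℂ) g = 0 := by
  classical
  have hcenter : Subgroup.center G = ⊥ := by
    rcases (Subgroup.center G).normal_of_characteristic.eq_bot_or_eq_top with h | h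
    · exact h
    · exfalso
      obtain ⟨a, b, hab⟩ := hna
      apply hab
      have : a ∈ Subgroup.center G := by rw [h]; trivial
      exact (Subgroup.mem_center_iff.mp this b).symm
  obtain ⟨n, ρ, hirr, hρ⟩ := χ.2
  haveI := hirr
  have hdeg : Cfsg.charDegree (χ : G → ℂ) = n := by
    rw [← hρ]
    exact charDegree_rep ρ
  have hcop' : Nat.Coprime (finrank ℂ (Fin n → ℂ))
      (Subgroup.centralizer ({g} : Set G)).index := by
    have : finrank ℂ (Fin n → ℂ) = n := by simp
    rw [this, ← hdeg]
    exact hcop
  rcases char_eq_zero_or_norm_eq_of_coprime ρ g hcop' with h0 | hnorm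
  · rw [← hρ, h0]
  · exfalso
    obtain ⟨ω, hω⟩ := (norm_char_eq_iff ρ g).mp hnorm
    let N : Subgroup G := (Representation.asGroupHom ρ).ker
    have hNmem : ∀ x : G, x ∈ N ↔ ρ x = 1 := by
      intro x
      rw [MonoidHom.mem_ker]
      constructor
      · intro h
        have := congrArg Units.val h
        rwa [Representation.asGroupHom_apply] at this
      · intro h
        apply Units.ext
        rw [Representation.asGroupHom_apply]
        exact h
    rcases (inferInstance : N.Normal).eq_bot_or_eq_top with hN | hN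
    · have hgc : g ∈ Subgroup.center G := by
        rw [Subgroup.mem_center_iff]
        intro x
        have h1 : ρ (x * g * x⁻¹ * g⁻¹) = 1 := by
          have hcomm2 : ρ x * ρ g = ρ g * ρ x := by
            rw [hω]
            ext v
            simp
          calc ρ (x * g * x⁻¹ * g⁻¹) = ρ x * ρ g * ρ x⁻¹ * ρ g⁻¹ := by
                rw [map_mul, map_mul, map_mul]
            _ = ρ g * ρ x * ρ x⁻¹ * ρ g⁻¹ := by rw [hcomm2]
            _ = ρ (g * x * x⁻¹ * g⁻¹) := by rw [map_mul, map_mul, map_mul]
            _ = 1 := by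
                have : g * x * x⁻¹ * g⁻¹ = 1 := by group
                rw [this, map_one]
        have h2 : x * g * x⁻¹ * g⁻¹ ∈ N := (hNmem _).mpr h1
        rw [hN, Subgroup.mem_bot] at h2
        calc x * g = (x * g * x⁻¹ * g⁻¹) * (g * x) := by group
          _ = g * x := by rw [h2, one_mul]
      rw [hcenter, Subgroup.mem_bot] at hgc
      exact hg hgc
    · apply hχ1
      rw [← hρ]
      apply char_eq_one_of_trivial ρ hirr
      intro x
      apply (hNmem x).mp
      rw [hN]
      trivial

/-- If `p` divides the group order, some non-identity element has class size prime to `p`. -/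
theorem exists_ne_one_not_dvd_index [Finite G] (p : ℕ) [hp : Fact p.Prime]
    (hpG : p ∣ Nat.card G) :
    ∃ z : G, z ≠ 1 ∧ ¬ p ∣ (Subgroup.centralizer ({z} : Set G)).index := by
  obtain ⟨P⟩ : Nonempty (Sylow p G) := inferInstance
  have hcard : Nat.card (P : Subgroup G) = p ^ (Nat.card G).factorization p :=
    Sylow.card_eq_multiplicity P
  have hpos : 0 < (Nat.card G).factorization p :=
    hp.out.factorization_pos_of_dvd Nat.card_pos.ne' hpG
  haveI : Nontrivial (P : Subgroup G) := by
    rw [← Finite.one_lt_card_iff_nontrivial, hcard]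
    exact Nat.one_lt_pow hpos.ne' hp.out.one_lt
  haveI := IsPGroup.center_nontrivial P.isPGroup'
  obtain ⟨z, hz⟩ := exists_ne (1 : Subgroup.center (P : Subgroup G))
  refine ⟨((z : (P : Subgroup G)) : G), ?_, ?_⟩
  · intro h1
    apply hz
    apply Subtype.ext
    apply Subtype.ext
    simpa using h1
  · have hle : (P : Subgroup G) ≤ Subgroup.centralizer ({((z : (P : Subgroup G)) : G)} : Set G) := by
      intro w hw
      rw [Subgroup.mem_centralizer_iff]
      intro t ht
      rw [Set.mem_singleton_iff] at ht
      rw [ht]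
      have := Subgroup.mem_center_iff.mp z.2 ⟨w, hw⟩
      have h2 := congrArg (fun t : (P : Subgroup G) => (t : G)) this
      simpa using h2.symm
    intro hdvd
    exact P.not_dvd_index (hdvd.trans (Subgroup.index_dvd_of_le hle))

/-- **S0910.** -/
theorem principal_prime_pow_degree [Finite G] [IsSimpleGroup G] (hM : M.IsMaximal) (p : ℕ)
    [hp : Fact p.Prime] (hpM : (p : Cfsg.AlgInt) ∈ M) (hna : ∃ a b : G, a * b ≠ b * a)
    (χ : Cfsg.IrrCharacter G) (hχ : χ ∈ Cfsg.principalBlock M G) (k : ℕ)
    (hdeg : (χ : G → ℂ) 1 = (p : ℂ) ^ k) : (χ : G → ℂ) = fun _ => 1 := by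
  by_contra hχ1
  obtain ⟨K, -, -, hdpos, hdeg', -⟩ := exists_kernel_data χ.2
  have hd : Cfsg.charDegree (χ : G → ℂ) = p ^ k := by
    have : ((Cfsg.charDegree (χ : G → ℂ) : ℕ) : ℂ) = ((p ^ k : ℕ) : ℂ) := by
      rw [← hdeg', hdeg]
      push_cast
      rfl
    exact_mod_cast this
  -- all non-identity classes have size divisible by p
  have hall : ∀ g : G, g ≠ 1 → p ∣ (Subgroup.centralizer ({g} : Set G)).index := by
    intro g hg
    by_contra hnd
    have hcop : Nat.Coprime (Cfsg.charDegree (χ : G → ℂ))
        (Subgroup.centralizer ({g} : Set G)).index := by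
      rw [hd]
      apply Nat.Coprime.pow_left
      exact (Nat.Prime.coprime_iff_not_dvd hp.out).mpr hnd
    have h0 := irr_apply_eq_zero_of_simple_of_coprime hna χ hχ1 g hg hcop
    rw [principalBlock_eq] at hχ
    have hsame := hχ g
    have h1 : Cfsg.centralChar (χ : G → ℂ) g = 0 := by
      unfold Cfsg.centralChar
      rw [h0, mul_zero, zero_div]
    have h2 : Cfsg.centralChar ((trivIrr G : Cfsg.IrrCharacter G) : G → ℂ) g =
        (((Subgroup.centralizer ({g} : Set G)).index : Cfsg.AlgInt) : ℂ) := by
      unfold Cfsg.centralChar trivIrr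
      simp
    rw [h1, h2, sub_zero, memLocalIdeal_coe_iff hM] at hsame
    exact natCast_not_mem_of_not_dvd hM hp.out hpM hnd hsame
  -- hence p does not divide the group order
  have hpG : ¬ p ∣ Nat.card G := by
    intro hdvd
    obtain ⟨z, hz1, hz2⟩ := exists_ne_one_not_dvd_index p hdvd
    exact hz2 (hall z hz1)
  -- so the degree is one
  have hk0 : k = 0 := by
    by_contra hk
    apply hpG
    have h1 := charDegree_dvd_card χ.2
    rw [hd] at h1
    exact (dvd_pow_self p hk).trans h1
  -- a linear character of a non-abelian simple group is trivial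
  rw [hk0, pow_zero] at hd
  obtain ⟨n, ρ, hirr, hρ⟩ := χ.2
  have hn : n = 1 := by
    have := charDegree_rep ρ
    rw [hρ, hd] at this
    exact this.symm
  subst hn
  apply hχ1
  rw [← hρ]
  apply char_eq_one_of_trivial ρ hirr
  -- the kernel of ρ is everything since the image is abelian
  let N : Subgroup G := (Representation.asGroupHom ρ).ker
  have hNmem : ∀ x : G, x ∈ N ↔ ρ x = 1 := by
    intro x
    rw [MonoidHom.mem_ker]
    constructor
    · intro h
      have := congrArg Units.val h
      rwa [Representation.asGroupHom_apply] at this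
    · intro h
      apply Units.ext
      rw [Representation.asGroupHom_apply]
      exact h
  rcases (inferInstance : N.Normal).eq_bot_or_eq_top with hN | hN
  · exfalso
    obtain ⟨a, b, hab⟩ := hna
    apply hab
    have hcomm : ρ a * ρ b = ρ b * ρ a := by
      have hfin : finrank ℂ (Fin 1 → ℂ) = 1 := by simp
      obtain ⟨ca, hca, -⟩ := LinearMap.existsUnique_eq_smul_id_of_finrank_eq_one hfin (ρ a)
      rw [hca]
      ext v
      simp
    have h1 : ρ (a * b * a⁻¹ * b⁻¹) = 1 := by
      calc ρ (a * b * a⁻¹ * b⁻¹) = ρ a * ρ b * ρ a⁻¹ * ρ b⁻¹ := by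
            rw [map_mul, map_mul, map_mul]
        _ = ρ b * ρ a * ρ a⁻¹ * ρ b⁻¹ := by rw [hcomm]
        _ = ρ (b * a * a⁻¹ * b⁻¹) := by rw [map_mul, map_mul, map_mul]
        _ = 1 := by
            have : b * a * a⁻¹ * b⁻¹ = 1 := by group
            rw [this, map_one]
    have h2 : a * b * a⁻¹ * b⁻¹ ∈ N := (hNmem _).mpr h1
    rw [hN, Subgroup.mem_bot] at h2
    calc a * b = (a * b * a⁻¹ * b⁻¹) * (b * a) := by group
      _ = b * a := by rw [h2, one_mul]
  · intro x
    apply (hNmem x).mp
    rw [hN]
    trivial

end Cfsg.Agent.Helper6
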