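import Mathlib
import Cfsg.Prelude.Def_Characters
import Cfsg.Prelude.Def_Blocks
import Cfsg.Agent.Helper6.CenterDvd
import Cfsg.Agent.Helper6.Codegree
import Cfsg.Agent.Helper6.CentralDefectA
import Cfsg.Agent.Helper6.OsimaSupport
import Cfsg.Agent.Helper6.NilpPrincipal
import Cfsg.Agent.Helper6.DefectOrder

/-!
# The canonical character of a block with a central defect group
-/

set_option autoImplicit false
set_option linter.style.haveILetI false

namespace Cfsg.Agent.Helper6

open scoped ComplexConjugate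
open Module

universe u

variable {G : Type u} [Group G] {M : Ideal Cfsg.AlgInt}

/-- the degree of an irreducible character divides the index of the centre -/
theorem charDegree_dvd_index_center [Finite G] {χ : G → ℂ} (hχ : Cfsg.IsIrrCharacter G χ) :
    Cfsg.charDegree χ ∣ (Subgroup.center G).index := by
  obtain ⟨n, ρ, hirr, rfl⟩ := hχ
  haveI := hirr
  rw [charDegree_rep]
  have := finrank_dvd_index_center ρ
  rwa [Module.finrank_fin_fun] at this

/-- an irreducible character whose sum over a central subgroup is nonzero is trivial on it -/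
theorem eq_apply_one_of_sum_central_ne_zero [Finite G] (Z : Subgroup G) [Fintype Z]
    (hZ : Z ≤ Subgroup.center G) (χ : Cfsg.IrrCharacter G)
    (hne : ∑ z : Z, (χ : G → ℂ) z ≠ 0) : ∀ z ∈ Z, (χ : G → ℂ) z = (χ : G → ℂ) 1 := by
  intro z₀ hz₀
  obtain ⟨ω, -, hω⟩ := irr_center_mul χ z₀ (hZ hz₀)
  have h1 : ∑ z : Z, (χ : G → ℂ) (z₀ * z) = ∑ z : Z, (χ : G → ℂ) z :=
    Fintype.sum_equiv (Equiv.mulLeft (⟨z₀, hz₀⟩ : Z)) _ _ (fun z => rfl)
  have h2 : ∑ z : Z, (χ : G → ℂ) (z₀ * z) = ω * ∑ z : Z, (χ : G → ℂ) z := by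
    rw [Finset.mul_sum]
    exact Finset.sum_congr rfl (fun z _ => hω z)
  have h3 : ω = 1 := by
    have : (ω - 1) * ∑ z : Z, (χ : G → ℂ) z = 0 := by rw [sub_mul, one_mul, ← h2, h1, sub_self]
    rcases mul_eq_zero.mp this with h | h
    · exact sub_eq_zero.mp h
    · exact absurd h hne
  have := hω 1
  rw [mul_one, h3, one_mul] at this
  exact this

/-- **the canonical character**: a block with a central defect group `Z` contains a character
trivial on `Z`, and it has full `p`-part of the degree modulo `Z` -/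
theorem exists_canonical_char [Fintype G] {p : ℕ} [hp : Fact p.Prime]
    (hM : Cfsg.IsPModular p M) (B : Set (Cfsg.IrrCharacter G)) (hB : Cfsg.IsPBlock M B)
    (Z : Subgroup G) (hD : Cfsg.IsDefectGroup p M B Z) (hZ : Z ≤ Subgroup.center G) :
    ∃ θ ∈ B, (∀ z ∈ Z, (θ : G → ℂ) z = (θ : G → ℂ) 1) ∧
      (Cfsg.charDegree (θ : G → ℂ)).factorization p + (Nat.card Z).factorization p =
        (Nat.card G).factorization p := by
  classical
  haveI : Finite (Cfsg.IrrCharacter G) := irr_finite
  haveI : Fintype (Cfsg.IrrCharacter G) := Fintype.ofFinite _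
  haveI : Fintype Z := Fintype.ofFinite _
  have hpp := hp.1
  have hcardZ := card_defectGroup hM.2.1 p hM.2.2 B hB Z hD
  obtain ⟨χ₀, hχ₀⟩ := hB
  have hχ₀B : χ₀ ∈ B := by rw [hχ₀]; exact mem_blockOf_self hM.2.1 χ₀
  have hB' : Cfsg.IsPBlock M B := ⟨χ₀, hχ₀⟩
  -- the sum of the idempotent coefficients over `Z`
  have hsum1 : ∑ z : Z, Cfsg.blockCoeff B (z : G) = Cfsg.blockCoeff B 1 := by
    rw [Finset.sum_eq_single (1 : Z)]
    · rfl
    · intro z _ hz
      apply blockCoeff_eq_zero_of_singular hM.2.1 p hM.2.2 B hB'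
      have h1 : orderOf (z : G) ∣ p ^ Cfsg.blockDefect p B := by
        rw [← hcardZ, Subgroup.orderOf_coe]
        exact orderOf_dvd_natCard z
      obtain ⟨k, -, hk⟩ := (Nat.dvd_prime_pow hpp).mp h1
      rcases Nat.eq_zero_or_pos k with rfl | hkpos
      · rw [pow_zero, orderOf_eq_one_iff] at hk
        exact absurd (Subtype.ext hk) hz
      · rw [hk]
        exact dvd_pow_self p hkpos.ne'
    · intro h
      exact absurd (Finset.mem_univ _) h
  have hne := blockCoeff_one_ne_zero B χ₀ hχ₀B
  have hex : ∃ χ ∈ B, ∑ z : Z, (χ : G → ℂ) z ≠ 0 := by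
    by_contra hcon
    push Not at hcon
    apply hne
    rw [← hsum1]
    unfold Cfsg.blockCoeff
    rw [← Finset.mul_sum]
    have h2 : ∀ z : Z, ∑ᶠ χ ∈ B, (χ : G → ℂ) 1 * conj ((χ : G → ℂ) (z : G)) =
        ∑ χ : Cfsg.IrrCharacter G,
          (if χ ∈ B then (χ : G → ℂ) 1 * conj ((χ : G → ℂ) (z : G)) else 0) := by
      intro z
      rw [finsum_mem_eq_sum_ite]
    rw [Finset.sum_congr rfl (fun z _ => h2 z), Finset.sum_comm]
    have h3 : ∀ χ : Cfsg.IrrCharacter G, ∑ z : Z,
        (if χ ∈ B then (χ : G → ℂ) 1 * conj ((χ : G → ℂ) (z : G)) else 0) = 0 := by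
      intro χ
      by_cases hχ : χ ∈ B
      · simp only [if_pos hχ]
        rw [← Finset.mul_sum, ← map_sum, hcon χ hχ, map_zero, mul_zero]
      · simp only [if_neg hχ]
        exact Finset.sum_const_zero
    rw [Finset.sum_congr rfl (fun χ _ => h3 χ), Finset.sum_const_zero, mul_zero]
  obtain ⟨θ, hθB, hθne⟩ := hex
  refine ⟨θ, hθB, eq_apply_one_of_sum_central_ne_zero Z hZ θ hθne, ?_⟩
  -- the degree
  have hd0 : Cfsg.charDegree (θ : G → ℂ) ≠ 0 := by
    intro h0
    have h1 := charDegree_cast_of_isCharacter (IsIrrCharacter.isCharacter θ.2)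
    rw [h0, Nat.cast_zero] at h1
    exact IsIrrCharacter.apply_one_ne_zero θ.2 h1.symm
  have hZfac : (Nat.card Z).factorization p = Cfsg.blockDefect p B := by
    rw [hcardZ, Nat.Prime.factorization_pow hpp]
    simp
  have hidx : (Nat.card Z).factorization p + Z.index.factorization p =
      (Nat.card G).factorization p := by
    rw [← Subgroup.card_mul_index Z, Nat.factorization_mul Nat.card_pos.ne'
      Subgroup.index_ne_zero_of_finite]
    rfl
  have hle : (Cfsg.charDegree (θ : G → ℂ)).factorization p ≤ Z.index.factorization p := by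
    have hdvd : Cfsg.charDegree (θ : G → ℂ) ∣ Z.index :=
      (charDegree_dvd_index_center θ.2).trans (Subgroup.index_dvd_of_le hZ)
    exact (Nat.factorization_le_iff_dvd hd0 Subgroup.index_ne_zero_of_finite).mpr hdvd p
  have hge : (Nat.card G).factorization p ≤
      Cfsg.blockDefect p B + (Cfsg.charDegree (θ : G → ℂ)).factorization p := by
    have h1 : sInf ((fun χ : Cfsg.IrrCharacter G =>
        (Cfsg.charDegree (χ : G → ℂ)).factorization p) '' B) ≤
        (Cfsg.charDegree (θ : G → ℂ)).factorization p := Nat.sInf_le ⟨θ, hθB, rfl⟩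
    unfold Cfsg.blockDefect
    omega
  omega

end Cfsg.Agent.Helper6
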