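import Mathlib
import Cfsg.Prelude.Def_Characters
import Cfsg.Agent.Helper6.CentralChar
import Cfsg.Agent.Helper6.EquivOfChar

/-!
# The central extension attached to an invariant irreducible representation of a normal subgroup

For a normal subgroup `N` of `G` and a representation `ρ` of `N` on `Fin d → ℂ`, the group
`tripleGroup N ρ` consists of the pairs `(g, P)` with `P` an invertible operator such that
`P ρ(n) P⁻¹ = ρ(g n g⁻¹)` for all `n` and `det P ^ |N| = 1`.  When `ρ` is irreducible with
invariant character, it is a finite central extension of `G` to which `ρ` extends.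
-/

set_option autoImplicit false
set_option linter.style.haveILetI false

namespace Cfsg.Agent.Helper6

open Module

universe u

variable {G : Type u} [Group G]

/-- conjugation by `g` on the normal subgroup `N` -/
def cj (N : Subgroup G) [hN : N.Normal] (g : G) (n : N) : N :=
  ⟨g * n * g⁻¹, hN.conj_mem (n : G) n.2 g⟩

theorem cj_one (N : Subgroup G) [hN : N.Normal] (n : N) : cj N 1 n = n := by
  apply Subtype.ext
  simp [cj]

theorem cj_mul (N : Subgroup G) [hN : N.Normal] (g h : G) (n : N) :
    cj N (g * h) n = cj N g (cj N h n) := by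
  apply Subtype.ext
  simp only [cj]
  group

theorem cj_inv_cj (N : Subgroup G) [hN : N.Normal] (g : G) (n : N) :
    cj N g (cj N g⁻¹ n) = n := by
  rw [← cj_mul, mul_inv_cancel, cj_one]

theorem cj_mul_right (N : Subgroup G) [hN : N.Normal] (g : G) (n n' : N) :
    cj N g (n * n') = cj N g n * cj N g n' := by
  apply Subtype.ext
  simp only [cj, Subgroup.coe_mul]
  group

theorem cj_self (N : Subgroup G) [hN : N.Normal] (n n' : N) :
    cj N (n : G) n' = n * n' * n⁻¹ := by
  apply Subtype.ext
  simp [cj]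

variable (N : Subgroup G) [hN : N.Normal] {d : ℕ} (ρ : Representation ℂ N (Fin d → ℂ))

/-- the group of pairs `(g, P)` with `P` intertwining `ρ` and its `g`-conjugate, normalized by
`det P ^ |N| = 1` -/
def tripleGroup : Subgroup (G × (Module.End ℂ (Fin d → ℂ))ˣ) where
  carrier := {x | (∀ n : N, (x.2 : Module.End ℂ (Fin d → ℂ)) * ρ n =
      ρ (cj N x.1 n) * (x.2 : Module.End ℂ (Fin d → ℂ))) ∧
    (LinearMap.det (x.2 : Module.End ℂ (Fin d → ℂ))) ^ Nat.card N = 1}
  one_mem' := by
    refine ⟨fun n => ?_, ?_⟩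
    · simp only [Prod.snd_one, Units.val_one, Prod.fst_one, one_mul, mul_one]
      rw [cj_one]
    · simp
  mul_mem' := by
    rintro x y ⟨hx1, hx2⟩ ⟨hy1, hy2⟩
    refine ⟨fun n => ?_, ?_⟩
    · simp only [Prod.snd_mul, Units.val_mul, Prod.fst_mul]
      rw [mul_assoc, hy1 n, ← mul_assoc, hx1 (cj N y.1 n), cj_mul, mul_assoc]
    · simp only [Prod.snd_mul, Units.val_mul]
      rw [map_mul, mul_pow, hx2, hy2, one_mul]
  inv_mem' := by
    rintro x ⟨hx1, hx2⟩
    refine ⟨fun n => ?_, ?_⟩
    · simp only [Prod.snd_inv, Prod.fst_inv]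
      have h1 := hx1 (cj N x.1⁻¹ n)
      rw [cj_inv_cj] at h1
      calc ((x.2⁻¹ : (Module.End ℂ (Fin d → ℂ))ˣ) : Module.End ℂ (Fin d → ℂ)) * ρ n
          = ((x.2⁻¹ : (Module.End ℂ (Fin d → ℂ))ˣ) : Module.End ℂ (Fin d → ℂ)) * (ρ n *
              (x.2 : Module.End ℂ (Fin d → ℂ))) *
              ((x.2⁻¹ : (Module.End ℂ (Fin d → ℂ))ˣ) : Module.End ℂ (Fin d → ℂ)) := by
            rw [mul_assoc, mul_assoc, Units.mul_inv, mul_one]
        _ = ((x.2⁻¹ : (Module.End ℂ (Fin d → ℂ))ˣ) : Module.End ℂ (Fin d → ℂ)) *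
              ((x.2 : Module.End ℂ (Fin d → ℂ)) * ρ (cj N x.1⁻¹ n)) *
              ((x.2⁻¹ : (Module.End ℂ (Fin d → ℂ))ˣ) : Module.End ℂ (Fin d → ℂ)) := by
            rw [h1]
        _ = ρ (cj N x.1⁻¹ n) *
              ((x.2⁻¹ : (Module.End ℂ (Fin d → ℂ))ˣ) : Module.End ℂ (Fin d → ℂ)) := by
            rw [← mul_assoc, Units.inv_mul, one_mul]
    · simp only [Prod.snd_inv]
      have h1 : LinearMap.det ((x.2⁻¹ : (Module.End ℂ (Fin d → ℂ))ˣ) :
          Module.End ℂ (Fin d → ℂ)) * LinearMap.det (x.2 : Module.End ℂ (Fin d → ℂ)) = 1 := by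
        rw [← map_mul, Units.inv_mul, map_one]
      have h2 := congrArg (fun t => t ^ Nat.card N) h1
      simp only [mul_pow, one_pow] at h2
      rw [hx2, mul_one] at h2
      exact h2

theorem mem_tripleGroup (x : G × (Module.End ℂ (Fin d → ℂ))ˣ) :
    x ∈ tripleGroup N ρ ↔ (∀ n : N, (x.2 : Module.End ℂ (Fin d → ℂ)) * ρ n =
      ρ (cj N x.1 n) * (x.2 : Module.End ℂ (Fin d → ℂ))) ∧
    (LinearMap.det (x.2 : Module.End ℂ (Fin d → ℂ))) ^ Nat.card N = 1 := Iff.rfl

/-- the projection of the central extension onto `G` -/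
def tripleProj : tripleGroup N ρ →* G :=
  (MonoidHom.fst G _).comp (tripleGroup N ρ).subtype

/-- the representation of the central extension extending `ρ` -/
def tripleRep : Representation ℂ (tripleGroup N ρ) (Fin d → ℂ) :=
  (Units.coeHom _).comp ((MonoidHom.snd G _).comp (tripleGroup N ρ).subtype)

theorem tripleProj_apply (x : tripleGroup N ρ) : tripleProj N ρ x = x.1.1 := rfl

theorem tripleRep_apply (x : tripleGroup N ρ) :
    tripleRep N ρ x = (x.1.2 : Module.End ℂ (Fin d → ℂ)) := rfl

omit hN in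
/-- the determinant of `ρ n` is a root of unity of order dividing `|N|` -/
theorem det_rep_pow_card [Finite N] (n : N) : (LinearMap.det (ρ n)) ^ Nat.card N = 1 := by
  rw [← map_pow, ← map_pow, pow_card_eq_one', map_one, map_one]

/-- the embedding of `N` in the central extension -/
def tripleEmb [Finite N] : N →* tripleGroup N ρ where
  toFun n := ⟨((n : G), MonoidHom.toHomUnits ρ n), by
    refine ⟨fun n' => ?_, ?_⟩
    · show ρ n * ρ n' = ρ (cj N (n : G) n') * ρ n
      rw [cj_self, ← map_mul, ← map_mul]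
      congr 1
      group
    · show (LinearMap.det (ρ n)) ^ Nat.card N = 1
      exact det_rep_pow_card N ρ n⟩
  map_one' := by
    apply Subtype.ext
    apply Prod.ext
    · rfl
    · show MonoidHom.toHomUnits ρ 1 = 1
      rw [map_one]
  map_mul' a b := by
    apply Subtype.ext
    apply Prod.ext
    · rfl
    · show MonoidHom.toHomUnits ρ (a * b) = MonoidHom.toHomUnits ρ a * MonoidHom.toHomUnits ρ b
      rw [map_mul]

theorem tripleProj_tripleEmb [Finite N] (n : N) : tripleProj N ρ (tripleEmb N ρ n) = n := rfl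

theorem tripleRep_tripleEmb [Finite N] (n : N) : tripleRep N ρ (tripleEmb N ρ n) = ρ n := rfl

theorem tripleEmb_injective [Finite N] : Function.Injective (tripleEmb N ρ) := by
  intro a b h
  have := congrArg (tripleProj N ρ) h
  rw [tripleProj_tripleEmb, tripleProj_tripleEmb] at this
  exact Subtype.ext this

end Cfsg.Agent.Helper6
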