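import Mathlib
import Cfsg.Prelude.Def_Characters
import Cfsg.Agent.Helper6.CharTripleA
import Cfsg.Agent.Helper6.DegreeDvd

/-!
# The central extension attached to an invariant irreducible representation: surjectivity of the
projection, the central kernel, finiteness
-/

set_option autoImplicit false
set_option linter.style.haveILetI false

namespace Cfsg.Agent.Helper6

open Module

universe u

variable {G : Type u} [Group G]

/-- conjugation by `g` on the normal subgroup `N`, as a homomorphism -/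
def cjHom (N : Subgroup G) [hN : N.Normal] (g : G) : N →* N where
  toFun := cj N g
  map_one' := by
    apply Subtype.ext
    simp [cj]
  map_mul' := cj_mul_right N g

variable (N : Subgroup G) [hN : N.Normal] {d : ℕ} (ρ : Representation ℂ N (Fin d → ℂ))

set_option maxHeartbeats 800000 in
/-- the projection onto `G` is surjective when the character of `ρ` is invariant -/
theorem tripleProj_surjective [Finite N] [hirr : ρ.IsIrreducible]
    (hinv : ∀ (g : G) (n : N), ρ.character (cj N g n) = ρ.character n) :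
    Function.Surjective (tripleProj N ρ) := by
  intro g
  haveI : Nontrivial (Fin d → ℂ) := irr_nontrivial ρ
  have hd : 0 < d := by
    have h1 : 0 < finrank ℂ (Fin d → ℂ) := Module.finrank_pos
    rwa [Module.finrank_fin_fun] at h1
  obtain ⟨σ, hσ⟩ : ∃ σ : Representation ℂ N (Fin d → ℂ), σ = ρ.comp (cjHom N g) := ⟨_, rfl⟩
  have hσapp : ∀ n : N, σ n = ρ (cj N g n) := by
    intro n
    rw [hσ]
    rfl
  have hchar : ρ.character = σ.character := by
    funext n
    have : σ.character n = ρ.character (cj N g n) := by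
      unfold Representation.character
      rw [hσapp]
    rw [this, hinv]
  obtain ⟨E⟩ := equiv_of_char_eq ρ σ hchar
  obtain ⟨P₀, hP₀⟩ : ∃ P₀ : (Module.End ℂ (Fin d → ℂ))ˣ,
      P₀ = LinearMap.GeneralLinearGroup.ofLinearEquiv E.toLinearEquiv := ⟨_, rfl⟩
  have hP₀coe : (P₀ : Module.End ℂ (Fin d → ℂ)) = E.toLinearMap := by
    rw [hP₀]
    rfl
  have hint : ∀ n : N, (P₀ : Module.End ℂ (Fin d → ℂ)) * ρ n =
      ρ (cj N g n) * (P₀ : Module.End ℂ (Fin d → ℂ)) := by
    intro n
    rw [hP₀coe, ← hσapp]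
    exact E.isIntertwining' n
  have hdet0 : LinearMap.det (P₀ : Module.End ℂ (Fin d → ℂ)) ≠ 0 := by
    have h1 : LinearMap.det (P₀ : Module.End ℂ (Fin d → ℂ)) *
        LinearMap.det ((P₀⁻¹ : (Module.End ℂ (Fin d → ℂ))ˣ) : Module.End ℂ (Fin d → ℂ)) = 1 := by
      rw [← map_mul, Units.mul_inv, map_one]
    exact left_ne_zero_of_mul_eq_one h1
  obtain ⟨c, hc⟩ := IsAlgClosed.exists_pow_nat_eq
    ((LinearMap.det (P₀ : Module.End ℂ (Fin d → ℂ)))⁻¹) hd
  have hc0 : c ≠ 0 := by
    intro h0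
    rw [h0, zero_pow hd.ne'] at hc
    exact (inv_ne_zero hdet0) hc.symm
  obtain ⟨P, hP⟩ : ∃ P : (Module.End ℂ (Fin d → ℂ))ˣ,
      (P : Module.End ℂ (Fin d → ℂ)) = c • (P₀ : Module.End ℂ (Fin d → ℂ)) := by
    refine ⟨⟨c • (P₀ : Module.End ℂ (Fin d → ℂ)),
      c⁻¹ • ((P₀⁻¹ : (Module.End ℂ (Fin d → ℂ))ˣ) : Module.End ℂ (Fin d → ℂ)), ?_, ?_⟩, rfl⟩
    · rw [smul_mul_smul_comm, mul_inv_cancel₀ hc0, Units.mul_inv, one_smul]
    · rw [smul_mul_smul_comm, inv_mul_cancel₀ hc0, Units.inv_mul, one_smul]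
  have hmem : ((g, P) : G × (Module.End ℂ (Fin d → ℂ))ˣ) ∈ tripleGroup N ρ := by
    rw [mem_tripleGroup]
    refine ⟨fun n => ?_, ?_⟩
    · show (P : Module.End ℂ (Fin d → ℂ)) * ρ n = ρ (cj N g n) * (P : Module.End ℂ (Fin d → ℂ))
      rw [hP, smul_mul_assoc, hint n, mul_smul_comm]
    · show (LinearMap.det (P : Module.End ℂ (Fin d → ℂ))) ^ Nat.card N = 1
      rw [hP, LinearMap.det_smul, Module.finrank_fin_fun, hc, inv_mul_cancel₀ hdet0, one_pow]
  exact ⟨⟨(g, P), hmem⟩, rfl⟩

/-- the elements of the kernel of the projection are scalars -/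
theorem exists_scalar_of_tripleProj_eq_one [hirr : ρ.IsIrreducible] (x : tripleGroup N ρ)
    (hx : tripleProj N ρ x = 1) :
    ∃ c : ℂ, (x.1.2 : Module.End ℂ (Fin d → ℂ)) = c • (1 : Module.End ℂ (Fin d → ℂ)) ∧
      c ^ (d * Nat.card N) = 1 := by
  have hx1 : x.1.1 = 1 := hx
  obtain ⟨h1, h2⟩ := (mem_tripleGroup N ρ x.1).mp x.2
  have hcomm : ∀ n : N, (x.1.2 : Module.End ℂ (Fin d → ℂ)) ∘ₗ ρ n =
      ρ n ∘ₗ (x.1.2 : Module.End ℂ (Fin d → ℂ)) := by
    intro n
    have := h1 n
    rw [hx1, cj_one] at this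
    exact this
  obtain ⟨c, hc⟩ := exists_scalar_of_commute ρ _ hcomm
  refine ⟨c, hc, ?_⟩
  rw [hc] at h2
  have h3 : LinearMap.det (c • (LinearMap.id : (Fin d → ℂ) →ₗ[ℂ] (Fin d → ℂ))) = c ^ d := by
    rw [LinearMap.det_smul, Module.finrank_fin_fun, LinearMap.det_id, mul_one]
  rw [h3, ← pow_mul] at h2
  exact h2

/-- the kernel of the projection is central -/
theorem tripleProj_ker_le_center [hirr : ρ.IsIrreducible] :
    (tripleProj N ρ).ker ≤ Subgroup.center (tripleGroup N ρ) := by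
  intro x hx
  rw [MonoidHom.mem_ker] at hx
  obtain ⟨c, hc, -⟩ := exists_scalar_of_tripleProj_eq_one N ρ x hx
  have hx1 : x.1.1 = 1 := hx
  rw [Subgroup.mem_center_iff]
  intro y
  apply Subtype.ext
  apply Prod.ext
  · show y.1.1 * x.1.1 = x.1.1 * y.1.1
    rw [hx1, mul_one, one_mul]
  · apply Units.ext
    show (y.1.2 : Module.End ℂ (Fin d → ℂ)) * (x.1.2 : Module.End ℂ (Fin d → ℂ)) =
      (x.1.2 : Module.End ℂ (Fin d → ℂ)) * (y.1.2 : Module.End ℂ (Fin d → ℂ))
    rw [hc, mul_smul_comm, smul_mul_assoc, mul_one, one_mul]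

/-- the central extension is finite -/
theorem tripleGroup_finite [Finite G] [hirr : ρ.IsIrreducible] : Finite (tripleGroup N ρ) := by
  classical
  haveI : Nontrivial (Fin d → ℂ) := irr_nontrivial ρ
  have hd : 0 < d := by
    have h1 : 0 < finrank ℂ (Fin d → ℂ) := Module.finrank_pos
    rwa [Module.finrank_fin_fun] at h1
  have hpos : 0 < d * Nat.card N := Nat.mul_pos hd Nat.card_pos
  haveI : Finite (tripleGroup N ρ ⧸ (tripleProj N ρ).ker) :=
    Finite.of_injective _ (QuotientGroup.kerLift_injective (tripleProj N ρ))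
  haveI : Finite (tripleProj N ρ).ker := by
    have hfin : Set.Finite {c : ℂ | c ^ (d * Nat.card N) = 1} := by
      have : {c : ℂ | c ^ (d * Nat.card N) = 1} =
          ↑(Polynomial.nthRootsFinset (d * Nat.card N) (1 : ℂ)) := by
        ext c
        rw [Finset.mem_coe, Polynomial.mem_nthRootsFinset hpos]
        rfl
      rw [this]
      exact Finset.finite_toSet _
    haveI : Finite {c : ℂ | c ^ (d * Nat.card N) = 1} := hfin.to_subtype
    have hex : ∀ x : (tripleProj N ρ).ker, ∃ c : ℂ,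
        ((x : tripleGroup N ρ).1.2 : Module.End ℂ (Fin d → ℂ)) =
          c • (1 : Module.End ℂ (Fin d → ℂ)) ∧ c ^ (d * Nat.card N) = 1 :=
      fun x => exists_scalar_of_tripleProj_eq_one N ρ x.1 (MonoidHom.mem_ker.mp x.2)
    choose f hf1 hf2 using hex
    apply Finite.of_injective
      (fun x : (tripleProj N ρ).ker => (⟨f x, hf2 x⟩ : {c : ℂ | c ^ (d * Nat.card N) = 1}))
    intro x y hxy
    have h1 : f x = f y := congrArg Subtype.val hxy
    apply Subtype.ext
    apply Subtype.ext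
    apply Prod.ext
    · have hx1 : (x : tripleGroup N ρ).1.1 = 1 := MonoidHom.mem_ker.mp x.2
      have hy1 : (y : tripleGroup N ρ).1.1 = 1 := MonoidHom.mem_ker.mp y.2
      rw [hx1, hy1]
    · apply Units.ext
      rw [hf1 x, hf1 y, h1]
  exact Finite.of_subgroup_quotient (tripleProj N ρ).ker

end Cfsg.Agent.Helper6
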