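import Mathlib
import Cfsg.Prelude.Def_Characters
import Cfsg.Agent.Helper6.CharTripleB
import Cfsg.Agent.Helper6.PCGroupA
import Cfsg.Agent.Helper6.CanonicalChar
import Cfsg.Agent.Helper6.Gallagher
import Cfsg.Agent.Helper6.BrauerPerm2
import Cfsg.Agent.Helper6.Inflation

/-!
# The ramification index of an invariant irreducible character divides the index
-/

set_option autoImplicit false
set_option linter.style.haveILetI false

namespace Cfsg.Agent.Helper6

open Module
open scoped ComplexConjugate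

universe u

variable {G : Type u} [Group G]

/-- the degree of an irreducible character divides the index of a subgroup that is central modulo
a normal subgroup contained in the kernel -/
theorem charDegree_dvd_index_of_central_mod [Finite G] (η : Cfsg.IrrCharacter G) (K : Subgroup G)
    [hKn : K.Normal] (hK : ∀ k ∈ K, (η : G → ℂ) k = (η : G → ℂ) 1) (H : Subgroup G)
    (hcen : ∀ h ∈ H, ∀ g : G, h * g * h⁻¹ * g⁻¹ ∈ K) :
    Cfsg.charDegree (η : G → ℂ) ∣ H.index := by
  obtain ⟨η', hη'⟩ := exists_deflate K η hK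
  have hdeg : Cfsg.charDegree (η : G → ℂ) = Cfsg.charDegree (η' : G ⧸ K → ℂ) := by
    unfold Cfsg.charDegree
    rw [hη']
    rfl
  rw [hdeg]
  have h1 := charDegree_dvd_index_center η'.2
  have hle : H.map (QuotientGroup.mk' K) ≤ Subgroup.center (G ⧸ K) := by
    rintro _ ⟨h, hh, rfl⟩
    rw [Subgroup.mem_center_iff]
    intro z
    obtain ⟨g, rfl⟩ := QuotientGroup.mk_surjective z
    show (g : G ⧸ K) * (h : G ⧸ K) = (h : G ⧸ K) * (g : G ⧸ K)
    rw [← QuotientGroup.mk_mul, ← QuotientGroup.mk_mul, QuotientGroup.eq]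
    have h2 := hKn.conj_mem _ (hcen h hh g) (h * g)⁻¹
    have h3 : (h * g)⁻¹ * (h * g * h⁻¹ * g⁻¹) * ((h * g)⁻¹)⁻¹ = (g * h)⁻¹ * (h * g) := by group
    rw [h3] at h2
    exact h2
  have h2 := Subgroup.index_dvd_of_le hle
  have h3 := Subgroup.index_map_dvd H (QuotientGroup.mk'_surjective K)
  exact h1.trans (h2.trans h3)

variable (N : Subgroup G) [hN : N.Normal] {d : ℕ} (ρ : Representation ℂ N (Fin d → ℂ))

/-- conjugation in the central extension on the embedded copy of `N` -/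
theorem conj_tripleEmb [Finite N] (x : tripleGroup N ρ) (n : N) :
    x * tripleEmb N ρ n * x⁻¹ = tripleEmb N ρ (cj N (tripleProj N ρ x) n) := by
  obtain ⟨h1, -⟩ := (mem_tripleGroup N ρ x.1).mp x.2
  apply Subtype.ext
  apply Prod.ext
  · rfl
  · apply Units.ext
    show (x.1.2 : Module.End ℂ (Fin d → ℂ)) * ρ n *
      ((x.1.2⁻¹ : (Module.End ℂ (Fin d → ℂ))ˣ) : Module.End ℂ (Fin d → ℂ)) =
        ρ (cj N x.1.1 n)
    rw [h1 n, mul_assoc, Units.mul_inv, mul_one]

instance tripleEmb_range_normal [Finite N] : (tripleEmb N ρ).range.Normal := by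
  refine ⟨?_⟩
  rintro _ ⟨n, rfl⟩ x
  rw [conj_tripleEmb]
  exact ⟨_, rfl⟩

/-- the extended representation is irreducible -/
theorem tripleRep_isIrrCharacter [Finite G] [hirr : ρ.IsIrreducible] :
    Cfsg.IsIrrCharacter (tripleGroup N ρ) (tripleRep N ρ).character := by
  classical
  haveI := tripleGroup_finite N ρ
  haveI : Fintype (tripleGroup N ρ) := Fintype.ofFinite _
  haveI : Fintype N := Fintype.ofFinite _
  apply isIrrCharacter_of_comp_irr (tripleEmb N ρ) ⟨d, tripleRep N ρ, rfl⟩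
  exact ⟨d, ρ, hirr, rfl⟩

set_option maxHeartbeats 1600000 in
/-- **the ramification index of an invariant irreducible character of a normal subgroup divides
the index** -/
theorem ramification_dvd_index [Fintype G] (N : Subgroup G) [hN : N.Normal] [Fintype N]
    (ϑ : N → ℂ) (hϑ : Cfsg.IsIrrCharacter N ϑ)
    (hinv : ∀ (g : G) (n : N), ϑ ⟨g * n * g⁻¹, hN.conj_mem (n : G) n.2 g⟩ = ϑ n)
    (ψ : G → ℂ) (hψ : Cfsg.IsIrrCharacter G ψ) (e : ℕ)
    (he : Cfsg.classInner (fun n : N => ψ n) ϑ = e) (he0 : e ≠ 0) : e ∣ N.index := by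
  classical
  obtain ⟨d, ρ, hirr, rfl⟩ := hϑ
  haveI := hirr
  haveI := tripleGroup_finite N ρ
  haveI : Fintype (tripleGroup N ρ) := Fintype.ofFinite _
  have hq : Function.Surjective (tripleProj N ρ) := tripleProj_surjective N ρ hinv
  haveI : Fintype (tripleEmb N ρ).range := Fintype.ofFinite _
  -- the isomorphism of `N` with its copy
  obtain ⟨e₀, he₀⟩ : ∃ e₀ : (tripleEmb N ρ).range ≃* N,
      e₀ = (MonoidHom.ofInjective (tripleEmb_injective N ρ)).symm := ⟨_, rfl⟩
  have he₀app : ∀ k : (tripleEmb N ρ).range, tripleEmb N ρ (e₀ k) = k := by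
    intro k
    rw [he₀]
    exact MonoidHom.apply_ofInjective_symm (tripleEmb_injective N ρ) k
  have hτ := tripleRep_isIrrCharacter N ρ
  have hτfun : (fun k : (tripleEmb N ρ).range => (tripleRep N ρ).character k) =
      ρ.character ∘ e₀ := by
    funext k
    rw [Function.comp_apply]
    conv_lhs => rw [← he₀app k]
    rfl
  have hτN : Cfsg.IsIrrCharacter (tripleEmb N ρ).range
      (fun k : (tripleEmb N ρ).range => (tripleRep N ρ).character k) := by
    rw [hτfun]
    exact IsIrrCharacter.comp_mulEquiv e₀ ⟨d, ρ, hirr, rfl⟩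
  -- the inflation of `ψ`
  have hψ' : Cfsg.IsIrrCharacter (tripleGroup N ρ) (ψ ∘ tripleProj N ρ) := by
    obtain ⟨m, σ, hσirr, rfl⟩ := hψ
    haveI := hσirr
    exact ⟨m, σ.comp (tripleProj N ρ), isIrreducible_comp_surjective σ (tripleProj N ρ) hq, rfl⟩
  have hψfun : (fun k : (tripleEmb N ρ).range => (ψ ∘ tripleProj N ρ) k) =
      (fun n : N => ψ n) ∘ e₀ := by
    funext k
    rw [Function.comp_apply, Function.comp_apply]
    conv_lhs => rw [← he₀app k]
    rfl
  have hinner : Cfsg.classInner (fun k : (tripleEmb N ρ).range => (ψ ∘ tripleProj N ρ) k)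
      (fun k : (tripleEmb N ρ).range => (tripleRep N ρ).character k) = e := by
    rw [hψfun, hτfun]
    exact (classInner_comp_equiv' e₀.toEquiv (fun n : N => ψ n) ρ.character).trans he
  obtain ⟨η, hη⟩ : ∃ η : tripleGroup N ρ → ℂ, η = fun g =>
      (Nat.card (tripleEmb N ρ).range : ℂ)⁻¹ * ∑ n : (tripleEmb N ρ).range,
        (ψ ∘ tripleProj N ρ) ((n : tripleGroup N ρ) * g) *
          conj ((tripleRep N ρ).character ((n : tripleGroup N ρ) * g)) := ⟨_, rfl⟩
  obtain ⟨hg1, -, -⟩ := gallagher_avg (tripleEmb N ρ).range (tripleRep N ρ).character hτ hτN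
    (ψ ∘ tripleProj N ρ) hψ' η hη
  have hηirr : Cfsg.IsIrrCharacter (tripleGroup N ρ) η := by
    apply hg1
    rw [hinner]
    exact_mod_cast he0
  have hη1 : η 1 = e := by
    rw [← hinner, hη]
    unfold Cfsg.classInner
    simp only [mul_one]
  have hηmul : ∀ (k₀ : (tripleEmb N ρ).range) (x : tripleGroup N ρ),
      η ((k₀ : tripleGroup N ρ) * x) = η x := by
    intro k₀ x
    rw [hη]
    simp only
    congr 1
    refine Fintype.sum_equiv (Equiv.mulRight k₀) _ _ (fun k => ?_)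
    simp only [Equiv.coe_mulRight, Subgroup.coe_mul, mul_assoc]
  have hker : ∀ k ∈ (tripleEmb N ρ).range, η k = η 1 := by
    intro k hk
    have := hηmul ⟨k, hk⟩ 1
    rwa [mul_one] at this
  have hdeg : Cfsg.charDegree η = e := by
    unfold Cfsg.charDegree
    rw [hη1]
    simp
  have hcen : ∀ h ∈ N.comap (tripleProj N ρ), ∀ x : tripleGroup N ρ,
      h * x * h⁻¹ * x⁻¹ ∈ (tripleEmb N ρ).range := by
    intro h hh x
    rw [Subgroup.mem_comap] at hh
    obtain ⟨n₀, hn₀⟩ : ∃ n₀ : N, (n₀ : G) = tripleProj N ρ h := ⟨⟨_, hh⟩, rfl⟩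
    obtain ⟨a, ha⟩ : ∃ a : tripleGroup N ρ, a = (tripleEmb N ρ n₀)⁻¹ * h := ⟨_, rfl⟩
    have hah : h = tripleEmb N ρ n₀ * a := by rw [ha]; group
    have haker : a ∈ (tripleProj N ρ).ker := by
      rw [MonoidHom.mem_ker, ha, map_mul, map_inv, tripleProj_tripleEmb, hn₀]
      exact inv_mul_cancel _
    have hac := Subgroup.mem_center_iff.mp (tripleProj_ker_le_center N ρ haker)
    have h1 : h * x * h⁻¹ * x⁻¹ = tripleEmb N ρ n₀ *
        (x * (tripleEmb N ρ n₀)⁻¹ * x⁻¹) := by
      rw [hah]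
      have h2 : a * x = x * a := (hac x).symm
      calc tripleEmb N ρ n₀ * a * x * (tripleEmb N ρ n₀ * a)⁻¹ * x⁻¹
          = tripleEmb N ρ n₀ * (a * x) * a⁻¹ * (tripleEmb N ρ n₀)⁻¹ * x⁻¹ := by group
        _ = tripleEmb N ρ n₀ * (x * a) * a⁻¹ * (tripleEmb N ρ n₀)⁻¹ * x⁻¹ := by rw [h2]
        _ = tripleEmb N ρ n₀ * (x * (tripleEmb N ρ n₀)⁻¹ * x⁻¹) := by group
    rw [h1]
    apply Subgroup.mul_mem (tripleEmb N ρ).range ⟨_, rfl⟩
    rw [← map_inv, conj_tripleEmb]
    exact ⟨_, rfl⟩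
  have hdvd := charDegree_dvd_index_of_central_mod ⟨η, hηirr⟩ (tripleEmb N ρ).range hker
    (N.comap (tripleProj N ρ)) hcen
  rw [Subgroup.index_comap_of_surjective N hq] at hdvd
  rw [← hdeg]
  exact hdvd

end Cfsg.Agent.Helper6
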