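import Mathlib
import Cfsg.Prelude.Def_Characters
import Cfsg.Agent.Helper6.Gallagher
import Cfsg.Agent.Helper6.Artin
import Cfsg.Agent.Helper6.Linear
import Cfsg.Agent.Helper6.MGroup
import Cfsg.Agent.Helper6.AbelianInertia

/-!
# Over an abelian quotient, linear characters act transitively on the characters over `η`
-/

set_option autoImplicit false
set_option linter.style.haveILetI false

namespace Cfsg.Agent.Helper6

open Module Representation
open scoped ComplexConjugate

universe u v

variable {G : Type u} [Group G]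

/-- If two irreducible characters share a constituent on a subgroup then the inner product of
their restrictions does not vanish. -/
theorem classInner_restrict_ne_zero_of_common [Fintype G] (M : Subgroup G) [Fintype M]
    {χ χ' : G → ℂ} (hχ : Cfsg.IsCharacter G χ) (hχ' : Cfsg.IsCharacter G χ') {η : M → ℂ}
    (hη : Cfsg.IsIrrCharacter M η) (h1 : Cfsg.classInner (fun m : M => χ m) η ≠ 0)
    (h2 : Cfsg.classInner (fun m : M => χ' m) η ≠ 0) :
    Cfsg.classInner (fun m : M => χ' m) (fun m : M => χ m) ≠ 0 := by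
  have hχM : Cfsg.IsCharacter M (fun m : M => χ m) := IsCharacter.restrict M hχ
  have hχ'M : Cfsg.IsCharacter M (fun m : M => χ' m) := IsCharacter.restrict M hχ'
  have hΔ : Cfsg.IsCharacter M ((fun m : M => χ m) - η) :=
    sub_isCharacter_of_constituent hχM hη h1
  obtain ⟨a, ha⟩ := classInner_char_char_nat hχ'M (IsIrrCharacter.isCharacter hη)
  obtain ⟨b, hb⟩ := classInner_char_char_nat hχ'M hΔ
  have hsplit : (fun m : M => χ m) = η + ((fun m : M => χ m) - η) := by
    funext m
    simp
  rw [hsplit, classInner_add_right, ha, hb]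
  rw [ha] at h2
  have ha0 : a ≠ 0 := by
    intro h
    apply h2
    rw [h, Nat.cast_zero]
  have : ((a + b : ℕ) : ℂ) ≠ 0 := by
    have : a + b ≠ 0 := by omega
    exact_mod_cast this
  push_cast at this
  exact this

/-- Over a normal subgroup with abelian quotient, any two irreducible characters lying over the
same irreducible character differ by a linear character of the quotient. -/
theorem exists_hom_mul_eq_of_common [Fintype G] (M : Subgroup G) [hM : M.Normal] [Fintype M]
    (hab : ∀ x y : G, x * y * x⁻¹ * y⁻¹ ∈ M) {χ χ' : G → ℂ} (hχ : Cfsg.IsIrrCharacter G χ)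
    (hχ' : Cfsg.IsIrrCharacter G χ') {η : M → ℂ} (hη : Cfsg.IsIrrCharacter M η)
    (h1 : Cfsg.classInner (fun m : M => χ m) η ≠ 0)
    (h2 : Cfsg.classInner (fun m : M => χ' m) η ≠ 0) :
    ∃ μ : G →* ℂˣ, (∀ m ∈ M, μ m = 1) ∧ χ' = χ * fun g => ((μ g : ℂˣ) : ℂ) := by
  classical
  haveI : Finite (Cfsg.IrrCharacter G) := irr_finite
  haveI : Fintype (Cfsg.IrrCharacter G) := Fintype.ofFinite _
  have hχc := IsIrrCharacter.isCharacter hχ
  have hχ'c := IsIrrCharacter.isCharacter hχ'
  have hcf := IsCharacter.isClassFunction hχc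
  have hcf' := IsCharacter.isClassFunction hχ'c
  have hcommon := classInner_restrict_ne_zero_of_common M hχc hχ'c hη h1 h2
  set L := Finset.univ.filter (fun ξ : Cfsg.IrrCharacter G => ∀ n ∈ M, (ξ : G → ℂ) n =
      (ξ : G → ℂ) 1) with hL
  have hL1 : ∀ ξ ∈ L, (ξ : G → ℂ) 1 = 1 := by
    intro ξ hξ
    rw [hL, Finset.mem_filter] at hξ
    apply irr_degree_one_of_commutators ξ.2
    intro a b
    exact hξ.2 _ (hab a b)
  have hInd1 : Cfsg.indFun M (fun _ => (1 : ℂ)) =
      ∑ ξ ∈ L, (ξ : G → ℂ) 1 • (ξ : G → ℂ) := by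
    funext g
    rw [indFun_one_normal, Finset.sum_apply]
    simp only [Pi.smul_apply, smul_eq_mul]
    exact (sum_degree_mul_irr_of_le_ker M g).symm
  have h5 : χ * Cfsg.indFun M (fun _ => (1 : ℂ)) = Cfsg.indFun M (fun m : M => χ m) := by
    rw [mul_indFun M _ _ hcf]
    congr 1
    funext m
    rw [mul_one]
  have h6 : Cfsg.classInner (χ * Cfsg.indFun M (fun _ => (1 : ℂ))) χ' ≠ 0 := by
    rw [h5, frobenius_reciprocity M _ _ hcf']
    intro h0
    apply hcommon
    rw [classInner_conj_symm, h0, map_zero]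
  rw [hInd1, Finset.mul_sum, classInner_sum_left] at h6
  obtain ⟨ξ, hξL, hξne⟩ := Finset.exists_ne_zero_of_sum_ne_zero h6
  rw [mul_smul_comm, classInner_smul_left] at hξne
  have hξne' := right_ne_zero_of_mul hξne
  obtain ⟨μ, hμ⟩ := exists_hom_of_irr_degree_one ξ.2 (hL1 ξ hξL)
  have hirr : Cfsg.IsIrrCharacter G (χ * (ξ : G → ℂ)) := by
    rw [hμ]
    exact IsIrrCharacter.mul_hom μ hχ
  have heq : χ * (ξ : G → ℂ) = χ' := by
    by_contra hne
    exact hξne' (classInner_irr_ne hirr hχ' hne)
  refine ⟨μ, ?_, ?_⟩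
  · intro m hm
    rw [hL, Finset.mem_filter] at hξL
    have h7 := hξL.2 m hm
    rw [hL1 ξ (by rw [hL, Finset.mem_filter]; exact hξL)] at h7
    have h8 := congrFun hμ m
    rw [h7] at h8
    ext
    rw [← h8]
    simp
  · rw [← heq, hμ]

end Cfsg.Agent.Helper6
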