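import Mathlib
import Cfsg.Prelude.Def_Characters
import Cfsg.Agent.Helper6.GlaubR
import Cfsg.Agent.Helper6.Inflation
import Cfsg.Agent.Helper6.PermCore

/-!
# The Glauberman correspondence modulo a normal subgroup: quotient transport
-/

set_option autoImplicit false
set_option linter.style.haveILetI false
set_option linter.unusedSimpArgs false

namespace Cfsg.Agent.Helper6.RelGlaub

open scoped ComplexConjugate

universe u

variable {X : Type u} [Group X]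

/-- a stable normal subgroup is mapped onto itself -/
theorem map_eq_of_stable (H : Subgroup X) (A : Subgroup (MulAut X))
    (hAH : ∀ a ∈ A, ∀ h ∈ H, a h ∈ H) (a : A) :
    H.map (((a : MulAut X) : X ≃* X) : X →* X) = H := by
  apply le_antisymm
  · rintro _ ⟨h, hh, rfl⟩
    exact hAH a.1 a.2 h hh
  · intro h hh
    refine ⟨(a : MulAut X)⁻¹ h, hAH _ (inv_mem a.2) h hh, ?_⟩
    show (a : MulAut X) ((a : MulAut X)⁻¹ h) = h
    rw [← MulAut.mul_apply, mul_inv_cancel]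
    rfl

/-- the action induced on the quotient -/
noncomputable def quotAutHom (H : Subgroup X) [H.Normal] (A : Subgroup (MulAut X))
    (hAH : ∀ a ∈ A, ∀ h ∈ H, a h ∈ H) : A →* MulAut (X ⧸ H) where
  toFun a := QuotientGroup.congr H H (a : MulAut X) (map_eq_of_stable H A hAH a)
  map_one' := by
    apply MulEquiv.ext
    intro q
    induction q using QuotientGroup.induction_on with
    | H x => rfl
  map_mul' := by
    intro a b
    apply MulEquiv.ext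
    intro q
    induction q using QuotientGroup.induction_on with
    | H x => rfl

theorem quotAutHom_mk (H : Subgroup X) [H.Normal] (A : Subgroup (MulAut X))
    (hAH : ∀ a ∈ A, ∀ h ∈ H, a h ∈ H) (a : A) (x : X) :
    quotAutHom H A hAH a (QuotientGroup.mk x) = QuotientGroup.mk ((a : MulAut X) x) := rfl

/-- the embedding of the quotient of the fixed-point subgroup -/
def fixQuotHom (H D : Subgroup X) [H.Normal] : (D ⧸ H.subgroupOf D) →* X ⧸ H :=
  QuotientGroup.map (H.subgroupOf D) H D.subtype (fun _ hx => hx)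

theorem fixQuotHom_mk (H D : Subgroup X) [H.Normal] (d : D) :
    fixQuotHom H D (QuotientGroup.mk d) = QuotientGroup.mk (d : X) := rfl

theorem fixQuotHom_injective (H D : Subgroup X) [H.Normal] :
    Function.Injective (fixQuotHom H D) := by
  rw [injective_iff_map_eq_one]
  intro q hq
  induction q using QuotientGroup.induction_on with
  | H d =>
    rw [fixQuotHom_mk, QuotientGroup.eq_one_iff] at hq
    rw [QuotientGroup.eq_one_iff]
    exact hq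

theorem mem_range_fixQuotHom_iff (H D : Subgroup X) [hHn : H.Normal] (A : Subgroup (MulAut X))
    (hAH : ∀ a ∈ A, ∀ h ∈ H, a h ∈ H)
    (hD : ∀ x : X, x ∈ D ↔ ∀ a ∈ A, a x * x⁻¹ ∈ H) (q : X ⧸ H) :
    q ∈ (fixQuotHom H D).range ↔ ∀ b ∈ (quotAutHom H A hAH).range, b q = q := by
  induction q using QuotientGroup.induction_on with
  | H x =>
    constructor
    · rintro ⟨r, hr⟩ b hb
      obtain ⟨a, rfl⟩ := hb
      induction r using QuotientGroup.induction_on with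
      | H d =>
        rw [fixQuotHom_mk] at hr
        rw [← hr, quotAutHom_mk, QuotientGroup.eq]
        have h1 := (hD d).mp d.2 a a.2
        have h2 : ((a : MulAut X) (d : X))⁻¹ * (d : X) =
            (d : X)⁻¹ * ((a : MulAut X) d * (d : X)⁻¹)⁻¹ * ((d : X)⁻¹)⁻¹ := by
          group
        rw [h2]
        exact hHn.conj_mem _ (H.inv_mem h1) _
    · intro hfix
      have hx : x ∈ D := by
        rw [hD]
        intro a ha
        have h1 := hfix (quotAutHom H A hAH ⟨a, ha⟩) ⟨⟨a, ha⟩, rfl⟩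
        rw [quotAutHom_mk, QuotientGroup.eq] at h1
        have h2 : a x * x⁻¹ = (a x) * ((a x)⁻¹ * x)⁻¹ * (a x)⁻¹ := by
          group
        rw [h2]
        exact hHn.conj_mem _ (H.inv_mem h1) _
      exact ⟨QuotientGroup.mk ⟨x, hx⟩, rfl⟩

/-- inner products of inflated functions -/
theorem classInner_comp_mk {Y : Type u} [Group Y] [Fintype Y] (N : Subgroup Y) [N.Normal]
    [Fintype (Y ⧸ N)] (f g : Y ⧸ N → ℂ) :
    Cfsg.classInner (f ∘ (QuotientGroup.mk : Y → Y ⧸ N)) (g ∘ (QuotientGroup.mk : Y → Y ⧸ N)) =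
      Cfsg.classInner f g := by
  unfold Cfsg.classInner
  have h1 := sum_comp_quotient_mk N (fun q : Y ⧸ N => f q * conj (g q))
  have h2 : ∑ y : Y, (f ∘ (QuotientGroup.mk : Y → Y ⧸ N)) y *
      conj ((g ∘ (QuotientGroup.mk : Y → Y ⧸ N)) y) =
      (Nat.card N : ℂ) * ∑ q : Y ⧸ N, f q * conj (g q) := h1
  rw [h2]
  have h3 : Nat.card Y = Nat.card (Y ⧸ N) * Nat.card N :=
    Subgroup.card_eq_card_quotient_mul_card_subgroup N
  have hN0 : (Nat.card N : ℂ) ≠ 0 := by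
    exact_mod_cast Nat.card_pos.ne'
  have hQ0 : (Nat.card (Y ⧸ N) : ℂ) ≠ 0 := by
    exact_mod_cast Nat.card_pos.ne'
  rw [h3]
  push_cast
  field_simp

/-- the Glauberman statement on the quotient -/
theorem glaubStatement_quot [Fintype X] {p : ℕ} [hp : Fact p.Prime] (H : Subgroup X)
    [hHn : H.Normal] (A : Subgroup (MulAut X)) (hA : IsPGroup p A) (hidx : ¬ p ∣ H.index)
    (hAH : ∀ a ∈ A, ∀ h ∈ H, a h ∈ H) (D : Subgroup X)
    (hD : ∀ x : X, x ∈ D ↔ ∀ a ∈ A, a x * x⁻¹ ∈ H)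
    [Fintype (X ⧸ H)] [Fintype (D ⧸ H.subgroupOf D)] :
    GlaubStatement p
      (((quotAutHom H A hAH).range : Subgroup (MulAut (X ⧸ H))) : Set (MulAut (X ⧸ H)))
      (fixQuotHom H D) := by
  have hAbar : IsPGroup p (quotAutHom H A hAH).range :=
    IsPGroup.of_surjective hA (quotAutHom H A hAH).rangeRestrict
      (MonoidHom.rangeRestrict_surjective _)
  apply glaubStatement_pgroup_coprime _ hAbar
  · obtain ⟨n, hn⟩ := IsPGroup.iff_card.mp hAbar
    rw [hn, ← Subgroup.index_eq_card]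
    exact Nat.Coprime.pow_right n ((Nat.Prime.coprime_iff_not_dvd hp.out).mpr hidx).symm
  · exact fixQuotHom_injective H D
  · exact mem_range_fixQuotHom_iff H D A hAH hD

theorem invUnder_quot_iff (H : Subgroup X) [hHn : H.Normal] (A : Subgroup (MulAut X))
    (hAH : ∀ a ∈ A, ∀ h ∈ H, a h ∈ H) (f : X ⧸ H → ℂ) :
    InvUnder (((quotAutHom H A hAH).range : Subgroup (MulAut (X ⧸ H))) : Set (MulAut (X ⧸ H))) f ↔
      InvUnder (A : Set (MulAut X)) (f ∘ (QuotientGroup.mk : X → X ⧸ H)) := by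
  constructor
  · intro h a ha x
    have := h (quotAutHom H A hAH ⟨a, ha⟩) ⟨⟨a, ha⟩, rfl⟩ (QuotientGroup.mk x)
    rw [quotAutHom_mk] at this
    exact this
  · intro h b hb q
    obtain ⟨a, rfl⟩ := hb
    induction q using QuotientGroup.induction_on with
    | H x =>
      rw [quotAutHom_mk]
      exact h a.1 a.2 x

/-- The Glauberman correspondence modulo a normal subgroup `H` of index prime to `p`, for
characters having `H` in their kernel. -/
theorem relGlaub_kernel [Fintype X] {p : ℕ} [hp : Fact p.Prime] (H : Subgroup X)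
    [hHn : H.Normal] (A : Subgroup (MulAut X)) (hA : IsPGroup p A) (hidx : ¬ p ∣ H.index)
    (hAH : ∀ a ∈ A, ∀ h ∈ H, a h ∈ H) (D : Subgroup X) [Fintype D]
    (hD : ∀ x : X, x ∈ D ↔ ∀ a ∈ A, a x * x⁻¹ ∈ H) :
    (∀ β : X → ℂ, Cfsg.IsIrrCharacter X β → (∀ h ∈ H, β h = β 1) →
      InvUnder (A : Set (MulAut X)) β →
      ∃ γ₀ : Cfsg.IrrCharacter D, (∀ d : D, (d : X) ∈ H → (γ₀ : D → ℂ) d = (γ₀ : D → ℂ) 1) ∧
        (∃ m : ℕ, Cfsg.classInner (β ∘ D.subtype) (γ₀ : D → ℂ) = (m : ℂ) ∧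
          ((m : ℤ) ≡ 1 [ZMOD p] ∨ (m : ℤ) ≡ -1 [ZMOD p])) ∧
        ∀ γ : Cfsg.IrrCharacter D, (∀ d : D, (d : X) ∈ H → (γ : D → ℂ) d = (γ : D → ℂ) 1) →
          γ ≠ γ₀ → ∃ m : ℕ, Cfsg.classInner (β ∘ D.subtype) (γ : D → ℂ) = (m : ℂ) ∧ p ∣ m) ∧
    (∀ β β' : X → ℂ, Cfsg.IsIrrCharacter X β → (∀ h ∈ H, β h = β 1) →
      InvUnder (A : Set (MulAut X)) β → Cfsg.IsIrrCharacter X β' → (∀ h ∈ H, β' h = β' 1) →
      InvUnder (A : Set (MulAut X)) β' →
      ∀ γ : Cfsg.IrrCharacter D, (∀ d : D, (d : X) ∈ H → (γ : D → ℂ) d = (γ : D → ℂ) 1) →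
        (∃ m : ℕ, Cfsg.classInner (β ∘ D.subtype) (γ : D → ℂ) = (m : ℂ) ∧ ¬ p ∣ m) →
        (∃ m : ℕ, Cfsg.classInner (β' ∘ D.subtype) (γ : D → ℂ) = (m : ℂ) ∧ ¬ p ∣ m) → β = β') ∧
    (∀ γ : Cfsg.IrrCharacter D, (∀ d : D, (d : X) ∈ H → (γ : D → ℂ) d = (γ : D → ℂ) 1) →
      ∃ β : X → ℂ, Cfsg.IsIrrCharacter X β ∧ (∀ h ∈ H, β h = β 1) ∧
        InvUnder (A : Set (MulAut X)) β ∧
        ∃ m : ℕ, Cfsg.classInner (β ∘ D.subtype) (γ : D → ℂ) = (m : ℂ) ∧ ¬ p ∣ m) := by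
  classical
  haveI : Fintype (X ⧸ H) := Fintype.ofFinite _
  haveI : Fintype (D ⧸ H.subgroupOf D) := Fintype.ofFinite _
  obtain ⟨St1, St2, St3⟩ := glaubStatement_quot H A hA hidx hAH D hD
  -- deflation on `X`
  have hdefl : ∀ β : X → ℂ, Cfsg.IsIrrCharacter X β → (∀ h ∈ H, β h = β 1) →
      ∃ β' : Cfsg.IrrCharacter (X ⧸ H), β = (β' : X ⧸ H → ℂ) ∘ QuotientGroup.mk := by
    intro β hβ hker
    exact exists_deflate H ⟨β, hβ⟩ hker
  -- deflation on `D`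
  have hdeflD : ∀ γ : Cfsg.IrrCharacter D,
      (∀ d : D, (d : X) ∈ H → (γ : D → ℂ) d = (γ : D → ℂ) 1) →
      ∃ γ' : Cfsg.IrrCharacter (D ⧸ H.subgroupOf D),
        (γ : D → ℂ) = (γ' : D ⧸ H.subgroupOf D → ℂ) ∘ QuotientGroup.mk := by
    intro γ hker
    exact exists_deflate (H.subgroupOf D) γ (fun d hd => hker d (Subgroup.mem_subgroupOf.mp hd))
  -- inflation on `D`
  have hinflD : ∀ γ' : Cfsg.IrrCharacter (D ⧸ H.subgroupOf D),
      ∃ γ : Cfsg.IrrCharacter D,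
        (γ : D → ℂ) = (γ' : D ⧸ H.subgroupOf D → ℂ) ∘ QuotientGroup.mk ∧
        ∀ d : D, (d : X) ∈ H → (γ : D → ℂ) d = (γ : D → ℂ) 1 := by
    intro γ'
    refine ⟨⟨_, isIrrCharacter_inflate (H.subgroupOf D) γ'⟩, rfl, ?_⟩
    intro d hd
    show (γ' : D ⧸ H.subgroupOf D → ℂ) (QuotientGroup.mk d) =
      (γ' : D ⧸ H.subgroupOf D → ℂ) (QuotientGroup.mk 1)
    have h1 : (QuotientGroup.mk d : D ⧸ H.subgroupOf D) = QuotientGroup.mk 1 := by
      rw [QuotientGroup.eq, mul_one]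
      exact (H.subgroupOf D).inv_mem (Subgroup.mem_subgroupOf.mpr hd)
    rw [h1]
  -- inner products
  have hinner : ∀ (β' : X ⧸ H → ℂ) (γ' : D ⧸ H.subgroupOf D → ℂ),
      Cfsg.classInner ((β' ∘ (QuotientGroup.mk : X → X ⧸ H)) ∘ D.subtype)
        (γ' ∘ (QuotientGroup.mk : D → D ⧸ H.subgroupOf D)) =
      Cfsg.classInner (β' ∘ fixQuotHom H D) γ' := by
    intro β' γ'
    rw [← classInner_comp_mk (H.subgroupOf D) (β' ∘ fixQuotHom H D) γ']
    rfl
  have hinj_mk : ∀ γ₁ γ₂ : Cfsg.IrrCharacter (D ⧸ H.subgroupOf D),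
      (γ₁ : D ⧸ H.subgroupOf D → ℂ) ∘ (QuotientGroup.mk : D → D ⧸ H.subgroupOf D) =
        (γ₂ : D ⧸ H.subgroupOf D → ℂ) ∘ (QuotientGroup.mk : D → D ⧸ H.subgroupOf D) →
      γ₁ = γ₂ := by
    intro γ₁ γ₂ h
    apply Subtype.ext
    funext q
    induction q using QuotientGroup.induction_on with
    | H d => exact congrFun h d
  refine ⟨?_, ?_, ?_⟩
  · intro β hβ hker hinv
    obtain ⟨β', rfl⟩ := hdefl β hβ hker
    have hinv' := (invUnder_quot_iff H A hAH (β' : X ⧸ H → ℂ)).mpr hinv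
    obtain ⟨γ₀', ⟨m, hm, hm1⟩, hrest⟩ := St1 (β' : X ⧸ H → ℂ) β'.2 hinv'
    obtain ⟨γ₀, hγ₀, hγ₀ker⟩ := hinflD γ₀'
    refine ⟨γ₀, hγ₀ker, ⟨m, ?_, hm1⟩, ?_⟩
    · rw [hγ₀, hinner, hm]
    · intro γ hγker hne
      obtain ⟨γ', hγ'⟩ := hdeflD γ hγker
      have hne' : γ' ≠ γ₀' := by
        rintro rfl
        apply hne
        apply Subtype.ext
        rw [hγ', hγ₀]
      obtain ⟨m', hm', hdvd⟩ := hrest γ' hne'
      refine ⟨m', ?_, hdvd⟩
      rw [hγ', hinner, hm']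
  · intro β₁ β₂ hβ₁ hker₁ hinv₁ hβ₂ hker₂ hinv₂ γ hγker hrel₁ hrel₂
    obtain ⟨β₁', rfl⟩ := hdefl β₁ hβ₁ hker₁
    obtain ⟨β₂', rfl⟩ := hdefl β₂ hβ₂ hker₂
    obtain ⟨γ', hγ'⟩ := hdeflD γ hγker
    have hinv₁' := (invUnder_quot_iff H A hAH (β₁' : X ⧸ H → ℂ)).mpr hinv₁
    have hinv₂' := (invUnder_quot_iff H A hAH (β₂' : X ⧸ H → ℂ)).mpr hinv₂
    have h1 : GlaubRelHom p (fixQuotHom H D) (β₁' : X ⧸ H → ℂ)
        (γ' : D ⧸ H.subgroupOf D → ℂ) := by
      obtain ⟨m, hm, hnd⟩ := hrel₁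
      refine ⟨m, ?_, hnd⟩
      rw [← hinner, ← hγ', hm]
    have h2 : GlaubRelHom p (fixQuotHom H D) (β₂' : X ⧸ H → ℂ)
        (γ' : D ⧸ H.subgroupOf D → ℂ) := by
      obtain ⟨m, hm, hnd⟩ := hrel₂
      refine ⟨m, ?_, hnd⟩
      rw [← hinner, ← hγ', hm]
    have := St2 (β₁' : X ⧸ H → ℂ) (β₂' : X ⧸ H → ℂ) β₁'.2 hinv₁' β₂'.2 hinv₂' γ' h1 h2
    rw [this]
  · intro γ hγker
    obtain ⟨γ', hγ'⟩ := hdeflD γ hγker
    obtain ⟨χ, hχ, hχinv, m, hm, hnd⟩ := St3 γ'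
    refine ⟨χ ∘ (QuotientGroup.mk : X → X ⧸ H), isIrrCharacter_inflate H ⟨χ, hχ⟩, ?_,
      (invUnder_quot_iff H A hAH χ).mp hχinv, m, ?_, hnd⟩
    · intro h hh
      show χ (QuotientGroup.mk h) = χ (QuotientGroup.mk 1)
      have h1 : (QuotientGroup.mk h : X ⧸ H) = QuotientGroup.mk 1 := by
        rw [QuotientGroup.eq, mul_one]
        exact H.inv_mem hh
      rw [h1]
    · rw [hγ', hinner, hm]

end Cfsg.Agent.Helper6.RelGlaub
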