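import Mathlib
import Cfsg.Prelude.Def_Characters
import Cfsg.Agent.Helper6.GlaubZ
import Cfsg.Agent.Helper6.GallagherProd
import Cfsg.Agent.Helper6.CoprimeExt
import Cfsg.Agent.Helper6.CliffordUnique
import Cfsg.Agent.Helper6.AbelianInertia
import Cfsg.Agent.Helper6.LinearCount
import Cfsg.Agent.Helper6.Linear

/-!
# Invariant extensions over a normal Sylow subgroup
-/

set_option autoImplicit false
set_option linter.style.haveILetI false
set_option linter.unusedSimpArgs false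

namespace Cfsg.Agent.Helper6.RelGlaub

open scoped ComplexConjugate

universe u

variable {X : Type u} [Group X]

/-- the linear characters trivial on a subgroup -/
def trivOn (H : Subgroup X) : Subgroup (X →* ℂˣ) where
  carrier := {μ | ∀ h ∈ H, μ h = 1}
  one_mem' := fun _ _ => rfl
  mul_mem' := by
    intro a b ha hb h hh
    rw [MonoidHom.mul_apply, ha h hh, hb h hh, one_mul]
  inv_mem' := by
    intro a ha h hh
    rw [MonoidHom.inv_apply, ha h hh, inv_one]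

theorem mem_trivOn (H : Subgroup X) (μ : X →* ℂˣ) : μ ∈ trivOn H ↔ ∀ h ∈ H, μ h = 1 := Iff.rfl

theorem not_dvd_card_trivOn [Finite X] {p : ℕ} [hp : Fact p.Prime] (H : Subgroup X)
    [hHn : H.Normal] (hidx : ¬ p ∣ H.index) : ¬ p ∣ Nat.card (trivOn H) := by
  haveI : Finite (X →* ℂˣ) := finite_hom_units
  intro hdvd
  obtain ⟨x, hx⟩ := exists_prime_orderOf_dvd_card' p hdvd
  apply hidx
  rw [← hx]
  apply orderOf_dvd_of_pow_eq_one
  apply Subtype.ext
  apply MonoidHom.ext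
  intro g
  show ((x : X →* ℂˣ) ^ H.index) g = 1
  rw [MonoidHom.pow_apply, ← map_pow]
  exact x.2 _ (Subgroup.pow_index_mem H g)

/-- two extensions of an irreducible character differ by a linear character of the quotient -/
theorem exists_hom_of_extensions [Fintype X] (N : Subgroup X) [hN : N.Normal] (θ : N → ℂ)
    (hθ : Cfsg.IsIrrCharacter N θ) (χ₀ ψ : X → ℂ) (hχ₀ : Cfsg.IsIrrCharacter X χ₀)
    (hψ : Cfsg.IsIrrCharacter X ψ) (h₀ : ∀ n : N, χ₀ n = θ n) (h₁ : ∀ n : N, ψ n = θ n) :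
    ∃ μ ∈ trivOn N, ψ = χ₀ * fun g => ((μ g : ℂˣ) : ℂ) := by
  classical
  haveI : Fintype N := Fintype.ofFinite N
  have hχ₀cf := IsCharacter.isClassFunction (IsIrrCharacter.isCharacter hχ₀)
  have hψcf := IsCharacter.isClassFunction (IsIrrCharacter.isCharacter hψ)
  set φ : N → ℂ := fun _ => 1 with hφdef
  have hφ : Cfsg.IsIrrCharacter N φ := by
    have := isIrrCharacter_of_hom (1 : N →* ℂˣ)
    simpa using this
  have hθinv : ∀ (g : X) (n : N), θ ⟨g * n * g⁻¹, hN.conj_mem (n : X) n.2 g⟩ = θ n := by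
    intro g n
    rw [← h₀, ← h₀]
    exact hχ₀cf (n : X) g
  have hφθ : φ * θ = θ := by
    funext n
    simp [hφdef]
  have hbij := mul_ext_bijOn N φ θ hφ (fun _ _ => rfl) hθinv (by rw [hφθ]; exact hθ) χ₀ hχ₀ h₀
  have hψmem : ψ ∈ {ψ : X → ℂ | Cfsg.IsIrrCharacter X ψ ∧
      Cfsg.classInner (Cfsg.indFun N (φ * θ)) ψ ≠ 0} := by
    refine ⟨hψ, ?_⟩
    rw [hφθ, frobenius_reciprocity N θ ψ hψcf]
    have : (fun h : N => ψ h) = θ := funext h₁
    rw [this, classInner_irr_self hθ]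
    exact one_ne_zero
  obtain ⟨β, ⟨hβ, hβne⟩, hβψ⟩ := hbij.surjOn hψmem
  have hβcf := IsCharacter.isClassFunction (IsIrrCharacter.isCharacter hβ)
  have hdeg : β 1 = 1 := by
    have h1 : β 1 * χ₀ 1 = ψ 1 := by
      rw [← hβψ]
      rfl
    have h2 : χ₀ 1 = θ 1 := h₀ 1
    have h3 : ψ 1 = θ 1 := h₁ 1
    have h4 : θ 1 ≠ 0 := IsIrrCharacter.apply_one_ne_zero hθ
    rw [h2, h3] at h1
    have : β 1 * θ 1 = 1 * θ 1 := by rw [h1, one_mul]
    exact mul_right_cancel₀ h4 this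
  obtain ⟨μ, hμ⟩ := exists_hom_of_irr_degree_one hβ hdeg
  refine ⟨μ, ?_, ?_⟩
  · -- trivial on `N`
    rw [frobenius_reciprocity N φ β hβcf] at hβne
    have hres : Cfsg.IsIrrCharacter N (fun h : N => β h) := by
      have := isIrrCharacter_of_hom (μ.comp N.subtype)
      rw [hμ]
      exact this
    have heq : φ = fun h : N => β h := by
      by_contra hne
      exact hβne (classInner_irr_ne hφ hres hne)
    intro h hh
    have h1 := congrFun heq ⟨h, hh⟩
    rw [hμ] at h1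
    simp only [hφdef] at h1
    apply Units.ext
    rw [← h1]
    rfl
  · rw [← hβψ, hμ, mul_comm]

/-- the extensions of an irreducible character form a torsor under the linear characters of
the quotient -/
theorem card_extensions [Fintype X] (N : Subgroup X) [hN : N.Normal] (θ : N → ℂ)
    (hθ : Cfsg.IsIrrCharacter N θ) (χ₀ : X → ℂ) (hχ₀ : Cfsg.IsIrrCharacter X χ₀)
    (h₀ : ∀ n : N, χ₀ n = θ n) :
    Nat.card {ψ : Cfsg.IrrCharacter X // ∀ n : N, (ψ : X → ℂ) n = θ n} =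
      Nat.card (trivOn N) := by
  classical
  haveI : Fintype N := Fintype.ofFinite N
  symm
  have hres : Cfsg.IsIrrCharacter N (fun n : N => χ₀ n) := by
    have : (fun n : N => χ₀ n) = θ := funext h₀
    rw [this]
    exact hθ
  let Φ : trivOn N → {ψ : Cfsg.IrrCharacter X // ∀ n : N, (ψ : X → ℂ) n = θ n} := fun μ =>
    ⟨⟨χ₀ * fun g => (((μ : X →* ℂˣ) g : ℂˣ) : ℂ), IsIrrCharacter.mul_hom (μ : X →* ℂˣ) hχ₀⟩, by
      intro n
      show χ₀ n * (((μ : X →* ℂˣ) n : ℂˣ) : ℂ) = θ n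
      rw [μ.2 n n.2, Units.val_one, mul_one, h₀]⟩
  apply Nat.card_congr (Equiv.ofBijective Φ ⟨?_, ?_⟩)
  · intro μ μ' hμ
    have h1 : ∀ g : X, χ₀ g * (((μ : X →* ℂˣ) g : ℂˣ) : ℂ) =
        χ₀ g * (((μ' : X →* ℂˣ) g : ℂˣ) : ℂ) := by
      intro g
      have := congrArg (fun ψ : {ψ : Cfsg.IrrCharacter X // ∀ n : N, (ψ : X → ℂ) n = θ n} =>
        ((ψ : Cfsg.IrrCharacter X) : X → ℂ) g) hμ
      exact this
    have h2 : (μ : X →* ℂˣ)⁻¹ * (μ' : X →* ℂˣ) = 1 := by
      apply hom_eq_one_of_mul_eq N χ₀ hχ₀ hres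
      · intro n hn
        rw [MonoidHom.mul_apply, MonoidHom.inv_apply, μ.2 n hn, μ'.2 n hn, inv_one, one_mul]
      · intro g
        rw [MonoidHom.mul_apply, MonoidHom.inv_apply, Units.val_mul, ← mul_assoc,
          mul_comm (χ₀ g), mul_assoc, ← h1 g, ← mul_assoc, mul_comm _ (χ₀ g), mul_assoc,
          ← Units.val_mul, inv_mul_cancel, Units.val_one, mul_one]
    apply Subtype.ext
    apply MonoidHom.ext
    intro g
    have h3 := congrArg (fun ν : X →* ℂˣ => ν g) h2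
    simp only [MonoidHom.mul_apply, MonoidHom.inv_apply, MonoidHom.one_apply] at h3
    exact inv_mul_eq_one.mp h3
  · intro ψ
    obtain ⟨μ, hμ, hψ⟩ := exists_hom_of_extensions N θ hθ χ₀ ψ.1.1 hχ₀ ψ.1.2 h₀ ψ.2
    refine ⟨⟨μ, hμ⟩, ?_⟩
    apply Subtype.ext
    apply Subtype.ext
    exact hψ.symm

/-- An invariant irreducible character of a normal Sylow `p`-subgroup, fixed by a `p`-group of
automorphisms, has an extension fixed by that `p`-group. -/
theorem exists_invariant_extension [Fintype X] {p : ℕ} [hp : Fact p.Prime] (H : Subgroup X)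
    [hHn : H.Normal] (A : Subgroup (MulAut X)) (hA : IsPGroup p A) (hHp : IsPGroup p H)
    (hidx : ¬ p ∣ H.index) (hAH : ∀ a ∈ A, ∀ h ∈ H, a h ∈ H) (θ : H → ℂ)
    (hθ : Cfsg.IsIrrCharacter H θ)
    (hinvX : ∀ (g : X) (n : H), θ ⟨g * n * g⁻¹, hHn.conj_mem (n : X) n.2 g⟩ = θ n)
    (hinvA : ∀ a ∈ A, ∀ h h' : H, (h' : X) = a (h : X) → θ h' = θ h) :
    ∃ χ : X → ℂ, Cfsg.IsIrrCharacter X χ ∧ (∀ n : H, χ n = θ n) ∧
      InvUnder (A : Set (MulAut X)) χ := by
  classical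
  haveI : Finite (Cfsg.IrrCharacter X) := irr_finite
  haveI : Fintype (Cfsg.IrrCharacter X) := Fintype.ofFinite _
  have hcop : Nat.Coprime (Nat.card H) H.index := by
    obtain ⟨k, hk⟩ := IsPGroup.iff_card.mp hHp
    rw [hk]
    exact Nat.Coprime.pow_left k ((Nat.Prime.coprime_iff_not_dvd hp.out).mpr hidx)
  obtain ⟨χ₀, hχ₀, hχ₀ext⟩ := extends_of_coprime_card H θ hθ hinvX hcop
  letI : MulAction (MulAut X) (Cfsg.IrrCharacter X) := irrMulAction X
  letI : MulAction A (Cfsg.IrrCharacter X) := MulAction.compHom _ A.subtype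
  have hsmul : ∀ (t : A) (ψ : Cfsg.IrrCharacter X) (g : X),
      ((t • ψ : Cfsg.IrrCharacter X) : X → ℂ) g = (ψ : X → ℂ) ((t : MulAut X)⁻¹ g) :=
    fun _ _ _ => rfl
  set w : Cfsg.IrrCharacter X → ℕ := fun ψ => if (∀ n : H, (ψ : X → ℂ) n = θ n) then 1 else 0
    with hw
  have hwinv : ∀ (t : A) (ψ : Cfsg.IrrCharacter X), w (t • ψ) = w ψ := by
    intro t ψ
    have hiff : (∀ n : H, ((t • ψ : Cfsg.IrrCharacter X) : X → ℂ) n = θ n) ↔
        (∀ n : H, (ψ : X → ℂ) n = θ n) := by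
      constructor
      · intro h n
        have h1 := h ⟨(t : MulAut X) n, hAH t.1 t.2 n n.2⟩
        rw [hsmul] at h1
        have h2 : (t : MulAut X)⁻¹ ((t : MulAut X) (n : X)) = n := by
          rw [← MulAut.mul_apply, inv_mul_cancel]
          rfl
        rw [show ((⟨(t : MulAut X) n, hAH t.1 t.2 n n.2⟩ : H) : X) = (t : MulAut X) n from rfl,
          h2] at h1
        rw [h1]
        exact hinvA t.1 t.2 n ⟨(t : MulAut X) n, hAH t.1 t.2 n n.2⟩ rfl
      · intro h n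
        rw [hsmul]
        have hmem : (t : MulAut X)⁻¹ (n : X) ∈ H := hAH _ (inv_mem t.2) n n.2
        have h1 := h ⟨(t : MulAut X)⁻¹ n, hmem⟩
        rw [show ((⟨(t : MulAut X)⁻¹ n, hmem⟩ : H) : X) = (t : MulAut X)⁻¹ n from rfl] at h1
        rw [h1]
        exact hinvA _ (inv_mem t.2) n ⟨(t : MulAut X)⁻¹ n, hmem⟩ rfl
    simp only [hw]
    rw [if_congr hiff rfl rfl]
  set F : Finset (Cfsg.IrrCharacter X) := Finset.univ.filter (fun ψ => ∀ t : A, t • ψ = ψ)
    with hF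
  have hFmem : ∀ ψ : Cfsg.IrrCharacter X, ψ ∈ F ↔ ∀ t : A, t • ψ = ψ := by
    intro ψ
    rw [hF, Finset.mem_filter]
    simp
  have hmod := sum_modEq_sum_fixed hA w hwinv F hFmem
  have hsum : ∑ ψ, w ψ = Nat.card (trivOn H) := by
    rw [← card_extensions H θ hθ χ₀ hχ₀ hχ₀ext, Nat.card_eq_fintype_card, Fintype.card_subtype]
    simp only [hw]
    rw [Finset.sum_ite, Finset.sum_const_zero, add_zero, Finset.sum_const, smul_eq_mul, mul_one]
  have hnd : ¬ p ∣ ∑ ψ ∈ F, w ψ := by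
    intro hdvd
    apply not_dvd_card_trivOn (p := p) H hidx
    rw [← hsum]
    exact (Nat.modEq_zero_iff_dvd.mp (hmod.trans (Nat.modEq_zero_iff_dvd.mpr hdvd)))
  have hex : ∃ ψ ∈ F, w ψ ≠ 0 := by
    by_contra hcon
    simp only [not_exists, not_and, not_not] at hcon
    apply hnd
    rw [Finset.sum_eq_zero hcon]
    exact dvd_zero p
  obtain ⟨ψ, hψF, hψw⟩ := hex
  have hψext : ∀ n : H, (ψ : X → ℂ) n = θ n := by
    by_contra hcon
    apply hψw
    simp only [hw]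
    rw [if_neg hcon]
  refine ⟨ψ, ψ.2, hψext, ?_⟩
  intro a ha g
  have h1 := (hFmem ψ).mp hψF ⟨a⁻¹, inv_mem ha⟩
  have h2 := congrArg (fun φ : Cfsg.IrrCharacter X => (φ : X → ℂ) g) h1
  rw [hsmul] at h2
  rw [← h2]
  simp

end Cfsg.Agent.Helper6.RelGlaub
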