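import Mathlib
import Cfsg.Prelude.Def_Characters
import Cfsg.Agent.Helper6.Gallagher
import Cfsg.Agent.Helper6.GallagherProd
import Cfsg.Agent.Helper6.AbelianInertia
import Cfsg.Agent.Helper6.IrrCrit
import Cfsg.Agent.Helper6.IndFun

/-!
# Gallagher's parametrization, in the form needed for the relative Glauberman correspondence
-/

set_option autoImplicit false
set_option linter.style.haveILetI false
set_option linter.unusedSimpArgs false

namespace Cfsg.Agent.Helper6.RelGlaub

open scoped ComplexConjugate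

universe u

variable {Y : Type u} [Group Y]

/-- the average of `|χ|²` over a coset of `N` is one, for `χ` restricting irreducibly to `N` -/
theorem sum_coset_normSq [Fintype Y] (N : Subgroup Y) [hN : N.Normal] [Fintype N] (χ : Y → ℂ)
    (hχ : Cfsg.IsIrrCharacter Y χ) (hχN : Cfsg.IsIrrCharacter N (fun n : N => χ n)) (g : Y) :
    ∑ n : N, χ ((n : Y) * g) * conj (χ ((n : Y) * g)) = (Nat.card N : ℂ) := by
  have h := (gallagher_avg N χ hχ hχN χ hχ _ rfl).2.2 rfl
  have h1 := congrFun h g
  have hN0 : (Nat.card N : ℂ) ≠ 0 := by exact_mod_cast Nat.card_pos.ne'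
  field_simp at h1
  exact h1

/-- multiplication by an extension is an isometry on functions constant on cosets -/
theorem classInner_mul_ext [Fintype Y] (N : Subgroup Y) [hN : N.Normal] [Fintype N] (χ : Y → ℂ)
    (hχ : Cfsg.IsIrrCharacter Y χ) (hχN : Cfsg.IsIrrCharacter N (fun n : N => χ n))
    (α α' : Y → ℂ) (hα : ∀ (n : N) (y : Y), α ((n : Y) * y) = α y)
    (hα' : ∀ (n : N) (y : Y), α' ((n : Y) * y) = α' y) :
    Cfsg.classInner (α * χ) (α' * χ) = Cfsg.classInner α α' := by
  unfold Cfsg.classInner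
  congr 1
  have hN0 : (Nat.card N : ℂ) ≠ 0 := by exact_mod_cast Nat.card_pos.ne'
  apply mul_left_cancel₀ hN0
  have h1 : ∀ n : N, ∑ y : Y, (α * χ) y * conj ((α' * χ) y) =
      ∑ y : Y, α y * conj (α' y) * (χ ((n : Y) * y) * conj (χ ((n : Y) * y))) := by
    intro n
    refine (Equiv.sum_comp (Equiv.mulLeft (n : Y))
      (fun y => (α * χ) y * conj ((α' * χ) y))).symm.trans ?_
    apply Finset.sum_congr rfl
    intro y _
    simp only [Equiv.coe_mulLeft, Pi.mul_apply, map_mul, hα, hα']
    ring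
  calc (Nat.card N : ℂ) * ∑ y : Y, (α * χ) y * conj ((α' * χ) y)
      = ∑ n : N, ∑ y : Y, (α * χ) y * conj ((α' * χ) y) := by
        rw [Finset.sum_const, Finset.card_univ, nsmul_eq_mul, Nat.card_eq_fintype_card]
    _ = ∑ n : N, ∑ y : Y, α y * conj (α' y) * (χ ((n : Y) * y) * conj (χ ((n : Y) * y))) :=
        Finset.sum_congr rfl (fun n _ => h1 n)
    _ = ∑ y : Y, α y * conj (α' y) * ∑ n : N, (χ ((n : Y) * y) * conj (χ ((n : Y) * y))) := by
        rw [Finset.sum_comm]
        apply Finset.sum_congr rfl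
        intro y _
        rw [Finset.mul_sum]
    _ = ∑ y : Y, α y * conj (α' y) * (Nat.card N : ℂ) := by
        apply Finset.sum_congr rfl
        intro y _
        rw [sum_coset_normSq N χ hχ hχN y]
    _ = (Nat.card N : ℂ) * ∑ y : Y, α y * conj (α' y) := by
        rw [Finset.mul_sum]
        apply Finset.sum_congr rfl
        intro y _
        ring

/-- an irreducible character restricting irreducibly to `H` restricts irreducibly to every
subgroup containing `H` -/
theorem isIrrCharacter_restrict_of_ext [Fintype Y] (H D : Subgroup Y) [hH : H.Normal]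
    (hHD : H ≤ D) [Fintype H] [Fintype D] (χ : Y → ℂ) (hχ : Cfsg.IsIrrCharacter Y χ)
    (hχH : Cfsg.IsIrrCharacter H (fun n : H => χ n)) :
    Cfsg.IsIrrCharacter D (fun d : D => χ d) := by
  apply isIrrCharacter_of_classInner_self (IsCharacter.restrict D (IsIrrCharacter.isCharacter hχ))
  unfold Cfsg.classInner
  have hH0 : (Nat.card H : ℂ) ≠ 0 := by exact_mod_cast Nat.card_pos.ne'
  have hD0 : (Nat.card D : ℂ) ≠ 0 := by exact_mod_cast Nat.card_pos.ne'
  have h1 : ∀ h : H, ∑ d : D, χ d * conj (χ d) =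
      ∑ d : D, χ ((h : Y) * d) * conj (χ ((h : Y) * d)) := by
    intro h
    exact (Equiv.sum_comp (Equiv.mulLeft (⟨h, hHD h.2⟩ : D))
      (fun d : D => χ d * conj (χ d))).symm
  have h2 : (Nat.card H : ℂ) * ∑ d : D, χ d * conj (χ d) = (Nat.card H : ℂ) * (Nat.card D : ℂ) := by
    calc (Nat.card H : ℂ) * ∑ d : D, χ d * conj (χ d)
        = ∑ h : H, ∑ d : D, χ d * conj (χ d) := by
          rw [Finset.sum_const, Finset.card_univ, nsmul_eq_mul, Nat.card_eq_fintype_card]
      _ = ∑ h : H, ∑ d : D, χ ((h : Y) * d) * conj (χ ((h : Y) * d)) :=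
          Finset.sum_congr rfl (fun h _ => h1 h)
      _ = ∑ d : D, ∑ h : H, χ ((h : Y) * d) * conj (χ ((h : Y) * d)) := Finset.sum_comm
      _ = ∑ d : D, (Nat.card H : ℂ) := by
          apply Finset.sum_congr rfl
          intro d _
          exact sum_coset_normSq H χ hχ hχH d
      _ = (Nat.card H : ℂ) * (Nat.card D : ℂ) := by
          rw [Finset.sum_const, Finset.card_univ, nsmul_eq_mul, Nat.card_eq_fintype_card,
            Nat.card_eq_fintype_card, mul_comm]
  have h3 := mul_left_cancel₀ hH0 h2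
  rw [h3]
  field_simp

/-- an irreducible character lies over the trivial character of `N` iff `N` is in its kernel -/
theorem over_one_iff_ker [Fintype Y] (N : Subgroup Y) [hN : N.Normal] [Fintype N] (β : Y → ℂ)
    (hβ : Cfsg.IsIrrCharacter Y β) :
    Cfsg.classInner (fun n : N => β n) (fun _ => 1) ≠ 0 ↔ ∀ n ∈ N, β n = β 1 := by
  have h1irr : Cfsg.IsIrrCharacter N (fun _ : N => (1 : ℂ)) := by
    have := isIrrCharacter_of_hom (1 : N →* ℂˣ)
    simpa using this
  constructor
  · intro hne n hn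
    have h := clifford_invariant_top N (fun _ => 1) h1irr (fun x => rfl) β hβ hne
    have h2 := congrFun h ⟨n, hn⟩
    have h3 := congrFun h 1
    simp only [Pi.smul_apply, smul_eq_mul, mul_one] at h2 h3
    rw [h2]
    exact h3.symm
  · intro hker
    have h1 : (fun n : N => β n) = fun _ => β 1 := by
      funext n
      exact hker n n.2
    rw [h1]
    unfold Cfsg.classInner
    simp only [map_one, mul_one, Finset.sum_const, Finset.card_univ, nsmul_eq_mul]
    rw [Nat.card_eq_fintype_card]
    have hN0 : (Fintype.card N : ℂ) ≠ 0 := by exact_mod_cast Fintype.card_ne_zero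
    rw [← mul_assoc, inv_mul_cancel₀ hN0, one_mul]
    exact IsIrrCharacter.apply_one_ne_zero hβ

theorem gallagher_bijOn_one [Fintype Y] (N : Subgroup Y) [hN : N.Normal] [Fintype N] (χ : Y → ℂ)
    (hχ : Cfsg.IsIrrCharacter Y χ) (hχN : Cfsg.IsIrrCharacter N (fun n : N => χ n)) :
    Set.BijOn (fun β : Y → ℂ => β * χ)
      {β : Y → ℂ | Cfsg.IsIrrCharacter Y β ∧ ∀ n ∈ N, β n = β 1}
      {ψ : Y → ℂ | Cfsg.IsIrrCharacter Y ψ ∧
        Cfsg.classInner (fun n : N => ψ n) (fun n : N => χ n) ≠ 0} := by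
  have hχcf := IsCharacter.isClassFunction (IsIrrCharacter.isCharacter hχ)
  set φ : N → ℂ := fun _ => 1 with hφdef
  have hφ : Cfsg.IsIrrCharacter N φ := by
    have := isIrrCharacter_of_hom (1 : N →* ℂˣ)
    simpa using this
  have hθinv : ∀ (g : Y) (n : N),
      (fun n : N => χ n) ⟨g * n * g⁻¹, hN.conj_mem (n : Y) n.2 g⟩ = (fun n : N => χ n) n := by
    intro g n
    exact hχcf (n : Y) g
  have hφθ : φ * (fun n : N => χ n) = fun n : N => χ n := by
    funext n
    simp [hφdef]
  have hbij := mul_ext_bijOn N φ (fun n : N => χ n) hφ (fun _ _ => rfl) hθinv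
    (by rw [hφθ]; exact hχN) χ hχ (fun _ => rfl)
  rw [hφθ] at hbij
  have hS : {β : Y → ℂ | Cfsg.IsIrrCharacter Y β ∧ ∀ n ∈ N, β n = β 1} =
      {β : Y → ℂ | Cfsg.IsIrrCharacter Y β ∧ Cfsg.classInner (Cfsg.indFun N φ) β ≠ 0} := by
    ext β
    simp only [Set.mem_ofPred_eq]
    constructor
    · rintro ⟨hβ, hker⟩
      refine ⟨hβ, ?_⟩
      rw [frobenius_reciprocity N φ β (IsCharacter.isClassFunction (IsIrrCharacter.isCharacter hβ)),
        classInner_conj_symm]
      intro h0
      apply (over_one_iff_ker N β hβ).mpr hker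
      rw [map_eq_zero] at h0
      exact h0
    · rintro ⟨hβ, hne⟩
      refine ⟨hβ, (over_one_iff_ker N β hβ).mp ?_⟩
      rw [frobenius_reciprocity N φ β (IsCharacter.isClassFunction (IsIrrCharacter.isCharacter hβ)),
        classInner_conj_symm] at hne
      intro h0
      apply hne
      rw [h0, map_zero]
  have hT : {ψ : Y → ℂ | Cfsg.IsIrrCharacter Y ψ ∧
        Cfsg.classInner (fun n : N => ψ n) (fun n : N => χ n) ≠ 0} =
      {ψ : Y → ℂ | Cfsg.IsIrrCharacter Y ψ ∧
        Cfsg.classInner (Cfsg.indFun N (fun n : N => χ n)) ψ ≠ 0} := by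
    ext ψ
    simp only [Set.mem_ofPred_eq]
    constructor
    · rintro ⟨hψ, hne⟩
      refine ⟨hψ, ?_⟩
      rw [frobenius_reciprocity N _ ψ (IsCharacter.isClassFunction (IsIrrCharacter.isCharacter hψ)),
        classInner_conj_symm]
      intro h0
      apply hne
      rw [map_eq_zero] at h0
      exact h0
    · rintro ⟨hψ, hne⟩
      refine ⟨hψ, ?_⟩
      rw [frobenius_reciprocity N _ ψ (IsCharacter.isClassFunction (IsIrrCharacter.isCharacter hψ)),
        classInner_conj_symm] at hne
      intro h0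
      apply hne
      rw [h0, map_zero]
  rw [hS, hT]
  exact hbij

end Cfsg.Agent.Helper6.RelGlaub
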