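import Mathlib
import Cfsg.Prelude.Def_Characters
import Cfsg.Agent.Helper6.RelGlaubA
import Cfsg.Agent.Helper6.RelGlaubB
import Cfsg.Agent.Helper6.RelGlaubC
import Cfsg.Agent.Helper6.Constituent
import Cfsg.Agent.Helper6.BrauerPerm2

/-!
# The relative Glauberman correspondence over an invariant character of the normal Sylow subgroup
-/

set_option autoImplicit false
set_option linter.style.haveILetI false
set_option linter.unusedSimpArgs false

namespace Cfsg.Agent.Helper6.RelGlaub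

open scoped ComplexConjugate

universe u

variable {X : Type u} [Group X]

/-- invariance of a function on a subgroup under a set of automorphisms of the group -/
def InvOn (S : Set (MulAut X)) (Y : Subgroup X) (f : Y → ℂ) : Prop :=
  ∀ a ∈ S, ∀ y y' : Y, (y' : X) = a (y : X) → f y' = f y

/-- a class function with `N` in its kernel is constant on the cosets of `N` -/
theorem coset_const_of_ker [Finite X] (N : Subgroup X) {β : X → ℂ} (hβ : Cfsg.IsCharacter X β)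
    (hker : ∀ n ∈ N, β n = β 1) (n : N) (y : X) : β ((n : X) * y) = β y := by
  have hcf := IsCharacter.isClassFunction hβ
  have h1 : β ((n : X) * y) = β (y * (n : X)) := by
    have := hcf ((n : X) * y) y
    rw [← this]
    congr 1
    group
  rw [h1]
  exact char_mul_eq_of_apply_eq hβ (n : X) (hker n n.2) y

/-- the key inner product identity -/
theorem classInner_param [Fintype X] (H D : Subgroup X) [hHn : H.Normal] (hHD : H ≤ D)
    [Fintype H] [Fintype D] (χ : X → ℂ) (hχ : Cfsg.IsIrrCharacter X χ)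
    (hχH : Cfsg.IsIrrCharacter H (fun n : H => χ n)) (β : X → ℂ) (hβ : Cfsg.IsCharacter X β)
    (hβker : ∀ h ∈ H, β h = β 1) (γ : D → ℂ) (hγ : Cfsg.IsCharacter D γ)
    (hγker : ∀ d : D, (d : X) ∈ H → γ d = γ 1) :
    Cfsg.classInner (fun d : D => (β * χ) d) (γ * fun d : D => χ d) =
      Cfsg.classInner (fun d : D => β d) γ := by
  classical
  haveI : (H.subgroupOf D).Normal := hHn.subgroupOf D
  haveI : Fintype (H.subgroupOf D) := Fintype.ofFinite _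
  have hχD : Cfsg.IsIrrCharacter D (fun d : D => χ d) :=
    isIrrCharacter_restrict_of_ext H D hHD χ hχ hχH
  have hχDN : Cfsg.IsIrrCharacter (H.subgroupOf D)
      (fun n : H.subgroupOf D => (fun d : D => χ d) n) := by
    have := IsIrrCharacter.comp_mulEquiv (Subgroup.subgroupOfEquivOfLe hHD) hχH
    exact this
  have h := classInner_mul_ext (H.subgroupOf D) (fun d : D => χ d) hχD hχDN
    (fun d : D => β d) γ ?_ ?_
  · rw [← h]
    rfl
  · intro n d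
    have := coset_const_of_ker H hβ hβker ⟨(n : D), Subgroup.mem_subgroupOf.mp n.2⟩ (d : X)
    exact this
  · intro n d
    have hker' : ∀ m ∈ H.subgroupOf D, γ m = γ 1 :=
      fun m hm => hγker m (Subgroup.mem_subgroupOf.mp hm)
    exact coset_const_of_ker (H.subgroupOf D) hγ hker' n d

/-- restriction to `H`, computed inside a subgroup `D ⊇ H` -/
theorem classInner_subgroupOf_eq (H D : Subgroup X) (hHD : H ≤ D) [Fintype H]
    [Fintype (H.subgroupOf D)] (f : D → ℂ) (θ : H → ℂ) :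
    Cfsg.classInner (fun n : H.subgroupOf D => f n)
        (fun n : H.subgroupOf D => θ ⟨((n : D) : X), Subgroup.mem_subgroupOf.mp n.2⟩) =
      Cfsg.classInner (fun n : H => f ⟨n, hHD n.2⟩) θ := by
  rw [← classInner_comp_equiv' (Subgroup.subgroupOfEquivOfLe hHD).toEquiv
    (fun n : H => f ⟨n, hHD n.2⟩) θ]
  rfl

/-- An invariant extension and the two Gallagher parametrizations it gives. -/
theorem exists_param [Fintype X] {p : ℕ} [hp : Fact p.Prime] (H : Subgroup X)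
    [hHn : H.Normal] (A : Subgroup (MulAut X)) (hA : IsPGroup p A) (hHp : IsPGroup p H)
    (hidx : ¬ p ∣ H.index) (hAH : ∀ a ∈ A, ∀ h ∈ H, a h ∈ H) (D : Subgroup X) [Fintype D]
    (hHD : H ≤ D) (θ : H → ℂ) (hθ : Cfsg.IsIrrCharacter H θ)
    (hinvX : ∀ (g : X) (n : H), θ ⟨g * n * g⁻¹, hHn.conj_mem (n : X) n.2 g⟩ = θ n)
    (hinvA : ∀ a ∈ A, ∀ h h' : H, (h' : X) = a (h : X) → θ h' = θ h) [Fintype H] :
    ∃ χ : X → ℂ, Cfsg.IsIrrCharacter X χ ∧ (∀ n : H, χ n = θ n) ∧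
      InvUnder (A : Set (MulAut X)) χ ∧
      (∀ ψ : X → ℂ, Cfsg.IsIrrCharacter X ψ → Cfsg.classInner (fun n : H => ψ n) θ ≠ 0 →
        ∃ β : X → ℂ, Cfsg.IsIrrCharacter X β ∧ (∀ h ∈ H, β h = β 1) ∧ ψ = β * χ ∧
          (InvUnder (A : Set (MulAut X)) ψ → InvUnder (A : Set (MulAut X)) β)) ∧
      (∀ β : X → ℂ, Cfsg.IsIrrCharacter X β → (∀ h ∈ H, β h = β 1) →
        Cfsg.IsIrrCharacter X (β * χ) ∧ Cfsg.classInner (fun n : H => (β * χ) n) θ ≠ 0 ∧
          (InvUnder (A : Set (MulAut X)) β → InvUnder (A : Set (MulAut X)) (β * χ))) ∧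
      (∀ ν : Cfsg.IrrCharacter D,
        Cfsg.classInner (fun n : H => (ν : D → ℂ) ⟨n, hHD n.2⟩) θ ≠ 0 →
        ∃ γ : Cfsg.IrrCharacter D, (∀ d : D, (d : X) ∈ H → (γ : D → ℂ) d = (γ : D → ℂ) 1) ∧
          (ν : D → ℂ) = (γ : D → ℂ) * fun d : D => χ d) ∧
      (∀ γ : Cfsg.IrrCharacter D, (∀ d : D, (d : X) ∈ H → (γ : D → ℂ) d = (γ : D → ℂ) 1) →
        Cfsg.IsIrrCharacter D ((γ : D → ℂ) * fun d : D => χ d) ∧
        Cfsg.classInner (fun n : H => ((γ : D → ℂ) * fun d : D => χ d) ⟨n, hHD n.2⟩) θ ≠ 0) ∧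
      (∀ γ γ' : Cfsg.IrrCharacter D,
        (∀ d : D, (d : X) ∈ H → (γ : D → ℂ) d = (γ : D → ℂ) 1) →
        (∀ d : D, (d : X) ∈ H → (γ' : D → ℂ) d = (γ' : D → ℂ) 1) →
        (γ : D → ℂ) * (fun d : D => χ d) = (γ' : D → ℂ) * (fun d : D => χ d) → γ = γ') := by
  classical
  obtain ⟨χ, hχ, hχext, hχinv⟩ :=
    exists_invariant_extension H A hA hHp hidx hAH θ hθ hinvX hinvA
  have hχres : (fun n : H => χ n) = θ := funext hχext
  have hχH : Cfsg.IsIrrCharacter H (fun n : H => χ n) := by rw [hχres]; exact hθ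
  have hbijX := gallagher_bijOn_one H χ hχ hχH
  rw [hχres] at hbijX
  haveI : (H.subgroupOf D).Normal := hHn.subgroupOf D
  haveI : Fintype (H.subgroupOf D) := Fintype.ofFinite _
  have hχD : Cfsg.IsIrrCharacter D (fun d : D => χ d) :=
    isIrrCharacter_restrict_of_ext H D hHD χ hχ hχH
  have hχDN : Cfsg.IsIrrCharacter (H.subgroupOf D)
      (fun n : H.subgroupOf D => (fun d : D => χ d) n) := by
    have := IsIrrCharacter.comp_mulEquiv (Subgroup.subgroupOfEquivOfLe hHD) hχH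
    exact this
  have hbijD := gallagher_bijOn_one (H.subgroupOf D) (fun d : D => χ d) hχD hχDN
  have hθD : (fun n : H.subgroupOf D => (fun d : D => χ d) n) =
      fun n : H.subgroupOf D => θ ⟨((n : D) : X), Subgroup.mem_subgroupOf.mp n.2⟩ := by
    funext n
    exact hχext ⟨((n : D) : X), Subgroup.mem_subgroupOf.mp n.2⟩
  have hdeg_ne : ∀ (Y : Type u) [Group Y] [Finite Y] (β : Y → ℂ), Cfsg.IsIrrCharacter Y β →
      β 1 ≠ 0 := fun Y _ _ β hβ => IsIrrCharacter.apply_one_ne_zero hβ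
  refine ⟨χ, hχ, hχext, hχinv, ?_, ?_, ?_, ?_, ?_⟩
  · -- X-side surjectivity
    intro ψ hψ hover
    obtain ⟨β, ⟨hβ, hβker⟩, hβψ⟩ := hbijX.surjOn (show ψ ∈ _ from ⟨hψ, hover⟩)
    refine ⟨β, hβ, hβker, hβψ.symm, ?_⟩
    intro hψinv a ha g
    have hβ' : Cfsg.IsIrrCharacter X (β ∘ (a : X ≃* X)) := IsIrrCharacter.comp_mulEquiv a hβ
    have hβ'ker : ∀ h ∈ H, (β ∘ (a : X ≃* X)) h = (β ∘ (a : X ≃* X)) 1 := by
      intro h hh
      show β (a h) = β (a 1)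
      rw [map_one, hβker _ (hAH a ha h hh)]
    have heq : (fun β : X → ℂ => β * χ) (β ∘ (a : X ≃* X)) = (fun β : X → ℂ => β * χ) β := by
      funext g
      show β (a g) * χ g = β g * χ g
      have h1 : β (a g) * χ (a g) = ψ (a g) := by
        rw [← hβψ]
        rfl
      have h2 : β g * χ g = ψ g := by
        rw [← hβψ]
        rfl
      rw [h2, ← hψinv a ha g, ← h1, hχinv a ha g]
    have := hbijX.injOn (show (β ∘ (a : X ≃* X)) ∈ _ from ⟨hβ', hβ'ker⟩)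
      (show β ∈ _ from ⟨hβ, hβker⟩) heq
    exact congrFun this g
  · -- X-side: products
    intro β hβ hβker
    refine ⟨gallagher_irr H hχ hχH ⟨β, hβ⟩ hβker, ?_, ?_⟩
    · have h1 : (fun n : H => (β * χ) n) = β 1 • θ := by
        funext n
        show β n * χ n = β 1 * θ n
        rw [hβker n n.2, hχext]
      rw [h1, classInner_smul_left, classInner_irr_self hθ, mul_one]
      exact hdeg_ne X β hβ
    · intro hβinv a ha g
      show β (a g) * χ (a g) = β g * χ g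
      rw [hβinv a ha g, hχinv a ha g]
  · -- D-side surjectivity
    intro ν hover
    have hmem : (ν : D → ℂ) ∈ {ψ : D → ℂ | Cfsg.IsIrrCharacter D ψ ∧
        Cfsg.classInner (fun n : H.subgroupOf D => ψ n)
          (fun n : H.subgroupOf D => (fun d : D => χ d) n) ≠ 0} := by
      refine ⟨ν.2, ?_⟩
      rw [hθD, classInner_subgroupOf_eq H D hHD (ν : D → ℂ) θ]
      exact hover
    obtain ⟨γ, ⟨hγ, hγker⟩, hγν⟩ := hbijD.surjOn hmem
    refine ⟨⟨γ, hγ⟩, ?_, hγν.symm⟩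
    intro d hd
    exact hγker d (Subgroup.mem_subgroupOf.mpr hd)
  · -- D-side products
    intro γ hγker
    have hγker' : ∀ n ∈ H.subgroupOf D, (γ : D → ℂ) n = (γ : D → ℂ) 1 :=
      fun n hn => hγker n (Subgroup.mem_subgroupOf.mp hn)
    refine ⟨gallagher_irr (H.subgroupOf D) hχD hχDN γ hγker', ?_⟩
    have h1 : (fun n : H => ((γ : D → ℂ) * fun d : D => χ d) ⟨n, hHD n.2⟩) =
        (γ : D → ℂ) 1 • θ := by
      funext n
      show (γ : D → ℂ) ⟨n, hHD n.2⟩ * χ n = (γ : D → ℂ) 1 * θ n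
      rw [hγker ⟨n, hHD n.2⟩ n.2, hχext]
    rw [h1, classInner_smul_left, classInner_irr_self hθ, mul_one]
    exact hdeg_ne D (γ : D → ℂ) γ.2
  · -- D-side injectivity
    intro γ γ' hγker hγ'ker heq
    apply Subtype.ext
    exact hbijD.injOn
      (show (γ : D → ℂ) ∈ _ from ⟨γ.2, fun n hn => hγker n (Subgroup.mem_subgroupOf.mp hn)⟩)
      (show (γ' : D → ℂ) ∈ _ from ⟨γ'.2, fun n hn => hγ'ker n (Subgroup.mem_subgroupOf.mp hn)⟩)
      heq

/-- The relative Glauberman correspondence over an invariant character `θ` of the normal Sylow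
`p`-subgroup `H`. -/
theorem relGlaub_over_invariant [Fintype X] {p : ℕ} [hp : Fact p.Prime] (H : Subgroup X)
    [hHn : H.Normal] (A : Subgroup (MulAut X)) (hA : IsPGroup p A) (hHp : IsPGroup p H)
    (hidx : ¬ p ∣ H.index) (hAH : ∀ a ∈ A, ∀ h ∈ H, a h ∈ H) (D : Subgroup X) [Fintype D]
    (hHD : H ≤ D) (hD : ∀ x : X, x ∈ D ↔ ∀ a ∈ A, a x * x⁻¹ ∈ H)
    (θ : H → ℂ) (hθ : Cfsg.IsIrrCharacter H θ)
    (hinvX : ∀ (g : X) (n : H), θ ⟨g * n * g⁻¹, hHn.conj_mem (n : X) n.2 g⟩ = θ n)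
    (hinvA : ∀ a ∈ A, ∀ h h' : H, (h' : X) = a (h : X) → θ h' = θ h) [Fintype H] :
    (∀ ψ : X → ℂ, Cfsg.IsIrrCharacter X ψ → Cfsg.classInner (fun n : H => ψ n) θ ≠ 0 →
      InvUnder (A : Set (MulAut X)) ψ →
      ∃ ν₀ : Cfsg.IrrCharacter D,
        Cfsg.classInner (fun n : H => (ν₀ : D → ℂ) ⟨n, hHD n.2⟩) θ ≠ 0 ∧
        (∃ m : ℕ, Cfsg.classInner (fun d : D => ψ d) (ν₀ : D → ℂ) = (m : ℂ) ∧
          ((m : ℤ) ≡ 1 [ZMOD p] ∨ (m : ℤ) ≡ -1 [ZMOD p])) ∧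
        ∀ ν : Cfsg.IrrCharacter D,
          Cfsg.classInner (fun n : H => (ν : D → ℂ) ⟨n, hHD n.2⟩) θ ≠ 0 → ν ≠ ν₀ →
          ∃ m : ℕ, Cfsg.classInner (fun d : D => ψ d) (ν : D → ℂ) = (m : ℂ) ∧ p ∣ m) ∧
    (∀ ν : Cfsg.IrrCharacter D,
      Cfsg.classInner (fun n : H => (ν : D → ℂ) ⟨n, hHD n.2⟩) θ ≠ 0 →
      InvOn (A : Set (MulAut X)) D (ν : D → ℂ)) ∧
    (∀ ψ ψ' : X → ℂ, Cfsg.IsIrrCharacter X ψ → Cfsg.classInner (fun n : H => ψ n) θ ≠ 0 →
      InvUnder (A : Set (MulAut X)) ψ → Cfsg.IsIrrCharacter X ψ' →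
      Cfsg.classInner (fun n : H => ψ' n) θ ≠ 0 → InvUnder (A : Set (MulAut X)) ψ' →
      ∀ ν : Cfsg.IrrCharacter D,
        Cfsg.classInner (fun n : H => (ν : D → ℂ) ⟨n, hHD n.2⟩) θ ≠ 0 →
        (∃ m : ℕ, Cfsg.classInner (fun d : D => ψ d) (ν : D → ℂ) = (m : ℂ) ∧ ¬ p ∣ m) →
        (∃ m : ℕ, Cfsg.classInner (fun d : D => ψ' d) (ν : D → ℂ) = (m : ℂ) ∧ ¬ p ∣ m) →
        ψ = ψ') ∧
    (∀ ν : Cfsg.IrrCharacter D,
      Cfsg.classInner (fun n : H => (ν : D → ℂ) ⟨n, hHD n.2⟩) θ ≠ 0 →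
      ∃ ψ : X → ℂ, Cfsg.IsIrrCharacter X ψ ∧ Cfsg.classInner (fun n : H => ψ n) θ ≠ 0 ∧
        InvUnder (A : Set (MulAut X)) ψ ∧
        ∃ m : ℕ, Cfsg.classInner (fun d : D => ψ d) (ν : D → ℂ) = (m : ℂ) ∧ ¬ p ∣ m) := by
  classical
  obtain ⟨χ, hχ, hχext, hχinv, hXs, hXp, hDs, hDp, hDi⟩ :=
    exists_param H A hA hHp hidx hAH D hHD θ hθ hinvX hinvA
  obtain ⟨K1, K2, K3⟩ := relGlaub_kernel H A hA hidx hAH D hD
  have hχH : Cfsg.IsIrrCharacter H (fun n : H => χ n) := by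
    have : (fun n : H => χ n) = θ := funext hχext
    rw [this]
    exact hθ
  have hpar : ∀ (β : X → ℂ), Cfsg.IsIrrCharacter X β → (∀ h ∈ H, β h = β 1) →
      ∀ γ : Cfsg.IrrCharacter D, (∀ d : D, (d : X) ∈ H → (γ : D → ℂ) d = (γ : D → ℂ) 1) →
      Cfsg.classInner (fun d : D => (β * χ) d) ((γ : D → ℂ) * fun d : D => χ d) =
        Cfsg.classInner (β ∘ D.subtype) (γ : D → ℂ) := by
    intro β hβ hβker γ hγker
    exact classInner_param H D hHD χ hχ hχH β (IsIrrCharacter.isCharacter hβ) hβker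
      (γ : D → ℂ) (IsIrrCharacter.isCharacter γ.2) hγker
  refine ⟨?_, ?_, ?_, ?_⟩
  · intro ψ hψ hover hψinv
    obtain ⟨β, hβ, hβker, rfl, hβinv⟩ := hXs ψ hψ hover
    obtain ⟨γ₀, hγ₀ker, ⟨m, hm, hm1⟩, hrest⟩ := K1 β hβ hβker (hβinv hψinv)
    obtain ⟨hν₀irr, hν₀over⟩ := hDp γ₀ hγ₀ker
    refine ⟨⟨_, hν₀irr⟩, hν₀over, ⟨m, ?_, hm1⟩, ?_⟩
    · rw [← hm]
      exact hpar β hβ hβker γ₀ hγ₀ker
    · intro ν hνover hne
      obtain ⟨γ, hγker, hγν⟩ := hDs ν hνover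
      have hγne : γ ≠ γ₀ := by
        rintro rfl
        apply hne
        apply Subtype.ext
        exact hγν
      obtain ⟨m', hm', hdvd⟩ := hrest γ hγker hγne
      refine ⟨m', ?_, hdvd⟩
      rw [hγν, ← hm']
      exact hpar β hβ hβker γ hγker
  · intro ν hνover a ha d d' hdd'
    obtain ⟨γ, hγker, hγν⟩ := hDs ν hνover
    rw [hγν]
    show (γ : D → ℂ) d' * χ d' = (γ : D → ℂ) d * χ d
    have h1 : χ (d' : X) = χ (d : X) := by
      rw [hdd']
      exact hχinv a ha d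
    have hmem : a (d : X) * (d : X)⁻¹ ∈ H := (hD d).mp d.2 a ha
    have h2 : d' = (⟨⟨a (d : X) * (d : X)⁻¹, hHD hmem⟩, Subgroup.mem_subgroupOf.mpr hmem⟩ :
        H.subgroupOf D) * d := by
      apply Subtype.ext
      show (d' : X) = a (d : X) * (d : X)⁻¹ * d
      rw [hdd']
      group
    have hker' : ∀ m ∈ H.subgroupOf D, (γ : D → ℂ) m = (γ : D → ℂ) 1 :=
      fun m hm => hγker m (Subgroup.mem_subgroupOf.mp hm)
    have h3 : (γ : D → ℂ) d' = (γ : D → ℂ) d := by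
      rw [h2]
      exact coset_const_of_ker (H.subgroupOf D) (IsIrrCharacter.isCharacter γ.2) hker' _ d
    rw [h1, h3]
  · intro ψ ψ' hψ hover hψinv hψ' hover' hψ'inv ν hνover hrel hrel'
    obtain ⟨β, hβ, hβker, rfl, hβinv⟩ := hXs ψ hψ hover
    obtain ⟨β', hβ', hβ'ker, rfl, hβ'inv⟩ := hXs ψ' hψ' hover'
    obtain ⟨γ, hγker, hγν⟩ := hDs ν hνover
    have h1 : ∃ m : ℕ, Cfsg.classInner (β ∘ D.subtype) (γ : D → ℂ) = (m : ℂ) ∧ ¬ p ∣ m := by
      obtain ⟨m, hm, hnd⟩ := hrel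
      refine ⟨m, ?_, hnd⟩
      rw [← hm, hγν]
      exact (hpar β hβ hβker γ hγker).symm
    have h2 : ∃ m : ℕ, Cfsg.classInner (β' ∘ D.subtype) (γ : D → ℂ) = (m : ℂ) ∧ ¬ p ∣ m := by
      obtain ⟨m, hm, hnd⟩ := hrel'
      refine ⟨m, ?_, hnd⟩
      rw [← hm, hγν]
      exact (hpar β' hβ' hβ'ker γ hγker).symm
    have := K2 β β' hβ hβker (hβinv hψinv) hβ' hβ'ker (hβ'inv hψ'inv) γ hγker h1 h2
    rw [this]
  · intro ν hνover
    obtain ⟨γ, hγker, hγν⟩ := hDs ν hνover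
    obtain ⟨β, hβ, hβker, hβinv, m, hm, hnd⟩ := K3 γ hγker
    obtain ⟨hirr, hov, hinv⟩ := hXp β hβ hβker
    refine ⟨β * χ, hirr, hov, hinv hβinv, m, ?_, hnd⟩
    rw [← hm, hγν]
    exact hpar β hβ hβker γ hγker

end Cfsg.Agent.Helper6.RelGlaub
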