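import Mathlib
import Cfsg.Prelude.Def_Characters
import Cfsg.Prelude.Def_BlockLocal
import Cfsg.Agent.Helper6.RMcKAmb
import Cfsg.Agent.Helper6.AbelianInertia
import Cfsg.Agent.Helper6.LinearTransitive
import Cfsg.Agent.Helper6.CharTripleC
import Cfsg.Agent.Helper6.RelGlaubD

/-!
# Character theory of a pair of subgroups `A ≤ B` of an ambient finite group
-/

set_option autoImplicit false
set_option linter.style.haveILetI false
set_option linter.unusedSimpArgs false

namespace Cfsg.Agent.Helper6.RMcK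

open Cfsg.Agent.Helper6
open scoped ComplexConjugate

universe u

/-- the inner product of class functions on a finite group, with a canonical `Fintype` -/
noncomputable def ip {G : Type u} [Group G] [Finite G] (φ ψ : G → ℂ) : ℂ :=
  @Cfsg.classInner G _ (Fintype.ofFinite G) φ ψ

theorem ip_eq_classInner {G : Type u} [Group G] [Fintype G] (φ ψ : G → ℂ) :
    ip φ ψ = Cfsg.classInner φ ψ := by
  unfold ip
  congr
  exact Subsingleton.elim _ _

variable {Γ : Type u} [Group Γ]

/-- restriction along an inclusion of subgroups -/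
def res {A B : Subgroup Γ} (h : A ≤ B) (χ : B → ℂ) : A → ℂ :=
  fun a => χ (Subgroup.inclusion h a)

theorem res_apply {A B : Subgroup Γ} (h : A ≤ B) (χ : B → ℂ) (a : A) :
    res h χ a = χ ⟨a, h a.2⟩ := rfl

theorem res_res {A B D : Subgroup Γ} (h₁ : A ≤ B) (h₂ : B ≤ D) (χ : D → ℂ) :
    res h₁ (res h₂ χ) = res (h₁.trans h₂) χ := rfl

theorem res_one {A B : Subgroup Γ} (h : A ≤ B) (χ : B → ℂ) : res h χ 1 = χ 1 := rfl

theorem res_isCharacter {A B : Subgroup Γ} (h : A ≤ B) {χ : B → ℂ}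
    (hχ : Cfsg.IsCharacter B χ) : Cfsg.IsCharacter A (res h χ) :=
  IsCharacter.comp_hom (Subgroup.inclusion h) hχ

variable [Finite Γ]

/-- `χ` lies over `θ` -/
def Ov {A B : Subgroup Γ} (h : A ≤ B) (χ : B → ℂ) (θ : A → ℂ) : Prop := ip (res h χ) θ ≠ 0

/-- transport of an irreducible character of `A` to `A.subgroupOf B` -/
theorem irr_subgroupOf {A B : Subgroup Γ} (h : A ≤ B) {θ : A → ℂ}
    (hθ : Cfsg.IsIrrCharacter A θ) :
    Cfsg.IsIrrCharacter (A.subgroupOf B) (θ ∘ (Subgroup.subgroupOfEquivOfLe h)) :=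
  IsIrrCharacter.comp_mulEquiv _ hθ

theorem classInner_subgroupOf' {A B : Subgroup Γ} (h : A ≤ B) [Fintype A]
    [Fintype (A.subgroupOf B)] (χ : B → ℂ) (θ : A → ℂ) :
    Cfsg.classInner (fun n : A.subgroupOf B => χ n) (θ ∘ (Subgroup.subgroupOfEquivOfLe h)) =
      ip (res h χ) θ := by
  rw [ip_eq_classInner]
  exact RelGlaub.classInner_subgroupOf_eq A B h χ θ

omit [Finite Γ] in
theorem inv_subgroupOf {A B : Subgroup Γ} (h : A ≤ B) (θ : A → ℂ) (hB : B ≤ inertia A θ)
    (hn : (A.subgroupOf B).Normal) (g : B) (n : A.subgroupOf B) :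
    (θ ∘ (Subgroup.subgroupOfEquivOfLe h)) ⟨g * n * g⁻¹, hn.conj_mem (n : B) n.2 g⟩ =
      (θ ∘ (Subgroup.subgroupOfEquivOfLe h)) n :=
  (hB g.2).2 _ _ rfl

omit [Finite Γ] in
theorem normal_subgroupOf_of_le_inertia {A B : Subgroup Γ} (h : A ≤ B) (θ : A → ℂ)
    (hB : B ≤ inertia A θ) : (A.subgroupOf B).Normal :=
  (Subgroup.normal_subgroupOf_iff_le_normalizer h).mpr (hB.trans (inertia_le_normalizer A θ))

/-- Clifford for an invariant character: the restriction is a multiple. -/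
theorem res_eq_smul_of_invariant {A B : Subgroup Γ} (h : A ≤ B) (θ : A → ℂ)
    (hθ : Cfsg.IsIrrCharacter A θ) (hB : B ≤ inertia A θ) (χ : B → ℂ)
    (hχ : Cfsg.IsIrrCharacter B χ) (hov : Ov h χ θ) :
    ∃ f : ℕ, 0 < f ∧ res h χ = (f : ℂ) • θ ∧ ip (res h χ) θ = (f : ℂ) ∧ f ∣ A.relIndex B := by
  classical
  haveI := Fintype.ofFinite B
  haveI := Fintype.ofFinite A
  haveI := Fintype.ofFinite (A.subgroupOf B)
  haveI hn := normal_subgroupOf_of_le_inertia h θ hB
  set e := Subgroup.subgroupOfEquivOfLe h with he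
  have hθ' := irr_subgroupOf h hθ
  have hinner := classInner_subgroupOf' h χ θ
  have hov' : Cfsg.classInner (fun n : A.subgroupOf B => χ n) (θ ∘ e) ≠ 0 := by
    rw [hinner]
    exact hov
  have hinv' : ∀ x : B, conjFun (A.subgroupOf B) (θ ∘ e) x = θ ∘ e := by
    intro x
    funext n
    exact inv_subgroupOf h θ hB hn x n
  have hcl := clifford_invariant_top (A.subgroupOf B) (θ ∘ e) hθ' hinv' χ hχ hov'
  obtain ⟨f, hf⟩ := classInner_char_char_nat
    (IsCharacter.restrict (A.subgroupOf B) (IsIrrCharacter.isCharacter hχ))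
    (IsIrrCharacter.isCharacter hθ')
  have hf0 : f ≠ 0 := by
    rintro rfl
    rw [Nat.cast_zero] at hf
    exact hov' hf
  have hdvd := ramification_dvd_index (A.subgroupOf B) (θ ∘ e) hθ'
    (fun g n => inv_subgroupOf h θ hB hn g n) χ hχ f hf hf0
  refine ⟨f, Nat.pos_of_ne_zero hf0, ?_, ?_, hdvd⟩
  · funext a
    have := congrFun hcl (e.symm a)
    rw [hf] at this
    simp only [Pi.smul_apply, Function.comp_apply, MulEquiv.apply_symm_apply] at this
    rw [Pi.smul_apply, ← this]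
    rfl
  · rw [← hinner, hf]

end Cfsg.Agent.Helper6.RMcK
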