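import Mathlib
import Cfsg.Prelude.Def_Characters
import Cfsg.Agent.Helper6.CentralChar
import Cfsg.Agent.Helper6.Completeness
import Cfsg.Agent.Helper6.CliffordCorr
import Cfsg.Agent.Helper6.ColumnOrth
import Cfsg.Agent.Helper6.IndFun

/-!
# Relative second orthogonality over an invariant character of a normal subgroup
-/

set_option autoImplicit false
set_option linter.style.haveILetI false
set_option linter.unusedSimpArgs false

namespace Cfsg.Agent.Helper6.RMcK

open Cfsg.Agent.Helper6
open Module Representation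
open scoped ComplexConjugate

universe u

variable {G : Type u} [Group G]

/-- extension by zero of an invariant function on a normal subgroup is a class function -/
theorem extendByZero_isClassFunction (N : Subgroup G) [hN : N.Normal] (θ : N → ℂ)
    (hinv : ∀ (g : G) (n : N), θ ⟨g * n * g⁻¹, hN.conj_mem (n : G) n.2 g⟩ = θ n) :
    Cfsg.IsClassFunction G (Cfsg.extendByZero N θ) := by
  intro g h
  by_cases hg : g ∈ N
  · have h1 : h * g * h⁻¹ ∈ N := hN.conj_mem g hg h
    rw [extendByZero_mem N θ h1, extendByZero_mem N θ hg]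
    exact hinv h ⟨g, hg⟩
  · have h1 : h * g * h⁻¹ ∉ N := by
      intro hc
      apply hg
      have := hN.conj_mem _ hc h⁻¹
      simpa [mul_assoc] using this
    rw [extendByZero_not_mem N θ h1, extendByZero_not_mem N θ hg]

/-- The projection onto the part lying over an invariant `θ`. -/
theorem proj_irr [Fintype G] (N : Subgroup G) [hN : N.Normal] [Fintype N] (θ : N → ℂ)
    (hθ : Cfsg.IsIrrCharacter N θ)
    (hinv : ∀ (g : G) (n : N), θ ⟨g * n * g⁻¹, hN.conj_mem (n : G) n.2 g⟩ = θ n)
    (χ : G → ℂ) (hχ : Cfsg.IsIrrCharacter G χ) (g : G) :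
    ∑ y : G, conj (Cfsg.extendByZero N θ y) * χ (g * y) =
      if Cfsg.classInner (fun n : N => χ n) θ ≠ 0 then (Nat.card N : ℂ) / θ 1 * χ g else 0 := by
  classical
  obtain ⟨d, ρ, hirr, rfl⟩ := hχ
  haveI := hirr
  set F : G → ℂ := fun y => conj (Cfsg.extendByZero N θ y) with hF
  have hFcf : Cfsg.IsClassFunction G F := by
    intro a b
    simp only [hF]
    rw [extendByZero_isClassFunction N θ hinv a b]
  set T : (Fin d → ℂ) →ₗ[ℂ] (Fin d → ℂ) := ∑ y, F y • ρ y with hT
  obtain ⟨c, hc⟩ := exists_scalar_of_commute ρ T (fun h => sum_smul_rep_comm ρ F hFcf h)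
  -- the sum is trace (ρ g ∘ T)
  have hsum : ∀ g : G, ∑ y : G, F y * ρ.character (g * y) = c * ρ.character g := by
    intro g
    have h1 : LinearMap.trace ℂ (Fin d → ℂ) (ρ g * T) = ∑ y : G, F y * ρ.character (g * y) := by
      rw [hT, Finset.mul_sum, map_sum]
      apply Finset.sum_congr rfl
      intro y _
      rw [mul_smul_comm, map_smul, smul_eq_mul, ← map_mul]
      rfl
    rw [← h1, hc]
    have : ρ g * (c • (LinearMap.id : (Fin d → ℂ) →ₗ[ℂ] (Fin d → ℂ))) = c • ρ g := by
      rw [mul_smul_comm]
      congr 1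
    rw [this, map_smul, smul_eq_mul]
    rfl
  have hone : c * ρ.character 1 =
      (Nat.card N : ℂ) * Cfsg.classInner (fun n : N => ρ.character n) θ := by
    rw [← hsum 1]
    have h2 : ∑ y : G, F y * ρ.character (1 * y) =
        ∑ y : G, conj (Cfsg.extendByZero N θ y) * ρ.character y := by
      apply Finset.sum_congr rfl
      intro y _
      rw [one_mul]
    rw [h2]
    have h3 : ∑ y : G, conj (Cfsg.extendByZero N θ y) * ρ.character y =
        ∑ n : N, conj (θ n) * ρ.character n := by
      have := sum_extendByZero_mul N (fun n => conj (θ n)) (fun y => ρ.character y)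
      rw [← this]
      apply Finset.sum_congr rfl
      intro y _
      congr 1
      by_cases hy : y ∈ N
      · rw [extendByZero_mem N θ hy, extendByZero_mem N _ hy]
      · rw [extendByZero_not_mem N θ hy, extendByZero_not_mem N _ hy, map_zero]
    rw [h3]
    unfold Cfsg.classInner
    have hN0 : (Nat.card N : ℂ) ≠ 0 := by
      exact_mod_cast (Nat.card_pos (α := N)).ne'
    rw [← mul_assoc, mul_inv_cancel₀ hN0, one_mul]
    apply Finset.sum_congr rfl
    intro n _
    ring
  have hχirr : Cfsg.IsIrrCharacter G ρ.character := ⟨d, ρ, hirr, rfl⟩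
  have hk0 : ρ.character 1 ≠ 0 := by
    intro h0
    have := eq_zero_of_isCharacter_of_apply_one (IsIrrCharacter.isCharacter hχirr) h0
    have h1 := classInner_irr_self hχirr
    rw [this] at h1
    simp [Cfsg.classInner] at h1
  show ∑ y : G, F y * ρ.character (g * y) = _
  rw [hsum g]
  by_cases hov : Cfsg.classInner (fun n : N => ρ.character n) θ ≠ 0
  · rw [if_pos hov]
    have hcl := clifford_of_invariant N ⊤ le_top θ hθ (fun t _ => by
      funext n
      exact hinv t n) (fun t : (⊤ : Subgroup G) => ρ.character t)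
      (IsIrrCharacter.comp_mulEquiv Subgroup.topEquiv hχirr) hov
    have hcl1 := congrFun hcl 1
    simp only [Pi.smul_apply, smul_eq_mul] at hcl1
    have hcl1' : ρ.character 1 = Cfsg.classInner (fun n : N => ρ.character n) θ * θ 1 := hcl1
    have hθ1 : θ 1 ≠ 0 := by
      intro h0
      rw [h0, mul_zero] at hcl1'
      exact hk0 hcl1'
    have hcval : c = (Nat.card N : ℂ) / θ 1 := by
      rw [hcl1'] at hone
      rw [eq_div_iff hθ1]
      have h5 : c * θ 1 * Cfsg.classInner (fun n : N => ρ.character n) θ =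
          (Nat.card N : ℂ) * Cfsg.classInner (fun n : N => ρ.character n) θ := by
        linear_combination hone
      exact mul_right_cancel₀ hov h5
    rw [hcval]
  · rw [if_neg hov]
    rw [not_not] at hov
    rw [hov, mul_zero] at hone
    rcases mul_eq_zero.mp hone with h | h
    · rw [h, zero_mul]
    · exact absurd h hk0

/-- number of elements conjugating `x` to `z` -/
theorem card_conj_fiber [Fintype G] [DecidableEq G] (x z : G) [Decidable (IsConj z x)] :
    ((Finset.univ.filter (fun c : G => c⁻¹ * x * c = z)).card : ℂ) =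
      if IsConj z x then (Nat.card (Subgroup.centralizer ({z} : Set G)) : ℂ) else 0 := by
  classical
  by_cases hconj : IsConj z x
  · rw [if_pos hconj]
    obtain ⟨c₀, hc₀⟩ := isConj_iff.mp hconj
    -- c₀ * z * c₀⁻¹ = x
    have hbij : (Finset.univ.filter (fun c : G => c⁻¹ * x * c = z)).card =
        Nat.card (Subgroup.centralizer ({z} : Set G)) := by
      rw [Nat.card_eq_fintype_card, ← Finset.card_univ]
      symm
      apply Finset.card_bij (fun (k : Subgroup.centralizer ({z} : Set G)) _ => c₀ * (k : G))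
      · intro k _
        simp only [Finset.mem_filter, Finset.mem_univ, true_and]
        have hk : (k : G) * z = z * (k : G) := by
          have := Subgroup.mem_centralizer_iff.mp k.2 z (Set.mem_singleton z)
          exact this.symm
        rw [← hc₀]
        calc (c₀ * (k : G))⁻¹ * (c₀ * z * c₀⁻¹) * (c₀ * (k : G))
            = (k : G)⁻¹ * (z * (k : G)) := by group
          _ = (k : G)⁻¹ * ((k : G) * z) := by rw [hk]
          _ = z := by group
      · intro a _ b _ hab
        exact Subtype.ext (mul_left_cancel hab)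
      · intro c hc
        simp only [Finset.mem_filter, Finset.mem_univ, true_and] at hc
        refine ⟨⟨c₀⁻¹ * c, ?_⟩, Finset.mem_univ _, by simp⟩
        rw [Subgroup.mem_centralizer_iff]
        intro y hy
        rw [Set.mem_singleton_iff] at hy
        subst hy
        rw [← hc₀] at hc
        -- c⁻¹ c₀ y c₀⁻¹ c = y
        have h1 : (c₀⁻¹ * c)⁻¹ * y * (c₀⁻¹ * c) = y := by
          calc (c₀⁻¹ * c)⁻¹ * y * (c₀⁻¹ * c) = c⁻¹ * (c₀ * y * c₀⁻¹) * c := by group
            _ = y := hc
        calc y * (c₀⁻¹ * c) = (c₀⁻¹ * c) * ((c₀⁻¹ * c)⁻¹ * y * (c₀⁻¹ * c)) := by group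
          _ = (c₀⁻¹ * c) * y := by rw [h1]
    rw [hbij]
  · rw [if_neg hconj]
    have : (Finset.univ.filter (fun c : G => c⁻¹ * x * c = z)) = ∅ := by
      rw [Finset.filter_eq_empty_iff]
      intro c _ hc
      apply hconj
      rw [isConj_iff]
      refine ⟨c, ?_⟩
      rw [← hc]
      group
    rw [this]
    simp

/-- Relative second orthogonality: the sum of `|χ(x)|²` over the `χ` above an invariant `θ`. -/
theorem rel_second_orth [Fintype G] [Fintype (Cfsg.IrrCharacter G)] (N : Subgroup G)
    [hN : N.Normal] [Fintype N] (θ : N → ℂ) (hθ : Cfsg.IsIrrCharacter N θ)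
    (hinv : ∀ (g : G) (n : N), θ ⟨g * n * g⁻¹, hN.conj_mem (n : G) n.2 g⟩ = θ n) (x : G)
    [DecidablePred fun χ : Cfsg.IrrCharacter G =>
      Cfsg.classInner (fun n : N => (χ : G → ℂ) n) θ ≠ 0] :
    ∑ χ : Cfsg.IrrCharacter G,
      (if Cfsg.classInner (fun n : N => (χ : G → ℂ) n) θ ≠ 0 then
        (χ : G → ℂ) x * conj ((χ : G → ℂ) x) else 0) =
      θ 1 / (Nat.card N : ℂ) *
        ∑ c : G, conj (Cfsg.extendByZero N θ (x⁻¹ * c⁻¹ * x * c)) := by
  classical
  have hN0 : (Nat.card N : ℂ) ≠ 0 := by
    exact_mod_cast (Nat.card_pos (α := N)).ne'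
  have hθ1 : θ 1 ≠ 0 := by
    intro h0
    have := eq_zero_of_isCharacter_of_apply_one (IsIrrCharacter.isCharacter hθ) h0
    have h1 := classInner_irr_self hθ
    rw [this] at h1
    simp [Cfsg.classInner] at h1
  -- step 1: rewrite each summand by the projection
  have h1 : ∀ χ : Cfsg.IrrCharacter G,
      (if Cfsg.classInner (fun n : N => (χ : G → ℂ) n) θ ≠ 0 then
        (χ : G → ℂ) x * conj ((χ : G → ℂ) x) else 0) =
      θ 1 / (Nat.card N : ℂ) * ∑ y : G, conj (Cfsg.extendByZero N θ y) *
        ((χ : G → ℂ) (x * y) * conj ((χ : G → ℂ) x)) := by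
    intro χ
    have hp := proj_irr N θ hθ hinv (χ : G → ℂ) χ.2 x
    have h2 : ∑ y : G, conj (Cfsg.extendByZero N θ y) *
        ((χ : G → ℂ) (x * y) * conj ((χ : G → ℂ) x)) =
        (∑ y : G, conj (Cfsg.extendByZero N θ y) * (χ : G → ℂ) (x * y)) *
          conj ((χ : G → ℂ) x) := by
      rw [Finset.sum_mul]
      apply Finset.sum_congr rfl
      intro y _
      ring
    rw [h2, hp]
    by_cases hov : Cfsg.classInner (fun n : N => (χ : G → ℂ) n) θ ≠ 0
    · rw [if_pos hov, if_pos hov]
      field_simp
    · rw [if_neg hov, if_neg hov]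
      simp
  rw [Finset.sum_congr rfl (fun χ _ => h1 χ), ← Finset.mul_sum]
  congr 1
  rw [Finset.sum_comm]
  -- now sum over y of conj F(y) * (column orthogonality)
  have h3 : ∀ y : G, ∑ χ : Cfsg.IrrCharacter G, conj (Cfsg.extendByZero N θ y) *
      ((χ : G → ℂ) (x * y) * conj ((χ : G → ℂ) x)) =
      conj (Cfsg.extendByZero N θ y) *
        ((Finset.univ.filter (fun c : G => c⁻¹ * x * c = x * y)).card : ℂ) := by
    intro y
    rw [← Finset.mul_sum, column_orthogonality_aux (x * y) x, card_conj_fiber x (x * y)]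
  rw [Finset.sum_congr rfl (fun y _ => h3 y)]
  -- the right side, fibered
  have h4 : ∑ c : G, conj (Cfsg.extendByZero N θ (x⁻¹ * c⁻¹ * x * c)) =
      ∑ c : G, ∑ y : G, if c⁻¹ * x * c = x * y then conj (Cfsg.extendByZero N θ y) else 0 := by
    apply Finset.sum_congr rfl
    intro c _
    rw [Finset.sum_eq_single (x⁻¹ * c⁻¹ * x * c)]
    · rw [if_pos (by group)]
    · intro y _ hy
      rw [if_neg]
      intro h
      apply hy
      have h5 : y = x⁻¹ * (x * y) := by group
      rw [h5, ← h]
      group
    · intro h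
      exact absurd (Finset.mem_univ _) h
  rw [h4, Finset.sum_comm]
  apply Finset.sum_congr rfl
  intro y _
  rw [← Finset.sum_filter, Finset.sum_const, nsmul_eq_mul, mul_comm]

end Cfsg.Agent.Helper6.RMcK
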