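import Mathlib
import Cfsg.Prelude.Def_Characters
import Cfsg.Agent.Helper6.RMcKGoodA
import Cfsg.Agent.Helper6.EquivOfChar

/-!
# Averaging over a subgroup on which an irreducible character stays irreducible
-/

set_option autoImplicit false
set_option linter.style.haveILetI false
set_option linter.unusedSimpArgs false

namespace Cfsg.Agent.Helper6.RMcK

open Cfsg.Agent.Helper6
open Module Representation
open scoped ComplexConjugate

universe u

/-- If `φ ∈ Irr(Y)` stays irreducible along `ι : M →* Y`, then averaging `φ(m a m⁻¹ b)` over `M`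
gives `φ(a) φ(b) / φ(1)`. -/
theorem sum_conj_mul_of_irr_restrict {Y M : Type u} [Group Y] [Group M] [Fintype M]
    (ι : M →* Y) (φ : Y → ℂ) (hφ : Cfsg.IsIrrCharacter Y φ)
    (hφM : Cfsg.IsIrrCharacter M (fun m : M => φ (ι m))) (a b : Y) :
    ∑ m : M, φ (ι m * a * (ι m)⁻¹ * b) = (Nat.card M : ℂ) / φ 1 * φ a * φ b := by
  classical
  obtain ⟨d, ρ, hirr, rfl⟩ := hφ
  set ρM : Representation ℂ M (Fin d → ℂ) := ρ.comp ι with hρM
  have hchar : ρM.character = fun m : M => ρ.character (ι m) := by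
    funext m
    rfl
  obtain ⟨d', σ, hσirr, hσ⟩ := hφM
  have hρMirr : ρM.IsIrreducible := by
    obtain ⟨e⟩ := equiv_of_char_eq σ ρM (hσ.trans hchar.symm)
    exact isIrreducible_of_equiv e hσirr
  haveI := hρMirr
  set T : (Fin d → ℂ) →ₗ[ℂ] (Fin d → ℂ) := ∑ m : M, ρ (ι m * a * (ι m)⁻¹) with hT
  have hcomm : ∀ n : M, T ∘ₗ ρM n = ρM n ∘ₗ T := by
    intro n
    change T * ρ (ι n) = ρ (ι n) * T
    rw [hT, Finset.sum_mul, Finset.mul_sum]
    rw [← Equiv.sum_comp (Equiv.mulLeft n)
      (fun m => ρ (ι m * a * (ι m)⁻¹) * ρ (ι n))]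
    apply Finset.sum_congr rfl
    intro m _
    rw [← map_mul, ← map_mul]
    congr 1
    simp only [Equiv.coe_mulLeft, map_mul, mul_inv_rev]
    group
  obtain ⟨c, hc⟩ := exists_scalar_of_commute ρM T hcomm
  have hd : ρ.character 1 = (d : ℂ) := by
    simp [Representation.character]
  have hd0 : (d : ℂ) ≠ 0 := by
    intro h0
    have hd00 : d = 0 := by exact_mod_cast h0
    subst hd00
    haveI := hirr
    have hbt : (⊥ : Subrepresentation ρ) ≠ ⊤ := bot_ne_top
    apply hbt
    apply Subrepresentation.toSubmodule_injective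
    exact Subsingleton.elim _ _
  -- trace of T
  have htr : (Nat.card M : ℂ) * ρ.character a = c * (d : ℂ) := by
    have h1 := congrArg (LinearMap.trace ℂ (Fin d → ℂ)) hc
    rw [hT, map_sum, map_smul, LinearMap.trace_id, smul_eq_mul] at h1
    have h2 : ∀ m : M, LinearMap.trace ℂ (Fin d → ℂ) (ρ (ι m * a * (ι m)⁻¹)) = ρ.character a := by
      intro m
      have := Representation.char_conj ρ a (ι m)
      exact this
    rw [Finset.sum_congr rfl (fun m _ => h2 m), Finset.sum_const, Finset.card_univ,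
      nsmul_eq_mul, ← Nat.card_eq_fintype_card] at h1
    simpa using h1
  have hsum : ∑ m : M, ρ.character (ι m * a * (ι m)⁻¹ * b) = c * ρ.character b := by
    have h1 : LinearMap.trace ℂ (Fin d → ℂ) (T * ρ b) =
        ∑ m : M, ρ.character (ι m * a * (ι m)⁻¹ * b) := by
      rw [hT, Finset.sum_mul, map_sum]
      apply Finset.sum_congr rfl
      intro m _
      rw [← map_mul]
      rfl
    rw [← h1, hc]
    have : (c • (LinearMap.id : (Fin d → ℂ) →ₗ[ℂ] (Fin d → ℂ))) * ρ b = c • ρ b := by
      rw [smul_mul_assoc]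
      congr 1
    rw [this, map_smul, smul_eq_mul]
    rfl
  rw [hsum, hd]
  have hcval : c = (Nat.card M : ℂ) * ρ.character a / (d : ℂ) := by
    rw [eq_div_iff hd0]
    exact htr.symm
  rw [hcval]
  field_simp

end Cfsg.Agent.Helper6.RMcK
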