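import Mathlib
import Cfsg.Prelude.Def_Characters
import Cfsg.Agent.Helper6.RMcKGoodB

/-!
# Evaluating the relative second orthogonality sum through an extension to `⟨N, x⟩`
-/

set_option autoImplicit false
set_option linter.style.haveILetI false
set_option linter.unusedSimpArgs false

namespace Cfsg.Agent.Helper6.RMcK

open Cfsg.Agent.Helper6
open scoped ComplexConjugate

universe u

variable {G : Type u} [Group G]

theorem comm_mul_right_mem (N : Subgroup G) [hN : N.Normal] (x c : G) (m : N) :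
    x⁻¹ * (c * m)⁻¹ * x * (c * m) ∈ N ↔ x⁻¹ * c⁻¹ * x * c ∈ N := by
  have h1 : x⁻¹ * (c * m)⁻¹ * x * (c * m) =
      (x⁻¹ * (m : G)⁻¹ * x⁻¹⁻¹) * (x⁻¹ * c⁻¹ * x * c) * (m : G) := by group
  rw [h1]
  have hm1 : x⁻¹ * (m : G)⁻¹ * x⁻¹⁻¹ ∈ N := hN.conj_mem _ (N.inv_mem m.2) _
  constructor
  · intro h
    have h2 := N.mul_mem (N.mul_mem (N.inv_mem hm1) h) (N.inv_mem m.2)
    have h3 : (x⁻¹ * (m : G)⁻¹ * x⁻¹⁻¹)⁻¹ * ((x⁻¹ * (m : G)⁻¹ * x⁻¹⁻¹) * (x⁻¹ * c⁻¹ * x * c) *
        (m : G)) * (m : G)⁻¹ = x⁻¹ * c⁻¹ * x * c := by group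
    rwa [h3] at h2
  · intro h
    exact N.mul_mem (N.mul_mem hm1 h) m.2

/-- evaluation of the commutator sum through an extension `φ` of `θ` to a subgroup `Y ∋ x` -/
theorem comm_sum_eval [Fintype G] (N : Subgroup G) [hN : N.Normal] [Fintype N] (θ : N → ℂ)
    (hθ : Cfsg.IsIrrCharacter N θ) (Y : Subgroup G) (hNY : N ≤ Y) (φ : Y → ℂ)
    (hφ : Cfsg.IsIrrCharacter Y φ) (hext : ∀ n : N, φ ⟨n, hNY n.2⟩ = θ n)
    (x : G) (hxY : x ∈ Y) [DecidablePred fun g : G => g ∈ N] :
    ∑ c : G, conj (Cfsg.extendByZero N θ (x⁻¹ * c⁻¹ * x * c)) =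
      (θ 1)⁻¹ * ∑ c : G, (if x⁻¹ * c⁻¹ * x * c ∈ N then
        φ ⟨x, hxY⟩ * conj (Cfsg.extendByZero Y φ (c⁻¹ * x * c)) else 0) := by
  classical
  haveI : Finite Y := inferInstance
  have hN0 : (Nat.card N : ℂ) ≠ 0 := by
    exact_mod_cast (Nat.card_pos (α := N)).ne'
  have hθ1 : θ 1 ≠ 0 := by
    intro h0
    have := eq_zero_of_isCharacter_of_apply_one (IsIrrCharacter.isCharacter hθ) h0
    have h1 := classInner_irr_self hθ
    rw [this] at h1
    simp [Cfsg.classInner] at h1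
  have hφ1 : φ 1 = θ 1 := hext 1
  obtain ⟨k, hk⟩ := IsCharacter.apply_one (IsIrrCharacter.isCharacter hθ)
  set f : G → ℂ := fun c => conj (Cfsg.extendByZero N θ (x⁻¹ * c⁻¹ * x * c)) with hf
  -- averaging over right translation by `N`
  have havg : ∑ c : G, f c = (Nat.card N : ℂ)⁻¹ * ∑ c : G, ∑ m : N, f (c * m) := by
    rw [Finset.sum_comm]
    have : ∀ m : N, ∑ c : G, f (c * m) = ∑ c : G, f c := by
      intro m
      exact Equiv.sum_comp (Equiv.mulRight (m : G)) f
    rw [Finset.sum_congr rfl (fun m _ => this m), Finset.sum_const, Finset.card_univ,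
      nsmul_eq_mul, ← Nat.card_eq_fintype_card, ← mul_assoc, inv_mul_cancel₀ hN0, one_mul]
  rw [havg, Finset.mul_sum, Finset.mul_sum]
  apply Finset.sum_congr rfl
  intro c _
  by_cases hz : x⁻¹ * c⁻¹ * x * c ∈ N
  · rw [if_pos hz]
    have hx'Y : c⁻¹ * x * c ∈ Y := by
      have : c⁻¹ * x * c = x * (x⁻¹ * c⁻¹ * x * c) := by group
      rw [this]
      exact Y.mul_mem hxY (hNY hz)
    rw [extendByZero_mem Y φ hx'Y]
    set a₀ : Y := ⟨x⁻¹, Y.inv_mem hxY⟩ with ha₀
    set b : Y := ⟨c⁻¹ * x * c, hx'Y⟩ with hb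
    have hterm : ∀ m : N, f (c * m) =
        conj (φ (Subgroup.inclusion hNY m * a₀ * (Subgroup.inclusion hNY m)⁻¹ * b)) := by
      intro m
      have hmem : x⁻¹ * (c * m)⁻¹ * x * (c * m) ∈ N := (comm_mul_right_mem N x c m).mpr hz
      simp only [hf]
      rw [extendByZero_mem N θ hmem, ← hext]
      congr 1
      have hcf := IsCharacter.isClassFunction (IsIrrCharacter.isCharacter hφ)
      have h1 : (⟨x⁻¹ * (c * m)⁻¹ * x * (c * m), hNY hmem⟩ : Y) =
          a₀ * (Subgroup.inclusion hNY m)⁻¹ * b * Subgroup.inclusion hNY m := by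
        apply Subtype.ext
        simp only [ha₀, hb, Subgroup.coe_mul, Subgroup.coe_inv, Subgroup.coe_inclusion]
        group
      rw [h1]
      have h2 := hcf (a₀ * (Subgroup.inclusion hNY m)⁻¹ * b * Subgroup.inclusion hNY m)
        (Subgroup.inclusion hNY m)
      rw [← h2]
      congr 1
      group
    rw [Finset.sum_congr rfl (fun m _ => hterm m), ← map_sum]
    have hR := sum_conj_mul_of_irr_restrict (Subgroup.inclusion hNY) φ hφ (by
      have : (fun m : N => φ (Subgroup.inclusion hNY m)) = θ := by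
        funext m
        exact hext m
      rw [this]
      exact hθ) a₀ b
    rw [hR, hφ1, hk]
    have hinvx : φ a₀ = conj (φ ⟨x, hxY⟩) := by
      have := IsCharacter.inv_eq_conj (IsIrrCharacter.isCharacter hφ) (⟨x, hxY⟩ : Y)
      rw [← this]
      rfl
    rw [hinvx]
    simp only [map_mul, map_div₀, map_natCast, Complex.conj_conj]
    have hk0 : (k : ℂ) ≠ 0 := by rw [← hk]; exact hθ1
    field_simp
  · rw [if_neg hz, mul_zero]
    have : ∀ m : N, f (c * m) = 0 := by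
      intro m
      have hmem : x⁻¹ * (c * m)⁻¹ * x * (c * m) ∉ N := by
        rw [comm_mul_right_mem N x c m]
        exact hz
      simp only [hf]
      rw [extendByZero_not_mem N θ hmem, map_zero]
    rw [Finset.sum_congr rfl (fun m _ => this m)]
    simp

end Cfsg.Agent.Helper6.RMcK
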