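import Mathlib
import Cfsg.Prelude.Def_Characters
import Cfsg.Prelude.Def_BlockLocal
import Cfsg.Agent.Helper6.RMcKGoodC
import Cfsg.Agent.Helper6.RMcKBase
import Cfsg.Agent.Helper6.RelGlaubB

/-!
# The sum of `|χ(x)|²` over the characters above an invariant `θ`
-/

set_option autoImplicit false
set_option linter.style.haveILetI false
set_option linter.unusedSimpArgs false

namespace Cfsg.Agent.Helper6.RMcK

open Cfsg.Agent.Helper6
open scoped ComplexConjugate

universe u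

variable {G : Type u} [Group G]

/-- the elements commuting with `x` modulo `N` -/
def commStab (N : Subgroup G) [N.Normal] (x : G) : Subgroup G :=
  (Subgroup.centralizer ({(QuotientGroup.mk x : G ⧸ N)} : Set (G ⧸ N))).comap
    (QuotientGroup.mk' N)

theorem mem_commStab (N : Subgroup G) [hN : N.Normal] (x c : G) :
    c ∈ commStab N x ↔ x⁻¹ * c⁻¹ * x * c ∈ N := by
  unfold commStab
  rw [Subgroup.mem_comap, Subgroup.mem_centralizer_iff]
  simp only [Set.mem_singleton_iff, forall_eq, QuotientGroup.mk'_apply]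
  rw [← QuotientGroup.mk_mul, ← QuotientGroup.mk_mul, QuotientGroup.eq]
  have : (x * c)⁻¹ * (c * x) = (x⁻¹ * c⁻¹ * x * c)⁻¹ := by group
  rw [this, Subgroup.inv_mem_iff]

/-- `Y / N` is generated by the image of `x` -/
def GenMod (N Y : Subgroup G) (x : G) : Prop := ∀ y ∈ Y, ∃ k : ℤ, y * (x ^ k)⁻¹ ∈ N

theorem comm_mem_of_genMod (N : Subgroup G) [hN : N.Normal] (Y : Subgroup G) (x : G)
    (hgen : GenMod N Y x) (c : G) (hc : c ∈ commStab N x) (y : G) (hy : y ∈ Y) :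
    y⁻¹ * c⁻¹ * y * c ∈ N := by
  obtain ⟨k, hk⟩ := hgen y hy
  have h1 : (QuotientGroup.mk y : G ⧸ N) = (QuotientGroup.mk x) ^ k := by
    rw [← QuotientGroup.mk_zpow, QuotientGroup.eq]
    have h0 := hN.conj_mem _ (N.inv_mem hk) y⁻¹
    have : y⁻¹ * (y * (x ^ k)⁻¹)⁻¹ * y⁻¹⁻¹ = y⁻¹ * x ^ k := by group
    rwa [this] at h0
  have h2 : (QuotientGroup.mk x : G ⧸ N) * QuotientGroup.mk c =
      QuotientGroup.mk c * QuotientGroup.mk x := by
    have := (mem_commStab N x c).mp hc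
    rw [← QuotientGroup.mk_mul, ← QuotientGroup.mk_mul, QuotientGroup.eq]
    have h3 : (x * c)⁻¹ * (c * x) = (x⁻¹ * c⁻¹ * x * c)⁻¹ := by group
    rw [h3]
    exact N.inv_mem this
  have h4 : Commute (QuotientGroup.mk x : G ⧸ N) (QuotientGroup.mk c) := h2
  have h5 : Commute ((QuotientGroup.mk x : G ⧸ N) ^ k) (QuotientGroup.mk c) := h4.zpow_left k
  rw [← QuotientGroup.eq_one_iff]
  simp only [QuotientGroup.mk_mul, QuotientGroup.mk_inv, h1]
  have h6 := h5.eq
  calc ((QuotientGroup.mk x : G ⧸ N) ^ k)⁻¹ * (QuotientGroup.mk c)⁻¹ *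
      (QuotientGroup.mk x) ^ k * QuotientGroup.mk c
      = ((QuotientGroup.mk x : G ⧸ N) ^ k)⁻¹ * (QuotientGroup.mk c)⁻¹ *
        ((QuotientGroup.mk x) ^ k * QuotientGroup.mk c) := by group
    _ = ((QuotientGroup.mk x : G ⧸ N) ^ k)⁻¹ * (QuotientGroup.mk c)⁻¹ *
        (QuotientGroup.mk c * (QuotientGroup.mk x) ^ k) := by rw [h6]
    _ = 1 := by group

theorem commStab_le_normalizer (N : Subgroup G) [hN : N.Normal] (Y : Subgroup G) (hNY : N ≤ Y)
    (x : G) (hgen : GenMod N Y x) : commStab N x ≤ Subgroup.normalizer (Y : Set G) := by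
  have key : ∀ c ∈ commStab N x, ∀ y ∈ Y, c⁻¹ * y * c ∈ Y := by
    intro c hc y hy
    have h1 := comm_mem_of_genMod N Y x hgen c hc y hy
    have h2 : c⁻¹ * y * c = y * (y⁻¹ * c⁻¹ * y * c) := by group
    rw [h2]
    exact Y.mul_mem hy (hNY h1)
  intro c hc
  rw [Subgroup.mem_normalizer_iff'']
  intro y
  constructor
  · intro hy
    exact key c hc y hy
  · intro hy
    have := key c⁻¹ ((commStab N x).inv_mem hc) _ hy
    have h3 : c⁻¹⁻¹ * (c⁻¹ * y * c) * c⁻¹ = y := by group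
    rwa [h3] at this

/-- The relative second orthogonality sum, evaluated. -/
theorem sum_normSq_over [Fintype G] [Fintype (Cfsg.IrrCharacter G)] (N : Subgroup G)
    [hN : N.Normal] [Fintype N] (θ : N → ℂ) (hθ : Cfsg.IsIrrCharacter N θ)
    (hinv : ∀ (g : G) (n : N), θ ⟨g * n * g⁻¹, hN.conj_mem (n : G) n.2 g⟩ = θ n)
    (Y : Subgroup G) (hNY : N ≤ Y) (φ : Y → ℂ)
    (hφ : Cfsg.IsIrrCharacter Y φ) (hext : ∀ n : N, φ ⟨n, hNY n.2⟩ = θ n)
    (x : G) (hxY : x ∈ Y) (hgen : GenMod N Y x)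
    [DecidablePred fun χ : Cfsg.IrrCharacter G =>
      Cfsg.classInner (fun n : N => (χ : G → ℂ) n) θ ≠ 0]
    [Decidable (∀ c ∈ commStab N x, Cfsg.IsConjCharOf Y c φ φ)] :
    ∑ χ : Cfsg.IrrCharacter G,
      (if Cfsg.classInner (fun n : N => (χ : G → ℂ) n) θ ≠ 0 then
        (χ : G → ℂ) x * conj ((χ : G → ℂ) x) else 0) =
      if (∀ c ∈ commStab N x, Cfsg.IsConjCharOf Y c φ φ) then
        (Nat.card (commStab N x) : ℂ) / (Nat.card N : ℂ) * (φ ⟨x, hxY⟩ * conj (φ ⟨x, hxY⟩))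
      else 0 := by
  classical
  haveI : Finite Y := inferInstance
  haveI : Fintype Y := Fintype.ofFinite Y
  have hN0 : (Nat.card N : ℂ) ≠ 0 := by
    exact_mod_cast (Nat.card_pos (α := N)).ne'
  have hθ1 : θ 1 ≠ 0 := by
    intro h0
    have := eq_zero_of_isCharacter_of_apply_one (IsIrrCharacter.isCharacter hθ) h0
    have h1 := classInner_irr_self hθ
    rw [this] at h1
    simp [Cfsg.classInner] at h1
  rw [rel_second_orth N θ hθ hinv x, comm_sum_eval N θ hθ Y hNY φ hφ hext x hxY]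
  have hnorm := commStab_le_normalizer N Y hNY x hgen
  -- rewrite the sum as a sum over the subgroup `commStab N x`
  set g : G → ℂ := fun c => φ ⟨x, hxY⟩ * conj (Cfsg.extendByZero Y φ (c⁻¹ * x * c)) with hg
  have hsum : ∑ c : G, (if x⁻¹ * c⁻¹ * x * c ∈ N then
        φ ⟨x, hxY⟩ * conj (Cfsg.extendByZero Y φ (c⁻¹ * x * c)) else 0) =
      ∑ c : commStab N x, φ ⟨x, hxY⟩ *
        conj (cjc Y (c : G) (hnorm c.2) φ ⟨x, hxY⟩) := by
    have h1 : ∑ c : G, (if x⁻¹ * c⁻¹ * x * c ∈ N then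
        φ ⟨x, hxY⟩ * conj (Cfsg.extendByZero Y φ (c⁻¹ * x * c)) else 0) =
        ∑ c : G, (if c ∈ commStab N x then g c else 0) := by
      apply Finset.sum_congr rfl
      intro c _
      by_cases hc : c ∈ commStab N x
      · rw [if_pos hc, if_pos ((mem_commStab N x c).mp hc)]
      · rw [if_neg hc, if_neg]
        rwa [mem_commStab] at hc
    rw [h1, ← Finset.sum_filter,
      Finset.sum_subtype (p := fun c => c ∈ commStab N x)
        (Finset.univ.filter (fun c => c ∈ commStab N x)) (by intro c; simp) g]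
    apply Finset.sum_congr rfl
    intro c _
    simp only [hg]
    congr 2
    have hmem : (c : G)⁻¹ * x * (c : G) ∈ Y :=
      (Subgroup.mem_normalizer_iff''.mp (hnorm c.2) x).mp hxY
    rw [extendByZero_mem Y φ hmem, cjc_apply]
    rfl
  rw [hsum]
  by_cases hall : ∀ c ∈ commStab N x, Cfsg.IsConjCharOf Y c φ φ
  · rw [if_pos hall]
    have hterm : ∀ c : commStab N x, φ ⟨x, hxY⟩ *
        conj (cjc Y (c : G) (hnorm c.2) φ ⟨x, hxY⟩) = φ ⟨x, hxY⟩ * conj (φ ⟨x, hxY⟩) := by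
      intro c
      rw [← eq_cjc_of_isConjCharOf Y (c : G) (hnorm c.2) φ φ (hall c c.2)]
    rw [Finset.sum_congr rfl (fun c _ => hterm c), Finset.sum_const, Finset.card_univ,
      nsmul_eq_mul, ← Nat.card_eq_fintype_card]
    field_simp
  · rw [if_neg hall]
    push Not at hall
    obtain ⟨c₀, hc₀, hne⟩ := hall
    have hne' : cjc Y c₀ (hnorm hc₀) φ ≠ φ := by
      intro h
      apply hne
      rw [isConjCharOf_iff Y c₀ (hnorm hc₀)]
      exact h.symm
    set φ₀ := cjc Y c₀ (hnorm hc₀) φ with hφ₀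
    have hφ₀irr : Cfsg.IsIrrCharacter Y φ₀ := cjc_isIrr Y c₀ (hnorm hc₀) hφ
    haveI hN' : (N.subgroupOf Y).Normal := inferInstance
    set θ' : N.subgroupOf Y → ℂ := fun n => φ (n : Y) with hθ'
    have hθ'irr : Cfsg.IsIrrCharacter (N.subgroupOf Y) θ' := by
      have h1 : θ' = θ ∘ (Subgroup.subgroupOfEquivOfLe hNY) := by
        funext n
        simp only [hθ', Function.comp_apply]
        rw [← hext]
        rfl
      rw [h1]
      exact IsIrrCharacter.comp_mulEquiv _ hθ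
    have hext₀ : ∀ n : N.subgroupOf Y, φ₀ n = θ' n := by
      intro n
      simp only [hφ₀, hθ', cjc_apply]
      have hn : ((n : Y) : G) ∈ N := Subgroup.mem_subgroupOf.mp n.2
      have h1 : nconj Y c₀ (hnorm hc₀) (n : Y) =
          ⟨c₀⁻¹ * ((n : Y) : G) * c₀⁻¹⁻¹, hNY (hN.conj_mem _ hn c₀⁻¹)⟩ := by
        apply Subtype.ext
        rw [coe_nconj]
        simp
      rw [h1]
      have h2 := hext ⟨c₀⁻¹ * ((n : Y) : G) * c₀⁻¹⁻¹, hN.conj_mem _ hn c₀⁻¹⟩
      have h3 := hext ⟨((n : Y) : G), hn⟩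
      have h4 := hinv c₀⁻¹ ⟨((n : Y) : G), hn⟩
      rw [h2, h4, ← h3]
    obtain ⟨μ, hμ, hμeq⟩ := RelGlaub.exists_hom_of_extensions (N.subgroupOf Y) θ' hθ'irr φ φ₀ hφ hφ₀irr
      (fun n => rfl) hext₀
    have hμN : ∀ y : Y, (y : G) ∈ N → μ y = 1 := by
      intro y hy
      exact (RelGlaub.mem_trivOn _ μ).mp hμ y (Subgroup.mem_subgroupOf.mpr hy)
    have hμx : μ ⟨x, hxY⟩ ≠ 1 := by
      intro h1
      apply hne'
      rw [hμeq]
      funext y
      simp only [Pi.mul_apply]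
      obtain ⟨k, hk⟩ := hgen y y.2
      have hy : y = ⟨(y : G) * (x ^ k)⁻¹, hNY hk⟩ * (⟨x, hxY⟩ : Y) ^ k := by
        apply Subtype.ext
        simp
      have : μ y = 1 := by
        rw [hy, map_mul, map_zpow, h1, one_zpow, mul_one]
        exact hμN _ hk
      rw [this]
      simp
    set T : ℂ := ∑ c : commStab N x, φ ⟨x, hxY⟩ *
        conj (cjc Y (c : G) (hnorm c.2) φ ⟨x, hxY⟩) with hT
    have hTeq : T = conj ((μ ⟨x, hxY⟩ : ℂˣ) : ℂ) * T := by
      have h1 : T = ∑ c : commStab N x, φ ⟨x, hxY⟩ *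
          conj (cjc Y ((c * ⟨c₀, hc₀⟩ : commStab N x) : G) (hnorm (c * ⟨c₀, hc₀⟩).2) φ
            ⟨x, hxY⟩) := by
        rw [hT]
        exact (Equiv.sum_comp (Equiv.mulRight (⟨c₀, hc₀⟩ : commStab N x))
          (fun c : commStab N x => φ ⟨x, hxY⟩ *
            conj (cjc Y (c : G) (hnorm c.2) φ ⟨x, hxY⟩))).symm
      refine h1.trans ?_
      rw [hT, Finset.mul_sum]
      apply Finset.sum_congr rfl
      intro c _
      have h2 : cjc Y ((c * ⟨c₀, hc₀⟩ : commStab N x) : G) (hnorm (c * ⟨c₀, hc₀⟩).2) φ =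
          cjc Y (c : G) (hnorm c.2) φ₀ := by
        rw [hφ₀]
        exact cjc_mul Y (c : G) c₀ (hnorm c.2) (hnorm hc₀) φ
      rw [h2, cjc_apply, hμeq]
      simp only [Pi.mul_apply, map_mul]
      have h3 : μ (nconj Y (c : G) (hnorm c.2) ⟨x, hxY⟩) = μ ⟨x, hxY⟩ := by
        have hz : x⁻¹ * (c : G)⁻¹ * x * (c : G) ∈ N := (mem_commStab N x c).mp c.2
        have h4 : nconj Y (c : G) (hnorm c.2) ⟨x, hxY⟩ =
            (⟨x, hxY⟩ : Y) * ⟨x⁻¹ * (c : G)⁻¹ * x * (c : G), hNY hz⟩ := by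
          apply Subtype.ext
          rw [coe_nconj]
          simp only [Subgroup.coe_mul]
          group
        rw [h4, map_mul, hμN ⟨x⁻¹ * (c : G)⁻¹ * x * (c : G), hNY hz⟩ hz, mul_one]
      rw [h3, cjc_apply]
      ring
    have hcne : conj ((μ ⟨x, hxY⟩ : ℂˣ) : ℂ) ≠ 1 := by
      intro h
      apply hμx
      have := congrArg conj h
      rw [Complex.conj_conj, map_one] at this
      exact Units.ext this
    have hT0 : T = 0 := by
      have : (1 - conj ((μ ⟨x, hxY⟩ : ℂˣ) : ℂ)) * T = 0 := by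
        rw [sub_mul, one_mul, ← hTeq, sub_self]
      rcases mul_eq_zero.mp this with h | h
      · exact absurd (sub_eq_zero.mp h).symm hcne
      · exact h
    rw [hT0]
    simp

end Cfsg.Agent.Helper6.RMcK
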