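import Mathlib
import Cfsg.Prelude.Def_Characters
import Cfsg.Prelude.Def_BlockLocal
import Cfsg.Agent.Helper6.RMcKGoodD
import Cfsg.Agent.Helper6.RMcKAmb
import Cfsg.Agent.Helper6.RelGlaubC
import Cfsg.Agent.Helper6.PCGroupA

/-!
# Good elements and Gallagher's count of the characters above an invariant character
-/

set_option autoImplicit false
set_option linter.style.haveILetI false
set_option linter.unusedSimpArgs false

namespace Cfsg.Agent.Helper6.RMcK

open Cfsg.Agent.Helper6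
open scoped ComplexConjugate

universe u

variable {G : Type u} [Group G]

/-- `θ` extends to the subgroup `A` -/
def ExtendsTo (N : Subgroup G) (θ : N → ℂ) (A : Subgroup G) : Prop :=
  ∃ (h : N ≤ A) (ψ : A → ℂ), Cfsg.IsIrrCharacter A ψ ∧ ∀ n : N, ψ ⟨n, h n.2⟩ = θ n

/-- `x` is `θ`-good: `θ` extends to `⟨N, x, c⟩` whenever `c` commutes with `x` modulo `N`. -/
def GoodElt (N : Subgroup G) [N.Normal] (θ : N → ℂ) (x : G) : Prop :=
  ∀ c ∈ commStab N x, ExtendsTo N θ (N ⊔ Subgroup.zpowers x ⊔ Subgroup.zpowers c)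

theorem eq_sup_zpowers_of_genMod (N Y : Subgroup G) (hNY : N ≤ Y) (x : G) (hxY : x ∈ Y)
    (hgen : GenMod N Y x) : Y = N ⊔ Subgroup.zpowers x := by
  apply le_antisymm
  · intro y hy
    obtain ⟨k, hk⟩ := hgen y hy
    have : y = (y * (x ^ k)⁻¹) * x ^ k := by group
    rw [this]
    exact Subgroup.mul_mem _ (Subgroup.mem_sup_left hk)
      (Subgroup.mem_sup_right (Subgroup.zpow_mem_zpowers x k))
  · exact sup_le hNY ((Subgroup.zpowers_le).mpr hxY)

theorem genMod_sup_zpowers (N : Subgroup G) [hN : N.Normal] (x : G) :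
    GenMod N (N ⊔ Subgroup.zpowers x) x := by
  intro y hy
  rw [Subgroup.mem_sup_of_normal_left] at hy
  obtain ⟨n, hn, z, hz, rfl⟩ := hy
  obtain ⟨k, rfl⟩ := Subgroup.mem_zpowers_iff.mp hz
  refine ⟨k, ?_⟩
  have : n * x ^ k * (x ^ k)⁻¹ = n := by group
  rw [this]
  exact hn

/-- goodness in terms of invariance of an extension to `⟨N, x⟩` -/
theorem goodElt_iff [Finite G] (N : Subgroup G) [hN : N.Normal] (θ : N → ℂ)
    (hθ : Cfsg.IsIrrCharacter N θ)
    (Y : Subgroup G) (hNY : N ≤ Y) (φ : Y → ℂ)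
    (hφ : Cfsg.IsIrrCharacter Y φ) (hext : ∀ n : N, φ ⟨n, hNY n.2⟩ = θ n)
    (x : G) (hxY : x ∈ Y) (hgen : GenMod N Y x) :
    GoodElt N θ x ↔ ∀ c ∈ commStab N x, Cfsg.IsConjCharOf Y c φ φ := by
  classical
  haveI := Fintype.ofFinite G
  have hnorm := commStab_le_normalizer N Y hNY x hgen
  have hYeq := eq_sup_zpowers_of_genMod N Y hNY x hxY hgen
  constructor
  · intro hgood c hc
    obtain ⟨A, hA⟩ : ∃ A : Subgroup G, A = N ⊔ Subgroup.zpowers x ⊔ Subgroup.zpowers c :=
      ⟨_, rfl⟩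
    have hg := hgood c hc
    rw [← hA] at hg
    obtain ⟨hNA, ψ, hψ, hψN⟩ := hg
    have hYA : Y ≤ A := by
      rw [hYeq, hA]
      exact le_sup_left
    have hcA : c ∈ A := by
      rw [hA]
      exact (le_sup_right : Subgroup.zpowers c ≤ _) (Subgroup.mem_zpowers c)
    haveI : Fintype Y := Fintype.ofFinite Y
    haveI : Fintype N := Fintype.ofFinite N
    set ψY : Y → ℂ := ψ ∘ (Subgroup.inclusion hYA) with hψY
    have hψYchar : Cfsg.IsCharacter Y ψY :=
      IsCharacter.comp_hom (Subgroup.inclusion hYA) (IsIrrCharacter.isCharacter hψ)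
    have hψYirr : Cfsg.IsIrrCharacter Y ψY := by
      apply isIrrCharacter_of_comp_irr (Subgroup.inclusion hNY) hψYchar
      have : ψY ∘ (Subgroup.inclusion hNY) = θ := by
        funext n
        exact hψN n
      rw [this]
      exact hθ
    haveI hN' : (N.subgroupOf Y).Normal := inferInstance
    set θ' : N.subgroupOf Y → ℂ := fun n => φ (n : Y) with hθ'
    have hθ'irr : Cfsg.IsIrrCharacter (N.subgroupOf Y) θ' := by
      have h1 : θ' = θ ∘ (Subgroup.subgroupOfEquivOfLe hNY) := by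
        funext n
        simp only [hθ', Function.comp_apply]
        rw [← hext]
        rfl
      rw [h1]
      exact IsIrrCharacter.comp_mulEquiv _ hθ
    have hext' : ∀ n : N.subgroupOf Y, ψY n = θ' n := by
      intro n
      have hn : ((n : Y) : G) ∈ N := Subgroup.mem_subgroupOf.mp n.2
      have h1 := hψN ⟨((n : Y) : G), hn⟩
      have h2 := hext ⟨((n : Y) : G), hn⟩
      simp only [hθ']
      rw [show φ (n : Y) = θ ⟨((n : Y) : G), hn⟩ from h2, ← h1]
      rfl
    obtain ⟨μ, hμ, hμeq⟩ := RelGlaub.exists_hom_of_extensions (N.subgroupOf Y) θ' hθ'irr φ ψY hφ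
      hψYirr (fun n => rfl) hext'
    have hμN : ∀ y : Y, (y : G) ∈ N → μ y = 1 := by
      intro y hy
      exact (RelGlaub.mem_trivOn _ μ).mp hμ y (Subgroup.mem_subgroupOf.mpr hy)
    rw [isConjCharOf_iff Y c (hnorm hc)]
    funext y
    rw [cjc_apply]
    -- ψY is invariant under c
    have hψcf := IsCharacter.isClassFunction (IsIrrCharacter.isCharacter hψ)
    have h1 : ψY (nconj Y c (hnorm hc) y) = ψY y := by
      simp only [hψY, Function.comp_apply]
      have h2 := hψcf (Subgroup.inclusion hYA y) (⟨c, hcA⟩ : A)⁻¹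
      rw [← h2]
      congr 1
      apply Subtype.ext
      simp [coe_nconj]
    rw [hμeq] at h1
    simp only [Pi.mul_apply] at h1
    have hz : (y : G)⁻¹ * c⁻¹ * (y : G) * c ∈ N := comm_mem_of_genMod N Y x hgen c hc y y.2
    have h3 : μ (nconj Y c (hnorm hc) y) = μ y := by
      have h4 : nconj Y c (hnorm hc) y = y * ⟨(y : G)⁻¹ * c⁻¹ * (y : G) * c, hNY hz⟩ := by
        apply Subtype.ext
        rw [coe_nconj]
        simp only [Subgroup.coe_mul]
        group
      rw [h4, map_mul, hμN ⟨(y : G)⁻¹ * c⁻¹ * (y : G) * c, hNY hz⟩ hz, mul_one]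
    rw [h3] at h1
    have hne : ((μ y : ℂˣ) : ℂ) ≠ 0 := Units.ne_zero _
    exact (mul_right_cancel₀ hne h1).symm
  · intro hall c hc
    have hcin : c ∈ inertia Y φ := ⟨hnorm hc, hall c hc⟩
    obtain ⟨ψ, hψ, hψY⟩ := exists_ext_sup_zpowers Y c φ hφ hcin
    have hAeq : N ⊔ Subgroup.zpowers x ⊔ Subgroup.zpowers c = Y ⊔ Subgroup.zpowers c := by
      rw [hYeq]
    rw [hAeq]
    refine ⟨hNY.trans le_sup_left, ψ, hψ, ?_⟩
    intro n
    rw [← hext n]
    exact hψY ⟨n, hNY n.2⟩

end Cfsg.Agent.Helper6.RMcK
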