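import Mathlib
import Cfsg.Prelude.Def_Characters
import Cfsg.Prelude.Def_BlockLocal
import Cfsg.Agent.Helper6.RMcKDefs
import Cfsg.Agent.Helper6.RMcKGoodE

/-!
# Abelian quotients in an ambient group: transitivity of linear characters, extension criterion
-/

set_option autoImplicit false
set_option linter.style.haveILetI false
set_option linter.unusedSimpArgs false

namespace Cfsg.Agent.Helper6.RMcK

open Cfsg.Agent.Helper6
open scoped ComplexConjugate

universe u

variable {Γ : Type u} [Group Γ] [Finite Γ]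

/-- `B / A` is abelian -/
def AbMod (A B : Subgroup Γ) : Prop := ∀ x ∈ B, ∀ y ∈ B, x * y * x⁻¹ * y⁻¹ ∈ A

/-- two irreducible characters of `B` over a common character of `A`, `B / A` abelian, differ by
a linear character trivial on `A` -/
theorem exists_hom_of_common {A B : Subgroup Γ} (h : A ≤ B)
    (hnorm : B ≤ Subgroup.normalizer (A : Set Γ)) (hab : AbMod A B) {χ χ' : B → ℂ}
    (hχ : Cfsg.IsIrrCharacter B χ) (hχ' : Cfsg.IsIrrCharacter B χ') {η : A → ℂ}
    (hη : Cfsg.IsIrrCharacter A η) (h1 : Ov h χ η) (h2 : Ov h χ' η) :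
    ∃ μ : B →* ℂˣ, (∀ a : A, μ (Subgroup.inclusion h a) = 1) ∧
      χ' = χ * fun g => ((μ g : ℂˣ) : ℂ) := by
  classical
  haveI := Fintype.ofFinite B
  haveI := Fintype.ofFinite A
  haveI := Fintype.ofFinite (A.subgroupOf B)
  haveI hn : (A.subgroupOf B).Normal :=
    (Subgroup.normal_subgroupOf_iff_le_normalizer h).mpr hnorm
  have hη' := irr_subgroupOf h hη
  have hab' : ∀ x y : B, x * y * x⁻¹ * y⁻¹ ∈ A.subgroupOf B := by
    intro x y
    rw [Subgroup.mem_subgroupOf]
    exact hab x x.2 y y.2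
  obtain ⟨μ, hμ, hμeq⟩ := exists_hom_mul_eq_of_common (A.subgroupOf B) hab' hχ hχ' hη'
    (by rw [classInner_subgroupOf' h χ η]; exact h1)
    (by rw [classInner_subgroupOf' h χ' η]; exact h2)
  refine ⟨μ, ?_, hμeq⟩
  intro a
  exact hμ _ (Subgroup.mem_subgroupOf.mpr a.2)

/-- Clifford theory over an abelian quotient, for an invariant character. -/
theorem abelian_clifford {A B : Subgroup Γ} (h : A ≤ B) (θ : A → ℂ)
    (hθ : Cfsg.IsIrrCharacter A θ) (hB : B ≤ inertia A θ) (hab : AbMod A B) :
    ∃ e : ℕ, 0 < e ∧ (∀ χ : Cfsg.IrrCharacter B, Ov h (χ : B → ℂ) θ →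
        res h (χ : B → ℂ) = (e : ℂ) • θ) ∧
      e ^ 2 * Nat.card {χ : Cfsg.IrrCharacter B // Ov h (χ : B → ℂ) θ} = A.relIndex B := by
  classical
  haveI := Fintype.ofFinite B
  haveI := Fintype.ofFinite A
  haveI := Fintype.ofFinite (A.subgroupOf B)
  haveI : Finite (Cfsg.IrrCharacter B) := irr_finite
  haveI := Fintype.ofFinite (Cfsg.IrrCharacter B)
  haveI hn := normal_subgroupOf_of_le_inertia h θ hB
  set e' := Subgroup.subgroupOfEquivOfLe h with he'
  have hθ' := irr_subgroupOf h hθ
  have hinv' : ∀ x : B, conjFun (A.subgroupOf B) (θ ∘ e') x = θ ∘ e' := by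
    intro x
    funext n
    exact inv_subgroupOf h θ hB hn x n
  have hab' : ∀ x y : B, x * y * x⁻¹ * y⁻¹ ∈ A.subgroupOf B := by
    intro x y
    rw [Subgroup.mem_subgroupOf]
    exact hab x x.2 y y.2
  obtain ⟨e, Ψ, he, hΨ, hres, hcard, -⟩ :=
    abelian_quotient_clifford (A.subgroupOf B) (θ ∘ e') hθ' hinv' hab'
  refine ⟨e, he, ?_, ?_⟩
  · intro χ hov
    have hmem : χ ∈ Ψ := by
      rw [hΨ, classInner_subgroupOf' h (χ : B → ℂ) θ]
      exact hov
    have := hres χ hmem
    funext a
    have h1 := congrFun this (e'.symm a)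
    simp only [Pi.smul_apply, Function.comp_apply, MulEquiv.apply_symm_apply] at h1
    rw [Pi.smul_apply, ← h1]
    rfl
  · have hc : Nat.card {χ : Cfsg.IrrCharacter B // Ov h (χ : B → ℂ) θ} = Ψ.card := by
      rw [Nat.card_eq_fintype_card]
      apply Fintype.card_of_subtype
      intro χ
      rw [hΨ, classInner_subgroupOf' h (χ : B → ℂ) θ]
      rfl
    rw [hc]
    have h3 : Nat.card (A.subgroupOf B) * A.relIndex B = Nat.card B :=
      Subgroup.card_mul_index (A.subgroupOf B)
    have hpos : 0 < Nat.card (A.subgroupOf B) := Nat.card_pos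
    have h4 : e ^ 2 * Ψ.card * Nat.card (A.subgroupOf B) =
        A.relIndex B * Nat.card (A.subgroupOf B) := by
      rw [hcard, ← h3, mul_comm]
    exact Nat.eq_of_mul_eq_mul_right hpos h4

/-- over an abelian quotient, an invariant character extends iff there are index-many characters
above it; then every character above it is an extension -/
theorem extendsTo_iff_card {A B : Subgroup Γ} (h : A ≤ B) (θ : A → ℂ)
    (hθ : Cfsg.IsIrrCharacter A θ) (hB : B ≤ inertia A θ) (hab : AbMod A B) :
    (ExtendsTo A θ B ↔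
      Nat.card {χ : Cfsg.IrrCharacter B // Ov h (χ : B → ℂ) θ} = A.relIndex B) ∧
    (ExtendsTo A θ B → ∀ χ : Cfsg.IrrCharacter B, Ov h (χ : B → ℂ) θ →
      res h (χ : B → ℂ) = θ) := by
  classical
  haveI := Fintype.ofFinite A
  obtain ⟨e, he, hres, hcard⟩ := abelian_clifford h θ hθ hB hab
  have hθ1 : θ 1 ≠ 0 := IsIrrCharacter.apply_one_ne_zero hθ
  have hext_e : ExtendsTo A θ B → e = 1 := by
    rintro ⟨h', ψ, hψ, hψA⟩
    have hresψ : res h ψ = θ := by
      funext a
      exact hψA a
    have hov : Ov h ψ θ := by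
      unfold Ov
      rw [hresψ, ip_eq_classInner, classInner_irr_self hθ]
      exact one_ne_zero
    have h1 := hres ⟨ψ, hψ⟩ hov
    have h2 := congrFun h1 1
    rw [hresψ, Pi.smul_apply, smul_eq_mul] at h2
    have h3 : ((e : ℂ) - 1) * θ 1 = 0 := by linear_combination -h2
    rcases mul_eq_zero.mp h3 with h4 | h4
    · have : (e : ℂ) = 1 := by linear_combination h4
      exact_mod_cast this
    · exact absurd h4 hθ1
  refine ⟨⟨?_, ?_⟩, ?_⟩
  · intro hext
    have he1 := hext_e hext
    rw [he1] at hcard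
    simpa using hcard
  · intro hc
    rw [hc] at hcard
    have hidx : 0 < A.relIndex B := by
      have : (A.subgroupOf B).index ≠ 0 := Subgroup.index_ne_zero_of_finite
      exact Nat.pos_of_ne_zero this
    have he1 : e = 1 := by
      have h5 : e ^ 2 = 1 := by
        have h6 : e ^ 2 * A.relIndex B = 1 * A.relIndex B := by rw [hcard, one_mul]
        exact Nat.eq_of_mul_eq_mul_right hidx h6
      exact (Nat.pow_eq_one.mp h5).resolve_right (by norm_num)
    -- the set is nonempty
    have hne : Nonempty {χ : Cfsg.IrrCharacter B // Ov h (χ : B → ℂ) θ} := by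
      by_contra hemp
      rw [not_nonempty_iff] at hemp
      have : Nat.card {χ : Cfsg.IrrCharacter B // Ov h (χ : B → ℂ) θ} = 0 := Nat.card_of_isEmpty
      omega
    obtain ⟨χ, hχ⟩ := hne
    have h1 := hres χ hχ
    rw [he1] at h1
    refine ⟨h, (χ : B → ℂ), χ.2, ?_⟩
    intro a
    have := congrFun h1 a
    rw [Nat.cast_one, one_smul] at this
    exact this
  · intro hext χ hov
    have he1 := hext_e hext
    have h1 := hres χ hov
    rw [he1] at h1
    simpa using h1

end Cfsg.Agent.Helper6.RMcK
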