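import Mathlib
import Cfsg.Prelude.Def_Characters
import Cfsg.Prelude.Def_BlockLocal
import Cfsg.Prelude.Def_Blocks
import Cfsg.Agent.Helper6.RMcKDefsB

/-!
# Counting irreducible characters over a character of a subgroup (ambient form)
-/

set_option autoImplicit false
set_option linter.style.haveILetI false
set_option linter.unusedSimpArgs false

namespace Cfsg.Agent.Helper6.RMcK

open Cfsg.Agent.Helper6
open scoped ComplexConjugate

universe u

variable {Γ : Type u} [Group Γ] [Finite Γ]

/-- the number of irreducible characters of `B` lying over the function `θ` on `A` -/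
noncomputable def ocnt {A B : Subgroup Γ} (h : A ≤ B) (θ : A → ℂ) : ℕ :=
  Nat.card {χ : Cfsg.IrrCharacter B // Ov h (χ : B → ℂ) θ}

/-- the number of irreducible characters of `B` of degree prime to `p` lying over `θ` -/
noncomputable def pcnt (p : ℕ) {A B : Subgroup Γ} (h : A ≤ B) (θ : A → ℂ) : ℕ :=
  Nat.card {χ : Cfsg.IrrCharacter B //
    ¬ p ∣ Cfsg.charDegree (χ : B → ℂ) ∧ Ov h (χ : B → ℂ) θ}

theorem ocnt_congr {A B B' : Subgroup Γ} (h : A ≤ B) (h' : A ≤ B') (hBB' : B = B')
    (θ : A → ℂ) : ocnt h θ = ocnt h' θ := by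
  subst hBB'
  rfl

theorem pcnt_congr (p : ℕ) {A B B' : Subgroup Γ} (h : A ≤ B) (h' : A ≤ B') (hBB' : B = B')
    (θ : A → ℂ) : pcnt p h θ = pcnt p h' θ := by
  subst hBB'
  rfl

end Cfsg.Agent.Helper6.RMcK
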