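import Mathlib
import Cfsg.Prelude.Def_Characters
import Cfsg.Agent.Helper6.GlaubZ

/-!
# The relative congruence for the Glauberman correspondence, along a commuting square of embeddings
-/

set_option autoImplicit false
set_option linter.style.haveILetI false
set_option linter.unusedSimpArgs false

namespace Cfsg.Agent.Helper6.RMcK

open Cfsg.Agent.Helper6
open scoped ComplexConjugate

universe u

set_option maxHeartbeats 1600000 in
/-- If `χ ↔ ψ` under the correspondence of `G` (fixed points `H`) and `θ ↔ γ` under that of an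
embedded stable subgroup `N` (fixed points `K`), then `p ∣ [χ_N, θ]` iff `p ∣ [ψ_K, γ]`. -/
theorem glaub_square_congr {p : ℕ} [hp : Fact p.Prime] {G N H K : Type u} [Group G] [Group N]
    [Group H] [Group K] [Fintype G] [Fintype N] [Fintype H] [Fintype K]
    (T : Subgroup (MulAut G)) (TN : Subgroup (MulAut N)) (hTNp : IsPGroup p TN)
    (ιH : H →* G) (ιN : N →* G) (jH : K →* H) (jN : K →* N)
    (hsq : ∀ k : K, ιH (jH k) = ιN (jN k))
    (hequiv : ∀ t ∈ TN, ∃ t₀ ∈ T, ∀ n : N, ιN (t n) = t₀ (ιN n))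
    (hfixN : ∀ t ∈ TN, ∀ k : K, t (jN k) = jN k)
    (StG : GlaubStatement p (T : Set (MulAut G)) ιH)
    (StN : GlaubStatement p (TN : Set (MulAut N)) jN)
    {χ : G → ℂ} (hχ : Cfsg.IsIrrCharacter G χ) (hχinv : InvUnder (T : Set (MulAut G)) χ)
    (ψ : Cfsg.IrrCharacter H) (hrelG : GlaubRelHom p ιH χ (ψ : H → ℂ))
    (θ : Cfsg.IrrCharacter N) (hθinv : InvUnder (TN : Set (MulAut N)) (θ : N → ℂ))
    (γ : Cfsg.IrrCharacter K) (hrelN : GlaubRelHom p jN (θ : N → ℂ) (γ : K → ℂ)) :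
    ∃ a b : ℕ, Cfsg.classInner (χ ∘ ιN) (θ : N → ℂ) = (a : ℂ) ∧
      Cfsg.classInner ((ψ : H → ℂ) ∘ jH) (γ : K → ℂ) = (b : ℂ) ∧ (p ∣ a ↔ p ∣ b) := by
  classical
  haveI : Finite (Cfsg.IrrCharacter N) := irr_finite
  haveI : Fintype (Cfsg.IrrCharacter N) := Fintype.ofFinite _
  have hχchar := IsIrrCharacter.isCharacter hχ
  have hγchar := IsIrrCharacter.isCharacter γ.2
  -- the `H`-side
  obtain ⟨ψ₁, ⟨m₀, hm₀, hpm₀⟩, hoth⟩ := StG.1 χ hχ hχinv
  have hψ : ψ = ψ₁ := glaubRel_unique ιH ψ₁ hoth ψ hrelG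
  subst hψ
  have hm₀nd : ¬ p ∣ m₀ := not_dvd_of_modEq_pm hp.out hpm₀
  obtain ⟨b, hb⟩ := classInner_char_char_nat
    (IsCharacter.comp_hom jH (IsIrrCharacter.isCharacter ψ.2)) hγchar
  obtain ⟨c, hc, hcmod⟩ := glaub_comp_congr ιH jH hχchar ψ m₀ hm₀ hoth hγchar b hb
  -- the `N`-side
  have hcomp : χ ∘ (ιH.comp jH) = (χ ∘ ιN) ∘ jN := by
    funext k
    simp only [Function.comp_apply, MonoidHom.comp_apply]
    rw [hsq]
  have hχN : Cfsg.IsCharacter N (χ ∘ ιN) := IsCharacter.comp_hom ιN hχchar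
  have hA : ∀ θ' : Cfsg.IrrCharacter N, ∃ a' : ℕ,
      Cfsg.classInner (χ ∘ ιN) (θ' : N → ℂ) = (a' : ℂ) := fun θ' =>
    classInner_char_char_nat hχN (IsIrrCharacter.isCharacter θ'.2)
  choose a' ha' using hA
  have hB : ∀ θ' : Cfsg.IrrCharacter N, ∃ b' : ℕ,
      Cfsg.classInner ((θ' : N → ℂ) ∘ jN) (γ : K → ℂ) = (b' : ℂ) := fun θ' =>
    classInner_char_char_nat
      (IsCharacter.comp_hom jN (IsIrrCharacter.isCharacter θ'.2)) hγchar
  choose b' hb' using hB
  have hcsum : c = ∑ θ' : Cfsg.IrrCharacter N, a' θ' * b' θ' := by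
    have h1 := classInner_comp_expand (χ ∘ ιN) (IsCharacter.isClassFunction hχN)
      jN (γ : K → ℂ)
    rw [← hcomp, hc] at h1
    have h2 : (c : ℂ) = ((∑ θ' : Cfsg.IrrCharacter N, a' θ' * b' θ' : ℕ) : ℂ) := by
      rw [h1]
      push_cast
      apply Finset.sum_congr rfl
      intro θ' _
      rw [ha', hb']
    exact_mod_cast h2
  -- the action of `TN` on the irreducible characters of `N`
  letI := irrMulAction N
  have hfix : ∀ (t : TN) (k : K), (t : MulAut N)⁻¹ (jN k) = jN k := by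
    intro t k
    exact hfixN _ (inv_mem t.2) k
  have hχt : ∀ t : TN, (χ ∘ ιN) ∘ ((t : MulAut N)⁻¹ : MulAut N) = χ ∘ ιN := by
    intro t
    funext n
    simp only [Function.comp_apply]
    obtain ⟨t₀, ht₀, ht₀eq⟩ := hequiv _ (inv_mem t.2)
    rw [ht₀eq]
    exact hχinv t₀ ht₀ _
  have hw : ∀ (t : TN) (θ' : Cfsg.IrrCharacter N), a' (t • θ') * b' (t • θ') = a' θ' * b' θ' := by
    intro t θ'
    have e1 : a' (t • θ') = a' θ' := by
      have h1 : Cfsg.classInner ((χ ∘ ιN) ∘ ((t : MulAut N)⁻¹ : MulAut N))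
          ((θ' : N → ℂ) ∘ ((t : MulAut N)⁻¹ : MulAut N)) =
          Cfsg.classInner (χ ∘ ιN) (θ' : N → ℂ) :=
        classInner_comp_equiv' ((t : MulAut N)⁻¹ : MulAut N).toEquiv _ _
      rw [hχt t] at h1
      have h2 : ((a' (t • θ') : ℕ) : ℂ) = (a' θ' : ℂ) := by
        rw [← ha', ← ha']
        exact h1
      exact_mod_cast h2
    have e2 : b' (t • θ') = b' θ' := by
      have h1 : ((t • θ' : Cfsg.IrrCharacter N) : N → ℂ) ∘ jN = (θ' : N → ℂ) ∘ jN := by
        funext k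
        change (θ' : N → ℂ) ((t : MulAut N)⁻¹ (jN k)) = _
        rw [hfix t k]
        rfl
      have h2 : ((b' (t • θ') : ℕ) : ℂ) = (b' θ' : ℂ) := by
        rw [← hb', ← hb', h1]
      exact_mod_cast h2
    rw [e1, e2]
  set F : Finset (Cfsg.IrrCharacter N) :=
    Finset.univ.filter (fun θ' => InvUnder (TN : Set (MulAut N)) (θ' : N → ℂ)) with hFdef
  have hF : ∀ θ' : Cfsg.IrrCharacter N, θ' ∈ F ↔ ∀ t : TN, t • θ' = θ' := by
    intro θ'
    rw [hFdef, Finset.mem_filter]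
    constructor
    · rintro ⟨-, h⟩ t
      apply Subtype.ext
      funext n
      change (θ' : N → ℂ) ((t : MulAut N)⁻¹ n) = _
      exact h _ (inv_mem t.2) n
    · intro h
      refine ⟨Finset.mem_univ _, ?_⟩
      intro t ht n
      have h1 := congrArg Subtype.val (h ⟨t⁻¹, inv_mem ht⟩)
      have h2 := congrFun h1 n
      change (θ' : N → ℂ) ((t⁻¹)⁻¹ n) = _ at h2
      rwa [inv_inv] at h2
  have hsum := sum_modEq_sum_fixed hTNp (fun θ' => a' θ' * b' θ') hw F hF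
  -- the fixed characters other than `θ` contribute multiples of `p`
  have hθF : θ ∈ F := by
    rw [hFdef, Finset.mem_filter]
    exact ⟨Finset.mem_univ _, hθinv⟩
  have hothers : ∀ θ' ∈ F.erase θ, p ∣ a' θ' * b' θ' := by
    intro θ' hθ'
    have hne : θ' ≠ θ := Finset.ne_of_mem_erase hθ'
    have hinv' : InvUnder (TN : Set (MulAut N)) (θ' : N → ℂ) := by
      have := Finset.mem_of_mem_erase hθ'
      rw [hFdef, Finset.mem_filter] at this
      exact this.2
    apply Dvd.dvd.mul_left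
    by_contra hnd
    have hrel' : GlaubRelHom p jN (θ' : N → ℂ) (γ : K → ℂ) :=
      ⟨b' θ', hb' θ', hnd⟩
    have := StN.2.1 _ _ θ'.2 hinv' θ.2 hθinv γ hrel' hrelN
    exact hne (Subtype.ext this)
  have hFsum : ∑ θ' ∈ F, a' θ' * b' θ' ≡ a' θ * b' θ [MOD p] := by
    rw [← Finset.add_sum_erase F _ hθF]
    obtain ⟨d, hd⟩ := Finset.dvd_sum hothers
    rw [hd]
    unfold Nat.ModEq
    rw [Nat.add_mul_mod_self_left]
  have h1 : c ≡ a' θ * b' θ [MOD p] := by
    rw [hcsum]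
    exact hsum.trans hFsum
  have hkey : m₀ * b ≡ a' θ * b' θ [MOD p] := hcmod.symm.trans h1
  -- `b' θ` is prime to `p`
  have hb'nd : ¬ p ∣ b' θ := by
    obtain ⟨m, hm, hmnd⟩ := hrelN
    have : (m : ℂ) = (b' θ : ℂ) := by rw [← hm, ← hb']
    have hmb : m = b' θ := by exact_mod_cast this
    rw [← hmb]
    exact hmnd
  refine ⟨a' θ, b, ha' θ, hb, ?_⟩
  constructor
  · intro hpa
    have h3 : a' θ * b' θ ≡ 0 [MOD p] :=
      (Nat.modEq_zero_iff_dvd).mpr (Dvd.dvd.mul_right hpa _)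
    have h4 : p ∣ m₀ * b := (Nat.modEq_zero_iff_dvd).mp (hkey.trans h3)
    rcases (Nat.Prime.dvd_mul hp.out).mp h4 with h5 | h5
    · exact absurd h5 hm₀nd
    · exact h5
  · intro hpb
    have h3 : m₀ * b ≡ 0 [MOD p] :=
      (Nat.modEq_zero_iff_dvd).mpr (Dvd.dvd.mul_left hpb _)
    have h4 : p ∣ a' θ * b' θ := (Nat.modEq_zero_iff_dvd).mp (hkey.symm.trans h3)
    rcases (Nat.Prime.dvd_mul hp.out).mp h4 with h5 | h5
    · exact h5
    · exact absurd h5 hb'nd

end Cfsg.Agent.Helper6.RMcK
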