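import Mathlib
import Cfsg.Prelude.Def_Characters
import Cfsg.Prelude.Def_BlockLocal
import Cfsg.Agent.Helper6.RMcKDefs
import Cfsg.Agent.Helper6.RMcKGlA
import Cfsg.Agent.Helper6.GlaubS

/-!
# The Glauberman correspondence for a `p`-subgroup normalizing a `p'`-subgroup of an ambient group
-/

set_option autoImplicit false
set_option linter.style.haveILetI false
set_option linter.unusedSimpArgs false

namespace Cfsg.Agent.Helper6.RMcK

open Cfsg.Agent.Helper6
open scoped ComplexConjugate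

universe u

variable {Γ : Type u} [Group Γ] [Finite Γ]

/-- the Glauberman relation between a character of `W` and a character of `C ≤ W`:
the multiplicity is a natural number prime to `p` -/
def GlC (p : ℕ) {W C : Subgroup Γ} (hCW : C ≤ W) (χ : W → ℂ) (β : C → ℂ) : Prop :=
  ∃ m : ℕ, ip (res hCW χ) β = (m : ℂ) ∧ ¬ p ∣ m

/-- the fixed points of `S` on `W` -/
def fixC (W S : Subgroup Γ) : Subgroup Γ := W ⊓ Subgroup.centralizer (S : Set Γ)

omit [Finite Γ] in
theorem fixC_le (W S : Subgroup Γ) : fixC W S ≤ W := inf_le_left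

omit [Finite Γ] in
theorem mem_fixC (W S : Subgroup Γ) (g : Γ) :
    g ∈ fixC W S ↔ g ∈ W ∧ ∀ s ∈ S, s * g = g * s := by
  unfold fixC
  rw [Subgroup.mem_inf, Subgroup.mem_centralizer_iff]
  constructor
  · rintro ⟨h1, h2⟩
    exact ⟨h1, fun s hs => h2 s hs⟩
  · rintro ⟨h1, h2⟩
    exact ⟨h1, fun s hs => h2 s hs⟩

omit [Finite Γ] in
theorem hnorm_of_le_normalizer {W S : Subgroup Γ} (hSW : S ≤ Subgroup.normalizer (W : Set Γ)) :
    ∀ s ∈ S, ∀ g ∈ W, s * g * s⁻¹ ∈ W :=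
  fun s hs g hg => (Subgroup.mem_normalizer_iff.mp (hSW hs) g).mp hg

theorem coprime_card_of_pgroup {p : ℕ} [hp : Fact p.Prime] {W S : Subgroup Γ}
    (hS : IsPGroup p S) (hW : (Nat.card W).Coprime p) : (Nat.card W).Coprime (Nat.card S) := by
  obtain ⟨k, hk⟩ := IsPGroup.iff_card.mp hS
  rw [hk]
  exact Nat.Coprime.pow_right k hW

omit [Finite Γ] in
theorem invUnder_iff_le_inertia {W S : Subgroup Γ} (hSW : S ≤ Subgroup.normalizer (W : Set Γ))
    (χ : W → ℂ) :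
    InvUnder (((conjHomOn W S (hnorm_of_le_normalizer hSW)).range : Subgroup (MulAut W)) :
      Set (MulAut W)) χ ↔ S ≤ inertia W χ := by
  rw [invUnder_conj_iff]
  constructor
  · intro h s hs
    exact ⟨hSW hs, fun k k' hk => h s hs k k' hk⟩
  · intro h s hs g g' hg
    exact (h hs).2 g g' hg

/-- the Glauberman statement, in the ambient form -/
theorem glSt {p : ℕ} [hp : Fact p.Prime] (W S : Subgroup Γ)
    (hSW : S ≤ Subgroup.normalizer (W : Set Γ)) (hS : IsPGroup p S)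
    (hW : (Nat.card W).Coprime p) [Fintype W] [Fintype (fixC W S)] :
    GlaubStatement p (((conjHomOn W S (hnorm_of_le_normalizer hSW)).range :
      Subgroup (MulAut W)) : Set (MulAut W)) (Subgroup.inclusion (fixC_le W S)) :=
  glaubStatement_conj W S (hnorm_of_le_normalizer hSW) (coprime_card_of_pgroup hS hW) p hS
    (fixC W S) rfl (fixC_le W S)

theorem glC_iff_rel {p : ℕ} {W C : Subgroup Γ} (hCW : C ≤ W) [Fintype C] (χ : W → ℂ)
    (β : C → ℂ) : GlC p hCW χ β ↔ GlaubRelHom p (Subgroup.inclusion hCW) χ β := by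
  unfold GlC GlaubRelHom
  rw [ip_eq_classInner]
  rfl

/-- existence of the correspondent, with the congruences -/
theorem gl_exists {p : ℕ} [hp : Fact p.Prime] (W S C : Subgroup Γ)
    (hSW : S ≤ Subgroup.normalizer (W : Set Γ)) (hS : IsPGroup p S)
    (hW : (Nat.card W).Coprime p) (hC : C = fixC W S) (hCW : C ≤ W)
    (χ : W → ℂ) (hχ : Cfsg.IsIrrCharacter W χ) (hinv : S ≤ inertia W χ) :
    ∃ β : Cfsg.IrrCharacter C, GlC p hCW χ (β : C → ℂ) ∧
      (∀ β' : Cfsg.IrrCharacter C, β' ≠ β →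
        ∃ m : ℕ, ip (res hCW χ) (β' : C → ℂ) = (m : ℂ) ∧ p ∣ m) := by
  classical
  subst hC
  haveI := Fintype.ofFinite W
  haveI := Fintype.ofFinite (fixC W S)
  have St := glSt W S hSW hS hW
  obtain ⟨β₀, ⟨m, hm, hpm⟩, hoth⟩ := St.1 χ hχ ((invUnder_iff_le_inertia hSW χ).mpr hinv)
  refine ⟨β₀, ?_, ?_⟩
  · rw [glC_iff_rel]
    exact ⟨m, hm, not_dvd_of_modEq_pm hp.out hpm⟩
  · intro β' hne
    obtain ⟨m', hm', hdvd⟩ := hoth β' hne
    refine ⟨m', ?_, hdvd⟩
    rw [ip_eq_classInner]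
    exact hm'

/-- uniqueness of the correspondent -/
theorem gl_unique {p : ℕ} [hp : Fact p.Prime] (W S C : Subgroup Γ)
    (hSW : S ≤ Subgroup.normalizer (W : Set Γ)) (hS : IsPGroup p S)
    (hW : (Nat.card W).Coprime p) (hC : C = fixC W S) (hCW : C ≤ W)
    (χ : W → ℂ) (hχ : Cfsg.IsIrrCharacter W χ)
    (hinv : S ≤ inertia W χ) (β β' : Cfsg.IrrCharacter C)
    (h1 : GlC p hCW χ (β : C → ℂ)) (h2 : GlC p hCW χ (β' : C → ℂ)) : β = β' := by
  obtain ⟨β₀, -, hoth⟩ := gl_exists W S C hSW hS hW hC hCW χ hχ hinv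
  have key : ∀ γ : Cfsg.IrrCharacter C, GlC p hCW χ (γ : C → ℂ) → γ = β₀ := by
    intro γ hγ
    by_contra hne
    obtain ⟨m, hm, hdvd⟩ := hoth γ hne
    obtain ⟨m', hm', hnd⟩ := hγ
    have : (m : ℂ) = (m' : ℂ) := by rw [← hm, ← hm']
    have hmm : m = m' := by exact_mod_cast this
    rw [hmm] at hdvd
    exact hnd hdvd
  rw [key β h1, key β' h2]

/-- the other constituents have multiplicity divisible by `p` -/
theorem gl_others {p : ℕ} [hp : Fact p.Prime] (W S C : Subgroup Γ)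
    (hSW : S ≤ Subgroup.normalizer (W : Set Γ)) (hS : IsPGroup p S)
    (hW : (Nat.card W).Coprime p) (hC : C = fixC W S) (hCW : C ≤ W)
    (χ : W → ℂ) (hχ : Cfsg.IsIrrCharacter W χ)
    (hinv : S ≤ inertia W χ) (β : Cfsg.IrrCharacter C)
    (h1 : GlC p hCW χ (β : C → ℂ)) (β' : Cfsg.IrrCharacter C) (hne : β' ≠ β) :
    ∃ m : ℕ, ip (res hCW χ) (β' : C → ℂ) = (m : ℂ) ∧ p ∣ m := by
  obtain ⟨β₀, h0, hoth⟩ := gl_exists W S C hSW hS hW hC hCW χ hχ hinv
  have := gl_unique W S C hSW hS hW hC hCW χ hχ hinv β β₀ h1 h0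
  subst this
  exact hoth β' hne

/-- injectivity of the correspondence -/
theorem gl_injective {p : ℕ} [hp : Fact p.Prime] (W S C : Subgroup Γ)
    (hSW : S ≤ Subgroup.normalizer (W : Set Γ)) (hS : IsPGroup p S)
    (hW : (Nat.card W).Coprime p) (hC : C = fixC W S) (hCW : C ≤ W)
    (χ χ' : W → ℂ) (hχ : Cfsg.IsIrrCharacter W χ)
    (hχ' : Cfsg.IsIrrCharacter W χ') (hinv : S ≤ inertia W χ) (hinv' : S ≤ inertia W χ')
    (β : Cfsg.IrrCharacter C)
    (h1 : GlC p hCW χ (β : C → ℂ)) (h2 : GlC p hCW χ' (β : C → ℂ)) : χ = χ' := by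
  classical
  subst hC
  haveI := Fintype.ofFinite W
  haveI := Fintype.ofFinite (fixC W S)
  have St := glSt W S hSW hS hW
  exact St.2.1 χ χ' hχ ((invUnder_iff_le_inertia hSW χ).mpr hinv) hχ'
    ((invUnder_iff_le_inertia hSW χ').mpr hinv') β ((glC_iff_rel _ _ _).mp h1)
    ((glC_iff_rel _ _ _).mp h2)

/-- surjectivity of the correspondence -/
theorem gl_surjective {p : ℕ} [hp : Fact p.Prime] (W S C : Subgroup Γ)
    (hSW : S ≤ Subgroup.normalizer (W : Set Γ)) (hS : IsPGroup p S)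
    (hW : (Nat.card W).Coprime p) (hC : C = fixC W S) (hCW : C ≤ W)
    (β : Cfsg.IrrCharacter C) :
    ∃ χ : W → ℂ, Cfsg.IsIrrCharacter W χ ∧ S ≤ inertia W χ ∧ GlC p hCW χ (β : C → ℂ) := by
  classical
  subst hC
  haveI := Fintype.ofFinite W
  haveI := Fintype.ofFinite (fixC W S)
  have St := glSt W S hSW hS hW
  obtain ⟨χ, hχ, hinv, hrel⟩ := St.2.2 β
  exact ⟨χ, hχ, (invUnder_iff_le_inertia hSW χ).mp hinv, (glC_iff_rel _ _ _).mpr hrel⟩

end Cfsg.Agent.Helper6.RMcK
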