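import Mathlib
import Cfsg.Prelude.Def_Characters
import Cfsg.Prelude.Def_BlockLocal
import Cfsg.Agent.Helper6.RMcKGlB

/-!
# Equivariance, transitivity and the relative congruence for the ambient Glauberman correspondence
-/

set_option autoImplicit false
set_option linter.style.haveILetI false
set_option linter.unusedSimpArgs false

namespace Cfsg.Agent.Helper6.RMcK

open Cfsg.Agent.Helper6
open scoped ComplexConjugate

universe u

variable {Γ : Type u} [Group Γ]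

theorem res_cjc {C W : Subgroup Γ} (hCW : C ≤ W) (a : Γ)
    (haW : a ∈ Subgroup.normalizer (W : Set Γ)) (haC : a ∈ Subgroup.normalizer (C : Set Γ))
    (χ : W → ℂ) : res hCW (cjc W a haW χ) = cjc C a haC (res hCW χ) := by
  funext c
  rw [res_apply, cjc_apply, cjc_apply, res_apply]
  congr 1

theorem normalizer_fixC (W S : Subgroup Γ) (a : Γ)
    (haW : a ∈ Subgroup.normalizer (W : Set Γ)) (haS : a ∈ Subgroup.normalizer (S : Set Γ)) :
    a ∈ Subgroup.normalizer ((fixC W S : Subgroup Γ) : Set Γ) := by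
  have key : ∀ b : Γ, b ∈ Subgroup.normalizer (W : Set Γ) →
      b ∈ Subgroup.normalizer (S : Set Γ) → ∀ g ∈ fixC W S, b * g * b⁻¹ ∈ fixC W S := by
    intro b hbW hbS g hg
    rw [mem_fixC] at hg ⊢
    refine ⟨(Subgroup.mem_normalizer_iff.mp hbW g).mp hg.1, ?_⟩
    intro s hs
    have hs' : b⁻¹ * s * b ∈ S := (Subgroup.mem_normalizer_iff''.mp hbS s).mp hs
    have h1 := hg.2 _ hs'
    calc s * (b * g * b⁻¹) = b * ((b⁻¹ * s * b) * g) * b⁻¹ := by group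
      _ = b * (g * (b⁻¹ * s * b)) * b⁻¹ := by rw [h1]
      _ = b * g * b⁻¹ * s := by group
  rw [Subgroup.mem_normalizer_iff]
  intro g
  constructor
  · exact key a haW haS g
  · intro hg
    have := key a⁻¹ (Subgroup.inv_mem _ haW) (Subgroup.inv_mem _ haS) _ hg
    have h2 : a⁻¹ * (a * g * a⁻¹) * a⁻¹⁻¹ = g := by group
    rwa [h2] at this

variable [Finite Γ]

theorem ip_cjc (K : Subgroup Γ) (a : Γ) (ha : a ∈ Subgroup.normalizer (K : Set Γ))
    (f g : K → ℂ) : ip (cjc K a ha f) (cjc K a ha g) = ip f g := by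
  classical
  haveI := Fintype.ofFinite K
  rw [ip_eq_classInner, ip_eq_classInner]
  exact classInner_comp_equiv' (nconj K a ha).toEquiv f g

/-- equivariance of the Glauberman relation -/
theorem glC_cjc {p : ℕ} {C W : Subgroup Γ} (hCW : C ≤ W) (a : Γ)
    (haW : a ∈ Subgroup.normalizer (W : Set Γ)) (haC : a ∈ Subgroup.normalizer (C : Set Γ))
    (χ : W → ℂ) (β : C → ℂ) (h : GlC p hCW χ β) :
    GlC p hCW (cjc W a haW χ) (cjc C a haC β) := by
  obtain ⟨m, hm, hnd⟩ := h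
  refine ⟨m, ?_, hnd⟩
  rw [res_cjc hCW a haW haC, ip_cjc, hm]

theorem cjc_mem_inertia_of_normalizes (W S : Subgroup Γ) (a : Γ)
    (haW : a ∈ Subgroup.normalizer (W : Set Γ)) (haS : a ∈ Subgroup.normalizer (S : Set Γ))
    (χ : W → ℂ) (hinv : S ≤ inertia W χ) : S ≤ inertia W (cjc W a haW χ) := by
  intro s hs
  have hsW : s ∈ Subgroup.normalizer (W : Set Γ) := (hinv hs).1
  refine ⟨hsW, ?_⟩
  rw [isConjCharOf_iff W s hsW]
  have hs' : a⁻¹ * s * a ∈ S := (Subgroup.mem_normalizer_iff''.mp haS s).mp hs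
  have hs'W : a⁻¹ * s * a ∈ Subgroup.normalizer (W : Set Γ) := (hinv hs').1
  have h1 : cjc W s hsW (cjc W a haW χ) = cjc W (s * a) (Subgroup.mul_mem _ hsW haW) χ :=
    (cjc_mul W s a hsW haW χ).symm
  have h2 : cjc W (a * (a⁻¹ * s * a)) (Subgroup.mul_mem _ haW hs'W) χ =
      cjc W a haW (cjc W (a⁻¹ * s * a) hs'W χ) := cjc_mul W a _ haW hs'W χ
  have h3 : cjc W (a⁻¹ * s * a) hs'W χ = χ := cjc_eq_of_mem_inertia W χ _ (hinv hs')
  have h4 : cjc W (s * a) (Subgroup.mul_mem _ hsW haW) χ =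
      cjc W (a * (a⁻¹ * s * a)) (Subgroup.mul_mem _ haW hs'W) χ := by
    congr 1
    group
  rw [h1, h4, h2, h3]

/-- the correspondent of an `a`-invariant character is `a`-invariant -/
theorem gl_inertia_of_inertia {p : ℕ} [hp : Fact p.Prime] (W S C : Subgroup Γ)
    (hSW : S ≤ Subgroup.normalizer (W : Set Γ)) (hS : IsPGroup p S)
    (hW : (Nat.card W).Coprime p) (hC : C = fixC W S) (hCW : C ≤ W)
    (χ : W → ℂ) (hχ : Cfsg.IsIrrCharacter W χ) (hinv : S ≤ inertia W χ)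
    (β : Cfsg.IrrCharacter C) (hrel : GlC p hCW χ (β : C → ℂ))
    (a : Γ) (haS : a ∈ Subgroup.normalizer (S : Set Γ)) (ha : a ∈ inertia W χ) :
    a ∈ inertia C (β : C → ℂ) := by
  have haC : a ∈ Subgroup.normalizer (C : Set Γ) := by
    rw [hC]
    exact normalizer_fixC W S a ha.1 haS
  refine ⟨haC, ?_⟩
  rw [isConjCharOf_iff C a haC]
  have h1 := glC_cjc hCW a ha.1 haC χ (β : C → ℂ) hrel
  rw [cjc_eq_of_mem_inertia W χ a ha] at h1
  have h2 := gl_unique W S C hSW hS hW hC hCW χ hχ hinv β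
    ⟨cjc C a haC (β : C → ℂ), cjc_isIrr C a haC β.2⟩ hrel h1
  exact congrArg Subtype.val h2

/-- a character whose correspondent is `a`-invariant is `a`-invariant -/
theorem gl_inertia_of_inertia' {p : ℕ} [hp : Fact p.Prime] (W S C : Subgroup Γ)
    (hSW : S ≤ Subgroup.normalizer (W : Set Γ)) (hS : IsPGroup p S)
    (hW : (Nat.card W).Coprime p) (hC : C = fixC W S) (hCW : C ≤ W)
    (χ : W → ℂ) (hχ : Cfsg.IsIrrCharacter W χ) (hinv : S ≤ inertia W χ)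
    (β : Cfsg.IrrCharacter C) (hrel : GlC p hCW χ (β : C → ℂ))
    (a : Γ) (haS : a ∈ Subgroup.normalizer (S : Set Γ))
    (haW : a ∈ Subgroup.normalizer (W : Set Γ)) (ha : a ∈ inertia C (β : C → ℂ)) :
    a ∈ inertia W χ := by
  refine ⟨haW, ?_⟩
  rw [isConjCharOf_iff W a haW]
  have h1 := glC_cjc hCW a haW ha.1 χ (β : C → ℂ) hrel
  rw [cjc_eq_of_mem_inertia C (β : C → ℂ) a ha] at h1
  exact gl_injective W S C hSW hS hW hC hCW χ (cjc W a haW χ) hχ (cjc_isIrr W a haW hχ) hinv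
    (cjc_mem_inertia_of_normalizes W S a haW haS χ hinv) β hrel h1

/-- transitivity of the Glauberman relation -/
theorem glC_trans {p : ℕ} [hp : Fact p.Prime] {W W₁ C : Subgroup Γ} (hW₁W : W₁ ≤ W)
    (hCW₁ : C ≤ W₁) (χ : W → ℂ) (hχ : Cfsg.IsCharacter W χ) (η' : Cfsg.IrrCharacter W₁)
    (h1 : GlC p hW₁W χ (η' : W₁ → ℂ))
    (hoth : ∀ ζ : Cfsg.IrrCharacter W₁, ζ ≠ η' →
      ∃ m : ℕ, ip (res hW₁W χ) (ζ : W₁ → ℂ) = (m : ℂ) ∧ p ∣ m)
    (β : C → ℂ) (hβ : Cfsg.IsCharacter C β) (h2 : GlC p hCW₁ (η' : W₁ → ℂ) β) :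
    GlC p (hCW₁.trans hW₁W) χ β := by
  classical
  haveI := Fintype.ofFinite W
  haveI := Fintype.ofFinite W₁
  haveI := Fintype.ofFinite C
  obtain ⟨m₀, hm₀, hnd₀⟩ := h1
  obtain ⟨n, hn, hndn⟩ := h2
  rw [ip_eq_classInner] at hm₀ hn
  obtain ⟨m, hm, hmod⟩ := glaub_comp_congr (p := p) (Subgroup.inclusion hW₁W)
    (Subgroup.inclusion hCW₁) hχ η' m₀ hm₀ (by
      intro ζ hne
      obtain ⟨m', hm', hd⟩ := hoth ζ hne
      rw [ip_eq_classInner] at hm'
      exact ⟨m', hm', hd⟩) hβ n hn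
  refine ⟨m, ?_, ?_⟩
  · rw [ip_eq_classInner]
    exact hm
  · intro hdvd
    have h3 : p ∣ m₀ * n := by
      have := (Nat.modEq_zero_iff_dvd).mpr hdvd
      exact (Nat.modEq_zero_iff_dvd).mp (hmod.symm.trans this)
    rcases (Nat.Prime.dvd_mul hp.out).mp h3 with h | h
    · exact hnd₀ h
    · exact hndn h

/-- the relative congruence: lying over corresponds to lying over, modulo `p` -/
theorem gl_over_congr {p : ℕ} [hp : Fact p.Prime] (X W S₁ X₁ W₁ : Subgroup Γ) (hWX : W ≤ X)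
    (hSX : S₁ ≤ Subgroup.normalizer (X : Set Γ)) (hSW : S₁ ≤ Subgroup.normalizer (W : Set Γ))
    (hS : IsPGroup p S₁) (hX : (Nat.card X).Coprime p) (hWc : (Nat.card W).Coprime p)
    (hX₁ : X₁ = fixC X S₁) (hW₁ : W₁ = fixC W S₁) (hX₁X : X₁ ≤ X) (hW₁W : W₁ ≤ W)
    (hW₁X₁ : W₁ ≤ X₁)
    (χ : X → ℂ) (hχ : Cfsg.IsIrrCharacter X χ) (hχinv : S₁ ≤ inertia X χ)
    (ψ : Cfsg.IrrCharacter X₁) (hrelX : GlC p hX₁X χ (ψ : X₁ → ℂ))
    (θ : Cfsg.IrrCharacter W) (hθinv : S₁ ≤ inertia W (θ : W → ℂ))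
    (γ : Cfsg.IrrCharacter W₁) (hrelW : GlC p hW₁W (θ : W → ℂ) (γ : W₁ → ℂ)) :
    ∃ a b : ℕ, ip (res hWX χ) (θ : W → ℂ) = (a : ℂ) ∧
      ip (res hW₁X₁ (ψ : X₁ → ℂ)) (γ : W₁ → ℂ) = (b : ℂ) ∧ (p ∣ a ↔ p ∣ b) := by
  classical
  subst hX₁
  subst hW₁
  haveI := Fintype.ofFinite X
  haveI := Fintype.ofFinite W
  haveI := Fintype.ofFinite (fixC X S₁)
  haveI := Fintype.ofFinite (fixC W S₁)
  have StG := glSt X S₁ hSX hS hX
  have StN := glSt W S₁ hSW hS hWc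
  set T := (conjHomOn X S₁ (hnorm_of_le_normalizer hSX)).range with hT
  set TN := (conjHomOn W S₁ (hnorm_of_le_normalizer hSW)).range with hTN
  have hTNp : IsPGroup p TN :=
    hS.of_surjective (conjHomOn W S₁ (hnorm_of_le_normalizer hSW)).rangeRestrict
      (conjHomOn W S₁ (hnorm_of_le_normalizer hSW)).rangeRestrict_surjective
  have hsq : ∀ k : fixC W S₁, Subgroup.inclusion hX₁X (Subgroup.inclusion hW₁X₁ k) =
      Subgroup.inclusion hWX (Subgroup.inclusion hW₁W k) := fun k => rfl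
  have hequiv : ∀ t ∈ TN, ∃ t₀ ∈ T, ∀ n : W, Subgroup.inclusion hWX (t n) =
      t₀ (Subgroup.inclusion hWX n) := by
    rintro t ⟨s, rfl⟩
    refine ⟨conjHomOn X S₁ (hnorm_of_le_normalizer hSX) s, ⟨s, rfl⟩, ?_⟩
    intro n
    apply Subtype.ext
    rfl
  have hfixN : ∀ t ∈ TN, ∀ k : fixC W S₁, t (Subgroup.inclusion hW₁W k) =
      Subgroup.inclusion hW₁W k := by
    rintro t ⟨s, rfl⟩ k
    apply Subtype.ext
    rw [conjHomOn_apply]
    have hk := ((mem_fixC W S₁ (k : Γ)).mp k.2).2 s.1 s.2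
    change s.1 * (k : Γ) * s.1⁻¹ = (k : Γ)
    rw [hk]
    group
  obtain ⟨a, b, ha, hb, hab⟩ := glaub_square_congr T TN hTNp (Subgroup.inclusion hX₁X)
    (Subgroup.inclusion hWX) (Subgroup.inclusion hW₁X₁) (Subgroup.inclusion hW₁W) hsq hequiv
    hfixN StG StN hχ ((invUnder_iff_le_inertia hSX χ).mpr hχinv) ψ
    ((glC_iff_rel _ _ _).mp hrelX) θ ((invUnder_iff_le_inertia hSW _).mpr hθinv) γ
    ((glC_iff_rel _ _ _).mp hrelW)
  refine ⟨a, b, ?_, ?_, hab⟩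
  · rw [ip_eq_classInner]
    exact ha
  · rw [ip_eq_classInner]
    exact hb

end Cfsg.Agent.Helper6.RMcK
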