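import Mathlib
import Cfsg.Prelude.Def_Characters
import Cfsg.Prelude.Def_BlockLocal
import Cfsg.Agent.Helper6.RMcKGlC
import Cfsg.Agent.Helper6.RMcKDefsB

/-!
# Characters over an invariant character with abelian quotient are fixed by a coprime
operator acting trivially on the quotient
-/

set_option autoImplicit false
set_option linter.style.haveILetI false
set_option linter.unusedSimpArgs false

namespace Cfsg.Agent.Helper6.RMcK

open Cfsg.Agent.Helper6
open scoped ComplexConjugate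

universe u

variable {Γ : Type u} [Group Γ]

/-- `cjc` is multiplicative -/
theorem cjc_mul_fun (K : Subgroup Γ) (g : Γ) (hg : g ∈ Subgroup.normalizer (K : Set Γ))
    (f₁ f₂ : K → ℂ) : cjc K g hg (f₁ * f₂) = cjc K g hg f₁ * cjc K g hg f₂ := by
  funext k
  simp [cjc_apply]

/-- `cjc` of a power -/
theorem cjc_pow (K : Subgroup Γ) (g : Γ) (hg : g ∈ Subgroup.normalizer (K : Set Γ))
    (n : ℕ) (θ : K → ℂ) :
    cjc K (g ^ n) (Subgroup.pow_mem _ hg n) θ = (cjc K g hg)^[n] θ := by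
  induction n with
  | zero =>
    simp only [Function.iterate_zero, id_eq]
    have h1 : cjc K (g ^ 0) (Subgroup.pow_mem _ hg 0) θ = cjc K 1 (Subgroup.one_mem _) θ := by
      congr 1
      exact pow_zero g
    rw [h1, cjc_one]
  | succ n ih =>
    rw [Function.iterate_succ_apply']
    rw [← ih]
    have h1 : cjc K (g ^ (n + 1)) (Subgroup.pow_mem _ hg (n + 1)) θ =
        cjc K (g * g ^ n) (Subgroup.mul_mem _ hg (Subgroup.pow_mem _ hg n)) θ := by
      congr 1
      exact pow_succ' g n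
    rw [h1, cjc_mul]

variable [Finite Γ]

/-- invariance of "lying over" under simultaneous conjugation -/
theorem ov_cjc {W X : Subgroup Γ} (hWX : W ≤ X) (a : Γ)
    (haX : a ∈ Subgroup.normalizer (X : Set Γ)) (haW : a ∈ Subgroup.normalizer (W : Set Γ))
    (χ : X → ℂ) (η : W → ℂ) (h : Ov hWX χ η) :
    Ov hWX (cjc X a haX χ) (cjc W a haW η) := by
  unfold Ov at h ⊢
  rw [res_cjc hWX a haX haW, ip_cjc]
  exact h

theorem f5' {p : ℕ} [hp : Fact p.Prime] (X W S₁ : Subgroup Γ) (hWX : W ≤ X)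
    (hXW : X ≤ Subgroup.normalizer (W : Set Γ)) (hab : AbMod W X) (hS : IsPGroup p S₁)
    (hSX : S₁ ≤ Subgroup.normalizer (X : Set Γ))
    (hcomm : ∀ s ∈ S₁, ∀ x ∈ X, s⁻¹ * x * s * x⁻¹ ∈ W)
    (hX : (Nat.card X).Coprime p) (η : W → ℂ) (hη : Cfsg.IsIrrCharacter W η)
    (hSη : S₁ ≤ inertia W η) (χ : X → ℂ) (hχ : Cfsg.IsIrrCharacter X χ)
    (hov : Ov hWX χ η) : S₁ ≤ inertia X χ := by
  classical
  intro s hs
  have hsX : s ∈ Subgroup.normalizer (X : Set Γ) := hSX hs
  have hsW : s ∈ Subgroup.normalizer (W : Set Γ) := (hSη hs).1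
  rw [mem_inertia]
  refine ⟨hsX, ?_⟩
  rw [isConjCharOf_iff X s hsX]
  -- the conjugate lies over `η`
  have hov' : Ov hWX (cjc X s hsX χ) η := by
    have h1 := ov_cjc hWX s hsX hsW χ η hov
    rwa [cjc_eq_of_mem_inertia W η s (hSη hs)] at h1
  obtain ⟨μ, hμW, hμ⟩ := exists_hom_of_common hWX hXW hab hχ (cjc_isIrr X s hsX hχ) hη hov hov'
  -- `μ` is fixed by conjugation with `s`
  have hμs : cjc X s hsX (fun g => ((μ g : ℂˣ) : ℂ)) = fun g => ((μ g : ℂˣ) : ℂ) := by
    funext x
    rw [cjc_apply]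
    have h1 : nconj X s hsX x = x * ⟨(x : Γ)⁻¹ * (s⁻¹ * (x : Γ) * s),
        X.mul_mem (X.inv_mem x.2) (nconj X s hsX x).2⟩ := by
      apply Subtype.ext
      simp [coe_nconj, mul_assoc]
    have h2 : (⟨(x : Γ)⁻¹ * (s⁻¹ * (x : Γ) * s),
        X.mul_mem (X.inv_mem x.2) (nconj X s hsX x).2⟩ : X) =
        Subgroup.inclusion hWX ⟨(x : Γ)⁻¹ * (s⁻¹ * (x : Γ) * s), by
          have h3 := hcomm s hs (x : Γ) x.2
          have h4 : (x : Γ)⁻¹ * (s⁻¹ * (x : Γ) * s) =
              (x : Γ)⁻¹ * (s⁻¹ * (x : Γ) * s * (x : Γ)⁻¹) * (x : Γ) := by group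
          rw [h4]
          have h5 := (Subgroup.mem_normalizer_iff''.mp (hXW x.2)
            (s⁻¹ * (x : Γ) * s * (x : Γ)⁻¹)).mp h3
          exact h5⟩ := rfl
    rw [h1, map_mul, h2, hμW]
    simp
  -- iterate
  have hiter : ∀ n : ℕ, (cjc X s hsX)^[n] χ = χ * fun g => (((μ ^ n) g : ℂˣ) : ℂ) := by
    intro n
    induction n with
    | zero =>
      funext x
      simp
    | succ n ih =>
      rw [Function.iterate_succ_apply', ih, cjc_mul_fun, hμ]
      have h1 : cjc X s hsX (fun g => (((μ ^ n) g : ℂˣ) : ℂ)) =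
          fun g => (((μ ^ n) g : ℂˣ) : ℂ) := by
        have h2 : (fun g : X => (((μ ^ n) g : ℂˣ) : ℂ)) = (fun g => ((μ g : ℂˣ) : ℂ)) ^ n := by
          funext g
          simp
        rw [h2]
        funext x
        rw [cjc_apply]
        simp only [Pi.pow_apply]
        have h3 := congrFun hμs x
        rw [cjc_apply] at h3
        rw [h3]
      rw [h1]
      funext x
      simp only [Pi.mul_apply, MonoidHom.pow_apply, Units.val_pow_eq_pow_val]
      ring
  -- `s` has `p`-power order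
  obtain ⟨k, hk⟩ := (IsPGroup.iff_orderOf.mp hS) ⟨s, hs⟩
  have hsk : s ^ (p ^ k) = 1 := by
    have h1 : (⟨s, hs⟩ : S₁) ^ (p ^ k) = 1 := by
      rw [← hk]
      exact pow_orderOf_eq_one _
    have h2 := congrArg (Subtype.val) h1
    simpa using h2
  have hN : χ = χ * fun g => (((μ ^ (p ^ k)) g : ℂˣ) : ℂ) := by
    rw [← hiter (p ^ k), ← cjc_pow X s hsX (p ^ k) χ]
    have h1 : cjc X (s ^ (p ^ k)) (Subgroup.pow_mem _ hsX (p ^ k)) χ =
        cjc X 1 (Subgroup.one_mem _) χ := by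
      congr 1
    rw [h1, cjc_one]
  -- `μ ^ |X| = 1`
  have hm : μ ^ (Nat.card X) = 1 := by
    ext x
    rw [MonoidHom.pow_apply, ← map_pow, pow_card_eq_one', map_one]
    simp
  -- Bezout
  have hcop : (p ^ k).Coprime (Nat.card X) := (Nat.Coprime.pow_left k hX.symm)
  have hmul : ∀ a : ℕ, χ = χ * fun g => (((μ ^ (p ^ k * a)) g : ℂˣ) : ℂ) := by
    intro a
    induction a with
    | zero =>
      funext x
      simp
    | succ a ih =>
      have h1 : (fun g : X => (((μ ^ (p ^ k * (a + 1))) g : ℂˣ) : ℂ)) =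
          (fun g => (((μ ^ (p ^ k * a)) g : ℂˣ) : ℂ)) *
            fun g => (((μ ^ (p ^ k)) g : ℂˣ) : ℂ) := by
        funext g
        simp only [Pi.mul_apply, MonoidHom.pow_apply, Units.val_pow_eq_pow_val]
        rw [mul_add, mul_one, pow_add]
      rw [h1, ← mul_assoc, ← ih, ← hN]
  have hμχ : χ = χ * fun g => ((μ g : ℂˣ) : ℂ) := by
    by_cases hX1 : Nat.card X = 1
    · have h1 : μ = 1 := by
        rw [hX1] at hm
        ext x
        have h2 := congrArg (fun f : X →* ℂˣ => ((f x : ℂˣ) : ℂ)) hm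
        simpa [MonoidHom.pow_apply] using h2
      rw [h1]
      funext x
      simp
    · obtain ⟨a, -, ha⟩ := Nat.exists_mul_mod_eq_one_of_coprime hcop
        (lt_of_le_of_ne Nat.card_pos (Ne.symm hX1))
      have h1 : μ ^ (p ^ k * a) = μ := by
        have h2 : p ^ k * a = Nat.card X * (p ^ k * a / Nat.card X) + 1 := by
          have h3 := Nat.div_add_mod (p ^ k * a) (Nat.card X)
          rw [ha] at h3
          exact h3.symm
        rw [h2]
        ext x
        have h5 := congrArg (fun f : X →* ℂˣ => f x) hm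
        simp only [MonoidHom.pow_apply, MonoidHom.one_apply] at h5
        rw [MonoidHom.pow_apply, pow_add, pow_mul, h5, one_pow, one_mul, pow_one]
      have h4 := hmul a
      rw [h1] at h4
      exact h4
  rw [hμ]
  exact hμχ

end Cfsg.Agent.Helper6.RMcK
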