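import Mathlib
import Cfsg.Prelude.Def_Characters
import Cfsg.Prelude.Def_BlockLocal
import Cfsg.Agent.Helper6.RMcKGlD
import Cfsg.Agent.Helper6.RMcKCnt
import Cfsg.Agent.Helper6.Glue2

/-!
# Lemma X, part a: Glauberman correspondence between `Irr(X | η)` and `Irr(X₁ | η')`
-/

set_option autoImplicit false
set_option linter.style.haveILetI false
set_option linter.unusedSimpArgs false

namespace Cfsg.Agent.Helper6.RMcK

open Cfsg.Agent.Helper6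
open scoped ComplexConjugate

universe u

variable {Γ : Type u} [Group Γ] [Finite Γ]

/-- a character whose restriction to a subgroup is irreducible is irreducible (ambient form) -/
theorem isIrr_of_res_isIrr {A B : Subgroup Γ} (h : A ≤ B) (χ : B → ℂ)
    (hχ : Cfsg.IsCharacter B χ) (hres : Cfsg.IsIrrCharacter A (res h χ)) :
    Cfsg.IsIrrCharacter B χ := by
  apply Cfsg.Agent.Helper6.isIrr_of_restrict_isIrr (A.subgroupOf B) hχ
  have h1 := irr_subgroupOf h hres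
  have h2 : (fun n : A.subgroupOf B => χ n) = (res h χ) ∘ (Subgroup.subgroupOfEquivOfLe h) := by
    funext n
    rfl
  rw [h2]
  exact h1

/-- an extension lies over the character it extends -/
theorem ov_of_res_eq {A B : Subgroup Γ} (h : A ≤ B) (χ : B → ℂ) (θ : A → ℂ)
    (hθ : Cfsg.IsIrrCharacter A θ) (hres : res h χ = θ) : Ov h χ θ := by
  classical
  haveI := Fintype.ofFinite A
  unfold Ov
  rw [hres, ip_eq_classInner, classInner_irr_self hθ]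
  exact one_ne_zero

omit [Finite Γ] in
theorem relIndex_coprime_of_card {A B : Subgroup Γ} (p : ℕ) (hB : (Nat.card B).Coprime p) :
    (A.relIndex B).Coprime p :=
  Nat.Coprime.coprime_dvd_left (Subgroup.relIndex_dvd_card A B) hB

omit [Finite Γ] in
theorem card_coprime_of_le {A B : Subgroup Γ} (p : ℕ) (h : A ≤ B) (hB : (Nat.card B).Coprime p) :
    (Nat.card A).Coprime p :=
  Nat.Coprime.coprime_dvd_left (Subgroup.card_dvd_of_le h) hB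

section

variable {p : ℕ} [hp : Fact p.Prime] (X W S₁ X₁ W₁ : Subgroup Γ) (hWX : W ≤ X)
  (hSX : S₁ ≤ Subgroup.normalizer (X : Set Γ)) (hSW : S₁ ≤ Subgroup.normalizer (W : Set Γ))
  (hS : IsPGroup p S₁) (hX : (Nat.card X).Coprime p)
  (hX₁ : X₁ = fixC X S₁) (hW₁ : W₁ = fixC W S₁) (hX₁X : X₁ ≤ X) (hW₁W : W₁ ≤ W)
  (hW₁X₁ : W₁ ≤ X₁)
  (η : Cfsg.IrrCharacter W) (hηS : S₁ ≤ inertia W (η : W → ℂ))
  (η' : Cfsg.IrrCharacter W₁) (hrelW : GlC p hW₁W (η : W → ℂ) (η' : W₁ → ℂ))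

include hWX hSX hSW hS hX hX₁ hW₁ hX₁X hW₁W hW₁X₁ hrelW hηS

theorem gl_over_fwd (hηX : X ≤ inertia W (η : W → ℂ))
    (χ : X → ℂ) (hχ : Cfsg.IsIrrCharacter X χ) (hχinv : S₁ ≤ inertia X χ)
    (ψ : Cfsg.IrrCharacter X₁) (hrelX : GlC p hX₁X χ (ψ : X₁ → ℂ))
    (hov : Ov hWX χ (η : W → ℂ)) : Ov hW₁X₁ (ψ : X₁ → ℂ) (η' : W₁ → ℂ) := by
  obtain ⟨a, b, ha, hb, hab⟩ := gl_over_congr X W S₁ X₁ W₁ hWX hSX hSW hS hX
    (card_coprime_of_le p hWX hX) hX₁ hW₁ hX₁X hW₁W hW₁X₁ χ hχ hχinv ψ hrelX η hηS η' hrelW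
  obtain ⟨f, hf0, -, hf, hfdvd⟩ := res_eq_smul_of_invariant hWX (η : W → ℂ) η.2 hηX χ hχ hov
  have haf : a = f := by
    have : (a : ℂ) = (f : ℂ) := by rw [← ha, hf]
    exact_mod_cast this
  have hpa : ¬ p ∣ a := by
    rw [haf]
    intro hdvd
    have h1 : p ∣ W.relIndex X := dvd_trans hdvd hfdvd
    have h2 := relIndex_coprime_of_card (A := W) p hX
    have h3 := Nat.Coprime.eq_one_of_dvd h2.symm h1
    exact hp.out.one_lt.ne' h3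
  have hpb : ¬ p ∣ b := fun h => hpa (hab.mpr h)
  unfold Ov
  rw [hb]
  intro h0
  have : b = 0 := by exact_mod_cast h0
  exact hpb (this ▸ dvd_zero p)

theorem gl_over_bwd (hη'X : X₁ ≤ inertia W₁ (η' : W₁ → ℂ))
    (χ : X → ℂ) (hχ : Cfsg.IsIrrCharacter X χ) (hχinv : S₁ ≤ inertia X χ)
    (ψ : Cfsg.IrrCharacter X₁) (hrelX : GlC p hX₁X χ (ψ : X₁ → ℂ))
    (hov : Ov hW₁X₁ (ψ : X₁ → ℂ) (η' : W₁ → ℂ)) : Ov hWX χ (η : W → ℂ) := by
  obtain ⟨a, b, ha, hb, hab⟩ := gl_over_congr X W S₁ X₁ W₁ hWX hSX hSW hS hX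
    (card_coprime_of_le p hWX hX) hX₁ hW₁ hX₁X hW₁W hW₁X₁ χ hχ hχinv ψ hrelX η hηS η' hrelW
  obtain ⟨f, hf0, -, hf, hfdvd⟩ := res_eq_smul_of_invariant hW₁X₁ (η' : W₁ → ℂ) η'.2 hη'X
    (ψ : X₁ → ℂ) ψ.2 hov
  have hbf : b = f := by
    have : (b : ℂ) = (f : ℂ) := by rw [← hb, hf]
    exact_mod_cast this
  have hpb : ¬ p ∣ b := by
    rw [hbf]
    intro hdvd
    have h1 : p ∣ W₁.relIndex X₁ := dvd_trans hdvd hfdvd
    have h2 := relIndex_coprime_of_card (A := W₁) p (card_coprime_of_le p hX₁X hX)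
    have h3 := Nat.Coprime.eq_one_of_dvd h2.symm h1
    exact hp.out.one_lt.ne' h3
  have hpa : ¬ p ∣ a := fun h => hpb (hab.mp h)
  unfold Ov
  rw [ha]
  intro h0
  have : a = 0 := by exact_mod_cast h0
  exact hpa (this ▸ dvd_zero p)

/-- the Glauberman correspondence restricts to a bijection `Irr(X | η) → Irr(X₁ | η')` -/
theorem ocnt_gl_eq (hηX : X ≤ inertia W (η : W → ℂ))
    (hη'X : X₁ ≤ inertia W₁ (η' : W₁ → ℂ))
    (hf5 : ∀ χ : X → ℂ, Cfsg.IsIrrCharacter X χ → Ov hWX χ (η : W → ℂ) → S₁ ≤ inertia X χ) :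
    ocnt hWX (η : W → ℂ) = ocnt hW₁X₁ (η' : W₁ → ℂ) := by
  classical
  unfold ocnt
  have hex : ∀ χ : {χ : Cfsg.IrrCharacter X // Ov hWX (χ : X → ℂ) (η : W → ℂ)},
      ∃ ψ : Cfsg.IrrCharacter X₁, GlC p hX₁X (χ.1 : X → ℂ) (ψ : X₁ → ℂ) := by
    intro χ
    obtain ⟨ψ, hψ, -⟩ := gl_exists X S₁ X₁ hSX hS hX hX₁ hX₁X (χ.1 : X → ℂ) χ.1.2
      (hf5 _ χ.1.2 χ.2)
    exact ⟨ψ, hψ⟩
  let F : {χ : Cfsg.IrrCharacter X // Ov hWX (χ : X → ℂ) (η : W → ℂ)} →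
      {ψ : Cfsg.IrrCharacter X₁ // Ov hW₁X₁ (ψ : X₁ → ℂ) (η' : W₁ → ℂ)} := fun χ =>
    ⟨Classical.choose (hex χ), gl_over_fwd X W S₁ X₁ W₁ hWX hSX hSW hS hX hX₁ hW₁ hX₁X hW₁W
      hW₁X₁ η hηS η' hrelW hηX (χ.1 : X → ℂ) χ.1.2 (hf5 _ χ.1.2 χ.2) _
      (Classical.choose_spec (hex χ)) χ.2⟩
  have hFinj : Function.Injective F := by
    intro χ χ' hFF
    have h1 : Classical.choose (hex χ) = Classical.choose (hex χ') := congrArg Subtype.val hFF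
    have h2 := Classical.choose_spec (hex χ)
    have h3 := Classical.choose_spec (hex χ')
    rw [← h1] at h3
    have h4 := gl_injective X S₁ X₁ hSX hS hX hX₁ hX₁X (χ.1 : X → ℂ) (χ'.1 : X → ℂ) χ.1.2 χ'.1.2
      (hf5 _ χ.1.2 χ.2) (hf5 _ χ'.1.2 χ'.2) _ h2 h3
    exact Subtype.ext (Subtype.ext h4)
  have hFsurj : Function.Surjective F := by
    intro ψ
    obtain ⟨χ, hχ, hχinv, hrel⟩ := gl_surjective X S₁ X₁ hSX hS hX hX₁ hX₁X ψ.1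
    have hov := gl_over_bwd X W S₁ X₁ W₁ hWX hSX hSW hS hX hX₁ hW₁ hX₁X hW₁W
      hW₁X₁ η hηS η' hrelW hη'X χ hχ hχinv ψ.1 hrel ψ.2
    refine ⟨⟨⟨χ, hχ⟩, hov⟩, ?_⟩
    apply Subtype.ext
    have h2 := Classical.choose_spec (hex ⟨⟨χ, hχ⟩, hov⟩)
    exact gl_unique X S₁ X₁ hSX hS hX hX₁ hX₁X χ hχ hχinv _ _ h2 hrel
  exact Nat.card_congr (Equiv.ofBijective F ⟨hFinj, hFsurj⟩)

end

end Cfsg.Agent.Helper6.RMcK
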