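import Mathlib
import Cfsg.Prelude.Def_Characters
import Cfsg.Prelude.Def_BlockLocal
import Cfsg.Prelude.Def_Blocks
import Cfsg.Prelude.Def_Local
import Cfsg.Agent.Helper6.RMcKCnt

/-!
# Statements (as `Prop`-valued definitions) of the main steps of the relative McKay theorem for
`p`-solvable groups, in ambient form.  They allow the steps to be proved independently.
-/

set_option autoImplicit false

namespace Cfsg.Agent.Helper6.RMcK

open Cfsg.Agent.Helper6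

universe u

/-- the ambient main theorem -/
def MainStmt (Γ : Type u) [Group Γ] [Finite Γ] (p : ℕ) : Prop :=
  ∀ (G L S N : Subgroup Γ) (hLG : L ≤ G) (hLN : L ≤ N), Cfsg.IsPSolvable p G →
    G ≤ Subgroup.normalizer (L : Set Γ) → S ≤ G → IsPGroup p S → ¬ p ∣ S.relIndex G →
    N = G ⊓ Subgroup.normalizer ((L ⊔ S : Subgroup Γ) : Set Γ) →
    ∀ ν : L → ℂ, Cfsg.IsIrrCharacter L ν → S ≤ inertia L ν →
      pcnt p hLG ν = pcnt p hLN ν

/-- the terminal case: `ν` invariant, `K / L` a normal `p'`-section with `K ⊔ S` normal -/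
def TermStmt (Γ : Type u) [Group Γ] [Finite Γ] (p : ℕ) : Prop :=
  ∀ (G L K S N : Subgroup Γ) (hLK : L ≤ K) (hKG : K ≤ G) (hLN : L ≤ N),
    G ≤ Subgroup.normalizer (L : Set Γ) → G ≤ Subgroup.normalizer (K : Set Γ) → S ≤ G →
    IsPGroup p S → ¬ p ∣ S.relIndex G → (L.relIndex K).Coprime p →
    G ≤ Subgroup.normalizer ((K ⊔ S : Subgroup Γ) : Set Γ) →
    N = G ⊓ Subgroup.normalizer ((L ⊔ S : Subgroup Γ) : Set Γ) →
    ∀ ν : L → ℂ, Cfsg.IsIrrCharacter L ν → G ≤ inertia L ν →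
      pcnt p (hLK.trans hKG) ν = pcnt p hLN ν

/-- the central case with a normal `p'`-subgroup `W` and `W ⊔ S` normal -/
def CenStmt (Γ : Type u) [Group Γ] [Finite Γ] (p : ℕ) : Prop :=
  ∀ (G L W S N : Subgroup Γ) (hLG : L ≤ G) (hLN : L ≤ N),
    (∀ l ∈ L, ∀ g ∈ G, l * g = g * l) → W ≤ G → G ≤ Subgroup.normalizer (W : Set Γ) →
    (Nat.card W).Coprime p → S ≤ G → IsPGroup p S → ¬ p ∣ S.relIndex G →
    G ≤ Subgroup.normalizer ((W ⊔ S : Subgroup Γ) : Set Γ) → L ≤ W ⊔ S →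
    N = G ⊓ Subgroup.normalizer (S : Set Γ) →
    ∀ ν : L → ℂ, Cfsg.IsIrrCharacter L ν → pcnt p hLG ν = pcnt p hLN ν

/-- the central terminal case, in terms of `P` with `P / L` a Sylow `p`-subgroup of `G / L` -/
def CenPStmt (Γ : Type u) [Group Γ] [Finite Γ] (p : ℕ) : Prop :=
  ∀ (G L K P N : Subgroup Γ) (hLK : L ≤ K) (hKG : K ≤ G) (hLN : L ≤ N),
    (∀ l ∈ L, ∀ g ∈ G, l * g = g * l) → G ≤ Subgroup.normalizer (K : Set Γ) →
    (L.relIndex K).Coprime p → L ≤ P → P ≤ G → (∃ m : ℕ, L.relIndex P = p ^ m) →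
    ¬ p ∣ P.relIndex G → G ≤ Subgroup.normalizer ((K ⊔ P : Subgroup Γ) : Set Γ) →
    N = G ⊓ Subgroup.normalizer (P : Set Γ) →
    ∀ ν : L → ℂ, Cfsg.IsIrrCharacter L ν → pcnt p (hLK.trans hKG) ν = pcnt p hLN ν

end Cfsg.Agent.Helper6.RMcK
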