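import Mathlib
import Cfsg.Agent.Lead.DihedralInvolutions

/-!
# Dihedral Sylow 2-subgroups: the abstract data extracted from an isomorphism with `DihedralGroup N`
-/

set_option autoImplicit false

namespace Cfsg.Agent.Helper6.DihBr

open DihedralGroup

universe u

variable {G : Type u} [Group G]

/-- `P` is dihedral of order `2N` over its cyclic subgroup `⟨σ⟩` of order `N`. -/
structure DihData (P : Subgroup G) (σ : G) (N : ℕ) : Prop where
  mem : σ ∈ P
  order : orderOf σ = N
  card : Nat.card P = 2 * N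
  inv : ∀ x ∈ P, x ∉ Subgroup.zpowers σ → x * x = 1 ∧ x * σ * x⁻¹ = σ⁻¹

theorem card_dihedralRot' (N : ℕ) [NeZero N] : Nat.card (Cfsg.Agent.Lead.dihedralRot N) = N := by
  have h1 := Subgroup.card_mul_index (Cfsg.Agent.Lead.dihedralRot N)
  rw [Cfsg.Agent.Lead.dihedralRot_index, DihedralGroup.nat_card] at h1
  omega

theorem zpowers_r_eq_rot (N : ℕ) [NeZero N] (i : ZMod N)
    (hi : orderOf (r i : DihedralGroup N) = N) :
    Subgroup.zpowers (r i : DihedralGroup N) = Cfsg.Agent.Lead.dihedralRot N := by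
  apply Subgroup.eq_of_le_of_card_ge
  · rw [Subgroup.zpowers_le]
    exact Cfsg.Agent.Lead.r_mem_dihedralRot N i
  · rw [card_dihedralRot', Nat.card_zpowers, hi]

theorem dihData_of_equiv (P : Subgroup G) (σ : G) (N : ℕ) (hN : 3 ≤ N)
    (e : ↥P ≃* DihedralGroup N) (hσ : σ ∈ P) (hσo : orderOf σ = N) : DihData P σ N := by
  haveI : NeZero N := ⟨by omega⟩
  set s : ↥P := ⟨σ, hσ⟩ with hs
  have hso : orderOf (e s) = N := by
    rw [MulEquiv.orderOf_eq, hs, Subgroup.orderOf_mk, hσo]
  refine ⟨hσ, hσo, ?_, ?_⟩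
  · rw [Nat.card_congr e.toEquiv, DihedralGroup.nat_card]
  · intro x hx hxs
    obtain ⟨i, hi⟩ : ∃ i, e s = r i := by
      cases h : e s with
      | r i => exact ⟨i, rfl⟩
      | sr i =>
        rw [h, orderOf_sr] at hso
        omega
    rw [hi] at hso
    have hrot := zpowers_r_eq_rot N i hso
    cases h : e ⟨x, hx⟩ with
    | r j =>
      exfalso
      apply hxs
      have hmem : (r j : DihedralGroup N) ∈ Subgroup.zpowers (r i : DihedralGroup N) := by
        rw [hrot]
        exact Cfsg.Agent.Lead.r_mem_dihedralRot N j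
      obtain ⟨k, hk⟩ := Subgroup.mem_zpowers_iff.mp hmem
      have h2 : s ^ k = ⟨x, hx⟩ := by
        apply e.injective
        rw [map_zpow, hi, hk, h]
      refine Subgroup.mem_zpowers_iff.mpr ⟨k, ?_⟩
      have := congrArg (fun y : ↥P => (y : G)) h2
      simpa [hs] using this
    | sr j =>
      have h1 : (⟨x, hx⟩ : ↥P) * ⟨x, hx⟩ = 1 := by
        apply e.injective
        rw [map_mul, h, sr_mul_self, map_one]
      have h2 : (⟨x, hx⟩ : ↥P) * s * (⟨x, hx⟩ : ↥P)⁻¹ = s⁻¹ := by
        apply e.injective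
        rw [map_mul, map_mul, map_inv, map_inv, h, hi, inv_sr, sr_mul_r, sr_mul_sr, inv_r]
        congr 1
        ring
      constructor
      · have := congrArg (fun y : ↥P => (y : G)) h1
        simpa using this
      · have := congrArg (fun y : ↥P => (y : G)) h2
        simpa [hs] using this

namespace DihData

variable {P : Subgroup G} {σ : G} {N : ℕ}

theorem zpowers_le (h : DihData P σ N) : Subgroup.zpowers σ ≤ P := by
  rw [Subgroup.zpowers_le]
  exact h.mem

theorem card_zpowers (h : DihData P σ N) : Nat.card (Subgroup.zpowers σ) = N := by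
  rw [Nat.card_zpowers, h.order]

/-- An element of `P` outside `⟨σ⟩` inverts every element of `⟨σ⟩`. -/
theorem inv_of_mem (h : DihData P σ N) {x : G} (hx : x ∈ P) (hxs : x ∉ Subgroup.zpowers σ)
    {y : G} (hy : y ∈ Subgroup.zpowers σ) : x * y * x⁻¹ = y⁻¹ := by
  obtain ⟨k, rfl⟩ := Subgroup.mem_zpowers_iff.mp hy
  have h1 := (h.inv x hx hxs).2
  have h2 : x * σ ^ k * x⁻¹ = (x * σ * x⁻¹) ^ k := by
    rw [conj_zpow]
  rw [h2, h1, inv_zpow]

/-- There is an element of `P` outside `⟨σ⟩`. -/
theorem exists_not_mem [Finite G] (h : DihData P σ N) (hN : 0 < N) :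
    ∃ τ ∈ P, τ ∉ Subgroup.zpowers σ := by
  by_contra hcon
  simp only [not_exists, not_and, not_not] at hcon
  have hle : P ≤ Subgroup.zpowers σ := fun x hx => hcon x hx
  have := Subgroup.card_le_of_le hle
  rw [h.card, h.card_zpowers] at this
  omega

/-- An element of `P` whose square is not `1` lies in `⟨σ⟩`. -/
theorem mem_zpowers_of_sq_ne (h : DihData P σ N) {x : G} (hx : x ∈ P) (hx2 : x * x ≠ 1) :
    x ∈ Subgroup.zpowers σ := by
  by_contra hcon
  exact hx2 (h.inv x hx hcon).1

/-- An element of `P` centralizing an element `y` of `⟨σ⟩` with `y² ≠ 1` lies in `⟨σ⟩`. -/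
theorem mem_zpowers_of_commute (h : DihData P σ N) {x y : G} (hx : x ∈ P)
    (hy : y ∈ Subgroup.zpowers σ) (hy2 : y * y ≠ 1) (hc : x * y = y * x) :
    x ∈ Subgroup.zpowers σ := by
  by_contra hcon
  have h1 := h.inv_of_mem hx hcon hy
  apply hy2
  have : x * y * x⁻¹ = y := by rw [hc]; group
  rw [this] at h1
  calc y * y = y * y⁻¹ := by rw [← h1]
    _ = 1 := mul_inv_cancel y

end DihData

end Cfsg.Agent.Helper6.DihBr
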