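import Mathlib
import Cfsg.Agent.Helper6.DihBrA
import Cfsg.Agent.Helper6.BLeoB

/-!
# Dihedral Sylow 2-subgroups: centralizers of elements of order at least four
-/

set_option autoImplicit false
set_option linter.style.haveILetI false

namespace Cfsg.Agent.Helper6.DihBr

universe u

variable {G : Type u} [Group G]

theorem conj_mem_of_smul_sylow [Finite G] {p : ℕ} [Fact p.Prime] (P Q : Sylow p G) (g : G)
    (hg : g • P = Q) {x : G} (hx : x ∈ (Q : Subgroup G)) : g⁻¹ * x * g ∈ (P : Subgroup G) := by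
  rw [← hg, Sylow.coe_subgroup_smul, Subgroup.mem_pointwise_smul_iff_inv_smul_mem] at hx
  have : (MulAut.conj g)⁻¹ • x = g⁻¹ * x * g := by
    rw [MulAut.smul_def, MulAut.conj_inv_apply]
  rw [this] at hx
  exact hx

/-- A 2-subgroup of the centralizer of `y ∈ ⟨σ⟩` with `y² ≠ 1` is conjugate into `⟨σ⟩`. -/
theorem exists_conj_le_zpowers [Finite G] (P : Sylow 2 G) {σ : G} {N : ℕ}
    (h : DihData (P : Subgroup G) σ N) (y : G) (hy : y ∈ Subgroup.zpowers σ) (hy2 : y * y ≠ 1)
    (T : Subgroup G) (hT : IsPGroup 2 T) (hTy : T ≤ Subgroup.centralizer ({y} : Set G)) :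
    ∃ g : G, ∀ t ∈ T, g⁻¹ * t * g ∈ Subgroup.zpowers σ := by
  haveI : Fact (Nat.Prime 2) := ⟨Nat.prime_two⟩
  have hyP : y ∈ (P : Subgroup G) := h.zpowers_le hy
  have hZ : IsPGroup 2 (Subgroup.zpowers y) :=
    IsPGroup.to_le P.2 (by rw [Subgroup.zpowers_le]; exact hyP)
  have hcomm : ∀ t ∈ T, ∀ x ∈ Subgroup.zpowers y, t * x * t⁻¹ = x := by
    intro t ht x hx
    obtain ⟨k, rfl⟩ := Subgroup.mem_zpowers_iff.mp hx
    have h1 := hTy ht
    rw [Subgroup.mem_centralizer_singleton_iff] at h1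
    have h2 : t * y * t⁻¹ = y := by rw [h1]; group
    rw [← conj_zpow, h2]
  have hnorm : T ≤ Subgroup.normalizer (Subgroup.zpowers y : Set G) := by
    intro t ht
    rw [Subgroup.mem_normalizer_iff]
    intro x
    constructor
    · intro hx
      rw [hcomm t ht x hx]
      exact hx
    · intro hx
      have := hcomm t ht _ hx
      have h3 : t * x * t⁻¹ = x := by
        have h4 : t * (t * x * t⁻¹) * t⁻¹ = t * x * t⁻¹ := this
        have h5 : t * (t * x * t⁻¹) * t⁻¹ = t * (t * x * t⁻¹) * t⁻¹ := rfl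
        have : t⁻¹ * (t * (t * x * t⁻¹) * t⁻¹) * t = t⁻¹ * (t * x * t⁻¹) * t := by rw [h4]
        have e1 : t⁻¹ * (t * (t * x * t⁻¹) * t⁻¹) * t = t * x * t⁻¹ := by group
        have e2 : t⁻¹ * (t * x * t⁻¹) * t = x := by group
        rw [e1, e2] at this
        exact this
      rw [← h3]
      exact hx
  have hT' : IsPGroup 2 (T ⊔ Subgroup.zpowers y : Subgroup G) :=
    IsPGroup.to_sup_of_normal_right' hT hZ hnorm
  obtain ⟨Q, hQ⟩ := hT'.exists_le_sylow
  obtain ⟨g, hg⟩ := MulAction.exists_smul_eq G P Q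
  refine ⟨g, fun t ht => ?_⟩
  have hyQ : y ∈ (Q : Subgroup G) := hQ (Subgroup.mem_sup_right (Subgroup.mem_zpowers y))
  have htQ : t ∈ (Q : Subgroup G) := hQ (Subgroup.mem_sup_left ht)
  have hy' : g⁻¹ * y * g ∈ (P : Subgroup G) := conj_mem_of_smul_sylow P Q g hg hyQ
  have ht' : g⁻¹ * t * g ∈ (P : Subgroup G) := conj_mem_of_smul_sylow P Q g hg htQ
  have hy'2 : (g⁻¹ * y * g) * (g⁻¹ * y * g) ≠ 1 := by
    intro h1
    apply hy2
    have : (g⁻¹ * y * g) * (g⁻¹ * y * g) = g⁻¹ * (y * y) * g := by group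
    rw [this] at h1
    have h2 : y * y = g * (g⁻¹ * (y * y) * g) * g⁻¹ := by group
    rw [h2, h1]
    group
  have hy'S := h.mem_zpowers_of_sq_ne hy' hy'2
  apply h.mem_zpowers_of_commute ht' hy'S hy'2
  have h1 := hTy ht
  rw [Subgroup.mem_centralizer_singleton_iff] at h1
  calc g⁻¹ * t * g * (g⁻¹ * y * g) = g⁻¹ * (t * y) * g := by group
    _ = g⁻¹ * (y * t) * g := by rw [h1]
    _ = g⁻¹ * y * g * (g⁻¹ * t * g) := by group

/-- A 2-subgroup of the centralizer of `y ∈ ⟨σ⟩` with `y² ≠ 1` has order at most `N` and is cyclic. -/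
theorem card_le_and_isCyclic [Finite G] (P : Sylow 2 G) {σ : G} {N : ℕ}
    (h : DihData (P : Subgroup G) σ N) (y : G) (hy : y ∈ Subgroup.zpowers σ) (hy2 : y * y ≠ 1)
    (T : Subgroup G) (hT : IsPGroup 2 T) (hTy : T ≤ Subgroup.centralizer ({y} : Set G)) :
    Nat.card T ≤ N ∧ IsCyclic T := by
  obtain ⟨g, hg⟩ := exists_conj_le_zpowers P h y hy hy2 T hT hTy
  let f : ↥T →* ↥(Subgroup.zpowers σ) :=
    { toFun := fun t => ⟨g⁻¹ * (t : G) * g, hg t t.2⟩
      map_one' := by
        apply Subtype.ext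
        simp
      map_mul' := by
        intro a b
        apply Subtype.ext
        simp only [Subgroup.coe_mul]
        group }
  have hf : Function.Injective f := by
    intro a b hab
    have h1 : g⁻¹ * (a : G) * g = g⁻¹ * (b : G) * g := congrArg (fun t : ↥(Subgroup.zpowers σ) => (t : G)) hab
    apply Subtype.ext
    have h2 : (a : G) = g * (g⁻¹ * (a : G) * g) * g⁻¹ := by group
    rw [h2, h1]
    group
  constructor
  · have := Nat.card_le_card_of_injective f hf
    rw [h.card_zpowers] at this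
    exact this
  · exact isCyclic_of_injective f hf

theorem exists_pow_eq [Finite G] (P : Sylow 2 G) {σ : G} {N : ℕ}
    (h : DihData (P : Subgroup G) σ N) : ∃ a : ℕ, N = 2 ^ a := by
  haveI : Fact (Nat.Prime 2) := ⟨Nat.prime_two⟩
  obtain ⟨m, hm⟩ := IsPGroup.iff_card.mp P.2
  have hdvd : N ∣ 2 ^ m := by
    rw [← hm, h.card]
    exact Dvd.intro_left 2 rfl
  obtain ⟨a, -, ha⟩ := (Nat.dvd_prime_pow Nat.prime_two).mp hdvd
  exact ⟨a, ha⟩

/-- The centralizer of `y ∈ ⟨σ⟩` with `y² ≠ 1` has a normal 2-complement, and the 2-part of its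
order is `N`. -/
theorem centralizer_of_sq_ne [Finite G] (P : Sylow 2 G) {σ : G} {N : ℕ}
    (h : DihData (P : Subgroup G) σ N) (y : G) (hy : y ∈ Subgroup.zpowers σ)
    (hy2 : y * y ≠ 1) :
    (∃ k : ℕ, (Cfsg.pPrimeCore 2 ↥(Subgroup.centralizer ({y} : Set G))).index = 2 ^ k) ∧
      2 ^ (Nat.card ↥(Subgroup.centralizer ({y} : Set G))).factorization 2 = N := by
  haveI : Fact (Nat.Prime 2) := ⟨Nat.prime_two⟩
  set X := Subgroup.centralizer ({y} : Set G) with hX
  obtain ⟨a, ha⟩ := exists_pow_eq P h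
  have hSX : Subgroup.zpowers σ ≤ X := by
    intro x hx
    rw [hX, Subgroup.mem_centralizer_singleton_iff]
    obtain ⟨k, rfl⟩ := Subgroup.mem_zpowers_iff.mp hx
    obtain ⟨l, rfl⟩ := Subgroup.mem_zpowers_iff.mp hy
    rw [← zpow_add, ← zpow_add, add_comm]
  have hNdvd : N ∣ Nat.card ↥X := by
    rw [← h.card_zpowers]
    exact Subgroup.card_dvd_of_le hSX
  have hXpos : Nat.card ↥X ≠ 0 := Nat.card_pos.ne'
  have hale : a ≤ (Nat.card ↥X).factorization 2 := by
    rw [ha] at hNdvd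
    exact (Nat.Prime.pow_dvd_iff_le_factorization Nat.prime_two hXpos).mp hNdvd
  obtain ⟨Q⟩ : Nonempty (Sylow 2 ↥X) := inferInstance
  have hQcard := Sylow.card_eq_multiplicity Q
  set T : Subgroup G := (Q : Subgroup ↥X).map X.subtype with hTdef
  have hTcard : Nat.card T = Nat.card (Q : Subgroup ↥X) :=
    Subgroup.card_map_of_injective X.subtype_injective
  have hTp : IsPGroup 2 T := Q.2.map X.subtype
  have hTX : T ≤ X := by
    rw [hTdef]
    exact Subgroup.map_subtype_le _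
  obtain ⟨hle, hcyc⟩ := card_le_and_isCyclic P h y hy hy2 T hTp hTX
  have hle' : (Nat.card ↥X).factorization 2 ≤ a := by
    rw [hTcard, hQcard, ha] at hle
    exact (Nat.pow_le_pow_iff_right (le_refl 2)).mp hle
  have heq : (Nat.card ↥X).factorization 2 = a := le_antisymm hle' hale
  refine ⟨?_, by rw [heq, ha]⟩
  have hQcyc : IsCyclic (Q : Subgroup ↥X) := by
    haveI := hcyc
    exact isCyclic_of_injective ((Q : Subgroup ↥X).equivMapOfInjective X.subtype
      X.subtype_injective).toMonoidHom ((Q : Subgroup ↥X).equivMapOfInjective X.subtype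
      X.subtype_injective).injective
  have hy1 : y ≠ 1 := by
    rintro rfl
    exact hy2 (one_mul 1)
  have h2dvd : 2 ∣ Nat.card ↥X := by
    have ha0 : a ≠ 0 := by
      rintro rfl
      rw [pow_zero] at ha
      have hσ1 : σ = 1 := by
        rw [← orderOf_eq_one_iff, h.order, ha]
      rw [hσ1, Subgroup.zpowers_one_eq_bot, Subgroup.mem_bot] at hy
      exact hy1 hy
    have : 2 ∣ N := by
      rw [ha]
      exact dvd_pow_self 2 ha0
    exact this.trans hNdvd
  have hmin : (Nat.card ↥X).minFac = 2 := (Nat.minFac_eq_two_iff _).mpr h2dvd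
  have hNC := IsCyclic.normalizer_le_centralizer hmin (P := Q) hQcyc
  exact BLeo.pPrimeCore_index_of_normalizer_le_centralizer Q hNC

end Cfsg.Agent.Helper6.DihBr
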