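import Mathlib
import Cfsg.Agent.Helper6.DihBrB
import Cfsg.Agent.Helper6.BLeoF
import Cfsg.Agent.Helper1.Fitting
import Cfsg.Agent.Lead.DihedralSylowCent2

/-!
# Dihedral Sylow 2-subgroups: the centralizer of the central involution, fusion in `⟨σ⟩`
-/

set_option autoImplicit false
set_option linter.style.haveILetI false

namespace Cfsg.Agent.Helper6.DihBr

universe u

variable {G : Type u} [Group G]

/-- An involution of `⟨σ⟩` is central in `P`. -/
theorem le_centralizer_of_involution {P : Subgroup G} {σ : G} {N : ℕ} (h : DihData P σ N)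
    (y : G) (hy : y ∈ Subgroup.zpowers σ) (hyy : y * y = 1) :
    P ≤ Subgroup.centralizer ({y} : Set G) := by
  intro x hx
  rw [Subgroup.mem_centralizer_singleton_iff]
  by_cases hxs : x ∈ Subgroup.zpowers σ
  · obtain ⟨k, rfl⟩ := Subgroup.mem_zpowers_iff.mp hxs
    obtain ⟨l, rfl⟩ := Subgroup.mem_zpowers_iff.mp hy
    rw [← zpow_add, ← zpow_add, add_comm]
  · have h1 := h.inv_of_mem hx hxs hy
    have h2 : y⁻¹ = y := by
      rw [inv_eq_iff_mul_eq_one]
      exact hyy
    rw [h2] at h1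
    calc x * y = (x * y * x⁻¹) * x := by group
      _ = y * x := by rw [h1]

/-- The centralizer of the involution of `⟨σ⟩` has a normal 2-complement and contains `P`. -/
theorem centralizer_of_involution [Finite G] (P : Sylow 2 G) {σ : G} {N : ℕ} (hN : 2 ≤ N)
    (e : Nonempty (↥(P : Subgroup G) ≃* DihedralGroup N))
    (h : DihData (P : Subgroup G) σ N) (y : G) (hy : y ∈ Subgroup.zpowers σ)
    (hyo : orderOf y = 2) :
    (∃ k : ℕ, (Cfsg.pPrimeCore 2 ↥(Subgroup.centralizer ({y} : Set G))).index = 2 ^ k) ∧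
      2 ^ (Nat.card ↥(Subgroup.centralizer ({y} : Set G))).factorization 2 = 2 * N := by
  haveI : Fact (Nat.Prime 2) := ⟨Nat.prime_two⟩
  set X := Subgroup.centralizer ({y} : Set G) with hX
  have hyy : y * y = 1 := by
    have := pow_orderOf_eq_one y
    rwa [hyo, pow_two] at this
  constructor
  · obtain ⟨N₀, hN₀n, hN₀odd, k, hk⟩ :=
      Cfsg.Agent.Lead.exists_normal_two_complement_centralizer P N hN e y hyo
    have hle : N₀ ≤ Cfsg.pPrimeCore 2 ↥X :=
      Cfsg.Agent.Helper1.le_pPrimeCore hN₀n (Nat.coprime_two_right.mpr hN₀odd)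
    have hdvd := Subgroup.index_dvd_of_le hle
    rw [hk] at hdvd
    obtain ⟨j, -, hj⟩ := (Nat.dvd_prime_pow Nat.prime_two).mp hdvd
    exact ⟨j, hj⟩
  · have hPX : (P : Subgroup G) ≤ X := le_centralizer_of_involution h y hy hyy
    have hPcard := Sylow.card_eq_multiplicity P
    have h1 : Nat.card ↥(P : Subgroup G) ∣ Nat.card ↥X := Subgroup.card_dvd_of_le hPX
    have h2 : Nat.card ↥X ∣ Nat.card G := Subgroup.card_subgroup_dvd_card X
    have hXpos : Nat.card ↥X ≠ 0 := Nat.card_pos.ne'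
    have hGpos : Nat.card G ≠ 0 := Nat.card_pos.ne'
    have h3 : (Nat.card G).factorization 2 ≤ (Nat.card ↥X).factorization 2 := by
      rw [hPcard] at h1
      exact (Nat.Prime.pow_dvd_iff_le_factorization Nat.prime_two hXpos).mp h1
    have h4 : (Nat.card ↥X).factorization 2 ≤ (Nat.card G).factorization 2 :=
      (Nat.factorization_le_iff_dvd hXpos hGpos).mpr h2 2
    rw [le_antisymm h4 h3, ← hPcard, h.card]

/-- Uniqueness of the involution in `⟨σ⟩`. -/
theorem involution_unique {σ : G} (y z : G) (hy : y ∈ Subgroup.zpowers σ)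
    (hz : z ∈ Subgroup.zpowers σ) (hy1 : y ≠ 1) (hz1 : z ≠ 1) (hyy : y * y = 1) (hzz : z * z = 1) :
    y = z := by
  obtain ⟨k, rfl⟩ := Subgroup.mem_zpowers_iff.mp hy
  obtain ⟨l, rfl⟩ := Subgroup.mem_zpowers_iff.mp hz
  rw [← zpow_add, ← orderOf_dvd_iff_zpow_eq_one] at hyy hzz
  rw [Ne, ← orderOf_dvd_iff_zpow_eq_one] at hy1 hz1
  obtain ⟨c, hc⟩ := hyy
  obtain ⟨d, hd⟩ := hzz
  have hcodd : Odd c := by
    rcases Int.even_or_odd' c with ⟨c', hc' | hc'⟩
    · exfalso
      apply hy1
      refine ⟨c', ?_⟩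
      rw [hc'] at hc
      have : 2 * k = 2 * ((orderOf σ : ℤ) * c') := by
        have e1 : 2 * k = k + k := by ring
        rw [e1, hc]
        ring
      linarith
    · exact ⟨c', hc'⟩
  have hdodd : Odd d := by
    rcases Int.even_or_odd' d with ⟨d', hd' | hd'⟩
    · exfalso
      apply hz1
      refine ⟨d', ?_⟩
      rw [hd'] at hd
      have : 2 * l = 2 * ((orderOf σ : ℤ) * d') := by
        have e1 : 2 * l = l + l := by ring
        rw [e1, hd]
        ring
      linarith
    · exact ⟨d', hd'⟩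
  obtain ⟨c', hc'⟩ := hcodd
  obtain ⟨d', hd'⟩ := hdodd
  rw [zpow_eq_zpow_iff_modEq]
  apply Int.ModEq.symm
  rw [Int.modEq_iff_dvd]
  refine ⟨c' - d', ?_⟩
  rw [hc'] at hc
  rw [hd'] at hd
  have h1 : 2 * (k - l) = 2 * ((orderOf σ : ℤ) * (c' - d')) := by
    have e1 : 2 * (k - l) = (k + k) - (l + l) := by ring
    rw [e1, hc, hd]
    ring
  linarith

/-- `P` normalizes `⟨σ⟩`. -/
theorem le_normalizer_zpowers [Finite G] {P : Subgroup G} {σ : G} {N : ℕ} (h : DihData P σ N) :
    P ≤ Subgroup.normalizer (Subgroup.zpowers σ : Set G) := by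
  intro x hx
  apply Subgroup.mem_normalizer_fintype
  intro n hn
  by_cases hxs : x ∈ Subgroup.zpowers σ
  · exact Subgroup.mul_mem _ (Subgroup.mul_mem _ hxs hn) (Subgroup.inv_mem _ hxs)
  · have h1 := h.inv_of_mem hx hxs hn
    show x * n * x⁻¹ ∈ Subgroup.zpowers σ
    rw [h1]
    exact Subgroup.inv_mem _ hn

/-- `|N_G(⟨σ⟩) : C_G(⟨σ⟩)| = 2`. -/
theorem relIndex_centralizer_normalizer [Finite G] (P : Sylow 2 G) {σ : G} {N : ℕ} (hN : 3 ≤ N)
    (h : DihData (P : Subgroup G) σ N) :
    (Subgroup.centralizer (Subgroup.zpowers σ : Set G)).relIndex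
      (Subgroup.normalizer (Subgroup.zpowers σ : Set G)) = 2 := by
  haveI : Fact (Nat.Prime 2) := ⟨Nat.prime_two⟩
  set S := Subgroup.zpowers σ with hS
  set r := (Subgroup.centralizer (S : Set G)).relIndex (Subgroup.normalizer (S : Set G)) with hr
  obtain ⟨a, ha⟩ := exists_pow_eq P h
  have ha0 : a ≠ 0 := by
    rintro rfl
    rw [pow_zero] at ha
    omega
  -- `r` is a power of two
  have key := Subgroup.card_dvd_of_injective _ (QuotientGroup.kerLift_injective S.normalizerMonoidHom)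
  rw [Subgroup.normalizerMonoidHom_ker, ← Subgroup.index, ← Subgroup.relIndex] at key
  have hcardS : Nat.card ↥S = 2 ^ a := by rw [hS, h.card_zpowers, ha]
  rw [IsCyclic.card_mulAut, hcardS, Nat.totient_prime_pow Nat.prime_two (Nat.pos_of_ne_zero ha0)]
    at key
  have key' : r ∣ 2 ^ a := by
    refine key.trans ?_
    have : 2 ^ (a - 1) * (2 - 1) = 2 ^ (a - 1) := by norm_num
    rw [this]
    exact pow_dvd_pow 2 (Nat.sub_le a 1)
  obtain ⟨j, -, hj⟩ := (Nat.dvd_prime_pow Nat.prime_two).mp key'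
  -- counting
  have hcard := BLeo.card_normalizer_eq S
  rw [← hr, hj] at hcard
  have hPN : (P : Subgroup G) ≤ Subgroup.normalizer (S : Set G) := le_normalizer_zpowers h
  have hSC : S ≤ Subgroup.centralizer (S : Set G) := by
    intro x hx
    rw [Subgroup.mem_centralizer_iff]
    intro y hy
    obtain ⟨k, rfl⟩ := Subgroup.mem_zpowers_iff.mp hx
    obtain ⟨l, rfl⟩ := Subgroup.mem_zpowers_iff.mp hy
    rw [← zpow_add, ← zpow_add, add_comm]
  have hPcard := Sylow.card_eq_multiplicity P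
  have hGpos : Nat.card G ≠ 0 := Nat.card_pos.ne'
  have hNpos : Nat.card ↥(Subgroup.normalizer (S : Set G)) ≠ 0 := Nat.card_pos.ne'
  have hCpos : Nat.card ↥(Subgroup.centralizer (S : Set G)) ≠ 0 := Nat.card_pos.ne'
  have hvG : (Nat.card G).factorization 2 = a + 1 := by
    have : 2 ^ (Nat.card G).factorization 2 = 2 ^ (a + 1) := by
      rw [← hPcard, h.card, ha, pow_succ]
      ring
    exact Nat.pow_right_injective (le_refl 2) this
  have hvN : (Nat.card ↥(Subgroup.normalizer (S : Set G))).factorization 2 ≤ a + 1 := by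
    rw [← hvG]
    exact (Nat.factorization_le_iff_dvd hNpos hGpos).mpr (Subgroup.card_subgroup_dvd_card _) 2
  have hvC : a ≤ (Nat.card ↥(Subgroup.centralizer (S : Set G))).factorization 2 := by
    have : 2 ^ a ∣ Nat.card ↥(Subgroup.centralizer (S : Set G)) := by
      rw [← hcardS]
      exact Subgroup.card_dvd_of_le hSC
    exact (Nat.Prime.pow_dvd_iff_le_factorization Nat.prime_two hCpos).mp this
  have hvN' : (Nat.card ↥(Subgroup.normalizer (S : Set G))).factorization 2 =
      (Nat.card ↥(Subgroup.centralizer (S : Set G))).factorization 2 + j := by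
    rw [hcard, Nat.factorization_mul hCpos (by positivity), Finsupp.add_apply,
      Nat.Prime.factorization_pow Nat.prime_two]
    simp
  have hj1 : j ≤ 1 := by omega
  -- `r ≠ 1`
  have hr1 : r ≠ 1 := by
    intro h1
    rw [hr, Subgroup.relIndex_eq_one] at h1
    obtain ⟨τ, hτP, hτS⟩ := h.exists_not_mem (by omega)
    have hτC := h1 (hPN hτP)
    rw [Subgroup.mem_centralizer_iff] at hτC
    have h2 := hτC σ (Subgroup.mem_zpowers σ)
    have h3 := (h.inv τ hτP hτS).2
    have h4 : τ * σ * τ⁻¹ = σ := by rw [← h2]; group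
    rw [h4] at h3
    have h5 : σ * σ = 1 := by
      calc σ * σ = σ * σ⁻¹ := by rw [← h3]
        _ = 1 := mul_inv_cancel σ
    have h6 : orderOf σ ∣ 2 := by
      rw [orderOf_dvd_iff_pow_eq_one, pow_two, h5]
    rw [h.order] at h6
    have := Nat.le_of_dvd (by norm_num) h6
    omega
  rw [hj] at hr1 ⊢
  interval_cases j
  · exact absurd (pow_zero 2) hr1
  · norm_num

end Cfsg.Agent.Helper6.DihBr
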