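import Mathlib
import Cfsg.Agent.Helper6.DihBrC
import Cfsg.Agent.Helper2.DihedralIso

/-!
# Brauer's order formula for dihedral Sylow 2-subgroups: group-theoretic setup
-/

set_option autoImplicit false
set_option linter.style.haveILetI false

namespace Cfsg.Agent.Helper6.DihOrd

open Cfsg.Agent.Helper6.DihBr

universe u

variable {G : Type u} [Group G]

theorem mul_self_of_orderOf_two {τ : G} (hτo : orderOf τ = 2) : τ * τ = 1 := by
  have := pow_orderOf_eq_one τ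
  rw [hτo, pow_two] at this
  exact this

theorem inv_eq_self_of_mul_self {τ : G} (h : τ * τ = 1) : τ⁻¹ = τ :=
  inv_eq_of_mul_eq_one_left h

/-- A group generated by `σ` of order `N` and an involution inverting it is dihedral. -/
theorem equiv_dihedral [Finite G] (P : Subgroup G) (σ τ : G) (N : ℕ) (hN : 3 ≤ N)
    (hσo : orderOf σ = N) (hτo : orderOf τ = 2) (hrel : τ * σ * τ⁻¹ = σ⁻¹)
    (hgen : Subgroup.closure ({σ, τ} : Set G) = P) : Nonempty (↥P ≃* DihedralGroup N) := by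
  have hττ := mul_self_of_orderOf_two hτo
  have hτi := inv_eq_self_of_mul_self hττ
  have hτ1 : τ ≠ 1 := by
    intro h
    rw [h, orderOf_one] at hτo
    omega
  have hx : (σ * τ) * (σ * τ) = 1 := by
    have h1 : τ * σ * τ = σ⁻¹ := by
      have := hrel
      rw [hτi] at this
      exact this
    calc (σ * τ) * (σ * τ) = σ * (τ * σ * τ) := by group
      _ = 1 := by rw [h1]; group
  have hxy : σ * τ * τ = σ := by rw [mul_assoc, hττ, mul_one]
  have hx1 : σ * τ ≠ 1 := by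
    intro h
    have h2 : σ = τ := by
      have : σ = (σ * τ) * τ⁻¹ := by group
      rw [this, h, one_mul, hτi]
    rw [h2, hτo] at hσo
    omega
  have e := Cfsg.Agent.Helper2.closure_pair_invol_equiv_dihedral hx hττ hx1 hτ1
  rw [hxy, hσo] at e
  have hcl : Subgroup.closure ({σ * τ, τ} : Set G) = P := by
    rw [← hgen]
    apply le_antisymm
    · rw [Subgroup.closure_le]
      intro z hz
      rcases hz with rfl | rfl
      · exact Subgroup.mul_mem _ (Subgroup.subset_closure (by simp))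
          (Subgroup.subset_closure (by simp))
      · exact Subgroup.subset_closure (by simp)
    · rw [Subgroup.closure_le]
      intro z hz
      rcases hz with rfl | rfl
      · have h1 : z * τ ∈ Subgroup.closure ({z * τ, τ} : Set G) :=
          Subgroup.subset_closure (by simp)
        have h2 : τ ∈ Subgroup.closure ({z * τ, τ} : Set G) :=
          Subgroup.subset_closure (by simp)
        have h3 : z = (z * τ) * τ⁻¹ := by group
        show z ∈ Subgroup.closure ({z * τ, τ} : Set G)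
        rw [h3]
        exact Subgroup.mul_mem _ (by simpa using h1) (Subgroup.inv_mem _ (by simpa using h2))
      · exact Subgroup.subset_closure (by simp)
  obtain ⟨e⟩ := e
  exact ⟨(MulEquiv.subgroupCongr hcl).symm.trans e⟩

/-- The product of two elements of `P` outside `⟨σ⟩` lies in `⟨σ⟩`. -/
theorem mul_mem_zpowers {P : Subgroup G} {σ : G} {N : ℕ} (h : DihData P σ N) (hN : 3 ≤ N)
    {x y : G} (hx : x ∈ P) (hy : y ∈ P) (hxs : x ∉ Subgroup.zpowers σ)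
    (hys : y ∉ Subgroup.zpowers σ) : x * y ∈ Subgroup.zpowers σ := by
  by_contra hxy
  have h1 := (h.inv (x * y) (P.mul_mem hx hy) hxy).2
  have h2 := (h.inv x hx hxs).2
  have h3 := (h.inv y hy hys).2
  have h4 : x * y * σ * (x * y)⁻¹ = x * (y * σ * y⁻¹) * x⁻¹ := by group
  rw [h4, h3] at h1
  have h5 : x * σ⁻¹ * x⁻¹ = (x * σ * x⁻¹)⁻¹ := by group
  rw [h5, h2, inv_inv] at h1
  have h6 : σ ^ 2 = 1 := by
    rw [pow_two]
    have h8 : σ * σ = σ * σ⁻¹ := congrArg (σ * ·) h1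
    rw [h8, mul_inv_cancel]
  have h7 := orderOf_dvd_of_pow_eq_one h6
  rw [h.order] at h7
  have := Nat.le_of_dvd (by norm_num) h7
  omega

/-- `τ` does not lie in `⟨σ⟩`. -/
theorem not_mem_zpowers_of_rel {σ τ : G} {N : ℕ} (hN : 3 ≤ N) (hσo : orderOf σ = N)
    (hrel : τ * σ * τ⁻¹ = σ⁻¹) : τ ∉ Subgroup.zpowers σ := by
  intro hτ
  obtain ⟨k, rfl⟩ := Subgroup.mem_zpowers_iff.mp hτ
  have h1 : σ ^ k * σ * (σ ^ k)⁻¹ = σ := by group
  rw [h1] at hrel
  have h6 : σ ^ 2 = 1 := by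
    rw [pow_two]
    have h8 : σ * σ = σ * σ⁻¹ := congrArg (σ * ·) hrel
    rw [h8, mul_inv_cancel]
  have h7 := orderOf_dvd_of_pow_eq_one h6
  rw [hσo] at h7
  have := Nat.le_of_dvd (by norm_num) h7
  omega

section half

variable {σ : G} {N H : ℕ}

theorem pow_half_mem : σ ^ H ∈ Subgroup.zpowers σ := Subgroup.npow_mem_zpowers σ H

theorem orderOf_pow_half (hNH : N = 2 * H) (hH0 : H ≠ 0) (hσo : orderOf σ = N) :
    orderOf (σ ^ H) = 2 := by
  rw [orderOf_pow' σ hH0, hσo, hNH]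
  have : Nat.gcd (2 * H) H = H := Nat.gcd_eq_right ⟨2, by ring⟩
  rw [this]
  exact Nat.mul_div_cancel _ (Nat.pos_of_ne_zero hH0)

theorem pow_half_mul_self (hNH : N = 2 * H) (hσo : orderOf σ = N) :
    σ ^ H * σ ^ H = 1 := by
  rw [← pow_add, ← two_mul, ← hNH, ← hσo, pow_orderOf_eq_one]

theorem pow_half_ne_one (hNH : N = 2 * H) (hH0 : H ≠ 0) (hσo : orderOf σ = N) :
    σ ^ H ≠ 1 := by
  intro h
  have := orderOf_pow_half hNH hH0 hσo
  rw [h, orderOf_one] at this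
  omega

end half

/-- Elements of `P` outside `⟨σ⟩` are `σ ^ i * τ`. -/
theorem exists_zpow_mul {P : Subgroup G} {σ τ : G} {N : ℕ} (h : DihData P σ N) (hN : 3 ≤ N)
    (hτ : τ ∈ P) (hτs : τ ∉ Subgroup.zpowers σ) {x : G} (hx : x ∈ P)
    (hxs : x ∉ Subgroup.zpowers σ) : ∃ i : ℤ, x = σ ^ i * τ := by
  have hτi : τ⁻¹ = τ := inv_eq_self_of_mul_self (h.inv τ hτ hτs).1
  have h1 := mul_mem_zpowers h hN hx hτ hxs hτs
  obtain ⟨i, hi⟩ := Subgroup.mem_zpowers_iff.mp h1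
  refine ⟨i, ?_⟩
  rw [hi]
  have : x = x * τ * τ⁻¹ := by group
  rw [hτi] at this
  exact this

/-- `σ ^ i * τ` is conjugate under `⟨σ⟩` to `τ` or to `σ * τ`. -/
theorem zpow_mul_conj {σ τ : G} (hrel : τ * σ * τ⁻¹ = σ⁻¹) (i : ℤ) :
    ∃ j : ℤ, σ ^ i * τ = σ ^ j * τ * (σ ^ j)⁻¹ ∨ σ ^ i * τ = σ ^ j * (σ * τ) * (σ ^ j)⁻¹ := by
  have hconj : ∀ j : ℤ, τ * (σ ^ j)⁻¹ = σ ^ j * τ := by
    intro j
    have h1 : τ * σ ^ j * τ⁻¹ = (σ ^ j)⁻¹ := by
      rw [← conj_zpow, hrel, inv_zpow]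
    have h2 : τ * (σ ^ j)⁻¹ = (τ * σ ^ j * τ⁻¹)⁻¹ * τ := by group
    rw [h2, h1, inv_inv]
  rcases Int.even_or_odd' i with ⟨j, hj | hj⟩
  · refine ⟨j, Or.inl ?_⟩
    rw [mul_assoc, hconj j, ← mul_assoc, ← zpow_add, hj]
    congr 2
    ring
  · refine ⟨j, Or.inr ?_⟩
    have : σ ^ j * (σ * τ) * (σ ^ j)⁻¹ = σ ^ j * σ * (τ * (σ ^ j)⁻¹) := by group
    rw [this, hconj j, hj]
    have h3 : σ ^ j * σ * (σ ^ j * τ) = σ ^ (j + 1 + j) * τ := by
      rw [zpow_add, zpow_add, zpow_one]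
      group
    rw [h3]
    congr 2
    ring

/-- If `J`, `τ`, `σ τ` are conjugate, every element of `P` outside `⟨σ⟩` is conjugate to `J`. -/
theorem isConj_of_not_mem {P : Subgroup G} {σ τ J : G} {N : ℕ} (h : DihData P σ N) (hN : 3 ≤ N)
    (hτ : τ ∈ P) (hrel : τ * σ * τ⁻¹ = σ⁻¹)
    (hconj : IsConj J τ ∧ IsConj J (σ * τ)) {x : G} (hx : x ∈ P)
    (hxs : x ∉ Subgroup.zpowers σ) : IsConj J x := by
  have hτs := not_mem_zpowers_of_rel hN h.order hrel
  obtain ⟨i, rfl⟩ := exists_zpow_mul h hN hτ hτs hx hxs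
  obtain ⟨j, hj | hj⟩ := zpow_mul_conj hrel i
  · rw [hj]
    exact hconj.1.trans (isConj_iff.mpr ⟨σ ^ j, rfl⟩)
  · rw [hj]
    exact hconj.2.trans (isConj_iff.mpr ⟨σ ^ j, rfl⟩)

/-- Under the fusion hypothesis every nontrivial 2-element is conjugate into `⟨σ⟩`. -/
theorem exists_conj_mem_zpowers [Finite G] (P : Sylow 2 G) {σ τ J : G} {N : ℕ}
    (h : DihData (P : Subgroup G) σ N) (hN : 3 ≤ N) (hτ : τ ∈ (P : Subgroup G))
    (hrel : τ * σ * τ⁻¹ = σ⁻¹) (hJ : J ∈ Subgroup.zpowers σ) (hJ1 : J ≠ 1)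
    (hconj : IsConj J τ ∧ IsConj J (σ * τ)) (t : G) (ht : ∃ k : ℕ, orderOf t = 2 ^ k)
    (ht1 : t ≠ 1) : ∃ g : G, ∃ s ∈ Subgroup.zpowers σ, s ≠ 1 ∧ t = g * s * g⁻¹ := by
  haveI : Fact (Nat.Prime 2) := ⟨Nat.prime_two⟩
  have hZ : IsPGroup 2 (Subgroup.zpowers t) := by
    obtain ⟨k, hk⟩ := ht
    apply IsPGroup.of_card (n := k)
    rw [Nat.card_zpowers, hk]
  obtain ⟨Q, hQ⟩ := hZ.exists_le_sylow
  obtain ⟨g, hg⟩ := MulAction.exists_smul_eq G P Q
  have htQ : t ∈ (Q : Subgroup G) := hQ (Subgroup.mem_zpowers t)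
  have hp : g⁻¹ * t * g ∈ (P : Subgroup G) := conj_mem_of_smul_sylow P Q g hg htQ
  by_cases hps : g⁻¹ * t * g ∈ Subgroup.zpowers σ
  · refine ⟨g, g⁻¹ * t * g, hps, ?_, by group⟩
    intro h1
    apply ht1
    have : t = g * (g⁻¹ * t * g) * g⁻¹ := by group
    rw [this, h1]
    group
  · have hc := isConj_of_not_mem h hN hτ hrel hconj hp hps
    obtain ⟨a, ha⟩ := isConj_iff.mp hc
    refine ⟨g * a, J, hJ, hJ1, ?_⟩
    have : t = g * (g⁻¹ * t * g) * g⁻¹ := by group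
    rw [this, ← ha]
    group

end Cfsg.Agent.Helper6.DihOrd
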