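import Mathlib

set_option autoImplicit false

/-!
# Zassenhaus' theorem on perfect Frobenius complements: shared definitions

See `notes/helper6_zassenhaus_blueprint.md`.  This file only contains definitions
(no theorems), so that the pieces of the project can be developed independently.
-/

namespace Cfsg.Agent.Helper6.Zas

/-- the subgroup generated by the elements of order dividing 3 of `X` -/
def threeGen {S : Type*} [Group S] (X : Subgroup S) : Subgroup S :=
  Subgroup.closure {g : S | g ∈ X ∧ g ^ 3 = 1}

/-- `H` is a central extension of `X` by a group of order 2: there is a surjective homomorphism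
`H → X` with kernel of order 2. -/
def Cover {G : Type*} [Group G] (H : Subgroup G) (X : Type*) [Group X] : Prop :=
  ∃ f : H →* X, Function.Surjective f ∧ Nat.card f.ker = 2

/-- The group-theoretic consequences of a fixed-point-free linear action (in coprime characteristic,
over a field containing enough roots of unity) that are used in the proof of Zassenhaus' theorem. -/
structure ZData (G₀ : Type*) [Group G₀] : Prop where
  /-- abelian subgroups are cyclic -/
  comm_cyclic : ∀ A : Subgroup G₀, (∀ x ∈ A, ∀ y ∈ A, x * y = y * x) → IsCyclic A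
  /-- subgroups of order `pq` are cyclic -/
  pq_cyclic : ∀ (A : Subgroup G₀) (p q : ℕ), p.Prime → q.Prime → Nat.card A = p * q → IsCyclic A
  /-- at most one involution -/
  invol : ∀ s t : G₀, orderOf s = 2 → orderOf t = 2 → s = t
  /-- two elements of order 3 generate a cyclic group, or a double cover of `A₄` or of `A₅` -/
  f1 : ∀ a b : G₀, orderOf a = 3 → orderOf b = 3 →
    Commute a b ∨ Cover (Subgroup.closure {a, b}) (alternatingGroup (Fin 4)) ∨
      Cover (Subgroup.closure {a, b}) (alternatingGroup (Fin 5))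
  /-- an element of order 4 and an element of order 3 commute, or generate a double cover of
  `S₃`, `A₄`, `S₄` or `A₅` -/
  f2 : ∀ x a : G₀, orderOf x = 4 → orderOf a = 3 →
    Commute x a ∨ Cover (Subgroup.closure {x, a}) (DihedralGroup 3) ∨
      Cover (Subgroup.closure {x, a}) (alternatingGroup (Fin 4)) ∨
      Cover (Subgroup.closure {x, a}) (Equiv.Perm (Fin 4)) ∨
      Cover (Subgroup.closure {x, a}) (alternatingGroup (Fin 5))
  /-- propagation of quadraticity: an element `r` of order 8 lying in two subgroups generated by an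
  element of order 4 and an element of order 3 is "quadratic" on an irreducible module of the group
  `L` generated by the four elements; so with any element `a` of order 3 of `L` it commutes or
  generates a double cover of `S₄`. -/
  dk : ∀ x₁ a₁ x₂ a₂ r a : G₀, orderOf x₁ = 4 → orderOf a₁ = 3 → orderOf x₂ = 4 → orderOf a₂ = 3 →
    orderOf r = 8 → r ∈ Subgroup.closure {x₁, a₁} → r ∈ Subgroup.closure {x₂, a₂} →
    a ∈ Subgroup.closure {x₁, a₁, x₂, a₂} → orderOf a = 3 →
    Commute r a ∨ Cover (Subgroup.closure {r, a}) (Equiv.Perm (Fin 4))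

/-- The hypotheses on the simple quotient `S = G/Z(G)` of a minimal counterexample. -/
structure SHyp (S : Type*) [Group S] : Prop where
  /-- Sylow subgroups for odd primes are cyclic -/
  oddSylow : ∀ (p : ℕ) [Fact p.Prime], p ≠ 2 → ∀ P : Sylow p S, IsCyclic P
  /-- in a proper subgroup, the elements of order 3 generate `1`, `Z₃`, `A₄` or `A₅` -/
  hM : ∀ X : Subgroup S, X ≠ ⊤ → Nat.card (threeGen X) = 1 ∨ Nat.card (threeGen X) = 3 ∨
    Nonempty (threeGen X ≃* alternatingGroup (Fin 4)) ∨
    Nonempty (threeGen X ≃* alternatingGroup (Fin 5))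
  /-- two elements of order 3 generate `Z₃`, `A₄` or `A₅` -/
  hF1 : ∀ a b : S, orderOf a = 3 → orderOf b = 3 →
    Nat.card (Subgroup.closure {a, b}) = 3 ∨
    Nonempty (Subgroup.closure {a, b} ≃* alternatingGroup (Fin 4)) ∨
    Nonempty (Subgroup.closure {a, b} ≃* alternatingGroup (Fin 5))
  /-- an involution and an element of order 3 generate a group of order 6, `A₄`, `S₄` or `A₅` -/
  hF2 : ∀ t a : S, orderOf t = 2 → orderOf a = 3 →
    Nat.card (Subgroup.closure {t, a}) = 6 ∨
    Nonempty (Subgroup.closure {t, a} ≃* alternatingGroup (Fin 4)) ∨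
    Nonempty (Subgroup.closure {t, a} ≃* Equiv.Perm (Fin 4)) ∨
    Nonempty (Subgroup.closure {t, a} ≃* alternatingGroup (Fin 5))

/-- The extra hypothesis in the dihedral case (propagation of quadraticity, seen in `S`). -/
def SDk (S : Type*) [Group S] : Prop :=
  ∀ t₁ a₁ t₂ a₂ y a : S, orderOf t₁ = 2 → orderOf a₁ = 3 → orderOf t₂ = 2 → orderOf a₂ = 3 →
    orderOf y = 4 → y ∈ Subgroup.closure {t₁, a₁} → y ∈ Subgroup.closure {t₂, a₂} →
    Subgroup.closure {t₁, a₁, t₂, a₂} = ⊤ → orderOf a = 3 →
    Commute y a ∨ Nonempty (Subgroup.closure {y, a} ≃* Equiv.Perm (Fin 4))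

/-- fixed-point-free linear action -/
def Fpf {G : Type*} [Group G] {E : Type*} [Field E] {V : Type*} [AddCommGroup V] [Module E V]
    (ρ : G →* (V →ₗ[E] V)) : Prop :=
  ∀ g : G, g ≠ 1 → ∀ v : V, ρ g v = v → v = 0

/-- every `ρ g` has an eigenvector in every nonzero `ρ g`-stable subspace -/
def HasEig {G : Type*} [Group G] {E : Type*} [Field E] {V : Type*} [AddCommGroup V] [Module E V]
    (ρ : G →* (V →ₗ[E] V)) : Prop :=
  ∀ g : G, ∀ U : Submodule E V, U ≠ ⊥ → (∀ u ∈ U, ρ g u ∈ U) →
    ∃ v ∈ U, v ≠ 0 ∧ ∃ μ : E, ρ g v = μ • v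

/-- `g` is quadratic with parameter `θ`: `ρ(g)² = θ ρ(g) - 1`, i.e. `g + g⁻¹ = θ`. -/
def Quad {G : Type*} [Group G] {E : Type*} [Field E] {V : Type*} [AddCommGroup V] [Module E V]
    (ρ : G →* (V →ₗ[E] V)) (g : G) (θ : E) : Prop :=
  ∀ v : V, ρ g (ρ g v) = θ • ρ g v - v

end Cfsg.Agent.Helper6.Zas
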