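import Mathlib
import Cfsg.Agent.Helper6.ZasDefs

set_option autoImplicit false

/-!
# Zassenhaus' theorem, G-side: definitions for the main induction

See `notes/helper6_zassenhaus_gside.md`.  Only definitions, so that the pieces can be developed
independently.
-/

namespace Cfsg.Agent.Helper6.ZasG

open Cfsg.Agent.Helper6.Zas

variable {G₀ : Type*} [Group G₀]

/-- (M): the elements of order 3 of `H` generate `1`, a group of order 3, a double cover of `A₄`
or a double cover of `A₅`. -/
def MProp (H : Subgroup G₀) : Prop :=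
  threeGen H = ⊥ ∨ Nat.card (threeGen H) = 3 ∨
    Cover (threeGen H) (alternatingGroup (Fin 4)) ∨ Cover (threeGen H) (alternatingGroup (Fin 5))

/-- (Z): if `H` is perfect, it is trivial or of order 120. -/
def ZProp (H : Subgroup G₀) : Prop :=
  ⁅H, H⁆ = H → Nat.card H = 1 ∨ Nat.card H = 120

/-- `z` is a central involution of `G` and `G / ⟨z⟩` is simple (every normal subgroup of `G` lies in
`⟨z⟩` or is `G`). -/
def QSimple (G : Subgroup G₀) (z : G₀) : Prop :=
  z ∈ G ∧ orderOf z = 2 ∧ (∀ g ∈ G, g * z = z * g) ∧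
    ∀ N : Subgroup G₀, N ≤ G → (∀ g ∈ G, ∀ n ∈ N, g * n * g⁻¹ ∈ N) →
      N ≤ Subgroup.zpowers z ∨ N = G

end Cfsg.Agent.Helper6.ZasG
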