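import Mathlib

set_option autoImplicit false

/-!
# Zassenhaus project, S-side: general group-theoretic lemmas
-/

namespace Cfsg.Agent.Helper6.ZasK

open Subgroup
open scoped Pointwise

variable {S : Type*} [Group S]

/-- In a finite cyclic group two elements of the same prime order generate the same subgroup. -/
theorem mem_zpowers_of_orderOf_eq_prime {C : Type*} [Group C] [Finite C] [IsCyclic C] {p : ℕ}
    (hp : p.Prime) {x y : C} (hx : orderOf x = p) (hy : orderOf y = p) : y ∈ zpowers x := by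
  classical
  have : Fintype C := Fintype.ofFinite C
  have hle := IsCyclic.card_pow_eq_one_le (α := C) (n := p) hp.pos
  -- the set of solutions of z^p = 1 contains zpowers x
  have hsub : (zpowers x : Set C) ⊆ {z : C | z ^ p = 1} := by
    intro z hz
    obtain ⟨k, rfl⟩ := mem_zpowers_iff.mp hz
    show (x ^ k) ^ p = 1
    rw [← zpow_natCast, ← zpow_mul, mul_comm, zpow_mul, zpow_natCast, ← hx, pow_orderOf_eq_one,
      one_zpow]
  have hcardz : Nat.card (zpowers x) = p := by rw [Nat.card_zpowers, hx]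
  have hfin : (Finset.univ.filter fun z : C => z ^ p = 1).card ≤ p := hle
  have hyS : y ∈ (Finset.univ.filter fun z : C => z ^ p = 1) := by
    simp only [Finset.mem_filter, Finset.mem_univ, true_and]
    rw [← hy, pow_orderOf_eq_one]
  -- zpowers x as a finset
  have hzfin : ((zpowers x : Set C).toFinset).card = p := by
    rw [← hcardz, Nat.card_eq_fintype_card]
    exact Set.toFinset_card _
  have hsub' : (zpowers x : Set C).toFinset ⊆ (Finset.univ.filter fun z : C => z ^ p = 1) := by
    intro z hz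
    simp only [Set.mem_toFinset] at hz
    simp only [Finset.mem_filter, Finset.mem_univ, true_and]
    exact hsub hz
  have heq := Finset.eq_of_subset_of_card_le hsub' (by rw [hzfin]; exact hfin)
  rw [← heq] at hyS
  simpa using hyS

/-- If the Sylow `p`-subgroups of `S` are cyclic, two elements of order `p` of a subgroup `H`
generate `H`-conjugate subgroups. -/
theorem exists_conj_mem_zpowers [Finite S] {p : ℕ} [hp : Fact p.Prime]
    (hcyc : ∀ P : Sylow p S, IsCyclic P) (H : Subgroup S) {a b : S} (ha : a ∈ H) (hb : b ∈ H)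
    (hao : orderOf a = p) (hbo : orderOf b = p) : ∃ g ∈ H, g * a * g⁻¹ ∈ zpowers b := by
  -- Sylow subgroups of `H` containing `a` and `b`
  have hpa : IsPGroup p (zpowers (⟨a, ha⟩ : H)) := by
    apply IsPGroup.of_card (n := 1)
    rw [Nat.card_zpowers, Subgroup.orderOf_mk, hao, pow_one]
  have hpb : IsPGroup p (zpowers (⟨b, hb⟩ : H)) := by
    apply IsPGroup.of_card (n := 1)
    rw [Nat.card_zpowers, Subgroup.orderOf_mk, hbo, pow_one]
  obtain ⟨P₁, hP₁⟩ := hpa.exists_le_sylow
  obtain ⟨P₂, hP₂⟩ := hpb.exists_le_sylow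
  obtain ⟨g, hg⟩ := MulAction.exists_smul_eq H P₁ P₂
  -- `g a g⁻¹ ∈ P₂`
  have haP₁ : (⟨a, ha⟩ : H) ∈ P₁ := hP₁ (mem_zpowers _)
  have hbP₂ : (⟨b, hb⟩ : H) ∈ P₂ := hP₂ (mem_zpowers _)
  have hgaP₂ : g * ⟨a, ha⟩ * g⁻¹ ∈ P₂ := by
    rw [← hg]
    show g * ⟨a, ha⟩ * g⁻¹ ∈ MulAut.conj g • (P₁ : Subgroup H)
    rw [Subgroup.mem_pointwise_smul_iff_inv_smul_mem]
    simp only [MulAut.smul_def, MulAut.conj_inv_apply]
    have : g⁻¹ * (g * ⟨a, ha⟩ * g⁻¹) * g = ⟨a, ha⟩ := by group
    rw [this]
    exact haP₁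
  -- the image of `P₂` in `S` is a `p`-subgroup, hence cyclic
  have hP₂p : IsPGroup p ((P₂ : Subgroup H).map H.subtype) := P₂.2.map _
  obtain ⟨Q, hQ⟩ := hP₂p.exists_le_sylow
  haveI := hcyc Q
  have hgaQ : (g : S) * a * (g : S)⁻¹ ∈ Q := hQ ⟨_, hgaP₂, by simp⟩
  have hbQ : b ∈ Q := hQ ⟨_, hbP₂, rfl⟩
  have hord : orderOf (⟨(g : S) * a * (g : S)⁻¹, hgaQ⟩ : Q) = p := by
    rw [Subgroup.orderOf_mk, ← hao]
    exact (SemiconjBy.orderOf_eq (g : S) (x := a) (y := (g : S) * a * (g : S)⁻¹)
      (by unfold SemiconjBy; group)).symm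
  have hordb : orderOf (⟨b, hbQ⟩ : Q) = p := by rw [Subgroup.orderOf_mk, hbo]
  have := mem_zpowers_of_orderOf_eq_prime hp.out hordb hord
  refine ⟨g, g.2, ?_⟩
  obtain ⟨k, hk⟩ := mem_zpowers_iff.mp this
  rw [mem_zpowers_iff]
  refine ⟨k, ?_⟩
  have := congrArg (Subtype.val : Q → S) hk
  simpa using this

/-- Burnside's transfer theorem in a non-abelian simple group: a non-trivial Sylow subgroup is not
central in its normalizer. -/
theorem burnside_simple [Finite S] [IsSimpleGroup S] (hna : ¬ IsMulCommutative S) {p : ℕ}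
    [Fact p.Prime] (P : Sylow p S) (hP : (P : Subgroup S) ≠ ⊥) :
    ¬ (normalizer (P : Set S) ≤ centralizer (P : Set S)) := by
  intro h
  have hcomp := MonoidHom.ker_transferSylow_isComplement' P h
  rcases (MonoidHom.normal_ker (MonoidHom.transferSylow P h)).eq_bot_or_eq_top with hb | ht
  · -- injective into an abelian group
    apply hna
    have hinj : Function.Injective (MonoidHom.transferSylow P h) :=
      (MonoidHom.ker_eq_bot_iff _).mp hb
    haveI : IsMulCommutative P :=
      ⟨⟨fun a b => Subtype.ext (h (le_normalizer b.2) a a.2)⟩⟩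
    refine ⟨⟨fun a b => hinj ?_⟩⟩
    rw [map_mul, map_mul, mul_comm']
  · apply hP
    have h1 := hcomp.card_mul_card
    rw [ht, card_top] at h1
    have hpos : 0 < Nat.card S := Nat.card_pos
    have : Nat.card (P : Subgroup S) = 1 := by
      have : Nat.card S * Nat.card (P : Subgroup S) = Nat.card S * 1 := by rw [h1, mul_one]
      exact Nat.eq_of_mul_eq_mul_left hpos this
    exact (Subgroup.card_eq_one).mp this

end Cfsg.Agent.Helper6.ZasK
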