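import Mathlib

set_option autoImplicit false

/-!
# Zassenhaus project: computational facts about `A₄` and `A₅` (by `decide`)
-/

namespace Cfsg.Agent.Helper6.ZasAlt

open Equiv Equiv.Perm

/-- `A₄` -/
abbrev X4 := alternatingGroup (Fin 4)
/-- `A₅` -/
abbrev X5 := alternatingGroup (Fin 5)

set_option maxRecDepth 1000000

theorem x4_order : ∀ g : X4, g ^ 2 = 1 ∨ (g ^ 3 = 1 ∧ g ≠ 1) := by decide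
theorem x4_invol_mul : ∀ g h : X4, g ^ 2 = 1 → h ^ 2 = 1 → (g * h) ^ 2 = 1 := by decide
theorem x4_card_invol : (Finset.univ.filter fun g : X4 => g ^ 2 = 1).card = 4 := by decide
theorem x4_act : ∀ g a : X4, g ^ 2 = 1 → g ≠ 1 → a ^ 3 = 1 → a ≠ 1 → a * g * a⁻¹ ≠ g := by
  decide
theorem x4_pair : ∀ a b : X4, a ^ 3 = 1 → a ≠ 1 → b ^ 3 = 1 → b ≠ 1 → b ≠ a → b ≠ a⁻¹ →
    ((a * b) ^ 2 = 1 ∧ a * b ≠ 1) ∨ ((a * b⁻¹) ^ 2 = 1 ∧ a * b⁻¹ ≠ 1) := by decide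
theorem x4_noinv : ∀ t a : X4, t ^ 2 = 1 → t ≠ 1 → a ^ 3 = 1 → a ≠ 1 →
    t * a * t⁻¹ ≠ a ∧ t * a * t⁻¹ ≠ a⁻¹ := by decide
theorem x4_card3 : (Finset.univ.filter fun g : X4 => g ^ 3 = 1 ∧ g ≠ 1).card = 8 := by decide
theorem x4_card33 : (Finset.univ.filter fun ab : X4 × X4 =>
    (ab.1 ^ 3 = 1 ∧ ab.1 ≠ 1) ∧ (ab.2 ^ 3 = 1 ∧ ab.2 ≠ 1) ∧ ab.2 ≠ ab.1 ∧ ab.2 ≠ ab.1⁻¹).card = 48 := by
  decide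
theorem x4_card23 : (Finset.univ.filter fun ta : X4 × X4 =>
    (ta.1 ^ 2 = 1 ∧ ta.1 ≠ 1) ∧ (ta.2 ^ 3 = 1 ∧ ta.2 ≠ 1)).card = 24 := by decide

theorem x5_order : ∀ g : X5, g ^ 2 = 1 ∨ g ^ 3 = 1 ∨ g ^ 5 = 1 := by decide
theorem x5_card2 : (Finset.univ.filter fun g : X5 => g ^ 2 = 1 ∧ g ≠ 1).card = 15 := by decide
theorem x5_card3 : (Finset.univ.filter fun g : X5 => g ^ 3 = 1 ∧ g ≠ 1).card = 20 := by decide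
theorem x5_tri33 : ∀ a b : X5, a ^ 3 = 1 → a ≠ 1 → b ^ 3 = 1 → b ≠ 1 →
    (b = a ∨ b = a⁻¹) ∨ (∃ i : Fin 5, (a : Perm (Fin 5)) i = i ∧ (b : Perm (Fin 5)) i = i) ∨
      ((a * b) ^ 5 = 1 ∧ a * b ≠ 1) := by decide
theorem x5_tri23 : ∀ t a : X5, t ^ 2 = 1 → t ≠ 1 → a ^ 3 = 1 → a ≠ 1 →
    t * a * t⁻¹ = a⁻¹ ∨ (∃ i : Fin 5, (t : Perm (Fin 5)) i = i ∧ (a : Perm (Fin 5)) i = i) ∨
      ((t * a) ^ 5 = 1 ∧ t * a ≠ 1) := by decide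
theorem x5_fix5 : ∀ g : X5, g ^ 5 = 1 → g ≠ 1 → ∀ i : Fin 5, (g : Perm (Fin 5)) i ≠ i := by decide
theorem x5_gen33 : ∀ a : X5, a ^ 3 = 1 → a ≠ 1 →
    (Finset.univ.filter fun b : X5 => (b ^ 3 = 1 ∧ b ≠ 1) ∧ ((a * b) ^ 5 = 1 ∧ a * b ≠ 1)).card = 6 := by
  decide
theorem x5_gen23 : ∀ t : X5, t ^ 2 = 1 → t ≠ 1 →
    (Finset.univ.filter fun a : X5 => (a ^ 3 = 1 ∧ a ≠ 1) ∧ ((t * a) ^ 5 = 1 ∧ t * a ≠ 1)).card = 8 := by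
  decide
theorem x5_inv23 : ∀ t : X5, t ^ 2 = 1 → t ≠ 1 →
    (Finset.univ.filter fun a : X5 => (a ^ 3 = 1 ∧ a ≠ 1) ∧ t * a * t⁻¹ = a⁻¹).card = 4 := by decide
theorem x5_nocent : ∀ t a : X5, t ^ 2 = 1 → t ≠ 1 → a ^ 3 = 1 → a ≠ 1 → t * a ≠ a * t := by decide
theorem x5_move : ∀ i : Fin 5, ∃ g : X5, (g : Perm (Fin 5)) i ≠ i := by decide
set_option synthInstance.maxSize 100000 in
set_option synthInstance.maxHeartbeats 0 in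
theorem x5_four : ∀ v w : X5, (v ^ 2 = 1 ∧ v ≠ 1 ∧ w ^ 2 = 1 ∧ w ≠ 1 ∧ v ≠ w ∧ v * w = w * v) →
    ∃ a : X5, a ^ 3 = 1 ∧ a ≠ 1 ∧ a * v * a⁻¹ = w ∧ a * w * a⁻¹ = v * w := by decide
theorem x5_noorder4 : ∀ g : X5, g ^ 4 = 1 → g ^ 2 = 1 := by decide

end Cfsg.Agent.Helper6.ZasAlt
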