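import Mathlib
import Cfsg.Agent.Helper6.ZasAltA
import Cfsg.Agent.Helper2.SmallOrder

set_option autoImplicit false

/-!
# Zassenhaus project: facts about subgroups isomorphic to `A₄` / `A₅`, transport machinery
-/

namespace Cfsg.Agent.Helper6.ZasAlt

open Subgroup

variable {S : Type*} [Group S]

section generic

variable {X : Type*} [Group X] (φ : X →* S) (hφ : Function.Injective φ)

include hφ in
theorem orderOf_map (x : X) : orderOf (φ x) = orderOf x := orderOf_injective φ hφ x

theorem closure_pair_map (x y : X) : closure {φ x, φ y} = (closure {x, y}).map φ := by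
  rw [MonoidHom.map_closure, Set.image_pair]

include hφ in
theorem closure_pair_eq_range_iff (x y : X) :
    closure {φ x, φ y} = φ.range ↔ closure {x, y} = (⊤ : Subgroup X) := by
  rw [closure_pair_map, MonoidHom.range_eq_map]
  exact (Subgroup.map_injective hφ).eq_iff

include hφ in
theorem card_range_subtype (P : S → Prop) :
    Nat.card {s : S // s ∈ φ.range ∧ P s} = Nat.card {x : X // P (φ x)} := by
  symm
  refine Nat.card_congr (Equiv.ofBijective (fun x => ⟨φ x.1, ⟨x.1, rfl⟩, x.2⟩) ⟨?_, ?_⟩)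
  · intro x y hxy
    apply Subtype.ext
    exact hφ (congrArg Subtype.val hxy)
  · rintro ⟨s, ⟨x, rfl⟩, hs⟩
    exact ⟨⟨x, hs⟩, rfl⟩

include hφ in
theorem card_range_pairs (P : S → S → Prop) :
    Nat.card {st : S × S // st.1 ∈ φ.range ∧ st.2 ∈ φ.range ∧ P st.1 st.2} =
      Nat.card {xy : X × X // P (φ xy.1) (φ xy.2)} := by
  symm
  refine Nat.card_congr (Equiv.ofBijective
    (fun x => ⟨(φ x.1.1, φ x.1.2), ⟨x.1.1, rfl⟩, ⟨x.1.2, rfl⟩, x.2⟩) ⟨?_, ?_⟩)
  · intro x y hxy
    apply Subtype.ext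
    have h := congrArg Subtype.val hxy
    simp only [Prod.mk.injEq] at h
    exact Prod.ext (hφ h.1) (hφ h.2)
  · rintro ⟨⟨s, t⟩, hs1, hs2, hs⟩
    obtain ⟨x, hx⟩ := hs1
    obtain ⟨y, hy⟩ := hs2
    simp only at hx hy
    subst hx hy
    exact ⟨⟨(x, y), hs⟩, rfl⟩

/-- From an isomorphism of a subgroup with `X` to an injective homomorphism with that range. -/
theorem exists_hom_of_iso {L : Subgroup S} (e : L ≃* X) :
    ∃ φ : X →* S, Function.Injective φ ∧ φ.range = L := by
  refine ⟨L.subtype.comp e.symm.toMonoidHom, ?_, ?_⟩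
  · exact L.subtype_injective.comp e.symm.injective
  · ext s
    constructor
    · rintro ⟨x, rfl⟩
      exact (e.symm x).2
    · intro hs
      exact ⟨e ⟨s, hs⟩, by simp⟩

end generic

theorem orderOf_eq_two_iff {G : Type*} [Group G] (g : G) : orderOf g = 2 ↔ g ^ 2 = 1 ∧ g ≠ 1 :=
  haveI : Fact (Nat.Prime 2) := ⟨Nat.prime_two⟩
  orderOf_eq_prime_iff

theorem orderOf_eq_three_iff {G : Type*} [Group G] (g : G) : orderOf g = 3 ↔ g ^ 3 = 1 ∧ g ≠ 1 :=
  haveI : Fact (Nat.Prime 3) := ⟨Nat.prime_three⟩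
  orderOf_eq_prime_iff

theorem card_subtype_filter {X : Type*} [Fintype X] (p : X → Prop) [DecidablePred p] :
    Nat.card {x : X // p x} = (Finset.univ.filter p).card := by
  rw [Nat.card_eq_fintype_card, Fintype.card_subtype]

end Cfsg.Agent.Helper6.ZasAlt
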