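import Mathlib
import Cfsg.Agent.Helper6.ZasAltB

set_option autoImplicit false

/-!
# Zassenhaus project: subgroups isomorphic to `A₄`
-/

namespace Cfsg.Agent.Helper6.ZasAlt

open Subgroup

set_option maxRecDepth 100000 in
theorem x4_card : Nat.card X4 = 12 := by
  rw [Nat.card_eq_fintype_card]; decide

/-- The Klein four subgroup of `A₄`, as the set of elements of order at most 2. -/
def K4 : Subgroup X4 where
  carrier := {g | g ^ 2 = 1}
  mul_mem' := fun {g h} hg hh => x4_invol_mul g h hg hh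
  one_mem' := by simp
  inv_mem' := fun {g} hg => by
    show g⁻¹ ^ 2 = 1
    rw [inv_pow, hg, inv_one]

theorem mem_K4 (g : X4) : g ∈ K4 ↔ g ^ 2 = 1 := Iff.rfl

theorem card_K4 : Nat.card K4 = 4 := by
  classical
  have : Nat.card K4 = Nat.card {g : X4 // g ^ 2 = 1} := rfl
  rw [this, card_subtype_filter]
  exact x4_card_invol

theorem eq_top_of_card_dvd {X : Type*} [Group X] [Finite X] (H : Subgroup X)
    (h : Nat.card X ∣ Nat.card H) : H = ⊤ := by
  apply Subgroup.eq_top_of_card_eq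
  exact le_antisymm (Subgroup.card_le_card_group H) (Nat.le_of_dvd Nat.card_pos h)

/-- a subgroup of `A₄` containing an element of order 3 and an involution is everything -/
theorem x4_eq_top (H : Subgroup X4) {a g : X4} (ha : a ∈ H) (hg : g ∈ H) (ha3 : a ^ 3 = 1)
    (ha1 : a ≠ 1) (hg2 : g ^ 2 = 1) (hg1 : g ≠ 1) : H = ⊤ := by
  classical
  apply eq_top_of_card_dvd
  rw [x4_card]
  have h3 : 3 ∣ Nat.card H := by
    have : orderOf a = 3 := (orderOf_eq_three_iff a).mpr ⟨ha3, ha1⟩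
    rw [← this, ← Subgroup.orderOf_mk a ha]
    exact orderOf_dvd_natCard _
  have h4 : 4 ∣ Nat.card H := by
    -- `H ⊓ K4` has at least 3 elements
    have hdvd : Nat.card (H ⊓ K4 : Subgroup X4) ∣ 4 := by
      have := Subgroup.card_dvd_of_le (inf_le_right : H ⊓ K4 ≤ K4)
      rwa [card_K4] at this
    set g' := a * g * a⁻¹ with hg'
    have hg'2 : g' ^ 2 = 1 := by rw [hg', conj_pow, hg2]; simp
    have hg'ne : g' ≠ g := x4_act g a hg2 hg1 ha3 ha1
    have hg'1 : g' ≠ 1 := by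
      intro h
      apply hg1
      have : a * g * a⁻¹ = 1 := h
      have h2 : g = a⁻¹ * (a * g * a⁻¹) * a := by group
      rw [h2, this]; group
    have hg'H : g' ∈ H := H.mul_mem (H.mul_mem ha hg) (H.inv_mem ha)
    have hc4 : Nat.card (H ⊓ K4 : Subgroup X4) = 4 := by
      have hle : Nat.card (H ⊓ K4 : Subgroup X4) ≤ 4 := Nat.le_of_dvd (by norm_num) hdvd
      have hpos : 0 < Nat.card (H ⊓ K4 : Subgroup X4) := Nat.card_pos
      have hne1 : Nat.card (H ⊓ K4 : Subgroup X4) ≠ 1 := by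
        intro h1
        have hsub := (Nat.card_eq_one_iff_unique.mp h1).1
        have := hsub.elim (⟨g, ⟨hg, hg2⟩⟩ : (H ⊓ K4 : Subgroup X4)) 1
        exact hg1 (congrArg Subtype.val this)
      have hne2 : Nat.card (H ⊓ K4 : Subgroup X4) ≠ 2 := by
        intro h2
        obtain ⟨y, -, hy⟩ := (Nat.card_eq_two_iff' (1 : (H ⊓ K4 : Subgroup X4))).mp h2
        have e1 := hy (⟨g, ⟨hg, hg2⟩⟩ : (H ⊓ K4 : Subgroup X4))
          (fun h => hg1 (congrArg Subtype.val h))
        have e2 := hy (⟨g', ⟨hg'H, hg'2⟩⟩ : (H ⊓ K4 : Subgroup X4))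
          (fun h => hg'1 (congrArg Subtype.val h))
        exact hg'ne (congrArg Subtype.val (e2.trans e1.symm))
      have hne3 : Nat.card (H ⊓ K4 : Subgroup X4) ≠ 3 := by
        intro h3'
        rw [h3'] at hdvd
        norm_num at hdvd
      omega
    have := Subgroup.card_dvd_of_le (inf_le_left : H ⊓ K4 ≤ H)
    rwa [hc4] at this
  exact Nat.Coprime.mul_dvd_of_dvd_of_dvd (by norm_num : Nat.Coprime 3 4) h3 h4

theorem x4_gen33 {a b : X4} (ha3 : a ^ 3 = 1) (ha1 : a ≠ 1) (hb3 : b ^ 3 = 1) (hb1 : b ≠ 1)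
    (hba : b ≠ a) (hba' : b ≠ a⁻¹) : closure {a, b} = (⊤ : Subgroup X4) := by
  have haH : a ∈ closure ({a, b} : Set X4) := subset_closure (by simp)
  have hbH : b ∈ closure ({a, b} : Set X4) := subset_closure (by simp)
  rcases x4_pair a b ha3 ha1 hb3 hb1 hba hba' with ⟨h2, h1⟩ | ⟨h2, h1⟩
  · exact x4_eq_top _ haH (mul_mem haH hbH) ha3 ha1 h2 h1
  · exact x4_eq_top _ haH (mul_mem haH (inv_mem hbH)) ha3 ha1 h2 h1

theorem x4_gen23 {t a : X4} (ht2 : t ^ 2 = 1) (ht1 : t ≠ 1) (ha3 : a ^ 3 = 1) (ha1 : a ≠ 1) :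
    closure {t, a} = (⊤ : Subgroup X4) := by
  have haH : a ∈ closure ({t, a} : Set X4) := subset_closure (by simp)
  have htH : t ∈ closure ({t, a} : Set X4) := subset_closure (by simp)
  exact x4_eq_top _ haH htH ha3 ha1 ht2 ht1

variable {S : Type*} [Group S]

theorem card_range_eq {X : Type*} [Group X] (φ : X →* S) (hφ : Function.Injective φ) :
    Nat.card φ.range = Nat.card X :=
  (Nat.card_congr (MonoidHom.ofInjective hφ).toEquiv).symm

theorem closure_pair_self_inv {X : Type*} [Group X] (x : X) :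
    closure ({x, x⁻¹} : Set X) = zpowers x := by
  apply le_antisymm
  · rw [closure_le]
    rintro y (rfl | rfl)
    · exact mem_zpowers _
    · exact inv_mem (mem_zpowers _)
  · rw [zpowers_le]
    exact subset_closure (by simp)

theorem closure_pair_self {X : Type*} [Group X] (x : X) :
    closure ({x, x} : Set X) = zpowers x := by
  rw [Set.pair_eq_singleton, zpowers_eq_closure]

theorem mem_zpowers_order_three {X : Type*} [Group X] {x y : X} (hx : x ^ 3 = 1) :
    y ∈ zpowers x ↔ y = 1 ∨ y = x ∨ y = x⁻¹ := by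
  constructor
  · intro h
    obtain ⟨k, rfl⟩ := mem_zpowers_iff.mp h
    have hx3 : x ^ (3 : ℤ) = 1 := by exact_mod_cast hx
    have h3 : x ^ k = x ^ (k % 3) := by
      conv_lhs => rw [← Int.emod_add_mul_ediv k 3, zpow_add, zpow_mul, hx3, one_zpow, mul_one]
    rw [h3]
    have h0 : 0 ≤ k % 3 := Int.emod_nonneg _ (by norm_num)
    have h1 : k % 3 < 3 := Int.emod_lt_of_pos _ (by norm_num)
    have hcases : k % 3 = 0 ∨ k % 3 = 1 ∨ k % 3 = 2 := by omega
    rcases hcases with h | h | h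
    · left; rw [h, zpow_zero]
    · right; left; rw [h, zpow_one]
    · right; right
      rw [h]
      have : x ^ (2 : ℤ) * x = 1 := by
        have h4 := hx3
        rw [show (3 : ℤ) = 2 + 1 by norm_num, zpow_add_one] at h4
        exact h4
      exact eq_inv_of_mul_eq_one_left this
  · rintro (rfl | rfl | rfl)
    · exact one_mem _
    · exact mem_zpowers _
    · exact inv_mem (mem_zpowers _)

section A4

variable (φ : X4 →* S) (hφ : Function.Injective φ)

include hφ in
theorem a4_card : Nat.card φ.range = 12 := by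
  rw [card_range_eq φ hφ, x4_card]

/-- the normal four-subgroup of a subgroup isomorphic to `A₄` -/
def a4V : Subgroup S := K4.map φ

theorem a4V_le : a4V φ ≤ φ.range := by
  rintro _ ⟨x, -, rfl⟩
  exact ⟨x, rfl⟩

include hφ in
theorem a4V_card : Nat.card (a4V φ) = 4 := by
  rw [a4V, Subgroup.card_map_of_injective hφ, card_K4]

theorem a4V_normal {g v : S} (hg : g ∈ φ.range) (hv : v ∈ a4V φ) : g * v * g⁻¹ ∈ a4V φ := by
  obtain ⟨x, rfl⟩ := hg
  obtain ⟨y, hy, rfl⟩ := hv
  refine ⟨x * y * x⁻¹, ?_, by simp⟩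
  show (x * y * x⁻¹) ^ 2 = 1
  rw [conj_pow, (mem_K4 y).mp hy]; simp

include hφ in
theorem a4V_mem_of_sq {y : S} (hy : y ∈ φ.range) (h2 : y ^ 2 = 1) : y ∈ a4V φ := by
  obtain ⟨x, rfl⟩ := hy
  refine ⟨x, ?_, rfl⟩
  show x ^ 2 = 1
  apply hφ
  rw [map_pow, h2, map_one]

include hφ in
theorem a4_order_three_of_not_mem {y : S} (hy : y ∈ φ.range) (hn : y ∉ a4V φ) :
    orderOf y = 3 := by
  obtain ⟨x, rfl⟩ := hy
  rw [orderOf_map φ hφ, orderOf_eq_three_iff]
  rcases x4_order x with h | h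
  · exact absurd ⟨x, h, rfl⟩ hn
  · exact h

include hφ in
theorem a4_act {a v : S} (ha : a ∈ φ.range) (ha3 : orderOf a = 3) (hv : v ∈ a4V φ) (hv1 : v ≠ 1) :
    a * v * a⁻¹ ≠ v := by
  obtain ⟨x, rfl⟩ := ha
  obtain ⟨y, hy, rfl⟩ := hv
  rw [orderOf_map φ hφ, orderOf_eq_three_iff] at ha3
  intro h
  have hy1 : y ≠ 1 := by rintro rfl; exact hv1 (map_one φ)
  apply x4_act y x ((mem_K4 y).mp hy) hy1 ha3.1 ha3.2
  apply hφ
  simpa using h

include hφ in
theorem a4_gen33 {a b : S} (ha : a ∈ φ.range) (hb : b ∈ φ.range) (ha3 : orderOf a = 3)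
    (hb3 : orderOf b = 3) (hba : b ∉ zpowers a) : closure {a, b} = φ.range := by
  obtain ⟨x, rfl⟩ := ha
  obtain ⟨y, rfl⟩ := hb
  rw [orderOf_map φ hφ, orderOf_eq_three_iff] at ha3 hb3
  rw [closure_pair_eq_range_iff φ hφ]
  apply x4_gen33 ha3.1 ha3.2 hb3.1 hb3.2
  · rintro rfl; exact hba (mem_zpowers _)
  · rintro rfl; exact hba (by rw [map_inv]; exact inv_mem (mem_zpowers _))

include hφ in
theorem a4_gen23 {t a : S} (ht : t ∈ φ.range) (ha : a ∈ φ.range) (ht2 : orderOf t = 2)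
    (ha3 : orderOf a = 3) : closure {t, a} = φ.range := by
  obtain ⟨x, rfl⟩ := ht
  obtain ⟨y, rfl⟩ := ha
  rw [orderOf_map φ hφ, orderOf_eq_two_iff] at ht2
  rw [orderOf_map φ hφ, orderOf_eq_three_iff] at ha3
  rw [closure_pair_eq_range_iff φ hφ]
  exact x4_gen23 ht2.1 ht2.2 ha3.1 ha3.2

include hφ in
theorem a4_noinv {t a : S} (ht : t ∈ φ.range) (ha : a ∈ φ.range) (ht2 : orderOf t = 2)
    (ha3 : orderOf a = 3) : t * a * t⁻¹ ∉ zpowers a := by
  obtain ⟨x, rfl⟩ := ht
  obtain ⟨y, rfl⟩ := ha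
  rw [orderOf_map φ hφ, orderOf_eq_two_iff] at ht2
  rw [orderOf_map φ hφ, orderOf_eq_three_iff] at ha3
  intro h
  have hy3 : (φ y) ^ 3 = 1 := by rw [← map_pow, ha3.1, map_one]
  rw [mem_zpowers_order_three hy3] at h
  have := x4_noinv x y ht2.1 ht2.2 ha3.1 ha3.2
  rcases h with h | h | h
  · apply ha3.2
    apply hφ
    have : φ y = (φ x)⁻¹ * (φ x * φ y * (φ x)⁻¹) * φ x := by group
    rw [this, h, map_one]; group
  · apply this.1; apply hφ; simpa using h
  · apply this.2; apply hφ; simpa using h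

include hφ in
theorem a4_card_pairs33 : Nat.card {ab : S × S // orderOf ab.1 = 3 ∧ orderOf ab.2 = 3 ∧
    closure {ab.1, ab.2} = φ.range} = 48 := by
  classical
  have h1 : Nat.card {ab : S × S // orderOf ab.1 = 3 ∧ orderOf ab.2 = 3 ∧
      closure {ab.1, ab.2} = φ.range} =
      Nat.card {st : S × S // st.1 ∈ φ.range ∧ st.2 ∈ φ.range ∧
        (orderOf st.1 = 3 ∧ orderOf st.2 = 3 ∧ closure {st.1, st.2} = φ.range)} := by
    apply Nat.card_congr
    refine Equiv.subtypeEquivRight ?_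
    intro st
    constructor
    · intro h
      refine ⟨?_, ?_, h⟩
      · rw [← h.2.2]; exact subset_closure (by simp)
      · rw [← h.2.2]; exact subset_closure (by simp)
    · intro h; exact h.2.2
  rw [h1, card_range_pairs φ hφ (fun s t => orderOf s = 3 ∧ orderOf t = 3 ∧
    closure {s, t} = φ.range), ← x4_card33, ← card_subtype_filter]
  apply Nat.card_congr
  refine Equiv.subtypeEquivRight ?_
  intro xy
  rw [orderOf_map φ hφ, orderOf_map φ hφ, orderOf_eq_three_iff, orderOf_eq_three_iff,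
    closure_pair_eq_range_iff φ hφ]
  constructor
  · rintro ⟨hx, hy, hc⟩
    refine ⟨hx, hy, ?_, ?_⟩
    · intro h
      rw [h, closure_pair_self] at hc
      have := congrArg (fun H : Subgroup X4 => Nat.card H) hc
      simp only [card_top, x4_card, Nat.card_zpowers] at this
      rw [(orderOf_eq_three_iff _).mpr hx] at this
      norm_num at this
    · intro h
      rw [h, closure_pair_self_inv] at hc
      have := congrArg (fun H : Subgroup X4 => Nat.card H) hc
      simp only [card_top, x4_card, Nat.card_zpowers] at this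
      rw [(orderOf_eq_three_iff _).mpr hx] at this
      norm_num at this
  · rintro ⟨hx, hy, h1, h2⟩
    exact ⟨hx, hy, x4_gen33 hx.1 hx.2 hy.1 hy.2 h1 h2⟩

include hφ in
theorem a4_card_pairs23 : Nat.card {ta : S × S // orderOf ta.1 = 2 ∧ orderOf ta.2 = 3 ∧
    closure {ta.1, ta.2} = φ.range} = 24 := by
  classical
  have h1 : Nat.card {ab : S × S // orderOf ab.1 = 2 ∧ orderOf ab.2 = 3 ∧
      closure {ab.1, ab.2} = φ.range} =
      Nat.card {st : S × S // st.1 ∈ φ.range ∧ st.2 ∈ φ.range ∧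
        (orderOf st.1 = 2 ∧ orderOf st.2 = 3 ∧ closure {st.1, st.2} = φ.range)} := by
    apply Nat.card_congr
    refine Equiv.subtypeEquivRight ?_
    intro st
    constructor
    · intro h
      refine ⟨?_, ?_, h⟩
      · rw [← h.2.2]; exact subset_closure (by simp)
      · rw [← h.2.2]; exact subset_closure (by simp)
    · intro h; exact h.2.2
  rw [h1, card_range_pairs φ hφ (fun s t => orderOf s = 2 ∧ orderOf t = 3 ∧
    closure {s, t} = φ.range), ← x4_card23, ← card_subtype_filter]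
  apply Nat.card_congr
  refine Equiv.subtypeEquivRight ?_
  intro xy
  rw [orderOf_map φ hφ, orderOf_map φ hφ, orderOf_eq_two_iff, orderOf_eq_three_iff,
    closure_pair_eq_range_iff φ hφ]
  constructor
  · rintro ⟨hx, hy, -⟩
    exact ⟨hx, hy⟩
  · rintro ⟨hx, hy⟩
    exact ⟨hx, hy, x4_gen23 hx.1 hx.2 hy.1 hy.2⟩

end A4

end Cfsg.Agent.Helper6.ZasAlt
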