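import Mathlib
import Cfsg.Agent.Helper6.ZasAltC

set_option autoImplicit false

/-!
# Zassenhaus project: subgroups isomorphic to `A₅`
-/

namespace Cfsg.Agent.Helper6.ZasAlt

open Subgroup

set_option maxRecDepth 100000 in
theorem x5_card : Nat.card X5 = 60 := by
  rw [Nat.card_eq_fintype_card]; decide

instance : IsSimpleGroup X5 := alternatingGroup.isSimpleGroup (by simp)

/-- a subgroup of `A₅` of order divisible by 15 is everything -/
theorem x5_eq_top_of_fifteen_dvd (H : Subgroup X5) (h : 15 ∣ Nat.card H) : H = ⊤ := by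
  by_contra hne
  have h1 := Cfsg.Agent.Helper2.SmallOrder.card_dvd_factorial_index H hne
  rw [x5_card] at h1
  have h2 := H.card_mul_index
  rw [x5_card] at h2
  obtain ⟨k, hk⟩ := h
  rw [hk] at h2
  have hk4 : k * H.index = 4 := by
    have : 15 * (k * H.index) = 15 * 4 := by rw [← mul_assoc, h2]
    exact Nat.eq_of_mul_eq_mul_left (by norm_num) this
  have hidx : H.index ∣ 4 := Dvd.intro_left k hk4
  have hle : H.index ≤ 4 := Nat.le_of_dvd (by norm_num) hidx
  have hpos : 0 < H.index := Nat.pos_of_ne_zero (by
    intro h0; rw [h0] at hk4; simp at hk4)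
  interval_cases H.index <;> simp [Nat.factorial] at h1

theorem orderOf_eq_five_iff {G : Type*} [Group G] (g : G) : orderOf g = 5 ↔ g ^ 5 = 1 ∧ g ≠ 1 :=
  haveI : Fact (Nat.Prime 5) := ⟨by norm_num⟩
  orderOf_eq_prime_iff

theorem dvd_card_of_mem {X : Type*} [Group X] [Finite X] (H : Subgroup X) {g : X} (hg : g ∈ H)
    {n : ℕ} (hn : orderOf g = n) : n ∣ Nat.card H := by
  rw [← hn, ← Subgroup.orderOf_mk g hg]
  exact orderOf_dvd_natCard _

theorem x5_gen33_iff {a b : X5} (ha : a ^ 3 = 1 ∧ a ≠ 1) (hb : b ^ 3 = 1 ∧ b ≠ 1) :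
    closure {a, b} = (⊤ : Subgroup X5) ↔ ((a * b) ^ 5 = 1 ∧ a * b ≠ 1) := by
  have haH : a ∈ closure ({a, b} : Set X5) := subset_closure (by simp)
  have hbH : b ∈ closure ({a, b} : Set X5) := subset_closure (by simp)
  constructor
  · intro hc
    rcases x5_tri33 a b ha.1 ha.2 hb.1 hb.2 with (h | h) | ⟨i, hai, hbi⟩ | h
    · exfalso
      rw [h, closure_pair_self] at hc
      have := congrArg (fun H : Subgroup X5 => Nat.card H) hc
      simp only [card_top, x5_card, Nat.card_zpowers] at this
      rw [(orderOf_eq_three_iff _).mpr ha] at this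
      norm_num at this
    · exfalso
      rw [h, closure_pair_self_inv] at hc
      have := congrArg (fun H : Subgroup X5 => Nat.card H) hc
      simp only [card_top, x5_card, Nat.card_zpowers] at this
      rw [(orderOf_eq_three_iff _).mpr ha] at this
      norm_num at this
    · exfalso
      obtain ⟨g, hg⟩ := x5_move i
      have hgc : g ∈ closure ({a, b} : Set X5) := by rw [hc]; exact mem_top g
      apply hg
      refine closure_induction (p := fun (x : X5) _ => (x : Equiv.Perm (Fin 5)) i = i) ?_ ?_ ?_ ?_ hgc
      · rintro x (rfl | rfl)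
        · exact hai
        · exact hbi
      · simp
      · intro x y _ _ hx hy
        simp only [Subgroup.coe_mul, Equiv.Perm.coe_mul, Function.comp_apply]
        rw [hy, hx]
      · intro x _ hx
        simp only [Subgroup.coe_inv]
        rw [Equiv.Perm.inv_eq_iff_eq, hx]
    · exact h
  · intro h
    apply x5_eq_top_of_fifteen_dvd
    have h3 := dvd_card_of_mem _ haH ((orderOf_eq_three_iff a).mpr ha)
    have h5 := dvd_card_of_mem _ (mul_mem haH hbH) ((orderOf_eq_five_iff (a * b)).mpr h)
    exact Nat.Coprime.mul_dvd_of_dvd_of_dvd (by norm_num : Nat.Coprime 3 5) h3 h5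

theorem x5_gen23_iff {t a : X5} (ht : t ^ 2 = 1 ∧ t ≠ 1) (ha : a ^ 3 = 1 ∧ a ≠ 1) :
    closure {t, a} = (⊤ : Subgroup X5) ↔ ((t * a) ^ 5 = 1 ∧ t * a ≠ 1) := by
  have htH : t ∈ closure ({t, a} : Set X5) := subset_closure (by simp)
  have haH : a ∈ closure ({t, a} : Set X5) := subset_closure (by simp)
  constructor
  · intro hc
    rcases x5_tri23 t a ht.1 ht.2 ha.1 ha.2 with h | ⟨i, hti, hai⟩ | h
    · exfalso
      -- `t` normalizes `zpowers a`
      have hle : closure ({t, a} : Set X5) ≤ normalizer (zpowers a : Set X5) := by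
        rw [closure_le]
        intro x hx
        rcases hx with hx | hx
        · rw [hx]
          apply mem_normalizer_fintype
          intro y hy
          obtain ⟨k, rfl⟩ := mem_zpowers_iff.mp hy
          rw [SetLike.mem_coe, ← MulAut.conj_apply, map_zpow, MulAut.conj_apply, h]
          exact zpow_mem (inv_mem (mem_zpowers a)) k
        · rw [Set.mem_singleton_iff] at hx
          rw [hx]
          exact le_normalizer (mem_zpowers a)
      rw [hc, top_le_iff] at hle
      have hn : (zpowers a).Normal := normalizer_eq_top_iff.mp hle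
      rcases hn.eq_bot_or_eq_top with hb | htop
      · exact ha.2 (zpowers_eq_bot.mp hb)
      · have := congrArg (fun H : Subgroup X5 => Nat.card H) htop
        simp only [card_top, x5_card, Nat.card_zpowers] at this
        rw [(orderOf_eq_three_iff _).mpr ha] at this
        norm_num at this
    · exfalso
      obtain ⟨g, hg⟩ := x5_move i
      have hgc : g ∈ closure ({t, a} : Set X5) := by rw [hc]; exact mem_top g
      apply hg
      refine closure_induction (p := fun (x : X5) _ => (x : Equiv.Perm (Fin 5)) i = i) ?_ ?_ ?_ ?_ hgc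
      · rintro x (rfl | rfl)
        · exact hti
        · exact hai
      · simp
      · intro x y _ _ hx hy
        simp only [Subgroup.coe_mul, Equiv.Perm.coe_mul, Function.comp_apply]
        rw [hy, hx]
      · intro x _ hx
        simp only [Subgroup.coe_inv]
        rw [Equiv.Perm.inv_eq_iff_eq, hx]
    · exact h
  · intro h
    apply x5_eq_top_of_fifteen_dvd
    have h3 := dvd_card_of_mem _ haH ((orderOf_eq_three_iff a).mpr ha)
    have h5 := dvd_card_of_mem _ (mul_mem htH haH) ((orderOf_eq_five_iff (t * a)).mpr h)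
    exact Nat.Coprime.mul_dvd_of_dvd_of_dvd (by norm_num : Nat.Coprime 3 5) h3 h5

end Cfsg.Agent.Helper6.ZasAlt
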