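import Mathlib
import Cfsg.Agent.Helper6.ZasAltD

set_option autoImplicit false

/-!
# Zassenhaus project: subgroups isomorphic to `A₅`, transported facts
-/

namespace Cfsg.Agent.Helper6.ZasAlt

open Subgroup

theorem card_pairs_fiber {X : Type*} [Fintype X] [DecidableEq X] (p : X → Prop)
    (q : X → X → Prop) [DecidablePred p] [∀ x, DecidablePred (q x)] (m : ℕ)
    (h : ∀ x, p x → (Finset.univ.filter (q x)).card = m) :
    (Finset.univ.filter fun xy : X × X => p xy.1 ∧ q xy.1 xy.2).card =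
      (Finset.univ.filter p).card * m := by
  have h1 : ((Finset.univ.filter p).sigma (fun x => Finset.univ.filter (q x))).card =
      (Finset.univ.filter p).card * m := by
    rw [Finset.card_sigma, Finset.sum_const_nat (m := m)]
    intro x hx
    exact h x (Finset.mem_filter.mp hx).2
  rw [← h1]
  symm
  apply Finset.card_bij (fun s _ => (s.1, s.2))
  · intro s hs
    simp only [Finset.mem_sigma, Finset.mem_filter, Finset.mem_univ, true_and] at hs
    simp only [Finset.mem_filter, Finset.mem_univ, true_and]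
    exact hs
  · rintro ⟨x, y⟩ _ ⟨x', y'⟩ _ hxy
    simp only [Prod.mk.injEq] at hxy
    obtain ⟨rfl, rfl⟩ := hxy
    rfl
  · rintro ⟨x, y⟩ hxy
    simp only [Finset.mem_filter, Finset.mem_univ, true_and] at hxy
    refine ⟨⟨x, y⟩, ?_, rfl⟩
    simp only [Finset.mem_sigma, Finset.mem_filter, Finset.mem_univ, true_and]
    exact hxy

theorem x5_card33 : (Finset.univ.filter fun ab : X5 × X5 =>
    (ab.1 ^ 3 = 1 ∧ ab.1 ≠ 1) ∧ ((ab.2 ^ 3 = 1 ∧ ab.2 ≠ 1) ∧
      ((ab.1 * ab.2) ^ 5 = 1 ∧ ab.1 * ab.2 ≠ 1))).card = 120 := by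
  classical
  rw [card_pairs_fiber (fun a : X5 => a ^ 3 = 1 ∧ a ≠ 1)
    (fun a b => (b ^ 3 = 1 ∧ b ≠ 1) ∧ ((a * b) ^ 5 = 1 ∧ a * b ≠ 1)) 6
    (fun a ha => by convert x5_gen33 a ha.1 ha.2)]
  have := x5_card3
  convert congrArg (· * 6) this using 2

theorem x5_card23 : (Finset.univ.filter fun ta : X5 × X5 =>
    (ta.1 ^ 2 = 1 ∧ ta.1 ≠ 1) ∧ ((ta.2 ^ 3 = 1 ∧ ta.2 ≠ 1) ∧
      ((ta.1 * ta.2) ^ 5 = 1 ∧ ta.1 * ta.2 ≠ 1))).card = 120 := by
  classical
  rw [card_pairs_fiber (fun t : X5 => t ^ 2 = 1 ∧ t ≠ 1)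
    (fun t a => (a ^ 3 = 1 ∧ a ≠ 1) ∧ ((t * a) ^ 5 = 1 ∧ t * a ≠ 1)) 8
    (fun t ht => by convert x5_gen23 t ht.1 ht.2)]
  have := x5_card2
  convert congrArg (· * 8) this using 2

variable {S : Type*} [Group S]

section A5

variable (φ : X5 →* S) (hφ : Function.Injective φ)

include hφ in
theorem a5_card : Nat.card φ.range = 60 := by
  rw [card_range_eq φ hφ, x5_card]

include hφ in
theorem a5_card_pairs33 : Nat.card {ab : S × S // orderOf ab.1 = 3 ∧ orderOf ab.2 = 3 ∧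
    closure {ab.1, ab.2} = φ.range} = 120 := by
  classical
  have h1 : Nat.card {ab : S × S // orderOf ab.1 = 3 ∧ orderOf ab.2 = 3 ∧
      closure {ab.1, ab.2} = φ.range} =
      Nat.card {st : S × S // st.1 ∈ φ.range ∧ st.2 ∈ φ.range ∧
        (orderOf st.1 = 3 ∧ orderOf st.2 = 3 ∧ closure {st.1, st.2} = φ.range)} := by
    apply Nat.card_congr
    refine Equiv.subtypeEquivRight ?_
    intro st
    constructor
    · intro h
      refine ⟨?_, ?_, h⟩
      · rw [← h.2.2]; exact subset_closure (by simp)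
      · rw [← h.2.2]; exact subset_closure (by simp)
    · intro h; exact h.2.2
  rw [h1, card_range_pairs φ hφ (fun s t => orderOf s = 3 ∧ orderOf t = 3 ∧
    closure {s, t} = φ.range), ← x5_card33, ← card_subtype_filter]
  apply Nat.card_congr
  refine Equiv.subtypeEquivRight ?_
  intro xy
  rw [orderOf_map φ hφ, orderOf_map φ hφ, orderOf_eq_three_iff, orderOf_eq_three_iff,
    closure_pair_eq_range_iff φ hφ]
  constructor
  · rintro ⟨hx, hy, hc⟩
    exact ⟨hx, hy, (x5_gen33_iff hx hy).mp hc⟩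
  · rintro ⟨hx, hy, h⟩
    exact ⟨hx, hy, (x5_gen33_iff hx hy).mpr h⟩

include hφ in
theorem a5_card_pairs23 : Nat.card {ta : S × S // orderOf ta.1 = 2 ∧ orderOf ta.2 = 3 ∧
    closure {ta.1, ta.2} = φ.range} = 120 := by
  classical
  have h1 : Nat.card {ab : S × S // orderOf ab.1 = 2 ∧ orderOf ab.2 = 3 ∧
      closure {ab.1, ab.2} = φ.range} =
      Nat.card {st : S × S // st.1 ∈ φ.range ∧ st.2 ∈ φ.range ∧
        (orderOf st.1 = 2 ∧ orderOf st.2 = 3 ∧ closure {st.1, st.2} = φ.range)} := by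
    apply Nat.card_congr
    refine Equiv.subtypeEquivRight ?_
    intro st
    constructor
    · intro h
      refine ⟨?_, ?_, h⟩
      · rw [← h.2.2]; exact subset_closure (by simp)
      · rw [← h.2.2]; exact subset_closure (by simp)
    · intro h; exact h.2.2
  rw [h1, card_range_pairs φ hφ (fun s t => orderOf s = 2 ∧ orderOf t = 3 ∧
    closure {s, t} = φ.range), ← x5_card23, ← card_subtype_filter]
  apply Nat.card_congr
  refine Equiv.subtypeEquivRight ?_
  intro xy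
  rw [orderOf_map φ hφ, orderOf_map φ hφ, orderOf_eq_two_iff, orderOf_eq_three_iff,
    closure_pair_eq_range_iff φ hφ]
  constructor
  · rintro ⟨hx, hy, hc⟩
    exact ⟨hx, hy, (x5_gen23_iff hx hy).mp hc⟩
  · rintro ⟨hx, hy, h⟩
    exact ⟨hx, hy, (x5_gen23_iff hx hy).mpr h⟩

include hφ in
theorem a5_card_inv {t : S} (ht : t ∈ φ.range) (ht2 : orderOf t = 2) :
    Nat.card {a : S // a ∈ φ.range ∧ (orderOf a = 3 ∧ t * a * t⁻¹ = a⁻¹)} = 4 := by
  classical
  obtain ⟨x, rfl⟩ := ht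
  rw [orderOf_map φ hφ, orderOf_eq_two_iff] at ht2
  rw [card_range_subtype φ hφ (fun a => orderOf a = 3 ∧ φ x * a * (φ x)⁻¹ = a⁻¹),
    ← x5_inv23 x ht2.1 ht2.2, ← card_subtype_filter]
  apply Nat.card_congr
  refine Equiv.subtypeEquivRight ?_
  intro y
  rw [orderOf_map φ hφ, orderOf_eq_three_iff]
  constructor
  · rintro ⟨hy, h⟩
    refine ⟨hy, hφ ?_⟩
    simpa using h
  · rintro ⟨hy, h⟩
    refine ⟨hy, ?_⟩
    have := congrArg φ h
    simpa using this

include hφ in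
theorem a5_four {v w : S} (hv : v ∈ φ.range) (hw : w ∈ φ.range) (hv2 : orderOf v = 2)
    (hw2 : orderOf w = 2) (hvw : v ≠ w) (hc : v * w = w * v) :
    ∃ a ∈ φ.range, orderOf a = 3 ∧ a * v * a⁻¹ = w ∧ a * w * a⁻¹ = v * w := by
  obtain ⟨x, rfl⟩ := hv
  obtain ⟨y, rfl⟩ := hw
  rw [orderOf_map φ hφ, orderOf_eq_two_iff] at hv2 hw2
  have hxy : x ≠ y := fun h => hvw (by rw [h])
  have hc' : x * y = y * x := hφ (by simpa using hc)
  obtain ⟨a, ha3, ha1, h1, h2⟩ := x5_four x y ⟨hv2.1, hv2.2, hw2.1, hw2.2, hxy, hc'⟩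
  refine ⟨φ a, ⟨a, rfl⟩, ?_, ?_, ?_⟩
  · rw [orderOf_map φ hφ, orderOf_eq_three_iff]; exact ⟨ha3, ha1⟩
  · rw [← h1]; simp
  · have := congrArg φ h2
    simpa using this

theorem a5_normal {N : Subgroup S} (hN : N ≤ φ.range)
    (hn : ∀ g ∈ φ.range, ∀ n ∈ N, g * n * g⁻¹ ∈ N) : N = ⊥ ∨ N = φ.range := by
  have hnorm : (N.comap φ).Normal := by
    constructor
    intro n hn' g
    show φ (g * n * g⁻¹) ∈ N
    rw [map_mul, map_mul, map_inv]
    exact hn _ ⟨g, rfl⟩ _ hn'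
  have hmap : (N.comap φ).map φ = N := by
    rw [Subgroup.map_comap_eq, inf_eq_right.mpr hN]
  rcases hnorm.eq_bot_or_eq_top with h | h
  · left; rw [← hmap, h, Subgroup.map_bot]
  · right; rw [← hmap, h, MonoidHom.range_eq_map]

include hφ in
theorem a5_nocent {t a : S} (ht : t ∈ φ.range) (ha : a ∈ φ.range) (ht2 : orderOf t = 2)
    (ha3 : orderOf a = 3) : t * a ≠ a * t := by
  obtain ⟨x, rfl⟩ := ht
  obtain ⟨y, rfl⟩ := ha
  rw [orderOf_map φ hφ, orderOf_eq_two_iff] at ht2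
  rw [orderOf_map φ hφ, orderOf_eq_three_iff] at ha3
  intro h
  apply x5_nocent x y ht2.1 ht2.2 ha3.1 ha3.2
  apply hφ
  simpa using h

include hφ in
theorem a5_card3 : Nat.card {a : S // a ∈ φ.range ∧ orderOf a = 3} = 20 := by
  classical
  rw [card_range_subtype φ hφ (fun a => orderOf a = 3), ← x5_card3, ← card_subtype_filter]
  apply Nat.card_congr
  refine Equiv.subtypeEquivRight ?_
  intro y
  rw [orderOf_map φ hφ, orderOf_eq_three_iff]

include hφ in
theorem a5_card2 : Nat.card {a : S // a ∈ φ.range ∧ orderOf a = 2} = 15 := by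
  classical
  rw [card_range_subtype φ hφ (fun a => orderOf a = 2), ← x5_card2, ← card_subtype_filter]
  apply Nat.card_congr
  refine Equiv.subtypeEquivRight ?_
  intro y
  rw [orderOf_map φ hφ, orderOf_eq_two_iff]

end A5

end Cfsg.Agent.Helper6.ZasAlt
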