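import Mathlib
import Cfsg.Agent.Helper6.ZasAltE

set_option autoImplicit false

/-!
# Zassenhaus project: further facts on `A₄`, `A₅`
-/

namespace Cfsg.Agent.Helper6.ZasAlt

open Subgroup Equiv Equiv.Perm

set_option maxRecDepth 1000000

theorem x5_exists5 : ∃ g : X5, g ^ 5 = 1 ∧ g ≠ 1 := by decide

theorem x4_exists33 : ∃ a b : X4, (a ^ 3 = 1 ∧ a ≠ 1) ∧ (b ^ 3 = 1 ∧ b ≠ 1) ∧ b ≠ a ∧ b ≠ a⁻¹ := by
  decide

set_option synthInstance.maxSize 100000 in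
set_option synthInstance.maxHeartbeats 0 in
theorem x5_cent2 : ∀ t g : X5, t ^ 2 = 1 → t ≠ 1 → g * t = t * g → g ^ 2 = 1 := by decide

set_option synthInstance.maxSize 100000 in
set_option synthInstance.maxHeartbeats 0 in
theorem x5_k5_mul : ∀ g h : X5, (g ^ 2 = 1 ∧ (g : Perm (Fin 5)) 4 = 4) →
    (h ^ 2 = 1 ∧ (h : Perm (Fin 5)) 4 = 4) →
    ((g * h) ^ 2 = 1 ∧ ((g * h : X5) : Perm (Fin 5)) 4 = 4) := by decide

theorem x5_k5_card : (Finset.univ.filter fun g : X5 =>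
    g ^ 2 = 1 ∧ (g : Perm (Fin 5)) 4 = 4).card = 4 := by decide

set_option synthInstance.maxSize 100000 in
set_option synthInstance.maxHeartbeats 0 in
theorem x5_k5_act : ∃ a : X5, (a ^ 3 = 1 ∧ a ≠ 1) ∧
    (∀ g : X5, (g ^ 2 = 1 ∧ (g : Perm (Fin 5)) 4 = 4) →
      ((a * g * a⁻¹) ^ 2 = 1 ∧ ((a * g * a⁻¹ : X5) : Perm (Fin 5)) 4 = 4)) ∧
    ∃ g : X5, (g ^ 2 = 1 ∧ (g : Perm (Fin 5)) 4 = 4) ∧ a * g * a⁻¹ ≠ g := by decide

/-- a four-subgroup of `A₅` -/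
def K5 : Subgroup X5 where
  carrier := {g | g ^ 2 = 1 ∧ (g : Perm (Fin 5)) 4 = 4}
  mul_mem' := fun {g h} hg hh => x5_k5_mul g h hg hh
  one_mem' := by simp
  inv_mem' := fun {g} hg => by
    refine ⟨?_, ?_⟩
    · show g⁻¹ ^ 2 = 1
      rw [inv_pow, hg.1, inv_one]
    · show ((g⁻¹ : X5) : Perm (Fin 5)) 4 = 4
      rw [Subgroup.coe_inv, Equiv.Perm.inv_eq_iff_eq]
      exact hg.2.symm

theorem mem_K5 (g : X5) : g ∈ K5 ↔ g ^ 2 = 1 ∧ (g : Perm (Fin 5)) 4 = 4 := Iff.rfl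

theorem card_K5 : Nat.card K5 = 4 := by
  classical
  have : Nat.card K5 = Nat.card {g : X5 // g ^ 2 = 1 ∧ (g : Perm (Fin 5)) 4 = 4} := rfl
  rw [this, card_subtype_filter]
  exact x5_k5_card

variable {S : Type*} [Group S]

section A4

variable (φ : X4 →* S) (hφ : Function.Injective φ)

include hφ in
/-- two elements of order 3 generating -/
theorem a4_exists33 : ∃ a b : S, a ∈ φ.range ∧ b ∈ φ.range ∧ orderOf a = 3 ∧ orderOf b = 3 ∧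
    closure {a, b} = φ.range := by
  obtain ⟨a, b, ha, hb, hba, hba'⟩ := x4_exists33
  refine ⟨φ a, φ b, ⟨a, rfl⟩, ⟨b, rfl⟩, ?_, ?_, ?_⟩
  · rw [orderOf_map φ hφ, orderOf_eq_three_iff]; exact ha
  · rw [orderOf_map φ hφ, orderOf_eq_three_iff]; exact hb
  · rw [closure_pair_eq_range_iff φ hφ]
    exact x4_gen33 ha.1 ha.2 hb.1 hb.2 hba hba'

theorem a4V_sq {v : S} (hv : v ∈ a4V φ) : v * v = 1 := by
  obtain ⟨x, hx, rfl⟩ := hv
  rw [← map_mul, ← pow_two, (mem_K4 x).mp hx, map_one]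

end A4

section A5

variable (φ : X5 →* S) (hφ : Function.Injective φ)

include hφ in
theorem a5_exists5 : ∃ g ∈ φ.range, orderOf g = 5 := by
  obtain ⟨g, hg5, hg1⟩ := x5_exists5
  refine ⟨φ g, ⟨g, rfl⟩, ?_⟩
  rw [orderOf_map φ hφ]
  haveI : Fact (Nat.Prime 5) := ⟨by norm_num⟩
  exact orderOf_eq_prime hg5 hg1

include hφ in
theorem a5_exists3 : ∃ g ∈ φ.range, orderOf g = 3 := by
  obtain ⟨a, ⟨ha3, ha1⟩, -⟩ := x5_k5_act
  refine ⟨φ a, ⟨a, rfl⟩, ?_⟩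
  rw [orderOf_map φ hφ, orderOf_eq_three_iff]
  exact ⟨ha3, ha1⟩

include hφ in
theorem a5_cent2 {t g : S} (ht : t ∈ φ.range) (hg : g ∈ φ.range) (ht2 : orderOf t = 2)
    (hc : g * t = t * g) : g * g = 1 := by
  obtain ⟨x, rfl⟩ := ht
  obtain ⟨y, rfl⟩ := hg
  rw [orderOf_map φ hφ, orderOf_eq_two_iff] at ht2
  have hc' : y * x = x * y := hφ (by simpa using hc)
  have := x5_cent2 x y ht2.1 ht2.2 hc'
  rw [← map_mul, ← pow_two, this, map_one]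

include hφ in
/-- a four-subgroup of a subgroup isomorphic to `A₅`, with an element of order 3 acting on it -/
theorem a5_exists_four : ∃ V : Subgroup S, V ≤ φ.range ∧ Nat.card V = 4 ∧ ∃ a ∈ φ.range,
    orderOf a = 3 ∧ (∀ v ∈ V, a * v * a⁻¹ ∈ V) ∧ ∃ v ∈ V, a * v * a⁻¹ ≠ v := by
  obtain ⟨a, ⟨ha3, ha1⟩, hnorm, g, hg, hga⟩ := x5_k5_act
  refine ⟨K5.map φ, ?_, ?_, φ a, ⟨a, rfl⟩, ?_, ?_, φ g, ⟨g, hg, rfl⟩, ?_⟩
  · rintro _ ⟨x, -, rfl⟩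
    exact ⟨x, rfl⟩
  · rw [Subgroup.card_map_of_injective hφ, card_K5]
  · rw [orderOf_map φ hφ, orderOf_eq_three_iff]
    exact ⟨ha3, ha1⟩
  · rintro _ ⟨x, hx, rfl⟩
    exact ⟨a * x * a⁻¹, hnorm x hx, by simp⟩
  · intro h
    apply hga
    apply hφ
    simpa using h

end A5

end Cfsg.Agent.Helper6.ZasAlt
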