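import Mathlib
import Cfsg.Agent.Helper6.ZasAltF

set_option autoImplicit false

/-!
# Zassenhaus project: facts on `A₅` needed for the counting of flags
-/

namespace Cfsg.Agent.Helper6.ZasAlt

open Subgroup Equiv Equiv.Perm

set_option maxRecDepth 1000000

set_option synthInstance.maxSize 100000 in
set_option synthInstance.maxHeartbeats 0 in
/-- a generating pair of elements of order 3 of `A₅` is inverted by exactly one involution -/
theorem x5_inv_unique : ∀ a : X5, (a ^ 3 = 1 ∧ a ≠ 1) → ∀ b : X5,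
    ((b ^ 3 = 1 ∧ b ≠ 1) ∧ ((a * b) ^ 5 = 1 ∧ a * b ≠ 1)) →
    (Finset.univ.filter fun t : X5 => (t ^ 2 = 1 ∧ t ≠ 1) ∧
      (t * a * t⁻¹ = a⁻¹ ∧ t * b * t⁻¹ = b⁻¹)).card = 1 := by decide

variable {S : Type*} [Group S]

section A5

variable (φ : X5 →* S) (hφ : Function.Injective φ)

include hφ in
/-- an involution of `A₅` inverting an element of order 3 does not generate `A₅` with it -/
theorem a5_noinv_gen {t a : S} (ht : t ∈ φ.range) (ha : a ∈ φ.range) (ht2 : orderOf t = 2)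
    (ha3 : orderOf a = 3) (hinv : t * a * t⁻¹ = a⁻¹) : closure {t, a} ≠ φ.range := by
  obtain ⟨x, rfl⟩ := ht
  obtain ⟨y, rfl⟩ := ha
  rw [orderOf_map φ hφ, orderOf_eq_two_iff] at ht2
  rw [orderOf_map φ hφ, orderOf_eq_three_iff] at ha3
  intro hc
  rw [closure_pair_eq_range_iff φ hφ, x5_gen23_iff ht2 ha3] at hc
  have hinv' : x * y * x⁻¹ = y⁻¹ := hφ (by simpa using hinv)
  have hxinv : x⁻¹ = x := inv_eq_of_mul_eq_one_left (by rw [← pow_two]; exact ht2.1)
  have hsq : (x * y) * (x * y) = 1 := by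
    calc (x * y) * (x * y) = (x * y * x⁻¹) * (x * x) * y := by group
      _ = 1 := by rw [hinv', ← pow_two, ht2.1]; group
  apply hc.2
  have h5 : (x * y) ^ 5 = (x * y) * ((x * y) * (x * y)) * ((x * y) * (x * y)) := by
    rw [pow_succ, pow_succ, pow_succ, pow_two]; group
  rw [← hc.1, h5, hsq, mul_one, mul_one]

include hφ in
/-- a generating pair of elements of order 3 is inverted by exactly one involution of the `A₅` -/
theorem a5_card_inverting_pair {a b : S} (ha : a ∈ φ.range) (hb : b ∈ φ.range)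
    (ha3 : orderOf a = 3) (hb3 : orderOf b = 3) (hc : closure {a, b} = φ.range) :
    Nat.card {t : S // t ∈ φ.range ∧ (orderOf t = 2 ∧
      (t * a * t⁻¹ = a⁻¹ ∧ t * b * t⁻¹ = b⁻¹))} = 1 := by
  classical
  obtain ⟨x, rfl⟩ := ha
  obtain ⟨y, rfl⟩ := hb
  rw [orderOf_map φ hφ, orderOf_eq_three_iff] at ha3 hb3
  rw [closure_pair_eq_range_iff φ hφ, x5_gen33_iff ha3 hb3] at hc
  rw [card_range_subtype φ hφ (fun t => orderOf t = 2 ∧
    (t * φ x * t⁻¹ = (φ x)⁻¹ ∧ t * φ y * t⁻¹ = (φ y)⁻¹)),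
    ← x5_inv_unique x ha3 y ⟨hb3, hc⟩, ← card_subtype_filter]
  apply Nat.card_congr
  refine Equiv.subtypeEquivRight ?_
  intro t
  rw [orderOf_map φ hφ, orderOf_eq_two_iff]
  constructor
  · rintro ⟨h1, h2, h3⟩
    exact ⟨h1, hφ (by simpa using h2), hφ (by simpa using h3)⟩
  · rintro ⟨h1, h2, h3⟩
    refine ⟨h1, ?_, ?_⟩
    · have := congrArg φ h2
      simpa using this
    · have := congrArg φ h3
      simpa using this

end A5

end Cfsg.Agent.Helper6.ZasAlt
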