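import Mathlib
import Cfsg.Agent.S0992
import Cfsg.Agent.Helper2.KleinSylow
import Cfsg.Agent.Helper6.ZasK1
import Cfsg.Agent.Helper6.ZasDefs

set_option autoImplicit false

/-!
# Zassenhaus project, Klein case: the Sylow 2-subgroups
-/

namespace Cfsg.Agent.Helper6.ZasK

open Subgroup Cfsg.Agent.Helper2
open scoped Pointwise

variable {S : Type*} [Group S]

theorem mem_of_pow_mem_coprime {H : Subgroup S} {c : S} {m n : ℕ} (hmn : Nat.Coprime m n)
    (hm : c ^ m ∈ H) (hn : c ^ n ∈ H) : c ∈ H := by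
  have hbez : (m : ℤ) * Int.gcdA m n + (n : ℤ) * Int.gcdB m n = 1 := by
    have := Int.gcd_eq_gcd_ab (m : ℤ) (n : ℤ)
    rw [Int.gcd_natCast_natCast, hmn.gcd_eq_one] at this
    exact_mod_cast this.symm
  have : c = (c ^ m) ^ (Int.gcdA m n) * (c ^ n) ^ (Int.gcdB m n) := by
    rw [← zpow_natCast c m, ← zpow_natCast c n, ← zpow_mul, ← zpow_mul, ← zpow_add, hbez,
      zpow_one]
  rw [this]
  exact H.mul_mem (H.zpow_mem hm _) (H.zpow_mem hn _)

theorem mem_of_pow_mem_of_coprime_orderOf {H : Subgroup S} {c : S} {m : ℕ}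
    (hmn : Nat.Coprime m (orderOf c)) (hm : c ^ m ∈ H) : c ∈ H :=
  mem_of_pow_mem_coprime hmn hm (by rw [pow_orderOf_eq_one]; exact H.one_mem)

/-- conjugation by an element of the normalizer -/
theorem conj_mem_of_mem_normalizer {H : Subgroup S} {g x : S} (hg : g ∈ normalizer (H : Set S))
    (hx : x ∈ H) : g * x * g⁻¹ ∈ H :=
  (mem_normalizer_iff.mp hg x).mp hx

theorem conj_inv_mem_of_mem_normalizer {H : Subgroup S} {g x : S}
    (hg : g ∈ normalizer (H : Set S)) (hx : x ∈ H) : g⁻¹ * x * g ∈ H := by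
  have := conj_mem_of_mem_normalizer (inv_mem hg) hx
  simpa using this

theorem centralizer_subgroupOf_normal (H : Subgroup S) :
    ((centralizer (H : Set S)).subgroupOf (normalizer (H : Set S))).Normal := by
  rw [← normalizerMonoidHom_ker]
  exact MonoidHom.normal_ker _

/-- `g ^ |N(H) : C(H)| ∈ C(H)` for `g ∈ N(H)` -/
theorem pow_relIndex_mem_centralizer (H : Subgroup S) {g : S}
    (hg : g ∈ normalizer (H : Set S)) :
    g ^ (centralizer (H : Set S)).relIndex (normalizer (H : Set S)) ∈ centralizer (H : Set S) := by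
  haveI := centralizer_subgroupOf_normal H
  have := Subgroup.pow_index_mem ((centralizer (H : Set S)).subgroupOf (normalizer (H : Set S)))
    ⟨g, hg⟩
  rw [mem_subgroupOf] at this
  simpa [Subgroup.relIndex] using this

/-- the centralizer is normalized by the normalizer -/
theorem conj_mem_centralizer (H : Subgroup S) {g c : S} (hg : g ∈ normalizer (H : Set S))
    (hc : c ∈ centralizer (H : Set S)) : g * c * g⁻¹ ∈ centralizer (H : Set S) := by
  rw [mem_centralizer_iff] at hc ⊢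
  intro x hx
  have h1 : g⁻¹ * x * g ∈ H := conj_inv_mem_of_mem_normalizer hg hx
  have h2 := hc _ h1
  calc x * (g * c * g⁻¹) = g * ((g⁻¹ * x * g) * c) * g⁻¹ := by group
    _ = g * (c * (g⁻¹ * x * g)) * g⁻¹ := by rw [h2]
    _ = g * c * g⁻¹ * x := by group

section finite

variable [Finite S]

/-- a subgroup of order 4 in a group of order not divisible by 8 is a Sylow 2-subgroup -/
theorem exists_sylow_eq_of_card_four (h8 : ¬ 8 ∣ Nat.card S) (V : Subgroup S)
    (hV : Nat.card V = 4) : ∃ T : Sylow 2 S, (T : Subgroup S) = V := by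
  haveI : Fact (Nat.Prime 2) := ⟨Nat.prime_two⟩
  have hp : IsPGroup 2 V := IsPGroup.of_card (n := 2) (by rw [hV]; norm_num)
  obtain ⟨T, hT⟩ := hp.exists_le_sylow
  refine ⟨T, ?_⟩
  symm
  apply Subgroup.eq_of_le_of_card_ge hT
  obtain ⟨n, hn⟩ := IsPGroup.iff_card.mp T.isPGroup'
  have hdvd : Nat.card (T : Subgroup S) ∣ Nat.card S := Subgroup.card_subgroup_dvd_card _
  rw [hn] at hdvd ⊢
  have hn2 : n ≤ 2 := by
    by_contra hcon
    push Not at hcon
    apply h8
    exact (pow_dvd_pow 2 hcon : 2 ^ 3 ∣ 2 ^ n).trans hdvd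
  rw [hV]
  calc 2 ^ n ≤ 2 ^ 2 := Nat.pow_le_pow_right (by norm_num) hn2
    _ = 4 := by norm_num

variable [IsSimpleGroup S]

/-- standing hypotheses of the Klein case -/
structure KHyp (S : Type*) [Group S] : Prop where
  hna : ¬ IsMulCommutative S
  h2 : 2 ∣ Nat.card S
  h8 : ¬ 8 ∣ Nat.card S

theorem KHyp.klein (hk : KHyp S) (T : Sylow 2 S) : IsKleinFour (T : Subgroup S) :=
  (Cfsg.Agent.S0992.result hk.hna (even_iff_two_dvd.mpr hk.h2) hk.h8 T).1

theorem KHyp.relIndex (hk : KHyp S) (T : Sylow 2 S) :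
    (centralizer ((T : Subgroup S) : Set S)).relIndex (normalizer ((T : Subgroup S) : Set S)) = 3 :=
  (Cfsg.Agent.S0992.result hk.hna (even_iff_two_dvd.mpr hk.h2) hk.h8 T).2

theorem KHyp.card_sylow (hk : KHyp S) (T : Sylow 2 S) : Nat.card (T : Subgroup S) = 4 := by
  have := hk.klein T
  exact IsKleinFour.card_four (G := (T : Subgroup S))

theorem KHyp.le_centralizer (hk : KHyp S) (T : Sylow 2 S) :
    (T : Subgroup S) ≤ centralizer ((T : Subgroup S) : Set S) := by
  intro x hx
  rw [mem_centralizer_iff]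
  intro y hy
  exact klein_comm _ (hk.klein T) hy hx

theorem KHyp.pow_three_mem (hk : KHyp S) (T : Sylow 2 S) {g : S}
    (hg : g ∈ normalizer ((T : Subgroup S) : Set S)) :
    g ^ 3 ∈ centralizer ((T : Subgroup S) : Set S) := by
  have := pow_relIndex_mem_centralizer (T : Subgroup S) hg
  rwa [hk.relIndex T] at this

theorem KHyp.mem_centralizer_of_coprime (hk : KHyp S) (T : Sylow 2 S) {g : S}
    (hg : g ∈ normalizer ((T : Subgroup S) : Set S)) (hc : Nat.Coprime 3 (orderOf g)) :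
    g ∈ centralizer ((T : Subgroup S) : Set S) :=
  mem_of_pow_mem_of_coprime_orderOf hc (hk.pow_three_mem T hg)

omit [Finite S] [IsSimpleGroup S] in
/-- an element with `t * t = 1` lies in a Sylow 2-subgroup -/
theorem exists_sylow_mem {t : S} (ht : t * t = 1) : ∃ T : Sylow 2 S, t ∈ (T : Subgroup S) := by
  haveI : Fact (Nat.Prime 2) := ⟨Nat.prime_two⟩
  have hp : IsPGroup 2 (zpowers t) := by
    intro g
    refine ⟨1, ?_⟩
    obtain ⟨i, hi⟩ := g.2
    apply Subtype.ext
    rw [Subgroup.coe_pow, Subgroup.coe_one, ← hi]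
    change (t ^ i) ^ 2 ^ 1 = 1
    rw [pow_one, ← zpow_natCast, ← zpow_mul, mul_comm, zpow_mul, zpow_natCast, pow_two, ht,
      one_zpow]
  obtain ⟨T, hT⟩ := hp.exists_le_sylow
  exact ⟨T, hT (mem_zpowers t)⟩

/-- elements of 2-power order are involutions or trivial -/
theorem KHyp.sq_eq_one_of_two_pow (hk : KHyp S) {g : S} {k : ℕ} (hg : g ^ 2 ^ k = 1) :
    g * g = 1 := by
  haveI : Fact (Nat.Prime 2) := ⟨Nat.prime_two⟩
  have hp : IsPGroup 2 (zpowers g) := by
    intro x
    refine ⟨k, ?_⟩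
    obtain ⟨i, hi⟩ := x.2
    apply Subtype.ext
    rw [Subgroup.coe_pow, Subgroup.coe_one, ← hi]
    change (g ^ i) ^ 2 ^ k = 1
    rw [← zpow_natCast, ← zpow_mul, mul_comm, zpow_mul, zpow_natCast, hg, one_zpow]
  obtain ⟨T, hT⟩ := hp.exists_le_sylow
  exact klein_mul_self _ (hk.klein T) (hT (mem_zpowers g))

/-- An element of `N(T) \ C(T)` moves every involution of `T`. -/
theorem KHyp.conj_ne (hk : KHyp S) (T : Sylow 2 S) {a : S}
    (ha : a ∈ normalizer ((T : Subgroup S) : Set S))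
    (hac : a ∉ centralizer ((T : Subgroup S) : Set S)) {t : S} (ht : t ∈ (T : Subgroup S))
    (ht1 : t ≠ 1) : a * t * a⁻¹ ≠ t := by
  intro hfix
  have hK := hk.klein T
  obtain ⟨x, y, hx, hy, hx1, hy1, hxy⟩ := klein_elements _ hK
  -- an element `s` of `T` different from `1` and `t`
  obtain ⟨s, hs, hs1, hst⟩ : ∃ s ∈ (T : Subgroup S), s ≠ 1 ∧ t ≠ s := by
    by_cases hxt : t = x
    · exact ⟨y, hy, hy1, by rw [hxt]; exact hxy⟩
    · exact ⟨x, hx, hx1, hxt⟩
  have hmem : ∀ z ∈ (T : Subgroup S), z = 1 ∨ z = t ∨ z = s ∨ z = t * s := fun z hz =>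
    klein_mem_cases _ hK ht hs ht1 hs1 hst hz
  have hts : t * s = s * t := klein_comm _ hK ht hs
  have htt : t * t = 1 := klein_mul_self _ hK ht
  have has : a * s * a⁻¹ ∈ (T : Subgroup S) := conj_mem_of_mem_normalizer ha hs
  -- `(a * a)` centralizes `T`
  have hsq : a ^ 2 ∈ centralizer ((T : Subgroup S) : Set S) := by
    rw [pow_two]
    have h2s : (a * a) * s * (a * a)⁻¹ = s := by
      rcases hmem _ has with h | h | h | h
      · exfalso; apply hs1
        calc s = a⁻¹ * (a * s * a⁻¹) * a := by group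
          _ = 1 := by rw [h]; group
      · exfalso; apply hst
        calc t = a⁻¹ * (a * t * a⁻¹) * a := by group
          _ = a⁻¹ * (a * s * a⁻¹) * a := by rw [hfix, h]
          _ = s := by group
      · calc (a * a) * s * (a * a)⁻¹ = a * (a * s * a⁻¹) * a⁻¹ := by group
          _ = s := by rw [h, h]
      · calc (a * a) * s * (a * a)⁻¹ = a * (a * s * a⁻¹) * a⁻¹ := by group
          _ = a * (t * s) * a⁻¹ := by rw [h]
          _ = (a * t * a⁻¹) * (a * s * a⁻¹) := by group
          _ = t * (t * s) := by rw [hfix, h]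
          _ = (t * t) * s := by group
          _ = s := by rw [htt, one_mul]
    have h2t : (a * a) * t * (a * a)⁻¹ = t := by
      calc (a * a) * t * (a * a)⁻¹ = a * (a * t * a⁻¹) * a⁻¹ := by group
        _ = t := by rw [hfix, hfix]
    rw [mem_centralizer_iff]
    intro z hz
    have hzt : ∀ w : S, (a * a) * w * (a * a)⁻¹ = w → w * (a * a) = (a * a) * w := by
      intro w hw
      calc w * (a * a) = ((a * a) * w * (a * a)⁻¹) * (a * a) := by rw [hw]
        _ = (a * a) * w := by group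
    rcases hmem z hz with h | h | h | h
    · rw [h]; simp
    · rw [h]; exact hzt _ h2t
    · rw [h]; exact hzt _ h2s
    · rw [h]
      apply hzt
      calc (a * a) * (t * s) * (a * a)⁻¹ = ((a * a) * t * (a * a)⁻¹) * ((a * a) * s * (a * a)⁻¹) := by
            group
        _ = t * s := by rw [h2t, h2s]
  exact hac (mem_of_pow_mem_coprime (by norm_num : Nat.Coprime 2 3) hsq (hk.pow_three_mem T ha))

/-- The three involutions of `T` are `t`, `a t a⁻¹`, `a⁻¹ t a`. -/
theorem KHyp.cycle (hk : KHyp S) (T : Sylow 2 S) {a : S}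
    (ha : a ∈ normalizer ((T : Subgroup S) : Set S))
    (hac : a ∉ centralizer ((T : Subgroup S) : Set S)) {t : S} (ht : t ∈ (T : Subgroup S))
    (ht1 : t ≠ 1) {s : S} (hs : s ∈ (T : Subgroup S)) (hs1 : s ≠ 1) :
    s = t ∨ s = a * t * a⁻¹ ∨ s = a⁻¹ * t * a := by
  have hK := hk.klein T
  have h1 : a * t * a⁻¹ ∈ (T : Subgroup S) := conj_mem_of_mem_normalizer ha ht
  have h2 : a⁻¹ * t * a ∈ (T : Subgroup S) := conj_inv_mem_of_mem_normalizer ha ht
  have hne1 : a * t * a⁻¹ ≠ t := hk.conj_ne T ha hac ht ht1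
  have h11 : a * t * a⁻¹ ≠ 1 := by
    intro h; apply ht1
    calc t = a⁻¹ * (a * t * a⁻¹) * a := by group
      _ = 1 := by rw [h]; group
  have h21 : a⁻¹ * t * a ≠ 1 := by
    intro h; apply ht1
    calc t = a * (a⁻¹ * t * a) * a⁻¹ := by group
      _ = 1 := by rw [h]; group
  have hne2 : a⁻¹ * t * a ≠ t := by
    intro h; apply hne1
    calc a * t * a⁻¹ = a * (a⁻¹ * t * a) * a⁻¹ := by rw [h]
      _ = t := by group
  have hne3 : a⁻¹ * t * a ≠ a * t * a⁻¹ := by
    intro h
    -- then `a` fixes `a t a⁻¹`... use `conj_ne` at `a⁻¹ t a`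
    have := hk.conj_ne T ha hac h2 h21
    apply this
    -- a (a⁻¹ t a) a⁻¹ = t, want = a⁻¹ t a; we know a^3 central: a⁻¹ t a = a t a⁻¹ ⇒ a² t a⁻² = t
    have h3 := hk.pow_three_mem T ha
    rw [mem_centralizer_iff] at h3
    have h3t := h3 t ht
    -- a^2 t a^-2 = t from h
    have hsq : a * (a * t * a⁻¹) * a⁻¹ = t := by
      rw [← h]; group
    -- then a t a⁻¹ = a^3 t a^-3 = t
    exfalso
    apply hne1
    calc a * t * a⁻¹ = a * (a * (a * t * a⁻¹) * a⁻¹) * a⁻¹ := by rw [hsq]
      _ = a ^ 3 * t * (a ^ 3)⁻¹ := by rw [pow_succ, pow_two]; group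
      _ = t * a ^ 3 * (a ^ 3)⁻¹ := by rw [h3t]
      _ = t := by group
  rcases klein_mem_cases _ hK ht h1 ht1 h11 hne1.symm hs with h | h | h | h
  · exact absurd h hs1
  · exact Or.inl h
  · exact Or.inr (Or.inl h)
  · right; right
    rcases klein_mem_cases _ hK ht h1 ht1 h11 hne1.symm h2 with h' | h' | h' | h'
    · exact absurd h' h21
    · exact absurd h' hne2
    · exact absurd h' hne3
    · rw [h, h']

/-- existence of an element of `N(T) \ C(T)` -/
theorem KHyp.exists_not_mem_centralizer (hk : KHyp S) (T : Sylow 2 S) :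
    ∃ g ∈ normalizer ((T : Subgroup S) : Set S), g ∉ centralizer ((T : Subgroup S) : Set S) := by
  by_contra hno
  push Not at hno
  have hle : normalizer ((T : Subgroup S) : Set S) ≤ centralizer ((T : Subgroup S) : Set S) := hno
  have := hk.relIndex T
  rw [Subgroup.relIndex_eq_one.mpr hle] at this
  omega

/-- all involutions are conjugate -/
theorem KHyp.invol_conj (hk : KHyp S) {s t : S} (hs : orderOf s = 2) (ht : orderOf t = 2) :
    IsConj s t := by
  haveI : Fact (Nat.Prime 2) := ⟨Nat.prime_two⟩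
  have hss : s * s = 1 := by rw [← pow_two, ← hs, pow_orderOf_eq_one]
  have htt : t * t = 1 := by rw [← pow_two, ← ht, pow_orderOf_eq_one]
  have hs1 : s ≠ 1 := by rintro rfl; rw [orderOf_one] at hs; omega
  have ht1 : t ≠ 1 := by rintro rfl; rw [orderOf_one] at ht; omega
  obtain ⟨T₁, hT₁⟩ := exists_sylow_mem hss
  obtain ⟨T₂, hT₂⟩ := exists_sylow_mem htt
  obtain ⟨g, hg⟩ := MulAction.exists_smul_eq S T₁ T₂
  -- `g s g⁻¹ ∈ T₂`
  have hgs : g * s * g⁻¹ ∈ (T₂ : Subgroup S) := by
    rw [← hg]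
    show g * s * g⁻¹ ∈ MulAut.conj g • (T₁ : Subgroup S)
    rw [Subgroup.mem_pointwise_smul_iff_inv_smul_mem]
    simp only [MulAut.smul_def, MulAut.conj_inv_apply]
    have : g⁻¹ * (g * s * g⁻¹) * g = s := by group
    rw [this]
    exact hT₁
  have hgs1 : g * s * g⁻¹ ≠ 1 := by
    intro h; apply hs1
    calc s = g⁻¹ * (g * s * g⁻¹) * g := by group
      _ = 1 := by rw [h]; group
  obtain ⟨a, ha, hac⟩ := hk.exists_not_mem_centralizer T₂
  have h1 : IsConj s (g * s * g⁻¹) := isConj_iff.mpr ⟨g, rfl⟩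
  refine h1.trans ?_
  rcases hk.cycle T₂ ha hac hgs hgs1 hT₂ ht1 with h | h | h
  · rw [h]
  · rw [h]; exact isConj_iff.mpr ⟨a, rfl⟩
  · rw [h]; exact isConj_iff.mpr ⟨a⁻¹, by group⟩

omit [IsSimpleGroup S] in
/-- The "order 8" trick: an involution normalizing a subgroup of order divisible by 4 lies in
it. -/
theorem KHyp.mem_of_normalizes (hk : KHyp S) (L : Subgroup S) (hL : 4 ∣ Nat.card L) {t : S}
    (ht : t * t = 1) (hn : t ∈ normalizer (L : Set S)) : t ∈ L := by
  by_contra htL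
  apply hk.h8
  have hLN : L ≤ normalizer (L : Set S) := le_normalizer
  set q : normalizer (L : Set S) ⧸ L.subgroupOf (normalizer (L : Set S)) :=
    QuotientGroup.mk (⟨t, hn⟩ : normalizer (L : Set S)) with hq
  have hq1 : q ≠ 1 := by
    intro h
    rw [hq, QuotientGroup.eq_one_iff, mem_subgroupOf] at h
    exact htL h
  have hq2 : q ^ 2 = 1 := by
    rw [hq, ← QuotientGroup.mk_pow, QuotientGroup.eq_one_iff, mem_subgroupOf]
    simp only [Subgroup.coe_pow]
    rw [pow_two, ht]
    exact L.one_mem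
  have hord : orderOf q = 2 := orderOf_eq_prime hq2 hq1
  have h2 : 2 ∣ Nat.card (normalizer (L : Set S) ⧸ L.subgroupOf (normalizer (L : Set S))) := by
    rw [← hord]; exact orderOf_dvd_natCard q
  have hcard := Subgroup.card_eq_card_quotient_mul_card_subgroup
    (L.subgroupOf (normalizer (L : Set S)))
  have hcL : Nat.card (L.subgroupOf (normalizer (L : Set S))) = Nat.card L :=
    Nat.card_congr (Subgroup.subgroupOfEquivOfLe hLN).toEquiv
  rw [hcL] at hcard
  have h8 : 8 ∣ Nat.card (normalizer (L : Set S)) := by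
    rw [hcard]
    exact mul_dvd_mul h2 hL
  exact h8.trans (Subgroup.card_subgroup_dvd_card _)

end finite

end Cfsg.Agent.Helper6.ZasK
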