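import Mathlib
import Cfsg.Agent.Helper6.ZasK2
import Cfsg.Agent.Helper6.ZasAltF

set_option autoImplicit false

/-!
# Zassenhaus project, Klein case: the normalizer of a Sylow 2-subgroup
-/

namespace Cfsg.Agent.Helper6.ZasK

open Subgroup Cfsg.Agent.Helper2 Cfsg.Agent.Helper6.Zas Cfsg.Agent.Helper6.ZasAlt
open scoped Pointwise

variable {S : Type*} [Group S]

theorem mem_threeGen {X : Subgroup S} {a : S} (ha : a ∈ X) (h3 : orderOf a = 3) :
    a ∈ threeGen X :=
  subset_closure ⟨ha, by rw [← h3, pow_orderOf_eq_one]⟩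

theorem threeGen_le (X : Subgroup S) : threeGen X ≤ X := by
  rw [threeGen, closure_le]
  exact fun g hg => hg.1

theorem threeGen_mono {X Y : Subgroup S} (h : X ≤ Y) : threeGen X ≤ threeGen Y :=
  closure_mono (fun _ hg => ⟨h hg.1, hg.2⟩)

theorem conj_mem_threeGen {X : Subgroup S} {g y : S} (hg : g ∈ normalizer (X : Set S))
    (hy : y ∈ threeGen X) : g * y * g⁻¹ ∈ threeGen X := by
  unfold threeGen at hy ⊢
  induction hy using closure_induction with
  | mem x hx =>
    refine subset_closure ⟨conj_mem_of_mem_normalizer hg hx.1, ?_⟩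
    rw [conj_pow, hx.2]; group
  | one => simp
  | mul x y _ _ hx hy =>
    have : g * (x * y) * g⁻¹ = (g * x * g⁻¹) * (g * y * g⁻¹) := by group
    rw [this]; exact mul_mem hx hy
  | inv x _ hx =>
    have : g * x⁻¹ * g⁻¹ = (g * x * g⁻¹)⁻¹ := by group
    rw [this]; exact inv_mem hx

theorem range_le_threeGen_a4 (φ : X4 →* S) (hφ : Function.Injective φ) {X : Subgroup S}
    (h : φ.range ≤ X) : φ.range ≤ threeGen X := by
  obtain ⟨a, b, ha, hb, ha3, hb3, hcl⟩ := a4_exists33 φ hφ
  rw [← hcl, closure_le]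
  rintro x (rfl | rfl)
  · exact mem_threeGen (h ha) ha3
  · exact mem_threeGen (h hb) hb3

theorem range_le_threeGen_a5 (φ : X5 →* S) (hφ : Function.Injective φ) {X : Subgroup S}
    (h : φ.range ≤ X) : φ.range ≤ threeGen X := by
  have h1 : threeGen φ.range ≤ φ.range := threeGen_le _
  rcases a5_normal φ h1 (fun g hg n hn => conj_mem_threeGen (le_normalizer hg) hn) with h2 | h2
  · exfalso
    obtain ⟨a, ha, ha3⟩ := a5_exists3 φ hφ
    have : a ∈ threeGen φ.range := mem_threeGen ha ha3
    rw [h2, mem_bot] at this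
    rw [this, orderOf_one] at ha3
    omega
  · rw [← h2]
    exact threeGen_mono h

section finite

variable [Finite S] [IsSimpleGroup S]

omit [Finite S] in
/-- in a non-abelian simple group, no non-trivial cyclic subgroup is normal -/
theorem exists_conj_not_mem_zpowers (hna : ¬ IsMulCommutative S) {a : S} (ha1 : a ≠ 1) :
    ∃ g : S, g * a * g⁻¹ ∉ zpowers a := by
  by_contra hno
  push Not at hno
  have hnorm : (zpowers a).Normal := by
    constructor
    intro n hn g
    obtain ⟨k, rfl⟩ := mem_zpowers_iff.mp hn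
    rw [← conj_zpow]
    exact zpow_mem (hno g) k
  rcases hnorm.eq_bot_or_eq_top with h | h
  · apply ha1
    have := mem_zpowers a
    rwa [h, mem_bot] at this
  · apply hna
    refine ⟨⟨fun x y => ?_⟩⟩
    have hx : x ∈ zpowers a := by rw [h]; exact mem_top x
    have hy : y ∈ zpowers a := by rw [h]; exact mem_top y
    obtain ⟨i, rfl⟩ := mem_zpowers_iff.mp hx
    obtain ⟨j, rfl⟩ := mem_zpowers_iff.mp hy
    rw [← zpow_add, ← zpow_add, add_comm]

theorem KHyp.normalizer_ne_top (hk : KHyp S) (T : Sylow 2 S) :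
    normalizer ((T : Subgroup S) : Set S) ≠ ⊤ := by
  intro htop
  have hnorm : (T : Subgroup S).Normal := normalizer_eq_top_iff.mp htop
  rcases hnorm.eq_bot_or_eq_top with h | h
  · have := hk.card_sylow T
    rw [h, card_bot] at this
    omega
  · apply hk.hna
    refine ⟨⟨fun x y => ?_⟩⟩
    have hx : x ∈ (T : Subgroup S) := by rw [h]; exact mem_top x
    have hy : y ∈ (T : Subgroup S) := by rw [h]; exact mem_top y
    exact klein_comm _ (hk.klein T) hx hy

/-- a Sylow 2-subgroup normalized, but not centralized, by an element of order 3 -/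
def Good (T : Sylow 2 S) : Prop :=
  ∃ a : S, orderOf a = 3 ∧ a ∈ normalizer ((T : Subgroup S) : Set S) ∧
    a ∉ centralizer ((T : Subgroup S) : Set S)

theorem KHyp.three_dvd (hk : KHyp S) : 3 ∣ Nat.card S := by
  haveI : Fact (Nat.Prime 2) := ⟨Nat.prime_two⟩
  obtain ⟨T⟩ : Nonempty (Sylow 2 S) := inferInstance
  have h1 := Subgroup.relIndex_dvd_card (centralizer ((T : Subgroup S) : Set S))
    (normalizer ((T : Subgroup S) : Set S))
  rw [hk.relIndex T] at h1
  exact h1.trans (Subgroup.card_subgroup_dvd_card _)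

theorem KHyp.exists_good (hk : KHyp S) (hS : SHyp S) : ∃ T : Sylow 2 S, Good T := by
  haveI : Fact (Nat.Prime 3) := ⟨Nat.prime_three⟩
  obtain ⟨a, ha3⟩ := exists_prime_orderOf_dvd_card' 3 hk.three_dvd
  have ha1 : a ≠ 1 := by rintro rfl; rw [orderOf_one] at ha3; omega
  obtain ⟨g, hg⟩ := exists_conj_not_mem_zpowers hk.hna ha1
  set b := g * a * g⁻¹ with hb
  have hb3 : orderOf b = 3 := by
    rw [← ha3]
    exact (SemiconjBy.orderOf_eq g (x := a) (y := b) (by unfold SemiconjBy; rw [hb]; group)).symm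
  have haL : a ∈ closure ({a, b} : Set S) := subset_closure (by simp)
  have hbL : b ∈ closure ({a, b} : Set S) := subset_closure (by simp)
  rcases hS.hF1 a b ha3 hb3 with h | ⟨⟨e⟩⟩ | ⟨⟨e⟩⟩
  · exfalso
    apply hg
    have hle : zpowers a ≤ closure ({a, b} : Set S) := by
      rw [zpowers_le]; exact haL
    have heq : zpowers a = closure ({a, b} : Set S) := by
      apply Subgroup.eq_of_le_of_card_ge hle
      rw [h, Nat.card_zpowers, ha3]
    rw [heq]
    exact hbL
  · obtain ⟨φ, hφ, hr⟩ := exists_hom_of_iso e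
    obtain ⟨T, hT⟩ := exists_sylow_eq_of_card_four hk.h8 (a4V φ) (a4V_card φ hφ)
    have haR : a ∈ φ.range := by rw [hr]; exact haL
    refine ⟨T, a, ha3, ?_, ?_⟩
    · rw [hT]
      exact mem_normalizer_fintype (fun n hn => a4V_normal φ haR hn)
    · rw [hT]
      intro hc
      rw [mem_centralizer_iff] at hc
      -- a non-trivial element of `a4V`
      have hcard := a4V_card φ hφ
      obtain ⟨v, hv1⟩ : ∃ v : a4V φ, v ≠ 1 := by
        by_contra hno
        push Not at hno
        have : Nat.card (a4V φ) = 1 := Nat.card_eq_one_iff_unique.mpr ⟨⟨fun x y => by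
          rw [hno x, hno y]⟩, ⟨1⟩⟩
        omega
      have hv1' : (v : S) ≠ 1 := fun h => hv1 (Subtype.ext h)
      apply a4_act φ hφ haR ha3 v.2 hv1'
      have := hc v v.2
      calc a * v * a⁻¹ = (v * a) * a⁻¹ := by rw [this]
        _ = v := by group
  · obtain ⟨φ, hφ, hr⟩ := exists_hom_of_iso e
    obtain ⟨V, hVle, hVcard, c, hcR, hc3, hcn, v, hv, hcv⟩ := a5_exists_four φ hφ
    obtain ⟨T, hT⟩ := exists_sylow_eq_of_card_four hk.h8 V hVcard
    refine ⟨T, c, hc3, ?_, ?_⟩
    · rw [hT]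
      exact mem_normalizer_fintype (fun n hn => hcn n hn)
    · rw [hT]
      intro hc
      rw [mem_centralizer_iff] at hc
      apply hcv
      have := hc v hv
      calc c * v * c⁻¹ = (v * c) * c⁻¹ := by rw [this]
        _ = v := by group

theorem KHyp.good_all (hk : KHyp S) (hS : SHyp S) (T : Sylow 2 S) : Good T := by
  haveI : Fact (Nat.Prime 2) := ⟨Nat.prime_two⟩
  obtain ⟨T₀, a, ha3, han, hac⟩ := hk.exists_good hS
  obtain ⟨g, hg⟩ := MulAction.exists_smul_eq S T₀ T
  have hmem : ∀ x : S, x ∈ (T : Subgroup S) ↔ g⁻¹ * x * g ∈ (T₀ : Subgroup S) := by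
    intro x
    rw [← hg]
    show x ∈ MulAut.conj g • (T₀ : Subgroup S) ↔ _
    rw [Subgroup.mem_pointwise_smul_iff_inv_smul_mem]
    simp only [MulAut.smul_def, MulAut.conj_inv_apply]
  refine ⟨g * a * g⁻¹, ?_, ?_, ?_⟩
  · rw [← ha3]
    exact (SemiconjBy.orderOf_eq g (x := a) (y := g * a * g⁻¹)
      (by unfold SemiconjBy; group)).symm
  · apply mem_normalizer_fintype
    intro n hn
    have hn' : n ∈ (T : Subgroup S) := hn
    show g * a * g⁻¹ * n * (g * a * g⁻¹)⁻¹ ∈ (T : Subgroup S)
    rw [hmem] at hn' ⊢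
    have := conj_mem_of_mem_normalizer han hn'
    have h2 : g⁻¹ * (g * a * g⁻¹ * n * (g * a * g⁻¹)⁻¹) * g = a * (g⁻¹ * n * g) * a⁻¹ := by group
    rw [h2]
    exact this
  · intro hc
    apply hac
    rw [mem_centralizer_iff] at hc ⊢
    intro y hy
    have hy' : g * y * g⁻¹ ∈ (T : Subgroup S) := by
      rw [hmem]
      have : g⁻¹ * (g * y * g⁻¹) * g = y := by group
      rwa [this]
    have := hc _ hy'
    calc y * a = g⁻¹ * ((g * y * g⁻¹) * (g * a * g⁻¹)) * g := by group
      _ = g⁻¹ * ((g * a * g⁻¹) * (g * y * g⁻¹)) * g := by rw [this]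
      _ = a * y := by group

/-- (D1): no element of order 3 centralizes a Sylow 2-subgroup -/
theorem KHyp.no_three_centralizer (hk : KHyp S) (hS : SHyp S) (T : Sylow 2 S) {b : S}
    (hb3 : orderOf b = 3) : b ∉ centralizer ((T : Subgroup S) : Set S) := by
  haveI : Fact (Nat.Prime 3) := ⟨Nat.prime_three⟩
  obtain ⟨a, ha3, han, hac⟩ := hk.good_all hS T
  intro hbc
  have hbn : b ∈ normalizer ((T : Subgroup S) : Set S) := centralizer_le_normalizer _ hbc
  obtain ⟨g, hg, hgab⟩ := exists_conj_mem_zpowers (p := 3)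
    (fun P => hS.oddSylow 3 (by norm_num) P) (normalizer ((T : Subgroup S) : Set S)) han hbn
    ha3 hb3
  have hzb : zpowers b ≤ centralizer ((T : Subgroup S) : Set S) := by
    rw [zpowers_le]; exact hbc
  have h1 := conj_mem_centralizer (T : Subgroup S) (inv_mem hg) (hzb hgab)
  apply hac
  have h2 : g⁻¹ * (g * a * g⁻¹) * g⁻¹⁻¹ = a := by group
  rwa [h2] at h1

/-- the subgroup generated by the elements of order 3 of `N(T)` is an `A₄` containing `T` -/
structure A4Data (T : Sylow 2 S) (φ : X4 →* S) : Prop where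
  inj : Function.Injective φ
  range_eq : φ.range = threeGen (normalizer ((T : Subgroup S) : Set S))
  v_eq : a4V φ = (T : Subgroup S)

theorem KHyp.exists_a4 (hk : KHyp S) (hS : SHyp S) (T : Sylow 2 S) :
    ∃ φ : X4 →* S, A4Data T φ := by
  obtain ⟨a, ha3, han, hac⟩ := hk.good_all hS T
  have ha1 : a ≠ 1 := by rintro rfl; rw [orderOf_one] at ha3; omega
  have haG : a ∈ threeGen (normalizer ((T : Subgroup S) : Set S)) := mem_threeGen han ha3
  have hK := hk.klein T
  rcases hS.hM _ (hk.normalizer_ne_top T) with h | h | ⟨⟨e⟩⟩ | ⟨⟨e⟩⟩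
  · exfalso
    apply ha1
    have := Subgroup.card_eq_one.mp h
    rw [this, mem_bot] at haG
    exact haG
  · exfalso
    have hle : zpowers a ≤ threeGen (normalizer ((T : Subgroup S) : Set S)) := by
      rw [zpowers_le]; exact haG
    have heq : zpowers a = threeGen (normalizer ((T : Subgroup S) : Set S)) := by
      apply Subgroup.eq_of_le_of_card_ge hle
      rw [h, Nat.card_zpowers, ha3]
    apply hac
    rw [mem_centralizer_iff]
    intro v hv
    have hvn : v ∈ normalizer ((T : Subgroup S) : Set S) := le_normalizer hv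
    have h1 : v * a * v⁻¹ ∈ zpowers a := by
      rw [heq]; exact conj_mem_threeGen (le_normalizer hvn) haG
    have h2 : v * a * v⁻¹ * a⁻¹ ∈ zpowers a := mul_mem h1 (inv_mem (mem_zpowers a))
    have h3 : v * a * v⁻¹ * a⁻¹ ∈ (T : Subgroup S) := by
      have : v * a * v⁻¹ * a⁻¹ = v * (a * v⁻¹ * a⁻¹) := by group
      rw [this]
      exact mul_mem hv (conj_mem_of_mem_normalizer han (inv_mem hv))
    have h4 : (v * a * v⁻¹ * a⁻¹) * (v * a * v⁻¹ * a⁻¹) = 1 := klein_mul_self _ hK h3
    have h5 : (v * a * v⁻¹ * a⁻¹) ^ 3 = 1 := by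
      obtain ⟨k, hk'⟩ := mem_zpowers_iff.mp h2
      rw [← hk', ← zpow_natCast, ← zpow_mul, mul_comm, zpow_mul, zpow_natCast, ← ha3,
        pow_orderOf_eq_one, one_zpow]
    have h6 : v * a * v⁻¹ * a⁻¹ = 1 := by
      rw [pow_succ, pow_two, h4, one_mul] at h5
      exact h5
    calc v * a = (v * a * v⁻¹ * a⁻¹) * a * v := by group
      _ = a * v := by rw [h6, one_mul]
  · obtain ⟨φ, hφ, hr⟩ := exists_hom_of_iso e
    refine ⟨φ, hφ, hr, ?_⟩
    have hle : a4V φ ≤ (T : Subgroup S) := by
      intro v hv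
      have hvn : v ∈ normalizer ((T : Subgroup S) : Set S) := by
        apply threeGen_le
        rw [← hr]
        exact a4V_le φ hv
      exact hk.mem_of_normalizes (T : Subgroup S) (by rw [hk.card_sylow T]) (a4V_sq φ hv) hvn
    apply Subgroup.eq_of_le_of_card_ge hle
    rw [a4V_card φ hφ, hk.card_sylow T]
  · exfalso
    obtain ⟨ψ, hψ, hr⟩ := exists_hom_of_iso e
    have hrn : ψ.range ≤ normalizer ((T : Subgroup S) : Set S) := by
      rw [hr]; exact threeGen_le _
    obtain ⟨x, hx, hx5⟩ := a5_exists5 ψ hψ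
    have hxc : x ∈ centralizer ((T : Subgroup S) : Set S) :=
      hk.mem_centralizer_of_coprime T (hrn hx) (by rw [hx5]; norm_num)
    have hKle : ψ.range ⊓ centralizer ((T : Subgroup S) : Set S) ≤ ψ.range := inf_le_left
    rcases a5_normal ψ hKle (fun g hg n hn =>
      ⟨(le_normalizer (H := ψ.range) hg |> fun h => conj_mem_of_mem_normalizer h hn.1),
        conj_mem_centralizer _ (hrn hg) hn.2⟩) with h | h
    · have hxK : x ∈ ψ.range ⊓ centralizer ((T : Subgroup S) : Set S) := ⟨hx, hxc⟩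
      rw [h, mem_bot] at hxK
      rw [hxK, orderOf_one] at hx5
      omega
    · apply hac
      have : a ∈ ψ.range := by rw [hr]; exact haG
      rw [← h] at this
      exact this.2

section A4Data

variable {T : Sylow 2 S} {φ : X4 →* S}

omit [Finite S] [IsSimpleGroup S] in
theorem A4Data.range_le_normalizer (h : A4Data T φ) :
    φ.range ≤ normalizer ((T : Subgroup S) : Set S) := by
  rw [h.range_eq]; exact threeGen_le _

omit [Finite S] [IsSimpleGroup S] in
theorem A4Data.le_range (h : A4Data T φ) : (T : Subgroup S) ≤ φ.range := by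
  rw [← h.v_eq]; exact a4V_le φ

omit [Finite S] [IsSimpleGroup S] in
theorem A4Data.mem_of_order_three (h : A4Data T φ) {a : S}
    (ha : a ∈ normalizer ((T : Subgroup S) : Set S)) (ha3 : orderOf a = 3) : a ∈ φ.range := by
  rw [h.range_eq]; exact mem_threeGen ha ha3

omit [Finite S] [IsSimpleGroup S] in
theorem A4Data.conj_mem (h : A4Data T φ) {g x : S}
    (hg : g ∈ normalizer ((T : Subgroup S) : Set S)) (hx : x ∈ φ.range) :
    g * x * g⁻¹ ∈ φ.range := by
  rw [h.range_eq] at hx ⊢
  exact conj_mem_threeGen (le_normalizer hg) hx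

/-- elements of `A_T` centralizing `T` lie in `T` -/
theorem A4Data.mem_of_mem_centralizer (h : A4Data T φ) (hk : KHyp S) (hS : SHyp S) {x : S}
    (hx : x ∈ φ.range) (hc : x ∈ centralizer ((T : Subgroup S) : Set S)) :
    x ∈ (T : Subgroup S) := by
  by_contra hxT
  rw [← h.v_eq] at hxT
  have h3 := a4_order_three_of_not_mem φ h.inj hx hxT
  exact hk.no_three_centralizer hS T h3 hc

/-- an element of odd order centralizing `T` centralizes `A_T` -/
theorem A4Data.odd_comm (h : A4Data T φ) (hk : KHyp S) (hS : SHyp S) {w : S}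
    (hw : w ∈ centralizer ((T : Subgroup S) : Set S)) (hodd : Odd (orderOf w)) {x : S}
    (hx : x ∈ φ.range) : w * x = x * w := by
  have hK := hk.klein T
  by_cases hxT : x ∈ (T : Subgroup S)
  · rw [mem_centralizer_iff] at hw
    exact (hw x hxT).symm
  · have hwn : w ∈ normalizer ((T : Subgroup S) : Set S) := centralizer_le_normalizer _ hw
    have hxn := h.range_le_normalizer hx
    -- `v = w x w⁻¹ x⁻¹ ∈ T`
    have hv : w * x * w⁻¹ * x⁻¹ ∈ (T : Subgroup S) := by
      apply h.mem_of_mem_centralizer hk hS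
      · exact mul_mem (h.conj_mem hwn hx) (inv_mem hx)
      · have : w * x * w⁻¹ * x⁻¹ = w * (x * w⁻¹ * x⁻¹) := by group
        rw [this]
        exact mul_mem hw (conj_mem_centralizer _ hxn (inv_mem hw))
    set v := w * x * w⁻¹ * x⁻¹ with hvdef
    have hwx : w * x * w⁻¹ = v * x := by rw [hvdef]; group
    have hwv : w * v = v * w := by
      rw [mem_centralizer_iff] at hw
      exact (hw v hv).symm
    have hvv : v * v = 1 := klein_mul_self _ hK hv
    -- `w²` commutes with `x`
    have h2 : (w * w) * x = x * (w * w) := by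
      have : w * (w * x * w⁻¹) * w⁻¹ = x := by
        rw [hwx]
        calc w * (v * x) * w⁻¹ = (w * v) * x * w⁻¹ := by group
          _ = (v * w) * x * w⁻¹ := by rw [hwv]
          _ = v * (w * x * w⁻¹) := by group
          _ = v * (v * x) := by rw [hwx]
          _ = (v * v) * x := by group
          _ = x := by rw [hvv, one_mul]
      calc (w * w) * x = (w * (w * x * w⁻¹) * w⁻¹) * (w * w) := by group
        _ = x * (w * w) := by rw [this]
    -- `w` is a power of `w²`
    have hwc : w ∈ centralizer ({x} : Set S) := by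
      apply mem_of_pow_mem_of_coprime_orderOf (m := 2)
      · exact (Nat.coprime_two_left).mpr hodd
      · rw [pow_two, mem_centralizer_singleton_iff]
        exact h2
    rw [mem_centralizer_singleton_iff] at hwc
    exact hwc

/-- `N(T) = A_T C(T)` -/
theorem A4Data.normalizer_decomp (h : A4Data T φ) (hk : KHyp S) (hS : SHyp S) {g : S}
    (hg : g ∈ normalizer ((T : Subgroup S) : Set S)) :
    ∃ x ∈ φ.range, ∃ c ∈ centralizer ((T : Subgroup S) : Set S), g = x * c := by
  obtain ⟨a, ha3, han, hac⟩ := hk.good_all hS T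
  have haR : a ∈ φ.range := h.mem_of_order_three han ha3
  have hK := hk.klein T
  obtain ⟨t, _, ht, _, ht1, _, _⟩ := klein_elements _ hK
  have hgt : g * t * g⁻¹ ∈ (T : Subgroup S) := conj_mem_of_mem_normalizer hg ht
  have hgt1 : g * t * g⁻¹ ≠ 1 := by
    intro h'; apply ht1
    calc t = g⁻¹ * (g * t * g⁻¹) * g := by group
      _ = 1 := by rw [h']; group
  -- an element of the normalizer fixing `t` centralizes
  have key : ∀ y ∈ normalizer ((T : Subgroup S) : Set S), y * t * y⁻¹ = t →
      y ∈ centralizer ((T : Subgroup S) : Set S) := by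
    intro y hy hyt
    by_contra hyc
    exact hk.conj_ne T hy hyc ht ht1 hyt
  rcases hk.cycle T han hac ht ht1 hgt hgt1 with h' | h' | h'
  · exact ⟨1, one_mem _, g, key g hg h', by simp⟩
  · refine ⟨a, haR, a⁻¹ * g, key _ (mul_mem (inv_mem han) hg) ?_, by group⟩
    calc a⁻¹ * g * t * (a⁻¹ * g)⁻¹ = a⁻¹ * (g * t * g⁻¹) * a := by group
      _ = t := by rw [h']; group
  · refine ⟨a⁻¹, inv_mem haR, a * g, key _ (mul_mem han hg) ?_, by group⟩
    calc a * g * t * (a * g)⁻¹ = a * (g * t * g⁻¹) * a⁻¹ := by group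
      _ = t := by rw [h']; group

end A4Data

omit [Finite S] [IsSimpleGroup S] in
/-- decomposition of an element into commuting parts of 2-power order and of odd order -/
theorem exists_two_odd_decomp [Finite S] (g : S) : ∃ v w : S, v ∈ zpowers g ∧ w ∈ zpowers g ∧
    g = v * w ∧ (∃ k : ℕ, v ^ 2 ^ k = 1) ∧ Odd (orderOf w) := by
  have hn : orderOf g ≠ 0 := (orderOf_pos g).ne'
  obtain ⟨k, m, hm, hkm⟩ := Nat.exists_eq_two_pow_mul_odd hn
  have hcop : Nat.Coprime m (2 ^ k) := (Nat.Coprime.pow_right k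
    ((Nat.coprime_two_right).mpr hm))
  have hbez : (m : ℤ) * Int.gcdA m (2 ^ k) + ((2 ^ k : ℕ) : ℤ) * Int.gcdB m (2 ^ k) = 1 := by
    have := Int.gcd_eq_gcd_ab (m : ℤ) ((2 ^ k : ℕ) : ℤ)
    rw [Int.gcd_natCast_natCast, hcop.gcd_eq_one] at this
    exact_mod_cast this.symm
  refine ⟨(g ^ m) ^ (Int.gcdA m (2 ^ k)), (g ^ (2 ^ k)) ^ (Int.gcdB m (2 ^ k)), ?_, ?_, ?_,
    ⟨k, ?_⟩, ?_⟩
  · exact zpow_mem (pow_mem (mem_zpowers g) _) _
  · exact zpow_mem (pow_mem (mem_zpowers g) _) _
  · rw [← zpow_natCast g m, ← zpow_natCast g (2 ^ k), ← zpow_mul, ← zpow_mul, ← zpow_add, hbez,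
      zpow_one]
  · rw [← zpow_natCast, ← zpow_mul, mul_comm, zpow_mul, zpow_natCast, ← pow_mul, mul_comm, ← hkm,
      pow_orderOf_eq_one, one_zpow]
  · apply Odd.of_dvd_nat hm
    apply orderOf_dvd_of_pow_eq_one
    rw [← zpow_natCast, ← zpow_mul, mul_comm, zpow_mul, zpow_natCast, ← pow_mul, ← hkm,
      pow_orderOf_eq_one, one_zpow]

/-- `C(T) = T × O(C(T))`, elementwise -/
theorem KHyp.centralizer_decomp (hk : KHyp S) (T : Sylow 2 S) {c : S}
    (hc : c ∈ centralizer ((T : Subgroup S) : Set S)) :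
    ∃ v w : S, v ∈ (T : Subgroup S) ∧ w ∈ zpowers c ∧ c = v * w ∧ Odd (orderOf w) := by
  obtain ⟨v, w, hv, hw, hvw, ⟨k, hk2⟩, hodd⟩ := exists_two_odd_decomp c
  refine ⟨v, w, ?_, hw, hvw, hodd⟩
  have hzc : zpowers c ≤ centralizer ((T : Subgroup S) : Set S) := by
    rw [zpowers_le]; exact hc
  exact hk.mem_of_normalizes (T : Subgroup S) (by rw [hk.card_sylow T])
    (hk.sq_eq_one_of_two_pow hk2) (centralizer_le_normalizer _ (hzc hv))

end finite

end Cfsg.Agent.Helper6.ZasK
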