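import Mathlib
import Cfsg.Agent.Helper6.ZasK3
import Cfsg.Agent.Helper2.SmallOrder

set_option autoImplicit false

/-!
# Zassenhaus project, Klein case: `C(T) = T`
-/

namespace Cfsg.Agent.Helper6.ZasK

open Subgroup Cfsg.Agent.Helper2 Cfsg.Agent.Helper6.Zas Cfsg.Agent.Helper6.ZasAlt
open scoped Pointwise

variable {S : Type*} [Group S]

/-- conjugation by an element of the normalizer maps `H` onto `H` -/
theorem map_conj_eq_of_mem_normalizer {H : Subgroup S} {x : S}
    (hx : x ∈ normalizer (H : Set S)) : H.map (MulAut.conj x).toMonoidHom = H := by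
  ext y
  constructor
  · rintro ⟨h, hh, rfl⟩
    exact conj_mem_of_mem_normalizer hx hh
  · intro hy
    refine ⟨x⁻¹ * y * x, conj_inv_mem_of_mem_normalizer hx hy, ?_⟩
    simp [MulAut.conj_apply, mul_assoc]

theorem closure_pair_conj (x t a : S) :
    closure {x * t * x⁻¹, x * a * x⁻¹} = (closure {t, a}).map (MulAut.conj x).toMonoidHom := by
  rw [MonoidHom.map_closure, Set.image_pair]
  rfl

/-- Frattini argument, elementwise -/
theorem frattini_elem [Finite S] {p : ℕ} [Fact p.Prime] (T : Sylow p S) (H : Subgroup S)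
    (hTH : (T : Subgroup S) ≤ H) (g : S) (hg : ∀ v ∈ (T : Subgroup S), g * v * g⁻¹ ∈ H) :
    ∃ h ∈ H, h * g ∈ normalizer ((T : Subgroup S) : Set S) := by
  have h2 : ↑(g • T) ≤ H := by
    rintro - ⟨z, hz, rfl⟩
    exact hg z hz
  obtain ⟨h, hh⟩ := MulAction.exists_smul_eq H ((g • T).subtype h2) (T.subtype hTH)
  simp_rw [Sylow.smul_subtype, Subgroup.smul_def, smul_smul] at hh
  exact ⟨h, h.2, Sylow.smul_eq_iff_mem_normalizer.mp (Sylow.subtype_injective hh)⟩

section A5

variable (ψ : X5 →* S) (hψ : Function.Injective ψ)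

include hψ in
/-- An element of prime power order `p ^ k`, `p ∤ 120`, normalizing a subgroup isomorphic to `A₅`
centralizes it. -/
theorem a5_centralizes_of_coprime {x : S} (hx : x ∈ normalizer (ψ.range : Set S)) {p k : ℕ}
    [hp : Fact p.Prime] (hxo : x ^ p ^ k = 1) (hp120 : ¬ p ∣ 120) {y : S} (hy : y ∈ ψ.range) :
    x * y = y * x := by
  classical
  set Ω := {ta : S × S // orderOf ta.1 = 2 ∧ orderOf ta.2 = 3 ∧
    closure {ta.1, ta.2} = ψ.range} with hΩ
  have hcard : Nat.card Ω = 120 := a5_card_pairs23 ψ hψ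
  haveI : Finite Ω := Nat.finite_of_card_ne_zero (by rw [hcard]; norm_num)
  haveI : Fintype Ω := Fintype.ofFinite Ω
  -- conjugation by a power of `x` preserves `Ω`
  have hmem : ∀ g : S, g ∈ normalizer (ψ.range : Set S) → ∀ ta : Ω,
      orderOf (g * ta.1.1 * g⁻¹) = 2 ∧ orderOf (g * ta.1.2 * g⁻¹) = 3 ∧
        closure {g * ta.1.1 * g⁻¹, g * ta.1.2 * g⁻¹} = ψ.range := by
    intro g hg ta
    refine ⟨?_, ?_, ?_⟩
    · exact (SemiconjBy.orderOf_eq g (x := ta.1.1) (y := g * ta.1.1 * g⁻¹)
        (by unfold SemiconjBy; group)).symm.trans ta.2.1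
    · exact (SemiconjBy.orderOf_eq g (x := ta.1.2) (y := g * ta.1.2 * g⁻¹)
        (by unfold SemiconjBy; group)).symm.trans ta.2.2.1
    · rw [closure_pair_conj, ta.2.2.2, map_conj_eq_of_mem_normalizer hg]
  let σ : Equiv.Perm Ω :=
    { toFun := fun ta => ⟨(x * ta.1.1 * x⁻¹, x * ta.1.2 * x⁻¹), hmem x hx ta⟩
      invFun := fun ta => ⟨(x⁻¹ * ta.1.1 * x⁻¹⁻¹, x⁻¹ * ta.1.2 * x⁻¹⁻¹), hmem x⁻¹ (inv_mem hx) ta⟩
      left_inv := fun ta => by
        apply Subtype.ext
        apply Prod.ext
        · show x⁻¹ * (x * ta.1.1 * x⁻¹) * x⁻¹⁻¹ = ta.1.1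
          group
        · show x⁻¹ * (x * ta.1.2 * x⁻¹) * x⁻¹⁻¹ = ta.1.2
          group
      right_inv := fun ta => by
        apply Subtype.ext
        apply Prod.ext
        · show x * (x⁻¹ * ta.1.1 * x⁻¹⁻¹) * x⁻¹ = ta.1.1
          group
        · show x * (x⁻¹ * ta.1.2 * x⁻¹⁻¹) * x⁻¹ = ta.1.2
          group }
  have hσpow : ∀ n : ℕ, ∀ ta : Ω, ((σ ^ n) ta).1 = (x ^ n * ta.1.1 * (x ^ n)⁻¹,
      x ^ n * ta.1.2 * (x ^ n)⁻¹) := by
    intro n
    induction n with
    | zero => intro ta; simp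
    | succ n ih =>
      intro ta
      rw [pow_succ', Equiv.Perm.mul_apply]
      show (x * ((σ ^ n) ta).1.1 * x⁻¹, x * ((σ ^ n) ta).1.2 * x⁻¹) = _
      rw [ih ta]
      apply Prod.ext
      · show x * (x ^ n * ta.1.1 * (x ^ n)⁻¹) * x⁻¹ = x ^ (n + 1) * ta.1.1 * (x ^ (n + 1))⁻¹
        rw [pow_succ']; group
      · show x * (x ^ n * ta.1.2 * (x ^ n)⁻¹) * x⁻¹ = x ^ (n + 1) * ta.1.2 * (x ^ (n + 1))⁻¹
        rw [pow_succ']; group
  have hσ : σ ^ p ^ k = 1 := by
    refine Equiv.ext fun ta => Subtype.ext ?_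
    rw [hσpow, hxo]
    simp
  have hnd : ¬ p ∣ Fintype.card Ω := by
    rw [← Nat.card_eq_fintype_card, hcard]; exact hp120
  obtain ⟨ta, hta⟩ := Equiv.Perm.exists_fixed_point_of_prime hnd hσ
  have h1 : x * ta.1.1 * x⁻¹ = ta.1.1 := congrArg (fun z : Ω => z.1.1) hta
  have h2 : x * ta.1.2 * x⁻¹ = ta.1.2 := congrArg (fun z : Ω => z.1.2) hta
  have hle : closure {ta.1.1, ta.1.2} ≤ centralizer ({x} : Set S) := by
    rw [closure_le]
    rintro z (rfl | rfl)
    · show ta.1.1 ∈ centralizer ({x} : Set S)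
      rw [mem_centralizer_singleton_iff]
      calc ta.1.1 * x = (x * ta.1.1 * x⁻¹) * x := by rw [h1]
        _ = x * ta.1.1 := by group
    · show ta.1.2 ∈ centralizer ({x} : Set S)
      rw [mem_centralizer_singleton_iff]
      calc ta.1.2 * x = (x * ta.1.2 * x⁻¹) * x := by rw [h2]
        _ = x * ta.1.2 := by group
  rw [ta.2.2.2] at hle
  have := hle hy
  rw [mem_centralizer_singleton_iff] at this
  exact this.symm

end A5

theorem mem_centralizer_zpowers_iff {x y : S} :
    x ∈ centralizer (zpowers y : Set S) ↔ y * x = x * y := by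
  rw [mem_centralizer_iff]
  constructor
  · intro h
    exact h y (mem_zpowers y)
  · intro h z hz
    obtain ⟨k, rfl⟩ := mem_zpowers_iff.mp hz
    exact (Commute.zpow_left (show Commute y x from h) k)

theorem prime_not_dvd_120 {p : ℕ} (hp : p.Prime) (hp2 : p ≠ 2) (hp3 : p ≠ 3) (hp5 : p ≠ 5) :
    ¬ p ∣ 120 := by
  intro h
  have h120 : (120 : ℕ) = 2 ^ 3 * (3 * 5) := by norm_num
  rw [h120] at h
  rcases (Nat.Prime.dvd_mul hp).mp h with h1 | h1
  · exact hp2 ((Nat.prime_dvd_prime_iff_eq hp Nat.prime_two).mp (hp.dvd_of_dvd_pow h1))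
  · rcases (Nat.Prime.dvd_mul hp).mp h1 with h2 | h2
    · exact hp3 ((Nat.prime_dvd_prime_iff_eq hp Nat.prime_three).mp h2)
    · exact hp5 ((Nat.prime_dvd_prime_iff_eq hp (by norm_num)).mp h2)

section finite

variable [Finite S] [IsSimpleGroup S]

/-- a Sylow `p`-subgroup meeting `C(T)` non-trivially lies in `C(T)` -/
theorem KHyp.sylow_le_centralizer (hk : KHyp S) (hS : SHyp S) {T : Sylow 2 S} {φ : X4 →* S}
    (h : A4Data T φ) {p : ℕ} [hp : Fact p.Prime] (hp2 : p ≠ 2) (hp3 : p ≠ 3) {y : S}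
    (hyc : y ∈ centralizer ((T : Subgroup S) : Set S)) (hyo : orderOf y = p) (P : Sylow p S)
    (hyP : y ∈ (P : Subgroup S)) :
    (P : Subgroup S) ≤ centralizer ((T : Subgroup S) : Set S) := by
  have hK := hk.klein T
  have hy1 : y ≠ 1 := by
    rintro rfl
    rw [orderOf_one] at hyo
    exact hp.out.one_lt.ne hyo
  have hyodd : Odd (orderOf y) := by rw [hyo]; exact hp.out.odd_of_ne_two hp2
  set X := normalizer (zpowers y : Set S) with hX
  have hXtop : X ≠ ⊤ := by
    intro htop
    obtain ⟨g, hg⟩ := exists_conj_not_mem_zpowers hk.hna hy1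
    apply hg
    have : g ∈ X := by rw [htop]; exact mem_top g
    exact conj_mem_of_mem_normalizer this (mem_zpowers y)
  have hcX : centralizer (zpowers y : Set S) ≤ X := centralizer_le_normalizer _
  have hφX : φ.range ≤ X := fun x hx =>
    hcX (mem_centralizer_zpowers_iff.mpr (h.odd_comm hk hS hyc hyodd hx))
  have hφY : φ.range ≤ threeGen X := range_le_threeGen_a4 φ h.inj hφX
  have hPcyc : IsCyclic (P : Subgroup S) := hS.oddSylow p hp2 P
  have hPX : (P : Subgroup S) ≤ X := by
    intro x hx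
    apply hcX
    rw [mem_centralizer_zpowers_iff]
    haveI := hPcyc.isMulCommutative
    exact congrArg Subtype.val (mul_comm' (⟨y, hyP⟩ : (P : Subgroup S)) ⟨x, hx⟩)
  obtain ⟨n, hn⟩ := IsPGroup.iff_card.mp P.isPGroup'
  have hxpow : ∀ x ∈ (P : Subgroup S), x ^ p ^ n = 1 := by
    intro x hx
    have := pow_card_eq_one' (G := (P : Subgroup S)) (x := ⟨x, hx⟩)
    rw [hn] at this
    exact congrArg Subtype.val this
  have hcop3 : ∀ x ∈ (P : Subgroup S), Nat.Coprime 3 (orderOf x) := by
    intro x hx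
    have hdvd : orderOf x ∣ p ^ n := orderOf_dvd_of_pow_eq_one (hxpow x hx)
    have h3p : Nat.Coprime 3 p :=
      (Nat.coprime_primes Nat.prime_three hp.out).mpr (fun h' => hp3 h'.symm)
    exact Nat.Coprime.coprime_dvd_right hdvd (Nat.Coprime.pow_right n h3p)
  have hcard12 : Nat.card φ.range = 12 := a4_card φ h.inj
  have hle12 : 12 ≤ Nat.card (threeGen X) := by
    rw [← hcard12]; exact Subgroup.card_le_of_le hφY
  rcases hS.hM X hXtop with h1 | h1 | ⟨⟨e⟩⟩ | ⟨⟨e⟩⟩
  · omega
  · omega
  · obtain ⟨φ', hφ', hr'⟩ := exists_hom_of_iso e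
    have hc12 : Nat.card (threeGen X) = 12 := by rw [← hr']; exact a4_card φ' hφ'
    have heq : φ.range = threeGen X := by
      apply Subgroup.eq_of_le_of_card_ge hφY
      rw [hc12, hcard12]
    intro x hx
    have hxX : x ∈ X := hPX hx
    have hxN : x ∈ normalizer ((T : Subgroup S) : Set S) := by
      apply mem_normalizer_fintype
      intro v hv
      have hv' : v ∈ (T : Subgroup S) := hv
      show x * v * x⁻¹ ∈ (T : Subgroup S)
      rw [← h.v_eq]
      apply a4V_mem_of_sq φ h.inj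
      · rw [heq]
        apply conj_mem_threeGen (le_normalizer hxX)
        rw [← heq]
        exact h.le_range hv'
      · rw [conj_pow, pow_two, klein_mul_self _ hK hv']
        group
    exact hk.mem_centralizer_of_coprime T hxN (hcop3 x hx)
  · obtain ⟨ψ, hψ, hr⟩ := exists_hom_of_iso e
    have hψX : ψ.range ≤ X := by rw [hr]; exact threeGen_le _
    have hφψ : φ.range ≤ ψ.range := by rw [hr]; exact hφY
    -- `y` centralizes `ψ.range`
    have hKle : ψ.range ⊓ centralizer (zpowers y : Set S) ≤ ψ.range := inf_le_left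
    have hycent : ∀ z ∈ ψ.range, z ∈ centralizer (zpowers y : Set S) := by
      rcases a5_normal ψ hKle (fun g hg n hn =>
        ⟨conj_mem_of_mem_normalizer (le_normalizer (H := ψ.range) hg) hn.1,
          conj_mem_centralizer _ (hψX hg) hn.2⟩) with h2 | h2
      · exfalso
        obtain ⟨a, ha3, han, hac⟩ := hk.good_all hS T
        have haR : a ∈ φ.range := h.mem_of_order_three han ha3
        have : a ∈ ψ.range ⊓ centralizer (zpowers y : Set S) :=
          ⟨hφψ haR, mem_centralizer_zpowers_iff.mpr (h.odd_comm hk hS hyc hyodd haR)⟩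
        rw [h2, mem_bot] at this
        rw [this, orderOf_one] at ha3
        omega
      · intro z hz
        rw [← h2] at hz
        exact hz.2
    by_cases hp5 : p = 5
    · exfalso
      subst hp5
      obtain ⟨x5, hx5R, hx5o⟩ := a5_exists5 ψ hψ
      have hx5H : x5 ∈ centralizer (zpowers y : Set S) := hycent x5 hx5R
      have hyH : y ∈ centralizer (zpowers y : Set S) := mem_centralizer_zpowers_iff.mpr rfl
      obtain ⟨g, hg, hgz⟩ := exists_conj_mem_zpowers (p := 5)
        (fun Q => hS.oddSylow 5 (by norm_num) Q) (centralizer (zpowers y : Set S)) hx5H hyH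
        hx5o hyo
      have hx5z : x5 ∈ zpowers y := by
        rw [mem_centralizer_iff] at hg
        have := hg _ hgz
        have h3 : x5 = g⁻¹ * ((g * x5 * g⁻¹) * g) := by group
        rw [h3, this]
        have h4 : g⁻¹ * (g * (g * x5 * g⁻¹)) = g * x5 * g⁻¹ := by group
        rw [h4]
        exact hgz
      have hzz : zpowers x5 = zpowers y := by
        apply Subgroup.eq_of_le_of_card_ge
        · rw [zpowers_le]; exact hx5z
        · rw [Nat.card_zpowers, Nat.card_zpowers, hx5o, hyo]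
      have hyR : y ∈ ψ.range := by
        have : y ∈ zpowers x5 := by rw [hzz]; exact mem_zpowers y
        exact (zpowers_le.mpr hx5R) this
      obtain ⟨t, _, ht, _, ht1, _, _⟩ := klein_elements _ hK
      have htt : t * t = 1 := klein_mul_self _ hK ht
      have ht2 : orderOf t = 2 := orderOf_eq_prime (by rw [pow_two]; exact htt) ht1
      have htR : t ∈ ψ.range := hφψ (h.le_range ht)
      have hyt : y * t = t * y := by
        rw [mem_centralizer_iff] at hyc
        exact (hyc t ht).symm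
      have hyy := a5_cent2 ψ hψ htR hyR ht2 hyt
      have : orderOf y ∣ 2 := orderOf_dvd_of_pow_eq_one (by rw [pow_two]; exact hyy)
      rw [hyo] at this
      omega
    · have hp120 := prime_not_dvd_120 hp.out hp2 hp3 hp5
      intro x hx
      have hxX : x ∈ X := hPX hx
      have hxN : x ∈ normalizer (ψ.range : Set S) := by
        apply mem_normalizer_fintype
        intro z hz
        have hz' : z ∈ ψ.range := hz
        show x * z * x⁻¹ ∈ ψ.range
        rw [hr] at hz' ⊢
        exact conj_mem_threeGen (le_normalizer hxX) hz'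
      rw [mem_centralizer_iff]
      intro v hv
      exact (a5_centralizes_of_coprime ψ hψ hxN (hxpow x hx) hp120
        (hφψ (h.le_range hv))).symm

/-- `C(T) = T` -/
theorem KHyp.centralizer_eq (hk : KHyp S) (hS : SHyp S) (T : Sylow 2 S) :
    centralizer ((T : Subgroup S) : Set S) = (T : Subgroup S) := by
  obtain ⟨φ, h⟩ := hk.exists_a4 hS T
  have hTC := hk.le_centralizer T
  set C := centralizer ((T : Subgroup S) : Set S) with hC
  have h4 : 4 ∣ Nat.card C := by rw [← hk.card_sylow T]; exact Subgroup.card_dvd_of_le hTC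
  have h8 : ¬ 8 ∣ Nat.card C := fun h' => hk.h8 (h'.trans (Subgroup.card_subgroup_dvd_card C))
  obtain ⟨m, hm⟩ := h4
  have hmodd : Odd m := by
    by_contra hne
    rw [Nat.not_odd_iff_even] at hne
    obtain ⟨j, hj⟩ := hne
    apply h8
    rw [hm, hj]
    exact ⟨j, by ring⟩
  by_cases hm1 : m = 1
  · symm
    apply Subgroup.eq_of_le_of_card_ge hTC
    rw [hm, hm1, hk.card_sylow T]
  exfalso
  set p := m.minFac with hp
  have hpp : p.Prime := Nat.minFac_prime hm1
  haveI : Fact p.Prime := ⟨hpp⟩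
  have hpm : p ∣ m := Nat.minFac_dvd m
  have hpC : p ∣ Nat.card C := by rw [hm]; exact Dvd.dvd.mul_left hpm 4
  have hp2 : p ≠ 2 := by
    intro h2
    rw [h2] at hpm
    exact (Nat.not_even_iff_odd.mpr hmodd) (even_iff_two_dvd.mpr hpm)
  obtain ⟨yC, hyC⟩ := exists_prime_orderOf_dvd_card' p hpC
  obtain ⟨y, hyc⟩ := yC
  have hyo : orderOf y = p := by rw [← hyC, Subgroup.orderOf_mk]
  have hp3 : p ≠ 3 := by
    intro h3
    exact hk.no_three_centralizer hS T (by rw [hyo, h3]) hyc
  have hy1 : y ≠ 1 := by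
    rintro rfl
    rw [orderOf_one] at hyo
    exact hpp.one_lt.ne hyo
  have hpy : IsPGroup p (zpowers y) :=
    IsPGroup.of_card (n := 1) (by rw [Nat.card_zpowers, hyo, pow_one])
  obtain ⟨P, hP⟩ := hpy.exists_le_sylow
  have hyP : y ∈ (P : Subgroup S) := hP (mem_zpowers y)
  have hPC : (P : Subgroup S) ≤ C := hk.sylow_le_centralizer hS h hp2 hp3 hyc hyo P hyP
  have hPbot : (P : Subgroup S) ≠ ⊥ := by
    intro hb
    rw [hb, mem_bot] at hyP
    exact hy1 hyP
  have hB := burnside_simple hk.hna P hPbot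
  rw [SetLike.not_le_iff_exists] at hB
  obtain ⟨g, hgN, hgC⟩ := hB
  have hTCP : (T : Subgroup S) ≤ centralizer ((P : Subgroup S) : Set S) := by
    intro v hv
    rw [mem_centralizer_iff]
    intro x hx
    have := hPC hx
    rw [hC, mem_centralizer_iff] at this
    exact (this v hv).symm
  obtain ⟨c, hc, hcg⟩ := frattini_elem T (centralizer ((P : Subgroup S) : Set S)) hTCP g
    (fun v hv => conj_mem_centralizer _ hgN (hTCP hv))
  have hg'N : c * g ∈ normalizer ((P : Subgroup S) : Set S) :=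
    mul_mem (centralizer_le_normalizer _ hc) hgN
  have hg'C : c * g ∉ centralizer ((P : Subgroup S) : Set S) := by
    intro h'
    apply hgC
    have : g = c⁻¹ * (c * g) := by group
    rw [this]
    exact mul_mem (inv_mem hc) h'
  obtain ⟨x, hx, c', hc', hxc⟩ := h.normalizer_decomp hk hS hcg
  obtain ⟨n, hn⟩ := IsPGroup.iff_card.mp P.isPGroup'
  have hoddP : ∀ z ∈ (P : Subgroup S), Odd (orderOf z) := by
    intro z hz
    have h1 : orderOf z ∣ p ^ n := by
      rw [← hn]; exact Subgroup.orderOf_dvd_natCard _ hz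
    exact Odd.of_dvd_nat (Odd.pow (hpp.odd_of_ne_two hp2)) h1
  have hxCP : x ∈ centralizer ((P : Subgroup S) : Set S) := by
    rw [mem_centralizer_iff]
    intro z hz
    exact h.odd_comm hk hS (hPC hz) (hoddP z hz) hx
  have hc'N : c' ∈ normalizer ((P : Subgroup S) : Set S) := by
    have : c' = x⁻¹ * (c * g) := by rw [hxc]; group
    rw [this]
    exact mul_mem (inv_mem (centralizer_le_normalizer _ hxCP)) hg'N
  have hc'C : c' ∉ centralizer ((P : Subgroup S) : Set S) := by
    intro h'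
    apply hg'C
    rw [hxc]
    exact mul_mem hxCP h'
  obtain ⟨v, w, hv, hw, hvw, hwodd⟩ := hk.centralizer_decomp T hc'
  have hwN : w ∈ normalizer ((P : Subgroup S) : Set S) := (zpowers_le.mpr hc'N) hw
  have hwC : w ∉ centralizer ((P : Subgroup S) : Set S) := by
    intro h'
    apply hc'C
    rw [hvw]
    exact mul_mem (hTCP hv) h'
  have hwCT : w ∈ C := (zpowers_le.mpr hc') hw
  have hwr := pow_relIndex_mem_centralizer (P : Subgroup S) hwN
  set r := (centralizer ((P : Subgroup S) : Set S)).relIndex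
    (normalizer ((P : Subgroup S) : Set S)) with hr
  have hPcyc : IsCyclic (P : Subgroup S) := hS.oddSylow p hp2 P
  have hn0 : 0 < n := by
    rcases Nat.eq_zero_or_pos n with h0 | h0
    · exfalso
      rw [h0, pow_zero] at hn
      exact hPbot (Subgroup.card_eq_one.mp hn)
    · exact h0
  have h1 : r ∣ p ^ (n - 1) * (p - 1) := by
    have := SmallOrder.relIndex_centralizer_normalizer_dvd (P : Subgroup S) hPcyc
    rwa [hn, Nat.totient_prime_pow hpp hn0] at this
  have hPle : (P : Subgroup S) ≤ centralizer ((P : Subgroup S) : Set S) := by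
    intro a ha
    rw [mem_centralizer_iff]
    intro b hb
    haveI := hPcyc.isMulCommutative
    exact congrArg Subtype.val (mul_comm' (⟨b, hb⟩ : (P : Subgroup S)) ⟨a, ha⟩)
  have hrp : Nat.Coprime r p := by
    rw [Nat.coprime_comm, Nat.Prime.coprime_iff_not_dvd hpp]
    intro hdvd
    apply P.not_dvd_index
    have h2 : r ∣ (P : Subgroup S).relIndex (normalizer ((P : Subgroup S) : Set S)) :=
      Subgroup.relIndex_dvd_of_le_left _ hPle
    have h3 : (P : Subgroup S).relIndex (normalizer ((P : Subgroup S) : Set S)) ∣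
        (P : Subgroup S).index := Subgroup.relIndex_dvd_index_of_le le_normalizer
    exact hdvd.trans (h2.trans h3)
  have hrp1 : r ∣ p - 1 := Nat.Coprime.dvd_of_dvd_mul_left (Nat.Coprime.pow_right _ hrp) h1
  have hwm : orderOf w ∣ m := by
    have h2 : orderOf w ∣ 4 * m := by rw [← hm]; exact Subgroup.orderOf_dvd_natCard _ hwCT
    have h3 : Nat.Coprime (orderOf w) 4 := by
      have : Nat.Coprime (orderOf w) (2 ^ 2) :=
        Nat.Coprime.pow_right 2 ((Nat.coprime_two_right).mpr hwodd)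
      simpa using this
    exact Nat.Coprime.dvd_of_dvd_mul_left h3 h2
  have hcop : Nat.Coprime r (orderOf w) := by
    by_contra hnc
    obtain ⟨q, hq, hqr, hqw⟩ := Nat.Prime.not_coprime_iff_dvd.mp hnc
    have hq1 : q ∣ p - 1 := hqr.trans hrp1
    have hq2 : q ≤ p - 1 := Nat.le_of_dvd (by have := hpp.two_le; omega) hq1
    have hq3 : p ≤ q := Nat.minFac_le_of_dvd hq.two_le (hqw.trans hwm)
    have := hpp.two_le
    omega
  exact hwC (mem_of_pow_mem_of_coprime_orderOf hcop hwr)

/-- `N(T) = A_T` -/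
theorem A4Data.normalizer_eq {T : Sylow 2 S} {φ : X4 →* S} (h : A4Data T φ) (hk : KHyp S)
    (hS : SHyp S) : normalizer ((T : Subgroup S) : Set S) = φ.range := by
  apply le_antisymm
  · intro g hg
    obtain ⟨x, hx, c, hc, rfl⟩ := h.normalizer_decomp hk hS hg
    rw [hk.centralizer_eq hS T] at hc
    exact mul_mem hx (h.le_range hc)
  · exact h.range_le_normalizer

theorem KHyp.card_normalizer (hk : KHyp S) (hS : SHyp S) (T : Sylow 2 S) :
    Nat.card (normalizer ((T : Subgroup S) : Set S)) = 12 := by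
  obtain ⟨φ, h⟩ := hk.exists_a4 hS T
  rw [h.normalizer_eq hk hS, a4_card φ h.inj]

end finite

end Cfsg.Agent.Helper6.ZasK
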