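import Mathlib
import Cfsg.Agent.Helper6.ZasK4

set_option autoImplicit false

/-!
# Zassenhaus project, Klein case: counting lemmas and the centralizer of an involution
-/

namespace Cfsg.Agent.Helper6.ZasK

open Subgroup Cfsg.Agent.Helper2 Cfsg.Agent.Helper6.Zas Cfsg.Agent.Helper6.ZasAlt
open scoped Pointwise

variable {S : Type*} [Group S]

/-- orbit-stabilizer for the conjugation action of a subgroup -/
theorem card_conj_orbit (H : Subgroup S) (x₀ : S) :
    Nat.card {x : S // ∃ h ∈ H, h * x₀ * h⁻¹ = x} *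
      Nat.card (H ⊓ centralizer ({x₀} : Set S) : Subgroup S) = Nat.card H := by
  let _ : MulAction H S := MulAction.compHom S ((MulAut.conj : S →* MulAut S).comp H.subtype)
  have hsmul : ∀ (h : H) (s : S), h • s = (h : S) * s * (h : S)⁻¹ := fun h s => rfl
  have h1 : Nat.card (MulAction.orbit H x₀) * Nat.card (MulAction.stabilizer H x₀) =
      Nat.card H := by
    rw [← Nat.card_prod]
    exact Nat.card_congr (MulAction.orbitProdStabilizerEquivGroup H x₀)
  have h2 : Nat.card (MulAction.orbit H x₀) =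
      Nat.card {x : S // ∃ h ∈ H, h * x₀ * h⁻¹ = x} := by
    apply Nat.card_congr
    apply Equiv.subtypeEquivRight
    intro x
    constructor
    · rintro ⟨h, rfl⟩
      exact ⟨h.1, h.2, (hsmul h x₀).symm⟩
    · rintro ⟨h, hh, rfl⟩
      exact ⟨⟨h, hh⟩, hsmul ⟨h, hh⟩ x₀⟩
  have h3 : Nat.card (MulAction.stabilizer H x₀) =
      Nat.card (H ⊓ centralizer ({x₀} : Set S) : Subgroup S) := by
    rw [← Subgroup.card_map_of_injective H.subtype_injective]
    congr 2
    ext y
    constructor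
    · rintro ⟨h, hh, rfl⟩
      refine ⟨h.2, ?_⟩
      show (h : S) ∈ centralizer ({x₀} : Set S)
      rw [mem_centralizer_singleton_iff]
      have : h • x₀ = x₀ := hh
      rw [hsmul] at this
      show (h : S) * x₀ = x₀ * (h : S)
      calc (h : S) * x₀ = ((h : S) * x₀ * (h : S)⁻¹) * (h : S) := by group
        _ = x₀ * (h : S) := by rw [this]
    · rintro ⟨hy, hc⟩
      refine ⟨⟨y, hy⟩, ?_, rfl⟩
      have hc : y ∈ centralizer ({x₀} : Set S) := hc
      rw [mem_centralizer_singleton_iff] at hc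
      show (⟨y, hy⟩ : H) • x₀ = x₀
      rw [hsmul]
      show y * x₀ * y⁻¹ = x₀
      rw [hc]; group
  rw [← h2, ← h3, h1]

/-- counting pairs by fibers over a conjugacy class, for a conjugation-invariant relation -/
theorem card_pairs_conj {β : Type*} (c : S → β → β) (hc1 : ∀ g y, c g⁻¹ (c g y) = y)
    (hc2 : ∀ g y, c g (c g⁻¹ y) = y) (x₀ : S) (R : S → β → Prop)
    (hR : ∀ g x y, R x y → R (g * x * g⁻¹) (c g y)) :
    Nat.card {xy : S × β // IsConj x₀ xy.1 ∧ R xy.1 xy.2} =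
      Nat.card {x : S // IsConj x₀ x} * Nat.card {y : β // R x₀ y} := by
  classical
  have hex : ∀ x : {x : S // IsConj x₀ x}, ∃ g : S, g * x₀ * g⁻¹ = x.1 :=
    fun x => isConj_iff.mp x.2
  choose γ hγ using hex
  rw [← Nat.card_prod]
  refine Nat.card_congr
    { toFun := fun xy => (⟨xy.1.1, xy.2.1⟩, ⟨c (γ ⟨xy.1.1, xy.2.1⟩)⁻¹ xy.1.2, ?_⟩)
      invFun := fun xy => ⟨(xy.1.1, c (γ xy.1) xy.2.1), xy.1.2, ?_⟩
      left_inv := ?_
      right_inv := ?_ }
  · have h1 := hR (γ ⟨xy.1.1, xy.2.1⟩)⁻¹ _ _ xy.2.2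
    have h2 : (γ ⟨xy.1.1, xy.2.1⟩)⁻¹ * xy.1.1 * (γ ⟨xy.1.1, xy.2.1⟩)⁻¹⁻¹ = x₀ := by
      have h3 := hγ ⟨xy.1.1, xy.2.1⟩
      simp only at h3
      calc (γ ⟨xy.1.1, xy.2.1⟩)⁻¹ * xy.1.1 * (γ ⟨xy.1.1, xy.2.1⟩)⁻¹⁻¹
          = (γ ⟨xy.1.1, xy.2.1⟩)⁻¹ * (γ ⟨xy.1.1, xy.2.1⟩ * x₀ * (γ ⟨xy.1.1, xy.2.1⟩)⁻¹) *
            (γ ⟨xy.1.1, xy.2.1⟩)⁻¹⁻¹ := by rw [h3]
        _ = x₀ := by group
    rwa [h2] at h1
  · have h1 := hR (γ xy.1) _ _ xy.2.2
    rwa [hγ xy.1] at h1
  · rintro ⟨⟨x, y⟩, hx, hy⟩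
    apply Subtype.ext
    simp only
    rw [hc2]
  · rintro ⟨⟨x, hx⟩, ⟨y, hy⟩⟩
    refine Prod.ext rfl (Subtype.ext ?_)
    exact hc1 _ _

theorem eq_one_of_mul_self_of_odd {r : S} (hr : Odd (orderOf r)) (h : r * r = 1) : r = 1 := by
  have h1 : orderOf r ∣ 2 := orderOf_dvd_of_pow_eq_one (by rw [pow_two]; exact h)
  have h2 : orderOf r = 1 := by
    rcases (Nat.dvd_prime Nat.prime_two).mp h1 with h3 | h3
    · exact h3
    · rw [h3] at hr; exact absurd hr (by decide)
  exact orderOf_eq_one_iff.mp h2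

/-- An involutory automorphism (here: conjugation by `s`) without non-trivial fixed points on a
finite subgroup `U` inverts `U`, and `U` is abelian. -/
theorem inverts_of_fpf (U : Subgroup S) [Finite U] {s : S} (hss : s * s = 1)
    (hn : ∀ w ∈ U, s * w * s⁻¹ ∈ U) (hfpf : ∀ w ∈ U, s * w * s⁻¹ = w → w = 1) :
    (∀ w ∈ U, s * w * s⁻¹ = w⁻¹) ∧ ∀ w ∈ U, ∀ w' ∈ U, w * w' = w' * w := by
  have hsinv : s⁻¹ = s := inv_eq_of_mul_eq_one_left hss
  let θ : U → U := fun w => ⟨(w : S)⁻¹ * (s * w * s⁻¹), mul_mem (inv_mem w.2) (hn w w.2)⟩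
  have hinj : Function.Injective θ := by
    intro w w' h
    have h1 : (w : S)⁻¹ * (s * w * s⁻¹) = (w' : S)⁻¹ * (s * w' * s⁻¹) := congrArg Subtype.val h
    have h2 : s * ((w' : S) * (w : S)⁻¹) * s⁻¹ = (w' : S) * (w : S)⁻¹ := by
      calc s * ((w' : S) * (w : S)⁻¹) * s⁻¹
          = (w' : S) * ((w' : S)⁻¹ * (s * w' * s⁻¹)) * ((w : S)⁻¹ * (s * w * s⁻¹))⁻¹ * (w : S)⁻¹ := by
            group
        _ = (w' : S) * (w : S)⁻¹ := by rw [h1]; group
    have h3 := hfpf _ (mul_mem w'.2 (inv_mem w.2)) h2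
    apply Subtype.ext
    calc (w : S) = ((w' : S) * (w : S)⁻¹)⁻¹ * w' := by group
      _ = w' := by rw [h3]; group
  have hsurj : Function.Surjective θ := Finite.injective_iff_surjective.mp hinj
  have hinv : ∀ w ∈ U, s * w * s⁻¹ = w⁻¹ := by
    intro x hx
    obtain ⟨w, hw⟩ := hsurj ⟨x, hx⟩
    have hw' : (w : S)⁻¹ * (s * w * s⁻¹) = x := congrArg Subtype.val hw
    rw [← hw']
    calc s * ((w : S)⁻¹ * (s * w * s⁻¹)) * s⁻¹
        = (s * (w : S)⁻¹ * s⁻¹) * (s * s) * w * (s * s)⁻¹ := by group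
      _ = (s * (w : S)⁻¹ * s⁻¹) * w := by rw [hss]; group
      _ = ((w : S)⁻¹ * (s * w * s⁻¹))⁻¹ := by group
  refine ⟨hinv, ?_⟩
  intro w hw w' hw'
  have h1 := hinv _ (mul_mem hw hw')
  have h2 : s * (w * w') * s⁻¹ = (s * w * s⁻¹) * (s * w' * s⁻¹) := by group
  rw [h2, hinv w hw, hinv w' hw'] at h1
  calc w * w' = ((w * w')⁻¹)⁻¹ := by group
    _ = (w⁻¹ * w'⁻¹)⁻¹ := by rw [h1]
    _ = w' * w := by group

section finite

variable [Finite S] [IsSimpleGroup S]

/-- an element of `N(T)` commuting with an involution of `T` lies in `T` -/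
theorem KHyp.mem_of_fix (hk : KHyp S) (hS : SHyp S) (T : Sylow 2 S) {t : S}
    (ht : t ∈ (T : Subgroup S)) (ht1 : t ≠ 1) {x : S}
    (hx : x ∈ normalizer ((T : Subgroup S) : Set S)) (hxt : x * t = t * x) :
    x ∈ (T : Subgroup S) := by
  rw [← hk.centralizer_eq hS T]
  by_contra hxc
  apply hk.conj_ne T hx hxc ht ht1
  rw [hxt]; group

/-- the normal 2-complement of the centralizer of an involution -/
theorem KHyp.exists_complement (hk : KHyp S) (hS : SHyp S) (T : Sylow 2 S) {t : S}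
    (ht : t ∈ (T : Subgroup S)) (ht1 : t ≠ 1) :
    ∃ U : Subgroup S, U ≤ centralizer ({t} : Set S) ∧
      4 * Nat.card U = Nat.card (centralizer ({t} : Set S)) ∧
      (∀ w ∈ centralizer ({t} : Set S), Odd (orderOf w) → w ∈ U) ∧
      (∀ w ∈ U, Odd (orderOf w)) ∧ (∀ w ∈ U, ∀ w' ∈ U, w * w' = w' * w) := by
  haveI : Fact (Nat.Prime 2) := ⟨Nat.prime_two⟩
  have hK := hk.klein T
  set H := centralizer ({t} : Set S) with hH
  have hTH : (T : Subgroup S) ≤ H := by
    intro v hv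
    rw [hH, mem_centralizer_singleton_iff]
    exact klein_comm _ hK hv ht
  set T' : Sylow 2 H := T.subtype hTH with hT'
  have hT'mem : ∀ x : H, x ∈ (T' : Subgroup H) ↔ (x : S) ∈ (T : Subgroup S) := by
    intro x
    rw [hT', Sylow.coe_subtype]
    exact mem_subgroupOf
  have hNC : normalizer ((T' : Subgroup H) : Set H) ≤ centralizer ((T' : Subgroup H) : Set H) := by
    intro x hx
    have hxN : (x : S) ∈ normalizer ((T : Subgroup S) : Set S) := by
      apply mem_normalizer_fintype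
      intro v hv
      have hv' : (⟨v, hTH hv⟩ : H) ∈ (T' : Subgroup H) := (hT'mem _).mpr hv
      have := conj_mem_of_mem_normalizer hx hv'
      rw [hT'mem] at this
      show (x : S) * v * (x : S)⁻¹ ∈ (T : Subgroup S)
      simpa using this
    have hxt : (x : S) * t = t * (x : S) := by
      have : (x : S) ∈ centralizer ({t} : Set S) := x.2
      rw [mem_centralizer_singleton_iff] at this
      exact this
    have hxT : (x : S) ∈ (T : Subgroup S) := hk.mem_of_fix hS T ht ht1 hxN hxt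
    rw [mem_centralizer_iff]
    intro y hy
    apply Subtype.ext
    have hy' : y ∈ (T' : Subgroup H) := hy
    rw [hT'mem] at hy'
    simp only [Subgroup.coe_mul]
    exact klein_comm _ hK hy' hxT
  set f := MonoidHom.transferSylow T' hNC with hf
  have hcomp := MonoidHom.ker_transferSylow_isComplement' T' hNC
  have hcard := hcomp.card_mul_card
  have hT'card : Nat.card (T' : Subgroup H) = 4 := by
    rw [hT', Sylow.coe_subtype, ← hk.card_sylow T]
    exact Nat.card_congr (Subgroup.subgroupOfEquivOfLe hTH).toEquiv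
  rw [hT'card] at hcard
  have hUcard : Nat.card (f.ker.map H.subtype) = Nat.card f.ker :=
    Subgroup.card_map_of_injective H.subtype_injective
  have hH8 : ¬ 8 ∣ Nat.card H := fun h' => hk.h8 (h'.trans (Subgroup.card_subgroup_dvd_card H))
  have hodd : Odd (Nat.card f.ker) := by
    by_contra hne
    rw [Nat.not_odd_iff_even] at hne
    obtain ⟨j, hj⟩ := hne
    apply hH8
    rw [← hcard, hj]
    exact ⟨j, by ring⟩
  have hUodd : ∀ w ∈ f.ker.map H.subtype, Odd (orderOf w) := by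
    intro w hw
    apply Odd.of_dvd_nat hodd
    rw [← hUcard]
    exact Subgroup.orderOf_dvd_natCard _ hw
  have hUle : f.ker.map H.subtype ≤ H := by
    rintro _ ⟨x, -, rfl⟩
    exact x.2
  have hUn : ∀ s ∈ H, ∀ w ∈ f.ker.map H.subtype, s * w * s⁻¹ ∈ f.ker.map H.subtype := by
    rintro s hs _ ⟨x, hx, rfl⟩
    refine ⟨⟨s, hs⟩ * x * ⟨s, hs⟩⁻¹, ?_, by simp⟩
    exact (MonoidHom.normal_ker f).conj_mem x hx ⟨s, hs⟩
  refine ⟨f.ker.map H.subtype, hUle, ?_, ?_, hUodd, ?_⟩
  · rw [hUcard, ← hcard, mul_comm]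
  · intro w hw hwodd
    refine ⟨⟨w, hw⟩, ?_, rfl⟩
    show (⟨w, hw⟩ : H) ∈ f.ker
    rw [MonoidHom.mem_ker]
    have h1 : orderOf (f ⟨w, hw⟩) ∣ orderOf w := by
      have h0 : orderOf (⟨w, hw⟩ : H) = orderOf w := Subgroup.orderOf_mk w hw
      rw [← h0]
      exact orderOf_map_dvd f _
    have h2 : orderOf (f ⟨w, hw⟩) ∣ 4 := by
      rw [← hT'card]; exact orderOf_dvd_natCard _
    have h3 : Nat.Coprime (orderOf w) 4 := by
      have : Nat.Coprime (orderOf w) (2 ^ 2) :=
        Nat.Coprime.pow_right 2 ((Nat.coprime_two_right).mpr hwodd)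
      simpa using this
    have h4 : orderOf (f ⟨w, hw⟩) = 1 :=
      Nat.eq_one_of_dvd_coprimes h3 h1 h2
    exact orderOf_eq_one_iff.mp h4
  · -- commutativity via a fixed-point-free involution
    obtain ⟨x, y, hx, hy, hx1, hy1, hxy⟩ := klein_elements _ hK
    obtain ⟨s, hs, hs1, hst⟩ : ∃ s ∈ (T : Subgroup S), s ≠ 1 ∧ t ≠ s := by
      by_cases hxt : t = x
      · exact ⟨y, hy, hy1, by rw [hxt]; exact hxy⟩
      · exact ⟨x, hx, hx1, hxt⟩
    have hss : s * s = 1 := klein_mul_self _ hK hs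
    have hfpf : ∀ w ∈ f.ker.map H.subtype, s * w * s⁻¹ = w → w = 1 := by
      intro w hw hfix
      have hwH : w ∈ H := hUle hw
      have hwt : w * t = t * w := by
        rw [hH, mem_centralizer_singleton_iff] at hwH
        exact hwH
      have hws : w * s = s * w := by
        calc w * s = (s * w * s⁻¹) * s := by rw [hfix]
          _ = s * w := by group
      have hwC : w ∈ centralizer ((T : Subgroup S) : Set S) := by
        rw [mem_centralizer_iff]
        intro z hz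
        rcases klein_mem_cases _ hK ht hs ht1 hs1 hst hz with h | h | h | h
        · rw [h]; simp
        · rw [h]; exact hwt.symm
        · rw [h]; exact hws.symm
        · rw [h]
          calc t * s * w = t * (s * w) := by group
            _ = t * (w * s) := by rw [hws]
            _ = (t * w) * s := by group
            _ = (w * t) * s := by rw [hwt]
            _ = w * (t * s) := by group
      rw [hk.centralizer_eq hS T] at hwC
      exact eq_one_of_mul_self_of_odd (hUodd w hw) (klein_mul_self _ hK hwC)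
    exact (inverts_of_fpf _ hss (hUn s (hTH hs)) hfpf).2

end finite

end Cfsg.Agent.Helper6.ZasK
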