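import Mathlib
import Cfsg.Agent.Helper6.ZasK5

set_option autoImplicit false

/-!
# Zassenhaus project, Klein case: elements of order 3 and involutions
-/

namespace Cfsg.Agent.Helper6.ZasK

open Subgroup Cfsg.Agent.Helper2 Cfsg.Agent.Helper6.Zas Cfsg.Agent.Helper6.ZasAlt
open scoped Pointwise

variable {S : Type*} [Group S]

/-- a subgroup of index 2 is normal, elementwise -/
theorem conj_mem_of_card_eq_two_mul [Finite S] {H L : Subgroup S} (hHL : H ≤ L)
    (hcard : Nat.card L = 2 * Nat.card H) {s x : S} (hs : s ∈ L) (hx : x ∈ H) :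
    s * x * s⁻¹ ∈ H := by
  have h1 : Nat.card (H.subgroupOf L) = Nat.card H :=
    Nat.card_congr (Subgroup.subgroupOfEquivOfLe hHL).toEquiv
  have h2 := (H.subgroupOf L).card_mul_index
  rw [h1, hcard] at h2
  have hpos : 0 < Nat.card H := Nat.card_pos
  have h3 : (H.subgroupOf L).index = 2 := by
    have : Nat.card H * (H.subgroupOf L).index = Nat.card H * 2 := by rw [h2]; ring
    exact Nat.eq_of_mul_eq_mul_left hpos this
  haveI := Subgroup.normal_of_index_eq_two h3
  have h4 := (inferInstance : (H.subgroupOf L).Normal).conj_mem ⟨x, hHL hx⟩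
    (by rw [mem_subgroupOf]; exact hx) ⟨s, hs⟩
  rw [mem_subgroupOf] at h4
  simpa using h4

/-- an element conjugating the two generators into the closure normalizes the closure -/
theorem mem_normalizer_closure_pair [Finite S] {x y g : S}
    (hx : g * x * g⁻¹ ∈ closure ({x, y} : Set S)) (hy : g * y * g⁻¹ ∈ closure ({x, y} : Set S)) :
    g ∈ normalizer ((closure ({x, y} : Set S) : Subgroup S) : Set S) := by
  apply mem_normalizer_fintype
  intro n hn
  have hn' : n ∈ closure ({x, y} : Set S) := hn
  show g * n * g⁻¹ ∈ closure ({x, y} : Set S)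
  induction hn' using closure_induction with
  | mem z hz =>
    rcases hz with rfl | rfl
    · exact hx
    · exact hy
  | one => simp
  | mul a b _ _ ha hb =>
    have : g * (a * b) * g⁻¹ = (g * a * g⁻¹) * (g * b * g⁻¹) := by group
    rw [this]; exact mul_mem (ha (by assumption)) (hb (by assumption))
  | inv a _ ha =>
    have : g * a⁻¹ * g⁻¹ = (g * a * g⁻¹)⁻¹ := by group
    rw [this]; exact inv_mem (ha (by assumption))

theorem orderOf_conj (g x : S) : orderOf (g * x * g⁻¹) = orderOf x :=
  (SemiconjBy.orderOf_eq g (x := x) (y := g * x * g⁻¹) (by unfold SemiconjBy; group)).symm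

theorem inv_ne_self_of_order_three {a : S} (ha3 : orderOf a = 3) : a⁻¹ ≠ a := by
  intro h
  have h1 : a * a = 1 := by
    calc a * a = a⁻¹ * a := by rw [h]
      _ = 1 := by group
  have : orderOf a ∣ 2 := orderOf_dvd_of_pow_eq_one (by rw [pow_two]; exact h1)
  rw [ha3] at this
  omega

theorem ne_one_of_order_three {a : S} (ha3 : orderOf a = 3) : a ≠ 1 := by
  rintro rfl
  rw [orderOf_one] at ha3
  omega

theorem mul_self_of_order_two {t : S} (ht2 : orderOf t = 2) : t * t = 1 := by
  rw [← pow_two, ← ht2, pow_orderOf_eq_one]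

theorem ne_one_of_order_two {t : S} (ht2 : orderOf t = 2) : t ≠ 1 := by
  rintro rfl
  rw [orderOf_one] at ht2
  omega

theorem inv_eq_self_of_order_two {t : S} (ht2 : orderOf t = 2) : t⁻¹ = t :=
  inv_eq_of_mul_eq_one_left (mul_self_of_order_two ht2)

/-- an element of the cyclic group generated by an element of order 3 -/
theorem eq_or_eq_inv_of_mem_zpowers {a y : S} (ha3 : orderOf a = 3) (hy : y ∈ zpowers a)
    (hy1 : y ≠ 1) : y = a ∨ y = a⁻¹ := by
  have h3 : a ^ 3 = 1 := by rw [← ha3, pow_orderOf_eq_one]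
  rcases (mem_zpowers_order_three h3).mp hy with h | h | h
  · exact absurd h hy1
  · exact Or.inl h
  · exact Or.inr h

section finite

variable [Finite S] [IsSimpleGroup S]

/-- (D3''): no involution commutes with an element of order 3 -/
theorem KHyp.not_comm_three (hk : KHyp S) (hS : SHyp S) {t a : S} (ht2 : orderOf t = 2)
    (ha3 : orderOf a = 3) : t * a ≠ a * t := by
  intro hta
  have htt := mul_self_of_order_two ht2
  have ht1 := ne_one_of_order_two ht2
  have ha1 := ne_one_of_order_three ha3
  obtain ⟨T, hT⟩ := exists_sylow_mem htt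
  have hK := hk.klein T
  -- step (i): the other involutions of `T` invert `a`
  have step1 : ∀ s ∈ (T : Subgroup S), s ≠ 1 → s ≠ t → s * a * s⁻¹ = a⁻¹ := by
    intro s hs hs1 hst
    have hss : s * s = 1 := klein_mul_self _ hK hs
    have hs2 : orderOf s = 2 := orderOf_eq_prime (by rw [pow_two]; exact hss) hs1
    have hts : t * s = s * t := klein_comm _ hK hT hs
    have hsL : s ∈ closure ({s, a} : Set S) := subset_closure (by simp)
    have haL : a ∈ closure ({s, a} : Set S) := subset_closure (by simp)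
    -- `t` centralizes the closure
    have htc : closure ({s, a} : Set S) ≤ centralizer ({t} : Set S) := by
      rw [closure_le]
      rintro z (rfl | rfl)
      · show z ∈ centralizer ({t} : Set S)
        rw [mem_centralizer_singleton_iff]; exact hts.symm
      · show z ∈ centralizer ({t} : Set S)
        rw [mem_centralizer_singleton_iff]; exact hta.symm
    have htn : t ∈ normalizer ((closure ({s, a} : Set S) : Subgroup S) : Set S) := by
      apply mem_normalizer_closure_pair
      · have : t * s * t⁻¹ = s := by rw [hts]; group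
        rw [this]; exact hsL
      · have : t * a * t⁻¹ = a := by rw [hta]; group
        rw [this]; exact haL
    rcases hS.hF2 s a hs2 ha3 with h | ⟨⟨e⟩⟩ | ⟨⟨e⟩⟩ | ⟨⟨e⟩⟩
    · -- order 6
      have hle : zpowers a ≤ closure ({s, a} : Set S) := by rw [zpowers_le]; exact haL
      have hc : Nat.card (closure ({s, a} : Set S)) = 2 * Nat.card (zpowers a) := by
        rw [h, Nat.card_zpowers, ha3]
      have h1 := conj_mem_of_card_eq_two_mul hle hc hsL (mem_zpowers a)
      have h2 : s * a * s⁻¹ ≠ 1 := by
        intro h'; apply ha1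
        calc a = s⁻¹ * (s * a * s⁻¹) * s := by group
          _ = 1 := by rw [h']; group
      rcases eq_or_eq_inv_of_mem_zpowers ha3 h1 h2 with h3 | h3
      · exfalso
        apply hk.no_three_centralizer hS T ha3
        rw [mem_centralizer_iff]
        intro z hz
        have hsa : s * a = a * s := by
          calc s * a = (s * a * s⁻¹) * s := by group
            _ = a * s := by rw [h3]
        rcases klein_mem_cases _ hK hT hs ht1 hs1 (Ne.symm hst) hz with h' | h' | h' | h'
        · rw [h']; simp
        · rw [h']; exact hta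
        · rw [h']; exact hsa
        · rw [h']
          calc t * s * a = t * (s * a) := by group
            _ = t * (a * s) := by rw [hsa]
            _ = (t * a) * s := by group
            _ = (a * t) * s := by rw [hta]
            _ = a * (t * s) := by group
      · exact h3
    · exfalso
      obtain ⟨φ, hφ, hr⟩ := exists_hom_of_iso e
      have htL : t ∈ closure ({s, a} : Set S) :=
        hk.mem_of_normalizes _ (by rw [← hr, a4_card φ hφ]; norm_num) htt htn
      rw [← hr] at htL haL
      have htV : t ∈ a4V φ := a4V_mem_of_sq φ hφ htL (by rw [pow_two]; exact htt)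
      apply a4_act φ hφ haL ha3 htV ht1
      rw [← hta]; group
    · exfalso
      apply hk.h8
      have hc : Nat.card (closure ({s, a} : Set S)) = 24 := by
        rw [Nat.card_congr e.toEquiv, Nat.card_perm, Nat.card_fin]; rfl
      have := Subgroup.card_subgroup_dvd_card (closure ({s, a} : Set S))
      rw [hc] at this
      exact (by norm_num : 8 ∣ 24).trans this
    · exfalso
      obtain ⟨ψ, hψ, hr⟩ := exists_hom_of_iso e
      have htL : t ∈ closure ({s, a} : Set S) :=
        hk.mem_of_normalizes _ (by rw [← hr, a5_card ψ hψ]; norm_num) htt htn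
      rw [← hr] at htL haL
      exact a5_nocent ψ hψ htL haL ht2 ha3 hta
  -- step (ii)
  obtain ⟨b, hb3, hbn, hbc⟩ := hk.good_all hS T
  have hbin : b⁻¹ ∈ normalizer ((T : Subgroup S) : Set S) := inv_mem hbn
  have hbic : b⁻¹ ∉ centralizer ((T : Subgroup S) : Set S) := fun h => hbc (by simpa using inv_mem h)
  set s := b⁻¹ * t * b with hs
  have hsT : s ∈ (T : Subgroup S) := conj_inv_mem_of_mem_normalizer hbn hT
  have hs1 : s ≠ 1 := by
    intro h'; apply ht1
    calc t = b * (b⁻¹ * t * b) * b⁻¹ := by group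
      _ = 1 := by rw [← hs, h']; group
  have hst : s ≠ t := by
    have := hk.conj_ne T hbin hbic hT ht1
    intro h'
    apply this
    rw [inv_inv, ← hs, h']
  have hsa := step1 s hsT hs1 hst
  set a' := b * a * b⁻¹ with ha'
  have ha'3 : orderOf a' = 3 := by rw [ha', orderOf_conj, ha3]
  have hta' : t * a' * t⁻¹ = a'⁻¹ := by
    have h1 : t = b * s * b⁻¹ := by rw [hs]; group
    calc t * a' * t⁻¹ = b * (s * a * s⁻¹) * b⁻¹ := by rw [h1, ha']; group
      _ = a'⁻¹ := by rw [hsa, ha']; group
  have haL : a ∈ closure ({a, a'} : Set S) := subset_closure (by simp)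
  have ha'L : a' ∈ closure ({a, a'} : Set S) := subset_closure (by simp)
  have htn : t ∈ normalizer ((closure ({a, a'} : Set S) : Subgroup S) : Set S) := by
    apply mem_normalizer_closure_pair
    · have : t * a * t⁻¹ = a := by rw [hta]; group
      rw [this]; exact haL
    · rw [hta']; exact inv_mem ha'L
  rcases hS.hF1 a a' ha3 ha'3 with h | ⟨⟨e⟩⟩ | ⟨⟨e⟩⟩
  · have hle : zpowers a ≤ closure ({a, a'} : Set S) := by rw [zpowers_le]; exact haL
    have heq : zpowers a = closure ({a, a'} : Set S) := by
      apply Subgroup.eq_of_le_of_card_ge hle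
      rw [h, Nat.card_zpowers, ha3]
    rw [← heq] at ha'L
    have ha'1 := ne_one_of_order_three ha'3
    have hcomm : t * a' * t⁻¹ = a' := by
      rcases eq_or_eq_inv_of_mem_zpowers ha3 ha'L ha'1 with h' | h'
      · rw [h', hta]; group
      · rw [h']
        calc t * a⁻¹ * t⁻¹ = (t * a * t⁻¹)⁻¹ := by group
          _ = a⁻¹ := by rw [hta]; group
    rw [hta'] at hcomm
    exact inv_ne_self_of_order_three ha'3 hcomm
  · obtain ⟨φ, hφ, hr⟩ := exists_hom_of_iso e
    have htL : t ∈ closure ({a, a'} : Set S) :=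
      hk.mem_of_normalizes _ (by rw [← hr, a4_card φ hφ]; norm_num) htt htn
    rw [← hr] at htL haL
    have htV : t ∈ a4V φ := a4V_mem_of_sq φ hφ htL (by rw [pow_two]; exact htt)
    apply a4_act φ hφ haL ha3 htV ht1
    rw [← hta]; group
  · obtain ⟨ψ, hψ, hr⟩ := exists_hom_of_iso e
    have htL : t ∈ closure ({a, a'} : Set S) :=
      hk.mem_of_normalizes _ (by rw [← hr, a5_card ψ hψ]; norm_num) htt htn
    rw [← hr] at htL haL
    exact a5_nocent ψ hψ htL haL ht2 ha3 hta

/-- elements commuting with an element of order 3 have odd order -/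
theorem KHyp.odd_of_comm_three (hk : KHyp S) (hS : SHyp S) {a y : S} (ha3 : orderOf a = 3)
    (hya : y * a = a * y) : Odd (orderOf y) := by
  by_contra hne
  rw [Nat.not_odd_iff_even] at hne
  obtain ⟨m, hm⟩ := hne
  have hpos : 0 < orderOf y := orderOf_pos y
  have hm0 : 0 < m := by omega
  have hord : orderOf (y ^ m) = 2 := by
    rw [orderOf_pow' y (by omega : m ≠ 0), hm, Nat.gcd_eq_right (Dvd.intro_left 2 (by ring) : m ∣ m + m)]
    have : m + m = 2 * m := by ring
    rw [this, Nat.mul_div_cancel _ hm0]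
  apply hk.not_comm_three hS hord ha3
  exact (Commute.pow_left (show Commute y a from hya) m)

omit [Finite S] [IsSimpleGroup S] in
/-- an involution inverting an element `y` of odd order is conjugate to `y * u` under a power of
`y` -/
theorem exists_zpowers_conj_eq_mul {u y : S} (hu : u * u = 1) (hy : Odd (orderOf y))
    (h : u * y * u⁻¹ = y⁻¹) : ∃ g ∈ zpowers y, g * u * g⁻¹ = y * u := by
  obtain ⟨j, hj⟩ := hy
  refine ⟨y ^ (j + 1), pow_mem (mem_zpowers y) _, ?_⟩
  have huinv : u⁻¹ = u := inv_eq_of_mul_eq_one_left hu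
  have h1 : u * (y ^ (j + 1))⁻¹ * u⁻¹ = y ^ (j + 1) := by
    have : u * (y ^ (j + 1))⁻¹ * u⁻¹ = ((u * y * u⁻¹) ^ (j + 1))⁻¹ := by
      rw [conj_pow]; group
    rw [this, h, inv_pow, inv_inv]
  have h2 : y ^ (j + 1) * y ^ (j + 1) = y := by
    rw [← pow_add]
    have : j + 1 + (j + 1) = orderOf y + 1 := by omega
    rw [this, pow_succ, pow_orderOf_eq_one, one_mul]
  calc y ^ (j + 1) * u * (y ^ (j + 1))⁻¹
      = y ^ (j + 1) * (u * (y ^ (j + 1))⁻¹ * u⁻¹) * u := by group
    _ = y ^ (j + 1) * y ^ (j + 1) * u := by rw [h1]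
    _ = y * u := by rw [h2]

/-- (D3'): every element of order 3 is inverted by an involution -/
theorem KHyp.exists_inverting (hk : KHyp S) (hS : SHyp S) {a : S} (ha3 : orderOf a = 3) :
    ∃ t : S, orderOf t = 2 ∧ t * a * t⁻¹ = a⁻¹ := by
  haveI : Fact (Nat.Prime 3) := ⟨Nat.prime_three⟩
  have ha1 := ne_one_of_order_three ha3
  have hpa : IsPGroup 3 (zpowers a) :=
    IsPGroup.of_card (n := 1) (by rw [Nat.card_zpowers, ha3, pow_one])
  obtain ⟨P, hP⟩ := hpa.exists_le_sylow
  have haP : a ∈ (P : Subgroup S) := hP (mem_zpowers a)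
  have hPbot : (P : Subgroup S) ≠ ⊥ := by
    intro hb
    rw [hb, mem_bot] at haP
    exact ha1 haP
  have hPcyc : IsCyclic (P : Subgroup S) := hS.oddSylow 3 (by norm_num) P
  have hB := burnside_simple hk.hna P hPbot
  rw [SetLike.not_le_iff_exists] at hB
  obtain ⟨g, hgN, hgC⟩ := hB
  -- `g ^ 2` centralizes `P`
  obtain ⟨n, hn⟩ := IsPGroup.iff_card.mp P.isPGroup'
  have hn0 : 0 < n := by
    rcases Nat.eq_zero_or_pos n with h0 | h0
    · exfalso
      rw [h0, pow_zero] at hn
      exact hPbot (Subgroup.card_eq_one.mp hn)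
    · exact h0
  have hr := pow_relIndex_mem_centralizer (P : Subgroup S) hgN
  set r := (centralizer ((P : Subgroup S) : Set S)).relIndex
    (normalizer ((P : Subgroup S) : Set S)) with hrdef
  have h1 : r ∣ 3 ^ (n - 1) * (3 - 1) := by
    have := SmallOrder.relIndex_centralizer_normalizer_dvd (P : Subgroup S) hPcyc
    rwa [hn, Nat.totient_prime_pow Nat.prime_three hn0] at this
  have hPle : (P : Subgroup S) ≤ centralizer ((P : Subgroup S) : Set S) := by
    intro x hx
    rw [mem_centralizer_iff]
    intro y hy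
    haveI := hPcyc.isMulCommutative
    exact congrArg Subtype.val (mul_comm' (⟨y, hy⟩ : (P : Subgroup S)) ⟨x, hx⟩)
  have hr3 : Nat.Coprime r 3 := by
    rw [Nat.coprime_comm, Nat.Prime.coprime_iff_not_dvd Nat.prime_three]
    intro hdvd
    apply P.not_dvd_index
    have h2 : r ∣ (P : Subgroup S).relIndex (normalizer ((P : Subgroup S) : Set S)) :=
      Subgroup.relIndex_dvd_of_le_left _ hPle
    have h3 : (P : Subgroup S).relIndex (normalizer ((P : Subgroup S) : Set S)) ∣
        (P : Subgroup S).index := Subgroup.relIndex_dvd_index_of_le le_normalizer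
    exact hdvd.trans (h2.trans h3)
  have hr2 : r ∣ 2 := Nat.Coprime.dvd_of_dvd_mul_left (Nat.Coprime.pow_right _ hr3) h1
  have hg2 : g ^ 2 ∈ centralizer ((P : Subgroup S) : Set S) := by
    obtain ⟨k, hk'⟩ := hr2
    rw [hk', pow_mul]
    exact pow_mem hr k
  obtain ⟨v, w, hv, hw, hvw, ⟨k, hk2⟩, hwodd⟩ := exists_two_odd_decomp g
  have hwC : w ∈ centralizer ((P : Subgroup S) : Set S) := by
    apply mem_of_pow_mem_of_coprime_orderOf (m := 2) ((Nat.coprime_two_left).mpr hwodd)
    obtain ⟨i, rfl⟩ := mem_zpowers_iff.mp hw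
    rw [← zpow_natCast, ← zpow_mul, mul_comm, zpow_mul, zpow_natCast]
    exact zpow_mem hg2 i
  have hv1 : v ≠ 1 := by
    rintro rfl
    apply hgC
    rw [hvw, one_mul]
    exact hwC
  have hvv : v * v = 1 := hk.sq_eq_one_of_two_pow hk2
  have hv2 : orderOf v = 2 := orderOf_eq_prime (by rw [pow_two]; exact hvv) hv1
  have hvN : v ∈ normalizer ((P : Subgroup S) : Set S) := (zpowers_le.mpr hgN) hv
  refine ⟨v, hv2, ?_⟩
  have hvaP : v * a * v⁻¹ ∈ (P : Subgroup S) := conj_mem_of_mem_normalizer hvN haP
  have hmem : v * a * v⁻¹ ∈ zpowers a := by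
    have hord1 : orderOf (⟨a, haP⟩ : (P : Subgroup S)) = 3 := by rw [Subgroup.orderOf_mk, ha3]
    have hord2 : orderOf (⟨v * a * v⁻¹, hvaP⟩ : (P : Subgroup S)) = 3 := by
      rw [Subgroup.orderOf_mk, orderOf_conj, ha3]
    have := mem_zpowers_of_orderOf_eq_prime Nat.prime_three hord1 hord2
    obtain ⟨i, hi⟩ := mem_zpowers_iff.mp this
    rw [mem_zpowers_iff]
    refine ⟨i, ?_⟩
    have := congrArg (fun x : (P : Subgroup S) => (x : S)) hi
    simpa using this
  have hne1 : v * a * v⁻¹ ≠ 1 := by
    intro h'; apply ha1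
    calc a = v⁻¹ * (v * a * v⁻¹) * v := by group
      _ = 1 := by rw [h']; group
  rcases eq_or_eq_inv_of_mem_zpowers ha3 hmem hne1 with h | h
  · exfalso
    apply hk.not_comm_three hS hv2 ha3
    calc v * a = (v * a * v⁻¹) * v := by group
      _ = a * v := by rw [h]
  · exact h

/-- all elements of order 3 are conjugate -/
theorem KHyp.three_conj (hk : KHyp S) (hS : SHyp S) {a b : S} (ha3 : orderOf a = 3)
    (hb3 : orderOf b = 3) : IsConj a b := by
  haveI : Fact (Nat.Prime 3) := ⟨Nat.prime_three⟩
  obtain ⟨g, -, hg⟩ := exists_conj_mem_zpowers (p := 3)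
    (fun P => hS.oddSylow 3 (by norm_num) P) ⊤ (mem_top a) (mem_top b) ha3 hb3
  have hne1 : g * a * g⁻¹ ≠ 1 := by
    have := ne_one_of_order_three ha3
    intro h'; apply this
    calc a = g⁻¹ * (g * a * g⁻¹) * g := by group
      _ = 1 := by rw [h']; group
  rcases eq_or_eq_inv_of_mem_zpowers hb3 hg hne1 with h | h
  · exact isConj_iff.mpr ⟨g, h⟩
  · obtain ⟨t, ht2, htb⟩ := hk.exists_inverting hS hb3
    refine isConj_iff.mpr ⟨t * g, ?_⟩
    calc t * g * a * (t * g)⁻¹ = t * (g * a * g⁻¹) * t⁻¹ := by group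
      _ = t * b⁻¹ * t⁻¹ := by rw [h]
      _ = (t * b * t⁻¹)⁻¹ := by group
      _ = b := by rw [htb, inv_inv]

/-- the involutions inverting `a` are conjugate under `C(a)` -/
theorem KHyp.inverting_conj (hk : KHyp S) (hS : SHyp S) {a t t' : S} (ha3 : orderOf a = 3)
    (ht2 : orderOf t = 2) (ht'2 : orderOf t' = 2) (hta : t * a * t⁻¹ = a⁻¹)
    (ht'a : t' * a * t'⁻¹ = a⁻¹) : ∃ h : S, h * a = a * h ∧ h * t' * h⁻¹ = t := by
  have htt := mul_self_of_order_two ht2
  have ht't' := mul_self_of_order_two ht'2
  have hti := inv_eq_self_of_order_two ht2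
  have ht'i := inv_eq_self_of_order_two ht'2
  have hya : (t * t') * a = a * (t * t') := by
    have h1 : t' * a = a⁻¹ * t' := by
      calc t' * a = (t' * a * t'⁻¹) * t' := by group
        _ = a⁻¹ * t' := by rw [ht'a]
    have h2 : t * a⁻¹ = a * t := by
      calc t * a⁻¹ = (t * a * t⁻¹)⁻¹ * t := by group
        _ = a * t := by rw [hta, inv_inv]
    calc (t * t') * a = t * (t' * a) := by group
      _ = t * (a⁻¹ * t') := by rw [h1]
      _ = (t * a⁻¹) * t' := by group
      _ = (a * t) * t' := by rw [h2]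
      _ = a * (t * t') := by group
  have hodd := hk.odd_of_comm_three hS ha3 hya
  have hinv : t' * (t * t') * t'⁻¹ = (t * t')⁻¹ := by
    rw [ht'i]
    calc t' * (t * t') * t' = t' * t * (t' * t') := by group
      _ = t' * t := by rw [ht't', mul_one]
      _ = t'⁻¹ * t⁻¹ := by rw [hti, ht'i]
      _ = (t * t')⁻¹ := by group
  obtain ⟨g, hg, hgc⟩ := exists_zpowers_conj_eq_mul ht't' hodd hinv
  refine ⟨g, ?_, ?_⟩
  · obtain ⟨i, rfl⟩ := mem_zpowers_iff.mp hg
    exact (Commute.zpow_left (show Commute (t * t') a from hya) i)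
  · rw [hgc]
    calc t * t' * t' = t * (t' * t') := by group
      _ = t := by rw [ht't', mul_one]

omit [IsSimpleGroup S] in
/-- commuting elements of order 3 generate the same subgroup (cyclic Sylow 3-subgroups) -/
theorem comm_three_mem_zpowers (hS : SHyp S) {a y : S} (ha3 : orderOf a = 3) (hy3 : orderOf y = 3)
    (hya : y * a = a * y) : y ∈ zpowers a := by
  haveI : Fact (Nat.Prime 3) := ⟨Nat.prime_three⟩
  have hyH : y ∈ centralizer (zpowers a : Set S) := mem_centralizer_zpowers_iff.mpr hya.symm
  have haH : a ∈ centralizer (zpowers a : Set S) := mem_centralizer_zpowers_iff.mpr rfl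
  obtain ⟨g, hg, hgz⟩ := exists_conj_mem_zpowers (p := 3)
    (fun Q => hS.oddSylow 3 (by norm_num) Q) (centralizer (zpowers a : Set S)) hyH haH hy3 ha3
  rw [mem_centralizer_iff] at hg
  have := hg _ hgz
  have h3 : y = g⁻¹ * ((g * y * g⁻¹) * g) := by group
  rw [h3, this]
  have h4 : g⁻¹ * (g * (g * y * g⁻¹)) = g * y * g⁻¹ := by group
  rw [h4]
  exact hgz

/-- For a flag `(t, a)` (the involution `t` inverts `a` of order 3), `C(a) ∩ C(t)` is trivial or is
the normal 2-complement of `C(t)`. -/
theorem KHyp.card_inf_centralizer (hk : KHyp S) (hS : SHyp S) {t a : S} (ht2 : orderOf t = 2)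
    (ha3 : orderOf a = 3) (hta : t * a * t⁻¹ = a⁻¹) (u : ℕ)
    (hu : Nat.card (centralizer ({t} : Set S)) = 4 * u) :
    Nat.card (centralizer ({a} : Set S) ⊓ centralizer ({t} : Set S) : Subgroup S) = 1 ∨
      Nat.card (centralizer ({a} : Set S) ⊓ centralizer ({t} : Set S) : Subgroup S) = u := by
  have htt := mul_self_of_order_two ht2
  have ht1 := ne_one_of_order_two ht2
  have ha1 := ne_one_of_order_three ha3
  set K := (centralizer ({a} : Set S) ⊓ centralizer ({t} : Set S) : Subgroup S) with hK
  by_cases hKbot : K = ⊥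
  · left; rw [hKbot, card_bot]
  right
  -- an element of prime order in `K`
  obtain ⟨y₀, hy₀K, hy₀1⟩ : ∃ y₀ ∈ K, y₀ ≠ 1 := by
    obtain ⟨y, hy⟩ := (Subgroup.ne_bot_iff_exists_ne_one (H := K)).mp hKbot
    exact ⟨y.1, y.2, fun h => hy (Subtype.ext h)⟩
  have hKa : ∀ w ∈ K, w * a = a * w := fun w hw => mem_centralizer_singleton_iff.mp hw.1
  have hKt : ∀ w ∈ K, w * t = t * w := fun w hw => mem_centralizer_singleton_iff.mp hw.2
  have hKodd : ∀ w ∈ K, Odd (orderOf w) := fun w hw => hk.odd_of_comm_three hS ha3 (hKa w hw)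
  obtain ⟨p, hp, hpdvd⟩ := Nat.exists_prime_and_dvd
    (show orderOf y₀ ≠ 1 from fun h => hy₀1 (orderOf_eq_one_iff.mp h))
  haveI : Fact p.Prime := ⟨hp⟩
  set y := y₀ ^ (orderOf y₀ / p) with hy
  have hyo : orderOf y = p := orderOf_pow_orderOf_div (orderOf_pos y₀).ne' hpdvd
  have hyK : y ∈ K := pow_mem hy₀K _
  have hy1 : y ≠ 1 := by
    intro h
    rw [h, orderOf_one] at hyo
    exact hp.one_lt.ne hyo
  have hyodd := hKodd y hyK
  have hya := hKa y hyK
  have hyt := hKt y hyK
  have hp2 : p ≠ 2 := by
    intro h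
    rw [hyo, h] at hyodd
    exact absurd hyodd (by decide)
  have hp3 : p ≠ 3 := by
    intro h
    rw [h] at hyo
    have hmem := comm_three_mem_zpowers hS ha3 hyo hya
    have hat : a * t = t * a := by
      rcases eq_or_eq_inv_of_mem_zpowers ha3 hmem hy1 with h' | h'
      · rw [← h']; exact hyt
      · rw [h'] at hyt
        calc a * t = a * (t * a⁻¹) * a := by group
          _ = a * (a⁻¹ * t) * a := by rw [hyt]
          _ = t * a := by group
    exact hk.not_comm_three hS ht2 ha3 hat.symm
  -- the normalizer of `⟨y⟩`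
  set X := normalizer (zpowers y : Set S) with hX
  have hXtop : X ≠ ⊤ := by
    intro htop
    obtain ⟨g, hg⟩ := exists_conj_not_mem_zpowers hk.hna hy1
    apply hg
    have : g ∈ X := by rw [htop]; exact mem_top g
    exact conj_mem_of_mem_normalizer this (mem_zpowers y)
  have hcX : centralizer (zpowers y : Set S) ≤ X := centralizer_le_normalizer _
  have haX : a ∈ X := hcX (mem_centralizer_zpowers_iff.mpr hya)
  have htX : t ∈ X := hcX (mem_centralizer_zpowers_iff.mpr hyt)
  have haY : a ∈ threeGen X := mem_threeGen haX ha3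
  have htnY : t ∈ normalizer ((threeGen X : Subgroup S) : Set S) :=
    mem_normalizer_fintype (fun n hn => conj_mem_threeGen (le_normalizer htX) hn)
  -- `threeGen X = ⟨a⟩`
  have hY : threeGen X = zpowers a := by
    have hle : zpowers a ≤ threeGen X := by rw [zpowers_le]; exact haY
    rcases hS.hM X hXtop with h1 | h1 | ⟨⟨e⟩⟩ | ⟨⟨e⟩⟩
    · exfalso
      have := Subgroup.card_eq_one.mp h1
      rw [this, mem_bot] at haY
      exact ha1 haY
    · symm
      apply Subgroup.eq_of_le_of_card_ge hle
      rw [h1, Nat.card_zpowers, ha3]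
    · exfalso
      obtain ⟨φ, hφ, hr⟩ := exists_hom_of_iso e
      have htY : t ∈ threeGen X :=
        hk.mem_of_normalizes _ (by rw [← hr, a4_card φ hφ]; norm_num) htt htnY
      rw [← hr] at htY haY
      apply a4_noinv φ hφ htY haY ht2 ha3
      rw [hta]
      exact inv_mem (mem_zpowers a)
    · exfalso
      obtain ⟨ψ, hψ, hr⟩ := exists_hom_of_iso e
      have hψX : ψ.range ≤ X := by rw [hr]; exact threeGen_le _
      have haR : a ∈ ψ.range := by rw [hr]; exact haY
      have hKle : ψ.range ⊓ centralizer (zpowers y : Set S) ≤ ψ.range := inf_le_left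
      have hycent : ∀ z ∈ ψ.range, z ∈ centralizer (zpowers y : Set S) := by
        rcases a5_normal ψ hKle (fun g hg n hn =>
          ⟨conj_mem_of_mem_normalizer (le_normalizer (H := ψ.range) hg) hn.1,
            conj_mem_centralizer _ (hψX hg) hn.2⟩) with h2 | h2
        · exfalso
          have : a ∈ ψ.range ⊓ centralizer (zpowers y : Set S) :=
            ⟨haR, mem_centralizer_zpowers_iff.mpr hya⟩
          rw [h2, mem_bot] at this
          exact ha1 this
        · intro z hz
          rw [← h2] at hz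
          exact hz.2
      obtain ⟨V, hVle, hVcard, -⟩ := a5_exists_four ψ hψ
      obtain ⟨T', hT'⟩ := exists_sylow_eq_of_card_four hk.h8 V hVcard
      have hyC : y ∈ centralizer ((T' : Subgroup S) : Set S) := by
        rw [mem_centralizer_iff]
        intro v hv
        rw [hT'] at hv
        have := hycent v (hVle hv)
        exact (mem_centralizer_zpowers_iff.mp this).symm
      rw [hk.centralizer_eq hS T'] at hyC
      exact hy1 (eq_one_of_mul_self_of_odd hyodd (klein_mul_self _ (hk.klein T') hyC))
  -- the complement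
  obtain ⟨T, hT⟩ := exists_sylow_mem htt
  obtain ⟨U, hUle, hUcard, hUodd, hUo, hUcomm⟩ := hk.exists_complement hS T hT ht1
  have hKU : K = U := by
    apply le_antisymm
    · intro w hw
      exact hUodd w hw.2 (hKodd w hw)
    · intro w hw
      refine ⟨?_, hUle hw⟩
      have hyU : y ∈ U := hUodd y hyK.2 hyodd
      have hwy : w * y = y * w := hUcomm w hw y hyU
      have hwX : w ∈ X := hcX (mem_centralizer_zpowers_iff.mpr hwy.symm)
      have hwa : w * a * w⁻¹ ∈ zpowers a := by
        rw [← hY]
        exact conj_mem_threeGen (le_normalizer hwX) haY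
      have hne1 : w * a * w⁻¹ ≠ 1 := by
        intro h'; apply ha1
        calc a = w⁻¹ * (w * a * w⁻¹) * w := by group
          _ = 1 := by rw [h']; group
      show w ∈ centralizer ({a} : Set S)
      rw [mem_centralizer_singleton_iff]
      rcases eq_or_eq_inv_of_mem_zpowers ha3 hwa hne1 with h | h
      · calc w * a = (w * a * w⁻¹) * w := by group
          _ = a * w := by rw [h]
      · exfalso
        -- `w²` commutes with `a`, so `w` does, so `a = a⁻¹`
        have h2 : (w * w) * a = a * (w * w) := by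
          have : w * (w * a * w⁻¹) * w⁻¹ = a := by
            rw [h]
            calc w * a⁻¹ * w⁻¹ = (w * a * w⁻¹)⁻¹ := by group
              _ = a := by rw [h, inv_inv]
          calc (w * w) * a = (w * (w * a * w⁻¹) * w⁻¹) * (w * w) := by group
            _ = a * (w * w) := by rw [this]
        have hwc : w ∈ centralizer ({a} : Set S) := by
          apply mem_of_pow_mem_of_coprime_orderOf (m := 2)
          · exact (Nat.coprime_two_left).mpr (hUo w hw)
          · rw [pow_two, mem_centralizer_singleton_iff]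
            exact h2
        rw [mem_centralizer_singleton_iff] at hwc
        have : w * a * w⁻¹ = a := by rw [hwc]; group
        rw [this] at h
        exact inv_ne_self_of_order_three ha3 h.symm
  rw [hKU]
  omega

end finite

end Cfsg.Agent.Helper6.ZasK
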