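import Mathlib
import Cfsg.Agent.Helper6.ZasK6
import Cfsg.Agent.Helper6.ZasAltG

set_option autoImplicit false

/-!
# Zassenhaus project, Klein case: the counting
-/

namespace Cfsg.Agent.Helper6.ZasK

open Subgroup Cfsg.Agent.Helper2 Cfsg.Agent.Helper6.Zas Cfsg.Agent.Helper6.ZasAlt
open scoped Pointwise

section general

theorem card_split {α : Type*} [Finite α] (P Q : α → Prop) :
    Nat.card {x : α // P x} = Nat.card {x : α // P x ∧ Q x} + Nat.card {x : α // P x ∧ ¬ Q x} := by
  classical
  have : Fintype α := Fintype.ofFinite α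
  rw [card_subtype_filter, card_subtype_filter, card_subtype_filter,
    ← Finset.filter_filter, ← Finset.filter_filter]
  exact (Finset.card_filter_add_card_filter_not (s := Finset.univ.filter P) Q).symm

theorem card_fiber_mul {α β : Type*} [Finite α] [Finite β] (f : α → β) (m : ℕ)
    (h : ∀ b, Nat.card {a : α // f a = b} = m) : Nat.card α = Nat.card β * m := by
  classical
  have : Fintype β := Fintype.ofFinite β
  rw [Nat.card_congr (Equiv.sigmaFiberEquiv f).symm, Nat.card_sigma]
  simp only [h, Finset.sum_const, Finset.card_univ, smul_eq_mul, Nat.card_eq_fintype_card]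

theorem card_congr_iff {α : Type*} {P Q : α → Prop} (h : ∀ x, P x ↔ Q x) :
    Nat.card {x : α // P x} = Nat.card {x : α // Q x} :=
  Nat.card_congr (Equiv.subtypeEquivRight h)

end general

variable {S : Type*} [Group S]

/-- counting pairs generating a subgroup isomorphic to `X`, by fibers -/
theorem card_pairs_iso [Finite S] (X : Type*) [Group X] (P : S × S → Prop) (m : ℕ)
    (hm : ∀ φ : X →* S, Function.Injective φ →
      Nat.card {ab : S × S // P ab ∧ closure {ab.1, ab.2} = φ.range} = m) :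
    Nat.card {ab : S × S // P ab ∧ Nonempty (closure {ab.1, ab.2} ≃* X)} =
      Nat.card {L : Subgroup S // Nonempty (L ≃* X)} * m := by
  apply card_fiber_mul (fun x : {ab : S × S // P ab ∧ Nonempty (closure {ab.1, ab.2} ≃* X)} =>
    (⟨closure {x.1.1, x.1.2}, x.2.2⟩ : {L : Subgroup S // Nonempty (L ≃* X)}))
  rintro ⟨L, ⟨e⟩⟩
  obtain ⟨φ, hφ, hr⟩ := exists_hom_of_iso e
  rw [← hm φ hφ]
  refine Nat.card_congr
    { toFun := fun x => ⟨x.1.1, x.1.2.1, by rw [hr]; exact congrArg Subtype.val x.2⟩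
      invFun := fun x => ⟨⟨x.1, x.2.1, by rw [x.2.2, hr]; exact ⟨e⟩⟩, Subtype.ext (by
        show closure {x.1.1, x.1.2} = L
        rw [x.2.2, hr])⟩
      left_inv := fun x => rfl
      right_inv := fun x => rfl }

theorem card_pairs_prod {α : Type*} (P Q : α → Prop) :
    Nat.card {ab : α × α // P ab.1 ∧ Q ab.2} = Nat.card {a : α // P a} * Nat.card {b : α // Q b} := by
  rw [← Nat.card_prod]
  exact Nat.card_congr (Equiv.subtypeProdEquivProd)

/-- pairs `(a, f a)` -/
theorem card_graph {α : Type*} (P : α → Prop) (f : α → α) :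
    Nat.card {ab : α × α // P ab.1 ∧ ab.2 = f ab.1} = Nat.card {a : α // P a} := by
  refine Nat.card_congr
    { toFun := fun x => ⟨x.1.1, x.2.1⟩
      invFun := fun a => ⟨(a.1, f a.1), a.2, rfl⟩
      left_inv := ?_
      right_inv := fun a => rfl }
  rintro ⟨⟨a, b⟩, ha, hb⟩
  apply Subtype.ext
  simp only at hb
  simp only [hb]

section finite

variable [Finite S] [IsSimpleGroup S]

/-- every subgroup isomorphic to `A₄` is the normalizer of a Sylow 2-subgroup -/
theorem KHyp.a4_eq_normalizer (hk : KHyp S) (hS : SHyp S) (φ : X4 →* S)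
    (hφ : Function.Injective φ) :
    ∃ T : Sylow 2 S, normalizer ((T : Subgroup S) : Set S) = φ.range := by
  obtain ⟨T, hT⟩ := exists_sylow_eq_of_card_four hk.h8 (a4V φ) (a4V_card φ hφ)
  refine ⟨T, ?_⟩
  symm
  apply Subgroup.eq_of_le_of_card_ge
  · intro g hg
    rw [hT]
    exact mem_normalizer_fintype (fun n hn => a4V_normal φ hg hn)
  · rw [hk.card_normalizer hS T, a4_card φ hφ]

theorem KHyp.normalizer_injective (hk : KHyp S) {T T' : Sylow 2 S}
    (h : normalizer ((T : Subgroup S) : Set S) = normalizer ((T' : Subgroup S) : Set S)) :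
    T = T' := by
  apply Sylow.ext
  symm
  apply Subgroup.eq_of_le_of_card_ge
  · intro v hv
    have hvn : v ∈ normalizer ((T : Subgroup S) : Set S) := by
      rw [h]; exact le_normalizer hv
    exact hk.mem_of_normalizes (T : Subgroup S) (by rw [hk.card_sylow T])
      (klein_mul_self _ (hk.klein T') hv) hvn
  · rw [hk.card_sylow T, hk.card_sylow T']

theorem KHyp.card_lines (hk : KHyp S) (hS : SHyp S) :
    Nat.card {L : Subgroup S // Nonempty (L ≃* X4)} = Nat.card (Sylow 2 S) := by
  symm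
  have hiso : ∀ T : Sylow 2 S, Nonempty (normalizer ((T : Subgroup S) : Set S) ≃* X4) := by
    intro T
    obtain ⟨φ, h⟩ := hk.exists_a4 hS T
    have heq := h.normalizer_eq hk hS
    exact ⟨(MulEquiv.subgroupCongr heq).trans (MonoidHom.ofInjective h.inj).symm⟩
  refine Nat.card_congr (Equiv.ofBijective
    (fun T => (⟨normalizer ((T : Subgroup S) : Set S), hiso T⟩ :
      {L : Subgroup S // Nonempty (L ≃* X4)})) ⟨?_, ?_⟩)
  · intro T T' h
    exact hk.normalizer_injective (congrArg Subtype.val h)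
  · rintro ⟨L, ⟨e⟩⟩
    obtain ⟨φ, hφ, hr⟩ := exists_hom_of_iso e
    obtain ⟨T, hT⟩ := hk.a4_eq_normalizer hS φ hφ
    exact ⟨T, Subtype.ext (by show normalizer ((T : Subgroup S) : Set S) = L; rw [hT, hr])⟩

theorem KHyp.card_eq_twelve_mul (hk : KHyp S) (hS : SHyp S) :
    12 * Nat.card (Sylow 2 S) = Nat.card S := by
  haveI : Fact (Nat.Prime 2) := ⟨Nat.prime_two⟩
  obtain ⟨T⟩ : Nonempty (Sylow 2 S) := inferInstance
  rw [← hk.card_normalizer hS T]
  exact SmallOrder.card_normalizer_mul_card_sylow T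

/-- (E1): counting the pairs of elements of order 3 -/
theorem KHyp.count_E1 (hk : KHyp S) (hS : SHyp S) :
    Nat.card {a : S // orderOf a = 3} * Nat.card {a : S // orderOf a = 3} =
      2 * Nat.card {a : S // orderOf a = 3} + 48 * Nat.card (Sylow 2 S) +
        120 * Nat.card {L : Subgroup S // Nonempty (L ≃* X5)} := by
  set P : S × S → Prop := fun ab => orderOf ab.1 = 3 ∧ orderOf ab.2 = 3 with hP
  set Q1 : S × S → Prop := fun ab => Nonempty (closure {ab.1, ab.2} ≃* X4) with hQ1
  set Q2 : S × S → Prop := fun ab => Nonempty (closure {ab.1, ab.2} ≃* X5) with hQ2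
  have h0 : Nat.card {ab : S × S // P ab} =
      Nat.card {a : S // orderOf a = 3} * Nat.card {a : S // orderOf a = 3} :=
    card_pairs_prod (fun a : S => orderOf a = 3) (fun a : S => orderOf a = 3)
  have h1 := card_split P Q1
  have h2 := card_split (fun ab => P ab ∧ ¬ Q1 ab) Q2
  -- lines
  have hL : Nat.card {ab : S × S // P ab ∧ Q1 ab} = Nat.card (Sylow 2 S) * 48 := by
    rw [← hk.card_lines hS]
    apply card_pairs_iso X4 P 48
    intro φ hφ
    rw [← a4_card_pairs33 φ hφ]
    exact card_congr_iff (fun ab => by simp only [hP, and_assoc])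
  -- planes
  have hPl : Nat.card {ab : S × S // (P ab ∧ ¬ Q1 ab) ∧ Q2 ab} =
      Nat.card {L : Subgroup S // Nonempty (L ≃* X5)} * 120 := by
    have : Nat.card {ab : S × S // (P ab ∧ ¬ Q1 ab) ∧ Q2 ab} =
        Nat.card {ab : S × S // P ab ∧ Q2 ab} := by
      apply card_congr_iff
      intro ab
      constructor
      · rintro ⟨⟨h, -⟩, h'⟩; exact ⟨h, h'⟩
      · rintro ⟨h, ⟨e⟩⟩
        refine ⟨⟨h, ?_⟩, ⟨e⟩⟩
        rintro ⟨e'⟩
        have c1 : Nat.card (closure {ab.1, ab.2}) = 60 := by
          rw [Nat.card_congr e.toEquiv, x5_card]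
        have c2 : Nat.card (closure {ab.1, ab.2}) = 12 := by
          rw [Nat.card_congr e'.toEquiv, x4_card]
        omega
    rw [this]
    apply card_pairs_iso X5 P 120
    intro φ hφ
    rw [← a5_card_pairs33 φ hφ]
    exact card_congr_iff (fun ab => by simp only [hP, and_assoc])
  -- the rest: `b = a` or `b = a⁻¹`
  have hR : Nat.card {ab : S × S // (P ab ∧ ¬ Q1 ab) ∧ ¬ Q2 ab} =
      2 * Nat.card {a : S // orderOf a = 3} := by
    have e1 : Nat.card {ab : S × S // (P ab ∧ ¬ Q1 ab) ∧ ¬ Q2 ab} =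
        Nat.card {ab : S × S // orderOf ab.1 = 3 ∧ (ab.2 = ab.1 ∨ ab.2 = ab.1⁻¹)} := by
      apply card_congr_iff
      rintro ⟨a, b⟩
      simp only [hP, hQ1, hQ2]
      constructor
      · rintro ⟨⟨⟨ha3, hb3⟩, hn1⟩, hn2⟩
        refine ⟨ha3, ?_⟩
        rcases hS.hF1 a b ha3 hb3 with h | h | h
        · have haL : a ∈ closure ({a, b} : Set S) := subset_closure (by simp)
          have hbL : b ∈ closure ({a, b} : Set S) := subset_closure (by simp)
          have hle : zpowers a ≤ closure ({a, b} : Set S) := by rw [zpowers_le]; exact haL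
          have heq : zpowers a = closure ({a, b} : Set S) := by
            apply Subgroup.eq_of_le_of_card_ge hle
            rw [h, Nat.card_zpowers, ha3]
          rw [← heq] at hbL
          exact eq_or_eq_inv_of_mem_zpowers ha3 hbL (ne_one_of_order_three hb3)
        · exact absurd h hn1
        · exact absurd h hn2
      · rintro ⟨ha3, hb⟩
        have hb3 : orderOf b = 3 := by
          rcases hb with rfl | rfl
          · exact ha3
          · rw [orderOf_inv]; exact ha3
        have hcl : closure ({a, b} : Set S) = zpowers a := by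
          rcases hb with rfl | rfl
          · exact closure_pair_self _
          · exact closure_pair_self_inv _
        have hc3 : Nat.card (closure ({a, b} : Set S)) = 3 := by
          rw [hcl, Nat.card_zpowers, ha3]
        refine ⟨⟨⟨ha3, hb3⟩, ?_⟩, ?_⟩
        · rintro ⟨e⟩
          rw [Nat.card_congr e.toEquiv, x4_card] at hc3
          omega
        · rintro ⟨e⟩
          rw [Nat.card_congr e.toEquiv, x5_card] at hc3
          omega
    rw [e1]
    have h3 := card_split (fun ab : S × S => orderOf ab.1 = 3 ∧ (ab.2 = ab.1 ∨ ab.2 = ab.1⁻¹))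
      (fun ab => ab.2 = ab.1)
    have e2 : Nat.card {ab : S × S // (orderOf ab.1 = 3 ∧ (ab.2 = ab.1 ∨ ab.2 = ab.1⁻¹)) ∧
        ab.2 = ab.1} = Nat.card {a : S // orderOf a = 3} := by
      rw [← card_graph (fun a : S => orderOf a = 3) (fun a => a)]
      apply card_congr_iff
      rintro ⟨a, b⟩
      constructor
      · rintro ⟨⟨h, -⟩, h'⟩; exact ⟨h, h'⟩
      · rintro ⟨h, h'⟩; exact ⟨⟨h, Or.inl h'⟩, h'⟩
    have e3 : Nat.card {ab : S × S // (orderOf ab.1 = 3 ∧ (ab.2 = ab.1 ∨ ab.2 = ab.1⁻¹)) ∧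
        ¬ ab.2 = ab.1} = Nat.card {a : S // orderOf a = 3} := by
      rw [← card_graph (fun a : S => orderOf a = 3) (fun a => a⁻¹)]
      apply card_congr_iff
      rintro ⟨a, b⟩
      constructor
      · rintro ⟨⟨h, h' | h'⟩, h''⟩
        · exact absurd h' h''
        · exact ⟨h, h'⟩
      · rintro ⟨h, h'⟩
        refine ⟨⟨h, Or.inr h'⟩, ?_⟩
        simp only at h' ⊢
        rw [h']
        exact inv_ne_self_of_order_three h
    rw [h3, e2, e3]
    ring
  rw [← h0, h1, h2, hL, hPl, hR]
  ring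

omit [IsSimpleGroup S] in
theorem card_a5_pairs33 :
    Nat.card {ab : S × S // (orderOf ab.1 = 3 ∧ orderOf ab.2 = 3) ∧
      Nonempty (closure {ab.1, ab.2} ≃* X5)} =
      Nat.card {L : Subgroup S // Nonempty (L ≃* X5)} * 120 := by
  apply card_pairs_iso X5 (fun ab : S × S => orderOf ab.1 = 3 ∧ orderOf ab.2 = 3) 120
  intro φ hφ
  rw [← a5_card_pairs33 φ hφ]
  exact card_congr_iff (fun ab => by simp only [and_assoc])

/-- an involution and an element of order 3: inverted, or generating `A₄`, or generating `A₅` -/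
theorem KHyp.inverts_iff (hk : KHyp S) (hS : SHyp S) {t a : S} (ht2 : orderOf t = 2)
    (ha3 : orderOf a = 3) :
    t * a * t⁻¹ = a⁻¹ ↔ ¬ Nonempty (closure {t, a} ≃* X4) ∧ ¬ Nonempty (closure {t, a} ≃* X5) := by
  have htL : t ∈ closure ({t, a} : Set S) := subset_closure (by simp)
  have haL : a ∈ closure ({t, a} : Set S) := subset_closure (by simp)
  constructor
  · intro hinv
    constructor
    · rintro ⟨e⟩
      obtain ⟨φ, hφ, hr⟩ := exists_hom_of_iso e
      rw [← hr] at htL haL
      apply a4_noinv φ hφ htL haL ht2 ha3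
      rw [hinv]
      exact inv_mem (mem_zpowers a)
    · rintro ⟨e⟩
      obtain ⟨φ, hφ, hr⟩ := exists_hom_of_iso e
      rw [← hr] at htL haL
      exact a5_noinv_gen φ hφ htL haL ht2 ha3 hinv hr.symm
  · rintro ⟨hn1, hn2⟩
    rcases hS.hF2 t a ht2 ha3 with h | h | ⟨⟨e⟩⟩ | h
    · have hle : zpowers a ≤ closure ({t, a} : Set S) := by rw [zpowers_le]; exact haL
      have hc : Nat.card (closure ({t, a} : Set S)) = 2 * Nat.card (zpowers a) := by
        rw [h, Nat.card_zpowers, ha3]
      have h1 := conj_mem_of_card_eq_two_mul hle hc htL (mem_zpowers a)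
      have h2 : t * a * t⁻¹ ≠ 1 := by
        intro h'; apply ne_one_of_order_three ha3
        calc a = t⁻¹ * (t * a * t⁻¹) * t := by group
          _ = 1 := by rw [h']; group
      rcases eq_or_eq_inv_of_mem_zpowers ha3 h1 h2 with h3 | h3
      · exfalso
        apply hk.not_comm_three hS ht2 ha3
        calc t * a = (t * a * t⁻¹) * t := by group
          _ = a * t := by rw [h3]
      · exact h3
    · exact absurd h hn1
    · exfalso
      apply hk.h8
      have hc : Nat.card (closure ({t, a} : Set S)) = 24 := by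
        rw [Nat.card_congr e.toEquiv, Nat.card_perm, Nat.card_fin]; rfl
      have := Subgroup.card_subgroup_dvd_card (closure ({t, a} : Set S))
      rw [hc] at this
      exact (by norm_num : 8 ∣ 24).trans this
    · exact absurd h hn2

/-- (E2): counting the pairs (involution, element of order 3) -/
theorem KHyp.count_E2 (hk : KHyp S) (hS : SHyp S) :
    Nat.card {t : S // orderOf t = 2} * Nat.card {a : S // orderOf a = 3} =
      Nat.card {ta : S × S // orderOf ta.1 = 2 ∧ orderOf ta.2 = 3 ∧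
        ta.1 * ta.2 * ta.1⁻¹ = ta.2⁻¹} + 24 * Nat.card (Sylow 2 S) +
        120 * Nat.card {L : Subgroup S // Nonempty (L ≃* X5)} := by
  set P : S × S → Prop := fun ta => orderOf ta.1 = 2 ∧ orderOf ta.2 = 3 with hP
  set Q1 : S × S → Prop := fun ab => Nonempty (closure {ab.1, ab.2} ≃* X4) with hQ1
  set Q2 : S × S → Prop := fun ab => Nonempty (closure {ab.1, ab.2} ≃* X5) with hQ2
  have h0 : Nat.card {ab : S × S // P ab} =
      Nat.card {t : S // orderOf t = 2} * Nat.card {a : S // orderOf a = 3} :=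
    card_pairs_prod (fun a : S => orderOf a = 2) (fun a : S => orderOf a = 3)
  have h1 := card_split P Q1
  have h2 := card_split (fun ab => P ab ∧ ¬ Q1 ab) Q2
  have hL : Nat.card {ab : S × S // P ab ∧ Q1 ab} = Nat.card (Sylow 2 S) * 24 := by
    rw [← hk.card_lines hS]
    apply card_pairs_iso X4 P 24
    intro φ hφ
    rw [← a4_card_pairs23 φ hφ]
    exact card_congr_iff (fun ab => by simp only [hP, and_assoc])
  have hPl : Nat.card {ab : S × S // (P ab ∧ ¬ Q1 ab) ∧ Q2 ab} =
      Nat.card {L : Subgroup S // Nonempty (L ≃* X5)} * 120 := by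
    have : Nat.card {ab : S × S // (P ab ∧ ¬ Q1 ab) ∧ Q2 ab} =
        Nat.card {ab : S × S // P ab ∧ Q2 ab} := by
      apply card_congr_iff
      intro ab
      constructor
      · rintro ⟨⟨h, -⟩, h'⟩; exact ⟨h, h'⟩
      · rintro ⟨h, ⟨e⟩⟩
        refine ⟨⟨h, ?_⟩, ⟨e⟩⟩
        rintro ⟨e'⟩
        have c1 : Nat.card (closure {ab.1, ab.2}) = 60 := by
          rw [Nat.card_congr e.toEquiv, x5_card]
        have c2 : Nat.card (closure {ab.1, ab.2}) = 12 := by
          rw [Nat.card_congr e'.toEquiv, x4_card]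
        omega
    rw [this]
    apply card_pairs_iso X5 P 120
    intro φ hφ
    rw [← a5_card_pairs23 φ hφ]
    exact card_congr_iff (fun ab => by simp only [hP, and_assoc])
  have hR : Nat.card {ab : S × S // (P ab ∧ ¬ Q1 ab) ∧ ¬ Q2 ab} =
      Nat.card {ta : S × S // orderOf ta.1 = 2 ∧ orderOf ta.2 = 3 ∧
        ta.1 * ta.2 * ta.1⁻¹ = ta.2⁻¹} := by
    apply card_congr_iff
    rintro ⟨t, a⟩
    simp only [hP, hQ1, hQ2]
    constructor
    · rintro ⟨⟨⟨ht2, ha3⟩, hn1⟩, hn2⟩
      exact ⟨ht2, ha3, (hk.inverts_iff hS ht2 ha3).mpr ⟨hn1, hn2⟩⟩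
    · rintro ⟨ht2, ha3, hinv⟩
      have := (hk.inverts_iff hS ht2 ha3).mp hinv
      exact ⟨⟨⟨ht2, ha3⟩, this.1⟩, this.2⟩
  rw [← h0, h1, h2, hL, hPl, hR]
  ring

end finite

end Cfsg.Agent.Helper6.ZasK
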