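import Mathlib
import Cfsg.Agent.Helper6.ZasK7

set_option autoImplicit false

/-!
# Zassenhaus project, Klein case: class equations and flags
-/

namespace Cfsg.Agent.Helper6.ZasK

open Subgroup Cfsg.Agent.Helper2 Cfsg.Agent.Helper6.Zas Cfsg.Agent.Helper6.ZasAlt
open scoped Pointwise

variable {S : Type*} [Group S]

theorem isConj_iff_exists_top {x y : S} : IsConj x y ↔ ∃ h ∈ (⊤ : Subgroup S), h * x * h⁻¹ = y := by
  rw [isConj_iff]
  constructor
  · rintro ⟨g, hg⟩; exact ⟨g, mem_top g, hg⟩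
  · rintro ⟨g, -, hg⟩; exact ⟨g, hg⟩

/-- the class equation for one conjugacy class -/
theorem card_class_mul (x₀ : S) :
    Nat.card {x : S // IsConj x₀ x} * Nat.card (centralizer ({x₀} : Set S)) = Nat.card S := by
  have h := card_conj_orbit (⊤ : Subgroup S) x₀
  rw [top_inf_eq, Subgroup.card_top] at h
  rw [← h]
  congr 1
  exact card_congr_iff (fun x => isConj_iff_exists_top)

/-- the type of the relation "`t` inverts `a`" -/
def Inv (t a : S) : Prop := t * a * t⁻¹ = a⁻¹

theorem Inv.conj {t a : S} (h : Inv t a) (g : S) : Inv (g * t * g⁻¹) (g * a * g⁻¹) := by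
  unfold Inv at h ⊢
  calc g * t * g⁻¹ * (g * a * g⁻¹) * (g * t * g⁻¹)⁻¹ = g * (t * a * t⁻¹) * g⁻¹ := by group
    _ = (g * a * g⁻¹)⁻¹ := by rw [h]; group

section finite

variable [Finite S] [IsSimpleGroup S]

theorem KHyp.isConj_two_iff (hk : KHyp S) {t₀ : S} (ht2 : orderOf t₀ = 2) (t : S) :
    IsConj t₀ t ↔ orderOf t = 2 := by
  constructor
  · intro h
    obtain ⟨g, rfl⟩ := isConj_iff.mp h
    rw [orderOf_conj, ht2]
  · intro h
    exact hk.invol_conj ht2 h

theorem KHyp.isConj_three_iff (hk : KHyp S) (hS : SHyp S) {a₀ : S} (ha3 : orderOf a₀ = 3) (a : S) :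
    IsConj a₀ a ↔ orderOf a = 3 := by
  constructor
  · intro h
    obtain ⟨g, rfl⟩ := isConj_iff.mp h
    rw [orderOf_conj, ha3]
  · intro h
    exact hk.three_conj hS ha3 h

theorem KHyp.card_two_mul (hk : KHyp S) {t : S} (ht2 : orderOf t = 2) :
    Nat.card {x : S // orderOf x = 2} * Nat.card (centralizer ({t} : Set S)) = Nat.card S := by
  rw [← card_class_mul t]
  congr 1
  exact card_congr_iff (fun x => (hk.isConj_two_iff ht2 x).symm)

theorem KHyp.card_three_mul (hk : KHyp S) (hS : SHyp S) {a : S} (ha3 : orderOf a = 3) :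
    Nat.card {x : S // orderOf x = 3} * Nat.card (centralizer ({a} : Set S)) = Nat.card S := by
  rw [← card_class_mul a]
  congr 1
  exact card_congr_iff (fun x => (hk.isConj_three_iff hS ha3 x).symm)

/-- flags counted over the involutions -/
theorem KHyp.card_flags_t (hk : KHyp S) {t₀ : S} (ht2 : orderOf t₀ = 2) :
    Nat.card {ta : S × S // orderOf ta.1 = 2 ∧ orderOf ta.2 = 3 ∧
      ta.1 * ta.2 * ta.1⁻¹ = ta.2⁻¹} =
    Nat.card {t : S // orderOf t = 2} * Nat.card {a : S // orderOf a = 3 ∧ Inv t₀ a} := by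
  have h := card_pairs_conj (fun g y : S => g * y * g⁻¹) (fun g y => by group)
    (fun g y => by group) t₀ (fun t a => orderOf a = 3 ∧ Inv t a)
    (fun g x y hxy => ⟨by rw [orderOf_conj]; exact hxy.1, hxy.2.conj g⟩)
  have e1 : Nat.card {ta : S × S // orderOf ta.1 = 2 ∧ orderOf ta.2 = 3 ∧
      ta.1 * ta.2 * ta.1⁻¹ = ta.2⁻¹} =
      Nat.card {xy : S × S // IsConj t₀ xy.1 ∧ (orderOf xy.2 = 3 ∧ Inv xy.1 xy.2)} := by
    apply card_congr_iff
    intro ta
    rw [hk.isConj_two_iff ht2]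
    rfl
  have e2 : Nat.card {t : S // orderOf t = 2} = Nat.card {x : S // IsConj t₀ x} :=
    card_congr_iff (fun x => (hk.isConj_two_iff ht2 x).symm)
  rw [e1, e2, h]

/-- flags counted over the elements of order 3 -/
theorem KHyp.card_flags_a (hk : KHyp S) (hS : SHyp S) {a₀ : S} (ha3 : orderOf a₀ = 3) :
    Nat.card {ta : S × S // orderOf ta.1 = 2 ∧ orderOf ta.2 = 3 ∧
      ta.1 * ta.2 * ta.1⁻¹ = ta.2⁻¹} =
    Nat.card {a : S // orderOf a = 3} * Nat.card {t : S // orderOf t = 2 ∧ Inv t a₀} := by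
  have h := card_pairs_conj (fun g y : S => g * y * g⁻¹) (fun g y => by group)
    (fun g y => by group) a₀ (fun a t => orderOf t = 2 ∧ Inv t a)
    (fun g x y hxy => ⟨by rw [orderOf_conj]; exact hxy.1, hxy.2.conj g⟩)
  have e1 : Nat.card {ta : S × S // orderOf ta.1 = 2 ∧ orderOf ta.2 = 3 ∧
      ta.1 * ta.2 * ta.1⁻¹ = ta.2⁻¹} =
      Nat.card {xy : S × S // IsConj a₀ xy.1 ∧ (orderOf xy.2 = 2 ∧ Inv xy.2 xy.1)} := by
    refine Nat.card_congr
      { toFun := fun x => ⟨(x.1.2, x.1.1), (hk.isConj_three_iff hS ha3 _).mpr x.2.2.1,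
          x.2.1, x.2.2.2⟩
        invFun := fun x => ⟨(x.1.2, x.1.1), x.2.2.1, (hk.isConj_three_iff hS ha3 _).mp x.2.1,
          x.2.2.2⟩
        left_inv := fun x => rfl
        right_inv := fun x => rfl }
  have e2 : Nat.card {a : S // orderOf a = 3} = Nat.card {x : S // IsConj a₀ x} :=
    card_congr_iff (fun x => (hk.isConj_three_iff hS ha3 x).symm)
  rw [e1, e2, h]

/-- the involutions inverting `a` form one orbit under `C(a)` -/
theorem KHyp.card_inverting_mul (hk : KHyp S) (hS : SHyp S) {a t : S} (ha3 : orderOf a = 3)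
    (ht2 : orderOf t = 2) (hinv : Inv t a) :
    Nat.card {x : S // orderOf x = 2 ∧ Inv x a} *
      Nat.card (centralizer ({a} : Set S) ⊓ centralizer ({t} : Set S) : Subgroup S) =
      Nat.card (centralizer ({a} : Set S)) := by
  rw [← card_conj_orbit (centralizer ({a} : Set S)) t]
  congr 1
  apply card_congr_iff
  intro x
  constructor
  · rintro ⟨hx2, hxa⟩
    obtain ⟨h, hha, hht⟩ := hk.inverting_conj hS ha3 hx2 ht2 hxa hinv
    exact ⟨h, mem_centralizer_singleton_iff.mpr hha, hht⟩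
  · rintro ⟨h, hh, rfl⟩
    rw [mem_centralizer_singleton_iff] at hh
    refine ⟨by rw [orderOf_conj]; exact ht2, ?_⟩
    have := hinv.conj h
    have hfix : h * a * h⁻¹ = a := by rw [hh]; group
    rwa [hfix] at this

end finite

end Cfsg.Agent.Helper6.ZasK
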