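import Mathlib
import Cfsg.Agent.Helper6.ZasK8

set_option autoImplicit false

/-!
# Zassenhaus project, Klein case: counting triples (E3)
-/

namespace Cfsg.Agent.Helper6.ZasK

open Subgroup Cfsg.Agent.Helper2 Cfsg.Agent.Helper6.Zas Cfsg.Agent.Helper6.ZasAlt
open scoped Pointwise

variable {S : Type*} [Group S]

/-- `t` inverts `a` and `b` of order 3, which generate an `A₅` -/
def R3 (t : S) (ab : S × S) : Prop :=
  (orderOf ab.1 = 3 ∧ Inv t ab.1) ∧ (orderOf ab.2 = 3 ∧ Inv t ab.2) ∧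
    Nonempty (closure {ab.1, ab.2} ≃* X5)

theorem Inv.inv_right {t a : S} (h : Inv t a) : Inv t a⁻¹ := by
  unfold Inv at h ⊢
  calc t * a⁻¹ * t⁻¹ = (t * a * t⁻¹)⁻¹ := by group
    _ = a⁻¹⁻¹ := by rw [h]

theorem nonempty_iso_conj {X : Type*} [Group X] (g a b : S)
    (h : Nonempty (closure {a, b} ≃* X)) :
    Nonempty (closure {g * a * g⁻¹, g * b * g⁻¹} ≃* X) := by
  obtain ⟨e⟩ := h
  rw [closure_pair_conj]
  exact ⟨((closure {a, b}).equivMapOfInjective (MulAut.conj g).toMonoidHom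
    (MulAut.conj g).injective).symm.trans e⟩

theorem R3.conj {t : S} {ab : S × S} (h : R3 t ab) (g : S) :
    R3 (g * t * g⁻¹) (g * ab.1 * g⁻¹, g * ab.2 * g⁻¹) := by
  obtain ⟨⟨h1, h2⟩, ⟨h3, h4⟩, h5⟩ := h
  refine ⟨⟨?_, h2.conj g⟩, ⟨?_, h4.conj g⟩, nonempty_iso_conj g _ _ h5⟩
  · show orderOf (g * ab.1 * g⁻¹) = 3
    rw [orderOf_conj]; exact h1
  · show orderOf (g * ab.2 * g⁻¹) = 3
    rw [orderOf_conj]; exact h3

section finite

variable [Finite S] [IsSimpleGroup S]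

/-- (E3a) -/
theorem KHyp.card_triples_t (hk : KHyp S) {t₀ : S} (ht2 : orderOf t₀ = 2) :
    Nat.card {x : S × (S × S) // orderOf x.1 = 2 ∧ R3 x.1 x.2} =
      Nat.card {t : S // orderOf t = 2} * Nat.card {ab : S × S // R3 t₀ ab} := by
  have h := card_pairs_conj (fun (g : S) (ab : S × S) => (g * ab.1 * g⁻¹, g * ab.2 * g⁻¹))
    (fun g y => by apply Prod.ext <;> simp <;> group)
    (fun g y => by apply Prod.ext <;> simp <;> group) t₀ (fun t ab => R3 t ab)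
    (fun g x y hxy => hxy.conj g)
  have e1 : Nat.card {x : S × (S × S) // orderOf x.1 = 2 ∧ R3 x.1 x.2} =
      Nat.card {xy : S × (S × S) // IsConj t₀ xy.1 ∧ R3 xy.1 xy.2} := by
    apply card_congr_iff
    intro x
    rw [hk.isConj_two_iff ht2]
  have e2 : Nat.card {t : S // orderOf t = 2} = Nat.card {x : S // IsConj t₀ x} :=
    card_congr_iff (fun x => (hk.isConj_two_iff ht2 x).symm)
  rw [e1, e2, h]

omit [IsSimpleGroup S] in
/-- an involution inverting two elements normalizes the subgroup they generate -/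
theorem mem_normalizer_of_inv {t a b : S} (ha : Inv t a) (hb : Inv t b) :
    t ∈ normalizer ((closure ({a, b} : Set S) : Subgroup S) : Set S) := by
  apply mem_normalizer_closure_pair
  · rw [show t * a * t⁻¹ = a⁻¹ from ha]
    exact inv_mem (subset_closure (by simp))
  · rw [show t * b * t⁻¹ = b⁻¹ from hb]
    exact inv_mem (subset_closure (by simp))

/-- (E3b) -/
theorem KHyp.card_R3 (hk : KHyp S) (hS : SHyp S) {t₀ : S} (ht2 : orderOf t₀ = 2) :
    Nat.card {ab : S × S // R3 t₀ ab} + 2 * Nat.card {a : S // orderOf a = 3 ∧ Inv t₀ a} =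
      Nat.card {a : S // orderOf a = 3 ∧ Inv t₀ a} * Nat.card {a : S // orderOf a = 3 ∧ Inv t₀ a} := by
  have htt := mul_self_of_order_two ht2
  set N : S → Prop := fun a => orderOf a = 3 ∧ Inv t₀ a with hN
  set Q2 : S × S → Prop := fun ab => Nonempty (closure {ab.1, ab.2} ≃* X5) with hQ2
  have h0 : Nat.card {ab : S × S // N ab.1 ∧ N ab.2} =
      Nat.card {a : S // N a} * Nat.card {a : S // N a} := card_pairs_prod N N
  have h1 := card_split (fun ab : S × S => N ab.1 ∧ N ab.2) Q2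
  have e1 : Nat.card {ab : S × S // (N ab.1 ∧ N ab.2) ∧ Q2 ab} =
      Nat.card {ab : S × S // R3 t₀ ab} :=
    card_congr_iff (fun ab => by simp only [R3, hN, hQ2, and_assoc])
  have e2 : Nat.card {ab : S × S // (N ab.1 ∧ N ab.2) ∧ ¬ Q2 ab} =
      Nat.card {ab : S × S // N ab.1 ∧ (ab.2 = ab.1 ∨ ab.2 = ab.1⁻¹)} := by
    apply card_congr_iff
    rintro ⟨a, b⟩
    simp only [hN, hQ2]
    constructor
    · rintro ⟨⟨⟨ha3, hia⟩, ⟨hb3, hib⟩⟩, hn2⟩
      refine ⟨⟨ha3, hia⟩, ?_⟩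
      have haL : a ∈ closure ({a, b} : Set S) := subset_closure (by simp)
      have hbL : b ∈ closure ({a, b} : Set S) := subset_closure (by simp)
      rcases hS.hF1 a b ha3 hb3 with h | ⟨⟨e⟩⟩ | h
      · have hle : zpowers a ≤ closure ({a, b} : Set S) := by rw [zpowers_le]; exact haL
        have heq : zpowers a = closure ({a, b} : Set S) := by
          apply Subgroup.eq_of_le_of_card_ge hle
          rw [h, Nat.card_zpowers, ha3]
        rw [← heq] at hbL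
        exact eq_or_eq_inv_of_mem_zpowers ha3 hbL (ne_one_of_order_three hb3)
      · exfalso
        obtain ⟨φ, hφ, hr⟩ := exists_hom_of_iso e
        have htL : t₀ ∈ closure ({a, b} : Set S) :=
          hk.mem_of_normalizes _ (by rw [← hr, a4_card φ hφ]; norm_num) htt
            (mem_normalizer_of_inv hia hib)
        rw [← hr] at htL haL
        apply a4_noinv φ hφ htL haL ht2 ha3
        rw [show t₀ * a * t₀⁻¹ = a⁻¹ from hia]
        exact inv_mem (mem_zpowers a)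
      · exact absurd h hn2
    · rintro ⟨⟨ha3, hia⟩, hb⟩
      have hNb : orderOf b = 3 ∧ Inv t₀ b := by
        rcases hb with rfl | rfl
        · exact ⟨ha3, hia⟩
        · exact ⟨by rw [orderOf_inv]; exact ha3, hia.inv_right⟩
      have hcl : closure ({a, b} : Set S) = zpowers a := by
        rcases hb with rfl | rfl
        · exact closure_pair_self _
        · exact closure_pair_self_inv _
      refine ⟨⟨⟨ha3, hia⟩, hNb⟩, ?_⟩
      rintro ⟨e⟩
      have hc3 : Nat.card (closure ({a, b} : Set S)) = 3 := by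
        rw [hcl, Nat.card_zpowers, ha3]
      rw [Nat.card_congr e.toEquiv, x5_card] at hc3
      omega
  have h3 := card_split (fun ab : S × S => N ab.1 ∧ (ab.2 = ab.1 ∨ ab.2 = ab.1⁻¹))
    (fun ab => ab.2 = ab.1)
  have e3 : Nat.card {ab : S × S // (N ab.1 ∧ (ab.2 = ab.1 ∨ ab.2 = ab.1⁻¹)) ∧ ab.2 = ab.1} =
      Nat.card {a : S // N a} := by
    rw [← card_graph N (fun a => a)]
    apply card_congr_iff
    rintro ⟨a, b⟩
    constructor
    · rintro ⟨⟨h, -⟩, h'⟩; exact ⟨h, h'⟩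
    · rintro ⟨h, h'⟩; exact ⟨⟨h, Or.inl h'⟩, h'⟩
  have e4 : Nat.card {ab : S × S // (N ab.1 ∧ (ab.2 = ab.1 ∨ ab.2 = ab.1⁻¹)) ∧ ¬ ab.2 = ab.1} =
      Nat.card {a : S // N a} := by
    rw [← card_graph N (fun a => a⁻¹)]
    apply card_congr_iff
    rintro ⟨a, b⟩
    constructor
    · rintro ⟨⟨h, h' | h'⟩, h''⟩
      · exact absurd h' h''
      · exact ⟨h, h'⟩
    · rintro ⟨h, h'⟩
      refine ⟨⟨h, Or.inr h'⟩, ?_⟩
      simp only at h' ⊢
      rw [h']
      exact inv_ne_self_of_order_three h.1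
  rw [← h0, h1, e1, e2, h3, e3, e4]
  ring

/-- (E3c) -/
theorem KHyp.card_triples_planes (hk : KHyp S) :
    Nat.card {x : S × (S × S) // orderOf x.1 = 2 ∧ R3 x.1 x.2} =
      Nat.card {L : Subgroup S // Nonempty (L ≃* X5)} * 120 := by
  rw [← card_a5_pairs33, ← mul_one (Nat.card {ab : S × S // (orderOf ab.1 = 3 ∧ orderOf ab.2 = 3) ∧
      Nonempty (closure {ab.1, ab.2} ≃* X5)})]
  apply card_fiber_mul (fun x : {x : S × (S × S) // orderOf x.1 = 2 ∧ R3 x.1 x.2} =>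
    (⟨x.1.2, ⟨x.2.2.1.1, x.2.2.2.1.1⟩, x.2.2.2.2⟩ : {ab : S × S //
      (orderOf ab.1 = 3 ∧ orderOf ab.2 = 3) ∧ Nonempty (closure {ab.1, ab.2} ≃* X5)}))
  rintro ⟨⟨a, b⟩, ⟨ha3, hb3⟩, ⟨e⟩⟩
  obtain ⟨φ, hφ, hr⟩ := exists_hom_of_iso e
  have haL : a ∈ closure ({a, b} : Set S) := subset_closure (by simp)
  have hbL : b ∈ closure ({a, b} : Set S) := subset_closure (by simp)
  have haR : a ∈ φ.range := by rw [hr]; exact haL
  have hbR : b ∈ φ.range := by rw [hr]; exact hbL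
  rw [← a5_card_inverting_pair φ hφ haR hbR ha3 hb3 hr.symm]
  refine Nat.card_congr
    { toFun := fun x => ⟨x.1.1.1, ?_, x.1.2.1, ?_, ?_⟩
      invFun := fun t => ⟨⟨(t.1, (a, b)), t.2.2.1, ⟨ha3, t.2.2.2.1⟩, ⟨hb3, t.2.2.2.2⟩, ⟨e⟩⟩, rfl⟩
      left_inv := ?_
      right_inv := fun t => rfl }
  · -- `t ∈ φ.range`
    obtain ⟨⟨⟨t, ⟨a', b'⟩⟩, ht2, ⟨ha'3, hia⟩, ⟨hb'3, hib⟩, he⟩, hx⟩ := x
    have hab : (a', b') = (a, b) := congrArg Subtype.val hx
    obtain ⟨rfl, rfl⟩ := Prod.mk.inj hab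
    show t ∈ φ.range
    rw [hr]
    exact hk.mem_of_normalizes _ (by rw [← hr, a5_card φ hφ]; norm_num)
      (mul_self_of_order_two ht2) (mem_normalizer_of_inv hia hib)
  · obtain ⟨⟨⟨t, ⟨a', b'⟩⟩, ht2, ⟨ha'3, hia⟩, ⟨hb'3, hib⟩, he⟩, hx⟩ := x
    have hab : (a', b') = (a, b) := congrArg Subtype.val hx
    obtain ⟨rfl, rfl⟩ := Prod.mk.inj hab
    exact hia
  · obtain ⟨⟨⟨t, ⟨a', b'⟩⟩, ht2, ⟨ha'3, hia⟩, ⟨hb'3, hib⟩, he⟩, hx⟩ := x
    have hab : (a', b') = (a, b) := congrArg Subtype.val hx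
    obtain ⟨rfl, rfl⟩ := Prod.mk.inj hab
    exact hib
  · rintro ⟨⟨⟨t, ⟨a', b'⟩⟩, ht2, ⟨ha'3, hia⟩, ⟨hb'3, hib⟩, he⟩, hx⟩
    have hab : (a', b') = (a, b) := congrArg Subtype.val hx
    obtain ⟨rfl, rfl⟩ := Prod.mk.inj hab
    rfl

end finite

end Cfsg.Agent.Helper6.ZasK
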