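import Mathlib

/-!
# Automorphisms of abelian 2-groups acting trivially on the involutions
-/

set_option autoImplicit false
set_option linter.style.haveILetI false

namespace Cfsg.Agent.Helper6

universe u

variable {G : Type u} [Group G]

/-- If `g` normalizes the abelian subgroup `P` and centralizes all elements of `P` with
`x ^ 2 = 1`, then `g ^ (2 ^ j)` centralizes all elements of `P` with `x ^ (2 ^ (j + 1)) = 1`. -/
theorem conj_pow_fix_of_fix_omega (P : Subgroup G) (hcomm : ∀ a ∈ P, ∀ b ∈ P, a * b = b * a)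
    (g : G) (hg : g ∈ Subgroup.normalizer (P : Set G))
    (hfix : ∀ x ∈ P, x ^ 2 = 1 → g * x * g⁻¹ = x) (j : ℕ) :
    ∀ x ∈ P, x ^ (2 ^ (j + 1)) = 1 → g ^ (2 ^ j) * x * (g ^ (2 ^ j))⁻¹ = x := by
  induction j with
  | zero =>
    intro x hx hx2
    rw [pow_zero, pow_one]
    apply hfix x hx
    simpa using hx2
  | succ j ih =>
    intro x hx hx2
    set b := g ^ (2 ^ j) with hb
    have hbN : b ∈ Subgroup.normalizer (P : Set G) := Subgroup.pow_mem _ hg _
    have hbx : b * x * b⁻¹ ∈ P := (Subgroup.mem_normalizer_iff.mp hbN x).mp hx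
    have hy : b * (x ^ 2) * b⁻¹ = x ^ 2 := by
      apply ih (x ^ 2) (P.pow_mem hx 2)
      rw [← pow_mul, ← pow_succ']
      exact hx2
    set z := b * x * b⁻¹ * x⁻¹ with hz
    have hzP : z ∈ P := P.mul_mem hbx (P.inv_mem hx)
    have hz2 : z ^ 2 = 1 := by
      have hc : Commute (b * x * b⁻¹) x⁻¹ := hcomm _ hbx _ (P.inv_mem hx)
      rw [hz, hc.mul_pow, conj_pow, hy, inv_pow, mul_inv_cancel]
    have hbz : b * z * b⁻¹ = z := by
      apply ih z hzP
      rw [pow_succ', pow_mul, hz2, one_pow]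
    have hbxz : b * x * b⁻¹ = z * x := by
      rw [hz, inv_mul_cancel_right]
    have hb2 : g ^ (2 ^ (j + 1)) = b * b := by
      rw [hb, ← pow_add, pow_succ, mul_two]
    rw [hb2]
    clear_value z b
    calc b * b * x * (b * b)⁻¹ = b * (b * x * b⁻¹) * b⁻¹ := by group
      _ = b * (z * x) * b⁻¹ := by rw [hbxz]
      _ = (b * z * b⁻¹) * (b * x * b⁻¹) := by group
      _ = z * (z * x) := by rw [hbz, hbxz]
      _ = z ^ 2 * x := by rw [pow_two, mul_assoc]
      _ = x := by rw [hz2, one_mul]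

/-- Bezout for powers: if coprime powers of `g` lie in a subgroup then so does `g`. -/
theorem mem_of_pow_mem_of_coprime (C : Subgroup G) (g : G) {a b : ℕ} (hab : Nat.Coprime a b)
    (ha : g ^ a ∈ C) (hb : g ^ b ∈ C) : g ∈ C := by
  have h : IsCoprime (a : ℤ) (b : ℤ) := Nat.isCoprime_iff_coprime.mpr hab
  obtain ⟨u, v, huv⟩ := h
  have : g = (g ^ a) ^ u * (g ^ b) ^ v := by
    rw [← zpow_natCast, ← zpow_natCast, ← zpow_mul, ← zpow_mul, ← zpow_add,
      mul_comm (a : ℤ), mul_comm (b : ℤ), huv, zpow_one]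
  rw [this]
  exact C.mul_mem (C.zpow_mem ha u) (C.zpow_mem hb v)

/-- An element of odd order normalizing an abelian `2`-group of exponent `2 ^ m` and centralizing
its involutions centralizes it. -/
theorem mem_centralizer_of_fix_involutions (P : Subgroup G)
    (hcomm : ∀ a ∈ P, ∀ b ∈ P, a * b = b * a) (m : ℕ) (hm : 1 ≤ m)
    (hexp : ∀ x ∈ P, x ^ (2 ^ m) = 1) (g : G) (hg : g ∈ Subgroup.normalizer (P : Set G))
    (k : ℕ) (hk : Odd k) (hgk : g ^ k = 1)
    (hfix : ∀ x ∈ P, x ^ 2 = 1 → g * x * g⁻¹ = x) :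
    g ∈ Subgroup.centralizer (P : Set G) := by
  obtain ⟨j, rfl⟩ : ∃ j, m = j + 1 := ⟨m - 1, by omega⟩
  have h1 : g ^ (2 ^ j) ∈ Subgroup.centralizer (P : Set G) := by
    rw [Subgroup.mem_centralizer_iff]
    intro x hx
    have := conj_pow_fix_of_fix_omega P hcomm g hg hfix j x hx (hexp x hx)
    rw [mul_inv_eq_iff_eq_mul] at this
    exact this.symm
  have h2 : g ^ k ∈ Subgroup.centralizer (P : Set G) := by
    rw [hgk]
    exact Subgroup.one_mem _
  apply mem_of_pow_mem_of_coprime _ g _ h1 h2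
  apply Nat.Coprime.pow_left
  exact (Nat.coprime_two_left.mpr hk)

end Cfsg.Agent.Helper6
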