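import Mathlib
import Cfsg.Agent.Helper6.Homocyclic1

/-!
# Groups isomorphic to `Z/2^m × Z/2^m`: exponent and number of involutions
-/

set_option autoImplicit false
set_option linter.style.haveILetI false

namespace Cfsg.Agent.Helper6

universe u

theorem zmod_two_pow_add_self_eq_zero (m : ℕ) (hm : 1 ≤ m) (a : ZMod (2 ^ m)) (ha : a + a = 0) :
    a = 0 ∨ a = ((2 ^ (m - 1) : ℕ) : ZMod (2 ^ m)) := by
  obtain ⟨j, rfl⟩ : ∃ j, m = j + 1 := ⟨m - 1, by omega⟩
  haveI : NeZero (2 ^ (j + 1)) := ⟨by positivity⟩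
  obtain ⟨v, hv, hlt⟩ : ∃ v : ℕ, a = (v : ZMod (2 ^ (j + 1))) ∧ v < 2 ^ (j + 1) :=
    ⟨a.val, (ZMod.natCast_zmod_val a).symm, ZMod.val_lt a⟩
  subst hv
  have h1 : ((v + v : ℕ) : ZMod (2 ^ (j + 1))) = 0 := by
    rw [Nat.cast_add]
    exact ha
  rw [ZMod.natCast_eq_zero_iff] at h1
  have hpow : 2 ^ (j + 1) = 2 * 2 ^ j := pow_succ' 2 j
  have h2 : 2 ^ j ∣ v := by
    have : 2 * 2 ^ j ∣ 2 * v := by
      rw [← hpow, two_mul]
      exact h1
    exact (Nat.mul_dvd_mul_iff_left (by norm_num)).mp this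
  obtain ⟨c, hc⟩ := h2
  have hc2 : c < 2 := by
    by_contra hge
    push Not at hge
    have : 2 ^ j * 2 ≤ 2 ^ j * c := Nat.mul_le_mul_left _ hge
    omega
  interval_cases c
  · left
    rw [hc, mul_zero, Nat.cast_zero]
  · right
    rw [hc, mul_one, Nat.add_sub_cancel]

theorem card_sq_eq_one_le_four (m : ℕ) (hm : 1 ≤ m) :
    Nat.card {y : Multiplicative (ZMod (2 ^ m) × ZMod (2 ^ m)) // y ^ 2 = 1} ≤ 4 := by
  classical
  haveI : NeZero (2 ^ m) := ⟨by positivity⟩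
  have hcoord : ∀ y : Multiplicative (ZMod (2 ^ m) × ZMod (2 ^ m)), y ^ 2 = 1 →
      (Multiplicative.toAdd y).1 + (Multiplicative.toAdd y).1 = 0 ∧
      (Multiplicative.toAdd y).2 + (Multiplicative.toAdd y).2 = 0 := by
    intro y hy
    have h1 : (2 : ℕ) • Multiplicative.toAdd y = 0 := by
      rw [← toAdd_pow, hy, toAdd_one]
    rw [two_nsmul] at h1
    exact ⟨congrArg Prod.fst h1, congrArg Prod.snd h1⟩
  let f : {y : Multiplicative (ZMod (2 ^ m) × ZMod (2 ^ m)) // y ^ 2 = 1} → Bool × Bool :=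
    fun y => (decide ((Multiplicative.toAdd y.1).1 = 0), decide ((Multiplicative.toAdd y.1).2 = 0))
  have hf : Function.Injective f := by
    intro y y' h
    have h1 : ((Multiplicative.toAdd y.1).1 = 0 ↔ (Multiplicative.toAdd y'.1).1 = 0) := by
      have := congrArg Prod.fst h
      simpa [f] using this
    have h2 : ((Multiplicative.toAdd y.1).2 = 0 ↔ (Multiplicative.toAdd y'.1).2 = 0) := by
      have := congrArg Prod.snd h
      simpa [f] using this
    obtain ⟨ha, hb⟩ := hcoord y.1 y.2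
    obtain ⟨ha', hb'⟩ := hcoord y'.1 y'.2
    apply Subtype.ext
    apply Multiplicative.toAdd.injective
    apply Prod.ext
    · rcases zmod_two_pow_add_self_eq_zero m hm _ ha with h | h
      · rw [h, h1.mp h]
      · rcases zmod_two_pow_add_self_eq_zero m hm _ ha' with h' | h'
        · rw [h', h1.mpr h']
        · rw [h, h']
    · rcases zmod_two_pow_add_self_eq_zero m hm _ hb with h | h
      · rw [h, h2.mp h]
      · rcases zmod_two_pow_add_self_eq_zero m hm _ hb' with h' | h'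
        · rw [h', h2.mpr h']
        · rw [h, h']
  calc Nat.card {y : Multiplicative (ZMod (2 ^ m) × ZMod (2 ^ m)) // y ^ 2 = 1}
      ≤ Nat.card (Bool × Bool) := Nat.card_le_card_of_injective f hf
    _ = 4 := by simp

theorem pow_two_pow_eq_one (m : ℕ) (y : Multiplicative (ZMod (2 ^ m) × ZMod (2 ^ m))) :
    y ^ (2 ^ m) = 1 := by
  apply Multiplicative.toAdd.injective
  rw [toAdd_pow, toAdd_one]
  have h0 : ((2 ^ m : ℕ) : ZMod (2 ^ m)) = 0 := ZMod.natCast_self _
  apply Prod.ext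
  · rw [Prod.smul_fst, nsmul_eq_mul, h0, zero_mul]
    rfl
  · rw [Prod.smul_snd, nsmul_eq_mul, h0, zero_mul]
    rfl

variable {G : Type u} [Group G]

/-- Pigeonhole: in a set with at most four solutions of `x ^ 2 = 1`, three distinct involutions
exhaust the involutions. -/
theorem involution_mem_of_three {P : Type*} [Group P]
    (hcard : Nat.card {x : P // x ^ 2 = 1} ≤ 4) [Finite P] (t₁ t₂ t₃ r : P)
    (h₁ : t₁ ^ 2 = 1) (h₂ : t₂ ^ 2 = 1) (h₃ : t₃ ^ 2 = 1) (hr : r ^ 2 = 1)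
    (n₁ : t₁ ≠ 1) (n₂ : t₂ ≠ 1) (n₃ : t₃ ≠ 1) (nr : r ≠ 1)
    (d₁₂ : t₁ ≠ t₂) (d₁₃ : t₁ ≠ t₃) (d₂₃ : t₂ ≠ t₃) : r = t₁ ∨ r = t₂ ∨ r = t₃ := by
  by_contra hno
  push Not at hno
  obtain ⟨e₁, e₂, e₃⟩ := hno
  let f : Fin 5 → {x : P // x ^ 2 = 1} :=
    ![⟨1, one_pow 2⟩, ⟨t₁, h₁⟩, ⟨t₂, h₂⟩, ⟨t₃, h₃⟩, ⟨r, hr⟩]
  have hf : Function.Injective f := by
    intro i j h
    fin_cases i <;> fin_cases j <;> simp [f, Subtype.ext_iff] at h ⊢ <;>
      first
        | exact absurd h n₁ | exact absurd h.symm n₁ | exact absurd h n₂ | exact absurd h.symm n₂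
        | exact absurd h n₃ | exact absurd h.symm n₃ | exact absurd h nr | exact absurd h.symm nr
        | exact absurd h d₁₂ | exact absurd h.symm d₁₂ | exact absurd h d₁₃
        | exact absurd h.symm d₁₃ | exact absurd h d₂₃ | exact absurd h.symm d₂₃
        | exact absurd h e₁ | exact absurd h.symm e₁ | exact absurd h e₂ | exact absurd h.symm e₂
        | exact absurd h e₃ | exact absurd h.symm e₃
  have := Nat.card_le_card_of_injective f hf
  rw [Nat.card_fin] at this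
  omega

end Cfsg.Agent.Helper6
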