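import Mathlib
import Cfsg.Agent.Helper6.Homocyclic2

/-!
# Sylow `2`-subgroups isomorphic to `Z/2^m × Z/2^m`
-/

set_option autoImplicit false
set_option linter.style.haveILetI false

namespace Cfsg.Agent.Helper6

universe u

variable {G : Type u} [Group G]

theorem isPGroup_zpowers_of_pow_eq_one {p : ℕ} (x : G) (a : ℕ) (hxa : x ^ (p ^ a) = 1) :
    IsPGroup p (Subgroup.zpowers x) := by
  rintro ⟨y, hy⟩
  obtain ⟨i, rfl⟩ := Subgroup.mem_zpowers_iff.mp hy
  refine ⟨a, ?_⟩
  apply Subtype.ext
  simp only [Subgroup.coe_pow, Subgroup.coe_one]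
  rw [← zpow_natCast, ← zpow_mul, mul_comm, zpow_mul, zpow_natCast, hxa, one_zpow]

/-- `p`-elements of the normalizer of a Sylow `p`-subgroup lie in it. -/
theorem mem_sylow_of_mem_normalizer [Finite G] {p : ℕ} [Fact p.Prime] (P : Sylow p G) (x : G)
    (hx : x ∈ Subgroup.normalizer ((P : Subgroup G) : Set G)) (a : ℕ) (hxa : x ^ (p ^ a) = 1) :
    x ∈ (P : Subgroup G) := by
  have hZ := isPGroup_zpowers_of_pow_eq_one (p := p) x a hxa
  have hle : Subgroup.zpowers x ≤ Subgroup.normalizer ((P : Subgroup G) : Set G) :=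
    (Subgroup.zpowers_le).mpr hx
  have hsup : IsPGroup p ((P : Subgroup G) ⊔ Subgroup.zpowers x : Subgroup G) :=
    IsPGroup.to_sup_of_normal_left' P.isPGroup' hZ hle
  have h := P.is_maximal' hsup le_sup_left
  have h2 : x ∈ (P : Subgroup G) ⊔ Subgroup.zpowers x :=
    (le_sup_right : Subgroup.zpowers x ≤ _) (Subgroup.mem_zpowers x)
  rw [h] at h2
  exact h2

/-- Every `p`-element is conjugate into a given Sylow `p`-subgroup. -/
theorem exists_conj_mem_sylow [Finite G] {p : ℕ} [Fact p.Prime] (P : Sylow p G) (s : G) (a : ℕ)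
    (hs : s ^ (p ^ a) = 1) : ∃ x : G, x * s * x⁻¹ ∈ (P : Subgroup G) := by
  have hZ := isPGroup_zpowers_of_pow_eq_one (p := p) s a hs
  obtain ⟨Q, hQ⟩ := hZ.exists_le_sylow
  obtain ⟨x, hx⟩ := MulAction.exists_smul_eq G Q P
  refine ⟨x, ?_⟩
  rw [← hx, Sylow.coe_subgroup_smul, Subgroup.mem_pointwise_smul_iff_inv_smul_mem]
  simp only [MulAut.smul_def, MulAut.conj_inv_apply]
  have : x⁻¹ * (x * s * x⁻¹) * x = s := by group
  rw [this]
  exact hQ (Subgroup.mem_zpowers s)

/-- The main dichotomy. -/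
theorem homocyclic_sylow_two [Finite G] (P : Sylow 2 G) (m : ℕ) (hm : 1 ≤ m)
    (e : (P : Subgroup G) ≃* Multiplicative (ZMod (2 ^ m) × ZMod (2 ^ m))) :
    (∃ N : Subgroup G, N.Normal ∧ Subgroup.IsComplement' N (P : Subgroup G)) ∨
      ∀ s t : G, orderOf s = 2 → orderOf t = 2 → IsConj s t := by
  classical
  -- basic facts on `P`
  have hcommP : ∀ a b : (P : Subgroup G), a * b = b * a := by
    intro a b
    apply e.injective
    rw [map_mul, map_mul, mul_comm]
  have hcomm : ∀ a ∈ (P : Subgroup G), ∀ b ∈ (P : Subgroup G), a * b = b * a := by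
    intro a ha b hb
    exact congrArg Subtype.val (hcommP ⟨a, ha⟩ ⟨b, hb⟩)
  have hexp : ∀ x ∈ (P : Subgroup G), x ^ (2 ^ m) = 1 := by
    intro x hx
    have h1 : (⟨x, hx⟩ : (P : Subgroup G)) ^ (2 ^ m) = 1 := by
      apply e.injective
      rw [map_pow, map_one]
      exact pow_two_pow_eq_one m _
    exact congrArg Subtype.val h1
  have hcard : Nat.card {x : (P : Subgroup G) // x ^ 2 = 1} ≤ 4 := by
    have h1 : Nat.card {x : (P : Subgroup G) // x ^ 2 = 1} =
        Nat.card {y : Multiplicative (ZMod (2 ^ m) × ZMod (2 ^ m)) // y ^ 2 = 1} := by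
      apply Nat.card_congr
      apply Equiv.subtypeEquiv e.toEquiv
      intro x
      constructor
      · intro h
        change (e x) ^ 2 = 1
        rw [← map_pow, h, map_one]
      · intro h
        change (e x) ^ 2 = 1 at h
        apply e.injective
        rw [map_pow, h, map_one]
    rw [h1]
    exact card_sq_eq_one_le_four m hm
  by_cases hNC : Subgroup.normalizer ((P : Subgroup G) : Set G) ≤
      Subgroup.centralizer ((P : Subgroup G) : Set G)
  · left
    exact ⟨(MonoidHom.transferSylow P hNC).ker, MonoidHom.normal_ker _,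
      MonoidHom.ker_transferSylow_isComplement' P hNC⟩
  · right
    rw [SetLike.not_le_iff_exists] at hNC
    obtain ⟨g, hgN, hgC⟩ := hNC
    -- pass to the odd part of `g`
    obtain ⟨a, k, hkodd, hak⟩ := Nat.exists_eq_two_pow_mul_odd (orderOf_pos g).ne'
    set g₁ := g ^ (2 ^ a) with hg₁
    have hg₁k : g₁ ^ k = 1 := by
      rw [hg₁, ← pow_mul, ← hak, pow_orderOf_eq_one]
    have hg₁N : g₁ ∈ Subgroup.normalizer ((P : Subgroup G) : Set G) := Subgroup.pow_mem _ hgN _
    have hg₁C : g₁ ∉ Subgroup.centralizer ((P : Subgroup G) : Set G) := by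
      intro hmem
      apply hgC
      have h2 : g ^ k ∈ (P : Subgroup G) := by
        apply mem_sylow_of_mem_normalizer P (g ^ k) (Subgroup.pow_mem _ hgN _) a
        rw [← pow_mul, mul_comm, ← hak, pow_orderOf_eq_one]
      have h3 : g ^ k ∈ Subgroup.centralizer ((P : Subgroup G) : Set G) := by
        rw [Subgroup.mem_centralizer_iff]
        intro x hx
        exact hcomm x hx _ h2
      apply mem_of_pow_mem_of_coprime _ g _ hmem h3
      apply Nat.Coprime.pow_left
      exact Nat.coprime_two_left.mpr hkodd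
    -- an involution moved by `g₁`
    have hmoved : ∃ t ∈ (P : Subgroup G), t ^ 2 = 1 ∧ g₁ * t * g₁⁻¹ ≠ t := by
      by_contra hno
      push Not at hno
      exact hg₁C (mem_centralizer_of_fix_involutions (P : Subgroup G) hcomm m hm hexp g₁ hg₁N k
        hkodd hg₁k hno)
    obtain ⟨t, htP, ht2, htmv⟩ := hmoved
    have ht1 : t ≠ 1 := by
      intro h
      apply htmv
      rw [h]
      group
    set t' := g₁ * t * g₁⁻¹ with ht'
    set t'' := g₁ * t' * g₁⁻¹ with ht''
    have conjP : ∀ x ∈ (P : Subgroup G), g₁ * x * g₁⁻¹ ∈ (P : Subgroup G) :=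
      fun x hx => (Subgroup.mem_normalizer_iff.mp hg₁N x).mp hx
    have ht'P : t' ∈ (P : Subgroup G) := conjP t htP
    have ht''P : t'' ∈ (P : Subgroup G) := conjP t' ht'P
    have conj2 : ∀ x : G, x ^ 2 = 1 → (g₁ * x * g₁⁻¹) ^ 2 = 1 := by
      intro x hx
      rw [conj_pow, hx]
      group
    have conj1 : ∀ x : G, x ≠ 1 → g₁ * x * g₁⁻¹ ≠ 1 := by
      intro x hx h
      apply hx
      have : x = g₁⁻¹ * (g₁ * x * g₁⁻¹) * g₁ := by group
      rw [this, h]
      group
    have conjinj : ∀ x y : G, g₁ * x * g₁⁻¹ = g₁ * y * g₁⁻¹ → x = y := by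
      intro x y h
      have hx : x = g₁⁻¹ * (g₁ * x * g₁⁻¹) * g₁ := by group
      have hy : y = g₁⁻¹ * (g₁ * y * g₁⁻¹) * g₁ := by group
      rw [hx, hy, h]
    have ht'2 : t' ^ 2 = 1 := conj2 t ht2
    have ht''2 : t'' ^ 2 = 1 := conj2 t' ht'2
    have ht'1 : t' ≠ 1 := conj1 t ht1
    have ht''1 : t'' ≠ 1 := conj1 t' ht'1
    have d1 : t ≠ t' := fun h => htmv h.symm
    have d2 : t' ≠ t'' := by
      intro h
      exact d1 (conjinj t t' h)
    have d3 : t ≠ t'' := by
      intro h
      -- `g₁ ^ 2` centralizes `t`, hence so does `g₁`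
      have h1 : g₁ ^ 2 ∈ Subgroup.centralizer ({t} : Set G) := by
        rw [Subgroup.mem_centralizer_iff]
        intro x hx
        rw [Set.mem_singleton_iff] at hx
        subst hx
        have : g₁ ^ 2 * x * (g₁ ^ 2)⁻¹ = x := by
          have h5 : g₁ ^ 2 * x * (g₁ ^ 2)⁻¹ = g₁ * (g₁ * x * g₁⁻¹) * g₁⁻¹ := by
            rw [pow_two, _root_.mul_inv_rev]
            simp only [mul_assoc]
          rw [h5]
          exact h.symm
        rw [mul_inv_eq_iff_eq_mul] at this
        exact this.symm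
      have h2 : g₁ ^ k ∈ Subgroup.centralizer ({t} : Set G) := by
        rw [hg₁k]
        exact Subgroup.one_mem _
      have h3 : g₁ ∈ Subgroup.centralizer ({t} : Set G) :=
        mem_of_pow_mem_of_coprime _ g₁ (Nat.coprime_two_left.mpr hkodd) h1 h2
      rw [Subgroup.mem_centralizer_iff] at h3
      have h4 := h3 t (Set.mem_singleton t)
      apply htmv
      rw [ht', ← h4]
      group
    -- every involution of `P` is conjugate to `t`
    have hPconj : ∀ r ∈ (P : Subgroup G), orderOf r = 2 → IsConj t r := by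
      intro r hrP hr
      have hr2 : r ^ 2 = 1 := by rw [← hr, pow_orderOf_eq_one]
      have hr1 : r ≠ 1 := by
        intro h
        rw [h, orderOf_one] at hr
        omega
      have := involution_mem_of_three hcard ⟨t, htP⟩ ⟨t', ht'P⟩ ⟨t'', ht''P⟩ ⟨r, hrP⟩
        (Subtype.ext ht2) (Subtype.ext ht'2) (Subtype.ext ht''2) (Subtype.ext hr2)
        (fun h => ht1 (congrArg Subtype.val h)) (fun h => ht'1 (congrArg Subtype.val h))
        (fun h => ht''1 (congrArg Subtype.val h)) (fun h => hr1 (congrArg Subtype.val h))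
        (fun h => d1 (congrArg Subtype.val h)) (fun h => d3 (congrArg Subtype.val h))
        (fun h => d2 (congrArg Subtype.val h))
      have hc1 : IsConj t t' := isConj_iff.mpr ⟨g₁, rfl⟩
      have hc2 : IsConj t' t'' := isConj_iff.mpr ⟨g₁, rfl⟩
      rcases this with h | h | h
      · have : r = t := congrArg Subtype.val h
        rw [this]
      · have : r = t' := congrArg Subtype.val h
        rw [this]
        exact hc1
      · have : r = t'' := congrArg Subtype.val h
        rw [this]
        exact hc1.trans hc2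
    -- every involution of `G` is conjugate to `t`
    have hGconj : ∀ s : G, orderOf s = 2 → IsConj t s := by
      intro s hs
      have hs2 : s ^ (2 ^ 1) = 1 := by rw [pow_one, ← hs, pow_orderOf_eq_one]
      obtain ⟨x, hx⟩ := exists_conj_mem_sylow P s 1 hs2
      have hord : orderOf (x * s * x⁻¹) = 2 := by
        rw [← hs]
        exact (MulAut.conj x).orderOf_eq s
      have h1 := hPconj _ hx hord
      have h2 : IsConj s (x * s * x⁻¹) := isConj_iff.mpr ⟨x, rfl⟩
      exact h1.trans h2.symm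
    intro s s' hs hs'
    exact (hGconj s hs).symm.trans (hGconj s' hs')

end Cfsg.Agent.Helper6
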