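import Mathlib
import Cfsg.Agent.Helper6.ZasK9
import Cfsg.Agent.Helper8.ZasBr

set_option autoImplicit false

/-!
# Zassenhaus project, Klein case: arithmetic and the final theorem `klein_thm`
-/

namespace Cfsg.Agent.Helper6.ZasK

open Subgroup Cfsg.Agent.Helper2 Cfsg.Agent.Helper6.Zas Cfsg.Agent.Helper6.ZasAlt

/-- the arithmetic of the counting argument, over `ℤ` -/
theorem klein_arith_int (g A I Sy Pl ψ ν j c k u Θ θ : ℤ) (hg : 0 < g) (hI0 : 0 < I)
    (hA0 : 0 < A) (hu0 : 0 < u) (hc0 : 0 < c)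
    (h1 : 12 * Sy = g) (hE1 : A * A = 2 * A + 48 * Sy + 120 * Pl)
    (hE2 : I * A = ψ + 24 * Sy + 120 * Pl) (hψt : ψ = I * ν) (hψa : ψ = A * j)
    (hjk : j * k = c) (hA : A * c = g) (hI : I * (4 * u) = g) (hΘt : Θ = I * θ)
    (hθ : θ + 2 * ν = ν * ν) (hΘp : Θ = Pl * 120) (hk : k = 1 ∨ k = u) :
    g = 4 * u * (16 * u ^ 2 - 1) := by
  -- step 1
  have s1 : ν * k = 4 * u := by
    have : I * (ν * k) = I * (4 * u) := by
      linear_combination (-k) * hψt + k * hψa + A * hjk + hA - hI
    exact mul_left_cancel₀ hI0.ne' this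
  -- step 2
  have s2 : A = ν * ν - ν + 8 * u := by
    have : I * A = I * (ν * ν - ν + 8 * u) := by
      linear_combination hE2 + hψt + 2 * h1 - 2 * hI - hΘp + hΘt + I * hθ
    exact mul_left_cancel₀ hI0.ne' this
  -- step 3
  have s3 : 4 * u * A = 8 * u + 16 * u * c + c * (ν * ν - 2 * ν) := by
    have : A * (4 * u * A) = A * (8 * u + 16 * u * c + c * (ν * ν - 2 * ν)) := by
      linear_combination (4 * u) * hE1 + (16 * u) * h1 - (16 * u + θ) * hA - (4 * u) * hΘp +
        (4 * u) * hΘt + θ * hI + (A * c) * hθ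
    exact mul_left_cancel₀ hA0.ne' this
  -- `k = 1`
  have hk1 : k = 1 := by
    rcases hk with h | h
    · exact h
    · rw [h] at s1
      have hν : ν = 4 := by
        have : u * ν = u * 4 := by linear_combination s1
        exact mul_left_cancel₀ hu0.ne' this
      rw [hν] at s2 s3
      have h4 : (2 * u + 1) * (c - (2 * u + 1)) = u - 1 := by
        rw [s2] at s3
        have h8 : (8 : ℤ) * ((2 * u + 1) * (c - (2 * u + 1))) = 8 * (u - 1) := by
          linear_combination (-1 : ℤ) * s3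
        exact mul_left_cancel₀ (by norm_num) h8
      have hu1 : u = 1 := by
        by_contra hne
        have hu2 : 2 ≤ u := by omega
        rcases lt_trichotomy (c - (2 * u + 1)) 0 with h5 | h5 | h5
        · nlinarith
        · rw [h5] at h4; omega
        · nlinarith
      rw [h, hu1]
  rw [hk1, mul_one] at s1
  rw [s1] at s2 s3
  have h5 : (2 * u + 1) * c = (2 * u + 1) * (4 * u - 1) := by
    have : (8 * u) * ((2 * u + 1) * c) = (8 * u) * ((2 * u + 1) * (4 * u - 1)) := by
      rw [s2] at s3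
      linear_combination (-1 : ℤ) * s3
    exact mul_left_cancel₀ (by omega) this
  have hc : c = 4 * u - 1 := mul_left_cancel₀ (by omega) h5
  rw [← hA, s2, hc]
  ring

/-- the arithmetic of the counting argument -/
theorem klein_arith (g A I Sy Pl ψ ν j c k u Θ θ : ℕ) (hg : 0 < g)
    (h1 : 12 * Sy = g) (hE1 : A * A = 2 * A + 48 * Sy + 120 * Pl)
    (hE2 : I * A = ψ + 24 * Sy + 120 * Pl) (hψt : ψ = I * ν) (hψa : ψ = A * j)
    (hjk : j * k = c) (hA : A * c = g) (hI : I * (4 * u) = g) (hΘt : Θ = I * θ)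
    (hθ : θ + 2 * ν = ν * ν) (hΘp : Θ = Pl * 120) (hk : k = 1 ∨ k = u) :
    g = 4 * u * (16 * u ^ 2 - 1) := by
  have hI0 : 0 < I := by
    rcases Nat.eq_zero_or_pos I with h | h
    · rw [h, zero_mul] at hI; omega
    · exact h
  have hu0 : 0 < u := by
    rcases Nat.eq_zero_or_pos u with h | h
    · rw [h] at hI; simp at hI; omega
    · exact h
  have hA0 : 0 < A := by
    rcases Nat.eq_zero_or_pos A with h | h
    · rw [h, zero_mul] at hA; omega
    · exact h
  have hc0 : 0 < c := by
    rcases Nat.eq_zero_or_pos c with h | h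
    · rw [h, mul_zero] at hA; omega
    · exact h
  have key := klein_arith_int (g : ℤ) A I Sy Pl ψ ν j c k u Θ θ (by exact_mod_cast hg)
    (by exact_mod_cast hI0) (by exact_mod_cast hA0) (by exact_mod_cast hu0)
    (by exact_mod_cast hc0) (by exact_mod_cast h1) (by exact_mod_cast hE1)
    (by exact_mod_cast hE2) (by exact_mod_cast hψt) (by exact_mod_cast hψa)
    (by exact_mod_cast hjk) (by exact_mod_cast hA) (by exact_mod_cast hI)
    (by exact_mod_cast hΘt) (by exact_mod_cast hθ) (by exact_mod_cast hΘp)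
    (by rcases hk with h | h
        · left; exact_mod_cast h
        · right; exact_mod_cast h)
  have h16 : 1 ≤ 16 * u ^ 2 := by nlinarith
  zify [h16]
  exact key

/-- **PIECE SK**: a non-abelian finite simple group with `8 ∤ |S|` satisfying `SHyp` has order 60. -/
theorem klein_thm {S : Type*} [Group S] [Finite S] [IsSimpleGroup S]
    (hna : ¬ IsMulCommutative S) (h2 : 2 ∣ Nat.card S) (h8 : ¬ 8 ∣ Nat.card S) (hS : SHyp S) :
    Nat.card S = 60 := by
  have hk : KHyp S := ⟨hna, h2, h8⟩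
  haveI : Fact (Nat.Prime 2) := ⟨Nat.prime_two⟩
  haveI : Fact (Nat.Prime 3) := ⟨Nat.prime_three⟩
  obtain ⟨a₀, ha3⟩ := exists_prime_orderOf_dvd_card' 3 hk.three_dvd
  obtain ⟨t₀, ht2, hinv⟩ := hk.exists_inverting hS ha3
  have htt := mul_self_of_order_two ht2
  obtain ⟨T, htT⟩ := exists_sylow_mem htt
  have hTC : (T : Subgroup S) ≤ centralizer ({t₀} : Set S) := by
    intro x hx
    rw [mem_centralizer_singleton_iff]
    exact klein_comm _ (hk.klein T) hx htT
  have h4 : 4 ∣ Nat.card (centralizer ({t₀} : Set S)) := by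
    rw [← hk.card_sylow T]; exact Subgroup.card_dvd_of_le hTC
  obtain ⟨u, hu⟩ := h4
  have hodd : Odd u := by
    by_contra h
    rw [Nat.not_odd_iff_even] at h
    obtain ⟨v, hv⟩ := h
    apply hk.h8
    have h8' : 8 ∣ Nat.card (centralizer ({t₀} : Set S)) := ⟨v, by rw [hu, hv]; ring⟩
    exact h8'.trans (Subgroup.card_subgroup_dvd_card _)
  have hinv' : Inv t₀ a₀ := hinv
  have hcard : Nat.card S = 4 * u * (16 * u ^ 2 - 1) :=
    klein_arith (Nat.card S) (Nat.card {a : S // orderOf a = 3}) (Nat.card {t : S // orderOf t = 2})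
      (Nat.card (Sylow 2 S)) (Nat.card {L : Subgroup S // Nonempty (L ≃* X5)})
      (Nat.card {ta : S × S // orderOf ta.1 = 2 ∧ orderOf ta.2 = 3 ∧
        ta.1 * ta.2 * ta.1⁻¹ = ta.2⁻¹})
      (Nat.card {a : S // orderOf a = 3 ∧ Inv t₀ a})
      (Nat.card {t : S // orderOf t = 2 ∧ Inv t a₀})
      (Nat.card (centralizer ({a₀} : Set S)))
      (Nat.card (centralizer ({a₀} : Set S) ⊓ centralizer ({t₀} : Set S) : Subgroup S))
      u
      (Nat.card {x : S × (S × S) // orderOf x.1 = 2 ∧ R3 x.1 x.2})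
      (Nat.card {ab : S × S // R3 t₀ ab})
      Nat.card_pos (hk.card_eq_twelve_mul hS) (hk.count_E1 hS) (hk.count_E2 hS)
      (hk.card_flags_t ht2) (hk.card_flags_a hS ha3) (hk.card_inverting_mul hS ha3 ht2 hinv')
      (hk.card_three_mul hS ha3) (by rw [← hu]; exact hk.card_two_mul ht2)
      (hk.card_triples_t ht2) (hk.card_R3 hS ht2) hk.card_triples_planes
      (hk.card_inf_centralizer hS ht2 ha3 hinv u hu)
  have hu1 : u = 1 := by
    refine Cfsg.Agent.Helper8.ZasBr.klein_brauer_endgame T (hk.klein T)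
      (fun s t hs ht => hk.invol_conj hs ht) u hodd hcard ?_ t₀ htT ht2 hu ?_
    · rintro ⟨N, hN, hNc⟩
      have hu0 : 1 ≤ u := hodd.pos
      have h16 : 1 ≤ 16 * u ^ 2 := by nlinarith
      have hpos : 0 < u * (16 * u ^ 2 - 1) := by
        have : 0 < 16 * u ^ 2 - 1 := by
          have : 16 ≤ 16 * u ^ 2 := by nlinarith
          omega
        positivity
      rcases hN.eq_bot_or_eq_top with h | h
      · rw [h, card_bot] at hNc
        -- `u (16 u² - 1) = 1` is impossible
        have h15 : 15 ≤ 16 * u ^ 2 - 1 := by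
          have : 16 ≤ 16 * u ^ 2 := by nlinarith
          omega
        have : 15 ≤ u * (16 * u ^ 2 - 1) := by nlinarith
        omega
      · rw [h, card_top, hcard] at hNc
        have h4w : 4 * (u * (16 * u ^ 2 - 1)) = u * (16 * u ^ 2 - 1) := by
          rw [← mul_assoc]; exact hNc
        generalize u * (16 * u ^ 2 - 1) = w at h4w hpos
        omega
    · rw [hk.centralizer_eq hS T, hk.card_sylow T]
  rw [hcard, hu1]
  norm_num

end Cfsg.Agent.Helper6.ZasK
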