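import Mathlib
import Cfsg.Agent.Helper6.ZasK10
import Cfsg.Agent.Helper2.ZasSD
import Cfsg.Agent.Helper1.ZasG3D
import Cfsg.Agent.Helper3.ZasG3c
import Cfsg.Agent.Helper5.ZasG4B

set_option autoImplicit false

/-!
# Zassenhaus project, G-side: the main induction (assembly)

`main_induction_of`: the main induction, with the pieces G1, G2, G3b as hypotheses.
-/

namespace Cfsg.Agent.Helper6.ZasGM

open Subgroup Cfsg.Agent.Helper6.Zas Cfsg.Agent.Helper6.ZasG
open scoped commutatorElement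

universe u

variable {G₀ : Type u} [Group G₀]

theorem commutator_self_le (G : Subgroup G₀) : ⁅G, G⁆ ≤ G :=
  Subgroup.commutator_le.mpr (fun g₁ h₁ g₂ h₂ => by
    rw [commutatorElement_def]
    exact G.mul_mem (G.mul_mem (G.mul_mem h₁ h₂) (G.inv_mem h₁)) (G.inv_mem h₂))

theorem threeGen_idem (X : Subgroup G₀) : threeGen (threeGen X) = threeGen X := by
  apply le_antisymm (ZasK.threeGen_le _)
  unfold threeGen
  rw [Subgroup.closure_le]
  rintro g ⟨hg, hg3⟩
  exact Subgroup.subset_closure ⟨Subgroup.subset_closure ⟨hg, hg3⟩, hg3⟩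

theorem map_commutator_subtype (G : Subgroup G₀) : (commutator ↥G).map G.subtype = ⁅G, G⁆ := by
  rw [commutator_def, Subgroup.map_commutator, ← MonoidHom.range_eq_map, Subgroup.range_subtype]

/-- if the derived subgroup is solvable, so is the group -/
theorem solvable_of_commutator (G : Subgroup G₀) (h : Group.IsSolvable ↥⁅G, G⁆) :
    Group.IsSolvable ↥G := by
  refine Group.isSolvable_of_ker_le_range (Subgroup.inclusion (commutator_self_le G))
    (Abelianization.of (G := ↥G)) ?_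
  intro x hx
  rw [Abelianization.ker_of] at hx
  have hx' : (x : G₀) ∈ ⁅G, G⁆ := by
    rw [← map_commutator_subtype]
    exact ⟨x, hx, rfl⟩
  exact ⟨⟨x, hx'⟩, Subtype.ext rfl⟩

/-- a non-solvable finite subgroup contains a non-trivial perfect subgroup -/
theorem exists_perfect_le [Finite G₀] (D : Subgroup G₀) (hns : ¬ Group.IsSolvable ↥D) :
    ∃ K : Subgroup G₀, K ≤ D ∧ ⁅K, K⁆ = K ∧ K ≠ ⊥ := by
  rw [Group.isSolvable_iff_commutator_lt] at hns
  push Not at hns
  obtain ⟨H, hH, hlt⟩ := hns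
  have hle : ⁅H, H⁆ ≤ H := commutator_self_le H
  have heq : ⁅H, H⁆ = H := by
    by_contra hne
    exact hlt (lt_of_le_of_ne hle hne)
  refine ⟨H.map D.subtype, Subgroup.map_subtype_le H, ?_, ?_⟩
  · rw [← Subgroup.map_commutator, heq]
  · rw [Ne, Subgroup.map_eq_bot_iff_of_injective _ D.subtype_injective]
    exact hH

/-- conjugation by elements of `G` preserves `⁅G, G⁆` -/
theorem conj_mem_commutator_self (G : Subgroup G₀) {g x : G₀} (hg : g ∈ G) (hx : x ∈ ⁅G, G⁆) :
    g * x * g⁻¹ ∈ ⁅G, G⁆ := by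
  have h1 : ⁅g, x⁆ ∈ ⁅G, G⁆ := Subgroup.commutator_mem_commutator hg (commutator_self_le G hx)
  have h2 : g * x * g⁻¹ = ⁅g, x⁆ * x := by rw [commutatorElement_def]; group
  rw [h2]
  exact Subgroup.mul_mem _ h1 hx

/-- if the derived subgroup of `G` contains a subgroup of order 120, it contains all the elements of
order 3 of `G` -/
theorem threeGen_le_commutator [Finite G₀] (hZ : ZData G₀) (G K : Subgroup G₀) (hK : K ≤ ⁅G, G⁆)
    (hcard : Nat.card K = 120) : threeGen G ≤ ⁅G, G⁆ := by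
  haveI : Fact (Nat.Prime 3) := ⟨Nat.prime_three⟩
  obtain ⟨a, ha3⟩ := exists_prime_orderOf_dvd_card' (G := ↥K) 3 (by rw [hcard]; norm_num)
  have ha3' : orderOf (a : G₀) = 3 := by rw [Subgroup.orderOf_coe]; exact ha3
  have haD : (a : G₀) ∈ ⁅G, G⁆ := hK a.2
  have haG : (a : G₀) ∈ G := commutator_self_le G haD
  have hcyc : ∀ P : Sylow 3 G₀, IsCyclic P :=
    fun P => Cfsg.Agent.Helper1.ZasG.sylow_cyclic_of_odd hZ (by norm_num) P
  unfold threeGen
  rw [Subgroup.closure_le]
  rintro b ⟨hbG, hb3⟩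
  by_cases hb1 : b = 1
  · rw [hb1]; exact Subgroup.one_mem _
  have hbo : orderOf b = 3 := orderOf_eq_prime hb3 hb1
  obtain ⟨g, hgG, hg⟩ := ZasK.exists_conj_mem_zpowers hcyc G hbG haG hbo ha3'
  have h1 : g * b * g⁻¹ ∈ ⁅G, G⁆ := (Subgroup.zpowers_le.mpr haD) hg
  have h2 := conj_mem_commutator_self G (G.inv_mem hgG) h1
  have h3 : g⁻¹ * (g * b * g⁻¹) * g⁻¹⁻¹ = b := by group
  rw [h3] at h2
  exact h2

end Cfsg.Agent.Helper6.ZasGM
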