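import Mathlib
import Cfsg.Agent.Helper6.ZasGMainA
import Cfsg.Agent.Helper3.ZasG3b

set_option autoImplicit false

/-!
# Zassenhaus project, G-side: the quasisimple case has order 120
-/

namespace Cfsg.Agent.Helper6.ZasGM

open Subgroup Cfsg.Agent.Helper6.Zas Cfsg.Agent.Helper6.ZasG
open scoped commutatorElement

universe u

variable {G₀ : Type u} [Group G₀]

/-- a central cyclic subgroup is normal -/
theorem zpowers_normal_of_central {Γ : Type*} [Group Γ] (z : Γ) (hzc : ∀ g : Γ, g * z = z * g) :
    (zpowers z).Normal := by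
  constructor
  intro n hn g
  have hc : ∀ g : Γ, Commute g z := hzc
  obtain ⟨k, rfl⟩ := Subgroup.mem_zpowers_iff.mp hn
  have : g * z ^ k * g⁻¹ = z ^ k := by
    rw [((hc g).zpow_right k).eq, mul_inv_cancel_right]
  rw [this]
  exact Subgroup.zpow_mem_zpowers z k

/-- a finite group all of whose Sylow subgroups for odd primes are cyclic has even order or is
solvable -/
theorem solvable_of_odd_card {S : Type*} [Group S] [Finite S]
    (hodd : ∀ (p : ℕ) [Fact p.Prime], p ≠ 2 → ∀ P : Sylow p S, IsCyclic P)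
    (h2 : ¬ 2 ∣ Nat.card S) : Group.IsSolvable S := by
  haveI : IsZGroup S := by
    constructor
    intro p hp P
    haveI : Fact p.Prime := ⟨hp⟩
    by_cases hp2 : p = 2
    · subst hp2
      have hcard : Nat.card (P : Subgroup S) = 1 := by
        obtain ⟨n, hn⟩ := IsPGroup.iff_card.mp P.isPGroup'
        rcases Nat.eq_zero_or_pos n with h0 | h0
        · rw [hn, h0, pow_zero]
        · exfalso
          apply h2
          have h1 : 2 ∣ Nat.card (P : Subgroup S) := by rw [hn]; exact dvd_pow_self 2 h0.ne'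
          exact h1.trans (Subgroup.card_subgroup_dvd_card _)
      haveI : Subsingleton (P : Subgroup S) := (Nat.card_eq_one_iff_unique.mp hcard).1
      infer_instance
    · exact hodd p hp2 P
  infer_instance

/-- the perfect quasisimple case: `|G| = 120` -/
theorem card_of_qsimple [Finite G₀] (hZ : ZData G₀) (G : Subgroup G₀) (hperf : ⁅G, G⁆ = G)
    (z : G₀) (hq : QSimple G z) (hM : ∀ H : Subgroup G₀, H < G → MProp H) :
    Nat.card G = 120 := by
  obtain ⟨hzG, hz2, hzc, hqs⟩ := hq
  set z' : G := ⟨z, hzG⟩ with hz'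
  have hz2' : orderOf z' = 2 := by rw [hz', Subgroup.orderOf_mk]; exact hz2
  have hzc' : ∀ g : G, g * z' = z' * g := fun g => Subtype.ext (hzc g.1 g.2)
  haveI hn : (zpowers z').Normal := zpowers_normal_of_central z' hzc'
  have hperf' : commutator ↥G = ⊤ := Cfsg.Agent.Helper5.ZasG4.commutator_eq_top_of_perfect G hperf
  set π := QuotientGroup.mk' (zpowers z') with hπdef
  have hπ : Function.Surjective π := QuotientGroup.mk'_surjective _
  have hker : π.ker = zpowers z' := QuotientGroup.ker_mk' _
  have hZΓ : ZData ↥G := Cfsg.Agent.Helper1.ZasG.zdata_subgroup hZ G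
  have hMΓ : ∀ H : Subgroup ↥G, H ≠ ⊤ → MProp H := by
    intro H hH
    apply Cfsg.Agent.Helper1.ZasG.mprop_subgroup G H
    apply hM
    refine lt_of_le_of_ne (Subgroup.map_subtype_le H) ?_
    intro heq
    apply hH
    rw [eq_top_iff]
    intro x _
    have hx : (x : G₀) ∈ H.map G.subtype := by rw [heq]; exact x.2
    obtain ⟨y, hy, hyx⟩ := hx
    have : y = x := Subtype.ext hyx
    rw [← this]; exact hy
  have hS : SHyp (↥G ⧸ zpowers z') :=
    Cfsg.Agent.Helper1.ZasG.shyp_of_quotient hZΓ z' hz2' hzc' π hπ hker hMΓ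
  have hcardΓ : Nat.card ↥G = 2 * Nat.card (↥G ⧸ zpowers z') := by
    rw [Subgroup.card_eq_card_quotient_mul_card_subgroup (zpowers z'), Nat.card_zpowers, hz2',
      mul_comm]
  -- `S` is non-trivial
  haveI hnt : Nontrivial (↥G ⧸ zpowers z') := by
    by_contra hnn
    rw [not_nontrivial_iff_subsingleton] at hnn
    have hall : ∀ g : G, g ∈ zpowers z' := by
      intro g
      rw [← hker, MonoidHom.mem_ker]
      exact Subsingleton.elim _ _
    have hcomm : commutator ↥G = ⊥ := by
      rw [_root_.commutator_def, Subgroup.commutator_eq_bot_iff_le_centralizer]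
      intro g _
      rw [Subgroup.mem_centralizer_iff]
      intro h _
      obtain ⟨i, hi⟩ := Subgroup.mem_zpowers_iff.mp (hall g)
      obtain ⟨j, hj⟩ := Subgroup.mem_zpowers_iff.mp (hall h)
      rw [← hi, ← hj, ← zpow_add, ← zpow_add, add_comm]
    rw [hperf'] at hcomm
    have hsub : Subsingleton (Subgroup ↥G) := subsingleton_of_bot_eq_top hcomm.symm
    have hcard1 : Nat.card ↥G = 1 := by
      rw [← Subgroup.card_top (G := ↥G), hcomm, Subgroup.card_bot]
    have : orderOf z' ∣ 1 := by rw [← hcard1]; exact orderOf_dvd_natCard z'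
    rw [hz2'] at this
    omega
  -- `S` is simple
  haveI hsimple : IsSimpleGroup (↥G ⧸ zpowers z') := by
    constructor
    intro N hN
    set M : Subgroup G₀ := (N.comap π).map G.subtype with hMdef
    have hMG : M ≤ G := Subgroup.map_subtype_le _
    have hMn : ∀ g ∈ G, ∀ n ∈ M, g * n * g⁻¹ ∈ M := by
      rintro g hg n ⟨y, hy, rfl⟩
      refine ⟨⟨g, hg⟩ * y * ⟨g, hg⟩⁻¹, ?_, rfl⟩
      have hyN : π y ∈ N := hy
      show π (⟨g, hg⟩ * y * ⟨g, hg⟩⁻¹) ∈ N
      rw [map_mul, map_mul, map_inv]
      exact hN.conj_mem _ hyN _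
    rcases hqs M hMG hMn with h | h
    · left
      rw [eq_bot_iff]
      intro s hs
      obtain ⟨x, rfl⟩ := hπ s
      have hxM : (x : G₀) ∈ M := ⟨x, hs, rfl⟩
      obtain ⟨k, hk⟩ := Subgroup.mem_zpowers_iff.mp (h hxM)
      have hxz : x ∈ zpowers z' := by
        rw [Subgroup.mem_zpowers_iff]
        refine ⟨k, Subtype.ext ?_⟩
        rw [← hk]
        simp [hz']
      rw [← hker, MonoidHom.mem_ker] at hxz
      rw [Subgroup.mem_bot]
      exact hxz
    · right
      rw [eq_top_iff]
      intro s _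
      obtain ⟨x, rfl⟩ := hπ s
      have hxM : (x : G₀) ∈ M := by rw [h]; exact x.2
      obtain ⟨y, hy, hyx⟩ := hxM
      have : y = x := Subtype.ext hyx
      rw [← this]
      exact hy
  -- `S` is perfect
  have hperfS : commutator (↥G ⧸ zpowers z') = ⊤ := by
    rw [_root_.commutator_def, ← Subgroup.map_top_of_surjective π hπ, ← Subgroup.map_commutator,
      ← _root_.commutator_def, hperf']
  -- `S` is not abelian
  have hna : ¬ IsMulCommutative (↥G ⧸ zpowers z') := by
    intro hc
    have hbot : commutator (↥G ⧸ zpowers z') = ⊥ := by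
      rw [_root_.commutator_def, Subgroup.commutator_eq_bot_iff_le_centralizer]
      intro g _
      rw [Subgroup.mem_centralizer_iff]
      intro h _
      exact hc.is_comm.comm h g
    rw [hperfS] at hbot
    exact top_ne_bot hbot
  -- `S` is not solvable
  have hns : ¬ Group.IsSolvable (↥G ⧸ zpowers z') := by
    intro hsol
    have := Group.IsSolvable.commutator_lt_top_of_nontrivial (↥G ⧸ zpowers z')
    rw [hperfS] at this
    exact lt_irrefl _ this
  have h2 : 2 ∣ Nat.card (↥G ⧸ zpowers z') := by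
    by_contra h2
    exact hns (solvable_of_odd_card (fun p _ hp2 P => hS.oddSylow p hp2 P) h2)
  rcases Cfsg.Agent.Helper3.ZasG.sylow_of_quotient hZΓ z' hz2' hzc' π hπ hker hperf' with h8 | h8
  · rw [hcardΓ, ZasK.klein_thm hna h2 h8 hS]
  · obtain ⟨D, m, hm, ⟨e⟩⟩ := h8
    have hdk : SDk (↥G ⧸ zpowers z') :=
      Cfsg.Agent.Helper3.ZasG.sdk_of_quotient hZΓ z' hz2' hzc' π hπ hker
    exact (Cfsg.Agent.Helper2.ZasSD.dihedral_thm D m hm e hS hdk).elim

end Cfsg.Agent.Helper6.ZasGM
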