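import Mathlib
import Cfsg.Agent.Helper6.ZasGMainB
import Cfsg.Agent.Helper4.ZasG1E
import Cfsg.Agent.Helper8.ZasG2C

set_option autoImplicit false

/-!
# Zassenhaus project, G-side: the main induction

`main_induction`: for a finite group `G₀` with `ZData G₀`, every subgroup `H` satisfies
`MProp H ∧ ZProp H`.
-/

namespace Cfsg.Agent.Helper6.ZasGM

open Subgroup Cfsg.Agent.Helper6.Zas Cfsg.Agent.Helper6.ZasG
open scoped commutatorElement

universe u

variable {G₀ : Type u} [Group G₀]

theorem main_induction_aux [Finite G₀] (hZ : ZData G₀) :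
    ∀ (n : ℕ) (H : Subgroup G₀), Nat.card H = n → MProp H ∧ ZProp H := by
  intro n
  induction n using Nat.strong_induction_on with
  | _ n ih =>
  intro G hn
  have IH : ∀ H : Subgroup G₀, H < G → MProp H ∧ ZProp H := by
    intro H hH
    refine ih (Nat.card H) ?_ H rfl
    rw [← hn]
    refine lt_of_le_of_ne (Subgroup.card_le_of_le hH.le) ?_
    intro heq
    exact hH.ne (Subgroup.eq_of_le_of_card_ge hH.le heq.ge)
  have hperfcase : ⁅G, G⁆ = G → G ≠ ⊥ → Nat.card G = 120 := by
    intro hperf hne
    rcases Cfsg.Agent.Helper8.ZasG2.perfect_reduction hZ G hperf hne (fun H hH => (IH H hH).2)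
      with h | ⟨z, hq⟩
    · exact h
    · exact card_of_qsimple hZ G hperf z hq (fun H hH => (IH H hH).1)
  refine ⟨?_, ?_⟩
  · -- `MProp G`
    by_cases h3 : threeGen G = G
    · by_cases hperf : ⁅G, G⁆ = G
      · by_cases hne : G = ⊥
        · left; rw [h3]; exact hne
        · exact Cfsg.Agent.Helper5.ZasG4.mprop_of_perfect_120 hZ G hperf (hperfcase hperf hne)
      · by_cases hsol : Group.IsSolvable ↥G
        · exact Cfsg.Agent.Helper4.ZasG1.mprop_of_solvable hZ G hsol
        · exfalso
          have hD : ¬ Group.IsSolvable ↥⁅G, G⁆ := fun h => hsol (solvable_of_commutator G h)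
          obtain ⟨K, hKD, hKp, hKne⟩ := exists_perfect_le ⁅G, G⁆ hD
          have hDG : ⁅G, G⁆ < G := lt_of_le_of_ne (commutator_self_le G) hperf
          have hKG : K < G := lt_of_le_of_lt hKD hDG
          have hK120 : Nat.card K = 120 := by
            rcases (IH K hKG).2 hKp with h | h
            · exact absurd (Subgroup.card_eq_one.mp h) hKne
            · exact h
          have hle := threeGen_le_commutator hZ G K hKD hK120
          rw [h3] at hle
          exact hperf (le_antisymm (commutator_self_le G) hle)
    · have hlt : threeGen G < G := lt_of_le_of_ne (ZasK.threeGen_le G) h3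
      have h := (IH _ hlt).1
      unfold MProp at h ⊢
      rw [threeGen_idem] at h
      exact h
  · -- `ZProp G`
    intro hperf
    by_cases hne : G = ⊥
    · left; rw [hne, Subgroup.card_bot]
    · right; exact hperfcase hperf hne

/-- **The main induction** of the Zassenhaus project. -/
theorem main_induction {G₀ : Type*} [Group G₀] [Finite G₀] (hZ : ZData G₀) (H : Subgroup G₀) :
    MProp H ∧ ZProp H :=
  main_induction_aux hZ (Nat.card H) H rfl

end Cfsg.Agent.Helper6.ZasGM
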