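import Mathlib
import Cfsg.Prelude.Def_Characters
import Cfsg.Agent.Helper6.Brauer9
import Cfsg.Agent.Helper6.ProjTrace2

/-!
# `π`-sections: decomposition of elements and of elementary groups into `π`- and `π'`-parts
-/

set_option autoImplicit false
set_option linter.style.haveILetI false

namespace Cfsg.Agent.Helper6

open scoped ComplexConjugate
open Module

universe u v

/-- Decomposition of an element whose order divides `m * n` (coprime) into commuting parts. -/
theorem exists_pi_decomposition {E : Type u} [Group E] (m n : ℕ) (hcop : Nat.Coprime m n)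
    (x : E) (hx : x ^ (m * n) = 1) :
    ∃ s t : ℕ, x ^ s * x ^ t = x ∧ (x ^ s) ^ m = 1 ∧ (x ^ t) ^ n = 1 := by
  obtain ⟨s, hs1, hs2⟩ := Nat.chineseRemainder hcop 1 0
  obtain ⟨t, ht1, ht2⟩ := Nat.chineseRemainder hcop 0 1
  have hk : orderOf x ∣ m * n := orderOf_dvd_of_pow_eq_one hx
  refine ⟨s, t, ?_, ?_, ?_⟩
  · rw [← pow_add]
    have h1 : x ^ (s + t) = x ^ 1 := by
      rw [pow_eq_pow_iff_modEq]
      apply Nat.ModEq.of_dvd hk
      rw [← Nat.modEq_and_modEq_iff_modEq_mul hcop]
      constructor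
      · have := Nat.ModEq.add hs1 ht1
        simpa using this
      · have := Nat.ModEq.add hs2 ht2
        simpa using this
    rw [h1, pow_one]
  · rw [← pow_mul]
    apply orderOf_dvd_iff_pow_eq_one.mp
    apply hk.trans
    have h2 : n ∣ s := (Nat.modEq_zero_iff_dvd).mp hs2
    rw [mul_comm s m]
    exact Nat.mul_dvd_mul_left m h2
  · rw [← pow_mul]
    apply orderOf_dvd_iff_pow_eq_one.mp
    apply hk.trans
    have h2 : m ∣ t := (Nat.modEq_zero_iff_dvd).mp ht1
    exact Nat.mul_dvd_mul_right h2 n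

/-- Uniqueness of the decomposition into commuting `π`- and `π'`-parts. -/
theorem pi_decomposition_unique {E : Type u} [Group E] (m n : ℕ) (hcop : Nat.Coprime m n)
    {a b u v : E} (hab : Commute a b) (huv : Commute u v) (h : a * b = u * v)
    (ha : a ^ m = 1) (hu : u ^ m = 1) (hb : b ^ n = 1) (hv : v ^ n = 1) : a = u ∧ b = v := by
  obtain ⟨r, hr1, hr2⟩ := Nat.chineseRemainder hcop 0 1
  have hm : m ∣ r := (Nat.modEq_zero_iff_dvd).mp hr1
  have key : ∀ {a b : E}, Commute a b → a ^ m = 1 → b ^ n = 1 → (a * b) ^ r = b := by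
    intro a b hab ha hb
    rw [hab.mul_pow]
    obtain ⟨c, hc⟩ := hm
    have h0 : a ^ r = 1 := by rw [hc, pow_mul, ha, one_pow]
    rw [h0, one_mul]
    have h1 : b ^ r = b ^ 1 := by
      rw [pow_eq_pow_iff_modEq]
      exact Nat.ModEq.of_dvd (orderOf_dvd_of_pow_eq_one hb) hr2
    rw [h1, pow_one]
  have hbv : b = v := by
    rw [← key hab ha hb, ← key huv hu hv, h]
  refine ⟨?_, hbv⟩
  rw [hbv] at h
  exact mul_right_cancel h

/-- The elements of order coprime to `m` in an elementary group form a subgroup. -/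
def coprimeSubgroup {E : Type u} [Group E] [Finite E] {q : ℕ} (hq : q.Prime)
    (hE : Cfsg.IsElementary q E) (m : ℕ) : Subgroup E where
  carrier := {x | Nat.Coprime (orderOf x) m}
  one_mem' := by simp
  inv_mem' := by
    intro x hx
    simpa using hx
  mul_mem' := by
    intro x y hx hy
    change Nat.Coprime (orderOf x) m at hx
    change Nat.Coprime (orderOf y) m at hy
    change Nat.Coprime (orderOf (x * y)) m
    by_contra hxy
    obtain ⟨p, hp, hp1, hp2⟩ := Nat.Prime.not_coprime_iff_dvd.mp hxy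
    haveI : Fact p.Prime := ⟨hp⟩
    obtain ⟨B, hBn, hBcop, b, hb⟩ := exists_normal_p_complement hq hE p
    haveI := hBn
    have hmem : ∀ z : E, Nat.Coprime (orderOf z) m → z ∈ B := by
      intro z hz
      rw [mem_iff_not_dvd_orderOf B hBcop hb]
      intro hpz
      exact hp.one_lt.ne' (Nat.eq_one_of_dvd_coprimes hz hpz hp2)
    have hxyB : x * y ∈ B := B.mul_mem (hmem x hx) (hmem y hy)
    rw [mem_iff_not_dvd_orderOf B hBcop hb] at hxyB
    exact hxyB hp1

theorem mem_coprimeSubgroup {E : Type u} [Group E] [Finite E] {q : ℕ} (hq : q.Prime)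
    (hE : Cfsg.IsElementary q E) (m : ℕ) (x : E) :
    x ∈ coprimeSubgroup hq hE m ↔ Nat.Coprime (orderOf x) m := Iff.rfl

instance coprimeSubgroup_normal {E : Type u} [Group E] [Finite E] {q : ℕ} (hq : q.Prime)
    (hE : Cfsg.IsElementary q E) (m : ℕ) : (coprimeSubgroup hq hE m).Normal := by
  constructor
  intro x hx g
  rw [mem_coprimeSubgroup] at hx ⊢
  have ho : orderOf (g * x * g⁻¹) = orderOf x := by
    have := MulEquiv.orderOf_eq (MulAut.conj g) x
    simpa using this
  rwa [ho]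

/-- The order of the subgroup of elements of order coprime to `m` is coprime to `m`. -/
theorem card_coprimeSubgroup_coprime {E : Type u} [Group E] [Finite E] {q : ℕ} (hq : q.Prime)
    (hE : Cfsg.IsElementary q E) (m : ℕ) :
    Nat.Coprime (Nat.card (coprimeSubgroup hq hE m)) m := by
  by_contra h
  obtain ⟨p, hp, hp1, hp2⟩ := Nat.Prime.not_coprime_iff_dvd.mp h
  haveI : Fact p.Prime := ⟨hp⟩
  obtain ⟨x, hx⟩ := exists_prime_orderOf_dvd_card' p hp1
  have hxm : Nat.Coprime (orderOf (x : E)) m := x.2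
  rw [Subgroup.orderOf_coe, hx] at hxm
  exact hp.one_lt.ne' (Nat.Coprime.eq_one_of_dvd hxm hp2)

set_option maxHeartbeats 800000 in
/-- The key computation for `π`-sections on an elementary group. -/
theorem elementary_section_inner_isIntegral {E : Type u} [Group E] [Fintype E] {q : ℕ}
    (hq : q.Prime) (hE : Cfsg.IsElementary q E) (m n : ℕ) (hcop : Nat.Coprime m n)
    (hcard : Nat.card E ∣ m * n) (lam : E →* ℂˣ) (T : Set E) [DecidablePred (· ∈ T)]
    (θ : E → ℂ)
    (hθ : ∀ a b : E, Nat.Coprime (orderOf a) n → Nat.Coprime (orderOf b) m → Commute a b →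
      θ (a * b) = if b ∈ T then (n : ℂ) else 0) :
    IsIntegral ℤ (Cfsg.classInner (fun e => ((lam e : ℂˣ) : ℂ)) θ) := by
  classical
  set A := coprimeSubgroup hq hE n with hA
  set B := coprimeSubgroup hq hE m with hB
  have hpow : ∀ x : E, x ^ (m * n) = 1 := by
    intro x
    apply orderOf_dvd_iff_pow_eq_one.mp
    exact (orderOf_dvd_natCard x).trans hcard
  have hAm : ∀ a ∈ A, a ^ m = 1 := by
    intro a ha
    apply orderOf_dvd_iff_pow_eq_one.mp
    have h1 : orderOf a ∣ m * n := orderOf_dvd_of_pow_eq_one (hpow a)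
    exact Nat.Coprime.dvd_of_dvd_mul_right ha h1
  have hBn : ∀ b ∈ B, b ^ n = 1 := by
    intro b hb
    apply orderOf_dvd_iff_pow_eq_one.mp
    have h1 : orderOf b ∣ m * n := orderOf_dvd_of_pow_eq_one (hpow b)
    exact Nat.Coprime.dvd_of_dvd_mul_left hb h1
  have hdisj : Disjoint A B := by
    rw [Subgroup.disjoint_def]
    intro x hxA hxB
    have h1 := hAm x hxA
    have h2 := hBn x hxB
    have h3 : orderOf x ∣ Nat.gcd m n :=
      Nat.dvd_gcd (orderOf_dvd_of_pow_eq_one h1) (orderOf_dvd_of_pow_eq_one h2)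
    rw [hcop.gcd_eq_one, Nat.dvd_one, orderOf_eq_one_iff] at h3
    exact h3
  have hcomm : ∀ a ∈ A, ∀ b ∈ B, Commute a b := fun a ha b hb =>
    Subgroup.commute_of_normal_of_disjoint A B inferInstance inferInstance hdisj a b ha hb
  let φ : A × B → E := fun ab => (ab.1 : E) * (ab.2 : E)
  have hbij : Function.Bijective φ := by
    constructor
    · rintro ⟨a, b⟩ ⟨a', b'⟩ h
      have h' : (a : E) * (b : E) = (a' : E) * (b' : E) := h
      obtain ⟨h1, h2⟩ := pi_decomposition_unique m n hcop (hcomm a a.2 b b.2)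
        (hcomm a' a'.2 b' b'.2) h' (hAm a a.2) (hAm a' a'.2) (hBn b b.2) (hBn b' b'.2)
      exact Prod.ext (Subtype.ext h1) (Subtype.ext h2)
    · intro x
      obtain ⟨s, t, hst, hs, ht⟩ := exists_pi_decomposition m n hcop x (hpow x)
      have hsA : x ^ s ∈ A := by
        rw [hA, mem_coprimeSubgroup]
        exact Nat.Coprime.coprime_dvd_left (orderOf_dvd_of_pow_eq_one hs) hcop
      have htB : x ^ t ∈ B := by
        rw [hB, mem_coprimeSubgroup]
        exact Nat.Coprime.coprime_dvd_left (orderOf_dvd_of_pow_eq_one ht) hcop.symm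
      exact ⟨(⟨x ^ s, hsA⟩, ⟨x ^ t, htB⟩), hst⟩
  have hcardE : Nat.card E = Nat.card A * Nat.card B := by
    rw [← Nat.card_prod]
    exact (Nat.card_congr (Equiv.ofBijective φ hbij)).symm
  have hBdvd : Nat.card B ∣ n := by
    have h1 : Nat.card B ∣ m * n := (Subgroup.card_subgroup_dvd_card B).trans hcard
    exact Nat.Coprime.dvd_of_dvd_mul_left (card_coprimeSubgroup_coprime hq hE m) h1
  rw [classInner_def]
  have hsum : ∑ e : E, ((lam e : ℂˣ) : ℂ) * conj (θ e) =
      ∑ ab : A × B, ((lam (ab.1 : E) : ℂˣ) : ℂ) *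
        (((lam (ab.2 : E) : ℂˣ) : ℂ) * (if (ab.2 : E) ∈ T then (n : ℂ) else 0)) := by
    symm
    apply Fintype.sum_bijective φ hbij
    rintro ⟨a, b⟩
    change _ = ((lam ((a : E) * (b : E)) : ℂˣ) : ℂ) * conj (θ ((a : E) * (b : E)))
    rw [hθ a b a.2 b.2 (hcomm a a.2 b b.2), map_mul, Units.val_mul, mul_assoc]
    congr 2
    split_ifs
    · rw [Complex.conj_natCast]
    · rw [map_zero]
  rw [hsum, Fintype.sum_prod_type]
  have hfac : ∑ a : A, ∑ b : B, ((lam (a : E) : ℂˣ) : ℂ) *
        (((lam (b : E) : ℂˣ) : ℂ) * (if (b : E) ∈ T then (n : ℂ) else 0)) =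
      (∑ a : A, ((lam (a : E) : ℂˣ) : ℂ)) *
        ∑ b : B, (((lam (b : E) : ℂˣ) : ℂ) * (if (b : E) ∈ T then (n : ℂ) else 0)) := by
    rw [Finset.sum_mul_sum]
  rw [hfac]
  have hSB : ∑ b : B, (((lam (b : E) : ℂˣ) : ℂ) * (if (b : E) ∈ T then (n : ℂ) else 0)) =
      (n : ℂ) * ∑ b : B, (if (b : E) ∈ T then ((lam (b : E) : ℂˣ) : ℂ) else 0) := by
    rw [Finset.mul_sum]
    apply Finset.sum_congr rfl
    intro b _
    split_ifs
    · rw [mul_comm]
    · rw [mul_zero, mul_zero]
  have hSBint : IsIntegral ℤ (∑ b : B, (if (b : E) ∈ T then ((lam (b : E) : ℂˣ) : ℂ) else 0)) := by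
    apply IsIntegral.sum
    intro b _
    split_ifs
    · exact isIntegral_hom_apply lam _
    · exact isIntegral_zero
  by_cases htriv : ∀ a : A, lam (a : E) = 1
  · have hSA : ∑ a : A, ((lam (a : E) : ℂˣ) : ℂ) = (Nat.card A : ℂ) := by
      rw [Finset.sum_congr rfl (fun a _ => by rw [htriv a, Units.val_one])]
      rw [Finset.sum_const, Finset.card_univ, nsmul_eq_mul, mul_one, Nat.card_eq_fintype_card]
    rw [hSA, hSB, hcardE]
    obtain ⟨k, hk⟩ := hBdvd
    have hA0 : (Nat.card A : ℂ) ≠ 0 := by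
      exact_mod_cast (Nat.card_pos (α := A)).ne'
    have hB0 : (Nat.card B : ℂ) ≠ 0 := by
      exact_mod_cast (Nat.card_pos (α := B)).ne'
    have : ((Nat.card A * Nat.card B : ℕ) : ℂ)⁻¹ * ((Nat.card A : ℂ) * ((n : ℂ) *
        ∑ b : B, (if (b : E) ∈ T then ((lam (b : E) : ℂˣ) : ℂ) else 0))) =
        (k : ℂ) * ∑ b : B, (if (b : E) ∈ T then ((lam (b : E) : ℂˣ) : ℂ) else 0) := by
      rw [hk]
      push_cast
      field_simp
    rw [this]
    have hkint : IsIntegral ℤ (k : ℂ) := by
      have := isIntegral_algebraMap (R := ℤ) (A := ℂ) (x := (k : ℤ))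
      simpa using this
    exact IsIntegral.mul hkint hSBint
  · push Not at htriv
    obtain ⟨a₀, ha₀⟩ := htriv
    have hSA : ∑ a : A, ((lam (a : E) : ℂˣ) : ℂ) = 0 := by
      have h1 : ∑ a : A, ((lam (a : E) : ℂˣ) : ℂ) =
          ((lam (a₀ : E) : ℂˣ) : ℂ) * ∑ a : A, ((lam (a : E) : ℂˣ) : ℂ) := by
        rw [Finset.mul_sum]
        symm
        apply Fintype.sum_bijective (fun a : A => a₀ * a) (Group.mulLeft_bijective a₀)
        intro a
        rw [Subgroup.coe_mul, map_mul, Units.val_mul]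
      have h2 : (((lam (a₀ : E) : ℂˣ) : ℂ) - 1) * ∑ a : A, ((lam (a : E) : ℂˣ) : ℂ) = 0 := by
        rw [sub_mul, one_mul, ← h1, sub_self]
      rcases mul_eq_zero.mp h2 with h3 | h3
      · exfalso
        apply ha₀
        apply Units.ext
        rw [Units.val_one]
        exact sub_eq_zero.mp h3
      · exact h3
    rw [hSA, zero_mul, mul_zero]
    exact isIntegral_zero

end Cfsg.Agent.Helper6
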