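import Mathlib
import Cfsg.Agent.Lead.BswDefs

/-!
# S3282 (abstract BSW), piece C3: general double counting over the class of involutions.
-/

set_option autoImplicit false
namespace Cfsg.Agent.Lead.Bsw
variable {G : Type*} [Group G] [Finite G] {t s : G} {K : Subgroup G}

omit [Finite G] in
/-- auxiliary: all fibres have the same size. -/
theorem h6_fibre_card (t : G) (P : G → Prop) (hP : ∀ g y : G, P y → P (g * y * g⁻¹))
    (z c : G) (hc : c * t * c⁻¹ = z) :
    Nat.card {y : G // P y ∧ z * y * z⁻¹ = y⁻¹} = Nat.card {y : G // P y ∧ t * y * t⁻¹ = y⁻¹} := by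
  refine Nat.card_congr (Equiv.subtypeEquiv (MulAut.conj c⁻¹).toEquiv ?_)
  intro y
  have hval : (MulAut.conj c⁻¹).toEquiv y = c⁻¹ * y * c := by
    simp
  rw [hval]
  subst hc
  constructor
  · rintro ⟨h1, h2⟩
    refine ⟨?_, ?_⟩
    · have := hP c⁻¹ y h1
      simpa using this
    · have h3 : t * (c⁻¹ * y * c) * t⁻¹ = c⁻¹ * ((c * t * c⁻¹) * y * (c * t * c⁻¹)⁻¹) * c := by
        simp only [mul_inv_rev, inv_inv]; group
      rw [h3, h2]; simp only [mul_inv_rev, inv_inv]; group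
  · rintro ⟨h1, h2⟩
    refine ⟨?_, ?_⟩
    · have := hP c (c⁻¹ * y * c) h1
      have h4 : c * (c⁻¹ * y * c) * c⁻¹ = y := by group
      rwa [h4] at this
    · have h3 : (c * t * c⁻¹) * y * (c * t * c⁻¹)⁻¹ = c * (t * (c⁻¹ * y * c) * t⁻¹) * c⁻¹ := by
        simp only [mul_inv_rev, inv_inv]; group
      rw [h3, h2]; simp only [mul_inv_rev, inv_inv]; group

-- C3 : general double counting (only needs: all involutions conjugate)
theorem double_count (hconj : ∀ x y : G, orderOf x = 2 → orderOf y = 2 → IsConj x y)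
    (t : G) (ht : orderOf t = 2) (P : G → Prop) (hP : ∀ g y : G, P y → P (g * y * g⁻¹)) :
    Nat.card {p : G × G // P p.1 ∧ orderOf p.2 = 2 ∧ p.2 * p.1 * p.2⁻¹ = p.1⁻¹} =
      nInv G * Nat.card {y : G // P y ∧ t * y * t⁻¹ = y⁻¹} := by
  classical
  have : Fintype G := Fintype.ofFinite G
  let e : {p : G × G // P p.1 ∧ orderOf p.2 = 2 ∧ p.2 * p.1 * p.2⁻¹ = p.1⁻¹} ≃
      Σ z : {z : G // orderOf z = 2}, {y : G // P y ∧ z.1 * y * z.1⁻¹ = y⁻¹} :=
    { toFun := fun p => ⟨⟨p.1.2, p.2.2.1⟩, ⟨p.1.1, p.2.1, p.2.2.2⟩⟩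
      invFun := fun q => ⟨(q.2.1, q.1.1), q.2.2.1, q.1.2, q.2.2.2⟩
      left_inv := fun p => by rfl
      right_inv := fun q => by rfl }
  rw [Nat.card_congr e, Nat.card_sigma]
  have hf : ∀ z : {z : G // orderOf z = 2},
      Nat.card {y : G // P y ∧ z.1 * y * z.1⁻¹ = y⁻¹} =
        Nat.card {y : G // P y ∧ t * y * t⁻¹ = y⁻¹} := by
    intro z
    obtain ⟨c, hc⟩ := isConj_iff.mp (hconj t z.1 ht z.2)
    exact h6_fibre_card t P hP z.1 c hc
  rw [Finset.sum_congr rfl (fun z _ => hf z), Finset.sum_const, Finset.card_univ, smul_eq_mul,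
    nInv_def]
  simp only [Nat.card_eq_fintype_card]

end Cfsg.Agent.Lead.Bsw
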