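import Mathlib
import Cfsg.Prelude.Def_Characters
import Cfsg.Agent.Helper6.IndFun
import Cfsg.Agent.Helper6.PermChar

/-!
# Functions induced from a point stabiliser of a transitive action
-/

set_option autoImplicit false
set_option linter.style.haveILetI false

namespace Cfsg.Agent.Helper6

open MulAction
open scoped ComplexConjugate

universe u v

variable {G : Type u} [Group G]

/-- The extension by zero of a class function of `A` is invariant under conjugation by `A`. -/
theorem extendByZero_conj_of_mem (A : Subgroup G) (μ : A → ℂ)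
    (hμ : ∀ x y : A, μ (y * x * y⁻¹) = μ x) {y : G} (hy : y ∈ A) (z : G) :
    Cfsg.extendByZero A μ (y⁻¹ * z * y) = Cfsg.extendByZero A μ z := by
  by_cases hz : z ∈ A
  · have h1 : y⁻¹ * z * y ∈ A := A.mul_mem (A.mul_mem (A.inv_mem hy) hz) hy
    rw [extendByZero_mem _ _ hz, extendByZero_mem _ _ h1]
    have h2 := hμ ⟨z, hz⟩ (⟨y, hy⟩ : A)⁻¹
    rw [← h2]
    congr 1
    apply Subtype.ext
    simp
  · have h1 : y⁻¹ * z * y ∉ A := by
      intro h
      apply hz
      have h2 : z = y * (y⁻¹ * z * y) * y⁻¹ := by group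
      rw [h2]
      exact A.mul_mem (A.mul_mem hy h) (A.inv_mem hy)
    rw [extendByZero_not_mem _ _ hz, extendByZero_not_mem _ _ h1]

/-- The function induced from a class function of a point stabiliser, as a sum over points. -/
theorem indFun_stabilizer_eq_sum [Fintype G] (Ω : Type v) [MulAction G Ω] [Fintype Ω]
    [IsPretransitive G Ω] (a : Ω) (μ : stabilizer G a → ℂ)
    (hμ : ∀ x y : stabilizer G a, μ (y * x * y⁻¹) = μ x)
    (r : Ω → G) (hr : ∀ c, r c • a = c) (g : G) :
    Cfsg.indFun (stabilizer G a) μ g =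
      ∑ c : Ω, Cfsg.extendByZero (stabilizer G a) μ ((r c)⁻¹ * g * r c) := by
  classical
  rw [indFun_apply]
  have key : ∀ x : G, Cfsg.extendByZero (stabilizer G a) μ (x⁻¹ * g * x) =
      Cfsg.extendByZero (stabilizer G a) μ ((r (x • a))⁻¹ * g * r (x • a)) := by
    intro x
    have hy : (r (x • a))⁻¹ * x ∈ stabilizer G a := by
      rw [mem_stabilizer_iff, mul_smul]
      have h0 : (r (x • a))⁻¹ • (r (x • a) • a) = a := inv_smul_smul _ _
      rw [hr (x • a)] at h0
      exact h0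
    have h1 : x⁻¹ * g * x = ((r (x • a))⁻¹ * x)⁻¹ * ((r (x • a))⁻¹ * g * r (x • a)) *
        ((r (x • a))⁻¹ * x) := by group
    rw [h1, extendByZero_conj_of_mem _ μ hμ hy]
  rw [Finset.sum_congr rfl (fun x _ => key x)]
  rw [← Finset.sum_fiberwise (s := (Finset.univ : Finset G)) (g := fun x => x • a)
    (f := fun x => Cfsg.extendByZero (stabilizer G a) μ ((r (x • a))⁻¹ * g * r (x • a)))]
  have h2 : ∀ c : Ω, (∑ x ∈ Finset.univ.filter (fun x : G => x • a = c),
      Cfsg.extendByZero (stabilizer G a) μ ((r (x • a))⁻¹ * g * r (x • a))) =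
      (Nat.card (stabilizer G a) : ℂ) *
        Cfsg.extendByZero (stabilizer G a) μ ((r c)⁻¹ * g * r c) := by
    intro c
    have h3 : ∀ x ∈ Finset.univ.filter (fun x : G => x • a = c),
        Cfsg.extendByZero (stabilizer G a) μ ((r (x • a))⁻¹ * g * r (x • a)) =
          Cfsg.extendByZero (stabilizer G a) μ ((r c)⁻¹ * g * r c) := by
      intro x hx
      rw [(Finset.mem_filter.mp hx).2]
    rw [Finset.sum_congr rfl h3, Finset.sum_const, card_fiber_smul Ω a c, nsmul_eq_mul]
  rw [Finset.sum_congr rfl (fun c _ => h2 c), ← Finset.mul_sum, ← mul_assoc,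
    inv_mul_cancel₀, one_mul]
  exact_mod_cast Nat.card_pos.ne'

/-- The sum of a nontrivial homomorphism over a subgroup vanishes. -/
theorem sum_hom_ite_mem_eq_zero {A : Type u} [Group A] [Fintype A] (ν : A →* ℂˣ)
    (S : Subgroup A) [DecidablePred (· ∈ S)] (h : ∃ g₀ ∈ S, ν g₀ ≠ 1) :
    (∑ g : A, if g ∈ S then ((ν g : ℂˣ) : ℂ) else 0) = 0 := by
  obtain ⟨g₀, hg₀, hν⟩ := h
  have h1 : (∑ g : A, if g ∈ S then ((ν g : ℂˣ) : ℂ) else 0) =
      ((ν g₀ : ℂˣ) : ℂ) * ∑ g : A, if g ∈ S then ((ν g : ℂˣ) : ℂ) else 0 := by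
    rw [Finset.mul_sum]
    rw [← Equiv.sum_comp (Equiv.mulLeft g₀)]
    apply Finset.sum_congr rfl
    intro g _
    have h2 : g₀ * g ∈ S ↔ g ∈ S := Subgroup.mul_mem_cancel_left S hg₀
    simp only [Equiv.coe_mulLeft, h2]
    split_ifs
    · rw [map_mul, Units.val_mul]
    · rw [mul_zero]
  have h3 : (1 - ((ν g₀ : ℂˣ) : ℂ)) * (∑ g : A, if g ∈ S then ((ν g : ℂˣ) : ℂ) else 0) = 0 := by
    rw [sub_mul, one_mul, ← h1, sub_self]
  rcases mul_eq_zero.mp h3 with h4 | h4
  · exfalso
    apply hν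
    apply Units.ext
    rw [Units.val_one]
    exact (sub_eq_zero.mp h4).symm
  · exact h4

end Cfsg.Agent.Helper6
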