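import Mathlib
import Cfsg.Prelude.Def_Characters
import Cfsg.Agent.Helper6.ZasInvA
import Cfsg.Agent.Helper6.ZasInvC
import Cfsg.Agent.Helper6.IrrCrit
import Cfsg.Agent.Helper6.Induced
import Cfsg.Agent.Helper6.Linear

/-!
# Zassenhaus groups: characters induced from linear characters of a point stabiliser
-/

set_option autoImplicit false
set_option linter.style.haveILetI false
set_option linter.unusedSectionVars false

namespace Cfsg.Agent.Helper6

open MulAction Cfsg.Agent.Helper2
open scoped ComplexConjugate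

variable {G Ω : Type*} [Group G] [MulAction G Ω]

/-- A subgroup of `G_a` of order `|Ω| - 1` whose non-identity elements fix only `a` is
transitive on the other points. -/
theorem zas_kernel_transitive [Finite G] [Fintype Ω] {a : Ω} (H : Subgroup G)
    (hHa : H ≤ stabilizer G a) (hHcard : Nat.card H + 1 = Fintype.card Ω)
    (hHfix : ∀ u ∈ H, u ≠ 1 → ∀ c : Ω, u • c = c → c = a) {c d : Ω} (hc : c ≠ a) (hd : d ≠ a) :
    ∃ u ∈ H, u • c = d := by
  classical
  haveI : Fintype H := Fintype.ofFinite _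
  let φ : H → {d : Ω // d ≠ a} := fun u => ⟨(u : G) • c, by
    intro h
    have h1 : (u : G) • a = a := mem_stabilizer_iff.mp (hHa u.2)
    exact hc (smul_left_cancel _ (h.trans h1.symm))⟩
  have hinj : Function.Injective φ := by
    intro u u' h
    have h1 : (u : G) • c = (u' : G) • c := congrArg Subtype.val h
    have h2 : ((u' : G)⁻¹ * (u : G)) • c = c := by
      rw [mul_smul, h1, inv_smul_smul]
    by_contra hne
    have h3 : (u' : G)⁻¹ * (u : G) ≠ 1 := by
      intro h4
      apply hne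
      apply Subtype.ext
      have h5 := congrArg (fun z => (u' : G) * z) h4
      simpa using h5
    exact hc (hHfix _ (H.mul_mem (H.inv_mem u'.2) u.2) h3 c h2)
  have hcard : Fintype.card H = Fintype.card {d : Ω // d ≠ a} := by
    rw [Fintype.card_subtype_compl, Fintype.card_subtype_eq, ← hHcard,
      Nat.card_eq_fintype_card]
    omega
  have hbij := (Fintype.bijective_iff_injective_and_card φ).mpr ⟨hinj, hcard⟩
  obtain ⟨u, hu⟩ := hbij.2 ⟨d, hd⟩
  exact ⟨u, u.2, congrArg Subtype.val hu⟩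

section

variable [Fintype G] [Fintype Ω] (hZ : Cfsg.IsZassenhausGroup G Ω) {a b : Ω} (hab : a ≠ b)
  [IsSimpleGroup G]
  (hodd : Odd (Nat.card ↥(stabilizer G a ⊓ stabilizer G b : Subgroup G)))
  (H : Subgroup G) (hHa : H ≤ stabilizer G a) (hHcard : Nat.card H + 1 = Fintype.card Ω)
  (hHfix : ∀ u ∈ H, u ≠ 1 → ∀ c : Ω, u • c = c → c = a)
  (lam : stabilizer G a →* ℂˣ) (hlamH : ∀ u : stabilizer G a, (u : G) ∈ H → lam u = 1)

include hZ hab hodd hHa hHcard hHfix hlamH

/-- A nontrivial linear character trivial on `H` has nontrivial square on each two-point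
stabiliser. -/
theorem zas_exists_sq_ne_one (hlam : lam ≠ 1) {c : Ω} (hc : c ≠ a) :
    ∃ g₀ : stabilizer G a, (g₀ : G) • c = c ∧ lam g₀ * lam g₀ ≠ 1 := by
  by_contra hcon
  push Not at hcon
  have hoddc := zas_odd_two_stab hZ hab hodd (Ne.symm hc)
  obtain ⟨k, hk⟩ := hoddc
  have h1 : ∀ g : stabilizer G a, (g : G) • c = c → lam g = 1 := by
    intro g hg
    have hmem : (g : G) ∈ stabilizer G a ⊓ stabilizer G c := ZasOdd.mem_HH.mpr ⟨g.2, hg⟩
    have h2 : (g : G) ^ (2 * k + 1) = 1 := by
      have h3 : (⟨(g : G), hmem⟩ : ↥(stabilizer G a ⊓ stabilizer G c : Subgroup G)) ^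
          (Nat.card ↥(stabilizer G a ⊓ stabilizer G c : Subgroup G)) = 1 := pow_card_eq_one'
      rw [hk] at h3
      exact congrArg Subtype.val h3
    have h4 : g ^ (2 * k + 1) = 1 := by
      apply Subtype.ext
      rw [Subgroup.coe_pow, h2]
      rfl
    have h5 : lam g ^ (2 * k + 1) = 1 := by rw [← map_pow, h4, map_one]
    have h6 : lam g ^ (2 * k + 1) = (lam g * lam g) ^ k * lam g := by
      rw [pow_succ, pow_mul, pow_two]
    rw [h6, hcon g hg, one_pow, one_mul] at h5
    exact h5
  apply hlam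
  ext g
  have hgc : (g : G) • c ≠ a := by
    intro h
    have h2 : (g : G) • a = a := mem_stabilizer_iff.mp g.2
    exact hc (smul_left_cancel _ (h.trans h2.symm))
  obtain ⟨u, hu, huc⟩ := zas_kernel_transitive H hHa hHcard hHfix hc hgc
  have h2 : ((⟨u, hHa hu⟩ : stabilizer G a)⁻¹ * g : stabilizer G a) = (⟨u, hHa hu⟩)⁻¹ * g := rfl
  have h3 : (((⟨u, hHa hu⟩ : stabilizer G a)⁻¹ * g : stabilizer G a) : G) • c = c := by
    show (u⁻¹ * (g : G)) • c = c
    rw [mul_smul, ← huc, inv_smul_smul]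
  have h4 := h1 _ h3
  rw [map_mul, map_inv, hlamH ⟨u, hHa hu⟩ hu, inv_one, one_mul] at h4
  rw [h4]
  rfl

/-- The induced function has norm one. -/
theorem zas_classInner_ind_linear (hlam : lam ≠ 1) :
    Cfsg.classInner (Cfsg.indFun (stabilizer G a) (fun g => ((lam g : ℂˣ) : ℂ)))
      (Cfsg.indFun (stabilizer G a) (fun g => ((lam g : ℂˣ) : ℂ))) = 1 := by
  classical
  haveI : IsMultiplyPretransitive G Ω 2 := hZ.2.1
  haveI : IsPretransitive G Ω := isPretransitive_of_is_two_pretransitive
  set μ : stabilizer G a → ℂ := fun g => ((lam g : ℂˣ) : ℂ) with hμdef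
  have hμc : Cfsg.IsCharacter (stabilizer G a) μ := IsIrrCharacter.isCharacter (isIrrCharacter_of_hom lam)
  have hμcl : ∀ x y : (stabilizer G a), μ (y * x * y⁻¹) = μ x := by
    intro x y
    simp only [hμdef, map_mul, map_inv, Units.val_mul]
    rw [mul_comm, ← mul_assoc]
    simp
  -- representatives
  have hsw : ∀ c : Ω, ∃ s : G, s • a = c ∧ (c ≠ a → s • c = a) ∧ (c = a → s = 1) := by
    intro c
    by_cases hc : c = a
    · exact ⟨1, by rw [one_smul, hc], fun h => absurd hc h, fun _ => rfl⟩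
    · obtain ⟨s, hs1, hs2⟩ := ZasOdd.exists_swap hZ (Ne.symm hc)
      exact ⟨s, hs1, fun _ => hs2, fun h => absurd h hc⟩
  choose r hr1 hr2 hr3 using hsw
  rw [frobenius_reciprocity (stabilizer G a) μ _ (indFun_isClassFunction (stabilizer G a) μ), classInner_def]
  have hval : ∀ g : (stabilizer G a), Cfsg.indFun (stabilizer G a) μ (g : G) =
      ∑ c : Ω, Cfsg.extendByZero (stabilizer G a) μ ((r c)⁻¹ * (g : G) * r c) := fun g =>
    indFun_stabilizer_eq_sum Ω a μ hμcl r hr1 g
  have h1 : (∑ g : (stabilizer G a), μ g * conj (Cfsg.indFun (stabilizer G a) μ (g : G))) =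
      ∑ c : Ω, ∑ g : (stabilizer G a), μ g * conj (Cfsg.extendByZero (stabilizer G a) μ ((r c)⁻¹ * (g : G) * r c)) := by
    rw [Finset.sum_comm]
    apply Finset.sum_congr rfl
    intro g _
    rw [hval g, map_sum, Finset.mul_sum]
  rw [h1]
  have h2 : ∀ c ∈ (Finset.univ : Finset Ω), c ≠ a →
      (∑ g : (stabilizer G a), μ g * conj (Cfsg.extendByZero (stabilizer G a) μ ((r c)⁻¹ * (g : G) * r c))) = 0 := by
    intro c _ hc
    obtain ⟨g₀, hg₀c, hg₀⟩ := zas_exists_sq_ne_one hZ hab hodd H hHa hHcard hHfix lam hlamH hlam hc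
    let S : Subgroup (stabilizer G a) := stabilizer (stabilizer G a) c
    have hS : ∀ g : (stabilizer G a), g ∈ S ↔ (g : G) • c = c := fun g => by
      show g • c = c ↔ _
      rfl
    have h3 := sum_hom_ite_mem_eq_zero (lam * lam) S ⟨g₀, (hS g₀).mpr hg₀c, hg₀⟩
    rw [← h3]
    apply Finset.sum_congr rfl
    intro g _
    have hrc : (r c)⁻¹ • c = a := by
      have h0 : (r c)⁻¹ • (r c • a) = a := inv_smul_smul _ _
      rw [hr1 c] at h0
      exact h0
    have hra : (r c)⁻¹ • a = c := by
      have h0 : (r c)⁻¹ • (r c • c) = c := inv_smul_smul _ _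
      rw [hr2 c hc] at h0
      exact h0
    by_cases hg : (g : G) • c = c
    · rw [if_pos ((hS g).mpr hg)]
      have hmem : (g : G) ∈ stabilizer G a ⊓ stabilizer G c := ZasOdd.mem_HH.mpr ⟨g.2, hg⟩
      have h4 := zas_swap_inverts hZ hab hodd (Ne.symm hc) hra hrc hmem
      rw [inv_inv] at h4
      rw [h4]
      have h5 : Cfsg.extendByZero (stabilizer G a) μ (g : G)⁻¹ = μ g⁻¹ := extendByZero_coe (stabilizer G a) μ g⁻¹
      rw [h5, IsCharacter.inv_eq_conj hμc g, Complex.conj_conj]
      simp only [hμdef, MonoidHom.mul_apply, Units.val_mul]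
    · have hg' : g ∉ S := fun h => hg ((hS g).mp h)
      rw [if_neg hg']
      have h4 : (r c)⁻¹ * (g : G) * r c ∉ (stabilizer G a) := by
        intro h
        rw [mem_stabilizer_iff, mul_smul, mul_smul, hr1 c] at h
        apply hg
        have h5 := congrArg (fun z => r c • z) h
        simp only [smul_inv_smul] at h5
        rw [h5, hr1 c]
      rw [extendByZero_not_mem _ _ h4, map_zero, mul_zero]
  rw [Finset.sum_eq_single a h2 (fun h => absurd (Finset.mem_univ a) h)]
  have h3 : ∀ g : (stabilizer G a), μ g * conj (Cfsg.extendByZero (stabilizer G a) μ ((r a)⁻¹ * (g : G) * r a)) = 1 := by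
    intro g
    rw [hr3 a rfl, inv_one, one_mul, mul_one, extendByZero_coe, ← IsCharacter.inv_eq_conj hμc g]
    simp only [hμdef, map_inv]
    rw [← Units.val_mul, mul_inv_cancel, Units.val_one]
  rw [Finset.sum_congr rfl (fun g _ => h3 g), Finset.sum_const, Finset.card_univ, nsmul_eq_mul,
    mul_one, Nat.card_eq_fintype_card, inv_mul_cancel₀]
  exact_mod_cast Fintype.card_ne_zero

/-- The induced function takes the value `1` on the non-identity elements of `H`. -/
theorem zas_ind_linear_apply {u : G} (hu : u ∈ H) (hu1 : u ≠ 1) :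
    Cfsg.indFun (stabilizer G a) (fun g => ((lam g : ℂˣ) : ℂ)) u = 1 := by
  classical
  haveI : IsMultiplyPretransitive G Ω 2 := hZ.2.1
  haveI : IsPretransitive G Ω := isPretransitive_of_is_two_pretransitive
  set μ : stabilizer G a → ℂ := fun g => ((lam g : ℂˣ) : ℂ) with hμdef
  have hμcl : ∀ x y : (stabilizer G a), μ (y * x * y⁻¹) = μ x := by
    intro x y
    simp only [hμdef, map_mul, map_inv, Units.val_mul]
    rw [mul_comm, ← mul_assoc]
    simp
  have hsw : ∀ c : Ω, ∃ s : G, s • a = c ∧ (c = a → s = 1) := by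
    intro c
    by_cases hc : c = a
    · exact ⟨1, by rw [one_smul, hc], fun _ => rfl⟩
    · obtain ⟨s, hs1⟩ := exists_smul_eq G a c
      exact ⟨s, hs1, fun h => absurd h hc⟩
  choose r hr1 hr3 using hsw
  rw [indFun_stabilizer_eq_sum Ω a μ hμcl r hr1 u]
  have h2 : ∀ c ∈ (Finset.univ : Finset Ω), c ≠ a →
      Cfsg.extendByZero (stabilizer G a) μ ((r c)⁻¹ * u * r c) = 0 := by
    intro c _ hc
    apply extendByZero_not_mem
    intro h
    rw [mem_stabilizer_iff, mul_smul, mul_smul, hr1 c] at h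
    apply hc
    apply hHfix u hu hu1 c
    have h5 := congrArg (fun z => r c • z) h
    simp only [smul_inv_smul] at h5
    rw [h5, hr1 c]
  rw [Finset.sum_eq_single a h2 (fun h => absurd (Finset.mem_univ a) h)]
  rw [hr3 a rfl, inv_one, one_mul, mul_one, extendByZero_mem _ _ (hHa hu)]
  simp only [hμdef]
  rw [hlamH ⟨u, hHa hu⟩ hu, Units.val_one]

end

end Cfsg.Agent.Helper6
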