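import Mathlib
import Cfsg.Prelude.Def_Characters
import Cfsg.Agent.Helper6.Involutions
import Cfsg.Agent.Helper6.Expansion
import Cfsg.Agent.Helper6.OddReal

/-!
# Counting square roots with Frobenius–Schur indicators
-/

set_option autoImplicit false
set_option linter.style.haveILetI false

namespace Cfsg.Agent.Helper6

open Module Representation
open scoped ComplexConjugate Pointwise

universe u v

variable {G : Type u} [Group G]

theorem fsIndFun_conj [Fintype G] (χ : Cfsg.IrrCharacter G) :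
    conj (fsIndFun (χ : G → ℂ)) = fsIndFun (χ : G → ℂ) := by
  rcases irr_fs_cases χ with ⟨-, h | h⟩ | ⟨-, h⟩
  · rw [h, map_one]
  · rw [h, map_neg, map_one]
  · rw [h, map_zero]

/-- `#{s | s² = g} = ∑ ν(χ) χ(g)` -/
theorem card_sq_eq_eq_sum [Fintype G] [DecidableEq G] [Fintype (Cfsg.IrrCharacter G)] (g : G) :
    ((Finset.univ.filter (fun s : G => s * s = g)).card : ℂ) =
      ∑ χ : Cfsg.IrrCharacter G, fsIndFun (χ : G → ℂ) * (χ : G → ℂ) g := by
  set θ : G → ℂ := fun g => ((Finset.univ.filter (fun s : G => s * s = g)).card : ℂ) with hθ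
  have hθcf : Cfsg.IsClassFunction G θ := by
    intro a h
    simp only [hθ]
    congr 1
    apply Finset.card_bij (fun s _ => h⁻¹ * s * h)
    · intro s hs
      simp only [Finset.mem_filter, Finset.mem_univ, true_and] at hs ⊢
      calc h⁻¹ * s * h * (h⁻¹ * s * h) = h⁻¹ * (s * s) * h := by group
        _ = a := by rw [hs]; group
    · intro s _ s' _ hss
      have := mul_left_cancel (mul_right_cancel hss)
      exact this
    · intro s hs
      simp only [Finset.mem_filter, Finset.mem_univ, true_and] at hs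
      refine ⟨h * s * h⁻¹, ?_, by group⟩
      simp only [Finset.mem_filter, Finset.mem_univ, true_and]
      calc h * s * h⁻¹ * (h * s * h⁻¹) = h * (s * s) * h⁻¹ := by group
        _ = h * a * h⁻¹ := by rw [hs]
  have hG0 : (Nat.card G : ℂ) ≠ 0 := by
    have : 0 < Nat.card G := Nat.card_pos
    exact_mod_cast this.ne'
  have hinner : ∀ χ : Cfsg.IrrCharacter G,
      Cfsg.classInner θ (χ : G → ℂ) = fsIndFun (χ : G → ℂ) := by
    intro χ
    rw [← fsIndFun_conj χ, classInner_def]
    unfold fsIndFun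
    rw [map_mul, map_inv₀, map_natCast, map_sum]
    congr 1
    simp only [hθ, Finset.card_filter]
    push_cast
    simp_rw [Finset.sum_mul]
    rw [Finset.sum_comm]
    apply Finset.sum_congr rfl
    intro s _
    rw [Finset.sum_eq_single (s * s)]
    · rw [if_pos rfl, one_mul]
    · intro b _ hb
      rw [if_neg (fun h => hb h.symm), zero_mul]
    · intro h
      exact absurd (Finset.mem_univ _) h
  have hexp := classFunction_expansion θ hθcf
  have hev := congrFun hexp g
  rw [Finset.sum_apply] at hev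
  simp only [Pi.smul_apply, smul_eq_mul, hinner] at hev
  exact hev

/-- If `g` has no square root then some nonprincipal real-valued irreducible character does
not vanish at `g`. -/
theorem exists_real_irr_ne_zero_of_not_square [Finite G] (g : G) (hg : ¬ ∃ u : G, u * u = g) :
    ∃ χ : Cfsg.IrrCharacter G, ¬ ((χ : G → ℂ) = fun _ => (1 : ℂ)) ∧
      (∀ a : G, ((χ : G → ℂ) a).im = 0) ∧ (χ : G → ℂ) g ≠ 0 := by
  classical
  haveI := Fintype.ofFinite G
  haveI : Finite (Cfsg.IrrCharacter G) := irr_finite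
  haveI : Fintype (Cfsg.IrrCharacter G) := Fintype.ofFinite _
  by_contra hcon
  push Not at hcon
  have hsum := card_sq_eq_eq_sum g
  have hempty : (Finset.univ.filter (fun s : G => s * s = g)) = ∅ := by
    apply Finset.filter_eq_empty_iff.mpr
    intro s _ hs
    exact hg ⟨s, hs⟩
  rw [hempty, Finset.card_empty, Nat.cast_zero] at hsum
  let χ₁ : Cfsg.IrrCharacter G := ⟨fun _ => 1, isIrrCharacter_one⟩
  rw [Finset.sum_eq_single χ₁] at hsum
  · have h1 : fsIndFun (χ₁ : G → ℂ) = 1 := by
      unfold fsIndFun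
      simp only [χ₁, Finset.sum_const, Finset.card_univ, nsmul_eq_mul, mul_one]
      rw [Nat.card_eq_fintype_card, inv_mul_cancel₀]
      exact Nat.cast_ne_zero.mpr Fintype.card_ne_zero
    rw [h1] at hsum
    simp [χ₁] at hsum
  · intro χ _ hχ
    rcases irr_fs_cases χ with ⟨hreal, -⟩ | ⟨-, h0⟩
    · have hne : ¬ ((χ : G → ℂ) = fun _ => (1 : ℂ)) := by
        intro h
        apply hχ
        apply Subtype.ext
        exact h
      rw [hcon χ hne hreal, mul_zero]
    · rw [h0, zero_mul]
  · intro h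
    exact absurd (Finset.mem_univ _) h

end Cfsg.Agent.Helper6

namespace Cfsg.Agent.Helper6

universe u

variable {G : Type u} [Group G]

/-- The product of a `p`-element with a `2`-element of maximal order in its centralizer is not a
square. -/
theorem not_square_of_max_two_element [Finite G] (p : ℕ) [hp : Fact p.Prime] (hp2 : p ≠ 2) (x : G)
    (hx : ∃ k : ℕ, orderOf x = p ^ k)
    (heven : Even (Nat.card (Subgroup.centralizer ({x} : Set G)))) (y : G)
    (hy : y ∈ Subgroup.centralizer ({x} : Set G)) (hy2 : ∃ k : ℕ, orderOf y = 2 ^ k)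
    (hmax : ∀ z ∈ Subgroup.centralizer ({x} : Set G), (∃ k : ℕ, orderOf z = 2 ^ k) →
      orderOf z ≤ orderOf y) : ¬ ∃ u : G, u * u = x * y := by
  rintro ⟨u, hu⟩
  obtain ⟨k, hk⟩ := hx
  obtain ⟨j, hj⟩ := hy2
  have hxy : Commute x y := Subgroup.mem_centralizer_iff.mp hy x (Set.mem_singleton x)
  have hcop : Nat.Coprime (2 ^ j) (p ^ k) := by
    apply Nat.Coprime.pow
    rw [Nat.coprime_primes Nat.prime_two hp.out]
    exact fun h => hp2 h.symm
  -- u commutes with x
  have huw : Commute u (x * y) := by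
    rw [← hu]
    exact (Commute.refl u).mul_right (Commute.refl u)
  obtain ⟨m, hm⟩ := exists_pow_eq_self_of_coprime (x := x) (n := 2 ^ j) (by rw [hk]; exact hcop)
  have hxpow : ((x * y) ^ (2 ^ j)) ^ m = x := by
    rw [hxy.mul_pow, ← hj, pow_orderOf_eq_one, mul_one, hj]
    exact hm
  have hux : Commute u x := by
    rw [← hxpow]
    exact (huw.pow_right _).pow_right _
  have huC : u ∈ Subgroup.centralizer ({x} : Set G) := by
    rw [Subgroup.mem_centralizer_iff]
    intro h hh
    rw [Set.mem_singleton_iff] at hh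
    rw [hh]
    exact hux.symm
  -- j ≥ 1
  have hj0 : j ≠ 0 := by
    rintro rfl
    rw [pow_zero] at hj
    haveI : Fact (Nat.Prime 2) := ⟨Nat.prime_two⟩
    obtain ⟨i0, hi0⟩ := exists_prime_orderOf_dvd_card' (G := Subgroup.centralizer ({x} : Set G)) 2
      (even_iff_two_dvd.mp heven)
    have h1 := hmax (i0 : G) i0.2 ⟨1, by rw [Subgroup.orderOf_coe, hi0, pow_one]⟩
    rw [Subgroup.orderOf_coe, hi0, hj] at h1
    omega
  -- the 2-part of u
  set N := orderOf u with hN
  have hNpos : 0 < N := orderOf_pos u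
  set t := ordCompl[2] N with ht
  have htodd : ¬ 2 ∣ t := Nat.not_dvd_ordCompl Nat.prime_two hNpos.ne'
  set z := u ^ t with hz
  have hzpow : z ^ (2 ^ N.factorization 2) = 1 := by
    rw [hz, ← pow_mul, ht, mul_comm, Nat.ordProj_mul_ordCompl_eq_self, hN, pow_orderOf_eq_one]
  obtain ⟨i, hi, hzo⟩ := (Nat.dvd_prime_pow Nat.prime_two).mp (orderOf_dvd_of_pow_eq_one hzpow)
  have hzC : z ∈ Subgroup.centralizer ({x} : Set G) := Subgroup.pow_mem _ huC t
  have hle := hmax z hzC ⟨i, hzo⟩
  rw [hzo, hj] at hle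
  have hij : i ≤ j := (Nat.pow_le_pow_iff_right (by norm_num)).mp hle
  have hz2j : z ^ (2 ^ j) = 1 := by
    apply orderOf_dvd_iff_pow_eq_one.mp
    rw [hzo]
    exact pow_dvd_pow 2 hij
  obtain ⟨j', rfl⟩ := Nat.exists_eq_succ_of_ne_zero hj0
  set e := t * 2 ^ j' with he
  have hprod : x ^ e * y ^ e = 1 := by
    rw [← hxy.mul_pow, ← hu, he, pow_mul, ← pow_two, ← pow_mul, ← pow_mul]
    have : 2 * (t * 2 ^ j') = t * 2 ^ (j' + 1) := by ring
    rw [this, pow_mul, ← hz]
    exact hz2j
  have hye : y ^ e = (x ^ e)⁻¹ := (eq_inv_of_mul_eq_one_right hprod)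
  have ho1 : orderOf (y ^ e) ∣ 2 ^ (j' + 1) := by
    rw [← hj]; exact orderOf_pow_dvd e
  have ho2 : orderOf (y ^ e) ∣ p ^ k := by
    rw [hye, orderOf_inv, ← hk]; exact orderOf_pow_dvd e
  have ho : orderOf (y ^ e) = 1 := Nat.eq_one_of_dvd_coprimes hcop ho1 ho2
  rw [orderOf_eq_one_iff] at ho
  have hdvd : 2 ^ (j' + 1) ∣ e := by
    rw [← hj]; exact orderOf_dvd_of_pow_eq_one ho
  rw [he, pow_succ, mul_comm t] at hdvd
  have := Nat.dvd_of_mul_dvd_mul_left (pow_pos (by norm_num) j') hdvd
  exact htodd this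

end Cfsg.Agent.Helper6
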