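import Mathlib
import Cfsg.Prelude.Def_Characters
import Cfsg.Agent.Helper6.Inflation
import Cfsg.Agent.Helper6.Induced
import Cfsg.Agent.Helper6.Constituent
import Cfsg.Agent.Helper6.Codegree
import Cfsg.Agent.Helper6.Artin
import Cfsg.Agent.Helper6.Expansion
import Cfsg.Agent.Helper6.BlockPart

/-!
# Broline–Garrison: the character-theoretic core

Restriction of an irreducible character to a supplement of (a subgroup of) its kernel is
irreducible; the dichotomy for the constituents of `χ · (1_H)^G` for a maximal subgroup `H`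
supplementing the kernel of `χ`.
-/

set_option autoImplicit false
set_option linter.style.haveILetI false

namespace Cfsg.Agent.Helper6

open Module Representation
open scoped ComplexConjugate

universe u

variable {G : Type u} [Group G]

/-- Composition of an irreducible character with a surjective homomorphism. -/
theorem isIrrCharacter_comp_surjective {Q : Type u} [Group Q] (f : G →* Q)
    (hf : Function.Surjective f) {χ : Q → ℂ} (hχ : Cfsg.IsIrrCharacter Q χ) :
    Cfsg.IsIrrCharacter G (χ ∘ f) := by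
  obtain ⟨n, σ, hirr, hσ⟩ := hχ
  haveI := hirr
  refine ⟨n, σ.comp f, isIrreducible_comp_surjective σ f hf, ?_⟩
  funext g
  rw [← hσ]
  rfl

/-- If `M` is a normal subgroup in the kernel of the irreducible character `ψ` and `H`
supplements `M`, then the restriction of `ψ` to `H` is irreducible. -/
theorem restrict_irr_of_ker_sup [Finite G] (M H : Subgroup G) [hM : M.Normal] (hMH : M ⊔ H = ⊤)
    (ψ : Cfsg.IrrCharacter G) (hker : ∀ m ∈ M, (ψ : G → ℂ) m = (ψ : G → ℂ) 1) :
    Cfsg.IsIrrCharacter H (fun h : H => (ψ : G → ℂ) h) := by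
  obtain ⟨ψ', hψ'⟩ := exists_deflate M ψ hker
  let f : H →* G ⧸ M := (QuotientGroup.mk' M).comp H.subtype
  have hf : Function.Surjective f := by
    intro q
    obtain ⟨g, rfl⟩ := QuotientGroup.mk_surjective q
    have hg : g ∈ M ⊔ H := by rw [hMH]; trivial
    have hg' : g ∈ ((M ⊔ H : Subgroup G) : Set G) := hg
    rw [Subgroup.normal_mul] at hg'
    obtain ⟨m, hm, h, hh, rfl⟩ := Set.mem_mul.mp hg'
    refine ⟨⟨h, hh⟩, ?_⟩
    change ((h : G) : G ⧸ M) = ((m * h : G) : G ⧸ M)
    rw [QuotientGroup.mk_mul, (QuotientGroup.eq_one_iff m).mpr hm, one_mul]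
  have := isIrrCharacter_comp_surjective f hf ψ'.2
  convert this using 1
  funext h
  rw [hψ']
  rfl

/-- An irreducible character is constant on the cosets of its kernel. -/
theorem irr_apply_mul_of_ker [Finite G] (χ : Cfsg.IrrCharacter G) (K : Subgroup G) [hK : K.Normal]
    (hker : ∀ k ∈ K, (χ : G → ℂ) k = (χ : G → ℂ) 1) (g k : G) (hk : k ∈ K) :
    (χ : G → ℂ) (k * g) = (χ : G → ℂ) g := by
  obtain ⟨χ', hχ'⟩ := exists_deflate K χ hker
  rw [hχ']
  change (χ' : G ⧸ K → ℂ) ((k * g : G) : G ⧸ K) = (χ' : G ⧸ K → ℂ) ((g : G) : G ⧸ K)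
  rw [QuotientGroup.mk_mul, (QuotientGroup.eq_one_iff k).mpr hk, one_mul]

/-- A complex number of norm at most `a` and real part at least `a` equals `a`. -/
theorem eq_of_norm_le_of_le_re {z : ℂ} {a : ℝ} (h1 : ‖z‖ ≤ a) (h2 : a ≤ z.re) : z = (a : ℂ) := by
  have h3 : z.re ≤ ‖z‖ := Complex.re_le_norm z
  have hre : z.re = a := le_antisymm (h3.trans h1) h2
  have hn : ‖z‖ = a := le_antisymm h1 (h2.trans h3)
  have hsq : ‖z‖ ^ 2 = z.re ^ 2 + z.im ^ 2 := by
    rw [Complex.sq_norm, Complex.normSq_apply]; ring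
  have him : z.im = 0 := by
    rw [hn, hre] at hsq
    have : z.im ^ 2 = 0 := by linarith
    exact pow_eq_zero_iff (two_ne_zero) |>.mp this
  apply Complex.ext
  · rw [hre, Complex.ofReal_re]
  · rw [him, Complex.ofReal_im]

end Cfsg.Agent.Helper6
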