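import Mathlib
import Cfsg.Agent.Helper6.TateF
import Cfsg.Agent.Helper6.PPowNormB
import Cfsg.Agent.Helper1.PGroup

/-!
# Tate's theorem for fusion systems, part G: the theorem
-/

set_option autoImplicit false
set_option linter.style.haveILetI false
set_option maxHeartbeats 800000

namespace Cfsg.Agent.Helper6.Tate

open Cfsg Cfsg.FusionSystem Cfsg.Agent.Lead
open scoped commutatorElement

universe u

variable {Ω : Type u} [Group Ω] {S : Subgroup Ω}

/-- The hyperfocal subgroup of a subsystem lies in that of the system. -/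
theorem hyperfocal_mono (p : ℕ) {T : Subgroup Ω} (H : FusionSystem T) (F : FusionSystem S)
    (hTS : T ≤ S) (hHF : H.IsSubsystemOf F) : H.hyperfocalSubgroup p ≤ F.hyperfocalSubgroup p := by
  unfold FusionSystem.hyperfocalSubgroup
  rw [Subgroup.closure_le]
  rintro y ⟨P, α, x, hP, hα, rfl⟩
  have hle := PPowNorm.autGroup_le_of_subsystem H F hHF P
  have h1 : Subgroup.inclusion hle α ∈ pResidual p (F.autGroup P) :=
    pResidual_map_le p (Subgroup.inclusion hle) ⟨α, hα, rfl⟩
  exact Subgroup.subset_closure ⟨P, Subgroup.inclusion hle α, x, hP.trans hTS, h1, rfl⟩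

/-- `[S, S] ≤ Φ(S)` for a finite `p`-group `S`, inside the ambient group. -/
theorem commutator_le_map_frattini [Finite S] (p : ℕ) [Fact p.Prime] (hS : IsPGroup p S) :
    ⁅(S : Subgroup Ω), (S : Subgroup Ω)⁆ ≤ (frattini ↥S).map S.subtype := by
  rw [Subgroup.commutator_le]
  intro g₁ h₁ g₂ h₂
  refine ⟨⁅(⟨g₁, h₁⟩ : S), ⟨g₂, h₂⟩⁆, ?_, rfl⟩
  apply Cfsg.Agent.Helper1.IsPGroup.commutator_le_frattini hS
  rw [commutator_def]
  exact Subgroup.commutator_mem_commutator (Subgroup.mem_top _) (Subgroup.mem_top _)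

/-- **Tate's theorem**: if the elementary focal subgroups agree then the hyperfocal subgroups
agree. -/
theorem hyperfocal_eq_of_sup_frattini_eq [Finite S] (p : ℕ) [Fact p.Prime] (hS : IsPGroup p S)
    (F : FusionSystem S) (hF : F.IsSaturated p) (H : FusionSystem S) (hH : H.IsSaturated p)
    (hHF : H.IsSubsystemOf F)
    (h : (frattini ↥S).map S.subtype ⊔ F.focalSubgroup
      = (frattini ↥S).map S.subtype ⊔ H.focalSubgroup) :
    F.hyperfocalSubgroup p = H.hyperfocalSubgroup p := by
  have hmono := hyperfocal_mono p H F le_rfl hHF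
  apply le_antisymm _ hmono
  have hUHS := Fusion.hyperfocal_le H p
  haveI := hyperfocal_subgroupOf_normal p H
  have hNU : (H.hyperfocalSubgroup p).subgroupOf S ≤ (F.hyperfocalSubgroup p).subgroupOf S := by
    intro u hu
    rw [Subgroup.mem_subgroupOf] at hu ⊢
    exact hmono hu
  have hC := commutator_le_map_frattini p hS
  have hΦ : (F.hyperfocalSubgroup p).subgroupOf S
      ≤ (H.hyperfocalSubgroup p).subgroupOf S ⊔ frattini S := by
    intro u hu
    rw [Subgroup.mem_subgroupOf] at hu
    have h1 : (u : Ω) ∈ (frattini ↥S).map S.subtype ⊔ F.focalSubgroup := by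
      rw [Fusion.focal_eq p hS F hF]
      exact (le_sup_left.trans le_sup_right :
        F.hyperfocalSubgroup p ≤ (frattini ↥S).map S.subtype
          ⊔ (F.hyperfocalSubgroup p ⊔ ⁅(S : Subgroup Ω), (S : Subgroup Ω)⁆)) hu
    rw [h, Fusion.focal_eq p hS H hH] at h1
    have h2 : (frattini ↥S).map S.subtype
        ⊔ (H.hyperfocalSubgroup p ⊔ ⁅(S : Subgroup Ω), (S : Subgroup Ω)⁆)
        ≤ ((H.hyperfocalSubgroup p).subgroupOf S ⊔ frattini S).map S.subtype := by
      rw [Subgroup.map_sup, Subgroup.map_subgroupOf_eq_of_le hUHS]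
      refine sup_le le_sup_right (sup_le le_sup_left (hC.trans le_sup_right))
    obtain ⟨u', hu', hu'u⟩ := h2 h1
    have : u' = u := Subtype.ext hu'u
    rw [← this]
    exact hu'
  have h3 := hyperfocal_le_of_le_sup_frattini p hS F hF _ hNU hΦ
  intro y hy
  have hyS : y ∈ S := Fusion.hyperfocal_le F p hy
  exact Subgroup.mem_subgroupOf.mp (h3 (Subgroup.mem_subgroupOf.mpr (show ((⟨y, hyS⟩ : S) : Ω) ∈ _ from hy)))

/-- **Tate's theorem for fusion systems.** -/
theorem tate [Finite S] (p : ℕ) [Fact p.Prime] (hS : IsPGroup p S)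
    (F : FusionSystem S) (hF : F.IsSaturated p) (H : FusionSystem S) (hH : H.IsSaturated p)
    (hHF : H.IsSubsystemOf F) :
    (((frattini ↥S).map S.subtype ⊔ F.focalSubgroup)
        = ((frattini ↥S).map S.subtype ⊔ H.focalSubgroup) ↔ F.focalSubgroup = H.focalSubgroup) ∧
      (F.focalSubgroup = H.focalSubgroup ↔ F.hyperfocalSubgroup p = H.hyperfocalSubgroup p) := by
  have key := hyperfocal_eq_of_sup_frattini_eq p hS F hF H hH hHF
  have back : F.hyperfocalSubgroup p = H.hyperfocalSubgroup p → F.focalSubgroup = H.focalSubgroup := by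
    intro h
    rw [Fusion.focal_eq p hS F hF, Fusion.focal_eq p hS H hH, h]
  refine ⟨⟨fun h => back (key h), fun h => by rw [h]⟩, ⟨fun h => key (by rw [h]), back⟩⟩

end Cfsg.Agent.Helper6.Tate
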