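import Mathlib
import Cfsg.Agent.Helper6.TateG
import Cfsg.Agent.Lead.GlTh2C
import Cfsg.Agent.Lead.FusionFactorSys
import Cfsg.Agent.Lead.FusionHypQuot
import Cfsg.Agent.Lead.FusionNilp

/-!
# A fusion system with inner `N_F(S)` and strongly closed Frattini subgroup is inner
-/

set_option autoImplicit false
set_option linter.style.haveILetI false
set_option maxHeartbeats 800000

namespace Cfsg.Agent.Helper6.Tate

open Cfsg Cfsg.FusionSystem Cfsg.Agent.Lead
open scoped commutatorElement

universe u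

variable {Ω : Type u} [Group Ω] {S : Subgroup Ω}

theorem map_frattini_le (S : Subgroup Ω) : (frattini ↥S).map S.subtype ≤ S := by
  rintro _ ⟨s, -, rfl⟩
  exact s.2

theorem conj_mem_map_frattini {g t : Ω} (hg : g ∈ S) (ht : t ∈ (frattini ↥S).map S.subtype) :
    g * t * g⁻¹ ∈ (frattini ↥S).map S.subtype := by
  obtain ⟨s, hs, rfl⟩ := ht
  have hn : (frattini ↥S).Normal := inferInstance
  exact ⟨⟨g, hg⟩ * s * ⟨g, hg⟩⁻¹, hn.conj_mem s hs ⟨g, hg⟩, rfl⟩

theorem le_normalizerIn_map_frattini [Finite S] :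
    S ≤ normalizerIn S ((frattini ↥S).map S.subtype) := by
  intro g hg
  refine Subgroup.mem_inf.mpr ⟨hg, ?_⟩
  haveI : Finite ↥((frattini ↥S).map S.subtype) := Fusion.finite_of_le (map_frattini_le S)
  apply mem_normalizer_of_conj_mem_of_finite
  intro t ht
  exact conj_mem_map_frattini hg ht

/-- If the hyperfocal subgroup is trivial then the system is inner. -/
theorem eq_inner_of_hyperfocal_eq_bot [Finite S] (p : ℕ) [Fact p.Prime] (hS : IsPGroup p S)
    (F : FusionSystem S) (hF : F.IsSaturated p) (h : F.hyperfocalSubgroup p = ⊥) :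
    F = innerFusionSystem S := by
  apply Fusion.eq_inner_of_autGroup_isPGroup p hS F hF
  intro P hP
  haveI : Finite P := Fusion.finite_of_le hP
  haveI : Finite (MulAut P) := Finite.of_injective (fun (α : MulAut P) => (α : P → P)) (fun a b hab => MulEquiv.ext (congrFun hab))
  apply isPGroup_of_coprime_eq_one p
  intro β hβ
  have hres : β ∈ pResidual p (F.autGroup P) := mem_pResidual_of_coprime' hβ
  apply Subtype.ext
  apply MulEquiv.ext
  intro x
  have h1 := Fusion.mem_hyperfocal F p hP β hres x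
  rw [h, Subgroup.mem_bot] at h1
  apply Subtype.ext
  show (((β : MulAut P) x : P) : Ω) = x
  have h2 := inv_mul_eq_one.mp h1
  exact h2.symm

/-- A map defined on a subgroup containing a strongly closed subgroup `T` carries `T` onto `T`. -/
theorem map_subgroupOf_eq_of_stronglyClosed [Finite S] (F : FusionSystem S) {T M : Subgroup Ω}
    (hT : F.StronglyClosed T) (hTM : T ≤ M) {ψ : M →* Ω} (hψ : ψ ∈ F.Hom M) :
    (T.subgroupOf M).map ψ = T := by
  ext y
  constructor
  · rintro ⟨z, hz, rfl⟩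
    rw [SetLike.mem_coe, Subgroup.mem_subgroupOf] at hz
    have h1 := hT.2 T le_rfl _ (Fusion.restrict_mem F hψ hTM) ⟨z.1, hz⟩
    exact h1
  · intro hy
    obtain ⟨t', ht', h⟩ := Fusion.exists_preimage_of_stronglyClosed F hT hTM hψ y hy
    refine ⟨⟨t', hTM ht'⟩, ?_, h⟩
    rw [SetLike.mem_coe, Subgroup.mem_subgroupOf]
    exact ht'

/-- **If `N_F(S)` is inner and `Φ(S)` is strongly closed, the system is inner.** -/
theorem inner_of_normalizer_inner_of_frattini_closed [Finite S] (p : ℕ) [Fact p.Prime]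
    (hS : IsPGroup p S) (F : FusionSystem S) (hF : F.IsSaturated p)
    (hN : ∀ N : FusionSystem (normalizerIn S S), F.IsNormalizerSystem S N →
      ∀ P : Subgroup Ω, N.Hom P = (innerFusionSystem (normalizerIn S S)).Hom P)
    (hsc : F.StronglyClosed ((frattini ↥S).map S.subtype)) :
    ∀ P : Subgroup Ω, F.Hom P = (innerFusionSystem S).Hom P := by
  have hΦS : (frattini ↥S).map S.subtype ≤ S := map_frattini_le S
  have hcf := Cfsg.Agent.Helper1.IsPGroup.commutator_le_frattini hS
  have h1 : (commutator ↥S).map S.subtype ≤ (frattini ↥S).map S.subtype := Subgroup.map_mono hcf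
  have hNΦ := GlTh2.tate_main p hS F hF hN _ h1 le_rfl
  obtain ⟨NΦ, hNΦsys⟩ := Cfsg.Agent.S5096.result F _ hΦS
  have hinn := hNΦ NΦ hNΦsys
  -- the factor system
  set θ : S →* S ⧸ frattini ↥S := QuotientGroup.mk' (frattini ↥S) with hθ
  have hker : ∀ s : S, θ s = 1 ↔ (s : Ω) ∈ (frattini ↥S).map S.subtype := by
    intro s
    rw [hθ, QuotientGroup.mk'_apply, QuotientGroup.eq_one_iff]
    constructor
    · intro h
      exact ⟨s, h, rfl⟩
    · rintro ⟨s', hs', h⟩
      have : s' = s := Subtype.ext h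
      rwa [← this]
  have hr : θ.range = (⊤ : Subgroup (S ⧸ frattini ↥S)) :=
    MonoidHom.range_eq_top.mpr (QuotientGroup.mk'_surjective _)
  have hEfs := Fusion.factorSystem_isFactorSystem F θ hsc hker hr
  set E := Fusion.factorSystem F θ hsc hker hr with hE
  -- the quotient is abelian
  have hab : ∀ a b : S, θ (a * b) = θ (b * a) := by
    intro a b
    apply (QuotientGroup.eq).mpr
    apply hcf
    have h2 : (a * b)⁻¹ * (b * a) = ⁅b⁻¹, a⁻¹⁆ := by
      rw [commutatorElement_def]; group
    rw [h2, commutator_def]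
    exact Subgroup.commutator_mem_commutator (Subgroup.mem_top _) (Subgroup.mem_top _)
  -- maps of the factor system are inclusions
  have hincl : ∀ (P' : Subgroup (S ⧸ frattini ↥S)) (φ' : P' →* S ⧸ frattini ↥S),
      φ' ∈ E.Hom P' → ∀ y : P', φ' y = y := by
    intro P' φ' hφ' y
    obtain ⟨hP', φ, hφ, hPS, hφS, hPP', hind⟩ := (hEfs.2.2.2 P' φ').mp hφ'
    obtain ⟨s, hs⟩ := QuotientGroup.mk'_surjective (frattini ↥S) (y : S ⧸ frattini ↥S)
    have hsP : (s : Ω) ∈ preimageAlong θ P' := by
      rw [Fusion.mem_preimageAlong]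
      refine ⟨s.2, ?_⟩
      rw [Subtype.coe_eta]
      show QuotientGroup.mk' (frattini ↥S) s ∈ P'
      rw [hs]
      exact y.2
    have hΦP : (frattini ↥S).map S.subtype ≤ preimageAlong θ P' := by
      intro t ht
      rw [Fusion.mem_preimageAlong]
      refine ⟨hΦS ht, ?_⟩
      rw [(hker ⟨t, hΦS ht⟩).mpr ht]
      exact P'.one_mem
    have hφN : φ ∈ NΦ.Hom (preimageAlong θ P') := by
      rw [hNΦsys]
      refine ⟨hφ, hPS.trans le_normalizerIn_map_frattini,
        fun x => le_normalizerIn_map_frattini (hφS x), ?_⟩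
      have heq : preimageAlong θ P' = preimageAlong θ P' ⊔ (frattini ↥S).map S.subtype :=
        (sup_eq_left.mpr hΦP).symm
      obtain ⟨ψ, hψ, hψx⟩ := Fusion.exists_hom_of_eq F heq hφ
      exact ⟨ψ, hψ, fun x => hψx x.1 x.2 _,
        map_subgroupOf_eq_of_stronglyClosed F hsc le_sup_right hψ⟩
    rw [hinn] at hφN
    obtain ⟨-, g, hg, hφg⟩ := hφN
    have hgS : g ∈ S := (Subgroup.mem_inf.mp hg).1
    have h3 := hind ⟨s.1, hsP⟩
    have hy : y = ⟨θ ⟨s.1, hPS hsP⟩, hPP' ⟨s.1, hsP⟩⟩ := by
      apply Subtype.ext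
      rw [← hs]
    rw [hy, h3]
    have h4 : (⟨φ ⟨s.1, hsP⟩, hφS ⟨s.1, hsP⟩⟩ : S) = ⟨g, hgS⟩ * s * ⟨g, hgS⟩⁻¹ := by
      apply Subtype.ext
      show φ ⟨s.1, hsP⟩ = g * s.1 * g⁻¹
      exact hφg _
    rw [h4, hab, inv_mul_cancel_left]
  -- the hyperfocal subgroup of the factor system is trivial
  have hEhyp : E.hyperfocalSubgroup p = ⊥ := by
    unfold FusionSystem.hyperfocalSubgroup
    rw [Subgroup.closure_eq_bot_iff]
    rintro y ⟨P', α, x, hP', -, rfl⟩
    have hα1 : (α : MulAut P') = 1 := by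
      have hle : E.autGroup P' ≤ ⊥ := by
        unfold FusionSystem.autGroup
        rw [Subgroup.closure_le]
        intro β hβ
        rw [SetLike.mem_coe, Subgroup.mem_bot]
        apply MulEquiv.ext
        intro z
        apply Subtype.ext
        exact hincl P' _ hβ z
      exact Subgroup.mem_bot.mp (hle α.2)
    rw [hα1]
    simp
  -- the hyperfocal subgroup lies in the Frattini subgroup
  have hfac := Fusion.hyperfocal_factor p hS F hF _ hsc θ E hEfs
  rw [hEhyp] at hfac
  have hΦ : (F.hyperfocalSubgroup p).subgroupOf S ≤ (⊥ : Subgroup S) ⊔ frattini S := by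
    intro u hu
    rw [bot_sup_eq]
    have h2 : θ u ∈ ((F.hyperfocalSubgroup p).subgroupOf S).map θ := ⟨u, hu, rfl⟩
    rw [← hfac, Subgroup.mem_bot] at h2
    exact (QuotientGroup.eq_one_iff u).mp h2
  have h5 := hyperfocal_le_of_le_sup_frattini p hS F hF ⊥ bot_le hΦ
  have hbot : F.hyperfocalSubgroup p = ⊥ := by
    rw [eq_bot_iff]
    intro y hy
    have hyS : y ∈ S := Fusion.hyperfocal_le F p hy
    have h6 := h5 (Subgroup.mem_subgroupOf.mpr (show ((⟨y, hyS⟩ : S) : Ω) ∈ _ from hy))
    rw [Subgroup.mem_bot] at h6 ⊢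
    exact congrArg Subtype.val h6
  have h7 := eq_inner_of_hyperfocal_eq_bot p hS F hF hbot
  intro P
  rw [h7]

/-- The normalizer system of `S` in the inner system is inner. -/
theorem normalizer_inner_of_inner [Finite S] (p : ℕ) [Fact p.Prime]
    (hS : IsPGroup p S) (F : FusionSystem S) (hF : F.IsSaturated p)
    (h : ∀ P : Subgroup Ω, F.Hom P = (innerFusionSystem S).Hom P) :
    ∀ N : FusionSystem (normalizerIn S S), F.IsNormalizerSystem S N →
      ∀ P : Subgroup Ω, N.Hom P = (innerFusionSystem (normalizerIn S S)).Hom P := by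
  intro N hN
  have hSfn : F.IsFullyNormalized S := by
    refine ⟨le_rfl, fun U' _ => ?_⟩
    have h3 : normalizerIn S S = S := le_antisymm inf_le_left (le_inf le_rfl Subgroup.le_normalizer)
    rw [h3]
    exact Subgroup.card_le_of_le inf_le_left
  have hRS : normalizerIn S S ≤ S := inf_le_left
  haveI : Finite ↥(normalizerIn S S) := Fusion.finite_of_le hRS
  have hRp : IsPGroup p ↥(normalizerIn S S) := hS.to_le hRS
  have hNsat := Fusion.normalizerSystem_isSaturated p hS F hF S hSfn N hN
  have h1 : GlTh.Inner p F := (GlTh.inner_iff_hom p hS F hF).mpr h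
  have h2 : GlTh.NP p F S := GlTh.np_of_inner h1 S
  have h3 : GlTh.Inner p N := (GlTh.np_iff_normalizer_inner F le_rfl N hN).mp h2
  exact (GlTh.inner_iff_hom p hRp N hNsat).mp h3

/-- The Frattini subgroup is strongly closed in the inner system. -/
theorem frattini_stronglyClosed_of_inner (F : FusionSystem S)
    (h : ∀ P : Subgroup Ω, F.Hom P = (innerFusionSystem S).Hom P) :
    F.StronglyClosed ((frattini ↥S).map S.subtype) := by
  refine ⟨map_frattini_le S, fun R hR φ hφ x => ?_⟩
  rw [h R] at hφ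
  obtain ⟨-, g, hg, hφg⟩ := hφ
  rw [hφg]
  exact conj_mem_map_frattini hg (hR x.2)

/-- **S5276.** -/
theorem inner_iff_normalizer_inner_and_frattini_closed [Finite S] (p : ℕ) [Fact p.Prime]
    (hS : IsPGroup p S) (F : FusionSystem S) (hF : F.IsSaturated p) :
    (∀ P : Subgroup Ω, F.Hom P = (innerFusionSystem S).Hom P) ↔
      (∀ N : FusionSystem (normalizerIn S S), F.IsNormalizerSystem S N →
        ∀ P : Subgroup Ω, N.Hom P = (innerFusionSystem (normalizerIn S S)).Hom P) ∧
      F.StronglyClosed ((frattini ↥S).map S.subtype) :=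
  ⟨fun h => ⟨normalizer_inner_of_inner p hS F hF h, frattini_stronglyClosed_of_inner F h⟩,
    fun h => inner_of_normalizer_inner_of_frattini_closed p hS F hF h.1 h.2⟩

end Cfsg.Agent.Helper6.Tate
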