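import Mathlib
import Cfsg.Prelude.Def_GeometricClasses
import Cfsg.Agent.Helper3.AschForms

/-!
# A non-degenerate alternating form lives in even dimension (helper6)

`det_eq_zero_of_alternating`: an alternating matrix of odd size over any commutative ring has determinant `0` (generic
alternating matrix over `ℤ[X]`, where `2 * det = 0` forces `det = 0`); `even_of_isSymplecticForm`.
-/

set_option autoImplicit false

namespace Cfsg.Agent.Helper6.AschGen

open Cfsg Cfsg.Geo
open scoped MatrixGroups Matrix

/-- the generic alternating matrix -/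
noncomputable def genAlt (n : ℕ) : Matrix (Fin n) (Fin n) (MvPolynomial (Fin n × Fin n) ℤ) :=
  fun i j => MvPolynomial.X (i, j) - MvPolynomial.X (j, i)

theorem genAlt_transpose (n : ℕ) : (genAlt n)ᵀ = - genAlt n := by
  ext i j
  simp [genAlt, Matrix.transpose_apply]

theorem det_genAlt {n : ℕ} (hn : Odd n) : (genAlt n).det = 0 := by
  have h1 : (genAlt n).det = - (genAlt n).det := by
    conv_lhs => rw [← Matrix.det_transpose, genAlt_transpose, Matrix.det_neg, Fintype.card_fin, hn.neg_one_pow]
    rw [neg_one_mul]
  have h2 : (2 : MvPolynomial (Fin n × Fin n) ℤ) * (genAlt n).det = 0 := by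
    rw [two_mul]
    nth_rewrite 1 [h1]
    exact neg_add_cancel _
  rcases mul_eq_zero.1 h2 with h | h
  · exact absurd h two_ne_zero
  · exact h

/-- an alternating matrix of odd size has determinant zero -/
theorem det_eq_zero_of_alternating {R : Type*} [CommRing R] {n : ℕ} (hn : Odd n) (A : Matrix (Fin n) (Fin n) R)
    (hdiag : ∀ i, A i i = 0) (hskew : ∀ i j, A j i = - A i j) : A.det = 0 := by
  let φ : MvPolynomial (Fin n × Fin n) ℤ →+* R :=
    MvPolynomial.eval₂Hom (Int.castRingHom R) (fun p => if p.1 < p.2 then A p.1 p.2 else 0)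
  have hX : ∀ p : Fin n × Fin n, φ (MvPolynomial.X p) = if p.1 < p.2 then A p.1 p.2 else 0 := by
    intro p
    simp [φ]
  have hA : φ.mapMatrix (genAlt n) = A := by
    ext i j
    rw [RingHom.mapMatrix_apply, Matrix.map_apply]
    show φ (MvPolynomial.X (i, j) - MvPolynomial.X (j, i)) = A i j
    rw [map_sub, hX, hX]
    simp only
    rcases lt_trichotomy i j with h | h | h
    · rw [if_pos h, if_neg (not_lt.2 h.le), sub_zero]
    · subst h
      rw [if_neg (lt_irrefl _), sub_zero, hdiag]
    · rw [if_neg (not_lt.2 h.le), if_pos h, zero_sub, hskew j i]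
  rw [← hA, ← RingHom.map_det, det_genAlt hn, map_zero]

variable {n : ℕ} {F : Type*} [Field F]

/-- a non-degenerate alternating form exists only in even dimension -/
theorem even_of_isSymplecticForm {f : (Fin n → F) → (Fin n → F) → F} (hf : IsSymplecticForm f) : Even n := by
  by_contra hodd
  rw [Nat.not_even_iff_odd] at hodd
  have hs : Cfsg.Agent.Helper3.Asch.IsSesq (RingEquiv.refl F) f :=
    Cfsg.Agent.Helper3.Asch.IsSesq.of_bilinear hf.bilinear
  have hu : IsUnit (Cfsg.Agent.Helper3.Asch.gram f).det :=
    hs.isUnit_det_gram (fun v hv => (hf.nondegenerate v hv).1)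
  have h0 : (Cfsg.Agent.Helper3.Asch.gram f).det = 0 :=
    det_eq_zero_of_alternating hodd _ (fun i => hf.alternating _) (fun i j => hf.skew _ _)
  rw [h0] at hu
  exact not_isUnit_zero hu

end Cfsg.Agent.Helper6.AschGen
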