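import Mathlib
import Cfsg.Prelude.Def_GeometricClasses
import Cfsg.Agent.Helper9.AschCompNotSL

/-!
# ASCH-PP piece T3 (helper6): a tensor decomposition with two equal factors is a tensor-wreath decomposition
-/

set_option autoImplicit false

namespace Cfsg.Agent.Helper6.AschGen

open Cfsg Cfsg.Geo Cfsg.Agent.Helper9.AschComp
open scoped MatrixGroups Matrix Kronecker

variable {n : ℕ} {F : Type*} [Field F]

/-- the bijection `Fin m × Fin m ≃ (Fin 2 → Fin m)` -/
def pairEquiv (m : ℕ) : Fin m × Fin m ≃ (Fin 2 → Fin m) := (finTwoArrowEquiv (Fin m)).symm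

theorem pairEquiv_symm_apply (m : ℕ) (x : Fin 2 → Fin m) : (pairEquiv m).symm x = (x 0, x 1) := rfl

/-- a Kronecker product, reindexed along `pairEquiv`, is a pure tensor -/
theorem reindex_kronecker_mem (m : ℕ) {g : GL (Fin m × Fin m) F} (hg : g ∈ kroneckerSubgroup m m F) :
    glReindex (pairEquiv m) g ∈ tensorWreathStandard m 2 F := by
  obtain ⟨a, b, hab⟩ := hg
  apply Subgroup.subset_closure
  left
  refine ⟨![a, b], fun x y => ?_⟩
  rw [glReindex_apply, hab, pairEquiv_symm_apply, pairEquiv_symm_apply, Matrix.kroneckerMap_apply,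
    Fin.prod_univ_two]
  rfl

/-- T3: a tensor decomposition with two equal factors -/
theorem tensorProductSubgroup_le_tensorWreath (m : ℕ) (e : Fin n ≃ Fin m × Fin m) (P : GL (Fin n) F) :
    ∃ e' : Fin n ≃ (Fin 2 → Fin m), tensorProductSubgroup m m e P ≤ tensorWreathSubgroup m 2 e' P := by
  refine ⟨e.trans (pairEquiv m), ?_⟩
  unfold tensorProductSubgroup tensorWreathSubgroup
  apply Subgroup.map_mono
  rintro _ ⟨g, hg, rfl⟩
  refine ⟨glReindex (pairEquiv m) g, reindex_kronecker_mem m hg, ?_⟩
  show glReindex (e.trans (pairEquiv m)).symm (glReindex (pairEquiv m) g) = glReindex e.symm g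
  apply Units.ext
  ext i j
  rw [glReindex_apply, glReindex_apply, glReindex_apply]
  simp

end Cfsg.Agent.Helper6.AschGen
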