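import Mathlib
import Cfsg.Prelude.Def_Characters
import Cfsg.Agent.Helper6.Linear
import Cfsg.Agent.Helper6.CycTIB

/-!
# Groups with character degrees `1` and `p` (Isaacs 12.11): abstract lemmas

* `Cdp.index_eq_of_cover`: a finite abelian group covered by `p + 1` subgroups of index at least
  `p` with all pairwise intersections equal, has all these subgroups of index exactly `p`.
* `Cdp.card_hom_trivial_on`: the number of linear characters of an abelian group trivial on a
  subgroup.
* `Cdp.exists_hom_sep`: linear characters of an abelian group separate points modulo a subgroup.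
-/

set_option autoImplicit false

namespace Cfsg.Agent.Helper6.Cdp

open scoped ComplexConjugate

universe u

/-- The counting lemma: if a finite commutative group is the union of `p + 1` subgroups of index
at least `p` whose pairwise intersections all coincide, then each of them has index `p`. -/
theorem index_eq_of_cover {V : Type*} [CommGroup V] [Finite V] (p : ℕ) (hp : p.Prime)
    {ι : Type*} [Fintype ι] (hι : Fintype.card ι = p + 1)
    (S : ι → Subgroup V) (F : Subgroup V)
    (hidx : ∀ j, p ≤ (S j).index)
    (hint : ∀ i j, i ≠ j → S i ⊓ S j = F)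
    (hcov : ∀ v : V, ∃ j, v ∈ S j) :
    ∀ j, (S j).index = p := by
  classical
  haveI : Fintype V := Fintype.ofFinite V
  have hp2 : 2 ≤ p := hp.two_le
  have hFle : ∀ j, F ≤ S j := by
    intro j
    have : ∃ i, i ≠ j := by
      by_contra hcon
      push Not at hcon
      have : Fintype.card ι ≤ 1 := Fintype.card_le_one_iff.mpr (fun a b => by rw [hcon a, hcon b])
      omega
    obtain ⟨i, hi⟩ := this
    rw [← hint i j hi]
    exact inf_le_right
  set f := Nat.card F with hf
  set v := Nat.card V with hv
  set w := F.index with hw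
  have hfpos : 0 < f := Nat.card_pos
  have hwpos : 0 < w := Nat.pos_of_ne_zero Subgroup.index_ne_zero_of_finite
  have hapos : ∀ j, 0 < (S j).index := fun j => Nat.pos_of_ne_zero Subgroup.index_ne_zero_of_finite
  have hfw : f * w = v := Subgroup.card_mul_index F
  have hna : ∀ j, Nat.card (S j) * (S j).index = v := fun j => Subgroup.card_mul_index (S j)
  have hwa : ∀ j, F.relIndex (S j) * (S j).index = w := fun j => Subgroup.relIndex_mul_index (hFle j)
  have hn : ∀ j, Nat.card (S j) = f * F.relIndex (S j) := by
    intro j
    have h1 : Nat.card (S j) * (S j).index = f * F.relIndex (S j) * (S j).index := by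
      rw [hna j, mul_assoc, hwa j, hfw]
    exact Nat.eq_of_mul_eq_mul_right (hapos j) h1
  -- the double count
  have hcount : ∑ j, Nat.card (S j) = v + p * f := by
    have h1 : ∀ j, Nat.card (S j) = ∑ x : V, if x ∈ S j then 1 else 0 := by
      intro j
      rw [Nat.card_eq_fintype_card, Fintype.card_subtype, Finset.card_filter]
    simp_rw [h1]
    rw [Finset.sum_comm]
    have h2 : ∀ x : V, (∑ j, if x ∈ S j then 1 else 0) = 1 + if x ∈ F then p else 0 := by
      intro x
      by_cases hx : x ∈ F
      · rw [if_pos hx]
        have : ∀ j ∈ (Finset.univ : Finset ι), (if x ∈ S j then 1 else 0) = 1 := by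
          intro j _
          rw [if_pos (hFle j hx)]
        rw [Finset.sum_congr rfl this, Finset.sum_const, Finset.card_univ, hι]
        simp
        ring
      · rw [if_neg hx]
        obtain ⟨j₀, hj₀⟩ := hcov x
        rw [Finset.sum_eq_single j₀]
        · rw [if_pos hj₀]
        · intro j _ hj
          rw [if_neg]
          intro hxj
          apply hx
          rw [← hint j j₀ hj]
          exact ⟨hxj, hj₀⟩
        · intro h
          exact absurd (Finset.mem_univ _) h
    simp_rw [h2]
    rw [Finset.sum_add_distrib]
    have h3 : ∑ x : V, (if x ∈ F then p else 0) = p * f := by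
      rw [← Finset.sum_filter, Finset.sum_const, smul_eq_mul, mul_comm]
      congr 1
      rw [hf, Nat.card_eq_fintype_card, Fintype.card_subtype]
    rw [h3]
    simp
    rw [hv, Nat.card_eq_fintype_card]
  have hsumw : ∑ j, F.relIndex (S j) = w + p := by
    have h1 : f * ∑ j, F.relIndex (S j) = f * (w + p) := by
      rw [Finset.mul_sum]
      simp_rw [← hn]
      rw [hcount, mul_add, hfw, mul_comm f p]
    exact Nat.eq_of_mul_eq_mul_left hfpos h1
  have hprod : ∀ i j, i ≠ j → F.relIndex (S i) * F.relIndex (S j) ≤ w := by
    intro i j hij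
    have h1 : w ≤ (S i).index * (S j).index := by
      rw [hw, ← hint i j hij]
      exact Subgroup.index_inf_le
    have h2 : F.relIndex (S i) * F.relIndex (S j) * w ≤ w * w := by
      calc F.relIndex (S i) * F.relIndex (S j) * w
          ≤ F.relIndex (S i) * F.relIndex (S j) * ((S i).index * (S j).index) :=
            Nat.mul_le_mul_left _ h1
        _ = (F.relIndex (S i) * (S i).index) * (F.relIndex (S j) * (S j).index) := by ring
        _ = w * w := by rw [hwa i, hwa j]
    exact Nat.le_of_mul_le_mul_right h2 hwpos
  -- the maximal one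
  haveI : Nonempty ι := by
    rw [← Fintype.card_pos_iff, hι]
    omega
  obtain ⟨m, -, hm⟩ := Finset.exists_max_image (Finset.univ : Finset ι)
    (fun j => F.relIndex (S j)) Finset.univ_nonempty
  set t := F.relIndex (S m) with ht
  set s := (S m).index with hs
  have hts : t * s = w := hwa m
  have hsp : p ≤ s := hidx m
  have htpos : 0 < t := by
    rcases Nat.eq_zero_or_pos t with h | h
    · rw [h, zero_mul] at hts
      omega
    · exact h
  have hle_t : ∀ j, F.relIndex (S j) ≤ t := fun j => hm j (Finset.mem_univ _)
  have hle_s : ∀ j, j ≠ m → F.relIndex (S j) ≤ s := by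
    intro j hj
    have h1 := hprod j m hj
    rw [← hts] at h1
    have h2 : F.relIndex (S j) * t ≤ s * t := by
      rw [mul_comm s t]
      exact h1
    exact Nat.le_of_mul_le_mul_right h2 htpos
  have hcard_erase : (Finset.univ.erase m : Finset ι).card = p := by
    rw [Finset.card_erase_of_mem (Finset.mem_univ _), Finset.card_univ, hι]
    simp
  have hsplit : ∑ j, F.relIndex (S j) = t + ∑ j ∈ Finset.univ.erase m, F.relIndex (S j) := by
    rw [← Finset.add_sum_erase _ _ (Finset.mem_univ m)]
  have hbound_t : ∑ j ∈ Finset.univ.erase m, F.relIndex (S j) ≤ p * t := by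
    calc ∑ j ∈ Finset.univ.erase m, F.relIndex (S j)
        ≤ ∑ _j ∈ Finset.univ.erase m, t := Finset.sum_le_sum (fun j _ => hle_t j)
      _ = p * t := by rw [Finset.sum_const, hcard_erase, smul_eq_mul]
  have hbound_s : ∑ j ∈ Finset.univ.erase m, F.relIndex (S j) ≤ p * s := by
    calc ∑ j ∈ Finset.univ.erase m, F.relIndex (S j)
        ≤ ∑ _j ∈ Finset.univ.erase m, s :=
          Finset.sum_le_sum (fun j hj => hle_s j (Finset.ne_of_mem_erase hj))
      _ = p * s := by rw [Finset.sum_const, hcard_erase, smul_eq_mul]
  have h1 : t * s + p ≤ t + p * t := by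
    rw [hts, ← hsumw, hsplit]
    omega
  have h2 : t * s + p ≤ t + p * s := by
    rw [hts, ← hsumw, hsplit]
    omega
  -- arithmetic
  have hs_eq : s = p := by
    by_contra hne
    have hs1 : p + 1 ≤ s := by omega
    have : t * (p + 1) ≤ t * s := Nat.mul_le_mul_left t hs1
    have h3 : t * (p + 1) = t + p * t := by ring
    omega
  have ht_eq : t = p := by
    rw [hs_eq] at h1 h2
    have h3 : p ≤ t := by
      have : t * p = p * t := mul_comm t p
      omega
    have h4 : t ≤ p := by
      by_contra hcon
      push Not at hcon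
      -- (t - p) * (p - 1) ≤ 0
      have h5 : t * p + p ≤ t + p * p := h2
      have h6 : (p + 1) * p ≤ t * p := Nat.mul_le_mul_right p hcon
      have h7 : (p + 1) * p = p * p + p := by ring
      have : p + 1 ≤ t := hcon
      nlinarith
    omega
  have hw_eq : w = p * p := by rw [← hts, ht_eq, hs_eq]
  have hall : ∀ j, F.relIndex (S j) = p := by
    intro j
    by_contra hne
    have hlt : F.relIndex (S j) < p := by
      have := hle_t j
      rw [ht_eq] at this
      omega
    have h3 : ∑ i, F.relIndex (S i) < ∑ _i : ι, p := by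
      apply Finset.sum_lt_sum
      · intro i _
        have := hle_t i
        rw [ht_eq] at this
        exact this
      · exact ⟨j, Finset.mem_univ _, hlt⟩
    rw [hsumw, Finset.sum_const, Finset.card_univ, hι, hw_eq, smul_eq_mul] at h3
    have : (p + 1) * p = p * p + p := by ring
    omega
  intro j
  have h3 := hwa j
  rw [hall j, hw_eq] at h3
  exact Nat.eq_of_mul_eq_mul_left hp.pos h3

/-- An abelian group is a group all of whose subgroups are normal. -/
theorem normal_of_comm {A : Type u} [Group A] (hab : ∀ a b : A, a * b = b * a) (L : Subgroup A) :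
    L.Normal :=
  ⟨fun n hn g => by rw [hab g n, mul_inv_cancel_right]; exact hn⟩

/-- The number of linear characters of a finite abelian group that are trivial on a subgroup
is the index of the subgroup. -/
theorem card_hom_trivial_on {A : Type u} [Group A] [Finite A] (hab : ∀ a b : A, a * b = b * a)
    (L : Subgroup A) : Nat.card {lam : A →* ℂˣ // ∀ x ∈ L, lam x = 1} = L.index := by
  haveI hLn : L.Normal := normal_of_comm hab L
  have hcommQ : ∀ a b : A ⧸ L, a * b = b * a := by
    intro a b
    obtain ⟨a₀, rfl⟩ := QuotientGroup.mk_surjective a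
    obtain ⟨b₀, rfl⟩ := QuotientGroup.mk_surjective b
    rw [← QuotientGroup.mk_mul, ← QuotientGroup.mk_mul, hab a₀ b₀]
  have h1 : Nat.card (A ⧸ L →* ℂˣ) = Nat.card (A ⧸ L) := card_hom_units_of_comm hcommQ
  rw [Subgroup.index, ← h1]
  apply Nat.card_congr
  refine
    { toFun := fun lam => QuotientGroup.lift L lam.1 (fun x hx => lam.2 x hx)
      invFun := fun ν => ⟨ν.comp (QuotientGroup.mk' L), fun x hx => by
        rw [MonoidHom.comp_apply, QuotientGroup.mk'_apply, (QuotientGroup.eq_one_iff x).mpr hx,
          map_one]⟩
      left_inv := ?_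
      right_inv := ?_ }
  · intro lam
    apply Subtype.ext
    ext x
    exact congrArg Units.val (QuotientGroup.lift_mk L (φ := lam.1) (fun x hx => lam.2 x hx) x)
  · intro ν
    ext x
    rfl

/-- Linear characters of a finite abelian group separate points modulo a subgroup. -/
theorem exists_hom_sep {A : Type u} [Group A] [Finite A] (hab : ∀ a b : A, a * b = b * a)
    (M : Subgroup A) (x : A) (hx : x ∉ M) :
    ∃ lam : A →* ℂˣ, (∀ m ∈ M, lam m = 1) ∧ lam x ≠ 1 := by
  by_contra hcon
  push Not at hcon
  set M' := M ⊔ Subgroup.zpowers x with hM'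
  have hMM' : M ≤ M' := le_sup_left
  have hxM' : x ∈ M' := (le_sup_right : Subgroup.zpowers x ≤ M') (Subgroup.mem_zpowers x)
  have hiff : ∀ lam : A →* ℂˣ, (∀ m ∈ M, lam m = 1) ↔ (∀ m ∈ M', lam m = 1) := by
    intro lam
    constructor
    · intro h
      have h1 : M ≤ lam.ker := fun m hm => MonoidHom.mem_ker.mpr (h m hm)
      have h2 : Subgroup.zpowers x ≤ lam.ker := by
        rw [Subgroup.zpowers_le]
        exact MonoidHom.mem_ker.mpr (hcon lam h)
      intro m hm
      exact MonoidHom.mem_ker.mp ((sup_le h1 h2) hm)
    · intro h m hm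
      exact h m (hMM' hm)
  have hcard : Nat.card {lam : A →* ℂˣ // ∀ x ∈ M, lam x = 1} =
      Nat.card {lam : A →* ℂˣ // ∀ x ∈ M', lam x = 1} :=
    Nat.card_congr (Equiv.subtypeEquivRight hiff)
  rw [card_hom_trivial_on hab, card_hom_trivial_on hab] at hcard
  have h3 := Subgroup.relIndex_mul_index hMM'
  rw [hcard] at h3
  have hpos : 0 < M'.index := Nat.pos_of_ne_zero Subgroup.index_ne_zero_of_finite
  have h4 : M.relIndex M' = 1 := by
    have : M.relIndex M' * M'.index = 1 * M'.index := by rw [h3, one_mul]
    exact Nat.eq_of_mul_eq_mul_right hpos this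
  have h5 : M' ≤ M := Subgroup.relIndex_eq_one.mp h4
  exact hx (h5 hxM')

/-- Linear characters of a finite abelian group separate points. -/
theorem exists_hom_ne_one {A : Type u} [Group A] [Finite A] (hab : ∀ a b : A, a * b = b * a)
    (x : A) (hx : x ≠ 1) : ∃ lam : A →* ℂˣ, lam x ≠ 1 := by
  obtain ⟨lam, -, h⟩ := exists_hom_sep hab ⊥ x (by rwa [Subgroup.mem_bot])
  exact ⟨lam, h⟩

end Cfsg.Agent.Helper6.Cdp
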