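import Mathlib
import Cfsg.Agent.Helper6.CdpA

/-!
# Groups with character degrees `1` and `p`: nilpotent group lemmas

* `Cdp.exists_central_mod`: in a nilpotent group, a normal subgroup `N` not contained in `M`
  has an element outside `M` all of whose commutators lie in `M` (provided this holds one
  level down in the upper central series).
* `Cdp.normal_of_index_prime`: subgroups of prime index of finite nilpotent groups are normal.
* `Cdp.centralizer_le_of_maximal`: maximal abelian normal subgroups of nilpotent groups are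
  self-centralizing.
* `Cdp.exists_maximal_abelian_normal`, `Cdp.le_center_of_card_prime`.
-/

set_option autoImplicit false

namespace Cfsg.Agent.Helper6.Cdp

universe u

variable {G : Type u} [Group G]

/-- In a nilpotent group, a normal subgroup `N` not contained in `M` contains an element outside
`M` all of whose commutators lie in `M`. -/
theorem exists_central_mod [hnil : Group.IsNilpotent G] (N M : Subgroup G) [hN : N.Normal]
    (h : ¬ N ≤ M) : ∃ c ∈ N, c ∉ M ∧ ∀ g : G, c * g * c⁻¹ * g⁻¹ ∈ M := by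
  classical
  obtain ⟨n, hn⟩ := hnil.nilpotent
  have hP : ∃ i, ¬ (N ⊓ Subgroup.upperCentralSeries G i ≤ M) :=
    ⟨n, by rw [hn, inf_top_eq]; exact h⟩
  have hi1 : ¬ (N ⊓ Subgroup.upperCentralSeries G (Nat.find hP) ≤ M) := Nat.find_spec hP
  have hi0 : Nat.find hP ≠ 0 := by
    intro h0
    rw [h0, Subgroup.upperCentralSeries_zero, inf_bot_eq] at hi1
    exact hi1 bot_le
  obtain ⟨k, hk⟩ := Nat.exists_eq_succ_of_ne_zero hi0
  have hk1 : N ⊓ Subgroup.upperCentralSeries G k ≤ M := by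
    by_contra hc
    have := Nat.find_min' hP hc
    omega
  rw [hk] at hi1
  obtain ⟨c, hc, hcM⟩ := SetLike.not_le_iff_exists.mp hi1
  refine ⟨c, hc.1, hcM, fun g => hk1 ⟨?_, ?_⟩⟩
  · have : c * g * c⁻¹ * g⁻¹ = c * (g * c⁻¹ * g⁻¹) := by group
    rw [this]
    exact N.mul_mem hc.1 (hN.conj_mem _ (N.inv_mem hc.1) g)
  · exact Subgroup.mem_upperCentralSeries_succ_iff.mp hc.2 g

/-- A subgroup of prime index in a finite nilpotent group is normal. -/
theorem normal_of_index_prime [Finite G] [Group.IsNilpotent G] (T : Subgroup G) {p : ℕ}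
    (hp : p.Prime) (hT : T.index = p) : T.Normal := by
  have hlt : T < ⊤ := by
    rw [lt_top_iff_ne_top]
    intro h
    rw [h, Subgroup.index_top] at hT
    exact hp.one_lt.ne hT
  have h1 := Group.normalizerCondition_of_isNilpotent T hlt
  have h2 := Subgroup.relIndex_mul_index (le_of_lt h1)
  rw [hT] at h2
  have h3 : T.relIndex (Subgroup.normalizer (T : Set G)) ≠ 1 := by
    intro h
    exact (not_le_of_gt h1) (Subgroup.relIndex_eq_one.mp h)
  have h4 : (Subgroup.normalizer (T : Set G)).index = 1 := by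
    rcases (Nat.dvd_prime hp).mp (Dvd.intro_left _ h2) with h | h
    · exact h
    · rw [h] at h2
      have : T.relIndex (Subgroup.normalizer (T : Set G)) = 1 :=
        Nat.eq_of_mul_eq_mul_right hp.pos (h2.trans (one_mul p).symm)
      exact absurd this h3
  exact Subgroup.normalizer_eq_top_iff.mp (Subgroup.index_eq_one.mp h4)

/-- Adjoining to an abelian normal subgroup `A` an element centralizing `A` and central modulo
`A` gives an abelian normal subgroup. -/
theorem sup_zpowers_normal_abelian (A : Subgroup G) [hA : A.Normal]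
    (hab : ∀ a ∈ A, ∀ b ∈ A, a * b = b * a) (c : G) (hcomm_c : ∀ a ∈ A, Commute a c)
    (hcg : ∀ g : G, c * g * c⁻¹ * g⁻¹ ∈ A) :
    (A ⊔ Subgroup.zpowers c).Normal ∧
      ∀ x ∈ A ⊔ Subgroup.zpowers c, ∀ y ∈ A ⊔ Subgroup.zpowers c, x * y = y * x := by
  set B := A ⊔ Subgroup.zpowers c with hB
  have hmemB : ∀ x, x ∈ B ↔ ∃ a ∈ A, ∃ z ∈ Subgroup.zpowers c, a * z = x :=
    fun x => Subgroup.mem_sup_of_normal_left
  have hBab : ∀ x ∈ B, ∀ y ∈ B, x * y = y * x := by
    intro x hx y hy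
    obtain ⟨a, ha, z, hz, rfl⟩ := (hmemB x).mp hx
    obtain ⟨b, hb, w, hw, rfl⟩ := (hmemB y).mp hy
    obtain ⟨i, rfl⟩ := Subgroup.mem_zpowers_iff.mp hz
    obtain ⟨j, rfl⟩ := Subgroup.mem_zpowers_iff.mp hw
    have h1 : Commute a b := hab a ha b hb
    have h2 : Commute a (c ^ j) := (hcomm_c a ha).zpow_right j
    have h3 : Commute (c ^ i) b := ((hcomm_c b hb).zpow_right i).symm
    have h4 : Commute (c ^ i) (c ^ j) := (Commute.refl c).zpow_zpow i j
    exact (h1.mul_right h2).mul_left (h3.mul_right h4)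
  have hconj_c : ∀ g : G, g * c * g⁻¹ ∈ B := by
    intro g
    have h1 : g * c * g⁻¹ = (c * g * c⁻¹ * g⁻¹)⁻¹ * c := by group
    rw [h1]
    exact B.mul_mem ((le_sup_left : A ≤ B) (A.inv_mem (hcg g)))
      ((le_sup_right : Subgroup.zpowers c ≤ B) (Subgroup.mem_zpowers c))
  refine ⟨⟨fun x hx g => ?_⟩, hBab⟩
  obtain ⟨a, ha, z, hz, rfl⟩ := (hmemB x).mp hx
  obtain ⟨i, rfl⟩ := Subgroup.mem_zpowers_iff.mp hz
  have h1 : g * (a * c ^ i) * g⁻¹ = (g * a * g⁻¹) * (g * c * g⁻¹) ^ i := by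
    rw [conj_zpow]
    group
  rw [h1]
  exact B.mul_mem ((le_sup_left : A ≤ B) (hA.conj_mem a ha g)) (B.zpow_mem (hconj_c g) i)

/-- A maximal abelian normal subgroup of a nilpotent group contains its centralizer. -/
theorem centralizer_le_of_maximal [Group.IsNilpotent G] (A : Subgroup G) [hA : A.Normal]
    (hab : ∀ a ∈ A, ∀ b ∈ A, a * b = b * a)
    (hmax : ∀ B : Subgroup G, B.Normal → (∀ a ∈ B, ∀ b ∈ B, a * b = b * a) → A ≤ B → B ≤ A) :
    Subgroup.centralizer (A : Set G) ≤ A := by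
  by_contra hcon
  obtain ⟨c, hcC, hcA, hcg⟩ := exists_central_mod (Subgroup.centralizer (A : Set G)) A hcon
  have hcomm_c : ∀ a ∈ A, Commute a c := fun a ha => Subgroup.mem_centralizer_iff.mp hcC a ha
  obtain ⟨hBn, hBab⟩ := sup_zpowers_normal_abelian A hab c hcomm_c hcg
  have := hmax _ hBn hBab le_sup_left
  exact hcA (this ((le_sup_right : Subgroup.zpowers c ≤ A ⊔ Subgroup.zpowers c)
    (Subgroup.mem_zpowers c)))

/-- Every abelian normal subgroup of a finite group lies in a maximal one. -/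
theorem exists_maximal_abelian_normal [Finite G] (B₀ : Subgroup G) (hB₀n : B₀.Normal)
    (hB₀ : ∀ a ∈ B₀, ∀ b ∈ B₀, a * b = b * a) :
    ∃ A : Subgroup G, A.Normal ∧ (∀ a ∈ A, ∀ b ∈ A, a * b = b * a) ∧ B₀ ≤ A ∧
      ∀ B : Subgroup G, B.Normal → (∀ a ∈ B, ∀ b ∈ B, a * b = b * a) → A ≤ B → B ≤ A := by
  classical
  haveI : Fintype (Subgroup G) := Fintype.ofFinite _
  set S := (Finset.univ : Finset (Subgroup G)).filter
    (fun B => B.Normal ∧ (∀ a ∈ B, ∀ b ∈ B, a * b = b * a) ∧ B₀ ≤ B) with hS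
  have hne : S.Nonempty := ⟨B₀, by
    rw [hS, Finset.mem_filter]
    exact ⟨Finset.mem_univ _, hB₀n, hB₀, le_refl _⟩⟩
  obtain ⟨A, hAS, hAmax⟩ := Finset.exists_max_image S (fun B => Nat.card B) hne
  rw [hS, Finset.mem_filter] at hAS
  obtain ⟨-, hAn, hAab, hBA⟩ := hAS
  refine ⟨A, hAn, hAab, hBA, ?_⟩
  intro B hBn hBab hAB
  have hBS : B ∈ S := by
    rw [hS, Finset.mem_filter]
    exact ⟨Finset.mem_univ _, hBn, hBab, hBA.trans hAB⟩
  have h1 := hAmax B hBS
  exact (Subgroup.eq_of_le_of_card_ge hAB h1).symm.le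

/-- A normal subgroup of prime order of a nilpotent group is central. -/
theorem le_center_of_card_prime [Group.IsNilpotent G] (L : Subgroup G) [hL : L.Normal] {p : ℕ}
    (hp : p.Prime) (hcard : Nat.card L = p) : L ≤ Subgroup.center G := by
  haveI : Fact p.Prime := ⟨hp⟩
  have hne : ¬ L ≤ ⊥ := by
    intro h
    have h1 : L = ⊥ := le_bot_iff.mp h
    rw [h1, Subgroup.card_bot] at hcard
    exact hp.one_lt.ne hcard
  obtain ⟨c, hcL, hc1, hcg⟩ := exists_central_mod L ⊥ hne
  have hc1' : c ≠ 1 := fun h => hc1 (by rw [h]; exact Subgroup.one_mem _)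
  have hcZ : c ∈ Subgroup.center G := by
    rw [Subgroup.mem_center_iff]
    intro g
    have h1 := Subgroup.mem_bot.mp (hcg g)
    have h2 : c * g = (c * g * c⁻¹ * g⁻¹) * (g * c) := by group
    rw [h2, h1, one_mul]
  have htop : Subgroup.zpowers (⟨c, hcL⟩ : L) = ⊤ :=
    zpowers_eq_top_of_prime_card hcard (fun h => hc1' (congrArg Subtype.val h))
  intro x hx
  have h1 : (⟨x, hx⟩ : L) ∈ Subgroup.zpowers (⟨c, hcL⟩ : L) := by
    rw [htop]
    exact Subgroup.mem_top _
  obtain ⟨i, hi⟩ := Subgroup.mem_zpowers_iff.mp h1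
  have h2 : x = c ^ i := by
    have := congrArg Subtype.val hi
    simpa using this.symm
  rw [h2]
  exact (Subgroup.center G).zpow_mem hcZ i

end Cfsg.Agent.Helper6.Cdp
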