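import Mathlib
import Cfsg.Prelude.Def_Characters
import Cfsg.Prelude.Def_Blocks
import Cfsg.Agent.Helper6.LambdaSumB
import Cfsg.Agent.Helper6.CharCongr
import Cfsg.Agent.Helper6.GaloisConj
import Cfsg.Agent.Helper6.BlockPart
import Cfsg.Agent.Helper6.InducedPart
import Cfsg.Agent.Helper6.PrincipalDefect

/-!
# Parity of the number of Galois-fixed characters of odd degree in the principal 2-block
-/

set_option autoImplicit false
set_option linter.style.haveILetI false

namespace Cfsg.Agent.Helper6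

open scoped ComplexConjugate

universe u

variable {G : Type u} [Group G] {M : Ideal Cfsg.AlgInt}

/-- If `k` is odd and fixes (as a power map) every element of odd order, then the power map
`g ↦ g ^ k` has `2`-power order. -/
theorem pow_pow_two_pow_eq_self [Finite G] (k : ℕ) (hodd : Odd k)
    (hk₂ : ∀ g : G, Odd (orderOf g) → g ^ k = g) (g : G) :
    g ^ (k ^ (2 ^ Nat.card G)) = g := by
  have ho : orderOf g ≠ 0 := (orderOf_pos g).ne'
  obtain ⟨b, c, hc, hbc⟩ := Nat.exists_eq_two_pow_mul_odd ho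
  have hc0 : c ≠ 0 := by
    rintro rfl
    simp at hc
  have hkc : k ≡ 1 [MOD c] := by
    have hord : orderOf (g ^ (2 ^ b)) = c := by
      rw [orderOf_pow_of_dvd (pow_ne_zero b two_ne_zero) ⟨c, hbc⟩, hbc]
      exact Nat.mul_div_cancel_left c (pow_pos two_pos b)
    have h1 := hk₂ (g ^ (2 ^ b)) (by rw [hord]; exact hc)
    rw [← pow_mul] at h1
    have h2 : g ^ (2 ^ b * k) = g ^ (2 ^ b * 1) := by rw [h1, mul_one]
    rw [pow_eq_pow_iff_modEq, hbc] at h2
    exact Nat.ModEq.mul_left_cancel' (pow_ne_zero b two_ne_zero) h2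
  have hN : b ≤ Nat.card G := by
    have h1 : 2 ^ b ≤ orderOf g := by
      rw [hbc]
      exact Nat.le_mul_of_pos_right _ (Nat.pos_of_ne_zero hc0)
    have h2 : orderOf g ≤ Nat.card G := orderOf_le_card
    have h3 : b < 2 ^ b := Nat.lt_two_pow_self
    omega
  have hk2 : k ^ (2 ^ Nat.card G) ≡ 1 [MOD 2 ^ b] := by
    rcases Nat.eq_zero_or_pos b with hb | hb
    · rw [hb, pow_zero]
      exact Nat.modEq_one
    · have hcop : Nat.Coprime k (2 ^ b) := by
        apply Nat.Coprime.pow_right
        exact hodd.coprime_two_right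
      have h1 := Nat.ModEq.pow_totient hcop
      rw [Nat.totient_prime_pow Nat.prime_two hb] at h1
      simp only [Nat.add_one_sub_one, mul_one] at h1
      have h2 : 2 ^ Nat.card G = 2 ^ (b - 1) * 2 ^ (Nat.card G - (b - 1)) := by
        rw [← pow_add]
        congr 1
        omega
      rw [h2, pow_mul]
      have := h1.pow (2 ^ (Nat.card G - (b - 1)))
      rwa [one_pow] at this
  have hkc' : k ^ (2 ^ Nat.card G) ≡ 1 [MOD c] := by
    have := hkc.pow (2 ^ Nat.card G)
    rwa [one_pow] at this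
  have hcop2 : Nat.Coprime (2 ^ b) c := by
    apply Nat.Coprime.pow_left
    exact hc.coprime_two_left
  have hfin : k ^ (2 ^ Nat.card G) ≡ 1 [MOD orderOf g] := by
    rw [hbc]
    exact (Nat.modEq_and_modEq_iff_modEq_mul hcop2).mp ⟨hk2, hkc'⟩
  have := (pow_eq_pow_iff_modEq (x := g)).mpr hfin
  rwa [pow_one] at this

open Classical in
/-- The sum of the squares of the degrees in the principal block is divisible by `p` when `p`
divides the group order. -/
theorem prime_dvd_sum_sq_principalBlock [Fintype G] [Fintype (Cfsg.IrrCharacter G)]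
    {p : ℕ} [hp : Fact p.Prime]
    (hM : Cfsg.IsPModular p M) (hdvd : p ∣ Nat.card G) :
    p ∣ ∑ χ : Cfsg.IrrCharacter G,
      if χ ∈ Cfsg.principalBlock M G then Cfsg.charDegree (χ : G → ℂ) ^ 2 else 0 := by
  classical
  obtain ⟨x, hx⟩ := exists_prime_orderOf_dvd_card' p hdvd
  have h1 := weak_block_orthogonality hM.2.1 p hM.2.2 (Cfsg.principalBlock M G)
    (isPBlock_principalBlock G) (1 : G) x (by rw [orderOf_one]; exact hp.out.not_dvd_one)
    (by rw [hx])
  rw [finsum_mem_eq_sum_ite] at h1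
  apply dvd_of_memLocalIdeal_natCast hM
  have h2 : ((∑ χ : Cfsg.IrrCharacter G,
      if χ ∈ Cfsg.principalBlock M G then Cfsg.charDegree (χ : G → ℂ) ^ 2 else 0 : ℕ) : ℂ) =
      ∑ χ : Cfsg.IrrCharacter G, if χ ∈ Cfsg.principalBlock M G then
        (χ : G → ℂ) 1 * ((χ : G → ℂ) 1 - conj ((χ : G → ℂ) x)) else 0 := by
    have h3 : ∑ χ : Cfsg.IrrCharacter G, (if χ ∈ Cfsg.principalBlock M G then
        (χ : G → ℂ) 1 * ((χ : G → ℂ) 1 - conj ((χ : G → ℂ) x)) else 0) =
        (∑ χ : Cfsg.IrrCharacter G, if χ ∈ Cfsg.principalBlock M G then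
          (χ : G → ℂ) 1 * (χ : G → ℂ) 1 else 0) -
        ∑ χ : Cfsg.IrrCharacter G, if χ ∈ Cfsg.principalBlock M G then
          (χ : G → ℂ) 1 * conj ((χ : G → ℂ) x) else 0 := by
      rw [← Finset.sum_sub_distrib]
      apply Finset.sum_congr rfl
      intro χ _
      split_ifs
      · ring
      · ring
    rw [h3, h1, sub_zero]
    push_cast
    apply Finset.sum_congr rfl
    intro χ _
    split_ifs
    · rw [charDegree_cast_of_isCharacter (IsIrrCharacter.isCharacter χ.2)]
      ring
    · rfl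
  rw [h2]
  apply MemLocalIdeal.sum hM.2.1
  intro χ _
  split_ifs
  · have hχc := IsIrrCharacter.isCharacter χ.2
    apply MemLocalIdeal.mul_left hM.2.1
    · rw [← charDegree_cast_of_isCharacter hχc]
      exact memLocalRing_natCast hM.2.1 _
    · have h4 := char_mul_sub_memLocalIdeal hM.2.1 p hp.out hM.2.2 hχc x⁻¹ 1 (by simp)
        ⟨1, by rw [orderOf_inv, hx, pow_one]⟩ (by rw [orderOf_one]; exact hp.out.not_dvd_one)
      rw [mul_one, IsCharacter.inv_eq_conj hχc] at h4
      have := MemLocalIdeal.neg h4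
      rwa [neg_sub] at this
  · exact memLocalIdeal_zero hM.2.1

theorem charDegree_comp_pow (χ : G → ℂ) (k : ℕ) :
    Cfsg.charDegree (fun g => χ (g ^ k)) = Cfsg.charDegree χ := by
  unfold Cfsg.charDegree
  simp only [one_pow]

/-- The number of members of the principal `2`-block of odd degree fixed by a `2`-power-order
Galois automorphism (given as a power map) is even. -/
theorem even_card_fixed_odd_principal [Finite G] (hM : Cfsg.IsPModular 2 M)
    (hev : Even (Nat.card G)) (k : ℕ)
    (hk₁ : ∀ g : G, (∃ j : ℕ, orderOf g = 2 ^ j) → g ^ k = g ^ 3)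
    (hk₂ : ∀ g : G, Odd (orderOf g) → g ^ k = g) :
    Even (Nat.card {χ : Cfsg.IrrCharacter G // χ ∈ Cfsg.principalBlock M G ∧
      Odd (Cfsg.charDegree (χ : G → ℂ)) ∧ ∀ g : G, (χ : G → ℂ) (g ^ k) = (χ : G → ℂ) g}) := by
  classical
  haveI := Fintype.ofFinite G
  haveI : Finite (Cfsg.IrrCharacter G) := irr_finite
  haveI : Fintype (Cfsg.IrrCharacter G) := Fintype.ofFinite _
  haveI : Fact (Nat.Prime 2) := ⟨Nat.prime_two⟩
  have h2dvd : 2 ∣ Nat.card G := even_iff_two_dvd.mp hev
  -- k is odd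
  have hkodd : Odd k := by
    by_contra hne
    have hke : Even k := Nat.not_odd_iff_even.mp hne
    obtain ⟨x, hx⟩ := exists_prime_orderOf_dvd_card' 2 h2dvd
    have h1 := hk₁ x ⟨1, by rw [hx, pow_one]⟩
    have hx2 : x ^ 2 = 1 := by rw [← hx]; exact pow_orderOf_eq_one x
    have h3 : x ^ 3 = x := by rw [pow_succ, hx2, one_mul]
    obtain ⟨m, hm⟩ := hke
    have h4 : x ^ k = 1 := by
      rw [hm, ← two_mul, pow_mul, hx2, one_pow]
    rw [h4, h3] at h1
    rw [← h1, orderOf_one] at hx
    omega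
  -- k is coprime to the group order
  have hkcop : Nat.Coprime k (Nat.card G) := by
    apply Nat.coprime_of_dvd
    intro q hq hqk hqG
    haveI : Fact q.Prime := ⟨hq⟩
    obtain ⟨y, hy⟩ := exists_prime_orderOf_dvd_card' q hqG
    have hqodd : Odd q := by
      rcases hq.eq_two_or_odd' with h | h
      · exfalso
        rw [h] at hqk
        exact (Nat.not_even_iff_odd.mpr hkodd) (even_iff_two_dvd.mpr hqk)
      · exact h
    have h1 := hk₂ y (by rw [hy]; exact hqodd)
    obtain ⟨m, hm⟩ := hqk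
    have h2 : y ^ k = 1 := by
      rw [hm, pow_mul, ← hy, pow_orderOf_eq_one, one_pow]
    rw [h2] at h1
    rw [← h1, orderOf_one] at hy
    exact hq.one_lt.ne hy
  -- the set X and the map τ
  have hmem : ∀ χ : Cfsg.IrrCharacter G, χ ∈ Cfsg.principalBlock M G →
      ∀ hirr : Cfsg.IsIrrCharacter G (fun g => (χ : G → ℂ) (g ^ k)),
      (⟨fun g => (χ : G → ℂ) (g ^ k), hirr⟩ : Cfsg.IrrCharacter G) ∈
        Cfsg.principalBlock M G := by
    intro χ hχ hirr
    rw [mem_principalBlock_iff_truncSum hM] at hχ ⊢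
    have : truncSum 2 (fun _ : G => (1 : ℂ)) (fun g => (χ : G → ℂ) (g ^ k)) =
        truncSum 2 (fun _ : G => (1 : ℂ)) (χ : G → ℂ) := by
      unfold truncSum truncConj
      apply Finset.sum_congr rfl
      intro x _
      split_ifs with hx
      · rw [zero_mul, zero_mul]
      · have : Odd (orderOf x) := by
          rw [← Nat.not_even_iff_odd, even_iff_two_dvd]
          exact hx
        change _ * (χ : G → ℂ) (x ^ k) = _
        rw [hk₂ x this]
    change truncSum 2 (fun _ : G => (1 : ℂ)) (fun g => (χ : G → ℂ) (g ^ k)) ≠ 0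
    rw [this]
    exact hχ
  let X := {χ : Cfsg.IrrCharacter G // χ ∈ Cfsg.principalBlock M G ∧
    Odd (Cfsg.charDegree (χ : G → ℂ))}
  let τ : Function.End X := fun χ =>
    ⟨⟨fun g => (χ.1 : G → ℂ) (g ^ k), IsIrrCharacter.comp_pow χ.1.2 k hkcop⟩,
      hmem χ.1 χ.2.1 _, by
        change Odd (Cfsg.charDegree (fun g => (χ.1 : G → ℂ) (g ^ k)))
        rw [charDegree_comp_pow]
        exact χ.2.2⟩
  have hτiter : ∀ (m : ℕ) (χ : X) (g : G),
      (((τ ^ m) χ).1 : G → ℂ) g = (χ.1 : G → ℂ) (g ^ (k ^ m)) := by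
    intro m
    induction m with
    | zero =>
      intro χ g
      rw [pow_zero, pow_zero, pow_one]
      rfl
    | succ m ih =>
      intro χ g
      rw [pow_succ']
      change (((τ ^ m) χ).1 : G → ℂ) (g ^ k) = _
      rw [ih, ← pow_mul, pow_succ']
  have hτpow : τ ^ 2 ^ (Nat.card G) = 1 := by
    funext χ
    apply Subtype.ext
    apply Subtype.ext
    funext g
    rw [hτiter, pow_pow_two_pow_eq_self k hkodd hk₂ g]
    rfl
  have hmod := Equiv.Perm.card_fixedPoints_modEq (p := 2) hτpow
  -- the cardinality of X is even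
  have hXeven : Even (Fintype.card X) := by
    have hdvd := prime_dvd_sum_sq_principalBlock (G := G) hM h2dvd
    rw [Fintype.card_subtype, Finset.card_filter]
    rw [even_iff_two_dvd]
    rw [Nat.dvd_iff_mod_eq_zero, Finset.sum_nat_mod] at hdvd ⊢
    refine Eq.trans ?_ hdvd
    congr 1
    apply Finset.sum_congr rfl
    intro χ _
    by_cases h1 : χ ∈ Cfsg.principalBlock M G
    · by_cases h2 : Odd (Cfsg.charDegree (χ : G → ℂ))
      · rw [if_pos ⟨h1, h2⟩, if_pos h1]
        have := Nat.odd_iff.mp (h2.pow (n := 2))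
        rw [this]
        norm_num
      · rw [if_neg (fun h => h2 h.2), if_pos h1]
        have h3 : Even (Cfsg.charDegree (χ : G → ℂ) ^ 2) :=
          (Nat.not_odd_iff_even.mp h2).pow_of_ne_zero two_ne_zero
        have := Nat.even_iff.mp h3
        rw [this]
        norm_num
    · rw [if_neg (fun h => h1 h.1), if_neg h1]
  have hfix : Even (Fintype.card (Function.fixedPoints τ)) := by
    have h1 := Nat.even_iff.mp hXeven
    rw [Nat.even_iff]
    have := hmod
    unfold Nat.ModEq at this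
    omega
  have hcard : Nat.card {χ : Cfsg.IrrCharacter G // χ ∈ Cfsg.principalBlock M G ∧
      Odd (Cfsg.charDegree (χ : G → ℂ)) ∧ ∀ g : G, (χ : G → ℂ) (g ^ k) = (χ : G → ℂ) g} =
      Fintype.card (Function.fixedPoints τ) := by
    rw [← Nat.card_eq_fintype_card]
    apply Nat.card_congr
    refine ⟨fun χ => ⟨⟨χ.1, χ.2.1, χ.2.2.1⟩, ?_⟩, fun χ => ⟨χ.1.1, χ.1.2.1, χ.1.2.2, ?_⟩, ?_, ?_⟩
    · change τ _ = _
      apply Subtype.ext
      apply Subtype.ext
      funext g
      exact χ.2.2.2 g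
    · intro g
      have h := χ.2
      change τ χ.1 = χ.1 at h
      have h2 := congrArg (fun z : X => (z.1 : G → ℂ) g) h
      exact h2
    · intro χ
      rfl
    · intro χ
      rfl
  rw [hcard]
  exact hfix

end Cfsg.Agent.Helper6
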