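import Mathlib
import Cfsg.Prelude.Def_Characters
import Cfsg.Agent.Helper6.SquareRoots
import Cfsg.Agent.Helper6.ColumnOrth
import Cfsg.Agent.Helper6.KleinFourB
import Cfsg.Agent.Helper6.RepEigen
import Cfsg.Agent.Helper6.NormalInd
import Cfsg.Agent.Helper6.Codegree
import Cfsg.Agent.Helper6.Sib67A

/-!
# A real element with centralizer of odd order forces an irreducible character of even degree
-/

set_option autoImplicit false
set_option linter.style.haveILetI false

namespace Cfsg.Agent.Helper6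

open Module Representation
open scoped ComplexConjugate

universe u

variable {G : Type u} [Group G]

/-- the value of a character at an involution is congruent to the degree modulo `2` -/
theorem char_involution_parity [Finite G] {χ : G → ℂ} (hχ : Cfsg.IsCharacter G χ) (z : G)
    (hz : orderOf z = 2) : ∃ m : ℤ, χ z = χ 1 + 2 * (m : ℂ) := by
  obtain ⟨d, hd⟩ := IsCharacter.apply_one hχ
  have hcard : Nat.card (Subgroup.zpowers z) = 2 := by rw [Nat.card_zpowers, hz]
  have hc : ∀ x ∈ Subgroup.zpowers z, x ≠ 1 → χ x = χ z := by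
    intro x hx hx1
    obtain ⟨i, rfl⟩ := Subgroup.mem_zpowers_iff.mp hx
    have hzz : z ^ (2 : ℤ) = 1 := by
      have h := pow_orderOf_eq_one z
      rw [hz] at h
      exact_mod_cast h
    rcases Int.emod_two_eq_zero_or_one i with h | h
    · exfalso
      apply hx1
      have : i = 2 * (i / 2) := by omega
      rw [this, zpow_mul, hzz, one_zpow]
    · have : i = 2 * (i / 2) + 1 := by omega
      rw [this, zpow_add, zpow_mul, hzz, one_zpow, one_mul, zpow_one]
  obtain ⟨n, hn⟩ := char_sum_const_off_one (Subgroup.zpowers z) hχ (χ z) hc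
  rw [hcard, hd] at hn
  refine ⟨(n : ℤ) - (d : ℤ), ?_⟩
  rw [hd]
  push_cast at hn ⊢
  linear_combination hn

/-- a real-valued irreducible character of odd degree has Frobenius–Schur indicator `1` -/
theorem fsIndFun_eq_one_of_real_of_odd [Fintype G] (χ : Cfsg.IrrCharacter G)
    (hreal : ∀ g, ((χ : G → ℂ) g).im = 0) (hodd : Odd (Cfsg.charDegree (χ : G → ℂ))) :
    fsIndFun (χ : G → ℂ) = 1 := by
  obtain ⟨n, ρ, hirr, hρ⟩ := χ.2
  haveI := hirr
  have hfs : fsIndFun (χ : G → ℂ) = fsInd ρ := by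
    unfold fsIndFun fsInd
    rw [hρ]
  rw [hfs]
  apply fsInd_eq_one_of_real_of_odd ρ
  · intro g
    rw [char_inv_eq_conj, hρ]
    exact Complex.conj_eq_iff_im.mpr (hreal g)
  · rw [← hρ, charDegree_rep] at hodd
    exact hodd

/-- twice the algebraic integers, as an additive subgroup of `ℂ` -/
def twoAlgInt : AddSubgroup ℂ where
  carrier := {z | ∃ w : ℂ, IsIntegral ℤ w ∧ z = 2 * w}
  zero_mem' := ⟨0, isIntegral_zero, by simp⟩
  add_mem' := by
    rintro a b ⟨w, hw, rfl⟩ ⟨v, hv, rfl⟩
    exact ⟨w + v, hw.add hv, by ring⟩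
  neg_mem' := by
    rintro a ⟨w, hw, rfl⟩
    exact ⟨-w, hw.neg, by ring⟩

theorem mem_twoAlgInt_iff (z : ℂ) : z ∈ twoAlgInt ↔ ∃ w : ℂ, IsIntegral ℤ w ∧ z = 2 * w :=
  Iff.rfl

theorem one_not_mem_twoAlgInt : (1 : ℂ) ∉ twoAlgInt := by
  rintro ⟨w, hw, h⟩
  have hw2 : w = ((1 / 2 : ℚ) : ℂ) := by
    push_cast
    linear_combination -(1 / 2 : ℂ) * h
  obtain ⟨c, hc⟩ := exists_int_of_isIntegral_eq_rat hw (1 / 2 : ℚ) hw2
  rw [hc] at h
  have h2 : (1 : ℤ) = 2 * c := by exact_mod_cast h
  omega

/-- in a group, an element whose centralizer has odd order has exactly one square root -/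
theorem card_sqrt_eq_one_of_odd_centralizer [Fintype G] [DecidableEq G] (y : G)
    (hyodd : Odd (Nat.card (Subgroup.centralizer ({y} : Set G)))) :
    (Finset.univ.filter (fun s : G => s * s = y)).card = 1 := by
  obtain ⟨k, hk⟩ := hyodd
  set N := Nat.card (Subgroup.centralizer ({y} : Set G)) with hN
  have hpow : ∀ s ∈ Subgroup.centralizer ({y} : Set G), s ^ N = 1 := by
    intro s hs
    have h1 : orderOf s ∣ N := Subgroup.orderOf_dvd_natCard _ hs
    exact orderOf_dvd_iff_pow_eq_one.mp h1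
  rw [Finset.card_eq_one]
  refine ⟨y ^ (k + 1), ?_⟩
  ext s
  rw [Finset.mem_filter, Finset.mem_singleton]
  constructor
  · rintro ⟨-, hs⟩
    have hsC : s ∈ Subgroup.centralizer ({y} : Set G) := by
      rw [Subgroup.mem_centralizer_singleton_iff, ← hs]
      group
    have h1 := hpow s hsC
    rw [← hs, ← pow_two, ← pow_mul]
    have : 2 * (k + 1) = N + 1 := by omega
    rw [this, pow_succ, h1, one_mul]
  · intro hs
    refine ⟨Finset.mem_univ _, ?_⟩
    have hyC : y ∈ Subgroup.centralizer ({y} : Set G) := by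
      rw [Subgroup.mem_centralizer_singleton_iff]
    have h1 := hpow y hyC
    rw [hs, ← pow_add]
    have : k + 1 + (k + 1) = N + 1 := by omega
    rw [this, pow_succ, h1, one_mul]

/-- an element inverted by an involution and with centralizer of odd order forces an irreducible
character of even degree -/
theorem exists_even_degree_of_inverted [Finite G] (g y : G) (hg : orderOf g = 2)
    (hyodd : Odd (Nat.card (Subgroup.centralizer ({y} : Set G))))
    (hinv : g * y * g⁻¹ = y⁻¹) :
    ∃ χ : Cfsg.IrrCharacter G, Even (Cfsg.charDegree (χ : G → ℂ)) := by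
  classical
  by_contra hcon
  push Not at hcon
  have hoddall : ∀ χ : Cfsg.IrrCharacter G, Odd (Cfsg.charDegree (χ : G → ℂ)) :=
    fun χ => Nat.not_even_iff_odd.mp (hcon χ)
  haveI : Fintype G := Fintype.ofFinite G
  haveI : Finite (Cfsg.IrrCharacter G) := irr_finite
  haveI : Fintype (Cfsg.IrrCharacter G) := Fintype.ofFinite _
  -- `g` and `y` are not conjugate
  have hyC : y ∈ Subgroup.centralizer ({y} : Set G) := by
    rw [Subgroup.mem_centralizer_singleton_iff]
  have hyord : Odd (orderOf y) := by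
    have h1 : orderOf y ∣ Nat.card (Subgroup.centralizer ({y} : Set G)) :=
      Subgroup.orderOf_dvd_natCard _ hyC
    exact Odd.of_dvd_nat hyodd h1
  have hnc : ¬ IsConj g y := by
    intro h
    obtain ⟨c, hc⟩ := isConj_iff.mp h
    have h1 := (MulAut.conj c).orderOf_eq g
    rw [MulAut.conj_apply, hc, hg] at h1
    rw [h1] at hyord
    exact absurd hyord (by decide)
  -- the values at `y` are real
  have hyreal : ∀ χ : Cfsg.IrrCharacter G, conj ((χ : G → ℂ) y) = (χ : G → ℂ) y := by
    intro χ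
    have hχc := IsIrrCharacter.isCharacter χ.2
    rw [← IsCharacter.inv_eq_conj hχc y, ← hinv]
    exact IsCharacter.isClassFunction hχc y g
  have hint : ∀ (χ : Cfsg.IrrCharacter G) (a : G), IsIntegral ℤ ((χ : G → ℂ) a) := by
    intro χ a
    obtain ⟨n, ρ, -, hρ⟩ := χ.2
    rw [← hρ]
    exact isIntegral_char ρ a
  -- column orthogonality
  have hcol := column_orthogonality_aux (G := G) g y
  rw [if_neg hnc] at hcol
  -- parity of the values at `g`
  have hpar : ∀ χ : Cfsg.IrrCharacter G, ∃ m : ℤ, (χ : G → ℂ) g = 1 + 2 * (m : ℂ) := by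
    intro χ
    have hχc := IsIrrCharacter.isCharacter χ.2
    obtain ⟨m, hm⟩ := char_involution_parity hχc g hg
    obtain ⟨c, hc⟩ := hoddall χ
    have hd := charDegree_cast_of_isCharacter hχc
    refine ⟨m + c, ?_⟩
    rw [hm, ← hd, hc]
    push_cast
    ring
  choose m hm using hpar
  -- the sum of all values at `y` is even
  have hall : ∑ χ : Cfsg.IrrCharacter G, (χ : G → ℂ) y ∈ twoAlgInt := by
    refine ⟨-∑ χ : Cfsg.IrrCharacter G, (m χ : ℂ) * (χ : G → ℂ) y, ?_, ?_⟩
    · apply IsIntegral.neg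
      apply IsIntegral.sum
      intro χ _
      exact (isIntegral_algebraMap (R := ℤ) (A := ℂ) (x := m χ)).mul (hint χ y)
    · have h1 : ∑ χ : Cfsg.IrrCharacter G, (χ : G → ℂ) g * conj ((χ : G → ℂ) y) =
          ∑ χ : Cfsg.IrrCharacter G, (χ : G → ℂ) y +
            2 * ∑ χ : Cfsg.IrrCharacter G, (m χ : ℂ) * (χ : G → ℂ) y := by
        rw [Finset.mul_sum, ← Finset.sum_add_distrib]
        apply Finset.sum_congr rfl
        intro χ _
        rw [hyreal χ, hm χ]
        ring
      rw [h1] at hcol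
      linear_combination hcol
  -- the non-real characters
  let σ : Cfsg.IrrCharacter G → Cfsg.IrrCharacter G :=
    fun χ => ⟨fun a => conj ((χ : G → ℂ) a), conj_isIrr χ.2⟩
  have hσσ : ∀ χ, σ (σ χ) = χ := by
    intro χ
    apply Subtype.ext
    funext a
    show conj (conj ((χ : G → ℂ) a)) = (χ : G → ℂ) a
    rw [Complex.conj_conj]
  set NR : Finset (Cfsg.IrrCharacter G) :=
    Finset.univ.filter (fun χ => ∃ a, ((χ : G → ℂ) a).im ≠ 0) with hNR
  have hnr : ∑ χ ∈ NR, (χ : G → ℂ) y ∈ twoAlgInt := by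
    rw [← QuotientAddGroup.eq_zero_iff, ← QuotientAddGroup.mk'_apply, map_sum]
    apply Finset.sum_involution (fun χ _ => σ χ)
    · intro χ _
      have h1 : ((σ χ : Cfsg.IrrCharacter G) : G → ℂ) y = (χ : G → ℂ) y := hyreal χ
      rw [h1, ← map_add, QuotientAddGroup.mk'_apply, QuotientAddGroup.eq_zero_iff]
      exact ⟨(χ : G → ℂ) y, hint χ y, by ring⟩
    · intro χ hχ _ h
      rw [hNR, Finset.mem_filter] at hχ
      obtain ⟨a, ha⟩ := hχ.2
      apply ha
      have h2 := congrFun (congrArg Subtype.val h) a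
      exact Complex.conj_eq_iff_im.mp h2
    · intro χ hχ
      rw [hNR, Finset.mem_filter] at hχ ⊢
      obtain ⟨a, ha⟩ := hχ.2
      refine ⟨Finset.mem_univ _, a, ?_⟩
      show (conj ((χ : G → ℂ) a)).im ≠ 0
      rw [Complex.conj_im]
      exact neg_ne_zero.mpr ha
    · intro χ _
      exact hσσ χ
  -- the Frobenius–Schur count
  have hcount := card_sq_eq_eq_sum (G := G) y
  rw [card_sqrt_eq_one_of_odd_centralizer y hyodd, Nat.cast_one] at hcount
  have hfs : ∀ χ : Cfsg.IrrCharacter G, fsIndFun (χ : G → ℂ) * (χ : G → ℂ) y =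
      if χ ∈ NR then 0 else (χ : G → ℂ) y := by
    intro χ
    rcases irr_fs_cases χ with ⟨hreal, -⟩ | ⟨hnreal, h0⟩
    · have : χ ∉ NR := by
        rw [hNR, Finset.mem_filter]
        rintro ⟨-, a, ha⟩
        exact ha (hreal a)
      rw [if_neg this, fsIndFun_eq_one_of_real_of_odd χ hreal (hoddall χ), one_mul]
    · have : χ ∈ NR := by
        rw [hNR, Finset.mem_filter]
        exact ⟨Finset.mem_univ _, hnreal⟩
      rw [if_pos this, h0, zero_mul]
  rw [Finset.sum_congr rfl (fun χ _ => hfs χ)] at hcount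
  have hsplit : ∑ χ : Cfsg.IrrCharacter G, (χ : G → ℂ) y =
      ∑ χ ∈ NR, (χ : G → ℂ) y + 1 := by
    rw [hcount, ← Finset.sum_filter_add_sum_filter_not Finset.univ (fun χ => χ ∈ NR)]
    congr 1
    · apply Finset.sum_congr
      · ext χ
        simp
      · intro χ _
        rfl
    · rw [Finset.sum_ite, Finset.sum_const_zero, zero_add]
  apply one_not_mem_twoAlgInt
  have h1 : (1 : ℂ) = ∑ χ : Cfsg.IrrCharacter G, (χ : G → ℂ) y - ∑ χ ∈ NR, (χ : G → ℂ) y := by
    rw [hsplit]
    ring
  rw [h1]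
  exact twoAlgInt.sub_mem hall hnr

end Cfsg.Agent.Helper6
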