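import Mathlib
import Cfsg.Prelude.Def_Characters
import Cfsg.Agent.Helper6.AbelianInertia
import Cfsg.Agent.Helper6.Linear
import Cfsg.Agent.Helper6.LinearCount

/-!
# The action of linear characters on irreducible characters by multiplication
-/

set_option autoImplicit false
set_option linter.style.haveILetI false

namespace Cfsg.Agent.Helper6

open scoped ComplexConjugate

universe u

variable {G : Type u} [Group G]

/-- Multiplication by linear characters, as an action on the irreducible characters. -/
@[instance_reducible]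
noncomputable def linAction (G : Type u) [Group G] [Fintype G] :
    MulAction (G →* ℂˣ) (Cfsg.IrrCharacter G) where
  smul μ χ := ⟨(χ : G → ℂ) * fun g => ((μ g : ℂˣ) : ℂ), IsIrrCharacter.mul_hom μ χ.2⟩
  one_smul χ := by
    apply Subtype.ext
    funext g
    change (χ : G → ℂ) g * (((1 : G →* ℂˣ) g : ℂˣ) : ℂ) = (χ : G → ℂ) g
    simp
  mul_smul μ ν χ := by
    apply Subtype.ext
    funext g
    change (χ : G → ℂ) g * (((μ * ν) g : ℂˣ) : ℂ) =
      (χ : G → ℂ) g * ((ν g : ℂˣ) : ℂ) * ((μ g : ℂˣ) : ℂ)
    rw [MonoidHom.mul_apply, Units.val_mul]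
    ring

/-- The linear characters that are trivial on a subgroup. -/
def trivOn (M : Subgroup G) : Subgroup (G →* ℂˣ) where
  carrier := {μ | ∀ m ∈ M, μ m = 1}
  mul_mem' := by
    intro a b ha hb m hm
    rw [MonoidHom.mul_apply, ha m hm, hb m hm, one_mul]
  one_mem' := fun m _ => rfl
  inv_mem' := by
    intro a ha m hm
    rw [MonoidHom.inv_apply, ha m hm, inv_one]

theorem mem_trivOn (M : Subgroup G) (μ : G →* ℂˣ) : μ ∈ trivOn M ↔ ∀ m ∈ M, μ m = 1 := Iff.rfl

/-- The number of linear characters trivial on a normal subgroup divides its index. -/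
theorem card_trivOn_dvd_index [Finite G] (M : Subgroup G) [hM : M.Normal] :
    Nat.card (trivOn M) ∣ M.index := by
  have hker : ∀ μ : trivOn M, M ≤ (μ : G →* ℂˣ).ker := by
    intro μ m hm
    exact MonoidHom.mem_ker.mpr (μ.2 m hm)
  let Φ : trivOn M →* (G ⧸ M →* ℂˣ) :=
    { toFun := fun μ => QuotientGroup.lift M (μ : G →* ℂˣ) (hker μ)
      map_one' := by
        ext x
        rfl
      map_mul' := by
        intro μ ν
        ext x
        rfl }
  have hΦ : Function.Injective Φ := by
    intro μ ν h
    apply Subtype.ext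
    ext g
    have := congrArg (fun f : G ⧸ M →* ℂˣ => f (QuotientGroup.mk g)) h
    simp only [Φ, MonoidHom.coe_mk, OneHom.coe_mk, QuotientGroup.lift_mk] at this
    rw [this]
  haveI : Finite (G ⧸ M →* ℂˣ) := finite_hom_units
  calc Nat.card (trivOn M) ∣ Nat.card (G ⧸ M →* ℂˣ) := Subgroup.card_dvd_of_injective Φ hΦ
    _ = (commutator (G ⧸ M)).index := card_hom_units
    _ ∣ Nat.card (G ⧸ M) := Subgroup.index_dvd_card _
    _ = M.index := (Subgroup.index_eq_card M).symm

end Cfsg.Agent.Helper6
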