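import Mathlib
import Cfsg.Prelude.Def_GeometricClasses
import Cfsg.Agent.Lead.AschBase
import Cfsg.Agent.Helper7.AschNotSLA
import Cfsg.Agent.Helper7.AschNotSLB
import Cfsg.Agent.Helper7.AschC2
import Cfsg.Agent.Helper9.AschCompK
import Cfsg.Agent.Helper9.AschCompForms
import Cfsg.Agent.Helper6.AschGenMain
import Cfsg.Agent.S5886

/-!
# ASCH-PP: Aschbacher's theorem for maximal subgroups of `SL_n(F)`, `n ≥ 3` ARBITRARY, generic form (helper6)

`asch_gen_max`: `H` maximal in `SL_n(F)`; the conclusions are equalities `H = X ⊓ SL_n(F)` with the small-field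
refinements of `asch_comp`, except for the tensor-induced alternative (class 7), which is kept as a containment.
-/

set_option autoImplicit false
set_option linter.unusedVariables false

namespace Cfsg.Agent.Helper6.AschGen

open Cfsg Cfsg.Geo Cfsg.Agent.Lead.Asch Cfsg.Agent.Helper6.AschComp Cfsg.Agent.Helper9.AschC6
open scoped MatrixGroups Matrix Kronecker

variable {n : ℕ} {F : Type*} [Field F]

theorem not_le_subgroupNormalizer_symplecticType [Fintype F] (hn3 : 3 ≤ n) {r : ℕ} {R : Subgroup (GL (Fin n) F)}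
    (hR : IsLinearSymplecticTypeData r R) (hRS : R ≤ specialLinear (Fin n) F) :
    ¬ specialLinear (Fin n) F ≤ subgroupNormalizer R := by
  classical
  haveI : Fact r.Prime := ⟨hR.symplecticType.prime⟩
  haveI : Finite (GL (Fin n) F) := inferInstance
  haveI : Finite R := inferInstance
  have hnil : Group.IsNilpotent R := hR.symplecticType.pGroup.isNilpotent
  have hsol : Group.IsSolvable R := inferInstance
  refine Cfsg.Agent.Helper7.Asch.not_le_normalizer_of_solvable hn3 R hRS hsol ?_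
  exact not_le_scalars_of_irred (by omega) hR.absIrred.1

/-- Aschbacher's theorem for maximal subgroups of `SL_n(F)`, `n ≥ 3`, generic form. -/
theorem asch_gen_max [Fintype F] (hperfect : PerfectCaseGen n F) (hsymp : SympCaseGen n F) (hn3 : 3 ≤ n)
    (H : Subgroup (GL (Fin n) F)) (hH : IsMaximalIn (specialLinear (Fin n) F) H) :
    (∃ W : Submodule F (Fin n → F), W ≠ ⊥ ∧ W ≠ ⊤ ∧ H = subspaceStabilizer W ⊓ specialLinear (Fin n) F) ∨
    (∃ (t m : ℕ) (D : Fin t → Submodule F (Fin n → F)), IsMDecomposition m D ∧ t * m = n ∧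
      ¬ (m = 1 ∧ Fintype.card F ≤ 4) ∧ ¬ (m = 2 ∧ Fintype.card F = 2) ∧
      H = decompositionStabilizer D ⊓ specialLinear (Fin n) F) ∨
    (∃ (r : ℕ) (K : Subalgebra F (Matrix (Fin n) (Fin n) F)), r.Prime ∧ r ∣ n ∧ IsFieldSubalgebra r K ∧
      H = subalgebraNormalizer K ⊓ specialLinear (Fin n) F) ∨
    (∃ (n₁ n₂ : ℕ) (e : Fin n ≃ Fin n₁ × Fin n₂) (P : GL (Fin n) F), 2 ≤ n₁ ∧ 2 ≤ n₂ ∧
      ¬ ((n₁ = 2 ∨ n₂ = 2) ∧ Fintype.card F = 2) ∧
      H = tensorProductSubgroup n₁ n₂ e P ⊓ specialLinear (Fin n) F) ∨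
    (∃ (F₀ : Subfield F) (r : ℕ) (P : GL (Fin n) F), r.Prime ∧ Fintype.card F = Nat.card F₀ ^ r ∧
      H = subfieldSubgroup F₀ P ⊓ specialLinear (Fin n) F) ∨
    (∃ (r a : ℕ) (R : Subgroup (GL (Fin n) F)), r.Prime ∧ n = r ^ a ∧ IsLinearSymplecticTypeData r R ∧
      H = subgroupNormalizer R ⊓ specialLinear (Fin n) F) ∨
    (∃ (d k : ℕ) (e : Fin n ≃ (Fin k → Fin d)) (Pm : GL (Fin n) F), 2 ≤ d ∧ 2 ≤ k ∧
      H ≤ tensorWreathSubgroup d k e Pm) ∨
    (Odd (Fintype.card F) ∧ ∃ Q : (Fin n → F) → F, IsNondegenerateQuadraticForm Q ∧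
      H = quadSimilarityGroup Q ⊓ specialLinear (Fin n) F) ∨
    (∃ f : (Fin n → F) → (Fin n → F) → F, IsSymplecticForm f ∧
      H = similarityGroup f ⊓ specialLinear (Fin n) F) ∨
    (∃ (σ : F ≃+* F) (f : (Fin n → F) → (Fin n → F) → F), IsUnitaryForm σ f ∧
      H = similarityGroup f ⊓ specialLinear (Fin n) F) ∨
    InLinearResidualClass H := by
  have hHG : H ≤ specialLinear (Fin n) F := hH.1.le
  have exitSub : (∃ (F₁ : Subfield F) (r : ℕ) (Pm : GL (Fin n) F), r.Prime ∧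
      Fintype.card F = Nat.card F₁ ^ r ∧ H ≤ subfieldSubgroup F₁ Pm) →
      (∃ (F₀ : Subfield F) (r : ℕ) (P : GL (Fin n) F), r.Prime ∧ Fintype.card F = Nat.card F₀ ^ r ∧
        H = subfieldSubgroup F₀ P ⊓ specialLinear (Fin n) F) := by
    rintro ⟨F₁, r, Pm, hr, hc, hle⟩
    exact ⟨F₁, r, Pm, hr, hc, eq_inf_of_le hH hle
      (Cfsg.Agent.Helper7.Asch.not_le_subfieldSubgroup (by omega) F₁ (subfield_ne_top_of_card F₁ r hr hc) Pm)⟩
  have exitU : (∃ (σ : F ≃+* F) (f : (Fin n → F) → (Fin n → F) → F), IsUnitaryForm σ f ∧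
      H ≤ similarityGroup f) →
      (∃ (σ : F ≃+* F) (f : (Fin n → F) → (Fin n → F) → F), IsUnitaryForm σ f ∧
        H = similarityGroup f ⊓ specialLinear (Fin n) F) := by
    rintro ⟨σ, f, hf, hle⟩
    exact ⟨σ, f, hf, eq_inf_of_le hH hle (Cfsg.Agent.Helper7.Asch.not_le_similarityGroup_unitary hn3 σ f hf)⟩
  have exitQ : (Odd (Fintype.card F) ∧ ∃ Q : (Fin n → F) → F, IsNondegenerateQuadraticForm Q ∧
      H ≤ quadSimilarityGroup Q) →
      (Odd (Fintype.card F) ∧ ∃ Q : (Fin n → F) → F, IsNondegenerateQuadraticForm Q ∧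
        H = quadSimilarityGroup Q ⊓ specialLinear (Fin n) F) := by
    rintro ⟨ho, Q, hQ, hle⟩
    exact ⟨ho, Q, hQ, eq_inf_of_le hH hle (Cfsg.Agent.Helper7.Asch.not_le_quadSimilarityGroup hn3 Q hQ)⟩
  have exitS : (∃ f : (Fin n → F) → (Fin n → F) → F, IsSymplecticForm f ∧ H ≤ similarityGroup f) →
      (∃ f : (Fin n → F) → (Fin n → F) → F, IsSymplecticForm f ∧
        H = similarityGroup f ⊓ specialLinear (Fin n) F) := by
    rintro ⟨f, hf, hle⟩
    exact ⟨f, hf, eq_inf_of_le hH hle (Cfsg.Agent.Helper9.AschCompK.not_le_similarityGroup_symplectic hn3 f hf)⟩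
  have exitW : (∃ W : Submodule F (Fin n → F), W ≠ ⊥ ∧ W ≠ ⊤ ∧ H ≤ subspaceStabilizer W) →
      (∃ W : Submodule F (Fin n → F), W ≠ ⊥ ∧ W ≠ ⊤ ∧
        H = subspaceStabilizer W ⊓ specialLinear (Fin n) F) := by
    rintro ⟨W, h0, h1, hle⟩
    exact ⟨W, h0, h1, eq_inf_of_le hH hle (Cfsg.Agent.Helper7.Asch.not_le_subspaceStabilizer (by omega) W h0 h1)⟩
  have exitK : (∃ (r : ℕ) (K : Subalgebra F (Matrix (Fin n) (Fin n) F)), r.Prime ∧ r ∣ n ∧ IsFieldSubalgebra r K ∧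
      H ≤ subalgebraNormalizer K) →
      (∃ (r : ℕ) (K : Subalgebra F (Matrix (Fin n) (Fin n) F)), r.Prime ∧ r ∣ n ∧ IsFieldSubalgebra r K ∧
      H = subalgebraNormalizer K ⊓ specialLinear (Fin n) F) := by
    rintro ⟨r, K, hr, hrn, hK, hle⟩
    refine ⟨r, K, hr, hrn, hK, eq_inf_of_le hH hle ?_⟩
    rcases lt_or_eq_of_le (Nat.le_of_dvd (by omega) hrn) with hlt | heq
    · have hmax := (Cfsg.Agent.S5886.result n r hr hrn hlt K hK).2
      intro hle'
      have : subalgebraNormalizer K ⊓ specialLinear (Fin n) F = specialLinear (Fin n) F :=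
        inf_eq_right.2 hle'
      exact absurd this (ne_of_lt hmax.1)
    · subst heq
      exact Cfsg.Agent.Helper7.Asch.not_le_subalgebraNormalizer hn3 K hK
  rcases asch_gen hperfect hsymp hn3 H with h | h | h | h | h | h | h | h | h | h | h
  · exact Or.inl (exitW h)
  · obtain ⟨t, m, D, hD, htm, hle⟩ := h
    by_cases h1 : m = 1 ∧ Fintype.card F ≤ 4
    · obtain ⟨rfl, hq⟩ := h1
      have htn : t = n := by omega
      subst htn
      rcases Cfsg.Agent.Helper7.Asch.c2_small (by omega) D hD hq with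
        ⟨W, h0, h1, hW⟩ | ⟨ho, Q, hQ, hQle⟩ | ⟨σ, f, hf, hfle⟩
      · exact Or.inl (exitW ⟨W, h0, h1, hle.trans hW⟩)
      · exact Or.inr (Or.inr (Or.inr (Or.inr (Or.inr (Or.inr (Or.inr (Or.inl
          (exitQ ⟨ho, Q, hQ, hle.trans hQle⟩))))))))
      · exact Or.inr (Or.inr (Or.inr (Or.inr (Or.inr (Or.inr (Or.inr (Or.inr (Or.inr (Or.inl
          (exitU ⟨σ, f, hf, hle.trans hfle⟩))))))))))
    by_cases h2 : m = 2 ∧ Fintype.card F = 2
    · obtain ⟨rfl, hq⟩ := h2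
      obtain ⟨f, hf, hfle⟩ := Cfsg.Agent.Helper9.AschComp.c2_small_two D hD hq
      exact Or.inr (Or.inr (Or.inr (Or.inr (Or.inr (Or.inr (Or.inr (Or.inr (Or.inl
        (exitS ⟨f, hf, hle.trans hfle⟩)))))))))
    · exact Or.inr (Or.inl ⟨t, m, D, hD, htm, h1, h2, eq_inf_of_le hH hle
        (Cfsg.Agent.Helper9.AschComp.not_le_decompositionStabilizer' D hD)⟩)
  · exact Or.inr (Or.inr (Or.inl (exitK h)))
  · obtain ⟨n₁, n₂, e, P, h1, h2, hle⟩ := h
    by_cases hq : (n₁ = 2 ∨ n₂ = 2) ∧ Fintype.card F = 2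
    · obtain ⟨h12, hq⟩ := hq
      have hcard : n = n₁ * n₂ := by
        have := Fintype.card_congr e
        simpa using this
      rcases h12 with rfl | rfl
      · obtain ⟨K, hK, hKle⟩ := Cfsg.Agent.Helper9.AschCompK.c4_small_two (by omega) hq n₂ e P
        exact Or.inr (Or.inr (Or.inl (exitK ⟨2, K, Nat.prime_two, ⟨n₂, hcard⟩, hK, hle.trans hKle⟩)))
      · rw [Cfsg.Agent.Helper9.AschCompK.tensorProductSubgroup_swap] at hle
        obtain ⟨K, hK, hKle⟩ := Cfsg.Agent.Helper9.AschCompK.c4_small_two (by omega) hq n₁ _ P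
        exact Or.inr (Or.inr (Or.inl (exitK ⟨2, K, Nat.prime_two, ⟨n₁, by rw [hcard, mul_comm]⟩, hK,
          hle.trans hKle⟩)))
    · exact Or.inr (Or.inr (Or.inr (Or.inl ⟨n₁, n₂, e, P, h1, h2, hq,
        eq_inf_of_le hH hle (Cfsg.Agent.Helper9.AschCompK.not_le_tensorProductSubgroup n₁ n₂ h1 h2 e P)⟩)))
  · exact Or.inr (Or.inr (Or.inr (Or.inr (Or.inl (exitSub h)))))
  · obtain ⟨r, a, R, hr, hra, hdata, hRH, hle⟩ := h
    exact Or.inr (Or.inr (Or.inr (Or.inr (Or.inr (Or.inl ⟨r, a, R, hr, hra, hdata,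
      eq_inf_of_le hH hle (not_le_subgroupNormalizer_symplecticType hn3 hdata (hRH.trans hHG))⟩)))))
  · exact Or.inr (Or.inr (Or.inr (Or.inr (Or.inr (Or.inr (Or.inl h))))))
  · exact Or.inr (Or.inr (Or.inr (Or.inr (Or.inr (Or.inr (Or.inr (Or.inl (exitQ h))))))))
  · exact Or.inr (Or.inr (Or.inr (Or.inr (Or.inr (Or.inr (Or.inr (Or.inr (Or.inl (exitS h)))))))))
  · exact Or.inr (Or.inr (Or.inr (Or.inr (Or.inr (Or.inr (Or.inr (Or.inr (Or.inr (Or.inl (exitU h))))))))))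
  · exact Or.inr (Or.inr (Or.inr (Or.inr (Or.inr (Or.inr (Or.inr (Or.inr (Or.inr (Or.inr h)))))))))

end Cfsg.Agent.Helper6.AschGen
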