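import Mathlib
import Cfsg.Agent.Lead.BswDefs
import Cfsg.Agent.Helper7.Bsw_A31_35
import Cfsg.Agent.Helper7.Bsw_B1_9
import Cfsg.Agent.Helper9.Bsw_B10_17
import Cfsg.Agent.Helper6.Bsw_C3

/-!
# S3282 (abstract BSW), piece C4: counting the torus elements with centralizer of order `a`.
-/

set_option autoImplicit false
namespace Cfsg.Agent.Lead.Bsw
variable {G : Type*} [Group G] [Finite G] {t s : G} {K : Subgroup G}

omit [Finite G] in
theorem h6_card_centralizer_conj (g y : G) :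
    Nat.card (Subgroup.centralizer ({g * y * g⁻¹} : Set G)) =
      Nat.card (Subgroup.centralizer ({y} : Set G)) := by
  symm
  refine Nat.card_congr (Equiv.subtypeEquiv (MulAut.conj g).toEquiv ?_)
  intro x
  have hval : (MulAut.conj g).toEquiv x = g * x * g⁻¹ := by simp
  rw [hval]
  simp only [Subgroup.mem_centralizer_iff, Set.mem_singleton_iff, forall_eq]
  constructor
  · intro hx
    calc g * y * g⁻¹ * (g * x * g⁻¹) = g * (y * x) * g⁻¹ := by group
      _ = g * (x * y) * g⁻¹ := by rw [hx]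
      _ = g * x * g⁻¹ * (g * y * g⁻¹) := by group
  · intro hx
    have h1 : g⁻¹ * (g * y * g⁻¹ * (g * x * g⁻¹)) * g = y * x := by group
    have h2 : g⁻¹ * (g * x * g⁻¹ * (g * y * g⁻¹)) * g = x * y := by group
    rw [← h1, hx, h2]

-- C4 : tori of a fixed order a
theorem torus_count (h : Hyp t K s) (a : ℕ) :
    a * Nat.card {y : G // IsTorusElt y ∧ Nat.card (Subgroup.centralizer ({y} : Set G)) = a} =
      nInv G * Nat.card {y : G // (IsTorusElt y ∧ Nat.card (Subgroup.centralizer ({y} : Set G)) = a) ∧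
        t * y * t⁻¹ = y⁻¹} := by
  classical
  have := Fintype.ofFinite G
  have hP : ∀ g y : G, (IsTorusElt y ∧ Nat.card (Subgroup.centralizer ({y} : Set G)) = a) →
      (IsTorusElt (g * y * g⁻¹) ∧ Nat.card (Subgroup.centralizer ({g * y * g⁻¹} : Set G)) = a) := by
    rintro g y ⟨h1, h2⟩
    exact ⟨(isTorusElt_conj g y).mpr h1, by rw [h6_card_centralizer_conj, h2]⟩
  rw [← double_count h.hconj t h.ht
    (fun y => IsTorusElt y ∧ Nat.card (Subgroup.centralizer ({y} : Set G)) = a) hP]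
  let e : {p : G × G // (IsTorusElt p.1 ∧ Nat.card (Subgroup.centralizer ({p.1} : Set G)) = a) ∧
        orderOf p.2 = 2 ∧ p.2 * p.1 * p.2⁻¹ = p.1⁻¹} ≃
      Σ y : {y : G // IsTorusElt y ∧ Nat.card (Subgroup.centralizer ({y} : Set G)) = a},
        {z : G // orderOf z = 2 ∧ z * y.1 * z⁻¹ = y.1⁻¹} :=
    { toFun := fun p => ⟨⟨p.1.1, p.2.1⟩, ⟨p.1.2, p.2.2.1, p.2.2.2⟩⟩
      invFun := fun q => ⟨(q.1.1, q.2.1), q.1.2, q.2.2.1, q.2.2.2⟩
      left_inv := fun p => by rfl
      right_inv := fun q => by rfl }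
  rw [Nat.card_congr e, Nat.card_sigma]
  have hf : ∀ y : {y : G // IsTorusElt y ∧ Nat.card (Subgroup.centralizer ({y} : Set G)) = a},
      Nat.card {z : G // orderOf z = 2 ∧ z * y.1 * z⁻¹ = y.1⁻¹} = a := by
    intro y
    rw [← F_eq_inverters (torusElt_sq_ne h y.2.1).1, F_torus h y.2.1, y.2.2]
  rw [Finset.sum_congr rfl (fun y _ => hf y), Finset.sum_const, Finset.card_univ, smul_eq_mul,
    mul_comm]
  simp only [Nat.card_eq_fintype_card]

end Cfsg.Agent.Lead.Bsw
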