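import Mathlib
import Cfsg.Agent.Lead.KLc
import Cfsg.Agent.Lead.FusionGrun
import Cfsg.Agent.S5097

/-!
# Control of weak closure of elements in fusion systems, part A

Basic lemmas on central subgroups and the centralizer system of a subgroup of `Z(S)`.
-/

set_option autoImplicit false
set_option linter.style.haveILetI false

namespace Cfsg.Agent.Helper6.Ctr

open Cfsg Cfsg.FusionSystem Cfsg.Agent.Lead Cfsg.Agent.Helper1 Cfsg.Agent.Helper1.ThompsonRed
  Cfsg.Agent.Lead.GlTh Cfsg.Agent.Lead.KL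

universe u

variable {Ω : Type u} [Group Ω] {S : Subgroup Ω}

/-- Subgroups of central subgroups are central. -/
theorem isCentral_mono (F : FusionSystem S) {Y Y' : Subgroup Ω} (h : F.IsCentral Y')
    (hYY' : Y ≤ Y') : F.IsCentral Y := by
  refine ⟨hYY'.trans h.1, fun P φ hφ => ?_⟩
  obtain ⟨ψ, hψ, hψP, hψY⟩ := h.2 P φ hφ
  have hle : P ⊔ Y ≤ P ⊔ Y' := sup_le_sup_left hYY' P
  refine ⟨ψ.comp (Subgroup.inclusion hle), Fusion.restrict_mem F hψ hle, fun x => ?_, fun x => ?_⟩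
  · exact hψP x
  · exact hψY ⟨x, hYY' x.2⟩

/-- Maps of a system fix the elements of a central subgroup lying in their source. -/
theorem apply_eq_of_isCentral {T : Subgroup Ω} (E : FusionSystem T) {Y : Subgroup Ω}
    (hY : E.IsCentral Y) {P : Subgroup Ω} {φ : P →* Ω} (hφ : φ ∈ E.Hom P) (x : P)
    (hx : (x : Ω) ∈ Y) : φ x = x := by
  obtain ⟨ψ, -, hψP, hψY⟩ := hY.2 P φ hφ
  have h1 := hψP x
  have h2 := hψY ⟨x, hx⟩
  have h3 : (Subgroup.inclusion le_sup_left x : ↥(P ⊔ Y)) =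
      Subgroup.inclusion le_sup_right (⟨(x : Ω), hx⟩ : Y) := rfl
  rw [← h1, h3, h2]

/-- Maps of the centralizer system fix the elements of the centralized subgroup. -/
theorem apply_eq_of_mem_centralizerHom (F : FusionSystem S) {Y P : Subgroup Ω} {φ : P →* Ω}
    (hφ : φ ∈ F.centralizerHom Y P) (x : P) (hx : (x : Ω) ∈ Y) : φ x = x := by
  obtain ⟨-, -, -, ψ, -, hψP, hψY⟩ := hφ
  have h1 := hψP x
  have h2 := hψY ⟨x, hx⟩
  have h3 : (Subgroup.inclusion le_sup_left x : ↥(P ⊔ Y)) =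
      Subgroup.inclusion le_sup_right (⟨(x : Ω), hx⟩ : Y) := rfl
  rw [← h1, h3, h2]

/-- The centralizer system of a subgroup of `Z(S)`, as a system over `S`. -/
theorem exists_centSys (F : FusionSystem S) {Y : Subgroup Ω} (hYS : Y ≤ S)
    (hYZ : S ≤ Subgroup.centralizer (Y : Set Ω)) :
    ∃ E : FusionSystem S, ∀ P, E.Hom P = F.centralizerHom Y P := by
  obtain ⟨E₀, hE₀⟩ := Cfsg.Agent.S5097.result F Y hYS
  have heq : centralizerIn S Y = S := le_antisymm inf_le_left (le_inf le_rfl hYZ)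
  obtain ⟨E, hE⟩ := Fusion.exists_system_of_eq heq E₀
  exact ⟨E, fun P => (hE P).trans (hE₀ P)⟩

/-- A map of a subsystem in which `Y` is central is a map of the centralizer system of `Y`. -/
theorem mem_centralizerHom_of_isCentral (F : FusionSystem S) {T' : Subgroup Ω}
    (N' : FusionSystem T') (hsub : ∀ P, N'.Hom P ⊆ F.Hom P) {Y : Subgroup Ω}
    (hY : N'.IsCentral Y) (hYZ : S ≤ Subgroup.centralizer (Y : Set Ω)) {P : Subgroup Ω}
    (φ : P →* Ω) (hφ : φ ∈ N'.Hom P) : φ ∈ F.centralizerHom Y P := by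
  have hφF := hsub P hφ
  have hSC : S ≤ centralizerIn S Y := le_inf le_rfl hYZ
  obtain ⟨ψ, hψ, hψP, hψY⟩ := hY.2 P φ hφ
  exact ⟨hφF, (Fusion.src_le F hφF).trans hSC, fun x => hSC (Fusion.map_mem F hφF x), ψ,
    hsub _ hψ, hψP, hψY⟩

/-- If every map lies in the centralizer system of `Y`, then `Y` is central. -/
theorem isCentral_of_forall_mem (F : FusionSystem S) {Y : Subgroup Ω} (hYS : Y ≤ S)
    (h : ∀ (P : Subgroup Ω) (φ : P →* Ω), φ ∈ F.Hom P → φ ∈ F.centralizerHom Y P) :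
    F.IsCentral Y := by
  refine ⟨hYS, fun P φ hφ => ?_⟩
  obtain ⟨-, -, -, ψ, hψ, hψP, hψY⟩ := h P φ hφ
  exact ⟨ψ, hψ, hψP, hψY⟩

/-- All automorphisms of `X` in the system fix `Y ∩ X` elementwise. -/
def AutFix {T : Subgroup Ω} (F : FusionSystem T) (Y X : Subgroup Ω) : Prop :=
  ∀ ψ : X →* Ω, ψ ∈ F.Hom X → (X.subgroupOf X).map ψ = X → ∀ x : X, (x : Ω) ∈ Y → ψ x = x

theorem autFix_of_subsystem {T T' : Subgroup Ω} (F : FusionSystem T) (N' : FusionSystem T')
    (hsub : ∀ P, N'.Hom P ⊆ F.Hom P) {Y X : Subgroup Ω} (h : AutFix F Y X) : AutFix N' Y X :=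
  fun ψ hψ hψX x hx => h ψ (hsub X hψ) hψX x hx

/-- If `Y` is central in the normalizer system of `X`, the automorphisms of `X` fix `Y`. -/
theorem autFix_of_isCentral (F : FusionSystem S) {X : Subgroup Ω} (hXS : X ≤ S)
    (N : FusionSystem (normalizerIn S X)) (hN : F.IsNormalizerSystem X N) {Y : Subgroup Ω}
    (hY : N.IsCentral Y) : AutFix F Y X := by
  intro ψ hψ hψX x hx
  have h1 : ψ ∈ N.Hom X := by
    rw [hN X]
    exact mem_normalizerHom_of_le F le_rfl (Fusion.le_normalizerIn hXS) ψ hψ hψX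
  exact apply_eq_of_isCentral N hY h1 x hx

/-- The centre of a subgroup lies in the value of a functor containing centres. -/
theorem center_le_of (p : ℕ) (W : CharFunctor.{u})
    (hWZ : ∀ (R : Type u) [Group R] [Finite R], IsPGroup p R → Subgroup.center R ≤ W.W R)
    (R : Subgroup Ω) [Finite R] (hR : IsPGroup p R) :
    R ⊓ Subgroup.centralizer (R : Set Ω) ≤ W.of R := by
  intro x hx
  obtain ⟨hxR, hxC⟩ := Subgroup.mem_inf.mp hx
  have h1 : (⟨x, hxR⟩ : R) ∈ Subgroup.center R := by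
    rw [Subgroup.mem_center_iff]
    intro g
    apply Subtype.ext
    exact (Subgroup.mem_centralizer_iff.mp hxC g g.2)
  exact ⟨⟨x, hxR⟩, hWZ R hR h1, rfl⟩

end Cfsg.Agent.Helper6.Ctr
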