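import Mathlib
import Cfsg.Agent.Helper6.CtrA

/-!
# Control of weak closure of elements in fusion systems, part B

The climbing argument and the local-to-global theorem for central subgroups.
-/

set_option autoImplicit false
set_option linter.style.haveILetI false
set_option maxHeartbeats 1000000

namespace Cfsg.Agent.Helper6.Ctr

open Cfsg Cfsg.FusionSystem Cfsg.Agent.Lead Cfsg.Agent.Helper1 Cfsg.Agent.Helper1.ThompsonRed
  Cfsg.Agent.Lead.GlTh Cfsg.Agent.Lead.KL

universe u

variable {Ω : Type u} [Group Ω] {S : Subgroup Ω}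

/-- If the automorphisms of a subgroup `X` normal in `R` fix `Y ≤ X`, then `Y` is central in the
normalizer system of `X`. -/
theorem isCentral_normalizerSystem_of_autFix {R : Subgroup Ω} [Finite R] (p : ℕ) [Fact p.Prime]
    (hR : IsPGroup p R) (N' : FusionSystem R) (hN' : N'.IsSaturated p) {X : Subgroup Ω}
    (hXR : X ≤ R) (hRX : R ≤ Subgroup.normalizer (X : Set Ω))
    (N'' : FusionSystem (normalizerIn R X)) (hN'' : N'.IsNormalizerSystem X N'')
    {Y : Subgroup Ω} (hYX : Y ≤ X) (hfix : AutFix N' Y X) : N''.IsCentral Y := by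
  have hNeq : normalizerIn R X = R := le_antisymm inf_le_left (le_inf le_rfl hRX)
  have hXfn : N'.IsFullyNormalized X := by
    refine ⟨hXR, fun X' _ => ?_⟩
    rw [hNeq]
    exact Subgroup.card_le_of_le inf_le_left
  haveI : Finite ↥(normalizerIn R X) := Fusion.finite_of_le inf_le_left
  have hp' : IsPGroup p ↥(normalizerIn R X) := hR.to_le inf_le_left
  have hsat := Fusion.normalizerSystem_isSaturated p hR N' hN' X hXfn N'' hN''
  rw [Fusion.isCentral_iff p hp' N'' hsat]
  refine ⟨(hYX.trans hXR).trans hNeq.ge, ?_⟩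
  rintro x hx y ⟨φ, hφ, rfl⟩
  rw [hN''] at hφ
  obtain ⟨-, -, -, ψ, hψ, hψP, hψX⟩ := hφ
  have hxX : x ∈ X := hYX hx
  have hψX' : ψ.comp (Subgroup.inclusion (le_sup_right : X ≤ Subgroup.zpowers x ⊔ X)) ∈
      N'.Hom X := Fusion.restrict_mem N' hψ le_sup_right
  have himg : (X.subgroupOf X).map
      (ψ.comp (Subgroup.inclusion (le_sup_right : X ≤ Subgroup.zpowers x ⊔ X))) = X := by
    ext y
    constructor
    · rintro ⟨z, -, rfl⟩
      apply hψX.le
      refine ⟨Subgroup.inclusion le_sup_right z, ?_, rfl⟩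
      rw [SetLike.mem_coe, Subgroup.mem_subgroupOf]
      exact z.2
    · intro hy
      obtain ⟨z, hz, rfl⟩ := hψX.ge hy
      rw [SetLike.mem_coe, Subgroup.mem_subgroupOf] at hz
      refine ⟨⟨z, hz⟩, ?_, rfl⟩
      rw [SetLike.mem_coe, Subgroup.mem_subgroupOf]
      exact hz
  have h1 := hfix _ hψX' himg ⟨x, hxX⟩ hx
  have h2 := hψP ⟨x, Subgroup.mem_zpowers x⟩
  rw [← h2]
  exact h1

/-- The local hypothesis of the climbing argument for central subgroups. -/
def LocalCentral (W : CharFunctor.{u}) (F : FusionSystem S) (Y : Subgroup Ω) : Prop :=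
  ∀ U : Subgroup Ω, Y ≤ U → F.IsFullyNormalized U →
    ∀ N' : FusionSystem (normalizerIn S U), F.IsNormalizerSystem U N' →
      ∀ N'' : FusionSystem (normalizerIn (normalizerIn S U) (W.of (normalizerIn S U))),
        N'.IsNormalizerSystem (W.of (normalizerIn S U)) N'' → N''.IsCentral Y → N'.IsCentral Y

theorem climbZ [Finite S] (p : ℕ) [Fact p.Prime] (hS : IsPGroup p S) (W : CharFunctor.{u})
    (hWZ : ∀ (R : Type u) [Group R] [Finite R], IsPGroup p R → Subgroup.center R ≤ W.W R)
    (F : FusionSystem S) (hF : F.IsSaturated p) {Y : Subgroup Ω}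
    (hYZ : S ≤ Subgroup.centralizer (Y : Set Ω))
    (N : FusionSystem (normalizerIn S (W.of S))) (hN : F.IsNormalizerSystem (W.of S) N)
    (hYN : N.IsCentral Y) (hloc : LocalCentral W F Y) (E : FusionSystem S)
    (hE : ∀ P, E.Hom P = F.centralizerHom Y P) (n : ℕ)
    (hn : ∀ (P : Subgroup Ω) (φ : P →* Ω), φ ∈ F.Hom P → n < Nat.card P → φ ∈ E.Hom P) :
    ∀ (d : ℕ) (U : Subgroup Ω), Y ≤ U → Nat.card S - Nat.card (normalizerIn S U) = d →
      n < Nat.card (normalizerIn S U) → ∀ (P₁ : Subgroup Ω) (ψ : P₁ →* Ω), ψ ∈ F.Hom P₁ →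
        U ≤ P₁ → P₁ ≤ normalizerIn S U → (U.subgroupOf P₁).map ψ = U → ψ ∈ E.Hom P₁ := by
  intro d
  induction d using Nat.strong_induction_on with
  | _ d ih =>
  intro U hYU hd hnU P₁ ψ hψ hUP hPN hψU
  have hP₁S : P₁ ≤ S := Fusion.src_le F hψ
  have hUS : U ≤ S := hUP.trans hP₁S
  haveI : Finite U := Fusion.finite_of_le hUS
  haveI : Finite P₁ := Fusion.finite_of_le hP₁S
  obtain ⟨U', hUU', hU'n⟩ := Fusion.exists_isConj_fullyNormalized F hUS
  obtain ⟨hfc, hfa⟩ := Fusion.fullyCentralized_fullyAutomized_of_fullyNormalized p hS F hF hU'n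
  have hrec := Fusion.receptive_of_fullyCentralized p hS F hF hfc
  obtain ⟨χ, hχ, hχN, hχU⟩ := Fusion.exists_hom_normalizerIn p hS F hfa hrec hUU'
  have hχE : χ ∈ E.Hom _ := hn _ χ hχ hnU
  have hψN := mem_normalizerHom_of_le F hUP hPN ψ hψ hψU
  have hψM : ∀ x : P₁, ψ x ∈ normalizerIn S U := hψN.2.2.1
  obtain ⟨ψ', hψ', hcomm⟩ := exists_transport F hPN χ hχ ψ hψ hψM
  refine mem_of_transport F E hPN χ hχE ψ hψM ψ' ?_ hcomm
  -- the transported situation
  have hU'S : U' ≤ S := hU'n.1
  haveI : Finite U' := Fusion.finite_of_le hU'S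
  have hUN : U ≤ normalizerIn S U := Fusion.le_normalizerIn hUS
  have hU'P : U' ≤ (P₁.subgroupOf (normalizerIn S U)).map χ := by
    rw [← hχU]
    apply Subgroup.map_mono
    intro x hx
    rw [Subgroup.mem_subgroupOf] at hx ⊢
    exact hUP hx
  have hP'N : (P₁.subgroupOf (normalizerIn S U)).map χ ≤ normalizerIn S U' := by
    rintro _ ⟨m, -, rfl⟩
    exact hχN m
  have hP'S : (P₁.subgroupOf (normalizerIn S U)).map χ ≤ S := hP'N.trans inf_le_left
  haveI : Finite ↥((P₁.subgroupOf (normalizerIn S U)).map χ) := Fusion.finite_of_le hP'S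
  have hψ'U : (U'.subgroupOf ((P₁.subgroupOf (normalizerIn S U)).map χ)).map ψ' = U' := by
    apply map_eq_of_le_of_injective ψ' (F.injective_of_mem hψ') _ hU'P
    rintro _ ⟨⟨y, hyP⟩, hy, rfl⟩
    rw [SetLike.mem_coe, Subgroup.mem_subgroupOf] at hy
    have hy' : y ∈ (U.subgroupOf (normalizerIn S U)).map χ := hχU.ge hy
    obtain ⟨m, hm, rfl⟩ := hy'
    rw [SetLike.mem_coe, Subgroup.mem_subgroupOf] at hm
    have h1 := hcomm ⟨m.1, hUP hm⟩ hyP
    have h2 : (⟨χ m, hyP⟩ : ↥((P₁.subgroupOf (normalizerIn S U)).map χ)) =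
        ⟨χ ⟨m.1, hPN (hUP hm)⟩, hyP⟩ := rfl
    rw [h2, h1]
    apply hχU.le
    refine ⟨_, ?_, rfl⟩
    rw [SetLike.mem_coe, Subgroup.mem_subgroupOf]
    apply hψU.le
    refine ⟨⟨m.1, hUP hm⟩, ?_, rfl⟩
    rw [SetLike.mem_coe, Subgroup.mem_subgroupOf]
    exact hm
  have hψ'N := mem_normalizerHom_of_le F hU'P hP'N ψ' hψ' hψ'U
  obtain ⟨N', hN'⟩ := Cfsg.Agent.S5096.result F U' hU'S
  -- `Y ≤ U'`
  have hYU' : Y ≤ U' := by
    intro y hy
    have hyU : y ∈ U := hYU hy
    have hχE' := hχE
    rw [hE] at hχE'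
    have h1 := apply_eq_of_mem_centralizerHom F hχE' ⟨y, hUN hyU⟩ hy
    rw [← hχU]
    refine ⟨⟨y, hUN hyU⟩, ?_, h1⟩
    rw [SetLike.mem_coe, Subgroup.mem_subgroupOf]
    exact hyU
  have hR'S : normalizerIn S U' ≤ S := inf_le_left
  haveI : Finite ↥(normalizerIn S U') := Fusion.finite_of_le hR'S
  haveI : Finite ↥(normalizerIn S U) := Fusion.finite_of_le inf_le_left
  have hR'p : IsPGroup p ↥(normalizerIn S U') := hS.to_le hR'S
  have hN'sat := Fusion.normalizerSystem_isSaturated p hS F hF U' hU'n N' hN'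
  have hN'sub : ∀ P, N'.Hom P ⊆ F.Hom P := fun P φ h => by rw [hN' P] at h; exact h.1
  have hXR' : W.of (normalizerIn S U') ≤ normalizerIn S U' := W.of_le _
  have hR'X : normalizerIn S U' ≤ Subgroup.normalizer (W.of (normalizerIn S U') : Set Ω) :=
    le_normalizer_of W _
  have hXS : W.of (normalizerIn S U') ≤ S := hXR'.trans hR'S
  obtain ⟨N'', hN''⟩ := Cfsg.Agent.S5096.result N' (W.of (normalizerIn S U')) hXR'
  have hYX : Y ≤ W.of (normalizerIn S U') := by
    refine le_trans ?_ (center_le_of p W hWZ (normalizerIn S U') hR'p)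
    intro y hy
    have hyR' : y ∈ normalizerIn S U' := Fusion.le_normalizerIn hU'S (hYU' hy)
    refine Subgroup.mem_inf.mpr ⟨hyR', ?_⟩
    rw [Subgroup.mem_centralizer_iff]
    intro g hg
    exact (Subgroup.mem_centralizer_iff.mp (hYZ (hR'S hg)) y hy).symm
  have hfix : AutFix F Y (W.of (normalizerIn S U')) := by
    by_cases hS' : normalizerIn S U' = S
    · rw [hS']
      exact autFix_of_isCentral F (W.of_le S) N hN hYN
    · intro ψX hψX himg x hx
      have h2 : Nat.card ↥(normalizerIn S U') < Nat.card ↥(normalizerIn S (normalizerIn S U')) :=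
        Fusion.card_lt_card_normalizerIn hS hR'S hS'
      have h3 : normalizerIn S (normalizerIn S U') ≤ normalizerIn S (W.of (normalizerIn S U')) :=
        inf_le_inf_left S (W.normalizer_le _)
      haveI : Finite ↥(normalizerIn S (W.of (normalizerIn S U'))) :=
        Fusion.finite_of_le inf_le_left
      have h4 : Nat.card ↥(normalizerIn S (normalizerIn S U')) ≤
          Nat.card ↥(normalizerIn S (W.of (normalizerIn S U'))) := Subgroup.card_le_of_le h3
      have h5 : Nat.card ↥(normalizerIn S (W.of (normalizerIn S U'))) ≤ Nat.card S :=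
        Subgroup.card_le_of_le inf_le_left
      have hNle : Nat.card ↥(normalizerIn S U) ≤ Nat.card ↥(normalizerIn S U') :=
        hU'n.2 U (Fusion.isConj_symm F hUU')
      have hlt : Nat.card S - Nat.card ↥(normalizerIn S (W.of (normalizerIn S U'))) < d := by omega
      have h6 := ih _ hlt (W.of (normalizerIn S U')) hYX rfl (by omega) _ ψX hψX le_rfl
        (Fusion.le_normalizerIn hXS) himg
      rw [hE] at h6
      exact apply_eq_of_mem_centralizerHom F h6 x hx
  have hcen'' := isCentral_normalizerSystem_of_autFix p hR'p N' hN'sat hXR' hR'X N'' hN'' hYX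
    (autFix_of_subsystem F N' hN'sub hfix)
  have hcen' := hloc U' hYU' hU'n N' hN' N'' hN'' hcen''
  rw [hE]
  exact mem_centralizerHom_of_isCentral F N' hN'sub hcen' hYZ ψ' (by rw [hN']; exact hψ'N)

/-- Local-to-global for central subgroups. -/
theorem isCentral_of_localCentral [Finite S] (p : ℕ) [Fact p.Prime] (hS : IsPGroup p S)
    (W : CharFunctor.{u})
    (hWZ : ∀ (R : Type u) [Group R] [Finite R], IsPGroup p R → Subgroup.center R ≤ W.W R)
    (F : FusionSystem S) (hF : F.IsSaturated p) {Y : Subgroup Ω} (hYS : Y ≤ S)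
    (hYZ : S ≤ Subgroup.centralizer (Y : Set Ω))
    (N : FusionSystem (normalizerIn S (W.of S))) (hN : F.IsNormalizerSystem (W.of S) N)
    (hYN : N.IsCentral Y) (hloc : LocalCentral W F Y) : F.IsCentral Y := by
  obtain ⟨E, hE⟩ := exists_centSys F hYS hYZ
  have hSN : S ≤ normalizerIn S (W.of S) := (normalizerIn_of_eq W S).ge
  have hNsub : ∀ P, N.Hom P ⊆ F.Hom P := fun P φ h => by rw [hN P] at h; exact h.1
  have key : ∀ (k : ℕ) (P : Subgroup Ω), (P = S ∨ F.IsEssential p P) →
      Nat.card S - Nat.card P = k → F.autGroup P ≤ E.autGroup P := by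
    intro k
    induction k using Nat.strong_induction_on with
    | _ k ih =>
    intro P hP hk α hα
    have hPS : P ≤ S := by
      rcases hP with rfl | hess
      · exact le_rfl
      · exact hess.1.1
    haveI : Finite P := Fusion.finite_of_le hPS
    have hcardle : Nat.card P ≤ Nat.card S := Subgroup.card_le_of_le hPS
    have hn : ∀ (P' : Subgroup Ω) (φ : P' →* Ω), φ ∈ F.Hom P' → Nat.card P < Nat.card P' →
        φ ∈ E.Hom P' := by
      intro P' φ hφ hlt
      apply Fusion.alperin_ge p hS F hF E (Nat.card P + 1) ?_ P' φ hφ hlt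
      intro P'' hP'' hm
      have hP''S : P'' ≤ S := by
        rcases hP'' with rfl | hess
        · exact le_rfl
        · exact hess.1.1
      haveI : Finite P'' := Fusion.finite_of_le hP''S
      have h1 : Nat.card P'' ≤ Nat.card S := Subgroup.card_le_of_le hP''S
      exact ih (Nat.card S - Nat.card P'') (by omega) P'' hP'' rfl
    rw [Fusion.mem_autGroup_iff E hPS]
    have hφ := (Fusion.mem_autGroup_iff F hPS α).mp hα
    by_cases hPeq : P = S
    · subst hPeq
      rw [hE]
      apply mem_centralizerHom_of_isCentral F N hNsub hYN hYZ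
      rw [hN]
      apply mem_normalizerHom_of_le F (W.of_le P) hSN _ hφ
      have h1 := of_subgroupOf_map_aut W P α
      rw [← Subgroup.map_map, h1]
      exact Subgroup.subgroupOf_map_subtype _ _ |>.trans (inf_of_le_left (W.of_le P))
    have hess : F.IsEssential p P := by
      rcases hP with h | h
      · exact absurd h hPeq
      · exact h
    have hPc : F.IsCentric P := hess.1
    have hYP : Y ≤ P := by
      have h1 := hPc.2 P (Fusion.isConj_refl F hPS)
      intro y hy
      apply h1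
      refine Subgroup.mem_inf.mpr ⟨hYS hy, ?_⟩
      rw [Subgroup.mem_centralizer_iff]
      intro g hg
      exact (Subgroup.mem_centralizer_iff.mp (hYZ (hPS hg)) y hy).symm
    have hPR : P ≤ normalizerIn S P := Fusion.le_normalizerIn hPS
    haveI : Finite ↥(normalizerIn S P) := Fusion.finite_of_le inf_le_left
    have hlt : Nat.card P < Nat.card ↥(normalizerIn S P) :=
      Fusion.card_lt_card_normalizerIn hS hPS hPeq
    exact climbZ p hS W hWZ F hF hYZ N hN hYN hloc E hE (Nat.card P) hn _ P hYP rfl hlt P _ hφ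
      le_rfl hPR (map_aut_top α)
  apply isCentral_of_forall_mem F hYS
  intro P φ hφ
  rw [← hE]
  apply Fusion.alperin_ge p hS F hF E 0 ?_ P φ hφ (Nat.zero_le _)
  intro P' hP' _
  exact key _ P' hP' rfl

end Cfsg.Agent.Helper6.Ctr
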