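import Mathlib
import Cfsg.Prelude.Def_FusionSystem
import Cfsg.Prelude.Def_FusionComponents
import Cfsg.Agent.Lead.FusionMorph
import Cfsg.Agent.Lead.FusionFactor

/-!
# Centric subgroups pull back along surjective morphisms of fusion systems
-/

set_option autoImplicit false

namespace Cfsg.Agent.Helper6.FactSec

open Cfsg Cfsg.FusionSystem Cfsg.Agent.Lead

variable {Ω : Type*} [Group Ω] {S : Subgroup Ω} {Ω' : Type*} [Group Ω'] {S' : Subgroup Ω'}

theorem isCentric_preimage [Finite S] (F : FusionSystem S) (E : FusionSystem S') (θ : S →* Ω')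
    (hα : F.IsSurjectiveMorphism E θ) {P' : Subgroup Ω'} (hP'S' : P' ≤ S')
    (hP'c : E.IsCentric P') : F.IsCentric (preimageAlong θ P') := by
  obtain ⟨⟨hθS', hM⟩, hr, hL⟩ := hα
  have hT := Fusion.kerAlong_stronglyClosed F E θ ⟨hθS', hM⟩
  refine ⟨Fusion.preimageAlong_le θ P', fun R hR => ?_⟩
  have hTR : Fusion.kerAlong θ ≤ R :=
    Fusion.le_of_isConj_of_stronglyClosed F hT (Fusion.kerAlong_le_preimageAlong θ P') hR
  have hRS : R ≤ S := by
    obtain ⟨φ, hφ, hrφ⟩ := hR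
    exact hrφ ▸ Fusion.range_le F hφ
  have hR' := Fusion.isConj_image F E θ ⟨hθS', hM⟩ hR
  rw [Fusion.imageAlong_preimageAlong θ hr hP'S'] at hR'
  have hcen := hP'c.2 _ hR'
  intro x hx
  obtain ⟨hxS, hxC⟩ := Subgroup.mem_inf.mp hx
  have h1 : θ ⟨x, hxS⟩ ∈ centralizerIn S' (imageAlong θ R) := by
    refine Subgroup.mem_inf.mpr ⟨hθS' _, ?_⟩
    rw [Subgroup.mem_centralizer_iff]
    intro y hy
    obtain ⟨r, hrR, hrS, rfl⟩ := (Fusion.mem_imageAlong θ R y).mp hy
    rw [← map_mul, ← map_mul]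
    congr 1
    apply Subtype.ext
    exact Subgroup.mem_centralizer_iff.mp hxC r hrR
  have h2 := hcen h1
  have h3 : x ∈ preimageAlong θ (imageAlong θ R) :=
    (Fusion.mem_preimageAlong θ _ x).mpr ⟨hxS, h2⟩
  rwa [Fusion.preimageAlong_imageAlong_of_le θ hRS hTR] at h3

end Cfsg.Agent.Helper6.FactSec
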