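import Mathlib
import Cfsg.Agent.Lead.LocModH

/-!
# Group-theoretic lemmas for quotient models
-/

set_option autoImplicit false

namespace Cfsg.Agent.Helper6.FactSec

open Cfsg Cfsg.Agent.Lead

/-- Passing an embedding onto a Sylow subgroup to a quotient by the image of a kernel. -/
theorem exists_quotient_embedding {M T L : Type*} [Group M] [Group T] [Group L] [Finite L]
    (p : ℕ) [Fact p.Prime] (π : M →* T) (hπ : Function.Surjective π) (ι : M →* L)
    (hι : Function.Injective ι) (PL : Sylow p L) (hPL : (PL : Subgroup L) = ι.range)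
    [hn : (π.ker.map ι).Normal] :
    ∃ ι₁ : T →* L ⧸ (π.ker.map ι), (∀ x, ι₁ (π x) = QuotientGroup.mk (ι x)) ∧
      Function.Injective ι₁ ∧
      ∃ PH : Sylow p (L ⧸ π.ker.map ι), (PH : Subgroup (L ⧸ π.ker.map ι)) = ι₁.range := by
  set KQ := π.ker.map ι with hKQ
  set f : M →* L ⧸ KQ := (QuotientGroup.mk' KQ).comp ι with hf
  have hker : π.ker ≤ f.ker := by
    intro x hx
    rw [MonoidHom.mem_ker, hf, MonoidHom.comp_apply, QuotientGroup.mk'_apply,
      QuotientGroup.eq_one_iff]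
    exact ⟨x, hx, rfl⟩
  set ι₁ : T →* L ⧸ KQ := π.liftOfSurjective hπ ⟨f, hker⟩ with hι₁
  have hspec : ∀ x, ι₁ (π x) = QuotientGroup.mk (ι x) := fun x =>
    MonoidHom.liftOfRightInverse_comp_apply π _ (Function.rightInverse_surjInv hπ) ⟨f, hker⟩ x
  refine ⟨ι₁, hspec, ?_, ?_⟩
  · rw [injective_iff_map_eq_one]
    intro t ht
    obtain ⟨x, rfl⟩ := hπ t
    rw [hspec, QuotientGroup.eq_one_iff] at ht
    obtain ⟨k, hk, hkx⟩ := ht
    have : k = x := hι hkx
    rw [← this]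
    exact hk
  · refine ⟨PL.mapSurjective (QuotientGroup.mk'_surjective KQ), ?_⟩
    rw [Sylow.coe_mapSurjective, hPL]
    ext y
    constructor
    · rintro ⟨_, ⟨x, rfl⟩, rfl⟩
      exact ⟨π x, hspec x⟩
    · rintro ⟨t, rfl⟩
      obtain ⟨x, rfl⟩ := hπ t
      exact ⟨ι x, ⟨x, rfl⟩, (hspec x).symm⟩

/-- Killing a normal `p'`-subgroup so that the image of a normal subgroup containing its
centralizer in the Sylow subgroup contains its full centralizer. -/
theorem exists_pprime_quotient {T H : Type*} [Group T] [Group H] [Finite H]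
    (p : ℕ) [Fact p.Prime] (hT : IsPGroup p T) (ι₁ : T →* H) (hinj : Function.Injective ι₁)
    (PH : Sylow p H) (hPH : (PH : Subgroup H) = ι₁.range) (Y : Subgroup T)
    [hYn : (Y.map ι₁).Normal] (hYc : ∀ t : T, (∀ y ∈ Y, t * y = y * t) → t ∈ Y) :
    ∃ K : Subgroup H, ∃ _ : K.Normal,
      Function.Injective ((QuotientGroup.mk' K).comp ι₁) ∧
      Subgroup.centralizer ((Y.map ((QuotientGroup.mk' K).comp ι₁) : Subgroup (H ⧸ K)) : Set (H ⧸ K)) ≤
        Y.map ((QuotientGroup.mk' K).comp ι₁) := by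
  have hp : p.Prime := Fact.out
  have hQP : Y.map ι₁ ≤ (PH : Subgroup H) := by
    rw [hPH]
    rintro _ ⟨t, -, rfl⟩
    exact ⟨t, rfl⟩
  have hcent : ∀ x ∈ (PH : Subgroup H), (∀ q ∈ Y.map ι₁, x * q = q * x) → x ∈ Y.map ι₁ := by
    intro x hx hcomm
    rw [hPH] at hx
    obtain ⟨t, rfl⟩ := hx
    refine ⟨t, ?_, rfl⟩
    apply hYc
    intro y hy
    have h1 := hcomm (ι₁ y) ⟨y, hy, rfl⟩
    rw [← map_mul, ← map_mul] at h1
    exact hinj h1
  obtain ⟨K, hKn, hKcop, hK⟩ := LocMod.exists_centralizer_decomp p PH (Y.map ι₁) hQP hcent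
  haveI := hKn
  -- `p`-elements of `K` are trivial
  have hKp : ∀ x : H, x ∈ K → (∃ k : ℕ, x ^ p ^ k = 1) → x = 1 := by
    intro x hxK ⟨k, hk⟩
    have h1 : orderOf x ∣ Nat.card K := by
      have := orderOf_dvd_natCard (⟨x, hxK⟩ : K)
      rwa [Subgroup.orderOf_mk] at this
    have h2 : orderOf x ∣ p ^ k := orderOf_dvd_of_pow_eq_one hk
    have h3 : (Nat.card K).Coprime (p ^ k) := Nat.Coprime.pow_right k hKcop
    have h4 : orderOf x = 1 := Nat.eq_one_of_dvd_coprimes h3 h1 h2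
    exact orderOf_eq_one_iff.mp h4
  have hTpow : ∀ t : T, ∃ k : ℕ, (ι₁ t) ^ p ^ k = 1 := by
    intro t
    obtain ⟨k, hk⟩ := hT t
    exact ⟨k, by rw [← map_pow, hk, map_one]⟩
  refine ⟨K, hKn, ?_, ?_⟩
  · rw [injective_iff_map_eq_one]
    intro t ht
    rw [MonoidHom.comp_apply, QuotientGroup.mk'_apply, QuotientGroup.eq_one_iff] at ht
    have := hKp _ ht (hTpow t)
    exact hinj (by rw [this, map_one])
  · intro g hg
    obtain ⟨h, rfl⟩ := QuotientGroup.mk'_surjective K g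
    -- `h` centralizes `Y.map ι₁`
    have hcen : h ∈ Subgroup.centralizer ((Y.map ι₁ : Subgroup H) : Set H) := by
      rw [Subgroup.mem_centralizer_iff]
      intro r hr
      obtain ⟨y, hy, rfl⟩ := hr
      have h1 : (QuotientGroup.mk' K) (ι₁ y) * (QuotientGroup.mk' K) h =
          (QuotientGroup.mk' K) h * (QuotientGroup.mk' K) (ι₁ y) :=
        Subgroup.mem_centralizer_iff.mp hg _ ⟨y, hy, rfl⟩
      -- the commutator lies in `K` and in `Y.map ι₁`
      set c := h * ι₁ y * h⁻¹ * (ι₁ y)⁻¹ with hc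
      have hcK : c ∈ K := by
        rw [← QuotientGroup.eq_one_iff (N := K), hc]
        have h2 : ((h * ι₁ y * h⁻¹ * (ι₁ y)⁻¹ : H) : H ⧸ K) =
            (QuotientGroup.mk' K) h * (QuotientGroup.mk' K) (ι₁ y) * ((QuotientGroup.mk' K) h)⁻¹ *
              ((QuotientGroup.mk' K) (ι₁ y))⁻¹ := by
          simp
        rw [h2, ← h1]
        group
      have hcY : c ∈ Y.map ι₁ := by
        rw [hc]
        exact (Y.map ι₁).mul_mem (hYn.conj_mem _ ⟨y, hy, rfl⟩ h)
          ((Y.map ι₁).inv_mem ⟨y, hy, rfl⟩)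
      obtain ⟨y₂, -, hy₂⟩ := hcY
      have hc1 : c = 1 := hKp c hcK (by rw [← hy₂]; exact hTpow y₂)
      calc ι₁ y * h = (h * ι₁ y * h⁻¹ * (ι₁ y)⁻¹)⁻¹ * (h * ι₁ y) := by group
        _ = h * ι₁ y := by rw [← hc, hc1, inv_one, one_mul]
    obtain ⟨k, hk, z, hz, rfl⟩ := hK h hcen
    obtain ⟨y, hy, rfl⟩ := hz
    refine ⟨y, hy, ?_⟩
    rw [MonoidHom.comp_apply, map_mul]
    have : (QuotientGroup.mk' K) k = 1 := by
      rw [QuotientGroup.mk'_apply, QuotientGroup.eq_one_iff]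
      exact hk
    rw [this, one_mul]

end Cfsg.Agent.Helper6.FactSec
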