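import Mathlib
import Cfsg.Prelude.Def_FusionSystem
import Cfsg.Prelude.Def_FusionComponents
import Cfsg.Prelude.Def_FusionReduction
import Cfsg.Prelude.Def_LocalEven
import Cfsg.Agent.Lead.LocModN
import Cfsg.Agent.Lead.FusionMorph
import Cfsg.Agent.Lead.FusionFactor
import Cfsg.Agent.Helper6.FactSecA
import Cfsg.Agent.Helper6.FactSecB

/-!
# Factor systems of `X`-free saturated fusion systems are `X`-free
-/

set_option autoImplicit false
set_option maxHeartbeats 1600000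

namespace Cfsg.Agent.Helper6.FactSec

open Cfsg Cfsg.FusionSystem Cfsg.Agent.Lead

universe u v

theorem factor_sectionFree {Ω : Type u} [Group Ω] {S : Subgroup Ω} [Finite S] (p : ℕ)
    [Fact p.Prime] (hS : IsPGroup p S) (F : FusionSystem S) (hF : F.IsSaturated p)
    (Q : Subgroup Ω) (hQ : F.IsNormal Q) {X : Type*} [Group X] (hfree : F.IsSectionFree p X)
    {Ω' : Type v} [Group Ω'] {S' : Subgroup Ω'} (θ : ↥S →* Ω') (E : FusionSystem S')
    (hE : F.IsFactorSystem Q θ E) : E.IsSectionFree p X := by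
  have hQsc := Fusion.stronglyClosed_of_isNormal F hQ
  have hα := Fusion.isSurjectiveMorphism_of_isFactorSystem p hS F hF Q hQsc θ E hE
  obtain ⟨hQS, hker, hrange, hHom⟩ := hE
  have hθS' : ∀ s : S, θ s ∈ S' := fun s => hrange ▸ ⟨s, rfl⟩
  intro P' hP'n hP'c N' hN' L' _ ι' hL' hinv
  have hP'S' : P' ≤ S' := hP'n.1
  set P := preimageAlong θ P' with hPdef
  have hPS : P ≤ S := Fusion.preimageAlong_le θ P'
  have hPn : F.IsFullyNormalized P := Fusion.fullyNormalized_preimage F E θ hα hP'n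
  have hPc : F.IsCentric P := isCentric_preimage F E θ hα hP'S' hP'c
  obtain ⟨N, hN⟩ := Cfsg.Agent.S5096.result F P hPS
  obtain ⟨L, _, ι, hL⟩ := LocMod.exists_normalizer_model p hS F hF P hPn hPc N hN
  apply hfree P hPn hPc N hN L ι hL
  -- notation
  have hMeq : (normalizerIn S P) = preimageAlong θ (normalizerIn S' P') := Fusion.normalizerIn_preimageAlong θ hθS' hrange hP'S'
  have hMS : (normalizerIn S P) ≤ S := inf_le_left
  have hT'S' : (normalizerIn S' P') ≤ S' := inf_le_left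
  have hPM : P ≤ (normalizerIn S P) := Fusion.le_normalizerIn hPS
  have hP'T' : P' ≤ (normalizerIn S' P') := Fusion.le_normalizerIn hP'S'
  have hQP : Q ≤ P := by
    intro q hq
    apply (Fusion.mem_preimageAlong θ P' q).mpr
    refine ⟨hQS hq, ?_⟩
    rw [(hker ⟨q, hQS hq⟩).mpr hq]
    exact P'.one_mem
  have hQM : Q ≤ (normalizerIn S P) := hQP.trans hPM
  have hπmem : ∀ x : (normalizerIn S P), θ ⟨x, hMS x.2⟩ ∈ (normalizerIn S' P') := by
    intro x
    have h1 : (x : Ω) ∈ preimageAlong θ (normalizerIn S' P') := hMeq ▸ x.2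
    obtain ⟨_, h⟩ := (Fusion.mem_preimageAlong θ (normalizerIn S' P') x).mp h1
    exact h
  set π : (normalizerIn S P) →* (normalizerIn S' P') := (θ.comp (Subgroup.inclusion hMS)).codRestrict (normalizerIn S' P') hπmem with hπ
  have hπcoe : ∀ x : (normalizerIn S P), ((π x : (normalizerIn S' P')) : Ω') = θ ⟨x, hMS x.2⟩ := fun _ => rfl
  have hπsurj : Function.Surjective π := by
    intro t
    have ht : (t : Ω') ∈ θ.range := hrange ▸ hT'S' t.2
    obtain ⟨s, hs⟩ := ht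
    have hsM : (s : Ω) ∈ (normalizerIn S P) := by
      rw [hMeq, Fusion.mem_preimageAlong]
      exact ⟨s.2, by rw [hs]; exact t.2⟩
    exact ⟨⟨s, hsM⟩, Subtype.ext hs⟩
  have hπker : ∀ x : (normalizerIn S P), π x = 1 ↔ (x : Ω) ∈ Q := by
    intro x
    rw [← hker ⟨x, hMS x.2⟩]
    constructor
    · intro h
      have := congrArg (fun t : (normalizerIn S' P') => (t : Ω')) h
      exact this
    · intro h
      exact Subtype.ext h
  -- the model
  haveI hfinL : Finite L := hL.1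
  have hreal : N.IsRealizedBy ι := hL.2.1
  obtain ⟨PL, hPL⟩ := hL.2.2.1
  have hιinj : Function.Injective ι := hreal.1
  have hNnP : N.IsNormal P := Fusion.normalizerSystem_isNormal F hPS N hN
  haveI hfinM : Finite ↥(normalizerIn S P) := Fusion.finite_of_le inf_le_left
  haveI hPnormal : ((P.subgroupOf (normalizerIn S P)).map ι).Normal :=
    Fusion.map_normal_of_isNormal_of_isModel p N ι hL hNnP
  haveI hKQn : (π.ker.map ι).Normal := by
    constructor
    rintro _ ⟨k, hk, rfl⟩ g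
    have hkQ : (k : Ω) ∈ Q := (hπker k).mp hk
    have hg : ∀ x : Q, g * ι ⟨x, hQM x.2⟩ * g⁻¹ ∈ ι.range := by
      intro x
      have h1 : ι ⟨x, hQM x.2⟩ ∈ (P.subgroupOf (normalizerIn S P)).map ι := by
        refine ⟨⟨x, hQM x.2⟩, ?_, rfl⟩
        rw [SetLike.mem_coe, Subgroup.mem_subgroupOf]
        exact hQP x.2
      obtain ⟨y, -, hy⟩ := hPnormal.conj_mem _ h1 g
      exact ⟨y, hy⟩
    obtain ⟨φ, hφ, hφM, hφι⟩ := Fusion.exists_hom_of_conj_mem_range N ι hreal hQM g hg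
    rw [hN Q] at hφ
    have hφQ : φ ⟨k, hkQ⟩ ∈ Q := hQsc.2 Q le_rfl φ hφ.1 ⟨k, hkQ⟩
    refine ⟨⟨φ ⟨k, hkQ⟩, hφM _⟩, ?_, ?_⟩
    · rw [SetLike.mem_coe, MonoidHom.mem_ker, hπker]
      exact hφQ
    · rw [hφι ⟨k, hkQ⟩]
  obtain ⟨ι₁, hι₁spec, hι₁inj, PH, hPH⟩ :=
    exists_quotient_embedding p π hπsurj ι hιinj PL hPL
  -- the image of `P'`
  set Y₀ : Subgroup (normalizerIn S' P') := P'.subgroupOf (normalizerIn S' P') with hY₀
  have hπP : ∀ x : (normalizerIn S P), π x ∈ Y₀ ↔ (x : Ω) ∈ P := by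
    intro x
    have h0 : (x : Ω) ∈ P ↔ ∃ hs : (x : Ω) ∈ S, θ ⟨x, hs⟩ ∈ P' := Fusion.mem_preimageAlong θ P' x
    rw [hY₀, Subgroup.mem_subgroupOf, hπcoe, h0]
    constructor
    · intro h; exact ⟨hMS x.2, h⟩
    · rintro ⟨_, h⟩; exact h
  haveI hYnH : (Y₀.map ι₁).Normal := by
    constructor
    rintro _ ⟨y, hy, rfl⟩ h
    obtain ⟨g, rfl⟩ := QuotientGroup.mk_surjective h
    obtain ⟨x, rfl⟩ := hπsurj y
    have hxP : (x : Ω) ∈ P := (hπP x).mp hy
    have h1 : ι x ∈ (P.subgroupOf (normalizerIn S P)).map ι := by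
      refine ⟨x, ?_, rfl⟩
      rw [SetLike.mem_coe, Subgroup.mem_subgroupOf]
      exact hxP
    obtain ⟨x₂, hx₂, hx₂eq⟩ := hPnormal.conj_mem _ h1 g
    rw [SetLike.mem_coe, Subgroup.mem_subgroupOf] at hx₂
    refine ⟨π x₂, (hπP x₂).mpr hx₂, ?_⟩
    rw [hι₁spec, hι₁spec, hx₂eq]
    rfl
  have hcenP' : centralizerIn S' P' ≤ P' := hP'c.2 P' (Fusion.isConj_refl E hP'S')
  have hYc₀ : ∀ t : (normalizerIn S' P'), (∀ y ∈ Y₀, t * y = y * t) → t ∈ Y₀ := by
    intro t ht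
    rw [hY₀, Subgroup.mem_subgroupOf]
    apply hcenP'
    refine Subgroup.mem_inf.mpr ⟨hT'S' t.2, ?_⟩
    rw [Subgroup.mem_centralizer_iff]
    intro y hy
    have h1 := ht ⟨y, hP'T' hy⟩ (by rw [hY₀, Subgroup.mem_subgroupOf]; exact hy)
    have h2 := congrArg (fun z : (normalizerIn S' P') => (z : Ω')) h1
    exact h2.symm
  haveI hfinS' : Finite S' := Fusion.finite_of_range θ hrange
  haveI hfinT' : Finite (normalizerIn S' P') := Fusion.finite_of_le hT'S'
  have hS'p : IsPGroup p S' := by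
    have h1 : IsPGroup p θ.range := hS.of_surjective θ.rangeRestrict θ.rangeRestrict_surjective
    rwa [hrange] at h1
  have hT'p : IsPGroup p (normalizerIn S' P') := hS'p.to_le hT'S'
  obtain ⟨K, hKn, hι₂inj, hC₂⟩ := exists_pprime_quotient p hT'p ι₁ hι₁inj PH hPH Y₀ hYc₀
  haveI := hKn
  set ι₂ : (normalizerIn S' P') →* (L ⧸ π.ker.map ι) ⧸ K := (QuotientGroup.mk' K).comp ι₁ with hι₂
  have hι₂spec : ∀ x : (normalizerIn S P), ι₂ (π x) =
      QuotientGroup.mk' K (QuotientGroup.mk' (π.ker.map ι) (ι x)) := by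
    intro x
    rw [hι₂, MonoidHom.comp_apply, hι₁spec]
    rfl
  have hN'nP' : N'.IsNormal P' := Fusion.normalizerSystem_isNormal E hP'S' N' hN'
  have hYc : centralizerIn (normalizerIn S' P') P' ≤ P' := by
    intro x hx
    exact hcenP' (Subgroup.mem_inf.mpr ⟨hT'S' (Subgroup.mem_inf.mp hx).1, (Subgroup.mem_inf.mp hx).2⟩)
  -- every map of `N'` is induced by conjugation
  have hR₂ : ∀ (A' : Subgroup Ω') (φ' : A' →* Ω') (hφ' : φ' ∈ N'.Hom A'),
      ∃ g : (L ⧸ π.ker.map ι) ⧸ K, ∀ a : A',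
        ι₂ ⟨φ' a, Fusion.map_mem N' hφ' a⟩ = g * ι₂ ⟨a, Fusion.src_le N' hφ' a.2⟩ * g⁻¹ := by
    intro A' φ' hφ'
    have hφ'' := hφ'
    rw [hN' A'] at hφ''
    obtain ⟨hφ'E, hA'T', hφ'T', ψ', hψ', hψ'ext, hψ'P'⟩ := hφ''
    obtain ⟨hB'S', ψ, hψ, hBS, hψS, hBB', hind⟩ := (hHom (A' ⊔ P') ψ').mp hψ'
    have hPB : P ≤ (preimageAlong θ (A' ⊔ P')) := Fusion.preimageAlong_mono θ le_sup_right
    have hBM : (preimageAlong θ (A' ⊔ P')) ≤ (normalizerIn S P) := by
      rw [hMeq]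
      exact Fusion.preimageAlong_mono θ (sup_le hA'T' hP'T')
    -- `ψ'` takes values in `(normalizerIn S' P')`
    have hψ'T' : ∀ z : ↥(A' ⊔ P'), ψ' z ∈ (normalizerIn S' P') := by
      apply Fusion.sup_map_mem ψ' (normalizerIn S' P')
      · intro a
        rw [hψ'ext]
        exact hφ'T' a
      · intro y
        apply hP'T'
        apply hψ'P'.le
        refine ⟨Subgroup.inclusion le_sup_right y, ?_, rfl⟩
        rw [SetLike.mem_coe, Subgroup.mem_subgroupOf]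
        exact y.2
    have hψM : ∀ b : (preimageAlong θ (A' ⊔ P')), ψ b ∈ (normalizerIn S P) := by
      intro b
      rw [hMeq, Fusion.mem_preimageAlong]
      refine ⟨hψS b, ?_⟩
      rw [← hind b]
      exact hψ'T' _
    -- `ψ` maps `P` into `P`
    have hψP : ∀ (x : Ω) (hx : x ∈ P), ψ ⟨x, hPB hx⟩ ∈ P := by
      intro x hx
      apply (Fusion.mem_preimageAlong θ P' _).mpr
      refine ⟨hψS _, ?_⟩
      rw [← hind ⟨x, hPB hx⟩]
      apply hψ'P'.le
      refine ⟨_, ?_, rfl⟩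
      rw [SetLike.mem_coe, Subgroup.mem_subgroupOf]
      obtain ⟨_, h⟩ := (Fusion.mem_preimageAlong θ P' x).mp hx
      exact h
    haveI : Finite P := Fusion.finite_of_le hPS
    have hψinj := F.injective_of_mem hψ
    have hψPsurj : ∀ y : Ω, y ∈ P → ∃ (x : Ω) (hx : x ∈ P), ψ ⟨x, hPB hx⟩ = y := by
      intro y hy
      set f : P → P := fun x => ⟨ψ ⟨x, hPB x.2⟩, hψP x x.2⟩ with hf
      have hfinj : Function.Injective f := by
        intro a b hab
        have h1 : ψ ⟨a, hPB a.2⟩ = ψ ⟨b, hPB b.2⟩ := congrArg Subtype.val hab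
        have h2 := hψinj h1
        exact Subtype.ext (congrArg (fun z : (preimageAlong θ (A' ⊔ P')) => (z : Ω)) h2)
      obtain ⟨x, hx⟩ := Finite.surjective_of_injective hfinj ⟨y, hy⟩
      exact ⟨x, x.2, congrArg Subtype.val hx⟩
    -- `ψ` is a map of the normalizer system
    have hψN : ψ ∈ N.Hom (preimageAlong θ (A' ⊔ P')) := by
      rw [hN (preimageAlong θ (A' ⊔ P'))]
      have heq : (preimageAlong θ (A' ⊔ P')) = (preimageAlong θ (A' ⊔ P')) ⊔ P := (sup_eq_left.mpr hPB).symm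
      obtain ⟨ψt, hψt, hψtx⟩ := Fusion.exists_hom_of_eq F heq hψ
      refine ⟨hψ, hBM, hψM, ψt, hψt, fun x => hψtx x x.2 _, ?_⟩
      apply le_antisymm
      · rintro _ ⟨x, hx, rfl⟩
        rw [SetLike.mem_coe, Subgroup.mem_subgroupOf] at hx
        rw [hψtx x (hPB hx) x.2]
        exact hψP x hx
      · intro y hy
        obtain ⟨x, hx, hxy⟩ := hψPsurj y hy
        refine ⟨⟨x, (le_sup_right : P ≤ (preimageAlong θ (A' ⊔ P')) ⊔ P) hx⟩, ?_, ?_⟩
        · rw [SetLike.mem_coe, Subgroup.mem_subgroupOf]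
          exact hx
        · rw [hψtx x (hPB hx) _]
          exact hxy
    obtain ⟨g, hg⟩ := (hreal.2 (preimageAlong θ (A' ⊔ P')) hBM ψ hψM).mp hψN
    refine ⟨QuotientGroup.mk' K (QuotientGroup.mk' (π.ker.map ι) g), fun a => ?_⟩
    have haS' : (a : Ω') ∈ θ.range := hrange ▸ hT'S' (hA'T' a.2)
    obtain ⟨s, hs⟩ := haS'
    have hsB : (s : Ω) ∈ (preimageAlong θ (A' ⊔ P')) := by
      apply (Fusion.mem_preimageAlong θ _ _).mpr
      exact ⟨s.2, by rw [hs]; exact (le_sup_left : A' ≤ A' ⊔ P') a.2⟩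
    set b : (preimageAlong θ (A' ⊔ P')) := ⟨s, hsB⟩ with hb
    have h1 : (⟨a, Fusion.src_le N' hφ' a.2⟩ : (normalizerIn S' P')) = π ⟨s, hBM hsB⟩ := Subtype.ext hs.symm
    have h2 : (⟨φ' a, Fusion.map_mem N' hφ' a⟩ : (normalizerIn S' P')) = π ⟨ψ b, hψM b⟩ := by
      apply Subtype.ext
      rw [hπcoe]
      show φ' a = θ ⟨ψ b, _⟩
      rw [← hind b, ← hψ'ext a]
      congr 1
      apply Subtype.ext
      exact hs.symm
    rw [h1, h2, hι₂spec, hι₂spec, hg b, map_mul, map_mul, map_inv, map_inv, map_mul, map_mul]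
  have hX := LocMod.involves_of_sub p hT'p N' P' hN'nP' hYc ι₂ hι₂inj hR₂ hC₂ ι' hL' hinv
  have hX₁ := Cfsg.Agent.Helper1.QuadFree.involves_of_surjective (QuotientGroup.mk' K)
    (QuotientGroup.mk'_surjective K) hX
  exact Cfsg.Agent.Helper1.QuadFree.involves_of_surjective (QuotientGroup.mk' (π.ker.map ι))
    (QuotientGroup.mk'_surjective _) hX₁

end Cfsg.Agent.Helper6.FactSec
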