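import Mathlib
import Cfsg.Agent.Helper6.CtrB
import Cfsg.Agent.Lead.KLj
import Cfsg.Agent.Lead.LocModM

/-!
# Control of weak closure of elements in fusion systems, part C

The case of a central subgroup contained in `O_p(F)`: reduction to the model of `N_F(Q C_S(Q))`.
-/

set_option autoImplicit false
set_option linter.style.haveILetI false
set_option maxHeartbeats 1000000

namespace Cfsg.Agent.Helper6.Ctr

open Cfsg Cfsg.FusionSystem Cfsg.Agent.Lead Cfsg.Agent.Helper1 Cfsg.Agent.Helper1.ThompsonRed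
  Cfsg.Agent.Lead.GlTh Cfsg.Agent.Lead.KL

universe u

variable {Ω : Type u} [Group Ω] {S : Subgroup Ω}

/-- A subgroup of a normal subgroup `Q` that is central in `N_F(Q C_S(Q))` is central in `F`. -/
theorem isCentral_of_isCentral_normalizer [Finite S] (p : ℕ) [Fact p.Prime] (hS : IsPGroup p S)
    (F : FusionSystem S) (hF : F.IsSaturated p) {Q : Subgroup Ω} (hQ : F.IsNormal Q)
    (NT : FusionSystem (normalizerIn S (Q ⊔ centralizerIn S Q)))
    (hNT : F.IsNormalizerSystem (Q ⊔ centralizerIn S Q) NT) {Y : Subgroup Ω} (hYQ : Y ≤ Q)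
    (hY : NT.IsCentral Y) : F.IsCentral Y := by
  have hQS := hQ.1
  have hTS : Q ⊔ centralizerIn S Q ≤ S := sup_le hQS inf_le_left
  have hQT : Q ≤ Q ⊔ centralizerIn S Q := le_sup_left
  have hCT : centralizerIn S Q ≤ Q ⊔ centralizerIn S Q := le_sup_right
  haveI : Finite ↥(Q ⊔ centralizerIn S Q) := Fusion.finite_of_le hTS
  haveI : Finite Q := Fusion.finite_of_le hQS
  have hQfn := isFullyNormalized_of_isNormal F hQ
  obtain ⟨hfc, hfa⟩ := Fusion.fullyCentralized_fullyAutomized_of_fullyNormalized p hS F hF hQfn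
  have hrec := Fusion.receptive_of_fullyCentralized p hS F hF hfc
  rw [Fusion.isCentral_iff p hS F hF]
  refine ⟨hYQ.trans hQS, ?_⟩
  rintro x hx y ⟨φ, hφ, rfl⟩
  have hxQ : x ∈ Q := hYQ hx
  obtain ⟨ψ, hψ, hψP, hψQ⟩ := hQ.2 _ φ hφ
  have hαF : ψ.comp (Subgroup.inclusion (le_sup_right : Q ≤ Subgroup.zpowers x ⊔ Q)) ∈ F.Hom Q :=
    Fusion.restrict_mem F hψ le_sup_right
  have hαr := range_eq_of_isNormal F hQ hαF
  obtain ⟨α', hα', hext⟩ := hrec.2 Q _ hαF hαr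
  have hText : Q ⊔ centralizerIn S Q ≤ extender S Q
      (ψ.comp (Subgroup.inclusion (le_sup_right : Q ≤ Subgroup.zpowers x ⊔ Q))) :=
    sup_le (Fusion.le_extender Q hQS _ (Fusion.map_mem F hαF)) (Fusion.centralizerIn_le_extender Q _)
  have hαTF : α'.comp (Subgroup.inclusion hText) ∈ F.Hom (Q ⊔ centralizerIn S Q) :=
    Fusion.restrict_mem F hα' hText
  have hαTQ : ∀ q : Q, (α'.comp (Subgroup.inclusion hText)) ⟨q, hQT q.2⟩ =
      (ψ.comp (Subgroup.inclusion (le_sup_right : Q ≤ Subgroup.zpowers x ⊔ Q))) q :=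
    fun q => hext q.1 q.2 (hText (hQT q.2))
  have himg_le : ((Q ⊔ centralizerIn S Q).subgroupOf (Q ⊔ centralizerIn S Q)).map
      (α'.comp (Subgroup.inclusion hText)) ≤ Q ⊔ centralizerIn S Q := by
    rw [Subgroup.subgroupOf_sup hQT hCT, Subgroup.map_sup]
    apply sup_le
    · refine le_trans ?_ hQT
      rintro _ ⟨t, ht, rfl⟩
      rw [SetLike.mem_coe, Subgroup.mem_subgroupOf] at ht
      have h1 := hαTQ ⟨t, ht⟩
      have h2 : (⟨((⟨(t : Ω), ht⟩ : Q) : Ω), hQT ht⟩ : ↥(Q ⊔ centralizerIn S Q)) = t := rfl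
      rw [h2] at h1
      rw [h1]
      exact hαr.le ⟨_, rfl⟩
    · refine le_trans ?_ hCT
      rintro _ ⟨d, hd, rfl⟩
      rw [SetLike.mem_coe, Subgroup.mem_subgroupOf] at hd
      obtain ⟨-, hdC⟩ := Subgroup.mem_inf.mp hd
      refine Subgroup.mem_inf.mpr ⟨Fusion.map_mem F hαTF d, ?_⟩
      rw [Subgroup.mem_centralizer_iff] at hdC ⊢
      intro q hq
      have hq' : q ∈ (ψ.comp (Subgroup.inclusion
          (le_sup_right : Q ≤ Subgroup.zpowers x ⊔ Q))).range := hαr.ge hq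
      obtain ⟨q₀, rfl⟩ := hq'
      rw [← hαTQ q₀, ← map_mul, ← map_mul]
      congr 1
      apply Subtype.ext
      exact hdC _ q₀.2
  have himg := map_eq_of_le_of_injective _ (F.injective_of_mem hαTF) himg_le le_rfl
  have hαTN := mem_normalizerHom_of_le F le_rfl (Fusion.le_normalizerIn hTS) _ hαTF himg
  have hαTNT : α'.comp (Subgroup.inclusion hText) ∈ NT.Hom (Q ⊔ centralizerIn S Q) := by
    rw [hNT]; exact hαTN
  have h1 := apply_eq_of_isCentral NT hY hαTNT ⟨x, hQT hxQ⟩ hx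
  have h2 := hψP ⟨x, Subgroup.mem_zpowers x⟩
  have h3 := hαTQ ⟨x, hxQ⟩
  rw [← h2]
  rw [h1] at h3
  exact h3.symm

/-- The group-theoretic hypothesis on models. -/
def Leaf (p : ℕ) (W : CharFunctor.{u}) (YS : Subgroup Ω → Subgroup Ω) : Prop :=
  ∀ (R : Subgroup Ω) [Finite R], IsPGroup p R → ∀ (L : Type u) [Group L] [Finite L]
    (ι : R →* L), Function.Injective ι → (∃ P : Sylow p L, (P : Subgroup L) = ι.range) →
    Subgroup.centralizer ((pCore p L : Subgroup L) : Set L) ≤ pCore p L →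
    ∀ y : R, (y : Ω) ∈ YS R → ι y ∈ pCore p L →
      (∀ g ∈ Subgroup.normalizer ((((W.of R).subgroupOf R).map ι : Subgroup L) : Set L),
        g * ι y = ι y * g) → ∀ g : L, g * ι y = ι y * g

/-- In a system with a model, a subgroup of a normal subgroup fixed by the automorphisms of
`W(R)` is central. -/
theorem isCentral_of_model {R : Subgroup Ω} [Finite R] (p : ℕ) [Fact p.Prime]
    (hR : IsPGroup p R) (W : CharFunctor.{u}) (YS : Subgroup Ω → Subgroup Ω)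
    (hleaf : Leaf p W YS) (NT : FusionSystem R) (hNTsat : NT.IsSaturated p) {T : Subgroup Ω}
    (hT : NT.IsNormal T) (L : Type u) [Group L] (ι : R →* L) (hL : NT.IsModel p L ι)
    {Y : Subgroup Ω} (hYT : Y ≤ T) (hYYS : Y ≤ YS R) (hYX : Y ≤ W.of R)
    (hfix : AutFix NT Y (W.of R)) : NT.IsCentral Y := by
  have hTn := Fusion.map_normal_of_isNormal_of_isModel p NT ι hL hT
  obtain ⟨hfin, hreal, ⟨P, hP⟩, hcent⟩ := hL
  haveI := hfin
  have hTR : T ≤ R := hT.1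
  have hYR : Y ≤ R := hYT.trans hTR
  have hTp : IsPGroup p ((T.subgroupOf R).map ι) := (hR.to_subgroup _).map ι
  have hTcore : (T.subgroupOf R).map ι ≤ pCore p L := le_sSup ⟨hTn, hTp⟩
  have hXR := W.of_le R
  have key : ∀ (y : Ω) (hy : y ∈ Y) (g : L), g * ι ⟨y, hYR hy⟩ = ι ⟨y, hYR hy⟩ * g := by
    intro y hy
    apply hleaf R hR L ι hreal.1 ⟨P, hP⟩ hcent ⟨y, hYR hy⟩ (hYYS hy)
    · apply hTcore
      refine ⟨⟨y, hYR hy⟩, ?_, rfl⟩
      rw [SetLike.mem_coe, Subgroup.mem_subgroupOf]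
      exact hYT hy
    · intro g hg
      have hgX : ∀ x : (W.of R), ∃ y' : (W.of R),
          g * ι ⟨x, hXR x.2⟩ * g⁻¹ = ι ⟨y', hXR y'.2⟩ := by
        intro x
        have h1 : ι ⟨x, hXR x.2⟩ ∈ ((W.of R).subgroupOf R).map ι := by
          refine ⟨⟨x, hXR x.2⟩, ?_, rfl⟩
          rw [SetLike.mem_coe, Subgroup.mem_subgroupOf]
          exact x.2
        have h2 := (Subgroup.mem_normalizer_iff.mp hg _).mp h1
        obtain ⟨r, hr, hr'⟩ := h2
        rw [SetLike.mem_coe, Subgroup.mem_subgroupOf] at hr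
        exact ⟨⟨r.1, hr⟩, hr'.symm⟩
      obtain ⟨α, hα, hαg⟩ := exists_aut_of_conj NT ι hreal hXR g hgX
      have hφ := (Fusion.mem_autGroup_iff NT hXR α).mp hα
      have h3 := hfix _ hφ (map_aut_top α) ⟨y, hYX hy⟩ hy
      have h4 := hαg ⟨y, hYX hy⟩
      have h5 : ι ⟨y, hYR hy⟩ = g * ι ⟨y, hYR hy⟩ * g⁻¹ := by
        rw [← h4]
        congr 1
        apply Subtype.ext
        exact h3.symm
      calc g * ι ⟨y, hYR hy⟩ = (g * ι ⟨y, hYR hy⟩ * g⁻¹) * g := by group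
        _ = ι ⟨y, hYR hy⟩ * g := by rw [← h5]
  rw [Fusion.isCentral_iff p hR NT hNTsat]
  refine ⟨hYR, ?_⟩
  rintro x hx y ⟨φ, hφ, rfl⟩
  have hPR : Subgroup.zpowers x ≤ R := Fusion.src_le NT hφ
  have hφR : ∀ z, φ z ∈ R := Fusion.map_mem NT hφ
  obtain ⟨g, hg⟩ := (hreal.2 _ hPR φ hφR).mp hφ
  have h1 := hg ⟨x, Subgroup.mem_zpowers x⟩
  have h2 := key x hx g
  have h3 : ι ⟨φ ⟨x, Subgroup.mem_zpowers x⟩, hφR _⟩ = ι ⟨x, hYR hx⟩ := by
    rw [h1]
    have h4 : (⟨((⟨x, Subgroup.mem_zpowers x⟩ : Subgroup.zpowers x) : Ω), hPR (Subgroup.mem_zpowers x)⟩ : R) =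
        ⟨x, hYR hx⟩ := rfl
    rw [h4, h2]
    group
  exact congrArg Subtype.val (hreal.1 h3)

end Cfsg.Agent.Helper6.Ctr
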