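import Mathlib
import Cfsg.Agent.Helper6.CtrC

/-!
# Control of weak closure of elements in fusion systems, part D

The main induction: a subgroup `Y ≤ YS(S)` central in `N_F(W(S))` is central in `F`, given the
group-theoretic hypothesis `Leaf` on models.
-/

set_option autoImplicit false
set_option linter.style.haveILetI false
set_option maxHeartbeats 1000000

namespace Cfsg.Agent.Helper6.Ctr

open Cfsg Cfsg.FusionSystem Cfsg.Agent.Lead Cfsg.Agent.Helper1 Cfsg.Agent.Helper1.ThompsonRed
  Cfsg.Agent.Lead.GlTh Cfsg.Agent.Lead.KL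

universe u

variable {Ω : Type u} [Group Ω]

/-- `YS R` lies in the centre of `R`. -/
def YCen (YS : Subgroup Ω → Subgroup Ω) : Prop :=
  ∀ R : Subgroup Ω, YS R ≤ R ⊓ Subgroup.centralizer (R : Set Ω)

/-- `YS` grows when passing to a subgroup containing the centre. -/
def YMono (YS : Subgroup Ω → Subgroup Ω) : Prop :=
  ∀ R R' : Subgroup Ω, R' ≤ R → R ⊓ Subgroup.centralizer (R : Set Ω) ≤ R' → YS R ≤ YS R'

theorem center_le_normalizerIn (S U : Subgroup Ω) (hUS : U ≤ S) :
    S ⊓ Subgroup.centralizer (S : Set Ω) ≤ normalizerIn S U := by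
  intro x hx
  obtain ⟨hxS, hxC⟩ := Subgroup.mem_inf.mp hx
  refine Subgroup.mem_inf.mpr ⟨hxS, ?_⟩
  have h1 : x ∈ Subgroup.centralizer (U : Set Ω) := Subgroup.centralizer_le hUS hxC
  rw [Subgroup.mem_normalizer_iff]
  intro h
  rw [Subgroup.mem_centralizer_iff] at h1
  constructor
  · intro hh
    have h2 : x * h * x⁻¹ = h := by rw [← h1 h hh]; group
    rw [h2]; exact hh
  · intro hh
    have h3 := h1 _ hh
    have h4 : h = x * h * x⁻¹ := by
      have : x * h * x⁻¹ * x = x * (x * h * x⁻¹) := h3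
      have h5 : x * h = x * (x * h * x⁻¹) := by rw [← this]; group
      exact mul_left_cancel h5
    rw [h4]; exact hh

theorem main_aux (p : ℕ) [Fact p.Prime] (W : CharFunctor.{u})
    (hWZ : ∀ (R : Type u) [Group R] [Finite R], IsPGroup p R → Subgroup.center R ≤ W.W R)
    (YS : Subgroup Ω → Subgroup Ω) (hYc : YCen YS) (hYm : YMono YS) (hleaf : Leaf p W YS) :
    ∀ (n m : ℕ) (S : Subgroup Ω) [Finite S], Nat.card S = n → IsPGroup p S →
      ∀ F : FusionSystem S, size F = m → F.IsSaturated p → ∀ Y : Subgroup Ω, Y ≤ YS S →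
        ∀ N : FusionSystem (normalizerIn S (W.of S)), F.IsNormalizerSystem (W.of S) N →
          N.IsCentral Y → F.IsCentral Y := by
  intro n
  induction n using Nat.strong_induction_on with
  | _ n ih₁ =>
  intro m
  induction m using Nat.strong_induction_on with
  | _ m ih₂ =>
  intro S _ hn hS F hm hF Y hY N hN hYN
  have IH₁ : ∀ (S' : Subgroup Ω) [Finite S'],
      Nat.card S' < Nat.card S → IsPGroup p S' → ∀ F' : FusionSystem S', F'.IsSaturated p →
        ∀ Y : Subgroup Ω, Y ≤ YS S' →
        ∀ N : FusionSystem (normalizerIn S' (W.of S')), F'.IsNormalizerSystem (W.of S') N →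
          N.IsCentral Y → F'.IsCentral Y :=
    fun S' _ hlt hS' F' hF' =>
      ih₁ (Nat.card S') (hn ▸ hlt) (size F') S' rfl hS' F' rfl hF'
  have IH₂ : ∀ F₂ : FusionSystem S, size F₂ < size F → F₂.IsSaturated p →
      ∀ Y : Subgroup Ω, Y ≤ YS S →
        ∀ N : FusionSystem (normalizerIn S (W.of S)), F₂.IsNormalizerSystem (W.of S) N →
          N.IsCentral Y → F₂.IsCentral Y :=
    fun F₂ hlt hF₂ => ih₂ (size F₂) (hm ▸ hlt) S hn hS F₂ rfl hF₂
  have IHsub : ∀ (T : Subgroup Ω), T ≤ S → ∀ E : FusionSystem T, (∀ P, E.Hom P ⊆ F.Hom P) →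
      (∃ (P : Subgroup Ω) (φ : P →* Ω), φ ∈ F.Hom P ∧ φ ∉ E.Hom P) → E.IsSaturated p →
      ∀ Y : Subgroup Ω, Y ≤ YS T →
        ∀ N : FusionSystem (normalizerIn T (W.of T)), E.IsNormalizerSystem (W.of T) N →
          N.IsCentral Y → E.IsCentral Y := by
    intro T hTS E hle hne' hE
    by_cases hT : T = S
    · subst hT
      exact IH₂ E (size_lt F E hle hne') hE
    · haveI : Finite T := Fusion.finite_of_le hTS
      exact IH₁ T (card_lt_of_lt (lt_of_le_of_ne hTS hT)) (hS.to_le hTS) E hE
  have hYZS : Y ≤ S ⊓ Subgroup.centralizer (S : Set Ω) := hY.trans (hYc S)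
  have hYS : Y ≤ S := hYZS.trans inf_le_left
  have hYZ : S ≤ Subgroup.centralizer (Y : Set Ω) :=
    Subgroup.le_centralizer_iff.mp (hYZS.trans inf_le_right)
  have hQ : F.IsNormal F.core := Fusion.core_isNormal F
  have hcore_max : ∀ X : Subgroup Ω, F.IsNormal X → X ≤ F.core := fun X hX => le_sSup hX
  by_cases hYQ : Y ≤ F.core
  · -- `Y ≤ O_p(F)`: use the model of `N_F(Q C_S(Q))`
    have hQS := hQ.1
    have hSQ := Model.le_normalizer_of_isNormal F hQ
    have hRS : F.core ⊔ centralizerIn S F.core ≤ S := sup_le hQS inf_le_left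
    have hSR := le_normalizer_sup_centralizerIn hQS hSQ
    have hNReq : normalizerIn S (F.core ⊔ centralizerIn S F.core) = S :=
      le_antisymm inf_le_left (le_inf le_rfl hSR)
    have hRfn : F.IsFullyNormalized (F.core ⊔ centralizerIn S F.core) := by
      refine ⟨hRS, fun R' _ => ?_⟩
      rw [hNReq]
      exact Subgroup.card_le_of_le inf_le_left
    obtain ⟨NT, hNT⟩ := Cfsg.Agent.S5096.result F _ hRS
    have hNTsat := Fusion.normalizerSystem_isSaturated p hS F hF _ hRfn NT hNT
    have hNTsub : ∀ P, NT.Hom P ⊆ F.Hom P := fun P φ h => by rw [hNT P] at h; exact h.1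
    have hTnorm := Fusion.normalizerSystem_isNormal F hRS NT hNT
    haveI : Finite ↥(normalizerIn S (F.core ⊔ centralizerIn S F.core)) :=
      Fusion.finite_of_le inf_le_left
    have hNp : IsPGroup p ↥(normalizerIn S (F.core ⊔ centralizerIn S F.core)) :=
      hS.to_le inf_le_left
    have hCT : centralizerIn (normalizerIn S (F.core ⊔ centralizerIn S F.core))
        (F.core ⊔ centralizerIn S F.core) ≤ F.core ⊔ centralizerIn S F.core := by
      refine le_trans ?_ (le_sup_right : centralizerIn S F.core ≤ _)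
      intro x hx
      obtain ⟨hxN, hxC⟩ := Subgroup.mem_inf.mp hx
      refine Subgroup.mem_inf.mpr ⟨inf_le_left (a := S) hxN, ?_⟩
      exact Subgroup.centralizer_le (le_sup_left : F.core ≤ F.core ⊔ centralizerIn S F.core) hxC
    have hTcen := isCentric_of_isNormal NT hTnorm hCT
    obtain ⟨L, _, ι, hL⟩ := Model.exists_isModel p hNp NT ⟨hNTsat, _, hTnorm, hTcen⟩
    have hYYS : Y ≤ YS (normalizerIn S (F.core ⊔ centralizerIn S F.core)) := by
      rw [hNReq]; exact hY
    have hYX : Y ≤ W.of (normalizerIn S (F.core ⊔ centralizerIn S F.core)) := by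
      rw [hNReq]
      exact hYZS.trans (center_le_of p W hWZ S hS)
    have hfix : AutFix NT Y (W.of (normalizerIn S (F.core ⊔ centralizerIn S F.core))) := by
      apply autFix_of_subsystem F NT hNTsub
      rw [hNReq]
      exact autFix_of_isCentral F (W.of_le S) N hN hYN
    have hcenNT := isCentral_of_model p hNp W YS hleaf NT hNTsat hTnorm L ι hL
      (hYQ.trans le_sup_left) hYYS hYX hfix
    exact isCentral_of_isCentral_normalizer p hS F hF hQ NT hNT hYQ hcenNT
  · -- `Y` not in `O_p(F)`: local-to-global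
    apply isCentral_of_localCentral p hS W hWZ F hF hYS hYZ N hN hYN
    intro U hYU hUfn N' hN' N'' hN'' hcen''
    have hUS := hUfn.1
    have hN'sat := Fusion.normalizerSystem_isSaturated p hS F hF U hUfn N' hN'
    have hUnn : ¬ F.IsNormal U := fun h => hYQ (hYU.trans (hcore_max U h))
    obtain ⟨P, φ, hφ, hφN⟩ := exists_not_mem_normalizerHom F hUS hUnn
    have hY' : Y ≤ YS (normalizerIn S U) :=
      hY.trans (hYm S (normalizerIn S U) inf_le_left (center_le_normalizerIn S U hUS))
    exact IHsub (normalizerIn S U) inf_le_left N' (fun P φ h => by rw [hN' P] at h; exact h.1)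
      ⟨P, φ, hφ, by rw [hN' P]; exact hφN⟩ hN'sat Y hY' N'' hN'' hcen''

/-- Control of weak closure of elements, abstract form. -/
theorem main {S : Subgroup Ω} [Finite S] (p : ℕ) [Fact p.Prime] (hS : IsPGroup p S)
    (W : CharFunctor.{u})
    (hWZ : ∀ (R : Type u) [Group R] [Finite R], IsPGroup p R → Subgroup.center R ≤ W.W R)
    (YS : Subgroup Ω → Subgroup Ω) (hYc : YCen YS) (hYm : YMono YS) (hleaf : Leaf p W YS)
    (F : FusionSystem S) (hF : F.IsSaturated p) (X : Subgroup Ω) (hX : X = W.of S)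
    (N : FusionSystem (normalizerIn S X)) (hN : F.IsNormalizerSystem X N) :
    YS S ⊓ N.center ≤ F.center := by
  subst hX
  haveI : Finite ↥(normalizerIn S (W.of S)) := Fusion.finite_of_le inf_le_left
  have h1 : N.IsCentral (YS S ⊓ N.center) :=
    isCentral_mono N (Fusion.center_isCentral N) inf_le_right
  have h2 := main_aux p W hWZ YS hYc hYm hleaf _ _ S rfl hS F rfl hF _ inf_le_left N hN h1
  exact le_sSup h2

/-- The centre of the system lies in the centre of the normalizer system of `W(S)`. -/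
theorem center_le_center {S : Subgroup Ω} [Finite S] (p : ℕ) [Fact p.Prime] (hS : IsPGroup p S)
    (W : CharFunctor.{u}) (F : FusionSystem S) (hF : F.IsSaturated p) (X : Subgroup Ω)
    (hX : X = W.of S) (N : FusionSystem (normalizerIn S X)) (hN : F.IsNormalizerSystem X N) :
    F.center ≤ N.center := by
  subst hX
  haveI : Finite ↥(normalizerIn S (W.of S)) := Fusion.finite_of_le inf_le_left
  have hNp : IsPGroup p ↥(normalizerIn S (W.of S)) := hS.to_le inf_le_left
  have hNeq : normalizerIn S (W.of S) = S := normalizerIn_of_eq W S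
  have hfn : F.IsFullyNormalized (W.of S) := by
    refine ⟨W.of_le S, fun R' _ => ?_⟩
    rw [hNeq]
    exact Subgroup.card_le_of_le inf_le_left
  have hNsat := Fusion.normalizerSystem_isSaturated p hS F hF _ hfn N hN
  have hcen := Fusion.center_isCentral F
  apply le_sSup
  show N.IsCentral F.center
  rw [Fusion.isCentral_iff p hNp N hNsat]
  refine ⟨hcen.1.trans hNeq.ge, ?_⟩
  rintro x hx y ⟨φ, hφ, rfl⟩
  rw [hN] at hφ
  exact Fusion.map_eq_of_isCentral p hS F hF hcen hφ.1 ⟨x, Subgroup.mem_zpowers x⟩ hx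

end Cfsg.Agent.Helper6.Ctr
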