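import Mathlib
import Cfsg.Agent.Helper6.CtrD
import Cfsg.Agent.Lead.KLk

/-!
# Control of weak closure of elements in fusion systems, part E

Functors satisfying the local condition `O_p(G) ∩ Z(G) = O_p(G) ∩ Z(N_G(W(P)))` control weak closure
of elements.
-/

set_option autoImplicit false
set_option linter.style.haveILetI false
set_option maxHeartbeats 1000000

namespace Cfsg.Agent.Helper6.Ctr

open Cfsg Cfsg.FusionSystem Cfsg.Agent.Lead Cfsg.Agent.Helper1 Cfsg.Agent.Helper1.ThompsonRed
  Cfsg.Agent.Lead.GlTh Cfsg.Agent.Lead.KL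

universe u

variable {Ω : Type u} [Group Ω]

/-- The centre functor on subgroups. -/
def zS (R : Subgroup Ω) : Subgroup Ω := R ⊓ Subgroup.centralizer (R : Set Ω)

theorem zS_yCen : YCen (zS (Ω := Ω)) := fun _ => le_rfl

theorem zS_yMono : YMono (zS (Ω := Ω)) := by
  intro R R' hR'R hZ x hx
  exact Subgroup.mem_inf.mpr ⟨hZ hx, Subgroup.centralizer_le hR'R (Subgroup.mem_inf.mp hx).2⟩

/-- The value of the functor on the image of an injective map. -/
theorem map_subgroupOf_of (W : CharFunctor.{u}) {R : Subgroup Ω} {L : Type u} [Group L]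
    (ι : R →* L) (hinj : Function.Injective ι) :
    ((W.of R).subgroupOf R).map ι = W.of ι.range := by
  have h1 : (W.of R).subgroupOf R = W.W ↥R := by
    unfold CharFunctor.of Subgroup.subgroupOf
    exact Subgroup.comap_map_eq_self_of_injective (Subgroup.subtype_injective _) _
  rw [h1, ← of_range W ι hinj]

theorem leaf_of_hC {p : ℕ} [Fact p.Prime] (W : ∀ (Q : Type u) [Group Q], Subgroup Q)
    (hW2 : ∀ (Q R : Type u) [Group Q] [Group R] [Finite Q], IsPGroup p Q → ∀ φ : Q ≃* R,
      (W Q).map φ.toMonoidHom = W R)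
    (hC : ∀ (G : Type u) [Group G] [Finite G] (P : Sylow p G),
      Cfsg.pCore p G ⊓ Subgroup.center G = Cfsg.pCore p G ⊓
        (Subgroup.center ↥(Subgroup.normalizer
          (((W ↥(P : Subgroup G)).map (P : Subgroup G).subtype : Subgroup G) : Set G))).map
          (Subgroup.normalizer
            (((W ↥(P : Subgroup G)).map (P : Subgroup G).subtype : Subgroup G) : Set G)).subtype) :
    Leaf (Ω := Ω) p (mkFunctor p W hW2) zS := by
  intro R _ hR L _ _ ι hinj hP hcent y hy hycore hcomm g
  obtain ⟨P, hP⟩ := hP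
  have hWeq : (((mkFunctor p W hW2).of R).subgroupOf R).map ι =
      (W ↥(P : Subgroup L)).map (P : Subgroup L).subtype := by
    rw [map_subgroupOf_of (mkFunctor p W hW2) ι hinj, ← hP]
    exact mkFunctor_of p W hW2 (P : Subgroup L) P.isPGroup'
  rw [hWeq] at hcomm
  have hyP : ι y ∈ (P : Subgroup L) := by rw [hP]; exact ⟨y, rfl⟩
  have hyN : ι y ∈ Subgroup.normalizer
      (((W ↥(P : Subgroup L)).map (P : Subgroup L).subtype : Subgroup L) : Set L) := by
    have := le_normalizer_of (mkFunctor p W hW2) (P : Subgroup L)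
    rw [mkFunctor_of p W hW2 (P : Subgroup L) P.isPGroup'] at this
    exact this hyP
  have h2 : ι y ∈ Cfsg.pCore p L ⊓
      (Subgroup.center ↥(Subgroup.normalizer
          (((W ↥(P : Subgroup L)).map (P : Subgroup L).subtype : Subgroup L) : Set L))).map
          (Subgroup.normalizer
            (((W ↥(P : Subgroup L)).map (P : Subgroup L).subtype : Subgroup L) : Set L)).subtype := by
    refine Subgroup.mem_inf.mpr ⟨hycore, ⟨ι y, hyN⟩, ?_, rfl⟩
    rw [SetLike.mem_coe, Subgroup.mem_center_iff]
    intro g'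
    apply Subtype.ext
    exact hcomm g'.1 g'.2
  rw [← hC L P] at h2
  exact Subgroup.mem_center_iff.mp (Subgroup.mem_inf.mp h2).2 g

/-- The centre of the normalizer system of a subgroup normal in `S` lies in `Z(S)`. -/
theorem center_le_zS {S : Subgroup Ω} [Finite S] (p : ℕ) [Fact p.Prime] (hS : IsPGroup p S)
    (F : FusionSystem S) (hF : F.IsSaturated p) (X : Subgroup Ω) (hXS : X ≤ S)
    (hSX : S ≤ Subgroup.normalizer (X : Set Ω))
    (N : FusionSystem (normalizerIn S X)) (hN : F.IsNormalizerSystem X N) :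
    N.center ≤ zS S := by
  haveI : Finite ↥(normalizerIn S X) := Fusion.finite_of_le inf_le_left
  have hNp : IsPGroup p ↥(normalizerIn S X) := hS.to_le inf_le_left
  have hNeq : normalizerIn S X = S := le_antisymm inf_le_left (le_inf le_rfl hSX)
  have hfn : F.IsFullyNormalized X := by
    refine ⟨hXS, fun R' _ => ?_⟩
    rw [hNeq]
    exact Subgroup.card_le_of_le inf_le_left
  have hNsat := Fusion.normalizerSystem_isSaturated p hS F hF _ hfn N hN
  have hcen := Fusion.center_isCentral N
  intro t ht
  refine Subgroup.mem_inf.mpr ⟨inf_le_left (a := S) (hcen.1 ht), ?_⟩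
  rw [Subgroup.mem_centralizer_iff]
  intro s hs
  exact Fusion.comm_of_isCentral p hNp N hNsat hcen ht (hNeq.ge hs)

/-- Statement-level form: a functor containing centres and satisfying the local condition controls
weak closure of elements. -/
theorem controls_weak_closure {p : ℕ} [Fact p.Prime]
    (W : ∀ (Q : Type u) [Group Q], Subgroup Q)
    (hW2 : ∀ (Q R : Type u) [Group Q] [Group R] [Finite Q], IsPGroup p Q → ∀ φ : Q ≃* R,
      (W Q).map φ.toMonoidHom = W R)
    (hWZ : ∀ (Q : Type u) [Group Q] [Finite Q], IsPGroup p Q → Subgroup.center Q ≤ W Q)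
    (hC : ∀ (G : Type u) [Group G] [Finite G] (P : Sylow p G),
      Cfsg.pCore p G ⊓ Subgroup.center G = Cfsg.pCore p G ⊓
        (Subgroup.center ↥(Subgroup.normalizer
          (((W ↥(P : Subgroup G)).map (P : Subgroup G).subtype : Subgroup G) : Set G))).map
          (Subgroup.normalizer
            (((W ↥(P : Subgroup G)).map (P : Subgroup G).subtype : Subgroup G) : Set G)).subtype)
    {S : Subgroup Ω} [Finite S] (hS : IsPGroup p S) (F : Cfsg.FusionSystem S)
    (hF : F.IsSaturated p)
    (N : Cfsg.FusionSystem (Cfsg.FusionSystem.normalizerIn S ((W ↥S).map S.subtype)))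
    (hN : F.IsNormalizerSystem ((W ↥S).map S.subtype) N) : N.center = F.center := by
  have hX : (W ↥S).map S.subtype = (mkFunctor p W hW2).of S := (mkFunctor_of p W hW2 S hS).symm
  have hWZ' : ∀ (R : Type u) [Group R] [Finite R], IsPGroup p R →
      Subgroup.center R ≤ (mkFunctor p W hW2).W R := by
    intro R _ _ hR
    rw [mkFunctor_W p W hW2 R hR]
    exact hWZ R hR
  apply le_antisymm
  · have h := main p hS (mkFunctor p W hW2) hWZ' zS zS_yCen zS_yMono (leaf_of_hC W hW2 hC) F hF
      _ hX N hN
    refine le_trans (le_inf ?_ le_rfl) h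
    apply center_le_zS p hS F hF _ _ _ N hN
    · rw [hX]; exact (mkFunctor p W hW2).of_le S
    · rw [hX]; exact le_normalizer_of (mkFunctor p W hW2) S
  · exact center_le_center p hS (mkFunctor p W hW2) F hF _ hX N hN

end Cfsg.Agent.Helper6.Ctr
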