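import Mathlib
import Cfsg.Agent.Lead.GlThG
import Cfsg.Agent.Lead.FusionFocal
import Cfsg.Agent.Lead.FusionAlperinGe
import Cfsg.Agent.Lead.ConjAutDef
import Cfsg.Agent.Lead.AutInduced

/-!
# Control of transfer for fusion systems, part A

The predicates `GoodHom`, `GP` and `Good` measuring whether the quotients `x⁻¹ φ(x)` of maps of a
fusion system lie in a given subgroup `D`, and their first properties.
-/

set_option autoImplicit false
set_option linter.style.haveILetI false

namespace Cfsg.Agent.Helper6.TC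

open Cfsg Cfsg.FusionSystem Cfsg.Agent.Lead Cfsg.Agent.Lead.GlTh

variable {Ω : Type*} [Group Ω] {S : Subgroup Ω}

/-- All quotients `x⁻¹ φ(x)` lie in `D`. -/
def GoodHom (D : Subgroup Ω) {P : Subgroup Ω} (φ : P →* Ω) : Prop :=
  ∀ x : P, (x : Ω)⁻¹ * φ x ∈ D

/-- Every automorphism in the system of a subgroup `P` with `Q ≤ P ≤ N_S(Q)` that normalizes `Q`
has all its quotients `x⁻¹ α(x)` in `D`. -/
def GP (D : Subgroup Ω) (F : FusionSystem S) (Q : Subgroup Ω) : Prop :=
  ∀ P : Subgroup Ω, Q ≤ P → P ≤ normalizerIn S Q → ∀ α ∈ F.autGroup P,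
    (Q.subgroupOf P).map α.toMonoidHom = Q.subgroupOf P →
      ∀ x : P, (x : Ω)⁻¹ * ((α x : P) : Ω) ∈ D

/-- All automorphisms of the system have their quotients `x⁻¹ α(x)` in `D`. -/
def Good (D : Subgroup Ω) (F : FusionSystem S) : Prop :=
  ∀ P : Subgroup Ω, P ≤ S → ∀ α ∈ F.autGroup P, ∀ x : P, (x : Ω)⁻¹ * ((α x : P) : Ω) ∈ D

/-- `D` contains the commutators of `S`. -/
def CommIn (D S : Subgroup Ω) : Prop :=
  ∀ x ∈ S, ∀ g ∈ S, x⁻¹ * (g * x * g⁻¹) ∈ D

theorem gp_of_good {D : Subgroup Ω} {F : FusionSystem S} (h : Good D F) (Q : Subgroup Ω) :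
    GP D F Q :=
  fun P _ hPN α hα _ => h P (hPN.trans inf_le_left) α hα

theorem gp_mono {D D' : Subgroup Ω} (hD : D ≤ D') {F : FusionSystem S} {Q : Subgroup Ω}
    (h : GP D F Q) : GP D' F Q :=
  fun P hQP hPN α hα hαQ x => hD (h P hQP hPN α hα hαQ x)

theorem good_mono {D D' : Subgroup Ω} (hD : D ≤ D') {F : FusionSystem S} (h : Good D F) :
    Good D' F :=
  fun P hP α hα x => hD (h P hP α hα x)

/-- The quotients of an automorphism of the system lie in the focal subgroup. -/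
theorem mem_focal_of_aut (F : FusionSystem S) {P : Subgroup Ω} (hP : P ≤ S) {α : MulAut P}
    (hα : α ∈ F.autGroup P) (x : P) : (x : Ω)⁻¹ * ((α x : P) : Ω) ∈ F.focalSubgroup := by
  apply Subgroup.subset_closure
  exact ⟨P, P.subtype.comp α.toMonoidHom, x, (Fusion.mem_autGroup_iff F hP α).mp hα, rfl⟩

theorem gp_inf_focal {D : Subgroup Ω} {F : FusionSystem S} {Q : Subgroup Ω} (h : GP D F Q) :
    GP (D ⊓ F.focalSubgroup) F Q :=
  fun P hQP hPN α hα hαQ x =>
    Subgroup.mem_inf.mpr ⟨h P hQP hPN α hα hαQ x, mem_focal_of_aut F (hPN.trans inf_le_left) hα x⟩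

/-- The subsystem of the maps all of whose quotients lie in `D`. -/
def goodSub (D : Subgroup Ω) (F : FusionSystem S) (hD : CommIn D S) : FusionSystem S :=
  Fusion.subOfPred F (fun _ φ => GoodHom D φ)
    (by
      intro P g hPS hg x
      exact hD (x : Ω) (hPS x.2) g hg)
    (by
      intro P Q φ ψ h _ _ hPφ hPψ x
      have h1 : (x : Ω)⁻¹ * (ψ.comp (φ.codRestrict Q h)) x =
          ((x : Ω)⁻¹ * φ x) * ((φ x)⁻¹ * ψ ⟨φ x, h x⟩) := by
        show (x : Ω)⁻¹ * ψ ⟨φ x, h x⟩ = _
        group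
      rw [h1]
      exact Subgroup.mul_mem _ (hPφ x) (hPψ ⟨φ x, h x⟩))
    (by
      intro P φ ψ _ hPφ _ hinv
      rintro ⟨_, x, rfl⟩
      rw [hinv x]
      have := Subgroup.inv_mem _ (hPφ x)
      rwa [mul_inv_rev, inv_inv] at this)

theorem mem_goodSub_hom {D : Subgroup Ω} {F : FusionSystem S} {hD : CommIn D S} {P : Subgroup Ω}
    {φ : P →* Ω} : φ ∈ (goodSub D F hD).Hom P ↔ φ ∈ F.Hom P ∧ GoodHom D φ := Iff.rfl

/-- In a saturated system, if all automorphisms are good then all maps are. -/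
theorem goodHom_of_good [Finite S] (p : ℕ) [Fact p.Prime] (hS : IsPGroup p S)
    (F : FusionSystem S) (hF : F.IsSaturated p) {D : Subgroup Ω} (hD : CommIn D S)
    (h : Good D F) {P : Subgroup Ω} {φ : P →* Ω} (hφ : φ ∈ F.Hom P) : GoodHom D φ := by
  have hFE : F ≤ goodSub D F hD := by
    apply Fusion.alperin p hS F hF (goodSub D F hD)
    intro P hP α hα
    have hPS : P ≤ S := by
      rcases hP with rfl | hess
      · exact le_rfl
      · exact hess.1.1
    rw [Fusion.mem_autGroup_iff (goodSub D F hD) hPS]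
    exact ⟨(Fusion.mem_autGroup_iff F hPS α).mp hα, fun x => h P hPS α hα x⟩
  exact (hFE P hφ).2

/-- Conjugation by an element of `S` normalizing `P`, as an element of the automizer. -/
theorem conjAut_mem_autGroup' (F : FusionSystem S) {P : Subgroup Ω} (hP : P ≤ S) {n : Ω}
    (hnS : n ∈ S) (hn : n ∈ Subgroup.normalizer (P : Set Ω)) :
    conjAut P n hn ∈ F.autGroup P := by
  apply Fusion.autInducedBy_le_autGroup F hP
  rw [mem_autInducedBy_iff]
  exact ⟨n, hnS, fun y => rfl⟩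

/-- `GP` for a subgroup normal in `S` forces the commutators of `S` into `D`. -/
theorem commIn_of_gp [Finite S] {D : Subgroup Ω} {F : FusionSystem S} {U : Subgroup Ω} (hUS : U ≤ S)
    (hSU : S ≤ Subgroup.normalizer (U : Set Ω)) (h : GP D F U) : CommIn D S := by
  intro x hx g hg
  have hgN : g ∈ Subgroup.normalizer (S : Set Ω) := Subgroup.le_normalizer hg
  have hα := conjAut_mem_autGroup' F (le_refl S) hg hgN
  have hinv : (U.subgroupOf S).map (conjAut S g hgN).toMonoidHom = U.subgroupOf S := by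
    apply Fusion.map_aut_eq_of_le
    rintro _ ⟨y, hy, rfl⟩
    rw [SetLike.mem_coe, Subgroup.mem_subgroupOf] at hy
    rw [Subgroup.mem_subgroupOf]
    show g * (y : Ω) * g⁻¹ ∈ U
    exact (Subgroup.mem_normalizer_iff.mp (hSU hg) _).mp hy
  exact h S hUS (le_inf le_rfl hSU) _ hα hinv ⟨x, hx⟩

end Cfsg.Agent.Helper6.TC
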