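import Mathlib
import Cfsg.Agent.Helper6.TcA

/-!
# Control of transfer for fusion systems, part B

`GP` against normalizer systems and normal subgroups; transport of `GP` along a good map.
-/

set_option autoImplicit false
set_option linter.style.haveILetI false

namespace Cfsg.Agent.Helper6.TC

open Cfsg Cfsg.FusionSystem Cfsg.Agent.Lead Cfsg.Agent.Lead.GlTh

variable {Ω : Type*} [Group Ω] {S : Subgroup Ω}

/-- `GP` for `Q` is equivalent to the normalizer system of `Q` being good. -/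
theorem gp_iff_normalizer_good [Finite S] {D : Subgroup Ω} (F : FusionSystem S) {Q : Subgroup Ω}
    (hQS : Q ≤ S) (E : FusionSystem (normalizerIn S Q)) (hE : F.IsNormalizerSystem Q E) :
    GP D F Q ↔ Good D E := by
  have hQN : Q ≤ normalizerIn S Q := Fusion.le_normalizerIn hQS
  constructor
  · intro h P hP α hα x
    have hα' := (Fusion.mem_autGroup_iff E hP α).mp hα
    rw [hE P] at hα'
    obtain ⟨-, -, -, ψ, hψ, hψP, hψQ⟩ := hα'
    obtain ⟨β, hβ, hβP, hβQ⟩ := exists_aut_sup F α ψ hψ hψP hψQ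
    have h1 := h (P ⊔ Q) le_sup_right (sup_le hP hQN) β hβ hβQ (Subgroup.inclusion le_sup_left x)
    rw [hβP] at h1
    exact h1
  · intro h P hQP hPN α hα hαQ x
    have hPS : P ≤ S := hPN.trans inf_le_left
    apply h P hPN α
    rw [Fusion.mem_autGroup_iff E hPN α, hE P]
    have hα' := (Fusion.mem_autGroup_iff F hPS α).mp hα
    refine ⟨hα', hPN, fun x => hPN (α x).2, ?_⟩
    have heq : P = P ⊔ Q := (sup_eq_left.mpr hQP).symm
    obtain ⟨ψ, hψ, hψx⟩ := Fusion.exists_hom_of_eq F heq hα'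
    refine ⟨ψ, hψ, fun x => hψx x.1 x.2 _, ?_⟩
    ext y
    constructor
    · rintro ⟨z, hz, rfl⟩
      rw [SetLike.mem_coe, Subgroup.mem_subgroupOf] at hz
      rw [hψx z.1 (hQP hz) z.2]
      have : α ⟨z.1, hQP hz⟩ ∈ (Q.subgroupOf P).map α.toMonoidHom :=
        ⟨_, by rw [SetLike.mem_coe, Subgroup.mem_subgroupOf]; exact hz, rfl⟩
      rw [hαQ, Subgroup.mem_subgroupOf] at this
      exact this
    · intro hy
      have : (⟨y, hQP hy⟩ : P) ∈ (Q.subgroupOf P).map α.toMonoidHom := by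
        rw [hαQ, Subgroup.mem_subgroupOf]; exact hy
      obtain ⟨x, hx, hxy⟩ := this
      rw [SetLike.mem_coe, Subgroup.mem_subgroupOf] at hx
      refine ⟨⟨x.1, heq ▸ x.2⟩, ?_, ?_⟩
      · rw [SetLike.mem_coe, Subgroup.mem_subgroupOf]; exact hx
      · rw [hψx x.1 x.2]
        exact congrArg Subtype.val hxy

/-- If `U` is normal in the system, `U' ≤ U` is normal in `S` and invariant under the automorphisms
normalizing `U`, and `GP` holds for `U'`, then the system is good. -/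
theorem good_of_gp_normal' [Finite S] {D : Subgroup Ω} (F : FusionSystem S) {U U' : Subgroup Ω}
    (hU : F.IsNormal U) (hU'U : U' ≤ U) (hU'S : S ≤ Subgroup.normalizer (U' : Set Ω))
    (hinv : ∀ P : Subgroup Ω, U ≤ P → P ≤ S → ∀ α ∈ F.autGroup P,
      (U.subgroupOf P).map α.toMonoidHom = U.subgroupOf P →
      (U'.subgroupOf P).map α.toMonoidHom = U'.subgroupOf P)
    (hgp : GP D F U') : Good D F := by
  intro P hP α hα x
  have hα' := (Fusion.mem_autGroup_iff F hP α).mp hα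
  obtain ⟨ψ, hψ, hψP, hψU⟩ := hU.2 P _ hα'
  obtain ⟨β, hβ, hβP, hβU⟩ := exists_aut_sup F α ψ hψ hψP hψU
  have hPU : P ⊔ U ≤ S := Fusion.src_le F hψ
  have h1 := hgp (P ⊔ U) (hU'U.trans le_sup_right) (le_inf hPU (hPU.trans hU'S)) β hβ
    (hinv (P ⊔ U) le_sup_right hPU β hβ hβU) (Subgroup.inclusion le_sup_left x)
  rw [hβP] at h1
  exact h1

theorem good_of_gp_normal [Finite S] {D : Subgroup Ω} (F : FusionSystem S) {U : Subgroup Ω}
    (hU : F.IsNormal U) (hgp : GP D F U) : Good D F :=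
  good_of_gp_normal' F hU le_rfl (Model.le_normalizer_of_isNormal F hU)
    (fun _ _ _ _ _ h => h) hgp

/-- Transport of `GP` along a good map `ρ` defined on `N_S(Q)` carrying `Q` onto `Q'` and
`N_S(Q)` into `N_S(Q')`. -/
theorem gp_of_conj [Finite S] {D : Subgroup Ω} (F : FusionSystem S) {Q Q' : Subgroup Ω}
    (ρ : ↥(normalizerIn S Q) →* Ω) (hρ : ρ ∈ F.Hom (normalizerIn S Q))
    (hρN : ∀ x, ρ x ∈ normalizerIn S Q')
    (hρQ : (Q.subgroupOf (normalizerIn S Q)).map ρ = Q') (hρg : GoodHom D ρ)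
    (hgp : GP D F Q') : GP D F Q := by
  have hρinj := F.injective_of_mem hρ
  intro P hQP hPN α hα hαQ x
  have hPS : P ≤ S := hPN.trans inf_le_left
  haveI : Finite P := Fusion.finite_of_le hPS
  set φ : P →* Ω := ρ.comp (Subgroup.inclusion hPN) with hφdef
  have hφ : φ ∈ F.Hom P := Fusion.restrict_mem F hρ hPN
  have hφinj := F.injective_of_mem hφ
  set e := Fusion.equivOfRange φ hφinj rfl with he
  have hα' := Fusion.congr_mem_autGroup F hφ rfl α hα
  have hrS : φ.range ≤ S := Fusion.range_le F hφ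
  haveI : Finite ↥φ.range := Fusion.finite_of_le hrS
  have hQ'r : Q' ≤ φ.range := by
    intro y hy
    rw [← hρQ] at hy
    obtain ⟨z, hz, rfl⟩ := hy
    rw [SetLike.mem_coe, Subgroup.mem_subgroupOf] at hz
    exact ⟨⟨z.1, hQP hz⟩, rfl⟩
  have hrN : φ.range ≤ normalizerIn S Q' := by
    rintro _ ⟨x, rfl⟩
    exact hρN _
  have hinvQ : (Q'.subgroupOf φ.range).map (MulAut.congr e α).toMonoidHom =
      Q'.subgroupOf φ.range := by
    apply Fusion.map_aut_eq_of_le
    rintro _ ⟨y, hy, rfl⟩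
    rw [SetLike.mem_coe, Subgroup.mem_subgroupOf] at hy
    rw [Subgroup.mem_subgroupOf]
    show ((e (α (e.symm y)) : φ.range) : Ω) ∈ Q'
    rw [he, Fusion.equivOfRange_coe]
    have hxQ : ((e.symm y : P) : Ω) ∈ Q := by
      have hy' := hy
      rw [← hρQ] at hy'
      obtain ⟨z, hz, hzy⟩ := hy'
      rw [SetLike.mem_coe, Subgroup.mem_subgroupOf] at hz
      have h1 : φ (e.symm y) = y := Fusion.map_equivOfRange_symm φ hφinj rfl y
      have h2 : ρ (Subgroup.inclusion hPN (e.symm y)) = ρ z := by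
        rw [hzy]
        exact h1
      have h3 := hρinj h2
      have h4 : ((e.symm y : P) : Ω) = z.1 := congrArg Subtype.val h3
      rw [h4]
      exact hz
    have hαx : ((α (e.symm y) : P) : Ω) ∈ Q := by
      have : α (e.symm y) ∈ (Q.subgroupOf P).map α.toMonoidHom :=
        ⟨_, by rw [SetLike.mem_coe, Subgroup.mem_subgroupOf]; exact hxQ, rfl⟩
      rw [hαQ, Subgroup.mem_subgroupOf] at this
      exact this
    rw [← hρQ]
    refine ⟨Subgroup.inclusion hPN (α (e.symm y)), ?_, rfl⟩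
    rw [SetLike.mem_coe, Subgroup.mem_subgroupOf]
    exact hαx
  -- apply `GP` for `Q'` to the transported automorphism at `e x`
  have h1 := hgp φ.range hQ'r hrN _ hα' hinvQ (e x)
  have h2 : (((MulAut.congr e α) (e x) : φ.range) : Ω) = φ (α x) := by
    show ((e (α (e.symm (e x))) : φ.range) : Ω) = _
    rw [MulEquiv.symm_apply_apply, he, Fusion.equivOfRange_coe]
  have h3 : ((e x : φ.range) : Ω) = φ x := by rw [he, Fusion.equivOfRange_coe]
  rw [h2, h3, ← map_inv, ← map_mul] at h1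
  -- `h1 : φ (x⁻¹ * α x) ∈ D`; compare with `x⁻¹ * α x` through goodness of `ρ`
  have h4 := hρg (Subgroup.inclusion hPN (x⁻¹ * α x))
  have h5 : ρ (Subgroup.inclusion hPN (x⁻¹ * α x)) = φ (x⁻¹ * α x) := rfl
  rw [h5] at h4
  have h6 : ((Subgroup.inclusion hPN (x⁻¹ * α x) : ↥(normalizerIn S Q)) : Ω) =
      (x : Ω)⁻¹ * ((α x : P) : Ω) := rfl
  rw [h6] at h4
  -- `h4 : (x⁻¹ α x)⁻¹ * φ (x⁻¹ α x) ∈ D`
  have h7 := Subgroup.mul_mem _ h1 (Subgroup.inv_mem _ h4)
  rw [mul_inv_rev, inv_inv, ← mul_assoc, mul_inv_cancel, one_mul] at h7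
  exact h7

end Cfsg.Agent.Helper6.TC
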