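import Mathlib
import Cfsg.Agent.Helper6.TcB
import Cfsg.Agent.Lead.GlThD

/-!
# Control of transfer for fusion systems, part C

The factor system step: pushing `GP` forward along a surjective morphism and pulling goodness back.
-/

set_option autoImplicit false
set_option linter.style.haveILetI false

namespace Cfsg.Agent.Helper6.TC

open Cfsg Cfsg.FusionSystem Cfsg.Agent.Lead Cfsg.Agent.Lead.GlTh

universe u

variable {Ω : Type u} [Group Ω] {S : Subgroup Ω} {Ω' : Type u} [Group Ω'] {S' : Subgroup Ω'}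

theorem mem_imageAlong_of_mem (θ : S →* Ω') {D : Subgroup Ω} {d : Ω} (hd : d ∈ D) (hdS : d ∈ S) :
    θ ⟨d, hdS⟩ ∈ imageAlong θ D := by
  refine ⟨⟨d, hdS⟩, ?_, rfl⟩
  rw [SetLike.mem_coe, Subgroup.mem_subgroupOf]
  exact hd

/-- `GP` for the preimage of `X'` gives `GP` for `X'` in the image system, for the image of `D`. -/
theorem gp_image [Finite S] (F : FusionSystem S) (F' : FusionSystem S') (θ : S →* Ω')
    (hθ : F.IsSurjectiveMorphism F' θ) {D : Subgroup Ω} {X' : Subgroup Ω'} (hX' : X' ≤ S')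
    (hT : GP D F (preimageAlong θ X')) : GP (imageAlong θ D) F' X' := by
  intro P' hWP' hP'N α' hα' hα'W y
  have hr := hθ.2.1
  have hθS' : ∀ s : S, θ s ∈ S' := hθ.1.1
  have hP'S' : P' ≤ S' := hP'N.trans inf_le_left
  set T := preimageAlong θ X' with hTdef
  set P := preimageAlong θ P' with hPdef
  obtain ⟨γ, hγ, hlift⟩ := Fusion.exists_liftsAut F F' θ hθ hP'S' α' hα'
  have hPS : P ≤ S := Fusion.preimageAlong_le θ P'
  haveI : Finite P := Fusion.finite_of_le hPS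
  have hTP : T ≤ P := Fusion.preimageAlong_mono θ hWP'
  have hPN : P ≤ normalizerIn S T := by
    rw [hTdef, Fusion.normalizerIn_preimageAlong θ hθS' hr hX']
    exact Fusion.preimageAlong_mono θ hP'N
  have hγT : (T.subgroupOf P).map γ.toMonoidHom = T.subgroupOf P := by
    apply Fusion.map_aut_eq_of_le
    rintro _ ⟨x, hx, rfl⟩
    rw [SetLike.mem_coe, Subgroup.mem_subgroupOf] at hx
    rw [Subgroup.mem_subgroupOf]
    obtain ⟨hxS, hxW⟩ := (Fusion.mem_preimageAlong θ X' x.1).mp hx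
    have h1 : Fusion.toImage θ P' x ∈ X'.subgroupOf P' := by
      rw [Subgroup.mem_subgroupOf, Fusion.toImage_coe]
      exact hxW
    have h2 : α' (Fusion.toImage θ P' x) ∈ (X'.subgroupOf P').map α'.toMonoidHom :=
      ⟨_, h1, rfl⟩
    rw [hα'W, ← hlift x, Subgroup.mem_subgroupOf, Fusion.toImage_coe] at h2
    exact (Fusion.mem_preimageAlong θ X' _).mpr ⟨hPS (γ x).2, h2⟩
  obtain ⟨x, rfl⟩ := Fusion.toImage_surjective θ hr hP'S' y
  have h1 := hT P hTP hPN γ hγ hγT x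
  rw [← hlift x]
  have h2 : ((Fusion.toImage θ P' x : P') : Ω')⁻¹ * ((Fusion.toImage θ P' (γ x) : P') : Ω') =
      θ ⟨(x : Ω)⁻¹ * ((γ x : P) : Ω), S.mul_mem (S.inv_mem (hPS x.2)) (hPS (γ x).2)⟩ := by
    rw [Fusion.toImage_coe, Fusion.toImage_coe, ← map_inv, ← map_mul]
    rfl
  rw [h2]
  exact mem_imageAlong_of_mem θ h1 _

/-- Goodness of the image system for the image of `D` pulls back to goodness modulo the kernel. -/
theorem exists_mul_of_good_image [Finite S] (F : FusionSystem S) (F' : FusionSystem S')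
    (θ : S →* Ω') (hθ : F.IsSurjectiveMorphism F' θ) {D : Subgroup Ω}
    (hgood : Good (imageAlong θ D) F') {E : Subgroup Ω} (hES : E ≤ S) (α : MulAut E)
    (hα : α ∈ F.autGroup E) (x : E) :
    ∃ d ∈ D, ∃ q ∈ Fusion.kerAlong θ, (x : Ω)⁻¹ * ((α x : E) : Ω) = d * q := by
  haveI : Finite S' := Fusion.finite_of_range θ hθ.2.1
  have hα' := (Fusion.mem_autGroup_iff F hES α).mp hα
  set E' := imageAlong θ E with hE'
  obtain ⟨φ', hφ', hES', hφS, hEE', hind⟩ := hθ.1.2 E _ hα'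
  have hE'S' : E' ≤ S' := Fusion.src_le F' hφ'
  haveI : Finite E' := Fusion.finite_of_le hE'S'
  have hle : φ'.range ≤ E' := by
    rintro _ ⟨y, rfl⟩
    obtain ⟨x, hx, hxS, hxy⟩ := (Fusion.mem_imageAlong θ E y.1).mp y.2
    have h1 : y = ⟨θ ⟨((⟨x, hx⟩ : E) : Ω), hES' hx⟩, hEE' ⟨x, hx⟩⟩ := Subtype.ext hxy.symm
    rw [h1, hind ⟨x, hx⟩]
    exact hEE' (α ⟨x, hx⟩)
  have hr : φ'.range = E' := by
    apply Subgroup.eq_of_le_of_card_ge hle
    rw [Nat.card_congr (MonoidHom.ofInjective (F'.injective_of_mem hφ')).toEquiv]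
  obtain ⟨α', hα'm, hα'x⟩ := Fusion.exists_aut_of_range_eq F' hφ' hr
  have h1 := hgood E' hE'S' α' hα'm ⟨θ ⟨x, hES' x.2⟩, hEE' x⟩
  rw [hα'x, hind] at h1
  -- `h1 : (θ x)⁻¹ * θ (α x) ∈ imageAlong θ D`
  obtain ⟨d, hd, hdS, hdx⟩ := (Fusion.mem_imageAlong θ D _).mp h1
  refine ⟨d, hd, d⁻¹ * ((x : Ω)⁻¹ * ((α x : E) : Ω)), ?_, by group⟩
  rw [Fusion.mem_kerAlong]
  have hxS : (x : Ω)⁻¹ * ((α x : E) : Ω) ∈ S := S.mul_mem (S.inv_mem (hES x.2)) (hES (α x).2)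
  refine ⟨S.mul_mem (S.inv_mem hdS) hxS, ?_⟩
  have h2 : (⟨d⁻¹ * ((x : Ω)⁻¹ * ((α x : E) : Ω)), S.mul_mem (S.inv_mem hdS) hxS⟩ : S) =
      (⟨d, hdS⟩ : S)⁻¹ * ((⟨x, hES x.2⟩ : S)⁻¹ * ⟨(α x : E), hES (α x).2⟩) := rfl
  rw [h2, map_mul, map_inv, hdx, map_mul, map_inv]
  exact inv_mul_cancel _

end Cfsg.Agent.Helper6.TC
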