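import Mathlib
import Cfsg.Agent.Helper6.TcC
import Cfsg.Agent.Helper6.CtrE

/-!
# Control of transfer for fusion systems, part D

The constrained case: in a model, the local focal hypothesis on the functor puts the part of the
focal subgroup inside a normal subgroup into `D`.
-/

set_option autoImplicit false
set_option linter.style.haveILetI false

namespace Cfsg.Agent.Helper6.TC

open Cfsg Cfsg.FusionSystem Cfsg.Agent.Lead Cfsg.Agent.Lead.GlTh Cfsg.Agent.Lead.KL
  Cfsg.Agent.Helper1 Cfsg.Agent.Helper1.ThompsonRed Cfsg.Agent.Helper6.Ctr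

open scoped commutatorElement

universe u

/-- The local focal hypothesis on a characteristic functor. -/
def FocalHyp (p : ℕ) (W : CharFunctor.{u}) : Prop :=
  ∀ (G : Type u) [Group G] [Finite G] (P : Sylow p G),
    Subgroup.centralizer ((Cfsg.pCore p G : Subgroup G) : Set G) ≤ Cfsg.pCore p G →
    Cfsg.pCore p G ⊓ commutator G = Cfsg.pCore p G ⊓
      (commutator ↥(Subgroup.normalizer (W.of (P : Subgroup G) : Set G))).map
        (Subgroup.normalizer (W.of (P : Subgroup G) : Set G)).subtype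

variable {Ω : Type u} [Group Ω] {S : Subgroup Ω}

/-- The image of the focal subgroup in a realizing group lies in the commutator subgroup. -/
theorem map_focal_mem_commutator (F : FusionSystem S) {G : Type*} [Group G] (ι : S →* G)
    (hι : F.IsRealizedBy ι) : ∀ y ∈ F.focalSubgroup, ∃ hy : y ∈ S, ι ⟨y, hy⟩ ∈ commutator G := by
  intro y hy
  unfold FusionSystem.focalSubgroup at hy
  induction hy using Subgroup.closure_induction with
  | mem y hy =>
    obtain ⟨P, φ, x, hφ, rfl⟩ := hy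
    have hP := Fusion.src_le F hφ
    have hφS := fun x => Fusion.map_mem F hφ x
    obtain ⟨g, hg⟩ := (hι.2 P hP φ hφS).mp hφ
    refine ⟨S.mul_mem (S.inv_mem (hP x.2)) (hφS x), ?_⟩
    have h1 : (⟨(x : Ω)⁻¹ * φ x, S.mul_mem (S.inv_mem (hP x.2)) (hφS x)⟩ : S) =
        (⟨x, hP x.2⟩ : S)⁻¹ * ⟨φ x, hφS x⟩ := rfl
    rw [h1, map_mul, map_inv, hg x]
    have h2 : (ι ⟨x, hP x.2⟩)⁻¹ * (g * ι ⟨x, hP x.2⟩ * g⁻¹) = ⁅(ι ⟨x, hP x.2⟩)⁻¹, g⁆ := by
      rw [commutatorElement_def]; group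
    rw [h2, commutator_def]
    exact Subgroup.commutator_mem_commutator (Subgroup.mem_top _) (Subgroup.mem_top _)
  | one =>
    refine ⟨S.one_mem, ?_⟩
    have : (⟨1, S.one_mem⟩ : S) = 1 := rfl
    rw [this, map_one]
    exact Subgroup.one_mem _
  | mul a b _ _ ha hb =>
    obtain ⟨haS, ha'⟩ := ha
    obtain ⟨hbS, hb'⟩ := hb
    refine ⟨S.mul_mem haS hbS, ?_⟩
    have : (⟨a * b, S.mul_mem haS hbS⟩ : S) = ⟨a, haS⟩ * ⟨b, hbS⟩ := rfl
    rw [this, map_mul]
    exact Subgroup.mul_mem _ ha' hb'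
  | inv a _ ha =>
    obtain ⟨haS, ha'⟩ := ha
    refine ⟨S.inv_mem haS, ?_⟩
    have : (⟨a⁻¹, S.inv_mem haS⟩ : S) = (⟨a, haS⟩ : S)⁻¹ := rfl
    rw [this, map_inv]
    exact Subgroup.inv_mem _ ha'

/-- In a model, the local focal hypothesis puts the focal part of a normal subgroup into `D`,
provided the maps of the normalizer system of `W(S)` are good. -/
theorem mem_of_model [Finite S] (p : ℕ) [Fact p.Prime] (hS : IsPGroup p S) (W : CharFunctor.{u})
    (hT : FocalHyp p W) (F : FusionSystem S) {D : Subgroup Ω}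
    (hgood : ∀ (P : Subgroup Ω) (φ : P →* Ω), φ ∈ F.normalizerHom (W.of S) P → GoodHom D φ)
    {Q : Subgroup Ω} (hQ : F.IsNormal Q) (G : Type u) [Group G] (ι : S →* G)
    (hG : F.IsModel p G ι) : ∀ q ∈ Q, q ∈ F.focalSubgroup → q ∈ D := by
  have hG' := hG
  obtain ⟨hfin, hreal, ⟨T₁, hT₁⟩, hcent⟩ := hG
  haveI := hfin
  have hinj := hreal.1
  intro q hq hqf
  have hQS := hQ.1
  have hqS : q ∈ S := hQS hq
  -- the image of `q` lies in `O_p(G)`
  have hQn := Fusion.map_normal_of_isNormal_of_isModel p F ι hG' hQ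
  have hQp : IsPGroup p ((Q.subgroupOf S).map ι) := (hS.to_subgroup _).map ι
  have h1 : ι ⟨q, hqS⟩ ∈ Cfsg.pCore p G := by
    apply Cfsg.Agent.Helper4.le_pCore _ hQn hQp
    refine ⟨⟨q, hqS⟩, ?_, rfl⟩
    rw [SetLike.mem_coe, Subgroup.mem_subgroupOf]
    exact hq
  -- and in the commutator subgroup
  obtain ⟨_, h2⟩ := map_focal_mem_commutator F ι hreal q hqf
  have h3 : ι ⟨q, hqS⟩ ∈ Cfsg.pCore p G ⊓ commutator G := Subgroup.mem_inf.mpr ⟨h1, h2⟩
  rw [hT G T₁ hcent] at h3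
  set M := Subgroup.normalizer (W.of (T₁ : Subgroup G) : Set G) with hM
  obtain ⟨m, hm, hmq⟩ := (Subgroup.mem_inf.mp h3).2
  have hle : (T₁ : Subgroup G) ≤ M := le_normalizer_of W (T₁ : Subgroup G)
  have hfoc := Subgroup.commutator_inf_eq_focalSubgroup (T₁.subtype hle)
  have hmT : m ∈ ((T₁.subtype hle : Sylow p M) : Subgroup M) := by
    rw [Sylow.coe_subtype, Subgroup.mem_subgroupOf]
    have : ((m : M) : G) = ι ⟨q, hqS⟩ := hmq
    rw [this, hT₁]
    exact ⟨_, rfl⟩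
  have hmf : m ∈ ((T₁.subtype hle : Sylow p M) : Subgroup M).focalSubgroup := by
    rw [← hfoc]
    exact Subgroup.mem_inf.mpr ⟨hm, hmT⟩
  -- the image of `W(S)`
  have hWeq : ((W.of S).subgroupOf S).map ι = W.of (T₁ : Subgroup G) := by
    rw [map_subgroupOf_of W ι hinj, hT₁]
  have hWS : W.of S ≤ S := W.of_le S
  -- every element of the focal subgroup of the Sylow subgroup of `M` comes from `D`
  have key : ∀ m' ∈ ((T₁.subtype hle : Sylow p M) : Subgroup M).focalSubgroup,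
      ∃ d ∈ D, ∃ hd : d ∈ S, ι ⟨d, hd⟩ = ((m' : M) : G) := by
    intro m' hm'
    rw [Subgroup.focalSubgroup_def] at hm'
    induction hm' using Subgroup.closure_induction with
    | mem g hg =>
      obtain ⟨hgT, x, hxT, u, rfl⟩ := hg
      rw [Sylow.coe_subtype, Subgroup.mem_subgroupOf] at hgT hxT
      rw [hT₁] at hgT hxT
      obtain ⟨s, hs⟩ := hxT
      obtain ⟨s', hs'⟩ := hgT
      -- `y = s⁻¹`; conjugation by `u` sends `ι y` into the image of `S`
      set y : S := s⁻¹ with hy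
      have hcomm : ((⁅x, u⁆ : M) : G) = (x : G) * (u : G) * (x : G)⁻¹ * (u : G)⁻¹ := by
        rw [commutatorElement_def]; rfl
      have huy : (u : G) * ι y * (u : G)⁻¹ = ι (s⁻¹ * s') := by
        rw [map_mul, hs', hcomm, hy, map_inv, hs]
        group
      -- the subgroup `P` generated by `y` and `W(S)`
      set P : Subgroup Ω := Subgroup.zpowers (y : Ω) ⊔ W.of S with hP
      have hPS : P ≤ S := sup_le (by rw [Subgroup.zpowers_le]; exact y.2) hWS
      -- conjugation by `u` carries the image of `P` into the image of `S`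
      let K : Subgroup Ω := (((ι.range).comap ((MulAut.conj (u : G)).toMonoidHom.comp ι))).map
        S.subtype
      have hmemK : ∀ (z : Ω) (hz : z ∈ S), z ∈ K ↔ (u : G) * ι ⟨z, hz⟩ * (u : G)⁻¹ ∈ ι.range := by
        intro z hz
        constructor
        · rintro ⟨t, ht, htz⟩
          have : t = ⟨z, hz⟩ := Subtype.ext htz
          rw [← this]
          exact ht
        · intro h
          exact ⟨⟨z, hz⟩, h, rfl⟩
      have hyK : (y : Ω) ∈ K := (hmemK y y.2).mpr ⟨_, huy.symm⟩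
      have hWmem : ∀ (w : Ω) (hw : w ∈ W.of S),
          (u : G) * ι ⟨w, hWS hw⟩ * (u : G)⁻¹ ∈ W.of (T₁ : Subgroup G) := by
        intro w hw
        have h5 : ι ⟨w, hWS hw⟩ ∈ W.of (T₁ : Subgroup G) := by
          rw [← hWeq]
          refine ⟨⟨w, hWS hw⟩, ?_, rfl⟩
          rw [SetLike.mem_coe, Subgroup.mem_subgroupOf]
          exact hw
        exact (Subgroup.mem_normalizer_iff.mp u.2 _).mp h5
      have hWT : W.of (T₁ : Subgroup G) ≤ ι.range := by
        rw [← hT₁]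
        exact W.of_le _
      have hWK : W.of S ≤ K := fun w hw => (hmemK w (hWS hw)).mpr (hWT (hWmem w hw))
      have hPK : P ≤ K := sup_le (by rw [Subgroup.zpowers_le]; exact hyK) hWK
      have hgP : ∀ z : P, (u : G) * ι ⟨z, hPS z.2⟩ * (u : G)⁻¹ ∈ ι.range :=
        fun z => (hmemK z.1 (hPS z.2)).mp (hPK z.2)
      obtain ⟨ψ, hψ, hψS, hιψ⟩ := Fusion.exists_hom_of_conj_mem_range F ι hreal hPS (u : G) hgP
      haveI : Finite P := Fusion.finite_of_le hPS
      -- `ψ` normalizes `W(S)`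
      have hψW : ((W.of S).subgroupOf P).map ψ = W.of S := by
        apply map_eq_of_le_of_injective ψ (F.injective_of_mem hψ) _ le_sup_right
        rintro _ ⟨z, hz, rfl⟩
        rw [SetLike.mem_coe, Subgroup.mem_subgroupOf] at hz
        have h6 := hWmem z.1 hz
        have h7 : ι ⟨ψ z, hψS z⟩ ∈ W.of (T₁ : Subgroup G) := by rw [hιψ]; exact h6
        rw [← hWeq] at h7
        obtain ⟨t, ht, htz⟩ := h7
        rw [SetLike.mem_coe, Subgroup.mem_subgroupOf] at ht
        have h8 : t = ⟨ψ z, hψS z⟩ := hinj htz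
        rw [h8] at ht
        exact ht
      have hPN : P ≤ normalizerIn S (W.of S) := by
        rw [normalizerIn_of_eq]; exact hPS
      have hψn := mem_normalizerHom_of_le F le_sup_right hPN ψ hψ hψW
      have hyP : (y : Ω) ∈ P := le_sup_left (a := Subgroup.zpowers (y : Ω))
        (Subgroup.mem_zpowers (y : Ω))
      have h9 := hgood P ψ hψn ⟨y, hyP⟩
      refine ⟨_, h9, S.mul_mem (S.inv_mem y.2) (hψS _), ?_⟩
      have h10 : (⟨((⟨(y : Ω), hyP⟩ : P) : Ω)⁻¹ * ψ ⟨y, hyP⟩,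
          S.mul_mem (S.inv_mem y.2) (hψS _)⟩ : S) = y⁻¹ * ⟨ψ ⟨y, hyP⟩, hψS _⟩ := rfl
      rw [h10, map_mul, hιψ ⟨y, hyP⟩, hcomm]
      have h11 : (⟨((⟨(y : Ω), hyP⟩ : P) : Ω), hPS hyP⟩ : S) = y := rfl
      rw [h11, hy, inv_inv, map_inv, hs]
      group
    | one =>
      refine ⟨1, D.one_mem, S.one_mem, ?_⟩
      have : (⟨1, S.one_mem⟩ : S) = 1 := rfl
      rw [this, map_one]
      rfl
    | mul a b _ _ ha hb =>
      obtain ⟨d₁, hd₁, hd₁S, h₁⟩ := ha
      obtain ⟨d₂, hd₂, hd₂S, h₂⟩ := hb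
      refine ⟨d₁ * d₂, D.mul_mem hd₁ hd₂, S.mul_mem hd₁S hd₂S, ?_⟩
      have : (⟨d₁ * d₂, S.mul_mem hd₁S hd₂S⟩ : S) = ⟨d₁, hd₁S⟩ * ⟨d₂, hd₂S⟩ := rfl
      rw [this, map_mul, h₁, h₂]
      rfl
    | inv a _ ha =>
      obtain ⟨d₁, hd₁, hd₁S, h₁⟩ := ha
      refine ⟨d₁⁻¹, D.inv_mem hd₁, S.inv_mem hd₁S, ?_⟩
      have : (⟨d₁⁻¹, S.inv_mem hd₁S⟩ : S) = (⟨d₁, hd₁S⟩ : S)⁻¹ := rfl
      rw [this, map_inv, h₁]
      rfl
  obtain ⟨d, hd, hdS, hdm⟩ := key m hmf
  have h12 : ι ⟨d, hdS⟩ = ι ⟨q, hqS⟩ := hdm.trans hmq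
  have h13 : d = q := congrArg Subtype.val (hinj h12)
  rw [← h13]
  exact hd

end Cfsg.Agent.Helper6.TC
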