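import Mathlib
import Cfsg.Agent.Helper6.TcD
import Cfsg.Agent.Helper6.TcE

/-!
# Control of transfer for fusion systems, part F

The case where the normal subgroup `Q` is not centric: the maps of the system act on `Q` through
automorphisms of `Q C_S(Q)`, and the transfer puts the focal part of `Q` into `D`.
-/

set_option autoImplicit false
set_option linter.style.haveILetI false

namespace Cfsg.Agent.Helper6.TC

open Cfsg Cfsg.FusionSystem Cfsg.Agent.Lead Cfsg.Agent.Lead.GlTh Cfsg.Agent.Lead.KL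

universe u

variable {Ω : Type u} [Group Ω] {S : Subgroup Ω}

/-- A subgroup normal in `S` is fully normalized. -/
theorem fullyNormalized_of_le_normalizer [Finite S] (F : FusionSystem S) {Q : Subgroup Ω}
    (hQS : Q ≤ S) (hSQ : S ≤ Subgroup.normalizer (Q : Set Ω)) : F.IsFullyNormalized Q := by
  have hNeq : normalizerIn S Q = S := le_antisymm inf_le_left (le_inf le_rfl hSQ)
  refine ⟨hQS, fun R' _ => ?_⟩
  rw [hNeq]
  exact Subgroup.card_le_of_le inf_le_left

/-- Every map of a saturated system acts on the elements of a normal subgroup `Q` like an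
automorphism of `Q C_S(Q)`; hence `GP` for `Q C_S(Q)` controls the quotients `a⁻¹ ψ(a)`, `a ∈ Q`. -/
theorem quot_mem_of_gp_sup [Finite S] (p : ℕ) [Fact p.Prime] (hS : IsPGroup p S)
    (F : FusionSystem S) (hF : F.IsSaturated p) {D : Subgroup Ω} {Q : Subgroup Ω}
    (hQ : F.IsNormal Q) (hgp : GP D F (Q ⊔ centralizerIn S Q)) {Q₁ : Subgroup Ω} (ψ : Q₁ →* Ω)
    (hψ : ψ ∈ F.Hom Q₁) (a : Q₁) (ha : (a : Ω) ∈ Q) : (a : Ω)⁻¹ * ψ a ∈ D := by
  have hQS := hQ.1
  have hSQ := Model.le_normalizer_of_isNormal F hQ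
  have hQ₁S := Fusion.src_le F hψ
  haveI : Finite Q := Fusion.finite_of_le hQS
  -- restrict to the cyclic subgroup generated by `a`
  set P₀ : Subgroup Ω := Subgroup.zpowers (a : Ω) with hP₀
  have hP₀Q₁ : P₀ ≤ Q₁ := by rw [hP₀, Subgroup.zpowers_le]; exact a.2
  have hP₀Q : P₀ ≤ Q := by rw [hP₀, Subgroup.zpowers_le]; exact ha
  have haP₀ : (a : Ω) ∈ P₀ := Subgroup.mem_zpowers _
  have hφ₀ := Fusion.restrict_mem F hψ hP₀Q₁
  obtain ⟨ψ', hψ', hψ'ext, hψ'Q⟩ := hQ.2 P₀ _ hφ₀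
  have heq : P₀ ⊔ Q = Q := sup_eq_right.mpr hP₀Q
  obtain ⟨φQ, hφQ, hφQx⟩ := Fusion.exists_hom_of_eq F heq hψ'
  -- `φQ` has range `Q`
  have hφQr : φQ.range = Q := by
    ext y
    constructor
    · rintro ⟨x, rfl⟩
      rw [hφQx x.1 (heq.ge x.2) x.2]
      have h1 : ψ' ⟨x.1, heq.ge x.2⟩ ∈ (Q.subgroupOf (P₀ ⊔ Q)).map ψ' := by
        refine ⟨⟨x.1, heq.ge x.2⟩, ?_, rfl⟩
        rw [SetLike.mem_coe, Subgroup.mem_subgroupOf]
        exact x.2
      rw [hψ'Q] at h1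
      exact h1
    · intro hy
      rw [← hψ'Q] at hy
      obtain ⟨x, hx, rfl⟩ := hy
      rw [SetLike.mem_coe, Subgroup.mem_subgroupOf] at hx
      exact ⟨⟨x.1, hx⟩, hφQx x.1 x.2 hx⟩
  -- `φQ a = ψ a`
  have hφQa : φQ ⟨(a : Ω), ha⟩ = ψ a := by
    rw [hφQx (a : Ω) (le_sup_left (a := P₀) haP₀) ha]
    have h1 := hψ'ext ⟨(a : Ω), haP₀⟩
    exact h1
  -- extend to `Q C_S(Q)` by receptivity
  have hfn := fullyNormalized_of_le_normalizer F hQS hSQ
  have hfc := (Fusion.fullyCentralized_fullyAutomized_of_fullyNormalized p hS F hF hfn).1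
  have hrec := Fusion.receptive_of_fullyCentralized p hS F hF hfc
  obtain ⟨χ₀, hχ₀, hχ₀ext⟩ := hrec.2 Q φQ hφQ hφQr
  have hφQS : ∀ x, φQ x ∈ S := fun x => Fusion.map_mem F hφQ x
  set R : Subgroup Ω := Q ⊔ centralizerIn S Q with hR
  have hRS : R ≤ S := sup_le hQS inf_le_left
  have hQE : Q ≤ extender S Q φQ := Fusion.le_extender Q hQS φQ hφQS
  have hCE : centralizerIn S Q ≤ extender S Q φQ := Fusion.centralizerIn_le_extender Q φQ
  have hRE : R ≤ extender S Q φQ := sup_le hQE hCE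
  have hχ := Fusion.restrict_mem F hχ₀ hRE
  set χ : R →* Ω := χ₀.comp (Subgroup.inclusion hRE) with hχdef
  haveI : Finite R := Fusion.finite_of_le hRS
  have hχQ : ∀ x : Q, χ (Subgroup.inclusion le_sup_left x) = φQ x := by
    intro x
    exact hχ₀ext x.1 x.2 (hQE x.2)
  have hχinj := F.injective_of_mem hχ
  -- `χ` maps `R` into `R`
  have hle : χ.range ≤ R := by
    rintro _ ⟨z, rfl⟩
    apply Fusion.sup_map_mem χ R
    · intro x
      rw [hχQ]
      have : φQ x ∈ φQ.range := ⟨x, rfl⟩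
      rw [hφQr] at this
      exact le_sup_left (a := Q) this
    · intro c
      apply le_sup_right (a := Q)
      refine Subgroup.mem_inf.mpr ⟨Fusion.map_mem F hχ _, ?_⟩
      rw [Subgroup.mem_centralizer_iff]
      intro q hq
      have hq' : q ∈ φQ.range := by rw [hφQr]; exact hq
      obtain ⟨q', hq'q⟩ := hq'
      rw [← hq'q, ← hχQ q', ← map_mul, ← map_mul]
      congr 1
      apply Subtype.ext
      show (q' : Ω) * (c : Ω) = (c : Ω) * (q' : Ω)
      exact (Subgroup.mem_centralizer_iff.mp (Subgroup.mem_inf.mp c.2).2 q' q'.2)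
  have hr : χ.range = R := by
    apply Subgroup.eq_of_le_of_card_ge hle
    rw [Nat.card_congr (MonoidHom.ofInjective hχinj).toEquiv]
  obtain ⟨β, hβ, hβx⟩ := Fusion.exists_aut_of_range_eq F hχ hr
  have hRN : R ≤ normalizerIn S R := Fusion.le_normalizerIn hRS
  have h1 := hgp R le_rfl hRN β hβ (map_top_subgroupOf R β)
    (Subgroup.inclusion le_sup_left ⟨(a : Ω), ha⟩)
  rw [hβx, hχQ, hφQa] at h1
  exact h1

/-- The transfer argument: if the maps of the system move the elements of the normal subgroup `Q`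
only inside their cosets of `D`, then the focal part of `Q` lies in `D`. -/
theorem mem_of_transfer [Finite S] (p : ℕ) [Fact p.Prime] (hS : IsPGroup p S)
    (F : FusionSystem S) (hF : F.IsSaturated p) {D : Subgroup Ω} (hD : CommIn D S)
    {Q : Subgroup Ω}
    (hmove : ∀ (Q₁ : Subgroup Ω) (ψ : Q₁ →* Ω), ψ ∈ F.Hom Q₁ → ∀ a : Q₁, (a : Ω) ∈ Q →
      (a : Ω)⁻¹ * ψ a ∈ D) :
    ∀ q ∈ Q, q ∈ F.focalSubgroup → q ∈ D := by
  set D' : Subgroup S := D.subgroupOf S with hD'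
  have hnorm : D'.Normal := by
    constructor
    intro d hd s
    rw [hD', Subgroup.mem_subgroupOf] at hd ⊢
    have h1 := hD (d : Ω) d.2 (s : Ω) s.2
    have h2 := D.mul_mem hd h1
    rw [← mul_assoc, mul_inv_cancel, one_mul] at h2
    exact h2
  letI : CommGroup (↥S ⧸ D') :=
    { (inferInstance : Group (↥S ⧸ D')) with
      mul_comm := by
        intro a b
        induction a using QuotientGroup.induction_on with
        | H x =>
          induction b using QuotientGroup.induction_on with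
          | H y =>
            rw [← QuotientGroup.mk_mul, ← QuotientGroup.mk_mul, QuotientGroup.eq]
            rw [hD', Subgroup.mem_subgroupOf]
            have h1 := hD (y : Ω) y.2 ((x : Ω)⁻¹) (S.inv_mem x.2)
            have h2 : (((x * y)⁻¹ * (y * x) : S) : Ω) =
                (y : Ω)⁻¹ * ((x : Ω)⁻¹ * (y : Ω) * ((x : Ω)⁻¹)⁻¹) := by
              simp only [Subgroup.coe_mul, Subgroup.coe_inv]
              group
            rw [h2]
            exact h1 }
  set θ : S →* ↥S ⧸ D' := QuotientGroup.mk' D' with hθ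
  have hθ1 : ∀ s : S, θ s = 1 ↔ (s : Ω) ∈ D := by
    intro s
    rw [hθ, QuotientGroup.mk'_apply, QuotientGroup.eq_one_iff, hD', Subgroup.mem_subgroupOf]
  obtain ⟨n, V, hpn, hVinv, hVpow⟩ := exists_transfer' p hS F hF θ
  -- `V` kills the focal subgroup
  have hVfoc : ∀ y ∈ F.focalSubgroup, ∃ hy : y ∈ S, V ⟨y, hy⟩ = 1 := by
    intro y hy
    unfold FusionSystem.focalSubgroup at hy
    induction hy using Subgroup.closure_induction with
    | mem y hy =>
      obtain ⟨P, φ, x, hφ, rfl⟩ := hy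
      have hP := Fusion.src_le F hφ
      have hφS := fun x => Fusion.map_mem F hφ x
      refine ⟨S.mul_mem (S.inv_mem (hP x.2)) (hφS x), ?_⟩
      have h1 : (⟨(x : Ω)⁻¹ * φ x, S.mul_mem (S.inv_mem (hP x.2)) (hφS x)⟩ : S) =
          (⟨x, hP x.2⟩ : S)⁻¹ * ⟨φ x, hφS x⟩ := rfl
      rw [h1, map_mul, map_inv, hVinv P φ hφ x]
      exact inv_mul_cancel _
    | one =>
      refine ⟨S.one_mem, ?_⟩
      have : (⟨1, S.one_mem⟩ : S) = 1 := rfl
      rw [this, map_one]
    | mul a b _ _ ha hb =>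
      obtain ⟨haS, ha'⟩ := ha
      obtain ⟨hbS, hb'⟩ := hb
      refine ⟨S.mul_mem haS hbS, ?_⟩
      have : (⟨a * b, S.mul_mem haS hbS⟩ : S) = ⟨a, haS⟩ * ⟨b, hbS⟩ := rfl
      rw [this, map_mul, ha', hb', one_mul]
    | inv a _ ha =>
      obtain ⟨haS, ha'⟩ := ha
      refine ⟨S.inv_mem haS, ?_⟩
      have : (⟨a⁻¹, S.inv_mem haS⟩ : S) = (⟨a, haS⟩ : S)⁻¹ := rfl
      rw [this, map_inv, ha', inv_one]
  intro q hq hqf
  obtain ⟨hqS, hVq⟩ := hVfoc q hqf
  have hpow := hVpow ⟨q, hqS⟩ (by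
    intro k Q₁ ψ hψ h
    have hk : ((⟨q, hqS⟩ ^ k : S) : Ω) ∈ Q := by
      rw [Subgroup.coe_pow]
      exact Q.pow_mem hq k
    have h1 := hmove Q₁ ψ hψ ⟨_, h⟩ hk
    -- `θ` of both sides agree
    have h2 : (⟨ψ ⟨((⟨q, hqS⟩ ^ k : S) : Ω), h⟩, Fusion.map_mem F hψ _⟩ : S) =
        (⟨q, hqS⟩ ^ k : S) * ((⟨q, hqS⟩ ^ k : S)⁻¹ *
          ⟨ψ ⟨((⟨q, hqS⟩ ^ k : S) : Ω), h⟩, Fusion.map_mem F hψ _⟩) := by
      rw [← mul_assoc, mul_inv_cancel, one_mul]
    rw [h2, map_mul]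
    have h3 : θ ((⟨q, hqS⟩ ^ k : S)⁻¹ *
        ⟨ψ ⟨((⟨q, hqS⟩ ^ k : S) : Ω), h⟩, Fusion.map_mem F hψ _⟩) = 1 := by
      rw [hθ1]
      exact h1
    rw [h3, mul_one])
  rw [hVq] at hpow
  have hA : IsPGroup p (↥S ⧸ D') := hS.to_quotient D'
  have h4 : θ ⟨q, hqS⟩ = 1 := by
    have h5 : (hA.powEquiv' hpn) (θ ⟨q, hqS⟩) = (hA.powEquiv' hpn) 1 := by
      show θ ⟨q, hqS⟩ ^ n = 1 ^ n
      rw [← hpow, one_pow]
    exact (hA.powEquiv' hpn).injective h5
  exact (hθ1 _).mp h4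

end Cfsg.Agent.Helper6.TC
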