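import Mathlib
import Cfsg.Agent.Helper6.TcF
import Cfsg.Agent.Lead.GlThF
import Cfsg.Agent.Lead.KLj

/-!
# Control of transfer for fusion systems, part G

The case where a nontrivial subgroup is normal in the system.
-/

set_option autoImplicit false
set_option linter.style.haveILetI false
set_option maxHeartbeats 800000

namespace Cfsg.Agent.Helper6.TC

open Cfsg Cfsg.FusionSystem Cfsg.Agent.Lead Cfsg.Agent.Lead.GlTh Cfsg.Agent.Lead.KL
  Cfsg.Agent.Helper1 Cfsg.Agent.Helper1.ThompsonRed

universe u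

variable {Ω : Type u} [Group Ω] {S : Subgroup Ω}

/-- `GP` for `W(S)` makes all maps of the normalizer system of `W(S)` good. -/
theorem goodHom_normalizerHom_of_gp [Finite S] (p : ℕ) [Fact p.Prime] (hS : IsPGroup p S)
    (W : CharFunctor.{u}) (F : FusionSystem S) (hF : F.IsSaturated p) {D : Subgroup Ω}
    (hW : GP D F (W.of S)) (P : Subgroup Ω) (φ : P →* Ω)
    (hφ : φ ∈ F.normalizerHom (W.of S) P) : GoodHom D φ := by
  have hWS : W.of S ≤ S := W.of_le S
  have hSW := le_normalizer_of W S
  have hD : CommIn D S := commIn_of_gp hWS hSW hW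
  obtain ⟨N, hN⟩ := Cfsg.Agent.S5096.result F (W.of S) hWS
  have hfn : F.IsFullyNormalized (W.of S) := fullyNormalized_of_le_normalizer F hWS hSW
  have hNsat := Fusion.normalizerSystem_isSaturated p hS F hF _ hfn N hN
  have hRS : normalizerIn S (W.of S) ≤ S := inf_le_left
  haveI : Finite ↥(normalizerIn S (W.of S)) := Fusion.finite_of_le hRS
  have hRp : IsPGroup p ↥(normalizerIn S (W.of S)) := hS.to_le hRS
  have hgood : Good D N := (gp_iff_normalizer_good F hWS N hN).mp hW
  have hD' : CommIn D (normalizerIn S (W.of S)) :=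
    fun x hx g hg => hD x (hRS hx) g (hRS hg)
  apply goodHom_of_good p hRp N hNsat hD' hgood
  rw [hN P]
  exact hφ

/-- The focal part of a normal subgroup `Q` lies in `D`, given `GP` for `W(S)` and for the
subgroups normal in `S` that are larger than `Q`. -/
theorem focal_part_mem [Finite S] (p : ℕ) [Fact p.Prime] (hS : IsPGroup p S) (W : CharFunctor.{u})
    (hT : FocalHyp p W) (F : FusionSystem S) (hF : F.IsSaturated p) {Q : Subgroup Ω}
    (hQ : F.IsNormal Q) {D : Subgroup Ω} (hW : GP D F (W.of S))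
    (hM : ∀ U : Subgroup Ω, U ≤ S → S ≤ Subgroup.normalizer (U : Set Ω) →
      Nat.card Q < Nat.card U → GP D F U) :
    ∀ q ∈ Q, q ∈ F.focalSubgroup → q ∈ D := by
  have hWS : W.of S ≤ S := W.of_le S
  have hSW := le_normalizer_of W S
  have hD : CommIn D S := commIn_of_gp hWS hSW hW
  have hQS := hQ.1
  have hSQ := Model.le_normalizer_of_isNormal F hQ
  haveI : Finite Q := Fusion.finite_of_le hQS
  by_cases hcen : centralizerIn S Q ≤ Q
  · have hcenQ := isCentric_of_isNormal F hQ hcen
    obtain ⟨G, hGrp, ι, hG⟩ := Model.exists_isModel p hS F ⟨hF, Q, hQ, hcenQ⟩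
    have hgoodN := goodHom_normalizerHom_of_gp p hS W F hF hW
    exact @mem_of_model Ω _ S _ p _ hS W hT F D hgoodN Q hQ G hGrp ι hG
  · set R := Q ⊔ centralizerIn S Q with hR
    have hRS : R ≤ S := sup_le hQS inf_le_left
    have hSR := le_normalizer_sup_centralizerIn hQS hSQ
    haveI : Finite R := Fusion.finite_of_le hRS
    have hQR : Q < R := by
      refine lt_of_le_of_ne le_sup_left ?_
      intro h
      exact hcen ((le_sup_right : centralizerIn S Q ≤ Q ⊔ centralizerIn S Q).trans h.ge)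
    have hRgt : Nat.card Q < Nat.card R := card_lt_of_lt hQR
    have hgpR : GP D F R := hM R hRS hSR hRgt
    exact mem_of_transfer p hS F hF hD
      (fun Q₁ ψ hψ a ha => quot_mem_of_gp_sup p hS F hF hQ hgpR ψ hψ a ha)

theorem step3 [Finite S] (p : ℕ) [Fact p.Prime] (hS : IsPGroup p S) (W : CharFunctor.{u})
    (hne : ∀ (R : Type u) [Group R] [Finite R], IsPGroup p R → Nontrivial R → W.W R ≠ ⊥)
    (hT : FocalHyp p W)
    (IH : ∀ (Ω' : Type u) [Group Ω'] (S' : Subgroup Ω') [Finite S'],
      Nat.card S' < Nat.card S → IsPGroup p S' →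
      ∀ F' : FusionSystem S', F'.IsSaturated p → ∀ D' : Subgroup Ω',
        GP D' F' (W.of S') → Good D' F')
    (F : FusionSystem S) (hF : F.IsSaturated p) {Q : Subgroup Ω} (hQ : F.IsNormal Q)
    (hQne : Q ≠ ⊥) (D : Subgroup Ω) (hW : GP D F (W.of S))
    (hM : ∀ U : Subgroup Ω, U ≤ S → S ≤ Subgroup.normalizer (U : Set Ω) →
      Nat.card Q < Nat.card U → GP D F U) : Good D F := by
  -- reduce to `D` inside the focal subgroup
  suffices h : Good (D ⊓ F.focalSubgroup) F from good_mono inf_le_left h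
  set D₀ := D ⊓ F.focalSubgroup with hD₀def
  have hW₀ : GP D₀ F (W.of S) := gp_inf_focal hW
  have hM₀ : ∀ U : Subgroup Ω, U ≤ S → S ≤ Subgroup.normalizer (U : Set Ω) →
      Nat.card Q < Nat.card U → GP D₀ F U := fun U h1 h2 h3 => gp_inf_focal (hM U h1 h2 h3)
  have hWS : W.of S ≤ S := W.of_le S
  have hSW := le_normalizer_of W S
  have hD₀ : CommIn D₀ S := commIn_of_gp hWS hSW hW₀
  have hQS := hQ.1
  have hSQ := Model.le_normalizer_of_isNormal F hQ
  haveI : Finite Q := Fusion.finite_of_le hQS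
  by_cases hQeq : Q = S
  · apply good_of_gp_normal' F hQ (U' := W.of S) (by rw [hQeq]; exact W.of_le S) hSW ?_ hW₀
    intro P hQP hPS α _ _
    have hPeq : P = S := le_antisymm hPS (hQeq ▸ hQP)
    subst hPeq
    exact of_subgroupOf_map_aut W P α
  · obtain ⟨Ω', _, S', _, F', θ, hS'p, hθ, hker, hsat', hcard⟩ := exists_factor p hS F hF hQ
    have hQcard : 1 < Nat.card Q := Q.one_lt_card_iff_ne_bot.mpr hQne
    have hQlt : Nat.card Q < Nat.card S := card_lt_of_lt (lt_of_le_of_ne hQS hQeq)
    have hS'pos : 0 < Nat.card S' := Nat.card_pos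
    have hlt : Nat.card S' < Nat.card S := by
      rw [← hcard]
      nlinarith
    have hS'nt : 1 < Nat.card S' := by
      by_contra h
      rw [not_lt] at h
      have : Nat.card S' = 1 := le_antisymm h hS'pos
      rw [this, one_mul] at hcard
      omega
    set T := preimageAlong θ (W.of S') with hTdef
    have hWS' : W.of S' ≤ S' := W.of_le S'
    have hTcard : Nat.card T = Nat.card Q * Nat.card (W.of S') := by
      rw [hTdef, Fusion.card_preimageAlong θ hθ.2.1 hWS', hker]
    have hWne : W.of S' ≠ ⊥ := of_ne_bot' W p hne S' hS'p hS'nt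
    haveI : Finite ↥(W.of S') := Fusion.finite_of_le hWS'
    have hWcard : 1 < Nat.card (W.of S') := (W.of S').one_lt_card_iff_ne_bot.mpr hWne
    have hTgt : Nat.card Q < Nat.card T := by
      rw [hTcard]
      nlinarith
    have hTS : T ≤ S := Fusion.preimageAlong_le θ _
    have hTn : S ≤ Subgroup.normalizer (T : Set Ω) := by
      have h1 := Fusion.normalizerIn_preimageAlong θ hθ.1.1 hθ.2.1 hWS'
      have h2 : normalizerIn S' (W.of S') = S' :=
        le_antisymm inf_le_left (le_inf le_rfl (le_normalizer_of W S'))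
      rw [h2, Fusion.preimageAlong_top θ hθ.1.1] at h1
      intro s hs
      have : s ∈ normalizerIn S T := by rw [hTdef, h1]; exact hs
      exact (Subgroup.mem_inf.mp this).2
    have hGPT : GP D₀ F T := hM₀ T hTS hTn hTgt
    have hGP' : GP (imageAlong θ D₀) F' (W.of S') := gp_image F F' θ hθ hWS' hGPT
    have hgood' : Good (imageAlong θ D₀) F' := IH Ω' S' hlt hS'p F' hsat' _ hGP'
    -- the focal part of `Q` lies in `D₀`
    have h2a : ∀ q ∈ Q, q ∈ F.focalSubgroup → q ∈ D₀ :=
      focal_part_mem p hS W hT F hF hQ hW₀ hM₀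
    intro P hP α hα x
    obtain ⟨d, hd, q, hq, hdq⟩ := exists_mul_of_good_image F F' θ hθ hgood' hP α hα x
    rw [hker] at hq
    have hfoc := mem_focal_of_aut F hP hα x
    have hqf : q ∈ F.focalSubgroup := by
      have h1 : q = d⁻¹ * ((x : Ω)⁻¹ * ((α x : P) : Ω)) := by rw [hdq]; group
      rw [h1]
      exact Subgroup.mul_mem _ (Subgroup.inv_mem _ (Subgroup.mem_inf.mp hd).2) hfoc
    rw [hdq]
    exact D₀.mul_mem hd (h2a q hq hqf)

end Cfsg.Agent.Helper6.TC
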