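import Mathlib
import Cfsg.Agent.Helper6.TcG

/-!
# Control of transfer for fusion systems, part H

The induction: a characteristic functor satisfying the local focal hypothesis controls transfer.
-/

set_option autoImplicit false
set_option linter.style.haveILetI false
set_option maxHeartbeats 1600000

namespace Cfsg.Agent.Helper6.TC

open Cfsg Cfsg.FusionSystem Cfsg.Agent.Lead Cfsg.Agent.Lead.GlTh Cfsg.Agent.Lead.KL
  Cfsg.Agent.Helper1 Cfsg.Agent.Helper1.ThompsonRed

universe u

theorem main_aux (p : ℕ) [Fact p.Prime] (W : CharFunctor.{u})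
    (hne : ∀ (R : Type u) [Group R] [Finite R], IsPGroup p R → Nontrivial R → W.W R ≠ ⊥)
    (hT : FocalHyp p W) :
    ∀ (n : ℕ) (Ω : Type u) [Group Ω] (S : Subgroup Ω) [Finite S], Nat.card S = n → IsPGroup p S →
      ∀ F : FusionSystem S, F.IsSaturated p → ∀ D : Subgroup Ω, GP D F (W.of S) → Good D F := by
  intro n
  induction n using Nat.strong_induction_on with
  | _ n ih =>
  intro Ω _ S _ hn hS F hF D hW
  by_contra hni
  have IH : ∀ (Ω' : Type u) [Group Ω'] (S' : Subgroup Ω') [Finite S'],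
      Nat.card S' < Nat.card S → IsPGroup p S' →
      ∀ F' : FusionSystem S', F'.IsSaturated p → ∀ D' : Subgroup Ω',
        GP D' F' (W.of S') → Good D' F' :=
    fun Ω' _ S' _ hlt hS' F' hF' D' hW' =>
      ih (Nat.card S') (hn ▸ hlt) Ω' S' rfl hS' F' hF' D' hW'
  have hWS : W.of S ≤ S := W.of_le S
  have hSW := le_normalizer_of W S
  have hD : CommIn D S := commIn_of_gp hWS hSW hW
  let Bad : Subgroup Ω → Prop := fun Q => Q ≠ ⊥ ∧ Q ≤ S ∧ ¬ GP D F Q
  have hbad : ∃ Q, Bad Q := by
    unfold Good at hni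
    push Not at hni
    obtain ⟨P, hPS, α, hα, x, hx⟩ := hni
    refine ⟨P, ?_, hPS, fun h => hx
      (h P le_rfl (Fusion.le_normalizerIn hPS) α hα (map_top_subgroupOf P α) x)⟩
    intro hbot
    apply hx
    have h1 : ∀ y : P, (y : Ω) = 1 := by
      intro y
      have h2 : (y : Ω) ∈ (⊥ : Subgroup Ω) := hbot ▸ y.2
      exact Subgroup.mem_bot.mp h2
    rw [h1 x, h1 (α x), inv_one, one_mul]
    exact D.one_mem
  let f : Subgroup Ω → ℕ := fun Q => Nat.card (normalizerIn S Q) * (Nat.card S + 1) + Nat.card Q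
  have hfB : ∀ Q ∈ {Q | Bad Q}, f Q ≤ Nat.card S * (Nat.card S + 1) + Nat.card S := by
    intro Q hQ
    have h1 : Nat.card (normalizerIn S Q) ≤ Nat.card S := Subgroup.card_le_of_le inf_le_left
    have h2 : Nat.card Q ≤ Nat.card S := Subgroup.card_le_of_le hQ.2.1
    exact Nat.add_le_add (Nat.mul_le_mul_right _ h1) h2
  obtain ⟨Q₀, hQ₀bad, hmax₀⟩ := exists_max_of_bddAbove {Q | Bad Q} hbad f _ hfB
  -- maps defined on subgroups at least as large as `N_S(Q)`, `Q` a bad maximizer, are good
  have claimA : ∀ Q : Subgroup Ω, Bad Q → (∀ Q' : Subgroup Ω, Bad Q' → f Q' ≤ f Q) →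
      ∀ (B : Subgroup Ω) (φ : B →* Ω), φ ∈ F.Hom B →
        Nat.card (normalizerIn S Q) ≤ Nat.card B → GoodHom D φ := by
    intro Q hQbad hmax B φ hφ hm
    obtain ⟨hQne, hQS, -⟩ := hQbad
    haveI : Finite Q := Fusion.finite_of_le hQS
    have hQcard : 1 < Nat.card Q := Q.one_lt_card_iff_ne_bot.mpr hQne
    have hQN : Q ≤ normalizerIn S Q := Fusion.le_normalizerIn hQS
    haveI : Finite ↥(normalizerIn S Q) := Fusion.finite_of_le inf_le_left
    have hQNcard : Nat.card Q ≤ Nat.card (normalizerIn S Q) := Subgroup.card_le_of_le hQN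
    have hQle : Nat.card Q ≤ Nat.card S := Subgroup.card_le_of_le hQS
    have key := Fusion.alperin_ge p hS F hF (goodSub D F hD) (Nat.card (normalizerIn S Q)) ?_
      B φ hφ hm
    · exact key.2
    intro P hP hmP α hα
    have hPS : P ≤ S := by
      rcases hP with rfl | hess
      · exact le_rfl
      · exact hess.1.1
    haveI : Finite P := Fusion.finite_of_le hPS
    rw [Fusion.mem_autGroup_iff (goodSub D F hD) hPS]
    refine ⟨(Fusion.mem_autGroup_iff F hPS α).mp hα, fun x => ?_⟩
    by_cases hPeq : P = S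
    · subst hPeq
      exact hW P hWS (le_inf le_rfl hSW) α hα (of_subgroupOf_map_aut W P α) x
    · have hlt : Nat.card P < Nat.card ↥(normalizerIn S P) :=
        Fusion.card_lt_card_normalizerIn hS hPS hPeq
      have hgp : GP D F P := by
        by_contra hngp
        have hPne : P ≠ ⊥ := by
          intro hbot
          rw [hbot, Subgroup.card_bot] at hmP
          omega
        have h5 : f P ≤ f Q := hmax P ⟨hPne, hPS, hngp⟩
        simp only [f] at h5
        have h6 : Nat.card ↥(normalizerIn S Q) + 1 ≤ Nat.card ↥(normalizerIn S P) := by omega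
        have h7 := Nat.mul_le_mul_right (Nat.card S + 1) h6
        rw [Nat.add_mul, one_mul] at h7
        omega
      exact hgp P le_rfl (Fusion.le_normalizerIn hPS) α hα (map_top_subgroupOf P α) x
  -- replace the maximizer by a fully normalized one
  have hex : ∃ Q, Bad Q ∧ (∀ Q' : Subgroup Ω, Bad Q' → f Q' ≤ f Q) ∧ F.IsFullyNormalized Q := by
    obtain ⟨hQ₀ne, hQ₀S, hQ₀np⟩ := hQ₀bad
    obtain ⟨Q', hconj, hfn⟩ := Fusion.exists_isConj_fullyNormalized F hQ₀S
    have h12 := Fusion.fullyCentralized_fullyAutomized_of_fullyNormalized p hS F hF hfn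
    have hrec := Fusion.receptive_of_fullyCentralized p hS F hF h12.1
    obtain ⟨ρ, hρ, hρN, hρQ⟩ := Fusion.exists_hom_normalizerIn p hS F h12.2 hrec hconj
    have hρg : GoodHom D ρ :=
      claimA Q₀ ⟨hQ₀ne, hQ₀S, hQ₀np⟩ (fun Q' h => hmax₀ Q' h) _ ρ hρ le_rfl
    have hnp' : ¬ GP D F Q' := fun h => hQ₀np (gp_of_conj F ρ hρ hρN hρQ hρg h)
    have hcard : Nat.card Q₀ = Nat.card Q' := Fusion.card_eq_of_isConj F hconj
    haveI : Finite Q₀ := Fusion.finite_of_le hQ₀S
    haveI : Finite Q' := Fusion.finite_of_le hfn.1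
    have hQ'ne : Q' ≠ ⊥ := by
      intro hbot
      have h1 : 1 < Nat.card Q₀ := Q₀.one_lt_card_iff_ne_bot.mpr hQ₀ne
      rw [hcard, hbot, Subgroup.card_bot] at h1
      exact lt_irrefl _ h1
    have hbad' : Bad Q' := ⟨hQ'ne, hfn.1, hnp'⟩
    have hNle : Nat.card (normalizerIn S Q₀) ≤ Nat.card (normalizerIn S Q') :=
      hfn.2 Q₀ (Fusion.isConj_symm F hconj)
    have hge : f Q₀ ≤ f Q' := by
      simp only [f]
      rw [hcard]
      exact Nat.add_le_add_right (Nat.mul_le_mul_right _ hNle) _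
    exact ⟨Q', hbad', fun Q'' h => (hmax₀ Q'' h).trans hge, hfn⟩
  obtain ⟨Q, hQbad, hmax, hQfn⟩ := hex
  have hA := claimA Q hQbad hmax
  obtain ⟨hQne, hQS, hQnp⟩ := hQbad
  haveI : Finite Q := Fusion.finite_of_le hQS
  obtain ⟨N, hN⟩ := Cfsg.Agent.S5096.result F Q hQS
  have hNsat := Fusion.normalizerSystem_isSaturated p hS F hF Q hQfn N hN
  have hNni : ¬ Good D N := fun h => hQnp ((gp_iff_normalizer_good F hQS N hN).mpr h)
  have hRS : normalizerIn S Q ≤ S := inf_le_left
  haveI : Finite ↥(normalizerIn S Q) := Fusion.finite_of_le hRS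
  have hRp : IsPGroup p ↥(normalizerIn S Q) := hS.to_le hRS
  have hQR : Q ≤ normalizerIn S Q := Fusion.le_normalizerIn hQS
  have hQcard : 1 < Nat.card Q := Q.one_lt_card_iff_ne_bot.mpr hQne
  have hNsub := normalizerSystem_hom_subset F N hN
  have hReq : normalizerIn S Q = S := by
    by_contra hRne
    have hRlt : Nat.card ↥(normalizerIn S Q) < Nat.card S :=
      card_lt_of_lt (lt_of_le_of_ne hRS hRne)
    have h1 : ¬ GP D N (W.of (normalizerIn S Q)) :=
      fun h => hNni (IH Ω (normalizerIn S Q) hRlt hRp N hNsat D h)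
    unfold GP at h1
    push Not at h1
    obtain ⟨P, hWP, hPN, α, hα, hαW, x, hx⟩ := h1
    have hPR : P ≤ normalizerIn S Q := hPN.trans inf_le_left
    have hα' := (Fusion.mem_autGroup_iff N hPR α).mp hα
    rw [hN P] at hα'
    obtain ⟨-, -, -, ψ, hψ, hψP, hψQ⟩ := hα'
    obtain ⟨β, hβ, hβP, hβQ⟩ := exists_aut_sup F α ψ hψ hψP hψQ
    have hPQR : P ⊔ Q ≤ normalizerIn S Q := sup_le hPR hQR
    haveI : Finite ↥(P ⊔ Q) := Fusion.finite_of_le (hPQR.trans hRS)
    have hRnW := le_normalizer_of W (normalizerIn S Q)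
    have hW₁S : W.of (normalizerIn S Q) ≤ S := (W.of_le _).trans hRS
    have hnpW₁ : ¬ GP D F (W.of (normalizerIn S Q)) := by
      intro h
      have h2 := h (P ⊔ Q) (hWP.trans le_sup_left)
        (le_inf (hPQR.trans hRS) (hPQR.trans hRnW)) β hβ (by
          apply Fusion.map_aut_eq_of_le
          rintro _ ⟨y, hy, rfl⟩
          rw [SetLike.mem_coe, Subgroup.mem_subgroupOf] at hy
          rw [Subgroup.mem_subgroupOf]
          have hyP : (y : Ω) ∈ P := hWP hy
          have h2 : y = Subgroup.inclusion le_sup_left ⟨y.1, hyP⟩ := rfl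
          have h3 : α ⟨y.1, hyP⟩ ∈
              ((W.of (normalizerIn S Q)).subgroupOf P).map α.toMonoidHom :=
            ⟨_, by rw [SetLike.mem_coe, Subgroup.mem_subgroupOf]; exact hy, rfl⟩
          rw [hαW, Subgroup.mem_subgroupOf] at h3
          show ((β y : ↥(P ⊔ Q)) : Ω) ∈ _
          rw [h2, hβP]
          exact h3) (Subgroup.inclusion le_sup_left x)
      rw [hβP] at h2
      exact hx h2
    have hRnt : 1 < Nat.card ↥(normalizerIn S Q) :=
      lt_of_lt_of_le hQcard (Subgroup.card_le_of_le hQR)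
    have hWne := of_ne_bot' W p hne (normalizerIn S Q) hRp hRnt
    have hbad' : Bad (W.of (normalizerIn S Q)) := ⟨hWne, hW₁S, hnpW₁⟩
    have h5 : f (W.of (normalizerIn S Q)) ≤ f Q := hmax _ hbad'
    have h2 : Nat.card ↥(normalizerIn S Q) < Nat.card ↥(normalizerIn S (normalizerIn S Q)) :=
      Fusion.card_lt_card_normalizerIn hS hRS hRne
    have h3 : normalizerIn S (normalizerIn S Q) ≤ normalizerIn S (W.of (normalizerIn S Q)) :=
      inf_le_inf_left S (W.normalizer_le _)
    haveI : Finite ↥(normalizerIn S (W.of (normalizerIn S Q))) :=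
      Fusion.finite_of_le (inf_le_left : normalizerIn S (W.of (normalizerIn S Q)) ≤ S)
    have h4 : Nat.card ↥(normalizerIn S (normalizerIn S Q)) ≤
        Nat.card ↥(normalizerIn S (W.of (normalizerIn S Q))) := Subgroup.card_le_of_le h3
    have hQle : Nat.card Q ≤ Nat.card S := Subgroup.card_le_of_le hQS
    have h6 : Nat.card ↥(normalizerIn S Q) + 1 ≤
        Nat.card ↥(normalizerIn S (W.of (normalizerIn S Q))) := by omega
    have h7 := Nat.mul_le_mul_right (Nat.card S + 1) h6
    simp only [f] at h5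
    rw [Nat.add_mul, one_mul] at h7
    omega
  have hSR : S ≤ normalizerIn S Q := hReq.ge
  have hWeq : W.of (normalizerIn S Q) = W.of S := by rw [hReq]
  apply hNni
  apply step3 p hRp W hne hT ?_ N hNsat (Fusion.normalizerSystem_isNormal F hQS N hN) hQne D ?_ ?_
  · intro Ω' _ S' _ hlt
    exact IH Ω' S' (lt_of_lt_of_le hlt (Subgroup.card_le_of_le hRS))
  · intro P hWP hPN α hα hαW x
    have hαF : α ∈ F.autGroup P := autGroup_mono N F hNsub P hα
    rw [hWeq] at hWP hPN hαW
    exact hW P hWP (le_inf ((hPN.trans inf_le_left).trans hRS) (hPN.trans inf_le_right)) α hαF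
      hαW x
  · intro U hUR hRnU hQU
    have hUS : U ≤ S := hUR.trans hRS
    have hSnU : S ≤ Subgroup.normalizer (U : Set Ω) := hSR.trans hRnU
    have hNU : normalizerIn S U = S := le_antisymm inf_le_left (le_inf le_rfl hSnU)
    have hUnp : GP D F U := by
      by_contra h
      have hbadU : Bad U := by
        refine ⟨?_, hUS, h⟩
        intro hbot
        rw [hbot, Subgroup.card_bot] at hQU
        omega
      have h5 : f U ≤ f Q := hmax U hbadU
      simp only [f] at h5
      rw [hNU, hReq] at h5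
      omega
    intro P hUP hPN α hα hαU x
    exact hUnp P hUP (le_inf ((hPN.trans inf_le_left).trans hRS) (hPN.trans inf_le_right)) α
      (autGroup_mono N F hNsub P hα) hαU x

end Cfsg.Agent.Helper6.TC
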