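import Mathlib
import Cfsg.Agent.Helper6.TcH
import Cfsg.Agent.Lead.KLk

/-!
# Control of transfer for fusion systems, part I

Statement-level form: a positive characteristic `p`-functor satisfying the local focal condition in
constrained groups controls transfer in every saturated fusion system.
-/

set_option autoImplicit false
set_option linter.style.haveILetI false

namespace Cfsg.Agent.Helper6.TC

open Cfsg Cfsg.FusionSystem Cfsg.Agent.Lead Cfsg.Agent.Lead.GlTh Cfsg.Agent.Lead.KL
  Cfsg.Agent.Helper1 Cfsg.Agent.Helper1.ThompsonRed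

universe u

variable {Ω : Type u} [Group Ω]

/-- Control of transfer, abstract form. -/
theorem main {S : Subgroup Ω} [Finite S] (p : ℕ) [Fact p.Prime] (hS : IsPGroup p S)
    (W : CharFunctor.{u})
    (hne : ∀ (R : Type u) [Group R] [Finite R], IsPGroup p R → Nontrivial R → W.W R ≠ ⊥)
    (hT : FocalHyp p W) (F : FusionSystem S) (hF : F.IsSaturated p) (X : Subgroup Ω)
    (hX : X = W.of S) (N : FusionSystem (normalizerIn S X)) (hN : F.IsNormalizerSystem X N) :
    N.focalSubgroup = F.focalSubgroup := by
  subst hX
  have hWS : W.of S ≤ S := W.of_le S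
  have hSW := le_normalizer_of W S
  apply le_antisymm
  · unfold FusionSystem.focalSubgroup
    apply Subgroup.closure_mono
    rintro y ⟨P, φ, x, hφ, rfl⟩
    rw [hN P] at hφ
    exact ⟨P, φ, x, hφ.1, rfl⟩
  · set D := N.focalSubgroup with hDdef
    have hgoodN : Good D N := fun P hP α hα x => mem_focal_of_aut N hP hα x
    have hW : GP D F (W.of S) := (gp_iff_normalizer_good F hWS N hN).mpr hgoodN
    have hD : CommIn D S := commIn_of_gp hWS hSW hW
    have hgood : Good D F := main_aux p W hne hT (Nat.card S) Ω S rfl hS F hF D hW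
    unfold FusionSystem.focalSubgroup
    rw [Subgroup.closure_le]
    rintro y ⟨P, φ, x, hφ, rfl⟩
    exact goodHom_of_good p hS F hF hD hgood hφ x

/-- Statement-level form: a positive characteristic `p`-functor satisfying the local focal
condition controls transfer in every saturated fusion system. -/
theorem controls_transfer {p : ℕ} [Fact p.Prime]
    (W : ∀ (Q : Type u) [Group Q], Subgroup Q)
    (hW1 : ∀ (Q : Type u) [Group Q] [Finite Q], IsPGroup p Q → Nontrivial Q → W Q ≠ ⊥)
    (hW2 : ∀ (Q R : Type u) [Group Q] [Group R] [Finite Q], IsPGroup p Q → ∀ φ : Q ≃* R,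
      (W Q).map φ.toMonoidHom = W R)
    (hT : ∀ (G : Type u) [Group G] [Finite G] (P : Sylow p G),
      Subgroup.centralizer ((Cfsg.pCore p G : Subgroup G) : Set G) ≤ Cfsg.pCore p G →
      Cfsg.pCore p G ⊓ commutator G = Cfsg.pCore p G ⊓
        (commutator ↥(Subgroup.normalizer
          (((W ↥(P : Subgroup G)).map (P : Subgroup G).subtype : Subgroup G) : Set G))).map
          (Subgroup.normalizer
            (((W ↥(P : Subgroup G)).map (P : Subgroup G).subtype : Subgroup G) : Set G)).subtype)
    {S : Subgroup Ω} [Finite S] (hS : IsPGroup p S) (F : Cfsg.FusionSystem S)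
    (hF : F.IsSaturated p)
    (N : Cfsg.FusionSystem (Cfsg.FusionSystem.normalizerIn S ((W ↥S).map S.subtype)))
    (hN : F.IsNormalizerSystem ((W ↥S).map S.subtype) N) :
    N.focalSubgroup = F.focalSubgroup := by
  have hX : (W ↥S).map S.subtype = (mkFunctor p W hW2).of S := (mkFunctor_of p W hW2 S hS).symm
  have hne : ∀ (R : Type u) [Group R] [Finite R], IsPGroup p R → Nontrivial R →
      (mkFunctor p W hW2).W R ≠ ⊥ := by
    intro R _ _ hR hnt
    rw [mkFunctor_W p W hW2 R hR]
    exact hW1 R hR hnt
  have hT' : FocalHyp p (mkFunctor p W hW2) := by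
    intro G _ _ P hcent
    rw [mkFunctor_of p W hW2 (P : Subgroup G) P.isPGroup']
    exact hT G P hcent
  exact main p hS (mkFunctor p W hW2) hne hT' F hF _ hX N hN

end Cfsg.Agent.Helper6.TC
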