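import Mathlib
import Cfsg.Agent.Lead.GlThH
import Cfsg.Agent.Helper1.TNa

/-!
# Thompson's normal `p`-complement theorem for fusion systems, part A:
the centralizer predicate `CP` and the centralizer of `Z(T)` in a realizing group.
-/

set_option autoImplicit false
set_option linter.style.haveILetI false

namespace Cfsg.Agent.Helper6.ThompFus

open Cfsg Cfsg.FusionSystem Cfsg.Agent.Lead Cfsg.Agent.Lead.GlTh Cfsg.Agent.Helper1
  Cfsg.Agent.Helper1.ThompsonRed

universe u

section defs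

variable {Ω : Type*} [Group Ω] {S : Subgroup Ω}

/-- Every automorphism in the system of a subgroup `P` with `Z ≤ P ≤ C_S(Z)` that fixes `Z`
elementwise has `p`-power order. -/
def CP (p : ℕ) (F : FusionSystem S) (Z : Subgroup Ω) : Prop :=
  ∀ P : Subgroup Ω, Z ≤ P → P ≤ centralizerIn S Z → ∀ α ∈ F.autGroup P,
    (∀ x : P, (x : Ω) ∈ Z → α x = x) → ∃ k : ℕ, α ^ (p ^ k) = 1

theorem centralizerIn_le_normalizerIn (S Z : Subgroup Ω) :
    centralizerIn S Z ≤ normalizerIn S Z :=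
  inf_le_inf_left S (Subgroup.centralizer_le_normalizer _)

theorem cp_of_np [Finite S] {p : ℕ} {F : FusionSystem S} {Z : Subgroup Ω} (h : NP p F Z) :
    CP p F Z := by
  intro P hZP hPC α hα hfix
  haveI : Finite P := Fusion.finite_of_le (hPC.trans inf_le_left)
  apply h P hZP (hPC.trans (centralizerIn_le_normalizerIn S Z)) α hα
  apply Fusion.map_aut_eq_of_le
  rintro _ ⟨x, hx, rfl⟩
  rw [SetLike.mem_coe, Subgroup.mem_subgroupOf] at hx
  rw [Subgroup.mem_subgroupOf]
  show ((α x : P) : Ω) ∈ Z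
  rw [hfix x hx]
  exact hx

/-- An inner system in the sense of equality of morphism sets is `Inner`. -/
theorem inner_of_hom_eq (p : ℕ) (hS : IsPGroup p S) (F : FusionSystem S)
    (h : ∀ P : Subgroup Ω, F.Hom P = (innerFusionSystem S).Hom P) : Inner p F := by
  rw [inner_iff_isPGroup]
  intro P _
  have h1 : F.autGroup P = (innerFusionSystem S).autGroup P := by
    unfold FusionSystem.autGroup
    rw [h P]
  rw [h1]
  exact (Fusion.isPGroup_autInducedBy p hS P).to_le (Fusion.inner_autGroup_le S P)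

theorem cp_of_centralizer_inner {p : ℕ} (F : FusionSystem S) {Z : Subgroup Ω}
    (C : FusionSystem (centralizerIn S Z)) (hC : F.IsCentralizerSystem Z C) (h : Inner p C) :
    CP p F Z := by
  intro P hZP hPC α hα hfix
  have hPS : P ≤ S := hPC.trans inf_le_left
  apply h P hPC α
  rw [Fusion.mem_autGroup_iff C hPC α, hC P]
  have hα' := (Fusion.mem_autGroup_iff F hPS α).mp hα
  refine ⟨hα', hPC, fun x => hPC (α x).2, ?_⟩
  have heq : P = P ⊔ Z := (sup_eq_left.mpr hZP).symm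
  obtain ⟨ψ, hψ, hψx⟩ := Fusion.exists_hom_of_eq F heq hα'
  refine ⟨ψ, hψ, fun x => hψx x.1 x.2 _, fun z => ?_⟩
  have h1 := hψx z.1 (hZP z.2) (Subgroup.inclusion le_sup_right z).2
  have h2 : ψ (Subgroup.inclusion le_sup_right z) = ψ ⟨z.1, (Subgroup.inclusion le_sup_right z).2⟩ :=
    rfl
  rw [h2, h1]
  show ((α ⟨z.1, hZP z.2⟩ : P) : Ω) = z
  rw [hfix ⟨z.1, hZP z.2⟩ z.2]

end defs

variable {Ω : Type u} [Group Ω] {S : Subgroup Ω}

theorem center_le_centralizer {G : Type u} [Group G] (T : Subgroup G) :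
    T ≤ Subgroup.centralizer (centerFunctor.of T : Set G) := by
  intro t ht
  rw [Subgroup.mem_centralizer_iff]
  intro z hz
  rw [SetLike.mem_coe, centerFunctor_of] at hz
  have h1 := Subgroup.mem_centralizer_iff.mp (Subgroup.mem_inf.mp hz).2 t ht
  exact h1.symm

/-- The centralizer of `Z(T)` in a group realizing a system satisfying `CP` for `Z(S)` has a normal
`p`-complement. -/
theorem hasNormalPComplement_centralizer [Finite S] (p : ℕ) [Fact p.Prime]
    (F : FusionSystem S) (G : Type u) [Group G] [Finite G] (ι : S →* G)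
    (hι : F.IsRealizedBy ι) (T : Sylow p G) (hT : (T : Subgroup G) = ι.range)
    (hcp : CP p F (centerFunctor.of S)) :
    HasNormalPComplement p
      ↥(Subgroup.centralizer (centerFunctor.of (T : Subgroup G) : Set G)) := by
  set Z := centerFunctor.of (T : Subgroup G) with hZ
  set H := Subgroup.centralizer (Z : Set G) with hH
  have hTH : (T : Subgroup G) ≤ H := center_le_centralizer (T : Subgroup G)
  have hZmap : Z = (centerFunctor.W S).map ι := by rw [hZ, hT]; exact of_range centerFunctor ι hι.1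
  rw [hasNormalPComplement_iff (T.subtype hTH), frobenius_normal_pcomplement_iff (T.subtype hTH)]
  intro Q₁ hQ₁ g hg hcop
  rw [Sylow.coe_subtype] at hQ₁
  set Q₃ : Subgroup G := Q₁.map H.subtype ⊔ Z with hQ₃
  have hQ₃T : Q₃ ≤ ι.range := by
    rw [← hT]
    apply sup_le
    · rintro _ ⟨q, hq, rfl⟩
      exact Subgroup.mem_subgroupOf.mp (hQ₁ hq)
    · exact centerFunctor.of_le (T : Subgroup G)
  set P : Subgroup Ω := (Q₃.comap ι).map S.subtype with hPdef
  have hP : P ≤ S := by rintro _ ⟨s, -, rfl⟩; exact s.2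
  have hmemP : ∀ (x : Ω) (hx : x ∈ S), x ∈ P ↔ ι ⟨x, hx⟩ ∈ Q₃ := by
    intro x hx
    constructor
    · rintro ⟨s, hs, hsx⟩
      have : s = ⟨x, hx⟩ := Subtype.ext hsx
      rw [← this]; exact hs
    · intro h; exact ⟨⟨x, hx⟩, h, rfl⟩
  have hgZ : ∀ z ∈ Z, g.1 * z * g.1⁻¹ = z := by
    intro z hz
    have h1 := Subgroup.mem_centralizer_iff.mp g.2 z hz
    rw [← h1]
    group
  have hgQ₃ : ∀ y ∈ Q₃, g.1 * y * g.1⁻¹ ∈ Q₃ := by
    have hle : Q₃ ≤ Q₃.comap (MulAut.conj g.1).toMonoidHom := by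
      apply sup_le
      · rintro _ ⟨q, hq, rfl⟩
        rw [Subgroup.mem_comap]
        apply (le_sup_left : Q₁.map H.subtype ≤ Q₃)
        have h1 := (Subgroup.mem_normalizer_iff.mp hg q).mp hq
        exact ⟨g * q * g⁻¹, h1, rfl⟩
      · intro z hz
        rw [Subgroup.mem_comap]
        apply (le_sup_right : Z ≤ Q₃)
        show g.1 * z * g.1⁻¹ ∈ Z
        rw [hgZ z hz]
        exact hz
    intro y hy
    exact hle hy
  have hgP : ∀ x : P, ∃ y : P, g.1 * ι ⟨x, hP x.2⟩ * g.1⁻¹ = ι ⟨y, hP y.2⟩ := by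
    intro x
    have h1 := hgQ₃ _ ((hmemP x.1 (hP x.2)).mp x.2)
    obtain ⟨s, hs⟩ := hQ₃T h1
    have hsP : s.1 ∈ P := (hmemP s.1 s.2).mpr (by
      have : (⟨s.1, s.2⟩ : S) = s := rfl
      rw [this, hs]; exact h1)
    exact ⟨⟨s.1, hsP⟩, hs.symm⟩
  obtain ⟨α, hα, hαx⟩ := exists_aut_of_conj F ι hι hP g.1 hgP
  haveI : Finite P := Fusion.finite_of_le hP
  have hWP : centerFunctor.of S ≤ P := by
    rintro _ ⟨w, hw, rfl⟩
    show (w : Ω) ∈ P
    rw [hmemP _ w.2]
    apply (le_sup_right : Z ≤ Q₃)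
    rw [hZmap]
    exact ⟨w, hw, rfl⟩
  have hPC : P ≤ centralizerIn S (centerFunctor.of S) :=
    le_inf hP (hP.trans (center_le_centralizer S))
  have hfix : ∀ x : P, (x : Ω) ∈ centerFunctor.of S → α x = x := by
    intro x hx
    obtain ⟨w, hw, hwx⟩ := hx
    have h1 : ι ⟨x, hP x.2⟩ ∈ Z := by
      rw [hZmap]
      refine ⟨w, hw, ?_⟩
      congr 1
      exact Subtype.ext hwx
    have h2 := hαx x
    rw [hgZ _ h1] at h2
    have h3 := hι.1 h2
    exact Subtype.ext (congrArg (fun z : S => (z : Ω)) h3)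
  obtain ⟨k, hk⟩ := hcp P hWP hPC α hα hfix
  have hord : α ^ orderOf g = 1 := by
    apply pow_eq_one_of_conj ι hι.1 hP g.1 α hαx
    intro x
    rw [← Subgroup.orderOf_coe g, pow_orderOf_eq_one]
    group
  have h1 : orderOf α ∣ p ^ k := orderOf_dvd_of_pow_eq_one hk
  have h2 : orderOf α ∣ orderOf g := orderOf_dvd_of_pow_eq_one hord
  have h3 : orderOf α = 1 :=
    Nat.eq_one_of_dvd_coprimes (Nat.Coprime.pow_right k hcop) h2 h1
  have hα1 : α = 1 := orderOf_eq_one_iff.mp h3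
  rw [Subgroup.mem_centralizer_iff]
  intro q hq
  have hq3 : (q : G) ∈ Q₃ := (le_sup_left : Q₁.map H.subtype ≤ Q₃) ⟨q, hq, rfl⟩
  obtain ⟨s, hs⟩ := hQ₃T hq3
  have hsP : s.1 ∈ P := (hmemP s.1 s.2).mpr (by
    have : (⟨s.1, s.2⟩ : S) = s := rfl
    rw [this, hs]; exact hq3)
  have h4 := hαx ⟨s.1, hsP⟩
  rw [hα1] at h4
  have h5 : (⟨((⟨s.1, hsP⟩ : P) : Ω), hP hsP⟩ : S) = s := rfl
  have h6 : ι s = g.1 * ι s * g.1⁻¹ := by
    rw [← h5]
    exact h4
  rw [hs] at h6
  apply Subtype.ext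
  show (q : G) * g.1 = g.1 * q
  calc (q : G) * g.1 = g.1 * q * g.1⁻¹ * g.1 := by rw [← h6]
    _ = g.1 * q := by group

end Cfsg.Agent.Helper6.ThompFus
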