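import Mathlib
import Cfsg.Agent.Lead.GlThH
import Cfsg.Agent.Lead.LocModN
import Cfsg.Agent.Helper6.FactSecC
import Cfsg.Agent.Helper6.ThompFusA

/-!
# Thompson's normal `p`-complement theorem for fusion systems, part B:
factor systems with the factor-system predicate, and inheritance of section-freeness.
-/

set_option autoImplicit false
set_option linter.style.haveILetI false

namespace Cfsg.Agent.Helper6.ThompFus

open Cfsg Cfsg.FusionSystem Cfsg.Agent.Lead Cfsg.Agent.Lead.GlTh Cfsg.Agent.Helper1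
  Cfsg.Agent.Helper1.ThompsonRed

universe u

variable {Ω : Type u} [Group Ω] {S : Subgroup Ω}

/-- The factor system modulo a normal subgroup, together with the factor-system predicate. -/
theorem exists_factor' [Finite S] (p : ℕ) [Fact p.Prime] (hS : IsPGroup p S)
    (F : FusionSystem S) (hF : F.IsSaturated p) {Q : Subgroup Ω} (hQ : F.IsNormal Q) :
    ∃ (Ω' : Type u) (_ : Group Ω') (S' : Subgroup Ω') (_ : Finite S') (F' : FusionSystem S')
      (θ : S →* Ω'), IsPGroup p S' ∧ F.IsSurjectiveMorphism F' θ ∧ Fusion.kerAlong θ = Q ∧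
        F'.IsSaturated p ∧ Nat.card S' * Nat.card Q = Nat.card S ∧ F.IsFactorSystem Q θ F' := by
  haveI := Model.Qs_normal F hQ
  have hQS := hQ.1
  set θ : S →* (↥S ⧸ Model.Qs S Q) := QuotientGroup.mk' (Model.Qs S Q) with hθdef
  have hker : ∀ s : S, θ s = 1 ↔ (s : Ω) ∈ Q := by
    intro s
    rw [hθdef, QuotientGroup.mk'_apply, QuotientGroup.eq_one_iff, Subgroup.mem_subgroupOf]
  have hr : θ.range = (⊤ : Subgroup (↥S ⧸ Model.Qs S Q)) :=
    MonoidHom.range_eq_top.mpr (QuotientGroup.mk'_surjective _)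
  have hsc := Fusion.stronglyClosed_of_isNormal F hQ
  have hfac := Fusion.factorSystem_isFactorSystem F θ hsc hker hr
  have hθ := Fusion.isSurjectiveMorphism_of_isFactorSystem p hS F hF Q hsc θ _ hfac
  have hsat := Fusion.isSaturated_image p hS F hF _ θ hθ
  haveI hfin : Finite ↥(⊤ : Subgroup (↥S ⧸ Model.Qs S Q)) := Fusion.finite_of_range θ hr
  refine ⟨↥S ⧸ Model.Qs S Q, inferInstance, ⊤, hfin, Fusion.factorSystem F θ hsc hker hr, θ,
    ?_, hθ, ?_, hsat, ?_, hfac⟩
  · have h1 : IsPGroup p (↥S ⧸ Model.Qs S Q) := hS.to_quotient _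
    exact h1.to_subgroup _
  · ext s
    rw [Fusion.mem_kerAlong]
    constructor
    · rintro ⟨hs, h⟩
      exact (hker _).mp h
    · intro hs
      exact ⟨hQS hs, (hker _).mpr hs⟩
  · rw [Subgroup.card_top, Nat.card_congr (Model.eQ hQS).toEquiv]
    exact (Subgroup.card_eq_card_quotient_mul_card_subgroup (Model.Qs S Q)).symm

/-- Inheritance of "`c` or section-free" by normalizer systems. -/
theorem hp_normalizer [Finite S] (p : ℕ) [Fact p.Prime] (hS : IsPGroup p S)
    (F : FusionSystem S) (hF : F.IsSaturated p) {c : Prop} {X : Type*} [Group X]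
    (hp : c ∨ F.IsSectionFree p X) (U : Subgroup Ω) (hU : F.IsFullyNormalized U)
    (N : FusionSystem (normalizerIn S U)) (hN : F.IsNormalizerSystem U N) :
    c ∨ N.IsSectionFree p X :=
  hp.imp id (fun h => LocMod.normalizer_sectionFree p hS F hF h U hU N hN)

/-- Inheritance of "`c` or section-free" by factor systems. -/
theorem hp_factor [Finite S] (p : ℕ) [Fact p.Prime] (hS : IsPGroup p S)
    (F : FusionSystem S) (hF : F.IsSaturated p) {c : Prop} {X : Type*} [Group X]
    (hp : c ∨ F.IsSectionFree p X) {Q : Subgroup Ω} (hQ : F.IsNormal Q)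
    {Ω' : Type u} [Group Ω'] {S' : Subgroup Ω'} (θ : S →* Ω') (E : FusionSystem S')
    (hE : F.IsFactorSystem Q θ E) : c ∨ E.IsSectionFree p X :=
  hp.imp id (fun h => FactSec.factor_sectionFree p hS F hF Q hQ h θ E hE)

/-- Transfer of `NP` to a normalizer system over the whole of `S`. -/
theorem np_normalizer_of_eq [Finite S] {p : ℕ} (F : FusionSystem S) {Q : Subgroup Ω}
    (N : FusionSystem (normalizerIn S Q)) (hN : F.IsNormalizerSystem Q N)
    (hReq : normalizerIn S Q = S) (f : Subgroup Ω → Subgroup Ω) (h : NP p F (f S)) :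
    NP p N (f (normalizerIn S Q)) := by
  intro P hWP hPN α hα hαW
  have hαF : α ∈ F.autGroup P := autGroup_mono N F (normalizerSystem_hom_subset F N hN) P hα
  rw [hReq] at hWP hPN hαW
  exact h P hWP (le_inf (hPN.trans inf_le_left) (hPN.trans inf_le_right)) α hαF hαW

theorem cp_normalizer_of_eq [Finite S] {p : ℕ} (F : FusionSystem S) {Q : Subgroup Ω}
    (N : FusionSystem (normalizerIn S Q)) (hN : F.IsNormalizerSystem Q N)
    (hReq : normalizerIn S Q = S) (f : Subgroup Ω → Subgroup Ω) (h : CP p F (f S)) :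
    CP p N (f (normalizerIn S Q)) := by
  intro P hWP hPC α hα hfix
  have hαF : α ∈ F.autGroup P := autGroup_mono N F (normalizerSystem_hom_subset F N hN) P hα
  rw [hReq] at hWP hPC hfix
  exact h P hWP (le_inf (hPC.trans inf_le_left) (hPC.trans inf_le_right)) α hαF hfix

end Cfsg.Agent.Helper6.ThompFus
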