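import Mathlib
import Cfsg.Agent.S2800
import Cfsg.Agent.Helper6.ThompFusB

/-!
# Thompson's normal `p`-complement theorem for fusion systems, part C:
the case where a nontrivial subgroup is normal in the system.
-/

set_option autoImplicit false
set_option linter.style.haveILetI false
set_option maxHeartbeats 800000

namespace Cfsg.Agent.Helper6.ThompFus

open Cfsg Cfsg.FusionSystem Cfsg.Agent.Lead Cfsg.Agent.Lead.GlTh Cfsg.Agent.Helper1
  Cfsg.Agent.Helper1.ThompsonRed Cfsg.Agent.Helper1.TN

universe u

variable {Ω : Type u} [Group Ω] {S : Subgroup Ω}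

/-- The hypotheses of Thompson's theorem for a system. -/
def THyp (p : ℕ) (F : FusionSystem S) : Prop :=
  (p ≠ 2 ∨ F.IsSectionFree p (Equiv.Perm (Fin 4))) ∧ CP p F (centerFunctor.of S) ∧
    NP p F (jaFunctor.of S)

/-- A system realized on a Sylow subgroup of a finite group not involving `S₄` (or `p` odd) and
satisfying the Thompson hypotheses is inner. -/
theorem inner_of_realizedT [Finite S] (p : ℕ) [Fact p.Prime] (hS : IsPGroup p S)
    (F : FusionSystem S) (G : Type u) [Group G] [Finite G] (ι : S →* G)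
    (hι : F.IsRealizedBy ι) (T : Sylow p G) (hT : (T : Subgroup G) = ι.range)
    (hp : p ≠ 2 ∨ ¬ Involves (Equiv.Perm (Fin 4)) G)
    (hZ : CP p F (centerFunctor.of S)) (hJ : NP p F (jaFunctor.of S)) : Inner p F := by
  have h1 := hasNormalPComplement_centralizer p F G ι hι T hT hZ
  have h2 := hasNormalPComplement_normalizer p jaFunctor F G ι hι T hT hJ
  rw [centerFunctor_of] at h1
  have h3 := Cfsg.Agent.S2800.result T hp h1 h2
  exact inner_of_plocalCentral p hS F G ι hι (plocalCentral_of_hasNormalPComplement h3)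

theorem step3T [Finite S] (p : ℕ) [Fact p.Prime] (hS : IsPGroup p S)
    (IH : ∀ (Ω' : Type u) [Group Ω'] (S' : Subgroup Ω') [Finite S'],
      Nat.card S' < Nat.card S → IsPGroup p S' →
      ∀ F' : FusionSystem S', F'.IsSaturated p → THyp p F' → Inner p F')
    (F : FusionSystem S) (hF : F.IsSaturated p) (hT : THyp p F)
    {Q : Subgroup Ω} (hQ : F.IsNormal Q) (hQne : Q ≠ ⊥)
    (hM : ∀ U : Subgroup Ω, U ≤ S → S ≤ Subgroup.normalizer (U : Set Ω) →
      Nat.card Q < Nat.card U → NP p F U) : Inner p F := by
  obtain ⟨hp, hZ, hJ⟩ := hT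
  by_contra hni
  have hQS := hQ.1
  haveI : Finite Q := Fusion.finite_of_le hQS
  have h0 : ∀ U : Subgroup Ω, F.IsNormal U → Nat.card U ≤ Nat.card Q := by
    intro U hU
    by_contra h
    rw [not_le] at h
    exact hni (inner_of_np_normal F hU (hM U hU.1 (Model.le_normalizer_of_isNormal F hU) h))
  by_cases hQeq : Q = S
  · apply hni
    apply inner_of_np_normal' F hQ (U' := jaFunctor.of S) (by rw [hQeq]; exact jaFunctor.of_le S)
      (le_normalizer_of jaFunctor S) ?_ hJ
    intro P hQP hPS α _ _
    have hPeq : P = S := le_antisymm hPS (hQeq ▸ hQP)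
    subst hPeq
    exact of_subgroupOf_map_aut jaFunctor P α
  · obtain ⟨Ω', _, S', _, F', θ, hS'p, hθ, hker, hsat', hcard, hfac⟩ :=
      exists_factor' p hS F hF hQ
    have hQcard : 1 < Nat.card Q := Q.one_lt_card_iff_ne_bot.mpr hQne
    have hQlt : Nat.card Q < Nat.card S := card_lt_of_lt (lt_of_le_of_ne hQS hQeq)
    have hS'pos : 0 < Nat.card S' := Nat.card_pos
    have hlt : Nat.card S' < Nat.card S := by
      rw [← hcard]
      nlinarith
    have hS'nt : 1 < Nat.card S' := by
      by_contra h
      rw [not_lt] at h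
      have : Nat.card S' = 1 := le_antisymm h hS'pos
      rw [this, one_mul] at hcard
      omega
    have hnpW : ∀ W : CharFunctor.{u},
        (∀ (R : Type u) [Group R] [Finite R], IsPGroup p R → Nontrivial R → W.W R ≠ ⊥) →
        NP p F' (W.of S') := by
      intro W hne
      set T := preimageAlong θ (W.of S') with hTdef
      have hWS' : W.of S' ≤ S' := W.of_le S'
      have hTcard : Nat.card T = Nat.card Q * Nat.card (W.of S') := by
        rw [hTdef, Fusion.card_preimageAlong θ hθ.2.1 hWS', hker]
      have hWne : W.of S' ≠ ⊥ := of_ne_bot' W p hne S' hS'p hS'nt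
      haveI : Finite ↥(W.of S') := Fusion.finite_of_le hWS'
      have hWcard : 1 < Nat.card (W.of S') := (W.of S').one_lt_card_iff_ne_bot.mpr hWne
      have hTgt : Nat.card Q < Nat.card T := by
        rw [hTcard]
        nlinarith
      have hTS : T ≤ S := Fusion.preimageAlong_le θ _
      have hTn : S ≤ Subgroup.normalizer (T : Set Ω) := by
        have h1 := Fusion.normalizerIn_preimageAlong θ hθ.1.1 hθ.2.1 hWS'
        have h2 : normalizerIn S' (W.of S') = S' :=
          le_antisymm inf_le_left (le_inf le_rfl (le_normalizer_of W S'))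
        rw [h2, Fusion.preimageAlong_top θ hθ.1.1] at h1
        intro s hs
        have : s ∈ normalizerIn S T := by rw [hTdef, h1]; exact hs
        exact (Subgroup.mem_inf.mp this).2
      have hNPT : NP p F T := hM T hTS hTn hTgt
      exact np_image p W F F' θ hθ hNPT
    have hJ' : NP p F' (jaFunctor.of S') :=
      hnpW jaFunctor (fun R _ _ hR hnt => jaFunctor_ne_bot R hR hnt)
    have hZ' : CP p F' (centerFunctor.of S') :=
      cp_of_np (hnpW centerFunctor (fun R _ _ hR hnt => centerFunctor_ne_bot R hR hnt))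
    have hp' := hp_factor p hS F hF hp hQ θ F' hfac
    have hin' : Inner p F' := IH Ω' S' hlt hS'p F' hsat' ⟨hp', hZ', hJ'⟩
    have hQD := sup_centralizerIn_isNormal p hS F hF F' θ hθ hin' hQ hker
    have hDQ : centralizerIn S Q ≤ Q := by
      have h1 := h0 _ hQD
      haveI : Finite ↥(Q ⊔ centralizerIn S Q) := Fusion.finite_of_le hQD.1
      have h2 : Q = Q ⊔ centralizerIn S Q := Subgroup.eq_of_le_of_card_ge le_sup_left h1
      exact le_sup_right.trans h2.ge
    have hcen := isCentric_of_isNormal F hQ hDQ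
    -- the normalizer system of `Q` is all of `F`
    have hSn : S ≤ Subgroup.normalizer (Q : Set Ω) := Model.le_normalizer_of_isNormal F hQ
    have hReq : normalizerIn S Q = S := le_antisymm inf_le_left (le_inf le_rfl hSn)
    have hQfn : F.IsFullyNormalized Q := by
      refine ⟨hQS, fun U' _ => ?_⟩
      rw [hReq]
      exact Subgroup.card_le_of_le inf_le_left
    obtain ⟨N, hN⟩ := Cfsg.Agent.S5096.result F Q hQS
    obtain ⟨L, _, ι, hL⟩ := LocMod.exists_normalizer_model p hS F hF Q hQfn hcen N hN
    haveI : Finite L := hL.1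
    obtain ⟨T₁, hT₁⟩ := hL.2.2.1
    have hRS : normalizerIn S Q ≤ S := inf_le_left
    haveI : Finite ↥(normalizerIn S Q) := Fusion.finite_of_le hRS
    have hRp : IsPGroup p ↥(normalizerIn S Q) := hS.to_le hRS
    have hpL : p ≠ 2 ∨ ¬ Involves (Equiv.Perm (Fin 4)) L :=
      hp.imp id (fun h => h Q hQfn hcen N hN L ι hL)
    have hZN : CP p N (centerFunctor.of (normalizerIn S Q)) :=
      cp_normalizer_of_eq F N hN hReq (fun R => centerFunctor.of R) hZ
    have hJN : NP p N (jaFunctor.of (normalizerIn S Q)) :=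
      np_normalizer_of_eq F N hN hReq (fun R => jaFunctor.of R) hJ
    have hNin : Inner p N := inner_of_realizedT p hRp N L ι hL.2.1 T₁ hT₁ hpL hZN hJN
    have hnpQ : NP p F Q := (np_iff_normalizer_inner F hQS N hN).mpr hNin
    exact hni (inner_of_np_normal F hQ hnpQ)

end Cfsg.Agent.Helper6.ThompFus
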