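import Mathlib
import Cfsg.Agent.Helper6.ThompFusC

/-!
# Thompson's normal `p`-complement theorem for fusion systems, part D: the induction.
-/

set_option autoImplicit false
set_option linter.style.haveILetI false
set_option maxHeartbeats 800000

namespace Cfsg.Agent.Helper6.ThompFus

open Cfsg Cfsg.FusionSystem Cfsg.Agent.Lead Cfsg.Agent.Lead.GlTh Cfsg.Agent.Helper1
  Cfsg.Agent.Helper1.ThompsonRed Cfsg.Agent.Helper1.TN

universe u

theorem main_auxT (p : ℕ) [Fact p.Prime] :
    ∀ (n : ℕ) (Ω : Type u) [Group Ω] (S : Subgroup Ω) [Finite S], Nat.card S = n → IsPGroup p S →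
      ∀ F : FusionSystem S, F.IsSaturated p → THyp p F → Inner p F := by
  intro n
  induction n using Nat.strong_induction_on with
  | _ n ih =>
  intro Ω _ S _ hn hS F hF hT
  obtain ⟨hp, hZ, hJ⟩ := hT
  by_contra hni
  have IH : ∀ (Ω' : Type u) [Group Ω'] (S' : Subgroup Ω') [Finite S'],
      Nat.card S' < Nat.card S → IsPGroup p S' →
      ∀ F' : FusionSystem S', F'.IsSaturated p → THyp p F' → Inner p F' :=
    fun Ω' _ S' _ hlt hS' F' hF' hW' => ih (Nat.card S') (hn ▸ hlt) Ω' S' rfl hS' F' hF' hW'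
  let Bad : Subgroup Ω → Prop := fun Q => Q ≠ ⊥ ∧ F.IsFullyNormalized Q ∧ ¬ NP p F Q
  have hbad : ∃ Q, Bad Q := by
    unfold GlTh.Inner at hni
    push Not at hni
    obtain ⟨P, hPS, α, hα, hαk⟩ := hni
    haveI : Finite P := Fusion.finite_of_le hPS
    have hnpP : ¬ NP p F P := by
      intro h
      obtain ⟨k, hk⟩ := h P le_rfl (Fusion.le_normalizerIn hPS) α hα (map_top_subgroupOf P α)
      exact hαk k hk
    obtain ⟨P', hfn, hcard, -, himp⟩ := exists_fullyNormalized_np p hS F hF hPS
    refine ⟨P', ?_, hfn, fun h => hnpP (himp h)⟩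
    intro hbot
    have h1 : Nat.card P = 1 := by rw [← hcard, hbot, Subgroup.card_bot]
    have hsub : Subsingleton P := (Nat.card_eq_one_iff_unique.mp h1).1
    apply hαk 0
    ext x
    exact congrArg Subtype.val (Subsingleton.elim _ _)
  let f : Subgroup Ω → ℕ := fun Q => Nat.card (normalizerIn S Q) * (Nat.card S + 1) + Nat.card Q
  have hfB : ∀ Q ∈ {Q | Bad Q}, f Q ≤ Nat.card S * (Nat.card S + 1) + Nat.card S := by
    intro Q hQ
    have h1 : Nat.card (normalizerIn S Q) ≤ Nat.card S := Subgroup.card_le_of_le inf_le_left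
    have h2 : Nat.card Q ≤ Nat.card S := Subgroup.card_le_of_le hQ.2.1.1
    exact Nat.add_le_add (Nat.mul_le_mul_right _ h1) h2
  obtain ⟨Q, hQbad, hmax⟩ := exists_max_of_bddAbove {Q | Bad Q} hbad f _ hfB
  obtain ⟨hQne, hQfn, hQnp⟩ := hQbad
  have hQS := hQfn.1
  haveI : Finite Q := Fusion.finite_of_le hQS
  obtain ⟨N, hN⟩ := Cfsg.Agent.S5096.result F Q hQS
  have hNsat := Fusion.normalizerSystem_isSaturated p hS F hF Q hQfn N hN
  have hNni : ¬ Inner p N := fun h => hQnp ((np_iff_normalizer_inner F hQS N hN).mpr h)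
  have hRS : normalizerIn S Q ≤ S := inf_le_left
  haveI : Finite ↥(normalizerIn S Q) := Fusion.finite_of_le hRS
  have hRp : IsPGroup p ↥(normalizerIn S Q) := hS.to_le hRS
  have hQR : Q ≤ normalizerIn S Q := Fusion.le_normalizerIn hQS
  have hQcard : 1 < Nat.card Q := Q.one_lt_card_iff_ne_bot.mpr hQne
  have hNsub := normalizerSystem_hom_subset F N hN
  have hpN := hp_normalizer p hS F hF hp Q hQfn N hN
  have hReq : normalizerIn S Q = S := by
    by_contra hRne
    have hRlt : Nat.card ↥(normalizerIn S Q) < Nat.card S :=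
      card_lt_of_lt (lt_of_le_of_ne hRS hRne)
    have h1 : ¬ THyp p N :=
      fun h => hNni (IH Ω (normalizerIn S Q) hRlt hRp N hNsat h)
    obtain ⟨W, hne, h1⟩ : ∃ W : CharFunctor.{u},
        (∀ (R : Type u) [Group R] [Finite R], IsPGroup p R → Nontrivial R → W.W R ≠ ⊥) ∧
          ¬ NP p N (W.of (normalizerIn S Q)) := by
      by_cases hc : CP p N (centerFunctor.of (normalizerIn S Q))
      · refine ⟨jaFunctor, fun R _ _ hR hnt => jaFunctor_ne_bot R hR hnt, fun hj => ?_⟩
        exact h1 ⟨hpN, hc, hj⟩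
      · exact ⟨centerFunctor, fun R _ _ hR hnt => centerFunctor_ne_bot R hR hnt,
          fun hnp => hc (cp_of_np hnp)⟩
    unfold NP at h1
    push Not at h1
    obtain ⟨P, hWP, hPN, α, hα, hαW, hαk⟩ := h1
    have hPR : P ≤ normalizerIn S Q := hPN.trans inf_le_left
    have hα' := (Fusion.mem_autGroup_iff N hPR α).mp hα
    rw [hN P] at hα'
    obtain ⟨-, -, -, ψ, hψ, hψP, hψQ⟩ := hα'
    obtain ⟨β, hβ, hβP, hβQ⟩ := exists_aut_sup F α ψ hψ hψP hψQ
    have hPQR : P ⊔ Q ≤ normalizerIn S Q := sup_le hPR hQR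
    haveI : Finite ↥(P ⊔ Q) := Fusion.finite_of_le (hPQR.trans hRS)
    have hRnW := le_normalizer_of W (normalizerIn S Q)
    have hW₁S : W.of (normalizerIn S Q) ≤ S := (W.of_le _).trans hRS
    have hnpW₁ : ¬ NP p F (W.of (normalizerIn S Q)) := by
      intro h
      obtain ⟨k, hk⟩ := h (P ⊔ Q) (hWP.trans le_sup_left)
        (le_inf (hPQR.trans hRS) (hPQR.trans hRnW)) β hβ (by
          apply Fusion.map_aut_eq_of_le
          rintro _ ⟨x, hx, rfl⟩
          rw [SetLike.mem_coe, Subgroup.mem_subgroupOf] at hx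
          rw [Subgroup.mem_subgroupOf]
          have hxP : (x : Ω) ∈ P := hWP hx
          have h2 : x = Subgroup.inclusion le_sup_left ⟨x.1, hxP⟩ := rfl
          have h3 : α ⟨x.1, hxP⟩ ∈
              ((W.of (normalizerIn S Q)).subgroupOf P).map α.toMonoidHom :=
            ⟨_, by rw [SetLike.mem_coe, Subgroup.mem_subgroupOf]; exact hx, rfl⟩
          rw [hαW, Subgroup.mem_subgroupOf] at h3
          show ((β x : ↥(P ⊔ Q)) : Ω) ∈ _
          rw [h2, hβP]
          exact h3)
      exact hαk k (pow_eq_one_of_restrict le_sup_left α β hβP hk)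
    obtain ⟨W₁', hfn', hcard', hNle, himp⟩ := exists_fullyNormalized_np p hS F hF hW₁S
    have hRnt : 1 < Nat.card ↥(normalizerIn S Q) :=
      lt_of_lt_of_le hQcard (Subgroup.card_le_of_le hQR)
    have hWne := of_ne_bot' W p hne (normalizerIn S Q) hRp hRnt
    haveI : Finite ↥(W.of (normalizerIn S Q)) := Fusion.finite_of_le hW₁S
    have hWcard := (W.of (normalizerIn S Q)).one_lt_card_iff_ne_bot.mpr hWne
    have hbad' : Bad W₁' := by
      refine ⟨?_, hfn', fun h => hnpW₁ (himp h)⟩
      intro hbot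
      rw [← hcard', hbot, Subgroup.card_bot] at hWcard
      exact lt_irrefl _ hWcard
    have h5 : f W₁' ≤ f Q := hmax W₁' hbad'
    have h2 : Nat.card ↥(normalizerIn S Q) < Nat.card ↥(normalizerIn S (normalizerIn S Q)) :=
      Fusion.card_lt_card_normalizerIn hS hRS hRne
    have h3 : normalizerIn S (normalizerIn S Q) ≤ normalizerIn S (W.of (normalizerIn S Q)) :=
      inf_le_inf_left S (W.normalizer_le _)
    haveI : Finite ↥(normalizerIn S (W.of (normalizerIn S Q))) :=
      Fusion.finite_of_le (inf_le_left : normalizerIn S (W.of (normalizerIn S Q)) ≤ S)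
    have h4 : Nat.card ↥(normalizerIn S (normalizerIn S Q)) ≤
        Nat.card ↥(normalizerIn S (W.of (normalizerIn S Q))) := Subgroup.card_le_of_le h3
    have hQle : Nat.card Q ≤ Nat.card S := Subgroup.card_le_of_le hQS
    have h6 : Nat.card ↥(normalizerIn S Q) + 1 ≤ Nat.card ↥(normalizerIn S W₁') := by omega
    have h7 := Nat.mul_le_mul_right (Nat.card S + 1) h6
    simp only [f] at h5
    rw [Nat.add_mul, one_mul] at h7
    omega
  have hSR : S ≤ normalizerIn S Q := hReq.ge
  apply hNni
  have hZN : CP p N (centerFunctor.of (normalizerIn S Q)) :=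
    cp_normalizer_of_eq F N hN hReq (fun R => centerFunctor.of R) hZ
  have hJN : NP p N (jaFunctor.of (normalizerIn S Q)) :=
    np_normalizer_of_eq F N hN hReq (fun R => jaFunctor.of R) hJ
  apply step3T p hRp ?_ N hNsat ⟨hpN, hZN, hJN⟩ (Fusion.normalizerSystem_isNormal F hQS N hN)
    hQne ?_
  · intro Ω' _ S' _ hlt
    exact IH Ω' S' (lt_of_lt_of_le hlt (Subgroup.card_le_of_le hRS))
  · intro U hUR hRnU hQU
    have hUS : U ≤ S := hUR.trans hRS
    have hSnU : S ≤ Subgroup.normalizer (U : Set Ω) := hSR.trans hRnU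
    have hNU : normalizerIn S U = S := le_antisymm inf_le_left (le_inf le_rfl hSnU)
    have hUfn : F.IsFullyNormalized U := by
      refine ⟨hUS, fun U' _ => ?_⟩
      rw [hNU]
      exact Subgroup.card_le_of_le inf_le_left
    have hUnp : NP p F U := by
      by_contra h
      have hbadU : Bad U := by
        refine ⟨?_, hUfn, h⟩
        intro hbot
        rw [hbot, Subgroup.card_bot] at hQU
        omega
      have h5 : f U ≤ f Q := hmax U hbadU
      simp only [f] at h5
      rw [hNU, hReq] at h5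
      omega
    intro P hUP hPN α hα hαU
    exact hUnp P hUP (le_inf ((hPN.trans inf_le_left).trans hRS) (hPN.trans inf_le_right)) α
      (autGroup_mono N F hNsub P hα) hαU

/-- Thompson's normal `p`-complement theorem for fusion systems (predicate form). -/
theorem thompson_inner {Ω : Type u} [Group Ω] {S : Subgroup Ω} [Finite S] (p : ℕ) [Fact p.Prime]
    (hS : IsPGroup p S) (F : FusionSystem S) (hF : F.IsSaturated p) (hT : THyp p F) :
    Inner p F :=
  main_auxT p (Nat.card S) Ω S rfl hS F hF hT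

end Cfsg.Agent.Helper6.ThompFus
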