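import Mathlib
import Cfsg.Agent.Lead.FusionRestrict
import Cfsg.Agent.Helper6.ThompFusD

/-!
# Frobenius-type criterion on characteristic subgroups for fusion systems: preliminaries
-/

set_option autoImplicit false
set_option linter.style.haveILetI false

namespace Cfsg.Agent.Helper6.ThompFus

open Cfsg Cfsg.FusionSystem Cfsg.Agent.Lead Cfsg.Agent.Lead.GlTh Cfsg.Agent.Helper1
  Cfsg.Agent.Helper1.ThompsonRed Cfsg.Agent.Helper1.TN

universe u

variable {Ω : Type u} [Group Ω] {S : Subgroup Ω} {Ω' : Type u} [Group Ω'] {S' : Subgroup Ω'}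

/-- If the factor system modulo the normal subgroup `Q` is inner and `Aut_F(Q)` is a `p`-group then
the system is inner. -/
theorem inner_of_factor_inner [Finite S] (p : ℕ) [Fact p.Prime] (hS : IsPGroup p S)
    (F : FusionSystem S) (F' : FusionSystem S') (θ : S →* Ω')
    (hθ : F.IsSurjectiveMorphism F' θ) (hin : Inner p F') {Q : Subgroup Ω} (hQ : F.IsNormal Q)
    (hker : Fusion.kerAlong θ = Q) (hQaut : IsPGroup p (F.autGroup Q)) : Inner p F := by
  intro P hP α hα
  have hα' := (Fusion.mem_autGroup_iff F hP α).mp hα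
  obtain ⟨ψ, hψ, hψP, hψU⟩ := hQ.2 P _ hα'
  obtain ⟨β, hβ, hβP, hβQ⟩ := exists_aut_sup F α ψ hψ hψP hψU
  have hES : P ⊔ Q ≤ S := Fusion.src_le F hψ
  haveI : Finite ↥(P ⊔ Q) := Fusion.finite_of_le hES
  haveI : Finite Q := Fusion.finite_of_le hQ.1
  have hinvQ : ∀ x : ↥(P ⊔ Q), (x : Ω) ∈ Q → ((β x : ↥(P ⊔ Q)) : Ω) ∈ Q := by
    intro x hx
    have h2 : β x ∈ (Q.subgroupOf (P ⊔ Q)).map β.toMonoidHom :=
      ⟨x, by rw [SetLike.mem_coe, Subgroup.mem_subgroupOf]; exact hx, rfl⟩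
    rw [hβQ, Subgroup.mem_subgroupOf] at h2
    exact h2
  obtain ⟨a, ha⟩ := Fusion.exists_pow_fix_of_isPGroup F p hES le_sup_right hQaut β hβ hinvQ
  have hb : β ^ p ^ a ∈ F.autGroup (P ⊔ Q) := Subgroup.pow_mem _ hβ _
  obtain ⟨k, hk⟩ := exists_pow_trivial_mod p F F' θ hθ hin hES (β ^ p ^ a) hb
  have hβ1 : ∀ x ∈ Q.subgroupOf (P ⊔ Q), ((β ^ p ^ a) ^ (p ^ k)) x = x := by
    intro x hx
    exact pow_apply_of_fix (β ^ p ^ a) x (ha x (Subgroup.mem_subgroupOf.mp hx)) _
  have hβ2 : ∀ x : ↥(P ⊔ Q), x⁻¹ * ((β ^ p ^ a) ^ (p ^ k)) x ∈ Q.subgroupOf (P ⊔ Q) := by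
    intro x
    rw [Subgroup.mem_subgroupOf]
    have h := Fusion.inv_mul_mem_kerAlong θ (hES x.2) (hES (((β ^ p ^ a) ^ (p ^ k)) x).2)
      (hk x).symm
    rw [hker] at h
    exact h
  have h1 := stab_pow_card (Q.subgroupOf (P ⊔ Q)) ((β ^ p ^ a) ^ (p ^ k)) hβ1 hβ2
  have hQp : IsPGroup p ↥(Q.subgroupOf (P ⊔ Q)) := (hS.to_le hES).to_subgroup _
  obtain ⟨m, hm⟩ := IsPGroup.iff_card.mp hQp
  refine ⟨a + k + m, ?_⟩
  apply pow_eq_one_of_restrict le_sup_left α β hβP
  rw [pow_add, pow_add, pow_mul, pow_mul, ← hm]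
  exact h1

/-- The automorphism of the image induced by an automorphism preserving the kernel. -/
theorem exists_induced_equiv {R : Type*} [Group R] {T : Type*} [Group T] (f : R →* T)
    (hf : Function.Surjective f) (φ : R ≃* R) (hφ : f.ker.map φ.toMonoidHom = f.ker) :
    ∃ φ' : T ≃* T, ∀ x : R, φ' (f x) = f (φ x) := by
  let e := QuotientGroup.quotientKerEquivOfSurjective f hf
  let c := QuotientGroup.congr f.ker f.ker φ hφ
  refine ⟨e.symm.trans (c.trans e), fun x => ?_⟩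
  have h1 : e.symm (f x) = (x : R ⧸ f.ker) := by
    rw [MulEquiv.symm_apply_eq]
    rfl
  show e (c (e.symm (f x))) = f (φ x)
  rw [h1]
  rfl

/-- Preimages of characteristic subgroups modulo a characteristic kernel are characteristic. -/
theorem characteristic_preimage (θ : S →* Ω') (hr : θ.range = S') {W : Subgroup Ω}
    (hker : Fusion.kerAlong θ = W) (hW : (W.subgroupOf S).Characteristic) {Q' : Subgroup Ω'}
    (hQ' : (Q'.subgroupOf S').Characteristic) :
    ((preimageAlong θ Q').subgroupOf S).Characteristic := by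
  have hmem : ∀ s : S, θ s ∈ S' := fun s => hr ▸ ⟨s, rfl⟩
  set θ' : S →* S' := θ.codRestrict S' hmem with hθ'
  have hsurj : Function.Surjective θ' := by
    intro y
    have hy : (y : Ω') ∈ θ.range := hr ▸ y.2
    obtain ⟨s, hs⟩ := hy
    exact ⟨s, Subtype.ext hs⟩
  have hkerθ' : θ'.ker = W.subgroupOf S := by
    ext s
    rw [MonoidHom.mem_ker, Subgroup.mem_subgroupOf, ← hker, Fusion.mem_kerAlong]
    constructor
    · intro h
      exact ⟨s.2, congrArg Subtype.val h⟩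
    · rintro ⟨_, h⟩
      exact Subtype.ext h
  rw [Subgroup.characteristic_iff_le_comap]
  intro φ x hx
  rw [Subgroup.mem_comap]
  have hφk : θ'.ker.map φ.toMonoidHom = θ'.ker := by
    rw [hkerθ']
    exact Subgroup.characteristic_iff_map_eq.mp hW φ
  obtain ⟨φ', hφ'⟩ := exists_induced_equiv θ' hsurj φ hφk
  have hiff : ∀ y : S, y ∈ (preimageAlong θ Q').subgroupOf S ↔ θ' y ∈ Q'.subgroupOf S' := by
    intro y
    rw [Subgroup.mem_subgroupOf, Subgroup.mem_subgroupOf, Fusion.mem_preimageAlong]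
    constructor
    · rintro ⟨_, h⟩
      exact h
    · intro h
      exact ⟨y.2, h⟩
  rw [hiff] at hx
  show φ x ∈ _
  rw [hiff, ← hφ']
  have h1 := Subgroup.characteristic_iff_le_comap.mp hQ' φ' hx
  exact h1

/-- Automizers in the image system are `p`-groups if those of the full preimages are. -/
theorem isPGroup_autGroup_image [Finite S] (p : ℕ) (F : FusionSystem S) (F' : FusionSystem S')
    (θ : S →* Ω') (hθ : F.IsSurjectiveMorphism F' θ) {Q' : Subgroup Ω'} (hQ'S' : Q' ≤ S')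
    (h : IsPGroup p (F.autGroup (preimageAlong θ Q'))) : IsPGroup p (F'.autGroup Q') := by
  rintro ⟨α', hα'⟩
  obtain ⟨γ, hγ, hlift⟩ := Fusion.exists_liftsAut F F' θ hθ hQ'S' α' hα'
  obtain ⟨k, hk⟩ := h ⟨γ, hγ⟩
  have hk' : γ ^ p ^ k = 1 := congrArg Subtype.val hk
  refine ⟨k, ?_⟩
  apply Subtype.ext
  rw [Subgroup.coe_pow]
  show α' ^ p ^ k = 1
  have h3 := Fusion.liftsAut_pow θ Q' hlift (p ^ k)
  rw [hk'] at h3
  ext y
  obtain ⟨x, rfl⟩ := Fusion.toImage_surjective θ hθ.2.1 hQ'S' y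
  have h4 := h3 x
  rw [← h4]
  rfl

/-- The value of a characteristic functor is a characteristic subgroup. -/
theorem of_characteristic (W : CharFunctor.{u}) (S : Subgroup Ω) :
    ((W.of S).subgroupOf S).Characteristic := by
  rw [Subgroup.characteristic_iff_map_eq]
  intro φ
  exact of_subgroupOf_map_aut W S φ

end Cfsg.Agent.Helper6.ThompFus
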