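import Mathlib
import Cfsg.Agent.Helper6.ThompFusF

/-!
# Frobenius-type criterion on characteristic subgroups for fusion systems: the induction
-/

set_option autoImplicit false
set_option linter.style.haveILetI false
set_option maxHeartbeats 800000

namespace Cfsg.Agent.Helper6.ThompFus

open Cfsg Cfsg.FusionSystem Cfsg.Agent.Lead Cfsg.Agent.Lead.GlTh Cfsg.Agent.Helper1
  Cfsg.Agent.Helper1.ThompsonRed Cfsg.Agent.Helper1.TN

universe u

/-- The automizers of the nontrivial characteristic subgroups are `p`-groups. -/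
def CharAut {Ω : Type*} [Group Ω] {S : Subgroup Ω} (p : ℕ) (F : FusionSystem S) : Prop :=
  ∀ Q : Subgroup Ω, Q ≤ S → Q ≠ ⊥ → (Q.subgroupOf S).Characteristic → IsPGroup p (F.autGroup Q)

theorem characteristic_of_eq {Ω : Type*} [Group Ω] {R S W : Subgroup Ω} (h : R = S)
    (hW : (W.subgroupOf S).Characteristic) : (W.subgroupOf R).Characteristic := by
  subst h
  exact hW

theorem char_inner_aux (p : ℕ) [Fact p.Prime] :
    ∀ (n : ℕ) (Ω : Type u) [Group Ω] (S : Subgroup Ω) [Finite S], Nat.card S = n → IsPGroup p S →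
      ∀ F : FusionSystem S, F.IsSaturated p →
        (p ≠ 2 ∨ F.IsSectionFree p (Equiv.Perm (Fin 4))) → CharAut p F → Inner p F := by
  intro n
  induction n using Nat.strong_induction_on with
  | _ n ih =>
  intro Ω _ S _ hn hS F hF hp hchar
  have IH : ∀ (Ω' : Type u) [Group Ω'] (S' : Subgroup Ω') [Finite S'],
      Nat.card S' < Nat.card S → IsPGroup p S' →
      ∀ F' : FusionSystem S', F'.IsSaturated p →
        (p ≠ 2 ∨ F'.IsSectionFree p (Equiv.Perm (Fin 4))) → CharAut p F' → Inner p F' :=
    fun Ω' _ S' _ hlt hS' F' hF' hp' hW' =>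
      ih (Nat.card S') (hn ▸ hlt) Ω' S' rfl hS' F' hF' hp' hW'
  by_cases hS1 : Nat.card S ≤ 1
  · -- trivial group
    intro P hP α _
    refine ⟨0, ?_⟩
    have h1 : Nat.card P ≤ 1 := (Subgroup.card_le_of_le hP).trans hS1
    haveI : Finite P := Fusion.finite_of_le hP
    have h2 : Nat.card P = 1 := le_antisymm h1 Nat.card_pos
    have hsub : Subsingleton P := (Nat.card_eq_one_iff_unique.mp h2).1
    ext x
    exact congrArg Subtype.val (Subsingleton.elim _ _)
  rw [not_le] at hS1
  have key : ∀ W : CharFunctor.{u},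
      (∀ (R : Type u) [Group R] [Finite R], IsPGroup p R → Nontrivial R → W.W R ≠ ⊥) →
      NP p F (W.of S) := by
    intro W hne
    have hW₀ne : W.of S ≠ ⊥ := of_ne_bot' W p hne S hS hS1
    have hW₀S : W.of S ≤ S := W.of_le S
    have hSn : S ≤ Subgroup.normalizer (W.of S : Set Ω) := le_normalizer_of W S
    have hW₀char : ((W.of S).subgroupOf S).Characteristic := of_characteristic W S
    have hReq : normalizerIn S (W.of S) = S := le_antisymm inf_le_left (le_inf le_rfl hSn)
    have hfn : F.IsFullyNormalized (W.of S) := by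
      refine ⟨hW₀S, fun U' _ => ?_⟩
      rw [hReq]
      exact Subgroup.card_le_of_le inf_le_left
    obtain ⟨N, hN⟩ := Cfsg.Agent.S5096.result F (W.of S) hW₀S
    have hNsat := Fusion.normalizerSystem_isSaturated p hS F hF _ hfn N hN
    have hRS : normalizerIn S (W.of S) ≤ S := inf_le_left
    haveI : Finite ↥(normalizerIn S (W.of S)) := Fusion.finite_of_le hRS
    have hRp : IsPGroup p ↥(normalizerIn S (W.of S)) := hS.to_le hRS
    have hNsub := normalizerSystem_hom_subset F N hN
    have hpN := hp_normalizer p hS F hF hp _ hfn N hN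
    have hWN : N.IsNormal (W.of S) := Fusion.normalizerSystem_isNormal F hW₀S N hN
    obtain ⟨Ω', _, S', _, N', θ, hS'p, hθ, hker, hsat', hcard, hfac⟩ :=
      exists_factor' p hRp N hNsat hWN
    haveI : Finite ↥(W.of S) := Fusion.finite_of_le hW₀S
    have hWcard : 1 < Nat.card ↥(W.of S) := (W.of S).one_lt_card_iff_ne_bot.mpr hW₀ne
    have hS'pos : 0 < Nat.card S' := Nat.card_pos
    have hRcard : Nat.card ↥(normalizerIn S (W.of S)) = Nat.card S := by rw [hReq]
    have hlt : Nat.card S' < Nat.card S := by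
      rw [← hRcard, ← hcard]
      nlinarith
    have hpN' := hp_factor p hRp N hNsat hpN hWN θ N' hfac
    -- the characteristic subgroup hypothesis for the factor system
    have hWRchar : ((W.of S).subgroupOf (normalizerIn S (W.of S))).Characteristic :=
      characteristic_of_eq hReq hW₀char
    have hchar' : CharAut p N' := by
      intro Q' hQ'S' _ hQ'char
      apply isPGroup_autGroup_image p N N' θ hθ hQ'S'
      have hQchar := characteristic_preimage θ hθ.2.1 hker hWRchar hQ'char
      have hWQ : W.of S ≤ preimageAlong θ Q' :=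
        hker.ge.trans (Fusion.preimageAlong_mono θ bot_le : Fusion.kerAlong θ ≤ _)
      have hQne : preimageAlong θ Q' ≠ ⊥ := by
        intro h
        rw [h, le_bot_iff] at hWQ
        exact hW₀ne hWQ
      have hQR : preimageAlong θ Q' ≤ normalizerIn S (W.of S) := Fusion.preimageAlong_le θ Q'
      have hQchar' : ((preimageAlong θ Q').subgroupOf S).Characteristic :=
        characteristic_of_eq hReq.symm hQchar
      have h1 := hchar _ (hQR.trans hRS) hQne hQchar'
      exact h1.to_le (autGroup_mono N F hNsub _)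
    have hin' : Inner p N' := IH Ω' S' hlt hS'p N' hsat' hpN' hchar'
    have hWaut : IsPGroup p (N.autGroup (W.of S)) :=
      (hchar _ hW₀S hW₀ne hW₀char).to_le (autGroup_mono N F hNsub _)
    have hNin : Inner p N := inner_of_factor_inner p hRp N N' θ hθ hin' hWN hker hWaut
    exact (np_iff_normalizer_inner F hW₀S N hN).mpr hNin
  have hJ : NP p F (jaFunctor.of S) :=
    key jaFunctor (fun R _ _ hR hnt => jaFunctor_ne_bot R hR hnt)
  have hZ : CP p F (centerFunctor.of S) :=
    cp_of_np (key centerFunctor (fun R _ _ hR hnt => centerFunctor_ne_bot R hR hnt))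
  exact thompson_inner p hS F hF ⟨hp, hZ, hJ⟩

/-- A strengthened Frobenius criterion for fusion systems. -/
theorem char_frobenius_fusion {Ω : Type u} [Group Ω] {S : Subgroup Ω} [Finite S] (p : ℕ)
    [Fact p.Prime] (hS : IsPGroup p S) (F : Cfsg.FusionSystem S) (hF : F.IsSaturated p)
    (hp : p ≠ 2 ∨ F.IsSectionFree p (Equiv.Perm (Fin 4)))
    (h : ∀ Q : Subgroup Ω, Q ≤ S → Q ≠ ⊥ → (Q.subgroupOf S).Characteristic →
      IsPGroup p (F.autGroup Q)) :
    ∀ P : Subgroup Ω, F.Hom P = (Cfsg.innerFusionSystem S).Hom P :=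
  (inner_iff_hom p hS F hF).mp (char_inner_aux p (Nat.card S) Ω S rfl hS F hF hp h)

end Cfsg.Agent.Helper6.ThompFus
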