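import Mathlib

/-!
# Conjugating `h g` to `c g` with `c` centralised by `g` (coprime action of a cyclic group)
-/

set_option autoImplicit false

namespace Cfsg.Agent.Helper6

universe u

variable {G : Type u} [Group G]

/-- One step: a `q`-element `u` of `⟨g⟩` fixes a point of the `H`-orbit of `h g`. -/
theorem exists_conj_commute_pelement [Finite G] (H : Subgroup G) (g : G)
    (hg : g ∈ Subgroup.normalizer (H : Set G)) (q : ℕ) [Fact q.Prime]
    (hq : ¬ q ∣ Nat.card H) (u : G) (hu : u ∈ Subgroup.zpowers g) (huq : ∃ a, orderOf u = q ^ a)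
    (h : G) (hh : h ∈ H) :
    ∃ x ∈ H, ∃ c ∈ H, c * u = u * c ∧ x * (h * g) * x⁻¹ = c * g := by
  classical
  have hnorm : ∀ z, z ∈ H ↔ g * z * g⁻¹ ∈ H := fun z => Subgroup.mem_normalizer_iff.mp hg z
  let O : Set G := {y | ∃ x ∈ H, y = x * (h * g) * x⁻¹}
  have h1 : ∀ y ∈ O, y * g⁻¹ ∈ H := by
    rintro y ⟨x, hx, rfl⟩
    have : x * (h * g) * x⁻¹ * g⁻¹ = x * h * (g * x⁻¹ * g⁻¹) := by group
    rw [this]
    exact H.mul_mem (H.mul_mem hx hh) ((hnorm _).mp (H.inv_mem hx))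
  have h2 : ∀ y ∈ O, ∀ w ∈ H, w * y * w⁻¹ ∈ O := by
    rintro y ⟨x, hx, rfl⟩ w hw
    exact ⟨w * x, H.mul_mem hw hx, by group⟩
  have h3 : ∀ y ∈ O, g * y * g⁻¹ ∈ O := by
    intro y hy
    have hw := h1 y hy
    have : g * y * g⁻¹ = (y * g⁻¹)⁻¹ * y * (y * g⁻¹)⁻¹⁻¹ := by group
    rw [this]
    exact h2 y hy _ (H.inv_mem hw)
  have h4 : ∀ k : ℕ, ∀ y ∈ O, g ^ k * y * (g ^ k)⁻¹ ∈ O := by
    intro k
    induction k with
    | zero => intro y hy; simpa using hy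
    | succ k ih =>
      intro y hy
      have : g ^ (k + 1) * y * (g ^ (k + 1))⁻¹ = g * (g ^ k * y * (g ^ k)⁻¹) * g⁻¹ := by
        rw [pow_succ']; group
      rw [this]
      exact h3 _ (ih y hy)
  have h5 : ∀ v ∈ Subgroup.zpowers g, ∀ y ∈ O, v * y * v⁻¹ ∈ O := by
    intro v hv y hy
    rw [← mem_powers_iff_mem_zpowers] at hv
    obtain ⟨k, rfl⟩ := hv
    exact h4 k y hy
  have hle : Subgroup.zpowers u ≤ Subgroup.zpowers g := by
    rw [Subgroup.zpowers_le]; exact hu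
  letI : MulAction (Subgroup.zpowers u) O :=
    { smul := fun v y => ⟨(v : G) * y * (v : G)⁻¹, h5 _ (hle v.2) _ y.2⟩
      one_smul := by
        rintro ⟨y, hy⟩
        apply Subtype.ext
        show ((1 : Subgroup.zpowers u) : G) * y * ((1 : Subgroup.zpowers u) : G)⁻¹ = y
        simp
      mul_smul := by
        rintro v w ⟨y, hy⟩
        apply Subtype.ext
        show ((v * w : Subgroup.zpowers u) : G) * y * ((v * w : Subgroup.zpowers u) : G)⁻¹ =
          (v : G) * ((w : G) * y * (w : G)⁻¹) * (v : G)⁻¹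
        simp only [Subgroup.coe_mul]
        group }
  have hsmul : ∀ (v : Subgroup.zpowers u) (y : O), ((v • y : O) : G) = (v : G) * y * (v : G)⁻¹ :=
    fun _ _ => rfl
  -- the orbit has size dividing |H|
  have hcard : Nat.card O ∣ Nat.card H := by
    letI : MulAction H G := MulAction.compHom G ((MulAut.conj : G →* MulAut G).comp H.subtype)
    have hO : O = MulAction.orbit H (h * g) := by
      ext y
      constructor
      · rintro ⟨x, hx, rfl⟩
        exact ⟨⟨x, hx⟩, rfl⟩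
      · rintro ⟨x, rfl⟩
        exact ⟨x, x.2, rfl⟩
    rw [hO, Nat.card_coe_set_eq, ← MulAction.index_stabilizer]
    exact Subgroup.index_dvd_card _
  have hqO : ¬ q ∣ Nat.card O := fun hd => hq (hd.trans hcard)
  have hpg : IsPGroup q (Subgroup.zpowers u) := by
    obtain ⟨a, ha⟩ := huq
    apply IsPGroup.of_card (n := a)
    rw [Nat.card_zpowers, ha]
  obtain ⟨y, hy⟩ := hpg.nonempty_fixed_point_of_prime_not_dvd_card O hqO
  have hfix : u * (y : G) * u⁻¹ = y := by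
    have := hy ⟨u, Subgroup.mem_zpowers u⟩
    have h6 := congrArg (fun t : O => (t : G)) this
    simpa [hsmul] using h6
  obtain ⟨x, hx, hyx⟩ := y.2
  have hug : u * g = g * u := by
    obtain ⟨k, rfl⟩ := Subgroup.mem_zpowers_iff.mp hu
    exact (Commute.zpow_self g k).eq
  refine ⟨x, hx, (y : G) * g⁻¹, h1 _ y.2, ?_, ?_⟩
  · have h7 : u * (y : G) = (y : G) * u := by
      calc u * (y : G) = u * (y : G) * u⁻¹ * u := by group
        _ = (y : G) * u := by rw [hfix]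
    have h8 : g⁻¹ * u = u * g⁻¹ := by
      calc g⁻¹ * u = g⁻¹ * (u * g) * g⁻¹ := by group
        _ = g⁻¹ * (g * u) * g⁻¹ := by rw [hug]
        _ = u * g⁻¹ := by group
    calc (y : G) * g⁻¹ * u = (y : G) * (g⁻¹ * u) := by group
      _ = (y : G) * (u * g⁻¹) := by rw [h8]
      _ = ((y : G) * u) * g⁻¹ := by group
      _ = (u * (y : G)) * g⁻¹ := by rw [h7]
      _ = u * ((y : G) * g⁻¹) := by group
  · rw [← hyx]; group

/-- Coprime action of a cyclic group: `h g` is `H`-conjugate to `c g` with `c ∈ C_H(g)`. -/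
theorem exists_conj_commute_of_coprime [Finite G] : ∀ (n : ℕ) (H : Subgroup G) (g : G),
    orderOf g = n → g ∈ Subgroup.normalizer (H : Set G) → Nat.Coprime n (Nat.card H) →
    ∀ h ∈ H, ∃ x ∈ H, ∃ c ∈ H, c * g = g * c ∧ x * (h * g) * x⁻¹ = c * g := by
  intro n
  induction n using Nat.strong_induction_on with
  | _ n ih =>
  intro H g hn hgN hcop h hh
  by_cases h1 : n = 1
  · have hg1 : g = 1 := by rw [← orderOf_eq_one_iff, hn, h1]
    subst hg1
    exact ⟨1, H.one_mem, h, hh, by simp, by simp⟩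
  have hn0 : n ≠ 0 := by rw [← hn]; exact (orderOf_pos g).ne'
  have hq : (n.minFac).Prime := Nat.minFac_prime h1
  haveI : Fact (n.minFac).Prime := ⟨hq⟩
  set q := n.minFac with hqdef
  have hqn : q ∣ n := Nat.minFac_dvd n
  set A := ordProj[q] n with hA
  set B := ordCompl[q] n with hB
  have hAB : A * B = n := Nat.ordProj_mul_ordCompl_eq_self n q
  have hBpos : 0 < B := Nat.ordCompl_pos q hn0
  have hA1 : 1 < A := by
    have : 0 < n.factorization q := hq.factorization_pos_of_dvd hn0 hqn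
    exact Nat.one_lt_pow this.ne' hq.one_lt
  have hBn : B < n := by
    calc B = 1 * B := (one_mul B).symm
      _ < A * B := Nat.mul_lt_mul_of_pos_right hA1 hBpos
      _ = n := hAB
  have hcopAB : Nat.Coprime A B := (Nat.coprime_ordCompl hq hn0).pow_left _
  set u := g ^ B with hu
  have huord : orderOf u = A := by
    rw [hu, orderOf_pow' g hBpos.ne', hn, Nat.gcd_eq_right (Nat.ordCompl_dvd n q)]
    exact Nat.div_eq_of_eq_mul_left hBpos hAB.symm
  have hqH : ¬ q ∣ Nat.card H := by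
    intro hd
    have := Nat.Coprime.eq_one_of_dvd (Nat.Coprime.coprime_dvd_left hqn hcop) hd
    exact hq.one_lt.ne' this
  have huz : u ∈ Subgroup.zpowers g := ⟨B, by simp [hu]⟩
  obtain ⟨x₁, hx₁, c₁, hc₁, hc₁u, hx₁c₁⟩ :=
    exists_conj_commute_pelement H g hgN q hqH u huz ⟨_, huord⟩ h hh
  -- Bezout
  have hcopZ : IsCoprime (A : ℤ) (B : ℤ) := Nat.isCoprime_iff_coprime.mpr hcopAB
  obtain ⟨a, b, hab⟩ := hcopZ
  set g₂ := g ^ (a * (A : ℤ)) with hg₂
  set g₁ := u ^ b with hg₁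
  have hg₁' : g₁ = g ^ (b * (B : ℤ)) := by
    rw [hg₁, hu, mul_comm, zpow_mul, zpow_natCast]
  have hsplit : g = g₂ * g₁ := by
    rw [hg₁', hg₂, ← zpow_add, hab, zpow_one]
  have hg₂B : g₂ ^ B = 1 := by
    rw [hg₂, ← zpow_natCast, ← zpow_mul, mul_assoc]
    have : ((A : ℤ) * (B : ℤ)) = (n : ℤ) := by exact_mod_cast hAB
    rw [this, mul_comm, zpow_mul, zpow_natCast, ← hn, pow_orderOf_eq_one, one_zpow]
  have hm : orderOf g₂ ∣ B := orderOf_dvd_of_pow_eq_one hg₂B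
  have hmn : orderOf g₂ < n := lt_of_le_of_lt (Nat.le_of_dvd hBpos hm) hBn
  set H₁ : Subgroup G := H ⊓ Subgroup.centralizer {u} with hH₁
  have hg₂z : g₂ ∈ Subgroup.zpowers g := ⟨a * (A : ℤ), rfl⟩
  have hg₂N : g₂ ∈ Subgroup.normalizer (H : Set G) := by
    have : Subgroup.zpowers g ≤ Subgroup.normalizer (H : Set G) := by
      rw [Subgroup.zpowers_le]; exact hgN
    exact this hg₂z
  have hcomm_zp : ∀ v ∈ Subgroup.zpowers g, v * u = u * v := by
    intro v hv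
    obtain ⟨k, rfl⟩ := Subgroup.mem_zpowers_iff.mp hv
    rw [hu]
    exact ((Commute.refl g).zpow_left k).pow_right B |>.eq
  have hg₂u : g₂ * u = u * g₂ := hcomm_zp g₂ hg₂z
  have hmemH₁ : ∀ z, z ∈ H₁ ↔ z ∈ H ∧ u * z = z * u := by
    intro z
    rw [hH₁, Subgroup.mem_inf, Subgroup.mem_centralizer_iff]
    constructor
    · rintro ⟨hz, hc⟩; exact ⟨hz, hc u rfl⟩
    · rintro ⟨hz, hc⟩; exact ⟨hz, fun w hw => by rw [Set.mem_singleton_iff.mp hw]; exact hc⟩
  have hg₂N₁ : g₂ ∈ Subgroup.normalizer (H₁ : Set G) := by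
    rw [Subgroup.mem_normalizer_iff]
    intro z
    rw [hmemH₁, hmemH₁, ← Subgroup.mem_normalizer_iff.mp hg₂N z]
    apply and_congr_right
    intro _
    have hinv : g₂⁻¹ * u = u * g₂⁻¹ := by
      calc g₂⁻¹ * u = g₂⁻¹ * (u * g₂) * g₂⁻¹ := by group
        _ = g₂⁻¹ * (g₂ * u) * g₂⁻¹ := by rw [hg₂u]
        _ = u * g₂⁻¹ := by group
    constructor
    · intro hz
      calc u * (g₂ * z * g₂⁻¹) = (u * g₂) * z * g₂⁻¹ := by group
        _ = (g₂ * u) * z * g₂⁻¹ := by rw [hg₂u]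
        _ = g₂ * (u * z) * g₂⁻¹ := by group
        _ = g₂ * (z * u) * g₂⁻¹ := by rw [hz]
        _ = g₂ * z * (u * g₂⁻¹) := by group
        _ = g₂ * z * (g₂⁻¹ * u) := by rw [hinv]
        _ = g₂ * z * g₂⁻¹ * u := by group
    · intro hz
      calc u * z = g₂⁻¹ * (g₂ * u) * z := by group
        _ = g₂⁻¹ * (u * g₂) * z := by rw [hg₂u]
        _ = g₂⁻¹ * (u * (g₂ * z * g₂⁻¹)) * g₂ := by group
        _ = g₂⁻¹ * ((g₂ * z * g₂⁻¹) * u) * g₂ := by rw [hz]
        _ = z * (g₂⁻¹ * u) * g₂ := by group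
        _ = z * (u * g₂⁻¹) * g₂ := by rw [hinv]
        _ = z * u := by group
  have hcop₁ : Nat.Coprime (orderOf g₂) (Nat.card H₁) := by
    have h1 : orderOf g₂ ∣ n := hm.trans (Nat.ordCompl_dvd n q)
    have h2 : Nat.card H₁ ∣ Nat.card H := Subgroup.card_dvd_of_le inf_le_left
    exact Nat.Coprime.coprime_dvd_left h1 (Nat.Coprime.coprime_dvd_right h2 hcop)
  have hc₁H₁ : c₁ ∈ H₁ := (hmemH₁ c₁).mpr ⟨hc₁, hc₁u.symm⟩
  obtain ⟨x₂, hx₂, c, hc, hcg₂, hx₂c⟩ :=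
    ih (orderOf g₂) hmn H₁ g₂ rfl hg₂N₁ hcop₁ c₁ hc₁H₁
  have hx₂' := (hmemH₁ x₂).mp hx₂
  have hc' := (hmemH₁ c).mp hc
  -- elements commuting with u commute with g₁ = u ^ b
  have hcomm_g₁ : ∀ z, u * z = z * u → z * g₁ = g₁ * z := by
    intro z hz
    rw [hg₁]
    have : Commute z u := hz.symm
    exact (this.zpow_right b).eq
  refine ⟨x₂ * x₁, H.mul_mem hx₂'.1 hx₁, c, hc'.1, ?_, ?_⟩
  · rw [hsplit]
    calc c * (g₂ * g₁) = (c * g₂) * g₁ := by group
      _ = (g₂ * c) * g₁ := by rw [hcg₂]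
      _ = g₂ * (c * g₁) := by group
      _ = g₂ * (g₁ * c) := by rw [hcomm_g₁ c hc'.2]
      _ = g₂ * g₁ * c := by group
  · calc x₂ * x₁ * (h * g) * (x₂ * x₁)⁻¹ = x₂ * (x₁ * (h * g) * x₁⁻¹) * x₂⁻¹ := by group
      _ = x₂ * (c₁ * g) * x₂⁻¹ := by rw [hx₁c₁]
      _ = x₂ * (c₁ * (g₂ * g₁)) * x₂⁻¹ := by rw [← hsplit]
      _ = (x₂ * (c₁ * g₂) * x₂⁻¹) * (x₂ * g₁) * x₂⁻¹ := by group
      _ = (c * g₂) * (g₁ * x₂) * x₂⁻¹ := by rw [hx₂c, hcomm_g₁ x₂ hx₂'.2]
      _ = c * (g₂ * g₁) := by group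
      _ = c * g := by rw [← hsplit]

end Cfsg.Agent.Helper6
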