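import Mathlib
import Cfsg.Prelude.Def_Characters
import Cfsg.Prelude.Def_BlockLocal
import Cfsg.Agent.Helper6.RMcKGoodE

/-!
# Gallagher's count of the characters above an invariant character
-/

set_option autoImplicit false
set_option linter.style.haveILetI false
set_option linter.unusedSimpArgs false

namespace Cfsg.Agent.Helper6.RMcK

open Cfsg.Agent.Helper6
open scoped ComplexConjugate

universe u

variable {G : Type u} [Group G]

theorem commStab_mul_left (N : Subgroup G) [hN : N.Normal] (x : G) (n : G) (hn : n ∈ N) :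
    commStab N (n * x) = commStab N x := by
  unfold commStab
  have : (QuotientGroup.mk (n * x) : G ⧸ N) = QuotientGroup.mk x := by
    rw [QuotientGroup.eq]
    have h1 : (n * x)⁻¹ * x = x⁻¹ * n⁻¹ * x⁻¹⁻¹ := by group
    rw [h1]
    exact hN.conj_mem _ (N.inv_mem hn) _
  rw [this]

theorem genMod_mul_left (N : Subgroup G) [hN : N.Normal] (Y : Subgroup G) (x : G)
    (hgen : GenMod N Y x) (n : G) (hn : n ∈ N) : GenMod N Y (n * x) := by
  intro y hy
  obtain ⟨k, hk⟩ := hgen y hy
  refine ⟨k, ?_⟩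
  have hmk : (QuotientGroup.mk (n * x) : G ⧸ N) = QuotientGroup.mk x := by
    rw [QuotientGroup.eq]
    have h1 : (n * x)⁻¹ * x = x⁻¹ * n⁻¹ * x⁻¹⁻¹ := by group
    rw [h1]
    exact hN.conj_mem _ (N.inv_mem hn) _
  rw [← QuotientGroup.eq_one_iff] at hk ⊢
  rw [QuotientGroup.mk_mul, QuotientGroup.mk_inv, QuotientGroup.mk_zpow] at hk ⊢
  rw [hmk]
  exact hk

/-- Gallagher's count, in the form: `|Irr(G|θ)| · |G| · |N|` is the number of pairs `(x, c)`
commuting modulo `N` with `x` good. -/
theorem good_count [Fintype G] (N : Subgroup G) [hN : N.Normal] [Fintype N] (θ : N → ℂ)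
    (hθ : Cfsg.IsIrrCharacter N θ)
    (hinv : ∀ (g : G) (n : N), θ ⟨g * n * g⁻¹, hN.conj_mem (n : G) n.2 g⟩ = θ n) :
    Nat.card {χ : Cfsg.IrrCharacter G //
        Cfsg.classInner (fun n : N => (χ : G → ℂ) n) θ ≠ 0} * Nat.card G * Nat.card N =
      Nat.card {p : G × G // p.2 ∈ commStab N p.1 ∧ GoodElt N θ p.1} := by
  classical
  haveI : Finite (Cfsg.IrrCharacter G) := irr_finite
  haveI : Fintype (Cfsg.IrrCharacter G) := Fintype.ofFinite _
  have hN0 : (Nat.card N : ℂ) ≠ 0 := by
    exact_mod_cast (Nat.card_pos (α := N)).ne'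
  have hG0 : (Nat.card G : ℂ) ≠ 0 := by
    exact_mod_cast (Nat.card_pos (α := G)).ne'
  set S : G → ℂ := fun x => ∑ χ : Cfsg.IrrCharacter G,
      (if Cfsg.classInner (fun n : N => (χ : G → ℂ) n) θ ≠ 0 then
        (χ : G → ℂ) x * conj ((χ : G → ℂ) x) else 0) with hS
  -- step 1
  have h1 : ∑ x : G, S x = (Nat.card {χ : Cfsg.IrrCharacter G //
        Cfsg.classInner (fun n : N => (χ : G → ℂ) n) θ ≠ 0} : ℂ) * (Nat.card G : ℂ) := by
    simp only [hS]
    rw [Finset.sum_comm]
    have : ∀ χ : Cfsg.IrrCharacter G, ∑ x : G,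
        (if Cfsg.classInner (fun n : N => (χ : G → ℂ) n) θ ≠ 0 then
          (χ : G → ℂ) x * conj ((χ : G → ℂ) x) else 0) =
        if Cfsg.classInner (fun n : N => (χ : G → ℂ) n) θ ≠ 0 then (Nat.card G : ℂ) else 0 := by
      intro χ
      by_cases hov : Cfsg.classInner (fun n : N => (χ : G → ℂ) n) θ ≠ 0
      · simp only [if_pos hov]
        have := classInner_irr_self χ.2
        unfold Cfsg.classInner at this
        field_simp at this
        exact this
      · simp only [if_neg hov]
        simp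
    rw [Finset.sum_congr rfl (fun χ _ => this χ), ← Finset.sum_filter, Finset.sum_const,
      nsmul_eq_mul]
    congr 1
    rw [Nat.card_eq_fintype_card, Fintype.card_subtype]
  -- step 3: averaging
  have h3 : ∑ x : G, S x = (Nat.card N : ℂ)⁻¹ * ∑ x : G, ∑ n : N, S ((n : G) * x) := by
    have hswap : ∑ x : G, ∑ n : N, S ((n : G) * x) = ∑ n : N, ∑ x : G, S ((n : G) * x) :=
      Finset.sum_comm
    rw [hswap]
    have : ∀ n : N, ∑ x : G, S ((n : G) * x) = ∑ x : G, S x := by
      intro n
      exact Equiv.sum_comp (Equiv.mulLeft (n : G)) S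
    rw [Finset.sum_congr rfl (fun n _ => this n), Finset.sum_const, Finset.card_univ,
      nsmul_eq_mul, ← Nat.card_eq_fintype_card, ← mul_assoc, inv_mul_cancel₀ hN0, one_mul]
  -- step 2
  have h2 : ∀ x : G, ∑ n : N, S ((n : G) * x) =
      if GoodElt N θ x then (Nat.card (commStab N x) : ℂ) else 0 := by
    intro x
    have hxin : x ∈ inertia N θ := by
      refine ⟨by rw [Subgroup.normalizer_eq_top]; exact Subgroup.mem_top x, ?_⟩
      intro k k' hk
      have := hinv x k
      rw [← this]
      congr 1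
      exact Subtype.ext hk
    obtain ⟨φ, hφ, hφN⟩ := exists_ext_sup_zpowers N x θ hθ hxin
    have hNY : N ≤ N ⊔ Subgroup.zpowers x := le_sup_left
    have hxY : x ∈ N ⊔ Subgroup.zpowers x :=
      (le_sup_right : Subgroup.zpowers x ≤ _) (Subgroup.mem_zpowers x)
    have hgen : GenMod N (N ⊔ Subgroup.zpowers x) x := genMod_sup_zpowers N x
    have hgood := goodElt_iff N θ hθ (N ⊔ Subgroup.zpowers x) hNY φ hφ hφN x hxY hgen
    have hterm : ∀ n : N, S ((n : G) * x) =
        if GoodElt N θ x then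
          (Nat.card (commStab N x) : ℂ) / (Nat.card N : ℂ) *
            (φ ⟨(n : G) * x, Subgroup.mul_mem _ (hNY n.2) hxY⟩ *
              conj (φ ⟨(n : G) * x, Subgroup.mul_mem _ (hNY n.2) hxY⟩))
        else 0 := by
      intro n
      have hgen' := genMod_mul_left N _ x hgen (n : G) n.2
      have := sum_normSq_over N θ hθ hinv (N ⊔ Subgroup.zpowers x) hNY φ hφ hφN ((n : G) * x)
        (Subgroup.mul_mem _ (hNY n.2) hxY) hgen'
      simp only [hS]
      rw [this, commStab_mul_left N x (n : G) n.2]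
      by_cases hg : GoodElt N θ x
      · rw [if_pos hg, if_pos (hgood.mp hg)]
      · rw [if_neg hg, if_neg (fun h => hg (hgood.mpr h))]
    rw [Finset.sum_congr rfl (fun n _ => hterm n)]
    by_cases hg : GoodElt N θ x
    · simp only [if_pos hg]
      rw [← Finset.mul_sum]
      -- per-coset norm
      haveI : Fintype ↥(N ⊔ Subgroup.zpowers x) := Fintype.ofFinite _
      haveI hN' : (N.subgroupOf (N ⊔ Subgroup.zpowers x)).Normal := inferInstance
      haveI : Fintype ↥(N.subgroupOf (N ⊔ Subgroup.zpowers x)) := Fintype.ofFinite _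
      set e : N.subgroupOf (N ⊔ Subgroup.zpowers x) ≃* N := Subgroup.subgroupOfEquivOfLe hNY
        with he
      have hirr' : Cfsg.IsIrrCharacter (N.subgroupOf (N ⊔ Subgroup.zpowers x))
          (fun n' => φ (n' : ↥(N ⊔ Subgroup.zpowers x))) := by
        have h5 : (fun n' : N.subgroupOf (N ⊔ Subgroup.zpowers x) =>
            φ (n' : ↥(N ⊔ Subgroup.zpowers x))) = θ ∘ e := by
          funext n'
          simp only [Function.comp_apply]
          rw [← hφN]
          rfl
        rw [h5]
        exact IsIrrCharacter.comp_mulEquiv _ hθ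
      have hcoset := RelGlaub.sum_coset_normSq (N.subgroupOf (N ⊔ Subgroup.zpowers x)) φ hφ
        hirr' ⟨x, hxY⟩
      have hsum : ∑ n : N, φ ⟨(n : G) * x, Subgroup.mul_mem _ (hNY n.2) hxY⟩ *
          conj (φ ⟨(n : G) * x, Subgroup.mul_mem _ (hNY n.2) hxY⟩) = (Nat.card N : ℂ) := by
        rw [← Equiv.sum_comp e.toEquiv, ← Nat.card_congr e.toEquiv]
        rw [← hcoset]
        apply Finset.sum_congr rfl
        intro n' _
        rfl
      rw [hsum]
      field_simp
    · simp only [if_neg hg]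
      simp
  -- assemble
  have h4 : (Nat.card {χ : Cfsg.IrrCharacter G //
        Cfsg.classInner (fun n : N => (χ : G → ℂ) n) θ ≠ 0} : ℂ) * (Nat.card G : ℂ) *
        (Nat.card N : ℂ) =
      ∑ x : G, (if GoodElt N θ x then (Nat.card (commStab N x) : ℂ) else 0) := by
    rw [← h1, h3, Finset.sum_congr rfl (fun x _ => h2 x)]
    field_simp
  -- count the pairs
  have h5 : Nat.card {p : G × G // p.2 ∈ commStab N p.1 ∧ GoodElt N θ p.1} =
      ∑ x : G, (if GoodElt N θ x then Nat.card (commStab N x) else 0) := by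
    rw [Nat.card_congr (Equiv.subtypeProdEquivSigmaSubtype
      (fun (a b : G) => b ∈ commStab N a ∧ GoodElt N θ a)), Nat.card_sigma]
    apply Finset.sum_congr rfl
    intro x _
    by_cases hg : GoodElt N θ x
    · rw [if_pos hg]
      apply Nat.card_congr
      exact Equiv.subtypeEquivRight (fun c => by simp [hg])
    · rw [if_neg hg]
      haveI : IsEmpty {b : G // b ∈ commStab N x ∧ GoodElt N θ x} := ⟨fun b => hg b.2.2⟩
      exact Nat.card_of_isEmpty
  rw [h5]
  have h6 : ((Nat.card {χ : Cfsg.IrrCharacter G //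
        Cfsg.classInner (fun n : N => (χ : G → ℂ) n) θ ≠ 0} * Nat.card G * Nat.card N : ℕ) : ℂ) =
      ((∑ x : G, (if GoodElt N θ x then Nat.card (commStab N x) else 0) : ℕ) : ℂ) := by
    push_cast
    rw [h4]
  exact_mod_cast h6

end Cfsg.Agent.Helper6.RMcK
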