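import Mathlib
import Cfsg.Prelude.Def_Characters
import Cfsg.Agent.Helper6.CharTripleC
import Cfsg.Agent.Helper6.CliffordCorr
import Cfsg.Agent.Helper6.CliffordOrbit

/-!
# The quotient of the degrees of a character and of a constituent of its restriction to a normal
subgroup divides the index
-/

set_option autoImplicit false
set_option linter.style.haveILetI false

namespace Cfsg.Agent.Helper6

open Module
open scoped ComplexConjugate

universe u

variable {G : Type u} [Group G]

set_option maxHeartbeats 1600000 in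
/-- **`χ(1)/ϑ(1)` divides `|G : N|`** for an irreducible constituent `ϑ` of the restriction of
`χ` to the normal subgroup `N` -/
theorem degree_ratio_dvd_index [Fintype G] (N : Subgroup G) [hN : N.Normal] [Fintype N]
    (χ : G → ℂ) (hχ : Cfsg.IsIrrCharacter G χ) (ϑ : N → ℂ) (hϑ : Cfsg.IsIrrCharacter N ϑ)
    (hcon : Cfsg.classInner (fun n : N => χ n) ϑ ≠ 0) (c d : ℕ) (hc : χ 1 = c) (hd : ϑ 1 = d) :
    d ∣ c ∧ c / d ∣ N.index := by
  classical
  obtain ⟨T, hTdef⟩ : ∃ T : Subgroup G, T = conjStab N ϑ := ⟨_, rfl⟩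
  haveI : Fintype T := Fintype.ofFinite _
  have hϑcf := IsCharacter.isClassFunction (IsIrrCharacter.isCharacter hϑ)
  have hNT : N ≤ T := by
    rw [hTdef]
    exact le_conjStab_of_isClassFunction N ϑ hϑcf
  have hT : ∀ g : G, g ∈ T ↔ ∀ n : N, ϑ ⟨g * n * g⁻¹, hN.conj_mem (n : G) n.2 g⟩ = ϑ n := by
    intro g
    rw [hTdef, mem_conjStab]
    constructor
    · intro h n
      exact congrFun h n
    · intro h
      funext n
      exact h n
  have hT' : ∀ g : G, g ∈ T ↔ conjFun N ϑ g = ϑ := by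
    intro g
    rw [hTdef, mem_conjStab]
  obtain ⟨ψ, hψ, -, hψinner⟩ := clifford_correspondence N ϑ hϑ T hT hNT χ hχ hcon
  have hdeg := clifford_degree N χ hχ ϑ hϑ hcon T hT'
  obtain ⟨e, he⟩ := classInner_char_char_nat
    (IsCharacter.restrict N (IsIrrCharacter.isCharacter hχ)) (IsIrrCharacter.isCharacter hϑ)
  have he0 : e ≠ 0 := by
    intro h0
    rw [h0, Nat.cast_zero] at he
    exact hcon he
  -- the ramification index divides `|T : N|`
  have hdvd : e ∣ N.relIndex T := by
    haveI : Fintype (N.subgroupOf T) := Fintype.ofFinite _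
    obtain ⟨ε, hε⟩ : ∃ ε : N.subgroupOf T ≃* N, ε = Subgroup.subgroupOfEquivOfLe hNT := ⟨_, rfl⟩
    have hϑ' : Cfsg.IsIrrCharacter (N.subgroupOf T) (ϑ ∘ ε) := IsIrrCharacter.comp_mulEquiv ε hϑ
    have hres : (fun n : N.subgroupOf T => ψ n) =
        (fun n : N => ψ ⟨(n : G), hNT n.2⟩) ∘ ε := by
      rw [hε]
      rfl
    have hinner : Cfsg.classInner (fun n : N.subgroupOf T => ψ n) (ϑ ∘ ε) = e := by
      rw [hres]
      exact (classInner_comp_equiv' ε.toEquiv _ _).trans (hψinner.trans he)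
    have hinv' : ∀ (t : T) (n : N.subgroupOf T),
        (ϑ ∘ ε) ⟨t * n * t⁻¹, Subgroup.Normal.conj_mem inferInstance (n : T) n.2 t⟩ =
          (ϑ ∘ ε) n := by
      intro t n
      have h1 := (hT (t : G)).mp t.2 (ε n)
      rw [Function.comp_apply, Function.comp_apply, ← h1]
      congr 1
      apply Subtype.ext
      rw [hε]
      rfl
    exact ramification_dvd_index (N.subgroupOf T) (ϑ ∘ ε) hϑ' hinv' ψ hψ e hinner he0
  rw [he, hc, hd] at hdeg
  have hdeg' : c = e * T.index * d := by exact_mod_cast hdeg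
  have hd0 : 0 < d := by
    rcases Nat.eq_zero_or_pos d with h | h
    · rw [h, Nat.cast_zero] at hd
      exact absurd hd (IsIrrCharacter.apply_one_ne_zero hϑ)
    · exact h
  refine ⟨⟨e * T.index, by rw [hdeg']; ring⟩, ?_⟩
  rw [hdeg', Nat.mul_div_cancel _ hd0, ← Subgroup.relIndex_mul_index hNT]
  exact Nat.mul_dvd_mul_right hdvd _

end Cfsg.Agent.Helper6
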