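import Mathlib
import Cfsg.Prelude.Def_Characters
import Cfsg.Agent.Helper6.Brauer6
import Cfsg.Agent.Helper6.Glue2
import Cfsg.Agent.Helper6.OddReal

/-!
# A `p`-elementary subgroup covering a quotient of `p`-power order (first step of Dade's lemma)
-/

set_option autoImplicit false
set_option linter.style.haveILetI false

namespace Cfsg.Agent.Helper6

open scoped ComplexConjugate

universe u

variable {G : Type u} [Group G]

set_option maxHeartbeats 800000 in
theorem sum_sq_mul_indFun [Fintype G] (N : Subgroup G) [hN : N.Normal] [Fintype N] (ϑ : N → ℂ)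
    (hinv : ∀ (g : G) (n : N), ϑ ⟨g * n * g⁻¹, hN.conj_mem (n : G) n.2 g⟩ = ϑ n)
    (E : Subgroup G) [Fintype E] [Fintype (N.subgroupOf E)] (ψ : E → ℂ) :
    (Nat.card E : ℂ) * ∑ n : N, ϑ n * Cfsg.indFun E ψ n * conj (ϑ n) =
      (Nat.card G : ℂ) * ∑ d : N.subgroupOf E,
        resSub N ϑ E d * ψ d * conj (resSub N ϑ E d) := by
  classical
  have hE0 : (Nat.card E : ℂ) ≠ 0 := by
    have : 0 < Nat.card E := Nat.card_pos
    exact_mod_cast this.ne'
  -- the sum over `N` of the extension by zero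
  set A : ℂ := ∑ n : N, ϑ n * Cfsg.extendByZero E ψ (n : G) * conj (ϑ n) with hA
  have hx : ∀ x : G, ∑ n : N, ϑ n * Cfsg.extendByZero E ψ (x⁻¹ * (n : G) * x) * conj (ϑ n) = A := by
    intro x
    rw [hA]
    rw [← Equiv.sum_comp (MulAut.conjNormal x : N ≃* N).toEquiv]
    apply Finset.sum_congr rfl
    intro n _
    have h1 : ((MulAut.conjNormal x : N ≃* N).toEquiv n : N) =
        ⟨x * (n : G) * x⁻¹, hN.conj_mem (n : G) n.2 x⟩ := by
      apply Subtype.ext
      exact MulAut.conjNormal_apply x n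
    rw [h1, hinv x n]
    congr 2
    congr 1
    change x⁻¹ * (x * (n : G) * x⁻¹) * x = (n : G)
    group
  have hLHS : (Nat.card E : ℂ) * ∑ n : N, ϑ n * Cfsg.indFun E ψ n * conj (ϑ n) =
      (Nat.card G : ℂ) * A := by
    simp_rw [indFun_apply]
    have h2 : ∀ n : N, ϑ n * ((Nat.card E : ℂ)⁻¹ * ∑ x : G, Cfsg.extendByZero E ψ (x⁻¹ * (n : G) * x)) *
        conj (ϑ n) = (Nat.card E : ℂ)⁻¹ *
          ∑ x : G, ϑ n * Cfsg.extendByZero E ψ (x⁻¹ * (n : G) * x) * conj (ϑ n) := by
      intro n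
      rw [Finset.mul_sum, Finset.mul_sum, Finset.sum_mul, Finset.mul_sum]
      apply Finset.sum_congr rfl
      intro x _
      ring
    rw [Finset.sum_congr rfl (fun n _ => h2 n), ← Finset.mul_sum, ← mul_assoc,
      mul_inv_cancel₀ hE0, one_mul, Finset.sum_comm, Finset.sum_congr rfl (fun x _ => hx x),
      Finset.sum_const, Finset.card_univ, nsmul_eq_mul, Nat.card_eq_fintype_card]
  rw [hLHS]
  congr 1
  rw [hA]
  symm
  apply Fintype.sum_of_injective
    (fun d : N.subgroupOf E => (⟨((d : E) : G), Subgroup.mem_subgroupOf.mp d.2⟩ : N))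
  · intro d d' h
    apply Subtype.ext
    apply Subtype.ext
    exact congrArg (fun z : N => (z : G)) h
  · intro n hn
    have hnE : (n : G) ∉ E := by
      intro hmem
      apply hn
      exact ⟨⟨⟨(n : G), hmem⟩, Subgroup.mem_subgroupOf.mpr n.2⟩, Subtype.ext rfl⟩
    rw [extendByZero_not_mem _ _ hnE, mul_zero, zero_mul]
  · intro d
    have hmem : (((d : E) : G)) ∈ E := (d : E).2
    change _ = ϑ ⟨((d : E) : G), _⟩ * Cfsg.extendByZero E ψ ((d : E) : G) * conj (ϑ ⟨((d : E) : G), _⟩)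
    rw [extendByZero_mem _ _ hmem]
    rfl

theorem classInner_mul_indFun [Fintype G] (N : Subgroup G) [hN : N.Normal] [Fintype N] (ϑ : N → ℂ)
    (hinv : ∀ (g : G) (n : N), ϑ ⟨g * n * g⁻¹, hN.conj_mem (n : G) n.2 g⟩ = ϑ n)
    (E : Subgroup G) [Fintype E] [Fintype (N.subgroupOf E)] (ψ : E → ℂ) :
    Cfsg.classInner (ϑ * fun n : N => Cfsg.indFun E ψ n) ϑ =
      ((N ⊔ E).index : ℂ) * Cfsg.classInner (resSub N ϑ E * fun d : N.subgroupOf E => ψ d)
        (resSub N ϑ E) := by
  have hM := sum_sq_mul_indFun N ϑ hinv E ψ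
  rw [classInner_def, classInner_def]
  simp only [Pi.mul_apply]
  have hE0 : (Nat.card E : ℂ) ≠ 0 := by
    have : 0 < Nat.card E := Nat.card_pos
    exact_mod_cast this.ne'
  have hN0 : (Nat.card N : ℂ) ≠ 0 := by
    have : 0 < Nat.card N := Nat.card_pos
    exact_mod_cast this.ne'
  have hD0 : (Nat.card (N.subgroupOf E) : ℂ) ≠ 0 := by
    have : 0 < Nat.card (N.subgroupOf E) := Nat.card_pos
    exact_mod_cast this.ne'
  -- the index computation
  have h1 : Nat.card N * N.index = Nat.card G := Subgroup.card_mul_index N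
  have h2 : N.relIndex (N ⊔ E) * (N ⊔ E).index = N.index :=
    Subgroup.relIndex_mul_index le_sup_left
  have h3 : N.relIndex (N ⊔ E) = N.relIndex E := Subgroup.relIndex_sup_left E N
  have h4 : Nat.card (N.subgroupOf E) * N.relIndex E = Nat.card E :=
    Subgroup.card_mul_index (N.subgroupOf E)
  have hnat : Nat.card G * Nat.card (N.subgroupOf E) =
      (N ⊔ E).index * Nat.card N * Nat.card E := by
    rw [← h1, ← h2, h3, ← h4]
    ring
  have hcast : (Nat.card G : ℂ) * (Nat.card (N.subgroupOf E) : ℂ) =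
      ((N ⊔ E).index : ℂ) * (Nat.card N : ℂ) * (Nat.card E : ℂ) := by
    exact_mod_cast hnat
  set S₁ := ∑ n : N, ϑ n * Cfsg.indFun E ψ n * conj (ϑ n) with hS₁
  set S₂ := ∑ d : N.subgroupOf E, resSub N ϑ E d * ψ d * conj (resSub N ϑ E d) with hS₂
  have hS : S₁ = (Nat.card G : ℂ) / (Nat.card E : ℂ) * S₂ := by
    field_simp
    linear_combination hM
  rw [hS]
  field_simp
  linear_combination (S₂) * hcast

end Cfsg.Agent.Helper6
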