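import Mathlib

/-!
# A weighted fixed point congruence for actions with orbit sizes divisible by `p`
-/

set_option autoImplicit false
set_option linter.style.haveILetI false

namespace Cfsg.Agent.Helper6

theorem sum_modEq_sum_fixed_of_orbit {E X : Type*} [Group E] [Fintype E] [Fintype X]
    [DecidableEq X]
    (act : E → X → X) (h1 : ∀ x, act 1 x = x) (hmul : ∀ g h x, act (g * h) x = act h (act g x))
    (p : ℕ) (F : X → ℕ) (hF : ∀ g x, F (act g x) = F x)
    (horb : ∀ x, (∃ g, act g x ≠ x) → p ∣ (Finset.univ.image (fun g : E => act g x)).card) :
    (∑ x, F x) ≡ (∑ x ∈ Finset.univ.filter (fun x => ∀ g, act g x = x), F x) [MOD p] := by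
  classical
  set Gf : X → ℕ := fun x => if ∀ g, act g x = x then F x else 0 with hGf
  have hinvact : ∀ g x, act g⁻¹ (act g x) = x := by
    intro g x
    rw [← hmul, mul_inv_cancel, h1]
  have key : ∀ S : Finset X, (∀ g x, x ∈ S → act g x ∈ S) →
      (∑ x ∈ S, F x) ≡ (∑ x ∈ S, Gf x) [MOD p] := by
    intro S
    induction S using Finset.strongInduction with
    | H S ih =>
      intro hS
      rcases S.eq_empty_or_nonempty with hem | ⟨x, hx⟩
      · rw [hem]
        simp only [Finset.sum_empty]
        exact Nat.ModEq.refl 0
      · set O : Finset X := Finset.univ.image (fun g : E => act g x) with hO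
        have hxO : x ∈ O := by
          rw [hO, Finset.mem_image]
          exact ⟨1, Finset.mem_univ _, h1 x⟩
        have hOS : O ⊆ S := by
          intro y hy
          rw [hO, Finset.mem_image] at hy
          obtain ⟨g, -, rfl⟩ := hy
          exact hS g x hx
        have hOinv : ∀ g y, y ∈ O → act g y ∈ O := by
          intro g y hy
          rw [hO, Finset.mem_image] at hy ⊢
          obtain ⟨g', -, rfl⟩ := hy
          exact ⟨g' * g, Finset.mem_univ _, hmul g' g x⟩
        have hS'inv : ∀ g y, y ∈ S \ O → act g y ∈ S \ O := by
          intro g y hy
          rw [Finset.mem_sdiff] at hy ⊢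
          refine ⟨hS g y hy.1, ?_⟩
          intro hgy
          apply hy.2
          have := hOinv g⁻¹ _ hgy
          rwa [hinvact] at this
        have hlt : S \ O ⊂ S := by
          apply Finset.sdiff_ssubset hOS
          exact ⟨x, hxO⟩
        have ih' := ih (S \ O) hlt hS'inv
        rw [← Finset.sum_sdiff hOS, ← Finset.sum_sdiff (f := Gf) hOS]
        apply Nat.ModEq.add ih'
        by_cases hfix : ∀ g, act g x = x
        · have hOs : O = {x} := by
            ext y
            rw [hO, Finset.mem_image, Finset.mem_singleton]
            constructor
            · rintro ⟨g, -, rfl⟩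
              exact hfix g
            · rintro rfl
              exact ⟨1, Finset.mem_univ _, h1 y⟩
          rw [hOs, Finset.sum_singleton, Finset.sum_singleton]
          simp only [hGf]
          rw [if_pos hfix]
        · have hex : ∃ g, act g x ≠ x := by
            push Not at hfix
            exact hfix
          have hdvd := horb x hex
          have hF_O : ∑ y ∈ O, F y = O.card * F x := by
            rw [Finset.sum_congr rfl (fun y hy => ?_), Finset.sum_const, smul_eq_mul]
            rw [hO, Finset.mem_image] at hy
            obtain ⟨g, -, rfl⟩ := hy
            exact hF g x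
          have hG_O : ∑ y ∈ O, Gf y = 0 := by
            apply Finset.sum_eq_zero
            intro y hy
            rw [hO, Finset.mem_image] at hy
            obtain ⟨g, -, rfl⟩ := hy
            simp only [hGf]
            rw [if_neg]
            intro hyfix
            apply hfix
            intro g'
            have h2 : act g x = x := by
              have h3 := hyfix g⁻¹
              rw [hinvact] at h3
              exact h3.symm
            have h4 := hyfix g'
            rw [h2] at h4
            exact h4
          rw [hF_O, hG_O]
          exact (Nat.modEq_zero_iff_dvd.mpr (Dvd.dvd.mul_right hdvd _))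
  have := key Finset.univ (fun g x _ => Finset.mem_univ _)
  rw [Finset.sum_filter]
  exact this

end Cfsg.Agent.Helper6
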