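import Mathlib
import Cfsg.Prelude.Def_Characters
import Cfsg.Agent.Helper6.OrbitMod
import Cfsg.Agent.Helper6.CliffordOrbit
import Cfsg.Agent.Helper6.Clifford
import Cfsg.Agent.Helper6.IrrCrit

/-!
# Invariant constituents of multiplicity prime to `p` over a normal subgroup of `p`-power index
-/

set_option autoImplicit false
set_option linter.style.haveILetI false

namespace Cfsg.Agent.Helper6

open scoped ComplexConjugate

universe u

variable {X : Type u} [Group X]

theorem conjFun_mul_fun (D : Subgroup X) [hD : D.Normal] (α β : D → ℂ) (x : X) :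
    conjFun D (α * β) x = conjFun D α x * conjFun D β x := rfl

set_option maxHeartbeats 800000 in
theorem exists_invariant_constituent [Fintype X] (p : ℕ) (hp : p.Prime) (D : Subgroup X)
    [hD : D.Normal] [Fintype D] (hidx : ∃ k : ℕ, D.index = p ^ k) (Θ : D → ℂ)
    (hΘ : Cfsg.IsCharacter D Θ) (hΘinv : ∀ x : X, conjFun D Θ x = Θ)
    (ψ : X → ℂ) (hψ : Cfsg.IsCharacter X ψ) (b : ℕ)
    (hb : Cfsg.classInner (Θ * fun d : D => ψ d) Θ = b) (hpb : ¬ p ∣ b) :
    ∃ φ : D → ℂ, Cfsg.IsIrrCharacter D φ ∧ (∀ x : X, conjFun D φ x = φ) ∧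
      ∃ m : ℕ, ¬ p ∣ m ∧ Cfsg.classInner Θ φ = m := by
  classical
  haveI : Finite (Cfsg.IrrCharacter D) := irr_finite
  haveI : Fintype (Cfsg.IrrCharacter D) := Fintype.ofFinite _
  set Ω : D → ℂ := Θ * fun d : D => ψ d with hΩ
  have hψD : Cfsg.IsCharacter D (fun d : D => ψ d) := IsCharacter.restrict D hψ
  have hΩc : Cfsg.IsCharacter D Ω := IsCharacter.mul hΘ hψD
  have hΩinv : ∀ x : X, conjFun D Ω x = Ω := by
    intro x
    rw [hΩ, conjFun_mul_fun, hΘinv x, conjFun_restrict D ψ (IsCharacter.isClassFunction hψ) x]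
  have hu : ∀ φ : Cfsg.IrrCharacter D, ∃ n : ℕ, Cfsg.classInner Ω (φ : D → ℂ) = n :=
    fun φ => classInner_char_char_nat hΩc (IsIrrCharacter.isCharacter φ.2)
  choose u hu using hu
  have hv : ∀ φ : Cfsg.IrrCharacter D, ∃ n : ℕ, Cfsg.classInner (φ : D → ℂ) Θ = n :=
    fun φ => classInner_char_char_nat (IsIrrCharacter.isCharacter φ.2) hΘ
  choose v hv using hv
  have hbsum : b = ∑ φ : Cfsg.IrrCharacter D, u φ * v φ := by
    have h1 := classInner_self_expansion Ω (IsCharacter.isClassFunction hΩc) Θ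
    rw [hb] at h1
    have h2 : (b : ℂ) = ((∑ φ : Cfsg.IrrCharacter D, u φ * v φ : ℕ) : ℂ) := by
      rw [h1]
      push_cast
      apply Finset.sum_congr rfl
      intro φ _
      rw [hu, hv]
    exact_mod_cast h2
  -- the action
  let act : X → Cfsg.IrrCharacter D → Cfsg.IrrCharacter D :=
    fun g φ => ⟨conjFun D (φ : D → ℂ) g, conjFun_isIrr D φ.2 g⟩
  have h1act : ∀ φ, act 1 φ = φ := by
    intro φ
    apply Subtype.ext
    exact conjFun_one D _
  have hmulact : ∀ g h φ, act (g * h) φ = act h (act g φ) := by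
    intro g h φ
    apply Subtype.ext
    exact (conjFun_mul D _ g h).symm
  have hFact : ∀ g φ, u (act g φ) * v (act g φ) = u φ * v φ := by
    intro g φ
    have h1 : u (act g φ) = u φ := by
      have h2 : (u (act g φ) : ℂ) = u φ := by
        rw [← hu, ← hu]
        change Cfsg.classInner Ω (conjFun D (φ : D → ℂ) g) = _
        conv_lhs => rw [← hΩinv g]
        exact classInner_conjFun D Ω (φ : D → ℂ) g
      exact_mod_cast h2
    have h3 : v (act g φ) = v φ := by
      have h2 : (v (act g φ) : ℂ) = v φ := by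
        rw [← hv, ← hv]
        change Cfsg.classInner (conjFun D (φ : D → ℂ) g) Θ = _
        conv_lhs => rw [← hΘinv g]
        exact classInner_conjFun D (φ : D → ℂ) Θ g
      exact_mod_cast h2
    rw [h1, h3]
  have horb : ∀ φ : Cfsg.IrrCharacter D, (∃ g, act g φ ≠ φ) →
      p ∣ (Finset.univ.image (fun g : X => act g φ)).card := by
    intro φ hex
    have hcard : (Finset.univ.image (fun g : X => act g φ)).card =
        (conjStab D (φ : D → ℂ)).index := by
      rw [← card_conj_orbit D (φ : D → ℂ)]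
      have h1 : (Finset.univ : Finset X).image (fun g : X => conjFun D (φ : D → ℂ) g) =
          ((Finset.univ : Finset X).image (fun g : X => act g φ)).image Subtype.val := by
        rw [Finset.image_image]
        rfl
      rw [h1, Finset.card_image_of_injective _ Subtype.val_injective]
    rw [hcard]
    have hle : D ≤ conjStab D (φ : D → ℂ) :=
      le_conjStab_of_isClassFunction D _
        (IsCharacter.isClassFunction (IsIrrCharacter.isCharacter φ.2))
    obtain ⟨k, hk⟩ := hidx
    have hdvd : (conjStab D (φ : D → ℂ)).index ∣ p ^ k := by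
      rw [← hk]
      exact Subgroup.index_dvd_of_le hle
    obtain ⟨j, -, hj⟩ := (Nat.dvd_prime_pow hp).mp hdvd
    rw [hj]
    rcases Nat.eq_zero_or_pos j with h0 | hpos
    · exfalso
      rw [h0, pow_zero] at hj
      have htop := Subgroup.index_eq_one.mp hj
      obtain ⟨g, hg⟩ := hex
      apply hg
      apply Subtype.ext
      have : g ∈ conjStab D (φ : D → ℂ) := by rw [htop]; exact Subgroup.mem_top g
      exact (mem_conjStab D _ g).mp this
    · exact dvd_pow_self p hpos.ne'
  have hmod := sum_modEq_sum_fixed_of_orbit act h1act hmulact p (fun φ => u φ * v φ) hFact horb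
  rw [← hbsum] at hmod
  have hex : ∃ φ : Cfsg.IrrCharacter D, (∀ g, act g φ = φ) ∧ ¬ p ∣ u φ * v φ := by
    by_contra hno
    push Not at hno
    have hz : p ∣ ∑ φ ∈ Finset.univ.filter (fun φ => ∀ g, act g φ = φ), u φ * v φ := by
      apply Finset.dvd_sum
      intro φ hφ
      simp only [Finset.mem_filter, Finset.mem_univ, true_and] at hφ
      exact hno φ hφ
    have := (Nat.modEq_zero_iff_dvd.mpr hz)
    exact hpb (Nat.modEq_zero_iff_dvd.mp (hmod.trans this))
  obtain ⟨φ, hφfix, hφp⟩ := hex
  refine ⟨(φ : D → ℂ), φ.2, ?_, v φ, ?_, ?_⟩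
  · intro x
    exact congrArg Subtype.val (hφfix x)
  · intro h
    exact hφp (Dvd.dvd.mul_left h _)
  · rw [classInner_conj_symm, hv, Complex.conj_natCast]

end Cfsg.Agent.Helper6
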