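import Mathlib
import Cfsg.Prelude.Def_Characters
import Cfsg.Agent.Helper6.Dade1
import Cfsg.Agent.Helper6.Dade2

/-!
# Dade's lemma on invariant characters over quotients of prime power order
-/

set_option autoImplicit false
set_option linter.style.haveILetI false

namespace Cfsg.Agent.Helper6

open scoped ComplexConjugate

universe u

variable {G : Type u} [Group G]

theorem list_sum_eq_mul {α : Type*} (l : List α) (f : α → ℂ) (p : ℕ)
    (h : ∀ t ∈ l, ∃ z : ℤ, f t = (p : ℂ) * z) : ∃ z : ℤ, (l.map f).sum = (p : ℂ) * z := by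
  induction l with
  | nil => exact ⟨0, by simp⟩
  | cons t l ih =>
    obtain ⟨z₁, hz₁⟩ := h t (List.mem_cons_self)
    obtain ⟨z₂, hz₂⟩ := ih (fun s hs => h s (List.mem_cons_of_mem _ hs))
    refine ⟨z₁ + z₂, ?_⟩
    rw [List.map_cons, List.sum_cons, hz₁, hz₂]
    push_cast
    ring

set_option maxHeartbeats 800000 in
theorem dade_step1 [Fintype G] (p : ℕ) (hp : p.Prime) (N : Subgroup G) [hN : N.Normal]
    [Fintype N] (hind : ∃ k : ℕ, N.index = p ^ k) (ϑ : N → ℂ) (hϑ : Cfsg.IsIrrCharacter N ϑ)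
    (hinv : ∀ (g : G) (n : N), ϑ ⟨g * n * g⁻¹, hN.conj_mem (n : G) n.2 g⟩ = ϑ n) :
    ∃ (E : Subgroup G) (ψ : E → ℂ), Cfsg.IsElementary p E ∧ Cfsg.IsCharacter E ψ ∧ N ⊔ E = ⊤ ∧
      ∃ (_ : Fintype (N.subgroupOf E)) (b : ℕ), ¬ p ∣ b ∧
        Cfsg.classInner (resSub N ϑ E * fun d : N.subgroupOf E => ψ d) (resSub N ϑ E) = b := by
  classical
  obtain ⟨m, hm, hmem⟩ := local_brauer (G := G) p hp
  have h1mem := hmem (fun _ => 1) (IsIrrCharacter.isCharacter isIrrCharacter_one)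
  obtain ⟨l, hl, hsum⟩ := BrauerSpan.exists_list h1mem
  by_contra hno
  push Not at hno
  -- the functional
  set Φ : (G → ℂ) → ℂ := fun f => Cfsg.classInner (ϑ * fun n : N => f n) ϑ with hΦ
  have hΦadd : ∀ f g, Φ (f + g) = Φ f + Φ g := by
    intro f g
    simp only [hΦ]
    rw [← classInner_add_left]
    congr 1
    funext n
    simp only [Pi.mul_apply, Pi.add_apply]
    ring
  have hΦsmul : ∀ (c : ℂ) f, Φ (c • f) = c * Φ f := by
    intro c f
    simp only [hΦ]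
    rw [← classInner_smul_left]
    congr 1
    funext n
    simp only [Pi.mul_apply, Pi.smul_apply, smul_eq_mul]
    ring
  have hΦzero : Φ 0 = 0 := by
    simp only [hΦ]
    have : (ϑ * fun n : N => (0 : G → ℂ) n) = 0 := by
      funext n
      simp
    rw [this, classInner_zero_left]
  have hΦlist : ∀ l' : List ((E : Subgroup G) × ((E → ℂ) × ℤ)),
      Φ ((l'.map fun t => (t.2.2 : ℂ) • Cfsg.indFun t.1 t.2.1).sum) =
        (l'.map fun t => (t.2.2 : ℂ) * Φ (Cfsg.indFun t.1 t.2.1)).sum := by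
    intro l'
    induction l' with
    | nil => simpa using hΦzero
    | cons t l' ih =>
      rw [List.map_cons, List.sum_cons, hΦadd, hΦsmul, ih, List.map_cons, List.sum_cons]
  have hΦm : Φ ((m : ℂ) • fun _ : G => (1 : ℂ)) = m := by
    rw [hΦsmul]
    simp only [hΦ]
    have : (ϑ * fun n : N => (fun _ : G => (1 : ℂ)) n) = ϑ := by
      funext n
      simp
    rw [this, classInner_irr_self hϑ, mul_one]
  rw [hsum, hΦlist] at hΦm
  obtain ⟨k, hk⟩ := hind
  have hterms : ∀ t ∈ l, ∃ z : ℤ,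
      (t.2.2 : ℂ) * Φ (Cfsg.indFun t.1 t.2.1) = (p : ℂ) * z := by
    intro t ht
    obtain ⟨hEt, hψt⟩ := hl t ht
    haveI : Fintype t.1 := Fintype.ofFinite _
    haveI : Fintype (N.subgroupOf t.1) := Fintype.ofFinite _
    have hval := classInner_mul_indFun N ϑ hinv t.1 t.2.1
    simp only [hΦ]
    rw [hval]
    have hΘc : Cfsg.IsCharacter (N.subgroupOf t.1) (resSub N ϑ t.1) :=
      IsCharacter.comp_hom ((Subgroup.inclusion (le_refl N)).comp
        (⟨⟨fun d : N.subgroupOf t.1 => (⟨((d : t.1) : G), Subgroup.mem_subgroupOf.mp d.2⟩ : N),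
          rfl⟩, fun a b => rfl⟩ : N.subgroupOf t.1 →* N)) (IsIrrCharacter.isCharacter hϑ)
    obtain ⟨b, hb⟩ := classInner_char_char_nat
      (IsCharacter.mul hΘc (IsCharacter.restrict (N.subgroupOf t.1) hψt)) hΘc
    rw [hb]
    by_cases htop : N ⊔ t.1 = ⊤
    · have hpb : p ∣ b := by
        by_contra hpb
        exact hno t.1 t.2.1 hEt hψt htop inferInstance b hpb hb
      obtain ⟨c, hc⟩ := hpb
      refine ⟨t.2.2 * c, ?_⟩
      rw [htop, Subgroup.index_top, hc]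
      push_cast
      ring
    · have hdvd : (N ⊔ t.1).index ∣ p ^ k := by
        rw [← hk]
        exact Subgroup.index_dvd_of_le le_sup_left
      obtain ⟨j, -, hj⟩ := (Nat.dvd_prime_pow hp).mp hdvd
      have hj0 : j ≠ 0 := by
        rintro rfl
        rw [pow_zero] at hj
        exact htop (Subgroup.index_eq_one.mp hj)
      obtain ⟨j', rfl⟩ := Nat.exists_eq_succ_of_ne_zero hj0
      refine ⟨t.2.2 * p ^ j' * b, ?_⟩
      rw [hj, pow_succ]
      push_cast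
      ring
  obtain ⟨z, hz⟩ := list_sum_eq_mul l _ p hterms
  rw [hz] at hΦm
  have hint : (p : ℤ) * z = m := by exact_mod_cast hΦm
  exact hm ⟨z, hint.symm⟩

end Cfsg.Agent.Helper6

namespace Cfsg.Agent.Helper6

open scoped ComplexConjugate

universe u

variable {G : Type u} [Group G]

/-- The identification of `E ⊓ N` with `N.subgroupOf E`. -/
def infEquivSubgroupOf (E N : Subgroup G) : ↥(E ⊓ N) ≃* N.subgroupOf E where
  toFun x := ⟨⟨(x : G), x.2.1⟩, Subgroup.mem_subgroupOf.mpr x.2.2⟩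
  invFun d := ⟨((d : E) : G), ⟨(d : E).2, Subgroup.mem_subgroupOf.mp d.2⟩⟩
  left_inv _ := rfl
  right_inv _ := rfl
  map_mul' _ _ := rfl

set_option maxHeartbeats 800000 in
theorem dade_lemma [Fintype G] (p : ℕ) (hp : p.Prime) (N : Subgroup G) [hN : N.Normal]
    (hind : ∃ k : ℕ, N.index = p ^ k) (ϑ : N → ℂ) (hϑ : Cfsg.IsIrrCharacter N ϑ)
    (hinv : ∀ (g : G) (n : N), ϑ ⟨g * n * g⁻¹, hN.conj_mem (n : G) n.2 g⟩ = ϑ n) :
    ∃ (E : Subgroup G) (φ : ↥(E ⊓ N) → ℂ), Cfsg.IsElementary p E ∧ E ⊔ N = ⊤ ∧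
      Cfsg.IsIrrCharacter ↥(E ⊓ N) φ ∧
      (∀ (g : G) (hg : g ∈ E) (x : ↥(E ⊓ N)),
        φ ⟨g * x * g⁻¹, ⟨(E.mul_mem (E.mul_mem hg x.2.1) (E.inv_mem hg)),
          hN.conj_mem (x : G) x.2.2 g⟩⟩ = φ x) ∧
      ∃ m : ℕ, ¬ p ∣ m ∧ (Nat.card ↥(E ⊓ N) : ℂ)⁻¹ *
        ∑ᶠ x : ↥(E ⊓ N), ϑ ⟨(x : G), x.2.2⟩ * conj (φ x) = (m : ℂ) := by
  classical
  haveI : Fintype N := Fintype.ofFinite N
  obtain ⟨E, ψ, hE, hψ, htop, inst, b, hpb, hb⟩ := dade_step1 p hp N hind ϑ hϑ hinv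
  haveI : Fintype E := Fintype.ofFinite E
  have hidx : ∃ k : ℕ, (N.subgroupOf E).index = p ^ k := by
    obtain ⟨k, hk⟩ := hind
    refine ⟨k, ?_⟩
    have h1 : (N.subgroupOf E).index = N.relIndex E := rfl
    rw [h1, ← Subgroup.relIndex_sup_left E N, htop, Subgroup.relIndex_top_right, hk]
  have hΘc : Cfsg.IsCharacter (N.subgroupOf E) (resSub N ϑ E) :=
    IsCharacter.comp_hom
      (⟨⟨fun d : N.subgroupOf E => (⟨((d : E) : G), Subgroup.mem_subgroupOf.mp d.2⟩ : N),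
        rfl⟩, fun a b => rfl⟩ : N.subgroupOf E →* N) (IsIrrCharacter.isCharacter hϑ)
  have hΘinv : ∀ x : E, conjFun (N.subgroupOf E) (resSub N ϑ E) x = resSub N ϑ E := by
    intro x
    funext d
    exact resSub_inv hinv E x d
  obtain ⟨φ, hφirr, hφinv, m, hpm, hm⟩ := exists_invariant_constituent p hp (N.subgroupOf E) hidx
    (resSub N ϑ E) hΘc hΘinv ψ hψ b hb hpb
  set ι := infEquivSubgroupOf E N with hι
  refine ⟨E, φ ∘ ι, hE, by rw [sup_comm]; exact htop, IsIrrCharacter.comp_mulEquiv ι hφirr,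
    ?_, m, hpm, ?_⟩
  · intro g hg x
    have h1 := congrFun (hφinv ⟨g, hg⟩) (ι x)
    exact h1
  · haveI : Fintype ↥(E ⊓ N) := Fintype.ofFinite _
    rw [finsum_eq_sum_of_fintype, ← hm, classInner_def,
      Nat.card_congr ι.toEquiv]
    congr 1
    rw [← Equiv.sum_comp ι.toEquiv]
    rfl

end Cfsg.Agent.Helper6
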