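import Mathlib
import Cfsg.Prelude.Def_Characters
import Cfsg.Agent.Helper6.IrrBasis
import Cfsg.Agent.Helper6.Linear
import Cfsg.Agent.Helper6.Induced

/-!
# Character values at `x * y` for commuting `x`, `y` with `x` of prime order
-/

set_option autoImplicit false
set_option linter.style.haveILetI false

namespace Cfsg.Agent.Helper6

universe u

variable {G : Type u} [Group G]

/-- Values of a character on an abelian subgroup are sums of values of homomorphisms; packaged as
an induction principle. -/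
theorem char_abelian_induction [Finite G] (hcomm : ∀ a b : G, a * b = b * a)
    (Q : (G → ℂ) → Prop) (h0 : Q 0) (hadd : ∀ φ ψ, Q φ → Q ψ → Q (φ + ψ))
    (hlin : ∀ lam : G →* ℂˣ, Q (fun g => ((lam g : ℂˣ) : ℂ)))
    (χ : G → ℂ) (hχ : Cfsg.IsCharacter G χ) : Q χ := by
  have hmem := (isCharacter_iff_mem_closure χ).mp hχ
  clear hχ
  induction hmem using AddSubmonoid.closure_induction with
  | mem ψ hψ =>
    have h1 : ψ 1 = 1 := (comm_iff_forall_irr_degree_one.mp hcomm) ⟨ψ, hψ⟩
    obtain ⟨lam, rfl⟩ := exists_hom_of_irr_degree_one hψ h1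
    exact hlin lam
  | zero => exact h0
  | add φ ψ _ _ hφ hψ => exact hadd φ ψ hφ hψ

theorem char_mul_sub_char_of_commute [Finite G] (χ : G → ℂ) (hχ : Cfsg.IsCharacter G χ) (p : ℕ)
    (hp : p.Prime) (ζ : ℂ) (hζ : IsPrimitiveRoot ζ p) (x y : G) (hx : x ^ p = 1)
    (hxy : x * y = y * x) :
    ∃ ω : ℂ, IsIntegral ℤ ω ∧ χ (x * y) - χ y = (1 - ζ) * ω := by
  classical
  haveI : NeZero p := ⟨hp.ne_zero⟩
  have hk : ∀ a ∈ ({x, y} : Set G), ∀ b ∈ ({x, y} : Set G), a * b = b * a := by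
    intro a ha b hb
    rcases ha with rfl | rfl <;> rcases hb with rfl | rfl
    · rfl
    · exact hxy
    · exact hxy.symm
    · rfl
  set A : Subgroup G := Subgroup.closure {x, y} with hA
  have hcommA : ∀ a b : A, a * b = b * a := by
    intro a b
    exact (Subgroup.isMulCommutative_closure hk).is_comm.comm a b
  have hxA : x ∈ A := Subgroup.subset_closure (by simp)
  have hyA : y ∈ A := Subgroup.subset_closure (by simp)
  have hres : Cfsg.IsCharacter A (fun a : A => χ a) := IsCharacter.restrict A hχ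
  have hζint : IsIntegral ℤ ζ := hζ.isIntegral hp.pos
  have key := char_abelian_induction hcommA
    (fun ψ : A → ℂ => ∃ ω : ℂ, IsIntegral ℤ ω ∧
      ψ (⟨x, hxA⟩ * ⟨y, hyA⟩) - ψ ⟨y, hyA⟩ = (1 - ζ) * ω)
    ⟨0, isIntegral_zero, by simp⟩
    (by
      rintro φ ψ ⟨ω₁, h1, e1⟩ ⟨ω₂, h2, e2⟩
      refine ⟨ω₁ + ω₂, h1.add h2, ?_⟩
      simp only [Pi.add_apply]
      rw [mul_add, ← e1, ← e2]
      ring)
    (by
      intro lam
      have hpow : ((lam ⟨x, hxA⟩ : ℂˣ) : ℂ) ^ p = 1 := by
        rw [← Units.val_pow_eq_pow_val, ← map_pow]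
        have : (⟨x, hxA⟩ : A) ^ p = 1 := Subtype.ext hx
        rw [this, map_one, Units.val_one]
      obtain ⟨j, -, hj⟩ := hζ.eq_pow_of_pow_eq_one hpow
      have hyint : IsIntegral ℤ ((lam ⟨y, hyA⟩ : ℂˣ) : ℂ) := by
        have hpos : 0 < orderOf (⟨y, hyA⟩ : A) := orderOf_pos _
        apply IsIntegral.of_pow hpos
        rw [← Units.val_pow_eq_pow_val, ← map_pow, pow_orderOf_eq_one, map_one, Units.val_one]
        exact isIntegral_one
      refine ⟨-(((lam ⟨y, hyA⟩ : ℂˣ) : ℂ) * ∑ i ∈ Finset.range j, ζ ^ i), ?_, ?_⟩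
      · apply IsIntegral.neg
        apply hyint.mul
        apply IsIntegral.sum
        intro i _
        exact hζint.pow i
      · beta_reduce
        rw [map_mul, Units.val_mul, ← hj]
        have hg := geom_sum_mul ζ j
        linear_combination (-((lam ⟨y, hyA⟩ : ℂˣ) : ℂ)) * hg)
    (fun a : A => χ a) hres
  obtain ⟨ω, hω, e⟩ := key
  exact ⟨ω, hω, e⟩

end Cfsg.Agent.Helper6
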