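import Mathlib
import Cfsg.Prelude.Def_Characters
import Cfsg.Agent.Helper6.Brauer10
import Cfsg.Agent.Helper6.LinearExt
import Cfsg.Agent.Helper6.CommPair

/-!
# Commutators of elementary subgroups and extension of characters avoiding the commutator
-/

set_option autoImplicit false
set_option linter.style.haveILetI false

namespace Cfsg.Agent.Helper6

open scoped ComplexConjugate
open scoped commutatorElement

universe u

theorem commutator_le_of_central_sup {E : Type u} [Group E] (C Q : Subgroup E)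
    (hC : C ≤ Subgroup.center E) (hsup : C ⊔ Q = ⊤) : commutator E ≤ ⁅Q, Q⁆ := by
  rw [commutator_def, Subgroup.commutator_le]
  intro a _ b _
  haveI : C.Normal := normal_of_le_center C hC
  have ha : a ∈ (↑(C ⊔ Q) : Set E) := by rw [hsup]; trivial
  have hb : b ∈ (↑(C ⊔ Q) : Set E) := by rw [hsup]; trivial
  rw [Subgroup.normal_mul] at ha hb
  obtain ⟨c₁, hc₁, q₁, hq₁, rfl⟩ := Set.mem_mul.mp ha
  obtain ⟨c₂, hc₂, q₂, hq₂, rfl⟩ := Set.mem_mul.mp hb
  have h1 : ∀ z, z * c₁ = c₁ * z := fun z => (Subgroup.mem_center_iff.mp (hC hc₁) z)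
  have h2 : ∀ z, z * c₂ = c₂ * z := fun z => (Subgroup.mem_center_iff.mp (hC hc₂) z)
  have hkey : ⁅c₁ * q₁, c₂ * q₂⁆ = ⁅q₁, q₂⁆ := by
    rw [commutatorElement_def, commutatorElement_def]
    have e1 : c₁ * q₁ * (c₂ * q₂) * (c₁ * q₁)⁻¹ * (c₂ * q₂)⁻¹ =
        c₁ * (q₁ * c₂) * q₂ * (q₁⁻¹ * c₁⁻¹) * (q₂⁻¹ * c₂⁻¹) := by
      rw [mul_inv_rev, mul_inv_rev]
      simp only [mul_assoc]
    rw [e1, h2 q₁]
    have e2 : c₁ * (c₂ * q₁) * q₂ * (q₁⁻¹ * c₁⁻¹) * (q₂⁻¹ * c₂⁻¹) =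
        c₁ * (c₂ * (q₁ * q₂ * q₁⁻¹)) * (c₁⁻¹ * q₂⁻¹) * c₂⁻¹ := by
      simp only [mul_assoc]
    rw [e2, ← h2 (q₁ * q₂ * q₁⁻¹)]
    have e3 : c₁ * (q₁ * q₂ * q₁⁻¹ * c₂) * (c₁⁻¹ * q₂⁻¹) * c₂⁻¹ =
        (c₁ * (q₁ * q₂ * q₁⁻¹)) * (c₂ * c₁⁻¹) * q₂⁻¹ * c₂⁻¹ := by
      simp only [mul_assoc]
    rw [e3, ← h1 (q₁ * q₂ * q₁⁻¹)]
    have e4 : q₁ * q₂ * q₁⁻¹ * c₁ * (c₂ * c₁⁻¹) * q₂⁻¹ * c₂⁻¹ =
        q₁ * q₂ * q₁⁻¹ * ((c₁ * c₂) * c₁⁻¹) * q₂⁻¹ * c₂⁻¹ := by
      simp only [mul_assoc]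
    rw [e4, ← h1 c₂, mul_inv_cancel_right]
    have e5 : q₁ * q₂ * q₁⁻¹ * c₂ * q₂⁻¹ * c₂⁻¹ = q₁ * q₂ * q₁⁻¹ * ((c₂ * q₂⁻¹) * c₂⁻¹) := by
      simp only [mul_assoc]
    rw [e5, ← h2 q₂⁻¹, mul_inv_cancel_right]
  rw [hkey]
  exact Subgroup.commutator_mem_commutator hq₁ hq₂

theorem elementary_sup_sylow {E : Type u} [Group E] [Finite E] {p : ℕ} [hp : Fact p.Prime]
    (hE : Cfsg.IsElementary p E) (Q : Sylow p E) :
    ∃ C : Subgroup E, C ≤ Subgroup.center E ∧ C ⊔ (Q : Subgroup E) = ⊤ := by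
  obtain ⟨x, hx, hcop, k, hk⟩ := hE
  refine ⟨Subgroup.zpowers x, (Subgroup.zpowers_le).mpr hx, ?_⟩
  set C := Subgroup.zpowers x with hC
  have hCcard : Nat.card C = orderOf x := Nat.card_zpowers x
  have hcop' : Nat.Coprime (Nat.card C) p := by rw [hCcard]; exact hcop
  have hQcard : Nat.card (Q : Subgroup E) = p ^ k := sylow_card_of_coprime_index C hcop' hk Q
  have hEcard : Nat.card E = Nat.card C * p ^ k := by rw [← hk, Subgroup.card_mul_index]
  have h1 : Nat.card C ∣ Nat.card (C ⊔ (Q : Subgroup E) : Subgroup E) :=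
    Subgroup.card_dvd_of_le le_sup_left
  have h2 : p ^ k ∣ Nat.card (C ⊔ (Q : Subgroup E) : Subgroup E) := by
    rw [← hQcard]
    exact Subgroup.card_dvd_of_le le_sup_right
  have h3 : Nat.card C * p ^ k ∣ Nat.card (C ⊔ (Q : Subgroup E) : Subgroup E) :=
    Nat.Coprime.mul_dvd_of_dvd_of_dvd (Nat.Coprime.pow_right k hcop') h1 h2
  rw [← hEcard] at h3
  apply Subgroup.eq_top_of_le_card
  exact Nat.le_of_dvd Nat.card_pos h3

end Cfsg.Agent.Helper6

namespace Cfsg.Agent.Helper6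

open scoped ComplexConjugate
open scoped commutatorElement

universe u

variable {G : Type u} [Group G]

set_option maxHeartbeats 800000 in
theorem inter_commutator_sylow_eq_one [Finite G] (p : ℕ) [Fact p.Prime] (N : Subgroup G)
    (P : Sylow p G)
    (hcent : ∀ x ∈ (P : Subgroup G) ⊓ N, ∀ y ∈ (P : Subgroup G), x * y = y * x)
    (hlin : ∀ lam : ↥((P : Subgroup G) ⊓ N) → ℂ,
      Cfsg.IsCharacter ↥((P : Subgroup G) ⊓ N) lam → lam 1 = 1 →
      ∃ μ : ↥(P : Subgroup G) → ℂ, Cfsg.IsCharacter ↥(P : Subgroup G) μ ∧ μ 1 = 1 ∧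
        ∀ x : ↥((P : Subgroup G) ⊓ N), μ ⟨(x : G), x.2.1⟩ = lam x)
    (y : G) (hyN : y ∈ N) (hyP : y ∈ ⁅(P : Subgroup G), (P : Subgroup G)⁆) : y = 1 := by
  have hyP' : y ∈ (P : Subgroup G) := Subgroup.commutator_le_self _ hyP
  by_contra hne
  letI : CommGroup ↥((P : Subgroup G) ⊓ N) :=
    { (inferInstance : Group ↥((P : Subgroup G) ⊓ N)) with
      mul_comm := fun a b => Subtype.ext (hcent a a.2 b b.2.1) }
  haveI : NeZero ((Monoid.exponent ↥((P : Subgroup G) ⊓ N) : ℕ) : ℂ) := by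
    constructor
    have : Monoid.exponent ↥((P : Subgroup G) ⊓ N) ≠ 0 := Monoid.exponent_ne_zero_of_finite
    exact_mod_cast this
  have hy' : (⟨y, hyP', hyN⟩ : ↥((P : Subgroup G) ⊓ N)) ≠ 1 := by
    intro h
    exact hne (congrArg Subtype.val h)
  obtain ⟨lam₀, hlam₀⟩ :=
    CommGroup.exists_apply_ne_one_of_hasEnoughRootsOfUnity ↥((P : Subgroup G) ⊓ N) ℂ hy'
  obtain ⟨μ, hμc, hμ1, hμres⟩ := hlin (fun a => ((lam₀ a : ℂˣ) : ℂ))
    (IsIrrCharacter.isCharacter (isIrrCharacter_of_hom lam₀)) (by simp)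
  obtain ⟨M, hM⟩ := exists_hom_of_char_degree_one hμc hμ1
  rw [← Subgroup.map_subtype_commutator] at hyP
  obtain ⟨z, hz, hzy⟩ := Subgroup.mem_map.mp hyP
  have hMz : M z = 1 := Abelianization.commutator_subset_ker M hz
  have h1 := hμres ⟨y, hyP', hyN⟩
  have hzeq : z = ⟨y, hyP'⟩ := Subtype.ext hzy
  rw [hM] at h1
  simp only at h1
  rw [← hzeq, hMz] at h1
  apply hlam₀
  apply Units.ext
  rw [← h1]

set_option maxHeartbeats 800000 in
theorem elementary_commutator_inter [Finite G] (p : ℕ) [Fact p.Prime] (N : Subgroup G)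
    [hN : N.Normal] (P : Sylow p G)
    (hPN : ∀ y : G, y ∈ N → y ∈ ⁅(P : Subgroup G), (P : Subgroup G)⁆ → y = 1)
    (E : Subgroup G) (hE : Cfsg.IsElementary p E) (z : E) (hz : z ∈ commutator E)
    (hzN : (z : G) ∈ N) : z = 1 := by
  obtain ⟨Q⟩ : Nonempty (Sylow p E) := inferInstance
  obtain ⟨C, hC, hsup⟩ := elementary_sup_sylow hE Q
  have h1 : z ∈ ⁅(Q : Subgroup E), (Q : Subgroup E)⁆ :=
    commutator_le_of_central_sup C Q hC hsup hz
  have h2 : (z : G) ∈ (⁅(Q : Subgroup E), (Q : Subgroup E)⁆).map E.subtype :=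
    Subgroup.mem_map.mpr ⟨z, h1, rfl⟩
  rw [Subgroup.map_commutator] at h2
  have hQG : IsPGroup p ↥((Q : Subgroup E).map E.subtype) := Q.isPGroup'.map _
  obtain ⟨P', hP'⟩ := hQG.exists_le_sylow
  obtain ⟨g, hg⟩ := MulAction.exists_smul_eq G P P'
  have h3 : (z : G) ∈ ⁅(P' : Subgroup G), (P' : Subgroup G)⁆ :=
    Subgroup.commutator_mono hP' hP' h2
  have hP'map : (P' : Subgroup G) = (P : Subgroup G).map (MulAut.conj g).toMonoidHom := by
    rw [← hg, Sylow.coe_subgroup_smul]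
    ext x
    rw [Subgroup.mem_pointwise_smul_iff_inv_smul_mem, Subgroup.mem_map]
    constructor
    · intro hx
      refine ⟨(MulAut.conj g)⁻¹ • x, hx, ?_⟩
      simp only [MulAut.smul_def, MulEquiv.coe_toMonoidHom, MulAut.conj_inv_apply,
        MulAut.conj_apply]
      group
    · rintro ⟨w, hw, rfl⟩
      simp only [MulAut.smul_def, MulEquiv.coe_toMonoidHom, MulAut.conj_inv_apply,
        MulAut.conj_apply]
      have : g⁻¹ * (g * w * g⁻¹) * g = w := by group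
      rw [this]
      exact hw
  rw [hP'map, ← Subgroup.map_commutator] at h3
  obtain ⟨w, hw, hwz⟩ := Subgroup.mem_map.mp h3
  have hwz' : g * w * g⁻¹ = (z : G) := hwz
  have hwN : w ∈ N := by
    have : w = g⁻¹ * (z : G) * g⁻¹⁻¹ := by rw [← hwz']; group
    rw [this]
    exact hN.conj_mem _ hzN g⁻¹
  have hw1 := hPN w hwN hw
  apply Subtype.ext
  rw [← hwz', hw1]
  simp

set_option maxHeartbeats 800000 in
theorem extend_of_inter_commutator {E : Type u} [Group E] [Finite E] (D : Subgroup E)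
    (hD : ∀ d : D, (d : E) ∈ commutator E → d = 1) (φ : D → ℂ)
    (hφ : Cfsg.IsIrrCharacter D φ) :
    ∃ μ : E →* ℂˣ, ∀ d : D, ((μ d : ℂˣ) : ℂ) = φ d := by
  set f : D →* Abelianization E := (Abelianization.of).comp D.subtype with hf
  have hinj : Function.Injective f := by
    rw [injective_iff_map_eq_one]
    intro d hd
    apply hD
    rw [← Abelianization.ker_of, MonoidHom.mem_ker]
    exact hd
  have hcomm : ∀ a b : D, a * b = b * a := by
    intro a b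
    apply hinj
    rw [map_mul, map_mul, mul_comm]
  have hφ1 : φ 1 = 1 := (comm_iff_forall_irr_degree_one.mp hcomm) ⟨φ, hφ⟩
  obtain ⟨lam, hlam⟩ := exists_hom_of_irr_degree_one hφ hφ1
  let e : D ≃* f.range := MonoidHom.ofInjective hinj
  haveI : NeZero ((Monoid.exponent (Abelianization E) : ℕ) : ℂ) := by
    constructor
    have : Monoid.exponent (Abelianization E) ≠ 0 := Monoid.exponent_ne_zero_of_finite
    exact_mod_cast this
  obtain ⟨ν, hν⟩ := MonoidHom.domRestrict_surjective ℂ f.range (lam.comp e.symm.toMonoidHom)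
  refine ⟨ν.comp Abelianization.of, ?_⟩
  intro d
  have h1 : (MonoidHom.domRestrictHom f.range ℂˣ ν) (e d) = (lam.comp e.symm.toMonoidHom) (e d) := by
    rw [hν]
  rw [MonoidHom.domRestrictHom_apply] at h1
  have h2 : (lam.comp e.symm.toMonoidHom) (e d) = lam d := by
    change lam (e.symm (e d)) = lam d
    rw [MulEquiv.symm_apply_apply]
  rw [h2] at h1
  have h3 : (ν.comp Abelianization.of) (d : E) = (ν.domRestrict f.range) (e d) := rfl
  rw [h3, h1, hlam]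

end Cfsg.Agent.Helper6
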