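import Mathlib
import Cfsg.Prelude.Def_Characters
import Cfsg.Agent.Helper6.DetExt2
import Cfsg.Agent.Helper6.AbelianInertia
import Cfsg.Agent.Helper6.CliffordCorr2
import Cfsg.Agent.Helper6.Degrees
import Cfsg.Agent.Helper6.CliffordOrbit

/-!
# Degrees of characters over an invariant character, for quotients of prime power order
-/

set_option autoImplicit false
set_option linter.style.haveILetI false

namespace Cfsg.Agent.Helper6

open Module
open scoped ComplexConjugate

universe u

set_option maxHeartbeats 1600000 in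
/-- If `G/N` is a `p`-group, `ϑ` is an invariant irreducible character of `N` and `χ` is an
irreducible character of `G` whose restriction to `N` is a nonzero multiple of `ϑ`, then
`χ(1) / ϑ(1)` is a power of `p`. -/
theorem degree_pow_of_pgroup_quotient (p : ℕ) [hp : Fact p.Prime] : ∀ (j : ℕ) (G : Type u)
    [Group G] [Finite G] (N : Subgroup G) [hN : N.Normal], N.index = p ^ j → ∀ (ϑ : N → ℂ),
    Cfsg.IsIrrCharacter N ϑ →
    (∀ (g : G) (n : N), ϑ ⟨g * n * g⁻¹, hN.conj_mem (n : G) n.2 g⟩ = ϑ n) →
    ∀ (χ : G → ℂ), Cfsg.IsIrrCharacter G χ → (∃ c : ℂ, c ≠ 0 ∧ ∀ n : N, χ n = c * ϑ n) →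
    ∃ i : ℕ, χ 1 = (p : ℂ) ^ i * ϑ 1 := by
  intro j
  induction j with
  | zero =>
    intro G _ _ N hN hj ϑ hϑ hinv χ hχ hover
    classical
    haveI := Fintype.ofFinite G
    rw [pow_zero] at hj
    have htop : N = ⊤ := Subgroup.index_eq_one.mp hj
    subst htop
    haveI : Fintype (⊤ : Subgroup G) := Fintype.ofFinite _
    obtain ⟨c, hc0, hc⟩ := hover
    have hχtop : Cfsg.IsIrrCharacter (⊤ : Subgroup G) (fun n : (⊤ : Subgroup G) => χ n) :=
      IsIrrCharacter.comp_mulEquiv (Subgroup.topEquiv (G := G)) hχ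
    have heq : (fun n : (⊤ : Subgroup G) => χ n) = ϑ := by
      by_contra hne
      have h1 := classInner_irr_ne hχtop hϑ hne
      have h2 : (fun n : (⊤ : Subgroup G) => χ n) = c • ϑ := by
        funext n
        rw [hc n]
        rfl
      rw [h2, classInner_smul_left, classInner_irr_self hϑ, mul_one] at h1
      exact hc0 h1
    refine ⟨0, ?_⟩
    rw [pow_zero, one_mul]
    exact congrFun heq 1
  | succ j ih =>
    intro G _ _ N hN hj ϑ hϑ hinv χ hχ hover
    classical
    haveI := Fintype.ofFinite G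
    haveI : Fintype N := Fintype.ofFinite N
    obtain ⟨c, hc0, hc⟩ := hover
    -- a normal subgroup of index p containing N
    have hQcard : Nat.card (G ⧸ N) = p ^ (j + 1) := by rw [← Subgroup.index_eq_card, hj]
    haveI : Nontrivial (G ⧸ N) := by
      rw [← Finite.one_lt_card_iff_nontrivial, hQcard]
      exact Nat.one_lt_pow (Nat.succ_ne_zero j) hp.out.one_lt
    haveI : Group.IsNilpotent (G ⧸ N) := (IsPGroup.of_card hQcard).isNilpotent
    have hcomm : commutator (G ⧸ N) ≠ ⊤ :=
      (Group.IsSolvable.commutator_lt_top_of_nontrivial (G ⧸ N)).ne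
    obtain ⟨μ₀, q, hq, hμ₀⟩ := exists_hom_ker_index_prime hcomm
    set f : G →* ℂˣ := μ₀.comp (QuotientGroup.mk' N) with hf
    set K : Subgroup G := f.ker with hK
    have hNK : N ≤ K := by
      intro x hx
      rw [hK, MonoidHom.mem_ker, hf, MonoidHom.comp_apply]
      have : (QuotientGroup.mk' N) x = 1 := (QuotientGroup.eq_one_iff x).mpr hx
      rw [this, map_one]
    have hKidx' : K.index = q := by
      rw [hK, Subgroup.index_ker, ← hμ₀, Subgroup.index_ker]
      congr 1
      rw [hf, MonoidHom.range_comp, MonoidHom.range_eq_top.mpr (QuotientGroup.mk'_surjective N),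
        ← MonoidHom.range_eq_map]
    have hqp : q = p := by
      have h1 : K.index ∣ N.index := Subgroup.index_dvd_of_le hNK
      rw [hKidx', hj] at h1
      exact (Nat.prime_dvd_prime_iff_eq hq hp.out).mp (hq.dvd_of_dvd_pow h1)
    have hKidx : K.index = p := by rw [hKidx', hqp]
    haveI hKn : K.Normal := MonoidHom.normal_ker f
    haveI : Fintype K := Fintype.ofFinite K
    set N' : Subgroup K := N.subgroupOf K with hN'
    haveI hN'n : N'.Normal := Subgroup.Normal.subgroupOf hN K
    haveI : Fintype N' := Fintype.ofFinite N'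
    let ε : N' ≃* N := Subgroup.subgroupOfEquivOfLe hNK
    have hrel : N'.index * K.index = N.index := Subgroup.relIndex_mul_index hNK
    have hN'idx : N'.index = p ^ j := by
      rw [hKidx, hj, pow_succ] at hrel
      exact Nat.eq_of_mul_eq_mul_right hp.out.pos hrel
    set ϑ' : N' → ℂ := ϑ ∘ ε with hϑ'
    have hϑ'irr : Cfsg.IsIrrCharacter N' ϑ' := IsIrrCharacter.comp_mulEquiv ε hϑ
    have hϑ'inv : ∀ (g : K) (n : N'),
        ϑ' ⟨g * n * g⁻¹, hN'n.conj_mem (n : K) n.2 g⟩ = ϑ' n := by
      intro g n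
      have := hinv (g : G) (ε n)
      exact this
    have hϑ'inv' : ∀ x : K, conjFun N' ϑ' x = ϑ' := by
      intro x
      funext n
      exact hϑ'inv x n
    -- a constituent of χ_K over ϑ'
    haveI : Finite (Cfsg.IrrCharacter K) := irr_finite
    haveI : Fintype (Cfsg.IrrCharacter K) := Fintype.ofFinite _
    have hχK : Cfsg.IsCharacter K (fun k : K => χ k) :=
      IsCharacter.restrict K (IsIrrCharacter.isCharacter hχ)
    have hexpK := classFunction_expansion (fun k : K => χ k) (IsCharacter.isClassFunction hχK)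
    have hχN' : (fun n : N' => χ ((n : K) : G)) = c • ϑ' := by
      funext n
      exact hc (ε n)
    have hsum : c = ∑ ψ : Cfsg.IrrCharacter K, Cfsg.classInner (fun k : K => χ k) (ψ : K → ℂ) *
        Cfsg.classInner (fun n : N' => (ψ : K → ℂ) n) ϑ' := by
      have h1 : Cfsg.classInner (fun n : N' => χ ((n : K) : G)) ϑ' = c := by
        rw [hχN', classInner_smul_left, classInner_irr_self hϑ'irr, mul_one]
      rw [← h1]
      have h2 : (fun n : N' => χ ((n : K) : G)) =
          ∑ ψ : Cfsg.IrrCharacter K, Cfsg.classInner (fun k : K => χ k) (ψ : K → ℂ) •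
            (fun n : N' => (ψ : K → ℂ) n) := by
        funext n
        have h3 := congrFun hexpK (n : K)
        rw [Finset.sum_apply] at h3
        rw [Finset.sum_apply]
        exact h3
      rw [h2, classInner_sum_left]
      apply Finset.sum_congr rfl
      intro ψ _
      rw [classInner_smul_left]
    have hexψ : ∃ ψ : Cfsg.IrrCharacter K, Cfsg.classInner (fun k : K => χ k) (ψ : K → ℂ) ≠ 0 ∧
        Cfsg.classInner (fun n : N' => (ψ : K → ℂ) n) ϑ' ≠ 0 := by
      by_contra hno
      push Not at hno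
      apply hc0
      rw [hsum]
      apply Finset.sum_eq_zero
      intro ψ _
      by_cases h0 : Cfsg.classInner (fun k : K => χ k) (ψ : K → ℂ) = 0
      · rw [h0, zero_mul]
      · rw [hno ψ h0, mul_zero]
    obtain ⟨ψ, hψχ, hψϑ⟩ := hexψ
    have hψres := clifford_invariant_top N' ϑ' hϑ'irr hϑ'inv' (ψ : K → ℂ) ψ.2 hψϑ
    obtain ⟨i, hi⟩ := ih K N' hN'idx ϑ' hϑ'irr hϑ'inv (ψ : K → ℂ) ψ.2
      ⟨_, hψϑ, fun n => congrFun hψres n⟩
    have hϑ'1 : ϑ' 1 = ϑ 1 := by
      rw [hϑ', Function.comp_apply, map_one]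
    rw [hϑ'1] at hi
    by_cases hψinv : ∀ g : G, conjFun K (ψ : K → ℂ) g = (ψ : K → ℂ)
    · -- invariant case: χ restricts to ψ
      haveI : Finite (Cfsg.IrrCharacter G) := irr_finite
      haveI : Fintype (Cfsg.IrrCharacter G) := Fintype.ofFinite _
      have hab : ∀ x y : G, x * y * x⁻¹ * y⁻¹ ∈ K := by
        intro x y
        rw [hK, MonoidHom.mem_ker]
        simp only [map_mul, map_inv]
        rw [mul_comm (f x) (f y), mul_assoc (f y), mul_inv_cancel, mul_one, mul_inv_cancel]
      obtain ⟨e', Ψ, he'pos, hΨmem, hΨres, hΨcard, -⟩ :=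
        abelian_quotient_clifford K (ψ : K → ℂ) ψ.2 hψinv hab
      have he'1 : e' = 1 := by
        have h1 : Nat.card K * K.index = Nat.card G := Subgroup.card_mul_index K
        rw [hKidx] at h1
        have h2 : e' ^ 2 * Ψ.card * Nat.card K = Nat.card K * p := by rw [hΨcard, h1]
        have hK0 : 0 < Nat.card K := Nat.card_pos
        have h3 : e' ^ 2 * Ψ.card = p := by
          have : Nat.card K * (e' ^ 2 * Ψ.card) = Nat.card K * p := by rw [← h2]; ring
          exact Nat.eq_of_mul_eq_mul_left hK0 this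
        have h4 : e' ∣ p := ⟨e' * Ψ.card, by rw [← h3]; ring⟩
        rcases (Nat.dvd_prime hp.out).mp h4 with h5 | h5
        · exact h5
        · exfalso
          rw [h5] at h3
          have h6 : p * (p * Ψ.card) = p * 1 := by rw [mul_one]; nth_rewrite 3 [← h3]; ring
          have h7 := Nat.eq_of_mul_eq_mul_left hp.out.pos h6
          have h8 : p ∣ 1 := ⟨Ψ.card, h7.symm⟩
          exact hp.out.one_lt.ne' (Nat.dvd_one.mp h8)
      have hχover : Cfsg.classInner (fun n : K => χ n) (ψ : K → ℂ) ≠ 0 := hψχ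
      have h1 := hΨres ⟨χ, hχ⟩ ((hΨmem ⟨χ, hχ⟩).mpr hχover)
      rw [he'1, Nat.cast_one, one_smul] at h1
      refine ⟨i, ?_⟩
      rw [← hi]
      exact congrFun h1 1
    · -- non-invariant case: χ is induced from ψ
      push Not at hψinv
      obtain ⟨g₀, hg₀⟩ := hψinv
      have hKle : K ≤ conjStab K (ψ : K → ℂ) :=
        le_conjStab_of_isClassFunction K _
          (IsCharacter.isClassFunction (IsIrrCharacter.isCharacter ψ.2))
      have hTK : conjStab K (ψ : K → ℂ) = K := by
        have h1 : (conjStab K (ψ : K → ℂ)).index ∣ p := by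
          rw [← hKidx]
          exact Subgroup.index_dvd_of_le hKle
        rcases (Nat.dvd_prime hp.out).mp h1 with h2 | h2
        · exfalso
          have htop := Subgroup.index_eq_one.mp h2
          apply hg₀
          have : g₀ ∈ conjStab K (ψ : K → ℂ) := by rw [htop]; exact Subgroup.mem_top _
          exact (mem_conjStab K _ g₀).mp this
        · have h3 := Subgroup.relIndex_mul_index hKle
          rw [h2, hKidx] at h3
          have h4 : K.relIndex (conjStab K (ψ : K → ℂ)) = 1 := by
            have : K.relIndex (conjStab K (ψ : K → ℂ)) * p = 1 * p := by rw [h3, one_mul]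
            exact Nat.eq_of_mul_eq_mul_right hp.out.pos this
          exact le_antisymm (Subgroup.relIndex_eq_one.mp h4) hKle
      have hT' : ∀ g : G, g ∈ K ↔ conjFun K (ψ : K → ℂ) g = (ψ : K → ℂ) := by
        intro g
        rw [← mem_conjStab, hTK]
      have hf1 : Cfsg.classInner (fun n : K => (ψ : K → ℂ) ⟨(n : G), le_refl K n.2⟩)
          (ψ : K → ℂ) ≠ 0 := by
        have : (fun n : K => (ψ : K → ℂ) ⟨(n : G), le_refl K n.2⟩) = (ψ : K → ℂ) := rfl
        rw [this, classInner_irr_self ψ.2]
        exact one_ne_zero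
      obtain ⟨hindirr, -⟩ := clifford_corr_ind_irr K (ψ : K → ℂ) ψ.2 K hT' (le_refl K)
        (ψ : K → ℂ) ψ.2 hf1
      have hindχ : Cfsg.indFun K (ψ : K → ℂ) = χ := by
        by_contra hne
        have h1 := classInner_irr_ne hindirr hχ hne
        rw [frobenius_reciprocity K _ χ
          (IsCharacter.isClassFunction (IsIrrCharacter.isCharacter hχ))] at h1
        apply hψχ
        rw [classInner_conj_symm, h1, map_zero]
      refine ⟨i + 1, ?_⟩
      rw [← hindχ, indFun_apply_one, hKidx, hi, pow_succ]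
      ring

end Cfsg.Agent.Helper6
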