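import Mathlib
import Cfsg.Prelude.Def_Characters
import Cfsg.Agent.Helper6.Dade3
import Cfsg.Agent.Helper6.ElemExt
import Cfsg.Agent.Helper6.PPowDegree

/-!
# Extension of invariant characters over `p`-power index when the Sylow intersection is central
-/

set_option autoImplicit false
set_option linter.style.haveILetI false

namespace Cfsg.Agent.Helper6

open scoped ComplexConjugate

universe u

variable {G : Type u} [Group G]

set_option maxHeartbeats 800000 in
theorem sum_indFun_mul_invariant [Fintype G] (N : Subgroup G) [hN : N.Normal] [Fintype N]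
    (w : N → ℂ)
    (hinv : ∀ (g : G) (n : N), w ⟨g * n * g⁻¹, hN.conj_mem (n : G) n.2 g⟩ = w n)
    (E : Subgroup G) [Fintype E] [Fintype (N.subgroupOf E)] (ψ : E → ℂ) :
    (Nat.card E : ℂ) * ∑ n : N, Cfsg.indFun E ψ n * w n =
      (Nat.card G : ℂ) * ∑ d : N.subgroupOf E,
        ψ d * w ⟨((d : E) : G), Subgroup.mem_subgroupOf.mp d.2⟩ := by
  classical
  have hE0 : (Nat.card E : ℂ) ≠ 0 := by
    have : 0 < Nat.card E := Nat.card_pos
    exact_mod_cast this.ne'
  set A : ℂ := ∑ n : N, Cfsg.extendByZero E ψ (n : G) * w n with hA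
  have hx : ∀ x : G, ∑ n : N, Cfsg.extendByZero E ψ (x⁻¹ * (n : G) * x) * w n = A := by
    intro x
    rw [hA]
    rw [← Equiv.sum_comp (MulAut.conjNormal x : N ≃* N).toEquiv]
    apply Finset.sum_congr rfl
    intro n _
    have h1 : ((MulAut.conjNormal x : N ≃* N).toEquiv n : N) =
        ⟨x * (n : G) * x⁻¹, hN.conj_mem (n : G) n.2 x⟩ := by
      apply Subtype.ext
      exact MulAut.conjNormal_apply x n
    rw [h1, hinv x n]
    congr 2
    change x⁻¹ * (x * (n : G) * x⁻¹) * x = (n : G)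
    group
  have hLHS : (Nat.card E : ℂ) * ∑ n : N, Cfsg.indFun E ψ n * w n = (Nat.card G : ℂ) * A := by
    simp_rw [indFun_apply]
    have h2 : ∀ n : N, ((Nat.card E : ℂ)⁻¹ * ∑ x : G, Cfsg.extendByZero E ψ (x⁻¹ * (n : G) * x)) *
        w n = (Nat.card E : ℂ)⁻¹ *
          ∑ x : G, Cfsg.extendByZero E ψ (x⁻¹ * (n : G) * x) * w n := by
      intro n
      rw [mul_assoc, Finset.sum_mul]
    rw [Finset.sum_congr rfl (fun n _ => h2 n), ← Finset.mul_sum, ← mul_assoc,
      mul_inv_cancel₀ hE0, one_mul, Finset.sum_comm, Finset.sum_congr rfl (fun x _ => hx x),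
      Finset.sum_const, Finset.card_univ, nsmul_eq_mul, Nat.card_eq_fintype_card]
  rw [hLHS]
  congr 1
  rw [hA]
  symm
  apply Fintype.sum_of_injective
    (fun d : N.subgroupOf E => (⟨((d : E) : G), Subgroup.mem_subgroupOf.mp d.2⟩ : N))
  · intro d d' h
    apply Subtype.ext
    apply Subtype.ext
    exact congrArg (fun z : N => (z : G)) h
  · intro n hn
    have hnE : (n : G) ∉ E := by
      intro hmem
      apply hn
      exact ⟨⟨⟨(n : G), hmem⟩, Subgroup.mem_subgroupOf.mpr n.2⟩, Subtype.ext rfl⟩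
    rw [extendByZero_not_mem _ _ hnE, zero_mul]
  · intro d
    have hmem : (((d : E) : G)) ∈ E := (d : E).2
    change _ = Cfsg.extendByZero E ψ ((d : E) : G) * w ⟨((d : E) : G), _⟩
    rw [extendByZero_mem _ _ hmem]

theorem classInner_indFun_restrict_normal [Fintype G] (N : Subgroup G) [hN : N.Normal]
    [Fintype N] (ϑ : N → ℂ)
    (hinv : ∀ (g : G) (n : N), ϑ ⟨g * n * g⁻¹, hN.conj_mem (n : G) n.2 g⟩ = ϑ n)
    (E : Subgroup G) [Fintype E] [Fintype (N.subgroupOf E)] (ψ : E → ℂ) :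
    Cfsg.classInner (fun n : N => Cfsg.indFun E ψ n) ϑ =
      ((N ⊔ E).index : ℂ) * Cfsg.classInner (fun d : N.subgroupOf E => ψ d)
        (resSub N ϑ E) := by
  have hM := sum_indFun_mul_invariant N (fun n => conj (ϑ n))
    (fun g n => by simp only [hinv g n]) E ψ
  rw [classInner_def, classInner_def]
  have hE0 : (Nat.card E : ℂ) ≠ 0 := by
    have : 0 < Nat.card E := Nat.card_pos
    exact_mod_cast this.ne'
  have hN0 : (Nat.card N : ℂ) ≠ 0 := by
    have : 0 < Nat.card N := Nat.card_pos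
    exact_mod_cast this.ne'
  have hD0 : (Nat.card (N.subgroupOf E) : ℂ) ≠ 0 := by
    have : 0 < Nat.card (N.subgroupOf E) := Nat.card_pos
    exact_mod_cast this.ne'
  have h1 : Nat.card N * N.index = Nat.card G := Subgroup.card_mul_index N
  have h2 : N.relIndex (N ⊔ E) * (N ⊔ E).index = N.index :=
    Subgroup.relIndex_mul_index le_sup_left
  have h3 : N.relIndex (N ⊔ E) = N.relIndex E := Subgroup.relIndex_sup_left E N
  have h4 : Nat.card (N.subgroupOf E) * N.relIndex E = Nat.card E :=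
    Subgroup.card_mul_index (N.subgroupOf E)
  have hnat : Nat.card G * Nat.card (N.subgroupOf E) =
      (N ⊔ E).index * Nat.card N * Nat.card E := by
    rw [← h1, ← h2, h3, ← h4]
    ring
  have hcast : (Nat.card G : ℂ) * (Nat.card (N.subgroupOf E) : ℂ) =
      ((N ⊔ E).index : ℂ) * (Nat.card N : ℂ) * (Nat.card E : ℂ) := by
    exact_mod_cast hnat
  set S₁ := ∑ n : N, Cfsg.indFun E ψ n * conj (ϑ n) with hS₁
  set S₂ := ∑ d : N.subgroupOf E, ψ d * conj (resSub N ϑ E d) with hS₂
  have hM' : (Nat.card E : ℂ) * S₁ = (Nat.card G : ℂ) * S₂ := hM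
  have hS : S₁ = (Nat.card G : ℂ) / (Nat.card E : ℂ) * S₂ := by
    field_simp
    linear_combination hM'
  rw [hS]
  field_simp
  linear_combination (S₂) * hcast

end Cfsg.Agent.Helper6

namespace Cfsg.Agent.Helper6

open scoped ComplexConjugate

universe u

variable {G : Type u} [Group G]

set_option maxHeartbeats 1600000 in
theorem ext_of_sylow_central [Fintype G] (p : ℕ) [hp : Fact p.Prime] (N : Subgroup G)
    [hN : N.Normal] (hind : ∃ k : ℕ, N.index = p ^ k) (P : Sylow p G)
    (hcent : ∀ x ∈ (P : Subgroup G) ⊓ N, ∀ y ∈ (P : Subgroup G), x * y = y * x)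
    (hlin : ∀ lam : ↥((P : Subgroup G) ⊓ N) → ℂ,
      Cfsg.IsCharacter ↥((P : Subgroup G) ⊓ N) lam → lam 1 = 1 →
      ∃ μ : ↥(P : Subgroup G) → ℂ, Cfsg.IsCharacter ↥(P : Subgroup G) μ ∧ μ 1 = 1 ∧
        ∀ x : ↥((P : Subgroup G) ⊓ N), μ ⟨(x : G), x.2.1⟩ = lam x)
    (ϑ : N → ℂ) (hϑ : Cfsg.IsIrrCharacter N ϑ)
    (hinv : ∀ (g : G) (n : N), ϑ ⟨g * n * g⁻¹, hN.conj_mem (n : G) n.2 g⟩ = ϑ n) :
    ∃ χ : G → ℂ, Cfsg.IsIrrCharacter G χ ∧ ∀ n : N, χ n = ϑ n := by
  classical
  haveI : Fintype N := Fintype.ofFinite N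
  haveI : Finite (Cfsg.IrrCharacter G) := irr_finite
  haveI : Fintype (Cfsg.IrrCharacter G) := Fintype.ofFinite _
  obtain ⟨E, φ, hE, hEN, hφirr, -, m, hpm, hm⟩ := dade_lemma p hp.out N hind ϑ hϑ hinv
  haveI : Fintype E := Fintype.ofFinite E
  haveI : Fintype (N.subgroupOf E) := Fintype.ofFinite _
  haveI : Fintype ↥(E ⊓ N) := Fintype.ofFinite _
  have hPN := inter_commutator_sylow_eq_one p N P hcent hlin
  set ι := infEquivSubgroupOf E N with hι
  set φ' : N.subgroupOf E → ℂ := φ ∘ ι.symm with hφ'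
  have hφ'irr : Cfsg.IsIrrCharacter (N.subgroupOf E) φ' := IsIrrCharacter.comp_mulEquiv ι.symm hφirr
  have hD' : ∀ d : N.subgroupOf E, ((d : E)) ∈ commutator E → d = 1 := by
    intro d hd
    apply Subtype.ext
    exact elementary_commutator_inter p N P hPN E hE (d : E) hd (Subgroup.mem_subgroupOf.mp d.2)
  obtain ⟨μ, hμ⟩ := extend_of_inter_commutator (N.subgroupOf E) hD' φ' hφ'irr
  set μf : E → ℂ := fun e => ((μ e : ℂˣ) : ℂ) with hμf
  have hμirr : Cfsg.IsIrrCharacter E μf := isIrrCharacter_of_hom μ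
  set ind := Cfsg.indFun E μf with hindd
  have hindc : Cfsg.IsCharacter G ind := isCharacter_indFun E μf (IsIrrCharacter.isCharacter hμirr)
  -- the multiplicity of ϑ in the restriction of the induced character
  have hkey : Cfsg.classInner (fun n : N => ind n) ϑ = (m : ℂ) := by
    rw [hindd, classInner_indFun_restrict_normal N ϑ hinv E μf]
    have htop : N ⊔ E = ⊤ := by rw [sup_comm]; exact hEN
    rw [htop, Subgroup.index_top, Nat.cast_one, one_mul]
    have h1 : (fun d : N.subgroupOf E => μf d) = φ' := funext hμ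
    rw [h1, classInner_conj_symm]
    have h2 : Cfsg.classInner (resSub N ϑ E) φ' = (m : ℂ) := by
      rw [← hm, finsum_eq_sum_of_fintype, classInner_def, ← Nat.card_congr ι.toEquiv]
      congr 1
      rw [← Equiv.sum_comp ι.toEquiv]
      apply Finset.sum_congr rfl
      intro x _
      have : φ' (ι.toEquiv x) = φ x := by
        change φ (ι.symm (ι x)) = φ x
        rw [MulEquiv.symm_apply_apply]
      rw [this]
      rfl
    rw [h2, Complex.conj_natCast]
  -- expansion in irreducible characters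
  have ha : ∀ χ : Cfsg.IrrCharacter G, ∃ a : ℕ, Cfsg.classInner ind (χ : G → ℂ) = a :=
    fun χ => classInner_char_char_nat hindc (IsIrrCharacter.isCharacter χ.2)
  choose a ha using ha
  have hb : ∀ χ : Cfsg.IrrCharacter G, ∃ b : ℕ,
      Cfsg.classInner (fun n : N => (χ : G → ℂ) n) ϑ = b :=
    fun χ => classInner_char_char_nat (IsCharacter.restrict N (IsIrrCharacter.isCharacter χ.2))
      (IsIrrCharacter.isCharacter hϑ)
  choose b hb using hb
  have hexp := classFunction_expansion ind (IsCharacter.isClassFunction hindc)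
  have hmsum : m = ∑ χ : Cfsg.IrrCharacter G, a χ * b χ := by
    have h2 : (fun n : N => ind n) =
        ∑ χ : Cfsg.IrrCharacter G, Cfsg.classInner ind (χ : G → ℂ) •
          (fun n : N => (χ : G → ℂ) n) := by
      funext n
      have h3 := congrFun hexp (n : G)
      rw [Finset.sum_apply] at h3
      rw [Finset.sum_apply]
      exact h3
    have h4 : (m : ℂ) = ((∑ χ : Cfsg.IrrCharacter G, a χ * b χ : ℕ) : ℂ) := by
      rw [← hkey, h2, classInner_sum_left]
      push_cast
      apply Finset.sum_congr rfl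
      intro χ _
      rw [classInner_smul_left, ha, hb]
    exact_mod_cast h4
  have hex : ∃ χ : Cfsg.IrrCharacter G, ¬ p ∣ a χ * b χ := by
    by_contra hno
    push Not at hno
    apply hpm
    rw [hmsum]
    exact Finset.dvd_sum (fun χ _ => hno χ)
  obtain ⟨χ, hχp⟩ := hex
  have hbp : ¬ p ∣ b χ := fun h => hχp (Dvd.dvd.mul_left h _)
  have hb0 : b χ ≠ 0 := by
    intro h0
    apply hbp
    rw [h0]
    exact dvd_zero p
  have hover : Cfsg.classInner (fun n : N => (χ : G → ℂ) n) ϑ ≠ 0 := by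
    rw [hb]
    exact_mod_cast hb0
  have hinv' : ∀ x : G, conjFun N ϑ x = ϑ := by
    intro x
    funext n
    exact hinv x n
  have hres := clifford_invariant_top N ϑ hϑ hinv' (χ : G → ℂ) χ.2 hover
  rw [hb] at hres
  obtain ⟨k, hk⟩ := hind
  obtain ⟨i, hi⟩ := degree_pow_of_pgroup_quotient p k G N hk ϑ hϑ hinv (χ : G → ℂ) χ.2
    ⟨(b χ : ℂ), by exact_mod_cast hb0, fun n => congrFun hres n⟩
  have h1 : (χ : G → ℂ) 1 = (b χ : ℂ) * ϑ 1 := congrFun hres 1
  have hϑ1 : ϑ 1 ≠ 0 := IsIrrCharacter.apply_one_ne_zero hϑ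
  have h2 : ((b χ : ℕ) : ℂ) = ((p ^ i : ℕ) : ℂ) := by
    have h3 : (b χ : ℂ) * ϑ 1 = (p : ℂ) ^ i * ϑ 1 := by rw [← h1, hi]
    have := mul_right_cancel₀ hϑ1 h3
    rw [this]
    push_cast
    rfl
  have h3 : b χ = p ^ i := by exact_mod_cast h2
  have hi0 : i = 0 := by
    by_contra hne
    apply hbp
    rw [h3]
    exact dvd_pow_self p hne
  rw [hi0, pow_zero] at h3
  refine ⟨(χ : G → ℂ), χ.2, ?_⟩
  intro n
  have := congrFun hres n
  rw [h3, Nat.cast_one, one_smul] at this
  exact this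

end Cfsg.Agent.Helper6
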