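import Mathlib
import Cfsg.Prelude.Def_Characters
import Cfsg.Agent.Helper6.CharBasic
import Cfsg.Agent.Helper6.Induced
import Cfsg.Agent.Helper6.Degrees
import Cfsg.Agent.Helper6.Constituent
import Cfsg.Agent.Helper6.IrrCrit
import Cfsg.Agent.Helper6.IrrDegree
import Cfsg.Agent.Helper6.CycD
import Cfsg.Agent.Helper6.Dade4
import Cfsg.Agent.Helper6.FullyRamified
import Cfsg.Agent.Helper6.CharTripleD
import Cfsg.Agent.Helper6.BrauerPerm2
import Cfsg.Agent.Helper6.NormTwo
import Cfsg.Agent.Helper6.Expansion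

/-!
# Character-theoretic lemmas for Isaacs 11.32
-/

set_option autoImplicit false
set_option linter.style.haveILetI false

namespace Cfsg.Agent.Helper6

open scoped ComplexConjugate

universe u

variable {G : Type u} [Group G]

/-- a nonzero character has norm at least one -/
theorem one_le_classInner_self_of_ne_zero [Fintype G] {a : G → ℂ} (ha : Cfsg.IsCharacter G a)
    (hne : a ≠ 0) : ∃ n : ℕ, 1 ≤ n ∧ Cfsg.classInner a a = n := by
  obtain ⟨n, hn⟩ := classInner_char_char_nat ha ha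
  refine ⟨n, ?_, hn⟩
  by_contra hlt
  have h0 : n = 0 := by omega
  rw [h0, Nat.cast_zero] at hn
  exact hne (classInner_self_eq_zero hn)

/-- a sum of two nonzero characters is not irreducible -/
theorem not_irr_add [Fintype G] {a b : G → ℂ} (ha : Cfsg.IsCharacter G a)
    (hb : Cfsg.IsCharacter G b) (ha0 : a ≠ 0) (hb0 : b ≠ 0) :
    ¬ Cfsg.IsIrrCharacter G (a + b) := by
  intro hirr
  have h1 := classInner_irr_self hirr
  obtain ⟨n, hn1, hn⟩ := one_le_classInner_self_of_ne_zero ha ha0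
  obtain ⟨m, hm1, hm⟩ := one_le_classInner_self_of_ne_zero hb hb0
  obtain ⟨r, hr⟩ := classInner_char_char_nat ha hb
  obtain ⟨s, hs⟩ := classInner_char_char_nat hb ha
  rw [classInner_add_left, classInner_add_right, classInner_add_right, hn, hm, hr, hs] at h1
  have h2 : n + r + (s + m) = 1 := by exact_mod_cast h1
  omega

/-- if the restriction of a character to `L` is irreducible then so is the restriction to any
intermediate subgroup -/
theorem irr_restrict_mid [Finite G] (H : Subgroup G) (θ : H → ℂ) (hθ : Cfsg.IsCharacter H θ)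
    (L C : Subgroup G) (hLC : L ≤ C) (hCH : C ≤ H)
    (hL : Cfsg.IsIrrCharacter L (fun x : L => θ ⟨x, hCH (hLC x.2)⟩)) :
    Cfsg.IsIrrCharacter C (fun x : C => θ ⟨x, hCH x.2⟩) := by
  classical
  haveI : Fintype C := Fintype.ofFinite _
  haveI : Fintype L := Fintype.ofFinite _
  set ψ : C → ℂ := fun x : C => θ ⟨x, hCH x.2⟩ with hψdef
  have hψ : Cfsg.IsCharacter C ψ := IsCharacter.comp_hom (Subgroup.inclusion hCH) hθ
  have hψ1 : ψ 1 ≠ 0 := by
    have := IsIrrCharacter.apply_one_ne_zero hL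
    exact this
  have hψ0 : ψ ≠ 0 := by
    intro h
    apply hψ1
    rw [h]
    rfl
  obtain ⟨ζ, hζ, hζne⟩ := exists_irr_constituent hψ hψ0
  have hρ : Cfsg.IsCharacter C (ψ - ζ) := sub_isCharacter_of_constituent hψ hζ hζne
  by_cases hρ0 : ψ - ζ = 0
  · have : ψ = ζ := sub_eq_zero.mp hρ0
    rw [this]
    exact hζ
  · exfalso
    have ha : Cfsg.IsCharacter L (fun x : L => ζ ⟨x, hLC x.2⟩) :=
      IsCharacter.comp_hom (Subgroup.inclusion hLC) (IsIrrCharacter.isCharacter hζ)
    have hb : Cfsg.IsCharacter L (fun x : L => (ψ - ζ) ⟨x, hLC x.2⟩) :=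
      IsCharacter.comp_hom (Subgroup.inclusion hLC) hρ
    have ha0 : (fun x : L => ζ ⟨x, hLC x.2⟩) ≠ 0 := by
      intro h
      exact IsIrrCharacter.apply_one_ne_zero hζ (congrFun h 1)
    have hb0 : (fun x : L => (ψ - ζ) ⟨x, hLC x.2⟩) ≠ 0 := by
      intro h
      apply hρ0
      exact IsCharacter.eq_zero_of_apply_one hρ (congrFun h 1)
    have hsum : (fun x : L => θ ⟨x, hCH (hLC x.2)⟩) =
        (fun x : L => ζ ⟨x, hLC x.2⟩) + (fun x : L => (ψ - ζ) ⟨x, hLC x.2⟩) := by
      funext x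
      simp only [Pi.add_apply, Pi.sub_apply, hψdef]
      ring
    rw [hsum] at hL
    exact not_irr_add ha hb ha0 hb0 hL


/-- a constituent carrying a homogeneous restriction of a class function is invariant -/
theorem invariant_of_restrict_eq_smul (N : Subgroup G) [hN : N.Normal] (χ : G → ℂ)
    (hχ : Cfsg.IsClassFunction G χ) (φ : N → ℂ) (e : ℂ) (he : e ≠ 0)
    (h : (fun n : N => χ n) = e • φ) :
    ∀ (g : G) (n : N), φ ⟨g * n * g⁻¹, hN.conj_mem (n : G) n.2 g⟩ = φ n := by
  intro g n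
  have h1 := congrFun h ⟨g * n * g⁻¹, hN.conj_mem (n : G) n.2 g⟩
  have h2 := congrFun h n
  simp only [Pi.smul_apply, smul_eq_mul] at h1 h2
  rw [hχ (n : G) g, h2] at h1
  exact (mul_left_cancel₀ he h1).symm

/-- Mackey's formula for inner products with an invariant function when `N ⊔ H = ⊤` -/
theorem classInner_restrict_indFun_of_sup_eq_top [Fintype G] (N : Subgroup G) [hN : N.Normal]
    [Fintype N] (ϑ : N → ℂ)
    (hinv : ∀ (g : G) (n : N), ϑ ⟨g * n * g⁻¹, hN.conj_mem (n : G) n.2 g⟩ = ϑ n)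
    (H : Subgroup G) [Fintype H] (hsup : N ⊔ H = ⊤) (D : Subgroup G) [Fintype D]
    (hDN : D ≤ N) (hDH : D ≤ H) (hD : ∀ x, x ∈ N → x ∈ H → x ∈ D) (θ : H → ℂ) :
    Cfsg.classInner (fun n : N => Cfsg.indFun H θ n) ϑ =
      Cfsg.classInner (fun d : D => θ ⟨d, hDH d.2⟩) (fun d : D => ϑ ⟨d, hDN d.2⟩) := by
  classical
  haveI : Fintype (N.subgroupOf H) := Fintype.ofFinite _
  rw [classInner_indFun_restrict_normal N ϑ hinv H θ, hsup, Subgroup.index_top, Nat.cast_one,
    one_mul]
  let e : N.subgroupOf H ≃ D :=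
    { toFun := fun d => ⟨((d : H) : G), hD _ (Subgroup.mem_subgroupOf.mp d.2) (d : H).2⟩
      invFun := fun d => ⟨⟨d, hDH d.2⟩, Subgroup.mem_subgroupOf.mpr (hDN d.2)⟩
      left_inv := fun d => rfl
      right_inv := fun d => rfl }
  have h1 : (fun d : N.subgroupOf H => θ d) = (fun d : D => θ ⟨d, hDH d.2⟩) ∘ e := rfl
  have h2 : resSub N ϑ H = (fun d : D => ϑ ⟨d, hDN d.2⟩) ∘ e := rfl
  rw [h1, h2]
  exact classInner_comp_equiv' e _ _


/-- a character containing `e` copies of an irreducible character `ϑ` and of degree `e ϑ(1)` is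
`e ϑ` -/
theorem eq_smul_of_classInner_of_degree [Fintype G] {Ξ ϑ : G → ℂ} (hΞ : Cfsg.IsCharacter G Ξ)
    (hϑ : Cfsg.IsIrrCharacter G ϑ) (e : ℕ) (hin : Cfsg.classInner Ξ ϑ = e)
    (hdeg : Ξ 1 = e * ϑ 1) : Ξ = (e : ℂ) • ϑ := by
  classical
  have hcf : Cfsg.IsClassFunction G (Ξ - (e : ℂ) • ϑ) :=
    IsClassFunction.sub (IsCharacter.isClassFunction hΞ)
      (IsClassFunction.smul _ (IsCharacter.isClassFunction (IsIrrCharacter.isCharacter hϑ)))
  have hρ : Cfsg.IsCharacter G (Ξ - (e : ℂ) • ϑ) := by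
    apply isCharacter_of_classInner_nat hcf
    intro ζ hζ
    obtain ⟨n, hn⟩ := classInner_char_char_nat hΞ (IsIrrCharacter.isCharacter hζ)
    rw [classInner_sub_left, classInner_smul_left, classInner_irr_ite hϑ hζ]
    by_cases h : ϑ = ζ
    · subst h
      rw [if_pos rfl, hin, mul_one, sub_self]
      exact ⟨0, by rw [Nat.cast_zero]⟩
    · rw [if_neg h, mul_zero, sub_zero, hn]
      exact ⟨n, rfl⟩
  have h0 : (Ξ - (e : ℂ) • ϑ) 1 = 0 := by
    rw [Pi.sub_apply, Pi.smul_apply, smul_eq_mul, hdeg, sub_self]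
  have := IsCharacter.eq_zero_of_apply_one hρ h0
  exact sub_eq_zero.mp this


/-- if an irreducible character `η` restricts to `e ϑ` on a subgroup `D` of index `e ^ 2`, where
`ϑ` is irreducible and restricts irreducibly to a normal subgroup inside `D`, then `D` is
normal -/
theorem normal_of_restrict_eq_smul {X : Type u} [Group X] [Fintype X] (D : Subgroup X)
    [Fintype D] (η : X → ℂ) (hη : Cfsg.IsIrrCharacter X η) (ϑ : D → ℂ)
    (hϑ : Cfsg.IsIrrCharacter D ϑ) (e : ℕ) (hres : (fun d : D => η d) = (e : ℂ) • ϑ)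
    (he : e * e = D.index) (C₁ : Subgroup X) [hC₁ : C₁.Normal] (hC₁D : C₁ ≤ D)
    (hϑC : Cfsg.IsIrrCharacter C₁ (fun c : C₁ => ϑ ⟨c, hC₁D c.2⟩)) : D.Normal := by
  classical
  have he0 : e ≠ 0 := by
    rintro rfl
    have : D.index ≠ 0 := Subgroup.index_ne_zero_of_finite
    exact this he.symm
  have he0' : (e : ℂ) ≠ 0 := by exact_mod_cast he0
  -- `η` vanishes off `D`
  have hvan : ∀ x : X, x ∉ D → η x = 0 := by
    rw [vanish_off_iff_classInner_restrict D η hη, hres, classInner_smul_left,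
      classInner_smul_right, classInner_irr_self hϑ, ← he]
    simp
  have hcf := IsCharacter.isClassFunction (IsIrrCharacter.isCharacter hη)
  have hC₀D : D.normalCore ≤ D := Subgroup.normalCore_le D
  have hC₁C₀ : C₁ ≤ D.normalCore := Subgroup.normal_le_normalCore.mpr hC₁D
  -- the support of `ϑ` lies in the core
  have hsupp : ∀ d : D, ϑ d ≠ 0 → (d : X) ∈ D.normalCore := by
    intro d hd b
    by_contra hcon
    have h1 := hvan _ hcon
    rw [hcf (d : X) b] at h1
    have h2 := congrFun hres d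
    simp only [Pi.smul_apply, smul_eq_mul] at h2
    rw [h1] at h2
    exact hd ((mul_eq_zero.mp h2.symm).resolve_left he0')
  haveI : Fintype (D.normalCore.subgroupOf D) := Fintype.ofFinite _
  have hvan2 : ∀ d : D, d ∉ D.normalCore.subgroupOf D → ϑ d = 0 := by
    intro d hd
    by_contra hne
    exact hd (Subgroup.mem_subgroupOf.mpr (hsupp d hne))
  have h3 := (vanish_off_iff_classInner_restrict (D.normalCore.subgroupOf D) ϑ hϑ).mp hvan2
  have hirr0 : Cfsg.IsIrrCharacter D.normalCore (fun x : D.normalCore => ϑ ⟨x, hC₀D x.2⟩) :=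
    irr_restrict_mid D ϑ (IsIrrCharacter.isCharacter hϑ) C₁ D.normalCore hC₁C₀ hC₀D hϑC
  have hirr1 : Cfsg.IsIrrCharacter (D.normalCore.subgroupOf D)
      (fun n : D.normalCore.subgroupOf D => ϑ n) :=
    IsIrrCharacter.comp_mulEquiv (Subgroup.subgroupOfEquivOfLe hC₀D) hirr0
  rw [classInner_irr_self hirr1] at h3
  have h4 : (D.normalCore.subgroupOf D).index = 1 := by exact_mod_cast h3.symm
  have h5 : D ≤ D.normalCore := Subgroup.relIndex_eq_one.mp h4
  have h6 : D.normalCore = D := le_antisymm hC₀D h5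
  rw [← h6]
  infer_instance

end Cfsg.Agent.Helper6
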