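import Mathlib
import Cfsg.Prelude.Def_Characters
import Cfsg.Agent.Helper6.BergerB
import Cfsg.Agent.Helper6.BrolineA
import Cfsg.Agent.Helper6.PermCore
import Cfsg.Agent.Helper6.CentralChar
import Cfsg.Agent.Helper6.Inflation

/-!
# General lemmas on characters used in the proof of Berger's theorem
-/

set_option autoImplicit false
set_option linter.style.haveILetI false

namespace Cfsg.Agent.Helper6.BergerThm

open Cfsg.Agent.Helper6
open Module Representation
open scoped ComplexConjugate

universe u v

variable {G : Type u} [Group G]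

/-- restriction of an irreducible representation to a subgroup which together with central
elements generates the group is irreducible -/
theorem isIrreducible_restrict_of_central_sup {V : Type v} [AddCommGroup V] [Module ℂ V]
    [FiniteDimensional ℂ V] (σ : Representation ℂ G V) [hirr : σ.IsIrreducible]
    (H : Subgroup G) (hH : ∀ g : G, ∃ h ∈ H, ∃ z ∈ Subgroup.center G, g = h * z) :
    Representation.IsIrreducible (σ.comp H.subtype : Representation ℂ H V) := by
  haveI : Nontrivial V := irr_nontrivial σ
  refine { exists_pair_ne := ⟨⊥, ⊤, ?_⟩, eq_bot_or_eq_top := ?_ }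
  · intro hbt
    have h1 : (⊥ : Submodule ℂ V) = ⊤ := congrArg Subrepresentation.toSubmodule hbt
    exact bot_ne_top h1
  · intro τ
    let τ' : Subrepresentation σ :=
      ⟨τ.toSubmodule, fun g v hv => by
        obtain ⟨h, hh, z, hz, rfl⟩ := hH g
        have hcomm : ∀ x : G, σ z ∘ₗ σ x = σ x ∘ₗ σ z := by
          intro x
          have h1 : z * x = x * z := (Subgroup.mem_center_iff.mp hz x).symm
          apply LinearMap.ext
          intro w
          simp only [LinearMap.comp_apply]
          rw [← Module.End.mul_apply, ← Module.End.mul_apply, ← map_mul, ← map_mul, h1]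
        obtain ⟨c, hc⟩ := exists_scalar_of_commute σ (σ z) hcomm
        rw [map_mul, Module.End.mul_apply, hc, LinearMap.smul_apply, LinearMap.id_apply, map_smul]
        apply Submodule.smul_mem
        exact τ.apply_mem_toSubmodule (⟨h, hh⟩ : H) hv⟩
    rcases hirr.eq_bot_or_eq_top τ' with h | h
    · left
      apply Subrepresentation.toSubmodule_injective
      have h2 : τ'.toSubmodule = (⊥ : Subrepresentation σ).toSubmodule :=
        congrArg Subrepresentation.toSubmodule h
      exact h2
    · right
      apply Subrepresentation.toSubmodule_injective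
      have h2 : τ'.toSubmodule = (⊤ : Subrepresentation σ).toSubmodule :=
        congrArg Subrepresentation.toSubmodule h
      exact h2

/-- restriction of an irreducible character to a subgroup supplemented by central elements -/
theorem restrict_irr_of_central_sup {χ : G → ℂ} (hχ : Cfsg.IsIrrCharacter G χ)
    (H : Subgroup G) (hH : ∀ g : G, ∃ h ∈ H, ∃ z ∈ Subgroup.center G, g = h * z) :
    Cfsg.IsIrrCharacter H (fun h : H => χ h) := by
  obtain ⟨n, σ, hirr, rfl⟩ := hχ
  haveI := hirr
  exact ⟨n, σ.comp H.subtype, isIrreducible_restrict_of_central_sup σ H hH, rfl⟩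

/-- left translation by an element at which a character takes its degree -/
theorem char_mul_left_eq_of_apply_eq [Finite G] {χ : G → ℂ} (hχ : Cfsg.IsCharacter G χ) (k : G)
    (hk : χ k = χ 1) (g : G) : χ (k * g) = χ g := by
  have h1 : k * g = g * (g⁻¹ * k * g) := by group
  have h2 : χ (g⁻¹ * k * g) = χ 1 := by
    have := IsCharacter.isClassFunction hχ k g⁻¹
    rw [inv_inv] at this
    rw [this, hk]
  rw [h1]
  exact char_mul_eq_of_apply_eq hχ _ h2 g

/-- deflation along a surjective homomorphism -/
theorem exists_deflate_of_surjective {A B : Type u} [Group A] [Group B] [Finite A] (f : A →* B)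
    (hf : Function.Surjective f) {ϑ : A → ℂ} (hϑ : Cfsg.IsIrrCharacter A ϑ)
    (hker : ∀ k ∈ f.ker, ϑ k = ϑ 1) :
    ∃ ϑ' : B → ℂ, Cfsg.IsIrrCharacter B ϑ' ∧ ϑ = ϑ' ∘ f := by
  haveI : Finite B := Finite.of_surjective f hf
  obtain ⟨ϑ'', hϑ''⟩ := exists_deflate f.ker ⟨ϑ, hϑ⟩ hker
  let e : A ⧸ f.ker ≃* B := QuotientGroup.quotientKerEquivOfSurjective f hf
  haveI : Finite (A ⧸ f.ker) := Finite.of_equiv B e.symm.toEquiv
  refine ⟨(ϑ'' : A ⧸ f.ker → ℂ) ∘ e.symm, IsIrrCharacter.comp_mulEquiv e.symm ϑ''.2, ?_⟩
  funext a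
  have h1 : e.symm (f a) = (a : A ⧸ f.ker) := by
    rw [MulEquiv.symm_apply_eq]
    rfl
  simp only [Function.comp_apply]
  rw [h1]
  exact congrFun hϑ'' a

/-- inner products of functions inflated along a surjective homomorphism -/
theorem classInner_comp_surjective {A B : Type u} [Group A] [Group B] [Fintype A] [Fintype B]
    (f : A →* B) (hf : Function.Surjective f) (a b : B → ℂ) :
    Cfsg.classInner (a ∘ f) (b ∘ f) = Cfsg.classInner a b := by
  classical
  let e : A ⧸ f.ker ≃* B := QuotientGroup.quotientKerEquivOfSurjective f hf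
  haveI : Fintype (A ⧸ f.ker) := Fintype.ofFinite _
  have h1 : a ∘ f = (a ∘ e) ∘ (QuotientGroup.mk : A → A ⧸ f.ker) := by
    funext x
    rfl
  have h2 : b ∘ f = (b ∘ e) ∘ (QuotientGroup.mk : A → A ⧸ f.ker) := by
    funext x
    rfl
  rw [h1, h2]
  unfold Cfsg.classInner
  have h3 := sum_comp_quotient_mk f.ker (fun q : A ⧸ f.ker => (a ∘ e) q * conj ((b ∘ e) q))
  have h4 : ∑ y : A, ((a ∘ e) ∘ (QuotientGroup.mk : A → A ⧸ f.ker)) y *
      conj (((b ∘ e) ∘ (QuotientGroup.mk : A → A ⧸ f.ker)) y) =
      (Nat.card f.ker : ℂ) * ∑ q : A ⧸ f.ker, (a ∘ e) q * conj ((b ∘ e) q) := h3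
  rw [h4]
  have h5 : ∑ q : A ⧸ f.ker, (a ∘ e) q * conj ((b ∘ e) q) = ∑ y : B, a y * conj (b y) :=
    Fintype.sum_equiv e.toEquiv _ _ (fun q => rfl)
  rw [h5]
  have h6 : Nat.card A = Nat.card B * Nat.card f.ker := by
    rw [Subgroup.card_eq_card_quotient_mul_card_subgroup f.ker, Nat.card_congr e.toEquiv]
  have hN0 : (Nat.card f.ker : ℂ) ≠ 0 := by
    exact_mod_cast (Nat.card_pos (α := f.ker)).ne'
  have hQ0 : (Nat.card B : ℂ) ≠ 0 := by
    exact_mod_cast (Nat.card_pos (α := B)).ne'
  rw [h6]
  push_cast
  field_simp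

/-- a character inducing an irreducible character is irreducible -/
theorem irr_of_indFun_irr [Fintype G] (H : Subgroup G) {ψ : H → ℂ} (hψ : Cfsg.IsCharacter H ψ)
    (hind : Cfsg.IsIrrCharacter G (Cfsg.indFun H ψ)) : Cfsg.IsIrrCharacter H ψ := by
  classical
  haveI : Fintype H := Fintype.ofFinite _
  have hψ0 : ψ ≠ 0 := by
    intro h
    rw [h, indFun_zero] at hind
    have := IsIrrCharacter.apply_one_ne_zero hind
    exact this rfl
  obtain ⟨a, ha, hne⟩ := exists_irr_constituent hψ hψ0
  have hb := sub_isCharacter_of_constituent hψ ha hne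
  by_cases hb0 : ψ - a = 0
  · have : ψ = a := sub_eq_zero.mp hb0
    rw [this]
    exact ha
  · exfalso
    have hsum : Cfsg.indFun H ψ = Cfsg.indFun H a + Cfsg.indFun H (ψ - a) := by
      rw [← indFun_add]
      congr 1
      abel
    have h1 : Cfsg.indFun H a ≠ 0 := by
      intro h
      have h2 := congrFun h 1
      rw [indFun_apply_one] at h2
      have h3 : (H.index : ℂ) ≠ 0 := by
        exact_mod_cast (Subgroup.index_ne_zero_of_finite (H := H))
      rcases mul_eq_zero.mp h2 with h4 | h4
      · exact h3 h4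
      · exact IsIrrCharacter.apply_one_ne_zero ha h4
    have h2 : Cfsg.indFun H (ψ - a) ≠ 0 := by
      intro h
      have h2 := congrFun h 1
      rw [indFun_apply_one] at h2
      have h3 : (H.index : ℂ) ≠ 0 := by
        exact_mod_cast (Subgroup.index_ne_zero_of_finite (H := H))
      rcases mul_eq_zero.mp h2 with h4 | h4
      · exact h3 h4
      · exact hb0 (eq_zero_of_isCharacter_of_apply_one hb h4)
    rw [hsum] at hind
    exact not_irr_add (isCharacter_indFun H a (IsIrrCharacter.isCharacter ha))
      (isCharacter_indFun H _ hb) h1 h2 hind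

end Cfsg.Agent.Helper6.BergerThm
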