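import Mathlib
import Cfsg.Prelude.Def_Characters
import Cfsg.Agent.Helper6.Inflation
import Cfsg.Agent.Helper6.BrauerPerm2
import Cfsg.Agent.Helper6.SylowClassBound

/-!
# Transfer lemmas along surjective homomorphisms

Irreducibility of inflations along arbitrary surjective homomorphisms, deflation along a surjective
homomorphism, and transfer of solvability of quotients along comaps and maps.
-/

set_option autoImplicit false
set_option linter.style.haveILetI false

namespace Cfsg.Agent.Helper6

universe u

variable {X Y : Type u} [Group X] [Group Y]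

/-- the composition of an irreducible character with a surjective homomorphism is irreducible -/
theorem isIrrCharacter_comp_of_surjective (f : X →* Y) (hf : Function.Surjective f) {β : Y → ℂ}
    (hβ : Cfsg.IsIrrCharacter Y β) : Cfsg.IsIrrCharacter X (β ∘ f) := by
  obtain ⟨m, σ, hirr, rfl⟩ := hβ
  haveI := hirr
  exact ⟨m, σ.comp f, isIrreducible_comp_surjective σ f hf, rfl⟩

/-- an irreducible character whose kernel contains the kernel of a surjective homomorphism factors
through it -/
theorem exists_deflate_of_surjective [Finite X] (f : X →* Y) (hf : Function.Surjective f)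
    (ψ : Cfsg.IrrCharacter X) (hker : ∀ k ∈ f.ker, (ψ : X → ℂ) k = (ψ : X → ℂ) 1) :
    ∃ ψ' : Cfsg.IrrCharacter Y, (ψ : X → ℂ) = (ψ' : Y → ℂ) ∘ f := by
  obtain ⟨ψ₀, h₀⟩ := exists_deflate f.ker ψ hker
  haveI : Finite Y := Finite.of_surjective f hf
  obtain ⟨e, he⟩ : ∃ e : X ⧸ f.ker ≃* Y, e = QuotientGroup.quotientKerEquivOfSurjective f hf :=
    ⟨_, rfl⟩
  have hef : ∀ x : X, e.symm (f x) = (x : X ⧸ f.ker) := by
    intro x
    rw [MulEquiv.symm_apply_eq, he]
    rfl
  refine ⟨⟨(ψ₀ : X ⧸ f.ker → ℂ) ∘ e.symm, IsIrrCharacter.comp_mulEquiv e.symm ψ₀.2⟩, ?_⟩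
  funext x
  rw [h₀]
  show _ = (ψ₀ : X ⧸ f.ker → ℂ) (e.symm (f x))
  rw [hef]
  rfl

/-- solvability of a quotient passes to the quotient by a preimage -/
theorem isSolvable_quotient_comap (f : X →* Y) (H : Subgroup Y) [hH : H.Normal]
    (hs : Group.IsSolvable (Y ⧸ H)) : Group.IsSolvable (X ⧸ H.comap f) := by
  apply Group.isSolvable_of_isSolvable_injective
    (f := QuotientGroup.map (H.comap f) H f le_rfl)
  rw [← MonoidHom.ker_eq_bot_iff, QuotientGroup.ker_map, QuotientGroup.map_mk'_self]

/-- solvability of a quotient passes to the quotient of a surjective image by the image -/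
theorem isSolvable_quotient_map (q : X →* Y) (hq : Function.Surjective q) (A : Subgroup X)
    [hA : A.Normal] [hA' : (A.map q).Normal] (hs : Group.IsSolvable (X ⧸ A)) :
    Group.IsSolvable (Y ⧸ A.map q) := by
  apply Group.isSolvable_of_surjective
    (f := QuotientGroup.map A (A.map q) q (Subgroup.le_comap_map q A))
  apply QuotientGroup.map_surjective_of_surjective
  exact (QuotientGroup.mk'_surjective (A.map q)).comp hq

end Cfsg.Agent.Helper6
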