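import Cfsg.Agent.Helper8.TensSA
import Cfsg.Agent.Helper9.TensFlip

set_option autoImplicit false
set_option linter.unusedSectionVars false
set_option linter.unusedVariables false

/-! `Sp(U) ⊗ O(W) < Sp(U ⊗ W)` (S5666), helper6: the framework.  Abstract tensor map
`t : U →ₗ W →ₗ V` (helper8's `TensA`), an alternating form `f₁` on `U`, a symmetric form `f₂` on
`W`, the alternating form `B` on `V` with `B (t u w) (t u' w') = f₁ u u' * f₂ w w'`, and a group
`X` of isometries of `B` containing the root elements `t_v(c) ⊗ 1` and the reflections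
`1 ⊗ r_y`. -/

namespace Cfsg.Agent.Helper6.SpO

open Module Cfsg.Agent.Helper7.ExtF Cfsg.Agent.Helper8.Tens

variable {F : Type*} [Field F] {U W V : Type*} [AddCommGroup U] [Module F U]
  [AddCommGroup W] [Module F W] [AddCommGroup V] [Module F V]
  {t : U →ₗ[F] W →ₗ[F] V} {B : LinearMap.BilinForm F V} {f₁ : LinearMap.BilinForm F U}
  {f₂ : LinearMap.BilinForm F W} {X : Subgroup (V ≃ₗ[F] V)}

/-- the reflection in `y` (a linear map; an involution when `f₂ y y ≠ 0`). -/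
def reflL (f₂ : LinearMap.BilinForm F W) (y : W) : W →ₗ[F] W :=
  LinearMap.id - (2 / f₂ y y) • (f₂.flip y).smulRight y

theorem reflL_apply (f₂ : LinearMap.BilinForm F W) (y w : W) :
    reflL f₂ y w = w - (2 * f₂ w y / f₂ y y) • y := by
  have e : (f₂.flip y) w = f₂ w y := rfl
  simp only [reflL, LinearMap.sub_apply, LinearMap.id_apply, LinearMap.smul_apply,
    LinearMap.smulRight_apply, smul_smul, e]
  congr 2
  ring

/-- the hypotheses of the `Sp ⊗ O` max-intersection argument. -/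
structure Hyp (t : U →ₗ[F] W →ₗ[F] V) (B : LinearMap.BilinForm F V)
    (f₁ : LinearMap.BilinForm F U) (f₂ : LinearMap.BilinForm F W)
    (X : Subgroup (V ≃ₗ[F] V)) : Prop where
  two : (2 : F) ≠ 0
  altB : ∀ v, B v v = 0
  ndB : ∀ v, (∀ v', B v v' = 0) → v = 0
  alt₁ : ∀ u, f₁ u u = 0
  nd₁ : ∀ u, (∀ v, f₁ u v = 0) → u = 0
  symm₂ : ∀ w w', f₂ w w' = f₂ w' w
  nd₂ : ∀ w, (∀ y, f₂ w y = 0) → w = 0
  pol : ∀ u w u' w', B (t u w) (t u' w') = f₁ u u' * f₂ w w'
  isom : ∀ g ∈ X, ∀ v v', B (g v) (g v') = B v v'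
  movT : ∀ (A : U ≃ₗ[F] U) (Bw : W ≃ₗ[F] W) (μ : F),
    (∀ u u', f₁ (A u) (A u') = μ * f₁ u u') → (∀ w w', μ * f₂ (Bw w) (Bw w') = f₂ w w') →
    ∃ g ∈ X, ∀ u w, g (t u w) = t (A u) (Bw w)

/-- the symplectic transvection `x ↦ x + c B(x,v) v` of `V`. -/
noncomputable def Tv (B : LinearMap.BilinForm F V) (halt : ∀ v, B v v = 0) (v : V) (c : F) :
    V ≃ₗ[F] V :=
  ftv (c • B.flip v) v (by
    have e : (B.flip v) v = B v v := rfl
    rw [LinearMap.smul_apply, e, halt, smul_zero])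

theorem Tv_apply (B : LinearMap.BilinForm F V) (halt : ∀ v, B v v = 0) (v : V) (c : F) (x : V) :
    Tv B halt v c x = x + (c * B x v) • v := by
  have e : (B.flip v) x = B x v := rfl
  rw [Tv, ftv_apply, LinearMap.smul_apply, e, smul_eq_mul]

/-- `X` contains a full root group of symplectic transvections. -/
def HasTv (B : LinearMap.BilinForm F V) (halt : ∀ v, B v v = 0) (X : Subgroup (V ≃ₗ[F] V)) :
    Prop :=
  ∃ v : V, v ≠ 0 ∧ ∀ c : F, Tv B halt v c ∈ X

/-- elements `A ⊗ 1`, `A` an isometry of `f₁`, lie in `X`. -/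
theorem movSp (h : Hyp t B f₁ f₂ X) (A : U ≃ₗ[F] U) (hA : ∀ u u', f₁ (A u) (A u') = f₁ u u') :
    ∃ g ∈ X, ∀ u w, g (t u w) = t (A u) w := by
  obtain ⟨g, hg, e⟩ := h.movT A 1 1 (fun u u' => by rw [hA, one_mul])
    (fun w w' => by rw [one_mul]; rfl)
  exact ⟨g, hg, fun u w => by rw [e]; rfl⟩

/-- elements `1 ⊗ C`, `C` an isometry of `f₂`, lie in `X`. -/
theorem movO (h : Hyp t B f₁ f₂ X) (C : W ≃ₗ[F] W) (hC : ∀ w w', f₂ (C w) (C w') = f₂ w w') :
    ∃ g ∈ X, ∀ u w, g (t u w) = t u (C w) := by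
  obtain ⟨g, hg, e⟩ := h.movT 1 C 1 (fun u u' => by rw [one_mul]; rfl)
    (fun w w' => by rw [one_mul, hC])
  exact ⟨g, hg, fun u w => by rw [e]; rfl⟩

/-- the fibre `u ⊗ W`. -/
abbrev fibU (t : U →ₗ[F] W →ₗ[F] V) (u : U) : Submodule F V := fib t.flip u

theorem mem_fibU {u : U} {v : V} : v ∈ fibU t u ↔ ∃ w, t u w = v :=
  Cfsg.Agent.Helper9.TensFlip.mem_fib_flip

/-- the perpendicular space `u^⊥ ⊗ W` of the fibre `u ⊗ W`. -/
noncomputable abbrev SperpU (ht : IsTensorProduct t) (f₁ : LinearMap.BilinForm F U) (u : U) :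
    Submodule F V := LinearMap.ker (evU ht (f₁.flip u))

/-- `g` lies in the centre `Q_S` of the unipotent radical of the stabiliser of `S = u ⊗ W`. -/
def InQU (ht : IsTensorProduct t) (f₁ : LinearMap.BilinForm F U) (u : U) (g : V ≃ₗ[F] V) : Prop :=
  ∀ x ∈ SperpU ht f₁ u, g x = x

/-- `g` lies in the unipotent radical `R_S` of the stabiliser of `S = u ⊗ W`. -/
def InRU (ht : IsTensorProduct t) (f₁ : LinearMap.BilinForm F U) (u : U) (g : V ≃ₗ[F] V) : Prop :=
  (∀ x ∈ fibU t u, g x = x) ∧ ∀ x ∈ SperpU ht f₁ u, g x - x ∈ fibU t u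

/-- `X` contains a full root group of symplectic transvections with a pure centre. -/
def HasPureTv (t : U →ₗ[F] W →ₗ[F] V) (B : LinearMap.BilinForm F V) (halt : ∀ v, B v v = 0)
    (X : Subgroup (V ≃ₗ[F] V)) : Prop :=
  ∃ (u : U) (w : W), u ≠ 0 ∧ w ≠ 0 ∧ ∀ c : F, Tv B halt (t u w) c ∈ X

end Cfsg.Agent.Helper6.SpO
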