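import Mathlib
import Cfsg.Prelude.Def_Characters
import Cfsg.Agent.Helper6.AbelianInertia
import Cfsg.Agent.Helper6.BrauerPerm2

/-!
# Induction from an inertia group with abelian quotient
-/

set_option autoImplicit false
set_option linter.style.haveILetI false

namespace Cfsg.Agent.Helper6

open scoped ComplexConjugate
open Module

universe u v

variable {G : Type u} [Group G]

set_option maxHeartbeats 1600000 in
/-- Induction from the inertia group is injective on characters lying over `ϑ`. -/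
theorem clifford_corr_injective [Fintype G] (H : Subgroup G) [hN : H.Normal] [Fintype H]
    (ϑ : H → ℂ) (hϑ : Cfsg.IsIrrCharacter H ϑ) (T : Subgroup G) [Fintype T]
    (hT' : ∀ g : G, g ∈ T ↔ conjFun H ϑ g = ϑ) (hHT : H ≤ T)
    (ψ₁ ψ₂ : T → ℂ) (hψ₁ : Cfsg.IsIrrCharacter T ψ₁) (hψ₂ : Cfsg.IsIrrCharacter T ψ₂)
    (hf₁ : Cfsg.classInner (fun n : H => ψ₁ ⟨(n : G), hHT n.2⟩) ϑ ≠ 0)
    (hf₂ : Cfsg.classInner (fun n : H => ψ₂ ⟨(n : G), hHT n.2⟩) ϑ ≠ 0)
    (heq : Cfsg.indFun T ψ₁ = Cfsg.indFun T ψ₂) : ψ₁ = ψ₂ := by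
  classical
  by_contra hne
  obtain ⟨hirr, hm₁⟩ := clifford_corr_ind_irr H ϑ hϑ T hT' hHT ψ₁ hψ₁ hf₁
  obtain ⟨-, hm₂⟩ := clifford_corr_ind_irr H ϑ hϑ T hT' hHT ψ₂ hψ₂ hf₂
  rw [← heq] at hm₂
  set χ := Cfsg.indFun T ψ₁ with hχ
  have hχc := IsIrrCharacter.isCharacter hirr
  have hχcf := IsCharacter.isClassFunction hχc
  have hχT : Cfsg.IsCharacter T (fun t : T => χ t) := IsCharacter.restrict T hχc
  have hψ₁c := IsIrrCharacter.isCharacter hψ₁
  have hψ₂c := IsIrrCharacter.isCharacter hψ₂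
  have hone : Cfsg.classInner χ χ = 1 := classInner_irr_self hirr
  have h1 : Cfsg.classInner (fun t : T => χ t) ψ₁ = 1 := by
    rw [classInner_conj_symm, ← frobenius_reciprocity T ψ₁ χ hχcf, ← hχ, hone]
    simp
  have h2 : Cfsg.classInner (fun t : T => χ t) ψ₂ = 1 := by
    rw [classInner_conj_symm, ← frobenius_reciprocity T ψ₂ χ hχcf, ← heq, hone]
    simp
  have hΔ₁ : Cfsg.IsCharacter T ((fun t : T => χ t) - ψ₁) :=
    sub_isCharacter_of_constituent hχT hψ₁ (by rw [h1]; exact one_ne_zero)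
  have h3 : Cfsg.classInner ((fun t : T => χ t) - ψ₁) ψ₂ ≠ 0 := by
    rw [classInner_sub_left, h2, classInner_irr_ne hψ₁ hψ₂ hne, sub_zero]
    exact one_ne_zero
  have hΔ : Cfsg.IsCharacter T (((fun t : T => χ t) - ψ₁) - ψ₂) :=
    sub_isCharacter_of_constituent hΔ₁ hψ₂ h3
  have hΔH : Cfsg.IsCharacter H
      (fun n : H => (((fun t : T => χ t) - ψ₁) - ψ₂) (Subgroup.inclusion hHT n)) :=
    IsCharacter.comp_hom (Subgroup.inclusion hHT) hΔ
  obtain ⟨k, hk⟩ := classInner_char_char_nat hΔH (IsIrrCharacter.isCharacter hϑ)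
  have hdecomp : (fun n : H => χ n) =
      (fun n : H => ψ₁ ⟨(n : G), hHT n.2⟩) + (fun n : H => ψ₂ ⟨(n : G), hHT n.2⟩) +
        (fun n : H => (((fun t : T => χ t) - ψ₁) - ψ₂) (Subgroup.inclusion hHT n)) := by
    funext n
    simp only [Pi.add_apply, Pi.sub_apply]
    have : Subgroup.inclusion hHT n = ⟨(n : G), hHT n.2⟩ := rfl
    rw [this]
    ring
  have hsum : Cfsg.classInner (fun n : H => χ n) ϑ =
      Cfsg.classInner (fun n : H => ψ₁ ⟨(n : G), hHT n.2⟩) ϑ +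
        Cfsg.classInner (fun n : H => ψ₂ ⟨(n : G), hHT n.2⟩) ϑ + k := by
    conv_lhs => rw [hdecomp]
    rw [classInner_add_left, classInner_add_left, hk]
  rw [hm₁, hm₂] at hsum
  obtain ⟨a, ha⟩ := classInner_char_char_nat (IsCharacter.restrict H hχc)
    (IsIrrCharacter.isCharacter hϑ)
  rw [ha] at hsum
  have ha0 : a ≠ 0 := by
    rintro rfl
    apply hf₁
    rw [hm₁, ha]
    simp
  have : (a : ℂ) = ((a + a + k : ℕ) : ℂ) := by
    rw [hsum]
    push_cast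
    rfl
  have h4 : a = a + a + k := by exact_mod_cast this
  omega

end Cfsg.Agent.Helper6

namespace Cfsg.Agent.Helper6

open scoped ComplexConjugate
open Module

universe u'

variable {G : Type u'} [Group G]

set_option maxHeartbeats 1600000 in
theorem abelian_inertia_induction [Fintype G] (H T : Subgroup G) [hN : H.Normal] (θ : H → ℂ)
    (hθ : Cfsg.IsIrrCharacter H θ)
    (hT : ∀ g : G, g ∈ T ↔ ∀ h : H, θ ⟨g * h * g⁻¹, hN.conj_mem h h.2 g⟩ = θ h)
    (hab : ∀ x ∈ T, ∀ y ∈ T, x * y * x⁻¹ * y⁻¹ ∈ H) :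
    ∃ (e : ℕ) (C : Finset (G → ℂ)), 0 < e ∧ (∀ χ ∈ C, Cfsg.IsIrrCharacter G χ) ∧
      e ^ 2 * C.card * Nat.card H = Nat.card T ∧
      Cfsg.indFun H θ = (e : ℂ) • ∑ χ ∈ C, χ ∧
      ∀ χ ∈ C, χ 1 = (T.index : ℂ) * e * θ 1 := by
  classical
  haveI : Fintype H := Fintype.ofFinite _
  haveI : Fintype T := Fintype.ofFinite _
  haveI : Finite (Cfsg.IrrCharacter T) := irr_finite
  haveI : Fintype (Cfsg.IrrCharacter T) := Fintype.ofFinite _
  have hθc := IsIrrCharacter.isCharacter hθ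
  have hθcf := IsCharacter.isClassFunction hθc
  have hHT : H ≤ T := by
    intro h₀ hh₀
    rw [hT]
    intro h
    exact hθcf h ⟨h₀, hh₀⟩
  have hT' : ∀ g : G, g ∈ T ↔ conjFun H θ g = θ := by
    intro g
    rw [hT g]
    constructor
    · intro h
      funext n
      exact h n
    · intro h n
      exact congrFun h n
  haveI : Fintype (H.subgroupOf T) := Fintype.ofFinite _
  set ϑ' : H.subgroupOf T → ℂ :=
    fun x => θ ⟨((x : T) : G), Subgroup.mem_subgroupOf.mp x.2⟩ with hϑ'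
  have hϑ'irr : Cfsg.IsIrrCharacter (H.subgroupOf T) ϑ' :=
    IsIrrCharacter.comp_mulEquiv (Subgroup.subgroupOfEquivOfLe hHT) hθ
  have hinv' : ∀ t : T, conjFun (H.subgroupOf T) ϑ' t = ϑ' := by
    intro t
    funext x
    have := (hT (t : G)).mp t.2 ⟨((x : T) : G), Subgroup.mem_subgroupOf.mp x.2⟩
    exact this
  have hab' : ∀ x y : T, x * y * x⁻¹ * y⁻¹ ∈ H.subgroupOf T := by
    intro x y
    rw [Subgroup.mem_subgroupOf]
    exact hab x x.2 y y.2
  obtain ⟨e, Ψ, he, hΨmem, hΨres, hcard, hind'⟩ :=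
    abelian_quotient_clifford (H.subgroupOf T) ϑ' hϑ'irr hinv' hab'
  -- restriction to H of members of Ψ
  have hresH : ∀ ψ ∈ Ψ, (fun n : H => (ψ : T → ℂ) ⟨(n : G), hHT n.2⟩) = (e : ℂ) • θ := by
    intro ψ hψ
    funext n
    have := congrFun (hΨres ψ hψ) ⟨⟨(n : G), hHT n.2⟩, Subgroup.mem_subgroupOf.mpr n.2⟩
    exact this
  have heC : (e : ℂ) ≠ 0 := by exact_mod_cast he.ne'
  have hfH : ∀ ψ ∈ Ψ, Cfsg.classInner (fun n : H => (ψ : T → ℂ) ⟨(n : G), hHT n.2⟩) θ ≠ 0 := by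
    intro ψ hψ
    rw [hresH ψ hψ, classInner_smul_left, classInner_irr_self hθ, mul_one]
    exact heC
  have hinj : Set.InjOn (fun ψ : Cfsg.IrrCharacter T => Cfsg.indFun T (ψ : T → ℂ)) (Ψ : Set _) := by
    intro ψ₁ h₁ ψ₂ h₂ heq
    apply Subtype.ext
    exact clifford_corr_injective H θ hθ T hT' hHT ψ₁ ψ₂ ψ₁.2 ψ₂.2 (hfH ψ₁ h₁) (hfH ψ₂ h₂) heq
  refine ⟨e, Ψ.image (fun ψ : Cfsg.IrrCharacter T => Cfsg.indFun T (ψ : T → ℂ)), he, ?_, ?_, ?_,
    ?_⟩
  · intro χ hχ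
    obtain ⟨ψ, hψ, rfl⟩ := Finset.mem_image.mp hχ
    exact (clifford_corr_ind_irr H θ hθ T hT' hHT ψ ψ.2 (hfH ψ hψ)).1
  · rw [Finset.card_image_of_injOn hinj, ← hcard]
    congr 1
    exact (Nat.card_congr (Subgroup.subgroupOfEquivOfLe hHT).toEquiv).symm
  · rw [← indFun_trans H T hHT θ]
    change Cfsg.indFun T (Cfsg.indFun (H.subgroupOf T) ϑ') = _
    rw [hind', indFun_smul, indFun_sum, Finset.sum_image hinj]
  · intro χ hχ
    obtain ⟨ψ, hψ, rfl⟩ := Finset.mem_image.mp hχ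
    rw [indFun_apply_one]
    have := congrFun (hresH ψ hψ) 1
    simp only [Pi.smul_apply, smul_eq_mul] at this
    have h1 : (ψ : T → ℂ) 1 = (e : ℂ) * θ 1 := this
    rw [h1]
    ring

end Cfsg.Agent.Helper6
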