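import Mathlib
import Cfsg.Prelude.Def_Characters
import Cfsg.Prelude.Def_Blocks
import Cfsg.Agent.Helper6.BrauerFunctional
import Cfsg.Agent.Helper6.BlockKernel
import Cfsg.Agent.Helper6.InducedPart
import Cfsg.Agent.Helper6.Osima1
import Cfsg.Agent.Helper6.DefectClassValues
import Cfsg.Agent.Helper6.PowCongr
import Cfsg.Agent.Helper6.BlockUnion
import Cfsg.Agent.Helper6.OddReal
import Cfsg.Agent.Helper6.DefectZeroBlock
import Cfsg.Agent.Helper6.BlockPart

/-!
# Restriction of characters of the principal block to the `p'`-part of the centralizer of a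
`p`-subgroup
-/

set_option autoImplicit false
set_option linter.style.haveILetI false

namespace Cfsg.Agent.Helper6.PrinCent

open scoped ComplexConjugate

universe u

variable {G : Type u} [Group G] {M : Ideal Cfsg.AlgInt}

/-- The sum of a class function whose class sums lie in the local ideal lies in the local
ideal. -/
theorem memLocalIdeal_sum_of_class [Fintype G] (hM : M.IsMaximal) (f : G → ℂ)
    (hf : Cfsg.IsClassFunction G f)
    (h : ∀ g : G, Cfsg.MemLocalIdeal M
      (((Subgroup.centralizer ({g} : Set G)).index : ℂ) * f g)) :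
    Cfsg.MemLocalIdeal M (∑ g : G, f g) := by
  classical
  have hfib := Finset.sum_fiberwise (Finset.univ : Finset G) (fun g : G => ConjClasses.mk g) f
  rw [← hfib]
  apply MemLocalIdeal.sum hM
  intro C _
  have hfilter : Finset.univ.filter (fun g : G => ConjClasses.mk g = C) =
      classFinset (Quotient.out C) := by
    ext x
    rw [mem_classFinset]
    simp only [Finset.mem_filter, Finset.mem_univ, true_and]
    constructor
    · intro h
      have h2 : ConjClasses.mk (Quotient.out C) = C := Quotient.out_eq C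
      rw [← h2] at h
      exact (ConjClasses.mk_eq_mk_iff_isConj.mp h).symm
    · intro h
      have h2 : ConjClasses.mk (Quotient.out C) = C := Quotient.out_eq C
      rw [← h2]
      exact (ConjClasses.mk_eq_mk_iff_isConj.mpr h).symm
  rw [hfilter, sum_classFinset_classFunction f hf]
  exact h _

set_option maxHeartbeats 1600000 in
/-- Let `P` be a `p`-subgroup and `K` a `p'`-subgroup centralizing `P` which contains all the
`p`-regular elements of `C_G(P)`.  If `χ` lies in the principal block, every non-principal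
irreducible constituent of `χ_K` has multiplicity divisible by `p`. -/
theorem dvd_mult_of_principal [Finite G] {p : ℕ} [hp : Fact p.Prime] (hM : Cfsg.IsPModular p M)
    (P : Subgroup G) (hP : IsPGroup p P) (K : Subgroup G)
    (hKP : ∀ k ∈ K, ∀ x ∈ P, x * k = k * x) (hK : ¬ p ∣ Nat.card K)
    (hKreg : ∀ g : G, ¬ p ∣ orderOf g → g ∈ Subgroup.centralizer (P : Set G) → g ∈ K)
    (χ : Cfsg.IrrCharacter G) (hχ : χ ∈ Cfsg.principalBlock M G)
    (ψ : Cfsg.IrrCharacter K) (hψ : (ψ : K → ℂ) ≠ fun _ => 1) (n : ℕ) [Fintype K]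
    (hn : Cfsg.classInner (fun k : K => (χ : G → ℂ) k) (ψ : K → ℂ) = n) : p ∣ n := by
  classical
  haveI : Fintype G := Fintype.ofFinite G
  have hMm := hM.2.1
  have hχc := IsIrrCharacter.isCharacter χ.2
  have hχcf := IsCharacter.isClassFunction hχc
  have hψc := IsIrrCharacter.isCharacter ψ.2
  have hχ1 : (χ : G → ℂ) 1 ≠ 0 := IsIrrCharacter.apply_one_ne_zero χ.2
  have hK0 : (Nat.card K : ℂ) ≠ 0 := by
    exact_mod_cast (Nat.card_pos (α := K)).ne'
  -- elements of `K` are `p`-regular
  have hKord : ∀ k : K, ¬ p ∣ orderOf (k : G) := by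
    intro k hk
    apply hK
    rw [Subgroup.orderOf_coe] at hk
    exact dvd_trans hk (orderOf_dvd_natCard k)
  have hKcent : ∀ k : K, (k : G) ∈ Subgroup.centralizer (P : Set G) := by
    intro k
    rw [Subgroup.mem_centralizer_iff]
    intro x hx
    exact hKP k k.2 x hx
  obtain ⟨S, hS⟩ : ∃ S : Finset G, S = Finset.univ.filter (fun g => ¬ p ∣ orderOf g) := ⟨_, rfl⟩
  have hmemS : ∀ g : G, g ∈ S ↔ ¬ p ∣ orderOf g := by
    intro g
    rw [hS]
    simp
  have hSstab : ∀ x ∈ S, ∀ u ∈ P, u * x * u⁻¹ ∈ S := by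
    intro x hx u _
    rw [hmemS] at hx ⊢
    have : orderOf (u * x * u⁻¹) = orderOf x := by
      have := orderOf_injective (MulAut.conj u).toMonoidHom (MulAut.conj u).injective x
      simpa using this
    rw [this]
    exact hx
  have hfixed : ∀ x : G, x ∈ S.filter (· ∈ Subgroup.centralizer (P : Set G)) ↔ x ∈ K := by
    intro x
    rw [Finset.mem_filter, hmemS]
    constructor
    · intro h
      exact hKreg x h.1 h.2
    · intro h
      exact ⟨hKord ⟨x, h⟩, hKcent ⟨x, h⟩⟩
  obtain ⟨d, hd⟩ := IsCharacter.apply_one hψc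
  have hdpos : d ≠ 0 := by
    intro h0
    rw [h0, Nat.cast_zero] at hd
    exact IsIrrCharacter.apply_one_ne_zero ψ.2 hd
  have hddvd : d ∣ Nat.card K := by
    have h1 := charDegree_dvd_card ψ.2
    have h2 := charDegree_cast_of_isCharacter hψc
    rw [hd] at h2
    have : Cfsg.charDegree (ψ : K → ℂ) = d := by exact_mod_cast h2
    rw [this] at h1
    exact h1
  obtain ⟨c, hc⟩ : ∃ c : ℂ, c = (d : ℂ) / (Nat.card K : ℂ) := ⟨_, rfl⟩
  have hcloc : Cfsg.MemLocalRing M c := by
    rw [hc]
    exact memLocalRing_natCast_div hMm p hp.out hM.2.2 d (Nat.card K) hK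
  obtain ⟨F, hF⟩ : ∃ F : G → ℂ, F = fun g => c * ∑ k : K, conj ((ψ : K → ℂ) k) *
      (χ : G → ℂ) (g * (k : G)) := ⟨_, rfl⟩
  have hFinv : ∀ x ∈ S, ∀ u ∈ P, F (u * x * u⁻¹) = F x := by
    intro x _ u hu
    rw [hF]
    simp only
    congr 1
    apply Finset.sum_congr rfl
    intro k _
    congr 1
    have hcomm := hKP k k.2 u hu
    have h1 : u * x * u⁻¹ * (k : G) = u * (x * (k : G)) * u⁻¹ := by
      have h2 : u⁻¹ * (k : G) = (k : G) * u⁻¹ := by
        calc u⁻¹ * (k : G) = u⁻¹ * ((k : G) * u) * u⁻¹ := by group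
          _ = u⁻¹ * (u * (k : G)) * u⁻¹ := by rw [hcomm]
          _ = (k : G) * u⁻¹ := by group
      calc u * x * u⁻¹ * (k : G) = u * x * (u⁻¹ * (k : G)) := by group
        _ = u * x * ((k : G) * u⁻¹) := by rw [h2]
        _ = u * (x * (k : G)) * u⁻¹ := by group
    rw [h1]
    exact hχcf (x * (k : G)) u
  have hFloc : ∀ x ∈ S, Cfsg.MemLocalRing M (F x) := by
    intro x _
    rw [hF]
    simp only
    apply MemLocalRing.mul hMm hcloc
    apply MemLocalRing.sum hMm
    intro k _
    apply MemLocalRing.mul hMm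
    · apply memLocalRing_of_isIntegral hMm
      have := IsCharacter.isIntegral_value hψc k
      exact (map_isIntegral_int (starRingEnd ℂ) this)
    · exact memLocalRing_of_isIntegral hMm (IsCharacter.isIntegral_value hχc _)
  have h1 := sum_sub_sum_centralizer_memLocalIdeal hM P hP S hSstab F hFinv hFloc
  -- the sum over the fixed points vanishes
  have hψsum : ∑ k : K, (ψ : K → ℂ) k = 0 := by
    have h2 := classInner_irr_ne ψ.2 (isIrrCharacter_one (G := K)) hψ
    rw [Cfsg.classInner] at h2
    simp only [map_one, mul_one] at h2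
    rcases mul_eq_zero.mp h2 with h3 | h3
    · exact absurd (inv_eq_zero.mp h3) hK0
    · exact h3
  have he : ∑ x ∈ S.filter (· ∈ Subgroup.centralizer (P : Set G)), F x = 0 := by
    rw [Finset.sum_subtype _ hfixed F]
    have h2 : ∀ g : K, F (g : G) = c * ∑ k : K, conj ((ψ : K → ℂ) k) *
        (χ : G → ℂ) (((g * k : K) : K) : G) := by
      intro g
      rw [hF]
      rfl
    rw [Finset.sum_congr rfl (fun g _ => h2 g), ← Finset.mul_sum, Finset.sum_comm]
    have h3 : ∀ k : K, ∑ g : K, conj ((ψ : K → ℂ) k) * (χ : G → ℂ) (((g * k : K) : K) : G) =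
        conj ((ψ : K → ℂ) k) * ∑ g : K, (χ : G → ℂ) (g : G) := by
      intro k
      rw [← Finset.mul_sum]
      congr 1
      exact Equiv.sum_comp (Equiv.mulRight k) (fun g : K => (χ : G → ℂ) (g : G))
    rw [Finset.sum_congr rfl (fun k _ => h3 k), ← Finset.sum_mul, ← map_sum, hψsum, map_zero,
      zero_mul, mul_zero]
  -- the total sum
  obtain ⟨W, hW⟩ : ∃ W : ℂ, W = (∑ x ∈ S, (χ : G → ℂ) x) / (χ : G → ℂ) 1 := ⟨_, rfl⟩
  have hd1 : ∑ x ∈ S, F x = W * ((d : ℂ) * (n : ℂ)) := by
    have hind : Cfsg.IsClassFunction G (fun x : G => if ¬ p ∣ orderOf x then (1 : ℂ) else 0) := by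
      intro g h
      have : orderOf (h * g * h⁻¹) = orderOf g := by
        have := orderOf_injective (MulAut.conj h).toMonoidHom (MulAut.conj h).injective g
        simpa using this
      simp only [this]
    have htr : ∀ k : K, ∑ x ∈ S, (χ : G → ℂ) (x * (k : G)) = W * (χ : G → ℂ) (k : G) := by
      intro k
      have h2 := sum_classFunction_char_translate χ _ hind (k : G)
      have e1 : ∀ f : G → ℂ, ∑ x : G, (if ¬ p ∣ orderOf x then (1 : ℂ) else 0) * f x =
          ∑ x ∈ S, f x := by
        intro f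
        rw [hS, Finset.sum_filter]
        apply Finset.sum_congr rfl
        intro x _
        split_ifs <;> simp
      rw [e1 (fun x => (χ : G → ℂ) (x * (k : G))), e1 (fun x => (χ : G → ℂ) x)] at h2
      rw [h2, hW]
    rw [hF]
    simp only
    rw [← Finset.mul_sum, Finset.sum_comm]
    have h3 : ∀ k : K, ∑ x ∈ S, conj ((ψ : K → ℂ) k) * (χ : G → ℂ) (x * (k : G)) =
        W * ((χ : G → ℂ) (k : G) * conj ((ψ : K → ℂ) k)) := by
      intro k
      rw [← Finset.mul_sum, htr k]
      ring
    rw [Finset.sum_congr rfl (fun k _ => h3 k), ← Finset.mul_sum]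
    have h4 : ∑ k : K, (χ : G → ℂ) (k : G) * conj ((ψ : K → ℂ) k) = (Nat.card K : ℂ) * (n : ℂ) := by
      rw [← hn, Cfsg.classInner, ← mul_assoc, mul_inv_cancel₀ hK0, one_mul]
    rw [h4, hc]
    field_simp
  rw [hd1, he, sub_zero] at h1
  -- `W ≡ |S|`
  have hWS : Cfsg.MemLocalIdeal M (W - (S.card : ℂ)) := by
    have h2 := memLocalIdeal_sum_of_class hMm
      (fun x : G => if ¬ p ∣ orderOf x then ((χ : G → ℂ) x / (χ : G → ℂ) 1 - 1) else 0)
      (by
        intro g h
        have : orderOf (h * g * h⁻¹) = orderOf g := by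
          have := orderOf_injective (MulAut.conj h).toMonoidHom (MulAut.conj h).injective g
          simpa using this
        simp only [this, hχcf g h])
      (by
        intro g
        by_cases hg : ¬ p ∣ orderOf g
        · rw [if_pos hg]
          have h3 := MemLocalIdeal.neg (hχ g)
          have e : -(Cfsg.centralChar (fun _ : G => (1 : ℂ)) g -
              Cfsg.centralChar (χ : G → ℂ) g) =
              ((Subgroup.centralizer ({g} : Set G)).index : ℂ) *
                ((χ : G → ℂ) g / (χ : G → ℂ) 1 - 1) := by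
            unfold Cfsg.centralChar
            field_simp
            ring
          rw [e] at h3
          exact h3
        · rw [if_neg hg, mul_zero]
          exact memLocalIdeal_zero hMm)
    have e2 : ∑ x : G, (if ¬ p ∣ orderOf x then ((χ : G → ℂ) x / (χ : G → ℂ) 1 - 1) else 0) =
        W - (S.card : ℂ) := by
      rw [← Finset.sum_filter, ← hS, Finset.sum_sub_distrib, hW, Finset.sum_div]
      simp
    rw [e2] at h2
    exact h2
  -- `|S| ≡ |K|`
  have hSK : Cfsg.MemLocalIdeal M ((S.card : ℂ) - (Nat.card K : ℂ)) := by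
    have h2 := sum_sub_sum_centralizer_memLocalIdeal hM P hP S hSstab (fun _ => (1 : ℂ))
      (fun _ _ _ _ => rfl) (fun _ _ => memLocalRing_one hMm)
    rw [Finset.sum_subtype _ hfixed (fun _ => (1 : ℂ))] at h2
    simp only [Finset.sum_const, Finset.card_univ, nsmul_eq_mul, mul_one] at h2
    rw [← Nat.card_eq_fintype_card] at h2
    exact h2
  -- conclusion
  have hdn : Cfsg.MemLocalRing M ((d : ℂ) * (n : ℂ)) :=
    MemLocalRing.mul hMm (memLocalRing_natCast hMm d) (memLocalRing_natCast hMm n)
  have hfinal : Cfsg.MemLocalIdeal M (((Nat.card K * d * n : ℕ) : ℂ)) := by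
    have e : ((Nat.card K * d * n : ℕ) : ℂ) =
        W * ((d : ℂ) * (n : ℂ)) - ((d : ℂ) * (n : ℂ)) * (W - (S.card : ℂ)) -
          ((d : ℂ) * (n : ℂ)) * ((S.card : ℂ) - (Nat.card K : ℂ)) := by
      push_cast
      ring
    rw [e]
    exact MemLocalIdeal.sub hMm (MemLocalIdeal.sub hMm h1 (MemLocalIdeal.mul_left hMm hdn hWS))
      (MemLocalIdeal.mul_left hMm hdn hSK)
  have hdvd := dvd_of_memLocalIdeal_natCast hM _ hfinal
  rcases (Nat.Prime.dvd_mul hp.out).mp hdvd with h2 | h2
  · rcases (Nat.Prime.dvd_mul hp.out).mp h2 with h3 | h3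
    · exact absurd h3 hK
    · exact absurd (dvd_trans h3 hddvd) hK
  · exact h2

end Cfsg.Agent.Helper6.PrinCent
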