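import Mathlib
import Cfsg.Prelude.Def_Characters
import Cfsg.Prelude.Def_Blocks
import Cfsg.Agent.Helper6.BlockBasic
import Cfsg.Agent.Helper6.BlockUnion
import Cfsg.Agent.Helper6.StructConst
import Cfsg.Agent.Helper6.PrinCentA
import Cfsg.Agent.Helper6.PrincipalDefect
import Cfsg.Agent.Helper6.BlockCover1
import Cfsg.Agent.Helper6.BlockCover3
import Cfsg.Agent.Helper6.InducedPart
import Cfsg.Agent.Helper6.Osima1
import Cfsg.Agent.Helper6.Osima3
import Cfsg.Agent.Helper6.FongMax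
import Cfsg.Agent.Helper6.BlockEquiv
import Cfsg.Agent.Helper6.RootsModM
import Cfsg.Agent.Helper6.DefectClassValues
import Cfsg.Agent.Helper6.GroupAlgC

/-!
# Alperin–Dade for principal blocks, part A: congruences for products of central characters,
roots of unity modulo the local ideal
-/

set_option autoImplicit false
set_option linter.style.haveILetI false

namespace Cfsg.Agent.Helper6.AlpDade

open scoped ComplexConjugate

universe u

variable {G : Type u} [Group G] {M : Ideal Cfsg.AlgInt}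

/-- the class size of `g` -/
noncomputable def cls (g : G) : ℕ := (Subgroup.centralizer ({g} : Set G)).index

theorem centralChar_eq_cls (χ : G → ℂ) (g : G) :
    Cfsg.centralChar χ g = (cls g : ℂ) * (χ g / χ 1) := by
  unfold Cfsg.centralChar cls
  ring

theorem cls_inv (g : G) : cls g⁻¹ = cls g := by
  unfold cls
  congr 1
  ext y
  simp only [Subgroup.mem_centralizer_iff, Set.mem_singleton_iff, forall_eq]
  constructor
  · intro h
    calc g * y = g * (y * g⁻¹) * g := by group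
      _ = g * (g⁻¹ * y) * g := by rw [h]
      _ = y * g := by group
  · intro h
    calc g⁻¹ * y = g⁻¹ * (y * g) * g⁻¹ := by group
      _ = g⁻¹ * (g * y) * g⁻¹ := by rw [h]
      _ = y * g⁻¹ := by group

theorem cls_pos [Finite G] (g : G) : 0 < cls g := by
  unfold cls
  exact Nat.pos_of_ne_zero Subgroup.index_ne_zero_of_finite

/-- **product congruence**: if the central character of `χ` is congruent to `a` times the class
size on all classes occurring in the product of the classes of `h` and `g`, then the product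
of the central characters at `h` and `g` is congruent to `a` times the product of the class
sizes -/
theorem prod_congr [Fintype G] (hM : M.IsMaximal) (χ : Cfsg.IrrCharacter G) (h g : G) (a : ℂ)
    (H : ∀ t : G, (classPairs h g t).Nonempty →
      Cfsg.MemLocalIdeal M (Cfsg.centralChar (χ : G → ℂ) t - (cls t : ℂ) * a)) :
    Cfsg.MemLocalIdeal M (Cfsg.centralChar (χ : G → ℂ) h * Cfsg.centralChar (χ : G → ℂ) g -
      (cls h : ℂ) * (cls g : ℂ) * a) := by
  classical
  have h1 := centralChar_mul_centralChar χ h g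
  have h2 := centralChar_mul_centralChar (trivIrr G) h g
  have h3 : ∀ x : G, Cfsg.centralChar ((trivIrr G : Cfsg.IrrCharacter G) : G → ℂ) x =
      (cls x : ℂ) := by
    intro x
    rw [centralChar_eq_cls]
    show (cls x : ℂ) * ((1 : ℂ) / 1) = _
    simp
  rw [h3, h3] at h2
  have h4 : ∑ t : G, ((classPairs h g t).card : ℂ) *
      ((trivIrr G : Cfsg.IrrCharacter G) : G → ℂ) t /
      ((trivIrr G : Cfsg.IrrCharacter G) : G → ℂ) 1 = ∑ t : G, ((classPairs h g t).card : ℂ) := by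
    apply Finset.sum_congr rfl
    intro t _
    show ((classPairs h g t).card : ℂ) * 1 / 1 = _
    simp
  rw [h4] at h2
  set f : G → ℂ := fun t => ((classPairs h g t).card : ℂ) *
    ((χ : G → ℂ) t / (χ : G → ℂ) 1 - a) with hf
  have hsum : Cfsg.centralChar (χ : G → ℂ) h * Cfsg.centralChar (χ : G → ℂ) g -
      (cls h : ℂ) * (cls g : ℂ) * a = ∑ t : G, f t := by
    rw [h1, h2, Finset.sum_mul, ← Finset.sum_sub_distrib]
    apply Finset.sum_congr rfl
    intro t _
    rw [hf]
    ring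
  rw [hsum]
  have hχcf := IsCharacter.isClassFunction (IsIrrCharacter.isCharacter χ.2)
  apply PrinCent.memLocalIdeal_sum_of_class hM f
  · intro t c
    rw [hf]
    simp only
    rw [card_classPairs_conj, hχcf]
  · intro t
    by_cases hne : (classPairs h g t).Nonempty
    · have h5 := H t hne
      have h6 : ((Subgroup.centralizer ({t} : Set G)).index : ℂ) * f t =
          ((classPairs h g t).card : ℂ) *
            (Cfsg.centralChar (χ : G → ℂ) t - (cls t : ℂ) * a) := by
        rw [hf, centralChar_eq_cls]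
        unfold cls
        ring
      rw [h6]
      exact MemLocalIdeal.mul_left hM (memLocalRing_natCast hM _) h5
    · rw [Finset.not_nonempty_iff_eq_empty] at hne
      rw [hf]
      simp only [hne, Finset.card_empty, Nat.cast_zero, zero_mul, mul_zero]
      exact memLocalIdeal_zero hM

/-- **L1**: an irreducible character over a member of the principal block of the normal
subgroup `N` has central character congruent to the class size on `N` -/
theorem centralChar_congr_of_over [Fintype G] (hM : M.IsMaximal) (N : Subgroup G) [hN : N.Normal]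
    [Fintype N] (χ : Cfsg.IrrCharacter G) (θ : Cfsg.IrrCharacter N)
    (hθ : θ ∈ Cfsg.principalBlock M N)
    (hne : Cfsg.classInner (fun n : N => (χ : G → ℂ) n) (θ : N → ℂ) ≠ 0) (n : N) :
    Cfsg.MemLocalIdeal M (Cfsg.centralChar (χ : G → ℂ) (n : G) - (cls (n : G) : ℂ)) := by
  classical
  have hχB : χ ∈ Cfsg.blockOf M (χ : G → ℂ) := sameBlock_refl hM _
  have h1 := covering_congr hM N (Cfsg.blockOf M (χ : G → ℂ)) ⟨χ, rfl⟩
    (Cfsg.principalBlock M N) (isPBlock_principalBlock N) χ hχB θ hθ hne χ hχB (trivIrr N)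
    (trivIrr_mem_principalBlock hM) n
  have h2 : Cfsg.inducedCentralChar N ((trivIrr N : Cfsg.IrrCharacter N) : N → ℂ) (n : G) =
      (cls (n : G) : ℂ) := by
    rw [inducedCentralChar_eq_sum']
    have : ∀ m ∈ normalClassFinset N (n : G),
        ((trivIrr N : Cfsg.IrrCharacter N) : N → ℂ) m /
          ((trivIrr N : Cfsg.IrrCharacter N) : N → ℂ) 1 = 1 := by
      intro m _
      show (1 : ℂ) / 1 = 1
      simp
    rw [Finset.sum_congr rfl this, Finset.sum_const, card_normalClassFinset]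
    unfold cls
    simp
  rw [h2] at h1
  exact h1

/-! ### roots of unity of order prime to `p` -/

/-- a complex root of unity of order prime to `p` -/
def IsPRoot (p : ℕ) (ε : ℂ) : Prop := ∃ m : ℕ, ¬ p ∣ m ∧ ε ^ m = 1

theorem IsPRoot.one (p : ℕ) [hp : Fact p.Prime] : IsPRoot p 1 :=
  ⟨1, hp.out.one_lt.ne' ∘ Nat.dvd_one.mp, by simp⟩

theorem IsPRoot.mul {p : ℕ} [hp : Fact p.Prime] {ε₁ ε₂ : ℂ} (h₁ : IsPRoot p ε₁)
    (h₂ : IsPRoot p ε₂) : IsPRoot p (ε₁ * ε₂) := by
  obtain ⟨m₁, hm₁, e₁⟩ := h₁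
  obtain ⟨m₂, hm₂, e₂⟩ := h₂
  refine ⟨m₁ * m₂, ?_, ?_⟩
  · intro hd
    rcases (Nat.Prime.dvd_mul hp.out).mp hd with h | h
    · exact hm₁ h
    · exact hm₂ h
  · rw [mul_pow, pow_mul, e₁, one_pow, mul_comm m₁ m₂, pow_mul, e₂, one_pow, one_mul]

theorem IsPRoot.ne_zero {p : ℕ} {ε : ℂ} (h : IsPRoot p ε) : ε ≠ 0 := by
  obtain ⟨m, hm, e⟩ := h
  intro h0
  have hm0 : m ≠ 0 := fun h => hm (h ▸ dvd_zero p)
  rw [h0, zero_pow hm0] at e
  exact zero_ne_one e

theorem IsPRoot.inv {p : ℕ} {ε : ℂ} (h : IsPRoot p ε) : IsPRoot p ε⁻¹ := by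
  obtain ⟨m, hm, e⟩ := h
  exact ⟨m, hm, by rw [inv_pow, e, inv_one]⟩

theorem IsPRoot.isIntegral {p : ℕ} {ε : ℂ} (h : IsPRoot p ε) : IsIntegral ℤ ε := by
  obtain ⟨m, hm, e⟩ := h
  have hm0 : 0 < m := Nat.pos_of_ne_zero (fun h => hm (h ▸ dvd_zero p))
  exact IsIntegral.of_pow hm0 (by rw [e]; exact isIntegral_one)

theorem IsPRoot.memLocalRing {p : ℕ} {ε : ℂ} (hM : M.IsMaximal) (h : IsPRoot p ε) :
    Cfsg.MemLocalRing M ε :=
  memLocalRing_of_isIntegral hM h.isIntegral

/-- two roots of unity of order prime to `p` that are congruent are equal -/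
theorem IsPRoot.eq_of_congr {p : ℕ} [hp : Fact p.Prime] (hM : Cfsg.IsPModular p M) {ε₁ ε₂ : ℂ}
    (h₁ : IsPRoot p ε₁) (h₂ : IsPRoot p ε₂) (h : Cfsg.MemLocalIdeal M (ε₁ - ε₂)) : ε₁ = ε₂ := by
  set e₁ : Cfsg.AlgInt := ⟨ε₁, h₁.isIntegral⟩ with he₁
  set e₂ : Cfsg.AlgInt := ⟨ε₂, h₂.isIntegral⟩ with he₂
  have h3 : e₁ - e₂ ∈ M := by
    rw [← memLocalIdeal_coe_iff hM.2.1]
    exact h
  have h4 := roots_injective_mod p hp.out M hM.2.1 hM.2.2 e₁ e₂ h₁ h₂ h3
  exact congrArg Subtype.val h4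

/-- a unit of the local ring is congruent to a root of unity of order prime to `p` -/
theorem exists_root_congr_local {p : ℕ} [hp : Fact p.Prime] (hM : Cfsg.IsPModular p M) (z : ℂ)
    (hz : Cfsg.MemLocalRing M z) (hz' : ¬ Cfsg.MemLocalIdeal M z) :
    ∃ ε : ℂ, IsPRoot p ε ∧ Cfsg.MemLocalIdeal M (z - ε) := by
  obtain ⟨a, b, hb, rfl⟩ := hz
  have ha : a ∉ M := by
    intro ha
    exact hz' ⟨a, b, ha, hb, rfl⟩
  obtain ⟨εa, hεa, hεa'⟩ := exists_root_congr p M hM.2.1 hM.2.2 a ha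
  obtain ⟨εb, hεb, hεb'⟩ := exists_root_congr p M hM.2.1 hM.2.2 b hb
  have hb0 : (b : ℂ) ≠ 0 := algInt_coe_ne_zero hb
  have hrb : IsPRoot p (εb : ℂ) := hεb
  have hra : IsPRoot p (εa : ℂ) := hεa
  have hεb0 : (εb : ℂ) ≠ 0 := hrb.ne_zero
  refine ⟨(εa : ℂ) * (εb : ℂ)⁻¹, hra.mul hrb.inv, ?_⟩
  have h1 : (a : ℂ) / (b : ℂ) - (εa : ℂ) * (εb : ℂ)⁻¹ =
      ((εb : ℂ)⁻¹ * (b : ℂ)⁻¹) * (((a - εa : Cfsg.AlgInt) : ℂ) * (εb : ℂ) -
        (εa : ℂ) * ((b - εb : Cfsg.AlgInt) : ℂ)) := by
    push_cast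
    field_simp
    ring
  rw [h1]
  apply MemLocalIdeal.mul_left hM.2.1
  · apply MemLocalRing.mul hM.2.1 (hrb.inv.memLocalRing hM.2.1)
    refine ⟨1, b, hb, ?_⟩
    simp
  · apply MemLocalIdeal.sub hM.2.1
    · rw [mul_comm]
      exact MemLocalIdeal.mul_left hM.2.1 (hrb.memLocalRing hM.2.1)
        ((memLocalIdeal_coe_iff hM.2.1 _).mpr hεa')
    · exact MemLocalIdeal.mul_left hM.2.1 (hra.memLocalRing hM.2.1)
        ((memLocalIdeal_coe_iff hM.2.1 _).mpr hεb')

/-- a natural number prime to `p` is a unit of the local ring -/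
theorem memLocalRing_inv_natCast {p : ℕ} [hp : Fact p.Prime] (hM : Cfsg.IsPModular p M) (t : ℕ)
    (ht : ¬ p ∣ t) : Cfsg.MemLocalRing M ((t : ℂ)⁻¹) := by
  have := memLocalRing_natCast_div hM.2.1 p hp.out hM.2.2 1 t ht
  simpa using this

end Cfsg.Agent.Helper6.AlpDade
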