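import Mathlib
import Cfsg.Prelude.Def_Characters
import Cfsg.Prelude.Def_Blocks
import Cfsg.Agent.Helper6.AlpDadeA

/-!
# Alperin–Dade for principal blocks, part B: the linear character attached to a character over the
principal block of a normal subgroup with abelian quotient
-/

set_option autoImplicit false
set_option linter.style.haveILetI false

namespace Cfsg.Agent.Helper6.AlpDade

open scoped ComplexConjugate

universe u

variable {G : Type u} [Group G] {M : Ideal Cfsg.AlgInt}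

/-- the hypotheses of the twisting theorem -/
structure TSetup (p : ℕ) (M : Ideal Cfsg.AlgInt) (N C : Subgroup G) (χ : Cfsg.IrrCharacter G) :
    Prop where
  hC : ∀ c ∈ C, ¬ p ∣ cls c
  hsup : ∀ g : G, ∃ c ∈ C, c⁻¹ * g ∈ N
  hab : ∀ x y : G, x * y * x⁻¹ * y⁻¹ ∈ N
  hχ : ∀ n ∈ N, Cfsg.MemLocalIdeal M (Cfsg.centralChar (χ : G → ℂ) n - (cls n : ℂ))

/-- the normalized character value -/
noncomputable def nv (χ : Cfsg.IrrCharacter G) (g : G) : ℂ := (χ : G → ℂ) g / (χ : G → ℂ) 1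

theorem centralChar_eq_nv (χ : Cfsg.IrrCharacter G) (g : G) :
    Cfsg.centralChar (χ : G → ℂ) g = (cls g : ℂ) * nv χ g :=
  centralChar_eq_cls _ g

theorem nv_one (χ : Cfsg.IrrCharacter G) : nv χ 1 = 1 := by
  unfold nv
  exact div_self (IsIrrCharacter.apply_one_ne_zero χ.2)

variable {p : ℕ} {N C : Subgroup G} {χ : Cfsg.IrrCharacter G}

theorem TSetup.conj_coset [hN : N.Normal] (S : TSetup p M N C χ) {h x : G} (hx : IsConj h x) :
    ((x : G) : G ⧸ N) = ((h : G) : G ⧸ N) := by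
  obtain ⟨c, rfl⟩ := isConj_iff.mp hx
  rw [QuotientGroup.eq]
  have := S.hab c h⁻¹
  have e : (c * h * c⁻¹)⁻¹ * h = c * h⁻¹ * c⁻¹ * h⁻¹⁻¹ := by group
  rw [e]
  exact this

theorem TSetup.prod_coset [Fintype G] [hN : N.Normal] (S : TSetup p M N C χ) {h g t : G}
    (hne : (classPairs h g t).Nonempty) : (h * g)⁻¹ * t ∈ N := by
  obtain ⟨q, hq⟩ := hne
  rw [mem_classPairs] at hq
  rw [← QuotientGroup.eq, ← hq.2.2, QuotientGroup.mk_mul, QuotientGroup.mk_mul,
    S.conj_coset hq.1, S.conj_coset hq.2.1]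

theorem TSetup.star [Fintype G] [hN : N.Normal] (hM : M.IsMaximal) (S : TSetup p M N C χ)
    {h g : G} (hg : h * g ∈ N) :
    Cfsg.MemLocalIdeal M (Cfsg.centralChar (χ : G → ℂ) h * Cfsg.centralChar (χ : G → ℂ) g -
      (cls h : ℂ) * (cls g : ℂ)) := by
  have h1 := prod_congr hM χ h g 1 (by
    intro t hne
    have h2 := S.prod_coset hne
    have h3 : t ∈ N := by
      have := N.mul_mem hg h2
      rwa [mul_inv_cancel_left] at this
    rw [mul_one]
    exact S.hχ t h3)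
  rwa [mul_one] at h1

theorem TSetup.nv_local [Finite G] [hp : Fact p.Prime] (hM : Cfsg.IsPModular p M)
    (S : TSetup p M N C χ) {x : G} (hx : x ∈ C) : Cfsg.MemLocalRing M (nv χ x) := by
  have h1 : nv χ x = ((cls x : ℕ) : ℂ)⁻¹ * Cfsg.centralChar (χ : G → ℂ) x := by
    rw [centralChar_eq_nv]
    have : ((cls x : ℕ) : ℂ) ≠ 0 := by exact_mod_cast (cls_pos x).ne'
    field_simp
  rw [h1]
  exact MemLocalRing.mul hM.2.1 (memLocalRing_inv_natCast hM _ (S.hC x hx))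
    (memLocalRing_of_isIntegral hM.2.1 (isIntegral_centralChar χ x))

theorem TSetup.nv_inv [Fintype G] [hN : N.Normal] [hp : Fact p.Prime] (hM : Cfsg.IsPModular p M)
    (S : TSetup p M N C χ) {x : G} (hx : x ∈ C) :
    Cfsg.MemLocalIdeal M (nv χ x⁻¹ * nv χ x - 1) := by
  have h1 := S.star hM.2.1 (h := x⁻¹) (g := x) (by rw [inv_mul_cancel]; exact N.one_mem)
  rw [centralChar_eq_nv, centralChar_eq_nv, cls_inv] at h1
  have h2 : (cls x : ℂ) * nv χ x⁻¹ * ((cls x : ℂ) * nv χ x) - (cls x : ℂ) * (cls x : ℂ) =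
      (cls x : ℂ) * ((cls x : ℂ) * (nv χ x⁻¹ * nv χ x - 1)) := by ring
  rw [h2] at h1
  exact memLocalIdeal_of_natCast_mul hM _ (S.hC x hx) _
    (memLocalIdeal_of_natCast_mul hM _ (S.hC x hx) _ h1)

theorem TSetup.ratio [Fintype G] [hN : N.Normal] [hp : Fact p.Prime] (hM : Cfsg.IsPModular p M)
    (S : TSetup p M N C χ) {x g : G} (hx : x ∈ C) (hg : x⁻¹ * g ∈ N) :
    Cfsg.MemLocalIdeal M ((cls g : ℂ) * (nv χ g - nv χ x)) := by
  have h1 := S.star hM.2.1 (h := x⁻¹) (g := g) hg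
  rw [centralChar_eq_nv, centralChar_eq_nv, cls_inv] at h1
  have h2 : (cls x : ℂ) * nv χ x⁻¹ * ((cls g : ℂ) * nv χ g) - (cls x : ℂ) * (cls g : ℂ) =
      (cls x : ℂ) * ((cls g : ℂ) * (nv χ x⁻¹ * nv χ g - 1)) := by ring
  rw [h2] at h1
  have E1 := memLocalIdeal_of_natCast_mul hM _ (S.hC x hx) _ h1
  have E2 := S.nv_inv hM hx
  have h3 : (cls g : ℂ) * (nv χ g - nv χ x) =
      nv χ x * ((cls g : ℂ) * (nv χ x⁻¹ * nv χ g - 1)) -
        Cfsg.centralChar (χ : G → ℂ) g * (nv χ x⁻¹ * nv χ x - 1) := by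
    rw [centralChar_eq_nv]
    ring
  rw [h3]
  exact MemLocalIdeal.sub hM.2.1 (MemLocalIdeal.mul_left hM.2.1 (S.nv_local hM hx) E1)
    (MemLocalIdeal.mul_left hM.2.1
      (memLocalRing_of_isIntegral hM.2.1 (isIntegral_centralChar χ g)) E2)

theorem TSetup.mult [Fintype G] [hN : N.Normal] [hp : Fact p.Prime] (hM : Cfsg.IsPModular p M)
    (S : TSetup p M N C χ) {x y : G} (hx : x ∈ C) (hy : y ∈ C) :
    Cfsg.MemLocalIdeal M (nv χ x * nv χ y - nv χ (x * y)) := by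
  have h1 := prod_congr hM.2.1 χ x y (nv χ (x * y)) (by
    intro t hne
    have h2 := S.ratio hM (C.mul_mem hx hy) (S.prod_coset hne)
    rw [centralChar_eq_nv]
    have e : (cls t : ℂ) * nv χ t - (cls t : ℂ) * nv χ (x * y) =
        (cls t : ℂ) * (nv χ t - nv χ (x * y)) := by ring
    rw [e]
    exact h2)
  rw [centralChar_eq_nv, centralChar_eq_nv] at h1
  have h2 : (cls x : ℂ) * nv χ x * ((cls y : ℂ) * nv χ y) -
      (cls x : ℂ) * (cls y : ℂ) * nv χ (x * y) =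
      (cls x : ℂ) * ((cls y : ℂ) * (nv χ x * nv χ y - nv χ (x * y))) := by ring
  rw [h2] at h1
  exact memLocalIdeal_of_natCast_mul hM _ (S.hC y hy) _
    (memLocalIdeal_of_natCast_mul hM _ (S.hC x hx) _ h1)

theorem TSetup.nv_N [Fintype G] [hp : Fact p.Prime] (hM : Cfsg.IsPModular p M)
    (S : TSetup p M N C χ) {n : G} (hn : n ∈ N) (hnC : n ∈ C) :
    Cfsg.MemLocalIdeal M (nv χ n - 1) := by
  have h1 := S.hχ n hn
  rw [centralChar_eq_nv] at h1
  have e : (cls n : ℂ) * nv χ n - (cls n : ℂ) = (cls n : ℂ) * (nv χ n - 1) := by ring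
  rw [e] at h1
  exact memLocalIdeal_of_natCast_mul hM _ (S.hC n hnC) _ h1

theorem TSetup.same_coset [Fintype G] [hN : N.Normal] [hp : Fact p.Prime]
    (hM : Cfsg.IsPModular p M) (S : TSetup p M N C χ) {x x' : G} (hx : x ∈ C) (hx' : x' ∈ C)
    (h : x⁻¹ * x' ∈ N) : Cfsg.MemLocalIdeal M (nv χ x - nv χ x') := by
  have hd : x⁻¹ * x' ∈ C := C.mul_mem (C.inv_mem hx) hx'
  have h1 := S.mult hM hx hd
  rw [mul_inv_cancel_left] at h1
  have h2 := S.nv_N hM h hd
  have e : nv χ x - nv χ x' = nv χ x * (nv χ (x⁻¹ * x') - 1) * (-1) +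
      (nv χ x * nv χ (x⁻¹ * x') - nv χ x') := by ring
  rw [e]
  apply MemLocalIdeal.add hM.2.1 _ h1
  rw [mul_comm]
  exact MemLocalIdeal.mul_left hM.2.1 (MemLocalRing.neg (memLocalRing_one hM.2.1))
    (MemLocalIdeal.mul_left hM.2.1 (S.nv_local hM hx) h2)

theorem TSetup.nv_unit [Fintype G] [hN : N.Normal] [hp : Fact p.Prime]
    (hM : Cfsg.IsPModular p M) (S : TSetup p M N C χ) {x : G} (hx : x ∈ C) :
    ¬ Cfsg.MemLocalIdeal M (nv χ x) := by
  intro h
  have h1 := S.nv_inv hM hx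
  have h2 := MemLocalIdeal.mul_left hM.2.1 (S.nv_local hM (C.inv_mem hx)) h
  have h3 := MemLocalIdeal.sub hM.2.1 h2 h1
  have e : nv χ x⁻¹ * nv χ x - (nv χ x⁻¹ * nv χ x - 1) = 1 := by ring
  rw [e] at h3
  exact not_memLocalIdeal_one h3

/-- the relation defining the linear character -/
def TRel (p : ℕ) (M : Ideal Cfsg.AlgInt) (N C : Subgroup G) (χ : Cfsg.IrrCharacter G) (g : G)
    (ε : ℂ) : Prop :=
  IsPRoot p ε ∧ ∃ x ∈ C, x⁻¹ * g ∈ N ∧ Cfsg.MemLocalIdeal M (nv χ x - ε)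

theorem TSetup.exists_rel [Fintype G] [hN : N.Normal] [hp : Fact p.Prime]
    (hM : Cfsg.IsPModular p M) (S : TSetup p M N C χ) (g : G) : ∃ ε, TRel p M N C χ g ε := by
  obtain ⟨x, hx, hxg⟩ := S.hsup g
  obtain ⟨ε, hε, hcong⟩ := exists_root_congr_local hM (nv χ x) (S.nv_local hM hx)
    (S.nv_unit hM hx)
  exact ⟨ε, hε, x, hx, hxg, hcong⟩

theorem TSetup.rel_unique [Fintype G] [hN : N.Normal] [hp : Fact p.Prime]
    (hM : Cfsg.IsPModular p M) (S : TSetup p M N C χ) {g : G} {ε ε' : ℂ}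
    (h : TRel p M N C χ g ε) (h' : TRel p M N C χ g ε') : ε = ε' := by
  obtain ⟨hε, x, hx, hxg, hc⟩ := h
  obtain ⟨hε', x', hx', hxg', hc'⟩ := h'
  apply IsPRoot.eq_of_congr hM hε hε'
  have hd : x⁻¹ * x' ∈ N := by
    have := N.mul_mem hxg (N.inv_mem hxg')
    have e : x⁻¹ * g * (x'⁻¹ * g)⁻¹ = x⁻¹ * x' := by group
    rwa [e] at this
  have h1 := S.same_coset hM hx hx' hd
  have e : ε - ε' = (nv χ x - nv χ x') + (nv χ x' - ε') - (nv χ x - ε) := by ring
  rw [e]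
  exact MemLocalIdeal.sub hM.2.1 (MemLocalIdeal.add hM.2.1 h1 hc') hc

theorem TSetup.rel_mul [Fintype G] [hN : N.Normal] [hp : Fact p.Prime]
    (hM : Cfsg.IsPModular p M) (S : TSetup p M N C χ) {g h : G} {ε ε' : ℂ}
    (hg : TRel p M N C χ g ε) (hh : TRel p M N C χ h ε') : TRel p M N C χ (g * h) (ε * ε') := by
  obtain ⟨hε, x, hx, hxg, hc⟩ := hg
  obtain ⟨hε', y, hy, hyh, hc'⟩ := hh
  refine ⟨hε.mul hε', x * y, C.mul_mem hx hy, ?_, ?_⟩
  · have e : (x * y)⁻¹ * (g * h) = y⁻¹ * (x⁻¹ * g) * y⁻¹⁻¹ * (y⁻¹ * h) := by group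
    rw [e]
    exact N.mul_mem (hN.conj_mem _ hxg _) hyh
  · have h1 := S.mult hM hx hy
    have e : nv χ (x * y) - ε * ε' = (nv χ x - ε) * nv χ y + ε * (nv χ y - ε') -
        (nv χ x * nv χ y - nv χ (x * y)) := by ring
    rw [e]
    apply MemLocalIdeal.sub hM.2.1 _ h1
    apply MemLocalIdeal.add hM.2.1
    · rw [mul_comm]
      exact MemLocalIdeal.mul_left hM.2.1 (S.nv_local hM hy) hc
    · exact MemLocalIdeal.mul_left hM.2.1 (hε.memLocalRing hM.2.1) hc'

theorem TSetup.rel_of_mem [hp : Fact p.Prime] (hM : M.IsMaximal) {n : G} (hn : n ∈ N) :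
    TRel p M N C χ n 1 := by
  refine ⟨IsPRoot.one p, 1, C.one_mem, ?_, ?_⟩
  · rw [inv_one, one_mul]
    exact hn
  · rw [nv_one, sub_self]
    exact memLocalIdeal_zero hM

/-- **twisting theorem**: an irreducible character of `G` whose central character is congruent
to the class size on the normal subgroup `N` (with `G/N` an abelian group and `G = NC`, `C` a
subgroup all of whose elements have class size prime to `p`) has central character congruent to
class size times a linear character of `G/N` -/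
theorem exists_hom_twist [Fintype G] [hN : N.Normal] [hp : Fact p.Prime]
    (hM : Cfsg.IsPModular p M) (S : TSetup p M N C χ) :
    ∃ lam : G →* ℂˣ, (∀ n ∈ N, lam n = 1) ∧
      ∀ g : G, Cfsg.MemLocalIdeal M (Cfsg.centralChar (χ : G → ℂ) g -
        (cls g : ℂ) * ((lam g : ℂˣ) : ℂ)) := by
  classical
  choose F hF using S.exists_rel hM
  have hF1 : ∀ n ∈ N, F n = 1 := fun n hn =>
    S.rel_unique hM (hF n) (TSetup.rel_of_mem hM.2.1 hn)
  have hFmul : ∀ g h : G, F (g * h) = F g * F h := fun g h =>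
    S.rel_unique hM (hF (g * h)) (S.rel_mul hM (hF g) (hF h))
  let f : G →* ℂ :=
    { toFun := F
      map_one' := hF1 1 N.one_mem
      map_mul' := hFmul }
  refine ⟨f.toHomUnits, ?_, ?_⟩
  · intro n hn
    apply Units.ext
    rw [MonoidHom.coe_toHomUnits]
    exact hF1 n hn
  · intro g
    rw [MonoidHom.coe_toHomUnits]
    show Cfsg.MemLocalIdeal M (Cfsg.centralChar (χ : G → ℂ) g - (cls g : ℂ) * F g)
    obtain ⟨hε, x, hx, hxg, hc⟩ := hF g
    have h1 := S.ratio hM hx hxg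
    rw [centralChar_eq_nv]
    have e : (cls g : ℂ) * nv χ g - (cls g : ℂ) * F g =
        (cls g : ℂ) * (nv χ g - nv χ x) + (cls g : ℂ) * (nv χ x - F g) := by ring
    rw [e]
    exact MemLocalIdeal.add hM.2.1 h1
      (MemLocalIdeal.mul_left hM.2.1 (memLocalRing_natCast hM.2.1 _) hc)

end Cfsg.Agent.Helper6.AlpDade
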