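import Mathlib
import Cfsg.Prelude.Def_Characters
import Cfsg.Prelude.Def_Blocks
import Cfsg.Agent.Helper6.AlpDadeB
import Cfsg.Agent.Helper6.AbelianInertia
import Cfsg.Agent.Helper6.Inflation
import Cfsg.Agent.Helper6.SmallDegree
import Cfsg.Agent.Helper6.RelGlaubC
import Cfsg.Agent.Helper6.PowCongr

/-!
# Alperin–Dade for principal blocks, part C: twisting into the principal block, characters of the
quotient, uniqueness of extensions in the principal block
-/

set_option autoImplicit false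
set_option linter.style.haveILetI false

namespace Cfsg.Agent.Helper6.AlpDade

open scoped ComplexConjugate

universe u

variable {G : Type u} [Group G] {M : Ideal Cfsg.AlgInt}

theorem mem_principalBlock_iff (hM : M.IsMaximal) (χ : Cfsg.IrrCharacter G) :
    χ ∈ Cfsg.principalBlock M G ↔
      ∀ g : G, Cfsg.MemLocalIdeal M (Cfsg.centralChar (χ : G → ℂ) g - (cls g : ℂ)) := by
  have h1 : ∀ g : G, Cfsg.centralChar (fun _ : G => (1 : ℂ)) g = (cls g : ℂ) := by
    intro g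
    rw [centralChar_eq_cls]
    simp
  constructor
  · intro h g
    have h2 : Cfsg.MemLocalIdeal M (Cfsg.centralChar (fun _ : G => (1 : ℂ)) g -
        Cfsg.centralChar (χ : G → ℂ) g) := h g
    rw [h1] at h2
    have := MemLocalIdeal.neg h2
    rwa [neg_sub] at this
  · intro h g
    show Cfsg.MemLocalIdeal M (Cfsg.centralChar (fun _ : G => (1 : ℂ)) g -
        Cfsg.centralChar (χ : G → ℂ) g)
    rw [h1]
    have := MemLocalIdeal.neg (h g)
    rwa [neg_sub] at this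

theorem isIntegral_hom_apply [Finite G] (lam : G →* ℂˣ) (g : G) :
    IsIntegral ℤ ((lam g : ℂˣ) : ℂ) := by
  have h1 : ((lam g : ℂˣ) : ℂ) ^ Nat.card G = 1 := by
    rw [← Units.val_pow_eq_pow_val, ← map_pow, pow_card_eq_one', map_one, Units.val_one]
  exact IsIntegral.of_pow Nat.card_pos (by rw [h1]; exact isIntegral_one)

/-- twisting a character whose central character is class size times a linear character into the
principal block -/
theorem twist_mem [Fintype G] (hM : M.IsMaximal) (χ' : Cfsg.IrrCharacter G) (lam : G →* ℂˣ)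
    (h : ∀ g : G, Cfsg.MemLocalIdeal M (Cfsg.centralChar (χ' : G → ℂ) g -
      (cls g : ℂ) * ((lam g : ℂˣ) : ℂ))) :
    ∃ χ₁ : Cfsg.IrrCharacter G, χ₁ ∈ Cfsg.principalBlock M G ∧
      (χ₁ : G → ℂ) = (χ' : G → ℂ) * fun g => ((lam⁻¹ g : ℂˣ) : ℂ) := by
  refine ⟨⟨_, IsIrrCharacter.mul_hom lam⁻¹ χ'.2⟩, ?_, rfl⟩
  rw [mem_principalBlock_iff hM]
  intro g
  have h1 : Cfsg.centralChar ((χ' : G → ℂ) * fun g => ((lam⁻¹ g : ℂˣ) : ℂ)) g - (cls g : ℂ) =
      ((lam⁻¹ g : ℂˣ) : ℂ) * (Cfsg.centralChar (χ' : G → ℂ) g -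
        (cls g : ℂ) * ((lam g : ℂˣ) : ℂ)) := by
    rw [centralChar_eq_cls, centralChar_eq_cls]
    simp only [Pi.mul_apply, map_one, Units.val_one, mul_one, MonoidHom.inv_apply,
      Units.val_inv_eq_inv_val]
    have : ((lam g : ℂˣ) : ℂ) ≠ 0 := Units.ne_zero _
    field_simp
  rw [h1]
  exact MemLocalIdeal.mul_left hM (memLocalRing_of_isIntegral hM (isIntegral_hom_apply _ g)) (h g)

/-- **characters of the quotient**: if `χ` and `β χ` both lie in the principal block, where `β`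
is an irreducible character with `N` in its kernel, then `β` is trivial -/
theorem ker_char_trivial [Fintype G] {p : ℕ} [hp : Fact p.Prime] (hM : Cfsg.IsPModular p M)
    (N C : Subgroup G) [hN : N.Normal] (hC : ∀ c ∈ C, ¬ p ∣ cls c)
    (hsup : ∀ g : G, ∃ c ∈ C, c⁻¹ * g ∈ N) (hidx : ¬ p ∣ N.index)
    (χ β ψ : Cfsg.IrrCharacter G) (hβ : ∀ n ∈ N, (β : G → ℂ) n = (β : G → ℂ) 1)
    (hψ : (ψ : G → ℂ) = (β : G → ℂ) * (χ : G → ℂ)) (hχ : χ ∈ Cfsg.principalBlock M G)
    (hψB : ψ ∈ Cfsg.principalBlock M G) : (β : G → ℂ) = fun _ => 1 := by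
  classical
  obtain ⟨β', hβ'⟩ := exists_deflate N β hβ
  haveI : Fintype (G ⧸ N) := Fintype.ofFinite _
  obtain ⟨d, hd1, hd2, hd3⟩ := IsIrrCharacter.degree_dvd_card β'.2
  have hdp : ¬ p ∣ d := by
    intro h
    apply hidx
    rw [Subgroup.index_eq_card]
    exact h.trans hd2
  have hβ1 : (β : G → ℂ) 1 = d := by
    rw [hβ', Function.comp_apply, QuotientGroup.mk_one, hd1]
  rw [mem_principalBlock_iff hM.2.1] at hχ hψB
  -- values on `C`
  have hval : ∀ q : G ⧸ N, Cfsg.MemLocalIdeal M ((β' : G ⧸ N → ℂ) q - (d : ℂ)) := by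
    intro q
    obtain ⟨g, rfl⟩ := QuotientGroup.mk_surjective q
    obtain ⟨c, hc, hcg⟩ := hsup g
    have hq : ((g : G) : G ⧸ N) = ((c : G) : G ⧸ N) := (QuotientGroup.eq.mpr hcg).symm
    rw [hq]
    have hbc : (β' : G ⧸ N → ℂ) ((c : G) : G ⧸ N) = (β : G → ℂ) c := by
      rw [hβ']
      rfl
    rw [hbc]
    have hd0 : (d : ℂ) ≠ 0 := by exact_mod_cast hd3.ne'
    set r : ℂ := (β : G → ℂ) c / (d : ℂ) with hr
    have hrloc : Cfsg.MemLocalRing M r := by
      rw [hr, div_eq_mul_inv]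
      exact MemLocalRing.mul hM.2.1
        (memLocalRing_of_isIntegral hM.2.1 (IsCharacter.isIntegral_value (IsIrrCharacter.isCharacter β.2) c))
        (memLocalRing_inv_natCast hM d hdp)
    have h1 := hχ c
    have h2 := hψB c
    have h3 : Cfsg.centralChar (ψ : G → ℂ) c = Cfsg.centralChar (χ : G → ℂ) c * r := by
      rw [centralChar_eq_cls, centralChar_eq_cls, hψ, hr]
      simp only [Pi.mul_apply, hβ1]
      have : (χ : G → ℂ) 1 ≠ 0 := IsIrrCharacter.apply_one_ne_zero χ.2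
      field_simp
    rw [h3] at h2
    have h4 : (cls c : ℂ) * (r - 1) =
        (Cfsg.centralChar (χ : G → ℂ) c * r - (cls c : ℂ)) -
          r * (Cfsg.centralChar (χ : G → ℂ) c - (cls c : ℂ)) := by ring
    have h5 : Cfsg.MemLocalIdeal M ((cls c : ℂ) * (r - 1)) := by
      rw [h4]
      exact MemLocalIdeal.sub hM.2.1 h2 (MemLocalIdeal.mul_left hM.2.1 hrloc h1)
    have h6 := memLocalIdeal_of_natCast_mul hM _ (hC c hc) _ h5
    have h7 : (β : G → ℂ) c - (d : ℂ) = (d : ℂ) * (r - 1) := by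
      rw [hr]
      field_simp
    rw [h7]
    exact MemLocalIdeal.mul_left hM.2.1 (memLocalRing_natCast hM.2.1 _) h6
  -- sum over the quotient
  have hsum : Cfsg.MemLocalIdeal M (∑ q : G ⧸ N, ((β' : G ⧸ N → ℂ) q - (d : ℂ))) :=
    MemLocalIdeal.sum hM.2.1 _ _ (fun q _ => hval q)
  by_contra hne
  have hne' : (β' : G ⧸ N → ℂ) ≠ fun _ => 1 := by
    intro h
    apply hne
    rw [hβ', h]
    rfl
  have horth := classInner_irr_ne β'.2 (isIrrCharacter_one (G := G ⧸ N)) hne'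
  unfold Cfsg.classInner at horth
  have hcard0 : (Nat.card (G ⧸ N) : ℂ) ≠ 0 := by exact_mod_cast Nat.card_pos.ne'
  have hs0 : ∑ q : G ⧸ N, (β' : G ⧸ N → ℂ) q = 0 := by
    have := (mul_eq_zero.mp horth).resolve_left (inv_ne_zero hcard0)
    simpa using this
  rw [Finset.sum_sub_distrib, hs0, zero_sub, Finset.sum_const, Finset.card_univ,
    nsmul_eq_mul] at hsum
  have hsum' := MemLocalIdeal.neg hsum
  rw [neg_neg] at hsum'
  have h8 : ((Fintype.card (G ⧸ N) : ℕ) : ℂ) * (d : ℂ) = ((Fintype.card (G ⧸ N) * d : ℕ) : ℂ) := by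
    push_cast
    ring
  rw [h8] at hsum'
  have h9 := dvd_of_memLocalIdeal_natCast hM _ hsum'
  rcases (Nat.Prime.dvd_mul hp.out).mp h9 with h | h
  · apply hidx
    rw [Subgroup.index_eq_card, Nat.card_eq_fintype_card]
    exact h
  · exact hdp h

/-- **uniqueness**: a member of the principal block of `G` lying over the irreducible
restriction of a member `χ₀` of the principal block equals `χ₀` -/
theorem eq_of_over [Fintype G] {p : ℕ} [hp : Fact p.Prime] (hM : Cfsg.IsPModular p M)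
    (N C : Subgroup G) [hN : N.Normal] [Fintype N] (hC : ∀ c ∈ C, ¬ p ∣ cls c)
    (hsup : ∀ g : G, ∃ c ∈ C, c⁻¹ * g ∈ N) (hidx : ¬ p ∣ N.index)
    (χ₀ ψ : Cfsg.IrrCharacter G) (hχ₀ : χ₀ ∈ Cfsg.principalBlock M G)
    (hψ : ψ ∈ Cfsg.principalBlock M G)
    (hirr : Cfsg.IsIrrCharacter N (fun n : N => (χ₀ : G → ℂ) n))
    (hne : Cfsg.classInner (fun n : N => (ψ : G → ℂ) n) (fun n : N => (χ₀ : G → ℂ) n) ≠ 0) :
    ψ = χ₀ := by
  have hbij := RelGlaub.gallagher_bijOn_one N (χ₀ : G → ℂ) χ₀.2 hirr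
  have hmem : (ψ : G → ℂ) ∈ {ψ : G → ℂ | Cfsg.IsIrrCharacter G ψ ∧
      Cfsg.classInner (fun n : N => ψ n) (fun n : N => (χ₀ : G → ℂ) n) ≠ 0} := ⟨ψ.2, hne⟩
  obtain ⟨β, ⟨hβirr, hβker⟩, hβψ⟩ := hbij.surjOn hmem
  have h1 := ker_char_trivial hM N C hC hsup hidx χ₀ ⟨β, hβirr⟩ ψ hβker hβψ.symm hχ₀ hψ
  apply Subtype.ext
  rw [← hβψ]
  simp only at h1
  rw [h1]
  funext g
  simp

end Cfsg.Agent.Helper6.AlpDade
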