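import Mathlib
import Cfsg.Prelude.Def_Characters
import Cfsg.Prelude.Def_Blocks
import Cfsg.Agent.Helper6.AlpDadeC
import Cfsg.Agent.Helper6.IrrOver
import Cfsg.Agent.Helper6.DerivedLengthBad
import Cfsg.Agent.Helper6.Linear
import Cfsg.Agent.Helper6.NormTwo
import Cfsg.Agent.Helper6.GreenC

/-!
# Alperin–Dade for principal blocks, part D: existence of an extension in the principal block for
an abelian quotient
-/

set_option autoImplicit false
set_option linter.style.haveILetI false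

namespace Cfsg.Agent.Helper6.AlpDade

open scoped ComplexConjugate

universe u

variable {G : Type u} [Group G] {M : Ideal Cfsg.AlgInt}

/-- multiplication by characters of an abelian quotient is injective on a member of the
principal block -/
theorem mul_hom_injective [Fintype G] {p : ℕ} [hp : Fact p.Prime] (hM : Cfsg.IsPModular p M)
    (N C : Subgroup G) [hN : N.Normal] (hC : ∀ c ∈ C, ¬ p ∣ cls c)
    (hsup : ∀ g : G, ∃ c ∈ C, c⁻¹ * g ∈ N) (hidx : ¬ p ∣ N.index)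
    (χ₁ : Cfsg.IrrCharacter G) (hχ₁ : χ₁ ∈ Cfsg.principalBlock M G) (μ μ' : G →* ℂˣ)
    (hμ : ∀ n ∈ N, μ n = 1) (hμ' : ∀ n ∈ N, μ' n = 1)
    (h : ((χ₁ : G → ℂ) * fun g => ((μ g : ℂˣ) : ℂ)) = (χ₁ : G → ℂ) * fun g => ((μ' g : ℂˣ) : ℂ)) :
    μ = μ' := by
  set γ : G →* ℂˣ := μ' * μ⁻¹ with hγ
  have hγirr := isIrrCharacter_of_hom γ
  have hγker : ∀ n ∈ N, (fun g => ((γ g : ℂˣ) : ℂ)) n = (fun g => ((γ g : ℂˣ) : ℂ)) 1 := by
    intro n hn
    simp only [hγ, MonoidHom.mul_apply, MonoidHom.inv_apply, hμ n hn, hμ' n hn, map_one, inv_one,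
      mul_one]
  have hprod : (χ₁ : G → ℂ) = (fun g => ((γ g : ℂˣ) : ℂ)) * (χ₁ : G → ℂ) := by
    funext g
    have h1 := congrFun h g
    simp only [Pi.mul_apply] at h1
    simp only [Pi.mul_apply, hγ, MonoidHom.mul_apply, MonoidHom.inv_apply, Units.val_mul,
      Units.val_inv_eq_inv_val]
    have h0 : ((μ g : ℂˣ) : ℂ) ≠ 0 := Units.ne_zero _
    field_simp
    linear_combination h1
  have h1 := ker_char_trivial hM N C hC hsup hidx χ₁ ⟨_, hγirr⟩ χ₁ hγker hprod hχ₁ hχ₁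
  ext g
  have h2 := congrFun h1 g
  simp only [hγ, MonoidHom.mul_apply, MonoidHom.inv_apply, Units.val_mul,
    Units.val_inv_eq_inv_val] at h2
  have h0 : ((μ g : ℂˣ) : ℂ) ≠ 0 := Units.ne_zero _
  field_simp at h2
  exact h2.symm

/-- **abelian case, existence**: with `G/N` abelian, every member of the principal block of `N`
extends to a member of the principal block of `G` -/
theorem exists_ext_abelian [Fintype G] {p : ℕ} [hp : Fact p.Prime] (hM : Cfsg.IsPModular p M)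
    (N C : Subgroup G) [hN : N.Normal] [Fintype N] (hC : ∀ c ∈ C, ¬ p ∣ cls c)
    (hsup : ∀ g : G, ∃ c ∈ C, c⁻¹ * g ∈ N) (hidx : ¬ p ∣ N.index)
    (hab : ∀ x y : G, x * y * x⁻¹ * y⁻¹ ∈ N)
    (θ : Cfsg.IrrCharacter N) (hθ : θ ∈ Cfsg.principalBlock M N) :
    ∃ χ : Cfsg.IrrCharacter G, χ ∈ Cfsg.principalBlock M G ∧
      ∀ n : N, (χ : G → ℂ) n = (θ : N → ℂ) n := by
  classical
  haveI : Finite (Cfsg.IrrCharacter G) := irr_finite
  haveI : Fintype (Cfsg.IrrCharacter G) := Fintype.ofFinite _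
  obtain ⟨χ', hne⟩ := exists_irr_over N θ
  have S : TSetup p M N C χ' := ⟨hC, hsup, hab, fun n hn =>
    centralChar_congr_of_over hM.2.1 N χ' θ hθ hne ⟨n, hn⟩⟩
  obtain ⟨lam, hlamN, hlam⟩ := exists_hom_twist hM S
  obtain ⟨χ₁, hχ₁B, hχ₁⟩ := twist_mem hM.2.1 χ' lam hlam
  have hres : ∀ n : N, (χ₁ : G → ℂ) n = (χ' : G → ℂ) n := by
    intro n
    rw [hχ₁]
    simp [hlamN n n.2]
  have hne₁ : Cfsg.classInner (fun n : N => (χ₁ : G → ℂ) n) (θ : N → ℂ) ≠ 0 := by
    have : (fun n : N => (χ₁ : G → ℂ) n) = fun n : N => (χ' : G → ℂ) n := funext hres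
    rw [this]
    exact hne
  -- the characters of the quotient
  set 𝓑 : Finset (Cfsg.IrrCharacter G) := Finset.univ.filter
    (fun β : Cfsg.IrrCharacter G => ∀ n ∈ N, (β : G → ℂ) n = (β : G → ℂ) 1) with h𝓑
  have hlin : ∀ β ∈ 𝓑, (β : G → ℂ) 1 = 1 := by
    intro β hβ
    have hker := (Finset.mem_filter.mp hβ).2
    have h1 := linear_of_abelian_quotient N β hker hab
    rw [← charDegree_cast_of_isCharacter (IsIrrCharacter.isCharacter β.2), h1]
    simp
  have hhom : ∀ β ∈ 𝓑, ∃ μ : G →* ℂˣ, (β : G → ℂ) = fun g => ((μ g : ℂˣ) : ℂ) := fun β hβ =>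
    exists_hom_of_irr_degree_one β.2 (hlin β hβ)
  have hprodirr : ∀ β ∈ 𝓑, Cfsg.IsIrrCharacter G ((χ₁ : G → ℂ) * (β : G → ℂ)) := by
    intro β hβ
    obtain ⟨μ, hμ⟩ := hhom β hβ
    rw [hμ]
    exact IsIrrCharacter.mul_hom μ χ₁.2
  have hinj : ∀ β ∈ 𝓑, ∀ β' ∈ 𝓑, (χ₁ : G → ℂ) * (β : G → ℂ) = (χ₁ : G → ℂ) * (β' : G → ℂ) →
      β = β' := by
    intro β hβ β' hβ' heq
    obtain ⟨μ, hμ⟩ := hhom β hβ
    obtain ⟨μ', hμ'⟩ := hhom β' hβ'
    have hk : ∀ (β : Cfsg.IrrCharacter G) (μ : G →* ℂˣ), β ∈ 𝓑 →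
        (β : G → ℂ) = (fun g => ((μ g : ℂˣ) : ℂ)) → ∀ n ∈ N, μ n = 1 := by
      intro β μ hβ hμ n hn
      have h1 := (Finset.mem_filter.mp hβ).2 n hn
      rw [hμ] at h1
      simp only [map_one, Units.val_one] at h1
      exact Units.ext h1
    rw [hμ, hμ'] at heq
    have := mul_hom_injective hM N C hC hsup hidx χ₁ hχ₁B μ μ' (hk β μ hβ hμ) (hk β' μ' hβ' hμ') heq
    apply Subtype.ext
    rw [hμ, hμ', this]
  -- the class function `Φ`
  set Φ : G → ℂ := ∑ β ∈ 𝓑, (χ₁ : G → ℂ) * (β : G → ℂ) with hΦ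
  have hcard : (𝓑.card : ℂ) = (N.index : ℂ) := by
    have h1 := sum_degree_mul_irr_of_le_ker N (1 : G)
    rw [if_pos N.one_mem] at h1
    rw [← h1, ← h𝓑]
    rw [Finset.sum_congr rfl (fun β hβ => by rw [hlin β hβ, one_mul])]
    simp
  have hnormA : Cfsg.classInner Φ Φ = (𝓑.card : ℂ) := by
    rw [hΦ, classInner_sum_left]
    rw [Finset.sum_congr rfl (fun β _ => classInner_sum_right _ _ _)]
    have h1 : ∀ β ∈ 𝓑, ∑ β' ∈ 𝓑, Cfsg.classInner ((χ₁ : G → ℂ) * (β : G → ℂ))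
        ((χ₁ : G → ℂ) * (β' : G → ℂ)) = 1 := by
      intro β hβ
      rw [Finset.sum_eq_single_of_mem β hβ]
      · exact classInner_irr_self (hprodirr β hβ)
      · intro β' hβ' hne'
        apply classInner_irr_ne (hprodirr β hβ) (hprodirr β' hβ')
        intro heq
        exact hne' (hinj β hβ β' hβ' heq).symm
    rw [Finset.sum_congr rfl h1]
    simp
  have hΦval : ∀ g : G, Φ g = (χ₁ : G → ℂ) g * (if g ∈ N then (N.index : ℂ) else 0) := by
    intro g
    have h1 := sum_degree_mul_irr_of_le_ker N g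
    rw [← h1, ← h𝓑, hΦ, Finset.sum_apply, Finset.mul_sum]
    apply Finset.sum_congr rfl
    intro β hβ
    rw [hlin β hβ, one_mul]
    rfl
  have hnormB : Cfsg.classInner Φ Φ = (N.index : ℂ) *
      Cfsg.classInner (fun n : N => (χ₁ : G → ℂ) n) (fun n : N => (χ₁ : G → ℂ) n) := by
    unfold Cfsg.classInner
    have h1 : ∑ g : G, Φ g * conj (Φ g) = (N.index : ℂ) ^ 2 *
        ∑ n : N, (χ₁ : G → ℂ) n * conj ((χ₁ : G → ℂ) n) := by
      rw [Green.sum_subgroup_eq_sum_ite N (fun g => (χ₁ : G → ℂ) g * conj ((χ₁ : G → ℂ) g)),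
        Finset.mul_sum]
      apply Finset.sum_congr rfl
      intro g _
      rw [hΦval]
      by_cases hg : g ∈ N
      · simp only [hg, if_true, map_mul, Complex.conj_natCast]
        ring
      · simp [hg]
    rw [h1]
    have hG : (Nat.card G : ℂ) = (Nat.card N : ℂ) * (N.index : ℂ) := by
      rw [← Nat.cast_mul, Subgroup.card_mul_index]
    have hN0 : (Nat.card N : ℂ) ≠ 0 := by exact_mod_cast Nat.card_pos.ne'
    have hi0 : (N.index : ℂ) ≠ 0 := by
      exact_mod_cast (Subgroup.index_ne_zero_of_finite (H := N))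
    rw [hG]
    field_simp
  have hnorm : Cfsg.classInner (fun n : N => (χ₁ : G → ℂ) n) (fun n : N => (χ₁ : G → ℂ) n) = 1 := by
    have hi0 : (N.index : ℂ) ≠ 0 := by
      exact_mod_cast (Subgroup.index_ne_zero_of_finite (H := N))
    have := hnormA.symm.trans hnormB
    rw [hcard] at this
    have h2 : (N.index : ℂ) * 1 = (N.index : ℂ) *
        Cfsg.classInner (fun n : N => (χ₁ : G → ℂ) n) (fun n : N => (χ₁ : G → ℂ) n) := by
      rw [mul_one]
      exact this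
    exact (mul_left_cancel₀ hi0 h2).symm
  have hirr : Cfsg.IsIrrCharacter N (fun n : N => (χ₁ : G → ℂ) n) :=
    isIrrCharacter_of_classInner_self (IsCharacter.restrict N (IsIrrCharacter.isCharacter χ₁.2))
      hnorm
  refine ⟨χ₁, hχ₁B, ?_⟩
  have heq : (fun n : N => (χ₁ : G → ℂ) n) = (θ : N → ℂ) := by
    by_contra hcon
    exact hne₁ (classInner_irr_ne hirr θ.2 hcon)
  intro n
  exact congrFun heq n

end Cfsg.Agent.Helper6.AlpDade
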