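import Mathlib
import Cfsg.Prelude.Def_Characters
import Cfsg.Prelude.Def_Blocks
import Cfsg.Agent.Helper6.AlpDadeD
import Cfsg.Agent.Helper6.PrincipalPairs
import Cfsg.Agent.Helper6.BrauerPerm2
import Cfsg.Agent.Helper6.Constituent

/-!
# Alperin–Dade for principal blocks, part E: the homomorphism form, restriction to intermediate
subgroups, solvable quotients
-/

set_option autoImplicit false
set_option linter.style.haveILetI false

namespace Cfsg.Agent.Helper6.AlpDade

open scoped ComplexConjugate

universe u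

variable {M : Ideal Cfsg.AlgInt}

/-- the hypotheses of the theorem of Alperin and Dade, for an injective homomorphism `f : N → G`
with normal image: `P` is a subgroup of the image of index prime to `p` in `G`, and `G` is the
product of the image and the centralizer of `P` -/
structure HomSetup (p : ℕ) {N G : Type u} [Group N] [Group G] (f : N →* G) (P : Subgroup G) :
    Prop where
  inj : Function.Injective f
  normal : f.range.Normal
  le : P ≤ f.range
  idx : ¬ p ∣ P.index
  sup : ∀ g : G, ∃ c ∈ Subgroup.centralizer (P : Set G), c⁻¹ * g ∈ f.range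

section Basic

variable {p : ℕ} {N G : Type u} [Group N] [Group G] {f : N →* G} {P : Subgroup G}

theorem HomSetup.hC (S : HomSetup p f P) : ∀ c ∈ Subgroup.centralizer (P : Set G), ¬ p ∣ cls c := by
  intro c hc hdvd
  apply S.idx
  refine hdvd.trans (Subgroup.index_dvd_of_le ?_)
  intro x hx
  rw [Subgroup.mem_centralizer_iff]
  intro y hy
  rw [Set.mem_singleton_iff] at hy
  subst hy
  exact (Subgroup.mem_centralizer_iff.mp hc x hx).symm

theorem HomSetup.hidx (S : HomSetup p f P) : ¬ p ∣ f.range.index := fun h =>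
  S.idx (h.trans (Subgroup.index_dvd_of_le S.le))

theorem HomSetup.restrict (S : HomSetup p f P) (H : Subgroup G) (f' : N →* H)
    (hf' : ∀ n, ((f' n : H) : G) = f n) : HomSetup p f' (P.subgroupOf H) := by
  have hle : f.range ≤ H := by
    rintro _ ⟨n, rfl⟩
    rw [← hf']
    exact (f' n).2
  haveI := S.normal
  refine ⟨?_, ⟨?_⟩, ?_, ?_, ?_⟩
  · intro n m h
    apply S.inj
    rw [← hf', ← hf', h]
  · rintro _ ⟨n, rfl⟩ g
    obtain ⟨n', hn'⟩ := S.normal.conj_mem (f n) ⟨n, rfl⟩ (g : G)
    refine ⟨n', ?_⟩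
    apply Subtype.ext
    rw [hf', hn']
    simp [hf']
  · intro x hx
    rw [Subgroup.mem_subgroupOf] at hx
    obtain ⟨n, hn⟩ := S.le hx
    exact ⟨n, Subtype.ext (by rw [hf', hn])⟩
  · intro h
    apply S.idx
    have hPH : P ≤ H := S.le.trans hle
    rw [← Subgroup.relIndex_mul_index hPH]
    exact Dvd.dvd.mul_right h _
  · intro g
    obtain ⟨c, hc, hcg⟩ := S.sup (g : G)
    have hcH : c ∈ H := by
      have h1 := H.mul_mem g.2 (H.inv_mem (hle hcg))
      have e : (g : G) * (c⁻¹ * (g : G))⁻¹ = c := by group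
      rwa [e] at h1
    refine ⟨⟨c, hcH⟩, ?_, ?_⟩
    · rw [Subgroup.mem_centralizer_iff]
      intro y hy
      apply Subtype.ext
      exact Subgroup.mem_centralizer_iff.mp hc (y : G) (Subgroup.mem_subgroupOf.mp hy)
    · obtain ⟨n, hn⟩ := hcg
      exact ⟨n, Subtype.ext (by rw [hf', hn]; rfl)⟩

theorem HomSetup.subtype_of (S : HomSetup p f P) (H : Subgroup G) [hH : H.Normal]
    (hle : f.range ≤ H) : HomSetup p H.subtype P := by
  refine ⟨Subtype.val_injective, ?_, ?_, S.idx, ?_⟩
  · rw [Subgroup.range_subtype]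
    exact hH
  · rw [Subgroup.range_subtype]
    exact S.le.trans hle
  · intro g
    obtain ⟨c, hc, hcg⟩ := S.sup g
    refine ⟨c, hc, ?_⟩
    rw [Subgroup.range_subtype]
    exact hle hcg

end Basic

section Transport

variable {p : ℕ} [hp : Fact p.Prime] {N G : Type u} [Group N] [Group G] [Finite G]
  {f : N →* G} {P : Subgroup G}

/-- **abelian case, existence, homomorphism form** -/
theorem exists_ext_abelian_hom (hM : Cfsg.IsPModular p M) (S : HomSetup p f P)
    (hab : ∀ x y : G, x * y * x⁻¹ * y⁻¹ ∈ f.range)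
    (θ : Cfsg.IrrCharacter N) (hθ : θ ∈ Cfsg.principalBlock M N) :
    ∃ χ : Cfsg.IrrCharacter G, χ ∈ Cfsg.principalBlock M G ∧
      ∀ n : N, (χ : G → ℂ) (f n) = (θ : N → ℂ) n := by
  classical
  haveI := S.normal
  haveI : Fintype G := Fintype.ofFinite G
  haveI : Fintype f.range := Fintype.ofFinite _
  set e : N ≃* f.range := MonoidHom.ofInjective S.inj with he
  set θ' : Cfsg.IrrCharacter f.range := irrComp e.symm θ with hθ'
  have hθ'B : θ' ∈ Cfsg.principalBlock M f.range :=
    sameBlock_comp_mulEquiv e.symm _ _ hθ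
  obtain ⟨χ, hχ, hext⟩ := exists_ext_abelian hM f.range (Subgroup.centralizer (P : Set G)) S.hC
    S.sup S.hidx hab θ' hθ'B
  refine ⟨χ, hχ, fun n => ?_⟩
  have h1 := hext (e n)
  rw [hθ', irrComp_apply, MulEquiv.symm_apply_apply] at h1
  rw [← h1, he, MonoidHom.ofInjective_apply]

/-- **uniqueness, homomorphism form** -/
theorem eq_of_ext_hom (hM : Cfsg.IsPModular p M) (S : HomSetup p f P)
    (χ₀ ψ : Cfsg.IrrCharacter G) (hχ₀ : χ₀ ∈ Cfsg.principalBlock M G)
    (hψ : ψ ∈ Cfsg.principalBlock M G)
    (hirr : Cfsg.IsIrrCharacter N (fun n : N => (χ₀ : G → ℂ) (f n)))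
    (hres : ∀ n : N, (ψ : G → ℂ) (f n) = (χ₀ : G → ℂ) (f n)) : ψ = χ₀ := by
  classical
  haveI := S.normal
  haveI : Fintype G := Fintype.ofFinite G
  haveI : Fintype f.range := Fintype.ofFinite _
  haveI : Finite N := Finite.of_injective f S.inj
  set e : N ≃* f.range := MonoidHom.ofInjective S.inj with he
  have hirr' : Cfsg.IsIrrCharacter f.range (fun n : f.range => (χ₀ : G → ℂ) n) := by
    have h1 := IsIrrCharacter.comp_mulEquiv e.symm hirr
    have h2 : (fun n : N => (χ₀ : G → ℂ) (f n)) ∘ e.symm =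
        fun n : f.range => (χ₀ : G → ℂ) n := by
      funext n
      simp only [Function.comp_apply]
      rw [← MonoidHom.ofInjective_apply S.inj, ← he, MulEquiv.apply_symm_apply]
    rwa [h2] at h1
  have heq : (fun n : f.range => (ψ : G → ℂ) n) = fun n : f.range => (χ₀ : G → ℂ) n := by
    funext n
    obtain ⟨m, hm⟩ := n.2
    rw [← hm]
    exact hres m
  apply eq_of_over hM f.range (Subgroup.centralizer (P : Set G)) S.hC S.sup S.hidx χ₀ ψ hχ₀ hψ
    hirr'
  rw [heq, classInner_irr_self hirr']
  exact one_ne_zero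

end Transport

section LemmaR

variable {p : ℕ} [hp : Fact p.Prime] {K H : Type u} [Group K] [Group H]

theorem cls_subgroup (K' : Subgroup H) (k : K') :
    cls k = (Subgroup.centralizer ({(k : H)} : Set H)).relIndex K' := by
  unfold cls Subgroup.relIndex
  congr 1
  ext y
  rw [Subgroup.mem_subgroupOf, Subgroup.mem_centralizer_iff, Subgroup.mem_centralizer_iff]
  simp only [Set.mem_singleton_iff, forall_eq]
  constructor
  · intro h
    have := congrArg Subtype.val h
    simpa using this
  · intro h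
    apply Subtype.ext
    simpa using h

theorem cls_comp_injective (j : K →* H) (hj : Function.Injective j) (k : K) :
    cls k = (Subgroup.centralizer ({j k} : Set H)).relIndex j.range := by
  set e : K ≃* j.range := MonoidHom.ofInjective hj with he
  have h1 : cls (e k) = cls k := index_centralizer_mulEquiv' e k
  rw [← h1, cls_subgroup, he, MonoidHom.ofInjective_apply]

/-- **restriction to an intermediate subgroup**: the congruence defining the principal block can
be tested in any subgroup containing a normal subgroup of index prime to `p` -/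
theorem lemmaR [Finite H] (hM : Cfsg.IsPModular p M) (j : K →* H)
    (hj : Function.Injective j) (R : Subgroup H) [hR : R.Normal] (hRj : R ≤ j.range)
    (hidx : ¬ p ∣ R.index) (χ : H → ℂ) (k : K) :
    Cfsg.MemLocalIdeal M (Cfsg.centralChar χ (j k) - (cls (j k) : ℂ)) ↔
      Cfsg.MemLocalIdeal M (Cfsg.centralChar (fun x => χ (j x)) k - (cls k : ℂ)) := by
  set A : Subgroup H := Subgroup.centralizer ({j k} : Set H) with hA
  have h1 : A.relIndex j.range * j.range.index = j.range.relIndex A * A.index := by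
    have e1 := Subgroup.relIndex_mul_index (inf_le_right : A ⊓ j.range ≤ j.range)
    have e2 := Subgroup.relIndex_mul_index (inf_le_left : A ⊓ j.range ≤ A)
    rw [Subgroup.inf_relIndex_right] at e1
    rw [Subgroup.inf_relIndex_left] at e2
    rw [e1, e2]
  have hd : ¬ p ∣ j.range.index := fun h => hidx (h.trans (Subgroup.index_dvd_of_le hRj))
  have hr : ¬ p ∣ j.range.relIndex A := fun h =>
    hidx ((h.trans (Subgroup.relIndex_dvd_of_le_left A hRj)).trans
      (Subgroup.relIndex_dvd_index_of_normal R A))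
  have hcK : cls k = A.relIndex j.range := cls_comp_injective j hj k
  have hcH : cls (j k) = A.index := rfl
  have h2 : ((cls k : ℕ) : ℂ) * (j.range.index : ℂ) =
      (j.range.relIndex A : ℂ) * ((cls (j k) : ℕ) : ℂ) := by
    rw [hcK, hcH]
    exact_mod_cast h1
  rw [centralChar_eq_cls, centralChar_eq_cls, map_one]
  set x : ℂ := χ (j k) / χ 1 with hx
  constructor
  · intro h
    have h3 := MemLocalIdeal.mul_left hM.2.1 (memLocalRing_natCast hM.2.1 (j.range.relIndex A)) h
    have e : (j.range.relIndex A : ℂ) * ((cls (j k) : ℂ) * x - (cls (j k) : ℂ)) =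
        (j.range.index : ℂ) * ((cls k : ℂ) * x - (cls k : ℂ)) := by
      linear_combination (1 - x) * h2
    rw [e] at h3
    exact memLocalIdeal_of_natCast_mul hM _ hd _ h3
  · intro h
    have h3 := MemLocalIdeal.mul_left hM.2.1 (memLocalRing_natCast hM.2.1 j.range.index) h
    have e : (j.range.index : ℂ) * ((cls k : ℂ) * x - (cls k : ℂ)) =
        (j.range.relIndex A : ℂ) * ((cls (j k) : ℂ) * x - (cls (j k) : ℂ)) := by
      linear_combination (x - 1) * h2
    rw [e] at h3
    exact memLocalIdeal_of_natCast_mul hM _ hr _ h3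

end LemmaR

section Solvable

variable {p : ℕ} [hp : Fact p.Prime] {G : Type u} [Group G] [Finite G]

/-- **solvable case, existence** -/
theorem exists_ext_solvable (hM : Cfsg.IsPModular p M) :
    ∀ (k : ℕ) (N : Type u) [Group N] (f : N →* G) (P : Subgroup G), HomSetup p f P →
      derivedSeries G k ≤ f.range → ∀ θ : Cfsg.IrrCharacter N, θ ∈ Cfsg.principalBlock M N →
      ∃ χ : Cfsg.IrrCharacter G, χ ∈ Cfsg.principalBlock M G ∧
        ∀ n : N, (χ : G → ℂ) (f n) = (θ : N → ℂ) n := by
  intro k
  induction k with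
  | zero =>
    intro N _ f P S hk θ hθ
    rw [derivedSeries_zero] at hk
    have hsurj : Function.Surjective f := fun g => hk (Subgroup.mem_top g)
    set e : N ≃* G := MulEquiv.ofBijective f ⟨S.inj, hsurj⟩ with he
    refine ⟨irrComp e.symm θ, sameBlock_comp_mulEquiv e.symm _ _ hθ, fun n => ?_⟩
    rw [irrComp_apply]
    have : f n = e n := rfl
    rw [this, MulEquiv.symm_apply_apply]
  | succ k ih =>
    intro N _ f P S hk θ hθ
    haveI := S.normal
    set G₁ : Subgroup G := f.range ⊔ derivedSeries G k with hG₁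
    haveI : G₁.Normal := Subgroup.sup_normal _ _
    have hle : f.range ≤ G₁ := le_sup_left
    set f₁ : N →* G₁ := f.codRestrict G₁ (fun n => hle ⟨n, rfl⟩) with hf₁
    have S₁ := S.restrict G₁ f₁ (fun n => rfl)
    have habG : ∀ x ∈ G₁, ∀ y ∈ G₁, x * y * x⁻¹ * y⁻¹ ∈ f.range := by
      intro x hx y hy
      obtain ⟨r, hr, a, ha, rfl⟩ := Subgroup.mem_sup_of_normal_right.mp hx
      obtain ⟨s, hs, b, hb, rfl⟩ := Subgroup.mem_sup_of_normal_right.mp hy
      rw [← QuotientGroup.eq_one_iff]
      have hr1 : ((r : G) : G ⧸ f.range) = 1 := (QuotientGroup.eq_one_iff r).mpr hr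
      have hs1 : ((s : G) : G ⧸ f.range) = 1 := (QuotientGroup.eq_one_iff s).mpr hs
      have hab : a * b * a⁻¹ * b⁻¹ ∈ f.range := by
        apply hk
        rw [derivedSeries_succ, ← commutatorElement_def]
        exact Subgroup.commutator_mem_commutator ha hb
      have hab1 : ((a * b * a⁻¹ * b⁻¹ : G) : G ⧸ f.range) = 1 :=
        (QuotientGroup.eq_one_iff _).mpr hab
      simp only [QuotientGroup.mk_mul, QuotientGroup.mk_inv, hr1, hs1, one_mul] at hab1 ⊢
      exact hab1
    have hab : ∀ x y : G₁, x * y * x⁻¹ * y⁻¹ ∈ f₁.range := by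
      intro x y
      obtain ⟨n, hn⟩ := habG x x.2 y y.2
      exact ⟨n, Subtype.ext hn⟩
    obtain ⟨χ₁, hχ₁, hext₁⟩ := exists_ext_abelian_hom hM S₁ hab θ hθ
    have S₂ := S.subtype_of G₁ hle
    obtain ⟨χ, hχ, hext⟩ := ih G₁ G₁.subtype P S₂
      (by rw [Subgroup.range_subtype]; exact le_sup_right) χ₁ hχ₁
    refine ⟨χ, hχ, fun n => ?_⟩
    rw [← hext₁ n, ← hext (f₁ n)]
    rfl

end Solvable

end Cfsg.Agent.Helper6.AlpDade
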