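import Mathlib
import Cfsg.Prelude.Def_Characters
import Cfsg.Prelude.Def_Blocks
import Cfsg.Agent.Helper6.AlpDadeE
import Cfsg.Agent.Helper6.PCGroupA
import Cfsg.Agent.Helper6.Brauer1

/-!
# Alperin–Dade for principal blocks, part F: canonical extensions to intermediate subgroups with
solvable quotient
-/

set_option autoImplicit false
set_option linter.style.haveILetI false

namespace Cfsg.Agent.Helper6.AlpDade

open scoped ComplexConjugate
open scoped commutatorElement

universe u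

variable {M : Ideal Cfsg.AlgInt} {G : Type u} [Group G]

/-- the hypotheses of the theorem of Alperin and Dade, subgroup form -/
structure SubSetup (p : ℕ) (N P : Subgroup G) : Prop where
  le : P ≤ N
  idx : ¬ p ∣ P.index
  sup : ∀ g : G, ∃ c ∈ Subgroup.centralizer (P : Set G), c⁻¹ * g ∈ N

variable {p : ℕ} {N P : Subgroup G}

theorem SubSetup.hom₀ [hN : N.Normal] (S : SubSetup p N P) : HomSetup p N.subtype P := by
  refine ⟨Subtype.val_injective, ?_, ?_, S.idx, ?_⟩
  · rw [Subgroup.range_subtype]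
    exact hN
  · rw [Subgroup.range_subtype]
    exact S.le
  · intro g
    obtain ⟨c, hc, hcg⟩ := S.sup g
    refine ⟨c, hc, ?_⟩
    rw [Subgroup.range_subtype]
    exact hcg

theorem SubSetup.hom [hN : N.Normal] (S : SubSetup p N P) (H : Subgroup G) (hH : N ≤ H) :
    HomSetup p (Subgroup.inclusion hH) (P.subgroupOf H) :=
  S.hom₀.restrict H (Subgroup.inclusion hH) (fun _ => rfl)

theorem SubSetup.hidx (S : SubSetup p N P) : ¬ p ∣ N.index := fun h =>
  S.idx (h.trans (Subgroup.index_dvd_of_le S.le))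

/-- `χ` is a member of the principal block of `H` extending `θ` -/
def IsExt (M : Ideal Cfsg.AlgInt) (N : Subgroup G) (θ : Cfsg.IrrCharacter N) (H : Subgroup G)
    (χ : Cfsg.IrrCharacter H) : Prop :=
  χ ∈ Cfsg.principalBlock M H ∧
    ∀ (n : N) (hn : (n : G) ∈ H), (χ : H → ℂ) ⟨n, hn⟩ = (θ : N → ℂ) n

variable {θ : Cfsg.IrrCharacter N}

theorem IsExt.unique [Finite G] [hp : Fact p.Prime] [hN : N.Normal] (hM : Cfsg.IsPModular p M)
    (S : SubSetup p N P) {H : Subgroup G} (hH : N ≤ H) {χ χ' : Cfsg.IrrCharacter H}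
    (h : IsExt M N θ H χ) (h' : IsExt M N θ H χ') : χ' = χ := by
  apply eq_of_ext_hom hM (S.hom H hH) χ χ' h.1 h'.1
  · have : (fun n : N => (χ : H → ℂ) (Subgroup.inclusion hH n)) = (θ : N → ℂ) :=
      funext fun n => h.2 n _
    rw [this]
    exact θ.2
  · intro n
    exact (h'.2 n _).trans (h.2 n _).symm

theorem IsExt.restrict [Finite G] [hp : Fact p.Prime] [hN : N.Normal] (hM : Cfsg.IsPModular p M)
    (S : SubSetup p N P) {K H : Subgroup G} (hK : N ≤ K) (hKH : K ≤ H)
    {χ : Cfsg.IrrCharacter H} (h : IsExt M N θ H χ) :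
    ∃ χ' : Cfsg.IrrCharacter K, IsExt M N θ K χ' ∧
      ∀ k : K, (χ' : K → ℂ) k = (χ : H → ℂ) ⟨k, hKH k.2⟩ := by
  classical
  haveI : Fintype N := Fintype.ofFinite _
  haveI : Fintype K := Fintype.ofFinite _
  set j : K →* H := Subgroup.inclusion hKH with hj
  have hchar : Cfsg.IsCharacter K (fun k => (χ : H → ℂ) (j k)) :=
    IsCharacter.comp_hom j (IsIrrCharacter.isCharacter χ.2)
  have hirr : Cfsg.IsIrrCharacter K (fun k => (χ : H → ℂ) (j k)) := by
    apply isIrrCharacter_of_comp_irr (Subgroup.inclusion hK) hchar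
    have : (fun k => (χ : H → ℂ) (j k)) ∘ (Subgroup.inclusion hK) = (θ : N → ℂ) :=
      funext fun n => h.2 n _
    rw [this]
    exact θ.2
  refine ⟨⟨_, hirr⟩, ⟨?_, ?_⟩, fun k => rfl⟩
  · rw [mem_principalBlock_iff hM.2.1]
    intro k
    have hR : N.subgroupOf H ≤ j.range := by
      intro x hx
      rw [Subgroup.mem_subgroupOf] at hx
      exact ⟨⟨(x : G), hK hx⟩, rfl⟩
    have hidx : ¬ p ∣ (N.subgroupOf H).index := fun hd =>
      S.hidx (hd.trans (Subgroup.relIndex_dvd_index_of_normal N H))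
    exact (lemmaR hM j (Subgroup.inclusion_injective hKH) (N.subgroupOf H) hR hidx
      (χ : H → ℂ) k).mp ((mem_principalBlock_iff hM.2.1 χ).mp h.1 (j k))
  · intro n hn
    exact h.2 n _

theorem exists_isExt_of_derived [Finite G] [hp : Fact p.Prime] [hN : N.Normal]
    (hM : Cfsg.IsPModular p M) (S : SubSetup p N P) (hθ : θ ∈ Cfsg.principalBlock M N)
    {H : Subgroup G} (hH : N ≤ H) (k : ℕ)
    (hk : derivedSeries H k ≤ (Subgroup.inclusion hH).range) :
    ∃ χ : Cfsg.IrrCharacter H, IsExt M N θ H χ := by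
  obtain ⟨χ, hχ, hext⟩ := exists_ext_solvable hM k N (Subgroup.inclusion hH) _ (S.hom H hH) hk θ hθ
  exact ⟨χ, hχ, fun n _ => hext n⟩

/-- the cyclic case -/
theorem derived_cyclic_le [hN : N.Normal] (g : G) :
    derivedSeries (N ⊔ Subgroup.zpowers g : Subgroup G) 1 ≤
      (Subgroup.inclusion (le_sup_left : N ≤ N ⊔ Subgroup.zpowers g)).range := by
  rw [derivedSeries_one, commutator_def, Subgroup.commutator_le]
  intro x _ y _
  have key : ∀ z : (N ⊔ Subgroup.zpowers g : Subgroup G), ∃ i : ℤ,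
      (((z : G) : G) : G ⧸ N) = ((g : G) : G ⧸ N) ^ i := by
    intro z
    obtain ⟨n, hn, w, hw, hz⟩ := Subgroup.mem_sup_of_normal_left.mp z.2
    obtain ⟨i, rfl⟩ := Subgroup.mem_zpowers_iff.mp hw
    refine ⟨i, ?_⟩
    rw [← hz, QuotientGroup.mk_mul, (QuotientGroup.eq_one_iff n).mpr hn, one_mul,
      QuotientGroup.mk_zpow]
  obtain ⟨i, hi⟩ := key x
  obtain ⟨j, hj⟩ := key y
  have h1 : ((⁅x, y⁆ : (N ⊔ Subgroup.zpowers g : Subgroup G)) : G) ∈ N := by
    rw [← QuotientGroup.eq_one_iff]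
    have e : ((⁅x, y⁆ : (N ⊔ Subgroup.zpowers g : Subgroup G)) : G) = ⁅(x : G), (y : G)⁆ := by
      simp [commutatorElement_def]
    rw [e]
    have e2 : ((⁅(x : G), (y : G)⁆ : G) : G ⧸ N) = ⁅((x : G) : G ⧸ N), ((y : G) : G ⧸ N)⁆ :=
      map_commutatorElement (QuotientGroup.mk' N) _ _
    rw [e2, hi, hj, commutatorElement_eq_one_iff_commute]
    exact (Commute.refl _).zpow_zpow i j
  exact ⟨⟨_, h1⟩, Subtype.ext rfl⟩

/-- the solvable case -/
theorem exists_derived_le_of_solvable [hN : N.Normal] (E : Subgroup G) [hE : Group.IsSolvable E] :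
    ∃ k : ℕ, derivedSeries (N ⊔ E : Subgroup G) k ≤
      (Subgroup.inclusion (le_sup_left : N ≤ N ⊔ E)).range := by
  set H : Subgroup G := N ⊔ E with hH
  set π : H →* H ⧸ N.subgroupOf H := QuotientGroup.mk' (N.subgroupOf H) with hπ
  set φ : E →* H ⧸ N.subgroupOf H := π.comp (Subgroup.inclusion (le_sup_right : E ≤ N ⊔ E))
    with hφ
  have hsurj : Function.Surjective φ := by
    intro q
    obtain ⟨z, rfl⟩ := QuotientGroup.mk_surjective q
    obtain ⟨n, hn, w, hw, hz⟩ := Subgroup.mem_sup_of_normal_left.mp z.2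
    refine ⟨⟨w, hw⟩, ?_⟩
    rw [hφ, MonoidHom.comp_apply, hπ, QuotientGroup.mk'_apply]
    rw [QuotientGroup.eq]
    rw [Subgroup.mem_subgroupOf]
    have e : ((((Subgroup.inclusion (le_sup_right : E ≤ N ⊔ E)) ⟨w, hw⟩)⁻¹ * z : H) : G) =
        w⁻¹ * n * w := by
      rw [Subgroup.coe_mul, Subgroup.coe_inv, Subgroup.coe_inclusion, ← hz]
      group
    rw [e]
    have := hN.conj_mem n hn w⁻¹
    simpa using this
  haveI : Group.IsSolvable (H ⧸ N.subgroupOf H) := Group.isSolvable_of_surjective hsurj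
  obtain ⟨k, hk⟩ := (Group.isSolvable_def (H ⧸ N.subgroupOf H)).mp inferInstance
  refine ⟨k, ?_⟩
  have h1 : Subgroup.map π (derivedSeries H k) = ⊥ := by
    rw [map_derivedSeries_eq (QuotientGroup.mk'_surjective _), hk]
  rw [Subgroup.map_eq_bot_iff, hπ, QuotientGroup.ker_mk'] at h1
  intro x hx
  have h2 := h1 hx
  rw [Subgroup.mem_subgroupOf] at h2
  exact ⟨⟨(x : G), h2⟩, Subtype.ext rfl⟩

end Cfsg.Agent.Helper6.AlpDade
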