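import Mathlib
import Cfsg.Prelude.Def_Characters
import Cfsg.Prelude.Def_Blocks
import Cfsg.Agent.Helper6.AlpDadeF
import Cfsg.Agent.Helper6.Brauer8
import Cfsg.Agent.Helper6.NormOne
import Cfsg.Agent.Helper6.Gallagher

/-!
# Alperin–Dade for principal blocks, part G: gluing the canonical extensions
-/

set_option autoImplicit false
set_option linter.style.haveILetI false

namespace Cfsg.Agent.Helper6.AlpDade

open scoped ComplexConjugate

universe u

variable {M : Ideal Cfsg.AlgInt} {G : Type u} [Group G]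

/-- conjugation by `x` as an isomorphism between two subgroups -/
def conjEquivOf (H H' : Subgroup G) (x : G) (h1 : ∀ h ∈ H, x * h * x⁻¹ ∈ H')
    (h2 : ∀ h ∈ H', x⁻¹ * h * x ∈ H) : H ≃* H' where
  toFun h := ⟨x * h * x⁻¹, h1 h h.2⟩
  invFun h := ⟨x⁻¹ * h * x, h2 h h.2⟩
  left_inv h := Subtype.ext (by simp [mul_assoc])
  right_inv h := Subtype.ext (by simp [mul_assoc])
  map_mul' a b := Subtype.ext (by simp [mul_assoc])

theorem conj_mem_sup_zpowers (N : Subgroup G) [hN : N.Normal] (g x h : G)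
    (hh : h ∈ N ⊔ Subgroup.zpowers g) : x * h * x⁻¹ ∈ N ⊔ Subgroup.zpowers (x * g * x⁻¹) := by
  obtain ⟨n, hn, w, hw, rfl⟩ := Subgroup.mem_sup_of_normal_left.mp hh
  obtain ⟨i, rfl⟩ := Subgroup.mem_zpowers_iff.mp hw
  have e : x * (n * g ^ i) * x⁻¹ = (x * n * x⁻¹) * (x * g * x⁻¹) ^ i := by
    rw [conj_zpow]
    group
  rw [e]
  exact Subgroup.mul_mem _ (le_sup_left (a := N) (hN.conj_mem n hn x))
    (le_sup_right (a := N) (Subgroup.zpow_mem _ (Subgroup.mem_zpowers _) i))

variable {p : ℕ} {N P : Subgroup G}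

set_option maxHeartbeats 1600000 in
/-- **general case, existence**: every member of the principal block of `N` extends to a member
of the principal block of `G` -/
theorem exists_ext_general [Fintype G] [hp : Fact p.Prime] [hN : N.Normal]
    (hM : Cfsg.IsPModular p M) (S : SubSetup p N P) (θ : Cfsg.IrrCharacter N)
    (hθ : θ ∈ Cfsg.principalBlock M N) :
    ∃ χ : Cfsg.IrrCharacter G, χ ∈ Cfsg.principalBlock M G ∧
      ∀ n : N, (χ : G → ℂ) n = (θ : N → ℂ) n := by
  classical
  haveI : Fintype N := Fintype.ofFinite _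
  have hHg : ∀ g : G, N ≤ N ⊔ Subgroup.zpowers g := fun g => le_sup_left
  have hgmem : ∀ g : G, g ∈ N ⊔ Subgroup.zpowers g := fun g =>
    le_sup_right (a := N) (Subgroup.mem_zpowers g)
  have hex : ∀ g : G, ∃ χ : Cfsg.IrrCharacter (N ⊔ Subgroup.zpowers g : Subgroup G),
      IsExt M N θ _ χ := fun g =>
    exists_isExt_of_derived hM S hθ (hHg g) 1 (derived_cyclic_le g)
  choose X hX using hex
  set θh : G → ℂ := fun g => (X g : (N ⊔ Subgroup.zpowers g : Subgroup G) → ℂ) ⟨g, hgmem g⟩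
    with hθh
  -- comparison with any extension
  have H1 : ∀ (H : Subgroup G) (hH : N ≤ H) (χ : Cfsg.IrrCharacter H), IsExt M N θ H χ →
      ∀ (g : G) (hg : g ∈ H), θh g = (χ : H → ℂ) ⟨g, hg⟩ := by
    intro H hH χ hχ g hg
    have hKH : N ⊔ Subgroup.zpowers g ≤ H := sup_le hH ((Subgroup.zpowers_le).mpr hg)
    obtain ⟨χ', hχ', hval⟩ := hχ.restrict hM S (hHg g) hKH
    have h1 : χ' = X g := IsExt.unique hM S (hHg g) (hX g) hχ'
    rw [hθh]
    simp only
    rw [← h1, hval]
  -- invariance of `θ`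
  have H2 : ∀ (g : G) (n : N),
      (θ : N → ℂ) ⟨g * n * g⁻¹, hN.conj_mem n n.2 g⟩ = (θ : N → ℂ) n := by
    intro g n
    have hcf := IsCharacter.isClassFunction (IsIrrCharacter.isCharacter (X g).2)
    have h1 := hcf ⟨n, hHg g n.2⟩ ⟨g, hgmem g⟩
    have h2 := (hX g).2 ⟨g * n * g⁻¹, hN.conj_mem n n.2 g⟩ (hHg g (hN.conj_mem n n.2 g))
    have h3 := (hX g).2 n (hHg g n.2)
    rw [← h2, ← h3]
    exact h1
  -- class function
  have H3 : Cfsg.IsClassFunction G θh := by
    intro g x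
    have h1 : ∀ h ∈ N ⊔ Subgroup.zpowers g, x * h * x⁻¹ ∈ N ⊔ Subgroup.zpowers (x * g * x⁻¹) :=
      fun h hh => conj_mem_sup_zpowers N g x h hh
    have h2 : ∀ h ∈ N ⊔ Subgroup.zpowers (x * g * x⁻¹), x⁻¹ * h * x ∈ N ⊔ Subgroup.zpowers g := by
      intro h hh
      have := conj_mem_sup_zpowers N (x * g * x⁻¹) x⁻¹ h hh
      have e : x⁻¹ * (x * g * x⁻¹) * x⁻¹⁻¹ = g := by group
      rw [e, inv_inv] at this
      exact this
    set φ := conjEquivOf _ _ x h1 h2 with hφ
    have hE : IsExt M N θ (N ⊔ Subgroup.zpowers g) (irrComp φ (X (x * g * x⁻¹))) := by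
      refine ⟨sameBlock_comp_mulEquiv φ _ _ (hX (x * g * x⁻¹)).1, ?_⟩
      intro n hn
      rw [irrComp_apply]
      have h3 := (hX (x * g * x⁻¹)).2 ⟨x * n * x⁻¹, hN.conj_mem n n.2 x⟩
        (hHg _ (hN.conj_mem n n.2 x))
      rw [← H2 x n, ← h3]
      rfl
    have h4 : irrComp φ (X (x * g * x⁻¹)) = X g := IsExt.unique hM S (hHg g) (hX g) hE
    show (X (x * g * x⁻¹) : (N ⊔ Subgroup.zpowers (x * g * x⁻¹) : Subgroup G) → ℂ)
      ⟨x * g * x⁻¹, hgmem _⟩ = (X g : (N ⊔ Subgroup.zpowers g : Subgroup G) → ℂ) ⟨g, hgmem g⟩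
    rw [← h4, irrComp_apply]
    rfl
  -- elementary subgroups
  have H4 : ∀ (E : Subgroup G) (q : ℕ), q.Prime → Cfsg.IsElementary q E →
      Cfsg.IsGeneralizedCharacter E (fun e : E => θh e) := by
    intro E q hq hE
    haveI : Group.IsNilpotent E := IsElementary.isNilpotent hq hE
    haveI : Group.IsSolvable E := inferInstance
    obtain ⟨k, hk⟩ := exists_derived_le_of_solvable (N := N) E
    obtain ⟨χ, hχ⟩ := exists_isExt_of_derived hM S hθ le_sup_left k hk
    have h1 : (fun e : E => θh e) =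
        fun e : E => (χ : (N ⊔ E : Subgroup G) → ℂ)
          (Subgroup.inclusion (le_sup_right : E ≤ N ⊔ E) e) :=
      funext fun e => H1 _ le_sup_left χ hχ e (le_sup_right (a := N) e.2)
    rw [h1]
    exact IsGeneralizedCharacter.of_isCharacter
      (IsCharacter.comp_hom _ (IsIrrCharacter.isCharacter χ.2))
  have hgen : Cfsg.IsGeneralizedCharacter G θh := brauer_characterization θh H3 H4
  -- the norm
  have hcoset : ∀ g : G, ∑ n : N, θh ((n : G) * g) * conj (θh ((n : G) * g)) =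
      (Nat.card N : ℂ) := by
    intro g
    set H : Subgroup G := N ⊔ Subgroup.zpowers g with hH
    haveI : (N.subgroupOf H).Normal := inferInstance
    haveI : Fintype (N.subgroupOf H) := Fintype.ofFinite _
    haveI : Fintype H := Fintype.ofFinite _
    set e : N.subgroupOf H ≃* N := Subgroup.subgroupOfEquivOfLe (hHg g) with he
    have hres : (fun m : N.subgroupOf H => (X g : H → ℂ) m) = (θ : N → ℂ) ∘ e :=
      funext fun m => (hX g).2 (e m) (m : H).2
    have hχN : Cfsg.IsIrrCharacter (N.subgroupOf H) (fun m : N.subgroupOf H => (X g : H → ℂ) m) := by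
      rw [hres]
      exact IsIrrCharacter.comp_mulEquiv e θ.2
    have hga := (gallagher_avg (N.subgroupOf H) (X g : H → ℂ) (X g).2 hχN (X g : H → ℂ) (X g).2
      _ rfl).2.2 rfl
    have h1 := congrFun hga ⟨g, hgmem g⟩
    have hcard : Nat.card (N.subgroupOf H) = Nat.card N := Nat.card_congr e.toEquiv
    have hN0 : (Nat.card N : ℂ) ≠ 0 := by exact_mod_cast Nat.card_pos.ne'
    rw [hcard] at h1
    have h2 : ∑ n : N, θh ((n : G) * g) * conj (θh ((n : G) * g)) =
        ∑ m : N.subgroupOf H, (X g : H → ℂ) ((m : H) * ⟨g, hgmem g⟩) *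
          conj ((X g : H → ℂ) ((m : H) * ⟨g, hgmem g⟩)) := by
      rw [← Equiv.sum_comp e.toEquiv]
      apply Finset.sum_congr rfl
      intro m _
      have h3 : θh (((e.toEquiv m : N) : G) * g) = (X g : H → ℂ) ((m : H) * ⟨g, hgmem g⟩) :=
        H1 H (hHg g) (X g) (hX g) _ (H.mul_mem (m : H).2 (hgmem g))
      rw [h3]
    rw [h2]
    field_simp at h1
    exact h1
  have hnorm : Cfsg.classInner θh θh = 1 := by
    unfold Cfsg.classInner
    have hN0 : (Nat.card N : ℂ) ≠ 0 := by exact_mod_cast Nat.card_pos.ne'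
    have hG0 : (Nat.card G : ℂ) ≠ 0 := by exact_mod_cast Nat.card_pos.ne'
    have h1 : ∀ n : N, ∑ g : G, θh g * conj (θh g) =
        ∑ g : G, θh ((n : G) * g) * conj (θh ((n : G) * g)) := fun n =>
      (Equiv.sum_comp (Equiv.mulLeft (n : G)) (fun g => θh g * conj (θh g))).symm
    have h2 : (Nat.card N : ℂ) * ∑ g : G, θh g * conj (θh g) =
        (Nat.card N : ℂ) * (Nat.card G : ℂ) := by
      calc (Nat.card N : ℂ) * ∑ g : G, θh g * conj (θh g)
          = ∑ n : N, ∑ g : G, θh g * conj (θh g) := by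
            rw [Finset.sum_const, Finset.card_univ, nsmul_eq_mul, Nat.card_eq_fintype_card]
        _ = ∑ n : N, ∑ g : G, θh ((n : G) * g) * conj (θh ((n : G) * g)) :=
            Finset.sum_congr rfl (fun n _ => h1 n)
        _ = ∑ g : G, ∑ n : N, θh ((n : G) * g) * conj (θh ((n : G) * g)) := Finset.sum_comm
        _ = ∑ g : G, (Nat.card N : ℂ) := Finset.sum_congr rfl (fun g _ => hcoset g)
        _ = (Nat.card N : ℂ) * (Nat.card G : ℂ) := by
            rw [Finset.sum_const, Finset.card_univ, nsmul_eq_mul, ← Nat.card_eq_fintype_card]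
            ring
    have h3 := mul_left_cancel₀ hN0 h2
    rw [h3, inv_mul_cancel₀ hG0]
  -- irreducibility
  obtain ⟨χ, hχ, hor⟩ := exists_signed_irr_of_norm_one hgen hnorm
  have hθh1 : θh 1 = (θ : N → ℂ) 1 := (hX 1).2 1 (hHg 1 N.one_mem)
  have hirr : Cfsg.IsIrrCharacter G θh := by
    rcases hor with h | h
    · rw [h]
      exact hχ
    · exfalso
      obtain ⟨a, ha, ha1⟩ := IsIrrCharacter.apply_one_pos hχ
      obtain ⟨b, hb, hb1⟩ := IsIrrCharacter.apply_one_pos θ.2
      have h5 := congrFun h 1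
      rw [hθh1, hb1, Pi.neg_apply, ha1] at h5
      have h6 : ((b + a : ℕ) : ℂ) = 0 := by
        push_cast
        rw [h5]
        ring
      have h7 : b + a = 0 := by exact_mod_cast h6
      omega
  refine ⟨⟨θh, hirr⟩, ?_, ?_⟩
  · rw [mem_principalBlock_iff hM.2.1]
    intro g
    set H : Subgroup G := N ⊔ Subgroup.zpowers g with hH
    have hR : N ≤ H.subtype.range := by
      rw [Subgroup.range_subtype]
      exact hHg g
    have h1 := (lemmaR hM H.subtype Subtype.val_injective N hR S.hidx θh ⟨g, hgmem g⟩).mpr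
    apply h1
    have h2 : (fun x : H => θh (H.subtype x)) = (X g : H → ℂ) :=
      funext fun x => H1 H (hHg g) (X g) (hX g) x x.2
    rw [h2]
    exact (mem_principalBlock_iff hM.2.1 (X g)).mp (hX g).1 ⟨g, hgmem g⟩
  · intro n
    exact (hX (n : G)).2 n (hHg _ n.2)

end Cfsg.Agent.Helper6.AlpDade
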