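import Mathlib
import Cfsg.Prelude.Def_Characters
import Cfsg.Prelude.Def_Blocks
import Cfsg.Prelude.Def_CharExt
import Cfsg.Agent.Helper6.BlockCover3
import Cfsg.Agent.Helper6.BlockCover4
import Cfsg.Agent.Helper6.PrincipalDefect
import Cfsg.Agent.Helper6.DefectClass
import Cfsg.Agent.Helper6.BlockEquiv
import Cfsg.Agent.Helper6.CycA
import Cfsg.Agent.Helper6.GaloisConj
import Cfsg.Agent.S0867
import Cfsg.Agent.Helper6.BlockPart

/-!
# Principal blocks over normal subgroups of `p`-power index, and canonical extensions fixed by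
power maps
-/

set_option autoImplicit false
set_option linter.style.haveILetI false

namespace Cfsg.Agent.Helper6

open scoped ComplexConjugate

universe u

variable {G : Type u} [Group G] {M : Ideal Cfsg.AlgInt}

/-- The constituents of the restriction of a member of the principal block to a normal
subgroup lie in the principal block. -/
theorem restrict_mem_principalBlock [Fintype G] (hM : M.IsMaximal) (N : Subgroup G)
    [hN : N.Normal] [Fintype N] (χ : Cfsg.IrrCharacter G) (hχ : χ ∈ Cfsg.principalBlock M G)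
    (θ : Cfsg.IrrCharacter N)
    (hne : Cfsg.classInner (fun n : N => (χ : G → ℂ) n) (θ : N → ℂ) ≠ 0) :
    θ ∈ Cfsg.principalBlock M N := by
  have hcon : Cfsg.classInner (fun n : N => ((trivIrr G : Cfsg.IrrCharacter G) : G → ℂ) n)
      ((trivIrr N : Cfsg.IrrCharacter N) : N → ℂ) ≠ 0 := by
    have h1 : (fun n : N => ((trivIrr G : Cfsg.IrrCharacter G) : G → ℂ) n) =
        ((trivIrr N : Cfsg.IrrCharacter N) : N → ℂ) := rfl
    rw [h1, classInner_irr_self (trivIrr N).2]
    exact one_ne_zero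
  obtain ⟨g, θ', hθ', hconj⟩ := covering_conj hM N (Cfsg.principalBlock M G)
    (isPBlock_principalBlock G) (Cfsg.principalBlock M N) (isPBlock_principalBlock N)
    (trivIrr G) (trivIrr_mem_principalBlock hM) (trivIrr N) (trivIrr_mem_principalBlock hM)
    hcon χ hχ θ hne
  have h1 : Cfsg.SameBlock M (fun _ : N => (1 : ℂ)) (θ' : N → ℂ) := hθ'
  have h2 := sameBlock_conjFun (M := M) N g h1
  have h3 : conjFun N (fun _ : N => (1 : ℂ)) g = fun _ : N => (1 : ℂ) := rfl
  have h4 : conjFun N (θ' : N → ℂ) g = (θ : N → ℂ) := by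
    funext n
    exact (hconj n).symm
  rw [h3, h4] at h2
  exact h2

/-- If `G/N` is a `p`-group, every irreducible character of `G` over a member of the principal
block of `N` lies in the principal block of `G`. -/
theorem mem_principalBlock_of_over [Fintype G] (p : ℕ) [hp : Fact p.Prime]
    (hM : Cfsg.IsPModular p M) (N : Subgroup G) [hN : N.Normal] [Fintype N]
    (hidx : ∃ k : ℕ, N.index = p ^ k) (χ : Cfsg.IrrCharacter G) (θ : Cfsg.IrrCharacter N)
    (hθ : θ ∈ Cfsg.principalBlock M N)
    (hne : Cfsg.classInner (fun n : N => (χ : G → ℂ) n) (θ : N → ℂ) ≠ 0) :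
    χ ∈ Cfsg.principalBlock M G := by
  have hMmax := hM.2.1
  obtain ⟨B, -, huniq⟩ := covering_unique hMmax p hM.2.2 N hidx (Cfsg.principalBlock M N)
    (isPBlock_principalBlock N)
  have h1 : Cfsg.principalBlock M G = B := by
    apply huniq
    refine ⟨isPBlock_principalBlock G, trivIrr G, trivIrr_mem_principalBlock hMmax, trivIrr N,
      trivIrr_mem_principalBlock hMmax, ?_⟩
    have h1 : (fun n : N => ((trivIrr G : Cfsg.IrrCharacter G) : G → ℂ) n) =
        ((trivIrr N : Cfsg.IrrCharacter N) : N → ℂ) := rfl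
    rw [h1, classInner_irr_self (trivIrr N).2]
    exact one_ne_zero
  have h2 : Cfsg.blockOf M (χ : G → ℂ) = B := by
    apply huniq
    exact ⟨⟨χ, rfl⟩, χ, mem_blockOf_self hMmax χ, θ, hθ, hne⟩
  rw [h1, ← h2]
  exact mem_blockOf_self hMmax χ

/-- The canonical extension (with determinantal order prime to `p`) of an invariant
irreducible character fixed by a coprime power map is itself fixed by that power map. -/
theorem exists_canonical_ext_pow_fixed [Finite G] (p : ℕ) [hp : Fact p.Prime] (N : Subgroup G)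
    [hN : N.Normal] (hidx : ∃ a : ℕ, N.index = p ^ a) (θ : N → ℂ)
    (hθ : Cfsg.IsIrrCharacter N θ)
    (hinv : ∀ (g : G) (n : N), θ ⟨g * n * g⁻¹, hN.conj_mem (n : G) n.2 g⟩ = θ n)
    (hdeg : ¬ p ∣ Cfsg.charDegree θ) (hdet : ¬ p ∣ Cfsg.detOrder θ)
    (k : ℕ) (hk : k.Coprime (Nat.card G)) (hθk : ∀ n : N, θ (n ^ k) = θ n) :
    ∃ χ : G → ℂ, Cfsg.IsIrrCharacter G χ ∧ (∀ n : N, χ n = θ n) ∧ ¬ p ∣ Cfsg.detOrder χ ∧
      (∀ g : G, χ (g ^ k) = χ g) := by
  classical
  haveI := Fintype.ofFinite G
  obtain ⟨a, ha⟩ := hidx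
  have hθc := IsIrrCharacter.isCharacter hθ
  have hcop : Nat.Coprime N.index (Cfsg.detOrder θ * Cfsg.charDegree θ) := by
    rw [ha]
    apply Nat.Coprime.pow_left
    rw [Nat.Prime.coprime_iff_not_dvd hp.out]
    intro hdvd
    rcases (Nat.Prime.dvd_mul hp.out).mp hdvd with h | h
    · exact hdet h
    · exact hdeg h
  obtain ⟨χ, ⟨hχirr, hχres, hχdet⟩, huniq⟩ := Cfsg.Agent.S0867.result N θ hθ hinv
    (Cfsg.charDegree θ) (charDegree_cast_of_isCharacter hθc).symm hcop
  have hpχ : ¬ p ∣ Cfsg.detOrder χ := by rw [hχdet]; exact hdet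
  refine ⟨χ, hχirr, hχres, hpχ, ?_⟩
  have hχc := IsIrrCharacter.isCharacter hχirr
  have hirrK : Cfsg.IsIrrCharacter G (fun x => χ (x ^ k)) := IsIrrCharacter.comp_pow hχirr k hk
  have h2 : (fun x => χ (x ^ k)) = χ := by
    apply huniq _ hirrK
    · intro n
      have : ((n : G) ^ k) = ((n ^ k : N) : G) := by rw [Subgroup.coe_pow]
      rw [this, hχres, hθk]
    · have hdc := detChar_comp_pow hχc k (IsIrrCharacter.isCharacter hirrK)
      have hord : Cfsg.detOrder (fun x => χ (x ^ k)) ∣ Cfsg.detOrder χ := by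
        unfold Cfsg.detOrder
        rw [hdc]
        have : (fun x => (Cfsg.detChar χ x) ^ k) = (Cfsg.detChar χ) ^ k := rfl
        rw [this]
        exact orderOf_pow_dvd k
      rw [ha]
      apply Nat.Coprime.pow_left
      rw [Nat.Prime.coprime_iff_not_dvd hp.out]
      intro h
      exact hpχ (dvd_trans h hord)
  intro g
  exact congrFun h2 g

end Cfsg.Agent.Helper6
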