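import Mathlib
import Cfsg.Prelude.Def_Characters
import Cfsg.Prelude.Def_Blocks
import Cfsg.Agent.Helper6.AlpDadeG
import Cfsg.Agent.Helper6.GalMcA
import Cfsg.Agent.Helper6.Degrees

/-!
# Alperin–Dade for principal blocks, part H: the theorem
-/

set_option autoImplicit false
set_option linter.style.haveILetI false

namespace Cfsg.Agent.Helper6.AlpDade

open scoped ComplexConjugate

universe u

variable {M : Ideal Cfsg.AlgInt} {G : Type u} [Group G]

theorem sylow_le_of_not_dvd_index [Finite G] {p : ℕ} [hp : Fact p.Prime] (N : Subgroup G)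
    [hN : N.Normal] (hidx : ¬ p ∣ N.index) (P : Sylow p G) : (P : Subgroup G) ≤ N := by
  intro x hx
  obtain ⟨k, hk⟩ := P.2 ⟨x, hx⟩
  have hk' : x ^ p ^ k = 1 := by
    have := congrArg Subtype.val hk
    simpa using this
  have h1 : orderOf ((x : G) : G ⧸ N) ∣ p ^ k := by
    apply orderOf_dvd_of_pow_eq_one
    rw [← QuotientGroup.mk_pow, hk']
    rfl
  have h2 : orderOf ((x : G) : G ⧸ N) ∣ N.index := by
    rw [Subgroup.index_eq_card]
    exact orderOf_dvd_natCard _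
  have hcop : Nat.Coprime (p ^ k) N.index :=
    ((Nat.Prime.coprime_iff_not_dvd hp.out).mpr hidx).pow_left k
  have h3 : orderOf ((x : G) : G ⧸ N) = 1 :=
    Nat.Coprime.eq_one_of_dvd (Nat.Coprime.coprime_dvd_left h1 hcop) h2
  rw [orderOf_eq_one_iff] at h3
  exact (QuotientGroup.eq_one_iff x).mp h3

theorem subSetup_of_sylow [Finite G] {p : ℕ} [hp : Fact p.Prime] (N : Subgroup G)
    [hN : N.Normal] (hidx : ¬ p ∣ N.index) (P : Sylow p G)
    (hsup : N ⊔ Subgroup.centralizer ((P : Subgroup G) : Set G) = ⊤) :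
    SubSetup p N (P : Subgroup G) := by
  refine ⟨sylow_le_of_not_dvd_index N hidx P, P.not_dvd_index, ?_⟩
  intro g
  have hg : g ∈ N ⊔ Subgroup.centralizer ((P : Subgroup G) : Set G) := by
    rw [hsup]
    exact Subgroup.mem_top g
  obtain ⟨n, hn, c, hc, rfl⟩ := Subgroup.mem_sup_of_normal_left.mp hg
  refine ⟨c, hc, ?_⟩
  have := hN.conj_mem n hn c⁻¹
  have e : c⁻¹ * (n * c) = c⁻¹ * n * c⁻¹⁻¹ := by group
  rw [e]
  exact this

/-- **the theorem of Alperin and Dade for principal blocks** -/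
theorem alperin_dade [Finite G] (p : ℕ) [hp : Fact p.Prime] (hM : Cfsg.IsPModular p M)
    (N : Subgroup G) [hN : N.Normal] (hidx : ¬ p ∣ N.index) (P : Sylow p G)
    (hsup : N ⊔ Subgroup.centralizer ((P : Subgroup G) : Set G) = ⊤) :
    (∀ χ ∈ Cfsg.principalBlock M G, ∃ θ ∈ Cfsg.principalBlock M N,
      ∀ n : N, (χ : G → ℂ) n = (θ : N → ℂ) n) ∧
    ∀ θ ∈ Cfsg.principalBlock M N, ∃! χ : Cfsg.IrrCharacter G,
      χ ∈ Cfsg.principalBlock M G ∧ ∀ n : N, (χ : G → ℂ) n = (θ : N → ℂ) n := by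
  classical
  haveI : Fintype G := Fintype.ofFinite G
  haveI : Fintype N := Fintype.ofFinite N
  have S := subSetup_of_sylow N hidx P hsup
  have hC := S.hom₀.hC
  -- a member of the principal block over an extension is that extension
  have key : ∀ (θ : Cfsg.IrrCharacter N) (χ₀ ψ : Cfsg.IrrCharacter G),
      χ₀ ∈ Cfsg.principalBlock M G → (∀ n : N, (χ₀ : G → ℂ) n = (θ : N → ℂ) n) →
      ψ ∈ Cfsg.principalBlock M G →
      Cfsg.classInner (fun n : N => (ψ : G → ℂ) n) (θ : N → ℂ) ≠ 0 → ψ = χ₀ := by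
    intro θ χ₀ ψ hχ₀ hext hψ hne
    have hres : (fun n : N => (χ₀ : G → ℂ) n) = (θ : N → ℂ) := funext hext
    apply eq_of_over hM N (Subgroup.centralizer ((P : Subgroup G) : Set G)) hC S.sup hidx χ₀ ψ
      hχ₀ hψ
    · rw [hres]
      exact θ.2
    · rw [hres]
      exact hne
  constructor
  · intro χ hχ
    have hchar : Cfsg.IsCharacter N (fun n : N => (χ : G → ℂ) n) :=
      IsCharacter.restrict N (IsIrrCharacter.isCharacter χ.2)
    have hne0 : (fun n : N => (χ : G → ℂ) n) ≠ 0 := by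
      intro h
      have := congrFun h 1
      exact IsIrrCharacter.apply_one_ne_zero χ.2 this
    obtain ⟨θ, hθirr, hne⟩ := exists_irr_constituent hchar hne0
    have hθB : (⟨θ, hθirr⟩ : Cfsg.IrrCharacter N) ∈ Cfsg.principalBlock M N :=
      restrict_mem_principalBlock hM.2.1 N χ hχ ⟨θ, hθirr⟩ hne
    obtain ⟨χ₀, hχ₀, hext⟩ := exists_ext_general hM S ⟨θ, hθirr⟩ hθB
    have h1 := key ⟨θ, hθirr⟩ χ₀ χ hχ₀ hext hχ hne
    refine ⟨⟨θ, hθirr⟩, hθB, ?_⟩
    rw [h1]
    exact hext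
  · intro θ hθ
    obtain ⟨χ₀, hχ₀, hext⟩ := exists_ext_general hM S θ hθ
    refine ⟨χ₀, ⟨hχ₀, hext⟩, ?_⟩
    rintro ψ ⟨hψ, hψext⟩
    apply key θ χ₀ ψ hχ₀ hext hψ
    have : (fun n : N => (ψ : G → ℂ) n) = (θ : N → ℂ) := funext hψext
    rw [this, classInner_irr_self θ.2]
    exact one_ne_zero

end Cfsg.Agent.Helper6.AlpDade
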