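import Mathlib

/-!
# Even permutations supported on a finite set of points

Preparations for the bound `|M(A_n)| ≤ 2` (S0892).
-/

set_option autoImplicit false
set_option linter.style.haveILetI false

namespace Cfsg.Agent.Helper6.AltStem

open Equiv
open scoped commutatorElement

variable {α : Type*} [DecidableEq α] [Fintype α]

/-- the even permutations fixing every point outside `S` -/
def altOn (S : Finset α) : Subgroup (Perm α) where
  carrier := {g | Perm.sign g = 1 ∧ ∀ x, x ∉ S → g x = x}
  one_mem' := ⟨Perm.sign_one, fun _ _ => rfl⟩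
  mul_mem' := by
    rintro a b ⟨ha, ha'⟩ ⟨hb, hb'⟩
    refine ⟨by rw [Perm.sign_mul, ha, hb, one_mul], fun x hx => ?_⟩
    rw [Perm.mul_apply, hb' x hx, ha' x hx]
  inv_mem' := by
    rintro a ⟨ha, ha'⟩
    refine ⟨by rw [Perm.sign_inv, ha], fun x hx => ?_⟩
    rw [Perm.inv_eq_iff_eq]
    exact (ha' x hx).symm

theorem mem_altOn_iff {S : Finset α} {g : Perm α} :
    g ∈ altOn S ↔ Perm.sign g = 1 ∧ ∀ x, x ∉ S → g x = x := Iff.rfl

theorem altOn_le_alternatingGroup (S : Finset α) : altOn S ≤ alternatingGroup α := by
  intro g hg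
  exact Perm.mem_alternatingGroup.mpr hg.1

theorem altOn_mono {S T : Finset α} (h : S ⊆ T) : altOn S ≤ altOn T := by
  intro g hg
  exact ⟨hg.1, fun x hx => hg.2 x (fun hxS => hx (h hxS))⟩

theorem swap_mul_swap_mem_altOn {S : Finset α} {a b c d : α} (ha : a ∈ S) (hb : b ∈ S)
    (hc : c ∈ S) (hd : d ∈ S) (hab : a ≠ b) (hcd : c ≠ d) : swap a b * swap c d ∈ altOn S := by
  refine ⟨?_, ?_⟩
  · rw [Perm.sign_mul, Perm.sign_swap hab, Perm.sign_swap hcd]
    rfl
  · intro x hx
    have h1 : x ≠ a := fun h => hx (h ▸ ha)
    have h2 : x ≠ b := fun h => hx (h ▸ hb)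
    have h3 : x ≠ c := fun h => hx (h ▸ hc)
    have h4 : x ≠ d := fun h => hx (h ▸ hd)
    rw [Perm.mul_apply, swap_apply_of_ne_of_ne h3 h4, swap_apply_of_ne_of_ne h1 h2]

/-- conjugating `altOn S` by `g` gives `altOn (g S)` -/
theorem conj_mem_altOn {S : Finset α} (g : Perm α) {x : Perm α} (hx : x ∈ altOn S) :
    g * x * g⁻¹ ∈ altOn (S.map g.toEmbedding) := by
  refine ⟨?_, ?_⟩
  · rw [Perm.sign_mul, Perm.sign_mul, Perm.sign_inv, hx.1, mul_one]
    exact Int.units_mul_self _
  · intro y hy
    have h1 : g⁻¹ y ∉ S := by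
      intro h
      apply hy
      rw [Finset.mem_map]
      exact ⟨g⁻¹ y, h, by simp⟩
    rw [Perm.mul_apply, Perm.mul_apply, hx.2 _ h1]
    simp

theorem conj_mem_altOn_iff {S : Finset α} (g : Perm α) {x : Perm α} :
    g * x * g⁻¹ ∈ altOn (S.map g.toEmbedding) ↔ x ∈ altOn S := by
  constructor
  · intro h
    have h2 := conj_mem_altOn g⁻¹ h
    have h3 : (S.map g.toEmbedding).map (g⁻¹ : Perm α).toEmbedding = S := by
      ext y
      simp only [Finset.mem_map, Equiv.coe_toEmbedding]
      constructor
      · rintro ⟨z, ⟨w, hw, rfl⟩, rfl⟩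
        simpa using hw
      · intro hy
        exact ⟨g y, ⟨y, hy, rfl⟩, by simp⟩
    rw [h3] at h2
    have h4 : g⁻¹ * (g * x * g⁻¹) * g⁻¹⁻¹ = x := by group
    rwa [h4] at h2
  · exact conj_mem_altOn g

/-- elements with disjoint supports commute -/
theorem commute_of_mem_altOn {R : Finset α} {x c : Perm α} (hx : x ∈ altOn R)
    (hc : ∀ y ∈ R, c y = y) : Commute x c := by
  apply Perm.Disjoint.commute
  intro y
  by_cases hy : y ∈ R
  · exact Or.inr (hc y hy)
  · exact Or.inl (hx.2 y hy)

section iso

variable (S : Finset α)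

/-- the embedding of the alternating group of the subtype -/
noncomputable def altOnHom : alternatingGroup {x // x ∈ S} →* Perm α :=
  (Perm.ofSubtype).comp (alternatingGroup {x // x ∈ S}).subtype

theorem altOnHom_injective : Function.Injective (altOnHom S) := by
  intro a b h
  apply Subtype.ext
  exact Perm.ofSubtype_injective h

theorem altOnHom_range : (altOnHom S).range = altOn S := by
  ext g
  constructor
  · rintro ⟨f, rfl⟩
    refine ⟨?_, ?_⟩
    · show Perm.sign (Perm.ofSubtype (f : Perm {x // x ∈ S})) = 1
      rw [Perm.sign_ofSubtype]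
      exact Perm.mem_alternatingGroup.mp f.2
    · intro x hx
      exact Perm.ofSubtype_apply_of_not_mem _ hx
  · intro hg
    have h1 : ∀ x, g x ∈ S ↔ x ∈ S := by
      intro x
      constructor
      · intro h
        by_contra hx
        rw [hg.2 x hx] at h
        exact hx h
      · intro h
        by_contra hx
        have h2 := hg.2 (g x) hx
        have h3 : g x = x := g.injective h2
        rw [h3] at hx
        exact hx h
    have h2 : ∀ x, g x ≠ x → x ∈ S := by
      intro x hx
      by_contra h
      exact hx (hg.2 x h)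
    have h3 := Perm.ofSubtype_subtypePerm (p := fun x => x ∈ S) h1 h2
    have h4 : Perm.sign (g.subtypePerm h1) = 1 := by
      rw [← Perm.sign_ofSubtype, h3]
      exact hg.1
    exact ⟨⟨g.subtypePerm h1, Perm.mem_alternatingGroup.mpr h4⟩, h3⟩

theorem card_altOn (hS : 2 ≤ S.card) : 2 * Nat.card (altOn S) = S.card.factorial := by
  rw [← altOnHom_range, Nat.card_congr (MonoidHom.ofInjective (altOnHom_injective S)).toEquiv.symm]
  haveI : Nontrivial {x // x ∈ S} := by
    rw [← Fintype.one_lt_card_iff_nontrivial, Fintype.card_coe]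
    omega
  rw [two_mul_nat_card_alternatingGroup, Nat.card_perm, Nat.card_eq_fintype_card,
    Fintype.card_coe]

end iso

/-- `altOn S` is perfect when `S` has at least five points -/
theorem altOn_perfect (S : Finset α) (hS : 5 ≤ S.card) : ⁅altOn S, altOn S⁆ = altOn S := by
  apply le_antisymm
  · rw [Subgroup.commutator_le]
    intro a ha b hb
    exact (altOn S).mul_mem ((altOn S).mul_mem ((altOn S).mul_mem ha hb) ((altOn S).inv_mem ha))
      ((altOn S).inv_mem hb)
  · haveI : IsSimpleGroup (alternatingGroup {x // x ∈ S}) := by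
      apply alternatingGroup.isSimpleGroup
      rw [Nat.card_eq_fintype_card, Fintype.card_coe]
      exact hS
    have hcomm : commutator (alternatingGroup {x // x ∈ S}) = ⊤ := by
      rcases (Subgroup.Normal.eq_bot_or_eq_top
        (H := commutator (alternatingGroup {x // x ∈ S})) inferInstance) with h | h
      · exfalso
        -- the group would be commutative
        have hab : ∀ x y : alternatingGroup {x // x ∈ S}, x * y = y * x := by
          intro x y
          have h1 : ⁅x, y⁆ ∈ commutator (alternatingGroup {x // x ∈ S}) := by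
            rw [commutator_def]
            exact Subgroup.commutator_mem_commutator (Subgroup.mem_top x) (Subgroup.mem_top y)
          rw [h, Subgroup.mem_bot, commutatorElement_def] at h1
          calc x * y = (x * y * x⁻¹ * y⁻¹) * (y * x) := by group
            _ = y * x := by rw [h1, one_mul]
        -- four distinct points
        obtain ⟨T, hTS, hT⟩ := Finset.exists_subset_card_eq (s := S) (n := 4) (by omega)
        obtain ⟨a, b, c, d, hab', hac, had, hbc, hbd, hcd, rfl⟩ := Finset.card_eq_four.mp hT
        have haS : a ∈ S := hTS (by simp)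
        have hbS : b ∈ S := hTS (by simp)
        have hcS : c ∈ S := hTS (by simp)
        have hdS : d ∈ S := hTS (by simp)
        have hx : swap a b * swap b c ∈ (altOnHom S).range := by
          rw [altOnHom_range]
          exact swap_mul_swap_mem_altOn haS hbS hbS hcS hab' hbc
        have hy : swap a b * swap b d ∈ (altOnHom S).range := by
          rw [altOnHom_range]
          exact swap_mul_swap_mem_altOn haS hbS hbS hdS hab' hbd
        obtain ⟨x, hx⟩ := hx
        obtain ⟨y, hy⟩ := hy
        have h2 := congrArg (altOnHom S) (hab x y)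
        rw [map_mul, map_mul, hx, hy] at h2
        have h3 := congrArg (fun f : Perm α => f a) h2
        simp only [Perm.mul_apply] at h3
        rw [swap_apply_of_ne_of_ne hab' had, swap_apply_left, swap_apply_left,
          swap_apply_of_ne_of_ne hac.symm hbc.symm,
          swap_apply_of_ne_of_ne hab' hac, swap_apply_left, swap_apply_left,
          swap_apply_of_ne_of_ne had.symm hbd.symm] at h3
        exact hcd h3
      · exact h
    have h1 : altOn S = (⊤ : Subgroup (alternatingGroup {x // x ∈ S})).map (altOnHom S) := by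
      rw [← MonoidHom.range_eq_map, altOnHom_range]
    rw [h1, ← Subgroup.map_commutator, ← commutator_def, hcomm]

/-- any two `k`-subsets are conjugate under an even permutation, provided two points remain -/
theorem exists_even_map (S T : Finset α) (hST : S.card = T.card)
    (hT : T.card + 2 ≤ Fintype.card α) :
    ∃ g : Perm α, Perm.sign g = 1 ∧ S.map g.toEmbedding = T := by
  have e₀ : {x // x ∈ S} ≃ {x // x ∈ T} :=
    Fintype.equivOfCardEq (by rw [Fintype.card_coe, Fintype.card_coe, hST])
  set g₀ : Perm α := e₀.extendSubtype with hg₀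
  have hmap : S.map g₀.toEmbedding = T := by
    apply Finset.eq_of_subset_of_card_le
    · intro y hy
      rw [Finset.mem_map] at hy
      obtain ⟨x, hx, rfl⟩ := hy
      show g₀ x ∈ T
      rw [hg₀, Equiv.extendSubtype_apply_of_mem e₀ x hx]
      exact (e₀ ⟨x, hx⟩).2
    · rw [Finset.card_map, hST]
  rcases Int.units_eq_one_or (Perm.sign g₀) with h | h
  · exact ⟨g₀, h, hmap⟩
  · -- two points outside `T`
    have hc : 2 ≤ (Finset.univ \ T).card := by
      rw [Finset.card_sdiff_of_subset (Finset.subset_univ T), Finset.card_univ]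
      omega
    obtain ⟨U, hU, hU2⟩ := Finset.exists_subset_card_eq hc
    obtain ⟨a, b, hab, rfl⟩ := Finset.card_eq_two.mp hU2
    have ha : a ∉ T := by
      have := hU (show a ∈ ({a, b} : Finset α) by simp)
      exact (Finset.mem_sdiff.mp this).2
    have hb : b ∉ T := by
      have := hU (show b ∈ ({a, b} : Finset α) by simp)
      exact (Finset.mem_sdiff.mp this).2
    refine ⟨swap a b * g₀, ?_, ?_⟩
    · rw [Perm.sign_mul, Perm.sign_swap hab, h]
      rfl
    · rw [← hmap]
      ext y
      simp only [Finset.mem_map, Equiv.coe_toEmbedding, Perm.mul_apply]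
      constructor
      · rintro ⟨x, hx, rfl⟩
        refine ⟨x, hx, ?_⟩
        have hgx : g₀ x ∈ T := by
          rw [← hmap, Finset.mem_map]
          exact ⟨x, hx, rfl⟩
        have h1 : g₀ x ≠ a := fun h' => ha (h' ▸ hgx)
        have h2 : g₀ x ≠ b := fun h' => hb (h' ▸ hgx)
        rw [swap_apply_of_ne_of_ne h1 h2]
      · rintro ⟨x, hx, rfl⟩
        refine ⟨x, hx, ?_⟩
        have hgx : g₀ x ∈ T := by
          rw [← hmap, Finset.mem_map]
          exact ⟨x, hx, rfl⟩
        have h1 : g₀ x ≠ a := fun h' => ha (h' ▸ hgx)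
        have h2 : g₀ x ≠ b := fun h' => hb (h' ▸ hgx)
        rw [swap_apply_of_ne_of_ne h1 h2]

end Cfsg.Agent.Helper6.AltStem
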