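import Mathlib
import Cfsg.Agent.Helper6.AltStemA

/-!
# Central extensions of the alternating group: local complements
-/

set_option autoImplicit false
set_option linter.style.haveILetI false
set_option linter.unusedSectionVars false

namespace Cfsg.Agent.Helper6.AltStem

open Equiv
open scoped commutatorElement

variable {α : Type*} [DecidableEq α] [Fintype α] {Γ : Type*} [Group Γ]

/-- a homomorphism onto the alternating group with central kernel -/
structure CentExt (σ : Γ →* Perm α) : Prop where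
  central : σ.ker ≤ Subgroup.center Γ
  range : σ.range = alternatingGroup α

/-- the preimage of `altOn S` -/
def gam (σ : Γ →* Perm α) (S : Finset α) : Subgroup Γ := (altOn S).comap σ

/-- the derived subgroup of the preimage of `altOn S` -/
def kk (σ : Γ →* Perm α) (S : Finset α) : Subgroup Γ := ⁅gam σ S, gam σ S⁆

theorem mem_gam_iff {σ : Γ →* Perm α} {S : Finset α} {u : Γ} : u ∈ gam σ S ↔ σ u ∈ altOn S :=
  Iff.rfl

theorem kk_le_gam (σ : Γ →* Perm α) (S : Finset α) : kk σ S ≤ gam σ S := by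
  unfold kk
  rw [Subgroup.commutator_le]
  intro a ha b hb
  exact (gam σ S).mul_mem ((gam σ S).mul_mem ((gam σ S).mul_mem ha hb) ((gam σ S).inv_mem ha))
    ((gam σ S).inv_mem hb)

theorem ker_le_gam (σ : Γ →* Perm α) (S : Finset α) : σ.ker ≤ gam σ S := by
  intro z hz
  rw [mem_gam_iff, MonoidHom.mem_ker.mp hz]
  exact (altOn S).one_mem

theorem map_kk {σ : Γ →* Perm α} (h : CentExt σ) (S : Finset α) (hS : 5 ≤ S.card) :
    (kk σ S).map σ = altOn S := by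
  unfold kk
  rw [Subgroup.map_commutator]
  have h1 : (gam σ S).map σ = altOn S := by
    unfold gam
    rw [Subgroup.map_comap_eq, h.range]
    exact inf_eq_right.mpr (altOn_le_alternatingGroup S)
  rw [h1, altOn_perfect S hS]

theorem exists_lift {σ : Γ →* Perm α} (h : CentExt σ) (S : Finset α) (hS : 5 ≤ S.card)
    {x : Perm α} (hx : x ∈ altOn S) : ∃ y ∈ kk σ S, σ y = x := by
  rw [← map_kk h S hS] at hx
  exact hx

theorem lift_unique {σ : Γ →* Perm α} {S : Finset α} (hk : kk σ S ⊓ σ.ker = ⊥) {y y' : Γ}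
    (hy : y ∈ kk σ S) (hy' : y' ∈ kk σ S) (h : σ y = σ y') : y = y' := by
  have h1 : y⁻¹ * y' ∈ kk σ S ⊓ σ.ker := by
    refine ⟨(kk σ S).mul_mem ((kk σ S).inv_mem hy) hy', ?_⟩
    show y⁻¹ * y' ∈ σ.ker
    rw [MonoidHom.mem_ker, map_mul, map_inv, h, inv_mul_cancel]
  rw [hk, Subgroup.mem_bot] at h1
  calc y = y * (y⁻¹ * y') := by rw [h1, mul_one]
    _ = y' := by group

theorem eq_one_of_mem_kk {σ : Γ →* Perm α} {S : Finset α} (hk : kk σ S ⊓ σ.ker = ⊥) {y : Γ}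
    (hy : y ∈ kk σ S) (h : σ y = 1) : y = 1 := by
  have h1 : y ∈ kk σ S ⊓ σ.ker := ⟨hy, MonoidHom.mem_ker.mpr h⟩
  rwa [hk, Subgroup.mem_bot] at h1

theorem gam_decomp {σ : Γ →* Perm α} (h : CentExt σ) (S : Finset α) (hS : 5 ≤ S.card) {u : Γ}
    (hu : u ∈ gam σ S) : ∃ k ∈ kk σ S, ∃ z ∈ σ.ker, u = k * z := by
  obtain ⟨k, hk, hk2⟩ := exists_lift h S hS (mem_gam_iff.mp hu)
  refine ⟨k, hk, k⁻¹ * u, ?_, by group⟩
  rw [MonoidHom.mem_ker, map_mul, map_inv, hk2, inv_mul_cancel]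

theorem conj_central_mul {y w₁ w₂ z₁ z₂ : Γ} (h1 : w₁ * y * w₁⁻¹ = z₁ * y)
    (h2 : w₂ * y * w₂⁻¹ = z₂ * y) (hz2 : z₂ ∈ Subgroup.center Γ) :
    (w₁ * w₂) * y * (w₁ * w₂)⁻¹ = (z₁ * z₂) * y := by
  have c2 : ∀ w : Γ, w * z₂ = z₂ * w := fun w => Subgroup.mem_center_iff.mp hz2 w
  calc (w₁ * w₂) * y * (w₁ * w₂)⁻¹ = w₁ * (w₂ * y * w₂⁻¹) * w₁⁻¹ := by group
    _ = w₁ * (z₂ * y) * w₁⁻¹ := by rw [h2]
    _ = (w₁ * z₂) * y * w₁⁻¹ := by group
    _ = (z₂ * w₁) * y * w₁⁻¹ := by rw [c2 w₁]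
    _ = z₂ * (w₁ * y * w₁⁻¹) := by group
    _ = z₂ * (z₁ * y) := by rw [h1]
    _ = (z₁ * z₂) * y := by rw [c2 z₁]; group

theorem conj_central_inv {y w z : Γ} (h : w * y * w⁻¹ = z * y) (hz : z ∈ Subgroup.center Γ) :
    w⁻¹ * y * w⁻¹⁻¹ = z⁻¹ * y := by
  have hz' : z⁻¹ ∈ Subgroup.center Γ := (Subgroup.center Γ).inv_mem hz
  have c : ∀ g : Γ, g * z⁻¹ = z⁻¹ * g := fun g => Subgroup.mem_center_iff.mp hz' g
  calc w⁻¹ * y * w⁻¹⁻¹ = w⁻¹ * (z⁻¹ * (z * y)) * w := by group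
    _ = w⁻¹ * (z⁻¹ * (w * y * w⁻¹)) * w := by rw [h]
    _ = (w⁻¹ * z⁻¹) * (w * y * w⁻¹) * w := by group
    _ = (z⁻¹ * w⁻¹) * (w * y * w⁻¹) * w := by rw [c w⁻¹]
    _ = z⁻¹ * y := by group

/-- a commutator of two elements moving `y` only by central elements centralizes `y` -/
theorem comm_commutes {y u v : Γ} (hu : u * y * u⁻¹ * y⁻¹ ∈ Subgroup.center Γ)
    (hv : v * y * v⁻¹ * y⁻¹ ∈ Subgroup.center Γ) : ⁅u, v⁆ * y = y * ⁅u, v⁆ := by
  set z₁ := u * y * u⁻¹ * y⁻¹ with hz₁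
  set z₂ := v * y * v⁻¹ * y⁻¹ with hz₂
  have e1 : u * y * u⁻¹ = z₁ * y := by rw [hz₁]; group
  have e2 : v * y * v⁻¹ = z₂ * y := by rw [hz₂]; group
  have e1' := conj_central_inv e1 hu
  have e2' := conj_central_inv e2 hv
  have hu' : z₁⁻¹ ∈ Subgroup.center Γ := (Subgroup.center Γ).inv_mem hu
  have hv' : z₂⁻¹ ∈ Subgroup.center Γ := (Subgroup.center Γ).inv_mem hv
  have e3 := conj_central_mul e1 e2 hv
  have e4 := conj_central_mul e3 e1' hu'
  have e5 := conj_central_mul e4 e2' hv'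
  have e6 : z₁ * z₂ * z₁⁻¹ * z₂⁻¹ = 1 := by
    have : z₁ * z₂ = z₂ * z₁ := Subgroup.mem_center_iff.mp hv z₁
    rw [this]; group
  rw [e6, one_mul] at e5
  have e7 : ⁅u, v⁆ = u * v * u⁻¹ * v⁻¹ := rfl
  rw [e7]
  calc u * v * u⁻¹ * v⁻¹ * y = (u * v * u⁻¹ * v⁻¹ * y * (u * v * u⁻¹ * v⁻¹)⁻¹) * (u * v * u⁻¹ * v⁻¹) := by
        group
    _ = y * (u * v * u⁻¹ * v⁻¹) := by rw [e5]

/-- if `σ y` commutes with all of `altOn R` then `y` commutes with all of `gam σ R` -/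
theorem commute_of_mem_gam {σ : Γ →* Perm α} (h : CentExt σ) (R : Finset α) (hR : 5 ≤ R.card)
    {y : Γ} (hy : ∀ x ∈ altOn R, x * σ y = σ y * x) {u : Γ} (hu : u ∈ gam σ R) :
    u * y = y * u := by
  have key : ∀ w ∈ gam σ R, w * y * w⁻¹ * y⁻¹ ∈ Subgroup.center Γ := by
    intro w hw
    apply h.central
    rw [MonoidHom.mem_ker]
    simp only [map_mul, map_inv]
    rw [hy _ (mem_gam_iff.mp hw)]
    group
  have h1 : kk σ R ≤ Subgroup.centralizer {y} := by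
    unfold kk
    rw [Subgroup.commutator_le]
    intro a ha b hb
    rw [Subgroup.mem_centralizer_iff]
    intro t ht
    rw [Set.mem_singleton_iff] at ht
    subst ht
    exact (comm_commutes (key a ha) (key b hb)).symm
  obtain ⟨k, hk, z, hz, rfl⟩ := gam_decomp h R hR hu
  have h2 : y * k = k * y := by
    have := h1 hk
    rw [Subgroup.mem_centralizer_iff] at this
    exact this y rfl
  have h3 : ∀ g : Γ, g * z = z * g := fun g => Subgroup.mem_center_iff.mp (h.central hz) g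
  calc k * z * y = k * (z * y) := by group
    _ = k * (y * z) := by rw [h3 y]
    _ = (k * y) * z := by group
    _ = (y * k) * z := by rw [h2]
    _ = y * (k * z) := by group

/-- equivariance of the local complements -/
theorem conj_mem_gam {σ : Γ →* Perm α} (S : Finset α) (u : Γ) {y : Γ} (hy : y ∈ gam σ S) :
    u * y * u⁻¹ ∈ gam σ (S.map (σ u).toEmbedding) := by
  rw [mem_gam_iff] at hy ⊢
  simp only [map_mul, map_inv]
  exact conj_mem_altOn (σ u) hy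

theorem conj_mem_kk {σ : Γ →* Perm α} (S : Finset α) (u : Γ) {y : Γ} (hy : y ∈ kk σ S) :
    u * y * u⁻¹ ∈ kk σ (S.map (σ u).toEmbedding) := by
  have h1 : (kk σ S).map (MulAut.conj u).toMonoidHom ≤ kk σ (S.map (σ u).toEmbedding) := by
    unfold kk
    rw [Subgroup.map_commutator]
    have h2 : (gam σ S).map (MulAut.conj u).toMonoidHom ≤ gam σ (S.map (σ u).toEmbedding) := by
      rintro _ ⟨w, hw, rfl⟩
      exact conj_mem_gam S u hw
    exact Subgroup.commutator_mono h2 h2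
  exact h1 ⟨y, hy, rfl⟩

end Cfsg.Agent.Helper6.AltStem
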