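import Mathlib
import Cfsg.Agent.Helper6.AltStemB
import Cfsg.Agent.Helper5.CarmichaelB

/-!
# Central extensions of the alternating group: compatible lifts of 3-cycles
-/

set_option autoImplicit false
set_option linter.style.haveILetI false
set_option linter.unusedSectionVars false

namespace Cfsg.Agent.Helper6.AltStem

open Equiv
open Cfsg.Agent.Helper5.Carmichael (swap_commute swap_cube swap_sq)

variable {α : Type*} [DecidableEq α] [Fintype α] {Γ : Type*} [Group Γ]

/-- all local complements meet the kernel trivially -/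
def LocSplit (σ : Γ →* Perm α) : Prop := ∀ S : Finset α, S.card = 5 → kk σ S ⊓ σ.ker = ⊥

theorem inv_conj_three {a b c d e : α} (had : a ≠ d) (hae : a ≠ e) (hbd : b ≠ d) (hbe : b ≠ e)
    (hcd : c ≠ d) (hce : c ≠ e) :
    (swap a b * swap d e) * (swap a b * swap b c) * (swap a b * swap d e)⁻¹
      = (swap a b * swap b c)⁻¹ := by
  have h1 : Commute (swap d e) (swap a b) := (swap_commute had hae hbd hbe).symm
  have h2 : Commute (swap d e) (swap b c) := (swap_commute hbd hbe hcd hce).symm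
  have h3 : Commute (swap d e) (swap a b * swap b c) := h1.mul_right h2
  simp only [mul_inv_rev, swap_inv]
  calc swap a b * swap d e * (swap a b * swap b c) * (swap d e * swap a b)
      = swap a b * (swap d e * (swap a b * swap b c) * swap d e) * swap a b := by group
    _ = swap a b * ((swap a b * swap b c) * (swap d e * swap d e)) * swap a b := by
        rw [h3.eq]; group
    _ = swap b c * swap a b := by rw [swap_mul_self, mul_one, swap_mul_self_mul]

theorem exists_two_others {S : Finset α} (hS : S.card = 5) {a b c : α} (haS : a ∈ S) (hbS : b ∈ S)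
    (hcS : c ∈ S) (hab : a ≠ b) (hac : a ≠ c) (hbc : b ≠ c) :
    ∃ d e, d ∈ S ∧ e ∈ S ∧ d ≠ e ∧ a ≠ d ∧ a ≠ e ∧ b ≠ d ∧ b ≠ e ∧ c ≠ d ∧ c ≠ e := by
  have h1 : (((S.erase a).erase b).erase c).card = 2 := by
    rw [Finset.card_erase_of_mem, Finset.card_erase_of_mem, Finset.card_erase_of_mem haS, hS]
    · exact Finset.mem_erase.mpr ⟨hab.symm, hbS⟩
    · exact Finset.mem_erase.mpr ⟨hbc.symm, Finset.mem_erase.mpr ⟨hac.symm, hcS⟩⟩
  obtain ⟨d, e, hde, hset⟩ := Finset.card_eq_two.mp h1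
  have hd : d ∈ ((S.erase a).erase b).erase c := by rw [hset]; simp
  have he : e ∈ ((S.erase a).erase b).erase c := by rw [hset]; simp
  simp only [Finset.mem_erase] at hd he
  exact ⟨d, e, hd.2.2.2, he.2.2.2, hde, fun h => hd.2.2.1 h.symm, fun h => he.2.2.1 h.symm,
    fun h => hd.2.1 h.symm, fun h => he.2.1 h.symm, fun h => hd.1 h.symm, fun h => he.1 h.symm⟩

theorem three_fix {a b c r : α} (hra : r ≠ a) (hrb : r ≠ b) (hrc : r ≠ c) :
    (swap a b * swap b c) r = r := by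
  rw [Perm.mul_apply, swap_apply_of_ne_of_ne hrb hrc, swap_apply_of_ne_of_ne hra hrb]

/-- the compatibility of the local lifts of a 3-cycle -/
theorem three_compat {σ : Γ →* Perm α} (h : CentExt σ) (hk : LocSplit σ)
    (hn : 8 ≤ Fintype.card α) {a b c : α} (hab : a ≠ b) (hac : a ≠ c) (hbc : b ≠ c)
    {S S' : Finset α} (hS : S.card = 5) (hS' : S'.card = 5)
    (haS : a ∈ S) (hbS : b ∈ S) (hcS : c ∈ S) (haS' : a ∈ S') (hbS' : b ∈ S') (hcS' : c ∈ S')
    {y y' : Γ} (hy : y ∈ kk σ S) (hy' : y' ∈ kk σ S') (hσy : σ y = swap a b * swap b c)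
    (hσy' : σ y' = swap a b * swap b c) : y = y' := by
  obtain ⟨d, e, hdS, heS, hde, had, hae, hbd, hbe, hcd, hce⟩ :=
    exists_two_others hS haS hbS hcS hab hac hbc
  obtain ⟨d', e', hdS', heS', hde', had', hae', hbd', hbe', hcd', hce'⟩ :=
    exists_two_others hS' haS' hbS' hcS' hab hac hbc
  -- the inverting elements
  have ht : swap a b * swap d e ∈ altOn S := swap_mul_swap_mem_altOn haS hbS hdS heS hab hde
  have ht' : swap a b * swap d' e' ∈ altOn S' :=
    swap_mul_swap_mem_altOn haS' hbS' hdS' heS' hab hde'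
  obtain ⟨t, htk, hσt⟩ := exists_lift h S (by omega) ht
  obtain ⟨t', htk', hσt'⟩ := exists_lift h S' (by omega) ht'
  have e1 : t * y * t⁻¹ = y⁻¹ := by
    apply lift_unique (hk S hS) ((kk σ S).mul_mem ((kk σ S).mul_mem htk hy) ((kk σ S).inv_mem htk))
      ((kk σ S).inv_mem hy)
    rw [map_mul, map_mul, map_inv, map_inv, hσt, hσy]
    exact inv_conj_three had hae hbd hbe hcd hce
  have e2 : t' * y' * t'⁻¹ = y'⁻¹ := by
    apply lift_unique (hk S' hS')
      ((kk σ S').mul_mem ((kk σ S').mul_mem htk' hy') ((kk σ S').inv_mem htk'))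
      ((kk σ S').inv_mem hy')
    rw [map_mul, map_mul, map_inv, map_inv, hσt', hσy']
    exact inv_conj_three had' hae' hbd' hbe' hcd' hce'
  -- a 5-set away from a, b, c containing d, e, d', e'
  have hsub : ({d, e, d', e'} : Finset α) ⊆ ((Finset.univ.erase a).erase b).erase c := by
    intro x hx
    simp only [Finset.mem_insert, Finset.mem_singleton] at hx
    simp only [Finset.mem_erase, Finset.mem_univ, and_true]
    rcases hx with rfl | rfl | rfl | rfl
    · exact ⟨hcd.symm, hbd.symm, had.symm⟩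
    · exact ⟨hce.symm, hbe.symm, hae.symm⟩
    · exact ⟨hcd'.symm, hbd'.symm, had'.symm⟩
    · exact ⟨hce'.symm, hbe'.symm, hae'.symm⟩
  have hcard : 5 ≤ ((((Finset.univ : Finset α).erase a).erase b).erase c).card := by
    rw [Finset.card_erase_of_mem, Finset.card_erase_of_mem, Finset.card_erase_of_mem
      (Finset.mem_univ a), Finset.card_univ]
    · omega
    · exact Finset.mem_erase.mpr ⟨hab.symm, Finset.mem_univ b⟩
    · exact Finset.mem_erase.mpr ⟨hbc.symm, Finset.mem_erase.mpr ⟨hac.symm, Finset.mem_univ c⟩⟩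
  obtain ⟨R, hR1, hR2, hR3⟩ := Finset.exists_subsuperset_card_eq hsub
    (le_trans Finset.card_le_four (by norm_num)) hcard
  have hRfix : ∀ r ∈ R, (swap a b * swap b c) r = r := by
    intro r hr
    have := hR2 hr
    simp only [Finset.mem_erase, Finset.mem_univ, and_true] at this
    exact three_fix this.2.2 this.2.1 this.1
  have hxR : t⁻¹ * t' ∈ gam σ R := by
    rw [mem_gam_iff, map_mul, map_inv, hσt, hσt']
    have : (swap a b * swap d e)⁻¹ * (swap a b * swap d' e') = swap d e * swap d' e' := by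
      rw [mul_inv_rev, swap_inv, swap_inv, mul_assoc, swap_mul_self_mul]
    rw [this]
    refine swap_mul_swap_mem_altOn (hR1 ?_) (hR1 ?_) (hR1 ?_) (hR1 ?_) hde hde' <;> simp
  have e3 : t⁻¹ * t' * y = y * (t⁻¹ * t') := by
    apply commute_of_mem_gam h R (by omega) _ hxR
    intro x hx
    rw [hσy]
    exact (commute_of_mem_altOn hx hRfix).eq
  have e4 : t' * y * t'⁻¹ = y⁻¹ := by
    calc t' * y * t'⁻¹ = t * (t⁻¹ * t' * y) * t'⁻¹ := by group
      _ = t * (y * (t⁻¹ * t')) * t'⁻¹ := by rw [e3]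
      _ = t * y * t⁻¹ := by group
      _ = y⁻¹ := e1
  -- the central difference
  set ζ := y⁻¹ * y' with hζ
  have hζk : ζ ∈ σ.ker := by
    rw [MonoidHom.mem_ker, hζ, map_mul, map_inv, hσy, hσy', inv_mul_cancel]
  have hζc : ∀ g : Γ, g * ζ = ζ * g := fun g => Subgroup.mem_center_iff.mp (h.central hζk) g
  have hy'eq : y' = y * ζ := by rw [hζ]; group
  have e5 : y⁻¹ * ζ = y⁻¹ * ζ⁻¹ := by
    calc y⁻¹ * ζ = t' * y * t'⁻¹ * ζ := by rw [e4]
      _ = t' * (y * ζ) * t'⁻¹ := by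
          rw [mul_assoc (t' * y), hζc t'⁻¹]; group
      _ = (y * ζ)⁻¹ := by rw [← hy'eq, e2]
      _ = ζ⁻¹ * y⁻¹ := by group
      _ = y⁻¹ * ζ⁻¹ := by
          have := hζc (y * ζ)⁻¹
          calc ζ⁻¹ * y⁻¹ = ζ⁻¹ * (y⁻¹ * ζ) * ζ⁻¹ := by group
            _ = ζ⁻¹ * (ζ * y⁻¹) * ζ⁻¹ := by rw [hζc y⁻¹]
            _ = y⁻¹ * ζ⁻¹ := by group
  have hζ2 : ζ ^ 2 = 1 := by
    have : ζ = ζ⁻¹ := mul_left_cancel e5
    rw [pow_two]
    nth_rewrite 1 [this]
    exact inv_mul_cancel ζ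
  have hy3 : y ^ 3 = 1 := by
    apply eq_one_of_mem_kk (hk S hS) ((kk σ S).pow_mem hy 3)
    rw [map_pow, hσy]
    exact swap_cube hab hac hbc
  have hy'3 : y' ^ 3 = 1 := by
    apply eq_one_of_mem_kk (hk S' hS') ((kk σ S').pow_mem hy' 3)
    rw [map_pow, hσy']
    exact swap_cube hab hac hbc
  have hζ3 : ζ ^ 3 = 1 := by
    have hc : Commute y ζ := hζc y
    have := hy'3
    rw [hy'eq, hc.mul_pow, hy3, one_mul] at this
    exact this
  have hζ1 : ζ = 1 := by
    calc ζ = ζ ^ 3 * (ζ ^ 2)⁻¹ := by group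
      _ = 1 := by rw [hζ3, hζ2]; simp
  rw [hy'eq, hζ1, mul_one]

/-- `y` lies in every local complement over a 5-set containing `T` -/
def GoodOn (σ : Γ →* Perm α) (T : Finset α) (y : Γ) : Prop :=
  ∀ S : Finset α, S.card = 5 → T ⊆ S → y ∈ kk σ S

theorem GoodOn.mono {σ : Γ →* Perm α} {T T' : Finset α} {y : Γ} (h : GoodOn σ T y)
    (hT : T ⊆ T') : GoodOn σ T' y :=
  fun S hS hTS => h S hS (hT.trans hTS)

theorem GoodOn.one {σ : Γ →* Perm α} {T : Finset α} : GoodOn σ T (1 : Γ) :=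
  fun S _ _ => (kk σ S).one_mem

theorem GoodOn.mul {σ : Γ →* Perm α} {T : Finset α} {y y' : Γ} (h : GoodOn σ T y)
    (h' : GoodOn σ T y') : GoodOn σ T (y * y') :=
  fun S hS hTS => (kk σ S).mul_mem (h S hS hTS) (h' S hS hTS)

theorem GoodOn.inv {σ : Γ →* Perm α} {T : Finset α} {y : Γ} (h : GoodOn σ T y) :
    GoodOn σ T y⁻¹ :=
  fun S hS hTS => (kk σ S).inv_mem (h S hS hTS)

theorem GoodOn.pow {σ : Γ →* Perm α} {T : Finset α} {y : Γ} (h : GoodOn σ T y) (k : ℕ) :
    GoodOn σ T (y ^ k) :=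
  fun S hS hTS => (kk σ S).pow_mem (h S hS hTS) k

theorem GoodOn.eq_one {σ : Γ →* Perm α} (hk : LocSplit σ) (h5 : 5 ≤ Fintype.card α)
    {T : Finset α} (hT : T.card ≤ 5) {y : Γ} (h : GoodOn σ T y) (h1 : σ y = 1) : y = 1 := by
  obtain ⟨S, hS1, _, hS3⟩ := Finset.exists_subsuperset_card_eq (Finset.subset_univ T) hT
    (by rw [Finset.card_univ]; exact h5)
  exact eq_one_of_mem_kk (hk S hS3) (h S hS3 hS1) h1

theorem GoodOn.conj {σ : Γ →* Perm α} {T : Finset α} {y : Γ} (h : GoodOn σ T y) (u : Γ) :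
    GoodOn σ (T.map (σ u).toEmbedding) (u * y * u⁻¹) := by
  intro S hS hTS
  have h1 : T ⊆ S.map (σ u⁻¹).toEmbedding := by
    intro t ht
    rw [Finset.mem_map_equiv, map_inv]
    apply hTS
    rw [Finset.mem_map_equiv]
    show (σ u).symm ((σ u)⁻¹.symm t) ∈ T
    have : (σ u).symm ((σ u)⁻¹.symm t) = t := by
      show (σ u)⁻¹ (((σ u)⁻¹)⁻¹ t) = t
      simp
    rwa [this]
  have h2 := h (S.map (σ u⁻¹).toEmbedding) (by rw [Finset.card_map]; exact hS) h1
  have h3 := conj_mem_kk (S.map (σ u⁻¹).toEmbedding) u h2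
  have h4 : (S.map (σ u⁻¹).toEmbedding).map (σ u).toEmbedding = S := by
    ext x
    rw [Finset.mem_map_equiv, Finset.mem_map_equiv, map_inv]
    have : (σ u)⁻¹.symm ((σ u).symm x) = x := by
      show ((σ u)⁻¹)⁻¹ ((σ u)⁻¹ x) = x
      simp
    rw [this]
  rwa [h4] at h3

/-- good lifts of 3-cycles -/
theorem exists_good_three {σ : Γ →* Perm α} (h : CentExt σ) (hk : LocSplit σ)
    (hn : 8 ≤ Fintype.card α) {a b c : α} (hab : a ≠ b) (hac : a ≠ c) (hbc : b ≠ c) :
    ∃ y : Γ, σ y = swap a b * swap b c ∧ GoodOn σ {a, b, c} y := by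
  obtain ⟨S, hS1, _, hS3⟩ := Finset.exists_subsuperset_card_eq
    (Finset.subset_univ ({a, b, c} : Finset α)) (le_trans Finset.card_le_three (by norm_num))
    (by rw [Finset.card_univ]; omega : 5 ≤ (Finset.univ : Finset α).card)
  have haS : a ∈ S := hS1 (by simp)
  have hbS : b ∈ S := hS1 (by simp)
  have hcS : c ∈ S := hS1 (by simp)
  obtain ⟨y, hy, hσy⟩ := exists_lift h S (by omega)
    (swap_mul_swap_mem_altOn haS hbS hbS hcS hab hbc)
  refine ⟨y, hσy, ?_⟩
  intro S' hS' hTS'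
  have haS' : a ∈ S' := hTS' (by simp)
  have hbS' : b ∈ S' := hTS' (by simp)
  have hcS' : c ∈ S' := hTS' (by simp)
  obtain ⟨y', hy', hσy'⟩ := exists_lift h S' (by omega)
    (swap_mul_swap_mem_altOn haS' hbS' hbS' hcS' hab hbc)
  have := three_compat h hk hn hab hac hbc hS3 hS' haS hbS hcS haS' hbS' hcS' hy hy' hσy hσy'
  rw [this]
  exact hy'

/-- good lifts of double transpositions -/
theorem exists_good_double {σ : Γ →* Perm α} (h : CentExt σ) (hk : LocSplit σ)
    (hn : 8 ≤ Fintype.card α) {a b c d : α} (hab : a ≠ b) (hac : a ≠ c) (hbc : b ≠ c)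
    (hbd : b ≠ d) (hcd : c ≠ d) :
    ∃ y : Γ, σ y = swap a b * swap c d ∧ GoodOn σ {a, b, c, d} y := by
  obtain ⟨y₁, h1, g1⟩ := exists_good_three h hk hn hab hac hbc
  obtain ⟨y₂, h2, g2⟩ := exists_good_three h hk hn hbc hbd hcd
  refine ⟨y₁ * y₂, ?_, ?_⟩
  · rw [map_mul, h1, h2, mul_assoc, swap_mul_self_mul]
  · apply GoodOn.mul
    · apply g1.mono
      intro x hx
      simp only [Finset.mem_insert, Finset.mem_singleton] at hx ⊢
      tauto
    · apply g2.mono
      intro x hx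
      simp only [Finset.mem_insert, Finset.mem_singleton] at hx ⊢
      tauto

end Cfsg.Agent.Helper6.AltStem
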