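import Mathlib
import Cfsg.Agent.Helper6.AltStemC
import Cfsg.Agent.Helper5.CarmichaelB

/-!
# Central extensions of the alternating group: splitting via Carmichael's presentation
-/

set_option autoImplicit false
set_option linter.style.haveILetI false
set_option linter.unusedSectionVars false

namespace Cfsg.Agent.Helper6.AltStem

open Equiv
open Cfsg.Agent.Helper5.Carmichael
open scoped commutatorElement

variable {α : Type*} [DecidableEq α] [Fintype α] {Γ : Type*} [Group Γ]

/-- the support of the `i`-th Carmichael generator -/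
def tset (p : ℕ → α) (i : ℕ) : Finset α := {p 0, p 1, p (i + 1), p (i + 2)}

theorem card_tset_le (p : ℕ → α) (i : ℕ) : (tset p i).card ≤ 5 :=
  le_trans Finset.card_le_four (by norm_num)

theorem exists_good_yy {σ : Γ →* Perm α} (h : CentExt σ) (hk : LocSplit σ)
    (hn : 8 ≤ Fintype.card α) {p : ℕ → α} {N : ℕ}
    (hp : ∀ a b, a < N → b < N → a ≠ b → p a ≠ p b) {i : ℕ} (hi : i + 2 < N) :
    ∃ y : Γ, σ y = yy p i ∧ GoodOn σ (tset p i) y := by
  rcases Nat.eq_zero_or_pos i with rfl | h1
  · obtain ⟨y, hy1, hy2⟩ := exists_good_three h hk hn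
      (hp 0 1 (by omega) (by omega) (by omega)) (hp 0 2 (by omega) (by omega) (by omega))
      (hp 1 2 (by omega) (by omega) (by omega))
    refine ⟨y, by rw [yy_zero]; exact hy1, hy2.mono ?_⟩
    intro x hx
    unfold tset
    simp only [Finset.mem_insert, Finset.mem_singleton] at hx ⊢
    rcases hx with rfl | rfl | rfl
    · exact Or.inl rfl
    · exact Or.inr (Or.inl rfl)
    · exact Or.inr (Or.inr (Or.inr rfl))
  · obtain ⟨y, hy1, hy2⟩ := exists_good_double h hk hn
      (hp 0 1 (by omega) (by omega) (by omega)) (hp 0 (i + 1) (by omega) (by omega) (by omega))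
      (hp 1 (i + 1) (by omega) (by omega) (by omega))
      (hp 1 (i + 2) (by omega) (by omega) (by omega))
      (hp (i + 1) (i + 2) (by omega) (by omega) (by omega))
    exact ⟨y, by rw [yy_pos p h1]; exact hy1, hy2⟩

theorem tset_map_subset {p : ℕ → α} {m : ℕ}
    (hp : ∀ a b, a < m + 2 → b < m + 2 → a ≠ b → p a ≠ p b) {i k : ℕ} (h1 : 1 ≤ i)
    (hik : i + 1 < k) (hk : k < m) :
    (tset p k).map (yy p i).toEmbedding ⊆ tset p k := by
  intro x hx
  rw [Finset.mem_map] at hx
  obtain ⟨t, ht, rfl⟩ := hx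
  unfold tset at ht ⊢
  simp only [Finset.mem_insert, Finset.mem_singleton] at ht ⊢
  show yy p i t = _ ∨ yy p i t = _ ∨ yy p i t = _ ∨ yy p i t = _
  rw [yy_pos p h1, Perm.mul_apply]
  rcases ht with rfl | rfl | rfl | rfl
  · right; left
    rw [swap_apply_of_ne_of_ne (hp _ _ (by omega) (by omega) (by omega))
      (hp _ _ (by omega) (by omega) (by omega)), swap_apply_left]
  · left
    rw [swap_apply_of_ne_of_ne (hp _ _ (by omega) (by omega) (by omega))
      (hp _ _ (by omega) (by omega) (by omega)), swap_apply_right]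
  · right; right; left
    rw [swap_apply_of_ne_of_ne (hp _ _ (by omega) (by omega) (by omega))
      (hp _ _ (by omega) (by omega) (by omega)),
      swap_apply_of_ne_of_ne (hp _ _ (by omega) (by omega) (by omega))
      (hp _ _ (by omega) (by omega) (by omega))]
  · right; right; right
    rw [swap_apply_of_ne_of_ne (hp _ _ (by omega) (by omega) (by omega))
      (hp _ _ (by omega) (by omega) (by omega)),
      swap_apply_of_ne_of_ne (hp _ _ (by omega) (by omega) (by omega))
      (hp _ _ (by omega) (by omega) (by omega))]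

/-- the good lifts satisfy Carmichael's relations -/
theorem rel_lift {σ : Γ →* Perm α} (hk : LocSplit σ) (h5 : 5 ≤ Fintype.card α)
    {p : ℕ → α} {m : ℕ} (hm1 : 1 ≤ m)
    (hp : ∀ a b, a < m + 2 → b < m + 2 → a ≠ b → p a ≠ p b) {x : ℕ → Γ}
    (hx : ∀ i, i < m → σ (x i) = yy p i ∧ GoodOn σ (tset p i) (x i)) : Rel x m := by
  have R : Rel (yy p) m := yy_rel hp hm1 le_rfl
  have H2 : ∀ i, 1 ≤ i → i < m → x i ^ 2 = 1 := by
    intro i h1 hi
    apply GoodOn.eq_one hk h5 (card_tset_le p i) ((hx i hi).2.pow 2)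
    rw [map_pow, (hx i hi).1]
    exact R.h2 i h1 hi
  refine ⟨?_, H2, ?_, ?_⟩
  · have h0 : 0 < m := by omega
    apply GoodOn.eq_one hk h5 (card_tset_le p 0) ((hx 0 h0).2.pow 3)
    rw [map_pow, (hx 0 h0).1]
    exact R.h3
  · intro i hi
    have hi' : i < m := by omega
    have hU : ({p 0, p 1, p (i + 1), p (i + 2), p (i + 3)} : Finset α).card ≤ 5 :=
      Finset.card_le_five
    have s1 : tset p i ⊆ ({p 0, p 1, p (i + 1), p (i + 2), p (i + 3)} : Finset α) := by
      intro t ht
      unfold tset at ht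
      simp only [Finset.mem_insert, Finset.mem_singleton] at ht ⊢
      tauto
    have s2 : tset p (i + 1) ⊆ ({p 0, p 1, p (i + 1), p (i + 2), p (i + 3)} : Finset α) := by
      intro t ht
      unfold tset at ht
      simp only [Finset.mem_insert, Finset.mem_singleton] at ht ⊢
      rcases ht with rfl | rfl | rfl | rfl
      · tauto
      · tauto
      · right; right; right; left; rfl
      · right; right; right; right; rfl
    apply GoodOn.eq_one hk h5 hU ((((hx i hi').2.mono s1).mul ((hx (i + 1) hi).2.mono s2)).pow 3)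
    rw [map_pow, map_mul, (hx i hi').1, (hx (i + 1) hi).1]
    exact R.hb i hi
  · intro i k hik hkm
    have hi' : i < m := by omega
    rcases Nat.eq_zero_or_pos i with rfl | h1
    · have hU : ({p 0, p 1, p 2, p (k + 1), p (k + 2)} : Finset α).card ≤ 5 :=
        Finset.card_le_five
      have s1 : tset p 0 ⊆ ({p 0, p 1, p 2, p (k + 1), p (k + 2)} : Finset α) := by
        intro t ht
        unfold tset at ht
        simp only [Finset.mem_insert, Finset.mem_singleton] at ht ⊢
        rcases ht with rfl | rfl | rfl | rfl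
        · tauto
        · tauto
        · right; left; rfl
        · right; right; left; rfl
      have s2 : tset p k ⊆ ({p 0, p 1, p 2, p (k + 1), p (k + 2)} : Finset α) := by
        intro t ht
        unfold tset at ht
        simp only [Finset.mem_insert, Finset.mem_singleton] at ht ⊢
        tauto
      apply GoodOn.eq_one hk h5 hU ((((hx 0 hi').2.mono s1).mul ((hx k hkm).2.mono s2)).pow 2)
      rw [map_pow, map_mul, (hx 0 hi').1, (hx k hkm).1]
      exact R.hc 0 k hik hkm
    · -- the six point relation, by equivariance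
      have g1 : GoodOn σ (tset p k) (x i * x k * (x i)⁻¹) := by
        have := (hx k hkm).2.conj (x i)
        rw [(hx i hi').1] at this
        exact this.mono (tset_map_subset hp h1 hik hkm)
      have g2 : GoodOn σ (tset p k) (x i * x k * (x i)⁻¹ * (x k)⁻¹) := g1.mul (hx k hkm).2.inv
      have e1 : x i * x k * (x i)⁻¹ * (x k)⁻¹ = 1 := by
        apply GoodOn.eq_one hk h5 (card_tset_le p k) g2
        rw [map_mul, map_mul, map_mul, map_inv, map_inv, (hx i hi').1, (hx k hkm).1,
          R.comm h1 hik hkm]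
        group
      have hc : Commute (x i) (x k) := by
        show x i * x k = x k * x i
        calc x i * x k = (x i * x k * (x i)⁻¹ * (x k)⁻¹) * (x k * x i) := by group
          _ = x k * x i := by rw [e1, one_mul]
      rw [hc.mul_pow, H2 i h1 hi', H2 k (by omega) hkm, one_mul]

theorem comm_central_drop (k₁ k₂ z₁ z₂ : Γ) (h1 : z₁ ∈ Subgroup.center Γ)
    (h2 : z₂ ∈ Subgroup.center Γ) : ⁅k₁ * z₁, k₂ * z₂⁆ = ⁅k₁, k₂⁆ := by
  have c1 : ∀ g : Γ, g * z₁ = z₁ * g := fun g => Subgroup.mem_center_iff.mp h1 g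
  have c2 : ∀ g : Γ, g * z₂ = z₂ * g := fun g => Subgroup.mem_center_iff.mp h2 g
  have e1 : z₁ * (k₂ * z₂) * z₁⁻¹ = k₂ * z₂ := by rw [← c1 (k₂ * z₂)]; group
  have e2 : z₂ * k₁⁻¹ * z₂⁻¹ = k₁⁻¹ := by rw [← c2 k₁⁻¹]; group
  rw [commutatorElement_def, commutatorElement_def]
  calc k₁ * z₁ * (k₂ * z₂) * (k₁ * z₁)⁻¹ * (k₂ * z₂)⁻¹
      = k₁ * (z₁ * (k₂ * z₂) * z₁⁻¹) * k₁⁻¹ * (k₂ * z₂)⁻¹ := by group
    _ = k₁ * (k₂ * z₂) * k₁⁻¹ * (k₂ * z₂)⁻¹ := by rw [e1]
    _ = k₁ * k₂ * (z₂ * k₁⁻¹ * z₂⁻¹) * k₂⁻¹ := by group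
    _ = k₁ * k₂ * k₁⁻¹ * k₂⁻¹ := by rw [e2]

/-- the enumeration of the points -/
noncomputable def enumPt (α : Type*) [Fintype α] [Nonempty α] (i : ℕ) : α :=
  if h : i < Fintype.card α then (Fintype.equivFin α).symm ⟨i, h⟩ else Classical.arbitrary α

theorem enumPt_ne (α : Type*) [Fintype α] [Nonempty α] :
    ∀ a b, a < Fintype.card α → b < Fintype.card α → a ≠ b → enumPt α a ≠ enumPt α b := by
  intro a b ha hb hab h
  unfold enumPt at h
  rw [dif_pos ha, dif_pos hb] at h
  have := (Fintype.equivFin α).symm.injective h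
  exact hab (Fin.mk.inj this)

/-- a central extension of a large alternating group all of whose local complements meet the
kernel trivially: the kernel meets the derived subgroup trivially -/
theorem ker_inf_commutator_eq_bot {σ : Γ →* Perm α} (h : CentExt σ) (hk : LocSplit σ)
    (hn : 8 ≤ Fintype.card α) : σ.ker ⊓ commutator Γ = ⊥ := by
  haveI : Nonempty α := Fintype.card_pos_iff.mp (by omega)
  haveI : Nontrivial α := Fintype.one_lt_card_iff_nontrivial.mp (by omega)
  obtain ⟨m, hm⟩ : ∃ m, m + 2 = Fintype.card α := ⟨Fintype.card α - 2, by omega⟩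
  have hm1 : 1 ≤ m := by omega
  set p : ℕ → α := enumPt α with hpdef
  have hp : ∀ a b, a < m + 2 → b < m + 2 → a ≠ b → p a ≠ p b := by
    rw [hm]; exact enumPt_ne α
  have ex : ∀ i, ∃ y : Γ, i < m → (σ y = yy p i ∧ GoodOn σ (tset p i) y) := by
    intro i
    by_cases hi : i < m
    · obtain ⟨y, h1, h2⟩ := exists_good_yy h hk hn hp (by omega : i + 2 < m + 2)
      exact ⟨y, fun _ => ⟨h1, h2⟩⟩
    · exact ⟨1, fun h => absurd h hi⟩
  choose x hx using ex
  have hrel : Rel x m := rel_lift hk (by omega) hm1 hp hx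
  obtain ⟨hfin, hcard⟩ := card_bound m hm1 hrel
  have hmap : (Hs x m).map σ = Hs (yy p) m := by
    unfold Hs
    rw [MonoidHom.map_closure, Set.image_image]
    congr 1
    apply Set.image_congr
    intro i hi
    exact (hx i hi).1
  have hlow := low_bound hp m hm1 le_rfl
  have hle : Hs (yy p) m ≤ alternatingGroup α := by
    unfold Hs
    rw [Subgroup.closure_le]
    rintro _ ⟨i, hi, rfl⟩
    exact Equiv.Perm.mem_alternatingGroup.mpr (yy_sign hp (by
      have : i < m := hi
      omega))
  have hcardA : 2 * Nat.card (alternatingGroup α) = (m + 2).factorial := by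
    rw [two_mul_nat_card_alternatingGroup, Nat.card_perm, Nat.card_eq_fintype_card, hm]
  have hAeq : Hs (yy p) m = alternatingGroup α := by
    apply Subgroup.eq_of_le_of_card_ge hle
    omega
  -- injectivity on `Hs x m`
  have hsurj : Function.Surjective (σ.subgroupMap (Hs x m)) := σ.subgroupMap_surjective _
  have hbij : Function.Bijective (σ.subgroupMap (Hs x m)) := by
    apply hsurj.bijective_of_nat_card_le
    rw [hmap]
    omega
  have hKker : ∀ k ∈ Hs x m, σ k = 1 → k = 1 := by
    intro k hk1 hk2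
    have : σ.subgroupMap (Hs x m) ⟨k, hk1⟩ = σ.subgroupMap (Hs x m) 1 := by
      apply Subtype.ext
      rw [map_one]
      exact hk2
    have := hbij.1 this
    exact congrArg Subtype.val this
  -- decomposition
  have hdec : ∀ g : Γ, ∃ k ∈ Hs x m, ∃ z ∈ σ.ker, g = k * z := by
    intro g
    have h1 : σ g ∈ (Hs x m).map σ := by
      rw [hmap, hAeq, ← h.range]
      exact ⟨g, rfl⟩
    obtain ⟨k, hk1, hk2⟩ := h1
    refine ⟨k, hk1, k⁻¹ * g, ?_, by group⟩
    rw [MonoidHom.mem_ker, map_mul, map_inv, hk2, inv_mul_cancel]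
  have hcomm : commutator Γ ≤ Hs x m := by
    rw [commutator_def, Subgroup.commutator_le]
    intro g₁ _ g₂ _
    obtain ⟨k₁, hk₁, z₁, hz₁, rfl⟩ := hdec g₁
    obtain ⟨k₂, hk₂, z₂, hz₂, rfl⟩ := hdec g₂
    rw [comm_central_drop k₁ k₂ z₁ z₂ (h.central hz₁) (h.central hz₂), commutatorElement_def]
    exact (Hs x m).mul_mem ((Hs x m).mul_mem ((Hs x m).mul_mem hk₁ hk₂) ((Hs x m).inv_mem hk₁))
      ((Hs x m).inv_mem hk₂)
  rw [eq_bot_iff]
  rintro z ⟨hz1, hz2⟩
  rw [Subgroup.mem_bot]
  exact hKker z (hcomm hz2) (MonoidHom.mem_ker.mp hz1)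

end Cfsg.Agent.Helper6.AltStem
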