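import Mathlib
import Cfsg.Agent.Helper3.StemA
import Cfsg.Agent.Helper3.StemTwoGen

/-!
# Stem extensions of groups of order 12 and 60 have kernel of order at most 2
-/

set_option autoImplicit false
set_option linter.style.haveILetI false
set_option linter.unusedSectionVars false

namespace Cfsg.Agent.Helper6.AltStem

open scoped commutatorElement

/-- a central extension of a group of order `4`: the derived subgroup is generated by an element
of order at most `2` -/
theorem klein_comm {Γ₁ V : Type*} [Group Γ₁] [Group V] (τ : Γ₁ →* V)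
    (hτ : Function.Surjective τ) (hc : τ.ker ≤ Subgroup.center Γ₁) (hV : Nat.card V = 4) :
    ∃ κ : Γ₁, κ ^ 2 = 1 ∧ commutator Γ₁ ≤ Subgroup.zpowers κ := by
  haveI : Finite V := Nat.finite_of_card_ne_zero (by omega)
  have hcommV : ∀ a b : V, a * b = b * a :=
    (IsPGroup.isMulCommutative_of_card_eq_prime_sq (p := 2) (G := V)
      (by rw [hV]; norm_num)).is_comm.comm
  obtain ⟨a, ha⟩ := exists_prime_orderOf_dvd_card' (G := V) 2 (by rw [hV]; norm_num)
  have hza : Nat.card (Subgroup.zpowers a) = 2 := by rw [Nat.card_zpowers, ha]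
  obtain ⟨b, hb⟩ : ∃ b : V, b ∉ Subgroup.zpowers a := by
    by_contra hcon
    push Not at hcon
    have : Subgroup.zpowers a = ⊤ := by
      rw [eq_top_iff]; intro x _; exact hcon x
    rw [this, Subgroup.card_top, hV] at hza
    omega
  have hcl : Subgroup.closure ({a, b} : Set V) = ⊤ := by
    set H := Subgroup.closure ({a, b} : Set V) with hH
    have haH : a ∈ H := Subgroup.subset_closure (by simp)
    have hbH : b ∈ H := Subgroup.subset_closure (by simp)
    have h1 : Nat.card H ∣ 4 := by rw [← hV]; exact Subgroup.card_subgroup_dvd_card H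
    have h2 : 2 ∣ Nat.card H := by rw [← ha]; exact Subgroup.orderOf_dvd_natCard H haH
    have h3 : Nat.card H ≠ 2 := by
      intro h
      have hle : Subgroup.zpowers a ≤ H := by
        rw [Subgroup.zpowers_le]; exact haH
      have := Subgroup.eq_of_le_of_card_ge hle (by rw [h, hza])
      exact hb (this ▸ hbH)
    have h4 : Nat.card H = 4 := by
      have h5 : Nat.card H ≤ 4 := Nat.le_of_dvd (by norm_num) h1
      have h6 : 0 < Nat.card H := Nat.card_pos
      interval_cases (Nat.card H) <;> omega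
    rw [← Subgroup.card_eq_iff_eq_top, h4, hV]
  obtain ⟨a', ha'⟩ := hτ a
  obtain ⟨b', hb'⟩ := hτ b
  set κ := ⁅a', b'⁆ with hκ
  have hκk : κ ∈ τ.ker := by
    rw [MonoidHom.mem_ker, hκ, map_commutatorElement, commutatorElement_eq_one_iff_mul_comm]
    exact hcommV _ _
  have hκc : ∀ g : Γ₁, g * κ = κ * g := fun g => Subgroup.mem_center_iff.mp (hc hκk) g
  have haa : a' * a' ∈ τ.ker := by
    rw [MonoidHom.mem_ker, map_mul, ha', ← pow_two, ← ha, pow_orderOf_eq_one]
  have haac : ∀ g : Γ₁, g * (a' * a') = (a' * a') * g :=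
    fun g => Subgroup.mem_center_iff.mp (hc haa) g
  have hκ2 : κ ^ 2 = 1 := by
    have e1 : ⁅a' * a', b'⁆ = 1 := by
      rw [commutatorElement_eq_one_iff_mul_comm]
      exact (haac b').symm
    have e2 : ⁅a' * a', b'⁆ = a' * ⁅a', b'⁆ * a'⁻¹ * ⁅a', b'⁆ := by
      simp only [commutatorElement_def]; group
    rw [e1, ← hκ, hκc a'] at e2
    rw [pow_two]
    calc κ * κ = κ * a' * a'⁻¹ * κ := by group
      _ = 1 := e2.symm
  refine ⟨κ, hκ2, ?_⟩
  have hCc : ∀ n ∈ Subgroup.zpowers κ, ∀ g : Γ₁, g * n = n * g := by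
    intro n hn g
    obtain ⟨k, rfl⟩ := Subgroup.mem_zpowers_iff.mp hn
    exact Subgroup.mem_center_iff.mp ((Subgroup.center Γ₁).zpow_mem (hc hκk) k) g
  haveI : (Subgroup.zpowers κ).Normal := by
    constructor
    intro n hn g
    have : g * n * g⁻¹ = n := by rw [hCc n hn g]; group
    rw [this]; exact hn
  set S : Set Γ₁ := {a', b'} ∪ (τ.ker : Set Γ₁) with hS
  have hS1 : Subgroup.closure S = ⊤ := by
    have h1 : (Subgroup.closure S).map τ = ⊤ := by
      rw [MonoidHom.map_closure, eq_top_iff, ← hcl]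
      apply Subgroup.closure_mono
      intro x hx
      simp only [Set.mem_insert_iff, Set.mem_singleton_iff] at hx
      rcases hx with rfl | rfl
      · exact ⟨a', Or.inl (by simp), ha'⟩
      · exact ⟨b', Or.inl (by simp), hb'⟩
    have h2 : τ.ker ≤ Subgroup.closure S := by
      intro x hx
      exact Subgroup.subset_closure (Or.inr hx)
    rw [← Subgroup.comap_map_eq_self h2, h1, Subgroup.comap_top]
  apply Cfsg.Agent.Helper3.commutator_le_of_generators (Subgroup.zpowers κ) S hS1
  intro s hs t ht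
  rcases hs with hs | hs
  · rcases ht with ht | ht
    · simp only [Set.mem_insert_iff, Set.mem_singleton_iff] at hs ht
      rcases hs with rfl | rfl <;> rcases ht with rfl | rfl
      · rw [commutatorElement_self]; exact Subgroup.one_mem _
      · exact Subgroup.mem_zpowers κ
      · rw [← commutatorElement_inv]
        exact Subgroup.inv_mem _ (Subgroup.mem_zpowers κ)
      · rw [commutatorElement_self]; exact Subgroup.one_mem _
    · have : ⁅s, t⁆ = 1 := by
        rw [commutatorElement_eq_one_iff_mul_comm]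
        exact Subgroup.mem_center_iff.mp (hc ht) s
      rw [this]; exact Subgroup.one_mem _
  · have : ⁅s, t⁆ = 1 := by
      rw [commutatorElement_eq_one_iff_mul_comm]
      exact (Subgroup.mem_center_iff.mp (hc hs) t).symm
    rw [this]; exact Subgroup.one_mem _

/-- the kernel of a stem extension of a group of order `12` or `60` has order at most `2` -/
theorem card_ker_le_two_of_card {Γ Q : Type*} [Group Γ] [Finite Γ] [Group Q] (σ : Γ →* Q)
    (hs : Function.Surjective σ) (hc : σ.ker ≤ Subgroup.center Γ) (hd : σ.ker ≤ commutator Γ)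
    (hQ : Nat.card Q = 12 ∨ Nat.card Q = 60) : Nat.card σ.ker ≤ 2 := by
  haveI : Finite Q := Nat.finite_of_card_ne_zero (by omega)
  have hσ : Cfsg.IsStemExtension σ := ⟨hs, hc, hd⟩
  have T1 : ∀ x : Q, ∀ z ∈ σ.ker, z ^ (Subgroup.zpowers x).index = 1 := by
    intro x z hz
    exact Cfsg.Agent.Helper3.Stem.pow_index_eq_one_of_good σ hσ _
      (Cfsg.Agent.Helper3.Stem.good_of_isCyclic σ hc hs (Subgroup.zpowers x)) z hz
  have hidx : ∀ x : Q, orderOf x * (Subgroup.zpowers x).index = Nat.card Q := by
    intro x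
    rw [← Nat.card_zpowers]
    exact Subgroup.card_mul_index _
  -- fourth powers vanish
  have h4 : ∀ z ∈ σ.ker, z ^ 4 = 1 := by
    intro z hz
    rcases hQ with hQ | hQ
    · obtain ⟨x, hx⟩ := exists_prime_orderOf_dvd_card' (G := Q) 3 (by rw [hQ]; norm_num)
      have h1 := hidx x
      rw [hx, hQ] at h1
      have h2 : (Subgroup.zpowers x).index = 4 := by omega
      have := T1 x z hz
      rwa [h2] at this
    · haveI : Fact (Nat.Prime 5) := ⟨by norm_num⟩
      obtain ⟨x, hx⟩ := exists_prime_orderOf_dvd_card' (G := Q) 3 (by rw [hQ]; norm_num)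
      obtain ⟨y, hy⟩ := exists_prime_orderOf_dvd_card' (G := Q) 5 (by rw [hQ]; norm_num)
      have h1 := hidx x
      rw [hx, hQ] at h1
      have h2 : (Subgroup.zpowers x).index = 20 := by omega
      have h1' := hidx y
      rw [hy, hQ] at h1'
      have h2' : (Subgroup.zpowers y).index = 12 := by omega
      have e1 := T1 x z hz
      have e2 := T1 y z hz
      rw [h2] at e1
      rw [h2'] at e2
      calc z ^ 4 = (z ^ 20) ^ 2 * ((z ^ 12) ^ 3)⁻¹ := by group
        _ = 1 := by rw [e1, e2]; simp
  -- the Sylow 2-subgroup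
  obtain ⟨V, hV⟩ := Sylow.exists_subgroup_card_pow_prime (G := Q) 2 (n := 2)
    (by rcases hQ with hQ | hQ <;> rw [hQ] <;> norm_num)
  have hV4 : Nat.card V = 4 := by rw [hV]; norm_num
  set A := V.comap σ with hA
  have hτs : Function.Surjective (σ.subgroupComap V) :=
    σ.subgroupComap_surjective_of_surjective V hs
  have hτc : (σ.subgroupComap V).ker ≤ Subgroup.center A := by
    intro a ha
    rw [MonoidHom.mem_ker] at ha
    have h1 : σ (a : Γ) = 1 := by
      have := congrArg Subtype.val ha
      exact this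
    have h2 : (a : Γ) ∈ Subgroup.center Γ := hc (MonoidHom.mem_ker.mpr h1)
    rw [Subgroup.mem_center_iff]
    intro g
    apply Subtype.ext
    rw [Subgroup.coe_mul, Subgroup.coe_mul]
    exact Subgroup.mem_center_iff.mp h2 g
  obtain ⟨κ, hκ2, hκ⟩ := klein_comm (σ.subgroupComap V) hτs hτc hV4
  have hAidx : A.index * 4 = Nat.card Q := by
    rw [hA, Subgroup.index_comap_of_surjective V hs, ← hV4, mul_comm]
    exact Subgroup.card_mul_index V
  have hκ2' : (κ : Γ) ^ 2 = 1 := by
    have := congrArg Subtype.val hκ2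
    simpa using this
  have key : ∀ z ∈ σ.ker, z ∈ Subgroup.zpowers (κ : Γ) := by
    intro z hz
    obtain ⟨hmem, hcomm⟩ :=
      Cfsg.Agent.Helper3.Stem.pow_index_mem_commutator A z (hc hz) (hd hz)
    obtain ⟨k, hk⟩ := Subgroup.mem_zpowers_iff.mp (hκ hcomm)
    have hk' : (κ : Γ) ^ k = z ^ A.index := by
      have := congrArg Subtype.val hk
      simpa using this
    have hsq : (z ^ A.index) ^ 2 = 1 := by
      rw [← hk', ← zpow_natCast, ← zpow_mul, mul_comm, zpow_mul, zpow_natCast, hκ2', one_zpow]
    have hz4 := h4 z hz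
    have hzr : z ^ A.index = z := by
      rcases hQ with hQ | hQ
      · have h3 : A.index = 3 := by omega
        rw [h3] at hsq ⊢
        have hz2 : z ^ 2 = 1 := by
          calc z ^ 2 = (z ^ 3) ^ 2 * (z ^ 4)⁻¹ := by group
            _ = 1 := by rw [hsq, hz4]; simp
        calc z ^ 3 = z * z ^ 2 := by group
          _ = z := by rw [hz2, mul_one]
      · have h3 : A.index = 15 := by omega
        rw [h3] at hsq ⊢
        have hz2 : z ^ 2 = 1 := by
          calc z ^ 2 = (z ^ 15) ^ 2 * ((z ^ 4) ^ 7)⁻¹ := by group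
            _ = 1 := by rw [hsq, hz4]; simp
        calc z ^ 15 = z * (z ^ 2) ^ 7 := by group
          _ = z := by rw [hz2, one_pow, mul_one]
    rw [← hzr, ← hk']
    exact Subgroup.zpow_mem _ (Subgroup.mem_zpowers _) k
  have hle : σ.ker ≤ Subgroup.zpowers (κ : Γ) := key
  calc Nat.card σ.ker ≤ Nat.card (Subgroup.zpowers (κ : Γ)) := Subgroup.card_le_of_le hle
    _ = orderOf (κ : Γ) := Nat.card_zpowers _
    _ ≤ 2 := orderOf_le_of_pow_eq_one (by norm_num) hκ2'

end Cfsg.Agent.Helper6.AltStem
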