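import Mathlib
import Cfsg.Agent.Helper6.AltStemD
import Cfsg.Agent.Helper6.AltStemE

/-!
# Central extensions of the alternating group: the kernel has order at most 2
-/

set_option autoImplicit false
set_option linter.style.haveILetI false
set_option linter.unusedSectionVars false

namespace Cfsg.Agent.Helper6.AltStem

open Equiv
open scoped commutatorElement

variable {α : Type*} [DecidableEq α] [Fintype α] {Γ : Type*} [Group Γ]

theorem kk_perfect {σ : Γ →* Perm α} (h : CentExt σ) (S : Finset α) (hS : 5 ≤ S.card) :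
    ⁅kk σ S, kk σ S⁆ = kk σ S := by
  apply le_antisymm
  · rw [Subgroup.commutator_le]
    intro a ha b hb
    exact (kk σ S).mul_mem ((kk σ S).mul_mem ((kk σ S).mul_mem ha hb) ((kk σ S).inv_mem ha))
      ((kk σ S).inv_mem hb)
  · have : ⁅gam σ S, gam σ S⁆ ≤ ⁅kk σ S, kk σ S⁆ := by
      rw [Subgroup.commutator_le]
      intro u₁ hu₁ u₂ hu₂
      obtain ⟨k₁, hk₁, z₁, hz₁, rfl⟩ := gam_decomp h S hS hu₁
      obtain ⟨k₂, hk₂, z₂, hz₂, rfl⟩ := gam_decomp h S hS hu₂
      rw [comm_central_drop k₁ k₂ z₁ z₂ (h.central hz₁) (h.central hz₂)]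
      exact Subgroup.commutator_mem_commutator hk₁ hk₂
    exact this

/-- the intersection of a local complement with the kernel has order at most `2` -/
theorem card_kk_inf_ker_le_two [Finite Γ] {σ : Γ →* Perm α} (h : CentExt σ) (S : Finset α)
    (hS : S.card = 5) : Nat.card (kk σ S ⊓ σ.ker : Subgroup Γ) ≤ 2 := by
  set K := kk σ S with hK
  let τ : K →* altOn S := (σ.comp K.subtype).codRestrict (altOn S)
    (fun k => kk_le_gam σ S k.2)
  have hτ : ∀ k : K, ((τ k : altOn S) : Perm α) = σ (k : Γ) := fun k => rfl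
  have hτs : Function.Surjective τ := by
    rintro ⟨x, hx⟩
    obtain ⟨y, hy, hσy⟩ := exists_lift h S (by omega) hx
    exact ⟨⟨y, hy⟩, Subtype.ext hσy⟩
  have hker : ∀ a : K, a ∈ τ.ker → σ (a : Γ) = 1 := by
    intro a ha
    rw [MonoidHom.mem_ker] at ha
    have := congrArg Subtype.val ha
    exact this
  have hτc : τ.ker ≤ Subgroup.center K := by
    intro a ha
    have h2 : (a : Γ) ∈ Subgroup.center Γ := h.central (MonoidHom.mem_ker.mpr (hker a ha))
    rw [Subgroup.mem_center_iff]
    intro g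
    apply Subtype.ext
    rw [Subgroup.coe_mul, Subgroup.coe_mul]
    exact Subgroup.mem_center_iff.mp h2 g
  have hperf : commutator K = ⊤ := by
    rw [← Group.isPerfect_def, Subgroup.isPerfect_iff]
    exact kk_perfect h S (by omega)
  have hτd : τ.ker ≤ commutator K := by rw [hperf]; exact le_top
  have h60 : Nat.card (altOn S) = 60 := by
    have := card_altOn (S := S) (by omega)
    rw [hS] at this
    have h5 : Nat.factorial 5 = 120 := by decide
    omega
  have h1 := card_ker_le_two_of_card τ hτs hτc hτd (Or.inr h60)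
  have hinj : Function.Injective
      (fun w : (K ⊓ σ.ker : Subgroup Γ) => (⟨⟨w.1, w.2.1⟩, by
        rw [MonoidHom.mem_ker]
        apply Subtype.ext
        exact MonoidHom.mem_ker.mp w.2.2⟩ : τ.ker)) := by
    intro w w' hww
    have := congrArg (fun t : τ.ker => ((t : K) : Γ)) hww
    exact Subtype.ext this
  exact le_trans (Nat.card_le_card_of_injective _ hinj) h1

/-- the main theorem for large degree -/
theorem card_ker_le_two_of_large [Finite Γ] {σ : Γ →* Perm α} (h : CentExt σ)
    (hd : σ.ker ≤ commutator Γ) (hn : 8 ≤ Fintype.card α) : Nat.card σ.ker ≤ 2 := by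
  obtain ⟨S₀, -, -, hS₀⟩ := Finset.exists_subsuperset_card_eq
    (Finset.empty_subset (Finset.univ : Finset α)) (by simp : (∅ : Finset α).card ≤ 5)
    (by rw [Finset.card_univ]; omega)
  set W : Subgroup Γ := kk σ S₀ ⊓ σ.ker with hW
  have hWc : W ≤ Subgroup.center Γ := inf_le_right.trans h.central
  haveI : W.Normal := by
    constructor
    intro n hn g
    have : g * n * g⁻¹ = n := by
      rw [Subgroup.mem_center_iff.mp (hWc hn) g]; group
    rw [this]; exact hn
  have hWcard : Nat.card W ≤ 2 := card_kk_inf_ker_le_two h S₀ hS₀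
  have hWk : W ≤ σ.ker := inf_le_right
  set σ' : Γ ⧸ W →* Perm α := QuotientGroup.lift W σ hWk with hσ'
  have hmk : ∀ g : Γ, σ' (QuotientGroup.mk g) = σ g := fun g => rfl
  have hbar : CentExt σ' := by
    constructor
    · intro q hq
      obtain ⟨g, rfl⟩ := QuotientGroup.mk_surjective q
      rw [MonoidHom.mem_ker, hmk] at hq
      have hg : g ∈ Subgroup.center Γ := h.central (MonoidHom.mem_ker.mpr hq)
      rw [Subgroup.mem_center_iff]
      intro q'
      obtain ⟨g', rfl⟩ := QuotientGroup.mk_surjective q'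
      rw [← QuotientGroup.mk_mul, ← QuotientGroup.mk_mul, Subgroup.mem_center_iff.mp hg g']
    · rw [← h.range]
      ext x
      constructor
      · rintro ⟨q, rfl⟩
        obtain ⟨g, rfl⟩ := QuotientGroup.mk_surjective q
        exact ⟨g, (hmk g).symm⟩
      · rintro ⟨g, rfl⟩
        exact ⟨QuotientGroup.mk g, hmk g⟩
  -- the local complements of the quotient
  have hkk : ∀ S : Finset α, kk σ' S ≤ (kk σ S).map (QuotientGroup.mk' W) := by
    intro S
    have h1 : gam σ' S ≤ (gam σ S).map (QuotientGroup.mk' W) := by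
      intro q hq
      obtain ⟨g, rfl⟩ := QuotientGroup.mk_surjective q
      rw [mem_gam_iff, hmk] at hq
      exact ⟨g, mem_gam_iff.mpr hq, rfl⟩
    unfold kk
    rw [Subgroup.map_commutator]
    exact Subgroup.commutator_mono h1 h1
  have hloc0 : kk σ' S₀ ⊓ σ'.ker = ⊥ := by
    rw [eq_bot_iff]
    rintro q ⟨hq1, hq2⟩
    obtain ⟨k, hk, rfl⟩ := hkk S₀ hq1
    rw [Subgroup.mem_bot]
    have hq2' : σ' (QuotientGroup.mk' W k) = 1 := MonoidHom.mem_ker.mp hq2
    rw [QuotientGroup.mk'_apply, hmk] at hq2'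
    rw [QuotientGroup.mk'_apply, QuotientGroup.eq_one_iff]
    exact ⟨hk, MonoidHom.mem_ker.mpr hq2'⟩
  have hloc : LocSplit σ' := by
    intro S hS
    obtain ⟨g, hg1, hg2⟩ := exists_even_map S S₀ (by rw [hS, hS₀]) (by rw [hS₀]; omega)
    have hgr : g ∈ σ'.range := by
      rw [hbar.range]
      exact Equiv.Perm.mem_alternatingGroup.mpr hg1
    obtain ⟨u, rfl⟩ := hgr
    rw [eq_bot_iff]
    rintro q ⟨hq1, hq2⟩
    rw [Subgroup.mem_bot]
    have h1 := conj_mem_kk S u hq1
    rw [hg2] at h1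
    have h2 : u * q * u⁻¹ ∈ σ'.ker := by
      have hq2' : σ' q = 1 := MonoidHom.mem_ker.mp hq2
      rw [MonoidHom.mem_ker, map_mul, map_mul, hq2', map_inv]
      group
    have h3 : u * q * u⁻¹ ∈ kk σ' S₀ ⊓ σ'.ker := ⟨h1, h2⟩
    rw [hloc0, Subgroup.mem_bot] at h3
    calc q = u⁻¹ * (u * q * u⁻¹) * u := by group
      _ = 1 := by rw [h3]; group
  have hmain := ker_inf_commutator_eq_bot hbar hloc hn
  have hle : σ.ker ≤ W := by
    intro z hz
    have h1 : (QuotientGroup.mk z : Γ ⧸ W) ∈ σ'.ker := by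
      rw [MonoidHom.mem_ker, hmk]; exact MonoidHom.mem_ker.mp hz
    have h2 : (QuotientGroup.mk z : Γ ⧸ W) ∈ commutator (Γ ⧸ W) := by
      have hz' := hd hz
      rw [commutator_def] at hz' ⊢
      have h3 : Subgroup.map (QuotientGroup.mk' W) ⁅(⊤ : Subgroup Γ), (⊤ : Subgroup Γ)⁆
          ≤ ⁅(⊤ : Subgroup (Γ ⧸ W)), (⊤ : Subgroup (Γ ⧸ W))⁆ := by
        rw [Subgroup.map_commutator]
        exact Subgroup.commutator_mono le_top le_top
      exact h3 ⟨z, hz', rfl⟩
    have h3 : (QuotientGroup.mk z : Γ ⧸ W) ∈ σ'.ker ⊓ commutator (Γ ⧸ W) := ⟨h1, h2⟩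
    rw [hmain, Subgroup.mem_bot, QuotientGroup.eq_one_iff] at h3
    exact h3
  exact le_trans (Subgroup.card_le_of_le hle) hWcard

/-- a stem extension of `A_n` (`n ≥ 4`, `n ≠ 6, 7`) has kernel of order at most `2` -/
theorem alt_stem_card_le_two (n : ℕ) (hn : 4 ≤ n) (h6 : n ≠ 6) (h7 : n ≠ 7) {Γ : Type*}
    [Group Γ] [Finite Γ] (Z : Subgroup Γ) [Z.Normal] (hZc : Z ≤ Subgroup.center Γ)
    (hZd : Z ≤ commutator Γ) (e : Γ ⧸ Z ≃* alternatingGroup (Fin n)) : Nat.card Z ≤ 2 := by
  set σ₀ : Γ →* alternatingGroup (Fin n) := e.toMonoidHom.comp (QuotientGroup.mk' Z) with hσ₀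
  have hσ₀a : ∀ g : Γ, σ₀ g = e (QuotientGroup.mk g) := fun g => rfl
  have hσ₀s : Function.Surjective σ₀ := e.surjective.comp (QuotientGroup.mk'_surjective Z)
  have hker₀ : σ₀.ker = Z := by
    ext x
    rw [MonoidHom.mem_ker, hσ₀a, MulEquiv.map_eq_one_iff, QuotientGroup.eq_one_iff]
  have hcases : n = 4 ∨ n = 5 ∨ 8 ≤ n := by omega
  rcases hcases with rfl | rfl | h8
  · have hQ : Nat.card (alternatingGroup (Fin 4)) = 12 := by
      rw [nat_card_alternatingGroup, Nat.card_eq_fintype_card, Fintype.card_fin]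
      decide
    have := card_ker_le_two_of_card σ₀ hσ₀s (by rw [hker₀]; exact hZc) (by rw [hker₀]; exact hZd)
      (Or.inl hQ)
    rwa [hker₀] at this
  · have hQ : Nat.card (alternatingGroup (Fin 5)) = 60 := by
      rw [nat_card_alternatingGroup, Nat.card_eq_fintype_card, Fintype.card_fin]
      decide
    have := card_ker_le_two_of_card σ₀ hσ₀s (by rw [hker₀]; exact hZc) (by rw [hker₀]; exact hZd)
      (Or.inr hQ)
    rwa [hker₀] at this
  · set σ : Γ →* Perm (Fin n) := (alternatingGroup (Fin n)).subtype.comp σ₀ with hσ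
    have hσa : ∀ g : Γ, σ g = (σ₀ g : Perm (Fin n)) := fun g => rfl
    have hker : σ.ker = Z := by
      rw [← hker₀]
      ext x
      rw [MonoidHom.mem_ker, MonoidHom.mem_ker, hσa]
      constructor
      · intro hx
        exact Subtype.ext hx
      · intro hx
        rw [hx]; rfl
    have hrange : σ.range = alternatingGroup (Fin n) := by
      ext x
      constructor
      · rintro ⟨g, rfl⟩
        exact (σ₀ g).2
      · intro hx
        obtain ⟨g, hg⟩ := hσ₀s ⟨x, hx⟩
        exact ⟨g, by rw [hσa, hg]⟩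
    have hCE : CentExt σ := ⟨by rw [hker]; exact hZc, hrange⟩
    have := card_ker_le_two_of_large hCE (by rw [hker]; exact hZd)
      (by rw [Fintype.card_fin]; exact h8)
    rwa [hker] at this

end Cfsg.Agent.Helper6.AltStem
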