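import Mathlib

/-!
# A finite check for the cyclic TI array lemma (Peterfalvi (3.4))

`Tcheck.unsat`: there is no `4 × 7` matrix with entries in `{0, 1, -1}` satisfying the
constraints coming from a second row of a `2 × 4` array whose first row is in the
"three share an atom, the fourth meets each in a different atom" configuration.
-/

set_option autoImplicit false
set_option linter.style.haveILetI false

namespace Cfsg.Agent.Helper6.Arr.Tcheck

/-- decoding of the three possible entries -/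
def dec3 : Fin 3 → ℤ := ![0, 1, -1]

/-- the supports of the four vectors of the first row:
atoms `0 = a`, `1,2,3 = x₁,x₂,x₃`, `4,5,6 = y₁,y₂,y₃` -/
def Sidx : Fin 4 → Finset (Fin 7) := ![{0, 1, 4}, {0, 2, 5}, {0, 3, 6}, {1, 2, 3}]

/-- the constraints on the `k`-th vector of the second row alone -/
def okRow (k : Fin 4) (r : Fin 7 → ℤ) : Prop :=
  (∀ l : Fin 4, ∑ u ∈ Sidx l, r u = if k = l then 1 else 0) ∧ (∀ u ∈ Sidx k, 0 ≤ r u) ∧
    ∑ u, r u * r u ≤ 3

instance (k : Fin 4) (r : Fin 7 → ℤ) : Decidable (okRow k r) := by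
  unfold okRow; infer_instance

/-- the constraints on two different vectors of the second row -/
def compat (r s : Fin 7 → ℤ) : Prop :=
  (∀ u, 0 ≤ r u * s u) ∧ (∑ u, r u * s u ≤ 1) ∧
    ((∑ u, r u * r u = 3) → ∑ u, r u * s u = 1) ∧ ((∑ u, s u * s u = 3) → ∑ u, r u * s u = 1)

instance (r s : Fin 7 → ℤ) : Decidable (compat r s) := by
  unfold compat; infer_instance

/-- the candidates for each vector of the second row -/
def cands : Fin 4 → List (Fin 7 → ℤ) := ![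
  [![0, 0, 0, 0, 1, 0, 0], ![0, 1, -1, 0, 0, 1, 0], ![0, 1, 0, -1, 0, 0, 1],
    ![1, 0, 0, 0, 0, -1, -1]],
  [![0, -1, 1, 0, 1, 0, 0], ![0, 0, 0, 0, 0, 1, 0], ![0, 0, 1, -1, 0, 0, 1],
    ![1, 0, 0, 0, -1, 0, -1]],
  [![0, -1, 0, 1, 1, 0, 0], ![0, 0, -1, 1, 0, 1, 0], ![0, 0, 0, 0, 0, 0, 1],
    ![1, 0, 0, 0, -1, -1, 0]],
  [![0, 0, 0, 1, 0, 0, -1], ![0, 0, 1, 0, 0, -1, 0], ![0, 1, 0, 0, -1, 0, 0]]]

set_option maxRecDepth 100000 in
theorem stage1 : ∀ k : Fin 4, ∀ r : Fin 7 → Fin 3, okRow k (fun u => dec3 (r u)) →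
    (fun u => dec3 (r u)) ∈ cands k := by decide

set_option maxRecDepth 100000 in
theorem stage2 : ∀ r0 ∈ cands 0, ∀ r1 ∈ cands 1, ∀ r2 ∈ cands 2, ∀ r3 ∈ cands 3,
    ¬ (compat r0 r1 ∧ compat r0 r2 ∧ compat r0 r3 ∧ compat r1 r2 ∧ compat r1 r3 ∧
      compat r2 r3) := by decide

theorem exists_code (v : Fin 7 → ℤ) (hv : ∀ u, v u = 0 ∨ v u = 1 ∨ v u = -1) :
    ∃ r : Fin 7 → Fin 3, v = fun u => dec3 (r u) := by
  have h : ∀ u, ∃ c : Fin 3, v u = dec3 c := by
    intro u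
    rcases hv u with h | h | h
    · exact ⟨0, by rw [h]; rfl⟩
    · exact ⟨1, by rw [h]; rfl⟩
    · exact ⟨2, by rw [h]; rfl⟩
  choose r hr using h
  exact ⟨r, funext hr⟩

/-- the finite check -/
theorem unsat (M : Fin 4 → Fin 7 → ℤ) (hM : ∀ k u, M k u = 0 ∨ M k u = 1 ∨ M k u = -1)
    (h1 : ∀ k, okRow k (M k)) (h2 : ∀ k l, k ≠ l → compat (M k) (M l)) : False := by
  have hmem : ∀ k, M k ∈ cands k := by
    intro k
    obtain ⟨r, hr⟩ := exists_code (M k) (hM k)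
    have := stage1 k r (by rw [← hr]; exact h1 k)
    rw [← hr] at this
    exact this
  exact stage2 (M 0) (hmem 0) (M 1) (hmem 1) (M 2) (hmem 2) (M 3) (hmem 3)
    ⟨h2 0 1 (by decide), h2 0 2 (by decide), h2 0 3 (by decide), h2 1 2 (by decide),
      h2 1 3 (by decide), h2 2 3 (by decide)⟩

end Cfsg.Agent.Helper6.Arr.Tcheck
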