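import Mathlib

/-!
# Integer vectors of norm three: basic facts for the cyclic TI array lemma
-/

set_option autoImplicit false
set_option linter.style.haveILetI false
set_option linter.unusedSectionVars false
set_option linter.unusedVariables false

namespace Cfsg.Agent.Helper6.Arr

variable {ι : Type*} [Fintype ι] [DecidableEq ι]

/-- integer dot product -/
def dot (u v : ι → ℤ) : ℤ := ∑ a, u a * v a

theorem dot_comm (u v : ι → ℤ) : dot u v = dot v u := by
  unfold dot
  exact Finset.sum_congr rfl (fun a _ => mul_comm _ _)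

theorem sq_le_dot_self (v : ι → ℤ) (a : ι) : v a * v a ≤ dot v v :=
  Finset.single_le_sum (f := fun b => v b * v b) (fun b _ => mul_self_nonneg (v b))
    (Finset.mem_univ a)

/-- the entries of a vector of norm three are `0`, `1` or `-1` -/
theorem entry_of_norm3 {v : ι → ℤ} (h : dot v v = 3) (a : ι) :
    v a = 0 ∨ v a = 1 ∨ v a = -1 := by
  have h1 := sq_le_dot_self v a
  rw [h] at h1
  have h2 : -1 ≤ v a := by
    by_contra hc
    have : v a ≤ -2 := by omega
    nlinarith
  have h3 : v a ≤ 1 := by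
    by_contra hc
    have : 2 ≤ v a := by omega
    nlinarith
  omega

/-- a ternary entry -/
def Tern (v : ι → ℤ) : Prop := ∀ a, v a = 0 ∨ v a = 1 ∨ v a = -1

theorem tern_of_norm3 {v : ι → ℤ} (h : dot v v = 3) : Tern v := entry_of_norm3 h

theorem Tern.sq {v : ι → ℤ} (hv : Tern v) (a : ι) (h : v a ≠ 0) : v a * v a = 1 := by
  rcases hv a with h1 | h1 | h1
  · exact absurd h1 h
  · rw [h1]; norm_num
  · rw [h1]; norm_num

theorem Tern.sq_le {v : ι → ℤ} (hv : Tern v) (a : ι) : v a * v a ≤ 1 := by
  rcases hv a with h1 | h1 | h1 <;> rw [h1] <;> norm_num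

/-- no atom with opposite signs -/
def NoOpp (u v : ι → ℤ) : Prop := ∀ a, 0 ≤ u a * v a

theorem NoOpp.symm {u v : ι → ℤ} (h : NoOpp u v) : NoOpp v u := fun a => by
  rw [mul_comm]; exact h a

theorem NoOpp.self (u : ι → ℤ) : NoOpp u u := fun a => mul_self_nonneg _

theorem NoOpp.eq {u v : ι → ℤ} (hn : NoOpp u v) (hu : Tern u) (hv : Tern v) {a : ι}
    (h1 : u a ≠ 0) (h2 : v a ≠ 0) : u a = v a := by
  have := hn a
  rcases hu a with e1 | e1 | e1 <;> rcases hv a with e2 | e2 | e2 <;>
    rw [e1, e2] at this <;> simp_all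

theorem NoOpp.mul_eq_one {u v : ι → ℤ} (hn : NoOpp u v) (hu : Tern u) (hv : Tern v) {a : ι}
    (h1 : u a ≠ 0) (h2 : v a ≠ 0) : u a * v a = 1 := by
  rw [← hn.eq hu hv h1 h2]
  exact hu.sq a h1

theorem NoOpp.mul_le_one {u v : ι → ℤ} (hu : Tern u) (hv : Tern v) (a : ι) :
    u a * v a ≤ 1 := by
  rcases hu a with e1 | e1 | e1 <;> rcases hv a with e2 | e2 | e2 <;> rw [e1, e2] <;> norm_num

/-- two vectors of norm three with inner product one and equal degree have no atom with
opposite signs -/
theorem noOpp_of_deg {u v : ι → ℤ} (hu : dot u u = 3) (hv : dot v v = 3) (huv : dot u v = 1)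
    (d : ι → ℤ) (hd : ∀ a, 0 < d a) (hduv : ∑ a, d a * u a = ∑ a, d a * v a) : NoOpp u v := by
  intro a
  by_contra hneg
  push Not at hneg
  set w : ι → ℤ := fun b => u b - v b with hw
  have hww : ∑ b, w b * w b = 4 := by
    have h1 : ∀ b, w b * w b = u b * u b - 2 * (u b * v b) + v b * v b := by
      intro b; rw [hw]; ring
    simp_rw [h1]
    rw [Finset.sum_add_distrib, Finset.sum_sub_distrib, ← Finset.mul_sum]
    unfold dot at hu hv huv
    rw [hu, hv, huv]
    norm_num
  have hwa : w a * w a = 4 := by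
    rcases entry_of_norm3 hu a with e1 | e1 | e1 <;> rcases entry_of_norm3 hv a with e2 | e2 | e2 <;>
      rw [e1, e2] at hneg <;> norm_num at hneg <;> rw [hw] <;> simp only [e1, e2] <;> norm_num
  have hrest : ∑ b ∈ Finset.univ.erase a, w b * w b = 0 := by
    have := Finset.add_sum_erase Finset.univ (fun b => w b * w b) (Finset.mem_univ a)
    rw [hww, hwa] at this
    linarith
  have hzero : ∀ b, b ≠ a → w b = 0 := by
    intro b hb
    have h1 := (Finset.sum_eq_zero_iff_of_nonneg (fun b _ => mul_self_nonneg (w b))).mp hrest b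
      (Finset.mem_erase.mpr ⟨hb, Finset.mem_univ b⟩)
    exact mul_self_eq_zero.mp h1
  have hdw : ∑ b, d b * w b = 0 := by
    have h1 : ∀ b, d b * w b = d b * u b - d b * v b := by
      intro b; rw [hw]; ring
    simp_rw [h1]
    rw [Finset.sum_sub_distrib, hduv, sub_self]
  rw [Finset.sum_eq_single a (fun b _ hb => by rw [hzero b hb, mul_zero])
    (fun h => absurd (Finset.mem_univ a) h)] at hdw
  have hwa0 : w a = 0 := by
    rcases mul_eq_zero.mp hdw with h | h
    · exact absurd h (hd a).ne'
    · exact h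
  rw [hwa0] at hwa
  norm_num at hwa

/-- the common atom of two ternary vectors with inner product one and no opposite atom -/
theorem exists_common {u v : ι → ℤ} (hu : Tern u) (hv : Tern v) (hn : NoOpp u v)
    (huv : dot u v = 1) :
    ∃ a, u a ≠ 0 ∧ v a ≠ 0 ∧ ∀ b, b ≠ a → u b * v b = 0 := by
  have hex : ∃ a, u a * v a ≠ 0 := by
    by_contra hc
    push Not at hc
    unfold dot at huv
    rw [Finset.sum_eq_zero (fun a _ => hc a)] at huv
    norm_num at huv
  obtain ⟨a, ha⟩ := hex
  have ha1 : u a ≠ 0 := fun h => ha (by rw [h, zero_mul])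
  have ha2 : v a ≠ 0 := fun h => ha (by rw [h, mul_zero])
  refine ⟨a, ha1, ha2, ?_⟩
  have hone := hn.mul_eq_one hu hv ha1 ha2
  have hrest : ∑ b ∈ Finset.univ.erase a, u b * v b = 0 := by
    have := Finset.add_sum_erase Finset.univ (fun b => u b * v b) (Finset.mem_univ a)
    unfold dot at huv
    rw [huv, hone] at this
    linarith
  intro b hb
  exact (Finset.sum_eq_zero_iff_of_nonneg (fun b _ => hn b)).mp hrest b
    (Finset.mem_erase.mpr ⟨hb, Finset.mem_univ b⟩)

/-- uniqueness of the common atom -/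
theorem common_unique {u v : ι → ℤ} (hu : Tern u) (hv : Tern v) (hn : NoOpp u v)
    (huv : dot u v = 1) {a b : ι} (ha1 : u a ≠ 0) (ha2 : v a ≠ 0) (hb1 : u b ≠ 0)
    (hb2 : v b ≠ 0) : a = b := by
  by_contra hab
  have h1 := hn.mul_eq_one hu hv ha1 ha2
  have h2 := hn.mul_eq_one hu hv hb1 hb2
  have hsub : ∑ x ∈ ({a, b} : Finset ι), u x * v x ≤ ∑ x, u x * v x :=
    Finset.sum_le_univ_sum_of_nonneg (fun x => hn x)
  rw [Finset.sum_pair hab, h1, h2] at hsub
  unfold dot at huv
  rw [huv] at hsub
  norm_num at hsub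

/-- disjointness: two ternary vectors with inner product zero and no opposite atom have
no common atom -/
theorem disjoint_of_dot_zero {u v : ι → ℤ} (hn : NoOpp u v) (huv : dot u v = 0) (a : ι) :
    u a * v a = 0 := by
  unfold dot at huv
  exact (Finset.sum_eq_zero_iff_of_nonneg (fun b _ => hn b)).mp huv a (Finset.mem_univ a)

/-- a vector of norm three vanishes outside three distinct atoms where it does not vanish -/
theorem zero_of_three {v : ι → ℤ} (h : dot v v = 3) {p q r : ι} (hpq : p ≠ q) (hpr : p ≠ r)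
    (hqr : q ≠ r) (hp : v p ≠ 0) (hq : v q ≠ 0) (hr : v r ≠ 0) (b : ι) (hbp : b ≠ p)
    (hbq : b ≠ q) (hbr : b ≠ r) : v b = 0 := by
  have ht := tern_of_norm3 h
  have hsub : ∑ x ∈ ({b, p, q, r} : Finset ι), v x * v x ≤ ∑ x, v x * v x :=
    Finset.sum_le_univ_sum_of_nonneg (fun x => mul_self_nonneg (v x))
  rw [Finset.sum_insert (by simp [hbp, hbq, hbr]), Finset.sum_insert (by simp [hpq, hpr]),
    Finset.sum_pair hqr, ht.sq p hp, ht.sq q hq, ht.sq r hr] at hsub
  unfold dot at h
  rw [h] at hsub
  have : v b * v b ≤ 0 := by linarith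
  exact mul_self_eq_zero.mp (le_antisymm this (mul_self_nonneg _))

/-- a vector of norm three has a third atom -/
theorem exists_third {v : ι → ℤ} (h : dot v v = 3) {p q : ι} (hpq : p ≠ q) (hp : v p ≠ 0)
    (hq : v q ≠ 0) : ∃ r, r ≠ p ∧ r ≠ q ∧ v r ≠ 0 := by
  have ht := tern_of_norm3 h
  by_contra hc
  push Not at hc
  have hsum : ∑ x, v x * v x = ∑ x ∈ ({p, q} : Finset ι), v x * v x := by
    symm
    apply Finset.sum_subset (Finset.subset_univ _)
    intro x _ hx
    rw [Finset.mem_insert, Finset.mem_singleton] at hx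
    push Not at hx
    rw [hc x hx.1 hx.2, mul_zero]
  unfold dot at h
  rw [hsum, Finset.sum_pair hpq, ht.sq p hp, ht.sq q hq] at h
  norm_num at h

/-- a vector of norm three has an atom -/
theorem exists_atom {v : ι → ℤ} (h : dot v v = 3) : ∃ p, v p ≠ 0 := by
  by_contra hc
  push Not at hc
  unfold dot at h
  rw [Finset.sum_eq_zero (fun a _ => by rw [hc a, mul_zero])] at h
  norm_num at h

/-- a vector of norm three has a second atom -/
theorem exists_second {v : ι → ℤ} (h : dot v v = 3) {p : ι} (hp : v p ≠ 0) :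
    ∃ q, q ≠ p ∧ v q ≠ 0 := by
  have ht := tern_of_norm3 h
  by_contra hc
  push Not at hc
  have hsum : ∑ x, v x * v x = v p * v p := by
    apply Finset.sum_eq_single p
    · intro x _ hx
      rw [hc x hx, mul_zero]
    · intro hx
      exact absurd (Finset.mem_univ p) hx
  unfold dot at h
  rw [hsum, ht.sq p hp] at h
  norm_num at h

/-- the expansion of a vector of norm three along its three atoms -/
theorem eq_of_three {v : ι → ℤ} (h : dot v v = 3) {p q r : ι} (hpq : p ≠ q) (hpr : p ≠ r)
    (hqr : q ≠ r) (hp : v p ≠ 0) (hq : v q ≠ 0) (hr : v r ≠ 0) (x : ι) :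
    v x = (if x = p then v p else 0) + (if x = q then v q else 0) +
      (if x = r then v r else 0) := by
  by_cases h1 : x = p
  · subst h1
    rw [if_pos rfl, if_neg hpq, if_neg hpr, add_zero, add_zero]
  · by_cases h2 : x = q
    · subst h2
      rw [if_neg h1, if_pos rfl, if_neg hqr, zero_add, add_zero]
    · by_cases h3 : x = r
      · subst h3
        rw [if_neg h1, if_neg h2, if_pos rfl, zero_add, zero_add]
      · rw [if_neg h1, if_neg h2, if_neg h3, zero_of_three h hpq hpr hqr hp hq hr x h1 h2 h3]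
        norm_num

/-- the dot product with a vector supported on three atoms -/
theorem dot_of_three {v : ι → ℤ} (h : dot v v = 3) {p q r : ι} (hpq : p ≠ q) (hpr : p ≠ r)
    (hqr : q ≠ r) (hp : v p ≠ 0) (hq : v q ≠ 0) (hr : v r ≠ 0) (w : ι → ℤ) :
    dot v w = v p * w p + v q * w q + v r * w r := by
  unfold dot
  have hsum : ∑ x, v x * w x = ∑ x ∈ ({p, q, r} : Finset ι), v x * w x := by
    symm
    apply Finset.sum_subset (Finset.subset_univ _)
    intro x _ hx
    simp only [Finset.mem_insert, Finset.mem_singleton, not_or] at hx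
    rw [zero_of_three h hpq hpr hqr hp hq hr x hx.1 hx.2.1 hx.2.2, zero_mul]
  rw [hsum, Finset.sum_insert (by simp [hpq, hpr]), Finset.sum_pair hqr]
  ring

end Cfsg.Agent.Helper6.Arr
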