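import Mathlib
import Cfsg.Agent.Helper6.ArrA
import Cfsg.Agent.Helper6.ArrB

/-!
# Two rows and four columns of a cyclic TI array: bridging to the finite check
-/

set_option autoImplicit false
set_option linter.style.haveILetI false
set_option linter.unusedSectionVars false
set_option linter.unusedVariables false

namespace Cfsg.Agent.Helper6.Arr

variable {ι : Type*} [Fintype ι] [DecidableEq ι]

/-- the hypotheses on two rows of four vectors -/
structure TwoRows (A B : Fin 4 → ι → ℤ) : Prop where
  hA : ∀ j, dot (A j) (A j) = 3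
  hB : ∀ j, dot (B j) (B j) = 3
  hAA : ∀ j k, j ≠ k → dot (A j) (A k) = 1
  hBB : ∀ j k, j ≠ k → dot (B j) (B k) = 1
  hABd : ∀ j, dot (A j) (B j) = 1
  hAB0 : ∀ j k, j ≠ k → dot (A j) (B k) = 0
  nAA : ∀ j k, NoOpp (A j) (A k)
  nBB : ∀ j k, NoOpp (B j) (B k)
  nAB : ∀ j, NoOpp (A j) (B j)

theorem TwoRows.swap {A B : Fin 4 → ι → ℤ} (h : TwoRows A B) : TwoRows B A where
  hA := h.hB
  hB := h.hA
  hAA := h.hBB
  hBB := h.hAA
  hABd := fun j => by rw [dot_comm]; exact h.hABd j
  hAB0 := fun j k hjk => by rw [dot_comm]; exact h.hAB0 k j (Ne.symm hjk)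
  nAA := h.nBB
  nBB := h.nAA
  nAB := fun j => (h.nAB j).symm

theorem TwoRows.perm {A B : Fin 4 → ι → ℤ} (h : TwoRows A B) (σ : Fin 4 → Fin 4)
    (hσ : Function.Injective σ) : TwoRows (fun l => A (σ l)) (fun l => B (σ l)) where
  hA := fun j => h.hA _
  hB := fun j => h.hB _
  hAA := fun j k hjk => h.hAA _ _ (fun e => hjk (hσ e))
  hBB := fun j k hjk => h.hBB _ _ (fun e => hjk (hσ e))
  hABd := fun j => h.hABd _
  hAB0 := fun j k hjk => h.hAB0 _ _ (fun e => hjk (hσ e))
  nAA := fun j k => h.nAA _ _
  nBB := fun j k => h.nBB _ _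
  nAB := fun j => h.nAB _

theorem TwoRows.tA {A B : Fin 4 → ι → ℤ} (h : TwoRows A B) (j : Fin 4) : Tern (A j) :=
  tern_of_norm3 (h.hA j)

theorem TwoRows.tB {A B : Fin 4 → ι → ℤ} (h : TwoRows A B) (j : Fin 4) : Tern (B j) :=
  tern_of_norm3 (h.hB j)

/-- two vectors of the first row have the same value at a common atom -/
theorem TwoRows.A_eq {A B : Fin 4 → ι → ℤ} (h : TwoRows A B) (j k : Fin 4) {a : ι}
    (h1 : A j a ≠ 0) (h2 : A k a ≠ 0) : A j a = A k a :=
  (h.nAA j k).eq (h.tA j) (h.tA k) h1 h2

/-- an atom common to two different vectors of the first row is unique -/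
theorem TwoRows.A_unique {A B : Fin 4 → ι → ℤ} (h : TwoRows A B) {j k : Fin 4} (hjk : j ≠ k)
    {a b : ι} (ha1 : A j a ≠ 0) (ha2 : A k a ≠ 0) (hb1 : A j b ≠ 0) (hb2 : A k b ≠ 0) :
    a = b :=
  common_unique (h.tA j) (h.tA k) (h.nAA j k) (h.hAA j k hjk) ha1 ha2 hb1 hb2

theorem TwoRows.A_common {A B : Fin 4 → ι → ℤ} (h : TwoRows A B) {j k : Fin 4} (hjk : j ≠ k) :
    ∃ a, A j a ≠ 0 ∧ A k a ≠ 0 := by
  obtain ⟨a, h1, h2, -⟩ := exists_common (h.tA j) (h.tA k) (h.nAA j k) (h.hAA j k hjk)
  exact ⟨a, h1, h2⟩

/-- dot product with a vector given as a signed sum of atoms -/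
theorem dot_of_dec {U : Type*} [DecidableEq U] (v : ι → ℤ) (at' : U → ι) (s : U → ℤ)
    (T : Finset U) (hv : ∀ x, v x = ∑ u ∈ T, if x = at' u then s u else 0) (w : ι → ℤ) :
    dot v w = ∑ u ∈ T, s u * w (at' u) := by
  unfold dot
  simp_rw [hv, Finset.sum_mul]
  rw [Finset.sum_comm]
  apply Finset.sum_congr rfl
  intro u _
  simp [ite_mul]

/-- the value at an atom of a vector given as a signed sum of atoms -/
theorem val_of_dec {U : Type*} [DecidableEq U] (v : ι → ℤ) (at' : U → ι)
    (hat : Function.Injective at') (s : U → ℤ)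
    (T : Finset U) (hv : ∀ x, v x = ∑ u ∈ T, if x = at' u then s u else 0) (u : U) (hu : u ∈ T) :
    v (at' u) = s u := by
  rw [hv, Finset.sum_eq_single u]
  · rw [if_pos rfl]
  · intro u' _ hne
    rw [if_neg]
    intro e
    exact hne (hat e).symm
  · intro hn
    exact absurd hu hn

/-- sum over the image of an injective map, bounded by the total sum -/
theorem sum_comp_le {U : Type*} [Fintype U] [DecidableEq U] (at' : U → ι)
    (hat : Function.Injective at') (f : ι → ℤ) (hf : ∀ x, 0 ≤ f x) :
    ∑ u, f (at' u) ≤ ∑ x, f x := by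
  rw [← Finset.sum_image (s := Finset.univ) (g := at') (f := f) (fun a _ b _ e => hat e)]
  exact Finset.sum_le_univ_sum_of_nonneg hf

/-- if the sum over the image is the total sum, the function vanishes outside the image -/
theorem zero_outside {U : Type*} [Fintype U] [DecidableEq U] (at' : U → ι)
    (hat : Function.Injective at') (f : ι → ℤ) (hf : ∀ x, 0 ≤ f x)
    (he : ∑ u, f (at' u) = ∑ x, f x) (x : ι) (hx : ∀ u, x ≠ at' u) : f x = 0 := by
  rw [← Finset.sum_image (s := Finset.univ) (g := at') (f := f) (fun a _ b _ e => hat e)] at he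
  have h1 := Finset.sum_sdiff (f := f) (Finset.subset_univ (Finset.image at' Finset.univ))
  rw [he] at h1
  have h2 : ∑ x ∈ Finset.univ \ Finset.image at' Finset.univ, f x = 0 := by linarith
  apply (Finset.sum_eq_zero_iff_of_nonneg (fun x _ => hf x)).mp h2 x
  rw [Finset.mem_sdiff]
  refine ⟨Finset.mem_univ _, ?_⟩
  intro hm
  obtain ⟨u, -, hu⟩ := Finset.mem_image.mp hm
  exact hx u hu.symm

/-- the bridge: from a decomposition of the first row to the matrix of the finite check -/
theorem bridge {A B : Fin 4 → ι → ℤ} (h : TwoRows A B) (at' : Fin 7 → ι)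
    (hat : Function.Injective at') (s : Fin 7 → ℤ) (hs : ∀ u, s u = 1 ∨ s u = -1)
    (hAdec : ∀ l x, A l x = ∑ u ∈ Tcheck.Sidx l, if x = at' u then s u else 0) : False := by
  set M : Fin 4 → Fin 7 → ℤ := fun k u => s u * B k (at' u) with hM
  have hss : ∀ u, s u * s u = 1 := by
    intro u
    rcases hs u with e | e <;> rw [e] <;> norm_num
  have hMM : ∀ k l u, M k u * M l u = B k (at' u) * B l (at' u) := by
    intro k l u
    rw [hM]
    calc s u * B k (at' u) * (s u * B l (at' u))
        = (s u * s u) * (B k (at' u) * B l (at' u)) := by ring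
      _ = B k (at' u) * B l (at' u) := by rw [hss, one_mul]
  apply Tcheck.unsat M
  · intro k u
    rw [hM]
    rcases hs u with e | e <;> rcases h.tB k (at' u) with e2 | e2 | e2 <;>
      simp only [e, e2] <;> norm_num
  · intro k
    refine ⟨?_, ?_, ?_⟩
    · intro l
      have h1 := dot_of_dec (A l) at' s (Tcheck.Sidx l) (hAdec l) (B k)
      rw [← h1]
      by_cases hkl : k = l
      · rw [if_pos hkl, hkl]
        exact h.hABd l
      · rw [if_neg hkl]
        exact h.hAB0 l k (Ne.symm hkl)
    · intro u hu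
      have h1 := val_of_dec (A k) at' hat s (Tcheck.Sidx k) (hAdec k) u hu
      have h2 := h.nAB k (at' u)
      rw [h1] at h2
      exact h2
    · have h1 : ∀ u, M k u * M k u = (fun x => B k x * B k x) (at' u) := fun u => hMM k k u
      simp_rw [h1]
      have h2 := sum_comp_le at' hat (fun x => B k x * B k x) (fun x => mul_self_nonneg _)
      have h3 := h.hB k
      unfold dot at h3
      rw [h3] at h2
      exact h2
  · intro k l hkl
    have h1 : ∀ u, M k u * M l u = (fun x => B k x * B l x) (at' u) := fun u => hMM k l u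
    have h3 := h.hBB k l hkl
    unfold dot at h3
    refine ⟨?_, ?_, ?_, ?_⟩
    · intro u
      rw [hMM]
      exact h.nBB k l _
    · simp_rw [h1]
      have h2 := sum_comp_le at' hat (fun x => B k x * B l x) (fun x => h.nBB k l x)
      rw [h3] at h2
      exact h2
    · intro h4
      have h5 : ∀ u, M k u * M k u = (fun x => B k x * B k x) (at' u) := fun u => hMM k k u
      simp_rw [h5] at h4
      have h6 := h.hB k
      unfold dot at h6
      have hz : ∀ x, (∀ u, x ≠ at' u) → B k x = 0 := by
        intro x hx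
        have := zero_outside at' hat (fun x => B k x * B k x) (fun x => mul_self_nonneg _)
          (by rw [h4, h6]) x hx
        exact mul_self_eq_zero.mp this
      simp_rw [h1]
      rw [← h3, ← Finset.sum_image (s := Finset.univ) (g := at')
        (f := fun x => B k x * B l x) (fun a _ b _ e => hat e)]
      apply Finset.sum_subset (Finset.subset_univ _)
      intro x _ hx
      have : ∀ u, x ≠ at' u := by
        intro u e
        exact hx (Finset.mem_image.mpr ⟨u, Finset.mem_univ _, e.symm⟩)
      show B k x * B l x = 0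
      rw [hz x this, zero_mul]
    · intro h4
      have h5 : ∀ u, M l u * M l u = (fun x => B l x * B l x) (at' u) := fun u => hMM l l u
      simp_rw [h5] at h4
      have h6 := h.hB l
      unfold dot at h6
      have hz : ∀ x, (∀ u, x ≠ at' u) → B l x = 0 := by
        intro x hx
        have := zero_outside at' hat (fun x => B l x * B l x) (fun x => mul_self_nonneg _)
          (by rw [h4, h6]) x hx
        exact mul_self_eq_zero.mp this
      simp_rw [h1]
      rw [← h3, ← Finset.sum_image (s := Finset.univ) (g := at')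
        (f := fun x => B k x * B l x) (fun a _ b _ e => hat e)]
      apply Finset.sum_subset (Finset.subset_univ _)
      intro x _ hx
      have : ∀ u, x ≠ at' u := by
        intro u e
        exact hx (Finset.mem_image.mpr ⟨u, Finset.mem_univ _, e.symm⟩)
      show B k x * B l x = 0
      rw [hz x this, mul_zero]

end Cfsg.Agent.Helper6.Arr
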