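import Mathlib
import Cfsg.Agent.Helper6.ArrC

/-!
# Two rows and four columns of a cyclic TI array: the first row is a sunflower
-/

set_option autoImplicit false
set_option linter.style.haveILetI false
set_option linter.unusedSectionVars false
set_option linter.unusedVariables false

namespace Cfsg.Agent.Helper6.Arr

variable {ι : Type*} [Fintype ι] [DecidableEq ι]

theorem pm_of_tern {v : ι → ℤ} (hv : Tern v) {a : ι} (h : v a ≠ 0) : v a = 1 ∨ v a = -1 := by
  rcases hv a with e | e | e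
  · exact absurd e h
  · exact Or.inl e
  · exact Or.inr e

set_option maxHeartbeats 1000000 in
/-- the configuration "three vectors share an atom, the fourth does not contain it" is
impossible -/
theorem no_T {A B : Fin 4 → ι → ℤ} (h : TwoRows A B) (a : ι) (h0 : A 0 a ≠ 0) (h1 : A 1 a ≠ 0)
    (h2 : A 2 a ≠ 0) (h3 : A 3 a = 0) : False := by
  obtain ⟨x0, hx0, hx0'⟩ := h.A_common (show (0 : Fin 4) ≠ 3 by decide)
  obtain ⟨x1, hx1, hx1'⟩ := h.A_common (show (1 : Fin 4) ≠ 3 by decide)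
  obtain ⟨x2, hx2, hx2'⟩ := h.A_common (show (2 : Fin 4) ≠ 3 by decide)
  have hax0 : a ≠ x0 := fun e => hx0' (e ▸ h3)
  have hax1 : a ≠ x1 := fun e => hx1' (e ▸ h3)
  have hax2 : a ≠ x2 := fun e => hx2' (e ▸ h3)
  have hu01 : ∀ z, A 0 z ≠ 0 → A 1 z ≠ 0 → z = a := fun z hz hz' =>
    h.A_unique (show (0 : Fin 4) ≠ 1 by decide) hz hz' h0 h1
  have hu02 : ∀ z, A 0 z ≠ 0 → A 2 z ≠ 0 → z = a := fun z hz hz' =>
    h.A_unique (show (0 : Fin 4) ≠ 2 by decide) hz hz' h0 h2
  have hu12 : ∀ z, A 1 z ≠ 0 → A 2 z ≠ 0 → z = a := fun z hz hz' =>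
    h.A_unique (show (1 : Fin 4) ≠ 2 by decide) hz hz' h1 h2
  have hx01 : x0 ≠ x1 := fun e => hax0 (hu01 x0 hx0 (e ▸ hx1)).symm
  have hx02 : x0 ≠ x2 := fun e => hax0 (hu02 x0 hx0 (e ▸ hx2)).symm
  have hx12 : x1 ≠ x2 := fun e => hax1 (hu12 x1 hx1 (e ▸ hx2)).symm
  obtain ⟨y0, hy0a, hy0x, hy0⟩ := exists_third (h.hA 0) hax0 h0 hx0
  obtain ⟨y1, hy1a, hy1x, hy1⟩ := exists_third (h.hA 1) hax1 h1 hx1
  obtain ⟨y2, hy2a, hy2x, hy2⟩ := exists_third (h.hA 2) hax2 h2 hx2
  have hy01 : y0 ≠ y1 := fun e => hy0a (hu01 y0 hy0 (e ▸ hy1))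
  have hy02 : y0 ≠ y2 := fun e => hy0a (hu02 y0 hy0 (e ▸ hy2))
  have hy12 : y1 ≠ y2 := fun e => hy1a (hu12 y1 hy1 (e ▸ hy2))
  have hy0x1 : y0 ≠ x1 := fun e => hy0a (hu01 y0 hy0 (e ▸ hx1))
  have hy0x2 : y0 ≠ x2 := fun e => hy0a (hu02 y0 hy0 (e ▸ hx2))
  have hy1x0 : y1 ≠ x0 := fun e => hy1a (hu01 y1 (e ▸ hx0) hy1)
  have hy1x2 : y1 ≠ x2 := fun e => hy1a (hu12 y1 hy1 (e ▸ hx2))
  have hy2x0 : y2 ≠ x0 := fun e => hy2a (hu02 y2 (e ▸ hx0) hy2)
  have hy2x1 : y2 ≠ x1 := fun e => hy2a (hu12 y2 (e ▸ hx1) hy2)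
  set at' : Fin 7 → ι := ![a, x0, x1, x2, y0, y1, y2] with hat'
  set s : Fin 7 → ℤ := ![A 0 a, A 0 x0, A 1 x1, A 2 x2, A 0 y0, A 1 y1, A 2 y2] with hs'
  have hinj : Function.Injective at' := by
    intro i j hij
    fin_cases i <;> fin_cases j <;> simp [hat'] at hij ⊢ <;>
      first
        | exact absurd hij hax0 | exact absurd hij hax1 | exact absurd hij hax2
        | exact absurd hij.symm hax0 | exact absurd hij.symm hax1 | exact absurd hij.symm hax2
        | exact absurd hij hx01 | exact absurd hij hx02 | exact absurd hij hx12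
        | exact absurd hij.symm hx01 | exact absurd hij.symm hx02 | exact absurd hij.symm hx12
        | exact absurd hij hy0a | exact absurd hij hy1a | exact absurd hij hy2a
        | exact absurd hij.symm hy0a | exact absurd hij.symm hy1a | exact absurd hij.symm hy2a
        | exact absurd hij hy0x | exact absurd hij hy1x | exact absurd hij hy2x
        | exact absurd hij.symm hy0x | exact absurd hij.symm hy1x | exact absurd hij.symm hy2x
        | exact absurd hij hy01 | exact absurd hij hy02 | exact absurd hij hy12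
        | exact absurd hij.symm hy01 | exact absurd hij.symm hy02 | exact absurd hij.symm hy12
        | exact absurd hij hy0x1 | exact absurd hij hy0x2 | exact absurd hij hy1x0
        | exact absurd hij hy1x2 | exact absurd hij hy2x0 | exact absurd hij hy2x1
        | exact absurd hij.symm hy0x1 | exact absurd hij.symm hy0x2 | exact absurd hij.symm hy1x0
        | exact absurd hij.symm hy1x2 | exact absurd hij.symm hy2x0 | exact absurd hij.symm hy2x1
  have hspm : ∀ u, s u = 1 ∨ s u = -1 := by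
    intro u
    fin_cases u
    · exact pm_of_tern (h.tA 0) h0
    · exact pm_of_tern (h.tA 0) hx0
    · exact pm_of_tern (h.tA 1) hx1
    · exact pm_of_tern (h.tA 2) hx2
    · exact pm_of_tern (h.tA 0) hy0
    · exact pm_of_tern (h.tA 1) hy1
    · exact pm_of_tern (h.tA 2) hy2
  apply bridge h at' hinj s hspm
  intro l x
  fin_cases l
  · show A 0 x = ∑ u ∈ ({0, 1, 4} : Finset (Fin 7)), if x = at' u then s u else 0
    rw [Finset.sum_insert (by decide), Finset.sum_pair (by decide)]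
    show A 0 x = (if x = a then A 0 a else 0) + ((if x = x0 then A 0 x0 else 0) +
      (if x = y0 then A 0 y0 else 0))
    rw [← add_assoc]
    exact eq_of_three (h.hA 0) hax0 (Ne.symm hy0a) (Ne.symm hy0x) h0 hx0 hy0 x
  · show A 1 x = ∑ u ∈ ({0, 2, 5} : Finset (Fin 7)), if x = at' u then s u else 0
    rw [Finset.sum_insert (by decide), Finset.sum_pair (by decide)]
    show A 1 x = (if x = a then A 0 a else 0) + ((if x = x1 then A 1 x1 else 0) +
      (if x = y1 then A 1 y1 else 0))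
    rw [← add_assoc, h.A_eq 0 1 h0 h1]
    exact eq_of_three (h.hA 1) hax1 (Ne.symm hy1a) (Ne.symm hy1x) h1 hx1 hy1 x
  · show A 2 x = ∑ u ∈ ({0, 3, 6} : Finset (Fin 7)), if x = at' u then s u else 0
    rw [Finset.sum_insert (by decide), Finset.sum_pair (by decide)]
    show A 2 x = (if x = a then A 0 a else 0) + ((if x = x2 then A 2 x2 else 0) +
      (if x = y2 then A 2 y2 else 0))
    rw [← add_assoc, h.A_eq 0 2 h0 h2]
    exact eq_of_three (h.hA 2) hax2 (Ne.symm hy2a) (Ne.symm hy2x) h2 hx2 hy2 x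
  · show A 3 x = ∑ u ∈ ({1, 2, 3} : Finset (Fin 7)), if x = at' u then s u else 0
    rw [Finset.sum_insert (by decide), Finset.sum_pair (by decide)]
    show A 3 x = (if x = x0 then A 0 x0 else 0) + ((if x = x1 then A 1 x1 else 0) +
      (if x = x2 then A 2 x2 else 0))
    rw [← add_assoc, h.A_eq 0 3 hx0 hx0', h.A_eq 1 3 hx1 hx1', h.A_eq 2 3 hx2 hx2']
    exact eq_of_three (h.hA 3) hx01 hx02 hx12 hx0' hx1' hx2' x

/-- the configuration of four vectors pairwise meeting in six different atoms is impossible -/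
theorem no_K {A B : Fin 4 → ι → ℤ} (h : TwoRows A B) (a b c : ι)
    (ha0 : A 0 a ≠ 0) (ha1 : A 1 a ≠ 0) (hb0 : A 0 b ≠ 0) (hb2 : A 2 b ≠ 0)
    (hc1 : A 1 c ≠ 0) (hc2 : A 2 c ≠ 0) (ha3 : A 3 a = 0) (hb3 : A 3 b = 0) (hc3 : A 3 c = 0)
    (hab : a ≠ b) (hac : a ≠ c) (hbc : b ≠ c) : False := by
  obtain ⟨x, hx, hx'⟩ := h.A_common (show (0 : Fin 4) ≠ 3 by decide)
  obtain ⟨y, hy, hy'⟩ := h.A_common (show (1 : Fin 4) ≠ 3 by decide)
  obtain ⟨z, hz, hz'⟩ := h.A_common (show (2 : Fin 4) ≠ 3 by decide)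
  have hax : a ≠ x := fun e => hx' (e ▸ ha3)
  have hbx : b ≠ x := fun e => hx' (e ▸ hb3)
  have hay : a ≠ y := fun e => hy' (e ▸ ha3)
  have hcy : c ≠ y := fun e => hy' (e ▸ hc3)
  have hbz : b ≠ z := fun e => hz' (e ▸ hb3)
  have hcz : c ≠ z := fun e => hz' (e ▸ hc3)
  have hxy : x ≠ y := fun e => hax
    (h.A_unique (show (0 : Fin 4) ≠ 1 by decide) ha0 ha1 hx (e ▸ hy))
  have hxz : x ≠ z := fun e => hbx
    (h.A_unique (show (0 : Fin 4) ≠ 2 by decide) hb0 hb2 hx (e ▸ hz))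
  have hyz : y ≠ z := fun e => hcy
    (h.A_unique (show (1 : Fin 4) ≠ 2 by decide) hc1 hc2 hy (e ▸ hz))
  have e0 := dot_of_three (h.hA 0) hab hax hbx ha0 hb0 hx (B 3)
  have e1 := dot_of_three (h.hA 1) hac hay hcy ha1 hc1 hy (B 3)
  have e2 := dot_of_three (h.hA 2) hbc hbz hcz hb2 hc2 hz (B 3)
  have e3 := dot_of_three (h.hA 3) hxy hxz hyz hx' hy' hz' (B 3)
  rw [h.hAB0 0 3 (by decide)] at e0
  rw [h.hAB0 1 3 (by decide)] at e1
  rw [h.hAB0 2 3 (by decide)] at e2
  rw [h.hABd 3] at e3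
  rw [← h.A_eq 0 1 ha0 ha1] at e1
  rw [← h.A_eq 0 2 hb0 hb2, ← h.A_eq 1 2 hc1 hc2] at e2
  rw [← h.A_eq 0 3 hx hx', ← h.A_eq 1 3 hy hy', ← h.A_eq 2 3 hz hz'] at e3
  generalize A 0 a * B 3 a = Pa at *
  generalize A 0 b * B 3 b = Pb at *
  generalize A 1 c * B 3 c = Pc at *
  generalize A 0 x * B 3 x = Px at *
  generalize A 1 y * B 3 y = Py at *
  generalize A 2 z * B 3 z = Pz at *
  omega

/-- a common atom of the first row does not occur in the second row -/
theorem core_not_in_B {A B : Fin 4 → ι → ℤ} (h : TwoRows A B) (a : ι) (hall : ∀ l, A l a ≠ 0)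
    (k l1 l2 l3 : Fin 4) (hk1 : k ≠ l1) (hk2 : k ≠ l2) (hk3 : k ≠ l3) (h12 : l1 ≠ l2)
    (h13 : l1 ≠ l3) (h23 : l2 ≠ l3) : B k a = 0 := by
  by_contra hBa
  have hone : ∀ l, A l a * B k a = 1 := by
    intro l
    rw [h.A_eq l k (hall l) (hall k)]
    exact (h.nAB k).mul_eq_one (h.tA k) (h.tB k) (hall k) hBa
  have hneg : ∀ l, l ≠ k → ∃ x, x ≠ a ∧ A l x ≠ 0 ∧ B k x ≠ 0 := by
    intro l hl
    by_contra hc
    push Not at hc
    have h0 := h.hAB0 l k hl
    unfold dot at h0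
    rw [Finset.sum_eq_single a] at h0
    · rw [hone l] at h0
      norm_num at h0
    · intro x _ hx
      by_cases hAx : A l x = 0
      · rw [hAx, zero_mul]
      · rw [hc x hx hAx, mul_zero]
    · intro hn
      exact absurd (Finset.mem_univ a) hn
  obtain ⟨x1, hx1a, hx1A, hx1B⟩ := hneg l1 (Ne.symm hk1)
  obtain ⟨x2, hx2a, hx2A, hx2B⟩ := hneg l2 (Ne.symm hk2)
  obtain ⟨x3, hx3a, hx3A, hx3B⟩ := hneg l3 (Ne.symm hk3)
  have hx12 : x1 ≠ x2 := fun e => hx1a (h.A_unique h12 hx1A (e ▸ hx2A) (hall l1) (hall l2))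
  have hx13 : x1 ≠ x3 := fun e => hx1a (h.A_unique h13 hx1A (e ▸ hx3A) (hall l1) (hall l3))
  have hx23 : x2 ≠ x3 := fun e => hx2a (h.A_unique h23 hx2A (e ▸ hx3A) (hall l2) (hall l3))
  exact hx3B (zero_of_three (h.hB k) (Ne.symm hx1a) (Ne.symm hx2a) hx12 hBa hx1B hx2B x3 hx3a
    (Ne.symm hx13) (Ne.symm hx23))

/-- the first row of a two-by-four array is a sunflower whose core does not occur in the
second row -/
theorem core24 {A B : Fin 4 → ι → ℤ} (h : TwoRows A B) :
    ∃ a, (∀ l, A l a ≠ 0) ∧ ∀ k, B k a = 0 := by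
  have hsun : ∃ a, ∀ l, A l a ≠ 0 := by
    obtain ⟨a, ha0, ha1⟩ := h.A_common (show (0 : Fin 4) ≠ 1 by decide)
    by_cases ha2 : A 2 a = 0
    · by_cases ha3 : A 3 a = 0
      · -- neither contains `a`
        obtain ⟨b, hb0, hb2⟩ := h.A_common (show (0 : Fin 4) ≠ 2 by decide)
        obtain ⟨c, hc1, hc2⟩ := h.A_common (show (1 : Fin 4) ≠ 2 by decide)
        have hab : a ≠ b := fun e => hb2 (e ▸ ha2)
        have hac : a ≠ c := fun e => hc2 (e ▸ ha2)
        have hbc : b ≠ c := fun e => hab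
          (h.A_unique (show (0 : Fin 4) ≠ 1 by decide) ha0 ha1 hb0 (e ▸ hc1))
        have hb1 : A 1 b = 0 := by
          by_contra hn
          exact hab (h.A_unique (show (0 : Fin 4) ≠ 1 by decide) ha0 ha1 hb0 hn)
        have hc0 : A 0 c = 0 := by
          by_contra hn
          exact hac (h.A_unique (show (0 : Fin 4) ≠ 1 by decide) ha0 ha1 hn hc1)
        by_cases hb3 : A 3 b = 0
        · by_cases hc3 : A 3 c = 0
          · exact (no_K h a b c ha0 ha1 hb0 hb2 hc1 hc2 ha3 hb3 hc3 hab hac hbc).elim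
          · -- `c` lies in `A 1, A 2, A 3` but not in `A 0`
            exact (no_T (h.perm ![1, 2, 3, 0] (by decide)) c hc1 hc2 hc3 hc0).elim
        · -- `b` lies in `A 0, A 2, A 3` but not in `A 1`
          exact (no_T (h.perm ![0, 2, 3, 1] (by decide)) b hb0 hb2 hb3 hb1).elim
      · -- `a` lies in `A 0, A 1, A 3` but not in `A 2`
        exact (no_T (h.perm ![0, 1, 3, 2] (by decide)) a ha0 ha1 ha3 ha2).elim
    · by_cases ha3 : A 3 a = 0
      · exact (no_T h a ha0 ha1 ha2 ha3).elim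
      · refine ⟨a, ?_⟩
        intro l
        fin_cases l
        · exact ha0
        · exact ha1
        · exact ha2
        · exact ha3
  obtain ⟨a, ha⟩ := hsun
  refine ⟨a, ha, ?_⟩
  intro k
  fin_cases k
  · exact core_not_in_B h a ha 0 1 2 3 (by decide) (by decide) (by decide) (by decide)
      (by decide) (by decide)
  · exact core_not_in_B h a ha 1 0 2 3 (by decide) (by decide) (by decide) (by decide)
      (by decide) (by decide)
  · exact core_not_in_B h a ha 2 0 1 3 (by decide) (by decide) (by decide) (by decide)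
      (by decide) (by decide)
  · exact core_not_in_B h a ha 3 0 1 2 (by decide) (by decide) (by decide) (by decide)
      (by decide) (by decide)

end Cfsg.Agent.Helper6.Arr
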