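import Mathlib
import Cfsg.Agent.Helper6.ArrD

/-!
# The cyclic TI array lemma (Peterfalvi (3.4)), coefficient form
-/

set_option autoImplicit false
set_option linter.style.haveILetI false
set_option linter.unusedSectionVars false
set_option linter.unusedVariables false

namespace Cfsg.Agent.Helper6.Arr

variable {ι : Type*} [Fintype ι] [DecidableEq ι]

theorem exists_ne3 {J : Type*} [Fintype J] [DecidableEq J] (hJ : 4 ≤ Fintype.card J)
    (j0 j1 j2 : J) : ∃ j3, j3 ≠ j0 ∧ j3 ≠ j1 ∧ j3 ≠ j2 := by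
  by_contra hc
  push Not at hc
  have hsub : (Finset.univ : Finset J) ⊆ {j0, j1, j2} := by
    intro j _
    simp only [Finset.mem_insert, Finset.mem_singleton]
    by_cases h0 : j = j0
    · exact Or.inl h0
    · by_cases h1 : j = j1
      · exact Or.inr (Or.inl h1)
      · exact Or.inr (Or.inr (hc j h0 h1))
  have h1 := Finset.card_le_card hsub
  rw [Finset.card_univ] at h1
  have h2 : ({j0, j1, j2} : Finset J).card ≤ 3 := Finset.card_le_three
  omega

theorem exists_inj4 {J : Type*} [Fintype J] [DecidableEq J] (hJ : 4 ≤ Fintype.card J)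
    (j0 j1 j2 : J) (h01 : j0 ≠ j1) (h02 : j0 ≠ j2) (h12 : j1 ≠ j2) :
    ∃ jj : Fin 4 → J, Function.Injective jj ∧ jj 0 = j0 ∧ jj 1 = j1 ∧ jj 2 = j2 := by
  obtain ⟨j3, h30, h31, h32⟩ := exists_ne3 hJ j0 j1 j2
  refine ⟨![j0, j1, j2, j3], ?_, rfl, rfl, rfl⟩
  intro a b hab
  fin_cases a <;> fin_cases b <;> simp at hab ⊢ <;>
    first
      | exact absurd hab h01 | exact absurd hab h02 | exact absurd hab h12
      | exact absurd hab.symm h01 | exact absurd hab.symm h02 | exact absurd hab.symm h12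
      | exact absurd hab h30 | exact absurd hab h31 | exact absurd hab h32
      | exact absurd hab.symm h30 | exact absurd hab.symm h31 | exact absurd hab.symm h32

theorem exists_inj4_one {J : Type*} [Fintype J] [DecidableEq J] (hJ : 4 ≤ Fintype.card J)
    (j0 : J) : ∃ jj : Fin 4 → J, Function.Injective jj ∧ jj 0 = j0 := by
  obtain ⟨j1, h1, -, -⟩ := exists_ne3 hJ j0 j0 j0
  obtain ⟨j2, h20, h21, -⟩ := exists_ne3 hJ j0 j1 j1
  obtain ⟨jj, hjj, e0, -, -⟩ := exists_inj4 hJ j0 j1 j2 (Ne.symm h1) (Ne.symm h20) (Ne.symm h21)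
  exact ⟨jj, hjj, e0⟩

theorem exists_inj4_two {J : Type*} [Fintype J] [DecidableEq J] (hJ : 4 ≤ Fintype.card J)
    (j0 j1 : J) (h01 : j0 ≠ j1) :
    ∃ jj : Fin 4 → J, Function.Injective jj ∧ jj 0 = j0 ∧ jj 1 = j1 := by
  obtain ⟨j2, h20, h21, -⟩ := exists_ne3 hJ j0 j1 j1
  obtain ⟨jj, hjj, e0, e1, -⟩ := exists_inj4 hJ j0 j1 j2 h01 (Ne.symm h20) (Ne.symm h21)
  exact ⟨jj, hjj, e0, e1⟩

theorem mul_eq_sq {P W : ι → ℤ} (hn : NoOpp P W) (hP : Tern P) (hW : Tern W) {a : ι}
    (ha : P a ≠ 0) : P a * W a = W a * W a := by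
  by_cases hw : W a = 0
  · rw [hw, mul_zero, mul_zero]
  · rw [hn.eq hP hW ha hw]

/-- the hypotheses of the array lemma -/
structure IsArray {I J : Type*} (X : I → J → ι → ℤ) : Prop where
  n3 : ∀ i j, dot (X i j) (X i j) = 3
  row : ∀ i j j', j ≠ j' → dot (X i j) (X i j') = 1
  col : ∀ i i' j, i ≠ i' → dot (X i j) (X i' j) = 1
  cross : ∀ i i' j j', i ≠ i' → j ≠ j' → dot (X i j) (X i' j') = 0
  nrow : ∀ i j j', NoOpp (X i j) (X i j')
  ncol : ∀ i i' j, NoOpp (X i j) (X i' j)

theorem IsArray.tern {I J : Type*} {X : I → J → ι → ℤ} (h : IsArray X) (i : I) (j : J) :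
    Tern (X i j) := tern_of_norm3 (h.n3 i j)

theorem IsArray.twoRows {I J : Type*} {X : I → J → ι → ℤ} (h : IsArray X) (i i' : I)
    (hii : i ≠ i') (jj : Fin 4 → J) (hjj : Function.Injective jj) :
    TwoRows (fun l => X i (jj l)) (fun l => X i' (jj l)) where
  hA := fun l => h.n3 _ _
  hB := fun l => h.n3 _ _
  hAA := fun j k hjk => h.row _ _ _ (fun e => hjk (hjj e))
  hBB := fun j k hjk => h.row _ _ _ (fun e => hjk (hjj e))
  hABd := fun j => h.col _ _ _ hii
  hAB0 := fun j k hjk => h.cross _ _ _ _ hii (fun e => hjk (hjj e))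
  nAA := fun j k => h.nrow _ _ _
  nBB := fun j k => h.nrow _ _ _
  nAB := fun j => h.ncol _ _ _

theorem IsArray.transpose {I J : Type*} {X : I → J → ι → ℤ} (h : IsArray X) :
    IsArray (fun (j : J) (i : I) => X i j) where
  n3 := fun j i => h.n3 i j
  row := fun j i i' hii => h.col i i' j hii
  col := fun j j' i hjj => h.row i j j' hjj
  cross := fun j j' i i' hjj hii => h.cross i i' j j' hii hjj
  nrow := fun j i i' => h.ncol i i' j
  ncol := fun j j' i => h.nrow i j j'

/-- the conclusion of the array lemma -/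
structure Decomp {I J : Type*} (X : I → J → ι → ℤ) (r : I → ι) (c : J → ι) (e : I → J → ι) :
    Prop where
  hr : ∀ i j, X i j (r i) ≠ 0
  hc : ∀ i j, X i j (c j) ≠ 0
  he : ∀ i j, X i j (e i j) ≠ 0
  rc : ∀ i j, r i ≠ c j
  re : ∀ i i' j', r i ≠ e i' j'
  ce : ∀ j i' j', c j ≠ e i' j'
  rconst : ∀ i j j', X i j (r i) = X i j' (r i)
  cconst : ∀ i i' j, X i j (c j) = X i' j (c j)
  rinj : Function.Injective r
  cinj : Function.Injective c
  einj : ∀ i j i' j', e i j = e i' j' → i = i' ∧ j = j'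

theorem Decomp.transpose {I J : Type*} {X : I → J → ι → ℤ} {r : I → ι} {c : J → ι}
    {e : I → J → ι} (h : Decomp (fun (j : J) (i : I) => X i j) c r (fun j i => e i j)) :
    Decomp X r c e where
  hr := fun i j => h.hc j i
  hc := fun i j => h.hr j i
  he := fun i j => h.he j i
  rc := fun i j => (h.rc j i).symm
  re := fun i i' j' => h.ce i j' i'
  ce := fun j i' j' => h.re j j' i'
  rconst := fun i j j' => h.cconst j j' i
  cconst := fun i i' j => h.rconst j i i'
  rinj := h.cinj
  cinj := h.rinj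
  einj := fun i j i' j' he => (h.einj j i j' i' he).symm

set_option maxHeartbeats 1000000 in
/-- the array lemma, with at least four columns -/
theorem array_decomp_aux {I J : Type*} [Fintype I] [Fintype J] [DecidableEq I] [DecidableEq J]
    (X : I → J → ι → ℤ) (h : IsArray X) (hI : 2 ≤ Fintype.card I) (hJ : 4 ≤ Fintype.card J)
    (hI3 : Fintype.card I ≠ 3) : ∃ (r : I → ι) (c : J → ι) (e : I → J → ι), Decomp X r c e := by
  classical
  -- two fixed columns and two fixed rows
  haveI : Nonempty J := by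
    apply Fintype.card_pos_iff.mp
    omega
  haveI : Nonempty I := by
    apply Fintype.card_pos_iff.mp
    omega
  obtain ⟨j0⟩ := ‹Nonempty J›
  obtain ⟨j1, hj10⟩ := Fintype.exists_ne_of_one_lt_card (show 1 < Fintype.card J by omega) j0
  obtain ⟨i0⟩ := ‹Nonempty I›
  obtain ⟨i1, hi10⟩ := Fintype.exists_ne_of_one_lt_card (show 1 < Fintype.card I by omega) i0
  have hother : ∀ i : I, ∃ i', i' ≠ i := fun i =>
    Fintype.exists_ne_of_one_lt_card (show 1 < Fintype.card I by omega) i
  -- row cores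
  have hrow : ∀ i, ∃ a, (∀ j, X i j a ≠ 0) ∧ ∀ i', i' ≠ i → ∀ j, X i' j a = 0 := by
    intro i
    obtain ⟨a, ha0, ha1, -⟩ := exists_common (h.tern i j0) (h.tern i j1) (h.nrow i j0 j1)
      (h.row i j0 j1 (Ne.symm hj10))
    have hall : ∀ j, X i j a ≠ 0 := by
      intro j
      by_cases hj0 : j = j0
      · rw [hj0]; exact ha0
      by_cases hj1 : j = j1
      · rw [hj1]; exact ha1
      obtain ⟨i', hi'⟩ := hother i
      obtain ⟨jj, hjj, e0, e1, e2⟩ := exists_inj4 hJ j0 j1 j (Ne.symm hj10) (Ne.symm hj0)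
        (Ne.symm hj1)
      obtain ⟨a', ha', -⟩ := core24 (h.twoRows i i' (Ne.symm hi') jj hjj)
      have h0 := ha' 0
      have h1 := ha' 1
      have h2 := ha' 2
      simp only [e0, e1, e2] at h0 h1 h2
      have : a' = a := common_unique (h.tern i j0) (h.tern i j1) (h.nrow i j0 j1)
        (h.row i j0 j1 (Ne.symm hj10)) h0 h1 ha0 ha1
      rw [← this]
      exact h2
    refine ⟨a, hall, ?_⟩
    intro i' hi' j
    obtain ⟨j', hj'⟩ := Fintype.exists_ne_of_one_lt_card (show 1 < Fintype.card J by omega) j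
    obtain ⟨jj, hjj, e0, e1⟩ := exists_inj4_two hJ j j' (Ne.symm hj')
    obtain ⟨a', ha', hb'⟩ := core24 (h.twoRows i i' (Ne.symm hi') jj hjj)
    have h0 := ha' 0
    have h1 := ha' 1
    have h2 := hb' 0
    simp only [e0, e1] at h0 h1 h2
    have : a' = a := common_unique (h.tern i j) (h.tern i j') (h.nrow i j j')
      (h.row i j j' (Ne.symm hj')) h0 h1 (hall j) (hall j')
    rw [← this]
    exact h2
  choose r hr hr0 using hrow
  -- column cores
  have hcol : ∀ j, ∃ a, ∀ i, X i j a ≠ 0 := by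
    intro j
    obtain ⟨a, ha0, ha1, -⟩ := exists_common (h.tern i0 j) (h.tern i1 j) (h.ncol i0 i1 j)
      (h.col i0 i1 j (Ne.symm hi10))
    refine ⟨a, ?_⟩
    intro i
    by_cases hi0 : i = i0
    · rw [hi0]; exact ha0
    by_cases hi1 : i = i1
    · rw [hi1]; exact ha1
    by_contra hia
    -- a fourth row
    have hI4 : 4 ≤ Fintype.card I := by
      have h3 : ({i0, i1, i} : Finset I).card = 3 := by
        rw [Finset.card_insert_of_notMem, Finset.card_pair (Ne.symm hi1)]
        simp only [Finset.mem_insert, Finset.mem_singleton, not_or]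
        exact ⟨Ne.symm hi10, Ne.symm hi0⟩
      have := Finset.card_le_univ ({i0, i1, i} : Finset I)
      omega
    obtain ⟨i3, h30, h31, h3i⟩ := exists_ne3 hI4 i0 i1 i
    obtain ⟨u, hu0, hui, -⟩ := exists_common (h.tern i0 j) (h.tern i j) (h.ncol i0 i j)
      (h.col i0 i j (Ne.symm hi0))
    obtain ⟨v, hv1, hvi, -⟩ := exists_common (h.tern i1 j) (h.tern i j) (h.ncol i1 i j)
      (h.col i1 i j (Ne.symm hi1))
    have hia' : X i j a = 0 := hia
    have hua : u ≠ a := fun e => hui (e ▸ hia')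
    have hva : v ≠ a := fun e => hvi (e ▸ hia')
    have huv : u ≠ v := fun e => hua (common_unique (h.tern i0 j) (h.tern i1 j) (h.ncol i0 i1 j)
      (h.col i0 i1 j (Ne.symm hi10)) hu0 (e ▸ hv1) ha0 ha1)
    -- the three atoms of each vector
    have hr0a : r i0 ≠ a := fun e => ha1 (e ▸ hr0 i0 i1 hi10 j)
    have hr0u : r i0 ≠ u := fun e => hui (e ▸ hr0 i0 i hi0 j)
    have hr1a : r i1 ≠ a := fun e => ha0 (e ▸ hr0 i1 i0 (Ne.symm hi10) j)
    have hr1v : r i1 ≠ v := fun e => hvi (e ▸ hr0 i1 i hi1 j)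
    have hriu : r i ≠ u := fun e => hu0 (e ▸ hr0 i i0 (Ne.symm hi0) j)
    have hriv : r i ≠ v := fun e => hv1 (e ▸ hr0 i i1 (Ne.symm hi1) j)
    have e0 := dot_of_three (h.n3 i0 j) hr0a hr0u (Ne.symm hua) (hr i0 j) ha0 hu0 (X i3 j)
    have e1 := dot_of_three (h.n3 i1 j) hr1a hr1v (Ne.symm hva) (hr i1 j) ha1 hv1 (X i3 j)
    have e2 := dot_of_three (h.n3 i j) hriu hriv huv (hr i j) hui hvi (X i3 j)
    rw [h.col i0 i3 j (Ne.symm h30), hr0 i0 i3 h30 j, mul_zero, zero_add,
      mul_eq_sq (h.ncol i0 i3 j) (h.tern i0 j) (h.tern i3 j) ha0,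
      mul_eq_sq (h.ncol i0 i3 j) (h.tern i0 j) (h.tern i3 j) hu0] at e0
    rw [h.col i1 i3 j (Ne.symm h31), hr0 i1 i3 h31 j, mul_zero, zero_add,
      mul_eq_sq (h.ncol i1 i3 j) (h.tern i1 j) (h.tern i3 j) ha1,
      mul_eq_sq (h.ncol i1 i3 j) (h.tern i1 j) (h.tern i3 j) hv1] at e1
    rw [h.col i i3 j (Ne.symm h3i), hr0 i i3 h3i j, mul_zero, zero_add,
      mul_eq_sq (h.ncol i i3 j) (h.tern i j) (h.tern i3 j) hui,
      mul_eq_sq (h.ncol i i3 j) (h.tern i j) (h.tern i3 j) hvi] at e2
    generalize X i3 j a * X i3 j a = Pa at *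
    generalize X i3 j u * X i3 j u = Pu at *
    generalize X i3 j v * X i3 j v = Pv at *
    omega
  choose c hc0 using hcol
  have hc : ∀ i j, X i j (c j) ≠ 0 := fun i j => hc0 j i
  have hrc : ∀ i j, r i ≠ c j := by
    intro i j e
    obtain ⟨i', hi'⟩ := hother i
    exact hc i' j (e ▸ hr0 i i' hi' j)
  have hthird : ∀ i j, ∃ z, z ≠ r i ∧ z ≠ c j ∧ X i j z ≠ 0 := fun i j =>
    exists_third (h.n3 i j) (hrc i j) (hr i j) (hc i j)
  choose e he1 he2 he using hthird
  have hrinj : Function.Injective r := by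
    intro i i' hii
    by_contra hne
    have := hr0 i i' (Ne.symm hne) j0
    rw [hii] at this
    exact hr i' j0 this
  have hcinj : Function.Injective c := by
    intro j j' hjj
    by_contra hne
    have h1 := hc i0 j
    have h2 := hc i0 j'
    rw [← hjj] at h2
    have := common_unique (h.tern i0 j) (h.tern i0 j') (h.nrow i0 j j') (h.row i0 j j' hne)
      h1 h2 (hr i0 j) (hr i0 j')
    exact hrc i0 j this.symm
  have hre : ∀ i i' j', r i ≠ e i' j' := by
    intro i i' j' heq
    by_cases hii : i' = i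
    · rw [hii] at heq
      exact he1 i j' heq.symm
    · exact he i' j' (heq ▸ hr0 i i' hii j')
  have hce : ∀ j i' j', c j ≠ e i' j' := by
    intro j i' j' heq
    by_cases hjj : j' = j
    · rw [hjj] at heq
      exact he2 i' j heq.symm
    · have h1 := hc i' j
      have h2 := he i' j'
      rw [← heq] at h2
      have := common_unique (h.tern i' j) (h.tern i' j') (h.nrow i' j j')
        (h.row i' j j' (Ne.symm hjj)) h1 h2 (hr i' j) (hr i' j')
      exact hrc i' j this.symm
  refine ⟨r, c, e, ⟨hr, hc, he, hrc, hre, hce, ?_, ?_, hrinj, hcinj, ?_⟩⟩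
  · intro i j j'
    exact (h.nrow i j j').eq (h.tern i j) (h.tern i j') (hr i j) (hr i j')
  · intro i i' j
    exact (h.ncol i i' j).eq (h.tern i j) (h.tern i' j) (hc i j) (hc i' j)
  · intro i j i' j' heq
    by_cases hii : i = i'
    · refine ⟨hii, ?_⟩
      by_contra hjj
      subst hii
      have h1 := he i j
      have h2 := he i j'
      rw [← heq] at h2
      have := common_unique (h.tern i j) (h.tern i j') (h.nrow i j j') (h.row i j j' hjj)
        h1 h2 (hr i j) (hr i j')
      exact he1 i j this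
    · exfalso
      by_cases hjj : j = j'
      · subst hjj
        have h1 := he i j
        have h2 := he i' j
        rw [← heq] at h2
        have := common_unique (h.tern i j) (h.tern i' j) (h.ncol i i' j) (h.col i i' j hii)
          h1 h2 (hc i j) (hc i' j)
        exact he2 i j this
      · have e0 := dot_of_three (h.n3 i j) (hrc i j) (hre i i j) (hce j i j) (hr i j) (hc i j)
          (he i j) (X i' j')
        rw [h.cross i i' j j' hii hjj, hr0 i i' (Ne.symm hii) j', mul_zero, zero_add] at e0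
        have hz : X i' j' (c j) = 0 :=
          zero_of_three (h.n3 i' j') (hrc i' j') (hre i' i' j') (hce j' i' j') (hr i' j')
            (hc i' j') (he i' j') (c j) (Ne.symm (hrc i' j)) (fun e => hjj (hcinj e))
            (hce j i' j')
        rw [hz, mul_zero, zero_add, heq] at e0
        have h1 := he i j
        rw [heq] at h1
        rcases mul_eq_zero.mp e0.symm with h3 | h3
        · exact h1 h3
        · exact he i' j' h3

/-- the array lemma (Peterfalvi (3.4)), coefficient form -/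
theorem array_decomp {I J : Type*} [Fintype I] [Fintype J] [DecidableEq I] [DecidableEq J]
    (X : I → J → ι → ℤ) (h : IsArray X) (hI : 2 ≤ Fintype.card I) (hJ : 2 ≤ Fintype.card J)
    (hI3 : Fintype.card I ≠ 3) (hJ3 : Fintype.card J ≠ 3)
    (h4 : 4 ≤ Fintype.card I ∨ 4 ≤ Fintype.card J) :
    ∃ (r : I → ι) (c : J → ι) (e : I → J → ι), Decomp X r c e := by
  rcases h4 with h4 | h4
  · obtain ⟨c, r, e, hd⟩ := array_decomp_aux (fun (j : J) (i : I) => X i j) h.transpose hJ h4 hJ3
    exact ⟨r, c, fun i j => e j i, Decomp.transpose hd⟩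
  · exact array_decomp_aux X h hI h4 hI3

end Cfsg.Agent.Helper6.Arr
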