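import Mathlib
import Cfsg.Agent.Helper6.ArrE

/-!
# Gluing the four pieces of a family indexed by pairs, and a perturbation lemma
-/

set_option autoImplicit false
set_option linter.style.haveILetI false
set_option linter.unusedSectionVars false
set_option linter.unusedVariables false

namespace Cfsg.Agent.Helper6.Arr

open scoped ComplexConjugate

section glue

variable {P Q S : Type*} [DecidableEq P] [DecidableEq Q] (p0 : P) (q0 : Q)

/-- glue a value, two families and an array into a function on pairs -/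
def glue (o : S) (r : {p : P // p ≠ p0} → S) (c : {q : Q // q ≠ q0} → S)
    (e : {p : P // p ≠ p0} → {q : Q // q ≠ q0} → S) (x : P × Q) : S :=
  if hp : x.1 = p0 then (if hq : x.2 = q0 then o else c ⟨x.2, hq⟩)
  else (if hq : x.2 = q0 then r ⟨x.1, hp⟩ else e ⟨x.1, hp⟩ ⟨x.2, hq⟩)

variable (o : S) (r : {p : P // p ≠ p0} → S) (c : {q : Q // q ≠ q0} → S)
    (e : {p : P // p ≠ p0} → {q : Q // q ≠ q0} → S)

theorem glue_zero : glue p0 q0 o r c e (p0, q0) = o := by
  unfold glue
  rw [dif_pos rfl, dif_pos rfl]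

theorem glue_left (p : P) (hp : p ≠ p0) : glue p0 q0 o r c e (p, q0) = r ⟨p, hp⟩ := by
  unfold glue
  rw [dif_neg hp, dif_pos rfl]

theorem glue_right (q : Q) (hq : q ≠ q0) : glue p0 q0 o r c e (p0, q) = c ⟨q, hq⟩ := by
  unfold glue
  rw [dif_pos rfl, dif_neg hq]

theorem glue_both (p : P) (hp : p ≠ p0) (q : Q) (hq : q ≠ q0) :
    glue p0 q0 o r c e (p, q) = e ⟨p, hp⟩ ⟨q, hq⟩ := by
  unfold glue
  rw [dif_neg hp, dif_neg hq]

/-- a property holding for the four pieces holds for the glued function -/
theorem glue_ind (T : S → Prop) (ho : T o) (hr : ∀ i, T (r i)) (hc : ∀ j, T (c j))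
    (he : ∀ i j, T (e i j)) (x : P × Q) : T (glue p0 q0 o r c e x) := by
  obtain ⟨p, q⟩ := x
  by_cases hp : p = p0
  · by_cases hq : q = q0
    · subst hp; subst hq
      rw [glue_zero]
      exact ho
    · subst hp
      rw [glue_right p q0 o r c e q hq]
      exact hc _
  · by_cases hq : q = q0
    · subst hq
      rw [glue_left p0 q o r c e p hp]
      exact hr _
    · rw [glue_both p0 q0 o r c e p hp q hq]
      exact he _ _

theorem glue_injective (hor : ∀ i, o ≠ r i) (hoc : ∀ j, o ≠ c j) (hoe : ∀ i j, o ≠ e i j)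
    (hrc : ∀ i j, r i ≠ c j) (hre : ∀ i i' j', r i ≠ e i' j') (hce : ∀ j i' j', c j ≠ e i' j')
    (hr : Function.Injective r) (hc : Function.Injective c)
    (he : ∀ i j i' j', e i j = e i' j' → i = i' ∧ j = j') :
    Function.Injective (glue p0 q0 o r c e) := by
  rintro ⟨p, q⟩ ⟨p', q'⟩ h
  by_cases hp : p = p0 <;> by_cases hq : q = q0 <;> by_cases hp' : p' = p0 <;>
    by_cases hq' : q' = q0
  · rw [hp, hq, hp', hq']
  · exfalso
    rw [hp, hq, hp', glue_zero, glue_right p0 q0 o r c e q' hq'] at h
    exact hoc _ h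
  · exfalso
    rw [hp, hq, hq', glue_zero, glue_left p0 q0 o r c e p' hp'] at h
    exact hor _ h
  · exfalso
    rw [hp, hq, glue_zero, glue_both p0 q0 o r c e p' hp' q' hq'] at h
    exact hoe _ _ h
  · exfalso
    rw [hp, hp', hq', glue_zero, glue_right p0 q0 o r c e q hq] at h
    exact hoc _ h.symm
  · rw [hp, hp', glue_right p0 q0 o r c e q hq, glue_right p0 q0 o r c e q' hq'] at h
    have := congrArg Subtype.val (hc h)
    rw [hp, hp']
    exact Prod.ext rfl this
  · exfalso
    rw [hp, hq', glue_right p0 q0 o r c e q hq, glue_left p0 q0 o r c e p' hp'] at h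
    exact hrc _ _ h.symm
  · exfalso
    rw [hp, glue_right p0 q0 o r c e q hq, glue_both p0 q0 o r c e p' hp' q' hq'] at h
    exact hce _ _ _ h
  · exfalso
    rw [hq, hp', hq', glue_zero, glue_left p0 q0 o r c e p hp] at h
    exact hor _ h.symm
  · exfalso
    rw [hq, hp', glue_left p0 q0 o r c e p hp, glue_right p0 q0 o r c e q' hq'] at h
    exact hrc _ _ h
  · rw [hq, hq', glue_left p0 q0 o r c e p hp, glue_left p0 q0 o r c e p' hp'] at h
    have := congrArg Subtype.val (hr h)
    rw [hq, hq']
    exact Prod.ext this rfl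
  · exfalso
    rw [hq, glue_left p0 q0 o r c e p hp, glue_both p0 q0 o r c e p' hp' q' hq'] at h
    exact hre _ _ _ h
  · exfalso
    rw [hp', hq', glue_zero, glue_both p0 q0 o r c e p hp q hq] at h
    exact hoe _ _ h.symm
  · exfalso
    rw [hp', glue_both p0 q0 o r c e p hp q hq, glue_right p0 q0 o r c e q' hq'] at h
    exact hce _ _ _ h.symm
  · exfalso
    rw [hq', glue_both p0 q0 o r c e p hp q hq, glue_left p0 q0 o r c e p' hp'] at h
    exact hre _ _ _ h.symm
  · rw [glue_both p0 q0 o r c e p hp q hq, glue_both p0 q0 o r c e p' hp' q' hq'] at h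
    obtain ⟨h1, h2⟩ := he _ _ _ _ h
    exact Prod.ext (congrArg Subtype.val h1) (congrArg Subtype.val h2)

end glue

/-- the perturbation lemma: an array `u a * v b + x a + y b` whose squared norms sum to at most
the number of entries has vanishing perturbation -/
theorem perturb_zero {A B : Type*} [Fintype A] [Fintype B] (u : A → ℂ) (v : B → ℂ)
    (hu : ∀ a, Complex.normSq (u a) = 1) (hv : ∀ b, Complex.normSq (v b) = 1)
    (hu0 : ∑ a, u a = 0) (hv0 : ∑ b, v b = 0) (x : A → ℂ) (y : B → ℂ)
    (hle : ∑ a, ∑ b, Complex.normSq (u a * v b + x a + y b) ≤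
      (Fintype.card A : ℝ) * Fintype.card B) :
    ∀ a b, x a + y b = 0 := by
  have key : ∀ a b, Complex.normSq (u a * v b + x a + y b) =
      1 + Complex.normSq (x a + y b) + 2 * (u a * v b * conj (x a + y b)).re := by
    intro a b
    rw [add_assoc, Complex.normSq_add, Complex.normSq_mul, hu, hv]
    ring
  have hz : ∑ a, ∑ b, u a * v b * conj (x a + y b) = 0 := by
    have h1 : ∀ a, ∑ b, u a * v b * conj (x a + y b) =
        u a * conj (x a) * ∑ b, v b + u a * ∑ b, v b * conj (y b) := by
      intro a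
      rw [Finset.mul_sum, Finset.mul_sum, ← Finset.sum_add_distrib]
      apply Finset.sum_congr rfl
      intro b _
      rw [map_add]
      ring
    simp_rw [h1, hv0, mul_zero, zero_add]
    rw [← Finset.sum_mul, hu0, zero_mul]
  have hsum : ∑ a, ∑ b, Complex.normSq (u a * v b + x a + y b) =
      (Fintype.card A : ℝ) * Fintype.card B + ∑ a, ∑ b, Complex.normSq (x a + y b) := by
    simp_rw [key, Finset.sum_add_distrib]
    have h2 : ∑ a : A, ∑ b : B, 2 * (u a * v b * conj (x a + y b)).re = 0 := by
      have : ∑ a : A, ∑ b : B, 2 * (u a * v b * conj (x a + y b)).re =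
          2 * (∑ a, ∑ b, u a * v b * conj (x a + y b)).re := by
        rw [Complex.re_sum, Finset.mul_sum]
        apply Finset.sum_congr rfl
        intro a _
        rw [Complex.re_sum, Finset.mul_sum]
      rw [this, hz]
      simp
    rw [h2, add_zero]
    simp only [Finset.sum_const, Finset.card_univ, nsmul_eq_mul, mul_one]
  rw [hsum] at hle
  have hle0 : ∑ a, ∑ b, Complex.normSq (x a + y b) ≤ 0 := by linarith
  have hnn : ∀ a ∈ (Finset.univ : Finset A), 0 ≤ ∑ b, Complex.normSq (x a + y b) :=
    fun a _ => Finset.sum_nonneg (fun b _ => Complex.normSq_nonneg _)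
  have heq0 := le_antisymm hle0 (Finset.sum_nonneg hnn)
  intro a b
  have h3 := (Finset.sum_eq_zero_iff_of_nonneg hnn).mp heq0 a (Finset.mem_univ a)
  have h4 := (Finset.sum_eq_zero_iff_of_nonneg
    (fun b _ => Complex.normSq_nonneg (x a + y b))).mp h3 b (Finset.mem_univ b)
  exact Complex.normSq_eq_zero.mp h4

end Cfsg.Agent.Helper6.Arr
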