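import Mathlib
import Cfsg.Prelude.Def_Characters
import Cfsg.Prelude.Def_OddOrderLocal
import Cfsg.Agent.Helper6.IndFun
import Cfsg.Agent.Helper6.ClassInner

/-!
# Induction from a self-normalising cyclic subgroup `W = W₁ ⊔ W₂`: the trivial-intersection property
-/

set_option autoImplicit false
set_option linter.style.haveILetI false

namespace Cfsg.Agent.Helper6

open scoped ComplexConjugate

universe u

variable {G : Type u} [Group G]

/-- an element conjugating an element of `W` outside `W₁ ∪ W₂` into `W` lies in `W` -/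
theorem mem_of_conj_mem_of_selfNormalizing [Finite G] (W₁ W₂ : Subgroup G)
    (hW : Cfsg.IsSelfNormalizingCyclic W₁ W₂) (w' x : G) (hw' : w' ∈ W₁ ⊔ W₂) (hw'1 : w' ∉ W₁)
    (hw'2 : w' ∉ W₂) (hw : x * w' * x⁻¹ ∈ W₁ ⊔ W₂) : x ∈ W₁ ⊔ W₂ := by
  obtain ⟨-, -, -, -, hcyc, hnorm⟩ := hW
  haveI := hcyc
  -- `W` is abelian
  have hab : ∀ a ∈ W₁ ⊔ W₂, ∀ b ∈ W₁ ⊔ W₂, a * b = b * a := by
    intro a ha b hb
    obtain ⟨g₀, hg₀⟩ := IsCyclic.exists_generator (α := ↥(W₁ ⊔ W₂))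
    obtain ⟨i, hi⟩ := Subgroup.mem_zpowers_iff.mp (hg₀ ⟨a, ha⟩)
    obtain ⟨j, hj⟩ := Subgroup.mem_zpowers_iff.mp (hg₀ ⟨b, hb⟩)
    have h1 : (⟨a, ha⟩ : ↥(W₁ ⊔ W₂)) * ⟨b, hb⟩ = ⟨b, hb⟩ * ⟨a, ha⟩ := by
      rw [← hi, ← hj, ← zpow_add, ← zpow_add, add_comm]
    exact congrArg Subtype.val h1
  -- the centralizer of `w'` is `W`
  have hcent : ∀ g : G, g * w' * g⁻¹ = w' → g ∈ W₁ ⊔ W₂ := by
    intro g hg
    have h1 := hnorm {w'} (by
      rw [Set.singleton_subset_iff]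
      exact ⟨hw', fun h => h.elim hw'1 hw'2⟩) (Set.singleton_nonempty _)
    rw [← h1, Subgroup.mem_set_normalizer_iff]
    intro n
    simp only [Set.mem_singleton_iff]
    constructor
    · rintro rfl
      exact hg
    · intro h2
      have h3 : n = g⁻¹ * (g * n * g⁻¹) * g := by group
      rw [h3, h2]
      have h4 : g⁻¹ * w' * g = g⁻¹ * (g * w' * g⁻¹) * g := by rw [hg]
      rw [h4]
      group
  -- `x⁻¹ W x ⊆ W`
  have hconj : ∀ u ∈ W₁ ⊔ W₂, x⁻¹ * u * x ∈ W₁ ⊔ W₂ := by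
    intro u hu
    apply hcent
    have h1 := hab u hu _ hw
    calc x⁻¹ * u * x * w' * (x⁻¹ * u * x)⁻¹
        = x⁻¹ * (u * (x * w' * x⁻¹)) * u⁻¹ * x := by group
      _ = x⁻¹ * ((x * w' * x⁻¹) * u) * u⁻¹ * x := by rw [h1]
      _ = w' := by group
  -- hence `x W x⁻¹ ⊆ W`
  have hconj' : ∀ u ∈ W₁ ⊔ W₂, x * u * x⁻¹ ∈ W₁ ⊔ W₂ := by
    intro u hu
    obtain ⟨f, hf⟩ : ∃ f : ↥(W₁ ⊔ W₂) → ↥(W₁ ⊔ W₂), ∀ v, ((f v : ↥(W₁ ⊔ W₂)) : G) =
        x⁻¹ * v * x := ⟨fun v => ⟨x⁻¹ * v * x, hconj v v.2⟩, fun v => rfl⟩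
    have hinj : Function.Injective f := by
      intro v v' hvv
      have h1 := congrArg Subtype.val hvv
      rw [hf, hf] at h1
      apply Subtype.ext
      have h2 : (v : G) = x * (x⁻¹ * v * x) * x⁻¹ := by group
      rw [h2, h1]
      group
    obtain ⟨v, hv⟩ := (Finite.injective_iff_surjective.mp hinj) ⟨u, hu⟩
    have h1 := congrArg Subtype.val hv
    rw [hf] at h1
    have h2 : x * u * x⁻¹ = v := by
      rw [show u = x⁻¹ * (v : G) * x from h1.symm]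
      group
    rw [h2]
    exact v.2
  -- conjugation acts as a power map
  obtain ⟨g₀, hg₀⟩ := IsCyclic.exists_generator (α := ↥(W₁ ⊔ W₂))
  have hpow : ∀ y : G, (∀ u ∈ W₁ ⊔ W₂, y * u * y⁻¹ ∈ W₁ ⊔ W₂) →
      ∃ k : ℤ, ∀ u ∈ W₁ ⊔ W₂, y * u * y⁻¹ = u ^ k := by
    intro y hy
    obtain ⟨k, hk⟩ := Subgroup.mem_zpowers_iff.mp (hg₀ ⟨y * g₀ * y⁻¹, hy g₀ g₀.2⟩)
    have hk' : y * (g₀ : G) * y⁻¹ = (g₀ : G) ^ k := by
      have := congrArg Subtype.val hk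
      rw [Subgroup.coe_zpow] at this
      exact this.symm
    refine ⟨k, fun u hu => ?_⟩
    obtain ⟨i, hi⟩ := Subgroup.mem_zpowers_iff.mp (hg₀ ⟨u, hu⟩)
    have hi' : u = (g₀ : G) ^ i := by
      have := congrArg Subtype.val hi
      rw [Subgroup.coe_zpow] at this
      exact this.symm
    have h1 : y * (g₀ : G) ^ i * y⁻¹ = (y * (g₀ : G) * y⁻¹) ^ i := by
      have := map_zpow (MulAut.conj y) (g₀ : G) i
      simp only [MulAut.conj_apply] at this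
      exact this
    rw [hi', h1, hk', ← zpow_mul, ← zpow_mul, mul_comm]
  obtain ⟨k, hk⟩ := hpow x hconj'
  obtain ⟨k', hk'⟩ := hpow x⁻¹ (by
    intro u hu
    rw [inv_inv]
    exact hconj u hu)
  have hsub : ∀ (H : Subgroup G), ∀ u ∈ W₁ ⊔ W₂, (u ∈ H ↔ x * u * x⁻¹ ∈ H) := by
    intro H u hu
    constructor
    · intro h
      rw [hk u hu]
      exact H.zpow_mem h k
    · intro h
      have h1 := hk' (x * u * x⁻¹) (hconj' u hu)
      rw [inv_inv] at h1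
      have h2 : u = x⁻¹ * (x * u * x⁻¹) * x := by group
      rw [h2, h1]
      exact H.zpow_mem h k'
  -- `x` normalizes `W ∖ (W₁ ∪ W₂)`
  have h1 := hnorm ((↑(W₁ ⊔ W₂) : Set G) \ (↑W₁ ∪ ↑W₂)) (le_refl _)
    ⟨w', hw', fun h => h.elim hw'1 hw'2⟩
  rw [← h1, Subgroup.mem_set_normalizer_iff]
  intro n
  constructor
  · rintro ⟨hn, hn'⟩
    refine ⟨hconj' n hn, ?_⟩
    rintro (h | h)
    · exact hn' (Or.inl ((hsub W₁ n hn).mpr h))
    · exact hn' (Or.inr ((hsub W₂ n hn).mpr h))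
  · rintro ⟨hn, hn'⟩
    have hnW : n ∈ W₁ ⊔ W₂ := by
      have h2 := hconj _ hn
      have h3 : x⁻¹ * (x * n * x⁻¹) * x = n := by group
      rwa [h3] at h2
    refine ⟨hnW, ?_⟩
    rintro (h | h)
    · exact hn' (Or.inl ((hsub W₁ n hnW).mp h))
    · exact hn' (Or.inr ((hsub W₂ n hnW).mp h))

end Cfsg.Agent.Helper6
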