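import Mathlib
import Cfsg.Prelude.Def_Characters
import Cfsg.Prelude.Def_OddOrderLocal
import Cfsg.Agent.Helper6.TIIndA
import Cfsg.Agent.Helper6.Linear
import Cfsg.Agent.Helper6.CharBasic

/-!
# Induction from a self-normalising cyclic subgroup: the isometry on functions vanishing on
`W₁ ∪ W₂`
-/

set_option autoImplicit false
set_option linter.style.haveILetI false

namespace Cfsg.Agent.Helper6

open scoped ComplexConjugate

universe u

variable {G : Type u} [Group G]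

/-- a self-normalising cyclic subgroup is abelian -/
theorem comm_of_selfNormalizing (W₁ W₂ : Subgroup G) (hW : Cfsg.IsSelfNormalizingCyclic W₁ W₂) :
    ∀ a ∈ W₁ ⊔ W₂, ∀ b ∈ W₁ ⊔ W₂, a * b = b * a := by
  obtain ⟨-, -, -, -, hcyc, -⟩ := hW
  haveI := hcyc
  intro a ha b hb
  obtain ⟨g₀, hg₀⟩ := IsCyclic.exists_generator (α := ↥(W₁ ⊔ W₂))
  obtain ⟨i, hi⟩ := Subgroup.mem_zpowers_iff.mp (hg₀ ⟨a, ha⟩)
  obtain ⟨j, hj⟩ := Subgroup.mem_zpowers_iff.mp (hg₀ ⟨b, hb⟩)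
  have h1 : (⟨a, ha⟩ : ↥(W₁ ⊔ W₂)) * ⟨b, hb⟩ = ⟨b, hb⟩ * ⟨a, ha⟩ := by
    rw [← hi, ← hj, ← zpow_add, ← zpow_add, add_comm]
  exact congrArg Subtype.val h1

/-- the induced function of a function vanishing on `W₁ ∪ W₂` agrees with it on `W` -/
theorem indFun_apply_of_selfNormalizing [Fintype G] (W₁ W₂ : Subgroup G)
    (hW : Cfsg.IsSelfNormalizingCyclic W₁ W₂) (β : ↥(W₁ ⊔ W₂) → ℂ)
    (hβ : ∀ w : ↥(W₁ ⊔ W₂), ((w : G) ∈ W₁ ∨ (w : G) ∈ W₂) → β w = 0)
    (w : ↥(W₁ ⊔ W₂)) :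
    Cfsg.indFun (W₁ ⊔ W₂) β (w : G) = β w := by
  classical
  haveI : Fintype ↥(W₁ ⊔ W₂) := Fintype.ofFinite _
  have hab := comm_of_selfNormalizing W₁ W₂ hW
  rw [indFun_apply]
  have hterm : ∀ x : G, Cfsg.extendByZero (W₁ ⊔ W₂) β (x⁻¹ * (w : G) * x) =
      Cfsg.extendByZero (W₁ ⊔ W₂) (fun _ => β w) x := by
    intro x
    by_cases hx : x ∈ W₁ ⊔ W₂
    · rw [extendByZero_mem _ _ hx]
      have h1 : x⁻¹ * (w : G) * x = w := by
        have := hab x hx w w.2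
        calc x⁻¹ * (w : G) * x = x⁻¹ * ((w : G) * x) := by group
          _ = x⁻¹ * (x * (w : G)) := by rw [this]
          _ = w := by group
      rw [h1, extendByZero_coe]
    · rw [extendByZero_not_mem _ _ hx]
      by_cases hc : x⁻¹ * (w : G) * x ∈ W₁ ⊔ W₂
      · rw [extendByZero_mem _ _ hc]
        by_cases h12 : x⁻¹ * (w : G) * x ∈ W₁ ∨ x⁻¹ * (w : G) * x ∈ W₂
        · exact hβ ⟨_, hc⟩ h12
        · exfalso
          apply hx
          push Not at h12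
          apply mem_of_conj_mem_of_selfNormalizing W₁ W₂ hW (x⁻¹ * (w : G) * x) x hc h12.1 h12.2
          have : x * (x⁻¹ * (w : G) * x) * x⁻¹ = w := by group
          rw [this]
          exact w.2
      · exact extendByZero_not_mem _ _ hc
  rw [Finset.sum_congr rfl (fun x _ => hterm x), sum_extendByZero, Finset.sum_const,
    Finset.card_univ, nsmul_eq_mul, ← Nat.card_eq_fintype_card, ← mul_assoc,
    inv_mul_cancel₀, one_mul]
  exact_mod_cast Nat.card_pos.ne'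

/-- induction from a self-normalising cyclic subgroup is an isometry on the functions vanishing
on `W₁ ∪ W₂` -/
theorem classInner_indFun_of_selfNormalizing [Fintype G] (W₁ W₂ : Subgroup G)
    (hW : Cfsg.IsSelfNormalizingCyclic W₁ W₂) [Fintype ↥(W₁ ⊔ W₂)] (α β : ↥(W₁ ⊔ W₂) → ℂ)
    (hβ : ∀ w : ↥(W₁ ⊔ W₂), ((w : G) ∈ W₁ ∨ (w : G) ∈ W₂) → β w = 0) :
    Cfsg.classInner (Cfsg.indFun (W₁ ⊔ W₂) α) (Cfsg.indFun (W₁ ⊔ W₂) β) =
      Cfsg.classInner α β := by
  rw [frobenius_reciprocity (W₁ ⊔ W₂) α _ (indFun_isClassFunction _ β), classInner_def,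
    classInner_def]
  congr 1
  apply Finset.sum_congr rfl
  intro w _
  rw [indFun_apply_of_selfNormalizing W₁ W₂ hW β hβ w]

end Cfsg.Agent.Helper6
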