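import Mathlib
import Cfsg.Prelude.Def_Characters
import Cfsg.Prelude.Def_OddOrderLocal
import Cfsg.Agent.Helper6.TIIndB
import Cfsg.Agent.Helper6.Linear
import Cfsg.Agent.Helper6.CharBasic

/-!
# Induction from a self-normalising cyclic subgroup: the functions `(1 − φ)(1 − ψ)`
-/

set_option autoImplicit false
set_option linter.style.haveILetI false

namespace Cfsg.Agent.Helper6

open scoped ComplexConjugate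

universe u

variable {G : Type u} [Group G]

/-- homomorphisms on `W₁ ⊔ W₂` agreeing on `W₁` and on `W₂` are equal -/
theorem hom_ext_of_sup (W₁ W₂ : Subgroup G) (ω ω' : ↥(W₁ ⊔ W₂) →* ℂˣ)
    (h1 : ∀ w : ↥(W₁ ⊔ W₂), (w : G) ∈ W₁ → ω w = ω' w)
    (h2 : ∀ w : ↥(W₁ ⊔ W₂), (w : G) ∈ W₂ → ω w = ω' w) : ω = ω' := by
  have hle : W₁ ⊔ W₂ ≤ (MonoidHom.eqLocus ω ω').map (W₁ ⊔ W₂).subtype := by
    apply sup_le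
    · intro a ha
      exact ⟨⟨a, Subgroup.mem_sup_left ha⟩, h1 _ ha, rfl⟩
    · intro a ha
      exact ⟨⟨a, Subgroup.mem_sup_right ha⟩, h2 _ ha, rfl⟩
  ext w
  obtain ⟨v, hv, hvw⟩ := hle w.2
  have : v = w := Subtype.ext hvw
  rw [← this]
  exact congrArg Units.val hv

/-- the product of a homomorphism trivial on `W₂` and one trivial on `W₁` determines both -/
theorem mul_eq_mul_iff_of_sup (W₁ W₂ : Subgroup G) (φ φ' ψ ψ' : ↥(W₁ ⊔ W₂) →* ℂˣ)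
    (hφ : ∀ w : ↥(W₁ ⊔ W₂), (w : G) ∈ W₂ → φ w = 1)
    (hφ' : ∀ w : ↥(W₁ ⊔ W₂), (w : G) ∈ W₂ → φ' w = 1)
    (hψ : ∀ w : ↥(W₁ ⊔ W₂), (w : G) ∈ W₁ → ψ w = 1)
    (hψ' : ∀ w : ↥(W₁ ⊔ W₂), (w : G) ∈ W₁ → ψ' w = 1) :
    φ * ψ = φ' * ψ' ↔ φ = φ' ∧ ψ = ψ' := by
  constructor
  · intro h
    have hw : ∀ w : ↥(W₁ ⊔ W₂), φ w * ψ w = φ' w * ψ' w := fun w => by
      have := DFunLike.congr_fun h w
      simpa using this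
    constructor
    · apply hom_ext_of_sup
      · intro w hw1
        have := hw w
        rwa [hψ w hw1, hψ' w hw1, mul_one, mul_one] at this
      · intro w hw2
        rw [hφ w hw2, hφ' w hw2]
    · apply hom_ext_of_sup
      · intro w hw1
        rw [hψ w hw1, hψ' w hw1]
      · intro w hw2
        have := hw w
        rwa [hφ w hw2, hφ' w hw2, one_mul, one_mul] at this
  · rintro ⟨rfl, rfl⟩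
    rfl

/-- orthogonality of linear characters -/
theorem classInner_hom_hom {W : Type u} [Group W] [Fintype W] (ω ω' : W →* ℂˣ) (a : ℂ)
    (ha : ω = ω' → a = 1) (ha' : ω ≠ ω' → a = 0) :
    Cfsg.classInner (fun w => ((ω w : ℂˣ) : ℂ)) (fun w => ((ω' w : ℂˣ) : ℂ)) = a := by
  by_cases h : ω = ω'
  · rw [ha h, h]
    exact classInner_irr_self (isIrrCharacter_of_hom ω')
  · rw [ha' h]
    apply classInner_irr_ne (isIrrCharacter_of_hom ω) (isIrrCharacter_of_hom ω')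
    intro hfun
    apply h
    ext w
    exact congrFun hfun w

set_option maxHeartbeats 1600000 in
/-- the inner products of the functions induced from `(1 − φ)(1 − ψ)` -/
theorem selfNormalizing_induced_inner [Fintype G] (W₁ W₂ : Subgroup G)
    (hW : Cfsg.IsSelfNormalizingCyclic W₁ W₂) (φ φ' ψ ψ' : ↥(W₁ ⊔ W₂) →* ℂˣ)
    (hφ : φ ≠ 1) (hφ' : φ' ≠ 1) (hψ : ψ ≠ 1) (hψ' : ψ' ≠ 1)
    (hφ₂ : ∀ w : ↥(W₁ ⊔ W₂), (w : G) ∈ W₂ → φ w = 1 ∧ φ' w = 1)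
    (hψ₁ : ∀ w : ↥(W₁ ⊔ W₂), (w : G) ∈ W₁ → ψ w = 1 ∧ ψ' w = 1) (a b : ℂ)
    (ha : φ = φ' → a = 1) (ha' : φ ≠ φ' → a = 0) (hb : ψ = ψ' → b = 1) (hb' : ψ ≠ ψ' → b = 0) :
    Cfsg.classInner (Cfsg.indFun (W₁ ⊔ W₂)
        (fun w => 1 - (φ w : ℂ) - (ψ w : ℂ) + (φ w : ℂ) * (ψ w : ℂ))) (fun _ => 1) = 1 ∧
      Cfsg.classInner (Cfsg.indFun (W₁ ⊔ W₂)
        (fun w => 1 - (φ w : ℂ) - (ψ w : ℂ) + (φ w : ℂ) * (ψ w : ℂ)))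
        (Cfsg.indFun (W₁ ⊔ W₂)
          (fun w => 1 - (φ' w : ℂ) - (ψ' w : ℂ) + (φ' w : ℂ) * (ψ' w : ℂ))) =
        1 + a + b + a * b := by
  classical
  haveI : Fintype ↥(W₁ ⊔ W₂) := Fintype.ofFinite _
  -- notation
  obtain ⟨f, hf⟩ : ∃ f : (↥(W₁ ⊔ W₂) →* ℂˣ) → ↥(W₁ ⊔ W₂) → ℂ,
      ∀ ω w, f ω w = ((ω w : ℂˣ) : ℂ) := ⟨fun ω w => ((ω w : ℂˣ) : ℂ), fun _ _ => rfl⟩
  have hfun : ∀ ω : ↥(W₁ ⊔ W₂) →* ℂˣ, f ω = fun w => ((ω w : ℂˣ) : ℂ) := fun ω => funext (hf ω)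
  have hα : ∀ φ₀ ψ₀ : ↥(W₁ ⊔ W₂) →* ℂˣ,
      (fun w => 1 - (φ₀ w : ℂ) - (ψ₀ w : ℂ) + (φ₀ w : ℂ) * (ψ₀ w : ℂ)) =
        f (1 * 1) - f (φ₀ * 1) - f (1 * ψ₀) + f (φ₀ * ψ₀) := by
    intro φ₀ ψ₀
    funext w
    simp only [Pi.add_apply, Pi.sub_apply, hf, mul_one, one_mul, MonoidHom.one_apply,
      MonoidHom.mul_apply, Units.val_one, Units.val_mul]
  have T2φ : ∀ w : ↥(W₁ ⊔ W₂), (w : G) ∈ W₂ → φ w = 1 := fun w h => (hφ₂ w h).1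
  have T2φ' : ∀ w : ↥(W₁ ⊔ W₂), (w : G) ∈ W₂ → φ' w = 1 := fun w h => (hφ₂ w h).2
  have T1ψ : ∀ w : ↥(W₁ ⊔ W₂), (w : G) ∈ W₁ → ψ w = 1 := fun w h => (hψ₁ w h).1
  have T1ψ' : ∀ w : ↥(W₁ ⊔ W₂), (w : G) ∈ W₁ → ψ' w = 1 := fun w h => (hψ₁ w h).2
  have T1 : ∀ w : ↥(W₁ ⊔ W₂), (w : G) ∈ W₁ → (1 : ↥(W₁ ⊔ W₂) →* ℂˣ) w = 1 := fun _ _ => rfl
  have T2 : ∀ w : ↥(W₁ ⊔ W₂), (w : G) ∈ W₂ → (1 : ↥(W₁ ⊔ W₂) →* ℂˣ) w = 1 := fun _ _ => rfl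
  -- the general inner product
  have key : ∀ φ₁ φ₂ ψ₁ ψ₂ : ↥(W₁ ⊔ W₂) →* ℂˣ,
      (∀ w : ↥(W₁ ⊔ W₂), (w : G) ∈ W₂ → φ₁ w = 1) →
      (∀ w : ↥(W₁ ⊔ W₂), (w : G) ∈ W₂ → φ₂ w = 1) →
      (∀ w : ↥(W₁ ⊔ W₂), (w : G) ∈ W₁ → ψ₁ w = 1) →
      (∀ w : ↥(W₁ ⊔ W₂), (w : G) ∈ W₁ → ψ₂ w = 1) →
      Cfsg.classInner (f (φ₁ * ψ₁)) (f (φ₂ * ψ₂)) =
        (if φ₁ = φ₂ then 1 else 0) * (if ψ₁ = ψ₂ then 1 else 0) := by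
    intro φ₁ φ₂ ψ₁ ψ₂ h1 h2 h3 h4
    rw [hfun, hfun]
    apply classInner_hom_hom
    · intro h
      obtain ⟨e1, e2⟩ := (mul_eq_mul_iff_of_sup W₁ W₂ φ₁ φ₂ ψ₁ ψ₂ h1 h2 h3 h4).mp h
      rw [if_pos e1, if_pos e2, mul_one]
    · intro h
      by_cases e1 : φ₁ = φ₂
      · by_cases e2 : ψ₁ = ψ₂
        · exact absurd ((mul_eq_mul_iff_of_sup W₁ W₂ φ₁ φ₂ ψ₁ ψ₂ h1 h2 h3 h4).mpr ⟨e1, e2⟩) h
        · rw [if_neg e2, mul_zero]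
      · rw [if_neg e1, zero_mul]
  have hvan : ∀ φ₀ ψ₀ : ↥(W₁ ⊔ W₂) →* ℂˣ,
      (∀ w : ↥(W₁ ⊔ W₂), (w : G) ∈ W₂ → φ₀ w = 1) →
      (∀ w : ↥(W₁ ⊔ W₂), (w : G) ∈ W₁ → ψ₀ w = 1) →
      ∀ w : ↥(W₁ ⊔ W₂), ((w : G) ∈ W₁ ∨ (w : G) ∈ W₂) →
        (fun w => 1 - (φ₀ w : ℂ) - (ψ₀ w : ℂ) + (φ₀ w : ℂ) * (ψ₀ w : ℂ)) w = 0 := by
    intro φ₀ ψ₀ h1 h2 w hw
    rcases hw with hw | hw
    · simp only [h2 w hw, Units.val_one]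
      ring
    · simp only [h1 w hw, Units.val_one]
      ring
  have hφ1 : (1 : ↥(W₁ ⊔ W₂) →* ℂˣ) ≠ φ := fun h => hφ h.symm
  have hφ'1 : (1 : ↥(W₁ ⊔ W₂) →* ℂˣ) ≠ φ' := fun h => hφ' h.symm
  have hψ1 : (1 : ↥(W₁ ⊔ W₂) →* ℂˣ) ≠ ψ := fun h => hψ h.symm
  have hψ'1 : (1 : ↥(W₁ ⊔ W₂) →* ℂˣ) ≠ ψ' := fun h => hψ' h.symm
  constructor
  · rw [frobenius_reciprocity (W₁ ⊔ W₂) _ _ (fun _ _ => rfl)]
    have h1 : (fun _ : ↥(W₁ ⊔ W₂) => (1 : ℂ)) = f (1 * 1) := by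
      funext w
      rw [hf]
      simp
    rw [hα φ ψ, h1, classInner_add_left, classInner_sub_left, classInner_sub_left,
      key 1 1 1 1 T2 T2 T1 T1, key φ 1 1 1 T2φ T2 T1 T1, key 1 1 ψ 1 T2 T2 T1ψ T1,
      key φ 1 ψ 1 T2φ T2 T1ψ T1]
    simp only [if_true, if_neg hφ, if_neg hψ]
    ring
  · rw [classInner_indFun_of_selfNormalizing W₁ W₂ hW _ _ (hvan φ' ψ' T2φ' T1ψ'), hα φ ψ,
      hα φ' ψ']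
    simp only [classInner_add_left, classInner_sub_left, classInner_add_right,
      classInner_sub_right]
    rw [key 1 1 1 1 T2 T2 T1 T1, key 1 φ' 1 1 T2 T2φ' T1 T1, key 1 1 1 ψ' T2 T2 T1 T1ψ',
      key 1 φ' 1 ψ' T2 T2φ' T1 T1ψ',
      key φ 1 1 1 T2φ T2 T1 T1, key φ φ' 1 1 T2φ T2φ' T1 T1, key φ 1 1 ψ' T2φ T2 T1 T1ψ',
      key φ φ' 1 ψ' T2φ T2φ' T1 T1ψ',
      key 1 1 ψ 1 T2 T2 T1ψ T1, key 1 φ' ψ 1 T2 T2φ' T1ψ T1, key 1 1 ψ ψ' T2 T2 T1ψ T1ψ',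
      key 1 φ' ψ ψ' T2 T2φ' T1ψ T1ψ',
      key φ 1 ψ 1 T2φ T2 T1ψ T1, key φ φ' ψ 1 T2φ T2φ' T1ψ T1, key φ 1 ψ ψ' T2φ T2 T1ψ T1ψ',
      key φ φ' ψ ψ' T2φ T2φ' T1ψ T1ψ']
    simp only [if_true, if_neg hφ, if_neg hψ, if_neg hφ'1, if_neg hψ'1]
    by_cases e1 : φ = φ' <;> by_cases e2 : ψ = ψ'
    · rw [if_pos e1, if_pos e2, ha e1, hb e2]; ring
    · rw [if_pos e1, if_neg e2, ha e1, hb' e2]; ring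
    · rw [if_neg e1, if_pos e2, ha' e1, hb e2]; ring
    · rw [if_neg e1, if_neg e2, ha' e1, hb' e2]; ring

end Cfsg.Agent.Helper6
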