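import Mathlib
import Cfsg.Prelude.Def_Characters
import Cfsg.Prelude.Def_OddOrderChar
import Cfsg.Prelude.Def_OddOrderLocal
import Cfsg.Agent.Helper6.ArrF
import Cfsg.Agent.Helper6.CoherA
import Cfsg.Agent.Helper6.Expansion
import Cfsg.Agent.Helper6.ColumnOrth
import Cfsg.Agent.Helper6.OddReal
import Cfsg.Agent.Helper6.SibDownB
import Cfsg.Agent.Helper6.CycTIB
import Cfsg.Agent.Helper6.TIIndC
import Cfsg.Agent.Helper6.IrrDegree
import Cfsg.Agent.Helper6.Degrees
import Cfsg.Agent.Helper6.CycM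

/-!
# Coefficient vectors of class functions; the functions `(1 − φ)(1 − ψ)`
-/

set_option autoImplicit false
set_option linter.style.haveILetI false
set_option linter.unusedSectionVars false
set_option linter.unusedVariables false

namespace Cfsg.Agent.Helper6.Arr

open scoped ComplexConjugate

universe u

section pure

variable {ι : Type*} [Fintype ι] [DecidableEq ι]

theorem dot_sub_single (a a' : ι → ℤ) (o : ι) (h : a o = 1) (h' : a' o = 1) :
    dot (fun x => a x - if x = o then 1 else 0) (fun x => a' x - if x = o then 1 else 0) =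
      dot a a' - 1 := by
  unfold dot
  have h1 : ∀ x, (a x - if x = o then 1 else 0) * (a' x - if x = o then 1 else 0) =
      a x * a' x - (if x = o then a' x else 0) - (if x = o then a x else 0) +
        (if x = o then 1 else 0) := by
    intro x
    by_cases hx : x = o
    · simp only [if_pos hx]; ring
    · simp only [if_neg hx]; ring
  simp_rw [h1]
  rw [Finset.sum_add_distrib, Finset.sum_sub_distrib, Finset.sum_sub_distrib,
    Finset.sum_ite_eq', Finset.sum_ite_eq', Finset.sum_ite_eq']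
  simp only [Finset.mem_univ, if_true, h, h']
  ring

theorem sum_deg_sub_single (d a : ι → ℤ) (o : ι) :
    ∑ x, d x * (a x - if x = o then 1 else 0) = ∑ x, d x * a x - d o := by
  have h1 : ∀ x, d x * (a x - if x = o then 1 else 0) =
      d x * a x - (if x = o then d x else 0) := by
    intro x
    by_cases hx : x = o
    · simp only [if_pos hx]; ring
    · simp only [if_neg hx]; ring
  simp_rw [h1]
  rw [Finset.sum_sub_distrib, Finset.sum_ite_eq']
  simp only [Finset.mem_univ, if_true]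

end pure

variable {G : Type u} [Group G] [Fintype G]

/-- the principal character as an element of the type of irreducible characters -/
noncomputable def oneIrr : Cfsg.IrrCharacter G := ⟨fun _ => 1, isIrrCharacter_one⟩

theorem oneIrr_coe : ((oneIrr : Cfsg.IrrCharacter G) : G → ℂ) = fun _ => 1 := rfl

section coeff

variable [Fintype (Cfsg.IrrCharacter G)]

theorem coeff_expansion (β : G → ℂ) (hβ : Cfsg.IsClassFunction G β)
    (a : Cfsg.IrrCharacter G → ℤ) (ha : ∀ χ : Cfsg.IrrCharacter G,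
      Cfsg.classInner β (χ : G → ℂ) = a χ) :
    β = ∑ χ : Cfsg.IrrCharacter G, (a χ : ℂ) • (χ : G → ℂ) := by
  have h := classFunction_expansion β hβ
  simp_rw [ha] at h
  exact h

theorem classInner_of_coeff (β β' : G → ℂ) (hβ' : Cfsg.IsClassFunction G β')
    (a a' : Cfsg.IrrCharacter G → ℤ)
    (ha : ∀ χ : Cfsg.IrrCharacter G, Cfsg.classInner β (χ : G → ℂ) = a χ)
    (ha' : ∀ χ : Cfsg.IrrCharacter G, Cfsg.classInner β' (χ : G → ℂ) = a' χ) :
    Cfsg.classInner β β' = ((dot a a' : ℤ) : ℂ) := by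
  have h := coeff_expansion β' hβ' a' ha'
  rw [h, classInner_sum_right]
  unfold dot
  push_cast
  apply Finset.sum_congr rfl
  intro χ _
  rw [classInner_smul_right, ha, map_intCast]
  ring

theorem apply_one_of_coeff (β : G → ℂ) (hβ : Cfsg.IsClassFunction G β)
    (a : Cfsg.IrrCharacter G → ℤ)
    (ha : ∀ χ : Cfsg.IrrCharacter G, Cfsg.classInner β (χ : G → ℂ) = a χ)
    (d : Cfsg.IrrCharacter G → ℤ) (hd : ∀ χ : Cfsg.IrrCharacter G, (χ : G → ℂ) 1 = d χ) :
    β 1 = ((∑ χ, d χ * a χ : ℤ) : ℂ) := by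
  have h := congrFun (coeff_expansion β hβ a ha) 1
  rw [h, Finset.sum_apply]
  push_cast
  apply Finset.sum_congr rfl
  intro χ _
  rw [Pi.smul_apply, smul_eq_mul, hd]
  ring

end coeff

/-- the function `(1 − φ)(1 − ψ)` -/
def alphaFun {W : Type*} [Group W] (φ ψ : W →* ℂˣ) : W → ℂ :=
  fun w => 1 - (φ w : ℂ) - (ψ w : ℂ) + (φ w : ℂ) * (ψ w : ℂ)

theorem alphaFun_apply {W : Type*} [Group W] (φ ψ : W →* ℂˣ) (w : W) :
    alphaFun φ ψ w = 1 - (φ w : ℂ) - (ψ w : ℂ) + (φ w : ℂ) * (ψ w : ℂ) := rfl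

theorem genchar_ind_alpha (H : Subgroup G) (φ ψ : H →* ℂˣ) :
    Cfsg.IsGeneralizedCharacter G (Cfsg.indFun H (alphaFun φ ψ)) := by
  have h1 : Cfsg.IsCharacter H (fun _ => (1 : ℂ)) := isCharacter_one
  have hφ := IsIrrCharacter.isCharacter (isIrrCharacter_of_hom φ)
  have hψ := IsIrrCharacter.isCharacter (isIrrCharacter_of_hom ψ)
  have hφψ := IsIrrCharacter.isCharacter (isIrrCharacter_of_hom (φ * ψ))
  refine ⟨Cfsg.indFun H (fun _ => 1) + Cfsg.indFun H (fun w => (((φ * ψ) w : ℂˣ) : ℂ)),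
    Cfsg.indFun H (fun w => ((φ w : ℂˣ) : ℂ)) + Cfsg.indFun H (fun w => ((ψ w : ℂˣ) : ℂ)),
    IsCharacter.add (isCharacter_indFun H _ h1) (isCharacter_indFun H _ hφψ),
    IsCharacter.add (isCharacter_indFun H _ hφ) (isCharacter_indFun H _ hψ), ?_⟩
  rw [← indFun_add, ← indFun_add, ← indFun_sub]
  congr 1
  funext w
  simp only [alphaFun, Pi.add_apply, Pi.sub_apply, MonoidHom.mul_apply, Units.val_mul]
  ring

theorem ind_alpha_apply_one (H : Subgroup G) (φ ψ : H →* ℂˣ) :
    Cfsg.indFun H (alphaFun φ ψ) 1 = 0 := by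
  rw [indFun_apply_one, alphaFun_apply, map_one, map_one, Units.val_one]
  ring

end Cfsg.Agent.Helper6.Arr
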