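import Mathlib
import Cfsg.Agent.Helper6.ArrG

/-!
# From the Gram matrix of an array of generalized characters to its decomposition
-/

set_option autoImplicit false
set_option linter.style.haveILetI false
set_option linter.unusedSectionVars false
set_option linter.unusedVariables false

namespace Cfsg.Agent.Helper6.Arr

open scoped ComplexConjugate

universe u

variable {G : Type u} [Group G] [Fintype G]

set_option maxHeartbeats 1600000 in
/-- an array of generalized characters vanishing at `1`, each containing the principal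
character once, with the Gram matrix of Peterfalvi (3.4), decomposes -/
theorem exists_decomp_of_gram [Fintype (Cfsg.IrrCharacter G)]
    [DecidableEq (Cfsg.IrrCharacter G)]
    {I J : Type*} [Fintype I] [Fintype J] [DecidableEq I] [DecidableEq J]
    (β : I → J → G → ℂ) (hgen : ∀ i j, Cfsg.IsGeneralizedCharacter G (β i j))
    (hone : ∀ i j, β i j 1 = 0) (hprinc : ∀ i j, Cfsg.classInner (β i j) (fun _ => 1) = 1)
    (hn3 : ∀ i j, Cfsg.classInner (β i j) (β i j) = 4)
    (hrow : ∀ i j j', j ≠ j' → Cfsg.classInner (β i j) (β i j') = 2)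
    (hcol : ∀ i i' j, i ≠ i' → Cfsg.classInner (β i j) (β i' j) = 2)
    (hcross : ∀ i i' j j', i ≠ i' → j ≠ j' → Cfsg.classInner (β i j) (β i' j') = 1)
    (hI : 2 ≤ Fintype.card I) (hJ : 2 ≤ Fintype.card J)
    (hI3 : Fintype.card I ≠ 3) (hJ3 : Fintype.card J ≠ 3)
    (h4 : 4 ≤ Fintype.card I ∨ 4 ≤ Fintype.card J) :
    ∃ (r : I → Cfsg.IrrCharacter G) (c : J → Cfsg.IrrCharacter G)
      (e : I → J → Cfsg.IrrCharacter G) (ρ : I → ℤ) (γ : J → ℤ) (ε : I → J → ℤ),
      (∀ i, ρ i = 1 ∨ ρ i = -1) ∧ (∀ j, γ j = 1 ∨ γ j = -1) ∧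
      (∀ i j, ε i j = 1 ∨ ε i j = -1) ∧
      (∀ i, oneIrr ≠ r i) ∧ (∀ j, oneIrr ≠ c j) ∧ (∀ i j, oneIrr ≠ e i j) ∧
      (∀ i j, r i ≠ c j) ∧ (∀ i i' j', r i ≠ e i' j') ∧ (∀ j i' j', c j ≠ e i' j') ∧
      Function.Injective r ∧ Function.Injective c ∧
      (∀ i j i' j', e i j = e i' j' → i = i' ∧ j = j') ∧
      ∀ i j, β i j = fun g => 1 + (ρ i : ℂ) * (r i : G → ℂ) g + (γ j : ℂ) * (c j : G → ℂ) g +
        (ε i j : ℂ) * (e i j : G → ℂ) g := by
  classical
  have hcf : ∀ i j, Cfsg.IsClassFunction G (β i j) := by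
    intro i j
    obtain ⟨x, y, hx, hy, h⟩ := hgen i j
    rw [h]
    exact IsClassFunction.sub (IsCharacter.isClassFunction hx) (IsCharacter.isClassFunction hy)
  have hex : ∀ i j (χ : Cfsg.IrrCharacter G), ∃ n : ℤ,
      Cfsg.classInner (β i j) (χ : G → ℂ) = n :=
    fun i j χ => classInner_genchar_int (hgen i j) (genchar_of_irr χ.2)
  choose a ha using hex
  have ha1 : ∀ i j, a i j oneIrr = 1 := by
    intro i j
    have := ha i j oneIrr
    rw [oneIrr_coe, hprinc] at this
    exact_mod_cast this.symm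
  -- degrees
  have hdeg : ∀ χ : Cfsg.IrrCharacter G, ∃ n : ℤ, 0 < n ∧ (χ : G → ℂ) 1 = n := by
    intro χ
    obtain ⟨n, hn, h⟩ := IsIrrCharacter.apply_one_pos χ.2
    refine ⟨n, by exact_mod_cast hn, ?_⟩
    rw [h]
    norm_cast
  choose d hdpos hd using hdeg
  have hd1 : d oneIrr = 1 := by
    have h : (1 : ℂ) = (d oneIrr : ℂ) := hd oneIrr
    exact_mod_cast h.symm
  -- the array
  obtain ⟨X, hX⟩ : ∃ X : I → J → Cfsg.IrrCharacter G → ℤ,
      ∀ i j, X i j = fun χ => a i j χ - if χ = oneIrr then 1 else 0 := ⟨_, fun _ _ => rfl⟩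
  have hdot : ∀ i j i' j' (n : ℤ), Cfsg.classInner (β i j) (β i' j') = (n : ℂ) →
      dot (X i j) (X i' j') = n - 1 := by
    intro i j i' j' n hn
    have h1 := classInner_of_coeff (β i j) (β i' j') (hcf i' j') (a i j) (a i' j') (ha i j)
      (ha i' j')
    rw [hn] at h1
    have h2 := dot_sub_single (a i j) (a i' j') oneIrr (ha1 i j) (ha1 i' j')
    rw [hX, hX, h2]
    have h3 : dot (a i j) (a i' j') = n := by exact_mod_cast h1.symm
    rw [h3]
  have hsumd : ∀ i j, ∑ χ, d χ * X i j χ = -1 := by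
    intro i j
    have h1 := apply_one_of_coeff (β i j) (hcf i j) (a i j) (ha i j) d hd
    rw [hone] at h1
    have h2 : ∑ χ, d χ * a i j χ = 0 := by exact_mod_cast h1.symm
    rw [hX]
    show ∑ χ, d χ * (a i j χ - if χ = oneIrr then 1 else 0) = -1
    rw [sum_deg_sub_single, h2, hd1]
    norm_num
  have n3 : ∀ i j, dot (X i j) (X i j) = 3 := by
    intro i j
    rw [hdot i j i j 4 (by rw [hn3]; norm_num)]
    norm_num
  have row : ∀ i j j', j ≠ j' → dot (X i j) (X i j') = 1 := by
    intro i j j' hjj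
    rw [hdot i j i j' 2 (by rw [hrow i j j' hjj]; norm_num)]
    norm_num
  have col : ∀ i i' j, i ≠ i' → dot (X i j) (X i' j) = 1 := by
    intro i i' j hii
    rw [hdot i j i' j 2 (by rw [hcol i i' j hii]; norm_num)]
    norm_num
  have cross : ∀ i i' j j', i ≠ i' → j ≠ j' → dot (X i j) (X i' j') = 0 := by
    intro i i' j j' hii hjj
    rw [hdot i j i' j' 1 (by rw [hcross i i' j j' hii hjj]; norm_num)]
    norm_num
  have harr : IsArray X :=
    { n3 := n3
      row := row
      col := col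
      cross := cross
      nrow := by
        intro i j j'
        by_cases hjj : j = j'
        · rw [hjj]
          exact NoOpp.self _
        · exact noOpp_of_deg (n3 i j) (n3 i j') (row i j j' hjj) d hdpos
            (by rw [hsumd, hsumd])
      ncol := by
        intro i i' j
        by_cases hii : i = i'
        · rw [hii]
          exact NoOpp.self _
        · exact noOpp_of_deg (n3 i j) (n3 i' j) (col i i' j hii) d hdpos
            (by rw [hsumd, hsumd]) }
  obtain ⟨r, c, e, hD⟩ := array_decomp X harr hI hJ hI3 hJ3 h4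
  obtain ⟨i0⟩ : Nonempty I := Fintype.card_pos_iff.mp (by omega)
  obtain ⟨j0⟩ : Nonempty J := Fintype.card_pos_iff.mp (by omega)
  have hXone : ∀ i j, X i j oneIrr = 0 := by
    intro i j
    rw [hX]
    show a i j oneIrr - (if oneIrr = oneIrr then 1 else 0) = 0
    rw [if_pos rfl, ha1]
    norm_num
  refine ⟨r, c, e, fun i => X i j0 (r i), fun j => X i0 j (c j), fun i j => X i j (e i j),
    fun i => pm_of_tern (harr.tern i j0) (hD.hr i j0),
    fun j => pm_of_tern (harr.tern i0 j) (hD.hc i0 j),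
    fun i j => pm_of_tern (harr.tern i j) (hD.he i j),
    fun i h => hD.hr i j0 (h ▸ hXone i j0), fun j h => hD.hc i0 j (h ▸ hXone i0 j),
    fun i j h => hD.he i j (h ▸ hXone i j), hD.rc, hD.re, hD.ce, hD.rinj, hD.cinj, hD.einj, ?_⟩
  intro i j
  refine (coeff_expansion (β i j) (hcf i j) (a i j) (ha i j)).trans ?_
  funext g
  rw [Finset.sum_apply]
  simp only [Pi.smul_apply, smul_eq_mul]
  have hx : ∀ χ, a i j χ = X i j χ + if χ = oneIrr then 1 else 0 := by
    intro χ
    rw [hX]
    ring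
  have h3 := eq_of_three (n3 i j) (hD.rc i j) (hD.re i i j) (hD.ce j i j) (hD.hr i j) (hD.hc i j)
    (hD.he i j)
  rw [hD.rconst i j j0, hD.cconst i i0 j] at h3
  have hterm : ∀ χ : Cfsg.IrrCharacter G, ((a i j χ : ℤ) : ℂ) * (χ : G → ℂ) g =
      (if χ = r i then (X i j0 (r i) : ℂ) * (χ : G → ℂ) g else 0) +
      (if χ = c j then (X i0 j (c j) : ℂ) * (χ : G → ℂ) g else 0) +
      (if χ = e i j then (X i j (e i j) : ℂ) * (χ : G → ℂ) g else 0) +
      (if χ = oneIrr then (χ : G → ℂ) g else 0) := by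
    intro χ
    rw [hx χ, h3 χ]
    push_cast
    split_ifs <;> ring
  rw [Finset.sum_congr rfl (fun χ _ => hterm χ), Finset.sum_add_distrib, Finset.sum_add_distrib,
    Finset.sum_add_distrib, Finset.sum_ite_eq', Finset.sum_ite_eq', Finset.sum_ite_eq',
    Finset.sum_ite_eq']
  simp only [Finset.mem_univ, if_true]
  rw [oneIrr_coe]
  ring

end Cfsg.Agent.Helper6.Arr
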