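import Mathlib
import Cfsg.Agent.Helper6.ArrH

/-!
# The array of Peterfalvi (3.4) for a self-normalising cyclic subgroup
-/

set_option autoImplicit false
set_option linter.style.haveILetI false
set_option linter.unusedSectionVars false
set_option linter.unusedVariables false

namespace Cfsg.Agent.Helper6.Arr

open scoped ComplexConjugate

universe u

variable {G : Type u} [Group G] [Fintype G]

theorem card_facts (W₁ W₂ : Subgroup G) (hW : Cfsg.IsSelfNormalizingCyclic W₁ W₂)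
    (hodd : Odd (Nat.card ↥(W₁ ⊔ W₂))) :
    3 ≤ Nat.card W₁ ∧ 3 ≤ Nat.card W₂ ∧ Odd (Nat.card W₁) ∧ Odd (Nat.card W₂) ∧
      Nat.card W₁ ≠ Nat.card W₂ := by
  obtain ⟨h1, h2, hint, hcomm, hcyc, -⟩ := hW
  haveI := hcyc
  have d1 : Nat.card W₁ ∣ Nat.card ↥(W₁ ⊔ W₂) := Subgroup.card_dvd_of_le le_sup_left
  have d2 : Nat.card W₂ ∣ Nat.card ↥(W₁ ⊔ W₂) := Subgroup.card_dvd_of_le le_sup_right
  have o1 : Odd (Nat.card W₁) := Odd.of_dvd_nat hodd d1
  have o2 : Odd (Nat.card W₂) := Odd.of_dvd_nat hodd d2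
  have n1 : Nat.card W₁ ≠ 1 := fun h => h1 (Subgroup.card_eq_one.mp h)
  have n2 : Nat.card W₂ ≠ 1 := fun h => h2 (Subgroup.card_eq_one.mp h)
  have p1 : 0 < Nat.card W₁ := Nat.card_pos
  have p2 : 0 < Nat.card W₂ := Nat.card_pos
  have g1 : 3 ≤ Nat.card W₁ := by
    obtain ⟨k, hk⟩ := o1
    omega
  have g2 : 3 ≤ Nat.card W₂ := by
    obtain ⟨k, hk⟩ := o2
    omega
  haveI : IsCyclic (W₁ × W₂) :=
    isCyclic_of_surjective (prodEquivSup W₁ W₂ hcomm hint).symm.toMonoidHom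
      (prodEquivSup W₁ W₂ hcomm hint).symm.surjective
  have hc := coprime_card_of_isCyclic_prod W₁ W₂
  refine ⟨g1, g2, o1, o2, ?_⟩
  intro heq
  rw [heq, Nat.coprime_self] at hc
  exact n2 hc

theorem liftLeft_inj (W₁ W₂ : Subgroup G) (hcomm : ∀ a ∈ W₁, ∀ b ∈ W₂, a * b = b * a)
    (hint : W₁ ⊓ W₂ = ⊥) : Function.Injective (liftLeft W₁ W₂ hcomm hint) := by
  intro lam lam' h
  ext a
  have h1 := DFunLike.congr_fun h ⟨a, Subgroup.mem_sup_left a.2⟩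
  rw [liftLeft_of_mem_left W₁ W₂ hcomm hint lam _ a.2,
    liftLeft_of_mem_left W₁ W₂ hcomm hint lam' _ a.2] at h1
  exact congrArg Units.val h1

theorem liftRight_inj (W₁ W₂ : Subgroup G) (hcomm : ∀ a ∈ W₁, ∀ b ∈ W₂, a * b = b * a)
    (hint : W₁ ⊓ W₂ = ⊥) : Function.Injective (liftRight W₁ W₂ hcomm hint) := by
  intro mu mu' h
  ext a
  have h1 := DFunLike.congr_fun h ⟨a, Subgroup.mem_sup_right a.2⟩
  rw [liftRight_of_mem_right W₁ W₂ hcomm hint mu _ a.2,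
    liftRight_of_mem_right W₁ W₂ hcomm hint mu' _ a.2] at h1
  exact congrArg Units.val h1

theorem gram_alpha (W₁ W₂ : Subgroup G) (hW : Cfsg.IsSelfNormalizingCyclic W₁ W₂)
    (hcomm : ∀ a ∈ W₁, ∀ b ∈ W₂, a * b = b * a) (hint : W₁ ⊓ W₂ = ⊥)
    (lam lam' : W₁ →* ℂˣ) (mu mu' : W₂ →* ℂˣ) (h1 : lam ≠ 1) (h1' : lam' ≠ 1) (h2 : mu ≠ 1)
    (h2' : mu' ≠ 1) (x y : ℂ) (hx : lam = lam' → x = 1) (hx' : lam ≠ lam' → x = 0)
    (hy : mu = mu' → y = 1) (hy' : mu ≠ mu' → y = 0) :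
    Cfsg.classInner (Cfsg.indFun (W₁ ⊔ W₂) (alphaFun (liftLeft W₁ W₂ hcomm hint lam)
        (liftRight W₁ W₂ hcomm hint mu))) (fun _ => 1) = 1 ∧
      Cfsg.classInner (Cfsg.indFun (W₁ ⊔ W₂) (alphaFun (liftLeft W₁ W₂ hcomm hint lam)
        (liftRight W₁ W₂ hcomm hint mu)))
        (Cfsg.indFun (W₁ ⊔ W₂) (alphaFun (liftLeft W₁ W₂ hcomm hint lam')
        (liftRight W₁ W₂ hcomm hint mu'))) = 1 + x + y + x * y := by
  have hL := liftLeft_inj W₁ W₂ hcomm hint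
  have hR := liftRight_inj W₁ W₂ hcomm hint
  exact selfNormalizing_induced_inner W₁ W₂ hW (liftLeft W₁ W₂ hcomm hint lam)
    (liftLeft W₁ W₂ hcomm hint lam') (liftRight W₁ W₂ hcomm hint mu)
    (liftRight W₁ W₂ hcomm hint mu')
    (fun h => h1 (hL (h.trans (liftLeft_one W₁ W₂ hcomm hint).symm)))
    (fun h => h1' (hL (h.trans (liftLeft_one W₁ W₂ hcomm hint).symm)))
    (fun h => h2 (hR (h.trans (liftRight_one W₁ W₂ hcomm hint).symm)))
    (fun h => h2' (hR (h.trans (liftRight_one W₁ W₂ hcomm hint).symm)))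
    (fun w hw => ⟨liftLeft_of_mem_right W₁ W₂ hcomm hint lam w hw,
      liftLeft_of_mem_right W₁ W₂ hcomm hint lam' w hw⟩)
    (fun w hw => ⟨liftRight_of_mem_left W₁ W₂ hcomm hint mu w hw,
      liftRight_of_mem_left W₁ W₂ hcomm hint mu' w hw⟩)
    x y (fun h => hx (hL h)) (fun h => hx' (fun e => h (e ▸ rfl)))
    (fun h => hy (hR h)) (fun h => hy' (fun e => h (e ▸ rfl)))

set_option maxHeartbeats 1600000 in
theorem exists_glued [Fintype (Cfsg.IrrCharacter G)] [DecidableEq (Cfsg.IrrCharacter G)]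
    (W₁ W₂ : Subgroup G) (hW : Cfsg.IsSelfNormalizingCyclic W₁ W₂)
    (hodd : Odd (Nat.card ↥(W₁ ⊔ W₂)))
    (hcomm : ∀ a ∈ W₁, ∀ b ∈ W₂, a * b = b * a) (hint : W₁ ⊓ W₂ = ⊥) :
    ∃ (a : (W₁ →* ℂˣ) × (W₂ →* ℂˣ) → Cfsg.IrrCharacter G)
      (s : (W₁ →* ℂˣ) × (W₂ →* ℂˣ) → ℤ),
      Function.Injective a ∧ (∀ p, s p = 1 ∨ s p = -1) ∧ a (1, 1) = oneIrr ∧ s (1, 1) = 1 ∧
      ∀ lam mu, lam ≠ 1 → mu ≠ 1 →
        Cfsg.indFun (W₁ ⊔ W₂) (alphaFun (liftLeft W₁ W₂ hcomm hint lam)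
          (liftRight W₁ W₂ hcomm hint mu)) =
          fun g => 1 - (s (lam, 1) : ℂ) * (a (lam, 1) : G → ℂ) g -
            (s (1, mu) : ℂ) * (a (1, mu) : G → ℂ) g +
            (s (lam, mu) : ℂ) * (a (lam, mu) : G → ℂ) g := by
  classical
  haveI : Finite (W₁ →* ℂˣ) := finite_hom_units
  haveI : Finite (W₂ →* ℂˣ) := finite_hom_units
  haveI : Fintype (W₁ →* ℂˣ) := Fintype.ofFinite _
  haveI : Fintype (W₂ →* ℂˣ) := Fintype.ofFinite _
  obtain ⟨g1, g2, o1, o2, hne12⟩ := card_facts W₁ W₂ hW hodd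
  have hWab := comm_of_selfNormalizing W₁ W₂ hW
  have hW1ab : ∀ a b : W₁, a * b = b * a := fun a b =>
    Subtype.ext (hWab a (Subgroup.mem_sup_left a.2) b (Subgroup.mem_sup_left b.2))
  have hW2ab : ∀ a b : W₂, a * b = b * a := fun a b =>
    Subtype.ext (hWab a (Subgroup.mem_sup_right a.2) b (Subgroup.mem_sup_right b.2))
  have c1 : Fintype.card {lam : W₁ →* ℂˣ // lam ≠ 1} = Nat.card W₁ - 1 := by
    rw [Fintype.card_subtype_compl, Fintype.card_subtype_eq, ← Nat.card_eq_fintype_card,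
      card_hom_units_of_comm hW1ab]
  have c2 : Fintype.card {mu : W₂ →* ℂˣ // mu ≠ 1} = Nat.card W₂ - 1 := by
    rw [Fintype.card_subtype_compl, Fintype.card_subtype_eq, ← Nat.card_eq_fintype_card,
      card_hom_units_of_comm hW2ab]
  obtain ⟨k1, hk1⟩ := o1
  obtain ⟨k2, hk2⟩ := o2
  obtain ⟨r, c, e, ρ, γ, ε, hρ, hγ, hε, hor, hoc, hoe, hrc, hre, hce, hrinj, hcinj, heinj, hβ⟩ :=
    exists_decomp_of_gram
      (fun (i : {lam : W₁ →* ℂˣ // lam ≠ 1}) (j : {mu : W₂ →* ℂˣ // mu ≠ 1}) =>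
        Cfsg.indFun (W₁ ⊔ W₂) (alphaFun (liftLeft W₁ W₂ hcomm hint i.1)
          (liftRight W₁ W₂ hcomm hint j.1)))
      (fun i j => genchar_ind_alpha _ _ _)
      (fun i j => ind_alpha_apply_one _ _ _)
      (fun i j => (gram_alpha W₁ W₂ hW hcomm hint i.1 i.1 j.1 j.1 i.2 i.2 j.2 j.2 1 1
        (fun _ => rfl) (fun h => absurd rfl h) (fun _ => rfl) (fun h => absurd rfl h)).1)
      (fun i j => by
        rw [(gram_alpha W₁ W₂ hW hcomm hint i.1 i.1 j.1 j.1 i.2 i.2 j.2 j.2 1 1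
          (fun _ => rfl) (fun h => absurd rfl h) (fun _ => rfl) (fun h => absurd rfl h)).2]
        norm_num)
      (fun i j j' hjj => by
        rw [(gram_alpha W₁ W₂ hW hcomm hint i.1 i.1 j.1 j'.1 i.2 i.2 j.2 j'.2 1 0
          (fun _ => rfl) (fun h => absurd rfl h) (fun h => absurd (Subtype.ext h) hjj)
          (fun _ => rfl)).2]
        norm_num)
      (fun i i' j hii => by
        rw [(gram_alpha W₁ W₂ hW hcomm hint i.1 i'.1 j.1 j.1 i.2 i'.2 j.2 j.2 0 1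
          (fun h => absurd (Subtype.ext h) hii) (fun _ => rfl) (fun _ => rfl)
          (fun h => absurd rfl h)).2]
        norm_num)
      (fun i i' j j' hii hjj => by
        rw [(gram_alpha W₁ W₂ hW hcomm hint i.1 i'.1 j.1 j'.1 i.2 i'.2 j.2 j'.2 0 0
          (fun h => absurd (Subtype.ext h) hii) (fun _ => rfl)
          (fun h => absurd (Subtype.ext h) hjj) (fun _ => rfl)).2]
        norm_num)
      (by rw [c1]; omega) (by rw [c2]; omega) (by rw [c1]; omega) (by rw [c2]; omega)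
      (by rw [c1, c2]; omega)
  refine ⟨glue 1 1 oneIrr r c e, glue 1 1 (1 : ℤ) (fun i => - ρ i) (fun j => - γ j) ε,
    glue_injective 1 1 oneIrr r c e hor hoc hoe hrc hre hce hrinj hcinj heinj, ?_,
    glue_zero _ _ _ _ _ _, glue_zero _ _ _ _ _ _, ?_⟩
  · intro p
    apply glue_ind 1 1 (1 : ℤ) (fun i => - ρ i) (fun j => - γ j) ε (fun z => z = 1 ∨ z = -1)
    · exact Or.inl rfl
    · intro i
      rcases hρ i with h | h
      · right; rw [h]
      · left; rw [h]; norm_num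
    · intro j
      rcases hγ j with h | h
      · right; rw [h]
      · left; rw [h]; norm_num
    · exact hε
  · intro lam mu hl hm
    rw [glue_left 1 1 oneIrr r c e lam hl, glue_right 1 1 oneIrr r c e mu hm,
      glue_both 1 1 oneIrr r c e lam hl mu hm,
      glue_left 1 1 (1 : ℤ) (fun i => - ρ i) (fun j => - γ j) ε lam hl,
      glue_right 1 1 (1 : ℤ) (fun i => - ρ i) (fun j => - γ j) ε mu hm,
      glue_both 1 1 (1 : ℤ) (fun i => - ρ i) (fun j => - γ j) ε lam hl mu hm]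
    refine (hβ ⟨lam, hl⟩ ⟨mu, hm⟩).trans ?_
    funext g
    push_cast
    ring

end Cfsg.Agent.Helper6.Arr
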