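import Mathlib
import Cfsg.Agent.Helper6.ArrI

/-!
# The values of the glued family on `W ∖ (W₁ ∪ W₂)`
-/

set_option autoImplicit false
set_option linter.style.haveILetI false
set_option linter.unusedSectionVars false
set_option linter.unusedVariables false

namespace Cfsg.Agent.Helper6.Arr

open scoped ComplexConjugate

universe u

variable {G : Type u} [Group G] [Fintype G]

theorem centralizer_of_selfNormalizing (W₁ W₂ : Subgroup G)
    (hW : Cfsg.IsSelfNormalizingCyclic W₁ W₂) (w : G) (hw : w ∈ W₁ ⊔ W₂) (h1 : w ∉ W₁)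
    (h2 : w ∉ W₂) : Subgroup.centralizer ({w} : Set G) = W₁ ⊔ W₂ := by
  apply le_antisymm
  · intro g hg
    rw [Subgroup.mem_centralizer_iff] at hg
    have hg' : w * g = g * w := hg w (Set.mem_singleton w)
    apply mem_of_conj_mem_of_selfNormalizing W₁ W₂ hW w g hw h1 h2
    have : g * w * g⁻¹ = w := by
      rw [← hg']
      group
    rw [this]
    exact hw
  · intro g hg
    rw [Subgroup.mem_centralizer_iff]
    intro h hh
    rw [Set.mem_singleton_iff] at hh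
    rw [hh]
    exact comm_of_selfNormalizing W₁ W₂ hW w hw g hg

theorem sum_normSq_irr [Fintype (Cfsg.IrrCharacter G)] (g : G) :
    ∑ χ : Cfsg.IrrCharacter G, Complex.normSq ((χ : G → ℂ) g) =
      (Nat.card (Subgroup.centralizer ({g} : Set G)) : ℝ) := by
  classical
  have hcol := column_orthogonality_aux g g
  rw [if_pos (IsConj.refl _)] at hcol
  have h1 : ∀ χ : Cfsg.IrrCharacter G, (χ : G → ℂ) g * conj ((χ : G → ℂ) g) =
      ((Complex.normSq ((χ : G → ℂ) g) : ℝ) : ℂ) := fun χ => Complex.mul_conj _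
  simp_rw [h1] at hcol
  rw [← Complex.ofReal_sum] at hcol
  have h2 : ((Nat.card (Subgroup.centralizer ({g} : Set G)) : ℝ) : ℂ) =
      (Nat.card (Subgroup.centralizer ({g} : Set G)) : ℂ) := by norm_cast
  rw [← h2] at hcol
  exact Complex.ofReal_injective hcol

theorem normSq_hom_val {A : Type*} [Group A] [Finite A] (ω : A →* ℂˣ) (a : A) :
    Complex.normSq ((ω a : ℂˣ) : ℂ) = 1 := by
  have h1 : ‖((ω a : ℂˣ) : ℂ)‖ = 1 := by
    apply Complex.norm_eq_one_of_pow_eq_one (n := orderOf a)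
    · rw [← Units.val_pow_eq_pow_val, ← map_pow, pow_orderOf_eq_one, map_one, Units.val_one]
    · exact (orderOf_pos a).ne'
  rw [Complex.normSq_eq_norm_sq, h1]
  simp

set_option maxHeartbeats 1600000 in
theorem glued_value [Fintype (Cfsg.IrrCharacter G)] (W₁ W₂ : Subgroup G)
    (hW : Cfsg.IsSelfNormalizingCyclic W₁ W₂)
    (hcomm : ∀ a ∈ W₁, ∀ b ∈ W₂, a * b = b * a) (hint : W₁ ⊓ W₂ = ⊥)
    (a : (W₁ →* ℂˣ) × (W₂ →* ℂˣ) → Cfsg.IrrCharacter G)
    (s : (W₁ →* ℂˣ) × (W₂ →* ℂˣ) → ℤ)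
    (hainj : Function.Injective a) (hs : ∀ p, s p = 1 ∨ s p = -1) (ha1 : a (1, 1) = oneIrr)
    (hs1 : s (1, 1) = 1)
    (heq : ∀ lam mu, lam ≠ 1 → mu ≠ 1 →
        Cfsg.indFun (W₁ ⊔ W₂) (alphaFun (liftLeft W₁ W₂ hcomm hint lam)
          (liftRight W₁ W₂ hcomm hint mu)) =
          fun g => 1 - (s (lam, 1) : ℂ) * (a (lam, 1) : G → ℂ) g -
            (s (1, mu) : ℂ) * (a (1, mu) : G → ℂ) g +
            (s (lam, mu) : ℂ) * (a (lam, mu) : G → ℂ) g)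
    (w : ↥(W₁ ⊔ W₂)) (hw1 : (w : G) ∉ W₁) (hw2 : (w : G) ∉ W₂)
    (lam : W₁ →* ℂˣ) (mu : W₂ →* ℂˣ) :
    (s (lam, mu) : ℂ) * (a (lam, mu) : G → ℂ) w =
      ((liftLeft W₁ W₂ hcomm hint lam w : ℂˣ) : ℂ) *
        ((liftRight W₁ W₂ hcomm hint mu w : ℂˣ) : ℂ) := by
  classical
  haveI : Finite (W₁ →* ℂˣ) := finite_hom_units
  haveI : Finite (W₂ →* ℂˣ) := finite_hom_units
  haveI : Fintype (W₁ →* ℂˣ) := Fintype.ofFinite _
  haveI : Fintype (W₂ →* ℂˣ) := Fintype.ofFinite _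
  haveI : Fintype W₁ := Fintype.ofFinite _
  haveI : Fintype W₂ := Fintype.ofFinite _
  have hWab := comm_of_selfNormalizing W₁ W₂ hW
  have hW1ab : ∀ a b : W₁, a * b = b * a := fun a b =>
    Subtype.ext (hWab a (Subgroup.mem_sup_left a.2) b (Subgroup.mem_sup_left b.2))
  have hW2ab : ∀ a b : W₂, a * b = b * a := fun a b =>
    Subtype.ext (hWab a (Subgroup.mem_sup_right a.2) b (Subgroup.mem_sup_right b.2))
  -- the components of `w`
  obtain ⟨w₁, hw₁⟩ : ∃ w₁ : W₁, w₁ = ((prodEquivSup W₁ W₂ hcomm hint).symm w).1 := ⟨_, rfl⟩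
  obtain ⟨w₂, hw₂⟩ : ∃ w₂ : W₂, w₂ = ((prodEquivSup W₁ W₂ hcomm hint).symm w).2 := ⟨_, rfl⟩
  have hwprod : (w : G) = (w₁ : G) * (w₂ : G) := by
    have h := prodEquivSup_coe W₁ W₂ hcomm hint ((prodEquivSup W₁ W₂ hcomm hint).symm w)
    rw [MulEquiv.apply_symm_apply] at h
    rw [h, hw₁, hw₂]
  have hw₁ne : w₁ ≠ 1 := by
    intro h
    apply hw2
    rw [hwprod, h, Subgroup.coe_one, one_mul]
    exact w₂.2
  have hw₂ne : w₂ ≠ 1 := by
    intro h
    apply hw1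
    rw [hwprod, h, Subgroup.coe_one, mul_one]
    exact w₁.2
  have hLw : ∀ l : W₁ →* ℂˣ, liftLeft W₁ W₂ hcomm hint l w = l w₁ := by
    intro l
    rw [liftLeft_apply, hw₁]
  have hRw : ∀ m : W₂ →* ℂˣ, liftRight W₁ W₂ hcomm hint m w = m w₂ := by
    intro m
    rw [liftRight_apply, hw₂]
  rw [hLw, hRw]
  obtain ⟨T, hT⟩ : ∃ T : (W₁ →* ℂˣ) × (W₂ →* ℂˣ) → ℂ,
      ∀ p, T p = (s p : ℂ) * (a p : G → ℂ) w := ⟨_, fun _ => rfl⟩
  rw [← hT]
  have hT11 : T (1, 1) = 1 := by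
    rw [hT, hs1, ha1, oneIrr_coe]
    simp
  have hdec : ∀ l m, T (l, m) = ((l w₁ : ℂˣ) : ℂ) * ((m w₂ : ℂˣ) : ℂ) +
      (T (l, 1) - ((l w₁ : ℂˣ) : ℂ)) + (T (1, m) - ((m w₂ : ℂˣ) : ℂ)) := by
    intro l m
    by_cases hl : l = 1
    · by_cases hm : m = 1
      · rw [hl, hm, hT11]
        simp
      · rw [hl, hT11]
        simp
    · by_cases hm : m = 1
      · rw [hm, hT11]
        simp
      · have h1 := congrFun (heq l m hl hm) (w : G)
        have hvan : ∀ w' : ↥(W₁ ⊔ W₂), ((w' : G) ∈ W₁ ∨ (w' : G) ∈ W₂) →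
            alphaFun (liftLeft W₁ W₂ hcomm hint l) (liftRight W₁ W₂ hcomm hint m) w' = 0 := by
          intro w' hw'
          rw [alphaFun_apply]
          rcases hw' with hw' | hw'
          · rw [liftRight_of_mem_left W₁ W₂ hcomm hint m w' hw', Units.val_one]
            ring
          · rw [liftLeft_of_mem_right W₁ W₂ hcomm hint l w' hw', Units.val_one]
            ring
        rw [indFun_apply_of_selfNormalizing W₁ W₂ hW _ hvan w, alphaFun_apply, hLw, hRw] at h1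
        rw [hT, hT, hT]
        linear_combination (-1 : ℂ) * h1
  -- the bound
  have hcardA : (Fintype.card (W₁ →* ℂˣ) : ℝ) = (Nat.card W₁ : ℝ) := by
    rw [← Nat.card_eq_fintype_card, card_hom_units_of_comm hW1ab]
  have hcardB : (Fintype.card (W₂ →* ℂˣ) : ℝ) = (Nat.card W₂ : ℝ) := by
    rw [← Nat.card_eq_fintype_card, card_hom_units_of_comm hW2ab]
  have hcardW : Nat.card ↥(W₁ ⊔ W₂) = Nat.card W₁ * Nat.card W₂ := by
    rw [← Nat.card_prod]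
    exact (Nat.card_congr (prodEquivSup W₁ W₂ hcomm hint).toEquiv).symm
  have hnT : ∀ p, Complex.normSq (T p) = Complex.normSq ((a p : G → ℂ) w) := by
    intro p
    rw [hT, Complex.normSq_mul]
    rcases hs p with h | h
    · rw [h]
      simp
    · rw [h]
      simp
  have hle : ∑ l : W₁ →* ℂˣ, ∑ m : W₂ →* ℂˣ,
      Complex.normSq (((l w₁ : ℂˣ) : ℂ) * ((m w₂ : ℂˣ) : ℂ) +
        (T (l, 1) - ((l w₁ : ℂˣ) : ℂ)) + (T (1, m) - ((m w₂ : ℂˣ) : ℂ))) ≤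
      (Fintype.card (W₁ →* ℂˣ) : ℝ) * Fintype.card (W₂ →* ℂˣ) := by
    have e1 : ∀ l m, Complex.normSq (((l w₁ : ℂˣ) : ℂ) * ((m w₂ : ℂˣ) : ℂ) +
        (T (l, 1) - ((l w₁ : ℂˣ) : ℂ)) + (T (1, m) - ((m w₂ : ℂˣ) : ℂ))) =
        Complex.normSq ((a (l, m) : G → ℂ) w) := by
      intro l m
      rw [← hdec, hnT]
    simp_rw [e1]
    rw [← Fintype.sum_prod_type (f := fun p : (W₁ →* ℂˣ) × (W₂ →* ℂˣ) =>
      Complex.normSq ((a p : G → ℂ) w))]
    have e2 : ∑ p : (W₁ →* ℂˣ) × (W₂ →* ℂˣ), Complex.normSq ((a p : G → ℂ) w) =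
        ∑ χ ∈ Finset.univ.image a, Complex.normSq ((χ : G → ℂ) w) := by
      rw [Finset.sum_image (fun x _ y _ h => hainj h)]
    rw [e2]
    have e3 : ∑ χ ∈ Finset.univ.image a, Complex.normSq ((χ : G → ℂ) w) ≤
        ∑ χ : Cfsg.IrrCharacter G, Complex.normSq ((χ : G → ℂ) w) :=
      Finset.sum_le_univ_sum_of_nonneg (fun χ => Complex.normSq_nonneg _)
    refine e3.trans ?_
    rw [sum_normSq_irr, centralizer_of_selfNormalizing W₁ W₂ hW (w : G) w.2 hw1 hw2, hcardW,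
      hcardA, hcardB]
    push_cast
    exact le_refl _
  have hu0 : ∑ l : W₁ →* ℂˣ, ((l w₁ : ℂˣ) : ℂ) = 0 := by
    rw [sum_hom_apply hW1ab w₁, if_neg hw₁ne]
  have hv0 : ∑ m : W₂ →* ℂˣ, ((m w₂ : ℂˣ) : ℂ) = 0 := by
    rw [sum_hom_apply hW2ab w₂, if_neg hw₂ne]
  have hpert := perturb_zero (fun l : W₁ →* ℂˣ => ((l w₁ : ℂˣ) : ℂ))
    (fun m : W₂ →* ℂˣ => ((m w₂ : ℂˣ) : ℂ)) (fun l => normSq_hom_val l w₁)
    (fun m => normSq_hom_val m w₂) hu0 hv0 (fun l => T (l, 1) - ((l w₁ : ℂˣ) : ℂ))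
    (fun m => T (1, m) - ((m w₂ : ℂˣ) : ℂ)) hle lam mu
  rw [hdec lam mu]
  linear_combination hpert

end Cfsg.Agent.Helper6.Arr
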