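import Mathlib
import Cfsg.Agent.Helper6.ArrJ

/-!
# Existence of the cyclic TI family (Peterfalvi (3.2))
-/

set_option autoImplicit false
set_option linter.style.haveILetI false
set_option linter.unusedSectionVars false
set_option linter.unusedVariables false

namespace Cfsg.Agent.Helper6.Arr

open scoped ComplexConjugate

universe u

variable {G : Type u} [Group G] [Fintype G]

theorem resRight_eq_one (W₁ W₂ : Subgroup G) (φ : ↥(W₁ ⊔ W₂) →* ℂˣ)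
    (h : ∀ w : ↥(W₁ ⊔ W₂), (w : G) ∈ W₂ → φ w = 1) : resRight W₁ W₂ φ = 1 := by
  ext b
  show ((φ (Subgroup.inclusion le_sup_right b) : ℂˣ) : ℂ) = _
  rw [h _ b.2]
  rfl

theorem resLeft_eq_one (W₁ W₂ : Subgroup G) (ψ : ↥(W₁ ⊔ W₂) →* ℂˣ)
    (h : ∀ w : ↥(W₁ ⊔ W₂), (w : G) ∈ W₁ → ψ w = 1) : resLeft W₁ W₂ ψ = 1 := by
  ext b
  show ((ψ (Subgroup.inclusion le_sup_left b) : ℂˣ) : ℂ) = _
  rw [h _ b.2]
  rfl

theorem resLeft_mul (W₁ W₂ : Subgroup G) (φ ψ : ↥(W₁ ⊔ W₂) →* ℂˣ) :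
    resLeft W₁ W₂ (φ * ψ) = resLeft W₁ W₂ φ * resLeft W₁ W₂ ψ := rfl

theorem resRight_mul (W₁ W₂ : Subgroup G) (φ ψ : ↥(W₁ ⊔ W₂) →* ℂˣ) :
    resRight W₁ W₂ (φ * ψ) = resRight W₁ W₂ φ * resRight W₁ W₂ ψ := rfl

set_option maxHeartbeats 1600000 in
theorem exists_cyclicTIFamily (W₁ W₂ : Subgroup G) (hW : Cfsg.IsSelfNormalizingCyclic W₁ W₂)
    (hodd : Odd (Nat.card ↥(W₁ ⊔ W₂))) :
    ∃ χ : (↥(W₁ ⊔ W₂) →* ℂˣ) → (G → ℂ), Cfsg.IsCyclicTIFamily W₁ W₂ χ := by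
  classical
  haveI : Finite (Cfsg.IrrCharacter G) := irr_finite
  haveI : Fintype (Cfsg.IrrCharacter G) := Fintype.ofFinite _
  obtain ⟨h1, h2, hint, hcomm, hcyc, hnorm⟩ := id hW
  obtain ⟨a, s, hainj, hs, ha1, hs1, heq⟩ := exists_glued W₁ W₂ hW hodd hcomm hint
  have hss : ∀ p, (s p : ℂ) * (s p : ℂ) = 1 := by
    intro p
    rcases hs p with h | h
    · rw [h]; norm_num
    · rw [h]; norm_num
  refine ⟨fun ω g => (s (resLeft W₁ W₂ ω, resRight W₁ W₂ ω) : ℂ) *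
    (a (resLeft W₁ W₂ ω, resRight W₁ W₂ ω) : G → ℂ) g, ?_⟩
  have hfam : ∀ ω : ↥(W₁ ⊔ W₂) →* ℂˣ,
      (fun g => (s (resLeft W₁ W₂ ω, resRight W₁ W₂ ω) : ℂ) *
        (a (resLeft W₁ W₂ ω, resRight W₁ W₂ ω) : G → ℂ) g) =
      (s (resLeft W₁ W₂ ω, resRight W₁ W₂ ω) : ℂ) •
        (a (resLeft W₁ W₂ ω, resRight W₁ W₂ ω) : G → ℂ) := fun ω => rfl
  have hresinj : ∀ ω ω' : ↥(W₁ ⊔ W₂) →* ℂˣ,
      (resLeft W₁ W₂ ω, resRight W₁ W₂ ω) = (resLeft W₁ W₂ ω', resRight W₁ W₂ ω') →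
        ω = ω' := by
    intro ω ω' h
    have := (charProdEquiv W₁ W₂ hcomm hint).symm.injective (a₁ := ω) (a₂ := ω') h
    exact this
  constructor
  · -- irr_or_neg
    intro ω
    rcases hs (resLeft W₁ W₂ ω, resRight W₁ W₂ ω) with h | h
    · left
      have : (fun g => (s (resLeft W₁ W₂ ω, resRight W₁ W₂ ω) : ℂ) *
          (a (resLeft W₁ W₂ ω, resRight W₁ W₂ ω) : G → ℂ) g) =
          (a (resLeft W₁ W₂ ω, resRight W₁ W₂ ω) : G → ℂ) := by
        funext g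
        rw [h]
        simp
      rw [this]
      exact (a _).2
    · right
      have : -(fun g => (s (resLeft W₁ W₂ ω, resRight W₁ W₂ ω) : ℂ) *
          (a (resLeft W₁ W₂ ω, resRight W₁ W₂ ω) : G → ℂ) g) =
          (a (resLeft W₁ W₂ ω, resRight W₁ W₂ ω) : G → ℂ) := by
        funext g
        rw [Pi.neg_apply, h]
        simp
      rw [this]
      exact (a _).2
  · -- orthonormal
    intro ω ω'
    rw [hfam, hfam, classInner_smul_left, classInner_smul_right, map_intCast,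
      classInner_irr_ite (a _).2 (a _).2]
    by_cases hω : ω = ω'
    · rw [if_pos hω, hω, if_pos rfl, mul_one, hss]
    · rw [if_neg hω, if_neg, mul_zero, mul_zero]
      intro h
      exact hω (hresinj ω ω' (hainj (Subtype.ext h)))
  · -- map_one
    have e1 : resLeft W₁ W₂ (1 : ↥(W₁ ⊔ W₂) →* ℂˣ) = 1 := rfl
    have e2 : resRight W₁ W₂ (1 : ↥(W₁ ⊔ W₂) →* ℂˣ) = 1 := rfl
    funext g
    rw [e1, e2, hs1, ha1, oneIrr_coe]
    simp
  · -- eq_on
    intro ω w hw1 hw2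
    have h := glued_value W₁ W₂ hW hcomm hint a s hainj hs ha1 hs1 heq w hw1 hw2
      (resLeft W₁ W₂ ω) (resRight W₁ W₂ ω)
    rw [h, ← Units.val_mul, ← MonoidHom.mul_apply, lift_res W₁ W₂ hcomm hint ω]
  · -- induced_eq
    intro φ ψ hφ hψ hφ2 hψ1
    have eφ : resRight W₁ W₂ φ = 1 := resRight_eq_one W₁ W₂ φ hφ2
    have eψ : resLeft W₁ W₂ ψ = 1 := resLeft_eq_one W₁ W₂ ψ hψ1
    have lφ : liftLeft W₁ W₂ hcomm hint (resLeft W₁ W₂ φ) = φ := by
      have h := lift_res W₁ W₂ hcomm hint φ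
      rw [eφ, liftRight_one] at h
      ext w
      have h' := DFunLike.congr_fun h w
      rw [MonoidHom.mul_apply, MonoidHom.one_apply, mul_one] at h'
      exact congrArg Units.val h'
    have lψ : liftRight W₁ W₂ hcomm hint (resRight W₁ W₂ ψ) = ψ := by
      have h := lift_res W₁ W₂ hcomm hint ψ
      rw [eψ, liftLeft_one] at h
      ext w
      have h' := DFunLike.congr_fun h w
      rw [MonoidHom.mul_apply, MonoidHom.one_apply, one_mul] at h'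
      exact congrArg Units.val h'
    have nφ : resLeft W₁ W₂ φ ≠ 1 := by
      intro h
      apply hφ
      rw [← lφ, h, liftLeft_one]
    have nψ : resRight W₁ W₂ ψ ≠ 1 := by
      intro h
      apply hψ
      rw [← lψ, h, liftRight_one]
    have := heq (resLeft W₁ W₂ φ) (resRight W₁ W₂ ψ) nφ nψ
    rw [lφ, lψ] at this
    have m1 : resLeft W₁ W₂ φ * 1 = resLeft W₁ W₂ φ := mul_one (resLeft W₁ W₂ φ)
    have m2 : 1 * resRight W₁ W₂ ψ = resRight W₁ W₂ ψ := one_mul (resRight W₁ W₂ ψ)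
    rw [resLeft_mul, resRight_mul, eφ, eψ, m1, m2]
    exact this

end Cfsg.Agent.Helper6.Arr
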