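import Mathlib
import Cfsg.Prelude.Def_GeometricClasses
import Cfsg.Agent.Lead.AschBase
import Cfsg.Agent.Lead.AschMain
import Cfsg.Agent.Helper3.AschForms
import Cfsg.Agent.Helper6.AschSub
import Cfsg.Agent.Helper7.AschNotSLA
import Cfsg.Agent.Helper7.AschNotSLB
import Cfsg.Agent.Helper7.AschC2
import Cfsg.Agent.Helper9.AschCompK
import Cfsg.Agent.Helper9.AschCompForms
import Cfsg.Agent.Helper6.AschCompCliff
import Cfsg.Agent.Helper6.AschCompSym
import Cfsg.Agent.Helper6.AschCompPerf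
import Cfsg.Agent.S5886

/-!
# ASCH-COMP: Aschbacher's theorem for `SL_n(F)`, `n` composite and not a prime power (assembly, helper6)

`asch_comp`: generic form with the perfect case as a hypothesis (lead's `PerfectCase n F`); `final6`, `final10`:
the statements S5799 (`SL_6`) and S5838 (`SL_10`).
-/

set_option autoImplicit false
set_option linter.unusedVariables false

namespace Cfsg.Agent.Helper6.AschComp

open Cfsg Cfsg.Geo Cfsg.Agent.Lead.Asch
open scoped MatrixGroups Matrix Kronecker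

variable {n : ℕ} {F : Type*} [Field F]

/-- Aschbacher's theorem for `SL_n(F)`, `n ≥ 3` not a prime power, generic form. -/
theorem asch_comp [Fintype F] (hperfect : PerfectCase n F) (hn3 : 3 ≤ n) (hnpp : ¬ ∃ r k : ℕ, r.Prime ∧ n = r ^ k)
    (H : Subgroup (GL (Fin n) F)) (hH : IsMaximalIn (specialLinear (Fin n) F) H) :
    (∃ W : Submodule F (Fin n → F), W ≠ ⊥ ∧ W ≠ ⊤ ∧ H = subspaceStabilizer W ⊓ specialLinear (Fin n) F) ∨
    (∃ (t m : ℕ) (D : Fin t → Submodule F (Fin n → F)), IsMDecomposition m D ∧ t * m = n ∧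
      ¬ (m = 1 ∧ Fintype.card F ≤ 4) ∧ ¬ (m = 2 ∧ Fintype.card F = 2) ∧
      H = decompositionStabilizer D ⊓ specialLinear (Fin n) F) ∨
    (∃ (r : ℕ) (K : Subalgebra F (Matrix (Fin n) (Fin n) F)), r.Prime ∧ r ∣ n ∧ IsFieldSubalgebra r K ∧
      H = subalgebraNormalizer K ⊓ specialLinear (Fin n) F) ∨
    (∃ (n₁ n₂ : ℕ) (e : Fin n ≃ Fin n₁ × Fin n₂) (P : GL (Fin n) F), 2 ≤ n₁ ∧ 2 ≤ n₂ ∧
      ¬ ((n₁ = 2 ∨ n₂ = 2) ∧ Fintype.card F = 2) ∧
      H = tensorProductSubgroup n₁ n₂ e P ⊓ specialLinear (Fin n) F) ∨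
    (∃ (F₀ : Subfield F) (r : ℕ) (P : GL (Fin n) F), r.Prime ∧ Fintype.card F = Nat.card F₀ ^ r ∧
      H = subfieldSubgroup F₀ P ⊓ specialLinear (Fin n) F) ∨
    (Odd (Fintype.card F) ∧ ∃ Q : (Fin n → F) → F, IsNondegenerateQuadraticForm Q ∧
      H = quadSimilarityGroup Q ⊓ specialLinear (Fin n) F) ∨
    (∃ f : (Fin n → F) → (Fin n → F) → F, IsSymplecticForm f ∧
      H = similarityGroup f ⊓ specialLinear (Fin n) F) ∨
    (∃ (σ : F ≃+* F) (f : (Fin n → F) → (Fin n → F) → F), IsUnitaryForm σ f ∧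
      H = similarityGroup f ⊓ specialLinear (Fin n) F) ∨
    InLinearResidualClass H := by
  have hHG : H ≤ specialLinear (Fin n) F := hH.1.le
  have exitSub : (∃ (F₁ : Subfield F) (r : ℕ) (Pm : GL (Fin n) F), r.Prime ∧
      Fintype.card F = Nat.card F₁ ^ r ∧ H ≤ subfieldSubgroup F₁ Pm) →
      (∃ (F₀ : Subfield F) (r : ℕ) (P : GL (Fin n) F), r.Prime ∧ Fintype.card F = Nat.card F₀ ^ r ∧
        H = subfieldSubgroup F₀ P ⊓ specialLinear (Fin n) F) := by
    rintro ⟨F₁, r, Pm, hr, hc, hle⟩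
    exact ⟨F₁, r, Pm, hr, hc, eq_inf_of_le hH hle
      (Cfsg.Agent.Helper7.Asch.not_le_subfieldSubgroup (by omega) F₁ (subfield_ne_top_of_card F₁ r hr hc) Pm)⟩
  have exitU : (∃ (σ : F ≃+* F) (f : (Fin n → F) → (Fin n → F) → F), IsUnitaryForm σ f ∧
      H ≤ similarityGroup f) →
      (∃ (σ : F ≃+* F) (f : (Fin n → F) → (Fin n → F) → F), IsUnitaryForm σ f ∧
        H = similarityGroup f ⊓ specialLinear (Fin n) F) := by
    rintro ⟨σ, f, hf, hle⟩
    exact ⟨σ, f, hf, eq_inf_of_le hH hle (Cfsg.Agent.Helper7.Asch.not_le_similarityGroup_unitary hn3 σ f hf)⟩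
  have exitQ : (Odd (Fintype.card F) ∧ ∃ Q : (Fin n → F) → F, IsNondegenerateQuadraticForm Q ∧
      H ≤ quadSimilarityGroup Q) →
      (Odd (Fintype.card F) ∧ ∃ Q : (Fin n → F) → F, IsNondegenerateQuadraticForm Q ∧
        H = quadSimilarityGroup Q ⊓ specialLinear (Fin n) F) := by
    rintro ⟨ho, Q, hQ, hle⟩
    exact ⟨ho, Q, hQ, eq_inf_of_le hH hle (Cfsg.Agent.Helper7.Asch.not_le_quadSimilarityGroup hn3 Q hQ)⟩
  have exitS : (∃ f : (Fin n → F) → (Fin n → F) → F, IsSymplecticForm f ∧ H ≤ similarityGroup f) →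
      (∃ f : (Fin n → F) → (Fin n → F) → F, IsSymplecticForm f ∧
        H = similarityGroup f ⊓ specialLinear (Fin n) F) := by
    rintro ⟨f, hf, hle⟩
    exact ⟨f, hf, eq_inf_of_le hH hle (Cfsg.Agent.Helper9.AschCompK.not_le_similarityGroup_symplectic hn3 f hf)⟩
  have exitW : (∃ W : Submodule F (Fin n → F), W ≠ ⊥ ∧ W ≠ ⊤ ∧ H ≤ subspaceStabilizer W) →
      (∃ W : Submodule F (Fin n → F), W ≠ ⊥ ∧ W ≠ ⊤ ∧
        H = subspaceStabilizer W ⊓ specialLinear (Fin n) F) := by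
    rintro ⟨W, h0, h1, hle⟩
    exact ⟨W, h0, h1, eq_inf_of_le hH hle (Cfsg.Agent.Helper7.Asch.not_le_subspaceStabilizer (by omega) W h0 h1)⟩
  have exitK : (∃ (r : ℕ) (K : Subalgebra F (Matrix (Fin n) (Fin n) F)), r.Prime ∧ r ∣ n ∧ IsFieldSubalgebra r K ∧
      H ≤ subalgebraNormalizer K) →
      (∃ (r : ℕ) (K : Subalgebra F (Matrix (Fin n) (Fin n) F)), r.Prime ∧ r ∣ n ∧ IsFieldSubalgebra r K ∧
      H = subalgebraNormalizer K ⊓ specialLinear (Fin n) F) := by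
    rintro ⟨r, K, hr, hrn, hK, hle⟩
    refine ⟨r, K, hr, hrn, hK, eq_inf_of_le hH hle ?_⟩
    have hlt : r < n := by
      rcases lt_or_eq_of_le (Nat.le_of_dvd (by omega) hrn) with h | h
      · exact h
      · exact absurd ⟨r, 1, hr, by rw [pow_one, h]⟩ hnpp
    have hmax := (Cfsg.Agent.S5886.result n r hr hrn hlt K hK).2
    intro hle'
    have : subalgebraNormalizer K ⊓ specialLinear (Fin n) F = specialLinear (Fin n) F :=
      inf_eq_right.2 hle'
    exact absurd this (ne_of_lt hmax.1)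
  -- Step 1: reducible
  by_cases hirr : ActsIrreducibly (matrixSet H)
  swap
  · exact Or.inl (exitW (exists_stab_of_not_irred hirr))
  -- Step 2: imprimitive
  by_cases hC2 : ∃ (t m : ℕ) (D : Fin t → Submodule F (Fin n → F)), IsMDecomposition m D ∧ t * m = n ∧
      H ≤ decompositionStabilizer D
  · obtain ⟨t, m, D, hD, htm, hle⟩ := hC2
    by_cases h1 : m = 1 ∧ Fintype.card F ≤ 4
    · obtain ⟨rfl, hq⟩ := h1
      have htn : t = n := by omega
      subst htn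
      rcases Cfsg.Agent.Helper7.Asch.c2_small (by omega) D hD hq with
        ⟨W, h0, h1, hW⟩ | ⟨ho, Q, hQ, hQle⟩ | ⟨σ, f, hf, hfle⟩
      · exact Or.inl (exitW ⟨W, h0, h1, hle.trans hW⟩)
      · exact Or.inr (Or.inr (Or.inr (Or.inr (Or.inr (Or.inl (exitQ ⟨ho, Q, hQ, hle.trans hQle⟩))))))
      · exact Or.inr (Or.inr (Or.inr (Or.inr (Or.inr (Or.inr (Or.inr (Or.inl
          (exitU ⟨σ, f, hf, hle.trans hfle⟩))))))))
    by_cases h2 : m = 2 ∧ Fintype.card F = 2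
    · obtain ⟨rfl, hq⟩ := h2
      obtain ⟨f, hf, hfle⟩ := Cfsg.Agent.Helper9.AschComp.c2_small_two D hD hq
      exact Or.inr (Or.inr (Or.inr (Or.inr (Or.inr (Or.inr (Or.inl (exitS ⟨f, hf, hle.trans hfle⟩)))))))
    · exact Or.inr (Or.inl ⟨t, m, D, hD, htm, h1, h2, eq_inf_of_le hH hle (Cfsg.Agent.Helper9.AschComp.not_le_decompositionStabilizer' D hD)⟩)
  -- Step 3: extension field
  by_cases hC3 : ∃ (r : ℕ) (K : Subalgebra F (Matrix (Fin n) (Fin n) F)), r.Prime ∧ r ∣ n ∧ IsFieldSubalgebra r K ∧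
      H ≤ subalgebraNormalizer K
  · exact Or.inr (Or.inr (Or.inl (exitK hC3)))
  -- Step 4: tensor
  by_cases hC4 : ∃ (n₁ n₂ : ℕ) (e : Fin n ≃ Fin n₁ × Fin n₂) (P : GL (Fin n) F), 2 ≤ n₁ ∧ 2 ≤ n₂ ∧
      H ≤ tensorProductSubgroup n₁ n₂ e P
  · obtain ⟨n₁, n₂, e, P, h1, h2, hle⟩ := hC4
    by_cases hq : (n₁ = 2 ∨ n₂ = 2) ∧ Fintype.card F = 2
    · exfalso
      obtain ⟨h12, hq⟩ := hq
      have hcard : n = n₁ * n₂ := by
        have := Fintype.card_congr e
        simpa using this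
      rcases h12 with rfl | rfl
      · obtain ⟨K, hK, hKle⟩ := Cfsg.Agent.Helper9.AschCompK.c4_small_two (by omega) hq n₂ e P
        exact hC3 ⟨2, K, Nat.prime_two, ⟨n₂, hcard⟩, hK, hle.trans hKle⟩
      · rw [Cfsg.Agent.Helper9.AschCompK.tensorProductSubgroup_swap] at hle
        obtain ⟨K, hK, hKle⟩ := Cfsg.Agent.Helper9.AschCompK.c4_small_two (by omega) hq n₁ _ P
        exact hC3 ⟨2, K, Nat.prime_two, ⟨n₁, by rw [hcard, mul_comm]⟩, hK, hle.trans hKle⟩
    · exact Or.inr (Or.inr (Or.inr (Or.inl ⟨n₁, n₂, e, P, h1, h2, hq,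
        eq_inf_of_le hH hle (Cfsg.Agent.Helper9.AschCompK.not_le_tensorProductSubgroup n₁ n₂ h1 h2 e P)⟩)))
  -- Step 5: all normal subgroups are scalar or absolutely irreducible
  have hall : ∀ M : Subgroup (GL (Fin n) F), M ≤ H → Nzes H M →
      M ≤ scalars (Fin n) F ∨ ActsAbsolutelyIrreducibly (matrixSet M) := by
    intro M hMH hMnz
    rcases clifford_comp (by omega) hirr hMH hMnz with h | h | h | h | h
    · exact absurd h hC2
    · exact absurd h hC3
    · exact absurd h hC4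
    · exact Or.inl h
    · exact Or.inr h
  have hHns : ¬ H ≤ scalars (Fin n) F := not_le_scalars_of_irred (by omega) hirr
  obtain ⟨N, hNH, hNnz, hNns, hmin⟩ := exists_minimal hHns
  have hNabs : ActsAbsolutelyIrreducibly (matrixSet N) := (hall N hNH hNnz).resolve_left hNns
  by_cases hperf : ⁅N, N⁆ = N
  · -- perfect case
    obtain ⟨hsimp, hnab, hcent⟩ := hperfect hNH hNnz hNns hall hmin hperf
    by_cases hsub : ∃ F₀ : Subfield F, F₀ ≠ ⊤ ∧ RealisableOver F₀ (matrixSet N)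
    · obtain ⟨F₀, h0, hr⟩ := hsub
      exact Or.inr (Or.inr (Or.inr (Or.inr (Or.inl
        (exitSub (Cfsg.Agent.Helper6.Asch.subfield_case (by omega) hNnz hNabs F₀ h0 hr))))))
    by_cases hS : ∃ f : (Fin n → F) → (Fin n → F) → F, IsSymplecticForm f ∧ FixesForm (matrixSet N) f
    · obtain ⟨f, hf, hfix⟩ := hS
      exact Or.inr (Or.inr (Or.inr (Or.inr (Or.inr (Or.inr (Or.inl
        (exitS ⟨f, hf, Cfsg.Agent.Helper9.AschCompK.le_similarityGroup_symplectic hNnz hNabs f hf hfix⟩)))))))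
    by_cases hQ : ∃ Q : (Fin n → F) → F, IsNondegenerateQuadraticForm Q ∧ FixesQuadForm (matrixSet N) Q
    · obtain ⟨Q, hQ, hfix⟩ := hQ
      by_cases ho : Odd (Fintype.card F)
      · exact Or.inr (Or.inr (Or.inr (Or.inr (Or.inr (Or.inl
          (exitQ ⟨ho, Q, hQ, Cfsg.Agent.Helper3.Asch.le_quadSimilarityGroup hNnz hNabs ho Q hQ hfix⟩))))))
      · exact absurd ⟨_, Cfsg.Agent.Helper9.AschCompK.polar_symplectic_of_even ho Q hQ, Cfsg.Agent.Helper9.AschCompK.fixesForm_polar Q hfix⟩ hS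
    by_cases hU : ∃ (σ : F ≃+* F) (f : (Fin n → F) → (Fin n → F) → F), IsUnitaryForm σ f ∧
        FixesForm (matrixSet N) f
    · obtain ⟨σ, f, hf, hfix⟩ := hU
      exact Or.inr (Or.inr (Or.inr (Or.inr (Or.inr (Or.inr (Or.inr (Or.inl
        (exitU ⟨σ, f, hf, Cfsg.Agent.Helper3.Asch.le_similarityGroup_unitary hNnz hNabs σ f hf hfix⟩))))))))
    · refine Or.inr (Or.inr (Or.inr (Or.inr (Or.inr (Or.inr (Or.inr (Or.inr ⟨N, ?_, hQ, hS, hU⟩)))))))
      exact
          { le := hNH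
            normal := hNnz
            perfect := hperf
            simple := hsimp
            nonabelian := hnab
            centralizer_scalar := hcent
            absIrred := hNabs
            no_subfield := fun F₀ h0 hr => hsub ⟨F₀, h0, hr⟩ }
  · -- symplectic-type case: impossible
    have hcomm : ⁅N, N⁆ ≤ scalars (Fin n) F := by
      by_contra hc
      exact hperf (hmin _ (Subgroup.commutator_le_self N) (nzes_commutator hNnz) hc)
    exact absurd (symplectic_type_prime_pow (by omega) hNH hNnz hNns hNabs hmin hcomm) hnpp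



theorem final6 {F : Type*} [Field F] [Fintype F] (H : Subgroup (Matrix.GeneralLinearGroup (Fin 6) F)) (hH : Cfsg.Geo.IsMaximalIn (Cfsg.Geo.specialLinear (Fin 6) F) H) :
    (∃ W : Submodule F (Fin 6 → F), W ≠ ⊥ ∧ W ≠ ⊤ ∧ H = Cfsg.Geo.subspaceStabilizer W ⊓ Cfsg.Geo.specialLinear (Fin 6) F) ∨
    (5 ≤ Fintype.card F ∧ ∃ D : Fin 6 → Submodule F (Fin 6 → F), Cfsg.Geo.IsMDecomposition 1 D ∧ H = Cfsg.Geo.decompositionStabilizer D ⊓ Cfsg.Geo.specialLinear (Fin 6) F) ∨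
    (3 ≤ Fintype.card F ∧ ∃ D : Fin 3 → Submodule F (Fin 6 → F), Cfsg.Geo.IsMDecomposition 2 D ∧ H = Cfsg.Geo.decompositionStabilizer D ⊓ Cfsg.Geo.specialLinear (Fin 6) F) ∨
    (∃ D : Fin 2 → Submodule F (Fin 6 → F), Cfsg.Geo.IsMDecomposition 3 D ∧ H = Cfsg.Geo.decompositionStabilizer D ⊓ Cfsg.Geo.specialLinear (Fin 6) F) ∨
    (∃ K : Subalgebra F (Matrix (Fin 6) (Fin 6) F), Cfsg.Geo.IsFieldSubalgebra 2 K ∧ H = Cfsg.Geo.subalgebraNormalizer K ⊓ Cfsg.Geo.specialLinear (Fin 6) F) ∨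
    (∃ K : Subalgebra F (Matrix (Fin 6) (Fin 6) F), Cfsg.Geo.IsFieldSubalgebra 3 K ∧ H = Cfsg.Geo.subalgebraNormalizer K ⊓ Cfsg.Geo.specialLinear (Fin 6) F) ∨
    (3 ≤ Fintype.card F ∧ ∃ (e : Fin 6 ≃ Fin 2 × Fin 3) (P : Matrix.GeneralLinearGroup (Fin 6) F), H = Cfsg.Geo.tensorProductSubgroup 2 3 e P ⊓ Cfsg.Geo.specialLinear (Fin 6) F) ∨
    (∃ (F₀ : Subfield F) (r : ℕ) (P : Matrix.GeneralLinearGroup (Fin 6) F), r.Prime ∧ Fintype.card F = Nat.card F₀ ^ r ∧ H = Cfsg.Geo.subfieldSubgroup F₀ P ⊓ Cfsg.Geo.specialLinear (Fin 6) F) ∨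
    (Odd (Fintype.card F) ∧ ∃ Q : (Fin 6 → F) → F, Cfsg.Geo.IsNondegenerateQuadraticForm Q ∧ H = Cfsg.Geo.quadSimilarityGroup Q ⊓ Cfsg.Geo.specialLinear (Fin 6) F) ∨
    (∃ f : (Fin 6 → F) → (Fin 6 → F) → F, Cfsg.Geo.IsSymplecticForm f ∧ H = Cfsg.Geo.similarityGroup f ⊓ Cfsg.Geo.specialLinear (Fin 6) F) ∨
    (∃ (σ : F ≃+* F) (f : (Fin 6 → F) → (Fin 6 → F) → F), Cfsg.Geo.IsUnitaryForm σ f ∧ H = Cfsg.Geo.similarityGroup f ⊓ Cfsg.Geo.specialLinear (Fin 6) F) ∨
    Cfsg.Geo.InLinearResidualClass H := by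
  have hq2 : 2 ≤ Fintype.card F := Fintype.one_lt_card
  have hsq6 : ∀ d : ℕ, d * d ∣ 6 → d = 1 := by
    intro d hd
    have hd6 : d * d ≤ 6 := Nat.le_of_dvd (by norm_num) hd
    have hd3 : d ≤ 2 := by nlinarith
    interval_cases d
    · simp at hd
    · rfl
    · exact absurd hd (by norm_num)
  have hnpp : ¬ ∃ r k : ℕ, r.Prime ∧ 6 = r ^ k := by
    rintro ⟨r, k, hr, h6⟩
    have hr6 : r ∣ 6 := by
      rcases k with _ | k
      · simp at h6
      · rw [h6, pow_succ]; exact dvd_mul_left _ _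
    have hr6' : r ≤ 6 := Nat.le_of_dvd (by norm_num) hr6
    have hr2 := hr.two_le
    have h23 : r = 2 ∨ r = 3 := by
      interval_cases r
      · exact Or.inl rfl
      · exact Or.inr rfl
      · exact absurd hr (by norm_num)
      · exact absurd hr6 (by norm_num)
      · exact absurd hr (by norm_num)
    rcases h23 with rfl | rfl
    · have : (3 : ℕ) ∣ 2 ^ k := by rw [← h6]; norm_num
      have := (Nat.Prime.dvd_of_dvd_pow Nat.prime_three this)
      omega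
    · have : (2 : ℕ) ∣ 3 ^ k := by rw [← h6]; norm_num
      have := (Nat.Prime.dvd_of_dvd_pow Nat.prime_two this)
      omega
  rcases asch_comp (fun hNH hnz hns hall hmin hperf => perfect_case_comp (by norm_num) hsq6 hNH hnz hns hall hmin hperf) (by norm_num) hnpp H hH with h | h | h | h | h | h | h | h | h
  · exact Or.inl h
  · obtain ⟨t, m, D, hD, htm, h1, h2, hHD⟩ := h
    have ht2 := hD.two_le
    have hm := hD.pos
    have ht6 : t ≤ 6 := by nlinarith
    interval_cases t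
    · have hm3 : m = 3 := by omega
      subst hm3
      exact Or.inr (Or.inr (Or.inr (Or.inl ⟨D, hD, hHD⟩)))
    · have hm2 : m = 2 := by omega
      subst hm2
      refine Or.inr (Or.inr (Or.inl ⟨?_, D, hD, hHD⟩))
      by_contra hlt
      exact h2 ⟨rfl, by omega⟩
    · exfalso; omega
    · exfalso; omega
    · have hm1 : m = 1 := by omega
      subst hm1
      refine Or.inr (Or.inl ⟨?_, D, hD, hHD⟩)
      by_contra hlt
      exact h1 ⟨rfl, by omega⟩
  · obtain ⟨r, K, hr, hrn, hK, hHK⟩ := h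
    have hr6 : r ≤ 6 := Nat.le_of_dvd (by norm_num) hrn
    have hr2 := hr.two_le
    interval_cases r
    · exact Or.inr (Or.inr (Or.inr (Or.inr (Or.inl ⟨K, hK, hHK⟩))))
    · exact Or.inr (Or.inr (Or.inr (Or.inr (Or.inr (Or.inl ⟨K, hK, hHK⟩)))))
    · exact absurd hr (by norm_num)
    · exact absurd hrn (by norm_num)
    · exact absurd hr (by norm_num)
  · obtain ⟨n₁, n₂, e, P, h1, h2, hq, hHT⟩ := h
    have hcard : 6 = n₁ * n₂ := by
      have := Fintype.card_congr e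
      simpa using this
    have hn1 : n₁ ≤ 3 := by nlinarith
    interval_cases n₁
    · have : n₂ = 3 := by omega
      subst this
      refine Or.inr (Or.inr (Or.inr (Or.inr (Or.inr (Or.inr (Or.inl ⟨?_, e, P, hHT⟩))))))
      by_contra hlt
      exact hq ⟨Or.inl rfl, by omega⟩
    · have : n₂ = 2 := by omega
      subst this
      rw [Cfsg.Agent.Helper9.AschCompK.tensorProductSubgroup_swap] at hHT
      refine Or.inr (Or.inr (Or.inr (Or.inr (Or.inr (Or.inr (Or.inl ⟨?_, _, P, hHT⟩))))))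
      by_contra hlt
      exact hq ⟨Or.inr rfl, by omega⟩
  · exact Or.inr (Or.inr (Or.inr (Or.inr (Or.inr (Or.inr (Or.inr (Or.inl h)))))))
  · exact Or.inr (Or.inr (Or.inr (Or.inr (Or.inr (Or.inr (Or.inr (Or.inr (Or.inl h))))))))
  · exact Or.inr (Or.inr (Or.inr (Or.inr (Or.inr (Or.inr (Or.inr (Or.inr (Or.inr (Or.inl h)))))))))
  · exact Or.inr (Or.inr (Or.inr (Or.inr (Or.inr (Or.inr (Or.inr (Or.inr (Or.inr (Or.inr (Or.inl h))))))))))
  · exact Or.inr (Or.inr (Or.inr (Or.inr (Or.inr (Or.inr (Or.inr (Or.inr (Or.inr (Or.inr (Or.inr h))))))))))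

theorem final10 {F : Type*} [Field F] [Fintype F] (H : Subgroup (Matrix.GeneralLinearGroup (Fin 10) F)) (hH : Cfsg.Geo.IsMaximalIn (Cfsg.Geo.specialLinear (Fin 10) F) H) :
    (∃ W : Submodule F (Fin 10 → F), W ≠ ⊥ ∧ W ≠ ⊤ ∧ H = Cfsg.Geo.subspaceStabilizer W ⊓ Cfsg.Geo.specialLinear (Fin 10) F) ∨
    (5 ≤ Fintype.card F ∧ ∃ D : Fin 10 → Submodule F (Fin 10 → F), Cfsg.Geo.IsMDecomposition 1 D ∧ H = Cfsg.Geo.decompositionStabilizer D ⊓ Cfsg.Geo.specialLinear (Fin 10) F) ∨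
    (3 ≤ Fintype.card F ∧ ∃ D : Fin 5 → Submodule F (Fin 10 → F), Cfsg.Geo.IsMDecomposition 2 D ∧ H = Cfsg.Geo.decompositionStabilizer D ⊓ Cfsg.Geo.specialLinear (Fin 10) F) ∨
    (∃ D : Fin 2 → Submodule F (Fin 10 → F), Cfsg.Geo.IsMDecomposition 5 D ∧ H = Cfsg.Geo.decompositionStabilizer D ⊓ Cfsg.Geo.specialLinear (Fin 10) F) ∨
    (∃ K : Subalgebra F (Matrix (Fin 10) (Fin 10) F), Cfsg.Geo.IsFieldSubalgebra 5 K ∧ H = Cfsg.Geo.subalgebraNormalizer K ⊓ Cfsg.Geo.specialLinear (Fin 10) F) ∨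
    (∃ K : Subalgebra F (Matrix (Fin 10) (Fin 10) F), Cfsg.Geo.IsFieldSubalgebra 2 K ∧ H = Cfsg.Geo.subalgebraNormalizer K ⊓ Cfsg.Geo.specialLinear (Fin 10) F) ∨
    (3 ≤ Fintype.card F ∧ ∃ (e : Fin 10 ≃ Fin 2 × Fin 5) (P : Matrix.GeneralLinearGroup (Fin 10) F), H = Cfsg.Geo.tensorProductSubgroup 2 5 e P ⊓ Cfsg.Geo.specialLinear (Fin 10) F) ∨
    (∃ (F₀ : Subfield F) (r : ℕ) (P : Matrix.GeneralLinearGroup (Fin 10) F), r.Prime ∧ Fintype.card F = Nat.card F₀ ^ r ∧ H = Cfsg.Geo.subfieldSubgroup F₀ P ⊓ Cfsg.Geo.specialLinear (Fin 10) F) ∨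
    (Odd (Fintype.card F) ∧ ∃ Q : (Fin 10 → F) → F, Cfsg.Geo.IsNondegenerateQuadraticForm Q ∧ H = Cfsg.Geo.quadSimilarityGroup Q ⊓ Cfsg.Geo.specialLinear (Fin 10) F) ∨
    (∃ f : (Fin 10 → F) → (Fin 10 → F) → F, Cfsg.Geo.IsSymplecticForm f ∧ H = Cfsg.Geo.similarityGroup f ⊓ Cfsg.Geo.specialLinear (Fin 10) F) ∨
    (∃ (σ : F ≃+* F) (f : (Fin 10 → F) → (Fin 10 → F) → F), Cfsg.Geo.IsUnitaryForm σ f ∧ H = Cfsg.Geo.similarityGroup f ⊓ Cfsg.Geo.specialLinear (Fin 10) F) ∨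
    Cfsg.Geo.InLinearResidualClass H := by
  have hq2 : 2 ≤ Fintype.card F := Fintype.one_lt_card
  have hsq10 : ∀ d : ℕ, d * d ∣ 10 → d = 1 := by
    intro d hd
    have hd6 : d * d ≤ 10 := Nat.le_of_dvd (by norm_num) hd
    have hd3 : d ≤ 3 := by nlinarith
    interval_cases d
    · simp at hd
    · rfl
    · exact absurd hd (by norm_num)
    · exact absurd hd (by norm_num)
  have hnpp : ¬ ∃ r k : ℕ, r.Prime ∧ 10 = r ^ k := by
    rintro ⟨r, k, hr, h6⟩
    have hr6 : r ∣ 10 := by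
      rcases k with _ | k
      · simp at h6
      · rw [h6, pow_succ]; exact dvd_mul_left _ _
    have hr6' : r ≤ 10 := Nat.le_of_dvd (by norm_num) hr6
    have hr2 := hr.two_le
    have h23 : r = 2 ∨ r = 5 := by
      interval_cases r
      · exact Or.inl rfl
      · exact absurd hr6 (by norm_num)
      · exact absurd hr (by norm_num)
      · exact Or.inr rfl
      · exact absurd hr (by norm_num)
      · exact absurd hr6 (by norm_num)
      · exact absurd hr (by norm_num)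
      · exact absurd hr (by norm_num)
      · exact absurd hr (by norm_num)
    rcases h23 with rfl | rfl
    · have : (5 : ℕ) ∣ 2 ^ k := by rw [← h6]; norm_num
      have := (Nat.Prime.dvd_of_dvd_pow (by norm_num) this)
      omega
    · have : (2 : ℕ) ∣ 5 ^ k := by rw [← h6]; norm_num
      have := (Nat.Prime.dvd_of_dvd_pow Nat.prime_two this)
      omega
  rcases asch_comp (fun hNH hnz hns hall hmin hperf => perfect_case_comp (by norm_num) hsq10 hNH hnz hns hall hmin hperf) (by norm_num) hnpp H hH with h | h | h | h | h | h | h | h | h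
  · exact Or.inl h
  · obtain ⟨t, m, D, hD, htm, h1, h2, hHD⟩ := h
    have ht2 := hD.two_le
    have hm := hD.pos
    have ht6 : t ≤ 10 := by nlinarith
    interval_cases t
    · have hm3 : m = 5 := by omega
      subst hm3
      exact Or.inr (Or.inr (Or.inr (Or.inl ⟨D, hD, hHD⟩)))
    · exfalso; omega
    · exfalso; omega
    · have hm2 : m = 2 := by omega
      subst hm2
      refine Or.inr (Or.inr (Or.inl ⟨?_, D, hD, hHD⟩))
      by_contra hlt
      exact h2 ⟨rfl, by omega⟩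
    · exfalso; omega
    · exfalso; omega
    · exfalso; omega
    · exfalso; omega
    · have hm1 : m = 1 := by omega
      subst hm1
      refine Or.inr (Or.inl ⟨?_, D, hD, hHD⟩)
      by_contra hlt
      exact h1 ⟨rfl, by omega⟩
  · obtain ⟨r, K, hr, hrn, hK, hHK⟩ := h
    have hr6 : r ≤ 10 := Nat.le_of_dvd (by norm_num) hrn
    have hr2 := hr.two_le
    interval_cases r
    · exact Or.inr (Or.inr (Or.inr (Or.inr (Or.inr (Or.inl ⟨K, hK, hHK⟩)))))
    · exact absurd hrn (by norm_num)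
    · exact absurd hr (by norm_num)
    · exact Or.inr (Or.inr (Or.inr (Or.inr (Or.inl ⟨K, hK, hHK⟩))))
    · exact absurd hr (by norm_num)
    · exact absurd hrn (by norm_num)
    · exact absurd hr (by norm_num)
    · exact absurd hr (by norm_num)
    · exact absurd hr (by norm_num)
  · obtain ⟨n₁, n₂, e, P, h1, h2, hq, hHT⟩ := h
    have hcard : 10 = n₁ * n₂ := by
      have := Fintype.card_congr e
      simpa using this
    have hn1 : n₁ ≤ 5 := by nlinarith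
    interval_cases n₁
    · have : n₂ = 5 := by omega
      subst this
      refine Or.inr (Or.inr (Or.inr (Or.inr (Or.inr (Or.inr (Or.inl ⟨?_, e, P, hHT⟩))))))
      by_contra hlt
      exact hq ⟨Or.inl rfl, by omega⟩
    · exfalso; omega
    · exfalso; omega
    · have : n₂ = 2 := by omega
      subst this
      rw [Cfsg.Agent.Helper9.AschCompK.tensorProductSubgroup_swap] at hHT
      refine Or.inr (Or.inr (Or.inr (Or.inr (Or.inr (Or.inr (Or.inl ⟨?_, _, P, hHT⟩))))))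
      by_contra hlt
      exact hq ⟨Or.inr rfl, by omega⟩
  · exact Or.inr (Or.inr (Or.inr (Or.inr (Or.inr (Or.inr (Or.inr (Or.inl h)))))))
  · exact Or.inr (Or.inr (Or.inr (Or.inr (Or.inr (Or.inr (Or.inr (Or.inr (Or.inl h))))))))
  · exact Or.inr (Or.inr (Or.inr (Or.inr (Or.inr (Or.inr (Or.inr (Or.inr (Or.inr (Or.inl h)))))))))
  · exact Or.inr (Or.inr (Or.inr (Or.inr (Or.inr (Or.inr (Or.inr (Or.inr (Or.inr (Or.inr (Or.inl h))))))))))
  · exact Or.inr (Or.inr (Or.inr (Or.inr (Or.inr (Or.inr (Or.inr (Or.inr (Or.inr (Or.inr (Or.inr h))))))))))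

end Cfsg.Agent.Helper6.AschComp
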