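import Mathlib
import Cfsg.Prelude.Def_GeometricClasses
import Cfsg.Agent.Lead.AschBase
import Cfsg.Agent.Helper5.AschHom4
import Cfsg.Agent.Helper9.AschCompTensor
import Cfsg.Agent.Helper9.AschCompHom
import Cfsg.Agent.Helper4.AschPerfectC

set_option autoImplicit false
set_option linter.unusedVariables false
set_option linter.unusedSectionVars false

namespace Cfsg.Agent.Helper6.AschComp

open Cfsg Cfsg.Geo Cfsg.Agent.Lead.Asch Cfsg.Agent.Helper5.Asch Cfsg.Agent.Helper9.AschComp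
open scoped MatrixGroups Matrix Kronecker

variable {n d e : ℕ} {F : Type*} [Field F]

/-- a matrix commuting with `1 ⊗ s` for all `s` in an absolutely irreducible set is of the form `B ⊗ 1` -/
theorem kron_one_of_commute (S : Set (Matrix (Fin d) (Fin d) F)) (habs : ActsAbsolutelyIrreducibly S)
    (Y : Matrix (Fin e × Fin d) (Fin e × Fin d) F)
    (hY : ∀ s ∈ S, Y * ((1 : Matrix (Fin e) (Fin e) F) ⊗ₖ s) = ((1 : Matrix (Fin e) (Fin e) F) ⊗ₖ s) * Y) :
    ∃ B : Matrix (Fin e) (Fin e) F, Y = B ⊗ₖ (1 : Matrix (Fin d) (Fin d) F) := by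
  classical
  have hblk : ∀ i j, ∃ c : F, blk Y i j = c • (1 : Matrix (Fin d) (Fin d) F) := by
    intro i j
    apply habs.2
    intro s hs
    rw [← blk_mul_one_kron, ← blk_one_kron_mul, hY s hs]
  choose B hB using hblk
  exact ⟨Matrix.of B, eq_kron_of_blk Y (Matrix.of B) 1 (fun i j => by rw [hB i j]; rfl)⟩

/-- the embedding of `F^e` as the vectors supported on the second coordinate `a₀` -/
def slice (eqv : Fin n ≃ Fin e × Fin d) (a₀ : Fin d) : (Fin e → F) →ₗ[F] (Fin n → F) where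
  toFun u := fun k => if (eqv k).2 = a₀ then u (eqv k).1 else 0
  map_add' u v := by
    funext k
    simp only [Pi.add_apply]
    split_ifs <;> simp
  map_smul' c u := by
    funext k
    simp only [Pi.smul_apply, smul_eq_mul, RingHom.id_apply]
    split_ifs <;> simp

theorem slice_apply (eqv : Fin n ≃ Fin e × Fin d) (a₀ : Fin d) (u : Fin e → F) (k : Fin n) :
    slice eqv a₀ u k = if (eqv k).2 = a₀ then u (eqv k).1 else 0 := rfl

theorem slice_injective (eqv : Fin n ≃ Fin e × Fin d) (a₀ : Fin d) :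
    Function.Injective (slice (F := F) eqv a₀) := by
  intro u v huv
  funext i
  have := congrFun huv (eqv.symm (i, a₀))
  simpa [slice_apply] using this

theorem kron_one_mulVec_slice (eqv : Fin n ≃ Fin e × Fin d) (a₀ : Fin d) (B : Matrix (Fin e) (Fin e) F)
    (u : Fin e → F) :
    ((B ⊗ₖ (1 : Matrix (Fin d) (Fin d) F)).submatrix eqv eqv) *ᵥ (slice eqv a₀ u) =
      slice eqv a₀ (B *ᵥ u) := by
  classical
  funext k
  rw [Matrix.mulVec, dotProduct, slice_apply]
  rw [← Equiv.sum_comp eqv.symm]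
  simp only [Matrix.submatrix_apply, Equiv.apply_symm_apply, slice_apply]
  rw [Fintype.sum_prod_type]
  simp only [Matrix.kroneckerMap_apply, Matrix.one_apply]
  by_cases hk : (eqv k).2 = a₀
  · rw [if_pos hk, Matrix.mulVec, dotProduct]
    apply Finset.sum_congr rfl
    intro i _
    rw [Finset.sum_eq_single a₀]
    · rw [if_pos hk, if_pos rfl, mul_one]
    · intro b _ hb
      rw [if_neg hb, mul_zero]
    · intro h; exact absurd (Finset.mem_univ _) h
  · rw [if_neg hk]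
    apply Finset.sum_eq_zero
    intro i _
    apply Finset.sum_eq_zero
    intro b _
    by_cases hb : b = a₀
    · subst hb
      rw [if_neg hk, mul_zero, zero_mul]
    · rw [if_neg hb, mul_zero]


/-- the matrix of `g` in the adapted basis -/
def adapt (eqv : Fin n ≃ Fin e × Fin d) (P₀ : GL (Fin n) F) (g : Matrix (Fin n) (Fin n) F) :
    Matrix (Fin e × Fin d) (Fin e × Fin d) F :=
  (((P₀⁻¹ : GL (Fin n) F) : Matrix (Fin n) (Fin n) F) * g * (P₀ : Matrix (Fin n) (Fin n) F)).submatrix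
    eqv.symm eqv.symm

theorem adapt_mul (eqv : Fin n ≃ Fin e × Fin d) (P₀ : GL (Fin n) F) (g₁ g₂ : Matrix (Fin n) (Fin n) F) :
    adapt eqv P₀ (g₁ * g₂) = adapt eqv P₀ g₁ * adapt eqv P₀ g₂ := by
  unfold adapt
  rw [Matrix.submatrix_mul_equiv]
  congr 1
  have e1 : (P₀ : Matrix (Fin n) (Fin n) F) * ((P₀⁻¹ : GL (Fin n) F) : Matrix (Fin n) (Fin n) F) = 1 :=
    Units.mul_inv P₀
  calc ((P₀⁻¹ : GL (Fin n) F) : Matrix (Fin n) (Fin n) F) * (g₁ * g₂) * (P₀ : Matrix (Fin n) (Fin n) F)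
      = ((P₀⁻¹ : GL (Fin n) F) : Matrix (Fin n) (Fin n) F) * g₁ * 1 * g₂ * (P₀ : Matrix (Fin n) (Fin n) F) := by
        simp only [mul_one, mul_assoc]
    _ = _ := by rw [← e1]; simp only [mul_assoc]

theorem adapt_of_rel (eqv : Fin n ≃ Fin e × Fin d) (P₀ : GL (Fin n) F) (g : Matrix (Fin n) (Fin n) F)
    (K : Matrix (Fin e × Fin d) (Fin e × Fin d) F)
    (hg : g * (P₀ : Matrix (Fin n) (Fin n) F) = (P₀ : Matrix (Fin n) (Fin n) F) * K.submatrix eqv eqv) :
    adapt eqv P₀ g = K := by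
  unfold adapt
  have e2 : ((P₀⁻¹ : GL (Fin n) F) : Matrix (Fin n) (Fin n) F) * (P₀ : Matrix (Fin n) (Fin n) F) = 1 :=
    Units.inv_mul P₀
  rw [mul_assoc, hg, ← mul_assoc, e2, one_mul]
  ext p q
  simp

theorem rel_of_adapt (eqv : Fin n ≃ Fin e × Fin d) (P₀ : GL (Fin n) F) (g : Matrix (Fin n) (Fin n) F)
    (K : Matrix (Fin e × Fin d) (Fin e × Fin d) F) (hg : adapt eqv P₀ g = K) :
    g * (P₀ : Matrix (Fin n) (Fin n) F) = (P₀ : Matrix (Fin n) (Fin n) F) * K.submatrix eqv eqv := by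
  have e1 : (P₀ : Matrix (Fin n) (Fin n) F) * ((P₀⁻¹ : GL (Fin n) F) : Matrix (Fin n) (Fin n) F) = 1 :=
    Units.mul_inv P₀
  rw [← hg]
  unfold adapt
  have : ((((P₀⁻¹ : GL (Fin n) F) : Matrix (Fin n) (Fin n) F) * g *
      (P₀ : Matrix (Fin n) (Fin n) F)).submatrix eqv.symm eqv.symm).submatrix eqv eqv =
      ((P₀⁻¹ : GL (Fin n) F) : Matrix (Fin n) (Fin n) F) * g * (P₀ : Matrix (Fin n) (Fin n) F) := by
    ext p q
    simp
  rw [this, ← mul_assoc, ← mul_assoc, e1, one_mul]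


/-- **K2b**: a non-scalar normal subgroup `P` of an absolutely irreducible group `N = P · C_N(P)` does not
commute with a `GL`-conjugate of itself when no square `d² > 1` divides `n`. -/
theorem no_commuting_conjugate [Fintype F] (hsq : ∀ d : ℕ, d * d ∣ n → d = 1)
    {N P : Subgroup (GL (Fin n) F)} (hN : ActsAbsolutelyIrreducibly (matrixSet N)) (hPN : P ≤ N)
    (hPnz : Nzes N P) (hPns : ¬ P ≤ scalars (Fin n) F) (hPperf : ⁅P, P⁆ = P)
    (hgen : ∀ x ∈ N, ∃ a ∈ P, ∃ c ∈ N, x = a * c ∧ ∀ y ∈ P, c * y = y * c)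
    (h : GL (Fin n) F) (hcomm : ∀ y ∈ P, ∀ x ∈ P, (h * y * h⁻¹) * x = x * (h * y * h⁻¹)) : False := by
  classical
  have hn : 0 < n := by
    by_contra h0
    have hn0 : n = 0 := by omega
    subst hn0
    apply hPns
    intro x hx
    have : x = 1 := Units.ext (Subsingleton.elim _ _)
    rw [this]
    exact Subgroup.one_mem _
  -- `P` is homogeneous
  have hhom : ∀ X : Submodule F (Fin n → F), FullyInv P X → X = ⊥ ∨ X = ⊤ := by
    intro X hX
    apply (irr_iff.1 hN.1) X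
    intro x hx
    obtain ⟨a, ha, c, hc, rfl, hcy⟩ := hgen x hx
    rw [Cfsg.Agent.Helper5.Asch.L_mul, Submodule.map_comp]
    have h1 : X.map (L c) ≤ X := hX.2 (L c) (by
      intro y hy v
      rw [← L_mul_apply, ← L_mul_apply, hcy y hy])
    exact le_trans (Submodule.map_mono h1) (hX.1 a ha)
  -- the centre of the commutant of `P` is trivial
  have hct : ∀ M : Matrix (Fin n) (Fin n) F, (∀ s ∈ matrixSet P, M * s = s * M) →
      (∀ c : Matrix (Fin n) (Fin n) F, (∀ s ∈ matrixSet P, c * s = s * c) → M * c = c * M) →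
      ∃ a : F, M = a • (1 : Matrix (Fin n) (Fin n) F) := by
    intro M hM1 hM2
    apply hN.2
    intro s hs
    obtain ⟨x, hx, rfl⟩ := mem_matrixSet_iff.1 hs
    obtain ⟨a, ha, c, hc, rfl, hcy⟩ := hgen x hx
    have h1 := hM1 _ (coe_mem_matrixSet ha)
    have h2 : M * (c : Matrix (Fin n) (Fin n) F) = (c : Matrix (Fin n) (Fin n) F) * M := by
      apply hM2
      intro s hs
      obtain ⟨y, hy, rfl⟩ := mem_matrixSet_iff.1 hs
      rw [← Units.val_mul, ← Units.val_mul, hcy y hy]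
    rw [Units.val_mul, ← mul_assoc, h1, mul_assoc, h2, mul_assoc]
  obtain ⟨d, e, eqv, P₀, ρ, hd, he, hrel, hirr, hdvd⟩ := homog_data hn hN.1 hPnz hhom
  have habs := rho_absIrred_of_centreTrivial he eqv P₀ ρ hrel hirr hct
  have hcard : n = e * d := by
    have := Fintype.card_congr eqv
    simpa using this
  -- the conjugates `h y h⁻¹` are of the form `B ⊗ 1` in the adapted basis
  have hB : ∀ y ∈ P, ∃ B : Matrix (Fin e) (Fin e) F,
      ((h * y * h⁻¹ : GL (Fin n) F) : Matrix (Fin n) (Fin n) F) * (P₀ : Matrix (Fin n) (Fin n) F) =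
        (P₀ : Matrix (Fin n) (Fin n) F) * (B ⊗ₖ (1 : Matrix (Fin d) (Fin d) F)).submatrix eqv eqv := by
    intro y hy
    obtain ⟨B, hB⟩ := kron_one_of_commute _ habs
      (adapt eqv P₀ ((h * y * h⁻¹ : GL (Fin n) F) : Matrix (Fin n) (Fin n) F)) (by
        rintro _ ⟨x, rfl⟩
        rw [← adapt_of_rel eqv P₀ _ _ (hrel x), ← adapt_mul, ← adapt_mul, ← Units.val_mul, ← Units.val_mul,
          hcomm y hy x x.2])
    exact ⟨B, rel_of_adapt eqv P₀ _ _ hB⟩
  -- a `P`-invariant subspace of dimension `e`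
  let a₀ : Fin d := ⟨0, hd⟩
  let W' : Submodule F (Fin n → F) := (LinearMap.range (slice (F := F) eqv a₀)).map (L P₀)
  have hW' : ∀ y ∈ P, W'.map (L (h * y * h⁻¹)) ≤ W' := by
    intro y hy
    obtain ⟨B, hB⟩ := hB y hy
    rintro _ ⟨_, ⟨_, ⟨u, rfl⟩, rfl⟩, rfl⟩
    refine ⟨slice eqv a₀ (B *ᵥ u), ⟨_, rfl⟩, ?_⟩
    show Matrix.toLin' (P₀ : Matrix (Fin n) (Fin n) F) (slice eqv a₀ (B *ᵥ u)) =
      Matrix.toLin' ((h * y * h⁻¹ : GL (Fin n) F) : Matrix (Fin n) (Fin n) F)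
        (Matrix.toLin' (P₀ : Matrix (Fin n) (Fin n) F) (slice eqv a₀ u))
    rw [Matrix.toLin'_apply, Matrix.toLin'_apply, Matrix.toLin'_apply, Matrix.mulVec_mulVec, hB,
      ← Matrix.mulVec_mulVec, kron_one_mulVec_slice]
  let X : Submodule F (Fin n → F) := W'.map (L h⁻¹)
  have hX : Inv P X := by
    intro y hy
    rintro _ ⟨_, ⟨w, hw, rfl⟩, rfl⟩
    refine ⟨L (h * y * h⁻¹) w, hW' y hy (Submodule.mem_map_of_mem hw), ?_⟩
    rw [← L_mul_apply, ← L_mul_apply]
    congr 2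
    group
  have hXdim : Module.finrank F X = e := by
    show Module.finrank F (W'.map (L h⁻¹)) = e
    rw [finrank_map_L]
    show Module.finrank F ((LinearMap.range (slice (F := F) eqv a₀)).map (L P₀)) = e
    rw [finrank_map_L, LinearMap.finrank_range_of_inj (slice_injective eqv a₀), Module.finrank_fin_fun]
  have hde : d ∣ e := by
    have := hdvd X hX
    rwa [hXdim] at this
  have hd1 : d = 1 := by
    apply hsq
    obtain ⟨k, hk⟩ := hde
    exact ⟨k, by rw [hcard, hk]; ring⟩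
  subst hd1
  exact hPns (le_scalars_of_dim_one eqv P₀ ρ hrel)


/-- **K2a** (helper4's `perfect_case_comp_of` with K2b plugged in): the perfect case when no square `d² > 1`
divides `n`. -/
theorem perfect_case_comp [Fintype F] (hn : 2 ≤ n) (hsq : ∀ d : ℕ, d * d ∣ n → d = 1)
    {H N : Subgroup (GL (Fin n) F)}
    (hNH : N ≤ H) (hnz : Nzes H N) (hns : ¬ N ≤ scalars (Fin n) F)
    (hall : ∀ M : Subgroup (GL (Fin n) F), M ≤ H → Nzes H M →
      M ≤ scalars (Fin n) F ∨ ActsAbsolutelyIrreducibly (matrixSet M))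
    (hmin : ∀ M : Subgroup (GL (Fin n) F), M ≤ N → Nzes H M → ¬ M ≤ scalars (Fin n) F → M = N)
    (hperf : ⁅N, N⁆ = N) :
    IsSimpleGroup (N ⧸ (scalars (Fin n) F).subgroupOf N) ∧
    ¬ IsMulCommutative (N ⧸ (scalars (Fin n) F).subgroupOf N) ∧
    (∀ h ∈ H, (∀ x ∈ N, h * x * h⁻¹ * x⁻¹ ∈ scalars (Fin n) F) → h ∈ scalars (Fin n) F) :=
  Cfsg.Agent.Helper4.AschP.perfect_case_comp_of
    (fun hN hPN hPnz hPns hPperf hgen h hcomm =>
      no_commuting_conjugate hsq hN hPN hPnz hPns hPperf hgen h hcomm) hn hNH hnz hns hall hmin hperf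

end Cfsg.Agent.Helper6.AschComp
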