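import Cfsg.Agent.Helper6.AschCompMain

/-!
# ASCH-COMP: the statement S5862 (`SL_12`) from the generic theorem `asch_comp`, modulo the perfect case
-/

set_option autoImplicit false
set_option linter.unusedVariables false

namespace Cfsg.Agent.Helper6.AschComp

open Cfsg Cfsg.Geo Cfsg.Agent.Lead.Asch
open scoped MatrixGroups Matrix Kronecker

theorem final12 {F : Type*} [Field F] [Fintype F] (hperfect : Cfsg.Agent.Lead.Asch.PerfectCase 12 F) (H : Subgroup (Matrix.GeneralLinearGroup (Fin 12) F)) (hH : Cfsg.Geo.IsMaximalIn (Cfsg.Geo.specialLinear (Fin 12) F) H) :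
    (∃ W : Submodule F (Fin 12 → F), W ≠ ⊥ ∧ W ≠ ⊤ ∧ H = Cfsg.Geo.subspaceStabilizer W ⊓ Cfsg.Geo.specialLinear (Fin 12) F) ∨
    (5 ≤ Fintype.card F ∧ ∃ D : Fin 12 → Submodule F (Fin 12 → F), Cfsg.Geo.IsMDecomposition 1 D ∧ H = Cfsg.Geo.decompositionStabilizer D ⊓ Cfsg.Geo.specialLinear (Fin 12) F) ∨
    (3 ≤ Fintype.card F ∧ ∃ D : Fin 6 → Submodule F (Fin 12 → F), Cfsg.Geo.IsMDecomposition 2 D ∧ H = Cfsg.Geo.decompositionStabilizer D ⊓ Cfsg.Geo.specialLinear (Fin 12) F) ∨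
    (∃ D : Fin 4 → Submodule F (Fin 12 → F), Cfsg.Geo.IsMDecomposition 3 D ∧ H = Cfsg.Geo.decompositionStabilizer D ⊓ Cfsg.Geo.specialLinear (Fin 12) F) ∨
    (∃ D : Fin 3 → Submodule F (Fin 12 → F), Cfsg.Geo.IsMDecomposition 4 D ∧ H = Cfsg.Geo.decompositionStabilizer D ⊓ Cfsg.Geo.specialLinear (Fin 12) F) ∨
    (∃ D : Fin 2 → Submodule F (Fin 12 → F), Cfsg.Geo.IsMDecomposition 6 D ∧ H = Cfsg.Geo.decompositionStabilizer D ⊓ Cfsg.Geo.specialLinear (Fin 12) F) ∨
    (∃ K : Subalgebra F (Matrix (Fin 12) (Fin 12) F), Cfsg.Geo.IsFieldSubalgebra 2 K ∧ H = Cfsg.Geo.subalgebraNormalizer K ⊓ Cfsg.Geo.specialLinear (Fin 12) F) ∨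
    (∃ K : Subalgebra F (Matrix (Fin 12) (Fin 12) F), Cfsg.Geo.IsFieldSubalgebra 3 K ∧ H = Cfsg.Geo.subalgebraNormalizer K ⊓ Cfsg.Geo.specialLinear (Fin 12) F) ∨
    (3 ≤ Fintype.card F ∧ ∃ (e : Fin 12 ≃ Fin 2 × Fin 6) (P : Matrix.GeneralLinearGroup (Fin 12) F), H = Cfsg.Geo.tensorProductSubgroup 2 6 e P ⊓ Cfsg.Geo.specialLinear (Fin 12) F) ∨
    (∃ (e : Fin 12 ≃ Fin 3 × Fin 4) (P : Matrix.GeneralLinearGroup (Fin 12) F), H = Cfsg.Geo.tensorProductSubgroup 3 4 e P ⊓ Cfsg.Geo.specialLinear (Fin 12) F) ∨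
    (∃ (F₀ : Subfield F) (r : ℕ) (P : Matrix.GeneralLinearGroup (Fin 12) F), r.Prime ∧ Fintype.card F = Nat.card F₀ ^ r ∧ H = Cfsg.Geo.subfieldSubgroup F₀ P ⊓ Cfsg.Geo.specialLinear (Fin 12) F) ∨
    (Odd (Fintype.card F) ∧ ∃ Q : (Fin 12 → F) → F, Cfsg.Geo.IsNondegenerateQuadraticForm Q ∧ H = Cfsg.Geo.quadSimilarityGroup Q ⊓ Cfsg.Geo.specialLinear (Fin 12) F) ∨
    (∃ f : (Fin 12 → F) → (Fin 12 → F) → F, Cfsg.Geo.IsSymplecticForm f ∧ H = Cfsg.Geo.similarityGroup f ⊓ Cfsg.Geo.specialLinear (Fin 12) F) ∨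
    (∃ (σ : F ≃+* F) (f : (Fin 12 → F) → (Fin 12 → F) → F), Cfsg.Geo.IsUnitaryForm σ f ∧ H = Cfsg.Geo.similarityGroup f ⊓ Cfsg.Geo.specialLinear (Fin 12) F) ∨
    Cfsg.Geo.InLinearResidualClass H := by
  have hq2 : 2 ≤ Fintype.card F := Fintype.one_lt_card
  have hnpp : ¬ ∃ r k : ℕ, r.Prime ∧ 12 = r ^ k := by
    rintro ⟨r, k, hr, h6⟩
    have hr6 : r ∣ 12 := by
      rcases k with _ | k
      · simp at h6
      · rw [h6, pow_succ]; exact dvd_mul_left _ _
    have hr6' : r ≤ 12 := Nat.le_of_dvd (by norm_num) hr6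
    have hr2 := hr.two_le
    have h23 : r = 2 ∨ r = 3 := by
      interval_cases r
      · exact Or.inl rfl
      · exact Or.inr rfl
      · exact absurd hr (by norm_num)
      · exact absurd hr6 (by norm_num)
      · exact absurd hr (by norm_num)
      · exact absurd hr6 (by norm_num)
      · exact absurd hr (by norm_num)
      · exact absurd hr (by norm_num)
      · exact absurd hr (by norm_num)
      · exact absurd hr6 (by norm_num)
      · exact absurd hr (by norm_num)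
    rcases h23 with rfl | rfl
    · have : (3 : ℕ) ∣ 2 ^ k := by rw [← h6]; norm_num
      have := (Nat.Prime.dvd_of_dvd_pow Nat.prime_three this)
      omega
    · have : (2 : ℕ) ∣ 3 ^ k := by rw [← h6]; norm_num
      have := (Nat.Prime.dvd_of_dvd_pow Nat.prime_two this)
      omega
  rcases asch_comp hperfect (by norm_num) hnpp H hH with h | h | h | h | h | h | h | h | h
  · exact Or.inl h
  · obtain ⟨t, m, D, hD, htm, h1, h2, hHD⟩ := h
    have ht2 := hD.two_le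
    have hm := hD.pos
    have ht6 : t ≤ 12 := by nlinarith
    interval_cases t
    · have hm3 : m = 6 := by omega
      subst hm3
      exact Or.inr (Or.inr (Or.inr (Or.inr (Or.inr (Or.inl ⟨D, hD, hHD⟩)))))
    · have hm3 : m = 4 := by omega
      subst hm3
      exact Or.inr (Or.inr (Or.inr (Or.inr (Or.inl ⟨D, hD, hHD⟩))))
    · have hm3 : m = 3 := by omega
      subst hm3
      exact Or.inr (Or.inr (Or.inr (Or.inl ⟨D, hD, hHD⟩)))
    · exfalso; omega
    · have hm2 : m = 2 := by omega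
      subst hm2
      refine Or.inr (Or.inr (Or.inl ⟨?_, D, hD, hHD⟩))
      by_contra hlt
      exact h2 ⟨rfl, by omega⟩
    · exfalso; omega
    · exfalso; omega
    · exfalso; omega
    · exfalso; omega
    · exfalso; omega
    · have hm1 : m = 1 := by omega
      subst hm1
      refine Or.inr (Or.inl ⟨?_, D, hD, hHD⟩)
      by_contra hlt
      exact h1 ⟨rfl, by omega⟩
  · obtain ⟨r, K, hr, hrn, hK, hHK⟩ := h
    have hr6 : r ≤ 12 := Nat.le_of_dvd (by norm_num) hrn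
    have hr2 := hr.two_le
    interval_cases r
    · exact Or.inr (Or.inr (Or.inr (Or.inr (Or.inr (Or.inr (Or.inl ⟨K, hK, hHK⟩))))))
    · exact Or.inr (Or.inr (Or.inr (Or.inr (Or.inr (Or.inr (Or.inr (Or.inl ⟨K, hK, hHK⟩)))))))
    · exact absurd hr (by norm_num)
    · exact absurd hrn (by norm_num)
    · exact absurd hr (by norm_num)
    · exact absurd hrn (by norm_num)
    · exact absurd hr (by norm_num)
    · exact absurd hr (by norm_num)
    · exact absurd hr (by norm_num)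
    · exact absurd hrn (by norm_num)
    · exact absurd hr (by norm_num)
  · obtain ⟨n₁, n₂, e, P, h1, h2, hq, hHT⟩ := h
    have hcard : 12 = n₁ * n₂ := by
      have := Fintype.card_congr e
      simpa using this
    have hn1 : n₁ ≤ 6 := by nlinarith
    interval_cases n₁
    · have : n₂ = 6 := by omega
      subst this
      refine Or.inr (Or.inr (Or.inr (Or.inr (Or.inr (Or.inr (Or.inr (Or.inr (Or.inl ⟨?_, e, P, hHT⟩))))))))
      by_contra hlt
      exact hq ⟨Or.inl rfl, by omega⟩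
    · have : n₂ = 4 := by omega
      subst this
      exact Or.inr (Or.inr (Or.inr (Or.inr (Or.inr (Or.inr (Or.inr (Or.inr (Or.inr (Or.inl ⟨e, P, hHT⟩)))))))))
    · have : n₂ = 3 := by omega
      subst this
      rw [Cfsg.Agent.Helper9.AschCompK.tensorProductSubgroup_swap] at hHT
      exact Or.inr (Or.inr (Or.inr (Or.inr (Or.inr (Or.inr (Or.inr (Or.inr (Or.inr (Or.inl ⟨_, P, hHT⟩)))))))))
    · exfalso; omega
    · have : n₂ = 2 := by omega
      subst this
      rw [Cfsg.Agent.Helper9.AschCompK.tensorProductSubgroup_swap] at hHT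
      refine Or.inr (Or.inr (Or.inr (Or.inr (Or.inr (Or.inr (Or.inr (Or.inr (Or.inl ⟨?_, _, P, hHT⟩))))))))
      by_contra hlt
      exact hq ⟨Or.inr rfl, by omega⟩
  · exact Or.inr (Or.inr (Or.inr (Or.inr (Or.inr (Or.inr (Or.inr (Or.inr (Or.inr (Or.inr (Or.inl h))))))))))
  · exact Or.inr (Or.inr (Or.inr (Or.inr (Or.inr (Or.inr (Or.inr (Or.inr (Or.inr (Or.inr (Or.inr (Or.inl h)))))))))))
  · exact Or.inr (Or.inr (Or.inr (Or.inr (Or.inr (Or.inr (Or.inr (Or.inr (Or.inr (Or.inr (Or.inr (Or.inr (Or.inl h))))))))))))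
  · exact Or.inr (Or.inr (Or.inr (Or.inr (Or.inr (Or.inr (Or.inr (Or.inr (Or.inr (Or.inr (Or.inr (Or.inr (Or.inr (Or.inl h)))))))))))))
  · exact Or.inr (Or.inr (Or.inr (Or.inr (Or.inr (Or.inr (Or.inr (Or.inr (Or.inr (Or.inr (Or.inr (Or.inr (Or.inr (Or.inr (h))))))))))))))

end Cfsg.Agent.Helper6.AschComp
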