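import Mathlib
import Cfsg.Prelude.Def_GeometricClasses
import Cfsg.Agent.Lead.AschBase
import Cfsg.Agent.Lead.AschOBase

/-!
# ASCH-GEN-O (helper6 leads): the general subgroup structure theorem for `Ω_{2m+1}(q)`, `q` odd (target S5673)

Shared definitions: the conclusion `GOConcl Q H` (the alternatives of `InOrthogonalOddClass`, with `H ≤ X` instead of
`M = X ⊓ I`, for an abstract quadratic form `Q` on `ι → F`), and the two slots `TensorEqualPower`, `NoPerfectO33`.
-/

set_option autoImplicit false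

namespace Cfsg.Agent.Helper6.AschGO

open Cfsg Cfsg.Geo Cfsg.Agent.Lead.Asch
open scoped MatrixGroups Matrix Kronecker

/-- The conclusion of the general subgroup structure theorem for a subgroup `H` of the isometry group of the quadratic
form `Q` in odd dimension (with `≤` instead of `= · ⊓ I`). -/
def GOConcl {ι : Type} [Fintype ι] [DecidableEq ι] {F : Type*} [Field F] [Fintype F]
    (Q : (ι → F) → F) (H : Subgroup (GL ι F)) : Prop :=
  (∃ W : Submodule F (ι → F), W ≠ ⊥ ∧ IsTotallySingularQuad Q W ∧ H ≤ subspaceStabilizer W) ∨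
  (∃ W : Submodule F (ι → F), W ≠ ⊥ ∧ W ≠ ⊤ ∧ IsNondegenerateOn (QuadraticMap.polar Q) W ∧
      H ≤ subspaceStabilizer W) ∨
  (∃ (t k : ℕ) (D : Fin t → Submodule F (ι → F)), 1 < k ∧ IsOrthogonalMDecomposition Q k D ∧
      H ≤ decompositionStabilizer D) ∨
  (∃ (t : ℕ) (D : Fin t → Submodule F (ι → F)), (Fintype.card F).Prime ∧ IsOrthogonalMDecomposition Q 1 D ∧
      H ≤ decompositionStabilizer D) ∨
  (∃ (r : ℕ) (K : Subalgebra F (Matrix ι ι F)), r.Prime ∧ Fintype.card ι ≠ r ∧ IsFieldSubalgebra r K ∧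
      IsSelfAdjointFor (QuadraticMap.polar Q) K ∧ H ≤ subalgebraNormalizer K) ∨
  (∃ (n₁ n₂ : ℕ) (e : ι ≃ Fin n₁ × Fin n₂) (P : GL ι F)
      (f₁ : (Fin n₁ → F) → (Fin n₁ → F) → F) (f₂ : (Fin n₂ → F) → (Fin n₂ → F) → F),
      3 ≤ n₁ ∧ n₁ < n₂ ∧ IsSymmetricForm f₁ ∧ IsSymmetricForm f₂ ∧
      IsTensorFormStructure id (QuadraticMap.polar Q) f₁ f₂ e P ∧ H ≤ tensorProductSubgroup n₁ n₂ e P) ∨
  (∃ (F₀ : Subfield F) (r : ℕ) (P : GL ι F), r.Prime ∧ Fintype.card F = Nat.card F₀ ^ r ∧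
      IsQuadFormRationalStructure Q F₀ P ∧ H ≤ subfieldSubgroup F₀ P) ∨
  (∃ (k t : ℕ) (e : ι ≃ (Fin t → Fin k)) (P : GL ι F) (f₁ : (Fin k → F) → (Fin k → F) → F),
      3 ≤ k ∧ 2 ≤ t ∧ ¬ (Fintype.card F = 3 ∧ k = 3) ∧ IsSymmetricForm f₁ ∧
      IsTensorPowerFormStructure id (QuadraticMap.polar Q) f₁ e P ∧ H ≤ tensorWreathSubgroup k t e P) ∨
  InOrthogonalResidualClass H

/-- slot (i): a tensor decomposition of a bilinear form into two symmetric forms of the same odd dimension `k` is a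
tensor square (two non-degenerate symmetric forms of the same odd dimension over a finite field of odd order are
similar). -/
def TensorEqualPower (n : ℕ) (F : Type*) [Field F] [Fintype F] : Prop :=
  ∀ (f : (Fin n → F) → (Fin n → F) → F) (k : ℕ) (e : Fin n ≃ Fin k × Fin k) (P : GL (Fin n) F)
    (f₁ f₂ : (Fin k → F) → (Fin k → F) → F), Odd k → IsSymmetricForm f₁ → IsSymmetricForm f₂ →
    IsTensorFormStructure id f f₁ f₂ e P →
    ∃ (e' : Fin n ≃ (Fin 2 → Fin k)) (P' : GL (Fin n) F), IsTensorPowerFormStructure id f f₁ e' P' ∧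
      tensorProductSubgroup k k e P ≤ tensorWreathSubgroup k 2 e' P'

/-- slot (ii): over the field with three elements no perfect absolutely irreducible group fixes a non-degenerate
symmetric bilinear form in dimension three (`O_3(3)` is monomial, hence soluble). -/
def NoPerfectO33 (F : Type*) [Field F] [Fintype F] : Prop :=
  Fintype.card F = 3 → ∀ (f₁ : (Fin 3 → F) → (Fin 3 → F) → F) (P₁ : Subgroup (GL (Fin 3) F)),
    IsSymmetricForm f₁ → ⁅P₁, P₁⁆ = P₁ → ActsAbsolutelyIrreducibly (matrixSet P₁) →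
    FixesForm (matrixSet P₁) f₁ → False

end Cfsg.Agent.Helper6.AschGO
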