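import Mathlib
import Cfsg.Prelude.Def_GeometricClasses
import Cfsg.Agent.Lead.AschBase
import Cfsg.Agent.Lead.AschOBase
import Cfsg.Agent.Lead.AschOC2
import Cfsg.Agent.Lead.AschOFull
import Cfsg.Agent.Helper2.AschOmM1
import Cfsg.Agent.Helper3.AschForms
import Cfsg.Agent.Helper4.AschFC7I
import Cfsg.Agent.Helper5.AschForm5
import Cfsg.Agent.Helper5.AschForm7
import Cfsg.Agent.Helper5.AschHom4
import Cfsg.Agent.Helper5.AschOmM3a
import Cfsg.Agent.Helper5.AschOmM3e
import Cfsg.Agent.Helper6.AschCompCliff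
import Cfsg.Agent.Helper9.AschCompK
import Cfsg.Agent.Helper9.AschCompTensor
import Cfsg.Agent.Helper9.AschCompHom
import Cfsg.Agent.Helper6.AschGOBase
import Cfsg.Agent.Helper6.AschGOAdj

/-!
# ASCH-GEN-O: the assembly (helper6)

`asch_go`: the general subgroup structure theorem on `Fin n`, `n` odd, `q` odd, for an abstract quadratic form and any
group `H` of isometries.
-/

set_option autoImplicit false
set_option linter.unusedVariables false

namespace Cfsg.Agent.Helper6.AschGO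

open Cfsg Cfsg.Geo Cfsg.Agent.Lead.Asch Cfsg.Agent.Lead.AschO
open scoped MatrixGroups Matrix Kronecker commutatorElement

variable {n : ℕ} {F : Type*} [Field F]

theorem isSymmetricForm_polar {ι : Type} [Fintype ι] [DecidableEq ι] {Q : (ι → F) → F}
    (hQ : IsNondegenerateQuadraticForm Q) : IsSymmetricForm (QuadraticMap.polar Q) :=
  ⟨hQ.polar_bilinear, fun u v => QuadraticMap.polar_comm Q u v, hQ.nondegenerate⟩

/-- Clifford theory inside the isometry group of a quadratic form in odd dimension, `q` odd. -/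
theorem clifford_go [Fintype F] (hn : 0 < n) (hnodd : Odd n) (hodd : Odd (Fintype.card F))
    (Q : (Fin n → F) → F) (hQ : IsNondegenerateQuadraticForm Q)
    {H N : Subgroup (GL (Fin n) F)} (hHI : H ≤ isometryGroup F Q)
    (hH : ActsIrreducibly (matrixSet H)) (hNH : N ≤ H) (hnz : Nzes H N) :
    (∃ (t m : ℕ) (D : Fin t → Submodule F (Fin n → F)), IsOrthogonalMDecomposition Q m D ∧ t * m = n ∧
      H ≤ decompositionStabilizer D) ∨
    (∃ (r : ℕ) (K : Subalgebra F (Matrix (Fin n) (Fin n) F)), r.Prime ∧ r ∣ n ∧ IsFieldSubalgebra r K ∧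
      IsSelfAdjointFor (QuadraticMap.polar Q) K ∧ H ≤ subalgebraNormalizer K) ∨
    (∃ (n₁ n₂ : ℕ) (e : Fin n ≃ Fin n₁ × Fin n₂) (P : GL (Fin n) F)
      (f₁ : (Fin n₁ → F) → (Fin n₁ → F) → F) (f₂ : (Fin n₂ → F) → (Fin n₂ → F) → F), 2 ≤ n₁ ∧ 2 ≤ n₂ ∧
      IsSymmetricForm f₁ ∧ IsSymmetricForm f₂ ∧
      IsTensorFormStructure id (QuadraticMap.polar Q) f₁ f₂ e P ∧
      H ≤ tensorProductSubgroup n₁ n₂ e P) ∨
    N ≤ scalars (Fin n) F ∨ ActsAbsolutelyIrreducibly (matrixSet N) := by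
  rcases Cfsg.Agent.Helper5.AschF.clifford_orthogonal hn hQ hHI hH hNH hnz with
    ⟨t, m, D, hD, hle, -, -⟩ | ⟨m, D, hD, hts, hle, -, -⟩ | hhom
  · exact Or.inl ⟨t, m, D, hD,
      Cfsg.Agent.Helper6.AschComp.card_mul_of_isMDecomposition D hD.decomp.decomp, hle⟩
  · exfalso
    have h2m := Cfsg.Agent.Helper6.AschComp.card_mul_of_isMDecomposition D hD
    obtain ⟨c, hc⟩ := hnodd
    omega
  rcases Cfsg.Agent.Helper5.AschF.field_of_fullyInv_form hn (Cfsg.Agent.Helper5.AschF.RForm.of_quadratic hQ) hnz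
    (Cfsg.Agent.Helper5.AschF.isom_of_le_isometryGroup (hNH.trans hHI)) hhom with
    ⟨r, K, hr, hrn, hK, hadj, hle⟩ | hct
  · have hro : Odd r := by
      rcases hr.eq_two_or_odd' with rfl | h
      · exfalso
        obtain ⟨c, hc⟩ := hnodd
        obtain ⟨d, hd⟩ := hrn
        omega
      · exact h
    exact Or.inr (Or.inl ⟨r, K, hr, hrn, hK, adjOdd_sym (isSymmetricForm_polar hQ) r K hro hK hadj, hle⟩)
  obtain ⟨d, e, eqv, P, ρ, hd, he, hrel, hirr, hdvd⟩ := Cfsg.Agent.Helper5.Asch.homog_data hn hH hnz hhom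
  have habs := Cfsg.Agent.Helper9.AschComp.rho_absIrred_of_centreTrivial he eqv P ρ hrel hirr hct
  have hcard : n = e * d := by
    have := Fintype.card_congr eqv
    simpa using this
  by_cases hd1 : d = 1
  · subst hd1
    exact Or.inr (Or.inr (Or.inr (Or.inl
      (Cfsg.Agent.Helper9.AschComp.le_scalars_of_dim_one eqv P ρ hrel))))
  by_cases he1 : e = 1
  · subst he1
    have hdn : d = n := by omega
    refine Or.inr (Or.inr (Or.inr (Or.inr
      (Cfsg.Agent.Helper9.AschComp.absIrred_of_dvd hn (fun X hX => ?_) hct))))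
    have h1 := hdvd X hX
    rw [hdn] at h1
    exact h1
  · have hle : H ≤ tensorProductSubgroup e d eqv P := fun g hg =>
      Cfsg.Agent.Helper9.AschComp.tensor_exit hn eqv P
        (fun x => ((ρ x : GL (Fin d) F) : Matrix (Fin d) (Fin d) F)) hrel habs (fun x hx => hnz g hg x hx)
    obtain ⟨f₁, f₂, hty, hT⟩ := Cfsg.Agent.Helper5.AschOm.tensor_form_orth hn Q hQ hHI hH hNH
      (by omega) (by omega) eqv P ρ hrel habs hle
    rcases hty with ⟨h1, h2⟩ | ⟨-, h1, h2⟩
    · exfalso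
      have heo : Odd e := by
        rcases Nat.even_or_odd e with hev | ho
        · exfalso
          obtain ⟨c, hc⟩ := hev
          obtain ⟨c', hc'⟩ := hnodd
          rw [hc] at hcard
          have : n = 2 * (c * d) := by rw [hcard]; ring
          omega
        · exact ho
      exact Cfsg.Agent.Helper3.Asch.no_symplectic_of_odd heo f₁ h1
    · exact Or.inr (Or.inr (Or.inl ⟨e, d, eqv, P, f₁, f₂, by omega, by omega, h1, h2, hT, hle⟩))

/-- swapping the factors of a tensor form structure -/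
theorem tensorFormStructure_swap {ι : Type} [Fintype ι] [DecidableEq ι] {f : (ι → F) → (ι → F) → F} {n₁ n₂ : ℕ}
    {f₁ : (Fin n₁ → F) → (Fin n₁ → F) → F} {f₂ : (Fin n₂ → F) → (Fin n₂ → F) → F}
    {e : ι ≃ Fin n₁ × Fin n₂} {P : GL ι F} (hT : IsTensorFormStructure id f f₁ f₂ e P) :
    IsTensorFormStructure id f f₂ f₁ (e.trans (Equiv.prodComm (Fin n₁) (Fin n₂))) P := by
  obtain ⟨c, hc0, hc⟩ := hT
  refine ⟨c, hc0, fun x y => ?_⟩
  have hx : ∀ z : Fin n₂ × Fin n₁ → F,
      z ∘ (e.trans (Equiv.prodComm (Fin n₁) (Fin n₂))) = (z ∘ Prod.swap) ∘ e := by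
    intro z
    funext i
    rfl
  rw [hx, hx, hc]
  unfold formOfGram
  rw [← Equiv.sum_comp (Equiv.prodComm (Fin n₂) (Fin n₁))]
  apply congrArg
  apply Finset.sum_congr rfl
  intro a _
  rw [← Equiv.sum_comp (Equiv.prodComm (Fin n₂) (Fin n₁))]
  apply Finset.sum_congr rfl
  intro b _
  simp only [Equiv.prodComm_apply, Function.comp_apply, Prod.swap_swap, Matrix.kroneckerMap_apply,
    Prod.fst_swap, Prod.snd_swap, id]
  ring

/-- the prime-dimensional case: lead's `asch_prime_orth` in the shape `GOConcl`. -/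
theorem asch_go_prime [Fintype F] (hn : n.Prime) (hn5 : 5 ≤ n) (hodd : Odd (Fintype.card F))
    (Q : (Fin n → F) → F) (hQ : IsNondegenerateQuadraticForm Q) (hdisc : DiscInt Q)
    (H : Subgroup (GL (Fin n) F)) (hHI : H ≤ isometryGroup F Q) : GOConcl Q H := by
  have hnodd : Odd n := hn.odd_of_ne_two (by omega)
  rcases asch_prime_orth hn hn5 hodd Q hQ hdisc H hHI with h | ⟨W, h0, hev, hnd, -, hle⟩ | ⟨hq, D, hD, hle⟩ |
    h | h
  · exact Or.inl h
  · refine Or.inr (Or.inl ⟨W, h0, ?_, hnd, hle⟩)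
    rintro rfl
    rw [finrank_top, Module.finrank_fin_fun] at hev
    exact (Nat.not_even_iff_odd.2 hnodd) hev
  · exact Or.inr (Or.inr (Or.inr (Or.inl ⟨n, D, hq, hD, hle⟩)))
  · exact Or.inr (Or.inr (Or.inr (Or.inr (Or.inr (Or.inr (Or.inl h))))))
  · exact Or.inr (Or.inr (Or.inr (Or.inr (Or.inr (Or.inr (Or.inr (Or.inr h)))))))

/-- **The general subgroup structure theorem for groups of isometries of a quadratic form in odd dimension `n ≥ 5`,
`q` odd** (generic form, conclusions with `≤`). -/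
theorem asch_go [Fintype F] (hteq : TensorEqualPower n F) (hno33 : NoPerfectO33 F) (hnodd : Odd n) (hn5 : 5 ≤ n)
    (hodd : Odd (Fintype.card F)) (Q : (Fin n → F) → F) (hQ : IsNondegenerateQuadraticForm Q) (hdisc : DiscInt Q)
    (H : Subgroup (GL (Fin n) F)) (hHI : H ≤ isometryGroup F Q) : GOConcl Q H := by
  by_cases hnp : n.Prime
  · exact asch_go_prime hnp hn5 hodd Q hQ hdisc H hHI
  have hn0 : 0 < n := by omega
  have hq2 : 2 ≤ Fintype.card F := Fintype.one_lt_card
  -- Step 1: reducible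
  by_cases hirr : ActsIrreducibly (matrixSet H)
  swap
  · rcases Cfsg.Agent.Helper2.AschOm.orth_reducible_gen Q hQ hHI hirr with h | ⟨hq, -⟩ |
      ⟨W, W', h0, h1, hnd, -, -, -, -, -, hle, -⟩
    · exact Or.inl h
    · exact absurd hodd hq
    · exact Or.inr (Or.inl ⟨W, h0, h1, hnd, hle⟩)
  -- the exits
  have exitD : ∀ (t m : ℕ) (D : Fin t → Submodule F (Fin n → F)), IsOrthogonalMDecomposition Q m D → t * m = n →
      H ≤ decompositionStabilizer D → GOConcl Q H := by
    intro t m D hD htm hle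
    have hm0 : 0 < m := hD.decomp.decomp.pos
    by_cases hm1 : 1 < m
    · exact Or.inr (Or.inr (Or.inl ⟨t, m, D, hm1, hD, hle⟩))
    · have hm : m = 1 := by omega
      subst hm
      obtain rfl : t = n := by omega
      by_cases hq : (Fintype.card F).Prime
      · exact Or.inr (Or.inr (Or.inr (Or.inl ⟨t, D, hq, hD, hle⟩)))
      · obtain ⟨F₀, r, P, hr, hc, hrat, hsub⟩ := c2_orth_nonprime hnodd hodd Q hQ hdisc D hD hq
        exact Or.inr (Or.inr (Or.inr (Or.inr (Or.inr (Or.inr (Or.inl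
          ⟨F₀, r, P, hr, hc, hrat, (le_inf hle hHI).trans hsub⟩))))))
  have exitK : ∀ (r : ℕ) (K : Subalgebra F (Matrix (Fin n) (Fin n) F)), r.Prime → r ∣ n →
      IsFieldSubalgebra r K → IsSelfAdjointFor (QuadraticMap.polar Q) K → H ≤ subalgebraNormalizer K →
      GOConcl Q H := by
    intro r K hr hrn hK hsa hle
    refine Or.inr (Or.inr (Or.inr (Or.inr (Or.inl ⟨r, K, hr, ?_, hK, hsa, hle⟩))))
    rw [Fintype.card_fin]
    rintro rfl
    exact hnp hr
  have exitT : ∀ (n₁ n₂ : ℕ) (e : Fin n ≃ Fin n₁ × Fin n₂) (P : GL (Fin n) F)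
      (f₁ : (Fin n₁ → F) → (Fin n₁ → F) → F) (f₂ : (Fin n₂ → F) → (Fin n₂ → F) → F), 2 ≤ n₁ → 2 ≤ n₂ →
      IsSymmetricForm f₁ → IsSymmetricForm f₂ → IsTensorFormStructure id (QuadraticMap.polar Q) f₁ f₂ e P →
      H ≤ tensorProductSubgroup n₁ n₂ e P → GOConcl Q H := by
    intro n₁ n₂ e P f₁ f₂ h1 h2 hs₁ hs₂ hT hle
    have hcard : n = n₁ * n₂ := by
      have := Fintype.card_congr e
      simpa using this
    have hodd12 : Odd n₁ ∧ Odd n₂ := by
      rw [hcard] at hnodd
      exact Nat.odd_mul.1 hnodd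
    have h31 : 3 ≤ n₁ := by
      obtain ⟨c, hc⟩ := hodd12.1
      omega
    have h32 : 3 ≤ n₂ := by
      obtain ⟨c, hc⟩ := hodd12.2
      omega
    rcases Nat.lt_trichotomy n₁ n₂ with hlt | heq | hgt
    · exact Or.inr (Or.inr (Or.inr (Or.inr (Or.inr (Or.inl
        ⟨n₁, n₂, e, P, f₁, f₂, h31, hlt, hs₁, hs₂, hT, hle⟩)))))
    · subst heq
      by_cases h33 : Fintype.card F = 3 ∧ n₁ = 3
      · obtain ⟨hq3, rfl⟩ := h33
        obtain ⟨D, hD, hDle⟩ := Cfsg.Agent.Helper5.AschOm.tensor_sym_three_small hq3 Q hQ hHI (by norm_num)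
          e P f₁ f₂ hs₁ hs₂ hT hle
        exact Or.inr (Or.inr (Or.inl ⟨3, 3, D, by norm_num, hD, hDle⟩))
      · obtain ⟨e', P', hT', hle'⟩ := hteq (QuadraticMap.polar Q) n₁ e P f₁ f₂ hodd12.1 hs₁ hs₂ hT
        exact Or.inr (Or.inr (Or.inr (Or.inr (Or.inr (Or.inr (Or.inr (Or.inl
          ⟨n₁, 2, e', P', f₁, h31, le_refl 2, h33, hs₁, hT', hle.trans hle'⟩)))))))
    · rw [Cfsg.Agent.Helper9.AschCompK.tensorProductSubgroup_swap] at hle
      exact Or.inr (Or.inr (Or.inr (Or.inr (Or.inr (Or.inl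
        ⟨n₂, n₁, _, P, f₂, f₁, h32, hgt, hs₂, hs₁, tensorFormStructure_swap hT, hle⟩)))))
  -- Step 2: Clifford theory
  by_cases hall : ∀ M : Subgroup (GL (Fin n) F), M ≤ H → Nzes H M →
      M ≤ scalars (Fin n) F ∨ ActsAbsolutelyIrreducibly (matrixSet M)
  swap
  · push Not at hall
    obtain ⟨M, hMH, hMnz, hM1, hM2⟩ := hall
    rcases clifford_go hn0 hnodd hodd Q hQ hHI hirr hMH hMnz with
      ⟨t, m, D, hD, htm, hle⟩ | ⟨r, K, hr, hrn, hK, hsa, hle⟩ |
      ⟨n₁, n₂, e, P, f₁, f₂, h1, h2, hs₁, hs₂, hT, hle⟩ | h | h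
    · exact exitD t m D hD htm hle
    · exact exitK r K hr hrn hK hsa hle
    · exact exitT n₁ n₂ e P f₁ f₂ h1 h2 hs₁ hs₂ hT hle
    · exact absurd h hM1
    · exact absurd h hM2
  -- Step 3: all normal subgroups are scalar or absolutely irreducible
  have hHns : ¬ H ≤ scalars (Fin n) F := not_le_scalars_of_irred (by omega) hirr
  obtain ⟨N, hNH, hNnz, hNns, hmin⟩ := exists_minimal hHns
  have hNabs : ActsAbsolutelyIrreducibly (matrixSet N) := (hall N hNH hNnz).resolve_left hNns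
  have hNI : N ≤ isometryGroup F Q := hNH.trans hHI
  have hNfix : FixesQuadForm (matrixSet N) Q := by
    intro s hs v
    rw [mem_matrixSet_iff] at hs
    obtain ⟨g, hg, rfl⟩ := hs
    exact mem_isometryGroup_iff.1 (hNI hg) v
  by_cases hperf : ⁅N, N⁆ = N
  · -- perfect case
    rcases Cfsg.Agent.Helper4.AschTI.perfect_case_orth_odd (by omega) hodd hQ hNH hNnz hNns hall hmin hperf hNfix
      with ⟨d, k, e, Pm, f₁, P₁, hd, hk, hty, hT, hP₁perf, hP₁abs, hP₁fix, hle⟩ | ⟨hsimp, hnab, hcent⟩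
    · have hcard : n = d ^ k := by
        have := Fintype.card_congr e
        simpa using this
      have hdo : Odd d := by
        rw [hcard] at hnodd
        exact Nat.Odd.of_mul_right (by
          have : d ^ k = d ^ (k - 1) * d := by
            rw [← pow_succ]; congr 1; omega
          rwa [this] at hnodd)
      have hd3 : 3 ≤ d := by
        obtain ⟨c, hc⟩ := hdo
        omega
      have hs₁ : IsSymmetricForm f₁ := by
        rcases hty with h | ⟨h, -⟩
        · exact h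
        · exact absurd h (Cfsg.Agent.Helper3.Asch.no_symplectic_of_odd hdo f₁)
      have h33 : ¬ (Fintype.card F = 3 ∧ d = 3) := by
        rintro ⟨hq3, rfl⟩
        exact hno33 hq3 f₁ P₁ hs₁ hP₁perf hP₁abs hP₁fix
      exact Or.inr (Or.inr (Or.inr (Or.inr (Or.inr (Or.inr (Or.inr (Or.inl
        ⟨d, k, e, Pm, f₁, hd3, hk, h33, hs₁, hT, hle⟩)))))))
    by_cases hsub : ∃ F₀ : Subfield F, F₀ ≠ ⊤ ∧ RealisableOver F₀ (matrixSet N)
    · obtain ⟨F₀, h0, hr⟩ := hsub
      exact Or.inr (Or.inr (Or.inr (Or.inr (Or.inr (Or.inr (Or.inl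
        (subfieldOrth hnodd (by omega) hodd Q hQ hdisc hNI hNnz hNabs F₀ h0 hr)))))))
    · refine Or.inr (Or.inr (Or.inr (Or.inr (Or.inr (Or.inr (Or.inr (Or.inr ⟨N, ?_, ?_⟩)))))))
      · exact
          { le := hNH
            normal := hNnz
            perfect := hperf
            simple := hsimp
            nonabelian := hnab
            centralizer_scalar := hcent
            absIrred := hNabs
            no_subfield := fun F₀ h0 hr => hsub ⟨F₀, h0, hr⟩ }
      · rintro ⟨σ, f, hf, hfix⟩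
        apply hsub
        exact quadUnitary (by omega) hNabs σ f hf hfix Q hQ hNfix
  · -- symplectic-type case: impossible
    exfalso
    have hcomm : ⁅N, N⁆ ≤ scalars (Fin n) F := by
      by_contra hc
      exact hperf (hmin _ (Subgroup.commutator_le_self N) (nzes_commutator hNnz) hc)
    have hab := abelian_of_commutator_le_scalars hnodd Q hQ (by omega) hNI hcomm
    apply hNns
    intro x hx
    obtain ⟨c, hc⟩ := hNabs.2 (x : Matrix (Fin n) (Fin n) F) (by
      intro s hs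
      rw [mem_matrixSet_iff] at hs
      obtain ⟨g, hg, rfl⟩ := hs
      rw [← Units.val_mul, ← Units.val_mul, hab x hx g hg])
    rw [mem_scalars_iff]
    have hc0 : c ≠ 0 := by
      intro h0
      rw [h0, zero_smul] at hc
      have hdet : Matrix.det (x : Matrix (Fin n) (Fin n) F) = 0 := by
        rw [hc]
        have : Nonempty (Fin n) := ⟨⟨0, by omega⟩⟩
        exact Matrix.det_zero
      have hu : IsUnit (Matrix.det (x : Matrix (Fin n) (Fin n) F)) :=
        (Matrix.isUnit_iff_isUnit_det _).1 x.isUnit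
      rw [hdet] at hu
      exact not_isUnit_zero hu
    exact ⟨Units.mk0 c hc0, hc⟩

end Cfsg.Agent.Helper6.AschGO
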