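import Mathlib
import Cfsg.Agent.Helper8.QuadForm

/-!
# ASCH-GEN-O (helper6): two non-degenerate symmetric matrices of the same odd size over a finite field of odd
characteristic are similar

`exists_normal_form`: `Pᵀ G P = diag(d, 1, …, 1)` (from helper8's `exists_orthogonal_family`).
`exists_similarity_sym_odd`: `Aᵀ G₂ A = c • G₁` with `c = det G₂ / det G₁` (the determinants decide).
-/

set_option autoImplicit false
set_option linter.unusedVariables false

namespace Cfsg.Agent.Helper6.AschGO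

open scoped Matrix

variable {F : Type*} [Field F]

/-- the diagonal `(d, 1, …, 1)` -/
def dvec (n : ℕ) (d : F) : Fin (n + 1) → F := Function.update (fun _ => (1 : F)) 0 d

theorem prod_dvec (n : ℕ) (d : F) : ∏ i, dvec n d i = d := by
  unfold dvec
  rw [Finset.prod_update_of_mem (Finset.mem_univ _)]
  simp

theorem dvec_mul (n : ℕ) (s d : F) (i : Fin (n + 1)) : dvec n s i * dvec n d i * dvec n s i = dvec n (s * d * s) i := by
  unfold dvec
  by_cases h : i = 0
  · subst h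
    simp
  · simp [Function.update_of_ne h]

/-- normal form of a non-degenerate symmetric matrix over a finite field of odd characteristic -/
theorem exists_normal_form [Fintype F] (h2 : (2 : F) ≠ 0) {n : ℕ} (G : Matrix (Fin (n + 1)) (Fin (n + 1)) F)
    (hs : Gᵀ = G) (hd : G.det ≠ 0) :
    ∃ (P : Matrix (Fin (n + 1)) (Fin (n + 1)) F) (d : F), d ≠ 0 ∧ Pᵀ * G * P = Matrix.diagonal (dvec n d) := by
  classical
  obtain ⟨Q, hQ⟩ : ∃ Q : QuadraticForm F (Fin (n + 1) → F), Q = Matrix.toQuadraticForm' G := ⟨_, rfl⟩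
  have hQapp : ∀ v, Q v = v ⬝ᵥ (G *ᵥ v) := by
    intro v
    rw [hQ]
    unfold Matrix.toQuadraticForm'
    rw [LinearMap.BilinMap.toQuadraticMap_apply, Matrix.toLinearMap₂'_apply']
  have hsymm : ∀ v w : Fin (n + 1) → F, w ⬝ᵥ (G *ᵥ v) = v ⬝ᵥ (G *ᵥ w) := by
    intro v w
    rw [Matrix.dotProduct_mulVec, dotProduct_comm, ← Matrix.mulVec_transpose, hs]
  have hpolar : ∀ v w, QuadraticMap.polar Q v w = 2 * (v ⬝ᵥ (G *ᵥ w)) := by
    intro v w
    unfold QuadraticMap.polar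
    rw [hQapp, hQapp, hQapp, Matrix.mulVec_add, add_dotProduct, dotProduct_add, dotProduct_add, hsymm v w]
    ring
  have hnd : Cfsg.Agent.Helper8.QuadForm.Nondeg Q := by
    intro v hv
    have h1 : G *ᵥ v = 0 := by
      funext i
      have := hv (Pi.single i 1)
      rw [hpolar, ← hsymm, single_one_dotProduct] at this
      rcases mul_eq_zero.1 this with h | h
      · exact absurd h h2
      · exact h
    exact Matrix.eq_zero_of_mulVec_eq_zero hd h1
  have hfr : Module.finrank F (Fin (n + 1) → F) = n + 1 := Module.finrank_fin_fun F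
  obtain ⟨b, hb1, hb2, hb3⟩ := Cfsg.Agent.Helper8.QuadForm.exists_orthogonal_family h2 n Q hnd hfr
  refine ⟨Matrix.of (fun i j => b j i), Q (b 0), hb2, ?_⟩
  have hentry : ∀ i j, ((Matrix.of (fun i j => b j i))ᵀ * G * Matrix.of (fun i j => b j i)) i j =
      b i ⬝ᵥ (G *ᵥ b j) := by
    intro i j
    rw [Matrix.mul_assoc, Matrix.mul_apply, dotProduct]
    apply Finset.sum_congr rfl
    intro k _
    rw [Matrix.transpose_apply, Matrix.of_apply]
    congr 1
  ext i j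
  rw [hentry]
  by_cases hij : i = j
  · subst hij
    rw [Matrix.diagonal_apply_eq, ← hQapp]
    unfold dvec
    by_cases hi : i = 0
    · subst hi
      simp
    · rw [Function.update_of_ne hi, hb3 i hi]
  · rw [Matrix.diagonal_apply_ne _ hij]
    have := hb1 i j hij
    rw [hpolar] at this
    rcases mul_eq_zero.1 this with h | h
    · exact absurd h h2
    · exact h

/-- two non-degenerate symmetric matrices of the same odd size over a finite field of odd characteristic are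
similar -/
theorem exists_similarity_sym_odd [Fintype F] (h2 : (2 : F) ≠ 0) {n : ℕ} (hn : Even n)
    (G₁ G₂ : Matrix (Fin (n + 1)) (Fin (n + 1)) F) (hs₁ : G₁ᵀ = G₁) (hs₂ : G₂ᵀ = G₂) (hd₁ : G₁.det ≠ 0)
    (hd₂ : G₂.det ≠ 0) :
    ∃ (A : Matrix (Fin (n + 1)) (Fin (n + 1)) F) (c : F), c ≠ 0 ∧ A.det ≠ 0 ∧ Aᵀ * G₂ * A = c • G₁ := by
  classical
  obtain ⟨m, hm⟩ := hn
  obtain ⟨c, hc⟩ : ∃ c : F, c = G₂.det / G₁.det := ⟨_, rfl⟩
  have hc0 : c ≠ 0 := by rw [hc]; exact div_ne_zero hd₂ hd₁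
  have hdc : (c • G₁).det = c ^ (n + 1) * G₁.det := by
    rw [Matrix.det_smul, Fintype.card_fin]
  have hdc0 : (c • G₁).det ≠ 0 := by rw [hdc]; exact mul_ne_zero (pow_ne_zero _ hc0) hd₁
  have hsc : (c • G₁)ᵀ = c • G₁ := by rw [Matrix.transpose_smul, hs₁]
  obtain ⟨P₁, d₁, hd₁0, hP₁⟩ := exists_normal_form h2 (c • G₁) hsc hdc0
  obtain ⟨P₂, d₂, hd₂0, hP₂⟩ := exists_normal_form h2 G₂ hs₂ hd₂
  have hdet₁ : P₁.det * P₁.det * (c ^ (n + 1) * G₁.det) = d₁ := by
    have := congrArg Matrix.det hP₁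
    rw [Matrix.det_mul, Matrix.det_mul, Matrix.det_transpose, hdc, Matrix.det_diagonal, prod_dvec] at this
    rw [← this]; ring
  have hdet₂ : P₂.det * P₂.det * G₂.det = d₂ := by
    have := congrArg Matrix.det hP₂
    rw [Matrix.det_mul, Matrix.det_mul, Matrix.det_transpose, Matrix.det_diagonal, prod_dvec] at this
    rw [← this]; ring
  have hP₁0 : P₁.det ≠ 0 := by
    intro h
    rw [h] at hdet₁
    apply hd₁0
    rw [← hdet₁]; ring
  have hP₂0 : P₂.det ≠ 0 := by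
    intro h
    rw [h] at hdet₂
    apply hd₂0
    rw [← hdet₂]; ring
  obtain ⟨s, hs⟩ : ∃ s : F, s = P₁.det / P₂.det * c ^ m := ⟨_, rfl⟩
  have hs0 : s ≠ 0 := by
    rw [hs]; exact mul_ne_zero (div_ne_zero hP₁0 hP₂0) (pow_ne_zero _ hc0)
  have hsd : s * d₂ * s = d₁ := by
    have hpow : c ^ (n + 1) = c ^ m * c ^ m * c := by
      rw [hm]; ring
    rw [hs, ← hdet₁, ← hdet₂, hpow]
    have hG₂ : G₂.det = c * G₁.det := by
      rw [hc]; field_simp
    rw [hG₂]
    field_simp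
  have hu₁ : IsUnit P₁.det := isUnit_iff_ne_zero.mpr hP₁0
  have hinv₁ : P₁ * P₁⁻¹ = 1 := Matrix.mul_nonsing_inv P₁ hu₁
  have hinv₁' : P₁⁻¹ * P₁ = 1 := Matrix.nonsing_inv_mul P₁ hu₁
  obtain ⟨Y, hY⟩ : ∃ Y, Y = P₁⁻¹ := ⟨_, rfl⟩
  rw [← hY] at hinv₁ hinv₁'
  obtain ⟨S, hS⟩ : ∃ S : Matrix (Fin (n + 1)) (Fin (n + 1)) F, S = Matrix.diagonal (dvec n s) := ⟨_, rfl⟩
  have hSt : Sᵀ = S := by rw [hS, Matrix.diagonal_transpose]
  have hSDS : S * Matrix.diagonal (dvec n d₂) * S = Matrix.diagonal (dvec n d₁) := by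
    rw [hS, Matrix.diagonal_mul_diagonal, Matrix.diagonal_mul_diagonal]
    congr 1
    funext i
    rw [dvec_mul, hsd]
  refine ⟨P₂ * S * Y, c, hc0, ?_, ?_⟩
  · rw [Matrix.det_mul, Matrix.det_mul, hS, Matrix.det_diagonal, prod_dvec]
    refine mul_ne_zero (mul_ne_zero hP₂0 hs0) ?_
    intro h
    have := congrArg Matrix.det hinv₁
    rw [Matrix.det_mul, h, mul_zero, Matrix.det_one] at this
    exact zero_ne_one this
  · have hYt : Yᵀ * P₁ᵀ = 1 := by rw [← Matrix.transpose_mul, hinv₁, Matrix.transpose_one]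
    calc (P₂ * S * Y)ᵀ * G₂ * (P₂ * S * Y)
        = Yᵀ * (S * (P₂ᵀ * G₂ * P₂) * S) * Y := by
          rw [Matrix.transpose_mul, Matrix.transpose_mul, hSt]
          simp only [Matrix.mul_assoc]
      _ = Yᵀ * (P₁ᵀ * (c • G₁) * P₁) * Y := by rw [hP₂, hSDS, hP₁]
      _ = (Yᵀ * P₁ᵀ) * (c • G₁) * (P₁ * Y) := by simp only [Matrix.mul_assoc]
      _ = c • G₁ := by rw [hYt, hinv₁, Matrix.one_mul, Matrix.mul_one]

end Cfsg.Agent.Helper6.AschGO
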