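import Mathlib
import Cfsg.Prelude.Def_GeometricClasses
import Cfsg.Agent.Helper4.AschFC7H
import Cfsg.Agent.Helper7.AschO9P4
import Cfsg.Agent.Helper6.AschGOBase

/-!
# ASCH-GEN-O (helper6): slot (ii) `NoPerfectO33` filled

from helper7's `perfectThree_piece` (a perfect group of isometries of a ternary symmetric form over `F_3` is trivial)
and helper4's `not_absIrr_bot`.
-/

set_option autoImplicit false

namespace Cfsg.Agent.Helper6.AschGO

open Cfsg Cfsg.Geo

variable {F : Type*} [Field F]

theorem noPerfectO33 [Fintype F] : NoPerfectO33 F := by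
  intro hq f₁ P₁ h₁ hperf habs hfix
  have hbot := Cfsg.Agent.Helper7.AschO9.perfectThree_piece hq f₁ P₁ h₁ hperf hfix
  rw [hbot] at habs
  exact Cfsg.Agent.Helper4.AschTI.not_absIrr_bot (by norm_num) habs

end Cfsg.Agent.Helper6.AschGO
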