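import Mathlib
import Cfsg.Prelude.Def_GeometricClasses
import Cfsg.Agent.Lead.AschOC2
import Cfsg.Agent.Helper3.AschForms
import Cfsg.Agent.Helper5.AschGramForm
import Cfsg.Agent.Helper6.AschGenT3
import Cfsg.Agent.Helper6.AschGOBase
import Cfsg.Agent.Helper6.AschGOSim

/-!
# ASCH-GEN-O (helper6): slot (i) `TensorEqualPower` filled

A tensor decomposition `f ≃ f₁ ⊗ f₂` into two symmetric forms of the same odd dimension `k` (`q` odd) is a tensor
square decomposition `f ≃ f₁ ⊗ f₁` (helper5's U-T3 argument with the similarity of `AschGOSim`).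
-/

set_option autoImplicit false
set_option linter.style.haveILetI false
set_option linter.unusedSectionVars false
set_option linter.unusedVariables false

namespace Cfsg.Agent.Helper6.AschGO

open Cfsg Cfsg.Geo Cfsg.Agent.Helper5.GramForm Cfsg.Agent.Helper6.AschGen Cfsg.Agent.Helper9.AschComp
open scoped MatrixGroups Matrix Kronecker

variable {n : ℕ} {F : Type*} [Field F]

/-- the Kronecker product of two invertible matrices, as an invertible matrix (helper5's `kronGL`) -/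
def kronUnit {n₁ n₂ : ℕ} (a : GL (Fin n₁) F) (b : GL (Fin n₂) F) : GL (Fin n₁ × Fin n₂) F where
  val := (a : Matrix (Fin n₁) (Fin n₁) F) ⊗ₖ (b : Matrix (Fin n₂) (Fin n₂) F)
  inv := ((a⁻¹ : GL (Fin n₁) F) : Matrix (Fin n₁) (Fin n₁) F) ⊗ₖ ((b⁻¹ : GL (Fin n₂) F) : Matrix (Fin n₂) (Fin n₂) F)
  val_inv := by
    rw [← Matrix.mul_kronecker_mul, ← Units.val_mul, ← Units.val_mul, mul_inv_cancel, mul_inv_cancel,
      Units.val_one, Units.val_one, Matrix.one_kronecker_one]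
  inv_val := by
    rw [← Matrix.mul_kronecker_mul, ← Units.val_mul, ← Units.val_mul, inv_mul_cancel, inv_mul_cancel,
      Units.val_one, Units.val_one, Matrix.one_kronecker_one]

theorem kronUnit_val {n₁ n₂ : ℕ} (a : GL (Fin n₁) F) (b : GL (Fin n₂) F) :
    ((kronUnit a b : GL (Fin n₁ × Fin n₂) F) : Matrix (Fin n₁ × Fin n₂) (Fin n₁ × Fin n₂) F) =
      (a : Matrix (Fin n₁) (Fin n₁) F) ⊗ₖ (b : Matrix (Fin n₂) (Fin n₂) F) := rfl

theorem kronUnit_mem {n₁ n₂ : ℕ} (a : GL (Fin n₁) F) (b : GL (Fin n₂) F) :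
    kronUnit a b ∈ kroneckerSubgroup n₁ n₂ F := ⟨a, b, rfl⟩

/-- a reindexed matrix acts on reindexed vectors -/
theorem glReindex_symm_mulVec {ι κ : Type} [Fintype ι] [DecidableEq ι] [Fintype κ] [DecidableEq κ] (e : ι ≃ κ)
    (g : GL κ F) (z : κ → F) :
    ((glReindex e.symm g : GL ι F) : Matrix ι ι F) *ᵥ (z ∘ e) = ((g : Matrix κ κ F) *ᵥ z) ∘ e := by
  ext i
  simp only [Matrix.mulVec, dotProduct, Function.comp_apply]
  refine Eq.trans ?_ (Equiv.sum_comp e (fun k => (g : Matrix κ κ F) (e i) k * z k))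
  apply Finset.sum_congr rfl
  intro j _
  rw [glReindex_apply, Equiv.symm_symm]

/-- congruence of a Kronecker product by a Kronecker product -/
theorem kron_conj {I J : Type} [Fintype I] [Fintype J] [DecidableEq I] [DecidableEq J]
    (X₁ G₁ : Matrix I I F) (X₂ G₂ : Matrix J J F) :
    (X₁ ⊗ₖ X₂)ᵀ * (G₁ ⊗ₖ G₂) * (X₁ ⊗ₖ X₂) = (X₁ᵀ * G₁ * X₁) ⊗ₖ (X₂ᵀ * G₂ * X₂) := by
  rw [← Matrix.kroneckerMap_transpose, Matrix.mul_kronecker_mul, Matrix.mul_kronecker_mul]

theorem gramMatrix_transpose_of_symm {k : ℕ} {f : (Fin k → F) → (Fin k → F) → F} (h : IsSymmetricForm f) :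
    (gramMatrix f)ᵀ = gramMatrix f := by
  ext i j
  rw [Matrix.transpose_apply]
  unfold gramMatrix
  exact h.symm _ _

theorem gramMatrix_det_ne_zero_of_symm {k : ℕ} {f : (Fin k → F) → (Fin k → F) → F} (h : IsSymmetricForm f) :
    (gramMatrix f).det ≠ 0 := by
  have hs := Cfsg.Agent.Helper3.Asch.IsSesq.of_bilinear h.bilinear
  have hunit := hs.isUnit_det_gram (fun v hv => (h.nondegenerate v hv).1)
  rw [Cfsg.Agent.Lead.AschO.gram_eq_gramMatrix] at hunit
  exact isUnit_iff_ne_zero.1 hunit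

theorem formOfGram_kron_smul {I J : Type} [Fintype I] [Fintype J] (σ : F → F) (c : F) (G₁ : Matrix I I F)
    (G₂ : Matrix J J F) (x y : I × J → F) :
    formOfGram σ (G₁ ⊗ₖ (c • G₂)) x y = c * formOfGram σ (G₁ ⊗ₖ G₂) x y := by
  unfold formOfGram
  rw [Finset.mul_sum]
  apply Finset.sum_congr rfl
  intro a _
  rw [Finset.mul_sum]
  apply Finset.sum_congr rfl
  intro b _
  rw [Matrix.kroneckerMap_apply, Matrix.kroneckerMap_apply, Matrix.smul_apply, smul_eq_mul]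
  ring

/-- **slot (i)**: `TensorEqualPower n F` for `q` odd. -/
theorem tensorEqualPower [Fintype F] (hodd : Odd (Fintype.card F)) : TensorEqualPower n F := by
  classical
  intro f k e P f₁ f₂ hk h₁ h₂ hT
  have h2 : (2 : F) ≠ 0 := Cfsg.Agent.Lead.AschO.two_ne_zero_of_odd' hodd
  obtain ⟨m, rfl⟩ := hk
  obtain ⟨A, c', hc', hA, hAG⟩ := exists_similarity_sym_odd h2 ⟨m, by ring⟩ (gramMatrix f₁) (gramMatrix f₂)
    (gramMatrix_transpose_of_symm h₁) (gramMatrix_transpose_of_symm h₂) (gramMatrix_det_ne_zero_of_symm h₁)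
    (gramMatrix_det_ne_zero_of_symm h₂)
  obtain ⟨a, ha⟩ : ∃ a : GL (Fin (2 * m + 1)) F, (a : Matrix (Fin (2 * m + 1)) (Fin (2 * m + 1)) F) = A :=
    ⟨Matrix.GeneralLinearGroup.mkOfDetNeZero A hA, rfl⟩
  obtain ⟨c, hc, hform⟩ := hT
  obtain ⟨K₀, hK₀⟩ : ∃ K₀ : GL (Fin (2 * m + 1) × Fin (2 * m + 1)) F, K₀ = kronUnit 1 a := ⟨_, rfl⟩
  have hK₀v : (K₀ : Matrix (Fin (2 * m + 1) × Fin (2 * m + 1)) (Fin (2 * m + 1) × Fin (2 * m + 1)) F) =
      (1 : Matrix (Fin (2 * m + 1)) (Fin (2 * m + 1)) F) ⊗ₖ A := by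
    rw [hK₀, kronUnit_val, Units.val_one, ha]
  have hK₀m : K₀ ∈ kroneckerSubgroup (2 * m + 1) (2 * m + 1) F := by rw [hK₀]; exact kronUnit_mem 1 a
  refine ⟨e.trans (pairEquiv (2 * m + 1)), P * glReindex e.symm K₀, ⟨c * c', mul_ne_zero hc hc', ?_⟩, ?_⟩
  · intro x y
    have hx : ∀ x : (Fin 2 → Fin (2 * m + 1)) → F,
        ((P * glReindex e.symm K₀ : GL (Fin n) F) : Matrix (Fin n) (Fin n) F) *ᵥ
            (x ∘ (e.trans (pairEquiv (2 * m + 1)))) =
          (P : Matrix (Fin n) (Fin n) F) *ᵥ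
            (((K₀ : Matrix (Fin (2 * m + 1) × Fin (2 * m + 1)) (Fin (2 * m + 1) × Fin (2 * m + 1)) F) *ᵥ
              (x ∘ pairEquiv (2 * m + 1))) ∘ e) := by
      intro x
      rw [Units.val_mul, ← Matrix.mulVec_mulVec]
      congr 1
      exact glReindex_symm_mulVec e K₀ (x ∘ pairEquiv (2 * m + 1))
    rw [hx, hx, hform, mul_assoc]
    congr 1
    have h3 := formOfGram_mulVec (RingHom.id F) (gramMatrix f₁ ⊗ₖ gramMatrix f₂)
      (K₀ : Matrix (Fin (2 * m + 1) × Fin (2 * m + 1)) (Fin (2 * m + 1) × Fin (2 * m + 1)) F)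
      (x ∘ pairEquiv (2 * m + 1)) (y ∘ pairEquiv (2 * m + 1))
    have hmapid : ∀ M : Matrix (Fin (2 * m + 1) × Fin (2 * m + 1)) (Fin (2 * m + 1) × Fin (2 * m + 1)) F,
        M.map (RingHom.id F) = M := by
      intro M
      ext i j
      rfl
    rw [hK₀v, hmapid, kron_conj, hAG, Matrix.transpose_one, Matrix.one_mul, Matrix.mul_one] at h3
    rw [hK₀v]
    have h4 : formOfGram id (gramMatrix f₁ ⊗ₖ gramMatrix f₂)
        (((1 : Matrix (Fin (2 * m + 1)) (Fin (2 * m + 1)) F) ⊗ₖ A) *ᵥ (x ∘ pairEquiv (2 * m + 1)))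
        (((1 : Matrix (Fin (2 * m + 1)) (Fin (2 * m + 1)) F) ⊗ₖ A) *ᵥ (y ∘ pairEquiv (2 * m + 1))) =
        formOfGram id (gramMatrix f₁ ⊗ₖ (c' • gramMatrix f₁)) (x ∘ pairEquiv (2 * m + 1))
          (y ∘ pairEquiv (2 * m + 1)) := h3
    rw [h4, formOfGram_kron_smul]
    congr 1
    unfold formOfGram
    rw [← Equiv.sum_comp (pairEquiv (2 * m + 1))]
    apply Finset.sum_congr rfl
    intro p _
    rw [← Equiv.sum_comp (pairEquiv (2 * m + 1))]
    apply Finset.sum_congr rfl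
    intro p' _
    rw [Fin.prod_univ_two, Matrix.kroneckerMap_apply]
    rfl
  · intro g hg
    unfold tensorProductSubgroup at hg
    rw [Subgroup.mem_map] at hg
    obtain ⟨g', hg', rfl⟩ := hg
    rw [Subgroup.mem_map] at hg'
    obtain ⟨κ, hκ, rfl⟩ := hg'
    unfold tensorWreathSubgroup
    rw [Subgroup.mem_map]
    refine ⟨glReindex e.symm (K₀⁻¹ * κ * K₀), ?_, ?_⟩
    · rw [Subgroup.mem_map]
      refine ⟨glReindex (pairEquiv (2 * m + 1)) (K₀⁻¹ * κ * K₀), reindex_kronecker_mem (2 * m + 1)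
        ((kroneckerSubgroup (2 * m + 1) (2 * m + 1) F).mul_mem
          ((kroneckerSubgroup (2 * m + 1) (2 * m + 1) F).mul_mem
          ((kroneckerSubgroup (2 * m + 1) (2 * m + 1) F).inv_mem hK₀m) hκ) hK₀m), ?_⟩
      show glReindex (e.trans (pairEquiv (2 * m + 1))).symm
          (glReindex (pairEquiv (2 * m + 1)) (K₀⁻¹ * κ * K₀)) =
        glReindex e.symm (K₀⁻¹ * κ * K₀)
      apply Units.ext
      ext i j
      rw [glReindex_apply, glReindex_apply, glReindex_apply]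
      simp
    · show P * glReindex e.symm K₀ * glReindex e.symm (K₀⁻¹ * κ * K₀) * (P * glReindex e.symm K₀)⁻¹ =
        P * glReindex e.symm κ * P⁻¹
      rw [map_mul, map_mul, map_inv]
      group

end Cfsg.Agent.Helper6.AschGO
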