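import Mathlib
import Cfsg.Prelude.Def_GeometricClasses
import Cfsg.Agent.Helper2.AschTrE
import Cfsg.Agent.Helper6.AschGOBase

/-!
# ASCH-GEN-O: transport of `GOConcl` along a bijection of index types (helper6)
-/

set_option autoImplicit false
set_option linter.unusedVariables false

namespace Cfsg.Agent.Helper6.AschGO

open Cfsg Cfsg.Geo Cfsg.Agent.Lead.Asch Cfsg.Agent.Helper2.AschTr
open scoped MatrixGroups Matrix Kronecker

variable {ι κ : Type} [Fintype ι] [DecidableEq ι] [Fintype κ] [DecidableEq κ] {F : Type*} [Field F]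

theorem map_thL_ne_top (e : ι ≃ κ) {W' : Submodule F (κ → F)} (h : W' ≠ ⊤) : W'.map (thL e) ≠ ⊤ := by
  intro htop
  apply h
  apply Submodule.eq_top_of_finrank_eq
  rw [← finrank_map_thL e W', htop, finrank_top, Module.finrank_fintype_fun_eq_card,
    Module.finrank_fintype_fun_eq_card]
  exact Fintype.card_congr e

/-- transport of the conclusion `GOConcl` along a bijection of index types -/
theorem goConcl_of_map [Fintype F] (e : ι ≃ κ) (Q : (ι → F) → F) (H : Subgroup (GL ι F))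
    (h : GOConcl (rq e Q) (H.map (glReindex e : GL ι F ≃* GL κ F).toMonoidHom)) : GOConcl Q H := by
  rw [GOConcl, polar_rq] at h
  rcases h with ⟨W', h0, hts, hle⟩ | ⟨W', h0, h1, hnd, hle⟩ | ⟨t, k, D', hk, hD, hle⟩ | ⟨t, D', hq, hD, hle⟩ |
    ⟨r, K', hr, hcard, hK, hsa, hle⟩ | ⟨n₁, n₂, e', P', f₁, f₂, h31, h12, h⟩ | ⟨F₀, r, P', hr, hc, hrat, hle⟩ |
    ⟨k, t, e', P', f₁, hk3, ht2, h33, h⟩ | hres
  · exact Or.inl ⟨W'.map (thL e), map_thL_ne_bot e h0, totallySingular_map e hts, le_stab_of_map e hle⟩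
  · exact Or.inr (Or.inl ⟨W'.map (thL e), map_thL_ne_bot e h0, map_thL_ne_top e h1, nondegenerateOn_map e hnd,
      le_stab_of_map e hle⟩)
  · exact Or.inr (Or.inr (Or.inl ⟨t, k, fun i => (D' i).map (thL e), hk, isOrthogonalMDecomposition_map e hD,
      le_decomp_of_map e hle⟩))
  · exact Or.inr (Or.inr (Or.inr (Or.inl ⟨t, fun i => (D' i).map (thL e), hq,
      isOrthogonalMDecomposition_map e hD, le_decomp_of_map e hle⟩)))
  · obtain ⟨K, hK', hsa', hle'⟩ := pull_fieldSelfAdj' e ⟨K', hK, hsa, hle⟩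
    refine Or.inr (Or.inr (Or.inr (Or.inr (Or.inl ⟨r, K, hr, ?_, hK', hsa', hle'⟩))))
    rw [Fintype.card_congr e]
    exact hcard
  · obtain ⟨e'', P, g₁, g₂, h'⟩ := pull_tensor e id IsSymmetricForm IsSymmetricForm ⟨e', P', f₁, f₂, h⟩
    exact Or.inr (Or.inr (Or.inr (Or.inr (Or.inr (Or.inl ⟨n₁, n₂, e'', P, g₁, g₂, h31, h12, h'⟩)))))
  · exact Or.inr (Or.inr (Or.inr (Or.inr (Or.inr (Or.inr (Or.inl
      ⟨F₀, r, (glReindex e).symm P', hr, hc, quadRational_of_map e F₀ P' hrat, le_subfield_of_map e F₀ P' hle⟩))))))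
  · obtain ⟨e'', P, g₁, h'⟩ := pull_tensorWreath e id IsSymmetricForm ⟨e', P', f₁, h⟩
    exact Or.inr (Or.inr (Or.inr (Or.inr (Or.inr (Or.inr (Or.inr (Or.inl
      ⟨k, t, e'', P, g₁, hk3, ht2, h33, h'⟩)))))))
  · exact Or.inr (Or.inr (Or.inr (Or.inr (Or.inr (Or.inr (Or.inr (Or.inr
      (inOrthogonalResidualClass_of_map e hres))))))))

end Cfsg.Agent.Helper6.AschGO
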