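import Mathlib
import Cfsg.Prelude.Def_GeometricClasses
import Cfsg.Agent.Helper9.AschCompK
import Cfsg.Agent.Helper6.AschGenMain
import Cfsg.Agent.Helper6.AschGenT3
import Cfsg.Agent.Helper6.AschGenEven

/-!
# ASCH-PP: the general subgroup structure theorem S5630 from the generic `asch_gen` (helper6)

`final_gen`: the statement of S5630 (for an arbitrary subgroup `H` of `GL_n(F)`, `n ≥ 3`), with the slots
`PerfectCaseGen`, `SympCaseGen` of `asch_gen` and the slot `TwoFormsHyp` (piece T4) as hypotheses.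
-/

set_option autoImplicit false
set_option linter.unusedVariables false

namespace Cfsg.Agent.Helper6.AschGen

open Cfsg Cfsg.Geo Cfsg.Agent.Lead.Asch
open scoped MatrixGroups Matrix Kronecker

variable {n : ℕ} {F : Type*} [Field F]

/-- slot: piece T4 (tensor wreath groups with factors of dimension 2 fix a form up to scalars) -/
def TwoFormsHyp (n : ℕ) (F : Type*) [Field F] [Fintype F] : Prop :=
  ∀ (k : ℕ), 1 ≤ k → ∀ (e : Fin n ≃ (Fin k → Fin 2)) (P : GL (Fin n) F),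
    (∃ f : (Fin n → F) → (Fin n → F) → F, IsSymplecticForm f ∧ tensorWreathSubgroup 2 k e P ≤ similarityGroup f) ∨
    (Odd (Fintype.card F) ∧ ∃ Q : (Fin n → F) → F, IsNondegenerateQuadraticForm Q ∧
      tensorWreathSubgroup 2 k e P ≤ quadSimilarityGroup Q)

/-- the general subgroup structure theorem, modulo the slots -/
theorem final_gen [Fintype F] (hperfect : PerfectCaseGen n F) (hsymp : SympCaseGen n F) (hT4 : TwoFormsHyp n F)
    (hn : 3 ≤ n) (H : Subgroup (GL (Fin n) F)) :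
    (∃ M : Subgroup (GL (Fin n) F), InLinearClass n F M ∧ H ≤ M) ∨ InLinearResidualClass H := by
  -- the exits through forms
  have exitS : (∃ f : (Fin n → F) → (Fin n → F) → F, IsSymplecticForm f ∧ H ≤ similarityGroup f) →
      ∃ M : Subgroup (GL (Fin n) F), InLinearClass n F M ∧ H ≤ M := by
    rintro ⟨f, hf, hle⟩
    have he : Even n := even_of_isSymplecticForm hf
    have h4 : 4 ≤ n := by
      obtain ⟨k, hk⟩ := he
      omega
    exact ⟨_, Or.inr (Or.inr (Or.inr (Or.inr (Or.inr (Or.inr (Or.inr (Or.inr (Or.inr (Or.inl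
      ⟨f, hf, he, h4, rfl⟩))))))))), hle⟩
  have exitQ : (Odd (Fintype.card F) ∧ ∃ Q : (Fin n → F) → F, IsNondegenerateQuadraticForm Q ∧
      H ≤ quadSimilarityGroup Q) → ∃ M : Subgroup (GL (Fin n) F), InLinearClass n F M ∧ H ≤ M := by
    rintro ⟨ho, Q, hQ, hle⟩
    exact ⟨_, Or.inr (Or.inr (Or.inr (Or.inr (Or.inr (Or.inr (Or.inr (Or.inr (Or.inr (Or.inr (Or.inr
      ⟨Q, hQ, ho, hn, rfl⟩)))))))))), hle⟩
  have exitT2 : (∃ (k : ℕ) (e : Fin n ≃ (Fin k → Fin 2)) (P : GL (Fin n) F), 1 ≤ k ∧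
      H ≤ tensorWreathSubgroup 2 k e P) → ∃ M : Subgroup (GL (Fin n) F), InLinearClass n F M ∧ H ≤ M := by
    rintro ⟨k, e, P, hk, hle⟩
    rcases hT4 k hk e P with ⟨f, hf, hle'⟩ | ⟨ho, Q, hQ, hle'⟩
    · exact exitS ⟨f, hf, hle.trans hle'⟩
    · exact exitQ ⟨ho, Q, hQ, hle.trans hle'⟩
  have exitW : (∃ (d k : ℕ) (e : Fin n ≃ (Fin k → Fin d)) (Pm : GL (Fin n) F), 2 ≤ d ∧ 2 ≤ k ∧
      H ≤ tensorWreathSubgroup d k e Pm) → ∃ M : Subgroup (GL (Fin n) F), InLinearClass n F M ∧ H ≤ M := by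
    rintro ⟨d, k, e, Pm, hd, hk, hle⟩
    rcases Nat.lt_or_ge d 3 with h3 | h3
    · have hd2 : d = 2 := by omega
      subst hd2
      exact exitT2 ⟨k, e, Pm, by omega, hle⟩
    · exact ⟨_, Or.inr (Or.inr (Or.inr (Or.inr (Or.inr (Or.inr (Or.inr (Or.inr (Or.inl
        ⟨d, k, e, Pm, h3, hk, rfl⟩)))))))), hle⟩
  rcases asch_gen hperfect hsymp hn H with h | h | h | h | h | h | h | h | h | h | h
  · obtain ⟨W, h0, h1, hle⟩ := h
    exact Or.inl ⟨_, Or.inl ⟨W, h0, h1, rfl⟩, hle⟩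
  · obtain ⟨t, m, D, hD, htm, hle⟩ := h
    exact Or.inl ⟨_, Or.inr (Or.inr (Or.inr (Or.inl ⟨t, m, D, hD, rfl⟩))), hle⟩
  · obtain ⟨r, K, hr, hrn, hK, hle⟩ := h
    exact Or.inl ⟨_, Or.inr (Or.inr (Or.inr (Or.inr (Or.inl ⟨r, K, hr, hK, rfl⟩)))), hle⟩
  · obtain ⟨n₁, n₂, e, P, h1, h2, hle⟩ := h
    rcases lt_trichotomy n₁ n₂ with hlt | heq | hgt
    · exact Or.inl ⟨_, Or.inr (Or.inr (Or.inr (Or.inr (Or.inr (Or.inl ⟨n₁, n₂, e, P, h1, hlt, rfl⟩))))), hle⟩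
    · subst heq
      obtain ⟨e', hle'⟩ := tensorProductSubgroup_le_tensorWreath n₁ e P
      exact Or.inl (exitW ⟨n₁, 2, e', P, h1, le_refl _, hle.trans hle'⟩)
    · rw [Cfsg.Agent.Helper9.AschCompK.tensorProductSubgroup_swap] at hle
      exact Or.inl ⟨_, Or.inr (Or.inr (Or.inr (Or.inr (Or.inr (Or.inl ⟨n₂, n₁, _, P, h2, hgt, rfl⟩))))), hle⟩
  · obtain ⟨F₀, r, P, hr, hc, hle⟩ := h
    exact Or.inl ⟨_, Or.inr (Or.inr (Or.inr (Or.inr (Or.inr (Or.inr (Or.inl ⟨F₀, r, P, hr, hc, rfl⟩)))))), hle⟩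
  · obtain ⟨r, a, R, hr, hra, hdata, hRH, hle⟩ := h
    exact Or.inl ⟨_, Or.inr (Or.inr (Or.inr (Or.inr (Or.inr (Or.inr (Or.inr (Or.inl ⟨r, R, hdata, rfl⟩))))))), hle⟩
  · exact Or.inl (exitW h)
  · exact Or.inl (exitQ h)
  · exact Or.inl (exitS h)
  · obtain ⟨σ, f, hf, hle⟩ := h
    exact Or.inl ⟨_, Or.inr (Or.inr (Or.inr (Or.inr (Or.inr (Or.inr (Or.inr (Or.inr (Or.inr (Or.inr (Or.inl
      ⟨σ, f, hf, hn, rfl⟩)))))))))), hle⟩
  · exact Or.inr h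

end Cfsg.Agent.Helper6.AschGen
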