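import Mathlib
import Cfsg.Prelude.Def_GeometricClasses
import Cfsg.Agent.Helper9.AschC6Main
import Cfsg.Agent.Helper9.AschC6StrB
import Cfsg.Agent.Helper9.AschC6Intertwine
import Cfsg.Agent.Helper9.AschC6FormsB
import Cfsg.Agent.Helper9.AschC6Field
import Cfsg.Agent.Helper5.AschPPG3b
import Cfsg.Agent.Helper4.AschTIH
import Cfsg.Agent.Helper6.AschGenMain
import Cfsg.Agent.Helper6.AschGenMax
import Cfsg.Agent.Helper6.AschGenFinal
import Cfsg.Agent.Helper6.AschGenT4B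

/-!
# ASCH-PP: the slots of `asch_gen` filled (helper6)

`c6Pieces`, `sympCaseGen`, `perfectCaseGen`, `twoFormsHyp`; the unconditional `asch_all`, `asch_all_max`,
`final_all` (= S5630 for an arbitrary subgroup of `GL_n(F)`).
-/

set_option autoImplicit false
set_option linter.unusedVariables false

namespace Cfsg.Agent.Helper6.AschGen

open Cfsg Cfsg.Geo Cfsg.Agent.Lead.Asch Cfsg.Agent.Helper9.AschC6
open scoped MatrixGroups Matrix

variable {n : ℕ} {F : Type*} [Field F]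

theorem c6Pieces [Fintype F] (hn : 2 ≤ n) : C6Pieces n F where
  structure_ := fun h => c6_structure hn h
  intertwiner := fun h ρ hρ => exists_intertwiner h ρ hρ
  realisable := fun hq τ hτ _ hN J hJ F₁ hF₁ =>
    Cfsg.Agent.Helper5.AschPP.realisable_of_twist hq τ hτ hN J hJ F₁ hF₁
  unitary := fun hF _ hN J hJ => unitary_of_twist hF hN J hJ
  bilinear := fun hodd _ hN J hJ => bilinear_of_twist hodd hN J hJ
  fieldCases := fun z hz => field_cases z hz
  involution := fun hmin he hz => exists_involution hmin he hz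

theorem sympCaseGen [Fintype F] (hn : 3 ≤ n) : SympCaseGen n F :=
  fun h => symplectic_type_case_gen (c6Pieces (by omega)) hn h

theorem perfectCaseGen [Fintype F] (hn : 2 ≤ n) : PerfectCaseGen n F :=
  fun hNH hnz hns hall hmin hperf =>
    Cfsg.Agent.Helper4.AschTI.perfect_case_gen hn hNH hnz hns hall hmin hperf

theorem twoFormsHyp [Fintype F] : TwoFormsHyp n F :=
  fun k hk e P => tensorWreath_two_forms k hk e P

/-- Aschbacher's theorem for subgroups of `GL_n(F)`, `n ≥ 3`: `asch_gen` with all slots filled -/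
theorem asch_all [Fintype F] (hn3 : 3 ≤ n) (H : Subgroup (GL (Fin n) F)) :
    (∃ W : Submodule F (Fin n → F), W ≠ ⊥ ∧ W ≠ ⊤ ∧ H ≤ subspaceStabilizer W) ∨
    (∃ (t m : ℕ) (D : Fin t → Submodule F (Fin n → F)), IsMDecomposition m D ∧ t * m = n ∧
      H ≤ decompositionStabilizer D) ∨
    (∃ (r : ℕ) (K : Subalgebra F (Matrix (Fin n) (Fin n) F)), r.Prime ∧ r ∣ n ∧ IsFieldSubalgebra r K ∧
      H ≤ subalgebraNormalizer K) ∨
    (∃ (n₁ n₂ : ℕ) (e : Fin n ≃ Fin n₁ × Fin n₂) (P : GL (Fin n) F), 2 ≤ n₁ ∧ 2 ≤ n₂ ∧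
      H ≤ tensorProductSubgroup n₁ n₂ e P) ∨
    (∃ (F₀ : Subfield F) (r : ℕ) (P : GL (Fin n) F), r.Prime ∧ Fintype.card F = Nat.card F₀ ^ r ∧
      H ≤ subfieldSubgroup F₀ P) ∨
    (∃ (r a : ℕ) (R : Subgroup (GL (Fin n) F)), r.Prime ∧ n = r ^ a ∧ IsLinearSymplecticTypeData r R ∧
      R ≤ H ∧ H ≤ subgroupNormalizer R) ∨
    (∃ (d k : ℕ) (e : Fin n ≃ (Fin k → Fin d)) (Pm : GL (Fin n) F), 2 ≤ d ∧ 2 ≤ k ∧
      H ≤ tensorWreathSubgroup d k e Pm) ∨
    (Odd (Fintype.card F) ∧ ∃ Q : (Fin n → F) → F, IsNondegenerateQuadraticForm Q ∧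
      H ≤ quadSimilarityGroup Q) ∨
    (∃ f : (Fin n → F) → (Fin n → F) → F, IsSymplecticForm f ∧ H ≤ similarityGroup f) ∨
    (∃ (σ : F ≃+* F) (f : (Fin n → F) → (Fin n → F) → F), IsUnitaryForm σ f ∧ H ≤ similarityGroup f) ∨
    InLinearResidualClass H :=
  asch_gen (perfectCaseGen (by omega)) (sympCaseGen hn3) hn3 H

/-- Aschbacher's theorem for maximal subgroups of `SL_n(F)`, `n ≥ 3`: `asch_gen_max` with all slots filled -/
theorem asch_all_max [Fintype F] (hn3 : 3 ≤ n) (H : Subgroup (GL (Fin n) F))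
    (hH : IsMaximalIn (specialLinear (Fin n) F) H) :
    (∃ W : Submodule F (Fin n → F), W ≠ ⊥ ∧ W ≠ ⊤ ∧ H = subspaceStabilizer W ⊓ specialLinear (Fin n) F) ∨
    (∃ (t m : ℕ) (D : Fin t → Submodule F (Fin n → F)), IsMDecomposition m D ∧ t * m = n ∧
      ¬ (m = 1 ∧ Fintype.card F ≤ 4) ∧ ¬ (m = 2 ∧ Fintype.card F = 2) ∧
      H = decompositionStabilizer D ⊓ specialLinear (Fin n) F) ∨
    (∃ (r : ℕ) (K : Subalgebra F (Matrix (Fin n) (Fin n) F)), r.Prime ∧ r ∣ n ∧ IsFieldSubalgebra r K ∧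
      H = subalgebraNormalizer K ⊓ specialLinear (Fin n) F) ∨
    (∃ (n₁ n₂ : ℕ) (e : Fin n ≃ Fin n₁ × Fin n₂) (P : GL (Fin n) F), 2 ≤ n₁ ∧ 2 ≤ n₂ ∧
      ¬ ((n₁ = 2 ∨ n₂ = 2) ∧ Fintype.card F = 2) ∧
      H = tensorProductSubgroup n₁ n₂ e P ⊓ specialLinear (Fin n) F) ∨
    (∃ (F₀ : Subfield F) (r : ℕ) (P : GL (Fin n) F), r.Prime ∧ Fintype.card F = Nat.card F₀ ^ r ∧
      H = subfieldSubgroup F₀ P ⊓ specialLinear (Fin n) F) ∨
    (∃ (r a : ℕ) (R : Subgroup (GL (Fin n) F)), r.Prime ∧ n = r ^ a ∧ IsLinearSymplecticTypeData r R ∧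
      H = subgroupNormalizer R ⊓ specialLinear (Fin n) F) ∨
    (∃ (d k : ℕ) (e : Fin n ≃ (Fin k → Fin d)) (Pm : GL (Fin n) F), 2 ≤ d ∧ 2 ≤ k ∧
      H ≤ tensorWreathSubgroup d k e Pm) ∨
    (Odd (Fintype.card F) ∧ ∃ Q : (Fin n → F) → F, IsNondegenerateQuadraticForm Q ∧
      H = quadSimilarityGroup Q ⊓ specialLinear (Fin n) F) ∨
    (∃ f : (Fin n → F) → (Fin n → F) → F, IsSymplecticForm f ∧
      H = similarityGroup f ⊓ specialLinear (Fin n) F) ∨
    (∃ (σ : F ≃+* F) (f : (Fin n → F) → (Fin n → F) → F), IsUnitaryForm σ f ∧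
      H = similarityGroup f ⊓ specialLinear (Fin n) F) ∨
    InLinearResidualClass H :=
  asch_gen_max (perfectCaseGen (by omega)) (sympCaseGen hn3) hn3 H hH

/-- the general subgroup structure theorem (S5630, for an arbitrary subgroup of `GL_n(F)`) -/
theorem final_all [Fintype F] (hn : 3 ≤ n) (H : Subgroup (GL (Fin n) F)) :
    (∃ M : Subgroup (GL (Fin n) F), InLinearClass n F M ∧ H ≤ M) ∨ InLinearResidualClass H :=
  final_gen (perfectCaseGen (by omega)) (sympCaseGen hn) twoFormsHyp hn H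

end Cfsg.Agent.Helper6.AschGen
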