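import Mathlib
import Cfsg.Prelude.Def_GeometricClasses
import Cfsg.Agent.Helper4.AschTIE

/-!
# ASCH-PP piece T4 (helper6), part A: the form `ω^{⊗k}` on `(F²)^{⊗k}` and its similarities

`GG k = ptens (fun _ => J2)` is the Gram matrix of `ω^{⊗k}`; pure tensors and factor permutations multiply it by a
scalar.
-/

set_option autoImplicit false
set_option linter.unusedVariables false

namespace Cfsg.Agent.Helper6.AschGen

open Cfsg Cfsg.Geo Cfsg.Agent.Helper4.AschTI
open scoped MatrixGroups Matrix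

variable {F : Type*} [Field F] {k : ℕ}

/-- the Gram matrix of the standard alternating form on `F²` -/
def J2 (F : Type*) [Field F] : Matrix (Fin 2) (Fin 2) F := !![0, 1; -1, 0]

theorem J2_conj (a : Matrix (Fin 2) (Fin 2) F) : aᵀ * J2 F * a = a.det • J2 F := by
  ext i j
  fin_cases i <;> fin_cases j <;>
    simp [J2, Matrix.mul_apply, Fin.sum_univ_two, Matrix.det_fin_two] <;> ring

theorem J2_transpose : (J2 F)ᵀ = (-1 : F) • J2 F := by
  ext i j
  fin_cases i <;> fin_cases j <;> simp [J2]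

theorem J2_mul_self : J2 F * J2 F = (-1 : F) • (1 : Matrix (Fin 2) (Fin 2) F) := by
  ext i j
  fin_cases i <;> fin_cases j <;> simp [J2, Matrix.mul_apply, Fin.sum_univ_two]

theorem J2_diag (a : Fin 2) : J2 F a a = 0 := by
  fin_cases a <;> simp [J2]

theorem ptens_transpose {d : ℕ} (M : Fin k → Matrix (Fin d) (Fin d) F) :
    (ptens M)ᵀ = ptens (fun i => (M i)ᵀ) := by
  ext x y
  rfl

theorem ptens_smul {d : ℕ} (c : Fin k → F) (M : Fin k → Matrix (Fin d) (Fin d) F) :
    ptens (fun i => c i • M i) = (∏ i, c i) • ptens M := by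
  ext x y
  rw [Matrix.smul_apply, ptens_apply, ptens_apply, smul_eq_mul, ← Finset.prod_mul_distrib]
  rfl

/-- the Gram matrix of `ω^{⊗k}` -/
def GG (F : Type*) [Field F] (k : ℕ) : Matrix (Fin k → Fin 2) (Fin k → Fin 2) F := ptens (fun _ => J2 F)

theorem GG_transpose : (GG F k)ᵀ = ((-1 : F) ^ k) • GG F k := by
  unfold GG
  rw [ptens_transpose]
  simp only [J2_transpose]
  rw [ptens_smul (fun _ => (-1 : F)) (fun _ => J2 F)]
  simp

theorem GG_mul_self : GG F k * GG F k = ((-1 : F) ^ k) • (1 : Matrix (Fin k → Fin 2) (Fin k → Fin 2) F) := by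
  unfold GG
  rw [ptens_mul]
  simp only [J2_mul_self]
  rw [ptens_smul (fun _ => (-1 : F)) (fun _ => (1 : Matrix (Fin 2) (Fin 2) F)), ptens_one]
  simp

theorem GG_diag (hk : 1 ≤ k) (x : Fin k → Fin 2) : GG F k x x = 0 := by
  unfold GG
  rw [ptens_apply]
  exact Finset.prod_eq_zero (Finset.mem_univ (⟨0, by omega⟩ : Fin k)) (J2_diag _)

theorem isUnit_det_GG : IsUnit (GG F k).det := by
  have h := congrArg Matrix.det (GG_mul_self (F := F) (k := k))
  rw [Matrix.det_mul, Matrix.det_smul, Matrix.det_one, mul_one] at h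
  have hu : IsUnit (((-1 : F) ^ k) ^ Fintype.card (Fin k → Fin 2)) :=
    (IsUnit.pow _ (IsUnit.pow _ (isUnit_one.neg)))
  rw [← h] at hu
  exact isUnit_of_mul_isUnit_left hu

/-- pure tensors are similarities of `ω^{⊗k}` -/
theorem GG_pureTensor {g : GL (Fin k → Fin 2) F} (hg : IsPureTensor 2 k g) :
    ∃ c : Fˣ, (g : Matrix (Fin k → Fin 2) (Fin k → Fin 2) F)ᵀ * GG F k *
      (g : Matrix (Fin k → Fin 2) (Fin k → Fin 2) F) = (c : F) • GG F k := by
  obtain ⟨gs, hgs⟩ := hg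
  have hgm : (g : Matrix (Fin k → Fin 2) (Fin k → Fin 2) F) =
      ptens (fun i => (gs i : Matrix (Fin 2) (Fin 2) F)) := by
    ext x y
    rw [hgs, ptens_apply]
  refine ⟨∏ i, Matrix.GeneralLinearGroup.det (gs i), ?_⟩
  rw [hgm, ptens_transpose]
  unfold GG
  rw [ptens_mul, ptens_mul]
  simp only [J2_conj]
  rw [ptens_smul (fun i => (gs i : Matrix (Fin 2) (Fin 2) F).det) (fun _ => J2 F)]
  congr 1
  rw [Units.coe_prod]
  rfl

theorem fperm_transpose {d : ℕ} (σ : Equiv.Perm (Fin k)) :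
    (fperm σ : Matrix (Fin k → Fin d) (Fin k → Fin d) F)ᵀ = fperm σ⁻¹ := by
  ext x y
  rw [Matrix.transpose_apply]
  unfold fperm
  by_cases h : x = y ∘ σ
  · rw [if_pos h, if_pos]
    rw [h]
    funext j
    simp
  · rw [if_neg h, if_neg]
    intro h'
    apply h
    rw [h']
    funext j
    simp

/-- factor permutations are isometries of `ω^{⊗k}` -/
theorem GG_factorPermutation {g : GL (Fin k → Fin 2) F} (hg : IsFactorPermutation 2 k g) :
    ∃ c : Fˣ, (g : Matrix (Fin k → Fin 2) (Fin k → Fin 2) F)ᵀ * GG F k *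
      (g : Matrix (Fin k → Fin 2) (Fin k → Fin 2) F) = (c : F) • GG F k := by
  obtain ⟨σ, hσ⟩ := hg
  have hgm : (g : Matrix (Fin k → Fin 2) (Fin k → Fin 2) F) = fperm σ := by
    ext x y
    rw [hσ]
    rfl
  refine ⟨1, ?_⟩
  rw [hgm, fperm_transpose, Units.val_one, one_smul]
  ext x y
  rw [mul_fperm_apply, fperm_mul_apply]
  unfold GG
  rw [ptens_apply, ptens_apply]
  exact Equiv.prod_comp (σ⁻¹) (fun i => J2 F (x i) (y i))

/-- the similarity property on the whole standard tensor wreath group -/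
theorem GG_tensorWreathStandard {g : GL (Fin k → Fin 2) F} (hg : g ∈ tensorWreathStandard 2 k F) :
    ∃ c : Fˣ, (g : Matrix (Fin k → Fin 2) (Fin k → Fin 2) F)ᵀ * GG F k *
      (g : Matrix (Fin k → Fin 2) (Fin k → Fin 2) F) = (c : F) • GG F k := by
  unfold tensorWreathStandard at hg
  induction hg using Subgroup.closure_induction with
  | mem x hx =>
    rcases hx with hx | hx
    · exact GG_pureTensor hx
    · exact GG_factorPermutation hx
  | one => exact ⟨1, by simp⟩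
  | mul x y _ _ hx hy =>
    obtain ⟨c, hc⟩ := hx
    obtain ⟨d, hd⟩ := hy
    refine ⟨c * d, ?_⟩
    rw [Units.val_mul, Matrix.transpose_mul]
    calc (y : Matrix (Fin k → Fin 2) (Fin k → Fin 2) F)ᵀ * (x : Matrix (Fin k → Fin 2) (Fin k → Fin 2) F)ᵀ *
          GG F k * ((x : Matrix (Fin k → Fin 2) (Fin k → Fin 2) F) * (y : Matrix (Fin k → Fin 2) (Fin k → Fin 2) F))
        = (y : Matrix (Fin k → Fin 2) (Fin k → Fin 2) F)ᵀ *
          ((x : Matrix (Fin k → Fin 2) (Fin k → Fin 2) F)ᵀ * GG F k * (x : Matrix (Fin k → Fin 2) (Fin k → Fin 2) F)) *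
            (y : Matrix (Fin k → Fin 2) (Fin k → Fin 2) F) := by
          simp only [Matrix.mul_assoc]
      _ = ((c * d : Fˣ) : F) • GG F k := by
          rw [hc, Matrix.mul_smul, Matrix.smul_mul, hd, smul_smul, Units.val_mul]
  | inv x _ hx =>
    obtain ⟨c, hc⟩ := hx
    refine ⟨c⁻¹, ?_⟩
    have h1 : GG F k = (c : F)⁻¹ • ((x : Matrix (Fin k → Fin 2) (Fin k → Fin 2) F)ᵀ * GG F k *
        (x : Matrix (Fin k → Fin 2) (Fin k → Fin 2) F)) := by
      rw [hc, smul_smul, inv_mul_cancel₀ c.ne_zero, one_smul]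
    have hx1 : (x : Matrix (Fin k → Fin 2) (Fin k → Fin 2) F) *
        ((x⁻¹ : GL (Fin k → Fin 2) F) : Matrix (Fin k → Fin 2) (Fin k → Fin 2) F) = 1 := by
      rw [← Units.val_mul, mul_inv_cancel, Units.val_one]
    have hx2 : ((x⁻¹ : GL (Fin k → Fin 2) F) : Matrix (Fin k → Fin 2) (Fin k → Fin 2) F)ᵀ *
        (x : Matrix (Fin k → Fin 2) (Fin k → Fin 2) F)ᵀ = 1 := by
      rw [← Matrix.transpose_mul, hx1, Matrix.transpose_one]
    conv_lhs => rw [h1]
    rw [Matrix.mul_smul, Matrix.smul_mul, Units.val_inv_eq_inv_val]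
    congr 1
    calc ((x⁻¹ : GL (Fin k → Fin 2) F) : Matrix (Fin k → Fin 2) (Fin k → Fin 2) F)ᵀ *
          ((x : Matrix (Fin k → Fin 2) (Fin k → Fin 2) F)ᵀ * GG F k *
            (x : Matrix (Fin k → Fin 2) (Fin k → Fin 2) F)) *
          ((x⁻¹ : GL (Fin k → Fin 2) F) : Matrix (Fin k → Fin 2) (Fin k → Fin 2) F)
        = (((x⁻¹ : GL (Fin k → Fin 2) F) : Matrix (Fin k → Fin 2) (Fin k → Fin 2) F)ᵀ *
          (x : Matrix (Fin k → Fin 2) (Fin k → Fin 2) F)ᵀ) * GG F k *
            ((x : Matrix (Fin k → Fin 2) (Fin k → Fin 2) F) *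
          ((x⁻¹ : GL (Fin k → Fin 2) F) : Matrix (Fin k → Fin 2) (Fin k → Fin 2) F)) := by
          simp only [Matrix.mul_assoc]
      _ = GG F k := by rw [hx1, hx2, Matrix.one_mul, Matrix.mul_one]

end Cfsg.Agent.Helper6.AschGen
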