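import Mathlib
import Cfsg.Prelude.Def_GeometricClasses
import Cfsg.Agent.Helper9.AschC6Forms
import Cfsg.Agent.Helper6.AschGenT4A

/-!
# ASCH-PP piece T4 (helper6), part B: tensor wreath groups with factors of dimension 2 fix a form up to scalars
-/

set_option autoImplicit false
set_option linter.unusedVariables false

namespace Cfsg.Agent.Helper6.AschGen

open Cfsg Cfsg.Geo Cfsg.Agent.Helper4.AschTI Cfsg.Agent.Helper9.AschC6
open scoped MatrixGroups Matrix

variable {n : ℕ} {F : Type*} [Field F] {k : ℕ}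

theorem gform_smul_matrix (c : F) (G : Matrix (Fin n) (Fin n) F) (u v : Fin n → F) :
    gform (RingHom.id F) (c • G) u v = c * gform (RingHom.id F) G u v := by
  unfold gform
  rw [Matrix.smul_mulVec, dotProduct_smul, smul_eq_mul]

/-- an alternating matrix gives an alternating form -/
theorem gform_self_eq_zero_of_alt {A : Matrix (Fin n) (Fin n) F} (hA : Aᵀ = -A) (hd : ∀ i, A i i = 0)
    (w : Fin n → F) : gform (RingHom.id F) A w w = 0 := by
  classical
  unfold gform
  simp only [dotProduct, Matrix.mulVec, RingHom.id_apply, Finset.mul_sum]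
  rw [← Finset.sum_product']
  refine Finset.sum_involution (fun p _ => p.swap) ?_ ?_ ?_ ?_
  · rintro ⟨i, j⟩ _
    have h1 : A j i = - A i j := by
      have := congrFun (congrFun hA i) j
      rw [Matrix.transpose_apply, Matrix.neg_apply] at this
      exact this
    simp only [Prod.swap_prod_mk]
    rw [h1]
    ring
  · rintro ⟨i, j⟩ _ hne heq
    simp only [Prod.swap_prod_mk, Prod.mk.injEq] at heq
    obtain ⟨rfl, _⟩ := heq
    apply hne
    simp only
    rw [hd]
    ring
  · intro p _
    exact Finset.mem_univ _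
  · intro p _
    exact Prod.swap_swap p

theorem submatrix_smul' {X : Type*} (c : F) (A : Matrix X X F) (e : Fin n → X) :
    (c • A).submatrix e e = c • A.submatrix e e := rfl

/-- the Gram matrix of the transported form -/
noncomputable def GT (e : Fin n ≃ (Fin k → Fin 2)) (P : GL (Fin n) F) : Matrix (Fin n) (Fin n) F :=
  ((P⁻¹ : GL (Fin n) F) : Matrix (Fin n) (Fin n) F)ᵀ * (GG F k).submatrix e e *
    ((P⁻¹ : GL (Fin n) F) : Matrix (Fin n) (Fin n) F)

theorem GT_transpose (e : Fin n ≃ (Fin k → Fin 2)) (P : GL (Fin n) F) :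
    (GT e P)ᵀ = ((-1 : F) ^ k) • GT e P := by
  unfold GT
  rw [Matrix.transpose_mul, Matrix.transpose_mul, Matrix.transpose_transpose, Matrix.transpose_submatrix,
    GG_transpose, submatrix_smul', Matrix.smul_mul, Matrix.mul_smul, Matrix.mul_assoc]

theorem isUnit_det_GT (e : Fin n ≃ (Fin k → Fin 2)) (P : GL (Fin n) F) : IsUnit (GT e P).det := by
  unfold GT
  rw [Matrix.det_mul, Matrix.det_mul, Matrix.det_transpose, Matrix.det_submatrix_equiv_self]
  have h1 : IsUnit ((P⁻¹ : GL (Fin n) F) : Matrix (Fin n) (Fin n) F).det :=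
    (Matrix.isUnit_iff_isUnit_det _).1 (P⁻¹).isUnit
  exact (h1.mul isUnit_det_GG).mul h1

/-- the form is alternating as soon as `(-1)^k = -1` -/
theorem GT_alt (hk : 1 ≤ k) (hsign : ((-1 : F) ^ k) = -1) (e : Fin n ≃ (Fin k → Fin 2)) (P : GL (Fin n) F)
    (v : Fin n → F) : gform (RingHom.id F) (GT e P) v v = 0 := by
  have h1 : GT e P = ((P⁻¹ : GL (Fin n) F) : Matrix (Fin n) (Fin n) F)ᵀ * (GG F k).submatrix e e *
      (((P⁻¹ : GL (Fin n) F) : Matrix (Fin n) (Fin n) F)).map (RingHom.id F) := by
    unfold GT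
    congr 1
  rw [h1, ← gform_mulVec]
  apply gform_self_eq_zero_of_alt
  · rw [Matrix.transpose_submatrix, GG_transpose, hsign, submatrix_smul', neg_one_smul]
  · intro i
    exact GG_diag hk (e i)

/-- the elements of the tensor wreath group are similarities -/
theorem GT_similarity (e : Fin n ≃ (Fin k → Fin 2)) (P : GL (Fin n) F) {g : GL (Fin n) F}
    (hg : g ∈ tensorWreathSubgroup 2 k e P) :
    ∃ c : Fˣ, ∀ u v, gform (RingHom.id F) (GT e P) ((g : Matrix (Fin n) (Fin n) F) *ᵥ u)
      ((g : Matrix (Fin n) (Fin n) F) *ᵥ v) = (c : F) * gform (RingHom.id F) (GT e P) u v := by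
  unfold tensorWreathSubgroup at hg
  obtain ⟨g₁, ⟨g₀, hg₀, rfl⟩, rfl⟩ := hg
  obtain ⟨c, hc⟩ := GG_tensorWreathStandard hg₀
  refine ⟨c, fun u v => ?_⟩
  rw [gform_mulVec, ← gform_smul_matrix]
  congr 1
  set R : Matrix (Fin n) (Fin n) F := (g₀ : Matrix (Fin k → Fin 2) (Fin k → Fin 2) F).submatrix e e with hR
  set Pm : Matrix (Fin n) (Fin n) F := (P : Matrix (Fin n) (Fin n) F) with hPm
  set Pi : Matrix (Fin n) (Fin n) F := ((P⁻¹ : GL (Fin n) F) : Matrix (Fin n) (Fin n) F) with hPi
  have hgm : (((MulAut.conj P).toMonoidHom ((glReindex e.symm).toMonoidHom g₀) : GL (Fin n) F) :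
      Matrix (Fin n) (Fin n) F) = Pm * R * Pi := by
    show ((P * glReindex e.symm g₀ * P⁻¹ : GL (Fin n) F) : Matrix (Fin n) (Fin n) F) = Pm * R * Pi
    rw [Units.val_mul, Units.val_mul]
    rfl
  have hmap : ∀ M : Matrix (Fin n) (Fin n) F, M.map (RingHom.id F) = M := by
    intro M; ext i j; rfl
  have hPiPm : Pi * Pm = 1 := by
    rw [hPi, hPm, ← Units.val_mul, inv_mul_cancel, Units.val_one]
  have hPmPi : Pmᵀ * Piᵀ = 1 := by
    rw [← Matrix.transpose_mul, hPiPm, Matrix.transpose_one]
  have hRR : Rᵀ * (GG F k).submatrix e e * R = (c : F) • (GG F k).submatrix e e := by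
    rw [hR, Matrix.transpose_submatrix, Matrix.submatrix_mul_equiv, Matrix.submatrix_mul_equiv, hc,
      submatrix_smul']
  rw [hgm, hmap]
  unfold GT
  rw [← hPi]
  calc (Pm * R * Pi)ᵀ * (Piᵀ * (GG F k).submatrix e e * Pi) * (Pm * R * Pi)
      = Piᵀ * (Rᵀ * ((Pmᵀ * Piᵀ) * (GG F k).submatrix e e * (Pi * Pm)) * R) * Pi := by
        simp only [Matrix.transpose_mul, Matrix.mul_assoc]
    _ = (c : F) • (Piᵀ * (GG F k).submatrix e e * Pi) := by
        rw [hPiPm, hPmPi, Matrix.one_mul, Matrix.mul_one, hRR, Matrix.mul_smul, Matrix.smul_mul]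

/-- T4: factors of dimension 2: `GL_2 = GSp_2`, so the tensor wreath group fixes (up to scalars) the form `ω^{⊗k}`,
alternating for `k` odd or in characteristic 2, symmetric for `k` even. -/
theorem tensorWreath_two_forms [Fintype F] (k : ℕ) (hk : 1 ≤ k) (e : Fin n ≃ (Fin k → Fin 2)) (P : GL (Fin n) F) :
    (∃ f : (Fin n → F) → (Fin n → F) → F, IsSymplecticForm f ∧ tensorWreathSubgroup 2 k e P ≤ similarityGroup f) ∨
    (Odd (Fintype.card F) ∧ ∃ Q : (Fin n → F) → F, IsNondegenerateQuadraticForm Q ∧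
      tensorWreathSubgroup 2 k e P ≤ quadSimilarityGroup Q) := by
  classical
  set σ : F →+* F := RingHom.id F with hσ
  set f : (Fin n → F) → (Fin n → F) → F := gform σ (GT e P) with hf
  have hbil : IsBilinearForm f :=
    ⟨gform_add_left σ _, gform_smul_left σ _, gform_add_right σ _, fun c v x => gform_smul_right σ _ c v x⟩
  have hnd : IsNondegenerateForm f := gform_nondeg σ (isUnit_det_GT e P)
  have hswap : ∀ v w, f v w = ((-1 : F) ^ k) * f w v := by
    intro v w
    rw [hf, gform_swap, GT_transpose, Matrix.smul_mulVec, dotProduct_smul, smul_eq_mul]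
    rfl
  have hsim : ∀ g ∈ tensorWreathSubgroup 2 k e P, ∃ c : Fˣ, ∀ u v,
      f ((g : Matrix (Fin n) (Fin n) F) *ᵥ u) ((g : Matrix (Fin n) (Fin n) F) *ᵥ v) = (c : F) * f u v :=
    fun g hg => GT_similarity e P hg
  by_cases hcase : Odd (Fintype.card F) ∧ Even k
  · -- symmetric: quadratic form
    obtain ⟨hodd, hkev⟩ := hcase
    right
    refine ⟨hodd, ?_⟩
    have h2 : (2 : F) ≠ 0 := by
      intro h20
      have hchar : ringChar F = 2 :=
        CharP.ringChar_of_prime_eq_zero Nat.prime_two (by exact_mod_cast h20)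
      have := FiniteField.even_card_of_char_two hchar
      rw [Nat.odd_iff] at hodd
      omega
    have hsym : ∀ v w, f v w = f w v := by
      intro v w; rw [hswap v w, hkev.neg_one_pow, one_mul]
    set Q : (Fin n → F) → F := fun v => 2⁻¹ * f v v with hQ
    have hpolar : QuadraticMap.polar Q = f := by
      funext u v
      simp only [QuadraticMap.polar, hQ]
      rw [hbil.add_left, hbil.add_right, hbil.add_right, hsym v u]
      field_simp
      ring
    refine ⟨Q, ⟨?_, ?_, ?_⟩, ?_⟩
    · intro a v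
      simp only [hQ]
      rw [hbil.smul_left, hbil.smul_right]
      ring
    · rw [hpolar]; exact hbil
    · rw [hpolar]; exact hnd
    · intro g hg
      obtain ⟨c, hc⟩ := hsim g hg
      refine ⟨c, fun v => ?_⟩
      simp only [hQ]
      rw [hc]
      ring
  · -- alternating: symplectic form
    left
    have hsign : ((-1 : F) ^ k) = -1 := by
      rcases Nat.even_or_odd k with hkev | hkodd
      · have hnodd : ¬ Odd (Fintype.card F) := fun h => hcase ⟨h, hkev⟩
        have hev : Fintype.card F % 2 = 0 := by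
          rw [Nat.not_odd_iff_even] at hnodd
          exact Nat.even_iff.1 hnodd
        have hchar : ringChar F = 2 := FiniteField.even_card_iff_char_two.2 hev
        haveI : CharP F 2 := ringChar.of_eq hchar
        rw [hkev.neg_one_pow]
        exact (CharTwo.neg_eq (1 : F)).symm
      · exact hkodd.neg_one_pow
    have hskew : ∀ v w, f v w = - f w v := by
      intro v w; rw [hswap v w, hsign, neg_one_mul]
    refine ⟨f, ⟨hbil, hskew, fun v => GT_alt hk hsign e P v, hnd⟩, ?_⟩
    intro g hg
    exact hsim g hg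

end Cfsg.Agent.Helper6.AschGen
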