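import Mathlib
import Cfsg.Prelude.Def_GeometricClasses
import Cfsg.Agent.Lead.AschBase
import Cfsg.Agent.Lead.AschOBase
import Cfsg.Agent.Helper1.AschSp12Pieces
import Cfsg.Agent.Helper2.AschSpTr
import Cfsg.Agent.Helper6.AschGSpD
import Cfsg.Agent.Helper6.AschGSpSlot
import Cfsg.Agent.Helper7.AschNotSpB
import Cfsg.Agent.Helper7.AschNotSpN

/-!
# ASCH-PP-Sp (helper6): the final dispatch for `Sp_8(q)` (S5823) from three slots

`final8 hN7 hF1 hF2 H hH` is S5823 verbatim, from `asch_gsp_d` (the general theorem with its dimension data), helper7's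
NOT-lemmas `notSp` and `not_le_normalizer_class6_Sp`, and the three slots
* `SlotN7` (`Sp_8(q)` is not contained in a tensor-wreath subgroup `2 ≀ 3`),
* `SlotF1` (`Sp_2(q) ⊗ O_4^+(q)`, `q` odd, lies in the stabiliser of a tensor-cube structure),
* `SlotF2` (over the field with three elements a tensor-cube stabiliser normalises a group `2_-^{1+6}`).
-/

set_option autoImplicit false
set_option linter.unusedVariables false

namespace Cfsg.Agent.Helper6.AschPPSp8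

open Cfsg Cfsg.Geo Cfsg.Agent.Lead.Asch Cfsg.Agent.Helper1.AschSp Cfsg.Agent.Helper6.AschGSp
open scoped MatrixGroups Matrix Kronecker

/-- slot N7: `Sp_8(F)` is not contained in the stabiliser of a tensor-cube decomposition -/
def SlotN7 (F : Type*) [Field F] [Fintype F] : Prop :=
  ∀ (e : (Fin 4 ⊕ Fin 4) ≃ (Fin 3 → Fin 2)) (P : GL (Fin 4 ⊕ Fin 4) F),
    ¬ spGL 4 F ≤ tensorWreathSubgroup 2 3 e P

/-- slot F1: `Sp_2 ⊗ O_4^+` lies in the stabiliser of a tensor-cube structure (`q` odd) -/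
def SlotF1 (F : Type*) [Field F] [Fintype F] : Prop :=
  Odd (Fintype.card F) → ∀ (e : (Fin 4 ⊕ Fin 4) ≃ Fin 2 × Fin 4) (P : GL (Fin 4 ⊕ Fin 4) F)
    (f₁ : (Fin 2 → F) → (Fin 2 → F) → F) (f₂ : (Fin 4 → F) → (Fin 4 → F) → F),
    IsSymplecticForm f₁ → IsSymmetricForm f₂ → IsPlusTypeOn (fun v : Fin 4 → F => f₂ v v) ⊤ →
    IsTensorFormStructure id (sympForm 4 F) f₁ f₂ e P →
    ∃ (e' : (Fin 4 ⊕ Fin 4) ≃ (Fin 3 → Fin 2)) (P' : GL (Fin 4 ⊕ Fin 4) F) (g : (Fin 2 → F) → (Fin 2 → F) → F),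
      IsSymplecticForm g ∧ IsTensorPowerFormStructure id (sympForm 4 F) g e' P' ∧
      ∀ H : Subgroup (GL (Fin 4 ⊕ Fin 4) F), H ≤ spGL 4 F → H ≤ tensorProductSubgroup 2 4 e P →
        H ≤ tensorWreathSubgroup 2 3 e' P'

/-- slot F2: over the field with three elements the stabiliser of a tensor-cube structure normalises a group
`2_-^{1+6}` with the class-6 data -/
def SlotF2 (F : Type*) [Field F] [Fintype F] : Prop :=
  Fintype.card F = 3 → ∀ (e : (Fin 4 ⊕ Fin 4) ≃ (Fin 3 → Fin 2)) (P : GL (Fin 4 ⊕ Fin 4) F)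
    (g : (Fin 2 → F) → (Fin 2 → F) → F), IsSymplecticForm g →
    IsTensorPowerFormStructure id (sympForm 4 F) g e P →
    ∃ R : Subgroup (GL (Fin 4 ⊕ Fin 4) F), IsSymplecticTypeGroup 2 R ∧
      ActsAbsolutelyIrreducibly (matrixSet R) ∧ FixesForm (matrixSet R) (sympForm 4 F) ∧ Nat.card R = 128 ∧
      Nat.card (Subgroup.center R) = 2 ∧ IsOfMinusType 3 R ∧
      tensorWreathSubgroup 2 3 e P ≤ subgroupNormalizer R


/-- a group fixing a form lies in its similarity group -/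
theorem le_similarityGroup_of_fixes {ι : Type} [Fintype ι] [DecidableEq ι] {F : Type*} [Field F]
    {R : Subgroup (GL ι F)} {f : (ι → F) → (ι → F) → F} (h : FixesForm (matrixSet R) f) :
    R ≤ similarityGroup f := by
  intro g hg
  refine ⟨1, fun u v => ?_⟩
  rw [Units.val_one, one_mul]
  exact h _ ⟨g, hg, rfl⟩ u v

/-- the conclusion of S5823 -/
def Sp8Final {F : Type*} [Field F] [Fintype F] (H : Subgroup (Matrix.GeneralLinearGroup (Fin 4 ⊕ Fin 4) F)) : Prop :=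
    (∃ W : Submodule F (Fin 4 ⊕ Fin 4 → F), W ≠ ⊥ ∧ Cfsg.Geo.IsTotallySingularFor (Cfsg.sympForm 4 F) W ∧ H = Cfsg.Geo.subspaceStabilizer W ⊓ Cfsg.spGL 4 F) ∨
    (∃ W : Submodule F (Fin 4 ⊕ Fin 4 → F), W ≠ ⊥ ∧ Cfsg.Geo.IsNondegenerateOn (Cfsg.sympForm 4 F) W ∧ Module.finrank F W < 4 ∧ H = Cfsg.Geo.subspaceStabilizer W ⊓ Cfsg.spGL 4 F) ∨
    (3 ≤ Fintype.card F ∧ ∃ D : Fin 4 → Submodule F (Fin 4 ⊕ Fin 4 → F), Cfsg.Geo.IsNondegenerateMDecomposition (Cfsg.sympForm 4 F) 2 D ∧ H = Cfsg.Geo.decompositionStabilizer D ⊓ Cfsg.spGL 4 F) ∨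
    (∃ D : Fin 2 → Submodule F (Fin 4 ⊕ Fin 4 → F), Cfsg.Geo.IsNondegenerateMDecomposition (Cfsg.sympForm 4 F) 4 D ∧ H = Cfsg.Geo.decompositionStabilizer D ⊓ Cfsg.spGL 4 F) ∨
    (Odd (Fintype.card F) ∧ ∃ D : Fin 2 → Submodule F (Fin 4 ⊕ Fin 4 → F), Cfsg.Geo.IsMDecomposition 4 D ∧ (∀ i, Cfsg.Geo.IsTotallySingularFor (Cfsg.sympForm 4 F) (D i)) ∧ H = Cfsg.Geo.decompositionStabilizer D ⊓ Cfsg.spGL 4 F) ∨
    (∃ K : Subalgebra F (Matrix (Fin 4 ⊕ Fin 4) (Fin 4 ⊕ Fin 4) F), Cfsg.Geo.IsFieldSubalgebra 2 K ∧ Cfsg.Geo.IsSelfAdjointFor (Cfsg.sympForm 4 F) K ∧ (∀ k ∈ K, ∀ v : (Fin 4 ⊕ Fin 4 → F), (Cfsg.sympForm 4 F) (Matrix.mulVec k v) v = 0) ∧ H = Cfsg.Geo.subalgebraNormalizer K ⊓ Cfsg.spGL 4 F) ∨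
    (Odd (Fintype.card F) ∧ ∃ K : Subalgebra F (Matrix (Fin 4 ⊕ Fin 4) (Fin 4 ⊕ Fin 4) F), Cfsg.Geo.IsFieldSubalgebra 2 K ∧ Cfsg.Geo.IsAdjointClosedFor (Cfsg.sympForm 4 F) K ∧ ¬ Cfsg.Geo.IsSelfAdjointFor (Cfsg.sympForm 4 F) K ∧ H = Cfsg.Geo.subalgebraNormalizer K ⊓ Cfsg.spGL 4 F) ∨
    (Odd (Fintype.card F) ∧ ∃ (e : (Fin 4 ⊕ Fin 4) ≃ Fin 2 × Fin 4) (P : Matrix.GeneralLinearGroup (Fin 4 ⊕ Fin 4) F) (f₁ : (Fin 2 → F) → (Fin 2 → F) → F) (f₂ : (Fin 4 → F) → (Fin 4 → F) → F), Cfsg.Geo.IsSymplecticForm f₁ ∧ Cfsg.Geo.IsSymmetricForm f₂ ∧ ¬ Cfsg.Geo.IsPlusTypeOn (fun v : Fin 4 → F => f₂ v v) ⊤ ∧ Cfsg.Geo.IsTensorFormStructure id (Cfsg.sympForm 4 F) f₁ f₂ e P ∧ H = Cfsg.Geo.tensorProductSubgroup 2 4 e P ⊓ Cfsg.spGL 4 F) ∨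
    (∃ (F₀ : Subfield F) (r : ℕ) (P : Matrix.GeneralLinearGroup (Fin 4 ⊕ Fin 4) F) (ζ : F), r.Prime ∧ Fintype.card F = Nat.card F₀ ^ r ∧ ζ ≠ 0 ∧ Cfsg.Geo.IsFormRationalStructure (Cfsg.sympForm 4 F) F₀ ζ P ∧ H = Cfsg.Geo.subfieldSubgroup F₀ P ⊓ Cfsg.spGL 4 F) ∨
    (∃ (p : ℕ) (R : Subgroup (Matrix.GeneralLinearGroup (Fin 4 ⊕ Fin 4) F)), p.Prime ∧ Odd p ∧ Fintype.card F = p ∧ Cfsg.Geo.IsSymplecticTypeGroup 2 R ∧ Cfsg.Geo.ActsAbsolutelyIrreducibly (Cfsg.Geo.matrixSet R) ∧ R ≤ Cfsg.Geo.similarityGroup (Cfsg.sympForm 4 F) ∧ Nat.card R = 128 ∧ Nat.card (Subgroup.center R) = 2 ∧ Cfsg.Geo.IsOfMinusType 3 R ∧ H = Cfsg.Geo.subgroupNormalizer R ⊓ Cfsg.spGL 4 F) ∨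
    (Odd (Fintype.card F) ∧ 5 ≤ Fintype.card F ∧ ∃ (e : (Fin 4 ⊕ Fin 4) ≃ (Fin 3 → Fin 2)) (P : Matrix.GeneralLinearGroup (Fin 4 ⊕ Fin 4) F) (f₁ : (Fin 2 → F) → (Fin 2 → F) → F), Cfsg.Geo.IsSymplecticForm f₁ ∧ Cfsg.Geo.IsTensorPowerFormStructure id (Cfsg.sympForm 4 F) f₁ e P ∧ H = Cfsg.Geo.tensorWreathSubgroup 2 3 e P ⊓ Cfsg.spGL 4 F) ∨
    (¬ Odd (Fintype.card F) ∧ ∃ Q : (Fin 4 ⊕ Fin 4 → F) → F, Cfsg.Geo.IsNondegenerateQuadraticForm Q ∧ (∀ u v : (Fin 4 ⊕ Fin 4 → F), QuadraticMap.polar Q u v = (Cfsg.sympForm 4 F) u v) ∧ H = Cfsg.Geo.quadSimilarityGroup Q ⊓ Cfsg.spGL 4 F) ∨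
    Cfsg.Geo.InSymplecticResidualClass H

/-- S5823 (`Sp_8`) from the slots -/
theorem final8 {F : Type*} [Field F] [Fintype F] (hN7 : SlotN7 F) (hF1 : SlotF1 F) (hF2 : SlotF2 F)
    (H : Subgroup (Matrix.GeneralLinearGroup (Fin 4 ⊕ Fin 4) F)) (hH : Cfsg.Geo.IsMaximalIn (Cfsg.spGL 4 F) H) :
    Sp8Final H := by
  classical
  have hnot := Cfsg.Agent.Helper7.AschSp.notSp (m := 4) (F := F) (by norm_num)
  have hcard : Fintype.card (Fin 4 ⊕ Fin 4) = 2 * 4 := by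
    simp only [Fintype.card_sum, Fintype.card_fin]
  let e : (Fin 4 ⊕ Fin 4) ≃ Fin (2 * 4) := Fintype.equivFinOfCardEq hcard
  have htr := Cfsg.Agent.Helper2.AschSp.spTransport (F := F) 4 (2 * 4)
  have hHle : H ≤ spGL 4 F := hH.1.le
  have hmain := asch_gsp_d (sp12Pieces (n := 2 * 4) (F := F) (by norm_num))
    (spPerfectCase (n := 2 * 4) (F := F) (by norm_num)) rfl (by norm_num : 2 ≤ 4)
    (reF e (sympForm 4 F)) (htr.symplectic e)
    (H.map (glReindex e : GL (Fin 4 ⊕ Fin 4) F ≃* GL (Fin (2 * 4)) F).toMonoidHom) (htr.fixes e H hHle)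
  have hconcl := gspConclD_of_map 4 e (sympForm 4 F) H hmain
  have hfin : Module.finrank F (Fin 4 ⊕ Fin 4 → F) = 8 := by
    rw [Module.finrank_fintype_fun_eq_card, hcard]
  have hne : ∃ u v : Fin 4 ⊕ Fin 4 → F, sympForm 4 F u v ≠ 0 := by
    have hS := htr.symplectic e
    have hv : (Pi.single (⟨0, by omega⟩ : Fin (2 * 4)) (1 : F) : Fin (2 * 4) → F) ≠ 0 := by
      intro h
      have := congrFun h ⟨0, by omega⟩
      simp at this
    obtain ⟨⟨x, hx⟩, -⟩ := hS.nondegenerate _ hv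
    exact ⟨_, _, hx⟩
  have hq2 : 2 ≤ Fintype.card F := Fintype.one_lt_card
  have key : ∀ X : Subgroup (GL (Fin 4 ⊕ Fin 4) F), H ≤ X → ¬ spGL 4 F ≤ X → H = X ⊓ spGL 4 F :=
    fun X hle hX => Cfsg.Agent.Lead.AschO.eq_inf_of_le' hH hle hX
  -- class 6 from a tensor-cube structure over the field with three elements
  have cube : ∀ (e' : (Fin 4 ⊕ Fin 4) ≃ (Fin 3 → Fin 2)) (P' : GL (Fin 4 ⊕ Fin 4) F)
      (g : (Fin 2 → F) → (Fin 2 → F) → F), Odd (Fintype.card F) → IsSymplecticForm g →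
      IsTensorPowerFormStructure id (sympForm 4 F) g e' P' → H ≤ tensorWreathSubgroup 2 3 e' P' →
      Sp8Final H := by
    intro e' P' g ho hg hT' hle'
    unfold Sp8Final
    by_cases h5 : 5 ≤ Fintype.card F
    · exact Or.inr (Or.inr (Or.inr (Or.inr (Or.inr (Or.inr (Or.inr (Or.inr (Or.inr (Or.inr (Or.inl ⟨ho, h5, e', P', g, hg, hT', key _ hle' (hN7 e' P')⟩))))))))))
    · have hq3 : Fintype.card F = 3 := by
        obtain ⟨a, ha⟩ := ho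
        omega
      obtain ⟨R, hst, habs, hfixR, hcR, hcen, hminus, hnorm⟩ := hF2 hq3 e' P' g hg hT'
      exact Or.inr (Or.inr (Or.inr (Or.inr (Or.inr (Or.inr (Or.inr (Or.inr (Or.inr (Or.inl ⟨3, R, Nat.prime_three, by decide, hq3, hst, habs, le_similarityGroup_of_fixes hfixR, hcR, hcen,
        hminus, key _ (hle'.trans hnorm)
          (Cfsg.Agent.Helper7.AschSp.not_le_normalizer_class6_Sp (by norm_num) (by norm_num) R hst habs hfixR)⟩)))))))))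
  unfold Sp8Final
  rcases hconcl with ⟨W, h0, hts, hle⟩ | ⟨W, h0, hnd, hdim, hle⟩ | ⟨t, k, D, hD, htk, hev, hq, hle⟩ |
    ⟨D, ho, hD, hts, hle⟩ | ⟨F₀, r, P, ζ, hr, hcd, hζ, hrat, hle⟩ |
    ⟨R, p, k, hst, habs, hsim, hfixR, hp, hpo, hqp, hcR, hcen, hminus, hdim, hle⟩ | ⟨Q, ho, hQ, hpol, hle⟩ |
    ⟨r, K, hr, hrn, hK, hsa, halt, hle⟩ | ⟨K, ho, hK, hadj, hnsa, hle⟩ |
    ⟨n₁, n₂, e', P, f₁, f₂, ho, hn₁, hnn, hn₂, h₁, h₂, hT, hle⟩ |
    ⟨k, t, e', P, f₁, ho, hto, ht3, hq3, h₁, hT, hle⟩ | hres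
  · -- totally singular subspace
    refine Or.inl ⟨W, h0, hts, key _ hle (hnot.subspace W h0 ?_)⟩
    rintro rfl
    obtain ⟨u, v, huv⟩ := hne
    exact huv (hts u Submodule.mem_top v Submodule.mem_top)
  · -- non-degenerate subspace
    refine Or.inr (Or.inl ⟨W, h0, hnd, hdim, key _ hle (hnot.subspace W h0 ?_)⟩)
    rintro rfl
    rw [finrank_top, hfin] at hdim
    omega
  · -- non-degenerate decompositions
    have ht2 := hD.decomp.two_le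
    obtain ⟨a, ha⟩ := hev
    have hta : t * a = 4 := by
      subst ha
      have : t * (a + a) = 2 * (t * a) := by ring
      omega
    have htd : t ∣ 4 := ⟨a, hta.symm⟩
    have ht4 : t ≤ 4 := Nat.le_of_dvd (by norm_num) htd
    have hcases : (t = 4 ∧ k = 2) ∨ (t = 2 ∧ k = 4) := by
      interval_cases t
      · right; exact ⟨rfl, by omega⟩
      · omega
      · left; exact ⟨rfl, by omega⟩
    rcases hcases with ⟨rfl, rfl⟩ | ⟨rfl, rfl⟩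
    · have hq3 : 3 ≤ Fintype.card F := by
        by_contra hc
        exact hq ⟨by omega, rfl⟩
      exact Or.inr (Or.inr (Or.inl ⟨hq3, D, hD, key _ hle (hnot.decomp 2 D hD.decomp)⟩))
    · exact Or.inr (Or.inr (Or.inr (Or.inl ⟨D, hD, key _ hle (hnot.decomp 4 D hD.decomp)⟩)))
  · -- totally singular pair
    exact Or.inr (Or.inr (Or.inr (Or.inr (Or.inl ⟨ho, D, hD, hts, key _ hle (hnot.decomp 4 D hD)⟩))))
  · -- subfield
    exact Or.inr (Or.inr (Or.inr (Or.inr (Or.inr (Or.inr (Or.inr (Or.inr (Or.inl ⟨F₀, r, P, ζ, hr, hcd, hζ, hrat,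
      key _ hle (hnot.subfield F₀ (subfield_ne_top_of_card F₀ r hr hcd) P)⟩))))))))
  · -- class 6
    have hk3 : k = 3 := by
      have h1 : (2 : ℕ) ^ k = 2 ^ 3 := by rw [← hdim]; norm_num
      exact Nat.pow_right_injective (le_refl 2) h1
    subst hk3
    exact Or.inr (Or.inr (Or.inr (Or.inr (Or.inr (Or.inr (Or.inr (Or.inr (Or.inr (Or.inl ⟨p, R, hp, hpo, hqp, hst, habs, hsim, by rw [hcR]; norm_num, hcen, hminus,
      key _ hle (Cfsg.Agent.Helper7.AschSp.not_le_normalizer_class6_Sp (by norm_num) (by norm_num) R hst habs hfixR)⟩)))))))))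
  · -- quadratic form, `q` even
    exact Or.inr (Or.inr (Or.inr (Or.inr (Or.inr (Or.inr (Or.inr (Or.inr (Or.inr (Or.inr (Or.inr (Or.inl ⟨ho, Q, hQ, hpol, key _ hle (hnot.quad Q hQ hpol)⟩)))))))))))
  · -- self-adjoint field
    have hr2 : r = 2 := by
      have h8 : (2 * 4 : ℕ) = 2 ^ 3 := by norm_num
      rw [h8] at hrn
      exact (Nat.prime_dvd_prime_iff_eq hr Nat.prime_two).1 (hr.dvd_of_dvd_pow hrn)
    subst hr2
    exact Or.inr (Or.inr (Or.inr (Or.inr (Or.inr (Or.inl ⟨K, hK, hsa, halt, key _ hle (hnot.field 2 K (le_refl 2) hK)⟩)))))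
  · -- adjoint-closed field of degree two, not self-adjoint
    exact Or.inr (Or.inr (Or.inr (Or.inr (Or.inr (Or.inr (Or.inl ⟨ho, K, hK, hadj, hnsa, key _ hle (hnot.field 2 K (le_refl 2) hK)⟩))))))
  · -- tensor product
    have hn1 : n₁ = 2 := by
      by_contra hc
      have h3 : 3 ≤ n₁ := by omega
      have : 3 * 3 ≤ n₁ * n₂ := Nat.mul_le_mul h3 hn₂
      omega
    subst hn1
    have hn2 : n₂ = 4 := by omega
    subst hn2
    by_cases hplus : IsPlusTypeOn (fun v : Fin 4 → F => f₂ v v) ⊤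
    · obtain ⟨e'', P', g, hg, hT', hall⟩ := hF1 ho e' P f₁ f₂ h₁ h₂ hplus hT
      exact cube e'' P' g ho hg hT' (hall H hHle hle)
    · exact Or.inr (Or.inr (Or.inr (Or.inr (Or.inr (Or.inr (Or.inr (Or.inl ⟨ho, e', P, f₁, f₂, h₁, h₂, hplus, hT,
        key _ hle (hnot.tensor 2 4 (le_refl 2) (by norm_num) e' P)⟩)))))))
  · -- tensor power
    have hc : 8 = k ^ t := by
      have := Fintype.card_congr e'
      simpa using this
    have hk2 : k = 2 := by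
      have hk0 : k ≠ 0 := by
        rintro rfl
        rw [zero_pow (by omega)] at hc
        omega
      have hk1 : k ≠ 1 := by
        rintro rfl
        rw [one_pow] at hc
        omega
      by_contra hk
      have h3 : 3 ≤ k := by omega
      have h27 : 3 ^ 3 ≤ k ^ t :=
        (Nat.pow_le_pow_left h3 3).trans (Nat.pow_le_pow_right (by omega) ht3)
      omega
    subst hk2
    have ht : t = 3 := by
      have h1 : (2 : ℕ) ^ t = 2 ^ 3 := by rw [← hc]; norm_num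
      exact Nat.pow_right_injective (le_refl 2) h1
    subst ht
    have h5 : 5 ≤ Fintype.card F := by
      obtain ⟨a, ha⟩ := ho
      by_contra hc5
      exact hq3 ⟨by omega, rfl⟩
    exact Or.inr (Or.inr (Or.inr (Or.inr (Or.inr (Or.inr (Or.inr (Or.inr (Or.inr (Or.inr (Or.inl ⟨ho, h5, e', P, f₁, h₁, hT, key _ hle (hN7 e' P)⟩))))))))))
  · exact Or.inr (Or.inr (Or.inr (Or.inr (Or.inr (Or.inr (Or.inr (Or.inr (Or.inr (Or.inr (Or.inr (Or.inr hres)))))))))))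

end Cfsg.Agent.Helper6.AschPPSp8
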