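import Mathlib
import Cfsg.Agent.Helper1.GlaubermanNPC
import Cfsg.Agent.Helper3.HHAbA
import Cfsg.Agent.Lead.FusionSat3

set_option autoImplicit false

/-!
Axiomatic Glauberman–Thompson, part A: the group-theoretic hypothesis and its restriction to
subgroups containing the Sylow subgroup.
-/

namespace Cfsg.Agent.Helper6.AxGT

open Cfsg Cfsg.Agent.Helper1 Cfsg.Agent.Helper1.ThompsonRed
open scoped commutatorElement

universe u

variable {S₀ : Type u} [Group S₀]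

/-- `I(Q)`: the intersection of the members of the family contained in `Q`. -/
def famInf (𝒜 : Set (Subgroup S₀)) (Q : Subgroup S₀) : Subgroup S₀ :=
  ⨅ A ∈ {A : Subgroup S₀ | A ∈ 𝒜 ∧ A ≤ Q}, A

theorem mem_famInf {𝒜 : Set (Subgroup S₀)} {Q : Subgroup S₀} {x : S₀} :
    x ∈ famInf 𝒜 Q ↔ ∀ A ∈ 𝒜, A ≤ Q → x ∈ A := by
  unfold famInf
  simp only [Subgroup.mem_iInf, Set.mem_ofPred_eq, and_imp]

theorem famInf_le_of_mem {𝒜 : Set (Subgroup S₀)} {Q A : Subgroup S₀} (hA : A ∈ 𝒜) (hAQ : A ≤ Q) :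
    famInf 𝒜 Q ≤ A :=
  fun _ hx => mem_famInf.1 hx A hA hAQ

theorem famInf_anti {𝒜 : Set (Subgroup S₀)} {Q Q' : Subgroup S₀} (h : Q ≤ Q') :
    famInf 𝒜 Q' ≤ famInf 𝒜 Q := by
  intro x hx
  rw [mem_famInf] at hx ⊢
  exact fun A hA hAQ => hx A hA (hAQ.trans h)

theorem mem_famInf_top {𝒜 : Set (Subgroup S₀)} {x : S₀} :
    x ∈ famInf 𝒜 ⊤ ↔ ∀ A ∈ 𝒜, x ∈ A := by
  rw [mem_famInf]
  exact ⟨fun h A hA => h A hA le_top, fun h A hA _ => h A hA⟩

/-- The group-theoretic hypothesis. -/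
structure GHyp (p : ℕ) (𝒜 : Set (Subgroup S₀)) (G : Type u) [Group G] (ι : S₀ →* G) : Prop where
  inj : Function.Injective ι
  syl : ∃ P : Sylow p G, (P : Subgroup G) = ι.range
  inv : ∀ Q : Subgroup S₀, (∃ A ∈ 𝒜, A ≤ Q) → ∀ g : G,
    g ∈ Subgroup.normalizer ((Q.map ι : Subgroup G) : Set G) →
      ∀ x ∈ famInf 𝒜 Q, g * ι x * g⁻¹ ∈ (famInf 𝒜 Q).map ι
  np : HasNormalPComplement p
    ↥(Subgroup.normalizer (((famInf 𝒜 ⊤).map ι : Subgroup G) : Set G))
  cent : Subgroup.centralizer ((pCore p G : Subgroup G) : Set G) ≤ pCore p G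

variable {p : ℕ} [hp : Fact p.Prime] {𝒜 : Set (Subgroup S₀)} {G : Type u} [Group G]

theorem GHyp.sub [Finite S₀] [Finite G] {ι : S₀ →* G} (h : GHyp p 𝒜 G ι) (H : Subgroup G)
    (hH : ι.range ≤ H) :
    GHyp p 𝒜 ↥H (ι.codRestrict H (fun s => hH ⟨s, rfl⟩)) := by
  set ιH : S₀ →* ↥H := ι.codRestrict H (fun s => hH ⟨s, rfl⟩) with hιH
  have hval : ∀ s : S₀, ((ιH s : ↥H) : G) = ι s := fun _ => rfl
  obtain ⟨P, hP⟩ := h.syl
  have hPH : (P : Subgroup G) ≤ H := hP ▸ hH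
  refine ⟨?_, ?_, ?_, ?_, ?_⟩
  · intro a b hab
    exact h.inj (congrArg Subtype.val hab)
  · refine ⟨P.subtype hPH, ?_⟩
    rw [Sylow.coe_subtype]
    ext x
    rw [Subgroup.mem_subgroupOf, hP]
    constructor
    · rintro ⟨s, hs⟩
      exact ⟨s, Subtype.ext hs⟩
    · rintro ⟨s, hs⟩
      exact ⟨s, by rw [← hs]; rfl⟩
  · intro Q hQ g hg x hx
    have hg' : (g : G) ∈ Subgroup.normalizer ((Q.map ι : Subgroup G) : Set G) := by
      haveI : Finite ↥(Q.map ι) := inferInstance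
      apply Cfsg.Agent.Lead.mem_normalizer_of_conj_mem_of_finite
      rintro _ ⟨q, hq, rfl⟩
      have h1 : ιH q ∈ Q.map ιH := ⟨q, hq, rfl⟩
      have h2 := (Subgroup.mem_normalizer_iff.mp hg _).mp h1
      obtain ⟨q', hq', hq'e⟩ := h2
      refine ⟨q', hq', ?_⟩
      exact congrArg Subtype.val hq'e
    obtain ⟨y, hy, hye⟩ := h.inv Q hQ g hg' x hx
    refine ⟨y, hy, ?_⟩
    apply Subtype.ext
    exact hye
  · set NH := Subgroup.normalizer (((famInf 𝒜 ⊤).map ιH : Subgroup ↥H) : Set ↥H) with hNH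
    have hle : NH.map H.subtype ≤
        Subgroup.normalizer (((famInf 𝒜 ⊤).map ι : Subgroup G) : Set G) := by
      rintro _ ⟨g, hg, rfl⟩
      haveI : Finite ↥((famInf 𝒜 ⊤).map ι) := inferInstance
      apply Cfsg.Agent.Lead.mem_normalizer_of_conj_mem_of_finite
      rintro _ ⟨q, hq, rfl⟩
      have h1 : ιH q ∈ (famInf 𝒜 ⊤).map ιH := ⟨q, hq, rfl⟩
      have h2 := (Subgroup.mem_normalizer_iff.mp hg _).mp h1
      obtain ⟨q', hq', hq'e⟩ := h2
      refine ⟨q', hq', ?_⟩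
      exact congrArg Subtype.val hq'e
    have h1 := hasNormalPComplement_of_le hle h.np
    exact hasNormalPComplement_of_mulEquiv
      (NH.equivMapOfInjective H.subtype H.subtype_injective).symm h1
  · intro x hx
    have h1 : (pCore p G).subgroupOf H ≤ pCore p ↥H := by
      apply le_pCore
      · exact Subgroup.Normal.subgroupOf inferInstance H
      · exact (pCore_isPGroup p).comap_subtype
    apply h1
    rw [Subgroup.mem_subgroupOf]
    apply h.cent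
    rw [Subgroup.mem_centralizer_iff]
    intro y hy
    have hyH : y ∈ H := hPH (pCore_le_sylow P hy)
    have h2 := Subgroup.mem_centralizer_iff.mp hx ⟨y, hyH⟩
      (h1 (by rw [Subgroup.mem_subgroupOf]; exact hy))
    exact congrArg Subtype.val h2

end Cfsg.Agent.Helper6.AxGT
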