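import Mathlib
import Cfsg.Agent.Helper6.AxGTA

set_option autoImplicit false

/-!
Axiomatic Glauberman–Thompson, part B: the structure of a group in which the Sylow subgroup is
maximal and `C_G(O_p(G)) ≤ O_p(G)`.
-/

namespace Cfsg.Agent.Helper6.AxGT

open Cfsg Cfsg.Agent.Helper1 Cfsg.Agent.Helper1.ThompsonRed
open scoped commutatorElement

universe u

variable {p : ℕ} [hp : Fact p.Prime] {G : Type u} [Group G]

theorem pPrimeCore_eq_bot_of_cent [Finite G]
    (hcent : Subgroup.centralizer ((pCore p G : Subgroup G) : Set G) ≤ pCore p G) :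
    pPrimeCore p G = ⊥ := by
  have hdisj : pPrimeCore p G ⊓ pCore p G = ⊥ := by
    apply inf_eq_bot_of_coprime_card
    obtain ⟨a, ha⟩ := IsPGroup.iff_card.1 (pCore_isPGroup (G := G) p)
    rw [ha]
    exact Nat.Coprime.pow_right a (card_pPrimeCore_coprime p)
  have hcomm : ⁅pPrimeCore p G, pCore p G⁆ = ⊥ := by
    rw [eq_bot_iff, ← hdisj]
    exact Subgroup.commutator_le_inf _ _
  rw [Subgroup.commutator_eq_bot_iff_le_centralizer] at hcomm
  rw [eq_bot_iff, ← hdisj]
  exact le_inf le_rfl (hcomm.trans hcent)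

theorem not_npc_of_cent [Finite G] (P : Sylow p G)
    (hcent : Subgroup.centralizer ((pCore p G : Subgroup G) : Set G) ≤ pCore p G)
    (hne : (P : Subgroup G) ≠ ⊤) : ¬ HasNormalPComplement p G := by
  intro h
  obtain ⟨M, hMn, hMcop, k, hk⟩ := hasNormalPComplement_iff_exists.1 h
  have hM : M = ⊥ := by
    rw [eq_bot_iff, ← pPrimeCore_eq_bot_of_cent hcent]
    exact le_pPrimeCore hMn hMcop
  rw [hM, Subgroup.index_bot] at hk
  have hG : IsPGroup p G := IsPGroup.of_card hk
  have hT : IsPGroup p (⊤ : Subgroup G) := hG.to_subgroup _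
  exact hne (P.3 hT le_top).symm

/-- The quotient by `O_p(G)` has a normal `p`-complement when the Sylow subgroup is maximal. -/
theorem npc_quotient_of_maximal [Finite G] (hp2 : p ≠ 2) (P : Sylow p G)
    (hmax : ∀ H : Subgroup G, (P : Subgroup G) ≤ H → H = P ∨ H = ⊤)
    (hne : (P : Subgroup G) ≠ ⊤) : HasNormalPComplement p (G ⧸ pCore p G) := by
  set U := pCore p G with hU
  have hsurj : Function.Surjective (QuotientGroup.mk' U) := QuotientGroup.mk'_surjective U
  have hUP : U ≤ P := pCore_le_sylow P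
  set Pb : Sylow p (G ⧸ U) := P.mapSurjective hsurj with hPb
  have hPbc : (Pb : Subgroup (G ⧸ U)) = (P : Subgroup G).map (QuotientGroup.mk' U) :=
    Sylow.coe_mapSurjective _ _
  by_cases hPU : (P : Subgroup G).map (QuotientGroup.mk' U) = ⊥
  · rw [hasNormalPComplement_iff_exists]
    refine ⟨⊤, inferInstance, ?_, 0, by simp⟩
    have hPleU : (P : Subgroup G) ≤ U := by
      rw [← QuotientGroup.ker_mk' U, ← Subgroup.map_eq_bot_iff]
      exact hPU
    have hPeq : (P : Subgroup G) = U := le_antisymm hPleU hUP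
    rw [Subgroup.card_top, ← Subgroup.index_eq_card]
    have h1 : U.index = (P : Subgroup G).index := by rw [hPeq]
    rw [h1]
    exact ((Nat.Prime.coprime_iff_not_dvd hp.out).2 P.not_dvd_index).symm
  · apply glauberman_npc hp2 (G ⧸ U) Pb
    set Z := centerThompsonAOf (Pb : Subgroup (G ⧸ U)) with hZ
    set N := Subgroup.normalizer (Z : Set (G ⧸ U)) with hN
    have hZof : Z = zjFunctor.of (Pb : Subgroup (G ⧸ U)) := (zjFunctor_of _).symm
    have hPbN : (Pb : Subgroup (G ⧸ U)) ≤ N := by
      rw [hN, hZof]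
      exact Subgroup.le_normalizer.trans (zjFunctor.normalizer_le _)
    have hZP : Z ≤ Pb := by rw [hZof]; exact zjFunctor.of_le _
    have hPb1 : (Pb : Subgroup (G ⧸ U)) ≠ ⊥ := by rw [hPbc]; exact hPU
    have hZ1 : Z ≠ ⊥ := by
      rw [hZof]
      exact of_ne_bot zjFunctor (fun R _ _ hR hnt => zjFunctor_ne_bot R hR hnt) Pb.2 hPb1
    have hPH : (P : Subgroup G) ≤ N.comap (QuotientGroup.mk' U) := by
      intro x hx
      rw [Subgroup.mem_comap]
      apply hPbN
      rw [hPbc]
      exact ⟨x, hx, rfl⟩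
    have hNp : IsPGroup p N := by
      rcases hmax _ hPH with h | h
      · have h1 : N = (P : Subgroup G).map (QuotientGroup.mk' U) := by
          rw [← Subgroup.map_comap_eq_self_of_surjective hsurj N, h]
        rw [h1]
        exact P.2.map _
      · exfalso
        have h1 : N = ⊤ := by
          rw [← Subgroup.map_comap_eq_self_of_surjective hsurj N, h, ← MonoidHom.range_eq_map,
            MonoidHom.range_eq_top.2 hsurj]
        have hZn : Z.Normal := Subgroup.normalizer_eq_top_iff.1 (hN ▸ h1)
        have hZp : IsPGroup p Z := Pb.2.to_le hZP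
        have h2 : Z ≤ pCore p (G ⧸ U) := le_pCore hZn hZp
        rw [Cfsg.Agent.Helper3.HHAb.pCore_quotient_pCore p, le_bot_iff] at h2
        exact hZ1 h2
    exact hasNormalPComplement_of_isPGroup hNp

/-- The structure of the configuration. -/
theorem struct_of_maximal [Finite G] (hp2 : p ≠ 2) (P : Sylow p G)
    (hcent : Subgroup.centralizer ((pCore p G : Subgroup G) : Set G) ≤ pCore p G)
    (hmax : ∀ H : Subgroup G, (P : Subgroup G) ≤ H → H = P ∨ H = ⊤)
    (hne : (P : Subgroup G) ≠ ⊤) : Struct p G (P : Subgroup G) := by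
  set U := pCore p G with hU
  have hsurj : Function.Surjective (QuotientGroup.mk' U) := QuotientGroup.mk'_surjective U
  have hquot := npc_quotient_of_maximal hp2 P hmax hne
  obtain ⟨Mb, hMbn, hMbcop, k, hMbk⟩ := hasNormalPComplement_iff_exists.1 hquot
  set K := Mb.comap (QuotientGroup.mk' U) with hKdef
  have hKn : K.Normal := hMbn.comap _
  have hUK : U ≤ K := by
    intro x hx
    rw [hKdef, Subgroup.mem_comap, QuotientGroup.mk'_apply, (QuotientGroup.eq_one_iff x).2 hx]
    exact Mb.one_mem
  have hKidx : K.index = p ^ k := by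
    rw [hKdef, Subgroup.index_comap_of_surjective Mb hsurj, hMbk]
  have hKrel : (U.relIndex K).Coprime p := by
    have h1 : Nat.card K = Nat.card Mb * Nat.card U := card_comap_mk' U Mb
    have h2 : U.relIndex K * Nat.card U = Nat.card K := relIndex_mul_card_of_le hUK
    have h3 : U.relIndex K = Nat.card Mb := by
      have hpos : 0 < Nat.card U := Nat.card_pos
      rw [h1] at h2
      exact Nat.eq_of_mul_eq_mul_right hpos h2
    rw [h3]; exact hMbcop
  have hKK : ⁅K, K⁆ ≤ U := by
    have hPbmax : ∀ H : Subgroup (G ⧸ U), (P : Subgroup G).map (QuotientGroup.mk' U) ≤ H →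
        H = (P : Subgroup G).map (QuotientGroup.mk' U) ∨ H = ⊤ := by
      intro H hH
      have hPH : (P : Subgroup G) ≤ H.comap (QuotientGroup.mk' U) := by
        intro x hx
        rw [Subgroup.mem_comap]
        exact hH ⟨x, hx, rfl⟩
      rcases hmax _ hPH with h | h
      · left
        rw [← Subgroup.map_comap_eq_self_of_surjective hsurj H, h]
      · right
        rw [← Subgroup.map_comap_eq_self_of_surjective hsurj H, h, ← MonoidHom.range_eq_map,
          MonoidHom.range_eq_top.2 hsurj]
    have h1 := commutator_eq_bot_of_maximal ((P : Subgroup G).map (QuotientGroup.mk' U)) Mb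
      (P.2.map _) hMbcop hPbmax
    have h2 : (⁅K, K⁆).map (QuotientGroup.mk' U) = ⊥ := by
      rw [Subgroup.map_commutator, hKdef, Subgroup.map_comap_eq_self_of_surjective hsurj, h1]
    rw [Subgroup.map_eq_bot_iff, QuotientGroup.ker_mk'] at h2
    exact h2
  exact ⟨pPrimeCore_eq_bot_of_cent hcent, hcent, hmax, not_npc_of_cent P hcent hne,
    K, hKn, hUK, hKK, hKrel, k, hKidx⟩

end Cfsg.Agent.Helper6.AxGT
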