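import Mathlib
import Cfsg.Agent.Helper6.AxGTB

set_option autoImplicit false

/-!
Axiomatic Glauberman–Thompson, part C: quadratic action in the minimal configuration.
-/

namespace Cfsg.Agent.Helper6.AxGT

open Cfsg Cfsg.Agent.Helper1 Cfsg.Agent.Helper1.ThompsonRed
open scoped commutatorElement

universe u

variable {p : ℕ} [hp : Fact p.Prime] {G : Type u} [Group G]

/-- In the minimal configuration, an element of the Sylow subgroup acting quadratically on a normal
`p`-subgroup `B` lies in `O_p(G)`, unless `G = C_G(B) P`. -/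
theorem mem_pCore_of_quadratic [Finite G] (hp2 : p ≠ 2) (P : Sylow p G)
    (hst : Struct p G (P : Subgroup G)) (B : Subgroup G) [hBn : B.Normal] (hB : IsPGroup p B)
    (a : G)
    (hquad : ⁅⁅B, Subgroup.zpowers a⁆, Subgroup.zpowers a⁆ = ⊥) :
    a ∈ pCore p G ∨ Subgroup.centralizer (B : Set G) ⊔ (P : Subgroup G) = ⊤ := by
  have hstab := hst.isPStableOn hp2 B hB a hquad
  set C := Subgroup.centralizer (B : Set G) with hC
  have hsurj : Function.Surjective (QuotientGroup.mk' C) := QuotientGroup.mk'_surjective C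
  set D := (pCore p (G ⧸ C)).comap (QuotientGroup.mk' C) with hD
  have hDn : D.Normal := (inferInstance : (pCore p (G ⧸ C)).Normal).comap _
  have haD : a ∈ D := by
    rw [hD, Subgroup.mem_comap]
    exact hstab
  rcases hst.maximal (D ⊔ P) le_sup_right with h | h
  · left
    have hDP : D ≤ P := by rw [← h]; exact le_sup_left
    exact le_pCore hDn (P.2.to_le hDP) haD
  · right
    set Pb : Sylow p (G ⧸ C) := P.mapSurjective hsurj with hPb
    have hPbc : (Pb : Subgroup (G ⧸ C)) = (P : Subgroup G).map (QuotientGroup.mk' C) :=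
      Sylow.coe_mapSurjective _ _
    have h1 : (D ⊔ P).map (QuotientGroup.mk' C) = ⊤ := by
      rw [h, ← MonoidHom.range_eq_map, MonoidHom.range_eq_top.2 hsurj]
    rw [Subgroup.map_sup, hD, Subgroup.map_comap_eq_self_of_surjective hsurj, ← hPbc] at h1
    have h2 : (Pb : Subgroup (G ⧸ C)) = ⊤ := by
      rw [eq_top_iff, ← h1]
      exact sup_le (pCore_le_sylow Pb) le_rfl
    have h3 : ((P : Subgroup G).map (QuotientGroup.mk' C)).comap (QuotientGroup.mk' C) = ⊤ := by
      rw [← hPbc, h2, Subgroup.comap_top]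
    rw [Subgroup.comap_map_eq, QuotientGroup.ker_mk'] at h3
    rw [sup_comm]
    exact h3

/-- An abelian subgroup acts quadratically on a subgroup normalizing it. -/
theorem quad_of_normalizes (A B : Subgroup G) (hBA : B ≤ Subgroup.normalizer (A : Set G))
    (hAab : ∀ x ∈ A, ∀ y ∈ A, x * y = y * x) (a : G) (ha : a ∈ A) :
    ⁅⁅B, Subgroup.zpowers a⁆, Subgroup.zpowers a⁆ = ⊥ := by
  have hzA : Subgroup.zpowers a ≤ A := (Subgroup.zpowers_le).2 ha
  have h1 : ⁅B, Subgroup.zpowers a⁆ ≤ A := by
    rw [Subgroup.commutator_le]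
    intro b hb z hz
    rw [commutatorElement_def]
    have h2 : b * z * b⁻¹ ∈ A := (Subgroup.mem_normalizer_iff.mp (hBA hb) z).mp (hzA hz)
    exact A.mul_mem h2 (A.inv_mem (hzA hz))
  have h2 : ⁅A, Subgroup.zpowers a⁆ = ⊥ := by
    rw [Subgroup.commutator_eq_bot_iff_le_centralizer]
    intro x hx
    rw [Subgroup.mem_centralizer_iff]
    intro z hz
    exact hAab z (hzA hz) x hx
  rw [eq_bot_iff, ← h2]
  exact Subgroup.commutator_mono h1 le_rfl

end Cfsg.Agent.Helper6.AxGT
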