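import Mathlib
import Cfsg.Agent.Helper6.AxGTC

set_option autoImplicit false

/-!
Axiomatic Glauberman–Thompson, part D: the group-theoretic theorem.
-/

namespace Cfsg.Agent.Helper6.AxGT

open Cfsg Cfsg.Agent.Helper1 Cfsg.Agent.Helper1.ThompsonRed
open scoped commutatorElement

universe u

variable {p : ℕ} [hp : Fact p.Prime] {S₀ : Type u} [Group S₀]

/-- The core of the argument: in the minimal configuration `W = I(S)` is normal. -/
theorem famInf_map_normal [Finite S₀] (hp2 : p ≠ 2) (𝒜 : Set (Subgroup S₀))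
    (hab : ∀ A ∈ 𝒜, ∀ x ∈ A, ∀ y ∈ A, x * y = y * x) (hne𝒜 : 𝒜.Nonempty)
    (hrep : ∀ B : Subgroup S₀, ⁅⁅B, B⁆, B⁆ = ⊥ → (∃ A ∈ 𝒜, ⁅B, B⁆ ≤ A ∧ ¬ B ≤ A) →
      ∃ A ∈ 𝒜, ⁅B, B⁆ ≤ A ∧ ¬ B ≤ A ∧ B ≤ Subgroup.normalizer (A : Set S₀))
    (G : Type u) [Group G] [Finite G] (ι : S₀ →* G) (h : GHyp p 𝒜 G ι)
    (P : Sylow p G) (hP : (P : Subgroup G) = ι.range)
    (hst : Struct p G (P : Subgroup G)) :
    ((famInf 𝒜 ⊤).map ι).Normal := by
  set Q := pCore p G with hQ
  set W₀ := famInf 𝒜 ⊤ with hW₀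
  set W := W₀.map ι with hW
  have hPne : (P : Subgroup G) ≠ ⊤ := by
    intro htop
    apply hst.not_nilp
    apply hasNormalPComplement_of_isPGroup
    have h1 : IsPGroup p (⊤ : Subgroup G) := htop ▸ P.2
    exact h1.of_equiv Subgroup.topEquiv
  have hWP : W ≤ P := by
    rw [hP]
    rintro _ ⟨x, -, rfl⟩
    exact ⟨x, rfl⟩
  obtain ⟨A₁, hA₁⟩ := hne𝒜
  have hPW : (P : Subgroup G) ≤ Subgroup.normalizer (W : Set G) := by
    intro g hg
    haveI : Finite ↥W := inferInstance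
    apply Cfsg.Agent.Lead.mem_normalizer_of_conj_mem_of_finite
    rintro _ ⟨x, hx, rfl⟩
    apply h.inv ⊤ ⟨A₁, hA₁, le_top⟩ g _ x hx
    have h1 : (⊤ : Subgroup S₀).map ι = P := by rw [hP, MonoidHom.range_eq_map]
    rw [h1]
    exact Subgroup.le_normalizer hg
  have hWab : ∀ x ∈ W, ∀ y ∈ W, x * y = y * x := by
    rintro _ ⟨x, hx, rfl⟩ _ ⟨y, hy, rfl⟩
    rw [← map_mul, ← map_mul]
    congr 1
    exact hab A₁ hA₁ x (famInf_le_of_mem hA₁ le_top hx) y (famInf_le_of_mem hA₁ le_top hy)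
  have hQP : Q ≤ P := pCore_le_sylow P
  have hQp : IsPGroup p Q := pCore_isPGroup p
  -- `W ≤ O_p(G)`
  have hWQ : W ≤ Q := by
    intro w hw
    have hquad := quad_of_normalizes W Q (hQP.trans hPW) hWab w hw
    rcases mem_pCore_of_quadratic hp2 P hst Q hQp w hquad with h1 | h1
    · exact h1
    · exfalso
      apply hPne
      rw [eq_top_iff, ← h1]
      exact sup_le (hst.cent_le.trans hQP) le_rfl
  by_contra hWn
  let 𝒮 : Set (Subgroup G) := {B | B.Normal ∧ B ≤ Q ∧ ¬ (W ⊓ B).Normal}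
  have hQ𝒮 : Q ∈ 𝒮 := ⟨inferInstance, le_rfl, by rw [inf_eq_left.2 hWQ]; exact hWn⟩
  obtain ⟨B, hB𝒮, hBmin⟩ := Set.exists_min_image 𝒮 (fun B => Nat.card B) (Set.toFinite _) ⟨Q, hQ𝒮⟩
  obtain ⟨hBn, hBQ, hBW⟩ := hB𝒮
  haveI := hBn
  have hBp : IsPGroup p B := hQp.to_le hBQ
  -- `B` is the normal closure of `W ⊓ B`
  have hBgen : Subgroup.normalClosure ((W ⊓ B : Subgroup G) : Set G) = B := by
    set B₀ := Subgroup.normalClosure ((W ⊓ B : Subgroup G) : Set G) with hB₀
    have hB₀B : B₀ ≤ B := Subgroup.normalClosure_le_normal (fun x hx => (inf_le_right : W ⊓ B ≤ B) hx)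
    have heq : W ⊓ B₀ = W ⊓ B :=
      le_antisymm (inf_le_inf_left _ hB₀B) (le_inf inf_le_left Subgroup.le_normalClosure)
    have hB₀𝒮 : B₀ ∈ 𝒮 := ⟨inferInstance, hB₀B.trans hBQ, by rw [heq]; exact hBW⟩
    exact Subgroup.eq_of_le_of_card_ge hB₀B (hBmin B₀ hB₀𝒮)
  have hclos : ∀ N : Subgroup G, N.Normal → W ⊓ B ≤ N → B ≤ N := by
    intro N hN hle
    rw [← hBgen]
    exact Subgroup.normalClosure_le_normal (fun x hx => hle hx)
  -- the derived subgroup
  have hB1 : B ≠ ⊥ := by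
    intro hb
    apply hBW
    rw [hb, inf_bot_eq]
    infer_instance
  have hDlt : Nat.card ↥(⁅B, B⁆ : Subgroup G) < Nat.card B := by
    haveI : Nontrivial B := (Subgroup.nontrivial_iff_ne_bot B).2 hB1
    haveI : Group.IsSolvable B := by
      haveI := hBp.isNilpotent
      infer_instance
    have h1 := Group.IsSolvable.commutator_lt_top_of_nontrivial B
    have h2 : (commutator B).map B.subtype = ⁅B, B⁆ := by
      rw [commutator_def, Subgroup.map_commutator, ← MonoidHom.range_eq_map,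
        Subgroup.range_subtype]
    rw [← h2, Subgroup.card_map_of_injective B.subtype_injective]
    have := card_lt_card_of_lt h1
    rwa [Subgroup.card_top] at this
  have hDB : (⁅B, B⁆ : Subgroup G) ≤ B := Subgroup.commutator_le_left B B
  set D := W ⊓ ⁅B, B⁆ with hD
  have hDn : D.Normal := by
    by_contra hcon
    have h1 : (⁅B, B⁆ : Subgroup G) ∈ 𝒮 := ⟨inferInstance, hDB.trans hBQ, hcon⟩
    exact absurd (hBmin _ h1) (not_le.2 hDlt)
  haveI := hDn
  have hBP : B ≤ P := hBQ.trans hQP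
  -- `[B, B] ≤ D`
  have hBBD : (⁅B, B⁆ : Subgroup G) ≤ D := by
    set N := (Subgroup.centralizer ((B.map (QuotientGroup.mk' D) : Subgroup (G ⧸ D)) :
      Set (G ⧸ D))).comap (QuotientGroup.mk' D) with hN
    haveI : (B.map (QuotientGroup.mk' D)).Normal :=
      hBn.map _ (QuotientGroup.mk'_surjective D)
    have hNn : N.Normal := (inferInstance : (Subgroup.centralizer
      ((B.map (QuotientGroup.mk' D) : Subgroup (G ⧸ D)) : Set (G ⧸ D))).Normal).comap _
    have hmemN : ∀ x : G, x ∈ N ↔ ∀ b ∈ B, ⁅x, b⁆ ∈ D := by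
      intro x
      rw [hN, Subgroup.mem_comap, Subgroup.mem_centralizer_iff]
      constructor
      · intro hx b hb
        have h1 := hx _ ⟨b, hb, rfl⟩
        rw [← QuotientGroup.eq_one_iff, commutatorElement_def]
        simp only [QuotientGroup.mk'_apply] at h1
        rw [QuotientGroup.mk_mul, QuotientGroup.mk_mul, QuotientGroup.mk_mul, ← h1]
        rw [QuotientGroup.mk_inv, QuotientGroup.mk_inv]
        group
      · rintro hx _ ⟨b, hb, rfl⟩
        have h1 := hx b hb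
        rw [← QuotientGroup.eq_one_iff, commutatorElement_def] at h1
        simp only [QuotientGroup.mk'_apply]
        rw [QuotientGroup.mk_mul, QuotientGroup.mk_mul, QuotientGroup.mk_mul,
          QuotientGroup.mk_inv, QuotientGroup.mk_inv] at h1
        calc (b : G ⧸ D) * (x : G ⧸ D) = ((x : G ⧸ D) * b * (x : G ⧸ D)⁻¹ * (b : G ⧸ D)⁻¹)⁻¹ *
            ((x : G ⧸ D) * b) := by group
          _ = (x : G ⧸ D) * b := by rw [h1, inv_one, one_mul]
    have hWBN : W ⊓ B ≤ N := by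
      intro x hx
      rw [hmemN]
      intro b hb
      refine ⟨?_, Subgroup.commutator_mem_commutator hx.2 hb⟩
      rw [commutatorElement_def]
      have h1 : b * x⁻¹ * b⁻¹ ∈ W :=
        (Subgroup.mem_normalizer_iff.mp (hPW (hBP hb)) _).mp (W.inv_mem hx.1)
      have h2 : x * b * x⁻¹ * b⁻¹ = x * (b * x⁻¹ * b⁻¹) := by group
      rw [h2]
      exact W.mul_mem hx.1 h1
    have hBN := hclos N hNn hWBN
    rw [Subgroup.commutator_le]
    intro x hx b hb
    exact (hmemN x).1 (hBN hx) b hb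
  -- class two
  have hclass : ⁅(⁅B, B⁆ : Subgroup G), B⁆ = ⊥ := by
    have hWBC : W ⊓ B ≤ Subgroup.centralizer (D : Set G) := by
      intro x hx
      rw [Subgroup.mem_centralizer_iff]
      intro d hd
      exact hWab d hd.1 x hx.1
    have hBC := hclos _ inferInstance hWBC
    have h1 : ⁅D, B⁆ = ⊥ := by
      rw [Subgroup.commutator_comm, Subgroup.commutator_eq_bot_iff_le_centralizer]
      exact hBC
    rw [eq_bot_iff, ← h1]
    exact Subgroup.commutator_mono hBBD le_rfl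
  -- transport to `S₀`
  set B₁ := B.comap ι with hB₁
  have hB₁map : B₁.map ι = B := Subgroup.map_comap_eq_self (hP ▸ hBP)
  have hcomm₁ : (⁅B₁, B₁⁆).map ι = ⁅B, B⁆ := by rw [Subgroup.map_commutator, hB₁map]
  have hclass₁ : ⁅(⁅B₁, B₁⁆ : Subgroup S₀), B₁⁆ = ⊥ := by
    apply Subgroup.map_injective h.inj
    rw [Subgroup.map_commutator, hcomm₁, hB₁map, hclass, Subgroup.map_bot]
  have hcommW₀ : (⁅B₁, B₁⁆ : Subgroup S₀) ≤ W₀ := by
    rw [← Subgroup.map_le_map_iff_of_injective h.inj, hcomm₁]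
    exact hBBD.trans inf_le_left
  have hBW₀ : ¬ B₁ ≤ W₀ := by
    intro hle
    apply hBW
    have h1 : B ≤ W := by
      rw [← hB₁map]
      exact Subgroup.map_mono hle
    rw [inf_eq_right.2 h1]
    exact hBn
  have hex : ∃ A ∈ 𝒜, ⁅B₁, B₁⁆ ≤ A ∧ ¬ B₁ ≤ A := by
    rw [SetLike.not_le_iff_exists] at hBW₀
    obtain ⟨x, hxB, hxW⟩ := hBW₀
    rw [hW₀, mem_famInf_top] at hxW
    push Not at hxW
    obtain ⟨A, hA, hxA⟩ := hxW
    exact ⟨A, hA, hcommW₀.trans (famInf_le_of_mem hA le_top), fun hle => hxA (hle hxB)⟩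
  obtain ⟨A, hA, hA1, hA2, hA3⟩ := hrep B₁ hclass₁ hex
  -- `A` acts quadratically on `B`, so lies in `O_p(G)`
  have hAQ : A.map ι ≤ Q := by
    rintro _ ⟨a, ha, rfl⟩
    have hBA : B ≤ Subgroup.normalizer ((A.map ι : Subgroup G) : Set G) := by
      rw [← hB₁map]
      exact (Subgroup.map_mono hA3).trans (Subgroup.le_normalizer_map ι)
    have hAab : ∀ x ∈ A.map ι, ∀ y ∈ A.map ι, x * y = y * x := by
      rintro _ ⟨x, hx, rfl⟩ _ ⟨y, hy, rfl⟩
      rw [← map_mul, ← map_mul, hab A hA x hx y hy]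
    have hquad := quad_of_normalizes (A.map ι) B hBA hAab (ι a) ⟨a, ha, rfl⟩
    rcases mem_pCore_of_quadratic hp2 P hst B hBp (ι a) hquad with h1 | h1
    · exact h1
    · exfalso
      apply hBW
      rw [← Subgroup.normalizer_eq_top_iff, eq_top_iff, ← h1]
      apply sup_le
      · intro c hc
        rw [Subgroup.mem_normalizer_iff]
        intro x
        have hcx : ∀ y ∈ B, c * y * c⁻¹ = y := by
          intro y hy
          have := Subgroup.mem_centralizer_iff.mp hc y hy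
          rw [← this]
          group
        constructor
        · intro hx
          rw [hcx x hx.2]
          exact hx
        · intro hx
          have hxB : x ∈ B := by
            have := hBn.conj_mem _ hx.2 c⁻¹
            simpa [mul_assoc] using this
          rw [hcx x hxB] at hx
          exact hx
      · intro g hg
        rw [Subgroup.mem_normalizer_iff]
        intro x
        have hgB : g ∈ Subgroup.normalizer (B : Set G) := by
          rw [Subgroup.normalizer_eq_top_iff.2 hBn]; exact Subgroup.mem_top g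
        rw [Subgroup.mem_inf, Subgroup.mem_inf, ← Subgroup.mem_normalizer_iff.mp (hPW hg) x,
          ← Subgroup.mem_normalizer_iff.mp hgB x]
  -- invariance for `O_p(G)`
  set Q₁ := Q.comap ι with hQ₁
  have hQ₁map : Q₁.map ι = Q := Subgroup.map_comap_eq_self (hP ▸ hQP)
  have hAQ₁ : A ≤ Q₁ := by
    intro a ha
    rw [hQ₁, Subgroup.mem_comap]
    exact hAQ ⟨a, ha, rfl⟩
  set I₁ := (famInf 𝒜 Q₁).map ι with hI₁
  have hI₁n : I₁.Normal := by
    constructor
    rintro _ ⟨x, hx, rfl⟩ g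
    apply h.inv Q₁ ⟨A, hA, hAQ₁⟩ g _ x hx
    rw [hQ₁map, Subgroup.normalizer_eq_top_iff.2 (inferInstance : Q.Normal)]
    exact Subgroup.mem_top g
  have hWI₁ : W ≤ I₁ := Subgroup.map_mono (famInf_anti le_top)
  have hBI₁ := hclos I₁ hI₁n (inf_le_left.trans hWI₁)
  apply hA2
  intro x hx
  have h1 : ι x ∈ I₁ := hBI₁ hx
  obtain ⟨y, hy, hyx⟩ := h1
  have h2 := h.inj hyx
  rw [← h2]
  exact famInf_le_of_mem hA hAQ₁ hy

end Cfsg.Agent.Helper6.AxGT
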