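import Mathlib
import Cfsg.Agent.Helper6.AxGTD

set_option autoImplicit false

/-!
Axiomatic Glauberman–Thompson, part E: the group-theoretic theorem, by induction on the order.
-/

namespace Cfsg.Agent.Helper6.AxGT

open Cfsg Cfsg.Agent.Helper1 Cfsg.Agent.Helper1.ThompsonRed
open scoped commutatorElement

universe u

variable {p : ℕ} [hp : Fact p.Prime] {S₀ : Type u} [Group S₀]

/-- A group satisfying the hypothesis is a `p`-group. -/
theorem group_main [Finite S₀] (hp2 : p ≠ 2) (𝒜 : Set (Subgroup S₀))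
    (hab : ∀ A ∈ 𝒜, ∀ x ∈ A, ∀ y ∈ A, x * y = y * x) (hne𝒜 : 𝒜.Nonempty)
    (hrep : ∀ B : Subgroup S₀, ⁅⁅B, B⁆, B⁆ = ⊥ → (∃ A ∈ 𝒜, ⁅B, B⁆ ≤ A ∧ ¬ B ≤ A) →
      ∃ A ∈ 𝒜, ⁅B, B⁆ ≤ A ∧ ¬ B ≤ A ∧ B ≤ Subgroup.normalizer (A : Set S₀)) :
    ∀ n : ℕ, ∀ (G : Type u) [Group G] [Finite G], Nat.card G = n → ∀ ι : S₀ →* G,
      GHyp p 𝒜 G ι → ι.range = ⊤ := by
  intro n
  induction n using Nat.strong_induction_on with
  | _ n ih =>
  intro G _ _ hn ι h
  by_contra hne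
  obtain ⟨P, hP⟩ := h.syl
  have hmax : ∀ H : Subgroup G, (P : Subgroup G) ≤ H → H = P ∨ H = ⊤ := by
    intro H hPH
    by_cases hH : H = ⊤
    · right; exact hH
    left
    have hcardH : Nat.card H < n := by
      rw [← hn]
      have := card_lt_card_of_lt (lt_top_iff_ne_top.2 hH)
      rwa [Subgroup.card_top] at this
    have hle : ι.range ≤ H := hP ▸ hPH
    have h1 := ih _ hcardH ↥H rfl _ (h.sub H hle)
    apply le_antisymm _ hPH
    intro x hx
    have h2 : (⟨x, hx⟩ : ↥H) ∈ (ι.codRestrict H (fun s => hle ⟨s, rfl⟩)).range := by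
      rw [h1]; exact Subgroup.mem_top _
    obtain ⟨s, hs⟩ := h2
    rw [hP]
    exact ⟨s, congrArg Subtype.val hs⟩
  have hPne : (P : Subgroup G) ≠ ⊤ := hP ▸ hne
  have hst := struct_of_maximal hp2 P h.cent hmax hPne
  have hWn := famInf_map_normal hp2 𝒜 hab hne𝒜 hrep G ι h P hP hst
  apply hst.not_nilp
  have h1 := h.np
  rw [Subgroup.normalizer_eq_top_iff.2 hWn] at h1
  exact hasNormalPComplement_of_mulEquiv Subgroup.topEquiv h1

end Cfsg.Agent.Helper6.AxGT
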