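import Mathlib
import Cfsg.Agent.Helper6.ThompFusG
import Cfsg.Agent.Lead.KLj

set_option autoImplicit false

/-!
Axiomatic Glauberman–Thompson, part F: a saturated fusion system (`p` odd) that is not inner but all
of whose proper saturated subsystems over the same group are inner is constrained.
-/

namespace Cfsg.Agent.Helper6.AxGT

open Cfsg Cfsg.FusionSystem Cfsg.Agent.Lead Cfsg.Agent.Lead.GlTh Cfsg.Agent.Lead.KL

universe u

section basic

variable {Ω : Type*} [Group Ω] {S : Subgroup Ω}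

theorem exists_system_of_eq_sat {p : ℕ} {T : Subgroup Ω} (hT : T = S) (E : FusionSystem T)
    (hE : E.IsSaturated p) :
    ∃ E' : FusionSystem S, (∀ P, E'.Hom P = E.Hom P) ∧ E'.IsSaturated p := by
  subst hT
  exact ⟨E, fun _ => rfl, hE⟩

/-- In a system all of whose maps are conjugations by elements of `S`, every normal subgroup of `S`
is normal. -/
theorem isNormal_of_hom_eq_inner (D : FusionSystem S)
    (hD : ∀ P : Subgroup Ω, D.Hom P = (innerFusionSystem S).Hom P) {X : Subgroup Ω} (hXS : X ≤ S)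
    (hSX : S ≤ Subgroup.normalizer (X : Set Ω)) : D.IsNormal X := by
  refine ⟨hXS, fun P φ hφ => ?_⟩
  rw [hD P] at hφ
  obtain ⟨hP, g, hg, hφg⟩ := hφ
  have hconj : ∀ (s : Ω), s ∈ S → ∀ x ∈ X, s * x * s⁻¹ ∈ X := fun s hs x hx =>
    (Subgroup.mem_normalizer_iff.mp (hSX hs) _).mp hx
  refine ⟨conjHom (P ⊔ X) g, D.conj_mem (sup_le hP hXS) hg, fun x => (hφg x).symm, ?_⟩
  ext y
  constructor
  · rintro ⟨z, hz, rfl⟩
    rw [SetLike.mem_coe, Subgroup.mem_subgroupOf] at hz
    exact hconj g hg _ hz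
  · intro hy
    have h1 : g⁻¹ * y * g⁻¹⁻¹ ∈ X := hconj g⁻¹ (S.inv_mem hg) y hy
    refine ⟨⟨g⁻¹ * y * g⁻¹⁻¹, (le_sup_right : X ≤ P ⊔ X) h1⟩, ?_, ?_⟩
    · rw [SetLike.mem_coe, Subgroup.mem_subgroupOf]
      exact h1
    · show g * (g⁻¹ * y * g⁻¹⁻¹) * g⁻¹ = y
      group

end basic

variable {Ω : Type u} [Group Ω] {S : Subgroup Ω}

/-- Glesser's theorem on sparse systems, `p` odd: a non-inner saturated system whose proper saturated
subsystems over `S` are inner is constrained. -/
theorem constrained_of_sparse [Finite S] (p : ℕ) [Fact p.Prime] (hp2 : p ≠ 2)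
    (hS : IsPGroup p S) (F : FusionSystem S) (hF : F.IsSaturated p) (hni : ¬ Inner p F)
    (IH : ∀ E : FusionSystem S, E.IsSaturated p → (∀ P, E.Hom P ⊆ F.Hom P) →
      (∃ (P : Subgroup Ω) (φ : P →* Ω), φ ∈ F.Hom P ∧ φ ∉ E.Hom P) → Inner p E) :
    ∃ Q : Subgroup Ω, F.IsNormal Q ∧ F.IsCentric Q := by
  -- a characteristic subgroup with a non-`p`-group of automorphisms
  have h1 : ∃ U : Subgroup Ω, U ≤ S ∧ U ≠ ⊥ ∧ (U.subgroupOf S).Characteristic ∧
      ¬ IsPGroup p (F.autGroup U) := by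
    by_contra hcon
    push Not at hcon
    exact hni (ThompFus.char_inner_aux p (Nat.card S) Ω S rfl hS F hF (Or.inl hp2) hcon)
  obtain ⟨U, hUS, -, hUchar, hUaut⟩ := h1
  -- it is normal in the system
  have hUn : F.IsNormal U := by
    by_contra hUnn
    have hSU : S ≤ Subgroup.normalizer (U : Set Ω) := by
      haveI := hUchar
      haveI : (U.subgroupOf S).Normal := inferInstance
      intro s hs
      rw [Subgroup.mem_normalizer_iff]
      intro x
      constructor
      · intro hx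
        have hxS : x ∈ S := hUS hx
        have h2 := (inferInstance : (U.subgroupOf S).Normal).conj_mem ⟨x, hxS⟩
          (Subgroup.mem_subgroupOf.mpr hx) ⟨s, hs⟩
        exact Subgroup.mem_subgroupOf.mp h2
      · intro hx
        have hxS : s * x * s⁻¹ ∈ S := hUS hx
        have h2 := (inferInstance : (U.subgroupOf S).Normal).conj_mem ⟨s * x * s⁻¹, hxS⟩
          (Subgroup.mem_subgroupOf.mpr hx) ⟨s, hs⟩⁻¹
        have h3 := Subgroup.mem_subgroupOf.mp h2
        have h4 : ((⟨s, hs⟩ : S)⁻¹ * ⟨s * x * s⁻¹, hxS⟩ * (⟨s, hs⟩ : S)⁻¹⁻¹ : S) =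
            (⟨x, by
              have : s⁻¹ * (s * x * s⁻¹) * s = x := by group
              rw [← this]
              exact S.mul_mem (S.mul_mem (S.inv_mem hs) hxS) hs⟩ : S) := by
          apply Subtype.ext
          show s⁻¹ * (s * x * s⁻¹) * s⁻¹⁻¹ = x
          group
        rw [h4] at h3
        exact h3
    have hNeq : normalizerIn S U = S := le_antisymm inf_le_left (le_inf le_rfl hSU)
    have hUfn : F.IsFullyNormalized U := by
      refine ⟨hUS, fun R' _ => ?_⟩
      rw [hNeq]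
      exact Subgroup.card_le_of_le inf_le_left
    obtain ⟨N₀, hN₀⟩ := Cfsg.Agent.S5096.result F U hUS
    have hN₀sat := Fusion.normalizerSystem_isSaturated p hS F hF U hUfn N₀ hN₀
    obtain ⟨E, hE, hEsat⟩ := exists_system_of_eq_sat hNeq N₀ hN₀sat
    have hEle : ∀ P, E.Hom P ⊆ F.Hom P := fun P φ h => by
      rw [hE P, hN₀ P] at h
      exact h.1
    obtain ⟨P, φ, hφ, hφN⟩ := exists_not_mem_normalizerHom F hUS hUnn
    have hEin := IH E hEsat hEle ⟨P, φ, hφ, by rw [hE P, hN₀ P]; exact hφN⟩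
    apply hUaut
    have hle : F.autGroup U ≤ E.autGroup U := by
      unfold FusionSystem.autGroup
      apply Subgroup.closure_mono
      intro α hα
      show _ ∈ E.Hom U
      rw [hE U, hN₀ U]
      apply mem_normalizerHom_of_le F le_rfl (Fusion.le_normalizerIn hUS) _ hα
      ext y
      constructor
      · rintro ⟨z, -, rfl⟩
        exact (α z).2
      · intro hy
        refine ⟨α.symm ⟨y, hy⟩, ?_, ?_⟩
        · rw [SetLike.mem_coe, Subgroup.mem_subgroupOf]
          exact (α.symm ⟨y, hy⟩).2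
        · show ((α (α.symm ⟨y, hy⟩) : U) : Ω) = y
          rw [MulEquiv.apply_symm_apply]
    exact ((inner_iff_isPGroup p E).mp hEin U hUS).to_le hle
  -- a normal subgroup of largest order with a non-`p`-group of automorphisms
  obtain ⟨Q, ⟨hQ, hQaut⟩, hQmax⟩ := exists_max_of_bddAbove
    {Q : Subgroup Ω | F.IsNormal Q ∧ ¬ IsPGroup p (F.autGroup Q)} ⟨U, hUn, hUaut⟩
    (fun Q => Nat.card Q) (Nat.card S) (fun Q hQ => Subgroup.card_le_of_le hQ.1.1)
  have hQS := hQ.1
  have hSQ := Model.le_normalizer_of_isNormal F hQ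
  haveI : Finite Q := Fusion.finite_of_le hQS
  have hDsat := scSys_isSaturated p hS F hF hQ
  have hDle := scSys_le F Q hQS hSQ
  -- `S C_F(Q)` is inner
  have hDin : Inner p (scSys F Q hQS hSQ) := by
    by_cases hDF : ∀ P, F.Hom P ⊆ (scSys F Q hQS hSQ).Hom P
    · exfalso
      apply hQaut
      have hle : F.autGroup Q ≤ autInducedBy S Q := by
        unfold FusionSystem.autGroup
        rw [Subgroup.closure_le]
        intro α hα
        obtain ⟨-, ψ, hψ, hψP, s, hs, hψQ⟩ := hDF Q hα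
        rw [SetLike.mem_coe, mem_autInducedBy_iff]
        refine ⟨s, hs, fun x => ?_⟩
        rw [← hψQ x]
        exact (hψP x).symm
      exact (Fusion.isPGroup_autInducedBy p hS Q).to_le hle
    · push Not at hDF
      obtain ⟨P₀, hP₀⟩ := hDF
      rw [Set.not_subset] at hP₀
      obtain ⟨φ₀, hφ₀, hφ₀D⟩ := hP₀
      exact IH _ hDsat hDle ⟨P₀, φ₀, hφ₀, hφ₀D⟩
  have hD := (inner_iff_hom p hS _ hDsat).mp hDin
  -- `Q C_S(Q)` is normal in the system
  have hXS : Q ⊔ centralizerIn S Q ≤ S := sup_le hQS inf_le_left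
  have hSX := le_normalizer_sup_centralizerIn hQS hSQ
  have hXD := isNormal_of_hom_eq_inner _ hD hXS hSX
  obtain ⟨NR, hNR⟩ := Cfsg.Agent.S5096.result F _ hXS
  have hXN := Fusion.normalizerSystem_isNormal F hXS NR hNR
  have hXF : F.IsNormal (Q ⊔ centralizerIn S Q) :=
    isNormal_of_generation p hS F hF hQ NR hNR hXD hXN
  -- hence `C_S(Q) ≤ Q`
  have hcent : centralizerIn S Q ≤ Q := by
    by_cases hXaut : IsPGroup p (F.autGroup (Q ⊔ centralizerIn S Q))
    · exfalso
      apply hQaut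
      intro α
      have hα' := (Fusion.mem_autGroup_iff F hQS α.1).mp α.2
      obtain ⟨ψ, hψ, hψP, hψU⟩ := hXF.2 Q _ hα'
      obtain ⟨β, hβ, hβP, -⟩ := exists_aut_sup F α.1 ψ hψ hψP hψU
      have hXaut' : IsPGroup p (F.autGroup (Q ⊔ (Q ⊔ centralizerIn S Q))) := by
        have : Q ⊔ (Q ⊔ centralizerIn S Q) = Q ⊔ centralizerIn S Q := by
          rw [← sup_assoc, sup_idem]
        rw [this]
        exact hXaut
      obtain ⟨k, hk⟩ := hXaut' ⟨β, hβ⟩
      have hk' : β ^ (p ^ k) = 1 := by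
        have := congrArg Subtype.val hk
        rwa [Subgroup.coe_pow] at this
      refine ⟨k, Subtype.ext ?_⟩
      rw [Subgroup.coe_pow]
      exact pow_eq_one_of_restrict le_sup_left α.1 β hβP hk'
    · have h2 := hQmax _ ⟨hXF, hXaut⟩
      haveI : Finite ↥(Q ⊔ centralizerIn S Q) := Fusion.finite_of_le hXS
      have h3 : Q = Q ⊔ centralizerIn S Q := Subgroup.eq_of_le_of_card_ge le_sup_left h2
      exact le_sup_right.trans h3.ge
  refine ⟨Q, hQ, hQS, ?_⟩
  rintro Q' ⟨φ, hφ, hr⟩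
  rw [← hr, range_eq_of_isNormal F hQ hφ]
  exact hcent

end Cfsg.Agent.Helper6.AxGT
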