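import Mathlib
import Cfsg.Agent.Helper6.AxGTE
import Cfsg.Agent.Helper6.AxGTF
import Cfsg.Agent.Lead.GlThJ
import Cfsg.Agent.Lead.ModelK

set_option autoImplicit false

/-!
Axiomatic Glauberman–Thompson, part G: from a model of a constrained system to the group-theoretic
hypothesis.
-/

namespace Cfsg.Agent.Helper6.AxGT

open Cfsg Cfsg.FusionSystem Cfsg.Agent.Lead Cfsg.Agent.Lead.GlTh Cfsg.Agent.Lead.KL
  Cfsg.Agent.Helper1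
open scoped commutatorElement

universe u

variable {Ω : Type u} [Group Ω] {S : Subgroup Ω}

/-- The invariance hypothesis. -/
def FInv (F : FusionSystem S) (𝒜 : Set (Subgroup Ω)) : Prop :=
  ∀ Q : Subgroup Ω, Q ≤ S → (∃ A ∈ 𝒜, A ≤ Q) → ∀ α ∈ F.autGroup Q, ∀ x : ↥Q,
    (x : Ω) ∈ (⨅ A ∈ {A : Subgroup Ω | A ∈ 𝒜 ∧ A ≤ Q}, A) →
      (((α : MulAut ↥Q) x : ↥Q) : Ω) ∈ (⨅ A ∈ {A : Subgroup Ω | A ∈ 𝒜 ∧ A ≤ Q}, A)

/-- The family pulled back to the type `↥S`. -/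
def fam₀ (S : Subgroup Ω) (𝒜 : Set (Subgroup Ω)) : Set (Subgroup ↥S) :=
  {A₀ | A₀.map S.subtype ∈ 𝒜}

theorem mem_iInf_fam {𝒜 : Set (Subgroup Ω)} {Q : Subgroup Ω} {x : Ω} :
    x ∈ (⨅ A ∈ {A : Subgroup Ω | A ∈ 𝒜 ∧ A ≤ Q}, A) ↔ ∀ A ∈ 𝒜, A ≤ Q → x ∈ A := by
  simp only [Subgroup.mem_iInf, Set.mem_ofPred_eq, and_imp]

theorem subgroupOf_mem_fam₀ {𝒜 : Set (Subgroup Ω)} {A : Subgroup Ω} (hA : A ∈ 𝒜) (hAS : A ≤ S) :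
    A.subgroupOf S ∈ fam₀ S 𝒜 := by
  show (A.subgroupOf S).map S.subtype ∈ 𝒜
  rw [Subgroup.map_subgroupOf_eq_of_le hAS]
  exact hA

theorem mem_famInf_fam₀ {𝒜 : Set (Subgroup Ω)} (h𝒜 : ∀ A ∈ 𝒜, A ≤ S) (Q' : Subgroup ↥S)
    (x : ↥S) :
    x ∈ famInf (fam₀ S 𝒜) Q' ↔
      (x : Ω) ∈ (⨅ A ∈ {A : Subgroup Ω | A ∈ 𝒜 ∧ A ≤ Q'.map S.subtype}, A) := by
  rw [mem_famInf, mem_iInf_fam]
  constructor
  · intro h A hA hAQ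
    have hAS := h𝒜 A hA
    have h3 : A.subgroupOf S ≤ Q' := by
      intro y hy
      obtain ⟨q, hq, hqy⟩ := hAQ (Subgroup.mem_subgroupOf.mp hy)
      have : q = y := Subtype.ext hqy
      rw [← this]; exact hq
    exact Subgroup.mem_subgroupOf.mp (h _ (subgroupOf_mem_fam₀ hA hAS) h3)
  · intro h A₀ hA₀ hA₀Q
    obtain ⟨y, hy, hyx⟩ := h (A₀.map S.subtype) hA₀ (Subgroup.map_mono hA₀Q)
    have : y = x := Subtype.ext hyx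
    rw [← this]; exact hy

theorem famInf_top_eq {𝒜 : Set (Subgroup Ω)} (h𝒜 : ∀ A ∈ 𝒜, A ≤ S) :
    famInf (fam₀ S 𝒜) ⊤ = (⨅ A ∈ 𝒜, A).subgroupOf S := by
  ext x
  rw [mem_famInf_fam₀ h𝒜, mem_iInf_fam, Subgroup.mem_subgroupOf]
  simp only [Subgroup.mem_iInf]
  constructor
  · intro h A hA
    apply h A hA
    rintro y hy
    exact ⟨⟨y, h𝒜 A hA hy⟩, Subgroup.mem_top _, rfl⟩
  · intro h A hA _
    exact h A hA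

/-- The model of a constrained system satisfies the group-theoretic hypothesis. -/
theorem ghyp_of_model [Finite S] (p : ℕ) [Fact p.Prime] (F : FusionSystem S)
    (𝒜 : Set (Subgroup Ω)) (h𝒜 : ∀ A ∈ 𝒜, A ≤ S) (hne : 𝒜.Nonempty)
    (hinv : FInv F 𝒜) (hnp : NP p F (⨅ A ∈ 𝒜, A))
    (L : Type u) [Group L] (ι : S →* L) (hL : F.IsModel p L ι) :
    GHyp p (fam₀ S 𝒜) L ι := by
  obtain ⟨hLfin, hι, ⟨T, hT⟩, hcent⟩ := hL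
  haveI := hLfin
  obtain ⟨A₁, hA₁⟩ := hne
  have hWS : (⨅ A ∈ 𝒜, A) ≤ S := (iInf₂_le A₁ hA₁).trans (h𝒜 A₁ hA₁)
  -- the invariance in terms of conjugation
  have key : ∀ Q' : Subgroup ↥S, (∃ A ∈ fam₀ S 𝒜, A ≤ Q') → ∀ g : L,
      g ∈ Subgroup.normalizer ((Q'.map ι : Subgroup L) : Set L) →
        ∀ x ∈ famInf (fam₀ S 𝒜) Q', g * ι x * g⁻¹ ∈ (famInf (fam₀ S 𝒜) Q').map ι := by
    rintro Q' ⟨A₀, hA₀, hA₀Q⟩ g hg x hx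
    set Q'' : Subgroup Ω := Q'.map S.subtype with hQ''
    have hQ''S : Q'' ≤ S := by rintro _ ⟨s, -, rfl⟩; exact s.2
    have hmemQ : ∀ (y : Ω) (hy : y ∈ S), y ∈ Q'' ↔ (⟨y, hy⟩ : S) ∈ Q' := by
      intro y hy
      constructor
      · rintro ⟨s, hs, hsy⟩
        have : s = ⟨y, hy⟩ := Subtype.ext hsy
        rw [← this]; exact hs
      · intro h; exact ⟨⟨y, hy⟩, h, rfl⟩
    have hgP : ∀ y : Q'', ∃ z : Q'', g * ι ⟨y, hQ''S y.2⟩ * g⁻¹ = ι ⟨z, hQ''S z.2⟩ := by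
      intro y
      have h1 : ι ⟨y, hQ''S y.2⟩ ∈ Q'.map ι := ⟨_, (hmemQ y.1 (hQ''S y.2)).mp y.2, rfl⟩
      obtain ⟨q, hq, hqe⟩ := (Subgroup.mem_normalizer_iff.mp hg _).mp h1
      exact ⟨⟨q.1, (hmemQ q.1 q.2).mpr hq⟩, hqe.symm⟩
    obtain ⟨α, hα, hαx⟩ := exists_aut_of_conj F ι hι hQ''S g hgP
    have hxQ' : x ∈ Q' := hA₀Q (famInf_le_of_mem hA₀ hA₀Q hx)
    have hxQ'' : (x : Ω) ∈ Q'' := ⟨x, hxQ', rfl⟩
    have h2 := hinv Q'' hQ''S ⟨A₀.map S.subtype, hA₀, Subgroup.map_mono hA₀Q⟩ α hα ⟨x, hxQ''⟩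
      ((mem_famInf_fam₀ h𝒜 Q' x).mp hx)
    set z : ↥S := ⟨((α ⟨x, hxQ''⟩ : Q'') : Ω), hQ''S (α ⟨x, hxQ''⟩).2⟩ with hz
    refine ⟨z, (mem_famInf_fam₀ h𝒜 Q' z).mpr h2, ?_⟩
    exact hαx ⟨x, hxQ''⟩
  refine ⟨hι.1, ⟨T, hT⟩, key, ?_, hcent⟩
  -- the normal `p`-complement
  have hSW : S ≤ Subgroup.normalizer ((⨅ A ∈ 𝒜, A : Subgroup Ω) : Set Ω) := by
    intro s hs
    haveI : Finite ↥(⨅ A ∈ 𝒜, A) := Fusion.finite_of_le hWS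
    apply mem_normalizer_of_conj_mem_of_finite
    intro w hw
    have hsN : s ∈ Subgroup.normalizer (S : Set Ω) := Subgroup.le_normalizer hs
    have hα : conjAut S s hsN ∈ F.autGroup S :=
      Fusion.autInducedBy_le_autGroup F le_rfl
        (Fusion.conjAutHom_mem_autInducedBy S ⟨s, hsN⟩ hs)
    have hwI : w ∈ (⨅ A ∈ {A : Subgroup Ω | A ∈ 𝒜 ∧ A ≤ S}, A) := by
      rw [mem_iInf_fam]
      intro A hA _
      exact (iInf₂_le A hA : (⨅ A ∈ 𝒜, A) ≤ A) hw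
    have h1 := hinv S le_rfl ⟨A₁, hA₁, h𝒜 A₁ hA₁⟩ _ hα ⟨w, hWS hw⟩ hwI
    rw [mem_iInf_fam] at h1
    simp only [Subgroup.mem_iInf]
    intro A hA
    exact h1 A hA (h𝒜 A hA)
  have h1 := hasNormalPComplement_normalizer' p F L ι hι T hT hWS hSW hnp
  rw [famInf_top_eq h𝒜]
  exact h1

end Cfsg.Agent.Helper6.AxGT
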