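import Mathlib
import Cfsg.Agent.Helper6.AxGTG

set_option autoImplicit false

/-!
Axiomatic Glauberman–Thompson, part H: the theorem for fusion systems.
-/

namespace Cfsg.Agent.Helper6.AxGT

open Cfsg Cfsg.FusionSystem Cfsg.Agent.Lead Cfsg.Agent.Lead.GlTh Cfsg.Agent.Lead.KL
  Cfsg.Agent.Helper1
open scoped commutatorElement

universe u

variable {Ω : Type u} [Group Ω] {S : Subgroup Ω}

theorem finv_mono {F E : FusionSystem S} {𝒜 : Set (Subgroup Ω)} (h : FInv F 𝒜)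
    (hle : ∀ P, E.Hom P ⊆ F.Hom P) : FInv E 𝒜 :=
  fun Q hQ hA α hα x hx => h Q hQ hA α (autGroup_mono E F hle Q hα) x hx

theorem np_mono {p : ℕ} {F E : FusionSystem S} {W : Subgroup Ω} (h : NP p F W)
    (hle : ∀ P, E.Hom P ⊆ F.Hom P) : NP p E W :=
  fun P hWP hPN α hα hαW => h P hWP hPN α (autGroup_mono E F hle P hα) hαW

/-- `S` normalizes the intersection of the family. -/
theorem le_normalizer_iInf [Finite S] (F : FusionSystem S) (𝒜 : Set (Subgroup Ω))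
    (h𝒜 : ∀ A ∈ 𝒜, A ≤ S) (hne : 𝒜.Nonempty) (hinv : FInv F 𝒜) :
    S ≤ Subgroup.normalizer ((⨅ A ∈ 𝒜, A : Subgroup Ω) : Set Ω) := by
  obtain ⟨A₁, hA₁⟩ := hne
  have hWS : (⨅ A ∈ 𝒜, A) ≤ S := (iInf₂_le A₁ hA₁).trans (h𝒜 A₁ hA₁)
  intro s hs
  haveI : Finite ↥(⨅ A ∈ 𝒜, A) := Fusion.finite_of_le hWS
  apply mem_normalizer_of_conj_mem_of_finite
  intro w hw
  have hsN : s ∈ Subgroup.normalizer (S : Set Ω) := Subgroup.le_normalizer hs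
  have hα : conjAut S s hsN ∈ F.autGroup S :=
    Fusion.autInducedBy_le_autGroup F le_rfl
      (Fusion.conjAutHom_mem_autInducedBy S ⟨s, hsN⟩ hs)
  have hwI : w ∈ (⨅ A ∈ {A : Subgroup Ω | A ∈ 𝒜 ∧ A ≤ S}, A) := by
    rw [mem_iInf_fam]
    intro A hA _
    exact (iInf₂_le A hA : (⨅ A ∈ 𝒜, A) ≤ A) hw
  have h1 := hinv S le_rfl ⟨A₁, hA₁, h𝒜 A₁ hA₁⟩ _ hα ⟨w, hWS hw⟩ hwI
  rw [mem_iInf_fam] at h1
  simp only [Subgroup.mem_iInf]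
  intro A hA
  exact h1 A hA (h𝒜 A hA)

/-- The axiomatic Glauberman–Thompson theorem, in terms of `NP` and `Inner`. -/
theorem fusion_main [Finite S] (p : ℕ) [Fact p.Prime] (hp2 : p ≠ 2) (hS : IsPGroup p S)
    (𝒜 : Set (Subgroup Ω)) (h𝒜 : ∀ A ∈ 𝒜, A ≤ S ∧ IsMulCommutative ↥A) (hne : 𝒜.Nonempty)
    (hrep : ∀ B : Subgroup Ω, B ≤ S → ⁅⁅B, B⁆, B⁆ = ⊥ → (∃ A ∈ 𝒜, ⁅B, B⁆ ≤ A ∧ ¬ B ≤ A) →
      ∃ A ∈ 𝒜, ⁅B, B⁆ ≤ A ∧ ¬ B ≤ A ∧ B ≤ Subgroup.normalizer (A : Set Ω)) :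
    ∀ m : ℕ, ∀ F : FusionSystem S, size F = m → F.IsSaturated p → FInv F 𝒜 →
      NP p F (⨅ A ∈ 𝒜, A) → Inner p F := by
  have h𝒜S : ∀ A ∈ 𝒜, A ≤ S := fun A hA => (h𝒜 A hA).1
  intro m
  induction m using Nat.strong_induction_on with
  | _ m ih =>
  intro F hm hF hinv hnp
  by_contra hni
  have IH : ∀ E : FusionSystem S, E.IsSaturated p → (∀ P, E.Hom P ⊆ F.Hom P) →
      (∃ (P : Subgroup Ω) (φ : P →* Ω), φ ∈ F.Hom P ∧ φ ∉ E.Hom P) → Inner p E := by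
    intro E hE hle hne'
    exact ih (size E) (hm ▸ size_lt F E hle hne') E rfl hE (finv_mono hinv hle) (np_mono hnp hle)
  obtain ⟨Q, hQn, hQc⟩ := constrained_of_sparse p hp2 hS F hF hni IH
  obtain ⟨L, _, ι, hL⟩ := Model.exists_isModel p hS F ⟨hF, Q, hQn, hQc⟩
  have hG := ghyp_of_model p F 𝒜 h𝒜S hne hinv hnp L ι hL
  obtain ⟨hLfin, hι, ⟨T, hT⟩, hcent⟩ := hL
  haveI := hLfin
  -- the hypotheses on the family, in `↥S`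
  have hab₀ : ∀ A ∈ fam₀ S 𝒜, ∀ x ∈ A, ∀ y ∈ A, x * y = y * x := by
    intro A₀ hA₀ x hx y hy
    have hc := (h𝒜 _ hA₀).2
    have h1 : (x : Ω) ∈ A₀.map S.subtype := ⟨x, hx, rfl⟩
    have h2 : (y : Ω) ∈ A₀.map S.subtype := ⟨y, hy, rfl⟩
    have h3 : (⟨x, h1⟩ : ↥(A₀.map S.subtype)) * ⟨y, h2⟩ = ⟨y, h2⟩ * ⟨x, h1⟩ :=
      hc.is_comm.comm _ _
    apply Subtype.ext
    have h4 : (x : Ω) * (y : Ω) = (y : Ω) * (x : Ω) :=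
      congrArg (fun z : ↥(A₀.map S.subtype) => (z : Ω)) h3
    exact h4
  have hne₀ : (fam₀ S 𝒜).Nonempty := by
    obtain ⟨A₁, hA₁⟩ := hne
    exact ⟨A₁.subgroupOf S, subgroupOf_mem_fam₀ hA₁ (h𝒜S A₁ hA₁)⟩
  have hrep₀ : ∀ B : Subgroup ↥S, ⁅⁅B, B⁆, B⁆ = ⊥ →
      (∃ A ∈ fam₀ S 𝒜, ⁅B, B⁆ ≤ A ∧ ¬ B ≤ A) →
      ∃ A ∈ fam₀ S 𝒜, ⁅B, B⁆ ≤ A ∧ ¬ B ≤ A ∧ B ≤ Subgroup.normalizer (A : Set ↥S) := by
    rintro B₀ hcl ⟨A₀, hA₀, hA₀1, hA₀2⟩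
    have hBS : B₀.map S.subtype ≤ S := by rintro _ ⟨s, -, rfl⟩; exact s.2
    have hcomm : ⁅B₀.map S.subtype, B₀.map S.subtype⁆ = (⁅B₀, B₀⁆).map S.subtype :=
      (Subgroup.map_commutator B₀ B₀ S.subtype).symm
    have hcl' : ⁅⁅B₀.map S.subtype, B₀.map S.subtype⁆, B₀.map S.subtype⁆ = ⊥ := by
      rw [hcomm, ← Subgroup.map_commutator, hcl, Subgroup.map_bot]
    have hex : ∃ A ∈ 𝒜, ⁅B₀.map S.subtype, B₀.map S.subtype⁆ ≤ A ∧ ¬ B₀.map S.subtype ≤ A := by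
      refine ⟨A₀.map S.subtype, hA₀, ?_, ?_⟩
      · rw [hcomm]; exact Subgroup.map_mono hA₀1
      · rw [Subgroup.map_le_map_iff_of_injective S.subtype_injective]; exact hA₀2
    obtain ⟨A, hA, hA1, hA2, hA3⟩ := hrep _ hBS hcl' hex
    have hAS := h𝒜S A hA
    refine ⟨A.subgroupOf S, subgroupOf_mem_fam₀ hA hAS, ?_, ?_, ?_⟩
    · intro x hx
      rw [Subgroup.mem_subgroupOf]
      apply hA1
      rw [hcomm]
      exact ⟨x, hx, rfl⟩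
    · intro hle
      apply hA2
      rintro _ ⟨b, hb, rfl⟩
      exact Subgroup.mem_subgroupOf.mp (hle hb)
    · intro b hb
      have hbN := hA3 ⟨b, hb, rfl⟩
      rw [Subgroup.mem_normalizer_iff]
      intro y
      rw [Subgroup.mem_subgroupOf, Subgroup.mem_subgroupOf]
      exact Subgroup.mem_normalizer_iff.mp hbN y
  have htop := group_main hp2 (fam₀ S 𝒜) hab₀ hne₀ hrep₀ (Nat.card L) L rfl ι hG
  -- `L` is a `p`-group, so the system is inner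
  apply hni
  have hLp : IsPGroup p L := by
    have h1 : IsPGroup p (⊤ : Subgroup L) := by
      rw [← htop, ← hT]; exact T.2
    exact h1.of_equiv Subgroup.topEquiv
  exact inner_of_plocalCentral p hS F L ι hι
    (plocalCentral_of_hasNormalPComplement (hasNormalPComplement_of_isPGroup hLp))

/-- The statement. -/
theorem axiomatic_glauberman_thompson [Finite S] (p : ℕ) [Fact p.Prime] (hS : IsPGroup p S)
    (F : FusionSystem S) (hF : F.IsSaturated p) (hp : p ≠ 2) (𝒜 : Set (Subgroup Ω))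
    (h𝒜 : ∀ A ∈ 𝒜, A ≤ S ∧ IsMulCommutative ↥A) (hne : 𝒜.Nonempty)
    (hinv : ∀ Q : Subgroup Ω, Q ≤ S → (∃ A ∈ 𝒜, A ≤ Q) → ∀ α ∈ F.autGroup Q, ∀ x : ↥Q,
      (x : Ω) ∈ (⨅ A ∈ {A : Subgroup Ω | A ∈ 𝒜 ∧ A ≤ Q}, A) →
        (((α : MulAut ↥Q) x : ↥Q) : Ω) ∈ (⨅ A ∈ {A : Subgroup Ω | A ∈ 𝒜 ∧ A ≤ Q}, A))
    (hrep : ∀ B : Subgroup Ω, B ≤ S → ⁅⁅B, B⁆, B⁆ = ⊥ → (∃ A ∈ 𝒜, ⁅B, B⁆ ≤ A ∧ ¬ B ≤ A) →
      ∃ A ∈ 𝒜, ⁅B, B⁆ ≤ A ∧ ¬ B ≤ A ∧ B ≤ Subgroup.normalizer (A : Set Ω)) :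
    (∀ P : Subgroup Ω, F.Hom P = (innerFusionSystem S).Hom P) ↔
      ∀ N : FusionSystem (normalizerIn S (⨅ A ∈ 𝒜, A)), F.IsNormalizerSystem (⨅ A ∈ 𝒜, A) N →
        ∀ P : Subgroup Ω, N.Hom P = (innerFusionSystem (normalizerIn S (⨅ A ∈ 𝒜, A))).Hom P := by
  have h𝒜S : ∀ A ∈ 𝒜, A ≤ S := fun A hA => (h𝒜 A hA).1
  obtain ⟨A₁, hA₁⟩ := hne
  have hWS : (⨅ A ∈ 𝒜, A) ≤ S := (iInf₂_le A₁ hA₁).trans (h𝒜S A₁ hA₁)
  have hSn := le_normalizer_iInf F 𝒜 h𝒜S ⟨A₁, hA₁⟩ hinv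
  have hNW : normalizerIn S (⨅ A ∈ 𝒜, A) = S := le_antisymm inf_le_left (le_inf le_rfl hSn)
  have hfn : F.IsFullyNormalized (⨅ A ∈ 𝒜, A) := by
    refine ⟨hWS, fun U' _ => ?_⟩
    rw [hNW]
    exact Subgroup.card_le_of_le inf_le_left
  have hRS : normalizerIn S (⨅ A ∈ 𝒜, A) ≤ S := inf_le_left
  haveI : Finite ↥(normalizerIn S (⨅ A ∈ 𝒜, A)) := Fusion.finite_of_le hRS
  have hRp : IsPGroup p ↥(normalizerIn S (⨅ A ∈ 𝒜, A)) := hS.to_le hRS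
  constructor
  · intro h N hN
    have h1 : Inner p F := (inner_iff_hom p hS F hF).mpr h
    have h2 : NP p F (⨅ A ∈ 𝒜, A) := np_of_inner h1 _
    have h3 : Inner p N := (np_iff_normalizer_inner F hWS N hN).mp h2
    have hNsat := Fusion.normalizerSystem_isSaturated p hS F hF _ hfn N hN
    exact (inner_iff_hom p hRp N hNsat).mp h3
  · intro h
    obtain ⟨N, hN⟩ := Cfsg.Agent.S5096.result F (⨅ A ∈ 𝒜, A) hWS
    have hNsat := Fusion.normalizerSystem_isSaturated p hS F hF _ hfn N hN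
    have h3 : Inner p N := (inner_iff_hom p hRp N hNsat).mpr (h N hN)
    have h2 : NP p F (⨅ A ∈ 𝒜, A) := (np_iff_normalizer_inner F hWS N hN).mpr h3
    exact (inner_iff_hom p hS F hF).mp
      (fusion_main p hp hS 𝒜 h𝒜 ⟨A₁, hA₁⟩ hrep (size F) F rfl hF hinv h2)

end Cfsg.Agent.Helper6.AxGT
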