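import Mathlib

/-!
# Groups without elements of order `2p`: involutions normalizing `p`-subgroups
-/

set_option autoImplicit false
set_option linter.style.haveILetI false

namespace Cfsg.Agent.Helper6.BF

universe u

variable {G : Type u} [Group G]

/-- without elements of order `2p`, an involution commutes with no nontrivial `p`-element -/
theorem not_commute_involution_pElement (p : ℕ) [hp : Fact p.Prime] (hp2 : p ≠ 2)
    (h2p : ∀ g : G, orderOf g ≠ 2 * p) (u z : G) (hu : orderOf u = 2) (hz1 : z ≠ 1)
    (hz : ∃ k : ℕ, orderOf z = p ^ k) (hc : Commute u z) : False := by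
  obtain ⟨k, hk⟩ := hz
  have hk0 : k ≠ 0 := by
    intro h
    rw [h, pow_zero, orderOf_eq_one_iff] at hk
    exact hz1 hk
  obtain ⟨j, rfl⟩ : ∃ j, k = j + 1 := Nat.exists_eq_succ_of_ne_zero hk0
  have hord : orderOf (z ^ (p ^ j)) = p := by
    rw [orderOf_pow_of_dvd (pow_ne_zero _ hp.out.ne_zero) (by rw [hk]; exact pow_dvd_pow p (Nat.le_succ j)),
      hk, pow_succ, Nat.mul_div_cancel_left _ (pow_pos hp.out.pos j)]
  have hc' : Commute u (z ^ (p ^ j)) := hc.pow_right _
  have hcop : (orderOf u).Coprime (orderOf (z ^ (p ^ j))) := by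
    rw [hu, hord]
    exact (Nat.coprime_primes Nat.prime_two hp.out).mpr (Ne.symm hp2)
  have := hc'.orderOf_mul_eq_mul_orderOf_of_coprime hcop
  rw [hu, hord] at this
  exact h2p _ this

/-- without elements of order `2p`, the centralizer of a nontrivial `p`-element has odd order -/
theorem not_two_dvd_card_centralizer_pElement [Finite G] (p : ℕ) [hp : Fact p.Prime] (hp2 : p ≠ 2)
    (h2p : ∀ g : G, orderOf g ≠ 2 * p) (z : G) (hz1 : z ≠ 1)
    (hz : ∃ k : ℕ, orderOf z = p ^ k) :
    ¬ 2 ∣ Nat.card (Subgroup.centralizer ({z} : Set G)) := by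
  intro h2
  haveI : Fact (Nat.Prime 2) := ⟨Nat.prime_two⟩
  obtain ⟨u, hu⟩ := exists_prime_orderOf_dvd_card' (G := Subgroup.centralizer ({z} : Set G)) 2 h2
  have hu' : orderOf (u : G) = 2 := by rw [Subgroup.orderOf_coe]; exact hu
  have hcomm : Commute (u : G) z := by
    have := u.2
    rw [Subgroup.mem_centralizer_iff] at this
    exact (this z (Set.mem_singleton z)).symm
  exact not_commute_involution_pElement p hp2 h2p (u : G) z hu' hz1 hz hcomm

/-- two involutions whose product has odd order are conjugate -/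
theorem isConj_of_odd_orderOf_mul (a b : G) (ha : a * a = 1) (hb : b * b = 1)
    (hodd : Odd (orderOf (a * b))) : IsConj a b := by
  obtain ⟨c, hc⟩ : ∃ c : G, c = a * b := ⟨_, rfl⟩
  rw [← hc] at hodd
  obtain ⟨k, hk⟩ := hodd
  have hainv : a⁻¹ = a := inv_eq_of_mul_eq_one_right ha
  have hbinv : b⁻¹ = b := inv_eq_of_mul_eq_one_right hb
  have hcinv : a * c * a = c⁻¹ := by
    rw [hc, mul_inv_rev, hainv, hbinv]
    calc a * (a * b) * a = (a * a) * b * a := by group
      _ = b * a := by rw [ha, one_mul]
  have hpow : ∀ n : ℕ, a * c ^ n * a = (c ^ n)⁻¹ := by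
    intro n
    induction n with
    | zero => simp [ha]
    | succ n ih =>
      calc a * c ^ (n + 1) * a = (a * c ^ n * a) * (a * c * a) := by
            rw [pow_succ]
            calc a * (c ^ n * c) * a = a * c ^ n * (1 : G) * c * a := by group
              _ = a * c ^ n * (a * a) * c * a := by rw [ha]
              _ = (a * c ^ n * a) * (a * c * a) := by group
        _ = (c ^ n)⁻¹ * c⁻¹ := by rw [ih, hcinv]
        _ = (c ^ (n + 1))⁻¹ := by
            rw [pow_succ', mul_inv_rev]
  have hcn : c ^ (2 * k + 1) = 1 := by rw [← hk]; exact pow_orderOf_eq_one c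
  rw [isConj_iff]
  refine ⟨c ^ k, ?_⟩
  -- `c^k a c^{-k} = c^{2k} a = c⁻¹ a = b`
  have h1 : a * (c ^ k)⁻¹ = c ^ k * a := by
    have := hpow k
    calc a * (c ^ k)⁻¹ = a * (a * c ^ k * a) := by rw [this]
      _ = (a * a) * c ^ k * a := by group
      _ = c ^ k * a := by rw [ha, one_mul]
  calc c ^ k * a * (c ^ k)⁻¹ = c ^ k * (a * (c ^ k)⁻¹) := by group
    _ = c ^ k * (c ^ k * a) := by rw [h1]
    _ = c ^ (2 * k) * a := by rw [← mul_assoc, ← pow_add, two_mul]
    _ = c⁻¹ * a := by
        have : c ^ (2 * k) = c⁻¹ := by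
          apply eq_inv_of_mul_eq_one_left
          rw [← pow_succ]; exact hcn
        rw [this]
    _ = b := by
        rw [hc, mul_inv_rev, hainv, hbinv, mul_assoc, ha, mul_one]

/-- without elements of order `2p`, an involution normalizing a `p`-subgroup inverts it -/
theorem inverts_of_normalizes [Finite G] (p : ℕ) [hp : Fact p.Prime] (hp2 : p ≠ 2)
    (h2p : ∀ g : G, orderOf g ≠ 2 * p) (u : G) (hu : orderOf u = 2) (R : Subgroup G)
    (hR : IsPGroup p R) (huR : u ∈ Subgroup.normalizer (R : Set G)) :
    ∀ r ∈ R, u * r * u⁻¹ = r⁻¹ := by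
  have huu : u * u = 1 := by
    have := pow_orderOf_eq_one u
    rw [hu, pow_two] at this
    exact this
  have huinv : u⁻¹ = u := inv_eq_of_mul_eq_one_right huu
  rw [Subgroup.mem_normalizer_iff] at huR
  let φ : R →* R :=
    { toFun := fun r => ⟨u * r * u⁻¹, (huR r).mp r.2⟩
      map_one' := by
        apply Subtype.ext
        simp
      map_mul' := by
        intro a b
        apply Subtype.ext
        simp only [Subgroup.coe_mul]
        group }
  have hφ : ∀ r : R, ((φ r : R) : G) = u * r * u⁻¹ := fun _ => rfl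
  have hfpf : MonoidHom.FixedPointFree φ := by
    intro r hr
    by_contra hr1
    have h1 : (r : G) ≠ 1 := fun h => hr1 (Subtype.ext h)
    have h2 : ∃ k : ℕ, orderOf (r : G) = p ^ k := by
      obtain ⟨k, hk⟩ := (IsPGroup.iff_orderOf.mp hR) r
      exact ⟨k, by rw [Subgroup.orderOf_coe]; exact hk⟩
    have h3 : Commute u (r : G) := by
      have := congrArg (fun x : R => (x : G)) hr
      simp only [hφ] at this
      calc u * (r : G) = (u * r * u⁻¹) * u := by group
        _ = r * u := by rw [this]
    exact not_commute_involution_pElement p hp2 h2p u (r : G) hu h1 h2 h3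
  have hinv : Function.Involutive φ := by
    intro r
    apply Subtype.ext
    rw [hφ, hφ, huinv]
    calc u * (u * r * u) * u = (u * u) * r * (u * u) := by group
      _ = r := by rw [huu]; simp
  intro r hr
  have := congrFun (hfpf.coe_eq_inv_of_involutive hinv) ⟨r, hr⟩
  have h2 := congrArg (fun x : R => (x : G)) this
  simpa [hφ] using h2

end Cfsg.Agent.Helper6.BF
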