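import Mathlib
import Cfsg.Prelude.Def_Characters
import Cfsg.Prelude.Def_Blocks

/-!
# Parity of a class multiplication constant for elements of order three normalizing no
nontrivial `2`-subgroup
-/

set_option autoImplicit false
set_option linter.style.haveILetI false

namespace Cfsg.Agent.Helper6.DZ

open Cfsg.Agent.Helper6

universe u

variable {G : Type u} [Group G]

/-- the pairs of conjugates of `y` with product `g` -/
noncomputable def conjPairs [Fintype G] (y g : G) : Finset (G × G) := by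
  classical exact (Finset.univ : Finset (G × G)).filter (fun q : G × G => IsConj y q.1 ∧ IsConj y q.2 ∧ q.1 * q.2 = g)

theorem mem_conjPairs [Fintype G] (y g : G) (q : G × G) :
    q ∈ conjPairs y g ↔ IsConj y q.1 ∧ IsConj y q.2 ∧ q.1 * q.2 = g := by
  classical
  unfold conjPairs
  rw [Finset.mem_filter]
  simp

/-- an involution `u` with `(u x)^3 = 1`, `x^3 = 1` generates with its `x`-conjugates a nontrivial
`2`-subgroup normalized by `x` -/
theorem exists_two_subgroup_normalized (x u : G) (hx : x ^ 3 = 1) (hu : u * u = 1) (hu1 : u ≠ 1)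
    (hux : (u * x) ^ 3 = 1) :
    ∃ Q : Subgroup G, IsPGroup 2 Q ∧ x ∈ Subgroup.normalizer (Q : Set G) ∧ Q ≠ ⊥ := by
  have h3 : x * x * x = 1 := by
    rw [← hx, pow_succ, pow_two]
  obtain ⟨u₁, hu₁⟩ : ∃ u₁ : G, u₁ = x * u * x⁻¹ := ⟨_, rfl⟩
  obtain ⟨u₂, hu₂⟩ : ∃ u₂ : G, u₂ = x * u₁ * x⁻¹ := ⟨_, rfl⟩
  have hconj2 : x * u₂ * x⁻¹ = u := by
    rw [hu₂, hu₁]
    have : x * (x * (x * u * x⁻¹) * x⁻¹) * x⁻¹ = (x * x * x) * u * (x * x * x)⁻¹ := by
      group
    rw [this, h3]; simp
  have hu₁sq : u₁ * u₁ = 1 := by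
    rw [hu₁]
    calc x * u * x⁻¹ * (x * u * x⁻¹) = x * (u * u) * x⁻¹ := by group
      _ = 1 := by rw [hu]; simp
  have hu₂sq : u₂ * u₂ = 1 := by
    rw [hu₂]
    calc x * u₁ * x⁻¹ * (x * u₁ * x⁻¹) = x * (u₁ * u₁) * x⁻¹ := by group
      _ = 1 := by rw [hu₁sq]; simp
  -- the product relation
  have hprod : u * u₁ * u₂ = 1 := by
    have : u * u₁ * u₂ = (u * x) ^ 3 * (x * x * x)⁻¹ := by
      rw [hu₂, hu₁, pow_succ, pow_two]
      group
    rw [this, hux, h3]; simp
  have hu₂eq : u₂ = u₁ * u := by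
    have h1 : u₂ = (u * u₁)⁻¹ := by
      apply eq_inv_of_mul_eq_one_right
      exact hprod
    have huinv : u⁻¹ = u := inv_eq_of_mul_eq_one_right hu
    have hu₁inv : u₁⁻¹ = u₁ := inv_eq_of_mul_eq_one_right hu₁sq
    rw [h1, mul_inv_rev, huinv, hu₁inv]
  have hcomm : u * u₁ = u₁ * u := by
    have h1 : u₁ * u * (u₁ * u) = 1 := by rw [← hu₂eq]; exact hu₂sq
    have huinv : u⁻¹ = u := inv_eq_of_mul_eq_one_right hu
    have hu₁inv : u₁⁻¹ = u₁ := inv_eq_of_mul_eq_one_right hu₁sq
    have h2 : (u₁ * u)⁻¹ = u₁ * u := inv_eq_of_mul_eq_one_right h1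
    rw [mul_inv_rev, huinv, hu₁inv] at h2
    exact h2
  -- the subgroup
  obtain ⟨Q, hQ⟩ : ∃ Q : Subgroup G, Q = Subgroup.closure {u, u₁, u₂} := ⟨_, rfl⟩
  have hgen : ∀ a ∈ ({u, u₁, u₂} : Set G), ∀ b ∈ ({u, u₁, u₂} : Set G), a * b = b * a := by
    intro a ha b hb
    simp only [Set.mem_insert_iff, Set.mem_singleton_iff] at ha hb
    have h02 : u * u₂ = u₂ * u := by
      calc u * u₂ = u * (u₁ * u) := by rw [hu₂eq]
        _ = (u * u₁) * u := by rw [mul_assoc]
        _ = (u₁ * u) * u := by rw [hcomm]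
        _ = u₂ * u := by rw [← hu₂eq]
    have h12 : u₁ * u₂ = u₂ * u₁ := by
      calc u₁ * u₂ = u₁ * (u₁ * u) := by rw [hu₂eq]
        _ = u₁ * (u * u₁) := by rw [hcomm]
        _ = (u₁ * u) * u₁ := by rw [mul_assoc]
        _ = u₂ * u₁ := by rw [← hu₂eq]
    rcases ha with rfl | rfl | rfl <;> rcases hb with rfl | rfl | rfl
    · rfl
    · exact hcomm
    · exact h02
    · exact hcomm.symm
    · rfl
    · exact h12
    · exact h02.symm
    · exact h12.symm
    · rfl
  have hQcomm : ∀ a ∈ Q, ∀ b ∈ Q, a * b = b * a := by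
    have h1 : Q ≤ Subgroup.centralizer ({u, u₁, u₂} : Set G) := by
      rw [hQ, Subgroup.closure_le]
      intro a ha
      rw [SetLike.mem_coe, Subgroup.mem_centralizer_iff]
      intro b hb
      exact hgen b hb a ha
    have h2 : Q ≤ Subgroup.centralizer (Q : Set G) := by
      intro a ha
      have ha' := h1 ha
      rw [Subgroup.mem_centralizer_iff] at ha' ⊢
      -- `a` commutes with the generators, hence with `Q`
      have : Q ≤ Subgroup.centralizer ({a} : Set G) := by
        rw [hQ, Subgroup.closure_le]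
        intro b hb
        rw [SetLike.mem_coe, Subgroup.mem_centralizer_iff]
        intro c hc
        rw [Set.mem_singleton_iff] at hc
        subst hc
        exact (ha' b hb).symm
      intro b hb
      have hb' := this hb
      rw [Subgroup.mem_centralizer_iff] at hb'
      exact (hb' a (Set.mem_singleton a)).symm
    intro a ha b hb
    have := h2 hb
    rw [Subgroup.mem_centralizer_iff] at this
    exact (this a ha)
  have hQsq : ∀ a ∈ Q, a * a = 1 := by
    intro a ha
    rw [hQ] at ha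
    induction ha using Subgroup.closure_induction with
    | mem a ha =>
      simp only [Set.mem_insert_iff, Set.mem_singleton_iff] at ha
      rcases ha with rfl | rfl | rfl
      · exact hu
      · exact hu₁sq
      · exact hu₂sq
    | one => simp
    | mul a b ha hb iha ihb =>
      have hab : a * b = b * a := hQcomm a (by rw [hQ]; exact ha) b (by rw [hQ]; exact hb)
      calc a * b * (a * b) = a * (b * a) * b := by group
        _ = a * (a * b) * b := by rw [hab]
        _ = (a * a) * (b * b) := by group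
        _ = 1 := by rw [iha, ihb, one_mul]
    | inv a ha iha =>
      have : a⁻¹ = a := inv_eq_of_mul_eq_one_right iha
      rw [this]; exact iha
  refine ⟨Q, ?_, ?_, ?_⟩
  · intro q
    refine ⟨1, ?_⟩
    apply Subtype.ext
    have := hQsq q q.2
    simpa [pow_two] using this
  · -- normalizer
    have hfwd : ∀ a ∈ Q, x * a * x⁻¹ ∈ Q := by
      intro a ha
      rw [hQ] at ha
      induction ha using Subgroup.closure_induction with
      | mem a ha =>
        simp only [Set.mem_insert_iff, Set.mem_singleton_iff] at ha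
        rcases ha with rfl | rfl | rfl
        · rw [← hu₁, hQ]; exact Subgroup.subset_closure (Or.inr (Or.inl rfl))
        · rw [← hu₂, hQ]; exact Subgroup.subset_closure (Or.inr (Or.inr rfl))
        · rw [hconj2, hQ]; exact Subgroup.subset_closure (Or.inl rfl)
      | one => simp
      | mul a b ha hb iha ihb =>
        have : x * (a * b) * x⁻¹ = (x * a * x⁻¹) * (x * b * x⁻¹) := by group
        rw [this]
        exact Q.mul_mem iha ihb
      | inv a ha iha =>
        have : x * a⁻¹ * x⁻¹ = (x * a * x⁻¹)⁻¹ := by group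
        rw [this]
        exact Q.inv_mem iha
    rw [Subgroup.mem_normalizer_iff]
    intro a
    constructor
    · exact hfwd a
    · intro ha
      have h1 := hfwd _ (hfwd _ ha)
      have : x * (x * (x * a * x⁻¹) * x⁻¹) * x⁻¹ = (x * x * x) * a * (x * x * x)⁻¹ := by group
      rw [this, h3] at h1
      simpa using h1
  · intro hbot
    have : u ∈ Q := by rw [hQ]; exact Subgroup.subset_closure (Or.inl rfl)
    rw [hbot, Subgroup.mem_bot] at this
    exact hu1 this

open Classical in
/-- **the parity lemma**: for `x`, `y` of order three with `x` normalizing no nontrivial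
`2`-subgroup, the number of pairs of conjugates of `y` with product `x⁻¹` is odd exactly when
`y` is conjugate to `x` -/
theorem card_classPairs_mod_two [Fintype G] (x y : G) (hx : orderOf x = 3) (hy : orderOf y = 3)
    (hxQ : ∀ Q : Subgroup G, IsPGroup 2 Q → x ∈ Subgroup.normalizer (Q : Set G) → Q = ⊥) :
    (conjPairs y x⁻¹).card % 2 = if IsConj y x then 1 else 0 := by
  classical
  have hx3 : x ^ 3 = 1 := by rw [← hx]; exact pow_orderOf_eq_one x
  have hxxx : x * x * x = 1 := by rw [← hx3, pow_succ, pow_two]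
  obtain ⟨g, hg⟩ : ∃ g : G, g = x⁻¹ := ⟨_, rfl⟩
  have hgx : g * x = 1 := by rw [hg]; simp
  have hxg : x * g = 1 := by rw [hg]; simp
  have hggg : g * g * g = 1 := by
    have : g * g * g = (x * x * x)⁻¹ := by rw [hg]; group
    rw [this, hxxx, inv_one]
  rw [← hg]
  obtain ⟨S, hS⟩ : ∃ S : Finset (G × G), S = conjPairs y g := ⟨_, rfl⟩
  rw [← hS]
  have hmemS : ∀ q : G × G, q ∈ S ↔ IsConj y q.1 ∧ IsConj y q.2 ∧ q.1 * q.2 = g := by
    intro q; rw [hS]; exact mem_conjPairs y g q
  obtain ⟨τ, hτ⟩ : ∃ τ : G × G → G × G,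
      ∀ q, τ q = (g * (q.1 * q.2 * q.1⁻¹) * g⁻¹, g * q.1 * g⁻¹) := ⟨_, fun _ => rfl⟩
  have hτS : ∀ q ∈ S, τ q ∈ S := by
    intro q hq
    obtain ⟨h1, h2, h3⟩ := (hmemS q).mp hq
    rw [hmemS, hτ]
    refine ⟨?_, ?_, ?_⟩
    · refine h2.trans ?_
      rw [isConj_iff]
      exact ⟨g * q.1, by simp only []; group⟩
    · refine h1.trans ?_
      rw [isConj_iff]
      exact ⟨g, rfl⟩
    · simp only []
      calc g * (q.1 * q.2 * q.1⁻¹) * g⁻¹ * (g * q.1 * g⁻¹) = g * (q.1 * q.2) * g⁻¹ := by group
        _ = g := by rw [h3]; group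
  have hττ : ∀ q ∈ S, τ (τ q) = q := by
    intro q hq
    obtain ⟨h1, h2, h3⟩ := (hmemS q).mp hq
    have hq2 : q.2 = q.1⁻¹ * g := by rw [← h3]; group
    rw [hτ (τ q), hτ q]
    simp only []
    apply Prod.ext
    · simp only []
      rw [hq2]
      have e1 : g * (g * (q.1 * (q.1⁻¹ * g) * q.1⁻¹) * g⁻¹ * (g * q.1 * g⁻¹) *
          (g * (q.1 * (q.1⁻¹ * g) * q.1⁻¹) * g⁻¹)⁻¹) * g⁻¹ =
          (g * g * g) * q.1 * (g * g * g)⁻¹ := by group
      rw [e1, hggg]; simp
    · simp only []
      rw [hq2]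
      have e1 : g * (g * (q.1 * (q.1⁻¹ * g) * q.1⁻¹) * g⁻¹) * g⁻¹ =
          (g * g * g) * q.1⁻¹ * g⁻¹ * g⁻¹ := by group
      have e2 : g⁻¹ * g⁻¹ = g := by
        have : g⁻¹ * g⁻¹ = (g * g * g)⁻¹ * g := by group
        rw [this, hggg]; simp
      rw [e1, hggg, one_mul, mul_assoc, e2]
  have hτxx : τ (x, x) = (x, x) := by
    rw [hτ]
    simp only []
    have e1 : g * (x * x * x⁻¹) * g⁻¹ = (g * x) * g⁻¹ := by group
    have e2 : g * x * g⁻¹ = x := by rw [hgx, one_mul, hg, inv_inv]
    rw [e1, e2]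
  -- fixed points
  have hfix : ∀ q ∈ S, τ q = q → q = (x, x) := by
    intro q hq hfixq
    obtain ⟨h1, h2, h3⟩ := (hmemS q).mp hq
    rw [hτ] at hfixq
    have hb : g * q.1 * g⁻¹ = q.2 := congrArg Prod.snd hfixq
    obtain ⟨u, hu⟩ : ∃ u : G, u = q.1 * g := ⟨_, rfl⟩
    have huu : u * u = 1 := by
      have h4 : q.1 * (g * q.1 * g⁻¹) = g := by rw [hb]; exact h3
      have h5 : q.1 * g * q.1 = g * g := by
        calc q.1 * g * q.1 = (q.1 * (g * q.1 * g⁻¹)) * g := by group
          _ = g * g := by rw [h4]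
      rw [hu]
      calc q.1 * g * (q.1 * g) = (q.1 * g * q.1) * g := by group
        _ = g * g * g := by rw [h5]
        _ = 1 := hggg
    have ha : q.1 = u * x := by
      rw [hu, mul_assoc, hgx, mul_one]
    by_cases hu1 : u = 1
    · have ha' : q.1 = x := by rw [ha, hu1, one_mul]
      have hb' : q.2 = x := by
        rw [← hb, ha', hgx, one_mul, hg, inv_inv]
      exact Prod.ext ha' hb'
    · exfalso
      have hord : orderOf q.1 = 3 := by
        rw [← hy]
        obtain ⟨c, hc⟩ := h1
        exact (SemiconjBy.orderOf_eq (c : G) hc).symm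
      have ha3 : (u * x) ^ 3 = 1 := by
        rw [← ha, ← hord]; exact pow_orderOf_eq_one _
      obtain ⟨Q, hQ2, hQn, hQne⟩ := exists_two_subgroup_normalized x u hx3 huu hu1 ha3
      exact hQne (hxQ Q hQ2 hQn)
  have hxxS : (x, x) ∈ S ↔ IsConj y x := by
    rw [hmemS]
    simp only []
    constructor
    · intro h; exact h.1
    · intro h
      refine ⟨h, h, ?_⟩
      rw [hg]
      apply eq_inv_of_mul_eq_one_left
      exact hxxx
  -- the involution on the complement of the fixed point
  have hT : Even (S.erase (x, x)).card := by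
    have hsum : ∑ q ∈ S.erase (x, x), (1 : ZMod 2) = 0 := by
      refine Finset.sum_involution (fun q _ => τ q) ?_ ?_ ?_ ?_
      · intro a _; decide
      · intro a ha _ hfa
        have haS := Finset.mem_of_mem_erase ha
        exact (Finset.ne_of_mem_erase ha) (hfix a haS hfa)
      · intro a ha
        have haS := Finset.mem_of_mem_erase ha
        rw [Finset.mem_erase]
        refine ⟨?_, hτS a haS⟩
        intro h
        have := hττ a haS
        rw [h, hτxx] at this
        exact (Finset.ne_of_mem_erase ha) this.symm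
      · intro a ha
        exact hττ a (Finset.mem_of_mem_erase ha)
    rw [Finset.sum_const, nsmul_eq_mul, mul_one] at hsum
    rw [ZMod.natCast_eq_zero_iff] at hsum
    exact even_iff_two_dvd.mpr hsum
  by_cases hc : IsConj y x
  · rw [if_pos hc]
    have hmem := hxxS.mpr hc
    rw [← Finset.card_erase_add_one hmem]
    obtain ⟨k, hk⟩ := hT
    rw [hk]; omega
  · rw [if_neg hc]
    have hmem : (x, x) ∉ S := fun h => hc (hxxS.mp h)
    rw [Finset.erase_eq_of_notMem hmem] at hT
    exact Nat.even_iff.mp hT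

end Cfsg.Agent.Helper6.DZ
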