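import Mathlib
import Cfsg.Prelude.Def_Characters
import Cfsg.Prelude.Def_Blocks
import Cfsg.Agent.Helper6.DZA
import Cfsg.Agent.Helper6.ClassMult
import Cfsg.Agent.Helper6.BlockPart
import Cfsg.Agent.Helper6.IrrDegree
import Cfsg.Agent.Helper6.DefectClassValues
import Cfsg.Agent.Helper6.BlockBasic2
import Cfsg.Agent.Helper6.BlockUnion
import Cfsg.Agent.Helper6.BlockEquiv
import Cfsg.Agent.Helper6.DefectZeroBlock
import Cfsg.Agent.Helper6.Osima3
import Cfsg.Agent.Helper6.PowCongr
import Cfsg.Agent.Helper6.InvolutionInvert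

/-!
# Class multiplication constants of defect zero classes and characters of defect zero
-/

set_option autoImplicit false
set_option linter.style.haveILetI false

namespace Cfsg.Agent.Helper6.DZ

open Cfsg.Agent.Helper6

open scoped ComplexConjugate

universe u

variable {G : Type u} [Group G] {M : Ideal Cfsg.AlgInt}

theorem charDegree_ne_zero_of_irr' {ξ : G → ℂ} (hξ : Cfsg.IsIrrCharacter G ξ) :
    Cfsg.charDegree ξ ≠ 0 := by
  intro h0
  have h1 := charDegree_cast_of_isCharacter (IsIrrCharacter.isCharacter hξ)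
  rw [h0, Nat.cast_zero] at h1
  exact IsIrrCharacter.apply_one_ne_zero hξ h1.symm

/-- a quotient of natural numbers whose numerator has the larger `p`-adic valuation lies in the
local ideal -/
theorem memLocalIdeal_natCast_div_of_lt {p : ℕ} (hM : Cfsg.IsPModular p M) (n d : ℕ) (hn : n ≠ 0)
    (hd : d ≠ 0) (h : d.factorization p < n.factorization p) :
    Cfsg.MemLocalIdeal M ((n : ℂ) / (d : ℂ)) := by
  have hp := hM.1
  obtain ⟨k, hk⟩ : ∃ k, n.factorization p = k := ⟨_, rfl⟩
  obtain ⟨j, hj⟩ : ∃ j, d.factorization p = j := ⟨_, rfl⟩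
  rw [hk, hj] at h
  obtain ⟨n', hn'⟩ : ∃ n' : ℕ, p ^ k * n' = n :=
    ⟨n / p ^ k, by rw [← hk]; exact Nat.ordProj_mul_ordCompl_eq_self n p⟩
  obtain ⟨d', hd', hdnd⟩ : ∃ d' : ℕ, p ^ j * d' = d ∧ ¬ p ∣ d' :=
    ⟨d / p ^ j, by rw [← hj]; exact Nat.ordProj_mul_ordCompl_eq_self d p,
      by rw [← hj]; exact Nat.not_dvd_ordCompl hp hd⟩
  have hd'0 : (d' : ℂ) ≠ 0 := by
    intro h0
    have : d' = 0 := by exact_mod_cast h0
    rw [this, mul_zero] at hd'
    exact hd hd'.symm
  have hp0 : (p : ℂ) ≠ 0 := by exact_mod_cast hp.ne_zero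
  have h1 : Cfsg.MemLocalRing M (((p ^ (k - j - 1) * n' : ℕ) : ℂ) / (d' : ℂ)) :=
    memLocalRing_natCast_div hM.2.1 p hp hM.2.2 _ _ hdnd
  have h2 : Cfsg.MemLocalIdeal M (p : ℂ) := by
    have := memLocalIdeal_of_mem hM.2.1 hM.2.2
    simpa using this
  have h3 : (n : ℂ) / (d : ℂ) = (((p ^ (k - j - 1) * n' : ℕ) : ℂ) / (d' : ℂ)) * (p : ℂ) := by
    have e1 : (n : ℂ) = (p : ℂ) ^ k * (n' : ℂ) := by
      rw [← hn']; push_cast; ring
    have e2 : (d : ℂ) = (p : ℂ) ^ j * (d' : ℂ) := by
      rw [← hd']; push_cast; ring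
    have e3 : (p : ℂ) ^ k = (p : ℂ) ^ (k - j - 1) * (p : ℂ) * (p : ℂ) ^ j := by
      rw [← pow_succ, ← pow_add]
      congr 1
      omega
    rw [e1, e2, e3]
    push_cast
    have hpj : (p : ℂ) ^ j ≠ 0 := pow_ne_zero _ hp0
    field_simp
  rw [h3]
  exact MemLocalIdeal.mul_left hM.2.1 h1 h2

/-- an element normalizing no nontrivial `2`-subgroup has a centralizer of odd order -/
theorem not_two_dvd_card_centralizer [Finite G] (x : G)
    (hxQ : ∀ Q : Subgroup G, IsPGroup 2 Q → x ∈ Subgroup.normalizer (Q : Set G) → Q = ⊥) :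
    ¬ 2 ∣ Nat.card (Subgroup.centralizer ({x} : Set G)) := by
  intro h2
  haveI : Fact (Nat.Prime 2) := ⟨Nat.prime_two⟩
  obtain ⟨u, hu⟩ := exists_prime_orderOf_dvd_card' (G := Subgroup.centralizer ({x} : Set G)) 2 h2
  have hu' : orderOf (u : G) = 2 := by rw [Subgroup.orderOf_coe]; exact hu
  have hcomm : (u : G) * x = x * (u : G) := by
    have := u.2
    rw [Subgroup.mem_centralizer_iff] at this
    exact (this x (Set.mem_singleton x)).symm
  have hQcomm : ∀ q ∈ Subgroup.zpowers (u : G), x * q * x⁻¹ = q := by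
    intro q hq
    obtain ⟨k, rfl⟩ := Subgroup.mem_zpowers_iff.mp hq
    have : Commute x ((u : G) ^ k) := (Commute.zpow_right (show Commute x (u : G) from hcomm.symm) k)
    rw [this.eq]; group
  have hQ := hxQ (Subgroup.zpowers (u : G)) ?_ ?_
  · have hmem : (u : G) ∈ Subgroup.zpowers (u : G) := Subgroup.mem_zpowers _
    rw [hQ, Subgroup.mem_bot] at hmem
    rw [hmem, orderOf_one] at hu'
    omega
  · apply IsPGroup.of_card (n := 1)
    rw [Nat.card_zpowers, hu', pow_one]
  · rw [Subgroup.mem_normalizer_iff]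
    intro h
    constructor
    · intro hh
      rw [hQcomm h hh]; exact hh
    · intro hh
      have := hQcomm _ hh
      have h2 : h = x⁻¹ * (x * h * x⁻¹) * x := by group
      have h3 : x⁻¹ * (x * h * x⁻¹) * x = x * h * x⁻¹ := by
        calc x⁻¹ * (x * h * x⁻¹) * x = x⁻¹ * (x * (x * h * x⁻¹) * x⁻¹) * x := by rw [this]
          _ = x * h * x⁻¹ := by group
      rw [h2, h3]; exact hh

/-- the central character of a character not of `p`-defect zero at an element with
`p'`-centralizer lies in the local ideal -/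
theorem centralChar_memLocalIdeal_of_not_defect_zero [Finite G] {p : ℕ}
    (hM : Cfsg.IsPModular p M) (χ : Cfsg.IrrCharacter G) (x : G)
    (hx : ¬ p ∣ Nat.card (Subgroup.centralizer ({x} : Set G)))
    (hχ : (Cfsg.charDegree (χ : G → ℂ)).factorization p ≠ (Nat.card G).factorization p) :
    Cfsg.MemLocalIdeal M (Cfsg.centralChar (χ : G → ℂ) x) := by
  have hp := hM.1
  set idx := (Subgroup.centralizer ({x} : Set G)).index with hidx
  set d := Cfsg.charDegree (χ : G → ℂ) with hd
  have hd0 : d ≠ 0 := charDegree_ne_zero_of_irr' χ.2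
  have hidx0 : idx ≠ 0 := Subgroup.index_ne_zero_of_finite
  have hmul : idx * Nat.card (Subgroup.centralizer ({x} : Set G)) = Nat.card G := by
    rw [hidx, mul_comm]; exact Subgroup.card_mul_index _
  have hfac : idx.factorization p = (Nat.card G).factorization p := by
    rw [← hmul, Nat.factorization_mul hidx0 Nat.card_pos.ne']
    rw [Finsupp.add_apply, Nat.factorization_eq_zero_of_not_dvd hx, add_zero]
  have hdvd : d ∣ Nat.card G := charDegree_dvd_card χ.2
  have hle : d.factorization p ≤ (Nat.card G).factorization p :=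
    (Nat.factorization_le_iff_dvd hd0 Nat.card_pos.ne').mpr hdvd p
  have hlt : d.factorization p < idx.factorization p := by
    rw [hfac]; exact lt_of_le_of_ne hle hχ
  have h1 : Cfsg.MemLocalIdeal M ((idx : ℂ) / (d : ℂ)) :=
    memLocalIdeal_natCast_div_of_lt hM idx d hidx0 hd0 hlt
  have h2 : Cfsg.MemLocalRing M ((χ : G → ℂ) x) :=
    memLocalRing_of_isIntegral hM.2.1 (IsIrrCharacter.isIntegral_apply χ.2 x)
  have h3 : Cfsg.centralChar (χ : G → ℂ) x = (χ : G → ℂ) x * ((idx : ℂ) / (d : ℂ)) := by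
    unfold Cfsg.centralChar
    rw [← charDegree_cast_of_isCharacter (IsIrrCharacter.isCharacter χ.2)]
    ring
  rw [h3]
  exact MemLocalIdeal.mul_left hM.2.1 h2 h1

open Classical in
/-- the class multiplication constant in terms of central characters -/
theorem card_classPairs_mul_card_centralizer [Fintype G] [Fintype (Cfsg.IrrCharacter G)]
    (a c : G) :
    ((conjPairs a c).card : ℂ) * (Nat.card (Subgroup.centralizer ({a} : Set G)) : ℂ) =
      ∑ χ : Cfsg.IrrCharacter G,
        Cfsg.centralChar (χ : G → ℂ) a * (χ : G → ℂ) a * conj ((χ : G → ℂ) c) := by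
  have h1 := class_mult_count a a c
  have h2 : ((conjPairs a c).card : ℂ) =
      ∑ x ∈ classFinset a, ∑ y ∈ classFinset a, (if x * y = c then (1 : ℂ) else 0) := by
    have h3 : conjPairs a c =
        (classFinset a ×ˢ classFinset a).filter (fun q : G × G => q.1 * q.2 = c) := by
      ext q
      rw [mem_conjPairs, Finset.mem_filter, Finset.mem_product, mem_classFinset, mem_classFinset,
        and_assoc]
    rw [h3, Finset.card_filter]
    push_cast
    rw [Finset.sum_product]
  rw [h2, h1, card_classFinset]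
  set idx := (Subgroup.centralizer ({a} : Set G)).index with hidx
  have hmul : (idx : ℂ) * (Nat.card (Subgroup.centralizer ({a} : Set G)) : ℂ) = (Nat.card G : ℂ) := by
    rw [hidx, mul_comm]
    exact_mod_cast Subgroup.card_mul_index (Subgroup.centralizer ({a} : Set G))
  have hG0 : (Nat.card G : ℂ) ≠ 0 := by
    have : 0 < Nat.card G := Nat.card_pos
    exact_mod_cast this.ne'
  have hC0 : (Nat.card (Subgroup.centralizer ({a} : Set G)) : ℂ) ≠ 0 := by
    have : 0 < Nat.card (Subgroup.centralizer ({a} : Set G)) := Nat.card_pos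
    exact_mod_cast this.ne'
  have hidx0 : (idx : ℂ) ≠ 0 := by
    intro h; rw [h, zero_mul] at hmul; exact hG0 hmul.symm
  rw [← hmul]
  rw [Finset.mul_sum, Finset.sum_mul]
  apply Finset.sum_congr rfl
  intro χ _
  unfold Cfsg.centralChar
  rw [← hidx]
  field_simp

end Cfsg.Agent.Helper6.DZ
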