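import Mathlib
import Cfsg.Prelude.Def_Characters
import Cfsg.Prelude.Def_Blocks
import Cfsg.Agent.Helper6.DZA
import Cfsg.Agent.Helper6.DZB
import Cfsg.Agent.Helper6.Induced
import Cfsg.Agent.Helper6.CharBasic
import Cfsg.Agent.Helper6.BlockBasic

/-!
# Without characters of `p`-defect zero, every self-inverse element with `p'`-centralizer
has two conjugates whose product is a nontrivial element of a given Sylow `p`-subgroup
-/

set_option autoImplicit false
set_option linter.style.haveILetI false

namespace Cfsg.Agent.Helper6.BF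

open Cfsg.Agent.Helper6 Cfsg.Agent.Helper6.DZ

open scoped ComplexConjugate

universe u

variable {G : Type u} [Group G]

/-- the sum of an irreducible character over a subgroup is a natural multiple of its order -/
theorem exists_sum_subgroup_eq [Finite G] (χ : Cfsg.IrrCharacter G) (P : Subgroup G)
    [Fintype P] :
    ∃ n : ℕ, ∑ x : P, (χ : G → ℂ) x = (Nat.card P : ℂ) * (n : ℂ) := by
  have h1 : Cfsg.IsCharacter P (fun x : P => (χ : G → ℂ) x) :=
    IsCharacter.restrict P (IsIrrCharacter.isCharacter χ.2)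
  have h2 : Cfsg.IsCharacter P (fun _ : P => (1 : ℂ)) := isCharacter_one
  obtain ⟨n, hn⟩ := classInner_char_char_nat h1 h2
  refine ⟨n, ?_⟩
  unfold Cfsg.classInner at hn
  have hP0 : (Nat.card P : ℂ) ≠ 0 := by
    have : 0 < Nat.card P := Nat.card_pos
    exact_mod_cast this.ne'
  rw [← hn]
  simp only [map_one, mul_one]
  rw [← mul_assoc, mul_inv_cancel₀ hP0, one_mul]

open Classical in
set_option maxHeartbeats 800000 in
/-- **the key existence statement** -/
theorem exists_conj_pair_mul_mem_sylow [Finite G] (p : ℕ) [hp : Fact p.Prime]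
    (hA : ∀ χ : Cfsg.IrrCharacter G,
      (Cfsg.charDegree (χ : G → ℂ)).factorization p ≠ (Nat.card G).factorization p)
    (t : G) (ht2 : t * t = 1)
    (htC : ¬ p ∣ Nat.card (Subgroup.centralizer ({t} : Set G))) (P : Sylow p G) :
    ∃ u v : G, IsConj t u ∧ IsConj t v ∧ u * v ∈ P ∧ u * v ≠ 1 := by
  by_contra hcon
  push Not at hcon
  haveI : Fintype G := Fintype.ofFinite G
  haveI : Finite (Cfsg.IrrCharacter G) := irr_finite
  haveI : Fintype (Cfsg.IrrCharacter G) := Fintype.ofFinite _
  haveI : Fintype (P : Subgroup G) := Fintype.ofFinite _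
  obtain ⟨M, hM⟩ := exists_isPModular p hp.out
  have hMmax : M.IsMaximal := hM.2.1
  -- the counts
  have hzero : ∀ x : (P : Subgroup G), (x : G) ≠ 1 → (conjPairs t (x : G)).card = 0 := by
    intro x hx
    rw [Finset.card_eq_zero, Finset.eq_empty_iff_forall_notMem]
    intro q hq
    rw [mem_conjPairs] at hq
    have := hcon q.1 q.2 hq.1 hq.2.1 (by rw [hq.2.2]; exact x.2)
    rw [hq.2.2] at this
    exact hx this
  have hone : (conjPairs t 1).card = (Subgroup.centralizer ({t} : Set G)).index := by
    rw [← card_classFinset]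
    refine Finset.card_bij' (fun q _ => q.1) (fun u _ => (u, u⁻¹)) (hi := ?_) (hj := ?_)
      (left_inv := ?_) (right_inv := ?_)
    · intro q hq
      rw [mem_conjPairs] at hq
      rw [mem_classFinset]; exact hq.1
    · intro u hu
      rw [mem_classFinset] at hu
      rw [mem_conjPairs]
      refine ⟨hu, ?_, by simp⟩
      have htinv : t⁻¹ = t := inv_eq_of_mul_eq_one_right ht2
      obtain ⟨c, hc⟩ := isConj_iff.mp hu
      rw [isConj_iff]
      refine ⟨c, ?_⟩
      rw [← hc, conj_inv, htinv]
    · intro q hq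
      rw [mem_conjPairs] at hq
      apply Prod.ext
      · rfl
      · simp only []
        exact (eq_inv_of_mul_eq_one_right hq.2.2).symm
    · intro u _
      rfl
  -- the character identity
  have hsum : ∑ x : (P : Subgroup G), ((conjPairs t (x : G)).card : ℂ) *
      (Nat.card (Subgroup.centralizer ({t} : Set G)) : ℂ) = (Nat.card G : ℂ) := by
    rw [Finset.sum_eq_single (1 : (P : Subgroup G))]
    · rw [Subgroup.coe_one, hone]
      have := Subgroup.card_mul_index (Subgroup.centralizer ({t} : Set G))
      rw [mul_comm]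
      exact_mod_cast this
    · intro x _ hx
      have hx' : (x : G) ≠ 1 := fun h => hx (Subtype.ext h)
      rw [hzero x hx']; simp
    · intro h; exact absurd (Finset.mem_univ _) h
  choose n hn using fun χ : Cfsg.IrrCharacter G => exists_sum_subgroup_eq χ (P : Subgroup G)
  have hsum2 : (Nat.card G : ℂ) = (Nat.card (P : Subgroup G) : ℂ) *
      ∑ χ : Cfsg.IrrCharacter G,
        Cfsg.centralChar (χ : G → ℂ) t * (χ : G → ℂ) t * (n χ : ℂ) := by
    rw [← hsum]
    have h1 : ∀ x : (P : Subgroup G), ((conjPairs t (x : G)).card : ℂ) *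
        (Nat.card (Subgroup.centralizer ({t} : Set G)) : ℂ) =
        ∑ χ : Cfsg.IrrCharacter G,
          Cfsg.centralChar (χ : G → ℂ) t * (χ : G → ℂ) t * conj ((χ : G → ℂ) (x : G)) :=
      fun x => card_classPairs_mul_card_centralizer t (x : G)
    rw [Finset.sum_congr rfl (fun x _ => h1 x), Finset.sum_comm, Finset.mul_sum]
    apply Finset.sum_congr rfl
    intro χ _
    rw [← Finset.mul_sum]
    have h2 : ∑ x : (P : Subgroup G), conj ((χ : G → ℂ) (x : G)) =
        (Nat.card (P : Subgroup G) : ℂ) * (n χ : ℂ) := by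
      rw [← map_sum, hn χ]
      simp
    rw [h2]; ring
  -- the index of the Sylow subgroup lies in the local ideal
  have hidx : (Nat.card G : ℂ) = (Nat.card (P : Subgroup G) : ℂ) * ((P : Subgroup G).index : ℂ) := by
    have := Subgroup.card_mul_index (P : Subgroup G)
    exact_mod_cast this.symm
  have hP0 : (Nat.card (P : Subgroup G) : ℂ) ≠ 0 := by
    have : 0 < Nat.card (P : Subgroup G) := Nat.card_pos
    exact_mod_cast this.ne'
  have hkey : ((P : Subgroup G).index : ℂ) = ∑ χ : Cfsg.IrrCharacter G,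
      Cfsg.centralChar (χ : G → ℂ) t * (χ : G → ℂ) t * (n χ : ℂ) := by
    apply mul_left_cancel₀ hP0
    rw [← hidx, hsum2]
  have hmem : Cfsg.MemLocalIdeal M (((P : Subgroup G).index : ℕ) : ℂ) := by
    rw [hkey]
    apply MemLocalIdeal.sum hMmax
    intro χ _
    have h1 := centralChar_memLocalIdeal_of_not_defect_zero hM χ t htC (hA χ)
    have h2 : Cfsg.MemLocalRing M ((χ : G → ℂ) t * (n χ : ℂ)) := by
      apply memLocalRing_of_isIntegral hMmax
      exact (IsIrrCharacter.isIntegral_apply χ.2 t).mul (isIntegral_algebraMap (R := ℤ) (x := (n χ : ℤ)) |> fun h => by simpa using h)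
    have h3 : Cfsg.centralChar (χ : G → ℂ) t * (χ : G → ℂ) t * (n χ : ℂ) =
        ((χ : G → ℂ) t * (n χ : ℂ)) * Cfsg.centralChar (χ : G → ℂ) t := by ring
    rw [h3]
    exact MemLocalIdeal.mul_left hMmax h2 h1
  have hmem' : (((P : Subgroup G).index : ℕ) : Cfsg.AlgInt) ∈ M := by
    rw [← memLocalIdeal_coe_iff hMmax]
    simpa using hmem
  exact natCast_not_mem_of_not_dvd hMmax hp.out hM.2.2 P.not_dvd_index hmem'

end Cfsg.Agent.Helper6.BF
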