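import Mathlib
import Cfsg.Agent.Helper6.BFA

/-!
# Groups without elements of order `2p`: an involution normalizing a nontrivial `p`-subgroup
normalizes a Sylow `p`-subgroup
-/

set_option autoImplicit false
set_option linter.style.haveILetI false

namespace Cfsg.Agent.Helper6.BF

open scoped Pointwise

universe u

variable {G : Type u} [Group G]

/-- an automorphism of order at most two of a group of odd order stabilizes a Sylow subgroup -/
theorem exists_sylow_fixed_of_involutive {F : Type*} [Group F] [Finite F] (p : ℕ) [Fact p.Prime]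
    (hodd : ¬ 2 ∣ Nat.card F) (α : MulAut F) (hα : α * α = 1) :
    ∃ R : Sylow p F, ∀ r ∈ R, α r ∈ R := by
  haveI : Fact (Nat.Prime 2) := ⟨Nat.prime_two⟩
  have hZ : IsPGroup 2 (Subgroup.zpowers α) := by
    intro g
    refine ⟨1, ?_⟩
    obtain ⟨n, hn⟩ := Subgroup.mem_zpowers_iff.mp g.2
    apply Subtype.ext
    rw [pow_one, pow_two, Subgroup.coe_mul, Subgroup.coe_one, ← hn, ← zpow_add, ← two_mul, zpow_mul]
    have : α ^ (2 : ℤ) = 1 := by
      rw [zpow_ofNat, pow_two]; exact hα
    rw [this, one_zpow]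
  have hcard : ¬ 2 ∣ Nat.card (Sylow p F) := by
    intro h
    obtain ⟨R⟩ : Nonempty (Sylow p F) := inferInstance
    exact hodd (h.trans ((Sylow.card_dvd_index R).trans (Subgroup.index_dvd_card _)))
  obtain ⟨R, hR⟩ := hZ.nonempty_fixed_point_of_prime_not_dvd_card (Sylow p F) hcard
  refine ⟨R, ?_⟩
  intro r hr
  have h1 : (⟨α, Subgroup.mem_zpowers α⟩ : Subgroup.zpowers α) • R = R := hR _
  have h2 : α • (R : Subgroup F) = (R : Subgroup F) := by
    have := congrArg (fun S : Sylow p F => (S : Subgroup F)) h1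
    exact this
  have h3 : α • r ∈ α • (R : Subgroup F) := Subgroup.smul_mem_pointwise_smul r α _ hr
  rw [h2] at h3
  exact h3

/-- a group inverted elementwise by conjugation with some element is commutative -/
theorem commute_of_inverted (u : G) (Y : Subgroup G) (h : ∀ r ∈ Y, u * r * u⁻¹ = r⁻¹)
    (a b : G) (ha : a ∈ Y) (hb : b ∈ Y) : a * b = b * a := by
  have h1 := h (a * b) (Y.mul_mem ha hb)
  have h2 : u * (a * b) * u⁻¹ = (u * a * u⁻¹) * (u * b * u⁻¹) := by group
  rw [h2, h a ha, h b hb, mul_inv_rev] at h1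
  have h3 := congrArg (fun x => x⁻¹) h1
  simp only [mul_inv_rev, inv_inv] at h3
  exact h3.symm

set_option maxHeartbeats 1600000 in
/-- without elements of order `2p`, an involution normalizing a nontrivial `p`-subgroup normalizes a
Sylow `p`-subgroup -/
theorem exists_sylow_normalized [Finite G] (p : ℕ) [hp : Fact p.Prime] (hp2 : p ≠ 2)
    (h2p : ∀ g : G, orderOf g ≠ 2 * p) (u : G) (hu : orderOf u = 2) (Y₀ : Subgroup G)
    (hY₀ : IsPGroup p Y₀) (hY₀1 : Y₀ ≠ ⊥) (huY₀ : u ∈ Subgroup.normalizer (Y₀ : Set G)) :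
    ∃ P : Sylow p G, u ∈ Subgroup.normalizer ((P : Subgroup G) : Set G) := by
  classical
  have huu : u * u = 1 := by
    have := pow_orderOf_eq_one u
    rw [hu, pow_two] at this
    exact this
  have huinv : u⁻¹ = u := inv_eq_of_mul_eq_one_right huu
  -- a `p`-subgroup of maximal order normalized by `u`
  obtain ⟨Y, ⟨hYp, huY⟩, hYmax⟩ := Set.exists_max_image
    {Y : Subgroup G | IsPGroup p Y ∧ u ∈ Subgroup.normalizer (Y : Set G)}
    (fun Y : Subgroup G => Nat.card Y) (Set.toFinite _) ⟨Y₀, hY₀, huY₀⟩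
  have hYmax' : ∀ R : Subgroup G, IsPGroup p R → u ∈ Subgroup.normalizer (R : Set G) →
      Nat.card R ≤ Nat.card Y := fun R h1 h2 => hYmax R ⟨h1, h2⟩
  have hY1 : Y ≠ ⊥ := by
    intro h
    have h1 := hYmax' Y₀ hY₀ huY₀
    rw [h, Subgroup.card_bot] at h1
    have h2 : Nat.card Y₀ = 1 := le_antisymm h1 Nat.card_pos
    exact hY₀1 (Subgroup.card_eq_one.mp h2)
  obtain ⟨P, hYP⟩ := hYp.exists_le_sylow
  by_cases hYeq : Y = (P : Subgroup G)
  · exact ⟨P, by rw [← hYeq]; exact huY⟩
  exfalso
  have hYlt : Y < (P : Subgroup G) := lt_of_le_of_ne hYP hYeq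
  -- the inversion
  have hinv := inverts_of_normalizes p hp2 h2p u hu Y hYp huY
  have hYcomm := commute_of_inverted u Y hinv
  -- an element of `P` outside `Y` normalizing `Y`
  obtain ⟨y, hyP, hyY, hyN⟩ : ∃ y : G, y ∈ (P : Subgroup G) ∧ y ∉ Y ∧
      ∀ w ∈ Y, y * w * y⁻¹ ∈ Y := by
    haveI : Group.IsNilpotent (P : Subgroup G) := P.isPGroup'.isNilpotent
    have hnc := Group.normalizerCondition_of_isNilpotent (G := (P : Subgroup G))
    have hlt : Y.subgroupOf (P : Subgroup G) < ⊤ := by
      rw [lt_top_iff_ne_top, Ne, Subgroup.subgroupOf_eq_top]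
      exact fun h => hYeq (le_antisymm hYP h)
    have h1 := hnc _ hlt
    obtain ⟨y', hy'N, hy'Y⟩ := SetLike.exists_of_lt h1
    refine ⟨(y' : G), y'.2, ?_, ?_⟩
    · intro h
      exact hy'Y (Subgroup.mem_subgroupOf.mpr h)
    · intro w hw
      rw [Subgroup.mem_normalizer_iff] at hy'N
      have := (hy'N ⟨w, hYP hw⟩).mp (Subgroup.mem_subgroupOf.mpr hw)
      rw [Subgroup.mem_subgroupOf] at this
      simpa using this
  -- `zpowers y` acts on `Y` by conjugation
  have hzN : ∀ g ∈ Subgroup.zpowers y, ∀ w ∈ Y, g * w * g⁻¹ ∈ Y := by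
    intro g hg
    obtain ⟨n, rfl⟩ := Subgroup.mem_zpowers_iff.mp hg
    have hpos : ∀ m : ℕ, ∀ w ∈ Y, y ^ m * w * (y ^ m)⁻¹ ∈ Y := by
      intro m
      induction m with
      | zero => intro w hw; simpa using hw
      | succ m ih =>
        intro w hw
        have : y ^ (m + 1) * w * (y ^ (m + 1))⁻¹ = y * (y ^ m * w * (y ^ m)⁻¹) * y⁻¹ := by
          rw [pow_succ']; group
        rw [this]
        exact hyN _ (ih w hw)
    -- finite order: negative powers are positive powers
    have hfin : ∀ n : ℤ, ∃ m : ℕ, y ^ n = y ^ m := by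
      intro n
      have hy0 : 0 < orderOf y := orderOf_pos y
      refine ⟨(n % (orderOf y : ℤ)).toNat, ?_⟩
      rw [← zpow_natCast, Int.toNat_of_nonneg (Int.emod_nonneg _ (by exact_mod_cast hy0.ne')),
        zpow_mod_orderOf]
    obtain ⟨m, hm⟩ := hfin n
    rw [hm]
    exact hpos m
  letI act : MulAction (Subgroup.zpowers y) Y :=
    { smul := fun g w => ⟨(g : G) * (w : G) * (g : G)⁻¹, hzN g g.2 w w.2⟩
      one_smul := by
        intro w
        apply Subtype.ext
        show ((1 : Subgroup.zpowers y) : G) * (w : G) * ((1 : Subgroup.zpowers y) : G)⁻¹ = w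
        simp
      mul_smul := by
        intro g h w
        apply Subtype.ext
        show ((g * h : Subgroup.zpowers y) : G) * (w : G) * ((g * h : Subgroup.zpowers y) : G)⁻¹ =
          (g : G) * ((h : G) * (w : G) * (h : G)⁻¹) * (g : G)⁻¹
        rw [Subgroup.coe_mul]
        group }
  have hsmul : ∀ (g : Subgroup.zpowers y) (w : Y), ((g • w : Y) : G) = (g : G) * w * (g : G)⁻¹ :=
    fun _ _ => rfl
  have hzp : IsPGroup p (Subgroup.zpowers y) :=
    P.isPGroup'.to_le (Subgroup.zpowers_le.mpr hyP)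
  have hpY : p ∣ Nat.card Y := by
    obtain ⟨n, hn⟩ := IsPGroup.iff_card.mp hYp
    have hn0 : n ≠ 0 := by
      intro h
      rw [h, pow_zero] at hn
      exact hY1 (Subgroup.card_eq_one.mp hn)
    rw [hn]
    exact dvd_pow_self p hn0
  have hfix1 : (1 : Y) ∈ MulAction.fixedPoints (Subgroup.zpowers y) Y := by
    intro g
    apply Subtype.ext
    rw [hsmul]
    simp
  obtain ⟨z', hz'fix, hz'1⟩ := hzp.exists_fixed_point_of_prime_dvd_card_of_fixed_point Y hpY hfix1
  obtain ⟨z, hzY, hz1, hzy⟩ : ∃ z : G, z ∈ Y ∧ z ≠ 1 ∧ y * z * y⁻¹ = z := by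
    refine ⟨(z' : G), z'.2, ?_, ?_⟩
    · intro h
      exact hz'1 (Subtype.ext h).symm
    · have := hz'fix ⟨y, Subgroup.mem_zpowers y⟩
      have h2 := congrArg (fun w : Y => (w : G)) this
      simpa [hsmul] using h2
  -- the centralizer of `z`
  have hzord : ∃ k : ℕ, orderOf z = p ^ k := by
    obtain ⟨k, hk⟩ := (IsPGroup.iff_orderOf.mp hYp) ⟨z, hzY⟩
    exact ⟨k, by rw [← hk, ← Subgroup.orderOf_coe]⟩
  set F : Subgroup G := Subgroup.centralizer ({z} : Set G) with hF
  have hFodd : ¬ 2 ∣ Nat.card F := not_two_dvd_card_centralizer_pElement p hp2 h2p z hz1 hzord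
  have hmemF : ∀ g : G, g ∈ F ↔ g * z = z * g := by
    intro g
    rw [hF, Subgroup.mem_centralizer_iff]
    constructor
    · intro h; exact (h z (Set.mem_singleton z)).symm
    · intro h w hw
      rw [Set.mem_singleton_iff] at hw
      rw [hw]; exact h.symm
  have hYF : Y ≤ F := by
    intro w hw
    rw [hmemF]
    exact hYcomm w z hw hzY
  have hyF : y ∈ F := by
    rw [hmemF]
    calc y * z = (y * z * y⁻¹) * y := by group
      _ = z * y := by rw [hzy]
  have huz : u * z * u = z⁻¹ := by
    have := hinv z hzY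
    rwa [huinv] at this
  have huF : ∀ f ∈ F, u * f * u ∈ F := by
    intro f hf
    rw [hmemF] at hf ⊢
    -- `u f u z = u f z⁻¹ u = u z⁻¹ f u = z u f u`
    have h1 : u * z = z⁻¹ * u := by
      calc u * z = (u * z * u) * u⁻¹ := by group
        _ = z⁻¹ * u := by rw [huz, huinv]
    have h2 : u * z⁻¹ = z * u := by
      have : z = u * z⁻¹ * u := by
        have := congrArg (fun x => x⁻¹) huz
        simp only [mul_inv_rev, inv_inv, huinv] at this
        rw [← mul_assoc] at this
        exact this.symm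
      calc u * z⁻¹ = (u * z⁻¹ * u) * u⁻¹ := by group
        _ = z * u := by rw [← this, huinv]
    have hf' : f * z⁻¹ = z⁻¹ * f := by
      calc f * z⁻¹ = z⁻¹ * (z * f) * z⁻¹ := by group
        _ = z⁻¹ * (f * z) * z⁻¹ := by rw [hf]
        _ = z⁻¹ * f := by group
    calc u * f * u * z = u * f * (u * z) := by group
      _ = u * f * (z⁻¹ * u) := by rw [h1]
      _ = u * (f * z⁻¹) * u := by group
      _ = u * (z⁻¹ * f) * u := by rw [hf']
      _ = (u * z⁻¹) * f * u := by group
      _ = (z * u) * f * u := by rw [h2]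
      _ = z * (u * f * u) := by group
  -- the automorphism of `F`
  let α : MulAut F :=
    { toFun := fun f => ⟨u * f * u, huF f f.2⟩
      invFun := fun f => ⟨u * f * u, huF f f.2⟩
      left_inv := by
        intro f
        apply Subtype.ext
        show u * (u * (f : G) * u) * u = f
        calc u * (u * (f : G) * u) * u = (u * u) * f * (u * u) := by group
          _ = f := by rw [huu]; simp
      right_inv := by
        intro f
        apply Subtype.ext
        show u * (u * (f : G) * u) * u = f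
        calc u * (u * (f : G) * u) * u = (u * u) * f * (u * u) := by group
          _ = f := by rw [huu]; simp
      map_mul' := by
        intro a b
        apply Subtype.ext
        show u * ((a * b : F) : G) * u = (u * (a : G) * u) * (u * (b : G) * u)
        rw [Subgroup.coe_mul]
        calc u * ((a : G) * (b : G)) * u = u * (a : G) * (1 : G) * (b : G) * u := by group
          _ = u * (a : G) * (u * u) * (b : G) * u := by rw [huu]
          _ = (u * (a : G) * u) * (u * (b : G) * u) := by group }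
  have hα : ∀ f : F, ((α f : F) : G) = u * f * u := fun _ => rfl
  have hαα : α * α = 1 := by
    ext f
    show ((α (α f) : F) : G) = f
    rw [hα, hα]
    calc u * (u * (f : G) * u) * u = (u * u) * f * (u * u) := by group
      _ = f := by rw [huu]; simp
  obtain ⟨R, hR⟩ := exists_sylow_fixed_of_involutive p hFodd α hαα
  -- back in `G`
  set R₀ : Subgroup G := (R : Subgroup F).map F.subtype with hR₀
  have hR₀p : IsPGroup p R₀ := R.isPGroup'.map _
  have hfwd : ∀ g ∈ R₀, u * g * u ∈ R₀ := by
    intro g hg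
    rw [hR₀, Subgroup.mem_map] at hg
    obtain ⟨r, hr, rfl⟩ := hg
    rw [hR₀, Subgroup.mem_map]
    exact ⟨α r, hR r hr, rfl⟩
  have huR₀ : u ∈ Subgroup.normalizer (R₀ : Set G) := by
    rw [Subgroup.mem_normalizer_iff]
    intro g
    rw [huinv]
    constructor
    · exact hfwd g
    · intro hg
      have := hfwd _ hg
      have e : u * (u * g * u) * u = g := by
        calc u * (u * g * u) * u = (u * u) * g * (u * u) := by group
          _ = g := by rw [huu]; simp
      rwa [e] at this
  have hcardR₀ : Nat.card R₀ = Nat.card (R : Subgroup F) := by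
    rw [hR₀]
    exact Subgroup.card_map_of_injective F.subtype_injective
  -- a `p`-subgroup of `F` larger than `Y`
  set Y' : Subgroup G := (P : Subgroup G) ⊓ F with hY'
  have hY'p : IsPGroup p Y' := P.isPGroup'.to_le inf_le_left
  have hYY' : Y ≤ Y' := le_inf hYP hYF
  have hyY' : y ∈ Y' := ⟨hyP, hyF⟩
  have hcardYY' : Nat.card Y < Nat.card Y' := by
    by_contra hle
    rw [not_lt] at hle
    have := Subgroup.eq_of_le_of_card_ge hYY' hle
    rw [← this] at hyY'
    exact hyY hyY'
  have hcardY'R : Nat.card Y' ≤ Nat.card (R : Subgroup F) := by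
    rw [Sylow.card_eq_multiplicity]
    obtain ⟨n, hn⟩ := IsPGroup.iff_card.mp hY'p
    rw [hn]
    apply Nat.pow_le_pow_right hp.out.pos
    have hdvd : p ^ n ∣ Nat.card F := by
      rw [← hn]
      exact Subgroup.card_dvd_of_le inf_le_right
    exact (hp.out.pow_dvd_iff_le_factorization Nat.card_pos.ne').mp hdvd
  have := hYmax' R₀ hR₀p huR₀
  omega

end Cfsg.Agent.Helper6.BF
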