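import Mathlib
import Cfsg.Prelude.Def_Characters
import Cfsg.Prelude.Def_Blocks
import Cfsg.Agent.Helper6.BFA
import Cfsg.Agent.Helper6.BFB
import Cfsg.Agent.Helper6.BFC
import Cfsg.Agent.Helper6.OddReal

/-!
# The theorem of Brauer and Fowler on groups without elements of order `2p`
-/

set_option autoImplicit false
set_option linter.style.haveILetI false

namespace Cfsg.Agent.Helper6.BF

open Cfsg.Agent.Helper6

open scoped Pointwise

universe u

variable {G : Type u} [Group G]

/-- conjugating a normalizing element along a conjugation of Sylow subgroups -/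
theorem conj_mem_normalizer_smul (p : ℕ) (Q : Sylow p G) (g u : G)
    (hu : u ∈ Subgroup.normalizer ((Q : Subgroup G) : Set G)) :
    g * u * g⁻¹ ∈ Subgroup.normalizer (((g • Q : Sylow p G) : Subgroup G) : Set G) := by
  rw [Subgroup.mem_normalizer_iff] at hu ⊢
  intro h
  rw [Sylow.coe_subgroup_smul, Subgroup.mem_pointwise_smul_iff_inv_smul_mem,
    Subgroup.mem_pointwise_smul_iff_inv_smul_mem]
  simp only [MulAut.smul_def, MulAut.conj_inv_apply]
  rw [hu (g⁻¹ * h * g)]
  have : g⁻¹ * (g * u * g⁻¹ * h * (g * u * g⁻¹)⁻¹) * g = u * (g⁻¹ * h * g) * u⁻¹ := by group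
  rw [this]

set_option maxHeartbeats 1600000 in
/-- **Brauer–Fowler**: a group of even order without elements of order `2p` (`p` odd) has an
irreducible character of `p`-defect zero, or its Sylow `p`-subgroups are abelian and all its
involutions are conjugate -/
theorem brauer_fowler [Finite G] (p : ℕ) [hp : Fact p.Prime] (hp2 : p ≠ 2)
    (hG : Even (Nat.card G)) (h2p : ∀ g : G, orderOf g ≠ 2 * p) :
    (∃ χ : Cfsg.IrrCharacter G,
      (Cfsg.charDegree (χ : G → ℂ)).factorization p = (Nat.card G).factorization p) ∨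
    ((∀ P : Sylow p G, IsMulCommutative ↥(P : Subgroup G)) ∧
      ∀ s t : G, orderOf s = 2 → orderOf t = 2 → IsConj s t) := by
  by_cases hdz : ∃ χ : Cfsg.IrrCharacter G,
      (Cfsg.charDegree (χ : G → ℂ)).factorization p = (Nat.card G).factorization p
  · exact Or.inl hdz
  right
  have hA : ∀ χ : Cfsg.IrrCharacter G,
      (Cfsg.charDegree (χ : G → ℂ)).factorization p ≠ (Nat.card G).factorization p :=
    fun χ h => hdz ⟨χ, h⟩
  -- `p` divides the order
  have hpG : p ∣ Nat.card G := by
    by_contra hnd
    apply hA ⟨fun _ => (1 : ℂ), isIrrCharacter_one⟩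
    have h1 : Cfsg.charDegree (fun _ : G => (1 : ℂ)) = 1 := by
      unfold Cfsg.charDegree
      simp
    rw [h1, Nat.factorization_one, Finsupp.zero_apply, Nat.factorization_eq_zero_of_not_dvd hnd]
  -- every involution has a conjugate in the normalizer of any Sylow subgroup
  have key : ∀ t : G, orderOf t = 2 → ∀ P : Sylow p G,
      ∃ t' : G, IsConj t t' ∧ t' ∈ Subgroup.normalizer ((P : Subgroup G) : Set G) := by
    intro t ht P
    have htt : t * t = 1 := by
      have := pow_orderOf_eq_one t
      rw [ht, pow_two] at this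
      exact this
    have htC : ¬ p ∣ Nat.card (Subgroup.centralizer ({t} : Set G)) := by
      intro hdvd
      obtain ⟨z, hz⟩ := exists_prime_orderOf_dvd_card' (G := Subgroup.centralizer ({t} : Set G)) p hdvd
      have hz' : orderOf (z : G) = p := by rw [Subgroup.orderOf_coe]; exact hz
      have hcomm : Commute t (z : G) := by
        have := z.2
        rw [Subgroup.mem_centralizer_iff] at this
        exact (this t (Set.mem_singleton t))
      have hz1 : (z : G) ≠ 1 := by
        intro h
        rw [h, orderOf_one] at hz'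
        exact hp.out.one_lt.ne hz'
      exact not_commute_involution_pElement p hp2 h2p t (z : G) ht hz1 ⟨1, by rw [hz', pow_one]⟩ hcomm
    obtain ⟨u, v, htu, htv, huvP, huv1⟩ := exists_conj_pair_mul_mem_sylow p hA t htt htC P
    have huord : orderOf u = 2 := by
      obtain ⟨c, hc⟩ := htu
      rw [← ht]
      exact (SemiconjBy.orderOf_eq (c : G) hc).symm
    have hvord : orderOf v = 2 := by
      obtain ⟨c, hc⟩ := htv
      rw [← ht]
      exact (SemiconjBy.orderOf_eq (c : G) hc).symm
    have huu : u * u = 1 := by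
      have := pow_orderOf_eq_one u
      rw [huord, pow_two] at this
      exact this
    have hvv : v * v = 1 := by
      have := pow_orderOf_eq_one v
      rw [hvord, pow_two] at this
      exact this
    have huinv : u⁻¹ = u := inv_eq_of_mul_eq_one_right huu
    have hvinv : v⁻¹ = v := inv_eq_of_mul_eq_one_right hvv
    obtain ⟨x, hx⟩ : ∃ x : G, x = u * v := ⟨_, rfl⟩
    have hux : u * x * u⁻¹ = x⁻¹ := by
      rw [hx, mul_inv_rev, huinv, hvinv]
      calc u * (u * v) * u = (u * u) * v * u := by group
        _ = v * u := by rw [huu, one_mul]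
    have hxP : x ∈ (P : Subgroup G) := by rw [hx]; exact huvP
    have hx1 : x ≠ 1 := by rw [hx]; exact huv1
    -- `u` normalizes the cyclic group generated by `x`
    have hpow : ∀ n : ℤ, u * x ^ n * u⁻¹ = (x ^ n)⁻¹ := by
      intro n
      have h1 : u * x ^ n * u⁻¹ = (u * x * u⁻¹) ^ n := by
        rw [conj_zpow]
      rw [h1, hux, inv_zpow]
    have huN : u ∈ Subgroup.normalizer ((Subgroup.zpowers x : Subgroup G) : Set G) := by
      rw [Subgroup.mem_normalizer_iff]
      intro h
      constructor
      · intro hh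
        obtain ⟨n, rfl⟩ := Subgroup.mem_zpowers_iff.mp hh
        rw [hpow]
        exact (Subgroup.zpowers x).inv_mem (Subgroup.zpow_mem_zpowers x n)
      · intro hh
        obtain ⟨n, hn⟩ := Subgroup.mem_zpowers_iff.mp hh
        have h2 : h = u * (x ^ n) * u⁻¹ := by
          rw [hn, huinv]
          calc h = (u * u) * h * (u * u) := by rw [huu]; simp
            _ = u * (u * h * u) * u := by group
        rw [h2, hpow]
        exact (Subgroup.zpowers x).inv_mem (Subgroup.zpow_mem_zpowers x n)
    have hzp : IsPGroup p (Subgroup.zpowers x) :=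
      P.isPGroup'.to_le (Subgroup.zpowers_le.mpr hxP)
    have hzne : Subgroup.zpowers x ≠ ⊥ := by
      intro h
      rw [Subgroup.zpowers_eq_bot] at h
      exact hx1 h
    obtain ⟨Q, hQ⟩ := exists_sylow_normalized p hp2 h2p u huord (Subgroup.zpowers x) hzp hzne huN
    obtain ⟨g, hg⟩ := MulAction.exists_smul_eq G Q P
    refine ⟨g * u * g⁻¹, ?_, ?_⟩
    · exact htu.trans (isConj_iff.mpr ⟨g, rfl⟩)
    · rw [← hg]
      exact conj_mem_normalizer_smul p Q g u hQ
  -- an involution exists
  haveI : Fact (Nat.Prime 2) := ⟨Nat.prime_two⟩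
  obtain ⟨t₀, ht₀⟩ := exists_prime_orderOf_dvd_card' (G := G) 2 (even_iff_two_dvd.mp hG)
  have hinvP : ∀ t : G, orderOf t = 2 → ∀ P : Sylow p G,
      t ∈ Subgroup.normalizer ((P : Subgroup G) : Set G) →
      ∀ r ∈ (P : Subgroup G), t * r * t⁻¹ = r⁻¹ :=
    fun t ht P hN => inverts_of_normalizes p hp2 h2p t ht (P : Subgroup G) P.isPGroup' hN
  constructor
  · intro P
    obtain ⟨t', hconj, hN⟩ := key t₀ ht₀ P
    have ht' : orderOf t' = 2 := by
      obtain ⟨c, hc⟩ := hconj
      rw [← ht₀]
      exact (SemiconjBy.orderOf_eq (c : G) hc).symm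
    have hcomm := commute_of_inverted t' (P : Subgroup G) (hinvP t' ht' P hN)
    exact ⟨⟨fun a b => Subtype.ext (hcomm a b a.2 b.2)⟩⟩
  · intro s t hs ht
    obtain ⟨P⟩ : Nonempty (Sylow p G) := inferInstance
    obtain ⟨s', hss', hsN⟩ := key s hs P
    obtain ⟨t', htt', htN⟩ := key t ht P
    have hs' : orderOf s' = 2 := by
      obtain ⟨c, hc⟩ := hss'
      rw [← hs]
      exact (SemiconjBy.orderOf_eq (c : G) hc).symm
    have ht' : orderOf t' = 2 := by
      obtain ⟨c, hc⟩ := htt'
      rw [← ht]
      exact (SemiconjBy.orderOf_eq (c : G) hc).symm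
    have hs's' : s' * s' = 1 := by
      have := pow_orderOf_eq_one s'
      rw [hs', pow_two] at this
      exact this
    have ht't' : t' * t' = 1 := by
      have := pow_orderOf_eq_one t'
      rw [ht', pow_two] at this
      exact this
    -- a nontrivial element of `P`
    have hPne : (P : Subgroup G) ≠ ⊥ := P.ne_bot_of_dvd_card hpG
    obtain ⟨z, hzP, hz1⟩ := (Subgroup.ne_bot_iff_exists_ne_one.mp hPne |> fun ⟨z, hz⟩ =>
      (⟨(z : G), z.2, fun h => hz (Subtype.ext h)⟩ : ∃ z : G, z ∈ (P : Subgroup G) ∧ z ≠ 1))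
    have hzord : ∃ k : ℕ, orderOf z = p ^ k := by
      obtain ⟨k, hk⟩ := (IsPGroup.iff_orderOf.mp P.isPGroup') ⟨z, hzP⟩
      exact ⟨k, by rw [← hk, ← Subgroup.orderOf_coe]⟩
    have hodd := not_two_dvd_card_centralizer_pElement p hp2 h2p z hz1 hzord
    have h1 := hinvP s' hs' P hsN
    have h2 := hinvP t' ht' P htN
    have hmem : s' * t' ∈ Subgroup.centralizer ({z} : Set G) := by
      rw [Subgroup.mem_centralizer_iff]
      intro w hw
      rw [Set.mem_singleton_iff] at hw
      subst hw
      have e1 : t' * w * t'⁻¹ = w⁻¹ := h2 w hzP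
      have e2 : s' * w⁻¹ * s'⁻¹ = w := by
        have := h1 w⁻¹ ((P : Subgroup G).inv_mem hzP)
        rwa [inv_inv] at this
      have e3 : (s' * t') * w * (s' * t')⁻¹ = w := by
        calc (s' * t') * w * (s' * t')⁻¹ = s' * (t' * w * t'⁻¹) * s'⁻¹ := by group
          _ = w := by rw [e1, e2]
      calc w * (s' * t') = ((s' * t') * w * (s' * t')⁻¹) * (s' * t') := by rw [e3]
        _ = (s' * t') * w := by group
    have hoddord : Odd (orderOf (s' * t')) := by
      have hdvd : orderOf (s' * t') ∣ Nat.card (Subgroup.centralizer ({z} : Set G)) := by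
        have := orderOf_dvd_natCard (⟨s' * t', hmem⟩ : Subgroup.centralizer ({z} : Set G))
        rwa [← Subgroup.orderOf_coe] at this
      rw [← Nat.not_even_iff_odd, even_iff_two_dvd]
      exact fun h => hodd (h.trans hdvd)
    have hc := isConj_of_odd_orderOf_mul s' t' hs's' ht't' hoddord
    exact (hss'.trans hc).trans htt'.symm

end Cfsg.Agent.Helper6.BF
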