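import Mathlib
import Cfsg.Prelude.Def_Characters
import Cfsg.Prelude.Def_Blocks
import Cfsg.Agent.Helper6.BLdA
import Cfsg.Agent.Helper6.BLeoH

/-!
# Brauer–Leonard (degree bound): constituents in the principal block
-/

set_option autoImplicit false
set_option linter.style.haveILetI false

namespace Cfsg.Agent.Helper6.BLd

open scoped ComplexConjugate

universe u

/-- The arithmetic contradiction for an exceptional character with a trivial constituent on
`P`. -/
theorem arith_contra {I : Type*} [DecidableEq I] (B Y : Finset I) (hYB : Y ⊆ B) (o : I)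
    (ho : o ∈ B) (hoY : o ∉ Y) (ξ : I) (hξ : ξ ∈ Y) (v deg : I → ℤ)
    (hdeg : ∀ η ∈ B, 0 < deg η) (a e : ℤ) (ha : 1 ≤ a) (he : 1 ≤ e)
    (hYv : ∀ η ∈ Y, v η = -a) (hvo : v o = -1)
    (hS : ∑ η ∈ B, v η ^ 2 = e + 2 * a) (ht : e + 1 ≤ (Y.card : ℤ))
    (hrel : ∑ η ∈ B, (v η + if η = ξ then 1 else 0) * deg η = 0) : False := by
  have hsub : insert o Y ⊆ B := Finset.insert_subset ho hYB
  have hsplit : ∑ η ∈ B, v η ^ 2 = ∑ η ∈ insert o Y, v η ^ 2 + ∑ η ∈ B \ insert o Y, v η ^ 2 := by
    rw [← Finset.sum_sdiff hsub]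
    ring
  have hY2 : ∑ η ∈ insert o Y, v η ^ 2 = 1 + (Y.card : ℤ) * a ^ 2 := by
    rw [Finset.sum_insert hoY, hvo]
    have : ∑ η ∈ Y, v η ^ 2 = ∑ _η ∈ Y, a ^ 2 := by
      apply Finset.sum_congr rfl
      intro η hη
      rw [hYv η hη]
      ring
    rw [this, Finset.sum_const, nsmul_eq_mul]
    ring
  have hR0 : 0 ≤ ∑ η ∈ B \ insert o Y, v η ^ 2 :=
    Finset.sum_nonneg (fun η _ => sq_nonneg _)
  have h1 : 1 + (Y.card : ℤ) * a ^ 2 + ∑ η ∈ B \ insert o Y, v η ^ 2 = e + 2 * a := by
    rw [← hY2, ← hsplit, hS]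
  have ha1 : a = 1 := by
    by_contra hne
    have ha2 : 2 ≤ a := by omega
    have h4 := mul_le_mul_of_nonneg_right ht (sq_nonneg a)
    have h5 : 2 * a ≤ a ^ 2 := by nlinarith
    have h6 : (e + 1) * (2 * a) ≤ (e + 1) * a ^ 2 :=
      mul_le_mul_of_nonneg_left h5 (by linarith)
    have h7 : 2 * e ≤ e * a := by nlinarith
    nlinarith
  subst ha1
  have hRz : ∑ η ∈ B \ insert o Y, v η ^ 2 = 0 := by
    have : (Y.card : ℤ) * 1 ^ 2 = (Y.card : ℤ) := by ring
    rw [this] at h1
    linarith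
  have hRv : ∀ η ∈ B \ insert o Y, v η = 0 := by
    intro η hη
    have := (Finset.sum_eq_zero_iff_of_nonneg (fun η _ => sq_nonneg (v η))).mp hRz η hη
    exact pow_eq_zero_iff (two_ne_zero) |>.mp this
  have hterm : ∀ η ∈ B.erase o, (v η + if η = ξ then 1 else 0) * deg η ≤ 0 := by
    intro η hη
    have hηB := Finset.mem_of_mem_erase hη
    have hηo := Finset.ne_of_mem_erase hη
    have hd := hdeg η hηB
    by_cases hηY : η ∈ Y
    · rw [hYv η hηY]
      split_ifs
      · simp
      · nlinarith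
    · have hηR : η ∈ B \ insert o Y := by
        rw [Finset.mem_sdiff, Finset.mem_insert]
        exact ⟨hηB, fun h => h.elim hηo hηY⟩
      rw [hRv η hηR, if_neg (fun h : η = ξ => hηY (h ▸ hξ))]
      simp
  have hoξ : o ≠ ξ := fun h => hoY (h ▸ hξ)
  rw [← Finset.add_sum_erase B _ ho, hvo, if_neg hoξ] at hrel
  have h2 := Finset.sum_nonpos hterm
  have h3 := hdeg o ho
  linarith

variable {G : Type u} [Group G] {M : Ideal Cfsg.AlgInt}

open BLeo in
open Classical in
/-- A character of the principal block of small "excess" degree either has `P` in its kernel or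
has no trivial constituent on `P`. -/
theorem principal_constituent [Finite G] {p : ℕ} [hp : Fact p.Prime] (hM : Cfsg.IsPModular p M)
    (P : Sylow p G)
    (hab : ∀ a ∈ (P : Subgroup G), ∀ b ∈ (P : Subgroup G), a * b = b * a)
    (hfrob : ∀ y : G, y ∈ (P : Subgroup G) → y ≠ 1 →
      Subgroup.centralizer ({y} : Set G) ⊓ Subgroup.normalizer ((P : Subgroup G) : Set G) =
        Subgroup.centralizer ((P : Subgroup G) : Set G))
    (he : (Subgroup.centralizer ((P : Subgroup G) : Set G)).relIndex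
        (Subgroup.normalizer ((P : Subgroup G) : Set G)) *
      (Subgroup.centralizer ((P : Subgroup G) : Set G)).relIndex
        (Subgroup.normalizer ((P : Subgroup G) : Set G)) + 1 < Nat.card ↥(P : Subgroup G))
    [Fintype ↥(P : Subgroup G)]
    (ξ : Cfsg.IrrCharacter G) (hξ : ξ ∈ Cfsg.principalBlock M G) (a : ℕ)
    (ha : Cfsg.classInner (fun y : ↥(P : Subgroup G) => (ξ : G → ℂ) (y : G))
      (fun y : ↥(P : Subgroup G) => (((1 : ↥(P : Subgroup G) →* ℂˣ) y : ℂˣ) : ℂ)) = (a : ℂ))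
    (hH : Cfsg.charDegree (ξ : G → ℂ) +
      (Subgroup.centralizer ((P : Subgroup G) : Set G)).relIndex
        (Subgroup.normalizer ((P : Subgroup G) : Set G)) + 1 < Nat.card ↥(P : Subgroup G) + a) :
    (∀ y ∈ (P : Subgroup G), (ξ : G → ℂ) y = (ξ : G → ℂ) 1) ∨ a = 0 := by
  obtain ⟨e, hedef⟩ : ∃ e : ℕ, e = (Subgroup.centralizer ((P : Subgroup G) : Set G)).relIndex
      (Subgroup.normalizer ((P : Subgroup G) : Set G)) := ⟨_, rfl⟩
  obtain ⟨q, hqdef⟩ : ∃ q : ℕ, q = Nat.card ↥(P : Subgroup G) := ⟨_, rfl⟩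
  rw [← hedef, ← hqdef] at he hH
  have he1 : 1 ≤ e := by
    rw [hedef, Nat.one_le_iff_ne_zero]
    exact Subgroup.index_ne_zero_of_finite
  have hab' : ∀ a b : ↥(P : Subgroup G), a * b = b * a := fun a b =>
    Subtype.ext (hab a a.2 b b.2)
  have hfree := free_of_frob (P : Subgroup G) hfrob
  have hm2' : (Subgroup.centralizer ((P : Subgroup G) : Set G)).relIndex
      (Subgroup.normalizer ((P : Subgroup G) : Set G)) + 1 < Nat.card ↥(P : Subgroup G) := by
    rw [← hedef, ← hqdef]
    nlinarith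
  obtain ⟨ε, v, Θ, hε, hΘB, hcoef, hΘiff, hnorm⟩ := structure_in_group hM P hab hfrob hm2'
  haveI : Finite (↥(P : Subgroup G) →* ℂˣ) := finite_hom_units
  haveI : Fintype (↥(P : Subgroup G) →* ℂˣ) := Fintype.ofFinite _
  haveI : Finite (Cfsg.IrrCharacter G) := irr_finite
  haveI : Fintype (Cfsg.IrrCharacter G) := Fintype.ofFinite _
  obtain ⟨l₀, μ₀, hl₀, hμ₀, hnrel⟩ := exists_not_rel (P : Subgroup G) hab' hfree hm2'
  have hRel := rel_equivalence (P : Subgroup G)
  have hξc := IsIrrCharacter.isCharacter ξ.2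
  obtain ⟨μ, hμ⟩ := exists_mult (P : Subgroup G) (ξ : G → ℂ) hξc
  have hμ1 : μ 1 = a := by
    have := hμ 1
    rw [ha] at this
    exact_mod_cast this.symm
  -- the sum of the multiplicities
  have hsum : ∑ l, μ l = Cfsg.charDegree (ξ : G → ℂ) := by
    have h1 := sum_classInner_hom hab' (fun y : ↥(P : Subgroup G) => (ξ : G → ℂ) (y : G))
    simp only [hμ, Subgroup.coe_one] at h1
    rw [← charDegree_cast_of_isCharacter hξc] at h1
    exact_mod_cast h1
  -- the multiplicities in terms of the structure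
  have hμl : ∀ l, l ≠ 1 → (μ l : ℤ) = v ξ + (if ξ = Θ l then ε else 0) + a := by
    intro l hl
    have h1 := hcoef l hl ξ hξ
    rw [coef_eq_classInner_sub, hμ, ha] at h1
    have h2 : ((μ l : ℤ) : ℂ) = ((v ξ + (if ξ = Θ l then ε else 0) + a : ℤ) : ℂ) := by
      push_cast
      push_cast at h1
      linear_combination h1
    exact_mod_cast h2
  -- the number of non-principal linear characters
  have hcardΛ : ((Finset.univ : Finset (↥(P : Subgroup G) →* ℂˣ)).erase 1).card = q - 1 := by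
    rw [Finset.card_erase_of_mem (Finset.mem_univ _), Finset.card_univ,
      ← Nat.card_eq_fintype_card, card_hom_units_of_comm hab', hqdef]
  have hq2 : 2 ≤ q := by nlinarith
  obtain ⟨c, hc⟩ : ∃ c : ℤ, c = v ξ + a := ⟨_, rfl⟩
  -- the degree formula
  have hdegZ : (Cfsg.charDegree (ξ : G → ℂ) : ℤ) = a + ((q - 1 : ℕ) : ℤ) * c +
      ε * (((Finset.univ : Finset (↥(P : Subgroup G) →* ℂˣ)).erase 1).filter
        (fun l => ξ = Θ l)).card := by
    rw [← hsum, ← Finset.add_sum_erase Finset.univ μ (Finset.mem_univ 1), hμ1]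
    push_cast
    have h1 : ∑ l ∈ (Finset.univ : Finset (↥(P : Subgroup G) →* ℂˣ)).erase 1, (μ l : ℤ) =
        ∑ l ∈ (Finset.univ : Finset (↥(P : Subgroup G) →* ℂˣ)).erase 1,
          (c + if ξ = Θ l then ε else 0) := by
      apply Finset.sum_congr rfl
      intro l hl
      rw [hμl l (Finset.ne_of_mem_erase hl), hc]
      ring
    rw [h1, Finset.sum_add_distrib, Finset.sum_const, hcardΛ, Finset.sum_ite,
      Finset.sum_const, Finset.sum_const_zero, nsmul_eq_mul, nsmul_eq_mul]
    push_cast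
    ring
  by_cases hex : ∃ l, l ≠ 1 ∧ ξ = Θ l
  · -- the exceptional case
    obtain ⟨k₀, hk₀, hξΘ⟩ := hex
    have hfilt : (((Finset.univ : Finset (↥(P : Subgroup G) →* ℂˣ)).erase 1).filter
        (fun l => ξ = Θ l)).card = e := by
      rw [hedef, ← card_filter_rel (P : Subgroup G) hfree k₀ hk₀]
      congr 1
      ext l
      simp only [Finset.mem_filter, Finset.mem_erase, Finset.mem_univ, and_true, true_and]
      constructor
      · rintro ⟨hl, h⟩
        exact (hΘiff k₀ l hk₀ hl).mp (hξΘ.symm.trans h)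
      · intro h
        have hl := ne_one_of_rel (P : Subgroup G) k₀ l hk₀ h
        exact ⟨hl, hξΘ.trans ((hΘiff k₀ l hk₀ hl).mpr h)⟩
    rw [hfilt] at hdegZ
    obtain ⟨l₁, hl₁, hnr⟩ : ∃ l₁ : ↥(P : Subgroup G) →* ℂˣ, l₁ ≠ 1 ∧
        ¬ ∃ n : G, n ∈ Subgroup.normalizer ((P : Subgroup G) : Set G) ∧
          ∀ w w' : ↥(P : Subgroup G), (w' : G) = n * w * n⁻¹ → l₁ w' = k₀ w := by
      by_cases h1 : ∃ n : G, n ∈ Subgroup.normalizer ((P : Subgroup G) : Set G) ∧
          ∀ w w' : ↥(P : Subgroup G), (w' : G) = n * w * n⁻¹ → l₀ w' = k₀ w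
      · exact ⟨μ₀, hμ₀, fun h2 => hnrel (hRel.trans (hRel.symm h1) h2)⟩
      · exact ⟨l₀, hl₀, h1⟩
    have hξl₁ : ξ ≠ Θ l₁ := fun h => hnr ((hΘiff k₀ l₁ hk₀ hl₁).mp (hξΘ.symm.trans h))
    have hc0 : 0 ≤ c := by
      have := hμl l₁ hl₁
      rw [if_neg hξl₁, add_zero, ← hc] at this
      rw [← this]
      exact Int.natCast_nonneg _
    have hεge : -1 ≤ ε := by rcases hε with h | h <;> rw [h] <;> norm_num
    have hH' : (Cfsg.charDegree (ξ : G → ℂ) : ℤ) + e + 1 < q + a := by exact_mod_cast hH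
    have hq1 : ((q - 1 : ℕ) : ℤ) = (q : ℤ) - 1 := by
      rw [Nat.cast_sub (by omega)]
      simp
    have hczero : c = 0 := by
      by_contra hne
      have hc1 : 1 ≤ c := by omega
      have h2 : (q : ℤ) - 1 ≤ ((q : ℤ) - 1) * c := by
        have : (0 : ℤ) ≤ (q : ℤ) - 1 := by
          have : (2 : ℤ) ≤ q := by exact_mod_cast hq2
          linarith
        nlinarith
      have h3 : -(e : ℤ) ≤ ε * e := by
        have : (0 : ℤ) ≤ e := Int.natCast_nonneg _
        nlinarith
      rw [hq1] at hdegZ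
      linarith
    have hε1 : ε = 1 := by
      have := hμl k₀ hk₀
      rw [if_pos hξΘ] at this
      have h0 : (0 : ℤ) ≤ (μ k₀ : ℤ) := Int.natCast_nonneg _
      rcases hε with h | h
      · exact h
      · rw [h] at this
        omega
    right
    by_contra ha0
    have ha1 : (1 : ℤ) ≤ a := by
      have : 1 ≤ a := Nat.one_le_iff_ne_zero.mpr ha0
      exact_mod_cast this
    have hvξ : v ξ = -(a : ℤ) := by
      rw [hczero] at hc
      linarith
    have hvΘ : ∀ l, l ≠ 1 → v (Θ l) = -(a : ℤ) := by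
      intro l hl
      have h1 := hnorm l hl
      have h2 := hnorm k₀ hk₀
      rw [hε1] at h1 h2
      rw [← hξΘ, hvξ] at h2
      linarith
    have htB : trivIrr G ∈ Cfsg.principalBlock M G := trivIrr_mem_principalBlock hM.2.1
    have htY : ∀ l, l ≠ 1 → trivIrr G ≠ Θ l := by
      intro l hl hΘl
      obtain ⟨l', hl', hnr'⟩ : ∃ l' : ↥(P : Subgroup G) →* ℂˣ, l' ≠ 1 ∧
          ¬ ∃ n : G, n ∈ Subgroup.normalizer ((P : Subgroup G) : Set G) ∧
            ∀ w w' : ↥(P : Subgroup G), (w' : G) = n * w * n⁻¹ → l' w' = l w := by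
        by_cases h1 : ∃ n : G, n ∈ Subgroup.normalizer ((P : Subgroup G) : Set G) ∧
            ∀ w w' : ↥(P : Subgroup G), (w' : G) = n * w * n⁻¹ → l₀ w' = l w
        · exact ⟨μ₀, hμ₀, fun h2 => hnrel (hRel.trans (hRel.symm h1) h2)⟩
        · exact ⟨l₀, hl₀, h1⟩
      have h1 := hcoef l hl (trivIrr G) htB
      have h2 := hcoef l' hl' (trivIrr G) htB
      have e1 : coef (P : Subgroup G) ((trivIrr G : Cfsg.IrrCharacter G) : G → ℂ) l = -1 :=
        coef_triv (P : Subgroup G) l hl
      have e2 : coef (P : Subgroup G) ((trivIrr G : Cfsg.IrrCharacter G) : G → ℂ) l' = -1 :=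
        coef_triv (P : Subgroup G) l' hl'
      rw [e1, if_pos hΘl] at h1
      rw [e2, if_neg (fun h => hnr' ((hΘiff l l' hl hl').mp (hΘl.symm.trans h)))] at h2
      have h1' : (-1 : ℤ) = v (trivIrr G) + ε := by exact_mod_cast h1
      have h2' : (-1 : ℤ) = v (trivIrr G) + 0 := by exact_mod_cast h2
      rw [hε1] at h1'
      omega
    have hvo : v (trivIrr G) = -1 := by
      have h1 := hcoef l₀ hl₀ (trivIrr G) htB
      have e1 : coef (P : Subgroup G) ((trivIrr G : Cfsg.IrrCharacter G) : G → ℂ) l₀ = -1 :=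
        coef_triv (P : Subgroup G) l₀ hl₀
      rw [e1, if_neg (htY l₀ hl₀)] at h1
      have h1' : (-1 : ℤ) = v (trivIrr G) + 0 := by exact_mod_cast h1
      omega
    -- the fibres of `Θ`
    have hfib : ∀ l, l ≠ 1 → (((Finset.univ : Finset (↥(P : Subgroup G) →* ℂˣ)).erase 1).filter
        (fun l' => Θ l' = Θ l)).card = e := by
      intro l hl
      rw [hedef, ← card_filter_rel (P : Subgroup G) hfree l hl]
      congr 1
      ext l'
      simp only [Finset.mem_filter, Finset.mem_erase, Finset.mem_univ, and_true, true_and]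
      constructor
      · rintro ⟨hl', h⟩
        exact (hΘiff l l' hl hl').mp h.symm
      · intro h
        have hl' := ne_one_of_rel (P : Subgroup G) l l' hl h
        exact ⟨hl', ((hΘiff l l' hl hl').mpr h).symm⟩
    have hcardY : q - 1 = (((Finset.univ : Finset (↥(P : Subgroup G) →* ℂˣ)).erase 1).image Θ).card
        * e := by
      rw [← hcardΛ, Finset.card_eq_sum_card_image Θ, Finset.sum_const_nat]
      intro η hη
      obtain ⟨l, hl, rfl⟩ := Finset.mem_image.mp hη
      exact hfib l (Finset.ne_of_mem_erase hl)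
    have ht : (e : ℤ) + 1 ≤
        ((((Finset.univ : Finset (↥(P : Subgroup G) →* ℂˣ)).erase 1).image Θ).card : ℤ) := by
      have h1 : e * e < (((Finset.univ : Finset (↥(P : Subgroup G) →* ℂˣ)).erase 1).image Θ).card
          * e := by
        rw [← hcardY]
        omega
      have h2 := Nat.lt_of_mul_lt_mul_right h1
      exact_mod_cast h2
    -- the norm equation
    have hS : ∑ η ∈ (Cfsg.principalBlock M G).toFinset, v η ^ 2 = (e : ℤ) + 2 * (a : ℤ) := by
      have h1 := hnorm k₀ hk₀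
      rw [hε1, ← hξΘ, hvξ, ← hedef, finsum_mem_eq_toFinset_sum] at h1
      linarith
    -- the degree equation
    have h1ord : ¬ p ∣ orderOf (1 : G) := by
      rw [orderOf_one]
      exact hp.1.one_lt.ne' ∘ Nat.dvd_one.mp
    have hrel : ∑ η ∈ (Cfsg.principalBlock M G).toFinset, (v η + if η = ξ then 1 else 0) *
        (Cfsg.charDegree (η : G → ℂ) : ℤ) = 0 := by
      have h := sum_coef_mul_regular hM (P : Subgroup G) P.2 k₀ 1 h1ord
      rw [finsum_mem_eq_toFinset_sum] at h
      have h2 : ∑ η ∈ (Cfsg.principalBlock M G).toFinset,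
          coef (P : Subgroup G) (η : G → ℂ) k₀ * (η : G → ℂ) 1 =
          ((∑ η ∈ (Cfsg.principalBlock M G).toFinset, (v η + if η = ξ then 1 else 0) *
            (Cfsg.charDegree (η : G → ℂ) : ℤ) : ℤ) : ℂ) := by
        rw [Int.cast_sum]
        apply Finset.sum_congr rfl
        intro η hη
        rw [hcoef k₀ hk₀ η (Set.mem_toFinset.mp hη), ← hξΘ, hε1,
          ← charDegree_cast_of_isCharacter (IsIrrCharacter.isCharacter η.2)]
        push_cast
        rfl
      rw [h2] at h
      exact_mod_cast h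
    refine arith_contra (Cfsg.principalBlock M G).toFinset
      (((Finset.univ : Finset (↥(P : Subgroup G) →* ℂˣ)).erase 1).image Θ) ?_ (trivIrr G)
      (Set.mem_toFinset.mpr htB) ?_ ξ ?_ v (fun η => (Cfsg.charDegree (η : G → ℂ) : ℤ)) ?_
      (a : ℤ) (e : ℤ) ha1 (by exact_mod_cast he1) ?_ hvo hS ht hrel
    · intro η hη
      obtain ⟨l, hl, rfl⟩ := Finset.mem_image.mp hη
      exact Set.mem_toFinset.mpr (hΘB l (Finset.ne_of_mem_erase hl))
    · intro hη
      obtain ⟨l, hl, h⟩ := Finset.mem_image.mp hη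
      exact htY l (Finset.ne_of_mem_erase hl) h.symm
    · exact Finset.mem_image.mpr ⟨k₀, Finset.mem_erase.mpr ⟨hk₀, Finset.mem_univ _⟩, hξΘ.symm⟩
    · intro η _
      have := charDegree_ne_zero_of_irr η.2
      exact_mod_cast Nat.pos_of_ne_zero this
    · intro η hη
      obtain ⟨l, hl, rfl⟩ := Finset.mem_image.mp hη
      exact hvΘ l (Finset.ne_of_mem_erase hl)
  · -- the non-exceptional case
    left
    have hfilt : (((Finset.univ : Finset (↥(P : Subgroup G) →* ℂˣ)).erase 1).filter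
        (fun l => ξ = Θ l)) = ∅ := by
      apply Finset.filter_eq_empty_iff.mpr
      intro l hl h
      exact hex ⟨l, Finset.ne_of_mem_erase hl, h⟩
    rw [hfilt, Finset.card_empty] at hdegZ
    have hc0 : 0 ≤ c := by
      have := hμl l₀ hl₀
      rw [if_neg (fun h => hex ⟨l₀, hl₀, h⟩), add_zero, ← hc] at this
      rw [← this]
      exact Int.natCast_nonneg _
    have hH' : (Cfsg.charDegree (ξ : G → ℂ) : ℤ) + e + 1 < q + a := by exact_mod_cast hH
    have hq1 : ((q - 1 : ℕ) : ℤ) = (q : ℤ) - 1 := by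
      rw [Nat.cast_sub (by omega)]
      simp
    have hczero : c = 0 := by
      by_contra hne
      have hc1 : 1 ≤ c := by omega
      have h2 : (q : ℤ) - 1 ≤ ((q : ℤ) - 1) * c := by
        have : (0 : ℤ) ≤ (q : ℤ) - 1 := by
          have : (2 : ℤ) ≤ q := by exact_mod_cast hq2
          linarith
        nlinarith
      have : (0 : ℤ) ≤ e := Int.natCast_nonneg _
      rw [hq1] at hdegZ
      simp only [Nat.cast_zero, mul_zero, add_zero] at hdegZ
      linarith
    have hμ0 : ∀ l, l ≠ 1 → μ l = 0 := by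
      intro l hl
      have := hμl l hl
      rw [if_neg (fun h => hex ⟨l, hl, h⟩), add_zero, ← hc, hczero] at this
      exact_mod_cast this
    have hval : ∀ y : ↥(P : Subgroup G), (ξ : G → ℂ) (y : G) = (a : ℂ) := by
      intro y
      have h1 := fourier_inversion hab' (fun y : ↥(P : Subgroup G) => (ξ : G → ℂ) (y : G)) y
      simp only [hμ] at h1
      rw [h1, Finset.sum_eq_single (1 : ↥(P : Subgroup G) →* ℂˣ)]
      · rw [hμ1]
        simp
      · intro l _ hl
        rw [hμ0 l hl]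
        simp
      · intro h
        exact absurd (Finset.mem_univ _) h
    intro y hy
    have h1 := hval ⟨y, hy⟩
    have h2 := hval 1
    simp only [Subgroup.coe_one] at h1 h2
    rw [h1, h2]

end Cfsg.Agent.Helper6.BLd
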