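import Mathlib
import Cfsg.Prelude.Def_Characters
import Cfsg.Prelude.Def_Blocks
import Cfsg.Prelude.Def_Local
import Cfsg.Agent.Helper6.BLeoE
import Cfsg.Agent.Helper6.Gallagher
import Cfsg.Agent.Helper6.InducedPart

/-!
# Brauer–Leonard (degree bound): characters outside the principal block
-/

set_option autoImplicit false
set_option linter.style.haveILetI false

namespace Cfsg.Agent.Helper6.BLd

open scoped ComplexConjugate

universe u

variable {G : Type u} [Group G] {M : Ideal Cfsg.AlgInt}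

open Classical in
/-- The idempotent coefficients of the principal block of a group with a normal
`p`-complement. -/
theorem blockCoeff_principal_of_pNilpotent {X : Type u} [Group X] [Finite X] {p : ℕ}
    [hp : Fact p.Prime] (hM : Cfsg.IsPModular p M)
    (hidx : ∃ k : ℕ, (Cfsg.pPrimeCore p X).index = p ^ k) (g : X) :
    Cfsg.blockCoeff (Cfsg.principalBlock M X) g =
      if g ∈ Cfsg.pPrimeCore p X then
        (Nat.card X : ℂ)⁻¹ * ((Cfsg.pPrimeCore p X).index : ℂ) else 0 := by
  haveI : Finite (Cfsg.IrrCharacter X) := irr_finite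
  haveI : Fintype (Cfsg.IrrCharacter X) := Fintype.ofFinite _
  unfold Cfsg.blockCoeff
  rw [finsum_mem_eq_sum_ite]
  have h1 : ∑ χ : Cfsg.IrrCharacter X, (if χ ∈ Cfsg.principalBlock M X then
      (χ : X → ℂ) 1 * conj ((χ : X → ℂ) g) else 0) =
      ∑ χ ∈ Finset.univ.filter (fun χ : Cfsg.IrrCharacter X =>
        ∀ n ∈ Cfsg.pPrimeCore p X, (χ : X → ℂ) n = (χ : X → ℂ) 1),
        (χ : X → ℂ) 1 * (χ : X → ℂ) g⁻¹ := by
    rw [Finset.sum_filter]
    apply Finset.sum_congr rfl
    intro χ _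
    rw [IsCharacter.inv_eq_conj (IsIrrCharacter.isCharacter χ.2)]
    apply if_congr (mem_principalBlock_iff_of_pNilpotent hM hidx χ) rfl rfl
  rw [h1, sum_degree_mul_irr_of_le_ker (Cfsg.pPrimeCore p X) g⁻¹]
  by_cases hg : g ∈ Cfsg.pPrimeCore p X
  · rw [if_pos hg, if_pos (Subgroup.inv_mem _ hg)]
  · rw [if_neg hg, if_neg (fun h => hg (by simpa using Subgroup.inv_mem _ h)), mul_zero]

/-- The principal block of a subgroup does not induce a non-principal block. -/
theorem not_isInducedBlock_principal [Finite G] {p : ℕ} [hp : Fact p.Prime]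
    (hM : Cfsg.IsPModular p M) (H : Subgroup G)
    (hdef : Cfsg.InducedBlockDefined M H (Cfsg.principalBlock M H))
    (ξ : Cfsg.IrrCharacter G) (hξ : ξ ∉ Cfsg.principalBlock M G) :
    ¬ Cfsg.IsInducedBlock M H (Cfsg.principalBlock M H) (Cfsg.blockOf M (ξ : G → ℂ)) := by
  intro h
  have h0 : Cfsg.IsInducedBlock M H (Cfsg.principalBlock M H) (Cfsg.principalBlock M G) :=
    (third_main hM H _ hdef).mpr rfl
  apply hξ
  intro g
  have h1 := h.2.2 (trivIrr H) (trivIrr_mem_principalBlock hM.2.1) ξ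
    (mem_blockOf_self hM.2.1 ξ) g
  have h2 := h0.2.2 (trivIrr H) (trivIrr_mem_principalBlock hM.2.1) (trivIrr G)
    (trivIrr_mem_principalBlock hM.2.1) g
  have h3 := MemLocalIdeal.sub hM.2.1 h1 h2
  have e : Cfsg.inducedCentralChar H ((trivIrr H : Cfsg.IrrCharacter H) : H → ℂ) g -
      Cfsg.centralChar (ξ : G → ℂ) g -
      (Cfsg.inducedCentralChar H ((trivIrr H : Cfsg.IrrCharacter H) : H → ℂ) g -
        Cfsg.centralChar ((trivIrr G : Cfsg.IrrCharacter G) : G → ℂ) g) =
      Cfsg.centralChar (fun _ : G => (1 : ℂ)) g - Cfsg.centralChar (ξ : G → ℂ) g := by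
    change _ = Cfsg.centralChar ((trivIrr G : Cfsg.IrrCharacter G) : G → ℂ) g - _
    ring
  rw [e] at h3
  exact h3

open Classical in
/-- Second main theorem, for a character outside the principal block and a `p`-element with
`p`-nilpotent centralizer: the sum over the coset `y * O_{p'}(C(y))` vanishes. -/
theorem sum_core_section_eq_zero [Finite G] {p : ℕ} [hp : Fact p.Prime]
    (hM : Cfsg.IsPModular p M) (y : G) (hy : ∃ k : ℕ, orderOf y = p ^ k)
    (H : Subgroup G) (hH : H = Subgroup.centralizer ({y} : Set G))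
    (hidx : ∃ k : ℕ, (Cfsg.pPrimeCore p ↥H).index = p ^ k)
    (ξ : Cfsg.IrrCharacter G) (hξ : ξ ∉ Cfsg.principalBlock M G)
    [Fintype ↥(Cfsg.pPrimeCore p ↥H)] :
    ∑ k : ↥(Cfsg.pPrimeCore p ↥H), (ξ : G → ℂ) (y * ((k : ↥H) : G)) = 0 := by
  subst hH
  haveI : Fintype ↥(Subgroup.centralizer ({y} : Set G)) := Fintype.ofFinite _
  have hdef := inducedBlockDefined_centralizer hM y hy
    (Cfsg.principalBlock M ↥(Subgroup.centralizer ({y} : Set G))) (isPBlock_principalBlock _)
  have hnot := not_isInducedBlock_principal hM _ hdef ξ hξ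
  have h1ord : ¬ p ∣ orderOf (1 : ↥(Subgroup.centralizer ({y} : Set G))) := by
    rw [orderOf_one]
    exact hp.1.one_lt.ne' ∘ Nat.dvd_one.mp
  have h := second_main hM y hy (Cfsg.blockOf M (ξ : G → ℂ)) ⟨ξ, rfl⟩ ξ
    (mem_blockOf_self hM.2.1 ξ) _ (isPBlock_principalBlock _) hnot 1 h1ord
  rw [blockPart_one_eq_sum] at h
  simp only [blockCoeff_principal_of_pNilpotent hM hidx] at h
  have h2 : ∑ g : ↥(Subgroup.centralizer ({y} : Set G)),
      (if g ∈ Cfsg.pPrimeCore p ↥(Subgroup.centralizer ({y} : Set G)) then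
        (Nat.card ↥(Subgroup.centralizer ({y} : Set G)) : ℂ)⁻¹ *
          ((Cfsg.pPrimeCore p ↥(Subgroup.centralizer ({y} : Set G))).index : ℂ) else 0) *
        (ξ : G → ℂ) (y * (g : G)) =
      ((Nat.card ↥(Subgroup.centralizer ({y} : Set G)) : ℂ)⁻¹ *
          ((Cfsg.pPrimeCore p ↥(Subgroup.centralizer ({y} : Set G))).index : ℂ)) *
        ∑ k : ↥(Cfsg.pPrimeCore p ↥(Subgroup.centralizer ({y} : Set G))),
          (ξ : G → ℂ) (y * ((k : ↥(Subgroup.centralizer ({y} : Set G))) : G)) := by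
    rw [Finset.mul_sum, ← Finset.sum_subtype (Finset.univ.filter
      (fun g : ↥(Subgroup.centralizer ({y} : Set G)) =>
        g ∈ Cfsg.pPrimeCore p ↥(Subgroup.centralizer ({y} : Set G)))) (by simp)
      (fun g => (Nat.card ↥(Subgroup.centralizer ({y} : Set G)) : ℂ)⁻¹ *
          ((Cfsg.pPrimeCore p ↥(Subgroup.centralizer ({y} : Set G))).index : ℂ) *
        (ξ : G → ℂ) (y * (g : G))), Finset.sum_filter]
    apply Finset.sum_congr rfl
    intro g _
    split_ifs
    · rfl
    · rw [zero_mul]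
  rw [h2] at h
  have hc0 : (Nat.card ↥(Subgroup.centralizer ({y} : Set G)) : ℂ)⁻¹ *
      ((Cfsg.pPrimeCore p ↥(Subgroup.centralizer ({y} : Set G))).index : ℂ) ≠ 0 := by
    apply mul_ne_zero
    · apply inv_ne_zero
      exact_mod_cast (Nat.card_pos (α := ↥(Subgroup.centralizer ({y} : Set G)))).ne'
    · have : (Cfsg.pPrimeCore p ↥(Subgroup.centralizer ({y} : Set G))).index ≠ 0 :=
        Subgroup.index_ne_zero_of_finite
      exact_mod_cast this
  exact (mul_eq_zero.mp h).resolve_left hc0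

end Cfsg.Agent.Helper6.BLd
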