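import Mathlib
import Cfsg.Prelude.Def_Characters
import Cfsg.Prelude.Def_Blocks
import Cfsg.Prelude.Def_Local
import Cfsg.Agent.Helper6.BLdC
import Cfsg.Agent.Helper6.TILeoC
import Cfsg.Agent.Helper1.Fitting

/-!
# Brauer–Leonard (degree bound): no trivial constituent on the centralizer outside the
principal block
-/

set_option autoImplicit false
set_option linter.style.haveILetI false

namespace Cfsg.Agent.Helper6.BLd

open scoped ComplexConjugate

universe u

variable {G : Type u} [Group G] {M : Ideal Cfsg.AlgInt}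

/-- The order of a `p`-nilpotent subgroup containing a Sylow subgroup. -/
theorem card_core_mul_card_sylow [Finite G] {p : ℕ} [hp : Fact p.Prime] (P : Sylow p G)
    (C : Subgroup G) (hPC : (P : Subgroup G) ≤ C)
    (hidx : ∃ k : ℕ, (Cfsg.pPrimeCore p ↥C).index = p ^ k) :
    Nat.card ↥(Cfsg.pPrimeCore p ↥C) * Nat.card ↥(P : Subgroup G) = Nat.card ↥C := by
  obtain ⟨k, hk⟩ := hidx
  have hKcop : (Nat.card ↥(Cfsg.pPrimeCore p ↥C)).Coprime p :=
    Helper1.card_pPrimeCore_coprime p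
  have h1 : (Cfsg.pPrimeCore p ↥C).index * Nat.card ↥(Cfsg.pPrimeCore p ↥C) = Nat.card ↥C :=
    Subgroup.index_mul_card _
  have hK0 : Nat.card ↥(Cfsg.pPrimeCore p ↥C) ≠ 0 := Nat.card_pos.ne'
  have hnd : ¬ p ∣ Nat.card ↥(Cfsg.pPrimeCore p ↥C) := by
    intro h
    have := Nat.Coprime.eq_one_of_dvd hKcop.symm h
    exact hp.out.one_lt.ne' this
  have hfac : (Nat.card ↥C).factorization p = k := by
    rw [← h1, hk, Nat.factorization_mul (pow_ne_zero _ hp.out.ne_zero) hK0,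
      hp.out.factorization_pow]
    simp [Nat.factorization_eq_zero_of_not_dvd hnd]
  have h2 : Nat.card ↥((P.subtype hPC : Sylow p ↥C) : Subgroup ↥C) =
      p ^ (Nat.card ↥C).factorization p := (P.subtype hPC).card_eq_multiplicity
  rw [Sylow.coe_subtype, hfac] at h2
  have h3 : Nat.card ↥((P : Subgroup G).subgroupOf C) = Nat.card ↥(P : Subgroup G) :=
    Nat.card_congr (Subgroup.subgroupOfEquivOfLe hPC).toEquiv
  rw [← h3, h2, ← hk, mul_comm]
  exact h1

open Classical in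
/-- The sum of a character outside the principal block over a `p`-nilpotent subgroup `C`
centralizing `P` and equal to the centralizer of each non-identity element of `P`. -/
theorem sum_centralizer_eq_sum_core [Finite G] {p : ℕ} [hp : Fact p.Prime]
    (hM : Cfsg.IsPModular p M) (P : Sylow p G) (C : Subgroup G)
    (hPC : (P : Subgroup G) ≤ C)
    (hcent : ∀ y ∈ (P : Subgroup G), ∀ c ∈ C, y * c = c * y)
    (hCy : ∀ y ∈ (P : Subgroup G), y ≠ 1 → C = Subgroup.centralizer ({y} : Set G))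
    (hidx : ∃ k : ℕ, (Cfsg.pPrimeCore p ↥C).index = p ^ k)
    (ξ : Cfsg.IrrCharacter G) (hξ : ξ ∉ Cfsg.principalBlock M G)
    [Fintype ↥C] [Fintype ↥(Cfsg.pPrimeCore p ↥C)] :
    ∑ c : ↥C, (ξ : G → ℂ) (c : G) =
      ∑ k : ↥(Cfsg.pPrimeCore p ↥C), (ξ : G → ℂ) ((k : ↥C) : G) := by
  haveI : Fintype ↥((P : Subgroup G).subgroupOf C) := Fintype.ofFinite _
  have hKcop : (Nat.card ↥(Cfsg.pPrimeCore p ↥C)).Coprime p :=
    Helper1.card_pPrimeCore_coprime p
  have h3 : Nat.card ↥((P : Subgroup G).subgroupOf C) = Nat.card ↥(P : Subgroup G) :=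
    Nat.card_congr (Subgroup.subgroupOfEquivOfLe hPC).toEquiv
  obtain ⟨n, hn⟩ := (IsPGroup.iff_card.mp P.2)
  have hcompl : (Cfsg.pPrimeCore p ↥C).IsComplement' ((P : Subgroup G).subgroupOf C) := by
    apply Subgroup.isComplement'_of_coprime
    · rw [h3]
      exact card_core_mul_card_sylow P C hPC hidx
    · rw [h3, hn]
      exact Nat.Coprime.pow_right n hKcop
  have hbij : Function.Bijective
      (fun x : ↥(Cfsg.pPrimeCore p ↥C) × ↥((P : Subgroup G).subgroupOf C) =>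
        (x.1 : ↥C) * (x.2 : ↥C)) := hcompl
  rw [← hbij.sum_comp (fun c : ↥C => (ξ : G → ℂ) (c : G)), Fintype.sum_prod_type_right,
    Fintype.sum_eq_single (1 : ↥((P : Subgroup G).subgroupOf C))]
  · apply Finset.sum_congr rfl
    intro k _
    simp
  · intro y hy
    have hyP : ((y : ↥C) : G) ∈ (P : Subgroup G) := Subgroup.mem_subgroupOf.mp y.2
    have hy1 : ((y : ↥C) : G) ≠ 1 := by
      intro h
      apply hy
      apply Subtype.ext
      apply Subtype.ext
      exact h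
    have hyord : ∃ k : ℕ, orderOf ((y : ↥C) : G) = p ^ k := by
      obtain ⟨k, hk⟩ := (IsPGroup.iff_orderOf.mp P.2) ⟨((y : ↥C) : G), hyP⟩
      exact ⟨k, by rw [← hk, Subgroup.orderOf_mk]⟩
    have h0 := sum_core_section_eq_zero hM ((y : ↥C) : G) hyord C (hCy _ hyP hy1) hidx ξ hξ
    rw [← h0]
    apply Finset.sum_congr rfl
    intro k _
    change (ξ : G → ℂ) ((((k : ↥C) * (y : ↥C) : ↥C)) : G) = _
    rw [Subgroup.coe_mul, hcent _ hyP _ (k : ↥C).2]

open Classical in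
/-- A character of degree less than `|P|` outside the principal block has no trivial constituent
on `C`. -/
theorem classInner_centralizer_eq_zero [Finite G] {p : ℕ} [hp : Fact p.Prime]
    (hM : Cfsg.IsPModular p M) (P : Sylow p G) (C : Subgroup G)
    (hPC : (P : Subgroup G) ≤ C)
    (hcent : ∀ y ∈ (P : Subgroup G), ∀ c ∈ C, y * c = c * y)
    (hCy : ∀ y ∈ (P : Subgroup G), y ≠ 1 → C = Subgroup.centralizer ({y} : Set G))
    (hidx : ∃ k : ℕ, (Cfsg.pPrimeCore p ↥C).index = p ^ k)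
    (ξ : Cfsg.IrrCharacter G) (hξ : ξ ∉ Cfsg.principalBlock M G)
    (hdeg : Cfsg.charDegree (ξ : G → ℂ) < Nat.card ↥(P : Subgroup G))
    [Fintype ↥C] :
    Cfsg.classInner (fun c : ↥C => (ξ : G → ℂ) (c : G)) (fun _ : ↥C => (1 : ℂ)) = 0 := by
  haveI : Fintype ↥(Cfsg.pPrimeCore p ↥C) := Fintype.ofFinite _
  have hξc := IsIrrCharacter.isCharacter ξ.2
  obtain ⟨m, hm⟩ := classInner_char_char_nat (IsCharacter.restrict C hξc)
    (isCharacter_one (G := ↥C))
  rw [hm]
  have hC0 : (Nat.card ↥C : ℂ) ≠ 0 := by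
    exact_mod_cast (Nat.card_pos (α := ↥C)).ne'
  have h1 : (m : ℂ) * (Nat.card ↥C : ℂ) =
      ∑ k : ↥(Cfsg.pPrimeCore p ↥C), (ξ : G → ℂ) ((k : ↥C) : G) := by
    rw [← hm, Cfsg.classInner, ← sum_centralizer_eq_sum_core hM P C hPC hcent hCy hidx ξ hξ]
    simp only [map_one, mul_one]
    field_simp
  have h2 : ‖∑ k : ↥(Cfsg.pPrimeCore p ↥C), (ξ : G → ℂ) ((k : ↥C) : G)‖ ≤
      (Nat.card ↥(Cfsg.pPrimeCore p ↥C) : ℝ) * (Cfsg.charDegree (ξ : G → ℂ) : ℝ) := by
    calc ‖∑ k : ↥(Cfsg.pPrimeCore p ↥C), (ξ : G → ℂ) ((k : ↥C) : G)‖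
        ≤ ∑ k : ↥(Cfsg.pPrimeCore p ↥C), ‖(ξ : G → ℂ) ((k : ↥C) : G)‖ := norm_sum_le _ _
      _ ≤ ∑ _k : ↥(Cfsg.pPrimeCore p ↥C), (Cfsg.charDegree (ξ : G → ℂ) : ℝ) := by
          apply Finset.sum_le_sum
          intro k _
          have := IsCharacter.norm_le_one hξc ((k : ↥C) : G)
          rw [← charDegree_cast_of_isCharacter hξc, Complex.norm_natCast] at this
          exact this
      _ = (Nat.card ↥(Cfsg.pPrimeCore p ↥C) : ℝ) * (Cfsg.charDegree (ξ : G → ℂ) : ℝ) := by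
          rw [Finset.sum_const, Finset.card_univ, nsmul_eq_mul, Nat.card_eq_fintype_card]
  rw [← h1, norm_mul, Complex.norm_natCast, Complex.norm_natCast,
    ← card_core_mul_card_sylow P C hPC hidx] at h2
  have h3 : m * (Nat.card ↥(Cfsg.pPrimeCore p ↥C) * Nat.card ↥(P : Subgroup G)) ≤
      Nat.card ↥(Cfsg.pPrimeCore p ↥C) * Cfsg.charDegree (ξ : G → ℂ) := by
    exact_mod_cast h2
  have hK0 : 0 < Nat.card ↥(Cfsg.pPrimeCore p ↥C) := Nat.card_pos
  have h4 : m * Nat.card ↥(P : Subgroup G) ≤ Cfsg.charDegree (ξ : G → ℂ) := by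
    apply Nat.le_of_mul_le_mul_left _ hK0
    calc Nat.card ↥(Cfsg.pPrimeCore p ↥C) * (m * Nat.card ↥(P : Subgroup G))
        = m * (Nat.card ↥(Cfsg.pPrimeCore p ↥C) * Nat.card ↥(P : Subgroup G)) := by ring
      _ ≤ _ := h3
  have hm0 : m = 0 := by
    by_contra hne
    have : 1 ≤ m := Nat.one_le_iff_ne_zero.mpr hne
    nlinarith
  rw [hm0, Nat.cast_zero]

end Cfsg.Agent.Helper6.BLd
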