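import Mathlib
import Cfsg.Prelude.Def_Characters
import Cfsg.Agent.Helper6.GlaubW
import Cfsg.Agent.Helper6.GlaubS
import Cfsg.Agent.Helper6.GlaubO

/-!
# Invariance under a `p`-group of automorphisms all of whose non-identity elements have the same
fixed points
-/

set_option autoImplicit false
set_option linter.style.haveILetI false

namespace Cfsg.Agent.Helper6

universe u

/-- If `B ≤ A` are coprime `p`-groups of automorphisms of `G` with the same fixed points, every
`B`-invariant irreducible character is `A`-invariant. -/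
theorem invUnder_of_same_fixed {G : Type u} [Group G] [Fintype G] {p : ℕ} [hp : Fact p.Prime]
    (A B : Subgroup (MulAut G)) (hBA : B ≤ A) (hA : IsPGroup p A) (hcop : ¬ p ∣ Nat.card G)
    (hfix : ∀ g : G, (∀ b ∈ B, b g = g) → ∀ a ∈ A, a g = g)
    (χ : Cfsg.IrrCharacter G) (hχ : InvUnder (B : Set (MulAut G)) (χ : G → ℂ)) :
    InvUnder (A : Set (MulAut G)) (χ : G → ℂ) := by
  classical
  haveI : Finite (Cfsg.IrrCharacter G) := irr_finite
  have hB : IsPGroup p B := hA.to_le hBA
  have hcopA : (Nat.card G).Coprime (Nat.card A) := by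
    obtain ⟨k, hk⟩ := IsPGroup.iff_card.mp hA
    rw [hk]
    exact (Nat.Coprime.pow_left k ((Nat.Prime.coprime_iff_not_dvd hp.out).mpr hcop)).symm
  have hcopB : (Nat.card G).Coprime (Nat.card B) := by
    obtain ⟨k, hk⟩ := IsPGroup.iff_card.mp hB
    rw [hk]
    exact (Nat.Coprime.pow_left k ((Nat.Prime.coprime_iff_not_dvd hp.out).mpr hcop)).symm
  have hsolvA : Group.IsSolvable A := by
    haveI := hA.isNilpotent
    infer_instance
  have hsolvB : Group.IsSolvable B := by
    haveI := hB.isNilpotent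
    infer_instance
  have hCA : ∀ g : G, g ∈ fixedSub A ↔ ∀ a ∈ A, a g = g := fun g => mem_fixedSub A g
  have hCB : ∀ g : G, g ∈ fixedSub A ↔ ∀ b ∈ B, b g = g := by
    intro g
    constructor
    · intro h b hb
      exact h b (hBA hb)
    · intro h
      exact hfix g h
  have h1 := card_invariant_irr_eq_card_invariant_classes (Nat.card A) A rfl hsolvA hcopA
  have h2 := card_invariant_irr_eq_card_invariant_classes (Nat.card B) B rfl hsolvB hcopB
  have h3 := card_invariant_classes A hA hcop (fixedSub A) hCA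
  have h4 := card_invariant_classes B hB hcop (fixedSub A) hCB
  have hcard : Nat.card {χ : Cfsg.IrrCharacter G // InvUnder (A : Set (MulAut G)) (χ : G → ℂ)} =
      Nat.card {χ : Cfsg.IrrCharacter G // InvUnder (B : Set (MulAut G)) (χ : G → ℂ)} := by
    rw [h1, h2, h3, h4]
  set SA : Set (Cfsg.IrrCharacter G) := {χ | InvUnder (A : Set (MulAut G)) (χ : G → ℂ)} with hSA
  set SB : Set (Cfsg.IrrCharacter G) := {χ | InvUnder (B : Set (MulAut G)) (χ : G → ℂ)} with hSB
  have hsub : SA ⊆ SB := by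
    intro ψ hψ b hb g
    exact hψ b (hBA hb) g
  have hle : SB.ncard ≤ SA.ncard := by
    rw [← Nat.card_coe_set_eq, ← Nat.card_coe_set_eq]
    exact hcard.symm.le
  have heq : SA = SB := Set.eq_of_subset_of_ncard_le hsub hle (Set.toFinite SB)
  have : χ ∈ SB := hχ
  rw [← heq] at this
  exact this

variable {Γ : Type u} [Group Γ]

/-- If `y ∈ P` has the same fixed points on `K` as the whole `p`-group `P` (acting coprimely), an
irreducible character of `K` fixed by `y` is fixed by `P`. -/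
theorem invariant_of_invariant_elt [Finite Γ] (K P : Subgroup Γ) [Fintype K]
    (hnorm : ∀ s ∈ P, ∀ g ∈ K, s * g * s⁻¹ ∈ K) {p : ℕ} [hp : Fact p.Prime]
    (hP : IsPGroup p P) (hcop : ¬ p ∣ Nat.card K) (y : Γ) (hy : y ∈ P)
    (hfix : ∀ g ∈ K, y * g * y⁻¹ = g → ∀ s ∈ P, s * g * s⁻¹ = g)
    (θ : Cfsg.IrrCharacter K)
    (hθy : ∀ g g' : K, (g' : Γ) = y * g * y⁻¹ → (θ : K → ℂ) g' = (θ : K → ℂ) g) :
    ∀ s ∈ P, ∀ g g' : K, (g' : Γ) = s * g * s⁻¹ → (θ : K → ℂ) g' = (θ : K → ℂ) g := by
  classical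
  have hYP : Subgroup.zpowers y ≤ P := (Subgroup.zpowers_le).mpr hy
  have hnormY : ∀ s ∈ Subgroup.zpowers y, ∀ g ∈ K, s * g * s⁻¹ ∈ K :=
    fun s hs g hg => hnorm s (hYP hs) g hg
  set A : Subgroup (MulAut K) := (conjHomOn K P hnorm).range with hAdef
  set B : Subgroup (MulAut K) := (conjHomOn K (Subgroup.zpowers y) hnormY).range with hBdef
  have hBA : B ≤ A := by
    rintro b ⟨s, rfl⟩
    refine ⟨⟨s.1, hYP s.2⟩, ?_⟩
    apply MulEquiv.ext
    intro g
    apply Subtype.ext
    rw [conjHomOn_apply, conjHomOn_apply]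
  have hA : IsPGroup p A :=
    hP.of_surjective (conjHomOn K P hnorm).rangeRestrict
      (conjHomOn K P hnorm).rangeRestrict_surjective
  set cy : MulAut K := conjHomOn K (Subgroup.zpowers y) hnormY ⟨y, Subgroup.mem_zpowers y⟩
    with hcy
  have hcyB : cy ∈ B := ⟨_, rfl⟩
  have hfix' : ∀ g : K, (∀ b ∈ B, b g = g) → ∀ a ∈ A, a g = g := by
    intro g hg a ha
    obtain ⟨s, rfl⟩ := ha
    apply Subtype.ext
    rw [conjHomOn_apply]
    have h1 := congrArg Subtype.val (hg cy hcyB)
    rw [hcy, conjHomOn_apply] at h1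
    exact hfix g.1 g.2 h1 s.1 s.2
  have hcyst : cy ∈ funStabilizer (θ : K → ℂ) := by
    rw [mem_funStabilizer]
    intro g
    exact hθy g (cy g) (conjHomOn_apply K _ hnormY _ g)
  have hBst : B ≤ funStabilizer (θ : K → ℂ) := by
    rintro b ⟨s, rfl⟩
    obtain ⟨n, hn⟩ := Subgroup.mem_zpowers_iff.mp s.2
    have hs : s = (⟨y, Subgroup.mem_zpowers y⟩ : Subgroup.zpowers y) ^ n := by
      apply Subtype.ext
      rw [Subgroup.coe_zpow]
      exact hn.symm
    rw [hs, map_zpow]
    exact Subgroup.zpow_mem _ hcyst n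
  have hinvB : InvUnder (B : Set (MulAut K)) (θ : K → ℂ) := by
    intro b hb g
    exact (mem_funStabilizer _ b).mp (hBst hb) g
  have hinvA := invUnder_of_same_fixed A B hBA hA hcop hfix' θ hinvB
  exact (invUnder_conj_iff K P hnorm (θ : K → ℂ)).mp hinvA

end Cfsg.Agent.Helper6
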