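import Mathlib
import Cfsg.Prelude.Def_Characters
import Cfsg.Prelude.Def_CharExt
import Cfsg.Prelude.Def_Blocks
import Cfsg.Agent.Helper6.TILeoA
import Cfsg.Agent.Helper6.TILeoC
import Cfsg.Agent.Helper6.BlockCover2
import Cfsg.Agent.Helper6.Expansion

/-!
# A `p`-group of operators on a `p'`-group, all of whose non-identity elements have the same
fixed points, acts trivially when there is a faithful character of small degree
-/

set_option autoImplicit false
set_option linter.style.haveILetI false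

namespace Cfsg.Agent.Helper6

open Module
open scoped ComplexConjugate

universe u

variable {Γ : Type u} [Group Γ]

theorem classInner_restrict_conjIrr [Fintype Γ] (K : Subgroup Γ) [Fintype K] [hK : K.Normal]
    (χ : Γ → ℂ) (hχ : Cfsg.IsClassFunction Γ χ) (s : Γ) (θ : Cfsg.IrrCharacter K) :
    Cfsg.classInner (fun g : K => χ g) ((conjIrr K s θ : Cfsg.IrrCharacter K) : K → ℂ) =
      Cfsg.classInner (fun g : K => χ g) (θ : K → ℂ) := by
  have h1 : Cfsg.classInner (fun g : K => χ g) (conjFun K (θ : K → ℂ) s) =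
      Cfsg.classInner (conjFun K (fun g : K => χ g) s) (conjFun K (θ : K → ℂ) s) := by
    rw [conjFun_restrict K χ hχ s]
  change Cfsg.classInner (fun g : K => χ g) (conjFun K (θ : K → ℂ) s) = _
  rw [h1, classInner_conjFun]

theorem charDegree_conjIrr [Finite Γ] (K : Subgroup Γ) [hK : K.Normal] (s : Γ)
    (θ : Cfsg.IrrCharacter K) :
    Cfsg.charDegree ((conjIrr K s θ : Cfsg.IrrCharacter K) : K → ℂ) =
      Cfsg.charDegree (θ : K → ℂ) := by
  have h : ((conjIrr K s θ : Cfsg.IrrCharacter K) : K → ℂ) 1 = (θ : K → ℂ) 1 := by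
    change conjFun K (θ : K → ℂ) s 1 = _
    unfold conjFun
    exact congrArg _ (Subtype.ext (by simp))
  unfold Cfsg.charDegree
  rw [h]

set_option maxHeartbeats 1600000 in
/-- **the coprime action is trivial** -/
theorem ti_coprime_central [Fintype Γ] (K P : Subgroup Γ) [Fintype K] [hK : K.Normal]
    {p : ℕ} [hp : Fact p.Prime] (hP : IsPGroup p P) (hcopK : ¬ p ∣ Nat.card K)
    (htop : K ⊔ P = ⊤)
    (hfp : ∀ y ∈ P, y ≠ 1 → ∀ g ∈ K, y * g * y⁻¹ = g → ∀ s ∈ P, s * g * s⁻¹ = g)
    (χ : Γ → ℂ) (hχ : Cfsg.IsCharacter Γ χ) (hfaith : ∀ g, χ g = χ 1 → g = 1)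
    (hdeg : Cfsg.charDegree χ ^ 2 ≤ Nat.card P) :
    ∀ y ∈ P, ∀ k ∈ K, y * k * y⁻¹ * k⁻¹ = 1 := by
  classical
  haveI : Finite (Cfsg.IrrCharacter K) := irr_finite
  haveI : Fintype (Cfsg.IrrCharacter K) := Fintype.ofFinite _
  haveI : Fintype P := Fintype.ofFinite _
  set C : Subgroup Γ := K ⊓ Subgroup.centralizer (P : Set Γ) with hC
  haveI : Fintype C := Fintype.ofFinite _
  have hnorm : ∀ s ∈ P, ∀ g ∈ K, s * g * s⁻¹ ∈ K := fun s _ g hg => hK.conj_mem g hg s
  have hfp' : ∀ y ∈ P, y ≠ 1 → ∀ g ∈ K, g ∈ C ↔ y * g * y⁻¹ = g := by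
    intro y hy hy1 g hg
    constructor
    · intro hgC
      have h1 := (Subgroup.mem_centralizer_iff.mp hgC.2) y hy
      rw [h1, mul_inv_cancel_right]
    · intro h
      refine ⟨hg, Subgroup.mem_centralizer_iff.mpr ?_⟩
      intro s hs
      have := hfp y hy hy1 g hg h s hs
      calc s * g = s * g * s⁻¹ * s := by group
        _ = g * s := by rw [this]
  have hχcf := IsCharacter.isClassFunction hχ
  have hres : Cfsg.IsCharacter K (fun g : K => χ g) := IsCharacter.restrict K hχ
  have hrescf := IsCharacter.isClassFunction hres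
  -- multiplicities
  have hmex : ∀ θ : Cfsg.IrrCharacter K, ∃ n : ℕ,
      Cfsg.classInner (fun g : K => χ g) (θ : K → ℂ) = n :=
    fun θ => classInner_char_char_nat hres (IsIrrCharacter.isCharacter θ.2)
  choose m hm using hmex
  have hexp := classFunction_expansion _ hrescf
  have hval : ∀ x : K, χ x = ∑ θ : Cfsg.IrrCharacter K, (m θ : ℂ) * (θ : K → ℂ) x := by
    intro x
    have := congrFun hexp x
    rw [Finset.sum_apply] at this
    rw [this]
    apply Finset.sum_congr rfl
    intro θ _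
    rw [Pi.smul_apply, smul_eq_mul, hm]
  -- degrees
  set D := Cfsg.charDegree χ with hD
  have hDc : (D : ℂ) = χ 1 := charDegree_cast_of_isCharacter hχ
  have hdc : ∀ θ : Cfsg.IrrCharacter K, (Cfsg.charDegree (θ : K → ℂ) : ℂ) = (θ : K → ℂ) 1 :=
    fun θ => charDegree_cast_of_isCharacter (IsIrrCharacter.isCharacter θ.2)
  have hdpos : ∀ θ : Cfsg.IrrCharacter K, 1 ≤ Cfsg.charDegree (θ : K → ℂ) := by
    intro θ
    rw [Nat.one_le_iff_ne_zero]
    intro h0
    apply IsIrrCharacter.apply_one_ne_zero θ.2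
    rw [← hdc, h0]
    simp
  have hDsum : D = ∑ θ : Cfsg.IrrCharacter K, m θ * Cfsg.charDegree (θ : K → ℂ) := by
    have h1 := hval 1
    rw [Subgroup.coe_one, ← hDc] at h1
    have h2 : (D : ℂ) = ((∑ θ : Cfsg.IrrCharacter K, m θ * Cfsg.charDegree (θ : K → ℂ) : ℕ) : ℂ) := by
      rw [h1]
      push_cast
      apply Finset.sum_congr rfl
      intro θ _
      rw [hdc]
    exact_mod_cast h2
  -- (b') constituents have degree at most `D`
  have hle : ∀ θ : Cfsg.IrrCharacter K, m θ ≠ 0 → Cfsg.charDegree (θ : K → ℂ) ≤ D := by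
    intro θ hθ
    rw [hDsum]
    calc Cfsg.charDegree (θ : K → ℂ) ≤ m θ * Cfsg.charDegree (θ : K → ℂ) :=
          Nat.le_mul_of_pos_left _ (Nat.pos_of_ne_zero hθ)
      _ ≤ _ := Finset.single_le_sum (f := fun θ : Cfsg.IrrCharacter K =>
          m θ * Cfsg.charDegree (θ : K → ℂ)) (fun _ _ => Nat.zero_le _) (Finset.mem_univ θ)
  -- (a) constituents are `P`-invariant
  have hinv : ∀ θ : Cfsg.IrrCharacter K, m θ ≠ 0 →
      ∀ s ∈ P, ∀ g g' : K, (g' : Γ) = s * g * s⁻¹ → (θ : K → ℂ) g' = (θ : K → ℂ) g := by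
    intro θ hθ
    by_contra hcon
    -- no nonidentity element of `P` fixes `θ`
    have hnofix : ∀ y ∈ P, conjIrr K y θ = θ → y = 1 := by
      intro y hy hfix
      by_contra hy1
      apply hcon
      apply invariant_of_invariant_elt K P hnorm hP hcopK y hy (hfp y hy hy1) θ
      intro g g' hg'
      have h1 : (θ : K → ℂ) g = ((conjIrr K y θ : Cfsg.IrrCharacter K) : K → ℂ) g := by
        rw [hfix]
      rw [h1]
      change _ = conjFun K (θ : K → ℂ) y g
      unfold conjFun
      exact congrArg _ (Subtype.ext hg')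
    let f : P → Cfsg.IrrCharacter K := fun s => conjIrr K (s : Γ) θ
    have hfinj : Function.Injective f := by
      intro s t hst
      have h1 : conjIrr K (s : Γ)⁻¹ (conjIrr K (s : Γ) θ) =
          conjIrr K (s : Γ)⁻¹ (conjIrr K (t : Γ) θ) := congrArg _ hst
      rw [conjIrr_conjIrr, conjIrr_conjIrr, mul_inv_cancel, conjIrr_one] at h1
      have h2 := hnofix ((t : Γ) * (s : Γ)⁻¹) (P.mul_mem t.2 (P.inv_mem s.2)) h1.symm
      apply Subtype.ext
      have : (t : Γ) = (s : Γ) := by
        calc (t : Γ) = (t : Γ) * (s : Γ)⁻¹ * (s : Γ) := by group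
          _ = (s : Γ) := by rw [h2, one_mul]
      exact this.symm
    have hmf : ∀ s : P, m (f s) = m θ := by
      intro s
      have h1 := classInner_restrict_conjIrr K χ hχcf (s : Γ) θ
      rw [hm, hm] at h1
      exact_mod_cast h1
    have hdf : ∀ s : P, Cfsg.charDegree ((f s : Cfsg.IrrCharacter K) : K → ℂ) =
        Cfsg.charDegree (θ : K → ℂ) := fun s => charDegree_conjIrr K (s : Γ) θ
    have hbig : Nat.card P ≤ D := by
      rw [hDsum]
      calc Nat.card P ≤ Nat.card P * (m θ * Cfsg.charDegree (θ : K → ℂ)) := by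
            apply Nat.le_mul_of_pos_right
            exact Nat.mul_pos (Nat.pos_of_ne_zero hθ) (hdpos θ)
        _ = ∑ s : P, m (f s) * Cfsg.charDegree ((f s : Cfsg.IrrCharacter K) : K → ℂ) := by
            rw [Finset.sum_congr rfl (fun s _ => by rw [hmf s, hdf s]), Finset.sum_const,
              Finset.card_univ, ← Nat.card_eq_fintype_card, smul_eq_mul]
        _ = ∑ φ ∈ (Finset.univ : Finset P).image f,
              m φ * Cfsg.charDegree ((φ : Cfsg.IrrCharacter K) : K → ℂ) := by
            rw [Finset.sum_image (fun a _ b _ h => hfinj h)]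
        _ ≤ _ := Finset.sum_le_sum_of_subset (Finset.subset_univ _)
    have hD1 : D ≤ 1 := by
      by_contra hD1
      rw [not_le] at hD1
      have : D * D ≤ D := by
        calc D * D = D ^ 2 := (sq D).symm
          _ ≤ Nat.card P := hdeg
          _ ≤ D := hbig
      nlinarith
    have hP1 : Nat.card P ≤ 1 := hbig.trans hD1
    apply hcon
    intro s hs g g' hg'
    have hsub : Subsingleton P := (Finite.card_le_one_iff_subsingleton).mp hP1
    have hs1 : s = 1 := by
      have := Subsingleton.elim (⟨s, hs⟩ : P) 1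
      exact congrArg Subtype.val this
    have : g' = g := by
      apply Subtype.ext
      rw [hg', hs1]
      simp
    rw [this]
  -- conclusion
  intro y hy k hk
  apply hfaith
  have hk' : y * k * y⁻¹ * k⁻¹ ∈ K := K.mul_mem (hK.conj_mem k hk y) (K.inv_mem hk)
  have h1 := hval ⟨y * k * y⁻¹ * k⁻¹, hk'⟩
  have h2 := hval 1
  rw [Subgroup.coe_one] at h2
  change χ (y * k * y⁻¹ * k⁻¹) = _ at h1
  rw [h1, h2]
  apply Finset.sum_congr rfl
  intro θ _
  by_cases hθ : m θ = 0
  · rw [hθ]
    simp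
  · congr 1
    have hdegθ : Cfsg.charDegree (θ : K → ℂ) ^ 2 ≤ Nat.card P :=
      (Nat.pow_le_pow_left (hle θ hθ) 2).trans hdeg
    exact ti_invariant_small K P C hP hcopK htop hC hfp' θ (hinv θ hθ) hdegθ y hy ⟨k, hk⟩
      ⟨y * k * y⁻¹ * k⁻¹, hk'⟩ rfl

end Cfsg.Agent.Helper6
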