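import Mathlib
import Cfsg.Prelude.Def_Characters
import Cfsg.Prelude.Def_CharExt
import Cfsg.Prelude.Def_Blocks
import Cfsg.Agent.Helper6.ItoCycA
import Cfsg.Agent.Helper6.TILeoD

/-!
# Itô's theorem for a `p'`-group extended by a cyclic `p`-group inducing an automorphism of
order `p`
-/

set_option autoImplicit false
set_option linter.style.haveILetI false

namespace Cfsg.Agent.Helper6

open Module
open scoped ComplexConjugate

universe u

variable {Γ : Type u} [Group Γ]

/-- if `y ^ p` and `y ^ e` with `0 < e < p` stabilize, so does `y` -/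
theorem mem_of_pow_mem_of_pow_prime_mem (T : Subgroup Γ) (y : Γ) {p e : ℕ} (hp : p.Prime)
    (he0 : 0 < e) (hep : e < p) (h1 : y ^ p ∈ T) (h2 : y ^ e ∈ T) : y ∈ T := by
  have hcop : Nat.gcd e p = 1 := by
    have : Nat.Coprime p e := (Nat.Prime.coprime_iff_not_dvd hp).mpr
      (fun h => absurd (Nat.le_of_dvd he0 h) (not_le.mpr hep))
    exact this.symm
  have hb := Nat.gcd_eq_gcd_ab e p
  rw [hcop] at hb
  have : y = (y ^ e) ^ (Nat.gcdA e p) * (y ^ p) ^ (Nat.gcdB e p) := by
    rw [← zpow_natCast y e, ← zpow_natCast y p, ← zpow_mul, ← zpow_mul, ← zpow_add, ← hb]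
    simp
  rw [this]
  exact T.mul_mem (T.zpow_mem h2 _) (T.zpow_mem h1 _)

set_option maxHeartbeats 1600000 in
theorem ito_cyclic [Fintype Γ] (K : Subgroup Γ) [Fintype K] [hK : K.Normal]
    {p : ℕ} [hp : Fact p.Prime] (hcopK : ¬ p ∣ Nat.card K) (y : Γ)
    (hy : IsPGroup p (Subgroup.zpowers y)) (htop : K ⊔ Subgroup.zpowers y = ⊤)
    (hyp : ∀ g ∈ K, y ^ p * g = g * y ^ p)
    (χ : Γ → ℂ) (hχ : Cfsg.IsCharacter Γ χ) (hfaith : ∀ g, χ g = χ 1 → g = 1)
    (hdeg : Cfsg.charDegree χ + 1 ≤ p) :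
    (∀ k ∈ K, y * k = k * y) ∨
      (Cfsg.charDegree χ + 1 = p ∧ Cfsg.IsIrrCharacter K (fun g : K => χ g)) := by
  classical
  haveI : Finite (Cfsg.IrrCharacter K) := irr_finite
  haveI : Fintype (Cfsg.IrrCharacter K) := Fintype.ofFinite _
  have hpp := hp.out
  have hχcf := IsCharacter.isClassFunction hχ
  have hres : Cfsg.IsCharacter K (fun g : K => χ g) := IsCharacter.restrict K hχ
  have hrescf := IsCharacter.isClassFunction hres
  have hmex : ∀ θ : Cfsg.IrrCharacter K, ∃ n : ℕ,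
      Cfsg.classInner (fun g : K => χ g) (θ : K → ℂ) = n :=
    fun θ => classInner_char_char_nat hres (IsIrrCharacter.isCharacter θ.2)
  choose m hm using hmex
  have hexp := classFunction_expansion _ hrescf
  have hval : ∀ x : K, χ x = ∑ θ : Cfsg.IrrCharacter K, (m θ : ℂ) * (θ : K → ℂ) x := by
    intro x
    have := congrFun hexp x
    rw [Finset.sum_apply] at this
    rw [this]
    apply Finset.sum_congr rfl
    intro θ _
    rw [Pi.smul_apply, smul_eq_mul, hm]
  set D := Cfsg.charDegree χ with hD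
  have hDc : (D : ℂ) = χ 1 := charDegree_cast_of_isCharacter hχ
  have hdc : ∀ θ : Cfsg.IrrCharacter K, (Cfsg.charDegree (θ : K → ℂ) : ℂ) = (θ : K → ℂ) 1 :=
    fun θ => charDegree_cast_of_isCharacter (IsIrrCharacter.isCharacter θ.2)
  have hdpos : ∀ θ : Cfsg.IrrCharacter K, 1 ≤ Cfsg.charDegree (θ : K → ℂ) := by
    intro θ
    rw [Nat.one_le_iff_ne_zero]
    intro h0
    apply IsIrrCharacter.apply_one_ne_zero θ.2
    rw [← hdc, h0]
    simp
  have hDsum : D = ∑ θ : Cfsg.IrrCharacter K, m θ * Cfsg.charDegree (θ : K → ℂ) := by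
    have h1 := hval 1
    rw [Subgroup.coe_one, ← hDc] at h1
    have h2 : (D : ℂ) =
        ((∑ θ : Cfsg.IrrCharacter K, m θ * Cfsg.charDegree (θ : K → ℂ) : ℕ) : ℂ) := by
      rw [h1]
      push_cast
      apply Finset.sum_congr rfl
      intro θ _
      rw [hdc]
    exact_mod_cast h2
  -- constituents are invariant
  have hycent : ∀ θ : Cfsg.IrrCharacter K, y ^ p ∈ conjStab K (θ : K → ℂ) := by
    intro θ
    rw [mem_conjStab]
    funext g
    unfold conjFun
    exact congrArg _ (Subtype.ext (by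
      change y ^ p * (g : Γ) * (y ^ p)⁻¹ = (g : Γ)
      rw [hyp g g.2, mul_inv_cancel_right]))
  have hinv : ∀ θ : Cfsg.IrrCharacter K, m θ ≠ 0 → y ∈ conjStab K (θ : K → ℂ) := by
    intro θ hθ
    by_contra hcon
    let f : Fin p → Cfsg.IrrCharacter K := fun i => conjIrr K (y ^ (i : ℕ)) θ
    have hfinj : Function.Injective f := by
      intro i j hij
      by_contra hne
      -- wlog i < j
      have key : ∀ i j : Fin p, (i : ℕ) < (j : ℕ) → f i = f j → False := by
        intro i j hlt hij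
        have h1 : conjIrr K (y ^ (i : ℕ))⁻¹ (conjIrr K (y ^ (i : ℕ)) θ) =
            conjIrr K (y ^ (i : ℕ))⁻¹ (conjIrr K (y ^ (j : ℕ)) θ) := congrArg _ hij
        rw [conjIrr_conjIrr, conjIrr_conjIrr, mul_inv_cancel, conjIrr_one] at h1
        have h2 : y ^ (j : ℕ) * (y ^ (i : ℕ))⁻¹ = y ^ ((j : ℕ) - (i : ℕ)) := by
          rw [pow_sub y hlt.le]
        rw [h2] at h1
        have h3 : y ^ ((j : ℕ) - (i : ℕ)) ∈ conjStab K (θ : K → ℂ) := by
          rw [mem_conjStab]
          exact (congrArg Subtype.val h1).symm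
        apply hcon
        exact mem_of_pow_mem_of_pow_prime_mem _ y hpp (Nat.sub_pos_of_lt hlt)
          (lt_of_le_of_lt (Nat.sub_le _ _) j.2) (hycent θ) h3
      rcases Nat.lt_or_gt_of_ne (fun h => hne (Fin.ext h)) with h | h
      · exact key i j h hij
      · exact key j i h hij.symm
    have hmf : ∀ i : Fin p, m (f i) = m θ := by
      intro i
      have h1 := classInner_restrict_conjIrr K χ hχcf (y ^ (i : ℕ)) θ
      rw [hm, hm] at h1
      exact_mod_cast h1
    have hdf : ∀ i : Fin p, Cfsg.charDegree ((f i : Cfsg.IrrCharacter K) : K → ℂ) =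
        Cfsg.charDegree (θ : K → ℂ) := fun i => charDegree_conjIrr K (y ^ (i : ℕ)) θ
    have hbig : p ≤ D := by
      rw [hDsum]
      calc p ≤ p * (m θ * Cfsg.charDegree (θ : K → ℂ)) := by
            apply Nat.le_mul_of_pos_right
            exact Nat.mul_pos (Nat.pos_of_ne_zero hθ) (hdpos θ)
        _ = ∑ i : Fin p, m (f i) * Cfsg.charDegree ((f i : Cfsg.IrrCharacter K) : K → ℂ) := by
            rw [Finset.sum_congr rfl (fun i _ => by rw [hmf i, hdf i]), Finset.sum_const,
              Finset.card_univ, Fintype.card_fin, smul_eq_mul]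
        _ = ∑ φ ∈ (Finset.univ : Finset (Fin p)).image f,
              m φ * Cfsg.charDegree ((φ : Cfsg.IrrCharacter K) : K → ℂ) := by
            rw [Finset.sum_image (fun a _ b _ h => hfinj h)]
        _ ≤ _ := Finset.sum_le_sum_of_subset (Finset.subset_univ _)
    omega
  have hinv' : ∀ θ : Cfsg.IrrCharacter K, m θ ≠ 0 → ∀ s ∈ Subgroup.zpowers y,
      ∀ g g' : K, (g' : Γ) = s * g * s⁻¹ → (θ : K → ℂ) g' = (θ : K → ℂ) g := by
    intro θ hθ s hs g g' hg'
    have h1 : s ∈ conjStab K (θ : K → ℂ) :=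
      (Subgroup.zpowers_le.mpr (hinv θ hθ)) hs
    rw [mem_conjStab] at h1
    have h2 := congrFun h1 g
    rw [← h2]
    unfold conjFun
    exact congrArg _ (Subtype.ext hg')
  -- the dichotomy for every constituent
  have hdich : ∀ θ : Cfsg.IrrCharacter K, m θ ≠ 0 →
      (∀ k k' : K, (k' : Γ) = y * k * y⁻¹ * (k : Γ)⁻¹ → (θ : K → ℂ) k' = (θ : K → ℂ) 1) ∨
        p - 1 ≤ Cfsg.charDegree (θ : K → ℂ) :=
    fun θ hθ => cyc_dichotomy K hcopK y hy htop hyp θ (hinv' θ hθ)
  by_cases hall : ∀ θ : Cfsg.IrrCharacter K, m θ ≠ 0 →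
      (∀ k k' : K, (k' : Γ) = y * k * y⁻¹ * (k : Γ)⁻¹ → (θ : K → ℂ) k' = (θ : K → ℂ) 1)
  · left
    intro k hk
    have hk' : y * k * y⁻¹ * k⁻¹ ∈ K := K.mul_mem (hK.conj_mem k hk y) (K.inv_mem hk)
    have h0 : y * k * y⁻¹ * k⁻¹ = 1 := by
      apply hfaith
      have h1 := hval ⟨y * k * y⁻¹ * k⁻¹, hk'⟩
      have h2 := hval 1
      rw [Subgroup.coe_one] at h2
      change χ (y * k * y⁻¹ * k⁻¹) = _ at h1
      rw [h1, h2]
      apply Finset.sum_congr rfl
      intro θ _
      by_cases hθ : m θ = 0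
      · rw [hθ]
        simp
      · congr 1
        exact hall θ hθ ⟨k, hk⟩ ⟨y * k * y⁻¹ * k⁻¹, hk'⟩ rfl
    calc y * k = (y * k * y⁻¹ * k⁻¹) * (k * y) := by group
      _ = k * y := by rw [h0, one_mul]
  · right
    have hall' : ∃ θ : Cfsg.IrrCharacter K, m θ ≠ 0 ∧ p - 1 ≤ Cfsg.charDegree (θ : K → ℂ) := by
      by_contra hno
      apply hall
      intro θ hθ
      rcases hdich θ hθ with h | h
      · exact h
      · exact absurd ⟨θ, hθ, h⟩ hno
    obtain ⟨θ0, hθ0, hdeg0⟩ := hall'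
    have hsplit : D = m θ0 * Cfsg.charDegree (θ0 : K → ℂ) +
        ∑ θ ∈ (Finset.univ : Finset (Cfsg.IrrCharacter K)).erase θ0,
          m θ * Cfsg.charDegree (θ : K → ℂ) := by
      rw [hDsum, ← Finset.add_sum_erase Finset.univ _ (Finset.mem_univ θ0)]
    have hm1 : 1 ≤ m θ0 := Nat.one_le_iff_ne_zero.mpr hθ0
    have h1 : Cfsg.charDegree (θ0 : K → ℂ) ≤ m θ0 * Cfsg.charDegree (θ0 : K → ℂ) :=
      Nat.le_mul_of_pos_left _ hm1
    have hDeq : D = p - 1 := by omega
    have hd0 : Cfsg.charDegree (θ0 : K → ℂ) = p - 1 := by omega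
    have hp2 : 2 ≤ p := hpp.two_le
    have hm0 : m θ0 = 1 := by
      have h2 : m θ0 * (p - 1) ≤ p - 1 := by
        rw [← hd0]
        omega
      have h3 : 0 < p - 1 := by omega
      have : m θ0 ≤ 1 := by
        by_contra hc
        rw [not_le] at hc
        have : 2 * (p - 1) ≤ m θ0 * (p - 1) := Nat.mul_le_mul_right _ hc
        omega
      omega
    have hrest : ∑ θ ∈ (Finset.univ : Finset (Cfsg.IrrCharacter K)).erase θ0,
        m θ * Cfsg.charDegree (θ : K → ℂ) = 0 := by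
      rw [hm0, one_mul] at hsplit
      omega
    have hzero : ∀ θ : Cfsg.IrrCharacter K, θ ≠ θ0 → m θ = 0 := by
      intro θ hne
      have h2 := (Finset.sum_eq_zero_iff.mp hrest) θ
        (Finset.mem_erase.mpr ⟨hne, Finset.mem_univ _⟩)
      rcases Nat.mul_eq_zero.mp h2 with h3 | h3
      · exact h3
      · have := hdpos θ
        omega
    refine ⟨by omega, ?_⟩
    have : (fun g : K => χ g) = (θ0 : K → ℂ) := by
      funext x
      rw [hval x, Finset.sum_eq_single θ0]
      · rw [hm0]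
        simp
      · intro θ _ hne
        rw [hzero θ hne]
        simp
      · intro h
        exact absurd (Finset.mem_univ _) h
    rw [this]
    exact θ0.2

end Cfsg.Agent.Helper6
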