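import Mathlib
import Cfsg.Prelude.Def_Characters
import Cfsg.Prelude.Def_CharExt
import Cfsg.Prelude.Def_Blocks
import Cfsg.Agent.Helper6.ItoCycB
import Cfsg.Agent.Helper6.BrauerPerm2

/-!
# Itô's cyclic lemma, applied inside an ambient group
-/

set_option autoImplicit false
set_option linter.style.haveILetI false

namespace Cfsg.Agent.Helper6

open Module
open scoped ComplexConjugate

universe u

variable {G : Type u} [Group G]

/-- `ito_cyclic` applied to the subgroup `H ⟨y⟩` of an ambient group -/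
theorem ito_apply [Finite G] (H : Subgroup G) {p : ℕ} [hp : Fact p.Prime]
    (hcop : ¬ p ∣ Nat.card H) (y : G) (hy : IsPGroup p (Subgroup.zpowers y))
    (hnorm : ∀ h ∈ H, y * h * y⁻¹ ∈ H) (hyp : ∀ h ∈ H, y ^ p * h = h * y ^ p)
    (χ : G → ℂ) (hχ : Cfsg.IsCharacter G χ) (hfaith : ∀ g, χ g = χ 1 → g = 1)
    (hdeg : Cfsg.charDegree χ + 1 ≤ p) :
    (∀ h ∈ H, y * h = h * y) ∨
      (Cfsg.charDegree χ + 1 = p ∧ Cfsg.IsIrrCharacter H (fun g : H => χ g)) := by
  classical
  set L : Subgroup G := H ⊔ Subgroup.zpowers y with hL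
  have hHL : H ≤ L := le_sup_left
  have hyL : y ∈ L := (le_sup_right : Subgroup.zpowers y ≤ L) (Subgroup.mem_zpowers y)
  haveI : Fintype L := Fintype.ofFinite _
  set K : Subgroup L := H.subgroupOf L with hK
  haveI : Fintype K := Fintype.ofFinite _
  have hyN : y ∈ Subgroup.normalizer (H : Set G) := Subgroup.mem_normalizer_fintype hnorm
  have hLN : L ≤ Subgroup.normalizer (H : Set G) :=
    sup_le Subgroup.le_normalizer (Subgroup.zpowers_le.mpr hyN)
  haveI hKn : K.Normal := Subgroup.normal_subgroupOf_of_le_normalizer hLN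
  have hcardK : Nat.card K = Nat.card H :=
    Nat.card_congr (Subgroup.subgroupOfEquivOfLe hHL).toEquiv
  set yL : L := ⟨y, hyL⟩ with hyLdef
  have hyLp : IsPGroup p (Subgroup.zpowers yL) := by
    obtain ⟨k, hk⟩ := IsPGroup.exists_card_eq hy
    apply IsPGroup.of_card (n := k)
    rw [Nat.card_zpowers] at hk ⊢
    rw [← hk]
    exact Subgroup.orderOf_mk y hyL
  have htop : K ⊔ Subgroup.zpowers yL = ⊤ := by
    apply Subgroup.map_injective L.subtype_injective
    rw [Subgroup.map_sup, MonoidHom.map_zpowers, hK, Subgroup.map_subgroupOf_eq_of_le hHL,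
      ← MonoidHom.range_eq_map, Subgroup.range_subtype]
    rfl
  have hypL : ∀ g ∈ K, yL ^ p * g = g * yL ^ p := by
    intro g hg
    apply Subtype.ext
    have hg' : (g : G) ∈ H := Subgroup.mem_subgroupOf.mp hg
    have := hyp (g : G) hg'
    simpa using this
  have hχL : Cfsg.IsCharacter L (fun g : L => χ g) := IsCharacter.restrict L hχ
  have hfL : ∀ g : L, (fun g : L => χ g) g = (fun g : L => χ g) 1 → g = 1 := by
    intro g hg
    apply Subtype.ext
    exact hfaith (g : G) hg
  have hdL : Cfsg.charDegree (fun g : L => χ g) = Cfsg.charDegree χ := rfl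
  rcases ito_cyclic K (by rw [hcardK]; exact hcop) yL hyLp htop hypL (fun g : L => χ g) hχL hfL
    (by rw [hdL]; exact hdeg) with h | ⟨h1, h2⟩
  · left
    intro h' hh'
    have := h ⟨h', hHL hh'⟩ (Subgroup.mem_subgroupOf.mpr hh')
    exact congrArg Subtype.val this
  · right
    refine ⟨by rw [← h1, hdL], ?_⟩
    have := IsIrrCharacter.comp_mulEquiv (Subgroup.subgroupOfEquivOfLe hHL).symm h2
    exact this

end Cfsg.Agent.Helper6
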