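import Mathlib
import Cfsg.Prelude.Def_Characters
import Cfsg.Prelude.Def_CharExt
import Cfsg.Prelude.Def_Blocks
import Cfsg.Agent.Helper6.ItoCycC
import Cfsg.Agent.Helper6.SmallDegree
import Cfsg.Agent.Helper6.Linear

/-!
# A `p`-group with a faithful character of degree `< p` is abelian
-/

set_option autoImplicit false
set_option linter.style.haveILetI false

namespace Cfsg.Agent.Helper6

open Module
open scoped ComplexConjugate

universe u

variable {G : Type u} [Group G]

/-- expansion of a character with natural multiplicities -/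
theorem char_expansion_nat [Fintype G] [Fintype (Cfsg.IrrCharacter G)] {χ : G → ℂ}
    (hχ : Cfsg.IsCharacter G χ) :
    ∃ m : Cfsg.IrrCharacter G → ℕ, (∀ θ : Cfsg.IrrCharacter G, Cfsg.classInner χ (θ : G → ℂ) = m θ) ∧
      ∀ x, χ x = ∑ θ : Cfsg.IrrCharacter G, (m θ : ℂ) * (θ : G → ℂ) x := by
  classical
  have hχcf := IsCharacter.isClassFunction hχ
  have hmex : ∀ θ : Cfsg.IrrCharacter G, ∃ n : ℕ,
      Cfsg.classInner χ (θ : G → ℂ) = n :=
    fun θ => classInner_char_char_nat hχ (IsIrrCharacter.isCharacter θ.2)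
  choose m hm using hmex
  refine ⟨m, hm, ?_⟩
  have hexp := classFunction_expansion _ hχcf
  intro x
  have := congrFun hexp x
  rw [Finset.sum_apply] at this
  rw [this]
  apply Finset.sum_congr rfl
  intro θ _
  rw [Pi.smul_apply, smul_eq_mul, hm]

/-- a `p`-group with a faithful character of degree less than `p` is abelian -/
theorem comm_of_faithful_deg_lt_prime [Finite G] {p : ℕ} [hp : Fact p.Prime]
    (hG : IsPGroup p G) (χ : G → ℂ) (hχ : Cfsg.IsCharacter G χ)
    (hfaith : ∀ g, χ g = χ 1 → g = 1) (hdeg : Cfsg.charDegree χ < p) :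
    ∀ a b : G, a * b = b * a := by
  classical
  haveI := Fintype.ofFinite G
  haveI : Finite (Cfsg.IrrCharacter G) := irr_finite
  haveI : Fintype (Cfsg.IrrCharacter G) := Fintype.ofFinite _
  obtain ⟨m, hm, hval⟩ := char_expansion_nat hχ
  have hDc : (Cfsg.charDegree χ : ℂ) = χ 1 := charDegree_cast_of_isCharacter hχ
  obtain ⟨k, hk⟩ := IsPGroup.exists_card_eq hG
  have hlin : ∀ θ : Cfsg.IrrCharacter G, m θ ≠ 0 → (θ : G → ℂ) 1 = 1 := by
    intro θ hθ
    obtain ⟨d, hd, hddvd, hdpos⟩ := IsIrrCharacter.degree_dvd_card θ.2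
    rw [hk] at hddvd
    obtain ⟨j, -, hj⟩ := (Nat.dvd_prime_pow hp.out).mp hddvd
    have hdD : d ≤ Cfsg.charDegree χ := by
      have h1 := hval 1
      rw [← hDc] at h1
      have h2 : ∀ φ : Cfsg.IrrCharacter G, ∃ e : ℕ, (φ : G → ℂ) 1 = e := by
        intro φ
        obtain ⟨e, he, -, -⟩ := IsIrrCharacter.degree_dvd_card φ.2
        exact ⟨e, he⟩
      choose e he using h2
      have h3 : (Cfsg.charDegree χ : ℂ) = ((∑ φ : Cfsg.IrrCharacter G, m φ * e φ : ℕ) : ℂ) := by
        rw [h1]
        push_cast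
        apply Finset.sum_congr rfl
        intro φ _
        rw [he]
      have h4 : Cfsg.charDegree χ = ∑ φ : Cfsg.IrrCharacter G, m φ * e φ := by exact_mod_cast h3
      have h5 : e θ = d := by
        have : (e θ : ℂ) = d := by rw [← he, hd]
        exact_mod_cast this
      rw [h4, ← h5]
      calc e θ ≤ m θ * e θ := Nat.le_mul_of_pos_left _ (Nat.pos_of_ne_zero hθ)
        _ ≤ _ := Finset.single_le_sum (f := fun φ => m φ * e φ) (fun _ _ => Nat.zero_le _)
          (Finset.mem_univ θ)
    have hj0 : j = 0 := by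
      by_contra hne
      have : p ≤ p ^ j := by
        calc p = p ^ 1 := (pow_one p).symm
          _ ≤ p ^ j := Nat.pow_le_pow_right hp.out.pos (Nat.one_le_iff_ne_zero.mpr hne)
      omega
    rw [hd, hj, hj0]
    simp
  intro a b
  have hc : a * b * a⁻¹ * b⁻¹ = 1 := by
    apply hfaith
    rw [hval, hval 1]
    apply Finset.sum_congr rfl
    intro θ _
    by_cases hθ : m θ = 0
    · rw [hθ]
      simp
    · congr 1
      obtain ⟨lam, hlam⟩ := exists_hom_of_irr_degree_one θ.2 (hlin θ hθ)
      rw [hlam]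
      simp only [map_mul, map_inv, map_one]
      have : lam a * lam b * (lam a)⁻¹ * (lam b)⁻¹ = 1 := by
        rw [mul_comm (lam a) (lam b), mul_assoc (lam b), mul_inv_cancel, mul_one, mul_inv_cancel]
      rw [this]
  calc a * b = (a * b * a⁻¹ * b⁻¹) * (b * a) := by group
    _ = b * a := by rw [hc, one_mul]

end Cfsg.Agent.Helper6
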