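import Mathlib
import Cfsg.Prelude.Def_Characters
import Cfsg.Agent.Helper6.ItoCycD
import Cfsg.Agent.Helper6.PrincipalDefect

/-!
# Brauer–Leonard (degree bound): auxiliary lemmas for the assembly
-/

set_option autoImplicit false
set_option linter.style.haveILetI false

namespace Cfsg.Agent.Helper6.BLd

open scoped ComplexConjugate

universe u

variable {G : Type u} [Group G]

/-- A Sylow subgroup all of whose non-identity elements have the same centralizer as the subgroup
itself is abelian. -/
theorem abelian_of_hstar [Finite G] {p : ℕ} [hp : Fact p.Prime] (P : Sylow p G)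
    (hstar : ∀ x ∈ (P : Subgroup G), x ≠ 1 →
      Subgroup.centralizer ({x} : Set G) = Subgroup.centralizer ((P : Subgroup G) : Set G)) :
    ∀ a ∈ (P : Subgroup G), ∀ b ∈ (P : Subgroup G), a * b = b * a := by
  by_cases htriv : Nontrivial ↥(P : Subgroup G)
  · haveI := htriv
    have hP : IsPGroup p ↥(P : Subgroup G) := P.2
    haveI := hP.center_nontrivial
    obtain ⟨z, hz⟩ := exists_ne (1 : ↥(Subgroup.center ↥(P : Subgroup G)))
    have hzP : ((z : ↥(P : Subgroup G)) : G) ∈ (P : Subgroup G) := (z : ↥(P : Subgroup G)).2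
    have hz1 : ((z : ↥(P : Subgroup G)) : G) ≠ 1 := by
      intro h
      apply hz
      apply Subtype.ext
      apply Subtype.ext
      exact h
    have hcent := hstar _ hzP hz1
    have hPle : (P : Subgroup G) ≤ Subgroup.centralizer ((P : Subgroup G) : Set G) := by
      rw [← hcent]
      intro u hu
      rw [Subgroup.mem_centralizer_iff]
      intro w hw
      rw [Set.mem_singleton_iff] at hw
      subst hw
      have := Subgroup.mem_center_iff.mp z.2 ⟨u, hu⟩
      exact congrArg Subtype.val this.symm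
    intro a ha b hb
    exact Subgroup.mem_centralizer_iff.mp (hPle hb) a ha
  · rw [not_nontrivial_iff_subsingleton] at htriv
    intro a ha b hb
    have h1 : (⟨a, ha⟩ : ↥(P : Subgroup G)) = 1 := Subsingleton.elim _ _
    have h2 : (⟨b, hb⟩ : ↥(P : Subgroup G)) = 1 := Subsingleton.elim _ _
    have h1' : a = 1 := congrArg Subtype.val h1
    have h2' : b = 1 := congrArg Subtype.val h2
    rw [h1', h2']

/-- The multiplicity of the trivial character in a restriction grows when the subgroup
shrinks. -/
theorem classInner_one_mono [Finite G] (H K : Subgroup G) (hHK : H ≤ K) [Fintype ↥H] [Fintype ↥K]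
    (ψ : G → ℂ) (hψ : Cfsg.IsCharacter G ψ) (aH aK : ℕ)
    (haH : Cfsg.classInner (fun h : ↥H => ψ (h : G)) (fun _ : ↥H => (1 : ℂ)) = (aH : ℂ))
    (haK : Cfsg.classInner (fun k : ↥K => ψ (k : G)) (fun _ : ↥K => (1 : ℂ)) = (aK : ℂ)) :
    aK ≤ aH := by
  classical
  haveI : Finite (Cfsg.IrrCharacter ↥K) := irr_finite
  haveI : Fintype (Cfsg.IrrCharacter ↥K) := Fintype.ofFinite _
  obtain ⟨m, hm1, hm2⟩ := char_expansion_nat (IsCharacter.restrict K hψ)
  have hmt : m (trivIrr ↥K) = aK := by
    have := hm1 (trivIrr ↥K)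
    change Cfsg.classInner (fun k : ↥K => ψ (k : G)) (fun _ : ↥K => (1 : ℂ)) = _ at this
    rw [haK] at this
    exact_mod_cast this.symm
  have key : ∀ θ : Cfsg.IrrCharacter ↥K, ∃ n : ℕ,
      Cfsg.classInner (fun h : ↥H => (θ : ↥K → ℂ) (Subgroup.inclusion hHK h))
        (fun _ : ↥H => (1 : ℂ)) = (n : ℂ) := by
    intro θ
    exact classInner_char_char_nat
      (IsCharacter.comp_hom (Subgroup.inclusion hHK) (IsIrrCharacter.isCharacter θ.2))
      (isCharacter_one (G := ↥H))
  choose n hn using key
  have hnt : n (trivIrr ↥K) = 1 := by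
    have h1 := hn (trivIrr ↥K)
    have h2 : Cfsg.classInner (fun h : ↥H => ((trivIrr ↥K : Cfsg.IrrCharacter ↥K) : ↥K → ℂ)
        (Subgroup.inclusion hHK h)) (fun _ : ↥H => (1 : ℂ)) = 1 := by
      change Cfsg.classInner (fun _ : ↥H => (1 : ℂ)) (fun _ : ↥H => (1 : ℂ)) = 1
      rw [Cfsg.classInner]
      simp only [map_one, mul_one, Finset.sum_const, Finset.card_univ, nsmul_eq_mul]
      rw [Nat.card_eq_fintype_card]
      have : (Fintype.card ↥H : ℂ) ≠ 0 := by
        exact_mod_cast (Fintype.card_pos (α := ↥H)).ne'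
      field_simp
    rw [h2] at h1
    exact_mod_cast h1.symm
  have hsum : (aH : ℂ) = ∑ θ : Cfsg.IrrCharacter ↥K, (m θ : ℂ) * (n θ : ℂ) := by
    rw [← haH, Cfsg.classInner]
    have h1 : ∀ h : ↥H, ψ (h : G) * conj (1 : ℂ) =
        ∑ θ : Cfsg.IrrCharacter ↥K, (m θ : ℂ) *
          ((θ : ↥K → ℂ) (Subgroup.inclusion hHK h) * conj (1 : ℂ)) := by
      intro h
      have := hm2 (Subgroup.inclusion hHK h)
      simp only [Subgroup.coe_inclusion] at this
      rw [this, Finset.sum_mul]
      apply Finset.sum_congr rfl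
      intro θ _
      ring
    rw [Finset.sum_congr rfl (fun h _ => h1 h), Finset.sum_comm, Finset.mul_sum]
    apply Finset.sum_congr rfl
    intro θ _
    rw [← hn θ, Cfsg.classInner, ← Finset.mul_sum]
    ring
  have hsum' : aH = ∑ θ : Cfsg.IrrCharacter ↥K, m θ * n θ := by
    exact_mod_cast hsum
  rw [hsum', ← hmt]
  calc m (trivIrr ↥K) = m (trivIrr ↥K) * n (trivIrr ↥K) := by rw [hnt, mul_one]
    _ ≤ ∑ θ : Cfsg.IrrCharacter ↥K, m θ * n θ :=
      Finset.single_le_sum (f := fun θ => m θ * n θ) (fun θ _ => Nat.zero_le _)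
        (Finset.mem_univ _)

/-- The arithmetic of the assembly. -/
theorem assembly_arith {I : Type*} [Fintype I] [DecidableEq I] (o : I) (m deg aP aC : I → ℕ)
    (x e q T : ℕ) (hmo : m o = 1) (haCo : aC o = 1)
    (hx : ∑ η, m η * deg η = x ^ 2) (hT : ∑ η, m η * aP η = T) (he : e ≤ T)
    (hq : x ^ 2 + 1 < q) (haPdeg : ∀ η, aP η ≤ deg η)
    (hkey : ∀ η, η ≠ o → 1 ≤ m η → deg η + e + 1 < q + aP η → deg η < q → aC η = 0) :
    ∑ η, m η * aC η = 1 := by
  have hzero : ∀ η, η ≠ o → m η * aC η = 0 := by
    intro η hη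
    by_cases hm : m η = 0
    · rw [hm, zero_mul]
    · have hm1 : 1 ≤ m η := Nat.one_le_iff_ne_zero.mpr hm
      have h1 : m η * deg η ≤ x ^ 2 := by
        rw [← hx]
        exact Finset.single_le_sum (f := fun η => m η * deg η) (fun η _ => Nat.zero_le _)
          (Finset.mem_univ _)
      have h2 : deg η ≤ x ^ 2 := le_trans (Nat.le_mul_of_pos_left _ hm1) h1
      -- the excess
      have h3 : ∑ η, m η * aP η + (deg η - aP η) ≤ ∑ η, m η * deg η := by
        have h4 : ∀ η', m η' * aP η' + (if η' = η then deg η - aP η else 0) ≤ m η' * deg η' := by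
          intro η'
          split_ifs with h
          · subst h
            have := haPdeg η'
            have h5 : m η' * aP η' + m η' * (deg η' - aP η') = m η' * deg η' := by
              rw [← Nat.mul_add, Nat.add_sub_cancel' this]
            have h6 : deg η' - aP η' ≤ m η' * (deg η' - aP η') := Nat.le_mul_of_pos_left _ hm1
            omega
          · rw [add_zero]
            exact Nat.mul_le_mul_left _ (haPdeg η')
        have h7 := Finset.sum_le_sum (fun η' (_ : η' ∈ Finset.univ) => h4 η')
        rw [Finset.sum_add_distrib, Finset.sum_ite_eq' Finset.univ η,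
          if_pos (Finset.mem_univ _)] at h7
        exact h7
      rw [hx, hT] at h3
      have := haPdeg η
      rw [hkey η hη hm1 (by omega) (by omega), mul_zero]
  rw [Finset.sum_eq_single o (fun η _ hη => hzero η hη)
    (fun h => absurd (Finset.mem_univ _) h), hmo, haCo]

end Cfsg.Agent.Helper6.BLd
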