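import Mathlib
import Cfsg.Prelude.Def_Characters
import Cfsg.Prelude.Def_Blocks
import Cfsg.Prelude.Def_Local
import Cfsg.Agent.Helper6.BLdB
import Cfsg.Agent.Helper6.BLdD
import Cfsg.Agent.Helper6.BLdE
import Cfsg.Agent.Helper6.NormalInd
import Cfsg.Agent.Helper6.BlockKernel
import Cfsg.Agent.Helper6.MGroup

/-!
# Brauer–Leonard (degree bound): the restriction to the centralizer of `P` is irreducible
-/

set_option autoImplicit false
set_option linter.style.haveILetI false

namespace Cfsg.Agent.Helper6.BLd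

open scoped ComplexConjugate

universe u

variable {G : Type u} [Group G] {M : Ideal Cfsg.AlgInt}

/-- Restriction of an expansion in irreducible characters. -/
theorem classInner_res_expansion (H : Subgroup G) [Fintype ↥H] [Fintype (Cfsg.IrrCharacter G)]
    (Ξ : G → ℂ) (m : Cfsg.IrrCharacter G → ℕ)
    (hm : ∀ g, Ξ g = ∑ θ : Cfsg.IrrCharacter G, (m θ : ℂ) * (θ : G → ℂ) g)
    (a : Cfsg.IrrCharacter G → ℕ)
    (ha : ∀ θ : Cfsg.IrrCharacter G,
      Cfsg.classInner (fun h : ↥H => (θ : G → ℂ) (h : G)) (fun _ : ↥H => (1 : ℂ)) = (a θ : ℂ)) :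
    Cfsg.classInner (fun h : ↥H => Ξ (h : G)) (fun _ : ↥H => (1 : ℂ)) =
      ((∑ θ : Cfsg.IrrCharacter G, m θ * a θ : ℕ) : ℂ) := by
  rw [Cfsg.classInner]
  have h1 : ∀ h : ↥H, Ξ (h : G) * conj (1 : ℂ) =
      ∑ θ : Cfsg.IrrCharacter G, (m θ : ℂ) * ((θ : G → ℂ) (h : G) * conj (1 : ℂ)) := by
    intro h
    rw [hm, Finset.sum_mul]
    apply Finset.sum_congr rfl
    intro θ _
    ring
  rw [Finset.sum_congr rfl (fun h _ => h1 h), Finset.sum_comm, Finset.mul_sum]
  push_cast
  apply Finset.sum_congr rfl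
  intro θ _
  rw [← ha θ, Cfsg.classInner, ← Finset.mul_sum]
  ring

/-- An irreducible character with a normal subgroup `⊤` as kernel is principal. -/
theorem eq_one_of_forall_eq [Finite G] (θ : Cfsg.IrrCharacter G)
    (h : ∀ g : G, (θ : G → ℂ) g = (θ : G → ℂ) 1) : (θ : G → ℂ) = fun _ => 1 := by
  have h1 := irr_degree_one_of_commutators θ.2 (fun a b => h _)
  funext g
  rw [h g, h1]

open Classical in
/-- **Main lemma**: under the hypotheses of the Brauer–Leonard degree theorem, if no proper normal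
subgroup contains `P`, the restriction of `χ` to the centralizer of `P` is irreducible. -/
theorem classInner_centralizer_self [Finite G] {p : ℕ} [hp : Fact p.Prime]
    (hM : Cfsg.IsPModular p M) (P : Sylow p G)
    (hstar : ∀ x ∈ (P : Subgroup G), x ≠ 1 →
      Subgroup.centralizer ({x} : Set G) = Subgroup.centralizer ((P : Subgroup G) : Set G))
    (χ : Cfsg.IrrCharacter G) (hχ1 : (χ : G → ℂ) ≠ fun _ => 1)
    (hdeg : Cfsg.charDegree (χ : G → ℂ) ^ 2 + 1 < Nat.card ↥(P : Subgroup G))
    (hH0 : ∀ K : Subgroup G, K.Normal → (P : Subgroup G) ≤ K → K = ⊤)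
    [Fintype ↥(Subgroup.centralizer ((P : Subgroup G) : Set G))] :
    Cfsg.classInner
      (fun c : ↥(Subgroup.centralizer ((P : Subgroup G) : Set G)) => (χ : G → ℂ) (c : G))
      (fun c : ↥(Subgroup.centralizer ((P : Subgroup G) : Set G)) => (χ : G → ℂ) (c : G)) = 1 := by
  have hab := abelian_of_hstar P hstar
  have hab' : ∀ a b : ↥(P : Subgroup G), a * b = b * a := fun a b =>
    Subtype.ext (hab a a.2 b b.2)
  have hfrob : ∀ y : G, y ∈ (P : Subgroup G) → y ≠ 1 →
      Subgroup.centralizer ({y} : Set G) ⊓ Subgroup.normalizer ((P : Subgroup G) : Set G) =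
        Subgroup.centralizer ((P : Subgroup G) : Set G) := by
    intro y hy hy1
    rw [hstar y hy hy1]
    exact inf_eq_left.mpr (Subgroup.centralizer_le_normalizer _)
  have hfree := BLeo.free_of_frob (P : Subgroup G) hfrob
  haveI : Fintype G := Fintype.ofFinite G
  haveI : Fintype ↥(P : Subgroup G) := Fintype.ofFinite _
  haveI : Finite (↥(P : Subgroup G) →* ℂˣ) := finite_hom_units
  haveI : Fintype (↥(P : Subgroup G) →* ℂˣ) := Fintype.ofFinite _
  haveI : Finite (Cfsg.IrrCharacter G) := irr_finite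
  haveI : Fintype (Cfsg.IrrCharacter G) := Fintype.ofFinite _
  have hχc := IsIrrCharacter.isCharacter χ.2
  obtain ⟨e, hedef⟩ : ∃ e : ℕ, e = (Subgroup.centralizer ((P : Subgroup G) : Set G)).relIndex
      (Subgroup.normalizer ((P : Subgroup G) : Set G)) := ⟨_, rfl⟩
  obtain ⟨q, hqdef⟩ : ∃ q : ℕ, q = Nat.card ↥(P : Subgroup G) := ⟨_, rfl⟩
  obtain ⟨x, hxdef⟩ : ∃ x : ℕ, x = Cfsg.charDegree (χ : G → ℂ) := ⟨_, rfl⟩
  rw [← hqdef, ← hxdef] at hdeg
  -- characters with `P` in the kernel are principal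
  have hker : ∀ θ : Cfsg.IrrCharacter G,
      (∀ y ∈ (P : Subgroup G), (θ : G → ℂ) y = (θ : G → ℂ) 1) → (θ : G → ℂ) = fun _ => 1 := by
    intro θ hθ
    have h1 : kerSub θ = ⊤ := by
      apply hH0 _ (kerSub_normal θ)
      intro y hy
      exact (mem_kerSub θ y).mpr (hθ y hy)
    apply eq_one_of_forall_eq
    intro g
    have : g ∈ kerSub θ := by rw [h1]; exact Subgroup.mem_top g
    exact (mem_kerSub θ g).mp this
  -- multiplicities on `P`
  have hmultdata : ∀ θ : Cfsg.IrrCharacter G, ∃ μ : (↥(P : Subgroup G) →* ℂˣ) → ℕ,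
      (∀ l : ↥(P : Subgroup G) →* ℂˣ,
        Cfsg.classInner (fun y : ↥(P : Subgroup G) => (θ : G → ℂ) (y : G))
          (fun y : ↥(P : Subgroup G) => ((l y : ℂˣ) : ℂ)) = (μ l : ℂ)) ∧
      ∑ l, μ l = Cfsg.charDegree (θ : G → ℂ) := by
    intro θ
    have hθc := IsIrrCharacter.isCharacter θ.2
    obtain ⟨μ, hμ⟩ := exists_mult (P : Subgroup G) (θ : G → ℂ) hθc
    refine ⟨μ, hμ, ?_⟩
    have h1 := sum_classInner_hom hab' (fun y : ↥(P : Subgroup G) => (θ : G → ℂ) (y : G))
    simp only [hμ, Subgroup.coe_one] at h1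
    rw [← charDegree_cast_of_isCharacter hθc] at h1
    exact_mod_cast h1
  obtain ⟨μ, hμ, hμsum⟩ := hmultdata χ
  rw [← hxdef] at hμsum
  have hμinv : ∀ l l' : ↥(P : Subgroup G) →* ℂˣ,
      (∃ n : G, n ∈ Subgroup.normalizer ((P : Subgroup G) : Set G) ∧
        ∀ w w' : ↥(P : Subgroup G), (w' : G) = n * w * n⁻¹ → l' w' = l w) → μ l' = μ l := by
    intro l l' hrel
    have h1 := classInner_rel_eq (P : Subgroup G) (χ : G → ℂ)
      (IsCharacter.isClassFunction hχc) l l' hrel
    rw [hμ, hμ] at h1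
    exact_mod_cast h1
  have hexl : ∃ l₀ : ↥(P : Subgroup G) →* ℂˣ, l₀ ≠ 1 ∧ 1 ≤ μ l₀ := by
    by_contra hcon
    push Not at hcon
    apply hχ1
    apply hker
    have hval : ∀ y : ↥(P : Subgroup G), (χ : G → ℂ) (y : G) = (μ 1 : ℂ) := by
      intro y
      have h1 := fourier_inversion hab' (fun y : ↥(P : Subgroup G) => (χ : G → ℂ) (y : G)) y
      simp only [hμ] at h1
      rw [h1, Finset.sum_eq_single (1 : ↥(P : Subgroup G) →* ℂˣ)]
      · simp
      · intro l _ hl
        have h2 := hcon l hl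
        have h3 : μ l = 0 := by omega
        rw [h3]
        simp
      · intro h
        exact absurd (Finset.mem_univ _) h
    intro y hy
    have h1 := hval ⟨y, hy⟩
    have h2 := hval 1
    simp only [Subgroup.coe_one] at h1 h2
    rw [h1, h2]
  obtain ⟨l₀, hl₀, hpos⟩ := hexl
  obtain ⟨hex, heT⟩ := relIndex_le_sum (P : Subgroup G) hfree μ hμinv l₀ hl₀ hpos
  rw [← hedef, hμsum] at hex
  rw [← hedef] at heT
  -- the character `χ * conj χ`
  have hΞ : Cfsg.IsCharacter G (fun g => (χ : G → ℂ) g * conj ((χ : G → ℂ) g)) :=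
    IsCharacter.mul hχc (IsIrrCharacter.isCharacter (conj_isIrr χ.2))
  obtain ⟨m, hm1, hm2⟩ := char_expansion_nat hΞ
  have hmt : m (trivIrr G) = 1 := by
    have h1 := hm1 (trivIrr G)
    have h2 : Cfsg.classInner (fun g => (χ : G → ℂ) g * conj ((χ : G → ℂ) g))
        ((trivIrr G : Cfsg.IrrCharacter G) : G → ℂ) =
        Cfsg.classInner (χ : G → ℂ) (χ : G → ℂ) := by
      rw [Cfsg.classInner, Cfsg.classInner]
      congr 1
      apply Finset.sum_congr rfl
      intro g _
      change (χ : G → ℂ) g * conj ((χ : G → ℂ) g) * conj (1 : ℂ) = _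
      rw [map_one, mul_one]
    rw [h2, classInner_irr_self χ.2] at h1
    exact_mod_cast h1.symm
  have keyP : ∀ θ : Cfsg.IrrCharacter G, ∃ a : ℕ,
      Cfsg.classInner (fun y : ↥(P : Subgroup G) => (θ : G → ℂ) (y : G))
        (fun _ : ↥(P : Subgroup G) => (1 : ℂ)) = (a : ℂ) := fun θ =>
    classInner_char_char_nat (IsCharacter.restrict _ (IsIrrCharacter.isCharacter θ.2))
      isCharacter_one
  choose aP haP using keyP
  have keyC : ∀ θ : Cfsg.IrrCharacter G, ∃ a : ℕ,
      Cfsg.classInner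
        (fun c : ↥(Subgroup.centralizer ((P : Subgroup G) : Set G)) => (θ : G → ℂ) (c : G))
        (fun _ : ↥(Subgroup.centralizer ((P : Subgroup G) : Set G)) => (1 : ℂ)) = (a : ℂ) :=
    fun θ => classInner_char_char_nat
      (IsCharacter.restrict _ (IsIrrCharacter.isCharacter θ.2)) isCharacter_one
  choose aC haC using keyC
  -- the final computation
  have hfinal : Cfsg.classInner
      (fun c : ↥(Subgroup.centralizer ((P : Subgroup G) : Set G)) => (χ : G → ℂ) (c : G))
      (fun c : ↥(Subgroup.centralizer ((P : Subgroup G) : Set G)) => (χ : G → ℂ) (c : G)) =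
      ((∑ θ : Cfsg.IrrCharacter G, m θ * aC θ : ℕ) : ℂ) := by
    rw [← classInner_res_expansion (Subgroup.centralizer ((P : Subgroup G) : Set G))
      (fun g => (χ : G → ℂ) g * conj ((χ : G → ℂ) g)) m hm2 aC haC]
    rw [Cfsg.classInner, Cfsg.classInner]
    congr 1
    apply Finset.sum_congr rfl
    intro c _
    rw [map_one, mul_one]
  rw [hfinal]
  have hgoal : ∑ θ : Cfsg.IrrCharacter G, m θ * aC θ = 1 := by
    have hPC : (P : Subgroup G) ≤ Subgroup.centralizer ((P : Subgroup G) : Set G) := by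
      intro u hu
      rw [Subgroup.mem_centralizer_iff]
      intro w hw
      exact hab w hw u hu
    obtain ⟨y₀, hy₀1⟩ : ∃ y₀ : ↥(P : Subgroup G), y₀ ≠ 1 := by
      by_contra hcon
      push Not at hcon
      apply hl₀
      ext w
      rw [hcon w]
      simp
    have hy₀1' : (y₀ : G) ≠ 1 := fun h => hy₀1 (Subtype.ext h)
    have hidx : ∃ k : ℕ, (Cfsg.pPrimeCore p
        ↥(Subgroup.centralizer ((P : Subgroup G) : Set G))).index = p ^ k := by
      have := BLeo.pPrimeCore_index_centralizer P hab (y₀ : G) y₀.2 (hfrob _ y₀.2 hy₀1')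
      rw [hstar _ y₀.2 hy₀1'] at this
      exact this
    have hcent : ∀ y ∈ (P : Subgroup G),
        ∀ c ∈ Subgroup.centralizer ((P : Subgroup G) : Set G), y * c = c * y := by
      intro y hy c hc
      exact Subgroup.mem_centralizer_iff.mp hc y hy
    have hCy : ∀ y ∈ (P : Subgroup G), y ≠ 1 →
        Subgroup.centralizer ((P : Subgroup G) : Set G) = Subgroup.centralizer ({y} : Set G) :=
      fun y hy hy1 => (hstar y hy hy1).symm
    have he : e * e + 1 < q := by nlinarith
    have haCt : aC (trivIrr G) = 1 := by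
      have h1 := haC (trivIrr G)
      have h2 : Cfsg.classInner
          (fun c : ↥(Subgroup.centralizer ((P : Subgroup G) : Set G)) =>
            ((trivIrr G : Cfsg.IrrCharacter G) : G → ℂ) (c : G))
          (fun _ : ↥(Subgroup.centralizer ((P : Subgroup G) : Set G)) => (1 : ℂ)) = 1 := by
        change Cfsg.classInner
          (fun _ : ↥(Subgroup.centralizer ((P : Subgroup G) : Set G)) => (1 : ℂ))
          (fun _ : ↥(Subgroup.centralizer ((P : Subgroup G) : Set G)) => (1 : ℂ)) = 1
        rw [Cfsg.classInner]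
        simp only [map_one, mul_one, Finset.sum_const, Finset.card_univ, nsmul_eq_mul]
        rw [Nat.card_eq_fintype_card]
        have : (Fintype.card ↥(Subgroup.centralizer ((P : Subgroup G) : Set G)) : ℂ) ≠ 0 := by
          exact_mod_cast (Fintype.card_pos
            (α := ↥(Subgroup.centralizer ((P : Subgroup G) : Set G)))).ne'
        field_simp
      rw [h2] at h1
      exact_mod_cast h1.symm
    have hxsq : ∑ θ : Cfsg.IrrCharacter G, m θ * Cfsg.charDegree (θ : G → ℂ) = x ^ 2 := by
      have h1 := hm2 1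
      rw [← charDegree_cast_of_isCharacter hχc, ← hxdef, Complex.conj_natCast] at h1
      have h2 : ((x ^ 2 : ℕ) : ℂ) =
          ((∑ θ : Cfsg.IrrCharacter G, m θ * Cfsg.charDegree (θ : G → ℂ) : ℕ) : ℂ) := by
        push_cast
        rw [pow_two, h1]
        apply Finset.sum_congr rfl
        intro θ _
        rw [charDegree_cast_of_isCharacter (IsIrrCharacter.isCharacter θ.2)]
      exact_mod_cast h2.symm
    have hT : ∑ θ : Cfsg.IrrCharacter G, m θ * aP θ = ∑ l, μ l ^ 2 := by
      have h1 := classInner_res_expansion (P : Subgroup G)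
        (fun g => (χ : G → ℂ) g * conj ((χ : G → ℂ) g)) m hm2 aP haP
      have h2 : Cfsg.classInner (fun h : ↥(P : Subgroup G) =>
          (χ : G → ℂ) (h : G) * conj ((χ : G → ℂ) (h : G))) (fun _ : ↥(P : Subgroup G) => (1 : ℂ)) =
          Cfsg.classInner (fun y : ↥(P : Subgroup G) => (χ : G → ℂ) (y : G))
            (fun y : ↥(P : Subgroup G) => (χ : G → ℂ) (y : G)) := by
        rw [Cfsg.classInner, Cfsg.classInner]
        congr 1
        apply Finset.sum_congr rfl
        intro c _
        rw [map_one, mul_one]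
      rw [h2, parseval hab'] at h1
      simp only [hμ, Complex.conj_natCast] at h1
      have h3 : ((∑ l, μ l ^ 2 : ℕ) : ℂ) =
          ((∑ θ : Cfsg.IrrCharacter G, m θ * aP θ : ℕ) : ℂ) := by
        rw [← h1]
        push_cast
        apply Finset.sum_congr rfl
        intro l _
        ring
      exact_mod_cast h3.symm
    have haPdeg : ∀ θ : Cfsg.IrrCharacter G, aP θ ≤ Cfsg.charDegree (θ : G → ℂ) := by
      intro θ
      obtain ⟨μ', hμ', hμ'sum⟩ := hmultdata θ
      have h1 : μ' 1 = aP θ := by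
        have h2 := hμ' 1
        have h3 := haP θ
        change Cfsg.classInner (fun y : ↥(P : Subgroup G) => (θ : G → ℂ) (y : G))
          (fun _ : ↥(P : Subgroup G) => (1 : ℂ)) = _ at h2
        rw [h3] at h2
        exact_mod_cast h2.symm
      rw [← h1, ← hμ'sum]
      exact Finset.single_le_sum (f := μ') (fun l _ => Nat.zero_le _) (Finset.mem_univ _)
    refine assembly_arith (trivIrr G) m (fun θ => Cfsg.charDegree (θ : G → ℂ)) aP aC x e q
      (∑ l, μ l ^ 2) hmt haCt hxsq hT heT hdeg haPdeg ?_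
    intro θ hθ hmθ hH hdegθ
    by_cases hθB : θ ∈ Cfsg.principalBlock M G
    · rw [hedef, hqdef] at he hH
      rcases principal_constituent hM P hab hfrob he θ hθB (aP θ) (haP θ) hH with h | h
      · exfalso
        apply hθ
        apply Subtype.ext
        exact hker θ h
      · have h1 := classInner_one_mono (P : Subgroup G)
          (Subgroup.centralizer ((P : Subgroup G) : Set G)) hPC (θ : G → ℂ)
          (IsIrrCharacter.isCharacter θ.2) (aP θ) (aC θ) (haP θ) (haC θ)
        omega
    · rw [hqdef] at hdegθ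
      have h1 := classInner_centralizer_eq_zero hM P
        (Subgroup.centralizer ((P : Subgroup G) : Set G)) hPC hcent hCy hidx θ hθB hdegθ
      rw [haC θ] at h1
      exact_mod_cast h1
  rw [hgoal, Nat.cast_one]

end Cfsg.Agent.Helper6.BLd
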