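import Mathlib
import Cfsg.Prelude.Def_Characters
import Cfsg.Prelude.Def_Blocks
import Cfsg.Prelude.Def_Local
import Cfsg.Agent.Helper6.BLdF
import Cfsg.Agent.Helper6.IrrCrit
import Cfsg.Agent.Helper6.VanishOrderPA
import Cfsg.Agent.Helper6.TILeoC
import Cfsg.Agent.Helper6.Linear
import Cfsg.Agent.Helper6.PowCongr

/-!
# Brauer–Leonard (degree bound): the theorem for irreducible characters
-/

set_option autoImplicit false
set_option linter.style.haveILetI false

namespace Cfsg.Agent.Helper6.BLd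

open scoped ComplexConjugate

universe u

variable {G : Type u} [Group G] {M : Ideal Cfsg.AlgInt}

/-- If the restriction of a character to a subgroup `C` is irreducible, the character has
absolute value `χ 1` on the central elements of `C`. -/
theorem norm_eq_of_res_irr_of_central [Finite G] (C : Subgroup G) (χ : G → ℂ)
    (hirr : Cfsg.IsIrrCharacter ↥C (fun c : ↥C => χ (c : G))) (y : G) (hyC : y ∈ C)
    (hyc : ∀ c ∈ C, c * y = y * c) : ‖χ y‖ = ‖χ 1‖ := by
  obtain ⟨c, hc⟩ := exists_scalar_central (⟨_, hirr⟩ : Cfsg.IrrCharacter ↥C) ⟨y, hyC⟩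
    (fun h => Subtype.ext (hyc (h : G) h.2))
  have hc' : ∀ h : ↥C, χ (y * (h : G)) = c * χ (h : G) := fun h => hc h
  have hpow : ∀ k : ℕ, χ (y ^ k) = c ^ k * χ 1 := by
    intro k
    induction k with
    | zero => simp
    | succ k ih =>
      have := hc' ⟨y ^ k, Subgroup.pow_mem C hyC k⟩
      simp only at this
      rw [pow_succ', this, ih]
      ring
  have h1 : χ 1 ≠ 0 := by
    have := IsIrrCharacter.apply_one_ne_zero hirr
    simpa using this
  have h2 := hpow (orderOf y)
  rw [pow_orderOf_eq_one] at h2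
  have h3 : c ^ orderOf y = 1 := by
    have : (c ^ orderOf y - 1) * χ 1 = 0 := by linear_combination -h2
    rcases mul_eq_zero.mp this with h | h
    · exact sub_eq_zero.mp h
    · exact absurd h h1
  have h4 : ‖c‖ = 1 := norm_eq_one_of_pow_eq_one (orderOf_pos y) h3
  have h5 := hc' 1
  simp only [Subgroup.coe_one, mul_one] at h5
  rw [h5, norm_mul, h4, one_mul]

/-- If every element of a subgroup `P` is central modulo the kernel of the irreducible character
`χ` and no proper normal subgroup contains `P`, then `χ` is linear. -/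
theorem degree_one_of_central_mod_ker [Finite G] (P : Subgroup G) (χ : Cfsg.IrrCharacter G)
    (hH0 : ∀ K : Subgroup G, K.Normal → P ≤ K → K = ⊤)
    (hcomm : ∀ y ∈ P, ∀ k : G, (χ : G → ℂ) (y * k * y⁻¹ * k⁻¹) = (χ : G → ℂ) 1) :
    (χ : G → ℂ) 1 = 1 := by
  haveI hN : (kerSub χ).Normal := kerSub_normal χ
  have hZ : (Subgroup.center (G ⧸ kerSub χ)).comap (QuotientGroup.mk' (kerSub χ)) = ⊤ := by
    apply hH0 _ (Subgroup.Normal.comap inferInstance _)
    intro y hy
    rw [Subgroup.mem_comap, Subgroup.mem_center_iff]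
    intro q
    obtain ⟨k, rfl⟩ := QuotientGroup.mk'_surjective (kerSub χ) q
    rw [← map_mul, ← map_mul, QuotientGroup.mk'_eq_mk']
    refine ⟨(k * y)⁻¹ * (y * k), ?_, by group⟩
    have h1 : y * k⁻¹ * y⁻¹ * (k⁻¹)⁻¹ ∈ kerSub χ := (mem_kerSub χ _).mpr (hcomm y hy k⁻¹)
    have h2 := hN.conj_mem _ (Subgroup.inv_mem _ h1) y⁻¹
    have e : (k * y)⁻¹ * (y * k) = y⁻¹ * (y * k⁻¹ * y⁻¹ * (k⁻¹)⁻¹)⁻¹ * y⁻¹⁻¹ := by group
    rw [e]
    exact h2
  apply irr_degree_one_of_commutators χ.2
  intro a b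
  rw [← mem_kerSub, ← QuotientGroup.eq_one_iff]
  have ha : (QuotientGroup.mk' (kerSub χ)) a ∈ Subgroup.center (G ⧸ kerSub χ) := by
    rw [← Subgroup.mem_comap, hZ]
    exact Subgroup.mem_top a
  have hab := Subgroup.mem_center_iff.mp ha ((QuotientGroup.mk' (kerSub χ)) b)
  change ((a * b * a⁻¹ * b⁻¹ : G) : G ⧸ kerSub χ) = 1
  simp only [QuotientGroup.mk'_apply] at hab
  rw [QuotientGroup.mk_mul, QuotientGroup.mk_mul, QuotientGroup.mk_mul, QuotientGroup.mk_inv,
    QuotientGroup.mk_inv, ← hab]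
  group

/-- **Brauer–Leonard degree theorem**, with a fixed modular ideal: if no proper normal subgroup
contains `P`, then `G` has a normal `p`-complement and `χ` is linear. -/
theorem degree_theorem_aux [Finite G] {p : ℕ} [hp : Fact p.Prime]
    (hM : Cfsg.IsPModular p M) (P : Sylow p G)
    (hstar : ∀ x ∈ (P : Subgroup G), x ≠ 1 →
      Subgroup.centralizer ({x} : Set G) = Subgroup.centralizer ((P : Subgroup G) : Set G))
    (χ : Cfsg.IrrCharacter G) (hχ1 : (χ : G → ℂ) ≠ fun _ => 1)
    (hdeg : Cfsg.charDegree (χ : G → ℂ) ^ 2 + 1 < Nat.card ↥(P : Subgroup G))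
    (hH0 : ∀ K : Subgroup G, K.Normal → (P : Subgroup G) ≤ K → K = ⊤) :
    (∃ N : Subgroup G, N.Normal ∧ N.index = Nat.card ↥(P : Subgroup G)) ∧
      Cfsg.charDegree (χ : G → ℂ) = 1 := by
  haveI : Fintype ↥(Subgroup.centralizer ((P : Subgroup G) : Set G)) := Fintype.ofFinite _
  have hχc := IsIrrCharacter.isCharacter χ.2
  have hab := abelian_of_hstar P hstar
  have hPC : (P : Subgroup G) ≤ Subgroup.centralizer ((P : Subgroup G) : Set G) := by
    intro u hu
    rw [Subgroup.mem_centralizer_iff]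
    intro w hw
    exact hab w hw u hu
  have h1 := classInner_centralizer_self hM P hstar χ hχ1 hdeg hH0
  have hirrC := isIrrCharacter_of_classInner_self
    (IsCharacter.restrict (Subgroup.centralizer ((P : Subgroup G) : Set G)) hχc) h1
  have hnorm : ∀ y ∈ (P : Subgroup G), ‖(χ : G → ℂ) y‖ = ‖(χ : G → ℂ) 1‖ := by
    intro y hy
    apply norm_eq_of_res_irr_of_central _ _ hirrC y (hPC hy)
    intro c hc
    exact (Subgroup.mem_centralizer_iff.mp hc y hy).symm
  have hcomm : ∀ y ∈ (P : Subgroup G), ∀ k : G,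
      (χ : G → ℂ) (y * k * y⁻¹ * k⁻¹) = (χ : G → ℂ) 1 :=
    fun y hy k => char_commutator_of_norm_eq hχc y (hnorm y hy) k
  have hχone := degree_one_of_central_mod_ker (P : Subgroup G) χ hH0 hcomm
  have hdeg1 : Cfsg.charDegree (χ : G → ℂ) = 1 := by
    have := charDegree_cast_of_isCharacter hχc
    rw [hχone] at this
    exact_mod_cast this
  refine ⟨?_, hdeg1⟩
  obtain ⟨lam, hlam⟩ := exists_hom_of_irr_degree_one χ.2 hχone
  -- `P` is not in the kernel
  have hnotker : ∃ y ∈ (P : Subgroup G), lam y ≠ 1 := by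
    by_contra hcon
    push Not at hcon
    apply hχ1
    have h2 : kerSub χ = ⊤ := by
      apply hH0 _ (kerSub_normal χ)
      intro y hy
      rw [mem_kerSub, hlam]
      simp only
      rw [hcon y hy, map_one]
    funext g
    have : g ∈ kerSub χ := by rw [h2]; exact Subgroup.mem_top g
    rw [mem_kerSub, hχone] at this
    exact this
  obtain ⟨y₁, hy₁, hlamy⟩ := hnotker
  have hfrob : ∀ y : G, y ∈ (P : Subgroup G) → y ≠ 1 →
      Subgroup.centralizer ({y} : Set G) ⊓ Subgroup.normalizer ((P : Subgroup G) : Set G) =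
        Subgroup.centralizer ((P : Subgroup G) : Set G) := by
    intro y hy hy1
    rw [hstar y hy hy1]
    exact inf_eq_left.mpr (Subgroup.centralizer_le_normalizer _)
  have hfree := BLeo.free_of_frob (P : Subgroup G) hfrob
  have hNC : Subgroup.normalizer ((P : Subgroup G) : Set G) ≤
      Subgroup.centralizer ((P : Subgroup G) : Set G) := by
    intro n hn
    by_contra hnC
    have h2 := BLeo.hom_eq_one_of_fixed (P : Subgroup G) n hn (hfree n hn hnC)
      (lam.comp (P : Subgroup G).subtype) (by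
        intro w w' hw
        simp only [MonoidHom.coe_comp, Subgroup.coe_subtype, Function.comp_apply]
        rw [hw, map_mul, map_mul, map_inv]
        exact mul_inv_cancel_comm _ _)
    apply hlamy
    have h3 : (lam.comp (P : Subgroup G).subtype) ⟨y₁, hy₁⟩ = 1 := by rw [h2]; rfl
    exact h3
  have hcompl : Subgroup.IsComplement' (MonoidHom.transferSylow P hNC).ker (P : Subgroup G) :=
    MonoidHom.ker_transferSylow_isComplement' P hNC
  exact ⟨(MonoidHom.transferSylow P hNC).ker, inferInstance, hcompl.symm.index_eq_card⟩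

/-- **Brauer–Leonard degree theorem** (statement S4486). -/
theorem degree_theorem [Finite G] (p : ℕ) (hp : p.Prime) (P : Sylow p G)
    (hstar : ∀ x ∈ (P : Subgroup G), x ≠ 1 →
      Subgroup.centralizer ({x} : Set G) = Subgroup.centralizer ((P : Subgroup G) : Set G))
    (n : ℕ) (hn : Nat.card ↥(P : Subgroup G) = p ^ n) (χ : Cfsg.IrrCharacter G)
    (h1 : (χ : G → ℂ) ≠ fun _ => 1)
    (hdeg : Cfsg.charDegree (χ : G → ℂ) ^ 2 + 1 < p ^ n) :
    (∃ K : Subgroup G, K.Normal ∧ K ≠ ⊤ ∧ (P : Subgroup G) ≤ K) ∨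
      ((∃ N : Subgroup G, N.Normal ∧ N.index = p ^ n) ∧
        Cfsg.charDegree (χ : G → ℂ) = 1) := by
  haveI : Fact p.Prime := ⟨hp⟩
  obtain ⟨M, hM⟩ := exists_isPModular p hp
  by_cases hK : ∃ K : Subgroup G, K.Normal ∧ K ≠ ⊤ ∧ (P : Subgroup G) ≤ K
  · exact Or.inl hK
  · right
    have hH0 : ∀ K : Subgroup G, K.Normal → (P : Subgroup G) ≤ K → K = ⊤ := by
      intro K hKn hPK
      by_contra hne
      exact hK ⟨K, hKn, hne, hPK⟩
    rw [← hn] at hdeg ⊢
    exact degree_theorem_aux hM P hstar χ h1 hdeg hH0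

end Cfsg.Agent.Helper6.BLd
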