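import Mathlib
import Cfsg.Prelude.Def_Characters
import Cfsg.Prelude.Def_Blocks
import Cfsg.Agent.Helper6.BLdG

/-!
# Brauer–Leonard: faithful characters of small degree (statement S4485)
-/

set_option autoImplicit false
set_option linter.style.haveILetI false

namespace Cfsg.Agent.Helper6.BLd

open scoped ComplexConjugate

universe u

/-- The case where no proper normal subgroup contains `P`: the group is abelian. -/
theorem comm_of_faithful_of_no_normal {G : Type u} [Group G] [Finite G] (p : ℕ) (hp : p.Prime)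
    (P : Sylow p G)
    (hstar : ∀ x ∈ (P : Subgroup G), x ≠ 1 →
      Subgroup.centralizer ({x} : Set G) = Subgroup.centralizer ((P : Subgroup G) : Set G))
    (n : ℕ) (hn : Nat.card ↥(P : Subgroup G) = p ^ n) (χ : G → ℂ) (hχ : Cfsg.IsCharacter G χ)
    (hfaith : ∀ g : G, χ g = χ 1 → g = 1) (hdeg : Cfsg.charDegree χ ^ 2 + 1 < p ^ n)
    (hH0 : ∀ K : Subgroup G, K.Normal → (P : Subgroup G) ≤ K → K = ⊤) :
    ∀ a b : G, a * b = b * a := by
  classical
  haveI : Fintype G := Fintype.ofFinite G
  haveI : Finite (Cfsg.IrrCharacter G) := irr_finite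
  haveI : Fintype (Cfsg.IrrCharacter G) := Fintype.ofFinite _
  obtain ⟨m, hm1, hm2⟩ := char_expansion_nat hχ
  have hdegsum : Cfsg.charDegree χ = ∑ θ : Cfsg.IrrCharacter G, m θ * Cfsg.charDegree (θ : G → ℂ) := by
    have h1 := hm2 1
    rw [← charDegree_cast_of_isCharacter hχ] at h1
    have h2 : ((Cfsg.charDegree χ : ℕ) : ℂ) =
        ((∑ θ : Cfsg.IrrCharacter G, m θ * Cfsg.charDegree (θ : G → ℂ) : ℕ) : ℂ) := by
      rw [h1]
      push_cast
      apply Finset.sum_congr rfl
      intro θ _
      rw [charDegree_cast_of_isCharacter (IsIrrCharacter.isCharacter θ.2)]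
    exact_mod_cast h2
  have hlin : ∀ θ : Cfsg.IrrCharacter G, m θ ≠ 0 → ∀ a b : G,
      (θ : G → ℂ) (a * b * a⁻¹ * b⁻¹) = (θ : G → ℂ) 1 := by
    intro θ hmθ a b
    by_cases hθ1 : (θ : G → ℂ) = fun _ => 1
    · rw [hθ1]
    · have hle : Cfsg.charDegree (θ : G → ℂ) ≤ Cfsg.charDegree χ := by
        rw [hdegsum]
        calc Cfsg.charDegree (θ : G → ℂ) ≤ m θ * Cfsg.charDegree (θ : G → ℂ) :=
              Nat.le_mul_of_pos_left _ (Nat.pos_of_ne_zero hmθ)
          _ ≤ _ := Finset.single_le_sum
              (f := fun θ : Cfsg.IrrCharacter G => m θ * Cfsg.charDegree (θ : G → ℂ))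
              (fun θ _ => Nat.zero_le _) (Finset.mem_univ _)
      have hdegθ : Cfsg.charDegree (θ : G → ℂ) ^ 2 + 1 < p ^ n := by
        have := Nat.pow_le_pow_left hle 2
        omega
      rcases degree_theorem p hp P hstar n hn θ hθ1 hdegθ with ⟨K, hKn, hKt, hPK⟩ | ⟨_, h1⟩
      · exact absurd (hH0 K hKn hPK) hKt
      · have hθone : (θ : G → ℂ) 1 = 1 := by
          rw [← charDegree_cast_of_isCharacter (IsIrrCharacter.isCharacter θ.2), h1, Nat.cast_one]
        obtain ⟨lam, hlam⟩ := exists_hom_of_irr_degree_one θ.2 hθone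
        rw [hlam]
        simp only [map_mul, map_inv, map_one]
        rw [mul_comm (lam a) (lam b)]
        simp
  intro a b
  have h1 : χ (a * b * a⁻¹ * b⁻¹) = χ 1 := by
    rw [hm2, hm2 1]
    apply Finset.sum_congr rfl
    intro θ _
    by_cases hmθ : m θ = 0
    · rw [hmθ]
      simp
    · rw [hlin θ hmθ a b]
  have h2 := hfaith _ h1
  calc a * b = (a * b * a⁻¹ * b⁻¹) * (b * a) := by group
    _ = b * a := by rw [h2, one_mul]

/-- **Brauer–Leonard**, faithful characters: the induction. -/
theorem normal_of_faithful_aux (p : ℕ) (hp : p.Prime) (n : ℕ) :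
    ∀ (N : ℕ) (G : Type u) [Group G] [Finite G], Nat.card G = N → ∀ (P : Sylow p G),
      (∀ x ∈ (P : Subgroup G), x ≠ 1 →
        Subgroup.centralizer ({x} : Set G) = Subgroup.centralizer ((P : Subgroup G) : Set G)) →
      Nat.card ↥(P : Subgroup G) = p ^ n → ∀ (χ : G → ℂ), Cfsg.IsCharacter G χ →
      (∀ g : G, χ g = χ 1 → g = 1) → Cfsg.charDegree χ ^ 2 + 1 < p ^ n →
      (P : Subgroup G).Normal := by
  haveI : Fact p.Prime := ⟨hp⟩
  intro N
  induction N using Nat.strong_induction_on with
  | _ N ih =>
    intro G _ _ hN P hstar hn χ hχ hfaith hdeg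
    by_cases hK : ∃ K : Subgroup G, K.Normal ∧ K ≠ ⊤ ∧ (P : Subgroup G) ≤ K
    · obtain ⟨K, hKn, hKt, hPK⟩ := hK
      haveI := hKn
      have hlt : Nat.card ↥K < N := by
        rw [← hN]
        by_contra hcon
        exact hKt (Subgroup.eq_top_of_le_card K (not_lt.mp hcon))
      have hQcoe : ((P.subtype hPK : Sylow p ↥K) : Subgroup ↥K) = (P : Subgroup G).subgroupOf K :=
        Sylow.coe_subtype P hPK
      have hQn : ((P.subtype hPK : Sylow p ↥K) : Subgroup ↥K).Normal := by
        apply ih (Nat.card ↥K) hlt ↥K rfl (P.subtype hPK) ?_ ?_ (fun k : ↥K => χ (k : G))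
          (IsCharacter.restrict K hχ) ?_ ?_
        · intro x hx hx1
          rw [hQcoe] at hx ⊢
          have hxP : (x : G) ∈ (P : Subgroup G) := Subgroup.mem_subgroupOf.mp hx
          have hx1' : (x : G) ≠ 1 := fun h => hx1 (Subtype.ext h)
          have hc := hstar (x : G) hxP hx1'
          ext k
          rw [Subgroup.mem_centralizer_iff, Subgroup.mem_centralizer_iff]
          constructor
          · intro h w hw
            have hkc : (k : G) ∈ Subgroup.centralizer ({(x : G)} : Set G) := by
              rw [Subgroup.mem_centralizer_iff]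
              intro z hz
              rw [Set.mem_singleton_iff] at hz
              subst hz
              exact congrArg Subtype.val (h x (Set.mem_singleton x))
            rw [hc] at hkc
            apply Subtype.ext
            exact Subgroup.mem_centralizer_iff.mp hkc (w : G) (Subgroup.mem_subgroupOf.mp hw)
          · intro h w hw
            rw [Set.mem_singleton_iff] at hw
            subst hw
            exact h w hx
        · rw [hQcoe, ← hn]
          exact Nat.card_congr (Subgroup.subgroupOfEquivOfLe hPK).toEquiv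
        · intro k hk
          apply Subtype.ext
          exact hfaith (k : G) hk
        · exact hdeg
      haveI := Sylow.characteristic_of_normal (P.subtype hPK) hQn
      have hmap : ((P.subtype hPK : Sylow p ↥K) : Subgroup ↥K).map K.subtype =
          (P : Subgroup G) := by
        rw [hQcoe, Subgroup.subgroupOf_map_subtype]
        exact inf_eq_left.mpr hPK
      rw [← hmap]
      exact ConjAct.normal_of_characteristic_of_normal
    · have hH0 : ∀ K : Subgroup G, K.Normal → (P : Subgroup G) ≤ K → K = ⊤ := by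
        intro K hKn hPK
        by_contra hne
        exact hK ⟨K, hKn, hne, hPK⟩
      have hcomm := comm_of_faithful_of_no_normal p hp P hstar n hn χ hχ hfaith hdeg hH0
      constructor
      intro u hu g
      have : g * u * g⁻¹ = u := by
        rw [hcomm g u]
        group
      rw [this]
      exact hu

/-- **Brauer–Leonard**, faithful characters (statement S4485). -/
theorem normal_of_faithful {G : Type u} [Group G] [Finite G] (p : ℕ) (hp : p.Prime)
    (P : Sylow p G)
    (hstar : ∀ x ∈ (P : Subgroup G), x ≠ 1 →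
      Subgroup.centralizer ({x} : Set G) = Subgroup.centralizer ((P : Subgroup G) : Set G))
    (n : ℕ) (hn : Nat.card ↥(P : Subgroup G) = p ^ n) (χ : G → ℂ) (hχ : Cfsg.IsCharacter G χ)
    (hfaith : ∀ g : G, χ g = χ 1 → g = 1) (hdeg : Cfsg.charDegree χ ^ 2 + 1 < p ^ n) :
    (P : Subgroup G).Normal :=
  normal_of_faithful_aux p hp n (Nat.card G) G rfl P hstar hn χ hχ hfaith hdeg

end Cfsg.Agent.Helper6.BLd
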