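import Mathlib

/-!
# Chief factors over the core of a maximal subgroup (group theory for Isaacs 11.32)
-/

set_option autoImplicit false

namespace Cfsg.Agent.Helper6

universe u

variable {G : Type u} [Group G]

/-- there is a minimal normal subgroup strictly above a proper subgroup -/
theorem exists_minimal_normal_over [Finite G] (C : Subgroup G) (hC : C ≠ ⊤) :
    ∃ M : Subgroup G, M.Normal ∧ C < M ∧
      ∀ X : Subgroup G, X.Normal → C < X → X ≤ M → X = M := by
  classical
  have hfin : {X : Subgroup G | X.Normal ∧ C < X}.Finite := Set.toFinite _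
  have hne : {X : Subgroup G | X.Normal ∧ C < X}.Nonempty :=
    ⟨⊤, inferInstance, lt_top_iff_ne_top.mpr hC⟩
  obtain ⟨M, hM⟩ := hfin.exists_minimal hne
  refine ⟨M, hM.prop.1, hM.prop.2, ?_⟩
  intro X hXn hCX hXM
  exact le_antisymm hXM (hM.le_of_le ⟨hXn, hCX⟩ hXM)

/-- a chief factor of a group with solvable quotient is abelian -/
theorem commutator_le_of_minimal_over (C M : Subgroup G) [hCn : C.Normal] [hMn : M.Normal]
    (hCM : C < M) (hmin : ∀ X : Subgroup G, X.Normal → C < X → X ≤ M → X = M)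
    (hsol : Group.IsSolvable (G ⧸ C)) : ⁅M, M⁆ ≤ C := by
  by_contra hnot
  haveI : (⁅M, M⁆ : Subgroup G).Normal := Subgroup.commutator_normal M M
  have hXn : (⁅M, M⁆ ⊔ C).Normal := inferInstance
  have hCX : C < ⁅M, M⁆ ⊔ C := by
    apply lt_of_le_of_ne le_sup_right
    intro h
    apply hnot
    rw [h]
    exact le_sup_left
  have hXM : ⁅M, M⁆ ⊔ C ≤ M := sup_le (Subgroup.commutator_le_left M M) hCM.le
  have hX := hmin _ hXn hCX hXM
  have hmap : ⁅M.map (QuotientGroup.mk' C), M.map (QuotientGroup.mk' C)⁆ =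
      M.map (QuotientGroup.mk' C) := by
    rw [← Subgroup.map_commutator]
    conv_rhs => rw [← hX, Subgroup.map_sup, QuotientGroup.map_mk'_self, sup_bot_eq]
  have hall : ∀ n : ℕ, M.map (QuotientGroup.mk' C) ≤ derivedSeries (G ⧸ C) n := by
    intro n
    induction n with
    | zero => exact le_top
    | succ n ih =>
      rw [derivedSeries_succ, ← hmap]
      exact Subgroup.commutator_mono ih ih
  obtain ⟨n, hn⟩ := hsol.solvable
  have hbot : M.map (QuotientGroup.mk' C) = ⊥ := by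
    rw [eq_bot_iff, ← hn]
    exact hall n
  rw [Subgroup.map_eq_bot_iff, QuotientGroup.ker_mk'] at hbot
  exact absurd hbot (not_le_of_gt hCM)


/-- the order of the image of `M` in `G ⧸ C` -/
theorem card_map_mk'_eq_relIndex [Finite G] (C M : Subgroup G) [hCn : C.Normal] (hCM : C ≤ M) :
    Nat.card (M.map (QuotientGroup.mk' C)) = C.relIndex M := by
  have h1 : (M.map (QuotientGroup.mk' C)).index = M.index :=
    Subgroup.index_map_eq M (QuotientGroup.mk'_surjective C)
      (by rw [QuotientGroup.ker_mk']; exact hCM)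
  have h2 := Subgroup.card_mul_index (M.map (QuotientGroup.mk' C))
  have h3 : Nat.card (G ⧸ C) = C.index := (Subgroup.index_eq_card C).symm
  have h4 := Subgroup.relIndex_mul_index hCM
  have h5 : M.index ≠ 0 := Subgroup.index_ne_zero_of_finite
  rw [h1, h3, ← h4] at h2
  exact Nat.eq_of_mul_eq_mul_right (Nat.pos_of_ne_zero h5) h2

/-- an abelian chief factor is a `p`-group -/
theorem relIndex_eq_prime_pow_of_minimal_over [Finite G] (C M : Subgroup G) [hCn : C.Normal]
    [hMn : M.Normal] (hCM : C < M)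
    (hmin : ∀ X : Subgroup G, X.Normal → C < X → X ≤ M → X = M)
    (hab : ⁅M, M⁆ ≤ C) : ∃ p : ℕ, p.Prime ∧ ∃ n : ℕ, C.relIndex M = p ^ n := by
  classical
  set π := QuotientGroup.mk' C with hπ
  have hcard := card_map_mk'_eq_relIndex C M hCM.le
  have hne1 : Nat.card (M.map π) ≠ 1 := by
    intro h1
    rw [Subgroup.card_eq_one, Subgroup.map_eq_bot_iff, QuotientGroup.ker_mk'] at h1
    exact absurd h1 (not_le_of_gt hCM)
  obtain ⟨p, hp, hpd⟩ := Nat.exists_prime_and_dvd hne1
  haveI : Fact p.Prime := ⟨hp⟩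
  refine ⟨p, hp, ?_⟩
  -- elements of `M` commute modulo `C`
  have hcomm : ∀ x ∈ M, ∀ y ∈ M, π x * π y = π y * π x := by
    intro x hx y hy
    have h1 : x * y * x⁻¹ * y⁻¹ ∈ C := by
      have := hab (Subgroup.commutator_mem_commutator hx hy)
      rwa [commutatorElement_def] at this
    have h2 : π (x * y * x⁻¹ * y⁻¹) = 1 := by
      rw [hπ, QuotientGroup.mk'_apply, QuotientGroup.eq_one_iff]
      exact h1
    rw [map_mul, map_mul, map_mul, map_inv, map_inv] at h2
    calc π x * π y = (π x * π y * (π x)⁻¹ * (π y)⁻¹) * (π y * π x) := by group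
      _ = π y * π x := by rw [h2, one_mul]
  -- the subgroup of elements of `p`-power order modulo `C`
  let X : Subgroup G :=
    { carrier := {x | x ∈ M ∧ ∃ k : ℕ, π x ^ p ^ k = 1}
      one_mem' := ⟨M.one_mem, 0, by simp⟩
      mul_mem' := by
        rintro x y ⟨hx, a, ha⟩ ⟨hy, b, hb⟩
        refine ⟨M.mul_mem hx hy, a + b, ?_⟩
        rw [map_mul, (show Commute (π x) (π y) from hcomm x hx y hy).mul_pow, pow_add, pow_mul,
          ha, one_pow, one_mul, mul_comm (p ^ a) (p ^ b), pow_mul, hb, one_pow]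
      inv_mem' := by
        rintro x ⟨hx, a, ha⟩
        exact ⟨M.inv_mem hx, a, by rw [map_inv, inv_pow, ha, inv_one]⟩ }
  have hXmem : ∀ x, x ∈ X ↔ x ∈ M ∧ ∃ k : ℕ, π x ^ p ^ k = 1 := fun x => Iff.rfl
  have hXn : X.Normal := by
    constructor
    intro x hx g
    rw [hXmem] at hx ⊢
    obtain ⟨hxM, k, hk⟩ := hx
    refine ⟨hMn.conj_mem x hxM g, k, ?_⟩
    rw [map_mul, map_mul, map_inv, conj_pow, hk, mul_one, mul_inv_cancel]
  have hCX : C ≤ X := by
    intro c hc
    rw [hXmem]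
    refine ⟨hCM.le hc, 0, ?_⟩
    rw [pow_zero, pow_one, hπ, QuotientGroup.mk'_apply, QuotientGroup.eq_one_iff]
    exact hc
  have hXM : X ≤ M := fun x hx => ((hXmem x).mp hx).1
  -- an element of order `p` in the image
  obtain ⟨y, hy⟩ := exists_prime_orderOf_dvd_card' p hpd
  obtain ⟨x, hxM, hxy⟩ := Subgroup.mem_map.mp y.2
  have hxX : x ∈ X := by
    rw [hXmem]
    refine ⟨hxM, 1, ?_⟩
    rw [pow_one, hxy, ← Subgroup.coe_pow, ← hy, pow_orderOf_eq_one, Subgroup.coe_one]
  have hxC : x ∉ C := by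
    intro hxC
    have h1 : π x = 1 := by
      rw [hπ, QuotientGroup.mk'_apply, QuotientGroup.eq_one_iff]
      exact hxC
    rw [hxy] at h1
    have h2 : y = 1 := Subtype.ext h1
    rw [h2, orderOf_one] at hy
    exact hp.one_lt.ne' hy.symm
  have hCltX : C < X := lt_of_le_of_ne hCX (fun h => hxC (h ▸ hxX))
  have hXeq := hmin X hXn hCltX hXM
  have hpg : IsPGroup p (M.map π) := by
    intro z
    obtain ⟨x, hxM, hxz⟩ := Subgroup.mem_map.mp z.2
    have hx : x ∈ X := hXeq ▸ hxM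
    obtain ⟨-, k, hk⟩ := (hXmem x).mp hx
    refine ⟨k, ?_⟩
    apply Subtype.ext
    rw [Subgroup.coe_pow, ← hxz, hk, Subgroup.coe_one]
  obtain ⟨n, hn⟩ := hpg.exists_card_eq
  exact ⟨n, by rw [← hcard, hn]⟩


/-- a nontrivial normal subgroup of a finite `p`-group contains a nontrivial central element -/
theorem pgroup_normal_central_elt {Q : Type*} [Group Q] [Finite Q] {p : ℕ} [hp : Fact p.Prime]
    (hQ : IsPGroup p Q) (M : Subgroup Q) [hM : M.Normal] (hMne : M ≠ ⊥) :
    ∃ b ∈ M, b ≠ 1 ∧ ∀ g : Q, g * b = b * g := by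
  have hQ' : IsPGroup p (ConjAct Q) := hQ
  have hcard : p ∣ Nat.card M := by
    obtain ⟨k, hk⟩ := (hQ.to_subgroup M).exists_card_eq
    have hk0 : k ≠ 0 := by
      rintro rfl
      rw [pow_zero] at hk
      exact hMne (Subgroup.card_eq_one.1 hk)
    rw [hk]
    exact dvd_pow_self p hk0
  have h1 : (1 : M) ∈ MulAction.fixedPoints (ConjAct Q) M := by
    intro g
    exact smul_one g
  obtain ⟨b, hb, hne⟩ := hQ'.exists_fixed_point_of_prime_dvd_card_of_fixed_point M hcard h1
  refine ⟨(b : Q), b.2, ?_, ?_⟩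
  · intro h
    apply hne
    exact (Subtype.ext h).symm
  · intro g
    have h2 := hb (ConjAct.toConjAct g)
    have h3 := congrArg Subtype.val h2
    rw [ConjAct.Subgroup.val_conj_smul, ConjAct.smul_def, ConjAct.ofConjAct_toConjAct] at h3
    calc g * b = g * b * g⁻¹ * g := by group
      _ = b * g := by rw [h3]

/-- if `M / C` is a chief factor and `K / C` is a `p`-group then `K` centralizes `M / C` -/
theorem commutator_mem_of_pgroup_over [Finite G] (C M K : Subgroup G) [hCn : C.Normal]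
    [hMn : M.Normal] [hKn : K.Normal] (hCM : C < M) (hMK : M ≤ K)
    (hmin : ∀ X : Subgroup G, X.Normal → C < X → X ≤ M → X = M)
    {p : ℕ} (hp : p.Prime) {n : ℕ} (hcard : C.relIndex K = p ^ n) :
    ∀ m ∈ M, ∀ k ∈ K, m * k * m⁻¹ * k⁻¹ ∈ C := by
  classical
  haveI : Fact p.Prime := ⟨hp⟩
  set π := QuotientGroup.mk' C with hπ
  have hπ1 : ∀ x : G, π x = 1 ↔ x ∈ C := by
    intro x
    rw [hπ, QuotientGroup.mk'_apply, QuotientGroup.eq_one_iff]
  have hCK : C ≤ K := hCM.le.trans hMK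
  have hQ : IsPGroup p (K.map π) := by
    apply IsPGroup.of_card (n := n)
    rw [card_map_mk'_eq_relIndex C K hCK, hcard]
  haveI : (M.map π).Normal :=
    Subgroup.Normal.map hMn π (QuotientGroup.mk'_surjective C)
  haveI : ((M.map π).subgroupOf (K.map π)).Normal := Subgroup.Normal.subgroupOf inferInstance _
  have hne : (M.map π).subgroupOf (K.map π) ≠ ⊥ := by
    intro h
    rw [Subgroup.subgroupOf_eq_bot, disjoint_iff, inf_of_le_left (Subgroup.map_mono hMK),
      Subgroup.map_eq_bot_iff, QuotientGroup.ker_mk'] at h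
    exact absurd h (not_le_of_gt hCM)
  obtain ⟨b, hbM, hb1, hbc⟩ := pgroup_normal_central_elt hQ _ hne
  rw [Subgroup.mem_subgroupOf] at hbM
  obtain ⟨m₀, hm₀M, hm₀⟩ := Subgroup.mem_map.mp hbM
  -- the subgroup of elements of `M` centralized by `K` modulo `C`
  haveI : (K.map π).Normal := Subgroup.Normal.map hKn π (QuotientGroup.mk'_surjective C)
  let X : Subgroup G := M ⊓ (Subgroup.centralizer (K.map π : Set (G ⧸ C))).comap π
  have hXn : X.Normal := inferInstance
  have hXmem : ∀ x, x ∈ X ↔ x ∈ M ∧ ∀ k ∈ K, π k * π x = π x * π k := by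
    intro x
    change x ∈ M ⊓ _ ↔ _
    rw [Subgroup.mem_inf, Subgroup.mem_comap, Subgroup.mem_centralizer_iff]
    constructor
    · rintro ⟨hx, h⟩
      exact ⟨hx, fun k hk => h _ (Subgroup.mem_map_of_mem π hk)⟩
    · rintro ⟨hx, h⟩
      refine ⟨hx, ?_⟩
      intro y hy
      obtain ⟨k, hk, rfl⟩ := Subgroup.mem_map.mp hy
      exact h k hk
  have hCX : C ≤ X := by
    intro c hc
    rw [hXmem]
    refine ⟨hCM.le hc, fun k _ => ?_⟩
    rw [(hπ1 c).mpr hc, mul_one, one_mul]
  have hXM : X ≤ M := inf_le_left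
  have hm₀X : m₀ ∈ X := by
    rw [hXmem]
    refine ⟨hm₀M, fun k hk => ?_⟩
    have := hbc ⟨π k, Subgroup.mem_map_of_mem π hk⟩
    have h2 := congrArg Subtype.val this
    rw [Subgroup.coe_mul, Subgroup.coe_mul, ← hm₀] at h2
    exact h2
  have hm₀C : m₀ ∉ C := by
    intro h
    apply hb1
    apply Subtype.ext
    rw [← hm₀, (hπ1 m₀).mpr h, Subgroup.coe_one]
  have hCltX : C < X := lt_of_le_of_ne hCX (fun h => hm₀C (h ▸ hm₀X))
  have hXeq := hmin X hXn hCltX hXM
  intro m hm k hk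
  have hmX : m ∈ X := hXeq ▸ hm
  have h1 := ((hXmem m).mp hmX).2 k hk
  rw [← hπ1, map_mul, map_mul, map_mul, map_inv, map_inv, ← h1]
  group


/-- every element is a product of an element of the normal subgroup `M` and one of `H` when
`M ⊔ H = ⊤` -/
theorem exists_mul_of_sup_eq_top (M H : Subgroup G) [hMn : M.Normal] (hsup : M ⊔ H = ⊤) (g : G) :
    ∃ m ∈ M, ∃ h ∈ H, g = m * h := by
  have hg : g ∈ M ⊔ H := by rw [hsup]; exact Subgroup.mem_top g
  have h1 : g ∈ ((M ⊔ H : Subgroup G) : Set G) := hg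
  rw [Subgroup.normal_mul] at h1
  obtain ⟨m, hm, h, hh, rfl⟩ := Set.mem_mul.mp h1
  exact ⟨m, hm, h, hh, rfl⟩

/-- a subgroup of `H` normalized by `H` and by `M`, where `M ⊔ H = ⊤`, lies in the core of `H` -/
theorem le_normalCore_of_normalizes (M H D : Subgroup G) [hMn : M.Normal] (hsup : M ⊔ H = ⊤)
    (hDH : D ≤ H) (hH : ∀ h ∈ H, ∀ d ∈ D, h * d * h⁻¹ ∈ D)
    (hM : ∀ m ∈ M, ∀ d ∈ D, m * d * m⁻¹ ∈ D) : D ≤ H.normalCore := by
  have hDn : D.Normal := by
    constructor
    intro d hd g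
    obtain ⟨m, hm, h, hh, rfl⟩ := exists_mul_of_sup_eq_top M H hsup g
    have h1 := hM m hm _ (hH h hh d hd)
    have h2 : m * h * d * (m * h)⁻¹ = m * (h * d * h⁻¹) * m⁻¹ := by group
    rw [h2]
    exact h1
  exact (Subgroup.normal_le_normalCore).mpr hDH

/-- the intersection of an abelian chief factor over the core with the maximal subgroup -/
theorem inf_eq_normalCore_of_abelian (M H : Subgroup G) [hMn : M.Normal] (hsup : M ⊔ H = ⊤)
    (hCM : H.normalCore ≤ M) (hab : ⁅M, M⁆ ≤ H.normalCore) : M ⊓ H = H.normalCore := by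
  apply le_antisymm
  · apply le_normalCore_of_normalizes M H (M ⊓ H) hsup inf_le_right
    · intro h hh d hd
      exact ⟨hMn.conj_mem d hd.1 h, H.mul_mem (H.mul_mem hh hd.2) (H.inv_mem hh)⟩
    · intro m hm d hd
      refine ⟨hMn.conj_mem d hd.1 m, ?_⟩
      have h1 : m * d * m⁻¹ * d⁻¹ ∈ H.normalCore := by
        have := hab (Subgroup.commutator_mem_commutator hm hd.1)
        rwa [commutatorElement_def] at this
      have h2 : m * d * m⁻¹ = (m * d * m⁻¹ * d⁻¹) * d := by group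
      rw [h2]
      exact H.mul_mem (Subgroup.normalCore_le H h1) hd.2
  · exact le_inf hCM (Subgroup.normalCore_le H)

/-- the index of `H` equals the index of `M ⊓ H` in `M` when `M ⊔ H = ⊤` -/
theorem index_eq_relIndex_inf_of_sup_eq_top [Finite G] (M H : Subgroup G) [hMn : M.Normal]
    (hsup : M ⊔ H = ⊤) : H.index = (M ⊓ H).relIndex M := by
  have h1 : M.relIndex (H ⊔ M) = M.relIndex H := Subgroup.relIndex_sup_right H M
  rw [sup_comm, hsup, Subgroup.relIndex_top_right] at h1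
  have h2 : (M ⊓ H).relIndex M * M.index = (M ⊓ H).index := Subgroup.relIndex_mul_index inf_le_left
  have h3 : (M ⊓ H).relIndex H * H.index = (M ⊓ H).index :=
    Subgroup.relIndex_mul_index inf_le_right
  have h4 : (M ⊓ H).relIndex H = M.relIndex H := Subgroup.inf_relIndex_right M H
  have h5 : M.index ≠ 0 := Subgroup.index_ne_zero_of_finite
  rw [h4, ← h1, ← h2, mul_comm] at h3
  exact Nat.eq_of_mul_eq_mul_right (Nat.pos_of_ne_zero h5) h3

/-- if `M` normalizes `K ⊓ H` then `K ≤ M` -/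
theorem le_of_normalizes_inf (M K H : Subgroup G) [hMn : M.Normal] [hKn : K.Normal]
    (hsup : M ⊔ H = ⊤) (hCM : H.normalCore ≤ M) (hMK : M ≤ K)
    (hM : ∀ m ∈ M, ∀ d ∈ K ⊓ H, m * d * m⁻¹ ∈ H) : K ≤ M := by
  have hD : K ⊓ H ≤ H.normalCore := by
    apply le_normalCore_of_normalizes M H (K ⊓ H) hsup inf_le_right
    · intro h hh d hd
      exact ⟨hKn.conj_mem d hd.1 h, H.mul_mem (H.mul_mem hh hd.2) (H.inv_mem hh)⟩
    · intro m hm d hd
      exact ⟨hKn.conj_mem d hd.1 m, hM m hm d hd⟩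
  intro k hk
  obtain ⟨m, hm, h, hh, rfl⟩ := exists_mul_of_sup_eq_top M H hsup k
  have hhK : h ∈ K := by
    have h1 : h = m⁻¹ * (m * h) := by group
    rw [h1]
    exact K.mul_mem (K.inv_mem (hMK hm)) hk
  exact M.mul_mem hm (hCM (hD ⟨hhK, hh⟩))

end Cfsg.Agent.Helper6
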