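import Mathlib
import Cfsg.Prelude.Def_Characters
import Cfsg.Agent.Helper6.BergerA
import Cfsg.Agent.Helper6.BergerB

/-!
# Isaacs 11.32: a character induced from a maximal subgroup with solvable quotient over its core
is not quasi-primitive
-/

set_option autoImplicit false
set_option linter.style.haveILetI false

namespace Cfsg.Agent.Helper6

open scoped ComplexConjugate

universe u

variable {G : Type u} [Group G]

/-- a quotient of a solvable quotient is solvable -/
theorem solvable_quotient_of_le (L C : Subgroup G) [hL : L.Normal] [hC : C.Normal] (h : L ≤ C)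
    (hs : Group.IsSolvable (G ⧸ L)) : Group.IsSolvable (G ⧸ C) := by
  have hker : L ≤ (QuotientGroup.mk' C).ker := by
    rw [QuotientGroup.ker_mk']
    exact h
  exact Group.isSolvable_of_surjective
    (QuotientGroup.lift_surjective_of_surjective (N := L) (QuotientGroup.mk' C)
      (QuotientGroup.mk'_surjective C) hker)

/-- the norm of the restriction of `χ` to `⊤` -/
theorem classInner_restrict_of_eq_top [Fintype G] (M : Subgroup G) [Fintype M] (hM : M = ⊤)
    (χ : G → ℂ) :
    Cfsg.classInner (fun m : M => χ m) (fun m : M => χ m) = Cfsg.classInner χ χ := by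
  let e : M ≃ G := ((MulEquiv.subgroupCongr hM).trans Subgroup.topEquiv).toEquiv
  have h1 : (fun m : M => χ m) = χ ∘ e := rfl
  rw [h1]
  exact classInner_comp_equiv' e χ χ


/-- **Isaacs 11.32** -/
theorem induced_not_quasiprimitive [Fintype G] (L H : Subgroup G) [hLn : L.Normal] (hLH : L ≤ H)
    (hmax : IsCoatom H) (hsolv : Group.IsSolvable (G ⧸ L)) (θ : H → ℂ)
    (hθ : Cfsg.IsIrrCharacter H θ)
    (hθL : Cfsg.IsIrrCharacter L (fun x : L => θ ⟨(x : G), hLH x.2⟩))
    (hind : Cfsg.IsIrrCharacter G (Cfsg.indFun H θ)) :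
    ∃ M : Subgroup G, M.Normal ∧ L ≤ M ∧ ¬ ∃ (φ : M → ℂ) (e : ℕ), Cfsg.IsIrrCharacter M φ ∧
      (fun m : M => Cfsg.indFun H θ m) = (e : ℂ) • φ := by
  classical
  by_contra hcon
  push Not at hcon
  set χ := Cfsg.indFun H θ with hχdef
  have hχcf : Cfsg.IsClassFunction G χ := IsCharacter.isClassFunction (IsIrrCharacter.isCharacter hind)
  have hθc := IsIrrCharacter.isCharacter hθ
  have hLC : L ≤ H.normalCore := Subgroup.normal_le_normalCore.mpr hLH
  have hCH : H.normalCore ≤ H := Subgroup.normalCore_le H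
  have hHtop : H ≠ ⊤ := hmax.1
  have hCtop : H.normalCore ≠ ⊤ := by
    intro h
    apply hHtop
    rw [eq_top_iff, ← h]
    exact hCH
  have hsolC : Group.IsSolvable (G ⧸ H.normalCore) := solvable_quotient_of_le L _ hLC hsolv
  obtain ⟨M, hMn, hCM, hmin⟩ := exists_minimal_normal_over H.normalCore hCtop
  haveI := hMn
  have hab := commutator_le_of_minimal_over H.normalCore M hCM hmin hsolC
  obtain ⟨p, hp, n, hpn⟩ := relIndex_eq_prime_pow_of_minimal_over H.normalCore M hCM hmin hab
  have hMH : ¬ M ≤ H := by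
    intro h
    have : M ≤ H.normalCore := Subgroup.normal_le_normalCore.mpr h
    exact absurd this (not_le_of_gt hCM)
  have hsup : M ⊔ H = ⊤ := by
    apply hmax.2
    apply lt_of_le_of_ne le_sup_right
    intro h
    apply hMH
    rw [h]
    exact le_sup_left
  have hinf : M ⊓ H = H.normalCore := inf_eq_normalCore_of_abelian M H hsup hCM.le hab
  have hidx : H.index = p ^ n := by
    rw [index_eq_relIndex_inf_of_sup_eq_top M H hsup, hinf, hpn]
  -- characters
  haveI : Fintype H := Fintype.ofFinite _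
  haveI : Fintype H.normalCore := Fintype.ofFinite _
  haveI : Fintype M := Fintype.ofFinite _
  have hφ : Cfsg.IsIrrCharacter H.normalCore (fun x : H.normalCore => θ ⟨x, hCH x.2⟩) :=
    irr_restrict_mid H θ hθc L _ hLC hCH hθL
  set φ : H.normalCore → ℂ := fun x : H.normalCore => θ ⟨x, hCH x.2⟩ with hφdef
  obtain ⟨φC, eC, hφC, hresC⟩ := hcon H.normalCore inferInstance hLC
  obtain ⟨ψ, e, hψ, hresM⟩ := hcon M hMn (hLC.trans hCM.le)
  have hχ1 : χ 1 = (H.index : ℂ) * θ 1 := indFun_apply_one H θ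
  have hχ1ne : χ 1 ≠ 0 := IsIrrCharacter.apply_one_ne_zero hind
  have he0 : (e : ℂ) ≠ 0 := by
    intro h
    have h1 := congrFun hresM 1
    simp only [Pi.smul_apply, smul_eq_mul, h, zero_mul] at h1
    exact hχ1ne h1
  have hψinv := invariant_of_restrict_eq_smul M χ hχcf ψ e he0 hresM
  have hmackM := classInner_restrict_indFun_of_sup_eq_top M ψ hψinv H hsup H.normalCore hCM.le hCH
    (fun x hxM hxH => by rw [← hinf]; exact ⟨hxM, hxH⟩) θ
  rw [← hχdef, hresM, classInner_smul_left, classInner_irr_self hψ, mul_one] at hmackM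
  -- `hmackM : e = ⟨φ, ψ_C⟩`
  set ψC : H.normalCore → ℂ := fun d : H.normalCore => ψ ⟨d, hCM.le d.2⟩ with hψCdef
  have hψCc : Cfsg.IsCharacter H.normalCore ψC :=
    IsCharacter.comp_hom (Subgroup.inclusion hCM.le) (IsIrrCharacter.isCharacter hψ)
  have hin1 : Cfsg.classInner ψC φ = e := by
    rw [classInner_conj_symm, ← hmackM, Complex.conj_natCast]
  -- restriction of `χ` to the core in two ways
  have hχC : (fun x : H.normalCore => χ x) = (e : ℂ) • ψC := by
    funext x
    have := congrFun hresM ⟨x, hCM.le x.2⟩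
    simpa using this
  have hin2 : Cfsg.classInner (fun x : H.normalCore => χ x) φ = (e : ℂ) * e := by
    rw [hχC, classInner_smul_left, hin1]
  have hφCeq : φC = φ := by
    by_contra hne
    rw [hresC, classInner_smul_left, classInner_irr_ne hφC hφ hne, mul_zero] at hin2
    exact mul_ne_zero he0 he0 hin2.symm
  have heC : (eC : ℂ) = (e : ℂ) * e := by
    rw [hresC, hφCeq, classInner_smul_left, classInner_irr_self hφ, mul_one] at hin2
    exact hin2
  have hψCeq : ψC = (e : ℂ) • φ := by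
    have h1 : (e : ℂ) • ψC = (e : ℂ) • ((e : ℂ) • φ) := by
      rw [← hχC, hresC, hφCeq, heC, smul_smul]
    exact smul_right_injective _ he0 h1
  have hθ1ne : θ 1 ≠ 0 := IsIrrCharacter.apply_one_ne_zero hθ
  have hψ1 : ψ 1 = (e : ℂ) * θ 1 := by
    have := congrFun hψCeq 1
    simp only [hψCdef, hφdef, Pi.smul_apply, smul_eq_mul] at this
    exact this
  have hee : e * e = H.index := by
    have h1 := congrFun hresM 1
    simp only [Pi.smul_apply, smul_eq_mul] at h1
    have h2 : χ 1 = (e : ℂ) * ψ 1 := h1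
    rw [hχ1, hψ1, ← mul_assoc] at h2
    have h3 : (H.index : ℂ) = (e : ℂ) * e := mul_right_cancel₀ hθ1ne h2
    exact_mod_cast h3.symm
  have hidx1 : H.index ≠ 1 := by
    intro h
    exact hHtop (Subgroup.index_eq_one.mp h)
  -- the case `M = ⊤`
  have hMtop : M ≠ ⊤ := by
    intro hM
    have h1 := classInner_restrict_of_eq_top M hM χ
    rw [classInner_irr_self hind, hresM, classInner_smul_left, classInner_smul_right,
      classInner_irr_self hψ, Complex.conj_natCast, mul_one] at h1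
    have h2 : e * e = 1 := by exact_mod_cast h1
    rw [hee] at h2
    exact hidx1 h2
  have hLM : L ≤ M := hLC.trans hCM.le
  have hsolM : Group.IsSolvable (G ⧸ M) := solvable_quotient_of_le L M hLM hsolv
  obtain ⟨K, hKn, hMK, hminK⟩ := exists_minimal_normal_over M hMtop
  haveI := hKn
  have habK := commutator_le_of_minimal_over M K hMK hminK hsolM
  obtain ⟨q, hq, k, hqk⟩ := relIndex_eq_prime_pow_of_minimal_over M K hMK hminK habK
  have hKM : ¬ K ≤ M := not_le_of_gt hMK
  have hqp : q ≠ p := by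
    rintro rfl
    have hcard : H.normalCore.relIndex K = q ^ (n + k) := by
      rw [← Subgroup.relIndex_mul_relIndex _ _ _ hCM.le hMK.le, hpn, hqk, pow_add]
    have hcomm := commutator_mem_of_pgroup_over H.normalCore M K hCM hMK.le hmin hq hcard
    apply hKM
    apply le_of_normalizes_inf M K H hsup hCM.le hMK.le
    intro m hm d hd
    have h1 := hCH (hcomm m hm d hd.1)
    have h2 : m * d * m⁻¹ = (m * d * m⁻¹ * d⁻¹) * d := by group
    rw [h2]
    exact H.mul_mem h1 hd.2
  -- the character of `K`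
  haveI : Fintype K := Fintype.ofFinite _
  obtain ⟨η, f, hη, hresK⟩ := hcon K hKn (hLM.trans hMK.le)
  have hf0 : (f : ℂ) ≠ 0 := by
    intro h
    have h1 := congrFun hresK 1
    simp only [Pi.smul_apply, smul_eq_mul, h, zero_mul] at h1
    exact hχ1ne h1
  have hηinv := invariant_of_restrict_eq_smul K χ hχcf η f hf0 hresK
  set ηM : M → ℂ := fun m : M => η ⟨m, hMK.le m.2⟩ with hηMdef
  have hηM : (f : ℂ) • ηM = (e : ℂ) • ψ := by
    rw [← hresM]
    funext m
    have := congrFun hresK ⟨m, hMK.le m.2⟩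
    simp only [Pi.smul_apply, smul_eq_mul] at this ⊢
    exact this.symm
  obtain ⟨c, hc0, hc⟩ := IsIrrCharacter.apply_one_pos hη
  obtain ⟨d, hd0, hd⟩ := IsIrrCharacter.apply_one_pos hψ
  have hfc : f * c = e * d := by
    have h1 := congrFun hηM 1
    simp only [Pi.smul_apply, smul_eq_mul, hηMdef] at h1
    have h2 : η ⟨((1 : M) : G), hMK.le (1 : M).2⟩ = η 1 := rfl
    rw [h2, hc, hd] at h1
    exact_mod_cast h1
  -- apply the divisibility theorem inside `K`
  haveI : (M.subgroupOf K).Normal := Subgroup.Normal.subgroupOf hMn K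
  haveI : Fintype (M.subgroupOf K) := Fintype.ofFinite _
  have hψ' : Cfsg.IsIrrCharacter (M.subgroupOf K) (ψ ∘ (Subgroup.subgroupOfEquivOfLe hMK.le)) :=
    IsIrrCharacter.comp_mulEquiv _ hψ
  have hinηM : (f : ℂ) * Cfsg.classInner ηM ψ = e := by
    have := congrArg (fun F => Cfsg.classInner F ψ) hηM
    simp only [classInner_smul_left, classInner_irr_self hψ, mul_one] at this
    exact this
  have hcon' : Cfsg.classInner (fun x : M.subgroupOf K => η x)
      (ψ ∘ (Subgroup.subgroupOfEquivOfLe hMK.le)) ≠ 0 := by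
    have h1 : (fun x : M.subgroupOf K => η x) = ηM ∘ (Subgroup.subgroupOfEquivOfLe hMK.le) := rfl
    rw [h1]
    have h2 := classInner_comp_equiv' (Subgroup.subgroupOfEquivOfLe hMK.le).toEquiv ηM ψ
    intro h0
    have h3 : Cfsg.classInner ηM ψ = 0 := by
      rw [← h2]
      exact h0
    rw [h3, mul_zero] at hinηM
    exact he0 hinηM.symm
  have hd' : (ψ ∘ (Subgroup.subgroupOfEquivOfLe hMK.le)) 1 = d := by
    rw [Function.comp_apply, map_one, hd]
  have hdvd := degree_ratio_dvd_index (M.subgroupOf K) η hη _ hψ' hcon' c d hc hd'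
  have hrel : (M.subgroupOf K).index = q ^ k := hqk
  rw [hrel] at hdvd
  obtain ⟨⟨g, hg⟩, hgq⟩ := hdvd
  have hcd : c / d = g := by rw [hg, Nat.mul_div_cancel_left g hd0]
  rw [hcd] at hgq
  have hfg : f * g = e := by
    rw [hg] at hfc
    have h1 : d * (f * g) = d * e := by
      calc d * (f * g) = f * (d * g) := by ring
        _ = e * d := hfc
        _ = d * e := by ring
    exact Nat.eq_of_mul_eq_mul_left hd0 h1
  have hg1 : g = 1 := by
    have h1 : g ∣ p ^ n := by
      rw [← hidx, ← hee, ← hfg]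
      exact ⟨f * (f * g), by ring⟩
    have hcop : Nat.Coprime (p ^ n) (q ^ k) :=
      Nat.Coprime.pow n k ((Nat.coprime_primes hp hq).mpr hqp.symm)
    exact Nat.dvd_one.mp (hcop ▸ Nat.dvd_gcd h1 hgq)
  have hcd' : c = d := by rw [hg, hg1, mul_one]
  have hfe : f = e := by rw [← hfg, hg1, mul_one]
  -- Mackey at `K`
  have hsupK : K ⊔ H = ⊤ := by
    rw [eq_top_iff, ← hsup]
    exact sup_le_sup_right hMK.le H
  haveI : Fintype (K ⊓ H : Subgroup G) := Fintype.ofFinite _
  have hmackK := classInner_restrict_indFun_of_sup_eq_top K η hηinv H hsupK (K ⊓ H) inf_le_left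
    inf_le_right (fun x hxK hxH => ⟨hxK, hxH⟩) θ
  rw [← hχdef, hresK, classInner_smul_left, classInner_irr_self hη, mul_one] at hmackK
  have hDH : K ⊓ H ≤ H := inf_le_right
  have hDK : K ⊓ H ≤ K := inf_le_left
  have hLD : L ≤ K ⊓ H := le_inf (hLM.trans hMK.le) hLH
  have hθD : Cfsg.IsIrrCharacter (K ⊓ H : Subgroup G)
      (fun x : (K ⊓ H : Subgroup G) => θ ⟨x, hDH x.2⟩) :=
    irr_restrict_mid H θ hθc L (K ⊓ H) hLD hDH hθL
  have hηDc : Cfsg.IsCharacter (K ⊓ H : Subgroup G)
      (fun x : (K ⊓ H : Subgroup G) => η ⟨x, hDK x.2⟩) :=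
    IsCharacter.comp_hom (Subgroup.inclusion hDK) (IsIrrCharacter.isCharacter hη)
  have hinD : Cfsg.classInner (fun x : (K ⊓ H : Subgroup G) => η ⟨x, hDK x.2⟩)
      (fun x : (K ⊓ H : Subgroup G) => θ ⟨x, hDH x.2⟩) = e := by
    rw [classInner_conj_symm, ← hmackK, Complex.conj_natCast, hfe]
  have hdegD : (fun x : (K ⊓ H : Subgroup G) => η ⟨x, hDK x.2⟩) 1 =
      (e : ℂ) * (fun x : (K ⊓ H : Subgroup G) => θ ⟨x, hDH x.2⟩) 1 := by
    have h1 : η ⟨((1 : (K ⊓ H : Subgroup G)) : G), hDK (1 : (K ⊓ H : Subgroup G)).2⟩ =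
        η 1 := rfl
    have h2 : θ ⟨((1 : (K ⊓ H : Subgroup G)) : G), hDH (1 : (K ⊓ H : Subgroup G)).2⟩ =
        θ 1 := rfl
    simp only
    rw [h1, h2, hc, hcd', ← hd, hψ1]
  have hηD := eq_smul_of_classInner_of_degree hηDc hθD e hinD hdegD
  -- normality of `K ⊓ H` in `K`
  haveI : Fintype ((K ⊓ H).subgroupOf K) := Fintype.ofFinite _
  haveI : (H.normalCore.subgroupOf K).Normal := Subgroup.Normal.subgroupOf inferInstance K
  have hϑ' : Cfsg.IsIrrCharacter ((K ⊓ H).subgroupOf K)
      (fun x : (K ⊓ H).subgroupOf K =>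
        θ ⟨((x : K) : G), (Subgroup.mem_subgroupOf.mp x.2).2⟩) :=
    IsIrrCharacter.comp_mulEquiv
      (Subgroup.subgroupOfEquivOfLe hDK) hθD
  have hres' : (fun x : (K ⊓ H).subgroupOf K => η x) = (e : ℂ) •
      (fun x : (K ⊓ H).subgroupOf K =>
        θ ⟨((x : K) : G), (Subgroup.mem_subgroupOf.mp x.2).2⟩) := by
    funext x
    have := congrFun hηD ⟨((x : K) : G), Subgroup.mem_subgroupOf.mp x.2⟩
    simp only [Pi.smul_apply, smul_eq_mul] at this ⊢
    exact this
  have hee' : e * e = ((K ⊓ H).subgroupOf K).index := by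
    rw [hee]
    exact index_eq_relIndex_inf_of_sup_eq_top K H hsupK
  have hC₁D : H.normalCore.subgroupOf K ≤ (K ⊓ H).subgroupOf K := by
    intro x hx
    exact Subgroup.mem_subgroupOf.mpr ⟨x.2, hCH (Subgroup.mem_subgroupOf.mp hx)⟩
  have hϑC : Cfsg.IsIrrCharacter (H.normalCore.subgroupOf K)
      (fun c : H.normalCore.subgroupOf K =>
        (fun x : (K ⊓ H).subgroupOf K =>
          θ ⟨((x : K) : G), (Subgroup.mem_subgroupOf.mp x.2).2⟩) ⟨c, hC₁D c.2⟩) :=
    IsIrrCharacter.comp_mulEquiv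
      (Subgroup.subgroupOfEquivOfLe (hCM.le.trans hMK.le)) hφ
  have hnorm : ((K ⊓ H).subgroupOf K).Normal :=
    normal_of_restrict_eq_smul ((K ⊓ H).subgroupOf K) η hη _ hϑ' e hres' hee'
      (H.normalCore.subgroupOf K) hC₁D hϑC
  apply hKM
  apply le_of_normalizes_inf M K H hsup hCM.le hMK.le
  intro m hm d hd
  have h1 := hnorm.conj_mem ⟨d, hd.1⟩ (Subgroup.mem_subgroupOf.mpr hd) ⟨m, hMK.le hm⟩
  have h2 := Subgroup.mem_subgroupOf.mp h1
  exact h2.2

end Cfsg.Agent.Helper6
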