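import Mathlib
import Cfsg.Prelude.Def_Characters
import Cfsg.Agent.Helper6.Gallagher
import Cfsg.Agent.Helper6.Constituent

/-!
# Gallagher's correspondence: decomposition and cancellation
-/

set_option autoImplicit false
set_option linter.style.haveILetI false

namespace Cfsg.Agent.Helper6.BergerThm

open Cfsg.Agent.Helper6
open scoped ComplexConjugate

universe u

variable {G : Type u} [Group G]

/-- the average of `|Ψ|²` over every coset of `N` is one, for `Ψ` restricting irreducibly -/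
theorem coset_normSq_eq_one [Fintype G] (N : Subgroup G) [hN : N.Normal] [Fintype N] {Ψ : G → ℂ}
    (hΨ : Cfsg.IsIrrCharacter G Ψ) (hΨN : Cfsg.IsIrrCharacter N (fun n : N => Ψ n)) (g : G) :
    (Nat.card N : ℂ)⁻¹ * ∑ n : N, Ψ ((n : G) * g) * conj (Ψ ((n : G) * g)) = 1 := by
  obtain ⟨-, -, h3⟩ := gallagher_avg N Ψ hΨ hΨN Ψ hΨ _ rfl
  exact congrFun (h3 rfl) g

/-- cancellation of the extension in Gallagher's correspondence -/
theorem gallagher_cancel [Fintype G] (N : Subgroup G) [hN : N.Normal] [Fintype N] {Ψ : G → ℂ}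
    (hΨ : Cfsg.IsIrrCharacter G Ψ) (hΨN : Cfsg.IsIrrCharacter N (fun n : N => Ψ n))
    (β₁ β₂ : G → ℂ) (h₁ : ∀ n ∈ N, ∀ x : G, β₁ (n * x) = β₁ x)
    (h₂ : ∀ n ∈ N, ∀ x : G, β₂ (n * x) = β₂ x) (h : β₁ * Ψ = β₂ * Ψ) : β₁ = β₂ := by
  funext g
  have h0 := coset_normSq_eq_one N hΨ hΨN g
  have key : ∀ β : G → ℂ, (∀ n ∈ N, ∀ x : G, β (n * x) = β x) →
      β g = (Nat.card N : ℂ)⁻¹ * ∑ n : N, (β * Ψ) ((n : G) * g) * conj (Ψ ((n : G) * g)) := by
    intro β hβ
    have h1 : ∀ n : N, (β * Ψ) ((n : G) * g) * conj (Ψ ((n : G) * g)) =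
        β g * (Ψ ((n : G) * g) * conj (Ψ ((n : G) * g))) := by
      intro n
      rw [Pi.mul_apply, hβ n n.2 g, mul_assoc]
    simp only [h1]
    rw [← Finset.mul_sum, mul_left_comm, h0, mul_one]
  rw [key β₁ h₁, key β₂ h₂, h]

/-- **Gallagher**: every irreducible character over `Ψ_N` is `η Ψ` with `η` irreducible and
constant on the cosets of `N` -/
theorem gallagher_decomp [Fintype G] (N : Subgroup G) [hN : N.Normal] [Fintype N] {Ψ : G → ℂ}
    (hΨ : Cfsg.IsIrrCharacter G Ψ) (hΨN : Cfsg.IsIrrCharacter N (fun n : N => Ψ n))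
    {ξ : G → ℂ} (hξ : Cfsg.IsIrrCharacter G ξ)
    (hne : Cfsg.classInner (fun n : N => ξ n) (fun n : N => Ψ n) ≠ 0) :
    ∃ η : G → ℂ, Cfsg.IsIrrCharacter G η ∧ (∀ n ∈ N, ∀ x : G, η (n * x) = η x) ∧
      ξ = η * Ψ := by
  classical
  obtain ⟨η, hη⟩ : ∃ η : G → ℂ, η = fun g =>
      (Nat.card N : ℂ)⁻¹ * ∑ n : N, ξ ((n : G) * g) * conj (Ψ ((n : G) * g)) := ⟨_, rfl⟩
  obtain ⟨h1, -, -⟩ := gallagher_avg N Ψ hΨ hΨN ξ hξ η hη
  have hηirr := h1 hne
  have hinv : ∀ n ∈ N, ∀ x : G, η (n * x) = η x := by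
    intro n₀ hn₀ x
    rw [hη]
    simp only
    congr 1
    refine Fintype.sum_equiv (Equiv.mulRight (⟨n₀, hn₀⟩ : N)) _ _ (fun k => ?_)
    simp only [Equiv.coe_mulRight, Subgroup.coe_mul, mul_assoc]
  have hker : ∀ n ∈ N, η n = η 1 := by
    intro n hn
    have := hinv n hn 1
    rwa [mul_one] at this
  have hprod : Cfsg.IsIrrCharacter G (η * Ψ) := gallagher_irr N hΨ hΨN ⟨η, hηirr⟩ hker
  refine ⟨η, hηirr, hinv, ?_⟩
  by_contra hne'
  have h0 := classInner_irr_ne hξ hprod hne'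
  -- compute the inner product
  have hN0 : (Nat.card N : ℂ) ≠ 0 := by
    exact_mod_cast (Nat.card_pos (α := N)).ne'
  have hcomp : Cfsg.classInner ξ (η * Ψ) = Cfsg.classInner η η := by
    unfold Cfsg.classInner
    congr 1
    -- `∑ ξ conj(η) conj(Ψ) = ∑ η conj η`
    have hA : ∀ g : G, η g * conj (η g) =
        (Nat.card N : ℂ)⁻¹ * ∑ n : N, ξ ((n : G) * g) * conj (Ψ ((n : G) * g)) *
          conj (η ((n : G) * g)) := by
      intro g
      have : ∀ n : N, ξ ((n : G) * g) * conj (Ψ ((n : G) * g)) * conj (η ((n : G) * g)) =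
          ξ ((n : G) * g) * conj (Ψ ((n : G) * g)) * conj (η g) := by
        intro n
        rw [hinv n n.2 g]
      simp only [this]
      rw [← Finset.sum_mul, ← mul_assoc]
      congr 1
      rw [hη]
    simp only [hA]
    rw [← Finset.mul_sum, Finset.sum_comm]
    have hB : ∀ n : N, ∑ g : G, ξ ((n : G) * g) * conj (Ψ ((n : G) * g)) *
        conj (η ((n : G) * g)) = ∑ g : G, ξ g * conj ((η * Ψ) g) := by
      intro n
      refine Fintype.sum_equiv (Equiv.mulLeft (n : G)) _ _ (fun g => ?_)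
      simp only [Equiv.coe_mulLeft, Pi.mul_apply, map_mul]
      ring
    simp only [hB]
    rw [Finset.sum_const, Finset.card_univ, nsmul_eq_mul, ← mul_assoc, ← Nat.card_eq_fintype_card,
      inv_mul_cancel₀ hN0, one_mul]
  rw [hcomp, classInner_irr_self hηirr] at h0
  exact one_ne_zero h0

end Cfsg.Agent.Helper6.BergerThm
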