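import Mathlib
import Cfsg.Prelude.Def_Characters
import Cfsg.Agent.Helper6.BergerD

/-!
# Berger's theorem: passing to a quotient group
-/

set_option autoImplicit false
set_option linter.style.haveILetI false

namespace Cfsg.Agent.Helper6.BergerThm

open Cfsg.Agent.Helper6
open scoped ComplexConjugate

universe u

/-- homogeneous restrictions to all normal subgroups containing `L` -/
def QuasiPrimOver {G : Type u} [Group G] (L : Subgroup G) (χ : G → ℂ) : Prop :=
  ∀ X : Subgroup G, X.Normal → L ≤ X →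
    ∃ (ϑ : X → ℂ) (e : ℕ), Cfsg.IsIrrCharacter X ϑ ∧ (fun x : X => χ x) = (e : ℂ) • ϑ

/-- the statement of Berger's theorem for solvable groups whose centre has index less than `n` -/
def BergerIH (n : ℕ) : Prop :=
  ∀ (Γ : Type u) [Group Γ] [Fintype Γ], Group.IsSolvable Γ → (Subgroup.center Γ).index < n →
    ∀ χ : Γ → ℂ, Cfsg.IsIrrCharacter Γ χ → QuasiPrimOver ⊥ χ →
      ∀ T : Subgroup Γ, T ≠ ⊤ → ∀ γ : T → ℂ, Cfsg.IsIrrCharacter T γ → Cfsg.indFun T γ ≠ χ

variable {G₀ : Type u} [Group G₀]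

/-- **descent to the quotient**: an induced quasi-primitive configuration modulo `L` contradicts the
induction hypothesis -/
theorem descend {n : ℕ} (IH : BergerIH.{u} n) [Fintype G₀] [hsol : Group.IsSolvable G₀]
    (L : Subgroup G₀) [hL : L.Normal] (Zc : Subgroup G₀)
    (hZc : ∀ z ∈ Zc, ∀ g : G₀, z * g * z⁻¹ * g⁻¹ ∈ L) (hidx : Zc.index < n)
    (χ₀ : G₀ → ℂ) (hχ₀ : Cfsg.IsIrrCharacter G₀ χ₀) (hker : ∀ l ∈ L, χ₀ l = χ₀ 1)
    (hqp : QuasiPrimOver L χ₀) (T : Subgroup G₀) (hLT : L ≤ T) (hT : T ≠ ⊤) (γ : T → ℂ)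
    (hγ : Cfsg.IsIrrCharacter T γ) (hind : Cfsg.indFun T γ = χ₀) : False := by
  classical
  haveI : Fintype (G₀ ⧸ L) := Fintype.ofFinite _
  haveI : Fintype T := Fintype.ofFinite _
  have hmk : Function.Surjective (QuotientGroup.mk' L) := QuotientGroup.mk'_surjective L
  have hkermk : (QuotientGroup.mk' L).ker = L := QuotientGroup.ker_mk' L
  have hmk1 : ∀ x : G₀, x ∈ L → QuotientGroup.mk' L x = 1 := by
    intro x hx
    rw [← MonoidHom.mem_ker, hkermk]
    exact hx
  have hmk1' : ∀ x : G₀, QuotientGroup.mk' L x = 1 → x ∈ L := by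
    intro x hx
    rw [← hkermk, MonoidHom.mem_ker]
    exact hx
  -- the index of the centre
  have hcen : (Subgroup.center (G₀ ⧸ L)).index < n := by
    have h1 : Zc.map (QuotientGroup.mk' L) ≤ Subgroup.center (G₀ ⧸ L) := by
      rintro _ ⟨z, hz, rfl⟩
      rw [Subgroup.mem_center_iff]
      intro q
      obtain ⟨g, rfl⟩ := hmk q
      have h2 := hZc z hz g
      have h3 : z * g = (z * g * z⁻¹ * g⁻¹) * (g * z) := by group
      have h4 : QuotientGroup.mk' L (z * g) = QuotientGroup.mk' L (g * z) := by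
        rw [h3, map_mul, hmk1 _ h2, one_mul]
      rw [← map_mul, ← map_mul]
      exact h4.symm
    have h2 : (Zc.map (QuotientGroup.mk' L)).index ≤ Zc.index := by
      rw [Subgroup.index_map, MonoidHom.range_eq_top.mpr hmk, Subgroup.index_top, mul_one]
      exact Subgroup.index_antitone le_sup_left
    exact lt_of_le_of_lt ((Subgroup.index_antitone h1).trans h2) hidx
  -- the deflated character
  obtain ⟨χ', hχ'⟩ := exists_deflate L ⟨χ₀, hχ₀⟩ hker
  have hχ'app : ∀ g : G₀, (χ' : G₀ ⧸ L → ℂ) (QuotientGroup.mk' L g) = χ₀ g := by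
    intro g
    exact (congrFun hχ' g).symm
  have hχ₀1 : χ₀ 1 ≠ 0 := IsIrrCharacter.apply_one_ne_zero hχ₀
  -- quasi-primitivity
  have hqp' : QuasiPrimOver ⊥ (χ' : G₀ ⧸ L → ℂ) := by
    intro X' hX' _
    haveI := hX'
    have hLX : L ≤ X'.comap (QuotientGroup.mk' L) := by
      intro l hl
      rw [Subgroup.mem_comap, hmk1 l hl]
      exact X'.one_mem
    obtain ⟨ϑ, e, hϑ, hres⟩ := hqp (X'.comap (QuotientGroup.mk' L)) inferInstance hLX
    have he0 : (e : ℂ) ≠ 0 := by
      intro h
      have h1 := congrFun hres 1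
      simp only [Pi.smul_apply, smul_eq_mul, h, zero_mul] at h1
      exact hχ₀1 h1
    let f : X'.comap (QuotientGroup.mk' L) →* X' := (QuotientGroup.mk' L).subgroupComap X'
    have hf : Function.Surjective f :=
      MonoidHom.subgroupComap_surjective_of_surjective _ _ hmk
    have hkerf : ∀ k ∈ f.ker, ϑ k = ϑ 1 := by
      intro k hk
      have hkL : (k : G₀) ∈ L := by
        rw [MonoidHom.mem_ker] at hk
        have h1 : QuotientGroup.mk' L (k : G₀) = 1 := congrArg Subtype.val hk
        exact hmk1' _ h1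
      have h1 := congrFun hres k
      have h2 := congrFun hres 1
      simp only [Pi.smul_apply, smul_eq_mul] at h1 h2
      have h3 : (e : ℂ) * ϑ k = (e : ℂ) * ϑ 1 := by
        rw [← h1, ← h2]
        exact hker _ hkL
      exact mul_left_cancel₀ he0 h3
    obtain ⟨ϑ', hϑ', hϑeq⟩ := exists_deflate_of_surjective f hf hϑ hkerf
    refine ⟨ϑ', e, hϑ', ?_⟩
    funext x'
    obtain ⟨x, rfl⟩ := hf x'
    have h1 := congrFun hres x
    have h2 := congrFun hϑeq x
    simp only [Pi.smul_apply, smul_eq_mul, Function.comp_apply] at h1 h2 ⊢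
    rw [← h2, ← h1]
    exact hχ'app x
  -- the image of `T`
  have hT' : T.map (QuotientGroup.mk' L) ≠ ⊤ := by
    intro h
    apply hT
    rw [eq_top_iff]
    intro g _
    have h1 : QuotientGroup.mk' L g ∈ T.map (QuotientGroup.mk' L) := by rw [h]; trivial
    obtain ⟨t, ht, hteq⟩ := h1
    have h2 : t⁻¹ * g ∈ L := by
      rw [← hkermk, MonoidHom.mem_ker, map_mul, map_inv, hteq, inv_mul_cancel]
    have h3 : g = t * (t⁻¹ * g) := by group
    rw [h3]
    exact T.mul_mem ht (hLT h2)
  let fT : T →* T.map (QuotientGroup.mk' L) := (QuotientGroup.mk' L).subgroupMap T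
  have hfT : Function.Surjective fT := MonoidHom.subgroupMap_surjective _ _
  haveI : Fintype (T.map (QuotientGroup.mk' L)) := Fintype.ofFinite _
  have hχ₀cf := IsCharacter.isClassFunction (IsIrrCharacter.isCharacter hχ₀)
  have hfrob : Cfsg.classInner γ (fun t : T => χ₀ t) = 1 := by
    rw [← frobenius_reciprocity T γ χ₀ hχ₀cf, hind, classInner_irr_self hχ₀]
  have hresT : Cfsg.IsCharacter T (fun t : T => χ₀ t) :=
    IsCharacter.restrict T (IsIrrCharacter.isCharacter hχ₀)
  have hneT : Cfsg.classInner (fun t : T => χ₀ t) γ ≠ 0 := by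
    rw [classInner_conj_symm, hfrob, map_one]
    exact one_ne_zero
  have hkerfT : ∀ k ∈ fT.ker, γ k = γ 1 := by
    intro k hk
    have hkL : (k : G₀) ∈ L := by
      rw [MonoidHom.mem_ker] at hk
      have h1 : QuotientGroup.mk' L (k : G₀) = 1 := congrArg Subtype.val hk
      exact hmk1' _ h1
    exact constituent_apply_eq_of_apply_eq hresT hγ hneT k (hker _ hkL)
  obtain ⟨γ', hγ', hγeq⟩ := exists_deflate_of_surjective fT hfT hγ hkerfT
  -- the induced character
  have hχ'cf := IsCharacter.isClassFunction (IsIrrCharacter.isCharacter χ'.2)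
  have hindchar : Cfsg.IsCharacter (G₀ ⧸ L) (Cfsg.indFun (T.map (QuotientGroup.mk' L)) γ') :=
    isCharacter_indFun _ γ' (IsIrrCharacter.isCharacter hγ')
  have hinner : Cfsg.classInner (Cfsg.indFun (T.map (QuotientGroup.mk' L)) γ')
      (χ' : G₀ ⧸ L → ℂ) = 1 := by
    rw [frobenius_reciprocity _ γ' _ hχ'cf, ← classInner_comp_surjective fT hfT, ← hγeq]
    have h1 : (fun h : T.map (QuotientGroup.mk' L) => (χ' : G₀ ⧸ L → ℂ) h) ∘ fT =
        fun t : T => χ₀ t := by
      funext t
      exact hχ'app t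
    rw [h1]
    exact hfrob
  have hidxT : (T.map (QuotientGroup.mk' L)).index = T.index := by
    rw [Subgroup.index_map, MonoidHom.range_eq_top.mpr hmk, Subgroup.index_top, mul_one, hkermk,
      sup_eq_left.mpr hLT]
  have hdeg : Cfsg.indFun (T.map (QuotientGroup.mk' L)) γ' 1 = (χ' : G₀ ⧸ L → ℂ) 1 := by
    rw [indFun_apply_one, hidxT]
    have h1 : γ' 1 = γ 1 := by
      have := congrFun hγeq 1
      rw [Function.comp_apply, map_one] at this
      exact this.symm
    have h2 : (χ' : G₀ ⧸ L → ℂ) 1 = χ₀ 1 := by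
      have := hχ'app 1
      rwa [map_one] at this
    rw [h1, h2, ← hind, indFun_apply_one]
  have heq := eq_of_constituent_of_degree hindchar χ'.2 (by rw [hinner]; exact one_ne_zero) hdeg
  exact IH (G₀ ⧸ L) inferInstance hcen _ χ'.2 hqp' _ hT' γ' hγ' heq

end Cfsg.Agent.Helper6.BergerThm
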