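import Mathlib
import Cfsg.Prelude.Def_Characters
import Cfsg.Agent.Helper6.BergerE
import Cfsg.Agent.Helper6.BergerF
import Cfsg.Agent.Helper6.CharTripleC

/-!
# Berger's theorem: the Gallagher factor of a character in the central extension
-/

set_option autoImplicit false
set_option linter.style.haveILetI false

namespace Cfsg.Agent.Helper6.BergerThm

open Cfsg.Agent.Helper6
open Module
open scoped ComplexConjugate

universe u

variable {G : Type u} [Group G]

variable (M : Subgroup G) [hM : M.Normal] {d : ℕ} (ρ : Representation ℂ M (Fin d → ℂ))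

/-- the preimage of `M` is central modulo the embedded copy of `M` -/
theorem comap_central_mod [Finite M] [hirr : ρ.IsIrreducible] :
    ∀ h ∈ M.comap (tripleProj M ρ), ∀ x : tripleGroup M ρ,
      h * x * h⁻¹ * x⁻¹ ∈ (tripleEmb M ρ).range := by
  intro h hh x
  rw [Subgroup.mem_comap] at hh
  obtain ⟨n₀, hn₀⟩ : ∃ n₀ : M, (n₀ : G) = tripleProj M ρ h := ⟨⟨_, hh⟩, rfl⟩
  obtain ⟨a, ha⟩ : ∃ a : tripleGroup M ρ, a = (tripleEmb M ρ n₀)⁻¹ * h := ⟨_, rfl⟩
  have hah : h = tripleEmb M ρ n₀ * a := by rw [ha]; group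
  have haker : a ∈ (tripleProj M ρ).ker := by
    rw [MonoidHom.mem_ker, ha, map_mul, map_inv, tripleProj_tripleEmb, hn₀]
    exact inv_mul_cancel _
  have hac := Subgroup.mem_center_iff.mp (tripleProj_ker_le_center M ρ haker)
  have h1 : h * x * h⁻¹ * x⁻¹ = tripleEmb M ρ n₀ *
      (x * (tripleEmb M ρ n₀)⁻¹ * x⁻¹) := by
    rw [hah]
    have h2 : a * x = x * a := (hac x).symm
    calc tripleEmb M ρ n₀ * a * x * (tripleEmb M ρ n₀ * a)⁻¹ * x⁻¹
        = tripleEmb M ρ n₀ * (a * x) * a⁻¹ * (tripleEmb M ρ n₀)⁻¹ * x⁻¹ := by group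
      _ = tripleEmb M ρ n₀ * (x * a) * a⁻¹ * (tripleEmb M ρ n₀)⁻¹ * x⁻¹ := by rw [h2]
      _ = tripleEmb M ρ n₀ * (x * (tripleEmb M ρ n₀)⁻¹ * x⁻¹) := by group
  rw [h1]
  apply Subgroup.mul_mem (tripleEmb M ρ).range ⟨_, rfl⟩
  rw [← map_inv, conj_tripleEmb]
  exact ⟨_, rfl⟩

/-- the extended character restricts irreducibly to the embedded copy of `M` -/
theorem tripleChar_restrict_irr [Finite G] [hirr : ρ.IsIrreducible] :
    Cfsg.IsIrrCharacter (tripleEmb M ρ).range
      (fun k : (tripleEmb M ρ).range => (tripleRep M ρ).character k) := by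
  haveI := tripleGroup_finite M ρ
  obtain ⟨e₀, he₀⟩ : ∃ e₀ : (tripleEmb M ρ).range ≃* M,
      e₀ = (MonoidHom.ofInjective (tripleEmb_injective M ρ)).symm := ⟨_, rfl⟩
  have he₀app : ∀ k : (tripleEmb M ρ).range, tripleEmb M ρ (e₀ k) = k := by
    intro k
    rw [he₀]
    exact MonoidHom.apply_ofInjective_symm (tripleEmb_injective M ρ) k
  have hτfun : (fun k : (tripleEmb M ρ).range => (tripleRep M ρ).character k) =
      ρ.character ∘ e₀ := by
    funext k
    rw [Function.comp_apply]
    conv_lhs => rw [← he₀app k]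
    rfl
  rw [hτfun]
  exact IsIrrCharacter.comp_mulEquiv e₀ ⟨d, ρ, hirr, rfl⟩

/-- the central extension of a solvable group is solvable -/
theorem tripleGroup_isSolvable [hirr : ρ.IsIrreducible] (hsol : Group.IsSolvable G) :
    Group.IsSolvable (tripleGroup M ρ) := by
  haveI : Group.IsSolvable (tripleProj M ρ).ker := by
    apply Group.isSolvable_of_comm
    intro a b
    have h1 := Subgroup.mem_center_iff.mp (tripleProj_ker_le_center M ρ a.2) (b : _)
    apply Subtype.ext
    exact h1.symm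
  exact Group.isSolvable_of_ker_le_range (tripleProj M ρ).ker.subtype (tripleProj M ρ)
    (by rw [Subgroup.range_subtype])

/-- the embedded copy of `M` lies in the preimage of every subgroup containing `M` -/
theorem range_le_comap [Finite M] (H : Subgroup G) (hMH : M ≤ H) :
    (tripleEmb M ρ).range ≤ H.comap (tripleProj M ρ) := by
  rintro _ ⟨m, rfl⟩
  rw [Subgroup.mem_comap, tripleProj_tripleEmb]
  exact hMH m.2

set_option maxHeartbeats 800000 in
/-- **the Gallagher factor** of a character lying over `ρ` -/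
theorem exists_gallagher_factor [Fintype G] [hirr : ρ.IsIrreducible]
    [Fintype (tripleGroup M ρ)]
    (hinv : ∀ (g : G) (n : M), ρ.character (cj M g n) = ρ.character n)
    (χ : G → ℂ) (hχ : Cfsg.IsIrrCharacter G χ) (a : ℕ) (ha : a ≠ 0)
    (hres : (fun m : M => χ m) = (a : ℂ) • ρ.character) :
    ∃ Q : tripleGroup M ρ → ℂ, Cfsg.IsIrrCharacter (tripleGroup M ρ) Q ∧
      (∀ k ∈ (tripleEmb M ρ).range, ∀ x : tripleGroup M ρ, Q (k * x) = Q x) ∧
      χ ∘ tripleProj M ρ = Q * (tripleRep M ρ).character := by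
  classical
  haveI : Fintype M := Fintype.ofFinite _
  have hq : Function.Surjective (tripleProj M ρ) := tripleProj_surjective M ρ hinv
  haveI : Fintype (tripleEmb M ρ).range := Fintype.ofFinite _
  obtain ⟨e₀, he₀⟩ : ∃ e₀ : (tripleEmb M ρ).range ≃* M,
      e₀ = (MonoidHom.ofInjective (tripleEmb_injective M ρ)).symm := ⟨_, rfl⟩
  have he₀app : ∀ k : (tripleEmb M ρ).range, tripleEmb M ρ (e₀ k) = k := by
    intro k
    rw [he₀]
    exact MonoidHom.apply_ofInjective_symm (tripleEmb_injective M ρ) k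
  have hτ := tripleRep_isIrrCharacter M ρ
  have hτN := tripleChar_restrict_irr M ρ
  have hτfun : (fun k : (tripleEmb M ρ).range => (tripleRep M ρ).character k) =
      ρ.character ∘ e₀ := by
    funext k
    rw [Function.comp_apply]
    conv_lhs => rw [← he₀app k]
    rfl
  have hχ' : Cfsg.IsIrrCharacter (tripleGroup M ρ) (χ ∘ tripleProj M ρ) :=
    isIrrCharacter_comp_surjective (tripleProj M ρ) hq hχ
  have hχfun : (fun k : (tripleEmb M ρ).range => (χ ∘ tripleProj M ρ) k) =
      (fun n : M => χ n) ∘ e₀ := by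
    funext k
    rw [Function.comp_apply, Function.comp_apply]
    conv_lhs => rw [← he₀app k]
    rfl
  have hinner : Cfsg.classInner (fun k : (tripleEmb M ρ).range => (χ ∘ tripleProj M ρ) k)
      (fun k : (tripleEmb M ρ).range => (tripleRep M ρ).character k) = a := by
    rw [hχfun, hτfun]
    refine (classInner_comp_equiv' e₀.toEquiv (fun n : M => χ n) ρ.character).trans ?_
    rw [hres, classInner_smul_left, classInner_irr_self ⟨d, ρ, hirr, rfl⟩, mul_one]
  have hne : Cfsg.classInner (fun k : (tripleEmb M ρ).range => (χ ∘ tripleProj M ρ) k)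
      (fun k : (tripleEmb M ρ).range => (tripleRep M ρ).character k) ≠ 0 := by
    rw [hinner]
    exact_mod_cast ha
  exact gallagher_decomp (tripleEmb M ρ).range hτ hτN hχ' hne

end Cfsg.Agent.Helper6.BergerThm
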