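import Mathlib
import Cfsg.Prelude.Def_Characters
import Cfsg.Agent.Helper6.BergerG

/-!
# Berger's theorem: the Gallagher factor of a quasi-primitive character is quasi-primitive
-/

set_option autoImplicit false
set_option linter.style.haveILetI false

namespace Cfsg.Agent.Helper6.BergerThm

open Cfsg.Agent.Helper6
open Module
open scoped ComplexConjugate

universe u

variable {G : Type u} [Group G]

variable (M : Subgroup G) [hM : M.Normal] {d : ℕ} (ρ : Representation ℂ M (Fin d → ℂ))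

set_option maxHeartbeats 1600000 in
/-- **transfer of quasi-primitivity** to the Gallagher factor -/
theorem gallagher_factor_quasiPrim [Fintype G] [hirr : ρ.IsIrreducible]
    [Fintype (tripleGroup M ρ)]
    (hinv : ∀ (g : G) (n : M), ρ.character (cj M g n) = ρ.character n)
    (χ : G → ℂ) (hχ : Cfsg.IsIrrCharacter G χ) (hqp : QuasiPrimOver M χ)
    (Q : tripleGroup M ρ → ℂ) (hQ : Cfsg.IsIrrCharacter (tripleGroup M ρ) Q)
    (hQinv : ∀ k ∈ (tripleEmb M ρ).range, ∀ x : tripleGroup M ρ, Q (k * x) = Q x)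
    (hfac : χ ∘ tripleProj M ρ = Q * (tripleRep M ρ).character) :
    QuasiPrimOver (tripleEmb M ρ).range Q := by
  classical
  intro X hX hLX
  haveI := hX
  have hq : Function.Surjective (tripleProj M ρ) := tripleProj_surjective M ρ hinv
  have hkercen := tripleProj_ker_le_center M ρ
  obtain ⟨N, hNdef⟩ : ∃ N : Subgroup G, N = (X ⊔ (tripleProj M ρ).ker).map (tripleProj M ρ) :=
    ⟨_, rfl⟩
  haveI hNn : N.Normal := by
    rw [hNdef]
    exact Subgroup.Normal.map inferInstance _ hq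
  have hMN : M ≤ N := by
    intro m hm
    rw [hNdef]
    refine ⟨tripleEmb M ρ ⟨m, hm⟩, ?_, ?_⟩
    · exact (le_sup_left : X ≤ X ⊔ (tripleProj M ρ).ker) (hLX ⟨_, rfl⟩)
    · rw [tripleProj_tripleEmb]
  obtain ⟨μ, g, hμ, hresN⟩ := hqp N hNn hMN
  have hχ1 : χ 1 ≠ 0 := IsIrrCharacter.apply_one_ne_zero hχ
  have hg0 : (g : ℂ) ≠ 0 := by
    intro h
    have h1 := congrFun hresN 1
    simp only [Pi.smul_apply, smul_eq_mul, h, zero_mul] at h1
    exact hχ1 h1
  -- the preimage of `N`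
  obtain ⟨X'', hX''def⟩ : ∃ X'' : Subgroup (tripleGroup M ρ), X'' = N.comap (tripleProj M ρ) :=
    ⟨_, rfl⟩
  have hXX'' : X ≤ X'' := by
    intro x hx
    rw [hX''def, Subgroup.mem_comap, hNdef]
    exact ⟨x, (le_sup_left : X ≤ X ⊔ (tripleProj M ρ).ker) hx, rfl⟩
  have hLX'' : (tripleEmb M ρ).range ≤ X'' := hLX.trans hXX''
  have hmemX'' : ∀ y : tripleGroup M ρ, y ∈ X'' ↔ tripleProj M ρ y ∈ N := by
    intro y
    rw [hX''def, Subgroup.mem_comap]
  haveI : Fintype X'' := Fintype.ofFinite _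
  haveI : Fintype N := Fintype.ofFinite _
  -- decomposition of the elements of `X''`
  have hdecomp : ∀ y ∈ X'', ∃ x ∈ X, x⁻¹ * y ∈ (tripleProj M ρ).ker := by
    intro y hy
    rw [hmemX'', hNdef] at hy
    obtain ⟨w, hw, hwy⟩ := hy
    have hw' : w ∈ ((X ⊔ (tripleProj M ρ).ker : Subgroup (tripleGroup M ρ)) :
        Set (tripleGroup M ρ)) := hw
    rw [Subgroup.mul_normal] at hw'
    obtain ⟨x, hx, k, hk, rfl⟩ := Set.mem_mul.mp hw'
    refine ⟨x, hx, ?_⟩
    rw [MonoidHom.mem_ker, map_mul, map_inv, ← hwy, map_mul, MonoidHom.mem_ker.mp hk, mul_one,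
      inv_mul_cancel]
  -- the characters on `X''`
  let fN : X'' →* N :=
    { toFun := fun y => ⟨tripleProj M ρ y, (hmemX'' y).mp y.2⟩
      map_one' := by apply Subtype.ext; simp
      map_mul' := fun a b => by apply Subtype.ext; simp }
  have hfN : Function.Surjective fN := by
    rintro ⟨n, hn⟩
    obtain ⟨y, rfl⟩ := hq n
    exact ⟨⟨y, (hmemX'' y).mpr hn⟩, rfl⟩
  have hμ' : Cfsg.IsIrrCharacter X'' (μ ∘ fN) := isIrrCharacter_comp_surjective fN hfN hμ
  obtain ⟨Q'', hQ''def⟩ : ∃ Q'' : X'' → ℂ, Q'' = fun y : X'' => Q y := ⟨_, rfl⟩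
  obtain ⟨Ψ'', hΨ''def⟩ : ∃ Ψ'' : X'' → ℂ, Ψ'' = fun y : X'' => (tripleRep M ρ).character y :=
    ⟨_, rfl⟩
  have hQ''c : Cfsg.IsCharacter X'' Q'' := by
    rw [hQ''def]
    exact IsCharacter.restrict X'' (IsIrrCharacter.isCharacter hQ)
  have hΨ''c : Cfsg.IsCharacter X'' Ψ'' := by
    rw [hΨ''def]
    exact IsCharacter.restrict X'' (IsIrrCharacter.isCharacter (tripleRep_isIrrCharacter M ρ))
  have hprod : Q'' * Ψ'' = (g : ℂ) • (μ ∘ fN) := by
    funext y
    have h1 := congrFun hfac (y : tripleGroup M ρ)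
    have h2 := congrFun hresN (fN y)
    simp only [Function.comp_apply, Pi.mul_apply, Pi.smul_apply, smul_eq_mul] at h1 h2 ⊢
    rw [hQ''def, hΨ''def]
    simp only
    rw [← h1, ← h2]
    rfl
  -- irreducibility of `Ψ''`
  haveI : Fintype (tripleEmb M ρ).range := Fintype.ofFinite _
  have hΨ''irr : Cfsg.IsIrrCharacter X'' Ψ'' := by
    apply isIrrCharacter_of_comp_irr (Subgroup.inclusion hLX'') hΨ''c
    have h1 : Ψ'' ∘ (Subgroup.inclusion hLX'') =
        fun k : (tripleEmb M ρ).range => (tripleRep M ρ).character k := by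
      funext k
      rw [hΨ''def]
      rfl
    rw [h1]
    exact tripleChar_restrict_irr M ρ
  obtain ⟨L'', hL''def⟩ : ∃ L'' : Subgroup X'', L'' = (tripleEmb M ρ).range.subgroupOf X'' :=
    ⟨_, rfl⟩
  haveI hL''n : L''.Normal := by
    rw [hL''def]
    exact Subgroup.Normal.subgroupOf inferInstance X''
  haveI : Fintype L'' := Fintype.ofFinite _
  have hmemL'' : ∀ y : X'', y ∈ L'' ↔ (y : tripleGroup M ρ) ∈ (tripleEmb M ρ).range := by
    intro y
    rw [hL''def, Subgroup.mem_subgroupOf]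
  have hΨ''L : Cfsg.IsIrrCharacter L'' (fun n : L'' => Ψ'' n) := by
    let e : L'' ≃* (tripleEmb M ρ).range :=
      { toFun := fun n => ⟨((n : X'') : tripleGroup M ρ), (hmemL'' n).mp n.2⟩
        invFun := fun k => ⟨⟨(k : tripleGroup M ρ), hLX'' k.2⟩, (hmemL'' _).mpr k.2⟩
        left_inv := fun n => rfl
        right_inv := fun k => rfl
        map_mul' := fun a b => rfl }
    have h1 : (fun n : L'' => Ψ'' n) =
        (fun k : (tripleEmb M ρ).range => (tripleRep M ρ).character k) ∘ e := by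
      funext n
      rw [hΨ''def]
      rfl
    rw [h1]
    exact IsIrrCharacter.comp_mulEquiv e (tripleChar_restrict_irr M ρ)
  -- an irreducible constituent of `Q''`
  have hQ''0 : Q'' ≠ 0 := by
    intro h
    have h1 := congrFun h 1
    rw [hQ''def] at h1
    exact IsIrrCharacter.apply_one_ne_zero hQ h1
  obtain ⟨β, hβ, hneβ⟩ := exists_irr_constituent hQ''c hQ''0
  have hQ''inv : ∀ n ∈ L'', ∀ y : X'', Q'' (n * y) = Q'' y := by
    intro n hn y
    rw [hQ''def]
    exact hQinv _ ((hmemL'' n).mp hn) _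
  have hβker : ∀ n ∈ L'', β n = β 1 := by
    intro n hn
    apply constituent_apply_eq_of_apply_eq hQ''c hβ hneβ n
    have := hQ''inv n hn 1
    rwa [mul_one] at this
  have hβc := IsIrrCharacter.isCharacter hβ
  have hβinv : ∀ n ∈ L'', ∀ y : X'', β (n * y) = β y := fun n hn y =>
    char_mul_left_eq_of_apply_eq hβc n (hβker n hn) y
  have hβΨ : Cfsg.IsIrrCharacter X'' (β * Ψ'') := gallagher_irr L'' hΨ''irr hΨ''L ⟨β, hβ⟩ hβker
  -- `β Ψ''` is a constituent of `g μ̂`
  have hΔ := sub_isCharacter_of_constituent hQ''c hβ hneβ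
  have hΔΨ : Cfsg.IsCharacter X'' ((Q'' - β) * Ψ'') := IsCharacter.mul hΔ hΨ''c
  obtain ⟨m, hm⟩ := classInner_char_char_nat hΔΨ (IsIrrCharacter.isCharacter hβΨ)
  have hinner : Cfsg.classInner (Q'' * Ψ'') (β * Ψ'') = (m : ℂ) + 1 := by
    have h1 : Q'' * Ψ'' = (Q'' - β) * Ψ'' + β * Ψ'' := by ring
    rw [h1, classInner_add_left, hm, classInner_irr_self hβΨ]
  have hμβ : μ ∘ fN = β * Ψ'' := by
    by_contra hne
    have h0 := classInner_irr_ne hμ' hβΨ hne
    rw [hprod, classInner_smul_left, h0, mul_zero] at hinner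
    have h2 : ((m + 1 : ℕ) : ℂ) = 0 := by
      push_cast
      exact hinner.symm
    exact absurd (Nat.cast_eq_zero.mp h2) (Nat.succ_ne_zero m)
  have hcancel : Q'' = (g : ℂ) • β := by
    apply gallagher_cancel L'' hΨ''irr hΨ''L Q'' ((g : ℂ) • β) hQ''inv
    · intro n hn y
      simp only [Pi.smul_apply, smul_eq_mul]
      rw [hβinv n hn y]
    · rw [hprod, hμβ]
      funext y
      simp only [Pi.smul_apply, Pi.mul_apply, smul_eq_mul]
      ring
  -- restriction to `X`
  have hβX : Cfsg.IsIrrCharacter (X.subgroupOf X'') (fun h : X.subgroupOf X'' => β h) := by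
    apply restrict_irr_of_central_sup hβ
    intro y
    obtain ⟨x, hx, hk⟩ := hdecomp (y : tripleGroup M ρ) y.2
    have hkX'' : x⁻¹ * (y : tripleGroup M ρ) ∈ X'' :=
      X''.mul_mem (X''.inv_mem (hXX'' hx)) y.2
    refine ⟨⟨x, hXX'' hx⟩, Subgroup.mem_subgroupOf.mpr hx, ⟨_, hkX''⟩, ?_, ?_⟩
    · rw [Subgroup.mem_center_iff]
      intro w
      apply Subtype.ext
      exact Subgroup.mem_center_iff.mp (hkercen hk) (w : tripleGroup M ρ)
    · apply Subtype.ext
      show (y : tripleGroup M ρ) = x * (x⁻¹ * (y : tripleGroup M ρ))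
      group
  let e : X.subgroupOf X'' ≃* X := Subgroup.subgroupOfEquivOfLe hXX''
  refine ⟨(fun h : X.subgroupOf X'' => β h) ∘ e.symm, g,
    IsIrrCharacter.comp_mulEquiv e.symm hβX, ?_⟩
  funext x
  have h1 := congrFun hcancel ⟨(x : tripleGroup M ρ), hXX'' x.2⟩
  rw [hQ''def] at h1
  simp only [Pi.smul_apply, smul_eq_mul, Function.comp_apply] at h1 ⊢
  rw [h1]
  rfl

end Cfsg.Agent.Helper6.BergerThm
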