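import Mathlib
import Cfsg.Prelude.Def_Characters
import Cfsg.Agent.Helper6.BergerH

/-!
# Berger's theorem: the reduction to a central core
-/

set_option autoImplicit false
set_option linter.style.haveILetI false

namespace Cfsg.Agent.Helper6.BergerThm

open Cfsg.Agent.Helper6
open Module
open scoped ComplexConjugate

universe u

variable {G : Type u} [Group G]

/-- moving a factor to the other side of the inner product -/
theorem classInner_mul_conj [Fintype G] (u v w : G → ℂ) :
    Cfsg.classInner (u * fun x => conj (v x)) w = Cfsg.classInner u (w * v) := by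
  unfold Cfsg.classInner
  congr 1
  apply Finset.sum_congr rfl
  intro x _
  simp only [Pi.mul_apply, map_mul]
  ring

/-- two class functions with nonzero inner product have a common irreducible constituent -/
theorem exists_common_constituent [Fintype G] {a : G → ℂ} (b : G → ℂ)
    (ha : Cfsg.IsClassFunction G a) (h : Cfsg.classInner a b ≠ 0) :
    ∃ γ : G → ℂ, Cfsg.IsIrrCharacter G γ ∧ Cfsg.classInner a γ ≠ 0 ∧
      Cfsg.classInner γ b ≠ 0 := by
  classical
  haveI : Finite (Cfsg.IrrCharacter G) := irr_finite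
  haveI : Fintype (Cfsg.IrrCharacter G) := Fintype.ofFinite _
  rw [classInner_self_expansion a ha b] at h
  obtain ⟨γ, -, hγ⟩ := Finset.exists_ne_zero_of_sum_ne_zero h
  exact ⟨γ, γ.2, left_ne_zero_of_mul hγ, right_ne_zero_of_mul hγ⟩

variable (M : Subgroup G) [hM : M.Normal] {d : ℕ} (ρ : Representation ℂ M (Fin d → ℂ))

/-- the extended character restricts irreducibly to every subgroup containing the embedded copy
of `M`, and to that copy inside it -/
theorem tripleChar_restrict_irr_of_le [Finite G] [hirr : ρ.IsIrreducible]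
    (Y : Subgroup (tripleGroup M ρ)) (hLY : (tripleEmb M ρ).range ≤ Y) :
    Cfsg.IsIrrCharacter Y (fun y : Y => (tripleRep M ρ).character y) ∧
      Cfsg.IsIrrCharacter ((tripleEmb M ρ).range.subgroupOf Y)
        (fun n : (tripleEmb M ρ).range.subgroupOf Y => (tripleRep M ρ).character n) := by
  classical
  haveI := tripleGroup_finite M ρ
  haveI : Fintype (tripleGroup M ρ) := Fintype.ofFinite _
  haveI : Fintype Y := Fintype.ofFinite _
  haveI : Fintype (tripleEmb M ρ).range := Fintype.ofFinite _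
  have hΨc : Cfsg.IsCharacter Y (fun y : Y => (tripleRep M ρ).character y) :=
    IsCharacter.restrict Y (IsIrrCharacter.isCharacter (tripleRep_isIrrCharacter M ρ))
  constructor
  · apply isIrrCharacter_of_comp_irr (Subgroup.inclusion hLY) hΨc
    exact tripleChar_restrict_irr M ρ
  · have hmem : ∀ y : Y, y ∈ (tripleEmb M ρ).range.subgroupOf Y ↔
        (y : tripleGroup M ρ) ∈ (tripleEmb M ρ).range := fun y => Subgroup.mem_subgroupOf
    let e : (tripleEmb M ρ).range.subgroupOf Y ≃* (tripleEmb M ρ).range :=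
      { toFun := fun n => ⟨((n : Y) : tripleGroup M ρ), (hmem n).mp n.2⟩
        invFun := fun k => ⟨⟨(k : tripleGroup M ρ), hLY k.2⟩, (hmem _).mpr k.2⟩
        left_inv := fun n => rfl
        right_inv := fun k => rfl
        map_mul' := fun a b => rfl }
    exact IsIrrCharacter.comp_mulEquiv e (tripleChar_restrict_irr M ρ)

set_option maxHeartbeats 1600000 in
/-- **reduction**: if the quasi-primitive character `χ` is induced from a subgroup `H` containing
the normal subgroup `M`, the induction hypothesis for central index `|G : M|` gives a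
contradiction -/
theorem false_of_normal_le {n : ℕ} (IH : BergerIH.{u} n) [Fintype G]
    (hsol : Group.IsSolvable G) (χ : G → ℂ) (hχ : Cfsg.IsIrrCharacter G χ)
    (hqp : QuasiPrimOver ⊥ χ) (H : Subgroup G) (hH : H ≠ ⊤) (ψ : H → ℂ)
    (hψ : Cfsg.IsIrrCharacter H ψ) (hind : Cfsg.indFun H ψ = χ) (M : Subgroup G) [hM : M.Normal]
    (hMH : M ≤ H) (hidx : M.index < n) : False := by
  classical
  haveI : Fintype M := Fintype.ofFinite _
  haveI : Fintype H := Fintype.ofFinite _
  have hχc := IsIrrCharacter.isCharacter hχ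
  have hχcf := IsCharacter.isClassFunction hχc
  have hχ1 : χ 1 ≠ 0 := IsIrrCharacter.apply_one_ne_zero hχ
  obtain ⟨θ, a, hθ, hres⟩ := hqp M hM bot_le
  have ha0 : (a : ℂ) ≠ 0 := by
    intro h
    have h1 := congrFun hres 1
    simp only [Pi.smul_apply, smul_eq_mul, h, zero_mul] at h1
    exact hχ1 h1
  have ha : a ≠ 0 := by
    intro h
    apply ha0
    rw [h, Nat.cast_zero]
  have hθinv := invariant_of_restrict_eq_smul M χ hχcf θ a ha0 hres
  obtain ⟨d, ρ, hirr, rfl⟩ := hθ
  haveI := hirr
  have hinv : ∀ (g : G) (m : M), ρ.character (cj M g m) = ρ.character m := hθinv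
  haveI := tripleGroup_finite M ρ
  haveI : Fintype (tripleGroup M ρ) := Fintype.ofFinite _
  haveI : Group.IsSolvable (tripleGroup M ρ) := tripleGroup_isSolvable M ρ hsol
  have hq : Function.Surjective (tripleProj M ρ) := tripleProj_surjective M ρ hinv
  obtain ⟨Q, hQ, hQinv, hfac⟩ := exists_gallagher_factor M ρ hinv χ hχ a ha hres
  have hqpM : QuasiPrimOver M χ := fun X hX _ => hqp X hX bot_le
  have hQqp := gallagher_factor_quasiPrim M ρ hinv χ hχ hqpM Q hQ hQinv hfac
  have hQc := IsIrrCharacter.isCharacter hQ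
  have hQcf := IsCharacter.isClassFunction hQc
  -- the preimage of `H`
  obtain ⟨Hh, hHhdef⟩ : ∃ Hh : Subgroup (tripleGroup M ρ), Hh = H.comap (tripleProj M ρ) :=
    ⟨_, rfl⟩
  have hmemHh : ∀ y : tripleGroup M ρ, y ∈ Hh ↔ tripleProj M ρ y ∈ H := by
    intro y
    rw [hHhdef, Subgroup.mem_comap]
  have hLHh : (tripleEmb M ρ).range ≤ Hh := by
    rw [hHhdef]
    exact range_le_comap M ρ H hMH
  haveI : Fintype Hh := Fintype.ofFinite _
  let fH : Hh →* H :=
    { toFun := fun y => ⟨tripleProj M ρ y, (hmemHh y).mp y.2⟩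
      map_one' := by apply Subtype.ext; simp
      map_mul' := fun a b => by apply Subtype.ext; simp }
  have hfH : Function.Surjective fH := by
    rintro ⟨h, hh⟩
    obtain ⟨y, rfl⟩ := hq h
    exact ⟨⟨y, (hmemHh y).mpr hh⟩, rfl⟩
  have hψ' : Cfsg.IsIrrCharacter Hh (ψ ∘ fH) := isIrrCharacter_comp_surjective fH hfH hψ
  obtain ⟨hΨirr, hΨL⟩ := tripleChar_restrict_irr_of_le M ρ Hh hLHh
  obtain ⟨QH, hQHdef⟩ : ∃ QH : Hh → ℂ, QH = fun y : Hh => Q y := ⟨_, rfl⟩
  obtain ⟨ΨH, hΨHdef⟩ : ∃ ΨH : Hh → ℂ, ΨH = fun y : Hh => (tripleRep M ρ).character y :=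
    ⟨_, rfl⟩
  rw [← hΨHdef] at hΨirr
  have hΨL' : Cfsg.IsIrrCharacter ((tripleEmb M ρ).range.subgroupOf Hh)
      (fun n : (tripleEmb M ρ).range.subgroupOf Hh => ΨH n) := by
    rw [hΨHdef]
    exact hΨL
  have hQHc : Cfsg.IsCharacter Hh QH := by
    rw [hQHdef]
    exact IsCharacter.restrict Hh hQc
  have hΨHc := IsIrrCharacter.isCharacter hΨirr
  -- the inner product
  have hfrob : Cfsg.classInner ψ (fun t : H => χ t) = 1 := by
    rw [← frobenius_reciprocity H ψ χ hχcf, hind, classInner_irr_self hχ]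
  have hprodH : QH * ΨH = (fun t : H => χ t) ∘ fH := by
    funext y
    have h1 := congrFun hfac (y : tripleGroup M ρ)
    simp only [Function.comp_apply, Pi.mul_apply] at h1 ⊢
    rw [hQHdef, hΨHdef]
    simp only
    rw [← h1]
    rfl
  have hin1 : Cfsg.classInner (ψ ∘ fH) (QH * ΨH) = 1 := by
    rw [hprodH, classInner_comp_surjective fH hfH]
    exact hfrob
  have hin2 : Cfsg.classInner ((ψ ∘ fH) * fun y => conj (ΨH y)) QH ≠ 0 := by
    rw [classInner_mul_conj, hin1]
    exact one_ne_zero
  have hcfa : Cfsg.IsClassFunction Hh ((ψ ∘ fH) * fun y => conj (ΨH y)) :=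
    IsCharacter.isClassFunction (IsCharacter.mul (IsIrrCharacter.isCharacter hψ')
      (IsIrrCharacter.isCharacter (conj_isIrr hΨirr)))
  obtain ⟨γ, hγ, hγ1, hγ2⟩ := exists_common_constituent QH hcfa hin2
  haveI hL'n : ((tripleEmb M ρ).range.subgroupOf Hh).Normal :=
    Subgroup.Normal.subgroupOf inferInstance Hh
  have hγQ : Cfsg.classInner QH γ ≠ 0 := by
    rw [classInner_conj_symm]
    intro h
    apply hγ2
    have := congrArg conj h
    simpa using this
  have hγker : ∀ k ∈ (tripleEmb M ρ).range.subgroupOf Hh, γ k = γ 1 := by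
    intro k hk
    apply constituent_apply_eq_of_apply_eq hQHc hγ hγQ k
    rw [hQHdef]
    have := hQinv _ (Subgroup.mem_subgroupOf.mp hk) 1
    rw [mul_one] at this
    exact this
  have hγΨ : Cfsg.IsIrrCharacter Hh (γ * ΨH) :=
    gallagher_irr ((tripleEmb M ρ).range.subgroupOf Hh) hΨirr hΨL' ⟨γ, hγ⟩ hγker
  have hψeq : ψ ∘ fH = γ * ΨH := by
    by_contra hne
    apply hγ1
    rw [classInner_mul_conj]
    exact classInner_irr_ne hψ' hγΨ hne
  -- degrees
  have hΨ1 : ΨH 1 ≠ 0 := IsIrrCharacter.apply_one_ne_zero hΨirr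
  have hdegψ : ψ 1 = γ 1 * ΨH 1 := by
    have := congrFun hψeq 1
    simp only [Function.comp_apply, Pi.mul_apply, map_one] at this
    exact this
  have hdegχ : χ 1 = Q 1 * ΨH 1 := by
    have := congrFun hfac 1
    simp only [Function.comp_apply, Pi.mul_apply, map_one] at this
    rw [hΨHdef]
    exact this
  have hidxH : Hh.index = H.index := by
    rw [hHhdef]
    exact Subgroup.index_comap_of_surjective H hq
  have hQ1 : Q 1 = (H.index : ℂ) * γ 1 := by
    have h1 : χ 1 = (H.index : ℂ) * ψ 1 := by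
      rw [← hind]
      exact indFun_apply_one H ψ
    rw [hdegχ, hdegψ, ← mul_assoc] at h1
    exact mul_right_cancel₀ hΨ1 h1
  have hindγ : Cfsg.indFun Hh γ = Q := by
    apply eq_of_constituent_of_degree (isCharacter_indFun Hh γ (IsIrrCharacter.isCharacter hγ)) hQ
    · rw [frobenius_reciprocity Hh γ Q hQcf]
      rw [hQHdef] at hγ2
      exact hγ2
    · rw [indFun_apply_one, hidxH, hQ1]
  -- descent
  have hHh : Hh ≠ ⊤ := by
    intro h
    apply hH
    rw [eq_top_iff]
    intro g _
    obtain ⟨y, rfl⟩ := hq g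
    exact (hmemHh y).mp (by rw [h]; trivial)
  have hidxM : (M.comap (tripleProj M ρ)).index < n := by
    rw [Subgroup.index_comap_of_surjective M hq]
    exact hidx
  have hQker : ∀ l ∈ (tripleEmb M ρ).range, Q l = Q 1 := by
    intro l hl
    have := hQinv l hl 1
    rwa [mul_one] at this
  exact descend IH (tripleEmb M ρ).range (M.comap (tripleProj M ρ)) (comap_central_mod M ρ) hidxM
    Q hQ hQker hQqp Hh hLHh hHh γ hγ hindγ

end Cfsg.Agent.Helper6.BergerThm
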