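import Mathlib
import Cfsg.Prelude.Def_Characters
import Cfsg.Agent.Helper6.BergerD
import Cfsg.Agent.Helper6.CentralDefectA

/-!
# Berger's theorem: induced characters at central elements, and the degree relation
-/

set_option autoImplicit false
set_option linter.style.haveILetI false

namespace Cfsg.Agent.Helper6.BergerThm

open Cfsg.Agent.Helper6
open scoped ComplexConjugate

universe u

variable {G : Type u} [Group G]

/-- the value of an induced function at a central element -/
theorem indFun_apply_central [Fintype G] (H : Subgroup G) (θ : H → ℂ) (z : G)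
    (hz : z ∈ Subgroup.center G) :
    Cfsg.indFun H θ z = (H.index : ℂ) * Cfsg.extendByZero H θ z := by
  rw [indFun_apply]
  have : ∀ x : G, Cfsg.extendByZero H θ (x⁻¹ * z * x) = Cfsg.extendByZero H θ z := by
    intro x
    have h1 : x⁻¹ * z * x = z := by
      have := Subgroup.mem_center_iff.mp hz x
      rw [mul_assoc, ← this, ← mul_assoc, inv_mul_cancel, one_mul]
    rw [h1]
  simp_rw [this]
  rw [Finset.sum_const, Finset.card_univ, nsmul_eq_mul, ← Nat.card_eq_fintype_card,
    ← H.index_mul_card]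
  have hH : (Nat.card H : ℂ) ≠ 0 := by
    exact_mod_cast (Nat.card_pos (α := H)).ne'
  push_cast
  field_simp

/-- an irreducible induced character is induced from a subgroup containing the centre -/
theorem center_le_of_indFun_irr [Fintype G] (H : Subgroup G) (θ : H → ℂ)
    (hind : Cfsg.IsIrrCharacter G (Cfsg.indFun H θ)) : Subgroup.center G ≤ H := by
  intro z hz
  by_contra hzH
  have h1 := indFun_apply_central H θ z hz
  rw [extendByZero_not_mem H θ hzH, mul_zero] at h1
  obtain ⟨ω, hω, hmul⟩ := irr_center_mul ⟨_, hind⟩ z hz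
  have h2 := hmul 1
  simp only [mul_one] at h2
  rw [h1] at h2
  have h3 : ω ≠ 0 := by
    intro h
    rw [h, norm_zero] at hω
    exact zero_ne_one hω
  rcases mul_eq_zero.mp h2.symm with h | h
  · exact h3 h
  · exact IsIrrCharacter.apply_one_ne_zero hind h

/-- the square of the absolute value of an irreducible character at a central element -/
theorem irr_mul_conj_central [Finite G] {φ : G → ℂ} (hφ : Cfsg.IsIrrCharacter G φ) (z : G)
    (hz : z ∈ Subgroup.center G) : φ z * conj (φ z) = φ 1 * conj (φ 1) := by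
  obtain ⟨ω, hω, hmul⟩ := irr_center_mul ⟨φ, hφ⟩ z hz
  have h2 := hmul 1
  simp only [mul_one] at h2
  rw [h2, map_mul]
  have h3 : ω * conj ω = 1 := by
    rw [Complex.mul_conj, Complex.normSq_eq_norm_sq, hω]
    norm_num
  calc ω * φ 1 * (conj ω * conj (φ 1)) = (ω * conj ω) * (φ 1 * conj (φ 1)) := by ring
    _ = φ 1 * conj (φ 1) := by rw [h3, one_mul]

set_option maxHeartbeats 800000 in
/-- **the degree relation**: if `χ = ψ^G` restricts homogeneously to the normal subgroup `K` with
`KH = G` and `K ∩ H` central in `G`, the constituent `φ` satisfies `φ(1)² = |G : H|` -/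
theorem degree_sq_eq_index [Fintype G] (H : Subgroup G) (ψ : H → ℂ)
    (χ : G → ℂ) (hχ : Cfsg.IsIrrCharacter G χ) (hind : Cfsg.indFun H ψ = χ)
    (K : Subgroup G) [hK : K.Normal] (hsup : K ⊔ H = ⊤) (hinf : K ⊓ H ≤ Subgroup.center G)
    (φ : K → ℂ) (hφ : Cfsg.IsIrrCharacter K φ) (a : ℕ)
    (hres : (fun k : K => χ k) = (a : ℂ) • φ) :
    φ 1 * φ 1 = (H.index : ℂ) := by
  classical
  haveI : Fintype H := Fintype.ofFinite _
  haveI : Fintype K := Fintype.ofFinite _
  haveI : Fintype (K ⊓ H : Subgroup G) := Fintype.ofFinite _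
  have hχcf := IsCharacter.isClassFunction (IsIrrCharacter.isCharacter hχ)
  have hχ1 : χ 1 ≠ 0 := IsIrrCharacter.apply_one_ne_zero hχ
  have ha0 : (a : ℂ) ≠ 0 := by
    intro h
    have h1 := congrFun hres 1
    simp only [Pi.smul_apply, smul_eq_mul, h, zero_mul] at h1
    exact hχ1 h1
  have hφinv := invariant_of_restrict_eq_smul K χ hχcf φ a ha0 hres
  have hDK : K ⊓ H ≤ K := inf_le_left
  have hDH : K ⊓ H ≤ H := inf_le_right
  have hmack := classInner_restrict_indFun_of_sup_eq_top K φ hφinv H hsup (K ⊓ H) hDK hDH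
    (fun x hxK hxH => ⟨hxK, hxH⟩) ψ
  rw [hind, hres, classInner_smul_left, classInner_irr_self hφ, mul_one] at hmack
  have hidx0 : (H.index : ℂ) ≠ 0 := by
    exact_mod_cast (Subgroup.index_ne_zero_of_finite (H := H))
  obtain ⟨dφ, hdφ0, hdφ⟩ := IsIrrCharacter.apply_one_pos hφ
  have hconj1 : conj (φ 1) = φ 1 := by rw [hdφ, Complex.conj_natCast]
  -- the terms of the inner product
  have hterm : ∀ z : (K ⊓ H : Subgroup G), ψ ⟨z, hDH z.2⟩ * conj (φ ⟨z, hDK z.2⟩) =
      (a : ℂ) / (H.index : ℂ) * (φ 1 * φ 1) := by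
    intro z
    have hzc : (z : G) ∈ Subgroup.center G := hinf z.2
    have h1 : χ z = (H.index : ℂ) * ψ ⟨z, hDH z.2⟩ := by
      rw [← hind, indFun_apply_central H ψ z hzc, extendByZero_mem H ψ (hDH z.2)]
    have h2 : χ z = (a : ℂ) * φ ⟨z, hDK z.2⟩ := by
      have := congrFun hres ⟨z, hDK z.2⟩
      simpa using this
    have hzK : (⟨z, hDK z.2⟩ : K) ∈ Subgroup.center K := by
      rw [Subgroup.mem_center_iff]
      intro k
      apply Subtype.ext
      exact Subgroup.mem_center_iff.mp hzc (k : G)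
    have h3 := irr_mul_conj_central hφ ⟨z, hDK z.2⟩ hzK
    rw [hconj1] at h3
    have h4 : ψ ⟨z, hDH z.2⟩ = (a : ℂ) / (H.index : ℂ) * φ ⟨z, hDK z.2⟩ := by
      rw [h2] at h1
      field_simp
      rw [h1]
      ring
    rw [h4, mul_assoc, h3]
  unfold Cfsg.classInner at hmack
  simp only [hterm] at hmack
  rw [Finset.sum_const, Finset.card_univ, nsmul_eq_mul, ← Nat.card_eq_fintype_card,
    ← mul_assoc] at hmack
  have hD0 : (Nat.card (K ⊓ H : Subgroup G) : ℂ) ≠ 0 := by
    exact_mod_cast (Nat.card_pos (α := (K ⊓ H : Subgroup G))).ne'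
  rw [inv_mul_cancel₀ hD0, one_mul] at hmack
  -- `a = (a / idx) φ(1)²`
  have h5 : (a : ℂ) * (H.index : ℂ) = (a : ℂ) * (φ 1 * φ 1) := by
    have h6 : (a : ℂ) / (H.index : ℂ) * (φ 1 * φ 1) * (H.index : ℂ) = (a : ℂ) * (φ 1 * φ 1) := by
      field_simp
    rw [← h6, ← hmack]
  exact (mul_left_cancel₀ ha0 h5).symm

end Cfsg.Agent.Helper6.BergerThm
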