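import Mathlib
import Cfsg.Prelude.Def_Characters
import Cfsg.Agent.Helper6.BergerF

/-!
# Berger's theorem: passing to a quotient group through a supplement
-/

set_option autoImplicit false
set_option linter.style.haveILetI false

namespace Cfsg.Agent.Helper6.BergerThm

open Cfsg.Agent.Helper6
open scoped ComplexConjugate

universe u

variable {G₀ : Type u} [Group G₀]

/-- a quasi-primitive character modulo `L` deflates to a quasi-primitive character of the quotient,
and the centre of the quotient has small index -/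
theorem descend_quasiPrim {n : ℕ} [Fintype G₀]
    (L : Subgroup G₀) [hL : L.Normal] (Zc : Subgroup G₀)
    (hZc : ∀ z ∈ Zc, ∀ g : G₀, z * g * z⁻¹ * g⁻¹ ∈ L) (hidx : Zc.index < n)
    (χ₀ : G₀ → ℂ) (hχ₀ : Cfsg.IsIrrCharacter G₀ χ₀) (hker : ∀ l ∈ L, χ₀ l = χ₀ 1)
    (hqp : QuasiPrimOver L χ₀) :
    ∃ χ' : G₀ ⧸ L → ℂ, Cfsg.IsIrrCharacter (G₀ ⧸ L) χ' ∧
      (∀ g : G₀, χ' (QuotientGroup.mk' L g) = χ₀ g) ∧ QuasiPrimOver ⊥ χ' ∧
      (Subgroup.center (G₀ ⧸ L)).index < n := by
  classical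
  haveI : Fintype (G₀ ⧸ L) := Fintype.ofFinite _
  have hmk : Function.Surjective (QuotientGroup.mk' L) := QuotientGroup.mk'_surjective L
  have hkermk : (QuotientGroup.mk' L).ker = L := QuotientGroup.ker_mk' L
  have hmk1 : ∀ x : G₀, x ∈ L → QuotientGroup.mk' L x = 1 := by
    intro x hx
    rw [← MonoidHom.mem_ker, hkermk]
    exact hx
  have hmk1' : ∀ x : G₀, QuotientGroup.mk' L x = 1 → x ∈ L := by
    intro x hx
    rw [← hkermk, MonoidHom.mem_ker]
    exact hx
  -- the index of the centre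
  have hcen : (Subgroup.center (G₀ ⧸ L)).index < n := by
    have h1 : Zc.map (QuotientGroup.mk' L) ≤ Subgroup.center (G₀ ⧸ L) := by
      rintro _ ⟨z, hz, rfl⟩
      rw [Subgroup.mem_center_iff]
      intro q
      obtain ⟨g, rfl⟩ := hmk q
      have h2 := hZc z hz g
      have h3 : z * g = (z * g * z⁻¹ * g⁻¹) * (g * z) := by group
      have h4 : QuotientGroup.mk' L (z * g) = QuotientGroup.mk' L (g * z) := by
        rw [h3, map_mul, hmk1 _ h2, one_mul]
      rw [← map_mul, ← map_mul]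
      exact h4.symm
    have h2 : (Zc.map (QuotientGroup.mk' L)).index ≤ Zc.index := by
      rw [Subgroup.index_map, MonoidHom.range_eq_top.mpr hmk, Subgroup.index_top, mul_one]
      exact Subgroup.index_antitone le_sup_left
    exact lt_of_le_of_lt ((Subgroup.index_antitone h1).trans h2) hidx
  -- the deflated character
  obtain ⟨χ', hχ'⟩ := exists_deflate L ⟨χ₀, hχ₀⟩ hker
  have hχ'app : ∀ g : G₀, (χ' : G₀ ⧸ L → ℂ) (QuotientGroup.mk' L g) = χ₀ g := by
    intro g
    exact (congrFun hχ' g).symm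
  have hχ₀1 : χ₀ 1 ≠ 0 := IsIrrCharacter.apply_one_ne_zero hχ₀
  refine ⟨(χ' : G₀ ⧸ L → ℂ), χ'.2, hχ'app, ?_, hcen⟩
  -- quasi-primitivity
  intro X' hX' _
  haveI := hX'
  have hLX : L ≤ X'.comap (QuotientGroup.mk' L) := by
    intro l hl
    rw [Subgroup.mem_comap, hmk1 l hl]
    exact X'.one_mem
  obtain ⟨ϑ, e, hϑ, hres⟩ := hqp (X'.comap (QuotientGroup.mk' L)) inferInstance hLX
  have he0 : (e : ℂ) ≠ 0 := by
    intro h
    have h1 := congrFun hres 1
    simp only [Pi.smul_apply, smul_eq_mul, h, zero_mul] at h1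
    exact hχ₀1 h1
  let f : X'.comap (QuotientGroup.mk' L) →* X' := (QuotientGroup.mk' L).subgroupComap X'
  have hf : Function.Surjective f :=
    MonoidHom.subgroupComap_surjective_of_surjective _ _ hmk
  have hkerf : ∀ k ∈ f.ker, ϑ k = ϑ 1 := by
    intro k hk
    have hkL : (k : G₀) ∈ L := by
      rw [MonoidHom.mem_ker] at hk
      have h1 : QuotientGroup.mk' L (k : G₀) = 1 := congrArg Subtype.val hk
      exact hmk1' _ h1
    have h1 := congrFun hres k
    have h2 := congrFun hres 1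
    simp only [Pi.smul_apply, smul_eq_mul] at h1 h2
    have h3 : (e : ℂ) * ϑ k = (e : ℂ) * ϑ 1 := by
      rw [← h1, ← h2]
      exact hker _ hkL
    exact mul_left_cancel₀ he0 h3
  obtain ⟨ϑ', hϑ', hϑeq⟩ := exists_deflate_of_surjective f hf hϑ hkerf
  refine ⟨ϑ', e, hϑ', ?_⟩
  funext x'
  obtain ⟨x, rfl⟩ := hf x'
  have h1 := congrFun hres x
  have h2 := congrFun hϑeq x
  simp only [Pi.smul_apply, smul_eq_mul, Function.comp_apply] at h1 h2 ⊢
  rw [← h2, ← h1]
  exact hχ'app x

/-- an induced character which factors through a surjective homomorphism whose kernel lies in the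
inducing subgroup is induced in the image -/
theorem exists_induced_of_surjective {A Γ : Type u} [Group A] [Group Γ] [Fintype A] [Fintype Γ]
    (f : A →* Γ) (hf : Function.Surjective f) (χ' : Γ → ℂ) (hχ' : Cfsg.IsIrrCharacter Γ χ')
    (T : Subgroup A) (hkerT : f.ker ≤ T) (hT : T ≠ ⊤) (γ : T → ℂ)
    (hγ : Cfsg.IsIrrCharacter T γ) (hind : Cfsg.indFun T γ = χ' ∘ f) :
    T.map f ≠ ⊤ ∧ ∃ γ' : T.map f → ℂ, Cfsg.IsIrrCharacter (T.map f) γ' ∧
      Cfsg.indFun (T.map f) γ' = χ' := by
  classical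
  haveI : Fintype T := Fintype.ofFinite _
  have hχ₀ : Cfsg.IsIrrCharacter A (χ' ∘ f) := isIrrCharacter_comp_surjective f hf hχ'
  have hT' : T.map f ≠ ⊤ := by
    intro h
    apply hT
    rw [eq_top_iff]
    intro g _
    have h1 : f g ∈ T.map f := by rw [h]; trivial
    obtain ⟨t, ht, hteq⟩ := h1
    have h2 : t⁻¹ * g ∈ f.ker := by
      rw [MonoidHom.mem_ker, map_mul, map_inv, hteq, inv_mul_cancel]
    have h3 : g = t * (t⁻¹ * g) := by group
    rw [h3]
    exact T.mul_mem ht (hkerT h2)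
  refine ⟨hT', ?_⟩
  let fT : T →* T.map f := f.subgroupMap T
  have hfT : Function.Surjective fT := MonoidHom.subgroupMap_surjective _ _
  haveI : Fintype (T.map f) := Fintype.ofFinite _
  have hχ₀cf := IsCharacter.isClassFunction (IsIrrCharacter.isCharacter hχ₀)
  have hfrob : Cfsg.classInner γ (fun t : T => (χ' ∘ f) t) = 1 := by
    rw [← frobenius_reciprocity T γ (χ' ∘ f) hχ₀cf, hind, classInner_irr_self hχ₀]
  have hresT : Cfsg.IsCharacter T (fun t : T => (χ' ∘ f) t) :=
    IsCharacter.restrict T (IsIrrCharacter.isCharacter hχ₀)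
  have hneT : Cfsg.classInner (fun t : T => (χ' ∘ f) t) γ ≠ 0 := by
    rw [classInner_conj_symm, hfrob, map_one]
    exact one_ne_zero
  have hkerfT : ∀ k ∈ fT.ker, γ k = γ 1 := by
    intro k hk
    have hkL : f (k : A) = 1 := by
      rw [MonoidHom.mem_ker] at hk
      exact congrArg Subtype.val hk
    apply constituent_apply_eq_of_apply_eq hresT hγ hneT k
    show χ' (f (k : A)) = χ' (f ((1 : T) : A))
    rw [hkL, Subgroup.coe_one, map_one]
  obtain ⟨γ', hγ', hγeq⟩ := exists_deflate_of_surjective fT hfT hγ hkerfT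
  refine ⟨γ', hγ', ?_⟩
  -- the induced character
  have hχ'cf := IsCharacter.isClassFunction (IsIrrCharacter.isCharacter hχ')
  have hindchar : Cfsg.IsCharacter Γ (Cfsg.indFun (T.map f) γ') :=
    isCharacter_indFun _ γ' (IsIrrCharacter.isCharacter hγ')
  have hinner : Cfsg.classInner (Cfsg.indFun (T.map f) γ') χ' = 1 := by
    rw [frobenius_reciprocity _ γ' _ hχ'cf, ← classInner_comp_surjective fT hfT, ← hγeq]
    have h1 : (fun h : T.map f => χ' h) ∘ fT = fun t : T => (χ' ∘ f) t := by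
      funext t
      rfl
    rw [h1]
    exact hfrob
  have hidxT : (T.map f).index = T.index := by
    rw [Subgroup.index_map, MonoidHom.range_eq_top.mpr hf, Subgroup.index_top, mul_one,
      sup_eq_left.mpr hkerT]
  have hdeg : Cfsg.indFun (T.map f) γ' 1 = χ' 1 := by
    rw [indFun_apply_one, hidxT]
    have h1 : γ' 1 = γ 1 := by
      have := congrFun hγeq 1
      rw [Function.comp_apply, map_one] at this
      exact this.symm
    have h2 : χ' 1 = (χ' ∘ f) 1 := by
      rw [Function.comp_apply, map_one]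
    rw [h1, h2, ← hind, indFun_apply_one]
  exact eq_of_constituent_of_degree hindchar hχ' (by rw [hinner]; exact one_ne_zero) hdeg

/-- **descent through a supplement**: a quasi-primitive character modulo `L` whose pull-back along a
homomorphism `f` with `f(A) L = G₀` is induced from a proper subgroup containing `f⁻¹(L)`
contradicts the induction hypothesis -/
theorem descend_via {n : ℕ} (IH : BergerIH.{u} n) [Fintype G₀] [hsol : Group.IsSolvable G₀]
    (L : Subgroup G₀) [hL : L.Normal] (Zc : Subgroup G₀)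
    (hZc : ∀ z ∈ Zc, ∀ g : G₀, z * g * z⁻¹ * g⁻¹ ∈ L) (hidx : Zc.index < n)
    (χ₀ : G₀ → ℂ) (hχ₀ : Cfsg.IsIrrCharacter G₀ χ₀) (hker : ∀ l ∈ L, χ₀ l = χ₀ 1)
    (hqp : QuasiPrimOver L χ₀) {A : Type u} [Group A] [Fintype A] (f : A →* G₀)
    (hf : ∀ g : G₀, ∃ a : A, ∃ l ∈ L, g = f a * l) (T : Subgroup A) (hT : T ≠ ⊤)
    (hkerT : ∀ a : A, f a ∈ L → a ∈ T) (γ : T → ℂ) (hγ : Cfsg.IsIrrCharacter T γ)
    (hind : Cfsg.indFun T γ = χ₀ ∘ f) : False := by
  classical
  haveI : Fintype (G₀ ⧸ L) := Fintype.ofFinite _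
  obtain ⟨χ', hχ', hχ'app, hqp', hcen⟩ := descend_quasiPrim L Zc hZc hidx χ₀ hχ₀ hker hqp
  have hkermk : (QuotientGroup.mk' L).ker = L := QuotientGroup.ker_mk' L
  let F : A →* G₀ ⧸ L := (QuotientGroup.mk' L).comp f
  have hF : Function.Surjective F := by
    intro q
    obtain ⟨g, rfl⟩ := QuotientGroup.mk'_surjective L q
    obtain ⟨a, l, hl, rfl⟩ := hf g
    refine ⟨a, ?_⟩
    have h1 : QuotientGroup.mk' L l = 1 := by
      rw [← MonoidHom.mem_ker, hkermk]
      exact hl
    show QuotientGroup.mk' L (f a) = QuotientGroup.mk' L (f a * l)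
    rw [map_mul, h1, mul_one]
  have hkerF : F.ker ≤ T := by
    intro a ha
    apply hkerT
    rw [MonoidHom.mem_ker] at ha
    rw [← hkermk, MonoidHom.mem_ker]
    exact ha
  have hindF : Cfsg.indFun T γ = χ' ∘ F := by
    rw [hind]
    funext a
    exact (hχ'app (f a)).symm
  obtain ⟨hT', γ', hγ', heq⟩ := exists_induced_of_surjective F hF χ' hχ' T hkerF hT γ hγ hindF
  haveI : Fintype (T.map F) := Fintype.ofFinite _
  exact IH (G₀ ⧸ L) inferInstance hcen _ hχ' hqp' _ hT' γ' hγ' heq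

end Cfsg.Agent.Helper6.BergerThm
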