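import Mathlib
import Cfsg.Prelude.Def_Characters
import Cfsg.Agent.Helper6.BergerI
import Cfsg.Agent.Helper6.BergerJ
import Cfsg.Agent.Helper6.CliffordCorr
import Cfsg.Agent.Helper6.CliffordOrbit
import Cfsg.Agent.Helper6.FullyRamified
import Cfsg.Agent.Helper6.Artin
import Cfsg.Agent.Helper6.Linear
import Cfsg.Agent.Helper6.BlockPart

/-!
# Berger's theorem: abstract character-theoretic lemmas for the fully ramified case
-/

set_option autoImplicit false
set_option linter.style.haveILetI false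

namespace Cfsg.Agent.Helper6.BergerThm

open Cfsg.Agent.Helper6
open scoped ComplexConjugate

universe u

variable {A : Type u} [Group A]

/-- the complex conjugate of a character is a character -/
theorem isCharacter_conj [Finite A] {θ : A → ℂ} (hθ : Cfsg.IsCharacter A θ) :
    Cfsg.IsCharacter A (fun g => conj (θ g)) := by
  have h := IsCharacter.comp_inv hθ
  have h1 : (fun g => conj (θ g)) = fun g => θ g⁻¹ := by
    funext g
    exact (IsCharacter.inv_eq_conj hθ g).symm
  rw [h1]
  exact h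

/-- if `ψ Ψ̄` is irreducible then so is `Ψ` -/
theorem irr_of_mul_conj_irr [Fintype A] {ψ Ψ : A → ℂ} (hψ : Cfsg.IsCharacter A ψ)
    (hΨ : Cfsg.IsCharacter A Ψ) (hirr : Cfsg.IsIrrCharacter A (ψ * fun a => conj (Ψ a))) :
    Cfsg.IsIrrCharacter A Ψ := by
  classical
  have h1 := IsIrrCharacter.apply_one_ne_zero hirr
  simp only [Pi.mul_apply] at h1
  have hψ1 : ψ 1 ≠ 0 := left_ne_zero_of_mul h1
  have hΨ1 : Ψ 1 ≠ 0 := by
    intro h
    apply h1
    rw [h, map_zero, mul_zero]
  have hΨne : Ψ ≠ 0 := by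
    intro h
    apply hΨ1
    rw [h]
    rfl
  obtain ⟨α, hα, hne⟩ := exists_irr_constituent hΨ hΨne
  have hβ := sub_isCharacter_of_constituent hΨ hα hne
  by_cases hβ0 : Ψ - α = 0
  · have h2 : Ψ = α := sub_eq_zero.mp hβ0
    rw [h2]
    exact hα
  · exfalso
    have hsum : (ψ * fun a => conj (Ψ a)) =
        (ψ * fun a => conj (α a)) + (ψ * fun a => conj ((Ψ - α) a)) := by
      funext a
      simp only [Pi.mul_apply, Pi.add_apply, Pi.sub_apply, map_sub]
      ring
    rw [hsum] at hirr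
    refine not_irr_add (IsCharacter.mul hψ (isCharacter_conj (IsIrrCharacter.isCharacter hα)))
      (IsCharacter.mul hψ (isCharacter_conj hβ)) ?_ ?_ hirr
    · intro h0
      have h3 := congrFun h0 1
      simp only [Pi.mul_apply, Pi.zero_apply] at h3
      rcases mul_eq_zero.mp h3 with h | h
      · exact hψ1 h
      · exact IsIrrCharacter.apply_one_ne_zero hα ((map_eq_zero _).mp h)
    · intro h0
      have h3 := congrFun h0 1
      simp only [Pi.mul_apply, Pi.zero_apply] at h3
      rcases mul_eq_zero.mp h3 with h | h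
      · exact hψ1 h
      · exact hβ0 (eq_zero_of_isCharacter_of_apply_one hβ ((map_eq_zero _).mp h))

/-- the product of a class function with the conjugate of an induced function -/
theorem mul_conj_indFun [Fintype A] (T : Subgroup A) (Ψ₁ : T → ℂ) (ψ : A → ℂ)
    (hψ : Cfsg.IsClassFunction A ψ) :
    (ψ * fun a => conj (Cfsg.indFun T Ψ₁ a)) =
      Cfsg.indFun T (fun t : T => ψ t * conj (Ψ₁ t)) := by
  rw [conj_indFun, mul_indFun T _ ψ hψ]

/-- a linear character has absolute value one -/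
theorem norm_eq_one_of_irr_degree_one [Finite A] {ω : A → ℂ} (hω : Cfsg.IsIrrCharacter A ω)
    (h1 : ω 1 = 1) (y : A) : ‖ω y‖ = 1 := by
  obtain ⟨lam, rfl⟩ := exists_hom_of_irr_degree_one hω h1
  have hpos : 0 < orderOf y := orderOf_pos y
  apply norm_eq_one_of_pow_eq_one hpos
  have h2 : (lam y) ^ (orderOf y) = 1 := by
    rw [← map_pow, pow_orderOf_eq_one, map_one]
  show ((lam y : ℂˣ) : ℂ) ^ orderOf y = 1
  rw [← Units.val_pow_eq_pow_val, h2, Units.val_one]

/-- **the Clifford dichotomy**: an irreducible character of `p`-power degree restricted to a normal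
subgroup which is a `q`-group modulo a central subgroup either has constant absolute value on it,
or is induced from a proper subgroup containing it -/
theorem core_dichotomy [Fintype A] (Ψ : A → ℂ) (hΨ : Cfsg.IsIrrCharacter A Ψ)
    (Y : Subgroup A) [hY : Y.Normal] (ZY : Subgroup A)
    (hcen : ZY ≤ Subgroup.center A)
    {p q : ℕ} (hp : p.Prime) (hq : q.Prime) (hpq : q ≠ p) (i j : ℕ)
    (hdeg : Ψ 1 = ((p ^ i : ℕ) : ℂ)) (hrel : ZY.relIndex Y = q ^ j) :
    (∀ y ∈ Y, ‖Ψ y‖ = ‖Ψ 1‖) ∨
      ∃ T : Subgroup A, T ≠ ⊤ ∧ Y ≤ T ∧ ∃ Ψ₁ : T → ℂ, Cfsg.IsIrrCharacter T Ψ₁ ∧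
        Cfsg.indFun T Ψ₁ = Ψ := by
  classical
  haveI : Fintype Y := Fintype.ofFinite _
  have hΨc := IsIrrCharacter.isCharacter hΨ
  have hresc : Cfsg.IsCharacter Y (fun y : Y => Ψ y) := IsCharacter.restrict Y hΨc
  have hresne : (fun y : Y => Ψ y) ≠ 0 := by
    intro h
    have h1 := congrFun h 1
    exact IsIrrCharacter.apply_one_ne_zero hΨ h1
  obtain ⟨ω, hω, hne⟩ := exists_irr_constituent hresc hresne
  obtain ⟨c, hc0, hc⟩ := IsIrrCharacter.apply_one_pos hω
  have hcl := clifford_degree Y Ψ hΨ ω hω hne (conjStab Y ω) (fun g => mem_conjStab Y ω g)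
  obtain ⟨e, he⟩ := classInner_char_char_nat hresc (IsIrrCharacter.isCharacter hω)
  have hdvd1 : c ∣ p ^ i := by
    have h1 : ((p ^ i : ℕ) : ℂ) = ((e * (conjStab Y ω).index * c : ℕ) : ℂ) := by
      rw [← hdeg, hcl, he, hc]
      push_cast
      ring
    have h2 : p ^ i = e * (conjStab Y ω).index * c := Nat.cast_injective h1
    exact ⟨e * (conjStab Y ω).index, by rw [h2]; ring⟩
  have hdvd2 : c ∣ q ^ j := by
    have h := charDegree_dvd_index_of_central_mod (⟨ω, hω⟩ : Cfsg.IrrCharacter Y) ⊥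
      (by
        intro k hk
        rw [Subgroup.mem_bot] at hk
        rw [hk])
      (ZY.subgroupOf Y)
      (by
        intro h hh g
        rw [Subgroup.mem_bot]
        have hz : (h : A) ∈ Subgroup.center A := hcen (Subgroup.mem_subgroupOf.mp hh)
        have hcomm : (g : A) * (h : A) = (h : A) * (g : A) := Subgroup.mem_center_iff.mp hz g
        apply Subtype.ext
        have h3 : (h : A) * (g : A) * (h : A)⁻¹ * (g : A)⁻¹ = 1 := by
          rw [← hcomm]
          group
        simpa using h3)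
    have h4 : Cfsg.charDegree ω = c := by
      have h5 := charDegree_cast_of_isCharacter (IsIrrCharacter.isCharacter hω)
      rw [hc] at h5
      exact Nat.cast_injective h5
    have h6 : Cfsg.charDegree ((⟨ω, hω⟩ : Cfsg.IrrCharacter Y) : Y → ℂ) = c := h4
    rw [h6] at h
    have h7 : (ZY.subgroupOf Y).index = q ^ j := hrel
    rw [h7] at h
    exact h
  have hc1 : c = 1 := by
    have hcop : Nat.Coprime (p ^ i) (q ^ j) :=
      Nat.Coprime.pow i j ((Nat.coprime_primes hp hq).mpr hpq.symm)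
    exact Nat.dvd_one.mp (hcop ▸ Nat.dvd_gcd hdvd1 hdvd2)
  have hω1 : ω 1 = 1 := by rw [hc, hc1, Nat.cast_one]
  have hYT : Y ≤ conjStab Y ω :=
    le_conjStab_of_isClassFunction Y ω (IsCharacter.isClassFunction (IsIrrCharacter.isCharacter hω))
  by_cases htop : conjStab Y ω = ⊤
  · left
    have hinv : ∀ g : A, conjFun Y ω g = ω := by
      intro g
      have h1 : g ∈ conjStab Y ω := by rw [htop]; trivial
      exact (mem_conjStab Y ω g).mp h1
    have hres := restrict_eq_smul_of_invariant Y Ψ hΨ ω hω hne hinv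
    rw [he] at hres
    intro y hy
    have h1 := congrFun hres ⟨y, hy⟩
    have h2 := congrFun hres 1
    simp only [Pi.smul_apply, smul_eq_mul] at h1 h2
    have h3 : Ψ y = (e : ℂ) * ω ⟨y, hy⟩ := h1
    have h4 : Ψ 1 = (e : ℂ) * ω 1 := h2
    rw [h3, h4, norm_mul, norm_mul, norm_eq_one_of_irr_degree_one hω hω1, hω1, norm_one]
  · right
    haveI : Fintype (conjStab Y ω) := Fintype.ofFinite _
    have hT : ∀ g, g ∈ conjStab Y ω ↔
        ∀ n : Y, ω ⟨g * n * g⁻¹, hY.conj_mem n n.2 g⟩ = ω n := by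
      intro g
      rw [mem_conjStab]
      constructor
      · intro h n
        exact congrFun h n
      · intro h
        funext n
        exact h n
    obtain ⟨Ψ₁, hΨ₁, hind, -⟩ := clifford_correspondence Y ω hω (conjStab Y ω) hT hYT Ψ hΨ hne
    exact ⟨conjStab Y ω, htop, hYT, Ψ₁, hΨ₁, hind⟩

/-- a fully ramified irreducible character vanishes off the central subgroup -/
theorem vanish_off_of_fully_ramified [Fintype A] {φ : A → ℂ} (hφ : Cfsg.IsIrrCharacter A φ)
    (Z₀ : Subgroup A) (hZ₀ : Z₀ ≤ Subgroup.center A) (hdeg : φ 1 * φ 1 = (Z₀.index : ℂ)) (m : A)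
    (hm : m ∉ Z₀) : φ m = 0 := by
  classical
  haveI : Fintype Z₀ := Fintype.ofFinite _
  have hself := classInner_irr_self hφ
  rw [classInner_def] at hself
  have hcard : (Nat.card A : ℂ) ≠ 0 := by exact_mod_cast Nat.card_pos.ne'
  have hsum : ∑ x : A, φ x * conj (φ x) = (Nat.card A : ℂ) := by
    have h1 : (Nat.card A : ℂ) * ((Nat.card A : ℂ)⁻¹ * ∑ x : A, φ x * conj (φ x)) =
        (Nat.card A : ℂ) * 1 := by rw [hself]
    rw [← mul_assoc, mul_inv_cancel₀ hcard, one_mul, mul_one] at h1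
    exact h1
  obtain ⟨d, hd0, hd⟩ := IsIrrCharacter.apply_one_pos hφ
  have hreal : ∀ x : A, φ x * conj (φ x) = ((Complex.normSq (φ x) : ℝ) : ℂ) := by
    intro x
    exact Complex.mul_conj (φ x)
  have hZterm : ∀ x ∈ Z₀, Complex.normSq (φ x) = (Z₀.index : ℝ) := by
    intro x hx
    have h1 := irr_mul_conj_central hφ x (hZ₀ hx)
    rw [hreal, hd, Complex.conj_natCast] at h1
    have h2 : ((d : ℂ) * (d : ℂ)) = (Z₀.index : ℂ) := by rw [← hd]; exact hdeg
    rw [h2] at h1
    exact_mod_cast h1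
  have hsumR : ∑ x : A, Complex.normSq (φ x) = (Nat.card A : ℝ) := by
    have h1 : ((∑ x : A, Complex.normSq (φ x) : ℝ) : ℂ) = ((Nat.card A : ℝ) : ℂ) := by
      push_cast
      rw [← hsum]
      apply Finset.sum_congr rfl
      intro x _
      exact (hreal x).symm
    exact_mod_cast h1
  have hsplit : ∑ x : A, Complex.normSq (φ x) =
      ∑ x ∈ Finset.univ.filter (fun x : A => x ∈ Z₀), Complex.normSq (φ x) +
        ∑ x ∈ Finset.univ.filter (fun x : A => ¬ x ∈ Z₀), Complex.normSq (φ x) :=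
    (Finset.sum_filter_add_sum_filter_not Finset.univ (fun x : A => x ∈ Z₀) _).symm
  have hZsum : ∑ x ∈ Finset.univ.filter (fun x : A => x ∈ Z₀), Complex.normSq (φ x) =
      (Nat.card A : ℝ) := by
    rw [Finset.sum_congr rfl (fun x hx => hZterm x (Finset.mem_filter.mp hx).2),
      Finset.sum_const, nsmul_eq_mul]
    have h1 : (Finset.univ.filter (fun x : A => x ∈ Z₀)).card = Nat.card Z₀ := by
      rw [Nat.card_eq_fintype_card, Fintype.card_subtype]
    rw [h1, ← Nat.cast_mul, Subgroup.card_mul_index]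
  rw [hsumR, hZsum] at hsplit
  have hrest : ∑ x ∈ Finset.univ.filter (fun x : A => ¬ x ∈ Z₀), Complex.normSq (φ x) = 0 := by
    linarith
  have hzero := (Finset.sum_eq_zero_iff_of_nonneg (fun x _ => Complex.normSq_nonneg (φ x))).mp
    hrest m (Finset.mem_filter.mpr ⟨Finset.mem_univ _, hm⟩)
  exact Complex.normSq_eq_zero.mp hzero

end Cfsg.Agent.Helper6.BergerThm
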