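import Mathlib
import Cfsg.Prelude.Def_Characters
import Cfsg.Agent.Helper6.BergerK
import Cfsg.Agent.Helper6.BergerL
import Cfsg.Agent.Helper6.BergerA

/-!
# Berger's theorem: the fully ramified case inside the central extension
-/

set_option autoImplicit false
set_option linter.style.haveILetI false

namespace Cfsg.Agent.Helper6.BergerThm

open Cfsg.Agent.Helper6
open Module
open scoped ComplexConjugate

universe u

variable {G : Type u} [Group G]

variable (M : Subgroup G) [hM : M.Normal] {d : ℕ} (ρ : Representation ℂ M (Fin d → ℂ))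

/-- elements of the central extension lying over central elements of `G` inside `M` are central -/
theorem mem_center_of_tripleProj_mem [Finite M] [hirr : ρ.IsIrreducible] (y : tripleGroup M ρ)
    (hyM : tripleProj M ρ y ∈ M) (hyZ : tripleProj M ρ y ∈ Subgroup.center G) :
    y ∈ Subgroup.center (tripleGroup M ρ) := by
  obtain ⟨z, hz⟩ : ∃ z : M, z = ⟨tripleProj M ρ y, hyM⟩ := ⟨_, rfl⟩
  have hzval : (z : G) = tripleProj M ρ y := by rw [hz]
  have he : tripleEmb M ρ z ∈ Subgroup.center (tripleGroup M ρ) := by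
    rw [Subgroup.mem_center_iff]
    intro x
    have h1 := conj_tripleEmb M ρ x z
    have h2 : cj M (tripleProj M ρ x) z = z := by
      apply Subtype.ext
      show tripleProj M ρ x * (z : G) * (tripleProj M ρ x)⁻¹ = (z : G)
      rw [hzval]
      have h3 := Subgroup.mem_center_iff.mp hyZ (tripleProj M ρ x)
      rw [h3, mul_inv_cancel_right]
    rw [h2] at h1
    calc x * tripleEmb M ρ z = (x * tripleEmb M ρ z * x⁻¹) * x := by group
      _ = tripleEmb M ρ z * x := by rw [h1]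
  have hc : (tripleEmb M ρ z)⁻¹ * y ∈ Subgroup.center (tripleGroup M ρ) := by
    apply tripleProj_ker_le_center M ρ
    rw [MonoidHom.mem_ker, map_mul, map_inv, tripleProj_tripleEmb, hzval, inv_mul_cancel]
  have h4 : y = tripleEmb M ρ z * ((tripleEmb M ρ z)⁻¹ * y) := by group
  rw [h4]
  exact Subgroup.mul_mem _ he hc

/-- the central extension is the product of the preimage of a supplement of `M` and the embedded
copy of `M` -/
theorem exists_mul_range_of_sup_eq_top [Finite M] (H : Subgroup G) (hsup : M ⊔ H = ⊤)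
    (x : tripleGroup M ρ) :
    ∃ a ∈ H.comap (tripleProj M ρ), ∃ l ∈ (tripleEmb M ρ).range, x = a * l := by
  obtain ⟨m, hm, h, hh, hmh⟩ := exists_mul_of_sup_eq_top M H hsup (tripleProj M ρ x)⁻¹
  refine ⟨x * tripleEmb M ρ ⟨m, hm⟩, ?_, (tripleEmb M ρ ⟨m, hm⟩)⁻¹,
    inv_mem ⟨_, rfl⟩, by group⟩
  rw [Subgroup.mem_comap, map_mul, tripleProj_tripleEmb]
  have h1 : tripleProj M ρ x = h⁻¹ * m⁻¹ := by
    rw [← mul_inv_rev, ← hmh, inv_inv]
  rw [h1]
  show h⁻¹ * m⁻¹ * m ∈ H
  rw [inv_mul_cancel_right]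
  exact H.inv_mem hh

/-- an element of the central extension at which the extended character has maximal absolute value
acts trivially on `ρ` -/
theorem rep_cj_eq_of_norm_eq [Finite G] [hirr : ρ.IsIrreducible] (x : tripleGroup M ρ)
    (hx : ‖(tripleRep M ρ).character x‖ = (d : ℝ)) (m : M) :
    ρ (cj M (tripleProj M ρ x) m) = ρ m := by
  haveI := tripleGroup_finite M ρ
  have h1 : ‖(tripleRep M ρ).character x‖ = (Module.finrank ℂ (Fin d → ℂ) : ℝ) := by
    rw [Module.finrank_fin_fun]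
    exact hx
  obtain ⟨ω, hω⟩ := (norm_char_eq_iff (tripleRep M ρ) x).mp h1
  rw [tripleRep_apply] at hω
  obtain ⟨h2, -⟩ := (mem_tripleGroup M ρ x.1).mp x.2
  have h3 := h2 m
  haveI : Nontrivial (Fin d → ℂ) := irr_nontrivial ρ
  have hω0 : ω ≠ 0 := by
    intro h0
    rw [h0, zero_smul] at hω
    exact (Units.ne_zero x.1.2) hω
  rw [hω, ← Module.End.one_eq_id, smul_mul_assoc, one_mul, mul_smul_comm, mul_one] at h3
  exact (smul_right_injective _ hω0 h3).symm

set_option maxHeartbeats 1600000 in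
/-- **the fully ramified case**: if `χ = ψ^G` with `M H = G`, `M ∩ H` central and `χ_M` a multiple of
the character of `ρ`, whose degree is a power of `p`, then every normal subgroup `K ⊇ M` with
`|K ∩ H : M ∩ H|` a power of a different prime `q` satisfies: `K ∩ H` fixes `ρ` -/
theorem rep_invariant_of_fully_ramified {n : ℕ} (IH : BergerIH.{u} n) [Fintype G]
    (hsol : Group.IsSolvable G) (χ : G → ℂ) (hχ : Cfsg.IsIrrCharacter G χ)
    (hqp : QuasiPrimOver ⊥ χ) (H : Subgroup G) (ψ : H → ℂ)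
    (hψ : Cfsg.IsIrrCharacter H ψ) (hind : Cfsg.indFun H ψ = χ)
    (hsup : M ⊔ H = ⊤) (hinf : M ⊓ H ≤ Subgroup.center G) (hidx : M.index < n)
    [hirr : ρ.IsIrreducible] (a : ℕ)
    (hres : (fun m : M => χ m) = (a : ℂ) • ρ.character)
    (K : Subgroup G) [hK : K.Normal] (hMK : M ≤ K)
    {p q : ℕ} (hp : p.Prime) (hq : q.Prime) (hpq : q ≠ p) (i j : ℕ) (hdeg : d = p ^ i)
    (hrel : M.relIndex (K ⊓ H) = q ^ j) :
    ∀ h ∈ K ⊓ H, ∀ m : M, ρ (cj M h m) = ρ m := by
  classical
  haveI : Fintype M := Fintype.ofFinite _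
  haveI : Fintype H := Fintype.ofFinite _
  have hχc := IsIrrCharacter.isCharacter hχ
  have hχcf := IsCharacter.isClassFunction hχc
  have hχ1 : χ 1 ≠ 0 := IsIrrCharacter.apply_one_ne_zero hχ
  have ha0 : (a : ℂ) ≠ 0 := by
    intro h
    have h1 := congrFun hres 1
    simp only [Pi.smul_apply, smul_eq_mul, h, zero_mul] at h1
    exact hχ1 h1
  have ha : a ≠ 0 := by
    intro h
    apply ha0
    rw [h, Nat.cast_zero]
  have hφirr : Cfsg.IsIrrCharacter M ρ.character := ⟨d, ρ, hirr, rfl⟩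
  have hθinv := invariant_of_restrict_eq_smul M χ hχcf ρ.character a ha0 hres
  have hinv : ∀ (g : G) (m : M), ρ.character (cj M g m) = ρ.character m := hθinv
  haveI := tripleGroup_finite M ρ
  haveI : Fintype (tripleGroup M ρ) := Fintype.ofFinite _
  haveI : Group.IsSolvable (tripleGroup M ρ) := tripleGroup_isSolvable M ρ hsol
  have hsurj : Function.Surjective (tripleProj M ρ) := tripleProj_surjective M ρ hinv
  obtain ⟨Q, hQ, hQinv, hfac⟩ := exists_gallagher_factor M ρ hinv χ hχ a ha hres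
  have hqpM : QuasiPrimOver M χ := fun X hX _ => hqp X hX bot_le
  have hQqp := gallagher_factor_quasiPrim M ρ hinv χ hχ hqpM Q hQ hQinv hfac
  have hQc := IsIrrCharacter.isCharacter hQ
  have hQker : ∀ l ∈ (tripleEmb M ρ).range, Q l = Q 1 := by
    intro l hl
    have := hQinv l hl 1
    rwa [mul_one] at this
  -- the preimage of `H`
  obtain ⟨Hh, hHhdef⟩ : ∃ Hh : Subgroup (tripleGroup M ρ), Hh = H.comap (tripleProj M ρ) :=
    ⟨_, rfl⟩
  have hmemHh : ∀ y : tripleGroup M ρ, y ∈ Hh ↔ tripleProj M ρ y ∈ H := by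
    intro y
    rw [hHhdef, Subgroup.mem_comap]
  haveI : Fintype Hh := Fintype.ofFinite _
  let fH : Hh →* H :=
    { toFun := fun y => ⟨tripleProj M ρ y, (hmemHh y).mp y.2⟩
      map_one' := by apply Subtype.ext; simp
      map_mul' := fun a b => by apply Subtype.ext; simp }
  have hfHval : ∀ y : Hh, ((fH y : H) : G) = tripleProj M ρ (y : tripleGroup M ρ) := fun y => rfl
  have hfH : Function.Surjective fH := by
    rintro ⟨h, hh⟩
    obtain ⟨y, rfl⟩ := hsurj h
    exact ⟨⟨y, (hmemHh y).mpr hh⟩, rfl⟩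
  have hψ' : Cfsg.IsIrrCharacter Hh (ψ ∘ fH) := isIrrCharacter_comp_surjective fH hfH hψ
  have hψ'c := IsIrrCharacter.isCharacter hψ'
  obtain ⟨QH, hQHdef⟩ : ∃ QH : Hh → ℂ, QH = fun y : Hh => Q y := ⟨_, rfl⟩
  obtain ⟨ΨH, hΨHdef⟩ : ∃ ΨH : Hh → ℂ, ΨH = fun y : Hh => (tripleRep M ρ).character y :=
    ⟨_, rfl⟩
  have hΨHc : Cfsg.IsCharacter Hh ΨH := by
    rw [hΨHdef]
    exact IsCharacter.restrict Hh (IsIrrCharacter.isCharacter (tripleRep_isIrrCharacter M ρ))
  have hdecomp := exists_mul_range_of_sup_eq_top M ρ H hsup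
  have hsupL : (tripleEmb M ρ).range ⊔ Hh = ⊤ := by
    rw [eq_top_iff]
    intro x _
    obtain ⟨a', ha', l, hl, rfl⟩ := hdecomp x
    rw [sup_comm]
    apply Subgroup.mul_mem_sup _ hl
    rw [hHhdef]
    exact ha'
  have hQHirr : Cfsg.IsIrrCharacter Hh QH := by
    rw [hQHdef]
    exact restrict_irr_of_ker_sup (tripleEmb M ρ).range Hh hsupL ⟨Q, hQ⟩ hQker
  -- the inner product
  have hfrob : Cfsg.classInner ψ (fun t : H => χ t) = 1 := by
    rw [← frobenius_reciprocity H ψ χ hχcf, hind, classInner_irr_self hχ]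
  have hprodH : QH * ΨH = (fun t : H => χ t) ∘ fH := by
    funext y
    have h1 := congrFun hfac (y : tripleGroup M ρ)
    simp only [Function.comp_apply, Pi.mul_apply] at h1 ⊢
    rw [hQHdef, hΨHdef]
    simp only
    rw [← h1]
    rfl
  have hin1 : Cfsg.classInner (ψ ∘ fH) (QH * ΨH) = 1 := by
    rw [hprodH, classInner_comp_surjective fH hfH]
    exact hfrob
  have hin2 : Cfsg.classInner ((ψ ∘ fH) * fun y => conj (ΨH y)) QH ≠ 0 := by
    rw [classInner_mul_conj, hin1]
    exact one_ne_zero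
  -- degrees
  have hd0 : (d : ℂ) ≠ 0 := by
    haveI : Nontrivial (Fin d → ℂ) := irr_nontrivial ρ
    have h1 : 0 < finrank ℂ (Fin d → ℂ) := Module.finrank_pos
    rw [Module.finrank_fin_fun] at h1
    exact_mod_cast h1.ne'
  have hφ1 : ρ.character 1 = (d : ℂ) := by
    rw [Representation.char_one, Module.finrank_fin_fun]
  have hΨ1 : ΨH 1 = (d : ℂ) := by
    rw [hΨHdef]
    show (tripleRep M ρ).character ((1 : Hh) : tripleGroup M ρ) = (d : ℂ)
    rw [Subgroup.coe_one, Representation.char_one, Module.finrank_fin_fun]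
  have hdsq : (d : ℂ) * (d : ℂ) = (H.index : ℂ) := by
    have := degree_sq_eq_index H ψ χ hχ hind M hsup hinf ρ.character hφirr a hres
    rw [hφ1] at this
    exact this
  have hdegχ : χ 1 = Q 1 * (d : ℂ) := by
    have h1 := congrFun hfac 1
    simp only [Function.comp_apply, Pi.mul_apply, map_one] at h1
    rw [h1, Representation.char_one, Module.finrank_fin_fun]
  have hQ1 : Q 1 = (d : ℂ) * ψ 1 := by
    have h1 : χ 1 = (H.index : ℂ) * ψ 1 := by
      rw [← hind]
      exact indFun_apply_one H ψ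
    rw [hdegχ, ← hdsq] at h1
    have h2 : Q 1 * (d : ℂ) = ((d : ℂ) * ψ 1) * (d : ℂ) := by
      rw [h1]
      ring
    exact mul_right_cancel₀ hd0 h2
  have hprodc : Cfsg.IsCharacter Hh ((ψ ∘ fH) * fun y => conj (ΨH y)) :=
    IsCharacter.mul hψ'c (isCharacter_conj hΨHc)
  have heq : ((ψ ∘ fH) * fun y => conj (ΨH y)) = QH := by
    apply eq_of_constituent_of_degree hprodc hQHirr hin2
    simp only [Pi.mul_apply, Function.comp_apply, map_one]
    rw [hΨ1, hQHdef]
    show ψ 1 * conj (d : ℂ) = Q ((1 : Hh) : tripleGroup M ρ)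
    rw [Subgroup.coe_one, hQ1, Complex.conj_natCast]
    ring
  have hΨHirr : Cfsg.IsIrrCharacter Hh ΨH := by
    apply irr_of_mul_conj_irr hψ'c hΨHc
    rw [heq]
    exact hQHirr
  -- the normal subgroups of the preimage
  haveI hKHn : (K.subgroupOf H).Normal := Subgroup.Normal.subgroupOf hK H
  obtain ⟨Y, hYdef⟩ : ∃ Y : Subgroup Hh, Y = (K.subgroupOf H).comap fH := ⟨_, rfl⟩
  obtain ⟨ZY, hZYdef⟩ : ∃ ZY : Subgroup Hh, ZY = (M.subgroupOf H).comap fH := ⟨_, rfl⟩
  haveI hYn : Y.Normal := by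
    rw [hYdef]
    exact Subgroup.Normal.comap hKHn fH
  have hmemY : ∀ y : Hh, y ∈ Y ↔ tripleProj M ρ (y : tripleGroup M ρ) ∈ K := by
    intro y
    rw [hYdef, Subgroup.mem_comap, Subgroup.mem_subgroupOf]
    rfl
  have hmemZY : ∀ y : Hh, y ∈ ZY ↔ tripleProj M ρ (y : tripleGroup M ρ) ∈ M := by
    intro y
    rw [hZYdef, Subgroup.mem_comap, Subgroup.mem_subgroupOf]
    rfl
  have hcen : ZY ≤ Subgroup.center Hh := by
    intro y hy
    have hyM := (hmemZY y).mp hy
    have hyH := (hmemHh y).mp y.2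
    have hyc := mem_center_of_tripleProj_mem M ρ (y : tripleGroup M ρ) hyM (hinf ⟨hyM, hyH⟩)
    rw [Subgroup.mem_center_iff] at hyc ⊢
    intro x
    apply Subtype.ext
    exact hyc (x : tripleGroup M ρ)
  have hrelY : ZY.relIndex Y = q ^ j := by
    rw [hZYdef, Subgroup.relIndex_comap, hYdef,
      Subgroup.map_comap_eq_self_of_surjective hfH, ← Subgroup.inf_subgroupOf_right K H,
      Subgroup.relIndex_subgroupOf inf_le_right]
    exact hrel
  have hdegΨ : ΨH 1 = ((p ^ i : ℕ) : ℂ) := by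
    rw [hΨ1, hdeg]
  rcases core_dichotomy ΨH hΨHirr Y ZY hcen hp hq hpq i j hdegΨ hrelY with hnorm | hex
  · -- the scalar branch
    intro h hh m
    obtain ⟨x, rfl⟩ := hsurj h
    have hxH : x ∈ Hh := (hmemHh x).mpr hh.2
    have hxY : (⟨x, hxH⟩ : Hh) ∈ Y := (hmemY _).mpr hh.1
    have h1 := hnorm ⟨x, hxH⟩ hxY
    rw [hΨ1, hΨHdef] at h1
    have h2 : ‖(tripleRep M ρ).character x‖ = (d : ℝ) := by
      have h3 : ‖(tripleRep M ρ).character x‖ = ‖(d : ℂ)‖ := h1
      rw [h3, Complex.norm_natCast]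
    exact rep_cj_eq_of_norm_eq M ρ x h2 m
  · -- the induced branch
    exfalso
    obtain ⟨T, hT, hYT, Ψ₁, hΨ₁, hindΨ⟩ := hex
    haveI : Fintype T := Fintype.ofFinite _
    obtain ⟨γ, hγdef⟩ : ∃ γ : T → ℂ, γ = fun t : T => (ψ ∘ fH) t * conj (Ψ₁ t) := ⟨_, rfl⟩
    have hQHeq : Cfsg.indFun T γ = QH := by
      rw [hγdef, ← mul_conj_indFun T Ψ₁ (ψ ∘ fH) (IsCharacter.isClassFunction hψ'c), hindΨ]
      exact heq
    have hγc : Cfsg.IsCharacter T γ := by
      rw [hγdef]
      exact IsCharacter.mul (IsCharacter.restrict T hψ'c)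
        (isCharacter_conj (IsIrrCharacter.isCharacter hΨ₁))
    have hγ : Cfsg.IsIrrCharacter T γ := by
      apply irr_of_indFun_irr T hγc
      rw [hQHeq]
      exact hQHirr
    have hidxM : (M.comap (tripleProj M ρ)).index < n := by
      rw [Subgroup.index_comap_of_surjective M hsurj]
      exact hidx
    have hf : ∀ g : tripleGroup M ρ, ∃ a' : Hh, ∃ l ∈ (tripleEmb M ρ).range,
        g = Hh.subtype a' * l := by
      intro g
      obtain ⟨a', ha', l, hl, rfl⟩ := hdecomp g
      rw [← hHhdef] at ha'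
      exact ⟨⟨a', ha'⟩, l, hl, rfl⟩
    have hkerT : ∀ a' : Hh, Hh.subtype a' ∈ (tripleEmb M ρ).range → a' ∈ T := by
      intro a' ha'
      apply hYT
      rw [hmemY]
      obtain ⟨m, hm⟩ := ha'
      have h1 : tripleProj M ρ (a' : tripleGroup M ρ) = (m : G) := by
        have h2 : (a' : tripleGroup M ρ) = tripleEmb M ρ m := hm.symm
        rw [h2, tripleProj_tripleEmb]
      rw [h1]
      exact hMK m.2
    have hindγ : Cfsg.indFun T γ = Q ∘ Hh.subtype := by
      rw [hQHeq, hQHdef]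
      rfl
    exact descend_via IH (tripleEmb M ρ).range (M.comap (tripleProj M ρ)) (comap_central_mod M ρ)
      hidxM Q hQ hQker hQqp Hh.subtype hf T hT hkerT γ hγ hindγ

end Cfsg.Agent.Helper6.BergerThm
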