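import Mathlib
import Cfsg.Prelude.Def_Characters
import Cfsg.Agent.Helper6.BergerM
import Cfsg.Agent.Helper6.BergerC

/-!
# Berger's theorem: the case of a central core
-/

set_option autoImplicit false
set_option linter.style.haveILetI false

namespace Cfsg.Agent.Helper6.BergerThm

open Cfsg.Agent.Helper6
open Module
open scoped ComplexConjugate

universe u

variable {G : Type u} [Group G]

set_option maxHeartbeats 1600000 in
/-- **the central core case**: a quasi-primitive character of a solvable group is not induced from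
a maximal subgroup whose core is the centre -/
theorem false_of_core_eq_center {n : ℕ} (IH : BergerIH.{u} n) [Fintype G]
    (hsol : Group.IsSolvable G) (χ : G → ℂ) (hχ : Cfsg.IsIrrCharacter G χ)
    (hqp : QuasiPrimOver ⊥ χ) (H : Subgroup G) (hmax : IsCoatom H) (ψ : H → ℂ)
    (hψ : Cfsg.IsIrrCharacter H ψ) (hind : Cfsg.indFun H ψ = χ)
    (hcore : H.normalCore = Subgroup.center G) (hn : (Subgroup.center G).index = n) : False := by
  classical
  haveI := hsol
  have hCH : H.normalCore ≤ H := Subgroup.normalCore_le H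
  have hHtop : H ≠ ⊤ := hmax.1
  have hCtop : H.normalCore ≠ ⊤ := by
    intro h
    apply hHtop
    rw [eq_top_iff, ← h]
    exact hCH
  have hsolC : Group.IsSolvable (G ⧸ H.normalCore) := inferInstance
  obtain ⟨M, hMn, hCM, hmin⟩ := exists_minimal_normal_over H.normalCore hCtop
  haveI := hMn
  have hab := commutator_le_of_minimal_over H.normalCore M hCM hmin hsolC
  obtain ⟨p, hp, n₁, hpn⟩ := relIndex_eq_prime_pow_of_minimal_over H.normalCore M hCM hmin hab
  have hMH : ¬ M ≤ H := by
    intro h
    have : M ≤ H.normalCore := Subgroup.normal_le_normalCore.mpr h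
    exact absurd this (not_le_of_gt hCM)
  have hsup : M ⊔ H = ⊤ := by
    apply hmax.2
    apply lt_of_le_of_ne le_sup_right
    intro h
    apply hMH
    rw [h]
    exact le_sup_left
  have hinf : M ⊓ H = H.normalCore := inf_eq_normalCore_of_abelian M H hsup hCM.le hab
  have hidx : H.index = p ^ n₁ := by
    rw [index_eq_relIndex_inf_of_sup_eq_top M H hsup, hinf, hpn]
  have hinf' : M ⊓ H ≤ Subgroup.center G := by
    rw [hinf, hcore]
  have hidx1 : H.index ≠ 1 := by
    intro h
    exact hHtop (Subgroup.index_eq_one.mp h)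
  -- the index of `M`
  have hMidx : M.index < n := by
    have h1 := Subgroup.relIndex_mul_index hCM.le
    rw [hcore] at h1
    rw [hn] at h1
    have h2 : H.normalCore.relIndex M ≠ 1 := by
      intro h
      exact absurd (Subgroup.relIndex_eq_one.mp h) (not_le_of_gt hCM)
    rw [hcore] at h2
    have h3 : (Subgroup.center G).relIndex M ≠ 0 := by
      intro h
      rw [h, zero_mul] at h1
      have h4 : (Subgroup.center G).index ≠ 0 := Subgroup.index_ne_zero_of_finite
      rw [hn] at h4
      exact h4 h1.symm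
    have h5 : M.index ≠ 0 := Subgroup.index_ne_zero_of_finite
    have h6 : 2 ≤ (Subgroup.center G).relIndex M := by omega
    calc M.index < 2 * M.index := by omega
      _ ≤ (Subgroup.center G).relIndex M * M.index := Nat.mul_le_mul_right _ h6
      _ = n := h1
  -- characters
  haveI : Fintype H := Fintype.ofFinite _
  haveI : Fintype M := Fintype.ofFinite _
  have hχc := IsIrrCharacter.isCharacter hχ
  have hχ1ne : χ 1 ≠ 0 := IsIrrCharacter.apply_one_ne_zero hχ
  obtain ⟨φ, a, hφ, hres⟩ := hqp M hMn bot_le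
  obtain ⟨d, ρ, hirr, rfl⟩ := hφ
  haveI := hirr
  have hφirr : Cfsg.IsIrrCharacter M ρ.character := ⟨d, ρ, hirr, rfl⟩
  have hφ1 : ρ.character 1 = (d : ℂ) := by
    rw [Representation.char_one, Module.finrank_fin_fun]
  have hdsq := degree_sq_eq_index H ψ χ hχ hind M hsup hinf' ρ.character hφirr a hres
  rw [hφ1] at hdsq
  have hdd : d * d = H.index := by exact_mod_cast hdsq
  obtain ⟨i, -, hi⟩ : ∃ i, i ≤ n₁ ∧ d = p ^ i := by
    apply (Nat.dvd_prime_pow hp).mp
    rw [← hidx, ← hdd]
    exact ⟨d, rfl⟩
  have hχ1 : χ 1 = (H.index : ℂ) * ψ 1 := by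
    rw [← hind]
    exact indFun_apply_one H ψ
  -- the case `M = ⊤`
  have hMtop : M ≠ ⊤ := by
    intro hM
    have h1 := classInner_restrict_of_eq_top M hM χ
    rw [classInner_irr_self hχ, hres, classInner_smul_left, classInner_smul_right,
      classInner_irr_self hφirr, Complex.conj_natCast, mul_one] at h1
    have h2 : a * a = 1 := by exact_mod_cast h1
    have ha1 : a = 1 := by
      rcases Nat.eq_zero_or_pos a with h | h
      · rw [h] at h2
        omega
      · nlinarith
    obtain ⟨c, hc0, hc⟩ := IsIrrCharacter.apply_one_pos hψ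
    have h3 := congrFun hres 1
    simp only [Pi.smul_apply, smul_eq_mul] at h3
    have h4 : χ 1 = (a : ℂ) * ρ.character 1 := h3
    rw [ha1, Nat.cast_one, one_mul, hφ1, hχ1, hc, ← hdd] at h4
    have h5 : d * d * c = d := by exact_mod_cast h4
    have hd0 : 0 < d := by
      rcases Nat.eq_zero_or_pos d with h | h
      · rw [h] at hdd
        exact absurd hdd.symm Subgroup.index_ne_zero_of_finite
      · exact h
    have h6 : d * c = 1 := by
      have h7 : d * (d * c) = d * 1 := by
        rw [mul_one, ← mul_assoc]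
        exact h5
      exact Nat.eq_of_mul_eq_mul_left hd0 h7
    have h8 : d = 1 := Nat.eq_one_of_mul_eq_one_right h6
    rw [h8] at hdd
    exact hidx1 hdd.symm
  have hsolM : Group.IsSolvable (G ⧸ M) := inferInstance
  obtain ⟨K, hKn, hMK, hminK⟩ := exists_minimal_normal_over M hMtop
  haveI := hKn
  have habK := commutator_le_of_minimal_over M K hMK hminK hsolM
  obtain ⟨q, hq, k, hqk⟩ := relIndex_eq_prime_pow_of_minimal_over M K hMK hminK habK
  have hKM : ¬ K ≤ M := not_le_of_gt hMK
  have hqp' : q ≠ p := by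
    rintro rfl
    have hcard : H.normalCore.relIndex K = q ^ (n₁ + k) := by
      rw [← Subgroup.relIndex_mul_relIndex _ _ _ hCM.le hMK.le, hpn, hqk, pow_add]
    have hcomm := commutator_mem_of_pgroup_over H.normalCore M K hCM hMK.le hmin hq hcard
    apply hKM
    apply le_of_normalizes_inf M K H hsup hCM.le hMK.le
    intro m hm d' hd'
    have h1 := hCH (hcomm m hm d' hd'.1)
    have h2 : m * d' * m⁻¹ = (m * d' * m⁻¹ * d'⁻¹) * d' := by group
    rw [h2]
    exact H.mul_mem h1 hd'.2
  have hKdec : K = M ⊔ (K ⊓ H) := by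
    apply le_antisymm
    · intro x hx
      obtain ⟨m, hm, h, hh, rfl⟩ := exists_mul_of_sup_eq_top M H hsup x
      apply Subgroup.mul_mem_sup hm
      refine ⟨?_, hh⟩
      have h1 : h = m⁻¹ * (m * h) := by group
      rw [h1]
      exact K.mul_mem (K.inv_mem (hMK.le hm)) hx
    · exact sup_le hMK.le inf_le_left
  have hrel : M.relIndex (K ⊓ H) = q ^ k := by
    rw [← hqk]
    conv_rhs => rw [hKdec]
    rw [Subgroup.relIndex_sup_left]
  have hfix := rep_invariant_of_fully_ramified M ρ IH hsol χ hχ hqp H ψ hψ hind hsup hinf' hMidx a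
    hres K hMK.le hp hq hqp' i k hi hrel
  -- the contradiction
  have hZ₀ : H.normalCore.subgroupOf M ≤ Subgroup.center M := by
    intro z hz
    have hzc : (z : G) ∈ Subgroup.center G := by
      rw [← hcore]
      exact Subgroup.mem_subgroupOf.mp hz
    rw [Subgroup.mem_center_iff]
    intro x
    apply Subtype.ext
    exact Subgroup.mem_center_iff.mp hzc (x : G)
  have hdegZ : ρ.character 1 * ρ.character 1 = ((H.normalCore.subgroupOf M).index : ℂ) := by
    rw [hφ1]
    have h1 : (H.normalCore.subgroupOf M).index = H.index := by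
      rw [hidx, ← hpn]
      rfl
    rw [h1]
    exact hdsq
  have hd0 : (d : ℂ) ≠ 0 := by
    intro h
    rw [h, zero_mul] at hdsq
    have : (H.index : ℂ) ≠ 0 := by
      exact_mod_cast (Subgroup.index_ne_zero_of_finite : H.index ≠ 0)
    exact this hdsq.symm
  apply hKM
  apply le_of_normalizes_inf M K H hsup hCM.le hMK.le
  intro m hm d' hd'
  have hinvm : (⟨m, hm⟩ : M)⁻¹ = ⟨m⁻¹, M.inv_mem hm⟩ := rfl
  obtain ⟨x, hx⟩ : ∃ x : M, x = ⟨m, hm⟩ * cj M d' (⟨m, hm⟩ : M)⁻¹ := ⟨_, rfl⟩
  have hxval : (x : G) = m * d' * m⁻¹ * d'⁻¹ := by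
    rw [hx]
    show m * (d' * m⁻¹ * d'⁻¹) = m * d' * m⁻¹ * d'⁻¹
    group
  have hρx : ρ x = 1 := by
    rw [hx, map_mul, hfix d' hd' _, ← map_mul, mul_inv_cancel, map_one]
  have hφx : ρ.character x = (d : ℂ) := by
    unfold Representation.character
    rw [hρx]
    have h1 : (1 : Module.End ℂ (Fin d → ℂ)) = LinearMap.id := rfl
    rw [h1, LinearMap.trace_id, Module.finrank_fin_fun]
  have hxZ : x ∈ H.normalCore.subgroupOf M := by
    by_contra hnot
    have h1 := vanish_off_of_fully_ramified hφirr (H.normalCore.subgroupOf M) hZ₀ hdegZ x hnot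
    rw [hφx] at h1
    exact hd0 h1
  have h1 : m * d' * m⁻¹ * d'⁻¹ ∈ H := by
    rw [← hxval]
    exact hCH (Subgroup.mem_subgroupOf.mp hxZ)
  have h2 : m * d' * m⁻¹ = (m * d' * m⁻¹ * d'⁻¹) * d' := by group
  rw [h2]
  exact H.mul_mem h1 hd'.2

end Cfsg.Agent.Helper6.BergerThm
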