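import Mathlib
import Cfsg.Prelude.Def_Characters
import Cfsg.Agent.Helper6.BergerN
import Cfsg.Agent.Helper6.IndFun2

/-!
# Berger's theorem: quasi-primitive characters of solvable groups are primitive
-/

set_option autoImplicit false
set_option linter.style.haveILetI false

namespace Cfsg.Agent.Helper6.BergerThm

open Cfsg.Agent.Helper6
open scoped ComplexConjugate

universe u

/-- **Berger's theorem**, by induction on the index of the centre -/
theorem berger_main (n : ℕ) : ∀ (G : Type u) [Group G] [Fintype G], Group.IsSolvable G →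
    (Subgroup.center G).index = n → ∀ χ : G → ℂ, Cfsg.IsIrrCharacter G χ → QuasiPrimOver ⊥ χ →
    ∀ K : Subgroup G, K ≠ ⊤ → ∀ ψ : K → ℂ, Cfsg.IsCharacter K ψ → Cfsg.indFun K ψ ≠ χ := by
  induction n using Nat.strong_induction_on with
  | _ n ih =>
  intro G _ _ hsol hn χ hχ hqp K hK ψ hψc hind
  classical
  have IH : BergerIH.{u} n := by
    intro Γ _ _ hΓsol hΓidx χ' hχ' hqp' T hT γ hγ
    exact ih _ hΓidx Γ hΓsol rfl χ' hχ' hqp' T hT γ (IsIrrCharacter.isCharacter hγ)
  obtain ⟨H, hmax, hKH⟩ := (eq_top_or_exists_le_coatom K).resolve_left hK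
  haveI : Fintype H := Fintype.ofFinite _
  haveI : Fintype K := Fintype.ofFinite _
  obtain ⟨ψ₀, hψ₀def⟩ : ∃ ψ₀ : K.subgroupOf H → ℂ,
      ψ₀ = fun x : K.subgroupOf H => ψ ⟨(x : H), Subgroup.mem_subgroupOf.mp x.2⟩ := ⟨_, rfl⟩
  have hψ₀c : Cfsg.IsCharacter (K.subgroupOf H) ψ₀ := by
    rw [hψ₀def]
    exact IsCharacter.comp_hom (Subgroup.subgroupOfEquivOfLe hKH).toMonoidHom hψc
  obtain ⟨ψ₁, hψ₁def⟩ : ∃ ψ₁ : H → ℂ, ψ₁ = Cfsg.indFun (K.subgroupOf H) ψ₀ := ⟨_, rfl⟩
  have hind₁ : Cfsg.indFun H ψ₁ = χ := by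
    rw [← hind, hψ₁def, hψ₀def]
    exact indFun_trans K H hKH ψ
  have hψ₁c : Cfsg.IsCharacter H ψ₁ := by
    rw [hψ₁def]
    exact isCharacter_indFun _ _ hψ₀c
  have hχ' : Cfsg.IsIrrCharacter G (Cfsg.indFun H ψ₁) := by
    rw [hind₁]
    exact hχ
  have hψ₁ : Cfsg.IsIrrCharacter H ψ₁ := irr_of_indFun_irr H hψ₁c hχ'
  have hZH : Subgroup.center G ≤ H := center_le_of_indFun_irr H ψ₁ hχ'
  have hZcore : Subgroup.center G ≤ H.normalCore := Subgroup.normal_le_normalCore.mpr hZH
  by_cases hcore : H.normalCore = Subgroup.center G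
  · exact false_of_core_eq_center IH hsol χ hχ hqp H hmax ψ₁ hψ₁ hind₁ hcore hn
  · have hlt : Subgroup.center G < H.normalCore := lt_of_le_of_ne hZcore (Ne.symm hcore)
    have hidx : H.normalCore.index < n := by
      have h1 := Subgroup.relIndex_mul_index hZcore
      rw [hn] at h1
      have h2 : (Subgroup.center G).relIndex H.normalCore ≠ 1 := by
        intro h
        exact absurd (Subgroup.relIndex_eq_one.mp h) (not_le_of_gt hlt)
      have h3 : (Subgroup.center G).relIndex H.normalCore ≠ 0 := by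
        intro h
        rw [h, zero_mul] at h1
        have h4 : (Subgroup.center G).index ≠ 0 := Subgroup.index_ne_zero_of_finite
        rw [hn] at h4
        exact h4 h1.symm
      have h5 : H.normalCore.index ≠ 0 := Subgroup.index_ne_zero_of_finite
      have h6 : 2 ≤ (Subgroup.center G).relIndex H.normalCore := by omega
      calc H.normalCore.index < 2 * H.normalCore.index := by omega
        _ ≤ (Subgroup.center G).relIndex H.normalCore * H.normalCore.index :=
          Nat.mul_le_mul_right _ h6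
        _ = n := h1
    exact false_of_normal_le IH hsol χ hχ hqp H hmax.1 ψ₁ hψ₁ hind₁ H.normalCore
      (Subgroup.normalCore_le H) hidx

/-- **Berger's theorem**: a quasi-primitive irreducible character of a finite solvable group is not
induced from a proper subgroup -/
theorem berger {G : Type u} [Group G] [Fintype G] (hsol : Group.IsSolvable G) (χ : G → ℂ)
    (hχ : Cfsg.IsIrrCharacter G χ)
    (hqp : ∀ (N : Subgroup G), N.Normal → ∃ (ϑ : N → ℂ) (e : ℕ), Cfsg.IsIrrCharacter N ϑ ∧
      (fun n : N => χ n) = (e : ℂ) • ϑ)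
    (K : Subgroup G) (hK : K ≠ ⊤) (ψ : K → ℂ) (hψ : Cfsg.IsCharacter K ψ) :
    Cfsg.indFun K ψ ≠ χ :=
  berger_main _ G hsol rfl χ hχ (fun X hX _ => hqp X hX) K hK ψ hψ

end Cfsg.Agent.Helper6.BergerThm
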