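import Mathlib
import Cfsg.Prelude.Def_Blocks
import Cfsg.Agent.Helper6.GaloisConj
import Cfsg.Agent.Helper6.Induced
import Cfsg.Agent.Helper6.IrrBasis
import Cfsg.Agent.Helper6.Linear
import Cfsg.Agent.Helper6.Codegree
import Cfsg.Agent.Helper6.PowCongr
import Cfsg.Agent.Helper6.SchurB
import Cfsg.Agent.Helper6.BlockPart
import Cfsg.Agent.Helper6.ClassInner

/-!
# Blichfeldt's theorem: character-theoretic part

* `Blich.twist_dichotomy`: if no element of `G` has order divisible by `p q`, an irreducible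
  character is fixed by every "`p`-twist" `g ↦ g ^ k` or by every "`q`-twist".
* `Blich.exists_commuting_of_faithful`: a group with a faithful character of degree `≤ p - 2, q - 2`
  whose order is divisible by the distinct primes `p`, `q` has commuting elements of orders `p`, `q`.
* `Blich.comm_of_large_primes`: subgroups all of whose prime divisors exceed the degree are abelian.
-/

set_option autoImplicit false
set_option linter.style.haveILetI false

namespace Cfsg.Agent.Helper6.Blich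

open Cfsg.Agent.Helper6
open scoped ComplexConjugate

universe u

variable {G : Type u} [Group G]

/-- a power map exponent that is `1` on `p`-regular elements and `j` on elements of order `p` -/
theorem exists_twist (N p j : ℕ) (hp : p.Prime) (hN : N ≠ 0) (hj : ¬ p ∣ j) :
    ∃ k : ℕ, k.Coprime N ∧ k ≡ 1 [MOD N / p ^ N.factorization p] ∧
      k ≡ j [MOD p ^ N.factorization p] := by
  have hNm : p ^ N.factorization p * (N / p ^ N.factorization p) = N :=
    Nat.ordProj_mul_ordCompl_eq_self N p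
  have hcop : (p ^ N.factorization p).Coprime (N / p ^ N.factorization p) :=
    (Nat.coprime_ordCompl hp hN).pow_left _
  obtain ⟨k, hk1, hk2⟩ := Nat.chineseRemainder hcop j 1
  refine ⟨k, ?_, hk2, hk1⟩
  rw [← hNm]
  apply Nat.Coprime.mul_right
  · by_cases ha0 : N.factorization p = 0
    · simp [ha0]
    · apply Nat.Coprime.pow_right
      rw [Nat.coprime_comm, Nat.Prime.coprime_iff_not_dvd hp]
      intro hpk
      apply hj
      have h1 : k ≡ j [MOD p] := hk1.of_dvd (dvd_pow_self p ha0)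
      exact (Nat.ModEq.dvd_iff h1 (dvd_refl p)).mp hpk
  · have h2 := hk2.gcd_eq
    unfold Nat.Coprime
    rw [h2]
    simp

theorem pow_eq_self_of_regular [Finite G] {p : ℕ} (hp : p.Prime) (g : G) (hg : ¬ p ∣ orderOf g)
    (k : ℕ) (hk : k ≡ 1 [MOD Nat.card G / p ^ (Nat.card G).factorization p]) : g ^ k = g := by
  have h1 : orderOf g ∣ Nat.card G := orderOf_dvd_natCard g
  have hNm := Nat.ordProj_mul_ordCompl_eq_self (Nat.card G) p
  have hcop : (orderOf g).Coprime (p ^ (Nat.card G).factorization p) :=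
    Nat.Coprime.pow_right _ (Nat.coprime_comm.mp ((Nat.Prime.coprime_iff_not_dvd hp).mpr hg))
  have h2 : orderOf g ∣ Nat.card G / p ^ (Nat.card G).factorization p := by
    rw [← hNm] at h1
    exact hcop.dvd_of_dvd_mul_left h1
  have h3 : k ≡ 1 [MOD orderOf g] := hk.of_dvd h2
  have h4 := (pow_eq_pow_iff_modEq (x := g)).mpr h3
  simpa using h4

theorem pow_eq_pow_of_order_p [Finite G] {p : ℕ} (hp : p.Prime) (x : G) (hx : orderOf x = p)
    (k j : ℕ) (hk : k ≡ j [MOD p ^ (Nat.card G).factorization p]) : x ^ k = x ^ j := by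
  have hdvd : p ∣ Nat.card G := hx ▸ orderOf_dvd_natCard x
  have ha : (Nat.card G).factorization p ≠ 0 := by
    have := hp.factorization_pos_of_dvd Nat.card_pos.ne' hdvd
    omega
  have h1 : k ≡ j [MOD orderOf x] := by
    rw [hx]
    exact hk.of_dvd (dvd_pow_self p ha)
  exact pow_eq_pow_iff_modEq.mpr h1

/-- **Key lemma.** If no element has order divisible by `p q`, every irreducible character is
fixed by a given `p`-twist or by a given `q`-twist. -/
theorem twist_dichotomy [Fintype G] (p q : ℕ)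
    (hno : ∀ g : G, p ∣ orderOf g → q ∣ orderOf g → False)
    {φ : G → ℂ} (hφ : Cfsg.IsIrrCharacter G φ) (k l : ℕ)
    (hk : k.Coprime (Nat.card G)) (hl : l.Coprime (Nat.card G))
    (hkp : ∀ g : G, ¬ p ∣ orderOf g → g ^ k = g) (hlq : ∀ g : G, ¬ q ∣ orderOf g → g ^ l = g) :
    (fun g => φ (g ^ k)) = φ ∨ (fun g => φ (g ^ l)) = φ := by
  by_contra hcon
  rw [not_or] at hcon
  obtain ⟨h1, h2⟩ := hcon
  have hφk := IsIrrCharacter.comp_pow hφ k hk
  have hφl := IsIrrCharacter.comp_pow hφ l hl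
  have hzero : Cfsg.classInner (φ - fun g => φ (g ^ k)) (φ - fun g => φ (g ^ l)) = 0 := by
    rw [classInner_def, Finset.sum_eq_zero, mul_zero]
    intro g _
    by_cases hp : p ∣ orderOf g
    · have hq : ¬ q ∣ orderOf g := fun hq => hno g hp hq
      simp [Pi.sub_apply, hlq g hq]
    · simp [Pi.sub_apply, hkp g hp]
  rw [classInner_sub_left, classInner_sub_right, classInner_sub_right,
    classInner_irr_self hφ, classInner_irr_ne hφ hφl (Ne.symm h2),
    classInner_irr_ne hφk hφ h1] at hzero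
  by_cases heq : (fun g => φ (g ^ k)) = (fun g => φ (g ^ l))
  · rw [heq, classInner_irr_self hφl] at hzero
    norm_num at hzero
  · rw [classInner_irr_ne hφk hφl heq] at hzero
    norm_num at hzero

/-- a character of degree `≤ p - 2` that is constant on the generators of a subgroup of order `p`
is trivial on that subgroup -/
theorem apply_eq_degree_of_const [Finite G] {p : ℕ} (hp : p.Prime) (x : G) (hx : orderOf x = p)
    {φ : G → ℂ} (hφ : Cfsg.IsCharacter G φ) (hdeg : Cfsg.charDegree φ + 2 ≤ p)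
    (hconst : ∀ j : ℕ, ¬ p ∣ j → φ (x ^ j) = φ x) : φ x = φ 1 := by
  classical
  haveI : Fact p.Prime := ⟨hp⟩
  set P : Subgroup G := Subgroup.zpowers x with hPdef
  haveI : Fintype P := Fintype.ofFinite P
  have hP : Nat.card P = p := by rw [hPdef, Nat.card_zpowers, hx]
  have hres : Cfsg.IsCharacter P (fun u : P => φ u) := IsCharacter.restrict P hφ
  have htriv : Cfsg.IsIrrCharacter P (fun _ : P => (1 : ℂ)) := isIrrCharacter_one
  obtain ⟨n, hn⟩ := classInner_char_char_nat hres (IsIrrCharacter.isCharacter htriv)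
  rw [Cfsg.classInner, hP] at hn
  have hp0 : (p : ℂ) ≠ 0 := by exact_mod_cast hp.ne_zero
  have hsum : ∑ g : P, φ g = (p : ℂ) * n := by
    have : ∑ g : P, φ g * conj (1 : ℂ) = (p : ℂ) * n := by
      rw [← hn, ← mul_assoc, mul_inv_cancel₀ hp0, one_mul]
    simpa using this
  have hsplit : ∑ g : P, φ g = φ 1 + ∑ g ∈ (Finset.univ.erase (1 : P)), φ g := by
    rw [← Finset.add_sum_erase Finset.univ _ (Finset.mem_univ (1 : P))]
    simp
  have hval : ∀ g : P, g ≠ 1 → φ g = φ x := by
    intro g hg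
    obtain ⟨j, hj⟩ := (mem_powers_iff_mem_zpowers (x := x) (y := (g : G))).mpr g.2
    have hj' : x ^ j = (g : G) := hj
    rw [← hj']
    apply hconst
    intro hpj
    apply hg
    apply Subtype.ext
    rw [← hj']
    obtain ⟨c, rfl⟩ := hpj
    rw [pow_mul, ← hx, pow_orderOf_eq_one, one_pow]
    rfl
  have hrest : ∑ g ∈ (Finset.univ.erase (1 : P)), φ g = ((p : ℂ) - 1) * φ x := by
    rw [Finset.sum_congr rfl (fun (g : P) hg => hval g (Finset.mem_erase.mp hg).1)]
    rw [Finset.sum_const, Finset.card_erase_of_mem (Finset.mem_univ _), Finset.card_univ,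
      ← Nat.card_eq_fintype_card, hP, nsmul_eq_mul]
    have : 1 ≤ p := hp.one_le
    push_cast [Nat.cast_sub this]
    ring
  have hdeg' := charDegree_cast_of_isCharacter hφ
  set d := Cfsg.charDegree φ with hd
  -- `p n = d + (p-1) c`
  have hmain : (p : ℂ) * n = d + ((p : ℂ) - 1) * φ x := by
    rw [← hsum, hsplit, hrest, hdeg']
  have hp1 : ((p : ℂ) - 1) ≠ 0 := by
    have : (1 : ℂ) = ((1 : ℕ) : ℂ) := by simp
    rw [this, sub_ne_zero]
    exact_mod_cast hp.one_lt.ne'
  -- `φ x` is rational, hence an integer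
  have hrat : φ x = (((p : ℚ) * n - d) / ((p : ℚ) - 1) : ℚ) := by
    push_cast
    rw [eq_div_iff hp1]
    linear_combination -hmain
  obtain ⟨a, ha⟩ := exists_int_of_rat_isIntegral (IsCharacter.isIntegral_value hφ x) _ hrat
  -- integer equation `p n = d + (p-1) a`
  have hint : (p : ℤ) * n = d + ((p : ℤ) - 1) * a := by
    have : ((( (p : ℤ) * n : ℤ)) : ℂ) = (((d : ℤ) + ((p : ℤ) - 1) * a : ℤ) : ℂ) := by
      push_cast
      rw [← ha]
      exact hmain
    exact_mod_cast this
  -- `a ≤ d`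
  have hle : a ≤ d := by
    have h1 := IsCharacter.norm_le_norm_one hφ x
    rw [← hdeg', ha] at h1
    have h2 : ‖((a : ℤ) : ℂ)‖ = |(a : ℝ)| := by
      rw [← Complex.ofReal_intCast, Complex.norm_real, Real.norm_eq_abs]
    have h3 : ‖((d : ℕ) : ℂ)‖ = (d : ℝ) := by
      rw [← Complex.ofReal_natCast, Complex.norm_real, Real.norm_eq_abs]
      exact abs_of_nonneg (Nat.cast_nonneg d)
    rw [h2, h3] at h1
    have h4 : (a : ℝ) ≤ d := le_trans (le_abs_self _) h1
    exact_mod_cast h4
  -- conclude `a = d`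
  have had : a = d := by
    by_contra hne
    have hlt : a < d := lt_of_le_of_ne hle hne
    -- `d - a = p (n - a)`, so `n - a ≥ 1`, and `n = d - (p-1)(n-a) ≥ 0`
    have h5 : (d : ℤ) - a = p * ((n : ℤ) - a) := by linarith
    have h6 : 1 ≤ (n : ℤ) - a := by
      by_contra hcon
      push Not at hcon
      have : (p : ℤ) * ((n : ℤ) - a) ≤ 0 :=
        mul_nonpos_of_nonneg_of_nonpos (by positivity) (by linarith)
      linarith
    have h7 : (n : ℤ) = d - ((p : ℤ) - 1) * ((n : ℤ) - a) := by linarith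
    have h8 : (0 : ℤ) ≤ n := by positivity
    have h9 : ((p : ℤ) - 1) * 1 ≤ ((p : ℤ) - 1) * ((n : ℤ) - a) := by
      apply mul_le_mul_of_nonneg_left h6
      have : (1 : ℤ) ≤ p := by exact_mod_cast hp.one_le
      linarith
    have h10 : (d : ℤ) + 2 ≤ p := by exact_mod_cast hdeg
    linarith
  rw [ha, had, ← hdeg']
  simp

/-- irreducible case: `x` or `y` lies in the kernel -/
theorem irr_ker_dichotomy [Finite G] {p q : ℕ} (hp : p.Prime) (hq : q.Prime)
    (hno : ∀ g : G, p ∣ orderOf g → q ∣ orderOf g → False)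
    {φ : G → ℂ} (hφ : Cfsg.IsIrrCharacter G φ) (hdp : Cfsg.charDegree φ + 2 ≤ p)
    (hdq : Cfsg.charDegree φ + 2 ≤ q) (x y : G) (hx : orderOf x = p) (hy : orderOf y = q) :
    φ x = φ 1 ∨ φ y = φ 1 := by
  classical
  haveI : Fintype G := Fintype.ofFinite G
  have hN : Nat.card G ≠ 0 := Nat.card_pos.ne'
  by_cases h : ∀ j : ℕ, ¬ p ∣ j → φ (x ^ j) = φ x
  · exact Or.inl (apply_eq_degree_of_const hp x hx (IsIrrCharacter.isCharacter hφ) hdp h)
  · right
    push Not at h
    obtain ⟨j, hj, hne⟩ := h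
    obtain ⟨k, hk, hk1, hk2⟩ := exists_twist (Nat.card G) p j hp hN hj
    have hkne : (fun g => φ (g ^ k)) ≠ φ := by
      intro heq
      apply hne
      have := congrFun heq x
      rw [pow_eq_pow_of_order_p hp x hx k j hk2] at this
      exact this
    apply apply_eq_degree_of_const hq y hy (IsIrrCharacter.isCharacter hφ) hdq
    intro j' hj'
    obtain ⟨l, hl, hl1, hl2⟩ := exists_twist (Nat.card G) q j' hq hN hj'
    have hdich := twist_dichotomy p q hno hφ k l hk hl
      (fun g hg => pow_eq_self_of_regular hp g hg k hk1)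
      (fun g hg => pow_eq_self_of_regular hq g hg l hl1)
    rcases hdich with h1 | h1
    · exact absurd h1 hkne
    · have := congrFun h1 y
      rw [pow_eq_pow_of_order_p hq y hy l j' hl2] at this
      exact this

/-- the commutator of `x` and `y` lies in the kernel of every character of small degree -/
theorem char_commutator_of_no_pq [Finite G] {p q : ℕ} (hp : p.Prime) (hq : q.Prime)
    (hno : ∀ g : G, p ∣ orderOf g → q ∣ orderOf g → False)
    (x y : G) (hx : orderOf x = p) (hy : orderOf y = q)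
    {χ : G → ℂ} (hχ : Cfsg.IsCharacter G χ) (hdp : Cfsg.charDegree χ + 2 ≤ p)
    (hdq : Cfsg.charDegree χ + 2 ≤ q) : χ (x * y * x⁻¹ * y⁻¹) = χ 1 := by
  have key : ∀ ψ : G → ℂ, ψ ∈ AddSubmonoid.closure {ψ : G → ℂ | Cfsg.IsIrrCharacter G ψ} →
      ∃ d : ℕ, ψ 1 = d ∧ (d + 2 ≤ p → d + 2 ≤ q → ψ (x * y * x⁻¹ * y⁻¹) = ψ 1) := by
    intro ψ hψ
    induction hψ using AddSubmonoid.closure_induction with
    | mem φ hφ =>
      have hφ' : Cfsg.IsIrrCharacter G φ := hφ
      obtain ⟨K, hKn, hK, hpos, hdeg, -⟩ := exists_kernel_data hφ'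
      refine ⟨Cfsg.charDegree φ, hdeg, fun h1 h2 => ?_⟩
      rw [← hK]
      rcases irr_ker_dichotomy hp hq hno hφ' h1 h2 x y hx hy with h | h
      · have hxK : x ∈ K := (hK x).mpr h
        have h3 : y * x⁻¹ * y⁻¹ ∈ K := hKn.conj_mem _ (K.inv_mem hxK) y
        have : x * y * x⁻¹ * y⁻¹ = x * (y * x⁻¹ * y⁻¹) := by group
        rw [this]
        exact K.mul_mem hxK h3
      · have hyK : y ∈ K := (hK y).mpr h
        have h3 : x * y * x⁻¹ ∈ K := hKn.conj_mem _ hyK x
        exact K.mul_mem h3 (K.inv_mem hyK)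
    | zero => exact ⟨0, by simp, fun _ _ => by simp⟩
    | add ψ₁ ψ₂ _ _ ih₁ ih₂ =>
      obtain ⟨d₁, hd₁, h₁⟩ := ih₁
      obtain ⟨d₂, hd₂, h₂⟩ := ih₂
      refine ⟨d₁ + d₂, by simp [hd₁, hd₂], fun hp' hq' => ?_⟩
      simp only [Pi.add_apply]
      rw [h₁ (by omega) (by omega), h₂ (by omega) (by omega)]
  obtain ⟨d, hd, h⟩ := key χ ((isCharacter_iff_mem_closure χ).mp hχ)
  have hd' : Cfsg.charDegree χ = d := by
    have := charDegree_cast_of_isCharacter hχ
    rw [hd] at this
    exact_mod_cast this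
  exact h (hd' ▸ hdp) (hd' ▸ hdq)

/-- **Existence of elements of order `p q`** (in the form of a commuting pair). -/
theorem exists_commuting_of_faithful [Finite G] {χ : G → ℂ} (hχ : Cfsg.IsCharacter G χ)
    (hfaith : ∀ g : G, χ g = χ 1 → g = 1) {p q : ℕ} (hp : p.Prime) (hq : q.Prime)
    (hdp : Cfsg.charDegree χ + 2 ≤ p) (hdq : Cfsg.charDegree χ + 2 ≤ q)
    (hpG : p ∣ Nat.card G) (hqG : q ∣ Nat.card G) :
    ∃ x y : G, orderOf x = p ∧ orderOf y = q ∧ x * y = y * x := by
  haveI : Fact p.Prime := ⟨hp⟩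
  haveI : Fact q.Prime := ⟨hq⟩
  by_cases hno : ∀ g : G, p ∣ orderOf g → q ∣ orderOf g → False
  · obtain ⟨x, hx⟩ := exists_prime_orderOf_dvd_card' p hpG
    obtain ⟨y, hy⟩ := exists_prime_orderOf_dvd_card' q hqG
    refine ⟨x, y, hx, hy, ?_⟩
    have h1 := char_commutator_of_no_pq hp hq hno x y hx hy hχ hdp hdq
    have h2 := hfaith _ h1
    have : x * y = (x * y * x⁻¹ * y⁻¹) * (y * x) := by group
    rw [this, h2, one_mul]
  · push Not at hno
    obtain ⟨g, hpg, hqg, -⟩ := hno
    have hg0 : orderOf g ≠ 0 := (orderOf_pos g).ne'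
    refine ⟨g ^ (orderOf g / p), g ^ (orderOf g / q), ?_, ?_, ?_⟩
    · exact orderOf_pow_orderOf_div hg0 hpg
    · exact orderOf_pow_orderOf_div hg0 hqg
    · rw [← pow_add, ← pow_add, add_comm]

/-- **Subgroups whose order only involves primes exceeding the degree are abelian.** -/
theorem comm_of_large_primes [Finite G] {χ : G → ℂ} (hχ : Cfsg.IsCharacter G χ)
    (hfaith : ∀ g : G, χ g = χ 1 → g = 1) (H : Subgroup G)
    (hH : ∀ q : ℕ, q.Prime → q ∣ Nat.card H → Cfsg.charDegree χ < q) :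
    ∀ a ∈ H, ∀ b ∈ H, a * b = b * a := by
  intro a ha b hb
  set n := Cfsg.charDegree χ with hn
  have hres : Cfsg.IsCharacter H (fun u : H => χ u) := IsCharacter.restrict H hχ
  set c : H := ⟨a, ha⟩ * ⟨b, hb⟩ * ⟨a, ha⟩⁻¹ * ⟨b, hb⟩⁻¹ with hc
  have key : ∀ ψ : H → ℂ, ψ ∈ AddSubmonoid.closure {ψ : H → ℂ | Cfsg.IsIrrCharacter H ψ} →
      ∃ d : ℕ, ψ 1 = d ∧ (d ≤ n → ψ c = ψ 1) := by
    intro ψ hψ
    induction hψ using AddSubmonoid.closure_induction with
    | mem φ hφ =>
      have hφ' : Cfsg.IsIrrCharacter H φ := hφ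
      obtain ⟨K, hKn, hK, hpos, hdeg, hdvd⟩ := exists_kernel_data hφ'
      refine ⟨Cfsg.charDegree φ, hdeg, fun h1 => ?_⟩
      have hd1 : Cfsg.charDegree φ = 1 := by
        by_contra hne
        obtain ⟨r, hr, hrd⟩ := Nat.exists_prime_and_dvd hne
        have h2 : r ∣ Nat.card H :=
          (hrd.trans hdvd).trans (Subgroup.index_dvd_card K)
        have h3 := hH r hr h2
        have h4 : r ≤ Cfsg.charDegree φ := Nat.le_of_dvd hpos hrd
        omega
      have h1' : φ 1 = 1 := by rw [hdeg, hd1]; simp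
      obtain ⟨lam, rfl⟩ := exists_hom_of_irr_degree_one hφ' h1'
      have : lam c = 1 := by
        rw [hc, map_mul, map_mul, map_mul, map_inv, map_inv,
          mul_right_comm (lam ⟨a, ha⟩) (lam ⟨b, hb⟩), mul_inv_cancel, one_mul, mul_inv_cancel]
      simp [this]
    | zero => exact ⟨0, by simp, fun _ => by simp⟩
    | add ψ₁ ψ₂ _ _ ih₁ ih₂ =>
      obtain ⟨d₁, hd₁, h₁⟩ := ih₁
      obtain ⟨d₂, hd₂, h₂⟩ := ih₂
      refine ⟨d₁ + d₂, by simp [hd₁, hd₂], fun hle => ?_⟩
      simp only [Pi.add_apply]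
      rw [h₁ (by omega), h₂ (by omega)]
  obtain ⟨d, hd, h⟩ := key _ ((isCharacter_iff_mem_closure _).mp hres)
  have hd' : d = n := by
    have h1 := charDegree_cast_of_isCharacter hχ
    have h2 : ((d : ℕ) : ℂ) = χ 1 := by
      rw [← hd]
      rfl
    rw [← h1] at h2
    exact_mod_cast h2
  have h1 := h (le_of_eq hd')
  have h2 : χ ((c : H) : G) = χ 1 := h1
  have h3 := hfaith _ h2
  have h4 : a * b * a⁻¹ * b⁻¹ = 1 := by
    rw [← h3, hc]
    rfl
  have : a * b = (a * b * a⁻¹ * b⁻¹) * (b * a) := by group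
  rw [this, h4, one_mul]

end Cfsg.Agent.Helper6.Blich
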