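import Mathlib
import Cfsg.Agent.Helper1.WielandtNilpHall
import Cfsg.Agent.Helper6.BlichA

/-!
# Blichfeldt's theorem: group-theoretic tools

Relative Hall subgroups for the set of primes exceeding `n + 1`, Wielandt's theorem in relative
form, the transfer into an abelian Sylow subgroup, and index bookkeeping.
-/

set_option autoImplicit false
set_option linter.style.haveILetI false

namespace Cfsg.Agent.Helper6.Blich

open scoped Pointwise

universe u

variable {G : Type u} [Group G]

/-- `G` is a linear group of degree `n`: it has a faithful character of degree `n`. -/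
def Lin (n : ℕ) (G : Type u) [Group G] : Prop :=
  ∃ χ : G → ℂ, Cfsg.IsCharacter G χ ∧ (∀ g : G, χ g = χ 1 → g = 1) ∧ Cfsg.charDegree χ = n

theorem Lin.restrict {n : ℕ} (h : Lin n G) (H : Subgroup G) : Lin n H := by
  obtain ⟨χ, hχ, hf, hd⟩ := h
  refine ⟨fun u : H => χ u, IsCharacter.restrict H hχ, fun g hg => ?_, ?_⟩
  · exact Subtype.ext (hf g hg)
  · exact hd

/-- all prime divisors of `|B|` exceed `n + 1` -/
def PiGrp (n : ℕ) (B : Subgroup G) : Prop := ∀ q : ℕ, q.Prime → q ∣ Nat.card B → n + 1 < q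

/-- `B` is a Hall subgroup of `M` for the set of primes exceeding `n + 1` -/
def HallIn (n : ℕ) (B M : Subgroup G) : Prop :=
  B ≤ M ∧ PiGrp n B ∧ ∀ q : ℕ, q.Prime → n + 1 < q → ¬ q ∣ B.relIndex M

theorem card_mul_relIndex {H K : Subgroup G} (h : H ≤ K) :
    Nat.card H * H.relIndex K = Nat.card K := by
  have := Subgroup.relIndex_mul_relIndex (⊥ : Subgroup G) H K bot_le h
  rwa [Subgroup.relIndex_bot_left, Subgroup.relIndex_bot_left] at this

theorem card_subgroupOf {H K : Subgroup G} (h : H ≤ K) :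
    Nat.card (H.subgroupOf K) = Nat.card H :=
  Nat.card_congr (Subgroup.subgroupOfEquivOfLe h).toEquiv

theorem card_conj_smul (x : G) (H : Subgroup G) :
    Nat.card (MulAut.conj x • H : Subgroup G) = Nat.card H :=
  (Nat.card_congr (Subgroup.equivSMul (MulAut.conj x) H).toEquiv).symm

theorem PiGrp.mono {n : ℕ} {A B : Subgroup G} (hB : PiGrp n B) (h : A ≤ B) : PiGrp n A :=
  fun q hq hd => hB q hq (hd.trans (Subgroup.card_dvd_of_le h))

theorem PiGrp.conj {n : ℕ} {A : Subgroup G} (hA : PiGrp n A) (x : G) :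
    PiGrp n (MulAut.conj x • A) := by
  intro q hq hd
  rw [card_conj_smul] at hd
  exact hA q hq hd

theorem HallIn.conj {n : ℕ} {A M : Subgroup G} (hA : HallIn n A M) {x : G} (hx : x ∈ M) :
    HallIn n (MulAut.conj x • A) M := by
  obtain ⟨hAM, hpi, hidx⟩ := hA
  refine ⟨?_, hpi.conj x, ?_⟩
  · exact Subgroup.conj_smul_le_of_le hAM ⟨x, hx⟩
  · intro q hq hbig
    have := Subgroup.relIndex_pointwise_smul (MulAut.conj x) A M
    rw [Subgroup.conj_smul_eq_self_of_mem hx] at this
    rw [this]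
    exact hidx q hq hbig

/-- Hall subgroups of a subgroup whose index involves no big prime. -/
theorem HallIn.trans {n : ℕ} {B M L : Subgroup G} (hB : HallIn n B M) (hML : M ≤ L)
    (hidx : ∀ q : ℕ, q.Prime → n + 1 < q → ¬ q ∣ M.relIndex L) : HallIn n B L := by
  obtain ⟨hBM, hpi, hrel⟩ := hB
  refine ⟨hBM.trans hML, hpi, fun q hq hbig hd => ?_⟩
  rw [← Subgroup.relIndex_mul_relIndex B M L hBM hML] at hd
  rcases (Nat.Prime.dvd_mul hq).mp hd with h | h
  · exact hrel q hq hbig h
  · exact hidx q hq hbig h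

theorem isNilpotent_of_comm (H : Subgroup G) (hab : ∀ a ∈ H, ∀ b ∈ H, a * b = b * a) :
    Group.IsNilpotent H := by
  refine ⟨⟨1, ?_⟩⟩
  rw [Subgroup.upperCentralSeries_one, eq_top_iff]
  intro z _
  rw [Subgroup.mem_center_iff]
  intro g
  exact Subtype.ext (hab g g.2 z z.2)

/-- **Wielandt's theorem** relative to a subgroup `M`. -/
theorem wielandt_rel [Finite G] {n : ℕ} {A M K : Subgroup G} (hA : HallIn n A M)
    (hab : ∀ a ∈ A, ∀ b ∈ A, a * b = b * a) (hKM : K ≤ M) (hK : PiGrp n K) :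
    ∃ x ∈ M, K ≤ MulAut.conj x • A := by
  obtain ⟨hAM, hApi, hAidx⟩ := hA
  have hnil : Group.IsNilpotent (A.subgroupOf M) := by
    apply isNilpotent_of_comm
    intro a ha b hb
    exact Subtype.ext (hab a ha b hb)
  have hcop : (Nat.card (A.subgroupOf M)).Coprime (A.subgroupOf M).index := by
    refine Nat.coprime_of_dvd fun q hq h1 h2 => ?_
    rw [card_subgroupOf hAM] at h1
    exact hAidx q hq (hApi q hq h1) h2
  have hK' : ∀ p : ℕ, p.Prime → p ∣ Nat.card (K.subgroupOf M) →
      p ∣ Nat.card (A.subgroupOf M) := by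
    intro p hp hd
    rw [card_subgroupOf hKM] at hd
    rw [card_subgroupOf hAM]
    have h1 : p ∣ Nat.card M := hd.trans (Subgroup.card_dvd_of_le hKM)
    rw [← card_mul_relIndex hAM] at h1
    rcases (Nat.Prime.dvd_mul hp).mp h1 with h | h
    · exact h
    · exact absurd h (hAidx p hp (hK p hp hd))
  obtain ⟨x, hx⟩ := Cfsg.Agent.Helper1.wielandt_nilpotent_hall (A.subgroupOf M)
    (K.subgroupOf M) hnil hcop hK'
  refine ⟨x, x.2, fun k hk => ?_⟩
  have h1 : (⟨k, hKM hk⟩ : M) ∈ K.subgroupOf M := hk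
  have h2 := hx h1
  rw [Subgroup.conj_smul_subgroupOf hAM] at h2
  exact h2

/-- a Hall subgroup of `M` through a given `π`-subgroup -/
theorem exists_hallIn_ge [Finite G] {n : ℕ} {A M K : Subgroup G} (hA : HallIn n A M)
    (hab : ∀ a ∈ A, ∀ b ∈ A, a * b = b * a) (hKM : K ≤ M) (hK : PiGrp n K) :
    ∃ B, K ≤ B ∧ HallIn n B M := by
  obtain ⟨x, hx, hKx⟩ := wielandt_rel hA hab hKM hK
  exact ⟨_, hKx, hA.conj hx⟩

open scoped IsMulCommutative in
/-- **Transfer into an abelian subgroup** separates a central element. -/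
theorem exists_normal_of_central [Finite G] (R : Subgroup G)
    (hab : ∀ a ∈ R, ∀ b ∈ R, a * b = b * a) (z : G) (hz : z ∈ Subgroup.center G)
    (hzR : z ^ R.index ≠ 1) :
    ∃ N : Subgroup G, N.Normal ∧ z ∉ N ∧ N.index ∣ Nat.card R := by
  haveI : IsMulCommutative R := ⟨⟨fun a b => Subtype.ext (hab a a.2 b b.2)⟩⟩
  let V : G →* R := MonoidHom.transfer (MonoidHom.id R)
  refine ⟨V.ker, MonoidHom.normal_ker V, fun hmem => ?_, ?_⟩
  · have key : ∀ (k : ℕ) (g₀ : G), g₀⁻¹ * z ^ k * g₀ ∈ R → g₀⁻¹ * z ^ k * g₀ = z ^ k := by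
      intro k g₀ _
      have hzk : z ^ k ∈ Subgroup.center G := Subgroup.pow_mem _ hz k
      rw [Subgroup.mem_center_iff] at hzk
      rw [mul_assoc, ← hzk g₀, ← mul_assoc, inv_mul_cancel, one_mul]
    have h1 : V z = 1 := hmem
    have h2 := MonoidHom.transfer_eq_pow (MonoidHom.id R) z key
    have h3 : (⟨z ^ R.index, MonoidHom.transfer_eq_pow_aux z key⟩ : R) = 1 := by
      rw [← h1]
      exact h2.symm
    exact hzR (congrArg Subtype.val h3)
  · rw [Subgroup.index_ker]
    exact Subgroup.card_subgroup_dvd_card _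

/-- index of a supplement of a normal subgroup -/
theorem index_eq_relIndex_of_sup_eq_top [Finite G] (H N : Subgroup G) [N.Normal]
    (h : H ⊔ N = ⊤) : H.index = (N ⊓ H).relIndex N := by
  have h1 : N.index = N.relIndex H := by
    rw [← Subgroup.relIndex_sup_right H N, h, Subgroup.relIndex_top_right]
  have h2 := Subgroup.card_mul_index H
  have h3 := Subgroup.card_mul_index N
  have h4 : Nat.card (N ⊓ H : Subgroup G) * N.relIndex H = Nat.card H := by
    rw [← Subgroup.inf_relIndex_right N H]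
    exact card_mul_relIndex inf_le_right
  have h5 : Nat.card (N ⊓ H : Subgroup G) * (N ⊓ H).relIndex N = Nat.card N :=
    card_mul_relIndex inf_le_left
  have hpos : 0 < Nat.card (N ⊓ H : Subgroup G) * N.relIndex H := by
    rw [h4]
    exact Nat.card_pos
  have : Nat.card (N ⊓ H : Subgroup G) * N.relIndex H * H.index =
      Nat.card (N ⊓ H : Subgroup G) * N.relIndex H * (N ⊓ H).relIndex N := by
    calc Nat.card (N ⊓ H : Subgroup G) * N.relIndex H * H.index = Nat.card G := by rw [h4, h2]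
      _ = Nat.card (N ⊓ H : Subgroup G) * (N ⊓ H).relIndex N * N.relIndex H := by
          rw [h5, ← h1, h3]
      _ = _ := by ring
  exact Nat.eq_of_mul_eq_mul_left hpos this

end Cfsg.Agent.Helper6.Blich
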