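import Mathlib
import Cfsg.Agent.Helper6.BlichB

/-!
# Blichfeldt's theorem

A finite group with a faithful character of degree `n` has an abelian Hall subgroup for the set
of primes exceeding `n + 1`.
-/

set_option autoImplicit false
set_option linter.style.haveILetI false

namespace Cfsg.Agent.Helper6.Blich

open scoped Pointwise

universe u

variable {G : Type u} [Group G]

/-- `π`-subgroups of a linear group are abelian -/
theorem Lin.comm [Finite G] {n : ℕ} (hL : Lin n G) {H : Subgroup G} (hH : PiGrp n H) :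
    ∀ a ∈ H, ∀ b ∈ H, a * b = b * a := by
  obtain ⟨χ, hχ, hf, hd⟩ := hL
  refine comm_of_large_primes hχ hf H (fun q hq hdv => ?_)
  rw [hd]
  have := hH q hq hdv
  omega

theorem Lin.exists_commuting [Finite G] {n : ℕ} (hL : Lin n G) {p q : ℕ} (hp : p.Prime)
    (hq : q.Prime) (hpb : n + 1 < p) (hqb : n + 1 < q) (hpG : p ∣ Nat.card G)
    (hqG : q ∣ Nat.card G) :
    ∃ x y : G, orderOf x = p ∧ orderOf y = q ∧ x * y = y * x := by
  obtain ⟨χ, hχ, hf, hd⟩ := hL
  exact exists_commuting_of_faithful hχ hf hp hq (by omega) (by omega) hpG hqG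

theorem piGrp_of_isPGroup [Finite G] {n r : ℕ} (hr : r.Prime) (hbig : n + 1 < r)
    {R : Subgroup G} (hR : IsPGroup r R) : PiGrp n R := by
  haveI : Fact r.Prime := ⟨hr⟩
  obtain ⟨k, hk⟩ := IsPGroup.iff_card.mp hR
  intro q hq hd
  rw [hk] at hd
  have := (Nat.prime_dvd_prime_iff_eq hq hr).mp (hq.dvd_of_dvd_pow hd)
  omega

theorem exists_sylow_mem [Finite G] {r : ℕ} (hr : r.Prime) (z : G) (hz : orderOf z = r) :
    ∃ R : Sylow r G, z ∈ (R : Subgroup G) := by
  haveI : Fact r.Prime := ⟨hr⟩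
  have h1 : IsPGroup r (Subgroup.zpowers z) := by
    apply IsPGroup.of_card (n := 1)
    rw [Nat.card_zpowers, hz, pow_one]
  obtain ⟨R, hR⟩ := h1.exists_le_sylow
  exact ⟨R, hR (Subgroup.mem_zpowers z)⟩

/-- **Central case**: a central element of big prime order is split off by the transfer. -/
theorem step_central [Finite G] {n : ℕ} (hL : Lin n G)
    (IH : ∀ M : Subgroup G, M ≠ ⊤ → ∃ B, HallIn n B M)
    (z : G) (hz : z ∈ Subgroup.center G) {r : ℕ} (hr : r.Prime) (hbig : n + 1 < r)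
    (hzr : orderOf z = r) : ∃ B, HallIn n B (⊤ : Subgroup G) := by
  haveI : Fact r.Prime := ⟨hr⟩
  obtain ⟨R, hzR⟩ := exists_sylow_mem hr z hzr
  have hRpi : PiGrp n (R : Subgroup G) := piGrp_of_isPGroup hr hbig R.2
  have hRab := hL.comm hRpi
  have hRidx : ¬ r ∣ (R : Subgroup G).index := R.not_dvd_index
  have hzpow : z ^ (R : Subgroup G).index ≠ 1 := by
    intro h
    have := orderOf_dvd_of_pow_eq_one h
    rw [hzr] at this
    exact hRidx this
  obtain ⟨N, hNn, hzN, hNidx⟩ := exists_normal_of_central (R : Subgroup G) hRab z hz hzpow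
  haveI := hNn
  have hNtop : N ≠ ⊤ := fun h => hzN (h ▸ Subgroup.mem_top z)
  obtain ⟨A, hA⟩ := IH N hNtop
  have hAab := hL.comm hA.2.1
  have hNidx' : ∀ q : ℕ, q.Prime → q ∣ N.index → q = r := by
    intro q hq hd
    obtain ⟨k, hk⟩ := IsPGroup.iff_card.mp R.2
    have h1 : q ∣ r ^ k := hk ▸ hd.trans hNidx
    exact (Nat.prime_dvd_prime_iff_eq hq hr).mp (hq.dvd_of_dvd_pow h1)
  -- Frattini argument
  have hfrat : Subgroup.normalizer (A : Set G) ⊔ N = ⊤ := by
    rw [eq_top_iff]
    intro g _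
    have h1 : MulAut.conj g • A ≤ N := by
      rintro - ⟨a, ha, rfl⟩
      exact hNn.conj_mem a (hA.1 ha) g
    obtain ⟨k, hk, hle⟩ := wielandt_rel hA hAab h1 (hA.2.1.conj g)
    have heq : MulAut.conj g • A = MulAut.conj k • A := by
      apply Subgroup.eq_of_le_of_card_ge hle
      rw [card_conj_smul, card_conj_smul]
    have h2 : MulAut.conj (k⁻¹ * g) • A = A := by
      rw [map_mul, mul_smul, heq, ← mul_smul, ← map_mul, inv_mul_cancel, map_one, one_smul]
    have hmem : k⁻¹ * g ∈ Subgroup.normalizer (A : Set G) := by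
      rw [Subgroup.mem_normalizer_iff]
      intro h
      constructor
      · intro hh
        have h3 := Subgroup.smul_mem_pointwise_smul h (MulAut.conj (k⁻¹ * g)) A hh
        rw [h2] at h3
        exact h3
      · intro hh
        have h3 : MulAut.conj (k⁻¹ * g) • h ∈ MulAut.conj (k⁻¹ * g) • A := by
          rw [h2]
          exact hh
        exact Subgroup.smul_mem_pointwise_smul_iff.mp h3
    have : g = k * (k⁻¹ * g) := by group
    rw [this]
    exact Subgroup.mul_mem _ (Subgroup.mem_sup_right hk) (Subgroup.mem_sup_left hmem)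
  set Nrm := Subgroup.normalizer (A : Set G) with hNrm
  have hANrm : A ≤ Nrm := Subgroup.le_normalizer
  have hidx : Nrm.index = (N ⊓ Nrm).relIndex N := index_eq_relIndex_of_sup_eq_top Nrm N hfrat
  have hNrmidx : ∀ q : ℕ, q.Prime → n + 1 < q → ¬ q ∣ Nrm.index := by
    intro q hq hqb hd
    rw [hidx] at hd
    have : (N ⊓ Nrm).relIndex N ∣ A.relIndex N :=
      Subgroup.relIndex_dvd_of_le_left N (le_inf hA.1 hANrm)
    exact hA.2.2 q hq hqb (hd.trans this)
  by_cases htop : Nrm = ⊤
  · have hAn : A.Normal := Subgroup.normalizer_eq_top_iff.mp htop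
    haveI := hAn
    refine ⟨(R : Subgroup G) ⊔ A, le_top, ?_, ?_⟩
    · intro q hq hd
      rw [← card_mul_relIndex (le_sup_right : A ≤ (R : Subgroup G) ⊔ A),
        Subgroup.relIndex_sup_right] at hd
      rcases (Nat.Prime.dvd_mul hq).mp hd with h | h
      · exact hA.2.1 q hq h
      · exact hRpi q hq (h.trans (Subgroup.relIndex_dvd_card _ _))
    · intro q hq hqb hd
      rw [Subgroup.relIndex_top_right] at hd
      by_cases hqr : q = r
      · rw [hqr] at hd
        exact hRidx (hd.trans (Subgroup.index_dvd_of_le le_sup_left))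
      · have h1 : q ∣ A.index := hd.trans (Subgroup.index_dvd_of_le le_sup_right)
        rw [← Subgroup.relIndex_mul_index hA.1] at h1
        rcases (Nat.Prime.dvd_mul hq).mp h1 with h | h
        · exact hA.2.2 q hq hqb h
        · exact hqr (hNidx' q hq h)
  · obtain ⟨B, hB⟩ := IH Nrm htop
    exact ⟨B, hB.trans le_top (fun q hq hqb => by
      rw [Subgroup.relIndex_top_right]
      exact hNrmidx q hq hqb)⟩

/-- **Non-central case**: the centralizer of a Sylow subgroup for a big prime has index free of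
big primes. -/
theorem step_noncentral [Finite G] {n : ℕ} (hL : Lin n G)
    (IH : ∀ M : Subgroup G, M ≠ ⊤ → ∃ B, HallIn n B M)
    (hnc : ∀ z ∈ Subgroup.center G, ∀ r : ℕ, r.Prime → n + 1 < r → orderOf z ≠ r)
    {p : ℕ} (hp : p.Prime) (hpb : n + 1 < p) (hpG : p ∣ Nat.card G) :
    ∃ B, HallIn n B (⊤ : Subgroup G) := by
  haveI : Fact p.Prime := ⟨hp⟩
  obtain ⟨P⟩ : Nonempty (Sylow p G) := inferInstance
  have hPpi : PiGrp n (P : Subgroup G) := piGrp_of_isPGroup hp hpb P.2
  have hPab := hL.comm hPpi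
  set C := Subgroup.centralizer ((P : Subgroup G) : Set G) with hC
  have hprop : ∀ x : G, ∀ r : ℕ, r.Prime → n + 1 < r → orderOf x = r →
      Subgroup.centralizer ({x} : Set G) ≠ ⊤ := by
    intro x r hr hrb hx htop
    rw [Subgroup.centralizer_eq_top_iff_subset] at htop
    exact hnc x (htop (Set.mem_singleton x)) r hr hrb hx
  have hcent : ∀ {H : Subgroup G} {w : G}, (∀ a ∈ H, ∀ b ∈ H, a * b = b * a) → w ∈ H →
      H ≤ Subgroup.centralizer ({w} : Set G) := by
    intro H w hab hw a ha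
    rw [Subgroup.mem_centralizer_iff]
    intro b hb
    rw [Set.mem_singleton_iff] at hb
    rw [hb]
    exact hab w hw a ha
  have hclaim : ∀ q : ℕ, q.Prime → n + 1 < q → ¬ q ∣ C.index := by
    intro q hq hqb hd
    haveI : Fact q.Prime := ⟨hq⟩
    have hqG : q ∣ Nat.card G := hd.trans (Subgroup.index_dvd_card C)
    obtain ⟨x₀, y₀, hx₀, hy₀, hxy₀⟩ := hL.exists_commuting hp hq hpb hqb hpG hqG
    obtain ⟨P', hxP'⟩ := exists_sylow_mem hp x₀ hx₀
    obtain ⟨g, hg⟩ := MulAction.exists_smul_eq G P' P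
    have hPeq : (P : Subgroup G) = MulAut.conj g • (P' : Subgroup G) := by
      rw [← hg]
      rfl
    have hxP : g * x₀ * g⁻¹ ∈ (P : Subgroup G) := by
      rw [hPeq]
      exact Subgroup.smul_mem_pointwise_smul x₀ (MulAut.conj g) _ hxP'
    have hxord : orderOf (g * x₀ * g⁻¹) = p := by
      rw [← hx₀]
      exact MulEquiv.orderOf_eq (MulAut.conj g) x₀
    have hyord : orderOf (g * y₀ * g⁻¹) = q := by
      rw [← hy₀]
      exact MulEquiv.orderOf_eq (MulAut.conj g) y₀
    have hxy : g * x₀ * g⁻¹ * (g * y₀ * g⁻¹) = g * y₀ * g⁻¹ * (g * x₀ * g⁻¹) := by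
      calc g * x₀ * g⁻¹ * (g * y₀ * g⁻¹) = g * (x₀ * y₀) * g⁻¹ := by group
        _ = g * (y₀ * x₀) * g⁻¹ := by rw [hxy₀]
        _ = _ := by group
    generalize g * x₀ * g⁻¹ = x at hxP hxord hxy
    generalize g * y₀ * g⁻¹ = y at hyord hxy
    have hMtop := hprop x p hp hpb hxord
    have hPM : (P : Subgroup G) ≤ Subgroup.centralizer ({x} : Set G) := hcent hPab hxP
    have hyM : y ∈ Subgroup.centralizer ({x} : Set G) := by
      rw [Subgroup.mem_centralizer_iff]
      intro b hb
      rw [Set.mem_singleton_iff] at hb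
      rw [hb]
      exact hxy
    obtain ⟨A₀, hA₀⟩ := IH _ hMtop
    obtain ⟨B, hPB, hB⟩ := exists_hallIn_ge hA₀ (hL.comm hA₀.2.1) hPM hPpi
    have hBab := hL.comm hB.2.1
    have hqB : q ∣ Nat.card B := by
      have h1 : q ∣ Nat.card (Subgroup.centralizer ({x} : Set G)) := by
        rw [← hyord]
        exact Subgroup.orderOf_dvd_natCard _ hyM
      rw [← card_mul_relIndex hB.1] at h1
      rcases (Nat.Prime.dvd_mul hq).mp h1 with h | h
      · exact h
      · exact absurd h (hB.2.2 q hq hqb)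
    obtain ⟨y₁', hy₁'⟩ := exists_prime_orderOf_dvd_card' q hqB
    have hy₁ord : orderOf (y₁' : G) = q := by
      rw [Subgroup.orderOf_coe]
      exact hy₁'
    have hy₁B : (y₁' : G) ∈ B := y₁'.2
    generalize (y₁' : G) = y₁ at hy₁ord hy₁B
    have hM'top := hprop y₁ q hq hqb hy₁ord
    have hPM' : (P : Subgroup G) ≤ Subgroup.centralizer ({y₁} : Set G) :=
      hPB.trans (hcent hBab hy₁B)
    obtain ⟨Q, hyQ⟩ := exists_sylow_mem hq y₁ hy₁ord
    have hQpi : PiGrp n (Q : Subgroup G) := piGrp_of_isPGroup hq hqb Q.2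
    have hQab := hL.comm hQpi
    have hQM' : (Q : Subgroup G) ≤ Subgroup.centralizer ({y₁} : Set G) := hcent hQab hyQ
    have hqM' : ¬ q ∣ (Subgroup.centralizer ({y₁} : Set G)).index := fun h =>
      Q.not_dvd_index (h.trans (Subgroup.index_dvd_of_le hQM'))
    obtain ⟨A₁, hA₁⟩ := IH _ hM'top
    obtain ⟨B', hPB', hB'⟩ := exists_hallIn_ge hA₁ (hL.comm hA₁.2.1) hPM' hPpi
    have hB'ab := hL.comm hB'.2.1
    have hB'C : B' ≤ C := by
      intro a ha
      rw [hC, Subgroup.mem_centralizer_iff]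
      intro b hb
      exact hB'ab b (hPB' hb) a ha
    have h1 : q ∣ B'.index := hd.trans (Subgroup.index_dvd_of_le hB'C)
    rw [← Subgroup.relIndex_mul_index hB'.1] at h1
    rcases (Nat.Prime.dvd_mul hq).mp h1 with h | h
    · exact hB'.2.2 q hq hqb h
    · exact hqM' h
  have hCtop : C ≠ ⊤ := by
    intro htop
    have hpP : p ∣ Nat.card (P : Subgroup G) := by
      have := Subgroup.card_mul_index (P : Subgroup G)
      rw [← this] at hpG
      rcases (Nat.Prime.dvd_mul hp).mp hpG with h | h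
      · exact h
      · exact absurd h P.not_dvd_index
    obtain ⟨x', hx'⟩ := exists_prime_orderOf_dvd_card' p hpP
    have hxc : (x' : G) ∈ Subgroup.center G := by
      rw [hC, Subgroup.centralizer_eq_top_iff_subset] at htop
      exact htop x'.2
    refine hnc _ hxc p hp hpb ?_
    rw [Subgroup.orderOf_coe]
    exact hx'
  obtain ⟨B, hB⟩ := IH C hCtop
  exact ⟨B, hB.trans le_top (fun q hq hqb => by
    rw [Subgroup.relIndex_top_right]
    exact hclaim q hq hqb)⟩

theorem step [Finite G] {n : ℕ} (hL : Lin n G)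
    (IH : ∀ M : Subgroup G, M ≠ ⊤ → ∃ B, HallIn n B M) :
    ∃ B, HallIn n B (⊤ : Subgroup G) := by
  by_cases h0 : ∃ p : ℕ, p.Prime ∧ n + 1 < p ∧ p ∣ Nat.card G
  · obtain ⟨p, hp, hpb, hpG⟩ := h0
    by_cases hc : ∃ z ∈ Subgroup.center G, ∃ r : ℕ, r.Prime ∧ n + 1 < r ∧ orderOf z = r
    · obtain ⟨z, hz, r, hr, hrb, hzr⟩ := hc
      exact step_central hL IH z hz hr hrb hzr
    · refine step_noncentral hL IH (fun z hz r hr hrb hzr => hc ⟨z, hz, r, hr, hrb, hzr⟩)
        hp hpb hpG
  · refine ⟨⊥, bot_le, ?_, ?_⟩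
    · intro q hq hd
      rw [Subgroup.card_bot] at hd
      exact absurd (Nat.dvd_one.mp hd) hq.one_lt.ne'
    · intro q hq hqb hd
      rw [Subgroup.relIndex_bot_left, Subgroup.card_top] at hd
      exact h0 ⟨q, hq, hqb, hd⟩

theorem exists_hall_aux (n : ℕ) : ∀ (k : ℕ) (G : Type u) [Group G] [Finite G],
    Nat.card G = k → Lin n G → ∃ B : Subgroup G, HallIn n B ⊤ := by
  intro k
  induction k using Nat.strong_induction_on with
  | _ k ih =>
    intro G _ _ hk hL
    apply step hL
    intro M hM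
    have hlt : Nat.card M < k := by
      rw [← hk]
      have h1 := Subgroup.card_mul_index M
      have h2 : M.index ≠ 1 := fun h => hM (Subgroup.index_eq_one.mp h)
      have h3 : M.index ≠ 0 := Subgroup.index_ne_zero_of_finite
      have h4 : 0 < Nat.card M := Nat.card_pos
      have h5 : 2 ≤ M.index := by omega
      calc Nat.card M < Nat.card M * 2 := by omega
        _ ≤ Nat.card M * M.index := Nat.mul_le_mul_left _ h5
        _ = Nat.card G := h1
    obtain ⟨B', hB'⟩ := ih (Nat.card M) hlt M rfl (hL.restrict M)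
    refine ⟨B'.map M.subtype, Subgroup.map_subtype_le B', ?_, ?_⟩
    · intro q hq hd
      rw [Subgroup.card_map_of_injective M.subtype_injective] at hd
      exact hB'.2.1 q hq hd
    · intro q hq hqb hd
      apply hB'.2.2 q hq hqb
      rw [Subgroup.relIndex_top_right]
      have : (B'.map M.subtype).relIndex M = B'.index := by
        rw [Subgroup.relIndex, Subgroup.subgroupOf,
          Subgroup.comap_map_eq_self_of_injective M.subtype_injective]
      rwa [this] at hd

/-- **Blichfeldt's theorem.** -/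
theorem blichfeldt [Finite G] (χ : G → ℂ) (hχ : Cfsg.IsCharacter G χ)
    (hfaith : ∀ g : G, χ g = χ 1 → g = 1) (n : ℕ) (hn : Cfsg.charDegree χ = n) :
    ∃ A : Subgroup G, (∀ x ∈ A, ∀ y ∈ A, x * y = y * x) ∧
      (∀ q : ℕ, q.Prime → q ∣ Nat.card A → n + 1 < q) ∧
      ∀ q : ℕ, q.Prime → q ∣ A.index → q ≤ n + 1 := by
  have hL : Lin n G := ⟨χ, hχ, hfaith, hn⟩
  obtain ⟨B, hB⟩ := exists_hall_aux n (Nat.card G) G rfl hL
  refine ⟨B, hL.comm hB.2.1, hB.2.1, fun q hq hd => ?_⟩
  by_contra hlt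
  rw [not_le] at hlt
  refine hB.2.2 q hq hlt ?_
  rwa [Subgroup.relIndex_top_right]

end Cfsg.Agent.Helper6.Blich
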