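import Mathlib
import Cfsg.Prelude.Def_Characters
import Cfsg.Prelude.Def_Blocks
import Cfsg.Prelude.Def_BrauerPairs
import Cfsg.Agent.Helper6.NilVec
import Cfsg.Agent.Helper6.InducedPart
import Cfsg.Agent.Helper6.LocalTransport
import Cfsg.Agent.Helper6.CentDefect
import Cfsg.Agent.Helper6.PiKerD

/-!
# Transitivity of block induction, and defect groups of the block of a maximal Brauer pair
-/

set_option autoImplicit false
set_option linter.style.haveILetI false

namespace Cfsg.Agent.Helper6

open scoped ComplexConjugate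

universe u

variable {G : Type u} [Group G] {M : Ideal Cfsg.AlgInt}

/-- transitivity of induced central characters: if the central character of `ψ` on `H` is
congruent to the central character induced from `ξ'` on `K' ≤ H`, then the central character
induced from `ψ` to `G` is congruent to the one induced from `ξ'` (read on the copy `K` of `K'`
inside `G`). -/
theorem inducedCentralChar_trans [Finite G] (hM : M.IsMaximal) (H : Subgroup G) (K' : Subgroup H)
    (K : Subgroup G) (φ : K' ≃* K) (hφ : ∀ c : K', ((φ c : K) : G) = ((c : H) : G))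
    (ξ' : K' → ℂ) (ψ : H → ℂ) (hψ : Cfsg.IsClassFunction H ψ)
    (h1 : ∀ h : H, Cfsg.MemLocalIdeal M
      (Cfsg.inducedCentralChar K' ξ' h - Cfsg.centralChar ψ h)) (g : G) :
    Cfsg.MemLocalIdeal M
      (Cfsg.inducedCentralChar H ψ g - Cfsg.inducedCentralChar K (ξ' ∘ φ.symm) g) := by
  classical
  haveI := Fintype.ofFinite G
  haveI : Fintype H := Fintype.ofFinite H
  haveI : Fintype K' := Fintype.ofFinite K'
  haveI : Fintype K := Fintype.ofFinite K
  set F : K' → ℂ := fun c => ξ' c / ξ' 1 with hF
  set f : H → ℂ := fun h => ψ h / ψ 1 - Cfsg.extendByZero K' F h with hf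
  set T : Finset H := Finset.univ.filter (fun h : H => IsConj g (h : G)) with hT
  have hclosed : ∀ h ∈ T, ∀ x : H, x * h * x⁻¹ ∈ T := by
    intro h hh x
    rw [hT, Finset.mem_filter] at hh ⊢
    refine ⟨Finset.mem_univ _, ?_⟩
    exact hh.2.trans (isConj_iff.mpr ⟨(x : G), by simp⟩)
  have hclass : ∀ h : H, Cfsg.MemLocalIdeal M (∑ x ∈ classFinset h, f x) := by
    intro h
    have e1 : ∑ x ∈ classFinset h, f x =
        Cfsg.centralChar ψ h - Cfsg.inducedCentralChar K' ξ' h := by
      simp only [hf]
      rw [Finset.sum_sub_distrib]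
      congr 1
      · have hcf : Cfsg.IsClassFunction H (fun x => ψ x / ψ 1) := by
          intro x y
          simp only [hψ x y]
        rw [sum_classFinset_classFunction _ hcf h]
        unfold Cfsg.centralChar
        ring
      · rw [inducedCentralChar_eq_sum K' ξ' h]
        have e2 : ∑ x ∈ classFinset h, Cfsg.extendByZero K' F x =
            ∑ x : H, Cfsg.extendByZero K' F x * (if IsConj h x then 1 else 0) := by
          unfold classFinset
          rw [Finset.sum_filter]
          apply Finset.sum_congr rfl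
          intro x _
          split_ifs <;> simp
        rw [e2, sum_extendByZero_mul K' F (fun x => if IsConj h x then 1 else 0),
          Finset.sum_filter]
        apply Finset.sum_congr rfl
        intro c _
        split_ifs <;> simp [hF]
    rw [e1]
    have := MemLocalIdeal.neg (h1 h)
    rwa [neg_sub] at this
  have hsum := sum_mem_of_class_sums (fun z => Cfsg.MemLocalIdeal M z) (memLocalIdeal_zero hM)
    (fun x y hx hy => MemLocalIdeal.add hM hx hy) f hclass T.card T rfl hclosed
  have e3 : ∑ h ∈ T, f h = Cfsg.inducedCentralChar H ψ g -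
      Cfsg.inducedCentralChar K (ξ' ∘ φ.symm) g := by
    simp only [hf]
    rw [Finset.sum_sub_distrib, inducedCentralChar_eq_sum H ψ g,
      inducedCentralChar_eq_sum K (ξ' ∘ φ.symm) g]
    congr 1
    have e4 : ∑ x ∈ T, Cfsg.extendByZero K' F x =
        ∑ x : H, Cfsg.extendByZero K' F x * (if IsConj g (x : G) then 1 else 0) := by
      rw [hT, Finset.sum_filter]
      apply Finset.sum_congr rfl
      intro x _
      split_ifs <;> simp
    rw [e4, sum_extendByZero_mul K' F (fun x => if IsConj g (x : G) then 1 else 0)]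
    rw [Finset.sum_filter]
    rw [← Equiv.sum_comp φ.toEquiv]
    apply Finset.sum_congr rfl
    intro c _
    have hc : ((φ.toEquiv c : K) : G) = ((c : H) : G) := hφ c
    rw [hc]
    have h1' : (ξ' ∘ φ.symm) (φ.toEquiv c) = ξ' c := by
      simp
    have h2' : (ξ' ∘ φ.symm) 1 = ξ' 1 := by simp
    rw [h1', h2']
    split_ifs <;> simp [hF]
  rw [← e3]
  exact hsum

/-- **transitivity of block induction** along a copy `K ≤ G` of a subgroup `K' ≤ H` -/
theorem isInducedBlock_trans_of_equiv [Finite G] (hM : M.IsMaximal) (H : Subgroup G)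
    (K' : Subgroup H) (K : Subgroup G) (φ : K' ≃* K)
    (hφ : ∀ c : K', ((φ c : K) : G) = ((c : H) : G))
    (e' : Set (Cfsg.IrrCharacter K')) (b : Set (Cfsg.IrrCharacter H))
    (B : Set (Cfsg.IrrCharacter G))
    (h1 : Cfsg.IsInducedBlock M K' e' b)
    (h2 : Cfsg.IsInducedBlock M K (irrComp φ.symm '' e') B) :
    Cfsg.IsInducedBlock M H b B := by
  refine ⟨h1.2.1, h2.2.1, fun ψ hψ χ hχ g => ?_⟩
  obtain ⟨ξ', he'⟩ := h1.1
  have hξ' : ξ' ∈ e' := by rw [he']; exact mem_blockOf_self hM ξ'
  have t1 := inducedCentralChar_trans hM H K' K φ hφ (ξ' : K' → ℂ) (ψ : H → ℂ)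
    (IsCharacter.isClassFunction (IsIrrCharacter.isCharacter ψ.2))
    (fun h => h1.2.2 ξ' hξ' ψ hψ h) g
  have t2 := h2.2.2 (irrComp φ.symm ξ') ⟨ξ', hξ', rfl⟩ χ hχ g
  have e1 : ((irrComp φ.symm ξ' : Cfsg.IrrCharacter K) : K → ℂ) = (ξ' : K' → ℂ) ∘ φ.symm := rfl
  rw [e1] at t2
  have := MemLocalIdeal.add hM t1 t2
  rwa [sub_add_sub_cancel] at this

/-- **the defect groups of the block of a maximal Brauer pair `(P, e)` lie in `P`** -/
theorem defectGroup_map_le_of_isMaximalBrauerPair [Fintype G] {p : ℕ} [hp : Fact p.Prime]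
    (hM : Cfsg.IsPModular p M) (B : Set (Cfsg.IrrCharacter G)) (P : Subgroup G)
    (e : Set (Cfsg.IrrCharacter (Subgroup.centralizer (P : Set G))))
    (hmax : Cfsg.IsMaximalBrauerPair p M B P e)
    (D : Subgroup (Subgroup.centralizer (P : Set G))) (hD : Cfsg.IsDefectGroup p M e D) :
    D.map (Subgroup.centralizer (P : Set G)).subtype ≤ P := by
  classical
  haveI : Fintype (Subgroup.centralizer (P : Set G)) := Fintype.ofFinite _
  have hPe : Cfsg.IsBrauerPair p M P e := hmax.1.1
  have hP : IsPGroup p P := hPe.1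
  obtain ⟨ε, hmaxD⟩ := exists_isBrauerPairOf_of_isDefectGroup hM e hPe.2 D hD
  have hn := isNormalSubpair_up (M := M) P hP D e ε hmaxD.1
  have hBT := (isBrauerPairOf_iff_of_subpairLE hM _ P _ e hn.2.1 hn.1
    (Relation.ReflTransGen.single hn) B).mpr hmax.1
  have heq := hmax.2 _ _ hBT (Relation.ReflTransGen.single hn)
  exact le_sup_right.trans heq.le

end Cfsg.Agent.Helper6
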