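import Mathlib
import Cfsg.Prelude.Def_Characters
import Cfsg.Prelude.Def_Blocks
import Cfsg.Prelude.Def_BlockLocal
import Cfsg.Prelude.Def_BrauerPairs
import Cfsg.Prelude.Def_OddOrderLocal
import Cfsg.Agent.Helper6.PiKerD
import Cfsg.Agent.Helper6.BrCorrD

/-!
# The `π'`-core in the kernel of the Brauer correspondent descends to local blocks
-/

set_option autoImplicit false
set_option linter.style.haveILetI false

namespace Cfsg.Agent.Helper6

open scoped ComplexConjugate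

universe u

variable {G : Type u} [Group G] {M : Ideal Cfsg.AlgInt}

/-- the induced central character from the centralizer of `D` is the Brauer central character -/
theorem inducedCentralChar_centralizer (D : Subgroup G)
    (ξ : Subgroup.centralizer (D : Set G) → ℂ) (g : G) :
    Cfsg.inducedCentralChar (Subgroup.centralizer (D : Set G)) ξ g =
      Cfsg.brauerCentralChar D (Subgroup.centralizer (D : Set G)) ξ g := by
  unfold Cfsg.brauerCentralChar Cfsg.inducedCentralChar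
  have e : {h : Subgroup.centralizer (D : Set G) | IsConj g (h : G) ∧
      (h : G) ∈ Subgroup.centralizer (D : Set G)} =
      {h : Subgroup.centralizer (D : Set G) | IsConj g (h : G)} := by
    ext h
    constructor
    · intro hh; exact hh.1
    · intro hh; exact ⟨hh, h.2⟩
  rw [e]

/-- the Brauer congruence gives an induced block from the centralizer -/
theorem isInducedBlock_centralizer_of_brauer [Finite G] {p : ℕ} (hM : Cfsg.IsPModular p M)
    (D : Subgroup G) (ξ₀ : Cfsg.IrrCharacter (Subgroup.centralizer (D : Set G)))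
    (χ₀ : Cfsg.IrrCharacter G)
    (h : ∀ g, Cfsg.MemLocalIdeal M
      (Cfsg.brauerCentralChar D (Subgroup.centralizer (D : Set G))
        (ξ₀ : Subgroup.centralizer (D : Set G) → ℂ) g - Cfsg.centralChar (χ₀ : G → ℂ) g)) :
    Cfsg.IsInducedBlock M (Subgroup.centralizer (D : Set G))
      (Cfsg.blockOf M (ξ₀ : Subgroup.centralizer (D : Set G) → ℂ))
      (Cfsg.blockOf M (χ₀ : G → ℂ)) := by
  refine ⟨⟨ξ₀, rfl⟩, ⟨χ₀, rfl⟩, fun ξ hξ χ hχ g => ?_⟩
  have h1 := inducedCentralChar_sub_of_sameBlock hM.2.1 _ ξ₀ ξ hξ g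
  have h3 := h g
  rw [← inducedCentralChar_centralizer] at h3
  have h4 := hχ g
  have := MemLocalIdeal.add hM.2.1 (MemLocalIdeal.sub hM.2.1 h3 h1) h4
  convert this using 1
  ring

section Main

variable [Fintype G] {p : ℕ} [hp : Fact p.Prime]

/-- **if the `π'`-cores of the centralizers lie in the kernels of all Brauer pairs of `B`, then
the `π'`-core of a subgroup `G₀ ⊇ C_G(P)` lies in the kernel of every block of `G₀` with defect
group `P` inducing `B`** -/
theorem blockKer_of_piKer_pairs (hM : Cfsg.IsPModular p M) (π : Set ℕ) (hpπ : p ∈ π)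
    (B : Set (Cfsg.IrrCharacter G)) (hB : Cfsg.IsPBlock M B)
    (hall : ∀ (Q : Subgroup G) (f : Set (Cfsg.IrrCharacter (Subgroup.centralizer (Q : Set G)))),
      Cfsg.IsBrauerPairOf p M B Q f → PiKer π Q f)
    (G₀ P : Subgroup G) (hPG₀ : P ≤ G₀) (hCG₀ : Subgroup.centralizer (P : Set G) ≤ G₀)
    (B₀ : Set (Cfsg.IrrCharacter G₀)) (hB₀ : Cfsg.IsInducedBlock M G₀ B₀ B)
    (hD₀ : Cfsg.IsDefectGroup p M B₀ (P.subgroupOf G₀)) :
    ∀ x : G₀, x ∈ Cfsg.piCore {q | q ∉ π} G₀ → x ∈ Cfsg.blockKer B₀ := by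
  classical
  haveI : Fintype G₀ := Fintype.ofFinite _
  have hB₀b : Cfsg.IsPBlock M B₀ := hB₀.1
  have hD₀p : IsPGroup p (P.subgroupOf G₀) :=
    IsPGroup.of_card (card_defectGroup hM.2.1 p hM.2.2 B₀ hB₀b _ hD₀)
  have hP : IsPGroup p P := by
    have h1 := hD₀p.map G₀.subtype
    rwa [Subgroup.subgroupOf_map_subtype, inf_eq_left.mpr hPG₀] at h1
  obtain ⟨g₀, hg₀, S₀, hS₀⟩ := hD₀
  have hg₀c : g₀ ∈ Subgroup.centralizer ((P.subgroupOf G₀ : Subgroup G₀) : Set G₀) := by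
    rw [Subgroup.mem_centralizer_iff]
    intro u hu
    have hu' : u ∈ P.subgroupOf G₀ := hu
    rw [hS₀] at hu'
    have h2 := sylow_map_le S₀ hu'
    exact Subgroup.mem_centralizer_singleton_iff.mp h2
  set C₀ := Subgroup.centralizer ((P.subgroupOf G₀ : Subgroup G₀) : Set G₀) with hC₀
  obtain ⟨ξ, χ₀, hχ₀B₀, hcong⟩ := exists_irr_brauer_block hM (P.subgroupOf G₀) C₀ hD₀p le_rfl
    (Subgroup.centralizer_le_normalizer _) B₀ hB₀b g₀ hg₀c hg₀.2.1
  haveI : Fintype C₀ := Fintype.ofFinite _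
  haveI : Fintype (Subgroup.centralizer (P : Set G)) := Fintype.ofFinite _
  set e₀ := Cfsg.blockOf M (ξ : C₀ → ℂ) with he₀
  have hind₀ : Cfsg.IsInducedBlock M C₀ e₀ B₀ := by
    rw [eq_blockOf_of_mem hM.2.1 B₀ hB₀b χ₀ hχ₀B₀]
    exact isInducedBlock_centralizer_of_brauer hM (P.subgroupOf G₀) ξ χ₀ hcong
  set Φ := centSubEquiv G₀ P hPG₀ hCG₀ with hΦ
  set f₀ := irrComp Φ.symm '' e₀ with hf₀def
  have hf₀ : Cfsg.IsPBlock M f₀ := isPBlock_image_irrComp Φ.symm e₀ ⟨ξ, rfl⟩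
  have he₀eq : e₀ = irrComp Φ '' f₀ := (image_irrComp_symm_cancel Φ e₀).symm
  -- `(P, f₀)` is a Brauer pair of `B`
  have hpair : Cfsg.IsBrauerPairOf p M B P f₀ := by
    refine ⟨⟨hP, hf₀⟩, hB, ?_⟩
    intro ζ hζ
    have hξ' : irrComp Φ ζ ∈ e₀ := by rw [he₀eq]; exact ⟨ζ, hζ, rfl⟩
    set u : G₀ → ℂ := fun x => Cfsg.blockCoeff B (x : G) with hu
    have hucf : Cfsg.IsClassFunction G₀ u := fun x y => blockCoeff_isClassFunction B _ _
    have huloc : ∀ t, Cfsg.MemLocalRing M (u t) := fun t => osima hM.2.1 B hB _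
    have h1 := classVec_restrict_sub_of_induced hM C₀ e₀ B₀ hind₀ u hucf huloc (irrComp Φ ζ) hξ'
      χ₀ hχ₀B₀
    obtain ⟨χ, hχB⟩ := hB
    have hχ : χ ∈ B := by rw [hχB]; exact mem_blockOf_self hM.2.1 χ
    have h2 := classVec_restrict_sub_of_induced hM G₀ B₀ B hB₀ (Cfsg.blockCoeff B)
      (blockCoeff_isClassFunction B) (fun t => osima hM.2.1 B ⟨χ, hχB⟩ t) χ₀ hχ₀B₀ χ hχ
    rw [classVec_blockCoeff, if_pos hχ] at h2
    have h3 : Cfsg.brauerOmega P (Cfsg.blockCoeff B)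
        (ζ : Subgroup.centralizer (P : Set G) → ℂ) =
        classVec (fun h : C₀ => u (h : G₀)) (irrComp Φ ζ) := by
      rw [brauerOmega_eq_classVec]
      unfold classVec
      rw [← Equiv.sum_comp Φ.toEquiv]
      apply Finset.sum_congr rfl
      intro h _
      rw [irrComp_apply, irrComp_apply, map_one]
      rfl
    rw [h3]
    have := MemLocalIdeal.add hM.2.1 h1 h2
    convert this using 1
    ring
  have hPK := hall P f₀ hpair
  -- the kernel lemma
  set K := Cfsg.piCore {q | q ∉ π} G₀ with hK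
  have hKp : ¬ p ∣ Nat.card K := not_dvd_card_piCore_compl hp.1 π hpπ
  have hker : ∀ ξ' ∈ e₀, ∀ h : C₀, (h : G₀) ∈ K → (ξ' : C₀ → ℂ) h = (ξ' : C₀ → ℂ) 1 := by
    intro ξ' hξ' h hh
    rw [he₀eq] at hξ'
    obtain ⟨ζ, hζ, rfl⟩ := hξ'
    rw [irrComp_apply, irrComp_apply, map_one]
    apply hPK ζ hζ (Φ h)
    have hK₀n : (K.subgroupOf C₀).Normal := Subgroup.Normal.subgroupOf inferInstance C₀
    have hK₀le : K.subgroupOf C₀ ≤ Cfsg.piCore {q | q ∉ π} C₀ := by
      apply le_piCore_of_normal _ _ hK₀n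
      intro q hq hd
      have hd2 : q ∣ Nat.card K := by
        apply hd.trans
        rw [← Subgroup.card_map_of_injective (Subgroup.subtype_injective C₀)]
        apply Subgroup.card_dvd_of_le
        rw [Subgroup.subgroupOf_map_subtype]
        exact inf_le_left
      exact piCore_card_prime_mem {q | q ∉ π} q hq hd2
    rw [← piCore_map_mulEquiv _ Φ]
    exact ⟨h, hK₀le (Subgroup.mem_subgroupOf.mpr hh), rfl⟩
  intro x hx χ hχ
  exact ker_of_induced hM C₀ e₀ B₀ hind₀ K hKp hker χ hχ x hx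

/-- **S4734**: if the `π'`-core of `N_G(D)` lies in the kernel of the Brauer correspondent of `B`,
then the `π'`-core of `G₀` lies in the kernel of every block `B₀` of `G₀` inducing `B`, provided
`G₀` contains the centralizer of a defect group of `B₀` -/
theorem piCore_le_blockKer_of_induced (hM : Cfsg.IsPModular p M) (π : Set ℕ) (hpπ : p ∈ π)
    (B : Set (Cfsg.IrrCharacter G)) (hB : Cfsg.IsPBlock M B) (D : Subgroup G)
    (hBD : Cfsg.IsDefectGroup p M B D)
    (B₁ : Set (Cfsg.IrrCharacter (Subgroup.normalizer (D : Set G))))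
    (hB₁ : Cfsg.IsInducedBlock M (Subgroup.normalizer (D : Set G)) B₁ B)
    (hB₁D : Cfsg.IsDefectGroup p M B₁ (D.subgroupOf (Subgroup.normalizer (D : Set G))))
    (hker : ∀ n : Subgroup.normalizer (D : Set G),
      n ∈ Cfsg.piCore {q | q ∉ π} (Subgroup.normalizer (D : Set G)) → n ∈ Cfsg.blockKer B₁)
    (G₀ : Subgroup G) (B₀ : Set (Cfsg.IrrCharacter G₀))
    (hB₀ : Cfsg.IsInducedBlock M G₀ B₀ B) (D₀ : Subgroup G₀)
    (hD₀ : Cfsg.IsDefectGroup p M B₀ D₀)
    (hC : Subgroup.centralizer ((D₀.map G₀.subtype : Subgroup G) : Set G) ≤ G₀) :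
    ∀ x : G₀, x ∈ Cfsg.piCore {q | q ∉ π} G₀ → x ∈ Cfsg.blockKer B₀ := by
  obtain ⟨e, hmax, hPK⟩ := exists_maximal_piKer hM π hpπ B hB D hBD B₁ hB₁ hB₁D hker
  have hall : ∀ (Q : Subgroup G)
      (f : Set (Cfsg.IrrCharacter (Subgroup.centralizer (Q : Set G)))),
      Cfsg.IsBrauerPairOf p M B Q f → PiKer π Q f := by
    intro Q f hQf
    obtain ⟨x, hx⟩ := exists_conj_subpairLE hM B D Q e f hmax hQf
    exact piKer_conj π Q f x (piKer_of_subpairLE hM π hpπ _ _ _ _ hx hPK)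
  have hPG₀ : D₀.map G₀.subtype ≤ G₀ := Subgroup.map_subtype_le _
  have hD₀eq : (D₀.map G₀.subtype).subgroupOf G₀ = D₀ :=
    Subgroup.comap_map_eq_self_of_injective (Subgroup.subtype_injective G₀) D₀
  have hD₀' : Cfsg.IsDefectGroup p M B₀ ((D₀.map G₀.subtype).subgroupOf G₀) := by
    rw [hD₀eq]; exact hD₀
  exact blockKer_of_piKer_pairs hM π hpπ B hB hall G₀ _ hPG₀ hC B₀ hB₀ hD₀'

end Main

end Cfsg.Agent.Helper6
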