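import Mathlib
import Cfsg.Prelude.Def_Characters
import Cfsg.Prelude.Def_Blocks
import Cfsg.Prelude.Def_BlockLocal
import Cfsg.Prelude.Def_BrauerPairs
import Cfsg.Prelude.Def_OddOrderLocal
import Cfsg.Agent.Helper6.PiKerE

/-!
# The `π'`-core of the centralizer in the kernel of a Brauer pair: ascent along inclusions when the
`π'`-cores are Hall subgroups
-/

set_option autoImplicit false
set_option linter.style.haveILetI false

namespace Cfsg.Agent.Helper6

open scoped ComplexConjugate

universe u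

variable {G : Type u} [Group G] {M : Ideal Cfsg.AlgInt}

/-- every `π'`-element of `C_G(Q)` lies in the `π'`-core of `C_G(Q)` -/
def PiHall (π : Set ℕ) (Q : Subgroup G) : Prop :=
  ∀ x : Subgroup.centralizer (Q : Set G), (∀ q : ℕ, q.Prime → q ∣ orderOf x → q ∉ π) →
    x ∈ Cfsg.piCore {q | q ∉ π} (Subgroup.centralizer (Q : Set G))

section Vec

variable [Fintype G] {p : ℕ} [hp : Fact p.Prime]

/-- **a normal subgroup `K` of order prime to `p` in the kernel of an induced block meets the
subgroup in the kernel of the inducing block** -/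
theorem ker_of_induced_rev (hM : Cfsg.IsPModular p M) (H : Subgroup G)
    (b : Set (Cfsg.IrrCharacter H)) (B : Set (Cfsg.IrrCharacter G))
    (hind : Cfsg.IsInducedBlock M H b B) (K : Subgroup G) [hK : K.Normal]
    (hKp : ¬ p ∣ Nat.card K)
    (hker : ∀ χ ∈ B, ∀ k ∈ K, (χ : G → ℂ) k = (χ : G → ℂ) 1) :
    ∀ ξ ∈ b, ∀ h : H, (h : G) ∈ K → (ξ : H → ℂ) h = (ξ : H → ℂ) 1 := by
  classical
  haveI : Fintype H := Fintype.ofFinite H
  intro ξ hξ
  obtain ⟨χ, hχB⟩ := hind.2.1
  have hχ : χ ∈ B := by rw [hχB]; exact mem_blockOf_self hM.2.1 χ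
  have h1 := classVec_restrict_sub_of_induced hM H b B hind (avgFun K) (avgFun_isClassFunction K)
    (avgFun_memLocalRing hM K hKp) ξ hξ χ hχ
  rw [classVec_avgFun, if_pos (hker χ hχ)] at h1
  -- the restriction of the averaging function
  set K₀ := K.subgroupOf H with hK₀
  haveI hK₀n : K₀.Normal := Subgroup.Normal.subgroupOf hK H
  have hK0 : (Nat.card K : ℂ) ≠ 0 := by
    have : 0 < Nat.card K := Nat.card_pos
    exact_mod_cast this.ne'
  have hK₀0 : (Nat.card K₀ : ℂ) ≠ 0 := by
    have : 0 < Nat.card K₀ := Nat.card_pos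
    exact_mod_cast this.ne'
  have h2 : classVec (fun h : H => avgFun K (h : G)) ξ =
      (Nat.card K₀ : ℂ) * (Nat.card K : ℂ)⁻¹ * classVec (avgFun K₀) ξ := by
    unfold classVec
    rw [Finset.mul_sum]
    apply Finset.sum_congr rfl
    intro t _
    beta_reduce
    by_cases ht : (t : G) ∈ K
    · rw [avgFun_of_mem K ht, avgFun_of_mem K₀ (Subgroup.mem_subgroupOf.mpr ht)]
      field_simp
    · rw [avgFun_of_not_mem K ht, avgFun_of_not_mem K₀ (fun h => ht (Subgroup.mem_subgroupOf.mp h)),
        zero_mul, mul_zero]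
  rw [h2, classVec_avgFun] at h1
  by_contra hcon
  have hcon' : ¬ ∀ n ∈ K₀, (ξ : H → ℂ) n = (ξ : H → ℂ) 1 := by
    intro h
    apply hcon
    intro t ht
    exact h t (Subgroup.mem_subgroupOf.mpr ht)
  rw [if_neg hcon', mul_zero, zero_sub] at h1
  have := MemLocalIdeal.neg h1
  rw [neg_neg] at this
  exact not_memLocalIdeal_one this

/-- a Brauer pair of `B` on `Q` from an element of `C_G(Q)` with idempotent coefficient outside the
local ideal; its block induces `B` from the centralizer -/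
theorem exists_isBrauerPairOf_of_not_mem (hM : Cfsg.IsPModular p M)
    (B : Set (Cfsg.IrrCharacter G)) (hB : Cfsg.IsPBlock M B) (Q : Subgroup G)
    (hQ : IsPGroup p Q) (g₀ : G) (hg₀c : g₀ ∈ Subgroup.centralizer (Q : Set G))
    (hg₀ : ¬ Cfsg.MemLocalIdeal M (Cfsg.blockCoeff B g₀)) :
    ∃ e : Set (Cfsg.IrrCharacter (Subgroup.centralizer (Q : Set G))),
      Cfsg.IsBrauerPairOf p M B Q e ∧
        Cfsg.IsInducedBlock M (Subgroup.centralizer (Q : Set G)) e B := by
  classical
  obtain ⟨ξ, χ, hχB, hcong⟩ := exists_irr_brauer_block hM Q _ hQ le_rfl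
    (Subgroup.centralizer_le_normalizer _) B hB g₀ hg₀c hg₀
  obtain ⟨B', hB', -⟩ := existsUnique_isBrauerPairOf hM Q
    (Cfsg.blockOf M (ξ : Subgroup.centralizer (Q : Set G) → ℂ)) ⟨hQ, ξ, rfl⟩
  have h1 := brauerOmega_blockCoeff hM Q B' hB'.2.1 ξ χ hcong
  have h2 := hB'.2.2 ξ (mem_blockOf_self hM.2.1 ξ)
  have hχB' : χ ∈ B' := by
    by_contra hcon
    rw [if_neg hcon, sub_zero] at h1
    have := MemLocalIdeal.sub hM.2.1 h1 h2
    rw [sub_sub_cancel] at this
    exact not_memLocalIdeal_one this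
  have hBB' : B' = B := by
    rw [eq_blockOf_of_mem hM.2.1 B' hB'.2.1 χ hχB', eq_blockOf_of_mem hM.2.1 B hB χ hχB]
  rw [hBB'] at hB'
  refine ⟨_, hB', ?_⟩
  rw [eq_blockOf_of_mem hM.2.1 B hB χ hχB]
  exact isInducedBlock_centralizer_of_brauer hM Q ξ χ hcong

/-- **ascent along a normal inclusion of Brauer pairs** when the `π'`-core of the smaller
centralizer contains all `π'`-elements -/
theorem piKer_up_of_isNormalSubpair (hM : Cfsg.IsPModular p M) (π : Set ℕ) (hpπ : p ∈ π)
    (Q P : Subgroup G) (f : Set (Cfsg.IrrCharacter (Subgroup.centralizer (Q : Set G))))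
    (e : Set (Cfsg.IrrCharacter (Subgroup.centralizer (P : Set G))))
    (hn : Cfsg.IsNormalSubpair p M Q f P e) (hQf : PiKer π Q f) (hQH : PiHall π Q) :
    PiKer π P e ∧ PiHall π P := by
  classical
  obtain ⟨⟨hQ, hf⟩, ⟨hP, he⟩, hQP, hPN, hst, hΩ⟩ := hn
  haveI : Fintype (Subgroup.centralizer (Q : Set G)) := Fintype.ofFinite _
  haveI : Fintype (Subgroup.centralizer (P : Set G)) := Fintype.ofFinite _
  haveI : Finite (Cfsg.IrrCharacter (Subgroup.centralizer (Q : Set G))) := irr_finite
  haveI : Fintype (Cfsg.IrrCharacter (Subgroup.centralizer (Q : Set G))) := Fintype.ofFinite _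
  have hCle : Subgroup.centralizer (P : Set G) ≤ Subgroup.centralizer (Q : Set G) :=
    Subgroup.centralizer_le hQP
  set K := Cfsg.piCore {q | q ∉ π} (Subgroup.centralizer (Q : Set G)) with hK
  have hKp : ¬ p ∣ Nat.card K := not_dvd_card_piCore_compl hp.1 π hpπ
  set K' : Subgroup G := K.map (Subgroup.centralizer (Q : Set G)).subtype with hK'
  have hK'le : K' ≤ Subgroup.centralizer (Q : Set G) := Subgroup.map_subtype_le _
  have hcardK' : Nat.card K' = Nat.card K :=
    Subgroup.card_map_of_injective (Subgroup.subtype_injective _)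
  have hK'p : ¬ p ∣ Nat.card K' := by rw [hcardK']; exact hKp
  have hmemK' : ∀ y : Subgroup.centralizer (Q : Set G), (y : G) ∈ K' ↔ y ∈ K := by
    intro y
    constructor
    · rintro ⟨k, hk, hky⟩
      have : k = y := Subtype.ext hky
      rwa [← this]
    · intro hy
      exact ⟨y, hy, rfl⟩
  have hNQ : Subgroup.normalizer (Q : Set G) ≤ Subgroup.normalizer
      ((Subgroup.centralizer (Q : Set G) : Subgroup G) : Set G) :=
    fun x hx => normalizer_le_normalizer_centralizer Q hx
  have hK'norm : Subgroup.normalizer (Q : Set G) ≤ Subgroup.normalizer (K' : Set G) :=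
    hNQ.trans (normalizer_le_normalizer_piCore_map _ _)
  set K'' : Subgroup (Subgroup.centralizer (P : Set G)) :=
    K'.subgroupOf (Subgroup.centralizer (P : Set G)) with hK''
  haveI hK''n : K''.Normal := by
    refine ⟨fun n hn g => ?_⟩
    rw [hK'', Subgroup.mem_subgroupOf] at hn ⊢
    have hgN : (g : G) ∈ Subgroup.normalizer (K' : Set G) :=
      hK'norm (Subgroup.centralizer_le_normalizer _ (hCle g.2))
    exact (Subgroup.mem_normalizer_iff.mp hgN _).mp hn
  have hK''card : Nat.card K'' ∣ Nat.card K' := by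
    rw [← Subgroup.card_map_of_injective (Subgroup.subtype_injective
      (Subgroup.centralizer (P : Set G)))]
    apply Subgroup.card_dvd_of_le
    rw [hK'', Subgroup.subgroupOf_map_subtype]
    exact inf_le_left
  have hK''le : K'' ≤ Cfsg.piCore {q | q ∉ π} (Subgroup.centralizer (P : Set G)) := by
    apply le_piCore_of_normal _ _ hK''n
    intro q hq hd
    have hd2 : q ∣ Nat.card K := by rw [← hcardK']; exact hd.trans hK''card
    exact piCore_card_prime_mem {q | q ∉ π} q hq hd2
  -- every `π'`-element of `C_G(P)` lies in `K''`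
  have hmemK'' : ∀ x : Subgroup.centralizer (P : Set G),
      (∀ q : ℕ, q.Prime → q ∣ orderOf x → q ∉ π) → x ∈ K'' := by
    intro x hx
    rw [hK'', Subgroup.mem_subgroupOf]
    have h1 := hQH ⟨(x : G), hCle x.2⟩ (by
      intro q hq hd
      apply hx q hq
      rw [Subgroup.orderOf_mk] at hd
      rwa [Subgroup.orderOf_coe] at hd)
    exact (hmemK' _).mpr h1
  have hHallP : PiHall π P := fun x hx => hK''le (hmemK'' x hx)
  have hKP_le : Cfsg.piCore {q | q ∉ π} (Subgroup.centralizer (P : Set G)) ≤ K'' := by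
    intro x hx
    apply hmemK'' x
    intro q hq hd
    have hd2 : q ∣ Nat.card (Cfsg.piCore {q | q ∉ π} (Subgroup.centralizer (P : Set G))) := by
      have h1 : orderOf (⟨x, hx⟩ : Cfsg.piCore {q | q ∉ π}
          (Subgroup.centralizer (P : Set G))) = orderOf x := Subgroup.orderOf_mk x hx
      rw [← h1] at hd
      exact hd.trans (orderOf_dvd_natCard _)
    exact piCore_card_prime_mem {q | q ∉ π} q hq hd2
  refine ⟨?_, hHallP⟩
  -- the product of the block idempotent with the averaging idempotent is the block idempotent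
  have hfblock : Cfsg.IsPBlock M f := hf
  have hprod : ∀ x : Subgroup.centralizer (Q : Set G),
      cnv (Cfsg.blockCoeff f) (avgFun K) x = Cfsg.blockCoeff f x := by
    intro x
    rw [cnv_eq_idemCoeff _ _ (blockCoeff_isClassFunction f) (avgFun_isClassFunction K)]
    have h0 : classVec (Cfsg.blockCoeff f) * classVec (avgFun K) =
        classVec (Cfsg.blockCoeff f) := by
      funext θ
      rw [Pi.mul_apply, classVec_blockCoeff, classVec_avgFun]
      by_cases hθ : θ ∈ f
      · rw [if_pos (hQf θ hθ), mul_one]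
      · rw [if_neg hθ, zero_mul]
    rw [h0, idemCoeff_classVec _ (blockCoeff_isClassFunction f)]
  set β := Cfsg.subgroupBlockCoeff (Subgroup.centralizer (Q : Set G)) f with hβ
  set γ := avgFun K' with hγ
  have hγ1 : ∀ y : Subgroup.centralizer (Q : Set G), γ (y : G) = avgFun K y := by
    intro y
    by_cases hy : y ∈ K
    · rw [hγ, avgFun_of_mem K' ((hmemK' y).mpr hy), avgFun_of_mem K hy, hcardK']
    · rw [hγ, avgFun_of_not_mem K' (fun h => hy ((hmemK' y).mp h)), avgFun_of_not_mem K hy]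
  have hγ0 : ∀ x, x ∉ Subgroup.centralizer (Q : Set G) → γ x = 0 :=
    fun x hx => avgFun_of_not_mem K' (fun h => hx (hK'le h))
  have hcnv : ∀ x : Subgroup.centralizer (Q : Set G), cnv β γ (x : G) = β (x : G) := by
    intro x
    rw [cnv_ext_right (Subgroup.centralizer (Q : Set G)) β γ (avgFun K) hγ1 hγ0 x]
    have e : (fun h : Subgroup.centralizer (Q : Set G) => β (h : G)) = Cfsg.blockCoeff f := by
      funext h
      rw [hβ, subgroupBlockCoeff_of_mem _ _ _ h.2]
    rw [e, hprod x, hβ, subgroupBlockCoeff_of_mem _ _ _ x.2]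
  have hβP : ConjInv P β := conjInv_subgroupBlockCoeff_of_stabilizes _ P f hst
  have hβC : ConjInv (Subgroup.centralizer (P : Set G)) β :=
    (conjInv_subgroupBlockCoeff_self _ f).mono hCle
  have hγN : ∀ x u : G, u ∈ Subgroup.normalizer (Q : Set G) → γ (u * x * u⁻¹) = γ x :=
    fun x u hu => avgFun_conj K' x u (hK'norm hu)
  have hγP : ConjInv P γ := fun x u hu => hγN x u (hPN hu)
  have hγC : ConjInv (Subgroup.centralizer (P : Set G)) γ :=
    fun x u hu => hγN x u (Subgroup.centralizer_le_normalizer _ (hCle hu))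
  have hβloc : ∀ t, Cfsg.MemLocalRing M (β t) :=
    memLocalRing_subgroupBlockCoeff hM.2.1 _ f hfblock
  have hγloc : ∀ t, Cfsg.MemLocalRing M (γ t) := avgFun_memLocalRing hM K' hK'p
  have hKP : ¬ p ∣ Nat.card (Cfsg.piCore {q | q ∉ π} (Subgroup.centralizer (P : Set G))) :=
    not_dvd_card_piCore_compl hp.1 π hpπ
  -- it suffices to treat one member of `e`
  obtain ⟨ξ, hξe⟩ := he
  have hξ : ξ ∈ e := by rw [hξe]; exact mem_blockOf_self hM.2.1 ξ
  have heblock : Cfsg.IsPBlock M e := ⟨ξ, hξe⟩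
  have hξ1 : (ξ : Subgroup.centralizer (P : Set G) → ℂ) 1 ≠ 0 :=
    IsIrrCharacter.apply_one_ne_zero ξ.2
  suffices hξker : ∀ n ∈ K'', (ξ : Subgroup.centralizer (P : Set G) → ℂ) n =
      (ξ : Subgroup.centralizer (P : Set G) → ℂ) 1 by
    intro ξ' hξ' c hc
    exact ker_block_of_mem hM _ hKP e heblock ξ hξ
      (fun n hn => hξker n (hKP_le hn)) ξ' hξ' c hc
  by_contra hcon
  have hmult := brauerOmega_cnv hM P hP β γ hβP hβC hγP hγC hβloc hγloc ξ
  have h0 : Cfsg.brauerOmega P (cnv β γ) (ξ : Subgroup.centralizer (P : Set G) → ℂ) =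
      Cfsg.brauerOmega P β (ξ : Subgroup.centralizer (P : Set G) → ℂ) := by
    rw [brauerOmega_eq_classVec, brauerOmega_eq_classVec]
    apply Finset.sum_congr rfl
    intro x _
    have := hcnv ⟨(x : G), hCle x.2⟩
    rw [this]
  have h1 := hΩ ξ hξ
  have h2 : Cfsg.brauerOmega P γ (ξ : Subgroup.centralizer (P : Set G) → ℂ) = 0 := by
    rw [brauerOmega_eq_classVec]
    have hcv := classVec_avgFun K'' ξ
    rw [if_neg hcon] at hcv
    unfold classVec at hcv
    have hK'0 : (Nat.card K' : ℂ) ≠ 0 := by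
      have : 0 < Nat.card K' := Nat.card_pos
      exact_mod_cast this.ne'
    have h3 : ∀ t : Subgroup.centralizer (P : Set G),
        γ (t : G) * ((ξ : Subgroup.centralizer (P : Set G) → ℂ) t /
          (ξ : Subgroup.centralizer (P : Set G) → ℂ) 1) =
        (Nat.card K'' : ℂ) * (Nat.card K' : ℂ)⁻¹ *
          (avgFun K'' t * ((ξ : Subgroup.centralizer (P : Set G) → ℂ) t /
            (ξ : Subgroup.centralizer (P : Set G) → ℂ) 1)) := by
      intro t
      have hK''0 : (Nat.card K'' : ℂ) ≠ 0 := by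
        have : 0 < Nat.card K'' := Nat.card_pos
        exact_mod_cast this.ne'
      by_cases ht : (t : G) ∈ K'
      · rw [hγ, avgFun_of_mem K' ht, avgFun_of_mem K'' (Subgroup.mem_subgroupOf.mpr ht)]
        field_simp
      · rw [hγ, avgFun_of_not_mem K' ht,
          avgFun_of_not_mem K'' (fun h => ht (Subgroup.mem_subgroupOf.mp h)), zero_mul,
          mul_zero]
    rw [Finset.sum_congr rfl (fun t _ => h3 t), ← Finset.mul_sum, hcv, mul_zero]
  rw [h0, h2, mul_zero, sub_zero] at hmult
  have := MemLocalIdeal.sub hM.2.1 hmult h1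
  rw [sub_sub_cancel] at this
  exact not_memLocalIdeal_one this

/-- **ascent along an inclusion of Brauer pairs** -/
theorem piKer_up_of_reflTransGen (hM : Cfsg.IsPModular p M) (π : Set ℕ) (hpπ : p ∈ π)
    (a b : Cfsg.BrauerPairIdx G)
    (h : Relation.ReflTransGen (Cfsg.NormalSubpairRel p M) a b) (ha : PiKer π a.1 a.2)
    (haH : PiHall π a.1) : PiKer π b.1 b.2 ∧ PiHall π b.1 := by
  induction h with
  | refl => exact ⟨ha, haH⟩
  | tail _ hbc ih =>
    exact piKer_up_of_isNormalSubpair hM π hpπ _ _ _ _ hbc ih.1 ih.2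

end Vec

/-- the property is invariant under conjugation (other direction) -/
theorem piKer_conj' (π : Set ℕ) (Q : Subgroup G)
    (f : Set (Cfsg.IrrCharacter (Subgroup.centralizer (Q : Set G)))) (x : G)
    (h : PiKer π Q f) : PiKer π (Q.map (MulAut.conj x).toMonoidHom) (Cfsg.conjBlock Q x f) := by
  intro ξ' hξ' c' hc'
  rw [conjBlock_eq_image] at hξ'
  obtain ⟨ξ, hξ, rfl⟩ := hξ'
  have h2 : (centConjEquiv Q x).symm c' ∈ Cfsg.piCore {q | q ∉ π}
      (Subgroup.centralizer (Q : Set G)) := by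
    rw [← piCore_map_mulEquiv _ (centConjEquiv Q x).symm]
    exact ⟨c', hc', rfl⟩
  have h3 := h ξ hξ _ h2
  rw [irrComp_apply, irrComp_apply, map_one]
  exact h3

end Cfsg.Agent.Helper6
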