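import Mathlib
import Cfsg.Prelude.Def_Characters
import Cfsg.Prelude.Def_Blocks
import Cfsg.Prelude.Def_BlockLocal
import Cfsg.Prelude.Def_BrauerPairs
import Cfsg.Prelude.Def_OddOrderLocal
import Cfsg.Agent.Helper6.PiKerG

/-!
# A local block with the `π'`-core in its kernel forces the `π'`-core of the normalizer of the
defect group into the kernel of the Brauer correspondent
-/

set_option autoImplicit false
set_option linter.style.haveILetI false

namespace Cfsg.Agent.Helper6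

open scoped ComplexConjugate

universe u

variable {G : Type u} [Group G] {M : Ideal Cfsg.AlgInt}

section Main

variable [Fintype G] {p : ℕ} [hp : Fact p.Prime]

/-- the block of a Brauer pair induces the block of the pair from the centralizer -/
theorem isInducedBlock_of_isBrauerPairOf (hM : Cfsg.IsPModular p M)
    (B : Set (Cfsg.IrrCharacter G)) (Q : Subgroup G)
    (e : Set (Cfsg.IrrCharacter (Subgroup.centralizer (Q : Set G))))
    (hBe : Cfsg.IsBrauerPairOf p M B Q e) :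
    Cfsg.IsInducedBlock M (Subgroup.centralizer (Q : Set G)) e B := by
  classical
  obtain ⟨⟨hQ, ξ₀, rfl⟩, hB, h1⟩ := hBe
  obtain ⟨χ₀, hχ₀⟩ := exists_irr_brauerCentralChar hM Q (Subgroup.centralizer (Q : Set G)) hQ
    le_rfl (Subgroup.centralizer_le_normalizer _) ξ₀
  have h2 := brauerOmega_blockCoeff hM Q B hB ξ₀ χ₀ hχ₀
  have h3 := h1 ξ₀ (mem_blockOf_self hM.2.1 ξ₀)
  have hχ₀B : χ₀ ∈ B := by
    by_contra hcon
    rw [if_neg hcon, sub_zero] at h2
    have := MemLocalIdeal.sub hM.2.1 h2 h3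
    rw [sub_sub_cancel] at this
    exact not_memLocalIdeal_one this
  rw [eq_blockOf_of_mem hM.2.1 B hB χ₀ hχ₀B]
  exact isInducedBlock_centralizer_of_brauer hM Q ξ₀ χ₀ hχ₀

/-- **from a maximal Brauer pair to the Brauer correspondent** -/
theorem blockKer_normalizer_of_piKer (hM : Cfsg.IsPModular p M) (π : Set ℕ) (hpπ : p ∈ π)
    (B : Set (Cfsg.IrrCharacter G)) (D : Subgroup G)
    (e : Set (Cfsg.IrrCharacter (Subgroup.centralizer (D : Set G))))
    (hmax : Cfsg.IsMaximalBrauerPair p M B D e) (hPK : PiKer π D e)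
    (B₁ : Set (Cfsg.IrrCharacter (Subgroup.normalizer (D : Set G))))
    (hB₁ : Cfsg.IsInducedBlock M (Subgroup.normalizer (D : Set G)) B₁ B)
    (hB₁D : Cfsg.IsDefectGroup p M B₁ (D.subgroupOf (Subgroup.normalizer (D : Set G)))) :
    ∀ n : Subgroup.normalizer (D : Set G),
      n ∈ Cfsg.piCore {q | q ∉ π} (Subgroup.normalizer (D : Set G)) → n ∈ Cfsg.blockKer B₁ := by
  classical
  have hD : IsPGroup p D := hmax.1.1.1
  have hDN : D ≤ Subgroup.normalizer (D : Set G) := Subgroup.le_normalizer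
  have hCN : Subgroup.centralizer (D : Set G) ≤ Subgroup.normalizer (D : Set G) :=
    Subgroup.centralizer_le_normalizer _
  obtain ⟨b, hbpair, hDb, hind⟩ := normalizer_block_of_isMaximalBrauerPair hM B D e hmax
  have hbB₁ : b = B₁ := firstMain_ii_unique hM D hD B b B₁ hDb hB₁D hind hB₁
  subst hbB₁
  haveI : Fintype (Subgroup.normalizer (D : Set G)) := Fintype.ofFinite _
  set C₁ := Subgroup.centralizer
    ((D.subgroupOf (Subgroup.normalizer (D : Set G)) :
      Subgroup (Subgroup.normalizer (D : Set G))) : Set (Subgroup.normalizer (D : Set G)))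
    with hC₁
  set Φ := centSubEquiv (Subgroup.normalizer (D : Set G)) D hDN hCN with hΦ
  set e₁ := localBlock (Subgroup.normalizer (D : Set G)) D hDN hCN e with he₁
  have hind₁ : Cfsg.IsInducedBlock M C₁ e₁ b :=
    isInducedBlock_of_isBrauerPairOf hM b _ e₁ hbpair
  set K := Cfsg.piCore {q | q ∉ π} (Subgroup.normalizer (D : Set G)) with hK
  have hKp : ¬ p ∣ Nat.card K := not_dvd_card_piCore_compl hp.1 π hpπ
  have hker : ∀ ξ' ∈ e₁, ∀ h : C₁, (h : Subgroup.normalizer (D : Set G)) ∈ K →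
      (ξ' : C₁ → ℂ) h = (ξ' : C₁ → ℂ) 1 := by
    intro ξ' hξ' h hh
    obtain ⟨ζ, hζ, rfl⟩ : ∃ ζ ∈ e, irrComp Φ ζ = ξ' := hξ'
    rw [irrComp_apply, irrComp_apply, map_one]
    apply hPK ζ hζ (Φ h)
    have hK₀n : (K.subgroupOf C₁).Normal := Subgroup.Normal.subgroupOf inferInstance C₁
    have hK₀le : K.subgroupOf C₁ ≤ Cfsg.piCore {q | q ∉ π} C₁ := by
      apply le_piCore_of_normal _ _ hK₀n
      intro q hq hd
      have hd2 : q ∣ Nat.card K := by
        apply hd.trans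
        rw [← Subgroup.card_map_of_injective (Subgroup.subtype_injective C₁)]
        apply Subgroup.card_dvd_of_le
        rw [Subgroup.subgroupOf_map_subtype]
        exact inf_le_left
      exact piCore_card_prime_mem {q | q ∉ π} q hq hd2
    rw [← piCore_map_mulEquiv _ Φ]
    exact ⟨h, hK₀le (Subgroup.mem_subgroupOf.mpr hh), rfl⟩
  intro n hn χ hχ
  exact ker_of_induced hM C₁ e₁ b hind₁ K hKp hker χ hχ n hn

/-- **S4728** -/
theorem piCore_normalizer_le_blockKer_of_local (hM : Cfsg.IsPModular p M) (π : Set ℕ)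
    (hpπ : p ∈ π) (B : Set (Cfsg.IrrCharacter G)) (hB : Cfsg.IsPBlock M B) (D : Subgroup G)
    (hBD : Cfsg.IsDefectGroup p M B D)
    (B₁ : Set (Cfsg.IrrCharacter (Subgroup.normalizer (D : Set G))))
    (hB₁ : Cfsg.IsInducedBlock M (Subgroup.normalizer (D : Set G)) B₁ B)
    (hB₁D : Cfsg.IsDefectGroup p M B₁ (D.subgroupOf (Subgroup.normalizer (D : Set G))))
    (D₀ : Subgroup G) (hD₀ : IsPGroup p D₀) (H₀ : Subgroup G)
    (hH₀ : H₀ = D₀ ⊔ Subgroup.centralizer (D₀ : Set G))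
    (b : Set (Cfsg.IrrCharacter H₀)) (hb : Cfsg.IsInducedBlock M H₀ b B)
    (hcompl : ∀ x : Subgroup.centralizer (D₀ : Set G),
      (∀ q : ℕ, q.Prime → q ∣ orderOf x → q ∉ π) →
        x ∈ Cfsg.piCore {q | q ∉ π} (Subgroup.centralizer (D₀ : Set G)))
    (hkerb : ∀ x : Subgroup.centralizer (D₀ : Set G),
      x ∈ Cfsg.piCore {q | q ∉ π} (Subgroup.centralizer (D₀ : Set G)) →
        ∀ θ ∈ b, ∀ h : H₀, (h : G) = (x : G) → (θ : H₀ → ℂ) h = (θ : H₀ → ℂ) 1) :
    ∀ n : Subgroup.normalizer (D : Set G),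
      n ∈ Cfsg.piCore {q | q ∉ π} (Subgroup.normalizer (D : Set G)) → n ∈ Cfsg.blockKer B₁ := by
  classical
  haveI : Fintype H₀ := Fintype.ofFinite _
  have hD₀H₀ : D₀ ≤ H₀ := by rw [hH₀]; exact le_sup_left
  have hCH₀ : Subgroup.centralizer (D₀ : Set G) ≤ H₀ := by rw [hH₀]; exact le_sup_right
  have hH₀N : H₀ ≤ Subgroup.normalizer (D₀ : Set G) := by
    rw [hH₀]
    exact sup_le Subgroup.le_normalizer (Subgroup.centralizer_le_normalizer _)
  have hbb : Cfsg.IsPBlock M b := hb.1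
  haveI hD₀n : (D₀.subgroupOf H₀).Normal :=
    (Subgroup.normal_subgroupOf_iff_le_normalizer hD₀H₀).mpr hH₀N
  have hD₀'p : IsPGroup p (D₀.subgroupOf H₀) := hD₀.comap_subtype
  -- a Brauer pair of `b` on the normal subgroup
  obtain ⟨g₀, hg₀⟩ := exists_defectClass hM.2.1 b hbb
  obtain ⟨θ₀, hθ₀b⟩ := hbb
  have hθ₀ : θ₀ ∈ b := by rw [hθ₀b]; exact mem_blockOf_self hM.2.1 θ₀
  have hbb : Cfsg.IsPBlock M b := ⟨θ₀, hθ₀b⟩
  have hg₀c : g₀ ∈ Subgroup.centralizer ((D₀.subgroupOf H₀ : Subgroup H₀) : Set H₀) := by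
    by_contra hcon
    exact hg₀.2.2 θ₀ hθ₀
      (centralChar_memLocalIdeal_of_not_mem_centralizer hM (D₀.subgroupOf H₀) hD₀'p θ₀ g₀ hcon)
  set C₀ := Subgroup.centralizer ((D₀.subgroupOf H₀ : Subgroup H₀) : Set H₀) with hC₀
  obtain ⟨e', hpair', hind'⟩ := exists_isBrauerPairOf_of_not_mem hM b hbb (D₀.subgroupOf H₀)
    hD₀'p g₀ hg₀c hg₀.2.1
  set Φ := centSubEquiv H₀ D₀ hD₀H₀ hCH₀ with hΦ
  set f₀ := irrComp Φ.symm '' e' with hf₀def
  have hf₀ : Cfsg.IsPBlock M f₀ := isPBlock_image_irrComp Φ.symm e' hpair'.1.2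
  have he'eq : e' = localBlock H₀ D₀ hD₀H₀ hCH₀ f₀ := (image_irrComp_symm_cancel Φ e').symm
  -- `(D₀, f₀)` is a Brauer pair of `B`
  obtain ⟨B', hB', -⟩ := existsUnique_isBrauerPairOf hM D₀ f₀ ⟨hD₀, hf₀⟩
  have hpair'' : Cfsg.IsBrauerPairOf p M b (D₀.subgroupOf H₀)
      (localBlock H₀ D₀ hD₀H₀ hCH₀ f₀) := by rw [← he'eq]; exact hpair'
  have hindB' := isInducedBlock_of_localBlock hM D₀ H₀ hD₀H₀ hCH₀ hH₀N B' f₀ hB' b hpair''
  have hBB' : B' = B := isInducedBlock_unique hM.2.1 H₀ b B' B hindB' hb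
  rw [hBB'] at hB'
  -- the kernel property of `(D₀, f₀)`
  set KG : Subgroup G := (Cfsg.piCore {q | q ∉ π} (Subgroup.centralizer (D₀ : Set G))).map
    (Subgroup.centralizer (D₀ : Set G)).subtype with hKG
  have hKGle : KG ≤ H₀ := (Subgroup.map_subtype_le _).trans hCH₀
  have hKGn : H₀ ≤ Subgroup.normalizer (KG : Set G) :=
    (hH₀N.trans (fun x hx => normalizer_le_normalizer_centralizer D₀ hx)).trans
      (normalizer_le_normalizer_piCore_map _ _)
  haveI hKn : (KG.subgroupOf H₀).Normal :=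
    (Subgroup.normal_subgroupOf_iff_le_normalizer hKGle).mpr hKGn
  have hKp : ¬ p ∣ Nat.card (KG.subgroupOf H₀) := by
    rw [Nat.card_congr (Subgroup.subgroupOfEquivOfLe hKGle).toEquiv, hKG,
      Subgroup.card_map_of_injective (Subgroup.subtype_injective _)]
    exact not_dvd_card_piCore_compl hp.1 π hpπ
  have hkerK : ∀ χ ∈ b, ∀ k ∈ KG.subgroupOf H₀, (χ : H₀ → ℂ) k = (χ : H₀ → ℂ) 1 := by
    intro χ hχ k hk
    rw [Subgroup.mem_subgroupOf] at hk
    obtain ⟨x, hx, hxk⟩ := hk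
    exact hkerb x hx χ hχ k hxk.symm
  have hrev := ker_of_induced_rev hM C₀ e' b hind' (KG.subgroupOf H₀) hKp hkerK
  have hPK₀ : PiKer π D₀ f₀ := by
    intro ζ hζ c hc
    have hξ : irrComp Φ ζ ∈ e' := by
      rw [he'eq]
      exact ⟨ζ, hζ, rfl⟩
    have h1 := hrev (irrComp Φ ζ) hξ (Φ.symm c) (by
      rw [Subgroup.mem_subgroupOf]
      exact ⟨c, hc, rfl⟩)
    rw [irrComp_apply, irrComp_apply, MulEquiv.apply_symm_apply, map_one] at h1
    exact h1
  have hPH₀ : PiHall π D₀ := hcompl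
  -- ascend to a maximal pair
  obtain ⟨R, g, hle, hRmax⟩ := exists_isMaximalBrauerPair_ge (M := M) (p := p) B _ D₀ f₀ hB' rfl
  obtain ⟨hPKR, -⟩ := piKer_up_of_reflTransGen hM π hpπ ⟨D₀, f₀⟩ ⟨R, g⟩ hle hPK₀ hPH₀
  have hDR := isDefectGroup_of_isMaximalBrauerPair hM B R g hRmax
  obtain ⟨x, hx⟩ := exists_conj_eq_of_isDefectGroup hM B hB D R hBD hDR
  subst hx
  have hBx := isBrauerPairOf_conj (M := M) B R g x hRmax.1
  have hcard : Nat.card (R.map (MulAut.conj x).toMonoidHom : Subgroup G) =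
      p ^ Cfsg.blockDefect p B := card_defectGroup hM.2.1 p hM.2.2 B hB _ hBD
  have hmaxx := isMaximalBrauerPair_of_card_eq hM B _ _ hBx hcard
  exact blockKer_normalizer_of_piKer hM π hpπ B _ _ hmaxx (piKer_conj' π R g x hPKR) B₁ hB₁ hB₁D

end Main

end Cfsg.Agent.Helper6
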