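import Mathlib
import Cfsg.Prelude.Def_Characters
import Cfsg.Prelude.Def_Blocks
import Cfsg.Prelude.Def_BlockLocal
import Cfsg.Prelude.Def_BrauerPairs
import Cfsg.Agent.Helper6.BlkNestA
import Cfsg.Agent.Helper6.SubgroupPairLift
import Cfsg.Agent.Helper6.PiKerH
import Cfsg.Agent.Helper6.PairConj2
import Cfsg.Agent.Helper6.MaximalPairNormalizer

/-!
# Induced blocks from subgroups containing the centralizer of a defect group
-/

set_option autoImplicit false
set_option linter.style.haveILetI false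

namespace Cfsg.Agent.Helper6

open scoped ComplexConjugate

universe u

variable {G : Type u} [Group G] {M : Ideal Cfsg.AlgInt}

/-- the core of the theorem: a block `B₀` induced by `b`, with a maximal pair above the root -/
theorem induced_of_centralizer_le_aux [Fintype G] {p : ℕ} [hp : Fact p.Prime]
    (hM : Cfsg.IsPModular p M) (H : Subgroup G) (b : Set (Cfsg.IrrCharacter H))
    (hb : Cfsg.IsPBlock M b) (D₀ : Subgroup H) (hD₀ : Cfsg.IsDefectGroup p M b D₀)
    (hC : Subgroup.centralizer ((D₀.map H.subtype : Subgroup G) : Set G) ≤ H) :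
    ∃ (B₀ : Set (Cfsg.IrrCharacter G)) (P : Subgroup G), Cfsg.IsInducedBlock M H b B₀ ∧
      Cfsg.IsDefectGroup p M B₀ P ∧ D₀.map H.subtype ≤ P ∧
      ∀ z ∈ P, z ∈ Subgroup.centralizer ((D₀.map H.subtype : Subgroup G) : Set G) →
        z ∈ D₀.map H.subtype := by
  classical
  haveI : Fintype H := Fintype.ofFinite H
  set Q : Subgroup G := D₀.map H.subtype with hQdef
  obtain ⟨eH, hmaxH⟩ := exists_isBrauerPairOf_of_isDefectGroup hM b hb D₀ hD₀
  have hQ : IsPGroup p Q := hmaxH.1.1.1.map _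
  set e := upBlock H D₀ hC eH with he
  have heB : Cfsg.IsPBlock M e := isPBlock_upBlock H D₀ hC eH hmaxH.1.1.2
  obtain ⟨B₀, hB₀, -⟩ := existsUnique_isBrauerPairOf hM Q e ⟨hQ, heB⟩
  have hind₀ := isInducedBlock_of_isBrauerPairOf hM B₀ Q e hB₀
  have hindH := isInducedBlock_of_isBrauerPairOf hM b D₀ eH hmaxH.1
  have hbB₀ : Cfsg.IsInducedBlock M H b B₀ :=
    isInducedBlock_trans_of_equiv hM.2.1 H (Subgroup.centralizer (D₀ : Set H))
      (Subgroup.centralizer (Q : Set G)) (centMapEquiv H D₀ hC)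
      (fun c => coe_centMapEquiv H D₀ hC c) eH b B₀ hindH hind₀
  obtain ⟨P, eP, hle, hmaxP⟩ := exists_isMaximalBrauerPair_ge (M := M) (p := p) B₀ _ Q e hB₀ rfl
  have hPdef := isDefectGroup_of_isMaximalBrauerPair hM B₀ P eP hmaxP
  have hQP : Q ≤ P := SubpairLE.le hle
  obtain ⟨⟨Df, hDf, hCP⟩, -⟩ := centralizer_defectGroup hM B₀ P Q eP e hmaxP hQP hle
  have hDf' := isDefectGroup_comap_mulEquiv (M := M) (p := p) (centMapEquiv H D₀ hC) e Df hDf
  have himg : irrComp (centMapEquiv H D₀ hC) '' e = eH := by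
    rw [he]
    unfold upBlock
    rw [Set.image_image]
    simp only [irrComp_symm_cancel]
    exact Set.image_id' eH
  rw [himg] at hDf'
  have hle' := defectGroup_map_le_of_isMaximalBrauerPair hM b D₀ eH hmaxH _ hDf'
  refine ⟨B₀, P, hbB₀, hPdef, hQP, ?_⟩
  intro z hzP hzC
  have hzDf : (⟨z, hzC⟩ : Subgroup.centralizer (Q : Set G)) ∈ Df := by
    apply hCP
    rw [Subgroup.mem_subgroupOf]
    exact ⟨hzP, hzC⟩
  have h1 : (centMapEquiv H D₀ hC).symm ⟨z, hzC⟩ ∈
      Df.comap (centMapEquiv H D₀ hC).toMonoidHom := by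
    rw [Subgroup.mem_comap]
    have e1 : (centMapEquiv H D₀ hC).toMonoidHom ((centMapEquiv H D₀ hC).symm ⟨z, hzC⟩) =
        ⟨z, hzC⟩ := (centMapEquiv H D₀ hC).apply_symm_apply ⟨z, hzC⟩
    rw [e1]
    exact hzDf
  have h2 : (((centMapEquiv H D₀ hC).symm ⟨z, hzC⟩ : Subgroup.centralizer (D₀ : Set H)) : H) ∈
      D₀ := hle' ⟨_, h1, rfl⟩
  exact ⟨_, h2, coe_centMapEquiv_symm H D₀ hC ⟨z, hzC⟩⟩

/-- **a block `b` of `H` with defect group `D₀` and `C_G(D₀) ≤ H` induces a block of `G` having a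
defect group `D` with `Z(D) ≤ Z(D₀) ≤ D₀ ≤ D`** -/
theorem induced_of_centralizer_le [Finite G] {p : ℕ} [hp : Fact p.Prime]
    (hM : Cfsg.IsPModular p M) (H : Subgroup G) (b : Set (Cfsg.IrrCharacter H))
    (hb : Cfsg.IsPBlock M b) (D₀ : Subgroup H) (hD₀ : Cfsg.IsDefectGroup p M b D₀)
    (hC : Subgroup.centralizer ((D₀.map H.subtype : Subgroup G) : Set G) ≤ H) :
    Cfsg.InducedBlockDefined M H b ∧
      ∀ B : Set (Cfsg.IrrCharacter G), Cfsg.IsInducedBlock M H b B →
        (∃ D : Subgroup G, Cfsg.IsDefectGroup p M B D ∧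
          (Subgroup.center D).map D.subtype ≤
            ((Subgroup.center D₀).map D₀.subtype).map H.subtype ∧
          ((Subgroup.center D₀).map D₀.subtype).map H.subtype ≤ D₀.map H.subtype ∧
          D₀.map H.subtype ≤ D) ∧
        (∀ D : Subgroup G, Cfsg.IsDefectGroup p M B D → IsMulCommutative D →
          Cfsg.IsDefectGroup p M B (D₀.map H.subtype)) := by
  classical
  haveI := Fintype.ofFinite G
  obtain ⟨B₀, P, hbB₀, hPdef, hQP, hkey⟩ := induced_of_centralizer_le_aux hM H b hb D₀ hD₀ hC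
  refine ⟨⟨B₀, hbB₀⟩, fun B hB => ?_⟩
  have hBB : B = B₀ := isInducedBlock_unique hM.2.1 H b B B₀ hB hbB₀
  subst hBB
  have hcenter : ∀ z : G, z ∈ P → (∀ u ∈ P, u * z = z * u) →
      z ∈ ((Subgroup.center D₀).map D₀.subtype).map H.subtype := by
    intro z hzP hz
    have hzC : z ∈ Subgroup.centralizer ((D₀.map H.subtype : Subgroup G) : Set G) := by
      rw [Subgroup.mem_centralizer_iff]
      intro u hu
      exact hz u (hQP hu)
    obtain ⟨d, hd, hdz⟩ := hkey z hzP hzC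
    refine ⟨d, ⟨⟨d, hd⟩, ?_, rfl⟩, hdz⟩
    show (⟨d, hd⟩ : D₀) ∈ Subgroup.center D₀
    rw [Subgroup.mem_center_iff]
    intro d'
    apply Subtype.ext
    apply Subtype.ext
    have h1 : ((d' : H) : G) ∈ P := hQP ⟨(d' : H), d'.2, rfl⟩
    have h2 := hz _ h1
    rw [← hdz] at h2
    exact h2
  constructor
  · refine ⟨P, hPdef, ?_, ?_, hQP⟩
    · rintro _ ⟨w, hw, rfl⟩
      apply hcenter _ w.2
      intro u hu
      have := Subgroup.mem_center_iff.mp hw ⟨u, hu⟩
      exact congrArg Subtype.val this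
    · exact Subgroup.map_mono (Subgroup.map_subtype_le _)
  · intro D hD hcomm
    obtain ⟨x, hx⟩ := exists_conj_eq_of_isDefectGroup hM B hB.2.1 P D hPdef hD
    have hPcomm : ∀ u ∈ P, ∀ v ∈ P, u * v = v * u := by
      intro u hu v hv
      rw [← hx] at hu hv
      obtain ⟨u', hu', rfl⟩ := hu
      obtain ⟨v', hv', rfl⟩ := hv
      have h1 : (⟨u', hu'⟩ : D) * ⟨v', hv'⟩ = ⟨v', hv'⟩ * ⟨u', hu'⟩ :=
        hcomm.is_comm.comm _ _
      have h2 : u' * v' = v' * u' := congrArg Subtype.val h1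
      simp only [MulEquiv.coe_toMonoidHom, MulAut.conj_apply]
      calc x * u' * x⁻¹ * (x * v' * x⁻¹) = x * (u' * v') * x⁻¹ := by group
        _ = x * (v' * u') * x⁻¹ := by rw [h2]
        _ = x * v' * x⁻¹ * (x * u' * x⁻¹) := by group
    have hPQ : P ≤ D₀.map H.subtype := by
      intro z hz
      have h1 := hcenter z hz (fun u hu => hPcomm u hu z hz)
      exact Subgroup.map_mono (Subgroup.map_subtype_le _) h1
    rw [le_antisymm hQP hPQ]
    exact hPdef

end Cfsg.Agent.Helper6
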