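import Mathlib
import Cfsg.Prelude.Def_Characters
import Cfsg.Prelude.Def_Blocks
import Cfsg.Agent.Helper6.OsimaSupport
import Cfsg.Agent.Helper6.RepEigen
import Cfsg.Agent.Helper6.DadeIso

/-!
# Block idempotent coefficients lie in the field of `p'`-roots of unity
-/

set_option autoImplicit false
set_option linter.style.haveILetI false

namespace Cfsg.Agent.Helper6

open Module
open scoped ComplexConjugate

universe u

variable {G : Type u} [Group G] {M : Ideal Cfsg.AlgInt}

/-- A character value at an element of order dividing `m` lies in the `m`-th cyclotomic field. -/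
theorem char_mem_adjoin_of_orderOf_dvd [Finite G] {χ : G → ℂ} (hχ : Cfsg.IsCharacter G χ) (g : G)
    (m : ℕ) (hm : m ≠ 0) (hg : orderOf g ∣ m) :
    χ g ∈ IntermediateField.adjoin ℚ
      ({Complex.exp (2 * Real.pi * Complex.I / (m : ℂ))} : Set ℂ) := by
  obtain ⟨n, ρ, rfl⟩ := hχ
  obtain ⟨ι, hι, b, μ, h1, h2, -⟩ := exists_eigenbasis_rep ρ g
  unfold Representation.character
  rw [trace_eq_sum_of_eigenbasis b (ρ g) μ h1]
  apply Subfield.sum_mem
  intro i _
  have hprim := Complex.isPrimitiveRoot_exp m hm
  have hpow : μ i ^ m = 1 := by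
    obtain ⟨k, rfl⟩ := hg
    rw [pow_mul, h2 i, one_pow]
  haveI : NeZero m := ⟨hm⟩
  obtain ⟨j, -, hj⟩ := hprim.eq_pow_of_pow_eq_one hpow
  rw [← hj]
  apply Subfield.pow_mem
  exact IntermediateField.subset_adjoin ℚ _ (Set.mem_singleton _)

/-- **S4664.** -/
theorem blockCoeff_mem_adjoin [Finite G] (hM : M.IsMaximal) (p : ℕ) [hp : Fact p.Prime]
    (hpM : (p : Cfsg.AlgInt) ∈ M) (B : Set (Cfsg.IrrCharacter G)) (hB : Cfsg.IsPBlock M B)
    (g : G) :
    Cfsg.blockCoeff B g ∈ IntermediateField.adjoin ℚ
      ({Complex.exp (2 * Real.pi * Complex.I /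
        ((Nat.card G / p ^ (Nat.card G).factorization p : ℕ) : ℂ))} : Set ℂ) := by
  classical
  haveI : Finite (Cfsg.IrrCharacter G) := irr_finite
  haveI : Fintype (Cfsg.IrrCharacter G) := Fintype.ofFinite _
  by_cases hg : p ∣ orderOf g
  · rw [blockCoeff_eq_zero_of_singular hM p hpM B hB g hg]
    exact Subfield.zero_mem _
  · have hG0 : Nat.card G ≠ 0 := Nat.card_pos.ne'
    set m := Nat.card G / p ^ (Nat.card G).factorization p with hmdef
    have hm0 : m ≠ 0 := by
      have := Nat.ordCompl_pos p hG0
      exact this.ne'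
    have hgm : orderOf g ∣ m := by
      have h1 : orderOf g ∣ Nat.card G := orderOf_dvd_natCard g
      have h2 : Nat.card G = p ^ (Nat.card G).factorization p * m :=
        (Nat.ordProj_mul_ordCompl_eq_self (Nat.card G) p).symm
      have hcop : Nat.Coprime (orderOf g) (p ^ (Nat.card G).factorization p) := by
        apply Nat.Coprime.pow_right
        exact ((Nat.Prime.coprime_iff_not_dvd hp.out).mpr hg).symm
      rw [h2] at h1
      exact hcop.dvd_of_dvd_mul_left h1
    have hginv : orderOf g⁻¹ ∣ m := by rwa [orderOf_inv]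
    unfold Cfsg.blockCoeff
    rw [finsum_mem_eq_sum_ite]
    apply Subfield.mul_mem
    · apply Subfield.inv_mem
      exact natCast_mem _ _
    · apply Subfield.sum_mem
      intro χ _
      split_ifs
      · apply Subfield.mul_mem
        · obtain ⟨d, hd⟩ := IsCharacter.apply_one (IsIrrCharacter.isCharacter χ.2)
          rw [hd]
          exact natCast_mem _ _
        · rw [← IsCharacter.inv_eq_conj (IsIrrCharacter.isCharacter χ.2) g]
          exact char_mem_adjoin_of_orderOf_dvd (IsIrrCharacter.isCharacter χ.2) g⁻¹ m hm0 hginv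
      · exact Subfield.zero_mem _

end Cfsg.Agent.Helper6
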