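import Mathlib
import Cfsg.Prelude.Def_Characters
import Cfsg.Prelude.Def_Blocks
import Cfsg.Prelude.Def_BlockLocal
import Cfsg.Prelude.Def_BrauerPairs
import Cfsg.Prelude.Def_FusionSystem
import Cfsg.Prelude.Def_BlockFusion
import Cfsg.Agent.Helper6.BlockFusionRec1

/-!
# The fusion system of a block: fully normalized subgroups are receptive
-/

set_option autoImplicit false
set_option linter.style.haveILetI false

namespace Cfsg.Agent.Helper6

open scoped ComplexConjugate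

universe u

variable {G : Type u} [Group G] {M : Ideal Cfsg.AlgInt}

set_option maxHeartbeats 4000000 in
/-- **fully normalized subgroups are receptive** in the fusion system of a block -/
theorem isReceptive_of_isFullyNormalized [Fintype G] {p : ℕ} [hp : Fact p.Prime]
    (hM : Cfsg.IsPModular p M) (B : Set (Cfsg.IrrCharacter G)) (P : Subgroup G)
    (e : Set (Cfsg.IrrCharacter (Subgroup.centralizer (P : Set G))))
    (hmax : Cfsg.IsMaximalBrauerPair p M B P e)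
    (F : Cfsg.FusionSystem P) (hF : Cfsg.IsBlockFusionSystemOn p M B P e F) (R : Subgroup G)
    (fR : Set (Cfsg.IrrCharacter (Subgroup.centralizer (R : Set G)))) (hRP : R ≤ P)
    (hfR : Cfsg.IsPBlock M fR) (hle : Cfsg.SubpairLE p M R fR P e)
    (hfn : F.IsFullyNormalized R) : F.IsReceptive R := by
  classical
  have hpp := hp.out
  have hPe : Cfsg.IsBrauerPair p M P e := hmax.1.1
  have hP : IsPGroup p P := hPe.1
  refine ⟨hRP, fun Q φ hφ hrange => ?_⟩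
  obtain ⟨hQP, g, hφg, hQg, fQ, hleQ, hleQg⟩ := (hF.2 Q φ).mp hφ
  have hR : Q.map (MulAut.conj g).toMonoidHom = R := by
    rw [← hrange]
    ext w
    constructor
    · rintro ⟨u, hu, rfl⟩
      exact ⟨⟨u, hu⟩, hφg ⟨u, hu⟩⟩
    · rintro ⟨u, rfl⟩
      exact ⟨(u : G), u.2, (hφg u).symm⟩
  have hpairQ : conjPair g ⟨Q, fQ⟩ = (⟨R, fR⟩ : Cfsg.BrauerPairIdx G) :=
    pair_eq_of_le_of_fst_eq hM ⟨P, e⟩ hPe _ _ hleQg hle hR
  have hφR : ∀ u : Q, φ u ∈ R := fun u => by rw [← hrange]; exact ⟨u, rfl⟩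
  have hRmem : ∀ r ∈ R, ∃ x : Q, r = g * (x : G) * g⁻¹ := by
    intro r hr
    rw [← hR] at hr
    obtain ⟨x, hx, rfl⟩ := hr
    exact ⟨⟨x, hx⟩, rfl⟩
  -- the subgroup `T₁ = C_G(R) N_P(R)`
  have hDNC : P ⊓ Subgroup.normalizer (R : Set G) ≤
      Subgroup.normalizer ((Subgroup.centralizer (R : Set G) : Subgroup G) : Set G) :=
    fun x hx => normalizer_le_normalizer_centralizer R hx.2
  obtain ⟨T₁, hT₁⟩ : ∃ T₁ : Subgroup G, T₁ = Subgroup.centralizer (R : Set G) ⊔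
      (P ⊓ Subgroup.normalizer (R : Set G)) := ⟨_, rfl⟩
  haveI : Fintype T₁ := Fintype.ofFinite _
  have hCT₁ : Subgroup.centralizer (R : Set G) ≤ T₁ := by rw [hT₁]; exact le_sup_left
  have hDT₁ : P ⊓ Subgroup.normalizer (R : Set G) ≤ T₁ := by rw [hT₁]; exact le_sup_right
  have hRD : R ≤ P ⊓ Subgroup.normalizer (R : Set G) := le_inf hRP Subgroup.le_normalizer
  have hRT₁ : R ≤ T₁ := hRD.trans hDT₁
  have hT₁N : T₁ ≤ Subgroup.normalizer (R : Set G) := by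
    rw [hT₁]; exact sup_le (Subgroup.centralizer_le_normalizer _) inf_le_right
  have hT₁mem : ∀ t ∈ T₁, ∃ n ∈ Subgroup.centralizer (R : Set G),
      ∃ a ∈ P ⊓ Subgroup.normalizer (R : Set G), t = n * a := by
    intro t ht
    rw [hT₁, ← SetLike.mem_coe, Subgroup.coe_mul_of_right_le_normalizer_left _ _ hDNC] at ht
    obtain ⟨n, hn, a, ha, rfl⟩ := ht
    exact ⟨n, hn, a, ha, rfl⟩
  have hT₁mem' : ∀ t ∈ T₁, ∃ a ∈ P ⊓ Subgroup.normalizer (R : Set G),
      ∃ n ∈ Subgroup.centralizer (R : Set G), t = a * n := by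
    intro t ht
    rw [hT₁, sup_comm, ← SetLike.mem_coe,
      Subgroup.coe_mul_of_left_le_normalizer_right _ _ hDNC] at ht
    obtain ⟨a, ha, n, hn, rfl⟩ := ht
    exact ⟨a, ha, n, hn, rfl⟩
  have hstD : ∀ x ∈ P ⊓ Subgroup.normalizer (R : Set G),
      Cfsg.StabilizesBlock (Subgroup.centralizer (R : Set G)) fR x := fun x hx =>
    stabilizesBlock_of_subpairLE hM P R e fR hPe hRP hle x hx.1 hx.2
  have hst₁ : ∀ x ∈ T₁, Cfsg.StabilizesBlock (Subgroup.centralizer (R : Set G)) fR x := by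
    intro x hx
    obtain ⟨n, hn, a, ha, rfl⟩ := hT₁mem x hx
    exact stabilizesBlock_mul _ _ n a (stabilizesBlock_of_mem_centralizer _ _ n hn) (hstD a ha)
  haveI hRn : (R.subgroupOf T₁).Normal :=
    (Subgroup.normal_subgroupOf_iff_le_normalizer hRT₁).mpr hT₁N
  -- the index of the centralizer in `T₁`
  have hDp : IsPGroup p (P ⊓ Subgroup.normalizer (R : Set G) : Subgroup G) := hP.to_le inf_le_left
  have hsup : (P ⊓ Subgroup.normalizer (R : Set G)).subgroupOf T₁ ⊔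
      Subgroup.centralizer ((R.subgroupOf T₁ : Subgroup T₁) : Set T₁) = ⊤ := by
    rw [eq_top_iff]
    intro t _
    obtain ⟨a, ha, n, hn, htan⟩ := hT₁mem' (t : G) t.2
    have h1 : t = (⟨a, hDT₁ ha⟩ : T₁) * ⟨n, hCT₁ hn⟩ := Subtype.ext htan
    rw [h1]
    exact Subgroup.mul_mem _
      (Subgroup.mem_sup_left (Subgroup.mem_subgroupOf.mpr ha))
      (Subgroup.mem_sup_right ((mem_centralizer_subgroupOf_iff T₁ R hRT₁ _).mpr hn))
  have hidxrel : (Subgroup.centralizer ((R.subgroupOf T₁ : Subgroup T₁) : Set T₁)).index =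
      (Subgroup.centralizer ((R.subgroupOf T₁ : Subgroup T₁) : Set T₁)).relIndex
        ((P ⊓ Subgroup.normalizer (R : Set G)).subgroupOf T₁) := by
    rw [← Subgroup.relIndex_sup_right, hsup, Subgroup.relIndex_top_right]
  have hcardD : Nat.card (((P ⊓ Subgroup.normalizer (R : Set G)).subgroupOf T₁ ⊓
      Subgroup.centralizer ((R.subgroupOf T₁ : Subgroup T₁) : Set T₁) : Subgroup T₁)) *
      (Subgroup.centralizer ((R.subgroupOf T₁ : Subgroup T₁) : Set T₁)).relIndex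
        ((P ⊓ Subgroup.normalizer (R : Set G)).subgroupOf T₁) =
      Nat.card ((P ⊓ Subgroup.normalizer (R : Set G)).subgroupOf T₁) := by
    have h1 := Subgroup.relIndex_mul_relIndex (⊥ : Subgroup T₁)
      ((P ⊓ Subgroup.normalizer (R : Set G)).subgroupOf T₁ ⊓
        Subgroup.centralizer ((R.subgroupOf T₁ : Subgroup T₁) : Set T₁))
      ((P ⊓ Subgroup.normalizer (R : Set G)).subgroupOf T₁) bot_le inf_le_left
    rw [Subgroup.relIndex_bot_left, Subgroup.relIndex_bot_left, Subgroup.inf_relIndex_left] at h1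
    exact h1
  have hcardDC : Nat.card (((P ⊓ Subgroup.normalizer (R : Set G)).subgroupOf T₁ ⊓
      Subgroup.centralizer ((R.subgroupOf T₁ : Subgroup T₁) : Set T₁) : Subgroup T₁)) =
      p ^ Cfsg.blockDefect p fR := by
    rw [subgroupOf_inf_centralizer T₁ R _ hRT₁,
      Nat.card_congr (Subgroup.subgroupOfEquivOfLe
        (inf_le_right.trans hCT₁ : P ⊓ Subgroup.normalizer (R : Set G) ⊓
          Subgroup.centralizer (R : Set G) ≤ T₁)).toEquiv]
    exact card_inf_centralizer_of_isFullyNormalized hM B P e hmax F hF R fR hRP hfR hle hfn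
  obtain ⟨k, hk⟩ : ∃ k : ℕ,
      (Subgroup.centralizer ((R.subgroupOf T₁ : Subgroup T₁) : Set T₁)).index = p ^ k := by
    obtain ⟨m, hm⟩ := IsPGroup.iff_card.mp
      (hDp.comap_subtype : IsPGroup p ((P ⊓ Subgroup.normalizer (R : Set G)).subgroupOf T₁))
    have hm' : Nat.card ((P ⊓ Subgroup.normalizer (R : Set G)).subgroupOf T₁) = p ^ m := hm
    have hdvd : (Subgroup.centralizer ((R.subgroupOf T₁ : Subgroup T₁) : Set T₁)).relIndex
        ((P ⊓ Subgroup.normalizer (R : Set G)).subgroupOf T₁) ∣ p ^ m := by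
      rw [← hm', ← hcardD]
      exact Dvd.intro_left _ rfl
    obtain ⟨k, -, hk⟩ := (Nat.dvd_prime_pow hpp).mp hdvd
    exact ⟨k, by rw [hidxrel, hk]⟩
  obtain ⟨F₁, hF₁, hcoef₁, hcardF₁⟩ := exists_block_of_le_stabilizer hM R fR hfR T₁ hRT₁ hCT₁
    hT₁N hst₁ k hk
  -- the maximal pair of `F₁`
  have hNP : P ⊓ Subgroup.normalizer (R : Set G) ≤ P := inf_le_left
  obtain ⟨e₀, hfe₀, hlee₀⟩ := exists_subpairLE hM _ P _ e hPe hNP rfl
  obtain ⟨f'', hf'', -⟩ := existsUnique_isNormalSubpair hM _ R e₀ ⟨hP.to_le hNP, hfe₀⟩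
    hRD inf_le_right
  have hstep₀ : Cfsg.NormalSubpairRel p M (⟨R, f''⟩ : Cfsg.BrauerPairIdx G) ⟨_, e₀⟩ := hf''
  have hle'' : Cfsg.SubpairLE p M R f'' P e := Relation.ReflTransGen.head hstep₀ hlee₀
  have hff₀ : f'' = fR := subpairLE_unique hM _ P R e hPe hRP rfl f'' fR hle'' hle
  rw [hff₀] at hf''
  have hCDT₁ : Subgroup.centralizer
      ((P ⊓ Subgroup.normalizer (R : Set G) : Subgroup G) : Set G) ≤ T₁ :=
    le_trans (Subgroup.centralizer_le (by exact_mod_cast hRD)) hCT₁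
  have hpair₀ := isBrauerPairOf_stabilizer_of_isNormalSubpair (M := M) (p := p) R _ T₁ fR e₀
    hf'' hDT₁ hCDT₁ F₁ hF₁ hcoef₁
  have hcardmax : Nat.card ((P ⊓ Subgroup.normalizer (R : Set G)).subgroupOf T₁) =
      p ^ Cfsg.blockDefect p F₁ := by
    obtain ⟨D₁, hD₁⟩ := exists_isDefectGroup hM.2.1 p F₁ hF₁
    rw [← card_defectGroup hM.2.1 p hM.2.2 F₁ hF₁ D₁ hD₁, hcardF₁ D₁ hD₁, ← hcardD, hcardDC,
      ← hidxrel, hk]
  have hmax₁ := isMaximalBrauerPair_of_card_eq hM F₁ _ _ hpair₀ hcardmax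
  -- the extender
  obtain ⟨E, hE⟩ : ∃ E : Subgroup G, E = Cfsg.FusionSystem.extender P Q φ := ⟨_, rfl⟩
  have hEle : E ≤ (P ⊓ Subgroup.normalizer (Q : Set G)) ⊓
      T₁.comap (MulAut.conj g).toMonoidHom := by
    rw [hE]
    unfold Cfsg.FusionSystem.extender
    rw [Subgroup.closure_le]
    rintro y ⟨hyP, hyN, h, hhP, hh⟩
    refine ⟨⟨hyP, hyN⟩, ?_⟩
    show g * y * g⁻¹ ∈ T₁
    have hyx : ∀ x : Q, y * (x : G) * y⁻¹ ∈ Q := fun x =>
      (Subgroup.mem_normalizer_iff.mp hyN (x : G)).mp x.2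
    have hhR : ∀ r ∈ R, h * r * h⁻¹ ∈ R := by
      intro r hr
      obtain ⟨x, rfl⟩ := hRmem r hr
      rw [← hφg x, ← hh x (hyx x)]
      exact hφR _
    have hhN : h ∈ Subgroup.normalizer (R : Set G) := mem_normalizer_of_forall_conj_mem R h hhR
    have hcC : h⁻¹ * (g * y * g⁻¹) ∈ Subgroup.centralizer (R : Set G) := by
      rw [Subgroup.mem_centralizer_iff]
      intro r hr
      obtain ⟨x, rfl⟩ := hRmem r hr
      have h1 := hh x (hyx x)
      rw [hφg, hφg] at h1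
      have h2 : g * (y * (x : G) * y⁻¹) * g⁻¹ = h * (g * (x : G) * g⁻¹) * h⁻¹ := h1
      calc g * (x : G) * g⁻¹ * (h⁻¹ * (g * y * g⁻¹))
          = h⁻¹ * (h * (g * (x : G) * g⁻¹) * h⁻¹) * (g * y * g⁻¹) := by group
        _ = h⁻¹ * (g * (y * (x : G) * y⁻¹) * g⁻¹) * (g * y * g⁻¹) := by rw [h2]
        _ = h⁻¹ * (g * y * g⁻¹) * (g * (x : G) * g⁻¹) := by group
    have e1 : g * y * g⁻¹ = h * (h⁻¹ * (g * y * g⁻¹)) := by group
    rw [e1]
    exact T₁.mul_mem (hDT₁ ⟨hhP, hhN⟩) (hCT₁ hcC)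
  have hEP : E ≤ P := fun y hy => (hEle hy).1.1
  have hEN : E ≤ Subgroup.normalizer (Q : Set G) := fun y hy => (hEle hy).1.2
  have hQE : Q ≤ E := by
    rw [hE]
    unfold Cfsg.FusionSystem.extender
    intro y hy
    apply Subgroup.subset_closure
    refine ⟨hQP hy, Subgroup.le_normalizer hy, φ ⟨y, hy⟩, hRP (hφR _), fun x hx => ?_⟩
    have : (⟨y * (x : G) * y⁻¹, hx⟩ : Q) = ⟨y, hy⟩ * x * ⟨y, hy⟩⁻¹ := rfl
    rw [this, map_mul, map_mul, map_inv]
  -- the pairs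
  obtain ⟨fE, hfE, hleE⟩ := exists_subpairLE hM _ P E e hPe hEP rfl
  have hEfE : Cfsg.IsBrauerPair p M E fE := ⟨hP.to_le hEP, hfE⟩
  have hleQE : Cfsg.SubpairLE p M Q fQ E fE :=
    subpairLE_of_le hM ⟨P, e⟩ hPe ⟨Q, fQ⟩ ⟨E, fE⟩ hleQ hleE hQE hEfE
  have hnQE := isNormalSubpair_of_subpairLE_of_le_normalizer hM E Q fE fQ hEfE hQE hEN hleQE
  have hn₀' : Cfsg.NormalSubpairRel p M (conjPair g ⟨Q, fQ⟩) (conjPair g ⟨E, fE⟩) :=
    isNormalSubpair_conj _ _ _ _ g hnQE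
  rw [hpairQ] at hn₀'
  have hn₀ : Cfsg.IsNormalSubpair p M R fR (E.map (MulAut.conj g).toMonoidHom)
      (Cfsg.conjBlock E g fE) := hn₀'
  have hUT₁ : E.map (MulAut.conj g).toMonoidHom ≤ T₁ := by
    rintro _ ⟨y, hy, rfl⟩
    exact (hEle hy).2
  have hCUT₁ : Subgroup.centralizer
      (((E.map (MulAut.conj g).toMonoidHom : Subgroup G)) : Set G) ≤ T₁ :=
    le_trans (Subgroup.centralizer_le (by exact_mod_cast hn₀.2.2.1)) hCT₁
  have hpair' := isBrauerPairOf_stabilizer_of_isNormalSubpair (M := M) (p := p) R _ T₁ fR _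
    hn₀ hUT₁ hCUT₁ F₁ hF₁ hcoef₁
  obtain ⟨t, ht⟩ := exists_conj_subpairLE hM F₁ _ _ _ _ hmax₁ hpair'
  have ht' : Relation.ReflTransGen (Cfsg.NormalSubpairRel p M)
      (conjPair t ⟨(E.map (MulAut.conj g).toMonoidHom).subgroupOf T₁,
        localBlock T₁ _ hUT₁ hCUT₁ (Cfsg.conjBlock E g fE)⟩)
      ⟨(P ⊓ Subgroup.normalizer (R : Set G)).subgroupOf T₁,
        localBlock T₁ _ hDT₁ hCDT₁ e₀⟩ := ht
  have hCa : Subgroup.centralizer
      (((((E.map (MulAut.conj g).toMonoidHom).subgroupOf T₁).map T₁.subtype : Subgroup G)) :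
        Set G) ≤ T₁ := by
    rw [Subgroup.map_subgroupOf_eq_of_le hUT₁]; exact hCUT₁
  have hCa' : Subgroup.centralizer
      ((((conjPair t (⟨(E.map (MulAut.conj g).toMonoidHom).subgroupOf T₁,
        localBlock T₁ _ hUT₁ hCUT₁ (Cfsg.conjBlock E g fE)⟩ :
          Cfsg.BrauerPairIdx T₁)).1.map T₁.subtype : Subgroup G)) : Set G) ≤ T₁ := by
    show Subgroup.centralizer
      (((((E.map (MulAut.conj g).toMonoidHom).subgroupOf T₁).map (MulAut.conj t).toMonoidHom).map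
          T₁.subtype : Subgroup G) : Set G) ≤ T₁
    rw [map_conj_map_subtype, Subgroup.map_subgroupOf_eq_of_le hUT₁]
    refine le_trans (Subgroup.centralizer_le ?_) hCT₁
    intro q hq
    have htN := hT₁N t.2
    have hq' : (t : G)⁻¹ * q * ((t : G)⁻¹)⁻¹ ∈ R :=
      (Subgroup.mem_normalizer_iff.mp (Subgroup.inv_mem _ htN) q).mp hq
    refine ⟨(t : G)⁻¹ * q * ((t : G)⁻¹)⁻¹, hn₀.2.2.1 hq', ?_⟩
    simp [MulAut.conj_apply]
    group
  obtain ⟨hC₂, hchain⟩ := reflTransGen_upPair T₁ _ _ ht' hCa'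
  rw [upPair_conjPair T₁ _ t hCa hCa', upPair_localBlock, upPair_localBlock] at hchain
  -- replace `t` by an element of `C_G(R)`
  obtain ⟨a, ha, n, hn, htan⟩ := hT₁mem' (t : G) t.2
  have hchain1 : Relation.ReflTransGen (Cfsg.NormalSubpairRel p M)
      (conjPair n (conjPair g (⟨E, fE⟩ : Cfsg.BrauerPairIdx G)))
      ⟨P ⊓ Subgroup.normalizer (R : Set G), e₀⟩ := by
    have h1 := reflTransGen_conjPair (M := M) (p := p) a⁻¹ _ _ hchain
    rw [conjPair_conjPair, htan, conjPair_of_mem _ e₀ a⁻¹ (Subgroup.inv_mem _ ha)] at h1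
    have e1 : a⁻¹ * (a * n) = n := by group
    rw [e1] at h1
    exact h1
  have hchain2 : Relation.ReflTransGen (Cfsg.NormalSubpairRel p M)
      (conjPair (n * g) (⟨E, fE⟩ : Cfsg.BrauerPairIdx G)) ⟨P, e⟩ := by
    rw [← conjPair_conjPair]
    exact hchain1.trans hlee₀
  have hEng : E.map (MulAut.conj (n * g)).toMonoidHom ≤ P := SubpairLE.le' _ _ hchain2
  have hψ : Cfsg.conjHom E (n * g) ∈ F.Hom E :=
    (hF.2 E _).mpr ⟨hEP, n * g, fun u => rfl, hEng, fE, hleE, hchain2⟩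
  rw [← hE]
  refine ⟨Cfsg.conjHom E (n * g), hψ, fun x hxQ hxE => ?_⟩
  show n * g * x * (n * g)⁻¹ = φ ⟨x, hxQ⟩
  rw [hφg]
  have hr : g * x * g⁻¹ ∈ R := by
    have := hφR ⟨x, hxQ⟩
    rwa [hφg] at this
  have hcomm := Subgroup.mem_centralizer_iff.mp hn _ hr
  show n * g * x * (n * g)⁻¹ = g * x * g⁻¹
  calc n * g * x * (n * g)⁻¹ = n * (g * x * g⁻¹) * n⁻¹ := by group
    _ = g * x * g⁻¹ * n * n⁻¹ := by rw [← hcomm]
    _ = g * x * g⁻¹ := by group

end Cfsg.Agent.Helper6
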