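import Mathlib
import Cfsg.Agent.Helper6.BrSmallA

/-!
# Brauer's degree equation for small primes: simple groups with a Sylow subgroup of prime order
whose normalizer has order `2p` (`p ≥ 5`) or `3p` (`p ≥ 7`)

Variants of `Cfsg.Agent.Helper2.BrTI.brauer_main`, `simple_e2`, `simple_e3` with the size
hypothesis on `p` weakened (using `BrSmall.main_small`).
-/

set_option autoImplicit false
set_option linter.style.haveILetI false

namespace Cfsg.Agent.Helper6.BrSmall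

open Cfsg.Agent.Helper6 Cfsg.Agent.Helper2.BrTI Subgroup

universe u

variable {G : Type u} [Group G]

open Classical in
/-- Brauer's degree equation, also for small primes: `e (e + 2) + 1 ≤ p`, or `p = e (e + 1) + 1`,
or `p = 2 e + 1` with `e ≤ 4` -/
theorem brauer_main_small [Fintype G] [Fintype (Cfsg.IrrCharacter G)] (hperf : commutator G = ⊤)
    (K : Subgroup G) {p : ℕ} [hp : Fact p.Prime]
    (hK : Nat.card K = p) (hcent : Subgroup.centralizer (K : Set G) ≤ K) (e : ℕ)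
    (he : (K.subgroupOf (Subgroup.normalizer (K : Set G))).index = e)
    (hbig : e * (e + 2) + 1 ≤ p ∨ e * (e + 1) + 1 = p ∨ (2 * e + 1 = p ∧ e ≤ 4)) :
    ∃ (εz : ℤ) (d : ℕ) (c : Cfsg.IrrCharacter G → ℤ),
      (εz = 1 ∨ εz = -1) ∧ c ⟨fun _ => 1, isIrrCharacter_one⟩ = 1 ∧
      ∑ χ, c χ ^ 2 = (e : ℤ) ∧
      ∑ χ, c χ * (Cfsg.charDegree (χ : G → ℂ) : ℤ) = εz * (d : ℤ) ∧
      (∀ χ, c χ ≠ 0 → (p : ℤ) ∣ (Cfsg.charDegree (χ : G → ℂ) : ℤ) - c χ) ∧
      (p : ℤ) ∣ (d : ℤ) - εz * e ∧ d ∣ Nat.card G ∧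
      (∀ χ : Cfsg.IrrCharacter G, Cfsg.charDegree (χ : G → ℂ) ∣ Nat.card G) ∧
      (∀ χ : Cfsg.IrrCharacter G, χ ≠ ⟨fun _ => 1, isIrrCharacter_one⟩ →
        1 < Cfsg.charDegree (χ : G → ℂ)) := by
  have hepos : 0 < e := by
    rw [← he]
    exact Nat.pos_of_ne_zero Subgroup.index_ne_zero_of_finite
  have hnonlin : ∀ χ : Cfsg.IrrCharacter G, χ ≠ ⟨fun _ => 1, isIrrCharacter_one⟩ →
      1 < Cfsg.charDegree (χ : G → ℂ) := by
    intro χ hχ
    obtain ⟨n, hn, hn1⟩ := IsIrrCharacter.apply_one_pos χ.2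
    have hdeg : Cfsg.charDegree (χ : G → ℂ) = n := by
      have := charDegree_cast_of_isCharacter (IsIrrCharacter.isCharacter χ.2)
      rw [hn1] at this
      exact_mod_cast this
    rw [hdeg]
    by_contra hlt
    have hn1' : n = 1 := by omega
    rw [hn1'] at hn1
    have hcard := card_linear_irr (G := G)
    rw [hperf, Subgroup.index_top] at hcard
    have hsub : Subsingleton {χ : Cfsg.IrrCharacter G // (χ : G → ℂ) 1 = 1} :=
      (Nat.card_eq_one_iff_unique.mp hcard).1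
    have := Subsingleton.elim (⟨χ, by simpa using hn1⟩ :
      {χ : Cfsg.IrrCharacter G // (χ : G → ℂ) 1 = 1}) ⟨⟨fun _ => 1, isIrrCharacter_one⟩, rfl⟩
    exact hχ (congrArg Subtype.val this)
  obtain ⟨D⟩ := exists_data K hK hcent (by
    rw [he]
    rcases hbig with h | h | h
    · nlinarith
    · nlinarith
    · omega)
  haveI : Fintype ↥(Subgroup.normalizer (K : Set G)) := Fintype.ofFinite _
  haveI : Finite (Cfsg.IrrCharacter ↥(Subgroup.normalizer (K : Set G))) := irr_finite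
  haveI : Fintype (Cfsg.IrrCharacter ↥(Subgroup.normalizer (K : Set G))) := Fintype.ofFinite _
  haveI : Fintype (Rel K) := Fintype.ofFinite _
  obtain ⟨εz, Λ, c, h1, h2, h3, h4, h5, h6⟩ := main_small D e he
    (by rw [hK]; exact hp.out.two_le) (by rw [hK]; exact hbig) hnonlin
  rw [hK] at h5 h6
  exact ⟨εz, Cfsg.charDegree (Λ : G → ℂ), c, h1, h2, h3, h4, h5, h6,
    charDegree_dvd_card Λ.2, fun χ => charDegree_dvd_card χ.2, hnonlin⟩

open Classical in
/-- the degree equation when the normalizer has order `2p`, for all `p ≥ 5` -/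
theorem simple_e2_small [Finite G] [IsSimpleGroup G] {p : ℕ} [hp : Fact p.Prime] (P : Sylow p G)
    (hP : Nat.card P = p) (m' : ℕ) (hG : Nat.card G = p * m') (hm' : 1 < m')
    (hN : Nat.card (normalizer ((P : Subgroup G) : Set G)) = 2 * p) (hp5 : 5 ≤ p) :
    ∃ (n d : ℕ) (δ εz : ℤ), (δ = 1 ∨ δ = -1) ∧ (εz = 1 ∨ εz = -1) ∧ 1 < n ∧ n ∣ m' ∧ d ∣ m' ∧
      (p : ℤ) ∣ (n : ℤ) - δ ∧ (p : ℤ) ∣ (d : ℤ) - εz * 2 ∧ 1 + δ * n = εz * d := by
  haveI : Fintype G := Fintype.ofFinite G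
  haveI : Finite (Cfsg.IrrCharacter G) := irr_finite
  haveI : Fintype (Cfsg.IrrCharacter G) := Fintype.ofFinite _
  have hGp : Nat.card G ≠ p := by
    rw [hG]
    intro h
    have : p * m' = p * 1 := by rw [h, mul_one]
    have := Nat.eq_of_mul_eq_mul_left hp.out.pos this
    omega
  have hnp : ¬ (Nat.card G).Prime := by
    rw [hG]
    exact Nat.not_prime_mul hp.out.one_lt.ne' hm'.ne'
  obtain ⟨hcent, he⟩ := sylow_selfcent P hP hGp 2 Nat.prime_two hN
  have hbig : 2 * (2 + 2) + 1 ≤ p ∨ 2 * (2 + 1) + 1 = p ∨ (2 * 2 + 1 = p ∧ 2 ≤ 4) := by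
    have h6 : p ≠ 6 := by
      intro h
      have := hp.out
      rw [h] at this
      exact absurd this (by norm_num)
    have h8 : p ≠ 8 := by
      intro h
      have := hp.out
      rw [h] at this
      exact absurd this (by norm_num)
    omega
  obtain ⟨εz, d, c, hε, hc1, hsq, hlin, hmod, hdmod, hddvd, hdvd, hgt⟩ :=
    brauer_main_small (perfect_of_simple hnp) (P : Subgroup G) hP hcent 2 he hbig
  obtain ⟨χ₁, hχ₁, hcχ₁, hsum⟩ := sum_sq_two c
    (fun χ => (Cfsg.charDegree (χ : G → ℂ) : ℤ)) _ hc1 (by exact_mod_cast hsq)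
  rw [hsum] at hlin
  have hone : Cfsg.charDegree (fun _ : G => (1 : ℂ)) = 1 := by
    unfold Cfsg.charDegree
    simp
  simp only [hone] at hlin
  have hcne : c χ₁ ≠ 0 := by rcases hcχ₁ with h | h <;> rw [h] <;> norm_num
  have hmod1 := hmod χ₁ hcne
  refine ⟨Cfsg.charDegree (χ₁ : G → ℂ), d, c χ₁, εz, hcχ₁, hε, hgt χ₁ hχ₁, ?_, ?_, hmod1,
    by simpa using hdmod, by exact_mod_cast hlin⟩
  · have hcop := coprime_of_dvd_sub hp.out hmod1 (not_dvd_pm_one (by omega) hcχ₁)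
    have := hdvd χ₁
    rw [hG] at this
    exact hcop.dvd_of_dvd_mul_left this
  · have hcop := coprime_of_dvd_sub hp.out hdmod
      (not_dvd_pm_mul (e := 2) (by norm_num) (by omega) hε)
    rw [hG] at hddvd
    exact hcop.dvd_of_dvd_mul_left hddvd

open Classical in
/-- the degree equation when the normalizer has order `3p`, for all `p ≥ 7` -/
theorem simple_e3_small [Finite G] [IsSimpleGroup G] {p : ℕ} [hp : Fact p.Prime] (P : Sylow p G)
    (hP : Nat.card P = p) (m' : ℕ) (hG : Nat.card G = p * m') (hm' : 1 < m')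
    (hN : Nat.card (normalizer ((P : Subgroup G) : Set G)) = 3 * p) (hp7 : 7 ≤ p) :
    ∃ (n₁ n₂ d : ℕ) (δ₁ δ₂ εz : ℤ), (δ₁ = 1 ∨ δ₁ = -1) ∧ (δ₂ = 1 ∨ δ₂ = -1) ∧
      (εz = 1 ∨ εz = -1) ∧ 1 < n₁ ∧ 1 < n₂ ∧ n₁ ∣ m' ∧ n₂ ∣ m' ∧ d ∣ m' ∧
      (p : ℤ) ∣ (n₁ : ℤ) - δ₁ ∧ (p : ℤ) ∣ (n₂ : ℤ) - δ₂ ∧ (p : ℤ) ∣ (d : ℤ) - εz * 3 ∧
      1 + δ₁ * n₁ + δ₂ * n₂ = εz * d := by
  haveI : Fintype G := Fintype.ofFinite G
  haveI : Finite (Cfsg.IrrCharacter G) := irr_finite
  haveI : Fintype (Cfsg.IrrCharacter G) := Fintype.ofFinite _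
  have hGp : Nat.card G ≠ p := by
    rw [hG]
    intro h
    have : p * m' = p * 1 := by rw [h, mul_one]
    have := Nat.eq_of_mul_eq_mul_left hp.out.pos this
    omega
  have hnp : ¬ (Nat.card G).Prime := by
    rw [hG]
    exact Nat.not_prime_mul hp.out.one_lt.ne' hm'.ne'
  obtain ⟨hcent, he⟩ := sylow_selfcent P hP hGp 3 Nat.prime_three hN
  have hbig : 3 * (3 + 2) + 1 ≤ p ∨ 3 * (3 + 1) + 1 = p ∨ (2 * 3 + 1 = p ∧ 3 ≤ 4) := by
    have hnp' : ∀ q : ℕ, ¬ q.Prime → p ≠ q := by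
      intro q hq h
      exact hq (h ▸ hp.out)
    have h8 := hnp' 8 (by norm_num)
    have h9 := hnp' 9 (by norm_num)
    have h10 := hnp' 10 (by norm_num)
    have h12 := hnp' 12 (by norm_num)
    have h14 := hnp' 14 (by norm_num)
    have h15 := hnp' 15 (by norm_num)
    -- `p = 11` is impossible: `3 ∣ p - 1`
    have h11 : p ≠ 11 := by
      intro h
      have hPc : IsCyclic (P : Subgroup G) := isCyclic_of_prime_card hP
      have h1 := Cfsg.Agent.Helper2.SmallOrder.relIndex_centralizer_normalizer_dvd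
        (P : Subgroup G) hPc
      rw [hP, Nat.totient_prime hp.out] at h1
      -- relIndex C N = 3
      have hCN : centralizer ((P : Subgroup G) : Set G) = (P : Subgroup G) := by
        apply le_antisymm hcent
        intro x hx
        rw [Subgroup.mem_centralizer_iff]
        intro y hy
        exact prime_ab (P : Subgroup G) hP y hy x hx
      rw [hCN] at h1
      have h2 : (P : Subgroup G).relIndex (normalizer ((P : Subgroup G) : Set G)) = 3 := he
      rw [h2, h] at h1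
      omega
    omega
  obtain ⟨εz, d, c, hε, hc1, hsq, hlin, hmod, hdmod, hddvd, hdvd, hgt⟩ :=
    brauer_main_small (perfect_of_simple hnp) (P : Subgroup G) hP hcent 3 he hbig
  obtain ⟨χ₁, χ₂, hχ₁, hχ₂, -, hcχ₁, hcχ₂, hsum⟩ := sum_sq_three c
    (fun χ => (Cfsg.charDegree (χ : G → ℂ) : ℤ)) _ hc1 (by exact_mod_cast hsq)
  rw [hsum] at hlin
  have hone : Cfsg.charDegree (fun _ : G => (1 : ℂ)) = 1 := by
    unfold Cfsg.charDegree
    simp
  simp only [hone] at hlin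
  have hcne₁ : c χ₁ ≠ 0 := by rcases hcχ₁ with h | h <;> rw [h] <;> norm_num
  have hcne₂ : c χ₂ ≠ 0 := by rcases hcχ₂ with h | h <;> rw [h] <;> norm_num
  have hmod1 := hmod χ₁ hcne₁
  have hmod2 := hmod χ₂ hcne₂
  refine ⟨Cfsg.charDegree (χ₁ : G → ℂ), Cfsg.charDegree (χ₂ : G → ℂ), d, c χ₁, c χ₂, εz,
    hcχ₁, hcχ₂, hε, hgt χ₁ hχ₁, hgt χ₂ hχ₂, ?_, ?_, ?_, hmod1, hmod2,
    by simpa using hdmod, by exact_mod_cast hlin⟩
  · have hcop := coprime_of_dvd_sub hp.out hmod1 (not_dvd_pm_one (by omega) hcχ₁)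
    have := hdvd χ₁
    rw [hG] at this
    exact hcop.dvd_of_dvd_mul_left this
  · have hcop := coprime_of_dvd_sub hp.out hmod2 (not_dvd_pm_one (by omega) hcχ₂)
    have := hdvd χ₂
    rw [hG] at this
    exact hcop.dvd_of_dvd_mul_left this
  · have hcop := coprime_of_dvd_sub hp.out hdmod
      (not_dvd_pm_mul (e := 3) (by norm_num) (by omega) hε)
    rw [hG] at hddvd
    exact hcop.dvd_of_dvd_mul_left hddvd

end Cfsg.Agent.Helper6.BrSmall
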