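import Mathlib
import Cfsg.Agent.Helper6.BLeoJ
import Cfsg.Agent.Helper6.BrSmallB

/-!
# Brauer's degree equation for the principal block when `|N(P) : C(P)| ∈ {2, 3}`

Here `P` is a Sylow subgroup of prime order `p`; `C_G(P)` may be larger than `P`.  The equation is
read off from the Brauer–Leonard theorem `BLeo.brauer_leonard`.
-/

set_option autoImplicit false
set_option linter.style.haveILetI false

namespace Cfsg.Agent.Helper6.BrSmall

open Cfsg.Agent.Helper6 Cfsg.Agent.Helper2.BrTI Subgroup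
open scoped ComplexConjugate

universe u

variable {G : Type u} [Group G]

/-- a character that is constant `= a` on the nonidentity elements of a subgroup of prime order `p`
has degree `≡ a (mod p)` -/
theorem dvd_degree_sub_of_const [Finite G] {p : ℕ} [hp : Fact p.Prime] (P : Subgroup G)
    (hP : Nat.card P = p) {χ : G → ℂ} (hχ : Cfsg.IsCharacter G χ) (a : ℤ)
    (h : ∀ y ∈ P, y ≠ 1 → χ y = (a : ℂ)) : (p : ℤ) ∣ (Cfsg.charDegree χ : ℤ) - a := by
  classical
  haveI : Fintype G := Fintype.ofFinite G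
  haveI : Fintype P := Fintype.ofFinite P
  have hres : Cfsg.IsCharacter P (fun x : P => χ x) := IsCharacter.restrict P hχ
  have htriv : Cfsg.IsIrrCharacter P (fun _ : P => (1 : ℂ)) := isIrrCharacter_one
  obtain ⟨n, hn⟩ := classInner_char_char_nat hres (IsIrrCharacter.isCharacter htriv)
  rw [Cfsg.classInner, hP] at hn
  have hsum : ∑ g : P, χ g = (p : ℂ) * n := by
    have hp0 : (p : ℂ) ≠ 0 := by exact_mod_cast hp.out.ne_zero
    have : ∑ g : P, χ g * conj (1 : ℂ) = (p : ℂ) * n := by
      rw [← hn, ← mul_assoc, mul_inv_cancel₀ hp0, one_mul]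
    simpa using this
  have hsplit : ∑ g : P, χ g = χ 1 + ∑ g ∈ (Finset.univ.erase (1 : P)), χ g := by
    rw [← Finset.add_sum_erase Finset.univ _ (Finset.mem_univ (1 : P))]
    simp
  have hrest : ∑ g ∈ (Finset.univ.erase (1 : P)), χ g = ((p : ℂ) - 1) * a := by
    rw [Finset.sum_congr rfl (fun (g : P) hg => h (g : G) g.2 (fun h1 => (Finset.mem_erase.mp hg).1
      (Subtype.ext h1)))]
    rw [Finset.sum_const, Finset.card_erase_of_mem (Finset.mem_univ _), Finset.card_univ,
      ← Nat.card_eq_fintype_card, hP, nsmul_eq_mul]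
    have : 1 ≤ p := hp.out.one_le
    push_cast [Nat.cast_sub this]
    ring
  have hdeg := charDegree_cast_of_isCharacter hχ
  have key : ((Cfsg.charDegree χ : ℤ) : ℂ) - a = ((p : ℤ) : ℂ) * (((n : ℤ) - a : ℤ) : ℂ) := by
    push_cast
    rw [hdeg]
    have := hsum
    rw [hsplit, hrest] at this
    linear_combination this
  refine ⟨(n : ℤ) - a, ?_⟩
  have : (((Cfsg.charDegree χ : ℤ) - a : ℤ) : ℂ) = (((p : ℤ) * ((n : ℤ) - a) : ℤ) : ℂ) := by
    push_cast
    push_cast at key
    exact key
  exact_mod_cast this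

theorem sum_sq_one' {ι : Type*} [Fintype ι] [DecidableEq ι] (c w : ι → ℤ) (i₀ : ι)
    (h0 : c i₀ = 1) (h : ∑ i, c i ^ 2 = 1) : ∑ i, c i * w i = w i₀ := by
  rw [← Finset.add_sum_erase Finset.univ _ (Finset.mem_univ i₀), h0] at h
  have h1 : ∑ i ∈ Finset.univ.erase i₀, c i ^ 2 = 0 := by linarith
  have h2 := (Finset.sum_eq_zero_iff_of_nonneg (fun i _ => sq_nonneg (c i))).mp h1
  rw [← Finset.add_sum_erase Finset.univ _ (Finset.mem_univ i₀), h0, one_mul,
    Finset.sum_eq_zero, add_zero]
  intro j hj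
  have := h2 j hj
  rw [pow_eq_zero_iff (by norm_num)] at this
  rw [this, zero_mul]

/-- for a subgroup of prime order, the centralizer of a nonidentity element is the centralizer of
the subgroup -/
theorem centralizer_singleton_eq_of_prime (K : Subgroup G) {p : ℕ} [hp : Fact p.Prime]
    (hK : Nat.card K = p) (y : G) (hy : y ∈ K) (hy1 : y ≠ 1) :
    Subgroup.centralizer ({y} : Set G) = Subgroup.centralizer (K : Set G) := by
  apply le_antisymm
  · intro x hx
    rw [Subgroup.mem_centralizer_iff] at hx ⊢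
    intro z hz
    obtain ⟨i, rfl⟩ := Subgroup.mem_zpowers_iff.mp (mem_zpowers_of_prime K hK y hy hy1 z hz)
    have h1 : Commute y x := hx y rfl
    exact (h1.zpow_left i).eq
  · exact Subgroup.centralizer_le (by simpa using hy)

set_option maxHeartbeats 1600000 in
open Classical in
/-- Brauer's degree equation for the principal block of a perfect group with a Sylow subgroup `P`
of prime order `p` and `|N(P) : C(P)| = e ∈ {2, 3}` (`C(P) = P` is not assumed) -/
theorem principal_main [Fintype G] [Fintype (Cfsg.IrrCharacter G)] (hperf : commutator G = ⊤)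
    {p : ℕ} [hp : Fact p.Prime] (P : Sylow p G) (hP : Nat.card P = p) (e : ℕ)
    (he : (Subgroup.centralizer ((P : Subgroup G) : Set G)).relIndex
      (Subgroup.normalizer ((P : Subgroup G) : Set G)) = e)
    (hcase : (e = 2 ∧ 5 ≤ p) ∨ (e = 3 ∧ 7 ≤ p)) :
    ∃ (εz : ℤ) (d : ℕ) (c : Cfsg.IrrCharacter G → ℤ),
      (εz = 1 ∨ εz = -1) ∧ c ⟨fun _ => 1, isIrrCharacter_one⟩ = 1 ∧
      ∑ χ, c χ ^ 2 = (e : ℤ) ∧
      ∑ χ, c χ * (Cfsg.charDegree (χ : G → ℂ) : ℤ) = εz * (d : ℤ) ∧
      (∀ χ, c χ ≠ 0 → (p : ℤ) ∣ (Cfsg.charDegree (χ : G → ℂ) : ℤ) - c χ) ∧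
      (p : ℤ) ∣ (d : ℤ) - εz * e ∧ d ∣ Nat.card G ∧
      (∀ χ : Cfsg.IrrCharacter G, Cfsg.charDegree (χ : G → ℂ) ∣ Nat.card G) ∧
      (∀ χ : Cfsg.IrrCharacter G, χ ≠ ⟨fun _ => 1, isIrrCharacter_one⟩ →
        1 < Cfsg.charDegree (χ : G → ℂ)) := by
  obtain ⟨M, hM⟩ := exists_isPModular p hp.out
  have hnonlin : ∀ χ : Cfsg.IrrCharacter G, χ ≠ ⟨fun _ => 1, isIrrCharacter_one⟩ →
      1 < Cfsg.charDegree (χ : G → ℂ) := by
    intro χ hχ
    obtain ⟨n, hn, hn1⟩ := IsIrrCharacter.apply_one_pos χ.2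
    have hdeg : Cfsg.charDegree (χ : G → ℂ) = n := by
      have := charDegree_cast_of_isCharacter (IsIrrCharacter.isCharacter χ.2)
      rw [hn1] at this
      exact_mod_cast this
    rw [hdeg]
    by_contra hlt
    have hn1' : n = 1 := by omega
    rw [hn1'] at hn1
    have hcard := card_linear_irr (G := G)
    rw [hperf, Subgroup.index_top] at hcard
    have hsub : Subsingleton {χ : Cfsg.IrrCharacter G // (χ : G → ℂ) 1 = 1} :=
      (Nat.card_eq_one_iff_unique.mp hcard).1
    have := Subsingleton.elim (⟨χ, by simpa using hn1⟩ :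
      {χ : Cfsg.IrrCharacter G // (χ : G → ℂ) 1 = 1}) ⟨⟨fun _ => 1, isIrrCharacter_one⟩, rfl⟩
    exact hχ (congrArg Subtype.val this)
  -- `e ∣ p - 1`
  have hPc : IsCyclic (P : Subgroup G) := isCyclic_of_prime_card hP
  have hedvd := Cfsg.Agent.Helper2.SmallOrder.relIndex_centralizer_normalizer_dvd
    (P : Subgroup G) hPc
  rw [hP, Nat.totient_prime hp.out, he] at hedvd
  have he1 : 1 < e := by rcases hcase with h | h <;> omega
  have he2 : e + 1 < p := by rcases hcase with h | h <;> omega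
  obtain ⟨s, X, Y, hs, hB, hdisj, hXc, hYc, ⟨χ₁, hχ₁X, hχ₁⟩, a, d, δ, ζ, hδ, hX, hζY, hYζ, hζconj,
    hζval, hnorm, hYreg, hlin⟩ := BLeo.brauer_leonard p M hM P
    (fun x hx y hy => prime_ab (P : Subgroup G) hP x hx y hy)
    (by rw [hP]; exact hp.out.one_lt.ne') e he1 (by rw [hP]; exact he2) he
    (by
      intro y hy hy1
      rw [centralizer_singleton_eq_of_prime (P : Subgroup G) hP y hy hy1]
      exact inf_eq_left.mpr (Subgroup.centralizer_le_normalizer _))
  rw [hP] at hnorm hlin hYc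
  -- the trivial character
  have hχ₁eq : χ₁ = ⟨fun _ => 1, isIrrCharacter_one⟩ := Subtype.ext hχ₁
  -- a nonidentity element of `P`
  obtain ⟨y₀, hy₀P, hy₀1⟩ : ∃ y₀ : G, y₀ ∈ (P : Subgroup G) ∧ y₀ ≠ 1 := by
    have h1 : 1 < Nat.card (P : Subgroup G) := by rw [hP]; exact hp.out.one_lt
    haveI : Nontrivial (P : Subgroup G) := (Finite.one_lt_card_iff_nontrivial).mp h1
    obtain ⟨k, hk⟩ := exists_ne (1 : (P : Subgroup G))
    exact ⟨k.1, k.2, fun h => hk (Subtype.ext h)⟩
  have hpp : ∀ y : G, y ∈ (P : Subgroup G) → Cfsg.IsPPart p y y := by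
    intro y hy
    obtain ⟨k, hk⟩ := (IsPGroup.iff_orderOf.mp P.isPGroup') ⟨y, hy⟩
    exact isPPart_self y k (by rw [← hk]; exact (Subgroup.orderOf_mk y hy).symm)
  have ha₁ : a χ₁ = 1 := by
    have := (hX χ₁ hχ₁X).2 y₀ y₀ (hpp y₀ hy₀P) hy₀P hy₀1
    rw [hχ₁] at this
    have h2 : (1 : ℂ) = (a χ₁ : ℂ) := this
    exact_mod_cast h2.symm
  -- the coefficient function
  set c : Cfsg.IrrCharacter G → ℤ := fun χ => if χ ∈ X then a χ else 0 with hc
  have hsumX : ∀ f : Cfsg.IrrCharacter G → ℤ,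
      ∑ᶠ χ ∈ X, f χ = ∑ χ, (if χ ∈ X then f χ else 0) := by
    intro f
    rw [finsum_mem_def, finsum_eq_sum_of_fintype]
    apply Finset.sum_congr rfl
    intro χ _
    rw [Set.indicator_apply]
  have hsumXC : ∀ f : Cfsg.IrrCharacter G → ℂ,
      ∑ᶠ χ ∈ X, f χ = ∑ χ, (if χ ∈ X then f χ else 0) := by
    intro f
    rw [finsum_mem_def, finsum_eq_sum_of_fintype]
    apply Finset.sum_congr rfl
    intro χ _
    rw [Set.indicator_apply]
  have hA : ∑ᶠ χ ∈ X, a χ ^ 2 = ∑ χ, c χ ^ 2 := by
    rw [hsumX]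
    apply Finset.sum_congr rfl
    intro χ _
    simp only [hc]
    split_ifs <;> simp
  have hc1 : c ⟨fun _ => 1, isIrrCharacter_one⟩ = 1 := by
    rw [← hχ₁eq]
    simp only [hc, if_pos hχ₁X, ha₁]
  -- an exceptional character
  have hYne : Y.Nonempty := by
    by_contra hne
    rw [Set.not_nonempty_iff_eq_empty] at hne
    rw [hne] at hYc
    simp at hYc
    have : e ≤ p - 1 := Nat.le_of_dvd (by have := hp.out.two_le; omega) hedvd
    have h2 : (p - 1) / e = 0 := hYc.symm
    rw [Nat.div_eq_zero_iff] at h2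
    omega
  obtain ⟨η, hηY⟩ := hYne
  have hlin1 := hlin η hηY 1 (by rw [orderOf_one]; exact hp.out.one_lt.ne' ∘ Nat.dvd_one.mp)
  have hdegC : ∀ χ : Cfsg.IrrCharacter G, (χ : G → ℂ) 1 = (Cfsg.charDegree (χ : G → ℂ) : ℂ) :=
    fun χ => (charDegree_cast_of_isCharacter (IsIrrCharacter.isCharacter χ.2)).symm
  have hL : ∑ᶠ χ ∈ X, (a χ : ℂ) * (χ : G → ℂ) 1 =
      ((∑ χ, c χ * (Cfsg.charDegree (χ : G → ℂ) : ℤ) : ℤ) : ℂ) := by
    rw [hsumXC]
    push_cast
    apply Finset.sum_congr rfl
    intro χ _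
    simp only [hc]
    split_ifs
    · rw [hdegC]
    · simp
  rw [hL, hdegC η] at hlin1
  -- integer version of the linear relation
  set T : ℕ := (p - 1) / e with hT
  have hlinZ : ((T : ℤ) * d - δ) * (Cfsg.charDegree (η : G → ℂ) : ℤ) +
      ∑ χ, c χ * (Cfsg.charDegree (χ : G → ℂ) : ℤ) = 0 := by
    have : ((((T : ℤ) * d - δ) * (Cfsg.charDegree (η : G → ℂ) : ℤ) +
      ∑ χ, c χ * (Cfsg.charDegree (χ : G → ℂ) : ℤ) : ℤ) : ℂ) = ((0 : ℤ) : ℂ) := by
      push_cast
      push_cast at hlin1
      exact hlin1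
    exact_mod_cast this
  have hTe : T * e = p - 1 := Nat.div_mul_cancel hedvd
  have hT2 : 2 ≤ T := by
    by_contra hlt
    have : T ≤ 1 := by omega
    have : T * e ≤ e := by nlinarith
    omega
  have hnormZ : (d - δ) ^ 2 + ((T : ℤ) - 1) * d ^ 2 + ∑ χ, c χ ^ 2 = (e : ℤ) + 1 := by
    rw [← hA, ← hnorm]
    congr 2
    have h1 : ((p : ℤ) - 1) / (e : ℤ) = (T : ℤ) := by
      rw [hT]
      have : 1 ≤ p := hp.out.one_le
      push_cast [Nat.cast_sub this]
      rfl
    rw [h1]
  have hdegη : 0 < Cfsg.charDegree (η : G → ℂ) := by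
    obtain ⟨n, hn, hn1⟩ := IsIrrCharacter.apply_one_pos η.2
    have := charDegree_cast_of_isCharacter (IsIrrCharacter.isCharacter η.2)
    rw [hn1] at this
    have h2 : Cfsg.charDegree (η : G → ℂ) = n := by exact_mod_cast this
    omega
  have hApos : 1 ≤ ∑ χ, c χ ^ 2 := by
    rw [← Finset.add_sum_erase Finset.univ _ (Finset.mem_univ ⟨fun _ => 1, isIrrCharacter_one⟩),
      hc1]
    have : 0 ≤ ∑ χ ∈ Finset.univ.erase (⟨fun _ => 1, isIrrCharacter_one⟩ : Cfsg.IrrCharacter G),
        c χ ^ 2 := Finset.sum_nonneg (fun i _ => sq_nonneg (c i))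
    linarith
  -- solve the quadratic relation
  have hT2' : (2 : ℤ) ≤ T := by exact_mod_cast hT2
  have hd1 : d ≤ 1 := by
    by_contra h
    push Not at h
    have he3 : (e : ℤ) ≤ 3 := by rcases hcase with h | h <;> (rw [h.1]; norm_num)
    nlinarith [sq_nonneg (d - δ)]
  have hd2 : -1 ≤ d := by
    by_contra h
    push Not at h
    have he3 : (e : ℤ) ≤ 3 := by rcases hcase with h | h <;> (rw [h.1]; norm_num)
    nlinarith [sq_nonneg (d - δ)]
  have he3 : (e : ℤ) ≤ 3 := by rcases hcase with h | h <;> (rw [h.1]; norm_num)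
  have he2' : (2 : ℤ) ≤ e := by exact_mod_cast he1
  have hkey : (∑ χ, c χ ^ 2 = (e : ℤ)) ∧ ((δ - (T : ℤ) * d = 1) ∨ (δ - (T : ℤ) * d = -1)) := by
    have hd : d = -1 ∨ d = 0 ∨ d = 1 := by omega
    rcases hd with rfl | rfl | rfl
    · -- `d = -1`
      rcases hδ with rfl | rfl
      · exfalso
        have : ((-1 : ℤ) - 1) ^ 2 = 4 := by norm_num
        rw [this] at hnormZ
        nlinarith
      · have h0 : ((-1 : ℤ) - -1) ^ 2 = 0 := by norm_num
        have h1 : ((-1 : ℤ)) ^ 2 = 1 := by norm_num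
        rw [h0, h1] at hnormZ
        -- `A = e + 2 - T`
        by_cases hT2e : T = 2
        · rw [hT2e] at hnormZ ⊢
          constructor
          · push_cast at hnormZ; linarith
          · left; norm_num
        · exfalso
          have hT3 : (3 : ℤ) ≤ T := by
            have : 3 ≤ T := by omega
            exact_mod_cast this
          -- `A ≤ e - 1`
          have hAle : ∑ χ, c χ ^ 2 ≤ (e : ℤ) - 1 := by linarith
          rcases hcase with ⟨rfl, _⟩ | ⟨rfl, _⟩
          · -- `e = 2`: `A = 1`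
            have hA1 : ∑ χ, c χ ^ 2 = 1 := by push_cast at hAle; omega
            have := sum_sq_one' c (fun χ => (Cfsg.charDegree (χ : G → ℂ) : ℤ)) _ hc1 hA1
            rw [this] at hlinZ
            have hone : Cfsg.charDegree (fun _ : G => (1 : ℂ)) = 1 := by
              unfold Cfsg.charDegree
              simp
            simp only [hone] at hlinZ
            have hη1 : (1 : ℤ) ≤ (Cfsg.charDegree (η : G → ℂ) : ℤ) := by exact_mod_cast hdegη
            push_cast at hlinZ
            nlinarith [mul_nonneg (sub_nonneg.mpr hT3) (sub_nonneg.mpr hη1)]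
          · -- `e = 3`: `A = 1` or `A = 2`
            have hA12 : ∑ χ, c χ ^ 2 = 1 ∨ ∑ χ, c χ ^ 2 = 2 := by push_cast at hAle; omega
            rcases hA12 with hA1 | hA2
            · have := sum_sq_one' c (fun χ => (Cfsg.charDegree (χ : G → ℂ) : ℤ)) _ hc1 hA1
              rw [this] at hlinZ
              have hone : Cfsg.charDegree (fun _ : G => (1 : ℂ)) = 1 := by
                unfold Cfsg.charDegree
                simp
              simp only [hone] at hlinZ
              have hη1 : (1 : ℤ) ≤ (Cfsg.charDegree (η : G → ℂ) : ℤ) := by exact_mod_cast hdegη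
              push_cast at hlinZ
              nlinarith [mul_nonneg (sub_nonneg.mpr hT3) (sub_nonneg.mpr hη1)]
            · -- `T = 3`, so `p = 10`
              have hT3' : (T : ℤ) = 3 := by push_cast at hnormZ; linarith
              have hT3'' : T = 3 := by exact_mod_cast hT3'
              rw [hT3''] at hTe
              have hp10 : p = 10 := by have := hp.out.one_le; omega
              have := hp.out
              rw [hp10] at this
              exact absurd this (by norm_num)
    · -- `d = 0`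
      constructor
      · have : ((0 : ℤ) - δ) ^ 2 = 1 := by rcases hδ with rfl | rfl <;> norm_num
        rw [this] at hnormZ
        linarith
      · rcases hδ with rfl | rfl
        · left; ring
        · right; ring
    · -- `d = 1`
      rcases hδ with rfl | rfl
      · have h0 : ((1 : ℤ) - 1) ^ 2 = 0 := by norm_num
        have h1 : ((1 : ℤ)) ^ 2 = 1 := by norm_num
        rw [h0, h1] at hnormZ
        by_cases hT2e : T = 2
        · rw [hT2e] at hnormZ ⊢
          constructor
          · push_cast at hnormZ; linarith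
          · right; norm_num
        · exfalso
          have hT3 : (3 : ℤ) ≤ T := by
            have : 3 ≤ T := by omega
            exact_mod_cast this
          have hAle : ∑ χ, c χ ^ 2 ≤ (e : ℤ) - 1 := by linarith
          rcases hcase with ⟨rfl, _⟩ | ⟨rfl, _⟩
          · have hA1 : ∑ χ, c χ ^ 2 = 1 := by push_cast at hAle; omega
            have := sum_sq_one' c (fun χ => (Cfsg.charDegree (χ : G → ℂ) : ℤ)) _ hc1 hA1
            rw [this] at hlinZ
            have hone : Cfsg.charDegree (fun _ : G => (1 : ℂ)) = 1 := by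
              unfold Cfsg.charDegree
              simp
            simp only [hone] at hlinZ
            have hη1 : (1 : ℤ) ≤ (Cfsg.charDegree (η : G → ℂ) : ℤ) := by exact_mod_cast hdegη
            push_cast at hlinZ
            nlinarith [mul_nonneg (sub_nonneg.mpr hT3) (sub_nonneg.mpr hη1)]
          · have hA12 : ∑ χ, c χ ^ 2 = 1 ∨ ∑ χ, c χ ^ 2 = 2 := by push_cast at hAle; omega
            rcases hA12 with hA1 | hA2
            · have := sum_sq_one' c (fun χ => (Cfsg.charDegree (χ : G → ℂ) : ℤ)) _ hc1 hA1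
              rw [this] at hlinZ
              have hone : Cfsg.charDegree (fun _ : G => (1 : ℂ)) = 1 := by
                unfold Cfsg.charDegree
                simp
              simp only [hone] at hlinZ
              have hη1 : (1 : ℤ) ≤ (Cfsg.charDegree (η : G → ℂ) : ℤ) := by exact_mod_cast hdegη
              push_cast at hlinZ
              nlinarith [mul_nonneg (sub_nonneg.mpr hT3) (sub_nonneg.mpr hη1)]
            · have hT3' : (T : ℤ) = 3 := by push_cast at hnormZ; linarith
              have hT3'' : T = 3 := by exact_mod_cast hT3'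
              rw [hT3''] at hTe
              have hp10 : p = 10 := by have := hp.out.one_le; omega
              have := hp.out
              rw [hp10] at this
              exact absurd this (by norm_num)
      · exfalso
        have : ((1 : ℤ) - -1) ^ 2 = 4 := by norm_num
        rw [this] at hnormZ
        nlinarith
  obtain ⟨hAe, hεz⟩ := hkey
  -- congruences
  have hmod : ∀ χ, c χ ≠ 0 → (p : ℤ) ∣ (Cfsg.charDegree (χ : G → ℂ) : ℤ) - c χ := by
    intro χ hcχ
    have hχX : χ ∈ X := by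
      by_contra hne
      apply hcχ
      simp only [hc, if_neg hne]
    have hcχ' : c χ = a χ := by simp only [hc, if_pos hχX]
    rw [hcχ']
    apply dvd_degree_sub_of_const (P : Subgroup G) hP (IsIrrCharacter.isCharacter χ.2)
    intro y hy hy1
    exact (hX χ hχX).2 y y (hpp y hy) hy hy1
  have hlinZ' : ∑ χ, c χ * (Cfsg.charDegree (χ : G → ℂ) : ℤ) =
      (δ - (T : ℤ) * d) * (Cfsg.charDegree (η : G → ℂ) : ℤ) := by linarith
  refine ⟨δ - (T : ℤ) * d, Cfsg.charDegree (η : G → ℂ), c, hεz, hc1, hAe, hlinZ', hmod, ?_,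
    charDegree_dvd_card η.2, fun χ => charDegree_dvd_card χ.2, hnonlin⟩
  -- `εz * deg η ≡ Σ c² = e`
  have h1 : (p : ℤ) ∣ ∑ χ, c χ * (Cfsg.charDegree (χ : G → ℂ) : ℤ) - ∑ χ, c χ ^ 2 := by
    rw [← Finset.sum_sub_distrib]
    apply Finset.dvd_sum
    intro χ _
    by_cases hcχ : c χ = 0
    · rw [hcχ]; simp
    · have := hmod χ hcχ
      have h2 : c χ * (Cfsg.charDegree (χ : G → ℂ) : ℤ) - c χ ^ 2 =
          c χ * ((Cfsg.charDegree (χ : G → ℂ) : ℤ) - c χ) := by ring
      rw [h2]
      exact Dvd.dvd.mul_left this _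
  rw [hlinZ', hAe] at h1
  have h3 : (Cfsg.charDegree (η : G → ℂ) : ℤ) - (δ - (T : ℤ) * d) * e =
      (δ - (T : ℤ) * d) * ((δ - (T : ℤ) * d) * (Cfsg.charDegree (η : G → ℂ) : ℤ) - e) := by
    rcases hεz with h | h <;> rw [h] <;> ring
  rw [h3]
  exact Dvd.dvd.mul_left h1 _

end Cfsg.Agent.Helper6.BrSmall
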