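import Mathlib
import Cfsg.Agent.Helper6.BrSmallC

/-!
# Brauer's degree equation for simple groups with a Sylow subgroup `P` of prime order and
`|N(P) : C(P)| ∈ {2, 3}`, without assuming `C(P) = P`
-/

set_option autoImplicit false
set_option linter.style.haveILetI false

namespace Cfsg.Agent.Helper6.BrSmall

open Cfsg.Agent.Helper6 Cfsg.Agent.Helper2.BrTI Subgroup

universe u

variable {G : Type u} [Group G]

open Classical in
/-- the degree equation when `|N(P) : C(P)| = 2`, `p ≥ 5` (principal block; `C(P) = P` not needed) -/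
theorem simple_e2_gen [Finite G] [IsSimpleGroup G] {p : ℕ} [hp : Fact p.Prime] (P : Sylow p G)
    (hP : Nat.card P = p) (m' : ℕ) (hG : Nat.card G = p * m') (hm' : 1 < m')
    (hN : (Subgroup.centralizer ((P : Subgroup G) : Set G)).relIndex
      (Subgroup.normalizer ((P : Subgroup G) : Set G)) = 2) (hp5 : 5 ≤ p) :
    ∃ (n d : ℕ) (δ εz : ℤ), (δ = 1 ∨ δ = -1) ∧ (εz = 1 ∨ εz = -1) ∧ 1 < n ∧ n ∣ m' ∧ d ∣ m' ∧
      (p : ℤ) ∣ (n : ℤ) - δ ∧ (p : ℤ) ∣ (d : ℤ) - εz * 2 ∧ 1 + δ * n = εz * d := by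
  haveI : Fintype G := Fintype.ofFinite G
  haveI : Finite (Cfsg.IrrCharacter G) := irr_finite
  haveI : Fintype (Cfsg.IrrCharacter G) := Fintype.ofFinite _
  have hnp : ¬ (Nat.card G).Prime := by
    rw [hG]
    exact Nat.not_prime_mul hp.out.one_lt.ne' hm'.ne'
  obtain ⟨εz, d, c, hε, hc1, hsq, hlin, hmod, hdmod, hddvd, hdvd, hgt⟩ :=
    principal_main (perfect_of_simple hnp) P hP 2 hN (Or.inl ⟨rfl, hp5⟩)
  obtain ⟨χ₁, hχ₁, hcχ₁, hsum⟩ := sum_sq_two c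
    (fun χ => (Cfsg.charDegree (χ : G → ℂ) : ℤ)) _ hc1 (by exact_mod_cast hsq)
  rw [hsum] at hlin
  have hone : Cfsg.charDegree (fun _ : G => (1 : ℂ)) = 1 := by
    unfold Cfsg.charDegree
    simp
  simp only [hone] at hlin
  have hcne : c χ₁ ≠ 0 := by rcases hcχ₁ with h | h <;> rw [h] <;> norm_num
  have hmod1 := hmod χ₁ hcne
  refine ⟨Cfsg.charDegree (χ₁ : G → ℂ), d, c χ₁, εz, hcχ₁, hε, hgt χ₁ hχ₁, ?_, ?_, hmod1,
    by simpa using hdmod, by exact_mod_cast hlin⟩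
  · have hcop := coprime_of_dvd_sub hp.out hmod1 (not_dvd_pm_one (by omega) hcχ₁)
    have := hdvd χ₁
    rw [hG] at this
    exact hcop.dvd_of_dvd_mul_left this
  · have hcop := coprime_of_dvd_sub hp.out hdmod
      (not_dvd_pm_mul (e := 2) (by norm_num) (by omega) hε)
    rw [hG] at hddvd
    exact hcop.dvd_of_dvd_mul_left hddvd

open Classical in
/-- the degree equation when `|N(P) : C(P)| = 3`, `p ≥ 7` (principal block; `C(P) = P` not needed) -/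
theorem simple_e3_gen [Finite G] [IsSimpleGroup G] {p : ℕ} [hp : Fact p.Prime] (P : Sylow p G)
    (hP : Nat.card P = p) (m' : ℕ) (hG : Nat.card G = p * m') (hm' : 1 < m')
    (hN : (Subgroup.centralizer ((P : Subgroup G) : Set G)).relIndex
      (Subgroup.normalizer ((P : Subgroup G) : Set G)) = 3) (hp7 : 7 ≤ p) :
    ∃ (n₁ n₂ d : ℕ) (δ₁ δ₂ εz : ℤ), (δ₁ = 1 ∨ δ₁ = -1) ∧ (δ₂ = 1 ∨ δ₂ = -1) ∧
      (εz = 1 ∨ εz = -1) ∧ 1 < n₁ ∧ 1 < n₂ ∧ n₁ ∣ m' ∧ n₂ ∣ m' ∧ d ∣ m' ∧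
      (p : ℤ) ∣ (n₁ : ℤ) - δ₁ ∧ (p : ℤ) ∣ (n₂ : ℤ) - δ₂ ∧ (p : ℤ) ∣ (d : ℤ) - εz * 3 ∧
      1 + δ₁ * n₁ + δ₂ * n₂ = εz * d := by
  haveI : Fintype G := Fintype.ofFinite G
  haveI : Finite (Cfsg.IrrCharacter G) := irr_finite
  haveI : Fintype (Cfsg.IrrCharacter G) := Fintype.ofFinite _
  have hnp : ¬ (Nat.card G).Prime := by
    rw [hG]
    exact Nat.not_prime_mul hp.out.one_lt.ne' hm'.ne'
  obtain ⟨εz, d, c, hε, hc1, hsq, hlin, hmod, hdmod, hddvd, hdvd, hgt⟩ :=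
    principal_main (perfect_of_simple hnp) P hP 3 hN (Or.inr ⟨rfl, hp7⟩)
  obtain ⟨χ₁, χ₂, hχ₁, hχ₂, -, hcχ₁, hcχ₂, hsum⟩ := sum_sq_three c
    (fun χ => (Cfsg.charDegree (χ : G → ℂ) : ℤ)) _ hc1 (by exact_mod_cast hsq)
  rw [hsum] at hlin
  have hone : Cfsg.charDegree (fun _ : G => (1 : ℂ)) = 1 := by
    unfold Cfsg.charDegree
    simp
  simp only [hone] at hlin
  have hcne₁ : c χ₁ ≠ 0 := by rcases hcχ₁ with h | h <;> rw [h] <;> norm_num
  have hcne₂ : c χ₂ ≠ 0 := by rcases hcχ₂ with h | h <;> rw [h] <;> norm_num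
  have hmod1 := hmod χ₁ hcne₁
  have hmod2 := hmod χ₂ hcne₂
  refine ⟨Cfsg.charDegree (χ₁ : G → ℂ), Cfsg.charDegree (χ₂ : G → ℂ), d, c χ₁, c χ₂, εz,
    hcχ₁, hcχ₂, hε, hgt χ₁ hχ₁, hgt χ₂ hχ₂, ?_, ?_, ?_, hmod1, hmod2,
    by simpa using hdmod, by exact_mod_cast hlin⟩
  · have hcop := coprime_of_dvd_sub hp.out hmod1 (not_dvd_pm_one (by omega) hcχ₁)
    have := hdvd χ₁
    rw [hG] at this
    exact hcop.dvd_of_dvd_mul_left this
  · have hcop := coprime_of_dvd_sub hp.out hmod2 (not_dvd_pm_one (by omega) hcχ₂)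
    have := hdvd χ₂
    rw [hG] at this
    exact hcop.dvd_of_dvd_mul_left this
  · have hcop := coprime_of_dvd_sub hp.out hdmod
      (not_dvd_pm_mul (e := 3) (by norm_num) (by omega) hε)
    rw [hG] at hddvd
    exact hcop.dvd_of_dvd_mul_left hddvd

end Cfsg.Agent.Helper6.BrSmall
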