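import Mathlib
import Cfsg.Prelude.Def_Characters
import Cfsg.Prelude.Def_Blocks
import Cfsg.Agent.Helper6.BrauerAppA
import Cfsg.Agent.Helper6.DadeIso

/-!
# Brauer's identities for an involution and a function induced from a `2`-subgroup (S4722),
first part
-/

set_option autoImplicit false
set_option linter.style.haveILetI false

namespace Cfsg.Agent.Helper6

open Module
open scoped ComplexConjugate

universe u

variable {G : Type u} [Group G] {M : Ideal Cfsg.AlgInt}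

/-- the three identities -/
theorem brauer_involution_identities [Finite G] (hM : Cfsg.IsPModular 2 M) (P : Subgroup G)
    (hP : IsPGroup 2 P) (U : Set G) (t : G) (ht : orderOf t = 2)
    (hinv : ∀ u ∈ U, ∀ g : G, (g * t * g⁻¹) * u * (g * t * g⁻¹)⁻¹ ≠ u⁻¹)
    (θ : P → ℂ) (hθU : ∀ y : P, (y : G) ∉ U → θ y = 0) :
    (∑ᶠ χ ∈ Cfsg.principalBlock M G, ((Nat.card P : ℂ)⁻¹ *
      ∑ᶠ y : P, (χ : G → ℂ) (y : G) * θ y⁻¹) * (χ : G → ℂ) t ^ 2 / (χ : G → ℂ) 1 = 0) ∧
    (∑ᶠ χ ∈ Cfsg.principalBlock M G, ((Nat.card P : ℂ)⁻¹ *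
      ∑ᶠ y : P, (χ : G → ℂ) (y : G) * θ y⁻¹) * (χ : G → ℂ) 1 = 0) ∧
    (∑ᶠ χ ∈ Cfsg.principalBlock M G, ((Nat.card P : ℂ)⁻¹ *
      ∑ᶠ y : P, (χ : G → ℂ) (y : G) * θ y⁻¹) * (χ : G → ℂ) t = 0) := by
  classical
  haveI := Fintype.ofFinite G
  haveI : Fintype P := Fintype.ofFinite _
  haveI : Finite (Cfsg.IrrCharacter G) := irr_finite
  haveI : Fintype (Cfsg.IrrCharacter G) := Fintype.ofFinite _
  haveI : Fact (Nat.Prime 2) := ⟨Nat.prime_two⟩
  obtain ⟨B₀, hB₀def⟩ : ∃ B₀ : Set (Cfsg.IrrCharacter G), B₀ = Cfsg.principalBlock M G :=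
    ⟨_, rfl⟩
  rw [← hB₀def]
  have hB₀ : Cfsg.IsPBlock M B₀ := by
    rw [hB₀def]
    exact ⟨⟨fun _ => 1, isIrrCharacter_one⟩, rfl⟩
  obtain ⟨ϑ, hϑ⟩ : ∃ ϑ : G → ℂ, ϑ = Cfsg.indFun P θ := ⟨_, rfl⟩
  have ha : ∀ χ : Cfsg.IrrCharacter G, (Nat.card P : ℂ)⁻¹ *
      ∑ᶠ y : P, (χ : G → ℂ) (y : G) * θ y⁻¹ = Cfsg.classInner ϑ (χ : G → ℂ) := by
    intro χ
    rw [finsum_eq_sum_of_fintype, hϑ]
    exact brauerCoeff_eq_classInner P θ (IsIrrCharacter.isCharacter χ.2)
  simp_rw [ha]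
  have hvan : ∀ g z : G, Cfsg.IsPPart 2 g z →
      (∃ h : G, (h * t * h⁻¹) * z * (h * t * h⁻¹)⁻¹ = z⁻¹) →
      ∑ᶠ χ ∈ B₀, Cfsg.classInner ϑ (χ : G → ℂ) * (χ : G → ℂ) g = 0 := by
    intro g z hz hzinv
    rw [← blockPart_apply, hϑ]
    exact blockPart_indFun_eq_zero hM P hP U θ hθU B₀ hB₀ g z hz
      (not_conj_mem_of_inverted U t hinv z hzinv)
  have ht2 : t * t = 1 := by
    have := pow_orderOf_eq_one t
    rw [ht, pow_two] at this
    exact this
  have htinv : t⁻¹ = t := inv_eq_of_mul_eq_one_left ht2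
  refine ⟨?_, ?_, ?_⟩
  · -- the first identity
    obtain ⟨idx, hidx⟩ : ∃ idx : ℂ,
        idx = ((Subgroup.centralizer ({t} : Set G)).index : ℂ) := ⟨_, rfl⟩
    have hidx0 : idx ≠ 0 := by
      rw [hidx]
      have : (Subgroup.centralizer ({t} : Set G)).index ≠ 0 := Subgroup.index_ne_zero_of_finite
      exact_mod_cast this
    have hterm : ∀ χ : Cfsg.IrrCharacter G,
        Cfsg.classInner ϑ (χ : G → ℂ) * (χ : G → ℂ) t ^ 2 / (χ : G → ℂ) 1 =
        (idx ^ 2)⁻¹ * ∑ y : G, (classPowCount t 2 y : ℂ) *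
          (Cfsg.classInner ϑ (χ : G → ℂ) * (χ : G → ℂ) y) := by
      intro χ
      have h := sum_classPowCount_char χ t 2 1
      have hχ1 : (χ : G → ℂ) 1 ≠ 0 := IsIrrCharacter.apply_one_ne_zero χ.2
      have h2 : ∑ y : G, (classPowCount t 2 y : ℂ) *
          (Cfsg.classInner ϑ (χ : G → ℂ) * (χ : G → ℂ) y) =
          Cfsg.classInner ϑ (χ : G → ℂ) *
            ∑ y : G, (classPowCount t 2 y : ℂ) * (χ : G → ℂ) (y * 1) := by
        rw [Finset.mul_sum]
        apply Finset.sum_congr rfl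
        intro y _
        rw [mul_one]
        ring
      rw [h2, h]
      unfold Cfsg.centralChar
      rw [← hidx]
      field_simp
    rw [finsum_mem_eq_sum_ite]
    have hsum : ∑ χ : Cfsg.IrrCharacter G, (if χ ∈ B₀ then
        Cfsg.classInner ϑ (χ : G → ℂ) * (χ : G → ℂ) t ^ 2 / (χ : G → ℂ) 1 else 0) =
        (idx ^ 2)⁻¹ * ∑ y : G, (classPowCount t 2 y : ℂ) *
          ∑ χ : Cfsg.IrrCharacter G, (if χ ∈ B₀ then
            Cfsg.classInner ϑ (χ : G → ℂ) * (χ : G → ℂ) y else 0) := by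
      simp_rw [hterm, Finset.mul_sum]
      rw [Finset.sum_comm]
      apply Finset.sum_congr rfl
      intro χ _
      split_ifs
      · rfl
      · simp
    rw [hsum]
    have hzero : ∀ y : G, (classPowCount t 2 y : ℂ) *
        ∑ χ : Cfsg.IrrCharacter G, (if χ ∈ B₀ then
          Cfsg.classInner ϑ (χ : G → ℂ) * (χ : G → ℂ) y else 0) = 0 := by
      intro y
      by_cases hc : classPowCount t 2 y = 0
      · rw [hc, Nat.cast_zero, zero_mul]
      · obtain ⟨x, x', hx, hx', hy⟩ := exists_mul_of_classPowCount_two t y hc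
        obtain ⟨z, hz⟩ := exists_isPPart 2 y
        obtain ⟨c, hc'⟩ := isConj_iff.mp hx
        obtain ⟨c', hc''⟩ := isConj_iff.mp hx'
        have hx2 : x * x = 1 := by
          rw [← hc']
          have : c * t * c⁻¹ * (c * t * c⁻¹) = c * (t * t) * c⁻¹ := by group
          rw [this, ht2]
          group
        have hx'2 : x' * x' = 1 := by
          rw [← hc'']
          have : c' * t * c'⁻¹ * (c' * t * c'⁻¹) = c' * (t * t) * c'⁻¹ := by group
          rw [this, ht2]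
          group
        have hxinv : x⁻¹ = x := inv_eq_of_mul_eq_one_left hx2
        have hx'inv : x'⁻¹ = x' := inv_eq_of_mul_eq_one_left hx'2
        have hyinv : x * y * x⁻¹ = y⁻¹ := by
          rw [hy, mul_inv_rev, hxinv, hx'inv, ← mul_assoc, hx2, one_mul]
        have hzinv := isPPart_inverted hz hyinv
        have := hvan y z hz ⟨c, by rw [hc']; exact hzinv⟩
        rw [finsum_mem_eq_sum_ite] at this
        rw [this, mul_zero]
    simp_rw [hzero]
    rw [Finset.sum_const_zero, mul_zero]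
  · apply hvan 1 1 (isPPart_self (p := 2) 1 0 (by rw [orderOf_one, pow_zero]))
    exact ⟨1, by group⟩
  · apply hvan t t (isPPart_self (p := 2) t 1 (by rw [ht, pow_one]))
    refine ⟨1, ?_⟩
    rw [one_mul, inv_one, mul_one, htinv, ht2, one_mul]

end Cfsg.Agent.Helper6
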