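import Mathlib
import Cfsg.Prelude.Def_Characters
import Cfsg.Prelude.Def_Blocks
import Cfsg.Agent.Helper6.BrauerAppB
import Cfsg.Agent.Helper6.PrincipalSection
import Cfsg.Agent.Helper6.Brauer8
import Cfsg.Agent.Helper6.Codegree

/-!
# Brauer's identities for an involution and a function induced from a `2`-subgroup (S4722),
second part: the signs of the coefficients
-/

set_option autoImplicit false
set_option linter.style.haveILetI false

namespace Cfsg.Agent.Helper6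

open Module
open scoped ComplexConjugate

universe u

variable {G : Type u} [Group G] {M : Ideal Cfsg.AlgInt}

/-- a weighted quadratic identity with at most one positive weight -/
theorem exists_ne_of_quadratic {ι : Type*} [DecidableEq ι] (s : Finset ι) (m d r : ι → ℝ)
    (hd : ∀ i ∈ s, 0 < d i) (h0 : ∑ i ∈ s, m i * d i = 0)
    (hq : ∀ c : ℝ, ∑ i ∈ s, m i * d i * (r i - c) ^ 2 = 0) (i₁ : ι) (hi₁ : i₁ ∈ s)
    (hm1 : m i₁ ≠ 0) (hfew : ∀ i ∈ s, ∀ j ∈ s, 0 < m i → 0 < m j → i = j) :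
    ∃ j ∈ s, j ≠ i₁ ∧ r j = r i₁ := by
  have claimA : ∀ i₀ ∈ s, 0 < m i₀ → ∀ i ∈ s, m i < 0 → r i = r i₀ := by
    intro i₀ hi₀ hpos i hi hneg
    have h1 := hq (r i₀)
    have hnonpos : ∀ j ∈ s, m j * d j * (r j - r i₀) ^ 2 ≤ 0 := by
      intro j hj
      by_cases hji : j = i₀
      · rw [hji, sub_self]
        simp
      · have hmj : m j ≤ 0 := by
          by_contra hcon
          exact hji (hfew j hj i₀ hi₀ (not_le.mp hcon) hpos)
        have := hd j hj
        have h2 : m j * d j ≤ 0 := mul_nonpos_of_nonpos_of_nonneg hmj this.le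
        exact mul_nonpos_of_nonpos_of_nonneg h2 (sq_nonneg _)
    have h2 := (Finset.sum_eq_zero_iff_of_nonpos hnonpos).mp h1 i hi
    have h3 : m i * d i ≠ 0 := mul_ne_zero hneg.ne (hd i hi).ne'
    have h4 : (r i - r i₀) ^ 2 = 0 := by
      rcases mul_eq_zero.mp h2 with h | h
      · exact absurd h h3
      · exact h
    have h5 : r i - r i₀ = 0 := pow_eq_zero_iff (two_ne_zero) |>.mp h4
    linarith
  rcases lt_or_gt_of_ne hm1 with hneg | hpos
  · -- some weight is positive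
    have hex : ∃ i₀ ∈ s, 0 < m i₀ := by
      by_contra hcon
      have hcon : ∀ i ∈ s, m i ≤ 0 := by
        intro i hi
        by_contra h
        exact hcon ⟨i, hi, not_le.mp h⟩
      have hlt : ∑ i ∈ s, m i * d i < 0 := by
        apply Finset.sum_neg' (fun i hi => mul_nonpos_of_nonpos_of_nonneg (hcon i hi)
          (hd i hi).le)
        exact ⟨i₁, hi₁, mul_neg_of_neg_of_pos hneg (hd i₁ hi₁)⟩
      rw [h0] at hlt
      exact lt_irrefl _ hlt
    obtain ⟨i₀, hi₀, hpos₀⟩ := hex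
    refine ⟨i₀, hi₀, ?_, (claimA i₀ hi₀ hpos₀ i₁ hi₁ hneg).symm⟩
    rintro rfl
    linarith
  · have hex : ∃ j ∈ s, m j < 0 := by
      by_contra hcon
      have hcon : ∀ i ∈ s, 0 ≤ m i := by
        intro i hi
        by_contra h
        exact hcon ⟨i, hi, not_le.mp h⟩
      have hlt : 0 < ∑ i ∈ s, m i * d i := by
        apply Finset.sum_pos' (fun i hi => mul_nonneg (hcon i hi) (hd i hi).le)
        exact ⟨i₁, hi₁, mul_pos hpos (hd i₁ hi₁)⟩
      rw [h0] at hlt
      exact lt_irrefl _ hlt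
    obtain ⟨j, hj, hnegj⟩ := hex
    refine ⟨j, hj, ?_, claimA i₁ hi₁ hpos j hj hnegj⟩
    rintro rfl
    linarith

/-- the signs of the coefficients -/
theorem brauer_involution_signs [Finite G] (hM : Cfsg.IsPModular 2 M) (P : Subgroup G)
    (hP : IsPGroup 2 P) (U : Set G) (t : G) (ht : orderOf t = 2)
    (hinv : ∀ u ∈ U, ∀ g : G, (g * t * g⁻¹) * u * (g * t * g⁻¹)⁻¹ ≠ u⁻¹)
    (θ : P → ℂ) (hθ : Cfsg.IsGeneralizedCharacter P θ)
    (hθU : ∀ y : P, (y : G) ∉ U → θ y = 0)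
    (hne : (Nat.card P : ℂ)⁻¹ * ∑ᶠ y : P, θ y ≠ 0) :
    (2 ≤ Nat.card {χ : Cfsg.IrrCharacter G // χ ∈ Cfsg.principalBlock M G ∧
        0 < (((Nat.card P : ℂ)⁻¹ * ∑ᶠ y : P, (χ : G → ℂ) (y : G) * θ y⁻¹)).re} ∧
      2 ≤ Nat.card {χ : Cfsg.IrrCharacter G // χ ∈ Cfsg.principalBlock M G ∧
        (((Nat.card P : ℂ)⁻¹ * ∑ᶠ y : P, (χ : G → ℂ) (y : G) * θ y⁻¹)).re < 0}) ∨
    ∃ K : Subgroup G, K.Normal ∧ K ≠ ⊤ ∧ Cfsg.pPrimeCore 2 G ≤ K ∧ t ∈ K := by
  classical
  haveI := Fintype.ofFinite G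
  haveI : Fintype P := Fintype.ofFinite _
  haveI : Finite (Cfsg.IrrCharacter G) := irr_finite
  haveI : Fintype (Cfsg.IrrCharacter G) := Fintype.ofFinite _
  haveI : Fact (Nat.Prime 2) := ⟨Nat.prime_two⟩
  obtain ⟨h1, h2, h3⟩ := brauer_involution_identities hM P hP U t ht hinv θ hθU
  obtain ⟨a, ha⟩ : ∃ a : Cfsg.IrrCharacter G → ℂ, a = fun χ : Cfsg.IrrCharacter G => (Nat.card P : ℂ)⁻¹ *
      ∑ᶠ y : P, (χ : G → ℂ) (y : G) * θ y⁻¹ := ⟨_, rfl⟩
  have haχ : ∀ χ : Cfsg.IrrCharacter G, (Nat.card P : ℂ)⁻¹ *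
      ∑ᶠ y : P, (χ : G → ℂ) (y : G) * θ y⁻¹ = a χ := by
    intro χ
    rw [ha]
  simp_rw [haχ] at h1 h2 h3 ⊢
  obtain ⟨triv, htriv⟩ : ∃ t : Cfsg.IrrCharacter G, t = ⟨fun _ => 1, isIrrCharacter_one⟩ :=
    ⟨_, rfl⟩
  have htrivf : (triv : G → ℂ) = fun _ => 1 := by rw [htriv]
  have htrivB : triv ∈ Cfsg.principalBlock M G := by
    have := mem_blockOf_self hM.2.1 triv
    rw [htrivf] at this
    exact this
  -- the coefficients are integers
  have hint : ∀ χ : Cfsg.IrrCharacter G, ∃ n : ℤ, a χ = n := by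
    intro χ
    rw [← haχ χ, finsum_eq_sum_of_fintype,
      brauerCoeff_eq_classInner P θ (IsIrrCharacter.isCharacter χ.2)]
    exact IsGeneralizedCharacter.classInner_irr_int (IsGeneralizedCharacter.indFun P hθ) χ.2
  choose n hn using hint
  have hatriv : a triv ≠ 0 := by
    rw [← haχ triv, htrivf, finsum_eq_sum_of_fintype]
    rw [finsum_eq_sum_of_fintype] at hne
    have : ∑ y : P, (1 : ℂ) * θ y⁻¹ = ∑ y : P, θ y := by
      apply Fintype.sum_equiv (Equiv.inv P)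
      intro y
      rw [one_mul, Equiv.inv_apply]
    simp only
    rw [this]
    exact hne
  have hntriv : n triv ≠ 0 := by
    intro h0
    apply hatriv
    rw [hn, h0, Int.cast_zero]
  -- real values at `t`
  have ht2 : t * t = 1 := by
    have := pow_orderOf_eq_one t
    rw [ht, pow_two] at this
    exact this
  have htinv : t⁻¹ = t := inv_eq_of_mul_eq_one_left ht2
  have hreal : ∀ χ : Cfsg.IrrCharacter G, (χ : G → ℂ) t = (((χ : G → ℂ) t).re : ℂ) := by
    intro χ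
    have := IsCharacter.inv_eq_conj (IsIrrCharacter.isCharacter χ.2) t
    rw [htinv] at this
    have him := Complex.conj_eq_iff_im.mp this.symm
    apply Complex.ext
    · simp
    · simp [him]
  have hdeg : ∀ χ : Cfsg.IrrCharacter G, (χ : G → ℂ) 1 =
      ((Cfsg.charDegree (χ : G → ℂ) : ℝ) : ℂ) := by
    intro χ
    rw [← charDegree_cast_of_isCharacter (IsIrrCharacter.isCharacter χ.2)]
    exact (Complex.ofReal_natCast _).symm
  have hdpos : ∀ χ : Cfsg.IrrCharacter G, (0 : ℝ) < (Cfsg.charDegree (χ : G → ℂ) : ℝ) := by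
    intro χ
    have := charDegree_ne_zero_of_irr χ.2
    have : 0 < Cfsg.charDegree (χ : G → ℂ) := Nat.pos_of_ne_zero this
    exact_mod_cast this
  obtain ⟨FB, hFB⟩ : ∃ FB : Finset (Cfsg.IrrCharacter G),
      FB = Finset.univ.filter (fun ξ => ξ ∈ Cfsg.principalBlock M G) := ⟨_, rfl⟩
  have hmemFB : ∀ ξ, ξ ∈ FB ↔ ξ ∈ Cfsg.principalBlock M G := by
    intro ξ
    rw [hFB, Finset.mem_filter]
    simp
  have hBset : Cfsg.principalBlock M G = (FB : Set (Cfsg.IrrCharacter G)) := by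
    ext ξ
    rw [Finset.mem_coe, hmemFB]
  rw [finsum_mem_congr hBset (fun x _ => rfl), finsum_mem_coe_finset] at h1 h2 h3
  obtain ⟨d, hd⟩ : ∃ d : Cfsg.IrrCharacter G → ℝ,
      d = fun χ : Cfsg.IrrCharacter G => (Cfsg.charDegree (χ : G → ℂ) : ℝ) := ⟨_, rfl⟩
  obtain ⟨τ, hτ⟩ : ∃ τ : Cfsg.IrrCharacter G → ℝ, τ = fun χ : Cfsg.IrrCharacter G => ((χ : G → ℂ) t).re := ⟨_, rfl⟩
  have hd' : ∀ χ : Cfsg.IrrCharacter G, (χ : G → ℂ) 1 = ((d χ : ℝ) : ℂ) := by
    intro χ
    rw [hd]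
    exact hdeg χ
  have hτ' : ∀ χ : Cfsg.IrrCharacter G, (χ : G → ℂ) t = ((τ χ : ℝ) : ℂ) := by
    intro χ
    rw [hτ]
    exact hreal χ
  have hdp : ∀ χ, 0 < d χ := by
    intro χ
    rw [hd]
    exact hdpos χ
  -- real identities
  have r2 : ∑ χ ∈ FB, (n χ : ℝ) * d χ = 0 := by
    have : ((∑ χ ∈ FB, (n χ : ℝ) * d χ : ℝ) : ℂ) = 0 := by
      rw [← h2]
      push_cast
      apply Finset.sum_congr rfl
      intro χ _
      rw [hn χ, hd' χ]
    exact_mod_cast this
  have r3 : ∑ χ ∈ FB, (n χ : ℝ) * τ χ = 0 := by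
    have : ((∑ χ ∈ FB, (n χ : ℝ) * τ χ : ℝ) : ℂ) = 0 := by
      rw [← h3]
      push_cast
      apply Finset.sum_congr rfl
      intro χ _
      rw [hn χ, hτ' χ]
    exact_mod_cast this
  have r1 : ∑ χ ∈ FB, (n χ : ℝ) * τ χ ^ 2 / d χ = 0 := by
    have : ((∑ χ ∈ FB, (n χ : ℝ) * τ χ ^ 2 / d χ : ℝ) : ℂ) = 0 := by
      rw [← h1]
      push_cast
      apply Finset.sum_congr rfl
      intro χ _
      rw [hn χ, hτ' χ, hd' χ]
    exact_mod_cast this
  have hq : ∀ ε : ℝ, ∀ c : ℝ,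
      ∑ χ ∈ FB, (ε * (n χ : ℝ)) * d χ * (τ χ / d χ - c) ^ 2 = 0 := by
    intro ε c
    have e : ∀ χ ∈ FB, (ε * (n χ : ℝ)) * d χ * (τ χ / d χ - c) ^ 2 =
        ε * ((n χ : ℝ) * τ χ ^ 2 / d χ) - 2 * c * ε * ((n χ : ℝ) * τ χ) +
          c ^ 2 * ε * ((n χ : ℝ) * d χ) := by
      intro χ _
      have := (hdp χ).ne'
      field_simp
      ring
    rw [Finset.sum_congr rfl e, Finset.sum_add_distrib, Finset.sum_sub_distrib,
      ← Finset.mul_sum, ← Finset.mul_sum, ← Finset.mul_sum, r1, r2, r3]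
    ring
  -- the main alternative
  by_contra hcon
  rw [not_or] at hcon
  obtain ⟨hcon1, hcon2⟩ := hcon
  -- it suffices to find a nonprincipal member of the principal block with `t` in its kernel
  have hsuff : ¬ ∃ χ₁ ∈ FB, χ₁ ≠ triv ∧ τ χ₁ / d χ₁ = τ triv / d triv := by
    rintro ⟨χ₁, hχ₁, hne1, hr⟩
    apply hcon2
    have hχ₁B := (hmemFB χ₁).mp hχ₁
    obtain ⟨K, hKn, hKmem, -, -, -⟩ := exists_kernel_data χ₁.2
    refine ⟨K, hKn, ?_, ?_, ?_⟩
    · intro htop
      have hall : ∀ g : G, (χ₁ : G → ℂ) g = (χ₁ : G → ℂ) 1 := by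
        intro g
        rw [← hKmem g, htop]
        exact Subgroup.mem_top g
      have hne' : (χ₁ : G → ℂ) ≠ (triv : G → ℂ) := fun h => hne1 (Subtype.ext h)
      have h0 := classInner_irr_ne χ₁.2 triv.2 hne'
      rw [classInner_def] at h0
      have hsum : ∑ g : G, (χ₁ : G → ℂ) g * conj ((triv : G → ℂ) g) =
          (Nat.card G : ℂ) * (χ₁ : G → ℂ) 1 := by
        rw [htrivf]
        simp_rw [hall, map_one, mul_one]
        rw [Finset.sum_const, Finset.card_univ, nsmul_eq_mul, Nat.card_eq_fintype_card]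
      rw [hsum] at h0
      have hG0 : (Nat.card G : ℂ) ≠ 0 := by
        have : 0 < Nat.card G := Nat.card_pos
        exact_mod_cast this.ne'
      rw [← mul_assoc, inv_mul_cancel₀ hG0, one_mul] at h0
      exact IsIrrCharacter.apply_one_ne_zero χ₁.2 h0
    · intro g hg
      rw [hKmem g]
      exact pPrimeCore_le_ker_principalBlock hM χ₁ hχ₁B g hg
    · rw [hKmem t, hτ' χ₁, hd' χ₁]
      have h1t : τ triv / d triv = 1 := by
        have e1 : ((τ triv : ℝ) : ℂ) = 1 := by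
          rw [← hτ' triv, htrivf]
        have e2 : ((d triv : ℝ) : ℂ) = 1 := by
          rw [← hd' triv, htrivf]
        have e1' : τ triv = 1 := by exact_mod_cast e1
        have e2' : d triv = 1 := by exact_mod_cast e2
        rw [e1', e2', div_one]
      rw [h1t, div_eq_one_iff_eq (hdp χ₁).ne'] at hr
      rw [hr]
  apply hcon1
  have htrivFB : triv ∈ FB := (hmemFB triv).mpr htrivB
  have hre : ∀ χ, (a χ).re = (n χ : ℝ) := by
    intro χ
    rw [hn χ]
    simp
  constructor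
  · by_contra hlt
    rw [not_le] at hlt
    have hsub : Subsingleton {χ : Cfsg.IrrCharacter G // χ ∈ Cfsg.principalBlock M G ∧
        0 < (a χ).re} := by
      rw [← Finite.card_le_one_iff_subsingleton]
      omega
    apply hsuff
    apply exists_ne_of_quadratic FB (fun χ => (1 : ℝ) * (n χ : ℝ)) d (fun χ => τ χ / d χ)
      (fun χ _ => hdp χ) (by simp_rw [one_mul]; exact r2) (hq 1) triv htrivFB
      (by
        simp only [one_mul]
        exact_mod_cast hntriv)
    intro i hi j hj hpi hpj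
    simp only [one_mul] at hpi hpj
    have e := hsub.elim ⟨i, (hmemFB i).mp hi, by rw [hre]; exact hpi⟩
      ⟨j, (hmemFB j).mp hj, by rw [hre]; exact hpj⟩
    exact congrArg Subtype.val e
  · by_contra hlt
    rw [not_le] at hlt
    have hsub : Subsingleton {χ : Cfsg.IrrCharacter G // χ ∈ Cfsg.principalBlock M G ∧
        (a χ).re < 0} := by
      rw [← Finite.card_le_one_iff_subsingleton]
      omega
    apply hsuff
    apply exists_ne_of_quadratic FB (fun χ => (-1 : ℝ) * (n χ : ℝ)) d (fun χ => τ χ / d χ)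
      (fun χ _ => hdp χ) (by
        simp_rw [neg_one_mul, neg_mul]
        rw [Finset.sum_neg_distrib, r2, neg_zero]) (hq (-1)) triv htrivFB
      (by
        simp only [neg_one_mul]
        rw [neg_ne_zero]
        exact_mod_cast hntriv)
    intro i hi j hj hpi hpj
    simp only [neg_one_mul, Left.neg_pos_iff] at hpi hpj
    have e := hsub.elim ⟨i, (hmemFB i).mp hi, by rw [hre]; exact hpi⟩
      ⟨j, (hmemFB j).mp hj, by rw [hre]; exact hpj⟩
    exact congrArg Subtype.val e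

end Cfsg.Agent.Helper6
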