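import Mathlib
import Cfsg.Prelude.Def_Characters
import Cfsg.Agent.Helper6.BrolineA

/-!
# Broline–Garrison: the dichotomy for a maximal supplement of the kernel
-/

set_option autoImplicit false
set_option linter.style.haveILetI false

namespace Cfsg.Agent.Helper6

open Module Representation
open scoped ComplexConjugate

universe u

variable {G : Type u} [Group G]

/-- The permutation character `(1_H)^G` takes its degree at `h` only if `h` lies in the core. -/
theorem mem_normalCore_of_indFun_one [Fintype G] (H : Subgroup G) (h : G)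
    (hh : Cfsg.indFun H (fun _ : H => (1 : ℂ)) h = Cfsg.indFun H (fun _ : H => (1 : ℂ)) 1) :
    h ∈ H.normalCore := by
  classical
  have hH0 : (Nat.card H : ℂ) ≠ 0 := by
    have : 0 < Nat.card H := Nat.card_pos
    exact_mod_cast this.ne'
  rw [indFun_apply, indFun_apply] at hh
  have hh' := mul_left_cancel₀ (inv_ne_zero hH0) hh
  have hext : ∀ y : G, Cfsg.extendByZero H (fun _ : H => (1 : ℂ)) y = if y ∈ H then 1 else 0 := by
    intro y
    split_ifs with hy
    · rw [extendByZero_mem H _ hy]
    · rw [extendByZero_not_mem H _ hy]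
  simp only [hext] at hh'
  rw [Finset.sum_boole, Finset.sum_boole] at hh'
  have hc := Nat.cast_injective hh'
  have h1 : (Finset.univ.filter fun x : G => x⁻¹ * 1 * x ∈ H) = Finset.univ := by
    apply Finset.filter_true_of_mem
    intro x _
    simp
  rw [h1] at hc
  have hall := (Finset.card_filter_eq_iff).mp hc
  intro b
  have := hall b⁻¹ (Finset.mem_univ _)
  simpa using this

/-- **Broline–Garrison dichotomy.** Let `K` be the kernel of the irreducible character `χ` and
`H` a maximal subgroup with `KH = G`.  Either some irreducible `ψ` of larger degree has kernel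
properly contained in `K`, or `χ` vanishes on `H` off the core of `H`. -/
theorem broline_core [Finite G] (χ : Cfsg.IrrCharacter G) (K : Subgroup G) [hKn : K.Normal]
    (hK : ∀ g : G, g ∈ K ↔ (χ : G → ℂ) g = (χ : G → ℂ) 1)
    (H : Subgroup G) (hmax : IsCoatom H) (hKH : K ⊔ H = ⊤) :
    (∃ ψ : Cfsg.IrrCharacter G, Cfsg.charDegree (χ : G → ℂ) < Cfsg.charDegree (ψ : G → ℂ) ∧
      ∃ L : Subgroup G, (∀ g : G, g ∈ L ↔ (ψ : G → ℂ) g = (ψ : G → ℂ) 1) ∧ L < K) ∨
    (∀ h ∈ H, (χ : G → ℂ) h ≠ 0 → h ∈ H.normalCore) := by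
  classical
  haveI := Fintype.ofFinite G
  haveI : Fintype H := Fintype.ofFinite H
  have hχc := IsIrrCharacter.isCharacter χ.2
  have hχH : Cfsg.IsIrrCharacter H (fun h : H => (χ : G → ℂ) h) :=
    restrict_irr_of_ker_sup K H hKH χ (fun m hm => (hK m).mp hm)
  have hdχ := charDegree_cast_of_isCharacter hχc
  by_cases hex : ∃ ψ : Cfsg.IrrCharacter G,
      Cfsg.classInner (fun h : H => (ψ : G → ℂ) h) (fun h : H => (χ : G → ℂ) h) ≠ 0 ∧
      Cfsg.charDegree (χ : G → ℂ) < Cfsg.charDegree (ψ : G → ℂ)
  · left
    obtain ⟨ψ, hne, hlt⟩ := hex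
    obtain ⟨L, hLn, hL, -⟩ := exists_kernel_data ψ.2
    haveI := hLn
    have hψc := IsIrrCharacter.isCharacter ψ.2
    have hψH : Cfsg.IsCharacter H (fun h : H => (ψ : G → ℂ) h) := IsCharacter.restrict H hψc
    have hdψ := charDegree_cast_of_isCharacter hψc
    have h1 : L ⊔ H ≠ ⊤ := by
      intro htop
      have hirr := restrict_irr_of_ker_sup L H htop ψ (fun m hm => (hL m).mp hm)
      have heq : (fun h : H => (ψ : G → ℂ) h) = fun h : H => (χ : G → ℂ) h := by
        by_contra hne2
        exact hne (classInner_irr_ne hirr hχH hne2)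
      have h11 := congrFun heq 1
      simp only [Subgroup.coe_one] at h11
      rw [← hdψ, ← hdχ] at h11
      have := Nat.cast_injective h11
      omega
    have hLH : L ≤ H := by
      rcases eq_or_lt_of_le (le_sup_right : H ≤ L ⊔ H) with h | h
      · rw [h]; exact le_sup_left
      · exact absurd (hmax.2 _ h) h1
    refine ⟨ψ, hlt, L, hL, lt_of_le_not_ge ?_ ?_⟩
    · intro m hm
      rw [hK]
      have hθ := sub_isCharacter_of_constituent hψH hχH hne
      have hn1 := IsCharacter.norm_le hθ ⟨m, hLH hm⟩
      have hn2 := IsCharacter.norm_le hχc m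
      simp only [Pi.sub_apply, Subgroup.coe_one] at hn1
      rw [(hL m).mp hm, ← hdψ, ← hdχ] at hn1
      rw [← hdχ] at hn2 ⊢
      simp only [Complex.sub_re, Complex.natCast_re] at hn1 hn2
      have h3 : ((Cfsg.charDegree (ψ : G → ℂ) : ℂ) - (χ : G → ℂ) m).re ≤
          ‖(Cfsg.charDegree (ψ : G → ℂ) : ℂ) - (χ : G → ℂ) m‖ := Complex.re_le_norm _
      simp only [Complex.sub_re, Complex.natCast_re] at h3
      have := eq_of_norm_le_of_le_re (a := (Cfsg.charDegree (χ : G → ℂ) : ℝ)) hn2 (by linarith)
      rw [this]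
      norm_cast
    · intro hKL
      apply h1
      exact top_le_iff.mp (hKH ▸ sup_le_sup_right hKL H)
  · right
    push Not at hex
    haveI : Finite (Cfsg.IrrCharacter G) := irr_finite
    haveI : Fintype (Cfsg.IrrCharacter G) := Fintype.ofFinite _
    have hkey : ∀ ψ : Cfsg.IrrCharacter G,
        Cfsg.classInner (fun h : H => (ψ : G → ℂ) h) (fun h : H => (χ : G → ℂ) h) ≠ 0 →
        ∀ h : H, (ψ : G → ℂ) h = (χ : G → ℂ) h := by
      intro ψ hne
      have hψc := IsIrrCharacter.isCharacter ψ.2
      have hψH : Cfsg.IsCharacter H (fun h : H => (ψ : G → ℂ) h) := IsCharacter.restrict H hψc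
      have hdψ := charDegree_cast_of_isCharacter hψc
      have hθ := sub_isCharacter_of_constituent hψH hχH hne
      obtain ⟨n, hn⟩ := IsCharacter.apply_one hθ
      have hle := hex ψ hne
      simp only [Pi.sub_apply, Subgroup.coe_one] at hn
      rw [← hdψ, ← hdχ] at hn
      have hn' : (Cfsg.charDegree (ψ : G → ℂ) : ℂ) =
          ((Cfsg.charDegree (χ : G → ℂ) + n : ℕ) : ℂ) := by
        push_cast
        linear_combination hn
      have hn'' := Nat.cast_injective hn'
      have hdeg : (fun h : H => (ψ : G → ℂ) h) 1 = (fun h : H => (χ : G → ℂ) h) 1 := by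
        simp only [Subgroup.coe_one]
        rw [← hdψ, ← hdχ]
        congr 1
        omega
      have := eq_of_constituent_of_degree hψH hχH hne hdeg
      intro h
      exact congrFun this h
    set π : G → ℂ := Cfsg.indFun H (fun _ : H => (1 : ℂ)) with hπ
    have hΦ : (χ : G → ℂ) * π = Cfsg.indFun H (fun h : H => (χ : G → ℂ) h) := by
      rw [hπ, mul_indFun H _ _ (IsCharacter.isClassFunction hχc)]
      congr 1
      funext h
      rw [mul_one]
    have hcf : Cfsg.IsClassFunction G ((χ : G → ℂ) * π) := by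
      rw [hΦ]
      exact indFun_isClassFunction _ _
    have hexp := classFunction_expansion _ hcf
    have hcoef : ∀ ψ : Cfsg.IrrCharacter G,
        Cfsg.classInner ((χ : G → ℂ) * π) (ψ : G → ℂ) =
          Cfsg.classInner (fun h : H => (χ : G → ℂ) h) (fun h : H => (ψ : G → ℂ) h) := by
      intro ψ
      rw [hΦ, frobenius_reciprocity H _ _
        (IsCharacter.isClassFunction (IsIrrCharacter.isCharacter ψ.2))]
    have heval : ∀ h : H, (χ : G → ℂ) h * π h =
        (∑ ψ : Cfsg.IrrCharacter G, Cfsg.classInner ((χ : G → ℂ) * π) (ψ : G → ℂ)) *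
          (χ : G → ℂ) h := by
      intro h
      have := congrFun hexp h
      rw [Pi.mul_apply] at this
      rw [this, Finset.sum_apply, Finset.sum_mul]
      apply Finset.sum_congr rfl
      intro ψ _
      rw [Pi.smul_apply, smul_eq_mul]
      by_cases h0 : Cfsg.classInner ((χ : G → ℂ) * π) (ψ : G → ℂ) = 0
      · rw [h0, zero_mul, zero_mul]
      · rw [hkey ψ ?_ h]
        rw [hcoef] at h0
        rw [classInner_conj_symm]
        intro hc
        apply h0
        simpa using hc
    obtain ⟨d, hdpos, hd⟩ := IsIrrCharacter.apply_one_pos χ.2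
    have hχ1 : (χ : G → ℂ) 1 ≠ 0 := by
      rw [hd]
      exact_mod_cast hdpos.ne'
    have hS : (∑ ψ : Cfsg.IrrCharacter G, Cfsg.classInner ((χ : G → ℂ) * π) (ψ : G → ℂ)) =
        π 1 := by
      have := heval 1
      simp only [Subgroup.coe_one] at this
      rw [mul_comm] at this
      exact (mul_right_cancel₀ hχ1 this).symm
    intro h hh hne
    apply mem_normalCore_of_indFun_one
    have := heval ⟨h, hh⟩
    rw [hS] at this
    change (χ : G → ℂ) h * π h = π 1 * (χ : G → ℂ) h at this
    rw [mul_comm (π 1)] at this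
    exact mul_left_cancel₀ hne this

end Cfsg.Agent.Helper6
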