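import Mathlib
import Cfsg.Prelude.Def_Characters
import Cfsg.Agent.Helper6.BrolineB
import Cfsg.Agent.Helper6.Gallagher

/-!
# Broline–Garrison: the Frattini argument and the common final step
-/

set_option autoImplicit false
set_option linter.style.haveILetI false

namespace Cfsg.Agent.Helper6

open Module Representation
open scoped ComplexConjugate

universe u

variable {G : Type u} [Group G]

/-- Frattini argument for a `p`-subgroup `P` of a normal subgroup `Y` with `|Y : P|` prime to
`p`. -/
theorem normalizer_sup_eq_top_of_relIndex [Finite G] {p : ℕ} [Fact p.Prime] (Y P : Subgroup G)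
    [hY : Y.Normal] (hPY : P ≤ Y) (hP : IsPGroup p P) (hidx : ¬ p ∣ P.relIndex Y) :
    Subgroup.normalizer (P : Set G) ⊔ Y = ⊤ := by
  have hP' : IsPGroup p (P.subgroupOf Y) :=
    hP.of_equiv (Subgroup.subgroupOfEquivOfLe hPY).symm
  let S : Sylow p Y := hP'.toSylow hidx
  have := Sylow.normalizer_sup_eq_top S
  have hS : (S : Subgroup Y).map Y.subtype = P := by
    change (P.subgroupOf Y).map Y.subtype = P
    rw [Subgroup.subgroupOf_map_subtype, inf_of_le_left hPY]
  rwa [hS] at this

/-- The common final step of the Broline–Garrison theorem. -/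
theorem broline_common [Finite G] (χ : Cfsg.IrrCharacter G) (K : Subgroup G) [hKn : K.Normal]
    (hK : ∀ g : G, g ∈ K ↔ (χ : G → ℂ) g = (χ : G → ℂ) 1)
    {p : ℕ} [hp : Fact p.Prime] (M P : Subgroup G) [hMn : M.Normal] (hKM : K ≤ M) (hPM : P ≤ M)
    (hP : IsPGroup p P) (hidx : ¬ p ∣ P.relIndex M) (hPn : ¬ P.Normal) (hKP : K ⊔ P = M)
    (hmin : ∀ X : Subgroup G, X.Normal → K ≤ X → X ≤ M → X = K ∨ X = M) :
    ∃ ψ : Cfsg.IrrCharacter G, Cfsg.charDegree (χ : G → ℂ) < Cfsg.charDegree (ψ : G → ℂ) ∧
      ∃ L : Subgroup G, (∀ g : G, g ∈ L ↔ (ψ : G → ℂ) g = (ψ : G → ℂ) 1) ∧ L < K := by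
  classical
  have hNtop : Subgroup.normalizer (P : Set G) ≠ ⊤ := fun h =>
    hPn (Subgroup.normalizer_eq_top_iff.mp h)
  obtain ⟨H, hHco, hNH⟩ := (IsCoatomic.eq_top_or_exists_le_coatom
    (Subgroup.normalizer (P : Set G))).resolve_left hNtop
  have hPH : P ≤ H := Subgroup.le_normalizer.trans hNH
  have hfr := normalizer_sup_eq_top_of_relIndex M P hPM hP hidx
  have hKH : K ⊔ H = ⊤ := by
    apply top_le_iff.mp
    rw [← hfr]
    apply sup_le
    · exact hNH.trans le_sup_right
    · rw [← hKP]
      exact sup_le le_sup_left (hPH.trans le_sup_right)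
  rcases broline_core χ K hK H hHco hKH with h | hb
  · exact h
  exfalso
  obtain ⟨d, hdpos, hd⟩ := IsIrrCharacter.apply_one_pos χ.2
  have hχ1 : (χ : G → ℂ) 1 ≠ 0 := by
    rw [hd]
    exact_mod_cast hdpos.ne'
  have hL₀H : H.normalCore ≤ H := Subgroup.normalCore_le H
  have hKHL : K ⊓ H ≤ H.normalCore := by
    intro k hk
    apply hb k hk.2
    rw [(hK k).mp hk.1]
    exact hχ1
  set Y : Subgroup G := H.normalCore ⊓ M with hY
  haveI : Y.Normal := by rw [hY]; infer_instance
  have hYM : Y ≤ M := inf_le_right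
  have hYH : Y ≤ H := inf_le_left.trans hL₀H
  by_cases hXM : K ⊔ Y = M
  · -- `P ≤ Y`, and the Frattini argument gives `G = H`
    have hPY : P ≤ Y := by
      intro x hx
      refine ⟨?_, hPM hx⟩
      have hxM : x ∈ ((K ⊔ Y : Subgroup G) : Set G) := by
        rw [hXM]
        exact hPM hx
      rw [Subgroup.normal_mul] at hxM
      obtain ⟨k, hk, y, hy, rfl⟩ := Set.mem_mul.mp hxM
      have hkH : k ∈ H := by
        have : k = k * y * y⁻¹ := by group
        rw [this]
        exact H.mul_mem (hPH hx) (H.inv_mem (hYH hy))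
      exact (H.normalCore).mul_mem (hKHL ⟨hk, hkH⟩) hy.1
    have hidx' : ¬ p ∣ P.relIndex Y := by
      intro hdvd
      apply hidx
      rw [← Subgroup.relIndex_mul_relIndex P Y M hPY hYM]
      exact hdvd.mul_right _
    have hfr' := normalizer_sup_eq_top_of_relIndex Y P hPY hP hidx'
    apply hHco.1
    apply top_le_iff.mp
    rw [← hfr']
    exact sup_le hNH hYH
  · -- `Y ≤ K`, and `χ` vanishes on `M \ K`
    have hYK : Y ≤ K := by
      rcases hmin (K ⊔ Y) inferInstance le_sup_left (sup_le hKM hYM) with h | h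
      · rw [← h]
        exact le_sup_right
      · exact absurd h hXM
    have hvan : ∀ y ∈ M, y ∉ K → (χ : G → ℂ) y = 0 := by
      intro y hyM hyK
      have hyM' : y ∈ ((K ⊔ P : Subgroup G) : Set G) := by
        rw [hKP]
        exact hyM
      rw [Subgroup.normal_mul] at hyM'
      obtain ⟨k, hk, x, hx, rfl⟩ := Set.mem_mul.mp hyM'
      rw [irr_apply_mul_of_ker χ K (fun k hk => (hK k).mp hk) x k hk]
      have hxK : x ∉ K := fun hxK => hyK (K.mul_mem hk hxK)
      by_contra hne
      exact hxK (hYK ⟨hb x (hPH hx) hne, hPM hx⟩)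
    haveI : Fintype M := Fintype.ofFinite M
    have hsum := sum_coset_irr M χ.2 1
    have hsum2 : ∑ n : M, (χ : G → ℂ) (1 * n) =
        ((Finset.univ.filter fun n : M => (n : G) ∈ K).card : ℂ) * (χ : G → ℂ) 1 := by
      rw [← nsmul_eq_mul, ← Finset.sum_const, Finset.sum_filter]
      apply Finset.sum_congr rfl
      intro n _
      rw [one_mul]
      split_ifs with hn
      · exact (hK n).mp hn
      · exact hvan n n.2 hn
    have hpos : 0 < (Finset.univ.filter fun n : M => (n : G) ∈ K).card := by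
      apply Finset.card_pos.mpr
      exact ⟨1, by simp [K.one_mem]⟩
    have hne : ∑ n : M, (χ : G → ℂ) (1 * n) ≠ 0 := by
      rw [hsum2]
      apply mul_ne_zero _ hχ1
      exact_mod_cast hpos.ne'
    rw [hsum] at hne
    split_ifs at hne with hall
    · apply hXM
      have hMK : M ≤ K := fun m hm => (hK m).mpr (hall m hm)
      rw [sup_of_le_left hYK]
      exact le_antisymm hKM hMK
    · exact hne rfl

end Cfsg.Agent.Helper6
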