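import Mathlib
import Cfsg.Prelude.Def_Characters
import Cfsg.Prelude.Def_Solvable
import Cfsg.Agent.Helper6.BrolineC
import Cfsg.Agent.Helper1.Fitting
import Cfsg.Agent.Helper1.CoreFree

/-!
# The Broline–Garrison theorem
-/

set_option autoImplicit false
set_option linter.style.haveILetI false

namespace Cfsg.Agent.Helper6

open Module Representation
open scoped ComplexConjugate

universe u

variable {G : Type u} [Group G]

/-- Data of a Sylow `p`-subgroup of a subgroup `M`, pushed to `G`. -/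
theorem sylow_map_data [Finite G] {p : ℕ} [hp : Fact p.Prime] (M : Subgroup G) (S : Sylow p M) :
    (S : Subgroup M).map M.subtype ≤ M ∧ IsPGroup p ((S : Subgroup M).map M.subtype) ∧
      ¬ p ∣ ((S : Subgroup M).map M.subtype).relIndex M ∧
      (((S : Subgroup M).map M.subtype).Normal → (S : Subgroup M).Normal) := by
  have hsub : ((S : Subgroup M).map M.subtype).subgroupOf M = S :=
    Subgroup.comap_map_eq_self_of_injective (Subgroup.subtype_injective M) _
  refine ⟨Subgroup.map_subtype_le _, S.2.map M.subtype, ?_, ?_⟩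
  · rw [Subgroup.relIndex, hsub]
    exact S.not_dvd_index
  · intro hn
    rw [← hsub]
    exact Subgroup.normal_subgroupOf

/-- Broline–Garrison, first case: the kernel is not nilpotent. -/
theorem broline_case1 [Finite G] (χ : Cfsg.IrrCharacter G) (K : Subgroup G) [hKn : K.Normal]
    (hK : ∀ g : G, g ∈ K ↔ (χ : G → ℂ) g = (χ : G → ℂ) 1)
    (h : ¬ K ≤ Cfsg.fittingSubgroup G) :
    ∃ ψ : Cfsg.IrrCharacter G, Cfsg.charDegree (χ : G → ℂ) < Cfsg.charDegree (ψ : G → ℂ) ∧
      ∃ L : Subgroup G, (∀ g : G, g ∈ L ↔ (ψ : G → ℂ) g = (ψ : G → ℂ) 1) ∧ L < K := by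
  have hnil : ¬ Group.IsNilpotent K := fun hn => h (Helper1.le_fittingSubgroup hKn hn)
  have htfae := (Group.isNilpotent_of_finite_tfae (G := K)).out 0 3
  rw [htfae] at hnil
  push Not at hnil
  obtain ⟨p, hp, S, hS⟩ := hnil
  haveI := hp
  obtain ⟨hPK, hPp, hidx, hPn⟩ := sylow_map_data K S
  exact broline_common χ K hK K _ le_rfl hPK hPp hidx (fun hn => hS (hPn hn))
    (sup_of_le_left hPK) (fun X _ h1 h2 => Or.inl (le_antisymm h2 h1))

/-- Broline–Garrison, second case: the kernel is the Fitting subgroup and `G/K` is solvable. -/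
theorem broline_case2 [Finite G] (χ : Cfsg.IrrCharacter G) (K : Subgroup G) [hKn : K.Normal]
    (hK : ∀ g : G, g ∈ K ↔ (χ : G → ℂ) g = (χ : G → ℂ) 1)
    (hKF : K = Cfsg.fittingSubgroup G) (hsolv : Group.IsSolvable (G ⧸ K)) (hKtop : K ≠ ⊤) :
    ∃ ψ : Cfsg.IrrCharacter G, Cfsg.charDegree (χ : G → ℂ) < Cfsg.charDegree (ψ : G → ℂ) ∧
      ∃ L : Subgroup G, (∀ g : G, g ∈ L ↔ (ψ : G → ℂ) g = (ψ : G → ℂ) 1) ∧ L < K := by
  haveI : Nontrivial (G ⧸ K) := by
    by_contra hnt
    rw [not_nontrivial_iff_subsingleton] at hnt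
    exact hKtop (QuotientGroup.subgroup_eq_top_of_subsingleton K hnt)
  obtain ⟨p, hp, N', hNn, hNne, hNp, -, hNmin⟩ := Helper1.exists_minimal_normal_abelian (G ⧸ K)
  haveI := hp
  haveI := hNn
  set M : Subgroup G := N'.comap (QuotientGroup.mk' K) with hM
  haveI hMn : M.Normal := by rw [hM]; infer_instance
  have hKM : K ≤ M := by
    intro k hk
    change (QuotientGroup.mk' K k) ∈ N'
    rw [QuotientGroup.mk'_apply, (QuotientGroup.eq_one_iff k).mpr hk]
    exact N'.one_mem
  have hmapM : M.map (QuotientGroup.mk' K) = N' :=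
    Subgroup.map_comap_eq_self_of_surjective (QuotientGroup.mk'_surjective K) N'
  obtain ⟨S⟩ : Nonempty (Sylow p M) := inferInstance
  obtain ⟨hPM, hPp, hidx, -⟩ := sylow_map_data M S
  set P : Subgroup G := (S : Subgroup M).map M.subtype with hPdef
  have hKP : K ⊔ P = M := by
    apply le_antisymm (sup_le hKM hPM)
    have h1 : (K ⊔ P).relIndex M ∣ P.relIndex M := Subgroup.relIndex_dvd_of_le_left M le_sup_right
    have h2 : (K ⊔ P).relIndex M ∣ K.relIndex M := Subgroup.relIndex_dvd_of_le_left M le_sup_left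
    have h3 : ∃ k, K.relIndex M = p ^ k := by
      have hKbot : K = (⊥ : Subgroup (G ⧸ K)).comap (QuotientGroup.mk' K) := by
        rw [MonoidHom.comap_bot, QuotientGroup.ker_mk']
      obtain ⟨k, hk⟩ := IsPGroup.iff_card.mp hNp
      refine ⟨k, ?_⟩
      conv_lhs => rw [hKbot]
      rw [Subgroup.relIndex_comap, hmapM, Subgroup.relIndex_bot_left, hk]
    obtain ⟨k, hk⟩ := h3
    rw [hk] at h2
    obtain ⟨j, -, hj⟩ := (Nat.dvd_prime_pow hp.out).mp h2
    have hj0 : j = 0 := by
      by_contra hj0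
      apply hidx
      refine dvd_trans ?_ h1
      rw [hj]
      exact dvd_pow_self p hj0
    rw [hj0, pow_zero] at hj
    exact Subgroup.relIndex_eq_one.mp hj
  have hPn : ¬ P.Normal := by
    intro hn
    haveI : Finite P := inferInstance
    have hPF : P ≤ Cfsg.fittingSubgroup G := Helper1.le_fittingSubgroup hn hPp.isNilpotent
    rw [← hKF] at hPF
    have hMK : M = K := by
      rw [← hKP]
      exact sup_of_le_left hPF
    apply hNne
    rw [← hmapM, hMK, Subgroup.map_eq_bot_iff, QuotientGroup.ker_mk']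
  have hmin : ∀ X : Subgroup G, X.Normal → K ≤ X → X ≤ M → X = K ∨ X = M := by
    intro X hXn hKX hXM
    have hXmap : (X.map (QuotientGroup.mk' K)).Normal :=
      hXn.map _ (QuotientGroup.mk'_surjective K)
    have hle : X.map (QuotientGroup.mk' K) ≤ N' := Subgroup.map_le_iff_le_comap.mpr hXM
    rcases hNmin _ hXmap hle with h | h
    · left
      apply le_antisymm _ hKX
      have := (Subgroup.map_eq_bot_iff _).mp h
      rwa [QuotientGroup.ker_mk'] at this
    · right
      rw [hM, ← h, Subgroup.comap_map_eq, QuotientGroup.ker_mk', sup_of_le_left hKX]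
  exact broline_common χ K hK M P hKM hPM hPp hidx hPn hKP hmin

/-- **Broline–Garrison theorem.** -/
theorem broline_garrison [Finite G] (χ : Cfsg.IrrCharacter G) (K : Subgroup G) [hKn : K.Normal]
    (hK : ∀ g : G, g ∈ K ↔ (χ : G → ℂ) g = (χ : G → ℂ) 1)
    (h : ¬ K ≤ Cfsg.fittingSubgroup G ∨
      (K = Cfsg.fittingSubgroup G ∧ Group.IsSolvable (G ⧸ K) ∧ K ≠ ⊤)) :
    ∃ ψ : Cfsg.IrrCharacter G, Cfsg.charDegree (χ : G → ℂ) < Cfsg.charDegree (ψ : G → ℂ) ∧
      ∃ L : Subgroup G, (∀ g : G, g ∈ L ↔ (ψ : G → ℂ) g = (ψ : G → ℂ) 1) ∧ L < K := by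
  rcases h with h | ⟨h1, h2, h3⟩
  · exact broline_case1 χ K hK h
  · exact broline_case2 χ K hK h1 h2 h3

end Cfsg.Agent.Helper6
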