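import Mathlib
import Cfsg.Prelude.Def_LieExceptional

/-!
# From the conclusion of the abstract Brauer–Suzuki–Wall theorem to `PSL(2, q)`

A finite simple group with subgroups `Q`, `D` as in the conclusion of S3282 (with `D ≠ 1`) acts on
the cosets of `N(Q)` as a Zassenhaus group in which `Q` is an abelian regular normal subgroup of the
point stabiliser; so it is `PSL(2, F)` with `F` of odd order.
-/

set_option autoImplicit false
set_option linter.style.haveILetI false

namespace Cfsg.Agent.Helper6.BswDih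

open MulAction

universe u

variable {G : Type u} [Group G]

/-- elements of `Q ⊔ D` when `D` normalizes `Q` -/
theorem exists_mul_of_mem_sup {Q D : Subgroup G} (hD : D ≤ Subgroup.normalizer (Q : Set G)) {x : G}
    (hx : x ∈ Q ⊔ D) : ∃ w ∈ Q, ∃ g ∈ D, x = w * g := by
  have h := Subgroup.coe_mul_of_right_le_normalizer_left Q D hD
  have hx' : x ∈ ((Q ⊔ D : Subgroup G) : Set G) := hx
  rw [h] at hx'
  obtain ⟨w, hw, g, hg, rfl⟩ := hx'
  exact ⟨w, hw, g, hg, rfl⟩

/-- `|Q ⊔ D| = |Q| |D|` when `D` normalizes `Q` and `Q ∩ D = 1` -/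
theorem card_sup_of_disjoint {Q D : Subgroup G} (hD : D ≤ Subgroup.normalizer (Q : Set G))
    (hQD : Q ⊓ D = ⊥) : Nat.card (Q ⊔ D : Subgroup G) = Nat.card Q * Nat.card D := by
  rw [← Nat.card_prod]
  symm
  apply Nat.card_congr
  refine Equiv.ofBijective
    (fun p : Q × D => (⟨(p.1 : G) * (p.2 : G),
      Subgroup.mul_mem_sup p.1.2 p.2.2⟩ : (Q ⊔ D : Subgroup G))) ⟨?_, ?_⟩
  · rintro ⟨a, b⟩ ⟨c, d⟩ h
    have h0 : (a : G) * (b : G) = (c : G) * (d : G) := congrArg Subtype.val h
    have h1 : (c : G)⁻¹ * (a : G) = (d : G) * (b : G)⁻¹ := by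
      calc (c : G)⁻¹ * (a : G) = (c : G)⁻¹ * ((a : G) * (b : G)) * (b : G)⁻¹ := by group
        _ = (c : G)⁻¹ * ((c : G) * (d : G)) * (b : G)⁻¹ := by rw [h0]
        _ = (d : G) * (b : G)⁻¹ := by group
    have hmem : (c : G)⁻¹ * (a : G) ∈ Q ⊓ D := by
      refine Subgroup.mem_inf.mpr ⟨Q.mul_mem (Q.inv_mem c.2) a.2, ?_⟩
      rw [h1]
      exact D.mul_mem d.2 (D.inv_mem b.2)
    rw [hQD, Subgroup.mem_bot] at hmem
    have hac : (a : G) = (c : G) := by
      have := inv_mul_eq_one.mp hmem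
      exact this.symm
    have hbd : (b : G) = (d : G) := by
      rw [hac] at h0
      exact mul_left_cancel h0
    exact Prod.ext (Subtype.ext hac) (Subtype.ext hbd)
  · rintro ⟨x, hx⟩
    obtain ⟨w, hw, g, hg, rfl⟩ := exists_mul_of_mem_sup hD hx
    exact ⟨(⟨w, hw⟩, ⟨g, hg⟩), rfl⟩

theorem relIndex_mul_card' {H L : Subgroup G} (h : H ≤ L) :
    H.relIndex L * Nat.card H = Nat.card L := by
  have h1 := Subgroup.index_mul_card (H.subgroupOf L)
  rw [Nat.card_congr (Subgroup.subgroupOfEquivOfLe h).toEquiv] at h1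
  exact h1

/-- a normal Hall subgroup contains every element whose order divides its order -/
theorem mem_of_orderOf_dvd [Finite G] {Q N : Subgroup G} (hQN : Q ≤ N)
    (hnorm : N ≤ Subgroup.normalizer (Q : Set G))
    (hcop : Nat.Coprime (Nat.card Q) (Q.relIndex N)) {v : G} (hv : v ∈ N)
    (hord : orderOf v ∣ Nat.card Q) : v ∈ Q := by
  have : (Q.subgroupOf N).Normal := (Subgroup.normal_subgroupOf_iff_le_normalizer hQN).mpr hnorm
  set x : N ⧸ Q.subgroupOf N := QuotientGroup.mk' (Q.subgroupOf N) ⟨v, hv⟩ with hx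
  have h1 : orderOf x ∣ Nat.card Q := by
    refine dvd_trans (orderOf_map_dvd _ _) ?_
    rw [Subgroup.orderOf_mk]
    exact hord
  have h2 : orderOf x ∣ Q.relIndex N := by
    have : Nat.card (N ⧸ Q.subgroupOf N) = Q.relIndex N := rfl
    rw [← this]
    exact orderOf_dvd_natCard x
  have h3 : orderOf x = 1 := Nat.eq_one_of_dvd_coprimes hcop h1 h2
  rw [orderOf_eq_one_iff, hx, QuotientGroup.mk'_apply, QuotientGroup.eq_one_iff] at h3
  exact Subgroup.mem_subgroupOf.mp h3


/-- The relevant part of the conclusion of the abstract Brauer–Suzuki–Wall theorem. -/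
structure Concl [Finite G] (Q D : Subgroup G) : Prop where
  hcard : 2 * Nat.card G = Nat.card Q * (Nat.card Q + 1) * (Nat.card Q - 1)
  hcent : ∀ x ∈ Q, x ≠ 1 → Subgroup.centralizer ({x} : Set G) = Q
  hDQ : 2 * Nat.card D + 1 = Nat.card Q
  hQD : Q ⊓ D = ⊥
  hN : Subgroup.normalizer (Q : Set G) = Q ⊔ D
  hu : ∃ u : G, orderOf u = 2 ∧ u ∉ D ∧ (∀ d ∈ D, u * d * u⁻¹ = d⁻¹)
  hD : D ≠ ⊥

namespace Concl

variable [Finite G] {Q D : Subgroup G}

theorem D_le (h : Concl Q D) : D ≤ Subgroup.normalizer (Q : Set G) := by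
  rw [h.hN]
  exact le_sup_right

theorem Q_le (_h : Concl Q D) : Q ≤ Subgroup.normalizer (Q : Set G) := Subgroup.le_normalizer

theorem card_N (h : Concl Q D) :
    Nat.card (Subgroup.normalizer (Q : Set G)) = Nat.card Q * Nat.card D := by
  rw [h.hN]
  exact card_sup_of_disjoint h.D_le h.hQD

theorem card_D_pos (_h : Concl Q D) : 0 < Nat.card D := Nat.card_pos

theorem index_N (h : Concl Q D) :
    (Subgroup.normalizer (Q : Set G)).index = Nat.card Q + 1 := by
  have h1 := Subgroup.index_mul_card (Subgroup.normalizer (Q : Set G))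
  rw [h.card_N] at h1
  have h2 := h.hcard
  have h3 := h.hDQ
  have hd := h.card_D_pos
  set q := Nat.card Q with hq
  set d := Nat.card D with hd'
  set i := (Subgroup.normalizer (Q : Set G)).index with hi
  have hq1 : q - 1 = 2 * d := by omega
  rw [← h1, hq1] at h2
  -- 2 * (i * (q * d)) = q * (q + 1) * (2 * d)
  have hqpos : 0 < q := by omega
  have h4 : (2 * q * d) * i = (2 * q * d) * (q + 1) := by
    calc (2 * q * d) * i = 2 * (i * (q * d)) := by ring
      _ = q * (q + 1) * (2 * d) := h2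
      _ = (2 * q * d) * (q + 1) := by ring
  exact Nat.eq_of_mul_eq_mul_left (by positivity) h4

theorem relIndex_Q (h : Concl Q D) :
    Q.relIndex (Subgroup.normalizer (Q : Set G)) = Nat.card D := by
  have h1 := relIndex_mul_card' h.Q_le
  rw [h.card_N] at h1
  have hq : 0 < Nat.card Q := Nat.card_pos
  have : Q.relIndex (Subgroup.normalizer (Q : Set G)) * Nat.card Q = Nat.card D * Nat.card Q := by
    rw [h1, mul_comm]
  exact Nat.eq_of_mul_eq_mul_right hq this

theorem hall (h : Concl Q D) {v : G} (hv : v ∈ Subgroup.normalizer (Q : Set G))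
    (hord : orderOf v ∣ Nat.card Q) : v ∈ Q := by
  refine mem_of_orderOf_dvd h.Q_le le_rfl ?_ hv hord
  rw [h.relIndex_Q, ← h.hDQ]
  -- gcd (2 d + 1) d = 1
  have : Nat.Coprime (Nat.card D * 2 + 1) (Nat.card D) := by
    rw [Nat.coprime_mul_left_add_left]
    exact Nat.coprime_one_left _
  rwa [mul_comm] at this

theorem comm_of_mem (h : Concl Q D) {x y : G} (hx : x ∈ Q) (hy : y ∈ Q) : x * y = y * x := by
  by_cases hx1 : x = 1
  · rw [hx1, one_mul, mul_one]
  · have hc := h.hcent x hx hx1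
    have hy' : y ∈ Subgroup.centralizer ({x} : Set G) := by rw [hc]; exact hy
    exact Subgroup.mem_centralizer_iff.mp hy' x (Set.mem_singleton x)

theorem mem_of_comm (h : Concl Q D) {x y : G} (hx : x ∈ Q) (hx1 : x ≠ 1) (hxy : x * y = y * x) :
    y ∈ Q := by
  have hc := h.hcent x hx hx1
  rw [← hc, Subgroup.mem_centralizer_iff]
  intro z hz
  rw [Set.mem_singleton_iff] at hz
  rw [hz, hxy]

/-- `Q` acts semiregularly on the cosets of `N(Q)` different from `N(Q)` -/
theorem semireg (h : Concl Q D) {u g : G} (hu : u ∈ Q) (hu1 : u ≠ 1)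
    (hg : g⁻¹ * u * g ∈ Subgroup.normalizer (Q : Set G)) :
    g ∈ Subgroup.normalizer (Q : Set G) := by
  have hv1 : g⁻¹ * u * g ≠ 1 := by
    intro h1
    apply hu1
    have : u = g * (g⁻¹ * u * g) * g⁻¹ := by group
    rw [this, h1]
    group
  have hord : orderOf (g⁻¹ * u * g) ∣ Nat.card Q := by
    have h1 : orderOf (g⁻¹ * u * g) = orderOf u := by
      have := orderOf_map_dvd (MulAut.conj g⁻¹).toMonoidHom u
      have hconj : (MulAut.conj g⁻¹).toMonoidHom u = g⁻¹ * u * g := by simp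
      rw [hconj] at this
      have h2 := orderOf_map_dvd (MulAut.conj g).toMonoidHom (g⁻¹ * u * g)
      have hconj2 : (MulAut.conj g).toMonoidHom (g⁻¹ * u * g) = u := by
        simp only [MulEquiv.toMonoidHom_eq_coe, MonoidHom.coe_coe, MulAut.conj_apply]
        group
      rw [hconj2] at h2
      exact Nat.dvd_antisymm this h2
    rw [h1]
    have := orderOf_dvd_natCard (⟨u, hu⟩ : Q)
    rwa [Subgroup.orderOf_mk] at this
  have hvQ : g⁻¹ * u * g ∈ Q := h.hall hg hord
  rw [Subgroup.mem_normalizer_iff]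
  intro x
  constructor
  · intro hx
    -- x ∈ Q commutes with g⁻¹ u g, so g x g⁻¹ commutes with u
    have hcomm := h.comm_of_mem hvQ hx
    apply h.mem_of_comm hu hu1
    calc u * (g * x * g⁻¹) = g * ((g⁻¹ * u * g) * x) * g⁻¹ := by group
      _ = g * (x * (g⁻¹ * u * g)) * g⁻¹ := by rw [hcomm]
      _ = g * x * g⁻¹ * u := by group
  · intro hx
    have hcomm := h.comm_of_mem hu hx
    apply h.mem_of_comm hvQ hv1
    calc g⁻¹ * u * g * x = g⁻¹ * (u * (g * x * g⁻¹)) * g := by group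
      _ = g⁻¹ * ((g * x * g⁻¹) * u) * g := by rw [hcomm]
      _ = x * (g⁻¹ * u * g) := by group

/-- the involution inverting `D` does not normalize `Q` -/
theorem u_not_mem (h : Concl Q D) {u : G} (huD : u ∉ D) (hinv : ∀ d ∈ D, u * d * u⁻¹ = d⁻¹) :
    u ∉ Subgroup.normalizer (Q : Set G) := by
  intro huN
  have huN' : u ∈ Q ⊔ D := by rw [← h.hN]; exact huN
  obtain ⟨w, hw, g, hg, rfl⟩ := exists_mul_of_mem_sup h.D_le huN'
  by_cases hw1 : w = 1
  · apply huD
    rw [hw1, one_mul]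
    exact hg
  · -- every element of `D` is trivial
    apply h.hD
    rw [Subgroup.eq_bot_iff_forall]
    intro g' hg'
    -- g'' = g g' g⁻¹
    set g'' := g * g' * g⁻¹ with hg''
    have hg''D : g'' ∈ D := D.mul_mem (D.mul_mem hg hg') (D.inv_mem hg)
    have h1 : w * g'' * w⁻¹ = g'⁻¹ := by
      have := hinv g' hg'
      rw [← this, hg'']
      group
    -- w g'' w⁻¹ g''⁻¹ ∈ Q ⊓ D
    have hN'' : g'' ∈ Subgroup.normalizer (Q : Set G) := h.D_le hg''D
    have hmemQ : w * (g'' * w⁻¹ * g''⁻¹) ∈ Q :=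
      Q.mul_mem hw ((Subgroup.mem_normalizer_iff.mp hN'' w⁻¹).mp (Q.inv_mem hw))
    have hmemD : w * (g'' * w⁻¹ * g''⁻¹) ∈ D := by
      have : w * (g'' * w⁻¹ * g''⁻¹) = (w * g'' * w⁻¹) * g''⁻¹ := by group
      rw [this, h1]
      exact D.mul_mem (D.inv_mem hg') (D.inv_mem hg''D)
    have hbot : w * (g'' * w⁻¹ * g''⁻¹) ∈ Q ⊓ D := Subgroup.mem_inf.mpr ⟨hmemQ, hmemD⟩
    rw [h.hQD, Subgroup.mem_bot] at hbot
    -- so w commutes with g''
    have hcomm : w * g'' = g'' * w := by
      have : w * g'' = (w * (g'' * w⁻¹ * g''⁻¹)) * (g'' * w) := by group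
      rw [this, hbot, one_mul]
    have hg''Q : g'' ∈ Q := h.mem_of_comm hw hw1 hcomm
    have : g'' ∈ Q ⊓ D := Subgroup.mem_inf.mpr ⟨hg''Q, hg''D⟩
    rw [h.hQD, Subgroup.mem_bot] at this
    -- g'' = 1 so g' = 1
    have : g' = g⁻¹ * g'' * g := by rw [hg'']; group
    rw [this, ‹g'' = 1›]
    group

end Concl


section Action

variable {Q D : Subgroup G}

/-- the base point of the coset space of `N(Q)` -/
abbrev x0 (Q : Subgroup G) : G ⧸ Subgroup.normalizer (Q : Set G) :=
  ((1 : G) : G ⧸ Subgroup.normalizer (Q : Set G))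

theorem mk_eq_x0_iff (g : G) :
    ((g : G) : G ⧸ Subgroup.normalizer (Q : Set G)) = x0 Q ↔
      g ∈ Subgroup.normalizer (Q : Set G) := by
  rw [x0, QuotientGroup.eq, mul_one, inv_mem_iff]

theorem smul_x0_eq_iff (g : G) :
    g • x0 Q = x0 Q ↔ g ∈ Subgroup.normalizer (Q : Set G) := by
  rw [x0, MulAction.Quotient.smul_mk, smul_eq_mul, mul_one]
  exact mk_eq_x0_iff g

theorem smul_mk_eq_iff (u g : G) :
    u • ((g : G) : G ⧸ Subgroup.normalizer (Q : Set G)) = (g : G ⧸ Subgroup.normalizer (Q : Set G)) ↔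
      g⁻¹ * u * g ∈ Subgroup.normalizer (Q : Set G) := by
  rw [MulAction.Quotient.smul_mk, smul_eq_mul, QuotientGroup.eq, ← inv_mem_iff]
  have : ((u * g)⁻¹ * g)⁻¹ = g⁻¹ * u * g := by group
  rw [this]

theorem exists_smul_eq_x0 (a : G ⧸ Subgroup.normalizer (Q : Set G)) : ∃ g : G, g • a = x0 Q := by
  obtain ⟨g, rfl⟩ := QuotientGroup.mk_surjective a
  refine ⟨g⁻¹, ?_⟩
  rw [MulAction.Quotient.smul_mk, smul_eq_mul, inv_mul_cancel]

variable [Finite G]

theorem Concl.fix_eq_one (h : Concl Q D) {u : G} (hu : u ∈ Q)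
    {y : G ⧸ Subgroup.normalizer (Q : Set G)} (hy : y ≠ x0 Q) (hfix : u • y = y) : u = 1 := by
  by_contra hu1
  obtain ⟨g, rfl⟩ := QuotientGroup.mk_surjective y
  have := h.semireg hu hu1 ((smul_mk_eq_iff u g).mp hfix)
  exact hy ((mk_eq_x0_iff g).mpr this)

theorem Concl.card_Ω (h : Concl Q D) :
    Nat.card (G ⧸ Subgroup.normalizer (Q : Set G)) = Nat.card Q + 1 := h.index_N

theorem Concl.smul_ne_x0 (_h : Concl Q D) {u : G} (hu : u ∈ Q)
    {y : G ⧸ Subgroup.normalizer (Q : Set G)} (hy : y ≠ x0 Q) : u • y ≠ x0 Q := by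
  intro h1
  apply hy
  have h2 : u⁻¹ • x0 Q = x0 Q :=
    (smul_x0_eq_iff u⁻¹).mpr (Subgroup.le_normalizer (Q.inv_mem hu))
  calc y = u⁻¹ • (u • y) := by rw [inv_smul_smul]
    _ = x0 Q := by rw [h1, h2]

/-- `Q` is regular on the points different from the base point -/
theorem Concl.exists_unique_smul (h : Concl Q D) {y z : G ⧸ Subgroup.normalizer (Q : Set G)}
    (hy : y ≠ x0 Q) (hz : z ≠ x0 Q) : ∃! u : Q, (u : G) • y = z := by
  classical
  letI : Fintype (G ⧸ Subgroup.normalizer (Q : Set G)) := Fintype.ofFinite _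
  let f : Q → {w : G ⧸ Subgroup.normalizer (Q : Set G) // w ≠ x0 Q} :=
    fun u => ⟨(u : G) • y, h.smul_ne_x0 u.2 hy⟩
  have hinj : Function.Injective f := by
    intro u v huv
    have h1 : (u : G) • y = (v : G) • y := congrArg Subtype.val huv
    have h2 : ((v : G)⁻¹ * (u : G)) • y = y := by
      rw [mul_smul, h1, inv_smul_smul]
    have h3 := h.fix_eq_one (Q.mul_mem (Q.inv_mem v.2) u.2) hy h2
    exact Subtype.ext (inv_mul_eq_one.mp h3).symm
  have hcard : Nat.card {w : G ⧸ Subgroup.normalizer (Q : Set G) // w ≠ x0 Q} ≤ Nat.card Q := by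
    have h1 : Nat.card {w : G ⧸ Subgroup.normalizer (Q : Set G) // w ≠ x0 Q} =
        Nat.card (G ⧸ Subgroup.normalizer (Q : Set G)) - 1 := by
      rw [Nat.card_eq_fintype_card, Nat.card_eq_fintype_card]
      have := Fintype.card_subtype_compl (fun w : G ⧸ Subgroup.normalizer (Q : Set G) => w = x0 Q)
      rw [Fintype.card_subtype_eq] at this
      exact this
    rw [h1, h.card_Ω]
    omega
  have hbij := hinj.bijective_of_nat_card_le hcard
  obtain ⟨u, hu⟩ := hbij.surjective ⟨z, hz⟩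
  refine ⟨u, congrArg Subtype.val hu, ?_⟩
  intro v hv
  apply hinj
  rw [hu]
  exact Subtype.ext hv


theorem Concl.two_pretransitive (h : Concl Q D) :
    IsMultiplyPretransitive G (G ⧸ Subgroup.normalizer (Q : Set G)) 2 := by
  rw [is_two_pretransitive_iff]
  intro a b c d hab hcd
  obtain ⟨g1, hg1⟩ := exists_smul_eq_x0 a
  obtain ⟨g2, hg2⟩ := exists_smul_eq_x0 c
  have hb : g1 • b ≠ x0 Q := by
    intro hb
    apply hab
    have : g1 • a = g1 • b := by rw [hg1, hb]
    exact smul_left_cancel g1 this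
  have hd : g2 • d ≠ x0 Q := by
    intro hd
    apply hcd
    have : g2 • c = g2 • d := by rw [hg2, hd]
    exact smul_left_cancel g2 this
  obtain ⟨u, hu, -⟩ := h.exists_unique_smul hb hd
  have hu0 : (u : G) • x0 Q = x0 Q := (smul_x0_eq_iff (u : G)).mpr (Subgroup.le_normalizer u.2)
  refine ⟨g2⁻¹ * (u : G) * g1, ?_, ?_⟩
  · rw [mul_smul, mul_smul, hg1, hu0, ← hg2, inv_smul_smul]
  · rw [mul_smul, mul_smul, hu, inv_smul_smul]

/-- three point stabilisers are trivial -/
theorem Concl.three_fixed (h : Concl Q D) (g : G) (a b c : G ⧸ Subgroup.normalizer (Q : Set G))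
    (hab : a ≠ b) (hbc : b ≠ c) (hac : a ≠ c) (ha : g • a = a) (hb : g • b = b) (hc : g • c = c) :
    g = 1 := by
  obtain ⟨g1, hg1⟩ := exists_smul_eq_x0 a
  set g' := g1 * g * g1⁻¹ with hg'
  set y := g1 • b with hy
  set z := g1 • c with hz
  have hy0 : y ≠ x0 Q := by
    intro h1
    apply hab
    have : g1 • a = g1 • b := by rw [hg1, ← hy, h1]
    exact smul_left_cancel g1 this
  have hz0 : z ≠ x0 Q := by
    intro h1
    apply hac
    have : g1 • a = g1 • c := by rw [hg1, ← hz, h1]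
    exact smul_left_cancel g1 this
  have hyz : y ≠ z := by
    intro h1
    exact hbc (smul_left_cancel g1 h1)
  have hfix0 : g' • x0 Q = x0 Q := by
    rw [hg', mul_smul, mul_smul, ← hg1, inv_smul_smul, ha]
  have hfixy : g' • y = y := by
    rw [hg', hy, mul_smul, mul_smul, inv_smul_smul, hb]
  have hfixz : g' • z = z := by
    rw [hg', hz, mul_smul, mul_smul, inv_smul_smul, hc]
  have hg'N : g' ∈ Subgroup.normalizer (Q : Set G) := (smul_x0_eq_iff g').mp hfix0
  obtain ⟨w, hw, -⟩ := h.exists_unique_smul hy0 hz0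
  have hw1 : (w : G) ≠ 1 := by
    intro h1
    apply hyz
    rw [← hw, h1, one_smul]
  -- the commutator fixes `y`
  have hcQ : g'⁻¹ * (w : G)⁻¹ * g' * (w : G) ∈ Q := by
    have h1 : g'⁻¹ * (w : G)⁻¹ * g' ∈ Q := by
      have := (Subgroup.mem_normalizer_iff''.mp hg'N (w : G)⁻¹).mp (Q.inv_mem w.2)
      exact this
    exact Q.mul_mem h1 w.2
  have hcfix : (g'⁻¹ * (w : G)⁻¹ * g' * (w : G)) • y = y := by
    rw [mul_smul, mul_smul, mul_smul, hw, hfixz, ← hw, inv_smul_smul]
    calc g'⁻¹ • y = g'⁻¹ • (g' • y) := by rw [hfixy]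
      _ = y := inv_smul_smul _ _
  have hc1 := h.fix_eq_one hcQ hy0 hcfix
  have hcomm : (w : G) * g' = g' * (w : G) := by
    have : (w : G) * g' = g' * (w : G) * (g'⁻¹ * (w : G)⁻¹ * g' * (w : G))⁻¹ := by group
    rw [this, hc1, inv_one, mul_one]
  have hg'Q : g' ∈ Q := h.mem_of_comm w.2 hw1 hcomm
  have hg'1 : g' = 1 := h.fix_eq_one hg'Q hy0 hfixy
  have : g = g1⁻¹ * g' * g1 := by rw [hg']; group
  rw [this, hg'1]
  group

theorem Concl.zassenhaus [IsSimpleGroup G] (h : Concl Q D) :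
    Cfsg.IsZassenhausGroup G (G ⧸ Subgroup.normalizer (Q : Set G)) := by
  obtain ⟨u, hu2, huD, hinv⟩ := h.hu
  have huN : u ∉ Subgroup.normalizer (Q : Set G) := h.u_not_mem huD hinv
  have hux0 : u • x0 Q ≠ x0 Q := fun h1 => huN ((smul_x0_eq_iff u).mp h1)
  -- a nontrivial element of `Q`
  have hQ1 : ∃ w ∈ Q, w ≠ 1 := by
    have hq : 1 < Nat.card Q := by
      have := h.hDQ
      have := h.card_D_pos
      omega
    have hQb : Q ≠ ⊥ := by
      intro hb
      rw [hb, Subgroup.card_bot] at hq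
      omega
    obtain ⟨w, hw⟩ := Subgroup.ne_bot_iff_exists_ne_one.mp hQb
    exact ⟨(w : G), w.2, fun h1 => hw (Subtype.ext h1)⟩
  obtain ⟨w, hwQ, hw1⟩ := hQ1
  refine ⟨?_, h.two_pretransitive, ?_, ?_, ?_⟩
  · -- faithful
    constructor
    intro g1 g2 hg
    have hker : g2⁻¹ * g1 ∈ (MulAction.toPermHom G (G ⧸ Subgroup.normalizer (Q : Set G))).ker := by
      rw [MonoidHom.mem_ker]
      ext a
      simp only [MulAction.toPermHom_apply, MulAction.toPerm_apply, Equiv.Perm.coe_one, id_eq]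
      rw [mul_smul, hg a, inv_smul_smul]
    rcases (MonoidHom.normal_ker
        (MulAction.toPermHom G (G ⧸ Subgroup.normalizer (Q : Set G)))).eq_bot_or_eq_top with h1 | h1
    · rw [h1, Subgroup.mem_bot] at hker
      exact (inv_mul_eq_one.mp hker).symm
    · exfalso
      have : u ∈ (MulAction.toPermHom G (G ⧸ Subgroup.normalizer (Q : Set G))).ker := by
        rw [h1]; exact Subgroup.mem_top u
      rw [MonoidHom.mem_ker] at this
      apply hux0
      have h2 := congrArg (fun σ : Equiv.Perm (G ⧸ Subgroup.normalizer (Q : Set G)) => σ (x0 Q)) this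
      simpa using h2
  · intro g a b c hab hbc hac ha hb hc
    exact h.three_fixed g a b c hab hbc hac ha hb hc
  · -- a nontrivial element fixing two points
    obtain ⟨g0, hg0⟩ := Subgroup.ne_bot_iff_exists_ne_one.mp h.hD
    have hg01 : (g0 : G) ≠ 1 := fun h1 => hg0 (Subtype.ext h1)
    refine ⟨(g0 : G), hg01, x0 Q, u • x0 Q, fun h1 => hux0 h1.symm, ?_, ?_⟩
    · exact (smul_x0_eq_iff _).mpr (h.D_le g0.2)
    · rw [← mul_smul]
      have huu : u * u = 1 := by
        have h1 : u ^ 2 = 1 := by rw [← hu2]; exact pow_orderOf_eq_one u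
        rw [← sq]; exact h1
      have huinv : u⁻¹ = u := inv_eq_of_mul_eq_one_left huu
      have h3 : (g0 : G) * u = u * (g0 : G)⁻¹ := by
        have h4 := hinv ((g0 : G)⁻¹) (D.inv_mem g0.2)
        rw [inv_inv, huinv] at h4
        -- u * g0⁻¹ * u = g0
        calc (g0 : G) * u = (u * (g0 : G)⁻¹ * u) * u := by rw [h4]
          _ = u * (g0 : G)⁻¹ * (u * u) := by group
          _ = u * (g0 : G)⁻¹ := by rw [huu, mul_one]
      rw [h3, mul_smul]
      congr 1
      exact (smul_x0_eq_iff _).mpr (h.D_le (D.inv_mem g0.2))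
  · -- no regular normal subgroup
    intro N hN hNt
    rcases hN.eq_bot_or_eq_top with h1 | h1
    · exfalso
      subst h1
      obtain ⟨n, hn⟩ := hNt.exists_smul_eq (x0 Q) (u • x0 Q)
      have hn1 : (n : G) = 1 := Subgroup.mem_bot.mp n.2
      apply hux0
      have hn2 : (n : G) • x0 Q = u • x0 Q := hn
      rw [← hn2, hn1, one_smul]
    · subst h1
      refine ⟨x0 Q, ?_⟩
      intro hbot
      have hmem : (⟨w, Subgroup.mem_top w⟩ : (⊤ : Subgroup G)) ∈
          MulAction.stabilizer (⊤ : Subgroup G) (x0 Q) := by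
        rw [MulAction.mem_stabilizer_iff]
        change w • x0 Q = x0 Q
        exact (smul_x0_eq_iff w).mpr (Subgroup.le_normalizer hwQ)
      have hmem' : (⟨w, Subgroup.mem_top w⟩ : (⊤ : Subgroup G)) ∈
          (⊥ : Subgroup (⊤ : Subgroup G)) := by
        rw [← hbot]
        exact hmem
      rw [Subgroup.mem_bot] at hmem'
      exact hw1 (congrArg Subtype.val hmem')

end Action


/-- the action on the cosets of `N(Q)` is not sharply `3`-transitive (wrong order) -/
theorem Concl.not_sharp3 [Finite G] {Q D : Subgroup G} (h : Concl Q D) :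
    ¬ (MulAction.IsMultiplyPretransitive G (G ⧸ Subgroup.normalizer (Q : Set G)) 3 ∧
        ∀ t : Fin 3 ↪ (G ⧸ Subgroup.normalizer (Q : Set G)), MulAction.stabilizer G t = ⊥) := by
  classical
  rintro ⟨h3, hst⟩
  letI : Fintype (G ⧸ Subgroup.normalizer (Q : Set G)) := Fintype.ofFinite _
  have hcardΩ : Fintype.card (G ⧸ Subgroup.normalizer (Q : Set G)) = Nat.card Q + 1 := by
    rw [← Nat.card_eq_fintype_card]
    exact h.card_Ω
  have hq3 : 3 ≤ Nat.card Q := by
    have := h.hDQ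
    have := h.card_D_pos
    omega
  have hne : Nonempty (Fin 3 ↪ G ⧸ Subgroup.normalizer (Q : Set G)) := by
    apply Function.Embedding.nonempty_of_card_le
    rw [Fintype.card_fin, hcardΩ]
    omega
  obtain ⟨t0⟩ := hne
  haveI : IsPretransitive G (Fin 3 ↪ G ⧸ Subgroup.normalizer (Q : Set G)) := h3
  have h1 := MulAction.index_stabilizer_of_transitive (G := G) (x := t0)
  rw [hst t0, Subgroup.index_bot, Nat.card_eq_fintype_card (α := Fin 3 ↪ _),
    Fintype.card_embedding_eq, Fintype.card_fin, hcardΩ] at h1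
  have h2 : (Nat.card Q + 1).descFactorial 3 = (Nat.card Q + 1) * Nat.card Q * (Nat.card Q - 1) := by
    rw [Nat.descFactorial_succ, Nat.descFactorial_succ, Nat.descFactorial_succ,
      Nat.descFactorial_zero]
    have : Nat.card Q + 1 - 2 = Nat.card Q - 1 := by omega
    rw [this]
    simp only [Nat.add_sub_cancel, Nat.sub_zero, mul_one]
    ring
  rw [h2] at h1
  have h4 := h.hcard
  rw [h1] at h4
  have hpos : 0 < (Nat.card Q + 1) * Nat.card Q * (Nat.card Q - 1) := by
    have : 0 < Nat.card Q - 1 := by omega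
    positivity
  have : (Nat.card Q + 1) * Nat.card Q * (Nat.card Q - 1) =
      Nat.card Q * (Nat.card Q + 1) * (Nat.card Q - 1) := by ring
  omega

theorem Concl.le_stab [Finite G] {Q D : Subgroup G} (_h : Concl Q D) :
    Q ≤ MulAction.stabilizer G (x0 Q) := by
  rw [MulAction.stabilizer_quotient]
  exact Subgroup.le_normalizer

theorem Concl.normal_stab [Finite G] {Q D : Subgroup G} (_h : Concl Q D) :
    (Q.subgroupOf (MulAction.stabilizer G (x0 Q))).Normal := by
  rw [MulAction.stabilizer_quotient]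
  exact Subgroup.normal_in_normalizer

theorem Concl.comm [Finite G] {Q D : Subgroup G} (h : Concl Q D) : IsMulCommutative Q :=
  ⟨⟨fun a b => Subtype.ext (h.comm_of_mem a.2 b.2)⟩⟩

end Cfsg.Agent.Helper6.BswDih
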