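import Mathlib
import Cfsg.Prelude.Def_LieExceptional
import Cfsg.Agent.Helper1.PaQ
import Cfsg.Agent.Helper6.BswDihB

/-!
# S0508, part 2 (interface of helper2): from the conclusion of S3282 in a simple group to a
Zassenhaus group with an abelian regular normal subgroup in the point stabiliser.
-/

set_option autoImplicit false
set_option linter.style.haveILetI false

namespace Cfsg.Agent.Helper2.Bsd

open Cfsg.Agent.Helper6.BswDih

/-- a finite simple group does not have order `12` -/
theorem h6_card_ne_twelve {G : Type*} [Group G] [Finite G] [IsSimpleGroup G] :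
    Nat.card G ≠ 12 := by
  intro h12
  have hsolv : Group.IsSolvable G :=
    Cfsg.Agent.Helper1.isSolvable_of_card_ppow_mul_prime 2 3 Nat.prime_two Nat.prime_three _ G rfl
      ⟨2, 1, le_rfl, by rw [h12]; norm_num⟩
  have hcomm : ∀ a b : G, a * b = b * a := IsSimpleGroup.comm_iff_isSolvable.mpr hsolv
  letI : CommGroup G := { ‹Group G› with mul_comm := hcomm }
  have hp : (Nat.card G).Prime := IsSimpleGroup.prime_card (α := G)
  rw [h12] at hp
  exact absurd hp (by norm_num)

/-- PART 2 (helper6): from the conclusion of S3282 in a simple group: the action on the cosets of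
`N(Q)` is a Zassenhaus group, `Q` is an abelian normal subgroup of the point stabiliser regular on the
other points, and the action is not sharply 3-transitive. -/
theorem part2 {G : Type*} [Group G] [Finite G] [IsSimpleGroup G] (Q D : Subgroup G)
    (hord : 2 * Nat.card G = Nat.card ↥Q * (Nat.card ↥Q + 1) * (Nat.card ↥Q - 1))
    (hCQ : ∀ x ∈ Q, x ≠ 1 → Subgroup.centralizer ({x} : Set G) = Q)
    (hDab : IsMulCommutative ↥D) (hDq : 2 * Nat.card ↥D + 1 = Nat.card ↥Q) (hQD : Q ⊓ D = ⊥)
    (hNQ : Subgroup.normalizer (Q : Set G) = Q ⊔ D)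
    (hX : ∀ X : Subgroup G, X ≤ D → X ≠ ⊥ →
        Subgroup.normalizer (X : Set G) = Subgroup.normalizer (D : Set G) ∧
        ∃ u : G, orderOf u = 2 ∧ u ∉ D ∧ (∀ d ∈ D, u * d * u⁻¹ = d⁻¹) ∧
          Subgroup.normalizer (D : Set G) = D ⊔ Subgroup.zpowers u) :
    Cfsg.IsZassenhausGroup G (G ⧸ Subgroup.normalizer (Q : Set G)) ∧
    Q ≤ MulAction.stabilizer G ((1 : G) : G ⧸ Subgroup.normalizer (Q : Set G)) ∧
    (Q.subgroupOf (MulAction.stabilizer G ((1 : G) : G ⧸ Subgroup.normalizer (Q : Set G)))).Normal ∧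
    IsMulCommutative ↥Q ∧
    (∀ y z : G ⧸ Subgroup.normalizer (Q : Set G), y ≠ ((1 : G) : G ⧸ Subgroup.normalizer (Q : Set G)) →
      z ≠ ((1 : G) : G ⧸ Subgroup.normalizer (Q : Set G)) → ∃! u : Q, (u : G) • y = z) ∧
    ¬ (MulAction.IsMultiplyPretransitive G (G ⧸ Subgroup.normalizer (Q : Set G)) 3 ∧
        ∀ t : Fin 3 ↪ (G ⧸ Subgroup.normalizer (Q : Set G)), MulAction.stabilizer G t = ⊥) := by
  have hD : D ≠ ⊥ := by
    intro hD
    rw [hD, Subgroup.card_bot] at hDq
    have hq : Nat.card Q = 3 := by omega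
    rw [hq] at hord
    exact h6_card_ne_twelve (G := G) (by omega)
  obtain ⟨-, u, hu2, huD, hinv, -⟩ := hX D le_rfl hD
  have h : Concl Q D := ⟨hord, hCQ, hDq, hQD, hNQ, ⟨u, hu2, huD, hinv⟩, hD⟩
  exact ⟨h.zassenhaus, h.le_stab, h.normal_stab, h.comm,
    fun y z hy hz => h.exists_unique_smul hy hz, h.not_sharp3⟩

end Cfsg.Agent.Helper2.Bsd
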