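import Mathlib
import Cfsg.Prelude.Def_Characters
import Cfsg.Agent.Helper6.ClassMult

/-!
# Vanishing class algebra constants in terms of characters (`ClassMult` version)

A fork of `Helper6/ZasChM.lean` that avoids `Helper6/StructConst.lean` (which declares a name that
also occurs in `Helper6/ClassMult.lean`), so that it can be used together with the files of S3282.
-/

set_option autoImplicit false
set_option linter.style.haveILetI false

namespace Cfsg.Agent.Helper6.ZasB

open scoped ComplexConjugate

universe u

/-- if no product of two conjugates of `t` is conjugate to `u`, the corresponding character sum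
vanishes -/
theorem sum_irr_sq_mul_conj_eq_zero {X : Type u} [Group X] [Fintype X]
    [Fintype (Cfsg.IrrCharacter X)] (t u : X)
    (h : ∀ x y : X, IsConj t x → IsConj t y → ¬ IsConj u (x * y)) :
    ∑ Ξ : Cfsg.IrrCharacter X,
      (Ξ : X → ℂ) t * (Ξ : X → ℂ) t * conj ((Ξ : X → ℂ) u) / (Ξ : X → ℂ) 1 = 0 := by
  classical
  have hcm := class_mult_count t t u
  have hL : ∑ x ∈ classFinset t, ∑ y ∈ classFinset t, (if x * y = u then (1 : ℂ) else 0) = 0 := by
    apply Finset.sum_eq_zero
    intro x hx
    apply Finset.sum_eq_zero
    intro y hy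
    rw [mem_classFinset] at hx hy
    rw [if_neg]
    intro hxy
    exact h x y hx hy (hxy ▸ IsConj.refl _)
  rw [hL] at hcm
  have hc0 : ((classFinset t).card : ℂ) ≠ 0 := by
    have : (classFinset t).card ≠ 0 := by
      apply Finset.card_ne_zero.mpr
      exact ⟨t, (mem_classFinset t t).mpr (IsConj.refl t)⟩
    exact_mod_cast this
  have hG0 : (Nat.card X : ℂ) ≠ 0 := by
    have : 0 < Nat.card X := Nat.card_pos
    exact_mod_cast this.ne'
  have hcoef : ((classFinset t).card : ℂ) * ((classFinset t).card : ℂ) / (Nat.card X : ℂ) ≠ 0 :=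
    div_ne_zero (mul_ne_zero hc0 hc0) hG0
  rcases mul_eq_zero.mp hcm.symm with h1 | h1
  · exact absurd h1 hcoef
  · exact h1

end Cfsg.Agent.Helper6.ZasB
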