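import Mathlib
import Cfsg.Prelude.Def_Characters
import Cfsg.Agent.Helper6.ZasChL
import Cfsg.Agent.Helper6.ZasChM2
import Cfsg.Agent.Helper6.Regular

/-!
(Fork of `Helper6/ZasChN.lean` in the namespace `ZasB`, on top of `ZasChM2`; see there.)
# Zassenhaus groups with abelian kernel: sums over the relevant characters of a point stabiliser
-/

set_option autoImplicit false
set_option linter.style.haveILetI false
set_option linter.unusedSectionVars false

namespace Cfsg.Agent.Helper6.ZasB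

open MulAction Cfsg.Agent.Helper2
open scoped ComplexConjugate

variable {G Ω : Type*} [Group G] [MulAction G Ω]

/-- sums over the irreducible characters of `G_a` split into the relevant characters and the
characters trivial on `H` -/
theorem zas_sum_irr_split (a : Ω) (H : Subgroup G) [Fintype (Cfsg.IrrCharacter (stabilizer G a))]
    [Fintype (ZasS a H)] [DecidablePred fun ζ : Cfsg.IrrCharacter (stabilizer G a) =>
        ∀ n ∈ H.subgroupOf (stabilizer G a),
          (ζ : stabilizer G a → ℂ) n = (ζ : stabilizer G a → ℂ) 1]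
    (f : Cfsg.IrrCharacter (stabilizer G a) → ℂ) :
    ∑ ψ, f ψ = ∑ χ : ZasS a H, f χ.1 +
      ∑ ζ ∈ Finset.univ.filter (fun ζ : Cfsg.IrrCharacter (stabilizer G a) =>
        ∀ n ∈ H.subgroupOf (stabilizer G a),
          (ζ : stabilizer G a → ℂ) n = (ζ : stabilizer G a → ℂ) 1), f ζ := by
  classical
  rw [← Finset.sum_filter_add_sum_filter_not Finset.univ
    (fun ζ : Cfsg.IrrCharacter (stabilizer G a) => ∀ n ∈ H.subgroupOf (stabilizer G a),
      (ζ : stabilizer G a → ℂ) n = (ζ : stabilizer G a → ℂ) 1), add_comm]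
  congr 1
  apply Finset.sum_subtype
  intro χ
  simp only [Finset.mem_filter, Finset.mem_univ, true_and]
  constructor
  · intro h
    push Not at h
    obtain ⟨n, hn, hne⟩ := h
    exact ⟨χ.2, n, Subgroup.mem_subgroupOf.mp hn, hne⟩
  · rintro ⟨-, n, hn, hne⟩ h
    exact hne (h n (Subgroup.mem_subgroupOf.mpr hn))

section

variable [Fintype G] [Fintype Ω]
  (hZ : Cfsg.IsZassenhausGroup G Ω) {a b : Ω} (hab : a ≠ b)
  (H : Subgroup G) (hHa : H ≤ stabilizer G a) (hHcard : Nat.card H + 1 = Fintype.card Ω)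
  (hHfix : ∀ u ∈ H, u ≠ 1 → ∀ c : Ω, u • c = c → c = a)

include hZ hab hHa hHcard hHfix

/-- the sum of the squares of the degrees of the characters of `G_a` trivial on `H` -/
theorem zas_sum_triv_deg_sq [Fintype (Cfsg.IrrCharacter (stabilizer G a))]
    [DecidablePred fun ζ : Cfsg.IrrCharacter (stabilizer G a) =>
        ∀ n ∈ H.subgroupOf (stabilizer G a),
          (ζ : stabilizer G a → ℂ) n = (ζ : stabilizer G a → ℂ) 1] :
    ∑ ζ ∈ Finset.univ.filter (fun ζ : Cfsg.IrrCharacter (stabilizer G a) =>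
        ∀ n ∈ H.subgroupOf (stabilizer G a),
          (ζ : stabilizer G a → ℂ) n = (ζ : stabilizer G a → ℂ) 1),
      (ζ : stabilizer G a → ℂ) 1 * (ζ : stabilizer G a → ℂ) 1 =
      (Nat.card ↥(stabilizer G a ⊓ stabilizer G b : Subgroup G) : ℂ) := by
  classical
  haveI := zas_kernel_subgroupOf_normal hZ hab H hHa hHcard hHfix
  have hker := sum_sq_degrees_of_le_ker (H.subgroupOf (stabilizer G a))
  rw [zas_kernel_subgroupOf_index hZ hab H hHa hHcard hHfix] at hker
  rw [← hker]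
  push_cast
  apply Finset.sum_congr rfl
  intro χ _
  rw [charDegree_cast_of_isCharacter (IsIrrCharacter.isCharacter χ.2), sq]

variable (hHab : ∀ u ∈ H, ∀ v ∈ H, u * v = v * u)

include hHab

/-- the sum of the relevant characters at a non-identity element of `H` -/
theorem zas_sum_rel_apply [Fintype (Cfsg.IrrCharacter (stabilizer G a))] [Fintype (ZasS a H)]
    {k : stabilizer G a} (hk : (k : G) ∈ H) (hk1 : k ≠ 1) :
    ∑ χ : ZasS a H, ((χ.1 : Cfsg.IrrCharacter (stabilizer G a)) : stabilizer G a → ℂ) k = -1 := by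
  classical
  haveI : Fintype (stabilizer G a) := Fintype.ofFinite _
  set e := Nat.card ↥(stabilizer G a ⊓ stabilizer G b : Subgroup G) with he
  have he0 : (e : ℂ) ≠ 0 := by
    have : 0 < e := Nat.card_pos
    exact_mod_cast this.ne'
  have h1 := sum_degree_mul_irr k
  rw [if_neg hk1, zas_sum_irr_split a H] at h1
  have h2 : ∀ ζ ∈ Finset.univ.filter (fun ζ : Cfsg.IrrCharacter (stabilizer G a) =>
        ∀ n ∈ H.subgroupOf (stabilizer G a),
          (ζ : stabilizer G a → ℂ) n = (ζ : stabilizer G a → ℂ) 1),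
      (ζ : stabilizer G a → ℂ) 1 * (ζ : stabilizer G a → ℂ) k =
        (ζ : stabilizer G a → ℂ) 1 * (ζ : stabilizer G a → ℂ) 1 := by
    intro ζ hζ
    rw [Finset.mem_filter] at hζ
    rw [hζ.2 k (Subgroup.mem_subgroupOf.mpr hk)]
  rw [Finset.sum_congr rfl h2, zas_sum_triv_deg_sq hZ hab H hHa hHcard hHfix, ← he] at h1
  have h3 : ∀ χ : ZasS a H,
      ((χ.1 : Cfsg.IrrCharacter (stabilizer G a)) : stabilizer G a → ℂ) 1 *
        ((χ.1 : Cfsg.IrrCharacter (stabilizer G a)) : stabilizer G a → ℂ) k =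
      (e : ℂ) * ((χ.1 : Cfsg.IrrCharacter (stabilizer G a)) : stabilizer G a → ℂ) k := by
    intro χ
    rw [zasRel_apply_one hZ hab H hHa hHcard hHfix hHab χ.2]
  rw [Finset.sum_congr rfl (fun χ _ => h3 χ), ← Finset.mul_sum] at h1
  have h4 : (e : ℂ) * (∑ χ : ZasS a H,
      ((χ.1 : Cfsg.IrrCharacter (stabilizer G a)) : stabilizer G a → ℂ) k + 1) = 0 := by
    rw [mul_add, mul_one]
    exact h1
  rcases mul_eq_zero.mp h4 with h5 | h5
  · exact absurd h5 he0
  · linear_combination h5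

/-- the sum of the degrees of the relevant characters -/
theorem zas_sum_rel_deg [Fintype (Cfsg.IrrCharacter (stabilizer G a))] [Fintype (ZasS a H)] :
    ∑ χ : ZasS a H, ((χ.1 : Cfsg.IrrCharacter (stabilizer G a)) : stabilizer G a → ℂ) 1 =
      ((Fintype.card Ω - 2 : ℕ) : ℂ) := by
  classical
  rw [← zas_card_rel_mul hZ hab H hHa hHcard hHfix hHab]
  have h1 : ∀ χ ∈ (Finset.univ : Finset (ZasS a H)),
      ((χ.1 : Cfsg.IrrCharacter (stabilizer G a)) : stabilizer G a → ℂ) 1 =
        (Nat.card ↥(stabilizer G a ⊓ stabilizer G b : Subgroup G) : ℂ) := fun χ _ =>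
    zasRel_apply_one hZ hab H hHa hHcard hHfix hHab χ.2
  rw [Finset.sum_congr rfl h1, Finset.sum_const, Finset.card_univ, nsmul_eq_mul,
    Nat.card_eq_fintype_card (α := {χ : Cfsg.IrrCharacter (stabilizer G a) //
      (χ : stabilizer G a → ℂ) ∈ zasRel a H})]
  push_cast
  rfl

/-- column orthogonality restricted to the relevant characters -/
theorem zas_sum_rel_mul_conj [Fintype (Cfsg.IrrCharacter (stabilizer G a))] [Fintype (ZasS a H)]
    {k k' : stabilizer G a} (hk : (k : G) ∈ H) (hk' : (k' : G) ∈ H) [Decidable (IsConj k k')] :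
    ∑ χ : ZasS a H, ((χ.1 : Cfsg.IrrCharacter (stabilizer G a)) : stabilizer G a → ℂ) k *
        conj (((χ.1 : Cfsg.IrrCharacter (stabilizer G a)) : stabilizer G a → ℂ) k') =
      (if IsConj k k' then
        (Nat.card (Subgroup.centralizer ({k} : Set (stabilizer G a))) : ℂ) else 0) -
      (Nat.card ↥(stabilizer G a ⊓ stabilizer G b : Subgroup G) : ℂ) := by
  classical
  haveI : Fintype (stabilizer G a) := Fintype.ofFinite _
  have h1 := column_orthogonality_aux k k'
  rw [zas_sum_irr_split a H] at h1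
  have h2 : ∀ ζ ∈ Finset.univ.filter (fun ζ : Cfsg.IrrCharacter (stabilizer G a) =>
        ∀ n ∈ H.subgroupOf (stabilizer G a),
          (ζ : stabilizer G a → ℂ) n = (ζ : stabilizer G a → ℂ) 1),
      (ζ : stabilizer G a → ℂ) k * conj ((ζ : stabilizer G a → ℂ) k') =
        (ζ : stabilizer G a → ℂ) 1 * (ζ : stabilizer G a → ℂ) 1 := by
    intro ζ hζ
    rw [Finset.mem_filter] at hζ
    rw [hζ.2 k (Subgroup.mem_subgroupOf.mpr hk), hζ.2 k' (Subgroup.mem_subgroupOf.mpr hk')]
    obtain ⟨n, hn⟩ := IsCharacter.apply_one (IsIrrCharacter.isCharacter ζ.2)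
    rw [hn, Complex.conj_natCast]
  rw [Finset.sum_congr rfl h2, zas_sum_triv_deg_sq hZ hab H hHa hHcard hHfix] at h1
  rw [← h1]
  ring

/-- the cubic sum over the relevant characters -/
theorem zas_sum_rel_sq_mul_conj [Fintype (Cfsg.IrrCharacter (stabilizer G a))]
    [Fintype (ZasS a H)] {t u : stabilizer G a} (ht : (t : G) ∈ H) (hu : (u : G) ∈ H)
    (h : ∀ x y : stabilizer G a, IsConj t x → IsConj t y → ¬ IsConj u (x * y)) :
    ∑ χ : ZasS a H, ((χ.1 : Cfsg.IrrCharacter (stabilizer G a)) : stabilizer G a → ℂ) t *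
        ((χ.1 : Cfsg.IrrCharacter (stabilizer G a)) : stabilizer G a → ℂ) t *
        conj (((χ.1 : Cfsg.IrrCharacter (stabilizer G a)) : stabilizer G a → ℂ) u) =
      -((Nat.card ↥(stabilizer G a ⊓ stabilizer G b : Subgroup G) : ℂ) *
        (Nat.card ↥(stabilizer G a ⊓ stabilizer G b : Subgroup G) : ℂ)) := by
  classical
  haveI : Fintype (stabilizer G a) := Fintype.ofFinite _
  set e := Nat.card ↥(stabilizer G a ⊓ stabilizer G b : Subgroup G) with he
  have he0 : (e : ℂ) ≠ 0 := by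
    have : 0 < e := Nat.card_pos
    exact_mod_cast this.ne'
  have h1 := sum_irr_sq_mul_conj_eq_zero t u h
  rw [zas_sum_irr_split a H] at h1
  have h2 : ∀ ζ ∈ Finset.univ.filter (fun ζ : Cfsg.IrrCharacter (stabilizer G a) =>
        ∀ n ∈ H.subgroupOf (stabilizer G a),
          (ζ : stabilizer G a → ℂ) n = (ζ : stabilizer G a → ℂ) 1),
      (ζ : stabilizer G a → ℂ) t * (ζ : stabilizer G a → ℂ) t *
        conj ((ζ : stabilizer G a → ℂ) u) / (ζ : stabilizer G a → ℂ) 1 =
        (ζ : stabilizer G a → ℂ) 1 * (ζ : stabilizer G a → ℂ) 1 := by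
    intro ζ hζ
    rw [Finset.mem_filter] at hζ
    rw [hζ.2 t (Subgroup.mem_subgroupOf.mpr ht), hζ.2 u (Subgroup.mem_subgroupOf.mpr hu)]
    have hζ1 : (ζ : stabilizer G a → ℂ) 1 ≠ 0 := IsIrrCharacter.apply_one_ne_zero ζ.2
    obtain ⟨n, hn⟩ := IsCharacter.apply_one (IsIrrCharacter.isCharacter ζ.2)
    rw [hn, Complex.conj_natCast]
    rw [hn] at hζ1
    field_simp
  rw [Finset.sum_congr rfl h2, zas_sum_triv_deg_sq hZ hab H hHa hHcard hHfix, ← he] at h1
  have h3 : ∀ χ : ZasS a H,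
      ((χ.1 : Cfsg.IrrCharacter (stabilizer G a)) : stabilizer G a → ℂ) t *
        ((χ.1 : Cfsg.IrrCharacter (stabilizer G a)) : stabilizer G a → ℂ) t *
        conj (((χ.1 : Cfsg.IrrCharacter (stabilizer G a)) : stabilizer G a → ℂ) u) /
        ((χ.1 : Cfsg.IrrCharacter (stabilizer G a)) : stabilizer G a → ℂ) 1 =
      (e : ℂ)⁻¹ * (((χ.1 : Cfsg.IrrCharacter (stabilizer G a)) : stabilizer G a → ℂ) t *
        ((χ.1 : Cfsg.IrrCharacter (stabilizer G a)) : stabilizer G a → ℂ) t *
        conj (((χ.1 : Cfsg.IrrCharacter (stabilizer G a)) : stabilizer G a → ℂ) u)) := by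
    intro χ
    rw [zasRel_apply_one hZ hab H hHa hHcard hHfix hHab χ.2, div_eq_mul_inv, mul_comm]
  rw [Finset.sum_congr rfl (fun χ _ => h3 χ), ← Finset.mul_sum] at h1
  have h4 : ∑ χ : ZasS a H,
      ((χ.1 : Cfsg.IrrCharacter (stabilizer G a)) : stabilizer G a → ℂ) t *
        ((χ.1 : Cfsg.IrrCharacter (stabilizer G a)) : stabilizer G a → ℂ) t *
        conj (((χ.1 : Cfsg.IrrCharacter (stabilizer G a)) : stabilizer G a → ℂ) u) =
      (e : ℂ) * ((e : ℂ)⁻¹ * ∑ χ : ZasS a H,
      ((χ.1 : Cfsg.IrrCharacter (stabilizer G a)) : stabilizer G a → ℂ) t *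
        ((χ.1 : Cfsg.IrrCharacter (stabilizer G a)) : stabilizer G a → ℂ) t *
        conj (((χ.1 : Cfsg.IrrCharacter (stabilizer G a)) : stabilizer G a → ℂ) u)) := by
    rw [← mul_assoc, mul_inv_cancel₀ he0, one_mul]
  rw [h4]
  linear_combination (e : ℂ) * h1

end

end Cfsg.Agent.Helper6.ZasB
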