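import Mathlib
import Cfsg.Prelude.Def_Characters
import Cfsg.Agent.Helper6.ZasChR2

/-!
(Fork of `Helper6/ZasChS.lean` in the namespace `ZasB`, on top of `ZasChM2`; see there.)
# Zassenhaus groups with abelian kernel: the even case, in the form used by `Helper2.FeitAb`
-/

set_option autoImplicit false
set_option linter.style.haveILetI false

namespace Cfsg.Agent.Helper6.ZasB

open MulAction

universe u v

/-- the Frobenius kernel of a point stabiliser of a simple Zassenhaus group with `e` odd and
`2 e < h - 1` cannot be abelian of even order `h` -/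
theorem zas_even_contra {G : Type u} {Ω : Type v} [Group G] [Finite G] [MulAction G Ω]
    [Fintype Ω] (hZ : Cfsg.IsZassenhausGroup G Ω) {a b : Ω} (hab : a ≠ b) [IsSimpleGroup G]
    (h e : ℕ) (hh : Fintype.card Ω = h + 1)
    (he : Nat.card ↥(stabilizer G a ⊓ stabilizer G b : Subgroup G) = e) (hodd : Odd e)
    (hlt : 2 * e < h - 1) (H : Subgroup G) (hHa : H ≤ stabilizer G a)
    (hHcard : Nat.card H + 1 = Fintype.card Ω)
    (hHfix : ∀ u ∈ H, u ≠ 1 → ∀ c : Ω, u • c = c → c = a)
    (hHab : ∀ u ∈ H, ∀ v ∈ H, u * v = v * u) (heven : Even h) : False := by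
  classical
  haveI : Fintype G := Fintype.ofFinite G
  have hlt' : 2 * Nat.card ↥(stabilizer G a ⊓ stabilizer G b : Subgroup G) <
      Fintype.card Ω - 2 := by
    rw [he, hh]
    omega
  have hodd' : Odd (Nat.card ↥(stabilizer G a ⊓ stabilizer G b : Subgroup G)) := by
    rw [he]
    exact hodd
  have heven' : Even (Nat.card H) := by
    have : Nat.card H = h := by omega
    rw [this]
    exact heven
  exact zas_even_false hZ hab H hHa hHcard hHfix hHab hodd' hlt' heven'

end Cfsg.Agent.Helper6.ZasB
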