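import Mathlib
import Cfsg.Agent.Helper2.ZasAbF
import Cfsg.Agent.Helper6.ZasChH
import Cfsg.Agent.Helper6.ZasChS2

/-!
# Zassenhaus groups with an abelian regular normal subgroup in the point stabiliser

The statement of S0731, re-derived on top of the `ZasB` fork (`ZasChM2` … `ZasChS2`) so that its
import closure does not contain `Helper6/StructConst.lean`.
-/

set_option autoImplicit false

namespace Cfsg.Agent.Helper6.ZasB

open Cfsg.Agent.Helper2

theorem zas_abelian_kernel {G Ω : Type*} [Group G] [Finite G] [MulAction G Ω] [Finite Ω]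
    (hZ : Cfsg.IsZassenhausGroup G Ω) (x : Ω) (F : Subgroup G)
    (hFle : F ≤ MulAction.stabilizer G x)
    (hFn : (F.subgroupOf (MulAction.stabilizer G x)).Normal) (hFab : IsMulCommutative F)
    (hreg : ∀ y z : Ω, y ≠ x → z ≠ x → ∃! u : F, (u : G) • y = z) :
    (MulAction.IsMultiplyPretransitive G Ω 3 ∧ ∀ t : Fin 3 ↪ Ω, MulAction.stabilizer G t = ⊥) ∨
      ∃ (K : Type) (_ : Field K) (_ : Fintype K), ringChar K ≠ 2 ∧
        Nonempty (G ≃* Matrix.ProjectiveSpecialLinearGroup (Fin 2) K) := by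
  exact Cfsg.Agent.Helper2.ZasAb.main_of
    (fun G Ω _ _ _ _ hZ a b hab hS h e hh he hodd hlt H hHa hHcard hHfix hHab => by
      haveI := hS
      exact Cfsg.Agent.Helper6.zas_class_bound hZ hab h e hh he hlt H hHa hHcard hHfix hHab)
    (fun G Ω _ _ _ _ hZ a b hab hS h e hh he hodd hlt H hHa hHcard hHfix hHab hev => by
      haveI := hS
      exact Cfsg.Agent.Helper6.ZasB.zas_even_contra hZ hab h e hh he hodd hlt H hHa hHcard hHfix hHab hev)
    hZ x F hFle hFn hFab hreg

end Cfsg.Agent.Helper6.ZasB
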