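import Mathlib
import Cfsg.Prelude.Def_LieExceptional
import Cfsg.Agent.Helper6.BswDihB
import Cfsg.Agent.Helper6.ZasAbK2

/-!
# From the conclusion of the abstract Brauer–Suzuki–Wall theorem to `PSL(2, q)`: the last step
-/

set_option autoImplicit false
set_option linter.style.haveILetI false

namespace Cfsg.Agent.Helper6.BswDih

open MulAction

universe u

variable {G : Type u} [Group G]

/-- A finite simple group satisfying the conclusion of the abstract Brauer–Suzuki–Wall theorem
(with `D ≠ 1`) is `PSL(2, F)` for a finite field `F` of odd order. -/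
theorem psl_of_concl [Finite G] [IsSimpleGroup G] {Q D : Subgroup G} (h : Concl Q D) :
    ∃ (F : Type) (_ : Field F) (_ : Fintype F), Odd (Fintype.card F) ∧
      Nonempty (G ≃* Matrix.ProjectiveSpecialLinearGroup (Fin 2) F) := by
  classical
  have hreg : ∀ y z : G ⧸ Subgroup.normalizer (Q : Set G), y ≠ x0 Q → z ≠ x0 Q →
      ∃! u : Q, (u : G) • y = z := fun y z hy hz => h.exists_unique_smul hy hz
  rcases ZasB.zas_abelian_kernel h.zassenhaus (x0 Q) Q h.le_stab h.normal_stab h.comm hreg with
    h3 | ⟨K, hK1, hK2, hchar, hiso⟩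
  · exact absurd h3 h.not_sharp3
  · refine ⟨K, hK1, hK2, ?_, hiso⟩
    rw [Nat.odd_iff]
    have := (FiniteField.even_card_iff_char_two (F := K)).not.mp hchar
    omega

end Cfsg.Agent.Helper6.BswDih
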