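import Mathlib
import Cfsg.Agent.Lead.Bsw_Main
import Cfsg.Agent.Helper6.Bsd_Part2
import Cfsg.Agent.Helper6.BswDihC

/-!
# A finite simple group satisfying the hypotheses of the abstract Brauer–Suzuki–Wall theorem is
`PSL(2, F)` with `F` of odd order
-/

set_option autoImplicit false

namespace Cfsg.Agent.Helper6.BswDih

theorem psl_of_hyp {G : Type*} [Group G] [Finite G] [IsSimpleGroup G] {t s : G} {K : Subgroup G}
    (h : Cfsg.Agent.Lead.Bsw.Hyp t K s) :
    ∃ (F : Type) (_ : Field F) (_ : Fintype F), Odd (Fintype.card F) ∧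
      Nonempty (G ≃* Matrix.ProjectiveSpecialLinearGroup (Fin 2) F) := by
  obtain ⟨Q, D, hord, hCQ, -, hDq, hQD, hNQ, hX⟩ := Cfsg.Agent.Lead.Bsw.main h
  have hD : D ≠ ⊥ := by
    intro hD
    rw [hD, Subgroup.card_bot] at hDq
    have hq : Nat.card Q = 3 := by omega
    rw [hq] at hord
    exact Cfsg.Agent.Helper2.Bsd.h6_card_ne_twelve (G := G) (by omega)
  obtain ⟨-, u, hu2, huD, hinv, -⟩ := hX D le_rfl hD
  exact psl_of_concl ⟨hord, hCQ, hDq, hQD, hNQ, ⟨u, hu2, huD, hinv⟩, hD⟩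

end Cfsg.Agent.Helper6.BswDih
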