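import Mathlib

/-!
# Burnside's orbit-counting lemma in an instance-free form
-/

set_option autoImplicit false
set_option linter.style.haveILetI false

namespace Cfsg.Agent.Helper6

theorem burnside_count {G Ω : Type*} [Group G] [Fintype G] [Fintype Ω] [DecidableEq Ω]
    (act : G → Ω → Ω) (h1 : ∀ a, act 1 a = a) (hmul : ∀ g h a, act (g * h) a = act g (act h a))
    (r : Ω → Ω → Prop) (hr : ∀ a b, r a b ↔ ∃ g, b = act g a) :
    Nat.card (Quot r) * Fintype.card G =
      ∑ g : G, (Finset.univ.filter (fun a => act g a = a)).card := by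
  classical
  letI : MulAction G Ω := { smul := act, one_smul := h1, mul_smul := hmul }
  have hB := MulAction.sum_card_fixedBy_eq_card_orbits_mul_card_group G Ω
  have hq : Nat.card (Quot r) = Fintype.card (Quotient (MulAction.orbitRel G Ω)) := by
    rw [← Nat.card_eq_fintype_card]
    apply Nat.card_congr
    apply Quot.congrRight
    intro a b
    rw [hr]
    change _ ↔ a ∈ MulAction.orbit G b
    rw [MulAction.mem_orbit_iff]
    constructor
    · rintro ⟨g, rfl⟩
      refine ⟨g⁻¹, ?_⟩
      change act g⁻¹ (act g a) = a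
      rw [← hmul, inv_mul_cancel, h1]
    · rintro ⟨g, rfl⟩
      refine ⟨g⁻¹, ?_⟩
      change b = act g⁻¹ (act g b)
      rw [← hmul, inv_mul_cancel, h1]
  rw [hq, ← hB]
  apply Finset.sum_congr rfl
  intro g _
  rw [← Fintype.card_subtype]
  apply Fintype.card_congr
  exact Equiv.refl _

end Cfsg.Agent.Helper6
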