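import Mathlib
import Cfsg.Prelude.Def_Characters
import Cfsg.Agent.Helper6.Cd3A
import Cfsg.Agent.Helper6.NormalInd2
import Cfsg.Agent.Helper6.CliffordOrbit
import Cfsg.Agent.Helper6.IrrCrit
import Cfsg.Agent.Helper6.FullyRamified
import Cfsg.Agent.Helper6.CharTripleD
import Cfsg.Agent.Helper6.NormalComplementBlock2
import Cfsg.Agent.Helper6.CdpA

/-!
# Three character degrees: a variant of Isaacs' Lemma 12.4

`N ⊴ G` with `G/N` abelian, `K ≤ N` normal in `G` with `N/K` abelian and every element outside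
`N` acting fixed-point-freely on the linear characters of `N/K`.
-/

set_option autoImplicit false
set_option linter.style.haveILetI false

namespace Cfsg.Agent.Helper6.Cd3

open Module Representation
open scoped ComplexConjugate

universe u

variable {G : Type u} [Group G]

/-- The bijection argument: a fixed-point-free endomorphism `σ` of a finite abelian group `A`,
a `σ`-stable subgroup `Λ ≤ A`; if `σ a / a ∈ Λ` then `a ∈ Λ`. -/
theorem mem_of_twist_mem {B : Type*} [CommGroup B] [Finite B] (σ : B →* B) (A Λ : Subgroup B)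
    (hfpf : ∀ a ∈ A, σ a = a → a = 1) (hΛA : Λ ≤ A)
    (hΛ : ∀ a ∈ Λ, σ a ∈ Λ) (a : B) (haA : a ∈ A) (ha : σ a * a⁻¹ ∈ Λ) : a ∈ Λ := by
  have hinjA : ∀ b c : B, b ∈ A → c ∈ A → σ b * b⁻¹ = σ c * c⁻¹ → b = c := by
    intro b c hb hc h
    have h0 : σ b = σ c * c⁻¹ * b := mul_inv_eq_iff_eq_mul.mp h
    have h1 : σ (b * c⁻¹) = b * c⁻¹ := by
      rw [map_mul, map_inv, h0]
      rw [mul_comm, ← mul_assoc, ← mul_assoc, inv_mul_cancel, one_mul, mul_comm]
    have h2 := hfpf _ (A.mul_mem hb (A.inv_mem hc)) h1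
    exact mul_inv_eq_one.mp h2
  let τ : Λ → Λ := fun b => ⟨σ b * (b : B)⁻¹, Λ.mul_mem (hΛ b b.2) (Λ.inv_mem b.2)⟩
  have hτinj : Function.Injective τ := by
    intro b c h
    apply Subtype.ext
    apply hinjA _ _ (hΛA b.2) (hΛA c.2)
    exact congrArg Subtype.val h
  have hτsurj : Function.Surjective τ := Finite.injective_iff_surjective.mp hτinj
  obtain ⟨b, hb⟩ := hτsurj ⟨σ a * a⁻¹, ha⟩
  have h3 := hinjA b a (hΛA b.2) haA (congrArg Subtype.val hb)
  rw [← h3]
  exact b.2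

/-- Precomposition of a linear character of a normal subgroup with conjugation by `g`. -/
noncomputable def conjHom (N : Subgroup G) [hN : N.Normal] (μ : N →* ℂˣ) (g : G) : N →* ℂˣ :=
  μ.comp (MulAut.conjNormal g : N ≃* N).toMonoidHom

theorem conjHom_apply (N : Subgroup G) [hN : N.Normal] (μ : N →* ℂˣ) (g : G) (y : N) :
    conjHom N μ g y = μ ⟨g * y * g⁻¹, hN.conj_mem y y.2 g⟩ := rfl

theorem conjFun_hom (N : Subgroup G) [hN : N.Normal] (μ : N →* ℂˣ) (g : G) :
    conjFun N (fun y => ((μ y : ℂˣ) : ℂ)) g = fun y => ((conjHom N μ g y : ℂˣ) : ℂ) := rfl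

theorem conjFun_mul_fun (N : Subgroup G) [hN : N.Normal] (α β : N → ℂ) (g : G) :
    conjFun N (α * β) g = conjFun N α g * conjFun N β g := rfl

/-- Conjugation by `g` as an endomorphism of the group of linear characters. -/
noncomputable def conjHomMap (N : Subgroup G) [hN : N.Normal] (g : G) :
    (N →* ℂˣ) →* (N →* ℂˣ) where
  toFun μ := conjHom N μ g
  map_one' := rfl
  map_mul' _ _ := rfl

/-- The linear characters of `N` trivial on `K`. -/
def trivOn (N K : Subgroup G) : Subgroup (N →* ℂˣ) where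
  carrier := {μ | ∀ k : N, (k : G) ∈ K → μ k = 1}
  one_mem' := fun _ _ => rfl
  mul_mem' := by
    intro a b ha hb k hk
    rw [MonoidHom.mul_apply, ha k hk, hb k hk, one_mul]
  inv_mem' := by
    intro a ha k hk
    rw [MonoidHom.inv_apply, ha k hk, inv_one]

theorem mem_trivOn (N K : Subgroup G) (μ : N →* ℂˣ) :
    μ ∈ trivOn N K ↔ ∀ k : N, (k : G) ∈ K → μ k = 1 := Iff.rfl

theorem conjHom_mem_trivOn (N K : Subgroup G) [hN : N.Normal] [hK : K.Normal] (μ : N →* ℂˣ)
    (hμ : μ ∈ trivOn N K) (g : G) : conjHom N μ g ∈ trivOn N K := by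
  intro k hk
  rw [conjHom_apply]
  exact hμ _ (hK.conj_mem k hk g)

/-- The stabilizer of `ψ` among the linear characters trivial on `K`. -/
def twistStab (N K : Subgroup G) (ψ : N → ℂ) : Subgroup (N →* ℂˣ) where
  carrier := {μ | μ ∈ trivOn N K ∧ ψ * (fun y => ((μ y : ℂˣ) : ℂ)) = ψ}
  one_mem' := by
    refine ⟨(trivOn N K).one_mem, ?_⟩
    funext y
    simp
  mul_mem' := by
    rintro a b ⟨ha, ha'⟩ ⟨hb, hb'⟩
    refine ⟨(trivOn N K).mul_mem ha hb, ?_⟩
    funext y
    have h1 := congrFun ha' y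
    have h2 := congrFun hb' y
    simp only [Pi.mul_apply, MonoidHom.mul_apply, Units.val_mul] at h1 h2 ⊢
    rw [← mul_assoc, h1, h2]
  inv_mem' := by
    rintro a ⟨ha, ha'⟩
    refine ⟨(trivOn N K).inv_mem ha, ?_⟩
    funext y
    have h1 := congrFun ha' y
    simp only [Pi.mul_apply, MonoidHom.inv_apply, Units.val_inv_eq_inv_val] at h1 ⊢
    have hne : ((a y : ℂˣ) : ℂ) ≠ 0 := Units.ne_zero _
    nth_rewrite 1 [← h1]
    rw [mul_assoc, mul_inv_cancel₀ hne, mul_one]

/-- Uniqueness of the fixed point in a twist orbit. -/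
theorem twist_fixed_unique [Finite G] (N K : Subgroup G) [hN : N.Normal] [hK : K.Normal]
    (hdual : ∀ x : G, x ∉ N → ∀ μ : N →* ℂˣ, μ ∈ trivOn N K → conjHom N μ x = μ → μ = 1)
    (ψ : N → ℂ) (x : G) (hxN : x ∉ N) (hxψ : conjFun N ψ x = ψ)
    (μ : N →* ℂˣ) (hμK : μ ∈ trivOn N K)
    (hfix : conjFun N (ψ * fun y => ((μ y : ℂˣ) : ℂ)) x = ψ * fun y => ((μ y : ℂˣ) : ℂ)) :
    ψ * (fun y => ((μ y : ℂˣ) : ℂ)) = ψ := by
  haveI : Finite (N →* ℂˣ) := finite_hom_units
  have hmem : μ ∈ twistStab N K ψ := by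
    apply mem_of_twist_mem (conjHomMap N x) (trivOn N K) (twistStab N K ψ)
    · intro a ha hfa
      exact hdual x hxN a ha hfa
    · intro a ha
      exact ha.1
    · rintro a ⟨ha, ha'⟩
      refine ⟨conjHom_mem_trivOn N K a ha x, ?_⟩
      show ψ * (fun y => ((conjHom N a x y : ℂˣ) : ℂ)) = ψ
      rw [← conjFun_hom]
      nth_rewrite 1 [← hxψ]
      rw [← conjFun_mul_fun, ha', hxψ]
    · exact hμK
    · refine ⟨(trivOn N K).mul_mem (conjHom_mem_trivOn N K μ hμK x) ((trivOn N K).inv_mem hμK), ?_⟩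
      rw [conjFun_mul_fun, hxψ, conjFun_hom] at hfix
      funext y
      have h1 := congrFun hfix y
      simp only [Pi.mul_apply] at h1
      show ψ y * (((conjHomMap N x μ * μ⁻¹) y : ℂˣ) : ℂ) = ψ y
      have h2 : ((conjHomMap N x μ * μ⁻¹) y : ℂˣ) = conjHom N μ x y * (μ y)⁻¹ := rfl
      rw [h2, Units.val_mul, ← mul_assoc, h1, Units.val_inv_eq_inv_val]
      have hne : ((μ y : ℂˣ) : ℂ) ≠ 0 := Units.ne_zero _
      field_simp
  exact hmem.2

/-- **A variant of Isaacs' Lemma 12.4**: if `ψ` is moved by some linear character `μ₁` of `N/K`,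
then `ψ` or `ψ μ₁` has inertia group `N`. -/
theorem stab_dichotomy [Finite G] (N K : Subgroup G) [hN : N.Normal] [hK : K.Normal]
    (hGN : ∀ x y : G, x * y * x⁻¹ * y⁻¹ ∈ N)
    (hdual : ∀ x : G, x ∉ N → ∀ μ : N →* ℂˣ, μ ∈ trivOn N K → conjHom N μ x = μ → μ = 1)
    (ψ : N → ℂ) (hψ : Cfsg.IsClassFunction N ψ) (μ₁ : N →* ℂˣ) (hμ₁K : μ₁ ∈ trivOn N K)
    (hne : ψ * (fun y => ((μ₁ y : ℂˣ) : ℂ)) ≠ ψ) :
    conjStab N ψ ≤ N ∨ conjStab N (ψ * fun y => ((μ₁ y : ℂˣ) : ℂ)) ≤ N := by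
  by_contra hcon
  push Not at hcon
  obtain ⟨h1, h2⟩ := hcon
  obtain ⟨g, hgT, hgN⟩ := SetLike.not_le_iff_exists.mp h1
  obtain ⟨h, hhT, hhN⟩ := SetLike.not_le_iff_exists.mp h2
  rw [mem_conjStab] at hgT hhT
  -- `ψ^h` is a twist of `ψ`
  set ν : N →* ℂˣ := μ₁ * (conjHom N μ₁ h)⁻¹ with hν
  have hνK : ν ∈ trivOn N K :=
    (trivOn N K).mul_mem hμ₁K ((trivOn N K).inv_mem (conjHom_mem_trivOn N K μ₁ hμ₁K h))
  have hψh : conjFun N ψ h = ψ * fun y => ((ν y : ℂˣ) : ℂ) := by
    rw [conjFun_mul_fun, conjFun_hom] at hhT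
    funext y
    have h3 := congrFun hhT y
    simp only [Pi.mul_apply] at h3 ⊢
    have h4 : (ν y : ℂˣ) = μ₁ y * (conjHom N μ₁ h y)⁻¹ := rfl
    rw [h4, Units.val_mul, ← mul_assoc, ← h3, Units.val_inv_eq_inv_val]
    have hne' : ((conjHom N μ₁ h y : ℂˣ) : ℂ) ≠ 0 := Units.ne_zero _
    field_simp
  -- `g` fixes `ψ^h`
  have hgfix : conjFun N (conjFun N ψ h) g = conjFun N ψ h := by
    rw [conjFun_mul]
    have hc : h * g = (h * g * h⁻¹ * g⁻¹) * (g * h) := by group
    rw [hc, ← conjFun_mul, (mem_conjStab N ψ _).mp (le_conjStab_of_isClassFunction N ψ hψ (hGN h g)), ← conjFun_mul, hgT]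
  rw [hψh] at hgfix
  have h5 := twist_fixed_unique N K hdual ψ g hgN hgT ν hνK hgfix
  rw [h5] at hψh
  exact hne (twist_fixed_unique N K hdual ψ h hhN hψh μ₁ hμ₁K hhT)

/-- An irreducible character of a normal subgroup whose inertia group is the subgroup itself
induces irreducibly. -/
theorem isIrr_indFun_of_stab_le [Fintype G] (N : Subgroup G) [hN : N.Normal] (θ : N → ℂ)
    (hθ : Cfsg.IsIrrCharacter N θ) (hstab : conjStab N θ ≤ N) :
    Cfsg.IsIrrCharacter G (Cfsg.indFun N θ) := by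
  apply isIrrCharacter_of_classInner_self (isCharacter_indFun N θ (IsIrrCharacter.isCharacter hθ))
  have h1 := card_mul_classInner_indFun_normal N θ hθ
  have h2 : conjStab N θ = N := le_antisymm hstab
    (le_conjStab_of_isClassFunction N θ
      (IsCharacter.isClassFunction (IsIrrCharacter.isCharacter hθ)))
  have h3 : Nat.card {g : G // conjFun N θ g = θ} = Nat.card N := by
    have : Nat.card {g : G // conjFun N θ g = θ} = Nat.card (conjStab N θ) := rfl
    rw [this, h2]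
  rw [h3] at h1
  have hN0 : (Nat.card N : ℂ) ≠ 0 := by
    exact_mod_cast (Nat.card_pos (α := N)).ne'
  apply mul_left_cancel₀ hN0
  rw [h1, mul_one]

/-- If every linear character of `N/K` fixes `ψ` under multiplication and `K < N`, then the
degree of `ψ` is not coprime to `|N : K|`. -/
theorem not_coprime_of_twist_invariant [Finite G] (N K : Subgroup G) [hN : N.Normal]
    [hK : K.Normal] (hab : ∀ a ∈ N, ∀ b ∈ N, a * b * a⁻¹ * b⁻¹ ∈ K) (hlt : K.relIndex N ≠ 1)
    (ψ : N → ℂ) (hψ : Cfsg.IsIrrCharacter N ψ)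
    (hinv : ∀ μ : N →* ℂˣ, μ ∈ trivOn N K → ψ * (fun y => ((μ y : ℂˣ) : ℂ)) = ψ)
    (d : ℕ) (hd : ψ 1 = d) : ¬ d.Coprime (K.relIndex N) := by
  classical
  haveI : Fintype N := Fintype.ofFinite _
  haveI : Fintype (K.subgroupOf N) := Fintype.ofFinite _
  have hidx : (K.subgroupOf N).index = K.relIndex N := rfl
  have habQ : ∀ a b : N ⧸ K.subgroupOf N, a * b = b * a := by
    intro a b
    induction a using QuotientGroup.induction_on with
    | H a =>
      induction b using QuotientGroup.induction_on with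
      | H b =>
        rw [← QuotientGroup.mk_mul, ← QuotientGroup.mk_mul, QuotientGroup.eq,
          Subgroup.mem_subgroupOf]
        have h1 := hab (b : G)⁻¹ (N.inv_mem b.2) (a : G)⁻¹ (N.inv_mem a.2)
        have h2 : (((a * b)⁻¹ * (b * a) : N) : G) = (b : G)⁻¹ * (a : G)⁻¹ * ((b : G)⁻¹)⁻¹ *
            ((a : G)⁻¹)⁻¹ := by
          push_cast
          group
        rw [h2]
        exact h1
  have hvan : ∀ y : N, y ∉ K.subgroupOf N → ψ y = 0 := by
    intro y hy
    have hne1 : (QuotientGroup.mk y : N ⧸ K.subgroupOf N) ≠ 1 := fun h =>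
      hy ((QuotientGroup.eq_one_iff y).mp h)
    obtain ⟨lam, hlam⟩ := Cdp.exists_hom_ne_one habQ _ hne1
    have hμ : lam.comp (QuotientGroup.mk' (K.subgroupOf N)) ∈ trivOn N K := by
      intro k hk
      show lam (QuotientGroup.mk k) = 1
      rw [(QuotientGroup.eq_one_iff k).mpr (Subgroup.mem_subgroupOf.mpr hk), map_one]
    have h1 := congrFun (hinv _ hμ) y
    simp only [Pi.mul_apply] at h1
    have h2 : ψ y * ((((lam.comp (QuotientGroup.mk' (K.subgroupOf N))) y : ℂˣ) : ℂ) - 1) = 0 := by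
      rw [mul_sub, h1, mul_one, sub_self]
    rcases mul_eq_zero.mp h2 with h3 | h3
    · exact h3
    · exfalso
      apply hlam
      have h4 : (((lam.comp (QuotientGroup.mk' (K.subgroupOf N))) y : ℂˣ) : ℂ) = ((1 : ℂˣ) : ℂ) := by
        rw [Units.val_one]
        exact sub_eq_zero.mp h3
      exact Units.val_injective h4
  have hnorm := (vanish_off_iff_classInner_restrict (K.subgroupOf N) ψ hψ).mp hvan
  obtain ⟨θ, hθne⟩ := exists_constituent_restrict (K.subgroupOf N) ⟨ψ, hψ⟩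
  obtain ⟨e, he⟩ := IsCharacter.apply_one (IsIrrCharacter.isCharacter θ.2)
  obtain ⟨hed, hde⟩ := degree_ratio_dvd_index (K.subgroupOf N) ψ hψ θ θ.2 hθne d e hd he
  intro hcop
  have hd0 : d ≠ 0 := by
    intro h0
    rw [h0, Nat.cast_zero] at hd
    exact Cfsg.Agent.Helper6.IsIrrCharacter.apply_one_ne_zero hψ hd
  have h1 : d / e = 1 := by
    have h2 : d / e ∣ d := Nat.div_dvd_of_dvd hed
    rw [hidx] at hde
    have h3 : d / e ∣ Nat.gcd d (K.relIndex N) := Nat.dvd_gcd h2 hde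
    rw [hcop.gcd_eq_one] at h3
    exact Nat.dvd_one.mp h3
  have hdeq : d = e := by
    have h2 := Nat.div_mul_cancel hed
    rw [h1, one_mul] at h2
    exact h2.symm
  have hΔ := sub_isCharacter_of_constituent
    (IsCharacter.restrict (K.subgroupOf N) (IsIrrCharacter.isCharacter hψ)) θ.2 hθne
  have hΔ0 : ((fun k : K.subgroupOf N => ψ k) - (θ : K.subgroupOf N → ℂ)) 1 = 0 := by
    simp only [Pi.sub_apply, OneMemClass.coe_one]
    rw [hd, he, hdeq, sub_self]
  have hzero : (fun k : K.subgroupOf N => ψ k) - (θ : K.subgroupOf N → ℂ) = 0 := by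
    funext y
    have h2 := IsCharacter.norm_le hΔ y
    rw [hΔ0, Complex.zero_re] at h2
    exact norm_le_zero_iff.mp h2
  have hres : (fun k : K.subgroupOf N => ψ k) = (θ : K.subgroupOf N → ℂ) := sub_eq_zero.mp hzero
  rw [hres, classInner_irr_self θ.2, hidx] at hnorm
  apply hlt
  exact_mod_cast hnorm.symm

end Cfsg.Agent.Helper6.Cd3
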