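import Mathlib
import Cfsg.Prelude.Def_Characters
import Cfsg.Agent.Helper6.Cd3B
import Cfsg.Agent.Helper6.IrrOver
import Cfsg.Agent.Helper6.SmallDegree
import Cfsg.Agent.Helper6.BrauerPerm2
import Cfsg.Agent.Helper6.Constituent
import Cfsg.Agent.Helper6.Degrees

/-!
# Three character degrees: degrees of the Frobenius-type kernel

`N ⊴ G` with `G/N` abelian of order `f`, `K ≤ N` with `N/K` abelian of order prime to `f`, and
fixed-point-free action: every nonlinear irreducible character of `N` has degree `g / t` with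
`t ∣ gcd f g`, where the degrees of `G` lie in `{1, f, g}`.
-/

set_option autoImplicit false
set_option linter.style.haveILetI false

namespace Cfsg.Agent.Helper6.Cd3

open Module Representation
open scoped ComplexConjugate

universe u

variable {G : Type u} [Group G]

/-- Degree relation through an intermediate subgroup. -/
theorem degree_between [Finite G] (M N : Subgroup G) [hM : M.Normal] (hMN : M ≤ N) (θ : M → ℂ)
    (hθ : Cfsg.IsIrrCharacter M θ) :
    ∃ (ψ : N → ℂ) (d e : ℕ), Cfsg.IsIrrCharacter N ψ ∧ ψ 1 = d ∧ θ 1 = e ∧ e ∣ d ∧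
      d / e ∣ M.relIndex N := by
  classical
  haveI : Fintype N := Fintype.ofFinite _
  haveI : Fintype (M.subgroupOf N) := Fintype.ofFinite _
  haveI : (M.subgroupOf N).Normal := Subgroup.Normal.subgroupOf hM N
  have hθ' : Cfsg.IsIrrCharacter (M.subgroupOf N) (θ ∘ (Subgroup.subgroupOfEquivOfLe hMN)) :=
    IsIrrCharacter.comp_mulEquiv (Subgroup.subgroupOfEquivOfLe hMN) hθ
  obtain ⟨ψ, hne⟩ := exists_irr_over (M.subgroupOf N) ⟨_, hθ'⟩
  obtain ⟨d, hd⟩ := IsCharacter.apply_one (IsIrrCharacter.isCharacter ψ.2)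
  obtain ⟨e, he⟩ := IsCharacter.apply_one (IsIrrCharacter.isCharacter hθ)
  have he' : (θ ∘ (Subgroup.subgroupOfEquivOfLe hMN)) 1 = e := by
    rw [Function.comp_apply, map_one, he]
  have h1 := degree_ratio_dvd_index (M.subgroupOf N) (ψ : N → ℂ) ψ.2 _ hθ' hne d e hd he'
  exact ⟨ψ, d, e, ψ.2, hd, he, h1.1, h1.2⟩

/-- A linear character of `N/K` separating a given element from `K`. -/
theorem exists_trivOn_ne_one [Finite G] (N K : Subgroup G) [hK : K.Normal]
    (hab : ∀ a ∈ N, ∀ b ∈ N, a * b * a⁻¹ * b⁻¹ ∈ K) (y : N) (hy : (y : G) ∉ K) :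
    ∃ μ : N →* ℂˣ, μ ∈ trivOn N K ∧ μ y ≠ 1 := by
  have habQ : ∀ a b : N ⧸ K.subgroupOf N, a * b = b * a := by
    intro a b
    induction a using QuotientGroup.induction_on with
    | H a =>
      induction b using QuotientGroup.induction_on with
      | H b =>
        rw [← QuotientGroup.mk_mul, ← QuotientGroup.mk_mul, QuotientGroup.eq,
          Subgroup.mem_subgroupOf]
        have h1 := hab (b : G)⁻¹ (N.inv_mem b.2) (a : G)⁻¹ (N.inv_mem a.2)
        have h2 : (((a * b)⁻¹ * (b * a) : N) : G) = (b : G)⁻¹ * (a : G)⁻¹ * ((b : G)⁻¹)⁻¹ *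
            ((a : G)⁻¹)⁻¹ := by
          push_cast
          group
        rw [h2]
        exact h1
  have hne1 : (QuotientGroup.mk y : N ⧸ K.subgroupOf N) ≠ 1 := fun h =>
    hy (Subgroup.mem_subgroupOf.mp ((QuotientGroup.eq_one_iff y).mp h))
  obtain ⟨lam, hlam⟩ := Cdp.exists_hom_ne_one habQ _ hne1
  refine ⟨lam.comp (QuotientGroup.mk' (K.subgroupOf N)), ?_, hlam⟩
  intro k hk
  show lam (QuotientGroup.mk k) = 1
  rw [(QuotientGroup.eq_one_iff k).mpr (Subgroup.mem_subgroupOf.mpr hk), map_one]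

/-- The index `|G : N|` is a character degree of `G`. -/
theorem exists_irr_degree_index [Fintype G] (N K : Subgroup G) [hN : N.Normal] [hK : K.Normal]
    (hab : ∀ a ∈ N, ∀ b ∈ N, a * b * a⁻¹ * b⁻¹ ∈ K) (hlt : K.relIndex N ≠ 1)
    (hdual : ∀ x : G, x ∉ N → ∀ μ : N →* ℂˣ, μ ∈ trivOn N K → conjHom N μ x = μ → μ = 1) :
    ∃ χ : G → ℂ, Cfsg.IsIrrCharacter G χ ∧ χ 1 = (N.index : ℂ) := by
  have hex : ∃ y : N, (y : G) ∉ K := by
    by_contra hno
    push Not at hno
    apply hlt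
    have : K.subgroupOf N = ⊤ := by
      rw [eq_top_iff]
      intro y _
      exact Subgroup.mem_subgroupOf.mpr (hno y)
    show (K.subgroupOf N).index = 1
    rw [this, Subgroup.index_top]
  obtain ⟨y, hy⟩ := hex
  obtain ⟨μ, hμK, hμy⟩ := exists_trivOn_ne_one N K hab y hy
  have hirr : Cfsg.IsIrrCharacter N (fun z => ((μ z : ℂˣ) : ℂ)) := isIrrCharacter_of_hom μ
  have hstab : conjStab N (fun z => ((μ z : ℂˣ) : ℂ)) ≤ N := by
    intro x hx
    by_contra hxN
    rw [mem_conjStab, conjFun_hom] at hx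
    have h1 : conjHom N μ x = μ := by
      ext z
      exact congrFun hx z
    have h2 := hdual x hxN μ hμK h1
    apply hμy
    rw [h2]
    rfl
  refine ⟨_, isIrr_indFun_of_stab_le N _ hirr hstab, ?_⟩
  rw [indFun_apply_one, map_one, Units.val_one, mul_one]

/-- **Lemma F**: the nonlinear irreducible characters of `N` have degree `g / t` with
`t ∣ gcd f g`. -/
theorem lemmaF [Fintype G] (N K : Subgroup G) [hN : N.Normal] [hK : K.Normal]
    (hGN : ∀ x y : G, x * y * x⁻¹ * y⁻¹ ∈ N)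
    (hab : ∀ a ∈ N, ∀ b ∈ N, a * b * a⁻¹ * b⁻¹ ∈ K) (hlt : K.relIndex N ≠ 1)
    (hdual : ∀ x : G, x ∉ N → ∀ μ : N →* ℂˣ, μ ∈ trivOn N K → conjHom N μ x = μ → μ = 1)
    (f g : ℕ) (hf : N.index = f) (hf1 : 1 < f) (hcop : (K.relIndex N).Coprime f)
    (hcd : ∀ χ : G → ℂ, Cfsg.IsIrrCharacter G χ → χ 1 = 1 ∨ χ 1 = (f : ℂ) ∨ χ 1 = (g : ℂ))
    (ψ : N → ℂ) (hψ : Cfsg.IsIrrCharacter N ψ) (d : ℕ) (hd : ψ 1 = d) (hd1 : d ≠ 1) :
    ∃ t : ℕ, t ∣ f ∧ t ∣ g ∧ d * t = g := by
  classical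
  haveI : Fintype N := Fintype.ofFinite _
  have hd0 : d ≠ 0 := by
    intro h0
    rw [h0, Nat.cast_zero] at hd
    exact Cfsg.Agent.Helper6.IsIrrCharacter.apply_one_ne_zero hψ hd
  by_cases hinv : ∀ μ : N →* ℂˣ, μ ∈ trivOn N K → ψ * (fun y => ((μ y : ℂˣ) : ℂ)) = ψ
  · have hncop := not_coprime_of_twist_invariant N K hab hlt ψ hψ hinv d hd
    obtain ⟨χ, hne⟩ := exists_irr_over N ⟨ψ, hψ⟩
    have key : ∀ c : ℕ, (χ : G → ℂ) 1 = c → d ∣ c ∧ c / d ∣ f := by
      intro c hc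
      have := degree_ratio_dvd_index N (χ : G → ℂ) χ.2 ψ hψ hne c d hc hd
      rw [hf] at this
      exact this
    rcases hcd χ χ.2 with h | h | h
    · exfalso
      have h1 := (key 1 (by rw [h, Nat.cast_one])).1
      exact hd1 (Nat.dvd_one.mp h1)
    · exfalso
      have h1 := (key f h).1
      apply hncop
      exact (hcop.symm.coprime_dvd_left h1)
    · obtain ⟨h1, h2⟩ := key g h
      exact ⟨g / d, h2, Nat.div_dvd_of_dvd h1, Nat.mul_div_cancel' h1⟩
  · push Not at hinv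
    obtain ⟨μ₁, hμ₁K, hne⟩ := hinv
    have hkey : ∀ θ : N → ℂ, Cfsg.IsIrrCharacter N θ → θ 1 = d → conjStab N θ ≤ N →
        ∃ t : ℕ, t ∣ f ∧ t ∣ g ∧ d * t = g := by
      intro θ hθ hθ1 hstab
      have hirr := isIrr_indFun_of_stab_le N θ hθ hstab
      have hdeg : Cfsg.indFun N θ 1 = ((f * d : ℕ) : ℂ) := by
        rw [indFun_apply_one, hf, hθ1]
        push_cast
        rfl
      rcases hcd _ hirr with h | h | h
      · exfalso
        rw [hdeg] at h
        have h1 : f * d = 1 := by exact_mod_cast h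
        have h2 : f = 1 := Nat.eq_one_of_mul_eq_one_right h1
        omega
      · exfalso
        rw [hdeg] at h
        have h1 : f * d = f := by exact_mod_cast h
        have h2 : f * d = f * 1 := by rw [h1, mul_one]
        exact hd1 (Nat.eq_of_mul_eq_mul_left (by omega) h2)
      · rw [hdeg] at h
        have h1 : f * d = g := by exact_mod_cast h
        exact ⟨f, dvd_rfl, ⟨d, h1.symm⟩, by rw [mul_comm]; exact h1⟩
    rcases stab_dichotomy N K hGN hdual ψ
      (IsCharacter.isClassFunction (IsIrrCharacter.isCharacter hψ)) μ₁ hμ₁K hne with h | h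
    · exact hkey ψ hψ hd h
    · refine hkey _ (IsIrrCharacter.mul_hom μ₁ hψ) ?_ h
      simp [hd]

end Cfsg.Agent.Helper6.Cd3
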