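import Mathlib
import Cfsg.Prelude.Def_Characters
import Cfsg.Prelude.Def_CharExt
import Cfsg.Agent.Helper6.Linear
import Cfsg.Agent.Helper6.LinearExt
import Cfsg.Agent.Helper6.DetChar
import Cfsg.Agent.Helper6.LinearCount

/-!
# Linear characters of order prime to `p`
-/

set_option autoImplicit false
set_option linter.style.haveILetI false

namespace Cfsg.Agent.Helper6

open Module
open scoped ComplexConjugate

universe u

variable {G : Type u} [Group G]

theorem detChar_of_hom [Finite G] (lam : G →* ℂˣ) :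
    Cfsg.detChar (fun g => ((lam g : ℂˣ) : ℂ)) = fun g => ((lam g : ℂˣ) : ℂ) := by
  have h := detChar_rep (linRep lam)
  rw [linRep_character] at h
  rw [h]
  funext g
  rw [detHom_apply]
  unfold linRep
  simp [LinearMap.det_smul]

/-- The elements of order prime to `p` in a commutative group. -/
def coprimeOrderSubgroup (A : Type u) [CommGroup A] (p : ℕ) : Subgroup A where
  carrier := {a | Nat.Coprime (orderOf a) p}
  one_mem' := by simp
  inv_mem' := by
    intro a ha
    simpa using ha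
  mul_mem' := by
    intro a b ha hb
    change Nat.Coprime (orderOf a) p at ha
    change Nat.Coprime (orderOf b) p at hb
    change Nat.Coprime (orderOf (a * b)) p
    have h1 : orderOf (a * b) ∣ Nat.lcm (orderOf a) (orderOf b) :=
      (Commute.all a b).orderOf_mul_dvd_lcm
    have h2 : Nat.lcm (orderOf a) (orderOf b) ∣ orderOf a * orderOf b := Nat.lcm_dvd_mul _ _
    exact Nat.Coprime.coprime_dvd_left (h1.trans h2) (Nat.Coprime.mul_left ha hb)

theorem not_dvd_card_coprimeOrderSubgroup (A : Type u) [CommGroup A] [Finite A] (p : ℕ)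
    [hp : Fact p.Prime] : ¬ p ∣ Nat.card (coprimeOrderSubgroup A p) := by
  intro h
  obtain ⟨x, hx⟩ := exists_prime_orderOf_dvd_card' p h
  have hx2 : Nat.Coprime (orderOf (x : A)) p := x.2
  rw [Subgroup.orderOf_coe, hx] at hx2
  exact hp.out.one_lt.ne' ((Nat.coprime_self p).mp hx2)

/-- The number of linear characters of determinantal order prime to `p` is prime to `p`. -/
theorem not_dvd_card_linear_coprime_det [Finite G] (p : ℕ) [hp : Fact p.Prime] :
    ¬ p ∣ Nat.card {χ : Cfsg.IrrCharacter G // (χ : G → ℂ) 1 = 1 ∧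
      ¬ p ∣ Cfsg.detOrder (χ : G → ℂ)} := by
  classical
  haveI : Finite (G →* ℂˣ) := finite_hom_units
  have hkey : ∀ lam : G →* ℂˣ, lam ∈ coprimeOrderSubgroup (G →* ℂˣ) p ↔
      ¬ p ∣ Cfsg.detOrder
        ((((homEquivLinearIrr (G := G)) lam : {χ : Cfsg.IrrCharacter G // (χ : G → ℂ) 1 = 1}) :
          Cfsg.IrrCharacter G) : G → ℂ) := by
    intro lam
    have h1 : ((((homEquivLinearIrr (G := G)) lam :
        {χ : Cfsg.IrrCharacter G // (χ : G → ℂ) 1 = 1}) : Cfsg.IrrCharacter G) : G → ℂ) =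
        fun g => ((lam g : ℂˣ) : ℂ) := rfl
    rw [h1]
    unfold Cfsg.detOrder
    rw [detChar_of_hom, orderOf_coeFun]
    change Nat.Coprime (orderOf lam) p ↔ _
    rw [Nat.coprime_comm, Nat.Prime.coprime_iff_not_dvd hp.out]
  have e1 : ↥(coprimeOrderSubgroup (G →* ℂˣ) p) ≃
      {x : {χ : Cfsg.IrrCharacter G // (χ : G → ℂ) 1 = 1} //
        ¬ p ∣ Cfsg.detOrder ((x : Cfsg.IrrCharacter G) : G → ℂ)} :=
    Equiv.subtypeEquiv (homEquivLinearIrr (G := G)) hkey
  have e2 := Equiv.subtypeSubtypeEquivSubtypeInter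
      (fun χ : Cfsg.IrrCharacter G => (χ : G → ℂ) 1 = 1)
      (fun χ : Cfsg.IrrCharacter G => ¬ p ∣ Cfsg.detOrder (χ : G → ℂ))
  rw [← Nat.card_congr (e1.trans e2)]
  exact not_dvd_card_coprimeOrderSubgroup (G →* ℂˣ) p

end Cfsg.Agent.Helper6
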