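import Mathlib
import Cfsg.Prelude.Def_Characters
import Cfsg.Prelude.Def_Blocks
import Cfsg.Prelude.Def_CharExt
import Cfsg.Prelude.Def_Transfer
import Cfsg.Agent.Helper6.PPowDegree
import Cfsg.Agent.Helper6.CliffordCorr
import Cfsg.Agent.Helper6.CliffordOrbit
import Cfsg.Agent.Helper6.NormalComplementBlock2
import Cfsg.Agent.Helper6.BlockPart
import Cfsg.Agent.Helper6.DetChar
import Cfsg.Agent.Helper5.PResidual

/-!
# Characters of `p'`-degree and `p'`-determinantal order, and the `p`-residual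
-/

set_option autoImplicit false
set_option linter.style.haveILetI false

namespace Cfsg.Agent.Helper6

open Module
open scoped ComplexConjugate

universe u

variable {G : Type u} [Group G]

/-- If `G/N` is a `p`-group and `p` does not divide `χ(1)`, then `χ` restricts irreducibly
to `N`. -/
theorem restrict_isIrr_of_pgroup_quotient [Finite G] (p : ℕ) [hp : Fact p.Prime]
    (N : Subgroup G) [hN : N.Normal] (hidx : ∃ k : ℕ, N.index = p ^ k) (χ : G → ℂ)
    (hχ : Cfsg.IsIrrCharacter G χ) (hdeg : ¬ p ∣ Cfsg.charDegree χ) :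
    Cfsg.IsIrrCharacter N (fun n : N => χ n) := by
  classical
  haveI := Fintype.ofFinite G
  haveI : Fintype N := Fintype.ofFinite N
  obtain ⟨k, hk⟩ := hidx
  obtain ⟨θ, hθ⟩ := exists_constituent_restrict N ⟨χ, hχ⟩
  change Cfsg.classInner (fun n : N => χ n) (θ : N → ℂ) ≠ 0 at hθ
  have hχc := IsIrrCharacter.isCharacter hχ
  have hθc := IsIrrCharacter.isCharacter θ.2
  obtain ⟨en, hen⟩ := classInner_char_char_nat (IsCharacter.restrict N hχc) hθc
  have hdegf := clifford_degree N χ hχ (θ : N → ℂ) θ.2 hθ (conjStab N (θ : N → ℂ))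
    (fun g => mem_conjStab N (θ : N → ℂ) g)
  rw [hen, ← charDegree_cast_of_isCharacter hχc, ← charDegree_cast_of_isCharacter hθc] at hdegf
  have hdegN : Cfsg.charDegree χ =
      en * (conjStab N (θ : N → ℂ)).index * Cfsg.charDegree (θ : N → ℂ) := by
    exact_mod_cast hdegf
  have hle : N ≤ conjStab N (θ : N → ℂ) :=
    le_conjStab_of_isClassFunction N (θ : N → ℂ) (IsCharacter.isClassFunction hθc)
  have hTdvd : (conjStab N (θ : N → ℂ)).index ∣ p ^ k := by
    rw [← hk]
    exact Subgroup.index_dvd_of_le hle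
  obtain ⟨j, -, hj⟩ := (Nat.dvd_prime_pow hp.out).mp hTdvd
  have hj0 : j = 0 := by
    by_contra hne
    apply hdeg
    rw [hdegN, hj]
    exact Dvd.dvd.mul_right (Dvd.dvd.mul_left (dvd_pow_self p hne) _) _
  rw [hj0, pow_zero] at hj
  have hTtop : conjStab N (θ : N → ℂ) = ⊤ := Subgroup.index_eq_one.mp hj
  have hinv : ∀ g : G, conjFun N (θ : N → ℂ) g = (θ : N → ℂ) := by
    intro g
    have : g ∈ conjStab N (θ : N → ℂ) := by rw [hTtop]; exact Subgroup.mem_top g
    exact this
  have hcl := clifford N χ hχ (θ : N → ℂ) θ.2 hθ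
  have horbit : {ψ : N → ℂ | ∃ g : G, ψ = conjFun N (θ : N → ℂ) g} = {(θ : N → ℂ)} := by
    ext ψ
    simp only [Set.mem_ofPred_eq, Set.mem_singleton_iff]
    constructor
    · rintro ⟨g, rfl⟩
      exact hinv g
    · intro h
      exact ⟨1, by rw [h, hinv]⟩
  rw [horbit, finsum_mem_singleton, hen] at hcl
  have hen0 : (en : ℂ) ≠ 0 := by rw [← hen]; exact hθ
  obtain ⟨i, hi⟩ := degree_pow_of_pgroup_quotient p k G N hk (θ : N → ℂ) θ.2
    (fun g n => congrFun (hinv g) n) χ hχ ⟨(en : ℂ), hen0, fun n => by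
      have := congrFun hcl n
      simpa using this⟩
  rw [← charDegree_cast_of_isCharacter hχc, ← charDegree_cast_of_isCharacter hθc] at hi
  have hiN : Cfsg.charDegree χ = p ^ i * Cfsg.charDegree (θ : N → ℂ) := by exact_mod_cast hi
  have hi0 : i = 0 := by
    by_contra hne
    apply hdeg
    rw [hiN]
    exact Dvd.dvd.mul_right (dvd_pow_self p hne) _
  rw [hi0, pow_zero, one_mul] at hiN
  rw [hj, mul_one] at hdegN
  have hθpos : 0 < Cfsg.charDegree (θ : N → ℂ) := by
    rcases Nat.eq_zero_or_pos (Cfsg.charDegree (θ : N → ℂ)) with h | h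
    · exfalso
      apply hdeg
      rw [hiN, h]
      exact dvd_zero p
    · exact h
  have hen1 : en = 1 := by
    rw [hiN] at hdegN
    have : 1 * Cfsg.charDegree (θ : N → ℂ) = en * Cfsg.charDegree (θ : N → ℂ) := by
      rw [one_mul]; exact hdegN
    exact (Nat.eq_of_mul_eq_mul_right hθpos this).symm
  rw [hen1, Nat.cast_one, one_smul] at hcl
  rw [hcl]
  exact θ.2

/-- The determinantal order of a character of `O^p(G)` is prime to `p`. -/
theorem not_dvd_detOrder_pResidual [Finite G] (p : ℕ) [hp : Fact p.Prime]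
    (θ : ↥(Cfsg.pResidual p G) → ℂ) (hθ : Cfsg.IsCharacter ↥(Cfsg.pResidual p G) θ) :
    ¬ p ∣ Cfsg.detOrder θ := by
  classical
  obtain ⟨δ, hδ⟩ := exists_hom_detChar hθ
  have hG0 : Nat.card G ≠ 0 := (Nat.card_pos (α := G)).ne'
  set n' := Nat.card G / p ^ (Nat.card G).factorization p with hn'
  have hcop : Nat.Coprime p n' := Nat.coprime_ordCompl hp.out hG0
  have hGn : p ^ (Nat.card G).factorization p * n' = Nat.card G :=
    Nat.ordProj_mul_ordCompl_eq_self (Nat.card G) p
  have key : ∀ g (hg : g ∈ Subgroup.closure {g : G | Nat.Coprime (orderOf g) p}),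
      δ (⟨g, hg⟩ : ↥(Cfsg.pResidual p G)) ^ n' = 1 := by
    intro g hg
    induction hg using Subgroup.closure_induction with
    | mem x hx =>
      have hx' : Nat.Coprime (orderOf x) p := hx
      have h1 : orderOf x ∣ p ^ (Nat.card G).factorization p * n' := by
        rw [hGn]; exact orderOf_dvd_natCard x
      have h2 : orderOf x ∣ n' :=
        Nat.Coprime.dvd_of_dvd_mul_left (Nat.Coprime.pow_right _ hx') h1
      rw [← map_pow]
      have h3 : (⟨x, Subgroup.subset_closure hx⟩ : ↥(Cfsg.pResidual p G)) ^ n' = 1 := by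
        apply Subtype.ext
        rw [Subgroup.coe_pow, Subgroup.coe_one]
        exact orderOf_dvd_iff_pow_eq_one.mp h2
      rw [h3, map_one]
    | one =>
      have : (⟨1, Subgroup.one_mem _⟩ : ↥(Cfsg.pResidual p G)) = 1 := rfl
      rw [this, map_one, one_pow]
    | mul x y hx hy ihx ihy =>
      have : (⟨x * y, Subgroup.mul_mem _ hx hy⟩ : ↥(Cfsg.pResidual p G)) =
          (⟨x, hx⟩ : ↥(Cfsg.pResidual p G)) * ⟨y, hy⟩ := rfl
      rw [this, map_mul, mul_pow, ihx, ihy, one_mul]
    | inv x hx ih =>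
      have : (⟨x⁻¹, Subgroup.inv_mem _ hx⟩ : ↥(Cfsg.pResidual p G)) =
          (⟨x, hx⟩ : ↥(Cfsg.pResidual p G))⁻¹ := rfl
      rw [this, map_inv, inv_pow, ih, inv_one]
  have hpow : (Cfsg.detChar θ) ^ n' = 1 := by
    funext n
    rw [hδ]
    simp only [Pi.pow_apply, Pi.one_apply]
    rw [← Units.val_pow_eq_pow_val]
    have := key (n : G) n.2
    rw [show (⟨(n : G), n.2⟩ : ↥(Cfsg.pResidual p G)) = n from rfl] at this
    rw [this, Units.val_one]
  have hdvd : Cfsg.detOrder θ ∣ n' := orderOf_dvd_of_pow_eq_one hpow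
  intro hp'
  have := Nat.Coprime.eq_one_of_dvd hcop (hp'.trans hdvd)
  exact hp.out.one_lt.ne' this

theorem charDegree_conjIrr [Finite G] (N : Subgroup G) [hN : N.Normal] (g : G)
    (θ : Cfsg.IrrCharacter N) :
    Cfsg.charDegree ((conjIrr N g θ : Cfsg.IrrCharacter N) : N → ℂ) =
      Cfsg.charDegree (θ : N → ℂ) := by
  unfold Cfsg.charDegree
  have : ((conjIrr N g θ : Cfsg.IrrCharacter N) : N → ℂ) 1 = (θ : N → ℂ) 1 := by
    change conjFun N (θ : N → ℂ) g 1 = _
    unfold conjFun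
    exact congrArg _ (Subtype.ext (by simp))
  rw [this]

/-- The number of irreducible characters of `N` of a given degree is congruent modulo `p` to the
number of `G`-invariant ones, when `G/N` is a `p`-group. -/
theorem card_degree_fiber_modEq [Finite G] (p : ℕ) [hp : Fact p.Prime] (N : Subgroup G)
    [hN : N.Normal] (hidx : ∃ k : ℕ, N.index = p ^ k) (d : ℕ) :
    Nat.card {θ : Cfsg.IrrCharacter N // Cfsg.charDegree (θ : N → ℂ) = d} ≡
      Nat.card {θ : Cfsg.IrrCharacter N // Cfsg.charDegree (θ : N → ℂ) = d ∧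
        ∀ g : G, conjIrr N g θ = θ} [MOD p] := by
  classical
  haveI : Finite (Cfsg.IrrCharacter N) := irr_finite
  obtain ⟨k, hk⟩ := hidx
  obtain ⟨P⟩ : Nonempty (Sylow p G) := inferInstance
  have hsup : N ⊔ (P : Subgroup G) = ⊤ := by
    rw [← Subgroup.index_eq_one]
    have h1 : (N ⊔ (P : Subgroup G)).index ∣ p ^ k := by
      rw [← hk]; exact Subgroup.index_dvd_of_le le_sup_left
    have h2 : (N ⊔ (P : Subgroup G)).index ∣ (P : Subgroup G).index :=
      Subgroup.index_dvd_of_le le_sup_right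
    have h3 : Nat.Coprime (p ^ k) (P : Subgroup G).index :=
      Nat.Coprime.pow_left k ((Nat.Prime.coprime_iff_not_dvd hp.out).mpr P.not_dvd_index)
    exact Nat.eq_one_of_dvd_coprimes h3 h1 h2
  letI act : MulAction (P : Subgroup G)
      {θ : Cfsg.IrrCharacter N // Cfsg.charDegree (θ : N → ℂ) = d} :=
    { smul := fun g θ => ⟨conjIrr N ((g : G)⁻¹) θ.1, by rw [charDegree_conjIrr]; exact θ.2⟩
      one_smul := fun θ => Subtype.ext (by
        change conjIrr N (((1 : (P : Subgroup G)) : G)⁻¹) θ.1 = θ.1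
        rw [Subgroup.coe_one, inv_one, conjIrr_one])
      mul_smul := fun g h θ => Subtype.ext (by
        change conjIrr N (((g * h : (P : Subgroup G)) : G)⁻¹) θ.1 =
          conjIrr N ((g : G)⁻¹) (conjIrr N ((h : G)⁻¹) θ.1)
        rw [conjIrr_conjIrr, Subgroup.coe_mul, mul_inv_rev]) }
  have hmod := IsPGroup.card_modEq_card_fixedPoints (P.2 : IsPGroup p (P : Subgroup G))
    {θ : Cfsg.IrrCharacter N // Cfsg.charDegree (θ : N → ℂ) = d}
  have hfix : ∀ x : {θ : Cfsg.IrrCharacter N // Cfsg.charDegree (θ : N → ℂ) = d},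
      x ∈ MulAction.fixedPoints (P : Subgroup G)
        {θ : Cfsg.IrrCharacter N // Cfsg.charDegree (θ : N → ℂ) = d} ↔
      ∀ g : G, conjIrr N g x.1 = x.1 := by
    intro x
    rw [MulAction.mem_fixedPoints]
    constructor
    · intro h g
      have hP : (P : Subgroup G) ≤ conjStab N (x.1 : N → ℂ) := by
        intro u hu
        rw [mem_conjStab]
        have h1 := h ⟨u⁻¹, Subgroup.inv_mem _ hu⟩
        have h2 := congrArg (fun y => ((y.1 : Cfsg.IrrCharacter N) : N → ℂ)) h1
        change conjFun N (x.1 : N → ℂ) ((u⁻¹)⁻¹) = _ at h2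
        rwa [inv_inv] at h2
      have hNle : N ≤ conjStab N (x.1 : N → ℂ) :=
        le_conjStab_of_isClassFunction N _
          (IsCharacter.isClassFunction (IsIrrCharacter.isCharacter x.1.2))
      have htop : conjStab N (x.1 : N → ℂ) = ⊤ := by
        rw [eq_top_iff, ← hsup]
        exact sup_le hNle hP
      have hg : g ∈ conjStab N (x.1 : N → ℂ) := by rw [htop]; exact Subgroup.mem_top g
      exact Subtype.ext hg
    · intro h g
      exact Subtype.ext (h ((g : G)⁻¹))
  have hcard : Nat.card (MulAction.fixedPoints (P : Subgroup G)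
        {θ : Cfsg.IrrCharacter N // Cfsg.charDegree (θ : N → ℂ) = d}) =
      Nat.card {θ : Cfsg.IrrCharacter N // Cfsg.charDegree (θ : N → ℂ) = d ∧
        ∀ g : G, conjIrr N g θ = θ} := by
    have e1 : ↥(MulAction.fixedPoints (P : Subgroup G)
        {θ : Cfsg.IrrCharacter N // Cfsg.charDegree (θ : N → ℂ) = d}) ≃
        {x : {θ : Cfsg.IrrCharacter N // Cfsg.charDegree (θ : N → ℂ) = d} //
          ∀ g : G, conjIrr N g x.1 = x.1} :=
      Equiv.subtypeEquivRight hfix
    rw [Nat.card_congr e1]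
    exact Nat.card_congr (Equiv.subtypeSubtypeEquivSubtypeInter
      (fun θ : Cfsg.IrrCharacter N => Cfsg.charDegree (θ : N → ℂ) = d)
      (fun θ : Cfsg.IrrCharacter N => ∀ g : G, conjIrr N g θ = θ))
  rw [← hcard]
  exact hmod

/-- `|N|` is congruent modulo `p` to the sum of the squares of the degrees of the `G`-invariant
irreducible characters of `N` of degree prime to `p`, when `G/N` is a `p`-group. -/
theorem card_modEq_sum_sq_invariant [Finite G] (p : ℕ) [hp : Fact p.Prime] (N : Subgroup G)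
    [hN : N.Normal] (hidx : ∃ k : ℕ, N.index = p ^ k) :
    (Nat.card N : ℤ) ≡ ∑ᶠ θ ∈ {θ : Cfsg.IrrCharacter N | (∀ g : G, conjIrr N g θ = θ) ∧
      ¬ p ∣ Cfsg.charDegree (θ : N → ℂ)}, (Cfsg.charDegree (θ : N → ℂ) : ℤ) ^ 2 [ZMOD p] := by
  classical
  haveI : Fintype N := Fintype.ofFinite N
  haveI : Finite (Cfsg.IrrCharacter N) := irr_finite
  haveI : Fintype (Cfsg.IrrCharacter N) := Fintype.ofFinite _
  have hsum : (Nat.card N : ℤ) =
      ∑ θ : Cfsg.IrrCharacter N, (Cfsg.charDegree (θ : N → ℂ) : ℤ) ^ 2 := by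
    have h := sum_sq_degrees (G := N)
    have h2 : ∑ θ : Cfsg.IrrCharacter N, ((Cfsg.charDegree (θ : N → ℂ) : ℕ) : ℂ) ^ 2 =
        (Nat.card N : ℂ) := by
      rw [← h]
      apply Finset.sum_congr rfl
      intro θ _
      rw [charDegree_cast_of_isCharacter (IsIrrCharacter.isCharacter θ.2)]
    have h3 : ∑ θ : Cfsg.IrrCharacter N, (Cfsg.charDegree (θ : N → ℂ)) ^ 2 = Nat.card N := by
      exact_mod_cast h2
    rw [← h3]
    push_cast
    rfl
  have hset : {θ : Cfsg.IrrCharacter N | (∀ g : G, conjIrr N g θ = θ) ∧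
      ¬ p ∣ Cfsg.charDegree (θ : N → ℂ)} =
      ↑(Finset.univ.filter (fun θ : Cfsg.IrrCharacter N => (∀ g : G, conjIrr N g θ = θ) ∧
      ¬ p ∣ Cfsg.charDegree (θ : N → ℂ))) := by
    ext θ
    simp
  rw [hset, finsum_mem_coe_finset, hsum, ← ZMod.intCast_eq_intCast_iff]
  push_cast
  set D : Finset ℕ := (Finset.univ : Finset (Cfsg.IrrCharacter N)).image
    (fun θ : Cfsg.IrrCharacter N => Cfsg.charDegree (θ : N → ℂ)) with hD
  rw [← Finset.sum_fiberwise_of_maps_to (s := Finset.univ) (t := D)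
    (g := fun θ : Cfsg.IrrCharacter N => Cfsg.charDegree (θ : N → ℂ))
    (fun θ _ => Finset.mem_image_of_mem _ (Finset.mem_univ θ))]
  rw [← Finset.sum_fiberwise_of_maps_to
    (s := Finset.univ.filter (fun θ : Cfsg.IrrCharacter N => (∀ g : G, conjIrr N g θ = θ) ∧
      ¬ p ∣ Cfsg.charDegree (θ : N → ℂ))) (t := D)
    (g := fun θ : Cfsg.IrrCharacter N => Cfsg.charDegree (θ : N → ℂ))
    (fun θ _ => Finset.mem_image_of_mem _ (Finset.mem_univ θ))]
  apply Finset.sum_congr rfl
  intro d _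
  have e1 : ∀ (T : Finset (Cfsg.IrrCharacter N)),
      Finset.sum (T.filter (fun θ : Cfsg.IrrCharacter N => Cfsg.charDegree (θ : N → ℂ) = d))
        (fun θ : Cfsg.IrrCharacter N => ((Cfsg.charDegree (θ : N → ℂ) : ℕ) : ZMod p) ^ 2) =
      ((T.filter (fun θ : Cfsg.IrrCharacter N => Cfsg.charDegree (θ : N → ℂ) = d)).card : ZMod p)
        * (d : ZMod p) ^ 2 := by
    intro T
    rw [Finset.sum_congr rfl (fun θ hθ => by rw [(Finset.mem_filter.mp hθ).2]),
      Finset.sum_const, nsmul_eq_mul]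
  rw [e1, e1]
  by_cases hpd : p ∣ d
  · have : (d : ZMod p) = 0 := (ZMod.natCast_eq_zero_iff d p).mpr hpd
    rw [this]
    ring
  · congr 1
    have hmod := card_degree_fiber_modEq p N hidx d
    rw [Nat.card_eq_fintype_card, Nat.card_eq_fintype_card, Fintype.card_subtype,
      Fintype.card_subtype] at hmod
    have hfilt : (Finset.univ.filter (fun θ : Cfsg.IrrCharacter N =>
        (∀ g : G, conjIrr N g θ = θ) ∧ ¬ p ∣ Cfsg.charDegree (θ : N → ℂ))).filter
        (fun θ : Cfsg.IrrCharacter N => Cfsg.charDegree (θ : N → ℂ) = d) =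
        Finset.univ.filter (fun θ : Cfsg.IrrCharacter N =>
          Cfsg.charDegree (θ : N → ℂ) = d ∧ ∀ g : G, conjIrr N g θ = θ) := by
      ext θ
      simp only [Finset.mem_filter, Finset.mem_univ, true_and]
      constructor
      · rintro ⟨⟨h1, _⟩, h2⟩
        exact ⟨h2, h1⟩
      · rintro ⟨h2, h1⟩
        exact ⟨⟨h1, by rw [h2]; exact hpd⟩, h2⟩
    rw [hfilt]
    exact (ZMod.natCast_eq_natCast_iff _ _ p).mpr hmod

end Cfsg.Agent.Helper6
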