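import Mathlib
import Cfsg.Agent.Helper6.PResidualChars
import Cfsg.Agent.S0867

/-!
# Restriction bijection for characters of `p'`-degree and `p'`-determinantal order
-/

set_option autoImplicit false
set_option linter.style.haveILetI false

namespace Cfsg.Agent.Helper6

open Module
open scoped ComplexConjugate

universe u

variable {G : Type u} [Group G]

set_option maxHeartbeats 800000 in
/-- If `G/N` is a `p`-group and all characters of `N` have determinantal order prime to `p`,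
restriction is a degree-preserving bijection from the irreducible characters of `G` of degree
and determinantal order prime to `p` onto the `G`-invariant irreducible characters of `N` of
degree prime to `p`. -/
theorem finsum_sq_restrict_eq [Finite G] (p : ℕ) [hp : Fact p.Prime] (N : Subgroup G)
    [hN : N.Normal] (hidx : ∃ k : ℕ, N.index = p ^ k)
    (hdet : ∀ θ : N → ℂ, Cfsg.IsCharacter N θ → ¬ p ∣ Cfsg.detOrder θ) :
    ∑ᶠ χ ∈ {χ : Cfsg.IrrCharacter G | ¬ p ∣ Cfsg.charDegree (χ : G → ℂ) ∧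
      ¬ p ∣ Cfsg.detOrder (χ : G → ℂ)}, (Cfsg.charDegree (χ : G → ℂ) : ℤ) ^ 2 =
    ∑ᶠ θ ∈ {θ : Cfsg.IrrCharacter N | (∀ g : G, conjIrr N g θ = θ) ∧
      ¬ p ∣ Cfsg.charDegree (θ : N → ℂ)}, (Cfsg.charDegree (θ : N → ℂ) : ℤ) ^ 2 := by
  classical
  obtain ⟨k, hk⟩ := hidx
  have hdegres : ∀ χ : G → ℂ, Cfsg.charDegree (fun n : N => χ n) = Cfsg.charDegree χ := by
    intro χ
    unfold Cfsg.charDegree
    rfl
  -- the map
  let e : Cfsg.IrrCharacter G → Cfsg.IrrCharacter N := fun χ =>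
    if h : Cfsg.IsIrrCharacter N (fun n : N => (χ : G → ℂ) n) then ⟨_, h⟩
    else ⟨fun _ => 1, isIrrCharacter_one⟩
  have he : ∀ χ : Cfsg.IrrCharacter G, ¬ p ∣ Cfsg.charDegree (χ : G → ℂ) →
      ((e χ : Cfsg.IrrCharacter N) : N → ℂ) = fun n : N => (χ : G → ℂ) n := by
    intro χ hχ
    have h := restrict_isIrr_of_pgroup_quotient p N ⟨k, hk⟩ (χ : G → ℂ) χ.2 hχ
    change ((if h : Cfsg.IsIrrCharacter N (fun n : N => (χ : G → ℂ) n) then
      (⟨_, h⟩ : Cfsg.IrrCharacter N) else ⟨fun _ => 1, isIrrCharacter_one⟩ :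
        Cfsg.IrrCharacter N) : N → ℂ) = _
    rw [dif_pos h]
  -- uniqueness data for invariant characters of `N`
  have huniq : ∀ θ : Cfsg.IrrCharacter N, (∀ g : G, conjIrr N g θ = θ) →
      ¬ p ∣ Cfsg.charDegree (θ : N → ℂ) →
      ∃ χ₀ : G → ℂ, (Cfsg.IsIrrCharacter G χ₀ ∧ (∀ n : N, χ₀ n = (θ : N → ℂ) n) ∧
        Cfsg.detOrder χ₀ = Cfsg.detOrder (θ : N → ℂ)) ∧
        ∀ χ' : G → ℂ, Cfsg.IsIrrCharacter G χ' → (∀ n : N, χ' n = (θ : N → ℂ) n) →
          Nat.Coprime N.index (Cfsg.detOrder χ') → χ' = χ₀ := by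
    intro θ hinv hdeg
    have hθc := IsIrrCharacter.isCharacter θ.2
    apply Cfsg.Agent.S0867.result N (θ : N → ℂ) θ.2 ?_ (Cfsg.charDegree (θ : N → ℂ))
      (charDegree_cast_of_isCharacter hθc).symm ?_
    · intro g n
      have := congrArg (fun y : Cfsg.IrrCharacter N => (y : N → ℂ) n) (hinv g)
      exact this
    · rw [hk]
      apply Nat.Coprime.pow_left
      rw [Nat.Prime.coprime_iff_not_dvd hp.out]
      intro hdvd
      rcases (Nat.Prime.dvd_mul hp.out).mp hdvd with h | h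
      · exact hdet _ hθc h
      · exact hdeg h
  apply finsum_mem_eq_of_bijOn e
  · refine ⟨?_, ?_, ?_⟩
    · -- maps to
      rintro χ ⟨hχ1, hχ2⟩
      have hχcf := IsCharacter.isClassFunction (IsIrrCharacter.isCharacter χ.2)
      refine ⟨?_, ?_⟩
      · intro g
        apply Subtype.ext
        change conjFun N ((e χ : Cfsg.IrrCharacter N) : N → ℂ) g = _
        rw [he χ hχ1]
        exact conjFun_restrict N (χ : G → ℂ) hχcf g
      · rw [he χ hχ1, hdegres]
        exact hχ1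
    · -- injective
      rintro χ ⟨hχ1, hχ2⟩ χ' ⟨hχ'1, hχ'2⟩ heq
      have hχcf := IsCharacter.isClassFunction (IsIrrCharacter.isCharacter χ.2)
      have hinv : ∀ g : G, conjIrr N g (e χ) = e χ := by
        intro g
        apply Subtype.ext
        change conjFun N ((e χ : Cfsg.IrrCharacter N) : N → ℂ) g = _
        rw [he χ hχ1]
        exact conjFun_restrict N (χ : G → ℂ) hχcf g
      have hdeg : ¬ p ∣ Cfsg.charDegree ((e χ : Cfsg.IrrCharacter N) : N → ℂ) := by
        rw [he χ hχ1, hdegres]; exact hχ1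
      obtain ⟨χ₀, -, hu⟩ := huniq (e χ) hinv hdeg
      have hcop : ∀ ψ : Cfsg.IrrCharacter G, ¬ p ∣ Cfsg.detOrder (ψ : G → ℂ) →
          Nat.Coprime N.index (Cfsg.detOrder (ψ : G → ℂ)) := by
        intro ψ hψ
        rw [hk]
        exact Nat.Coprime.pow_left k ((Nat.Prime.coprime_iff_not_dvd hp.out).mpr hψ)
      have h1 := hu (χ : G → ℂ) χ.2 (fun n => by rw [he χ hχ1]) (hcop χ hχ2)
      have h2 := hu (χ' : G → ℂ) χ'.2 (fun n => by rw [heq, he χ' hχ'1]) (hcop χ' hχ'2)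
      exact Subtype.ext (h1.trans h2.symm)
    · -- surjective
      rintro θ ⟨hinv, hdeg⟩
      obtain ⟨χ₀, ⟨hχ₀irr, hχ₀res, hχ₀det⟩, -⟩ := huniq θ hinv hdeg
      have hdeg0 : Cfsg.charDegree χ₀ = Cfsg.charDegree (θ : N → ℂ) := by
        rw [← hdegres χ₀]
        congr 1
        funext n
        exact hχ₀res n
      have hdeg0' : ¬ p ∣ Cfsg.charDegree χ₀ := by rw [hdeg0]; exact hdeg
      refine ⟨⟨χ₀, hχ₀irr⟩, ⟨hdeg0', ?_⟩, ?_⟩
      · change ¬ p ∣ Cfsg.detOrder χ₀
        rw [hχ₀det]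
        exact hdet _ (IsIrrCharacter.isCharacter θ.2)
      · apply Subtype.ext
        rw [he ⟨χ₀, hχ₀irr⟩ hdeg0']
        funext n
        exact hχ₀res n
  · rintro χ ⟨hχ1, hχ2⟩
    rw [he χ hχ1, hdegres]

end Cfsg.Agent.Helper6
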