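import Mathlib
import Cfsg.Prelude.Def_Characters
import Cfsg.Agent.S4456
import Cfsg.Agent.Helper6.ItoMichler
import Cfsg.Agent.Helper6.IrrOver
import Cfsg.Agent.Helper6.DefectZeroBlock
import Cfsg.Agent.Helper6.HeightZeroTrunc
import Cfsg.Agent.Helper6.Linear

/-!
# Groups with character degrees `1` and `m`: an abelian normal subgroup with nilpotent quotient
-/

set_option autoImplicit false
set_option linter.style.haveILetI false

namespace Cfsg.Agent.Helper6

open scoped ComplexConjugate

universe u

variable {G : Type u} [Group G]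

/-- If all irreducible character degrees of `G` are `1` or `m`, then `G` has an abelian normal
subgroup `D` with nilpotent quotient, of order prime to `m`. -/
theorem two_degree_structure [Finite G] (m : ℕ) (hm0 : m ≠ 0)
    (hcd : ∀ χ : Cfsg.IrrCharacter G, Cfsg.charDegree (χ : G → ℂ) = 1 ∨
      Cfsg.charDegree (χ : G → ℂ) = m) :
    ∃ (D : Subgroup G) (_ : D.Normal), (∀ a ∈ D, ∀ b ∈ D, a * b = b * a) ∧
      Group.IsNilpotent (G ⧸ D) ∧ (∀ p : ℕ, p.Prime → p ∣ m → ¬ p ∣ Nat.card D) := by
  classical
  haveI : Fintype G := Fintype.ofFinite G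
  have h : ∀ p : m.primeFactors, ∃ N : Subgroup G, N.Normal ∧ (Nat.card N).Coprime p ∧
      ∃ k : ℕ, N.index = (p : ℕ) ^ k := by
    intro p
    have hp : (p : ℕ).Prime := Nat.prime_of_mem_primeFactors p.2
    have hpm : (p : ℕ) ∣ m := Nat.dvd_of_mem_primeFactors p.2
    apply Cfsg.Agent.S4456.result (G := G) p hp
    intro χ hχ
    rcases hcd χ with h1 | h1
    · exact absurd h1 hχ
    · rw [h1]
      exact hpm
  choose N hN1 hN2 hN3 using h
  haveI : ∀ p, (N p).Normal := hN1
  let D : Subgroup G := ⨅ p, N p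
  haveI hDn : D.Normal := Subgroup.normal_iInf_normal hN1
  have hDle : ∀ p, D ≤ N p := fun p => iInf_le N p
  have hcop : ∀ p : ℕ, p.Prime → p ∣ m → ¬ p ∣ Nat.card D := by
    intro p hp hpm hpD
    have hpmem : p ∈ m.primeFactors := Nat.mem_primeFactors.mpr ⟨hp, hpm, hm0⟩
    have h1 : Nat.card D ∣ Nat.card (N ⟨p, hpmem⟩) := Subgroup.card_dvd_of_le (hDle ⟨p, hpmem⟩)
    have h2 := hN2 ⟨p, hpmem⟩
    exact (Nat.Prime.coprime_iff_not_dvd hp).mp h2.symm (hpD.trans h1)
  refine ⟨D, hDn, ?_, ?_, hcop⟩
  · -- D is abelian: all its irreducible characters are linear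
    haveI : Fintype D := Fintype.ofFinite D
    have hlin : ∀ θ : Cfsg.IrrCharacter D, (θ : D → ℂ) 1 = 1 := by
      intro θ
      obtain ⟨χ, hχ⟩ := exists_irr_over D θ
      have hdvd := (degree_dvd_of_over D χ θ hχ).1
      have hcard := charDegree_dvd_card θ.2
      have hθ1 : Cfsg.charDegree (θ : D → ℂ) = 1 := by
        by_contra hne
        obtain ⟨q, hq, hqd⟩ := Nat.exists_prime_and_dvd hne
        have hqm : q ∣ m := by
          rcases hcd χ with h1 | h1
          · rw [h1] at hdvd
            exact absurd (Nat.dvd_one.mp hdvd) hne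
          · rw [h1] at hdvd
            exact hqd.trans hdvd
        exact hcop q hq hqm (hqd.trans hcard)
      have h3 := charDegree_cast_of_isCharacter (IsIrrCharacter.isCharacter θ.2)
      rw [← h3, hθ1, Nat.cast_one]
    have hcomm := (comm_iff_forall_irr_degree_one (G := D)).mpr hlin
    intro a ha b hb
    have := hcomm ⟨a, ha⟩ ⟨b, hb⟩
    exact congrArg Subtype.val this
  · -- the quotient embeds in a product of p-groups
    have hnil : ∀ p : m.primeFactors, Group.IsNilpotent (G ⧸ N p) := by
      intro p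
      have hp : (p : ℕ).Prime := Nat.prime_of_mem_primeFactors p.2
      haveI : Fact (p : ℕ).Prime := ⟨hp⟩
      obtain ⟨k, hk⟩ := hN3 p
      have hpg : IsPGroup (p : ℕ) (G ⧸ N p) := by
        apply IsPGroup.of_card (n := k)
        rw [← hk]
        rfl
      exact hpg.isNilpotent
    haveI := hnil
    let f : G ⧸ D →* ∀ p : m.primeFactors, G ⧸ N p :=
      QuotientGroup.lift D (MonoidHom.pi (fun p => QuotientGroup.mk' (N p))) (by
        intro x hx
        rw [MonoidHom.mem_ker]
        ext p
        simp only [MonoidHom.pi_apply, QuotientGroup.mk'_apply, Pi.one_apply]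
        rw [QuotientGroup.eq_one_iff]
        exact hDle p hx)
    apply Subgroup.isNilpotent_of_ker_le_center f
    intro x hx
    rw [MonoidHom.mem_ker] at hx
    obtain ⟨g, rfl⟩ := QuotientGroup.mk_surjective x
    have hg : g ∈ D := by
      rw [Subgroup.mem_iInf]
      intro p
      have := congrFun hx p
      have h2 : f (g : G ⧸ D) p = (g : G ⧸ N p) := rfl
      rw [h2] at this
      exact (QuotientGroup.eq_one_iff g).mp this
    have : (g : G ⧸ D) = 1 := (QuotientGroup.eq_one_iff g).mpr hg
    rw [this]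
    exact one_mem _

end Cfsg.Agent.Helper6
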