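import Mathlib
import Cfsg.Prelude.Def_Characters
import Cfsg.Agent.Helper6.MGroup

/-!
# Abelian-by-nilpotent groups are M-groups
-/

set_option autoImplicit false
set_option linter.style.haveILetI false

namespace Cfsg.Agent.Helper6

open scoped ComplexConjugate
open Module

universe u v

variable {G : Type u} [Group G]

/-- The quotient of a subgroup `T` by `D ⊓ T` is nilpotent when `G ⧸ D` is. -/
theorem isNilpotent_quotient_subgroupOf (D : Subgroup G) [hD : D.Normal]
    (hnil : Group.IsNilpotent (G ⧸ D)) (T : Subgroup G) :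
    Group.IsNilpotent (T ⧸ D.subgroupOf T) := by
  let f : T ⧸ D.subgroupOf T →* G ⧸ D :=
    QuotientGroup.map (D.subgroupOf T) D T.subtype (fun x hx => hx)
  haveI := hnil
  apply Subgroup.isNilpotent_of_ker_le_center f
  intro x hx
  rw [MonoidHom.mem_ker] at hx
  obtain ⟨t, rfl⟩ := QuotientGroup.mk_surjective x
  have h1 : f (t : T ⧸ D.subgroupOf T) = ((t : G) : G ⧸ D) := rfl
  rw [h1, QuotientGroup.eq_one_iff] at hx
  have h2 : (t : T ⧸ D.subgroupOf T) = 1 := by
    rw [QuotientGroup.eq_one_iff]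
    exact hx
  rw [h2]
  exact one_mem _

/-- `G ⧸ K` is nilpotent if `G ⧸ D` is and `D` is central modulo `K`. -/
theorem isNilpotent_quotient_of_central_mod (D K : Subgroup G) [hD : D.Normal] [hK : K.Normal]
    (hnil : Group.IsNilpotent (G ⧸ D))
    (hc : ∀ a ∈ D, ∀ g : G, a * g * a⁻¹ * g⁻¹ ∈ K) :
    Group.IsNilpotent (G ⧸ K) := by
  haveI : (D ⊔ K).Normal := Subgroup.sup_normal D K
  let f : G ⧸ K →* G ⧸ (D ⊔ K) :=
    QuotientGroup.map K (D ⊔ K) (MonoidHom.id G) (fun x hx => (le_sup_right : K ≤ D ⊔ K) hx)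
  have hnil2 : Group.IsNilpotent (G ⧸ (D ⊔ K)) := by
    let q : G ⧸ D →* G ⧸ (D ⊔ K) :=
      QuotientGroup.map D (D ⊔ K) (MonoidHom.id G) (fun x hx => (le_sup_left : D ≤ D ⊔ K) hx)
    haveI := hnil
    apply Group.nilpotent_of_surjective q
    intro y
    obtain ⟨g, rfl⟩ := QuotientGroup.mk_surjective y
    exact ⟨(g : G ⧸ D), rfl⟩
  haveI := hnil2
  apply Subgroup.isNilpotent_of_ker_le_center f
  intro x hx
  rw [MonoidHom.mem_ker] at hx
  obtain ⟨g, rfl⟩ := QuotientGroup.mk_surjective x
  have h1 : f (g : G ⧸ K) = (g : G ⧸ (D ⊔ K)) := rfl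
  rw [h1, QuotientGroup.eq_one_iff] at hx
  -- g = d * k
  have hx' : g ∈ ((D ⊔ K : Subgroup G) : Set G) := hx
  rw [Subgroup.mul_normal D K] at hx'
  obtain ⟨d, hd, k, hk, rfl⟩ := Set.mem_mul.mp hx'
  rw [Subgroup.mem_center_iff]
  intro y
  obtain ⟨y₀, rfl⟩ := QuotientGroup.mk_surjective y
  have hk1 : (k : G ⧸ K) = 1 := (QuotientGroup.eq_one_iff k).mpr hk
  have hcomm := hc d hd y₀
  rw [← QuotientGroup.eq_one_iff] at hcomm
  simp only [QuotientGroup.mk_mul, QuotientGroup.mk_inv] at hcomm ⊢
  rw [hk1, mul_one]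
  have h2 : (d : G ⧸ K) * (y₀ : G ⧸ K) = (y₀ : G ⧸ K) * (d : G ⧸ K) := by
    have := congrArg (fun z => z * (y₀ : G ⧸ K) * (d : G ⧸ K)) hcomm
    simpa using this
  exact h2.symm

theorem abnil_monomial_aux : ∀ (n : ℕ) (G : Type u) [Group G] [Fintype G],
    Fintype.card G = n →
    (∃ (D : Subgroup G) (_ : D.Normal), (∀ a ∈ D, ∀ b ∈ D, a * b = b * a) ∧
      Group.IsNilpotent (G ⧸ D)) →
    ∀ χ : G → ℂ, Cfsg.IsIrrCharacter G χ →
      ∃ (H : Subgroup G) (lam : H →* ℂˣ), χ = Cfsg.indFun H (fun h => (lam h : ℂ)) := by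
  intro n
  induction n using Nat.strong_induction_on with
  | _ n ih =>
  intro G _ _ hcard hstruct χ hχ
  classical
  obtain ⟨D, hDn, hDab, hDnil⟩ := hstruct
  haveI := hDn
  by_cases hdeg : χ 1 = 1
  · obtain ⟨μ, hμ⟩ := exists_hom_of_irr_degree_one hχ hdeg
    refine ⟨⊤, μ.comp (⊤ : Subgroup G).subtype, ?_⟩
    rw [indFun_top]
    · rw [hμ]
      rfl
    · intro x y
      simp only [map_mul, map_inv, Units.val_mul, MonoidHom.coe_comp]
      rw [mul_comm, ← mul_assoc]
      simp
  · obtain ⟨K, hKn, hK, -, -, -⟩ := exists_kernel_data hχ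
    haveI := hKn
    have hncomm : ¬ ∀ a b : G ⧸ K, a * b = b * a := by
      intro hc
      apply hdeg
      apply irr_degree_one_of_commutators hχ
      intro a b
      rw [← hK, ← QuotientGroup.eq_one_iff]
      simp only [QuotientGroup.mk_mul, QuotientGroup.mk_inv]
      rw [hc (a : G ⧸ K) (b : G ⧸ K)]
      simp
    -- the Clifford step
    have hstep : ∃ T : Subgroup G, T ≠ ⊤ ∧ ∃ ψ : T → ℂ, Cfsg.IsIrrCharacter T ψ ∧
        Cfsg.indFun T ψ = χ := by
      by_cases hcen : ∀ a ∈ D, ∀ g : G, a * g * a⁻¹ * g⁻¹ ∈ K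
      · -- G ⧸ K is nilpotent
        haveI : Group.IsNilpotent (G ⧸ K) := isNilpotent_quotient_of_central_mod D K hDnil hcen
        obtain ⟨x, hx1, hx2⟩ := exists_second_center hncomm
        obtain ⟨x₀, rfl⟩ := QuotientGroup.mk_surjective x
        have hS : ∀ s ∈ ((Subgroup.center (G ⧸ K) : Set (G ⧸ K)) ∪ {(x₀ : G ⧸ K)}),
            ∀ t ∈ ((Subgroup.center (G ⧸ K) : Set (G ⧸ K)) ∪ {(x₀ : G ⧸ K)}),
              s * t = t * s := by
          intro s hs t ht
          rcases hs with hs | hs
          · exact (Subgroup.mem_center_iff.mp hs t).symm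
          · rcases ht with ht | ht
            · exact Subgroup.mem_center_iff.mp ht s
            · rw [Set.mem_singleton_iff] at hs ht
              rw [hs, ht]
        have hcommA := closure_comm hS
        have hnormalA : (Subgroup.closure
            ((Subgroup.center (G ⧸ K) : Set (G ⧸ K)) ∪ {(x₀ : G ⧸ K)})).Normal := by
          apply closure_normal
          intro s hs g
          rcases hs with hs | hs
          · have : g * s * g⁻¹ = s := by
              rw [Subgroup.mem_center_iff.mp hs g, mul_inv_cancel_right]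
            rw [this]
            exact Subgroup.subset_closure (Or.inl hs)
          · rw [Set.mem_singleton_iff] at hs
            rw [hs]
            have h1 : g * (x₀ : G ⧸ K) * g⁻¹ =
                ((x₀ : G ⧸ K) * g * (x₀ : G ⧸ K)⁻¹ * g⁻¹)⁻¹ * (x₀ : G ⧸ K) := by group
            rw [h1]
            apply mul_mem
            · apply inv_mem
              exact Subgroup.subset_closure (Or.inl (hx2 g))
            · exact Subgroup.subset_closure (Or.inr rfl)
        haveI : ((Subgroup.closure ((Subgroup.center (G ⧸ K) : Set (G ⧸ K)) ∪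
            {(x₀ : G ⧸ K)})).comap (QuotientGroup.mk' K)).Normal := hnormalA.comap _
        exact monomial_step χ hχ
          ((Subgroup.closure ((Subgroup.center (G ⧸ K) : Set (G ⧸ K)) ∪
            {(x₀ : G ⧸ K)})).comap (QuotientGroup.mk' K)) (by
            intro a ha b hb
            rw [← hK, ← QuotientGroup.eq_one_iff]
            simp only [QuotientGroup.mk_mul, QuotientGroup.mk_inv]
            rw [hcommA (a : G ⧸ K) ha (b : G ⧸ K) hb]
            simp) (by
            have hx1' : ¬ ∀ g : G ⧸ K, g * (x₀ : G ⧸ K) = (x₀ : G ⧸ K) * g := by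
              intro h
              exact hx1 (Subgroup.mem_center_iff.mpr h)
            push Not at hx1'
            obtain ⟨g, hg⟩ := hx1'
            obtain ⟨g₀, rfl⟩ := QuotientGroup.mk_surjective g
            refine ⟨x₀, Subgroup.subset_closure (Or.inr rfl), g₀, ?_⟩
            rw [Ne, ← hK, ← QuotientGroup.eq_one_iff]
            simp only [QuotientGroup.mk_mul, QuotientGroup.mk_inv]
            intro h
            apply hg
            have h2 : (x₀ : G ⧸ K) * (g₀ : G ⧸ K) = (g₀ : G ⧸ K) * (x₀ : G ⧸ K) := by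
              have := congrArg (fun z => z * (g₀ : G ⧸ K) * (x₀ : G ⧸ K)) h
              simpa using this
            exact h2.symm)
      · -- D itself is abelian, normal, and not central modulo K
        push Not at hcen
        obtain ⟨a, ha, g, hg⟩ := hcen
        refine monomial_step χ hχ D ?_ ⟨a, ha, g, ?_⟩
        · intro a ha b hb
          have : a * b * a⁻¹ * b⁻¹ = 1 := by
            rw [hDab a ha b hb]
            group
          rw [this]
        · intro h
          exact hg ((hK _).mpr h)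
    obtain ⟨T, hT, ψ, hψ, hind⟩ := hstep
    haveI : Fintype T := Fintype.ofFinite _
    have hlt : Fintype.card T < n := by
      rw [← hcard, ← Nat.card_eq_fintype_card, ← Nat.card_eq_fintype_card]
      apply lt_of_le_of_ne (Subgroup.card_le_card_group T)
      intro h
      exact hT (Subgroup.card_eq_iff_eq_top T |>.mp h)
    have hTstruct : ∃ (D' : Subgroup T) (_ : D'.Normal), (∀ a ∈ D', ∀ b ∈ D', a * b = b * a) ∧
        Group.IsNilpotent (T ⧸ D') := by
      refine ⟨D.subgroupOf T, inferInstance, ?_, isNilpotent_quotient_subgroupOf D hDnil T⟩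
      intro a ha b hb
      apply Subtype.ext
      exact hDab a ha b hb
    obtain ⟨H', lam', hψ'⟩ := ih (Fintype.card T) hlt T rfl hTstruct ψ hψ
    refine ⟨H'.map T.subtype, lam'.comp
      (Subgroup.equivMapOfInjective H' T.subtype T.subtype_injective).symm.toMonoidHom, ?_⟩
    rw [← hind, hψ', indFun_indFun_subtype]
    rfl

/-- Finite abelian-by-nilpotent groups are M-groups. -/
theorem abnil_monomial [Fintype G] (D : Subgroup G) [hD : D.Normal]
    (hab : ∀ a ∈ D, ∀ b ∈ D, a * b = b * a) (hnil : Group.IsNilpotent (G ⧸ D))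
    (χ : G → ℂ) (hχ : Cfsg.IsIrrCharacter G χ) :
    ∃ (H : Subgroup G) (lam : H →* ℂˣ), χ = Cfsg.indFun H (fun h => (lam h : ℂ)) :=
  abnil_monomial_aux _ G rfl ⟨D, hD, hab, hnil⟩ χ hχ

end Cfsg.Agent.Helper6
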