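import Mathlib
import Cfsg.Prelude.Def_Characters
import Cfsg.Agent.Helper6.Taketa
import Cfsg.Agent.Helper6.TwoDegA
import Cfsg.Agent.Helper6.TwoDegB

/-!
# Groups with two character degrees are metabelian
-/

set_option autoImplicit false
set_option linter.style.haveILetI false

namespace Cfsg.Agent.Helper6

open Module Representation

universe u

variable {G : Type u} [Group G]

/-- Taketa's argument for an M-group all of whose nonlinear irreducible characters have the same
degree: the second derived subgroup lies in every kernel. -/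
theorem taketa_two_degrees [Fintype G]
    (hM : ∀ χ : G → ℂ, Cfsg.IsIrrCharacter G χ → ∃ (H : Subgroup G) (lam : H →* ℂˣ),
      χ = Cfsg.indFun H (fun h => (lam h : ℂ)))
    (m : ℕ) (hcd : ∀ χ : G → ℂ, Cfsg.IsIrrCharacter G χ → χ 1 = 1 ∨ χ 1 = (m : ℂ)) :
    ∀ χ : G → ℂ, Cfsg.IsIrrCharacter G χ → ∀ g ∈ derivedSeries G 2, χ g = χ 1 := by
  classical
  -- linear characters are trivial on the derived subgroup
  have hlin : ∀ χ : G → ℂ, Cfsg.IsIrrCharacter G χ → χ 1 = 1 →
      ∀ g ∈ derivedSeries G 1, χ g = χ 1 := by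
    intro χ hχ hd1 g hg1
    obtain ⟨μ, hμ⟩ := exists_hom_of_irr_degree_one hχ hd1
    rw [derivedSeries_one] at hg1
    have hker : g ∈ μ.ker := Abelianization.commutator_subset_ker μ hg1
    rw [hμ]
    show ((μ g : ℂˣ) : ℂ) = ((μ 1 : ℂˣ) : ℂ)
    rw [MonoidHom.mem_ker.mp hker, map_one]
  intro χ hχ g hg
  have hg1 : g ∈ derivedSeries G 1 := derivedSeries_antitone G (by norm_num) hg
  by_cases hd1 : χ 1 = 1
  · exact hlin χ hχ hd1 g hg1
  have hdm : χ 1 = (m : ℂ) := (hcd χ hχ).resolve_left hd1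
  obtain ⟨H, lam, hχeq⟩ := hM χ hχ
  have hidx : H.index = m := by
    have h1 : χ 1 = (H.index : ℂ) := by
      rw [hχeq, indFun_apply_one, map_one, Units.val_one, mul_one]
    rw [hdm] at h1
    exact_mod_cast h1.symm
  set π := Cfsg.indFun H (fun _ : H => (1 : ℂ)) with hπ
  have hπchar : Cfsg.IsCharacter G π := isCharacter_indFun H _ isCharacter_one
  have hπ1 : π 1 = (m : ℂ) := by
    rw [hπ, indFun_apply_one, mul_one, hidx]
  have hone : Cfsg.IsIrrCharacter G (fun _ : G => (1 : ℂ)) := isIrrCharacter_one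
  have hinner1 : Cfsg.classInner π (fun _ : G => (1 : ℂ)) = 1 := by
    haveI : Fintype H := Fintype.ofFinite H
    have hH0 : (Fintype.card H : ℂ) ≠ 0 := by
      have : 0 < Fintype.card H := Fintype.card_pos
      exact_mod_cast this.ne'
    rw [hπ, frobenius_reciprocity H _ _ (IsCharacter.isClassFunction isCharacter_one),
      classInner_def]
    simp only [map_one, mul_one, Finset.sum_const, Finset.card_univ, nsmul_eq_mul]
    rw [Nat.card_eq_fintype_card]
    field_simp
  -- the constituents of π are linear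
  have hconst : ∀ ψ : G → ℂ, Cfsg.IsIrrCharacter G ψ → Cfsg.classInner π ψ ≠ 0 →
      ∀ g' ∈ derivedSeries G 1, ψ g' = ψ 1 := by
    intro ψ hψ hne
    apply hlin ψ hψ
    by_cases h1 : ψ = fun _ => (1 : ℂ)
    · rw [h1]
    · rcases hcd ψ hψ with h2 | h2
      · exact h2
      · exfalso
        have hΔ₁ : Cfsg.IsCharacter G (π - fun _ => (1 : ℂ)) :=
          sub_isCharacter_of_constituent hπchar hone (by rw [hinner1]; exact one_ne_zero)
        have hne2 : Cfsg.classInner (π - fun _ => (1 : ℂ)) ψ ≠ 0 := by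
          rw [classInner_sub_left, classInner_irr_ne hone hψ (fun h => h1 h.symm), sub_zero]
          exact hne
        have hΔ₂ := sub_isCharacter_of_constituent hΔ₁ hψ hne2
        obtain ⟨k, hk⟩ := IsCharacter.apply_one hΔ₂
        simp only [Pi.sub_apply, hπ1, h2] at hk
        have : ((m : ℕ) : ℂ) = ((1 + m + k : ℕ) : ℂ) := by
          push_cast at hk ⊢
          linear_combination hk
        have h3 : m = 1 + m + k := by exact_mod_cast this
        omega
  have hconjH : ∀ g' ∈ derivedSeries G 1, ∀ x : G, x⁻¹ * g' * x ∈ H := by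
    intro g' hg'
    apply conj_mem_of_indFun_one_apply_eq
    exact apply_eq_of_constituents (IsCharacter.isClassFunction hπchar) g'
      (fun ψ hψ hne => hconst ψ hψ hne g' hg')
  have hDH : derivedSeries G 1 ≤ H := by
    intro g' hg'
    have := hconjH g' hg' 1
    simpa using this
  have hDK : derivedSeries G (1 + 1) ≤ (lam.ker).map H.subtype := by
    rw [derivedSeries_succ, Subgroup.commutator_le]
    intro a ha b hb
    refine ⟨(⟨a, hDH ha⟩ : H) * ⟨b, hDH hb⟩ * (⟨a, hDH ha⟩ : H)⁻¹ * (⟨b, hDH hb⟩ : H)⁻¹, ?_, ?_⟩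
    · rw [SetLike.mem_coe, MonoidHom.mem_ker]
      simp only [map_mul, map_inv]
      rw [mul_comm (lam ⟨a, hDH ha⟩) (lam ⟨b, hDH hb⟩)]
      group
    · rw [commutatorElement_def]
      rfl
  haveI : (derivedSeries G (1 + 1)).Normal := derivedSeries_normal G (1 + 1)
  rw [hχeq, indFun_apply, indFun_apply]
  congr 1
  apply Finset.sum_congr rfl
  intro x _
  have hxg : x⁻¹ * g * x ∈ derivedSeries G (1 + 1) := by
    have := (derivedSeries_normal G (1 + 1)).conj_mem g hg x⁻¹
    rwa [inv_inv] at this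
  obtain ⟨k, hk, hkx⟩ := hDK hxg
  have h1 : x⁻¹ * 1 * x = ((1 : H) : G) := by simp
  rw [h1, extendByZero_coe, ← hkx]
  show Cfsg.extendByZero H (fun h => ((lam h : ℂˣ) : ℂ)) ((k : H) : G) = _
  rw [extendByZero_coe, MonoidHom.mem_ker.mp hk, map_one]

/-- A finite group whose irreducible character degrees are `1` and `m` has an abelian
commutator subgroup. -/
theorem two_degree_metabelian [Finite G] (m : ℕ) (hm0 : m ≠ 0)
    (hcd : ∀ χ : Cfsg.IrrCharacter G, Cfsg.charDegree (χ : G → ℂ) = 1 ∨
      Cfsg.charDegree (χ : G → ℂ) = m) :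
    ∀ a ∈ commutator G, ∀ b ∈ commutator G, a * b = b * a := by
  classical
  haveI : Fintype G := Fintype.ofFinite G
  obtain ⟨D, hDn, hDab, hDnil, -⟩ := two_degree_structure m hm0 hcd
  haveI := hDn
  have hM := abnil_monomial D hDab hDnil
  have hcd' : ∀ χ : G → ℂ, Cfsg.IsIrrCharacter G χ → χ 1 = 1 ∨ χ 1 = (m : ℂ) := by
    intro χ hχ
    have h3 := charDegree_cast_of_isCharacter (IsIrrCharacter.isCharacter hχ)
    rcases hcd ⟨χ, hχ⟩ with h1 | h1
    · left
      rw [← h3]
      show ((Cfsg.charDegree χ : ℕ) : ℂ) = 1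
      have : Cfsg.charDegree χ = 1 := h1
      rw [this, Nat.cast_one]
    · right
      rw [← h3]
      have : Cfsg.charDegree χ = m := h1
      rw [this]
  have hker := taketa_two_degrees hM m hcd'
  intro a ha b hb
  have hmem : a * b * a⁻¹ * b⁻¹ ∈ derivedSeries G 2 := by
    have h2 : derivedSeries G 2 = ⁅derivedSeries G 1, derivedSeries G 1⁆ := derivedSeries_succ G 1
    rw [h2, derivedSeries_one]
    have := Subgroup.commutator_mem_commutator ha hb
    rwa [commutatorElement_def] at this
  have h1 : a * b * a⁻¹ * b⁻¹ = 1 := by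
    by_contra hne
    obtain ⟨n, ρ, hirr, hρg⟩ := exists_irr_rep_ne_one (a * b * a⁻¹ * b⁻¹) hne
    apply hρg
    have hχ : Cfsg.IsIrrCharacter G ρ.character := ⟨n, ρ, hirr, rfl⟩
    have h2 := hker ρ.character hχ _ hmem
    rw [char_one] at h2
    exact (char_eq_finrank_iff ρ _).mp h2
  have h2 := congrArg (fun z => z * b * a) h1
  simpa using h2

end Cfsg.Agent.Helper6
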