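import Mathlib
import Cfsg.Prelude.Def_Characters
import Cfsg.Agent.Helper6.Taketa
import Cfsg.Agent.Helper6.TwoDegC

/-!
# Taketa's argument for three character degrees
-/

set_option autoImplicit false
set_option linter.style.haveILetI false

namespace Cfsg.Agent.Helper6.Cd3

open Module Representation

universe u

variable {G : Type u} [Group G]

/-- One step of Taketa's argument: if all irreducible characters of degree less than `d` are
trivial on the `k`-th derived subgroup, then a monomial irreducible character of degree `d` is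
trivial on the `(k+1)`-st. -/
theorem taketa_step [Fintype G] (k d : ℕ) (hd1 : 1 < d)
    (hlow : ∀ ψ : G → ℂ, Cfsg.IsIrrCharacter G ψ → ∀ e : ℕ, ψ 1 = e → e < d →
      ∀ g ∈ derivedSeries G k, ψ g = ψ 1)
    (χ : G → ℂ) (hd : χ 1 = d)
    (hM : ∃ (H : Subgroup G) (lam : H →* ℂˣ), χ = Cfsg.indFun H (fun h => (lam h : ℂ))) :
    ∀ g ∈ derivedSeries G (k + 1), χ g = χ 1 := by
  classical
  intro g hg
  obtain ⟨H, lam, hχeq⟩ := hM
  have hidx : H.index = d := by
    have h1 : χ 1 = (H.index : ℂ) := by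
      rw [hχeq, indFun_apply_one, map_one, Units.val_one, mul_one]
    rw [hd] at h1
    exact_mod_cast h1.symm
  set π := Cfsg.indFun H (fun _ : H => (1 : ℂ)) with hπ
  have hπchar : Cfsg.IsCharacter G π := isCharacter_indFun H _ isCharacter_one
  have hπ1 : π 1 = ((d : ℕ) : ℂ) := by
    rw [hπ, indFun_apply_one, mul_one, hidx]
  have hone : Cfsg.IsIrrCharacter G (fun _ : G => (1 : ℂ)) := isIrrCharacter_one
  have hinner1 : Cfsg.classInner π (fun _ : G => (1 : ℂ)) = 1 := by
    haveI : Fintype H := Fintype.ofFinite H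
    have hH0 : (Fintype.card H : ℂ) ≠ 0 := by
      have : 0 < Fintype.card H := Fintype.card_pos
      exact_mod_cast this.ne'
    rw [hπ, frobenius_reciprocity H _ _ (IsCharacter.isClassFunction isCharacter_one),
      classInner_def]
    simp only [map_one, mul_one, Finset.sum_const, Finset.card_univ, nsmul_eq_mul]
    rw [Nat.card_eq_fintype_card]
    field_simp
  have hconst : ∀ ψ : G → ℂ, Cfsg.IsIrrCharacter G ψ → Cfsg.classInner π ψ ≠ 0 →
      ∀ g' ∈ derivedSeries G k, ψ g' = ψ 1 := by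
    intro ψ hψ hne
    obtain ⟨e, he⟩ := IsCharacter.apply_one (IsIrrCharacter.isCharacter hψ)
    apply hlow ψ hψ e he
    by_cases h1 : ψ = fun _ => (1 : ℂ)
    · rw [h1] at he
      have he' : (1 : ℂ) = (e : ℂ) := he
      have : e = 1 := by exact_mod_cast he'.symm
      omega
    · have hΔ₁ : Cfsg.IsCharacter G (π - fun _ => (1 : ℂ)) :=
        sub_isCharacter_of_constituent hπchar hone (by rw [hinner1]; exact one_ne_zero)
      have hne2 : Cfsg.classInner (π - fun _ => (1 : ℂ)) ψ ≠ 0 := by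
        rw [classInner_sub_left, classInner_irr_ne hone hψ (fun h => h1 h.symm), sub_zero]
        exact hne
      have hΔ₂ := sub_isCharacter_of_constituent hΔ₁ hψ hne2
      obtain ⟨j, hj⟩ := IsCharacter.apply_one hΔ₂
      simp only [Pi.sub_apply, hπ1, he] at hj
      have : ((d : ℕ) : ℂ) = ((1 + e + j : ℕ) : ℂ) := by
        push_cast at hj ⊢
        linear_combination hj
      have h2 : d = 1 + e + j := by exact_mod_cast this
      omega
  have hconjH : ∀ g' ∈ derivedSeries G k, ∀ x : G, x⁻¹ * g' * x ∈ H := by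
    intro g' hg'
    apply conj_mem_of_indFun_one_apply_eq
    exact apply_eq_of_constituents (IsCharacter.isClassFunction hπchar) g'
      (fun ψ hψ hne => hconst ψ hψ hne g' hg')
  have hDH : derivedSeries G k ≤ H := by
    intro g' hg'
    have := hconjH g' hg' 1
    simpa using this
  have hDK : derivedSeries G (k + 1) ≤ (lam.ker).map H.subtype := by
    rw [derivedSeries_succ, Subgroup.commutator_le]
    intro a ha b hb
    refine ⟨(⟨a, hDH ha⟩ : H) * ⟨b, hDH hb⟩ * (⟨a, hDH ha⟩ : H)⁻¹ * (⟨b, hDH hb⟩ : H)⁻¹, ?_, ?_⟩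
    · rw [SetLike.mem_coe, MonoidHom.mem_ker]
      simp only [map_mul, map_inv]
      rw [mul_comm (lam ⟨a, hDH ha⟩) (lam ⟨b, hDH hb⟩)]
      group
    · rw [commutatorElement_def]
      rfl
  haveI : (derivedSeries G (k + 1)).Normal := derivedSeries_normal G (k + 1)
  rw [hχeq, indFun_apply, indFun_apply]
  congr 1
  apply Finset.sum_congr rfl
  intro x _
  have hxg : x⁻¹ * g * x ∈ derivedSeries G (k + 1) := by
    have := (derivedSeries_normal G (k + 1)).conj_mem g hg x⁻¹
    rwa [inv_inv] at this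
  obtain ⟨z, hz, hzx⟩ := hDK hxg
  have h1 : x⁻¹ * 1 * x = ((1 : H) : G) := by simp
  rw [h1, extendByZero_coe, ← hzx]
  show Cfsg.extendByZero H (fun h => ((lam h : ℂˣ) : ℂ)) ((z : H) : G) = _
  rw [extendByZero_coe, MonoidHom.mem_ker.mp hz, map_one]

/-- Taketa's theorem for an M-group with at most three character degrees. -/
theorem taketa_three [Fintype G]
    (hM : ∀ χ : G → ℂ, Cfsg.IsIrrCharacter G χ → ∃ (H : Subgroup G) (lam : H →* ℂˣ),
      χ = Cfsg.indFun H (fun h => (lam h : ℂ)))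
    (m n : ℕ) (hmn : m ≤ n)
    (hcd : ∀ χ : G → ℂ, Cfsg.IsIrrCharacter G χ → χ 1 = 1 ∨ χ 1 = (m : ℂ) ∨ χ 1 = (n : ℂ)) :
    ∀ χ : G → ℂ, Cfsg.IsIrrCharacter G χ → ∀ g ∈ derivedSeries G 3, χ g = χ 1 := by
  classical
  have hlin : ∀ χ : G → ℂ, Cfsg.IsIrrCharacter G χ → χ 1 = 1 →
      ∀ g ∈ derivedSeries G 1, χ g = χ 1 := by
    intro χ hχ hd1 g hg1
    obtain ⟨μ, hμ⟩ := exists_hom_of_irr_degree_one hχ hd1
    rw [derivedSeries_one] at hg1
    have hker : g ∈ μ.ker := Abelianization.commutator_subset_ker μ hg1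
    rw [hμ]
    show ((μ g : ℂˣ) : ℂ) = ((μ 1 : ℂˣ) : ℂ)
    rw [MonoidHom.mem_ker.mp hker, map_one]
  have hcases : ∀ ψ : G → ℂ, Cfsg.IsIrrCharacter G ψ → ∀ e : ℕ, ψ 1 = e → e = 1 ∨ e = m ∨ e = n := by
    intro ψ hψ e he
    rcases hcd ψ hψ with h | h | h
    · left
      rw [he] at h
      exact_mod_cast h
    · right; left
      rw [he] at h
      exact_mod_cast h
    · right; right
      rw [he] at h
      exact_mod_cast h
  have hzero : ∀ ψ : G → ℂ, Cfsg.IsIrrCharacter G ψ → ψ 1 ≠ ((0 : ℕ) : ℂ) := by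
    intro ψ hψ h
    rw [Nat.cast_zero] at h
    exact Cfsg.Agent.Helper6.IsIrrCharacter.apply_one_ne_zero hψ h
  have h12 : derivedSeries G 2 ≤ derivedSeries G 1 := derivedSeries_antitone G (by norm_num)
  have h23 : derivedSeries G 3 ≤ derivedSeries G 2 := derivedSeries_antitone G (by norm_num)
  have hm' : ∀ χ : G → ℂ, Cfsg.IsIrrCharacter G χ → χ 1 = (m : ℂ) →
      ∀ g ∈ derivedSeries G 2, χ g = χ 1 := by
    intro χ hχ hχm
    by_cases h1 : 1 < m
    · apply taketa_step 1 m h1 _ χ hχm (hM χ hχ)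
      intro ψ hψ e he hlt
      apply hlin ψ hψ
      rcases hcases ψ hψ e he with h | h | h
      · rw [he, h, Nat.cast_one]
      · omega
      · omega
    · have hm01 : m = 0 ∨ m = 1 := by omega
      rcases hm01 with h | h
      · exfalso
        rw [h] at hχm
        exact hzero χ hχ hχm
      · intro g hg
        apply hlin χ hχ _ g (h12 hg)
        rw [hχm, h, Nat.cast_one]
  have hn' : ∀ χ : G → ℂ, Cfsg.IsIrrCharacter G χ → χ 1 = (n : ℂ) →
      ∀ g ∈ derivedSeries G 3, χ g = χ 1 := by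
    intro χ hχ hχn
    by_cases h1 : 1 < n
    · apply taketa_step 2 n h1 _ χ hχn (hM χ hχ)
      intro ψ hψ e he hlt g hg
      rcases hcases ψ hψ e he with h | h | h
      · apply hlin ψ hψ _ g (h12 hg)
        rw [he, h, Nat.cast_one]
      · apply hm' ψ hψ _ g hg
        rw [he, h]
      · omega
    · have hn01 : n = 0 ∨ n = 1 := by omega
      rcases hn01 with h | h
      · exfalso
        rw [h] at hχn
        exact hzero χ hχ hχn
      · intro g hg
        apply hlin χ hχ _ g (h12 (h23 hg))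
        rw [hχn, h, Nat.cast_one]
  intro χ hχ g hg
  rcases hcd χ hχ with h | h | h
  · exact hlin χ hχ h g (h12 (h23 hg))
  · exact hm' χ hχ h g (h23 hg)
  · exact hn' χ hχ h g hg

/-- An M-group with at most three character degrees has derived length at most three. -/
theorem derived_three_of_monomial [Fintype G]
    (hM : ∀ χ : G → ℂ, Cfsg.IsIrrCharacter G χ → ∃ (H : Subgroup G) (lam : H →* ℂˣ),
      χ = Cfsg.indFun H (fun h => (lam h : ℂ)))
    (m n : ℕ)
    (hcd : ∀ χ : G → ℂ, Cfsg.IsIrrCharacter G χ → χ 1 = 1 ∨ χ 1 = (m : ℂ) ∨ χ 1 = (n : ℂ)) :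
    derivedSeries G 3 = ⊥ := by
  have hker : ∀ χ : G → ℂ, Cfsg.IsIrrCharacter G χ → ∀ g ∈ derivedSeries G 3, χ g = χ 1 := by
    rcases le_total m n with h | h
    · exact taketa_three hM m n h hcd
    · apply taketa_three hM n m h
      intro χ hχ
      rcases hcd χ hχ with h1 | h1 | h1
      · exact Or.inl h1
      · exact Or.inr (Or.inr h1)
      · exact Or.inr (Or.inl h1)
  rw [eq_bot_iff]
  intro g hg
  rw [Subgroup.mem_bot]
  by_contra hg1
  obtain ⟨n', ρ, hirr, hρg⟩ := exists_irr_rep_ne_one g hg1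
  apply hρg
  have hχ : Cfsg.IsIrrCharacter G ρ.character := ⟨n', ρ, hirr, rfl⟩
  have h1 := hker ρ.character hχ g hg
  rw [char_one] at h1
  exact (char_eq_finrank_iff ρ g).mp h1

end Cfsg.Agent.Helper6.Cd3
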