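import Mathlib

/-!
# Three character degrees: group-theoretic glue
-/

set_option autoImplicit false
set_option linter.style.haveILetI false

namespace Cfsg.Agent.Helper6.Cd3

open scoped commutatorElement

/-- Uniqueness of the part of `g` prime to `c`. -/
theorem coprime_part_unique (c g e₁ u₁ e₂ u₂ : ℕ) (h1 : g = e₁ * u₁) (h2 : g = e₂ * u₂)
    (hc1 : e₁.Coprime c) (hc2 : e₂.Coprime c) (hu1 : ∀ q : ℕ, q.Prime → q ∣ u₁ → q ∣ c)
    (hu2 : ∀ q : ℕ, q.Prime → q ∣ u₂ → q ∣ c) : e₁ = e₂ := by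
  have key : ∀ e u e' u' : ℕ, e * u = e' * u' → e.Coprime c →
      (∀ q : ℕ, q.Prime → q ∣ u' → q ∣ c) → e ∣ e' := by
    intro e u e' u' h hc hu
    have hcop : e.Coprime u' := by
      apply Nat.coprime_of_dvd
      intro q hq hqe hqu
      have hqc := hu q hq hqu
      have h3 : q ∣ Nat.gcd e c := Nat.dvd_gcd hqe hqc
      rw [hc.gcd_eq_one] at h3
      exact hq.one_lt.ne' (Nat.dvd_one.mp h3)
    apply hcop.dvd_of_dvd_mul_right
    rw [← h]
    exact dvd_mul_right _ _
  exact Nat.dvd_antisymm (key e₁ u₁ e₂ u₂ (h1.symm.trans h2) hc1 hu2)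
    (key e₂ u₂ e₁ u₁ (h2.symm.trans h1) hc2 hu1)

variable {G : Type*} [Group G]

/-- If the commutator subgroup of `↥H` is abelian then `⁅⁅H,H⁆,⁅H,H⁆⁆ = ⊥`. -/
theorem commutator_commutator_eq_bot (H : Subgroup G)
    (h : ∀ a ∈ commutator H, ∀ b ∈ commutator H, a * b = b * a) :
    ⁅⁅H, H⁆, ⁅H, H⁆⁆ = ⊥ := by
  rw [eq_bot_iff, Subgroup.commutator_le]
  intro a ha b hb
  rw [← Subgroup.map_subtype_commutator] at ha hb
  obtain ⟨a', ha', rfl⟩ := ha
  obtain ⟨b', hb', rfl⟩ := hb
  rw [Subgroup.mem_bot, commutatorElement_def]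
  have h1 := h a' ha' b' hb'
  have h2 : (H.subtype a') * (H.subtype b') = (H.subtype b') * (H.subtype a') := by
    rw [← map_mul, ← map_mul, h1]
  rw [h2]
  group

/-- If the commutator subgroup is abelian, the second derived subgroup is trivial. -/
theorem derived_two_eq_bot_of_comm
    (h : ∀ a ∈ commutator G, ∀ b ∈ commutator G, a * b = b * a) : derivedSeries G 2 = ⊥ := by
  have h2 : derivedSeries G 2 = ⁅derivedSeries G 1, derivedSeries G 1⁆ := derivedSeries_succ G 1
  rw [h2, derivedSeries_one, eq_bot_iff, Subgroup.commutator_le]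
  intro a ha b hb
  rw [Subgroup.mem_bot, commutatorElement_def, h a ha b hb]
  group

theorem derived_three_of_le (N0 : Subgroup G) (h1 : commutator G ≤ N0)
    (h2 : ∀ a ∈ commutator N0, ∀ b ∈ commutator N0, a * b = b * a) : derivedSeries G 3 = ⊥ := by
  have hD1 : derivedSeries G 1 ≤ N0 := by
    rw [derivedSeries_one]
    exact h1
  have hD2 : derivedSeries G 2 ≤ ⁅N0, N0⁆ := by
    have : derivedSeries G 2 = ⁅derivedSeries G 1, derivedSeries G 1⁆ := derivedSeries_succ G 1
    rw [this]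
    exact Subgroup.commutator_mono hD1 hD1
  have hD3 : derivedSeries G 3 ≤ ⁅⁅N0, N0⁆, ⁅N0, N0⁆⁆ := by
    have : derivedSeries G 3 = ⁅derivedSeries G 2, derivedSeries G 2⁆ := derivedSeries_succ G 2
    rw [this]
    exact Subgroup.commutator_mono hD2 hD2
  rw [commutator_commutator_eq_bot N0 h2] at hD3
  exact eq_bot_iff.mpr hD3

theorem derived_three_of_quotient (H : Subgroup G) [H.Normal]
    (h1 : ∀ a ∈ commutator H, ∀ b ∈ commutator H, a * b = b * a)
    (h2 : ∀ a ∈ commutator (G ⧸ ⁅H, H⁆), ∀ b ∈ commutator (G ⧸ ⁅H, H⁆), a * b = b * a) :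
    derivedSeries G 3 = ⊥ := by
  have hQ : derivedSeries (G ⧸ ⁅H, H⁆) 2 = ⊥ := derived_two_eq_bot_of_comm h2
  have hD2 : derivedSeries G 2 ≤ ⁅H, H⁆ := by
    have h3 := map_derivedSeries_le_derivedSeries (QuotientGroup.mk' ⁅H, H⁆) 2
    rw [hQ] at h3
    intro x hx
    have h4 : (QuotientGroup.mk' ⁅H, H⁆) x ∈ (⊥ : Subgroup (G ⧸ ⁅H, H⁆)) :=
      h3 (Subgroup.mem_map_of_mem _ hx)
    rw [Subgroup.mem_bot] at h4
    exact (QuotientGroup.eq_one_iff x).mp h4
  have hD3 : derivedSeries G 3 ≤ ⁅⁅H, H⁆, ⁅H, H⁆⁆ := by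
    have : derivedSeries G 3 = ⁅derivedSeries G 2, derivedSeries G 2⁆ := derivedSeries_succ G 2
    rw [this]
    exact Subgroup.commutator_mono hD2 hD2
  rw [commutator_commutator_eq_bot H h1] at hD3
  exact eq_bot_iff.mpr hD3

theorem solvable_of_commutator_le (N : Subgroup G) [N.Normal]
    (h1 : commutator G ≤ N) (h2 : Group.IsSolvable N) : Group.IsSolvable G := by
  rw [Group.isSolvable_iff_subgroup_quotient N]
  refine ⟨h2, ?_⟩
  apply Group.isSolvable_of_comm
  intro a b
  induction a using QuotientGroup.induction_on with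
  | H a =>
    induction b using QuotientGroup.induction_on with
    | H b =>
      rw [← QuotientGroup.mk_mul, ← QuotientGroup.mk_mul, QuotientGroup.eq]
      apply h1
      rw [commutator_def]
      have h3 : (a * b)⁻¹ * (b * a) = ⁅b⁻¹, a⁻¹⁆ := by
        rw [commutatorElement_def]
        group
      rw [h3]
      exact Subgroup.commutator_mem_commutator (Subgroup.mem_top _) (Subgroup.mem_top _)

theorem solvable_of_index_prime_pow [Finite G] (H : Subgroup G) [H.Normal]
    (p k : ℕ) (hp : p.Prime) (hidx : H.index = p ^ k) (h2 : Group.IsSolvable H) :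
    Group.IsSolvable G := by
  rw [Group.isSolvable_iff_subgroup_quotient H]
  refine ⟨h2, ?_⟩
  haveI : Fact p.Prime := ⟨hp⟩
  have h1 : IsPGroup p (G ⧸ H) := IsPGroup.of_card (n := k) (by rw [← hidx]; rfl)
  haveI := h1.isNilpotent
  infer_instance

end Cfsg.Agent.Helper6.Cd3
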