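import Mathlib
import Cfsg.Prelude.Def_Characters
import Cfsg.Agent.S4456
import Cfsg.Agent.Helper6.Cd3D
import Cfsg.Agent.Helper6.Cd3Glue
import Cfsg.Agent.Helper6.Cd3C
import Cfsg.Agent.Helper6.PResidualChars
import Cfsg.Agent.Helper6.Gallagher
import Cfsg.Agent.Helper6.BlockPart
import Cfsg.Agent.Helper6.Ito
import Cfsg.Agent.Helper6.TwoDegB
import Cfsg.Agent.Helper6.Inflation

/-!
# Three character degrees: a nonabelian `p`-group quotient
-/

set_option autoImplicit false
set_option linter.style.haveILetI false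

namespace Cfsg.Agent.Helper6.Cd3

open Module Representation
open scoped commutatorElement

universe u

variable {G : Type u} [Group G]

/-- Two factorizations `e * p ^ j` with `e` prime to `p` have the same `e`. -/
theorem coprime_part_prime_unique {p e₁ j₁ e₂ j₂ : ℕ} (hp : p.Prime)
    (h : e₁ * p ^ j₁ = e₂ * p ^ j₂) (h1 : e₁.Coprime p) (h2 : e₂.Coprime p) : e₁ = e₂ := by
  apply Nat.dvd_antisymm
  · apply (Nat.Coprime.pow_right j₂ h1).dvd_of_dvd_mul_right
    rw [← h]
    exact dvd_mul_right _ _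
  · apply (Nat.Coprime.pow_right j₁ h2).dvd_of_dvd_mul_right
    rw [h]
    exact dvd_mul_right _ _

/-- If `G/K` is a nonabelian `p`-group and the degrees of `G` lie in `{1, m, n}`, then one of
`m, n` is a nontrivial power of `p` and `p` divides every nonlinear degree. -/
theorem p_dvd_of_pgroup_quotient [Fintype G] (p : ℕ) [hp : Fact p.Prime] (K : Subgroup G)
    [hK : K.Normal] (hidx : ∃ k : ℕ, K.index = p ^ k) (hna : ¬ commutator G ≤ K) (m n : ℕ)
    (hcd : ∀ χ : G → ℂ, Cfsg.IsIrrCharacter G χ → χ 1 = 1 ∨ χ 1 = (m : ℂ) ∨ χ 1 = (n : ℂ)) :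
    (∃ a : ℕ, a ≠ 0 ∧ (m = p ^ a ∨ n = p ^ a)) ∧
      ∀ χ : G → ℂ, Cfsg.IsIrrCharacter G χ → ∀ d : ℕ, χ 1 = d → d ≠ 1 → p ∣ d := by
  classical
  obtain ⟨k, hk⟩ := hidx
  -- a nonlinear irreducible character of `G/K`
  have hnab : ¬ ∀ a b : G ⧸ K, a * b = b * a := by
    intro hab
    apply hna
    rw [commutator_def, Subgroup.commutator_le]
    intro a _ b _
    have h1 := hab (QuotientGroup.mk a) (QuotientGroup.mk b)
    rw [commutatorElement_def, ← QuotientGroup.eq_one_iff]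
    simp only [QuotientGroup.mk_mul, QuotientGroup.mk_inv]
    rw [h1]
    group
  rw [comm_iff_forall_irr_degree_one] at hnab
  push Not at hnab
  obtain ⟨β', hβ'1⟩ := hnab
  obtain ⟨b, hb, hbdvd, hbpos⟩ := IsIrrCharacter.degree_dvd_card β'.2
  have hcardQ : Nat.card (G ⧸ K) = p ^ k := by
    rw [← hk]
    rfl
  rw [hcardQ] at hbdvd
  obtain ⟨a, -, hab⟩ := (Nat.dvd_prime_pow hp.out).mp hbdvd
  have ha0 : a ≠ 0 := by
    intro h0
    apply hβ'1
    rw [hb, hab, h0, pow_zero, Nat.cast_one]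
  have hβ : Cfsg.IsIrrCharacter G ((β' : G ⧸ K → ℂ) ∘ QuotientGroup.mk) :=
    isIrrCharacter_inflate K β'
  have hβ1 : ((β' : G ⧸ K → ℂ) ∘ QuotientGroup.mk) 1 = ((p ^ a : ℕ) : ℂ) := by
    rw [Function.comp_apply, QuotientGroup.mk_one, hb, hab]
  have hβK : ∀ z ∈ K, ((β' : G ⧸ K → ℂ) ∘ QuotientGroup.mk) z =
      ((β' : G ⧸ K → ℂ) ∘ QuotientGroup.mk) 1 := by
    intro z hz
    rw [Function.comp_apply, Function.comp_apply, (QuotientGroup.eq_one_iff z).mpr hz,
      QuotientGroup.mk_one]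
  have hP1 : p ^ a ≠ 1 := by
    intro h
    have := Nat.pow_eq_one.mp h
    rcases this with h1 | h1
    · exact hp.out.one_lt.ne' h1
    · exact ha0 h1
  have hPmn : m = p ^ a ∨ n = p ^ a := by
    rcases hcd _ hβ with h | h | h
    · exfalso
      rw [hβ1] at h
      apply hP1
      exact_mod_cast h
    · left
      rw [hβ1] at h
      exact_mod_cast h.symm
    · right
      rw [hβ1] at h
      exact_mod_cast h.symm
  refine ⟨⟨a, ha0, hPmn⟩, ?_⟩
  intro χ hχ d hd hd1
  by_contra hpd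
  have hcharDeg : Cfsg.charDegree χ = d := by
    have h1 := charDegree_cast_of_isCharacter (IsIrrCharacter.isCharacter hχ)
    rw [hd] at h1
    exact_mod_cast h1
  have hres := restrict_isIrr_of_pgroup_quotient p K ⟨k, hk⟩ χ hχ (by rw [hcharDeg]; exact hpd)
  have hprod := gallagher_irr K hχ hres ⟨_, hβ⟩ hβK
  have hprod1 : ((((⟨_, hβ⟩ : Cfsg.IrrCharacter G) : G → ℂ)) * χ) 1 = ((p ^ a * d : ℕ) : ℂ) := by
    rw [Pi.mul_apply, hd]
    show ((β' : G ⧸ K → ℂ) ∘ QuotientGroup.mk) 1 * (d : ℂ) = _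
    rw [hβ1]
    push_cast
    rfl
  have hd0 : d ≠ 0 := by
    intro h0
    rw [h0, Nat.cast_zero] at hd
    exact Cfsg.Agent.Helper6.IsIrrCharacter.apply_one_ne_zero hχ hd
  have hdmn : d = m ∨ d = n := by
    rcases hcd χ hχ with h | h | h
    · exfalso
      rw [hd] at h
      apply hd1
      exact_mod_cast h
    · left
      rw [hd] at h
      exact_mod_cast h
    · right
      rw [hd] at h
      exact_mod_cast h
  have hP0 : p ^ a ≠ 0 := pow_ne_zero _ hp.out.ne_zero
  have hdP : d ≠ p ^ a := by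
    intro h
    apply hpd
    rw [h]
    exact dvd_pow_self p ha0
  have hq1 : p ^ a * d ≠ p ^ a := by
    intro h
    have h2 : p ^ a * d = p ^ a * 1 := by rw [h, mul_one]
    exact hd1 (Nat.eq_of_mul_eq_mul_left (Nat.pos_of_ne_zero hP0) h2)
  have hq2 : p ^ a * d ≠ d := by
    intro h
    have h2 : p ^ a * d = 1 * d := by rw [h, one_mul]
    exact hP1 (Nat.eq_of_mul_eq_mul_right (Nat.pos_of_ne_zero hd0) h2)
  have hq3 : p ^ a * d ≠ 1 := by
    intro h
    exact hP1 (Nat.eq_one_of_mul_eq_one_right h)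
  have hqmn : p ^ a * d = m ∨ p ^ a * d = n := by
    rcases hcd _ hprod with h | h | h
    · exfalso
      rw [hprod1] at h
      apply hq3
      exact_mod_cast h
    · left
      rw [hprod1] at h
      exact_mod_cast h
    · right
      rw [hprod1] at h
      exact_mod_cast h
  generalize p ^ a * d = q at hq1 hq2 hqmn
  generalize p ^ a = P at hdP hPmn hq1
  omega

/-- Degree data for an irreducible character of a normal `p`-complement. -/
theorem degree_of_compl [Fintype G] (p : ℕ) (hp : p.Prime) (H : Subgroup G) [hH : H.Normal]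
    (hcop : (Nat.card H).Coprime p) (k' : ℕ) (hidx : H.index = p ^ k') (θ : H → ℂ)
    (hθ : Cfsg.IsIrrCharacter H θ) :
    ∃ (χ : G → ℂ) (d e j : ℕ), Cfsg.IsIrrCharacter G χ ∧ χ 1 = d ∧ θ 1 = e ∧ d = e * p ^ j ∧
      e.Coprime p ∧ e ≠ 0 := by
  classical
  haveI : Fintype H := Fintype.ofFinite _
  obtain ⟨χ, hne⟩ := exists_irr_over H ⟨θ, hθ⟩
  obtain ⟨e, he, hedvd, hepos⟩ := IsIrrCharacter.degree_dvd_card hθ
  obtain ⟨d, hd⟩ := IsCharacter.apply_one (IsIrrCharacter.isCharacter χ.2)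
  obtain ⟨h1, h2⟩ := degree_ratio_dvd_index H (χ : G → ℂ) χ.2 θ hθ hne d e hd he
  rw [hidx] at h2
  obtain ⟨j, -, hj⟩ := (Nat.dvd_prime_pow hp).mp h2
  refine ⟨χ, d, e, j, χ.2, hd, he, ?_, Nat.Coprime.coprime_dvd_left hedvd hcop, hepos.ne'⟩
  rw [← hj]
  exact (Nat.mul_div_cancel' h1).symm

/-- **Case A**: if `G` has a nonabelian `p`-group quotient and at most three character degrees,
then its third derived subgroup is trivial. -/
theorem caseA [Fintype G] (p : ℕ) [hp : Fact p.Prime] (K : Subgroup G) [hK : K.Normal]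
    (hidx : ∃ k : ℕ, K.index = p ^ k) (hna : ¬ commutator G ≤ K) (m n : ℕ)
    (hcd : ∀ χ : G → ℂ, Cfsg.IsIrrCharacter G χ → χ 1 = 1 ∨ χ 1 = (m : ℂ) ∨ χ 1 = (n : ℂ)) :
    derivedSeries G 3 = ⊥ := by
  classical
  obtain ⟨⟨a, ha0, hmn⟩, hpdvd⟩ := p_dvd_of_pgroup_quotient p K hidx hna m n hcd
  have hdeg : ∀ χ : Cfsg.IrrCharacter G, Cfsg.charDegree (χ : G → ℂ) ≠ 1 →
      p ∣ Cfsg.charDegree (χ : G → ℂ) := by
    intro χ hne
    have h1 := charDegree_cast_of_isCharacter (IsIrrCharacter.isCharacter χ.2)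
    exact hpdvd χ χ.2 _ h1.symm hne
  obtain ⟨H, hHn, hHcop, k', hHidx⟩ := Cfsg.Agent.S4456.result p hp.out hdeg
  haveI := hHn
  haveI : Fintype H := Fintype.ofFinite _
  by_cases hlinH : ∀ θ : Cfsg.IrrCharacter H, (θ : H → ℂ) 1 = 1
  · have hHab : ∀ a ∈ H, ∀ b ∈ H, a * b = b * a := by
      have hcomm := (comm_iff_forall_irr_degree_one (G := H)).mpr hlinH
      intro a ha b hb
      exact congrArg Subtype.val (hcomm ⟨a, ha⟩ ⟨b, hb⟩)
    have hnil : Group.IsNilpotent (G ⧸ H) := by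
      have h1 : IsPGroup p (G ⧸ H) := IsPGroup.of_card (n := k') (by rw [← hHidx]; rfl)
      exact h1.isNilpotent
    exact derived_three_of_monomial (fun χ hχ => abnil_monomial H hHab hnil χ hχ) m n hcd
  · push Not at hlinH
    obtain ⟨θ₀, hθ₀⟩ := hlinH
    obtain ⟨χ₀, d₀, e₀, j₀, hχ₀, hd₀, he₀, hde₀, hcop₀, he₀0⟩ :=
      degree_of_compl p hp.out H hHcop k' hHidx θ₀ θ₀.2
    have he₀1 : e₀ ≠ 1 := by
      intro h
      apply hθ₀
      rw [he₀, h, Nat.cast_one]
    have hcop_one : ∀ e l : ℕ, e.Coprime p → e = p ^ l → e = 1 := by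
      intro e l hcop hl
      rcases Nat.eq_zero_or_pos l with h0 | hpos
      · rw [hl, h0, pow_zero]
      · exfalso
        have h2 : p ∣ e := by rw [hl]; exact dvd_pow_self p hpos.ne'
        have h3 := Nat.Coprime.eq_one_of_dvd hcop.symm h2
        exact hp.out.one_lt.ne' h3
    have hnotpow : ∀ i : ℕ, d₀ ≠ p ^ i := by
      intro i h
      have h1 : e₀ ∣ p ^ i := by
        rw [← h, hde₀]
        exact dvd_mul_right _ _
      obtain ⟨l, -, hl⟩ := (Nat.dvd_prime_pow hp.out).mp h1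
      exact he₀1 (hcop_one e₀ l hcop₀ hl)
    have hd₀mn : d₀ = m ∨ d₀ = n := by
      rcases hcd χ₀ hχ₀ with h | h | h
      · exfalso
        rw [hd₀] at h
        have h1 : d₀ = 1 := by exact_mod_cast h
        exact hnotpow 0 (by rw [h1, pow_zero])
      · left
        rw [hd₀] at h
        exact_mod_cast h
      · right
        rw [hd₀] at h
        exact_mod_cast h
    have hcd' : ∀ χ : G → ℂ, Cfsg.IsIrrCharacter G χ →
        χ 1 = 1 ∨ χ 1 = ((p ^ a : ℕ) : ℂ) ∨ χ 1 = (d₀ : ℂ) := by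
      intro χ hχ
      rcases hmn with h | h <;> rcases hd₀mn with h' | h'
      · exact absurd (h'.trans h) (hnotpow a)
      · rw [← h, h']
        exact hcd χ hχ
      · rw [← h, h']
        rcases hcd χ hχ with h1 | h1 | h1
        · exact Or.inl h1
        · exact Or.inr (Or.inr h1)
        · exact Or.inr (Or.inl h1)
      · exact absurd (h'.trans h) (hnotpow a)
    have hHcd : ∀ θ : Cfsg.IrrCharacter H, Cfsg.charDegree (θ : H → ℂ) = 1 ∨
        Cfsg.charDegree (θ : H → ℂ) = e₀ := by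
      intro θ
      obtain ⟨χ, d, e, j, hχ, hd, he, hde, hcop, he0⟩ :=
        degree_of_compl p hp.out H hHcop k' hHidx θ θ.2
      have hcharDeg : Cfsg.charDegree (θ : H → ℂ) = e := by
        have h1 := charDegree_cast_of_isCharacter (IsIrrCharacter.isCharacter θ.2)
        rw [he] at h1
        exact_mod_cast h1
      rw [hcharDeg]
      rcases hcd' χ hχ with h | h | h
      · left
        rw [hd] at h
        have h1 : d = 1 := by exact_mod_cast h
        rw [h1] at hde
        exact Nat.eq_one_of_mul_eq_one_right hde.symm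
      · left
        rw [hd] at h
        have h1 : d = p ^ a := by exact_mod_cast h
        have h2 : e ∣ p ^ a := by
          rw [← h1, hde]
          exact dvd_mul_right _ _
        obtain ⟨l, -, hl⟩ := (Nat.dvd_prime_pow hp.out).mp h2
        exact hcop_one e l hcop hl
      · right
        rw [hd] at h
        have h1 : d = d₀ := by exact_mod_cast h
        apply coprime_part_prime_unique hp.out _ hcop hcop₀ (j₁ := j) (j₂ := j₀)
        rw [← hde, ← hde₀, h1]
    have hH2 := two_degree_metabelian (G := H) e₀ he₀0 hHcd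
    have hQ : ∀ χ' : Cfsg.IrrCharacter (G ⧸ ⁅H, H⁆),
        Cfsg.charDegree (χ' : G ⧸ ⁅H, H⁆ → ℂ) = 1 ∨
          Cfsg.charDegree (χ' : G ⧸ ⁅H, H⁆ → ℂ) = p ^ a := by
      intro χ'
      obtain ⟨n₁, ρ, hirr, hρ⟩ := id χ'.2
      haveI := hirr
      haveI : (H.map (QuotientGroup.mk' ⁅H, H⁆)).Normal :=
        Subgroup.Normal.map hHn _ (QuotientGroup.mk'_surjective _)
      have hAab : ∀ x ∈ H.map (QuotientGroup.mk' ⁅H, H⁆),
          ∀ y ∈ H.map (QuotientGroup.mk' ⁅H, H⁆), x * y = y * x := by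
        rintro _ ⟨a, ha, rfl⟩ _ ⟨b, hb, rfl⟩
        simp only [QuotientGroup.mk'_apply]
        rw [← QuotientGroup.mk_mul, ← QuotientGroup.mk_mul, QuotientGroup.eq]
        have h1 : (a * b)⁻¹ * (b * a) = ⁅b⁻¹, a⁻¹⁆ := by
          rw [commutatorElement_def]
          group
        rw [h1]
        exact Subgroup.commutator_mem_commutator (H.inv_mem hb) (H.inv_mem ha)
      have hAidx : (H.map (QuotientGroup.mk' ⁅H, H⁆)).index = p ^ k' := by
        rw [Subgroup.index_map_eq _ (QuotientGroup.mk'_surjective _)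
          (by rw [QuotientGroup.ker_mk']; exact Subgroup.commutator_le_left H H), hHidx]
      have hito := ito ρ (H.map (QuotientGroup.mk' ⁅H, H⁆)) hAab
      rw [hAidx, Module.finrank_fin_fun] at hito
      obtain ⟨i, -, hi⟩ := (Nat.dvd_prime_pow hp.out).mp hito
      have hχ'1 : (χ' : G ⧸ ⁅H, H⁆ → ℂ) 1 = ((p ^ i : ℕ) : ℂ) := by
        rw [← hρ, Representation.char_one, Module.finrank_fin_fun, hi]
      have hinf := isIrrCharacter_inflate ⁅H, H⁆ χ'
      have hinf1 : ((χ' : G ⧸ ⁅H, H⁆ → ℂ) ∘ QuotientGroup.mk) 1 = ((p ^ i : ℕ) : ℂ) := by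
        rw [Function.comp_apply, QuotientGroup.mk_one, hχ'1]
      have hcharDeg : Cfsg.charDegree (χ' : G ⧸ ⁅H, H⁆ → ℂ) = p ^ i := by
        have h1 := charDegree_cast_of_isCharacter (IsIrrCharacter.isCharacter χ'.2)
        rw [hχ'1] at h1
        exact_mod_cast h1
      rw [hcharDeg]
      rcases hcd' _ hinf with h | h | h
      · left
        rw [hinf1] at h
        exact_mod_cast h
      · right
        rw [hinf1] at h
        exact_mod_cast h
      · exfalso
        rw [hinf1] at h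
        have h1 : p ^ i = d₀ := by exact_mod_cast h
        exact hnotpow i h1.symm
    have hQ2 := two_degree_metabelian (G := G ⧸ ⁅H, H⁆) (p ^ a)
      (pow_ne_zero _ hp.out.ne_zero) hQ
    exact derived_three_of_quotient H hH2 hQ2

end Cfsg.Agent.Helper6.Cd3
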