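import Mathlib
import Cfsg.Prelude.Def_Characters
import Cfsg.Agent.Helper1.Isaacs123
import Cfsg.Agent.Helper8.Cd3Grp
import Cfsg.Agent.Helper6.Cd3E
import Cfsg.Agent.Helper6.NilpPrincipal

/-!
# Three character degrees: solvability
-/

set_option autoImplicit false
set_option linter.style.haveILetI false

namespace Cfsg.Agent.Helper6.Cd3

open Module Representation
open scoped commutatorElement

universe u

variable {G : Type u} [Group G]

/-- Two character degrees: the commutator subgroup is abelian (function form). -/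
theorem two_deg_comm [Finite G] (d : ℕ)
    (hcd : ∀ χ : G → ℂ, Cfsg.IsIrrCharacter G χ → χ 1 = 1 ∨ χ 1 = (d : ℂ)) :
    ∀ a ∈ commutator G, ∀ b ∈ commutator G, a * b = b * a := by
  have key : ∀ χ : Cfsg.IrrCharacter G, Cfsg.charDegree (χ : G → ℂ) = 1 ∨
      Cfsg.charDegree (χ : G → ℂ) = d := by
    intro χ
    have h1 := charDegree_cast_of_isCharacter (IsIrrCharacter.isCharacter χ.2)
    rcases hcd χ χ.2 with h | h
    · left
      rw [h] at h1
      exact_mod_cast h1
    · right
      rw [h] at h1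
      exact_mod_cast h1
  by_cases hd0 : d = 0
  · apply two_degree_metabelian 1 one_ne_zero
    intro χ
    rcases key χ with h | h
    · exact Or.inl h
    · exfalso
      rw [hd0] at h
      exact charDegree_ne_zero_of_irr χ.2 h
  · exact two_degree_metabelian d hd0 key

/-- Two character degrees: the second derived subgroup is trivial. -/
theorem derived_two_of_two_deg [Finite G] (d : ℕ)
    (hcd : ∀ χ : G → ℂ, Cfsg.IsIrrCharacter G χ → χ 1 = 1 ∨ χ 1 = (d : ℂ)) :
    derivedSeries G 2 = ⊥ := by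
  have h := two_deg_comm d hcd
  have h2 : derivedSeries G 2 = ⁅derivedSeries G 1, derivedSeries G 1⁆ := derivedSeries_succ G 1
  rw [h2, derivedSeries_one, eq_bot_iff, Subgroup.commutator_le]
  intro a ha b hb
  rw [Subgroup.mem_bot, commutatorElement_def, h a ha b hb]
  group

/-- The setting of the Frobenius-type alternative of Isaacs' Lemma 12.3: the degrees of `N`. -/
theorem frob_lemma [Fintype G] (K N : Subgroup G) [hK : K.Normal] [hN : N.Normal] (hKN : K ≤ N)
    (hGN : commutator G ≤ N)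
    (hab : ∀ a ∈ N, ∀ b ∈ N, a * b * a⁻¹ * b⁻¹ ∈ K) (hlt : K.relIndex N ≠ 1) (hNtop : N ≠ ⊤)
    (hcop : (K.relIndex N).Coprime N.index)
    (hfpf : ∀ x : G, x ∉ N → ∀ y ∈ N, x * y * x⁻¹ * y⁻¹ ∈ K → y ∈ K) (m n : ℕ)
    (hcd : ∀ χ : G → ℂ, Cfsg.IsIrrCharacter G χ → χ 1 = 1 ∨ χ 1 = (m : ℂ) ∨ χ 1 = (n : ℂ)) :
    ∃ f g : ℕ, N.index = f ∧ 1 < f ∧ ((f = m ∧ g = n) ∨ (f = n ∧ g = m)) ∧
      ∀ ψ : N → ℂ, Cfsg.IsIrrCharacter N ψ → ∀ d : ℕ, ψ 1 = d → d ≠ 1 →
        ∃ t : ℕ, t ∣ f ∧ t ∣ g ∧ d * t = g := by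
  classical
  have hGN' : ∀ x y : G, x * y * x⁻¹ * y⁻¹ ∈ N := by
    intro x y
    apply hGN
    rw [commutator_def]
    have := Subgroup.commutator_mem_commutator (Subgroup.mem_top x) (Subgroup.mem_top y)
    rwa [commutatorElement_def] at this
  have hdual : ∀ x : G, x ∉ N → ∀ μ : N →* ℂˣ, μ ∈ trivOn N K → conjHom N μ x = μ → μ = 1 := by
    intro x hx μ hμ hfix
    ext y
    have h1 := Cfsg.Agent.Helper8.Cd3Grp.hom_eq_one_of_fpf K N hKN hab x (hfpf x hx) μ hμ (by
      intro y hy
      have h2 := congrArg (fun ν : N →* ℂˣ => ν y) hfix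
      simp only [conjHom_apply] at h2
      exact h2) y
    rw [h1]
    rfl
  have hf1 : 1 < N.index := by
    have h0 : N.index ≠ 0 := Subgroup.index_ne_zero_of_finite
    have h1 : N.index ≠ 1 := fun h => hNtop (Subgroup.index_eq_one.mp h)
    omega
  obtain ⟨χf, hχf, hχf1⟩ := exists_irr_degree_index N K hab hlt hdual
  have hmain : ∀ g : ℕ, (∀ χ : G → ℂ, Cfsg.IsIrrCharacter G χ →
      χ 1 = 1 ∨ χ 1 = (N.index : ℂ) ∨ χ 1 = (g : ℂ)) →
      ∀ ψ : N → ℂ, Cfsg.IsIrrCharacter N ψ → ∀ d : ℕ, ψ 1 = d → d ≠ 1 →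
        ∃ t : ℕ, t ∣ N.index ∧ t ∣ g ∧ d * t = g := by
    intro g hcdg ψ hψ d hd hd1
    exact lemmaF N K hGN' hab hlt hdual N.index g rfl hf1 hcop hcdg ψ hψ d hd hd1
  rcases hcd χf hχf with h | h | h
  · exfalso
    rw [hχf1] at h
    have : N.index = 1 := by exact_mod_cast h
    omega
  · rw [hχf1] at h
    have hfm : N.index = m := by exact_mod_cast h
    refine ⟨N.index, n, rfl, hf1, Or.inl ⟨hfm, rfl⟩, ?_⟩
    apply hmain n
    rw [hfm]
    exact hcd
  · rw [hχf1] at h
    have hfn : N.index = n := by exact_mod_cast h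
    refine ⟨N.index, m, rfl, hf1, Or.inr ⟨hfn, rfl⟩, ?_⟩
    apply hmain m
    rw [hfn]
    intro χ hχ
    rcases hcd χ hχ with h1 | h1 | h1
    · exact Or.inl h1
    · exact Or.inr (Or.inr h1)
    · exact Or.inr (Or.inl h1)

/-- Two character degrees: solvable. -/
theorem solvable_of_two_deg [Finite G] (d : ℕ)
    (hcd : ∀ χ : G → ℂ, Cfsg.IsIrrCharacter G χ → χ 1 = 1 ∨ χ 1 = (d : ℂ)) :
    Group.IsSolvable G :=
  ⟨⟨2, derived_two_of_two_deg d hcd⟩⟩

/-- If the degrees lie in `{1, m, n}` but in no two-element set `{1, d}`, then `m` and `n` both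
occur and `1, m, n` are distinct. -/
theorem exists_both_degrees
    (m n : ℕ)
    (hcd : ∀ χ : G → ℂ, Cfsg.IsIrrCharacter G χ → χ 1 = 1 ∨ χ 1 = (m : ℂ) ∨ χ 1 = (n : ℂ))
    (htwo : ¬ ∃ d : ℕ, ∀ χ : G → ℂ, Cfsg.IsIrrCharacter G χ → χ 1 = 1 ∨ χ 1 = (d : ℂ)) :
    (∃ χ₀ : G → ℂ, Cfsg.IsIrrCharacter G χ₀ ∧ χ₀ 1 = (m : ℂ)) ∧
    (∃ ψ₀ : G → ℂ, Cfsg.IsIrrCharacter G ψ₀ ∧ ψ₀ 1 = (n : ℂ)) ∧ m ≠ n ∧ m ≠ 1 ∧ n ≠ 1 ∧
      m ≠ 0 ∧ n ≠ 0 := by
  push Not at htwo
  obtain ⟨ψ₀, hψ₀, h1, h2⟩ := htwo m
  obtain ⟨χ₀, hχ₀, h3, h4⟩ := htwo n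
  have hψ₀n : ψ₀ 1 = (n : ℂ) := by
    rcases hcd ψ₀ hψ₀ with h | h | h
    · exact absurd h h1
    · exact absurd h h2
    · exact h
  have hχ₀m : χ₀ 1 = (m : ℂ) := by
    rcases hcd χ₀ hχ₀ with h | h | h
    · exact absurd h h3
    · exact h
    · exact absurd h h4
  refine ⟨⟨χ₀, hχ₀, hχ₀m⟩, ⟨ψ₀, hψ₀, hψ₀n⟩, ?_, ?_, ?_, ?_, ?_⟩
  · intro h
    apply h4
    rw [hχ₀m, h]
  · intro h
    apply h3
    rw [hχ₀m, h, Nat.cast_one]
  · intro h
    apply h1
    rw [hψ₀n, h, Nat.cast_one]
  · intro h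
    rw [h, Nat.cast_zero] at hχ₀m
    exact Cfsg.Agent.Helper6.IsIrrCharacter.apply_one_ne_zero hχ₀ hχ₀m
  · intro h
    rw [h, Nat.cast_zero] at hψ₀n
    exact Cfsg.Agent.Helper6.IsIrrCharacter.apply_one_ne_zero hψ₀ hψ₀n

/-- Inflation: the degrees of a quotient lie in the same set. -/
theorem hcd_quotient (K : Subgroup G) [hK : K.Normal] (m n : ℕ)
    (hcd : ∀ χ : G → ℂ, Cfsg.IsIrrCharacter G χ → χ 1 = 1 ∨ χ 1 = (m : ℂ) ∨ χ 1 = (n : ℂ)) :
    ∀ χ : G ⧸ K → ℂ, Cfsg.IsIrrCharacter (G ⧸ K) χ →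
      χ 1 = 1 ∨ χ 1 = (m : ℂ) ∨ χ 1 = (n : ℂ) := by
  intro χ hχ
  have h1 := hcd _ (isIrrCharacter_inflate K ⟨χ, hχ⟩)
  simpa using h1

/-- **Solvability**: a finite group whose character degrees lie in `{1, m, n}` is solvable. -/
theorem solvable_of_three_degrees : ∀ (k : ℕ) (G : Type u) [Group G] [Fintype G],
    Fintype.card G ≤ k → ∀ m n : ℕ,
    (∀ χ : G → ℂ, Cfsg.IsIrrCharacter G χ → χ 1 = 1 ∨ χ 1 = (m : ℂ) ∨ χ 1 = (n : ℂ)) →
    Group.IsSolvable G := by
  intro k
  induction k with
  | zero =>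
    intro G _ _ hcard
    exfalso
    have : 0 < Fintype.card G := Fintype.card_pos
    omega
  | succ k ih =>
    intro G _ _ hcard m n hcd
    classical
    by_cases htwo : ∃ d : ℕ, ∀ χ : G → ℂ, Cfsg.IsIrrCharacter G χ → χ 1 = 1 ∨ χ 1 = (d : ℂ)
    · obtain ⟨d, hd⟩ := htwo
      exact solvable_of_two_deg d hd
    obtain ⟨⟨χ₀, hχ₀, hχ₀m⟩, ⟨ψ₀, hψ₀, hψ₀n⟩, hmn, hm1, hn1, hm0, hn0⟩ :=
      exists_both_degrees m n hcd htwo
    have hcardG : Nat.card G = Fintype.card G := Nat.card_eq_fintype_card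
    by_cases hcp : ∃ p : ℕ, p.Prime ∧ p ∣ m ∧ p ∣ n
    · -- a common prime: normal `p`-complement
      obtain ⟨p, hp, hpm, hpn⟩ := hcp
      have hdeg : ∀ χ : Cfsg.IrrCharacter G, Cfsg.charDegree (χ : G → ℂ) ≠ 1 →
          p ∣ Cfsg.charDegree (χ : G → ℂ) := by
        intro χ hne
        have h1 := charDegree_cast_of_isCharacter (IsIrrCharacter.isCharacter χ.2)
        rcases hcd χ χ.2 with h | h | h
        · exfalso
          apply hne
          rw [h] at h1
          exact_mod_cast h1
        · rw [h] at h1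
          have h2 : Cfsg.charDegree (χ : G → ℂ) = m := by exact_mod_cast h1
          rw [h2]
          exact hpm
        · rw [h] at h1
          have h2 : Cfsg.charDegree (χ : G → ℂ) = n := by exact_mod_cast h1
          rw [h2]
          exact hpn
      obtain ⟨H, hHn, hHcop, k', hHidx⟩ := Cfsg.Agent.S4456.result p hp hdeg
      haveI := hHn
      haveI : Fintype H := Fintype.ofFinite _
      have hpG : p ∣ Nat.card G := by
        obtain ⟨d, hd, hddvd, -⟩ := IsIrrCharacter.degree_dvd_card hχ₀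
        rw [hχ₀m] at hd
        have : m = d := by exact_mod_cast hd
        rw [← this] at hddvd
        exact hpm.trans hddvd
      have hk'0 : k' ≠ 0 := by
        intro h0
        rw [h0, pow_zero] at hHidx
        have h1 := H.card_mul_index
        rw [hHidx, mul_one] at h1
        rw [← h1] at hpG
        have h3 := Nat.Coprime.eq_one_of_dvd hHcop.symm hpG
        exact hp.one_lt.ne' h3
      have hcardH : Fintype.card H ≤ k := by
        have h1 := H.card_mul_index
        rw [hHidx] at h1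
        have h2 : 2 ≤ p ^ k' := by
          calc 2 ≤ p := hp.two_le
            _ = p ^ 1 := (pow_one p).symm
            _ ≤ p ^ k' := Nat.pow_le_pow_right hp.pos (Nat.one_le_iff_ne_zero.mpr hk'0)
        have h3 : 0 < Nat.card H := Nat.card_pos
        have h4 : Nat.card H * 2 ≤ Nat.card G := by
          rw [← h1]
          exact Nat.mul_le_mul_left _ h2
        rw [hcardG, Nat.card_eq_fintype_card] at h4
        rw [Nat.card_eq_fintype_card] at h3
        omega
      have hHcd : ∀ θ : H → ℂ, Cfsg.IsIrrCharacter H θ →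
          θ 1 = 1 ∨ θ 1 = ((ordCompl[p] m : ℕ) : ℂ) ∨ θ 1 = ((ordCompl[p] n : ℕ) : ℂ) := by
        intro θ hθ
        obtain ⟨χ, d, e, j, hχ, hd, he, hde, hcop, he0⟩ :=
          degree_of_compl p hp H hHcop k' hHidx θ hθ
        have hnd : ¬ p ∣ e := by
          intro h
          have h3 := Nat.Coprime.eq_one_of_dvd hcop.symm h
          exact hp.one_lt.ne' h3
        have hord : ordCompl[p] d = e := by
          rw [hde, mul_comm]
          exact Nat.ordCompl_pow_mul_of_not_dvd j hp hnd
        rw [he, ← hord]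
        rcases hcd χ hχ with h | h | h
        · left
          rw [hd] at h
          have h1 : d = 1 := by exact_mod_cast h
          rw [h1]
          simp
        · right; left
          rw [hd] at h
          have h1 : d = m := by exact_mod_cast h
          rw [h1]
        · right; right
          rw [hd] at h
          have h1 : d = n := by exact_mod_cast h
          rw [h1]
      have hHsolv : Group.IsSolvable H := ih H hcardH _ _ hHcd
      exact solvable_of_index_prime_pow H p k' hp hHidx hHsolv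
    · -- coprime degrees
      have hcop : m.Coprime n := by
        apply Nat.coprime_of_dvd
        intro q hq hqm hqn
        exact hcp ⟨q, hq, hqm, hqn⟩
      have hna : ¬ commutator G ≤ (⊥ : Subgroup G) := by
        intro h
        have h1 : χ₀ 1 = 1 := by
          apply degree_one_of_commutator_le_ker hχ₀
          intro g hg
          rw [Subgroup.mem_bot.mp (h hg)]
        rw [hχ₀m] at h1
        apply hm1
        exact_mod_cast h1
      obtain ⟨K, hKn, -, hKna, hKmax⟩ :=
        Cfsg.Agent.Helper1.exists_max_nonabelian_quotient (⊥ : Subgroup G) inferInstance hna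
      haveI := hKn
      by_cases hK : K = ⊥
      · -- every nonlinear irreducible character is faithful: the product trick
        exfalso
        have hfaith : ∀ χ : G → ℂ, Cfsg.IsIrrCharacter G χ → χ 1 ≠ 1 →
            ∀ g : G, χ g = χ 1 → g = 1 := by
          intro χ hχ hχ1 g hg
          by_contra hg1
          have hmem : g ∈ commonKernel ({⟨χ, hχ⟩} : Set (Cfsg.IrrCharacter G)) := by
            rw [mem_commonKernel]
            intro ξ hξ
            rw [Set.mem_singleton_iff.mp hξ]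
            exact hg
          have hlt : K < commonKernel ({⟨χ, hχ⟩} : Set (Cfsg.IrrCharacter G)) := by
            rw [hK, bot_lt_iff_ne_bot]
            intro h
            rw [h, Subgroup.mem_bot] at hmem
            exact hg1 hmem
          have hle := hKmax _ inferInstance hlt
          apply hχ1
          apply degree_one_of_commutator_le_ker hχ
          intro z hz
          exact (mem_commonKernel _ z).mp (hle hz) ⟨χ, hχ⟩ rfl
        rcases Nat.lt_or_gt_of_ne hmn with h | h
        · have H : TrickHyp G m n := ⟨by omega, h, hcop, hcd, hfaith⟩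
          exact H.false_of_both hχ₀ hχ₀m hψ₀ hψ₀n
        · have H : TrickHyp G n m := ⟨by omega, h, hcop.symm, fun χ hχ => by
            rcases hcd χ hχ with h1 | h1 | h1
            · exact Or.inl h1
            · exact Or.inr (Or.inr h1)
            · exact Or.inr (Or.inl h1), hfaith⟩
          exact H.false_of_both hψ₀ hψ₀n hχ₀ hχ₀m
      · -- a proper quotient, solvable by induction
        have hcardQ : Fintype.card (G ⧸ K) ≤ k := by
          have h1 := K.card_mul_index
          have h2 : 2 ≤ Nat.card K := by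
            have h3 : 1 < Nat.card K := by
              rw [Subgroup.one_lt_card_iff_ne_bot]
              exact hK
            omega
          have h3 : 0 < K.index := Nat.pos_of_ne_zero Subgroup.index_ne_zero_of_finite
          have h4 : 2 * K.index ≤ Nat.card G := by
            rw [← h1]
            exact Nat.mul_le_mul_right _ h2
          have h5 : Fintype.card (G ⧸ K) = K.index := by
            rw [← Nat.card_eq_fintype_card]
            rfl
          rw [hcardG] at h4
          omega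
        have hsolv : Group.IsSolvable (G ⧸ K) := ih (G ⧸ K) hcardQ m n (hcd_quotient K m n hcd)
        obtain ⟨p, j, hp, hj, hrel, -, hab, hNtop, hAB⟩ :=
          Cfsg.Agent.Helper1.isaacs_twelve_three_full K hsolv hKna hKmax
        rcases hAB with ⟨-, hidx⟩ | ⟨-, hcopNK, hfpf⟩
        · exfalso
          haveI : Fact p.Prime := ⟨hp⟩
          obtain ⟨-, hpd⟩ := p_dvd_of_pgroup_quotient p K hidx hKna m n hcd
          exact hcp ⟨p, hp, hpd χ₀ hχ₀ m hχ₀m hm1, hpd ψ₀ hψ₀ n hψ₀n hn1⟩
        · have hlt : K.relIndex (K ⊔ commutator G) ≠ 1 := by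
            rw [hrel]
            intro h
            have := Nat.pow_eq_one.mp h
            rcases this with h1 | h1
            · exact hp.one_lt.ne' h1
            · omega
          obtain ⟨f, g, hf, hf1, hfg, hdegN⟩ := frob_lemma K (K ⊔ commutator G) le_sup_left
            le_sup_right hab hlt hNtop hcopNK hfpf m n hcd
          have hfgcop : f.Coprime g := by
            rcases hfg with ⟨h1, h2⟩ | ⟨h1, h2⟩
            · rw [h1, h2]; exact hcop
            · rw [h1, h2]; exact hcop.symm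
          have hNcd : ∀ ψ : ↥(K ⊔ commutator G) → ℂ,
              Cfsg.IsIrrCharacter ↥(K ⊔ commutator G) ψ → ψ 1 = 1 ∨ ψ 1 = (g : ℂ) := by
            intro ψ hψ
            obtain ⟨d, hd⟩ := IsCharacter.apply_one (IsIrrCharacter.isCharacter hψ)
            by_cases hd1 : d = 1
            · left
              rw [hd, hd1, Nat.cast_one]
            · right
              obtain ⟨t, ht1, ht2, ht3⟩ := hdegN ψ hψ d hd hd1
              have ht : t = 1 := Nat.eq_one_of_dvd_one (hfgcop ▸ Nat.dvd_gcd ht1 ht2)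
              rw [ht, mul_one] at ht3
              rw [hd, ht3]
          have hNsolv : Group.IsSolvable ↥(K ⊔ commutator G) := solvable_of_two_deg g hNcd
          exact solvable_of_commutator_le (K ⊔ commutator G) le_sup_right hNsolv

end Cfsg.Agent.Helper6.Cd3
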