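import Mathlib
import Cfsg.Prelude.Def_Characters
import Cfsg.Agent.Helper6.Cd3F

/-!
# Three character degrees: derived length at most three
-/

set_option autoImplicit false
set_option linter.style.haveILetI false

namespace Cfsg.Agent.Helper6.Cd3

open Module Representation
open scoped commutatorElement

universe u

variable {G : Type u} [Group G]

/-- **Derived length**: a finite solvable group whose character degrees lie in `{1, m, n}` has
trivial third derived subgroup. -/
theorem derived_three_of_solvable [Fintype G] (hsolv : Group.IsSolvable G) (m n : ℕ)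
    (hcd : ∀ χ : G → ℂ, Cfsg.IsIrrCharacter G χ → χ 1 = 1 ∨ χ 1 = (m : ℂ) ∨ χ 1 = (n : ℂ)) :
    derivedSeries G 3 = ⊥ := by
  classical
  by_cases htwo : ∃ d : ℕ, ∀ χ : G → ℂ, Cfsg.IsIrrCharacter G χ → χ 1 = 1 ∨ χ 1 = (d : ℂ)
  · obtain ⟨d, hd⟩ := htwo
    have h2 := derived_two_of_two_deg d hd
    have h23 : derivedSeries G 3 ≤ derivedSeries G 2 := derivedSeries_antitone G (by norm_num)
    rw [h2] at h23
    exact eq_bot_iff.mpr h23
  obtain ⟨⟨χ₀, hχ₀, hχ₀m⟩, ⟨ψ₀, hψ₀, hψ₀n⟩, hmn, hm1, hn1, hm0, hn0⟩ :=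
    exists_both_degrees m n hcd htwo
  have hna : ¬ commutator G ≤ (⊥ : Subgroup G) := by
    intro h
    have h1 : χ₀ 1 = 1 := by
      apply degree_one_of_commutator_le_ker hχ₀
      intro g hg
      rw [Subgroup.mem_bot.mp (h hg)]
    rw [hχ₀m] at h1
    apply hm1
    exact_mod_cast h1
  obtain ⟨K, hKn, -, hKna, hKmax⟩ :=
    Cfsg.Agent.Helper1.exists_max_nonabelian_quotient (⊥ : Subgroup G) inferInstance hna
  haveI := hKn
  haveI := hsolv
  have hsolvQ : Group.IsSolvable (G ⧸ K) := inferInstance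
  obtain ⟨p, j, hp, hj, hrel, -, hab, hNtop, hAB⟩ :=
    Cfsg.Agent.Helper1.isaacs_twelve_three_full K hsolvQ hKna hKmax
  rcases hAB with ⟨-, hidx⟩ | ⟨-, hcopNK, hfpf⟩
  · haveI : Fact p.Prime := ⟨hp⟩
    exact caseA p K hidx hKna m n hcd
  have hlt : K.relIndex (K ⊔ commutator G) ≠ 1 := by
    rw [hrel]
    intro h
    have := Nat.pow_eq_one.mp h
    rcases this with h1 | h1
    · exact hp.one_lt.ne' h1
    · omega
  obtain ⟨f, g, hf, hf1, hfg, hdegN⟩ := frob_lemma K (K ⊔ commutator G) le_sup_left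
    le_sup_right hab hlt hNtop hcopNK hfpf m n hcd
  have hcdfg : ∀ χ : G → ℂ, Cfsg.IsIrrCharacter G χ →
      χ 1 = 1 ∨ χ 1 = (f : ℂ) ∨ χ 1 = (g : ℂ) := by
    intro χ hχ
    rcases hfg with ⟨h1, h2⟩ | ⟨h1, h2⟩
    · rw [h1, h2]
      exact hcd χ hχ
    · rw [h1, h2]
      rcases hcd χ hχ with h | h | h
      · exact Or.inl h
      · exact Or.inr (Or.inr h)
      · exact Or.inr (Or.inl h)
  have hg0 : g ≠ 0 := by
    rcases hfg with ⟨-, h2⟩ | ⟨-, h2⟩
    · rw [h2]; exact hn0
    · rw [h2]; exact hm0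
  have hc0 : Nat.gcd f g ≠ 0 := by
    intro h
    have := (Nat.gcd_eq_zero_iff.mp h).1
    omega
  -- normal complements for the primes dividing both degrees
  have hcompl : ∀ r : ℕ, r.Prime → r ∣ Nat.gcd f g → ∃ R : Subgroup G, R.Normal ∧
      (Nat.card R).Coprime r ∧ ∃ k : ℕ, R.index = r ^ k := by
    intro r hr hrc
    have hrf : r ∣ f := hrc.trans (Nat.gcd_dvd_left f g)
    have hrg : r ∣ g := hrc.trans (Nat.gcd_dvd_right f g)
    apply Cfsg.Agent.S4456.result r hr
    intro χ hne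
    have h1 := charDegree_cast_of_isCharacter (IsIrrCharacter.isCharacter χ.2)
    rcases hcdfg χ χ.2 with h | h | h
    · exfalso
      apply hne
      rw [h] at h1
      exact_mod_cast h1
    · rw [h] at h1
      have h2 : Cfsg.charDegree (χ : G → ℂ) = f := by exact_mod_cast h1
      rw [h2]
      exact hrf
    · rw [h] at h1
      have h2 : Cfsg.charDegree (χ : G → ℂ) = g := by exact_mod_cast h1
      rw [h2]
      exact hrg
  by_cases hall : ∀ r : ℕ, r.Prime → r ∣ Nat.gcd f g → ∃ R : Subgroup G, R.Normal ∧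
      commutator G ≤ R ∧ (Nat.card R).Coprime r ∧ ∃ k : ℕ, R.index = r ^ k
  · obtain ⟨R, hRn, hGR, hRcop, hRprimes⟩ :=
      Cfsg.Agent.Helper8.Cd3Grp.exists_normal_compl_of_family (Nat.gcd f g) hc0 hall
    haveI := hRn
    have hGN0 : commutator G ≤ (K ⊔ commutator G) ⊓ R := le_inf le_sup_right hGR
    haveI : Fintype ↥((K ⊔ commutator G) ⊓ R) := Fintype.ofFinite _
    -- the degrees of `N0`
    have hN0deg : ∀ θ : ↥((K ⊔ commutator G) ⊓ R) → ℂ,
        Cfsg.IsIrrCharacter ↥((K ⊔ commutator G) ⊓ R) θ → ∀ e : ℕ, θ 1 = e → e ≠ 1 →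
        ∃ u : ℕ, g = e * u ∧ e.Coprime (Nat.gcd f g) ∧
          ∀ q : ℕ, q.Prime → q ∣ u → q ∣ Nat.gcd f g := by
      intro θ hθ e he he1
      obtain ⟨ψ, d, e', hψ, hd, he', hed, hde⟩ :=
        degree_between ((K ⊔ commutator G) ⊓ R) (K ⊔ commutator G) inf_le_left θ hθ
      have hee : e' = e := by
        rw [he] at he'
        exact_mod_cast he'.symm
      subst hee
      have hd1 : d ≠ 1 := by
        intro h
        rw [h] at hed
        exact he1 (Nat.dvd_one.mp hed)
      obtain ⟨t, ht1, ht2, ht3⟩ := hdegN ψ hψ d hd hd1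
      refine ⟨d / e' * t, ?_, ?_, ?_⟩
      · rw [← mul_assoc, Nat.mul_div_cancel' hed, ht3]
      · obtain ⟨e'', he'', hdvd, -⟩ := IsIrrCharacter.degree_dvd_card hθ
        have hee : e'' = e' := by
          rw [he] at he''
          exact_mod_cast he''.symm
        subst hee
        have h1 : Nat.card ↥((K ⊔ commutator G) ⊓ R) ∣ Nat.card R :=
          Subgroup.card_dvd_of_le inf_le_right
        exact Nat.Coprime.coprime_dvd_left (hdvd.trans h1) hRcop
      · intro q hq hqu
        rcases (Nat.Prime.dvd_mul hq).mp hqu with h | h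
        · apply hRprimes q hq
          have h1 : q ∣ ((K ⊔ commutator G) ⊓ R).relIndex (K ⊔ commutator G) := h.trans hde
          rw [Subgroup.inf_relIndex_left] at h1
          exact h1.trans (Subgroup.relIndex_dvd_index_of_normal R (K ⊔ commutator G))
        · exact Nat.dvd_gcd (h.trans ht1) (h.trans ht2)
    have hN0comm : ∀ a ∈ commutator ↥((K ⊔ commutator G) ⊓ R),
        ∀ b ∈ commutator ↥((K ⊔ commutator G) ⊓ R), a * b = b * a := by
      by_cases hex : ∃ θ₀ : Cfsg.IrrCharacter ↥((K ⊔ commutator G) ⊓ R),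
          (θ₀ : ↥((K ⊔ commutator G) ⊓ R) → ℂ) 1 ≠ 1
      · obtain ⟨θ₀, hθ₀⟩ := hex
        obtain ⟨e₀, he₀⟩ := IsCharacter.apply_one (IsIrrCharacter.isCharacter θ₀.2)
        have he₀1 : e₀ ≠ 1 := by
          intro h
          apply hθ₀
          rw [he₀, h, Nat.cast_one]
        obtain ⟨u₀, hu₀, hc₀, hq₀⟩ := hN0deg θ₀ θ₀.2 e₀ he₀ he₀1
        apply two_deg_comm e₀
        intro θ hθ
        obtain ⟨e, he⟩ := IsCharacter.apply_one (IsIrrCharacter.isCharacter hθ)
        by_cases he1 : e = 1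
        · left
          rw [he, he1, Nat.cast_one]
        · right
          obtain ⟨u, hu, hc, hq⟩ := hN0deg θ hθ e he he1
          rw [he, coprime_part_unique (Nat.gcd f g) g e u e₀ u₀ hu hu₀ hc hc₀ hq hq₀]
      · push Not at hex
        apply two_deg_comm 1
        intro θ hθ
        left
        exact hex ⟨θ, hθ⟩
    exact derived_three_of_le _ hGN0 hN0comm
  · push Not at hall
    obtain ⟨r, hr, hrc, hno⟩ := hall
    obtain ⟨R, hRn, hRcop, k, hRidx⟩ := hcompl r hr hrc
    haveI := hRn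
    haveI : Fact r.Prime := ⟨hr⟩
    have hRna : ¬ commutator G ≤ R := by
      intro h
      exact hno R hRn h hRcop k hRidx
    exact caseA r R ⟨k, hRidx⟩ hRna m n hcd

end Cfsg.Agent.Helper6.Cd3
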