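import Mathlib
import Cfsg.Prelude.Def_Characters
import Cfsg.Agent.Helper6.TwoDegI
import Cfsg.Agent.Helper6.CdpB

/-!
# Groups with character degrees `1` and `p`: stabilizers of linear characters

If all irreducible character degrees of `G` are `1` or `p`, then the stabilizer of a linear
character `lam` of a normal subgroup `A` has index `1` or `p`, and in the latter case `lam`
extends to a linear character of its stabilizer.
-/

set_option autoImplicit false

namespace Cfsg.Agent.Helper6.Cdp

open scoped ComplexConjugate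

universe u

variable {G : Type u} [Group G]

/-- The stabilizer of a linear character of a normal subgroup, as a subgroup. -/
noncomputable abbrev stabHom (A : Subgroup G) [hA : A.Normal] (lam : A →* ℂˣ) : Subgroup G :=
  conjStab A (fun a : A => ((lam a : ℂˣ) : ℂ))

theorem mem_stabHom (A : Subgroup G) [hA : A.Normal] (lam : A →* ℂˣ) (g : G) :
    g ∈ stabHom A lam ↔ ∀ a : A, lam ⟨g * a * g⁻¹, hA.conj_mem a a.2 g⟩ = lam a := by
  rw [stabHom, mem_conjStab]
  constructor
  · intro h a
    have := congrFun h a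
    exact Units.ext this
  · intro h
    funext a
    exact congrArg Units.val (h a)

theorem le_stabHom (A : Subgroup G) [hA : A.Normal] (hab : ∀ a ∈ A, ∀ b ∈ A, a * b = b * a)
    (lam : A →* ℂˣ) : A ≤ stabHom A lam := by
  intro g hg
  rw [mem_stabHom]
  intro a
  congr 1
  apply Subtype.ext
  change g * a * g⁻¹ = a
  rw [hab g hg a a.2, mul_inv_cancel_right]

theorem stab_data [Finite G] (p : ℕ) (hp : p.Prime)
    (hcd : ∀ χ : Cfsg.IrrCharacter G, Cfsg.charDegree (χ : G → ℂ) = 1 ∨
      Cfsg.charDegree (χ : G → ℂ) = p)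
    (A : Subgroup G) [hA : A.Normal] (lam : A →* ℂˣ) :
    ((stabHom A lam).index = 1 ∨ (stabHom A lam).index = p) ∧
    ((stabHom A lam).index = p →
      ∃ μ : stabHom A lam →* ℂˣ,
        ∀ (a : A) (ha : (a : G) ∈ stabHom A lam), μ ⟨a, ha⟩ = lam a) := by
  classical
  haveI := Fintype.ofFinite G
  set θ : A → ℂ := fun a => ((lam a : ℂˣ) : ℂ) with hθdef
  set T := stabHom A lam with hTdef
  haveI : Fintype A := Fintype.ofFinite A
  haveI : Fintype T := Fintype.ofFinite T
  have hθ : Cfsg.IsIrrCharacter A θ := isIrrCharacter_of_hom lam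
  have hAT : A ≤ T := le_conjStab_of_isClassFunction A θ
    (IsCharacter.isClassFunction (IsIrrCharacter.isCharacter hθ))
  obtain ⟨χ, hχ⟩ := exists_irr_over A ⟨θ, hθ⟩
  have hT : ∀ g : G, g ∈ T ↔
      ∀ n : A, θ ⟨g * n * g⁻¹, hA.conj_mem (n : G) n.2 g⟩ = θ n := by
    intro g
    rw [hTdef, stabHom, mem_conjStab]
    constructor
    · intro h n
      exact congrFun h n
    · intro h
      funext n
      exact h n
  obtain ⟨ψ, hψ, hind, hinner⟩ := clifford_correspondence A θ hθ T hT hAT χ χ.2 hχ
  have h1 : (χ : G → ℂ) 1 = (T.index : ℂ) * ψ 1 := by rw [← hind, indFun_apply_one]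
  obtain ⟨d, hd⟩ := IsCharacter.apply_one (IsIrrCharacter.isCharacter hψ)
  have hd0 : d ≠ 0 := by
    intro h
    apply IsIrrCharacter.apply_one_ne_zero hψ
    rw [hd, h, Nat.cast_zero]
  have hχdeg := charDegree_cast_of_isCharacter (IsIrrCharacter.isCharacter χ.2)
  have hnat : T.index * d = Cfsg.charDegree (χ : G → ℂ) := by
    have : ((T.index * d : ℕ) : ℂ) = (Cfsg.charDegree (χ : G → ℂ) : ℂ) := by
      rw [hχdeg, h1, hd]
      push_cast
      ring
    exact_mod_cast this
  have hdvd : T.index ∣ Cfsg.charDegree (χ : G → ℂ) := Dvd.intro _ hnat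
  constructor
  · rcases hcd χ with h | h
    · left
      rw [h] at hdvd
      exact Nat.dvd_one.mp hdvd
    · rw [h] at hdvd
      exact (Nat.dvd_prime hp).mp hdvd
  · intro hidx
    have hd1 : d = 1 := by
      rcases hcd χ with h | h
      · rw [h, hidx] at hnat
        have := Nat.eq_one_of_mul_eq_one_right hnat
        exact absurd this hp.one_lt.ne'
      · rw [h, hidx] at hnat
        have : p * d = p * 1 := by rw [hnat, mul_one]
        exact Nat.eq_of_mul_eq_mul_left hp.pos this
    have hψ1 : ψ 1 = 1 := by rw [hd, hd1, Nat.cast_one]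
    obtain ⟨μ, hμ⟩ := exists_hom_of_irr_degree_one hψ hψ1
    have hne : Cfsg.classInner (fun n : A => ψ ⟨(n : G), hAT n.2⟩) θ ≠ 0 := by
      rw [hinner]
      exact hχ
    have hcl := clifford_of_invariant A T hAT θ hθ (fun t ht => ht) ψ hψ hne
    set c := Cfsg.classInner (fun n : A => ψ ⟨(n : G), hAT n.2⟩) θ with hc
    have hc1 : c = 1 := by
      have := congrFun hcl 1
      simp only [Pi.smul_apply, smul_eq_mul, hθdef, map_one, Units.val_one, mul_one] at this
      rw [← this]
      exact hψ1
    rw [hc1, one_smul] at hcl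
    refine ⟨μ, ?_⟩
    intro a ha
    have h2 := congrFun hcl a
    rw [hμ] at h2
    exact Units.ext h2

end Cfsg.Agent.Helper6.Cdp
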