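import Mathlib

/-!
# A combinatorial lemma: natural numbers with minimal positive variance
-/

set_option autoImplicit false
set_option linter.style.haveILetI false
set_option linter.unusedSimpArgs false

namespace Cfsg.Agent.Helper6

/-- If `n Σ mᵢ² − (Σ mᵢ)² = n − 1` for `n` natural numbers `mᵢ`, then all the `mᵢ` are equal except
one of them, which differs from the others by one. -/
theorem exists_exceptional_of_variance {ι : Type*} [Fintype ι] [Nonempty ι] (m : ι → ℕ)
    (h : (Fintype.card ι : ℤ) * ∑ i, (m i : ℤ) ^ 2 - (∑ i, (m i : ℤ)) ^ 2 =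
      (Fintype.card ι : ℤ) - 1) :
    ∃ (μ : ι) (k : ℕ), (∀ i, i ≠ μ → m i = k) ∧ (m μ = k + 1 ∨ m μ + 1 = k) := by
  classical
  obtain ⟨i₀, -, hi₀⟩ := Finset.exists_min_image Finset.univ m Finset.univ_nonempty
  set n : ℤ := (Fintype.card ι : ℤ) with hn
  have hnpos : 1 ≤ n := by
    have : 0 < Fintype.card ι := Fintype.card_pos
    omega
  set k₀ : ℤ := (m i₀ : ℤ) with hk₀
  set d : ι → ℤ := fun i => (m i : ℤ) - k₀ with hd
  have hdnn : ∀ i, 0 ≤ d i := by
    intro i
    have := hi₀ i (Finset.mem_univ i)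
    simp only [hd, hk₀]
    omega
  have hd0 : d i₀ = 0 := by simp [hd, hk₀]
  have hd1 : ∑ i, d i = ∑ i, (m i : ℤ) - n * k₀ := by
    simp only [hd, Finset.sum_sub_distrib, Finset.sum_const, Finset.card_univ, nsmul_eq_mul, hn]
  have hd2 : ∑ i, d i ^ 2 = ∑ i, (m i : ℤ) ^ 2 - 2 * k₀ * ∑ i, (m i : ℤ) + n * k₀ ^ 2 := by
    simp only [hd, sub_sq, Finset.sum_add_distrib, Finset.sum_sub_distrib, Finset.sum_const,
      Finset.card_univ, nsmul_eq_mul, hn, Finset.mul_sum]
    congr 1
    congr 1
    apply Finset.sum_congr rfl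
    intro i _
    ring
  have hvar : n * ∑ i, d i ^ 2 - (∑ i, d i) ^ 2 = n - 1 := by
    rw [hd1, hd2, ← h]
    ring
  set T : Finset ι := Finset.univ.filter (fun i => d i ≠ 0) with hT
  set t : ℤ := (T.card : ℤ) with ht
  have hD1 : ∑ i, d i = ∑ i ∈ T, d i := by
    rw [hT, Finset.sum_filter_ne_zero]
  have hD2 : ∑ i, d i ^ 2 = ∑ i ∈ T, d i ^ 2 := by
    rw [hT]
    symm
    apply Finset.sum_filter_of_ne
    intro i _ hi h0
    apply hi
    rw [h0]
    ring
  have hCS : (∑ i ∈ T, d i) ^ 2 ≤ t * ∑ i ∈ T, d i ^ 2 := sq_sum_le_card_mul_sum_sq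
  have hge : t ≤ ∑ i ∈ T, d i ^ 2 := by
    have h1 : ∑ _i ∈ T, (1 : ℤ) ≤ ∑ i ∈ T, d i ^ 2 := by
      apply Finset.sum_le_sum
      intro i hi
      have hi' : d i ≠ 0 := (Finset.mem_filter.mp hi).2
      have := hdnn i
      have h2 : 1 ≤ d i := by omega
      nlinarith
    simpa [ht] using h1
  have htle : t ≤ n - 1 := by
    have h1 : T ⊆ Finset.univ.erase i₀ := by
      intro i hi
      rw [Finset.mem_erase]
      refine ⟨?_, Finset.mem_univ i⟩
      rintro rfl
      exact (Finset.mem_filter.mp hi).2 hd0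
    have h2 := Finset.card_le_card h1
    rw [Finset.card_erase_of_mem (Finset.mem_univ i₀), Finset.card_univ] at h2
    have : 0 < Fintype.card ι := Fintype.card_pos
    simp only [ht, hn]
    omega
  rw [hD1, hD2] at hvar
  set D1 := ∑ i ∈ T, d i with hD1def
  set D2 := ∑ i ∈ T, d i ^ 2 with hD2def
  by_cases hn1 : n = 1
  · -- only one element
    refine ⟨i₀, m i₀ + 1, ?_, Or.inr rfl⟩
    intro i hi
    exfalso
    have h1 : Fintype.card ι = 1 := by omega
    have h2 := Fintype.card_le_one_iff.mp h1.le i i₀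
    exact hi h2
  have hn2 : 2 ≤ n := by omega
  have htpos : 1 ≤ t := by
    by_contra hcon
    have h0 : T.card = 0 := by
      have : (0 : ℤ) ≤ t := by simp [ht]
      omega
    have hTe : T = ∅ := Finset.card_eq_zero.mp h0
    have e1 : D1 = 0 := by rw [hD1def, hTe, Finset.sum_empty]
    have e2 : D2 = 0 := by rw [hD2def, hTe, Finset.sum_empty]
    rw [e1, e2] at hvar
    omega
  -- the chain of inequalities
  have hA : 0 ≤ (n - t) * (D2 - t) := mul_nonneg (by omega) (by omega)
  have hB : 0 ≤ (t - 1) * (n - 1 - t) := mul_nonneg (by omega) (by omega)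
  have hsum : (n - t) * (D2 - t) + (t - 1) * (n - 1 - t) ≤ 0 := by nlinarith
  have hA0 : (n - t) * (D2 - t) = 0 := by omega
  have hB0 : (t - 1) * (n - 1 - t) = 0 := by omega
  have hD2t : D2 = t := by
    rcases mul_eq_zero.mp hA0 with h1 | h1
    · omega
    · omega
  have hdone : ∀ i ∈ T, d i = 1 := by
    have h1 : ∑ i ∈ T, (d i ^ 2 - 1) = 0 := by
      rw [Finset.sum_sub_distrib, ← hD2def, hD2t]
      simp [ht]
    have h2 : ∀ i ∈ T, 0 ≤ d i ^ 2 - 1 := by
      intro i hi
      have hi' : d i ≠ 0 := (Finset.mem_filter.mp hi).2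
      have := hdnn i
      have h2 : 1 ≤ d i := by omega
      nlinarith
    intro i hi
    have h3 := (Finset.sum_eq_zero_iff_of_nonneg h2).mp h1 i hi
    have h4 : d i ^ 2 = 1 := by omega
    rcases sq_eq_one_iff.mp h4 with h5 | h5
    · exact h5
    · have := hdnn i
      omega
  have hdzero : ∀ i, i ∉ T → d i = 0 := by
    intro i hi
    by_contra h0
    exact hi (Finset.mem_filter.mpr ⟨Finset.mem_univ i, h0⟩)
  rcases mul_eq_zero.mp hB0 with h1 | h1
  · -- t = 1
    have hcard : T.card = 1 := by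
      have h2 : (T.card : ℤ) = 1 := by
        simp only [ht] at h1
        omega
      exact_mod_cast h2
    obtain ⟨μ, hμ⟩ := Finset.card_eq_one.mp hcard
    refine ⟨μ, m i₀, ?_, Or.inl ?_⟩
    · intro i hi
      have h2 : i ∉ T := by
        rw [hμ, Finset.mem_singleton]
        exact hi
      have h3 := hdzero i h2
      simp only [hd, hk₀] at h3
      omega
    · have h2 : μ ∈ T := by rw [hμ]; exact Finset.mem_singleton_self μ
      have h3 := hdone μ h2
      simp only [hd, hk₀] at h3
      omega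
  · -- t = n - 1
    refine ⟨i₀, m i₀ + 1, ?_, Or.inr rfl⟩
    intro i hi
    have h2 : i ∈ T := by
      by_contra hcon
      have h3 : T ⊆ (Finset.univ.erase i₀).erase i := by
        intro j hj
        rw [Finset.mem_erase, Finset.mem_erase]
        refine ⟨?_, ?_, Finset.mem_univ j⟩
        · rintro rfl
          exact hcon hj
        · rintro rfl
          exact (Finset.mem_filter.mp hj).2 hd0
      have h4 := Finset.card_le_card h3
      rw [Finset.card_erase_of_mem (Finset.mem_erase.mpr ⟨hi, Finset.mem_univ i⟩),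
        Finset.card_erase_of_mem (Finset.mem_univ i₀), Finset.card_univ] at h4
      have : (T.card : ℤ) = (Fintype.card ι : ℤ) - 1 := by
        simp only [ht, hn] at h1
        omega
      omega
    have h3 := hdone i h2
    simp only [hd, hk₀] at h3
    omega

end Cfsg.Agent.Helper6
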