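import Mathlib
import Cfsg.Prelude.Def_Characters
import Cfsg.Agent.Helper6.CycL
import Cfsg.Agent.Helper6.Artin
import Cfsg.Agent.Helper6.Induced
import Cfsg.Agent.Helper6.Linear
import Cfsg.Agent.Helper6.ClassInner

/-!
# Characters of abelian groups taking the values `±1` off the identity
-/

set_option autoImplicit false
set_option linter.style.haveILetI false
set_option linter.unusedSimpArgs false

namespace Cfsg.Agent.Helper6

open scoped ComplexConjugate

universe u

theorem finite_hom_units {A : Type u} [Group A] [Finite A] : Finite (A →* ℂˣ) := by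
  haveI : Finite (Cfsg.IrrCharacter A) := irr_finite
  exact Finite.of_injective (fun lam : A →* ℂˣ =>
    (⟨fun a => ((lam a : ℂˣ) : ℂ), isIrrCharacter_of_hom lam⟩ : Cfsg.IrrCharacter A)) (by
    intro a b hab'
    have h1 := congrArg Subtype.val hab'
    ext x
    exact congrFun h1 x)

/-- the sum of the values of the linear characters of an abelian group at an element -/
theorem sum_hom_apply {A : Type u} [Group A] [Fintype A] [Fintype (A →* ℂˣ)] [DecidableEq A]
    (hab : ∀ a b : A, a * b = b * a) (x : A) :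
    ∑ lam : A →* ℂˣ, ((lam x : ℂˣ) : ℂ) = if x = 1 then (Nat.card A : ℂ) else 0 := by
  have hexp := abelian_expansion hab (fun a : A => if a = 1 then (1 : ℂ) else 0)
  have hA0 : (Nat.card A : ℂ) ≠ 0 := by
    have : 0 < Nat.card A := Nat.card_pos
    exact_mod_cast this.ne'
  have hin : ∀ lam : A →* ℂˣ, Cfsg.classInner (fun a : A => if a = 1 then (1 : ℂ) else 0)
      (fun a => ((lam a : ℂˣ) : ℂ)) = (Nat.card A : ℂ)⁻¹ := by
    intro lam
    rw [classInner_def, Finset.sum_eq_single (1 : A)]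
    · simp
    · intro b _ hb
      simp [hb]
    · intro h
      exact absurd (Finset.mem_univ _) h
  have h1 := congrFun hexp x
  rw [Finset.sum_apply] at h1
  simp only [Pi.smul_apply, smul_eq_mul, hin] at h1
  rw [← Finset.mul_sum] at h1
  have h2 : ∑ lam : A →* ℂˣ, ((lam x : ℂˣ) : ℂ) =
      (Nat.card A : ℂ) * (if x = 1 then (1 : ℂ) else 0) := by
    rw [h1, ← mul_assoc, mul_inv_cancel₀ hA0, one_mul]
  rw [h2]
  split_ifs <;> simp

set_option maxHeartbeats 1600000 in
/-- A character of a finite abelian group with values `±1` off the identity is a multiple of the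
regular character plus or minus a linear character of order at most two. -/
theorem abelian_char_pm_one {A : Type u} [Group A] [Fintype A]
    (hab : ∀ a b : A, a * b = b * a) {ψ : A → ℂ} (hψ : Cfsg.IsCharacter A ψ)
    (hpm : ∀ x : A, x ≠ 1 → ψ x = 1 ∨ ψ x = -1) :
    ∃ (μ : A →* ℂˣ) (k : ℕ) (ε : ℤ), (ε = 1 ∨ ε = -1) ∧ (∀ x, μ x * μ x = 1) ∧
      (∀ x : A, x ≠ 1 → ψ x = (ε : ℂ) * ((μ x : ℂˣ) : ℂ)) ∧
      ψ 1 = (k : ℂ) * (Nat.card A : ℂ) + (ε : ℂ) := by
  classical
  haveI : Finite (A →* ℂˣ) := finite_hom_units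
  haveI : Fintype (A →* ℂˣ) := Fintype.ofFinite _
  haveI : Nonempty (A →* ℂˣ) := ⟨1⟩
  have hexp := abelian_expansion hab ψ
  have hnat : ∀ lam : A →* ℂˣ, ∃ n : ℕ, Cfsg.classInner ψ
      (fun a => ((lam a : ℂˣ) : ℂ)) = n :=
    fun lam => classInner_char_char_nat hψ (IsIrrCharacter.isCharacter (isIrrCharacter_of_hom lam))
  choose m hm using hnat
  have hval : ∀ c : A, ψ c = ∑ lam : A →* ℂˣ, (m lam : ℂ) * ((lam c : ℂˣ) : ℂ) := by
    intro c
    have := congrFun hexp c
    rw [Finset.sum_apply] at this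
    simp only [Pi.smul_apply, smul_eq_mul, hm] at this
    exact this
  have hA0 : (Nat.card A : ℂ) ≠ 0 := by
    have : 0 < Nat.card A := Nat.card_pos
    exact_mod_cast this.ne'
  -- the number of linear characters
  have hcardhom : (Fintype.card (A →* ℂˣ) : ℂ) = (Nat.card A : ℂ) := by
    have := sum_hom_apply hab (1 : A)
    rw [if_pos rfl] at this
    rw [← this]
    simp
  have hcardhom' : Fintype.card (A →* ℂˣ) = Nat.card A := by exact_mod_cast hcardhom
  -- the degree
  obtain ⟨a, ha⟩ : ∃ a : ℕ, ψ 1 = a := by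
    obtain ⟨n, ρ, rfl⟩ := hψ
    exact ⟨_, Representation.char_one ρ⟩
  have hsum1 : ((∑ lam : A →* ℂˣ, (m lam : ℤ) : ℤ) : ℂ) = a := by
    rw [← ha, hval 1]
    push_cast
    apply Finset.sum_congr rfl
    intro lam _
    simp
  -- the norm
  have hnorm1 : Cfsg.classInner ψ ψ = ((∑ lam : A →* ℂˣ, (m lam : ℤ) ^ 2 : ℤ) : ℂ) := by
    have h0 : Cfsg.classInner ψ ψ = Cfsg.classInner (∑ lam : A →* ℂˣ,
        Cfsg.classInner ψ (fun a => ((lam a : ℂˣ) : ℂ)) • (fun a => ((lam a : ℂˣ) : ℂ))) ψ := by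
      rw [← hexp]
    rw [h0, classInner_sum_left]
    push_cast
    apply Finset.sum_congr rfl
    intro lam _
    rw [classInner_smul_left, classInner_conj_symm ψ, hm, map_natCast]
    ring
  have hnorm2 : (Nat.card A : ℂ) * Cfsg.classInner ψ ψ = (a : ℂ) ^ 2 + (Nat.card A : ℂ) - 1 := by
    rw [classInner_def, ← mul_assoc, mul_inv_cancel₀ hA0, one_mul]
    rw [← Finset.add_sum_erase Finset.univ _ (Finset.mem_univ (1 : A))]
    have h1 : ∀ x ∈ Finset.univ.erase (1 : A), ψ x * conj (ψ x) = 1 := by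
      intro x hx
      have hx1 : x ≠ 1 := (Finset.mem_erase.mp hx).1
      rcases hpm x hx1 with h | h <;> rw [h] <;> simp
    rw [Finset.sum_congr rfl h1, Finset.sum_const, Finset.card_erase_of_mem (Finset.mem_univ _),
      Finset.card_univ, ha, map_natCast, nsmul_eq_mul, mul_one, Nat.card_eq_fintype_card]
    have hpos : 1 ≤ Fintype.card A := Fintype.card_pos
    push_cast [Nat.cast_sub hpos]
    ring
  have hvar : (Fintype.card (A →* ℂˣ) : ℤ) * ∑ lam : A →* ℂˣ, (m lam : ℤ) ^ 2 -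
      (∑ lam : A →* ℂˣ, (m lam : ℤ)) ^ 2 = (Fintype.card (A →* ℂˣ) : ℤ) - 1 := by
    have h1 : (((Fintype.card (A →* ℂˣ) : ℤ) * ∑ lam : A →* ℂˣ, (m lam : ℤ) ^ 2 -
        (∑ lam : A →* ℂˣ, (m lam : ℤ)) ^ 2 : ℤ) : ℂ) =
        (((Fintype.card (A →* ℂˣ) : ℤ) - 1 : ℤ) : ℂ) := by
      rw [Int.cast_sub, Int.cast_mul, Int.cast_pow, hsum1, ← hnorm1]
      push_cast
      rw [hcardhom, hnorm2]
      ring
    exact_mod_cast h1
  obtain ⟨μ, k, hother, hμ⟩ := exists_exceptional_of_variance m hvar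
  -- `μ` is real
  have hreal : ∀ lam : A →* ℂˣ, m lam⁻¹ = m lam := by
    intro lam
    have h1 : Cfsg.classInner ψ (fun a => ((lam⁻¹ a : ℂˣ) : ℂ)) =
        conj (Cfsg.classInner ψ (fun a => ((lam a : ℂˣ) : ℂ))) := by
      rw [classInner_def, classInner_def, map_mul, map_inv₀, map_natCast, map_sum]
      congr 1
      apply Finset.sum_congr rfl
      intro x _
      rw [map_mul, Complex.conj_conj]
      have hψreal : conj (ψ x) = ψ x := by
        by_cases hx : x = 1
        · rw [hx, ha, map_natCast]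
        · rcases hpm x hx with h | h <;> rw [h] <;> simp
      rw [hψreal]
      congr 1
      have h2 := IsCharacter.inv_eq_conj
        (IsIrrCharacter.isCharacter (isIrrCharacter_of_hom lam)) x
      rw [MonoidHom.inv_apply, ← map_inv, h2, Complex.conj_conj]
    rw [hm, hm, map_natCast] at h1
    exact_mod_cast h1
  have hμinv : μ⁻¹ = μ := by
    by_contra hne
    have h1 := hother μ⁻¹ hne
    rw [hreal μ] at h1
    rcases hμ with h | h <;> omega
  have hμsq : ∀ x, μ x * μ x = 1 := by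
    intro x
    have h1 : μ⁻¹ x = μ x := by rw [hμinv]
    rw [MonoidHom.inv_apply] at h1
    have h2 : μ x * μ x = (μ x)⁻¹ * μ x := by rw [h1]
    rw [h2, inv_mul_cancel]
  set ε : ℤ := (m μ : ℤ) - (k : ℤ) with hε
  have hε1 : ε = 1 ∨ ε = -1 := by
    rcases hμ with h | h
    · left; omega
    · right; omega
  have hform : ∀ x : A, ψ x = (k : ℂ) * (if x = 1 then (Nat.card A : ℂ) else 0) +
      (ε : ℂ) * ((μ x : ℂˣ) : ℂ) := by
    intro x
    rw [hval x, ← sum_hom_apply hab x, Finset.mul_sum]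
    have h1 : ∀ lam : A →* ℂˣ, (m lam : ℂ) * ((lam x : ℂˣ) : ℂ) =
        (k : ℂ) * ((lam x : ℂˣ) : ℂ) + (((m lam : ℤ) - (k : ℤ) : ℤ) : ℂ) * ((lam x : ℂˣ) : ℂ) := by
      intro lam
      push_cast
      ring
    rw [Finset.sum_congr rfl (fun lam _ => h1 lam), Finset.sum_add_distrib]
    congr 1
    rw [Finset.sum_eq_single μ]
    · intro lam _ hlam
      rw [hother lam hlam]
      simp
    · intro h
      exact absurd (Finset.mem_univ μ) h
  refine ⟨μ, k, ε, hε1, hμsq, ?_, ?_⟩
  · intro x hx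
    rw [hform x, if_neg hx, mul_zero, zero_add]
  · rw [hform 1, if_pos rfl, map_one, Units.val_one, mul_one]

end Cfsg.Agent.Helper6
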