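import Mathlib
import Cfsg.Prelude.Def_Characters
import Cfsg.Agent.Helper6.CdpC
import Cfsg.Agent.Helper6.CycM

/-!
# Groups with character degrees `1` and `p`: maximal abelian normal subgroups, part 1

Standing hypotheses `Cdp.Hyp G p`: all irreducible character degrees of the finite group `G` are
`1` or `p`, the central quotient of `G` is a `p`-group, `G` is not abelian and has no abelian
normal subgroup of index `p`.  For a maximal abelian normal subgroup `A` (`Cdp.MaxAb A`) we show
that `A` is self-centralizing, `G ⧸ A` is elementary abelian, and we compute the index of the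
group of linear characters of `A` fixed by an element `g`.
-/

set_option autoImplicit false

namespace Cfsg.Agent.Helper6.Cdp

open scoped ComplexConjugate

universe u

variable {G : Type u} [Group G]

/-- The standing hypotheses. -/
structure Hyp (G : Type u) [Group G] (p : ℕ) : Prop where
  prime : p.Prime
  cd : ∀ χ : Cfsg.IrrCharacter G, Cfsg.charDegree (χ : G → ℂ) = 1 ∨
    Cfsg.charDegree (χ : G → ℂ) = p
  pgroup : IsPGroup p (G ⧸ Subgroup.center G)
  noab : ∀ B : Subgroup G, B.Normal → (∀ a ∈ B, ∀ b ∈ B, a * b = b * a) → B.index ≠ p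
  nonab : ∃ a b : G, a * b ≠ b * a

/-- `A` is a maximal abelian normal subgroup. -/
structure MaxAb (A : Subgroup G) : Prop where
  normal : A.Normal
  ab : ∀ a ∈ A, ∀ b ∈ A, a * b = b * a
  max : ∀ B : Subgroup G, B.Normal → (∀ a ∈ B, ∀ b ∈ B, a * b = b * a) → A ≤ B → B ≤ A

theorem Hyp.isNilpotent [Finite G] {p : ℕ} (h : Hyp G p) : Group.IsNilpotent G := by
  haveI : Fact p.Prime := ⟨h.prime⟩
  exact Group.of_quotient_center_nilpotent (IsPGroup.isNilpotent h.pgroup)

theorem Hyp.card_center_quotient [Finite G] {p : ℕ} (h : Hyp G p) :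
    ∃ n : ℕ, (Subgroup.center G).index = p ^ n := by
  haveI : Fact p.Prime := ⟨h.prime⟩
  exact IsPGroup.iff_card.mp h.pgroup

theorem MaxAb.comm {A : Subgroup G} (hA : MaxAb A) : ∀ a b : A, a * b = b * a :=
  fun a b => Subtype.ext (hA.ab a a.2 b b.2)

theorem MaxAb.centralizer_le [Finite G] {p : ℕ} (h : Hyp G p) {A : Subgroup G} (hA : MaxAb A) :
    Subgroup.centralizer (A : Set G) ≤ A := by
  haveI := h.isNilpotent
  haveI := hA.normal
  exact centralizer_le_of_maximal A hA.ab hA.max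

theorem MaxAb.center_le [Finite G] {p : ℕ} (h : Hyp G p) {A : Subgroup G} (hA : MaxAb A) :
    Subgroup.center G ≤ A :=
  (Subgroup.center_le_centralizer _).trans (hA.centralizer_le h)

theorem MaxAb.ne_top {p : ℕ} (h : Hyp G p) {A : Subgroup G} (hA : MaxAb A) : A ≠ ⊤ := by
  intro htop
  obtain ⟨a, b, hab⟩ := h.nonab
  exact hab (hA.ab a (by rw [htop]; exact Subgroup.mem_top _) b
    (by rw [htop]; exact Subgroup.mem_top _))

/-- An element fixing every linear character of `A` lies in `A`. -/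
theorem MaxAb.mem_of_forall_stab [Finite G] {p : ℕ} (h : Hyp G p) {A : Subgroup G}
    (hA : MaxAb A) (t : G)
    (ht : ∀ lam : A →* ℂˣ, t ∈ @stabHom G _ A hA.normal lam) : t ∈ A := by
  haveI := hA.normal
  apply hA.centralizer_le h
  rw [Subgroup.mem_centralizer_iff]
  intro a ha
  by_contra hne
  have hmem : t * a * t⁻¹ * a⁻¹ ∈ A :=
    A.mul_mem (hA.normal.conj_mem a ha t) (A.inv_mem ha)
  have hne1 : (⟨t * a * t⁻¹ * a⁻¹, hmem⟩ : A) ≠ 1 := by
    intro h1
    have h2 : t * a * t⁻¹ * a⁻¹ = 1 := congrArg Subtype.val h1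
    apply hne
    have h3 : t * a = (t * a * t⁻¹ * a⁻¹) * (a * t) := by group
    rw [h3, h2, one_mul]
  obtain ⟨lam, hlam⟩ := exists_hom_ne_one hA.comm _ hne1
  have h1 := (mem_stabHom A lam t).mp (ht lam) ⟨a, ha⟩
  apply hlam
  have h2 : (⟨t * a * t⁻¹ * a⁻¹, hmem⟩ : A) =
      ⟨t * a * t⁻¹, hA.normal.conj_mem a ha t⟩ * (⟨a, ha⟩ : A)⁻¹ := rfl
  rw [h2, map_mul, map_inv, h1, mul_inv_cancel]

/-- The stabilizer of a linear character of `A` is normal and contains all `p`-th powers and
commutators. -/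
theorem MaxAb.stab_props [Finite G] {p : ℕ} (h : Hyp G p) {A : Subgroup G}
    (hA : MaxAb A) (lam : A →* ℂˣ) :
    (@stabHom G _ A hA.normal lam).Normal ∧
    (∀ x : G, x ∉ @stabHom G _ A hA.normal lam → ∀ y : G,
      ∃ i : ℕ, i < p ∧ x ^ i * y ∈ @stabHom G _ A hA.normal lam) ∧
    (∀ x : G, x ^ p ∈ @stabHom G _ A hA.normal lam) ∧
    (∀ x y : G, x * y * x⁻¹ * y⁻¹ ∈ @stabHom G _ A hA.normal lam) := by
  haveI := hA.normal
  haveI := h.isNilpotent
  haveI : Fact p.Prime := ⟨h.prime⟩
  set T := stabHom A lam with hT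
  rcases (stab_data p h.prime h.cd A lam).1 with h1 | h1
  · have htop : T = ⊤ := Subgroup.index_eq_one.mp h1
    rw [htop]
    refine ⟨inferInstance, ?_, fun x => Subgroup.mem_top _, fun x y => Subgroup.mem_top _⟩
    intro x hx
    exact absurd (Subgroup.mem_top x) hx
  · haveI hTn : T.Normal := normal_of_index_prime T h.prime h1
    have hcard : Nat.card (G ⧸ T) = p := h1
    have hpow : ∀ x : G, x ^ p ∈ T := by
      intro x
      rw [← QuotientGroup.eq_one_iff, QuotientGroup.mk_pow, ← hcard]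
      exact pow_card_eq_one'
    refine ⟨hTn, ?_, hpow, ?_⟩
    · intro x hx y
      have hx1 : (x : G ⧸ T) ≠ 1 := by
        intro h2
        exact hx ((QuotientGroup.eq_one_iff x).mp h2)
      have htop := zpowers_eq_top_of_prime_card hcard hx1
      have hy : ((y : G ⧸ T))⁻¹ ∈ Subgroup.zpowers (x : G ⧸ T) := by
        rw [htop]
        exact Subgroup.mem_top _
      rw [← mem_powers_iff_mem_zpowers] at hy
      obtain ⟨n, hn⟩ := hy
      have hord : orderOf (x : G ⧸ T) = p := by
        apply orderOf_eq_prime _ hx1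
        rw [← QuotientGroup.mk_pow]
        exact (QuotientGroup.eq_one_iff _).mpr (hpow x)
      refine ⟨n % p, Nat.mod_lt _ h.prime.pos, ?_⟩
      rw [← QuotientGroup.eq_one_iff, QuotientGroup.mk_mul, QuotientGroup.mk_pow]
      have : (x : G ⧸ T) ^ (n % p) = (x : G ⧸ T) ^ n := by
        rw [← hord]
        exact pow_mod_orderOf _ n
      have hn' : (x : G ⧸ T) ^ n = ((y : G ⧸ T))⁻¹ := hn
      rw [this, hn', inv_mul_cancel]
    · intro x y
      haveI hcyc : IsCyclic (G ⧸ T) := isCyclic_of_prime_card hcard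
      obtain ⟨g, hg⟩ := hcyc.exists_generator
      obtain ⟨i, hi⟩ := Subgroup.mem_zpowers_iff.mp (hg (x : G ⧸ T))
      obtain ⟨j, hj⟩ := Subgroup.mem_zpowers_iff.mp (hg (y : G ⧸ T))
      rw [← QuotientGroup.eq_one_iff, QuotientGroup.mk_mul, QuotientGroup.mk_mul,
        QuotientGroup.mk_mul, QuotientGroup.mk_inv, QuotientGroup.mk_inv, ← hi, ← hj,
        zpow_mul_comm g i j, mul_inv_cancel_right, mul_inv_cancel]

/-- `G ⧸ A` is elementary abelian. -/
theorem MaxAb.pow_mem [Finite G] {p : ℕ} (h : Hyp G p) {A : Subgroup G}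
    (hA : MaxAb A) (x : G) : x ^ p ∈ A :=
  hA.mem_of_forall_stab h _ (fun lam => (hA.stab_props h lam).2.2.1 x)

theorem MaxAb.comm_mem [Finite G] {p : ℕ} (h : Hyp G p) {A : Subgroup G}
    (hA : MaxAb A) (x y : G) : x * y * x⁻¹ * y⁻¹ ∈ A :=
  hA.mem_of_forall_stab h _ (fun lam => (hA.stab_props h lam).2.2.2 x y)

/-- The commutator map `a ↦ g a g⁻¹ a⁻¹` of an abelian normal subgroup. -/
noncomputable def commMap {A : Subgroup G} (hA : MaxAb A) (g : G) : A →* A where
  toFun a := ⟨g * a * g⁻¹ * a⁻¹, A.mul_mem (hA.normal.conj_mem a a.2 g) (A.inv_mem a.2)⟩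
  map_one' := by
    apply Subtype.ext
    simp
  map_mul' a b := by
    apply Subtype.ext
    have hb : g * b * g⁻¹ * (b : G)⁻¹ ∈ A :=
      A.mul_mem (hA.normal.conj_mem b b.2 g) (A.inv_mem b.2)
    have hcomm := hA.ab a a.2 _ hb
    simp only [Subgroup.coe_mul]
    calc g * ((a : G) * b) * g⁻¹ * ((a : G) * b)⁻¹
        = (g * a * g⁻¹ * (a : G)⁻¹) * ((a : G) * (g * b * g⁻¹ * (b : G)⁻¹)) * (a : G)⁻¹ := by group
      _ = (g * a * g⁻¹ * (a : G)⁻¹) * ((g * b * g⁻¹ * (b : G)⁻¹) * (a : G)) * (a : G)⁻¹ := by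
          rw [hcomm]
      _ = (g * a * g⁻¹ * (a : G)⁻¹) * (g * b * g⁻¹ * (b : G)⁻¹) := by group

theorem commMap_coe {A : Subgroup G} (hA : MaxAb A) (g : G) (a : A) :
    ((commMap hA g a : A) : G) = g * a * g⁻¹ * (a : G)⁻¹ := rfl

/-- The group of linear characters of `A` fixed by `g`. -/
def fixSub {A : Subgroup G} (hA : MaxAb A) (g : G) : Subgroup (A →* ℂˣ) where
  carrier := {lam | ∀ a : A, lam (commMap hA g a) = 1}
  one_mem' := fun _ => rfl
  mul_mem' := by
    intro l m hl hm a
    rw [MonoidHom.mul_apply, hl a, hm a, one_mul]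
  inv_mem' := by
    intro l hl a
    rw [MonoidHom.inv_apply, hl a, inv_one]

theorem mem_fixSub {A : Subgroup G} (hA : MaxAb A) (g : G) (lam : A →* ℂˣ) :
    lam ∈ fixSub hA g ↔ ∀ a : A, lam (commMap hA g a) = 1 := Iff.rfl

theorem mem_fixSub_iff_stab {A : Subgroup G} (hA : MaxAb A) (g : G) (lam : A →* ℂˣ) :
    lam ∈ fixSub hA g ↔ g ∈ @stabHom G _ A hA.normal lam := by
  haveI := hA.normal
  rw [mem_fixSub, mem_stabHom]
  have key : ∀ a : A, commMap hA g a =
      ⟨g * a * g⁻¹, hA.normal.conj_mem a a.2 g⟩ * a⁻¹ := fun a => rfl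
  constructor
  · intro h a
    have := h a
    rw [key, map_mul, map_inv, mul_inv_eq_one] at this
    exact this
  · intro h a
    rw [key, map_mul, map_inv, mul_inv_eq_one]
    exact h a

theorem index_fixSub [Finite G] {A : Subgroup G} (hA : MaxAb A) (g : G) :
    (fixSub hA g).index = Nat.card (commMap hA g).range := by
  haveI : Finite (A →* ℂˣ) := finite_hom_units
  have h1 : Nat.card (fixSub hA g) = (commMap hA g).range.index := by
    rw [← card_hom_trivial_on hA.comm]
    apply Nat.card_congr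
    apply Equiv.subtypeEquivRight
    intro lam
    constructor
    · rintro h x ⟨a, rfl⟩
      exact h a
    · intro h a
      exact h _ ⟨a, rfl⟩
  have h2 : Nat.card (A →* ℂˣ) = Nat.card A := card_hom_units_of_comm hA.comm
  have h3 := Subgroup.index_mul_card (fixSub hA g)
  have h4 := Subgroup.index_mul_card (commMap hA g).range
  rw [h1, h2, ← h4, mul_comm (commMap hA g).range.index] at h3
  have hpos : 0 < (commMap hA g).range.index :=
    Nat.pos_of_ne_zero Subgroup.index_ne_zero_of_finite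
  exact Nat.eq_of_mul_eq_mul_right hpos h3

theorem commMap_eq_one_iff {A : Subgroup G} (hA : MaxAb A) (g : G) (a : A) :
    commMap hA g a = 1 ↔ g * a = a * g := by
  constructor
  · intro h
    have h1 : g * a * g⁻¹ * (a : G)⁻¹ = 1 := congrArg Subtype.val h
    have h2 : g * a = (g * a * g⁻¹ * (a : G)⁻¹) * (a * g) := by group
    rw [h2, h1, one_mul]
  · intro h
    apply Subtype.ext
    rw [commMap_coe, h]
    simp

theorem card_range_commMap [Finite G] {p : ℕ} (h : Hyp G p) {A : Subgroup G} (hA : MaxAb A)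
    (g : G) : ∃ i : ℕ, Nat.card (commMap hA g).range = p ^ i := by
  obtain ⟨n, hn⟩ := h.card_center_quotient
  have h1 : Nat.card (commMap hA g).range = (commMap hA g).ker.index :=
    (Subgroup.index_ker _).symm
  have h2 : (Subgroup.center G).subgroupOf A ≤ (commMap hA g).ker := by
    intro a ha
    rw [MonoidHom.mem_ker, commMap_eq_one_iff]
    have : (a : G) ∈ Subgroup.center G := ha
    exact (Subgroup.mem_center_iff.mp this g)
  have h3 : (commMap hA g).ker.index ∣ ((Subgroup.center G).subgroupOf A).index :=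
    Subgroup.index_dvd_of_le h2
  have h4 : ((Subgroup.center G).subgroupOf A).index ∣ (Subgroup.center G).index :=
    Subgroup.relIndex_dvd_index_of_le (hA.center_le h)
  have h5 : Nat.card (commMap hA g).range ∣ p ^ n := by
    rw [h1, ← hn]
    exact h3.trans h4
  obtain ⟨i, -, hi⟩ := (Nat.dvd_prime_pow h.prime).mp h5
  exact ⟨i, hi⟩

theorem le_index_fixSub [Finite G] {p : ℕ} (h : Hyp G p) {A : Subgroup G} (hA : MaxAb A)
    (g : G) (hg : g ∉ A) : p ≤ (fixSub hA g).index := by
  rw [index_fixSub]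
  obtain ⟨i, hi⟩ := card_range_commMap h hA g
  rw [hi]
  rcases Nat.eq_zero_or_pos i with h0 | h0
  · exfalso
    rw [h0, pow_zero] at hi
    apply hg
    apply hA.centralizer_le h
    rw [Subgroup.mem_centralizer_iff]
    intro a ha
    have h1 : commMap hA g ⟨a, ha⟩ = 1 := by
      have h2 : (commMap hA g).range = ⊥ := Subgroup.card_eq_one.mp hi
      have h3 : commMap hA g ⟨a, ha⟩ ∈ (commMap hA g).range := ⟨_, rfl⟩
      rw [h2, Subgroup.mem_bot] at h3
      exact h3
    exact ((commMap_eq_one_iff hA g ⟨a, ha⟩).mp h1).symm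
  · calc p = p ^ 1 := (pow_one p).symm
      _ ≤ p ^ i := Nat.pow_le_pow_right h.prime.pos h0

/-- If `x ∉ A` there is `y` with `x ^ i * y ∉ A` for all `i`. -/
theorem MaxAb.exists_indep [Finite G] {p : ℕ} (h : Hyp G p) {A : Subgroup G} (hA : MaxAb A)
    (x : G) (hx : x ∉ A) : ∃ y : G, ∀ i : ℕ, x ^ i * y ∉ A := by
  haveI := hA.normal
  haveI : Fact p.Prime := ⟨h.prime⟩
  by_contra hcon
  push Not at hcon
  apply h.noab A hA.normal hA.ab
  have hx1 : (x : G ⧸ A) ≠ 1 := fun h2 => hx ((QuotientGroup.eq_one_iff x).mp h2)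
  have hord : orderOf (x : G ⧸ A) = p := by
    apply orderOf_eq_prime _ hx1
    rw [← QuotientGroup.mk_pow]
    exact (QuotientGroup.eq_one_iff _).mpr (hA.pow_mem h x)
  have htop : Subgroup.zpowers (x : G ⧸ A) = ⊤ := by
    rw [eq_top_iff]
    intro q _
    obtain ⟨y, rfl⟩ := QuotientGroup.mk_surjective q
    obtain ⟨i, hi⟩ := hcon y
    have h4 : (y : G ⧸ A) = ((x : G ⧸ A) ^ i)⁻¹ := by
      have h3 : ((x ^ i * y : G) : G ⧸ A) = 1 := (QuotientGroup.eq_one_iff _).mpr hi
      rw [QuotientGroup.mk_mul, QuotientGroup.mk_pow] at h3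
      exact eq_inv_of_mul_eq_one_right h3
    rw [h4]
    exact Subgroup.inv_mem _ (Subgroup.pow_mem _ (Subgroup.mem_zpowers _) i)
  change Nat.card (G ⧸ A) = p
  rw [← hord, ← Nat.card_zpowers, htop, Subgroup.card_top]

theorem mem_of_pow_mem_of_coprime (T : Subgroup G) (x : G) (d p : ℕ) (hd : x ^ d ∈ T)
    (hp : x ^ p ∈ T) (hcop : Nat.Coprime d p) : x ∈ T := by
  have h1 := Int.gcd_eq_gcd_ab d p
  rw [Int.gcd_natCast_natCast, hcop] at h1
  have h2 : x = (x ^ d) ^ (Int.gcdA d p) * (x ^ p) ^ (Int.gcdB d p) := by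
    rw [← zpow_natCast, ← zpow_natCast, ← zpow_mul, ← zpow_mul, ← zpow_add, ← h1]
    simp
  rw [h2]
  exact T.mul_mem (T.zpow_mem hd _) (T.zpow_mem hp _)

theorem pair_mem_iff₁ (T : Subgroup G) (x y : G) (i : ℕ) :
    (x ∈ T ∧ x ^ i * y ∈ T) ↔ (x ∈ T ∧ y ∈ T) := by
  constructor
  · rintro ⟨hx, hxy⟩
    refine ⟨hx, ?_⟩
    have : y = (x ^ i)⁻¹ * (x ^ i * y) := by group
    rw [this]
    exact T.mul_mem (T.inv_mem (T.pow_mem hx i)) hxy
  · rintro ⟨hx, hy⟩
    exact ⟨hx, T.mul_mem (T.pow_mem hx i) hy⟩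

theorem pair_mem_iff₂ (T : Subgroup G) (x y : G) {p : ℕ} (hp : p.Prime) (hxp : x ^ p ∈ T)
    (i j : ℕ) (hi : i < p) (hj : j < p) (hij : i ≠ j) :
    (x ^ i * y ∈ T ∧ x ^ j * y ∈ T) ↔ (x ∈ T ∧ y ∈ T) := by
  constructor
  · rintro ⟨h1, h2⟩
    have key : ∀ a b : ℕ, a < b → b < p → x ^ a * y ∈ T → x ^ b * y ∈ T → x ∈ T := by
      intro a b hab hb ha' hb'
      have h3 : x ^ (b - a) = (x ^ b * y) * (x ^ a * y)⁻¹ := by
        have : x ^ b = x ^ (b - a) * x ^ a := by
          rw [← pow_add]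
          congr 1
          omega
        rw [this]
        group
      have h4 : x ^ (b - a) ∈ T := by
        rw [h3]
        exact T.mul_mem hb' (T.inv_mem ha')
      have hcop : Nat.Coprime (b - a) p := by
        apply Nat.Coprime.symm
        rw [Nat.Prime.coprime_iff_not_dvd hp]
        apply Nat.not_dvd_of_pos_of_lt <;> omega
      exact mem_of_pow_mem_of_coprime T x _ p h4 hxp hcop
    have hx : x ∈ T := by
      rcases Nat.lt_or_gt_of_ne hij with hlt | hlt
      · exact key i j hlt hj h1 h2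
      · exact key j i hlt hi h2 h1
    exact ((pair_mem_iff₁ T x y i).mp ⟨hx, h1⟩)
  · rintro ⟨hx, hy⟩
    exact ⟨T.mul_mem (T.pow_mem hx i) hy, T.mul_mem (T.pow_mem hx j) hy⟩

/-- The commutator group `[A, x]` has order `p` for every `x ∉ A`. -/
theorem MaxAb.card_range_eq [Finite G] {p : ℕ} (h : Hyp G p) {A : Subgroup G} (hA : MaxAb A)
    (x : G) (hx : x ∉ A) : Nat.card (commMap hA x).range = p := by
  classical
  haveI := hA.normal
  haveI : Finite (A →* ℂˣ) := finite_hom_units
  obtain ⟨y, hy⟩ := hA.exists_indep h x hx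
  let g : Option (Fin p) → G := fun j => match j with
    | none => x
    | some i => x ^ (i : ℕ) * y
  have hg : ∀ j, g j ∉ A := by
    intro j
    cases j with
    | none => exact hx
    | some i => exact hy i
  rw [← index_fixSub]
  have hι : Fintype.card (Option (Fin p)) = p + 1 := by
    rw [Fintype.card_option, Fintype.card_fin]
  have key := index_eq_of_cover p h.prime hι (fun j => fixSub hA (g j))
    (fixSub hA x ⊓ fixSub hA y)
    (fun j => le_index_fixSub h hA (g j) (hg j)) ?_ ?_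
  · exact key none
  · intro i j hij
    ext lam
    simp only [Subgroup.mem_inf, mem_fixSub_iff_stab]
    have hxp := (hA.stab_props h lam).2.2.1 x
    cases i with
    | none =>
      cases j with
      | none => exact absurd rfl hij
      | some j => exact pair_mem_iff₁ _ x y j
    | some i =>
      cases j with
      | none =>
        rw [and_comm]
        exact pair_mem_iff₁ _ x y i
      | some j =>
        apply pair_mem_iff₂ _ x y h.prime hxp i j i.2 j.2
        intro hc
        apply hij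
        rw [Fin.ext hc]
  · intro lam
    by_cases hxT : x ∈ stabHom A lam
    · exact ⟨none, (mem_fixSub_iff_stab hA x lam).mpr hxT⟩
    · obtain ⟨i, hi, hmem⟩ := (hA.stab_props h lam).2.1 x hxT y
      exact ⟨some ⟨i, hi⟩, (mem_fixSub_iff_stab hA _ lam).mpr hmem⟩

end Cfsg.Agent.Helper6.Cdp
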