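import Mathlib
import Cfsg.Prelude.Def_Characters
import Cfsg.Agent.Helper6.CdpD

/-!
# Groups with character degrees `1` and `p`: maximal abelian normal subgroups, part 2

Under the standing hypotheses, a maximal abelian normal subgroup `A` satisfies `[A, G] ≤ Z(G)`,
`|A : Z(G)| = p`, and `C_A(u) = Z(G)` for every `u ∉ A`.
-/

set_option autoImplicit false

namespace Cfsg.Agent.Helper6.Cdp

open scoped ComplexConjugate

universe u

variable {G : Type u} [Group G]

/-- Commutators of elements of `A` with arbitrary elements are central. -/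
theorem MaxAb.commMap_mem_center [Finite G] {p : ℕ} (h : Hyp G p) {A : Subgroup G}
    (hA : MaxAb A) (g : G) (a : A) : ((commMap hA g a : A) : G) ∈ Subgroup.center G := by
  haveI := hA.normal
  haveI := h.isNilpotent
  by_cases hg : g ∈ A
  · have : commMap hA g a = 1 := (commMap_eq_one_iff hA g a).mpr (hA.ab g hg a a.2)
    rw [this]
    exact Subgroup.one_mem _
  · set L := (commMap hA g).range.map A.subtype with hL
    have hcard : Nat.card L = p := by
      rw [hL, Subgroup.card_map_of_injective A.subtype_injective]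
      exact hA.card_range_eq h g hg
    haveI hLn : L.Normal := by
      refine ⟨fun z hz k => ?_⟩
      obtain ⟨w, ⟨b, rfl⟩, rfl⟩ := hz
      refine ⟨commMap hA g ⟨k * b * k⁻¹, hA.normal.conj_mem b b.2 k⟩, ⟨_, rfl⟩, ?_⟩
      have hc : g⁻¹ * k * g * k⁻¹ ∈ A := by
        have := hA.comm_mem h g⁻¹ k
        rwa [inv_inv] at this
      have hcb : (g⁻¹ * k * g * k⁻¹) * (k * b * k⁻¹) = (k * b * k⁻¹) * (g⁻¹ * k * g * k⁻¹) :=
        hA.ab _ hc _ (hA.normal.conj_mem b b.2 k)
      simp only [Subgroup.coe_subtype, commMap_coe]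
      symm
      calc k * (g * b * g⁻¹ * (b : G)⁻¹) * k⁻¹
          = g * ((g⁻¹ * k * g * k⁻¹) * (k * b * k⁻¹)) * (g⁻¹ * k * g * k⁻¹)⁻¹ * g⁻¹ *
              (k * b * k⁻¹)⁻¹ := by group
        _ = g * ((k * b * k⁻¹) * (g⁻¹ * k * g * k⁻¹)) * (g⁻¹ * k * g * k⁻¹)⁻¹ * g⁻¹ *
              (k * b * k⁻¹)⁻¹ := by rw [hcb]
        _ = g * (k * b * k⁻¹) * g⁻¹ * (k * b * k⁻¹)⁻¹ := by group
    have hle := le_center_of_card_prime L h.prime hcard
    apply hle
    exact ⟨commMap hA g a, ⟨a, rfl⟩, rfl⟩

theorem MaxAb.commMap_mul [Finite G] {p : ℕ} (h : Hyp G p) {A : Subgroup G}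
    (hA : MaxAb A) (g k : G) (a : A) :
    commMap hA (g * k) a = commMap hA k a * commMap hA g a := by
  apply Subtype.ext
  have hz := Subgroup.mem_center_iff.mp (hA.commMap_mem_center h k a)
  have hz' : g * (k * a * k⁻¹ * (a : G)⁻¹) = (k * a * k⁻¹ * (a : G)⁻¹) * g := hz g
  simp only [Subgroup.coe_mul, commMap_coe]
  calc g * k * a * (g * k)⁻¹ * (a : G)⁻¹
      = (g * (k * a * k⁻¹ * (a : G)⁻¹)) * a * g⁻¹ * (a : G)⁻¹ := by group
    _ = ((k * a * k⁻¹ * (a : G)⁻¹) * g) * a * g⁻¹ * (a : G)⁻¹ := by rw [hz']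
    _ = k * a * k⁻¹ * (a : G)⁻¹ * (g * a * g⁻¹ * (a : G)⁻¹) := by group

/-- Two subgroups of prime order sharing a nontrivial element are equal. -/
theorem le_of_card_prime_of_mem {H : Type*} [Group H] (R R' : Subgroup H) {p : ℕ}
    (hp : p.Prime) (hR : Nat.card R = p) (z : H) (hz : z ∈ R) (hz' : z ∈ R')
    (hz1 : z ≠ 1) : R ≤ R' := by
  haveI : Fact (Nat.card R).Prime := ⟨by rw [hR]; exact hp⟩
  rcases (R'.subgroupOf R).eq_bot_or_eq_top_of_prime_card with h1 | h1
  · exfalso
    have h2 : (⟨z, hz⟩ : R) ∈ R'.subgroupOf R := hz'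
    rw [h1, Subgroup.mem_bot] at h2
    exact hz1 (congrArg Subtype.val h2)
  · exact Subgroup.subgroupOf_eq_top.mp h1

theorem eq_of_card_prime_of_mem {H : Type*} [Group H] (R R' : Subgroup H) {p : ℕ}
    (hp : p.Prime) (hR : Nat.card R = p) (hR' : Nat.card R' = p) (z : H) (hz : z ∈ R)
    (hz' : z ∈ R') (hz1 : z ≠ 1) : R = R' :=
  le_antisymm (le_of_card_prime_of_mem R R' hp hR z hz hz' hz1)
    (le_of_card_prime_of_mem R' R hp hR' z hz' hz hz1)

theorem eq_of_le_of_index_eq {H : Type*} [Group H] [Finite H] (K K' : Subgroup H) (hle : K ≤ K')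
    (hidx : K.index = K'.index) : K = K' := by
  have h1 := Subgroup.relIndex_mul_index hle
  rw [hidx] at h1
  have hpos : 0 < K'.index := Nat.pos_of_ne_zero Subgroup.index_ne_zero_of_finite
  have h2 : K.relIndex K' = 1 := by
    have : K.relIndex K' * K'.index = 1 * K'.index := by rw [h1, one_mul]
    exact Nat.eq_of_mul_eq_mul_right hpos this
  exact le_antisymm hle (Subgroup.relIndex_eq_one.mp h2)

theorem MaxAb.index_ker [Finite G] {p : ℕ} (h : Hyp G p) {A : Subgroup G}
    (hA : MaxAb A) (g : G) (hg : g ∉ A) : (commMap hA g).ker.index = p := by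
  rw [Subgroup.index_ker]
  exact hA.card_range_eq h g hg

/-- The dichotomy: different centralizers in `A` force equal commutator groups. -/
theorem MaxAb.range_eq_of_ker_ne [Finite G] {p : ℕ} (h : Hyp G p) {A : Subgroup G}
    (hA : MaxAb A) (g k : G) (hg : g ∉ A) (hk : k ∉ A)
    (hne : (commMap hA g).ker ≠ (commMap hA k).ker) :
    (commMap hA g).range = (commMap hA k).range := by
  have hig := hA.index_ker h g hg
  have hik := hA.index_ker h k hk
  have h1 : ¬ (commMap hA g).ker ≤ (commMap hA k).ker := by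
    intro hle
    exact hne (eq_of_le_of_index_eq _ _ hle (by rw [hig, hik]))
  have h2 : ¬ (commMap hA k).ker ≤ (commMap hA g).ker := by
    intro hle
    exact hne (eq_of_le_of_index_eq _ _ hle (by rw [hig, hik])).symm
  obtain ⟨a, hag, hak⟩ := SetLike.not_le_iff_exists.mp h1
  obtain ⟨b, hbk, hbg⟩ := SetLike.not_le_iff_exists.mp h2
  rw [MonoidHom.mem_ker] at hag hak hbk hbg
  have hua : commMap hA (g * k) a = commMap hA k a := by
    rw [hA.commMap_mul h, hag, mul_one]
  have hub : commMap hA (g * k) b = commMap hA g b := by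
    rw [hA.commMap_mul h, hbk, one_mul]
  have hu : g * k ∉ A := by
    intro hmem
    apply hak
    rw [← hua, commMap_eq_one_iff]
    exact hA.ab _ hmem a a.2
  have hcu := hA.card_range_eq h (g * k) hu
  have hcg := hA.card_range_eq h g hg
  have hck := hA.card_range_eq h k hk
  have e1 : (commMap hA k).range = (commMap hA (g * k)).range :=
    eq_of_card_prime_of_mem _ _ h.prime hck hcu (commMap hA k a) ⟨a, rfl⟩ ⟨a, hua⟩ hak
  have e2 : (commMap hA g).range = (commMap hA (g * k)).range :=
    eq_of_card_prime_of_mem _ _ h.prime hcg hcu (commMap hA g b) ⟨b, rfl⟩ ⟨b, hub⟩ hbg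
  rw [e1, e2]

theorem MaxAb.exists_not_mem {p : ℕ} (h : Hyp G p) {A : Subgroup G} (hA : MaxAb A) :
    ∃ x : G, x ∉ A := by
  by_contra hcon
  push Not at hcon
  exact hA.ne_top h (eq_top_iff.mpr (fun x _ => hcon x))

/-- The main structural properties of a maximal abelian normal subgroup. -/
theorem MaxAb.props [Finite G] {p : ℕ} (h : Hyp G p) {A : Subgroup G} (hA : MaxAb A) :
    (∀ u : G, u ∉ A → ∀ b : A, u * b = b * u → (b : G) ∈ Subgroup.center G) ∧
      (Subgroup.center G).relIndex A = p := by
  haveI := hA.normal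
  obtain ⟨x, hx⟩ := hA.exists_not_mem h
  by_cases hall : ∀ g k : G, g ∉ A → k ∉ A → (commMap hA g).range = (commMap hA k).range
  · -- impossible
    exfalso
    have hcard := hA.card_range_eq h x hx
    have hne : (commMap hA x).range ≠ ⊥ := by
      intro hbot
      rw [hbot, Subgroup.card_bot] at hcard
      exact h.prime.one_lt.ne hcard
    obtain ⟨⟨l, hl⟩, hl1⟩ := Subgroup.ne_bot_iff_exists_ne_one.mp hne
    have hl1' : l ≠ 1 := fun h0 => hl1 (Subtype.ext h0)
    obtain ⟨lam, hlam⟩ := exists_hom_ne_one hA.comm l hl1'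
    have hTA : stabHom A lam ≤ A := by
      intro g hgT
      by_contra hgA
      have hr : l ∈ (commMap hA g).range := by
        rw [hall g x hgA hx]
        exact hl
      obtain ⟨a, ha⟩ := hr
      have := (mem_fixSub_iff_stab hA g lam).mpr hgT a
      rw [ha] at this
      exact hlam this
    have hTeq : stabHom A lam = A := le_antisymm hTA (le_stabHom A hA.ab lam)
    rcases (stab_data p h.prime h.cd A lam).1 with h1 | h1
    · rw [hTeq] at h1
      exact hA.ne_top h (Subgroup.index_eq_one.mp h1)
    · rw [hTeq] at h1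
      exact h.noab A hA.normal hA.ab h1
  · push Not at hall
    obtain ⟨g, k, hg, hk, hgk⟩ := hall
    have hker : (commMap hA g).ker = (commMap hA k).ker := by
      by_contra hne
      exact hgk (hA.range_eq_of_ker_ne h g k hg hk hne)
    have hkerall : ∀ u : G, u ∉ A → (commMap hA u).ker = (commMap hA g).ker := by
      intro u hu
      by_cases hr : (commMap hA u).range = (commMap hA g).range
      · rw [hker]
        by_contra hne
        apply hgk
        rw [← hr]
        exact hA.range_eq_of_ker_ne h u k hu hk hne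
      · by_contra hne
        exact hr (hA.range_eq_of_ker_ne h u g hu hg hne)
    have hZ : (commMap hA g).ker = (Subgroup.center G).subgroupOf A := by
      apply le_antisymm
      · intro c hc
        change (c : G) ∈ Subgroup.center G
        rw [Subgroup.mem_center_iff]
        intro u
        by_cases hu : u ∈ A
        · exact hA.ab u hu c c.2
        · have : c ∈ (commMap hA u).ker := by
            rw [hkerall u hu]
            exact hc
          exact (commMap_eq_one_iff hA u c).mp (MonoidHom.mem_ker.mp this)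
      · intro a ha
        rw [MonoidHom.mem_ker, commMap_eq_one_iff]
        have : (a : G) ∈ Subgroup.center G := ha
        exact (Subgroup.mem_center_iff.mp this g)
    constructor
    · intro u hu b hub
      have : b ∈ (commMap hA u).ker := by
        rw [MonoidHom.mem_ker, commMap_eq_one_iff]
        exact hub
      rw [hkerall u hu, hZ] at this
      exact this
    · change ((Subgroup.center G).subgroupOf A).index = p
      rw [← hZ]
      exact hA.index_ker h g hg

end Cfsg.Agent.Helper6.Cdp
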