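import Mathlib
import Cfsg.Prelude.Def_Characters
import Cfsg.Agent.Helper6.CdpE
import Cfsg.Agent.Helper6.Extraspecial
import Cfsg.Agent.Helper6.RepEigen
import Cfsg.Agent.Helper6.FaithfulIrr

/-!
# Groups with character degrees `1` and `p`: a fully ramified character

If every non-central element `s` of `G` is conjugate to `c₀ s` for a fixed central `c₀ ≠ 1`, then
`G` has an irreducible character whose degree squared is the index of the centre.
-/

set_option autoImplicit false

namespace Cfsg.Agent.Helper6.Cdp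

open scoped ComplexConjugate
open Module

universe u

variable {G : Type u} [Group G]

theorem exists_fully_ramified [Finite G] (c₀ : G) (hc₀ : c₀ ∈ Subgroup.center G) (hc1 : c₀ ≠ 1)
    (hconj : ∀ s : G, s ∉ Subgroup.center G → ∃ g : G, g * s * g⁻¹ = c₀ * s) :
    ∃ χ : Cfsg.IrrCharacter G,
      Cfsg.charDegree (χ : G → ℂ) ^ 2 = (Subgroup.center G).index := by
  classical
  haveI := Fintype.ofFinite G
  obtain ⟨n, ρ, hirr, hρ⟩ := exists_irr_rep_ne_one c₀ hc1
  haveI := hirr
  have hχ : Cfsg.IsIrrCharacter G ρ.character := ⟨n, ρ, hirr, rfl⟩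
  obtain ⟨ω, hω⟩ := exists_scalar_of_mem_center ρ c₀ hc₀
  have hω1 : ω ≠ 1 := by
    intro h1
    rw [h1, one_smul] at hω
    exact hρ hω
  have hvanish : ∀ s : G, s ∉ Subgroup.center G → ρ.character s = 0 := by
    intro s hs
    obtain ⟨g, hg⟩ := hconj s hs
    have h2 : ρ.character (g * s * g⁻¹) = ρ.character s := Representation.char_conj ρ s g
    rw [hg] at h2
    have h3 : ρ.character (c₀ * s) = ω * ρ.character s := by
      unfold Representation.character
      rw [map_mul, hω]
      change LinearMap.trace ℂ _ ((ω • (1 : Module.End ℂ (Fin n → ℂ))) * ρ s) = _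
      rw [smul_mul_assoc, one_mul, map_smul, smul_eq_mul]
    rw [h3] at h2
    have h4 : (ω - 1) * ρ.character s = 0 := by
      rw [sub_mul, h2, one_mul, sub_self]
    rcases mul_eq_zero.mp h4 with h5 | h5
    · exact absurd (sub_eq_zero.mp h5) hω1
    · exact h5
  have h1 := sum_norm_sq_irr hχ
  have h2 : ∑ g : G, ‖ρ.character g‖ ^ 2 =
      ∑ g ∈ Finset.univ.filter (fun g : G => g ∈ Subgroup.center G),
        ((finrank ℂ (Fin n → ℂ) : ℝ)) ^ 2 := by
    rw [Finset.sum_filter]
    apply Finset.sum_congr rfl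
    intro g _
    split_ifs with hg
    · have := (norm_char_eq_iff ρ g).mpr (exists_scalar_of_mem_center ρ g hg)
      rw [this]
    · rw [hvanish g hg]
      simp
  rw [h2, Finset.sum_const, nsmul_eq_mul] at h1
  have h3 : (Finset.univ.filter (fun g : G => g ∈ Subgroup.center G)).card =
      Nat.card (Subgroup.center G) := by
    rw [Nat.card_eq_fintype_card, Fintype.card_subtype]
  rw [h3, Module.finrank_fin_fun] at h1
  have h4 : Nat.card (Subgroup.center G) * n ^ 2 = Nat.card G := by exact_mod_cast h1
  refine ⟨⟨ρ.character, hχ⟩, ?_⟩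
  change Cfsg.charDegree ρ.character ^ 2 = _
  rw [charDegree_rep]
  have h5 := Subgroup.card_mul_index (Subgroup.center G)
  rw [← h4] at h5
  have hpos : 0 < Nat.card (Subgroup.center G) := Nat.card_pos
  exact (Nat.eq_of_mul_eq_mul_left hpos h5).symm

end Cfsg.Agent.Helper6.Cdp
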