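import Mathlib
import Cfsg.Prelude.Def_Characters
import Cfsg.Agent.Helper6.CdpF

/-!
# Groups with character degrees `1` and `p`: the index of the centre

Under the standing hypotheses `Cdp.Hyp G p` the centre of `G` has index `p ^ 3`.
-/

set_option autoImplicit false

namespace Cfsg.Agent.Helper6.Cdp

open scoped ComplexConjugate Pointwise

universe u

variable {G : Type u} [Group G]

/-- `A = ⟨a⟩ Z(G)` for `a ∈ A` non-central. -/
theorem MaxAb.exists_pow_mul [Finite G] {p : ℕ} (h : Hyp G p) {A : Subgroup G} (hA : MaxAb A)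
    (a : A) (ha : (a : G) ∉ Subgroup.center G) (b : A) :
    ∃ (i : ℕ) (z : A), (z : G) ∈ Subgroup.center G ∧ b = a ^ i * z := by
  haveI : Fact p.Prime := ⟨h.prime⟩
  set ZA := (Subgroup.center G).subgroupOf A with hZA
  haveI : ZA.Normal := normal_of_comm hA.comm ZA
  have hcard : Nat.card (A ⧸ ZA) = p := (hA.props h).2
  have ha1 : (a : A ⧸ ZA) ≠ 1 := fun h1 => ha ((QuotientGroup.eq_one_iff a).mp h1)
  have htop := zpowers_eq_top_of_prime_card hcard ha1
  have hb : (b : A ⧸ ZA) ∈ Subgroup.zpowers (a : A ⧸ ZA) := by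
    rw [htop]
    exact Subgroup.mem_top _
  rw [← mem_powers_iff_mem_zpowers] at hb
  obtain ⟨i, hi⟩ := hb
  have hi' : (a : A ⧸ ZA) ^ i = (b : A ⧸ ZA) := hi
  refine ⟨i, (a ^ i)⁻¹ * b, ?_, by group⟩
  have : ((a ^ i)⁻¹ * b : A) ∈ ZA := by
    rw [← QuotientGroup.eq_one_iff, QuotientGroup.mk_mul, QuotientGroup.mk_inv,
      QuotientGroup.mk_pow, hi', inv_mul_cancel]
  exact this

/-- The homomorphism `g ↦ [g, a]` from `G` to `A`. -/
noncomputable def iota [Finite G] {p : ℕ} (h : Hyp G p) {A : Subgroup G} (hA : MaxAb A)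
    (a : A) : G →* A where
  toFun g := commMap hA g a
  map_one' := by
    apply Subtype.ext
    simp [commMap_coe]
  map_mul' g k := (hA.commMap_mul h g k a).trans (hA.comm _ _)

theorem iota_apply [Finite G] {p : ℕ} (h : Hyp G p) {A : Subgroup G} (hA : MaxAb A)
    (a : A) (g : G) : iota h hA a g = commMap hA g a := rfl

theorem MaxAb.ker_iota [Finite G] {p : ℕ} (h : Hyp G p) {A : Subgroup G} (hA : MaxAb A)
    (a : A) (ha : (a : G) ∉ Subgroup.center G) : (iota h hA a).ker = A := by
  ext g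
  rw [MonoidHom.mem_ker, iota_apply, commMap_eq_one_iff]
  constructor
  · intro hga
    by_contra hgA
    exact ha ((hA.props h).1 g hgA a hga)
  · intro hg
    exact hA.ab g hg a a.2

theorem MaxAb.range_commMap_le [Finite G] {p : ℕ} (h : Hyp G p) {A : Subgroup G}
    (hA : MaxAb A) (a : A) (ha : (a : G) ∉ Subgroup.center G) (s : G) :
    (commMap hA s).range ≤ (iota h hA a).range := by
  rintro _ ⟨b, rfl⟩
  obtain ⟨i, z, hz, rfl⟩ := hA.exists_pow_mul h a ha b
  rw [map_mul, map_pow]
  have h1 : commMap hA s z = 1 :=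
    (commMap_eq_one_iff hA s z).mpr (Subgroup.mem_center_iff.mp hz s)
  rw [h1, mul_one]
  have h2 : commMap hA s a ∈ (iota h hA a).range := ⟨s, rfl⟩
  exact Subgroup.pow_mem _ h2 i

theorem MaxAb.card_range_le [Finite G] {p : ℕ} (h : Hyp G p) {A : Subgroup G}
    (hA : MaxAb A) (s : G) : Nat.card (commMap hA s).range ≤ p := by
  by_cases hs : s ∈ A
  · have : (commMap hA s).range = ⊥ := by
      rw [eq_bot_iff]
      rintro _ ⟨b, rfl⟩
      rw [Subgroup.mem_bot, commMap_eq_one_iff]
      exact hA.ab s hs b b.2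
    rw [this, Subgroup.card_bot]
    exact h.prime.one_lt.le
  · exact (hA.card_range_eq h s hs).le

/-- If `|G : A| > p²` then every commutator of `G` has the form `[g, a]`. -/
theorem MaxAb.comm_mem_range [Finite G] {p : ℕ} (h : Hyp G p) {A : Subgroup G}
    (hA : MaxAb A) (a : A) (ha : (a : G) ∉ Subgroup.center G) (hbig : p * p < A.index)
    (s t : G) : ∃ g : G, ((commMap hA g a : A) : G) = s * t * s⁻¹ * t⁻¹ := by
  haveI := hA.normal
  set E := (iota h hA a).range with hE
  have hcA := hA.comm_mem h s t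
  set c : A := ⟨s * t * s⁻¹ * t⁻¹, hcA⟩ with hc
  by_contra hcon
  have hcE : c ∉ E := by
    rintro ⟨g, hg⟩
    apply hcon
    exact ⟨g, congrArg Subtype.val hg⟩
  set E₀ := (commMap hA s).range ⊔ (commMap hA t).range with hE₀
  have hE₀E : E₀ ≤ E :=
    sup_le (hA.range_commMap_le h a ha s) (hA.range_commMap_le h a ha t)
  have hcardE : Nat.card E = A.index := by
    rw [hE, ← Subgroup.index_ker, hA.ker_iota h a ha]
  have hcardE₀ : Nat.card E₀ ≤ p * p := by
    haveI : (commMap hA t).range.Normal := normal_of_comm hA.comm _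
    have h1 : ((E₀ : Subgroup A) : Set A) =
        ((commMap hA s).range : Set A) * ((commMap hA t).range : Set A) :=
      Subgroup.mul_normal _ _
    calc Nat.card E₀ = Nat.card ((E₀ : Subgroup A) : Set A) := rfl
      _ = Nat.card ↑(((commMap hA s).range : Set A) * ((commMap hA t).range : Set A)) := by
          rw [h1]
      _ ≤ Nat.card ((commMap hA s).range : Set A) * Nat.card ((commMap hA t).range : Set A) :=
          Set.natCard_mul_le
      _ ≤ p * p := Nat.mul_le_mul (hA.card_range_le h s) (hA.card_range_le h t)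
  obtain ⟨e, heE, heE₀⟩ : ∃ e, e ∈ E ∧ e ∉ E₀ := by
    by_contra hno
    push Not at hno
    have h1 : E ≤ E₀ := fun e he => hno e he
    have h2 := Subgroup.card_le_of_le h1
    omega
  have hcE₀ : c ∉ E₀ := fun hmem => hcE (hE₀E hmem)
  obtain ⟨l1, hl1, hl1c⟩ := exists_hom_sep hA.comm E₀ c hcE₀
  obtain ⟨l2, hl2, hl2e⟩ := exists_hom_sep hA.comm E₀ e heE₀
  obtain ⟨lam, hlam0, hlamc, e', he'E, hlame⟩ : ∃ lam : A →* ℂˣ,
      (∀ m ∈ E₀, lam m = 1) ∧ lam c ≠ 1 ∧ ∃ e' ∈ E, lam e' ≠ 1 := by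
    by_cases hc1 : ∃ e' ∈ E, l1 e' ≠ 1
    · exact ⟨l1, hl1, hl1c, hc1⟩
    · push Not at hc1
      by_cases hc2 : l2 c ≠ 1
      · exact ⟨l2, hl2, hc2, e, heE, hl2e⟩
      · push Not at hc2
        refine ⟨l1 * l2, ?_, ?_, e, heE, ?_⟩
        · intro m hm
          rw [MonoidHom.mul_apply, hl1 m hm, hl2 m hm, one_mul]
        · rw [MonoidHom.mul_apply, hc2, mul_one]
          exact hl1c
        · rw [MonoidHom.mul_apply, hc1 e heE, one_mul]
          exact hl2e
  obtain ⟨g₀, rfl⟩ := he'E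
  have hg₀ : g₀ ∉ stabHom A lam := by
    intro hmem
    exact hlame ((mem_fixSub_iff_stab hA g₀ lam).mpr hmem a)
  have hsT : s ∈ stabHom A lam :=
    (mem_fixSub_iff_stab hA s lam).mp
      (fun b => hlam0 _ ((le_sup_left : (commMap hA s).range ≤ E₀) ⟨b, rfl⟩))
  have htT : t ∈ stabHom A lam :=
    (mem_fixSub_iff_stab hA t lam).mp
      (fun b => hlam0 _ ((le_sup_right : (commMap hA t).range ≤ E₀) ⟨b, rfl⟩))
  have hidx : (stabHom A lam).index = p := by
    rcases (stab_data p h.prime h.cd A lam).1 with h1 | h1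
    · exfalso
      apply hg₀
      rw [Subgroup.index_eq_one.mp h1]
      exact Subgroup.mem_top _
    · exact h1
  obtain ⟨μ, hμ⟩ := (stab_data p h.prime h.cd A lam).2 hidx
  have hcT : (c : G) ∈ stabHom A lam := le_stabHom A hA.ab lam c.2
  have h1 := hμ c hcT
  have h2 : (⟨(c : G), hcT⟩ : stabHom A lam) =
      ⟨s, hsT⟩ * ⟨t, htT⟩ * (⟨s, hsT⟩)⁻¹ * (⟨t, htT⟩)⁻¹ := Subtype.ext rfl
  rw [h2, map_mul, map_mul, map_mul, map_inv, map_inv] at h1
  apply hlamc
  rw [← h1, mul_comm (μ ⟨s, hsT⟩) (μ ⟨t, htT⟩), mul_inv_cancel_right, mul_inv_cancel]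

/-- The index of the centre under the standing hypotheses. -/
theorem Hyp.index_center [Finite G] {p : ℕ} (h : Hyp G p) :
    (Subgroup.center G).index = p ^ 3 := by
  haveI := h.isNilpotent
  obtain ⟨A, hAn, hAab, -, hAmax⟩ := exists_maximal_abelian_normal (⊥ : Subgroup G)
    inferInstance (by
      intro a ha b hb
      rw [Subgroup.mem_bot] at ha hb
      rw [ha, hb])
  have hA : MaxAb A := ⟨hAn, hAab, hAmax⟩
  have hrel := (hA.props h).2
  have hidx : (Subgroup.center G).index = p * A.index := by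
    rw [← Subgroup.relIndex_mul_index (hA.center_le h), hrel]
  obtain ⟨n, hn⟩ := h.card_center_quotient
  have hdvd : A.index ∣ p ^ n := by
    rw [← hn]
    exact Subgroup.index_dvd_of_le (hA.center_le h)
  obtain ⟨k, -, hk⟩ := (Nat.dvd_prime_pow h.prime).mp hdvd
  have hk0 : k ≠ 0 := by
    intro h0
    rw [h0, pow_zero] at hk
    exact hA.ne_top h (Subgroup.index_eq_one.mp hk)
  have hk1 : k ≠ 1 := by
    intro h1
    rw [h1, pow_one] at hk
    exact h.noab A hAn hAab hk
  by_cases hk2 : k = 2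
  · rw [hidx, hk, hk2]
    ring
  · exfalso
    have hk3 : 3 ≤ k := by omega
    have hp1 : 1 < p := h.prime.one_lt
    have hbig : p * p < A.index := by
      rw [hk]
      calc p * p = p ^ 2 := (sq p).symm
        _ < p ^ 3 := Nat.pow_lt_pow_right hp1 (by norm_num)
        _ ≤ p ^ k := Nat.pow_le_pow_right h.prime.pos hk3
    obtain ⟨a, ha⟩ : ∃ a : A, (a : G) ∉ Subgroup.center G := by
      by_contra hno
      push Not at hno
      have h1 : A ≤ Subgroup.center G := fun x hx => hno ⟨x, hx⟩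
      have h2 : (Subgroup.center G).relIndex A = 1 := Subgroup.relIndex_eq_one.mpr h1
      rw [hrel] at h2
      exact hp1.ne' h2
    have hcomm_central : ∀ s t : G, s * t * s⁻¹ * t⁻¹ ∈ Subgroup.center G := by
      intro s t
      obtain ⟨g, hg⟩ := hA.comm_mem_range h a ha hbig s t
      rw [← hg]
      exact hA.commMap_mem_center h g a
    obtain ⟨u, v, huv⟩ := h.nonab
    have hc₀1 : u * v * u⁻¹ * v⁻¹ ≠ 1 := by
      intro h1
      apply huv
      have : u * v = (u * v * u⁻¹ * v⁻¹) * (v * u) := by group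
      rw [this, h1, one_mul]
    have hconj : ∀ s : G, s ∉ Subgroup.center G →
        ∃ g : G, g * s * g⁻¹ = (u * v * u⁻¹ * v⁻¹) * s := by
      intro s hs
      have hcomm_s : ∀ z ∈ Subgroup.center G, Commute z s := fun z hz =>
        (Subgroup.mem_center_iff.mp hz s).symm
      obtain ⟨hB₀n, hB₀ab⟩ := sup_zpowers_normal_abelian (Subgroup.center G)
        (fun x hx y _ => (Subgroup.mem_center_iff.mp hx y).symm) s hcomm_s
        (fun g => hcomm_central s g)
      obtain ⟨A', hA'n, hA'ab, hB₀A', hA'max⟩ := exists_maximal_abelian_normal _ hB₀n hB₀ab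
      have hA' : MaxAb A' := ⟨hA'n, hA'ab, hA'max⟩
      have hsA' : s ∈ A' := hB₀A' ((le_sup_right : Subgroup.zpowers s ≤ _)
        (Subgroup.mem_zpowers s))
      have hrel' := (hA'.props h).2
      have hidx' : (Subgroup.center G).index = p * A'.index := by
        rw [← Subgroup.relIndex_mul_index (hA'.center_le h), hrel']
      have hA'idx : A'.index = A.index := by
        rw [hidx] at hidx'
        exact (Nat.eq_of_mul_eq_mul_left h.prime.pos hidx').symm
      have hbig' : p * p < A'.index := by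
        rw [hA'idx]
        exact hbig
      obtain ⟨g, hg⟩ := hA'.comm_mem_range h ⟨s, hsA'⟩ hs hbig' u v
      refine ⟨g, ?_⟩
      rw [commMap_coe] at hg
      have hg' : g * s * g⁻¹ * s⁻¹ = u * v * u⁻¹ * v⁻¹ := hg
      calc g * s * g⁻¹ = (g * s * g⁻¹ * s⁻¹) * s := by group
        _ = (u * v * u⁻¹ * v⁻¹) * s := by rw [hg']
    obtain ⟨χ, hχ⟩ := exists_fully_ramified _ (hcomm_central u v) hc₀1 hconj
    rw [hidx, hk] at hχ
    rcases h.cd χ with h1 | h1
    · rw [h1, one_pow] at hχ
      have h2 : p * p ^ k = p ^ (k + 1) := by ring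
      rw [h2] at hχ
      have := Nat.one_lt_pow (n := k + 1) (by omega) hp1
      omega
    · rw [h1] at hχ
      have h2 : p * p ^ k = p ^ (k + 1) := by ring
      rw [h2] at hχ
      have := Nat.pow_right_injective (hp1 : 2 ≤ p) hχ
      omega

end Cfsg.Agent.Helper6.Cdp
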