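import Mathlib
import Cfsg.Prelude.Def_Characters
import Cfsg.Agent.Helper6.CdpG
import Cfsg.Agent.Helper6.Ito
import Cfsg.Agent.Helper6.CenterDvd
import Cfsg.Agent.Helper6.CentralBound

/-!
# Groups with character degrees `1` and `p` (Isaacs 12.11): assembly

* `Cdp.cdp_forward`: if all irreducible character degrees are `1` or `p` and `G` is not abelian,
  then `G` has an abelian normal subgroup of index `p` or `|G : Z(G)| = p ^ 3` (given the
  conclusion of Isaacs 12.5).
* `Cdp.cdp_backward`: the converse.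
-/

set_option autoImplicit false

namespace Cfsg.Agent.Helper6.Cdp

open scoped ComplexConjugate
open Module

universe u

variable {G : Type u} [Group G]

theorem cdp_forward [Finite G] (p : ℕ) (hp : p.Prime) (hG : ∃ a b : G, a * b ≠ b * a)
    (hcd : ∀ χ : Cfsg.IrrCharacter G, Cfsg.charDegree (χ : G → ℂ) = 1 ∨
      Cfsg.charDegree (χ : G → ℂ) = p)
    (h57 : (∃ A : Subgroup G, A.Normal ∧ (∀ a ∈ A, ∀ b ∈ A, a * b = b * a) ∧ A.index = p) ∨
      ∃ q e : ℕ, q.Prime ∧ p = q ^ e ∧ ∃ P A : Subgroup G, P.Normal ∧ A.Normal ∧ IsPGroup q P ∧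
        (∀ a ∈ A, ∀ b ∈ A, a * b = b * a) ∧ P ⊓ A = ⊥ ∧ P ⊔ A = ⊤) :
    (∃ A : Subgroup G, A.Normal ∧ (∀ a ∈ A, ∀ b ∈ A, a * b = b * a) ∧ A.index = p) ∨
      (Subgroup.center G).index = p ^ 3 := by
  rcases h57 with h1 | ⟨q, e, hq, hpe, P, A₀, hPn, hA₀n, hPq, hA₀ab, hinf, hsup⟩
  · exact Or.inl h1
  by_cases hex : ∃ A : Subgroup G, A.Normal ∧ (∀ a ∈ A, ∀ b ∈ A, a * b = b * a) ∧ A.index = p
  · exact Or.inl hex
  right
  obtain ⟨hqp, -⟩ := (Nat.Prime.pow_eq_iff hp).mp hpe.symm
  subst hqp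
  have hdis : Disjoint P A₀ := disjoint_iff.mpr hinf
  have hA₀Z : A₀ ≤ Subgroup.center G := by
    intro z hz
    rw [Subgroup.mem_center_iff]
    intro g
    have hg : g ∈ P ⊔ A₀ := by
      rw [hsup]
      exact Subgroup.mem_top _
    haveI := hPn
    obtain ⟨u, hu, w, hw, rfl⟩ := Subgroup.mem_sup_of_normal_left.mp hg
    have h1 : Commute u z := Subgroup.commute_of_normal_of_disjoint P A₀ hPn hA₀n hdis u z hu hz
    have h2 : Commute w z := hA₀ab w hw z hz
    exact (h1.mul_left h2)
  have hpgroup : IsPGroup q (G ⧸ Subgroup.center G) := by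
    intro x
    obtain ⟨g, rfl⟩ := QuotientGroup.mk_surjective x
    have hg : g ∈ P ⊔ A₀ := by
      rw [hsup]
      exact Subgroup.mem_top _
    haveI := hPn
    obtain ⟨u, hu, w, hw, rfl⟩ := Subgroup.mem_sup_of_normal_left.mp hg
    obtain ⟨k, hk⟩ := hPq ⟨u, hu⟩
    have hk' : u ^ (q ^ k) = 1 := by
      have := congrArg Subtype.val hk
      simpa using this
    refine ⟨k, ?_⟩
    have hcomm : Commute u w :=
      Subgroup.commute_of_normal_of_disjoint P A₀ hPn hA₀n hdis u w hu hw
    rw [← QuotientGroup.mk_pow, QuotientGroup.eq_one_iff, hcomm.mul_pow, hk', one_mul]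
    exact hA₀Z (A₀.pow_mem hw _)
  have hyp : Hyp G q :=
    { prime := hp
      cd := hcd
      pgroup := hpgroup
      noab := fun B hBn hBab hBidx => hex ⟨B, hBn, hBab, hBidx⟩
      nonab := hG }
  exact hyp.index_center

theorem cdp_backward [Finite G] (p : ℕ) (hp : p.Prime) (hG : ∃ a b : G, a * b ≠ b * a)
    (h : (∃ A : Subgroup G, A.Normal ∧ (∀ a ∈ A, ∀ b ∈ A, a * b = b * a) ∧ A.index = p) ∨
      (Subgroup.center G).index = p ^ 3) :
    (∀ χ : Cfsg.IrrCharacter G, Cfsg.charDegree (χ : G → ℂ) = 1 ∨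
      Cfsg.charDegree (χ : G → ℂ) = p) ∧
    ∃ χ : Cfsg.IrrCharacter G, Cfsg.charDegree (χ : G → ℂ) = p := by
  classical
  have hdeg : ∀ χ : Cfsg.IrrCharacter G, Cfsg.charDegree (χ : G → ℂ) = 1 ∨
      Cfsg.charDegree (χ : G → ℂ) = p := by
    intro χ
    obtain ⟨n, ρ, hirr, hρ⟩ := χ.2
    haveI := hirr
    have hn : Cfsg.charDegree (χ : G → ℂ) = n := by
      rw [← hρ, charDegree_rep]
    rw [hn]
    rcases h with ⟨A, hAn, hAab, hAidx⟩ | hZ
    · haveI := hAn
      have h1 := ito ρ A hAab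
      rw [Module.finrank_fin_fun, hAidx] at h1
      exact (Nat.dvd_prime hp).mp h1
    · have h1 := finrank_dvd_index_center ρ
      rw [Module.finrank_fin_fun, hZ] at h1
      obtain ⟨i, hi3, rfl⟩ := (Nat.dvd_prime_pow hp).mp h1
      have hbound := degree_bound_central_section (χ : G → ℂ) χ.2 ⊥ ⊤ (Subgroup.center G)
        bot_le le_top
        (by
          intro d hd c _
          rw [Subgroup.mem_bot]
          have := Subgroup.mem_center_iff.mp hd c
          rw [← this]
          group)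
        (by
          intro b hb
          rw [Subgroup.mem_bot] at hb
          rw [hb])
      have hχ1 : (χ : G → ℂ) 1 = ((p ^ i : ℕ) : ℂ) := by
        rw [← hρ, Representation.char_one, Module.finrank_fin_fun]
      rw [hχ1, Subgroup.card_top] at hbound
      have hnorm : ‖(((p ^ i : ℕ) : ℂ))‖ = ((p ^ i : ℕ) : ℝ) := by
        rw [Complex.norm_natCast]
      rw [hnorm] at hbound
      have h2 := Subgroup.card_mul_index (Subgroup.center G)
      rw [hZ] at h2
      have hGpos : 0 < Nat.card G := Nat.card_pos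
      have hZpos : 0 < Nat.card (Subgroup.center G) := Nat.card_pos
      have h3 : (p ^ i) ^ 2 * Nat.card G * Nat.card (Subgroup.center G) ≤ Nat.card G ^ 2 := by
        exact_mod_cast hbound
      have h4 : (p ^ i) ^ 2 ≤ p ^ 3 := by
        have h5 : (p ^ i) ^ 2 * Nat.card (Subgroup.center G) * Nat.card G ≤
            p ^ 3 * Nat.card (Subgroup.center G) * Nat.card G := by
          calc (p ^ i) ^ 2 * Nat.card (Subgroup.center G) * Nat.card G
              = (p ^ i) ^ 2 * Nat.card G * Nat.card (Subgroup.center G) := by ring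
            _ ≤ Nat.card G ^ 2 := h3
            _ = p ^ 3 * Nat.card (Subgroup.center G) * Nat.card G := by
                rw [← h2]
                ring
        exact Nat.le_of_mul_le_mul_right (Nat.le_of_mul_le_mul_right h5 hGpos) hZpos
      rw [← pow_mul] at h4
      have h6 : i * 2 ≤ 3 := (Nat.pow_le_pow_iff_right hp.one_lt).mp h4
      have hi : i = 0 ∨ i = 1 := by omega
      rcases hi with rfl | rfl
      · left
        rfl
      · right
        exact pow_one p
  refine ⟨hdeg, ?_⟩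
  by_contra hno
  push Not at hno
  obtain ⟨a, b, hab⟩ := hG
  apply hab
  apply (comm_iff_forall_irr_degree_one (G := G)).mpr
  intro χ
  have h1 : Cfsg.charDegree (χ : G → ℂ) = 1 := by
    rcases hdeg χ with h1 | h1
    · exact h1
    · exact absurd h1 (hno χ)
  rw [← charDegree_cast_of_isCharacter (IsIrrCharacter.isCharacter χ.2), h1, Nat.cast_one]

end Cfsg.Agent.Helper6.Cdp
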