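import Mathlib
import Cfsg.Prelude.Def_Characters
import Cfsg.Prelude.Def_Blocks
import Cfsg.Prelude.Def_BlockRank
import Cfsg.Agent.Helper6.CentralDefectA
import Cfsg.Agent.Helper6.DefectClass
import Cfsg.Agent.Helper6.HeightZeroTrunc

/-!
# Central `p`-subgroups and characters of full degree (S0969)
-/

set_option autoImplicit false
set_option linter.style.haveILetI false

namespace Cfsg.Agent.Helper6

open Module
open scoped ComplexConjugate

universe u

variable {G : Type u} [Group G] {M : Ideal Cfsg.AlgInt}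

/-- the equality case of `card_mul_truncInt_le`: the character vanishes off the `P`-sections -/
theorem vanish_of_card_mul_truncInt_eq [Fintype G] (p : ℕ) [hp : Fact p.Prime] (P : Subgroup G)
    (hP : IsPGroup p P) (hPZ : P ≤ Subgroup.center G) (χ : Cfsg.IrrCharacter G)
    (heq : (Nat.card P : ℤ) * truncInt p χ χ = (p : ℤ) ^ (Nat.card G).factorization p)
    (g x : G) (hgx : Cfsg.IsPPart p g x) (hx : x ∉ P) : (χ : G → ℂ) g = 0 := by
  classical
  obtain ⟨F, hF⟩ : ∃ F : G → ℝ, ∀ g, F g = ‖(χ : G → ℂ) g‖ ^ 2 := ⟨_, fun _ => rfl⟩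
  have hFnn : ∀ g, 0 ≤ F g := fun g => by rw [hF]; positivity
  have hGpos : (0 : ℝ) < (Nat.card G : ℝ) := by exact_mod_cast Nat.card_pos
  have hG0 : (Nat.card G : ℂ) ≠ 0 := by
    have : 0 < Nat.card G := Nat.card_pos
    exact_mod_cast this.ne'
  -- the total norm
  have hsumF : ∑ g : G, F g = (Nat.card G : ℝ) := by
    have h1 := classInner_irr_self χ.2
    rw [classInner_self_eq] at h1
    have h2 : ((∑ g : G, ‖(χ : G → ℂ) g‖ ^ 2 : ℝ) : ℂ) = (Nat.card G : ℂ) := by
      have := congrArg (fun t => (Nat.card G : ℂ) * t) h1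
      beta_reduce at this
      rwa [← mul_assoc, mul_inv_cancel₀ hG0, one_mul, mul_one] at this
    simp_rw [hF]
    exact_mod_cast h2
  obtain ⟨Rf, hRf⟩ : ∃ Rf : Finset G, Rf = Finset.univ.filter (fun g : G => ¬ p ∣ orderOf g) :=
    ⟨_, rfl⟩
  obtain ⟨Pf, hPf⟩ : ∃ Pf : Finset G, Pf = Finset.univ.filter (fun g : G => g ∈ P) := ⟨_, rfl⟩
  have hR : ((truncInt p χ χ : ℤ) : ℝ) * (Nat.card G : ℝ) =
      ((p ^ (Nat.card G).factorization p : ℕ) : ℝ) * ∑ g ∈ Rf, F g := by
    have h1 := classInner_pRegularPart p χ χ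
    rw [classInner_self_eq] at h1
    have h2 : ∑ g : G, ‖Cfsg.pRegularPart p (χ : G → ℂ) g‖ ^ 2 = ∑ g ∈ Rf, F g := by
      rw [hRf, Finset.sum_filter]
      apply Finset.sum_congr rfl
      intro g _
      rw [pRegularPart_apply]
      split_ifs with h
      · simp
      · rw [hF]
    rw [h2] at h1
    have h3 : ((p ^ (Nat.card G).factorization p : ℕ) : ℂ) * ((∑ g ∈ Rf, F g : ℝ) : ℂ) =
        (truncInt p χ χ : ℂ) * (Nat.card G : ℂ) := by
      rw [← h1]
      field_simp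
    have h4 : (((truncInt p χ χ : ℤ) : ℝ) * (Nat.card G : ℝ) : ℂ) =
        ((((p ^ (Nat.card G).factorization p : ℕ) : ℝ) * ∑ g ∈ Rf, F g : ℝ) : ℂ) := by
      push_cast
      rw [← h3]
      push_cast
      rfl
    exact_mod_cast h4
  have hcomm : ∀ z ∈ Pf, ∀ s : G, Commute z s := by
    intro z hz s
    rw [hPf, Finset.mem_filter] at hz
    have := hPZ hz.2
    rw [Subgroup.mem_center_iff] at this
    exact (this s).symm
  have hzp : ∀ z ∈ Pf, ∃ k : ℕ, orderOf z = p ^ k := by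
    intro z hz
    rw [hPf, Finset.mem_filter] at hz
    obtain ⟨k, hk⟩ := (IsPGroup.iff_orderOf.mp hP) ⟨z, hz.2⟩
    exact ⟨k, by rw [← Subgroup.orderOf_coe] at hk; exact hk⟩
  have hinj : Set.InjOn (fun zs : G × G => zs.1 * zs.2)
      ((Pf ×ˢ Rf : Finset (G × G)) : Set (G × G)) := by
    rintro ⟨z, s⟩ hzs ⟨z', s'⟩ hzs' heq
    rw [Finset.mem_coe, Finset.mem_product] at hzs hzs'
    simp only at heq hzs hzs'
    have hs : ¬ p ∣ orderOf s := by
      have := hzs.2
      rw [hRf, Finset.mem_filter] at this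
      exact this.2
    have hs' : ¬ p ∣ orderOf s' := by
      have := hzs'.2
      rw [hRf, Finset.mem_filter] at this
      exact this.2
    have h1 : Cfsg.IsPPart p (z * s) z := ⟨s, rfl, hcomm z hzs.1 s, hzp z hzs.1, hs⟩
    have h2 : Cfsg.IsPPart p (z * s) z' := ⟨s', heq.symm, hcomm z' hzs'.1 s', hzp z' hzs'.1, hs'⟩
    have hzz := isPPart_unique p h1 h2
    subst hzz
    rw [Prod.mk.injEq]
    exact ⟨rfl, mul_left_cancel heq⟩
  have hval : ∀ z ∈ Pf, ∀ s : G, F (z * s) = F s := by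
    intro z hz s
    rw [hPf, Finset.mem_filter] at hz
    obtain ⟨ω, hω1, hω2⟩ := irr_center_mul χ z (hPZ hz.2)
    rw [hF, hF, hω2, norm_mul, hω1, one_mul]
  obtain ⟨Im, hIm⟩ : ∃ Im : Finset G, Im = (Pf ×ˢ Rf).image (fun zs : G × G => zs.1 * zs.2) :=
    ⟨_, rfl⟩
  have hsumIm : ∑ g ∈ Im, F g = (Nat.card P : ℝ) * ∑ g ∈ Rf, F g := by
    rw [hIm, Finset.sum_image hinj, Finset.sum_product]
    rw [Finset.sum_congr rfl (fun z hz => Finset.sum_congr rfl (fun s _ => hval z hz s)),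
      Finset.sum_const, nsmul_eq_mul]
    have h3 : Pf.card = Nat.card P := by
      rw [hPf, Nat.card_eq_fintype_card, Fintype.card_subtype]
    rw [h3]
  -- equality of the sums
  have hpa : (0 : ℝ) < ((p ^ (Nat.card G).factorization p : ℕ) : ℝ) := by
    have : 0 < p ^ (Nat.card G).factorization p := pow_pos hp.out.pos _
    exact_mod_cast this
  have heqR : (Nat.card P : ℝ) * ((truncInt p χ χ : ℤ) : ℝ) =
      ((p ^ (Nat.card G).factorization p : ℕ) : ℝ) := by
    have : (((Nat.card P : ℤ) * truncInt p χ χ : ℤ) : ℝ) =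
        (((p : ℤ) ^ (Nat.card G).factorization p : ℤ) : ℝ) := by rw [heq]
    push_cast at this
    push_cast
    exact this
  have hsumeq : ∑ g ∈ Im, F g = ∑ g : G, F g := by
    rw [hsumIm, hsumF]
    have h5 : ((p ^ (Nat.card G).factorization p : ℕ) : ℝ) * ((Nat.card P : ℝ) * ∑ g ∈ Rf, F g) =
        ((p ^ (Nat.card G).factorization p : ℕ) : ℝ) * (Nat.card G : ℝ) := by
      calc ((p ^ (Nat.card G).factorization p : ℕ) : ℝ) * ((Nat.card P : ℝ) * ∑ g ∈ Rf, F g)
          = (Nat.card P : ℝ) * (((p ^ (Nat.card G).factorization p : ℕ) : ℝ) * ∑ g ∈ Rf, F g) := by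
            ring
        _ = (Nat.card P : ℝ) * (((truncInt p χ χ : ℤ) : ℝ) * (Nat.card G : ℝ)) := by rw [hR]
        _ = ((Nat.card P : ℝ) * ((truncInt p χ χ : ℤ) : ℝ)) * (Nat.card G : ℝ) := by ring
        _ = ((p ^ (Nat.card G).factorization p : ℕ) : ℝ) * (Nat.card G : ℝ) := by rw [heqR]
    exact mul_left_cancel₀ hpa.ne' h5
  -- `g` is not in the image
  have hgIm : g ∉ Im := by
    intro hg
    rw [hIm, Finset.mem_image] at hg
    obtain ⟨⟨z, s⟩, hzs, hzsg⟩ := hg
    rw [Finset.mem_product] at hzs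
    simp only at hzs hzsg
    have hs : ¬ p ∣ orderOf s := by
      have := hzs.2
      rw [hRf, Finset.mem_filter] at this
      exact this.2
    have h1 : Cfsg.IsPPart p g z := ⟨s, hzsg, hcomm z hzs.1 s, hzp z hzs.1, hs⟩
    have hzx := isPPart_unique p h1 hgx
    apply hx
    rw [← hzx]
    have := hzs.1
    rw [hPf, Finset.mem_filter] at this
    exact this.2
  have hFg : F g = 0 := by
    have h1 : ∑ g ∈ Finset.univ \ Im, F g = 0 := by
      have h2 := Finset.sum_sdiff (f := F) (Finset.subset_univ Im)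
      rw [hsumeq] at h2
      linarith
    have h3 := (Finset.sum_eq_zero_iff_of_nonneg (fun i _ => hFnn i)).mp h1 g
      (by rw [Finset.mem_sdiff]; exact ⟨Finset.mem_univ _, hgIm⟩)
    exact h3
  rw [hF] at hFg
  have : ‖(χ : G → ℂ) g‖ = 0 := by
    exact pow_eq_zero_iff (two_ne_zero) |>.mp hFg
  exact norm_eq_zero.mp this

/-- **S0969** -/
theorem central_full_degree [Fintype G] {p : ℕ} [hp : Fact p.Prime]
    (hM : Cfsg.IsPModular p M) (D : Subgroup G) (hD : IsPGroup p D)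
    (hDZ : D ≤ Subgroup.center G) (χ : Cfsg.IrrCharacter G)
    (hdeg : (Cfsg.charDegree (χ : G → ℂ)).factorization p = D.index.factorization p) :
    Cfsg.IsDefectGroup p M (Cfsg.blockOf M (χ : G → ℂ)) D ∧
      ∀ g x : G, Cfsg.IsPPart p g x → x ∉ D → (χ : G → ℂ) g = 0 := by
  classical
  obtain ⟨a, ha⟩ : ∃ a : ℕ, a = (Nat.card G).factorization p := ⟨_, rfl⟩
  obtain ⟨ν, hν⟩ : ∃ ν : ℕ, ν = (Cfsg.charDegree (χ : G → ℂ)).factorization p := ⟨_, rfl⟩
  obtain ⟨t, ht⟩ : ∃ t : ℤ, t = truncInt p χ χ := ⟨_, rfl⟩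
  obtain ⟨m, hm⟩ : ∃ m : ℕ, m = Nat.card G / p ^ (Nat.card G).factorization p := ⟨_, rfl⟩
  obtain ⟨e, he⟩ := IsPGroup.exists_card_eq hD
  have hp0 : (0 : ℤ) < (p : ℤ) := by exact_mod_cast hp.out.pos
  have hea : e + ν = a := by
    have h1 := Subgroup.card_mul_index D
    have h2 : D.index ≠ 0 := Subgroup.index_ne_zero_of_finite
    have h3 : Nat.card D ≠ 0 := Nat.card_pos.ne'
    have h4 := congrArg (fun n => n.factorization p) h1
    beta_reduce at h4
    rw [Nat.factorization_mul h3 h2, Finsupp.add_apply, he, Nat.Prime.factorization_pow hp.out,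
      Finsupp.single_eq_same, ← hdeg, ← hν, ← ha] at h4
    exact h4
  have hmp : ¬ p ∣ m := by rw [hm]; exact not_dvd_ordCompl_card p
  have hd0 := charDegree_ne_zero_of_irr χ.2
  have htpos : 0 < t := by rw [ht]; exact truncInt_self_pos p χ
  have hT : truncSum p (χ : G → ℂ) (χ : G → ℂ) / (χ : G → ℂ) 1 =
      (m : ℂ) * (t : ℂ) / (Cfsg.charDegree (χ : G → ℂ) : ℂ) := by
    rw [truncSum_eq_truncInt, ← charDegree_cast_of_isCharacter (IsIrrCharacter.isCharacter χ.2),
      ← hm, ← ht]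
  -- divisibility
  have hdvd : (p : ℤ) ^ ν ∣ t := by
    have h1 := truncSum_div_memLocalRing hM.2.1 p (IsIrrCharacter.isCharacter χ.2) χ.2
    rw [hT] at h1
    have h2 := mul_int_div_memLocalRing_imp hM _ _ _ hmp hd0 htpos.ne' h1
    rw [padicValInt_dvd_iff]
    right
    rw [hν]
    exact h2
  have hle1 : (p : ℤ) ^ ν ≤ t := Int.le_of_dvd htpos hdvd
  have hle2 : t ≤ (p : ℤ) ^ ν := by
    have h3 := card_mul_truncInt_le p D hD hDZ χ
    rw [he, ← ha, ← ht, ← hea, pow_add] at h3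
    push_cast at h3
    have hpe : (0 : ℤ) < (p : ℤ) ^ e := by positivity
    exact le_of_mul_le_mul_left h3 hpe
  have hteq : t = (p : ℤ) ^ ν := le_antisymm hle2 hle1
  have heq : (Nat.card D : ℤ) * truncInt p χ χ = (p : ℤ) ^ (Nat.card G).factorization p := by
    rw [he, ← ha, ← ht, hteq, ← hea, pow_add]
    push_cast
    rfl
  refine ⟨?_, vanish_of_card_mul_truncInt_eq p D hD hDZ χ heq⟩
  -- the block
  obtain ⟨B, hBdef⟩ : ∃ B : Set (Cfsg.IrrCharacter G), B = Cfsg.blockOf M (χ : G → ℂ) := ⟨_, rfl⟩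
  rw [← hBdef]
  have hB : Cfsg.IsPBlock M B := ⟨χ, hBdef⟩
  have hχB : χ ∈ B := by rw [hBdef]; exact mem_blockOf_self hM.2.1 χ
  have hm0 : m ≠ 0 := by
    rintro rfl
    exact hmp (dvd_zero p)
  have hunit : ¬ Cfsg.MemLocalIdeal M
      (truncSum p (χ : G → ℂ) (χ : G → ℂ) / (χ : G → ℂ) 1) := by
    rw [hT, hteq]
    have h3 : (m : ℂ) * (((p : ℤ) ^ ν : ℤ) : ℂ) = ((m * p ^ ν : ℕ) : ℂ) := by
      push_cast
      rfl
    rw [h3, memLocalIdeal_natCast_div_iff hM _ _
      (mul_ne_zero hm0 (pow_ne_zero _ hp.out.ne_zero)) hd0]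
    rw [Nat.factorization_mul hm0 (pow_ne_zero _ hp.out.ne_zero), Finsupp.add_apply,
      Nat.factorization_eq_zero_of_not_dvd hmp, zero_add,
      Nat.Prime.factorization_pow hp.out, Finsupp.single_eq_same, ← hν]
    exact lt_irrefl _
  have hmin := degree_le_of_truncUnit hM B hB χ hχB hunit
  have hdef : Cfsg.blockDefect p B = e := by
    unfold Cfsg.blockDefect
    have h1 : sInf ((fun χ : Cfsg.IrrCharacter G =>
        (Cfsg.charDegree (χ : G → ℂ)).factorization p) '' B) = ν := by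
      apply le_antisymm
      · rw [hν]
        exact Nat.sInf_le ⟨χ, hχB, rfl⟩
      · refine le_csInf ⟨_, χ, hχB, rfl⟩ ?_
        rintro _ ⟨ξ, hξ, rfl⟩
        rw [hν]
        exact hmin ξ hξ
    rw [h1, ← ha]
    omega
  obtain ⟨g, hg⟩ := exists_defectClass hM.2.1 B hB
  have hDC : D ≤ Subgroup.centralizer ({g} : Set G) :=
    hDZ.trans (Subgroup.center_le_centralizer _)
  have hD' : IsPGroup p (D.subgroupOf (Subgroup.centralizer ({g} : Set G))) :=
    hD.comap_subtype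
  obtain ⟨Q, hQ⟩ := hD'.exists_le_sylow
  have hQdef : Cfsg.IsDefectGroup p M B
      ((Q : Subgroup (Subgroup.centralizer ({g} : Set G))).map
        (Subgroup.centralizer ({g} : Set G)).subtype) := ⟨g, hg, Q, rfl⟩
  have hcardQ := card_defectGroup hM.2.1 p hM.2.2 B hB _ hQdef
  rw [hdef, ← he] at hcardQ
  have hle : D ≤ (Q : Subgroup (Subgroup.centralizer ({g} : Set G))).map
      (Subgroup.centralizer ({g} : Set G)).subtype := by
    intro x hx
    rw [Subgroup.mem_map]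
    refine ⟨⟨x, hDC hx⟩, hQ ?_, rfl⟩
    rw [Subgroup.mem_subgroupOf]
    exact hx
  have hDQ := Subgroup.eq_of_le_of_card_ge hle hcardQ.le
  exact ⟨g, hg, Q, hDQ⟩

end Cfsg.Agent.Helper6
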