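import Mathlib
import Cfsg.Prelude.Def_Characters
import Cfsg.Agent.Helper6.IrrBasis
import Cfsg.Agent.Helper6.Expansion
import Cfsg.Agent.Helper6.CentralDefectA
import Cfsg.Agent.Helper6.Linear

/-!
# Characters lying over a faithful linear character of a central subgroup: the space of
equivariant class functions
-/

set_option autoImplicit false
set_option linter.style.haveILetI false

namespace Cfsg.Agent.Helper6

open scoped ComplexConjugate

universe u

variable {G : Type u} [Group G]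

/-- the class functions of `G` transforming by `lam` under translation by the subgroup `N` -/
def equivariantCF (N : Subgroup G) (lam : N → ℂ) : Submodule ℂ (G → ℂ) where
  carrier := {f | Cfsg.IsClassFunction G f ∧ ∀ (n : N) (g : G), f ((n : G) * g) = lam n * f g}
  add_mem' := by
    rintro f f' ⟨h1, h2⟩ ⟨h1', h2'⟩
    refine ⟨IsClassFunction.add h1 h1', fun n g => ?_⟩
    rw [Pi.add_apply, Pi.add_apply, h2, h2', mul_add]
  zero_mem' := ⟨IsClassFunction.zero, fun n g => by simp⟩
  smul_mem' := by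
    rintro c f ⟨h1, h2⟩
    refine ⟨IsClassFunction.smul c h1, fun n g => ?_⟩
    rw [Pi.smul_apply, Pi.smul_apply, h2, smul_eq_mul, smul_eq_mul]
    ring

theorem mem_equivariantCF (N : Subgroup G) (lam : N → ℂ) (f : G → ℂ) :
    f ∈ equivariantCF N lam ↔
      Cfsg.IsClassFunction G f ∧ ∀ (n : N) (g : G), f ((n : G) * g) = lam n * f g := Iff.rfl

/-- values of a homomorphism of a finite group to `ℂˣ` have norm one -/
theorem hom_mul_conj_eq_one {K : Type*} [Group K] [Finite K] (lam : K →* ℂˣ) (n : K) :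
    ((lam n : ℂˣ) : ℂ) * conj ((lam n : ℂˣ) : ℂ) = 1 := by
  have h1 : ((lam n : ℂˣ) : ℂ) ^ Nat.card K = 1 := by
    rw [← Units.val_pow_eq_pow_val, ← map_pow, pow_card_eq_one', map_one, Units.val_one]
  have h2 : ‖((lam n : ℂˣ) : ℂ)‖ ^ Nat.card K = 1 := by rw [← norm_pow, h1, norm_one]
  have h3 : ‖((lam n : ℂˣ) : ℂ)‖ = 1 :=
    (pow_eq_one_iff_of_nonneg (norm_nonneg _) Nat.card_pos.ne').mp h2
  rw [Complex.mul_conj, Complex.normSq_eq_norm_sq, h3]
  simp

/-- an irreducible character lying over the linear character `lam` of the central subgroup `N`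
transforms by `lam` under translation by `N` -/
theorem irr_mem_equivariantCF [Fintype G] (N : Subgroup G) [Fintype N]
    (hN : N ≤ Subgroup.center G) (lam : N →* ℂˣ) (χ : Cfsg.IrrCharacter G)
    (h : Cfsg.classInner (fun n : N => (χ : G → ℂ) n) (fun n : N => ((lam n : ℂˣ) : ℂ)) ≠ 0) :
    (χ : G → ℂ) ∈ equivariantCF N (fun n : N => ((lam n : ℂˣ) : ℂ)) := by
  classical
  have hω : ∀ n : N, ∃ ω : ℂ, ‖ω‖ = 1 ∧
      ∀ g : G, (χ : G → ℂ) ((n : G) * g) = ω * (χ : G → ℂ) g :=
    fun n => irr_center_mul χ n (hN n.2)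
  choose ω hωn hωm using hω
  have hχ1 : (χ : G → ℂ) 1 ≠ 0 := IsIrrCharacter.apply_one_ne_zero χ.2
  have hval : ∀ n : N, (χ : G → ℂ) n = ω n * (χ : G → ℂ) 1 := by
    intro n
    have := hωm n 1
    rwa [mul_one] at this
  have hmul : ∀ m n : N, ω (m * n) = ω m * ω n := by
    intro m n
    have h1 := hval (m * n)
    have h2 := hωm m (n : G)
    rw [Subgroup.coe_mul, h2, hval n, ← mul_assoc] at h1
    exact (mul_right_cancel₀ hχ1 h1).symm
  have hc : (∑ n : N, ω n * conj ((lam n : ℂˣ) : ℂ)) ≠ 0 := by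
    intro h0
    apply h
    unfold Cfsg.classInner
    have : ∑ n : N, (χ : G → ℂ) n * conj ((lam n : ℂˣ) : ℂ) =
        (χ : G → ℂ) 1 * ∑ n : N, ω n * conj ((lam n : ℂˣ) : ℂ) := by
      rw [Finset.mul_sum]
      apply Finset.sum_congr rfl
      intro n _
      rw [hval]
      ring
    rw [this, h0, mul_zero, mul_zero]
  have hωlam : ∀ m : N, ω m = ((lam m : ℂˣ) : ℂ) := by
    intro m
    have h1 : ω m * conj ((lam m : ℂˣ) : ℂ) * (∑ n : N, ω n * conj ((lam n : ℂˣ) : ℂ)) =
        ∑ n : N, ω n * conj ((lam n : ℂˣ) : ℂ) := by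
      rw [Finset.mul_sum,
        ← Equiv.sum_comp (Equiv.mulLeft m) (fun n => ω n * conj ((lam n : ℂˣ) : ℂ))]
      apply Finset.sum_congr rfl
      intro n _
      simp only [Equiv.coe_mulLeft]
      rw [hmul, map_mul, Units.val_mul, map_mul]
      ring
    have h2 : ω m * conj ((lam m : ℂˣ) : ℂ) = 1 :=
      mul_right_cancel₀ hc (by rw [h1, one_mul])
    calc ω m = ω m * (conj ((lam m : ℂˣ) : ℂ) * ((lam m : ℂˣ) : ℂ)) := by
          rw [mul_comm (conj _), hom_mul_conj_eq_one, mul_one]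
      _ = ((lam m : ℂˣ) : ℂ) := by rw [← mul_assoc, h2, one_mul]
  refine ⟨IsCharacter.isClassFunction (IsIrrCharacter.isCharacter χ.2), fun n g => ?_⟩
  rw [hωm, hωlam]

/-- an equivariant class function is orthogonal to the irreducible characters not lying over
`lam` -/
theorem classInner_eq_zero_of_equivariant [Fintype G] (N : Subgroup G) [Fintype N]
    (hN : N ≤ Subgroup.center G) (lam : N →* ℂˣ) (f : G → ℂ)
    (hf : f ∈ equivariantCF N (fun n : N => ((lam n : ℂˣ) : ℂ))) (χ : Cfsg.IrrCharacter G)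
    (h : Cfsg.classInner (fun n : N => (χ : G → ℂ) n) (fun n : N => ((lam n : ℂˣ) : ℂ)) = 0) :
    Cfsg.classInner f (χ : G → ℂ) = 0 := by
  classical
  obtain ⟨-, heq⟩ := hf
  have hω : ∀ n : N, ∃ ω : ℂ, ‖ω‖ = 1 ∧
      ∀ g : G, (χ : G → ℂ) ((n : G) * g) = ω * (χ : G → ℂ) g :=
    fun n => irr_center_mul χ n (hN n.2)
  choose ω hωn hωm using hω
  have hχ1 : (χ : G → ℂ) 1 ≠ 0 := IsIrrCharacter.apply_one_ne_zero χ.2
  have hval : ∀ n : N, (χ : G → ℂ) n = ω n * (χ : G → ℂ) 1 := by
    intro n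
    have := hωm n 1
    rwa [mul_one] at this
  have hN0 : (Nat.card N : ℂ) ≠ 0 := by
    have : 0 < Nat.card N := Nat.card_pos
    exact_mod_cast this.ne'
  have hsum0 : ∑ n : N, ω n * conj ((lam n : ℂˣ) : ℂ) = 0 := by
    unfold Cfsg.classInner at h
    have h1 : ∑ n : N, (χ : G → ℂ) n * conj ((lam n : ℂˣ) : ℂ) =
        (χ : G → ℂ) 1 * ∑ n : N, ω n * conj ((lam n : ℂˣ) : ℂ) := by
      rw [Finset.mul_sum]
      apply Finset.sum_congr rfl
      intro n _
      rw [hval]
      ring
    rw [h1] at h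
    rcases mul_eq_zero.mp h with h2 | h2
    · exact absurd (inv_eq_zero.mp h2) hN0
    · rcases mul_eq_zero.mp h2 with h3 | h3
      · exact absurd h3 hχ1
      · exact h3
  have hsum0' : ∑ n : N, ((lam n : ℂˣ) : ℂ) * conj (ω n) = 0 := by
    have := congrArg conj hsum0
    rw [map_sum, map_zero] at this
    rw [← this]
    apply Finset.sum_congr rfl
    intro n _
    rw [map_mul, Complex.conj_conj, mul_comm]
  obtain ⟨X, hX⟩ : ∃ X : ℂ, X = ∑ g : G, f g * conj ((χ : G → ℂ) g) := ⟨_, rfl⟩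
  have key : ∀ n : N, X = (((lam n : ℂˣ) : ℂ) * conj (ω n)) * X := by
    intro n
    rw [hX, Finset.mul_sum,
      ← Equiv.sum_comp (Equiv.mulLeft (n : G)) (fun g => f g * conj ((χ : G → ℂ) g))]
    apply Finset.sum_congr rfl
    intro g _
    simp only [Equiv.coe_mulLeft]
    rw [heq, hωm, map_mul]
    ring
  have hX0 : X = 0 := by
    have h1 : (Nat.card N : ℂ) * X = 0 := by
      have h2 : ∑ _n : N, X = ∑ n : N, (((lam n : ℂˣ) : ℂ) * conj (ω n)) * X :=
        Finset.sum_congr rfl (fun n _ => key n)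
      rw [Finset.sum_const, Finset.card_univ, nsmul_eq_mul, ← Finset.sum_mul, hsum0', zero_mul,
        ← Nat.card_eq_fintype_card] at h2
      exact h2
    rcases mul_eq_zero.mp h1 with h2 | h2
    · exact absurd h2 hN0
    · exact h2
  unfold Cfsg.classInner
  rw [← hX, hX0, mul_zero]

/-- **the equivariant class functions are spanned by the irreducible characters over `lam`** -/
theorem equivariantCF_eq_span [Fintype G] (N : Subgroup G) [Fintype N]
    (hN : N ≤ Subgroup.center G) (lam : N →* ℂˣ) :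
    equivariantCF N (fun n : N => ((lam n : ℂˣ) : ℂ)) =
      Submodule.span ℂ (Set.range (fun s : {χ : Cfsg.IrrCharacter G //
        Cfsg.classInner (fun n : N => (χ : G → ℂ) n) (fun n : N => ((lam n : ℂˣ) : ℂ)) ≠ 0} =>
        ((s : Cfsg.IrrCharacter G) : G → ℂ))) := by
  classical
  haveI : Finite (Cfsg.IrrCharacter G) := irr_finite
  haveI : Fintype (Cfsg.IrrCharacter G) := Fintype.ofFinite _
  apply le_antisymm
  · intro f hf
    rw [classFunction_expansion f hf.1]
    apply Submodule.sum_mem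
    intro χ _
    by_cases h : Cfsg.classInner (fun n : N => (χ : G → ℂ) n)
        (fun n : N => ((lam n : ℂˣ) : ℂ)) = 0
    · rw [classInner_eq_zero_of_equivariant N hN lam f hf χ h, zero_smul]
      exact Submodule.zero_mem _
    · exact Submodule.smul_mem _ _ (Submodule.subset_span ⟨⟨χ, h⟩, rfl⟩)
  · rw [Submodule.span_le]
    rintro _ ⟨s, rfl⟩
    exact irr_mem_equivariantCF N hN lam s.1 s.2

/-- the dimension of the space of equivariant class functions -/
theorem finrank_equivariantCF [Fintype G] (N : Subgroup G) [Fintype N]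
    (hN : N ≤ Subgroup.center G) (lam : N →* ℂˣ) :
    Module.finrank ℂ (equivariantCF N (fun n : N => ((lam n : ℂˣ) : ℂ))) =
      Nat.card {χ : Cfsg.IrrCharacter G //
        Cfsg.classInner (fun n : N => (χ : G → ℂ) n) (fun n : N => ((lam n : ℂˣ) : ℂ)) ≠ 0} := by
  classical
  haveI : Finite (Cfsg.IrrCharacter G) := irr_finite
  haveI : Fintype {χ : Cfsg.IrrCharacter G //
      Cfsg.classInner (fun n : N => (χ : G → ℂ) n) (fun n : N => ((lam n : ℂˣ) : ℂ)) ≠ 0} :=
    Fintype.ofFinite _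
  rw [equivariantCF_eq_span N hN lam, Nat.card_eq_fintype_card]
  apply finrank_span_eq_card
  exact (irr_linearIndependent (G := G)).comp _ Subtype.val_injective

end Cfsg.Agent.Helper6
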