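import Mathlib
import Cfsg.Prelude.Def_Characters
import Cfsg.Agent.Helper6.CentralFaithfulA

/-!
# Characters lying over a faithful linear character of a central subgroup: the count by
special classes of the quotient
-/

set_option autoImplicit false
set_option linter.style.haveILetI false

namespace Cfsg.Agent.Helper6

open scoped ComplexConjugate

universe u

variable {G : Type u} [Group G]

/-- an equivariant class function for a faithful `lam` vanishes at the elements that are not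
special -/
theorem equivariantCF_apply_eq_zero (N : Subgroup G) (hN : N ≤ Subgroup.center G) (lam : N → ℂ)
    (hfaith : ∀ n : N, lam n = 1 → n = 1) (f : G → ℂ) (hf : f ∈ equivariantCF N lam) (g : G)
    (hg : ¬ ∀ x : G, x⁻¹ * g⁻¹ * x * g ∈ N → x * g = g * x) : f g = 0 := by
  obtain ⟨hcf, heq⟩ := hf
  push Not at hg
  obtain ⟨x, hxN, hxg⟩ := hg
  have hconj : x * g * x⁻¹ = (x⁻¹ * g⁻¹ * x * g) * g := by
    have hc := Subgroup.mem_center_iff.mp (hN hxN)
    calc x * g * x⁻¹ = g * (x * (x⁻¹ * g⁻¹ * x * g)) * x⁻¹ := by group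
      _ = g * ((x⁻¹ * g⁻¹ * x * g) * x) * x⁻¹ := by rw [hc x]
      _ = g * (x⁻¹ * g⁻¹ * x * g) := by group
      _ = (x⁻¹ * g⁻¹ * x * g) * g := hc g
  have h1 := hcf g x
  rw [hconj] at h1
  have h2 := heq ⟨_, hxN⟩ g
  rw [Subgroup.coe_mk] at h2
  rw [h2] at h1
  have hne : lam ⟨_, hxN⟩ ≠ 1 := by
    intro h3
    have h4 := hfaith _ h3
    have h5 : x⁻¹ * g⁻¹ * x * g = 1 := congrArg Subtype.val h4
    apply hxg
    have : x * g = g * x * (x⁻¹ * g⁻¹ * x * g) := by group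
    rw [this, h5, mul_one]
  have h3 : (lam ⟨_, hxN⟩ - 1) * f g = 0 := by rw [sub_mul, one_mul, h1, sub_self]
  rcases mul_eq_zero.mp h3 with h4 | h4
  · exact absurd (sub_eq_zero.mp h4) hne
  · exact h4

/-- an equivariant class function takes proportional values at elements with conjugate images in
the quotient -/
theorem equivariantCF_apply_of_mk_eq (N : Subgroup G) [N.Normal] (hN : N ≤ Subgroup.center G)
    (lam : N → ℂ) (f : G → ℂ) (hf : f ∈ equivariantCF N lam) (g g' : G)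
    (h : ConjClasses.mk (g : G ⧸ N) = ConjClasses.mk (g' : G ⧸ N)) :
    ∃ n : N, f g' = lam n * f g := by
  obtain ⟨hcf, heq⟩ := hf
  obtain ⟨c', hc'⟩ := isConj_iff.mp (ConjClasses.mk_eq_mk_iff_isConj.mp h)
  obtain ⟨c, rfl⟩ := QuotientGroup.mk_surjective c'
  have h1 : ((c * g * c⁻¹ : G) : G ⧸ N) = (g' : G ⧸ N) := by
    rw [← hc']
    simp
  have h2 : (c * g * c⁻¹)⁻¹ * g' ∈ N := QuotientGroup.eq.mp h1
  refine ⟨⟨_, h2⟩, ?_⟩
  have hc := Subgroup.mem_center_iff.mp (hN h2)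
  have h3 : g' = ((c * g * c⁻¹)⁻¹ * g') * (c * g * c⁻¹) := by
    rw [← hc (c * g * c⁻¹)]
    group
  have h4 := heq ⟨_, h2⟩ (c * g * c⁻¹)
  rw [Subgroup.coe_mk, ← h3, hcf g c] at h4
  exact h4

open Classical in
/-- the equivariant class function supported on the preimage of the class of `g₀ N` -/
noncomputable def specialFun (N : Subgroup G) [Fintype N] (lam : N → ℂ) (g₀ : G) : G → ℂ :=
  fun g => ∑ n : N, if IsConj ((n : G)⁻¹ * g) g₀ then lam n else 0

theorem specialFun_mem (N : Subgroup G) [Fintype N] (hN : N ≤ Subgroup.center G)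
    (lam : N →* ℂˣ) (g₀ : G) :
    specialFun N (fun n : N => ((lam n : ℂˣ) : ℂ)) g₀ ∈
      equivariantCF N (fun n : N => ((lam n : ℂˣ) : ℂ)) := by
  classical
  refine ⟨fun g h => ?_, fun m g => ?_⟩
  · unfold specialFun
    apply Finset.sum_congr rfl
    intro n _
    have hc := Subgroup.mem_center_iff.mp (hN (N.inv_mem n.2))
    have h1 : ((n : G))⁻¹ * (h * g * h⁻¹) = h * (((n : G))⁻¹ * g) * h⁻¹ := by
      calc ((n : G))⁻¹ * (h * g * h⁻¹) = (((n : G))⁻¹ * h) * g * h⁻¹ := by group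
        _ = (h * ((n : G))⁻¹) * g * h⁻¹ := by rw [hc h]
        _ = h * (((n : G))⁻¹ * g) * h⁻¹ := by group
    have h2 : IsConj (((n : G))⁻¹ * (h * g * h⁻¹)) g₀ ↔ IsConj (((n : G))⁻¹ * g) g₀ := by
      rw [h1]
      constructor
      · intro h3
        exact (isConj_iff.mpr ⟨h, rfl⟩ : IsConj (((n : G))⁻¹ * g) _).trans h3
      · intro h3
        exact (isConj_iff.mpr ⟨h, rfl⟩ : IsConj (((n : G))⁻¹ * g) _).symm.trans h3
    simp only [h2]
  · unfold specialFun
    rw [Finset.mul_sum]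
    refine (Fintype.sum_equiv (Equiv.mulLeft m) _ _ (fun n => ?_)).symm
    have h1 : ((((Equiv.mulLeft m) n : N)) : G)⁻¹ * ((m : G) * g) = ((n : G))⁻¹ * g := by
      show (((m * n : N) : G))⁻¹ * ((m : G) * g) = ((n : G))⁻¹ * g
      rw [Subgroup.coe_mul]
      group
    have h2 : ((lam ((Equiv.mulLeft m) n) : ℂˣ) : ℂ) =
        ((lam m : ℂˣ) : ℂ) * ((lam n : ℂˣ) : ℂ) := by
      show ((lam (m * n) : ℂˣ) : ℂ) = _
      rw [map_mul, Units.val_mul]
    by_cases hc : IsConj (((n : G))⁻¹ * g) g₀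
    · rw [if_pos hc, if_pos (by rw [h1]; exact hc)]
      exact h2.symm
    · rw [if_neg hc, if_neg (by rw [h1]; exact hc), mul_zero]

theorem specialFun_apply_of_ne (N : Subgroup G) [N.Normal] [Fintype N] (lam : N → ℂ) (g₀ g : G)
    (h : ConjClasses.mk (g : G ⧸ N) ≠ ConjClasses.mk (g₀ : G ⧸ N)) :
    specialFun N lam g₀ g = 0 := by
  classical
  unfold specialFun
  apply Finset.sum_eq_zero
  intro n _
  rw [if_neg]
  intro hcon
  apply h
  apply ConjClasses.mk_eq_mk_iff_isConj.mpr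
  obtain ⟨c, hc⟩ := isConj_iff.mp hcon
  apply isConj_iff.mpr
  refine ⟨(c : G ⧸ N), ?_⟩
  rw [← hc]
  have h1 : ((((n : G))⁻¹ : G) : G ⧸ N) = 1 := by
    rw [QuotientGroup.eq_one_iff]
    exact N.inv_mem n.2
  rw [QuotientGroup.mk_mul, QuotientGroup.mk_mul, QuotientGroup.mk_mul, h1, one_mul,
    QuotientGroup.mk_inv]

theorem specialFun_apply_self (N : Subgroup G) [Fintype N] (hN : N ≤ Subgroup.center G)
    (lam : N →* ℂˣ) (g₀ : G) (hg₀ : ∀ x : G, x⁻¹ * g₀⁻¹ * x * g₀ ∈ N → x * g₀ = g₀ * x) :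
    specialFun N (fun n : N => ((lam n : ℂˣ) : ℂ)) g₀ g₀ = 1 := by
  classical
  unfold specialFun
  rw [Finset.sum_eq_single (1 : N)]
  · have h0 : (((1 : N) : G))⁻¹ * g₀ = g₀ := by simp
    rw [if_pos (by rw [h0])]
    simp
  · intro n _ hn
    rw [if_neg]
    intro hcon
    apply hn
    obtain ⟨c, hc⟩ := isConj_iff.mp hcon
    have hcen := Subgroup.mem_center_iff.mp (hN n.2)
    -- c * g₀ * c⁻¹ = n * g₀
    have h1 : c * g₀ * c⁻¹ = (n : G) * g₀ := by
      have hcen' := Subgroup.mem_center_iff.mp (hN (N.inv_mem n.2))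
      have h0 : (n : G)⁻¹ * (c * g₀ * c⁻¹) = g₀ := by
        calc (n : G)⁻¹ * (c * g₀ * c⁻¹) = ((n : G)⁻¹ * c) * g₀ * c⁻¹ := by group
          _ = (c * (n : G)⁻¹) * g₀ * c⁻¹ := by rw [hcen' c]
          _ = c * ((n : G)⁻¹ * g₀) * c⁻¹ := by group
          _ = g₀ := hc
      calc c * g₀ * c⁻¹ = (n : G) * ((n : G)⁻¹ * (c * g₀ * c⁻¹)) := by group
        _ = (n : G) * g₀ := by rw [h0]
    have h2 : c⁻¹ * g₀⁻¹ * c * g₀ = (n : G) := by
      have h3 : c * g₀ = (n : G) * g₀ * c := by rw [← h1]; group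
      calc c⁻¹ * g₀⁻¹ * c * g₀ = c⁻¹ * g₀⁻¹ * (c * g₀) := by group
        _ = c⁻¹ * g₀⁻¹ * ((n : G) * g₀ * c) := by rw [h3]
        _ = c⁻¹ * (g₀⁻¹ * (n : G)) * g₀ * c := by group
        _ = c⁻¹ * ((n : G) * g₀⁻¹) * g₀ * c := by rw [hcen g₀⁻¹]
        _ = c⁻¹ * (n : G) * c := by group
        _ = (n : G) * c⁻¹ * c := by rw [hcen c⁻¹]
        _ = (n : G) := by group
    have h4 := hg₀ c (by rw [h2]; exact n.2)
    have h5 : (n : G) = 1 := by
      have : c * g₀ * c⁻¹ = g₀ := by rw [h4]; group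
      rw [this] at h1
      have h6 : (n : G) * g₀ = 1 * g₀ := by rw [← h1, one_mul]
      exact mul_right_cancel h6
    exact Subtype.ext h5
  · intro h
    exact absurd (Finset.mem_univ _) h

set_option maxHeartbeats 800000 in
/-- **the dimension of the space of equivariant class functions is the number of special classes
of the quotient** -/
theorem finrank_equivariantCF_special [Fintype G] (N : Subgroup G) [N.Normal] [Fintype N]
    (hN : N ≤ Subgroup.center G) (lam : N →* ℂˣ)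
    (hfaith : ∀ n : N, ((lam n : ℂˣ) : ℂ) = 1 → n = 1) :
    Module.finrank ℂ (equivariantCF N (fun n : N => ((lam n : ℂˣ) : ℂ))) =
      Nat.card {C : ConjClasses (G ⧸ N) // ∃ g : G, ConjClasses.mk (g : G ⧸ N) = C ∧
        ∀ x : G, x⁻¹ * g⁻¹ * x * g ∈ N → x * g = g * x} := by
  classical
  haveI : Fintype {C : ConjClasses (G ⧸ N) // ∃ g : G, ConjClasses.mk (g : G ⧸ N) = C ∧
      ∀ x : G, x⁻¹ * g⁻¹ * x * g ∈ N → x * g = g * x} := Fintype.ofFinite _
  obtain ⟨rep, hrep⟩ : ∃ rep : {C : ConjClasses (G ⧸ N) // ∃ g : G,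
      ConjClasses.mk (g : G ⧸ N) = C ∧ ∀ x : G, x⁻¹ * g⁻¹ * x * g ∈ N → x * g = g * x} → G,
      ∀ C, ConjClasses.mk (rep C : G ⧸ N) = C.1 ∧
        ∀ x : G, x⁻¹ * (rep C)⁻¹ * x * rep C ∈ N → x * rep C = rep C * x :=
    ⟨fun C => Classical.choose C.2, fun C => Classical.choose_spec C.2⟩
  let Φ : equivariantCF N (fun n : N => ((lam n : ℂˣ) : ℂ)) →ₗ[ℂ]
      ({C : ConjClasses (G ⧸ N) // ∃ g : G, ConjClasses.mk (g : G ⧸ N) = C ∧
        ∀ x : G, x⁻¹ * g⁻¹ * x * g ∈ N → x * g = g * x} → ℂ) :=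
    { toFun := fun f C => (f : G → ℂ) (rep C)
      map_add' := fun f f' => rfl
      map_smul' := fun c f => rfl }
  have hΦ : ∀ f C, Φ f C = (f : G → ℂ) (rep C) := fun _ _ => rfl
  have hinj : Function.Injective Φ := by
    rw [injective_iff_map_eq_zero]
    intro f hf0
    apply Subtype.ext
    funext g
    show (f : G → ℂ) g = 0
    by_cases hg : ∀ x : G, x⁻¹ * g⁻¹ * x * g ∈ N → x * g = g * x
    · obtain ⟨n, hn⟩ := equivariantCF_apply_of_mk_eq N hN _ f.1 f.2
        (rep ⟨ConjClasses.mk (g : G ⧸ N), g, rfl, hg⟩) g (hrep _).1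
      have h1 := congrFun hf0 ⟨ConjClasses.mk (g : G ⧸ N), g, rfl, hg⟩
      rw [hΦ] at h1
      rw [hn, h1]
      simp
    · exact equivariantCF_apply_eq_zero N hN _ hfaith f.1 f.2 g hg
  have hsurj : Function.Surjective Φ := by
    intro t
    refine ⟨⟨∑ C, t C • specialFun N (fun n : N => ((lam n : ℂˣ) : ℂ)) (rep C), ?_⟩, ?_⟩
    · apply Submodule.sum_mem
      intro C _
      exact Submodule.smul_mem _ _ (specialFun_mem N hN lam (rep C))
    · funext C'
      rw [hΦ]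
      show (∑ C, t C • specialFun N (fun n : N => ((lam n : ℂˣ) : ℂ)) (rep C)) (rep C') = t C'
      rw [Finset.sum_apply, Finset.sum_eq_single C']
      · rw [Pi.smul_apply, specialFun_apply_self N hN lam (rep C') (hrep C').2, smul_eq_mul,
          mul_one]
      · intro C _ hne
        rw [Pi.smul_apply, specialFun_apply_of_ne, smul_zero]
        rw [(hrep C').1, (hrep C).1]
        intro h
        exact hne (Subtype.ext h.symm)
      · intro h
        exact absurd (Finset.mem_univ _) h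
  rw [(LinearEquiv.ofBijective Φ ⟨hinj, hsurj⟩).finrank_eq, Module.finrank_fintype_fun_eq_card,
    Nat.card_eq_fintype_card]

end Cfsg.Agent.Helper6
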