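import Mathlib
import Cfsg.Prelude.Def_Characters
import Cfsg.Prelude.Def_Blocks
import Cfsg.Agent.Helper6.LyingOver
import Cfsg.Agent.Helper6.PCoreChar
import Cfsg.Agent.Helper6.OsimaSupport
import Cfsg.Agent.Helper6.BlockCover1
import Cfsg.Agent.Helper6.BlockCover2
import Cfsg.Agent.Helper6.BrauerPair
import Cfsg.Agent.Helper6.NormalComplementBlock2
import Cfsg.Agent.Helper5.AxB

/-!
# Block idempotents are supported on the centralizer of a normal `p`-subgroup; chains
-/

set_option autoImplicit false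
set_option linter.style.haveILetI false

namespace Cfsg.Agent.Helper6

open scoped ComplexConjugate

universe u

variable {G : Type u} [Group G] {M : Ideal Cfsg.AlgInt}

/-- **Block idempotents vanish off the centralizer of a normal `p`-subgroup.** -/
theorem blockCoeff_eq_zero_of_not_mem_centralizer [Fintype G] {p : ℕ}
    (hM : Cfsg.IsPModular p M) (Q : Subgroup G) [hQn : Q.Normal] (hQ : IsPGroup p Q)
    (B : Set (Cfsg.IrrCharacter G)) (hB : Cfsg.IsPBlock M B) (g : G)
    (hg : g ∉ Subgroup.centralizer (Q : Set G)) : Cfsg.blockCoeff B g = 0 := by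
  classical
  have hMmax := hM.2.1
  obtain ⟨C, hC⟩ : ∃ C : Subgroup G, C = Subgroup.centralizer (Q : Set G) := ⟨_, rfl⟩
  haveI hCn : C.Normal := by rw [hC]; exact Subgroup.normal_centralizer
  haveI : Fintype C := Fintype.ofFinite _
  have hgC : g ∉ C := by rw [hC]; exact hg
  set O : Set (Cfsg.IrrCharacter C) :=
    {θ | ∃ χ ∈ B, Cfsg.classInner (fun n : C => (χ : G → ℂ) n) (θ : C → ℂ) ≠ 0} with hOdef
  have hO : ∀ x : G, ∀ θ ∈ O, conjIrr C x θ ∈ O := by
    rintro x θ ⟨χ, hχB, hne⟩
    refine ⟨χ, hχB, ?_⟩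
    have hχcf := IsCharacter.isClassFunction (IsIrrCharacter.isCharacter χ.2)
    have h1 : Cfsg.classInner (fun n : C => (χ : G → ℂ) n) (conjFun C (θ : C → ℂ) x) =
        Cfsg.classInner (conjFun C (fun n : C => (χ : G → ℂ) n) x) (conjFun C (θ : C → ℂ) x) := by
      rw [conjFun_restrict C (χ : G → ℂ) hχcf x]
    change Cfsg.classInner (fun n : C => (χ : G → ℂ) n) (conjFun C (θ : C → ℂ) x) ≠ 0
    rw [h1, classInner_conjFun]
    exact hne
  have hBeq : B = lyingOver C O := by
    apply Set.Subset.antisymm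
    · intro χ hχB
      obtain ⟨θ, hθ⟩ := exists_constituent_restrict C χ
      exact ⟨θ, ⟨χ, hχB, hθ⟩, hθ⟩
    · rintro ψ ⟨θ, ⟨χ, hχB, hχθ⟩, hψθ⟩
      rw [eq_blockOf_of_mem hMmax B hB χ hχB]
      intro x
      by_cases hx : x ∈ C
      · have e1 := centralChar_eq_induced_of_constituent C χ θ hχθ ⟨x, hx⟩
        have e2 := centralChar_eq_induced_of_constituent C ψ θ hψθ ⟨x, hx⟩
        have e3 : Cfsg.centralChar (χ : G → ℂ) x = Cfsg.centralChar (ψ : G → ℂ) x := by
          exact e1.trans e2.symm
        rw [e3, sub_self]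
        exact memLocalIdeal_zero hMmax
      · have hx' : x ∉ Subgroup.centralizer (Q : Set G) := by rw [← hC]; exact hx
        exact MemLocalIdeal.sub hMmax
          (centralChar_memLocalIdeal_of_not_mem_centralizer hM Q hQ χ x hx')
          (centralChar_memLocalIdeal_of_not_mem_centralizer hM Q hQ ψ x hx')
  rw [hBeq, blockCoeff_lyingOver C O hO g, extendByZero_not_mem C _ hgC]

/-- A `p'`-element normalizing a chain of `p`-subgroups and centralizing the part of the top
term inside the common normalizer centralizes every term. -/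
theorem chain_centralizes [Finite G] (p : ℕ) [hp : Fact p.Prime] (m : ℕ)
    (Q : Fin (m + 1) → Subgroup G) (hQ : Monotone Q) (hQp : ∀ i, IsPGroup p (Q i))
    (N : Subgroup G) (hN : ∀ g : G, g ∈ N ↔ ∀ i, g ∈ Subgroup.normalizer (Q i : Set G))
    (c : G) (hcN : c ∈ N) (hc : (orderOf c).Coprime p)
    (hcen : ∀ r ∈ Q (Fin.last m), r ∈ N → c * r = r * c) :
    ∀ i : Fin (m + 1), ∀ r ∈ Q i, c * r = r * c := by
  intro i
  induction i using Fin.induction with
  | zero =>
    intro r hr
    apply hcen r (hQ (Fin.le_last 0) hr)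
    rw [hN]
    intro j
    exact Subgroup.le_normalizer (hQ (Fin.zero_le j) hr)
  | succ i ih =>
    have hcB : c ∈ Subgroup.centralizer (Q (Fin.castSucc i) : Set G) := by
      rw [Subgroup.mem_centralizer_iff]
      intro r hr
      exact (ih r hr).symm
    have hcR : c ∈ Subgroup.normalizer (Q (Fin.succ i) : Set G) := (hN c).mp hcN _
    have hBR : Q (Fin.castSucc i) ≤ Subgroup.normalizer (Q (Fin.succ i) : Set G) :=
      (hQ (le_of_lt Fin.castSucc_lt_succ)).trans Subgroup.le_normalizer
    apply Cfsg.Agent.Helper5.thompson_AxB (Q (Fin.castSucc i)) (hQp _) c hc hcB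
      (Q (Fin.succ i)) (hQp _) hcR hBR
    intro r hr hrB
    apply hcen r (hQ (Fin.le_last _) hr)
    rw [hN]
    intro j
    by_cases hj : j ≤ Fin.castSucc i
    · rw [Subgroup.mem_normalizer_iff]
      intro x
      rw [Subgroup.mem_centralizer_iff] at hrB
      constructor
      · intro hx
        have h1 := hrB x (hQ hj hx)
        have : r * x * r⁻¹ = x := by rw [← h1, mul_inv_cancel_right]
        rw [this]
        exact hx
      · intro hx
        have h1 := hrB _ (hQ hj hx)
        -- (r x r⁻¹) r = r (r x r⁻¹) so x r = r x ...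
        have h2 : r * x * r⁻¹ * r = r * x := by group
        have h3 : r * x * r⁻¹ = x := by
          have h4 : r * x = r * (r * x * r⁻¹) := by rw [← h1, h2]
          exact (mul_left_cancel h4).symm
        rw [← h3]
        exact hx
    · have hj' : Fin.succ i ≤ j := Fin.castSucc_lt_iff_succ_le.mp (not_le.mp hj)
      exact Subgroup.le_normalizer (hQ hj' hr)

/-- **Block idempotents of the normalizer of a chain are supported on the centralizer of the
top term.** -/
theorem blockCoeff_chain_eq_zero [Fintype G] (p : ℕ) [hp : Fact p.Prime]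
    (hM : Cfsg.IsPModular p M) (m : ℕ) (Q : Fin (m + 1) → Subgroup G) (hQ : Monotone Q)
    (hQp : ∀ i, IsPGroup p (Q i)) (N : Subgroup G)
    (hN : ∀ g : G, g ∈ N ↔ ∀ i, g ∈ Subgroup.normalizer (Q i : Set G))
    (E : Set (Cfsg.IrrCharacter N)) (hE : Cfsg.IsPBlock M E) (n : N)
    (hn : (n : G) ∉ Subgroup.centralizer (Q (Fin.last m) : Set G)) :
    Cfsg.blockCoeff E n = 0 := by
  classical
  haveI : Fintype N := Fintype.ofFinite _
  by_cases hreg : p ∣ orderOf n
  · exact blockCoeff_eq_zero_of_singular hM.2.1 p hM.2.2 E hE n hreg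
  obtain ⟨R, hR⟩ : ∃ R : Subgroup N, R = (Q (Fin.last m)).subgroupOf N := ⟨_, rfl⟩
  have hRmem : ∀ x : N, x ∈ R ↔ (x : G) ∈ Q (Fin.last m) := by
    intro x
    rw [hR, Subgroup.mem_subgroupOf]
  haveI hRn : R.Normal := by
    constructor
    intro x hx y
    rw [hRmem] at hx ⊢
    have hy := (hN y).mp y.2 (Fin.last m)
    rw [Subgroup.mem_normalizer_iff] at hy
    have := (hy x).mp hx
    simpa using this
  have hRp : IsPGroup p R := by
    rw [hR]
    exact (hQp _).comap_subtype
  by_cases hnR : n ∈ Subgroup.centralizer (R : Set N)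
  · exfalso
    apply hn
    rw [Subgroup.mem_centralizer_iff] at hnR
    have hc : (orderOf (n : G)).Coprime p := by
      rw [Subgroup.orderOf_coe]
      exact ((Nat.Prime.coprime_iff_not_dvd hp.out).mpr hreg).symm
    have hcen : ∀ r ∈ Q (Fin.last m), r ∈ N → (n : G) * r = r * (n : G) := by
      intro r hr hrN
      have h1 := hnR ⟨r, hrN⟩ ((hRmem _).mpr hr)
      have h2 := congrArg Subtype.val h1
      exact h2.symm
    have h3 := chain_centralizes p m Q hQ hQp N hN (n : G) n.2 hc hcen (Fin.last m)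
    rw [Subgroup.mem_centralizer_iff]
    intro r hr
    exact (h3 r hr).symm
  · exact blockCoeff_eq_zero_of_not_mem_centralizer hM R hRp E hE n hnR

end Cfsg.Agent.Helper6
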