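import Mathlib
import Cfsg.Prelude.Def_Characters
import Cfsg.Agent.Helper6.LinearExt

/-!
# Extension of invariant linear characters: reduction to Sylow subgroups
-/

set_option autoImplicit false
set_option linter.style.haveILetI false

namespace Cfsg.Agent.Helper6

open Module Representation
open scoped ComplexConjugate Pointwise

universe u v

variable {G : Type u} [Group G]

/-- The transfer of a homomorphism from a subgroup containing a normal subgroup on which it is
invariant, evaluated on the normal subgroup. -/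
theorem transfer_invariant_of_le {A : Type*} [CommGroup A] (N H : Subgroup G) [hN : N.Normal]
    [H.FiniteIndex] (hNH : N ≤ H) (ν : H →* A)
    (hinv : ∀ (g : G) (n : N), ν ⟨g * n * g⁻¹, hNH (hN.conj_mem n n.2 g)⟩ = ν ⟨n, hNH n.2⟩)
    (n : N) :
    MonoidHom.transfer ν (n : G) = ν ⟨n, hNH n.2⟩ ^ H.index := by
  classical
  let T : H.LeftTransversal := default
  rw [MonoidHom.transfer_def ν T]
  unfold Subgroup.leftTransversals.diff
  simp only
  letI := H.fintypeQuotientOfFiniteIndex
  rw [Finset.prod_eq_pow_card (b := ν ⟨n, hNH n.2⟩)]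
  · rw [Finset.card_univ, ← Nat.card_eq_fintype_card, ← Subgroup.index_eq_card]
  · intro q _
    have h1 : ((n : G)⁻¹ • q : G ⧸ H) = q := by
      induction q using QuotientGroup.induction_on with
      | H x =>
        rw [MulAction.Quotient.smul_mk]
        rw [QuotientGroup.eq]
        simp only [smul_eq_mul, mul_inv_rev, inv_inv]
        have := hNH (hN.conj_mem n n.2 x⁻¹)
        simpa [mul_assoc] using this
    have h2 : (((n : G) • T).2.leftQuotientEquiv q : G) =
        (n : G) * (T.2.leftQuotientEquiv q : G) := by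
      rw [Subgroup.smul_apply_eq_smul_apply_inv_smul, h1, smul_eq_mul]
    have h3 := hinv (T.2.leftQuotientEquiv q : G)⁻¹ n
    rw [← h3]
    congr 1
    apply Subtype.ext
    simp only [h2, inv_inv, mul_assoc]

/-- If an invariant homomorphism extends to a subgroup of index coprime to its order, then it
extends to the whole group. -/
theorem extend_of_coprime_index [Finite G] (N H : Subgroup G) [hN : N.Normal] (hNH : N ≤ H)
    (L : N →* ℂˣ)
    (hinv : ∀ (g : G) (n : N), L ⟨g * n * g⁻¹, hN.conj_mem n n.2 g⟩ = L n)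
    (ν : H →* ℂˣ) (hν : ∀ n : N, ν ⟨n, hNH n.2⟩ = L n)
    (hcop : Nat.Coprime H.index (orderOf L)) :
    ∃ M : G →* ℂˣ, ∀ n : N, M n = L n := by
  obtain ⟨s, hs⟩ := exists_pow_eq_self_of_coprime (x := L) hcop
  have hV : ∀ n : N, MonoidHom.transfer ν (n : G) = L n ^ H.index := by
    intro n
    rw [transfer_invariant_of_le N H hNH ν ?_ n, hν]
    intro g n
    rw [hν n]
    exact (hν ⟨g * n * g⁻¹, hN.conj_mem n n.2 g⟩).trans (hinv g n)
  refine ⟨MonoidHom.transfer ν ^ s, ?_⟩
  intro n
  rw [MonoidHom.pow_apply, hV]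
  have h2 := congrArg (fun f : N →* ℂˣ => f n) hs
  simp only [MonoidHom.pow_apply] at h2
  exact h2

theorem hom_pow_card_eq_one {K : Type*} [Group K] [Finite K] (L : K →* ℂˣ) :
    L ^ Nat.card K = 1 := by
  ext1 n
  rw [MonoidHom.pow_apply, MonoidHom.one_apply, ← map_pow, pow_card_eq_one', map_one]

theorem hom_orderOf_pos {K : Type*} [Group K] [Finite K] (L : K →* ℂˣ) : 0 < orderOf L := by
  have h := orderOf_dvd_of_pow_eq_one (x := L) (hom_pow_card_eq_one L)
  exact Nat.pos_of_dvd_of_pos h Nat.card_pos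

/-- An invariant homomorphism that extends to Sylow-type overgroups extends to the group. -/
theorem extend_of_sylow [Finite G] (N : Subgroup G) [hN : N.Normal] (L0 : N →* ℂˣ)
    (hinv : ∀ (g : G) (n : N), L0 ⟨g * n * g⁻¹, hN.conj_mem n n.2 g⟩ = L0 n)
    (hsyl : ∀ p : ℕ, p.Prime → p ∣ orderOf L0 → ∃ (H : Subgroup G) (hNH : N ≤ H) (ν : H →* ℂˣ),
      Nat.Coprime H.index p ∧ ∀ n : N, ν ⟨n, hNH n.2⟩ = L0 n) :
    ∃ M : G →* ℂˣ, ∀ n : N, M n = L0 n := by
  have key : ∀ k : ℕ, ∀ j : ℕ, orderOf (L0 ^ j) = k → ∃ M : G →* ℂˣ, ∀ n : N, M n = (L0 ^ j) n := by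
    intro k
    induction k using Nat.strong_induction_on with
    | _ k ih =>
      intro j hj
      have hkpos : 0 < k := hj ▸ hom_orderOf_pos _
      by_cases hk1 : k = 1
      · rw [hk1, orderOf_eq_one_iff] at hj
        exact ⟨1, fun n => by rw [hj]; rfl⟩
      set p := k.minFac with hp
      have hpp : p.Prime := Nat.minFac_prime hk1
      have hpk : p ∣ k := Nat.minFac_dvd k
      obtain ⟨a, k', hk'p, hkk'⟩ := Nat.exists_eq_pow_mul_and_not_dvd hkpos.ne' p hpp.ne_one
      have ha0 : a ≠ 0 := by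
        rintro rfl
        rw [pow_zero, one_mul] at hkk'
        rw [← hkk'] at hk'p
        exact hk'p hpk
      have hk'pos : 0 < k' := by
        rcases Nat.eq_zero_or_pos k' with h | h
        · rw [h, mul_zero] at hkk'; omega
        · exact h
      have hk'lt : k' < k := by
        rw [hkk']
        have : 1 < p ^ a := Nat.one_lt_pow ha0 hpp.one_lt
        nlinarith
      -- the p'-part
      have hordb : orderOf ((L0 ^ j) ^ (p ^ a)) = k' := by
        rw [orderOf_pow_of_dvd (pow_ne_zero _ hpp.ne_zero) (by rw [hj, hkk']; exact dvd_mul_right _ _),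
          hj, hkk', Nat.mul_div_cancel_left _ (pow_pos hpp.pos a)]
      have horda : orderOf ((L0 ^ j) ^ k') = p ^ a := by
        rw [orderOf_pow_of_dvd hk'pos.ne' (by rw [hj, hkk']; exact dvd_mul_left _ _),
          hj, hkk', Nat.mul_div_cancel _ hk'pos]
      have epow : L0 ^ (j * p ^ a) = (L0 ^ j) ^ (p ^ a) := by
        ext1 n
        simp only [MonoidHom.pow_apply, pow_mul]
      obtain ⟨Mb, hMb⟩ := ih k' hk'lt (j * p ^ a) (by rw [epow]; exact hordb)
      have hpL0 : p ∣ orderOf L0 := by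
        have h1 : orderOf (L0 ^ j) ∣ orderOf L0 := orderOf_pow_dvd j
        rw [hj] at h1
        exact hpk.trans h1
      obtain ⟨H, hNH, ν, hHp, hν⟩ := hsyl p hpp hpL0
      have hinva : ∀ (g : G) (n : N),
          ((L0 ^ j) ^ k') ⟨g * n * g⁻¹, hN.conj_mem n n.2 g⟩ = ((L0 ^ j) ^ k') n := by
        intro g n
        rw [MonoidHom.pow_apply, MonoidHom.pow_apply, MonoidHom.pow_apply, MonoidHom.pow_apply,
          hinv]
      obtain ⟨Ma, hMa⟩ := extend_of_coprime_index N H hNH ((L0 ^ j) ^ k') hinva ((ν ^ j) ^ k')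
        (by
          intro n
          rw [MonoidHom.pow_apply, MonoidHom.pow_apply, MonoidHom.pow_apply, MonoidHom.pow_apply,
            hν])
        (by rw [horda]; exact Nat.Coprime.pow_right a hHp)
      have hcop : Nat.Coprime (p ^ a) k' :=
        Nat.Coprime.pow_left a ((Nat.Prime.coprime_iff_not_dvd hpp).mpr hk'p)
      have hbez := Nat.gcd_eq_gcd_ab (p ^ a) k'
      rw [hcop.gcd_eq_one] at hbez
      refine ⟨Mb ^ (Nat.gcdA (p ^ a) k') * Ma ^ (Nat.gcdB (p ^ a) k'), ?_⟩
      intro n
      rw [MonoidHom.mul_apply, MonoidHom.zpow_apply, MonoidHom.zpow_apply, hMb, hMa]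
      have e1 : (L0 ^ (j * p ^ a)) n = ((L0 ^ j) n) ^ (p ^ a) := by
        simp only [MonoidHom.pow_apply, pow_mul]
      have e2 : ((L0 ^ j) ^ k') n = ((L0 ^ j) n) ^ k' := MonoidHom.pow_apply _ _ _
      rw [e1, e2]
      rw [← zpow_natCast, ← zpow_natCast, ← zpow_mul, ← zpow_mul, ← zpow_add]
      rw [← hbez, Nat.cast_one, zpow_one]
  obtain ⟨M, hM⟩ := key _ 1 rfl
  exact ⟨M, fun n => by rw [hM, MonoidHom.pow_apply, pow_one]⟩

end Cfsg.Agent.Helper6
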