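import Mathlib
import Cfsg.Prelude.Def_Characters
import Cfsg.Agent.Helper6.CharTripleC
import Cfsg.Agent.Helper6.LinearExt2

/-!
# Extendibility of an invariant irreducible character from Sylow overgroups
-/

set_option autoImplicit false
set_option linter.style.haveILetI false

namespace Cfsg.Agent.Helper6

open Module
open scoped ComplexConjugate

universe u

variable {G : Type u} [Group G]

/-- scalars multiplying an invertible operator on a nontrivial space are determined -/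
theorem scalar_unique_of_unit {V : Type*} [AddCommGroup V] [Module ℂ V] [Nontrivial V]
    (P : (Module.End ℂ V)ˣ) (c c' : ℂ)
    (h : c • (P : Module.End ℂ V) = c' • (P : Module.End ℂ V)) : c = c' := by
  have h1 : (c • (P : Module.End ℂ V)) * ((P⁻¹ : (Module.End ℂ V)ˣ) : Module.End ℂ V) =
      (c' • (P : Module.End ℂ V)) * ((P⁻¹ : (Module.End ℂ V)ˣ) : Module.End ℂ V) := by rw [h]
  rw [smul_mul_assoc, smul_mul_assoc, Units.mul_inv] at h1
  obtain ⟨v, hv⟩ := exists_ne (0 : V)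
  have h2 := LinearMap.congr_fun h1 v
  simp only [LinearMap.smul_apply, Module.End.one_apply] at h2
  have h3 : (c - c') • v = 0 := by rw [sub_smul, h2, sub_self]
  rcases smul_eq_zero.mp h3 with h4 | h4
  · exact sub_eq_zero.mp h4
  · exact absurd h4 hv

variable (N : Subgroup G) [hN : N.Normal] {d : ℕ} (ρ : Representation ℂ N (Fin d → ℂ))

set_option maxHeartbeats 1600000 in
/-- an extension of `ρ` to an overgroup `Q` of `N` differs from the representation of the central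
extension by a scalar at each element over `Q` -/
theorem exists_scalar_intertwine [hirr : ρ.IsIrreducible] (Q : Subgroup G) (hNQ : N ≤ Q)
    {d' : ℕ} (σ : Representation ℂ Q (Fin d' → ℂ))
    (E : (Fin d → ℂ) ≃ₗ[ℂ] (Fin d' → ℂ))
    (hE : ∀ n : N, E.toLinearMap ∘ₗ ρ n = σ ⟨n, hNQ n.2⟩ ∘ₗ E.toLinearMap)
    (x : tripleGroup N ρ) (hx : tripleProj N ρ x ∈ Q) :
    ∃ c : ℂ, E.symm.toLinearMap ∘ₗ σ ⟨tripleProj N ρ x, hx⟩ ∘ₗ E.toLinearMap =
      c • tripleRep N ρ x := by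
  obtain ⟨h1, -⟩ := (mem_tripleGroup N ρ x.1).mp x.2
  obtain ⟨S, hS⟩ : ∃ S : Module.End ℂ (Fin d → ℂ),
      S = E.symm.toLinearMap ∘ₗ σ ⟨tripleProj N ρ x, hx⟩ ∘ₗ E.toLinearMap := ⟨_, rfl⟩
  -- `E.symm` intertwines in the other direction
  have hE' : ∀ n : N, E.symm.toLinearMap ∘ₗ σ ⟨n, hNQ n.2⟩ = ρ n ∘ₗ E.symm.toLinearMap := by
    intro n
    apply LinearMap.ext
    intro w
    have h2 := LinearMap.congr_fun (hE n) (E.symm w)
    simp only [LinearMap.comp_apply, LinearEquiv.coe_coe, LinearEquiv.apply_symm_apply] at h2 ⊢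
    rw [← h2, LinearEquiv.symm_apply_apply]
  have hSint : ∀ n : N, S * ρ n = ρ (cj N (tripleProj N ρ x) n) * S := by
    intro n
    rw [hS]
    have e1 : (⟨tripleProj N ρ x, hx⟩ : Q) * ⟨n, hNQ n.2⟩ =
        ⟨cj N (tripleProj N ρ x) n, hNQ (cj N (tripleProj N ρ x) n).2⟩ *
          ⟨tripleProj N ρ x, hx⟩ := by
      apply Subtype.ext
      simp only [Subgroup.coe_mul, cj]
      group
    calc (E.symm.toLinearMap ∘ₗ σ ⟨tripleProj N ρ x, hx⟩ ∘ₗ E.toLinearMap) * ρ n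
        = E.symm.toLinearMap ∘ₗ σ ⟨tripleProj N ρ x, hx⟩ ∘ₗ (E.toLinearMap ∘ₗ ρ n) := rfl
      _ = E.symm.toLinearMap ∘ₗ (σ ⟨tripleProj N ρ x, hx⟩ * σ ⟨n, hNQ n.2⟩) ∘ₗ
            E.toLinearMap := by rw [hE n]; rfl
      _ = E.symm.toLinearMap ∘ₗ (σ ⟨cj N (tripleProj N ρ x) n,
            hNQ (cj N (tripleProj N ρ x) n).2⟩ * σ ⟨tripleProj N ρ x, hx⟩) ∘ₗ
            E.toLinearMap := by rw [← map_mul, e1, map_mul]
      _ = (E.symm.toLinearMap ∘ₗ σ ⟨cj N (tripleProj N ρ x) n,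
            hNQ (cj N (tripleProj N ρ x) n).2⟩) ∘ₗ σ ⟨tripleProj N ρ x, hx⟩ ∘ₗ
            E.toLinearMap := rfl
      _ = (ρ (cj N (tripleProj N ρ x) n) ∘ₗ E.symm.toLinearMap) ∘ₗ
            σ ⟨tripleProj N ρ x, hx⟩ ∘ₗ E.toLinearMap := by rw [hE']
      _ = ρ (cj N (tripleProj N ρ x) n) *
            (E.symm.toLinearMap ∘ₗ σ ⟨tripleProj N ρ x, hx⟩ ∘ₗ E.toLinearMap) := rfl
  -- `π(x)⁻¹ S` commutes with `ρ`
  obtain ⟨T, hT⟩ : ∃ T : Module.End ℂ (Fin d → ℂ),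
      T = ((x.1.2⁻¹ : (Module.End ℂ (Fin d → ℂ))ˣ) : Module.End ℂ (Fin d → ℂ)) * S := ⟨_, rfl⟩
  have hinvint : ∀ n : N,
      ((x.1.2⁻¹ : (Module.End ℂ (Fin d → ℂ))ˣ) : Module.End ℂ (Fin d → ℂ)) *
        ρ (cj N (tripleProj N ρ x) n) =
      ρ n * ((x.1.2⁻¹ : (Module.End ℂ (Fin d → ℂ))ˣ) : Module.End ℂ (Fin d → ℂ)) := by
    intro n
    have h2 := h1 n
    calc ((x.1.2⁻¹ : (Module.End ℂ (Fin d → ℂ))ˣ) : Module.End ℂ (Fin d → ℂ)) *
          ρ (cj N (tripleProj N ρ x) n)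
        = ((x.1.2⁻¹ : (Module.End ℂ (Fin d → ℂ))ˣ) : Module.End ℂ (Fin d → ℂ)) *
            (ρ (cj N x.1.1 n) * (x.1.2 : Module.End ℂ (Fin d → ℂ))) *
            ((x.1.2⁻¹ : (Module.End ℂ (Fin d → ℂ))ˣ) : Module.End ℂ (Fin d → ℂ)) := by
          rw [mul_assoc, mul_assoc, Units.mul_inv, mul_one]
          rfl
      _ = ((x.1.2⁻¹ : (Module.End ℂ (Fin d → ℂ))ˣ) : Module.End ℂ (Fin d → ℂ)) *
            ((x.1.2 : Module.End ℂ (Fin d → ℂ)) * ρ n) *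
            ((x.1.2⁻¹ : (Module.End ℂ (Fin d → ℂ))ˣ) : Module.End ℂ (Fin d → ℂ)) := by
          rw [h2]
      _ = ρ n * ((x.1.2⁻¹ : (Module.End ℂ (Fin d → ℂ))ˣ) : Module.End ℂ (Fin d → ℂ)) := by
          rw [← mul_assoc, Units.inv_mul, one_mul]
  have hTcomm : ∀ n : N, T ∘ₗ ρ n = ρ n ∘ₗ T := by
    intro n
    show T * ρ n = ρ n * T
    rw [hT, mul_assoc, hSint n, ← mul_assoc, hinvint n, mul_assoc]
  obtain ⟨c, hc⟩ := exists_scalar_of_commute ρ T hTcomm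
  refine ⟨c, ?_⟩
  rw [← hS, tripleRep_apply]
  have h3 : S = (x.1.2 : Module.End ℂ (Fin d → ℂ)) * T := by
    rw [hT, ← mul_assoc, Units.mul_inv, one_mul]
  rw [h3, hc]
  show (x.1.2 : Module.End ℂ (Fin d → ℂ)) * (c • (1 : Module.End ℂ (Fin d → ℂ))) = _
  rw [mul_smul_comm, mul_one]

end Cfsg.Agent.Helper6
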