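import Mathlib
import Cfsg.Prelude.Def_Characters
import Cfsg.Agent.Helper6.CharTripleE

/-!
# Extendibility of an invariant irreducible character from Sylow overgroups: the theorem
-/

set_option autoImplicit false
set_option linter.style.haveILetI false

namespace Cfsg.Agent.Helper6

open Module
open scoped ComplexConjugate

universe u

variable {G : Type u} [Group G]

variable (N : Subgroup G) [hN : N.Normal] {d : ℕ} (ρ : Representation ℂ N (Fin d → ℂ))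

set_option maxHeartbeats 1600000 in
/-- the scalar homomorphism comparing an extension of `ρ` over `Q` with the representation of the
central extension -/
theorem exists_scalarHom [hirr : ρ.IsIrreducible] (Q : Subgroup G) (hNQ : N ≤ Q)
    {d' : ℕ} (σ : Representation ℂ Q (Fin d' → ℂ))
    (E : (Fin d → ℂ) ≃ₗ[ℂ] (Fin d' → ℂ))
    (hE : ∀ n : N, E.toLinearMap ∘ₗ ρ n = σ ⟨n, hNQ n.2⟩ ∘ₗ E.toLinearMap) :
    ∃ ν : ↥(Q.comap (tripleProj N ρ)) →* ℂˣ, ∀ x : ↥(Q.comap (tripleProj N ρ)),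
      E.symm.toLinearMap ∘ₗ σ ⟨tripleProj N ρ x.1, x.2⟩ ∘ₗ E.toLinearMap =
        ((ν x : ℂˣ) : ℂ) • tripleRep N ρ x.1 := by
  haveI : Nontrivial (Fin d → ℂ) := irr_nontrivial ρ
  have hex : ∀ x : ↥(Q.comap (tripleProj N ρ)), ∃ c : ℂ,
      E.symm.toLinearMap ∘ₗ σ ⟨tripleProj N ρ x.1, x.2⟩ ∘ₗ E.toLinearMap =
        c • tripleRep N ρ x.1 := fun x => exists_scalar_intertwine N ρ Q hNQ σ E hE x.1 x.2
  choose c hc using hex
  have hEE : E.toLinearMap ∘ₗ E.symm.toLinearMap = LinearMap.id := by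
    apply LinearMap.ext
    intro w
    simp
  have hEE' : E.symm.toLinearMap ∘ₗ E.toLinearMap = LinearMap.id := by
    apply LinearMap.ext
    intro w
    simp
  have hone : c 1 = 1 := by
    have h1 := hc 1
    have e1 : (⟨tripleProj N ρ ((1 : ↥(Q.comap (tripleProj N ρ))) : tripleGroup N ρ),
        (1 : ↥(Q.comap (tripleProj N ρ))).2⟩ : Q) = 1 := by
      apply Subtype.ext
      simp
    rw [e1, map_one] at h1
    have h2 : E.symm.toLinearMap ∘ₗ (1 : Module.End ℂ (Fin d' → ℂ)) ∘ₗ E.toLinearMap =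
        (1 : Module.End ℂ (Fin d → ℂ)) := by
      show E.symm.toLinearMap ∘ₗ (LinearMap.id ∘ₗ E.toLinearMap) = LinearMap.id
      rw [LinearMap.id_comp, hEE']
    rw [h2] at h1
    have h3 : tripleRep N ρ ((1 : ↥(Q.comap (tripleProj N ρ))) : tripleGroup N ρ) = 1 := by
      rw [Subgroup.coe_one, map_one]
    rw [h3] at h1
    have h4 : c 1 • (((1 : (Module.End ℂ (Fin d → ℂ))ˣ)) : Module.End ℂ (Fin d → ℂ)) =
        (1 : ℂ) • (((1 : (Module.End ℂ (Fin d → ℂ))ˣ)) : Module.End ℂ (Fin d → ℂ)) := by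
      rw [Units.val_one, one_smul, ← h1]
    exact scalar_unique_of_unit 1 _ _ h4
  have hmul : ∀ x y : ↥(Q.comap (tripleProj N ρ)), c (x * y) = c x * c y := by
    intro x y
    have h1 := hc (x * y)
    have e1 : (⟨tripleProj N ρ ((x * y : ↥(Q.comap (tripleProj N ρ))) : tripleGroup N ρ),
        (x * y).2⟩ : Q) = ⟨tripleProj N ρ x.1, x.2⟩ * ⟨tripleProj N ρ y.1, y.2⟩ := by
      apply Subtype.ext
      simp
    rw [e1, map_mul] at h1
    have h2 : E.symm.toLinearMap ∘ₗ (σ ⟨tripleProj N ρ x.1, x.2⟩ *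
        σ ⟨tripleProj N ρ y.1, y.2⟩) ∘ₗ E.toLinearMap =
        (E.symm.toLinearMap ∘ₗ σ ⟨tripleProj N ρ x.1, x.2⟩ ∘ₗ E.toLinearMap) *
          (E.symm.toLinearMap ∘ₗ σ ⟨tripleProj N ρ y.1, y.2⟩ ∘ₗ E.toLinearMap) := by
      show _ = (E.symm.toLinearMap ∘ₗ σ ⟨tripleProj N ρ x.1, x.2⟩ ∘ₗ E.toLinearMap) ∘ₗ
          (E.symm.toLinearMap ∘ₗ σ ⟨tripleProj N ρ y.1, y.2⟩ ∘ₗ E.toLinearMap)
      have : (E.symm.toLinearMap ∘ₗ σ ⟨tripleProj N ρ x.1, x.2⟩ ∘ₗ E.toLinearMap) ∘ₗ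
          (E.symm.toLinearMap ∘ₗ σ ⟨tripleProj N ρ y.1, y.2⟩ ∘ₗ E.toLinearMap) =
          E.symm.toLinearMap ∘ₗ σ ⟨tripleProj N ρ x.1, x.2⟩ ∘ₗ
            (E.toLinearMap ∘ₗ E.symm.toLinearMap) ∘ₗ σ ⟨tripleProj N ρ y.1, y.2⟩ ∘ₗ
              E.toLinearMap := rfl
      rw [this, hEE, LinearMap.id_comp]
      rfl
    rw [h2, hc x, hc y, smul_mul_smul_comm] at h1
    have h3 : tripleRep N ρ ((x * y : ↥(Q.comap (tripleProj N ρ))) : tripleGroup N ρ) =
        tripleRep N ρ x.1 * tripleRep N ρ y.1 := by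
      rw [Subgroup.coe_mul, map_mul]
    rw [← h3, tripleRep_apply] at h1
    exact (scalar_unique_of_unit _ _ _ h1).symm
  obtain ⟨f, hf⟩ : ∃ f : ↥(Q.comap (tripleProj N ρ)) →* ℂ, ∀ x, f x = c x :=
    ⟨{ toFun := c, map_one' := hone, map_mul' := hmul }, fun _ => rfl⟩
  refine ⟨f.toHomUnits, fun x => ?_⟩
  rw [MonoidHom.coe_toHomUnits, hf, hc x]

end Cfsg.Agent.Helper6
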