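import Mathlib
import Cfsg.Prelude.Def_Characters
import Cfsg.Agent.Helper6.CharTripleF

/-!
# Extendibility of an invariant irreducible character from Sylow overgroups: the theorem
-/

set_option autoImplicit false
set_option linter.style.haveILetI false

namespace Cfsg.Agent.Helper6

open Module
open scoped ComplexConjugate

universe u

variable {G : Type u} [Group G]

set_option maxHeartbeats 3200000 in
/-- **an invariant irreducible character that extends to Sylow overgroups extends to the group** -/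
theorem extends_of_sylow_extensions [Finite G] (N : Subgroup G) [hN : N.Normal] (ϑ : N → ℂ)
    (hϑ : Cfsg.IsIrrCharacter N ϑ)
    (hinv : ∀ (g : G) (n : N), ϑ ⟨g * n * g⁻¹, hN.conj_mem (n : G) n.2 g⟩ = ϑ n)
    (hsyl : ∀ p : ℕ, p.Prime → ∃ (P : Subgroup G) (hNP : N ≤ P) (η : P → ℂ),
      Nat.Coprime P.index p ∧ (∃ k : ℕ, N.relIndex P = p ^ k) ∧ Cfsg.IsIrrCharacter P η ∧
        ∀ n : N, η ⟨(n : G), hNP n.2⟩ = ϑ n) :
    ∃ χ : G → ℂ, Cfsg.IsIrrCharacter G χ ∧ ∀ n : N, χ n = ϑ n := by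
  classical
  haveI := Fintype.ofFinite G
  haveI : Fintype N := Fintype.ofFinite _
  obtain ⟨d, ρ, hirr, rfl⟩ := hϑ
  haveI := hirr
  haveI : Nontrivial (Fin d → ℂ) := irr_nontrivial ρ
  haveI := tripleGroup_finite N ρ
  have hq : Function.Surjective (tripleProj N ρ) := tripleProj_surjective N ρ hinv
  -- the scalar homomorphism on the preimage of `N`
  have hE0 : ∀ n : N, (LinearEquiv.refl ℂ (Fin d → ℂ)).toLinearMap ∘ₗ ρ n =
      ρ ⟨n, (le_refl N) n.2⟩ ∘ₗ (LinearEquiv.refl ℂ (Fin d → ℂ)).toLinearMap := by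
    intro n
    rfl
  obtain ⟨L0, hL0⟩ := exists_scalarHom N ρ N (le_refl N) ρ (LinearEquiv.refl ℂ (Fin d → ℂ)) hE0
  have hL0' : ∀ x : ↥(N.comap (tripleProj N ρ)),
      ρ ⟨tripleProj N ρ x.1, x.2⟩ = ((L0 x : ℂˣ) : ℂ) • tripleRep N ρ x.1 := by
    intro x
    rw [← hL0 x]
    rfl
  haveI hHn : (N.comap (tripleProj N ρ)).Normal := Subgroup.Normal.comap hN _
  -- invariance
  have hinvL0 : ∀ (g : tripleGroup N ρ) (h : ↥(N.comap (tripleProj N ρ))),
      L0 ⟨g * h * g⁻¹, hHn.conj_mem h h.2 g⟩ = L0 h := by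
    intro g h
    obtain ⟨h1, -⟩ := (mem_tripleGroup N ρ g.1).mp g.2
    have e1 := hL0' ⟨g * h * g⁻¹, hHn.conj_mem h h.2 g⟩
    have e2 := hL0' h
    have e3 : (⟨tripleProj N ρ (g * (h : tripleGroup N ρ) * g⁻¹),
        (hHn.conj_mem h h.2 g)⟩ : N) = cj N (tripleProj N ρ g) ⟨tripleProj N ρ h.1, h.2⟩ := by
      apply Subtype.ext
      simp [cj]
    have e4 : ρ (cj N (tripleProj N ρ g) ⟨tripleProj N ρ h.1, h.2⟩) =
        (g.1.2 : Module.End ℂ (Fin d → ℂ)) * ρ ⟨tripleProj N ρ h.1, h.2⟩ *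
          ((g.1.2⁻¹ : (Module.End ℂ (Fin d → ℂ))ˣ) : Module.End ℂ (Fin d → ℂ)) := by
      rw [h1, mul_assoc, Units.mul_inv, mul_one]
      rfl
    have e5 : tripleRep N ρ (g * (h : tripleGroup N ρ) * g⁻¹) =
        (g.1.2 : Module.End ℂ (Fin d → ℂ)) * tripleRep N ρ h.1 *
          ((g.1.2⁻¹ : (Module.End ℂ (Fin d → ℂ))ˣ) : Module.End ℂ (Fin d → ℂ)) := by
      rw [map_mul, map_mul]
      rfl
    have e6 : ((L0 ⟨g * h * g⁻¹, hHn.conj_mem h h.2 g⟩ : ℂˣ) : ℂ) •
        tripleRep N ρ (g * (h : tripleGroup N ρ) * g⁻¹) =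
        ((L0 h : ℂˣ) : ℂ) • tripleRep N ρ (g * (h : tripleGroup N ρ) * g⁻¹) := by
      rw [← e1, e3, e4, e2, e5, mul_smul_comm, smul_mul_assoc]
    apply Units.ext
    rw [tripleRep_apply] at e6
    exact scalar_unique_of_unit _ _ _ e6
  -- extensions over the Sylow overgroups
  have hsyl' : ∀ p : ℕ, p.Prime → p ∣ orderOf L0 →
      ∃ (K : Subgroup (tripleGroup N ρ)) (hHK : N.comap (tripleProj N ρ) ≤ K) (ν : K →* ℂˣ),
        Nat.Coprime K.index p ∧ ∀ h : ↥(N.comap (tripleProj N ρ)), ν ⟨h, hHK h.2⟩ = L0 h := by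
    intro p hp _
    obtain ⟨P, hNP, η, hcop, -, hηirr, hηres⟩ := hsyl p hp
    obtain ⟨d', σ, hσirr, hσ⟩ := hηirr
    obtain ⟨σ', hσ'⟩ : ∃ σ' : Representation ℂ N (Fin d' → ℂ),
        σ' = σ.comp (Subgroup.inclusion hNP) := ⟨_, rfl⟩
    have hσ'app : ∀ n : N, σ' n = σ ⟨n, hNP n.2⟩ := by
      intro n
      rw [hσ']
      rfl
    have hchar : ρ.character = σ'.character := by
      funext n
      have : σ'.character n = σ.character ⟨n, hNP n.2⟩ := by
        unfold Representation.character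
        rw [hσ'app]
      rw [this, hσ, hηres]
    obtain ⟨E⟩ := equiv_of_char_eq ρ σ' hchar
    obtain ⟨F, hF⟩ : ∃ F : (Fin d → ℂ) ≃ₗ[ℂ] (Fin d' → ℂ), F = E.toLinearEquiv := ⟨_, rfl⟩
    have hE : ∀ n : N, F.toLinearMap ∘ₗ ρ n = σ ⟨n, hNP n.2⟩ ∘ₗ F.toLinearMap := by
      intro n
      rw [hF, ← hσ'app]
      exact E.isIntertwining' n
    obtain ⟨ν, hν⟩ := exists_scalarHom N ρ P hNP σ F hE
    have hHK : N.comap (tripleProj N ρ) ≤ P.comap (tripleProj N ρ) :=
      Subgroup.comap_mono hNP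
    refine ⟨P.comap (tripleProj N ρ), hHK, ν, ?_, ?_⟩
    · rw [Subgroup.index_comap_of_surjective P hq]
      exact hcop
    · intro h
      have e1 := hν ⟨h, hHK h.2⟩
      have e2 := hL0' h
      have e3 : F.symm.toLinearMap ∘ₗ
          σ ⟨tripleProj N ρ h.1, hHK h.2⟩ ∘ₗ F.toLinearMap =
          ρ ⟨tripleProj N ρ h.1, h.2⟩ := by
        have h5 := hE ⟨tripleProj N ρ h.1, h.2⟩
        apply LinearMap.ext
        intro w
        have h6 := LinearMap.congr_fun h5 w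
        simp only [LinearMap.comp_apply, LinearEquiv.coe_coe] at h6 ⊢
        rw [← h6, LinearEquiv.symm_apply_apply]
      have e4 : ((ν ⟨h, hHK h.2⟩ : ℂˣ) : ℂ) • tripleRep N ρ h.1 =
          ((L0 h : ℂˣ) : ℂ) • tripleRep N ρ h.1 := by
        rw [← e2, ← e3]
        exact e1.symm
      apply Units.ext
      rw [tripleRep_apply] at e4
      exact scalar_unique_of_unit _ _ _ e4
  obtain ⟨M, hM⟩ := extend_of_sylow (N.comap (tripleProj N ρ)) L0 hinvL0 hsyl'
  -- the twisted representation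
  obtain ⟨Tw, hTw⟩ : ∃ Tw : tripleGroup N ρ →* Module.End ℂ (Fin d → ℂ),
      ∀ x, Tw x = ((M x : ℂˣ) : ℂ) • tripleRep N ρ x := by
    refine ⟨{ toFun := fun x => ((M x : ℂˣ) : ℂ) • tripleRep N ρ x
              map_one' := ?_
              map_mul' := ?_ }, fun _ => rfl⟩
    · rw [map_one, map_one, Units.val_one, one_smul]
    · intro x y
      rw [map_mul, map_mul, Units.val_mul, smul_mul_smul_comm]
  have hker : (tripleProj N ρ).ker ≤ Tw.toHomUnits.ker := by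
    intro a ha
    rw [MonoidHom.mem_ker] at ha ⊢
    have haH : a ∈ N.comap (tripleProj N ρ) := by
      rw [Subgroup.mem_comap, ha]
      exact N.one_mem
    have e1 := hL0' ⟨a, haH⟩
    have e2 : (⟨tripleProj N ρ a, haH⟩ : N) = 1 := Subtype.ext ha
    rw [e2, map_one] at e1
    apply Units.ext
    rw [MonoidHom.coe_toHomUnits, hTw, hM ⟨a, haH⟩, ← e1]
    rfl
  obtain ⟨Sgu, hSgu⟩ : ∃ Sgu : G →* (Module.End ℂ (Fin d → ℂ))ˣ,
      ∀ x, Sgu (tripleProj N ρ x) = Tw.toHomUnits x :=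
    ⟨(tripleProj N ρ).liftOfRightInverseAux (Function.surjInv hq)
      (Function.rightInverse_surjInv hq) Tw.toHomUnits hker,
      fun x => MonoidHom.liftOfRightInverseAux_comp_apply _ _ _ _ hker x⟩
  obtain ⟨Sg, hSg⟩ : ∃ Sg : Representation ℂ G (Fin d → ℂ), ∀ x, Sg (tripleProj N ρ x) = Tw x := by
    refine ⟨(Units.coeHom _).comp Sgu, fun x => ?_⟩
    show ((Sgu (tripleProj N ρ x) : (Module.End ℂ (Fin d → ℂ))ˣ) : Module.End ℂ (Fin d → ℂ)) = _
    rw [hSgu, MonoidHom.coe_toHomUnits]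
  have hSgN : ∀ n : N, Sg (n : G) = ρ n := by
    intro n
    have e0 : tripleProj N ρ (tripleEmb N ρ n) = (n : G) := rfl
    rw [← e0, hSg, hTw]
    have hnH : tripleEmb N ρ n ∈ N.comap (tripleProj N ρ) := by
      rw [Subgroup.mem_comap, e0]
      exact n.2
    have e1 := hL0' ⟨tripleEmb N ρ n, hnH⟩
    have e2 : (⟨tripleProj N ρ (tripleEmb N ρ n), hnH⟩ : N) = n := Subtype.ext e0
    rw [e2] at e1
    rw [hM ⟨tripleEmb N ρ n, hnH⟩]
    exact e1.symm
  refine ⟨Sg.character, ?_, fun n => ?_⟩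
  · apply isIrrCharacter_of_comp_irr N.subtype ⟨d, Sg, rfl⟩
    refine ⟨d, ρ, hirr, ?_⟩
    funext n
    show ρ.character n = Sg.character (n : G)
    unfold Representation.character
    rw [hSgN]
  · unfold Representation.character
    rw [hSgN]

end Cfsg.Agent.Helper6
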