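import Mathlib
import Cfsg.Prelude.Def_Characters
import Cfsg.Agent.Helper6.CliffordOrbit
import Cfsg.Agent.Helper6.AbelianInertia
import Cfsg.Agent.Helper6.FullyRamified
import Cfsg.Agent.Helper6.CliffordCorr
import Cfsg.Agent.Helper6.Degrees

/-!
# Restriction of an invariant character to the bottom of an abelian chief factor (Isaacs 6.18)
-/

set_option autoImplicit false
set_option linter.style.haveILetI false

namespace Cfsg.Agent.Helper6

open scoped ComplexConjugate

universe u v

variable {X : Type u} [Group X]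

/-- Composition of a function on a subgroup with an automorphism stabilizing it. -/
def autFun (N : Subgroup X) (α : X ≃* X) (hα : ∀ n ∈ N, α n ∈ N) (φ : N → ℂ) : N → ℂ :=
  fun n => φ ⟨α n, hα n n.2⟩

/-- The restriction of a stabilizing automorphism to the subgroup. -/
noncomputable def autRestrict [Finite X] (N : Subgroup X) (α : X ≃* X) (hα : ∀ n ∈ N, α n ∈ N) :
    N ≃* N :=
  MulEquiv.ofBijective
    ({ toFun := fun n => ⟨α n, hα n n.2⟩
       map_one' := by apply Subtype.ext; simp
       map_mul' := by intro a b; apply Subtype.ext; simp } : N →* N)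
    (by
      have hinj : Function.Injective (fun n : N => (⟨α n, hα n n.2⟩ : N)) := by
        intro a b hab
        have := congrArg Subtype.val hab
        exact Subtype.ext (α.injective this)
      exact ⟨hinj, Finite.injective_iff_surjective.mp hinj⟩)

theorem autRestrict_apply [Finite X] (N : Subgroup X) (α : X ≃* X) (hα : ∀ n ∈ N, α n ∈ N)
    (n : N) : autRestrict N α hα n = ⟨α n, hα n n.2⟩ := rfl

theorem autFun_eq_comp [Finite X] (N : Subgroup X) (α : X ≃* X) (hα : ∀ n ∈ N, α n ∈ N)
    (φ : N → ℂ) : autFun N α hα φ = φ ∘ (autRestrict N α hα) := rfl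

theorem autFun_isIrr [Finite X] (N : Subgroup X) (α : X ≃* X) (hα : ∀ n ∈ N, α n ∈ N)
    {φ : N → ℂ} (hφ : Cfsg.IsIrrCharacter N φ) : Cfsg.IsIrrCharacter N (autFun N α hα φ) := by
  rw [autFun_eq_comp]
  exact IsIrrCharacter.comp_mulEquiv _ hφ

theorem classInner_autFun [Finite X] (N : Subgroup X) [Fintype N] (α : X ≃* X)
    (hα : ∀ n ∈ N, α n ∈ N) (φ ψ : N → ℂ) :
    Cfsg.classInner (autFun N α hα φ) (autFun N α hα ψ) = Cfsg.classInner φ ψ := by
  rw [autFun_eq_comp, autFun_eq_comp]
  exact classInner_comp_equiv (autRestrict N α hα).toEquiv φ ψ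

set_option maxHeartbeats 1600000 in
/-- Isaacs Theorem 6.18 in abstract form. -/
theorem chief_restrict [Fintype X] (N : Subgroup X) [hN : N.Normal] [Fintype N]
    (A : Set (X ≃* X)) (hAN : ∀ α ∈ A, ∀ n ∈ N, α n ∈ N)
    (hchief : ∀ M : Subgroup X, N ≤ M → (∀ α ∈ A, ∀ m ∈ M, α m ∈ M) → M = N ∨ M = ⊤)
    (hab : ∀ x y : X, x * y * x⁻¹ * y⁻¹ ∈ N)
    (ϑ : X → ℂ) (hϑ : Cfsg.IsIrrCharacter X ϑ) (hinv : ∀ α ∈ A, ∀ x, ϑ (α x) = ϑ x) :
    Cfsg.IsIrrCharacter N (fun n : N => ϑ n) ∨
    (∃ (φ : N → ℂ) (e : ℕ), Cfsg.IsIrrCharacter N φ ∧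
      (fun n : N => ϑ n) = (e : ℂ) • φ ∧ e ^ 2 = N.index) ∨
    (∃ F : Finset (N → ℂ), (∀ φ ∈ F, Cfsg.IsIrrCharacter N φ) ∧ F.card = N.index ∧
      (fun n : N => ϑ n) = ∑ φ ∈ F, φ) := by
  classical
  haveI : Finite (Cfsg.IrrCharacter X) := irr_finite
  haveI : Fintype (Cfsg.IrrCharacter X) := Fintype.ofFinite _
  have hϑc := IsIrrCharacter.isCharacter hϑ
  have hϑcf := IsCharacter.isClassFunction hϑc
  have hres : Cfsg.IsCharacter N (fun n : N => ϑ n) := IsCharacter.restrict N hϑc
  have hres0 : (fun n : N => ϑ n) ≠ 0 := by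
    intro h
    have h1 := congrFun h 1
    exact IsIrrCharacter.apply_one_ne_zero hϑ h1
  obtain ⟨φ, hφ, hne⟩ := exists_irr_constituent hres hres0
  have hφc := IsIrrCharacter.isCharacter hφ
  have hNT : N ≤ conjStab N φ :=
    le_conjStab_of_isClassFunction N φ (IsCharacter.isClassFunction hφc)
  -- the stabilizer is A-stable
  have hTA : ∀ α ∈ A, ∀ t ∈ conjStab N φ, α t ∈ conjStab N φ := by
    intro α hα t ht
    have hirr' := autFun_isIrr N α (hAN α hα) hφ
    have hne' : Cfsg.classInner (fun n : N => ϑ n) (autFun N α (hAN α hα) φ) ≠ 0 := by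
      have h1 : (fun n : N => ϑ n) = autFun N α (hAN α hα) (fun n : N => ϑ n) := by
        ext n
        exact (hinv α hα n).symm
      rw [h1, classInner_autFun]
      exact hne
    obtain ⟨y, hy⟩ := conj_of_constituents N ϑ hϑ φ hφ hne _ hirr' hne'
    rw [mem_conjStab]
    ext n
    obtain ⟨m, rfl⟩ := (autRestrict N α (hAN α hα)).surjective n
    have h1 : conjFun N φ (α t) (autRestrict N α (hAN α hα) m) =
        conjFun N (autFun N α (hAN α hα) φ) t m := by
      unfold conjFun autFun
      congr 1
      apply Subtype.ext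
      simp [autRestrict_apply]
    rw [h1, hy, conjFun_mul]
    have h2 : y * t = (y * t * y⁻¹ * t⁻¹) * t * y := by group
    rw [h2, ← conjFun_mul, ← conjFun_mul]
    rw [(mem_conjStab N φ _).mp (hNT (hab y t)), (mem_conjStab N φ t).mp ht, ← hy]
    rfl
  obtain ⟨e', he'⟩ := classInner_char_char_nat hres hφc
  have he'0 : e' ≠ 0 := by
    rintro rfl
    rw [Nat.cast_zero] at he'
    exact hne he'
  obtain ⟨f, hf0, hf⟩ := IsIrrCharacter.apply_one_pos hφ
  rcases hchief (conjStab N φ) hNT hTA with hT | hT
  · -- inertia group is `N`: restriction is a sum of `|X : N|` distinct conjugates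
    right; right
    have hcl := clifford N ϑ hϑ φ hφ hne
    let O : Finset (N → ℂ) := (Finset.univ : Finset X).image (fun g : X => conjFun N φ g)
    have hset : {ψ : N → ℂ | ∃ g : X, ψ = conjFun N φ g} = ↑O := by
      ext ψ
      simp only [O, Set.mem_ofPred_eq, Finset.coe_image, Finset.coe_univ, Set.image_univ,
        Set.mem_range]
      constructor
      · rintro ⟨g, rfl⟩
        exact ⟨g, rfl⟩
      · rintro ⟨g, rfl⟩
        exact ⟨g, rfl⟩
    rw [hset, finsum_mem_coe_finset] at hcl
    have hdeg := clifford_degree N ϑ hϑ φ hφ hne (conjStab N φ) (fun g => Iff.rfl)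
    have hne'' : Cfsg.classInner (Cfsg.indFun N φ) ϑ ≠ 0 := by
      rw [frobenius_reciprocity N φ ϑ hϑcf, classInner_conj_symm]
      intro h
      exact hne ((map_eq_zero (starRingEnd ℂ)).mp h)
    obtain ⟨a, b, ha, hb, hab'⟩ :=
      degree_le_of_classInner_ne_zero (isCharacter_indFun N φ hφc) hϑ hne''
    rw [indFun_apply_one, hf] at hb
    rw [he', hf, ha, hT] at hdeg
    have h1 : a = e' * N.index * f := by exact_mod_cast hdeg
    have h2 : N.index * f = b := by exact_mod_cast hb
    have hidx : 0 < N.index := Nat.pos_of_ne_zero Subgroup.index_ne_zero_of_finite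
    have he1 : e' = 1 := by
      have h3 : e' * (N.index * f) ≤ 1 * (N.index * f) := by
        rw [one_mul, ← mul_assoc, ← h1, h2]
        exact hab'
      have := Nat.le_of_mul_le_mul_right h3 (Nat.mul_pos hidx hf0)
      omega
    refine ⟨O, ?_, ?_, ?_⟩
    · intro ψ hψ
      obtain ⟨g, -, rfl⟩ := Finset.mem_image.mp hψ
      exact conjFun_isIrr N hφ g
    · rw [card_conj_orbit, hT]
    · rw [hcl, he', he1, Nat.cast_one, one_smul]
  · -- `φ` is invariant
    have hinvφ : ∀ x : X, conjFun N φ x = φ := by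
      intro x
      exact (mem_conjStab N φ x).mp (hT ▸ Subgroup.mem_top x)
    obtain ⟨e, Ψ, he, hΨ, hΨres, hcard, -⟩ := abelian_quotient_clifford N φ hφ hinvφ hab
    have hϑΨ : (⟨ϑ, hϑ⟩ : Cfsg.IrrCharacter X) ∈ Ψ := (hΨ _).mpr hne
    have hϑres : (fun n : N => ϑ n) = (e : ℂ) • φ := hΨres _ hϑΨ
    let U : Subgroup X :=
      { carrier := {x | ∀ lam : X →* ℂˣ, (∀ n ∈ N, lam n = 1) →
          (∀ y, ((lam y : ℂˣ) : ℂ) * ϑ y = ϑ y) → lam x = 1}
        one_mem' := fun lam _ _ => map_one lam
        mul_mem' := by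
          intro a b ha hb lam h1 h2
          rw [map_mul, ha lam h1 h2, hb lam h1 h2, one_mul]
        inv_mem' := by
          intro a ha lam h1 h2
          rw [map_inv, ha lam h1 h2, inv_one] }
    have hNU : N ≤ U := fun n hn lam h1 _ => h1 n hn
    have hUA : ∀ α ∈ A, ∀ m ∈ U, α m ∈ U := by
      intro α hα m hm lam h1 h2
      have := hm (lam.comp α.toMonoidHom) (fun n hn => h1 _ (hAN α hα n hn)) (by
        intro y
        have := h2 (α y)
        rw [hinv α hα y] at this
        exact this)
      exact this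
    have hvan : ∀ x : X, x ∉ U → ϑ x = 0 := by
      intro x hx
      have hx' : ¬ ∀ lam : X →* ℂˣ, (∀ n ∈ N, lam n = 1) →
          (∀ y, ((lam y : ℂˣ) : ℂ) * ϑ y = ϑ y) → lam x = 1 := hx
      push Not at hx'
      obtain ⟨lam, h1, h2, h3⟩ := hx'
      have h4 := h2 x
      have h5 : (((lam x : ℂˣ) : ℂ) - 1) * ϑ x = 0 := by rw [sub_mul, h4, one_mul, sub_self]
      rcases mul_eq_zero.mp h5 with h6 | h6
      · exfalso
        apply h3
        apply Units.ext
        rw [Units.val_one]
        exact sub_eq_zero.mp h6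
      · exact h6
    rcases hchief U hNU hUA with hU | hU
    · -- fully ramified
      right; left
      have hv : ∀ g : X, g ∉ N → ϑ g = 0 := by
        intro g hg
        apply hvan
        rw [hU]
        exact hg
      have h1 := (vanish_off_iff_classInner_restrict N ϑ hϑ).mp hv
      rw [hϑres, classInner_smul_left, classInner_smul_right, classInner_irr_self hφ,
        Complex.conj_natCast, mul_one] at h1
      refine ⟨φ, e, hφ, hϑres, ?_⟩
      have : ((e ^ 2 : ℕ) : ℂ) = (N.index : ℂ) := by
        rw [← h1]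
        push_cast
        ring
      exact_mod_cast this
    · -- irreducible restriction
      left
      have htriv : ∀ lam : X →* ℂˣ, (∀ n ∈ N, lam n = 1) →
          (∀ y, ((lam y : ℂˣ) : ℂ) * ϑ y = ϑ y) → lam = 1 := by
        intro lam h1 h2
        ext x
        have hx : x ∈ U := hU ▸ Subgroup.mem_top x
        rw [hx lam h1 h2]
        rfl
      letI : CommGroup (X ⧸ N) := { (inferInstance : Group (X ⧸ N)) with
        mul_comm := by
          intro a b
          obtain ⟨a, rfl⟩ := QuotientGroup.mk_surjective a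
          obtain ⟨b, rfl⟩ := QuotientGroup.mk_surjective b
          rw [← QuotientGroup.mk_mul, ← QuotientGroup.mk_mul, QuotientGroup.eq]
          have := hab b⁻¹ a⁻¹
          have h2 : (a * b)⁻¹ * (b * a) = b⁻¹ * a⁻¹ * b⁻¹⁻¹ * a⁻¹⁻¹ := by group
          rw [h2]
          exact this }
      have hcardHom : Nat.card ((X ⧸ N) →* ℂˣ) = N.index := by
        have := CommGroup.card_monoidHom_of_hasEnoughRootsOfUnity (X ⧸ N) ℂ
        rw [Subgroup.index_eq_card]
        exact this
      -- injection of the dual group into Ψ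
      let F : ((X ⧸ N) →* ℂˣ) → Cfsg.IrrCharacter X := fun μ =>
        ⟨ϑ * fun g => (((μ.comp (QuotientGroup.mk' N)) g : ℂˣ) : ℂ),
          IsIrrCharacter.mul_hom (μ.comp (QuotientGroup.mk' N)) hϑ⟩
      have hFmem : ∀ μ, F μ ∈ Ψ := by
        intro μ
        rw [hΨ]
        have h1 : (fun n : N => (F μ : X → ℂ) n) = fun n : N => ϑ n := by
          ext n
          change ϑ n * (((μ.comp (QuotientGroup.mk' N)) n : ℂˣ) : ℂ) = ϑ n
          have : (QuotientGroup.mk' N) (n : X) = 1 := by
            rw [QuotientGroup.mk'_apply, QuotientGroup.eq_one_iff]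
            exact n.2
          rw [MonoidHom.comp_apply, this, map_one, Units.val_one, mul_one]
        rw [h1]
        exact hne
      have hFinj : Function.Injective F := by
        intro μ ν hμν
        have h1 : ∀ y : X, ϑ y * (((μ.comp (QuotientGroup.mk' N)) y : ℂˣ) : ℂ) =
            ϑ y * (((ν.comp (QuotientGroup.mk' N)) y : ℂˣ) : ℂ) := by
          intro y
          exact congrFun (congrArg Subtype.val hμν) y
        have h2 := htriv ((μ / ν).comp (QuotientGroup.mk' N)) (by
          intro n hn
          have : (QuotientGroup.mk' N) n = 1 := by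
            rw [QuotientGroup.mk'_apply, QuotientGroup.eq_one_iff]
            exact hn
          rw [MonoidHom.comp_apply, this, map_one]) (by
          intro y
          have h3 := h1 y
          rw [MonoidHom.comp_apply, MonoidHom.div_apply, Units.val_div_eq_div_val]
          rw [MonoidHom.comp_apply, MonoidHom.comp_apply] at h3
          have hν0 : ((ν ((QuotientGroup.mk' N) y) : ℂˣ) : ℂ) ≠ 0 := Units.ne_zero _
          field_simp
          rw [mul_comm, h3, mul_comm])
        apply MonoidHom.ext
        intro q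
        obtain ⟨y, rfl⟩ := QuotientGroup.mk_surjective q
        have h3 := DFunLike.congr_fun h2 y
        rw [MonoidHom.comp_apply, MonoidHom.div_apply, MonoidHom.one_apply, div_eq_one] at h3
        rw [QuotientGroup.mk'_apply] at h3
        rw [h3]
      have hle : N.index ≤ Ψ.card := by
        rw [← hcardHom]
        haveI : Finite ((X ⧸ N) →* ℂˣ) := by
          apply Nat.finite_of_card_ne_zero
          rw [hcardHom]
          exact Subgroup.index_ne_zero_of_finite
        haveI : Fintype ((X ⧸ N) →* ℂˣ) := Fintype.ofFinite _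
        rw [Nat.card_eq_fintype_card, ← Finset.card_univ]
        exact Finset.card_le_card_of_injOn F (fun μ _ => hFmem μ) (fun a _ b _ h => hFinj h)
      have hcardX : Nat.card X = N.index * Nat.card N := (N.index_mul_card).symm
      rw [hcardX] at hcard
      have hNpos : 0 < Nat.card N := Nat.card_pos
      have h5 : e ^ 2 * Ψ.card = N.index := Nat.eq_of_mul_eq_mul_right hNpos hcard
      have hΨpos : 0 < Ψ.card := Finset.card_pos.mpr ⟨_, hϑΨ⟩
      have he1 : e = 1 := by
        have h6 : e ^ 2 * Ψ.card ≤ 1 * Ψ.card := by rw [h5, one_mul]; exact hle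
        have h7 := Nat.le_of_mul_le_mul_right h6 hΨpos
        have h8 : e ≤ 1 := by
          by_contra hcon
          have : 2 ≤ e := by omega
          nlinarith
        omega
      rw [hϑres, he1, Nat.cast_one, one_smul]
      exact hφ

end Cfsg.Agent.Helper6
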