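import Mathlib
import Cfsg.Prelude.Def_Characters
import Cfsg.Prelude.Def_Blocks
import Cfsg.Agent.Helper6.Codegree
import Cfsg.Agent.Helper6.Extraspecial
import Cfsg.Agent.Helper6.OddReal

/-!
# Perfect groups and prime codegrees
-/

set_option autoImplicit false
set_option linter.style.haveILetI false

namespace Cfsg.Agent.Helper6

open Module Representation ComplexConjugate
open scoped commutatorElement

universe u v

variable {G : Type u} [Group G]

/-- A homomorphism from a perfect group to a commutative monoid is trivial. -/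
theorem hom_eq_one_of_perfect (hperf : commutator G = ⊤) {M : Type*} [CommMonoid M]
    (f : G →* M) (g : G) : f g = 1 := by
  have hle : commutator G ≤ MonoidHom.ker f := by
    rw [commutator_eq_closure, Subgroup.closure_le]
    rintro x ⟨a, b, rfl⟩
    change ⁅a, b⁆ ∈ MonoidHom.ker f
    rw [MonoidHom.mem_ker, commutatorElement_def, map_mul, map_mul, map_mul]
    have h1 : f a * f a⁻¹ = 1 := by rw [← map_mul, mul_inv_cancel, map_one]
    have h2 : f b * f b⁻¹ = 1 := by rw [← map_mul, mul_inv_cancel, map_one]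
    calc f a * f b * f a⁻¹ * f b⁻¹ = (f a * f a⁻¹) * (f b * f b⁻¹) := by
          simp only [mul_assoc, mul_left_comm (f b)]
      _ = 1 := by rw [h1, h2, one_mul]
  have : g ∈ commutator G := by rw [hperf]; exact Subgroup.mem_top g
  exact MonoidHom.mem_ker.mp (hle this)

/-- A group all of whose homomorphisms to commutative monoids are trivial has no faithful
irreducible representation of degree `d` when its order is `d * p` with `p` prime. -/
theorem no_faithful_irr_of_card_eq_mul_prime {Q : Type u} [Group Q] [Finite Q]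
    (hperf : ∀ (M : Type) [CommMonoid M] (f : Q →* M) (q : Q), f q = 1)
    {V : Type v} [AddCommGroup V] [Module ℂ V] [FiniteDimensional ℂ V]
    (σ : Representation ℂ Q V) [hirr : σ.IsIrreducible] (hfaith : ∀ q : Q, σ q = 1 → q = 1)
    (p : ℕ) (hp : p.Prime) (hcard : Nat.card Q = finrank ℂ V * p) : False := by
  classical
  haveI : Fact p.Prime := ⟨hp⟩
  haveI : Finite (Cfsg.IrrCharacter Q) := irr_finite
  haveI : Fintype (Cfsg.IrrCharacter Q) := Fintype.ofFinite _
  set d := finrank ℂ V with hd
  haveI : Nontrivial V := irr_nontrivial σ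
  have hd0 : 0 < d := Module.finrank_pos
  -- the determinant is trivial
  have hdet : ∀ q : Q, LinearMap.det (σ q) = 1 := fun q =>
    hperf ℂ ((LinearMap.det : (V →ₗ[ℂ] V) →* ℂ).comp σ) q
  -- d < p
  have hdp : d < p := by
    by_cases hd1 : d = 1
    · rw [hd1]; exact hp.one_lt
    · have hχ : Cfsg.IsIrrCharacter Q σ.character := isIrrCharacter_of_rep σ hirr
      have h1 : Cfsg.IsIrrCharacter Q (fun _ => (1 : ℂ)) := isIrrCharacter_one
      set a : Cfsg.IrrCharacter Q := ⟨_, hχ⟩ with ha
      set b : Cfsg.IrrCharacter Q := ⟨_, h1⟩ with hb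
      have hda : Cfsg.charDegree (a : Q → ℂ) = d := by
        unfold Cfsg.charDegree
        rw [ha]
        simp only
        rw [Representation.char_one]
        simp [hd]
      have hdb : Cfsg.charDegree (b : Q → ℂ) = 1 := by
        unfold Cfsg.charDegree
        rw [hb]
        simp
      have hab : a ≠ b := by
        intro h
        rw [h, hdb] at hda
        exact hd1 hda.symm
      have hsum := sum_sq_charDegree (G := Q)
      have hle : ∑ χ ∈ ({a, b} : Finset (Cfsg.IrrCharacter Q)), Cfsg.charDegree (χ : Q → ℂ) ^ 2 ≤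
          ∑ χ : Cfsg.IrrCharacter Q, Cfsg.charDegree (χ : Q → ℂ) ^ 2 :=
        Finset.sum_le_sum_of_subset (Finset.subset_univ _)
      rw [Finset.sum_pair hab, hda, hdb, hsum, hcard] at hle
      by_contra hge
      push Not at hge
      have : d * p ≤ d * d := Nat.mul_le_mul_left d hge
      nlinarith
  have hpd : ¬ p ∣ d := fun h => absurd (Nat.le_of_dvd hd0 h) (not_le.mpr hdp)
  -- Sylow p-subgroup
  obtain ⟨P⟩ : Nonempty (Sylow p Q) := inferInstance
  have hPcard : Nat.card P = p := by
    rw [Sylow.card_eq_multiplicity, hcard, Nat.factorization_mul hd0.ne' hp.ne_zero]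
    simp [Nat.factorization_eq_zero_of_not_dvd hpd, hp.factorization_self]
  have hPidx : (P : Subgroup Q).index = d := by
    have := Subgroup.card_mul_index (P : Subgroup Q)
    rw [hPcard, hcard, mul_comm] at this
    exact Nat.eq_of_mul_eq_mul_right hp.pos this
  have hnp : Nat.card (Sylow p Q) = 1 := by
    have h1 : Nat.card (Sylow p Q) ≡ 1 [MOD p] := card_sylow_modEq_one p Q
    have h2 : Nat.card (Sylow p Q) ∣ d := hPidx ▸ Sylow.card_dvd_index P
    have h3 : Nat.card (Sylow p Q) ≤ d := Nat.le_of_dvd hd0 h2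
    have h4 : Nat.card (Sylow p Q) < p := lt_of_le_of_lt h3 hdp
    unfold Nat.ModEq at h1
    rw [Nat.mod_eq_of_lt h4, Nat.mod_eq_of_lt hp.one_lt] at h1
    exact h1
  haveI : Subsingleton (Sylow p Q) := (Nat.card_eq_one_iff_unique.mp hnp).1
  haveI hPn : (P : Subgroup Q).Normal := Sylow.normal_of_subsingleton P
  haveI hPcyc : IsCyclic (P : Subgroup Q) := isCyclic_of_prime_card hPcard
  -- P is central
  have hcent : ∀ z ∈ (P : Subgroup Q), z ∈ Subgroup.center Q := by
    intro z hz
    rw [Subgroup.mem_center_iff]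
    intro q
    have h1 := hperf ((ZMod (Nat.card (P : Subgroup Q)))ˣ)
      ((IsCyclic.mulAutMulEquiv (P : Subgroup Q)).toMonoidHom.comp
        (MulAut.conjNormal (H := (P : Subgroup Q)))) q
    have h2 : MulAut.conjNormal (H := (P : Subgroup Q)) q = 1 := by
      apply (IsCyclic.mulAutMulEquiv (P : Subgroup Q)).injective
      rw [map_one]
      exact h1
    have h3 := congrArg (fun f : MulAut (P : Subgroup Q) => ((f ⟨z, hz⟩ : (P : Subgroup Q)) : Q)) h2
    simp only [MulAut.conjNormal_apply, MulAut.one_apply] at h3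
    calc q * z = (q * z * q⁻¹) * q := by group
      _ = z * q := by rw [h3]
  -- a non-identity element of P
  have hPnt : Nontrivial (P : Subgroup Q) := by
    rw [← Finite.one_lt_card_iff_nontrivial, hPcard]
    exact hp.one_lt
  obtain ⟨⟨z, hz⟩, hz1⟩ := exists_ne (1 : (P : Subgroup Q))
  have hz1' : z ≠ 1 := fun h => hz1 (Subtype.ext h)
  obtain ⟨ω, hω⟩ := exists_scalar_of_mem_center σ z (hcent z hz)
  have hω1 : ω ≠ 1 := by
    intro h
    rw [h, one_smul] at hω
    exact hz1' (hfaith z hω)
  have hzp : z ^ p = 1 := by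
    have : (⟨z, hz⟩ : (P : Subgroup Q)) ^ Nat.card (P : Subgroup Q) = 1 := pow_card_eq_one'
    rw [hPcard] at this
    have := congrArg Subtype.val this
    simpa using this
  have hωp : ω ^ p = 1 := by
    have h1 : σ (z ^ p) = (ω ^ p) • (LinearMap.id : V →ₗ[ℂ] V) := by
      rw [map_pow, hω, smul_pow]
      congr 1
      exact one_pow p
    rw [hzp, map_one] at h1
    have h2 := congrArg (LinearMap.trace ℂ V) h1
    rw [map_smul] at h2
    change LinearMap.trace ℂ V LinearMap.id = ω ^ p • LinearMap.trace ℂ V LinearMap.id at h2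
    rw [LinearMap.trace_id, smul_eq_mul] at h2
    have hd' : ((finrank ℂ V : ℕ) : ℂ) ≠ 0 := by exact_mod_cast hd0.ne'
    have h3 : (ω ^ p - 1) * (finrank ℂ V : ℂ) = 0 := by
      rw [sub_mul, one_mul, ← h2, sub_self]
    rcases mul_eq_zero.mp h3 with h4 | h4
    · exact sub_eq_zero.mp h4
    · exact absurd h4 hd'
  have hωd : ω ^ d = 1 := by
    have := hdet z
    rw [hω, LinearMap.det_smul] at this
    change ω ^ d * LinearMap.det (LinearMap.id : V →ₗ[ℂ] V) = 1 at this
    rw [LinearMap.det_id, mul_one] at this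
    exact this
  have h1 : orderOf ω ∣ p := orderOf_dvd_of_pow_eq_one hωp
  have h2 : orderOf ω ∣ d := orderOf_dvd_of_pow_eq_one hωd
  have hcop : Nat.Coprime p d := (Nat.Prime.coprime_iff_not_dvd hp).mpr hpd
  have h3 : orderOf ω = 1 := Nat.eq_one_of_dvd_coprimes hcop h1 h2
  exact hω1 (orderOf_eq_one_iff.mp h3)


/-- A non-trivial finite group is perfect iff no irreducible character has prime codegree. -/
theorem perfect_iff_no_prime_codegree [Finite G] :
    commutator G = ⊤ ↔ ∀ χ : Cfsg.IrrCharacter G,
      ¬ ((Nat.card G / (Nat.card {g : G // (χ : G → ℂ) g = (χ : G → ℂ) 1} *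
        Cfsg.charDegree (χ : G → ℂ)))).Prime := by
  classical
  constructor
  · intro hperf χ hprime
    obtain ⟨n, ρ, hirr, hρ⟩ := χ.2
    set K : Subgroup G := MonoidHom.ker ρ with hKdef
    haveI : K.Normal := MonoidHom.normal_ker _
    have hK : ∀ g, g ∈ K ↔ (χ : G → ℂ) g = (χ : G → ℂ) 1 := by
      intro g
      rw [hKdef, MonoidHom.mem_ker, ← hρ, Representation.char_one, char_eq_finrank_iff]
      rfl
    have hdeg : Cfsg.charDegree (χ : G → ℂ) = n := by
      rw [← hρ, charDegree_rep]
    haveI : Nontrivial (Fin n → ℂ) := irr_nontrivial ρ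
    have hn0 : 0 < n := by
      have : 0 < finrank ℂ (Fin n → ℂ) := Module.finrank_pos
      simpa using this
    have hker : ∀ k ∈ K, ρ k = 1 := fun k hk => MonoidHom.mem_ker.mp hk
    have hdvd : n ∣ K.index := by
      have := finrank_dvd_index_of_ker ρ K hker
      simpa using this
    rw [codegree_eq χ.2 K hK (by rw [hdeg]; exact hn0), hdeg] at hprime
    set p := K.index / n with hp
    have hidx : K.index = n * p := (Nat.mul_div_cancel' hdvd).symm
    haveI := quotientRep_isIrreducible ρ K hker
    apply no_faithful_irr_of_card_eq_mul_prime (Q := G ⧸ K) ?_ (quotientRep ρ K hker) ?_ p hprime ?_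
    · intro M _ f q
      obtain ⟨g, rfl⟩ := QuotientGroup.mk_surjective q
      exact hom_eq_one_of_perfect hperf (f.comp (QuotientGroup.mk' K)) g
    · intro q hq
      obtain ⟨g, rfl⟩ := QuotientGroup.mk_surjective q
      rw [quotientRep_mk] at hq
      rw [QuotientGroup.eq_one_iff]
      exact MonoidHom.mem_ker.mpr hq
    · rw [← Subgroup.index_eq_card, hidx]
      simp
  · intro h
    by_contra hne
    haveI hfin : Finite (G →* ℂˣ) := by
      apply Nat.finite_of_card_ne_zero
      rw [card_hom_units]
      exact Subgroup.index_ne_zero_of_finite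
    have ht : Nat.card (G →* ℂˣ) ≠ 1 := by
      rw [card_hom_units]
      intro h1
      exact hne (Subgroup.index_eq_one.mp h1)
    set p := (Nat.card (G →* ℂˣ)).minFac with hpdef
    have hp : p.Prime := Nat.minFac_prime ht
    haveI : Fact p.Prime := ⟨hp⟩
    obtain ⟨μ, hμ⟩ := exists_prime_orderOf_dvd_card' (G := G →* ℂˣ) p (Nat.minFac_dvd _)
    have hμp : μ ^ p = 1 := by rw [← hμ]; exact pow_orderOf_eq_one μ
    have hμ1 : μ ≠ 1 := by
      intro h1
      rw [h1, orderOf_one] at hμ
      exact hp.one_lt.ne hμ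
    have hrange : μ.range ≤ rootsOfUnity p ℂ := by
      rintro x ⟨g, rfl⟩
      rw [mem_rootsOfUnity]
      have := congrArg (fun f : G →* ℂˣ => f g) hμp
      simpa using this
    have hcard : Nat.card μ.range = p := by
      have h1 : Nat.card μ.range ∣ Nat.card (rootsOfUnity p ℂ) := Subgroup.card_dvd_of_le hrange
      rw [Complex.card_rootsOfUnity] at h1
      rcases (Nat.dvd_prime hp).mp h1 with h2 | h2
      · exfalso
        apply hμ1
        have hbot : μ.range = ⊥ := Subgroup.card_eq_one.mp h2
        ext g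
        have : μ g ∈ μ.range := ⟨g, rfl⟩
        rw [hbot, Subgroup.mem_bot] at this
        rw [this]
        rfl
      · exact h2
    have hidx : μ.ker.index = p := by rw [Subgroup.index_ker, hcard]
    apply h ⟨fun g => ((μ g : ℂˣ) : ℂ), isIrrCharacter_of_hom μ⟩
    have h1 : Nat.card {g : G // ((μ g : ℂˣ) : ℂ) = ((μ 1 : ℂˣ) : ℂ)} = Nat.card μ.ker := by
      apply Nat.card_congr
      apply Equiv.subtypeEquivRight
      intro g
      rw [MonoidHom.mem_ker, map_one, Units.val_one, Units.val_eq_one]
    have h2 : Cfsg.charDegree (fun g => ((μ g : ℂˣ) : ℂ)) = 1 := by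
      unfold Cfsg.charDegree
      simp
    simp only
    rw [h1, h2, mul_one, ← Subgroup.card_mul_index μ.ker, Nat.mul_div_cancel_left _ Nat.card_pos,
      hidx]
    exact hp

end Cfsg.Agent.Helper6
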