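import Mathlib
import Cfsg.Prelude.Def_Characters
import Cfsg.Prelude.Def_Solvable
import Cfsg.Prelude.Def_Blocks
import Cfsg.Agent.Helper6.Degrees
import Cfsg.Agent.Helper6.Codegree
import Cfsg.Agent.Helper6.IrrCrit
import Cfsg.Agent.Helper6.Linear
import Cfsg.Agent.Helper6.Induced
import Cfsg.Agent.Helper1.Frobenius

/-!
# Faithful irreducible characters of prime codegree
-/

set_option autoImplicit false
set_option linter.style.haveILetI false

namespace Cfsg.Agent.Helper6

open Module Representation
open scoped ComplexConjugate Pointwise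

universe u v

variable {G : Type u} [Group G]

/-- A complement of a normal subgroup acting without nontrivial fixed points is a Frobenius
complement. -/
theorem frobenius_of_fpf_complement (P H : Subgroup G) [hPn : P.Normal]
    (hc : Subgroup.IsComplement' P H)
    (hfpf : ∀ h ∈ H, h ≠ 1 → ∀ x ∈ P, x ≠ 1 → h * x ≠ x * h) (hH1 : H ≠ ⊥) (hH2 : H ≠ ⊤) :
    Cfsg.IsFrobeniusComplement H := by
  refine ⟨hH1, hH2, ?_⟩
  intro g hg
  rw [eq_bot_iff]
  intro y hy
  obtain ⟨hyH, hyc⟩ := Subgroup.mem_inf.mp hy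
  rw [Cfsg.Agent.Helper1.mem_conj_smul] at hyc
  obtain ⟨⟨x, h0⟩, hxh, -⟩ := hc.existsUnique g
  simp only at hxh
  have hx1 : (x : G) ≠ 1 := by
    intro h
    apply hg
    rw [← hxh, h, one_mul]
    exact h0.2
  -- h'' = h0 * (g⁻¹ y g) * h0⁻¹
  have hh'' : (h0 : G) * (g⁻¹ * y * g) * (h0 : G)⁻¹ ∈ H :=
    H.mul_mem (H.mul_mem h0.2 hyc) (H.inv_mem h0.2)
  have hy_eq : y = (x : G) * ((h0 : G) * (g⁻¹ * y * g) * (h0 : G)⁻¹) * (x : G)⁻¹ := by
    rw [← hxh]
    group
  generalize (h0 : G) * (g⁻¹ * y * g) * (h0 : G)⁻¹ = h'' at hh'' hy_eq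
  have hmemP : y * h''⁻¹ ∈ P := by
    have h1 : y * h''⁻¹ = (x : G) * (h'' * (x : G)⁻¹ * h''⁻¹) := by
      rw [hy_eq]
      group
    rw [h1]
    exact P.mul_mem x.2 (hPn.conj_mem _ (P.inv_mem x.2) h'')
  have hmemH : y * h''⁻¹ ∈ H := H.mul_mem hyH (H.inv_mem hh'')
  have hdisj := hc.disjoint
  have h1 : y * h''⁻¹ = 1 := by
    have := Subgroup.disjoint_def.mp hdisj hmemP hmemH
    exact this
  have hyh : y = h'' := by
    rw [mul_inv_eq_one] at h1
    exact h1
  rw [Subgroup.mem_bot]
  by_contra hy1
  rw [← hyh] at hy_eq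
  have h2 : y * (x : G) = (x : G) * y := by
    have h3 := congrArg (fun z => z * (x : G)) hy_eq
    simp only [inv_mul_cancel_right] at h3
    exact h3
  exact hfpf y hyH hy1 x x.2 hx1 h2

/-- The restriction of a character of degree `n` to an abelian subgroup `A` has norm at
least `n`. -/
theorem card_mul_degree_le_sum_normSq [Fintype G] {χ : G → ℂ} (hχ : Cfsg.IsCharacter G χ)
    (A : Subgroup G) [Fintype A] (hA : ∀ a ∈ A, ∀ b ∈ A, a * b = b * a) (n : ℕ)
    (hn : χ 1 = n) :
    ((Nat.card A * n : ℕ) : ℝ) ≤ ∑ a : A, Complex.normSq (χ a) := by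
  classical
  haveI : Finite (Cfsg.IrrCharacter A) := irr_finite
  haveI : Fintype (Cfsg.IrrCharacter A) := Fintype.ofFinite _
  have hψ : Cfsg.IsCharacter A (fun a : A => χ a) := IsCharacter.restrict A hχ
  have hcf := IsCharacter.isClassFunction hψ
  have hm : ∀ lam : Cfsg.IrrCharacter A, ∃ m : ℕ,
      Cfsg.classInner (fun a : A => χ a) (lam : A → ℂ) = m := fun lam =>
    classInner_char_char_nat hψ (IsIrrCharacter.isCharacter lam.2)
  choose m hm using hm
  have hm' : ∀ lam : Cfsg.IrrCharacter A,
      Cfsg.classInner (lam : A → ℂ) (fun a : A => χ a) = m lam := by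
    intro lam
    rw [classInner_conj_symm, hm]
    simp
  have hdeg1 : ∀ lam : Cfsg.IrrCharacter A, (lam : A → ℂ) 1 = 1 := by
    apply (comm_iff_forall_irr_degree_one (G := A)).mp
    intro a b
    exact Subtype.ext (hA a a.2 b b.2)
  -- degree
  have hsum1 : (n : ℂ) = ∑ lam : Cfsg.IrrCharacter A, (m lam : ℂ) := by
    have h1 := congrFun (classFunction_expansion _ hcf) 1
    simp only [Finset.sum_apply, Pi.smul_apply, smul_eq_mul, hdeg1, mul_one, hm] at h1
    rw [← h1]
    simp [hn]
  have hsum1' : n = ∑ lam : Cfsg.IrrCharacter A, m lam := by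
    exact_mod_cast hsum1
  -- norm
  have hnorm : Cfsg.classInner (fun a : A => χ a) (fun a : A => χ a) =
      ∑ lam : Cfsg.IrrCharacter A, ((m lam) ^ 2 : ℕ) := by
    rw [classInner_self_expansion _ hcf]
    push_cast
    apply Finset.sum_congr rfl
    intro lam _
    rw [hm, hm']
    ring
  have hle : n ≤ ∑ lam : Cfsg.IrrCharacter A, (m lam) ^ 2 := by
    rw [hsum1']
    apply Finset.sum_le_sum
    intro lam _
    nlinarith [Nat.zero_le (m lam)]
  have hA0 : (Nat.card A : ℂ) ≠ 0 := Nat.cast_ne_zero.mpr Nat.card_pos.ne'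
  have hkey : ((∑ a : A, Complex.normSq (χ a) : ℝ) : ℂ) =
      ((Nat.card A * ∑ lam : Cfsg.IrrCharacter A, (m lam) ^ 2 : ℕ) : ℂ) := by
    rw [classInner_def] at hnorm
    have h2 : ∑ a : A, χ a * conj (χ a) =
        (Nat.card A : ℂ) * ∑ lam : Cfsg.IrrCharacter A, ((m lam) ^ 2 : ℕ) := by
      rw [← hnorm, ← mul_assoc, mul_inv_cancel₀ hA0, one_mul]
    push_cast
    push_cast at h2
    rw [← h2]
    apply Finset.sum_congr rfl
    intro a _
    rw [Complex.mul_conj]
  have hkey' : (∑ a : A, Complex.normSq (χ a) : ℝ) =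
      ((Nat.card A * ∑ lam : Cfsg.IrrCharacter A, (m lam) ^ 2 : ℕ) : ℝ) := by
    apply Complex.ofReal_injective
    rw [hkey]
    simp
  rw [hkey']
  exact_mod_cast Nat.mul_le_mul_left _ hle

theorem sum_normSq_irr [Fintype G] {χ : G → ℂ} (hχ : Cfsg.IsIrrCharacter G χ) :
    ∑ g : G, Complex.normSq (χ g) = (Nat.card G : ℝ) := by
  have h1 := classInner_irr_self hχ
  rw [classInner_def] at h1
  have hG0 : (Nat.card G : ℂ) ≠ 0 := Nat.cast_ne_zero.mpr Nat.card_pos.ne'
  have h2 : ∑ g : G, χ g * conj (χ g) = (Nat.card G : ℂ) := by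
    rw [inv_mul_eq_one₀ hG0] at h1
    exact h1.symm
  apply Complex.ofReal_injective
  push_cast
  rw [← h2]
  apply Finset.sum_congr rfl
  intro g _
  rw [Complex.mul_conj]

/-- An irreducible character with `|G| = p χ(1)`: the group is cyclic of order `p` or a
Frobenius group with kernel of order `p`. -/
theorem prime_codegree_frobenius [Finite G] (χ : Cfsg.IrrCharacter G) (p : ℕ) (hp : p.Prime)
    (hcod : Nat.card G = p * Cfsg.charDegree (χ : G → ℂ)) :
    (IsCyclic G ∧ Nat.card G = p) ∨ ∃ H : Subgroup G, Cfsg.IsFrobeniusComplement H ∧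
      Nat.card ↥(Cfsg.frobeniusKernel H) = p := by
  classical
  haveI := Fintype.ofFinite G
  haveI : Fact p.Prime := ⟨hp⟩
  obtain ⟨n, ρ, hirr, hρ⟩ := χ.2
  haveI := hirr
  have hdeg : Cfsg.charDegree (χ : G → ℂ) = n := by rw [← hρ, charDegree_rep]
  rw [hdeg] at hcod
  have hχ1 : (χ : G → ℂ) 1 = n := by
    rw [← hρ, Representation.char_one, Module.finrank_fin_fun]
  have hGpos : 0 < Nat.card G := Nat.card_pos
  have hnpos : 0 < n := by
    rcases Nat.eq_zero_or_pos n with h | h
    · rw [h, mul_zero] at hcod; omega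
    · exact h
  by_cases hn1 : n = 1
  · left
    rw [hn1, mul_one] at hcod
    exact ⟨isCyclic_of_prime_card hcod, hcod⟩
  right
  have habel : ∀ A : Subgroup G, (∀ a ∈ A, ∀ b ∈ A, a * b = b * a) → Nat.card A ≤ p := by
    intro A hA
    have h1 := finrank_le_index_of_abelian ρ A hA
    rw [Module.finrank_fin_fun] at h1
    have h2 := A.card_mul_index
    rw [hcod] at h2
    have h3 : Nat.card A * n ≤ p * n := by
      calc Nat.card A * n ≤ Nat.card A * A.index := Nat.mul_le_mul_left _ h1
        _ = p * n := h2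
    exact Nat.le_of_mul_le_mul_right h3 hnpos
  have hpn : ¬ p ∣ n := by
    intro hd
    have h1 : p ^ 2 ∣ Nat.card G := by
      rw [hcod, pow_two]
      exact Nat.mul_dvd_mul_left p hd
    obtain ⟨K, hK⟩ := Sylow.exists_subgroup_card_pow_prime p h1
    have hKab : ∀ a ∈ K, ∀ b ∈ K, a * b = b * a := by
      intro a ha b hb
      have := (IsPGroup.isMulCommutative_of_card_eq_prime_sq hK).is_comm.comm
        (⟨a, ha⟩ : K) ⟨b, hb⟩
      exact congrArg Subtype.val this
    have h2 := habel K hKab
    rw [hK] at h2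
    have := hp.two_le
    nlinarith
  have hsumG := sum_normSq_irr χ.2
  have hnp : n < p := by
    have h1 : Complex.normSq ((χ : G → ℂ) 1) ≤ ∑ g : G, Complex.normSq ((χ : G → ℂ) g) :=
      Finset.single_le_sum (f := fun g => Complex.normSq ((χ : G → ℂ) g))
        (fun g _ => Complex.normSq_nonneg _) (Finset.mem_univ 1)
    rw [hsumG, hχ1, Complex.normSq_natCast, hcod] at h1
    have h2 : n * n ≤ p * n := by exact_mod_cast h1
    have h3 : n ≤ p := Nat.le_of_mul_le_mul_right h2 hnpos
    rcases Nat.lt_or_ge n p with h | h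
    · exact h
    · exfalso
      have : n = p := le_antisymm h3 h
      exact hpn (this ▸ dvd_rfl)
  obtain ⟨P, hP⟩ := Sylow.exists_subgroup_card_pow_prime p (n := 1)
    (by rw [pow_one, hcod]; exact dvd_mul_right p n)
  rw [pow_one] at hP
  have hprime_ab : ∀ Q : Subgroup G, Nat.card Q = p → ∀ a ∈ Q, ∀ b ∈ Q, a * b = b * a := by
    intro Q hQ a ha b hb
    haveI : IsCyclic Q := isCyclic_of_prime_card hQ
    have := (IsCyclic.isMulCommutative (α := Q)).is_comm.comm ⟨a, ha⟩ ⟨b, hb⟩
    exact congrArg Subtype.val this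
  have huniq : ∀ Q : Subgroup G, Nat.card Q = p → Q = P := by
    intro Q hQ
    by_contra hne
    have hinf : P ⊓ Q = ⊥ := by
      have h1 : Nat.card (P ⊓ Q : Subgroup G) ∣ p := by
        rw [← hP]
        exact Subgroup.card_dvd_of_le inf_le_left
      rcases (Nat.dvd_prime hp).mp h1 with h | h
      · exact Subgroup.card_eq_one.mp h
      · exfalso
        have e1 : P ⊓ Q = P := Subgroup.eq_of_le_of_card_ge inf_le_left (by rw [h, hP])
        have e2 : P ⊓ Q = Q := Subgroup.eq_of_le_of_card_ge inf_le_right (by rw [h, hQ])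
        exact hne (e2.symm.trans e1)
    haveI : Fintype P := Fintype.ofFinite _
    haveI : Fintype Q := Fintype.ofFinite _
    have hPs := card_mul_degree_le_sum_normSq (IsIrrCharacter.isCharacter χ.2) P
      (hprime_ab P hP) n hχ1
    have hQs := card_mul_degree_le_sum_normSq (IsIrrCharacter.isCharacter χ.2) Q
      (hprime_ab Q hQ) n hχ1
    rw [hP] at hPs
    rw [hQ] at hQs
    have hsP : ∑ g ∈ Finset.univ.filter (fun g : G => g ∈ P),
        Complex.normSq ((χ : G → ℂ) g) = ∑ a : P, Complex.normSq ((χ : G → ℂ) a) :=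
      Finset.sum_subtype (Finset.univ.filter (fun g : G => g ∈ P)) (by simp)
        (fun g => Complex.normSq ((χ : G → ℂ) g))
    have hsQ : ∑ g ∈ Finset.univ.filter (fun g : G => g ∈ Q),
        Complex.normSq ((χ : G → ℂ) g) = ∑ a : Q, Complex.normSq ((χ : G → ℂ) a) :=
      Finset.sum_subtype (Finset.univ.filter (fun g : G => g ∈ Q)) (by simp)
        (fun g => Complex.normSq ((χ : G → ℂ) g))
    have hunion := Finset.sum_union_inter (s₁ := Finset.univ.filter (fun g : G => g ∈ P))
      (s₂ := Finset.univ.filter (fun g : G => g ∈ Q))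
      (f := fun g => Complex.normSq ((χ : G → ℂ) g))
    have hinter : Finset.univ.filter (fun g : G => g ∈ P) ∩
        Finset.univ.filter (fun g : G => g ∈ Q) = {1} := by
      ext g
      simp only [Finset.mem_inter, Finset.mem_filter, Finset.mem_univ, true_and,
        Finset.mem_singleton]
      constructor
      · rintro ⟨h1, h2⟩
        have : g ∈ P ⊓ Q := ⟨h1, h2⟩
        rw [hinf] at this
        exact Subgroup.mem_bot.mp this
      · rintro rfl
        exact ⟨P.one_mem, Q.one_mem⟩
    have hle : ∑ g ∈ Finset.univ.filter (fun g : G => g ∈ P) ∪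
        Finset.univ.filter (fun g : G => g ∈ Q), Complex.normSq ((χ : G → ℂ) g) ≤
        ∑ g : G, Complex.normSq ((χ : G → ℂ) g) :=
      Finset.sum_le_sum_of_subset_of_nonneg (Finset.subset_univ _)
        (fun _ _ _ => Complex.normSq_nonneg _)
    rw [hinter, Finset.sum_singleton, hχ1, Complex.normSq_natCast, hsP, hsQ] at hunion
    rw [hsumG, hcod] at hle
    push_cast at hPs hQs hle
    have hfin : (p : ℝ) * n ≤ (n : ℝ) * n := by linarith
    have hfin' : p * n ≤ n * n := by exact_mod_cast hfin
    have := Nat.le_of_mul_le_mul_right hfin' hnpos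
    omega
  haveI hPn : P.Normal := by
    constructor
    intro x hx g
    have h1 : MulAut.conj g • P = P :=
      huniq _ (by rw [Cfsg.Agent.Helper1.card_conj_smul, hP])
    rw [← h1]
    exact Cfsg.Agent.Helper1.conj_mem_conj_smul hx
  have hPidx : P.index = n := by
    have := P.card_mul_index
    rw [hP, hcod] at this
    exact Nat.eq_of_mul_eq_mul_left hp.pos this
  have hcop : Nat.Coprime (Nat.card P) P.index := by
    rw [hP, hPidx]
    exact (Nat.Prime.coprime_iff_not_dvd hp).mpr hpn
  obtain ⟨H, hH⟩ := Subgroup.exists_right_complement'_of_coprime hcop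
  have hHcard : Nat.card H = n := by
    have := hH.card_mul_card
    rw [hP, hcod] at this
    exact Nat.eq_of_mul_eq_mul_left hp.pos this
  have hF : Cfsg.IsFrobeniusComplement H := by
    apply frobenius_of_fpf_complement P H hH
    · intro h hh h1 x hx x1 hcomm
      have hcomm' : ∀ a ∈ ({x, h} : Set G), ∀ b ∈ ({x, h} : Set G), a * b = b * a := by
        intro a ha b hb
        simp only [Set.mem_insert_iff, Set.mem_singleton_iff] at ha hb
        rcases ha with rfl | rfl <;> rcases hb with rfl | rfl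
        · rfl
        · exact hcomm.symm
        · exact hcomm
        · rfl
      have hAab : ∀ a ∈ Subgroup.closure ({x, h} : Set G),
          ∀ b ∈ Subgroup.closure ({x, h} : Set G), a * b = b * a := by
        intro a ha b hb
        have := (Subgroup.isMulCommutative_closure hcomm').is_comm.comm
          (⟨a, ha⟩ : Subgroup.closure ({x, h} : Set G)) ⟨b, hb⟩
        exact congrArg Subtype.val this
      have hle := habel _ hAab
      have hxo : orderOf x = p := by
        have h2 : orderOf x ∣ p := by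
          rw [← hP]
          exact Subgroup.orderOf_dvd_natCard _ hx
        rcases (Nat.dvd_prime hp).mp h2 with h3 | h3
        · exact absurd (orderOf_eq_one_iff.mp h3) x1
        · exact h3
      have hzP : Subgroup.zpowers x = P := by
        apply Subgroup.eq_of_le_of_card_ge
        · rw [Subgroup.zpowers_le]
          exact hx
        · rw [Nat.card_zpowers, hxo, hP]
      have hPle : P ≤ Subgroup.closure ({x, h} : Set G) := by
        rw [← hzP, Subgroup.zpowers_le]
        exact Subgroup.subset_closure (by simp)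
      have hhA : h ∈ Subgroup.closure ({x, h} : Set G) := Subgroup.subset_closure (by simp)
      have hhP : h ∉ P := by
        intro hhP
        exact h1 (Subgroup.disjoint_def.mp hH.disjoint hhP hh)
      have heq : P = Subgroup.closure ({x, h} : Set G) :=
        Subgroup.eq_of_le_of_card_ge hPle (by rw [hP]; exact hle)
      rw [← heq] at hhA
      exact hhP hhA
    · intro e
      rw [e, Subgroup.card_bot] at hHcard
      exact hn1 hHcard.symm
    · intro e
      rw [e, Subgroup.card_top, hcod] at hHcard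
      have := hp.two_le
      nlinarith
  refine ⟨H, hF, ?_⟩
  rw [(Cfsg.Agent.Helper1.frobenius_count H hF).1]
  have := H.card_mul_index
  rw [hHcard, hcod, mul_comm p n] at this
  exact Nat.eq_of_mul_eq_mul_left hnpos this

end Cfsg.Agent.Helper6
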