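import Mathlib
import Cfsg.Prelude.Def_Characters
import Cfsg.Prelude.Def_Perm
import Cfsg.Prelude.Def_ParabolicCharacters
import Cfsg.Agent.Helper2.CommEndB
import Cfsg.Agent.Helper6.Constituent
import Cfsg.Agent.Helper6.IrrBasis
import Cfsg.Agent.Hk.Defs2

/-!
# The number of irreducible constituents of a character is the dimension of the centre of the
intertwiner algebra

For a finite-dimensional complex representation `ρ` of a finite group `G`, the number of
irreducible characters `χ` with `ρ.character = χ + φ` for some character `φ` is the dimension of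
the centre of `End_G(ρ)`.
-/

set_option autoImplicit false
set_option linter.style.haveILetI false
set_option linter.unusedSectionVars false

namespace Cfsg.Agent.Helper6.ConstCount

open Module Representation Cfsg.Agent.Helper6 Cfsg.Agent.Helper2.CommEnd
open scoped ComplexConjugate

universe u v

variable {G : Type u} [Group G] [Fintype G] {V : Type v} [AddCommGroup V] [Module ℂ V]
  (ρ : Representation ℂ G V)

/-- Inclusion of a subrepresentation, as an intertwiner. -/
noncomputable def h6cc_incl (M : Subrepresentation ρ) : IntertwiningMap M.toRepresentation ρ :=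
  M.toSubmodule.subtype.intertwiningMap_of_isIntertwiningMap M.toRepresentation ρ
    (fun _ _ => rfl)

theorem h6cc_incl_apply (M : Subrepresentation ρ) (v : M.toSubmodule) :
    h6cc_incl ρ M v = (v : V) := rfl

theorem h6cc_incl_injective (M : Subrepresentation ρ) : Function.Injective (h6cc_incl ρ M) :=
  fun _ _ h => Subtype.ext h

/-- Maschke: an equivariant retraction onto a subrepresentation. -/
theorem h6cc_exists_retr (M : Subrepresentation ρ) :
    ∃ L : IntertwiningMap ρ M.toRepresentation, ∀ w : M.toSubmodule, L (w : V) = w :=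
  exists_left_inverse ρ M.toRepresentation (h6cc_incl ρ M) (h6cc_incl_injective ρ M)

/-- A central intertwiner preserves every subrepresentation. -/
theorem h6cc_central_mem (T : IntertwiningMap ρ ρ)
    (hT : ∀ S : IntertwiningMap ρ ρ, S * T = T * S) (M : Subrepresentation ρ)
    (v : V) (hv : v ∈ M.toSubmodule) : T v ∈ M.toSubmodule := by
  obtain ⟨L, hL⟩ := h6cc_exists_retr ρ M
  have hP := hT ((h6cc_incl ρ M).comp L)
  have h1 : ((h6cc_incl ρ M).comp L * T) v = (T * (h6cc_incl ρ M).comp L) v := by rw [hP]
  have h2 : ((L (T v) : M.toSubmodule) : V) = T ((L v : M.toSubmodule) : V) := h1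
  have h3 : ((L v : M.toSubmodule) : V) = v := by
    have := hL ⟨v, hv⟩
    exact congrArg Subtype.val this
  rw [h3] at h2
  rw [← h2]
  exact (L (T v)).2

/-- A central intertwiner acts as a scalar on every irreducible subrepresentation. -/
theorem h6cc_central_scalar [FiniteDimensional ℂ V] (T : IntertwiningMap ρ ρ)
    (hT : ∀ S : IntertwiningMap ρ ρ, S * T = T * S) (M : Subrepresentation ρ)
    (hM : M.toRepresentation.IsIrreducible) :
    ∃ c : ℂ, ∀ v ∈ M.toSubmodule, T v = c • v := by
  obtain ⟨L, hL⟩ := h6cc_exists_retr ρ M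
  haveI := hM
  obtain ⟨c, hc⟩ := (IsIrreducible.algebraMap_intertwiningMap_bijective_of_isAlgClosed
    (ρ := M.toRepresentation)).2 (L.comp (T.comp (h6cc_incl ρ M)))
  refine ⟨c, fun v hv => ?_⟩
  have hmem := h6cc_central_mem ρ T hT M v hv
  have h1 : (algebraMap ℂ (IntertwiningMap M.toRepresentation M.toRepresentation) c) ⟨v, hv⟩ =
      (L.comp (T.comp (h6cc_incl ρ M))) ⟨v, hv⟩ := by rw [hc]
  have h2 : c • (⟨v, hv⟩ : M.toSubmodule) = L (T v) := h1
  have h3 : L (T v) = ⟨T v, hmem⟩ := hL ⟨T v, hmem⟩
  rw [h3] at h2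
  have := congrArg Subtype.val h2
  exact this.symm

/-! ### The operator of a class function -/

/-- The operator `∑ g, c g • ρ g` of a class function `c`, as an intertwiner. -/
noncomputable def h6cc_classOp (c : G → ℂ) (hc : ∀ g h : G, c (h * g * h⁻¹) = c g) :
    IntertwiningMap ρ ρ where
  toLinearMap := ∑ g : G, c g • ρ g
  isIntertwining' h := by
    apply LinearMap.ext
    intro v
    simp only [LinearMap.comp_apply, LinearMap.sum_apply, LinearMap.smul_apply, map_sum,
      map_smul]
    rw [← Equiv.sum_comp (MulAut.conj h).toEquiv (fun g => c g • (ρ g) ((ρ h) v))]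
    apply Finset.sum_congr rfl
    intro g _
    have h1 : (MulAut.conj h).toEquiv g = h * g * h⁻¹ := rfl
    rw [h1, hc]
    congr 1
    rw [← Module.End.mul_apply, ← map_mul, ← Module.End.mul_apply, ← map_mul]
    congr 2
    group

theorem h6cc_classOp_apply (c : G → ℂ) (hc : ∀ g h : G, c (h * g * h⁻¹) = c g) (v : V) :
    h6cc_classOp ρ c hc v = ∑ g : G, c g • ρ g v := by
  show (∑ g : G, c g • ρ g) v = _
  rw [LinearMap.sum_apply]
  rfl

theorem h6cc_classOp_central (c : G → ℂ) (hc : ∀ g h : G, c (h * g * h⁻¹) = c g)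
    (S : IntertwiningMap ρ ρ) : S * h6cc_classOp ρ c hc = h6cc_classOp ρ c hc * S := by
  apply IntertwiningMap.ext
  apply LinearMap.ext
  intro v
  show S (h6cc_classOp ρ c hc v) = h6cc_classOp ρ c hc (S v)
  rw [h6cc_classOp_apply, h6cc_classOp_apply, map_sum]
  apply Finset.sum_congr rfl
  intro g _
  rw [map_smul, S.isIntertwining]

/-- Trace computation: if the class operator acts as the scalar `a` on the subrepresentation
`M`, then `a * dim M = ∑ g, c g * χ_M g`. -/
theorem h6cc_classOp_trace [FiniteDimensional ℂ V] (c : G → ℂ)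
    (hc : ∀ g h : G, c (h * g * h⁻¹) = c g) (M : Subrepresentation ρ) (a : ℂ)
    (ha : ∀ v ∈ M.toSubmodule, h6cc_classOp ρ c hc v = a • v) :
    a * (finrank ℂ M.toSubmodule : ℂ) = ∑ g : G, c g * M.toRepresentation.character g := by
  have hq : (∑ g : G, c g • M.toRepresentation g : Module.End ℂ M.toSubmodule) =
      a • (LinearMap.id : M.toSubmodule →ₗ[ℂ] M.toSubmodule) := by
    apply LinearMap.ext
    intro w
    apply Subtype.ext
    rw [LinearMap.sum_apply, LinearMap.smul_apply, LinearMap.id_apply, Submodule.coe_smul,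
      ← ha w.1 w.2, h6cc_classOp_apply, Submodule.coe_sum]
    apply Finset.sum_congr rfl
    intro g _
    rfl
  have h := congrArg (LinearMap.trace ℂ M.toSubmodule) hq
  rw [map_sum, map_smul, LinearMap.trace_id, smul_eq_mul] at h
  rw [← h]
  apply Finset.sum_congr rfl
  intro g _
  rw [map_smul, smul_eq_mul]
  rfl

/-! ### Irreducible subrepresentations and constituents -/

/-- An irreducible subrepresentation is nontrivial. -/
theorem h6cc_finrank_ne_zero [FiniteDimensional ℂ V] (M : Subrepresentation ρ)
    (hM : M.toRepresentation.IsIrreducible) : (finrank ℂ M.toSubmodule : ℂ) ≠ 0 := by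
  haveI := hM
  haveI : Nontrivial M.toSubmodule :=
    IsSimpleModule.nontrivial (MonoidAlgebra ℂ G) M.toRepresentation.asModule
  have : 0 < finrank ℂ M.toSubmodule := Module.finrank_pos
  exact_mod_cast this.ne'

/-- The character of an irreducible subrepresentation is a constituent. -/
theorem h6cc_classInner_sub_ne_zero [FiniteDimensional ℂ V] (M : Subrepresentation ρ)
    (hM : M.toRepresentation.IsIrreducible) :
    Cfsg.classInner ρ.character M.toRepresentation.character ≠ 0 := by
  rw [classInner_eq_finrank_intertwining M.toRepresentation ρ]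
  intro h0
  have h0' : finrank ℂ (IntertwiningMap M.toRepresentation ρ) = 0 := by exact_mod_cast h0
  rw [Module.finrank_zero_iff] at h0'
  have hz : h6cc_incl ρ M = 0 := Subsingleton.elim _ _
  haveI := hM
  haveI : Nontrivial M.toSubmodule :=
    IsSimpleModule.nontrivial (MonoidAlgebra ℂ G) M.toRepresentation.asModule
  obtain ⟨w, hw⟩ := exists_ne (0 : M.toSubmodule)
  apply hw
  apply Subtype.ext
  have : h6cc_incl ρ M w = (0 : IntertwiningMap M.toRepresentation ρ) w := by rw [hz]
  exact this

/-- Every constituent is the character of an irreducible subrepresentation. -/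
theorem h6cc_exists_sub [FiniteDimensional ℂ V] (χ : G → ℂ) (hχ : Cfsg.IsIrrCharacter G χ)
    (hne : Cfsg.classInner ρ.character χ ≠ 0) :
    ∃ M : Subrepresentation ρ, M.toRepresentation.IsIrreducible ∧
      M.toRepresentation.character = χ := by
  obtain ⟨n, σ, hirr, rfl⟩ := hχ
  rw [classInner_eq_finrank_intertwining σ ρ] at hne
  have hex : ∃ F : IntertwiningMap σ ρ, F ≠ 0 := by
    by_contra hall
    push Not at hall
    apply hne
    have : finrank ℂ (IntertwiningMap σ ρ) = 0 := by
      rw [Module.finrank_zero_iff]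
      exact ⟨fun a b => by rw [hall a, hall b]⟩
    rw [this, Nat.cast_zero]
  obtain ⟨F, hF⟩ := hex
  haveI := hirr
  have hinj : Function.Injective F := (IsIrreducible.injective_or_eq_zero F).resolve_right hF
  refine ⟨F.range, isIrreducible_of_equiv (equivRange F hinj) hirr, ?_⟩
  exact (char_iso (equivRange F hinj)).symm

/-- If a central intertwiner kills an irreducible subrepresentation `M`, it kills every
subrepresentation with the same character. -/
theorem h6cc_central_kill [FiniteDimensional ℂ V] (T : IntertwiningMap ρ ρ)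
    (hT : ∀ S : IntertwiningMap ρ ρ, S * T = T * S) (M N : Subrepresentation ρ)
    (hchar : M.toRepresentation.character = N.toRepresentation.character)
    (hM0 : ∀ v ∈ M.toSubmodule, T v = 0) : ∀ v ∈ N.toSubmodule, T v = 0 := by
  intro v hv
  obtain ⟨L, hL⟩ := h6cc_exists_retr ρ M
  obtain ⟨φ⟩ := equiv_of_char_eq M.toRepresentation N.toRepresentation hchar
  let Φ : IntertwiningMap ρ ρ := (h6cc_incl ρ N).comp (φ.toIntertwiningMap.comp L)
  let m : M.toSubmodule := φ.symm ⟨v, hv⟩
  have h1 : Φ (m : V) = v := by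
    show ((φ (L (m : V)) : N.toSubmodule) : V) = v
    rw [hL m]
    show ((φ (φ.symm ⟨v, hv⟩) : N.toSubmodule) : V) = v
    rw [Representation.Equiv.apply_symm_apply]
  have h2 : (T * Φ) (m : V) = (Φ * T) (m : V) := by rw [hT Φ]
  have h3 : T (Φ (m : V)) = Φ (T (m : V)) := h2
  rw [h1, hM0 _ m.2, map_zero] at h3
  exact h3

/-- A central intertwiner vanishing on one irreducible subrepresentation of each constituent
character vanishes. -/
theorem h6cc_central_eq_zero [FiniteDimensional ℂ V] (T : IntertwiningMap ρ ρ)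
    (hT : ∀ S : IntertwiningMap ρ ρ, S * T = T * S)
    (h0 : ∀ N : Subrepresentation ρ, N.toRepresentation.IsIrreducible →
      ∃ M : Subrepresentation ρ,
        M.toRepresentation.character = N.toRepresentation.character ∧
        ∀ v ∈ M.toSubmodule, T v = 0) : T = 0 := by
  have hker : T.ker = ⊤ := eq_top_of_atoms_le ρ T.ker (fun N hN => by
    intro w hw
    rw [IntertwiningMap.mem_ker]
    obtain ⟨M, hMN, hM0⟩ := h0 N (isIrreducible_of_isAtom N hN)
    exact h6cc_central_kill ρ T hT M N hMN hM0 w hw)
  apply IntertwiningMap.ext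
  apply LinearMap.ext
  intro v
  have hv : v ∈ T.ker := by rw [hker]; exact Submodule.mem_top (R := ℂ)
  rw [IntertwiningMap.mem_ker] at hv
  exact hv

/-! ### The central idempotent operators -/

/-- The operator `χ(1)/|G| ∑ g, conj (χ g) ρ g`. -/
noncomputable def h6cc_idem (χ : G → ℂ) (hχ : Cfsg.IsCharacter G χ) : IntertwiningMap ρ ρ :=
  h6cc_classOp ρ (fun g => χ 1 * (Nat.card G : ℂ)⁻¹ * conj (χ g)) (by
    intro g h
    rw [IsCharacter.isClassFunction hχ g h])

theorem h6cc_idem_central (χ : G → ℂ) (hχ : Cfsg.IsCharacter G χ) (S : IntertwiningMap ρ ρ) :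
    S * h6cc_idem ρ χ hχ = h6cc_idem ρ χ hχ * S :=
  h6cc_classOp_central ρ _ _ S

/-- The operator of `χ` is the identity on irreducible subrepresentations of character `χ` and
vanishes on the other irreducible subrepresentations. -/
theorem h6cc_idem_apply [FiniteDimensional ℂ V] (χ : G → ℂ) (hχ : Cfsg.IsIrrCharacter G χ)
    (M : Subrepresentation ρ) (hM : M.toRepresentation.IsIrreducible) (v : V)
    (hv : v ∈ M.toSubmodule) :
    h6cc_idem ρ χ (IsIrrCharacter.isCharacter hχ) v = if M.toRepresentation.character = χ then v else 0 := by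
  obtain ⟨a, ha⟩ := h6cc_central_scalar ρ (h6cc_idem ρ χ (IsIrrCharacter.isCharacter hχ))
    (h6cc_idem_central ρ χ (IsIrrCharacter.isCharacter hχ)) M hM
  have htr := h6cc_classOp_trace ρ _ _ M a ha
  have hψ : Cfsg.IsIrrCharacter G M.toRepresentation.character :=
    isIrrCharacter_of_rep M.toRepresentation hM
  have hsum : ∑ g : G, χ 1 * (Nat.card G : ℂ)⁻¹ * conj (χ g) * M.toRepresentation.character g =
      χ 1 * Cfsg.classInner M.toRepresentation.character χ := by
    rw [classInner_def, Finset.mul_sum, Finset.mul_sum]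
    apply Finset.sum_congr rfl
    intro g _
    ring
  rw [hsum] at htr
  have hdim := h6cc_finrank_ne_zero ρ M hM
  rw [ha v hv]
  by_cases hc : M.toRepresentation.character = χ
  · rw [if_pos hc]
    rw [hc, classInner_irr_self hχ, mul_one, ← hc, Representation.char_one] at htr
    have : a = 1 := by
      field_simp at htr
      exact htr
    rw [this, one_smul]
  · rw [if_neg hc]
    rw [classInner_irr_ne hψ hχ hc, mul_zero] at htr
    have : a = 0 := by
      rcases mul_eq_zero.mp htr with h | h
      · exact h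
      · exact absurd h hdim
    rw [this, zero_smul]

/-! ### Bridge to `Hk.commCenter` -/

open Cfsg.Agent.Hk in
/-- An element of the commutant as an intertwiner. -/
def h6cc_toInt (T : Module.End ℂ V) (hT : T ∈ commAlg ρ) : IntertwiningMap ρ ρ where
  toLinearMap := T
  isIntertwining' g := (mem_commAlg.mp hT g).symm

open Cfsg.Agent.Hk in
theorem h6cc_toLinearMap_mem_commAlg (S : IntertwiningMap ρ ρ) : S.toLinearMap ∈ commAlg ρ :=
  mem_commAlg.mpr (fun g => (S.isIntertwining' g).symm)

open Cfsg.Agent.Hk in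
theorem h6cc_toInt_central (T : Module.End ℂ V) (hT : T ∈ commCenter ρ)
    (S : IntertwiningMap ρ ρ) : S * h6cc_toInt ρ T hT.1 = h6cc_toInt ρ T hT.1 * S := by
  apply IntertwiningMap.ext
  exact hT.2 S.toLinearMap (h6cc_toLinearMap_mem_commAlg ρ S)

open Cfsg.Agent.Hk in
theorem h6cc_mem_commCenter (T : IntertwiningMap ρ ρ)
    (hT : ∀ S : IntertwiningMap ρ ρ, S * T = T * S) : T.toLinearMap ∈ commCenter ρ := by
  refine ⟨h6cc_toLinearMap_mem_commAlg ρ T, fun S hS => ?_⟩
  have h := hT (h6cc_toInt ρ S hS)
  exact congrArg IntertwiningMap.toLinearMap h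

/-! ### The main count -/

open Cfsg.Agent.Hk in
/-- The dimension of the centre of the commutant is the number of irreducible constituents. -/
theorem h6cc_finrank_commCenter [FiniteDimensional ℂ V] :
    finrank ℂ (commCenter ρ) =
      Nat.card {χ : Cfsg.IrrCharacter G // Cfsg.classInner ρ.character (χ : G → ℂ) ≠ 0} := by
  classical
  haveI : Finite (Cfsg.IrrCharacter G) := irr_finite
  haveI : Fintype {χ : Cfsg.IrrCharacter G // Cfsg.classInner ρ.character (χ : G → ℂ) ≠ 0} :=
    Fintype.ofFinite _
  -- choose an irreducible subrepresentation and a nonzero vector for each constituent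
  have hex : ∀ χ : {χ : Cfsg.IrrCharacter G // Cfsg.classInner ρ.character (χ : G → ℂ) ≠ 0},
      ∃ M : Subrepresentation ρ, M.toRepresentation.IsIrreducible ∧
        M.toRepresentation.character = (χ.1 : G → ℂ) :=
    fun χ => h6cc_exists_sub ρ χ.1.1 χ.1.2 χ.2
  choose M hMirr hMchar using hex
  have hnt : ∀ χ, ∃ m : V, m ∈ (M χ).toSubmodule ∧ m ≠ 0 := by
    intro χ
    haveI := hMirr χ
    haveI : Nontrivial (M χ).toSubmodule :=
      IsSimpleModule.nontrivial (MonoidAlgebra ℂ G) (M χ).toRepresentation.asModule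
    obtain ⟨w, hw⟩ := exists_ne (0 : (M χ).toSubmodule)
    exact ⟨w.1, w.2, fun h => hw (Subtype.ext h)⟩
  choose m hmM hm0 using hnt
  let Ω : ↥(commCenter ρ) →ₗ[ℂ]
      ({χ : Cfsg.IrrCharacter G // Cfsg.classInner ρ.character (χ : G → ℂ) ≠ 0} → V) :=
    { toFun := fun T χ => T.1 (m χ)
      map_add' := fun T T' => by
        funext χ
        rfl
      map_smul' := fun c T => by
        funext χ
        rfl }
  let Ψ : ({χ : Cfsg.IrrCharacter G // Cfsg.classInner ρ.character (χ : G → ℂ) ≠ 0} → ℂ) →ₗ[ℂ]
      ({χ : Cfsg.IrrCharacter G // Cfsg.classInner ρ.character (χ : G → ℂ) ≠ 0} → V) :=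
    { toFun := fun a χ => a χ • m χ
      map_add' := fun a b => by
        funext χ
        exact add_smul _ _ _
      map_smul' := fun c a => by
        funext χ
        exact mul_smul _ _ _ }
  have hΨinj : Function.Injective Ψ := by
    intro a b hab
    funext χ
    have h1 : a χ • m χ = b χ • m χ := congrFun hab χ
    exact smul_left_injective ℂ (hm0 χ) h1
  -- scalars of a central element
  have hscal : ∀ T : ↥(commCenter ρ), ∀ χ, ∃ c : ℂ, ∀ v ∈ (M χ).toSubmodule, T.1 v = c • v :=
    fun T χ => h6cc_central_scalar ρ (h6cc_toInt ρ T.1 T.2.1) (h6cc_toInt_central ρ T.1 T.2)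
      (M χ) (hMirr χ)
  have hΩinj : Function.Injective Ω := by
    rw [← LinearMap.ker_eq_bot, LinearMap.ker_eq_bot']
    intro T hT
    have hzero : h6cc_toInt ρ T.1 T.2.1 = 0 := by
      apply h6cc_central_eq_zero ρ _ (h6cc_toInt_central ρ T.1 T.2)
      intro N hN
      have hNχ : Cfsg.IsIrrCharacter G N.toRepresentation.character :=
        isIrrCharacter_of_rep N.toRepresentation hN
      refine ⟨M ⟨⟨_, hNχ⟩, h6cc_classInner_sub_ne_zero ρ N hN⟩, hMchar _, ?_⟩
      intro v hv
      obtain ⟨c, hc⟩ := hscal T ⟨⟨_, hNχ⟩, h6cc_classInner_sub_ne_zero ρ N hN⟩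
      have h1 : T.1 (m ⟨⟨_, hNχ⟩, h6cc_classInner_sub_ne_zero ρ N hN⟩) = 0 := congrFun hT _
      rw [hc _ (hmM _)] at h1
      have hc0 : c = 0 := by
        rcases smul_eq_zero.mp h1 with h | h
        · exact h
        · exact absurd h (hm0 _)
      show T.1 v = 0
      rw [hc v hv, hc0, zero_smul]
    apply Subtype.ext
    exact congrArg IntertwiningMap.toLinearMap hzero
  have hrange : LinearMap.range Ω = LinearMap.range Ψ := by
    apply le_antisymm
    · rintro _ ⟨T, rfl⟩
      choose c hc using hscal T
      refine ⟨c, ?_⟩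
      funext χ
      exact (hc χ _ (hmM χ)).symm
    · rintro _ ⟨a, rfl⟩
      have hmem : (∑ χ, a χ • (h6cc_idem ρ (χ.1 : G → ℂ)
          (IsIrrCharacter.isCharacter χ.1.2)).toLinearMap) ∈ commCenter ρ := by
        apply Submodule.sum_mem
        intro χ _
        apply Submodule.smul_mem
        exact h6cc_mem_commCenter ρ _ (h6cc_idem_central ρ _ _)
      refine ⟨⟨_, hmem⟩, ?_⟩
      funext ψ
      show (∑ χ, a χ • (h6cc_idem ρ (χ.1 : G → ℂ)
          (IsIrrCharacter.isCharacter χ.1.2)).toLinearMap) (m ψ) = a ψ • m ψ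
      rw [LinearMap.sum_apply, Finset.sum_eq_single ψ]
      · rw [LinearMap.smul_apply]
        congr 1
        have := h6cc_idem_apply ρ (ψ.1 : G → ℂ) ψ.1.2 (M ψ) (hMirr ψ) (m ψ) (hmM ψ)
        rw [if_pos (hMchar ψ)] at this
        exact this
      · intro χ _ hne
        rw [LinearMap.smul_apply]
        have := h6cc_idem_apply ρ (χ.1 : G → ℂ) χ.1.2 (M ψ) (hMirr ψ) (m ψ) (hmM ψ)
        rw [if_neg] at this
        · show a χ • (h6cc_idem ρ (χ.1 : G → ℂ) (IsIrrCharacter.isCharacter χ.1.2)) (m ψ) = 0
          rw [this, smul_zero]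
        · rw [hMchar ψ]
          intro h
          apply hne
          apply Subtype.ext
          apply Subtype.ext
          exact h.symm
      · intro h
        exact absurd (Finset.mem_univ ψ) h
  calc finrank ℂ (commCenter ρ) = finrank ℂ (LinearMap.range Ω) :=
        (LinearMap.finrank_range_of_inj hΩinj).symm
    _ = finrank ℂ (LinearMap.range Ψ) := by rw [hrange]
    _ = finrank ℂ ({χ : Cfsg.IrrCharacter G //
          Cfsg.classInner ρ.character (χ : G → ℂ) ≠ 0} → ℂ) :=
        LinearMap.finrank_range_of_inj hΨinj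
    _ = Fintype.card {χ : Cfsg.IrrCharacter G //
          Cfsg.classInner ρ.character (χ : G → ℂ) ≠ 0} := Module.finrank_fintype_fun_eq_card ℂ
    _ = Nat.card {χ : Cfsg.IrrCharacter G //
          Cfsg.classInner ρ.character (χ : G → ℂ) ≠ 0} := Nat.card_eq_fintype_card.symm

/-- Being a constituent, in terms of the inner product. -/
theorem h6cc_constituent_iff [FiniteDimensional ℂ V] (χ : Cfsg.IrrCharacter G) :
    (∃ φ : G → ℂ, Cfsg.IsCharacter G φ ∧ ρ.character = (χ : G → ℂ) + φ) ↔
      Cfsg.classInner ρ.character (χ : G → ℂ) ≠ 0 := by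
  constructor
  · rintro ⟨φ, hφ, heq⟩
    rw [heq, classInner_add_left, classInner_irr_self χ.2]
    obtain ⟨n, hn⟩ := classInner_char_char_nat hφ (IsIrrCharacter.isCharacter χ.2)
    rw [hn]
    exact_mod_cast (Nat.succ_ne_zero n : n + 1 ≠ 0) ∘ (by omega : 1 + n = 0 → n + 1 = 0)
  · intro hne
    exact ⟨ρ.character - (χ : G → ℂ),
      sub_isCharacter_of_constituent (isCharacter_of_rep ρ) χ.2 hne, by
        rw [add_sub_cancel]⟩

end Cfsg.Agent.Helper6.ConstCount
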