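import Mathlib
import Cfsg.Prelude.Def_Characters
import Cfsg.Prelude.Def_Blocks
import Cfsg.Agent.Helper6.CopA
import Cfsg.Agent.Helper6.Gallagher

/-!
# Counting the characters of degree coprime to the index of a normal Hall subgroup
-/

set_option autoImplicit false
set_option linter.style.haveILetI false
set_option linter.unusedSimpArgs false

namespace Cfsg.Agent.Helper6

open Module
open scoped ComplexConjugate

universe u

variable {G : Type u} [Group G]

set_option maxHeartbeats 1600000 in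
/-- The irreducible characters of degree coprime to the index of a normal Hall subgroup `K` are
in bijection with the pairs of an invariant irreducible character of `K` and a linear character
of `G/K`. -/
theorem card_irr_coprime_degree [Finite G] (K : Subgroup G) [hK : K.Normal]
    (hcop : (Nat.card K).Coprime K.index) :
    Nat.card {χ : Cfsg.IrrCharacter G // (Cfsg.charDegree (χ : G → ℂ)).Coprime K.index} =
      Nat.card {θ : Cfsg.IrrCharacter K // ∀ (g : G) (n : K),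
        (θ : K → ℂ) ⟨g * n * g⁻¹, hK.conj_mem (n : G) n.2 g⟩ = (θ : K → ℂ) n} *
      Nat.card {μ : G →* ℂˣ // ∀ k ∈ K, μ k = 1} := by
  classical
  haveI := Fintype.ofFinite G
  haveI : Fintype K := Fintype.ofFinite K
  rw [← Nat.card_prod]
  symm
  -- choose extensions
  have hext : ∀ θ : {θ : Cfsg.IrrCharacter K // ∀ (g : G) (n : K),
      (θ : K → ℂ) ⟨g * n * g⁻¹, hK.conj_mem (n : G) n.2 g⟩ = (θ : K → ℂ) n},
      ∃ E : G → ℂ, Cfsg.IsIrrCharacter G E ∧ ∀ n : K, E n = (θ.1 : K → ℂ) n :=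
    fun θ => extends_of_coprime_card K (θ.1 : K → ℂ) θ.1.2 θ.2 hcop
  choose E hE hEK using hext
  have hirr : ∀ (θ : {θ : Cfsg.IrrCharacter K // ∀ (g : G) (n : K),
      (θ : K → ℂ) ⟨g * n * g⁻¹, hK.conj_mem (n : G) n.2 g⟩ = (θ : K → ℂ) n})
      (μ : {μ : G →* ℂˣ // ∀ k ∈ K, μ k = 1}),
      Cfsg.IsIrrCharacter G (fun g => ((μ.1 g : ℂˣ) : ℂ) * E θ g) := by
    intro θ μ
    have hres : Cfsg.IsIrrCharacter K (fun n : K => E θ n) := by
      have : (fun n : K => E θ n) = (θ.1 : K → ℂ) := funext (hEK θ)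
      rw [this]
      exact θ.1.2
    have := gallagher_irr K (hE θ) hres ⟨fun g => ((μ.1 g : ℂˣ) : ℂ), isIrrCharacter_of_hom μ.1⟩
      (by
        intro n hn
        change ((μ.1 n : ℂˣ) : ℂ) = ((μ.1 1 : ℂˣ) : ℂ)
        rw [μ.2 n hn, map_one])
    exact this
  have hdeg : ∀ (θ : {θ : Cfsg.IrrCharacter K // ∀ (g : G) (n : K),
      (θ : K → ℂ) ⟨g * n * g⁻¹, hK.conj_mem (n : G) n.2 g⟩ = (θ : K → ℂ) n})
      (μ : {μ : G →* ℂˣ // ∀ k ∈ K, μ k = 1}),
      (Cfsg.charDegree (fun g => ((μ.1 g : ℂˣ) : ℂ) * E θ g)).Coprime K.index := by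
    intro θ μ
    have h1 : Cfsg.charDegree (fun g => ((μ.1 g : ℂˣ) : ℂ) * E θ g) =
        Cfsg.charDegree (θ.1 : K → ℂ) := by
      unfold Cfsg.charDegree
      have := hEK θ 1
      rw [Subgroup.coe_one] at this
      simp only [map_one, Units.val_one, one_mul]
      rw [this]
    rw [h1]
    exact Nat.Coprime.coprime_dvd_left (charDegree_dvd_card θ.1.2) hcop
  apply Nat.card_congr
  refine Equiv.ofBijective (fun x => ⟨⟨_, hirr x.1 x.2⟩, hdeg x.1 x.2⟩) ⟨?_, ?_⟩
  · rintro ⟨θ₁, μ₁⟩ ⟨θ₂, μ₂⟩ h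
    have hfun : ∀ g : G, ((μ₁.1 g : ℂˣ) : ℂ) * E θ₁ g = ((μ₂.1 g : ℂˣ) : ℂ) * E θ₂ g := by
      intro g
      have h1 := congrArg (fun x => ((x.1 : Cfsg.IrrCharacter G) : G → ℂ) g) h
      exact h1
    have hθ : θ₁ = θ₂ := by
      apply Subtype.ext
      apply Subtype.ext
      funext n
      have h1 := hfun n
      rw [μ₁.2 n n.2, μ₂.2 n n.2, Units.val_one, one_mul, one_mul, hEK, hEK] at h1
      exact h1
    subst hθ
    have hres : Cfsg.IsIrrCharacter K (fun n : K => E θ₁ n) := by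
      have : (fun n : K => E θ₁ n) = (θ₁.1 : K → ℂ) := funext (hEK θ₁)
      rw [this]
      exact θ₁.1.2
    have hμ : μ₁.1⁻¹ * μ₂.1 = 1 := by
      apply hom_eq_one_of_mul_eq K (E θ₁) (hE θ₁) hres
      · intro n hn
        rw [MonoidHom.mul_apply, MonoidHom.inv_apply, μ₁.2 n hn, μ₂.2 n hn]
        simp
      · intro g
        rw [MonoidHom.mul_apply, MonoidHom.inv_apply, Units.val_mul, Units.val_inv_eq_inv_val]
        have h1 := hfun g
        have h2 : ((μ₁.1 g : ℂˣ) : ℂ) ≠ 0 := Units.ne_zero _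
        field_simp
        rw [mul_comm, ← h1, mul_comm]
    have hμ' : μ₁ = μ₂ := by
      apply Subtype.ext
      exact inv_mul_eq_one.mp hμ
    rw [hμ']
  · rintro ⟨χ, hχ⟩
    obtain ⟨θ, hθ⟩ := exists_constituent_restrict K χ
    have hinv := invariant_of_coprime_degree K (χ : G → ℂ) χ.2 hχ (θ : K → ℂ) θ.2 hθ
    obtain ⟨μ, hμK, hμχ⟩ := exists_linear_mul_ext K (χ : G → ℂ) χ.2 hχ (θ : K → ℂ) θ.2 hθ
      (E ⟨θ, hinv⟩) (hE ⟨θ, hinv⟩) (hEK ⟨θ, hinv⟩)
    refine ⟨(⟨θ, hinv⟩, ⟨μ, hμK⟩), ?_⟩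
    apply Subtype.ext
    apply Subtype.ext
    exact hμχ.symm

end Cfsg.Agent.Helper6
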