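import Mathlib
import Cfsg.Prelude.Def_Characters
import Cfsg.Agent.Helper1.Glauberman
import Cfsg.Agent.Helper6.NormAction
import Cfsg.Agent.Helper6.LinAction
import Cfsg.Agent.Helper6.LinearTransitive
import Cfsg.Agent.Helper6.Constituent
import Cfsg.Agent.Helper6.Degrees
import Cfsg.Agent.Helper6.IrrDegree
import Cfsg.Agent.Helper6.Induced

/-!
# Invariant characters above an invariant character under a coprime action: the abelian step
-/

set_option autoImplicit false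
set_option linter.style.haveILetI false

namespace Cfsg.Agent.Helper6

open scoped ComplexConjugate

universe u

variable {Γ : Type u} [Group Γ]

theorem le_normalizer_of_conj_mem {S N : Subgroup Γ} (h : ∀ s ∈ S, ∀ n ∈ N, s * n * s⁻¹ ∈ N) :
    S ≤ Subgroup.normalizer (N : Set Γ) := by
  intro s hs
  rw [Subgroup.mem_normalizer_iff]
  intro n
  constructor
  · exact h s hs n
  · intro h'
    have := h s⁻¹ (S.inv_mem hs) _ h'
    have h2 : s⁻¹ * (s * n * s⁻¹) * s⁻¹⁻¹ = n := by group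
    rwa [h2] at this

theorem invariant_constituent_above_abelian [Fintype Γ] (G S M : Subgroup Γ) [Fintype G]
    [Fintype M] (hnorm : ∀ s ∈ S, ∀ g ∈ G, s * g * s⁻¹ ∈ G) (hMG : M ≤ G)
    [hMn : (M.subgroupOf G).Normal] (hMS : ∀ s ∈ S, ∀ m ∈ M, s * m * s⁻¹ ∈ M)
    (hcop : (M.relIndex G).Coprime (Nat.card S))
    (hab : ∀ a ∈ G, ∀ b ∈ G, a * b * a⁻¹ * b⁻¹ ∈ M)
    (η : M → ℂ) (hη : Cfsg.IsIrrCharacter M η)
    (hinv : ∀ s ∈ S, ∀ m m' : M, (m' : Γ) = s * m * s⁻¹ → η m' = η m) :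
    ∃ χ : G → ℂ, Cfsg.IsIrrCharacter G χ ∧
      Cfsg.classInner (fun m : M => χ ⟨m, hMG m.2⟩) η ≠ 0 ∧
      (∀ s ∈ S, ∀ g g' : G, (g' : Γ) = s * g * s⁻¹ → χ g' = χ g) := by
  classical
  have hSG : S ≤ Subgroup.normalizer (G : Set Γ) := le_normalizer_of_conj_mem hnorm
  have hSM : S ≤ Subgroup.normalizer (M : Set Γ) := le_normalizer_of_conj_mem hMS
  letI := normAction G
  letI := linAction G
  haveI : Finite (Cfsg.IrrCharacter G) := irr_finite
  let π : Subgroup.normalizer (G : Set Γ) →* Equiv.Perm (Cfsg.IrrCharacter G) :=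
    MulAction.toPermHom _ _
  let πS : S →* Equiv.Perm (Cfsg.IrrCharacter G) := π.comp (Subgroup.inclusion hSG)
  let μP : (G →* ℂˣ) →* Equiv.Perm (Cfsg.IrrCharacter G) := MulAction.toPermHom _ _
  have hπS : ∀ (s : S) (χ : Cfsg.IrrCharacter G) (g : G),
      ((πS s χ : Cfsg.IrrCharacter G) : G → ℂ) g =
        (χ : G → ℂ) (normConjEquiv G (Subgroup.inclusion hSG s) g) := fun _ _ _ => rfl
  have hμP : ∀ (l : G →* ℂˣ) (χ : Cfsg.IrrCharacter G) (g : G),
      ((μP l χ : Cfsg.IrrCharacter G) : G → ℂ) g = (χ : G → ℂ) g * ((l g : ℂˣ) : ℂ) :=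
    fun _ _ _ => rfl
  set A : Subgroup (Equiv.Perm (Cfsg.IrrCharacter G)) := πS.range with hA
  set K : Subgroup (Equiv.Perm (Cfsg.IrrCharacter G)) := (trivOn (M.subgroupOf G)).map μP with hK
  -- `A` normalizes `K`
  have hconjmem : ∀ a ∈ A, ∀ k ∈ K, a * k * a⁻¹ ∈ K := by
    rintro a ⟨s, rfl⟩ k ⟨l, hl, rfl⟩
    refine ⟨l.comp (normConjEquiv G (Subgroup.inclusion hSG s)).toMonoidHom, ?_, ?_⟩
    · intro m hm
      rw [MonoidHom.comp_apply]
      apply hl
      rw [Subgroup.mem_subgroupOf] at hm ⊢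
      change ((normConjEquiv G (Subgroup.inclusion hSG s) m : G) : Γ) ∈ M
      rw [normConjEquiv_apply_coe]
      have := hMS (s : Γ)⁻¹ (S.inv_mem s.2) _ hm
      rwa [inv_inv] at this
    · ext χ : 1
      apply Subtype.ext
      funext g
      rw [Equiv.Perm.mul_apply, Equiv.Perm.mul_apply, ← map_inv, hπS, hμP, hμP, hπS]
      rw [MonoidHom.comp_apply]
      congr 1
      apply congrArg
      apply Subtype.ext
      rw [normConjEquiv_apply_coe, normConjEquiv_apply_coe]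
      simp only [Subgroup.coe_inclusion, InvMemClass.coe_inv, inv_inv]
      group
  have hAK : A ≤ Subgroup.normalizer (K : Set (Equiv.Perm (Cfsg.IrrCharacter G))) :=
    le_normalizer_of_conj_mem hconjmem
  -- cardinalities
  have hcardA : Nat.card A ∣ Nat.card S := Subgroup.card_range_dvd πS
  have hcardK : Nat.card K ∣ M.relIndex G := by
    have h1 : Nat.card K ∣ Nat.card (trivOn (M.subgroupOf G)) := Subgroup.card_map_dvd _ μP
    exact h1.trans (card_trivOn_dvd_index (M.subgroupOf G))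
  have hcop' : (Nat.card A).Coprime (Nat.card K) :=
    Nat.Coprime.coprime_dvd_left hcardA (Nat.Coprime.coprime_dvd_right hcardK hcop.symm)
  have hsolv' : Group.IsSolvable A ∨ Group.IsSolvable K := by
    right
    apply isSolvable_of_comm
    rintro ⟨a, l, hl, rfl⟩ ⟨b, l', hl', rfl⟩
    apply Subtype.ext
    change μP l * μP l' = μP l' * μP l
    rw [← map_mul, ← map_mul]
    exact congrArg μP (mul_comm l l')
  -- transport between `M` and `M.subgroupOf G`
  haveI : Fintype (M.subgroupOf G) := Fintype.ofFinite _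
  let e₁ : M.subgroupOf G ≃* M := Subgroup.subgroupOfEquivOfLe hMG
  have hη₁ : Cfsg.IsIrrCharacter (M.subgroupOf G) (η ∘ e₁) := IsIrrCharacter.comp_mulEquiv e₁ hη
  have htrans : ∀ χ : G → ℂ, Cfsg.classInner (fun m : M.subgroupOf G => χ m) (η ∘ e₁) =
      Cfsg.classInner (fun m : M => χ ⟨m, hMG m.2⟩) η := by
    intro χ
    have hres : (fun m : M.subgroupOf G => χ m) = (fun m : M => χ ⟨m, hMG m.2⟩) ∘ e₁ := rfl
    rw [hres]
    exact classInner_comp_equiv' e₁.toEquiv _ _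
  -- a character over `η`
  have hex : ∃ χ₀ : Cfsg.IrrCharacter G,
      Cfsg.classInner (fun m : M => (χ₀ : G → ℂ) ⟨m, hMG m.2⟩) η ≠ 0 := by
    have hind : Cfsg.IsCharacter G (Cfsg.indFun (M.subgroupOf G) (η ∘ e₁)) :=
      isCharacter_indFun _ _ (IsIrrCharacter.isCharacter hη₁)
    have hind0 : Cfsg.indFun (M.subgroupOf G) (η ∘ e₁) ≠ 0 := by
      intro h0
      have := congrFun h0 1
      rw [indFun_apply_one, Pi.zero_apply] at this
      have hidx : ((M.subgroupOf G).index : ℂ) ≠ 0 := by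
        exact_mod_cast Subgroup.index_ne_zero_of_finite
      exact mul_ne_zero hidx (IsIrrCharacter.apply_one_ne_zero hη₁) this
    obtain ⟨χ₀, hχ₀, hχ₀c⟩ := exists_irr_constituent hind hind0
    refine ⟨⟨χ₀, hχ₀⟩, ?_⟩
    rw [frobenius_reciprocity _ _ _
      (IsCharacter.isClassFunction (IsIrrCharacter.isCharacter hχ₀))] at hχ₀c
    rw [← htrans]
    intro h0
    apply hχ₀c
    rw [classInner_conj_symm, h0, map_zero]
  obtain ⟨χ₀, hχ₀c⟩ := hex
  -- the `S`-action preserves lying over `η`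
  have hoverS : ∀ (s : S) (χ : Cfsg.IrrCharacter G),
      Cfsg.classInner (fun m : M => ((πS s χ : Cfsg.IrrCharacter G) : G → ℂ) ⟨m, hMG m.2⟩) η =
        Cfsg.classInner (fun m : M => (χ : G → ℂ) ⟨m, hMG m.2⟩) η := by
    intro s χ
    let E : M ≃* M := normConjEquiv M ⟨(s : Γ), hSM s.2⟩
    have h1 : (fun m : M => ((πS s χ : Cfsg.IrrCharacter G) : G → ℂ) ⟨m, hMG m.2⟩) =
        (fun m : M => (χ : G → ℂ) ⟨m, hMG m.2⟩) ∘ E := by
      funext m
      rw [hπS]
      rfl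
    have h2 : η = η ∘ E := by
      funext m
      apply hinv (s : Γ) s.2 (E m) m
      change (m : Γ) = (s : Γ) * ((s : Γ)⁻¹ * (m : Γ) * (s : Γ)) * (s : Γ)⁻¹
      group
    rw [h1]
    conv_lhs => rw [h2]
    exact classInner_comp_equiv E.toEquiv _ _
  -- abelian quotient, in `G`
  have hab' : ∀ x y : G, x * y * x⁻¹ * y⁻¹ ∈ M.subgroupOf G := by
    intro x y
    rw [Subgroup.mem_subgroupOf]
    exact hab x x.2 y y.2
  -- Glauberman's lemma
  have horb : ∀ a ∈ A, ∃ k ∈ K, a • χ₀ = k • χ₀ := by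
    rintro a ⟨s, rfl⟩
    have h1 : Cfsg.classInner (fun m : M.subgroupOf G => (χ₀ : G → ℂ) m) (η ∘ e₁) ≠ 0 := by
      rw [htrans]
      exact hχ₀c
    have h2 : Cfsg.classInner
        (fun m : M.subgroupOf G => ((πS s χ₀ : Cfsg.IrrCharacter G) : G → ℂ) m) (η ∘ e₁) ≠ 0 := by
      rw [htrans, hoverS]
      exact hχ₀c
    obtain ⟨l, hl, hleq⟩ := exists_hom_mul_eq_of_common (M.subgroupOf G) hab' χ₀.2
      (πS s χ₀).2 hη₁ h1 h2
    refine ⟨μP l, ⟨l, hl, rfl⟩, ?_⟩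
    apply Subtype.ext
    exact hleq
  obtain ⟨k, ⟨l₀, hl₀, rfl⟩, hfix⟩ := Cfsg.Agent.Helper1.glauberman_exists A K hAK hcop' hsolv'
    χ₀ horb
  set χ : Cfsg.IrrCharacter G := μP l₀ χ₀ with hχdef
  refine ⟨(χ : G → ℂ), χ.2, ?_, ?_⟩
  · have h1 : (fun m : M => (χ : G → ℂ) ⟨m, hMG m.2⟩) =
        (fun m : M => (χ₀ : G → ℂ) ⟨m, hMG m.2⟩) := by
      funext m
      rw [hχdef, hμP]
      have : l₀ ⟨(m : Γ), hMG m.2⟩ = 1 := hl₀ _ (Subgroup.mem_subgroupOf.mpr m.2)
      rw [this, Units.val_one, mul_one]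
    rw [h1]
    exact hχ₀c
  · intro s hs g g' hgg'
    have h1 := hfix (πS ⟨s, hs⟩) ⟨⟨s, hs⟩, rfl⟩
    have h2 : πS ⟨s, hs⟩ χ = χ := h1
    have h3 : ((πS ⟨s, hs⟩ χ : Cfsg.IrrCharacter G) : G → ℂ) g' = (χ : G → ℂ) g' := by
      rw [h2]
    rw [hπS] at h3
    rw [← h3]
    apply congrArg
    apply Subtype.ext
    rw [normConjEquiv_apply_coe, hgg']
    simp only [Subgroup.coe_inclusion]
    group

end Cfsg.Agent.Helper6
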