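import Mathlib
import Cfsg.Prelude.Def_Characters
import Cfsg.Agent.Helper6.CoprimeInvAbove

/-!
# Invariant characters above an invariant character under a coprime action: induction
-/

set_option autoImplicit false
set_option linter.style.haveILetI false

namespace Cfsg.Agent.Helper6

open scoped ComplexConjugate
open scoped commutatorElement

universe u

variable {Γ : Type u} [Group Γ]

/-- Lying over is transitive. -/
theorem lying_over_trans [Fintype Γ] (G M N : Subgroup Γ) [Fintype G] [Fintype M] [Fintype N]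
    (hMG : M ≤ G) (hNM : N ≤ M) (χ : G → ℂ) (hχ : Cfsg.IsCharacter G χ) (η : M → ℂ)
    (hη : Cfsg.IsIrrCharacter M η) (θ : N → ℂ) (hθ : Cfsg.IsIrrCharacter N θ)
    (h1 : Cfsg.classInner (fun m : M => χ ⟨m, hMG m.2⟩) η ≠ 0)
    (h2 : Cfsg.classInner (fun n : N => η ⟨n, hNM n.2⟩) θ ≠ 0) :
    Cfsg.classInner (fun n : N => χ ⟨n, hMG (hNM n.2)⟩) θ ≠ 0 := by
  have hχM : Cfsg.IsCharacter M (fun m : M => χ ⟨m, hMG m.2⟩) :=
    IsCharacter.comp_hom (Subgroup.inclusion hMG) hχ
  have hΔ : Cfsg.IsCharacter M ((fun m : M => χ ⟨m, hMG m.2⟩) - η) :=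
    sub_isCharacter_of_constituent hχM hη h1
  have hΔN : Cfsg.IsCharacter N
      (fun n : N => ((fun m : M => χ ⟨m, hMG m.2⟩) - η) (Subgroup.inclusion hNM n)) :=
    IsCharacter.comp_hom (Subgroup.inclusion hNM) hΔ
  have hηN : Cfsg.IsCharacter N (fun n : N => η ⟨n, hNM n.2⟩) :=
    IsCharacter.comp_hom (Subgroup.inclusion hNM) (IsIrrCharacter.isCharacter hη)
  obtain ⟨a, ha⟩ := classInner_char_char_nat hηN (IsIrrCharacter.isCharacter hθ)
  obtain ⟨b, hb⟩ := classInner_char_char_nat hΔN (IsIrrCharacter.isCharacter hθ)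
  have hsplit : (fun n : N => χ ⟨n, hMG (hNM n.2)⟩) = (fun n : N => η ⟨n, hNM n.2⟩) +
      (fun n : N => ((fun m : M => χ ⟨m, hMG m.2⟩) - η) (Subgroup.inclusion hNM n)) := by
    funext n
    simp only [Pi.add_apply, Pi.sub_apply]
    change χ ⟨n, _⟩ = η ⟨n, _⟩ + (χ ⟨n, _⟩ - η ⟨n, _⟩)
    ring
  rw [hsplit, classInner_add_left, ha, hb]
  rw [ha] at h2
  have ha0 : a ≠ 0 := by
    intro h
    apply h2
    rw [h, Nat.cast_zero]
  have : ((a + b : ℕ) : ℂ) ≠ 0 := by
    have : a + b ≠ 0 := by omega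
    exact_mod_cast this
  push_cast at this
  exact this

/-- An element normalizing `N` and `G` normalizes `N ⊔ ⁅G, G⁆`. -/
theorem mem_normalizer_sup_commutator {G N : Subgroup Γ} {x : Γ}
    (hN : x ∈ Subgroup.normalizer (N : Set Γ)) (hG : x ∈ Subgroup.normalizer (G : Set Γ)) :
    x ∈ Subgroup.normalizer ((N ⊔ ⁅G, G⁆ : Subgroup Γ) : Set Γ) := by
  rw [Subgroup.mem_normalizer_iff_map_conj_eq] at hN hG ⊢
  rw [Subgroup.map_sup, Subgroup.map_commutator, hN, hG]

/-- If `G / N` is solvable and `N ⊔ ⁅G, G⁆ = G` then `G ≤ N`. -/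
theorem le_of_sup_commutator_eq {G N : Subgroup Γ} (hNG : N ≤ G) [hNn : (N.subgroupOf G).Normal]
    (hsolv : Group.IsSolvable (G ⧸ N.subgroupOf G)) (h : N ⊔ ⁅G, G⁆ = G) : G ≤ N := by
  by_contra hGN
  haveI : Nontrivial (G ⧸ N.subgroupOf G) := by
    rw [QuotientGroup.nontrivial_iff]
    intro htop
    apply hGN
    intro g hg
    have : (⟨g, hg⟩ : G) ∈ N.subgroupOf G := by rw [htop]; exact Subgroup.mem_top _
    exact Subgroup.mem_subgroupOf.mp this
  have hlt := Group.IsSolvable.commutator_lt_top_of_nontrivial (G ⧸ N.subgroupOf G)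
  apply hlt.ne
  rw [eq_top_iff]
  set P : Subgroup Γ := ((commutator (G ⧸ N.subgroupOf G)).comap
    (QuotientGroup.mk' (N.subgroupOf G))).map G.subtype with hP
  have hNP : N ≤ P := by
    intro n hn
    refine ⟨⟨n, hNG hn⟩, ?_, rfl⟩
    rw [SetLike.mem_coe, Subgroup.mem_comap]
    have h1 : QuotientGroup.mk' (N.subgroupOf G) ⟨n, hNG hn⟩ = 1 := by
      rw [QuotientGroup.mk'_apply, QuotientGroup.eq_one_iff]
      exact Subgroup.mem_subgroupOf.mpr hn
    rw [h1]
    exact Subgroup.one_mem _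
  have hCP : ⁅G, G⁆ ≤ P := by
    rw [Subgroup.commutator_le]
    intro a ha b hb
    refine ⟨⁅(⟨a, ha⟩ : G), (⟨b, hb⟩ : G)⁆, ?_, ?_⟩
    · rw [SetLike.mem_coe, Subgroup.mem_comap, map_commutatorElement, commutator_def]
      exact Subgroup.commutator_mem_commutator (Subgroup.mem_top _) (Subgroup.mem_top _)
    · simp [commutatorElement_def]
  have hGP : G ≤ P := by
    rw [← h]
    exact sup_le hNP hCP
  intro q _
  obtain ⟨g, rfl⟩ := QuotientGroup.mk'_surjective (N.subgroupOf G) q
  obtain ⟨g', hg', hgg'⟩ := hGP g.2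
  have : g' = g := Subtype.ext hgg'
  rw [← this]
  exact hg'

theorem invariant_constituent_above_aux [Fintype Γ] (S : Subgroup Γ) : ∀ n : ℕ,
    ∀ G N : Subgroup Γ, ∀ [Fintype G] [Fintype N], N.relIndex G = n → ∀ hNG : N ≤ G,
    ∀ hNn : (N.subgroupOf G).Normal,
    (∀ s ∈ S, ∀ g ∈ G, s * g * s⁻¹ ∈ G) → (∀ s ∈ S, ∀ x ∈ N, s * x * s⁻¹ ∈ N) →
    (N.relIndex G).Coprime (Nat.card S) →
    (haveI := hNn; Group.IsSolvable (G ⧸ N.subgroupOf G)) →
    ∀ θ : N → ℂ, Cfsg.IsIrrCharacter N θ →
    (∀ s ∈ S, ∀ g g' : N, (g' : Γ) = s * g * s⁻¹ → θ g' = θ g) →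
    ∃ χ : G → ℂ, Cfsg.IsIrrCharacter G χ ∧
      Cfsg.classInner (fun n : N => χ ⟨n, hNG n.2⟩) θ ≠ 0 ∧
      (∀ s ∈ S, ∀ g g' : G, (g' : Γ) = s * g * s⁻¹ → χ g' = χ g) := by
  classical
  intro n
  induction n using Nat.strong_induction_on with
  | _ n ih =>
    intro G N _ _ hn hNG hNn hnorm hNS hcop hsolv θ hθ hinv
    by_cases hGN : G ≤ N
    · obtain rfl : N = G := le_antisymm hNG hGN
      refine ⟨θ, hθ, ?_, hinv⟩
      have h1 := classInner_irr_self hθ
      have h2 : (fun n : N => θ ⟨n, hNG n.2⟩) = θ := rfl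
      rw [h2]
      intro h0
      apply one_ne_zero (α := ℂ)
      rw [← h1]
      convert h0
    · -- the intermediate subgroup
      set M : Subgroup Γ := N ⊔ ⁅G, G⁆ with hM
      haveI : Fintype M := Fintype.ofFinite M
      have hNM : N ≤ M := le_sup_left
      have hCG : ⁅G, G⁆ ≤ G := by
        rw [Subgroup.commutator_le]
        intro a ha b hb
        rw [commutatorElement_def]
        exact G.mul_mem (G.mul_mem (G.mul_mem ha hb) (G.inv_mem ha)) (G.inv_mem hb)
      have hMG : M ≤ G := sup_le hNG hCG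
      have hGnormN : G ≤ Subgroup.normalizer (N : Set Γ) :=
        (Subgroup.normal_subgroupOf_iff_le_normalizer hNG).mp hNn
      have hSG : S ≤ Subgroup.normalizer (G : Set Γ) := le_normalizer_of_conj_mem hnorm
      have hSN : S ≤ Subgroup.normalizer (N : Set Γ) := le_normalizer_of_conj_mem hNS
      have hGnormM : G ≤ Subgroup.normalizer (M : Set Γ) := fun g hg =>
        mem_normalizer_sup_commutator (hGnormN hg) (Subgroup.le_normalizer hg)
      have hSnormM : S ≤ Subgroup.normalizer (M : Set Γ) := fun s hs =>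
        mem_normalizer_sup_commutator (hSN hs) (hSG hs)
      haveI hMn : (M.subgroupOf G).Normal :=
        (Subgroup.normal_subgroupOf_iff_le_normalizer hMG).mpr hGnormM
      haveI hNMn : (N.subgroupOf M).Normal :=
        (Subgroup.normal_subgroupOf_iff_le_normalizer hNM).mpr (hMG.trans hGnormN)
      have hMS : ∀ s ∈ S, ∀ m ∈ M, s * m * s⁻¹ ∈ M := fun s hs m hm =>
        (Subgroup.mem_normalizer_iff.mp (hSnormM hs) m).mp hm
      have hab : ∀ a ∈ G, ∀ b ∈ G, a * b * a⁻¹ * b⁻¹ ∈ M := by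
        intro a ha b hb
        have : ⁅a, b⁆ ∈ ⁅G, G⁆ := Subgroup.commutator_mem_commutator ha hb
        rw [commutatorElement_def] at this
        exact (le_sup_right : ⁅G, G⁆ ≤ M) this
      have hMneG : ¬ G ≤ M := by
        intro hGM
        haveI := hNn
        exact hGN (le_of_sup_commutator_eq hNG hsolv (le_antisymm hMG hGM))
      have hmul : N.relIndex M * M.relIndex G = N.relIndex G :=
        Subgroup.relIndex_mul_relIndex N M G hNM hMG
      have hMG1 : M.relIndex G ≠ 1 := by
        intro h1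
        exact hMneG (Subgroup.relIndex_eq_one.mp h1)
      have hNG0 : N.relIndex G ≠ 0 := by
        change (N.subgroupOf G).index ≠ 0
        exact Subgroup.index_ne_zero_of_finite
      have hlt : N.relIndex M < n := by
        rw [← hn, ← hmul]
        have h0 : N.relIndex M ≠ 0 := by
          intro h
          rw [h, zero_mul] at hmul
          exact hNG0 hmul.symm
        have h2 : 2 ≤ M.relIndex G := by
          have : M.relIndex G ≠ 0 := by
            intro h
            rw [h, mul_zero] at hmul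
            exact hNG0 hmul.symm
          omega
        calc N.relIndex M < N.relIndex M * 2 := by omega
          _ ≤ N.relIndex M * M.relIndex G := Nat.mul_le_mul_left _ h2
      have hcopNM : (N.relIndex M).Coprime (Nat.card S) :=
        Nat.Coprime.coprime_dvd_left (Dvd.intro _ hmul) hcop
      have hcopMG : (M.relIndex G).Coprime (Nat.card S) :=
        Nat.Coprime.coprime_dvd_left (Dvd.intro_left _ hmul) hcop
      have hsolvNM : Group.IsSolvable (M ⧸ N.subgroupOf M) := by
        haveI := hsolv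
        let f : M ⧸ N.subgroupOf M →* G ⧸ N.subgroupOf G :=
          QuotientGroup.map (N.subgroupOf M) (N.subgroupOf G) (Subgroup.inclusion hMG)
            (fun m hm => by
              rw [Subgroup.mem_comap, Subgroup.mem_subgroupOf]
              exact Subgroup.mem_subgroupOf.mp hm)
        have hf : Function.Injective f := by
          rw [injective_iff_map_eq_one]
          intro q hq
          obtain ⟨m, rfl⟩ := QuotientGroup.mk'_surjective (N.subgroupOf M) q
          rw [QuotientGroup.mk'_apply] at hq ⊢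
          rw [QuotientGroup.map_mk, QuotientGroup.eq_one_iff, Subgroup.mem_subgroupOf] at hq
          rw [QuotientGroup.eq_one_iff, Subgroup.mem_subgroupOf]
          exact hq
        exact solvable_of_solvable_injective hf
      obtain ⟨η, hη, hηc, hηinv⟩ := ih (N.relIndex M) hlt M N rfl hNM hNMn hMS hNS hcopNM
        hsolvNM θ hθ hinv
      obtain ⟨χ, hχ, hχc, hχinv⟩ := invariant_constituent_above_abelian G S M hnorm hMG hMS
        hcopMG hab η hη hηinv
      refine ⟨χ, hχ, ?_, hχinv⟩
      exact lying_over_trans G M N hMG hNM χ (IsIrrCharacter.isCharacter hχ) η hη θ hθ hχc hηc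

end Cfsg.Agent.Helper6
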