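import Mathlib
import Cfsg.Prelude.Def_Characters
import Cfsg.Agent.Helper1.Glauberman
import Cfsg.Agent.Helper6.NormAction
import Cfsg.Agent.Helper6.CliffordOrbit
import Cfsg.Agent.Helper6.Constituent
import Cfsg.Agent.Helper6.Degrees
import Cfsg.Agent.Helper6.IrrDegree

/-!
# Invariant constituents below an invariant character under a coprime action
-/

set_option autoImplicit false
set_option linter.style.haveILetI false

namespace Cfsg.Agent.Helper6

open scoped ComplexConjugate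

universe u

variable {Γ : Type u} [Group Γ]

theorem invariant_constituent_below [Fintype Γ] (G S N : Subgroup Γ) [Fintype G] [Fintype N]
    (hnorm : ∀ s ∈ S, ∀ g ∈ G, s * g * s⁻¹ ∈ G) (hNG : N ≤ G)
    [hNn : (N.subgroupOf G).Normal] (hNS : ∀ s ∈ S, ∀ n ∈ N, s * n * s⁻¹ ∈ N)
    (hcop : (N.relIndex G).Coprime (Nat.card S))
    (hsolv : Group.IsSolvable S ∨ Group.IsSolvable (G ⧸ N.subgroupOf G))
    (χ : G → ℂ) (hχ : Cfsg.IsIrrCharacter G χ)
    (hinv : ∀ s ∈ S, ∀ g g' : G, (g' : Γ) = s * g * s⁻¹ → χ g' = χ g) :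
    ∃ θ : N → ℂ, Cfsg.IsIrrCharacter N θ ∧
      Cfsg.classInner (fun n : N => χ ⟨n, hNG n.2⟩) θ ≠ 0 ∧
      (∀ s ∈ S, ∀ g g' : N, (g' : Γ) = s * g * s⁻¹ → θ g' = θ g) := by
  classical
  -- `G` and `S` normalize `N`
  have hGN : G ≤ Subgroup.normalizer (N : Set Γ) :=
    (Subgroup.normal_subgroupOf_iff_le_normalizer hNG).mp hNn
  have hSN : S ≤ Subgroup.normalizer (N : Set Γ) := by
    intro s hs
    rw [Subgroup.mem_normalizer_iff]
    intro n
    constructor
    · exact hNS s hs n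
    · intro h
      have := hNS s⁻¹ (S.inv_mem hs) _ h
      have h2 : s⁻¹ * (s * n * s⁻¹) * s⁻¹⁻¹ = n := by group
      rwa [h2] at this
  letI := normAction N
  haveI : Finite (Cfsg.IrrCharacter N) := irr_finite
  let π : Subgroup.normalizer (N : Set Γ) →* Equiv.Perm (Cfsg.IrrCharacter N) :=
    MulAction.toPermHom _ _
  let πG : G →* Equiv.Perm (Cfsg.IrrCharacter N) := π.comp (Subgroup.inclusion hGN)
  let πS : S →* Equiv.Perm (Cfsg.IrrCharacter N) := π.comp (Subgroup.inclusion hSN)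
  have hπG : ∀ (g : G) (θ : Cfsg.IrrCharacter N) (n : N),
      ((πG g θ : Cfsg.IrrCharacter N) : N → ℂ) n =
        (θ : N → ℂ) (normConjEquiv N (Subgroup.inclusion hGN g) n) := fun _ _ _ => rfl
  have hπS : ∀ (s : S) (θ : Cfsg.IrrCharacter N) (n : N),
      ((πS s θ : Cfsg.IrrCharacter N) : N → ℂ) n =
        (θ : N → ℂ) (normConjEquiv N (Subgroup.inclusion hSN s) n) := fun _ _ _ => rfl
  set A : Subgroup (Equiv.Perm (Cfsg.IrrCharacter N)) := πS.range with hA
  set K : Subgroup (Equiv.Perm (Cfsg.IrrCharacter N)) := πG.range with hK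
  -- `A` normalizes `K`
  have hconjmem : ∀ a ∈ A, ∀ k ∈ K, a * k * a⁻¹ ∈ K := by
    rintro a ⟨s, rfl⟩ k ⟨g, rfl⟩
    refine ⟨⟨(s : Γ) * g * (s : Γ)⁻¹, hnorm s s.2 g g.2⟩, ?_⟩
    change π _ = π _ * π _ * (π _)⁻¹
    rw [← map_inv, ← map_mul, ← map_mul]
    congr 1
  have hAK : A ≤ Subgroup.normalizer (K : Set (Equiv.Perm (Cfsg.IrrCharacter N))) := by
    intro a ha
    rw [Subgroup.mem_normalizer_iff]
    intro k
    constructor
    · exact hconjmem a ha k
    · intro h
      have := hconjmem a⁻¹ (A.inv_mem ha) _ h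
      have h2 : a⁻¹ * (a * k * a⁻¹) * a⁻¹⁻¹ = k := by group
      rwa [h2] at this
  -- cardinalities
  have hcardA : Nat.card A ∣ Nat.card S := Subgroup.card_range_dvd πS
  have hker : N.subgroupOf G ≤ πG.ker := by
    intro n hn
    rw [MonoidHom.mem_ker]
    ext θ : 1
    apply Subtype.ext
    funext m
    rw [hπG]
    have hcf := IsCharacter.isClassFunction (IsIrrCharacter.isCharacter θ.2)
    have hnN : (n : Γ) ∈ N := Subgroup.mem_subgroupOf.mp hn
    have : normConjEquiv N (Subgroup.inclusion hGN n) m =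
        (⟨(n : Γ), hnN⟩ : N)⁻¹ * m * (⟨(n : Γ), hnN⟩ : N)⁻¹⁻¹ := by
      apply Subtype.ext
      rw [normConjEquiv_apply_coe]
      simp
    rw [this, hcf]
    rfl
  have hcardK : Nat.card K ∣ N.relIndex G := by
    rw [hK, ← Subgroup.index_ker]
    exact Subgroup.index_dvd_of_le hker
  have hcop' : (Nat.card A).Coprime (Nat.card K) :=
    Nat.Coprime.coprime_dvd_left hcardA (Nat.Coprime.coprime_dvd_right hcardK hcop.symm)
  have hsolv' : Group.IsSolvable A ∨ Group.IsSolvable K := by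
    rcases hsolv with h | h
    · left
      haveI := h
      exact Group.isSolvable_of_surjective (MonoidHom.rangeRestrict_surjective πS)
    · right
      haveI := h
      have hker' : N.subgroupOf G ≤ πG.rangeRestrict.ker := by
        intro n hn
        rw [MonoidHom.mem_ker]
        apply Subtype.ext
        exact MonoidHom.mem_ker.mp (hker hn)
      let ψ : G ⧸ N.subgroupOf G →* K := QuotientGroup.lift (N.subgroupOf G) πG.rangeRestrict hker'
      have hψ : Function.Surjective ψ := by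
        intro k
        obtain ⟨g, hg⟩ := MonoidHom.rangeRestrict_surjective πG k
        exact ⟨QuotientGroup.mk g, by rw [← hg]; rfl⟩
      exact Group.isSolvable_of_surjective hψ
  -- restriction of `χ` to `N`
  set χN : N → ℂ := fun n : N => χ ⟨n, hNG n.2⟩ with hχN
  have hχchar := IsIrrCharacter.isCharacter hχ
  have hχcf := IsCharacter.isClassFunction hχchar
  have hχNchar : Cfsg.IsCharacter N χN :=
    IsCharacter.comp_hom (Subgroup.inclusion hNG) hχchar
  have hχN0 : χN ≠ 0 := by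
    intro h
    have h1 := congrFun h 1
    have h2 : χN 1 = χ 1 := rfl
    rw [h2, Pi.zero_apply] at h1
    exact IsIrrCharacter.apply_one_ne_zero hχ h1
  obtain ⟨θ₀, hθ₀, hθ₀c⟩ := exists_irr_constituent hχNchar hχN0
  -- invariance of `χN` under `G` and `S`
  have hχNG : ∀ g : G, χN ∘ normConjEquiv N (Subgroup.inclusion hGN g) = χN := by
    intro g
    funext n
    have h1 : (⟨((normConjEquiv N (Subgroup.inclusion hGN g) n : N) : Γ), hNG (Subtype.mem _)⟩ : G) =
        g⁻¹ * ⟨(n : Γ), hNG n.2⟩ * g⁻¹⁻¹ := by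
      apply Subtype.ext
      rw [normConjEquiv_apply_coe]
      simp
    change χ _ = χ _
    rw [h1, hχcf]
  have hχNS : ∀ s : S, χN ∘ normConjEquiv N (Subgroup.inclusion hSN s) = χN := by
    intro s
    funext n
    change χ _ = χ _
    symm
    apply hinv s s.2
    rw [normConjEquiv_apply_coe]
    simp only [Subgroup.coe_inclusion]
    group
  -- conjugates of constituents are constituents
  have hconstG : ∀ (g : G) (θ : Cfsg.IrrCharacter N),
      Cfsg.classInner χN ((πG g θ : Cfsg.IrrCharacter N) : N → ℂ) =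
        Cfsg.classInner χN (θ : N → ℂ) := by
    intro g θ
    have h1 : ((πG g θ : Cfsg.IrrCharacter N) : N → ℂ) =
        (θ : N → ℂ) ∘ normConjEquiv N (Subgroup.inclusion hGN g) := rfl
    rw [h1]
    conv_lhs => rw [← hχNG g]
    exact classInner_comp_equiv (normConjEquiv N (Subgroup.inclusion hGN g)).toEquiv _ _
  have hconstS : ∀ (s : S) (θ : Cfsg.IrrCharacter N),
      Cfsg.classInner χN ((πS s θ : Cfsg.IrrCharacter N) : N → ℂ) =
        Cfsg.classInner χN (θ : N → ℂ) := by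
    intro s θ
    have h1 : ((πS s θ : Cfsg.IrrCharacter N) : N → ℂ) =
        (θ : N → ℂ) ∘ normConjEquiv N (Subgroup.inclusion hSN s) := rfl
    rw [h1]
    conv_lhs => rw [← hχNS s]
    exact classInner_comp_equiv (normConjEquiv N (Subgroup.inclusion hSN s)).toEquiv _ _
  -- Clifford: two constituents are conjugate under `G`
  have hclif : ∀ ψ : Cfsg.IrrCharacter N, Cfsg.classInner χN (ψ : N → ℂ) ≠ 0 →
      ∃ g : G, ψ = πG g ⟨θ₀, hθ₀⟩ := by
    intro ψ hψc
    haveI : Fintype (N.subgroupOf G) := Fintype.ofFinite _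
    let e₁ : N.subgroupOf G ≃* N := Subgroup.subgroupOfEquivOfLe hNG
    have hres : (fun n : N.subgroupOf G => χ n) = χN ∘ e₁ := rfl
    have hc1 : Cfsg.classInner (fun n : N.subgroupOf G => χ n) (θ₀ ∘ e₁) ≠ 0 := by
      rw [hres]
      intro h0
      apply hθ₀c
      rw [← classInner_comp_equiv' e₁.toEquiv χN θ₀]
      exact h0
    have hc2 : Cfsg.classInner (fun n : N.subgroupOf G => χ n) ((ψ : N → ℂ) ∘ e₁) ≠ 0 := by
      rw [hres]
      intro h0
      apply hψc
      rw [← classInner_comp_equiv' e₁.toEquiv χN (ψ : N → ℂ)]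
      exact h0
    obtain ⟨g, hg⟩ := conj_of_constituents (N.subgroupOf G) χ hχ (θ₀ ∘ e₁)
      (IsIrrCharacter.comp_mulEquiv e₁ hθ₀) hc1 ((ψ : N → ℂ) ∘ e₁)
      (IsIrrCharacter.comp_mulEquiv e₁ ψ.2) hc2
    refine ⟨g⁻¹, ?_⟩
    apply Subtype.ext
    funext n
    rw [hπG]
    have h1 := congrFun hg (e₁.symm n)
    rw [Function.comp_apply, MulEquiv.apply_symm_apply] at h1
    rw [h1]
    change θ₀ (e₁ _) = θ₀ _
    apply congrArg
    apply Subtype.ext
    rw [normConjEquiv_apply_coe]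
    change ((g : Γ) * ((e₁.symm n : N.subgroupOf G) : Γ) * (g : Γ)⁻¹) = _
    have h2 : ((e₁.symm n : N.subgroupOf G) : Γ) = (n : Γ) := by
      have := congrArg (fun x : N => (x : Γ)) (e₁.apply_symm_apply n)
      exact this
    rw [h2]
    simp
  -- Glauberman's lemma
  have horb : ∀ a ∈ A, ∃ k ∈ K, a • (⟨θ₀, hθ₀⟩ : Cfsg.IrrCharacter N) =
      k • (⟨θ₀, hθ₀⟩ : Cfsg.IrrCharacter N) := by
    rintro a ⟨s, rfl⟩
    have h1 : Cfsg.classInner χN ((πS s ⟨θ₀, hθ₀⟩ : Cfsg.IrrCharacter N) : N → ℂ) ≠ 0 := by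
      rw [hconstS]
      exact hθ₀c
    obtain ⟨g, hg⟩ := hclif _ h1
    exact ⟨πG g, ⟨g, rfl⟩, hg⟩
  obtain ⟨k, ⟨g₀, rfl⟩, hfix⟩ := Cfsg.Agent.Helper1.glauberman_exists A K hAK hcop' hsolv'
    (⟨θ₀, hθ₀⟩ : Cfsg.IrrCharacter N) horb
  set θ : Cfsg.IrrCharacter N := πG g₀ ⟨θ₀, hθ₀⟩ with hθ
  refine ⟨(θ : N → ℂ), θ.2, ?_, ?_⟩
  · rw [hθ, hconstG]
    exact hθ₀c
  · intro s hs g g' hgg'
    have h1 := hfix (πS ⟨s, hs⟩) ⟨⟨s, hs⟩, rfl⟩
    have h2 : πS ⟨s, hs⟩ θ = θ := h1
    have h3 : ((πS ⟨s, hs⟩ θ : Cfsg.IrrCharacter N) : N → ℂ) g' = (θ : N → ℂ) g' := by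
      rw [h2]
    rw [hπS] at h3
    rw [← h3]
    apply congrArg
    apply Subtype.ext
    rw [normConjEquiv_apply_coe, hgg']
    simp only [Subgroup.coe_inclusion]
    group

end Cfsg.Agent.Helper6
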