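import Mathlib
import Cfsg.Agent.Helper6.CtrE
import Cfsg.Agent.Helper1.Subnormal
import Cfsg.Agent.Helper4.PCore

/-!
# Control of weak closure of elements in fusion systems, part F

Group-theoretic lemma (Glauberman): if a functor `W` satisfies the quadratic-element condition, then
in a group `L` with `C_L(O_p(L)) ≤ O_p(L)` the `p`-th powers of elements of `Z(P)` centralized by
`N_L(W(P))` are central.
-/

set_option autoImplicit false
set_option linter.style.haveILetI false
set_option maxHeartbeats 1000000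

namespace Cfsg.Agent.Helper6.Ctr

open Cfsg Cfsg.Agent.Helper1 Cfsg.Agent.Helper1.ThompsonRed
open scoped commutatorElement

universe u

/-- Quadratic action: `v ^ p` commutes with `g` when `[V, g, g] = 1`, `V` is abelian normal and
`g ^ p` centralizes `V`. -/
theorem pow_comm_of_quadratic {L : Type*} [Group L] (p : ℕ) {V : Subgroup L} [V.Normal]
    (hVab : ∀ a ∈ V, ∀ b ∈ V, a * b = b * a) (g : L)
    (hquad : ⁅⁅V, Subgroup.zpowers g⁆, Subgroup.zpowers g⁆ = ⊥)
    (hgp : ∀ v ∈ V, v * g ^ p = g ^ p * v) (v : L) (hv : v ∈ V) :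
    v ^ p * g = g * v ^ p := by
  set c : L := ⁅v, g⁆ with hc
  have hc1 : c ∈ ⁅V, Subgroup.zpowers g⁆ :=
    Subgroup.commutator_mem_commutator hv (Subgroup.mem_zpowers g)
  have hcV : c ∈ V := Subgroup.commutator_le_left V _ hc1
  have hcg1 : ⁅c, g⁆ ∈ ⁅⁅V, Subgroup.zpowers g⁆, Subgroup.zpowers g⁆ :=
    Subgroup.commutator_mem_commutator hc1 (Subgroup.mem_zpowers g)
  rw [hquad, Subgroup.mem_bot] at hcg1
  have hcg : Commute c g := commutatorElement_eq_one_iff_mul_comm.mp hcg1
  have hcv : Commute c v := hVab c hcV v hv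
  have hvg : v * g = c * g * v := by
    rw [hc, commutatorElement_def]; group
  have hA : ∀ n : ℕ, v * g ^ n = c ^ n * g ^ n * v := by
    intro n
    induction n with
    | zero => simp
    | succ n ih =>
      calc v * g ^ (n + 1) = (v * g ^ n) * g := by rw [pow_succ, mul_assoc]
        _ = c ^ n * g ^ n * (v * g) := by rw [ih]; group
        _ = c ^ n * (g ^ n * c) * g * v := by rw [hvg]; group
        _ = c ^ n * (c * g ^ n) * g * v := by rw [(hcg.pow_right n).eq]
        _ = c ^ (n + 1) * g ^ (n + 1) * v := by rw [pow_succ, pow_succ]; group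
  have hcp : c ^ p = 1 := by
    have h1 := hA p
    rw [hgp v hv] at h1
    have h2 : c ^ p * (g ^ p * v) = 1 * (g ^ p * v) := by
      rw [one_mul, ← mul_assoc]; exact h1.symm
    exact mul_right_cancel h2
  have hB : ∀ n : ℕ, v ^ n * g = c ^ n * g * v ^ n := by
    intro n
    induction n with
    | zero => simp
    | succ n ih =>
      calc v ^ (n + 1) * g = v * (v ^ n * g) := by rw [pow_succ']; group
        _ = (v * c ^ n) * g * v ^ n := by rw [ih]; group
        _ = (c ^ n * v) * g * v ^ n := by rw [((hcv.pow_left n).eq)]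
        _ = c ^ n * (v * g) * v ^ n := by group
        _ = c ^ (n + 1) * g * v ^ (n + 1) := by rw [hvg, pow_succ, pow_succ']; group
  have h3 := hB p
  rw [hcp, one_mul] at h3
  exact h3

/-- Some `p`-power of a `p`-element outside `Q` lies outside `Q` and has its `p`-th power in `Q`. -/
theorem exists_pow_not_mem {L : Type*} [Group L] (p : ℕ) (Q : Subgroup L) (g : L)
    (hg : ∃ m : ℕ, g ^ (p ^ m) = 1) (hgQ : g ∉ Q) :
    ∃ k : ℕ, g ^ (p ^ k) ∉ Q ∧ (g ^ (p ^ k)) ^ p ∈ Q := by
  classical
  have hex : ∃ j : ℕ, g ^ (p ^ j) ∈ Q := by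
    obtain ⟨m, hm⟩ := hg
    exact ⟨m, by rw [hm]; exact Q.one_mem⟩
  have hj0 : Nat.find hex ≠ 0 := by
    intro h0
    have h1 := Nat.find_spec hex
    rw [h0, pow_zero, pow_one] at h1
    exact hgQ h1
  obtain ⟨k, hk⟩ := Nat.exists_eq_succ_of_ne_zero hj0
  refine ⟨k, ?_, ?_⟩
  · exact Nat.find_min hex (by omega)
  · have h1 := Nat.find_spec hex
    rw [hk, Nat.succ_eq_add_one, pow_succ, pow_mul] at h1
    exact h1

/-- The condition `C(O_p) ≤ O_p` passes to subgroups containing `O_p`. -/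
theorem centralizer_pCore_le_of_le {L : Type*} [Group L] (p : ℕ) [Fact p.Prime]
    (hcent : Subgroup.centralizer ((pCore p L : Subgroup L) : Set L) ≤ pCore p L)
    (H : Subgroup L) (hQH : pCore p L ≤ H) :
    Subgroup.centralizer ((pCore p ↥H : Subgroup ↥H) : Set ↥H) ≤ pCore p ↥H := by
  haveI : (pCore p L).Normal := Cfsg.Agent.Helper4.pCore_normal
  have hQ' : (pCore p L).subgroupOf H ≤ pCore p ↥H := by
    apply Cfsg.Agent.Helper4.le_pCore _ inferInstance
    exact Cfsg.Agent.Helper4.pCore_isPGroup.comap_of_injective H.subtype H.subtype_injective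
  intro h hh
  apply hQ'
  rw [Subgroup.mem_subgroupOf]
  apply hcent
  rw [Subgroup.mem_centralizer_iff] at hh ⊢
  intro q hq
  have h1 := hh ⟨q, hQH hq⟩ (hQ' (by rw [Subgroup.mem_subgroupOf]; exact hq))
  exact congrArg Subtype.val h1

/-- The quadratic-element hypothesis, in functor form. -/
def QuadHyp (p : ℕ) (W : CharFunctor.{u}) : Prop :=
  ∀ (G : Type u) [Group G] [Finite G] (P : Sylow p G), ¬ (W.of (P : Subgroup G)).Normal →
    ∃ g : G, g ∈ (P : Subgroup G) ∧ g ∉ Cfsg.pCore p G ∧
      ⁅⁅(Subgroup.center ↥(Cfsg.pCore p G)).map (Cfsg.pCore p G).subtype, Subgroup.zpowers g⁆,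
        Subgroup.zpowers g⁆ = ⊥

end Cfsg.Agent.Helper6.Ctr
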