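import Mathlib
import Cfsg.Agent.Helper6.CtrF

/-!
# Control of weak closure of elements in fusion systems, part G

Glauberman's group-theoretic lemma for functors satisfying the quadratic-element condition.
-/

set_option autoImplicit false
set_option linter.style.haveILetI false
set_option maxHeartbeats 1000000

namespace Cfsg.Agent.Helper6.Ctr

open Cfsg Cfsg.Agent.Helper1 Cfsg.Agent.Helper1.ThompsonRed
open scoped commutatorElement

universe u

theorem card_lt_of_ne_top {L : Type*} [Group L] [Finite L] (H : Subgroup L) (hH : H ≠ ⊤) :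
    Nat.card H < Nat.card L := by
  have h1 := Subgroup.card_mul_index H
  have h2 : H.index ≠ 1 := fun h => hH (Subgroup.index_eq_one.mp h)
  have h3 : H.index ≠ 0 := Subgroup.index_ne_zero_of_finite
  have h4 : 0 < Nat.card H := Nat.card_pos
  have h5 : 2 ≤ H.index := by omega
  nlinarith

theorem glq (p : ℕ) [Fact p.Prime] (W : CharFunctor.{u}) (hq : QuadHyp p W) :
    ∀ (n : ℕ) (L : Type u) [Group L] [Finite L], Nat.card L = n → ∀ (P : Sylow p L),
      Subgroup.centralizer ((pCore p L : Subgroup L) : Set L) ≤ pCore p L →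
      ∀ x : L, x ∈ (P : Subgroup L) → (∀ t ∈ (P : Subgroup L), t * x = x * t) →
        (∀ g ∈ Subgroup.normalizer ((W.of (P : Subgroup L) : Subgroup L) : Set L),
          g * x ^ p = x ^ p * g) → ∀ g : L, g * x ^ p = x ^ p * g := by
  intro n
  induction n using Nat.strong_induction_on with
  | _ n ih =>
  intro L _ _ hn P hcent x hxP hxZ hN
  by_contra hcon
  push Not at hcon
  obtain ⟨g₀, hg₀⟩ := hcon
  haveI hQn : (pCore p L).Normal := Cfsg.Agent.Helper4.pCore_normal
  have hQP : pCore p L ≤ P := Cfsg.Agent.Helper4.pCore_le_sylow P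
  -- (a) proper subgroups containing `P` centralize `x ^ p`
  have hprop : ∀ H : Subgroup L, (P : Subgroup L) ≤ H → H ≠ ⊤ →
      ∀ h ∈ H, h * x ^ p = x ^ p * h := by
    intro H hPH hH h hh
    have hlt : Nat.card H < n := by rw [← hn]; exact card_lt_of_ne_top H hH
    have hcentH := centralizer_pCore_le_of_le p hcent H (hQP.trans hPH)
    have hxH : (⟨x, hPH hxP⟩ : H) ∈ ((P.subtype hPH : Sylow p H) : Subgroup H) := by
      rw [Sylow.coe_subtype, Subgroup.mem_subgroupOf]; exact hxP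
    have hxZH : ∀ t ∈ ((P.subtype hPH : Sylow p H) : Subgroup H),
        t * (⟨x, hPH hxP⟩ : H) = ⟨x, hPH hxP⟩ * t := by
      intro t ht
      rw [Sylow.coe_subtype, Subgroup.mem_subgroupOf] at ht
      exact Subtype.ext (hxZ t ht)
    have hNH : ∀ g ∈ Subgroup.normalizer
        ((W.of ((P.subtype hPH : Sylow p H) : Subgroup H) : Subgroup H) : Set H),
        g * (⟨x, hPH hxP⟩ : H) ^ p = (⟨x, hPH hxP⟩ : H) ^ p * g := by
      intro g hg
      have h1 : (g : L) ∈ Subgroup.normalizer ((W.of (P : Subgroup L) : Subgroup L) : Set L) := by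
        have h2 : (W.of ((P : Subgroup L).subgroupOf H)).map H.subtype = W.of (P : Subgroup L) :=
          W.of_subgroupOf hPH
        rw [← h2]
        rw [Sylow.coe_subtype] at hg
        exact Subgroup.le_normalizer_map H.subtype ⟨g, hg, rfl⟩
      apply Subtype.ext
      have h3 := hN g h1
      simpa using h3
    have h4 := ih (Nat.card H) hlt ↥H rfl (P.subtype hPH) hcentH ⟨x, hPH hxP⟩ hxH hxZH hNH ⟨h, hh⟩
    have h5 := congrArg Subtype.val h4
    simpa using h5
  -- (b) `W(P)` is not normal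
  have hWnn : ¬ (W.of (P : Subgroup L)).Normal := by
    intro hn'
    apply hg₀
    apply hN
    rw [Subgroup.normalizer_eq_top_iff.mpr hn']
    exact Subgroup.mem_top _
  -- (c) the quadratic element
  obtain ⟨g, hgP, hgQ, hquad⟩ := hq L P hWnn
  -- (d) a suitable power
  have hgpow : ∃ m : ℕ, g ^ (p ^ m) = 1 := by
    obtain ⟨m, hm⟩ := P.isPGroup' ⟨g, hgP⟩
    exact ⟨m, by simpa using congrArg Subtype.val hm⟩
  obtain ⟨k, hk1, hk2⟩ := exists_pow_not_mem p (pCore p L) g hgpow hgQ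
  have hg₁P : g ^ (p ^ k) ∈ (P : Subgroup L) := Subgroup.pow_mem _ hgP _
  have hzle : Subgroup.zpowers (g ^ (p ^ k)) ≤ Subgroup.zpowers g :=
    Subgroup.zpowers_le.mpr (Subgroup.pow_mem _ (Subgroup.mem_zpowers g) _)
  have hquad₁ : ⁅⁅(Subgroup.center ↥(Cfsg.pCore p L)).map (Cfsg.pCore p L).subtype,
      Subgroup.zpowers (g ^ (p ^ k))⁆, Subgroup.zpowers (g ^ (p ^ k))⁆ = ⊥ := by
    apply le_bot_iff.mp
    rw [← hquad]
    exact Subgroup.commutator_mono (Subgroup.commutator_mono le_rfl hzle) hzle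
  -- (e) the subgroup `V = Z(O_p(L))`
  haveI hVn : ((Subgroup.center ↥(Cfsg.pCore p L)).map (Cfsg.pCore p L).subtype).Normal :=
    inferInstance
  have hVab : ∀ a ∈ (Subgroup.center ↥(Cfsg.pCore p L)).map (Cfsg.pCore p L).subtype,
      ∀ b ∈ (Subgroup.center ↥(Cfsg.pCore p L)).map (Cfsg.pCore p L).subtype, a * b = b * a := by
    rintro _ ⟨a, ha, rfl⟩ _ ⟨b, -, rfl⟩
    have h1 := Subgroup.mem_center_iff.mp ha b
    exact (congrArg Subtype.val h1).symm
  have hVQ : ∀ v ∈ (Subgroup.center ↥(Cfsg.pCore p L)).map (Cfsg.pCore p L).subtype,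
      ∀ q ∈ pCore p L, v * q = q * v := by
    rintro _ ⟨a, ha, rfl⟩ q hq
    have h1 := Subgroup.mem_center_iff.mp ha ⟨q, hq⟩
    exact (congrArg Subtype.val h1).symm
  have hxQ : x ∈ pCore p L := by
    apply hcent
    rw [Subgroup.mem_centralizer_iff]
    intro q hq
    exact hxZ q (hQP hq)
  have hxV : x ∈ (Subgroup.center ↥(Cfsg.pCore p L)).map (Cfsg.pCore p L).subtype := by
    refine ⟨⟨x, hxQ⟩, ?_, rfl⟩
    rw [SetLike.mem_coe, Subgroup.mem_center_iff]
    intro q
    apply Subtype.ext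
    exact hxZ q (hQP q.2)
  -- (f) the normal subgroup `C`
  set T : Set L := (fun v => v ^ p) ''
    (((Subgroup.center ↥(Cfsg.pCore p L)).map (Cfsg.pCore p L).subtype : Subgroup L) : Set L)
    with hTdef
  have hTconj : ∀ t ∈ T, ∀ l : L, l⁻¹ * t * l ∈ T := by
    rintro _ ⟨v, hv, rfl⟩ l
    refine ⟨l⁻¹ * v * l, ?_, ?_⟩
    · have := hVn.conj_mem v hv l⁻¹
      simpa using this
    · show (l⁻¹ * v * l) ^ p = l⁻¹ * v ^ p * l
      have h1 : l⁻¹ * v * l = l⁻¹ * v * (l⁻¹)⁻¹ := by rw [inv_inv]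
      have h2 : l⁻¹ * v ^ p * l = l⁻¹ * v ^ p * (l⁻¹)⁻¹ := by rw [inv_inv]
      rw [h1, h2, conj_pow]
  haveI hCn : (Subgroup.centralizer T).Normal := by
    constructor
    intro c hc l
    rw [Subgroup.mem_centralizer_iff] at hc ⊢
    intro t ht
    have h1 := hc _ (hTconj t ht l)
    calc t * (l * c * l⁻¹) = l * ((l⁻¹ * t * l) * c) * l⁻¹ := by group
      _ = l * (c * (l⁻¹ * t * l)) * l⁻¹ := by rw [h1]
      _ = l * c * l⁻¹ * t := by group
  have hg₁C : g ^ (p ^ k) ∈ Subgroup.centralizer T := by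
    rw [Subgroup.mem_centralizer_iff]
    rintro _ ⟨v, hv, rfl⟩
    exact pow_comm_of_quadratic p hVab (g ^ (p ^ k)) hquad₁ (fun v hv => hVQ v hv _ hk2) v hv
  have hxT : x ^ p ∈ T := ⟨x, hxV, rfl⟩
  -- (g) the Frattini argument
  obtain ⟨PC, hPC⟩ := sylow_inf_subnormal p (Subgroup.centralizer T) hCn.isSubnormal P
  have hfr := Sylow.normalizer_sup_eq_top PC
  rw [hPC, Subgroup.subgroupOf_map_subtype] at hfr
  have hDnn : Subgroup.normalizer (((P : Subgroup L) ⊓ Subgroup.centralizer T : Subgroup L) : Set L)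
      ≠ ⊤ := by
    intro htop
    have hDn : ((P : Subgroup L) ⊓ Subgroup.centralizer T).Normal :=
      Subgroup.normalizer_eq_top_iff.mp htop
    have hDp : IsPGroup p ↥((P : Subgroup L) ⊓ Subgroup.centralizer T) :=
      P.isPGroup'.to_le inf_le_left
    exact hk1 (Cfsg.Agent.Helper4.le_pCore _ hDn hDp (Subgroup.mem_inf.mpr ⟨hg₁P, hg₁C⟩))
  have hPD : (P : Subgroup L) ≤
      Subgroup.normalizer (((P : Subgroup L) ⊓ Subgroup.centralizer T : Subgroup L) : Set L) := by
    intro t ht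
    rw [Subgroup.mem_normalizer_iff]
    intro h
    constructor
    · intro hh
      obtain ⟨h1, h2⟩ := Subgroup.mem_inf.mp hh
      exact Subgroup.mem_inf.mpr ⟨Subgroup.mul_mem _ (Subgroup.mul_mem _ ht h1)
        (Subgroup.inv_mem _ ht), hCn.conj_mem h h2 t⟩
    · intro hh
      obtain ⟨h1, h2⟩ := Subgroup.mem_inf.mp hh
      have h3 : h = t⁻¹ * (t * h * t⁻¹) * t := by group
      rw [h3]
      refine Subgroup.mem_inf.mpr ⟨Subgroup.mul_mem _ (Subgroup.mul_mem _
        (Subgroup.inv_mem _ ht) h1) ht, ?_⟩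
      have := hCn.conj_mem _ h2 t⁻¹
      simpa using this
  have hle : Subgroup.normalizer
      (((P : Subgroup L) ⊓ Subgroup.centralizer T : Subgroup L) : Set L) ⊔
      Subgroup.centralizer T ≤ Subgroup.centralizer ({x ^ p} : Set L) := by
    apply sup_le
    · intro h hh
      rw [Subgroup.mem_centralizer_iff]
      intro t ht
      rw [Set.mem_singleton_iff] at ht
      rw [ht]
      exact (hprop _ hPD hDnn h hh).symm
    · intro c hc
      rw [Subgroup.mem_centralizer_iff] at hc ⊢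
      intro t ht
      rw [Set.mem_singleton_iff] at ht
      rw [ht]
      exact hc _ hxT
  rw [hfr] at hle
  have h6 := hle (Subgroup.mem_top g₀)
  rw [Subgroup.mem_centralizer_iff] at h6
  exact hg₀ (h6 _ rfl).symm

end Cfsg.Agent.Helper6.Ctr
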