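import Mathlib
import Cfsg.Agent.Helper6.CtrG

/-!
# Control of weak closure of elements in fusion systems, part H

Functors satisfying the quadratic-element condition control the `p`-th powers of `Z(S)`.
-/

set_option autoImplicit false
set_option linter.style.haveILetI false
set_option maxHeartbeats 1000000

namespace Cfsg.Agent.Helper6.Ctr

open Cfsg Cfsg.FusionSystem Cfsg.Agent.Lead Cfsg.Agent.Helper1 Cfsg.Agent.Helper1.ThompsonRed
  Cfsg.Agent.Lead.GlTh Cfsg.Agent.Lead.KL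

universe u

variable {Ω : Type u} [Group Ω]

/-- The subgroup generated by the `p`-th powers of the elements of `Z(R)`. -/
def aS (p : ℕ) (R : Subgroup Ω) : Subgroup Ω :=
  Subgroup.closure ((fun z => z ^ p) '' ((R ⊓ Subgroup.centralizer (R : Set Ω) : Subgroup Ω) : Set Ω))

theorem zS_comm (R : Subgroup Ω) : ∀ a ∈ zS R, ∀ b ∈ zS R, a * b = b * a := by
  intro a ha b hb
  have h1 := Subgroup.mem_centralizer_iff.mp (Subgroup.mem_inf.mp ha).2 b (Subgroup.mem_inf.mp hb).1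
  exact h1.symm

/-- The `p`-th powers of the elements of a commutative subgroup form a subgroup. -/
def powSub (A : Subgroup Ω) (hA : ∀ a ∈ A, ∀ b ∈ A, a * b = b * a) (p : ℕ) : Subgroup Ω where
  carrier := (fun z => z ^ p) '' (A : Set Ω)
  one_mem' := ⟨1, A.one_mem, one_pow p⟩
  mul_mem' := by
    rintro _ _ ⟨a, ha, rfl⟩ ⟨b, hb, rfl⟩
    exact ⟨a * b, A.mul_mem ha hb, Commute.mul_pow (hA a ha b hb) p⟩
  inv_mem' := by
    rintro _ ⟨a, ha, rfl⟩
    exact ⟨a⁻¹, A.inv_mem ha, inv_pow a p⟩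

theorem exists_pow_eq_of_mem_aS (p : ℕ) (R : Subgroup Ω) {y : Ω} (hy : y ∈ aS p R) :
    ∃ x ∈ zS R, x ^ p = y := by
  have h1 : aS p R ≤ powSub (zS R) (zS_comm R) p := by
    unfold aS
    rw [Subgroup.closure_le]
    exact fun z hz => hz
  exact h1 hy

theorem aS_yCen (p : ℕ) : YCen (aS (Ω := Ω) p) := by
  intro R
  unfold aS
  rw [Subgroup.closure_le]
  rintro _ ⟨z, hz, rfl⟩
  exact Subgroup.pow_mem _ hz _

theorem aS_yMono (p : ℕ) : YMono (aS (Ω := Ω) p) := by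
  intro R R' hR'R hZ
  unfold aS
  apply Subgroup.closure_mono
  apply Set.image_mono
  exact zS_yMono R R' hR'R hZ

theorem quadHyp_of_statement {p : ℕ} [Fact p.Prime] (W : ∀ (Q : Type u) [Group Q], Subgroup Q)
    (hW2 : ∀ (Q R : Type u) [Group Q] [Group R] [Finite Q], IsPGroup p Q → ∀ φ : Q ≃* R,
      (W Q).map φ.toMonoidHom = W R)
    (hq : ∀ (G : Type u) [Group G] [Finite G] (P : Sylow p G),
      ¬ (((W ↥(P : Subgroup G)).map (P : Subgroup G).subtype : Subgroup G)).Normal →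
      ∃ g : G, g ∈ (P : Subgroup G) ∧ g ∉ Cfsg.pCore p G ∧
        ⁅⁅Subgroup.center ↥(Cfsg.pCore p G) |>.map (Cfsg.pCore p G).subtype,
          Subgroup.zpowers g⁆, Subgroup.zpowers g⁆ = ⊥) :
    QuadHyp p (mkFunctor p W hW2) := by
  intro G _ _ P hnn
  rw [mkFunctor_of p W hW2 (P : Subgroup G) P.isPGroup'] at hnn
  exact hq G P hnn

theorem leaf_of_quadHyp (p : ℕ) [Fact p.Prime] (W : CharFunctor.{u}) (hq : QuadHyp p W) :
    Leaf (Ω := Ω) p W (aS p) := by
  intro R _ hR L _ _ ι hinj hP hcent y hy hycore hcomm g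
  obtain ⟨P, hP⟩ := hP
  obtain ⟨x, hx, hxy⟩ := exists_pow_eq_of_mem_aS p R hy
  obtain ⟨hxR, hxC⟩ := Subgroup.mem_inf.mp hx
  have hιy : ι y = (ι ⟨x, hxR⟩) ^ p := by
    rw [← map_pow]
    congr 1
    apply Subtype.ext
    exact hxy.symm
  have hWeq : ((W.of R).subgroupOf R).map ι = W.of (P : Subgroup L) := by
    rw [map_subgroupOf_of W ι hinj, ← hP]
  rw [hWeq, hιy] at hcomm
  rw [hιy]
  apply glq p W hq _ L rfl P hcent (ι ⟨x, hxR⟩) _ _ hcomm g
  · rw [hP]; exact ⟨_, rfl⟩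
  · intro t ht
    rw [hP] at ht
    obtain ⟨r, rfl⟩ := ht
    rw [← map_mul, ← map_mul]
    congr 1
    apply Subtype.ext
    exact Subgroup.mem_centralizer_iff.mp hxC r r.2

/-- Statement-level form. -/
theorem controls_pth_powers {p : ℕ} [Fact p.Prime]
    (W : ∀ (Q : Type u) [Group Q], Subgroup Q)
    (hW2 : ∀ (Q R : Type u) [Group Q] [Group R] [Finite Q], IsPGroup p Q → ∀ φ : Q ≃* R,
      (W Q).map φ.toMonoidHom = W R)
    (hWZ : ∀ (Q : Type u) [Group Q] [Finite Q], IsPGroup p Q → Subgroup.center Q ≤ W Q)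
    (hq : ∀ (G : Type u) [Group G] [Finite G] (P : Sylow p G),
      ¬ (((W ↥(P : Subgroup G)).map (P : Subgroup G).subtype : Subgroup G)).Normal →
      ∃ g : G, g ∈ (P : Subgroup G) ∧ g ∉ Cfsg.pCore p G ∧
        ⁅⁅Subgroup.center ↥(Cfsg.pCore p G) |>.map (Cfsg.pCore p G).subtype,
          Subgroup.zpowers g⁆, Subgroup.zpowers g⁆ = ⊥)
    {S : Subgroup Ω} [Finite S] (hS : IsPGroup p S) (F : Cfsg.FusionSystem S)
    (hF : F.IsSaturated p)
    (N : Cfsg.FusionSystem (Cfsg.FusionSystem.normalizerIn S ((W ↥S).map S.subtype)))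
    (hN : F.IsNormalizerSystem ((W ↥S).map S.subtype) N) :
    Subgroup.closure ((fun z => z ^ p) ''
      ((S ⊓ Subgroup.centralizer (S : Set Ω) : Subgroup Ω) : Set Ω)) ⊓ N.center ≤ F.center := by
  have hX : (W ↥S).map S.subtype = (mkFunctor p W hW2).of S := (mkFunctor_of p W hW2 S hS).symm
  have hWZ' : ∀ (R : Type u) [Group R] [Finite R], IsPGroup p R →
      Subgroup.center R ≤ (mkFunctor p W hW2).W R := by
    intro R _ _ hR
    rw [mkFunctor_W p W hW2 R hR]
    exact hWZ R hR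
  exact main p hS (mkFunctor p W hW2) hWZ' (aS p) (aS_yCen p) (aS_yMono p)
    (leaf_of_quadHyp p _ (quadHyp_of_statement W hW2 hq)) F hF _ hX N hN

end Cfsg.Agent.Helper6.Ctr
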