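import Mathlib
import Cfsg.Agent.Helper6.CtrH
import Cfsg.Agent.Lead.LocModN

/-!
# Control of weak closure of elements in fusion systems, part I

A version of the main induction carrying a property of systems inherited by normalizer systems
(such as section-freeness), with the group-theoretic hypothesis only required for local models.
-/

set_option autoImplicit false
set_option linter.style.haveILetI false
set_option maxHeartbeats 1000000

namespace Cfsg.Agent.Helper6.Ctr

open Cfsg Cfsg.FusionSystem Cfsg.Agent.Lead Cfsg.Agent.Helper1 Cfsg.Agent.Helper1.ThompsonRed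
  Cfsg.Agent.Lead.GlTh Cfsg.Agent.Lead.KL

universe u

variable {Ω : Type u} [Group Ω]

/-- Maps defined on `Q C_S(Q)`, `Q` normal in the system, have image in `Q C_S(Q)`. -/
theorem map_sup_centralizerIn_le {S : Subgroup Ω} [Finite S] (F : FusionSystem S)
    {Q : Subgroup Ω} (hQ : F.IsNormal Q) (φ : ↥(Q ⊔ centralizerIn S Q) →* Ω)
    (hφ : φ ∈ F.Hom (Q ⊔ centralizerIn S Q)) : φ.range ≤ Q ⊔ centralizerIn S Q := by
  have hQT : Q ≤ Q ⊔ centralizerIn S Q := le_sup_left
  have hCT : centralizerIn S Q ≤ Q ⊔ centralizerIn S Q := le_sup_right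
  have hαF : φ.comp (Subgroup.inclusion hQT) ∈ F.Hom Q := Fusion.restrict_mem F hφ hQT
  have hαr := range_eq_of_isNormal F hQ hαF
  have h1 : φ.range = ((Q ⊔ centralizerIn S Q).subgroupOf (Q ⊔ centralizerIn S Q)).map φ := by
    rw [Subgroup.subgroupOf_self, ← MonoidHom.range_eq_map]
  rw [h1, Subgroup.subgroupOf_sup hQT hCT, Subgroup.map_sup]
  apply sup_le
  · refine le_trans ?_ hQT
    rintro _ ⟨t, ht, rfl⟩
    rw [SetLike.mem_coe, Subgroup.mem_subgroupOf] at ht
    exact hαr.le ⟨⟨t, ht⟩, rfl⟩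
  · refine le_trans ?_ hCT
    rintro _ ⟨d, hd, rfl⟩
    rw [SetLike.mem_coe, Subgroup.mem_subgroupOf] at hd
    obtain ⟨-, hdC⟩ := Subgroup.mem_inf.mp hd
    refine Subgroup.mem_inf.mpr ⟨Fusion.map_mem F hφ d, ?_⟩
    rw [Subgroup.mem_centralizer_iff] at hdC ⊢
    intro q hq
    obtain ⟨q₀, rfl⟩ := hαr.ge hq
    show φ (Subgroup.inclusion hQT q₀) * φ d = φ d * φ (Subgroup.inclusion hQT q₀)
    rw [← map_mul, ← map_mul]
    congr 1
    apply Subtype.ext
    exact hdC _ q₀.2

/-- `Q C_S(Q)` is centric when `Q` is normal in the system. -/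
theorem isCentric_sup_centralizerIn {S : Subgroup Ω} [Finite S] (F : FusionSystem S)
    {Q : Subgroup Ω} (hQ : F.IsNormal Q) : F.IsCentric (Q ⊔ centralizerIn S Q) := by
  have hTS : Q ⊔ centralizerIn S Q ≤ S := sup_le hQ.1 inf_le_left
  haveI : Finite ↥(Q ⊔ centralizerIn S Q) := Fusion.finite_of_le hTS
  refine ⟨hTS, ?_⟩
  rintro T' ⟨φ, hφ, hr⟩
  have h1 := map_sup_centralizerIn_le F hQ φ hφ
  have h2 : T' = Q ⊔ centralizerIn S Q := by
    rw [← hr]
    apply Subgroup.eq_of_le_of_card_ge h1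
    rw [Nat.card_congr (MonoidHom.ofInjective (F.injective_of_mem hφ)).toEquiv]
  rw [h2]
  refine le_trans ?_ (le_sup_right : centralizerIn S Q ≤ _)
  intro x hx
  obtain ⟨hxS, hxC⟩ := Subgroup.mem_inf.mp hx
  exact Subgroup.mem_inf.mpr ⟨hxS, Subgroup.centralizer_le
    (le_sup_left : Q ≤ Q ⊔ centralizerIn S Q) hxC⟩

/-- In a system with a model, a subgroup of a normal subgroup fixed by the automorphisms of
`W(R)` is central (local form of the group-theoretic hypothesis). -/
theorem isCentral_of_model' {R : Subgroup Ω} [Finite R] (p : ℕ) [Fact p.Prime]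
    (hR : IsPGroup p R) (W : CharFunctor.{u}) (YS : Subgroup Ω → Subgroup Ω)
    (NT : FusionSystem R) (hNTsat : NT.IsSaturated p) {T : Subgroup Ω}
    (hT : NT.IsNormal T) (L : Type u) [Group L] (ι : R →* L) (hL : NT.IsModel p L ι)
    (hleaf : ∀ y : R, (y : Ω) ∈ YS R → ι y ∈ pCore p L →
      (∀ g ∈ Subgroup.normalizer ((((W.of R).subgroupOf R).map ι : Subgroup L) : Set L),
        g * ι y = ι y * g) → ∀ g : L, g * ι y = ι y * g)
    {Y : Subgroup Ω} (hYT : Y ≤ T) (hYYS : Y ≤ YS R) (hYX : Y ≤ W.of R)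
    (hfix : AutFix NT Y (W.of R)) : NT.IsCentral Y := by
  have hTn := Fusion.map_normal_of_isNormal_of_isModel p NT ι hL hT
  obtain ⟨hfin, hreal, ⟨P, hP⟩, hcent⟩ := hL
  haveI := hfin
  have hTR : T ≤ R := hT.1
  have hYR : Y ≤ R := hYT.trans hTR
  have hTp : IsPGroup p ((T.subgroupOf R).map ι) := (hR.to_subgroup _).map ι
  have hTcore : (T.subgroupOf R).map ι ≤ pCore p L := le_sSup ⟨hTn, hTp⟩
  have hXR := W.of_le R
  have key : ∀ (y : Ω) (hy : y ∈ Y) (g : L), g * ι ⟨y, hYR hy⟩ = ι ⟨y, hYR hy⟩ * g := by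
    intro y hy
    apply hleaf ⟨y, hYR hy⟩ (hYYS hy)
    · apply hTcore
      refine ⟨⟨y, hYR hy⟩, ?_, rfl⟩
      rw [SetLike.mem_coe, Subgroup.mem_subgroupOf]
      exact hYT hy
    · intro g hg
      have hgX : ∀ x : (W.of R), ∃ y' : (W.of R),
          g * ι ⟨x, hXR x.2⟩ * g⁻¹ = ι ⟨y', hXR y'.2⟩ := by
        intro x
        have h1 : ι ⟨x, hXR x.2⟩ ∈ ((W.of R).subgroupOf R).map ι := by
          refine ⟨⟨x, hXR x.2⟩, ?_, rfl⟩
          rw [SetLike.mem_coe, Subgroup.mem_subgroupOf]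
          exact x.2
        have h2 := (Subgroup.mem_normalizer_iff.mp hg _).mp h1
        obtain ⟨r, hr, hr'⟩ := h2
        rw [SetLike.mem_coe, Subgroup.mem_subgroupOf] at hr
        exact ⟨⟨r.1, hr⟩, hr'.symm⟩
      obtain ⟨α, hα, hαg⟩ := exists_aut_of_conj NT ι hreal hXR g hgX
      have hφ := (Fusion.mem_autGroup_iff NT hXR α).mp hα
      have h3 := hfix _ hφ (map_aut_top α) ⟨y, hYX hy⟩ hy
      have h4 := hαg ⟨y, hYX hy⟩
      have h5 : ι ⟨y, hYR hy⟩ = g * ι ⟨y, hYR hy⟩ * g⁻¹ := by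
        rw [← h4]
        congr 1
        apply Subtype.ext
        exact h3.symm
      calc g * ι ⟨y, hYR hy⟩ = (g * ι ⟨y, hYR hy⟩ * g⁻¹) * g := by group
        _ = ι ⟨y, hYR hy⟩ * g := by rw [← h5]
  rw [Fusion.isCentral_iff p hR NT hNTsat]
  refine ⟨hYR, ?_⟩
  rintro x hx y ⟨φ, hφ, rfl⟩
  have hPR : Subgroup.zpowers x ≤ R := Fusion.src_le NT hφ
  have hφR : ∀ z, φ z ∈ R := Fusion.map_mem NT hφ
  obtain ⟨g, hg⟩ := (hreal.2 _ hPR φ hφR).mp hφ
  have h1 := hg ⟨x, Subgroup.mem_zpowers x⟩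
  have h2 := key x hx g
  have h3 : ι ⟨φ ⟨x, Subgroup.mem_zpowers x⟩, hφR _⟩ = ι ⟨x, hYR hx⟩ := by
    rw [h1]
    have h4 : (⟨((⟨x, Subgroup.mem_zpowers x⟩ : Subgroup.zpowers x) : Ω),
        hPR (Subgroup.mem_zpowers x)⟩ : R) = ⟨x, hYR hx⟩ := rfl
    rw [h4, h2]
    group
  exact congrArg Subtype.val (hreal.1 h3)

theorem main_aux' (p : ℕ) [Fact p.Prime] (W : CharFunctor.{u})
    (hWZ : ∀ (R : Type u) [Group R] [Finite R], IsPGroup p R → Subgroup.center R ≤ W.W R)
    (YS : Subgroup Ω → Subgroup Ω) (hYc : YCen YS) (hYm : YMono YS)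
    (Φ : ∀ T : Subgroup Ω, FusionSystem T → Prop)
    (hΦN : ∀ (S : Subgroup Ω) [Finite S], IsPGroup p S → ∀ F : FusionSystem S,
      F.IsSaturated p → Φ S F → ∀ U : Subgroup Ω, F.IsFullyNormalized U →
        ∀ N : FusionSystem (normalizerIn S U), F.IsNormalizerSystem U N → Φ _ N)
    (hleaf : ∀ (S : Subgroup Ω) [Finite S], IsPGroup p S → ∀ F : FusionSystem S,
      F.IsSaturated p → Φ S F → ∀ T : Subgroup Ω, F.IsFullyNormalized T → F.IsCentric T →
        ∀ NT : FusionSystem (normalizerIn S T), F.IsNormalizerSystem T NT →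
        ∀ (L : Type u) [Group L] (ι : ↥(normalizerIn S T) →* L), NT.IsModel p L ι →
        ∀ y : ↥(normalizerIn S T), (y : Ω) ∈ YS (normalizerIn S T) → ι y ∈ pCore p L →
          (∀ g ∈ Subgroup.normalizer ((((W.of (normalizerIn S T)).subgroupOf
            (normalizerIn S T)).map ι : Subgroup L) : Set L), g * ι y = ι y * g) →
          ∀ g : L, g * ι y = ι y * g) :
    ∀ (n m : ℕ) (S : Subgroup Ω) [Finite S], Nat.card S = n → IsPGroup p S →
      ∀ F : FusionSystem S, size F = m → F.IsSaturated p → Φ S F → ∀ Y : Subgroup Ω, Y ≤ YS S →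
        ∀ N : FusionSystem (normalizerIn S (W.of S)), F.IsNormalizerSystem (W.of S) N →
          N.IsCentral Y → F.IsCentral Y := by
  intro n
  induction n using Nat.strong_induction_on with
  | _ n ih₁ =>
  intro m
  induction m using Nat.strong_induction_on with
  | _ m ih₂ =>
  intro S _ hn hS F hm hF hΦ Y hY N hN hYN
  have IH₁ : ∀ (S' : Subgroup Ω) [Finite S'],
      Nat.card S' < Nat.card S → IsPGroup p S' → ∀ F' : FusionSystem S', F'.IsSaturated p →
        Φ S' F' → ∀ Y : Subgroup Ω, Y ≤ YS S' →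
        ∀ N : FusionSystem (normalizerIn S' (W.of S')), F'.IsNormalizerSystem (W.of S') N →
          N.IsCentral Y → F'.IsCentral Y :=
    fun S' _ hlt hS' F' hF' =>
      ih₁ (Nat.card S') (hn ▸ hlt) (size F') S' rfl hS' F' rfl hF'
  have IH₂ : ∀ F₂ : FusionSystem S, size F₂ < size F → F₂.IsSaturated p → Φ S F₂ →
      ∀ Y : Subgroup Ω, Y ≤ YS S →
        ∀ N : FusionSystem (normalizerIn S (W.of S)), F₂.IsNormalizerSystem (W.of S) N →
          N.IsCentral Y → F₂.IsCentral Y :=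
    fun F₂ hlt hF₂ => ih₂ (size F₂) (hm ▸ hlt) S hn hS F₂ rfl hF₂
  have IHsub : ∀ (T : Subgroup Ω), T ≤ S → ∀ E : FusionSystem T, (∀ P, E.Hom P ⊆ F.Hom P) →
      (∃ (P : Subgroup Ω) (φ : P →* Ω), φ ∈ F.Hom P ∧ φ ∉ E.Hom P) → E.IsSaturated p →
      Φ T E → ∀ Y : Subgroup Ω, Y ≤ YS T →
        ∀ N : FusionSystem (normalizerIn T (W.of T)), E.IsNormalizerSystem (W.of T) N →
          N.IsCentral Y → E.IsCentral Y := by
    intro T hTS E hle hne' hE
    by_cases hT : T = S
    · subst hT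
      exact IH₂ E (size_lt F E hle hne') hE
    · haveI : Finite T := Fusion.finite_of_le hTS
      exact IH₁ T (card_lt_of_lt (lt_of_le_of_ne hTS hT)) (hS.to_le hTS) E hE
  have hYZS : Y ≤ S ⊓ Subgroup.centralizer (S : Set Ω) := hY.trans (hYc S)
  have hYS : Y ≤ S := hYZS.trans inf_le_left
  have hYZ : S ≤ Subgroup.centralizer (Y : Set Ω) :=
    Subgroup.le_centralizer_iff.mp (hYZS.trans inf_le_right)
  have hQ : F.IsNormal F.core := Fusion.core_isNormal F
  have hcore_max : ∀ X : Subgroup Ω, F.IsNormal X → X ≤ F.core := fun X hX => le_sSup hX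
  by_cases hYQ : Y ≤ F.core
  · -- `Y ≤ O_p(F)`: use the model of `N_F(Q C_S(Q))`
    have hQS := hQ.1
    have hSQ := Model.le_normalizer_of_isNormal F hQ
    have hRS : F.core ⊔ centralizerIn S F.core ≤ S := sup_le hQS inf_le_left
    have hSR := le_normalizer_sup_centralizerIn hQS hSQ
    have hNReq : normalizerIn S (F.core ⊔ centralizerIn S F.core) = S :=
      le_antisymm inf_le_left (le_inf le_rfl hSR)
    have hRfn : F.IsFullyNormalized (F.core ⊔ centralizerIn S F.core) := by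
      refine ⟨hRS, fun R' _ => ?_⟩
      rw [hNReq]
      exact Subgroup.card_le_of_le inf_le_left
    have hRcen := isCentric_sup_centralizerIn F hQ
    obtain ⟨NT, hNT⟩ := Cfsg.Agent.S5096.result F _ hRS
    have hNTsat := Fusion.normalizerSystem_isSaturated p hS F hF _ hRfn NT hNT
    have hNTsub : ∀ P, NT.Hom P ⊆ F.Hom P := fun P φ h => by rw [hNT P] at h; exact h.1
    have hTnorm := Fusion.normalizerSystem_isNormal F hRS NT hNT
    haveI : Finite ↥(normalizerIn S (F.core ⊔ centralizerIn S F.core)) :=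
      Fusion.finite_of_le inf_le_left
    have hNp : IsPGroup p ↥(normalizerIn S (F.core ⊔ centralizerIn S F.core)) :=
      hS.to_le inf_le_left
    obtain ⟨L, _, ι, hL⟩ := LocMod.exists_normalizer_model p hS F hF _ hRfn hRcen NT hNT
    have hYYS : Y ≤ YS (normalizerIn S (F.core ⊔ centralizerIn S F.core)) := by
      rw [hNReq]; exact hY
    have hYX : Y ≤ W.of (normalizerIn S (F.core ⊔ centralizerIn S F.core)) := by
      rw [hNReq]
      exact hYZS.trans (center_le_of p W hWZ S hS)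
    have hfix : AutFix NT Y (W.of (normalizerIn S (F.core ⊔ centralizerIn S F.core))) := by
      apply autFix_of_subsystem F NT hNTsub
      rw [hNReq]
      exact autFix_of_isCentral F (W.of_le S) N hN hYN
    have hcenNT := isCentral_of_model' p hNp W YS NT hNTsat hTnorm L ι hL
      (hleaf S hS F hF hΦ _ hRfn hRcen NT hNT L ι hL) (hYQ.trans le_sup_left) hYYS hYX hfix
    exact isCentral_of_isCentral_normalizer p hS F hF hQ NT hNT hYQ hcenNT
  · -- `Y` not in `O_p(F)`: local-to-global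
    apply isCentral_of_localCentral p hS W hWZ F hF hYS hYZ N hN hYN
    intro U hYU hUfn N' hN' N'' hN'' hcen''
    have hUS := hUfn.1
    have hN'sat := Fusion.normalizerSystem_isSaturated p hS F hF U hUfn N' hN'
    have hUnn : ¬ F.IsNormal U := fun h => hYQ (hYU.trans (hcore_max U h))
    obtain ⟨P, φ, hφ, hφN⟩ := exists_not_mem_normalizerHom F hUS hUnn
    have hY' : Y ≤ YS (normalizerIn S U) :=
      hY.trans (hYm S (normalizerIn S U) inf_le_left (center_le_normalizerIn S U hUS))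
    exact IHsub (normalizerIn S U) inf_le_left N' (fun P φ h => by rw [hN' P] at h; exact h.1)
      ⟨P, φ, hφ, by rw [hN' P]; exact hφN⟩ hN'sat (hΦN S hS F hF hΦ U hUfn N' hN') Y hY' N''
      hN'' hcen''

/-- Control of weak closure of elements, abstract form with an inherited property. -/
theorem main' {S : Subgroup Ω} [Finite S] (p : ℕ) [Fact p.Prime] (hS : IsPGroup p S)
    (W : CharFunctor.{u})
    (hWZ : ∀ (R : Type u) [Group R] [Finite R], IsPGroup p R → Subgroup.center R ≤ W.W R)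
    (YS : Subgroup Ω → Subgroup Ω) (hYc : YCen YS) (hYm : YMono YS)
    (Φ : ∀ T : Subgroup Ω, FusionSystem T → Prop)
    (hΦN : ∀ (S : Subgroup Ω) [Finite S], IsPGroup p S → ∀ F : FusionSystem S,
      F.IsSaturated p → Φ S F → ∀ U : Subgroup Ω, F.IsFullyNormalized U →
        ∀ N : FusionSystem (normalizerIn S U), F.IsNormalizerSystem U N → Φ _ N)
    (hleaf : ∀ (S : Subgroup Ω) [Finite S], IsPGroup p S → ∀ F : FusionSystem S,
      F.IsSaturated p → Φ S F → ∀ T : Subgroup Ω, F.IsFullyNormalized T → F.IsCentric T →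
        ∀ NT : FusionSystem (normalizerIn S T), F.IsNormalizerSystem T NT →
        ∀ (L : Type u) [Group L] (ι : ↥(normalizerIn S T) →* L), NT.IsModel p L ι →
        ∀ y : ↥(normalizerIn S T), (y : Ω) ∈ YS (normalizerIn S T) → ι y ∈ pCore p L →
          (∀ g ∈ Subgroup.normalizer ((((W.of (normalizerIn S T)).subgroupOf
            (normalizerIn S T)).map ι : Subgroup L) : Set L), g * ι y = ι y * g) →
          ∀ g : L, g * ι y = ι y * g)
    (F : FusionSystem S) (hF : F.IsSaturated p) (hΦ : Φ S F) (X : Subgroup Ω) (hX : X = W.of S)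
    (N : FusionSystem (normalizerIn S X)) (hN : F.IsNormalizerSystem X N) :
    YS S ⊓ N.center ≤ F.center := by
  subst hX
  haveI : Finite ↥(normalizerIn S (W.of S)) := Fusion.finite_of_le inf_le_left
  have h1 : N.IsCentral (YS S ⊓ N.center) :=
    isCentral_mono N (Fusion.center_isCentral N) inf_le_right
  have h2 := main_aux' p W hWZ YS hYc hYm Φ hΦN hleaf _ _ S rfl hS F rfl hF hΦ _ inf_le_left N hN h1
  exact le_sSup h2

end Cfsg.Agent.Helper6.Ctr
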