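import Mathlib
import Cfsg.Agent.Helper6.CtrI
import Cfsg.Agent.Helper1.TNa
import Cfsg.Agent.S2799

/-!
# Control of weak closure of elements in fusion systems, part J

Glauberman's theorem for fusion systems: the Thompson subgroup `J(S)` (abelian version) controls
the `p`-th powers of `Z(S)`, and the whole centre when `p` is odd or the system is `S₄`-free.
-/

set_option autoImplicit false
set_option linter.style.haveILetI false
set_option maxHeartbeats 1000000

namespace Cfsg.Agent.Helper6.Ctr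

open Cfsg Cfsg.FusionSystem Cfsg.Agent.Lead Cfsg.Agent.Helper1 Cfsg.Agent.Helper1.ThompsonRed
  Cfsg.Agent.Lead.GlTh Cfsg.Agent.Lead.KL

universe u

variable {Ω : Type u} [Group Ω]

/-- The centre of a finite group lies in the Thompson subgroup (abelian version). -/
theorem center_le_thompsonSubgroupA (R : Type*) [Group R] [Finite R] :
    Subgroup.center R ≤ Cfsg.thompsonSubgroupA R := by
  obtain ⟨A, hA⟩ := Cfsg.Agent.Lead.ZJ.maxAb_nonempty R
  have hAc : ∀ x ∈ A, ∀ y ∈ A, x * y = y * x := fun x hx y hy =>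
    congrArg Subtype.val (hA.1.is_comm.comm ⟨x, hx⟩ ⟨y, hy⟩)
  have hZc : ∀ x ∈ Subgroup.center R, ∀ y ∈ Subgroup.center R, x * y = y * x :=
    fun x hx y _ => (Subgroup.mem_center_iff.mp hx y).symm
  have hAZ : ∀ x ∈ A, ∀ y ∈ Subgroup.center R, x * y = y * x :=
    fun x _ y hy => Subgroup.mem_center_iff.mp hy x
  have hab := TN.comm_sup hAc hZc hAZ
  have hcomm : IsMulCommutative ↥(A ⊔ Subgroup.center R) :=
    ⟨⟨fun x y => Subtype.ext (hab x.1 x.2 y.1 y.2)⟩⟩
  have h1 := hA.2 (A ⊔ Subgroup.center R) hcomm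
  have h2 : A = A ⊔ Subgroup.center R := Subgroup.eq_of_le_of_card_ge le_sup_left h1
  have h3 : Subgroup.center R ≤ A := by
    rw [h2]; exact le_sup_right
  exact h3.trans (le_sSup hA)

/-- The local statement for `J`: Glauberman's weak closure theorem in a model. -/
theorem glauberman_leaf (p : ℕ) [Fact p.Prime] {R : Subgroup Ω}
    (L : Type u) [Group L] [Finite L] (ι : R →* L) (hinj : Function.Injective ι)
    (hP : ∃ P : Sylow p L, (P : Subgroup L) = ι.range)
    (y : R) (hycore : ι y ∈ pCore p L)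
    (hcomm : ∀ g ∈ Subgroup.normalizer ((((TN.jaFunctor.of R).subgroupOf R).map ι :
      Subgroup L) : Set L), g * ι y = ι y * g)
    (h : p ≠ 2 ∨ (∃ z : R, (z : Ω) ∈ zS R ∧ z ^ p = y) ∨
      ¬ Cfsg.Involves (Equiv.Perm (Fin 4)) L) :
    ∀ g : L, g * ι y = ι y * g := by
  obtain ⟨P, hP⟩ := hP
  have hWeq : ((TN.jaFunctor.of R).subgroupOf R).map ι =
      Cfsg.thompsonSubgroupAOf (P : Subgroup L) := by
    rw [map_subgroupOf_of TN.jaFunctor ι hinj, ← hP]
    rfl
  rw [hWeq] at hcomm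
  have hyP : ι y ∈ (P : Subgroup L) := by rw [hP]; exact ⟨y, rfl⟩
  have hyN : ι y ∈ Subgroup.normalizer
      ((Cfsg.thompsonSubgroupAOf (P : Subgroup L) : Subgroup L) : Set L) :=
    le_normalizer_of TN.jaFunctor (P : Subgroup L) hyP
  have hxZ : ι y ∈ (Subgroup.center ↥(Subgroup.normalizer
      ((Cfsg.thompsonSubgroupAOf (P : Subgroup L)) : Set L))).map
      (Subgroup.normalizer ((Cfsg.thompsonSubgroupAOf (P : Subgroup L)) : Set L)).subtype := by
    refine ⟨⟨ι y, hyN⟩, ?_, rfl⟩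
    rw [SetLike.mem_coe, Subgroup.mem_center_iff]
    intro g'
    apply Subtype.ext
    exact hcomm g'.1 g'.2
  have h' : p ≠ 2 ∨ (∃ z ∈ (P : Subgroup L) ⊓ Subgroup.centralizer ((P : Subgroup L) : Set L),
      z ^ p = ι y) ∨ ¬ Cfsg.Involves (Equiv.Perm (Fin 4)) L := by
    rcases h with h | ⟨z, hz, hzy⟩ | h
    · exact Or.inl h
    · refine Or.inr (Or.inl ⟨ι z, ?_, ?_⟩)
      · refine Subgroup.mem_inf.mpr ⟨by rw [hP]; exact ⟨z, rfl⟩, ?_⟩
        rw [Subgroup.mem_centralizer_iff]
        intro t ht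
        rw [SetLike.mem_coe, hP] at ht
        obtain ⟨r, rfl⟩ := ht
        rw [← map_mul, ← map_mul]
        congr 1
        apply Subtype.ext
        exact Subgroup.mem_centralizer_iff.mp (Subgroup.mem_inf.mp hz).2 r r.2
      · rw [← map_pow, hzy]
    · exact Or.inr (Or.inr h)
  have key := Cfsg.Agent.S2799.result P (ι y) hyP hxZ h'
  haveI hQn : (pCore p L).Normal := Cfsg.Agent.Helper4.pCore_normal
  have hQP : pCore p L ≤ P := Cfsg.Agent.Helper4.pCore_le_sylow P
  intro g
  have h1 : g * ι y * g⁻¹ ∈ (P : Subgroup L) := hQP (hQn.conj_mem _ hycore g)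
  have h2 := key g h1
  calc g * ι y = (g * ι y * g⁻¹) * g := by group
    _ = ι y * g := by rw [h2]

/-- `J(S)` controls the `p`-th powers of the elements of `Z(S)`. -/
theorem thompsonA_controls_pth_powers {S : Subgroup Ω} [Finite S] (p : ℕ) [Fact p.Prime]
    (hS : IsPGroup p S) (F : Cfsg.FusionSystem S) (hF : F.IsSaturated p)
    (N : Cfsg.FusionSystem (Cfsg.FusionSystem.normalizerIn S (Cfsg.thompsonSubgroupAOf S)))
    (hN : F.IsNormalizerSystem (Cfsg.thompsonSubgroupAOf S) N) :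
    Subgroup.closure ((fun z : Ω => z ^ p) ''
      ((S ⊓ Subgroup.centralizer (S : Set Ω) : Subgroup Ω) : Set Ω)) ⊓ N.center ≤ F.center := by
  have hWZ : ∀ (R : Type u) [Group R] [Finite R], IsPGroup p R →
      Subgroup.center R ≤ TN.jaFunctor.W R := fun R _ _ _ => center_le_thompsonSubgroupA R
  refine main' p hS TN.jaFunctor hWZ (aS p) (aS_yCen p) (aS_yMono p) (fun _ _ => True)
    (fun _ _ _ _ _ _ _ _ _ _ => trivial) ?_ F hF trivial _ rfl N hN
  intro S' _ hS' F' hF' _ T hTfn hTcen NT hNT L _ ι hL y hy hycore hcomm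
  obtain ⟨hfin, hreal, hP, hcent⟩ := hL
  haveI := hfin
  obtain ⟨x, hx, hxy⟩ := exists_pow_eq_of_mem_aS p _ hy
  refine glauberman_leaf p L ι hreal.1 hP y hycore hcomm
    (Or.inr (Or.inl ⟨⟨x, (Subgroup.mem_inf.mp hx).1⟩, hx, ?_⟩))
  apply Subtype.ext
  exact hxy

/-- `J(S)` controls the centre when `p` is odd or the system is `S₄`-free. -/
theorem thompsonA_controls_center {S : Subgroup Ω} [Finite S] (p : ℕ) [Fact p.Prime]
    (hS : IsPGroup p S) (F : Cfsg.FusionSystem S) (hF : F.IsSaturated p)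
    (N : Cfsg.FusionSystem (Cfsg.FusionSystem.normalizerIn S (Cfsg.thompsonSubgroupAOf S)))
    (hN : F.IsNormalizerSystem (Cfsg.thompsonSubgroupAOf S) N)
    (hfree : p ≠ 2 ∨ F.IsSectionFree p (Equiv.Perm (Fin 4))) :
    N.center = F.center := by
  have hWZ : ∀ (R : Type u) [Group R] [Finite R], IsPGroup p R →
      Subgroup.center R ≤ TN.jaFunctor.W R := fun R _ _ _ => center_le_thompsonSubgroupA R
  have hmain : zS S ⊓ N.center ≤ F.center := by
    refine main' p hS TN.jaFunctor hWZ zS zS_yCen zS_yMono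
      (fun T E => p ≠ 2 ∨ E.IsSectionFree p (Equiv.Perm (Fin 4))) ?_ ?_ F hF hfree _ rfl N hN
    · intro S' _ hS' F' hF' hΦ U hU N' hN'
      rcases hΦ with h | h
      · exact Or.inl h
      · exact Or.inr (LocMod.normalizer_sectionFree p hS' F' hF' h U hU N' hN')
    · intro S' _ hS' F' hF' hΦ T hTfn hTcen NT hNT L _ ι hL y hy hycore hcomm
      have hL' := hL
      obtain ⟨hfin, hreal, hP, hcent⟩ := hL
      haveI := hfin
      apply glauberman_leaf p L ι hreal.1 hP y hycore hcomm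
      rcases hΦ with h | h
      · exact Or.inl h
      · exact Or.inr (Or.inr (h T hTfn hTcen NT hNT L ι hL'))
  apply le_antisymm
  · have h1 := center_le_zS p hS F hF (Cfsg.thompsonSubgroupAOf S) (TN.jaFunctor.of_le S)
      (le_normalizer_of TN.jaFunctor S) N hN
    exact (le_inf h1 le_rfl).trans hmain
  · exact center_le_center p hS TN.jaFunctor F hF _ rfl N hN

end Cfsg.Agent.Helper6.Ctr
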