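import Mathlib

/-!
# A trace argument

For a finite group `A` acting on a finite abelian `p`-group `M`, and a subgroup `R` of `A` of index
prime to `p`: the fixed points of `A` form a direct factor of any subgroup fixed by `R` that contains
them.
-/

set_option autoImplicit false
set_option linter.style.haveILetI false
set_option maxHeartbeats 1000000

namespace Cfsg.Agent.Helper6.Ctr

/-- The restriction of an automorphism to the centre. -/
def cenRestrict {G : Type*} [Group G] (α : MulAut G) : Subgroup.center G →* Subgroup.center G :=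
  (α.toMonoidHom.comp (Subgroup.center G).subtype).codRestrict (Subgroup.center G) (by
    intro z
    rw [Subgroup.mem_center_iff]
    intro g
    have h := Subgroup.mem_center_iff.mp z.2 (α.symm g)
    have h2 := congrArg α h
    rw [map_mul, map_mul, MulEquiv.apply_symm_apply] at h2
    exact h2)

theorem cenRestrict_apply {G : Type*} [Group G] (α : MulAut G) (z : Subgroup.center G) :
    ((cenRestrict α z : Subgroup.center G) : G) = α z := rfl

theorem cenRestrict_mul {G : Type*} [Group G] (α β : MulAut G) (z : Subgroup.center G) :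
    cenRestrict (α * β) z = cenRestrict α (cenRestrict β z) := by
  apply Subtype.ext
  rfl

theorem exists_compl_of_trace {A M : Type*} [Group A] [Finite A] [CommGroup M] [Finite M]
    (p : ℕ) [Fact p.Prime] (hM : IsPGroup p M)
    (act : A → M →* M) (hmul : ∀ a b x, act (a * b) x = act a (act b x))
    (R : Subgroup A) (hidx : R.index.Coprime p)
    (B Z : Subgroup M) (hBZ : B ≤ Z)
    (hB : ∀ z, z ∈ B ↔ ∀ a, act a z = z)
    (hZR : ∀ r ∈ R, ∀ z ∈ Z, act r z = z) :
    ∃ K : Subgroup M, K ≤ Z ∧ B ⊓ K = ⊥ ∧ B ⊔ K = Z := by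
  classical
  haveI : Fintype (A ⧸ R) := Fintype.ofFinite _
  let τ : M →* M := ∏ q : A ⧸ R, act (Quotient.out q)
  have hτ : ∀ z, τ z = ∏ q : A ⧸ R, act (Quotient.out q) z :=
    fun z => MonoidHom.finsetProd_apply _ _ _
  -- `τ z` is fixed by `A` for `z ∈ Z`
  have hfix : ∀ z ∈ Z, τ z ∈ B := by
    intro z hz
    rw [hB]
    intro a
    rw [hτ, map_prod]
    have h1 : ∀ q : A ⧸ R, act a (act (Quotient.out q) z) = act (Quotient.out (a • q)) z := by
      intro q
      have h2 : (QuotientGroup.mk (a * Quotient.out q) : A ⧸ R) = a • q := by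
        conv_rhs => rw [← QuotientGroup.out_eq' q]
        rfl
      have h3 : (QuotientGroup.mk (Quotient.out (a • q)) : A ⧸ R) = a • q :=
        QuotientGroup.out_eq' _
      have h4 := QuotientGroup.eq.mp (h3.trans h2.symm)
      -- `(out (a • q))⁻¹ * (a * out q) ∈ R`
      have h5 : a * Quotient.out q =
          Quotient.out (a • q) * ((Quotient.out (a • q))⁻¹ * (a * Quotient.out q)) := by group
      rw [← hmul, h5, hmul, hZR _ h4 z hz]
    rw [Finset.prod_congr rfl (fun q _ => h1 q)]
    exact Equiv.prod_comp (MulAction.toPerm a : Equiv.Perm (A ⧸ R))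
      (fun q => act (Quotient.out q) z)
  -- on `B`, `τ` is the power map
  have hpow : ∀ b ∈ B, τ b = b ^ R.index := by
    intro b hb
    have h1 : ∀ q ∈ (Finset.univ : Finset (A ⧸ R)), act (Quotient.out q) b = b :=
      fun q _ => (hB b).mp hb (Quotient.out q)
    rw [hτ, Finset.prod_congr rfl h1, Finset.prod_const,
      Finset.card_univ, Subgroup.index, Nat.card_eq_fintype_card]
  refine ⟨Z ⊓ τ.ker, inf_le_left, ?_, ?_⟩
  · rw [eq_bot_iff]
    intro b hb
    obtain ⟨hbB, -, hbK⟩ := hb
    rw [Subgroup.mem_bot]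
    have h1 : b ^ R.index = 1 := by
      rw [← hpow b hbB]
      exact hbK
    obtain ⟨k, hk⟩ := hM b
    have h2 : orderOf b ∣ R.index := orderOf_dvd_of_pow_eq_one h1
    have h3 : orderOf b ∣ p ^ k := orderOf_dvd_of_pow_eq_one hk
    have h4 : (R.index).Coprime (p ^ k) := Nat.Coprime.pow_right k hidx
    have h5 : orderOf b = 1 := Nat.eq_one_of_dvd_coprimes h4 h2 h3
    exact orderOf_eq_one_iff.mp h5
  · apply le_antisymm
    · exact sup_le hBZ inf_le_left
    · intro z hz
      have hBp : IsPGroup p B := hM.to_subgroup B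
      obtain ⟨n, hn⟩ := IsPGroup.iff_card.mp hBp
      have hcop : (Nat.card B).Coprime R.index := by
        rw [hn]
        exact (Nat.Coprime.pow_right n hidx).symm
      obtain ⟨b, hb⟩ := (powCoprime hcop).surjective ⟨τ z, hfix z hz⟩
      have hb' : (b : M) ^ R.index = τ z := by
        have := congrArg Subtype.val hb
        simpa using this
      have h1 : z * (b : M)⁻¹ ∈ Z ⊓ τ.ker := by
        refine Subgroup.mem_inf.mpr ⟨Z.mul_mem hz (Z.inv_mem (hBZ b.2)), ?_⟩
        rw [MonoidHom.mem_ker, map_mul, map_inv, hpow b b.2, hb']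
        exact mul_inv_cancel _
      have h2 : z = (b : M) * (z * (b : M)⁻¹) := by
        rw [mul_comm z, mul_inv_cancel_left]
      rw [h2]
      exact Subgroup.mul_mem_sup b.2 h1

end Cfsg.Agent.Helper6.Ctr
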