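import Mathlib
import Cfsg.Agent.Helper6.CtrJ
import Cfsg.Agent.Helper6.CtrK

/-!
# The centre of a fusion system as a direct factor of `Z(S)`

The centre of the normalizer system of a subgroup `X ⊴ S` containing `Z(S)` is a direct factor of
`Z(S)` (trace argument); for odd `p`, with `X = J(S)`, this centre is the centre of the system.
-/

set_option autoImplicit false
set_option linter.style.haveILetI false
set_option maxHeartbeats 1000000

namespace Cfsg.Agent.Helper6.Ctr

open Cfsg Cfsg.FusionSystem Cfsg.Agent.Lead Cfsg.Agent.Helper1 Cfsg.Agent.Helper1.ThompsonRed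
  Cfsg.Agent.Lead.GlTh Cfsg.Agent.Lead.KL

open scoped IsMulCommutative

universe u

variable {Ω : Type u} [Group Ω]

theorem exists_compl_center_normalizerSystem {S : Subgroup Ω} [Finite S] (p : ℕ) [Fact p.Prime]
    (hS : IsPGroup p S) (F : FusionSystem S) (hF : F.IsSaturated p) (X : Subgroup Ω) (hXS : X ≤ S)
    (hSX : S ≤ Subgroup.normalizer (X : Set Ω)) (hZX : zS S ≤ X)
    (N : FusionSystem (normalizerIn S X)) (hN : F.IsNormalizerSystem X N) :
    ∃ K : Subgroup Ω, K ≤ zS S ∧ N.center ⊓ K = ⊥ ∧ N.center ⊔ K = zS S := by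
  haveI : Finite ↥(normalizerIn S X) := Fusion.finite_of_le inf_le_left
  haveI : Finite X := Fusion.finite_of_le hXS
  have hNeq : normalizerIn S X = S := le_antisymm inf_le_left (le_inf le_rfl hSX)
  have hfn : F.IsFullyNormalized X := by
    refine ⟨hXS, fun R' _ => ?_⟩
    rw [hNeq]
    exact Subgroup.card_le_of_le inf_le_left
  obtain ⟨-, Rsyl, hRsyl⟩ :=
    (Fusion.fullyCentralized_fullyAutomized_of_fullyNormalized p hS F hF hfn).2
  have hNZ : N.center ≤ zS S := center_le_zS p hS F hF X hXS hSX N hN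
  -- the module
  let ι : ↥(Subgroup.center ↥X) →* Ω := X.subtype.comp (Subgroup.center ↥X).subtype
  have hιinj : Function.Injective ι := fun a b h => Subtype.ext (Subtype.ext h)
  have hιrange : zS S ≤ ι.range := by
    intro x hx
    have hxX := hZX hx
    refine ⟨⟨⟨x, hxX⟩, ?_⟩, rfl⟩
    rw [Subgroup.mem_center_iff]
    intro g
    apply Subtype.ext
    exact Subgroup.mem_centralizer_iff.mp (Subgroup.mem_inf.mp hx).2 g (hXS g.2)
  have hMp : IsPGroup p ↥(Subgroup.center ↥X) := (hS.to_le hXS).to_subgroup _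
  haveI : Finite (MulAut ↥X) := inferInstance
  have hidx : (Rsyl : Subgroup ↥(F.autGroup X)).index.Coprime p :=
    ((Nat.Prime.coprime_iff_not_dvd (Fact.out)).mpr Rsyl.not_dvd_index).symm
  have hB : ∀ z : ↥(Subgroup.center ↥X), z ∈ N.center.comap ι ↔
      ∀ a : ↥(F.autGroup X), cenRestrict (a : MulAut ↥X) z = z := by
    intro z
    constructor
    · intro hz a
      have hfix := autFix_of_isCentral F hXS N hN (Fusion.center_isCentral N)
      have hψ := (Fusion.mem_autGroup_iff F hXS a.1).mp a.2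
      have himg : (X.subgroupOf X).map (X.subtype.comp (a.1 : MulAut ↥X).toMonoidHom) = X := by
        ext y
        constructor
        · rintro ⟨x, -, rfl⟩
          exact ((a.1 : MulAut ↥X) x).2
        · intro hy
          refine ⟨(a.1 : MulAut ↥X).symm ⟨y, hy⟩, ?_, ?_⟩
          · rw [SetLike.mem_coe, Subgroup.mem_subgroupOf]
            exact ((a.1 : MulAut ↥X).symm ⟨y, hy⟩).2
          · show (((a.1 : MulAut ↥X) ((a.1 : MulAut ↥X).symm ⟨y, hy⟩) : ↥X) : Ω) = y
            rw [MulEquiv.apply_symm_apply]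
      have h1 := hfix _ hψ himg (z.1 : ↥X) hz
      apply Subtype.ext
      apply Subtype.ext
      exact h1
    · intro h
      have hzX : ι z ∈ X := (z.1 : ↥X).2
      have hYX : Subgroup.zpowers (ι z) ≤ X := by
        rw [Subgroup.zpowers_le]
        exact hzX
      have hfix : AutFix F (Subgroup.zpowers (ι z)) X := by
        intro ψ hψ himg x hx
        have hr : ψ.range = X := by
          rw [MonoidHom.range_eq_map, ← Subgroup.subgroupOf_self X]
          exact himg
        obtain ⟨α, hα, hαψ⟩ := Fusion.exists_aut_of_range_eq F hψ hr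
        have h1 := h ⟨α, hα⟩
        have h2 : α (z.1 : ↥X) = (z.1 : ↥X) := congrArg Subtype.val h1
        obtain ⟨k, hk⟩ := Subgroup.mem_zpowers_iff.mp hx
        have h3 : x = (z.1 : ↥X) ^ k := by
          apply Subtype.ext
          rw [← hk]
          rfl
        rw [← hαψ x, h3, map_zpow, h2]
      have hcen := isCentral_normalizerSystem_of_autFix p hS F hF hXS hSX N hN hYX hfix
      have hle : Subgroup.zpowers (ι z) ≤ N.center := le_sSup hcen
      exact hle (Subgroup.mem_zpowers _)
  have hZR : ∀ r ∈ (Rsyl : Subgroup ↥(F.autGroup X)), ∀ z ∈ (zS S).comap ι,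
      cenRestrict (r : MulAut ↥X) z = z := by
    intro r hr z hz
    rw [hRsyl, Subgroup.mem_subgroupOf] at hr
    have hle : autInducedBy S X ≤ MulAction.stabilizer (MulAut ↥X) (z.1 : ↥X) := by
      unfold autInducedBy
      rw [Subgroup.closure_le]
      rintro α ⟨g, hg, hα⟩
      rw [SetLike.mem_coe, MulAction.mem_stabilizer_iff, MulAut.smul_def]
      apply Subtype.ext
      rw [hα]
      have h1 := Subgroup.mem_centralizer_iff.mp (Subgroup.mem_inf.mp hz).2 g hg
      show g * ι z * g⁻¹ = ι z
      rw [h1]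
      group
    have h2 := hle hr
    rw [MulAction.mem_stabilizer_iff, MulAut.smul_def] at h2
    apply Subtype.ext
    exact h2
  have hmul : ∀ (a b : ↥(F.autGroup X)) (x : ↥(Subgroup.center ↥X)),
      cenRestrict ((a * b : ↥(F.autGroup X)) : MulAut ↥X) x =
        cenRestrict (a : MulAut ↥X) (cenRestrict (b : MulAut ↥X) x) :=
    fun a b x => cenRestrict_mul _ _ x
  obtain ⟨K', hK'Z, hK'1, hK'2⟩ := exists_compl_of_trace (A := ↥(F.autGroup X))
    (M := ↥(Subgroup.center ↥X)) p hMp
    (fun a : ↥(F.autGroup X) => cenRestrict (a : MulAut ↥X))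
    hmul (Rsyl : Subgroup ↥(F.autGroup X)) hidx
    (N.center.comap ι) ((zS S).comap ι) (Subgroup.comap_mono hNZ) hB hZR
  refine ⟨K'.map ι, Subgroup.map_le_iff_le_comap.mpr hK'Z, ?_, ?_⟩
  · have h := congrArg (Subgroup.map ι) hK'1
    rw [Subgroup.map_inf _ _ ι hιinj, Subgroup.map_comap_eq_self (hNZ.trans hιrange),
      Subgroup.map_bot] at h
    exact h
  · have h := congrArg (Subgroup.map ι) hK'2
    rw [Subgroup.map_sup, Subgroup.map_comap_eq_self (hNZ.trans hιrange),
      Subgroup.map_comap_eq_self hιrange] at h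
    exact h

/-- For odd `p`, the centre of a saturated fusion system is a direct factor of `Z(S)`. -/
theorem exists_compl_center_of_odd {S : Subgroup Ω} [Finite S] (p : ℕ) [Fact p.Prime]
    (hp : p ≠ 2) (hS : IsPGroup p S) (F : FusionSystem S) (hF : F.IsSaturated p) :
    ∃ K : Subgroup Ω, K ≤ (S ⊓ Subgroup.centralizer (S : Set Ω)) ∧ F.center ⊓ K = ⊥ ∧
      F.center ⊔ K = (S ⊓ Subgroup.centralizer (S : Set Ω)) := by
  have hWZ : ∀ (R : Type u) [Group R] [Finite R], IsPGroup p R →
      Subgroup.center R ≤ TN.jaFunctor.W R := fun R _ _ _ => center_le_thompsonSubgroupA R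
  have hXS : Cfsg.thompsonSubgroupAOf S ≤ S := TN.jaFunctor.of_le S
  obtain ⟨N, hN⟩ := Cfsg.Agent.S5096.result F (Cfsg.thompsonSubgroupAOf S) hXS
  have hcen := thompsonA_controls_center p hS F hF N hN (Or.inl hp)
  have h := exists_compl_center_normalizerSystem p hS F hF (Cfsg.thompsonSubgroupAOf S) hXS
    (le_normalizer_of TN.jaFunctor S) (center_le_of p TN.jaFunctor hWZ S hS) N hN
  rw [hcen] at h
  exact h

end Cfsg.Agent.Helper6.Ctr
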