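import Mathlib
import Cfsg.Agent.Helper6.CtrL
import Cfsg.Agent.S5076
import Cfsg.Agent.Lead.IsolatedElements
import Cfsg.Agent.Helper1.Fitting2

/-!
# Isolated elements of a Sylow subgroup form a direct factor of its centre

For odd `p` (through the fusion system of the group, Glauberman's weak closure theorem and a trace
argument) or for solvable groups (through the Hall–Higman lemma).
-/

set_option autoImplicit false
set_option linter.style.haveILetI false
set_option maxHeartbeats 1000000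

namespace Cfsg.Agent.Helper6.Ctr

open Cfsg Cfsg.FusionSystem Cfsg.Agent.Lead Cfsg.Agent.Helper1 Cfsg.Agent.Helper1.ThompsonRed
  Cfsg.Agent.Lead.GlTh Cfsg.Agent.Lead.KL

universe u

variable {G : Type u} [Group G]

theorem conj_zpow_mem {S : Subgroup G} {g x : G} (h : g * x * g⁻¹ ∈ S) (k : ℤ) :
    g * x ^ k * g⁻¹ ∈ S := by
  rw [← conj_zpow]
  exact S.zpow_mem h k

theorem isolated_direct_factor_of_odd [Finite G] {p : ℕ} [Fact p.Prime] (hp : p ≠ 2)
    (S : Sylow p G) :
    ∃ W K : Subgroup G, (∀ x : G, x ∈ W ↔ (x ∈ (S : Subgroup G) ∧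
        ∀ g : G, g * x * g⁻¹ ∈ (S : Subgroup G) → g * x * g⁻¹ = x)) ∧
      K ≤ ((S : Subgroup G) ⊓ Subgroup.centralizer ((S : Subgroup G) : Set G)) ∧ W ⊓ K = ⊥ ∧
      W ⊔ K = ((S : Subgroup G) ⊓ Subgroup.centralizer ((S : Subgroup G) : Set G)) := by
  have hS : IsPGroup p (S : Subgroup G) := S.isPGroup'
  have hF : (Cfsg.groupFusionSystem (S : Subgroup G)).IsSaturated p := Cfsg.Agent.S5076.result p S
  have hWZ : ∀ (R : Type u) [Group R] [Finite R], IsPGroup p R →
      Subgroup.center R ≤ TN.jaFunctor.W R := fun R _ _ _ => center_le_thompsonSubgroupA R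
  have hXS : Cfsg.thompsonSubgroupAOf (S : Subgroup G) ≤ S := TN.jaFunctor.of_le (S : Subgroup G)
  have hSX := le_normalizer_of TN.jaFunctor (S : Subgroup G)
  obtain ⟨N, hN⟩ := Cfsg.Agent.S5096.result (Cfsg.groupFusionSystem (S : Subgroup G))
    (Cfsg.thompsonSubgroupAOf (S : Subgroup G)) hXS
  have hcen := thompsonA_controls_center p hS _ hF N hN (Or.inl hp)
  obtain ⟨K, hK, h1, h2⟩ := exists_compl_center_of_odd p hp hS _ hF
  refine ⟨(Cfsg.groupFusionSystem (S : Subgroup G)).center, K, ?_, hK, h1, h2⟩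
  intro x
  constructor
  · intro hx
    have hcenF := Fusion.center_isCentral (Cfsg.groupFusionSystem (S : Subgroup G))
    have hxS : x ∈ (S : Subgroup G) := hcenF.1 hx
    refine ⟨hxS, fun g hg => ?_⟩
    have hle : Subgroup.zpowers x ≤ (S : Subgroup G) := by
      rw [Subgroup.zpowers_le]; exact hxS
    have hφ : conjHom (Subgroup.zpowers x) g ∈
        (Cfsg.groupFusionSystem (S : Subgroup G)).Hom (Subgroup.zpowers x) := by
      refine ⟨hle, fun z => ?_, g, fun z => rfl⟩
      obtain ⟨k, hk⟩ := Subgroup.mem_zpowers_iff.mp z.2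
      show g * (z : G) * g⁻¹ ∈ (S : Subgroup G)
      rw [← hk]
      exact conj_zpow_mem hg k
    exact Fusion.map_eq_of_isCentral p hS _ hF hcenF hφ ⟨x, Subgroup.mem_zpowers x⟩ hx
  · rintro ⟨hxS, hiso⟩
    rw [← hcen]
    have hxZ : x ∈ zS (S : Subgroup G) := by
      refine Subgroup.mem_inf.mpr ⟨hxS, ?_⟩
      rw [Subgroup.mem_centralizer_iff]
      intro s hs
      have h3 : s * x * s⁻¹ ∈ (S : Subgroup G) :=
        Subgroup.mul_mem _ (Subgroup.mul_mem _ hs hxS) (Subgroup.inv_mem _ hs)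
      have h4 := hiso s h3
      calc s * x = (s * x * s⁻¹) * s := by group
        _ = x * s := by rw [h4]
    have hxX : x ∈ Cfsg.thompsonSubgroupAOf (S : Subgroup G) :=
      center_le_of p TN.jaFunctor hWZ (S : Subgroup G) hS hxZ
    have hYX : Subgroup.zpowers x ≤ Cfsg.thompsonSubgroupAOf (S : Subgroup G) := by
      rw [Subgroup.zpowers_le]; exact hxX
    have hfix : AutFix (Cfsg.groupFusionSystem (S : Subgroup G)) (Subgroup.zpowers x)
        (Cfsg.thompsonSubgroupAOf (S : Subgroup G)) := by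
      intro ψ hψ himg z hz
      obtain ⟨-, hψS, g, hg⟩ := hψ
      obtain ⟨k, hk⟩ := Subgroup.mem_zpowers_iff.mp hz
      have h3 : g * x * g⁻¹ = x := by
        apply hiso g
        have := hψS ⟨x, hxX⟩
        rwa [hg] at this
      rw [hg, ← hk, ← conj_zpow, h3]
    have hcenN := isCentral_normalizerSystem_of_autFix p hS _ hF hXS hSX N hN hYX hfix
    have hle : Subgroup.zpowers x ≤ N.center := le_sSup hcenN
    exact hle (Subgroup.mem_zpowers x)

theorem center_le_pPrimePCore_of_solvable [Finite G] [Group.IsSolvable G] {p : ℕ} [Fact p.Prime]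
    (S : Sylow p G) :
    ((S : Subgroup G) ⊓ Subgroup.centralizer ((S : Subgroup G) : Set G)) ≤
      Cfsg.pPrimePCore p G := by
  intro z hz
  obtain ⟨hzS, hzC⟩ := Subgroup.mem_inf.mp hz
  have hπs : Function.Surjective (QuotientGroup.mk' (Cfsg.pPrimeCore p G)) :=
    QuotientGroup.mk'_surjective _
  have hcore := Cfsg.Agent.Helper1.centralizer_pCore_le (G := G ⧸ Cfsg.pPrimeCore p G) p
    (Cfsg.Agent.Helper1.pPrimeCore_quotient_pPrimeCore p)
  show QuotientGroup.mk' (Cfsg.pPrimeCore p G) z ∈ Cfsg.pCore p (G ⧸ Cfsg.pPrimeCore p G)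
  apply hcore
  rw [Subgroup.mem_centralizer_iff]
  intro y hy
  have hyS : y ∈ ((S.mapSurjective hπs : Sylow p (G ⧸ Cfsg.pPrimeCore p G)) :
      Subgroup (G ⧸ Cfsg.pPrimeCore p G)) :=
    Cfsg.Agent.Helper4.pCore_le_sylow _ hy
  rw [Sylow.coe_mapSurjective] at hyS
  obtain ⟨s, hs, rfl⟩ := hyS
  rw [← map_mul, ← map_mul]
  congr 1
  exact Subgroup.mem_centralizer_iff.mp hzC s hs

theorem isolated_direct_factor_main [Finite G] {p : ℕ} [Fact p.Prime] (S : Sylow p G)
    (h : p ≠ 2 ∨ Group.IsSolvable G) :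
    ∃ W K : Subgroup G, (∀ x : G, x ∈ W ↔ (x ∈ (S : Subgroup G) ∧
        ∀ g : G, g * x * g⁻¹ ∈ (S : Subgroup G) → g * x * g⁻¹ = x)) ∧
      K ≤ ((S : Subgroup G) ⊓ Subgroup.centralizer ((S : Subgroup G) : Set G)) ∧ W ⊓ K = ⊥ ∧
      W ⊔ K = ((S : Subgroup G) ⊓ Subgroup.centralizer ((S : Subgroup G) : Set G)) := by
  rcases h with hp | hsol
  · exact isolated_direct_factor_of_odd hp S
  · haveI := hsol
    exact Cfsg.Agent.Lead.isolated_direct_factor S (center_le_pPrimePCore_of_solvable S)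

end Cfsg.Agent.Helper6.Ctr
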