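import Mathlib
import Cfsg.Prelude.Def_Characters
import Cfsg.Prelude.Def_CharExt
import Cfsg.Agent.Helper6.CycG

/-!
# Injectivity of the cyclic Glauberman map and uniqueness of the sign
-/

set_option autoImplicit false
set_option linter.style.haveILetI false
set_option linter.unusedSimpArgs false

namespace Cfsg.Agent.Helper6

open scoped ComplexConjugate

universe u

variable {Γ : Type u} [Group Γ]

/-- an irreducible character with a sign determines both -/
theorem irr_sign_unique {C : Type u} [Group C] (β β' : Cfsg.IrrCharacter C) (ε ε' : ℤ)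
    (hε : ε = 1 ∨ ε = -1) (hε' : ε' = 1 ∨ ε' = -1)
    (h : ∀ c : C, (ε : ℂ) * (β : C → ℂ) c = (ε' : ℂ) * (β' : C → ℂ) c) : β = β' ∧ ε = ε' := by
  obtain ⟨n, hn, hn1⟩ := IsIrrCharacter.apply_one_pos β.2
  obtain ⟨n', hn', hn1'⟩ := IsIrrCharacter.apply_one_pos β'.2
  have h1 := h 1
  have hn1c : (β : C → ℂ) 1 = n := hn1
  have hn1c' : (β' : C → ℂ) 1 = n' := hn1'
  rw [hn1c, hn1c'] at h1
  have h2 : ε * (n : ℤ) = ε' * (n' : ℤ) := by exact_mod_cast h1
  have hεε : ε = ε' := by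
    rcases hε with rfl | rfl <;> rcases hε' with rfl | rfl
    · rfl
    · omega
    · omega
    · rfl
  refine ⟨?_, hεε⟩
  apply Subtype.ext
  funext c
  have h3 := h c
  rw [hεε] at h3
  have hε0 : (ε' : ℂ) ≠ 0 := by
    rcases hε' with rfl | rfl <;> norm_num
  exact mul_left_cancel₀ hε0 h3

/-- Characters of `Γ` with irreducible restrictions to `G` whose values on `C x` are given, up to
signs, by the same irreducible character of `C` have the same restriction to `G`. -/
theorem cyc_inj [Fintype Γ] (G C : Subgroup Γ) [Fintype G] [Fintype C] [hG : G.Normal]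
    (p : ℕ) (hp : 0 < p) (hcop : (Nat.card G).Coprime p)
    (hCG : C ≤ G) (x : Γ) (hxp : x ^ p = 1) (hCx : ∀ g ∈ G, g ∈ C ↔ x * g * x⁻¹ = g)
    (χh χh' : Γ → ℂ) (hχh : Cfsg.IsCharacter Γ χh) (hχh' : Cfsg.IsCharacter Γ χh')
    (hres : Cfsg.IsIrrCharacter G (fun g : G => χh g))
    (hres' : Cfsg.IsIrrCharacter G (fun g : G => χh' g))
    (β : Cfsg.IrrCharacter C) (ε ε' : ℤ) (hε : ε = 1 ∨ ε = -1) (hε' : ε' = 1 ∨ ε' = -1)
    (h1 : ∀ c : C, χh ((c : Γ) * x) = (ε : ℂ) * (β : C → ℂ) c)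
    (h2 : ∀ c : C, χh' ((c : Γ) * x) = (ε' : ℂ) * (β : C → ℂ) c) :
    (fun g : G => χh g) = (fun g : G => χh' g) := by
  by_contra hne
  have horth := sum_coset_orth G hχh hχh' hres hres' hne x
  have hcf := IsCharacter.isClassFunction hχh
  have hcf' := IsCharacter.isClassFunction hχh'
  have hx1 : ∀ g ∈ G, x * g * x⁻¹ ∈ G := fun g hg => hG.conj_mem g hg x
  have hx2 : ∀ g ∈ G, x⁻¹ * g * x ∈ G := by
    intro g hg
    have := hG.conj_mem g hg x⁻¹
    rwa [inv_inv] at this
  have hΦ : Cfsg.IsClassFunction Γ (fun y => χh y * conj (χh' y)) := by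
    intro g h
    simp only []
    rw [hcf, hcf']
  have h3 := sum_coset_eq_sum_centralizer G C x hx1 hx2 p hp hxp hcop hCG
    hCx (fun y => χh y * conj (χh' y)) hΦ
  rw [horth, mul_zero] at h3
  have hG0 : (Fintype.card G : ℂ) ≠ 0 := by
    have : 0 < Fintype.card G := Fintype.card_pos
    exact_mod_cast this.ne'
  have h4 : ∑ c : C, χh ((c : Γ) * x) * conj (χh' ((c : Γ) * x)) = 0 :=
    (mul_eq_zero.mp h3.symm).resolve_left hG0
  have h5 : ∑ c : C, χh ((c : Γ) * x) * conj (χh' ((c : Γ) * x)) =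
      ((ε : ℂ) * (ε' : ℂ)) * ∑ c : C, (β : C → ℂ) c * conj ((β : C → ℂ) c) := by
    rw [Finset.mul_sum]
    apply Finset.sum_congr rfl
    intro c _
    rw [h1, h2, map_mul, map_intCast]
    ring
  have h6 := classInner_irr_self β.2
  rw [classInner_def] at h6
  have hC0 : (Nat.card C : ℂ) ≠ 0 := by
    have : 0 < Nat.card C := Nat.card_pos
    exact_mod_cast this.ne'
  have h7 : ∑ c : C, (β : C → ℂ) c * conj ((β : C → ℂ) c) ≠ 0 := by
    intro h0
    rw [h0, mul_zero] at h6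
    exact zero_ne_one h6
  have hεε : (ε : ℂ) * (ε' : ℂ) ≠ 0 := by
    rcases hε with rfl | rfl <;> rcases hε' with rfl | rfl <;> norm_num
  rw [h5] at h4
  exact (mul_ne_zero hεε h7) h4

end Cfsg.Agent.Helper6
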