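import Mathlib
import Cfsg.Prelude.Def_Characters
import Cfsg.Prelude.Def_CharExt
import Cfsg.Agent.Helper6.CycH

/-!
# The Glauberman correspondence for a cyclic group of operators: existence
-/

set_option autoImplicit false
set_option linter.style.haveILetI false
set_option linter.unusedSimpArgs false

namespace Cfsg.Agent.Helper6

open scoped ComplexConjugate

universe u

variable {Γ : Type u} [Group Γ]

/-- a generator of a cyclic subgroup, as an element of the ambient group -/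
theorem exists_zpowers_eq_of_isCyclic (S : Subgroup Γ) (hcyc : IsCyclic S) :
    ∃ s₀ : Γ, s₀ ∈ S ∧ Subgroup.zpowers s₀ = S := by
  obtain ⟨g, hg⟩ := hcyc.exists_generator
  refine ⟨g.1, g.2, ?_⟩
  apply le_antisymm
  · exact Subgroup.zpowers_le.mpr g.2
  · intro y hy
    obtain ⟨k, hk⟩ := Subgroup.mem_zpowers_iff.mp (hg ⟨y, hy⟩)
    rw [Subgroup.mem_zpowers_iff]
    refine ⟨k, ?_⟩
    have := congrArg Subtype.val hk
    rwa [Subgroup.coe_zpow] at this

/-- existence of the correspondent of a character with canonical extension `χh` -/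
theorem cyc_exists [Fintype Γ] (G S : Subgroup Γ) [Fintype G]
    (hnorm : ∀ s ∈ S, ∀ g ∈ G, s * g * s⁻¹ ∈ G) (hcop : (Nat.card G).Coprime (Nat.card S))
    (htop : G ⊔ S = ⊤) (C : Subgroup Γ) [Fintype C]
    (hC : C = G ⊓ Subgroup.centralizer (S : Set Γ)) (hCG : C ≤ G)
    (s₀ : Γ) (hs₀ : Subgroup.zpowers s₀ = S)
    (χh : Γ → ℂ) (hχh : Cfsg.IsIrrCharacter Γ χh)
    (hres : Cfsg.IsIrrCharacter G (fun g : G => χh g))
    (hdet : (Cfsg.detOrder χh).Coprime (Nat.card S)) :
    ∃ (β : Cfsg.IrrCharacter C) (ε : ℤ), (ε = 1 ∨ ε = -1) ∧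
      (∀ c : C, ∀ s : Γ, Subgroup.zpowers s = S → χh ((c : Γ) * s) = (ε : ℂ) * (β : C → ℂ) c) ∧
      Cfsg.classInner (fun c : C => χh c) (β : C → ℂ) ≠ 0 := by
  haveI hG : G.Normal := normal_of_sup_eq_top G S hnorm htop
  have hidx := index_eq_card_of_coprime_sup G S hcop htop
  have hs₀S : s₀ ∈ S := by rw [← hs₀]; exact Subgroup.mem_zpowers s₀
  obtain ⟨β, ε, hε, hval, hne⟩ := cyc_main G S C hcop hidx hCG
    (commute_of_mem_inf_centralizer G S C hC) s₀ hs₀S
    (mem_centralizer_of_zpowers_eq G S C hC s₀ hs₀) χh hχh hres hdet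
  refine ⟨β, ε, hε, ?_, hne⟩
  intro c s hs
  obtain ⟨k, hk, rfl⟩ := exists_pow_coprime_of_zpowers_eq s₀ s (hs.trans hs₀.symm)
  rw [hs₀] at hk
  exact hval c k hk

end Cfsg.Agent.Helper6
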