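import Mathlib
import Cfsg.Prelude.Def_Characters
import Cfsg.Prelude.Def_CharExt
import Cfsg.Agent.Helper6.CycI

/-!
# The Glauberman correspondence for a cyclic group of operators: counting and surjectivity
-/

set_option autoImplicit false
set_option linter.style.haveILetI false
set_option linter.unusedSimpArgs false

namespace Cfsg.Agent.Helper6

open scoped ComplexConjugate

universe u

variable {Γ : Type u} [Group Γ]

/-- the number of invariant irreducible characters equals the number of irreducible characters of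
the centralizer -/
theorem cyc_card [Fintype Γ] (G S : Subgroup Γ) [Fintype G]
    (hnorm : ∀ s ∈ S, ∀ g ∈ G, s * g * s⁻¹ ∈ G) (hcop : (Nat.card G).Coprime (Nat.card S))
    (hcyc : IsCyclic S) (C : Subgroup Γ) [Fintype C]
    (hC : C = G ⊓ Subgroup.centralizer (S : Set Γ)) (hCG : C ≤ G) :
    Nat.card {χ : Cfsg.IrrCharacter G // ∀ s ∈ S, ∀ g g' : G, (g' : Γ) = s * g * s⁻¹ →
      (χ : G → ℂ) g' = (χ : G → ℂ) g} = Nat.card (Cfsg.IrrCharacter C) := by
  set A : Subgroup (MulAut G) := (conjHomOn G S hnorm).range with hA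
  haveI : Group.IsSolvable S := by
    apply Group.isSolvable_of_comm
    intro a b
    letI := hcyc.commGroup
    exact mul_comm a b
  have hsolv : Group.IsSolvable A :=
    Group.isSolvable_of_surjective (f := (conjHomOn G S hnorm).rangeRestrict)
      (conjHomOn G S hnorm).rangeRestrict_surjective
  have hcopA : (Nat.card G).Coprime (Nat.card A) :=
    Nat.Coprime.coprime_dvd_right (Subgroup.card_range_dvd _) hcop
  have h1 := card_invariant_irr_eq_card_irr_fixedSub (Nat.card A) A rfl hsolv hcopA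
  have h2 : Nat.card {χ : Cfsg.IrrCharacter G // ∀ s ∈ S, ∀ g g' : G, (g' : Γ) = s * g * s⁻¹ →
      (χ : G → ℂ) g' = (χ : G → ℂ) g} =
      Nat.card {χ : Cfsg.IrrCharacter G // InvUnder (A : Set (MulAut G)) (χ : G → ℂ)} := by
    apply Nat.card_congr
    apply Equiv.subtypeEquivRight
    intro χ
    exact (invUnder_conj_iff G S hnorm (χ : G → ℂ)).symm
  have h3 : fixedSub A = (Subgroup.inclusion hCG).range := by
    ext g
    rw [mem_fixedSub, mem_range_inclusion_iff G S C hnorm hC hCG]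
  let e : C ≃* fixedSub A :=
    (MonoidHom.ofInjective (Subgroup.inclusion_injective hCG)).trans
      (MulEquiv.subgroupCongr h3.symm)
  rw [h2, h1]
  exact (card_irr_congr e).symm

set_option maxHeartbeats 1600000 in
/-- Every irreducible character of the centralizer is a correspondent. -/
theorem cyc_surj [Fintype Γ] (G S : Subgroup Γ) [Fintype G]
    (hnorm : ∀ s ∈ S, ∀ g ∈ G, s * g * s⁻¹ ∈ G) (hcop : (Nat.card G).Coprime (Nat.card S))
    (htop : G ⊔ S = ⊤) (hcyc : IsCyclic S) (C : Subgroup Γ) [Fintype C]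
    (hC : C = G ⊓ Subgroup.centralizer (S : Set Γ)) (hCG : C ≤ G) :
    ∀ β : Cfsg.IrrCharacter C, ∃ (χ : Cfsg.IrrCharacter G) (χh : Cfsg.IrrCharacter Γ) (ε : ℤ),
      (∀ s ∈ S, ∀ g g' : G, (g' : Γ) = s * g * s⁻¹ → (χ : G → ℂ) g' = (χ : G → ℂ) g) ∧
      (∀ g : G, (χh : Γ → ℂ) g = (χ : G → ℂ) g) ∧
      (Cfsg.detOrder (χh : Γ → ℂ)).Coprime (Nat.card S) ∧ (ε = 1 ∨ ε = -1) ∧
      ∀ c : C, ∀ s : Γ, Subgroup.zpowers s = S →
        (χh : Γ → ℂ) ((c : Γ) * s) = (ε : ℂ) * (β : C → ℂ) c := by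
  classical
  haveI hG : G.Normal := normal_of_sup_eq_top G S hnorm htop
  have hidx := index_eq_card_of_coprime_sup G S hcop htop
  obtain ⟨s₀, hs₀S, hs₀⟩ := exists_zpowers_eq_of_isCyclic S hcyc
  have hstep : ∀ t : {χ : Cfsg.IrrCharacter G // ∀ s ∈ S, ∀ g g' : G, (g' : Γ) = s * g * s⁻¹ →
      (χ : G → ℂ) g' = (χ : G → ℂ) g}, ∃ (β : Cfsg.IrrCharacter C) (χh : Cfsg.IrrCharacter Γ)
      (ε : ℤ), (∀ g : G, (χh : Γ → ℂ) g = (t.1 : G → ℂ) g) ∧
      (Cfsg.detOrder (χh : Γ → ℂ)).Coprime (Nat.card S) ∧ (ε = 1 ∨ ε = -1) ∧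
      ∀ c : C, ∀ s : Γ, Subgroup.zpowers s = S →
        (χh : Γ → ℂ) ((c : Γ) * s) = (ε : ℂ) * (β : C → ℂ) c := by
    intro t
    have hχ := t.1.2
    have hcf := IsCharacter.isClassFunction (IsIrrCharacter.isCharacter hχ)
    have hinv := invariant_of_sup_eq_top G S htop (t.1 : G → ℂ) hcf t.2
    obtain ⟨d, hd, hddvd, -⟩ := IsIrrCharacter.degree_dvd_card hχ
    have hodvd := detOrder_dvd_card (IsIrrCharacter.isCharacter hχ)
    have hcop' : Nat.Coprime G.index (Cfsg.detOrder (t.1 : G → ℂ) * d) := by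
      rw [hidx]
      apply Nat.Coprime.mul_right
      · exact (Nat.Coprime.coprime_dvd_left hodvd hcop).symm
      · exact (Nat.Coprime.coprime_dvd_left hddvd hcop).symm
    obtain ⟨χh, ⟨hχh, hext, hdeteq⟩, -⟩ := Cfsg.Agent.S0867.result G (t.1 : G → ℂ) hχ hinv d hd hcop'
    have hdet : (Cfsg.detOrder χh).Coprime (Nat.card S) := by
      rw [hdeteq]
      exact Nat.Coprime.coprime_dvd_left hodvd hcop
    have hres : Cfsg.IsIrrCharacter G (fun g : G => χh g) := by
      have : (fun g : G => χh g) = (t.1 : G → ℂ) := funext hext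
      rw [this]
      exact hχ
    obtain ⟨β, ε, hε, hval, -⟩ := cyc_exists G S hnorm hcop htop C hC hCG s₀ hs₀ χh hχh hres hdet
    exact ⟨β, ⟨χh, hχh⟩, ε, hext, hdet, hε, hval⟩
  choose φ χh ε hext hdet hε hval using hstep
  have hinj : Function.Injective φ := by
    intro t t' htt
    have hxp : s₀ ^ Nat.card S = 1 := by
      have h2 := pow_card_eq_one' (G := S) (x := ⟨s₀, hs₀S⟩)
      have h3 := congrArg Subtype.val h2
      rwa [Subgroup.coe_pow] at h3
    have hres : Cfsg.IsIrrCharacter G (fun g : G => (χh t : Γ → ℂ) g) := by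
      have : (fun g : G => (χh t : Γ → ℂ) g) = (t.1 : G → ℂ) := funext (hext t)
      rw [this]
      exact t.1.2
    have hres' : Cfsg.IsIrrCharacter G (fun g : G => (χh t' : Γ → ℂ) g) := by
      have : (fun g : G => (χh t' : Γ → ℂ) g) = (t'.1 : G → ℂ) := funext (hext t')
      rw [this]
      exact t'.1.2
    have h1 := cyc_inj G C (Nat.card S) Nat.card_pos hcop hCG s₀ hxp
      (mem_centralizer_of_zpowers_eq G S C hC s₀ hs₀) (χh t : Γ → ℂ) (χh t' : Γ → ℂ)
      (IsIrrCharacter.isCharacter (χh t).2) (IsIrrCharacter.isCharacter (χh t').2) hres hres'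
      (φ t) (ε t) (ε t') (hε t) (hε t') (fun c => hval t c s₀ hs₀)
      (fun c => by rw [htt]; exact hval t' c s₀ hs₀)
    apply Subtype.ext
    apply Subtype.ext
    funext g
    rw [← hext t g, ← hext t' g]
    exact congrFun h1 g
  haveI : Finite (Cfsg.IrrCharacter C) := irr_finite
  haveI : Finite (Cfsg.IrrCharacter G) := irr_finite
  have hcard := cyc_card G S hnorm hcop hcyc C hC hCG
  have hbij := Function.Injective.bijective_of_nat_card_le hinj hcard.symm.le
  intro β
  obtain ⟨t, rfl⟩ := hbij.2 β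
  exact ⟨t.1, χh t, ε t, t.2, hext t, hdet t, hε t, hval t⟩

end Cfsg.Agent.Helper6
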