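import Mathlib
import Cfsg.Prelude.Def_Characters
import Cfsg.Prelude.Def_Blocks
import Cfsg.Agent.Helper6.PowCongr
import Cfsg.Agent.Helper6.Artin
import Cfsg.Agent.Helper6.Induced
import Cfsg.Agent.Helper6.Linear
import Cfsg.Agent.Helper6.ProjTrace2

/-!
# The congruence `ψ(y)^p ≡ ψ(y^p)` modulo `p` for characters of abelian groups
-/

set_option autoImplicit false
set_option linter.style.haveILetI false
set_option linter.unusedSimpArgs false

namespace Cfsg.Agent.Helper6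

open scoped ComplexConjugate

universe u

/-- `ψ(y)^p ≡ ψ(y^p)` modulo `p` for a character of a finite abelian group -/
theorem abelian_char_pow_prime_congr {A : Type u} [Group A] [Finite A]
    (hab : ∀ a b : A, a * b = b * a) (p : ℕ) [hp : Fact p.Prime] {ψ : A → ℂ}
    (hψ : Cfsg.IsCharacter A ψ) (y : A) :
    ∃ γ : Cfsg.AlgInt, ψ y ^ p - ψ (y ^ p) = (p : ℂ) * (γ : ℂ) := by
  classical
  haveI : Fintype A := Fintype.ofFinite _
  haveI : Finite (A →* ℂˣ) := by
    haveI : Finite (Cfsg.IrrCharacter A) := irr_finite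
    exact Finite.of_injective (fun lam : A →* ℂˣ =>
      (⟨fun a => ((lam a : ℂˣ) : ℂ), isIrrCharacter_of_hom lam⟩ : Cfsg.IrrCharacter A)) (by
      intro a b hab'
      have h1 := congrArg Subtype.val hab'
      ext x
      exact congrFun h1 x)
  haveI : Fintype (A →* ℂˣ) := Fintype.ofFinite _
  have hexp := abelian_expansion hab ψ
  have hnat : ∀ lam : A →* ℂˣ, ∃ n : ℕ, Cfsg.classInner ψ
      (fun a => ((lam a : ℂˣ) : ℂ)) = n :=
    fun lam => classInner_char_char_nat hψ (IsIrrCharacter.isCharacter (isIrrCharacter_of_hom lam))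
  choose m hm using hnat
  have hval : ∀ c : A, ψ c = ∑ lam : A →* ℂˣ, (m lam : ℂ) * ((lam c : ℂˣ) : ℂ) := by
    intro c
    have := congrFun hexp c
    rw [Finset.sum_apply] at this
    simp only [Pi.smul_apply, smul_eq_mul, hm] at this
    exact this
  haveI : CharP (Cfsg.AlgInt ⧸ (Ideal.span ({(p : Cfsg.AlgInt)} : Set Cfsg.AlgInt))) p :=
    CharP.quotient Cfsg.AlgInt p (natCast_prime_mem_nonunits p hp.out)
  let Z : (A →* ℂˣ) → Cfsg.AlgInt := fun lam =>
    ⟨((lam y : ℂˣ) : ℂ), (mem_integralClosure_iff ℤ ℂ).mpr (isIntegral_hom_apply lam _)⟩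
  let W : (A →* ℂˣ) → Cfsg.AlgInt := fun lam =>
    ⟨((lam (y ^ p) : ℂˣ) : ℂ), (mem_integralClosure_iff ℤ ℂ).mpr (isIntegral_hom_apply lam _)⟩
  have hZW : ∀ lam, Z lam ^ p = W lam := by
    intro lam
    apply Subtype.ext
    change ((lam y : ℂˣ) : ℂ) ^ p = ((lam (y ^ p) : ℂˣ) : ℂ)
    rw [← Units.val_pow_eq_pow_val, ← map_pow]
  let S : Finset (Σ _ : A →* ℂˣ, ℕ) := Finset.univ.sigma (fun lam => Finset.range (m lam))
  have hsumS : ∀ f : (A →* ℂˣ) → Cfsg.AlgInt,
      ((∑ s ∈ S, f s.1 : Cfsg.AlgInt) : ℂ) = ∑ lam : A →* ℂˣ, (m lam : ℂ) * (f lam : ℂ) := by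
    intro f
    rw [Finset.sum_sigma]
    push_cast
    apply Finset.sum_congr rfl
    intro lam _
    rw [Finset.sum_const, Finset.card_range, nsmul_eq_mul]
  have hX : ((∑ s ∈ S, Z s.1 : Cfsg.AlgInt) : ℂ) = ψ y := by
    rw [hsumS Z]
    exact (hval y).symm
  have hY : ((∑ s ∈ S, W s.1 : Cfsg.AlgInt) : ℂ) = ψ (y ^ p) := by
    rw [hsumS W]
    exact (hval (y ^ p)).symm
  have hquot : Ideal.Quotient.mk (Ideal.span ({(p : Cfsg.AlgInt)} : Set Cfsg.AlgInt))
      ((∑ s ∈ S, Z s.1) ^ p) =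
      Ideal.Quotient.mk (Ideal.span ({(p : Cfsg.AlgInt)} : Set Cfsg.AlgInt))
      (∑ s ∈ S, W s.1) := by
    rw [map_pow, map_sum, map_sum, sum_pow_char]
    apply Finset.sum_congr rfl
    intro s _
    rw [← map_pow, hZW]
  rw [Ideal.Quotient.eq, Ideal.mem_span_singleton'] at hquot
  obtain ⟨γ, hγ⟩ := hquot
  refine ⟨γ, ?_⟩
  have := congrArg (fun z : Cfsg.AlgInt => (z : ℂ)) hγ
  simp only [MulMemClass.coe_mul, AddSubgroupClass.coe_sub, SubmonoidClass.coe_pow] at this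
  rw [hX, hY] at this
  rw [← this]
  simp [mul_comm]

end Cfsg.Agent.Helper6
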