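import Mathlib
import Cfsg.Prelude.Def_Characters
import Cfsg.Prelude.Def_CharExt
import Cfsg.Prelude.Def_Blocks
import Cfsg.Agent.Helper6.CycJ
import Cfsg.Agent.Helper6.CycK
import Cfsg.Agent.Helper6.CycM
import Cfsg.Agent.Helper6.OddReal
import Cfsg.Agent.Helper6.Brauer9
import Cfsg.Agent.Helper6.Brauer10
import Cfsg.Agent.Helper6.BlockPart

/-!
# The canonical extension when all non-identity elements of `S` have the same centralizer
-/

set_option autoImplicit false
set_option linter.style.haveILetI false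
set_option linter.unusedSimpArgs false

namespace Cfsg.Agent.Helper6

open scoped ComplexConjugate

universe u

variable {Γ : Type u} [Group Γ]

/-- the homomorphism `C × S → Γ` for commuting subgroups -/
def cycProdHom (C S : Subgroup Γ) (hCS : ∀ c ∈ C, ∀ y ∈ S, Commute c y) : C × S →* Γ :=
  MonoidHom.noncommCoprod C.subtype S.subtype (fun c y => hCS c.1 c.2 y.1 y.2)

theorem cycProdHom_apply (C S : Subgroup Γ) (hCS : ∀ c ∈ C, ∀ y ∈ S, Commute c y) (z : C × S) :
    cycProdHom C S hCS z = (z.1 : Γ) * (z.2 : Γ) := rfl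

/-- The values on `C y` of the canonical extension, as partial inner products. -/
theorem cyc_partial_values [Fintype Γ] (G S C : Subgroup Γ) [Fintype G] [Fintype C]
    [hG : G.Normal]
    (hcop : (Nat.card G).Coprime (Nat.card S)) (hidx : G.index = Nat.card S)
    (hCG : C ≤ G) (hCS : ∀ c ∈ C, ∀ y ∈ S, Commute c y)
    (χh : Γ → ℂ) (hχh : Cfsg.IsIrrCharacter Γ χh)
    (hres : Cfsg.IsIrrCharacter G (fun g : G => χh g))
    (hdet : (Cfsg.detOrder χh).Coprime (Nat.card S))
    (y : S) (hCy : ∀ g ∈ G, g ∈ C ↔ (y : Γ) * g * (y : Γ)⁻¹ = g) :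
    ∃ (βy : Cfsg.IrrCharacter C) (εy : ℤ), (εy = 1 ∨ εy = -1) ∧
      (∀ c : C, χh ((c : Γ) * (y : Γ)) = (εy : ℂ) * (βy : C → ℂ) c) ∧
      ∀ β' : Cfsg.IrrCharacter C,
        partialInner (fun z : C × S => χh (cycProdHom C S hCS z)) (β' : C → ℂ) y =
          if β' = βy then (εy : ℂ) else 0 := by
  classical
  obtain ⟨βy, εy, hεy, hval, -⟩ := cyc_main G S C hcop hidx hCG hCS (y : Γ) y.2 hCy χh hχh
    hres hdet
  have hval1 : ∀ c : C, χh ((c : Γ) * (y : Γ)) = (εy : ℂ) * (βy : C → ℂ) c := by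
    intro c
    have := hval c 1 (Nat.coprime_one_left _)
    rwa [pow_one] at this
  refine ⟨βy, εy, hεy, hval1, ?_⟩
  intro β'
  rw [partialInner_apply]
  have h1 : (fun c : C => χh (cycProdHom C S hCS (c, y))) = (εy : ℂ) • (βy : C → ℂ) := by
    funext c
    rw [cycProdHom_apply, Pi.smul_apply, smul_eq_mul]
    exact hval1 c
  rw [h1, classInner_smul_left]
  by_cases hβ : β' = βy
  · rw [if_pos hβ, hβ, classInner_irr_self βy.2, mul_one]
  · rw [if_neg hβ, classInner_irr_ne βy.2 β'.2 (fun h => hβ (Subtype.ext h.symm)), mul_zero]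

end Cfsg.Agent.Helper6
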