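import Mathlib
import Cfsg.Prelude.Def_Characters
import Cfsg.Prelude.Def_CharExt
import Cfsg.Prelude.Def_Blocks
import Cfsg.Agent.Helper6.CycN

/-!
# The canonical extension when all non-identity elements of `S` have the same centralizer:
the same correspondent for all non-identity elements
-/

set_option autoImplicit false
set_option linter.style.haveILetI false
set_option linter.unusedSimpArgs false

namespace Cfsg.Agent.Helper6

open scoped ComplexConjugate

universe u

variable {Γ : Type u} [Group Γ]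

set_option maxHeartbeats 1600000 in
/-- If all the non-identity elements of `S` have the same centralizer `C` in `G`, the values of
the canonical extension on all cosets `C y`, `y ≠ 1`, are given by the same irreducible character
of `C`. -/
theorem cyc_fpf_values [Fintype Γ] (G S C : Subgroup Γ) [Fintype G] [Fintype C]
    [hG : G.Normal]
    (hcop : (Nat.card G).Coprime (Nat.card S)) (hidx : G.index = Nat.card S)
    (hCG : C ≤ G) (hCS : ∀ c ∈ C, ∀ y ∈ S, Commute c y)
    (hab : ∀ a b : S, a * b = b * a)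
    (χh : Γ → ℂ) (hχh : Cfsg.IsIrrCharacter Γ χh)
    (hres : Cfsg.IsIrrCharacter G (fun g : G => χh g))
    (hdet : (Cfsg.detOrder χh).Coprime (Nat.card S))
    (hfp : ∀ y : S, y ≠ 1 → ∀ g ∈ G, g ∈ C ↔ (y : Γ) * g * (y : Γ)⁻¹ = g)
    (β : Cfsg.IrrCharacter C) (s₀ : S) (hgen : ∀ y : S, ∃ j : ℕ, y = s₀ ^ j)
    (hβ : partialInner (fun z : C × S => χh (cycProdHom C S hCS z)) (β : C → ℂ) s₀ ≠ 0) :
    ∀ y : S, y ≠ 1 →
      (partialInner (fun z : C × S => χh (cycProdHom C S hCS z)) (β : C → ℂ) y = 1 ∨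
        partialInner (fun z : C × S => χh (cycProdHom C S hCS z)) (β : C → ℂ) y = -1) ∧
      (∀ c : C, χh ((c : Γ) * (y : Γ)) =
        partialInner (fun z : C × S => χh (cycProdHom C S hCS z)) (β : C → ℂ) y *
          (β : C → ℂ) c) ∧
      ∀ β' : Cfsg.IrrCharacter C, β' ≠ β →
        partialInner (fun z : C × S => χh (cycProdHom C S hCS z)) (β' : C → ℂ) y = 0 := by
  classical
  set Θ : C × S → ℂ := fun z : C × S => χh (cycProdHom C S hCS z) with hΘ
  have hΘc : Cfsg.IsCharacter (C × S) Θ :=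
    IsCharacter.comp_hom (cycProdHom C S hCS) (IsIrrCharacter.isCharacter hχh)
  set ψ : S → ℂ := partialInner Θ (β : C → ℂ) with hψ
  have hψc : Cfsg.IsCharacter S ψ := partialInner_isCharacter hΘc β.2
  have hF : ∀ y : S, y ≠ 1 → ∃ (βy : Cfsg.IrrCharacter C) (εy : ℤ), (εy = 1 ∨ εy = -1) ∧
      (∀ c : C, χh ((c : Γ) * (y : Γ)) = (εy : ℂ) * (βy : C → ℂ) c) ∧
      ∀ β' : Cfsg.IrrCharacter C, partialInner Θ (β' : C → ℂ) y =
        if β' = βy then (εy : ℂ) else 0 := fun y hy =>
    cyc_partial_values G S C hcop hidx hCG hCS χh hχh hres hdet y (hfp y hy)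
  -- the key facts for an element where `ψ` does not vanish
  have hkey : ∀ y : S, y ≠ 1 → ψ y ≠ 0 → (ψ y = 1 ∨ ψ y = -1) ∧
      (∀ c : C, χh ((c : Γ) * (y : Γ)) = ψ y * (β : C → ℂ) c) ∧
      ∀ β' : Cfsg.IrrCharacter C, β' ≠ β → partialInner Θ (β' : C → ℂ) y = 0 := by
    intro y hy hne
    obtain ⟨βy, εy, hεy, hval, hpart⟩ := hF y hy
    have h1 := hpart β
    have hββ : β = βy := by
      by_contra hcon
      rw [if_neg hcon] at h1
      exact hne h1
    rw [if_pos hββ] at h1
    have h1' : ψ y = (εy : ℂ) := h1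
    refine ⟨?_, ?_, ?_⟩
    · rw [h1']
      rcases hεy with h | h <;> rw [h] <;> simp
    · intro c
      rw [h1', hββ]
      exact hval c
    · intro β' hβ'
      rw [hpart β', if_neg (fun h => hβ' (h.trans hββ.symm))]
  have hzero_or : ∀ y : S, y ≠ 1 → ψ y = 0 ∨ ψ y = 1 ∨ ψ y = -1 := by
    intro y hy
    by_cases h0 : ψ y = 0
    · exact Or.inl h0
    · exact Or.inr (hkey y hy h0).1
  -- propagation to powers
  have hstep : ∀ j : ℕ, ∀ y : S, ψ y ≠ 0 → y ^ j ≠ 1 → ψ (y ^ j) ≠ 0 := by
    intro j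
    induction j using Nat.recOnMul with
    | zero =>
      intro y _ h
      exact absurd (pow_zero y) h
    | one =>
      intro y h _
      rwa [pow_one]
    | prime p hp =>
      intro y hy hyp h0
      haveI : Fact p.Prime := ⟨hp⟩
      have hy1 : y ≠ 1 := by
        rintro rfl
        exact hyp (one_pow p)
      obtain ⟨γ, hγ⟩ := abelian_char_pow_prime_congr hab p hψc y
      rw [h0, sub_zero] at hγ
      have hsq : ψ y ^ p * ψ y ^ p = 1 := by
        rcases (hkey y hy1 hy).1 with h | h <;> rw [h]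
        · simp
        · rw [← mul_pow]
          simp
      have hint : IsIntegral ℤ ((γ : ℂ) * ψ y ^ p) :=
        IsIntegral.mul ((mem_integralClosure_iff ℤ ℂ).mp γ.2)
          (IsIntegral.pow (IsCharacter.isIntegral_value hψc y) p)
      have h1 : ((1 : ℕ) : ℂ) = (p : ℂ) * ((γ : ℂ) * ψ y ^ p) := by
        rw [← mul_assoc, ← hγ, hsq, Nat.cast_one]
      have h2 := nat_dvd_of_isIntegral 1 p hp.ne_zero _ hint h1
      exact hp.one_lt.ne' (Nat.dvd_one.mp h2)
    | mul a b ha hb =>
      intro y hy hyab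
      rw [pow_mul] at hyab ⊢
      have hya : y ^ a ≠ 1 := by
        intro h
        rw [h, one_pow] at hyab
        exact hyab rfl
      exact hb (y ^ a) (ha y hy hya) hyab
  intro y hy
  obtain ⟨j, rfl⟩ := hgen y
  exact hkey (s₀ ^ j) hy (hstep j s₀ hβ hy)

end Cfsg.Agent.Helper6
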