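import Mathlib
import Cfsg.Prelude.Def_Characters
import Cfsg.Prelude.Def_CharExt
import Cfsg.Prelude.Def_Blocks
import Cfsg.Agent.Helper6.CycO

/-!
# The canonical extension when all non-identity elements of `S` have the same centralizer:
the main theorem
-/

set_option autoImplicit false
set_option linter.style.haveILetI false
set_option linter.unusedSimpArgs false

namespace Cfsg.Agent.Helper6

open scoped ComplexConjugate

universe u

variable {Γ : Type u} [Group Γ]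

set_option maxHeartbeats 3200000 in
theorem cyc_fpf_main [Fintype Γ] (G S : Subgroup Γ) [Fintype G]
    (hnorm : ∀ s ∈ S, ∀ g ∈ G, s * g * s⁻¹ ∈ G) (hcop : (Nat.card G).Coprime (Nat.card S))
    (htop : G ⊔ S = ⊤) (hcyc : IsCyclic S) (C : Subgroup Γ) [Fintype C]
    (hC : C = G ⊓ Subgroup.centralizer (S : Set Γ)) (hCG : C ≤ G)
    (hfpf : ∀ x ∈ S, x ≠ 1 → G ⊓ Subgroup.centralizer ({x} : Set Γ) = C)
    (χ : Cfsg.IrrCharacter G) (χh : Cfsg.IrrCharacter Γ)
    (hext : ∀ g : G, (χh : Γ → ℂ) g = (χ : G → ℂ) g)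
    (hdet : (Cfsg.detOrder (χh : Γ → ℂ)).Coprime (Nat.card S))
    (β : Cfsg.IrrCharacter C) (ε₀ : ℤ) (hε₀ : ε₀ = 1 ∨ ε₀ = -1)
    (hβ : ∀ c : C, ∀ s : Γ, Subgroup.zpowers s = S →
      (χh : Γ → ℂ) ((c : Γ) * s) = (ε₀ : ℂ) * (β : C → ℂ) c) :
    ∃ ε : ℤ, (ε = 1 ∨ ε = -1) ∧
      (∃ μ : S → ℂ, Cfsg.IsCharacter S μ ∧ μ 1 = 1 ∧ (∀ x : S, μ x * μ x = 1) ∧
        ∀ c : C, ∀ x : S, x ≠ 1 →
          (χh : Γ → ℂ) ((c : Γ) * x) = (ε : ℂ) * (β : C → ℂ) c * μ x) ∧
      (∃ ϑ : C → ℂ, Cfsg.IsCharacter C ϑ ∧ (fun c : C => (χ : G → ℂ) ⟨c, hCG c.2⟩) =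
        fun c => (Nat.card S : ℂ) * ϑ c + (ε : ℂ) * (β : C → ℂ) c) ∧
      (Nat.card S : ℤ) ∣ (Cfsg.charDegree (χ : G → ℂ) : ℤ) -
        ε * (Cfsg.charDegree (β : C → ℂ) : ℤ) := by
  classical
  haveI hG : G.Normal := normal_of_sup_eq_top G S hnorm htop
  have hidx := index_eq_card_of_coprime_sup G S hcop htop
  have hCS := commute_of_mem_inf_centralizer G S C hC
  haveI : Fintype S := Fintype.ofFinite _
  have hab : ∀ a b : S, a * b = b * a := by
    intro a b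
    letI := hcyc.commGroup
    exact mul_comm a b
  obtain ⟨s₀, hs₀S, hs₀⟩ := exists_zpowers_eq_of_isCyclic S hcyc
  have hgen : ∀ y : S, ∃ j : ℕ, y = (⟨s₀, hs₀S⟩ : S) ^ j := by
    intro y
    have h1 : (y : Γ) ∈ Subgroup.zpowers s₀ := by rw [hs₀]; exact y.2
    obtain ⟨j, hj⟩ := (mem_powers_iff_mem_zpowers (x := s₀) (y := (y : Γ))).mpr h1
    refine ⟨j, ?_⟩
    apply Subtype.ext
    rw [Subgroup.coe_pow]
    exact hj.symm
  have hres : Cfsg.IsIrrCharacter G (fun g : G => (χh : Γ → ℂ) g) := by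
    have : (fun g : G => (χh : Γ → ℂ) g) = (χ : G → ℂ) := funext hext
    rw [this]
    exact χ.2
  have hfp : ∀ y : S, y ≠ 1 → ∀ g ∈ G, g ∈ C ↔ (y : Γ) * g * (y : Γ)⁻¹ = g := by
    intro y hy g hg
    have hy1 : (y : Γ) ≠ 1 := fun h => hy (Subtype.ext h)
    rw [← hfpf (y : Γ) y.2 hy1, Subgroup.mem_inf, Subgroup.mem_centralizer_iff]
    constructor
    · rintro ⟨-, h⟩
      rw [h (y : Γ) (Set.mem_singleton _)]
      group
    · intro h
      refine ⟨hg, ?_⟩
      intro z hz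
      rw [Set.mem_singleton_iff] at hz
      subst hz
      calc (y : Γ) * g = (y : Γ) * g * (y : Γ)⁻¹ * (y : Γ) := by group
        _ = g * (y : Γ) := by rw [h]
  set Θ : C × S → ℂ := fun z : C × S => (χh : Γ → ℂ) (cycProdHom C S hCS z) with hΘ
  have hΘc : Cfsg.IsCharacter (C × S) Θ :=
    IsCharacter.comp_hom (cycProdHom C S hCS) (IsIrrCharacter.isCharacter χh.2)
  have hβ0 : partialInner Θ (β : C → ℂ) (⟨s₀, hs₀S⟩ : S) ≠ 0 := by
    rw [partialInner_apply]
    have h1 : (fun c : C => Θ (c, (⟨s₀, hs₀S⟩ : S))) = (ε₀ : ℂ) • (β : C → ℂ) := by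
      funext c
      rw [Pi.smul_apply, smul_eq_mul]
      exact hβ c s₀ hs₀
    rw [h1, classInner_smul_left, classInner_irr_self β.2, mul_one]
    rcases hε₀ with h | h <;> rw [h] <;> norm_num
  have hvals := cyc_fpf_values G S C hcop hidx hCG hCS hab (χh : Γ → ℂ) χh.2 hres hdet hfp β
    ⟨s₀, hs₀S⟩ hgen hβ0
  set ψ : S → ℂ := partialInner Θ (β : C → ℂ) with hψ
  have hψc : Cfsg.IsCharacter S ψ := partialInner_isCharacter hΘc β.2
  have hpm : ∀ x : S, x ≠ 1 → ψ x = 1 ∨ ψ x = -1 := fun x hx => (hvals x hx).1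
  obtain ⟨μ, k, ε, hε, hμsq, hμval, hψ1⟩ := abelian_char_pm_one hab hψc hpm
  have hn0 : (Nat.card S : ℂ) ≠ 0 := by
    have : 0 < Nat.card S := Nat.card_pos
    exact_mod_cast this.ne'
  -- the coefficients of the restriction to `C`
  have hcoef : ∀ β' : Cfsg.IrrCharacter C, ∃ q : ℕ, partialInner Θ (β' : C → ℂ) 1 =
      (Nat.card S : ℂ) * (q : ℂ) + (if β' = β then (ε : ℂ) else 0) := by
    intro β'
    by_cases hβ' : β' = β
    · refine ⟨k, ?_⟩
      rw [if_pos hβ', hβ']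
      change ψ 1 = _
      rw [hψ1]
      ring
    · rw [if_neg hβ']
      simp only [add_zero]
      have hψ'c : Cfsg.IsCharacter S (partialInner Θ (β' : C → ℂ)) :=
        partialInner_isCharacter hΘc β'.2
      obtain ⟨q, hq⟩ := classInner_char_char_nat hψ'c
        (IsIrrCharacter.isCharacter (isIrrCharacter_one (G := S)))
      refine ⟨q, ?_⟩
      rw [← hq, classInner_def, ← mul_assoc, mul_inv_cancel₀ hn0, one_mul]
      rw [Finset.sum_eq_single (1 : S)]
      · simp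
      · intro x _ hx
        rw [(hvals x hx).2.2 β' hβ', zero_mul]
      · intro h
        exact absurd (Finset.mem_univ _) h
  choose q hq using hcoef
  haveI : Finite (Cfsg.IrrCharacter C) := irr_finite
  haveI : Fintype (Cfsg.IrrCharacter C) := Fintype.ofFinite _
  set ϑ : C → ℂ := ∑ β' : Cfsg.IrrCharacter C, (q β') • (β' : C → ℂ) with hϑ
  have hϑc : Cfsg.IsCharacter C ϑ := by
    apply IsCharacter.sum
    intro β' _
    exact IsCharacter.nsmul (IsIrrCharacter.isCharacter β'.2) _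
  have hresC : Cfsg.IsCharacter C (fun c : C => (χh : Γ → ℂ) c) :=
    IsCharacter.restrict C (IsIrrCharacter.isCharacter χh.2)
  have hexp := classFunction_expansion (fun c : C => (χh : Γ → ℂ) c)
    (IsCharacter.isClassFunction hresC)
  have hcoef' : ∀ β' : Cfsg.IrrCharacter C,
      Cfsg.classInner (fun c : C => (χh : Γ → ℂ) c) (β' : C → ℂ) =
      (Nat.card S : ℂ) * (q β' : ℂ) + (if β' = β then (ε : ℂ) else 0) := by
    intro β'
    rw [← hq β', partialInner_apply]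
    congr 1
    funext c
    simp only [hΘ]
    rw [cycProdHom_apply, Subgroup.coe_one, mul_one]
  have hrestr : (fun c : C => (χ : G → ℂ) ⟨c, hCG c.2⟩) =
      fun c => (Nat.card S : ℂ) * ϑ c + (ε : ℂ) * (β : C → ℂ) c := by
    funext c
    have h1 : (χ : G → ℂ) ⟨c, hCG c.2⟩ = (χh : Γ → ℂ) c := (hext ⟨c, hCG c.2⟩).symm
    rw [h1]
    have h2 := congrFun hexp c
    rw [h2, Finset.sum_apply]
    simp only [Pi.smul_apply, smul_eq_mul, hcoef']
    rw [hϑ, Finset.sum_apply, Finset.mul_sum]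
    have h3 : ∀ β' : Cfsg.IrrCharacter C,
        ((Nat.card S : ℂ) * (q β' : ℂ) + (if β' = β then (ε : ℂ) else 0)) * (β' : C → ℂ) c =
        (Nat.card S : ℂ) * ((q β') • (β' : C → ℂ)) c +
          (if β' = β then (ε : ℂ) * (β' : C → ℂ) c else 0) := by
      intro β'
      rw [Pi.smul_apply, nsmul_eq_mul]
      split_ifs <;> ring
    rw [Finset.sum_congr rfl (fun β' _ => h3 β'), Finset.sum_add_distrib]
    congr 1
    rw [Finset.sum_ite_eq' Finset.univ β]
    simp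
  refine ⟨ε, hε, ⟨fun x => ((μ x : ℂˣ) : ℂ),
    IsIrrCharacter.isCharacter (isIrrCharacter_of_hom μ), ?_, ?_, ?_⟩, ⟨ϑ, hϑc, hrestr⟩, ?_⟩
  · simp
  · intro x
    have := hμsq x
    rw [← Units.val_mul, this, Units.val_one]
  · intro c x hx
    rw [(hvals x hx).2.1 c]
    change ψ x * _ = _
    rw [hμval x hx]
    ring
  · have h1 := congrFun hrestr 1
    have h2 : (χ : G → ℂ) ⟨((1 : C) : Γ), hCG (1 : C).2⟩ = (χ : G → ℂ) 1 := rfl
    rw [h2, ← charDegree_cast_of_isCharacter (IsIrrCharacter.isCharacter χ.2),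
      ← charDegree_cast_of_isCharacter (IsIrrCharacter.isCharacter β.2),
      ← charDegree_cast_of_isCharacter hϑc] at h1
    refine ⟨(Cfsg.charDegree ϑ : ℤ), ?_⟩
    have h3 : (((Cfsg.charDegree (χ : G → ℂ) : ℤ) - ε * (Cfsg.charDegree (β : C → ℂ) : ℤ) : ℤ) : ℂ)
        = (((Nat.card S : ℤ) * (Cfsg.charDegree ϑ : ℤ) : ℤ) : ℂ) := by
      push_cast
      rw [h1]
      ring
    exact_mod_cast h3

end Cfsg.Agent.Helper6
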