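import Mathlib
import Cfsg.Prelude.Def_Characters
import Cfsg.Agent.Helper6.Gallagher
import Cfsg.Agent.Helper6.CyclicExt
import Cfsg.Agent.Helper6.Inflation
import Cfsg.Agent.Helper6.Linear
import Cfsg.Agent.Helper6.BrauerPerm2

/-!
# Multiplicity one over a cyclic quotient (for S4564)

`N ⊴ G` with `G / N` cyclic, `λ ∈ Irr(N)` invariant in `G`, `χ ∈ Irr(G)` over `λ`:
then `[χ_N, λ] = 1`.
-/

set_option autoImplicit false
set_option linter.style.haveILetI false

namespace Cfsg.Agent.Helper6.CycSyl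

open Cfsg.Agent.Helper6
open scoped ComplexConjugate

universe u

variable {G : Type u} [Group G]

/-- Multiplicity one over a cyclic quotient, invariant case. -/
theorem classInner_eq_one_of_cyclic_quotient [Fintype G] (N : Subgroup G) [hN : N.Normal]
    [Fintype N] (hcyc : IsCyclic (G ⧸ N)) (lam : N → ℂ) (hlam : Cfsg.IsIrrCharacter N lam)
    (hinv : ∀ (g : G) (n : N), lam ⟨g * n * g⁻¹, hN.conj_mem (n : G) n.2 g⟩ = lam n)
    (χ : G → ℂ) (hχ : Cfsg.IsIrrCharacter G χ)
    (hne : Cfsg.classInner (fun n : N => χ n) lam ≠ 0) :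
    Cfsg.classInner (fun n : N => χ n) lam = 1 := by
  classical
  obtain ⟨k, ρ, hirr, rfl⟩ := hlam
  haveI := hirr
  obtain ⟨σ, hσirr, hσ⟩ := extend_rep_cyclic N hcyc ρ hinv
  have hext : Cfsg.IsIrrCharacter G σ.character := ⟨k, σ, hσirr, rfl⟩
  have hres : (fun n : N => σ.character n) = ρ.character := by
    ext n
    unfold Representation.character
    rw [hσ n]
  have hresirr : Cfsg.IsIrrCharacter N (fun n : N => σ.character n) := by
    rw [hres]
    exact ⟨k, ρ, hirr, rfl⟩
  obtain ⟨η, hη⟩ : ∃ η : G → ℂ, η = fun g => (Nat.card N : ℂ)⁻¹ *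
      ∑ n : N, χ ((n : G) * g) * conj (σ.character ((n : G) * g)) := ⟨_, rfl⟩
  have hga := (gallagher_avg N σ.character hext hresirr χ hχ η hη).1
  rw [hres] at hga
  have hηirr := hga hne
  have hη1 : η 1 = Cfsg.classInner (fun n : N => χ n) ρ.character := by
    rw [hη, ← hres]
    unfold Cfsg.classInner
    simp only [mul_one]
  have hker : ∀ n' ∈ N, η n' = η 1 := by
    intro n' hn'
    rw [hη]
    simp only [mul_one]
    congr 1
    apply Fintype.sum_equiv (Equiv.mulRight (⟨n', hn'⟩ : N))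
    intro n
    simp only [Equiv.coe_mulRight, Subgroup.coe_mul]
  obtain ⟨η', hη'⟩ := exists_deflate N ⟨η, hηirr⟩ hker
  have hcomm : ∀ a b : G ⧸ N, a * b = b * a := fun a b =>
    (IsCyclic.isMulCommutative (α := G ⧸ N)).is_comm.comm a b
  have hdeg := (comm_iff_forall_irr_degree_one.mp hcomm) η'
  have h1 : η 1 = 1 := by
    have := congrFun hη' 1
    simp only [Function.comp_apply, QuotientGroup.mk_one] at this
    rw [this, hdeg]
  rw [← hη1, h1]

/-- A subgroup quotient of a cyclic quotient is cyclic. -/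
theorem isCyclic_quotient_subgroupOf (R T : Subgroup G) [hR : R.Normal]
    (hcyc : IsCyclic (G ⧸ R)) : IsCyclic (↥T ⧸ R.subgroupOf T) := by
  let f : ↥T ⧸ R.subgroupOf T →* G ⧸ R :=
    QuotientGroup.map (R.subgroupOf T) R T.subtype (fun x hx => hx)
  have hf : Function.Injective f := by
    rw [injective_iff_map_eq_one]
    intro x hx
    obtain ⟨t, rfl⟩ := QuotientGroup.mk_surjective x
    have h1 : (QuotientGroup.mk ((t : ↥T) : G) : G ⧸ R) = 1 := hx
    rw [QuotientGroup.eq_one_iff] at h1 ⊢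
    exact h1
  exact isCyclic_of_injective f hf

/-- Multiplicity one over a cyclic quotient, for an intermediate subgroup `T` stabilizing `λ`. -/
theorem classInner_eq_one_of_cyclic_quotient_sub [Fintype G] (R T : Subgroup G) [hR : R.Normal]
    (hRT : R ≤ T) [Fintype R] [Fintype T] (hcyc : IsCyclic (G ⧸ R)) (lam : R → ℂ)
    (hlam : Cfsg.IsIrrCharacter R lam) (hinv : ∀ t ∈ T, conjFun R lam t = lam)
    (ξ : T → ℂ) (hξ : Cfsg.IsIrrCharacter T ξ)
    (hne : Cfsg.classInner (fun n : R => ξ ⟨(n : G), hRT n.2⟩) lam ≠ 0) :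
    Cfsg.classInner (fun n : R => ξ ⟨(n : G), hRT n.2⟩) lam = 1 := by
  classical
  haveI : Fintype (R.subgroupOf T) := Fintype.ofFinite _
  haveI hR' : (R.subgroupOf T).Normal := inferInstance
  obtain ⟨e, he⟩ : ∃ e : R.subgroupOf T ≃* R, e = Subgroup.subgroupOfEquivOfLe hRT := ⟨_, rfl⟩
  have hecoe : ∀ x : R.subgroupOf T, ((e x : R) : G) = ((x : T) : G) := by
    intro x
    rw [he]
    rfl
  have hlam' : Cfsg.IsIrrCharacter (R.subgroupOf T) (lam ∘ e) :=
    IsIrrCharacter.comp_mulEquiv e hlam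
  have hinv' : ∀ (g : T) (n : R.subgroupOf T),
      (lam ∘ e) ⟨g * n * g⁻¹, hR'.conj_mem (n : T) n.2 g⟩ = (lam ∘ e) n := by
    intro g n
    have h1 := congrFun (hinv (g : G) g.2) (e n)
    simp only [Function.comp_apply]
    rw [← h1]
    unfold conjFun
    congr 1
    apply Subtype.ext
    rw [hecoe]
    simp [hecoe]
  have hcyc' := isCyclic_quotient_subgroupOf R T hcyc
  have hrestr : (fun n : R.subgroupOf T => ξ (n : T)) =
      (fun n : R => ξ ⟨(n : G), hRT n.2⟩) ∘ e := by
    ext n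
    simp only [Function.comp_apply]
    congr 1
    apply Subtype.ext
    rw [hecoe]
  have htrans : Cfsg.classInner (fun n : R.subgroupOf T => ξ (n : T)) (lam ∘ e) =
      Cfsg.classInner (fun n : R => ξ ⟨(n : G), hRT n.2⟩) lam := by
    rw [hrestr]
    exact classInner_comp_equiv' e.toEquiv _ _
  rw [← htrans] at hne ⊢
  exact classInner_eq_one_of_cyclic_quotient (R.subgroupOf T) hcyc' (lam ∘ e) hlam' hinv' ξ hξ hne

end Cfsg.Agent.Helper6.CycSyl
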