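import Mathlib
import Cfsg.Prelude.Def_Characters
import Cfsg.Agent.Helper6.CycSylA
import Cfsg.Agent.Helper6.CliffordOrbit
import Cfsg.Agent.Helper6.CliffordCorr
import Cfsg.Agent.Helper6.FullyRamified
import Cfsg.Agent.Helper6.Degrees
import Cfsg.Agent.Helper6.IrrDegree
import Cfsg.Agent.Helper6.IrrCrit
import Cfsg.Agent.S0900

/-!
# Fully ramified characters and a normal subgroup with cyclic quotient (for S4564)

`ψ ∈ Irr(S)` fully ramified over `Z ⊴ S` (w.r.t. `θ`), `Z ≤ R ⊴ S` with `S / R` cyclic.  Then `S`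
permutes `Irr(R | θ)` transitively and the stabilizer of each member is `R`.
-/

set_option autoImplicit false
set_option linter.style.haveILetI false

namespace Cfsg.Agent.Helper6.CycSyl

open Cfsg.Agent.Helper6
open scoped ComplexConjugate

universe u

variable {S : Type u} [Group S]

/-- Lying over is transitive. -/
theorem over_trans [Fintype S] (Z R : Subgroup S) [Fintype Z] [Fintype R] (hZR : Z ≤ R)
    (a : R → ℂ) (ha : Cfsg.IsCharacter R a) (lam : R → ℂ) (hlam : Cfsg.IsIrrCharacter R lam)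
    (hal : Cfsg.classInner a lam ≠ 0) (θ : Z → ℂ) (hθ : Cfsg.IsIrrCharacter Z θ)
    (hover : Cfsg.classInner (fun z : Z => lam ⟨(z : S), hZR z.2⟩) θ ≠ 0) :
    Cfsg.classInner (fun z : Z => a ⟨(z : S), hZR z.2⟩) θ ≠ 0 := by
  classical
  have hΔ := sub_isCharacter_of_constituent ha hlam hal
  have hΔZ : Cfsg.IsCharacter Z (fun z : Z => (a - lam) ⟨(z : S), hZR z.2⟩) :=
    IsCharacter.comp_hom (Subgroup.inclusion hZR) hΔ
  have hlamZ : Cfsg.IsCharacter Z (fun z : Z => lam ⟨(z : S), hZR z.2⟩) :=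
    IsCharacter.comp_hom (Subgroup.inclusion hZR) (IsIrrCharacter.isCharacter hlam)
  obtain ⟨n1, hn1⟩ := classInner_char_char_nat hlamZ (IsIrrCharacter.isCharacter hθ)
  obtain ⟨n2, hn2⟩ := classInner_char_char_nat hΔZ (IsIrrCharacter.isCharacter hθ)
  have hsplit : (fun z : Z => a ⟨(z : S), hZR z.2⟩) =
      (fun z : Z => lam ⟨(z : S), hZR z.2⟩) + (fun z : Z => (a - lam) ⟨(z : S), hZR z.2⟩) := by
    ext z
    simp
  rw [hsplit, classInner_add_left, hn1, hn2]
  rw [hn1] at hover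
  have h1 : n1 ≠ 0 := fun h => hover (by rw [h, Nat.cast_zero])
  have h2 : n1 + n2 ≠ 0 := by omega
  exact_mod_cast h2

variable [Fintype S] (Z R : Subgroup S) [hZ : Z.Normal] [hR : R.Normal] [Fintype Z] [Fintype R]

/-- Every irreducible constituent of `λ^S`, for `λ ∈ Irr(R | θ)`, is `ψ`. -/
theorem eq_of_over (hZR : Z ≤ R) (θ : Z → ℂ) (hθ : Cfsg.IsIrrCharacter Z θ) (ψ : S → ℂ)
    (hψ : Cfsg.IsIrrCharacter S ψ) (f : ℕ) (hf : f ^ 2 = Z.index)
    (hres : ∀ z : Z, ψ z = (f : ℂ) * θ z)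
    (lam : R → ℂ) (hlam : Cfsg.IsIrrCharacter R lam)
    (hover : Cfsg.classInner (fun z : Z => lam ⟨(z : S), hZR z.2⟩) θ ≠ 0)
    (ψ' : S → ℂ) (hψ' : Cfsg.IsIrrCharacter S ψ')
    (hne : Cfsg.classInner (Cfsg.indFun R lam) ψ' ≠ 0) : ψ' = ψ := by
  classical
  have hψ'cf := IsCharacter.isClassFunction (IsIrrCharacter.isCharacter hψ')
  rw [frobenius_reciprocity R lam ψ' hψ'cf, classInner_conj_symm] at hne
  have hne' : Cfsg.classInner (fun n : R => ψ' n) lam ≠ 0 := by
    intro h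
    apply hne
    rw [h, map_zero]
  have h1 := over_trans Z R hZR (fun n : R => ψ' n)
    (IsCharacter.restrict R (IsIrrCharacter.isCharacter hψ')) lam hlam hne' θ hθ hover
  have hf0 : f ≠ 0 := by
    intro h0
    rw [h0] at hf
    have : Z.index ≠ 0 := Subgroup.index_ne_zero_of_finite
    exact this (by rw [← hf]; norm_num)
  have hcon : Cfsg.classInner (fun n : Z => ψ n) θ ≠ 0 := by
    have : (fun n : Z => ψ n) = (f : ℂ) • θ := by
      ext z
      rw [hres z]
      rfl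
    rw [this, classInner_smul_left, classInner_irr_self hθ, mul_one]
    exact_mod_cast hf0
  have hS := (Cfsg.Agent.S0900.result Z ψ hψ θ hθ hcon).2.mp ⟨f, by
    ext z
    rw [hres z]
    rfl, hf⟩
  apply (hS 1 1).2 ψ' hψ'
  rw [frobenius_reciprocity Z θ ψ' hψ'cf, classInner_conj_symm]
  intro h
  apply h1
  have := congrArg (starRingEnd ℂ) h
  rwa [Complex.conj_conj, map_zero] at this

/-- `λ ∈ Irr(R | θ)` lies under `ψ`. -/
theorem under_of_over (hZR : Z ≤ R) (θ : Z → ℂ) (hθ : Cfsg.IsIrrCharacter Z θ) (ψ : S → ℂ)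
    (hψ : Cfsg.IsIrrCharacter S ψ) (f : ℕ) (hf : f ^ 2 = Z.index)
    (hres : ∀ z : Z, ψ z = (f : ℂ) * θ z)
    (lam : R → ℂ) (hlam : Cfsg.IsIrrCharacter R lam)
    (hover : Cfsg.classInner (fun z : Z => lam ⟨(z : S), hZR z.2⟩) θ ≠ 0) :
    Cfsg.classInner (fun n : R => ψ n) lam ≠ 0 := by
  classical
  have hind := isCharacter_indFun R lam (IsIrrCharacter.isCharacter hlam)
  have hind0 : Cfsg.indFun R lam ≠ 0 := by
    intro h
    have h1 := indFun_apply_one R lam
    rw [h, Pi.zero_apply] at h1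
    have h2 : (R.index : ℂ) ≠ 0 := by
      have : R.index ≠ 0 := Subgroup.index_ne_zero_of_finite
      exact_mod_cast this
    have h3 := IsIrrCharacter.apply_one_ne_zero hlam
    exact (mul_ne_zero h2 h3) h1.symm
  obtain ⟨ψ', hψ', hne⟩ := exists_irr_constituent hind hind0
  have heq := eq_of_over Z R hZR θ hθ ψ hψ f hf hres lam hlam hover ψ' hψ' hne
  subst heq
  have hψcf := IsCharacter.isClassFunction (IsIrrCharacter.isCharacter hψ')
  rw [frobenius_reciprocity R lam ψ' hψcf, classInner_conj_symm] at hne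
  intro h
  apply hne
  rw [h, map_zero]

/-- `S` permutes `Irr(R | θ)` transitively. -/
theorem exists_conj_of_over (hZR : Z ≤ R) (θ : Z → ℂ) (hθ : Cfsg.IsIrrCharacter Z θ) (ψ : S → ℂ)
    (hψ : Cfsg.IsIrrCharacter S ψ) (f : ℕ) (hf : f ^ 2 = Z.index)
    (hres : ∀ z : Z, ψ z = (f : ℂ) * θ z)
    (lam : R → ℂ) (hlam : Cfsg.IsIrrCharacter R lam)
    (hover : Cfsg.classInner (fun z : Z => lam ⟨(z : S), hZR z.2⟩) θ ≠ 0)
    (lam' : R → ℂ) (hlam' : Cfsg.IsIrrCharacter R lam')
    (hover' : Cfsg.classInner (fun z : Z => lam' ⟨(z : S), hZR z.2⟩) θ ≠ 0) :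
    ∃ s : S, lam' = conjFun R lam s :=
  conj_of_constituents R ψ hψ lam hlam
    (under_of_over Z R hZR θ hθ ψ hψ f hf hres lam hlam hover) lam' hlam'
    (under_of_over Z R hZR θ hθ ψ hψ f hf hres lam' hlam' hover')

/-- The stabilizer in `S` of `λ ∈ Irr(R | θ)` is `R`, when `S / R` is cyclic. -/
theorem mem_of_conjFun_eq (hZR : Z ≤ R) (hcyc : IsCyclic (S ⧸ R)) (θ : Z → ℂ)
    (hθ : Cfsg.IsIrrCharacter Z θ) (ψ : S → ℂ)
    (hψ : Cfsg.IsIrrCharacter S ψ) (f : ℕ) (hf : f ^ 2 = Z.index)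
    (hres : ∀ z : Z, ψ z = (f : ℂ) * θ z)
    (lam : R → ℂ) (hlam : Cfsg.IsIrrCharacter R lam)
    (hover : Cfsg.classInner (fun z : Z => lam ⟨(z : S), hZR z.2⟩) θ ≠ 0)
    (s : S) (hs : conjFun R lam s = lam) : s ∈ R := by
  classical
  haveI : Finite (Cfsg.IrrCharacter S) := irr_finite
  haveI : Fintype (Cfsg.IrrCharacter S) := Fintype.ofFinite _
  have hunder := under_of_over Z R hZR θ hθ ψ hψ f hf hres lam hlam hover
  obtain ⟨T, hTdef⟩ : ∃ T : Subgroup S, T = conjStab R lam := ⟨_, rfl⟩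
  haveI : Fintype T := Fintype.ofFinite _
  have hlamcf := IsCharacter.isClassFunction (IsIrrCharacter.isCharacter hlam)
  have hRT : R ≤ T := by
    rw [hTdef]
    exact le_conjStab_of_isClassFunction R lam hlamcf
  have hT : ∀ g : S, g ∈ T ↔ ∀ n : R, lam ⟨g * n * g⁻¹, hR.conj_mem (n : S) n.2 g⟩ = lam n := by
    intro g
    rw [hTdef, mem_conjStab]
    constructor
    · intro h n
      exact congrFun h n
    · intro h
      funext n
      exact h n
  obtain ⟨ξ, hξ, hξind, hξres⟩ := clifford_correspondence R lam hlam T hT hRT ψ hψ hunder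
  have hinvT : ∀ t ∈ T, conjFun R lam t = lam := by
    intro t ht
    rw [hTdef, mem_conjStab] at ht
    exact ht
  have hne' : Cfsg.classInner (fun n : R => ξ ⟨(n : S), hRT n.2⟩) lam ≠ 0 := by
    rw [hξres]
    exact hunder
  have hone := classInner_eq_one_of_cyclic_quotient_sub R T hRT hcyc lam hlam hinvT ξ hξ hne'
  rw [hξres] at hone
  -- `[λ^S, λ^S] = 1`
  have hψcf := IsCharacter.isClassFunction (IsIrrCharacter.isCharacter hψ)
  have hindψ : Cfsg.classInner (Cfsg.indFun R lam) ψ = 1 := by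
    rw [frobenius_reciprocity R lam ψ hψcf, classInner_conj_symm, hone, map_one]
  have hnorm : Cfsg.classInner (Cfsg.indFun R lam) (Cfsg.indFun R lam) = 1 := by
    rw [classInner_self_expansion _ (indFun_isClassFunction R lam)]
    rw [Finset.sum_eq_single (⟨ψ, hψ⟩ : Cfsg.IrrCharacter S)]
    · simp only
      rw [hindψ, classInner_conj_symm, hindψ, map_one, mul_one]
    · intro ψ' _ hψ'
      have : Cfsg.classInner (Cfsg.indFun R lam) (ψ' : S → ℂ) = 0 := by
        by_contra hne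
        exact hψ' (Subtype.ext
          (eq_of_over Z R hZR θ hθ ψ hψ f hf hres lam hlam hover ψ'.1 ψ'.2 hne))
      rw [this, zero_mul]
    · intro h
      exact absurd (Finset.mem_univ _) h
  have hcard := card_mul_classInner_indFun_normal R lam hlam
  rw [hnorm, mul_one] at hcard
  have hcardT : Nat.card {g : S // conjFun R lam g = lam} = Nat.card T := by
    rw [hTdef]
    rfl
  rw [hcardT] at hcard
  have hcard' : Nat.card R = Nat.card T := by exact_mod_cast hcard
  have hTR : R = T := Subgroup.eq_of_le_of_card_ge hRT hcard'.symm.le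
  rw [hTR, hTdef, mem_conjStab]
  exact hs

end Cfsg.Agent.Helper6.CycSyl
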