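import Mathlib
import Cfsg.Prelude.Def_Characters
import Cfsg.Agent.Helper6.CliffordCorr
import Cfsg.Agent.Helper6.FullyRamified
import Cfsg.Agent.Helper6.Regular
import Cfsg.Agent.Helper6.Expansion
import Cfsg.Agent.Helper6.IrrCrit
import Cfsg.Agent.Helper6.IrrDegree
import Cfsg.Agent.S0900

/-!
# Fully ramified characters restrict to Sylow preimages (DeMeyer–Janusz; for S4564)

`χ ∈ Irr(H)` fully ramified over `Z ⊴ H` w.r.t. `θ`; `Z ≤ S ≤ H` with `|H : S|` prime to `p` and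
`|S : Z|` a power of `p`.  Then some `ψ ∈ Irr(S)` is fully ramified over `Z` w.r.t. `θ`.
-/

set_option autoImplicit false
set_option linter.style.haveILetI false

namespace Cfsg.Agent.Helper6.CycSyl

open Cfsg.Agent.Helper6
open scoped ComplexConjugate

universe u

/-- The equality case of the Cauchy–Schwarz inequality, for integer vectors. -/
theorem cs_eq_case {ι : Type*} [Fintype ι] (a f : ι → ℤ)
    (h : (∑ i, a i * f i) ^ 2 = (∑ i, a i ^ 2) * (∑ i, f i ^ 2)) (i : ι) :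
    a i * ∑ j, f j ^ 2 = f i * ∑ j, a j * f j := by
  classical
  have hL : ∑ i, ∑ j, (a i * f j - a j * f i) ^ 2 =
      2 * ((∑ i, a i ^ 2) * (∑ i, f i ^ 2)) - 2 * (∑ i, a i * f i) ^ 2 := by
    have h1 : ∀ i j, (a i * f j - a j * f i) ^ 2 =
        a i ^ 2 * f j ^ 2 - 2 * ((a i * f i) * (a j * f j)) + f i ^ 2 * a j ^ 2 := by
      intro i j
      ring
    simp_rw [h1, Finset.sum_add_distrib, Finset.sum_sub_distrib, ← Finset.mul_sum,
      ← Finset.sum_mul]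
    rw [sq (∑ i, a i * f i)]
    ring
  rw [h, sub_self] at hL
  have h2 : ∀ i ∈ (Finset.univ : Finset ι), ∑ j, (a i * f j - a j * f i) ^ 2 = 0 := by
    apply (Finset.sum_eq_zero_iff_of_nonneg _).mp hL
    intro i _
    exact Finset.sum_nonneg (fun j _ => sq_nonneg _)
  have h3 : ∀ j, a i * f j = a j * f i := by
    intro j
    have h4 := (Finset.sum_eq_zero_iff_of_nonneg (fun j _ => sq_nonneg _)).mp
      (h2 i (Finset.mem_univ i)) j (Finset.mem_univ j)
    have h5 := pow_eq_zero_iff (two_ne_zero) |>.mp h4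
    linarith
  rw [Finset.mul_sum, Finset.mul_sum]
  apply Finset.sum_congr rfl
  intro j _
  have := h3 j
  calc a i * f j ^ 2 = (a i * f j) * f j := by ring
    _ = (a j * f i) * f j := by rw [this]
    _ = f i * (a j * f j) := by ring

variable {H : Type u} [Group H]

set_option maxHeartbeats 1000000 in
/-- DeMeyer–Janusz: a fully ramified character stays fully ramified in `S ≥ Z` when `|H : S|` is
prime to `p` and `|S : Z|` is a power of `p`. -/
theorem exists_fullyRamified_sub [Fintype H] (Z S : Subgroup H) [hZ : Z.Normal] [Fintype Z]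
    [Fintype S] (hZS : Z ≤ S) (χ : H → ℂ) (hχ : Cfsg.IsIrrCharacter H χ) (θ : Z → ℂ)
    (hθ : Cfsg.IsIrrCharacter Z θ) (e : ℕ) (he : e ^ 2 = Z.index)
    (hres : ∀ z : Z, χ z = (e : ℂ) * θ z)
    (p : ℕ) (hp : p.Prime) (hidx : ¬ p ∣ S.index) (k : ℕ) (hk : Z.relIndex S = p ^ k) :
    ∃ ψ : S → ℂ, Cfsg.IsIrrCharacter S ψ ∧ ∃ f : ℕ, f ^ 2 = Z.relIndex S ∧
      ∀ z : Z, ψ ⟨(z : H), hZS z.2⟩ = (f : ℂ) * θ z := by
  classical
  haveI : Finite (Cfsg.IrrCharacter S) := irr_finite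
  haveI : Fintype (Cfsg.IrrCharacter S) := Fintype.ofFinite _
  have he0 : e ≠ 0 := by
    intro h0
    rw [h0] at he
    have : Z.index ≠ 0 := Subgroup.index_ne_zero_of_finite
    exact this (by rw [← he]; norm_num)
  have hresfun : (fun n : Z => χ n) = (e : ℂ) • θ := by
    ext z
    rw [hres z]
    rfl
  have hcon_eq : Cfsg.classInner (fun n : Z => χ n) θ = (e : ℂ) := by
    rw [hresfun, classInner_smul_left, classInner_irr_self hθ, mul_one]
  have hcon : Cfsg.classInner (fun n : Z => χ n) θ ≠ 0 := by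
    rw [hcon_eq]
    exact_mod_cast he0
  obtain ⟨hvan, hinv⟩ := (Cfsg.Agent.S0900.result Z χ hχ θ hθ hcon).1.mp ⟨e, hresfun, he⟩
  have hχchar := IsIrrCharacter.isCharacter hχ
  have hχS : Cfsg.IsCharacter S (fun s : S => χ s) := IsCharacter.restrict S hχchar
  have hχScf := IsCharacter.isClassFunction hχS
  have hθchar := IsIrrCharacter.isCharacter hθ
  -- multiplicities
  have hex_a : ∀ ψ : Cfsg.IrrCharacter S, ∃ n : ℕ,
      Cfsg.classInner (fun s : S => χ s) (ψ : S → ℂ) = n :=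
    fun ψ => classInner_char_char_nat hχS (IsIrrCharacter.isCharacter ψ.2)
  choose a ha using hex_a
  have hψZ : ∀ ψ : Cfsg.IrrCharacter S,
      Cfsg.IsCharacter Z (fun z : Z => (ψ : S → ℂ) ⟨(z : H), hZS z.2⟩) :=
    fun ψ => IsCharacter.comp_hom (Subgroup.inclusion hZS) (IsIrrCharacter.isCharacter ψ.2)
  have hex_f : ∀ ψ : Cfsg.IrrCharacter S, ∃ n : ℕ,
      Cfsg.classInner (fun z : Z => (ψ : S → ℂ) ⟨(z : H), hZS z.2⟩) θ = n :=
    fun ψ => classInner_char_char_nat (hψZ ψ) hθchar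
  choose fz hfz using hex_f
  -- (1) `Σ a² = |H : S|`
  have h1 : (∑ ψ : Cfsg.IrrCharacter S, (a ψ : ℂ) ^ 2) = (S.index : ℂ) := by
    have hv : ∀ g : H, g ∉ S → χ g = 0 := fun g hg => hvan g (fun h => hg (hZS h))
    have h := (vanish_off_iff_classInner_restrict S χ hχ).mp hv
    rw [classInner_self_expansion _ hχScf] at h
    rw [← h]
    apply Finset.sum_congr rfl
    intro ψ _
    rw [classInner_conj_symm (fun s : S => χ s) (ψ : S → ℂ), ha ψ, Complex.conj_natCast]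
    ring
  -- (2) `Σ a f = e`
  have h2 : (∑ ψ : Cfsg.IrrCharacter S, (a ψ : ℂ) * (fz ψ : ℂ)) = (e : ℂ) := by
    have hexp := classFunction_expansion (fun s : S => χ s) hχScf
    have hZexp : (fun z : Z => χ z) = ∑ ψ : Cfsg.IrrCharacter S,
        (a ψ : ℂ) • (fun z : Z => (ψ : S → ℂ) ⟨(z : H), hZS z.2⟩) := by
      ext z
      have h := congrFun hexp ⟨(z : H), hZS z.2⟩
      simp only [Finset.sum_apply, Pi.smul_apply, smul_eq_mul] at h ⊢
      rw [h]
      apply Finset.sum_congr rfl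
      intro ψ _
      rw [ha ψ]
    rw [hZexp, classInner_sum_left] at hcon_eq
    rw [← hcon_eq]
    apply Finset.sum_congr rfl
    intro ψ _
    rw [classInner_smul_left, hfz ψ]
  -- (3) `Σ f² = |S : Z|`
  have hinv' : ∀ t ∈ S, conjFun Z θ t = θ := by
    intro t _
    funext n
    exact hinv t n
  obtain ⟨d, hd0, hd⟩ := IsIrrCharacter.apply_one_pos hθ
  have hdeg : ∀ ψ : Cfsg.IrrCharacter S, (ψ : S → ℂ) 1 * (fz ψ : ℂ) = (fz ψ : ℂ) ^ 2 * (d : ℂ) := by
    intro ψ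
    by_cases h0 : fz ψ = 0
    · rw [h0]
      simp
    · have hne : Cfsg.classInner (fun z : Z => (ψ : S → ℂ) ⟨(z : H), hZS z.2⟩) θ ≠ 0 := by
        rw [hfz ψ]
        exact_mod_cast h0
      have h := clifford_of_invariant Z S hZS θ hθ hinv' ψ.1 ψ.2 hne
      have h' := congrFun h 1
      simp only [Pi.smul_apply, smul_eq_mul, hfz ψ, OneMemClass.coe_one] at h'
      have h'' : (ψ : S → ℂ) 1 = (fz ψ : ℂ) * (d : ℂ) := by
        rw [← hd, ← h']
        rfl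
      rw [h'']
      ring
  have hcardS : (Nat.card S : ℂ) = (Z.relIndex S : ℂ) * (Nat.card Z : ℂ) := by
    have h := Subgroup.card_mul_index (Z.subgroupOf S)
    rw [Nat.card_congr (Subgroup.subgroupOfEquivOfLe hZS).toEquiv] at h
    have h' : Z.relIndex S = (Z.subgroupOf S).index := rfl
    rw [h', ← h]
    push_cast
    ring
  have hZ0 : (Nat.card Z : ℂ) ≠ 0 := by
    have : 0 < Nat.card Z := Nat.card_pos
    exact_mod_cast this.ne'
  have h3 : (∑ ψ : Cfsg.IrrCharacter S, (fz ψ : ℂ) ^ 2) = (Z.relIndex S : ℂ) := by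
    obtain ⟨F, hF⟩ : ∃ F : Z → ℂ, F = fun z : Z => ∑ ψ : Cfsg.IrrCharacter S,
        (ψ : S → ℂ) 1 * (ψ : S → ℂ) ⟨(z : H), hZS z.2⟩ := ⟨_, rfl⟩
    have hF1 : F = ∑ ψ : Cfsg.IrrCharacter S,
        ((ψ : S → ℂ) 1) • (fun z : Z => (ψ : S → ℂ) ⟨(z : H), hZS z.2⟩) := by
      rw [hF]
      ext z
      simp only [Finset.sum_apply, Pi.smul_apply, smul_eq_mul]
    have hF2 : F = fun z : Z => if z = 1 then (Nat.card S : ℂ) else 0 := by
      rw [hF]
      ext z
      rw [sum_degree_mul_irr]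
      by_cases hz : z = 1
      · rw [if_pos hz, if_pos]
        rw [hz]
        rfl
      · rw [if_neg hz, if_neg]
        intro h
        apply hz
        apply Subtype.ext
        have := congrArg (fun x : S => (x : H)) h
        simpa using this
    have hA : Cfsg.classInner F θ = ∑ ψ : Cfsg.IrrCharacter S, (fz ψ : ℂ) ^ 2 * (d : ℂ) := by
      rw [hF1, classInner_sum_left]
      apply Finset.sum_congr rfl
      intro ψ _
      rw [classInner_smul_left, hfz ψ, hdeg ψ]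
    have hB : Cfsg.classInner F θ = (Z.relIndex S : ℂ) * (d : ℂ) := by
      rw [hF2, classInner_def]
      rw [Finset.sum_eq_single (1 : Z)]
      · rw [if_pos rfl, hd, Complex.conj_natCast, hcardS]
        field_simp
      · intro z _ hz
        rw [if_neg hz, zero_mul]
      · intro h
        exact absurd (Finset.mem_univ _) h
    rw [hA, ← Finset.sum_mul] at hB
    have hd0' : (d : ℂ) ≠ 0 := by exact_mod_cast hd0.ne'
    exact mul_right_cancel₀ hd0' hB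
  -- integer versions
  have h1' : (∑ ψ : Cfsg.IrrCharacter S, (a ψ : ℤ) ^ 2) = (S.index : ℤ) := by
    have : ((∑ ψ : Cfsg.IrrCharacter S, (a ψ : ℤ) ^ 2 : ℤ) : ℂ) = ((S.index : ℤ) : ℂ) := by
      push_cast
      exact h1
    exact_mod_cast this
  have h2' : (∑ ψ : Cfsg.IrrCharacter S, (a ψ : ℤ) * (fz ψ : ℤ)) = (e : ℤ) := by
    have : ((∑ ψ : Cfsg.IrrCharacter S, (a ψ : ℤ) * (fz ψ : ℤ) : ℤ) : ℂ) = ((e : ℤ) : ℂ) := by
      push_cast
      exact h2
    exact_mod_cast this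
  have h3' : (∑ ψ : Cfsg.IrrCharacter S, (fz ψ : ℤ) ^ 2) = (Z.relIndex S : ℤ) := by
    have : ((∑ ψ : Cfsg.IrrCharacter S, (fz ψ : ℤ) ^ 2 : ℤ) : ℂ) = ((Z.relIndex S : ℤ) : ℂ) := by
      push_cast
      exact h3
    exact_mod_cast this
  have hidxmul : Z.relIndex S * S.index = Z.index := Subgroup.relIndex_mul_index hZS
  have hcs : (∑ ψ : Cfsg.IrrCharacter S, (a ψ : ℤ) * (fz ψ : ℤ)) ^ 2 =
      (∑ ψ : Cfsg.IrrCharacter S, (a ψ : ℤ) ^ 2) * (∑ ψ : Cfsg.IrrCharacter S, (fz ψ : ℤ) ^ 2) := by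
    rw [h1', h2', h3']
    have : (e : ℤ) ^ 2 = (Z.index : ℤ) := by exact_mod_cast he
    rw [this, ← hidxmul]
    push_cast
    ring
  -- choose `ψ₀` over `θ`
  obtain ⟨ψ₀, hψ₀⟩ : ∃ ψ₀ : Cfsg.IrrCharacter S, fz ψ₀ ≠ 0 := by
    by_contra hcon'
    push Not at hcon'
    have : (∑ ψ : Cfsg.IrrCharacter S, (fz ψ : ℤ) ^ 2) = 0 := by
      apply Finset.sum_eq_zero
      intro ψ _
      rw [hcon' ψ]
      simp
    rw [h3'] at this
    have h0 : Z.relIndex S ≠ 0 := by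
      rw [hk]
      exact pow_ne_zero _ hp.ne_zero
    exact h0 (by exact_mod_cast this)
  have hkey := cs_eq_case (fun ψ : Cfsg.IrrCharacter S => (a ψ : ℤ)) (fun ψ => (fz ψ : ℤ)) hcs ψ₀
  rw [h3', h2'] at hkey
  have hkey' : a ψ₀ * Z.relIndex S = fz ψ₀ * e := by exact_mod_cast hkey
  rw [hk] at hkey'
  -- `p ^ k ∣ f₀ ^ 2`
  have hdiv : p ^ k ∣ fz ψ₀ ^ 2 := by
    have h4 : (fz ψ₀ * e) ^ 2 = (a ψ₀ * p ^ k) ^ 2 := by rw [hkey']
    have h5 : fz ψ₀ ^ 2 * S.index * p ^ k = a ψ₀ ^ 2 * p ^ k * p ^ k := by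
      have : e ^ 2 = p ^ k * S.index := by rw [he, ← hidxmul, hk]
      calc fz ψ₀ ^ 2 * S.index * p ^ k = fz ψ₀ ^ 2 * (p ^ k * S.index) := by ring
        _ = fz ψ₀ ^ 2 * e ^ 2 := by rw [this]
        _ = (fz ψ₀ * e) ^ 2 := by ring
        _ = (a ψ₀ * p ^ k) ^ 2 := h4
        _ = a ψ₀ ^ 2 * p ^ k * p ^ k := by ring
    have hpk0 : 0 < p ^ k := pow_pos hp.pos k
    have h6 : fz ψ₀ ^ 2 * S.index = a ψ₀ ^ 2 * p ^ k := Nat.eq_of_mul_eq_mul_right hpk0 h5
    have h7 : p ^ k ∣ fz ψ₀ ^ 2 * S.index := ⟨a ψ₀ ^ 2, by rw [h6]; ring⟩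
    have hcop : Nat.Coprime (p ^ k) S.index :=
      Nat.Coprime.pow_left k ((Nat.Prime.coprime_iff_not_dvd hp).mpr hidx)
    exact hcop.dvd_of_dvd_mul_right h7
  have hle : p ^ k ≤ fz ψ₀ ^ 2 :=
    Nat.le_of_dvd (pow_pos (Nat.pos_of_ne_zero hψ₀) 2) hdiv
  have hge : fz ψ₀ ^ 2 ≤ p ^ k := by
    have h8 : ((fz ψ₀ : ℤ) ^ 2) ≤ ∑ ψ : Cfsg.IrrCharacter S, (fz ψ : ℤ) ^ 2 :=
      Finset.single_le_sum (f := fun ψ : Cfsg.IrrCharacter S => (fz ψ : ℤ) ^ 2)
        (fun ψ _ => sq_nonneg _) (Finset.mem_univ ψ₀)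
    rw [h3', hk] at h8
    exact_mod_cast h8
  refine ⟨ψ₀.1, ψ₀.2, fz ψ₀, ?_, ?_⟩
  · rw [hk]
    exact le_antisymm hge hle
  · have hne : Cfsg.classInner (fun z : Z => (ψ₀ : S → ℂ) ⟨(z : H), hZS z.2⟩) θ ≠ 0 := by
      rw [hfz ψ₀]
      exact_mod_cast hψ₀
    have h := clifford_of_invariant Z S hZS θ hθ hinv' ψ₀.1 ψ₀.2 hne
    intro z
    have h' := congrFun h z
    simp only [Pi.smul_apply, smul_eq_mul, hfz ψ₀] at h'
    exact h'

end Cfsg.Agent.Helper6.CycSyl
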