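import Mathlib

/-!
# Group-theoretic lemmas for S4564

* `relIndex_eq_of_mul`: if `N = S A` then `|S : S ∩ A| = |N : A|`;
* `nConj`: conjugation by an element normalizing `S ⊓ K`, as an automorphism of `K.subgroupOf S`;
* a Frattini-type statement for `(S₀ ⊔ Z) ⊓ K`.
-/

set_option autoImplicit false
set_option linter.style.haveILetI false

namespace Cfsg.Agent.Helper6.CycSyl

universe u

variable {G : Type u} [Group G]

/-- If `N = S A` (as sets) then `|S : S ∩ A| = |N : A|`. -/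
theorem relIndex_eq_of_mul (S A N : Subgroup G) (hS : S ≤ N)
    (h : ∀ n ∈ N, ∃ s ∈ S, ∃ a ∈ A, n = s * a) : A.relIndex S = A.relIndex N := by
  have hsurj : Function.Surjective (Subgroup.quotientSubgroupOfEmbeddingOfLE A hS) := by
    intro x
    obtain ⟨n, rfl⟩ := QuotientGroup.mk_surjective x
    obtain ⟨s, hs, a, ha, hn⟩ := h n n.2
    refine ⟨QuotientGroup.mk ⟨s, hs⟩, ?_⟩
    rw [Subgroup.quotientSubgroupOfEmbeddingOfLE_apply_mk, QuotientGroup.eq]
    rw [Subgroup.mem_subgroupOf]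
    have : (((Subgroup.inclusion hS ⟨s, hs⟩)⁻¹ * n : ↥N) : G) = a := by
      simp only [Subgroup.coe_mul, Subgroup.coe_inv, Subgroup.coe_inclusion]
      rw [hn]
      group
    rw [this]
    exact ha
  exact Nat.card_congr (Equiv.ofBijective _
    ⟨(Subgroup.quotientSubgroupOfEmbeddingOfLE A hS).injective, hsurj⟩)

/-- Conjugation by `g ∈ N_G(S ⊓ K)` on `K.subgroupOf S`. -/
def nConj (S K : Subgroup G) (g : G)
    (hg : g ∈ Subgroup.normalizer ((S ⊓ K : Subgroup G) : Set G)) :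
    ↥(K.subgroupOf S) ≃* ↥(K.subgroupOf S) where
  toFun r := ⟨⟨g * ((r : ↥S) : G) * g⁻¹,
      ((Subgroup.mem_normalizer_iff.mp hg _).mp ⟨r.1.2, r.2⟩).1⟩,
      ((Subgroup.mem_normalizer_iff.mp hg _).mp ⟨r.1.2, r.2⟩).2⟩
  invFun r := ⟨⟨g⁻¹ * ((r : ↥S) : G) * g,
      ((Subgroup.mem_normalizer_iff''.mp hg _).mp ⟨r.1.2, r.2⟩).1⟩,
      ((Subgroup.mem_normalizer_iff''.mp hg _).mp ⟨r.1.2, r.2⟩).2⟩
  left_inv r := by
    apply Subtype.ext
    apply Subtype.ext
    simp only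
    group
  right_inv r := by
    apply Subtype.ext
    apply Subtype.ext
    simp only
    group
  map_mul' r₁ r₂ := by
    apply Subtype.ext
    apply Subtype.ext
    simp only [Subgroup.coe_mul]
    group

theorem nConj_coe (S K : Subgroup G) (g : G)
    (hg : g ∈ Subgroup.normalizer ((S ⊓ K : Subgroup G) : Set G)) (r : ↥(K.subgroupOf S)) :
    (((nConj S K g hg r : ↥(K.subgroupOf S)) : ↥S) : G) = g * ((r : ↥S) : G) * g⁻¹ := rfl

theorem nConj_mul (S K : Subgroup G) (g₁ g₂ : G)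
    (h₁ : g₁ ∈ Subgroup.normalizer ((S ⊓ K : Subgroup G) : Set G))
    (h₂ : g₂ ∈ Subgroup.normalizer ((S ⊓ K : Subgroup G) : Set G))
    (h₁₂ : g₁ * g₂ ∈ Subgroup.normalizer ((S ⊓ K : Subgroup G) : Set G))
    (r : ↥(K.subgroupOf S)) :
    nConj S K (g₁ * g₂) h₁₂ r = nConj S K g₁ h₁ (nConj S K g₂ h₂ r) := by
  apply Subtype.ext
  apply Subtype.ext
  rw [nConj_coe, nConj_coe, nConj_coe]
  group

theorem nConj_one (S K : Subgroup G)
    (h : (1 : G) ∈ Subgroup.normalizer ((S ⊓ K : Subgroup G) : Set G))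
    (r : ↥(K.subgroupOf S)) : nConj S K 1 h r = r := by
  apply Subtype.ext
  apply Subtype.ext
  rw [nConj_coe]
  group

/-- The stabilizer in `N_G(S ⊓ K)` of a function on `K.subgroupOf S`. -/
def stabN (S K : Subgroup G) (η : ↥(K.subgroupOf S) → ℂ) : Subgroup G where
  carrier := {g | ∃ hg : g ∈ Subgroup.normalizer ((S ⊓ K : Subgroup G) : Set G),
    ∀ r, η (nConj S K g hg r) = η r}
  one_mem' := ⟨one_mem _, fun r => by rw [nConj_one]⟩
  mul_mem' := by
    rintro a b ⟨ha, ha'⟩ ⟨hb, hb'⟩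
    refine ⟨mul_mem ha hb, fun r => ?_⟩
    rw [nConj_mul S K a b ha hb, ha', hb']
  inv_mem' := by
    rintro a ⟨ha, ha'⟩
    refine ⟨inv_mem ha, fun r => ?_⟩
    rw [← ha' (nConj S K a⁻¹ (inv_mem ha) r)]
    congr 1
    apply Subtype.ext
    apply Subtype.ext
    rw [nConj_coe, nConj_coe]
    group

theorem mem_stabN (S K : Subgroup G) (η : ↥(K.subgroupOf S) → ℂ) (g : G) :
    g ∈ stabN S K η ↔ ∃ hg : g ∈ Subgroup.normalizer ((S ⊓ K : Subgroup G) : Set G),
      ∀ r, η (nConj S K g hg r) = η r := Iff.rfl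

theorem stabN_le_normalizer (S K : Subgroup G) (η : ↥(K.subgroupOf S) → ℂ) :
    stabN S K η ≤ Subgroup.normalizer ((S ⊓ K : Subgroup G) : Set G) := by
  rintro g ⟨hg, -⟩
  exact hg

/-- `S ⊓ K` stabilizes class functions. -/
theorem inf_le_stabN (S K : Subgroup G) (η : ↥(K.subgroupOf S) → ℂ)
    (hη : ∀ g h : ↥(K.subgroupOf S), η (h * g * h⁻¹) = η g) : S ⊓ K ≤ stabN S K η := by
  intro x hx
  refine ⟨Subgroup.le_normalizer hx, fun r => ?_⟩
  have : nConj S K x (Subgroup.le_normalizer hx) r =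
      (⟨⟨x, hx.1⟩, hx.2⟩ : ↥(K.subgroupOf S)) * r * (⟨⟨x, hx.1⟩, hx.2⟩ : ↥(K.subgroupOf S))⁻¹ := by
    apply Subtype.ext
    apply Subtype.ext
    rw [nConj_coe]
    rfl
  rw [this]
  exact hη r _

/-- A Frattini-type argument for `(S₀ ⊔ Z) ⊓ K`. -/
theorem exists_sylow_frattini [Finite G] (p : ℕ) [hp : Fact p.Prime] (Z K : Subgroup G)
    [hZ : Z.Normal] [hK : K.Normal] (hZK : Z ≤ K) :
    ∃ S₀ : Sylow p G, ∀ h : G, ∃ n ∈ Subgroup.normalizer
      (((((S₀ : Subgroup G) ⊔ Z) ⊓ K : Subgroup G)) : Set G), ∃ k ∈ K, h = n * k := by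
  classical
  obtain ⟨PK⟩ : Nonempty (Sylow p K) := inferInstance
  have hPKp : IsPGroup p ((PK : Subgroup K).map K.subtype) := PK.2.map K.subtype
  obtain ⟨S₀, hS₀⟩ := hPKp.exists_le_sylow
  have hinf : ((S₀ : Subgroup G) ⊓ K) = (PK : Subgroup K).map K.subtype := by
    apply le_antisymm
    · intro y hy
      have hQ : IsPGroup p (((S₀ : Subgroup G) ⊓ K).subgroupOf K) := by
        have h1 : IsPGroup p ((S₀ : Subgroup G) ⊓ K : Subgroup G) := S₀.2.to_le inf_le_left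
        exact h1.comap_subtype
      have hle : (PK : Subgroup K) ≤ ((S₀ : Subgroup G) ⊓ K).subgroupOf K := by
        intro x hx
        rw [Subgroup.mem_subgroupOf]
        exact ⟨hS₀ (Subgroup.mem_map_of_mem _ hx), x.2⟩
      have heq := PK.is_maximal' hQ hle
      have hy' : (⟨y, hy.2⟩ : K) ∈ ((S₀ : Subgroup G) ⊓ K).subgroupOf K := by
        rw [Subgroup.mem_subgroupOf]
        exact hy
      rw [heq] at hy'
      exact ⟨⟨y, hy.2⟩, hy', rfl⟩
    · apply le_inf hS₀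
      rintro _ ⟨x, -, rfl⟩
      exact x.2
  have hkey : ∀ g ∈ Subgroup.normalizer ((((PK : Subgroup K).map K.subtype : Subgroup G)) : Set G),
      ∀ x ∈ (((S₀ : Subgroup G) ⊔ Z) ⊓ K : Subgroup G),
        g * x * g⁻¹ ∈ (((S₀ : Subgroup G) ⊔ Z) ⊓ K : Subgroup G) := by
    intro g hg x hx
    obtain ⟨hx1, hx2⟩ := Subgroup.mem_inf.mp hx
    rw [← SetLike.mem_coe, Subgroup.mul_normal] at hx1
    obtain ⟨s₀, hs₀, z, hz, rfl⟩ := Set.mem_mul.mp hx1
    have hs₀K : s₀ ∈ K := by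
      have h1 : s₀ = s₀ * z * z⁻¹ := by group
      rw [h1]
      exact K.mul_mem hx2 (K.inv_mem (hZK hz))
    have hs₀' : s₀ ∈ (PK : Subgroup K).map K.subtype := by
      rw [← hinf]
      exact ⟨hs₀, hs₀K⟩
    have h2 : g * s₀ * g⁻¹ ∈ (PK : Subgroup K).map K.subtype :=
      (Subgroup.mem_normalizer_iff.mp hg s₀).mp hs₀'
    rw [← hinf] at h2
    have h3 : g * (s₀ * z) * g⁻¹ = (g * s₀ * g⁻¹) * (g * z * g⁻¹) := by group
    apply Subgroup.mem_inf.mpr
    constructor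
    · rw [h3]
      exact Subgroup.mul_mem _ (le_sup_left (a := (S₀ : Subgroup G)) (b := Z) h2.1)
        (le_sup_right (a := (S₀ : Subgroup G)) (b := Z) (hZ.conj_mem z hz g))
    · exact hK.conj_mem _ hx2 g
  refine ⟨S₀, fun h => ?_⟩
  have htop := Sylow.normalizer_sup_eq_top PK
  have hh : h ∈ Subgroup.normalizer ((((PK : Subgroup K).map K.subtype : Subgroup G)) : Set G) ⊔ K := by
    rw [htop]
    exact Subgroup.mem_top h
  rw [← SetLike.mem_coe, Subgroup.mul_normal] at hh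
  obtain ⟨n, hn, k, hk, rfl⟩ := Set.mem_mul.mp hh
  refine ⟨n, ?_, k, hk, rfl⟩
  rw [Subgroup.mem_normalizer_iff]
  intro x
  constructor
  · exact hkey n hn x
  · intro hx
    have hn' := Subgroup.inv_mem _ hn
    have := hkey n⁻¹ hn' _ hx
    have h4 : n⁻¹ * (n * x * n⁻¹) * n⁻¹⁻¹ = x := by group
    rwa [h4] at this

end Cfsg.Agent.Helper6.CycSyl
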