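import Mathlib
import Cfsg.Prelude.Def_Characters
import Cfsg.Agent.Helper6.CycSylB
import Cfsg.Agent.Helper6.CycSylC
import Cfsg.Agent.Helper6.CycSylD
import Cfsg.Agent.Helper6.FongReynolds1

/-!
# Cyclic Sylow subgroups of `H / K` are complemented when `H` has a fully ramified character
over `Z ≤ K` (Howlett–Isaacs; S4564)
-/

set_option autoImplicit false
set_option linter.style.haveILetI false

namespace Cfsg.Agent.Helper6.CycSyl

open Cfsg.Agent.Helper6
open scoped ComplexConjugate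

universe u

variable {H : Type u} [Group H]

/-- Elements of `S` normalize `S ⊓ K` for normal `K`. -/
theorem le_normalizer_inf_normal (S K : Subgroup H) [hK : K.Normal] :
    S ≤ Subgroup.normalizer ((S ⊓ K : Subgroup H) : Set H) := by
  intro s hs
  rw [Subgroup.mem_normalizer_iff]
  intro x
  constructor
  · intro hx
    obtain ⟨hx1, hx2⟩ := Subgroup.mem_inf.mp hx
    exact Subgroup.mem_inf.mpr ⟨S.mul_mem (S.mul_mem hs hx1) (S.inv_mem hs), hK.conj_mem x hx2 s⟩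
  · intro hx
    obtain ⟨hx1, hx2⟩ := Subgroup.mem_inf.mp hx
    have h1 : x = s⁻¹ * (s * x * s⁻¹) * s := by group
    rw [h1]
    apply Subgroup.mem_inf.mpr
    constructor
    · exact S.mul_mem (S.mul_mem (S.inv_mem hs) hx1) hs
    · have := hK.conj_mem _ hx2 s⁻¹
      rwa [inv_inv] at this

/-- `conjFun` on `K.subgroupOf S` by an element of `S` is `nConj`. -/
theorem conjFun_eq_nConj (S K : Subgroup H) [hK : K.Normal] (η : ↥(K.subgroupOf S) → ℂ) (s : ↥S)
    (r : ↥(K.subgroupOf S)) :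
    conjFun (K.subgroupOf S) η s r =
      η (nConj S K (s : H) (le_normalizer_inf_normal S K s.2) r) := by
  unfold conjFun
  congr 1

/-- Conjugating by an element of `N_H(S ⊓ K)` preserves "lying over the invariant `θ`". -/
theorem classInner_nConj (Z K S : Subgroup H) [hZ : Z.Normal] [hK : K.Normal]
    [Fintype ↥(Z.subgroupOf S)] (hZS : Z ≤ S) (θ : ↥Z → ℂ)
    (hinv : ∀ (g : H) (z : ↥Z), θ ⟨g * z * g⁻¹, hZ.conj_mem z z.2 g⟩ = θ z)
    (η : ↥(K.subgroupOf S) → ℂ) (n : H)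
    (hn : n ∈ Subgroup.normalizer ((S ⊓ K : Subgroup H) : Set H))
    (hZR' : Z.subgroupOf S ≤ K.subgroupOf S) :
    Cfsg.classInner (fun z : ↥(Z.subgroupOf S) => (η ∘ nConj S K n hn) ⟨(z : ↥S), hZR' z.2⟩)
        (θ ∘ Subgroup.subgroupOfEquivOfLe hZS) =
      Cfsg.classInner (fun z : ↥(Z.subgroupOf S) => η ⟨(z : ↥S), hZR' z.2⟩)
        (θ ∘ Subgroup.subgroupOfEquivOfLe hZS) := by
  classical
  have hnZ : n ∈ Subgroup.normalizer ((S ⊓ Z : Subgroup H) : Set H) := by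
    rw [inf_of_le_right hZS, Subgroup.normalizer_eq_top]
    exact Subgroup.mem_top n
  obtain ⟨β, hβ⟩ : ∃ β : ↥(Z.subgroupOf S) ≃* ↥(Z.subgroupOf S), β = nConj S Z n hnZ := ⟨_, rfl⟩
  have hβcoe : ∀ z : ↥(Z.subgroupOf S), (((β z : ↥(Z.subgroupOf S)) : ↥S) : H) =
      n * ((z : ↥S) : H) * n⁻¹ := by
    intro z
    rw [hβ]
    rfl
  have hA : (fun z : ↥(Z.subgroupOf S) => (η ∘ nConj S K n hn) ⟨(z : ↥S), hZR' z.2⟩) =
      (fun z : ↥(Z.subgroupOf S) => η ⟨(z : ↥S), hZR' z.2⟩) ∘ β := by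
    ext z
    simp only [Function.comp_apply]
    congr 1
    apply Subtype.ext
    apply Subtype.ext
    rw [nConj_coe]
    simp only
    rw [hβcoe]
  have hB : (θ ∘ Subgroup.subgroupOfEquivOfLe hZS) =
      (θ ∘ Subgroup.subgroupOfEquivOfLe hZS) ∘ β := by
    ext z
    simp only [Function.comp_apply]
    rw [← hinv n (Subgroup.subgroupOfEquivOfLe hZS z)]
    congr 1
    apply Subtype.ext
    have h1 : ((Subgroup.subgroupOfEquivOfLe hZS (β z) : ↥Z) : H) =
        (((β z : ↥(Z.subgroupOf S)) : ↥S) : H) := rfl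
    have h2 : ((Subgroup.subgroupOfEquivOfLe hZS z : ↥Z) : H) = ((z : ↥S) : H) := rfl
    rw [h1, hβcoe]
    simp only [h2]
  rw [hA]
  conv_lhs => rw [hB]
  exact classInner_comp_equiv' β.toEquiv _ _

/-- The quotient `S / (K ∩ S)` is cyclic when `S K / K` is a `p`-subgroup of `H / K` and the
Sylow `p`-subgroups of `H / K` are cyclic. -/
theorem isCyclic_quotient_of_sylow [Finite H] (p : ℕ) [hp : Fact p.Prime] (K S : Subgroup H)
    [hK : K.Normal] (hSp : IsPGroup p (S.map (QuotientGroup.mk' K))) (P : Sylow p (H ⧸ K))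
    (hcyc : IsCyclic P) : IsCyclic (↥S ⧸ K.subgroupOf S) := by
  classical
  obtain ⟨Q, hQ⟩ := hSp.exists_le_sylow
  obtain ⟨g, hg⟩ := MulAction.exists_smul_eq (H ⧸ K) Q P
  haveI : IsCyclic ↥(g • Q) := by
    rw [hg]
    exact hcyc
  haveI hQcyc : IsCyclic ↥Q := isCyclic_of_injective (Sylow.equivSMul Q g).toMonoidHom
    (Sylow.equivSMul Q g).injective
  let f₁ : ↥S ⧸ K.subgroupOf S →* H ⧸ K :=
    QuotientGroup.map (K.subgroupOf S) K S.subtype (fun x hx => hx)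
  have hf₁ : ∀ x, f₁ x ∈ (Q : Subgroup (H ⧸ K)) := by
    intro x
    obtain ⟨s, rfl⟩ := QuotientGroup.mk_surjective x
    apply hQ
    exact ⟨(s : H), s.2, rfl⟩
  let f₂ : ↥S ⧸ K.subgroupOf S →* ↥(Q : Subgroup (H ⧸ K)) := f₁.codRestrict _ hf₁
  have hf₂ : Function.Injective f₂ := by
    rw [injective_iff_map_eq_one]
    intro x hx
    obtain ⟨t, rfl⟩ := QuotientGroup.mk_surjective x
    have h0 : f₁ (QuotientGroup.mk t) = 1 := by
      have := congrArg Subtype.val hx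
      simpa [f₂] using this
    have h1 : (QuotientGroup.mk ((t : ↥S) : H) : H ⧸ K) = 1 := h0
    rw [QuotientGroup.eq_one_iff] at h1 ⊢
    exact h1
  exact isCyclic_of_injective f₂ hf₂

set_option maxHeartbeats 1600000 in
/-- **Howlett–Isaacs**: if `H` has a character fully ramified over `Z ⊴ H` and `Z ≤ K ⊴ H`, then
every cyclic Sylow subgroup of `H / K` has a complement. -/
theorem exists_complement_of_fullyRamified [Finite H] (Z : Subgroup H) [hZ : Z.Normal]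
    (χ : Cfsg.IrrCharacter H)
    (hfr : ∃ (θ : Cfsg.IrrCharacter ↥Z) (e : ℕ), e ^ 2 = Z.index ∧
      ∀ z : ↥Z, (χ : H → ℂ) z = (e : ℂ) * (θ : ↥Z → ℂ) z)
    (K : Subgroup H) [hK : K.Normal] (hZK : Z ≤ K) (p : ℕ) [hp : Fact p.Prime]
    (P : Sylow p (H ⧸ K)) (hcyc : IsCyclic P) :
    ∃ M : Subgroup (H ⧸ K), M.IsComplement' (P : Subgroup (H ⧸ K)) := by
  classical
  haveI := Fintype.ofFinite H
  obtain ⟨θ, e, he, hres⟩ := hfr
  obtain ⟨S₀, hfrat⟩ := exists_sylow_frattini p Z K hZK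
  obtain ⟨S, hSdef⟩ : ∃ S : Subgroup H, S = (S₀ : Subgroup H) ⊔ Z := ⟨_, rfl⟩
  rw [← hSdef] at hfrat
  have hZS : Z ≤ S := by rw [hSdef]; exact le_sup_right
  have hS₀S : (S₀ : Subgroup H) ≤ S := by rw [hSdef]; exact le_sup_left
  haveI : Fintype Z := Fintype.ofFinite _
  haveI : Fintype S := Fintype.ofFinite _
  have hidx : ¬ p ∣ S.index := fun h =>
    S₀.not_dvd_index (h.trans (Subgroup.index_dvd_of_le hS₀S))
  obtain ⟨k, hk⟩ : ∃ k, Z.relIndex S = p ^ k := by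
    have h1 : Z.relIndex S = Z.relIndex (S₀ : Subgroup H) := by
      rw [hSdef]
      exact Subgroup.relIndex_sup_right _ _
    have h2 : Z.relIndex (S₀ : Subgroup H) ∣ Nat.card (S₀ : Subgroup H) :=
      Subgroup.relIndex_dvd_card _ _
    obtain ⟨n, hn⟩ := IsPGroup.iff_card.mp S₀.isPGroup'
    rw [hn] at h2
    obtain ⟨k, -, hk⟩ := (Nat.dvd_prime_pow hp.out).mp h2
    exact ⟨k, by rw [h1, hk]⟩
  -- invariance of θ
  have he0 : e ≠ 0 := by
    intro h0
    rw [h0] at he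
    have : Z.index ≠ 0 := Subgroup.index_ne_zero_of_finite
    exact this (by rw [← he]; norm_num)
  have hresfun : (fun n : Z => (χ : H → ℂ) n) = (e : ℂ) • (θ : ↥Z → ℂ) := by
    ext z
    rw [hres z]
    rfl
  have hcon : Cfsg.classInner (fun n : Z => (χ : H → ℂ) n) (θ : ↥Z → ℂ) ≠ 0 := by
    rw [hresfun, classInner_smul_left, classInner_irr_self θ.2, mul_one]
    exact_mod_cast he0
  obtain ⟨-, hinv⟩ := (Cfsg.Agent.S0900.result Z χ.1 χ.2 θ.1 θ.2 hcon).1.mp ⟨e, hresfun, he⟩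
  -- the Sylow restriction
  obtain ⟨ψ, hψ, f, hf, hψres⟩ := exists_fullyRamified_sub Z S hZS χ.1 χ.2 θ.1 θ.2 e he hres p
    hp.out hidx k hk
  -- the abstract world `↥S`
  haveI : Fintype ↥(Z.subgroupOf S) := Fintype.ofFinite _
  haveI : Fintype ↥(K.subgroupOf S) := Fintype.ofFinite _
  have hZR' : Z.subgroupOf S ≤ K.subgroupOf S := fun x hx => hZK hx
  obtain ⟨θ', hθ'def⟩ : ∃ θ' : ↥(Z.subgroupOf S) → ℂ,
      θ' = (θ : ↥Z → ℂ) ∘ Subgroup.subgroupOfEquivOfLe hZS := ⟨_, rfl⟩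
  have hθ' : Cfsg.IsIrrCharacter ↥(Z.subgroupOf S) θ' := by
    rw [hθ'def]
    exact IsIrrCharacter.comp_mulEquiv (Subgroup.subgroupOfEquivOfLe hZS) θ.2
  have hf' : f ^ 2 = (Z.subgroupOf S).index := hf
  have hres' : ∀ z : ↥(Z.subgroupOf S), ψ z = (f : ℂ) * θ' z := by
    intro z
    rw [hθ'def]
    exact hψres (Subgroup.subgroupOfEquivOfLe hZS z)
  have hSp : IsPGroup p (S.map (QuotientGroup.mk' K)) := by
    rintro ⟨_, s, hs0, rfl⟩
    have hs : s ∈ S := hs0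
    rw [hSdef, ← SetLike.mem_coe, Subgroup.mul_normal] at hs
    obtain ⟨s₀, hs₀, z, hz, rfl⟩ := Set.mem_mul.mp hs
    obtain ⟨j, hj⟩ := S₀.2 ⟨s₀, hs₀⟩
    refine ⟨j, ?_⟩
    apply Subtype.ext
    have h1 : (QuotientGroup.mk' K) (s₀ * z) = (QuotientGroup.mk' K) s₀ := by
      rw [map_mul]
      have : (QuotientGroup.mk' K) z = 1 := by
        rw [QuotientGroup.mk'_apply, QuotientGroup.eq_one_iff]
        exact hZK hz
      rw [this, mul_one]
    have h2 : s₀ ^ p ^ j = 1 := by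
      have := congrArg Subtype.val hj
      simpa using this
    simp only [Subgroup.coe_pow, Subgroup.coe_one]
    rw [h1, ← map_pow, h2, map_one]
  have hcyc' : IsCyclic (↥S ⧸ K.subgroupOf S) := isCyclic_quotient_of_sylow p K S hSp P hcyc
  have hf0 : f ≠ 0 := by
    intro h0
    rw [h0] at hf'
    have : (Z.subgroupOf S).index ≠ 0 := Subgroup.index_ne_zero_of_finite
    exact this (by rw [← hf']; norm_num)
  have hconψ : Cfsg.classInner (fun n : ↥(Z.subgroupOf S) => ψ n) θ' ≠ 0 := by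
    have : (fun n : ↥(Z.subgroupOf S) => ψ n) = (f : ℂ) • θ' := by
      ext z
      rw [hres' z]
      rfl
    rw [this, classInner_smul_left, classInner_irr_self hθ', mul_one]
    exact_mod_cast hf0
  obtain ⟨η, -, hηover⟩ := exists_constituent_over (Z.subgroupOf S) (K.subgroupOf S) hZR' ψ hψ θ'
    hconψ
  -- the stabilizer
  obtain ⟨A, hAdef⟩ : ∃ A : Subgroup H, A = stabN S K (η : ↥(K.subgroupOf S) → ℂ) := ⟨_, rfl⟩
  obtain ⟨N, hNdef⟩ : ∃ N : Subgroup H,
      N = Subgroup.normalizer ((S ⊓ K : Subgroup H) : Set H) := ⟨_, rfl⟩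
  rw [← hNdef] at hfrat
  have hSN : S ≤ N := by rw [hNdef]; exact le_normalizer_inf_normal S K
  have hAN : A ≤ N := by rw [hAdef, hNdef]; exact stabN_le_normalizer S K _
  have hηcf := IsCharacter.isClassFunction (IsIrrCharacter.isCharacter η.2)
  have hRA : S ⊓ K ≤ A := by rw [hAdef]; exact inf_le_stabN S K _ hηcf
  -- (F1)
  have hF1' : ∀ n ∈ N, ∃ a ∈ A, ∃ s ∈ S, n = a * s := by
    intro n hn
    rw [hNdef] at hn
    have hlam : Cfsg.IsIrrCharacter ↥(K.subgroupOf S)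
        ((η : ↥(K.subgroupOf S) → ℂ) ∘ nConj S K n hn) :=
      IsIrrCharacter.comp_mulEquiv (nConj S K n hn) η.2
    have hover : Cfsg.classInner (fun z : ↥(Z.subgroupOf S) =>
        ((η : ↥(K.subgroupOf S) → ℂ) ∘ nConj S K n hn) ⟨(z : ↥S), hZR' z.2⟩) θ' ≠ 0 := by
      rw [hθ'def, classInner_nConj Z K S hZS θ.1 hinv η.1 n hn hZR', ← hθ'def]
      exact hηover
    obtain ⟨s, hs⟩ := exists_conj_of_over (Z.subgroupOf S) (K.subgroupOf S) hZR' θ' hθ' ψ hψ f
      hf' hres' η.1 η.2 hηover _ hlam hover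
    have hsn := le_normalizer_inf_normal S K s.2
    have hs' : ∀ r, (η : ↥(K.subgroupOf S) → ℂ) (nConj S K n hn r) =
        (η : ↥(K.subgroupOf S) → ℂ) (nConj S K (s : H) hsn r) := by
      intro r
      have := congrFun hs r
      rw [conjFun_eq_nConj] at this
      exact this
    refine ⟨n * (s : H)⁻¹, ?_, (s : H), s.2, by group⟩
    rw [hAdef, mem_stabN]
    have hsinv := Subgroup.inv_mem _ hsn
    refine ⟨Subgroup.mul_mem _ hn hsinv, fun r => ?_⟩
    rw [nConj_mul S K n (s : H)⁻¹ hn hsinv, hs']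
    apply congrArg
    apply Subtype.ext
    apply Subtype.ext
    rw [nConj_coe, nConj_coe]
    group
  have hF1 : ∀ n ∈ N, ∃ s ∈ S, ∃ a ∈ A, n = s * a := by
    intro n hn
    obtain ⟨a, ha, s, hs, h⟩ := hF1' n⁻¹ (N.inv_mem hn)
    refine ⟨s⁻¹, S.inv_mem hs, a⁻¹, A.inv_mem ha, ?_⟩
    rw [← mul_inv_rev, ← h, inv_inv]
  -- (F2)
  have hF2 : A ⊓ S ≤ K := by
    intro s hs
    obtain ⟨hsA, hsS⟩ := Subgroup.mem_inf.mp hs
    rw [hAdef, mem_stabN] at hsA
    obtain ⟨hsn, hstab⟩ := hsA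
    have hconj : conjFun (K.subgroupOf S) (η : ↥(K.subgroupOf S) → ℂ) ⟨s, hsS⟩ =
        (η : ↥(K.subgroupOf S) → ℂ) := by
      funext r
      rw [conjFun_eq_nConj]
      exact hstab r
    have := mem_of_conjFun_eq (Z.subgroupOf S) (K.subgroupOf S) hZR' hcyc' θ' hθ' ψ hψ f hf' hres'
      η.1 η.2 hηover ⟨s, hsS⟩ hconj
    exact this
  -- index computations in `H`
  have h1 : A.relIndex S = A.relIndex N := relIndex_eq_of_mul S A N hSN hF1
  have hAS : A ⊓ S = S ⊓ K :=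
    le_antisymm (le_inf inf_le_right hF2) (le_inf hRA inf_le_left)
  have h2 : (S ⊓ K).relIndex S = A.relIndex N := by
    rw [← hAS, Subgroup.inf_relIndex_right, h1]
  have h3 : (S ⊓ K).relIndex A * A.relIndex N = (S ⊓ K).relIndex N :=
    Subgroup.relIndex_mul_relIndex _ _ _ hRA hAN
  have h4 : (S ⊓ K).relIndex S * S.relIndex N = (S ⊓ K).relIndex N :=
    Subgroup.relIndex_mul_relIndex _ _ _ inf_le_left hSN
  have h5 : (S ⊓ K).relIndex A = S.relIndex N := by
    have hX : A.relIndex N ≠ 0 := Subgroup.index_ne_zero_of_finite (H := A.subgroupOf N)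
    rw [h2] at h4
    have : (S ⊓ K).relIndex A * A.relIndex N = S.relIndex N * A.relIndex N := by
      rw [h3, ← h4, mul_comm]
    exact Nat.eq_of_mul_eq_mul_right (Nat.pos_of_ne_zero hX) this
  have h6 : ¬ p ∣ (S ⊓ K).relIndex A := by
    rw [h5]
    intro h
    exact hidx (h.trans (Subgroup.relIndex_dvd_index_of_le hSN))
  -- the complement
  obtain ⟨M', hM'def⟩ : ∃ M' : Subgroup (H ⧸ K), M' = A.map (QuotientGroup.mk' K) := ⟨_, rfl⟩
  have hc1 : ¬ p ∣ Nat.card M' := by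
    have h7 : Nat.card M' = K.relIndex A := by
      rw [hM'def, ← Subgroup.relIndex_ker, QuotientGroup.ker_mk']
    rw [h7]
    intro h
    exact h6 (h.trans (Subgroup.relIndex_dvd_of_le_left A (inf_le_right : S ⊓ K ≤ K)))
  have hF5 : ∀ q ∈ (⊤ : Subgroup (H ⧸ K)), ∃ x ∈ S.map (QuotientGroup.mk' K), ∃ m ∈ M', q = x * m := by
    intro q _
    obtain ⟨h, rfl⟩ := QuotientGroup.mk_surjective q
    obtain ⟨n, hn, k', hk', rfl⟩ := hfrat h
    obtain ⟨s, hs, a, ha, rfl⟩ := hF1 n hn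
    refine ⟨QuotientGroup.mk' K s, ⟨s, hs, rfl⟩, QuotientGroup.mk' K a, ?_, ?_⟩
    · rw [hM'def]
      exact ⟨a, ha, rfl⟩
    · have hk1 : (QuotientGroup.mk k' : H ⧸ K) = 1 := (QuotientGroup.eq_one_iff k').mpr hk'
      rw [QuotientGroup.mk_mul, hk1, mul_one, QuotientGroup.mk_mul]
      rfl
  have h8 : M'.relIndex (S.map (QuotientGroup.mk' K)) = M'.index := by
    rw [relIndex_eq_of_mul (S.map (QuotientGroup.mk' K)) M' ⊤ le_top hF5,
      Subgroup.relIndex_top_right]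
  have h9 : M'.index ∣ Nat.card (S.map (QuotientGroup.mk' K)) := by
    rw [← h8]
    exact Subgroup.relIndex_dvd_card _ _
  obtain ⟨n, hn⟩ := IsPGroup.iff_card.mp hSp
  rw [hn] at h9
  obtain ⟨j, -, hj⟩ := (Nat.dvd_prime_pow hp.out).mp h9
  have h10 : Nat.card M' * p ^ j = Nat.card (H ⧸ K) := by
    rw [← hj]
    exact Subgroup.card_mul_index M'
  have hM'0 : Nat.card M' ≠ 0 := Nat.card_pos.ne'
  have h11 : Nat.card (P : Subgroup (H ⧸ K)) = p ^ j := by
    rw [Sylow.card_eq_multiplicity, ← h10,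
      Nat.factorization_mul hM'0 (pow_ne_zero _ hp.out.ne_zero), Finsupp.add_apply,
      Nat.factorization_eq_zero_of_not_dvd hc1, zero_add, hp.out.factorization_pow,
      Finsupp.single_eq_same]
  refine ⟨M', Subgroup.isComplement'_of_coprime ?_ ?_⟩
  · rw [h11, h10]
  · rw [h11]
    exact Nat.Coprime.pow_right j ((Nat.Prime.coprime_iff_not_dvd hp.out).mpr hc1).symm

end Cfsg.Agent.Helper6.CycSyl
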