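import Mathlib

/-!
# Additive arrays with few nonzero entries
-/

set_option autoImplicit false
set_option linter.style.haveILetI false

namespace Cfsg.Agent.Helper6

/-- An array of the form `r i + c j` with fewer than `2 * card I` nonzero entries, where
`card I + 2 ≤ card J`, is zero, or is supported on one column where it is constant, or is
supported on one row where it is constant. -/
theorem additive_array_few_nonzero {I J : Type*} [Fintype I] [Fintype J] [DecidableEq I]
    [DecidableEq J] (r : I → ℂ) (c : J → ℂ) (hIJ : Fintype.card I + 2 ≤ Fintype.card J)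
    (hfew : (∑ i : I, ∑ j : J, if r i + c j ≠ 0 then 1 else 0) < 2 * Fintype.card I) :
    (∀ i j, r i + c j = 0) ∨ (∃ j₀ a, ∀ i j, r i + c j = if j = j₀ then a else 0) ∨
      (∃ i₀ a, ∀ i j, r i + c j = if i = i₀ then a else 0) := by
  classical
  set nz : I → ℕ := fun i => ∑ j : J, if r i + c j ≠ 0 then 1 else 0 with hnz
  have hfew' : ∑ i : I, nz i < 2 * Fintype.card I := hfew
  -- a row with at most one nonzero entry
  have hrow : ∃ i₀, nz i₀ ≤ 1 := by
    by_contra hcon
    push Not at hcon
    have : 2 * Fintype.card I ≤ ∑ i : I, nz i := by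
      calc 2 * Fintype.card I = ∑ _i : I, 2 := by
            rw [Finset.sum_const, Finset.card_univ, smul_eq_mul, mul_comm]
        _ ≤ ∑ i : I, nz i := Finset.sum_le_sum (fun i _ => hcon i)
    exact absurd hfew' (not_lt.mpr this)
  obtain ⟨i₀, hi₀⟩ := hrow
  set v₀ : ℂ := -r i₀ with hv₀
  have hnzcard : ∀ i, nz i = (Finset.univ.filter (fun j : J => r i + c j ≠ 0)).card := by
    intro i
    rw [hnz, Finset.card_filter]
  -- at most one column differs from `v₀`
  have hcol : ∀ j₁ j₂, c j₁ ≠ v₀ → c j₂ ≠ v₀ → j₁ = j₂ := by
    intro j₁ j₂ h1 h2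
    by_contra hne
    have hsub : ({j₁, j₂} : Finset J) ⊆ Finset.univ.filter (fun j : J => r i₀ + c j ≠ 0) := by
      intro j hj
      rw [Finset.mem_insert, Finset.mem_singleton] at hj
      rw [Finset.mem_filter]
      refine ⟨Finset.mem_univ _, ?_⟩
      intro h0
      have : c j = v₀ := by rw [hv₀]; linear_combination h0
      rcases hj with rfl | rfl
      · exact h1 this
      · exact h2 this
    have := Finset.card_le_card hsub
    rw [Finset.card_pair hne, ← hnzcard] at this
    omega
  by_cases hall : ∀ j, c j = v₀
  · -- every row is constant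
    have hent : ∀ i j, r i + c j = r i + v₀ := fun i j => by rw [hall j]
    have hnzrow : ∀ i, r i + v₀ ≠ 0 → nz i = Fintype.card J := by
      intro i hi
      rw [hnz]
      have : ∀ j : J, (if r i + c j ≠ 0 then 1 else 0) = 1 := by
        intro j
        rw [hent i j, if_pos hi]
      simp only [this, Finset.sum_const, Finset.card_univ, smul_eq_mul, mul_one]
    have hatmost : ∀ i₁ i₂, r i₁ + v₀ ≠ 0 → r i₂ + v₀ ≠ 0 → i₁ = i₂ := by
      intro i₁ i₂ h1 h2
      by_contra hne
      have hsum : nz i₁ + nz i₂ ≤ ∑ i : I, nz i := by
        rw [← Finset.sum_pair hne]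
        exact Finset.sum_le_sum_of_subset (Finset.subset_univ _)
      rw [hnzrow i₁ h1, hnzrow i₂ h2] at hsum
      omega
    by_cases hex : ∃ i₁, r i₁ + v₀ ≠ 0
    · obtain ⟨i₁, hi₁⟩ := hex
      right
      right
      refine ⟨i₁, r i₁ + v₀, ?_⟩
      intro i j
      rw [hent i j]
      split_ifs with h
      · rw [h]
      · by_contra h0
        exact h (hatmost i i₁ h0 hi₁)
    · left
      push Not at hex
      intro i j
      rw [hent i j, hex i]
  · push Not at hall
    obtain ⟨j₁, hj₁⟩ := hall
    have hother : ∀ j, j ≠ j₁ → c j = v₀ := by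
      intro j hj
      by_contra h
      exact hj (hcol j j₁ h hj₁)
    -- every row has `r i = -v₀`
    have hrows : ∀ i, r i + v₀ = 0 := by
      by_contra hcon
      push Not at hcon
      obtain ⟨i₂, hi₂⟩ := hcon
      have hge1 : ∀ i, 1 ≤ nz i := by
        intro i
        rw [hnzcard, Nat.succ_le_iff, Finset.card_pos]
        by_cases hi : r i + v₀ = 0
        · refine ⟨j₁, ?_⟩
          rw [Finset.mem_filter]
          refine ⟨Finset.mem_univ _, ?_⟩
          intro h0
          apply hj₁
          linear_combination h0 - hi
        · have hcard : 3 ≤ Fintype.card J := by omega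
          obtain ⟨j, hj⟩ : ∃ j, j ≠ j₁ := by
            by_contra hnone
            push Not at hnone
            have : Fintype.card J ≤ 1 := Fintype.card_le_one_iff.mpr (fun a b => by
              rw [hnone a, hnone b])
            omega
          refine ⟨j, ?_⟩
          rw [Finset.mem_filter]
          refine ⟨Finset.mem_univ _, ?_⟩
          rw [hother j hj]
          exact hi
      have hbig : Fintype.card J - 1 ≤ nz i₂ := by
        rw [hnzcard]
        have hsub : Finset.univ.erase j₁ ⊆ Finset.univ.filter (fun j : J => r i₂ + c j ≠ 0) := by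
          intro j hj
          rw [Finset.mem_erase] at hj
          rw [Finset.mem_filter]
          refine ⟨Finset.mem_univ _, ?_⟩
          rw [hother j hj.1]
          exact hi₂
        have := Finset.card_le_card hsub
        rw [Finset.card_erase_of_mem (Finset.mem_univ _), Finset.card_univ] at this
        exact this
      have htotal : (Fintype.card J - 1) + (Fintype.card I - 1) ≤ ∑ i : I, nz i := by
        rw [← Finset.add_sum_erase Finset.univ nz (Finset.mem_univ i₂)]
        apply Nat.add_le_add hbig
        calc Fintype.card I - 1 = ∑ _i ∈ Finset.univ.erase i₂, 1 := by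
              rw [Finset.sum_const, Finset.card_erase_of_mem (Finset.mem_univ _),
                Finset.card_univ, smul_eq_mul, mul_one]
          _ ≤ ∑ i ∈ Finset.univ.erase i₂, nz i := Finset.sum_le_sum (fun i _ => hge1 i)
      have hIpos : 0 < Fintype.card I := Fintype.card_pos_iff.mpr ⟨i₀⟩
      omega
    right
    left
    refine ⟨j₁, c j₁ - v₀, ?_⟩
    intro i j
    split_ifs with h
    · rw [h]
      linear_combination hrows i
    · rw [hother j h]
      exact hrows i

end Cfsg.Agent.Helper6
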