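import Mathlib
import Cfsg.Prelude.Def_OddOrderChar
import Cfsg.Agent.Helper6.NormTwo
import Cfsg.Agent.Helper6.ClassInner
import Cfsg.Agent.Helper6.CharBasic

/-!
# Inner products of signed irreducible characters
-/

set_option autoImplicit false
set_option linter.style.haveILetI false

namespace Cfsg.Agent.Helper6

open scoped ComplexConjugate

universe u

variable {X : Type u} [Group X]

/-- The inner product of two signed irreducible characters. -/
theorem signed_irr_inner [Fintype X] {a b : X → ℂ}
    (ha : Cfsg.IsIrrCharacter X a ∨ Cfsg.IsIrrCharacter X (-a))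
    (hb : Cfsg.IsIrrCharacter X b ∨ Cfsg.IsIrrCharacter X (-b)) :
    (Cfsg.classInner a b = 0) ∨ (Cfsg.classInner a b = 1 ∧ a = b) ∨
      (Cfsg.classInner a b = -1 ∧ a = -b) := by
  classical
  rcases ha with ha | ha <;> rcases hb with hb | hb
  · rw [classInner_irr_ite ha hb]
    by_cases h : a = b
    · right; left
      exact ⟨if_pos h, h⟩
    · left
      exact if_neg h
  · have h1 : Cfsg.classInner a b = -Cfsg.classInner a (-b) := by
      rw [classInner_neg_right, neg_neg]
    rw [h1, classInner_irr_ite ha hb]
    by_cases h : a = -b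
    · right; right
      exact ⟨by rw [if_pos h], h⟩
    · left
      rw [if_neg h, neg_zero]
  · have h1 : Cfsg.classInner a b = -Cfsg.classInner (-a) b := by
      rw [classInner_neg_left, neg_neg]
    rw [h1, classInner_irr_ite ha hb]
    by_cases h : -a = b
    · right; right
      exact ⟨by rw [if_pos h], by rw [← h, neg_neg]⟩
    · left
      rw [if_neg h, neg_zero]
  · have h1 : Cfsg.classInner a b = Cfsg.classInner (-a) (-b) := by
      rw [classInner_neg_left, classInner_neg_right, neg_neg]
    rw [h1, classInner_irr_ite ha hb]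
    by_cases h : -a = -b
    · right; left
      exact ⟨if_pos h, neg_injective h⟩
    · left
      exact if_neg h

/-- A signed irreducible character meets at most one member of an orthonormal family of signed
irreducible characters. -/
theorem signed_irr_orthonormal_family [Fintype X] {ι : Type*} (χ : ι → X → ℂ)
    (hχ : ∀ i, Cfsg.IsIrrCharacter X (χ i) ∨ Cfsg.IsIrrCharacter X (-χ i))
    (horth : ∀ i j, i ≠ j → Cfsg.classInner (χ i) (χ j) = 0)
    (hnorm : ∀ i, Cfsg.classInner (χ i) (χ i) = 1)
    {μ : X → ℂ} (hμ : Cfsg.IsIrrCharacter X μ ∨ Cfsg.IsIrrCharacter X (-μ)) (i j : ι)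
    (hij : i ≠ j) : Cfsg.classInner (χ i) μ = 0 ∨ Cfsg.classInner (χ j) μ = 0 := by
  by_contra hcon
  push Not at hcon
  obtain ⟨h1, h2⟩ := hcon
  have e1 : χ i = μ ∨ χ i = -μ := by
    rcases signed_irr_inner (hχ i) hμ with h | h | h
    · exact absurd h h1
    · exact Or.inl h.2
    · exact Or.inr h.2
  have e2 : χ j = μ ∨ χ j = -μ := by
    rcases signed_irr_inner (hχ j) hμ with h | h | h
    · exact absurd h h2
    · exact Or.inl h.2
    · exact Or.inr h.2
  have h3 := horth i j hij
  have h4 := hnorm j
  rcases e1 with e1 | e1 <;> rcases e2 with e2 | e2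
  · rw [e1, ← e2, h4] at h3
    exact one_ne_zero h3
  · have : χ i = -χ j := by rw [e1, e2, neg_neg]
    rw [this, classInner_neg_left, h4] at h3
    norm_num at h3
  · have : χ i = -χ j := by rw [e1, e2]
    rw [this, classInner_neg_left, h4] at h3
    norm_num at h3
  · have : χ i = χ j := by rw [e1, e2]
    rw [this, h4] at h3
    exact one_ne_zero h3

end Cfsg.Agent.Helper6
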