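import Mathlib
import Cfsg.Prelude.Def_OddOrderChar
import Cfsg.Prelude.Def_OddOrderLocal
import Cfsg.Agent.Helper6.CycTIUniqA
import Cfsg.Agent.Helper6.CycTIB

/-!
# Uniqueness of the family of characters attached to a self-normalising cyclic subgroup
-/

set_option autoImplicit false
set_option linter.style.haveILetI false

namespace Cfsg.Agent.Helper6

open scoped ComplexConjugate

universe u

variable {G : Type u} [Group G]

/-- The combinatorial core of the uniqueness argument. -/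
theorem signed_family_unique_core [Fintype G] {ι : Type*} [DecidableEq ι] (χ χ' : ι → G → ℂ)
    (hχ : ∀ i, Cfsg.IsIrrCharacter G (χ i) ∨ Cfsg.IsIrrCharacter G (-χ i))
    (horth : ∀ i j, Cfsg.classInner (χ i) (χ j) = if i = j then 1 else 0)
    (hχ' : ∀ i, Cfsg.IsIrrCharacter G (χ' i) ∨ Cfsg.IsIrrCharacter G (-χ' i))
    (horth' : ∀ i j, Cfsg.classInner (χ' i) (χ' j) = if i = j then 1 else 0)
    (i j k j' k' : ι) (hij : i ≠ j) (hik : i ≠ k) (hij' : i ≠ j') (hik' : i ≠ k')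
    (hjj' : j ≠ j') (hjk' : j ≠ k') (hkj' : k ≠ j') (hkk' : k ≠ k')
    (h1 : χ i + χ j - χ k = χ' i + χ' j - χ' k)
    (h2 : χ i + χ j' - χ k' = χ' i + χ' j' - χ' k') : χ i = χ' i := by
  set μ := χ' i with hμ
  have o1 : ∀ a b, a ≠ b → Cfsg.classInner (χ a) (χ b) = 0 := fun a b hab => by
    rw [horth, if_neg hab]
  have n1 : ∀ a, Cfsg.classInner (χ a) (χ a) = 1 := fun a => by rw [horth, if_pos rfl]
  have e1 : Cfsg.classInner (χ i) μ + Cfsg.classInner (χ j) μ - Cfsg.classInner (χ k) μ = 1 := by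
    have := congrArg (fun f => Cfsg.classInner f μ) h1
    simp only [classInner_sub_left, classInner_add_left] at this
    rw [this, hμ, horth', horth', horth', if_pos rfl, if_neg (Ne.symm hij), if_neg (Ne.symm hik)]
    ring
  have e2 : Cfsg.classInner (χ i) μ + Cfsg.classInner (χ j') μ - Cfsg.classInner (χ k') μ = 1 := by
    have := congrArg (fun f => Cfsg.classInner f μ) h2
    simp only [classInner_sub_left, classInner_add_left] at this
    rw [this, hμ, horth', horth', horth', if_pos rfl, if_neg (Ne.symm hij'),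
      if_neg (Ne.symm hik')]
    ring
  have S := fun a b (hab : a ≠ b) =>
    signed_irr_orthonormal_family χ hχ o1 n1 (hχ' i) a b hab
  by_cases hx : Cfsg.classInner (χ i) μ = 0
  · exfalso
    rw [hx, zero_add] at e1 e2
    by_cases hy : Cfsg.classInner (χ j) μ = 0
    · have hz : Cfsg.classInner (χ k) μ ≠ 0 := by
        intro hz
        rw [hy, hz] at e1
        norm_num at e1
      have h3 := (S k j' hkj').resolve_left hz
      have h4 := (S k k' hkk').resolve_left hz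
      rw [h3, h4] at e2
      norm_num at e2
    · have h3 := (S j j' hjj').resolve_left hy
      have h4 := (S j k' hjk').resolve_left hy
      rw [h3, h4] at e2
      norm_num at e2
  · have h3 := (S i j hij).resolve_left hx
    have h4 := (S i k hik).resolve_left hx
    rw [h3, h4] at e1
    have h5 : Cfsg.classInner (χ i) μ = 1 := by
      rw [← e1]; ring
    rcases signed_irr_inner (hχ i) (hχ' i) with h | h | h
    · exact absurd h hx
    · exact h.2
    · rw [h5] at h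
      norm_num at h

/-- In a type with at least three elements, there are two distinct elements different from a
given one. -/
theorem exists_two_ne {α : Type*} [Finite α] (h : 3 ≤ Nat.card α) (a : α) :
    ∃ b c : α, b ≠ a ∧ c ≠ a ∧ b ≠ c := by
  classical
  haveI := Fintype.ofFinite α
  rw [Nat.card_eq_fintype_card] at h
  have h2 : 2 < Fintype.card α := h
  obtain ⟨x, y, z, hxy, hxz, hyz⟩ := Fintype.two_lt_card_iff.mp h2
  by_cases hx : x = a
  · refine ⟨y, z, ?_, ?_, hyz⟩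
    · rw [← hx]; exact Ne.symm hxy
    · rw [← hx]; exact Ne.symm hxz
  · by_cases hy : y = a
    · refine ⟨x, z, hx, ?_, hxz⟩
      rw [← hy]; exact Ne.symm hyz
    · exact ⟨x, y, hx, hy, hxy⟩

/-- **Uniqueness of the cyclic TI family.** -/
theorem cyclicTI_family_unique [Fintype G] (W₁ W₂ : Subgroup G)
    (hW : Cfsg.IsSelfNormalizingCyclic W₁ W₂) (hodd : Odd (Nat.card ↥(W₁ ⊔ W₂)))
    (χ χ' : (↥(W₁ ⊔ W₂) →* ℂˣ) → (G → ℂ)) (hχ : Cfsg.IsCyclicTIFamily W₁ W₂ χ)
    (hχ' : Cfsg.IsCyclicTIFamily W₁ W₂ χ') : χ = χ' := by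
  classical
  obtain ⟨hW₁ne, hW₂ne, hint, hcomm, hcyc, -⟩ := hW
  haveI := hcyc
  have hWcomm : ∀ x y : ↥(W₁ ⊔ W₂), x * y = y * x := by
    intro x y
    haveI := IsCyclic.isMulCommutative (α := ↥(W₁ ⊔ W₂))
    exact mul_comm' x y
  have hc₁ : ∀ a b : W₁, a * b = b * a := by
    intro a b
    have := hWcomm (Subgroup.inclusion le_sup_left a) (Subgroup.inclusion le_sup_left b)
    apply Subtype.ext
    exact congrArg (fun z : ↥(W₁ ⊔ W₂) => (z : G)) this
  have hc₂ : ∀ a b : W₂, a * b = b * a := by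
    intro a b
    have := hWcomm (Subgroup.inclusion le_sup_right a) (Subgroup.inclusion le_sup_right b)
    apply Subtype.ext
    exact congrArg (fun z : ↥(W₁ ⊔ W₂) => (z : G)) this
  have hcard₁ : Nat.card (W₁ →* ℂˣ) = Nat.card W₁ := card_hom_units_of_comm hc₁
  have hcard₂ : Nat.card (W₂ →* ℂˣ) = Nat.card W₂ := card_hom_units_of_comm hc₂
  haveI : Finite (W₁ →* ℂˣ) := Nat.finite_of_card_ne_zero (by rw [hcard₁]; exact Nat.card_pos.ne')
  haveI : Finite (W₂ →* ℂˣ) := Nat.finite_of_card_ne_zero (by rw [hcard₂]; exact Nat.card_pos.ne')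
  have hodd₁ : Odd (Nat.card W₁) :=
    Odd.of_dvd_nat hodd (Subgroup.card_dvd_of_le (le_sup_left : W₁ ≤ W₁ ⊔ W₂))
  have hodd₂ : Odd (Nat.card W₂) :=
    Odd.of_dvd_nat hodd (Subgroup.card_dvd_of_le (le_sup_right : W₂ ≤ W₁ ⊔ W₂))
  have hge₁ : 3 ≤ Nat.card W₁ := by
    have h1 : Nat.card W₁ ≠ 1 := fun h => hW₁ne (Subgroup.card_eq_one.mp h)
    have h0 : 0 < Nat.card W₁ := Nat.card_pos
    obtain ⟨k, hk⟩ := hodd₁
    omega
  have hge₂ : 3 ≤ Nat.card W₂ := by
    have h1 : Nat.card W₂ ≠ 1 := fun h => hW₂ne (Subgroup.card_eq_one.mp h)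
    have h0 : 0 < Nat.card W₂ := Nat.card_pos
    obtain ⟨k, hk⟩ := hodd₂
    omega
  set 𝓛 := liftLeft W₁ W₂ hcomm hint with h𝓛
  set 𝓡 := liftRight W₁ W₂ hcomm hint with h𝓡
  -- recovering the components
  have hresL : ∀ lam mu, resLeft W₁ W₂ (𝓛 lam * 𝓡 mu) = lam :=
    fun lam mu => res_lift_left W₁ W₂ hcomm hint lam mu
  have hresR : ∀ lam mu, resRight W₁ W₂ (𝓛 lam * 𝓡 mu) = mu :=
    fun lam mu => res_lift_right W₁ W₂ hcomm hint lam mu
  have hL1 : 𝓛 1 = 1 := liftLeft_one W₁ W₂ hcomm hint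
  have hR1 : 𝓡 1 = 1 := liftRight_one W₁ W₂ hcomm hint
  set P : (W₁ →* ℂˣ) → (W₂ →* ℂˣ) → (↥(W₁ ⊔ W₂) →* ℂˣ) := fun lam mu => 𝓛 lam * 𝓡 mu with hP
  have hPL : ∀ lam, P lam 1 = 𝓛 lam := by
    intro lam
    simp only [hP]
    rw [hR1]
    exact mul_one (𝓛 lam)
  have hPR : ∀ mu, P 1 mu = 𝓡 mu := by
    intro mu
    simp only [hP]
    rw [hL1]
    exact one_mul (𝓡 mu)
  have hP1 : P 1 1 = 1 := by
    rw [hPL, hL1]
  have hPinj : ∀ lam mu lam' mu', P lam mu = P lam' mu' → lam = lam' ∧ mu = mu' := by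
    intro lam mu lam' mu' h
    simp only [hP] at h
    constructor
    · rw [← hresL lam mu, h, hresL]
    · rw [← hresR lam mu, h, hresR]
  -- the basic identity
  have hD : ∀ lam mu, lam ≠ 1 → mu ≠ 1 →
      χ (P lam 1) + χ (P 1 mu) - χ (P lam mu) = χ' (P lam 1) + χ' (P 1 mu) - χ' (P lam mu) := by
    intro lam mu hlam hmu
    have hφ1 : 𝓛 lam ≠ 1 := by
      intro h
      apply hlam
      rw [← hPL, ← hP1] at h
      exact (hPinj _ _ _ _ h).1
    have hψ1 : 𝓡 mu ≠ 1 := by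
      intro h
      apply hmu
      rw [← hPR, ← hP1] at h
      exact (hPinj _ _ _ _ h).2
    have hφ₂ : ∀ w : ↥(W₁ ⊔ W₂), (w : G) ∈ W₂ → 𝓛 lam w = 1 :=
      fun w hw => liftLeft_of_mem_right W₁ W₂ hcomm hint lam w hw
    have hψ₁ : ∀ w : ↥(W₁ ⊔ W₂), (w : G) ∈ W₁ → 𝓡 mu w = 1 :=
      fun w hw => liftRight_of_mem_left W₁ W₂ hcomm hint mu w hw
    have e1 := hχ.induced_eq (𝓛 lam) (𝓡 mu) hφ1 hψ1 hφ₂ hψ₁
    have e2 := hχ'.induced_eq (𝓛 lam) (𝓡 mu) hφ1 hψ1 hφ₂ hψ₁
    rw [e1] at e2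
    rw [hPL, hPR]
    ext g
    have := congrFun e2 g
    simp only [Pi.add_apply, Pi.sub_apply, hP]
    linear_combination -this
  have horth : ∀ i j, Cfsg.classInner (χ i) (χ j) = if i = j then 1 else 0 := by
    intro i j
    by_cases h : i = j
    · rw [hχ.orthonormal, if_pos h, if_pos h]
    · rw [hχ.orthonormal, if_neg h, if_neg h]
  have horth' : ∀ i j, Cfsg.classInner (χ' i) (χ' j) = if i = j then 1 else 0 := by
    intro i j
    by_cases h : i = j
    · rw [hχ'.orthonormal, if_pos h, if_pos h]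
    · rw [hχ'.orthonormal, if_neg h, if_neg h]
  have claimA : ∀ lam, lam ≠ 1 → χ (P lam 1) = χ' (P lam 1) := by
    intro lam hlam
    obtain ⟨mu, mu', hmu, hmu', hne⟩ := exists_two_ne (by rw [hcard₂]; exact hge₂) (1 : W₂ →* ℂˣ)
    apply signed_family_unique_core χ χ' hχ.irr_or_neg horth hχ'.irr_or_neg horth'
      (P lam 1) (P 1 mu) (P lam mu) (P 1 mu') (P lam mu')
    · exact fun h => hlam (hPinj _ _ _ _ h).1
    · exact fun h => hmu (hPinj _ _ _ _ h).2.symm
    · exact fun h => hlam (hPinj _ _ _ _ h).1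
    · exact fun h => hmu' (hPinj _ _ _ _ h).2.symm
    · exact fun h => hne (hPinj _ _ _ _ h).2
    · exact fun h => hlam (hPinj _ _ _ _ h).1.symm
    · exact fun h => hlam (hPinj _ _ _ _ h).1
    · exact fun h => hne (hPinj _ _ _ _ h).2
    · exact hD lam mu hlam hmu
    · exact hD lam mu' hlam hmu'
  have claimB : ∀ mu, mu ≠ 1 → χ (P 1 mu) = χ' (P 1 mu) := by
    intro mu hmu
    obtain ⟨lam, lam', hlam, hlam', hne⟩ :=
      exists_two_ne (by rw [hcard₁]; exact hge₁) (1 : W₁ →* ℂˣ)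
    apply signed_family_unique_core χ χ' hχ.irr_or_neg horth hχ'.irr_or_neg horth'
      (P 1 mu) (P lam 1) (P lam mu) (P lam' 1) (P lam' mu)
    · exact fun h => hmu (hPinj _ _ _ _ h).2
    · exact fun h => hlam (hPinj _ _ _ _ h).1.symm
    · exact fun h => hmu (hPinj _ _ _ _ h).2
    · exact fun h => hlam' (hPinj _ _ _ _ h).1.symm
    · exact fun h => hne (hPinj _ _ _ _ h).1
    · exact fun h => hmu (hPinj _ _ _ _ h).2.symm
    · exact fun h => hmu (hPinj _ _ _ _ h).2
    · exact fun h => hne (hPinj _ _ _ _ h).1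
    · have := hD lam mu hlam hmu
      rw [add_comm (χ (P 1 mu)), add_comm (χ' (P 1 mu))]
      exact this
    · have := hD lam' mu hlam' hmu
      rw [add_comm (χ (P 1 mu)), add_comm (χ' (P 1 mu))]
      exact this
  funext ω
  have hω : ω = P (resLeft W₁ W₂ ω) (resRight W₁ W₂ ω) := (lift_res W₁ W₂ hcomm hint ω).symm
  rw [hω]
  set lam := resLeft W₁ W₂ ω
  set mu := resRight W₁ W₂ ω
  by_cases hlam : lam = 1
  · by_cases hmu : mu = 1
    · rw [hlam, hmu, hP1, hχ.map_one, hχ'.map_one]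
    · rw [hlam]
      exact claimB mu hmu
  · by_cases hmu : mu = 1
    · rw [hmu]
      exact claimA lam hlam
    · have h1 := hD lam mu hlam hmu
      rw [claimA lam hlam, claimB mu hmu] at h1
      have h2 : χ (P lam mu) = χ' (P lam 1) + χ' (P 1 mu) -
          (χ' (P lam 1) + χ' (P 1 mu) - χ (P lam mu)) := by ring
      rw [h2, h1]
      ring

end Cfsg.Agent.Helper6
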