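import Mathlib
import Cfsg.Prelude.Def_OddOrderChar
import Cfsg.Prelude.Def_OddOrderLocal
import Cfsg.Agent.Helper6.CycTIUniqB
import Cfsg.Agent.Helper6.GaloisConj
import Cfsg.Agent.Helper6.GaloisChar
import Cfsg.Agent.Helper6.IndFun
import Cfsg.Agent.Helper6.DadeBasic

/-!
# Galois twists of the cyclic TI family
-/

set_option autoImplicit false
set_option linter.style.haveILetI false

namespace Cfsg.Agent.Helper6

open scoped ComplexConjugate

universe u

variable {G : Type u} [Group G]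

theorem pow_mul_eq_self_of_modEq [Finite G] (m m' : ℕ) (h : m * m' ≡ 1 [MOD Nat.card G]) (g : G) :
    g ^ (m * m') = g :=
  pow_eq_self_of_modEq_one g (m * m') (Nat.card G) h (orderOf_dvd_natCard g)

/-- Induction commutes with inverse power maps. -/
theorem indFun_comp_pow_inv [Fintype G] (H : Subgroup G) (f : H → ℂ) (m m' : ℕ)
    (h : m * m' ≡ 1 [MOD Nat.card G]) (g : G) :
    Cfsg.indFun H (fun x => f (x ^ m)) (g ^ m') = Cfsg.indFun H f g := by
  have hm' : m'.Coprime (Nat.card G) :=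
    Nat.coprime_of_mul_modEq_one m (by rwa [mul_comm] at h)
  rw [indFun_apply, indFun_apply]
  congr 1
  apply Finset.sum_congr rfl
  intro x _
  have hconj : x⁻¹ * g ^ m' * x = (x⁻¹ * g * x) ^ m' := by
    have := conj_pow (a := x⁻¹) (b := g) (i := m')
    rw [inv_inv] at this
    exact this.symm
  rw [hconj]
  by_cases hy : x⁻¹ * g * x ∈ H
  · rw [extendByZero_mem _ _ hy, extendByZero_mem _ _ (H.pow_mem hy m')]
    congr 1
    apply Subtype.ext
    rw [Subgroup.coe_pow]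
    simp only
    rw [← pow_mul, mul_comm m' m, pow_mul_eq_self_of_modEq m m' h]
  · rw [extendByZero_not_mem _ _ hy,
      extendByZero_not_mem _ _ (pow_coprime_not_mem H _ hy m' hm')]

/-- **Galois equivariance of the cyclic TI family.** -/
theorem cyclicTI_family_pow [Fintype G] (W₁ W₂ : Subgroup G)
    (hW : Cfsg.IsSelfNormalizingCyclic W₁ W₂) (hodd : Odd (Nat.card ↥(W₁ ⊔ W₂)))
    (χ : (↥(W₁ ⊔ W₂) →* ℂˣ) → (G → ℂ)) (hχ : Cfsg.IsCyclicTIFamily W₁ W₂ χ)
    (m m' : ℕ) (h : m * m' ≡ 1 [MOD Nat.card G]) (ω : ↥(W₁ ⊔ W₂) →* ℂˣ) (g : G) :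
    χ (ω ^ m) (g ^ m') = χ ω g := by
  classical
  have hm : m.Coprime (Nat.card G) := Nat.coprime_of_mul_modEq_one m' h
  have hm' : m'.Coprime (Nat.card G) :=
    Nat.coprime_of_mul_modEq_one m (by rwa [mul_comm] at h)
  -- power maps on `W` and on its characters
  have hwpow : ∀ w : ↥(W₁ ⊔ W₂), w ^ (m * m') = w := by
    intro w
    apply Subtype.ext
    rw [Subgroup.coe_pow]
    exact pow_mul_eq_self_of_modEq m m' h (w : G)
  have hpowmul : ∀ ω : ↥(W₁ ⊔ W₂) →* ℂˣ, (ω ^ m) ^ m' = ω ^ (m * m') :=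
    fun ω => (pow_mul ω m m').symm
  have hone : ∀ k : ℕ, (1 : ↥(W₁ ⊔ W₂) →* ℂˣ) ^ k = 1 := fun k => one_pow (M := ↥(W₁ ⊔ W₂) →* ℂˣ) k
  have hmulpow : ∀ φ ψ : ↥(W₁ ⊔ W₂) →* ℂˣ, (φ * ψ) ^ m = φ ^ m * ψ ^ m :=
    fun φ ψ => mul_pow φ ψ m
  have hpp : ∀ ω : ↥(W₁ ⊔ W₂) →* ℂˣ, (ω ^ m) ^ m' = ω := by
    intro ω
    ext w
    rw [hpowmul, MonoidHom.pow_apply, ← map_pow, hwpow]
  set χ' : (↥(W₁ ⊔ W₂) →* ℂˣ) → (G → ℂ) := fun ω => fun g => χ (ω ^ m) (g ^ m') with hχ'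
  have hfam : Cfsg.IsCyclicTIFamily W₁ W₂ χ' := by
    refine ⟨?_, ?_, ?_, ?_, ?_⟩
    · intro ω
      rcases hχ.irr_or_neg (ω ^ m) with h1 | h1
      · left
        exact IsIrrCharacter.comp_pow h1 m' hm'
      · right
        exact IsIrrCharacter.comp_pow h1 m' hm'
    · intro ω ω'
      have h1 : Cfsg.classInner (χ' ω) (χ' ω') = Cfsg.classInner (χ (ω ^ m)) (χ (ω' ^ m)) :=
        classInner_comp_pow _ _ m' hm'
      rw [h1, hχ.orthonormal]
      by_cases hωω' : ω = ω'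
      · rw [if_pos hωω', if_pos (by rw [hωω'])]
      · rw [if_neg hωω', if_neg]
        intro h2
        apply hωω'
        rw [← hpp ω, h2, hpp]
    · simp only [hχ']
      rw [hone, hχ.map_one]
    · intro ω w hw₁ hw₂
      simp only [hχ']
      have h1 : (w : G) ^ m' = ((w ^ m' : ↥(W₁ ⊔ W₂)) : G) := by rw [Subgroup.coe_pow]
      rw [h1, hχ.eq_on (ω ^ m) (w ^ m')]
      · rw [MonoidHom.pow_apply, ← map_pow, ← pow_mul, mul_comm m' m, hwpow]
      · rw [Subgroup.coe_pow]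
        exact pow_coprime_not_mem W₁ _ hw₁ m' hm'
      · rw [Subgroup.coe_pow]
        exact pow_coprime_not_mem W₂ _ hw₂ m' hm'
    · intro φ ψ hφ hψ hφ₂ hψ₁
      have hφm : φ ^ m ≠ 1 := by
        intro h1
        apply hφ
        rw [← hpp φ, h1, hone]
      have hψm : ψ ^ m ≠ 1 := by
        intro h1
        apply hψ
        rw [← hpp ψ, h1, hone]
      have hφ₂m : ∀ w : ↥(W₁ ⊔ W₂), (w : G) ∈ W₂ → (φ ^ m) w = 1 := by
        intro w hw
        rw [MonoidHom.pow_apply, hφ₂ w hw, one_pow]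
      have hψ₁m : ∀ w : ↥(W₁ ⊔ W₂), (w : G) ∈ W₁ → (ψ ^ m) w = 1 := by
        intro w hw
        rw [MonoidHom.pow_apply, hψ₁ w hw, one_pow]
      have e1 := hχ.induced_eq (φ ^ m) (ψ ^ m) hφm hψm hφ₂m hψ₁m
      funext g
      have e2 := congrFun e1 (g ^ m')
      simp only [hχ']
      rw [hmulpow φ ψ, ← e2]
      have e3 := indFun_comp_pow_inv (W₁ ⊔ W₂)
        (fun w => 1 - (φ w : ℂ) - (ψ w : ℂ) + (φ w : ℂ) * (ψ w : ℂ)) m m' h g
      rw [← e3]
      congr 1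
      funext w
      simp only [MonoidHom.pow_apply, map_pow, Units.val_pow_eq_pow_val]
  have huniq := cyclicTI_family_unique W₁ W₂ hW hodd χ' χ hfam hχ
  have := congrFun (congrFun huniq ω) g
  exact this

end Cfsg.Agent.Helper6
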