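import Mathlib
import Cfsg.Prelude.Def_OddOrderChar
import Cfsg.Prelude.Def_OddOrderLocal
import Cfsg.Agent.Helper6.CycTIGalA
import Cfsg.Agent.Helper6.CycD

/-!
# Integrality of the values of the cyclic TI family at elements of coprime order
-/

set_option autoImplicit false
set_option linter.style.haveILetI false

namespace Cfsg.Agent.Helper6

open scoped ComplexConjugate

universe u

variable {G : Type u} [Group G]

/-- Lifting a residue class prime to `d` to one prime to a multiple `N` of `d`, together with an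
inverse modulo `N`. -/
theorem exists_coprime_lift (N d c : ℕ) (hN : 0 < N) (hd : d ∣ N) (hc : Nat.Coprime c d) :
    ∃ m m' : ℕ, m * m' ≡ 1 [MOD N] ∧ m' ≡ c [MOD d] := by
  haveI : NeZero N := ⟨hN.ne'⟩
  have hd0 : 0 < d := Nat.pos_of_dvd_of_pos hd hN
  haveI : NeZero d := ⟨hd0.ne'⟩
  obtain ⟨u, hu⟩ := ZMod.unitsMap_surjective hd (ZMod.unitOfCoprime c hc)
  refine ⟨((u⁻¹ : (ZMod N)ˣ) : ZMod N).val, (u : ZMod N).val, ?_, ?_⟩
  · rw [← ZMod.natCast_eq_natCast_iff]
    push_cast
    rw [ZMod.natCast_zmod_val, ZMod.natCast_zmod_val, ← Units.val_mul, inv_mul_cancel,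
      Units.val_one]
  · rw [← ZMod.natCast_eq_natCast_iff]
    have h1 := congrArg (fun v : (ZMod d)ˣ => (v : ZMod d)) hu
    simp only [ZMod.unitsMap_def, Units.coe_map, MonoidHom.coe_coe, ZMod.castHom_apply,
      ZMod.coe_unitOfCoprime] at h1
    rw [← h1, ZMod.natCast_val]

/-- **Values of the cyclic TI family at elements of order prime to the order of the linear
character are rational integers.** -/
theorem cyclicTI_value_int [Fintype G] (W₁ W₂ : Subgroup G)
    (hW : Cfsg.IsSelfNormalizingCyclic W₁ W₂) (hodd : Odd (Nat.card ↥(W₁ ⊔ W₂)))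
    (χ : (↥(W₁ ⊔ W₂) →* ℂˣ) → (G → ℂ)) (hχ : Cfsg.IsCyclicTIFamily W₁ W₂ χ)
    (ω : ↥(W₁ ⊔ W₂) →* ℂˣ) (g : G) (hg : Nat.Coprime (orderOf g) (orderOf ω)) :
    ∃ n : ℤ, χ ω g = n := by
  classical
  have hN : 0 < Nat.card G := Nat.card_pos
  have haN : orderOf g ∣ Nat.card G := orderOf_dvd_natCard g
  have hωW : ω ^ Nat.card ↥(W₁ ⊔ W₂) = 1 := by
    ext w
    rw [MonoidHom.pow_apply, ← map_pow, pow_card_eq_one', map_one]
    rfl
  have hnW : orderOf ω ∣ Nat.card ↥(W₁ ⊔ W₂) := orderOf_dvd_of_pow_eq_one hωW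
  have hnN : orderOf ω ∣ Nat.card G := hnW.trans (Subgroup.card_subgroup_dvd_card _)
  have hdvd : orderOf g * orderOf ω ∣ Nat.card G := Nat.Coprime.mul_dvd_of_dvd_of_dvd hg haN hnN
  have hinv : ∀ k : ℕ, k.Coprime (Nat.card G) → χ ω (g ^ k) = χ ω g := by
    intro k hk
    obtain ⟨c, hck, hc1⟩ := Nat.chineseRemainder hg k 1
    have hca : Nat.Coprime c (orderOf g) := by
      have h1 : Nat.gcd c (orderOf g) = Nat.gcd k (orderOf g) := Nat.ModEq.gcd_eq hck
      have h2 : Nat.Coprime k (orderOf g) := Nat.Coprime.coprime_dvd_right haN hk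
      unfold Nat.Coprime
      rw [h1]
      exact h2
    have hcn : Nat.Coprime c (orderOf ω) := by
      have h1 : Nat.gcd c (orderOf ω) = Nat.gcd 1 (orderOf ω) := Nat.ModEq.gcd_eq hc1
      unfold Nat.Coprime
      rw [h1]
      exact Nat.gcd_one_left _
    obtain ⟨m, m', hmm', hm'c⟩ := exists_coprime_lift (Nat.card G) (orderOf g * orderOf ω) c hN
      hdvd (Nat.Coprime.mul_right hca hcn)
    have hm'k : m' ≡ k [MOD orderOf g] := (hm'c.of_mul_right _).trans hck
    have hm'1 : m' ≡ 1 [MOD orderOf ω] := (hm'c.of_mul_left _).trans hc1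
    have hm1 : m ≡ 1 [MOD orderOf ω] := by
      have h1 : m * m' ≡ 1 [MOD orderOf ω] := hmm'.of_dvd hnN
      have h2 : m * m' ≡ m * 1 [MOD orderOf ω] := Nat.ModEq.mul_left m hm'1
      rw [mul_one] at h2
      exact h2.symm.trans h1
    have hgk : g ^ k = g ^ m' := pow_eq_pow_iff_modEq.mpr hm'k.symm
    have hωm : ω ^ m = ω := pow_eq_self_of_modEq_one ω m (orderOf ω) hm1 dvd_rfl
    have key := cyclicTI_family_pow W₁ W₂ hW hodd χ hχ m m' hmm' ω g
    rw [hωm] at key
    rw [hgk, key]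
  rcases hχ.irr_or_neg ω with h | h
  · exact IsCharacter.exists_int_of_pow_invariant (IsIrrCharacter.isCharacter h) g hinv
  · obtain ⟨z, hz⟩ := IsCharacter.exists_int_of_pow_invariant (IsIrrCharacter.isCharacter h) g
      (fun k hk => by
        simp only [Pi.neg_apply]
        rw [hinv k hk])
    refine ⟨-z, ?_⟩
    simp only [Pi.neg_apply] at hz
    push_cast
    rw [← hz, neg_neg]

end Cfsg.Agent.Helper6
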