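import Mathlib

/-!
# Group-theoretic preliminaries for cyclic TI configurations of prime-action type
(`L = K ⋊ W₁`, `W₂ = C_K(x)` for all `1 ≠ x ∈ W₁`).
-/

set_option autoImplicit false

namespace Cfsg.Agent.Helper6.CycTIPrime

variable {L : Type*} [Group L]

/-- A retraction onto a complement of a normal subgroup. -/
theorem exists_retraction (K W₁ : Subgroup L) [hK : K.Normal] (h₁ : K ⊓ W₁ = ⊥)
    (h₂ : K ⊔ W₁ = ⊤) :
    ∃ π : L →* W₁, (∀ u : W₁, π u = u) ∧ (∀ g : L, π g = 1 ↔ g ∈ K) := by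
  set f : W₁ →* L ⧸ K := (QuotientGroup.mk' K).comp W₁.subtype with hf
  have hinj : Function.Injective f := by
    rw [injective_iff_map_eq_one]
    intro u hu
    have h : (u : L) ∈ K := (QuotientGroup.eq_one_iff _).mp hu
    have h' : (u : L) ∈ K ⊓ W₁ := ⟨h, u.2⟩
    rw [h₁, Subgroup.mem_bot] at h'
    exact Subtype.ext h'
  have hsurj : Function.Surjective f := by
    intro q
    obtain ⟨g, rfl⟩ := QuotientGroup.mk_surjective q
    have hg : g ∈ (↑(K ⊔ W₁) : Set L) := by rw [h₂]; trivial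
    rw [Subgroup.normal_mul] at hg
    obtain ⟨k, hk, u, hu, rfl⟩ := hg
    refine ⟨⟨u, hu⟩, ?_⟩
    show QuotientGroup.mk' K u = QuotientGroup.mk' K (k * u)
    rw [map_mul]
    have hk1 : QuotientGroup.mk' K k = 1 := (QuotientGroup.eq_one_iff k).mpr hk
    rw [hk1, one_mul]
  let e : W₁ ≃* L ⧸ K := MulEquiv.ofBijective f ⟨hinj, hsurj⟩
  refine ⟨e.symm.toMonoidHom.comp (QuotientGroup.mk' K), ?_, ?_⟩
  · intro u
    show e.symm (QuotientGroup.mk' K u) = u
    have h : QuotientGroup.mk' K (u : L) = e u := rfl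
    rw [h, e.symm_apply_apply]
  · intro g
    show e.symm (QuotientGroup.mk' K g) = 1 ↔ g ∈ K
    rw [MulEquiv.map_eq_one_iff]
    exact QuotientGroup.eq_one_iff g

theorem card_coprime [Finite L] (K W₁ : Subgroup L) [hK : K.Normal] (h₁ : K ⊓ W₁ = ⊥)
    (h₂ : K ⊔ W₁ = ⊤) (hHall : Nat.Coprime (Nat.card W₁) W₁.index) :
    Nat.Coprime (Nat.card K) (Nat.card W₁) := by
  have hc : K.IsComplement' W₁ := by
    apply Subgroup.isComplement'_of_disjoint_and_mul_eq_univ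
    · exact disjoint_iff.mpr h₁
    · rw [← Subgroup.normal_mul, h₂]
      rfl
  rw [← hc.index_eq_card]
  exact hHall.symm

theorem commute_of_centralizer (K W₁ W₂ : Subgroup L)
    (hC : ∀ x ∈ W₁, x ≠ 1 → K ⊓ Subgroup.centralizer ({x} : Set L) = W₂)
    {a b : L} (ha : a ∈ W₁) (hb : b ∈ W₂) : a * b = b * a := by
  by_cases h : a = 1
  · rw [h, one_mul, mul_one]
  · have h1 : b ∈ K ⊓ Subgroup.centralizer ({a} : Set L) := by
      rw [hC a ha h]
      exact hb
    have h2 := Subgroup.mem_centralizer_iff.mp (Subgroup.mem_inf.mp h1).2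
    exact h2 a rfl

theorem exists_decomp (W₁ W₂ : Subgroup L) (hcomm : ∀ a ∈ W₁, ∀ b ∈ W₂, a * b = b * a) {w : L}
    (hw : w ∈ W₁ ⊔ W₂) : ∃ a ∈ W₁, ∃ b ∈ W₂, w = a * b := by
  have hr := MonoidHom.noncommCoprod_range W₁.subtype W₂.subtype
    (fun m n => hcomm m m.2 n n.2)
  rw [Subgroup.range_subtype, Subgroup.range_subtype] at hr
  rw [← hr] at hw
  obtain ⟨⟨a, b⟩, rfl⟩ := hw
  exact ⟨a, a.2, b, b.2, rfl⟩

/-- `W₁ ⊔ W₂` is abelian. -/
theorem sup_comm_of (W₁ W₂ : Subgroup L) (hcomm : ∀ a ∈ W₁, ∀ b ∈ W₂, a * b = b * a)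
    (h1 : ∀ a ∈ W₁, ∀ a' ∈ W₁, a * a' = a' * a) (h2 : ∀ b ∈ W₂, ∀ b' ∈ W₂, b * b' = b' * b)
    {v w : L} (hv : v ∈ W₁ ⊔ W₂) (hw : w ∈ W₁ ⊔ W₂) : v * w = w * v := by
  obtain ⟨a, ha, b, hb, rfl⟩ := exists_decomp W₁ W₂ hcomm hv
  obtain ⟨a', ha', b', hb', rfl⟩ := exists_decomp W₁ W₂ hcomm hw
  calc a * b * (a' * b') = a * (b * a') * b' := by group
    _ = a * (a' * b) * b' := by rw [hcomm a' ha' b hb]
    _ = (a * a') * (b * b') := by group
    _ = (a' * a) * (b' * b) := by rw [h1 a ha a' ha', h2 b hb b' hb']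
    _ = a' * (a * b') * b := by group
    _ = a' * (b' * a) * b := by rw [hcomm a ha b' hb']
    _ = a' * b' * (a * b) := by group

theorem centralizer_eq [Finite L] (K W₁ W₂ : Subgroup L) [hK : K.Normal]
    (h₂ : K ⊔ W₁ = ⊤) (hcyc : IsCyclic W₁)
    (hcop : Nat.Coprime (Nat.card K) (Nat.card W₁)) (hW₂c : IsCyclic W₂) (hW₂K : W₂ ≤ K)
    (hC : ∀ x ∈ W₁, x ≠ 1 → K ⊓ Subgroup.centralizer ({x} : Set L) = W₂)
    {w : L} (hw : w ∈ W₁ ⊔ W₂) (hw₂ : w ∉ W₂) :
    Subgroup.centralizer ({w} : Set L) = W₁ ⊔ W₂ := by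
  have hcomm : ∀ a ∈ W₁, ∀ b ∈ W₂, a * b = b * a := fun a ha b hb =>
    commute_of_centralizer K W₁ W₂ hC ha hb
  have h1 : ∀ a ∈ W₁, ∀ a' ∈ W₁, a * a' = a' * a := by
    intro a ha a' ha'
    haveI := hcyc
    have := mul_comm' (⟨a, ha⟩ : W₁) ⟨a', ha'⟩
    exact congrArg Subtype.val this
  have h2' : ∀ b ∈ W₂, ∀ b' ∈ W₂, b * b' = b' * b := by
    intro b hb b' hb'
    haveI := hW₂c
    have := mul_comm' (⟨b, hb⟩ : W₂) ⟨b', hb'⟩
    exact congrArg Subtype.val this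
  apply le_antisymm
  · intro x hx
    rw [Subgroup.mem_centralizer_iff] at hx
    have hxw : w * x = x * w := hx w rfl
    obtain ⟨a, ha, b, hb, rfl⟩ := exists_decomp W₁ W₂ hcomm hw
    have ha1 : a ≠ 1 := by
      intro h
      apply hw₂
      rw [h, one_mul]
      exact hb
    set n := Nat.card W₂ with hn
    have hbn : b ^ n = 1 := by
      have := pow_card_eq_one' (G := W₂) (x := ⟨b, hb⟩)
      exact congrArg Subtype.val this
    have hpow : (a * b) ^ n = a ^ n := by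
      rw [(show Commute a b from hcomm a ha b hb).mul_pow, hbn, mul_one]
    have hy1 : a ^ n ≠ 1 := by
      intro h
      apply ha1
      have hd1 : orderOf a ∣ n := orderOf_dvd_of_pow_eq_one h
      have hd2 : orderOf a ∣ Nat.card W₁ := by
        have := orderOf_dvd_natCard (⟨a, ha⟩ : W₁)
        rwa [Subgroup.orderOf_mk] at this
      have hd3 : n ∣ Nat.card K := Subgroup.card_dvd_of_le hW₂K
      have hd4 : orderOf a ∣ 1 := by
        have := Nat.dvd_gcd (hd1.trans hd3) hd2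
        rwa [hcop] at this
      exact orderOf_eq_one_iff.mp (Nat.dvd_one.mp hd4)
    have hyW : a ^ n ∈ W₁ := W₁.pow_mem ha n
    have hxy : (a ^ n) * x = x * (a ^ n) := by
      rw [← hpow]
      exact (Commute.pow_left (show Commute (a * b) x from hxw) n)
    have hx' : x ∈ (↑(K ⊔ W₁) : Set L) := by rw [h₂]; trivial
    rw [Subgroup.normal_mul] at hx'
    obtain ⟨k, hk, u, hu, rfl⟩ := hx'
    have huy : (a ^ n) * u = u * (a ^ n) := h1 _ hyW u hu
    have hky : (a ^ n) * k = k * (a ^ n) := by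
      have e1 : a ^ n * k = a ^ n * (k * u) * u⁻¹ := by group
      rw [e1, hxy]
      have e2 : k * u * a ^ n * u⁻¹ = k * (u * a ^ n) * u⁻¹ := by group
      rw [e2, ← huy]
      group
    have hkW₂ : k ∈ W₂ := by
      rw [← hC (a ^ n) hyW hy1]
      refine Subgroup.mem_inf.mpr ⟨hk, ?_⟩
      rw [Subgroup.mem_centralizer_iff]
      intro z hz
      rw [Set.mem_singleton_iff] at hz
      rw [hz]
      exact hky
    exact Subgroup.mul_mem _ (Subgroup.mem_sup_right hkW₂) (Subgroup.mem_sup_left hu)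
  · intro x hx
    rw [Subgroup.mem_centralizer_iff]
    intro z hz
    rw [Set.mem_singleton_iff] at hz
    rw [hz]
    exact sup_comm_of W₁ W₂ hcomm h1 h2' hw hx

end Cfsg.Agent.Helper6.CycTIPrime
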