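import Mathlib
import Cfsg.Agent.S4446
import Cfsg.Agent.S4451
import Cfsg.Agent.Helper6.CycTIPrimeA
import Cfsg.Agent.Helper6.Linear
import Cfsg.Agent.Helper6.BlockPart

/-!
# Cyclic TI configurations of prime-action type: the extended characters
-/

set_option autoImplicit false
set_option linter.style.haveILetI false

namespace Cfsg.Agent.Helper6.CycTIPrime

open Module

/-- A character of degree one comes from a homomorphism to `ℂˣ`. -/
theorem exists_hom_of_char_degree_one {G : Type*} [Group G] {χ : G → ℂ}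
    (hχ : Cfsg.IsCharacter G χ) (h1 : χ 1 = 1) :
    ∃ lam : G →* ℂˣ, χ = fun g => ((lam g : ℂˣ) : ℂ) := by
  obtain ⟨n, ρ, hρ⟩ := hχ
  have hn : n = 1 := by
    have : ρ.character 1 = (finrank ℂ (Fin n → ℂ) : ℂ) := Representation.char_one ρ
    rw [hρ, h1] at this
    simp at this
    exact_mod_cast this.symm
  subst hn
  refine ⟨(charHom ρ).toHomUnits, ?_⟩
  ext g
  rw [← hρ]
  rfl

theorem exists_ext {L : Type*} [Group L] [Fintype L] (K W₁ W₂ : Subgroup L) [hK : K.Normal]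
    (hKW₁ : K ⊓ W₁ = ⊥) (hKW₁' : K ⊔ W₁ = ⊤) (hW₁ : W₁ ≠ ⊥) (hW₁c : IsCyclic W₁)
    (hHall : Nat.Coprime (Nat.card W₁) W₁.index) (hW₂K : W₂ ≤ K)
    (hC : ∀ x ∈ W₁, x ≠ 1 → K ⊓ Subgroup.centralizer ({x} : Set L) = W₂)
    (hodd : Odd (Nat.card W₁)) (β : W₂ →* ℂˣ) :
    ∃ (ψ : L → ℂ) (ε : ℂ), Cfsg.IsIrrCharacter L ψ ∧ (ε = 1 ∨ ε = -1) ∧
      (∀ (c : W₂) (x : W₁), x ≠ 1 → ψ ((c : L) * x) = ε * ((β c : ℂˣ) : ℂ)) ∧
      ∃ n : ℤ, ψ 1 - ε = n * (Nat.card W₁ : ℂ) := by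
  classical
  haveI : Fintype K := Fintype.ofFinite K
  haveI : Fintype W₂ := Fintype.ofFinite W₂
  have hnorm : ∀ s ∈ W₁, ∀ g ∈ K, s * g * s⁻¹ ∈ K := fun s _ g hg => hK.conj_mem g hg s
  have hcop := card_coprime K W₁ hKW₁ hKW₁' hHall
  have hCeq : W₂ = K ⊓ Subgroup.centralizer (W₁ : Set L) := by
    obtain ⟨x₀, hx₀1⟩ := (Subgroup.ne_bot_iff_exists_ne_one.mp hW₁)
    have hx₀' : (x₀ : L) ≠ 1 := fun h => hx₀1 (Subtype.ext h)
    apply le_antisymm
    · intro b hb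
      refine Subgroup.mem_inf.mpr ⟨hW₂K hb, ?_⟩
      rw [Subgroup.mem_centralizer_iff]
      intro a ha
      exact commute_of_centralizer K W₁ W₂ hC ha hb
    · rw [← hC x₀ x₀.2 hx₀']
      apply inf_le_inf_left
      apply Subgroup.centralizer_le
      intro z hz
      rw [Set.mem_singleton_iff] at hz
      rw [hz]
      exact x₀.2
  set βirr : Cfsg.IrrCharacter W₂ := ⟨fun c => ((β c : ℂˣ) : ℂ), isIrrCharacter_of_hom β⟩
    with hβirr
  have hmain := Cfsg.Agent.S4446.result K W₁ hnorm hcop hKW₁' hW₁c W₂ hCeq hW₂K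
  obtain ⟨χ, χh, ε₀, hinv, hext, hdet, hε₀, hβ⟩ := hmain.2.2 βirr
  obtain ⟨ε, hε, ⟨μ', hμ'char, hμ'1, hμ'sq, hval⟩, -, hdvd⟩ :=
    Cfsg.Agent.S4451.result K W₁ hnorm hcop hKW₁' hW₁c W₂ hCeq hW₂K hC χ hinv χh hext hdet
      βirr ε₀ hε₀ hβ
  -- `μ'` is trivial
  obtain ⟨lam, hlam⟩ := exists_hom_of_char_degree_one hμ'char hμ'1
  have hlam1 : ∀ x : W₁, lam x = 1 := by
    intro x
    have hsq : lam x ^ 2 = 1 := by
      apply Units.ext
      have := hμ'sq x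
      rw [hlam] at this
      rw [pow_two]
      exact this
    have hcard : lam x ^ Nat.card W₁ = 1 := by
      rw [← map_pow, pow_card_eq_one', map_one]
    obtain ⟨m, hm⟩ := hodd
    rw [hm, pow_succ, pow_mul, hsq, one_pow, one_mul] at hcard
    exact hcard
  have hμ'x : ∀ x : W₁, μ' x = 1 := by
    intro x
    rw [hlam]
    show ((lam x : ℂˣ) : ℂ) = 1
    rw [hlam1 x]
    rfl
  refine ⟨(χh : L → ℂ), (ε : ℂ), χh.2, ?_, ?_, ?_⟩
  · rcases hε with h | h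
    · left; rw [h]; norm_num
    · right; rw [h]; norm_num
  · intro c x hx
    rw [hval c x hx, hμ'x x, mul_one]
  · obtain ⟨n, hn⟩ := hdvd
    refine ⟨n, ?_⟩
    have hdβ : Cfsg.charDegree (βirr : W₂ → ℂ) = 1 := by
      have h := charDegree_cast_of_isCharacter (IsIrrCharacter.isCharacter βirr.2)
      have h1 : (βirr : W₂ → ℂ) 1 = 1 := by
        show ((β 1 : ℂˣ) : ℂ) = 1
        rw [map_one]
        rfl
      rw [h1] at h
      exact_mod_cast h
    have hdχ : (Cfsg.charDegree (χ : K → ℂ) : ℂ) = (χh : L → ℂ) 1 := by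
      rw [charDegree_cast_of_isCharacter (IsIrrCharacter.isCharacter χ.2)]
      exact (hext 1).symm
    rw [hdβ] at hn
    have hn' : ((Cfsg.charDegree (χ : K → ℂ) : ℤ) : ℂ) - (ε : ℂ) * ((1 : ℕ) : ℤ) =
        ((Nat.card W₁ : ℤ) : ℂ) * (n : ℂ) := by
      exact_mod_cast congrArg (fun z : ℤ => (z : ℂ)) hn
    rw [← hdχ]
    have e1 : ((Cfsg.charDegree (χ : K → ℂ) : ℤ) : ℂ) = (Cfsg.charDegree (χ : K → ℂ) : ℂ) := by
      norm_cast
    rw [e1] at hn'
    simp only [Nat.cast_one, Int.cast_one, mul_one, Int.cast_natCast] at hn'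
    rw [hn']
    ring

end Cfsg.Agent.Helper6.CycTIPrime
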