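import Mathlib
import Cfsg.Prelude.Def_Characters
import Cfsg.Agent.Helper6.ColumnOrth
import Cfsg.Agent.Helper6.Linear
import Cfsg.Agent.Helper6.LinearCount
import Cfsg.Agent.Helper6.IndFun
import Cfsg.Agent.Helper6.Expansion

/-!
# Characters attached to an abelian self-centralizing configuration
-/

set_option autoImplicit false
set_option linter.style.haveILetI false

namespace Cfsg.Agent.Helper6.CycTIPrime

open scoped ComplexConjugate

variable {L : Type*} [Group L] [Fintype L]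

theorem normSq_hom_units {A : Type*} [Group A] [Finite A] (ω : A →* ℂˣ) (a : A) :
    Complex.normSq ((ω a : ℂˣ) : ℂ) = 1 := by
  have h1 : ‖((ω a : ℂˣ) : ℂ)‖ = 1 := by
    apply Complex.norm_eq_one_of_pow_eq_one (n := orderOf a)
    · rw [← Units.val_pow_eq_pow_val, ← map_pow, pow_orderOf_eq_one, map_one, Units.val_one]
    · exact (orderOf_pos a).ne'
  rw [Complex.normSq_eq_norm_sq, h1]
  simp

theorem card_hom_of_comm (W : Subgroup L) (hWc : ∀ a ∈ W, ∀ b ∈ W, a * b = b * a) :
    Nat.card (W →* ℂˣ) = Nat.card W := by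
  rw [card_hom_units]
  have h : commutator W = ⊥ := by
    unfold commutator
    rw [Subgroup.commutator_eq_bot_iff_le_centralizer]
    intro x _
    rw [Subgroup.mem_centralizer_iff]
    intro y _
    exact Subtype.ext (hWc y y.2 x x.2)
  rw [h, Subgroup.index_bot]

theorem vanish_off (W : Subgroup L) (hWc : ∀ a ∈ W, ∀ b ∈ W, a * b = b * a) (T : Set L)
    (hT : ∀ w ∈ T, Subgroup.centralizer ({w} : Set L) = W)
    (μ : (W →* ℂˣ) → (L → ℂ)) (c : (W →* ℂˣ) → ℂ) (hμinj : Function.Injective μ)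
    (hμirr : ∀ ω, Cfsg.IsIrrCharacter L (μ ω)) (hc : ∀ ω, c ω = 1 ∨ c ω = -1)
    (hval : ∀ ω, ∀ w : W, (w : L) ∈ T → μ ω w = c ω * ((ω w : ℂˣ) : ℂ))
    (θ : L → ℂ) (hθ : Cfsg.IsIrrCharacter L θ) (hne : ∀ ω, θ ≠ μ ω) (w : W)
    (hw : (w : L) ∈ T) : θ w = 0 := by
  classical
  haveI : Finite (Cfsg.IrrCharacter L) := irr_finite
  haveI : Fintype (Cfsg.IrrCharacter L) := Fintype.ofFinite _
  haveI : Finite (W →* ℂˣ) := finite_hom_units
  haveI : Fintype (W →* ℂˣ) := Fintype.ofFinite _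
  have hcol := column_orthogonality_aux (w : L) (w : L)
  rw [if_pos (IsConj.refl _), hT _ hw] at hcol
  have hreal : ∑ χ : Cfsg.IrrCharacter L, Complex.normSq ((χ : L → ℂ) w) = (Nat.card W : ℝ) := by
    have h1 : ∀ χ : Cfsg.IrrCharacter L, (χ : L → ℂ) w * conj ((χ : L → ℂ) w) =
        ((Complex.normSq ((χ : L → ℂ) w) : ℝ) : ℂ) := fun χ => Complex.mul_conj _
    simp_rw [h1] at hcol
    rw [← Complex.ofReal_sum] at hcol
    have h2 : ((Nat.card W : ℝ) : ℂ) = (Nat.card W : ℂ) := by norm_cast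
    rw [← h2] at hcol
    exact Complex.ofReal_injective hcol
  set μ' : (W →* ℂˣ) → Cfsg.IrrCharacter L := fun ω => ⟨μ ω, hμirr ω⟩ with hμ'
  have hμ'inj : Function.Injective μ' := by
    intro a b hab
    apply hμinj
    exact congrArg Subtype.val hab
  have himage : ∑ χ ∈ Finset.univ.image μ', Complex.normSq ((χ : L → ℂ) w) =
      (Nat.card W : ℝ) := by
    rw [Finset.sum_image (fun a _ b _ hab => hμ'inj hab)]
    have h1 : ∀ ω : W →* ℂˣ, Complex.normSq (((μ' ω : Cfsg.IrrCharacter L) : L → ℂ) w) = 1 := by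
      intro ω
      show Complex.normSq (μ ω w) = 1
      rw [hval ω w hw, Complex.normSq_mul, normSq_hom_units, mul_one]
      rcases hc ω with h | h
      · rw [h]; simp
      · rw [h]; simp
    simp_rw [h1]
    rw [Finset.sum_const, Finset.card_univ, nsmul_eq_mul, mul_one, ← Nat.card_eq_fintype_card,
      card_hom_of_comm W hWc]
  have hsplit := Finset.sum_add_sum_compl (Finset.univ.image μ')
    (fun χ : Cfsg.IrrCharacter L => Complex.normSq ((χ : L → ℂ) w))
  rw [himage, hreal] at hsplit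
  have hzero : ∑ χ ∈ (Finset.univ.image μ')ᶜ, Complex.normSq ((χ : L → ℂ) w) = 0 := by
    linarith
  rw [Finset.sum_eq_zero_iff_of_nonneg (fun χ _ => Complex.normSq_nonneg _)] at hzero
  have hmem : (⟨θ, hθ⟩ : Cfsg.IrrCharacter L) ∈ (Finset.univ.image μ')ᶜ := by
    rw [Finset.mem_compl, Finset.mem_image]
    rintro ⟨ω, -, hω⟩
    exact hne ω (congrArg Subtype.val hω).symm
  exact Complex.normSq_eq_zero.mp (hzero _ hmem)

theorem ind_eq (W : Subgroup L) (T : Set L)
    (μ : (W →* ℂˣ) → (L → ℂ)) (c : (W →* ℂˣ) → ℂ) (hμinj : Function.Injective μ)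
    (hμirr : ∀ ω, Cfsg.IsIrrCharacter L (μ ω)) (hc : ∀ ω, c ω = 1 ∨ c ω = -1)
    (hval : ∀ ω, ∀ w : W, (w : L) ∈ T → μ ω w = c ω * ((ω w : ℂˣ) : ℂ))
    (hvan : ∀ θ : L → ℂ, Cfsg.IsIrrCharacter L θ → (∀ ω, θ ≠ μ ω) →
      ∀ w : W, (w : L) ∈ T → θ w = 0)
    (ω ω' : W →* ℂˣ) (hagree : ∀ w : W, (w : L) ∉ T → ω w = ω' w) (hcc : c ω = c ω') :
    Cfsg.indFun W (fun w => ((ω w : ℂˣ) : ℂ) - ((ω' w : ℂˣ) : ℂ)) = c ω • (μ ω - μ ω') := by
  classical
  haveI : Fintype W := Fintype.ofFinite W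
  set φ : W → ℂ := fun w => ((ω w : ℂˣ) : ℂ) - ((ω' w : ℂˣ) : ℂ) with hφ
  have hφ0 : ∀ w : W, (w : L) ∉ T → φ w = 0 := by
    intro w hw
    show ((ω w : ℂˣ) : ℂ) - ((ω' w : ℂˣ) : ℂ) = 0
    rw [hagree w hw, sub_self]
  have hφsub : φ = (fun w => ((ω w : ℂˣ) : ℂ)) - (fun w => ((ω' w : ℂˣ) : ℂ)) := rfl
  have hlin : ∀ a b : W →* ℂˣ, Cfsg.classInner (fun w => ((a w : ℂˣ) : ℂ))
      (fun w => ((b w : ℂˣ) : ℂ)) = if a = b then 1 else 0 := by
    intro a b
    by_cases h : a = b
    · rw [if_pos h, h]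
      exact classInner_irr_self (isIrrCharacter_of_hom b)
    · rw [if_neg h]
      apply classInner_irr_ne (isIrrCharacter_of_hom a) (isIrrCharacter_of_hom b)
      intro hab
      apply h
      ext w
      exact congrFun hab w
  have hμin : ∀ a b : W →* ℂˣ, Cfsg.classInner (μ a) (μ b) = if a = b then 1 else 0 := by
    intro a b
    by_cases h : a = b
    · rw [if_pos h, h]
      exact classInner_irr_self (hμirr b)
    · rw [if_neg h]
      exact classInner_irr_ne (hμirr a) (hμirr b) (fun hab => h (hμinj hab))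
  have hcreal : ∀ a, conj (c a) = c a := by
    intro a
    rcases hc a with h | h
    · rw [h, map_one]
    · rw [h, map_neg, map_one]
  have hcf : Cfsg.IsClassFunction L (Cfsg.indFun W φ - c ω • (μ ω - μ ω')) := by
    apply IsClassFunction.sub (indFun_isClassFunction W φ)
    apply IsClassFunction.smul
    exact IsClassFunction.sub
      (IsCharacter.isClassFunction (IsIrrCharacter.isCharacter (hμirr ω)))
      (IsCharacter.isClassFunction (IsIrrCharacter.isCharacter (hμirr ω')))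
  have h0 := eq_zero_of_classInner_irr_eq_zero _ hcf ?_
  · exact sub_eq_zero.mp h0
  intro θ hθ
  rw [classInner_sub_left, classInner_smul_left, classInner_sub_left,
    frobenius_reciprocity W φ θ (IsCharacter.isClassFunction (IsIrrCharacter.isCharacter hθ))]
  by_cases hex : ∃ ω'', θ = μ ω''
  · obtain ⟨ω'', rfl⟩ := hex
    have key : Cfsg.classInner φ (fun h : W => μ ω'' h) =
        c ω'' * Cfsg.classInner φ (fun w => ((ω'' w : ℂˣ) : ℂ)) := by
      rw [classInner_def, classInner_def]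
      have hs : ∑ g : W, φ g * conj (μ ω'' g) =
          c ω'' * ∑ g : W, φ g * conj (((ω'' g : ℂˣ) : ℂ)) := by
        rw [Finset.mul_sum]
        apply Finset.sum_congr rfl
        intro w _
        by_cases hw : (w : L) ∈ T
        · rw [hval ω'' w hw, map_mul, hcreal]
          ring
        · rw [hφ0 w hw, zero_mul, zero_mul, mul_zero]
      rw [hs]
      ring
    rw [key, hφsub, classInner_sub_left, hlin, hlin, hμin, hμin]
    by_cases h1 : ω = ω''
    · rw [h1]
      ring
    · by_cases h2 : ω' = ω''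
      · rw [hcc, h2]
        ring
      · rw [if_neg h1, if_neg h2]
        ring
  · push Not at hex
    have h1 : Cfsg.classInner φ (fun h : W => θ h) = 0 := by
      rw [classInner_def]
      rw [Finset.sum_eq_zero, mul_zero]
      intro w _
      by_cases hw : (w : L) ∈ T
      · rw [hvan θ hθ hex w hw, map_zero, mul_zero]
      · rw [hφ0 w hw, zero_mul]
    rw [h1, classInner_irr_ne (hμirr ω) hθ (hex ω).symm,
      classInner_irr_ne (hμirr ω') hθ (hex ω').symm]
    ring

end Cfsg.Agent.Helper6.CycTIPrime
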