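import Mathlib
import Cfsg.Agent.Helper6.CycTIPrimeB
import Cfsg.Agent.Helper6.CycTIPrimeC
import Cfsg.Agent.Helper6.AbelianInertia

/-!
# Cyclic TI configurations of prime-action type: the main theorem
-/

set_option autoImplicit false
set_option linter.style.haveILetI false
set_option maxHeartbeats 800000

namespace Cfsg.Agent.Helper6.CycTIPrime

theorem cycTI_prime_main {L : Type*} [Group L] [Fintype L] (K W₁ W₂ : Subgroup L)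
    [hK : K.Normal] (hKW₁ : K ⊓ W₁ = ⊥) (hKW₁' : K ⊔ W₁ = ⊤) (hW₁ : W₁ ≠ ⊥)
    (hW₁c : IsCyclic W₁) (hHall : Nat.Coprime (Nat.card W₁) W₁.index)
    (hW₂c : IsCyclic W₂) (hW₂K : W₂ ≤ K)
    (hC : ∀ x ∈ W₁, x ≠ 1 → K ⊓ Subgroup.centralizer ({x} : Set L) = W₂)
    (hodd : Odd (Nat.card ↥(W₁ ⊔ W₂))) :
    ∃ (μ : (↥(W₁ ⊔ W₂) →* ℂˣ) → (L → ℂ)) (δ : (↥(W₁ ⊔ W₂) →* ℂˣ) → ℂ),
      Function.Injective μ ∧ (∀ ω, Cfsg.IsIrrCharacter L (μ ω)) ∧ (∀ ω, δ ω = 1 ∨ δ ω = -1) ∧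
      (∀ ω ω' : ↥(W₁ ⊔ W₂) →* ℂˣ, (∀ w : ↥(W₁ ⊔ W₂), (w : L) ∈ W₂ → ω w = ω' w) →
        δ ω = δ ω' ∧ Cfsg.indFun (W₁ ⊔ W₂) (fun w => ((ω w : ℂˣ) : ℂ) - ((ω' w : ℂˣ) : ℂ)) =
          δ ω • (μ ω - μ ω')) ∧
      (∀ ω, ∀ w : ↥(W₁ ⊔ W₂), (w : L) ∉ W₂ → μ ω w = δ ω * ((ω w : ℂˣ) : ℂ)) ∧
      (∀ θ : L → ℂ, Cfsg.IsIrrCharacter L θ → (∀ ω, θ ≠ μ ω) →
        ∀ w : ↥(W₁ ⊔ W₂), (w : L) ∉ W₂ → θ w = 0) ∧
      (∀ ω, ∃ n : ℤ, μ ω 1 - δ ω = n * (Nat.card W₁ : ℂ)) := by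
  classical
  have hoddW₁ : Odd (Nat.card W₁) := by
    have hd : Nat.card W₁ ∣ Nat.card ↥(W₁ ⊔ W₂) := Subgroup.card_dvd_of_le le_sup_left
    exact hodd.of_dvd_nat hd
  have hext := exists_ext K W₁ W₂ hKW₁ hKW₁' hW₁ hW₁c hHall hW₂K hC hoddW₁
  choose ψ ε hψirr hε hψval hψdeg using hext
  obtain ⟨π, hπ₁, hπK⟩ := exists_retraction K W₁ hKW₁ hKW₁'
  have hcomm : ∀ a ∈ W₁, ∀ b ∈ W₂, a * b = b * a := fun a ha b hb =>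
    commute_of_centralizer K W₁ W₂ hC ha hb
  have hcop := card_coprime K W₁ hKW₁ hKW₁' hHall
  have hc1 : ∀ a ∈ W₁, ∀ a' ∈ W₁, a * a' = a' * a := by
    intro a ha a' ha'
    haveI := hW₁c
    have := mul_comm' (⟨a, ha⟩ : W₁) ⟨a', ha'⟩
    exact congrArg Subtype.val this
  have hc2 : ∀ b ∈ W₂, ∀ b' ∈ W₂, b * b' = b' * b := by
    intro b hb b' hb'
    haveI := hW₂c
    have := mul_comm' (⟨b, hb⟩ : W₂) ⟨b', hb'⟩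
    exact congrArg Subtype.val this
  have hWc : ∀ a ∈ W₁ ⊔ W₂, ∀ b ∈ W₁ ⊔ W₂, a * b = b * a := fun a ha b hb =>
    sup_comm_of W₁ W₂ hcomm hc1 hc2 ha hb
  -- elements `a * b` with `a ≠ 1` are outside `W₂`
  have hout : ∀ a ∈ W₁, a ≠ 1 → ∀ b ∈ W₂, a * b ∉ W₂ := by
    intro a ha ha1 b hb hab
    apply ha1
    have h1 : a ∈ W₂ := by
      have := W₂.mul_mem hab (W₂.inv_mem hb)
      rwa [mul_inv_cancel_right] at this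
    have h2 : a ∈ K ⊓ W₁ := Subgroup.mem_inf.mpr ⟨hW₂K h1, ha⟩
    rw [hKW₁, Subgroup.mem_bot] at h2
    exact h2
  set i₁ : W₁ →* ↥(W₁ ⊔ W₂) := Subgroup.inclusion le_sup_left with hi₁
  set i₂ : W₂ →* ↥(W₁ ⊔ W₂) := Subgroup.inclusion le_sup_right with hi₂
  have hdec : ∀ w : ↥(W₁ ⊔ W₂), ∃ (a : W₁) (b : W₂), w = i₁ a * i₂ b := by
    intro w
    obtain ⟨a, ha, b, hb, hab⟩ := exists_decomp W₁ W₂ hcomm w.2
    exact ⟨⟨a, ha⟩, ⟨b, hb⟩, Subtype.ext hab⟩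
  set μ : (↥(W₁ ⊔ W₂) →* ℂˣ) → (L → ℂ) := fun ω =>
    ψ (ω.comp i₂) * fun g => (((((ω.comp i₁).comp π) g : ℂˣ)) : ℂ) with hμ
  set δ : (↥(W₁ ⊔ W₂) →* ℂˣ) → ℂ := fun ω => ε (ω.comp i₂) with hδ
  -- the value formula
  have hvalab : ∀ (ω : ↥(W₁ ⊔ W₂) →* ℂˣ) (a : W₁) (b : W₂), a ≠ 1 →
      μ ω ((a : L) * b) = δ ω * ((ω (i₁ a * i₂ b) : ℂˣ) : ℂ) := by
    intro ω a b ha1
    have hπw : π ((a : L) * b) = a := by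
      rw [map_mul]
      have h1 : π (b : L) = 1 := (hπK b).mpr (hW₂K b.2)
      rw [h1, mul_one]
      exact hπ₁ a
    have h1 := hψval (ω.comp i₂) b a ha1
    have hab : (a : L) * b = b * a := hcomm a a.2 b b.2
    show ψ (ω.comp i₂) ((a : L) * b) * (((ω.comp i₁) (π ((a : L) * b)) : ℂˣ) : ℂ) =
      ε (ω.comp i₂) * ((ω (i₁ a * i₂ b) : ℂˣ) : ℂ)
    rw [hπw, hab, h1, map_mul, Units.val_mul]
    show ε (ω.comp i₂) * ((ω (i₂ b) : ℂˣ) : ℂ) * ((ω (i₁ a) : ℂˣ) : ℂ) = _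
    ring
  have h5 : ∀ ω, ∀ w : ↥(W₁ ⊔ W₂), (w : L) ∉ W₂ → μ ω w = δ ω * ((ω w : ℂˣ) : ℂ) := by
    intro ω w hw
    obtain ⟨a, b, hab⟩ := hdec w
    have ha1 : a ≠ 1 := by
      rintro rfl
      apply hw
      rw [hab]
      show ((i₁ 1 * i₂ b : ↥(W₁ ⊔ W₂)) : L) ∈ W₂
      rw [map_one, one_mul]
      exact b.2
    have h1 := hvalab ω a b ha1
    rw [hab]
    exact h1
  have hδ' : ∀ ω, δ ω = 1 ∨ δ ω = -1 := fun ω => hε (ω.comp i₂)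
  have hδne : ∀ ω, δ ω ≠ 0 := by
    intro ω
    rcases hδ' ω with h | h
    · rw [h]; norm_num
    · rw [h]; norm_num
  have hμirr : ∀ ω, Cfsg.IsIrrCharacter L (μ ω) := fun ω =>
    IsIrrCharacter.mul_hom ((ω.comp i₁).comp π) (hψirr (ω.comp i₂))
  have hagree₂ : ∀ ω ω' : ↥(W₁ ⊔ W₂) →* ℂˣ,
      (∀ w : ↥(W₁ ⊔ W₂), (w : L) ∈ W₂ → ω w = ω' w) → ω.comp i₂ = ω'.comp i₂ := by
    intro ω ω' h
    ext b
    show ((ω (i₂ b) : ℂˣ) : ℂ) = ((ω' (i₂ b) : ℂˣ) : ℂ)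
    rw [h (i₂ b) b.2]
  have hμinj : Function.Injective μ := by
    intro ω ω' hωω'
    obtain ⟨a₀, ha₀⟩ := Subgroup.ne_bot_iff_exists_ne_one.mp hW₁
    have hkey : ∀ (a : W₁) (b : W₂), a ≠ 1 →
        δ ω * ((ω (i₁ a * i₂ b) : ℂˣ) : ℂ) = δ ω' * ((ω' (i₁ a * i₂ b) : ℂˣ) : ℂ) := by
      intro a b ha
      rw [← hvalab ω a b ha, ← hvalab ω' a b ha, hωω']
    have ht := hkey a₀ 1 ha₀
    rw [map_one, mul_one] at ht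
    have h2 : ∀ b : W₂, ω (i₂ b) = ω' (i₂ b) := by
      intro b
      have hb := hkey a₀ b ha₀
      rw [map_mul, map_mul, Units.val_mul, Units.val_mul, ← mul_assoc, ← mul_assoc, ht] at hb
      have hne : δ ω' * ((ω' (i₁ a₀) : ℂˣ) : ℂ) ≠ 0 :=
        mul_ne_zero (hδne ω') (Units.ne_zero _)
      exact Units.ext (mul_left_cancel₀ hne hb)
    have hr₂ : ω.comp i₂ = ω'.comp i₂ := by
      ext b
      show ((ω (i₂ b) : ℂˣ) : ℂ) = ((ω' (i₂ b) : ℂˣ) : ℂ)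
      rw [h2 b]
    have hδeq : δ ω = δ ω' := by
      show ε (ω.comp i₂) = ε (ω'.comp i₂)
      rw [hr₂]
    have h1 : ∀ a : W₁, ω (i₁ a) = ω' (i₁ a) := by
      intro a
      by_cases ha : a = 1
      · rw [ha, map_one, map_one, map_one]
      · have hb := hkey a 1 ha
        rw [map_one, mul_one, hδeq] at hb
        exact Units.ext (mul_left_cancel₀ (hδne ω') hb)
    ext w
    obtain ⟨a, b, rfl⟩ := hdec w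
    rw [map_mul, map_mul, h1 a, h2 b]
  set T : Set L := {x : L | x ∈ W₁ ⊔ W₂ ∧ x ∉ W₂} with hT
  have hTcent : ∀ w ∈ T, Subgroup.centralizer ({w} : Set L) = W₁ ⊔ W₂ := by
    intro w hw
    exact centralizer_eq K W₁ W₂ hKW₁' hW₁c hcop hW₂c hW₂K hC hw.1 hw.2
  have hvalT : ∀ ω, ∀ w : ↥(W₁ ⊔ W₂), (w : L) ∈ T → μ ω w = δ ω * ((ω w : ℂˣ) : ℂ) :=
    fun ω w hw => h5 ω w hw.2
  have h6 : ∀ θ : L → ℂ, Cfsg.IsIrrCharacter L θ → (∀ ω, θ ≠ μ ω) →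
      ∀ w : ↥(W₁ ⊔ W₂), (w : L) ∈ T → θ w = 0 := fun θ hθ hne w hw =>
    vanish_off (W₁ ⊔ W₂) hWc T hTcent μ δ hμinj hμirr hδ' hvalT θ hθ hne w hw
  refine ⟨μ, δ, hμinj, hμirr, hδ', ?_, h5, ?_, ?_⟩
  · intro ω ω' hag
    have hr₂ := hagree₂ ω ω' hag
    have hδeq : δ ω = δ ω' := by
      show ε (ω.comp i₂) = ε (ω'.comp i₂)
      rw [hr₂]
    refine ⟨hδeq, ?_⟩
    apply ind_eq (W₁ ⊔ W₂) T μ δ hμinj hμirr hδ' hvalT h6 ω ω' ?_ hδeq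
    intro w hw
    apply hag w
    by_contra h
    exact hw ⟨w.2, h⟩
  · intro θ hθ hne w hw
    exact h6 θ hθ hne w ⟨w.2, hw⟩
  · intro ω
    obtain ⟨n, hn⟩ := hψdeg (ω.comp i₂)
    refine ⟨n, ?_⟩
    rw [← hn]
    show ψ (ω.comp i₂) 1 * ((((ω.comp i₁).comp π) 1 : ℂˣ) : ℂ) - ε (ω.comp i₂) = _
    rw [map_one, Units.val_one, mul_one]

end Cfsg.Agent.Helper6.CycTIPrime
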