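import Mathlib
import Cfsg.Prelude.Def_Characters
import Cfsg.Prelude.Def_Blocks
import Cfsg.Agent.Helper6.DZA
import Cfsg.Agent.Helper6.DZB

/-!
# Characters of `2`-defect zero and elements of order three normalizing no nontrivial `2`-subgroup
-/

set_option autoImplicit false
set_option linter.style.haveILetI false

namespace Cfsg.Agent.Helper6.DZ

open Cfsg.Agent.Helper6

open scoped ComplexConjugate

universe u

variable {G : Type u} [Group G]

/-- in a quotient of the algebraic integers by an ideal containing `2`, a natural number is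
congruent to its residue modulo `2` -/
theorem natCast_quotient_eq_mod_two {M : Ideal Cfsg.AlgInt} (h2 : (2 : Cfsg.AlgInt) ∈ M) (n : ℕ) :
    ((n : ℕ) : Cfsg.AlgInt ⧸ M) = ((n % 2 : ℕ) : Cfsg.AlgInt ⧸ M) := by
  have h2' : (2 : Cfsg.AlgInt ⧸ M) = 0 := by
    have : Ideal.Quotient.mk M (2 : Cfsg.AlgInt) = 0 := Ideal.Quotient.eq_zero_iff_mem.mpr h2
    rwa [map_ofNat] at this
  conv_lhs => rw [← Nat.div_add_mod n 2]
  push_cast
  rw [h2', zero_mul, zero_add]

open Classical in
set_option maxHeartbeats 1600000 in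
/-- **Wada's theorem, counting version**: the number of irreducible characters of `2`-defect zero
is at least the number of classes of elements of order three normalizing no nontrivial
`2`-subgroup -/
theorem card_classes_le_card_defect_zero [Finite G] :
    Nat.card {C : ConjClasses G // ∃ g ∈ C.carrier, orderOf g = 3 ∧
      ∀ Q : Subgroup G, IsPGroup 2 ↥Q → g ∈ Subgroup.normalizer (Q : Set G) → Q = ⊥} ≤
    Nat.card {χ : Cfsg.IrrCharacter G //
      (Cfsg.charDegree (χ : G → ℂ)).factorization 2 = (Nat.card G).factorization 2} := by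
  haveI : Fintype G := Fintype.ofFinite G
  haveI : Finite (Cfsg.IrrCharacter G) := irr_finite
  haveI : Fintype (Cfsg.IrrCharacter G) := Fintype.ofFinite _
  obtain ⟨M, hM⟩ := exists_isPModular 2 Nat.prime_two
  haveI hMmax : M.IsMaximal := hM.2.1
  letI : Field (Cfsg.AlgInt ⧸ M) := Ideal.Quotient.field M
  have h2M : (2 : Cfsg.AlgInt) ∈ M := by
    have := hM.2.2
    simpa using this
  -- the two index types
  set X := {C : ConjClasses G // ∃ g ∈ C.carrier, orderOf g = 3 ∧
      ∀ Q : Subgroup G, IsPGroup 2 ↥Q → g ∈ Subgroup.normalizer (Q : Set G) → Q = ⊥} with hX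
  set I0 := {χ : Cfsg.IrrCharacter G //
      (Cfsg.charDegree (χ : G → ℂ)).factorization 2 = (Nat.card G).factorization 2} with hI0
  haveI : Fintype X := Fintype.ofFinite _
  haveI : Fintype I0 := Fintype.ofFinite _
  rw [Nat.card_eq_fintype_card, Nat.card_eq_fintype_card]
  -- representatives
  have hrep : ∀ C : X, ∃ g : G, g ∈ C.1.carrier ∧ orderOf g = 3 ∧
      ∀ Q : Subgroup G, IsPGroup 2 ↥Q → g ∈ Subgroup.normalizer (Q : Set G) → Q = ⊥ := fun C => C.2
  choose x hxC hx3 hxQ using hrep
  have hxmk : ∀ C : X, ConjClasses.mk (x C) = C.1 := fun C =>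
    ConjClasses.mem_carrier_iff_mk_eq.mp (hxC C)
  have hconj : ∀ C C' : X, IsConj (x C) (x C') ↔ C = C' := by
    intro C C'
    rw [← ConjClasses.mk_eq_mk_iff_isConj, hxmk, hxmk]
    exact Subtype.ext_iff.symm
  have hodd : ∀ C : X, ¬ 2 ∣ Nat.card (Subgroup.centralizer ({x C} : Set G)) := fun C =>
    not_two_dvd_card_centralizer (x C) (hxQ C)
  -- algebraic integers
  obtain ⟨aα, haα⟩ : ∃ aα : X → Cfsg.IrrCharacter G → Cfsg.AlgInt, ∀ C χ,
      ((aα C χ : Cfsg.AlgInt) : ℂ) = Cfsg.centralChar (χ : G → ℂ) (x C) * (χ : G → ℂ) (x C) :=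
    ⟨fun C χ => ⟨Cfsg.centralChar (χ : G → ℂ) (x C) * (χ : G → ℂ) (x C),
      (isIntegral_centralChar χ (x C)).mul (IsIrrCharacter.isIntegral_apply χ.2 (x C))⟩,
      fun _ _ => rfl⟩
  obtain ⟨aβ, haβ⟩ : ∃ aβ : Cfsg.IrrCharacter G → X → Cfsg.AlgInt, ∀ χ C,
      ((aβ χ C : Cfsg.AlgInt) : ℂ) = (χ : G → ℂ) (x C) :=
    ⟨fun χ C => ⟨(χ : G → ℂ) (x C), IsIrrCharacter.isIntegral_apply χ.2 (x C)⟩, fun _ _ => rfl⟩
  -- the key identity in the ring of algebraic integers
  have hkey : ∀ C C' : X,
      ((Nat.card (Subgroup.centralizer ({x C} : Set G)) : ℕ) : Cfsg.AlgInt) *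
        (((conjPairs (x C) (x C')⁻¹).card : ℕ) : Cfsg.AlgInt) =
      ∑ χ : Cfsg.IrrCharacter G, aα C χ * aβ χ C' := by
    intro C C'
    apply Subtype.ext
    have h1 := card_classPairs_mul_card_centralizer (x C) (x C')⁻¹
    push_cast
    rw [mul_comm, h1]
    apply Finset.sum_congr rfl
    intro χ _
    rw [haα, haβ]
    congr 1
    rw [IsCharacter.inv_eq_conj (IsIrrCharacter.isCharacter χ.2), Complex.conj_conj]
  -- members of `M`
  have hαM : ∀ C : X, ∀ χ : Cfsg.IrrCharacter G,
      (Cfsg.charDegree (χ : G → ℂ)).factorization 2 ≠ (Nat.card G).factorization 2 →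
      aα C χ ∈ M := by
    intro C χ hχ
    rw [← memLocalIdeal_coe_iff hMmax, haα]
    have h1 := centralChar_memLocalIdeal_of_not_defect_zero hM χ (x C) (hodd C) hχ
    have h2 : Cfsg.MemLocalRing M ((χ : G → ℂ) (x C)) :=
      memLocalRing_of_isIntegral hMmax (IsIrrCharacter.isIntegral_apply χ.2 (x C))
    rw [mul_comm]
    exact MemLocalIdeal.mul_left hMmax h2 h1
  -- the matrices over the residue field
  set α : Matrix X I0 (Cfsg.AlgInt ⧸ M) := fun C χ => Ideal.Quotient.mk M (aα C χ.1) with hα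
  set β : Matrix I0 X (Cfsg.AlgInt ⧸ M) := fun χ C => Ideal.Quotient.mk M (aβ χ.1 C) with hβ
  have hprod : α * β = 1 := by
    ext C C'
    rw [Matrix.mul_apply, Matrix.one_apply]
    -- reduce the key identity
    have h1 := congrArg (Ideal.Quotient.mk M) (hkey C C')
    rw [map_mul, map_natCast, map_natCast, map_sum] at h1
    -- split the sum
    have h2 : ∑ χ : Cfsg.IrrCharacter G, Ideal.Quotient.mk M (aα C χ * aβ χ C') =
        ∑ χ : I0, α C χ * β χ C' := by
      have h3 : ∑ χ : I0, α C χ * β χ C' =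
          ∑ χ : I0, Ideal.Quotient.mk M (aα C χ.1 * aβ χ.1 C') := by
        apply Finset.sum_congr rfl
        intro χ _
        rw [hα, hβ, map_mul]
      rw [h3]
      rw [← Finset.sum_subtype (Finset.univ.filter (fun χ : Cfsg.IrrCharacter G =>
        (Cfsg.charDegree (χ : G → ℂ)).factorization 2 = (Nat.card G).factorization 2))
        (fun χ => by simp) (fun χ => Ideal.Quotient.mk M (aα C χ * aβ χ C'))]
      rw [Finset.sum_filter]
      apply Finset.sum_congr rfl
      intro χ _
      by_cases hχ : (Cfsg.charDegree (χ : G → ℂ)).factorization 2 = (Nat.card G).factorization 2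
      · rw [if_pos hχ]
      · rw [if_neg hχ]
        rw [Ideal.Quotient.eq_zero_iff_mem]
        exact M.mul_mem_right _ (hαM C χ hχ)
    rw [← h2, ← h1]
    rw [natCast_quotient_eq_mod_two h2M (Nat.card _),
      natCast_quotient_eq_mod_two h2M (conjPairs (x C) (x C')⁻¹).card]
    have h4 : Nat.card (Subgroup.centralizer ({x C} : Set G)) % 2 = 1 := by
      have := hodd C
      omega
    have h5 := card_classPairs_mod_two (x C') (x C) (hx3 C') (hx3 C) (hxQ C')
    rw [h4, h5]
    by_cases hCC : C = C'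
    · rw [if_pos hCC, if_pos ((hconj C C').mpr hCC)]
      simp
    · rw [if_neg hCC, if_neg (fun h => hCC ((hconj C C').mp h))]
      simp
  -- rank
  calc Fintype.card X = (1 : Matrix X X (Cfsg.AlgInt ⧸ M)).rank := (Matrix.rank_one).symm
    _ = (α * β).rank := by rw [hprod]
    _ ≤ α.rank := Matrix.rank_mul_le_left α β
    _ ≤ Fintype.card I0 := Matrix.rank_le_card_width α

end Cfsg.Agent.Helper6.DZ
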