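import Mathlib

/-!
# Summing an invariant function over a finite set with a group action
-/

set_option autoImplicit false
set_option linter.style.haveILetI false

namespace Cfsg.Agent.Helper6

open Classical in
theorem orbit_sum_int {L X : Type*} [Group L] [Fintype L] [MulAction L X] [Fintype X]
    (J : X → ℂ) (hinv : ∀ (l : L) (x : X), J (l • x) = J x)
    (hint : ∀ x, ∃ n : ℤ, J x = (Nat.card (MulAction.stabilizer L x) : ℂ) * n) :
    ∃ n : ℤ, ∑ x, J x = (Nat.card L : ℂ) * n := by
  choose n hn using hint
  set Q := MulAction.orbitRel.Quotient L X with hQ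
  haveI : Fintype Q := Fintype.ofFinite Q
  set π : X → Q := fun x => Quotient.mk'' x with hπ
  refine ⟨∑ q : Q, n q.out, ?_⟩
  rw [← Finset.sum_fiberwise Finset.univ π J]
  push_cast
  rw [Finset.mul_sum]
  apply Finset.sum_congr rfl
  intro q _
  have hmem : ∀ x, π x = q ↔ x ∈ MulAction.orbit L q.out := by
    intro x
    rw [← MulAction.orbitRel_apply]
    constructor
    · intro h
      have h1 : (Quotient.mk'' x : Q) = Quotient.mk'' q.out := by
        rw [Quotient.out_eq']
        exact h
      exact Quotient.eq''.mp h1
    · intro h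
      have h1 : (Quotient.mk'' x : Q) = Quotient.mk'' q.out := Quotient.eq''.mpr h
      rw [Quotient.out_eq'] at h1
      exact h1
  have hJ : ∀ x ∈ Finset.univ.filter (fun x => π x = q), J x = J q.out := by
    intro x hx
    rw [Finset.mem_filter] at hx
    obtain ⟨l, hl⟩ := (hmem x).mp hx.2
    rw [← hl]
    exact hinv l _
  rw [Finset.sum_congr rfl hJ, Finset.sum_const, nsmul_eq_mul, hn q.out]
  have hcard : (Finset.univ.filter (fun x => π x = q)).card =
      Nat.card (MulAction.orbit L q.out) := by
    rw [Nat.card_eq_fintype_card, ← Fintype.card_subtype]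
    apply Fintype.card_congr
    exact Equiv.subtypeEquivRight hmem
  rw [hcard, ← mul_assoc]
  congr 1
  have := MulAction.card_orbit_mul_card_stabilizer_eq_card_group L q.out
  rw [← Nat.card_eq_fintype_card, ← Nat.card_eq_fintype_card, ← Nat.card_eq_fintype_card] at this
  exact_mod_cast this

end Cfsg.Agent.Helper6
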