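import Mathlib
import Cfsg.Prelude.Def_OddOrderChar
import Cfsg.Agent.Helper6.DadeIntB
import Cfsg.Agent.Helper6.DadeIntE
import Cfsg.Agent.Helper6.DadeIso
import Cfsg.Agent.Helper6.NormTwo
import Cfsg.Agent.Helper6.Brauer10

/-!
# The Dade isometry sends generalized characters to generalized characters
-/

set_option autoImplicit false
set_option linter.style.haveILetI false

namespace Cfsg.Agent.Helper6

open scoped ComplexConjugate

universe u

variable {G : Type u} [Group G]

theorem dadeConjFinset_injective (l : G) (S T : Finset G)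
    (h : dadeConjFinset l S = dadeConjFinset l T) : S = T := by
  have h1 := congrArg (dadeConjFinset l⁻¹) h
  rwa [← dadeConjFinset_mul, ← dadeConjFinset_mul, inv_mul_cancel, dadeConjFinset_one,
    dadeConjFinset_one] at h1

open Classical in
theorem dadeAvg_conj [Fintype G] (A : Set G) (L : Subgroup G) (H : G → Subgroup G)
    (hD : Cfsg.DadeHypothesis A L H) (l : G) (hl : l ∈ L) (S : Finset G)
    (hS : (↑S : Set G) ⊆ A) (χ : G → ℂ) (hχ : Cfsg.IsClassFunction G χ) (y : G) :
    dadeAvg H (dadeConjFinset l S) χ (l * y * l⁻¹) = dadeAvg H S χ y := by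
  unfold dadeAvg
  rw [dadeInf_conj_card A L H hD l hl S hS]
  congr 1
  symm
  apply Fintype.sum_equiv (MulAut.conj l).toEquiv
  intro v
  have hiff : (MulAut.conj l).toEquiv v ∈ dadeInf H (dadeConjFinset l S) ↔ v ∈ dadeInf H S :=
    dadeInf_conj_mem_iff A L H hD l hl S hS v
  by_cases hv : v ∈ dadeInf H S
  · rw [if_pos hv, if_pos (hiff.mpr hv)]
    have : l * y * l⁻¹ * ((MulAut.conj l).toEquiv v) = l * (y * v) * l⁻¹ := by
      change l * y * l⁻¹ * (l * v * l⁻¹) = l * (y * v) * l⁻¹
      group
    rw [this, hχ]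
  · rw [if_neg hv, if_neg (fun h => hv (hiff.mp h))]

open Classical in
theorem dadeJ_conj [Fintype G] (A : Set G) (L : Subgroup G) [Fintype L] (H : G → Subgroup G)
    (hD : Cfsg.DadeHypothesis A L H) (l : L) (S : Finset G)
    (hS : (↑S : Set G) ⊆ A) (α : L → ℂ) (hα : Cfsg.IsClassFunction L α)
    (χ : G → ℂ) (hχ : Cfsg.IsClassFunction G χ) :
    dadeJ L H α χ (dadeConjFinset (l : G) S) = dadeJ L H α χ S := by
  unfold dadeJ
  symm
  apply Fintype.sum_equiv (MulAut.conj l).toEquiv
  intro y
  have hval : (((MulAut.conj l).toEquiv y : L) : G) = (l : G) * (y : G) * (l : G)⁻¹ := by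
    change ((l * y * l⁻¹ : L) : G) = _
    simp only [Subgroup.coe_mul, Subgroup.coe_inv]
  have hiff : dadeConjFinset (((MulAut.conj l).toEquiv y : L) : G) (dadeConjFinset (l : G) S) =
      dadeConjFinset (l : G) S ↔ dadeConjFinset (y : G) S = S := by
    rw [← dadeConjFinset_mul]
    have : (((MulAut.conj l).toEquiv y : L) : G) * (l : G) = (l : G) * (y : G) := by
      rw [hval]
      group
    rw [this, dadeConjFinset_mul]
    constructor
    · intro h
      exact dadeConjFinset_injective _ _ _ h
    · intro h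
      rw [h]
  have hα' : α ((MulAut.conj l).toEquiv y) = α y := hα y l
  by_cases hy : dadeConjFinset (y : G) S = S
  · rw [if_pos hy, if_pos (hiff.mpr hy), hα', hval,
      dadeAvg_conj A L H hD (l : G) l.2 S hS χ hχ (y : G)]
  · rw [if_neg hy, if_neg (fun h => hy (hiff.mp h))]

open Classical in
/-- The expansion of the inner product of a Dade image. -/
theorem dade_inner_expansion [Fintype G] (A : Set G) (L : Subgroup G) [Fintype L]
    (H : G → Subgroup G) (hD : Cfsg.DadeHypothesis A L H) (α : L → ℂ)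
    (hα : Cfsg.IsClassFunction L α) (hαA : ∀ x : L, (x : G) ∉ A → α x = 0)
    (χ : G → ℂ) (hχ : Cfsg.IsClassFunction G χ) :
    Cfsg.classInner (Cfsg.dadeIsometry A L H α) χ =
      (Nat.card L : ℂ)⁻¹ * ∑ S ∈ dadeFam A, (-1 : ℂ) ^ (S.card + 1) * dadeJ L H α χ S := by
  rw [dade_inner_formula A L H hD α hα hαA χ hχ, classInner_def]
  congr 1
  have hterm : ∀ a : L, α a * conj ((Nat.card (H a) : ℂ)⁻¹ *
      ∑ u : G, if u ∈ H a then χ ((a : G) * u) else 0) =
      ∑ S ∈ dadeFam A, (-1 : ℂ) ^ (S.card + 1) *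
        (if dadeConjFinset (a : G) S = S then α a * conj (dadeAvg H S χ a) else 0) := by
    intro a
    by_cases ha : (a : G) ∈ A
    · have h1 := dade_telescope A L H hD (a : G) ha χ hχ
      have h2 : dadeAvg H {(a : G)} χ a = (Nat.card (H a) : ℂ)⁻¹ *
          ∑ u : G, if u ∈ H a then χ ((a : G) * u) else 0 := by
        unfold dadeAvg
        have : dadeInf H {(a : G)} = H a := by
          ext u
          rw [mem_dadeInf]
          simp
        rw [this]
      rw [← h2, ← h1, map_sum, Finset.mul_sum]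
      apply Finset.sum_congr rfl
      intro S _
      unfold dadeTerm
      by_cases hS : dadeConjFinset (a : G) S = S
      · rw [if_pos hS, if_pos hS, map_mul, map_pow, map_neg, map_one]
        ring
      · rw [if_neg hS, if_neg hS, map_zero, mul_zero, mul_zero]
    · rw [hαA a ha, zero_mul]
      symm
      apply Finset.sum_eq_zero
      intro S _
      rw [zero_mul]
      simp
  rw [Finset.sum_congr rfl (fun a _ => hterm a), Finset.sum_comm]
  apply Finset.sum_congr rfl
  intro S _
  unfold dadeJ
  rw [Finset.mul_sum]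

open Classical in
/-- Integrality of the multiplicities of a Dade image. -/
theorem dade_inner_int [Fintype G] (A : Set G) (L : Subgroup G) [Fintype L]
    (H : G → Subgroup G) (hD : Cfsg.DadeHypothesis A L H) (α : L → ℂ)
    (hα : Cfsg.IsGeneralizedCharacter L α) (hαA : ∀ x : L, (x : G) ∉ A → α x = 0)
    (χ : G → ℂ) (hχ : Cfsg.IsCharacter G χ) :
    ∃ n : ℤ, Cfsg.classInner (Cfsg.dadeIsometry A L H α) χ = n := by
  have hαcf : Cfsg.IsClassFunction L α := IsGeneralizedCharacter.isClassFunction hα
  have hχcf : Cfsg.IsClassFunction G χ := IsCharacter.isClassFunction hχ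
  rw [dade_inner_expansion A L H hD α hαcf hαA χ hχcf]
  set J' : Finset G → ℂ := fun S =>
    if S ∈ dadeFam A then (-1 : ℂ) ^ (S.card + 1) * dadeJ L H α χ S else 0 with hJ'
  have hsum : ∑ S ∈ dadeFam A, (-1 : ℂ) ^ (S.card + 1) * dadeJ L H α χ S = ∑ S, J' S := by
    simp only [hJ']
    rw [← Finset.sum_filter]
    congr 1
    ext S
    simp
  rw [hsum]
  have hfam : ∀ (l : L) (S : Finset G), S ∈ dadeFam A → dadeConjFinset (l : G) S ∈ dadeFam A := by
    intro l S hS
    rw [mem_dadeFam] at hS ⊢
    exact ⟨dadeConjFinset_nonempty _ S hS.1, dadeConjFinset_subset A L H hD _ l.2 S hS.2⟩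
  letI := dadeFinsetAction L
  have key := orbit_sum_int (L := L) (X := Finset G) J' ?_ ?_
  · obtain ⟨n, hn⟩ := key
    refine ⟨n, ?_⟩
    rw [hn, ← mul_assoc, inv_mul_cancel₀, one_mul]
    exact Nat.cast_ne_zero.mpr Nat.card_pos.ne'
  · intro l S
    change J' (dadeConjFinset (l : G) S) = J' S
    simp only [hJ']
    by_cases hS : S ∈ dadeFam A
    · rw [if_pos hS, if_pos (hfam l S hS), dadeConjFinset_card,
        dadeJ_conj A L H hD l S ((mem_dadeFam A S).mp hS).2 α hαcf χ hχcf]
    · rw [if_neg hS, if_neg]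
      intro h
      apply hS
      have := hfam l⁻¹ _ h
      rwa [Subgroup.coe_inv, ← dadeConjFinset_mul, inv_mul_cancel, dadeConjFinset_one] at this
  · intro S
    simp only [hJ']
    by_cases hS : S ∈ dadeFam A
    · rw [if_pos hS]
      obtain ⟨n, hn⟩ := dadeJ_int A L H hD S ((mem_dadeFam A S).mp hS).2 α hα χ hχ
      refine ⟨(-1) ^ (S.card + 1) * n, ?_⟩
      rw [hn]
      push_cast
      unfold dadeStab
      ring
    · rw [if_neg hS]
      exact ⟨0, by simp⟩

/-- **The Dade isometry sends generalized characters to generalized characters.** -/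
theorem dade_isGeneralizedCharacter [Fintype G] (A : Set G) (L : Subgroup G) [Fintype L]
    (H : G → Subgroup G) (hD : Cfsg.DadeHypothesis A L H) (α : L → ℂ)
    (hα : Cfsg.IsGeneralizedCharacter L α) (hαA : ∀ x : L, (x : G) ∉ A → α x = 0) :
    Cfsg.IsGeneralizedCharacter G (Cfsg.dadeIsometry A L H α) := by
  apply isGeneralizedCharacter_of_classInner_int
    (dadeIsometry_isClassFunction A L H hD α (IsGeneralizedCharacter.isClassFunction hα))
  intro χ hχ
  exact dade_inner_int A L H hD α hα hαA χ (IsIrrCharacter.isCharacter hχ)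

end Cfsg.Agent.Helper6
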