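import Mathlib
import Cfsg.Prelude.Def_OddOrderChar
import Cfsg.Agent.Helper6.DadeIntF
import Cfsg.Agent.Helper6.NormalInd
import Cfsg.Agent.Helper6.OddReal
import Cfsg.Agent.Helper6.IrrDegree
import Cfsg.Agent.S1500

/-!
# The Dade image of `χ - conj χ`
-/

set_option autoImplicit false
set_option linter.style.haveILetI false

namespace Cfsg.Agent.Helper6

open scoped ComplexConjugate

universe u

variable {G : Type u} [Group G]

theorem dadeIsometry_conjFun (A : Set G) (L : Subgroup G) (H : G → Subgroup G) (α : L → ℂ) :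
    Cfsg.dadeIsometry A L H (Cfsg.conjFun α) = Cfsg.conjFun (Cfsg.dadeIsometry A L H α) := by
  ext g
  unfold Cfsg.dadeIsometry Cfsg.conjFun
  by_cases h : ∃ a : ↥L, (a : G) ∈ A ∧ ∃ x : G, ∃ u ∈ H (a : G), x * g * x⁻¹ = (a : G) * u
  · simp only [dif_pos h]
  · simp only [dif_neg h, map_zero]

theorem dadeIsometry_neg (A : Set G) (L : Subgroup G) (H : G → Subgroup G) (α : L → ℂ) :
    Cfsg.dadeIsometry A L H (-α) = -Cfsg.dadeIsometry A L H α := by
  ext g
  unfold Cfsg.dadeIsometry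
  by_cases h : ∃ a : ↥L, (a : G) ∈ A ∧ ∃ x : G, ∃ u ∈ H (a : G), x * g * x⁻¹ = (a : G) * u
  · simp only [Pi.neg_apply, dif_pos h]
  · simp only [Pi.neg_apply, dif_neg h, neg_zero]

theorem dadeIsometry_zero (A : Set G) (L : Subgroup G) (H : G → Subgroup G) :
    Cfsg.dadeIsometry A L H (0 : L → ℂ) = 0 := by
  ext g
  unfold Cfsg.dadeIsometry
  by_cases h : ∃ a : ↥L, (a : G) ∈ A ∧ ∃ x : G, ∃ u ∈ H (a : G), x * g * x⁻¹ = (a : G) * u
  · simp only [dif_pos h, Pi.zero_apply]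
  · simp only [dif_neg h, Pi.zero_apply]

theorem dadeIsometry_apply_one (A : Set G) (L : Subgroup G) (H : G → Subgroup G)
    (hD : Cfsg.DadeHypothesis A L H) (α : L → ℂ) : Cfsg.dadeIsometry A L H α 1 = 0 := by
  apply dadeIsometry_apply_of_not
  rintro ⟨a, ha, u, hu, x, hx⟩
  have h1 : a * u = 1 := by
    rw [← hx]
    group
  have h2 : u = a⁻¹ := eq_inv_of_mul_eq_one_right h1
  have h3 : a ∈ H a := by
    have := (H a).inv_mem hu
    rwa [h2, inv_inv] at this
  have h4 : a ∈ H a ⊓ (L ⊓ Subgroup.centralizer ({a} : Set G)) :=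
    ⟨h3, hD.subset ha, self_mem_centralizer a⟩
  rw [hD.inf_eq_bot a ha, Subgroup.mem_bot] at h4
  rw [h4] at ha
  exact hD.one_not_mem ha

/-- **The Dade image of `χ - conj χ` is `μ - conj μ`.** -/
theorem dade_sub_conj [Fintype G] (A : Set G) (L : Subgroup G) [Fintype L]
    (H : G → Subgroup G) (hD : Cfsg.DadeHypothesis A L H) (χ : L → ℂ)
    (hχ : Cfsg.IsIrrCharacter L χ)
    (hsupp : ∀ x : L, x ≠ 1 → (x : G) ∉ A → χ x = 0) :
    ∃ μ : G → ℂ, Cfsg.IsIrrCharacter G μ ∧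
      Cfsg.dadeIsometry A L H (χ - Cfsg.conjFun χ) = μ - Cfsg.conjFun μ := by
  classical
  have hχbar : Cfsg.IsIrrCharacter L (Cfsg.conjFun χ) := conj_isIrr hχ
  by_cases hreal : χ = Cfsg.conjFun χ
  · refine ⟨fun _ => (1 : ℂ), isIrrCharacter_one, ?_⟩
    rw [← hreal, sub_self, dadeIsometry_zero]
    ext g
    simp [Cfsg.conjFun]
  · set α : L → ℂ := χ - Cfsg.conjFun χ with hα
    have hαgen : Cfsg.IsGeneralizedCharacter L α :=
      ⟨χ, Cfsg.conjFun χ, IsIrrCharacter.isCharacter hχ, IsIrrCharacter.isCharacter hχbar, rfl⟩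
    have hαcf := IsGeneralizedCharacter.isClassFunction hαgen
    have hαA : ∀ x : L, (x : G) ∉ A → α x = 0 := by
      intro x hx
      simp only [hα, Pi.sub_apply, Cfsg.conjFun]
      by_cases h1 : x = 1
      · obtain ⟨n, -, hn⟩ := IsIrrCharacter.apply_one_pos hχ
        rw [h1, hn]
        simp
      · rw [hsupp x h1 hx]
        simp
    have hnormα : Cfsg.classInner α α = 2 := by
      simp only [hα]
      rw [classInner_sub_left, classInner_sub_right, classInner_sub_right,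
        classInner_irr_self hχ, classInner_irr_self hχbar,
        classInner_irr_ne hχ hχbar hreal, classInner_irr_ne hχbar hχ (Ne.symm hreal)]
      norm_num
    set θ : G → ℂ := Cfsg.dadeIsometry A L H α with hθ
    have hθgen : Cfsg.IsGeneralizedCharacter G θ :=
      dade_isGeneralizedCharacter A L H hD α hαgen hαA
    have hnormθ : Cfsg.classInner θ θ = 2 := by
      rw [← hnormα]
      exact (Cfsg.Agent.S1500.result A L H hD α hαcf hαA).1 α hαcf hαA
    have hθ1 : θ 1 = 0 := dadeIsometry_apply_one A L H hD α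
    obtain ⟨μ₁, μ₂, hμ₁, hμ₂, hne, hθeq⟩ := exists_sub_of_norm_two hθgen hnormθ hθ1
    have hconjα : Cfsg.conjFun α = -α := by
      ext x
      simp only [hα, Cfsg.conjFun, Pi.sub_apply, Pi.neg_apply, map_sub, Complex.conj_conj]
      ring
    have hconjθ : Cfsg.conjFun θ = -θ := by
      rw [hθ, ← dadeIsometry_conjFun, hconjα, dadeIsometry_neg]
    have hν₁ : Cfsg.IsIrrCharacter G (Cfsg.conjFun μ₁) := conj_isIrr hμ₁
    have hν₂ : Cfsg.IsIrrCharacter G (Cfsg.conjFun μ₂) := conj_isIrr hμ₂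
    have heq : Cfsg.conjFun μ₁ - Cfsg.conjFun μ₂ = μ₂ - μ₁ := by
      have h1 : Cfsg.conjFun θ = Cfsg.conjFun μ₁ - Cfsg.conjFun μ₂ := by
        rw [hθeq]
        ext g
        simp [Cfsg.conjFun]
      rw [← h1, hconjθ, hθeq]
      ring
    have hinner : Cfsg.classInner (Cfsg.conjFun μ₁ - Cfsg.conjFun μ₂) μ₁ =
        Cfsg.classInner (μ₂ - μ₁) μ₁ := by rw [heq]
    rw [classInner_sub_left, classInner_sub_left, classInner_irr_ite hν₁ hμ₁,
      classInner_irr_ite hν₂ hμ₁, classInner_irr_self hμ₁,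
      classInner_irr_ne hμ₂ hμ₁ (Ne.symm hne)] at hinner
    have hν₂eq : Cfsg.conjFun μ₂ = μ₁ := by
      by_contra hcon
      rw [if_neg hcon] at hinner
      split_ifs at hinner <;> norm_num at hinner
    have hμ₂eq : μ₂ = Cfsg.conjFun μ₁ := by
      rw [← hν₂eq]
      ext g
      simp [Cfsg.conjFun]
    refine ⟨μ₁, hμ₁, ?_⟩
    rw [← hμ₂eq]
    exact hθeq

end Cfsg.Agent.Helper6
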