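import Mathlib
import Cfsg.Prelude.Def_Characters
import Cfsg.Prelude.Def_Blocks
import Cfsg.Agent.Helper6.DefectCenter
import Cfsg.Agent.Helper6.DefectClassValues
import Cfsg.Agent.Helper6.SecondMainE

/-!
# Centres of defect groups under block induction (S0930, S0931)
-/

set_option autoImplicit false
set_option linter.style.haveILetI false

namespace Cfsg.Agent.Helper6

open Module
open scoped ComplexConjugate

universe u

variable {G : Type u} [Group G] {M : Ideal Cfsg.AlgInt}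

/-- **S0930** -/
theorem center_defect_conj_of_induced [Finite G] {p : ℕ} [hp : Fact p.Prime]
    (hM : Cfsg.IsPModular p M) (H : Subgroup G) (b : Set (Cfsg.IrrCharacter H))
    (B : Set (Cfsg.IrrCharacter G)) (hind : Cfsg.IsInducedBlock M H b B) (D : Subgroup H)
    (hD : Cfsg.IsDefectGroup p M b D) (P : Subgroup G) (hP : Cfsg.IsDefectGroup p M B P) (x : G)
    (hx : x ∈ P) (hxc : ∀ w ∈ P, x * w = w * x) :
    ∃ g : G, g * x * g⁻¹ ∈ D.map H.subtype ∧
      ∀ w ∈ D.map H.subtype, (g * x * g⁻¹) * w = w * (g * x * g⁻¹) := by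
  classical
  have hMm := hM.2.1
  have hb := hind.1
  have hB := hind.2.1
  have hPp := IsDefectGroup.isPGroup hM B hB P hP
  obtain ⟨kx, hkx⟩ := (IsPGroup.iff_orderOf.mp hPp) ⟨x, hx⟩
  have hxord : ∃ k : ℕ, orderOf x = p ^ k := ⟨kx, by rw [← hkx, ← Subgroup.orderOf_coe]⟩
  obtain ⟨y₀, hy₀, S, hPdef⟩ := hP
  have hx' := hx
  rw [hPdef, Subgroup.mem_map] at hx'
  obtain ⟨x'', hx''S, hx''eq⟩ := hx'
  have hx''eq' : (x'' : G) = x := hx''eq
  have hcen : ∀ w ∈ (S : Subgroup (Subgroup.centralizer ({y₀} : Set G))), x'' * w = w * x'' := by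
    intro w hw
    apply Subtype.ext
    simp only [Subgroup.coe_mul]
    rw [hx''eq']
    apply hxc
    rw [hPdef, Subgroup.mem_map]
    exact ⟨w, hw, rfl⟩
  obtain ⟨ψ, hψdef⟩ := hb
  have hψ : ψ ∈ b := by rw [hψdef]; exact mem_blockOf_self hMm ψ
  obtain ⟨χ, hχdef⟩ := hB
  have hχ : χ ∈ B := by rw [hχdef]; exact mem_blockOf_self hMm χ
  have hBblock : Cfsg.IsPBlock M B := ⟨χ, hχdef⟩
  have hbblock : Cfsg.IsPBlock M b := ⟨ψ, hψdef⟩
  have h1 := not_memLocalIdeal_centralChar_mul hMm p hM.2.2 B hBblock y₀ hy₀ S x'' hx''S hcen χ hχ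
  rw [hx''eq'] at h1
  have h2 : ¬ Cfsg.MemLocalIdeal M (Cfsg.inducedCentralChar H (ψ : H → ℂ) (x * y₀)) := by
    intro hmem
    apply h1
    have := MemLocalIdeal.sub hMm hmem (hind.2.2 ψ hψ χ hχ (x * y₀))
    rwa [sub_sub_cancel] at this
  obtain ⟨h', hconj, hh'⟩ := exists_class_of_inducedCentralChar hMm H ψ (x * y₀) h2
  obtain ⟨h'', hconj', -, hpart⟩ := exists_conj_centralizing_defect hM b hbblock D hD h'
    ⟨ψ, hψ, hh'⟩
  -- conjugacy in `G`
  have hconjG : IsConj (x * y₀) (h'' : G) := by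
    obtain ⟨a, ha⟩ := isConj_iff.mp hconj'
    apply hconj.trans
    rw [isConj_iff]
    refine ⟨(a : G), ?_⟩
    have := congrArg (fun t : H => (t : G)) ha
    simpa using this
  obtain ⟨t, ht⟩ := isConj_iff.mp hconjG
  have hcomm : x * y₀ = y₀ * x := by
    rw [← hx''eq']
    exact (Subgroup.mem_centralizer_iff.mp x''.2 y₀ (Set.mem_singleton y₀)).symm
  have hpp : Cfsg.IsPPart p (x * y₀) x :=
    ⟨y₀, rfl, hcomm, hxord, IsDefectClass.not_dvd_orderOf hMm p hM.2.2 B hBblock y₀ hy₀⟩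
  have hpp2 := Cfsg.Agent.Helper6.IsPPart.conj hpp t
  rw [ht] at hpp2
  obtain ⟨hzH, hz'⟩ := isPPart_subgroup p H h'' _ hpp2
  obtain ⟨hzD, hzc⟩ := hpart _ hz'
  refine ⟨t, ?_, ?_⟩
  · rw [Subgroup.mem_map]
    exact ⟨⟨t * x * t⁻¹, hzH⟩, hzD, rfl⟩
  · intro w hw
    rw [Subgroup.mem_map] at hw
    obtain ⟨w', hw'D, rfl⟩ := hw
    have := congrArg (fun u : H => (u : G)) (hzc w' hw'D)
    simpa using this

/-- **S0931** -/
theorem blockDefect_zero_iff_of_induced [Finite G] {p : ℕ} [hp : Fact p.Prime]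
    (hM : Cfsg.IsPModular p M) (H : Subgroup G) (b : Set (Cfsg.IrrCharacter H))
    (B : Set (Cfsg.IrrCharacter G)) (hind : Cfsg.IsInducedBlock M H b B) :
    Cfsg.blockDefect p b = 0 ↔ Cfsg.blockDefect p B = 0 := by
  classical
  have hMm := hM.2.1
  have hb := hind.1
  have hB := hind.2.1
  obtain ⟨D, hD⟩ := exists_isDefectGroup hMm p b hb
  obtain ⟨P, hP⟩ := exists_isDefectGroup hMm p B hB
  have hcD := card_defectGroup hMm p hM.2.2 b hb D hD
  have hcP := card_defectGroup hMm p hM.2.2 B hB P hP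
  constructor
  · intro h0
    rw [h0, pow_zero] at hcD
    have hDbot : D = ⊥ := Subgroup.card_eq_one.mp hcD
    by_contra hne
    have hPp := IsDefectGroup.isPGroup hM B hB P hP
    haveI : Nontrivial P := by
      rw [← Finite.one_lt_card_iff_nontrivial, hcP]
      exact Nat.one_lt_pow hne hp.1.one_lt
    haveI := hPp.center_nontrivial
    obtain ⟨x, hx1⟩ := exists_ne (1 : Subgroup.center P)
    have hxc : ∀ w ∈ P, ((x : P) : G) * w = w * ((x : P) : G) := by
      intro w hw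
      have h1 := Subgroup.mem_center_iff.mp x.2 ⟨w, hw⟩
      have := congrArg (fun u : P => (u : G)) h1
      simpa using this.symm
    obtain ⟨g, hg, -⟩ := center_defect_conj_of_induced hM H b B hind D hD P hP ((x : P) : G)
      (x : P).2 hxc
    rw [hDbot, Subgroup.map_bot, Subgroup.mem_bot] at hg
    apply hx1
    apply Subtype.ext
    apply Subtype.ext
    have h2 : ((x : P) : G) = g⁻¹ * (g * ((x : P) : G) * g⁻¹) * g := by group
    rw [h2, hg]
    simp
  · intro h0
    obtain ⟨E, hE, hDE⟩ := exists_defectGroup_ge_of_induced hM H b B hind D hD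
    have hcE := card_defectGroup hMm p hM.2.2 B hB E hE
    rw [h0, pow_zero] at hcE
    have hEbot : E = ⊥ := Subgroup.card_eq_one.mp hcE
    rw [hEbot, le_bot_iff] at hDE
    have h1 : Nat.card (D.map H.subtype) = Nat.card D :=
      Subgroup.card_map_of_injective H.subtype_injective
    rw [hDE, Subgroup.card_bot] at h1
    rw [← h1] at hcD
    rcases Nat.pow_eq_one.mp hcD.symm with h2 | h2
    · exact absurd h2 hp.1.one_lt.ne'
    · exact h2

end Cfsg.Agent.Helper6
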