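import Mathlib
import Cfsg.Prelude.Def_Characters
import Cfsg.Prelude.Def_Blocks
import Cfsg.Prelude.Def_BlockRank
import Cfsg.Agent.Helper6.DefectOneTwoA
import Cfsg.Agent.Helper6.DefectOneTwoC
import Cfsg.Agent.Helper6.DeficiencyClassB
import Cfsg.Agent.Helper6.DefectOrder

/-!
# Blocks of defect one for the prime two (S4513)
-/

set_option autoImplicit false
set_option linter.style.haveILetI false

namespace Cfsg.Agent.Helper6

open Module
open scoped ComplexConjugate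

universe u

variable {G : Type u} [Group G] {M : Ideal Cfsg.AlgInt}

/-- a set with two elements -/
theorem exists_pair_of_card_two {α : Type*} (S : Set α) (h : Nat.card S = 2) :
    ∃ a b : α, a ≠ b ∧ S = {a, b} := by
  obtain ⟨a, b, hab, huniv⟩ := Nat.card_eq_two_iff.mp h
  refine ⟨a.1, b.1, fun h' => hab (Subtype.ext h'), ?_⟩
  ext c
  constructor
  · intro hc
    have : (⟨c, hc⟩ : S) ∈ ({a, b} : Set S) := by rw [huniv]; exact Set.mem_univ _
    rcases this with h1 | h1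
    · left; exact congrArg Subtype.val h1
    · right; exact congrArg Subtype.val h1
  · rintro (rfl | rfl)
    · exact a.2
    · exact b.2

theorem exists_pair_of_card_two_of_mem {α : Type*} (S : Set α) (h : Nat.card S = 2) (a : α)
    (ha : a ∈ S) : ∃ b : α, a ≠ b ∧ S = {a, b} := by
  obtain ⟨c, d, hcd, hS⟩ := exists_pair_of_card_two S h
  rw [hS] at ha
  rcases ha with rfl | ha
  · exact ⟨d, hcd, hS⟩
  · rw [Set.mem_singleton_iff] at ha
    subst ha
    exact ⟨c, hcd.symm, by rw [hS, Set.pair_comm]⟩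

/-- **S4513: blocks of defect one for the prime two** -/
theorem defect_one_involution [Finite G] (hM : Cfsg.IsPModular 2 M) (x : G) (hx : orderOf x = 2)
    (B : Set (Cfsg.IrrCharacter G)) (hB : Cfsg.IsPBlock M B)
    (hBD : Cfsg.IsDefectGroup 2 M B (Subgroup.zpowers x))
    (b : Set (Cfsg.IrrCharacter (Subgroup.centralizer ({x} : Set G))))
    (hb : Cfsg.IsInducedBlock M (Subgroup.centralizer ({x} : Set G)) b B)
    (θ : Cfsg.IrrCharacter (Subgroup.centralizer ({x} : Set G))) (hθ : θ ∈ b)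
    (hθx : ∀ z : Subgroup.centralizer ({x} : Set G), (z : G) = x →
      (θ : Subgroup.centralizer ({x} : Set G) → ℂ) z =
        (θ : Subgroup.centralizer ({x} : Set G) → ℂ) 1) :
    Nat.card B = 2 ∧
    (∀ χ ∈ B, ∀ ψ ∈ B, ∀ g : G, ¬ 2 ∣ orderOf g → (χ : G → ℂ) g = (ψ : G → ℂ) g) ∧
    ∃ χ₁ ∈ B, ∃ χ₂ ∈ B, χ₁ ≠ χ₂ ∧ ∃ ε₁ ε₂ : ℤ, (ε₁ = 1 ∨ ε₁ = -1) ∧ (ε₂ = 1 ∨ ε₂ = -1) ∧
      ε₁ * ε₂ = -1 ∧ ∀ y : Subgroup.centralizer ({x} : Set G), ¬ 2 ∣ orderOf y →
        (χ₁ : G → ℂ) (x * (y : G)) =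
          (ε₁ : ℂ) * (θ : Subgroup.centralizer ({x} : Set G) → ℂ) y ∧
        (χ₂ : G → ℂ) (x * (y : G)) =
          (ε₂ : ℂ) * (θ : Subgroup.centralizer ({x} : Set G) → ℂ) y := by
  classical
  haveI : Fact (Nat.Prime 2) := ⟨hM.1⟩
  haveI : Fintype G := Fintype.ofFinite G
  haveI : Fintype (Subgroup.centralizer ({x} : Set G)) := Fintype.ofFinite _
  have hxp : ∃ k : ℕ, orderOf x = 2 ^ k := ⟨1, by rw [hx, pow_one]⟩
  have hx1 : x ≠ 1 := by
    rintro rfl
    rw [orderOf_one] at hx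
    omega
  have hxinv : x⁻¹ = x := by
    have h1 : x ^ 2 = 1 := by rw [← hx]; exact pow_orderOf_eq_one x
    rw [inv_eq_iff_mul_eq_one, ← pow_two, h1]
  -- the defect of `B`
  have hdB : Cfsg.blockDefect 2 B = 1 := by
    have h1 := card_defectGroup hM.2.1 2 hM.2.2 B hB _ hBD
    rw [Nat.card_zpowers, hx] at h1
    have h2 : (2 : ℕ) ^ 1 = 2 ^ Cfsg.blockDefect 2 B := by rw [pow_one]; exact h1
    exact (Nat.pow_right_injective (le_refl 2) h2).symm
  obtain ⟨hcardB, hagreeB⟩ := defect_one_two hM B hB hdB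
  have hagreeB' : ∀ χ ∈ B, ∀ ψ ∈ B, ∀ g : G, ¬ 2 ∣ orderOf g →
      (χ : G → ℂ) g = (ψ : G → ℂ) g := by
    intro χ hχ ψ hψ g hg
    have := congrFun (hagreeB χ hχ ψ hψ) g
    rwa [pRegularPart_of_isPRegular _ _ hg, pRegularPart_of_isPRegular _ _ hg] at this
  refine ⟨hcardB, hagreeB', ?_⟩
  -- the defect of `b`
  obtain ⟨xC, hxC⟩ : ∃ xC : Subgroup.centralizer ({x} : Set G), (xC : G) = x :=
    ⟨⟨x, by rw [Subgroup.mem_centralizer_singleton_iff]⟩, rfl⟩
  have hxCord : orderOf xC = 2 := by rw [← Subgroup.orderOf_coe, hxC, hx]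
  have hdb : Cfsg.blockDefect 2 b = 1 := by
    have hle := blockDefect_le_of_induced hM _ b B hb
    rw [hdB] at hle
    have hne : Cfsg.blockDefect 2 b ≠ 0 := by
      intro h0
      have h1 := eq_singleton_of_blockDefect_eq_zero hM.2.1 2 hM.2.2 b hb.1 h0 θ hθ
      have h2 : Cfsg.blockOf M (θ : Subgroup.centralizer ({x} : Set G) → ℂ) = {θ} := by
        rw [← eq_blockOf_of_mem hM.2.1 b hb.1 θ hθ, h1]
      have h3 := vanish_of_blockOf_eq_singleton hM.2.1 2 hM.2.2 θ h2 xC (by rw [hxCord])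
      rw [hθx xC hxC] at h3
      exact IsIrrCharacter.apply_one_ne_zero θ.2 h3
    omega
  obtain ⟨hcardb, hagreeb⟩ := defect_one_two hM b hb.1 hdb
  obtain ⟨χ₁, χ₂, hχne, hBpair⟩ := exists_pair_of_card_two B hcardB
  obtain ⟨θ', hθne, hbpair⟩ := exists_pair_of_card_two_of_mem b hcardb θ hθ
  have hχ₁B : χ₁ ∈ B := by rw [hBpair]; exact Set.mem_insert _ _
  have hχ₂B : χ₂ ∈ B := by rw [hBpair]; exact Set.mem_insert_of_mem _ rfl
  have hθ'b : θ' ∈ b := by rw [hbpair]; exact Set.mem_insert_of_mem _ rfl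
  have hθ'agree : ∀ y : Subgroup.centralizer ({x} : Set G), ¬ 2 ∣ orderOf y →
      (θ' : Subgroup.centralizer ({x} : Set G) → ℂ) y =
        (θ : Subgroup.centralizer ({x} : Set G) → ℂ) y := by
    intro y hy
    have := congrFun (hagreeb θ' hθ'b θ hθ) y
    rwa [pRegularPart_of_isPRegular _ _ hy, pRegularPart_of_isPRegular _ _ hy] at this
  have h1reg : ¬ 2 ∣ orderOf (1 : Subgroup.centralizer ({x} : Set G)) := by
    rw [orderOf_one]
    omega
  have h1regG : ¬ 2 ∣ orderOf (1 : G) := by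
    rw [orderOf_one]
    omega
  -- the blocks of the centralizer inducing `B`
  have hE : {ψ : Cfsg.IrrCharacter (Subgroup.centralizer ({x} : Set G)) |
      Cfsg.IsInducedBlock M (Subgroup.centralizer ({x} : Set G))
        (Cfsg.blockOf M (ψ : Subgroup.centralizer ({x} : Set G) → ℂ)) B} = b := by
    ext ψ
    simp only [Set.mem_setOf_eq]
    constructor
    · intro h
      rw [← inducing_block_unique_of_card_two hM B hB hcardB x hxp hx1 _ b h hb]
      exact mem_blockOf_self hM.2.1 ψ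
    · intro h
      rw [← eq_blockOf_of_mem hM.2.1 b hb.1 ψ h]
      exact hb
  -- the values on the section of `x`
  have hval : ∀ χ ∈ B, ∃ D : ℂ, ∀ y : Subgroup.centralizer ({x} : Set G), ¬ 2 ∣ orderOf y →
      (χ : G → ℂ) (x * (y : G)) = D * (θ : Subgroup.centralizer ({x} : Set G) → ℂ) y := by
    intro χ hχ
    refine ⟨Cfsg.classInner (fun c : Subgroup.centralizer ({x} : Set G) =>
        (χ : G → ℂ) (x * (c : G))) (θ : Subgroup.centralizer ({x} : Set G) → ℂ) +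
      Cfsg.classInner (fun c : Subgroup.centralizer ({x} : Set G) =>
        (χ : G → ℂ) (x * (c : G))) (θ' : Subgroup.centralizer ({x} : Set G) → ℂ), ?_⟩
    intro y hy
    have h1 := second_main_sum hM x hxp B hB χ y hy
    rw [hE, if_pos hχ, hbpair, finsum_mem_pair hθne, hθ'agree y hy] at h1
    rw [← h1]
    ring
  obtain ⟨D₁, hD₁⟩ := hval χ₁ hχ₁B
  obtain ⟨D₂, hD₂⟩ := hval χ₂ hχ₂B
  have hθ1 : (θ : Subgroup.centralizer ({x} : Set G) → ℂ) 1 ≠ 0 :=
    IsIrrCharacter.apply_one_ne_zero θ.2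
  have hχ₁x : (χ₁ : G → ℂ) x = D₁ * (θ : Subgroup.centralizer ({x} : Set G) → ℂ) 1 := by
    have := hD₁ 1 h1reg
    rwa [Subgroup.coe_one, mul_one] at this
  have hχ₂x : (χ₂ : G → ℂ) x = D₂ * (θ : Subgroup.centralizer ({x} : Set G) → ℂ) 1 := by
    have := hD₂ 1 h1reg
    rwa [Subgroup.coe_one, mul_one] at this
  -- reality
  have hreal : ∀ χ : Cfsg.IrrCharacter G, conj ((χ : G → ℂ) x) = (χ : G → ℂ) x := by
    intro χ
    rw [← IsCharacter.inv_eq_conj (IsIrrCharacter.isCharacter χ.2), hxinv]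
  -- weak orthogonality
  have hsum0 : (χ₁ : G → ℂ) x + (χ₂ : G → ℂ) x = 0 := by
    have h1 := weak_block_orthogonality hM.2.1 2 hM.2.2 B hB 1 x h1regG (by rw [hx])
    rw [hBpair, finsum_mem_pair hχne, hreal, hreal,
      hagreeB' χ₂ hχ₂B χ₁ hχ₁B 1 h1regG, ← mul_add] at h1
    exact (mul_eq_zero.mp h1).resolve_left (IsIrrCharacter.apply_one_ne_zero χ₁.2)
  -- the norms
  have hnorm : (χ₁ : G → ℂ) x * (χ₁ : G → ℂ) x + (χ₂ : G → ℂ) x * (χ₂ : G → ℂ) x =
      2 * ((θ : Subgroup.centralizer ({x} : Set G) → ℂ) 1 *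
        (θ : Subgroup.centralizer ({x} : Set G) → ℂ) 1) := by
    have h1 := sum_block_normSq_section hM B hB x hxp 1 h1reg
    rw [hE, Subgroup.coe_one, mul_one, hBpair, finsum_mem_pair hχne, hbpair,
      finsum_mem_pair hθne, hreal, hreal, hθ'agree 1 h1reg,
      ← charDegree_cast_of_isCharacter (IsIrrCharacter.isCharacter θ.2),
      Complex.conj_natCast] at h1
    rw [h1, ← charDegree_cast_of_isCharacter (IsIrrCharacter.isCharacter θ.2)]
    ring
  have hχ₂eq : (χ₂ : G → ℂ) x = -(χ₁ : G → ℂ) x := by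
    rw [eq_neg_iff_add_eq_zero, add_comm]
    exact hsum0
  have hD₂eq : D₂ = -D₁ := by
    have : D₂ * (θ : Subgroup.centralizer ({x} : Set G) → ℂ) 1 =
        -D₁ * (θ : Subgroup.centralizer ({x} : Set G) → ℂ) 1 := by
      rw [← hχ₂x, hχ₂eq, hχ₁x]
      ring
    exact mul_right_cancel₀ hθ1 this
  have hD₁sq : D₁ * D₁ = 1 := by
    rw [hχ₂eq, hχ₁x] at hnorm
    have h2 : (D₁ * D₁ - 1) * ((θ : Subgroup.centralizer ({x} : Set G) → ℂ) 1 *
        (θ : Subgroup.centralizer ({x} : Set G) → ℂ) 1) = 0 := by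
      have h3 : (2 : ℂ) * ((D₁ * D₁ - 1) * ((θ : Subgroup.centralizer ({x} : Set G) → ℂ) 1 *
          (θ : Subgroup.centralizer ({x} : Set G) → ℂ) 1)) = 0 := by
        linear_combination hnorm
      exact (mul_eq_zero.mp h3).resolve_left two_ne_zero
    have h4 := (mul_eq_zero.mp h2).resolve_right (mul_ne_zero hθ1 hθ1)
    exact sub_eq_zero.mp h4
  have hD₁cases : D₁ = 1 ∨ D₁ = -1 := by
    have h1 : (D₁ - 1) * (D₁ + 1) = 0 := by
      have : (D₁ - 1) * (D₁ + 1) = D₁ * D₁ - 1 := by ring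
      rw [this, hD₁sq, sub_self]
    rcases mul_eq_zero.mp h1 with h | h
    · left; exact sub_eq_zero.mp h
    · right; exact eq_neg_of_add_eq_zero_left h
  refine ⟨χ₁, hχ₁B, χ₂, hχ₂B, hχne, ?_⟩
  rcases hD₁cases with h1 | h1
  · refine ⟨1, -1, Or.inl rfl, Or.inr rfl, by norm_num, ?_⟩
    intro y hy
    refine ⟨?_, ?_⟩
    · rw [hD₁ y hy, h1]
      norm_num
    · rw [hD₂ y hy, hD₂eq, h1]
      norm_num
  · refine ⟨-1, 1, Or.inr rfl, Or.inl rfl, by norm_num, ?_⟩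
    intro y hy
    refine ⟨?_, ?_⟩
    · rw [hD₁ y hy, h1]
      norm_num
    · rw [hD₂ y hy, hD₂eq, h1]
      norm_num

end Cfsg.Agent.Helper6
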