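import Mathlib
import Cfsg.Agent.Helper6.DihBrC

/-!
# Dihedral Sylow 2-subgroups: fusion of the elements of `⟨σ⟩`
-/

set_option autoImplicit false
set_option linter.style.haveILetI false

namespace Cfsg.Agent.Helper6.DihBr

universe u

variable {G : Type u} [Group G]

/-- Elements of `N_G(⟨σ⟩)` act on `⟨σ⟩` as `±1`. -/
theorem normalizer_acts [Finite G] (P : Sylow 2 G) {σ : G} {N : ℕ} (hN : 3 ≤ N)
    (h : DihData (P : Subgroup G) σ N) (m : G)
    (hm : m ∈ Subgroup.normalizer (Subgroup.zpowers σ : Set G)) (y : G)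
    (hy : y ∈ Subgroup.zpowers σ) : m * y * m⁻¹ = y ∨ m * y * m⁻¹ = y⁻¹ := by
  set S := Subgroup.zpowers σ with hS
  have hidx := relIndex_centralizer_normalizer P hN h
  rw [Subgroup.relIndex, Subgroup.index_eq_two_iff] at hidx
  obtain ⟨a, ha⟩ := hidx
  obtain ⟨τ, hτP, hτS⟩ := h.exists_not_mem (by omega)
  have hτN : τ ∈ Subgroup.normalizer (S : Set G) := le_normalizer_zpowers h hτP
  have hcent : ∀ c ∈ Subgroup.centralizer (S : Set G), ∀ x ∈ S, c * x * c⁻¹ = x := by
    intro c hc x hx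
    rw [Subgroup.mem_centralizer_iff] at hc
    have := hc x hx
    rw [← this]
    group
  by_cases hmC : m ∈ Subgroup.centralizer (S : Set G)
  · left
    exact hcent m hmC y hy
  · right
    have hτC : τ ∉ Subgroup.centralizer (S : Set G) := by
      intro hτC
      have h2 := hcent τ hτC σ (Subgroup.mem_zpowers σ)
      have h3 := (h.inv τ hτP hτS).2
      rw [h2] at h3
      have h5 : σ * σ = 1 := by
        calc σ * σ = σ * σ⁻¹ := by rw [← h3]
          _ = 1 := mul_inv_cancel σ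
      have h6 : orderOf σ ∣ 2 := by
        rw [orderOf_dvd_iff_pow_eq_one, pow_two, h5]
      rw [h.order] at h6
      have := Nat.le_of_dvd (by norm_num) h6
      omega
    have h1 := ha ⟨m, hm⟩
    have h2 := ha ⟨τ, hτN⟩
    have hm' : (⟨m, hm⟩ : ↥(Subgroup.normalizer (S : Set G))) ∉
        (Subgroup.centralizer (S : Set G)).subgroupOf (Subgroup.normalizer (S : Set G)) := by
      rw [Subgroup.mem_subgroupOf]
      exact hmC
    have hτ' : (⟨τ, hτN⟩ : ↥(Subgroup.normalizer (S : Set G))) ∉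
        (Subgroup.centralizer (S : Set G)).subgroupOf (Subgroup.normalizer (S : Set G)) := by
      rw [Subgroup.mem_subgroupOf]
      exact hτC
    have h1' := (h1.resolve_right (fun hh => hm' hh.1)).1
    have h2' := (h2.resolve_right (fun hh => hτ' hh.1)).1
    rw [Subgroup.mem_subgroupOf] at h1' h2'
    simp only [Subgroup.coe_mul] at h1' h2'
    have h3 : m * τ⁻¹ ∈ Subgroup.centralizer (S : Set G) := by
      have := Subgroup.mul_mem _ h1' (Subgroup.inv_mem _ h2')
      have e : m * (a : G) * (τ * (a : G))⁻¹ = m * τ⁻¹ := by group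
      rwa [e] at this
    have h4 : τ * y * τ⁻¹ = y⁻¹ := h.inv_of_mem hτP hτS hy
    have h5 := hcent _ h3 y⁻¹ (Subgroup.inv_mem _ hy)
    calc m * y * m⁻¹ = (m * τ⁻¹) * (τ * y * τ⁻¹) * (m * τ⁻¹)⁻¹ := by group
      _ = y⁻¹ := by rw [h4, h5]

/-- Two conjugate elements of `⟨σ⟩` of order at least four are conjugate in `N_G(⟨σ⟩)`. -/
theorem exists_normalizer_conj [Finite G] (P : Sylow 2 G) {σ : G} {N : ℕ}
    (h : DihData (P : Subgroup G) σ N) (y : G) (hy : y ∈ Subgroup.zpowers σ)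
    (hy2 : y * y ≠ 1) (g : G) (hz : g * y * g⁻¹ ∈ Subgroup.zpowers σ) :
    ∃ m ∈ Subgroup.normalizer (Subgroup.zpowers σ : Set G), m * y * m⁻¹ = g * y * g⁻¹ := by
  haveI : Fact (Nat.Prime 2) := ⟨Nat.prime_two⟩
  set S := Subgroup.zpowers σ with hS
  set z := g * y * g⁻¹ with hzdef
  have hz2 : z * z ≠ 1 := by
    intro h1
    apply hy2
    have e : z * z = g * (y * y) * g⁻¹ := by rw [hzdef]; group
    rw [e] at h1
    have e2 : y * y = g⁻¹ * (g * (y * y) * g⁻¹) * g := by group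
    rw [e2, h1]
    group
  set X := Subgroup.centralizer ({z} : Set G) with hX
  obtain ⟨-, hXcard⟩ := centralizer_of_sq_ne P h z hz hz2
  have hab : ∀ x ∈ S, ∀ w ∈ S, x * w = w * x := by
    intro x hx w hw
    obtain ⟨k, rfl⟩ := Subgroup.mem_zpowers_iff.mp hx
    obtain ⟨l, rfl⟩ := Subgroup.mem_zpowers_iff.mp hw
    rw [← zpow_add, ← zpow_add, add_comm]
  have hSX : S ≤ X := by
    intro x hx
    rw [hX, Subgroup.mem_centralizer_singleton_iff]
    exact hab x hx z hz
  set S' : Subgroup G := S.map (MulAut.conj g).toMonoidHom with hS'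
  have hS'X : S' ≤ X := by
    intro x hx
    rw [hS', Subgroup.mem_map] at hx
    obtain ⟨s, hs, rfl⟩ := hx
    rw [hX, Subgroup.mem_centralizer_singleton_iff]
    simp only [MulEquiv.coe_toMonoidHom, MulAut.conj_apply]
    rw [hzdef]
    have := hab s hs y hy
    calc g * s * g⁻¹ * (g * y * g⁻¹) = g * (s * y) * g⁻¹ := by group
      _ = g * (y * s) * g⁻¹ := by rw [this]
      _ = g * y * g⁻¹ * (g * s * g⁻¹) := by group
  have hcardS : Nat.card ↥S = N := h.card_zpowers
  have hcardS' : Nat.card ↥S' = N := by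
    rw [hS', Subgroup.card_map_of_injective (MulAut.conj g).injective, hcardS]
  have hc1 : Nat.card ↥(S.subgroupOf X) = 2 ^ (Nat.card ↥X).factorization 2 := by
    rw [hXcard, ← hcardS]
    exact Nat.card_congr (Subgroup.subgroupOfEquivOfLe hSX).toEquiv
  have hc2 : Nat.card ↥(S'.subgroupOf X) = 2 ^ (Nat.card ↥X).factorization 2 := by
    rw [hXcard, ← hcardS']
    exact Nat.card_congr (Subgroup.subgroupOfEquivOfLe hS'X).toEquiv
  set Q₁ : Sylow 2 ↥X := Sylow.ofCard (S.subgroupOf X) hc1 with hQ₁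
  set Q₂ : Sylow 2 ↥X := Sylow.ofCard (S'.subgroupOf X) hc2 with hQ₂
  obtain ⟨c, hc⟩ := MulAction.exists_smul_eq ↥X Q₁ Q₂
  have hconj : ∀ x : ↥X, x ∈ (Q₂ : Subgroup ↥X) → c⁻¹ * x * c ∈ (Q₁ : Subgroup ↥X) :=
    fun x hx => conj_mem_of_smul_sylow Q₁ Q₂ c hc hx
  refine ⟨(c : G)⁻¹ * g, ?_, ?_⟩
  · apply Subgroup.mem_normalizer_fintype
    intro n hn
    have hn' : g * n * g⁻¹ ∈ S' := by
      rw [hS', Subgroup.mem_map]
      exact ⟨n, hn, by simp⟩
    have h1 := hconj ⟨g * n * g⁻¹, hS'X hn'⟩ (by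
      rw [hQ₂]
      show _ ∈ S'.subgroupOf X
      rw [Subgroup.mem_subgroupOf]
      exact hn')
    rw [hQ₁] at h1
    have h2 : c⁻¹ * ⟨g * n * g⁻¹, hS'X hn'⟩ * c ∈ S.subgroupOf X := h1
    rw [Subgroup.mem_subgroupOf] at h2
    simp only [Subgroup.coe_mul, Subgroup.coe_inv] at h2
    have e : (c : G)⁻¹ * g * n * ((c : G)⁻¹ * g)⁻¹ = (c : G)⁻¹ * (g * n * g⁻¹) * (c : G) := by
      group
    show (c : G)⁻¹ * g * n * ((c : G)⁻¹ * g)⁻¹ ∈ S
    rw [e]
    exact h2
  · have hcz : (c : G) * z = z * (c : G) := by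
      have := c.2
      rwa [Subgroup.mem_centralizer_singleton_iff] at this
    have e : (c : G)⁻¹ * g * y * ((c : G)⁻¹ * g)⁻¹ = (c : G)⁻¹ * (g * y * g⁻¹) * (c : G) := by
      group
    rw [e, ← hzdef]
    calc (c : G)⁻¹ * z * (c : G) = (c : G)⁻¹ * ((c : G) * z) := by rw [hcz]; group
      _ = z := by group

/-- Fusion of the elements of `⟨σ⟩`: conjugate non-identity elements are equal or inverse. -/
theorem conj_in_zpowers [Finite G] (P : Sylow 2 G) {σ : G} {N : ℕ} (hN : 3 ≤ N)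
    (h : DihData (P : Subgroup G) σ N) (y z : G) (hy : y ∈ Subgroup.zpowers σ)
    (hz : z ∈ Subgroup.zpowers σ) (hy1 : y ≠ 1) (hc : IsConj y z) : z = y ∨ z = y⁻¹ := by
  obtain ⟨g, hg⟩ := isConj_iff.mp hc
  by_cases hy2 : y * y = 1
  · left
    have hz1 : z ≠ 1 := by
      rintro rfl
      apply hy1
      have : y = g⁻¹ * (g * y * g⁻¹) * g := by group
      rw [this, hg]
      group
    have hzz : z * z = 1 := by
      rw [← hg]
      have : g * y * g⁻¹ * (g * y * g⁻¹) = g * (y * y) * g⁻¹ := by group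
      rw [this, hy2]
      group
    exact (involution_unique y z hy hz hy1 hz1 hy2 hzz).symm
  · rw [← hg] at hz
    obtain ⟨m, hm, hmy⟩ := exists_normalizer_conj P h y hy hy2 g hz
    rw [← hg, ← hmy]
    exact normalizer_acts P hN h m hm y hy

end Cfsg.Agent.Helper6.DihBr
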