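import Mathlib
import Cfsg.Prelude.Def_Characters
import Cfsg.Prelude.Def_Blocks
import Cfsg.Agent.Helper6.DihBrD
import Cfsg.Agent.Helper6.BLeoF
import Cfsg.Agent.Helper6.BrauerAppD

/-!
# Dihedral Sylow 2-subgroups: orthogonality relations on the sections of the elements of `⟨σ⟩`
-/

set_option autoImplicit false
set_option linter.style.haveILetI false

namespace Cfsg.Agent.Helper6.DihBr

open scoped ComplexConjugate

universe u

variable {G : Type u} [Group G] {M : Ideal Cfsg.AlgInt}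

/-- The sum of the squares of the degrees in the principal block of a 2-nilpotent group, over `ℂ`. -/
theorem sum_charDegree_sq_cast {X : Type u} [Group X] [Finite X] (hM : Cfsg.IsPModular 2 M)
    (hidx : ∃ k : ℕ, (Cfsg.pPrimeCore 2 X).index = 2 ^ k) (m : ℕ)
    (hm : 2 ^ (Nat.card X).factorization 2 = m) :
    ∑ᶠ ψ ∈ Cfsg.principalBlock M X, ((Cfsg.charDegree (ψ : X → ℂ) : ℂ)) ^ 2 = (m : ℂ) := by
  haveI : Fact (Nat.Prime 2) := ⟨Nat.prime_two⟩
  haveI : Finite (Cfsg.IrrCharacter X) := irr_finite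
  have h := BLeo.sum_charDegree_sq_of_pNilpotent hM hidx
  obtain ⟨lam, hlam⟩ : ∃ lam : ℕ, lam =
      ∑ᶠ ψ ∈ Cfsg.principalBlock M X, Cfsg.charDegree (ψ : X → ℂ) ^ 2 := ⟨_, rfl⟩
  have h1 : ((lam : ℕ) : ℚ) =
      ∑ᶠ ψ ∈ Cfsg.principalBlock M X, ((Cfsg.charDegree (ψ : X → ℂ) : ℕ) : ℚ) ^ 2 := by
    rw [hlam, Nat.cast_finsum_mem (Set.toFinite _)]
    apply finsum_mem_congr rfl
    intro ψ _
    rw [Nat.cast_pow]
  have h2 : ((lam : ℕ) : ℂ) =
      ∑ᶠ ψ ∈ Cfsg.principalBlock M X, ((Cfsg.charDegree (ψ : X → ℂ) : ℂ)) ^ 2 := by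
    rw [hlam, Nat.cast_finsum_mem (Set.toFinite _)]
    apply finsum_mem_congr rfl
    intro ψ _
    rw [Nat.cast_pow]
  rw [← h1] at h
  have h3 : lam = 2 ^ (Nat.card X).factorization 2 := by exact_mod_cast h
  rw [← h2, h3, hm]

open Classical in
/-- The weight of the section of a non-identity element of `⟨σ⟩`. -/
theorem section_weight [Finite G] (hM : Cfsg.IsPModular 2 M) (P : Sylow 2 G) {σ : G} {N : ℕ}
    (hN : 3 ≤ N) (e : Nonempty (↥(P : Subgroup G) ≃* DihedralGroup N))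
    (h : DihData (P : Subgroup G) σ N) (y : G) (hy : y ∈ Subgroup.zpowers σ) (hy1 : y ≠ 1) :
    ∑ᶠ ψ ∈ Cfsg.principalBlock M ↥(Subgroup.centralizer ({y} : Set G)),
      ((Cfsg.charDegree (ψ : ↥(Subgroup.centralizer ({y} : Set G)) → ℂ) : ℂ)) ^ 2 =
      if y * y = 1 then 2 * (N : ℂ) else (N : ℂ) := by
  by_cases hyy : y * y = 1
  · rw [if_pos hyy]
    have hyo : orderOf y = 2 := by
      apply orderOf_eq_prime
      · rw [pow_two, hyy]
      · exact hy1
    obtain ⟨hidx, hcard⟩ := centralizer_of_involution P (by omega) e h y hy hyo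
    rw [sum_charDegree_sq_cast hM hidx (2 * N) hcard]
    push_cast
    ring
  · rw [if_neg hyy]
    obtain ⟨hidx, hcard⟩ := centralizer_of_sq_ne P h y hy hyy
    rw [sum_charDegree_sq_cast hM hidx N hcard]

/-- Conjugacy of non-identity elements of `⟨σ⟩`. -/
theorem isConj_iff_of_mem [Finite G] (P : Sylow 2 G) {σ : G} {N : ℕ} (hN : 3 ≤ N)
    (h : DihData (P : Subgroup G) σ N) (y z : G) (hy : y ∈ Subgroup.zpowers σ)
    (hz : z ∈ Subgroup.zpowers σ) (hy1 : y ≠ 1) : IsConj y z ↔ (z = y ∨ z = y⁻¹) := by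
  constructor
  · exact conj_in_zpowers P hN h y z hy hz hy1
  · rintro (rfl | rfl)
    · exact IsConj.refl _
    · obtain ⟨τ, hτP, hτS⟩ := h.exists_not_mem (by omega)
      rw [isConj_iff]
      exact ⟨τ, h.inv_of_mem hτP hτS hy⟩

/-- Elements of `P` have 2-power order. -/
theorem orderOf_eq_two_pow [Finite G] (P : Sylow 2 G) (y : G) (hy : y ∈ (P : Subgroup G)) :
    ∃ k : ℕ, orderOf y = 2 ^ k := by
  obtain ⟨k, hk⟩ := (IsPGroup.iff_orderOf.mp P.2) ⟨y, hy⟩
  exact ⟨k, by rw [← hk, Subgroup.orderOf_mk]⟩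

open Classical in
/-- The orthogonality relations for the sections of the elements of `⟨σ⟩`. -/
theorem section_sum [Finite G] (hM : Cfsg.IsPModular 2 M) (P : Sylow 2 G) {σ : G} {N : ℕ}
    (hN : 3 ≤ N) (e : Nonempty (↥(P : Subgroup G) ≃* DihedralGroup N))
    (h : DihData (P : Subgroup G) σ N) (y z : G) (hy : y ∈ Subgroup.zpowers σ)
    (hz : z ∈ Subgroup.zpowers σ) (hy1 : y ≠ 1) :
    ∑ᶠ χ ∈ Cfsg.principalBlock M G, (χ : G → ℂ) y * conj ((χ : G → ℂ) z) =
      if (z = y ∨ z = y⁻¹) then (if y * y = 1 then 2 * (N : ℂ) else (N : ℂ)) else 0 := by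
  haveI : Fact (Nat.Prime 2) := ⟨Nat.prime_two⟩
  haveI : Fintype G := Fintype.ofFinite G
  have h1 := principal_section_orth hM y z (orderOf_eq_two_pow P y (h.zpowers_le hy))
    (orderOf_eq_two_pow P z (h.zpowers_le hz))
  rw [h1, section_weight hM P hN e h y hy hy1]
  by_cases hc : IsConj y z
  · rw [if_pos hc, if_pos ((isConj_iff_of_mem P hN h y z hy hz hy1).mp hc)]
  · rw [if_neg hc, if_neg (fun hh => hc ((isConj_iff_of_mem P hN h y z hy hz hy1).mpr hh))]

end Cfsg.Agent.Helper6.DihBr
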