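import Mathlib
import Cfsg.Prelude.Def_Characters
import Cfsg.Prelude.Def_Blocks
import Cfsg.Agent.Helper6.DihBrE

/-!
# Dihedral Sylow 2-subgroups: the Gram matrix of the coefficient vectors on `⟨σ⟩`
-/

set_option autoImplicit false
set_option linter.style.haveILetI false

namespace Cfsg.Agent.Helper6.DihBr

open scoped ComplexConjugate

universe u

variable {G : Type u} [Group G] {M : Ideal Cfsg.AlgInt}

open Classical in
/-- The Gram matrix of the coefficient vectors (auxiliary form). -/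
theorem gram_aux [Finite G] (hM : Cfsg.IsPModular 2 M) (P : Sylow 2 G) {σ : G} {N : ℕ}
    (hN : 3 ≤ N) (e : Nonempty (↥(P : Subgroup G) ≃* DihedralGroup N))
    (h : DihData (P : Subgroup G) σ N) (S : Subgroup G) (hS : S = Subgroup.zpowers σ)
    (l μ : ↥S →* ℂˣ) (hl : l ≠ 1) (hμ : μ ≠ 1) :
    ∑ᶠ χ ∈ Cfsg.principalBlock M G,
      BLeo.coef S (χ : G → ℂ) l * conj (BLeo.coef S (χ : G → ℂ) μ) =
      2 + (if l = μ then 1 else 0) + (if l = μ⁻¹ then 1 else 0) := by
  haveI : Fintype G := Fintype.ofFinite G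
  haveI : Fintype ↥S := Fintype.ofFinite _
  haveI : Finite (Cfsg.IrrCharacter G) := irr_finite
  haveI : Fintype (Cfsg.IrrCharacter G) := Fintype.ofFinite _
  have hcardS : (Nat.card ↥S : ℂ) = (N : ℂ) := by rw [hS, h.card_zpowers]
  have hN0 : (N : ℂ) ≠ 0 := by
    have : N ≠ 0 := by omega
    exact_mod_cast this
  obtain ⟨θ, hθ⟩ : ∃ θ : ↥S → ℂ, θ = fun y => ((l y : ℂˣ) : ℂ) - 1 := ⟨_, rfl⟩
  obtain ⟨η, hη⟩ : ∃ η : ↥S → ℂ, η = fun y => ((μ y : ℂˣ) : ℂ) - 1 := ⟨_, rfl⟩
  have hθ1 : θ 1 = 0 := by rw [hθ]; simp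
  have hA : ∀ (χ : Cfsg.IrrCharacter G) (φ : ↥S → ℂ),
      ∑ y : ↥S, (χ : G → ℂ) (y : G) * φ y⁻¹ = ∑ y : ↥S, conj ((χ : G → ℂ) (y : G)) * φ y := by
    intro χ φ
    rw [← Equiv.sum_comp (Equiv.inv ↥S) (fun y : ↥S => (χ : G → ℂ) (y : G) * φ y⁻¹)]
    apply Finset.sum_congr rfl
    intro y _
    rw [Equiv.inv_apply, inv_inv, Subgroup.coe_inv,
      IsCharacter.inv_eq_conj (IsIrrCharacter.isCharacter χ.2)]
  have hcoefl : ∀ χ : Cfsg.IrrCharacter G, BLeo.coef S (χ : G → ℂ) l =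
      (N : ℂ)⁻¹ * ∑ y : ↥S, conj ((χ : G → ℂ) (y : G)) * θ y := by
    intro χ
    rw [BLeo.coef_eq_sum, hcardS, ← hA χ θ, hθ]
  have hcoefμ : ∀ χ : Cfsg.IrrCharacter G, BLeo.coef S (χ : G → ℂ) μ =
      (N : ℂ)⁻¹ * ∑ y : ↥S, conj ((χ : G → ℂ) (y : G)) * η y := by
    intro χ
    rw [BLeo.coef_eq_sum, hcardS, ← hA χ η, hη]
  rw [finsum_mem_eq_sum_ite]
  simp_rw [hcoefl, hcoefμ]
  obtain ⟨c, hc⟩ : ∃ c : ℂ, c = (N : ℂ)⁻¹ := ⟨_, rfl⟩
  have hcc : conj c = c := by
    rw [hc, map_inv₀, Complex.conj_natCast]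
  rw [← hc]
  -- the weights
  obtain ⟨W, hW⟩ : ∃ W : ↥S → ℂ, W = fun y : ↥S =>
      if (y : G) * (y : G) = 1 then 2 * (N : ℂ) else (N : ℂ) := ⟨_, rfl⟩
  have hWconj : ∀ y, conj (W y) = W y := by
    intro y
    rw [hW]
    beta_reduce
    split_ifs
    · rw [map_mul, Complex.conj_natCast]
      congr 1
      exact Complex.conj_ofNat 2
    · rw [Complex.conj_natCast]
  have hkey : ∀ y z : ↥S, y ≠ 1 → ∑ χ : Cfsg.IrrCharacter G,
      (if χ ∈ Cfsg.principalBlock M G then
        conj ((χ : G → ℂ) (y : G)) * (χ : G → ℂ) (z : G) else 0) =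
      if (z = y ∨ z = y⁻¹) then W y else 0 := by
    intro y z hy1
    have h1 := section_sum hM P hN e h (y : G) (z : G) (hS ▸ y.2) (hS ▸ z.2)
      (fun hh => hy1 (Subtype.ext hh))
    rw [finsum_mem_eq_sum_ite] at h1
    have h2 := congrArg conj h1
    rw [map_sum] at h2
    have h3 : ((z : G) = (y : G) ∨ (z : G) = (y : G)⁻¹) ↔ (z = y ∨ z = y⁻¹) := by
      constructor
      · rintro (hh | hh)
        · exact Or.inl (Subtype.ext hh)
        · exact Or.inr (Subtype.ext (by rw [Subgroup.coe_inv]; exact hh))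
      · rintro (hh | hh)
        · exact Or.inl (by rw [hh])
        · exact Or.inr (by rw [hh, Subgroup.coe_inv])
    have h4 : (∑ χ : Cfsg.IrrCharacter G,
      (if χ ∈ Cfsg.principalBlock M G then
        conj ((χ : G → ℂ) (y : G)) * (χ : G → ℂ) (z : G) else 0)) =
        ∑ χ : Cfsg.IrrCharacter G, conj
          (if χ ∈ Cfsg.principalBlock M G then
            (χ : G → ℂ) (y : G) * conj ((χ : G → ℂ) (z : G)) else 0) := by
      apply Finset.sum_congr rfl
      intro χ _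
      rw [apply_ite conj, map_zero, map_mul, Complex.conj_conj]
    rw [h4, h2]
    by_cases hzy : (z = y ∨ z = y⁻¹)
    · rw [if_pos hzy, if_pos (h3.mpr hzy)]
      have := hWconj y
      rw [hW] at this ⊢
      exact this
    · rw [if_neg hzy, if_neg (fun hh => hzy (h3.mp hh)), map_zero]
  -- expand the product
  have hterm : ∀ χ : Cfsg.IrrCharacter G,
      (c * ∑ y : ↥S, conj ((χ : G → ℂ) (y : G)) * θ y) *
        conj (c * ∑ y : ↥S, conj ((χ : G → ℂ) (y : G)) * η y) =
      c * c * ∑ y : ↥S, ∑ z : ↥S, θ y * conj (η z) *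
        (conj ((χ : G → ℂ) (y : G)) * (χ : G → ℂ) (z : G)) := by
    intro χ
    rw [map_mul, hcc, map_sum, mul_mul_mul_comm, Finset.sum_mul_sum]
    congr 1
    apply Finset.sum_congr rfl
    intro y _
    apply Finset.sum_congr rfl
    intro z _
    rw [map_mul, Complex.conj_conj]
    ring
  simp_rw [hterm]
  rw [← Finset.sum_filter, ← Finset.mul_sum, Finset.sum_comm]
  have hswap : ∀ y : ↥S,
      ∑ χ ∈ Finset.univ.filter (fun χ : Cfsg.IrrCharacter G => χ ∈ Cfsg.principalBlock M G),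
        ∑ z : ↥S, θ y * conj (η z) * (conj ((χ : G → ℂ) (y : G)) * (χ : G → ℂ) (z : G)) =
      θ y * ((N : ℂ) * (conj (η y) + conj (η y⁻¹))) := by
    intro y
    by_cases hy1 : y = 1
    · rw [hy1, hθ1]
      simp
    rw [Finset.sum_comm]
    have h5 : ∀ z : ↥S, ∑ χ ∈ Finset.univ.filter
        (fun χ : Cfsg.IrrCharacter G => χ ∈ Cfsg.principalBlock M G),
        θ y * conj (η z) * (conj ((χ : G → ℂ) (y : G)) * (χ : G → ℂ) (z : G)) =
        θ y * (conj (η z) * (if (z = y ∨ z = y⁻¹) then W y else 0)) := by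
      intro z
      rw [← hkey y z hy1, ← Finset.sum_filter, Finset.mul_sum, Finset.mul_sum]
      apply Finset.sum_congr rfl
      intro χ _
      ring
    rw [Finset.sum_congr rfl (fun z _ => h5 z), ← Finset.mul_sum]
    congr 1
    by_cases hyy : y = y⁻¹
    · have h6 : ∀ z : ↥S, conj (η z) * (if (z = y ∨ z = y⁻¹) then W y else 0) =
          if z = y then conj (η y) * W y else 0 := by
        intro z
        by_cases hz : z = y
        · rw [if_pos (Or.inl hz), if_pos hz, hz]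
        · rw [if_neg (fun hh => hz (hh.elim id (fun h' => by rw [h', ← hyy]))), if_neg hz,
            mul_zero]
      rw [Finset.sum_congr rfl (fun z _ => h6 z), Finset.sum_ite_eq' Finset.univ y,
        if_pos (Finset.mem_univ y), ← hyy, hW]
      beta_reduce
      have h7 : (y : G) * (y : G) = 1 := by
        have := congrArg (fun t : ↥S => (y : G) * (t : G)) hyy
        beta_reduce at this
        rw [Subgroup.coe_inv, mul_inv_cancel] at this
        exact this
      rw [if_pos h7]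
      ring
    · have h6 : ∀ z : ↥S, conj (η z) * (if (z = y ∨ z = y⁻¹) then W y else 0) =
          (if z = y then conj (η y) * W y else 0) +
            (if z = y⁻¹ then conj (η y⁻¹) * W y else 0) := by
        intro z
        by_cases hz : z = y
        · rw [if_pos (Or.inl hz), if_pos hz, if_neg (fun h' => hyy (hz.symm.trans h')),
            add_zero, hz]
        · by_cases hz' : z = y⁻¹
          · rw [if_pos (Or.inr hz'), if_neg hz, if_pos hz', zero_add, hz']
          · rw [if_neg (fun hh => hh.elim hz hz'), if_neg hz, if_neg hz', mul_zero, add_zero]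
      rw [Finset.sum_congr rfl (fun z _ => h6 z), Finset.sum_add_distrib,
        Finset.sum_ite_eq' Finset.univ y, Finset.sum_ite_eq' Finset.univ y⁻¹,
        if_pos (Finset.mem_univ y), if_pos (Finset.mem_univ y⁻¹), hW]
      beta_reduce
      have h7 : ¬ ((y : G) * (y : G) = 1) := by
        intro h'
        apply hyy
        apply Subtype.ext
        rw [Subgroup.coe_inv]
        exact (inv_eq_of_mul_eq_one_left h').symm
      rw [if_neg h7]
      ring
  rw [Finset.sum_congr rfl (fun y _ => hswap y)]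
  -- final evaluation
  have hμinv : μ⁻¹ ≠ 1 := by
    intro h'
    apply hμ
    ext y
    have h2 := DFunLike.congr_fun h' y
    rw [MonoidHom.inv_apply, MonoidHom.one_apply, inv_eq_one] at h2
    rw [h2, MonoidHom.one_apply]
  have hs1 := BLeo.sum_shifted_hom S l μ hl hμ
  have hs2 := BLeo.sum_shifted_hom S l μ⁻¹ hl hμinv
  have h8 : ∑ y : ↥S, θ y * ((N : ℂ) * (conj (η y) + conj (η y⁻¹))) =
      (N : ℂ) * (∑ y : ↥S, (((l y : ℂˣ) : ℂ) - 1) * conj (((μ y : ℂˣ) : ℂ) - 1) +
        ∑ y : ↥S, (((l y : ℂˣ) : ℂ) - 1) * conj (((μ⁻¹ y : ℂˣ) : ℂ) - 1)) := by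
    rw [← Finset.sum_add_distrib, Finset.mul_sum]
    apply Finset.sum_congr rfl
    intro y _
    rw [hθ, hη]
    beta_reduce
    rw [MonoidHom.inv_apply, map_inv]
    ring
  rw [h8, hs1, hs2, hcardS, hc]
  field_simp
  ring

open Classical in
/-- The Gram matrix of the coefficient vectors. -/
theorem gram [Finite G] (hM : Cfsg.IsPModular 2 M) (P : Sylow 2 G) {σ : G} {N : ℕ}
    (hN : 3 ≤ N) (e : Nonempty (↥(P : Subgroup G) ≃* DihedralGroup N))
    (h : DihData (P : Subgroup G) σ N) (l μ : ↥(Subgroup.zpowers σ) →* ℂˣ) (hl : l ≠ 1)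
    (hμ : μ ≠ 1) :
    ∑ᶠ χ ∈ Cfsg.principalBlock M G,
      BLeo.coef (Subgroup.zpowers σ) (χ : G → ℂ) l *
        conj (BLeo.coef (Subgroup.zpowers σ) (χ : G → ℂ) μ) =
      2 + (if l = μ then 1 else 0) + (if l = μ⁻¹ then 1 else 0) :=
  gram_aux hM P hN e h (Subgroup.zpowers σ) rfl l μ hl hμ

end Cfsg.Agent.Helper6.DihBr
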