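import Mathlib
import Cfsg.Agent.Helper6.DihBrG

/-!
# Dihedral Sylow 2-subgroups: the combinatorial lemma, part 2 (the sunflower)
-/

set_option autoImplicit false
set_option linter.style.haveILetI false

namespace Cfsg.Agent.Helper6.DihBr

variable {ι : Type*} [Fintype ι] [DecidableEq ι] {Λ : Type*}

/-- The dot product of `e_p - e_q` with an arbitrary vector. -/
theorem dot_single_sub_single_left (p q : ι) (y : ι → ℤ) :
    ∑ i : ι, (((if i = p then 1 else 0) - (if i = q then 1 else 0) : ℤ)) * y i = y p - y q := by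
  have h : ∀ i : ι, (((if i = p then 1 else 0) - (if i = q then 1 else 0) : ℤ)) * y i =
      (if i = p then y i else 0) - (if i = q then y i else 0) := by
    intro i
    split_ifs <;> ring
  rw [Finset.sum_congr rfl (fun i _ => h i), Finset.sum_sub_distrib]
  simp only [Finset.sum_ite_eq', Finset.mem_univ, if_true]

/-- The core of the combinatorial lemma: the vectors `x l` form a sunflower with common petal `a`,
and `x₀` agrees with them on `a`. -/
theorem core (R : Λ → Λ → Prop) (hR : Equivalence R) (x : Λ → ι → ℤ) (x₀ : ι → ℤ) (deg : ι → ℤ)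
    (hdeg : ∀ i, 0 < deg i) (hne : Nonempty Λ)
    (hG1 : ∀ l μ, R l μ → ∑ i, x l i * x μ i = 2)
    (hG0 : ∀ l μ, ¬ R l μ → ∑ i, x l i * x μ i = 1)
    (h00 : ∑ i, x₀ i ^ 2 = 3)
    (h0l : ∀ l, ∑ i, x l i * x₀ i = 1)
    (hd : ∀ l, ∑ i, x l i * deg i = 1)
    (hd0 : ∑ i, x₀ i * deg i = 1)
    (h3 : (∃ l μ, ¬ R l μ) → ∃ l μ ν, ¬ R l μ ∧ ¬ R l ν ∧ ¬ R μ ν) :
    ∃ (s : ℤ) (a : ι) (Θ : Λ → ι), (s = 1 ∨ s = -1) ∧ (∀ l, Θ l ≠ a) ∧
      (∀ l μ, Θ l = Θ μ ↔ R l μ) ∧
      (∀ l i, x l i = s * (if i = a then 1 else 0) - s * (if i = Θ l then 1 else 0)) ∧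
      x₀ a = s := by
  classical
  have hx : ∀ l, ∃ p q, p ≠ q ∧
      ∀ i, x l i = (if i = p then 1 else 0) - (if i = q then 1 else 0) := fun l =>
    eq_single_sub_single_one (x l) deg hdeg (by
      have := hG1 l l (hR.refl l)
      rw [← this]
      apply Finset.sum_congr rfl
      intro i _
      ring) (hd l)
  choose p q hpq hxl using hx
  have hdot : ∀ l μ, ∑ i, x l i * x μ i =
      (if p l = p μ then 1 else 0) - (if p l = q μ then 1 else 0) -
        (if q l = p μ then 1 else 0) + (if q l = q μ then 1 else 0) := by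
    intro l μ
    rw [← BLeo.dot_single_sub_single]
    apply Finset.sum_congr rfl
    intro i _
    rw [hxl l i, hxl μ i]
  have hdot0 : ∀ l, ∑ i, x l i * x₀ i = x₀ (p l) - x₀ (q l) := by
    intro l
    rw [← dot_single_sub_single_left]
    apply Finset.sum_congr rfl
    intro i _
    rw [hxl l i]
  have hRiff : ∀ l μ, R l μ ↔ (p l = p μ ∧ q l = q μ) := by
    intro l μ
    constructor
    · intro h
      have h1 := hG1 l μ h
      rw [hdot] at h1
      by_cases hA : p l = p μ
      · by_cases hD : q l = q μ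
        · exact ⟨hA, hD⟩
        · exfalso
          rw [if_pos hA, if_neg hD] at h1
          split_ifs at h1 <;> omega
      · exfalso
        rw [if_neg hA] at h1
        split_ifs at h1 <;> omega
    · rintro ⟨h1, h2⟩
      by_contra hnR
      have h4 := hG0 l μ hnR
      rw [hdot, if_pos h1, if_pos h2, if_neg (by rw [← h2]; exact hpq l),
        if_neg (by rw [← h1]; exact (hpq l).symm)] at h4
      omega
  have hnR : ∀ l μ, ¬ R l μ → (p l = p μ ∧ q l ≠ q μ) ∨ (p l ≠ p μ ∧ q l = q μ) := by
    intro l μ h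
    have h1 := hG0 l μ h
    rw [hdot] at h1
    by_cases hA : p l = p μ
    · by_cases hD : q l = q μ
      · exact absurd ((hRiff l μ).mpr ⟨hA, hD⟩) h
      · exact Or.inl ⟨hA, hD⟩
    · by_cases hD : q l = q μ
      · exact Or.inr ⟨hA, hD⟩
      · exfalso
        rw [if_neg hA, if_neg hD] at h1
        split_ifs at h1 <;> omega
  have hentry := entry_of_norm_le_three x₀ (le_of_eq h00)
  by_cases hA : ∃ l μ, ¬ R l μ
  · obtain ⟨m₁, m₂, m₃, hm12, hm13, hm23⟩ := h3 hA
    obtain ⟨l₁, l₂, h12⟩ := hA
    rcases hnR l₁ l₂ h12 with ⟨hp, hq⟩ | ⟨hp, hq⟩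
    · -- common `p`
      have hall : ∀ l, p l = p l₁ := by
        intro l
        by_cases h1 : R l l₁
        · exact ((hRiff l l₁).mp h1).1
        by_cases h2 : R l l₂
        · rw [((hRiff l l₂).mp h2).1, hp]
        rcases hnR l l₁ h1 with ⟨h, _⟩ | ⟨hpl, hql⟩
        · exact h
        · rcases hnR l l₂ h2 with ⟨h, _⟩ | ⟨hpl2, hql2⟩
          · rw [h, hp]
          · exact absurd (hql.symm.trans hql2) hq
      have hx0 : ∀ l, x₀ (p l₁) - x₀ (q l) = 1 := by
        intro l
        have := h0l l
        rw [hdot0, hall l] at this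
        exact this
      have hqne : ∀ l μ, ¬ R l μ → q l ≠ q μ := by
        intro l μ h hh
        exact h ((hRiff l μ).mpr ⟨by rw [hall l, hall μ], hh⟩)
      have hx0a : x₀ (p l₁) = 1 := by
        rcases hentry (p l₁) with h | h | h
        · exfalso
          have hq' : ∀ l, x₀ (q l) = -1 := fun l => by
            have := hx0 l
            omega
          have hw := weighted_sum_of_three x₀ deg h00 (-1) (Or.inr rfl) (q m₁) (q m₂) (q m₃)
            (hqne _ _ hm12) (hqne _ _ hm13) (hqne _ _ hm23) (hq' _) (hq' _) (hq' _)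
          rw [hd0] at hw
          have := hdeg (q m₁)
          have := hdeg (q m₂)
          have := hdeg (q m₃)
          linarith
        · exact h
        · exfalso
          have h1 := hx0 l₁
          rcases hentry (q l₁) with h' | h' | h' <;> omega
      refine ⟨1, p l₁, q, Or.inl rfl, fun l => ?_, ?_, ?_, hx0a⟩
      · rw [← hall l]
        exact (hpq l).symm
      · intro l μ
        rw [hRiff, hall l, hall μ]
        exact ⟨fun h => ⟨rfl, h⟩, fun h => h.2⟩
      · intro l i
        rw [hxl l i, hall l]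
        ring
    · -- common `q`
      have hall : ∀ l, q l = q l₁ := by
        intro l
        by_cases h1 : R l l₁
        · exact ((hRiff l l₁).mp h1).2
        by_cases h2 : R l l₂
        · rw [((hRiff l l₂).mp h2).2, hq]
        rcases hnR l l₁ h1 with ⟨hpl, hql⟩ | ⟨_, h⟩
        · rcases hnR l l₂ h2 with ⟨hpl2, hql2⟩ | ⟨_, h⟩
          · exact absurd (hpl.symm.trans hpl2) hp
          · rw [h, hq]
        · exact h
      have hx0 : ∀ l, x₀ (p l) - x₀ (q l₁) = 1 := by
        intro l
        have := h0l l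
        rw [hdot0, hall l] at this
        exact this
      have hpne : ∀ l μ, ¬ R l μ → p l ≠ p μ := by
        intro l μ h hh
        exact h ((hRiff l μ).mpr ⟨hh, by rw [hall l, hall μ]⟩)
      have hx0a : x₀ (q l₁) = -1 := by
        rcases hentry (q l₁) with h | h | h
        · exfalso
          have hp' : ∀ l, x₀ (p l) = 1 := fun l => by
            have := hx0 l
            omega
          have hw := weighted_sum_of_three x₀ deg h00 1 (Or.inl rfl) (p m₁) (p m₂) (p m₃)
            (hpne _ _ hm12) (hpne _ _ hm13) (hpne _ _ hm23) (hp' _) (hp' _) (hp' _)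
          rw [hd0] at hw
          have := hdeg (p m₁)
          have := hdeg (p m₂)
          have := hdeg (p m₃)
          linarith
        · exfalso
          have h1 := hx0 l₁
          rcases hentry (p l₁) with h' | h' | h' <;> omega
        · exact h
      refine ⟨-1, q l₁, p, Or.inr rfl, fun l => ?_, ?_, ?_, hx0a⟩
      · rw [← hall l]
        exact hpq l
      · intro l μ
        rw [hRiff, hall l, hall μ]
        exact ⟨fun h => ⟨h, rfl⟩, fun h => h.1⟩
      · intro l i
        rw [hxl l i, hall l]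
        ring
  · -- a single class
    have hA' : ∀ l μ, R l μ := by
      intro l μ
      by_contra h
      exact hA ⟨l, μ, h⟩
    obtain ⟨l₀⟩ := hne
    have hallp : ∀ l, p l = p l₀ := fun l => ((hRiff l l₀).mp (hA' l l₀)).1
    have hallq : ∀ l, q l = q l₀ := fun l => ((hRiff l l₀).mp (hA' l l₀)).2
    have hx0 : x₀ (p l₀) - x₀ (q l₀) = 1 := by
      have := h0l l₀
      rw [hdot0] at this
      exact this
    rcases hentry (p l₀) with h | h | h
    · refine ⟨-1, q l₀, fun _ => p l₀, Or.inr rfl, fun _ => hpq l₀, ?_, ?_, by omega⟩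
      · intro l μ
        exact ⟨fun _ => hA' l μ, fun _ => rfl⟩
      · intro l i
        rw [hxl l i, hallp l, hallq l]
        ring
    · refine ⟨1, p l₀, fun _ => q l₀, Or.inl rfl, fun _ => (hpq l₀).symm, ?_, ?_, h⟩
      · intro l μ
        exact ⟨fun _ => hA' l μ, fun _ => rfl⟩
      · intro l i
        rw [hxl l i, hallp l, hallq l]
        ring
    · exfalso
      rcases hentry (q l₀) with h' | h' | h' <;> omega

end Cfsg.Agent.Helper6.DihBr
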