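import Mathlib
import Cfsg.Agent.Helper6.DihBrH

/-!
# Dihedral Sylow 2-subgroups: the combinatorial lemma, part 3 (the full statement)
-/

set_option autoImplicit false
set_option linter.style.haveILetI false

namespace Cfsg.Agent.Helper6.DihBr

variable {ι : Type*} [Fintype ι] [DecidableEq ι] {Λ : Type*}

/-- The combinatorial lemma for the principal block of a group with dihedral Sylow 2-subgroups. -/
theorem lattice (R : Λ → Λ → Prop) (hR : Equivalence R) (x : Λ → ι → ℤ) (x₀ : ι → ℤ)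
    (deg : ι → ℤ) (hdeg : ∀ i, 0 < deg i) (hne : Nonempty Λ)
    (hG1 : ∀ l μ, R l μ → ∑ i, x l i * x μ i = 2)
    (hG0 : ∀ l μ, ¬ R l μ → ∑ i, x l i * x μ i = 1)
    (h00 : ∑ i, x₀ i ^ 2 = 3)
    (h0l : ∀ l, ∑ i, x l i * x₀ i = 1)
    (hd : ∀ l, ∑ i, x l i * deg i = 1)
    (hd0 : ∑ i, x₀ i * deg i = 1)
    (h3 : (∃ l μ, ¬ R l μ) → ∃ l μ ν, ¬ R l μ ∧ ¬ R l ν ∧ ¬ R μ ν) :
    ∃ (s s₂ s₃ : ℤ) (a b c : ι) (Θ : Λ → ι), (s = 1 ∨ s = -1) ∧ (s₂ = 1 ∨ s₂ = -1) ∧
      (s₃ = 1 ∨ s₃ = -1) ∧ a ≠ b ∧ a ≠ c ∧ b ≠ c ∧ (∀ l, Θ l ≠ a ∧ Θ l ≠ b ∧ Θ l ≠ c) ∧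
      (∀ l μ, Θ l = Θ μ ↔ R l μ) ∧
      (∀ l i, x l i = s * (if i = a then 1 else 0) - s * (if i = Θ l then 1 else 0)) ∧
      (∀ i, x₀ i = s * (if i = a then 1 else 0) + s₂ * (if i = b then 1 else 0) +
        s₃ * (if i = c then 1 else 0)) := by
  obtain ⟨s, a, Θ, hs, hΘa, hΘR, hxl, hx0a⟩ :=
    core R hR x x₀ deg hdeg hne hG1 hG0 h00 h0l hd hd0 h3
  have hss : s * s = 1 := by rcases hs with h | h <;> rw [h] <;> norm_num
  -- `x₀` vanishes at the petals
  have hx0Θ : ∀ l, x₀ (Θ l) = 0 := by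
    intro l
    have h1 := h0l l
    have h2 : ∑ i, x l i * x₀ i = s * x₀ a - s * x₀ (Θ l) := by
      have h : ∀ i : ι, x l i * x₀ i =
          (if i = a then s * x₀ i else 0) - (if i = Θ l then s * x₀ i else 0) := by
        intro i
        rw [hxl l i]
        split_ifs <;> ring
      rw [Finset.sum_congr rfl (fun i _ => h i), Finset.sum_sub_distrib]
      simp only [Finset.sum_ite_eq', Finset.mem_univ, if_true]
    rw [h2, hx0a, hss] at h1
    have h3 : s * x₀ (Θ l) = 0 := by linarith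
    rcases mul_eq_zero.mp h3 with h | h
    · rw [h] at hss
      norm_num at hss
    · exact h
  -- the rest of `x₀`
  obtain ⟨y, hy⟩ : ∃ y : ι → ℤ, y = fun i => x₀ i - s * (if i = a then 1 else 0) := ⟨_, rfl⟩
  have hynorm : ∑ i, y i ^ 2 = 2 := by
    have h : ∀ i : ι, y i ^ 2 = x₀ i ^ 2 - (if i = a then 2 * s * x₀ i - s * s else 0) := by
      intro i
      rw [hy]
      beta_reduce
      split_ifs <;> ring
    rw [Finset.sum_congr rfl (fun i _ => h i), Finset.sum_sub_distrib, h00]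
    simp only [Finset.sum_ite_eq', Finset.mem_univ, if_true]
    rw [hx0a, hss]
    have : 2 * s * s = 2 := by rw [mul_assoc, hss]; ring
    rw [this]
    norm_num
  obtain ⟨b, c, hbc, hyb, hyc, hyzero⟩ := norm_two_classify y hynorm
  have hya : y a = 0 := by
    rw [hy]
    beta_reduce
    rw [if_pos rfl, hx0a]
    ring
  have hab : a ≠ b := by
    rintro rfl
    rw [hya] at hyb
    omega
  have hac : a ≠ c := by
    rintro rfl
    rw [hya] at hyc
    omega
  have hyΘ : ∀ l, y (Θ l) = 0 := by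
    intro l
    rw [hy]
    beta_reduce
    rw [if_neg (hΘa l), hx0Θ l]
    ring
  refine ⟨s, y b, y c, a, b, c, Θ, hs, hyb, hyc, hab, hac, hbc, fun l => ⟨hΘa l, ?_, ?_⟩, hΘR, hxl,
    ?_⟩
  · intro h
    have := hyΘ l
    rw [h] at this
    rw [this] at hyb
    omega
  · intro h
    have := hyΘ l
    rw [h] at this
    rw [this] at hyc
    omega
  · intro i
    have hxi : x₀ i = s * (if i = a then 1 else 0) + y i := by
      rw [hy]
      ring
    rw [hxi]
    by_cases hib : i = b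
    · subst hib
      rw [if_pos rfl, if_neg hbc]
      ring
    · by_cases hic : i = c
      · subst hic
        rw [if_neg hib, if_pos rfl]
        ring
      · rw [if_neg hib, if_neg hic, hyzero i hib hic]
        ring

end Cfsg.Agent.Helper6.DihBr
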