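import Mathlib

/-!
# Dihedral Sylow 2-subgroups: the linear characters of the cyclic group `⟨σ⟩`
-/

set_option autoImplicit false
set_option linter.style.haveILetI false

namespace Cfsg.Agent.Helper6.DihBr

universe u

variable {G : Type u} [Group G]

theorem forall_mem_zpowers_gen (σ : G) :
    ∀ x : ↥(Subgroup.zpowers σ), x ∈ Subgroup.zpowers
      (⟨σ, Subgroup.mem_zpowers σ⟩ : ↥(Subgroup.zpowers σ)) := by
  intro x
  obtain ⟨k, hk⟩ := Subgroup.mem_zpowers_iff.mp x.2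
  refine Subgroup.mem_zpowers_iff.mpr ⟨k, ?_⟩
  apply Subtype.ext
  rw [Subgroup.coe_zpow]
  exact hk

/-- The unit attached to a primitive root. -/
noncomputable def rootUnit {N : ℕ} (ζ : ℂ) (hζ : IsPrimitiveRoot ζ N) (hN : N ≠ 0) : ℂˣ :=
  Units.mk0 ζ (hζ.ne_zero hN)

theorem rootUnit_pow {N : ℕ} (ζ : ℂ) (hζ : IsPrimitiveRoot ζ N) (hN : N ≠ 0) :
    rootUnit ζ hζ hN ^ N = 1 := by
  apply Units.ext
  rw [Units.val_pow_eq_pow_val, rootUnit, Units.val_mk0, hζ.pow_eq_one, Units.val_one]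

theorem orderOf_rootUnit_pow_dvd {N : ℕ} (σ : G) (hσo : orderOf σ = N) (ζ : ℂ)
    (hζ : IsPrimitiveRoot ζ N) (hN : N ≠ 0) (k : ℕ) :
    orderOf (rootUnit ζ hζ hN ^ k) ∣
      orderOf (⟨σ, Subgroup.mem_zpowers σ⟩ : ↥(Subgroup.zpowers σ)) := by
  rw [Subgroup.orderOf_mk, hσo]
  apply orderOf_dvd_of_pow_eq_one
  rw [← pow_mul, mul_comm, pow_mul, rootUnit_pow, one_pow]

/-- The linear character `ψ_k` of `⟨σ⟩` with `ψ_k(σ) = ζ^k`. -/
noncomputable def psi {N : ℕ} (σ : G) (hσo : orderOf σ = N) (ζ : ℂ) (hζ : IsPrimitiveRoot ζ N)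
    (hN : N ≠ 0) (k : ℕ) : ↥(Subgroup.zpowers σ) →* ℂˣ :=
  monoidHomOfForallMemZpowers (forall_mem_zpowers_gen σ)
    (orderOf_rootUnit_pow_dvd σ hσo ζ hζ hN k)

variable {N : ℕ} (σ : G) (hσo : orderOf σ = N) (ζ : ℂ) (hζ : IsPrimitiveRoot ζ N) (hN : N ≠ 0)

theorem psi_gen (k : ℕ) :
    psi σ hσo ζ hζ hN k ⟨σ, Subgroup.mem_zpowers σ⟩ = rootUnit ζ hζ hN ^ k := by
  rw [psi]
  exact monoidHomOfForallMemZpowers_apply_gen _ _

theorem psi_apply_pow (k j : ℕ) (hj : σ ^ j ∈ Subgroup.zpowers σ) :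
    ((psi σ hσo ζ hζ hN k ⟨σ ^ j, hj⟩ : ℂˣ) : ℂ) = ζ ^ (k * j) := by
  have h1 : (⟨σ ^ j, hj⟩ : ↥(Subgroup.zpowers σ)) =
      (⟨σ, Subgroup.mem_zpowers σ⟩ : ↥(Subgroup.zpowers σ)) ^ j := by
    apply Subtype.ext
    rw [Subgroup.coe_pow]
  rw [h1, map_pow, psi_gen, ← pow_mul, Units.val_pow_eq_pow_val, rootUnit, Units.val_mk0]

/-- Two linear characters of `⟨σ⟩` agreeing at `σ` are equal. -/
theorem hom_ext_gen (l μ : ↥(Subgroup.zpowers σ) →* ℂˣ)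
    (h : l ⟨σ, Subgroup.mem_zpowers σ⟩ = μ ⟨σ, Subgroup.mem_zpowers σ⟩) : l = μ := by
  ext x
  obtain ⟨k, hk⟩ := Subgroup.mem_zpowers_iff.mp (forall_mem_zpowers_gen σ x)
  rw [← hk, map_zpow, map_zpow, h]

/-- Every linear character of `⟨σ⟩` is some `ψ_k` with `k < N`. -/
theorem exists_eq_psi (l : ↥(Subgroup.zpowers σ) →* ℂˣ) :
    ∃ k < N, l = psi σ hσo ζ hζ hN k := by
  haveI : NeZero N := ⟨hN⟩
  have h1 : ((l ⟨σ, Subgroup.mem_zpowers σ⟩ : ℂˣ) : ℂ) ^ N = 1 := by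
    rw [← Units.val_pow_eq_pow_val, ← map_pow]
    have : (⟨σ, Subgroup.mem_zpowers σ⟩ : ↥(Subgroup.zpowers σ)) ^ N = 1 := by
      apply Subtype.ext
      rw [Subgroup.coe_pow, Subgroup.coe_one, ← hσo, pow_orderOf_eq_one]
    rw [this, map_one, Units.val_one]
  obtain ⟨i, hi, hi'⟩ := hζ.eq_pow_of_pow_eq_one h1
  refine ⟨i, hi, ?_⟩
  apply hom_ext_gen
  rw [psi_gen]
  apply Units.ext
  rw [Units.val_pow_eq_pow_val, rootUnit, Units.val_mk0, hi']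

theorem psi_eq_iff (k k' : ℕ) (hk : k < N) (hk' : k' < N) :
    psi σ hσo ζ hζ hN k = psi σ hσo ζ hζ hN k' ↔ k = k' := by
  constructor
  · intro h
    have h1 := congrArg (fun l : ↥(Subgroup.zpowers σ) →* ℂˣ =>
      ((l ⟨σ, Subgroup.mem_zpowers σ⟩ : ℂˣ) : ℂ)) h
    beta_reduce at h1
    rw [psi_gen, psi_gen, Units.val_pow_eq_pow_val, Units.val_pow_eq_pow_val, rootUnit,
      Units.val_mk0] at h1
    exact hζ.pow_inj hk hk' h1
  · rintro rfl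
    rfl

theorem psi_eq_one_iff (k : ℕ) : psi σ hσo ζ hζ hN k = 1 ↔ N ∣ k := by
  constructor
  · intro h
    have h1 := congrArg (fun l : ↥(Subgroup.zpowers σ) →* ℂˣ =>
      ((l ⟨σ, Subgroup.mem_zpowers σ⟩ : ℂˣ) : ℂ)) h
    beta_reduce at h1
    rw [psi_gen, Units.val_pow_eq_pow_val, rootUnit, Units.val_mk0, MonoidHom.one_apply,
      Units.val_one] at h1
    exact (hζ.pow_eq_one_iff_dvd k).mp h1
  · intro h
    apply hom_ext_gen
    rw [psi_gen, MonoidHom.one_apply]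
    apply Units.ext
    rw [Units.val_pow_eq_pow_val, rootUnit, Units.val_mk0, Units.val_one]
    exact (hζ.pow_eq_one_iff_dvd k).mpr h

theorem psi_mul (k k' : ℕ) :
    psi σ hσo ζ hζ hN k * psi σ hσo ζ hζ hN k' = psi σ hσo ζ hζ hN (k + k') := by
  apply hom_ext_gen
  rw [MonoidHom.mul_apply, psi_gen, psi_gen, psi_gen, pow_add]

theorem psi_inv (k : ℕ) (hk : k ≤ N) :
    (psi σ hσo ζ hζ hN k)⁻¹ = psi σ hσo ζ hζ hN (N - k) := by
  apply hom_ext_gen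
  rw [MonoidHom.inv_apply, psi_gen, psi_gen, inv_eq_iff_mul_eq_one, ← pow_add]
  have : k + (N - k) = N := by omega
  rw [this, rootUnit_pow]

end Cfsg.Agent.Helper6.DihBr
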