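import Mathlib
import Cfsg.Agent.Helper6.DihBrJ

/-!
# Dihedral Sylow 2-subgroups: the classes of linear characters of `⟨σ⟩` under inversion
-/

set_option autoImplicit false
set_option linter.style.haveILetI false

namespace Cfsg.Agent.Helper6.DihBr

universe u

variable {G : Type u} [Group G]

theorem hom_inv_inv {A : Type*} [Group A] (l : A →* ℂˣ) : l⁻¹⁻¹ = l := by
  ext x
  rw [MonoidHom.inv_apply, MonoidHom.inv_apply, inv_inv]

theorem hom_inv_injective {A : Type*} [Group A] {l μ : A →* ℂˣ} (h : l⁻¹ = μ⁻¹) : l = μ := by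
  rw [← hom_inv_inv l, h, hom_inv_inv]

/-- The relation "equal or inverse" on linear characters. -/
def Rel (σ : G) (l μ : {l : ↥(Subgroup.zpowers σ) →* ℂˣ // l ≠ l⁻¹}) : Prop :=
  μ.1 = l.1 ∨ μ.1 = l.1⁻¹

theorem rel_equivalence (σ : G) : Equivalence (Rel σ) := by
  refine ⟨fun l => Or.inl rfl, ?_, ?_⟩
  · rintro l μ (h | h)
    · exact Or.inl h.symm
    · right
      rw [h, hom_inv_inv]
  · rintro l μ ν (h | h) (h' | h')
    · exact Or.inl (h'.trans h)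
    · right
      rw [h', h]
    · right
      rw [h', h]
    · left
      rw [h', h, hom_inv_inv]

variable {N : ℕ} (σ : G) (hσo : orderOf σ = N) (ζ : ℂ) (hζ : IsPrimitiveRoot ζ N) (hN : N ≠ 0)

theorem psi_ne_inv (k : ℕ) (hk0 : 0 < k) (hk : 2 * k < N) :
    psi σ hσo ζ hζ hN k ≠ (psi σ hσo ζ hζ hN k)⁻¹ := by
  rw [psi_inv σ hσo ζ hζ hN k (by omega), Ne, psi_eq_iff σ hσo ζ hζ hN k (N - k) (by omega)
    (by omega)]
  omega

theorem psi_not_rel (i j : ℕ) (hi0 : 0 < i) (hi : 2 * i < N) (hj0 : 0 < j) (hj : 2 * j < N)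
    (hij : i ≠ j) :
    ¬ (psi σ hσo ζ hζ hN j = psi σ hσo ζ hζ hN i ∨
      psi σ hσo ζ hζ hN j = (psi σ hσo ζ hζ hN i)⁻¹) := by
  rintro (h | h)
  · rw [psi_eq_iff σ hσo ζ hζ hN j i (by omega) (by omega)] at h
    exact hij h.symm
  · rw [psi_inv σ hσo ζ hζ hN i (by omega),
      psi_eq_iff σ hσo ζ hζ hN j (N - i) (by omega) (by omega)] at h
    omega

theorem exists_rel_psi (l : ↥(Subgroup.zpowers σ) →* ℂˣ) (hl : l ≠ l⁻¹) :
    ∃ i, 0 < i ∧ 2 * i < N ∧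
      (l = psi σ hσo ζ hζ hN i ∨ l = (psi σ hσo ζ hζ hN i)⁻¹) := by
  obtain ⟨k, hk, rfl⟩ := exists_eq_psi σ hσo ζ hζ hN l
  have hk0 : k ≠ 0 := by
    rintro rfl
    apply hl
    have h1 : psi σ hσo ζ hζ hN 0 = 1 := (psi_eq_one_iff σ hσo ζ hζ hN 0).mpr (dvd_zero N)
    rw [h1]
    ext x
    rw [MonoidHom.inv_apply, MonoidHom.one_apply, inv_one]
  have hk2 : 2 * k ≠ N := by
    intro h
    apply hl
    rw [psi_inv σ hσo ζ hζ hN k (by omega)]
    have : N - k = k := by omega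
    rw [this]
  by_cases hlt : 2 * k < N
  · exact ⟨k, Nat.pos_of_ne_zero hk0, hlt, Or.inl rfl⟩
  · refine ⟨N - k, by omega, by omega, Or.inr ?_⟩
    rw [psi_inv σ hσo ζ hζ hN (N - k) (by omega)]
    have : N - (N - k) = k := by omega
    rw [this]

theorem eq_psi_half (l : ↥(Subgroup.zpowers σ) →* ℂˣ) (hl1 : l ≠ 1) (hl : l = l⁻¹) :
    l = psi σ hσo ζ hζ hN (N / 2) := by
  obtain ⟨k, hk, rfl⟩ := exists_eq_psi σ hσo ζ hζ hN l
  have hk0 : k ≠ 0 := by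
    rintro rfl
    apply hl1
    exact (psi_eq_one_iff σ hσo ζ hζ hN 0).mpr (dvd_zero N)
  rw [psi_inv σ hσo ζ hζ hN k (by omega),
    psi_eq_iff σ hσo ζ hζ hN k (N - k) hk (by omega)] at hl
  have : k = N / 2 := by omega
  rw [this]

theorem psi_half_ne_one (h2 : 2 ∣ N) : psi σ hσo ζ hζ hN (N / 2) ≠ 1 := by
  rw [Ne, psi_eq_one_iff]
  intro h
  have h1 := Nat.le_of_dvd (by omega) h
  omega

theorem psi_half_inv (h2 : 2 ∣ N) :
    psi σ hσo ζ hζ hN (N / 2) = (psi σ hσo ζ hζ hN (N / 2))⁻¹ := by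
  rw [psi_inv σ hσo ζ hζ hN (N / 2) (by omega)]
  have : N - N / 2 = N / 2 := by omega
  rw [this]

include hσo hζ hN in
/-- If two classes exist, then three pairwise different classes exist. -/
theorem exists_three_classes (h4 : 4 ∣ N)
    (h : ∃ l μ : {l : ↥(Subgroup.zpowers σ) →* ℂˣ // l ≠ l⁻¹}, ¬ Rel σ l μ) :
    ∃ l μ ν : {l : ↥(Subgroup.zpowers σ) →* ℂˣ // l ≠ l⁻¹},
      ¬ Rel σ l μ ∧ ¬ Rel σ l ν ∧ ¬ Rel σ μ ν := by
  by_cases h8 : 8 ≤ N
  · refine ⟨⟨psi σ hσo ζ hζ hN 1, psi_ne_inv σ hσo ζ hζ hN 1 (by omega) (by omega)⟩,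
      ⟨psi σ hσo ζ hζ hN 2, psi_ne_inv σ hσo ζ hζ hN 2 (by omega) (by omega)⟩,
      ⟨psi σ hσo ζ hζ hN 3, psi_ne_inv σ hσo ζ hζ hN 3 (by omega) (by omega)⟩, ?_, ?_, ?_⟩
    · exact psi_not_rel σ hσo ζ hζ hN 1 2 (by omega) (by omega) (by omega) (by omega) (by omega)
    · exact psi_not_rel σ hσo ζ hζ hN 1 3 (by omega) (by omega) (by omega) (by omega) (by omega)
    · exact psi_not_rel σ hσo ζ hζ hN 2 3 (by omega) (by omega) (by omega) (by omega) (by omega)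
  · exfalso
    have hN4 : N = 4 := by
      obtain ⟨m, hm⟩ := h4
      omega
    obtain ⟨l, μ, hlμ⟩ := h
    apply hlμ
    have hbase : ∀ l : {l : ↥(Subgroup.zpowers σ) →* ℂˣ // l ≠ l⁻¹},
        Rel σ ⟨psi σ hσo ζ hζ hN 1, psi_ne_inv σ hσo ζ hζ hN 1 (by omega) (by omega)⟩ l := by
      intro l
      obtain ⟨i, hi0, hi, hli⟩ := exists_rel_psi σ hσo ζ hζ hN l.1 l.2
      have hi1 : i = 1 := by omega
      subst hi1
      exact hli
    exact (rel_equivalence σ).trans ((rel_equivalence σ).symm (hbase l)) (hbase μ)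

end Cfsg.Agent.Helper6.DihBr
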