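import Mathlib
import Cfsg.Prelude.Def_Characters
import Cfsg.Prelude.Def_Blocks
import Cfsg.Agent.Helper6.DihBrF
import Cfsg.Agent.Helper6.DihBrI
import Cfsg.Agent.Helper6.DihBrK
import Cfsg.Agent.Helper6.PrincipalDefect

/-!
# Dihedral Sylow 2-subgroups: the structure of the coefficient vectors of the principal block
-/

set_option autoImplicit false
set_option linter.style.haveILetI false

namespace Cfsg.Agent.Helper6.DihBr

open scoped ComplexConjugate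

universe u

variable {G : Type u} [Group G] {M : Ideal Cfsg.AlgInt}

theorem sum_shift_mul {ι : Type*} [Fintype ι] [DecidableEq ι] (u v : ι → ℤ) (i₀ : ι) :
    ∑ i, (u i + if i = i₀ then 1 else 0) * (v i + if i = i₀ then 1 else 0) =
      ∑ i, u i * v i + u i₀ + v i₀ + 1 := by
  have h : ∀ i : ι, (u i + if i = i₀ then 1 else 0) * (v i + if i = i₀ then 1 else 0) =
      u i * v i + (if i = i₀ then u i + v i + 1 else 0) := by
    intro i
    split_ifs <;> ring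
  rw [Finset.sum_congr rfl (fun i _ => h i), Finset.sum_add_distrib]
  simp only [Finset.sum_ite_eq', Finset.mem_univ, if_true]
  ring

theorem sum_shift_mul_right {ι : Type*} [Fintype ι] [DecidableEq ι] (u d : ι → ℤ) (i₀ : ι) :
    ∑ i, (u i + if i = i₀ then 1 else 0) * d i = ∑ i, u i * d i + d i₀ := by
  have h : ∀ i : ι, (u i + if i = i₀ then 1 else 0) * d i =
      u i * d i + (if i = i₀ then d i else 0) := by
    intro i
    split_ifs <;> ring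
  rw [Finset.sum_congr rfl (fun i _ => h i), Finset.sum_add_distrib]
  simp only [Finset.sum_ite_eq', Finset.mem_univ, if_true]

theorem hom_one_eq_inv {A : Type*} [Group A] : (1 : A →* ℂˣ) = 1⁻¹ := by
  ext x
  rw [MonoidHom.inv_apply, MonoidHom.one_apply, inv_one]

open Classical in
/-- The structure of the coefficient vectors. -/
theorem coef_structure [Finite G] (hM : Cfsg.IsPModular 2 M) (P : Sylow 2 G) {σ : G} {N : ℕ}
    (h4 : 4 ∣ N) (hN : N ≠ 0) (e : Nonempty (↥(P : Subgroup G) ≃* DihedralGroup N))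
    (h : DihData (P : Subgroup G) σ N) (ζ : ℂ) (hζ : IsPrimitiveRoot ζ N)
    (l₀ : ↥(Subgroup.zpowers σ) →* ℂˣ) (hl₀1 : l₀ ≠ 1) (hl₀ : l₀ = l₀⁻¹) :
    ∃ (s s₂ s₃ : ℤ) (a b c : Cfsg.IrrCharacter G)
      (Θ : {l : ↥(Subgroup.zpowers σ) →* ℂˣ // l ≠ l⁻¹} → Cfsg.IrrCharacter G),
      (s = 1 ∨ s = -1) ∧ (s₂ = 1 ∨ s₂ = -1) ∧ (s₃ = 1 ∨ s₃ = -1) ∧
      a ∈ Cfsg.principalBlock M G ∧ b ∈ Cfsg.principalBlock M G ∧
      c ∈ Cfsg.principalBlock M G ∧ (∀ l, Θ l ∈ Cfsg.principalBlock M G) ∧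
      a ≠ b ∧ a ≠ c ∧ b ≠ c ∧ (∀ l, Θ l ≠ a ∧ Θ l ≠ b ∧ Θ l ≠ c) ∧
      (∀ l μ, Θ l = Θ μ ↔ Rel σ l μ) ∧
      (∀ l, ∀ χ ∈ Cfsg.principalBlock M G,
        BLeo.coef (Subgroup.zpowers σ) (χ : G → ℂ) l.1 =
          ((s * (if χ = a then 1 else 0) - s * (if χ = Θ l then 1 else 0) -
            (if χ = trivIrr G then 1 else 0) : ℤ) : ℂ)) ∧
      (∀ χ ∈ Cfsg.principalBlock M G,
        BLeo.coef (Subgroup.zpowers σ) (χ : G → ℂ) l₀ =
          ((s * (if χ = a then 1 else 0) + s₂ * (if χ = b then 1 else 0) +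
            s₃ * (if χ = c then 1 else 0) - (if χ = trivIrr G then 1 else 0) : ℤ) : ℂ)) := by
  haveI : Fact (Nat.Prime 2) := ⟨Nat.prime_two⟩
  haveI : Finite (Cfsg.IrrCharacter G) := irr_finite
  haveI : Fintype ↥(Cfsg.principalBlock M G) := Fintype.ofFinite _
  have hN3 : 3 ≤ N := by
    obtain ⟨m, hm⟩ := h4
    omega
  have hσo : orderOf σ = N := h.order
  -- integer coefficients
  have hint : ∀ (l : ↥(Subgroup.zpowers σ) →* ℂˣ) (i : ↥(Cfsg.principalBlock M G)), ∃ k : ℤ,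
      BLeo.coef (Subgroup.zpowers σ) ((i : Cfsg.IrrCharacter G) : G → ℂ) l = (k : ℂ) := fun l i =>
    BLeo.coef_int (Subgroup.zpowers σ) _ (IsIrrCharacter.isCharacter i.1.2) l
  choose cf hcf using hint
  obtain ⟨i₀, hi₀⟩ : ∃ i₀ : ↥(Cfsg.principalBlock M G), i₀ =
      ⟨trivIrr G, trivIrr_mem_principalBlock hM.2.1⟩ := ⟨_, rfl⟩
  have hci₀ : ∀ l : ↥(Subgroup.zpowers σ) →* ℂˣ, l ≠ 1 → cf l i₀ = -1 := by
    intro l hl
    have h1 := hcf l i₀
    have h2 : ((i₀ : Cfsg.IrrCharacter G) : G → ℂ) = fun _ => (1 : ℂ) := by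
      rw [hi₀]
      rfl
    rw [h2, BLeo.coef_triv (Subgroup.zpowers σ) l hl] at h1
    exact_mod_cast h1.symm
  -- the Gram matrix over the integers
  have hgram : ∀ l μ : ↥(Subgroup.zpowers σ) →* ℂˣ, l ≠ 1 → μ ≠ 1 →
      ∑ i : ↥(Cfsg.principalBlock M G), cf l i * cf μ i =
        2 + (if l = μ then 1 else 0) + (if l = μ⁻¹ then 1 else 0) := by
    intro l μ hl hμ
    have hg := gram hM P hN3 e h l μ hl hμ
    rw [← finsum_set_coe_eq_finsum_mem, finsum_eq_sum_of_fintype] at hg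
    have h1 : ∀ i : ↥(Cfsg.principalBlock M G),
        BLeo.coef (Subgroup.zpowers σ) ((i : Cfsg.IrrCharacter G) : G → ℂ) l *
          conj (BLeo.coef (Subgroup.zpowers σ) ((i : Cfsg.IrrCharacter G) : G → ℂ) μ) =
        ((cf l i * cf μ i : ℤ) : ℂ) := by
      intro i
      rw [hcf l i, hcf μ i, map_intCast, Int.cast_mul]
    rw [Finset.sum_congr rfl (fun i _ => h1 i)] at hg
    apply Int.cast_injective (α := ℂ)
    rw [Int.cast_sum, hg]
    split_ifs <;> push_cast <;> ring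
  -- degrees
  obtain ⟨deg, hdegdef⟩ : ∃ deg : ↥(Cfsg.principalBlock M G) → ℤ,
      deg = fun i : ↥(Cfsg.principalBlock M G) =>
      (Cfsg.charDegree ((i : Cfsg.IrrCharacter G) : G → ℂ) : ℤ) := ⟨_, rfl⟩
  have hdegpos : ∀ i : ↥(Cfsg.principalBlock M G), 0 < deg i := by
    intro i
    rw [hdegdef]
    beta_reduce
    have hd := charDegree_cast_of_isCharacter (IsIrrCharacter.isCharacter i.1.2)
    have : Cfsg.charDegree ((i : Cfsg.IrrCharacter G) : G → ℂ) ≠ 0 := by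
      intro h0
      rw [h0, Nat.cast_zero] at hd
      exact IsIrrCharacter.apply_one_ne_zero i.1.2 hd.symm
    exact_mod_cast Nat.pos_of_ne_zero this
  have hdegi₀ : deg i₀ = 1 := by
    rw [hdegdef, hi₀]
    beta_reduce
    have hd := charDegree_cast_of_isCharacter (IsIrrCharacter.isCharacter (trivIrr G).2)
    have h2 : ((trivIrr G : Cfsg.IrrCharacter G) : G → ℂ) 1 = 1 := rfl
    rw [h2] at hd
    exact_mod_cast hd
  have hdeg0 : ∀ l : ↥(Subgroup.zpowers σ) →* ℂˣ,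
      ∑ i : ↥(Cfsg.principalBlock M G), cf l i * deg i = 0 := by
    intro l
    have hs := BLeo.sum_coef_mul_regular hM (Subgroup.zpowers σ)
      (IsPGroup.to_le P.2 h.zpowers_le) l (1 : G)
      (by rw [orderOf_one]; norm_num)
    rw [← finsum_set_coe_eq_finsum_mem, finsum_eq_sum_of_fintype] at hs
    apply Int.cast_injective (α := ℂ)
    rw [Int.cast_sum, Int.cast_zero, ← hs]
    apply Finset.sum_congr rfl
    intro i _
    rw [hcf l i, ← charDegree_cast_of_isCharacter (IsIrrCharacter.isCharacter i.1.2), hdegdef]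
    push_cast
    rfl
  -- facts on the index set
  have hne1 : ∀ l : {l : ↥(Subgroup.zpowers σ) →* ℂˣ // l ≠ l⁻¹}, l.1 ≠ 1 := by
    intro l hl
    apply l.2
    rw [hl]
    exact hom_one_eq_inv
  -- the shifted vectors
  obtain ⟨x, hx⟩ : ∃ x : {l : ↥(Subgroup.zpowers σ) →* ℂˣ // l ≠ l⁻¹} →
      ↥(Cfsg.principalBlock M G) → ℤ, x = fun l i => cf l.1 i + if i = i₀ then 1 else 0 :=
    ⟨_, rfl⟩
  obtain ⟨x₀, hx₀⟩ : ∃ x₀ : ↥(Cfsg.principalBlock M G) → ℤ,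
      x₀ = fun i => cf l₀ i + if i = i₀ then 1 else 0 := ⟨_, rfl⟩
  have hG1 : ∀ l μ, Rel σ l μ → ∑ i, x l i * x μ i = 2 := by
    intro l μ hrel
    rw [hx]
    beta_reduce
    rw [sum_shift_mul, hgram l.1 μ.1 (hne1 l) (hne1 μ), hci₀ l.1 (hne1 l), hci₀ μ.1 (hne1 μ)]
    rcases hrel with hrel | hrel
    · rw [if_pos hrel.symm, if_neg (fun hh => l.2 (by
        have : l.1 = μ.1 := hrel.symm
        rw [this] at hh ⊢
        exact hh))]
      norm_num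
    · rw [if_neg (fun hh => l.2 (by
        rw [hh] at hrel
        rw [hh]
        exact hrel)), if_pos (by rw [hrel, hom_inv_inv])]
      norm_num
  have hG0 : ∀ l μ, ¬ Rel σ l μ → ∑ i, x l i * x μ i = 1 := by
    intro l μ hrel
    rw [hx]
    beta_reduce
    rw [sum_shift_mul, hgram l.1 μ.1 (hne1 l) (hne1 μ), hci₀ l.1 (hne1 l), hci₀ μ.1 (hne1 μ),
      if_neg (fun hh => hrel (Or.inl hh.symm)),
      if_neg (fun hh => hrel (Or.inr (by rw [hh, hom_inv_inv])))]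
    norm_num
  have h00 : ∑ i, x₀ i ^ 2 = 3 := by
    have : ∀ i, x₀ i ^ 2 = x₀ i * x₀ i := fun i => pow_two _
    rw [Finset.sum_congr rfl (fun i _ => this i), hx₀]
    beta_reduce
    rw [sum_shift_mul, hgram l₀ l₀ hl₀1 hl₀1, hci₀ l₀ hl₀1, if_pos rfl, if_pos hl₀]
    norm_num
  have h0l : ∀ l, ∑ i, x l i * x₀ i = 1 := by
    intro l
    rw [hx, hx₀]
    beta_reduce
    rw [sum_shift_mul, hgram l.1 l₀ (hne1 l) hl₀1, hci₀ l.1 (hne1 l), hci₀ l₀ hl₀1,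
      if_neg (fun hh => l.2 (by rw [hh]; exact hl₀)),
      if_neg (fun hh => l.2 (by rw [hh, hom_inv_inv]; exact hl₀.symm))]
    norm_num
  have hd : ∀ l, ∑ i, x l i * deg i = 1 := by
    intro l
    rw [hx]
    beta_reduce
    rw [sum_shift_mul_right, hdeg0, hdegi₀]
    norm_num
  have hd0 : ∑ i, x₀ i * deg i = 1 := by
    rw [hx₀]
    beta_reduce
    rw [sum_shift_mul_right, hdeg0, hdegi₀]
    norm_num
  have hne : Nonempty {l : ↥(Subgroup.zpowers σ) →* ℂˣ // l ≠ l⁻¹} :=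
    ⟨⟨psi σ hσo ζ hζ hN 1, psi_ne_inv σ hσo ζ hζ hN 1 (by omega) (by omega)⟩⟩
  obtain ⟨s, s₂, s₃, a, b, c, Θ, hs, hs₂, hs₃, hab, hac, hbc, hΘ, hΘR, hxl, hx0⟩ :=
    lattice (Rel σ) (rel_equivalence σ) x x₀ deg hdegpos hne hG1 hG0 h00 h0l hd hd0
      (exists_three_classes σ hσo ζ hζ hN h4)
  refine ⟨s, s₂, s₃, a.1, b.1, c.1, fun l => (Θ l).1, hs, hs₂, hs₃, a.2, b.2, c.2,
    fun l => (Θ l).2, fun hh => hab (Subtype.ext hh), fun hh => hac (Subtype.ext hh),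
    fun hh => hbc (Subtype.ext hh),
    fun l => ⟨fun hh => (hΘ l).1 (Subtype.ext hh), fun hh => (hΘ l).2.1 (Subtype.ext hh),
      fun hh => (hΘ l).2.2 (Subtype.ext hh)⟩, ?_, ?_, ?_⟩
  · intro l μ
    rw [← hΘR l μ]
    exact Subtype.ext_iff.symm
  · intro l χ hχ
    have h1 := hcf l.1 ⟨χ, hχ⟩
    have h2 := hxl l ⟨χ, hχ⟩
    rw [hx] at h2
    beta_reduce at h2
    have h3 : cf l.1 ⟨χ, hχ⟩ = s * (if (⟨χ, hχ⟩ : ↥(Cfsg.principalBlock M G)) = a then 1 else 0) -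
        s * (if (⟨χ, hχ⟩ : ↥(Cfsg.principalBlock M G)) = Θ l then 1 else 0) -
        (if (⟨χ, hχ⟩ : ↥(Cfsg.principalBlock M G)) = i₀ then 1 else 0) := by
      linarith
    have e1 : ((⟨χ, hχ⟩ : ↥(Cfsg.principalBlock M G)) = a) ↔ χ = a.1 := Subtype.ext_iff
    have e2 : ((⟨χ, hχ⟩ : ↥(Cfsg.principalBlock M G)) = Θ l) ↔ χ = (Θ l).1 := Subtype.ext_iff
    have e3 : ((⟨χ, hχ⟩ : ↥(Cfsg.principalBlock M G)) = i₀) ↔ χ = trivIrr G := by
      rw [hi₀]
      exact Subtype.ext_iff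
    simp only [e1, e2, e3] at h3
    simp only at h1
    rw [h1, h3]
  · intro χ hχ
    have h1 := hcf l₀ ⟨χ, hχ⟩
    have h2 := hx0 ⟨χ, hχ⟩
    rw [hx₀] at h2
    beta_reduce at h2
    have h3 : cf l₀ ⟨χ, hχ⟩ = s * (if (⟨χ, hχ⟩ : ↥(Cfsg.principalBlock M G)) = a then 1 else 0) +
        s₂ * (if (⟨χ, hχ⟩ : ↥(Cfsg.principalBlock M G)) = b then 1 else 0) +
        s₃ * (if (⟨χ, hχ⟩ : ↥(Cfsg.principalBlock M G)) = c then 1 else 0) -
        (if (⟨χ, hχ⟩ : ↥(Cfsg.principalBlock M G)) = i₀ then 1 else 0) := by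
      linarith
    have e1 : ((⟨χ, hχ⟩ : ↥(Cfsg.principalBlock M G)) = a) ↔ χ = a.1 := Subtype.ext_iff
    have e2 : ((⟨χ, hχ⟩ : ↥(Cfsg.principalBlock M G)) = b) ↔ χ = b.1 := Subtype.ext_iff
    have e4 : ((⟨χ, hχ⟩ : ↥(Cfsg.principalBlock M G)) = c) ↔ χ = c.1 := Subtype.ext_iff
    have e3 : ((⟨χ, hχ⟩ : ↥(Cfsg.principalBlock M G)) = i₀) ↔ χ = trivIrr G := by
      rw [hi₀]
      exact Subtype.ext_iff
    simp only [e1, e2, e3, e4] at h3
    simp only at h1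
    rw [h1, h3]

end Cfsg.Agent.Helper6.DihBr
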