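import Mathlib
import Cfsg.Prelude.Def_Characters
import Cfsg.Prelude.Def_Blocks
import Cfsg.Agent.Helper6.DihBrL
import Cfsg.Agent.Helper6.BLeoG
import Cfsg.Agent.Helper6.InducedPart

/-!
# Dihedral Sylow 2-subgroups: values of the characters of the principal block on `⟨σ⟩`
-/

set_option autoImplicit false
set_option linter.style.haveILetI false

namespace Cfsg.Agent.Helper6.DihBr

open scoped ComplexConjugate

universe u

variable {G : Type u} [Group G] {M : Ideal Cfsg.AlgInt}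

/-- A character of the principal `p`-block does not vanish at an element whose class has size
prime to `p`. -/
theorem apply_ne_zero_of_index_not_dvd [Finite G] {p : ℕ} [hp : Fact p.Prime]
    (hM : Cfsg.IsPModular p M) (χ : Cfsg.IrrCharacter G) (hχ : χ ∈ Cfsg.principalBlock M G)
    (z : G) (hz : ¬ p ∣ (Subgroup.centralizer ({z} : Set G)).index) : (χ : G → ℂ) z ≠ 0 := by
  intro h0
  apply hz
  have h1 : Cfsg.MemLocalIdeal M (Cfsg.centralChar (fun _ : G => (1 : ℂ)) z -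
      Cfsg.centralChar (χ : G → ℂ) z) := hχ z
  have h2 : Cfsg.centralChar (fun _ : G => (1 : ℂ)) z =
      ((Subgroup.centralizer ({z} : Set G)).index : ℂ) := by
    unfold Cfsg.centralChar
    simp
  have h3 : Cfsg.centralChar (χ : G → ℂ) z = 0 := by
    unfold Cfsg.centralChar
    rw [h0, mul_zero, zero_div]
  rw [h2, h3, sub_zero] at h1
  exact dvd_of_memLocalIdeal_natCast hM _ h1

/-- A character of the principal 2-block does not vanish at an involution of `⟨σ⟩`. -/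
theorem apply_involution_ne_zero [Finite G] (hM : Cfsg.IsPModular 2 M) (P : Sylow 2 G) {σ : G}
    {N : ℕ} (h : DihData (P : Subgroup G) σ N) (χ : Cfsg.IrrCharacter G)
    (hχ : χ ∈ Cfsg.principalBlock M G) (y : G) (hy : y ∈ Subgroup.zpowers σ)
    (hyy : y * y = 1) : (χ : G → ℂ) y ≠ 0 := by
  haveI : Fact (Nat.Prime 2) := ⟨Nat.prime_two⟩
  apply apply_ne_zero_of_index_not_dvd hM χ hχ
  intro hdvd
  have hle := le_centralizer_of_involution h y hy hyy
  exact P.not_dvd_index (hdvd.trans (Subgroup.index_dvd_of_le hle))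

variable [Finite G] (σ : G)

omit [Finite G] in
theorem zpowers_comm (a b : ↥(Subgroup.zpowers σ)) : a * b = b * a := by
  obtain ⟨k, hk⟩ := Subgroup.mem_zpowers_iff.mp a.2
  obtain ⟨l, hl⟩ := Subgroup.mem_zpowers_iff.mp b.2
  apply Subtype.ext
  rw [Subgroup.coe_mul, Subgroup.coe_mul, ← hk, ← hl, ← zpow_add, ← zpow_add, add_comm]

open Classical in
/-- A class function whose coefficients are constant `s` off the trivial character. -/
theorem value_of_coef_const (χ : G → ℂ) (s : ℂ)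
    (hc : ∀ ψ : ↥(Subgroup.zpowers σ) →* ℂˣ, ψ ≠ 1 → BLeo.coef (Subgroup.zpowers σ) χ ψ = s)
    (y : ↥(Subgroup.zpowers σ)) (hy : y ≠ 1) : χ (y : G) = -s := by
  haveI : Finite (↥(Subgroup.zpowers σ) →* ℂˣ) := finite_hom_units
  haveI : Fintype (↥(Subgroup.zpowers σ) →* ℂˣ) := Fintype.ofFinite _
  rw [BLeo.apply_eq_sum_coef (Subgroup.zpowers σ) (zpowers_comm σ) χ y hy]
  have h1 : ∀ ψ : ↥(Subgroup.zpowers σ) →* ℂˣ,
      BLeo.coef (Subgroup.zpowers σ) χ ψ * ((ψ y : ℂˣ) : ℂ) =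
        s * (if ψ = 1 then 0 else ((ψ y : ℂˣ) : ℂ)) := by
    intro ψ
    by_cases hψ : ψ = 1
    · rw [if_pos hψ, hψ, BLeo.coef_one]
      ring
    · rw [if_neg hψ, hc ψ hψ]
  rw [Finset.sum_congr rfl (fun ψ _ => h1 ψ), ← Finset.mul_sum,
    BLeo.sum_nontrivial_hom_apply (zpowers_comm σ) y hy]
  ring

open Classical in
/-- A class function with a single non-zero coefficient. -/
theorem value_of_coef_single (χ : G → ℂ) (s : ℂ) (l₀ : ↥(Subgroup.zpowers σ) →* ℂˣ)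
    (hc : ∀ ψ : ↥(Subgroup.zpowers σ) →* ℂˣ,
      BLeo.coef (Subgroup.zpowers σ) χ ψ = if ψ = l₀ then s else 0)
    (y : ↥(Subgroup.zpowers σ)) (hy : y ≠ 1) : χ (y : G) = s * ((l₀ y : ℂˣ) : ℂ) := by
  haveI : Finite (↥(Subgroup.zpowers σ) →* ℂˣ) := finite_hom_units
  haveI : Fintype (↥(Subgroup.zpowers σ) →* ℂˣ) := Fintype.ofFinite _
  rw [BLeo.apply_eq_sum_coef (Subgroup.zpowers σ) (zpowers_comm σ) χ y hy]
  have h1 : ∀ ψ : ↥(Subgroup.zpowers σ) →* ℂˣ,
      BLeo.coef (Subgroup.zpowers σ) χ ψ * ((ψ y : ℂˣ) : ℂ) =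
        if ψ = l₀ then s * ((l₀ y : ℂˣ) : ℂ) else 0 := by
    intro ψ
    rw [hc ψ]
    by_cases hψ : ψ = l₀
    · rw [if_pos hψ, if_pos hψ, hψ]
    · rw [if_neg hψ, if_neg hψ, zero_mul]
  rw [Finset.sum_congr rfl (fun ψ _ => h1 ψ), Finset.sum_ite_eq' Finset.univ l₀,
    if_pos (Finset.mem_univ l₀)]

open Classical in
/-- A class function with two equal non-zero coefficients at `l` and `l⁻¹`. -/
theorem value_of_coef_pair (χ : G → ℂ) (s : ℂ) (l : ↥(Subgroup.zpowers σ) →* ℂˣ) (hl : l ≠ l⁻¹)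
    (hc : ∀ ψ : ↥(Subgroup.zpowers σ) →* ℂˣ,
      BLeo.coef (Subgroup.zpowers σ) χ ψ = if (ψ = l ∨ ψ = l⁻¹) then s else 0)
    (y : ↥(Subgroup.zpowers σ)) (hy : y ≠ 1) :
    χ (y : G) = s * (((l y : ℂˣ) : ℂ) + ((l y : ℂˣ) : ℂ)⁻¹) := by
  haveI : Finite (↥(Subgroup.zpowers σ) →* ℂˣ) := finite_hom_units
  haveI : Fintype (↥(Subgroup.zpowers σ) →* ℂˣ) := Fintype.ofFinite _
  rw [BLeo.apply_eq_sum_coef (Subgroup.zpowers σ) (zpowers_comm σ) χ y hy]
  have h1 : ∀ ψ : ↥(Subgroup.zpowers σ) →* ℂˣ,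
      BLeo.coef (Subgroup.zpowers σ) χ ψ * ((ψ y : ℂˣ) : ℂ) =
        (if ψ = l then s * ((l y : ℂˣ) : ℂ) else 0) +
          (if ψ = l⁻¹ then s * ((l⁻¹ y : ℂˣ) : ℂ) else 0) := by
    intro ψ
    rw [hc ψ]
    by_cases hψ : ψ = l
    · rw [if_pos (Or.inl hψ), if_pos hψ, if_neg (fun hh => hl (hψ.symm.trans hh)), add_zero, hψ]
    · by_cases hψ' : ψ = l⁻¹
      · rw [if_pos (Or.inr hψ'), if_neg hψ, if_pos hψ', zero_add, hψ']
      · rw [if_neg (fun hh => hh.elim hψ hψ'), if_neg hψ, if_neg hψ', zero_mul, add_zero]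
  rw [Finset.sum_congr rfl (fun ψ _ => h1 ψ), Finset.sum_add_distrib,
    Finset.sum_ite_eq' Finset.univ l, Finset.sum_ite_eq' Finset.univ l⁻¹,
    if_pos (Finset.mem_univ l), if_pos (Finset.mem_univ l⁻¹), MonoidHom.inv_apply,
    Units.val_inv_eq_inv_val]
  ring

open Classical in
/-- A class function all of whose coefficients vanish. -/
theorem value_of_coef_zero (χ : G → ℂ)
    (hc : ∀ ψ : ↥(Subgroup.zpowers σ) →* ℂˣ, BLeo.coef (Subgroup.zpowers σ) χ ψ = 0)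
    (y : ↥(Subgroup.zpowers σ)) (hy : y ≠ 1) : χ (y : G) = 0 := by
  haveI : Finite (↥(Subgroup.zpowers σ) →* ℂˣ) := finite_hom_units
  haveI : Fintype (↥(Subgroup.zpowers σ) →* ℂˣ) := Fintype.ofFinite _
  rw [BLeo.apply_eq_sum_coef (Subgroup.zpowers σ) (zpowers_comm σ) χ y hy]
  apply Finset.sum_eq_zero
  intro ψ _
  rw [hc ψ, zero_mul]

end Cfsg.Agent.Helper6.DihBr
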