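import Mathlib
import Cfsg.Prelude.Def_Characters
import Cfsg.Prelude.Def_Blocks
import Cfsg.Agent.Helper6.DihBrM

/-!
# Dihedral Sylow 2-subgroups: the coefficient data and its first consequences
-/

set_option autoImplicit false
set_option linter.style.haveILetI false

namespace Cfsg.Agent.Helper6.DihBr

open scoped ComplexConjugate

universe u

variable {G : Type u} [Group G]

open Classical in
/-- The data describing the coefficient vectors of the principal block. -/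
structure CoefData (M : Ideal Cfsg.AlgInt) (σ : G) (l₀ : ↥(Subgroup.zpowers σ) →* ℂˣ)
    (s s₂ s₃ : ℤ) (a b c : Cfsg.IrrCharacter G)
    (Θ : {l : ↥(Subgroup.zpowers σ) →* ℂˣ // l ≠ l⁻¹} → Cfsg.IrrCharacter G) : Prop where
  hs : s = 1 ∨ s = -1
  hs₂ : s₂ = 1 ∨ s₂ = -1
  hs₃ : s₃ = 1 ∨ s₃ = -1
  ha : a ∈ Cfsg.principalBlock M G
  hb : b ∈ Cfsg.principalBlock M G
  hc : c ∈ Cfsg.principalBlock M G
  hΘmem : ∀ l, Θ l ∈ Cfsg.principalBlock M G
  hab : a ≠ b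
  hac : a ≠ c
  hbc : b ≠ c
  hΘ : ∀ l, Θ l ≠ a ∧ Θ l ≠ b ∧ Θ l ≠ c
  hΘR : ∀ l μ, Θ l = Θ μ ↔ Rel σ l μ
  coefΛ : ∀ l, ∀ χ ∈ Cfsg.principalBlock M G,
    BLeo.coef (Subgroup.zpowers σ) (χ : G → ℂ) l.1 =
      ((s * (if χ = a then 1 else 0) - s * (if χ = Θ l then 1 else 0) -
        (if χ = trivIrr G then 1 else 0) : ℤ) : ℂ)
  coef₀ : ∀ χ ∈ Cfsg.principalBlock M G,
    BLeo.coef (Subgroup.zpowers σ) (χ : G → ℂ) l₀ =
      ((s * (if χ = a then 1 else 0) + s₂ * (if χ = b then 1 else 0) +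
        s₃ * (if χ = c then 1 else 0) - (if χ = trivIrr G then 1 else 0) : ℤ) : ℂ)

variable {M : Ideal Cfsg.AlgInt}

open Classical in
theorem exists_coefData [Finite G] (hM : Cfsg.IsPModular 2 M) (P : Sylow 2 G) {σ : G} {N : ℕ}
    (h4 : 4 ∣ N) (hN : N ≠ 0) (e : Nonempty (↥(P : Subgroup G) ≃* DihedralGroup N))
    (h : DihData (P : Subgroup G) σ N) (ζ : ℂ) (hζ : IsPrimitiveRoot ζ N)
    (l₀ : ↥(Subgroup.zpowers σ) →* ℂˣ) (hl₀1 : l₀ ≠ 1) (hl₀ : l₀ = l₀⁻¹) :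
    ∃ (s s₂ s₃ : ℤ) (a b c : Cfsg.IrrCharacter G)
      (Θ : {l : ↥(Subgroup.zpowers σ) →* ℂˣ // l ≠ l⁻¹} → Cfsg.IrrCharacter G),
      CoefData M σ l₀ s s₂ s₃ a b c Θ := by
  obtain ⟨s, s₂, s₃, a, b, c, Θ, h1, h2, h3, h4', h5, h6, h7, h8, h9, h10, h11, h12, h13, h14⟩ :=
    coef_structure hM P h4 hN e h ζ hζ l₀ hl₀1 hl₀
  exact ⟨s, s₂, s₃, a, b, c, Θ, ⟨h1, h2, h3, h4', h5, h6, h7, h8, h9, h10, h11, h12, h13, h14⟩⟩

namespace CoefData

variable {σ : G} {l₀ : ↥(Subgroup.zpowers σ) →* ℂˣ} {s s₂ s₃ : ℤ} {a b c : Cfsg.IrrCharacter G}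
  {Θ : {l : ↥(Subgroup.zpowers σ) →* ℂˣ // l ≠ l⁻¹} → Cfsg.IrrCharacter G}

theorem s_ne_zero (D : CoefData M σ l₀ s s₂ s₃ a b c Θ) : s ≠ 0 := by
  rcases D.hs with h | h <;> rw [h] <;> norm_num

theorem triv_coef [Finite G] (ψ : ↥(Subgroup.zpowers σ) →* ℂˣ) (hψ : ψ ≠ 1) :
    BLeo.coef (Subgroup.zpowers σ) ((trivIrr G : Cfsg.IrrCharacter G) : G → ℂ) ψ = -1 :=
  BLeo.coef_triv (Subgroup.zpowers σ) ψ hψ

theorem lam_ne_one (l : {l : ↥(Subgroup.zpowers σ) →* ℂˣ // l ≠ l⁻¹}) : l.1 ≠ 1 := by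
  intro hl
  apply l.2
  rw [hl]
  exact hom_one_eq_inv

open Classical in
/-- The petals are not the trivial character. -/
theorem theta_ne_triv [Finite G] (hM : M.IsMaximal) (D : CoefData M σ l₀ s s₂ s₃ a b c Θ)
    (l : {l : ↥(Subgroup.zpowers σ) →* ℂˣ // l ≠ l⁻¹}) :
    Θ l ≠ trivIrr G ∧ a ≠ trivIrr G := by
  have h1 := D.coefΛ l (trivIrr G) (trivIrr_mem_principalBlock hM)
  rw [triv_coef l.1 (lam_ne_one l), if_pos rfl] at h1
  have h2 : (-1 : ℤ) = s * (if trivIrr G = a then 1 else 0) -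
      s * (if trivIrr G = Θ l then 1 else 0) - 1 := by exact_mod_cast h1
  have hs := D.s_ne_zero
  by_cases hta : trivIrr G = a
  · exfalso
    rw [if_pos hta, if_neg (fun hh => (D.hΘ l).1 (hh.symm.trans hta))] at h2
    apply hs
    linarith
  · by_cases htΘ : trivIrr G = Θ l
    · exfalso
      rw [if_neg hta, if_pos htΘ] at h2
      apply hs
      linarith
    · exact ⟨fun hh => htΘ hh.symm, fun hh => hta hh.symm⟩

open Classical in
/-- `b` and `c` are not the trivial character. -/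
theorem b_ne_triv [Finite G] (hM : M.IsMaximal) (D : CoefData M σ l₀ s s₂ s₃ a b c Θ)
    (hl₀1 : l₀ ≠ 1) (hat : a ≠ trivIrr G) : b ≠ trivIrr G ∧ c ≠ trivIrr G := by
  have h1 := D.coef₀ (trivIrr G) (trivIrr_mem_principalBlock hM)
  rw [triv_coef l₀ hl₀1, if_pos rfl, if_neg (fun hh => hat hh.symm)] at h1
  have h2 : (-1 : ℤ) = s * 0 + s₂ * (if trivIrr G = b then 1 else 0) +
      s₃ * (if trivIrr G = c then 1 else 0) - 1 := by exact_mod_cast h1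
  have hs₂ : s₂ ≠ 0 := by rcases D.hs₂ with h | h <;> rw [h] <;> norm_num
  have hs₃ : s₃ ≠ 0 := by rcases D.hs₃ with h | h <;> rw [h] <;> norm_num
  constructor
  · intro hb
    rw [if_pos hb.symm, if_neg (fun hh => D.hbc (hb.trans hh))] at h2
    apply hs₂
    linarith
  · intro hc
    rw [if_pos hc.symm, if_neg (fun hh => D.hbc (hh.symm.trans hc.symm))] at h2
    apply hs₃
    linarith

end CoefData

end Cfsg.Agent.Helper6.DihBr
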