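import Mathlib
import Cfsg.Prelude.Def_Characters
import Cfsg.Prelude.Def_Blocks
import Cfsg.Agent.Helper6.DihBrN

/-!
# Dihedral Sylow 2-subgroups: closed forms for the coefficients
-/

set_option autoImplicit false
set_option linter.style.haveILetI false

namespace Cfsg.Agent.Helper6.DihBr

open scoped ComplexConjugate

universe u

variable {G : Type u} [Group G] {M : Ideal Cfsg.AlgInt}

namespace CoefData

variable {σ : G} {l₀ : ↥(Subgroup.zpowers σ) →* ℂˣ} {s s₂ s₃ : ℤ} {a b c : Cfsg.IrrCharacter G}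
  {Θ : {l : ↥(Subgroup.zpowers σ) →* ℂˣ // l ≠ l⁻¹} → Cfsg.IrrCharacter G}

/-- The three kinds of linear characters. -/
theorem hom_cases (huniq : ∀ ψ : ↥(Subgroup.zpowers σ) →* ℂˣ, ψ ≠ 1 → ψ = ψ⁻¹ → ψ = l₀)
    (ψ : ↥(Subgroup.zpowers σ) →* ℂˣ) : ψ = 1 ∨ ψ = l₀ ∨ ψ ≠ ψ⁻¹ := by
  by_cases h1 : ψ = 1
  · exact Or.inl h1
  · by_cases h2 : ψ = ψ⁻¹
    · exact Or.inr (Or.inl (huniq ψ h1 h2))
    · exact Or.inr (Or.inr h2)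

open Classical in
theorem coef_a [Finite G] (D : CoefData M σ l₀ s s₂ s₃ a b c Θ)
    (hat : a ≠ trivIrr G)
    (huniq : ∀ ψ : ↥(Subgroup.zpowers σ) →* ℂˣ, ψ ≠ 1 → ψ = ψ⁻¹ → ψ = l₀)
    (ψ : ↥(Subgroup.zpowers σ) →* ℂˣ) (hψ : ψ ≠ 1) :
    BLeo.coef (Subgroup.zpowers σ) (a : G → ℂ) ψ = (s : ℂ) := by
  rcases hom_cases huniq ψ with h | h | h
  · exact absurd h hψ
  · rw [h, D.coef₀ a D.ha, if_pos rfl, if_neg D.hab, if_neg D.hac, if_neg hat]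
    push_cast
    ring
  · rw [show ψ = (⟨ψ, h⟩ : {l : ↥(Subgroup.zpowers σ) →* ℂˣ // l ≠ l⁻¹}).1 from rfl,
      D.coefΛ ⟨ψ, h⟩ a D.ha, if_pos rfl, if_neg (fun hh => (D.hΘ ⟨ψ, h⟩).1 hh.symm), if_neg hat]
    push_cast
    ring

open Classical in
theorem coef_b [Finite G] (D : CoefData M σ l₀ s s₂ s₃ a b c Θ)
    (hbt : b ≠ trivIrr G)
    (huniq : ∀ ψ : ↥(Subgroup.zpowers σ) →* ℂˣ, ψ ≠ 1 → ψ = ψ⁻¹ → ψ = l₀) (hl₀ : l₀ = l₀⁻¹)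
    (hl₀1 : l₀ ≠ 1) (ψ : ↥(Subgroup.zpowers σ) →* ℂˣ) :
    BLeo.coef (Subgroup.zpowers σ) (b : G → ℂ) ψ = if ψ = l₀ then (s₂ : ℂ) else 0 := by
  rcases hom_cases huniq ψ with h | h | h
  · rw [h, BLeo.coef_one, if_neg (fun hh => hl₀1 hh.symm)]
  · rw [if_pos h, h, D.coef₀ b D.hb, if_neg (fun hh => D.hab hh.symm), if_pos rfl, if_neg D.hbc,
      if_neg hbt]
    push_cast
    ring
  · rw [if_neg (fun hh => h (by rw [hh]; exact hl₀)),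
      show ψ = (⟨ψ, h⟩ : {l : ↥(Subgroup.zpowers σ) →* ℂˣ // l ≠ l⁻¹}).1 from rfl,
      D.coefΛ ⟨ψ, h⟩ b D.hb, if_neg (fun hh => D.hab hh.symm),
      if_neg (fun hh => (D.hΘ ⟨ψ, h⟩).2.1 hh.symm), if_neg hbt]
    push_cast
    ring

open Classical in
theorem coef_c [Finite G] (D : CoefData M σ l₀ s s₂ s₃ a b c Θ)
    (hct : c ≠ trivIrr G)
    (huniq : ∀ ψ : ↥(Subgroup.zpowers σ) →* ℂˣ, ψ ≠ 1 → ψ = ψ⁻¹ → ψ = l₀) (hl₀ : l₀ = l₀⁻¹)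
    (hl₀1 : l₀ ≠ 1) (ψ : ↥(Subgroup.zpowers σ) →* ℂˣ) :
    BLeo.coef (Subgroup.zpowers σ) (c : G → ℂ) ψ = if ψ = l₀ then (s₃ : ℂ) else 0 := by
  rcases hom_cases huniq ψ with h | h | h
  · rw [h, BLeo.coef_one, if_neg (fun hh => hl₀1 hh.symm)]
  · rw [if_pos h, h, D.coef₀ c D.hc, if_neg (fun hh => D.hac hh.symm),
      if_neg (fun hh => D.hbc hh.symm), if_pos rfl, if_neg hct]
    push_cast
    ring
  · rw [if_neg (fun hh => h (by rw [hh]; exact hl₀)),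
      show ψ = (⟨ψ, h⟩ : {l : ↥(Subgroup.zpowers σ) →* ℂˣ // l ≠ l⁻¹}).1 from rfl,
      D.coefΛ ⟨ψ, h⟩ c D.hc, if_neg (fun hh => D.hac hh.symm),
      if_neg (fun hh => (D.hΘ ⟨ψ, h⟩).2.2 hh.symm), if_neg hct]
    push_cast
    ring

open Classical in
theorem coef_theta [Finite G] (hM : M.IsMaximal) (D : CoefData M σ l₀ s s₂ s₃ a b c Θ)
    (huniq : ∀ ψ : ↥(Subgroup.zpowers σ) →* ℂˣ, ψ ≠ 1 → ψ = ψ⁻¹ → ψ = l₀) (hl₀ : l₀ = l₀⁻¹)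
    (l : {l : ↥(Subgroup.zpowers σ) →* ℂˣ // l ≠ l⁻¹}) (ψ : ↥(Subgroup.zpowers σ) →* ℂˣ) :
    BLeo.coef (Subgroup.zpowers σ) (Θ l : G → ℂ) ψ =
      if (ψ = l.1 ∨ ψ = l.1⁻¹) then (-s : ℂ) else 0 := by
  have hlt := (D.theta_ne_triv hM l).1
  rcases hom_cases huniq ψ with h | h | h
  · rw [h, BLeo.coef_one, if_neg]
    rintro (hh | hh)
    · exact lam_ne_one l hh.symm
    · apply lam_ne_one l
      rw [← hom_inv_inv l.1, ← hh]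
      exact hom_one_eq_inv.symm
  · rw [h, D.coef₀ (Θ l) (D.hΘmem l), if_neg (D.hΘ l).1, if_neg (D.hΘ l).2.1,
      if_neg (D.hΘ l).2.2, if_neg hlt, if_neg]
    · push_cast
      ring
    · rintro (hh | hh)
      · apply l.2
        rw [← hh]
        exact hl₀
      · apply l.2
        have h5 : l.1 = l₀ := by
          rw [← hom_inv_inv l.1, ← hh]
          exact hl₀.symm
        rw [h5]
        exact hl₀
  · rw [show ψ = (⟨ψ, h⟩ : {l : ↥(Subgroup.zpowers σ) →* ℂˣ // l ≠ l⁻¹}).1 from rfl,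
      D.coefΛ ⟨ψ, h⟩ (Θ l) (D.hΘmem l), if_neg (D.hΘ l).1, if_neg hlt]
    by_cases hrel : Rel σ l ⟨ψ, h⟩
    · have hrel' := hrel
      unfold Rel at hrel'
      rw [if_pos ((D.hΘR l ⟨ψ, h⟩).mpr hrel), if_pos hrel']
      push_cast
      ring
    · have hrel' := hrel
      unfold Rel at hrel'
      rw [if_neg (fun hh => hrel ((D.hΘR l ⟨ψ, h⟩).mp hh)), if_neg hrel']
      push_cast
      ring

open Classical in
theorem coef_other [Finite G] (D : CoefData M σ l₀ s s₂ s₃ a b c Θ)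
    (huniq : ∀ ψ : ↥(Subgroup.zpowers σ) →* ℂˣ, ψ ≠ 1 → ψ = ψ⁻¹ → ψ = l₀)
    (χ : Cfsg.IrrCharacter G) (hχ : χ ∈ Cfsg.principalBlock M G) (h1 : χ ≠ trivIrr G)
    (h2 : χ ≠ a) (h3 : χ ≠ b) (h4 : χ ≠ c) (h5 : ∀ l, χ ≠ Θ l)
    (ψ : ↥(Subgroup.zpowers σ) →* ℂˣ) :
    BLeo.coef (Subgroup.zpowers σ) (χ : G → ℂ) ψ = 0 := by
  rcases hom_cases huniq ψ with h | h | h
  · rw [h, BLeo.coef_one]
  · rw [h, D.coef₀ χ hχ, if_neg h2, if_neg h3, if_neg h4, if_neg h1]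
    push_cast
    ring
  · rw [show ψ = (⟨ψ, h⟩ : {l : ↥(Subgroup.zpowers σ) →* ℂˣ // l ≠ l⁻¹}).1 from rfl,
      D.coefΛ ⟨ψ, h⟩ χ hχ, if_neg h2, if_neg (h5 ⟨ψ, h⟩), if_neg h1]
    push_cast
    ring

end CoefData

end Cfsg.Agent.Helper6.DihBr
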