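import Mathlib
import Cfsg.Prelude.Def_Characters
import Cfsg.Prelude.Def_Blocks
import Cfsg.Agent.Helper6.DihBrO
import Cfsg.Agent.Helper6.DadeIso

/-!
# Dihedral Sylow 2-subgroups: membership in the principal block and the relations on elements of
odd order
-/

set_option autoImplicit false
set_option linter.style.haveILetI false

namespace Cfsg.Agent.Helper6.DihBr

open scoped ComplexConjugate

universe u

variable {G : Type u} [Group G] {M : Ideal Cfsg.AlgInt}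

theorem finsum_mem_shape1 {ι : Type*} [Fintype ι] [DecidableEq ι] (B : Set ι) (p₁ p₂ p₃ : ι) (h₁ : p₁ ∈ B)
    (h₂ : p₂ ∈ B) (h₃ : p₃ ∈ B) (z : ℤ) (f : ι → ℂ) :
    ∑ᶠ χ ∈ B, ((z * (if χ = p₁ then 1 else 0) - z * (if χ = p₂ then 1 else 0) -
      (if χ = p₃ then 1 else 0) : ℤ) : ℂ) * f χ = z * f p₁ - z * f p₂ - f p₃ := by
  classical
  rw [finsum_mem_eq_sum_ite]
  have h : ∀ χ : ι, (if χ ∈ B then ((z * (if χ = p₁ then 1 else 0) -
      z * (if χ = p₂ then 1 else 0) - (if χ = p₃ then 1 else 0) : ℤ) : ℂ) * f χ else 0) =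
      (if χ = p₁ then (z : ℂ) * f p₁ else 0) - (if χ = p₂ then (z : ℂ) * f p₂ else 0) -
        (if χ = p₃ then f p₃ else 0) := by
    intro χ
    by_cases hχ : χ ∈ B
    · rw [if_pos hχ]
      push_cast
      split_ifs <;> subst_vars <;> ring
    · rw [if_neg hχ, if_neg (fun hh : χ = p₁ => hχ (by rw [hh]; exact h₁)),
        if_neg (fun hh : χ = p₂ => hχ (by rw [hh]; exact h₂)),
        if_neg (fun hh : χ = p₃ => hχ (by rw [hh]; exact h₃))]
      ring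
  rw [Finset.sum_congr rfl (fun χ _ => h χ), Finset.sum_sub_distrib, Finset.sum_sub_distrib]
  simp only [Finset.sum_ite_eq', Finset.mem_univ, if_true]

theorem finsum_mem_shape2 {ι : Type*} [Fintype ι] [DecidableEq ι] (B : Set ι) (p₁ p₂ p₃ p₄ : ι) (h₁ : p₁ ∈ B)
    (h₂ : p₂ ∈ B) (h₃ : p₃ ∈ B) (h₄ : p₄ ∈ B) (z₁ z₂ z₃ : ℤ) (f : ι → ℂ) :
    ∑ᶠ χ ∈ B, ((z₁ * (if χ = p₁ then 1 else 0) + z₂ * (if χ = p₂ then 1 else 0) +
      z₃ * (if χ = p₃ then 1 else 0) - (if χ = p₄ then 1 else 0) : ℤ) : ℂ) * f χ =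
      z₁ * f p₁ + z₂ * f p₂ + z₃ * f p₃ - f p₄ := by
  classical
  rw [finsum_mem_eq_sum_ite]
  have h : ∀ χ : ι, (if χ ∈ B then ((z₁ * (if χ = p₁ then 1 else 0) +
      z₂ * (if χ = p₂ then 1 else 0) + z₃ * (if χ = p₃ then 1 else 0) -
      (if χ = p₄ then 1 else 0) : ℤ) : ℂ) * f χ else 0) =
      (if χ = p₁ then (z₁ : ℂ) * f p₁ else 0) + (if χ = p₂ then (z₂ : ℂ) * f p₂ else 0) +
        (if χ = p₃ then (z₃ : ℂ) * f p₃ else 0) - (if χ = p₄ then f p₄ else 0) := by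
    intro χ
    by_cases hχ : χ ∈ B
    · rw [if_pos hχ]
      push_cast
      split_ifs <;> subst_vars <;> ring
    · rw [if_neg hχ, if_neg (fun hh : χ = p₁ => hχ (by rw [hh]; exact h₁)),
        if_neg (fun hh : χ = p₂ => hχ (by rw [hh]; exact h₂)),
        if_neg (fun hh : χ = p₃ => hχ (by rw [hh]; exact h₃)),
        if_neg (fun hh : χ = p₄ => hχ (by rw [hh]; exact h₄))]
      ring
  rw [Finset.sum_congr rfl (fun χ _ => h χ), Finset.sum_sub_distrib, Finset.sum_add_distrib,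
    Finset.sum_add_distrib]
  simp only [Finset.sum_ite_eq', Finset.mem_univ, if_true]

/-- The involution of `⟨σ⟩`. -/
theorem exists_involution {σ : G} {N : ℕ} (hσo : orderOf σ = N) (h2 : 2 ∣ N) (hN : N ≠ 0) :
    ∃ y ∈ Subgroup.zpowers σ, y ≠ 1 ∧ y * y = 1 := by
  refine ⟨σ ^ (N / 2), Subgroup.pow_mem _ (Subgroup.mem_zpowers σ) _, ?_, ?_⟩
  · intro h
    have h1 := orderOf_dvd_of_pow_eq_one h
    rw [hσo] at h1
    have := Nat.le_of_dvd (by omega) h1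
    omega
  · rw [← pow_add]
    have : N / 2 + N / 2 = N := by omega
    rw [this, ← hσo, pow_orderOf_eq_one]

namespace CoefData

variable {σ : G} {l₀ : ↥(Subgroup.zpowers σ) →* ℂˣ} {s s₂ s₃ : ℤ} {a b c : Cfsg.IrrCharacter G}
  {Θ : {l : ↥(Subgroup.zpowers σ) →* ℂˣ // l ≠ l⁻¹} → Cfsg.IrrCharacter G}

/-- The principal block consists of the trivial character, `a`, `b`, `c` and the petals. -/
theorem mem_cases [Finite G] (hM : Cfsg.IsPModular 2 M) (P : Sylow 2 G) {N : ℕ}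
    (h : DihData (P : Subgroup G) σ N) (h2 : 2 ∣ N) (hN : N ≠ 0)
    (D : CoefData M σ l₀ s s₂ s₃ a b c Θ)
    (huniq : ∀ ψ : ↥(Subgroup.zpowers σ) →* ℂˣ, ψ ≠ 1 → ψ = ψ⁻¹ → ψ = l₀)
    (χ : Cfsg.IrrCharacter G) (hχ : χ ∈ Cfsg.principalBlock M G) :
    χ = trivIrr G ∨ χ = a ∨ χ = b ∨ χ = c ∨ ∃ l, χ = Θ l := by
  by_contra hcon
  simp only [not_or, not_exists] at hcon
  obtain ⟨h1, h2', h3, h4, h5⟩ := hcon
  obtain ⟨y, hy, hy1, hyy⟩ := exists_involution h.order h2 hN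
  have hv := value_of_coef_zero σ (χ : G → ℂ)
    (D.coef_other huniq χ hχ h1 h2' h3 h4 h5) ⟨y, hy⟩ (fun hh => hy1 (congrArg Subtype.val hh))
  exact apply_involution_ne_zero hM P h χ hχ y hy hyy hv

open Classical in
/-- The relation on elements of odd order attached to a petal. -/
theorem odd_relation_theta [Finite G] (hM : Cfsg.IsPModular 2 M) (P : Sylow 2 G) {N : ℕ}
    (h : DihData (P : Subgroup G) σ N) (D : CoefData M σ l₀ s s₂ s₃ a b c Θ)
    (l : {l : ↥(Subgroup.zpowers σ) →* ℂˣ // l ≠ l⁻¹}) (ρ : G) (hρ : ¬ 2 ∣ orderOf ρ) :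
    (s : ℂ) * (a : G → ℂ) ρ - (s : ℂ) * (Θ l : G → ℂ) ρ - 1 = 0 := by
  haveI : Fact (Nat.Prime 2) := ⟨Nat.prime_two⟩
  haveI : Finite (Cfsg.IrrCharacter G) := irr_finite
  haveI : Fintype (Cfsg.IrrCharacter G) := Fintype.ofFinite _
  have hs := BLeo.sum_coef_mul_regular hM (Subgroup.zpowers σ)
    (IsPGroup.to_le P.2 h.zpowers_le) l.1 ρ hρ
  rw [finsum_mem_congr rfl (fun χ hχ => by rw [D.coefΛ l χ hχ])] at hs
  have key := finsum_mem_shape1 (Cfsg.principalBlock M G) a (Θ l) (trivIrr G) D.ha (D.hΘmem l)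
    (trivIrr_mem_principalBlock hM.2.1) s (fun χ => (χ : G → ℂ) ρ)
  exact key.symm.trans hs

open Classical in
/-- The relation on elements of odd order attached to `l₀`. -/
theorem odd_relation_zero [Finite G] (hM : Cfsg.IsPModular 2 M) (P : Sylow 2 G) {N : ℕ}
    (h : DihData (P : Subgroup G) σ N) (D : CoefData M σ l₀ s s₂ s₃ a b c Θ)
    (ρ : G) (hρ : ¬ 2 ∣ orderOf ρ) :
    (s : ℂ) * (a : G → ℂ) ρ + (s₂ : ℂ) * (b : G → ℂ) ρ + (s₃ : ℂ) * (c : G → ℂ) ρ - 1 = 0 := by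
  haveI : Fact (Nat.Prime 2) := ⟨Nat.prime_two⟩
  haveI : Finite (Cfsg.IrrCharacter G) := irr_finite
  haveI : Fintype (Cfsg.IrrCharacter G) := Fintype.ofFinite _
  have hs := BLeo.sum_coef_mul_regular hM (Subgroup.zpowers σ)
    (IsPGroup.to_le P.2 h.zpowers_le) l₀ ρ hρ
  rw [finsum_mem_congr rfl (fun χ hχ => by rw [D.coef₀ χ hχ])] at hs
  have key := finsum_mem_shape2 (Cfsg.principalBlock M G) a b c (trivIrr G) D.ha D.hb D.hc
    (trivIrr_mem_principalBlock hM.2.1) s s₂ s₃ (fun χ => (χ : G → ℂ) ρ)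
  exact key.symm.trans hs

end CoefData

end Cfsg.Agent.Helper6.DihBr
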