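import Mathlib
import Cfsg.Prelude.Def_Characters
import Cfsg.Prelude.Def_Blocks
import Cfsg.Agent.Helper6.DihBrP

/-!
# Brauer's theorem on the principal 2-block of a group with dihedral Sylow 2-subgroups
-/

set_option autoImplicit false
set_option linter.style.haveILetI false

namespace Cfsg.Agent.Helper6.DihBr

open scoped ComplexConjugate

universe u

variable {G : Type u} [Group G] {M : Ideal Cfsg.AlgInt}

theorem coe_ne_one_of_ne_trivIrr {χ : Cfsg.IrrCharacter G} (h : χ ≠ trivIrr G) :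
    (χ : G → ℂ) ≠ (fun _ => 1) := by
  intro hh
  apply h
  apply Subtype.ext
  exact hh

theorem eq_trivIrr_of_coe_eq_one {χ : Cfsg.IrrCharacter G} (h : (χ : G → ℂ) = (fun _ => 1)) :
    χ = trivIrr G := by
  apply Subtype.ext
  exact h

theorem pow_ne_one_of_lt {σ : G} {N : ℕ} (hσo : orderOf σ = N) (l : ℕ) (hl0 : 0 < l)
    (hl : l < N) : σ ^ l ≠ 1 := by
  intro h
  have h1 := orderOf_dvd_of_pow_eq_one h
  rw [hσo] at h1
  have := Nat.le_of_dvd hl0 h1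
  omega

theorem root_pow_half {N H : ℕ} (hNH : N = 2 * H) (hH0 : H ≠ 0) (ζ : ℂ)
    (hζ : IsPrimitiveRoot ζ N) : ζ ^ H = -1 := by
  have h1 := hζ.pow_of_dvd hH0 (by rw [hNH]; exact Dvd.intro_left 2 rfl)
  have h2 : N / H = 2 := by
    rw [hNH]
    exact Nat.mul_div_cancel 2 (Nat.pos_of_ne_zero hH0)
  rw [h2] at h1
  exact h1.eq_neg_one_of_two_right

open Classical in
/-- **Brauer**: the principal 2-block of a group with dihedral Sylow 2-subgroups. -/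
theorem main [Finite G] (hM : Cfsg.IsPModular 2 M) (P : Sylow 2 G) (σ : G) (N H : ℕ)
    (hNH : N = 2 * H) (hH2 : 2 ∣ H) (hH0 : H ≠ 0)
    (e : Nonempty (↥(P : Subgroup G) ≃* DihedralGroup N)) (hσ : σ ∈ (P : Subgroup G))
    (hσo : orderOf σ = N) (ζ : ℂ) (hζ : IsPrimitiveRoot ζ N) :
    Nat.card (Cfsg.principalBlock M G) = 3 + H ∧
    ∃ (χ₁ χ₂ χ₃ : Cfsg.IrrCharacter G) (χ' : Fin (H - 1) → Cfsg.IrrCharacter G)
      (δ₁ δ₂ δ₃ : ℤ), (δ₁ = 1 ∨ δ₁ = -1) ∧ (δ₂ = 1 ∨ δ₂ = -1) ∧ (δ₃ = 1 ∨ δ₃ = -1) ∧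
      Function.Injective χ' ∧ (χ₁ : G → ℂ) ≠ (fun _ => 1) ∧ (χ₂ : G → ℂ) ≠ (fun _ => 1) ∧
      (χ₃ : G → ℂ) ≠ (fun _ => 1) ∧ χ₁ ≠ χ₂ ∧ χ₁ ≠ χ₃ ∧ χ₂ ≠ χ₃ ∧
      (∀ j, χ' j ≠ χ₁ ∧ χ' j ≠ χ₂ ∧ χ' j ≠ χ₃ ∧ (χ' j : G → ℂ) ≠ (fun _ => 1)) ∧
      Cfsg.principalBlock M G = {χ : Cfsg.IrrCharacter G | (χ : G → ℂ) = (fun _ => 1) ∨
        χ = χ₁ ∨ χ = χ₂ ∨ χ = χ₃ ∨ ∃ j, χ = χ' j} ∧
      (∀ l : ℕ, 0 < l → l < N → (χ₁ : G → ℂ) (σ ^ l) = δ₁ ∧
        (χ₂ : G → ℂ) (σ ^ l) = δ₂ * (-1) ^ (l + 1) ∧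
        (χ₃ : G → ℂ) (σ ^ l) = δ₃ * (-1) ^ (l + 1) ∧
        ∀ j : Fin (H - 1), (χ' j : G → ℂ) (σ ^ l) =
          δ₁ * (ζ ^ (((j : ℕ) + 1) * l) + (ζ ^ (((j : ℕ) + 1) * l))⁻¹)) ∧
      ∀ ρ : G, Odd (orderOf ρ) → ∀ j : Fin (H - 1),
        1 + δ₁ * (χ₁ : G → ℂ) ρ = -δ₂ * (χ₂ : G → ℂ) ρ - δ₃ * (χ₃ : G → ℂ) ρ ∧
        1 + δ₁ * (χ₁ : G → ℂ) ρ = δ₁ * (χ' j : G → ℂ) ρ := by
  haveI : Finite (Cfsg.IrrCharacter G) := irr_finite
  have hN : N ≠ 0 := by omega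
  have h4 : 4 ∣ N := by
    obtain ⟨m, hm⟩ := hH2
    exact ⟨m, by omega⟩
  have h2N : 2 ∣ N := ⟨H, hNH⟩
  have hN3 : 3 ≤ N := by
    obtain ⟨m, hm⟩ := h4
    omega
  have hNH2 : N / 2 = H := by omega
  have h := dihData_of_equiv (P : Subgroup G) σ N hN3 (Classical.choice e) hσ hσo
  -- the special character
  obtain ⟨l₀, hl₀def⟩ : ∃ l₀ : ↥(Subgroup.zpowers σ) →* ℂˣ, l₀ = psi σ hσo ζ hζ hN (N / 2) :=
    ⟨_, rfl⟩
  have hl₀1 : l₀ ≠ 1 := by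
    rw [hl₀def]
    exact psi_half_ne_one σ hσo ζ hζ hN h2N
  have hl₀ : l₀ = l₀⁻¹ := by
    rw [hl₀def]
    exact psi_half_inv σ hσo ζ hζ hN h2N
  have huniq : ∀ ψ : ↥(Subgroup.zpowers σ) →* ℂˣ, ψ ≠ 1 → ψ = ψ⁻¹ → ψ = l₀ := by
    intro ψ h1 h2
    rw [hl₀def]
    exact eq_psi_half σ hσo ζ hζ hN ψ h1 h2
  obtain ⟨s, s₂, s₃, a, b, c, Θ, D⟩ := exists_coefData hM P h4 hN e h ζ hζ l₀ hl₀1 hl₀
  -- the indexing of the petals
  have hjlt : ∀ j : Fin (H - 1), 2 * ((j : ℕ) + 1) < N := by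
    intro j
    have := j.2
    omega
  obtain ⟨L, hL⟩ : ∃ L : Fin (H - 1) → {l : ↥(Subgroup.zpowers σ) →* ℂˣ // l ≠ l⁻¹},
      ∀ j, (L j).1 = psi σ hσo ζ hζ hN ((j : ℕ) + 1) :=
    ⟨fun j => ⟨psi σ hσo ζ hζ hN ((j : ℕ) + 1),
      psi_ne_inv σ hσo ζ hζ hN ((j : ℕ) + 1) (by omega) (hjlt j)⟩, fun j => rfl⟩
  have hLrel : ∀ j j' : Fin (H - 1), Rel σ (L j) (L j') → j = j' := by
    intro j j' hrel
    by_contra hne
    apply psi_not_rel σ hσo ζ hζ hN ((j : ℕ) + 1) ((j' : ℕ) + 1) (by omega) (hjlt j) (by omega)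
      (hjlt j') (fun hh => hne (Fin.ext (by omega)))
    unfold Rel at hrel
    rw [hL j, hL j'] at hrel
    exact hrel
  have hLex : ∀ l : {l : ↥(Subgroup.zpowers σ) →* ℂˣ // l ≠ l⁻¹}, ∃ j, Rel σ (L j) l := by
    intro l
    obtain ⟨i, hi0, hi, hli⟩ := exists_rel_psi σ hσo ζ hζ hN l.1 l.2
    refine ⟨⟨i - 1, by omega⟩, ?_⟩
    unfold Rel
    rw [hL]
    have : ((⟨i - 1, by omega⟩ : Fin (H - 1)) : ℕ) + 1 = i := by
      simp only
      omega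
    rw [this]
    exact hli
  -- first consequences
  have hne : Nonempty {l : ↥(Subgroup.zpowers σ) →* ℂˣ // l ≠ l⁻¹} :=
    ⟨⟨psi σ hσo ζ hζ hN 1, psi_ne_inv σ hσo ζ hζ hN 1 (by omega) (by omega)⟩⟩
  obtain ⟨lne⟩ := hne
  have hat : a ≠ trivIrr G := (D.theta_ne_triv hM.2.1 lne).2
  have hΘt : ∀ l, Θ l ≠ trivIrr G := fun l => (D.theta_ne_triv hM.2.1 l).1
  obtain ⟨hbt, hct⟩ := D.b_ne_triv hM.2.1 hl₀1 hat
  have hδ : ∀ z : ℤ, (z = 1 ∨ z = -1) → (-z = 1 ∨ -z = -1) := by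
    rintro z (hz | hz)
    · right; rw [hz]
    · left; rw [hz]; ring
  have hinj : Function.Injective (fun j => Θ (L j)) := by
    intro j j' hjj
    exact hLrel j j' ((D.hΘR (L j) (L j')).mp hjj)
  -- the principal block
  have hblock : Cfsg.principalBlock M G = {χ : Cfsg.IrrCharacter G |
      (χ : G → ℂ) = (fun _ => 1) ∨ χ = a ∨ χ = b ∨ χ = c ∨ ∃ j, χ = Θ (L j)} := by
    ext χ
    simp only [Set.mem_ofPred_eq]
    constructor
    · intro hχ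
      rcases D.mem_cases hM P h h2N hN huniq χ hχ with h1 | h1 | h1 | h1 | ⟨l, h1⟩
      · left
        rw [h1]
        rfl
      · exact Or.inr (Or.inl h1)
      · exact Or.inr (Or.inr (Or.inl h1))
      · exact Or.inr (Or.inr (Or.inr (Or.inl h1)))
      · obtain ⟨j, hj⟩ := hLex l
        exact Or.inr (Or.inr (Or.inr (Or.inr ⟨j, by rw [h1]; exact ((D.hΘR (L j) l).mpr hj).symm⟩)))
    · rintro (h1 | h1 | h1 | h1 | ⟨j, h1⟩)
      · rw [eq_trivIrr_of_coe_eq_one h1]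
        exact trivIrr_mem_principalBlock hM.2.1
      · rw [h1]; exact D.ha
      · rw [h1]; exact D.hb
      · rw [h1]; exact D.hc
      · rw [h1]; exact D.hΘmem _
  -- the number of characters
  have hcount : Nat.card (Cfsg.principalBlock M G) = 3 + H := by
    have hset : Cfsg.principalBlock M G =
        insert (trivIrr G) (insert a (insert b (insert c (Set.range (fun j => Θ (L j)))))) := by
      rw [hblock]
      ext χ
      simp only [Set.mem_ofPred_eq, Set.mem_insert_iff, Set.mem_range]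
      constructor
      · rintro (h1 | h1 | h1 | h1 | ⟨j, h1⟩)
        · exact Or.inl (eq_trivIrr_of_coe_eq_one h1)
        · exact Or.inr (Or.inl h1)
        · exact Or.inr (Or.inr (Or.inl h1))
        · exact Or.inr (Or.inr (Or.inr (Or.inl h1)))
        · exact Or.inr (Or.inr (Or.inr (Or.inr ⟨j, h1.symm⟩)))
      · rintro (h1 | h1 | h1 | h1 | ⟨j, h1⟩)
        · left
          rw [h1]
          rfl
        · exact Or.inr (Or.inl h1)
        · exact Or.inr (Or.inr (Or.inl h1))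
        · exact Or.inr (Or.inr (Or.inr (Or.inl h1)))
        · exact Or.inr (Or.inr (Or.inr (Or.inr ⟨j, h1.symm⟩)))
    rw [Nat.card_coe_set_eq, hset, Set.ncard_insert_of_notMem, Set.ncard_insert_of_notMem,
      Set.ncard_insert_of_notMem, Set.ncard_insert_of_notMem, Set.ncard_range_of_injective hinj,
      Nat.card_fin]
    · omega
    · rintro ⟨j, hj⟩
      exact (D.hΘ (L j)).2.2 hj
    · simp only [Set.mem_insert_iff, Set.mem_range, not_or, not_exists]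
      exact ⟨D.hbc, fun j hj => (D.hΘ (L j)).2.1 hj⟩
    · simp only [Set.mem_insert_iff, Set.mem_range, not_or, not_exists]
      exact ⟨D.hab, D.hac, fun j hj => (D.hΘ (L j)).1 hj⟩
    · simp only [Set.mem_insert_iff, Set.mem_range, not_or, not_exists]
      exact ⟨fun hh => hat hh.symm, fun hh => hbt hh.symm, fun hh => hct hh.symm,
        fun j hj => hΘt (L j) hj⟩
  refine ⟨hcount, a, b, c, fun j => Θ (L j), -s, -s₂, -s₃, hδ s D.hs, hδ s₂ D.hs₂, hδ s₃ D.hs₃,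
    hinj, coe_ne_one_of_ne_trivIrr hat, coe_ne_one_of_ne_trivIrr hbt,
    coe_ne_one_of_ne_trivIrr hct, D.hab, D.hac, D.hbc,
    fun j => ⟨(D.hΘ (L j)).1, (D.hΘ (L j)).2.1, (D.hΘ (L j)).2.2,
      coe_ne_one_of_ne_trivIrr (hΘt (L j))⟩, hblock, ?_, ?_⟩
  · -- values on the powers of `σ`
    intro l hl0 hlN
    have hmem : σ ^ l ∈ Subgroup.zpowers σ := Subgroup.pow_mem _ (Subgroup.mem_zpowers σ) l
    have hy1 : (⟨σ ^ l, hmem⟩ : ↥(Subgroup.zpowers σ)) ≠ 1 := by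
      intro hh
      exact pow_ne_one_of_lt hσo l hl0 hlN (congrArg Subtype.val hh)
    have hl₀val : ((l₀ ⟨σ ^ l, hmem⟩ : ℂˣ) : ℂ) = (-1) ^ l := by
      rw [hl₀def, psi_apply_pow, hNH2, pow_mul, root_pow_half hNH hH0 ζ hζ]
    refine ⟨?_, ?_, ?_, ?_⟩
    · have := value_of_coef_const σ (a : G → ℂ) (s : ℂ) (D.coef_a hat huniq) ⟨σ ^ l, hmem⟩ hy1
      rw [this]
      push_cast
      ring
    · have := value_of_coef_single σ (b : G → ℂ) (s₂ : ℂ) l₀ (D.coef_b hbt huniq hl₀ hl₀1)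
        ⟨σ ^ l, hmem⟩ hy1
      rw [this, hl₀val]
      push_cast
      ring
    · have := value_of_coef_single σ (c : G → ℂ) (s₃ : ℂ) l₀ (D.coef_c hct huniq hl₀ hl₀1)
        ⟨σ ^ l, hmem⟩ hy1
      rw [this, hl₀val]
      push_cast
      ring
    · intro j
      have := value_of_coef_pair σ (Θ (L j) : G → ℂ) (-s : ℂ) (L j).1 (L j).2
        (D.coef_theta hM.2.1 huniq hl₀ (L j)) ⟨σ ^ l, hmem⟩ hy1
      rw [this, hL j, psi_apply_pow]
      push_cast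
      ring
  · -- elements of odd order
    intro ρ hρ j
    have hρ' : ¬ 2 ∣ orderOf ρ := by
      intro hh
      exact (Nat.not_even_iff_odd.mpr hρ) (even_iff_two_dvd.mpr hh)
    have h1 := D.odd_relation_zero hM P h ρ hρ'
    have h2 := D.odd_relation_theta hM P h (L j) ρ hρ'
    constructor
    · push_cast
      linear_combination (-1 : ℂ) * h1
    · push_cast
      linear_combination (-1 : ℂ) * h2

end Cfsg.Agent.Helper6.DihBr
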