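import Mathlib
import Cfsg.Prelude.Def_Solvable
import Cfsg.Agent.Helper6.DihBrB
import Cfsg.Agent.Helper1.Fitting

/-!
# Brauer's order formula: the retraction of a 2-nilpotent group onto a Sylow 2-subgroup
-/

set_option autoImplicit false
set_option linter.style.haveILetI false

namespace Cfsg.Agent.Helper6.DihOrd

open Cfsg.Agent.Helper6.DihBr

universe u

theorem two_pow_eq_of_mul_odd {a k m n : ℕ} (hm : Odd m) (hn : Odd n)
    (h : 2 ^ a * m = n * 2 ^ k) : 2 ^ a = 2 ^ k := by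
  have hm2 : Nat.Coprime (2 ^ a) n := Nat.Coprime.pow_left a (Nat.coprime_two_left.mpr hn)
  have hk2 : Nat.Coprime (2 ^ k) m := Nat.Coprime.pow_left k (Nat.coprime_two_left.mpr hm)
  have h1 : 2 ^ a ∣ 2 ^ k := by
    have : 2 ^ a ∣ n * 2 ^ k := ⟨m, h.symm⟩
    exact hm2.dvd_of_dvd_mul_left this
  have h2 : 2 ^ k ∣ 2 ^ a := by
    have : 2 ^ k ∣ 2 ^ a * m := ⟨n, by rw [h]; ring⟩
    exact hk2.dvd_of_dvd_mul_right this
  exact Nat.dvd_antisymm h1 h2

/-- A group with a normal 2-complement retracts onto a Sylow 2-subgroup. -/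
theorem exists_retraction {X : Type u} [Group X] [Finite X] (Q : Sylow 2 X)
    (hidx : ∃ k : ℕ, (Cfsg.pPrimeCore 2 X).index = 2 ^ k) :
    ∃ r : X →* X, (∀ x, r x ∈ (Q : Subgroup X)) ∧ (∀ q ∈ (Q : Subgroup X), r q = q) ∧
      (∀ x, r x = 1 ↔ Odd (orderOf x)) ∧
      (∀ x, (∃ k : ℕ, orderOf x = 2 ^ k) → ∃ d : X, x = d * r x * d⁻¹) := by
  haveI : Fact (Nat.Prime 2) := ⟨Nat.prime_two⟩
  obtain ⟨N₀, hN₀⟩ : ∃ N₀ : Subgroup X, N₀ = Cfsg.pPrimeCore 2 X := ⟨_, rfl⟩
  haveI hnorm : N₀.Normal := by rw [hN₀]; exact Cfsg.Agent.Helper1.pPrimeCore_normal 2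
  have hcop : (Nat.card N₀).Coprime 2 := by
    rw [hN₀]; exact Cfsg.Agent.Helper1.card_pPrimeCore_coprime 2
  have hoddN : Odd (Nat.card N₀) := Nat.coprime_two_right.mp hcop
  rw [← hN₀] at hidx
  obtain ⟨k, hk⟩ := hidx
  -- orders of elements of `Q`
  have hQord : ∀ q ∈ (Q : Subgroup X), ∃ j : ℕ, orderOf q = 2 ^ j := by
    intro q hq
    obtain ⟨j, hj⟩ := Q.2 ⟨q, hq⟩
    have h1 : q ^ 2 ^ j = 1 := by
      have := congrArg Subtype.val hj
      simpa using this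
    exact (Nat.dvd_prime_pow Nat.prime_two).mp (orderOf_dvd_of_pow_eq_one h1) |>.imp
      (fun i hi => hi.2)
  have hodd_one : ∀ q ∈ (Q : Subgroup X), Odd (orderOf q) → q = 1 := by
    intro q hq ho
    obtain ⟨j, hj⟩ := hQord q hq
    rw [hj] at ho
    have : j = 0 := by
      by_contra h0
      have : Even (2 ^ j) := (Nat.even_pow' h0).mpr even_two
      exact (Nat.not_even_iff_odd.mpr ho) this
    rw [this, pow_zero] at hj
    exact orderOf_eq_one_iff.mp hj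
  have hmemN : ∀ x ∈ N₀, Odd (orderOf x) := by
    intro x hx
    have h1 : orderOf x ∣ Nat.card N₀ := Subgroup.orderOf_dvd_natCard N₀ hx
    exact Odd.of_dvd_nat hoddN h1
  -- the map `Q → X ⧸ N₀`
  obtain ⟨f, hf⟩ : ∃ f : ↥(Q : Subgroup X) →* X ⧸ N₀,
      f = (QuotientGroup.mk' N₀).comp (Q : Subgroup X).subtype := ⟨_, rfl⟩
  have hfapp : ∀ q : ↥(Q : Subgroup X), f q = QuotientGroup.mk' N₀ (q : X) := by
    intro q; rw [hf]; rfl
  have hinj : Function.Injective f := by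
    rw [injective_iff_map_eq_one]
    intro q hq
    rw [hfapp, QuotientGroup.mk'_apply, QuotientGroup.eq_one_iff] at hq
    have := hodd_one (q : X) q.2 (hmemN _ hq)
    exact Subtype.ext this
  have hcard : Nat.card (X ⧸ N₀) ≤ Nat.card ↥(Q : Subgroup X) := by
    have h1 : Nat.card (X ⧸ N₀) = 2 ^ k := hk
    have h2 := Sylow.card_eq_multiplicity Q
    have h3 := Subgroup.card_mul_index (Q : Subgroup X)
    have h4 := Subgroup.card_mul_index N₀
    have h5 : Odd (Q : Subgroup X).index := by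
      have := Sylow.not_dvd_index Q
      exact Nat.odd_iff.mpr (Nat.two_dvd_ne_zero.mp this)
    rw [hk] at h4
    rw [h2] at h3
    have := two_pow_eq_of_mul_odd h5 hoddN (h3.trans h4.symm)
    rw [h1, h2, this]
  have hbij : Function.Bijective f := hinj.bijective_of_nat_card_le hcard
  obtain ⟨e, he⟩ : ∃ e : ↥(Q : Subgroup X) ≃* X ⧸ N₀, ∀ q, e q = f q :=
    ⟨MulEquiv.ofBijective f hbij, fun q => rfl⟩
  obtain ⟨r, hr⟩ : ∃ r : X →* X, ∀ x, r x = ((e.symm (QuotientGroup.mk' N₀ x) :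
      ↥(Q : Subgroup X)) : X) :=
    ⟨(Q : Subgroup X).subtype.comp (e.symm.toMonoidHom.comp (QuotientGroup.mk' N₀)),
      fun x => rfl⟩
  have hrQ : ∀ x, r x ∈ (Q : Subgroup X) := by
    intro x; rw [hr]; exact Subtype.coe_prop _
  have hrq : ∀ q ∈ (Q : Subgroup X), r q = q := by
    intro q hq
    rw [hr]
    have : e.symm (QuotientGroup.mk' N₀ q) = ⟨q, hq⟩ := by
      rw [MulEquiv.symm_apply_eq, he, hfapp]
    rw [this]
  have hr1 : ∀ x, r x = 1 ↔ x ∈ N₀ := by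
    intro x
    rw [hr]
    constructor
    · intro h
      have h1 : e.symm (QuotientGroup.mk' N₀ x) = 1 := Subtype.ext h
      rw [MulEquiv.symm_apply_eq, map_one, QuotientGroup.mk'_apply, QuotientGroup.eq_one_iff] at h1
      exact h1
    · intro h
      have h1 : QuotientGroup.mk' N₀ x = 1 := by
        rw [QuotientGroup.mk'_apply, QuotientGroup.eq_one_iff]; exact h
      rw [h1, map_one]
      rfl
  refine ⟨r, hrQ, hrq, ?_, ?_⟩
  · intro x
    constructor
    · intro h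
      exact hmemN x ((hr1 x).mp h)
    · intro ho
      apply hodd_one (r x) (hrQ x)
      exact Odd.of_dvd_nat ho (orderOf_map_dvd r x)
  · intro x hx
    have hZ : IsPGroup 2 (Subgroup.zpowers x) := by
      obtain ⟨j, hj⟩ := hx
      apply IsPGroup.of_card (n := j)
      rw [Nat.card_zpowers, hj]
    obtain ⟨Q', hQ'⟩ := hZ.exists_le_sylow
    obtain ⟨d, hd⟩ := MulAction.exists_smul_eq X Q Q'
    have hxQ : x ∈ (Q' : Subgroup X) := hQ' (Subgroup.mem_zpowers x)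
    have hq : d⁻¹ * x * d ∈ (Q : Subgroup X) := conj_mem_of_smul_sylow Q Q' d hd hxQ
    have h1 := hrq _ hq
    rw [map_mul, map_mul, map_inv] at h1
    refine ⟨d * (r d)⁻¹, ?_⟩
    have h2 : r x = r d * (d⁻¹ * x * d) * (r d)⁻¹ := by
      rw [← h1]; group
    rw [h2]
    group

variable {G : Type u} [Group G]

/-- The retraction of the centralizer of `J` onto the Sylow 2-subgroup, as a function on `G`. -/
theorem exists_rho [Finite G] (P : Sylow 2 G) (J : G)
    (hPJ : (P : Subgroup G) ≤ Subgroup.centralizer ({J} : Set G))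
    (hidx : ∃ k : ℕ, (Cfsg.pPrimeCore 2 ↥(Subgroup.centralizer ({J} : Set G))).index = 2 ^ k) :
    ∃ ρ : G → G,
      (∀ a ∈ Subgroup.centralizer ({J} : Set G), ∀ b ∈ Subgroup.centralizer ({J} : Set G),
        ρ (a * b) = ρ a * ρ b) ∧
      (∀ c ∈ Subgroup.centralizer ({J} : Set G), ρ c ∈ (P : Subgroup G)) ∧
      (∀ p ∈ (P : Subgroup G), ρ p = p) ∧
      (∀ c ∈ Subgroup.centralizer ({J} : Set G), (ρ c = 1 ↔ Odd (orderOf c))) ∧
      (∀ c ∈ Subgroup.centralizer ({J} : Set G), (∃ k : ℕ, orderOf c = 2 ^ k) →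
        ∃ d ∈ Subgroup.centralizer ({J} : Set G), c = d * ρ c * d⁻¹) := by
  haveI : Fact (Nat.Prime 2) := ⟨Nat.prime_two⟩
  obtain ⟨C, hC⟩ : ∃ C : Subgroup G, C = Subgroup.centralizer ({J} : Set G) := ⟨_, rfl⟩
  rw [← hC] at hPJ hidx ⊢
  obtain ⟨r, hrQ, hrq, hr1, hr4⟩ := exists_retraction (P.subtype hPJ) hidx
  classical
  refine ⟨fun g => if hg : g ∈ C then ((r ⟨g, hg⟩ : ↥C) : G) else 1, ?_, ?_, ?_, ?_, ?_⟩
  · intro a ha b hb
    simp only [dif_pos ha, dif_pos hb, dif_pos (C.mul_mem ha hb)]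
    have : (⟨a * b, C.mul_mem ha hb⟩ : ↥C) = ⟨a, ha⟩ * ⟨b, hb⟩ := rfl
    rw [this, map_mul]
    rfl
  · intro c hc
    simp only [dif_pos hc]
    have := hrQ ⟨c, hc⟩
    rw [Sylow.coe_subtype, Subgroup.mem_subgroupOf] at this
    exact this
  · intro p hp
    simp only [dif_pos (hPJ hp)]
    have h1 : (⟨p, hPJ hp⟩ : ↥C) ∈ ((P.subtype hPJ : Sylow 2 ↥C) : Subgroup ↥C) := by
      rw [Sylow.coe_subtype, Subgroup.mem_subgroupOf]
      exact hp
    rw [hrq _ h1]
  · intro c hc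
    simp only [dif_pos hc]
    have h1 := hr1 ⟨c, hc⟩
    rw [Subgroup.orderOf_mk] at h1
    rw [← h1]
    constructor
    · intro h
      exact Subtype.ext h
    · intro h
      rw [h]; rfl
  · intro c hc hk
    simp only [dif_pos hc]
    have h1 : ∃ k : ℕ, orderOf (⟨c, hc⟩ : ↥C) = 2 ^ k := by
      rw [Subgroup.orderOf_mk]; exact hk
    obtain ⟨d, hd⟩ := hr4 ⟨c, hc⟩ h1
    refine ⟨(d : G), d.2, ?_⟩
    have := congrArg Subtype.val hd
    simpa using this

end Cfsg.Agent.Helper6.DihOrd
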