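import Mathlib
import Cfsg.Prelude.Def_Characters
import Cfsg.Prelude.Def_Blocks
import Cfsg.Agent.Helper6.DihBrE
import Cfsg.Agent.Helper6.DihOrdA
import Cfsg.Agent.Helper6.KleinFourB
import Cfsg.Agent.Helper6.BlockOrth

/-!
# Brauer's order formula: the principal block kernel at an element of `⟨σ⟩`
-/

set_option autoImplicit false
set_option linter.style.haveILetI false

namespace Cfsg.Agent.Helper6.DihOrd

open Cfsg.Agent.Helper6.DihBr

open scoped ComplexConjugate

universe u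

variable {G : Type u} [Group G] {M : Ideal Cfsg.AlgInt}

/-- The members of the principal block are constant on the 2-section of a non-identity element
conjugate into `⟨σ⟩`. -/
theorem principal_apply_of_isPPart [Finite G] (hM : Cfsg.IsPModular 2 M) (P : Sylow 2 G) {σ : G}
    {N : ℕ} (hN : 3 ≤ N) (e : Nonempty (↥(P : Subgroup G) ≃* DihedralGroup N))
    (h : DihData (P : Subgroup G) σ N) (y g s : G) (hs : s ∈ Subgroup.zpowers σ) (hs1 : s ≠ 1)
    (ht : Cfsg.IsPPart 2 y (g * s * g⁻¹)) (χ : Cfsg.IrrCharacter G)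
    (hχ : χ ∈ Cfsg.principalBlock M G) : (χ : G → ℂ) y = (χ : G → ℂ) s := by
  haveI : Fact (Nat.Prime 2) := ⟨Nat.prime_two⟩
  have hcf := IsCharacter.isClassFunction (IsIrrCharacter.isCharacter χ.2)
  obtain ⟨r, hr, hcomm, -, hrodd⟩ := ht
  have hidx : ∃ k : ℕ, (Cfsg.pPrimeCore 2 ↥(Subgroup.centralizer ({s} : Set G))).index = 2 ^ k := by
    by_cases hs2 : s * s = 1
    · have hso : orderOf s = 2 := by
        apply orderOf_eq_prime
        · rw [pow_two, hs2]
        · exact hs1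
      exact (centralizer_of_involution P (by omega) e h s hs hso).1
    · exact (centralizer_of_sq_ne P h s hs hs2).1
  have hr' : g⁻¹ * r * g ∈ Subgroup.centralizer ({s} : Set G) := by
    rw [Subgroup.mem_centralizer_singleton_iff]
    have h1 : g * s * g⁻¹ * r = r * (g * s * g⁻¹) := hcomm
    calc g⁻¹ * r * g * s = g⁻¹ * (r * (g * s * g⁻¹)) * g := by group
      _ = g⁻¹ * (g * s * g⁻¹ * r) * g := by rw [h1]
      _ = s * (g⁻¹ * r * g) := by group
  have hord : ¬ 2 ∣ orderOf (⟨g⁻¹ * r * g, hr'⟩ : ↥(Subgroup.centralizer ({s} : Set G))) := by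
    rw [Subgroup.orderOf_mk]
    have h3 := MulEquiv.orderOf_eq (MulAut.conj g⁻¹) r
    rw [MulAut.conj_apply, inv_inv] at h3
    rw [h3]
    exact hrodd
  have h1 := principal_section_const hM s (orderOf_eq_two_pow P s (h.zpowers_le hs)) hidx χ hχ
    ⟨g⁻¹ * r * g, hr'⟩ hord
  rw [← h1, ← hr]
  have h2 : s * ((⟨g⁻¹ * r * g, hr'⟩ : ↥(Subgroup.centralizer ({s} : Set G))) : G) =
      g⁻¹ * (g * s * g⁻¹ * r) * g⁻¹⁻¹ := by
    show s * (g⁻¹ * r * g) = _
    group
  rw [h2, hcf]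

open Classical in
/-- **The kernel of the principal block** at an arbitrary element and an element of `⟨σ⟩`. -/
theorem kernel_eval [Finite G] (hM : Cfsg.IsPModular 2 M) (P : Sylow 2 G) {σ : G} {N : ℕ}
    (hN : 3 ≤ N) (e : Nonempty (↥(P : Subgroup G) ≃* DihedralGroup N))
    (h : DihData (P : Subgroup G) σ N)
    (hall : ∀ t : G, (∃ k : ℕ, orderOf t = 2 ^ k) → t ≠ 1 →
      ∃ g : G, ∃ s ∈ Subgroup.zpowers σ, s ≠ 1 ∧ t = g * s * g⁻¹)
    (y t z : G) (ht : Cfsg.IsPPart 2 y t) (hz : z ∈ Subgroup.zpowers σ) (hz1 : z ≠ 1) :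
    ∑ᶠ χ ∈ Cfsg.principalBlock M G, (χ : G → ℂ) y * conj ((χ : G → ℂ) z) =
      if IsConj t z then (if z * z = 1 then 2 * (N : ℂ) else (N : ℂ)) else 0 := by
  haveI : Fact (Nat.Prime 2) := ⟨Nat.prime_two⟩
  haveI : Finite (Cfsg.IrrCharacter G) := irr_finite
  haveI : Fintype (Cfsg.IrrCharacter G) := Fintype.ofFinite _
  by_cases ht1 : t = 1
  · -- `y` has odd order
    have hnc : ¬ IsConj t z := by
      rw [ht1]
      intro hc
      exact hz1 (isConj_one_right.mp hc)
    rw [if_neg hnc]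
    obtain ⟨r, hr, -, -, hrodd⟩ := ht
    rw [ht1, one_mul] at hr
    rw [← hr]
    have hzs : 2 ∣ orderOf z := by
      obtain ⟨k, hk⟩ := orderOf_eq_two_pow P z (h.zpowers_le hz)
      rw [hk]
      have hk0 : k ≠ 0 := by
        intro h0
        rw [h0, pow_zero] at hk
        exact hz1 (orderOf_eq_one_iff.mp hk)
      exact dvd_pow_self 2 hk0
    have hB : Cfsg.IsPBlock M (Cfsg.principalBlock M G) :=
      ⟨⟨fun _ : G => (1 : ℂ), isIrrCharacter_one⟩, rfl⟩
    have := blockKernelFun_eq_zero hM.2.1 2 hM.2.2 (Cfsg.principalBlock M G) hB r z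
      (Or.inr ⟨hrodd, hzs⟩)
    rw [blockKernelFun_eq_finsum] at this
    exact this
  · obtain ⟨k, r, hk⟩ : ∃ k : ℕ, ∃ r : G, orderOf t = 2 ^ k ∧ True := by
      obtain ⟨r, -, -, ⟨k, hk⟩, -⟩ := ht
      exact ⟨k, r, hk, trivial⟩
    obtain ⟨g, s, hs, hs1, hts⟩ := hall t ⟨k, hk.1⟩ ht1
    rw [hts] at ht
    have h1 : ∑ᶠ χ ∈ Cfsg.principalBlock M G, (χ : G → ℂ) y * conj ((χ : G → ℂ) z) =
        ∑ᶠ χ ∈ Cfsg.principalBlock M G, (χ : G → ℂ) s * conj ((χ : G → ℂ) z) := by
      apply finsum_mem_congr rfl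
      intro χ hχ
      rw [principal_apply_of_isPPart hM P hN e h y g s hs hs1 ht χ hχ]
    rw [h1, section_sum hM P hN e h s z hs hz hs1]
    have hiff : IsConj t z ↔ (z = s ∨ z = s⁻¹) := by
      rw [← isConj_iff_of_mem P hN h s z hs hz hs1, hts]
      constructor
      · intro hc
        exact (isConj_iff.mpr ⟨g, rfl⟩ : IsConj s (g * s * g⁻¹)).trans hc
      · intro hc
        exact (isConj_iff.mpr ⟨g, rfl⟩ : IsConj s (g * s * g⁻¹)).symm.trans hc
    by_cases hc : z = s ∨ z = s⁻¹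
    · rw [if_pos hc, if_pos (hiff.mpr hc)]
      have : s * s = 1 ↔ z * z = 1 := by
        rcases hc with rfl | rfl
        · rfl
        · constructor
          · intro h2
            have : s⁻¹ * s⁻¹ = (s * s)⁻¹ := by rw [mul_inv_rev]
            rw [this, h2, inv_one]
          · intro h2
            have : s * s = (s⁻¹ * s⁻¹)⁻¹ := by rw [mul_inv_rev, inv_inv]
            rw [this, h2, inv_one]
      by_cases h2 : s * s = 1
      · rw [if_pos h2, if_pos (this.mp h2)]
      · rw [if_neg h2, if_neg (fun h3 => h2 (this.mpr h3))]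
    · rw [if_neg hc, if_neg (fun h3 => hc (hiff.mp h3))]

end Cfsg.Agent.Helper6.DihOrd
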