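import Mathlib
import Cfsg.Prelude.Def_Characters
import Cfsg.Prelude.Def_Blocks
import Cfsg.Agent.Helper6.StructConst
import Cfsg.Agent.Helper6.DadeIso

/-!
# Brauer's order formula: class multiplication against a set of irreducible characters
-/

set_option autoImplicit false
set_option linter.style.haveILetI false

namespace Cfsg.Agent.Helper6.DihOrd

open scoped ComplexConjugate

universe u

variable {G : Type u} [Group G]

/-- The sum of an irreducible character over the products of pairs from a class. -/
theorem sum_class_pairs_char [Fintype G] (χ : Cfsg.IrrCharacter G) (J : G) :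
    ∑ q ∈ classFinset J ×ˢ classFinset J, (χ : G → ℂ) (q.1 * q.2) =
      ((classFinset J).card : ℂ) ^ 2 * ((χ : G → ℂ) J ^ 2 / (χ : G → ℂ) 1) := by
  have hχ1 : (χ : G → ℂ) 1 ≠ 0 := IsIrrCharacter.apply_one_ne_zero χ.2
  rw [Finset.sum_product_right]
  simp only [sum_classFinset_char_mul]
  rw [← Finset.mul_sum, sum_classFinset_char, card_classFinset]
  unfold Cfsg.centralChar
  field_simp

open Classical in
/-- **Class multiplication** against the kernel of a set of irreducible characters. -/
theorem class_mult_kernel [Fintype G] (B : Set (Cfsg.IrrCharacter G)) (J z : G) :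
    ∑ q ∈ classFinset J ×ˢ classFinset J,
        ∑ᶠ χ ∈ B, (χ : G → ℂ) (q.1 * q.2) * conj ((χ : G → ℂ) z) =
      ((classFinset J).card : ℂ) ^ 2 *
        ∑ᶠ χ ∈ B, (χ : G → ℂ) J ^ 2 / (χ : G → ℂ) 1 * conj ((χ : G → ℂ) z) := by
  haveI : Finite (Cfsg.IrrCharacter G) := irr_finite
  haveI : Fintype (Cfsg.IrrCharacter G) := Fintype.ofFinite _
  simp_rw [finsum_mem_eq_sum_ite]
  rw [Finset.sum_comm, Finset.mul_sum]
  apply Finset.sum_congr rfl
  intro χ _
  by_cases hχ : χ ∈ B
  · simp only [if_pos hχ]
    rw [← Finset.sum_mul, sum_class_pairs_char]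
    ring
  · simp only [if_neg hχ]
    rw [Finset.sum_const_zero, mul_zero]

end Cfsg.Agent.Helper6.DihOrd
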