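import Mathlib
import Cfsg.Prelude.Def_Blocks
import Cfsg.Agent.Helper6.DihOrdA
import Cfsg.Agent.Helper6.DihOrdB
import Cfsg.Agent.Helper6.DihBrE
import Cfsg.Agent.Helper6.DefectCenter
import Cfsg.Agent.Helper6.BrauerAppA

/-!
# Brauer's order formula: the setting and its elementary consequences
-/

set_option autoImplicit false
set_option linter.style.haveILetI false

namespace Cfsg.Agent.Helper6.DihOrd

open Cfsg.Agent.Helper6.DihBr

universe u

variable {G : Type u} [Group G]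

/-- The setting of the order formula: a dihedral Sylow 2-subgroup `P = ⟨σ, τ⟩`, the central
involution `J`, one class of involutions, and the retraction `ρ` of `C(J)` onto `P`. -/
structure Setting (P : Sylow 2 G) (σ τ J : G) (N H : ℕ) (ρ : G → G) : Prop where
  dih : DihData (P : Subgroup G) σ N
  hNH : N = 2 * H
  hH2 : 2 ∣ H
  hH0 : H ≠ 0
  hJ : J = σ ^ H
  hτ : τ ∈ (P : Subgroup G)
  hrel : τ * σ * τ⁻¹ = σ⁻¹
  hconj : IsConj J τ ∧ IsConj J (σ * τ)
  ρ_mul : ∀ a ∈ Subgroup.centralizer ({J} : Set G), ∀ b ∈ Subgroup.centralizer ({J} : Set G),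
    ρ (a * b) = ρ a * ρ b
  ρ_mem : ∀ c ∈ Subgroup.centralizer ({J} : Set G), ρ c ∈ (P : Subgroup G)
  ρ_fix : ∀ p ∈ (P : Subgroup G), ρ p = p
  ρ_one : ∀ c ∈ Subgroup.centralizer ({J} : Set G), (ρ c = 1 ↔ Odd (orderOf c))
  ρ_conj : ∀ c ∈ Subgroup.centralizer ({J} : Set G), (∃ k : ℕ, orderOf c = 2 ^ k) →
    ∃ d ∈ Subgroup.centralizer ({J} : Set G), c = d * ρ c * d⁻¹

namespace Setting

variable {P : Sylow 2 G} {σ τ J : G} {N H : ℕ} {ρ : G → G}

theorem hN3 (S : Setting P σ τ J N H ρ) : 3 ≤ N := by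
  obtain ⟨m, hm⟩ := S.hH2
  have := S.hNH
  have := S.hH0
  omega

theorem hN4 (S : Setting P σ τ J N H ρ) : 4 ≤ N := by
  obtain ⟨m, hm⟩ := S.hH2
  have := S.hNH
  have := S.hH0
  omega

theorem J_mem (S : Setting P σ τ J N H ρ) : J ∈ Subgroup.zpowers σ := by
  rw [S.hJ]; exact pow_half_mem

theorem J_mul_self (S : Setting P σ τ J N H ρ) : J * J = 1 := by
  rw [S.hJ]; exact pow_half_mul_self S.hNH S.dih.order

theorem J_ne_one (S : Setting P σ τ J N H ρ) : J ≠ 1 := by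
  rw [S.hJ]; exact pow_half_ne_one S.hNH S.hH0 S.dih.order

theorem J_inv (S : Setting P σ τ J N H ρ) : J⁻¹ = J :=
  inv_eq_self_of_mul_self S.J_mul_self

theorem le_cent (S : Setting P σ τ J N H ρ) :
    (P : Subgroup G) ≤ Subgroup.centralizer ({J} : Set G) :=
  le_centralizer_of_involution S.dih J S.J_mem S.J_mul_self

theorem τ_not_mem (S : Setting P σ τ J N H ρ) : τ ∉ Subgroup.zpowers σ :=
  not_mem_zpowers_of_rel S.hN3 S.dih.order S.hrel

theorem τ_mul_self (S : Setting P σ τ J N H ρ) : τ * τ = 1 :=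
  (S.dih.inv τ S.hτ S.τ_not_mem).1

theorem mem_cent_iff (J c : G) :
    c ∈ Subgroup.centralizer ({J} : Set G) ↔ c * J * c⁻¹ = J := by
  rw [Subgroup.mem_centralizer_singleton_iff]
  constructor
  · intro h
    rw [h]; group
  · intro h
    calc c * J = c * J * c⁻¹ * c := by group
      _ = J * c := by rw [h]

/-- The only involution of `⟨σ⟩` is `J`. -/
theorem eq_J_of_mem (S : Setting P σ τ J N H ρ) {s : G} (hs : s ∈ Subgroup.zpowers σ)
    (hss : s * s = 1) (hs1 : s ≠ 1) : s = J :=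
  involution_unique s J hs S.J_mem hs1 S.J_ne_one hss S.J_mul_self

/-- Every nontrivial 2-element is conjugate into `⟨σ⟩`. -/
theorem hall [Finite G] (S : Setting P σ τ J N H ρ) (t : G) (ht : ∃ k : ℕ, orderOf t = 2 ^ k)
    (ht1 : t ≠ 1) : ∃ g : G, ∃ s ∈ Subgroup.zpowers σ, s ≠ 1 ∧ t = g * s * g⁻¹ :=
  exists_conj_mem_zpowers P S.dih S.hN3 S.hτ S.hrel S.J_mem S.J_ne_one S.hconj t ht ht1

/-- All involutions are conjugate to `J`. -/
theorem isConj_of_involution [Finite G] (S : Setting P σ τ J N H ρ) {u : G} (huu : u * u = 1)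
    (hu1 : u ≠ 1) : IsConj J u := by
  have huo : orderOf u = 2 ^ 1 := by
    rw [pow_one]
    apply orderOf_eq_prime
    · rw [pow_two, huu]
    · exact hu1
  obtain ⟨g, s, hs, hs1, hus⟩ := S.hall u ⟨1, huo⟩ hu1
  have hss : s * s = 1 := by
    have : s = g⁻¹ * u * g := by rw [hus]; group
    rw [this]
    calc g⁻¹ * u * g * (g⁻¹ * u * g) = g⁻¹ * (u * u) * g := by group
      _ = 1 := by rw [huu]; group
  rw [hus, S.eq_J_of_mem hs hss hs1]
  exact isConj_iff.mpr ⟨g, rfl⟩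

/-- `ρ` of an involution of `C(J)` other than `J` is an element of `P` outside `⟨σ⟩`. -/
theorem ρ_involution (S : Setting P σ τ J N H ρ) {u : G}
    (hu : u ∈ Subgroup.centralizer ({J} : Set G)) (huu : u * u = 1) (hu1 : u ≠ 1) (huJ : u ≠ J) :
    ρ u ∈ (P : Subgroup G) ∧ ρ u ∉ Subgroup.zpowers σ ∧ ρ u * ρ u = 1 := by
  have huo : orderOf u = 2 := by
    apply orderOf_eq_prime
    · rw [pow_two, huu]
    · exact hu1
  have h1 : ρ u * ρ u = 1 := by
    rw [← S.ρ_mul u hu u hu, huu, S.ρ_fix 1 (Subgroup.one_mem _)]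
  have h2 : ρ u ≠ 1 := by
    intro h
    have := (S.ρ_one u hu).mp h
    rw [huo] at this
    exact absurd this (by decide)
  refine ⟨S.ρ_mem u hu, ?_, h1⟩
  intro hs
  have h3 := S.eq_J_of_mem hs h1 h2
  obtain ⟨d, hd, hud⟩ := S.ρ_conj u hu ⟨1, by rw [huo, pow_one]⟩
  rw [h3] at hud
  apply huJ
  rw [hud]
  exact (mem_cent_iff J d).mp hd

/-- The product of the images of two involutions of `C(J)` other than `J` lies in `⟨σ⟩`. -/
theorem ρ_mul_mem (S : Setting P σ τ J N H ρ) {u v : G}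
    (hu : u ∈ Subgroup.centralizer ({J} : Set G)) (huu : u * u = 1) (hu1 : u ≠ 1) (huJ : u ≠ J)
    (hv : v ∈ Subgroup.centralizer ({J} : Set G)) (hvv : v * v = 1) (hv1 : v ≠ 1) (hvJ : v ≠ J) :
    ρ u * ρ v ∈ Subgroup.zpowers σ := by
  obtain ⟨h1, h2, -⟩ := S.ρ_involution hu huu hu1 huJ
  obtain ⟨h3, h4, -⟩ := S.ρ_involution hv hvv hv1 hvJ
  exact mul_mem_zpowers S.dih S.hN3 h1 h3 h2 h4

/-- The 2-part of an element of `C(J)` is conjugate in `C(J)` to its image under `ρ`. -/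
theorem isPPart_conj (S : Setting P σ τ J N H ρ) {y t : G}
    (hy : y ∈ Subgroup.centralizer ({J} : Set G)) (ht : Cfsg.IsPPart 2 y t) :
    ∃ d ∈ Subgroup.centralizer ({J} : Set G), t = d * ρ y * d⁻¹ := by
  haveI : Fact (Nat.Prime 2) := ⟨Nat.prime_two⟩
  obtain ⟨r, hr, hc, ⟨k, hk⟩, hrodd⟩ := ht
  have hcop : Nat.Coprime (orderOf r) (orderOf t) := by
    rw [hk]
    exact (Nat.Coprime.pow_right k ((Nat.Prime.coprime_iff_not_dvd Nat.prime_two).mpr hrodd).symm)
  obtain ⟨htm, hrm⟩ := mem_zpowers_mul_of_coprime t r hc.eq hcop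
  rw [hr] at htm hrm
  have htC : t ∈ Subgroup.centralizer ({J} : Set G) := (Subgroup.zpowers_le.mpr hy) htm
  have hrC : r ∈ Subgroup.centralizer ({J} : Set G) := (Subgroup.zpowers_le.mpr hy) hrm
  have h1 : ρ y = ρ t := by
    rw [← hr, S.ρ_mul t htC r hrC, (S.ρ_one r hrC).mpr (Nat.odd_iff.mpr (Nat.two_dvd_ne_zero.mp hrodd)),
      mul_one]
  rw [h1]
  exact S.ρ_conj t htC ⟨k, hk⟩

end Setting

end Cfsg.Agent.Helper6.DihOrd
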