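import Mathlib
import Cfsg.Prelude.Def_Blocks
import Cfsg.Agent.Helper6.DihOrdE
import Cfsg.Agent.Helper6.CentralChar
import Cfsg.Agent.Helper6.PPartBasic
import Cfsg.Agent.Helper6.SecondMainE

/-!
# Brauer's order formula: counting pairs of involutions through the central involution
-/

set_option autoImplicit false
set_option linter.style.haveILetI false

namespace Cfsg.Agent.Helper6.DihOrd

open Cfsg.Agent.Helper6.DihBr

universe u

variable {G : Type u} [Group G]

open Classical in
/-- A conjugation-invariant set of pairs fibred equivariantly over a conjugacy class. -/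
theorem card_eq_card_class_mul_fiber [Fintype G] (J : G) (A : Finset (G × G)) (φ : G × G → G)
    (hA : ∀ a ∈ A, ∀ g : G, (g * a.1 * g⁻¹, g * a.2 * g⁻¹) ∈ A)
    (hφ : ∀ a ∈ A, ∀ g : G, φ (g * a.1 * g⁻¹, g * a.2 * g⁻¹) = g * φ a * g⁻¹)
    (hφK : ∀ a ∈ A, IsConj J (φ a)) :
    A.card = (classFinset J).card * (A.filter (fun a => φ a = J)).card := by
  have h1 : A.card = ∑ z ∈ classFinset J, (A.filter (fun a => φ a = z)).card :=
    Finset.card_eq_sum_card_fiberwise (fun a ha => (mem_classFinset J _).mpr (hφK a ha))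
  rw [h1]
  have h2 : ∀ z ∈ classFinset J,
      (A.filter (fun a => φ a = z)).card = (A.filter (fun a => φ a = J)).card := by
    intro z hz
    rw [mem_classFinset] at hz
    obtain ⟨g, hg⟩ := isConj_iff.mp hz
    symm
    apply Finset.card_bij (fun a _ => (g * a.1 * g⁻¹, g * a.2 * g⁻¹))
    · intro a ha
      rw [Finset.mem_filter] at ha ⊢
      exact ⟨hA a ha.1 g, by rw [hφ a ha.1 g, ha.2, hg]⟩
    · intro a _ b _ hab
      have h3 := congrArg Prod.fst hab
      have h4 := congrArg Prod.snd hab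
      simp only [mul_left_inj, mul_right_inj] at h3 h4
      exact Prod.ext h3 h4
    · intro b hb
      rw [Finset.mem_filter] at hb
      refine ⟨(g⁻¹ * b.1 * g⁻¹⁻¹, g⁻¹ * b.2 * g⁻¹⁻¹), ?_, ?_⟩
      · rw [Finset.mem_filter]
        refine ⟨hA b hb.1 g⁻¹, ?_⟩
        rw [hφ b hb.1 g⁻¹, hb.2, ← hg]
        group
      · apply Prod.ext
        · show g * (g⁻¹ * b.1 * g⁻¹⁻¹) * g⁻¹ = b.1
          group
        · show g * (g⁻¹ * b.2 * g⁻¹⁻¹) * g⁻¹ = b.2
          group
  rw [Finset.sum_congr rfl h2, Finset.sum_const, smul_eq_mul]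

/-- A chosen 2-part. -/
noncomputable def twoPart [Finite G] (y : G) : G :=
  haveI : Fact (Nat.Prime 2) := ⟨Nat.prime_two⟩
  Classical.choose (exists_isPPart 2 y)

theorem twoPart_spec [Finite G] (y : G) : Cfsg.IsPPart 2 y (twoPart y) := by
  haveI : Fact (Nat.Prime 2) := ⟨Nat.prime_two⟩
  exact Classical.choose_spec (exists_isPPart 2 y)

theorem twoPart_eq [Finite G] {y t : G} (ht : Cfsg.IsPPart 2 y t) : twoPart y = t := by
  haveI : Fact (Nat.Prime 2) := ⟨Nat.prime_two⟩
  exact isPPart_unique 2 (twoPart_spec y) ht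

theorem twoPart_conj [Finite G] (y g : G) : twoPart (g * y * g⁻¹) = g * twoPart y * g⁻¹ :=
  twoPart_eq (IsPPart.conj (twoPart_spec y) g)

open Classical in
/-- The involutions of `C(J)` other than `J`. -/
noncomputable def invols [Fintype G] (J : G) : Finset G :=
  Finset.univ.filter (fun u => u ∈ Subgroup.centralizer ({J} : Set G) ∧ u * u = 1 ∧ u ≠ 1 ∧ u ≠ J)

theorem mem_invols [Fintype G] (J u : G) : u ∈ invols J ↔
    u ∈ Subgroup.centralizer ({J} : Set G) ∧ u * u = 1 ∧ u ≠ 1 ∧ u ≠ J := by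
  classical
  unfold invols
  simp

open Classical in
/-- The pairs of conjugates of `J` whose product has 2-part conjugate to `z`. -/
noncomputable def pairsOver [Fintype G] (J z : G) : Finset (G × G) :=
  (classFinset J ×ˢ classFinset J).filter (fun q => IsConj (twoPart (q.1 * q.2)) z)

open Classical in
/-- The pairs of involutions of `C(J)` other than `J` whose images multiply to `z` or `z⁻¹`. -/
noncomputable def pairsIn [Fintype G] (J z : G) (ρ : G → G) : Finset (G × G) :=
  (invols J ×ˢ invols J).filter (fun q => ρ q.1 * ρ q.2 = z ∨ ρ q.1 * ρ q.2 = z⁻¹)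

theorem conj_involution {J x : G} (hJJ : J * J = 1) (hJ1 : J ≠ 1) (hx : IsConj J x) :
    x * x = 1 ∧ x ≠ 1 := by
  obtain ⟨c, hc⟩ := isConj_iff.mp hx
  constructor
  · rw [← hc]
    calc c * J * c⁻¹ * (c * J * c⁻¹) = c * (J * J) * c⁻¹ := by group
      _ = 1 := by rw [hJJ]; group
  · intro h
    apply hJ1
    rw [h] at hc
    have : J = c⁻¹ * (c * J * c⁻¹) * c := by group
    rw [this, hc]
    group

theorem pow_eq_of_mul_self {t : G} (htt : t * t = 1) (k : ℕ) : t ^ k = 1 ∨ t ^ k = t := by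
  rcases Nat.even_or_odd' k with ⟨m, hm | hm⟩
  · left
    rw [hm, pow_mul, pow_two, htt, one_pow]
  · right
    rw [hm, pow_succ, pow_mul, pow_two, htt, one_pow, one_mul]

namespace Setting

variable {P : Sylow 2 G} {σ τ J : G} {N H : ℕ} {ρ : G → G}

/-- Key exclusion: a pair of conjugates of `J` whose product has 2-part `t` with `t ^ k = J`
does not contain `J`. -/
theorem ne_J_aux [Finite G] (S : Setting P σ τ J N H ρ) {x x' t : G} (k : ℕ)
    (hxx : x * x = 1) (hx'x' : x' * x' = 1) (hx1 : x ≠ 1) (hx'1 : x' ≠ 1)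
    (ht : Cfsg.IsPPart 2 (x * x') t) (htk : t ^ k = J) (hcomm : x * x' = x' * x) :
    x ≠ J ∧ x' ≠ J := by
  haveI : Fact (Nat.Prime 2) := ⟨Nat.prime_two⟩
  have hyy : (x * x') * (x * x') = 1 := by
    calc (x * x') * (x * x') = x * (x' * x) * x' := by group
      _ = x * (x * x') * x' := by rw [hcomm]
      _ = (x * x) * (x' * x') := by group
      _ = 1 := by rw [hxx, hx'x', one_mul]
  have hty : t = x * x' := by
    by_cases hy1 : x * x' = 1
    · have h1 : Cfsg.IsPPart 2 (x * x') (x * x') :=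
        isPPart_self (x * x') 0 (by rw [hy1, orderOf_one, pow_zero])
      exact isPPart_unique 2 ht h1
    · have hyo : orderOf (x * x') = 2 := by
        apply orderOf_eq_prime
        · rw [pow_two, hyy]
        · exact hy1
      have h1 : Cfsg.IsPPart 2 (x * x') (x * x') :=
        isPPart_self (x * x') 1 (by rw [hyo, pow_one])
      exact isPPart_unique 2 ht h1
  have htt : t * t = 1 := by rw [hty]; exact hyy
  have hJt : J = t := by
    rcases pow_eq_of_mul_self htt k with h | h
    · rw [h] at htk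
      exact absurd htk.symm S.J_ne_one
    · rw [h] at htk
      exact htk.symm
  constructor
  · intro hxJ
    apply hx'1
    have h1 : x * x' = x * 1 := by rw [mul_one, ← hty, ← hJt, hxJ]
    exact mul_left_cancel h1
  · intro hx'J
    apply hx1
    have h1 : x * x' = 1 * x' := by rw [one_mul, ← hty, ← hJt, hx'J]
    exact mul_right_cancel h1

open Classical in
/-- **The fibre over `J`**: the pairs over `z` whose central involution is `J` are exactly the
pairs in `C(J)` mapping to `z` or `z⁻¹`. -/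
theorem fiber_eq [Fintype G] (S : Setting P σ τ J N H ρ) (z : G) (hz : z ∈ Subgroup.zpowers σ)
    (hz1 : z ≠ 1) (k : ℕ) (hzk : z ^ k = J) :
    (pairsOver J z).filter (fun q => (twoPart (q.1 * q.2)) ^ k = J) = pairsIn J z ρ := by
  haveI : Fact (Nat.Prime 2) := ⟨Nat.prime_two⟩
  ext ⟨x, x'⟩
  unfold pairsOver pairsIn
  simp only [Finset.mem_filter, Finset.mem_product, mem_classFinset, mem_invols]
  constructor
  · rintro ⟨⟨⟨hx, hx'⟩, hc⟩, htk⟩
    obtain ⟨hxx, hx1⟩ := conj_involution S.J_mul_self S.J_ne_one hx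
    obtain ⟨hx'x', hx'1⟩ := conj_involution S.J_mul_self S.J_ne_one hx'
    have hxi := inv_eq_self_of_mul_self hxx
    have hx'i := inv_eq_self_of_mul_self hx'x'
    have ht := twoPart_spec (x * x')
    obtain ⟨t, htdef⟩ : ∃ t : G, t = twoPart (x * x') := ⟨_, rfl⟩
    rw [← htdef] at ht hc htk
    have hyinv : (x * x')⁻¹ = x' * x := by rw [mul_inv_rev, hxi, hx'i]
    have hinv1 : x * (x * x') * x⁻¹ = (x * x')⁻¹ := by
      rw [hyinv, hxi]
      calc x * (x * x') * x = (x * x) * x' * x := by group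
        _ = x' * x := by rw [hxx, one_mul]
    have hinv2 : x' * (x * x') * x'⁻¹ = (x * x')⁻¹ := by
      rw [hyinv, hx'i]
      calc x' * (x * x') * x' = x' * x * (x' * x') := by group
        _ = x' * x := by rw [hx'x', mul_one]
    have h1 := isPPart_inverted ht hinv1
    have h2 := isPPart_inverted ht hinv2
    have hxC : x ∈ Subgroup.centralizer ({J} : Set G) := by
      rw [mem_cent_iff, ← htk, ← conj_pow, h1, inv_pow, htk, S.J_inv]
    have hx'C : x' ∈ Subgroup.centralizer ({J} : Set G) := by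
      rw [mem_cent_iff, ← htk, ← conj_pow, h2, inv_pow, htk, S.J_inv]
    -- the images
    have hyC : x * x' ∈ Subgroup.centralizer ({J} : Set G) := Subgroup.mul_mem _ hxC hx'C
    obtain ⟨d, hd, htd⟩ := S.isPPart_conj hyC ht
    rw [S.ρ_mul x hxC x' hx'C] at htd
    have hne : x ≠ J ∧ x' ≠ J := by
      by_cases hcomm : x * x' = x' * x
      · exact S.ne_J_aux k hxx hx'x' hx1 hx'1 ht htk hcomm
      · constructor
        · intro hxJ
          apply hcomm
          have := (Subgroup.mem_centralizer_singleton_iff.mp hx'C)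
          rw [hxJ]
          exact this.symm
        · intro hx'J
          apply hcomm
          have := (Subgroup.mem_centralizer_singleton_iff.mp hxC)
          rw [hx'J]
          exact this
    refine ⟨⟨⟨hxC, hxx, hx1, hne.1⟩, ⟨hx'C, hx'x', hx'1, hne.2⟩⟩, ?_⟩
    have hs := S.ρ_mul_mem hxC hxx hx1 hne.1 hx'C hx'x' hx'1 hne.2
    have ht1 : t ≠ 1 := by
      intro h
      rw [h] at hc
      exact hz1 (isConj_one_right.mp hc)
    have hs1 : ρ x * ρ x' ≠ 1 := by
      intro h
      apply ht1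
      rw [htd, h]
      group
    have hsc : IsConj (ρ x * ρ x') z := by
      have : IsConj (ρ x * ρ x') t := by
        rw [htd]; exact isConj_iff.mpr ⟨d, rfl⟩
      exact this.trans hc
    rcases (isConj_iff_of_mem P S.hN3 S.dih _ z hs hz hs1).mp hsc with h | h
    · left; exact h.symm
    · right; rw [h, inv_inv]
  · rintro ⟨⟨⟨hxC, hxx, hx1, hxJ⟩, ⟨hx'C, hx'x', hx'1, hx'J⟩⟩, hs⟩
    have ht := twoPart_spec (x * x')
    obtain ⟨t, htdef⟩ : ∃ t : G, t = twoPart (x * x') := ⟨_, rfl⟩
    rw [← htdef] at ht ⊢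
    have hyC : x * x' ∈ Subgroup.centralizer ({J} : Set G) := Subgroup.mul_mem _ hxC hx'C
    obtain ⟨d, hd, htd⟩ := S.isPPart_conj hyC ht
    rw [S.ρ_mul x hxC x' hx'C] at htd
    have hzinv : IsConj z z⁻¹ := by
      have := S.dih.inv_of_mem S.hτ S.τ_not_mem hz
      exact isConj_iff.mpr ⟨τ, this⟩
    have hdJ := (mem_cent_iff J d).mp hd
    refine ⟨⟨⟨S.isConj_of_involution hxx hx1, S.isConj_of_involution hx'x' hx'1⟩, ?_⟩, ?_⟩
    · rcases hs with h | h
      · rw [htd, h]
        exact (isConj_iff.mpr ⟨d, rfl⟩ : IsConj z (d * z * d⁻¹)).symm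
      · rw [htd, h]
        exact ((isConj_iff.mpr ⟨d, rfl⟩ : IsConj z⁻¹ (d * z⁻¹ * d⁻¹)).symm).trans hzinv.symm
    · rcases hs with h | h
      · rw [htd, h, conj_pow, hzk, hdJ]
      · rw [htd, h, conj_pow, inv_pow, hzk, S.J_inv, hdJ]

open Classical in
/-- **Counting through the central involution.** -/
theorem card_pairsOver [Fintype G] (S : Setting P σ τ J N H ρ) (z : G)
    (hz : z ∈ Subgroup.zpowers σ) (hz1 : z ≠ 1) (k : ℕ) (hzk : z ^ k = J) :
    (pairsOver J z).card = (classFinset J).card * (pairsIn J z ρ).card := by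
  rw [← S.fiber_eq z hz hz1 k hzk]
  apply card_eq_card_class_mul_fiber J (pairsOver J z) (fun q => (twoPart (q.1 * q.2)) ^ k)
  · intro a ha g
    unfold pairsOver at ha ⊢
    simp only [Finset.mem_filter, Finset.mem_product, mem_classFinset] at ha ⊢
    refine ⟨⟨ha.1.1.trans (isConj_iff.mpr ⟨g, rfl⟩), ha.1.2.trans (isConj_iff.mpr ⟨g, rfl⟩)⟩, ?_⟩
    have : g * a.1 * g⁻¹ * (g * a.2 * g⁻¹) = g * (a.1 * a.2) * g⁻¹ := by group
    rw [this, twoPart_conj]
    exact ((isConj_iff.mpr ⟨g, rfl⟩ : IsConj (twoPart (a.1 * a.2)) _).symm).trans ha.2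
  · intro a _ g
    have : g * a.1 * g⁻¹ * (g * a.2 * g⁻¹) = g * (a.1 * a.2) * g⁻¹ := by group
    show twoPart (g * a.1 * g⁻¹ * (g * a.2 * g⁻¹)) ^ k = g * twoPart (a.1 * a.2) ^ k * g⁻¹
    rw [this, twoPart_conj, conj_pow]
  · intro a ha
    unfold pairsOver at ha
    simp only [Finset.mem_filter, Finset.mem_product, mem_classFinset] at ha
    obtain ⟨c, hc⟩ := isConj_iff.mp ha.2
    have h1 : c * twoPart (a.1 * a.2) ^ k * c⁻¹ = J := by
      rw [← conj_pow, hc, hzk]
    exact (isConj_iff.mpr ⟨c, h1⟩ : IsConj (twoPart (a.1 * a.2) ^ k) J).symm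

end Setting

end Cfsg.Agent.Helper6.DihOrd
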