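import Mathlib
import Cfsg.Agent.Helper6.DihOrdF

/-!
# Brauer's order formula: the twisting bijection and the count of pairs in `C(J)`
-/

set_option autoImplicit false
set_option linter.style.haveILetI false

namespace Cfsg.Agent.Helper6.DihOrd

open Cfsg.Agent.Helper6.DihBr

universe u

variable {G : Type u} [Group G]

theorem periodic_even (g : ℕ → ℕ) (hg : ∀ k, g (k + 2) = g k) (j : ℕ) : g (2 * j) = g 0 := by
  induction j with
  | zero => rfl
  | succ j ih =>
    have : 2 * (j + 1) = 2 * j + 2 := by ring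
    rw [this, hg, ih]

theorem periodic_odd (g : ℕ → ℕ) (hg : ∀ k, g (k + 2) = g k) (j : ℕ) : g (2 * j + 1) = g 1 := by
  induction j with
  | zero => rfl
  | succ j ih =>
    have : 2 * (j + 1) + 1 = 2 * j + 1 + 2 := by ring
    rw [this, hg, ih]

theorem periodic_sum (g : ℕ → ℕ) (hg : ∀ k, g (k + 2) = g k) (H : ℕ) :
    ∑ k ∈ Finset.range (2 * H), g k = H * (g 0 + g 1) := by
  induction H with
  | zero => simp
  | succ H ih =>
    have : 2 * (H + 1) = 2 * H + 1 + 1 := by ring
    rw [this, Finset.sum_range_succ, Finset.sum_range_succ, ih, periodic_even g hg,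
      periodic_odd g hg]
    ring

open Classical in
/-- The pairs of involutions of `C(J)` other than `J` whose images multiply to `s`. -/
noncomputable def pairsAt [Fintype G] (J s : G) (ρ : G → G) : Finset (G × G) :=
  (invols J ×ˢ invols J).filter (fun q => ρ q.1 * ρ q.2 = s)

namespace Setting

variable {P : Sylow 2 G} {σ τ J : G} {N H : ℕ} {ρ : G → G}

/-- Conjugation by an element of `⟨σ⟩` preserves the involutions of `C(J)` other than `J`
and multiplies the image by its square. -/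
theorem conj_invols [Fintype G] (S : Setting P σ τ J N H ρ) {a v : G}
    (ha : a ∈ Subgroup.zpowers σ) (hv : v ∈ invols J) :
    a * v * a⁻¹ ∈ invols J ∧ ρ (a * v * a⁻¹) = a * a * ρ v := by
  rw [mem_invols] at hv ⊢
  obtain ⟨hvC, hvv, hv1, hvJ⟩ := hv
  have haP := S.dih.zpowers_le ha
  have haC := S.le_cent haP
  have haiC := Subgroup.inv_mem _ haC
  have hJa := (mem_cent_iff J a).mp haC
  refine ⟨⟨Subgroup.mul_mem _ (Subgroup.mul_mem _ haC hvC) haiC, ?_, ?_, ?_⟩, ?_⟩
  · calc a * v * a⁻¹ * (a * v * a⁻¹) = a * (v * v) * a⁻¹ := by group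
      _ = 1 := by rw [hvv]; group
  · intro h
    apply hv1
    have : v = a⁻¹ * (a * v * a⁻¹) * a := by group
    rw [this, h]; group
  · intro h
    apply hvJ
    have : v = a⁻¹ * (a * v * a⁻¹) * a := by group
    rw [this, h]
    have h2 : a⁻¹ * J * a = a⁻¹ * (a * J * a⁻¹) * a := by rw [hJa]
    rw [h2]; group
  · obtain ⟨h1, h2, h3⟩ := S.ρ_involution hvC hvv hv1 hvJ
    rw [S.ρ_mul _ (Subgroup.mul_mem _ haC hvC) _ haiC, S.ρ_mul a haC v hvC, S.ρ_fix a haP,
      S.ρ_fix a⁻¹ (Subgroup.inv_mem _ haP)]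
    have h4 := S.dih.inv_of_mem h1 h2 (Subgroup.inv_mem _ ha)
    rw [inv_inv] at h4
    calc a * ρ v * a⁻¹ = a * (ρ v * a⁻¹ * (ρ v)⁻¹) * ρ v := by group
      _ = a * a * ρ v := by rw [h4]

open Classical in
theorem card_pairsAt_le [Fintype G] (S : Setting P σ τ J N H ρ) {a : G}
    (ha : a ∈ Subgroup.zpowers σ) (s : G) :
    (pairsAt J s ρ).card ≤ (pairsAt J (a⁻¹ * a⁻¹ * s) ρ).card := by
  apply Finset.card_le_card_of_injOn (fun q => (q.1, a * q.2 * a⁻¹))
  · intro q hq
    unfold pairsAt at hq ⊢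
    simp only [Finset.coe_filter, Set.mem_ofPred_eq, Finset.mem_product] at hq ⊢
    obtain ⟨⟨hu, hv⟩, hs⟩ := hq
    obtain ⟨h1, h2⟩ := S.conj_invols ha hv
    refine ⟨⟨hu, h1⟩, ?_⟩
    rw [h2, ← hs]
    have hu' := (mem_invols J q.1).mp hu
    obtain ⟨h3, h4, h5⟩ := S.ρ_involution hu'.1 hu'.2.1 hu'.2.2.1 hu'.2.2.2
    have h6 := S.dih.inv_of_mem h3 h4 (Subgroup.mul_mem _ ha ha)
    calc ρ q.1 * (a * a * ρ q.2) = (ρ q.1 * (a * a) * (ρ q.1)⁻¹) * (ρ q.1 * ρ q.2) := by group
      _ = a⁻¹ * a⁻¹ * (ρ q.1 * ρ q.2) := by rw [h6, mul_inv_rev]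
  · intro q _ q' _ hqq'
    have h3 := congrArg Prod.fst hqq'
    have h4 := congrArg Prod.snd hqq'
    simp only [mul_left_inj, mul_right_inj] at h3 h4
    exact Prod.ext h3 h4

open Classical in
/-- **The twisting bijection.** -/
theorem card_pairsAt_twist [Fintype G] (S : Setting P σ τ J N H ρ) {a : G}
    (ha : a ∈ Subgroup.zpowers σ) (s : G) :
    (pairsAt J (a * a * s) ρ).card = (pairsAt J s ρ).card := by
  apply le_antisymm
  · have := S.card_pairsAt_le ha (a * a * s)
    have h1 : a⁻¹ * a⁻¹ * (a * a * s) = s := by group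
    rw [h1] at this
    exact this
  · have := S.card_pairsAt_le (Subgroup.inv_mem _ ha) s
    rw [inv_inv] at this
    exact this

open Classical in
theorem card_pairsAt_pow [Fintype G] (S : Setting P σ τ J N H ρ) (k : ℕ) :
    (pairsAt J (σ ^ (k + 2)) ρ).card = (pairsAt J (σ ^ k) ρ).card := by
  have := S.card_pairsAt_twist (Subgroup.mem_zpowers σ) (σ ^ k)
  rw [← this]
  congr 2
  rw [add_comm, pow_add, pow_two]

open Classical in
/-- The pairs are partitioned by the product of their images. -/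
theorem sum_card_pairsAt [Fintype G] (S : Setting P σ τ J N H ρ) :
    ∑ k ∈ Finset.range N, (pairsAt J (σ ^ k) ρ).card = (invols J).card ^ 2 := by
  have hinj : Set.InjOn (fun k : ℕ => σ ^ k) (Finset.range N : Set ℕ) := by
    intro a ha b hb hab
    rw [Finset.coe_range, ← S.dih.order] at ha hb
    exact pow_injOn_Iio_orderOf ha hb hab
  have h1 : (invols J ×ˢ invols J).card =
      ∑ s ∈ (Finset.range N).image (fun k : ℕ => σ ^ k),
        ((invols J ×ˢ invols J).filter (fun q => ρ q.1 * ρ q.2 = s)).card := by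
    apply Finset.card_eq_sum_card_fiberwise
    intro q hq
    rw [Finset.mem_coe, Finset.mem_product] at hq
    have hu := (mem_invols J q.1).mp hq.1
    have hv := (mem_invols J q.2).mp hq.2
    have hs := S.ρ_mul_mem hu.1 hu.2.1 hu.2.2.1 hu.2.2.2 hv.1 hv.2.1 hv.2.2.1 hv.2.2.2
    rw [Finset.mem_coe, Finset.mem_image]
    have hfin : IsOfFinOrder σ := isOfFinOrder_of_finite σ
    rw [← mem_powers_iff_mem_zpowers, hfin.mem_powers_iff_mem_range_orderOf, S.dih.order] at hs
    exact Finset.mem_image.mp hs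
  rw [Finset.sum_image hinj] at h1
  rw [pow_two, ← Finset.card_product, h1]
  rfl

open Classical in
theorem card_pairsIn_J [Fintype G] (S : Setting P σ τ J N H ρ) :
    (pairsIn J J ρ).card = (pairsAt J (σ ^ 0) ρ).card := by
  obtain ⟨m, hm⟩ := S.hH2
  have h1 : (pairsAt J (σ ^ H) ρ).card = (pairsAt J (σ ^ 0) ρ).card := by
    rw [hm]
    exact periodic_even (fun k => (pairsAt J (σ ^ k) ρ).card) S.card_pairsAt_pow m
  rw [← h1, ← S.hJ]
  unfold pairsIn pairsAt
  congr 1
  apply Finset.filter_congr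
  intro q _
  rw [S.J_inv, or_self]

open Classical in
theorem card_pairsIn_σ [Fintype G] (S : Setting P σ τ J N H ρ) :
    (pairsIn J σ ρ).card = 2 * (pairsAt J (σ ^ 1) ρ).card := by
  have hN4 := S.hN4
  have hσinv : σ⁻¹ = σ ^ (N - 1) := by
    rw [eq_comm, ← mul_eq_one_iff_eq_inv, ← pow_succ, Nat.sub_add_cancel (by omega), ← S.dih.order,
      pow_orderOf_eq_one]
  have h1 : (pairsAt J (σ ^ (N - 1)) ρ).card = (pairsAt J (σ ^ 1) ρ).card := by
    have : N - 1 = 2 * (H - 1) + 1 := by have := S.hNH; have := S.hH0; omega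
    rw [this]
    exact periodic_odd (fun k => (pairsAt J (σ ^ k) ρ).card) S.card_pairsAt_pow (H - 1)
  have hne : σ ≠ σ⁻¹ := by
    intro h
    have h6 : σ ^ 2 = 1 := by
      rw [pow_two]
      have h8 : σ * σ = σ * σ⁻¹ := congrArg (σ * ·) h
      rw [h8, mul_inv_cancel]
    have h7 := orderOf_dvd_of_pow_eq_one h6
    rw [S.dih.order] at h7
    have := Nat.le_of_dvd (by norm_num) h7
    omega
  have h2 : pairsIn J σ ρ = pairsAt J (σ ^ 1) ρ ∪ pairsAt J (σ ^ (N - 1)) ρ := by
    unfold pairsIn pairsAt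
    rw [← Finset.filter_or, pow_one, ← hσinv]
  rw [h2, Finset.card_union_of_disjoint, h1, two_mul]
  unfold pairsAt
  rw [Finset.disjoint_filter]
  intro q _ h3 h4
  rw [pow_one] at h3
  rw [← hσinv] at h4
  exact hne (h3.symm.trans h4)

open Classical in
/-- **The count of pairs in `C(J)`.** -/
theorem count_pairsIn [Fintype G] (S : Setting P σ τ J N H ρ) :
    N * (pairsIn J σ ρ).card + 2 * N * (pairsIn J J ρ).card = 4 * (invols J).card ^ 2 := by
  have h1 := S.sum_card_pairsAt
  rw [S.hNH, periodic_sum (fun k => (pairsAt J (σ ^ k) ρ).card) S.card_pairsAt_pow H] at h1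
  rw [S.card_pairsIn_J, S.card_pairsIn_σ, ← h1, S.hNH]
  ring

end Setting

end Cfsg.Agent.Helper6.DihOrd
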