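import Mathlib
import Cfsg.Agent.Helper6.DihOrdF
import Cfsg.Agent.Helper6.BLeoG
import Cfsg.Agent.Helper6.BrauerAppE

/-!
# Brauer's order formula: the number of involutions of `C(J)` other than `J`
-/

set_option autoImplicit false
set_option linter.style.haveILetI false

namespace Cfsg.Agent.Helper6.DihOrd

open Cfsg.Agent.Helper6.DihBr

universe u

variable {G : Type u} [Group G]

/-- The orbit of `y` under a subgroup `C`. -/
def orbitSet (C : Subgroup G) (y : G) : Set G :=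
  Set.range (fun x : C => (x : G) * y * (x : G)⁻¹)

theorem card_orbitSet [Finite G] (C : Subgroup G) (y : G) :
    Nat.card ↥C = Nat.card ↥(C ⊓ Subgroup.centralizer ({y} : Set G)) * (orbitSet C y).ncard := by
  rw [← Nat.card_coe_set_eq]
  exact Cfsg.Agent.Helper6.BLeo.card_eq_mul_card_range _ _ (fun a => card_conj_fiber C y a a.2)

theorem centralizer_pair (J y : G) :
    Subgroup.centralizer ({J} : Set G) ⊓ Subgroup.centralizer ({y} : Set G) =
      Subgroup.centralizer ({J, y} : Set G) := by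
  ext g
  rw [Subgroup.mem_inf, Subgroup.mem_centralizer_singleton_iff,
    Subgroup.mem_centralizer_singleton_iff, Subgroup.mem_centralizer_iff]
  constructor
  · rintro ⟨h1, h2⟩ h hh
    rcases hh with rfl | rfl
    · exact h1.symm
    · exact h2.symm
  · intro h
    exact ⟨(h J (by simp)).symm, (h y (by simp)).symm⟩

namespace Setting

variable {P : Sylow 2 G} {σ τ J : G} {N H : ℕ} {ρ : G → G}

theorem στ_props (S : Setting P σ τ J N H ρ) :
    σ * τ ∈ (P : Subgroup G) ∧ σ * τ ∉ Subgroup.zpowers σ ∧ (σ * τ) * (σ * τ) = 1 := by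
  have h1 : σ * τ ∈ (P : Subgroup G) := Subgroup.mul_mem _ S.dih.mem S.hτ
  have h2 : σ * τ ∉ Subgroup.zpowers σ := by
    intro h
    apply S.τ_not_mem
    have : τ = σ⁻¹ * (σ * τ) := by group
    rw [this]
    exact Subgroup.mul_mem _ (Subgroup.inv_mem _ (Subgroup.mem_zpowers σ)) h
  exact ⟨h1, h2, (S.dih.inv _ h1 h2).1⟩

/-- Conjugates of a noncentral involution of `P` under `C(J)` are involutions other than `J`. -/
theorem conj_mem_invols [Fintype G] (S : Setting P σ τ J N H ρ) {y : G}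
    (hy : y ∈ (P : Subgroup G)) (hys : y ∉ Subgroup.zpowers σ) (x : G)
    (hx : x ∈ Subgroup.centralizer ({J} : Set G)) : x * y * x⁻¹ ∈ invols J := by
  rw [mem_invols]
  have hyy := (S.dih.inv y hy hys).1
  have hyC := S.le_cent hy
  have hJx := (mem_cent_iff J x).mp hx
  refine ⟨Subgroup.mul_mem _ (Subgroup.mul_mem _ hx hyC) (Subgroup.inv_mem _ hx), ?_, ?_, ?_⟩
  · calc x * y * x⁻¹ * (x * y * x⁻¹) = x * (y * y) * x⁻¹ := by group
      _ = 1 := by rw [hyy]; group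
  · intro h
    apply hys
    have : y = x⁻¹ * (x * y * x⁻¹) * x := by group
    rw [this, h]
    have : x⁻¹ * 1 * x = 1 := by group
    rw [this]
    exact Subgroup.one_mem _
  · intro h
    apply hys
    have : y = x⁻¹ * (x * y * x⁻¹) * x := by group
    rw [this, h]
    have h2 : x⁻¹ * J * x = x⁻¹ * (x * J * x⁻¹) * x := by rw [hJx]
    rw [h2]
    have : x⁻¹ * (x * J * x⁻¹) * x = J := by group
    rw [this]
    exact S.J_mem

/-- `τ` and `σ τ` are not conjugate in `P`. -/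
theorem not_conj_in_P (S : Setting P σ τ J N H ρ) (p : G) (hp : p ∈ (P : Subgroup G)) :
    p * τ * p⁻¹ ≠ σ * τ := by
  have hτi := inv_eq_self_of_mul_self S.τ_mul_self
  have hconj : ∀ j : ℤ, τ * (σ ^ j)⁻¹ = σ ^ j * τ := by
    intro j
    have h1 : τ * σ ^ j * τ⁻¹ = (σ ^ j)⁻¹ := by
      rw [← conj_zpow, S.hrel, inv_zpow]
    have h2 : τ * (σ ^ j)⁻¹ = (τ * σ ^ j * τ⁻¹)⁻¹ * τ := by group
    rw [h2, h1, inv_inv]
  have key : ∃ i : ℤ, p * τ * p⁻¹ = σ ^ (2 * i) * τ := by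
    by_cases hps : p ∈ Subgroup.zpowers σ
    · obtain ⟨i, rfl⟩ := Subgroup.mem_zpowers_iff.mp hps
      refine ⟨i, ?_⟩
      rw [mul_assoc, hconj i, ← mul_assoc, ← zpow_add, two_mul]
    · obtain ⟨i, rfl⟩ := exists_zpow_mul S.dih S.hN3 S.hτ S.τ_not_mem hp hps
      refine ⟨i, ?_⟩
      have : σ ^ i * τ * τ * (σ ^ i * τ)⁻¹ = σ ^ i * (τ * τ) * τ⁻¹ * (σ ^ i)⁻¹ := by group
      rw [this, S.τ_mul_self, hτi, mul_one, mul_assoc, hconj i, ← mul_assoc, ← zpow_add, two_mul]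
  obtain ⟨i, hi⟩ := key
  rw [hi]
  intro h
  have h1 : σ ^ (2 * i) = σ ^ (1 : ℤ) := by
    rw [zpow_one]
    exact mul_right_cancel h
  rw [zpow_eq_zpow_iff_modEq, S.dih.order] at h1
  have h2 := h1.dvd
  rw [S.hNH] at h2
  obtain ⟨c, hc⟩ := h2
  push_cast at hc
  obtain ⟨w, hw⟩ : ∃ w : ℤ, (H : ℤ) * c = w := ⟨_, rfl⟩
  rw [mul_assoc, hw] at hc
  omega

/-- The involutions of `C(J)` other than `J` form the two orbits of `τ` and `σ τ`. -/
theorem coe_invols [Fintype G] (S : Setting P σ τ J N H ρ) :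
    (invols J : Set G) = orbitSet (Subgroup.centralizer ({J} : Set G)) τ ∪
      orbitSet (Subgroup.centralizer ({J} : Set G)) (σ * τ) := by
  ext u
  rw [Finset.mem_coe, Set.mem_union]
  unfold orbitSet
  simp only [Set.mem_range, Subtype.exists, exists_prop]
  constructor
  · intro hu
    rw [mem_invols] at hu
    obtain ⟨huC, huu, hu1, huJ⟩ := hu
    have huo : orderOf u = 2 := by
      apply orderOf_eq_prime
      · rw [pow_two, huu]
      · exact hu1
    obtain ⟨d, hd, hud⟩ := S.ρ_conj u huC ⟨1, by rw [huo, pow_one]⟩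
    obtain ⟨h1, h2, -⟩ := S.ρ_involution huC huu hu1 huJ
    obtain ⟨i, hi⟩ := exists_zpow_mul S.dih S.hN3 S.hτ S.τ_not_mem h1 h2
    have hσC : ∀ j : ℤ, σ ^ j ∈ Subgroup.centralizer ({J} : Set G) := fun j =>
      S.le_cent (S.dih.zpowers_le (Subgroup.zpow_mem_zpowers σ j))
    obtain ⟨j, hj | hj⟩ := zpow_mul_conj S.hrel i
    · left
      refine ⟨d * σ ^ j, Subgroup.mul_mem _ hd (hσC j), ?_⟩
      rw [hud, hi, hj]
      group
    · right
      refine ⟨d * σ ^ j, Subgroup.mul_mem _ hd (hσC j), ?_⟩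
      rw [hud, hi, hj]
      group
  · rintro (⟨x, hx, rfl⟩ | ⟨x, hx, rfl⟩)
    · exact S.conj_mem_invols S.hτ S.τ_not_mem x hx
    · exact S.conj_mem_invols S.στ_props.1 S.στ_props.2.1 x hx

theorem disjoint_orbits (S : Setting P σ τ J N H ρ) :
    Disjoint (orbitSet (Subgroup.centralizer ({J} : Set G)) τ)
      (orbitSet (Subgroup.centralizer ({J} : Set G)) (σ * τ)) := by
  rw [Set.disjoint_left]
  rintro u ⟨x, rfl⟩ ⟨x', hx'⟩
  have hτC := S.le_cent S.hτ
  have hστC := S.le_cent S.στ_props.1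
  have h1 := congrArg ρ hx'
  simp only at h1
  rw [S.ρ_mul _ (Subgroup.mul_mem _ x'.2 hστC) _ (Subgroup.inv_mem _ x'.2),
    S.ρ_mul _ x'.2 _ hστC, S.ρ_mul _ (Subgroup.mul_mem _ x.2 hτC) _ (Subgroup.inv_mem _ x.2),
    S.ρ_mul _ x.2 _ hτC, S.ρ_fix _ S.hτ, S.ρ_fix _ S.στ_props.1] at h1
  have hinv : ∀ c ∈ Subgroup.centralizer ({J} : Set G), ρ c⁻¹ = (ρ c)⁻¹ := by
    intro c hc
    have := S.ρ_mul c hc c⁻¹ (Subgroup.inv_mem _ hc)
    rw [mul_inv_cancel, S.ρ_fix 1 (Subgroup.one_mem _)] at this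
    exact eq_inv_of_mul_eq_one_right this.symm
  rw [hinv _ x.2, hinv _ x'.2] at h1
  apply S.not_conj_in_P ((ρ x')⁻¹ * ρ x)
    (Subgroup.mul_mem _ (Subgroup.inv_mem _ (S.ρ_mem _ x'.2)) (S.ρ_mem _ x.2))
  calc (ρ x')⁻¹ * ρ x * τ * ((ρ x')⁻¹ * ρ x)⁻¹ = (ρ x')⁻¹ * (ρ x * τ * (ρ x)⁻¹) * ρ x' := by group
    _ = (ρ x')⁻¹ * (ρ x' * (σ * τ) * (ρ x')⁻¹) * ρ x' := by rw [h1]
    _ = σ * τ := by group

/-- **The number of involutions of `C(J)` other than `J`.** -/
theorem card_invols [Fintype G] (S : Setting P σ τ J N H ρ) :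
    ((invols J).card : ℚ) =
      (Nat.card ↥(Subgroup.centralizer ({J} : Set G)) : ℚ) /
        (Nat.card ↥(Subgroup.centralizer ({J, τ} : Set G)) : ℚ) +
      (Nat.card ↥(Subgroup.centralizer ({J} : Set G)) : ℚ) /
        (Nat.card ↥(Subgroup.centralizer ({J, σ * τ} : Set G)) : ℚ) := by
  have h1 : (invols J).card = (orbitSet (Subgroup.centralizer ({J} : Set G)) τ).ncard +
      (orbitSet (Subgroup.centralizer ({J} : Set G)) (σ * τ)).ncard := by
    rw [← Set.ncard_coe_finset, S.coe_invols]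
    exact Set.ncard_union_eq S.disjoint_orbits (Set.toFinite _) (Set.toFinite _)
  have h2 := card_orbitSet (Subgroup.centralizer ({J} : Set G)) τ
  have h3 := card_orbitSet (Subgroup.centralizer ({J} : Set G)) (σ * τ)
  rw [centralizer_pair] at h2 h3
  have h4 : (Nat.card ↥(Subgroup.centralizer ({J, τ} : Set G)) : ℚ) ≠ 0 := by
    have : 0 < Nat.card ↥(Subgroup.centralizer ({J, τ} : Set G)) := Nat.card_pos
    exact_mod_cast this.ne'
  have h5 : (Nat.card ↥(Subgroup.centralizer ({J, σ * τ} : Set G)) : ℚ) ≠ 0 := by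
    have : 0 < Nat.card ↥(Subgroup.centralizer ({J, σ * τ} : Set G)) := Nat.card_pos
    exact_mod_cast this.ne'
  have e2 : ((orbitSet (Subgroup.centralizer ({J} : Set G)) τ).ncard : ℚ) =
      (Nat.card ↥(Subgroup.centralizer ({J} : Set G)) : ℚ) /
        (Nat.card ↥(Subgroup.centralizer ({J, τ} : Set G)) : ℚ) := by
    rw [eq_div_iff h4, mul_comm]
    exact_mod_cast h2.symm
  have e3 : ((orbitSet (Subgroup.centralizer ({J} : Set G)) (σ * τ)).ncard : ℚ) =
      (Nat.card ↥(Subgroup.centralizer ({J} : Set G)) : ℚ) /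
        (Nat.card ↥(Subgroup.centralizer ({J, σ * τ} : Set G)) : ℚ) := by
    rw [eq_div_iff h5, mul_comm]
    exact_mod_cast h3.symm
  rw [h1, Nat.cast_add, e2, e3]

end Setting

end Cfsg.Agent.Helper6.DihOrd
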