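import Mathlib
import Cfsg.Prelude.Def_Characters
import Cfsg.Prelude.Def_Blocks
import Cfsg.Agent.Helper6.DihBrQ
import Cfsg.Agent.Helper6.BlockOrth

/-!
# Brauer's order formula: the character-theoretic side
-/

set_option autoImplicit false
set_option linter.style.haveILetI false

namespace Cfsg.Agent.Helper6.DihOrd

open Cfsg.Agent.Helper6.DihBr

open scoped ComplexConjugate

universe u

variable {G : Type u} [Group G] {M : Ideal Cfsg.AlgInt}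

/-- A sum over a set listed as four points and a family. -/
theorem finsum_mem_five {ι : Type*} [Fintype ι] [DecidableEq ι] {n : ℕ} (B : Set ι)
    (p₀ p₁ p₂ p₃ : ι) (p' : Fin n → ι) (hinj : Function.Injective p')
    (h01 : p₀ ≠ p₁) (h02 : p₀ ≠ p₂) (h03 : p₀ ≠ p₃) (h12 : p₁ ≠ p₂) (h13 : p₁ ≠ p₃)
    (h23 : p₂ ≠ p₃) (h' : ∀ j, p' j ≠ p₀ ∧ p' j ≠ p₁ ∧ p' j ≠ p₂ ∧ p' j ≠ p₃)
    (hB : ∀ χ, χ ∈ B ↔ (χ = p₀ ∨ χ = p₁ ∨ χ = p₂ ∨ χ = p₃ ∨ ∃ j, χ = p' j)) (f : ι → ℂ) :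
    ∑ᶠ χ ∈ B, f χ = f p₀ + f p₁ + f p₂ + f p₃ + ∑ j, f (p' j) := by
  have hBs : B = ↑(insert p₀ (insert p₁ (insert p₂ (insert p₃ (Finset.univ.image p'))))) := by
    ext χ
    rw [hB]
    simp only [Finset.coe_insert, Finset.coe_image, Finset.coe_univ, Set.image_univ,
      Set.mem_insert_iff, Set.mem_range]
    constructor
    · rintro (h | h | h | h | ⟨j, h⟩)
      · exact Or.inl h
      · exact Or.inr (Or.inl h)
      · exact Or.inr (Or.inr (Or.inl h))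
      · exact Or.inr (Or.inr (Or.inr (Or.inl h)))
      · exact Or.inr (Or.inr (Or.inr (Or.inr ⟨j, h.symm⟩)))
    · rintro (h | h | h | h | ⟨j, h⟩)
      · exact Or.inl h
      · exact Or.inr (Or.inl h)
      · exact Or.inr (Or.inr (Or.inl h))
      · exact Or.inr (Or.inr (Or.inr (Or.inl h)))
      · exact Or.inr (Or.inr (Or.inr (Or.inr ⟨j, h.symm⟩)))
  rw [hBs, finsum_mem_coe_finset]
  have hn3 : p₃ ∉ Finset.univ.image p' := by
    intro h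
    obtain ⟨j, -, hj⟩ := Finset.mem_image.mp h
    exact (h' j).2.2.2 hj
  have hn2 : p₂ ∉ insert p₃ (Finset.univ.image p') := by
    intro h
    rcases Finset.mem_insert.mp h with h | h
    · exact h23 h
    · obtain ⟨j, -, hj⟩ := Finset.mem_image.mp h
      exact (h' j).2.2.1 hj
  have hn1 : p₁ ∉ insert p₂ (insert p₃ (Finset.univ.image p')) := by
    intro h
    rcases Finset.mem_insert.mp h with h | h
    · exact h12 h
    · rcases Finset.mem_insert.mp h with h | h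
      · exact h13 h
      · obtain ⟨j, -, hj⟩ := Finset.mem_image.mp h
        exact (h' j).2.1 hj
  have hn0 : p₀ ∉ insert p₁ (insert p₂ (insert p₃ (Finset.univ.image p'))) := by
    intro h
    rcases Finset.mem_insert.mp h with h | h
    · exact h01 h
    · rcases Finset.mem_insert.mp h with h | h
      · exact h02 h
      · rcases Finset.mem_insert.mp h with h | h
        · exact h03 h
        · obtain ⟨j, -, hj⟩ := Finset.mem_image.mp h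
          exact (h' j).1 hj
  rw [Finset.sum_insert hn0, Finset.sum_insert hn1, Finset.sum_insert hn2, Finset.sum_insert hn3,
    Finset.sum_image (fun a _ b _ hab => hinj hab)]
  ring

theorem int_pm_cast_sq {δ : ℤ} (hδ : δ = 1 ∨ δ = -1) : ((δ : ℂ)) ^ 2 = 1 := by
  rcases hδ with rfl | rfl <;> norm_num

theorem int_pm_cast_ne_zero {δ : ℤ} (hδ : δ = 1 ∨ δ = -1) : ((δ : ℂ)) ≠ 0 := by
  rcases hδ with rfl | rfl <;> norm_num

open Classical in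
/-- **The character-theoretic side of the order formula.** -/
theorem char_side [Finite G] (hM : Cfsg.IsPModular 2 M) (P : Sylow 2 G) (σ : G) (N H : ℕ)
    (hNH : N = 2 * H) (hH2 : 2 ∣ H) (hH0 : H ≠ 0)
    (e : Nonempty (↥(P : Subgroup G) ≃* DihedralGroup N)) (hσ : σ ∈ (P : Subgroup G))
    (hσo : orderOf σ = N) (χ₁ : Cfsg.IrrCharacter G) (hχ₁ : χ₁ ∈ Cfsg.principalBlock M G)
    (h1 : (χ₁ : G → ℂ) ≠ (fun _ => 1)) (δ₁ : ℤ) (hδ₁ : δ₁ = 1 ∨ δ₁ = -1)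
    (hval : ∀ l : ℕ, 0 < l → l < N → (χ₁ : G → ℂ) (σ ^ l) = δ₁) :
    (χ₁ : G → ℂ) 1 + δ₁ ≠ 0 ∧
    (∑ᶠ χ ∈ Cfsg.principalBlock M G, (χ : G → ℂ) (σ ^ H) ^ 2 / (χ : G → ℂ) 1 *
      (conj ((χ : G → ℂ) σ) + conj ((χ : G → ℂ) (σ ^ H)))) *
        ((χ₁ : G → ℂ) 1 * ((χ₁ : G → ℂ) 1 + δ₁)) = 2 * ((χ₁ : G → ℂ) 1 - δ₁) ^ 2 := by
  haveI : Fact (Nat.Prime 2) := ⟨Nat.prime_two⟩
  haveI : Finite (Cfsg.IrrCharacter G) := irr_finite
  haveI : Fintype (Cfsg.IrrCharacter G) := Fintype.ofFinite _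
  have hN0 : N ≠ 0 := by omega
  have hH2' : 2 ≤ H := by
    obtain ⟨m, hm⟩ := hH2
    omega
  have hN4 : 4 ≤ N := by omega
  obtain ⟨ζ, hζ⟩ : ∃ ζ : ℂ, IsPrimitiveRoot ζ N := ⟨_, Complex.isPrimitiveRoot_exp N hN0⟩
  obtain ⟨-, a, b, c, χ', d₁, d₂, d₃, hd₁, hd₂, hd₃, hinj, ha1, hb1, hc1, hab, hac, hbc, hχ',
    hBeq, hvals, hodd⟩ := main hM P σ N H hNH hH2 hH0 e hσ hσo ζ hζ
  have hζH := root_pow_half hNH hH0 ζ hζ
  -- values at `σ` and `J = σ ^ H`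
  have hvσ := hvals 1 (by norm_num) (by omega)
  have hvσ2 := hvals 2 (by norm_num) (by omega)
  have hvJ := hvals H (by omega) (by omega)
  rw [pow_one] at hvσ
  have hHpow : ((-1 : ℂ)) ^ (H + 1) = -1 := by
    have : Odd (H + 1) := by
      obtain ⟨m, hm⟩ := hH2
      exact ⟨m, by omega⟩
    exact this.neg_one_pow
  have hθJ : ∀ j : Fin (H - 1), (χ' j : G → ℂ) (σ ^ H) = d₁ * (2 * (-1) ^ ((j : ℕ) + 1)) := by
    intro j
    rw [hvJ.2.2.2 j, pow_mul', hζH]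
    congr 1
    rcases neg_one_pow_eq_or ℂ ((j : ℕ) + 1) with h | h
    · rw [h]; norm_num
    · rw [h]; norm_num
  have hθJsq : ∀ j : Fin (H - 1), (χ' j : G → ℂ) (σ ^ H) ^ 2 = 4 := by
    intro j
    rw [hθJ, mul_pow, int_pm_cast_sq hd₁, mul_pow, ← pow_mul, mul_comm ((j : ℕ) + 1) 2, pow_mul]
    norm_num
  -- identify `χ₁` with `a`
  have hχ₁B := hχ₁
  rw [hBeq] at hχ₁B
  have hχa : χ₁ = a ∧ δ₁ = d₁ := by
    have hv1 := hval 1 (by norm_num) (by omega)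
    have hv2 := hval 2 (by norm_num) (by omega)
    have hvH := hval H (by omega) (by omega)
    rw [pow_one] at hv1
    rcases hχ₁B with h | h | h | h | ⟨j, h⟩
    · exact absurd h h1
    · refine ⟨h, ?_⟩
      rw [h, hvσ.1] at hv1
      exact_mod_cast hv1.symm
    · exfalso
      rw [h, hvσ.2.1] at hv1
      rw [h, hvσ2.2.1] at hv2
      have h3 : (d₂ : ℂ) * (-1) ^ (1 + 1) = (d₂ : ℂ) * (-1) ^ (2 + 1) := by rw [hv1, hv2]
      have h4 : (d₂ : ℂ) = 0 := by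
        norm_num at h3
        linear_combination h3 / 2
      exact int_pm_cast_ne_zero hd₂ h4
    · exfalso
      rw [h, hvσ.2.2.1] at hv1
      rw [h, hvσ2.2.2.1] at hv2
      have h3 : (d₃ : ℂ) * (-1) ^ (1 + 1) = (d₃ : ℂ) * (-1) ^ (2 + 1) := by rw [hv1, hv2]
      have h4 : (d₃ : ℂ) = 0 := by
        norm_num at h3
        linear_combination h3 / 2
      exact int_pm_cast_ne_zero hd₃ h4
    · exfalso
      rw [h, hθJ j] at hvH
      have h3 : ((d₁ : ℂ) * (2 * (-1) ^ ((j : ℕ) + 1))) ^ 2 = (δ₁ : ℂ) ^ 2 := by rw [hvH]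
      rw [mul_pow, int_pm_cast_sq hd₁, int_pm_cast_sq hδ₁, mul_pow, ← pow_mul,
        mul_comm ((j : ℕ) + 1) 2, pow_mul] at h3
      norm_num at h3
  obtain ⟨rfl, rfl⟩ := hχa
  -- degrees
  have hodd1 : Odd (orderOf (1 : G)) := by rw [orderOf_one]; exact odd_one
  have hj0 : 0 < H - 1 := by omega
  have hdeg : ∀ j : Fin (H - 1), (χ' j : G → ℂ) 1 = (χ₁ : G → ℂ) 1 + δ₁ := by
    intro j
    have h2 := (hodd 1 hodd1 j).2
    have h3 := int_pm_cast_sq hd₁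
    have h4 : (χ' j : G → ℂ) 1 = (δ₁ : ℂ) ^ 2 * (χ' j : G → ℂ) 1 := by rw [h3, one_mul]
    rw [h4]
    linear_combination (-(δ₁ : ℂ)) * h2 + (χ₁ : G → ℂ) 1 * h3
  have hrel := (hodd 1 hodd1 ⟨0, hj0⟩).1
  have hne : (χ₁ : G → ℂ) 1 + δ₁ ≠ 0 := by
    rw [← hdeg ⟨0, hj0⟩]
    exact IsIrrCharacter.apply_one_ne_zero (χ' ⟨0, hj0⟩).2
  refine ⟨hne, ?_⟩
  have hx1 : (χ₁ : G → ℂ) 1 ≠ 0 := IsIrrCharacter.apply_one_ne_zero χ₁.2
  -- the listing of the principal block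
  have hlist : ∀ χ, χ ∈ Cfsg.principalBlock M G ↔
      (χ = trivIrr G ∨ χ = χ₁ ∨ χ = b ∨ χ = c ∨ ∃ j, χ = χ' j) := by
    intro χ
    rw [hBeq]
    constructor
    · rintro (h | h)
      · exact Or.inl (eq_trivIrr_of_coe_eq_one h)
      · exact Or.inr h
    · rintro (h | h)
      · left; rw [h]; rfl
      · exact Or.inr h
  have hta : trivIrr G ≠ χ₁ := fun h => ha1 (by rw [← h]; rfl)
  have htb : trivIrr G ≠ b := fun h => hb1 (by rw [← h]; rfl)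
  have htc : trivIrr G ≠ c := fun h => hc1 (by rw [← h]; rfl)
  have hlist' : ∀ j, χ' j ≠ trivIrr G ∧ χ' j ≠ χ₁ ∧ χ' j ≠ b ∧ χ' j ≠ c := by
    intro j
    refine ⟨fun h => (hχ' j).2.2.2 (by rw [h]; rfl), (hχ' j).1, (hχ' j).2.1, (hχ' j).2.2.1⟩
  have hfive := finsum_mem_five (Cfsg.principalBlock M G) (trivIrr G) χ₁ b c χ' hinj hta htb htc
    hab hac hbc hlist' hlist
  -- orthogonality with the identity
  have hB : Cfsg.IsPBlock M (Cfsg.principalBlock M G) :=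
    ⟨⟨fun _ : G => (1 : ℂ), isIrrCharacter_one⟩, rfl⟩
  have horth : ∀ z : G, 2 ∣ orderOf z →
      ∑ᶠ χ ∈ Cfsg.principalBlock M G, (χ : G → ℂ) 1 * conj ((χ : G → ℂ) z) = 0 := by
    intro z hz
    have := blockKernelFun_eq_zero hM.2.1 2 hM.2.2 (Cfsg.principalBlock M G) hB 1 z
      (Or.inr ⟨by rw [orderOf_one]; norm_num, hz⟩)
    rw [blockKernelFun_eq_finsum] at this
    exact this
  have hσ2 : 2 ∣ orderOf σ := by rw [hσo, hNH]; exact Dvd.intro _ rfl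
  have hJ2 : 2 ∣ orderOf (σ ^ H) := by
    rw [orderOf_pow' σ hH0, hσo, hNH]
    have : Nat.gcd (2 * H) H = H := Nat.gcd_eq_right ⟨2, by ring⟩
    rw [this, Nat.mul_div_cancel _ (Nat.pos_of_ne_zero hH0)]
  have ho1 := horth σ hσ2
  have ho2 := horth (σ ^ H) hJ2
  rw [hfive] at ho1 ho2
  have htriv : ∀ g : G, (trivIrr G : G → ℂ) g = 1 := fun g => rfl
  simp only [htriv, hvσ.1, hvσ.2.1, hvσ.2.2.1, hvJ.1, hvJ.2.1, hvJ.2.2.1, hdeg, map_one, map_mul,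
    map_intCast, map_pow, map_neg, hHpow] at ho1 ho2
  rw [← Finset.mul_sum] at ho1 ho2
  -- the two sums over the family
  have hS1 : ∑ j, conj ((χ' j : G → ℂ) σ) = 0 := by
    have h3 : ((χ₁ : G → ℂ) 1 + δ₁) * ∑ j, conj ((χ' j : G → ℂ) σ) = 0 := by
      linear_combination ho1 - hrel
    rcases mul_eq_zero.mp h3 with h | h
    · exact absurd h hne
    · exact h
  have hS2 : ∑ j, conj ((χ' j : G → ℂ) (σ ^ H)) = -2 * δ₁ := by
    have h3 : ((χ₁ : G → ℂ) 1 + δ₁) * (∑ j, conj ((χ' j : G → ℂ) (σ ^ H)) + 2 * δ₁) = 0 := by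
      have h4 := int_pm_cast_sq hd₁
      linear_combination ho2 + hrel + 2 * h4
    rcases mul_eq_zero.mp h3 with h | h
    · exact absurd h hne
    · linear_combination h
  -- the weighted sum
  rw [hfive]
  simp only [htriv, hvσ.1, hvσ.2.1, hvσ.2.2.1, hvJ.1, hvJ.2.1, hvJ.2.2.1, hdeg, hθJsq, map_one,
    map_mul, map_intCast, map_pow, map_neg, hHpow]
  have hsum : ∑ j, (4 : ℂ) / ((χ₁ : G → ℂ) 1 + δ₁) *
      (conj ((χ' j : G → ℂ) σ) + conj ((χ' j : G → ℂ) (σ ^ H))) =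
      4 / ((χ₁ : G → ℂ) 1 + δ₁) * (-2 * δ₁) := by
    rw [← Finset.mul_sum, Finset.sum_add_distrib, hS1, hS2, zero_add]
  rw [hsum]
  have h4 := int_pm_cast_sq hd₁
  have hb0 : ((d₂ : ℂ) * (-1) ^ (1 + 1) + (d₂ : ℂ) * -1) = 0 := by ring
  have hc0 : ((d₃ : ℂ) * (-1) ^ (1 + 1) + (d₃ : ℂ) * -1) = 0 := by ring
  rw [hb0, hc0, mul_zero, mul_zero, add_zero, add_zero]
  have key : ((1 : ℂ) ^ 2 / 1 * (1 + 1) + (δ₁ : ℂ) ^ 2 / (χ₁ : G → ℂ) 1 * ((δ₁ : ℂ) + δ₁) +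
      4 / ((χ₁ : G → ℂ) 1 + δ₁) * (-2 * δ₁)) * ((χ₁ : G → ℂ) 1 * ((χ₁ : G → ℂ) 1 + δ₁)) =
      2 * (χ₁ : G → ℂ) 1 * ((χ₁ : G → ℂ) 1 + δ₁) +
        (δ₁ : ℂ) ^ 2 * ((δ₁ : ℂ) + δ₁) * ((χ₁ : G → ℂ) 1 + δ₁) +
        4 * (-2 * δ₁) * (χ₁ : G → ℂ) 1 := by
    field_simp
    ring
  rw [key]
  linear_combination (2 * (χ₁ : G → ℂ) 1 * δ₁ + 2 * (δ₁ : ℂ) ^ 2) * h4

end Cfsg.Agent.Helper6.DihOrd
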