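import Mathlib
import Cfsg.Prelude.Def_Characters
import Cfsg.Prelude.Def_Blocks
import Cfsg.Agent.Helper6.DihOrdC
import Cfsg.Agent.Helper6.DihOrdD
import Cfsg.Agent.Helper6.DihOrdG
import Cfsg.Agent.Helper6.DihOrdH
import Cfsg.Agent.Helper6.DihOrdI

/-!
# Brauer's order formula for groups with dihedral Sylow 2-subgroups and one class of involutions
-/

set_option autoImplicit false
set_option linter.style.haveILetI false

namespace Cfsg.Agent.Helper6.DihOrd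

open Cfsg.Agent.Helper6.DihBr

open scoped ComplexConjugate

universe u

variable {G : Type u} [Group G] {M : Ideal Cfsg.AlgInt}

namespace Setting

variable {P : Sylow 2 G} {σ τ J : G} {N H : ℕ} {ρ : G → G}

open Classical in
/-- The sum of the kernel at `z ∈ ⟨σ⟩` over the pairs of conjugates of `J`. -/
theorem sum_kernel [Fintype G] (hM : Cfsg.IsPModular 2 M) (S : Setting P σ τ J N H ρ)
    (e : Nonempty (↥(P : Subgroup G) ≃* DihedralGroup N)) (z : G)
    (hz : z ∈ Subgroup.zpowers σ) (hz1 : z ≠ 1) (k : ℕ) (hzk : z ^ k = J) :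
    ((classFinset J).card : ℂ) ^ 2 *
        ∑ᶠ χ ∈ Cfsg.principalBlock M G, (χ : G → ℂ) J ^ 2 / (χ : G → ℂ) 1 * conj ((χ : G → ℂ) z) =
      (if z * z = 1 then 2 * (N : ℂ) else (N : ℂ)) *
        (((classFinset J).card : ℂ) * ((pairsIn J z ρ).card : ℂ)) := by
  rw [← class_mult_kernel]
  have h1 : ∀ q ∈ classFinset J ×ˢ classFinset J,
      ∑ᶠ χ ∈ Cfsg.principalBlock M G, (χ : G → ℂ) (q.1 * q.2) * conj ((χ : G → ℂ) z) =
        if q ∈ pairsOver J z then (if z * z = 1 then 2 * (N : ℂ) else (N : ℂ)) else 0 := by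
    intro q hq
    rw [kernel_eval hM P S.hN3 e S.dih S.hall (q.1 * q.2) (twoPart (q.1 * q.2)) z
      (twoPart_spec _) hz hz1]
    have hiff : q ∈ pairsOver J z ↔ IsConj (twoPart (q.1 * q.2)) z := by
      unfold pairsOver
      rw [Finset.mem_filter]
      exact ⟨fun h => h.2, fun h => ⟨hq, h⟩⟩
    by_cases hc : IsConj (twoPart (q.1 * q.2)) z
    · rw [if_pos hc, if_pos (hiff.mpr hc)]
    · rw [if_neg hc, if_neg (fun h => hc (hiff.mp h))]
  rw [Finset.sum_congr rfl h1, Finset.sum_ite_mem, Finset.sum_const, nsmul_eq_mul]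
  have h2 : (classFinset J ×ˢ classFinset J) ∩ pairsOver J z = pairsOver J z := by
    apply Finset.inter_eq_right.mpr
    unfold pairsOver
    exact Finset.filter_subset _ _
  rw [h2, S.card_pairsOver z hz hz1 k hzk]
  push_cast
  ring

end Setting

open Classical in
/-- **Brauer's order formula**, in terms of `N = 2 H`. -/
theorem order_formula [Finite G] (hM : Cfsg.IsPModular 2 M) (P : Sylow 2 G) (σ τ : G) (N H : ℕ)
    (hNH : N = 2 * H) (hH2 : 2 ∣ H) (hH0 : H ≠ 0) (hσ : σ ∈ (P : Subgroup G))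
    (hτ : τ ∈ (P : Subgroup G)) (hσo : orderOf σ = N) (hτo : orderOf τ = 2)
    (hrel : τ * σ * τ⁻¹ = σ⁻¹) (hgen : Subgroup.closure ({σ, τ} : Set G) = (P : Subgroup G))
    (hconj : IsConj (σ ^ H) τ ∧ IsConj (σ ^ H) (σ * τ)) (χ₁ : Cfsg.IrrCharacter G)
    (hχ₁ : χ₁ ∈ Cfsg.principalBlock M G) (h1 : (χ₁ : G → ℂ) ≠ (fun _ => 1)) (δ₁ : ℤ)
    (hδ₁ : δ₁ = 1 ∨ δ₁ = -1)
    (hval : ∀ l : ℕ, 0 < l → l < N → (χ₁ : G → ℂ) (σ ^ l) = δ₁) :
    (Cfsg.charDegree (χ₁ : G → ℂ) : ℤ) ≠ δ₁ ∧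
    (Nat.card G : ℚ) * ((Cfsg.charDegree (χ₁ : G → ℂ) : ℚ) - δ₁) ^ 2 =
      2 * (Cfsg.charDegree (χ₁ : G → ℂ) : ℚ) * ((Cfsg.charDegree (χ₁ : G → ℂ) : ℚ) + δ₁) *
        (Nat.card (Subgroup.centralizer ({σ ^ H} : Set G)) : ℚ) ^ 3 *
        (1 / (Nat.card (Subgroup.centralizer ({σ ^ H, τ} : Set G)) : ℚ) +
          1 / (Nat.card (Subgroup.centralizer ({σ ^ H, σ * τ} : Set G)) : ℚ)) ^ 2 := by
  haveI : Fact (Nat.Prime 2) := ⟨Nat.prime_two⟩
  haveI : Fintype G := Fintype.ofFinite G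
  have hN3 : 3 ≤ N := by
    obtain ⟨m, hm⟩ := hH2
    omega
  have e := equiv_dihedral (P : Subgroup G) σ τ N hN3 hσo hτo hrel hgen
  have h := dihData_of_equiv (P : Subgroup G) σ N hN3 (Classical.choice e) hσ hσo
  obtain ⟨J, hJ⟩ : ∃ J : G, J = σ ^ H := ⟨_, rfl⟩
  rw [← hJ] at hconj ⊢
  have hJmem : J ∈ Subgroup.zpowers σ := by rw [hJ]; exact pow_half_mem
  have hJo : orderOf J = 2 := by rw [hJ]; exact orderOf_pow_half hNH hH0 hσo
  have hJJ : J * J = 1 := by rw [hJ]; exact pow_half_mul_self hNH hσo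
  have hJ1 : J ≠ 1 := by rw [hJ]; exact pow_half_ne_one hNH hH0 hσo
  have hidx := (centralizer_of_involution P (by omega) e h J hJmem hJo).1
  have hPJ := le_centralizer_of_involution h J hJmem hJJ
  obtain ⟨ρ, hρ1, hρ2, hρ3, hρ4, hρ5⟩ := exists_rho P J hPJ hidx
  have S : Setting P σ τ J N H ρ :=
    ⟨h, hNH, hH2, hH0, hJ, hτ, hrel, hconj, hρ1, hρ2, hρ3, hρ4, hρ5⟩
  -- the two kernel sums
  have hσ1 : σ ≠ 1 := by
    intro h0
    rw [h0, orderOf_one] at hσo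
    omega
  have hσσ : σ * σ ≠ 1 := by
    intro h0
    have h7 := orderOf_dvd_of_pow_eq_one (by rw [pow_two]; exact h0 : σ ^ 2 = 1)
    rw [hσo] at h7
    have := Nat.le_of_dvd (by norm_num) h7
    omega
  have k1 := S.sum_kernel hM e σ (Subgroup.mem_zpowers σ) hσ1 H hJ.symm
  have k2 := S.sum_kernel hM e J hJmem hJ1 1 (pow_one J)
  rw [if_neg hσσ] at k1
  rw [if_pos hJJ] at k2
  have hcount := S.count_pairsIn
  have hcountC : (N : ℂ) * ((pairsIn J σ ρ).card : ℂ) + 2 * (N : ℂ) * ((pairsIn J J ρ).card : ℂ) =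
      4 * ((invols J).card : ℂ) ^ 2 := by exact_mod_cast hcount
  -- the combined sum
  haveI : Finite (Cfsg.IrrCharacter G) := irr_finite
  obtain ⟨T, hT⟩ : ∃ T : ℂ, T = ∑ᶠ χ ∈ Cfsg.principalBlock M G,
      (χ : G → ℂ) J ^ 2 / (χ : G → ℂ) 1 * (conj ((χ : G → ℂ) σ) + conj ((χ : G → ℂ) J)) :=
    ⟨_, rfl⟩
  have hTsum : T = (∑ᶠ χ ∈ Cfsg.principalBlock M G,
      (χ : G → ℂ) J ^ 2 / (χ : G → ℂ) 1 * conj ((χ : G → ℂ) σ)) +
      ∑ᶠ χ ∈ Cfsg.principalBlock M G,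
        (χ : G → ℂ) J ^ 2 / (χ : G → ℂ) 1 * conj ((χ : G → ℂ) J) := by
    rw [hT, ← finsum_mem_add_distrib (Set.toFinite _)]
    apply finsum_mem_congr rfl
    intro χ _
    ring
  have hK0 : ((classFinset J).card : ℂ) ≠ 0 := by
    have : 0 < (classFinset J).card := by
      apply Finset.card_pos.mpr
      exact ⟨J, (mem_classFinset J J).mpr (IsConj.refl J)⟩
    exact_mod_cast this.ne'
  have hKT : ((classFinset J).card : ℂ) * T = 4 * ((invols J).card : ℂ) ^ 2 := by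
    have h3 : ((classFinset J).card : ℂ) ^ 2 * T =
        ((classFinset J).card : ℂ) * (4 * ((invols J).card : ℂ) ^ 2) := by
      rw [hTsum, mul_add, k1, k2, ← hcountC]
      ring
    have h4 : ((classFinset J).card : ℂ) * (((classFinset J).card : ℂ) * T) =
        ((classFinset J).card : ℂ) * (4 * ((invols J).card : ℂ) ^ 2) := by
      rw [← h3]; ring
    exact mul_left_cancel₀ hK0 h4
  -- the character side
  rw [hJ] at hT
  obtain ⟨hne, hchar⟩ := char_side hM P σ N H hNH hH2 hH0 e hσ hσo χ₁ hχ₁ h1 δ₁ hδ₁ hval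
  rw [← hT] at hchar
  have hx : (χ₁ : G → ℂ) 1 = (Cfsg.charDegree (χ₁ : G → ℂ) : ℂ) :=
    (charDegree_cast_of_isCharacter (IsIrrCharacter.isCharacter χ₁.2)).symm
  have hx1 : (χ₁ : G → ℂ) 1 ≠ 0 := IsIrrCharacter.apply_one_ne_zero χ₁.2
  rw [hx] at hne hchar hx1
  obtain ⟨x, hxdef⟩ : ∃ x : ℕ, x = Cfsg.charDegree (χ₁ : G → ℂ) := ⟨_, rfl⟩
  rw [← hxdef] at hne hchar hx1 ⊢
  -- the number of involutions
  have hm := S.card_invols
  have hτinv : τ ∈ invols J := by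
    have := S.conj_mem_invols S.hτ S.τ_not_mem 1 (Subgroup.one_mem _)
    simpa using this
  have hm0 : ((invols J).card : ℂ) ≠ 0 := by
    have : 0 < (invols J).card := Finset.card_pos.mpr ⟨τ, hτinv⟩
    exact_mod_cast this.ne'
  have hKG : ((classFinset J).card : ℂ) * (Nat.card ↥(Subgroup.centralizer ({J} : Set G)) : ℂ) =
      (Nat.card G : ℂ) := by
    rw [card_classFinset]
    have := Subgroup.card_mul_index (Subgroup.centralizer ({J} : Set G))
    rw [mul_comm]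
    exact_mod_cast this
  have hmC : ((invols J).card : ℂ) =
      (Nat.card ↥(Subgroup.centralizer ({J} : Set G)) : ℂ) /
        (Nat.card ↥(Subgroup.centralizer ({J, τ} : Set G)) : ℂ) +
      (Nat.card ↥(Subgroup.centralizer ({J} : Set G)) : ℂ) /
        (Nat.card ↥(Subgroup.centralizer ({J, σ * τ} : Set G)) : ℂ) := by
    have := congrArg (Rat.cast : ℚ → ℂ) hm
    push_cast at this
    exact this
  -- the master identity over `ℂ`
  have hmaster : (Nat.card G : ℂ) * ((x : ℂ) - δ₁) ^ 2 =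
      2 * (x : ℂ) * ((x : ℂ) + δ₁) * (Nat.card ↥(Subgroup.centralizer ({J} : Set G)) : ℂ) *
        ((invols J).card : ℂ) ^ 2 := by
    rw [← hKG]
    have h5 : ((classFinset J).card : ℂ) * (2 * ((x : ℂ) - δ₁) ^ 2) =
        4 * ((invols J).card : ℂ) ^ 2 * ((x : ℂ) * ((x : ℂ) + δ₁)) := by
      rw [← hchar, ← hKT]; ring
    linear_combination ((Nat.card ↥(Subgroup.centralizer ({J} : Set G)) : ℂ) / 2) * h5
  constructor
  · intro hxδ
    have h6 : (x : ℂ) - δ₁ = 0 := by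
      have : ((x : ℤ) : ℂ) = (δ₁ : ℂ) := by rw [hxδ]
      rw [← this]
      push_cast
      ring
    rw [h6] at hmaster
    have hC0 : (Nat.card ↥(Subgroup.centralizer ({J} : Set G)) : ℂ) ≠ 0 := by
      have : 0 < Nat.card ↥(Subgroup.centralizer ({J} : Set G)) := Nat.card_pos
      exact_mod_cast this.ne'
    have h7 : 2 * (x : ℂ) * ((x : ℂ) + δ₁) *
        (Nat.card ↥(Subgroup.centralizer ({J} : Set G)) : ℂ) * ((invols J).card : ℂ) ^ 2 ≠ 0 :=
      mul_ne_zero (mul_ne_zero (mul_ne_zero (mul_ne_zero two_ne_zero hx1) hne) hC0)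
        (pow_ne_zero 2 hm0)
    apply h7
    rw [← hmaster]
    ring
  · apply Rat.cast_injective (α := ℂ)
    push_cast
    rw [hmaster, hmC]
    have hc1 : (Nat.card ↥(Subgroup.centralizer ({J, τ} : Set G)) : ℂ) ≠ 0 := by
      have : 0 < Nat.card ↥(Subgroup.centralizer ({J, τ} : Set G)) := Nat.card_pos
      exact_mod_cast this.ne'
    have hc2 : (Nat.card ↥(Subgroup.centralizer ({J, σ * τ} : Set G)) : ℂ) ≠ 0 := by
      have : 0 < Nat.card ↥(Subgroup.centralizer ({J, σ * τ} : Set G)) := Nat.card_pos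
      exact_mod_cast this.ne'
    field_simp

end Cfsg.Agent.Helper6.DihOrd
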