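import Mathlib
import Cfsg.Agent.Helper6.DixA
import Cfsg.Agent.Helper1.Coprime

/-!
# Dixon–Winter: core-free maximal subgroups of solvable groups
-/

set_option autoImplicit false

namespace Cfsg.Agent.Helper6.Dix

universe u

variable {G : Type u} [Group G]

/-- A nontrivial solvable group has a nontrivial abelian normal subgroup. -/
theorem exists_abelian_normal [Nontrivial G] (hsolv : Group.IsSolvable G) :
    ∃ A : Subgroup G, A.Normal ∧ A ≠ ⊥ ∧ ∀ a ∈ A, ∀ b ∈ A, a * b = b * a := by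
  classical
  have hex := (Group.isSolvable_def G).1 hsolv
  have h0 : Nat.find hex ≠ 0 := by
    intro h
    have := Nat.find_spec hex
    rw [h, derivedSeries_zero] at this
    exact top_ne_bot this
  obtain ⟨m, hm⟩ := Nat.exists_eq_succ_of_ne_zero h0
  refine ⟨derivedSeries G m, inferInstance, ?_, ?_⟩
  · intro h
    have := Nat.find_min hex (m := m) (by omega)
    exact this h
  · have h1 : derivedSeries G (m + 1) = ⊥ := by
      have := Nat.find_spec hex
      rwa [hm] at this
    rw [derivedSeries_succ, Subgroup.commutator_eq_bot_iff_le_centralizer] at h1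
    intro a ha b hb
    exact (Subgroup.mem_centralizer_iff.1 (h1 ha) b hb).symm

/-- The elements of order dividing `r` in an abelian subgroup. -/
def omegaSub (A : Subgroup G) (hA : ∀ a ∈ A, ∀ b ∈ A, a * b = b * a) (r : ℕ) : Subgroup G where
  carrier := {x | x ∈ A ∧ x ^ r = 1}
  one_mem' := ⟨A.one_mem, one_pow r⟩
  mul_mem' := by
    rintro x y ⟨hx, hxr⟩ ⟨hy, hyr⟩
    refine ⟨A.mul_mem hx hy, ?_⟩
    have : Commute x y := hA x hx y hy
    rw [this.mul_pow, hxr, hyr, one_mul]
  inv_mem' := by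
    rintro x ⟨hx, hxr⟩
    exact ⟨A.inv_mem hx, by rw [inv_pow, hxr, inv_one]⟩

theorem mem_omegaSub {A : Subgroup G} {hA : ∀ a ∈ A, ∀ b ∈ A, a * b = b * a} {r : ℕ} {x : G} :
    x ∈ omegaSub A hA r ↔ x ∈ A ∧ x ^ r = 1 := Iff.rfl

theorem omegaSub_normal (A : Subgroup G) [hAn : A.Normal]
    (hA : ∀ a ∈ A, ∀ b ∈ A, a * b = b * a) (r : ℕ) : (omegaSub A hA r).Normal := by
  constructor
  intro x hx g
  rw [mem_omegaSub] at hx ⊢
  refine ⟨hAn.conj_mem x hx.1 g, ?_⟩
  rw [conj_pow, hx.2]; group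

/-- An abelian normal subgroup `A ≠ 1` contains a nontrivial normal subgroup of prime exponent. -/
theorem exists_prime_exponent_normal [Finite G] (A : Subgroup G) [hAn : A.Normal] (hA1 : A ≠ ⊥)
    (hA : ∀ a ∈ A, ∀ b ∈ A, a * b = b * a) :
    ∃ (r : ℕ) (M : Subgroup G), r.Prime ∧ M.Normal ∧ M ≠ ⊥ ∧ (∀ x ∈ M, x ^ r = 1) ∧
      ∀ a ∈ M, ∀ b ∈ M, a * b = b * a := by
  have hc : Nat.card A ≠ 1 := fun h => hA1 (Subgroup.card_eq_one.1 h)
  obtain ⟨r, hr, hdvd⟩ := Nat.exists_prime_and_dvd hc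
  haveI : Fact r.Prime := ⟨hr⟩
  obtain ⟨x, hx⟩ := exists_prime_orderOf_dvd_card' (G := A) r hdvd
  refine ⟨r, omegaSub A hA r, hr, omegaSub_normal A hA r, ?_, fun y hy => hy.2, ?_⟩
  · intro h
    have hxm : (x : G) ∈ omegaSub A hA r := by
      refine ⟨x.2, ?_⟩
      have := pow_orderOf_eq_one x
      rw [hx] at this
      have h2 := congrArg Subtype.val this
      simpa using h2
    rw [h, Subgroup.mem_bot] at hxm
    have : x = 1 := Subtype.ext hxm
    rw [this, orderOf_one] at hx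
    exact hr.one_lt.ne hx
  · intro a ha b hb
    exact hA a ha.1 b hb.1

/-- A nontrivial abelian normal subgroup is a self-centralizing complement to a core-free maximal
subgroup. -/
theorem complement_of_coreFree [Finite G] (H : Subgroup G) (hH : IsCoatom H)
    (hcore : H.normalCore = ⊥) (M : Subgroup G) [hMn : M.Normal] (hM1 : M ≠ ⊥)
    (hM : ∀ a ∈ M, ∀ b ∈ M, a * b = b * a) :
    H ⊓ M = ⊥ ∧ H ⊔ M = ⊤ ∧ Subgroup.centralizer (M : Set G) ≤ M := by
  have hMH : ¬ M ≤ H := by
    intro h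
    have := (Subgroup.normal_le_normalCore (H := H) (N := M)).2 h
    rw [hcore] at this
    exact hM1 (le_bot_iff.1 this)
  have hsup : H ⊔ M = ⊤ := by
    by_contra hne
    have hlt : H < H ⊔ M := by
      refine lt_of_le_of_ne le_sup_left ?_
      intro h
      apply hMH
      rw [h]; exact le_sup_right
    exact hne (hH.2 _ hlt)
  have hdecomp : ∀ g : G, ∃ h ∈ H, ∃ m ∈ M, h * m = g := by
    intro g
    have : g ∈ H ⊔ M := by rw [hsup]; exact Subgroup.mem_top g
    exact Subgroup.mem_sup_of_normal_right.1 this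
  have hcoreLe : ∀ N : Subgroup G, N.Normal → N ≤ H → N = ⊥ := by
    intro N hN hNH
    have := (Subgroup.normal_le_normalCore (H := H) (N := N)).2 hNH
    rw [hcore] at this
    exact le_bot_iff.1 this
  have hinf : H ⊓ M = ⊥ := by
    apply hcoreLe _ _ inf_le_left
    constructor
    intro x hx g
    obtain ⟨h, hh, m, hm, rfl⟩ := hdecomp g
    have e : h * m * x * (h * m)⁻¹ = h * (m * x * m⁻¹) * h⁻¹ := by group
    have e2 : m * x * m⁻¹ = x := by
      rw [hM m hm x hx.2]; group
    rw [e, e2]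
    exact ⟨H.mul_mem (H.mul_mem hh hx.1) (H.inv_mem hh), hMn.conj_mem x hx.2 h⟩
  refine ⟨hinf, hsup, ?_⟩
  haveI hCn : (Subgroup.centralizer (M : Set G)).Normal := Subgroup.normal_centralizer
  have hCH : Subgroup.centralizer (M : Set G) ⊓ H = ⊥ := by
    apply hcoreLe _ _ inf_le_right
    constructor
    intro x hx g
    obtain ⟨h, hh, m, hm, rfl⟩ := hdecomp g
    have e : h * m * x * (h * m)⁻¹ = h * (m * x * m⁻¹) * h⁻¹ := by group
    have e2 : m * x * m⁻¹ = x := by
      have := Subgroup.mem_centralizer_iff.1 hx.1 m hm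
      rw [this]; group
    rw [e, e2]
    exact ⟨hCn.conj_mem x hx.1 h, H.mul_mem (H.mul_mem hh hx.2) (H.inv_mem hh)⟩
  intro c hc
  obtain ⟨h, hh, m, hm, rfl⟩ := hdecomp c
  have hmC : m ∈ Subgroup.centralizer (M : Set G) := by
    rw [Subgroup.mem_centralizer_iff]
    intro b hb
    exact hM b hb m hm
  have hhC : h ∈ Subgroup.centralizer (M : Set G) := by
    have := (Subgroup.centralizer (M : Set G)).mul_mem hc
      ((Subgroup.centralizer (M : Set G)).inv_mem hmC)
    simpa using this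
  have : h ∈ Subgroup.centralizer (M : Set G) ⊓ H := ⟨hhC, hh⟩
  rw [hCH, Subgroup.mem_bot] at this
  rw [this, one_mul]
  exact hm

end Cfsg.Agent.Helper6.Dix
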