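import Mathlib
import Cfsg.Agent.Helper6.DixA
import Cfsg.Agent.Helper6.DixB
import Cfsg.Agent.Helper1.Coprime

/-!
# Dixon–Winter: the prime power from a primitive solvable permutation group
-/

set_option autoImplicit false

namespace Cfsg.Agent.Helper6.Dix

universe u

variable {G : Type u} [Group G]

theorem primePow_of_coreFree [Finite G] (hsolv : Group.IsSolvable G) (H : Subgroup G)
    (hH : IsCoatom H) (hcore : H.normalCore = ⊥) (p : ℕ) [hp : Fact p.Prime] (Q : Subgroup G)
    (hQ : IsPGroup p Q) (hQ1 : Q ≠ ⊥) (hpH : ¬ p ∣ H.index) :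
    ∃ q, IsPrimePow q ∧ q ∣ H.index ∧ q ≡ 1 [MOD p] := by
  haveI : Nontrivial G := by
    by_contra h
    rw [not_nontrivial_iff_subsingleton] at h
    exact hH.1 (Subsingleton.elim _ _)
  obtain ⟨A, hAn, hA1, hA⟩ := exists_abelian_normal hsolv
  obtain ⟨r, M, hr, hMn, hM1, hMr, hM⟩ := exists_prime_exponent_normal A hA1 hA
  haveI : Fact r.Prime := ⟨hr⟩
  obtain ⟨hinf, hsup, hcent⟩ := complement_of_coreFree H hH hcore M hM1 hM
  have hHN : H ≤ Subgroup.normalizer (M : Set G) := by
    rw [Subgroup.normalizer_eq_top]; exact le_top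
  have hcard : Nat.card M = H.index := by
    have h1 := Cfsg.Agent.Helper1.card_sup_of_le_normalizer (N := M) (A := H) hHN hinf
    rw [sup_comm, hsup, Subgroup.card_top] at h1
    have h2 := Subgroup.card_mul_index H
    have h3 : 0 < Nat.card H := Nat.card_pos
    rw [h1] at h2
    exact (Nat.eq_of_mul_eq_mul_left h3 h2).symm
  have hMp : IsPGroup r M := by
    intro x
    refine ⟨1, ?_⟩
    apply Subtype.ext
    rw [pow_one]
    have := hMr x x.2
    simpa using this
  obtain ⟨k, hk⟩ := (IsPGroup.iff_card).1 hMp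
  have hk0 : k ≠ 0 := by
    intro h
    rw [h, pow_zero] at hk
    exact hM1 (Subgroup.card_eq_one.1 hk)
  have hrp : ¬ p ∣ r := by
    intro h
    apply hpH
    rw [← hcard, hk]
    exact h.trans (dvd_pow_self r hk0)
  have hQN : Q ≤ Subgroup.normalizer (M : Set G) := by
    rw [Subgroup.normalizer_eq_top]; exact le_top
  have hQC : ¬ Q ≤ Subgroup.centralizer (M : Set G) := by
    intro h
    have hQM : Q ≤ M := h.trans hcent
    obtain ⟨j, hj⟩ := (IsPGroup.iff_card).1 hQ
    have h1 : Nat.card Q ∣ Nat.card M := Subgroup.card_dvd_of_le hQM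
    rw [hj, hk] at h1
    have hj0 : j = 0 := by
      by_contra hj0
      have h2 : p ∣ r ^ k := (dvd_pow_self p hj0).trans h1
      exact hrp (hp.out.dvd_of_dvd_pow h2)
    rw [hj0, pow_zero] at hj
    exact hQ1 (Subgroup.card_eq_one.1 hj)
  have hmod := card_modEq_card_centralizer M Q hQN hQ
  set C : Subgroup G := M ⊓ Subgroup.centralizer (Q : Set G) with hC
  have hCM : C ≤ M := inf_le_left
  have hCne : C ≠ M := by
    intro h
    apply hQC
    intro q hq
    rw [Subgroup.mem_centralizer_iff]
    intro m hm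
    have : m ∈ C := by rw [h]; exact hm
    exact (Subgroup.mem_centralizer_iff.1 this.2 q hq).symm
  have hCd : Nat.card C ∣ r ^ k := by rw [← hk]; exact Subgroup.card_dvd_of_le hCM
  obtain ⟨c, hck, hc⟩ := (Nat.dvd_prime_pow hr).1 hCd
  have hck' : c < k := by
    rcases lt_or_eq_of_le hck with h | h
    · exact h
    · exfalso
      apply hCne
      apply Subgroup.eq_of_le_of_card_ge hCM
      rw [hc, hk, h]
  rw [hk, hc] at hmod
  have h1 := pow_sub_modEq_one hp.out hrp hck hmod
  refine ⟨r ^ (k - c), hr.isPrimePow.pow (by omega), ?_, h1⟩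
  rw [← hcard, hk]
  exact pow_dvd_pow r (Nat.sub_le k c)

/-- The prime power attached to a maximal subgroup of a solvable group whose core does not contain
a given `p`-subgroup, when `p` does not divide the index. -/
theorem primePow_of_coatom_aux [Finite G] (hsolv : Group.IsSolvable G) (H : Subgroup G)
    (hH : IsCoatom H) (K : Subgroup G) [hKn : K.Normal] (hKH' : K ≤ H)
    (hKmax : ∀ N : Subgroup G, N.Normal → N ≤ H → N ≤ K)
    (p : ℕ) [hp : Fact p.Prime] (P : Subgroup G) (hP : IsPGroup p P)
    (hPK : ¬ P ≤ K) (hpH : ¬ p ∣ H.index) :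
    ∃ q, IsPrimePow q ∧ q ∣ H.index ∧ q ≡ 1 [MOD p] := by
  let π : G →* G ⧸ K := QuotientGroup.mk' K
  have hπ : Function.Surjective π := QuotientGroup.mk'_surjective K
  have hker : π.ker = K := QuotientGroup.ker_mk' K
  have hKH : π.ker ≤ H := by rw [hker]; exact hKH'
  have hcm : (H.map π).comap π = H := Subgroup.comap_map_eq_self hKH
  have hidx : (H.map π).index = H.index := by
    rw [← Subgroup.index_comap_of_surjective (H.map π) hπ, hcm]
  have hcoatom : IsCoatom (H.map π) := by
    constructor
    · intro h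
      apply hH.1
      rw [← hcm, h, Subgroup.comap_top]
    · intro L hL
      have h1 : H < L.comap π := by
        rw [← hcm]
        refine lt_of_le_of_ne (Subgroup.comap_mono hL.le) ?_
        intro h
        have h2 := congrArg (Subgroup.map π) h
        rw [Subgroup.map_comap_eq_self_of_surjective hπ,
          Subgroup.map_comap_eq_self_of_surjective hπ] at h2
        exact hL.ne h2
      have h3 := hH.2 _ h1
      have h4 := congrArg (Subgroup.map π) h3
      rw [Subgroup.map_comap_eq_self_of_surjective hπ] at h4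
      rw [h4]
      exact Subgroup.map_top_of_surjective π hπ
  have hcore : (H.map π).normalCore = ⊥ := by
    rw [eq_bot_iff]
    have h1 : ((H.map π).normalCore).comap π ≤ K := by
      apply hKmax _ inferInstance
      exact le_trans (Subgroup.comap_mono (Subgroup.normalCore_le _)) (le_of_eq hcm)
    have h2 := Subgroup.map_mono (f := π) h1
    rw [Subgroup.map_comap_eq_self_of_surjective hπ] at h2
    refine h2.trans ?_
    rw [Subgroup.map_le_iff_le_comap]
    intro x hx
    rw [Subgroup.mem_comap, Subgroup.mem_bot]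
    exact (QuotientGroup.eq_one_iff x).2 hx
  have hQ : IsPGroup p (P.map π) := hP.map π
  have hQ1 : P.map π ≠ ⊥ := by
    intro h
    apply hPK
    rw [← hker]
    exact (Subgroup.map_eq_bot_iff P).1 h
  have hsolv' : Group.IsSolvable (G ⧸ K) := inferInstance
  obtain ⟨q, hq, hqd, hq1⟩ :=
    primePow_of_coreFree hsolv' (H.map π) hcoatom hcore p (P.map π) hQ hQ1 (by rwa [hidx])
  exact ⟨q, hq, by rwa [hidx] at hqd, hq1⟩

theorem primePow_of_coatom [Finite G] (hsolv : Group.IsSolvable G) (H : Subgroup G)
    (hH : IsCoatom H) (p : ℕ) [hp : Fact p.Prime] (P : Subgroup G) (hP : IsPGroup p P)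
    (hPK : ¬ P ≤ H.normalCore) (hpH : ¬ p ∣ H.index) :
    ∃ q, IsPrimePow q ∧ q ∣ H.index ∧ q ≡ 1 [MOD p] := by
  apply primePow_of_coatom_aux hsolv H hH H.normalCore (Subgroup.normalCore_le H) _ p P hP hPK hpH
  intro N hN hNH
  exact (Subgroup.normal_le_normalCore (H := H) (N := N)).2 hNH

end Cfsg.Agent.Helper6.Dix
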