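import Mathlib
import Cfsg.Prelude.Def_Solvable
import Cfsg.Agent.Helper1.Fitting
import Cfsg.Agent.Helper1.Fitting2
import Cfsg.Agent.Helper4.PCore

/-!
# Dixon–Winter: a Sylow subgroup acting nontrivially on some `O_r(G)`
-/

set_option autoImplicit false

namespace Cfsg.Agent.Helper6.Dix

universe u

variable {G : Type u} [Group G]

/-- A Sylow subgroup contained in a normal nilpotent subgroup is normal. -/
theorem sylow_normal_of_le_nilpotent [Finite G] {p : ℕ} [hp : Fact p.Prime] (P : Sylow p G)
    (F : Subgroup G) [hFn : F.Normal] (hF : Group.IsNilpotent F) (hPF : (P : Subgroup G) ≤ F) :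
    (P : Subgroup G).Normal := by
  have h1 : ∀ (q : ℕ), Fact (Nat.Prime q) → ∀ (Q : Sylow q F), (Q : Subgroup F).Normal :=
    ((Group.isNilpotent_of_finite_tfae (G := F)).out 0 3).1 hF
  have h2 : ((P.subtype hPF : Sylow p F) : Subgroup F).Normal := h1 p hp _
  haveI h3 : ((P.subtype hPF : Sylow p F) : Subgroup F).Characteristic :=
    Sylow.characteristic_of_normal _ h2
  have h4 : (((P.subtype hPF : Sylow p F) : Subgroup F).map F.subtype).Normal :=
    ConjAct.normal_of_characteristic_of_normal
  rw [Sylow.coe_subtype, Subgroup.map_subgroupOf_eq_of_le hPF] at h4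
  exact h4

/-- In a finite solvable group whose `O_p` is central, a non-normal Sylow `p`-subgroup acts
nontrivially on some `O_r(G)` with `r ≠ p`. -/
theorem exists_pCore_not_centralized [Finite G] [hsolv : Group.IsSolvable G] {p : ℕ}
    [hp : Fact p.Prime] (P : Sylow p G) (hP : ¬ (P : Subgroup G).Normal)
    (hpc : Cfsg.pCore p G ≤ Subgroup.center G) :
    ∃ r : ℕ, r.Prime ∧ r ≠ p ∧ ¬ (P : Subgroup G) ≤ Subgroup.centralizer (Cfsg.pCore r G : Set G) := by
  by_contra hcon
  push Not at hcon
  apply hP
  have h1 : ∀ r : Nat.Primes, Cfsg.pCore (r : ℕ) G ≤ Subgroup.centralizer ((P : Subgroup G) : Set G) := by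
    intro r
    by_cases hr : (r : ℕ) = p
    · rw [hr]
      refine hpc.trans ?_
      rw [← Subgroup.centralizer_univ]
      exact Subgroup.centralizer_le (Set.subset_univ _)
    · exact Subgroup.le_centralizer_iff.1 (hcon r r.2 hr)
  have h2 : Cfsg.fittingSubgroup G ≤ Subgroup.centralizer ((P : Subgroup G) : Set G) := by
    rw [Cfsg.Agent.Helper1.fittingSubgroup_eq_fitJoin]
    exact iSup_le h1
  have h3 : (P : Subgroup G) ≤ Cfsg.fittingSubgroup G :=
    (Subgroup.le_centralizer_iff.1 h2).trans Cfsg.Agent.Helper1.centralizer_fittingSubgroup_le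
  exact sylow_normal_of_le_nilpotent P (Cfsg.fittingSubgroup G)
    Cfsg.Agent.Helper1.fittingSubgroup_isNilpotent h3

end Cfsg.Agent.Helper6.Dix
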