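import Mathlib
import Cfsg.Prelude.Def_Solvable
import Cfsg.Agent.Helper1.Fitting
import Cfsg.Agent.Helper1.Fitting2
import Cfsg.Agent.Helper1.Coprime
import Cfsg.Agent.Helper4.PCore
import Cfsg.Agent.Helper6.DixA

/-!
# Dixon–Winter: the class two section on which a Sylow subgroup acts without fixed points
-/

set_option autoImplicit false

namespace Cfsg.Agent.Helper6.Dix

universe u

variable {G : Type u} [Group G]

theorem le_normalizer_of_conj_mem {P E : Subgroup G}
    (h : ∀ y ∈ P, ∀ e ∈ E, y * e * y⁻¹ ∈ E) : P ≤ Subgroup.normalizer (E : Set G) := by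
  intro y hy
  rw [Subgroup.mem_normalizer_iff]
  intro e
  constructor
  · exact h y hy e
  · intro he
    have := h y⁻¹ (P.inv_mem hy) _ he
    have e2 : y⁻¹ * (y * e * y⁻¹) * y⁻¹⁻¹ = e := by group
    rwa [e2] at this

theorem commutator_eq_bot_of_le_centralizer {H K : Subgroup G}
    (h : H ≤ Subgroup.centralizer (K : Set G)) : ⁅H, K⁆ = ⊥ :=
  Subgroup.commutator_eq_bot_iff_le_centralizer.2 h

theorem comm_mem_of_commutator_le {D Z : Subgroup G} (h : ⁅D, D⁆ ≤ Z) {a b : G} (ha : a ∈ D)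
    (hb : b ∈ D) : a * b * a⁻¹ * b⁻¹ ∈ Z := by
  have := Subgroup.commutator_mem_commutator ha hb
  rw [commutatorElement_def] at this
  exact h this

/-- The minimal normal subgroup of `G` inside `O_r(G)` not centralized by `P` has central
commutator subgroup, provided abelian normal subgroups of `G` are central. -/
theorem exists_minimal_not_centralized [Finite G] [hsolv : Group.IsSolvable G] {p : ℕ}
    [hp : Fact p.Prime] (P : Subgroup G) (hPp : IsPGroup p P) (r : ℕ) [hr : Fact r.Prime]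
    (hrp : r ≠ p)
    (hZ : ∀ A : Subgroup G, A.Normal → (∀ a ∈ A, ∀ b ∈ A, a * b = b * a) → A ≤ Subgroup.center G)
    (hnc : ¬ P ≤ Subgroup.centralizer (Cfsg.pCore r G : Set G)) :
    ∃ D : Subgroup G, D.Normal ∧ IsPGroup r D ∧ ¬ P ≤ Subgroup.centralizer (D : Set G) ∧
      ⁅D, D⁆ ≤ Subgroup.center G ∧
      D ⊓ Subgroup.centralizer (D : Set G) ≤ Subgroup.center G := by
  let 𝒟 : Set (Subgroup G) :=
    {D | D.Normal ∧ D ≤ Cfsg.pCore r G ∧ ¬ P ≤ Subgroup.centralizer (D : Set G)}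
  have hmem : Cfsg.pCore r G ∈ 𝒟 := ⟨inferInstance, le_rfl, hnc⟩
  obtain ⟨D, -, hDmin⟩ := (Set.toFinite 𝒟).exists_le_minimal hmem
  obtain ⟨hDn, hDr, hDP⟩ : D ∈ 𝒟 := hDmin.prop
  haveI := hDn
  have hDp : IsPGroup r D := (Cfsg.Agent.Helper4.pCore_isPGroup (G := G) (p := r)).to_le hDr
  have hmin : ∀ D' : Subgroup G, D'.Normal → D' ≤ D → D' ≠ D →
      P ≤ Subgroup.centralizer (D' : Set G) := by
    intro D' hD'n hD'D hne
    by_contra hcon
    have : D' ∈ 𝒟 := ⟨hD'n, hD'D.trans hDr, hcon⟩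
    exact hne (le_antisymm hD'D (hDmin.2 this hD'D))
  have hPN : P ≤ Subgroup.normalizer (D : Set G) := by
    rw [Subgroup.normalizer_eq_top]; exact le_top
  have hcop : (Nat.card P).Coprime (Nat.card D) := by
    obtain ⟨a, ha⟩ := (IsPGroup.iff_card).1 hPp
    obtain ⟨b, hb⟩ := (IsPGroup.iff_card).1 hDp
    rw [ha, hb]
    apply Nat.Coprime.pow
    exact (Nat.coprime_primes hp.out hr.out).2 (Ne.symm hrp)
  have hsol : Group.IsSolvable P ∨ Group.IsSolvable D := Or.inl inferInstance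
  have hcc := Cfsg.Agent.Helper1.coprime_commutator_commutator P D hPN hcop hsol
  have hDPne : ⁅D, P⁆ ≠ ⊥ := by
    intro h
    apply hDP
    rw [Subgroup.le_centralizer_iff]
    exact Subgroup.commutator_eq_bot_iff_le_centralizer.1 h
  -- the derived subgroup
  have hD'n : (⁅D, D⁆ : Subgroup G).Normal := Subgroup.commutator_normal D D
  have hD'D : ⁅D, D⁆ ≤ D := Subgroup.commutator_le_left D D
  have hDbot : D ≠ ⊥ := by
    intro h
    apply hDPne
    rw [h]; exact Subgroup.commutator_bot_left P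
  have hD'ne : ⁅D, D⁆ ≠ D := by
    intro h
    apply hDbot
    exact Cfsg.Agent.Helper1.eq_bot_of_commutator_eq_of_isNilpotent (M := D) (F := D)
      hDp.isNilpotent le_rfl h
  have hPD' : P ≤ Subgroup.centralizer ((⁅D, D⁆ : Subgroup G) : Set G) := hmin _ hD'n hD'D hD'ne
  -- three subgroups
  have h3 : ⁅⁅D, P⁆, ⁅D, D⁆⁆ = ⊥ := by
    apply Subgroup.commutator_commutator_eq_bot_of_rotate
    · rw [commutator_eq_bot_of_le_centralizer hPD']
      exact Subgroup.commutator_bot_left D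
    · have h4 : ⁅⁅D, D⁆, D⁆ ≤ ⁅D, D⁆ := Subgroup.commutator_le_left _ D
      have h5 : ⁅⁅D, D⁆, P⁆ = ⊥ :=
        commutator_eq_bot_of_le_centralizer (Subgroup.le_centralizer_iff.1 hPD')
      rw [eq_bot_iff, ← h5]
      exact Subgroup.commutator_mono h4 le_rfl
  set D₀ : Subgroup G := D ⊓ Subgroup.centralizer ((⁅D, D⁆ : Subgroup G) : Set G) with hD₀
  haveI : (Subgroup.centralizer ((⁅D, D⁆ : Subgroup G) : Set G)).Normal :=
    Subgroup.normal_centralizer
  have hD₀n : D₀.Normal := Subgroup.normal_inf_normal _ _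
  have hDPD₀ : ⁅D, P⁆ ≤ D₀ :=
    le_inf (Subgroup.commutator_le_left D P) (Subgroup.commutator_eq_bot_iff_le_centralizer.1 h3)
  have hD₀D : D₀ = D := by
    by_contra hne
    have h6 : P ≤ Subgroup.centralizer (D₀ : Set G) := hmin _ hD₀n inf_le_left hne
    have h7 : ⁅D₀, P⁆ = ⊥ := commutator_eq_bot_of_le_centralizer (Subgroup.le_centralizer_iff.1 h6)
    apply hDPne
    rw [← hcc, eq_bot_iff, ← h7]
    exact Subgroup.commutator_mono hDPD₀ le_rfl
  have hDcent : D ≤ Subgroup.centralizer ((⁅D, D⁆ : Subgroup G) : Set G) := by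
    have : D₀ ≤ Subgroup.centralizer ((⁅D, D⁆ : Subgroup G) : Set G) := inf_le_right
    rwa [hD₀D] at this
  -- the centre of `D`
  haveI : (Subgroup.centralizer (D : Set G)).Normal := Subgroup.normal_centralizer
  have hZDn : (D ⊓ Subgroup.centralizer (D : Set G)).Normal := Subgroup.normal_inf_normal _ _
  have hZD : D ⊓ Subgroup.centralizer (D : Set G) ≤ Subgroup.center G := by
    apply hZ _ hZDn
    intro a ha b hb
    exact Subgroup.mem_centralizer_iff.1 hb.2 a ha.1
  refine ⟨D, hDn, hDp, hDP, ?_, hZD⟩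
  exact (le_inf hD'D (Subgroup.le_centralizer_iff.1 hDcent)).trans hZD

end Cfsg.Agent.Helper6.Dix
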