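import Mathlib
import Cfsg.Prelude.Def_Solvable
import Cfsg.Agent.Helper1.Coprime
import Cfsg.Agent.Helper6.DixA
import Cfsg.Agent.Helper6.DixF

/-!
# Dixon–Winter: the section `E = C_D(C_D(P))`
-/

set_option autoImplicit false

namespace Cfsg.Agent.Helper6.Dix

universe u

variable {G : Type u} [Group G]

theorem card_center_subgroup (E : Subgroup G) :
    Nat.card (Subgroup.center E) =
      Nat.card (E ⊓ Subgroup.centralizer (E : Set G) : Subgroup G) := by
  have h1 : (Subgroup.center E).map E.subtype = E ⊓ Subgroup.centralizer (E : Set G) := by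
    ext x
    constructor
    · rintro ⟨e, he, rfl⟩
      refine Subgroup.mem_inf.2 ⟨e.2, ?_⟩
      rw [Subgroup.mem_centralizer_iff]
      intro y hy
      have := Subgroup.mem_center_iff.1 he ⟨y, hy⟩
      exact congrArg Subtype.val this
    · rintro ⟨hxE, hxC⟩
      refine ⟨⟨x, hxE⟩, ?_, rfl⟩
      rw [SetLike.mem_coe, Subgroup.mem_center_iff]
      intro y
      apply Subtype.ext
      exact Subgroup.mem_centralizer_iff.1 hxC y y.2
  rw [← h1, Subgroup.card_map_of_injective E.subtype_injective]

theorem exists_section [Finite G] [hsolv : Group.IsSolvable G] {p : ℕ} [hp : Fact p.Prime]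
    (P : Subgroup G) (hPp : IsPGroup p P) (r : ℕ) [hr : Fact r.Prime] (hrp : r ≠ p)
    (D : Subgroup G) [hDn : D.Normal] (hDp : IsPGroup r D)
    (hDP : ¬ P ≤ Subgroup.centralizer (D : Set G))
    (hDD : ⁅D, D⁆ ≤ Subgroup.center G)
    (hZD : D ⊓ Subgroup.centralizer (D : Set G) ≤ Subgroup.center G) :
    ∃ E : Subgroup G, E ≤ D ∧ Nat.card E ≡ Nat.card (Subgroup.center E) [MOD p] ∧
      Nat.card (Subgroup.center E) ≠ Nat.card E := by
  set CD : Subgroup G := D ⊓ Subgroup.centralizer (P : Set G) with hCD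
  set E : Subgroup G := D ⊓ Subgroup.centralizer (CD : Set G) with hE
  set ZE : Subgroup G := E ⊓ Subgroup.centralizer (E : Set G) with hZE
  have hcenterP : Subgroup.center G ≤ Subgroup.centralizer (P : Set G) := by
    rw [← Subgroup.centralizer_univ]
    exact Subgroup.centralizer_le (Set.subset_univ _)
  -- `P` normalizes `E`
  have hPEc : ∀ y ∈ P, ∀ e ∈ E, y * e * y⁻¹ ∈ E := by
    intro y hy e he
    refine Subgroup.mem_inf.2 ⟨hDn.conj_mem e he.1 y, ?_⟩
    rw [Subgroup.mem_centralizer_iff]
    intro c hc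
    have h1 : y * c = c * y := Subgroup.mem_centralizer_iff.1 hc.2 y hy
    have h1' : y⁻¹ * c = c * y⁻¹ := by
      have : c = y⁻¹ * (y * c) := by group
      rw [h1] at this
      calc y⁻¹ * c = y⁻¹ * c * y * y⁻¹ := by group
        _ = c * y⁻¹ := by rw [mul_assoc y⁻¹ c y, ← this]
    have h2 : c * e = e * c := Subgroup.mem_centralizer_iff.1 he.2 c hc
    calc c * (y * e * y⁻¹) = (c * y) * e * y⁻¹ := by group
      _ = y * (c * e) * y⁻¹ := by rw [← h1]; group
      _ = y * e * (c * y⁻¹) := by rw [h2]; group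
      _ = y * e * y⁻¹ * c := by rw [← h1']; group
  have hPE : P ≤ Subgroup.normalizer (E : Set G) := le_normalizer_of_conj_mem hPEc
  have hPZE : P ≤ Subgroup.normalizer (ZE : Set G) := by
    apply le_normalizer_of_conj_mem
    intro y hy z hz
    refine Subgroup.mem_inf.2 ⟨hPEc y hy z hz.1, ?_⟩
    rw [Subgroup.mem_centralizer_iff]
    intro e he
    have h1 : y⁻¹ * e * y⁻¹⁻¹ ∈ E := hPEc y⁻¹ (P.inv_mem hy) e he
    have h2 := Subgroup.mem_centralizer_iff.1 hz.2 _ h1
    calc e * (y * z * y⁻¹) = y * ((y⁻¹ * e * y⁻¹⁻¹) * z) * y⁻¹ := by group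
      _ = y * (z * (y⁻¹ * e * y⁻¹⁻¹)) * y⁻¹ := by rw [h2]
      _ = y * z * y⁻¹ * e := by group
  -- fixed points are central in `E`
  have hfix : E ⊓ Subgroup.centralizer (P : Set G) ≤ ZE := by
    intro x hx
    refine Subgroup.mem_inf.2 ⟨hx.1, ?_⟩
    have hxCD : x ∈ CD := ⟨hx.1.1, hx.2⟩
    rw [Subgroup.mem_centralizer_iff]
    intro e he
    exact (Subgroup.mem_centralizer_iff.1 he.2 x hxCD).symm
  have hfixeq : ZE ⊓ Subgroup.centralizer (P : Set G) = E ⊓ Subgroup.centralizer (P : Set G) := by
    apply le_antisymm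
    · exact inf_le_inf_right _ inf_le_left
    · exact le_inf hfix inf_le_right
  have hc1 := card_modEq_card_centralizer E P hPE hPp
  have hc2 := card_modEq_card_centralizer ZE P hPZE hPp
  rw [hfixeq] at hc2
  refine ⟨E, inf_le_left, ?_, ?_⟩
  · rw [card_center_subgroup]
    exact hc1.trans hc2.symm
  · rw [card_center_subgroup]
    intro hcard
    have hZEE : ZE = E := Subgroup.eq_of_le_of_card_ge inf_le_left hcard.ge
    have hEab : E ≤ Subgroup.centralizer (E : Set G) := by
      have : ZE ≤ Subgroup.centralizer (E : Set G) := inf_le_right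
      rwa [hZEE] at this
    -- coprime action
    have hPN : P ≤ Subgroup.normalizer (D : Set G) := by
      rw [Subgroup.normalizer_eq_top]; exact le_top
    have hcop : (Nat.card P).Coprime (Nat.card D) := by
      obtain ⟨a, ha⟩ := (IsPGroup.iff_card).1 hPp
      obtain ⟨b, hb⟩ := (IsPGroup.iff_card).1 hDp
      rw [ha, hb]
      apply Nat.Coprime.pow
      exact (Nat.coprime_primes hp.out hr.out).2 (Ne.symm hrp)
    have hsol : Group.IsSolvable P ∨ Group.IsSolvable D := Or.inl inferInstance
    have hcc := Cfsg.Agent.Helper1.coprime_commutator_commutator P D hPN hcop hsol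
    have hcs := Cfsg.Agent.Helper1.coprime_commutator_sup_centralizer P D hPN hcop hsol
    -- three subgroups
    have h3 : ⁅⁅D, P⁆, CD⁆ = ⊥ := by
      apply Subgroup.commutator_commutator_eq_bot_of_rotate
      · have : ⁅P, CD⁆ = ⊥ := by
          apply commutator_eq_bot_of_le_centralizer
          rw [Subgroup.le_centralizer_iff]
          exact inf_le_right
        rw [this]; exact Subgroup.commutator_bot_left D
      · have h4 : ⁅CD, D⁆ ≤ Subgroup.centralizer (P : Set G) :=
          (Subgroup.commutator_mono inf_le_left le_rfl).trans (hDD.trans hcenterP)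
        exact commutator_eq_bot_of_le_centralizer h4
    have hDPE : ⁅D, P⁆ ≤ E :=
      le_inf (Subgroup.commutator_le_left D P) (Subgroup.commutator_eq_bot_iff_le_centralizer.1 h3)
    have h5 : ⁅D, P⁆ ⊔ CD ≤ Subgroup.centralizer ((⁅D, P⁆ : Subgroup G) : Set G) := by
      apply sup_le
      · exact hDPE.trans ((hEab).trans (Subgroup.centralizer_le hDPE))
      · rw [Subgroup.le_centralizer_iff]
        exact Subgroup.commutator_eq_bot_iff_le_centralizer.1 h3
    rw [hcs] at h5
    have h6 : ⁅D, P⁆ ≤ Subgroup.center G :=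
      (le_inf (Subgroup.commutator_le_left D P) (Subgroup.le_centralizer_iff.1 h5)).trans hZD
    have h7 : ⁅⁅D, P⁆, P⁆ = ⊥ := commutator_eq_bot_of_le_centralizer (h6.trans hcenterP)
    rw [hcc] at h7
    apply hDP
    rw [Subgroup.le_centralizer_iff]
    exact Subgroup.commutator_eq_bot_iff_le_centralizer.1 h7

end Cfsg.Agent.Helper6.Dix
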