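import Mathlib
import Cfsg.Prelude.Def_Characters
import Cfsg.Prelude.Def_Solvable
import Cfsg.Agent.Helper6.MGroup
import Cfsg.Agent.Helper6.FullyRamified
import Cfsg.Agent.Helper6.DegreeDvd
import Cfsg.Agent.Helper6.CliffordOrbit
import Cfsg.Agent.Helper6.DixA
import Cfsg.Agent.Helper6.DixD
import Cfsg.Agent.Helper6.DixE
import Cfsg.Agent.Helper6.DixF
import Cfsg.Agent.Helper6.DixG

/-!
# Dixon–Winter: the primitive case
-/

set_option autoImplicit false
set_option linter.style.haveILetI false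

namespace Cfsg.Agent.Helper6.Dix

open Module Representation ComplexConjugate

universe u v

variable {G : Type u} [Group G]

/-- `χ` is not induced from a proper subgroup. -/
def IsPrim [Fintype G] (χ : G → ℂ) : Prop :=
  ¬ ∃ T : Subgroup G, T ≠ ⊤ ∧ ∃ ψ : T → ℂ, Cfsg.IsIrrCharacter T ψ ∧ Cfsg.indFun T ψ = χ

/-- In the primitive faithful case every abelian normal subgroup is central. -/
theorem abelian_normal_le_center [Fintype G] {χ : G → ℂ} (hχ : Cfsg.IsIrrCharacter G χ)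
    (hfaith : ∀ g : G, χ g = χ 1 → g = 1) (hprim : IsPrim χ) (A : Subgroup G) (hA : A.Normal)
    (hab : ∀ a ∈ A, ∀ b ∈ A, a * b = b * a) : A ≤ Subgroup.center G := by
  by_contra hcon
  apply hprim
  haveI := hA
  apply monomial_step χ hχ A
  · intro a ha b hb
    have : a * b * a⁻¹ * b⁻¹ = 1 := by
      rw [hab a ha b hb]; group
    rw [this]
  · rw [SetLike.not_le_iff_exists] at hcon
    obtain ⟨a, ha, hac⟩ := hcon
    rw [Subgroup.mem_center_iff] at hac
    push Not at hac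
    obtain ⟨g, hg⟩ := hac
    refine ⟨a, ha, g, ?_⟩
    intro h
    have h1 := hfaith _ h
    apply hg
    have : g * a = (a * g * a⁻¹ * g⁻¹)⁻¹ * (a * g) := by group
    rw [this, h1, inv_one, one_mul]

/-- Primitive characters are quasi-primitive. -/
theorem restrict_homogeneous [Fintype G] {χ : G → ℂ} (hχ : Cfsg.IsIrrCharacter G χ)
    (hprim : IsPrim χ) (N : Subgroup G) [hN : N.Normal] [Fintype N] (θ : N → ℂ)
    (hθ : Cfsg.IsIrrCharacter N θ) (hcon : Cfsg.classInner (fun n : N => χ n) θ ≠ 0) :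
    (fun n : N => χ n) = Cfsg.classInner (fun n : N => χ n) θ • θ := by
  haveI : Fintype (conjStab N θ) := Fintype.ofFinite _
  have hNT : N ≤ conjStab N θ :=
    le_conjStab_of_isClassFunction N θ (IsCharacter.isClassFunction (IsIrrCharacter.isCharacter hθ))
  have hT : ∀ g, g ∈ conjStab N θ ↔
      ∀ n : N, θ ⟨g * n * g⁻¹, hN.conj_mem n n.2 g⟩ = θ n := by
    intro g
    rw [mem_conjStab]
    constructor
    · intro h n
      exact congrFun h n
    · intro h
      funext n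
      exact h n
  obtain ⟨ψ, hψ, hind, -⟩ := clifford_correspondence N θ hθ (conjStab N θ) hT hNT χ hχ hcon
  have htop : conjStab N θ = ⊤ := by
    by_contra hne
    exact hprim ⟨conjStab N θ, hne, ψ, hψ, hind⟩
  apply restrict_eq_smul_of_invariant N χ hχ θ hθ hcon
  intro g
  have : g ∈ conjStab N θ := htop ▸ Subgroup.mem_top g
  exact (mem_conjStab N θ g).mp this

/-- In the primitive faithful case with `p ∤ χ(1)`, normal `p`-subgroups are abelian. -/
theorem normal_pgroup_comm [Fintype G] {χ : G → ℂ} (hχ : Cfsg.IsIrrCharacter G χ)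
    (hfaith : ∀ g : G, χ g = χ 1 → g = 1) (hprim : IsPrim χ) (n : ℕ) (hn : χ 1 = n)
    (p : ℕ) [hp : Fact p.Prime] (hpn : ¬ p ∣ n) (N : Subgroup G) [hN : N.Normal]
    (hNp : IsPGroup p N) : ∀ a ∈ N, ∀ b ∈ N, a * b = b * a := by
  classical
  haveI : Fintype N := Fintype.ofFinite _
  have hχc := IsIrrCharacter.isCharacter hχ
  have hres : Cfsg.IsCharacter N (fun a : N => χ a) := IsCharacter.restrict N hχc
  have hne : (fun a : N => χ a) ≠ 0 := by
    intro h0
    have := congrFun h0 1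
    exact IsIrrCharacter.apply_one_ne_zero hχ this
  obtain ⟨θ, hθ, hcon⟩ := exists_irr_constituent hres hne
  have hhom := restrict_homogeneous hχ hprim N θ hθ hcon
  obtain ⟨e, he⟩ := classInner_char_char_nat hres (IsIrrCharacter.isCharacter hθ)
  rw [he] at hhom
  -- the degree of `θ`
  obtain ⟨t, ht⟩ : ∃ t : ℕ, θ 1 = t ∧ t ∣ Nat.card N := by
    obtain ⟨m, ρ, hirr, rfl⟩ := hθ
    haveI := hirr
    refine ⟨finrank ℂ (Fin m → ℂ), ?_, finrank_dvd_card ρ⟩
    rw [Representation.char_one]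
  have hn2 : n = e * t := by
    have h1 := congrFun hhom 1
    simp only [Pi.smul_apply, smul_eq_mul] at h1
    have h2 : χ ((1 : N) : G) = χ 1 := rfl
    rw [h2, hn, ht.1] at h1
    exact_mod_cast h1
  have ht1 : t = 1 := by
    obtain ⟨a, ha⟩ := (IsPGroup.iff_card).1 hNp
    rw [ha] at ht
    obtain ⟨b, -, hb⟩ := (Nat.dvd_prime_pow hp.out).1 ht.2
    by_contra hne1
    have hb0 : b ≠ 0 := by
      intro h0
      rw [h0, pow_zero] at hb
      exact hne1 hb
    apply hpn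
    rw [hn2, hb]
    exact (dvd_pow_self p hb0).trans (dvd_mul_left _ _)
  have hθ1 : θ 1 = 1 := by rw [ht.1, ht1]; simp
  obtain ⟨μ, hμ⟩ := exists_hom_of_irr_degree_one hθ hθ1
  intro a ha b hb
  have h1 : θ (⟨a, ha⟩ * ⟨b, hb⟩ * ⟨a, ha⟩⁻¹ * ⟨b, hb⟩⁻¹ : N) = 1 := by
    rw [hμ]
    simp only [map_mul, map_inv]
    have : μ ⟨a, ha⟩ * μ ⟨b, hb⟩ * (μ ⟨a, ha⟩)⁻¹ * (μ ⟨b, hb⟩)⁻¹ = 1 := by
      rw [mul_comm (μ ⟨a, ha⟩) (μ ⟨b, hb⟩)]; group
    rw [this]; simp
  have h2 := congrFun hhom (⟨a, ha⟩ * ⟨b, hb⟩ * ⟨a, ha⟩⁻¹ * ⟨b, hb⟩⁻¹ : N)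
  have h3 := congrFun hhom 1
  simp only [Pi.smul_apply, smul_eq_mul] at h2 h3
  rw [h1] at h2
  rw [hθ1] at h3
  have h4 : χ (a * b * a⁻¹ * b⁻¹) = χ 1 := by
    have e1 : ((⟨a, ha⟩ * ⟨b, hb⟩ * ⟨a, ha⟩⁻¹ * ⟨b, hb⟩⁻¹ : N) : G) = a * b * a⁻¹ * b⁻¹ := rfl
    have e2 : ((1 : N) : G) = 1 := rfl
    rw [e1] at h2
    rw [e2] at h3
    rw [h2, h3]
  have h5 := hfaith _ h4
  have : a * b = (a * b * a⁻¹ * b⁻¹) * (b * a) := by group
  rw [this, h5, one_mul]

end Cfsg.Agent.Helper6.Dix
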