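import Mathlib
import Cfsg.Prelude.Def_Characters
import Cfsg.Prelude.Def_Solvable
import Cfsg.Agent.Helper6.DixA
import Cfsg.Agent.Helper6.DixD
import Cfsg.Agent.Helper6.DixE
import Cfsg.Agent.Helper6.DixF
import Cfsg.Agent.Helper6.DixG
import Cfsg.Agent.Helper6.DixH

/-!
# Dixon–Winter: conclusion in the primitive case
-/

set_option autoImplicit false
set_option linter.style.haveILetI false

namespace Cfsg.Agent.Helper6.Dix

open Module Representation ComplexConjugate

universe u v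

variable {G : Type u} [Group G]

theorem primitive_case [Fintype G] (hsolv : Group.IsSolvable G) {χ : G → ℂ}
    (hχ : Cfsg.IsIrrCharacter G χ) (hfaith : ∀ g : G, χ g = χ 1 → g = 1) (hprim : IsPrim χ)
    (n : ℕ) (hn : χ 1 = n) (p : ℕ) [hp : Fact p.Prime] (hpn : ¬ p ∣ n) (P : Sylow p G)
    (hP : ¬ (P : Subgroup G).Normal) : Goal p n := by
  haveI := hsolv
  have hZ : ∀ A : Subgroup G, A.Normal → (∀ a ∈ A, ∀ b ∈ A, a * b = b * a) →
      A ≤ Subgroup.center G := fun A hA hab => abelian_normal_le_center hχ hfaith hprim A hA hab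
  have hpc : Cfsg.pCore p G ≤ Subgroup.center G := by
    apply hZ _ inferInstance
    exact normal_pgroup_comm hχ hfaith hprim n hn p hpn (Cfsg.pCore p G)
      Cfsg.Agent.Helper4.pCore_isPGroup
  obtain ⟨r, hr, hrp, hnc⟩ := exists_pCore_not_centralized P hP hpc
  haveI : Fact r.Prime := ⟨hr⟩
  obtain ⟨D, hDn, hDp, hDP, hDD, hZD⟩ :=
    exists_minimal_not_centralized (P : Subgroup G) P.isPGroup' r hrp hZ hnc
  haveI := hDn
  obtain ⟨E, hED, hmod, hne⟩ := exists_section (P : Subgroup G) P.isPGroup' r hrp D hDp hDP hDD hZD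
  have hEc : ∀ a ∈ E, ∀ b ∈ E, a * b * a⁻¹ * b⁻¹ ∈ Subgroup.center G :=
    fun a ha b hb => comm_mem_of_commutator_le hDD (hED ha) (hED hb)
  obtain ⟨d, hdn, hdsq⟩ := exists_degree_sq hχ hfaith E hEc n hn
  have hEp : IsPGroup r E := hDp.to_le hED
  obtain ⟨a, ha⟩ := (IsPGroup.iff_card).1 hEp
  have hd1 : d ∣ r ^ a := by
    rw [← ha, ← hdsq, pow_two, mul_assoc]
    exact dvd_mul_right _ _
  have hz1 : Nat.card (Subgroup.center E) ∣ r ^ a := by
    rw [← ha, ← hdsq]
    exact dvd_mul_left _ _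
  obtain ⟨j, -, hj⟩ := (Nat.dvd_prime_pow hr).1 hd1
  have hj0 : j ≠ 0 := by
    intro h0
    rw [h0, pow_zero] at hj
    rw [hj, one_pow, one_mul] at hdsq
    exact hne hdsq
  have hdpp : IsPrimePow d := by rw [hj]; exact hr.isPrimePow.pow hj0
  have hpz : ¬ p ∣ Nat.card (Subgroup.center E) := by
    intro h
    have h1 : p ∣ r ^ a := h.trans hz1
    have h2 : p ∣ r := hp.out.dvd_of_dvd_pow h1
    exact hrp ((Nat.prime_dvd_prime_iff_eq hp.out hr).1 h2).symm
  have hmod2 : d ^ 2 * Nat.card (Subgroup.center E) ≡ Nat.card (Subgroup.center E) [MOD p] := by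
    rw [hdsq]; exact hmod
  have h1 := modEq_one_of_mul_modEq hp.out hpz hmod2
  exact goal_of_sq_modEq_one hp.out hdpp hdn h1

end Cfsg.Agent.Helper6.Dix
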