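import Mathlib
import Cfsg.Prelude.Def_Characters
import Cfsg.Agent.Helper6.ClassInner
import Cfsg.Agent.Helper6.Constituent
import Cfsg.Agent.Helper6.Induced
import Cfsg.Agent.Helper6.IndFun
import Cfsg.Agent.Helper6.IndFun2
import Cfsg.Agent.Helper6.Degrees
import Cfsg.Agent.Helper6.IrrCrit
import Cfsg.Agent.Helper6.IrrDegree
import Cfsg.Agent.Helper6.DixH

/-!
# Dixon–Winter: an imprimitive character is induced from a maximal subgroup
-/

set_option autoImplicit false
set_option linter.style.haveILetI false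

namespace Cfsg.Agent.Helper6.Dix

open Module Representation ComplexConjugate

universe u v

variable {G : Type u} [Group G]

/-- A character whose induction is irreducible is irreducible. -/
theorem irr_of_ind_irr [Fintype G] (H : Subgroup G) [Fintype H] (φ : H → ℂ)
    (hφ : Cfsg.IsCharacter H φ) (hind : Cfsg.IsIrrCharacter G (Cfsg.indFun H φ)) :
    Cfsg.IsIrrCharacter H φ := by
  classical
  have hφ0 : φ ≠ 0 := by
    intro h0
    rw [h0, indFun_zero] at hind
    exact IsIrrCharacter.apply_one_ne_zero hind rfl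
  obtain ⟨ξ, hξ, hcon⟩ := exists_irr_constituent hφ hφ0
  have hΔ : Cfsg.IsCharacter H (φ - ξ) := sub_isCharacter_of_constituent hφ hξ hcon
  have hsum : Cfsg.indFun H φ = Cfsg.indFun H ξ + Cfsg.indFun H (φ - ξ) := by
    rw [← indFun_add]; congr 1; ring
  have hiξ : Cfsg.IsCharacter G (Cfsg.indFun H ξ) :=
    isCharacter_indFun H ξ (IsIrrCharacter.isCharacter hξ)
  have hiΔ : Cfsg.IsCharacter G (Cfsg.indFun H (φ - ξ)) := isCharacter_indFun H _ hΔ
  have hidx : (H.index : ℂ) ≠ 0 := by
    have : H.index ≠ 0 := Subgroup.index_ne_zero_of_finite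
    exact_mod_cast this
  have hiξ0 : Cfsg.indFun H ξ ≠ 0 := by
    intro h0
    have := congrFun h0 1
    rw [indFun_apply_one] at this
    simp only [Pi.zero_apply] at this
    rcases mul_eq_zero.1 this with h | h
    · exact hidx h
    · exact IsIrrCharacter.apply_one_ne_zero hξ h
  obtain ⟨χ', hχ', hcon'⟩ := exists_irr_constituent hiξ hiξ0
  obtain ⟨a₁, ha₁⟩ := classInner_char_char_nat hiξ (IsIrrCharacter.isCharacter hχ')
  obtain ⟨a₂, ha₂⟩ := classInner_char_char_nat hiΔ (IsIrrCharacter.isCharacter hχ')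
  have hχeq : Cfsg.indFun H φ = χ' := by
    by_contra hne
    have h0 := classInner_irr_ne hind hχ' hne
    rw [hsum, classInner_add_left, ha₁, ha₂] at h0
    rw [ha₁] at hcon'
    have h1 : a₁ + a₂ = 0 := by exact_mod_cast h0
    apply hcon'
    have : a₁ = 0 := by omega
    rw [this]; simp
  have hcon2 : Cfsg.classInner (Cfsg.indFun H ξ) (Cfsg.indFun H φ) ≠ 0 := by rw [hχeq]; exact hcon'
  obtain ⟨a, b, ha, hb, hab⟩ := degree_le_of_classInner_ne_zero hiξ hind hcon2
  obtain ⟨c, hc⟩ := IsCharacter.apply_one hΔ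
  have h1 := congrFun hsum 1
  simp only [Pi.add_apply] at h1
  rw [ha, hb, indFun_apply_one, hc] at h1
  have h2 : a = b + H.index * c := by exact_mod_cast h1
  have h3 : H.index * c = 0 := by omega
  have hc0 : c = 0 := by
    rcases Nat.mul_eq_zero.1 h3 with h | h
    · exact absurd h Subgroup.index_ne_zero_of_finite
    · exact h
  rw [hc0] at hc
  have h4 := eq_zero_of_isCharacter_of_apply_one hΔ (by rw [hc]; simp)
  have h5 : φ = ξ := sub_eq_zero.1 h4
  rw [h5]; exact hξ

/-- An imprimitive irreducible character is induced from a maximal subgroup. -/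
theorem exists_coatom_induced [Fintype G] {χ : G → ℂ} (hχ : Cfsg.IsIrrCharacter G χ)
    (himp : ¬ IsPrim χ) :
    ∃ H : Subgroup G, IsCoatom H ∧ ∃ ψ : H → ℂ, Cfsg.IsIrrCharacter H ψ ∧ Cfsg.indFun H ψ = χ := by
  classical
  unfold IsPrim at himp
  push Not at himp
  obtain ⟨T, hT, ψ, hψ, hind⟩ := himp
  obtain ⟨H, hH, hTH⟩ := (eq_top_or_exists_le_coatom T).resolve_left hT
  haveI : Fintype H := Fintype.ofFinite _
  set θ' : T.subgroupOf H → ℂ := fun x => ψ ⟨(x : H), Subgroup.mem_subgroupOf.mp x.2⟩ with hθ'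
  have htrans := indFun_trans T H hTH ψ
  have hθ'c : Cfsg.IsCharacter (T.subgroupOf H) θ' := by
    have := IsCharacter.comp_hom (Subgroup.subgroupOfEquivOfLe hTH).toMonoidHom
      (IsIrrCharacter.isCharacter hψ)
    exact this
  have hφc : Cfsg.IsCharacter H (Cfsg.indFun (T.subgroupOf H) θ') :=
    isCharacter_indFun _ _ hθ'c
  refine ⟨H, hH, Cfsg.indFun (T.subgroupOf H) θ', ?_, ?_⟩
  · apply irr_of_ind_irr H _ hφc
    rw [htrans, hind]; exact hχ
  · rw [htrans, hind]

end Cfsg.Agent.Helper6.Dix
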