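import Mathlib
import Cfsg.Prelude.Def_Characters
import Cfsg.Prelude.Def_Blocks
import Cfsg.Agent.Helper6.BlockKernel
import Cfsg.Agent.Helper6.BlockPart
import Cfsg.Agent.Helper6.CliffordCorr
import Cfsg.Agent.Helper6.Expansion
import Cfsg.Agent.Helper6.IrrBasis
import Cfsg.Agent.Helper6.Induced
import Cfsg.Agent.Helper6.DixA

/-!
# Dixon–Winter: a Sylow subgroup inside a proper normal subgroup
-/

set_option autoImplicit false
set_option linter.style.haveILetI false

namespace Cfsg.Agent.Helper6.Dix

open Module Representation ComplexConjugate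

universe u v

variable {G : Type u} [Group G]

/-- the degree of a Clifford constituent divides the degree -/
theorem constituent_degree_dvd [Fintype G] {χ : G → ℂ} (hχ : Cfsg.IsIrrCharacter G χ)
    (K : Subgroup G) [hK : K.Normal] [Fintype K] (θ : Cfsg.IrrCharacter K)
    (hcon : Cfsg.classInner (fun k : K => χ k) (θ : K → ℂ) ≠ 0) (n : ℕ) (hn : χ 1 = n) :
    Cfsg.charDegree (θ : K → ℂ) ∣ n := by
  have hdeg := clifford_degree K χ hχ (θ : K → ℂ) θ.2 hcon (conjStab K (θ : K → ℂ))
    (fun g => mem_conjStab K _ g)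
  have hres : Cfsg.IsCharacter K (fun a : K => χ a) :=
    IsCharacter.restrict K (IsIrrCharacter.isCharacter hχ)
  obtain ⟨e, he⟩ := classInner_char_char_nat hres (IsIrrCharacter.isCharacter θ.2)
  rw [he, hn, ← charDegree_cast_of_isCharacter (IsIrrCharacter.isCharacter θ.2)] at hdeg
  have : n = e * (conjStab K (θ : K → ℂ)).index * Cfsg.charDegree (θ : K → ℂ) := by
    exact_mod_cast hdeg
  rw [this]
  exact dvd_mul_left _ _

/-- If a non-normal Sylow `p`-subgroup `P` of `G` lies in the normal subgroup `K` and `χ` is a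
faithful irreducible character of `G`, then for some constituent `θ` of `χ_K` the subgroup
`P ker θ` is not normal in `K`. -/
theorem exists_constituent_not_normal [Fintype G] {χ : G → ℂ} (hχ : Cfsg.IsIrrCharacter G χ)
    (hfaith : ∀ g : G, χ g = χ 1 → g = 1) (K : Subgroup G) [hK : K.Normal] (p : ℕ)
    [hp : Fact p.Prime] (P : Sylow p G) (hP : ¬ (P : Subgroup G).Normal)
    (hPK : (P : Subgroup G) ≤ K) (n : ℕ) (hn : χ 1 = n) :
    ∃ θ : Cfsg.IrrCharacter K,
      ¬ (((P.subtype hPK : Sylow p K) : Subgroup K) ⊔ kerSub θ).Normal ∧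
        Cfsg.charDegree (θ : K → ℂ) ∣ n := by
  classical
  haveI : Fintype K := Fintype.ofFinite _
  haveI : Finite (Cfsg.IrrCharacter K) := irr_finite
  haveI : Fintype (Cfsg.IrrCharacter K) := Fintype.ofFinite _
  by_contra hcon
  push Not at hcon
  apply hP
  set P' : Sylow p K := P.subtype hPK with hP'
  have hres : Cfsg.IsCharacter K (fun a : K => χ a) :=
    IsCharacter.restrict K (IsIrrCharacter.isCharacter hχ)
  have hnorm : ∀ θ : Cfsg.IrrCharacter K, Cfsg.classInner (fun k : K => χ k) (θ : K → ℂ) ≠ 0 →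
      ((P' : Subgroup K) ⊔ kerSub θ).Normal := by
    intro θ hθ
    by_contra hnn
    exact hcon θ hnn (constituent_degree_dvd hχ K θ hθ n hn)
  set L : Subgroup K := ⨅ θ : Cfsg.IrrCharacter K,
    ⨅ _ : Cfsg.classInner (fun k : K => χ k) (θ : K → ℂ) ≠ 0, ((P' : Subgroup K) ⊔ kerSub θ) with hL
  have hLn : L.Normal := by
    rw [hL]
    apply Subgroup.normal_iInf_normal
    intro θ
    apply Subgroup.normal_iInf_normal
    intro hθ
    exact hnorm θ hθ
  have hPL : (P' : Subgroup K) ≤ L := by
    rw [hL]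
    apply le_iInf
    intro θ
    apply le_iInf
    intro _
    exact le_sup_left
  have hexp := classFunction_expansion (fun k : K => χ k) (IsCharacter.isClassFunction hres)
  have hpow : ∀ x ∈ L, x ^ Nat.card (P' : Subgroup K) = 1 := by
    intro x hx
    have hker : ∀ θ : Cfsg.IrrCharacter K, Cfsg.classInner (fun k : K => χ k) (θ : K → ℂ) ≠ 0 →
        (θ : K → ℂ) (x ^ Nat.card (P' : Subgroup K)) = (θ : K → ℂ) 1 := by
      intro θ hθ
      rw [← mem_kerSub]
      haveI := kerSub_normal θ
      have hx' : x ∈ (P' : Subgroup K) ⊔ kerSub θ := by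
        rw [hL] at hx
        simp only [Subgroup.mem_iInf] at hx
        exact hx θ hθ
      obtain ⟨u, hu, k, hk, rfl⟩ := Subgroup.mem_sup_of_normal_right.1 hx'
      rw [← QuotientGroup.eq_one_iff, QuotientGroup.mk_pow, QuotientGroup.mk_mul,
        (QuotientGroup.eq_one_iff k).2 hk, mul_one, ← QuotientGroup.mk_pow]
      have : u ^ Nat.card (P' : Subgroup K) = 1 := by
        have := pow_card_eq_one' (G := (P' : Subgroup K)) (x := ⟨u, hu⟩)
        exact congrArg Subtype.val this
      rw [this]; rfl
    have h1 : χ ((x ^ Nat.card (P' : Subgroup K) : K) : G) = χ 1 := by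
      have e1 := congrFun hexp (x ^ Nat.card (P' : Subgroup K))
      have e2 := congrFun hexp 1
      simp only [Finset.sum_apply, Pi.smul_apply, smul_eq_mul] at e1 e2
      have e3 : χ ((1 : K) : G) = χ 1 := rfl
      rw [← e3, e1, e2]
      apply Finset.sum_congr rfl
      intro θ _
      by_cases hθ : Cfsg.classInner (fun k : K => χ k) (θ : K → ℂ) = 0
      · rw [hθ, zero_mul, zero_mul]
      · rw [hker θ hθ]
    have h2 := hfaith _ h1
    exact Subtype.ext h2
  have hLp : IsPGroup p L := by
    obtain ⟨a, ha⟩ := (IsPGroup.iff_card).1 P'.isPGroup'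
    intro x
    refine ⟨a, ?_⟩
    apply Subtype.ext
    have := hpow x x.2
    rw [ha] at this
    simpa using this
  have hLP : L = (P' : Subgroup K) := P'.is_maximal' hLp hPL
  have hP'n : (P' : Subgroup K).Normal := hLP ▸ hLn
  haveI hP'c : (P' : Subgroup K).Characteristic := Sylow.characteristic_of_normal _ hP'n
  have h4 : ((P' : Subgroup K).map K.subtype).Normal :=
    ConjAct.normal_of_characteristic_of_normal
  rw [hP', Sylow.coe_subtype, Subgroup.map_subgroupOf_eq_of_le hPK] at h4
  exact h4

end Cfsg.Agent.Helper6.Dix
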