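import Mathlib
import Cfsg.Prelude.Def_Characters
import Cfsg.Prelude.Def_Blocks
import Cfsg.Agent.Helper6.BlockKernel
import Cfsg.Agent.Helper6.BlockPart
import Cfsg.Agent.Helper6.Inflation
import Cfsg.Agent.Helper6.Degrees
import Cfsg.Agent.Helper6.DixA
import Cfsg.Agent.Helper6.DixC
import Cfsg.Agent.Helper6.DixH
import Cfsg.Agent.Helper6.DixI
import Cfsg.Agent.Helper6.DixJ
import Cfsg.Agent.Helper6.DixK

/-!
# Dixon–Winter: the induction
-/

set_option autoImplicit false
set_option linter.style.haveILetI false

namespace Cfsg.Agent.Helper6.Dix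

open Module Representation ComplexConjugate

universe u v

/-- The inductive statement, for all irreducible characters (not only the faithful ones). -/
def Holds (G : Type u) [Group G] [Finite G] : Prop :=
  ∀ (χ : Cfsg.IrrCharacter G) (p : ℕ), p.Prime → ∀ P : Sylow p G,
    ¬ ((P : Subgroup G) ⊔ kerSub χ).Normal → Goal p (Cfsg.charDegree (χ : G → ℂ))

variable {G : Type u} [Group G]

theorem faithful_step [Finite G] (hsolv : Group.IsSolvable G)
    (IH : ∀ K : Subgroup G, K ≠ ⊤ → Holds K) (χ : Cfsg.IrrCharacter G)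
    (hfaith : ∀ g : G, (χ : G → ℂ) g = (χ : G → ℂ) 1 → g = 1) (p : ℕ) (hp : p.Prime)
    (P : Sylow p G) (hP : ¬ (P : Subgroup G).Normal) :
    Goal p (Cfsg.charDegree (χ : G → ℂ)) := by
  classical
  haveI : Fintype G := Fintype.ofFinite _
  haveI : Fact p.Prime := ⟨hp⟩
  set n := Cfsg.charDegree (χ : G → ℂ) with hn
  have hn1 : (χ : G → ℂ) 1 = n := (charDegree_cast_of_isCharacter (IsIrrCharacter.isCharacter χ.2)).symm
  by_cases hpn : p ∣ n
  · exact goal_of_prime_dvd hp hpn
  by_cases hprim : IsPrim (χ : G → ℂ)
  · exact primitive_case hsolv χ.2 hfaith hprim n hn1 p hpn P hP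
  obtain ⟨H, hH, ψ, hψ, hind⟩ := exists_coatom_induced χ.2 hprim
  have hidx : H.index ∣ n := by
    obtain ⟨t, -, ht⟩ := IsIrrCharacter.apply_one_pos hψ
    have h1 := congrFun hind 1
    rw [indFun_apply_one, ht, hn1] at h1
    have : H.index * t = n := by exact_mod_cast h1
    rw [← this]
    exact dvd_mul_right _ _
  by_cases hPK : (P : Subgroup G) ≤ H.normalCore
  · obtain ⟨θ, hθn, hθd⟩ :=
      exists_constituent_not_normal χ.2 hfaith H.normalCore p P hP hPK n hn1
    have hKtop : H.normalCore ≠ ⊤ := by
      intro h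
      apply hH.1
      rw [eq_top_iff, ← h]
      exact Subgroup.normalCore_le H
    exact (IH H.normalCore hKtop θ p hp _ hθn).of_dvd hθd
  · have hpH : ¬ p ∣ H.index := fun h => hpn (h.trans hidx)
    obtain ⟨q, hq, hqd, hq1⟩ := primePow_of_coatom hsolv H hH p (P : Subgroup G) P.isPGroup' hPK hpH
    exact goal_of_modEq_one hq (hqd.trans hidx) hq1

theorem holds_of_solvable : ∀ (N : ℕ) (G : Type u) [Group G] [Finite G], Nat.card G = N →
    Group.IsSolvable G → Holds G := by
  intro N
  induction N using Nat.strong_induction_on with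
  | _ N ih =>
    intro G _ _ hcard hsolv χ p hp P hPn
    haveI := hsolv
    haveI : Fact p.Prime := ⟨hp⟩
    by_cases hker : kerSub χ = ⊥
    · -- faithful
      apply faithful_step hsolv _ χ _ p hp P
      · rw [hker, sup_bot_eq] at hPn
        exact hPn
      · intro K hK
        have hlt : Nat.card K < N := by
          rw [← hcard]
          refine lt_of_le_of_ne (Subgroup.card_le_card_group K) ?_
          intro h
          exact hK ((Subgroup.card_eq_iff_eq_top K).1 h)
        exact ih (Nat.card K) hlt K rfl inferInstance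
      · intro g hg
        have : g ∈ kerSub χ := (mem_kerSub χ g).2 hg
        rw [hker, Subgroup.mem_bot] at this
        exact this
    · -- deflation
      haveI hNn : (kerSub χ).Normal := kerSub_normal χ
      obtain ⟨χ', hχ'⟩ := exists_deflate (kerSub χ) χ (fun n hn => (mem_kerSub χ n).1 hn)
      have hlt : Nat.card (G ⧸ kerSub χ) < N := by
        rw [← hcard, Subgroup.card_eq_card_quotient_mul_card_subgroup (kerSub χ)]
        have h1 : 1 < Nat.card (kerSub χ) := (Subgroup.one_lt_card_iff_ne_bot _).2 hker
        have h2 : 0 < Nat.card (G ⧸ kerSub χ) := Nat.card_pos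
        nlinarith
      have hH := ih _ hlt (G ⧸ kerSub χ) rfl inferInstance
      have hsurj := QuotientGroup.mk'_surjective (kerSub χ)
      have hker' : kerSub χ' = ⊥ := by
        rw [eq_bot_iff]
        intro x hx
        obtain ⟨g, rfl⟩ := QuotientGroup.mk_surjective x
        rw [mem_kerSub] at hx
        have h1 : (χ : G → ℂ) g = (χ : G → ℂ) 1 := by
          rw [hχ']
          simp only [Function.comp_apply]
          rw [hx]; rfl
        rw [Subgroup.mem_bot]
        exact (QuotientGroup.eq_one_iff g).2 ((mem_kerSub χ g).2 h1)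
      have hdeg : Cfsg.charDegree (χ' : G ⧸ kerSub χ → ℂ) = Cfsg.charDegree (χ : G → ℂ) := by
        unfold Cfsg.charDegree
        rw [hχ']
        rfl
      rw [← hdeg]
      apply hH χ' p hp (P.mapSurjective hsurj)
      intro hnorm
      apply hPn
      rw [hker', sup_bot_eq, Sylow.coe_mapSurjective] at hnorm
      have h1 := hnorm.comap (QuotientGroup.mk' (kerSub χ))
      rw [Subgroup.comap_map_eq, QuotientGroup.ker_mk'] at h1
      exact h1

end Cfsg.Agent.Helper6.Dix
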