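import Mathlib
import Cfsg.Prelude.Def_Characters
import Cfsg.Prelude.Def_Blocks
import Cfsg.Prelude.Def_Transfer
import Cfsg.Agent.Helper6.Extraspecial
import Cfsg.Agent.Helper6.IndFun
import Cfsg.Agent.Helper6.Induced
import Cfsg.Agent.Helper6.IrrCrit

/-!
# Induced characters of extraspecial groups
-/

set_option autoImplicit false
set_option linter.style.haveILetI false

namespace Cfsg.Agent.Helper6

open Module Representation ComplexConjugate
open scoped commutatorElement

universe u v

variable {P : Type u} [Group P]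

/-- A character of degree one is a homomorphism to the units. -/
theorem exists_hom_of_char_degree_one {A : Type u} [Group A] {lam : A → ℂ}
    (hlam : Cfsg.IsCharacter A lam) (h1 : lam 1 = 1) :
    ∃ μ : A →* ℂˣ, lam = fun a => ((μ a : ℂˣ) : ℂ) := by
  obtain ⟨m, ρ, hρ⟩ := hlam
  have hm : m = 1 := by
    have : ρ.character 1 = (finrank ℂ (Fin m → ℂ) : ℂ) := Representation.char_one ρ
    rw [hρ, h1] at this
    simp at this
    exact_mod_cast this.symm
  subst hm
  have hirr : Cfsg.IsIrrCharacter A lam :=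
    ⟨1, ρ, isIrreducible_of_finrank_eq_one ρ (by simp), hρ⟩
  exact exists_hom_of_irr_degree_one hirr h1

theorem extraspecial_induced [Fintype P] (p n : ℕ) [hp : Fact p.Prime]
    (hP : Cfsg.IsExtraspecial p P) (hcard : Nat.card P = p ^ (2 * n + 1)) (A : Subgroup P)
    (hA : Nat.card A = p ^ (n + 1)) (lam : A → ℂ)
    (hlam : Cfsg.IsCharacter A lam ∧ lam 1 = 1)
    (hZ : ∃ a : A, (a : P) ∈ Subgroup.center P ∧ lam a ≠ 1) :
    Cfsg.IsIrrCharacter P (Cfsg.indFun A lam) ∧
      ∀ x : P, x ∉ Subgroup.center P → Cfsg.indFun A lam x = 0 := by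
  classical
  obtain ⟨⟨-, -, hcomm⟩, hZc⟩ := hP
  obtain ⟨μ, hμ⟩ := exists_hom_of_char_degree_one hlam.1 hlam.2
  obtain ⟨a₀, ha₀Z, ha₀⟩ := hZ
  have ha₀1 : (a₀ : P) ≠ 1 := by
    intro h
    apply ha₀
    have : a₀ = 1 := Subtype.ext h
    rw [this, hlam.2]
  -- centre inside A
  have hZA : Subgroup.center P ≤ A := by
    intro z hz
    obtain ⟨k, hk⟩ := center_subset_powers p hZc (a₀ : P) ha₀Z ha₀1 z hz
    rw [← hk]
    exact A.pow_mem a₀.2 k
  -- λ nontrivial on nonidentity central elements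
  have hlamc : ∀ c : P, ∀ hc : c ∈ Subgroup.center P, c ≠ 1 → lam ⟨c, hZA hc⟩ ≠ 1 := by
    intro c hc hc1 h1
    obtain ⟨k, hk⟩ := center_subset_powers p hZc c hc hc1 (a₀ : P) ha₀Z
    apply ha₀
    have : a₀ = (⟨c, hZA hc⟩ : A) ^ k := Subtype.ext (by simpa using hk.symm)
    rw [this, hμ]
    simp only [map_pow, Units.val_pow_eq_pow_val]
    rw [hμ] at h1
    simp only at h1
    rw [h1, one_pow]
  -- multiplicativity of the extension by zero by central elements
  have hext : ∀ c : P, ∀ hc : c ∈ Subgroup.center P, ∀ y : P,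
      Cfsg.extendByZero A lam (c * y) = lam ⟨c, hZA hc⟩ * Cfsg.extendByZero A lam y := by
    intro c hc y
    by_cases hy : y ∈ A
    · rw [extendByZero_mem A lam hy, extendByZero_mem A lam (A.mul_mem (hZA hc) hy), hμ]
      simp only
      rw [← Units.val_mul, ← map_mul]
      rfl
    · have hcy : c * y ∉ A := by
        intro h
        apply hy
        have := A.mul_mem (A.inv_mem (hZA hc)) h
        simpa using this
      rw [extendByZero_not_mem A lam hy, extendByZero_not_mem A lam hcy, mul_zero]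
  have hind : ∀ c : P, ∀ hc : c ∈ Subgroup.center P, ∀ g : P,
      Cfsg.indFun A lam (c * g) = lam ⟨c, hZA hc⟩ * Cfsg.indFun A lam g := by
    intro c hc g
    rw [indFun_apply, indFun_apply, mul_left_comm]
    congr 1
    rw [Finset.mul_sum]
    apply Finset.sum_congr rfl
    intro x _
    rw [← hext c hc]
    congr 1
    have := (Subgroup.mem_center_iff.mp hc) x⁻¹
    calc x⁻¹ * (c * g) * x = (x⁻¹ * c) * g * x := by group
      _ = (c * x⁻¹) * g * x := by rw [this]
      _ = c * (x⁻¹ * g * x) := by group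
  -- vanishing
  have hvan : ∀ x : P, x ∉ Subgroup.center P → Cfsg.indFun A lam x = 0 := by
    intro g hg
    obtain ⟨h, c, hc, hc1, hconj⟩ := exists_conj_eq_central_mul hcomm g hg
    have h2 := indFun_isClassFunction A lam g h
    rw [hconj, hind c hc g] at h2
    have h4 : (lam ⟨c, hZA hc⟩ - 1) * Cfsg.indFun A lam g = 0 := by
      rw [sub_mul, h2, one_mul, sub_self]
    rcases mul_eq_zero.mp h4 with h5 | h5
    · exact absurd (sub_eq_zero.mp h5) (hlamc c hc hc1)
    · exact h5
  refine ⟨?_, hvan⟩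
  -- norm computation
  have hchar : Cfsg.IsCharacter P (Cfsg.indFun A lam) := isCharacter_indFun A lam hlam.1
  apply isIrrCharacter_of_classInner_self hchar
  rw [classInner_self_eq]
  have hnorm : ∀ a : A, ‖lam a‖ = 1 := by
    intro a
    rw [hμ]
    simp only
    have hk1 : (μ a) ^ orderOf a = 1 := by
      rw [← map_pow, pow_orderOf_eq_one, map_one]
    apply norm_eq_one_of_pow_eq_one (orderOf_pos a)
    rw [← Units.val_pow_eq_pow_val, hk1, Units.val_one]
  have hval : ∀ z : P, z ∈ Subgroup.center P → ‖Cfsg.indFun A lam z‖ ^ 2 = ((p : ℝ) ^ n) ^ 2 := by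
    intro z hz
    have h1 : Cfsg.indFun A lam z = (Nat.card A : ℂ)⁻¹ * ((Nat.card P : ℂ) * lam ⟨z, hZA hz⟩) := by
      rw [indFun_apply]
      congr 1
      have : ∀ x : P, Cfsg.extendByZero A lam (x⁻¹ * z * x) = lam ⟨z, hZA hz⟩ := by
        intro x
        have h3 : x⁻¹ * z * x = z := by
          have := (Subgroup.mem_center_iff.mp hz) x⁻¹
          rw [this]
          group
        rw [h3, extendByZero_mem A lam (hZA hz)]
      simp only [this, Finset.sum_const, Finset.card_univ, nsmul_eq_mul]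
      rw [Nat.card_eq_fintype_card]
    rw [h1, hA, hcard, norm_mul, norm_mul, hnorm, mul_one, norm_inv]
    simp only [Nat.cast_pow, norm_pow, Complex.norm_natCast]
    have hp0 : (p : ℝ) ≠ 0 := by exact_mod_cast hp.out.ne_zero
    have : (p : ℝ) ^ (2 * n + 1) = (p : ℝ) ^ (n + 1) * (p : ℝ) ^ n := by ring
    rw [this, ← mul_assoc, inv_mul_cancel₀ (pow_ne_zero _ hp0), one_mul]
  have hsum : ∑ g : P, ‖Cfsg.indFun A lam g‖ ^ 2 =
      ∑ g ∈ Finset.univ.filter (fun g : P => g ∈ Subgroup.center P), ((p : ℝ) ^ n) ^ 2 := by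
    rw [Finset.sum_filter]
    apply Finset.sum_congr rfl
    intro g _
    split_ifs with hg
    · exact hval g hg
    · rw [hvan g hg]
      simp
  rw [hsum, Finset.sum_const, nsmul_eq_mul]
  have h3 : (Finset.univ.filter (fun g : P => g ∈ Subgroup.center P)).card = p := by
    rw [← hZc, Nat.card_eq_fintype_card, Fintype.card_subtype]
  rw [h3, hcard]
  have hp0 : (p : ℂ) ≠ 0 := by exact_mod_cast hp.out.ne_zero
  push_cast
  have : (p : ℂ) ^ (2 * n + 1) = (p : ℂ) * ((p : ℂ) ^ n) ^ 2 := by ring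
  rw [this, inv_mul_cancel₀]
  exact mul_ne_zero hp0 (pow_ne_zero _ (pow_ne_zero _ hp0))

end Cfsg.Agent.Helper6
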