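import Mathlib
import Cfsg.Prelude.Def_Characters
import Cfsg.Agent.Helper6.GaloisConj
import Cfsg.Agent.Helper6.OddReal
import Cfsg.Agent.Helper6.QuotientRep
import Cfsg.Agent.Helper6.RepEigen

/-!
# Galois automorphisms of 2-power order inverting odd roots of unity: basic lemmas
-/

set_option autoImplicit false
set_option linter.style.haveILetI false

namespace Cfsg.Agent.Helper6

open scoped ComplexConjugate

universe u

/-- Weighted fixed point congruence modulo 2 for a permutation of 2-power order. -/
theorem sum_modEq_sum_fixed {α : Type*} [Fintype α] [DecidableEq α] :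
    ∀ (e : ℕ) (τ : Equiv.Perm α), τ ^ (2 ^ e) = 1 → ∀ (F : α → ℕ), (∀ a, F (τ a) = F a) →
    ((∑ a, F a : ℕ) : ZMod 2) =
      ((∑ a ∈ Finset.univ.filter (fun a => τ a = a), F a : ℕ) : ZMod 2) := by
  intro e
  induction e with
  | zero =>
    intro τ hτ F hF
    have : τ = 1 := by simpa using hτ
    subst this
    simp
  | succ e ih =>
    intro τ hτ F hF
    have hτ2 : (τ ^ 2) ^ (2 ^ e) = 1 := by
      rw [← pow_mul, ← pow_succ']
      exact hτ
    have hF2 : ∀ a, F ((τ ^ 2) a) = F a := by
      intro a
      rw [pow_two, Equiv.Perm.mul_apply, hF, hF]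
    rw [ih (τ ^ 2) hτ2 F hF2]
    rw [← Finset.sum_filter_add_sum_filter_not
      (Finset.univ.filter (fun a => (τ ^ 2) a = a)) (fun a => τ a = a)]
    have h1 : (Finset.univ.filter (fun a => (τ ^ 2) a = a)).filter (fun a => τ a = a) =
        Finset.univ.filter (fun a => τ a = a) := by
      ext a
      simp only [Finset.mem_filter, Finset.mem_univ, true_and]
      constructor
      · exact fun h => h.2
      · intro h
        refine ⟨?_, h⟩
        rw [pow_two, Equiv.Perm.mul_apply, h, h]
    have h2 : ∑ a ∈ (Finset.univ.filter (fun a => (τ ^ 2) a = a)).filter (fun a => ¬ τ a = a),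
        (F a : ZMod 2) = 0 := by
      apply Finset.sum_involution (fun a _ => τ a)
      · intro a _
        rw [hF]
        exact CharTwo.add_self_eq_zero _
      · intro a ha _
        simp only [Finset.mem_filter, Finset.mem_univ, true_and] at ha
        exact ha.2
      · intro a ha
        simp only [Finset.mem_filter, Finset.mem_univ, true_and] at ha ⊢
        have h3 : τ (τ a) = a := by
          have := ha.1
          rwa [pow_two, Equiv.Perm.mul_apply] at this
        refine ⟨?_, ?_⟩
        · rw [pow_two, Equiv.Perm.mul_apply, h3]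
        · rw [h3]
          exact fun h => ha.2 h.symm
      · intro a ha
        simp only [Finset.mem_filter, Finset.mem_univ, true_and] at ha
        have := ha.1
        rwa [pow_two, Equiv.Perm.mul_apply] at this
    rw [h1]
    simp only [Nat.cast_add, Nat.cast_sum]
    rw [h2, add_zero]

variable {G : Type u} [Group G]

/-- The hypotheses on the exponent `k`: the power map `g ↦ g ^ k` induces a Galois automorphism
of 2-power order which inverts the odd order roots of unity. -/
structure SigmaHyp (G : Type u) [Group G] (k e : ℕ) : Prop where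
  cop : k.Coprime (Nat.card G)
  pow : k ^ (2 ^ e) ≡ 1 [MOD Nat.card G]
  inv : ∀ g : G, Odd (orderOf g) → g ^ k = g⁻¹

theorem SigmaHyp.pow_pow_eq [Finite G] {k e : ℕ} (h : SigmaHyp G k e) (g : G) :
    g ^ (k ^ (2 ^ e)) = g := by
  have h1 : k ^ (2 ^ e) ≡ 1 [MOD orderOf g] := h.pow.of_dvd (orderOf_dvd_natCard g)
  have h2 := (pow_eq_pow_iff_modEq (x := g)).mpr h1
  rw [h2, pow_one]

theorem SigmaHyp.subgroup [Finite G] {k e : ℕ} (h : SigmaHyp G k e) (H : Subgroup G) :
    SigmaHyp H k e where
  cop := Nat.Coprime.coprime_dvd_right (Subgroup.card_subgroup_dvd_card H) h.cop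
  pow := h.pow.of_dvd (Subgroup.card_subgroup_dvd_card H)
  inv := by
    intro g hg
    apply Subtype.ext
    rw [Subgroup.coe_pow, Subgroup.coe_inv]
    apply h.inv
    rwa [Subgroup.orderOf_coe]

/-- The exponent `|G| - 1` gives complex conjugation. -/
theorem sigmaHyp_card_sub_one [Finite G] : SigmaHyp G (Nat.card G - 1) 1 where
  cop := by
    have hpos : 0 < Nat.card G := Nat.card_pos
    have : Nat.Coprime (Nat.card G - 1) (Nat.card G - 1 + 1) := by
      rw [Nat.coprime_self_add_right]
      exact Nat.coprime_one_right _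
    rwa [Nat.sub_add_cancel hpos] at this
  pow := by
    have hpos : 0 < Nat.card G := Nat.card_pos
    rw [← ZMod.natCast_eq_natCast_iff]
    push_cast
    have h1 : ((Nat.card G - 1 : ℕ) : ZMod (Nat.card G)) = -1 := by
      rw [Nat.cast_sub hpos]
      simp
    rw [h1]
    norm_num
  inv := by
    intro g _
    have hpos : 0 < Nat.card G := Nat.card_pos
    rw [eq_inv_iff_mul_eq_one, ← pow_succ, Nat.sub_add_cancel hpos, pow_card_eq_one']

theorem pow_card_sub_one_eq_inv [Finite G] (g : G) : g ^ (Nat.card G - 1) = g⁻¹ := by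
  have hpos : 0 < Nat.card G := Nat.card_pos
  rw [eq_inv_iff_mul_eq_one, ← pow_succ, Nat.sub_add_cancel hpos, pow_card_eq_one']

section perm

variable [Fintype G]

/-- The Galois action on irreducible characters. -/
noncomputable def sigmaMap (k : ℕ) (hk : k.Coprime (Nat.card G)) :
    Cfsg.IrrCharacter G → Cfsg.IrrCharacter G :=
  fun ξ => ⟨fun g => (ξ : G → ℂ) (g ^ k), IsIrrCharacter.comp_pow ξ.2 k hk⟩

theorem sigmaMap_injective (k : ℕ) (hk : k.Coprime (Nat.card G)) :
    Function.Injective (sigmaMap (G := G) k hk) := by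
  intro ξ ξ' h
  apply Subtype.ext
  funext g
  obtain ⟨g', rfl⟩ := (powCoprime hk.symm).surjective g
  exact congrFun (congrArg Subtype.val h) g'

/-- The Galois action as a permutation. -/
noncomputable def sigmaPerm (k : ℕ) (hk : k.Coprime (Nat.card G)) :
    Equiv.Perm (Cfsg.IrrCharacter G) :=
  haveI : Finite (Cfsg.IrrCharacter G) := irr_finite
  Equiv.ofBijective (sigmaMap k hk) (Finite.injective_iff_bijective.mp (sigmaMap_injective k hk))

theorem sigmaPerm_apply (k : ℕ) (hk : k.Coprime (Nat.card G)) (ξ : Cfsg.IrrCharacter G) (g : G) :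
    ((sigmaPerm k hk ξ : Cfsg.IrrCharacter G) : G → ℂ) g = (ξ : G → ℂ) (g ^ k) := rfl

theorem sigmaPerm_pow_apply (k : ℕ) (hk : k.Coprime (Nat.card G)) (m : ℕ)
    (ξ : Cfsg.IrrCharacter G) (g : G) :
    (((sigmaPerm k hk ^ m) ξ : Cfsg.IrrCharacter G) : G → ℂ) g = (ξ : G → ℂ) (g ^ (k ^ m)) := by
  induction m generalizing g with
  | zero => simp
  | succ m ih =>
    rw [pow_succ', Equiv.Perm.mul_apply, sigmaPerm_apply, ih, ← pow_mul, ← pow_succ']

theorem sigmaPerm_pow_eq_one {k e : ℕ} (h : SigmaHyp G k e) :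
    sigmaPerm (G := G) k h.cop ^ (2 ^ e) = 1 := by
  ext ξ g
  rw [sigmaPerm_pow_apply, h.pow_pow_eq, Equiv.Perm.one_apply]

theorem sigmaPerm_fixed_iff (k : ℕ) (hk : k.Coprime (Nat.card G)) (ξ : Cfsg.IrrCharacter G) :
    sigmaPerm k hk ξ = ξ ↔ ∀ g : G, (ξ : G → ℂ) (g ^ k) = (ξ : G → ℂ) g := by
  constructor
  · intro h g
    exact congrFun (congrArg Subtype.val h) g
  · intro h
    apply Subtype.ext
    funext g
    exact h g

end perm

end Cfsg.Agent.Helper6
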