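import Mathlib
import Cfsg.Prelude.Def_Characters
import Cfsg.Agent.Helper6.SigmaParity1

/-!
# A fixed irreducible character containing a normal subgroup of odd index in its kernel is trivial
-/

set_option autoImplicit false
set_option linter.style.haveILetI false

namespace Cfsg.Agent.Helper6

open Module
open scoped ComplexConjugate

universe u

variable {G : Type u} [Group G]

theorem exists_odd_order_rep [Finite G] (N : Subgroup G) [N.Normal] (hodd : Odd N.index) (g : G) :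
    ∃ h : G, Odd (orderOf h) ∧ (QuotientGroup.mk h : G ⧸ N) = QuotientGroup.mk g := by
  have hm0 : orderOf g ≠ 0 := (orderOf_pos g).ne'
  obtain ⟨a, m', hm'odd, hm⟩ := Nat.exists_eq_two_pow_mul_odd hm0
  have ht0 : 0 < N.index := Nat.pos_of_ne_zero Subgroup.index_ne_zero_of_finite
  have hφ : 0 < Nat.totient N.index := Nat.totient_pos.mpr ht0
  refine ⟨g ^ ((2 ^ a) ^ Nat.totient N.index), ?_, ?_⟩
  · have h1 : (g ^ ((2 ^ a) ^ Nat.totient N.index)) ^ m' = 1 := by
      rw [← pow_mul]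
      obtain ⟨j, hj⟩ := Nat.exists_eq_succ_of_ne_zero hφ.ne'
      rw [hj, pow_succ, mul_assoc, ← hm, pow_mul', pow_orderOf_eq_one, one_pow]
    exact Odd.of_dvd_nat hm'odd (orderOf_dvd_of_pow_eq_one h1)
  · rw [QuotientGroup.mk_pow]
    have hcop : Nat.Coprime (2 ^ a) N.index :=
      Nat.Coprime.pow_left a (Nat.coprime_two_left.mpr hodd)
    have hJ : (2 ^ a) ^ Nat.totient N.index ≡ 1 [MOD N.index] := Nat.ModEq.pow_totient hcop
    have hx : (QuotientGroup.mk g : G ⧸ N) ^ N.index = 1 := by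
      rw [Subgroup.index_eq_card]
      exact pow_card_eq_one'
    have := (pow_eq_pow_iff_modEq (x := (QuotientGroup.mk g : G ⧸ N))).mpr
      (hJ.of_dvd (orderOf_dvd_of_pow_eq_one hx))
    rw [this, pow_one]

theorem eq_one_of_sigma_fixed_of_ker [Finite G] {k e : ℕ} (h : SigmaHyp G k e) (N : Subgroup G)
    [hN : N.Normal] (hodd : Odd N.index) (ξ : G → ℂ) (hξ : Cfsg.IsIrrCharacter G ξ)
    (hfix : ∀ g, ξ (g ^ k) = ξ g) (hker : ∀ n ∈ N, ξ n = ξ 1) : ξ = fun _ => 1 := by
  have hξc := IsIrrCharacter.isCharacter hξ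
  obtain ⟨n, ρ, hirr, hρ⟩ := hξ
  haveI := hirr
  have hρN : ∀ x ∈ N, ρ x = 1 := by
    intro x hx
    have h1 : ρ.character x = (finrank ℂ (Fin n → ℂ) : ℂ) := by
      rw [hρ, hker x hx, ← hρ, Representation.char_one]
    exact (char_eq_finrank_iff ρ x).mp h1
  haveI := quotientRep_isIrreducible ρ N hρN
  let β : Cfsg.IrrCharacter (G ⧸ N) :=
    ⟨(quotientRep ρ N hρN).character, n, quotientRep ρ N hρN, inferInstance, rfl⟩
  have hβ : ∀ g : G, (β : G ⧸ N → ℂ) (QuotientGroup.mk g) = ξ g := by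
    intro g
    rw [← hρ]
    rfl
  have hoddQ : Odd (Nat.card (G ⧸ N)) := by rwa [← Subgroup.index_eq_card]
  have hreal : ∀ x : G ⧸ N, ((β : G ⧸ N → ℂ) x).im = 0 := by
    intro x
    obtain ⟨g, rfl⟩ := QuotientGroup.mk_surjective x
    obtain ⟨h', hh'odd, hh'⟩ := exists_odd_order_rep N hodd g
    rw [← hh', hβ]
    have h1 : ξ (h'⁻¹) = ξ h' := by
      rw [← h.inv h' hh'odd]
      exact hfix h'
    rw [IsCharacter.inv_eq_conj hξc] at h1
    exact Complex.conj_eq_iff_im.mp h1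
  have h3 := eq_one_of_real_of_odd hoddQ β hreal
  funext g
  rw [← hβ g, h3]

end Cfsg.Agent.Helper6
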