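import Mathlib
import Cfsg.Prelude.Def_Characters
import Cfsg.Agent.Helper6.SigmaParity2X
import Cfsg.Agent.Helper6.AbelianInertia
import Cfsg.Agent.Helper6.Expansion

/-!
(Fork of `SigmaParity3` with one declaration renamed, so that it can be imported together with the
`RelGlaub` files.)

# The parity lemma for restrictions of Galois-fixed characters to normal subgroups of odd index
-/

set_option autoImplicit false
set_option linter.style.haveILetI false

namespace Cfsg.Agent.Helper6

open Module
open scoped ComplexConjugate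

universe u

variable {G : Type u} [Group G]

set_option maxHeartbeats 800000 in
theorem sigma_parity [Fintype G] {k e : ℕ} (h : SigmaHyp G k e) (N : Subgroup G)
    [hN : N.Normal] [Fintype N] (hodd : Odd N.index) (χ χ' : G → ℂ)
    (hχ : Cfsg.IsIrrCharacter G χ) (hχ' : Cfsg.IsIrrCharacter G χ')
    (hfix : ∀ g, χ (g ^ k) = χ g) (hfix' : ∀ g, χ' (g ^ k) = χ' g) :
    ∃ z : ℤ, Cfsg.classInner (fun n : N => χ n) (fun n : N => χ' n) =
      (if χ = χ' then 1 else 0) + 2 * (z : ℂ) := by
  classical
  haveI : Finite (Cfsg.IrrCharacter G) := irr_finite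
  haveI : Fintype (Cfsg.IrrCharacter G) := Fintype.ofFinite _
  have hχc := IsIrrCharacter.isCharacter hχ
  have hχ'c := IsIrrCharacter.isCharacter hχ'
  set ψ : G → ℂ := χ * fun g => conj (χ' g) with hψ
  have hψc : Cfsg.IsCharacter G ψ :=
    IsCharacter.mul hχc (IsIrrCharacter.isCharacter (conj_isIrr hχ'))
  have hψfix : ∀ g, ψ (g ^ k) = ψ g := by
    intro g
    simp only [hψ, Pi.mul_apply, hfix, hfix']
  have hone : Cfsg.IsIrrCharacter G (fun _ : G => (1 : ℂ)) := isIrrCharacter_one
  have honeN : Cfsg.IsIrrCharacter N (fun _ : N => (1 : ℂ)) := isIrrCharacter_one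
  have hm : ∀ ξ : Cfsg.IrrCharacter G, ∃ m : ℕ, Cfsg.classInner ψ (ξ : G → ℂ) = m :=
    fun ξ => classInner_char_char_nat hψc (IsIrrCharacter.isCharacter ξ.2)
  choose m hm using hm
  have hc : ∀ ξ : Cfsg.IrrCharacter G, ∃ c : ℕ,
      Cfsg.classInner (fun n : N => (ξ : G → ℂ) n) (fun _ : N => (1 : ℂ)) = c :=
    fun ξ => classInner_char_char_nat (IsCharacter.restrict N (IsIrrCharacter.isCharacter ξ.2))
      (IsIrrCharacter.isCharacter honeN)
  choose c hc using hc
  have hexp := classFunction_expansion ψ (IsCharacter.isClassFunction hψc)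
  have hinner : Cfsg.classInner (fun n : N => χ n) (fun n : N => χ' n) =
      ∑ ξ : Cfsg.IrrCharacter G, (m ξ : ℂ) * (c ξ : ℂ) := by
    have h1 : Cfsg.classInner (fun n : N => χ n) (fun n : N => χ' n) =
        Cfsg.classInner (fun n : N => ψ n) (fun _ : N => (1 : ℂ)) := by
      rw [classInner_def, classInner_def]
      congr 1
      apply Finset.sum_congr rfl
      intro n _
      simp only [hψ, Pi.mul_apply, map_one, mul_one]
    rw [h1]
    have h2 : (fun n : N => ψ n) =
        ∑ ξ : Cfsg.IrrCharacter G, Cfsg.classInner ψ (ξ : G → ℂ) • (fun n : N => (ξ : G → ℂ) n) := by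
      funext n
      have h3 := congrFun hexp (n : G)
      rw [Finset.sum_apply] at h3
      rw [Finset.sum_apply]
      exact h3
    rw [h2, classInner_sum_left]
    apply Finset.sum_congr rfl
    intro ξ _
    rw [classInner_smul_left, hm, hc]
  set τ := sigmaPerm (G := G) k h.cop with hτ
  set F : Cfsg.IrrCharacter G → ℕ := fun ξ => m ξ * c ξ with hF
  have hmτ : ∀ ξ, m (τ ξ) = m ξ := by
    intro ξ
    have h1 : (m (τ ξ) : ℂ) = m ξ := by
      rw [← hm, ← hm]
      have h2 : ((τ ξ : Cfsg.IrrCharacter G) : G → ℂ) = fun g => (ξ : G → ℂ) (g ^ k) := rfl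
      have h3 : ψ = fun g => ψ (g ^ k) := by
        funext g
        exact (hψfix g).symm
      rw [h2]
      conv_lhs => rw [h3]
      exact classInner_comp_pow ψ (ξ : G → ℂ) k h.cop
    exact_mod_cast h1
  have hcτ : ∀ ξ, c (τ ξ) = c ξ := by
    intro ξ
    have h1 : (c (τ ξ) : ℂ) = c ξ := by
      rw [← hc, ← hc]
      have h2 : (fun n : N => ((τ ξ : Cfsg.IrrCharacter G) : G → ℂ) n) =
          fun n : N => (fun n' : N => (ξ : G → ℂ) n') (n ^ k) := rfl
      have h3 : (fun _ : N => (1 : ℂ)) = fun n : N => (fun _ : N => (1 : ℂ)) (n ^ k) := rfl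
      rw [h2]
      conv_lhs => rw [h3]
      exact classInner_comp_pow (fun n' : N => (ξ : G → ℂ) n') (fun _ : N => (1 : ℂ)) k
        (h.subgroup N).cop
    exact_mod_cast h1
  have hFτ : ∀ ξ, F (τ ξ) = F ξ := by
    intro ξ
    simp only [hF, hmτ, hcτ]
  have hmod := sum_modEq_sum_fixed_two e τ (sigmaPerm_pow_eq_one h) F hFτ
  -- the fixed part
  let one : Cfsg.IrrCharacter G := ⟨fun _ => 1, hone⟩
  have honefix : τ one = one := by
    apply Subtype.ext
    funext g
    rfl
  have hfixed : ∑ ξ ∈ Finset.univ.filter (fun ξ => τ ξ = ξ), F ξ = if χ = χ' then 1 else 0 := by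
    rw [Finset.sum_eq_single_of_mem one (by simp [honefix])]
    · have hc1 : c one = 1 := by
        have h1 : (c one : ℂ) = 1 := by
          rw [← hc]
          exact classInner_irr_self honeN
        exact_mod_cast h1
      have hm1 : (m one : ℂ) = if χ = χ' then 1 else 0 := by
        rw [← hm]
        have h1 : Cfsg.classInner ψ ((one : Cfsg.IrrCharacter G) : G → ℂ) =
            Cfsg.classInner χ χ' := by
          rw [classInner_def, classInner_def]
          congr 1
          apply Finset.sum_congr rfl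
          intro g _
          simp only [hψ, Pi.mul_apply, map_one, mul_one, one]
        rw [h1]
        split_ifs with heq
        · rw [heq]
          exact classInner_irr_self hχ'
        · exact classInner_irr_ne hχ hχ' heq
      simp only [hF, hc1, mul_one]
      split_ifs with heq
      · rw [if_pos heq] at hm1
        exact_mod_cast hm1
      · rw [if_neg heq] at hm1
        exact_mod_cast hm1
    · intro ξ hξmem hne
      simp only [Finset.mem_filter, Finset.mem_univ, true_and] at hξmem
      by_contra hF0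
      have hc0 : c ξ ≠ 0 := by
        intro h0
        apply hF0
        simp only [hF, h0, mul_zero]
      have hcon : Cfsg.classInner (fun n : N => (ξ : G → ℂ) n) (fun _ : N => (1 : ℂ)) ≠ 0 := by
        rw [hc]
        exact_mod_cast hc0
      have hcl := clifford_invariant_top N (fun _ : N => (1 : ℂ)) honeN (fun x => rfl)
        (ξ : G → ℂ) ξ.2 hcon
      have hker : ∀ n ∈ N, (ξ : G → ℂ) n = (ξ : G → ℂ) 1 := by
        intro n hn
        have h1 := congrFun hcl ⟨n, hn⟩
        have h2 := congrFun hcl 1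
        simp only [Pi.smul_apply, smul_eq_mul, mul_one] at h1 h2
        rw [h1]
        exact h2.symm
      have hξfix : ∀ g, (ξ : G → ℂ) (g ^ k) = (ξ : G → ℂ) g :=
        (sigmaPerm_fixed_iff k h.cop ξ).mp hξmem
      have := eq_one_of_sigma_fixed_of_ker h N hodd (ξ : G → ℂ) ξ.2 hξfix hker
      exact hne (Subtype.ext this)
  rw [hfixed] at hmod
  have hmod2 := (ZMod.natCast_eq_natCast_iff _ _ 2).mp hmod
  obtain ⟨w, hw⟩ := (Nat.modEq_iff_dvd).mp hmod2
  refine ⟨-w, ?_⟩
  rw [hinner]
  have h5 : ((∑ ξ : Cfsg.IrrCharacter G, F ξ : ℕ) : ℤ) =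
      ((if χ = χ' then 1 else 0 : ℕ) : ℤ) + 2 * (-w) := by
    have h2 : ((2 : ℕ) : ℤ) = 2 := rfl
    rw [h2] at hw
    linarith
  have h6 : ∑ ξ : Cfsg.IrrCharacter G, (m ξ : ℂ) * (c ξ : ℂ) =
      ((∑ ξ : Cfsg.IrrCharacter G, F ξ : ℕ) : ℂ) := by
    simp only [hF]
    push_cast
    rfl
  rw [h6]
  have h7 : ((∑ ξ : Cfsg.IrrCharacter G, F ξ : ℕ) : ℂ) =
      (((∑ ξ : Cfsg.IrrCharacter G, F ξ : ℕ) : ℤ) : ℂ) := by
    push_cast
    rfl
  rw [h7, h5]
  push_cast
  split_ifs <;> simp

end Cfsg.Agent.Helper6
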