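import Mathlib
import Cfsg.Prelude.Def_Characters
import Cfsg.Agent.Helper6.SigmaParity3X

/-!
(Fork of `SigmaParity4` with one declaration renamed, so that it can be imported together with the
`RelGlaub` files.)

# Uniqueness of Galois-fixed characters over a character of a normal subgroup of odd index
-/

set_option autoImplicit false
set_option linter.style.haveILetI false

namespace Cfsg.Agent.Helper6

open Module
open scoped ComplexConjugate

universe u

variable {G : Type u} [Group G]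

theorem sigma_unique_over [Fintype G] {k e : ℕ} (h : SigmaHyp G k e) (N : Subgroup G)
    [hN : N.Normal] [Fintype N] (hodd : Odd N.index) (θ : N → ℂ) (hθ : Cfsg.IsIrrCharacter N θ)
    (χ χ' : G → ℂ) (hχ : Cfsg.IsIrrCharacter G χ) (hχ' : Cfsg.IsIrrCharacter G χ')
    (hfix : ∀ g, χ (g ^ k) = χ g) (hfix' : ∀ g, χ' (g ^ k) = χ' g)
    (hover : Cfsg.classInner (fun n : N => χ n) θ ≠ 0)
    (hover' : Cfsg.classInner (fun n : N => χ' n) θ ≠ 0) : χ = χ' := by
  by_contra hne
  obtain ⟨z₁, hz₁⟩ := sigma_parity h N hodd χ χ hχ hχ hfix hfix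
  obtain ⟨z₂, hz₂⟩ := sigma_parity h N hodd χ' χ' hχ' hχ' hfix' hfix'
  obtain ⟨z₃, hz₃⟩ := sigma_parity h N hodd χ χ' hχ hχ' hfix hfix'
  rw [if_pos rfl] at hz₁ hz₂
  rw [if_neg hne] at hz₃
  have hcl := clifford N χ hχ θ hθ hover
  have hcl' := clifford N χ' hχ' θ hθ hover'
  obtain ⟨a, ha⟩ := classInner_char_char_nat
    (IsCharacter.restrict N (IsIrrCharacter.isCharacter hχ)) (IsIrrCharacter.isCharacter hθ)
  obtain ⟨b, hb⟩ := classInner_char_char_nat
    (IsCharacter.restrict N (IsIrrCharacter.isCharacter hχ')) (IsIrrCharacter.isCharacter hθ)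
  rw [ha] at hcl
  rw [hb] at hcl'
  set S : N → ℂ := ∑ᶠ ψ ∈ {ψ : N → ℂ | ∃ g : G, ψ = conjFun N θ g}, ψ with hS
  set T := Cfsg.classInner S S with hT
  have h11 : Cfsg.classInner (fun n : N => χ n) (fun n : N => χ n) = a * a * T := by
    rw [hcl, classInner_smul_left, classInner_smul_right, Complex.conj_natCast]
    ring
  have h22 : Cfsg.classInner (fun n : N => χ' n) (fun n : N => χ' n) = b * b * T := by
    rw [hcl', classInner_smul_left, classInner_smul_right, Complex.conj_natCast]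
    ring
  have h12 : Cfsg.classInner (fun n : N => χ n) (fun n : N => χ' n) = a * b * T := by
    rw [hcl, hcl', classInner_smul_left, classInner_smul_right, Complex.conj_natCast]
    ring
  have hkey : ((0 : ℂ) + 2 * (z₃ : ℂ)) ^ 2 = (1 + 2 * (z₁ : ℂ)) * (1 + 2 * (z₂ : ℂ)) := by
    rw [← hz₁, ← hz₂, ← hz₃, h11, h22, h12]
    ring
  have hkeyZ : ((0 : ℤ) + 2 * z₃) ^ 2 = (1 + 2 * z₁) * (1 + 2 * z₂) := by
    exact_mod_cast hkey
  have h3 : 4 * (z₃ * z₃) = 1 + 2 * z₁ + 2 * z₂ + 4 * (z₁ * z₂) := by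
    linear_combination hkeyZ
  omega

end Cfsg.Agent.Helper6
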