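import Mathlib
import Cfsg.Prelude.Def_Characters
import Cfsg.Agent.Helper6.SigmaParity4X
import Cfsg.Agent.Helper6.SquareRoots

/-!
(Fork of `FSOddIndex` with one declaration renamed, so that it can be imported together with the
`RelGlaub` files.)

# Frobenius–Schur indicators and normal subgroups of odd index
-/

set_option autoImplicit false
set_option linter.style.haveILetI false

namespace Cfsg.Agent.Helper6

open Module
open scoped ComplexConjugate

universe u

variable {G : Type u} [Group G]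

theorem mem_of_sq_mem (N : Subgroup G) [N.Normal] (hodd : Odd N.index) (s : G)
    (hs : s * s ∈ N) : s ∈ N := by
  obtain ⟨j, hj⟩ := hodd
  have h1 : s ^ N.index ∈ N := Subgroup.pow_index_mem N s
  have h2 : (s * s) ^ j ∈ N := N.pow_mem hs j
  have h3 : s = s ^ N.index * ((s * s) ^ j)⁻¹ := by
    rw [hj, ← pow_two, ← pow_mul, eq_mul_inv_iff_mul_eq, ← pow_succ']
  rw [h3]
  exact N.mul_mem h1 (N.inv_mem h2)

theorem card_sqrt_subgroup [Fintype G] [DecidableEq G] (N : Subgroup G) [N.Normal] [Fintype N]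
    (hodd : Odd N.index) (n : N) :
    (Finset.univ.filter (fun s : N => s * s = n)).card =
      (Finset.univ.filter (fun s : G => s * s = (n : G))).card := by
  refine Finset.card_bij (fun (s : N) _ => ((s : N) : G)) ?_ ?_ ?_
  · intro s hs
    simp only [Finset.mem_filter, Finset.mem_univ, true_and] at hs ⊢
    rw [← hs]
    rfl
  · intro s _ s' _ hss
    exact Subtype.ext hss
  · intro s hs
    simp only [Finset.mem_filter, Finset.mem_univ, true_and] at hs
    have hsN : s ∈ N := mem_of_sq_mem N hodd s (by rw [hs]; exact n.2)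
    refine ⟨⟨s, hsN⟩, ?_, rfl⟩
    simp only [Finset.mem_filter, Finset.mem_univ, true_and]
    exact Subtype.ext hs

theorem sum_fs_restrict [Fintype G] (N : Subgroup G) [hN : N.Normal] [Fintype N]
    [Fintype (Cfsg.IrrCharacter G)] [Fintype (Cfsg.IrrCharacter N)]
    (hodd : Odd N.index) (φ : Cfsg.IrrCharacter N) :
    ∑ χ : Cfsg.IrrCharacter G, fsIndFun (χ : G → ℂ) *
      Cfsg.classInner (fun n : N => (χ : G → ℂ) n) (φ : N → ℂ) = fsIndFun (φ : N → ℂ) := by
  classical
  have hfun : (∑ χ : Cfsg.IrrCharacter G, fsIndFun (χ : G → ℂ) • fun n : N => (χ : G → ℂ) n) =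
      ∑ θ : Cfsg.IrrCharacter N, fsIndFun (θ : N → ℂ) • (θ : N → ℂ) := by
    funext n
    rw [Finset.sum_apply, Finset.sum_apply]
    have h1 := card_sq_eq_eq_sum (G := G) (n : G)
    have h2 := card_sq_eq_eq_sum (G := N) n
    rw [card_sqrt_subgroup N hodd n] at h2
    simp only [Pi.smul_apply, smul_eq_mul]
    rw [← h1, ← h2]
  have h3 := congrArg (fun f => Cfsg.classInner f (φ : N → ℂ)) hfun
  rw [classInner_sum_left, classInner_sum_left] at h3
  simp only [classInner_smul_left] at h3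
  rw [h3, Finset.sum_eq_single φ]
  · rw [classInner_irr_self φ.2, mul_one]
  · intro θ _ hne
    rw [classInner_irr_ne θ.2 φ.2 (fun h => hne (Subtype.ext h)), mul_zero]
  · intro h
    exact absurd (Finset.mem_univ _) h

theorem real_iff_fixed_card_sub_one [Finite G] (χ : G → ℂ) (hχ : Cfsg.IsCharacter G χ) :
    (∀ g, (χ g).im = 0) ↔ ∀ g, χ (g ^ (Nat.card G - 1)) = χ g := by
  constructor
  · intro h g
    rw [pow_card_sub_one_eq_inv, IsCharacter.inv_eq_conj hχ]
    exact Complex.conj_eq_iff_im.mpr (h g)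
  · intro h g
    have h1 := h g
    rw [pow_card_sub_one_eq_inv, IsCharacter.inv_eq_conj hχ] at h1
    exact Complex.conj_eq_iff_im.mp h1

theorem fs_unique_over [Fintype G] (N : Subgroup G) [hN : N.Normal] [Fintype N]
    (hodd : Odd N.index) (φ : Cfsg.IrrCharacter N) (hφ : fsIndFun (φ : N → ℂ) = 1) :
    ∃! χ : Cfsg.IrrCharacter G, fsIndFun (χ : G → ℂ) = 1 ∧
      Cfsg.classInner (fun n : N => (χ : G → ℂ) n) (φ : N → ℂ) ≠ 0 := by
  classical
  haveI : Finite (Cfsg.IrrCharacter G) := irr_finite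
  haveI : Fintype (Cfsg.IrrCharacter G) := Fintype.ofFinite _
  haveI : Finite (Cfsg.IrrCharacter N) := irr_finite
  haveI : Fintype (Cfsg.IrrCharacter N) := Fintype.ofFinite _
  have hsum := sum_fs_restrict N hodd φ
  rw [hφ] at hsum
  have hσ : SigmaHyp G (Nat.card G - 1) 1 := sigmaHyp_card_sub_one
  -- any two members of the support agree
  have huniq : ∀ χ χ' : Cfsg.IrrCharacter G, fsIndFun (χ : G → ℂ) ≠ 0 →
      Cfsg.classInner (fun n : N => (χ : G → ℂ) n) (φ : N → ℂ) ≠ 0 →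
      fsIndFun (χ' : G → ℂ) ≠ 0 →
      Cfsg.classInner (fun n : N => (χ' : G → ℂ) n) (φ : N → ℂ) ≠ 0 → χ = χ' := by
    intro χ χ' h1 h2 h1' h2'
    have hreal : ∀ ξ : Cfsg.IrrCharacter G, fsIndFun (ξ : G → ℂ) ≠ 0 →
        ∀ g, (ξ : G → ℂ) (g ^ (Nat.card G - 1)) = (ξ : G → ℂ) g := by
      intro ξ hξ
      apply (real_iff_fixed_card_sub_one _ (IsIrrCharacter.isCharacter ξ.2)).mp
      rcases irr_fs_cases ξ with ⟨hr, -⟩ | ⟨-, h0⟩
      · exact hr
      · exact absurd h0 hξ
    apply Subtype.ext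
    exact sigma_unique_over hσ N hodd (φ : N → ℂ) φ.2 _ _ χ.2 χ'.2 (hreal χ h1) (hreal χ' h1') h2 h2'
  -- the support is nonempty
  have hex : ∃ χ : Cfsg.IrrCharacter G, fsIndFun (χ : G → ℂ) *
      Cfsg.classInner (fun n : N => (χ : G → ℂ) n) (φ : N → ℂ) ≠ 0 := by
    by_contra hno
    push Not at hno
    rw [Finset.sum_eq_zero (fun χ _ => hno χ)] at hsum
    exact zero_ne_one hsum
  obtain ⟨χ₀, hχ₀⟩ := hex
  have h1 : fsIndFun (χ₀ : G → ℂ) ≠ 0 := left_ne_zero_of_mul hχ₀
  have h2 : Cfsg.classInner (fun n : N => (χ₀ : G → ℂ) n) (φ : N → ℂ) ≠ 0 :=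
    right_ne_zero_of_mul hχ₀
  have hsingle : fsIndFun (χ₀ : G → ℂ) *
      Cfsg.classInner (fun n : N => (χ₀ : G → ℂ) n) (φ : N → ℂ) = 1 := by
    rw [← hsum]
    symm
    apply Finset.sum_eq_single χ₀
    · intro χ _ hne
      by_contra hne0
      exact hne (huniq χ χ₀ (left_ne_zero_of_mul hne0) (right_ne_zero_of_mul hne0) h1 h2)
    · intro h
      exact absurd (Finset.mem_univ _) h
  obtain ⟨a, ha⟩ := classInner_char_char_nat
    (IsCharacter.restrict N (IsIrrCharacter.isCharacter χ₀.2)) (IsIrrCharacter.isCharacter φ.2)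
  have hν : fsIndFun (χ₀ : G → ℂ) = 1 := by
    rcases irr_fs_cases χ₀ with ⟨-, hp | hm⟩ | ⟨-, h0⟩
    · exact hp
    · exfalso
      rw [hm, ha] at hsingle
      have h3 : ((a : ℤ) : ℂ) = ((-1 : ℤ) : ℂ) := by
        push_cast
        linear_combination -hsingle
      have h4 : (a : ℤ) = -1 := by exact_mod_cast h3
      omega
    · exact absurd h0 h1
  refine ⟨χ₀, ⟨hν, h2⟩, ?_⟩
  rintro χ ⟨hχν, hχover⟩
  exact huniq χ χ₀ (by rw [hχν]; exact one_ne_zero) hχover h1 h2

end Cfsg.Agent.Helper6
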