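import Mathlib
import Cfsg.Prelude.Def_Characters
import Cfsg.Agent.Helper6.CharBasic
import Cfsg.Agent.Helper6.ClassInner
import Cfsg.Agent.Helper6.CentralChar
import Cfsg.Agent.Helper6.IrrDegree

/-!
# Averaging an irreducible character over a normal subgroup, and counting over a T.I. set
-/

set_option autoImplicit false
set_option linter.style.haveILetI false

namespace Cfsg.Agent.Helper6

open Module
open scoped ComplexConjugate

universe u

variable {G : Type u} [Group G]

/-- the average of an irreducible character over the cosets of a normal subgroup `H` is the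
character itself (when `H` is in the kernel) or zero -/
theorem avg_irr_normal [Fintype G] (H : Subgroup G) [hH : H.Normal] [Fintype H]
    {η : G → ℂ} (hη : Cfsg.IsIrrCharacter G η) :
    ∃ t : ℂ, (t = 0 ∨ t = 1) ∧ ∀ g : G, ∑ h : H, η (g * h) = t * (Nat.card H : ℂ) * η g := by
  classical
  have hη1 : η 1 ≠ 0 := IsIrrCharacter.apply_one_ne_zero hη
  obtain ⟨n, ρ, hirr, rfl⟩ := hη
  haveI := hirr
  set S : Finset G := Finset.univ.filter (fun x => x ∈ H) with hS
  have hSconj : ∀ g x : G, x ∈ S → g * x * g⁻¹ ∈ S := by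
    intro g x hx
    rw [hS, Finset.mem_filter] at hx ⊢
    exact ⟨Finset.mem_univ _, hH.conj_mem x hx.2 g⟩
  obtain ⟨a, ha⟩ := exists_scalar_of_commute ρ (∑ x ∈ S, ρ x) (sum_rep_commute ρ S hSconj)
  have hsum : ∀ f : G → ℂ, ∑ h : H, f h = ∑ x ∈ S, f x := by
    intro f
    rw [hS]
    symm
    exact Finset.sum_subtype (Finset.univ.filter (fun x => x ∈ H))
      (fun x => by simp) f
  have hval : ∀ g : G, ∑ h : H, ρ.character (g * h) = a * ρ.character g := by
    intro g
    rw [hsum (fun x => ρ.character (g * x))]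
    unfold Representation.character
    have h1 : ∀ x ∈ S, LinearMap.trace ℂ _ (ρ (g * x)) = LinearMap.trace ℂ _ (ρ g * ρ x) := by
      intro x _
      rw [map_mul]
    rw [Finset.sum_congr rfl h1, ← map_sum, ← Finset.mul_sum, ha]
    rw [mul_smul_comm, map_smul, smul_eq_mul]
    congr 1
  -- idempotency
  have hidem : a * a = (Nat.card H : ℂ) * a := by
    have h2 : ∑ h : H, ∑ h' : H, ρ.character (1 * (h : G) * (h' : G)) =
        ∑ h : H, ∑ h' : H, ρ.character (1 * (h' : G)) := by
      apply Finset.sum_congr rfl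
      intro h _
      have : ∀ h' : H, ρ.character (1 * (h : G) * (h' : G)) =
          ρ.character (1 * ((h * h' : H) : G)) := by
        intro h'
        rw [Subgroup.coe_mul, mul_assoc]
      rw [Finset.sum_congr rfl (fun h' _ => this h')]
      exact Equiv.sum_comp (Equiv.mulLeft h) (fun h'' : H => ρ.character (1 * (h'' : G)))
    have h3 : ∀ h : H, ∑ h' : H, ρ.character (1 * (h : G) * (h' : G)) =
        a * ρ.character (1 * (h : G)) := fun h => hval (1 * (h : G))
    rw [Finset.sum_congr rfl (fun h _ => h3 h), ← Finset.mul_sum, hval 1, Finset.sum_const,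
      Finset.card_univ, ← Nat.card_eq_fintype_card, nsmul_eq_mul] at h2
    have h4 : (a * a) * ρ.character 1 = ((Nat.card H : ℂ) * a) * ρ.character 1 := by
      rw [mul_assoc, h2, mul_assoc]
    exact mul_right_cancel₀ hη1 h4
  have hcard : (Nat.card H : ℂ) ≠ 0 := by exact_mod_cast Nat.card_pos.ne'
  refine ⟨a / (Nat.card H : ℂ), ?_, ?_⟩
  · by_cases ha0 : a = 0
    · left
      rw [ha0, zero_div]
    · right
      have : a = (Nat.card H : ℂ) := mul_right_cancel₀ ha0 hidem
      rw [this, div_self hcard]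
  · intro g
    rw [hval g, div_mul_cancel₀ _ hcard]

/-- counting over the conjugates of a T.I. set -/
theorem ti_sum_bound [Fintype G] [DecidableEq G] (N : Subgroup G) (D : Finset G)
    (hTI : ∀ d ∈ D, ∀ x : G, x * d * x⁻¹ ∈ D → x ∈ N) (h1 : (1 : G) ∉ D)
    (f : G → ℝ) (hf : ∀ g, 0 ≤ f g) (hcl : ∀ g x : G, f (x * g * x⁻¹) = f g) :
    (Nat.card G : ℝ) * ∑ d ∈ D, f d ≤ (Nat.card N : ℝ) * (∑ g : G, f g - f 1) := by
  classical
  haveI : Fintype N := Fintype.ofFinite _
  set T : Finset (G × G) := (Finset.univ : Finset G) ×ˢ D with hT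
  set φ : G × G → G := fun t => t.1 * t.2 * t.1⁻¹ with hφ
  have hL : ∑ t ∈ T, f (φ t) = (Nat.card G : ℝ) * ∑ d ∈ D, f d := by
    rw [hT, Finset.sum_product]
    have : ∀ x : G, ∑ d ∈ D, f (φ (x, d)) = ∑ d ∈ D, f d := by
      intro x
      apply Finset.sum_congr rfl
      intro d _
      exact hcl d x
    rw [Finset.sum_congr rfl (fun x _ => this x), Finset.sum_const, Finset.card_univ,
      ← Nat.card_eq_fintype_card, nsmul_eq_mul]
  have hfib : ∀ g : G, (T.filter (fun t => φ t = g)).card ≤ Nat.card N := by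
    intro g
    by_cases hne : (T.filter (fun t => φ t = g)).Nonempty
    · obtain ⟨t0, ht0⟩ := hne
      rw [Finset.mem_filter] at ht0
      have ht0D : t0.2 ∈ D := (Finset.mem_product.mp ht0.1).2
      rw [Nat.card_eq_fintype_card, ← Finset.card_univ]
      have hmem : ∀ t ∈ T.filter (fun t => φ t = g), t0.1⁻¹ * t.1 ∈ N := by
        intro t ht
        rw [Finset.mem_filter] at ht
        have htD : t.2 ∈ D := (Finset.mem_product.mp ht.1).2
        apply hTI t.2 htD
        have h2 : t.1 * t.2 * t.1⁻¹ = t0.1 * t0.2 * t0.1⁻¹ := ht.2.trans ht0.2.symm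
        have h3 : t0.1⁻¹ * t.1 * t.2 * (t0.1⁻¹ * t.1)⁻¹ = t0.2 := by
          calc t0.1⁻¹ * t.1 * t.2 * (t0.1⁻¹ * t.1)⁻¹
              = t0.1⁻¹ * (t.1 * t.2 * t.1⁻¹) * t0.1 := by group
            _ = t0.2 := by rw [h2]; group
        rw [h3]
        exact ht0D
      apply Finset.card_le_card_of_injOn
        (fun t => if h : t0.1⁻¹ * t.1 ∈ N then (⟨t0.1⁻¹ * t.1, h⟩ : N) else 1)
      · intro t _
        exact Finset.mem_univ _
      · intro t ht t' ht' htt
        have hm := hmem t ht
        have hm' := hmem t' ht'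
        simp only [hm, hm', dif_pos] at htt
        have h4 : t0.1⁻¹ * t.1 = t0.1⁻¹ * t'.1 := congrArg Subtype.val htt
        have h5 : t.1 = t'.1 := mul_left_cancel h4
        have ht2 := (Finset.mem_filter.mp ht).2
        have ht2' := (Finset.mem_filter.mp ht').2
        have h6 : t.1 * t.2 * t.1⁻¹ = t'.1 * t'.2 * t'.1⁻¹ := ht2.trans ht2'.symm
        rw [← h5] at h6
        have h7 : t.2 = t'.2 := by
          have := mul_right_cancel h6
          exact mul_left_cancel this
        exact Prod.ext h5 h7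
    · rw [Finset.not_nonempty_iff_eq_empty] at hne
      rw [hne, Finset.card_empty]
      exact Nat.zero_le _
  have himg : T.image φ ⊆ (Finset.univ : Finset G).erase 1 := by
    intro g hg
    obtain ⟨t, ht, rfl⟩ := Finset.mem_image.mp hg
    rw [Finset.mem_erase]
    refine ⟨?_, Finset.mem_univ _⟩
    intro h
    have htD : t.2 ∈ D := (Finset.mem_product.mp ht).2
    have : t.2 = 1 := by
      have h2 : t.1 * t.2 * t.1⁻¹ = 1 := h
      calc t.2 = t.1⁻¹ * (t.1 * t.2 * t.1⁻¹) * t.1 := by group
        _ = 1 := by rw [h2]; group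
    rw [this] at htD
    exact h1 htD
  have hR : ∑ t ∈ T, f (φ t) ≤ (Nat.card N : ℝ) * (∑ g : G, f g - f 1) := by
    rw [Finset.sum_comp f φ]
    calc ∑ b ∈ T.image φ, (T.filter (fun a => φ a = b)).card • f b
        ≤ ∑ b ∈ T.image φ, (Nat.card N : ℝ) * f b := by
          apply Finset.sum_le_sum
          intro b _
          rw [nsmul_eq_mul]
          apply mul_le_mul_of_nonneg_right _ (hf b)
          exact_mod_cast hfib b
      _ = (Nat.card N : ℝ) * ∑ b ∈ T.image φ, f b := by rw [Finset.mul_sum]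
      _ ≤ (Nat.card N : ℝ) * ∑ b ∈ (Finset.univ : Finset G).erase 1, f b := by
          apply mul_le_mul_of_nonneg_left _ (Nat.cast_nonneg _)
          exact Finset.sum_le_sum_of_subset_of_nonneg himg (fun b _ _ => hf b)
      _ = (Nat.card N : ℝ) * (∑ g : G, f g - f 1) := by
          rw [← Finset.add_sum_erase Finset.univ f (Finset.mem_univ (1 : G))]
          ring_nf
  rw [← hL]
  exact hR

end Cfsg.Agent.Helper6
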