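import Mathlib
import Cfsg.Prelude.Def_Characters
import Cfsg.Agent.Helper6.FTLemA
import Cfsg.Agent.Helper6.Expansion
import Cfsg.Agent.Helper6.Induced
import Cfsg.Agent.Helper6.CentralDefectA
import Cfsg.Agent.Helper6.TILeoC

/-!
# Parseval for combinations of irreducible characters
-/

set_option autoImplicit false
set_option linter.style.haveILetI false

namespace Cfsg.Agent.Helper6

open Module
open scoped ComplexConjugate

universe u

variable {G : Type u} [Group G]

theorem sum_normSq_irr_combo [Fintype G] [Fintype (Cfsg.IrrCharacter G)]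
    (a : Cfsg.IrrCharacter G → ℂ) :
    ∑ g : G, ‖∑ η : Cfsg.IrrCharacter G, a η * (η : G → ℂ) g‖ ^ 2 =
      (Nat.card G : ℝ) * ∑ η : Cfsg.IrrCharacter G, ‖a η‖ ^ 2 := by
  classical
  set f : G → ℂ := ∑ η : Cfsg.IrrCharacter G, a η • (η : G → ℂ) with hf
  have hfg : ∀ g : G, f g = ∑ η : Cfsg.IrrCharacter G, a η * (η : G → ℂ) g := by
    intro g
    rw [hf, Finset.sum_apply]
    apply Finset.sum_congr rfl
    intro η _
    rw [Pi.smul_apply, smul_eq_mul]
  have h1 : Cfsg.classInner f f = ∑ η : Cfsg.IrrCharacter G, a η * conj (a η) := by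
    conv_lhs => rw [hf]
    rw [classInner_sum_left]
    apply Finset.sum_congr rfl
    intro η _
    rw [classInner_smul_left, classInner_sum_right]
    congr 1
    rw [Finset.sum_eq_single η]
    · rw [classInner_smul_right, classInner_irr_self η.2, mul_one]
    · intro η' _ hne
      rw [classInner_smul_right, classInner_irr_ne η.2 η'.2
        (fun h => hne (Subtype.ext h).symm), mul_zero]
    · intro h
      exact absurd (Finset.mem_univ η) h
  rw [classInner_self_eq] at h1
  have hcard : (Nat.card G : ℂ) ≠ 0 := by exact_mod_cast Nat.card_pos.ne'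
  have h2 : ((∑ g : G, ‖f g‖ ^ 2 : ℝ) : ℂ) =
      (Nat.card G : ℂ) * ∑ η : Cfsg.IrrCharacter G, a η * conj (a η) := by
    rw [← h1, ← mul_assoc, mul_inv_cancel₀ hcard, one_mul]
  have h3 : ∑ η : Cfsg.IrrCharacter G, a η * conj (a η) =
      ((∑ η : Cfsg.IrrCharacter G, ‖a η‖ ^ 2 : ℝ) : ℂ) := by
    push_cast
    apply Finset.sum_congr rfl
    intro η _
    rw [Complex.mul_conj, Complex.normSq_eq_norm_sq]
    push_cast
    rfl
  rw [h3] at h2
  have h4 : (∑ g : G, ‖f g‖ ^ 2 : ℝ) =
      (Nat.card G : ℝ) * ∑ η : Cfsg.IrrCharacter G, ‖a η‖ ^ 2 := by exact_mod_cast h2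
  rw [← h4]
  apply Finset.sum_congr rfl
  intro g _
  rw [hfg g]

/-- a sum of values of a character over a subgroup equal to the maximal possible value forces
the subgroup into the kernel -/
theorem char_eq_of_sum_eq [Finite G] {χ : G → ℂ} (hχ : Cfsg.IsCharacter G χ) (H : Subgroup G)
    [Fintype H] (hsum : ∑ h : H, χ h = (Nat.card H : ℂ) * χ 1) : ∀ h ∈ H, χ h = χ 1 := by
  obtain ⟨n, hn⟩ := IsCharacter.apply_one hχ
  have hle : ∀ g : G, ‖χ g‖ ≤ (n : ℝ) := by
    intro g
    have := IsCharacter.norm_le_one hχ g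
    rwa [hn, Complex.norm_natCast] at this
  have hre : ∀ g : G, (χ g).re ≤ (n : ℝ) := fun g => (Complex.re_le_norm _).trans (hle g)
  have h1 : ∑ h : H, ((n : ℝ) - (χ h).re) = 0 := by
    rw [Finset.sum_sub_distrib, Finset.sum_const, Finset.card_univ, ← Nat.card_eq_fintype_card,
      nsmul_eq_mul]
    have := congrArg Complex.re hsum
    rw [Complex.re_sum, hn] at this
    rw [this]
    simp
  have h2 := (Finset.sum_eq_zero_iff_of_nonneg
    (f := fun h : H => (n : ℝ) - (χ (h : G)).re) (s := Finset.univ)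
    (fun h _ => sub_nonneg.mpr (hre (h : G)))).mp h1
  intro h hh
  have h3 : (χ h).re = (n : ℝ) := by
    have := h2 ⟨h, hh⟩ (Finset.mem_univ _)
    linarith
  have h4 : (χ h).im = 0 := by
    have h5 := hle h
    have h6 : ‖χ h‖ ^ 2 = (χ h).re ^ 2 + (χ h).im ^ 2 := by
      rw [← Complex.normSq_eq_norm_sq, Complex.normSq_apply]
      ring
    have h7 : ‖χ h‖ ^ 2 ≤ (n : ℝ) ^ 2 := by
      apply pow_le_pow_left₀ (norm_nonneg _) h5
    rw [h6, h3] at h7
    nlinarith [sq_nonneg (χ h).im]
  rw [hn]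
  apply Complex.ext
  · rw [h3]; simp
  · rw [h4]; simp

end Cfsg.Agent.Helper6
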