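import Mathlib
import Cfsg.Prelude.Def_Characters
import Cfsg.Agent.Helper6.FTLemA
import Cfsg.Agent.Helper6.FTLemB

/-!
# The lemma of Feit and Thompson on abelian subgroups with the one-conjugate property, first part
-/

set_option autoImplicit false
set_option linter.style.haveILetI false

namespace Cfsg.Agent.Helper6

open Module
open scoped ComplexConjugate

universe u

variable {G : Type u} [Group G]

theorem map_conj_one (H : Subgroup G) : H.map (MulAut.conj (1 : G)).toMonoidHom = H := by
  ext x
  simp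

theorem mem_normalizer_of_map_conj_eq (H : Subgroup G) (y : G)
    (h : H.map (MulAut.conj y).toMonoidHom = H) : y ∈ Subgroup.normalizer (H : Set G) := by
  rw [Subgroup.mem_normalizer_iff]
  intro x
  constructor
  · intro hx
    rw [← h]
    exact ⟨x, hx, by simp [MulAut.conj_apply]⟩
  · intro hx
    rw [← h] at hx
    obtain ⟨x', hx', hxx⟩ := hx
    have : x' = x := by
      have h2 : y * x' * y⁻¹ = y * x * y⁻¹ := by simpa [MulAut.conj_apply] using hxx
      exact mul_left_cancel (mul_right_cancel h2)
    rw [← this]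
    exact hx'

/-- the set of non-central elements commuting with a non-identity element of `H` is a T.I. set -/
theorem ft_ti (H : Subgroup G)
    (hone : ∀ g : G, g ∉ Subgroup.center G → ∀ a b : G,
      Subgroup.centralizer ({g} : Set G) ⊓ H.map (MulAut.conj a).toMonoidHom ≠ ⊥ →
      Subgroup.centralizer ({g} : Set G) ⊓ H.map (MulAut.conj b).toMonoidHom ≠ ⊥ →
      H.map (MulAut.conj a).toMonoidHom = H.map (MulAut.conj b).toMonoidHom)
    (d : G) (hd : d ∉ Subgroup.center G) (u : G) (hu : u ∈ H) (hu1 : u ≠ 1)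
    (hud : u * d = d * u) (x : G) (u' : G) (hu' : u' ∈ H) (hu'1 : u' ≠ 1)
    (hud' : u' * (x * d * x⁻¹) = (x * d * x⁻¹) * u') : x ∈ Subgroup.normalizer (H : Set G) := by
  have h1 : Subgroup.centralizer ({d} : Set G) ⊓ H.map (MulAut.conj (1 : G)).toMonoidHom ≠ ⊥ := by
    intro hbot
    have : u ∈ Subgroup.centralizer ({d} : Set G) ⊓ H.map (MulAut.conj (1 : G)).toMonoidHom := by
      refine Subgroup.mem_inf.mpr ⟨Subgroup.mem_centralizer_iff.mpr ?_, ?_⟩
      · intro y hy
        rw [Set.mem_singleton_iff] at hy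
        rw [hy]
        exact hud.symm
      · rw [map_conj_one]
        exact hu
    rw [hbot, Subgroup.mem_bot] at this
    exact hu1 this
  have h2 : Subgroup.centralizer ({d} : Set G) ⊓ H.map (MulAut.conj x⁻¹).toMonoidHom ≠ ⊥ := by
    intro hbot
    have : x⁻¹ * u' * x ∈
        Subgroup.centralizer ({d} : Set G) ⊓ H.map (MulAut.conj x⁻¹).toMonoidHom := by
      refine Subgroup.mem_inf.mpr ⟨Subgroup.mem_centralizer_iff.mpr ?_, ?_⟩
      · intro y hy
        rw [Set.mem_singleton_iff] at hy
        rw [hy]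
        calc d * (x⁻¹ * u' * x) = x⁻¹ * ((x * d * x⁻¹) * u') * x := by group
          _ = x⁻¹ * (u' * (x * d * x⁻¹)) * x := by rw [hud']
          _ = x⁻¹ * u' * x * d := by group
      · exact ⟨u', hu', by simp [MulAut.conj_apply]⟩
    rw [hbot, Subgroup.mem_bot] at this
    apply hu'1
    calc u' = x * (x⁻¹ * u' * x) * x⁻¹ := by group
      _ = 1 := by rw [this]; group
  have h3 := hone d hd 1 x⁻¹ h1 h2
  rw [map_conj_one] at h3
  have h4 := mem_normalizer_of_map_conj_eq H x⁻¹ h3.symm
  have := (Subgroup.normalizer (H : Set G)).inv_mem h4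
  rwa [inv_inv] at this

end Cfsg.Agent.Helper6
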