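import Mathlib
import Cfsg.Prelude.Def_Characters
import Cfsg.Agent.Helper6.FTLemA
import Cfsg.Agent.Helper6.FTLemB
import Cfsg.Agent.Helper6.FTLemC

/-!
# The lemma of Feit and Thompson, first part: `χ(1)² > |H| c²`
-/

set_option autoImplicit false
set_option linter.style.haveILetI false

namespace Cfsg.Agent.Helper6

open Module
open scoped ComplexConjugate

universe u

variable {G : Type u} [Group G]

/-- an element of the normalizer of `H` with no fixed point on `H` is conjugate under `H` to every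
element of its coset -/
theorem sum_coset_of_fpf [Finite G] (H : Subgroup G) [Fintype H] (g : G)
    (hg : g ∈ Subgroup.normalizer (H : Set G)) (hfpf : ∀ u ∈ H, u * g = g * u → u = 1)
    (χ : G → ℂ) (hχ : Cfsg.IsClassFunction G χ) :
    ∑ h : H, χ (g * h) = (Nat.card H : ℂ) * χ g := by
  classical
  have hmem : ∀ h : H, g⁻¹ * (h : G)⁻¹ * g * (h : G) ∈ H := by
    intro h
    have h1 : g⁻¹ * (h : G)⁻¹ * g⁻¹⁻¹ ∈ H :=
      ((Subgroup.mem_normalizer_iff.mp ((Subgroup.normalizer (H : Set G)).inv_mem hg))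
        (h : G)⁻¹).mp (H.inv_mem h.2)
    rw [inv_inv] at h1
    exact H.mul_mem h1 h.2
  let β : H → H := fun h => ⟨g⁻¹ * (h : G)⁻¹ * g * (h : G), hmem h⟩
  have hinj : Function.Injective β := by
    intro h h' hh
    have h1 : g⁻¹ * (h : G)⁻¹ * g * (h : G) = g⁻¹ * (h' : G)⁻¹ * g * (h' : G) :=
      congrArg Subtype.val hh
    have h2 : ((h' : G) * (h : G)⁻¹) * g = g * ((h' : G) * (h : G)⁻¹) := by
      have h3 : (h : G)⁻¹ * g * (h : G) = (h' : G)⁻¹ * g * (h' : G) := by
        have := congrArg (fun z => g * z) h1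
        simpa [mul_assoc] using this
      calc ((h' : G) * (h : G)⁻¹) * g = (h' : G) * ((h : G)⁻¹ * g * (h : G)) * (h : G)⁻¹ := by
            group
        _ = (h' : G) * ((h' : G)⁻¹ * g * (h' : G)) * (h : G)⁻¹ := by rw [h3]
        _ = g * ((h' : G) * (h : G)⁻¹) := by group
    have h4 := hfpf _ (H.mul_mem h'.2 (H.inv_mem h.2)) h2
    apply Subtype.ext
    have : (h' : G) = (h : G) := by
      calc (h' : G) = (h' : G) * (h : G)⁻¹ * (h : G) := by group
        _ = (h : G) := by rw [h4, one_mul]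
    exact this.symm
  have hbij : Function.Bijective β := Finite.injective_iff_bijective.mp hinj
  have h1 : ∑ h : H, χ (g * h) = ∑ h : H, χ (g * (β h : H)) :=
    (Equiv.sum_comp (Equiv.ofBijective β hbij) (fun h : H => χ (g * h))).symm
  rw [h1]
  have h2 : ∀ h : H, χ (g * (β h : H)) = χ g := by
    intro h
    have : g * ((β h : H) : G) = (h : G)⁻¹ * g * ((h : G)⁻¹)⁻¹ := by
      change g * (g⁻¹ * (h : G)⁻¹ * g * (h : G)) = _
      group
    rw [this]
    exact hχ g _
  rw [Finset.sum_congr rfl (fun h _ => h2 h), Finset.sum_const, Finset.card_univ,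
    ← Nat.card_eq_fintype_card, nsmul_eq_mul]

end Cfsg.Agent.Helper6
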