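import Mathlib
import Cfsg.Prelude.Def_Characters
import Cfsg.Agent.Helper6.FTLemA
import Cfsg.Agent.Helper6.FTLemB
import Cfsg.Agent.Helper6.FTLemC
import Cfsg.Agent.Helper6.FTLemD

/-!
# The lemma of Feit and Thompson, first part: `χ(1)² > |H| c²`
-/

set_option autoImplicit false
set_option linter.style.haveILetI false

namespace Cfsg.Agent.Helper6

open Module
open scoped ComplexConjugate

universe u

variable {G : Type u} [Group G]

set_option maxHeartbeats 3200000 in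
theorem ft_part_one [Fintype G] (H : Subgroup G) [Fintype H]
    (hZ : H ⊓ Subgroup.center G = ⊥)
    (hone : ∀ g : G, g ∉ Subgroup.center G → ∀ a b : G,
      Subgroup.centralizer ({g} : Set G) ⊓ H.map (MulAut.conj a).toMonoidHom ≠ ⊥ →
      Subgroup.centralizer ({g} : Set G) ⊓ H.map (MulAut.conj b).toMonoidHom ≠ ⊥ →
      H.map (MulAut.conj a).toMonoidHom = H.map (MulAut.conj b).toMonoidHom)
    (χ : G → ℂ) (hχ : Cfsg.IsIrrCharacter G χ) (hker : ∃ h ∈ H, χ h ≠ χ 1)
    (n c : ℕ) (hn : χ 1 = n) (hc : ∑ h : H, χ h = (Nat.card H : ℂ) * c) :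
    Nat.card H * c ^ 2 < n ^ 2 := by
  classical
  set N : Subgroup G := Subgroup.normalizer (H : Set G) with hN
  haveI : Fintype N := Fintype.ofFinite _
  haveI : Fintype (Subgroup.center G) := Fintype.ofFinite _
  have hHN : H ≤ N := Subgroup.le_normalizer
  have hZN : Subgroup.center G ≤ N := by
    intro z hz
    rw [hN, Subgroup.mem_normalizer_iff]
    intro x
    rw [Subgroup.mem_center_iff] at hz
    have : z * x * z⁻¹ = x := by
      rw [← hz x]
      group
    rw [this]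
  haveI : Finite (Cfsg.IrrCharacter N) := irr_finite
  haveI : Fintype (Cfsg.IrrCharacter N) := Fintype.ofFinite _
  have hχc := IsIrrCharacter.isCharacter hχ
  have hχcf := IsCharacter.isClassFunction hχc
  set χN : N → ℂ := fun g => χ g with hχN
  have hχNc : Cfsg.IsCharacter N χN := IsCharacter.restrict N hχc
  have hχNcf := IsCharacter.isClassFunction hχNc
  have hcardH : (Nat.card H : ℂ) ≠ 0 := by exact_mod_cast Nat.card_pos.ne'
  have hn1 : 1 ≤ n := by
    rw [Nat.one_le_iff_ne_zero]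
    rintro rfl
    exact IsIrrCharacter.apply_one_ne_zero hχ (by rw [hn]; simp)
  -- multiplicities
  have hkex : ∀ η : Cfsg.IrrCharacter N, ∃ k : ℕ, Cfsg.classInner χN (η : N → ℂ) = k :=
    fun η => classInner_char_char_nat hχNc (IsIrrCharacter.isCharacter η.2)
  choose k hk using hkex
  have hexp0 := classFunction_expansion χN hχNcf
  have hexp : ∀ g : N, χ g = ∑ η : Cfsg.IrrCharacter N, (k η : ℂ) * (η : N → ℂ) g := by
    intro g
    have := congrFun hexp0 g
    rw [Finset.sum_apply] at this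
    change χ g = _ at this
    rw [this]
    apply Finset.sum_congr rfl
    intro η _
    rw [Pi.smul_apply, smul_eq_mul, hk]
  -- averaging
  set H' : Subgroup N := H.subgroupOf N with hH'
  haveI : H'.Normal := Subgroup.normal_in_normalizer
  haveI : Fintype H' := Fintype.ofFinite _
  have hcardH' : Nat.card H' = Nat.card H :=
    Nat.card_congr (Subgroup.subgroupOfEquivOfLe hHN).toEquiv
  have htex : ∀ η : Cfsg.IrrCharacter N, ∃ t : ℂ, (t = 0 ∨ t = 1) ∧
      ∀ g : N, ∑ h : H', (η : N → ℂ) (g * h) = t * (Nat.card H' : ℂ) * (η : N → ℂ) g :=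
    fun η => avg_irr_normal H' η.2
  choose t ht01 ht using htex
  set ψ : N → ℂ := fun g => ∑ η : Cfsg.IrrCharacter N, ((k η : ℂ) * t η) * (η : N → ℂ) g
    with hψ
  have hsumH : ∀ (f : G → ℂ), ∑ h : H', f ((h : N) : G) = ∑ h : H, f h := by
    intro f
    exact Equiv.sum_comp (Subgroup.subgroupOfEquivOfLe hHN).toEquiv (fun h : H => f h)
  have havg : ∀ g : N, ∑ h : H, χ ((g : G) * h) = (Nat.card H : ℂ) * ψ g := by
    intro g
    rw [← hsumH (fun x => χ ((g : G) * x))]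
    have h1 : ∀ h : H', χ ((g : G) * ((h : N) : G)) =
        ∑ η : Cfsg.IrrCharacter N, (k η : ℂ) * (η : N → ℂ) (g * h) := fun h => hexp (g * h)
    rw [Finset.sum_congr rfl (fun h _ => h1 h), Finset.sum_comm, hψ]
    simp only
    rw [Finset.mul_sum]
    apply Finset.sum_congr rfl
    intro η _
    rw [← Finset.mul_sum, ht η g, hcardH']
    ring
  -- norms
  have hPχ : ∑ g : N, ‖χ g‖ ^ 2 =
      (Nat.card N : ℝ) * ∑ η : Cfsg.IrrCharacter N, ‖(k η : ℂ)‖ ^ 2 := by
    rw [← sum_normSq_irr_combo (G := N) (fun η => (k η : ℂ))]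
    apply Finset.sum_congr rfl
    intro g _
    rw [hexp g]
  have hPψ : ∑ g : N, ‖ψ g‖ ^ 2 =
      (Nat.card N : ℝ) * ∑ η : Cfsg.IrrCharacter N, ‖(k η : ℂ) * t η‖ ^ 2 :=
    sum_normSq_irr_combo (G := N) (fun η => (k η : ℂ) * t η)
  have hex : ∃ η0, k η0 ≠ 0 ∧ t η0 = 0 := by
    by_contra hno
    have hno' : ∀ η, k η ≠ 0 → t η = 1 := by
      intro η hk0
      rcases ht01 η with h0 | h1
      · exact absurd ⟨η, hk0, h0⟩ hno
      · exact h1
    have hψχ : ∀ g : N, ψ g = χ g := by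
      intro g
      rw [hexp g, hψ]
      apply Finset.sum_congr rfl
      intro η _
      by_cases hk0 : k η = 0
      · rw [hk0]
        simp
      · rw [hno' η hk0, mul_one]
    have h1 := havg 1
    rw [hψχ 1] at h1
    simp only [Subgroup.coe_one, one_mul] at h1
    obtain ⟨h, hh, hne⟩ := hker
    exact hne (char_eq_of_sum_eq hχc H h1 h hh)
  have hdiff : (Nat.card N : ℝ) ≤ ∑ g : N, ‖χ g‖ ^ 2 - ∑ g : N, ‖ψ g‖ ^ 2 := by
    rw [hPχ, hPψ, ← mul_sub, ← Finset.sum_sub_distrib]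
    have hterm : ∀ η : Cfsg.IrrCharacter N,
        0 ≤ ‖(k η : ℂ)‖ ^ 2 - ‖(k η : ℂ) * t η‖ ^ 2 := by
      intro η
      rcases ht01 η with h0 | h1
      · rw [h0, mul_zero, norm_zero]
        have := sq_nonneg ‖(k η : ℂ)‖
        simp
      · rw [h1, mul_one, sub_self]
    obtain ⟨η0, hk0, ht0⟩ := hex
    have h1 : (1 : ℝ) ≤ ‖(k η0 : ℂ)‖ ^ 2 - ‖(k η0 : ℂ) * t η0‖ ^ 2 := by
      rw [ht0, mul_zero, norm_zero, Complex.norm_natCast]
      have : (1 : ℝ) ≤ (k η0 : ℝ) := by exact_mod_cast Nat.one_le_iff_ne_zero.mpr hk0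
      nlinarith
    have h2 : (1 : ℝ) ≤ ∑ η : Cfsg.IrrCharacter N,
        (‖(k η : ℂ)‖ ^ 2 - ‖(k η : ℂ) * t η‖ ^ 2) :=
      h1.trans (Finset.single_le_sum (f := fun η : Cfsg.IrrCharacter N =>
        ‖(k η : ℂ)‖ ^ 2 - ‖(k η : ℂ) * t η‖ ^ 2) (fun η _ => hterm η) (Finset.mem_univ η0))
    have h3 : (0 : ℝ) ≤ (Nat.card N : ℝ) := Nat.cast_nonneg _
    nlinarith
  -- the T.I. set
  set D : Finset G := Finset.univ.filter
    (fun g => g ∉ Subgroup.center G ∧ ∃ u ∈ H, u ≠ 1 ∧ u * g = g * u) with hD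
  have hTI : ∀ d ∈ D, ∀ x : G, x * d * x⁻¹ ∈ D → x ∈ N := by
    intro d hd x hx
    rw [hD, Finset.mem_filter] at hd hx
    obtain ⟨-, hdZ, u, hu, hu1, hud⟩ := hd
    obtain ⟨-, -, u', hu', hu'1, hud'⟩ := hx
    exact ft_ti H hone d hdZ u hu hu1 hud x u' hu' hu'1 hud'
  have h1D : (1 : G) ∉ D := by
    intro h
    rw [hD, Finset.mem_filter] at h
    exact h.2.1 (Subgroup.one_mem _)
  have hfcl : ∀ g x : G, ‖χ (x * g * x⁻¹)‖ ^ 2 = ‖χ g‖ ^ 2 := by
    intro g x
    rw [hχcf g x]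
  have hTIb := ti_sum_bound N D hTI h1D (fun g => ‖χ g‖ ^ 2) (fun g => by positivity) hfcl
  have hnormG : ∑ g : G, ‖χ g‖ ^ 2 = (Nat.card G : ℝ) := by
    have h1 := classInner_irr_self hχ
    rw [classInner_self_eq] at h1
    have hcard : (Nat.card G : ℂ) ≠ 0 := by exact_mod_cast Nat.card_pos.ne'
    have h2 : ((∑ g : G, ‖χ g‖ ^ 2 : ℝ) : ℂ) = (Nat.card G : ℂ) :=
      ((inv_mul_eq_one₀ hcard).mp h1).symm
    exact_mod_cast h2
  simp only at hTIb
  rw [hnormG, hn, Complex.norm_natCast] at hTIb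
  -- the partition of `N`
  set SDZ : Finset N := Finset.univ.filter
    (fun g : N => (g : G) ∈ D ∨ (g : G) ∈ Subgroup.center G) with hSDZ
  have hoff : ∀ g : N, g ∉ SDZ → ψ g = χ g := by
    intro g hg
    rw [hSDZ, Finset.mem_filter] at hg
    have hg' : ¬ ((g : G) ∈ D ∨ (g : G) ∈ Subgroup.center G) := fun h => hg ⟨Finset.mem_univ _, h⟩
    have hgD : (g : G) ∉ D := fun h => hg' (Or.inl h)
    have hgZ : (g : G) ∉ Subgroup.center G := fun h => hg' (Or.inr h)
    have hfpf : ∀ u ∈ H, u * (g : G) = (g : G) * u → u = 1 := by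
      intro u hu hcomm
      by_contra hu1
      exact hgD (Finset.mem_filter.mpr ⟨Finset.mem_univ _, hgZ, u, hu, hu1, hcomm⟩)
    have h1 := sum_coset_of_fpf H (g : G) g.2 hfpf χ hχcf
    have h2 := havg g
    rw [h1] at h2
    exact (mul_left_cancel₀ hcardH h2).symm
  have hsplit : ∑ g : N, ‖χ g‖ ^ 2 - ∑ g : N, ‖ψ g‖ ^ 2 =
      ∑ g ∈ SDZ, ‖χ g‖ ^ 2 - ∑ g ∈ SDZ, ‖ψ g‖ ^ 2 := by
    rw [← Finset.sum_sub_distrib, ← Finset.sum_sub_distrib]
    symm
    apply Finset.sum_subset (Finset.subset_univ _)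
    intro g _ hg
    rw [hoff g hg, sub_self]
  -- upper bound
  set Zf : Finset G := Finset.univ.filter (fun g => g ∈ Subgroup.center G) with hZf
  have hup : ∑ g ∈ SDZ, ‖χ g‖ ^ 2 ≤ ∑ d ∈ D, ‖χ d‖ ^ 2 + ∑ z ∈ Zf, ‖χ z‖ ^ 2 := by
    have hdisj : Disjoint D Zf := by
      rw [Finset.disjoint_left]
      intro x hxD hxZ
      rw [hD, Finset.mem_filter] at hxD
      rw [hZf, Finset.mem_filter] at hxZ
      exact hxD.2.1 hxZ.2
    rw [← Finset.sum_union hdisj]
    have h1 : ∑ g ∈ SDZ, ‖χ g‖ ^ 2 =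
        ∑ x ∈ SDZ.map ⟨Subtype.val, Subtype.val_injective⟩, ‖χ x‖ ^ 2 := by
      rw [Finset.sum_map]
      rfl
    rw [h1]
    apply Finset.sum_le_sum_of_subset_of_nonneg
    · intro x hx
      obtain ⟨g, hg, rfl⟩ := Finset.mem_map.mp hx
      rw [hSDZ, Finset.mem_filter] at hg
      rw [Finset.mem_union]
      rcases hg.2 with h | h
      · left; exact h
      · right
        exact Finset.mem_filter.mpr ⟨Finset.mem_univ _, h⟩
    · intro x _ _
      positivity
  have hZb : ∑ z ∈ Zf, ‖χ z‖ ^ 2 ≤ (Nat.card (Subgroup.center G) : ℝ) * (n : ℝ) ^ 2 := by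
    have h1 : ∀ z ∈ Zf, ‖χ z‖ ^ 2 ≤ (n : ℝ) ^ 2 := by
      intro z _
      have := IsCharacter.norm_le_one hχc z
      rw [hn, Complex.norm_natCast] at this
      exact pow_le_pow_left₀ (norm_nonneg _) this 2
    have h2 := Finset.sum_le_sum h1
    rw [Finset.sum_const, nsmul_eq_mul] at h2
    have h3 : Zf.card = Nat.card (Subgroup.center G) := by
      rw [Nat.card_eq_fintype_card, Fintype.card_subtype]
    rwa [h3] at h2
  -- lower bound
  have hlow : (Nat.card H : ℝ) * (Nat.card (Subgroup.center G) : ℝ) * (c : ℝ) ^ 2 ≤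
      ∑ g ∈ SDZ, ‖ψ g‖ ^ 2 := by
    let ι : H × Subgroup.center G → N := fun q =>
      ⟨(q.1 : G) * (q.2 : G), N.mul_mem (hHN q.1.2) (hZN q.2.2)⟩
    have hιinj : Function.Injective ι := by
      intro q q' hqq
      have h1 : (q.1 : G) * (q.2 : G) = (q'.1 : G) * (q'.2 : G) := congrArg Subtype.val hqq
      have h2 : (q'.1 : G)⁻¹ * (q.1 : G) = (q'.2 : G) * (q.2 : G)⁻¹ := by
        calc (q'.1 : G)⁻¹ * (q.1 : G) = (q'.1 : G)⁻¹ * ((q.1 : G) * (q.2 : G)) * (q.2 : G)⁻¹ := by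
              group
          _ = (q'.2 : G) * (q.2 : G)⁻¹ := by rw [h1]; group
      have h3 : (q'.1 : G)⁻¹ * (q.1 : G) ∈ H ⊓ Subgroup.center G := by
        refine ⟨H.mul_mem (H.inv_mem q'.1.2) q.1.2, ?_⟩
        rw [h2]
        exact (Subgroup.center G).mul_mem q'.2.2 ((Subgroup.center G).inv_mem q.2.2)
      rw [hZ, Subgroup.mem_bot] at h3
      have h4 : (q.1 : G) = (q'.1 : G) := by
        calc (q.1 : G) = (q'.1 : G) * ((q'.1 : G)⁻¹ * (q.1 : G)) := by group
          _ = (q'.1 : G) := by rw [h3, mul_one]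
      have h5 : (q.2 : G) = (q'.2 : G) := by
        rw [h4] at h1
        exact mul_left_cancel h1
      exact Prod.ext (Subtype.ext h4) (Subtype.ext h5)
    have hιmem : ∀ q, ι q ∈ SDZ := by
      intro q
      rw [hSDZ, Finset.mem_filter]
      refine ⟨Finset.mem_univ _, ?_⟩
      by_cases hq1 : (q.1 : G) = 1
      · right
        change (q.1 : G) * (q.2 : G) ∈ Subgroup.center G
        rw [hq1, one_mul]
        exact q.2.2
      · left
        change (q.1 : G) * (q.2 : G) ∈ D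
        rw [hD, Finset.mem_filter]
        refine ⟨Finset.mem_univ _, ?_, (q.1 : G), q.1.2, hq1, ?_⟩
        · intro hcz
          have : (q.1 : G) ∈ H ⊓ Subgroup.center G := by
            refine ⟨q.1.2, ?_⟩
            have h1 := (Subgroup.center G).mul_mem hcz ((Subgroup.center G).inv_mem q.2.2)
            rwa [mul_inv_cancel_right] at h1
          rw [hZ, Subgroup.mem_bot] at this
          exact hq1 this
        · have hz := Subgroup.mem_center_iff.mp q.2.2 (q.1 : G)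
          rw [mul_assoc (q.1 : G) (q.2 : G), ← hz]
    have hιval : ∀ q, ‖ψ (ι q)‖ = (c : ℝ) := by
      intro q
      obtain ⟨ω, hω1, hω⟩ := irr_center_mul (⟨χ, hχ⟩ : Cfsg.IrrCharacter G) (q.2 : G) q.2.2
      have h1 := havg (ι q)
      have h2 : ∀ h : H, χ (((ι q : N) : G) * h) = ω * χ ((q.1 * h : H) : G) := by
        intro h
        have hz := Subgroup.mem_center_iff.mp q.2.2
        have : ((ι q : N) : G) * (h : G) = (q.2 : G) * ((q.1 * h : H) : G) := by
          change (q.1 : G) * (q.2 : G) * (h : G) = (q.2 : G) * ((q.1 : G) * (h : G))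
          rw [hz (q.1 : G), mul_assoc]
        rw [this]
        exact hω _
      have hre : ∑ h : H, χ ((q.1 * h : H) : G) = ∑ h : H, χ (h : G) :=
        Equiv.sum_comp (Equiv.mulLeft q.1) (fun h : H => χ (h : G))
      rw [Finset.sum_congr rfl (fun h _ => h2 h), ← Finset.mul_sum, hre, hc] at h1
      have h3 : ψ (ι q) = ω * (c : ℂ) := by
        have : (Nat.card H : ℂ) * ψ (ι q) = (Nat.card H : ℂ) * (ω * (c : ℂ)) := by
          rw [← h1]
          ring
        exact mul_left_cancel₀ hcardH this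
      rw [h3, norm_mul, hω1, one_mul, Complex.norm_natCast]
    calc (Nat.card H : ℝ) * (Nat.card (Subgroup.center G) : ℝ) * (c : ℝ) ^ 2
        = ∑ q : H × Subgroup.center G, ‖ψ (ι q)‖ ^ 2 := by
          rw [Finset.sum_congr rfl (fun q _ => by rw [hιval q]), Finset.sum_const,
            Finset.card_univ, Fintype.card_prod, ← Nat.card_eq_fintype_card,
            ← Nat.card_eq_fintype_card, nsmul_eq_mul]
          push_cast
          ring
      _ = ∑ g ∈ (Finset.univ : Finset (H × Subgroup.center G)).image ι, ‖ψ g‖ ^ 2 := by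
          rw [Finset.sum_image (fun a _ b _ h => hιinj h)]
      _ ≤ ∑ g ∈ SDZ, ‖ψ g‖ ^ 2 := by
          apply Finset.sum_le_sum_of_subset_of_nonneg
          · intro g hg
            obtain ⟨q, -, rfl⟩ := Finset.mem_image.mp hg
            exact hιmem q
          · intro g _ _
            positivity
  -- assembly
  rw [hsplit] at hdiff
  have hG0 : (0 : ℝ) < (Nat.card G : ℝ) := by exact_mod_cast Nat.card_pos
  have hN0 : (0 : ℝ) < (Nat.card N : ℝ) := by exact_mod_cast Nat.card_pos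
  have hZ0 : (0 : ℝ) < (Nat.card (Subgroup.center G) : ℝ) := by exact_mod_cast Nat.card_pos
  have hnR : (1 : ℝ) ≤ (n : ℝ) := by exact_mod_cast hn1
  have hSD : ∑ d ∈ D, ‖χ d‖ ^ 2 < (Nat.card N : ℝ) := by
    by_contra hcon
    rw [not_lt] at hcon
    have h1 : (Nat.card G : ℝ) * (Nat.card N : ℝ) ≤ (Nat.card G : ℝ) * ∑ d ∈ D, ‖χ d‖ ^ 2 :=
      mul_le_mul_of_nonneg_left hcon hG0.le
    have h2 : (0 : ℝ) < (Nat.card N : ℝ) * (n : ℝ) ^ 2 := by positivity
    nlinarith
  have hfin : (Nat.card H : ℝ) * (Nat.card (Subgroup.center G) : ℝ) * (c : ℝ) ^ 2 <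
      (Nat.card (Subgroup.center G) : ℝ) * (n : ℝ) ^ 2 := by
    linarith
  have hfin2 : (Nat.card H : ℝ) * (c : ℝ) ^ 2 < (n : ℝ) ^ 2 := by
    by_contra hcon
    rw [not_lt] at hcon
    have := mul_le_mul_of_nonneg_left hcon hZ0.le
    nlinarith
  exact_mod_cast hfin2

end Cfsg.Agent.Helper6
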