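import Mathlib
import Cfsg.Prelude.Def_Characters
import Cfsg.Agent.Helper6.FTLemE
import Cfsg.Agent.Helper6.BrauerPerm2
import Cfsg.Agent.Helper6.BlockKernel
import Cfsg.Agent.Helper6.OddReal
import Cfsg.Agent.Helper6.Linear

/-!
# The lemma of Feit and Thompson, second part: `(1 + χ(1))² > |H|`
-/

set_option autoImplicit false
set_option linter.style.haveILetI false

namespace Cfsg.Agent.Helper6

open Module
open scoped ComplexConjugate

universe u

variable {G : Type u} [Group G]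

/-- a character constant on a subgroup that is contained in no proper normal subgroup is the
principal character -/
theorem irr_eq_one_of_const_on [Fintype G] (H : Subgroup G)
    (hnormal : ∀ M : Subgroup G, M.Normal → H ≤ M → M = ⊤)
    (ζ : Cfsg.IrrCharacter G) (hconst : ∀ h ∈ H, (ζ : G → ℂ) h = (ζ : G → ℂ) 1) :
    (ζ : G → ℂ) = fun _ => 1 := by
  have hle : H ≤ kerSub ζ := fun h hh => (mem_kerSub ζ h).mpr (hconst h hh)
  have htop := hnormal (kerSub ζ) (kerSub_normal ζ) hle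
  have hall : ∀ g : G, (ζ : G → ℂ) g = (ζ : G → ℂ) 1 := by
    intro g
    rw [← mem_kerSub, htop]
    exact Subgroup.mem_top g
  by_contra hne
  have h0 := classInner_irr_ne ζ.2 isIrrCharacter_one hne
  rw [classInner_def] at h0
  have hcard : (Nat.card G : ℂ) ≠ 0 := by exact_mod_cast Nat.card_pos.ne'
  have h1 : ∑ g : G, (ζ : G → ℂ) g * conj (1 : ℂ) = (Nat.card G : ℂ) * (ζ : G → ℂ) 1 := by
    rw [Finset.sum_congr rfl (fun g _ => by rw [hall g]), Finset.sum_const, Finset.card_univ,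
      ← Nat.card_eq_fintype_card, nsmul_eq_mul, map_one, mul_one]
  rw [h1, ← mul_assoc, inv_mul_cancel₀ hcard, one_mul] at h0
  exact IsIrrCharacter.apply_one_ne_zero ζ.2 h0

set_option maxHeartbeats 3200000 in
theorem ft_part_two [Fintype G] (H : Subgroup G) [Fintype H]
    (hab : ∀ a ∈ H, ∀ b ∈ H, a * b = b * a)
    (hZ : H ⊓ Subgroup.center G = ⊥)
    (hone : ∀ g : G, g ∉ Subgroup.center G → ∀ a b : G,
      Subgroup.centralizer ({g} : Set G) ⊓ H.map (MulAut.conj a).toMonoidHom ≠ ⊥ →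
      Subgroup.centralizer ({g} : Set G) ⊓ H.map (MulAut.conj b).toMonoidHom ≠ ⊥ →
      H.map (MulAut.conj a).toMonoidHom = H.map (MulAut.conj b).toMonoidHom)
    (χ : G → ℂ) (hχ : Cfsg.IsIrrCharacter G χ) (n : ℕ) (hn : χ 1 = n) (hn1 : n ≠ 1)
    (hnormal : ∀ M : Subgroup G, M.Normal → H ≤ M → M = ⊤) :
    Nat.card H < (1 + n) ^ 2 := by
  classical
  haveI : Finite (Cfsg.IrrCharacter G) := irr_finite
  haveI : Fintype (Cfsg.IrrCharacter G) := Fintype.ofFinite _
  haveI : Finite (Cfsg.IrrCharacter H) := irr_finite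
  haveI : Fintype (Cfsg.IrrCharacter H) := Fintype.ofFinite _
  have hχc := IsIrrCharacter.isCharacter hχ
  have hcardH : (Nat.card H : ℂ) ≠ 0 := by exact_mod_cast Nat.card_pos.ne'
  have hn0 : 1 ≤ n := by
    rw [Nat.one_le_iff_ne_zero]
    rintro rfl
    exact IsIrrCharacter.apply_one_ne_zero hχ (by rw [hn]; simp)
  -- the character `χ χ̄`
  set Ψ : G → ℂ := fun g => χ g * conj (χ g) with hΨ
  have hΨc : Cfsg.IsCharacter G Ψ := by
    have h1 := IsCharacter.mul hχc (IsCharacter.comp_inv hχc)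
    have h2 : Ψ = χ * fun g => χ g⁻¹ := by
      funext g
      rw [hΨ, Pi.mul_apply, IsCharacter.inv_eq_conj hχc]
    rw [h2]
    exact h1
  have hΨcf := IsCharacter.isClassFunction hΨc
  have haex : ∀ ζ : Cfsg.IrrCharacter G, ∃ a : ℕ, Cfsg.classInner Ψ (ζ : G → ℂ) = a :=
    fun ζ => classInner_char_char_nat hΨc (IsIrrCharacter.isCharacter ζ.2)
  choose a ha using haex
  have hexp0 := classFunction_expansion Ψ hΨcf
  have hexp : ∀ g : G, Ψ g = ∑ ζ : Cfsg.IrrCharacter G, (a ζ : ℂ) * (ζ : G → ℂ) g := by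
    intro g
    have := congrFun hexp0 g
    rw [Finset.sum_apply] at this
    rw [this]
    apply Finset.sum_congr rfl
    intro ζ _
    rw [Pi.smul_apply, smul_eq_mul, ha]
  -- the principal character
  set ζ1 : Cfsg.IrrCharacter G := ⟨fun _ => 1, isIrrCharacter_one⟩ with hζ1
  have ha1 : a ζ1 = 1 := by
    have h1 : Cfsg.classInner Ψ (ζ1 : G → ℂ) = Cfsg.classInner χ χ := by
      rw [classInner_def, classInner_def]
      congr 1
      apply Finset.sum_congr rfl
      intro g _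
      change χ g * conj (χ g) * conj (1 : ℂ) = _
      rw [map_one, mul_one]
    rw [ha, classInner_irr_self hχ] at h1
    exact_mod_cast h1
  -- degrees and multiplicities of the principal character of `H`
  have hdex : ∀ ζ : Cfsg.IrrCharacter G, ∃ d : ℕ, (ζ : G → ℂ) 1 = d :=
    fun ζ => IsCharacter.apply_one (IsIrrCharacter.isCharacter ζ.2)
  choose d hd using hdex
  have hcex : ∀ ζ : Cfsg.IrrCharacter G, ∃ c : ℕ,
      ∑ h : H, (ζ : G → ℂ) h = (Nat.card H : ℂ) * c := by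
    intro ζ
    obtain ⟨c, hc⟩ := classInner_char_char_nat
      (IsCharacter.restrict H (IsIrrCharacter.isCharacter ζ.2)) (isCharacter_one (G := H))
    refine ⟨c, ?_⟩
    rw [classInner_def] at hc
    rw [← hc, ← mul_assoc, mul_inv_cancel₀ hcardH, one_mul]
    apply Finset.sum_congr rfl
    intro h _
    rw [map_one, mul_one]
  choose c hc using hcex
  have hd1 : d ζ1 = 1 := by
    have := hd ζ1
    change (1 : ℂ) = _ at this
    exact_mod_cast this.symm
  have hc1 : c ζ1 = 1 := by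
    have h1 := hc ζ1
    change ∑ h : H, (1 : ℂ) = _ at h1
    rw [Finset.sum_const, Finset.card_univ, ← Nat.card_eq_fintype_card, nsmul_eq_mul,
      mul_one] at h1
    have h2 : (Nat.card H : ℂ) * 1 = (Nat.card H : ℂ) * (c ζ1 : ℂ) := by rw [mul_one]; exact h1
    have h3 := mul_left_cancel₀ hcardH h2
    exact_mod_cast h3.symm
  -- the degree of `Ψ`
  have hdeg : n ^ 2 = ∑ ζ : Cfsg.IrrCharacter G, a ζ * d ζ := by
    have h1 := hexp 1
    rw [hΨ] at h1
    simp only at h1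
    rw [hn, Complex.conj_natCast] at h1
    have h2 : ((n ^ 2 : ℕ) : ℂ) = ((∑ ζ : Cfsg.IrrCharacter G, a ζ * d ζ : ℕ) : ℂ) := by
      push_cast
      rw [sq, h1]
      apply Finset.sum_congr rfl
      intro ζ _
      rw [hd]
    exact_mod_cast h2
  -- the restriction to `H`
  set χH : H → ℂ := fun h => χ h with hχH
  have hχHc : Cfsg.IsCharacter H χH := IsCharacter.restrict H hχc
  have hmex : ∀ lam : Cfsg.IrrCharacter H, ∃ m : ℕ, Cfsg.classInner χH (lam : H → ℂ) = m :=
    fun lam => classInner_char_char_nat hχHc (IsIrrCharacter.isCharacter lam.2)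
  choose m hm using hmex
  have hexpH0 := classFunction_expansion χH (IsCharacter.isClassFunction hχHc)
  have hexpH : ∀ h : H, χ h = ∑ lam : Cfsg.IrrCharacter H, (m lam : ℂ) * (lam : H → ℂ) h := by
    intro h
    have := congrFun hexpH0 h
    rw [Finset.sum_apply] at this
    change χ h = _ at this
    rw [this]
    apply Finset.sum_congr rfl
    intro lam _
    rw [Pi.smul_apply, smul_eq_mul, hm]
  have hlin : ∀ lam : Cfsg.IrrCharacter H, (lam : H → ℂ) 1 = 1 := by
    have hcomm : ∀ x y : H, x * y = y * x := by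
      intro x y
      apply Subtype.ext
      exact hab x x.2 y y.2
    exact (comm_iff_forall_irr_degree_one (G := H)).mp hcomm
  have hnm : n = ∑ lam : Cfsg.IrrCharacter H, m lam := by
    have h1 := hexpH 1
    rw [Subgroup.coe_one, hn] at h1
    have h2 : (n : ℂ) = ((∑ lam : Cfsg.IrrCharacter H, m lam : ℕ) : ℂ) := by
      rw [h1]
      push_cast
      apply Finset.sum_congr rfl
      intro lam _
      rw [hlin, mul_one]
    exact_mod_cast h2
  have hnormH : ∑ h : H, ‖χ h‖ ^ 2 =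
      (Nat.card H : ℝ) * ∑ lam : Cfsg.IrrCharacter H, ((m lam : ℕ) : ℝ) ^ 2 := by
    have h1 := sum_normSq_irr_combo (G := H) (fun lam => (m lam : ℂ))
    have h0 : ∑ h : H, ‖χ h‖ ^ 2 =
        ∑ h : H, ‖∑ lam : Cfsg.IrrCharacter H, (m lam : ℂ) * (lam : H → ℂ) h‖ ^ 2 := by
      apply Finset.sum_congr rfl
      intro h _
      rw [hexpH h]
    rw [h0, h1]
    congr 1
    apply Finset.sum_congr rfl
    intro lam _
    rw [Complex.norm_natCast]
  -- the two evaluations of the sum of `Ψ` over `H`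
  have hΨH : ∑ h : H, Ψ h = (Nat.card H : ℂ) *
      ((∑ ζ : Cfsg.IrrCharacter G, a ζ * c ζ : ℕ) : ℂ) := by
    have h1 : ∀ h : H, Ψ h = ∑ ζ : Cfsg.IrrCharacter G, (a ζ : ℂ) * (ζ : G → ℂ) h :=
      fun h => hexp h
    rw [Finset.sum_congr rfl (fun h _ => h1 h), Finset.sum_comm]
    push_cast
    rw [Finset.mul_sum]
    apply Finset.sum_congr rfl
    intro ζ _
    rw [← Finset.mul_sum, hc ζ]
    ring
  have hΨH2 : ∑ h : H, Ψ h = ((∑ h : H, ‖χ h‖ ^ 2 : ℝ) : ℂ) := by
    push_cast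
    apply Finset.sum_congr rfl
    intro h _
    rw [hΨ]
    simp only
    rw [Complex.mul_conj, Complex.normSq_eq_norm_sq]
    push_cast
    rfl
  have hkey : ∑ lam : Cfsg.IrrCharacter H, (m lam) ^ 2 =
      ∑ ζ : Cfsg.IrrCharacter G, a ζ * c ζ := by
    rw [hΨH2, hnormH] at hΨH
    push_cast at hΨH
    have h1 := mul_left_cancel₀ hcardH hΨH
    exact_mod_cast h1
  have hnle : n ≤ ∑ ζ : Cfsg.IrrCharacter G, a ζ * c ζ := by
    rw [← hkey, hnm]
    apply Finset.sum_le_sum
    intro lam _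
    exact Nat.le_self_pow (by norm_num) _
  -- the constituents other than the principal character
  by_contra hcon
  rw [not_lt] at hcon
  have hpart : ∀ ζ : Cfsg.IrrCharacter G, ζ ≠ ζ1 → a ζ ≠ 0 → (1 + n) * c ζ + 1 ≤ d ζ := by
    intro ζ hζ _
    have hker : ∃ h ∈ H, (ζ : G → ℂ) h ≠ (ζ : G → ℂ) 1 := by
      by_contra hno
      have hno : ∀ h ∈ H, (ζ : G → ℂ) h = (ζ : G → ℂ) 1 := by
        intro h hh
        by_contra hne
        exact hno ⟨h, hh, hne⟩
      exact hζ (Subtype.ext (irr_eq_one_of_const_on H hnormal ζ hno))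
    have h1 := ft_part_one H hZ hone (ζ : G → ℂ) ζ.2 hker (d ζ) (c ζ) (hd ζ) (hc ζ)
    have h2 : ((1 + n) * c ζ) ^ 2 < (d ζ) ^ 2 := by
      calc ((1 + n) * c ζ) ^ 2 = (1 + n) ^ 2 * (c ζ) ^ 2 := by ring
        _ ≤ Nat.card H * (c ζ) ^ 2 := Nat.mul_le_mul_right _ hcon
        _ < (d ζ) ^ 2 := h1
    have h3 : (1 + n) * c ζ < d ζ := lt_of_pow_lt_pow_left₀ 2 (Nat.zero_le _) h2
    exact h3
  -- summing up
  have hsum1 : ∑ ζ : Cfsg.IrrCharacter G, a ζ * c ζ =
      1 + ∑ ζ ∈ (Finset.univ : Finset (Cfsg.IrrCharacter G)).erase ζ1, a ζ * c ζ := by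
    rw [← Finset.add_sum_erase Finset.univ _ (Finset.mem_univ ζ1), ha1, hc1]
  have hsum2 : n ^ 2 =
      1 + ∑ ζ ∈ (Finset.univ : Finset (Cfsg.IrrCharacter G)).erase ζ1, a ζ * d ζ := by
    rw [hdeg, ← Finset.add_sum_erase Finset.univ _ (Finset.mem_univ ζ1), ha1, hd1]
  have hterm : ∀ ζ ∈ (Finset.univ : Finset (Cfsg.IrrCharacter G)).erase ζ1,
      (1 + n) * (a ζ * c ζ) + a ζ ≤ a ζ * d ζ := by
    intro ζ hζ
    by_cases h0 : a ζ = 0
    · rw [h0]
      simp
    · have := hpart ζ (Finset.ne_of_mem_erase hζ) h0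
      calc (1 + n) * (a ζ * c ζ) + a ζ = a ζ * ((1 + n) * c ζ + 1) := by ring
        _ ≤ a ζ * d ζ := Nat.mul_le_mul_left _ this
  have hS := Finset.sum_le_sum hterm
  rw [Finset.sum_add_distrib, ← Finset.mul_sum] at hS
  set A := ∑ ζ ∈ (Finset.univ : Finset (Cfsg.IrrCharacter G)).erase ζ1, a ζ * c ζ with hA
  set B := ∑ ζ ∈ (Finset.univ : Finset (Cfsg.IrrCharacter G)).erase ζ1, a ζ * d ζ with hB
  set E := ∑ ζ ∈ (Finset.univ : Finset (Cfsg.IrrCharacter G)).erase ζ1, a ζ with hE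
  rw [hsum1] at hnle
  -- `n ≤ 1 + A`, `n² = 1 + B`, `(1+n) A + E ≤ B`
  have hE0 : E = 0 := by
    have h1 : (1 + n) * (n - 1) ≤ (1 + n) * A := by
      apply Nat.mul_le_mul_left
      omega
    have h2 : (1 + n) * (n - 1) = n ^ 2 - 1 := by
      obtain ⟨j, rfl⟩ : ∃ j, n = j + 1 := ⟨n - 1, by omega⟩
      simp only [Nat.add_sub_cancel]
      have : (j + 1) ^ 2 = (1 + (j + 1)) * j + 1 := by ring
      rw [this, Nat.add_sub_cancel]
    have h3 : n ^ 2 - 1 = B := by omega
    omega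
  have hB0 : B = 0 := by
    rw [hB]
    apply Finset.sum_eq_zero
    intro ζ hζ
    have : a ζ = 0 := by
      have h1 : a ζ ≤ E := Finset.single_le_sum (f := fun ζ => a ζ) (fun _ _ => Nat.zero_le _) hζ
      omega
    rw [this, zero_mul]
  have : n ^ 2 = 1 := by rw [hsum2, hB0]
  have hn' : n = 1 := by
    have h1 : n ^ 2 = 1 ^ 2 := by rw [this]; norm_num
    exact Nat.pow_left_injective (by norm_num : 2 ≠ 0) h1
  exact hn1 hn'

end Cfsg.Agent.Helper6
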