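import Mathlib
import Cfsg.Prelude.Def_Characters
import Cfsg.Agent.Helper6.Gallagher
import Cfsg.Agent.Helper6.CoprimeExt
import Cfsg.Agent.Helper6.FullyRamified
import Cfsg.Agent.Helper6.TIFrob
import Cfsg.Agent.Helper6.Inflation
import Cfsg.Agent.Helper6.Linear

/-!
# Induction of an invariant character from a normal Hall subgroup with abelian quotient
-/

set_option autoImplicit false
set_option linter.style.haveILetI false
set_option linter.unusedSimpArgs false

namespace Cfsg.Agent.Helper6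

open scoped ComplexConjugate

universe u

variable {X : Type u} [Group X]

set_option maxHeartbeats 1600000 in
/-- An invariant irreducible character of a normal Hall subgroup with abelian quotient induces
to the sum of index many distinct irreducible characters. -/
theorem indFun_invariant_eq_sum_of_comm_quotient [Fintype X] (K : Subgroup X) [hK : K.Normal]
    (hcomm : ∀ a b : X ⧸ K, a * b = b * a) (hcop : (Nat.card K).Coprime K.index)
    (θ : K → ℂ) (hθ : Cfsg.IsIrrCharacter K θ) (hinv : ∀ g : X, conjFun K θ g = θ) :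
    ∃ C : Finset (X → ℂ), C.card = K.index ∧ (∀ μ ∈ C, Cfsg.IsIrrCharacter X μ) ∧
      Cfsg.indFun K θ = ∑ μ ∈ C, μ := by
  classical
  haveI : Fintype K := Fintype.ofFinite K
  haveI : Finite (Cfsg.IrrCharacter X) := irr_finite
  haveI : Fintype (Cfsg.IrrCharacter X) := Fintype.ofFinite _
  obtain ⟨χ, hχ, hχK⟩ := extends_of_coprime_card K θ hθ (fun g n => congrFun (hinv g) n) hcop
  have hχK' : Cfsg.IsIrrCharacter K (fun n : K => χ n) := by
    have : (fun n : K => χ n) = θ := funext hχK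
    rw [this]
    exact hθ
  set F : Finset (Cfsg.IrrCharacter X) := Finset.univ.filter
    (fun ξ : Cfsg.IrrCharacter X => ∀ n ∈ K, (ξ : X → ℂ) n = (ξ : X → ℂ) 1) with hF
  -- deflation
  have hdefl : ∀ ξ ∈ F, (ξ : X → ℂ) 1 = 1 ∧ ∀ n ∈ K, ∀ g : X, (ξ : X → ℂ) (n * g) =
      (ξ : X → ℂ) g := by
    intro ξ hξ
    rw [hF, Finset.mem_filter] at hξ
    obtain ⟨ξ', hξ'⟩ := exists_deflate K ξ hξ.2
    constructor
    · rw [hξ']
      have := (comm_iff_forall_irr_degree_one (G := X ⧸ K)).mp hcomm ξ'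
      simpa using this
    · intro n hn g
      rw [hξ']
      simp only [Function.comp_apply]
      rw [QuotientGroup.mk_mul, (QuotientGroup.eq_one_iff n).mpr hn, one_mul]
  have hsum : ∀ g : X, ∑ ξ ∈ F, (ξ : X → ℂ) g = if g ∈ K then (K.index : ℂ) else 0 := by
    intro g
    rw [← sum_degree_mul_irr_of_le_ker K g]
    apply Finset.sum_congr rfl
    intro ξ hξ
    rw [(hdefl ξ hξ).1, one_mul]
  have hcard : F.card = K.index := by
    have h1 := hsum 1
    rw [if_pos K.one_mem] at h1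
    have h2 : ∑ ξ ∈ F, (ξ : X → ℂ) 1 = ∑ ξ ∈ F, (1 : ℂ) :=
      Finset.sum_congr rfl (fun ξ hξ => (hdefl ξ hξ).1)
    rw [h2, Finset.sum_const, nsmul_eq_mul, mul_one] at h1
    exact_mod_cast h1
  -- the average of |χ|² over cosets
  have havg : ∀ g : X, (Nat.card K : ℂ)⁻¹ * ∑ n : K, χ ((n : X) * g) * conj (χ ((n : X) * g)) = 1 := by
    intro g
    have h3 := (gallagher_avg K χ hχ hχK' χ hχ _ rfl).2.2 rfl
    exact congrFun h3 g
  have hinj : Set.InjOn (fun ξ : Cfsg.IrrCharacter X => (ξ : X → ℂ) * χ) F := by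
    intro ξ₁ h₁ ξ₂ h₂ h12
    apply Subtype.ext
    funext g
    have key : ∀ ξ ∈ F, (ξ : X → ℂ) g = (Nat.card K : ℂ)⁻¹ *
        ∑ n : K, ((ξ : X → ℂ) * χ) ((n : X) * g) * conj (χ ((n : X) * g)) := by
      intro ξ hξ
      have h4 : ∀ n : K, ((ξ : X → ℂ) * χ) ((n : X) * g) * conj (χ ((n : X) * g)) =
          (ξ : X → ℂ) g * (χ ((n : X) * g) * conj (χ ((n : X) * g))) := by
        intro n
        rw [Pi.mul_apply, (hdefl ξ hξ).2 n n.2 g, mul_assoc]
      simp_rw [h4]
      rw [← Finset.mul_sum, mul_left_comm, havg g, mul_one]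
    rw [key ξ₁ h₁, key ξ₂ h₂]
    have h12' : ((ξ₁ : X → ℂ) * χ) = ((ξ₂ : X → ℂ) * χ) := h12
    rw [h12']
  refine ⟨F.image (fun ξ : Cfsg.IrrCharacter X => (ξ : X → ℂ) * χ), ?_, ?_, ?_⟩
  · rw [Finset.card_image_of_injOn hinj, hcard]
  · intro μ hμ
    rw [Finset.mem_image] at hμ
    obtain ⟨ξ, hξ, rfl⟩ := hμ
    rw [hF, Finset.mem_filter] at hξ
    exact gallagher_irr K hχ hχK' ξ hξ.2
  · rw [Finset.sum_image hinj]
    funext g
    rw [Finset.sum_apply]
    simp_rw [Pi.mul_apply]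
    rw [← Finset.sum_mul, hsum g]
    split_ifs with hg
    · have h5 := congrFun (indFun_restrict_of_invariant K θ hinv) ⟨g, hg⟩
      simp only [Pi.smul_apply, smul_eq_mul] at h5
      rw [h5, ← hχK ⟨g, hg⟩]
    · rw [indFun_normal_apply_off K θ g hg, zero_mul]

end Cfsg.Agent.Helper6
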