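import Mathlib
import Cfsg.Prelude.Def_Characters
import Cfsg.Prelude.Def_Blocks
import Cfsg.Agent.Helper6.CoprimeClass
import Cfsg.Agent.Helper6.DefectClassValues
import Cfsg.Agent.Helper6.RankDefect

/-!
# Faithful characters of prime power degree: a bound for the defect of their block
-/

set_option autoImplicit false
set_option linter.style.haveILetI false

namespace Cfsg.Agent.Helper6

open Module Representation
open scoped ComplexConjugate

universe u

variable {G : Type u} [Group G] {M : Ideal Cfsg.AlgInt}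

/-- If `ψ(z)/ψ(1)` lies in the local ideal for all non-identity elements of a subgroup `Z` of
order `p^b`, then `p^b` divides the degree of `ψ`. -/
theorem le_factorization_degree_of_ratio_mem [Finite G] (hM : M.IsMaximal) (p : ℕ)
    [hp : Fact p.Prime] (hpM : (p : Cfsg.AlgInt) ∈ M) (ψ : Cfsg.IrrCharacter G)
    (Z : Subgroup G) (b : ℕ) (hZ : Nat.card Z = p ^ b)
    (h : ∀ z ∈ Z, z ≠ 1 → Cfsg.MemLocalIdeal M ((ψ : G → ℂ) z / (ψ : G → ℂ) 1)) :
    b ≤ (Cfsg.charDegree (ψ : G → ℂ)).factorization p := by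
  classical
  haveI : Fintype Z := Fintype.ofFinite _
  obtain ⟨K, -, -, hdpos, hdeg, -⟩ := exists_kernel_data ψ.2
  obtain ⟨n, hn⟩ : ∃ n : ℕ, n = Cfsg.charDegree (ψ : G → ℂ) := ⟨_, rfl⟩
  rw [← hn] at hdpos hdeg ⊢
  have hn0 : (n : ℂ) ≠ 0 := by exact_mod_cast hdpos.ne'
  by_contra hlt
  push Not at hlt
  obtain ⟨e, he⟩ : ∃ e : ℕ, e = n.factorization p := ⟨_, rfl⟩
  rw [← he] at hlt
  obtain ⟨c, hc⟩ := Nat.ordProj_dvd n p
  have hcp : ¬ p ∣ c := by
    have h1 : c = n / p ^ n.factorization p := by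
      rw [Nat.div_eq_of_eq_mul_right (pow_pos hp.out.pos _) hc]
    rw [h1]
    exact Nat.not_dvd_ordCompl hp.out hdpos.ne'
  rw [← he] at hc
  -- the inner product with the trivial character of Z
  have hres : Cfsg.IsCharacter Z (fun x : Z => (ψ : G → ℂ) x) :=
    IsCharacter.restrict Z (IsIrrCharacter.isCharacter ψ.2)
  obtain ⟨m, hm⟩ := classInner_char_char_nat hres (isCharacter_one (G := Z))
  rw [classInner_def] at hm
  have hZ0 : (Nat.card Z : ℂ) ≠ 0 := by
    have : 0 < Nat.card Z := Nat.card_pos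
    exact_mod_cast this.ne'
  have hsum : ∑ x : Z, (ψ : G → ℂ) x = (Nat.card Z : ℂ) * (m : ℂ) := by
    rw [← hm, ← mul_assoc, mul_inv_cancel₀ hZ0, one_mul]
    apply Finset.sum_congr rfl
    intro x _
    simp
  -- split off the identity
  set π : ℂ := ∑ x ∈ Finset.univ.erase (1 : Z), (ψ : G → ℂ) x / (ψ : G → ℂ) 1 with hπ
  have hπmem : Cfsg.MemLocalIdeal M π := by
    apply MemLocalIdeal.sum hM
    intro x hx
    apply h x x.2
    intro h1
    apply (Finset.mem_erase.mp hx).1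
    exact Subtype.ext h1
  have hsum2 : ∑ x : Z, (ψ : G → ℂ) x = (n : ℂ) * (1 + π) := by
    rw [← Finset.add_sum_erase Finset.univ _ (Finset.mem_univ (1 : Z)), hπ, mul_add, mul_one,
      Finset.mul_sum]
    rw [Subgroup.coe_one, hdeg]
    congr 1
    apply Finset.sum_congr rfl
    intro x _
    field_simp
  obtain ⟨t, ht⟩ : ∃ t : ℕ, b = e + 1 + t := ⟨b - (e + 1), by omega⟩
  have hp0 : (p : ℂ) ≠ 0 := by exact_mod_cast hp.out.ne_zero
  have hpe0 : (p : ℂ) ^ e ≠ 0 := pow_ne_zero _ hp0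
  have hkey : (c : ℂ) * (1 + π) = (p : ℂ) * ((p ^ t * m : ℕ) : ℂ) := by
    have h1 : (n : ℂ) * (1 + π) = (Nat.card Z : ℂ) * (m : ℂ) := by rw [← hsum2, hsum]
    rw [hZ, hc, ht] at h1
    push_cast at h1
    have h2 : (p : ℂ) ^ e * ((c : ℂ) * (1 + π)) =
        (p : ℂ) ^ e * ((p : ℂ) * ((p : ℂ) ^ t * (m : ℂ))) := by
      rw [← mul_assoc, h1]
      ring
    have h3 := mul_left_cancel₀ hpe0 h2
    rw [h3]
    push_cast
    rfl
  have hmem1 : Cfsg.MemLocalIdeal M ((c : ℂ) * (1 + π)) := by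
    rw [hkey]
    have : (p : ℂ) * ((p ^ t * m : ℕ) : ℂ) = (((p * (p ^ t * m) : ℕ) : Cfsg.AlgInt) : ℂ) := by
      push_cast
      rfl
    rw [this]
    exact memLocalIdeal_of_mem hM (natCast_mem_of_dvd hpM ⟨p ^ t * m, rfl⟩)
  have hmem2 : Cfsg.MemLocalIdeal M ((c : ℂ) * π) := by
    apply MemLocalIdeal.mul_left hM _ hπmem
    exact memLocalRing_of_isIntegral hM (isIntegral_algebraMap (R := ℤ) (A := ℂ) (x := (c : ℤ)) |>
      fun h => by simpa using h)
  have hmem3 : Cfsg.MemLocalIdeal M (c : ℂ) := by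
    have := MemLocalIdeal.sub hM hmem1 hmem2
    have h4 : (c : ℂ) * (1 + π) - (c : ℂ) * π = (c : ℂ) := by ring
    rwa [h4] at this
  have h5 : (c : ℂ) = ((c : Cfsg.AlgInt) : ℂ) := by
    push_cast
    rfl
  rw [h5, memLocalIdeal_coe_iff hM] at hmem3
  exact natCast_not_mem_of_not_dvd hM hp.out hpM hcp hmem3

/-- A faithful irreducible character of `p`-power degree of a group with trivial centre vanishes
at the non-identity elements whose class size is prime to `p`. -/
theorem faithful_apply_eq_zero_of_not_dvd_index [Finite G] (p : ℕ) [hp : Fact p.Prime]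
    (hZ : Subgroup.center G = ⊥) (χ : Cfsg.IrrCharacter G)
    (hfaith : ∀ g : G, (χ : G → ℂ) g = (χ : G → ℂ) 1 → g = 1) (n : ℕ)
    (hdeg : Cfsg.charDegree (χ : G → ℂ) = p ^ n) (z : G) (hz : z ≠ 1)
    (hidx : ¬ p ∣ (Subgroup.centralizer ({z} : Set G)).index) : (χ : G → ℂ) z = 0 := by
  classical
  obtain ⟨d, ρ, hirr, hρ⟩ := χ.2
  haveI := hirr
  have hd : Cfsg.charDegree (χ : G → ℂ) = d := by
    rw [← hρ]
    exact charDegree_rep ρ
  have hcop : Nat.Coprime (finrank ℂ (Fin d → ℂ))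
      (Subgroup.centralizer ({z} : Set G)).index := by
    have : finrank ℂ (Fin d → ℂ) = d := by simp
    rw [this, ← hd, hdeg]
    apply Nat.Coprime.pow_left
    exact (Nat.Prime.coprime_iff_not_dvd hp.out).mpr hidx
  rcases char_eq_zero_or_norm_eq_of_coprime ρ z hcop with h0 | hnorm
  · rw [← hρ, h0]
  · exfalso
    obtain ⟨ω, hω⟩ := (norm_char_eq_iff ρ z).mp hnorm
    have hzc : z ∈ Subgroup.center G := by
      rw [Subgroup.mem_center_iff]
      intro x
      have h1 : ρ (x * z * x⁻¹ * z⁻¹) = 1 := by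
        have hcomm2 : ρ x * ρ z = ρ z * ρ x := by
          rw [hω]
          ext v
          simp
        calc ρ (x * z * x⁻¹ * z⁻¹) = ρ x * ρ z * ρ x⁻¹ * ρ z⁻¹ := by
              rw [map_mul, map_mul, map_mul]
          _ = ρ z * ρ x * ρ x⁻¹ * ρ z⁻¹ := by rw [hcomm2]
          _ = ρ (z * x * x⁻¹ * z⁻¹) := by rw [map_mul, map_mul, map_mul]
          _ = 1 := by
              have : z * x * x⁻¹ * z⁻¹ = 1 := by group
              rw [this, map_one]
      have h2 : (χ : G → ℂ) (x * z * x⁻¹ * z⁻¹) = (χ : G → ℂ) 1 := by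
        rw [← hρ]
        unfold Representation.character
        rw [h1, map_one ρ]
      have h3 := hfaith _ h2
      calc x * z = (x * z * x⁻¹ * z⁻¹) * (z * x) := by group
        _ = z * x := by rw [h3, one_mul]
    rw [hZ, Subgroup.mem_bot] at hzc
    exact hz hzc

/-- **S4730.** -/
theorem blockDefect_le_of_faithful_prime_pow [Finite G] (hM : M.IsMaximal) (p : ℕ)
    [hp : Fact p.Prime] (hpM : (p : Cfsg.AlgInt) ∈ M) (hZ : Subgroup.center G = ⊥)
    (P : Sylow p G) (a b : ℕ) (ha : Nat.card P = p ^ a)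
    (hb : Nat.card (Subgroup.center ↥(P : Subgroup G)) = p ^ b) (χ : Cfsg.IrrCharacter G)
    (hfaith : ∀ g : G, (χ : G → ℂ) g = (χ : G → ℂ) 1 → g = 1) (n : ℕ)
    (hdeg : Cfsg.charDegree (χ : G → ℂ) = p ^ n) :
    Cfsg.blockDefect p (Cfsg.blockOf M (χ : G → ℂ)) ≤ a - b := by
  classical
  set Z : Subgroup G := (Subgroup.center ↥(P : Subgroup G)).map (P : Subgroup G).subtype with hZdef
  have hZcard : Nat.card Z = p ^ b := by
    rw [hZdef, Subgroup.card_subtype, hb]
  have hPle : ∀ z ∈ Z, (P : Subgroup G) ≤ Subgroup.centralizer ({z} : Set G) := by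
    rintro _ ⟨w, hw, rfl⟩ x hx
    rw [Subgroup.mem_centralizer_iff]
    intro t ht
    rw [Set.mem_singleton_iff] at ht
    rw [ht]
    have := Subgroup.mem_center_iff.mp hw ⟨x, hx⟩
    have h2 := congrArg (fun t : (P : Subgroup G) => (t : G)) this
    simpa using h2.symm
  have hidx : ∀ z ∈ Z, ¬ p ∣ (Subgroup.centralizer ({z} : Set G)).index := by
    intro z hz hdvd
    exact P.not_dvd_index (hdvd.trans (Subgroup.index_dvd_of_le (hPle z hz)))
  have hχz : ∀ z ∈ Z, z ≠ 1 → (χ : G → ℂ) z = 0 := fun z hz hz1 =>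
    faithful_apply_eq_zero_of_not_dvd_index p hZ χ hfaith n hdeg z hz1 (hidx z hz)
  -- all members of the block have degree divisible by p^b
  have hall : ∀ ψ ∈ Cfsg.blockOf M (χ : G → ℂ),
      b ≤ (Cfsg.charDegree (ψ : G → ℂ)).factorization p := by
    intro ψ hψ
    apply le_factorization_degree_of_ratio_mem hM p hpM ψ Z b hZcard
    intro z hz hz1
    have hsame := hψ z
    have h1 : Cfsg.centralChar (χ : G → ℂ) z = 0 := by
      unfold Cfsg.centralChar
      rw [hχz z hz hz1, mul_zero, zero_div]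
    rw [h1, zero_sub] at hsame
    have hω := MemLocalIdeal.neg hsame
    rw [neg_neg] at hω
    have hk0 : ((Subgroup.centralizer ({z} : Set G)).index : ℂ) ≠ 0 := by
      have : (Subgroup.centralizer ({z} : Set G)).index ≠ 0 := Subgroup.index_ne_zero_of_finite
      exact_mod_cast this
    have h2 : (ψ : G → ℂ) z / (ψ : G → ℂ) 1 =
        ((1 : ℕ) : ℂ) / ((Subgroup.centralizer ({z} : Set G)).index : ℂ) *
          Cfsg.centralChar (ψ : G → ℂ) z := by
      unfold Cfsg.centralChar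
      field_simp
      simp
    rw [h2]
    exact MemLocalIdeal.mul_left hM
      (memLocalRing_natCast_div hM p hp.out hpM 1 _ (hidx z hz)) hω
  -- conclude
  have hfac : (Nat.card G).factorization p = a := by
    have h1 := Sylow.card_eq_multiplicity P
    rw [ha] at h1
    exact (Nat.pow_right_injective hp.out.two_le h1).symm
  have hne : ((fun ξ : Cfsg.IrrCharacter G =>
      (Cfsg.charDegree (ξ : G → ℂ)).factorization p) '' Cfsg.blockOf M (χ : G → ℂ)).Nonempty :=
    ⟨_, χ, mem_blockOf_self hM χ, rfl⟩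
  have hinf : b ≤ sInf ((fun ξ : Cfsg.IrrCharacter G =>
      (Cfsg.charDegree (ξ : G → ℂ)).factorization p) '' Cfsg.blockOf M (χ : G → ℂ)) := by
    apply le_csInf hne
    rintro _ ⟨ψ, hψ, rfl⟩
    exact hall ψ hψ
  unfold Cfsg.blockDefect
  rw [hfac]
  omega

end Cfsg.Agent.Helper6
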