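import Mathlib
import Cfsg.Agent.Helper7.FHDefs

/-!
# S1142 piece L11 : closed forms of `chi`
-/

set_option autoImplicit false

namespace Cfsg.Agent.Helper7.FH

theorem h6_chi_add_four (a b t : ℝ) (k : ℕ) :
    chi a b t (k + 4) = t * chi a b t (k + 2) - a * b * chi a b t k := by
  rw [chi]

private theorem h6_cos_rec (θ : ℝ) (x : ℝ) :
    2 * Real.cos θ * Real.cos (x + θ) - Real.cos x = Real.cos (x + 2 * θ) := by
  have h1 : Real.cos (x + 2 * θ) = Real.cos ((x + θ) + θ) := by congr 1; ring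
  have h2 : Real.cos x = Real.cos ((x + θ) - θ) := by congr 1; ring
  have e1 := Real.cos_add (x + θ) θ
  have e2 := Real.cos_sub (x + θ) θ
  rw [h1, e1]
  have h3 : Real.cos x = Real.cos (x + θ) * Real.cos θ + Real.sin (x + θ) * Real.sin θ := by
    rw [h2, e2]
  rw [h3]
  ring

private theorem h6_sin_rec (θ : ℝ) (x : ℝ) :
    2 * Real.cos θ * Real.sin (x + θ) - Real.sin x = Real.sin (x + 2 * θ) := by
  have h1 : Real.sin (x + 2 * θ) = Real.sin ((x + θ) + θ) := by congr 1; ring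
  have h2 : Real.sin x = Real.sin ((x + θ) - θ) := by congr 1; ring
  have e1 := Real.sin_add (x + θ) θ
  have e2 := Real.sin_sub (x + θ) θ
  rw [h1, e1]
  have h3 : Real.sin x = Real.sin (x + θ) * Real.cos θ - Real.cos (x + θ) * Real.sin θ := by
    rw [h2, e2]
  rw [h3]
  ring

theorem h6_chi_closed_aux (a b θ : ℝ) (ha : 0 < a) (hb : 0 < b) (i : ℕ) :
    (chi a b (2 * Real.sqrt (a * b) * Real.cos θ) (2 * i) =
      2 * Real.sqrt (a * b) ^ i * Real.cos (i * θ) ∧
    chi a b (2 * Real.sqrt (a * b) * Real.cos θ) (2 * i + 1) * Real.sin θ =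
      Real.sqrt (a * b) ^ i * (a * (b - 1) / Real.sqrt (a * b) * Real.sin (i * θ) +
        (a - 1) * Real.sin ((i + 1) * θ))) ∧
    (chi a b (2 * Real.sqrt (a * b) * Real.cos θ) (2 * (i + 1)) =
      2 * Real.sqrt (a * b) ^ (i + 1) * Real.cos ((i + 1 : ℕ) * θ) ∧
    chi a b (2 * Real.sqrt (a * b) * Real.cos θ) (2 * (i + 1) + 1) * Real.sin θ =
      Real.sqrt (a * b) ^ (i + 1) * (a * (b - 1) / Real.sqrt (a * b) * Real.sin ((i + 1 : ℕ) * θ) +
        (a - 1) * Real.sin (((i + 1 : ℕ) + 1) * θ))) := by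
  have hab : 0 < a * b := mul_pos ha hb
  have hc : 0 < Real.sqrt (a * b) := Real.sqrt_pos.mpr hab
  have hc2 : Real.sqrt (a * b) * Real.sqrt (a * b) = a * b := Real.mul_self_sqrt hab.le
  set c := Real.sqrt (a * b) with hcdef
  have hcne : c ≠ 0 := hc.ne'
  induction i with
  | zero =>
    refine ⟨⟨?_, ?_⟩, ?_, ?_⟩
    · simp [chi]
    · simp [chi]
    · simp [chi]
    · show chi a b (2 * c * Real.cos θ) 3 * Real.sin θ = _
      simp only [chi]
      have h2 : Real.sin (((0 + 1 : ℕ) + 1 : ℝ) * θ) = 2 * Real.sin θ * Real.cos θ := by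
        have : ((0 + 1 : ℕ) + 1 : ℝ) * θ = 2 * θ := by push_cast; ring
        rw [this, Real.sin_two_mul]
      rw [h2]
      push_cast
      simp only [one_mul, pow_one]
      field_simp
  | succ i ih =>
    obtain ⟨⟨ih1, ih2⟩, ih3, ih4⟩ := ih
    refine ⟨⟨ih3, ih4⟩, ?_, ?_⟩
    · have e : 2 * (i + 1 + 1) = 2 * i + 4 := by ring
      rw [e, h6_chi_add_four]
      have e2 : 2 * i + 2 = 2 * (i + 1) := by ring
      rw [e2, ih3, ih1]
      have hr := h6_cos_rec θ (i * θ)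
      have e3 : ((i + 1 : ℕ) : ℝ) * θ = i * θ + θ := by push_cast; ring
      have e4 : ((i + 1 + 1 : ℕ) : ℝ) * θ = i * θ + 2 * θ := by push_cast; ring
      rw [e3, e4, ← hr]
      rw [pow_succ c (i + 1), pow_succ c i]
      linear_combination ((2 : ℝ) * c ^ i * Real.cos (i * θ)) * hc2
    · have e : 2 * (i + 1 + 1) + 1 = (2 * i + 1) + 4 := by ring
      rw [e, h6_chi_add_four]
      have e2 : 2 * i + 1 + 2 = 2 * (i + 1) + 1 := by ring
      rw [e2, sub_mul, mul_assoc, ih4, mul_assoc (a * b), ih2]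
      have hr1 := h6_sin_rec θ (i * θ)
      have hr2 := h6_sin_rec θ ((i + 1) * θ)
      have e3 : ((i + 1 : ℕ) : ℝ) * θ = i * θ + θ := by push_cast; ring
      have e4 : (((i + 1 : ℕ) : ℝ) + 1) * θ = (i + 1) * θ + θ := by push_cast; ring
      have e5 : ((i + 1 + 1 : ℕ) : ℝ) * θ = i * θ + 2 * θ := by push_cast; ring
      have e6 : (((i + 1 + 1 : ℕ) : ℝ) + 1) * θ = (i + 1) * θ + 2 * θ := by push_cast; ring
      rw [e3, e4, e5, e6, ← hr1, ← hr2]
      rw [pow_succ c (i + 1), pow_succ c i]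
      have e7 : ((i : ℝ) + 1) * θ = i * θ + θ := by ring
      rw [e7]
      linear_combination (c ^ i * (a * (b - 1) / c * Real.sin (i * θ) +
        (a - 1) * Real.sin (i * θ + θ))) * hc2

theorem chi_closed (a b θ : ℝ) (ha : 0 < a) (hb : 0 < b) (i : ℕ) :
    chi a b (2 * Real.sqrt (a * b) * Real.cos θ) (2 * i) =
      2 * Real.sqrt (a * b) ^ i * Real.cos (i * θ) ∧
    chi a b (2 * Real.sqrt (a * b) * Real.cos θ) (2 * i + 1) * Real.sin θ =
      Real.sqrt (a * b) ^ i * (a * (b - 1) / Real.sqrt (a * b) * Real.sin (i * θ) +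
        (a - 1) * Real.sin ((i + 1) * θ)) :=
  (h6_chi_closed_aux a b θ ha hb i).1

end Cfsg.Agent.Helper7.FH
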