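import Mathlib
import Cfsg.Agent.Helper7.FHDefs
import Cfsg.Agent.Helper6.Fh_L11
import Cfsg.Agent.Helper5.Fh_L13a

/-!
# S1142 piece L13 : evaluation of the sum in the trace trick (even case)
-/

set_option autoImplicit false

namespace Cfsg.Agent.Helper7.FH

theorem h6_sum_range_two_mul (f : ℕ → ℝ) (N : ℕ) :
    ∑ k ∈ Finset.range (2 * N), f k =
      ∑ i ∈ Finset.range N, f (2 * i) + ∑ i ∈ Finset.range N, f (2 * i + 1) := by
  induction N with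
  | zero => simp
  | succ N ih =>
    have e : 2 * (N + 1) = (2 * N + 1) + 1 := by ring
    rw [e, Finset.sum_range_succ, Finset.sum_range_succ, ih,
      Finset.sum_range_succ (fun i => f (2 * i)) N,
      Finset.sum_range_succ (fun i => f (2 * i + 1)) N]
    ring

theorem h6_sum_range_two_mul_add_one (f : ℕ → ℝ) (N : ℕ) :
    ∑ k ∈ Finset.range (2 * N + 1), f k =
      ∑ i ∈ Finset.range (N + 1), f (2 * i) + ∑ i ∈ Finset.range N, f (2 * i + 1) := by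
  rw [Finset.sum_range_succ, h6_sum_range_two_mul, Finset.sum_range_succ (fun i => f (2 * i)) N]
  ring

theorem h6_sum_Ico_one_two_mul (g : ℕ → ℝ) (N : ℕ) (hN : 1 ≤ N) :
    ∑ k ∈ Finset.Ico 1 (2 * N), g k =
      ∑ i ∈ Finset.Ico 1 N, g (2 * i) + ∑ i ∈ Finset.range N, g (2 * i + 1) := by
  rw [Finset.sum_Ico_eq_sub _ (by omega : 1 ≤ 2 * N),
    Finset.sum_Ico_eq_sub (fun i => g (2 * i)) hN, h6_sum_range_two_mul]
  simp
  ring

/-- the even terms -/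
theorem h6_term_even (a b θ : ℝ) (ha : 0 < a) (hb : 0 < b) (i : ℕ) :
    (chi a b (2 * (Real.sqrt (a * b) * Real.cos θ)) (2 * i)) ^ 2 /
        (a ^ ((2 * i + 1) / 2) * b ^ ((2 * i) / 2)) = (2 * Real.cos (i * θ)) ^ 2 := by
  have hab : 0 < a * b := mul_pos ha hb
  have hc : 0 < Real.sqrt (a * b) := Real.sqrt_pos.mpr hab
  have hc2 : Real.sqrt (a * b) * Real.sqrt (a * b) = a * b := Real.mul_self_sqrt hab.le
  have e1 : (2 * i + 1) / 2 = i := by omega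
  have e2 : (2 * i) / 2 = i := by omega
  have h := (chi_closed a b θ ha hb i).1
  rw [mul_assoc] at h
  rw [e1, e2, h]
  obtain ⟨c, hcdef⟩ : ∃ c : ℝ, c = Real.sqrt (a * b) := ⟨_, rfl⟩
  rw [← hcdef] at hc hc2 ⊢
  have hci : c ^ i ≠ 0 := pow_ne_zero _ hc.ne'
  have hpow : a ^ i * b ^ i = (c ^ i) ^ 2 := by
    rw [← mul_pow, ← hc2, ← pow_two, ← pow_mul, ← pow_mul, mul_comm]
  rw [hpow]
  field_simp

/-- the odd terms -/
theorem h6_term_odd (a b θ : ℝ) (ha : 0 < a) (hb : 0 < b) (hs : Real.sin θ ≠ 0) (i : ℕ) :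
    (chi a b (2 * (Real.sqrt (a * b) * Real.cos θ)) (2 * i + 1)) ^ 2 /
        (a ^ ((2 * i + 1 + 1) / 2) * b ^ ((2 * i + 1) / 2)) =
      (a * (b - 1) / Real.sqrt (a * b) * Real.sin (i * θ) +
        (a - 1) * Real.sin ((i + 1) * θ)) ^ 2 / (a * Real.sin θ ^ 2) := by
  have hab : 0 < a * b := mul_pos ha hb
  have hc : 0 < Real.sqrt (a * b) := Real.sqrt_pos.mpr hab
  have hc2 : Real.sqrt (a * b) * Real.sqrt (a * b) = a * b := Real.mul_self_sqrt hab.le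
  have e1 : (2 * i + 1 + 1) / 2 = i + 1 := by omega
  have e2 : (2 * i + 1) / 2 = i := by omega
  have h := (chi_closed a b θ ha hb i).2
  rw [mul_assoc] at h
  have hchi : chi a b (2 * (Real.sqrt (a * b) * Real.cos θ)) (2 * i + 1) =
      Real.sqrt (a * b) ^ i * (a * (b - 1) / Real.sqrt (a * b) * Real.sin (i * θ) +
        (a - 1) * Real.sin ((i + 1) * θ)) / Real.sin θ := by
    rw [eq_div_iff hs]; exact h
  rw [e1, e2, hchi, pow_succ a i]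
  obtain ⟨c, hcdef⟩ : ∃ c : ℝ, c = Real.sqrt (a * b) := ⟨_, rfl⟩
  rw [← hcdef] at hc hc2 ⊢
  have hci : c ^ i ≠ 0 := pow_ne_zero _ hc.ne'
  have hpow : a ^ i * b ^ i = (c ^ i) ^ 2 := by
    rw [← mul_pow, ← hc2, ← pow_two, ← pow_mul, ← pow_mul, mul_comm]
  rw [mul_assoc, mul_comm a (b ^ i), ← mul_assoc, hpow]
  field_simp

theorem chi_sum_even (a b : ℝ) (ha : 0 < a) (hb : 0 < b) (d' j : ℕ) (hj : 1 ≤ j) (hjd : j < d') :
    ∑ k ∈ Finset.range (2 * d' + 1),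
        (chi a b (2 * (Real.sqrt (a * b) * Real.cos (Real.pi * j / d'))) k) ^ 2 /
          (a ^ ((k + 1) / 2) * b ^ (k / 2)) +
      ∑ k ∈ Finset.Ico 1 (2 * d'),
        (chi b a (2 * (Real.sqrt (a * b) * Real.cos (Real.pi * j / d'))) k) ^ 2 /
          (b ^ ((k + 1) / 2) * a ^ (k / 2)) =
      (2 * d' : ℝ) * (a + b + 2 * (Real.sqrt (a * b) * Real.cos (Real.pi * j / d'))) *
        (a * b + 1 - 2 * (Real.sqrt (a * b) * Real.cos (Real.pi * j / d'))) /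
        (2 * (a * b - (Real.sqrt (a * b) * Real.cos (Real.pi * j / d')) ^ 2)) := by
  have hd1 : 1 ≤ d' := by omega
  have hdpos : (0 : ℝ) < d' := by exact_mod_cast (by omega : 0 < d')
  have hab : 0 < a * b := mul_pos ha hb
  have hc : 0 < Real.sqrt (a * b) := Real.sqrt_pos.mpr hab
  have hc2 : Real.sqrt (a * b) * Real.sqrt (a * b) = a * b := Real.mul_self_sqrt hab.le
  have hba : Real.sqrt (b * a) = Real.sqrt (a * b) := by rw [mul_comm]
  -- the angle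
  have hθ0 : 0 < Real.pi * j / d' := by
    have : (0 : ℝ) < j := by exact_mod_cast (by omega : 0 < j)
    positivity
  have hθπ : Real.pi * j / d' < Real.pi := by
    rw [div_lt_iff₀ hdpos]
    have : (j : ℝ) < d' := by exact_mod_cast hjd
    nlinarith [Real.pi_pos]
  have hsin : 0 < Real.sin (Real.pi * j / d') := Real.sin_pos_of_pos_of_lt_pi hθ0 hθπ
  obtain ⟨θ, hθ⟩ : ∃ θ : ℝ, θ = Real.pi * j / d' := ⟨_, rfl⟩
  rw [← hθ] at hsin ⊢
  have hs : Real.sin θ ≠ 0 := hsin.ne'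
  obtain ⟨ht1, ht2⟩ := trig_even d' j hj hjd (a * (b - 1) / Real.sqrt (a * b)) (a - 1)
  obtain ⟨-, ht3⟩ := trig_even d' j hj hjd (b * (a - 1) / Real.sqrt (a * b)) (b - 1)
  rw [← hθ] at ht1 ht2 ht3
  rw [h6_sum_range_two_mul_add_one, h6_sum_Ico_one_two_mul _ _ hd1]
  -- rewrite the terms
  have hE1 : ∀ i : ℕ, (chi a b (2 * (Real.sqrt (a * b) * Real.cos θ)) (2 * i)) ^ 2 /
        (a ^ ((2 * i + 1) / 2) * b ^ ((2 * i) / 2)) = (2 * Real.cos (i * θ)) ^ 2 :=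
    fun i => h6_term_even a b θ ha hb i
  have hE2 : ∀ i : ℕ, (chi b a (2 * (Real.sqrt (a * b) * Real.cos θ)) (2 * i)) ^ 2 /
        (b ^ ((2 * i + 1) / 2) * a ^ ((2 * i) / 2)) = (2 * Real.cos (i * θ)) ^ 2 := by
    intro i
    have := h6_term_even b a θ hb ha i
    rwa [hba] at this
  have hO1 : ∀ i : ℕ, (chi a b (2 * (Real.sqrt (a * b) * Real.cos θ)) (2 * i + 1)) ^ 2 /
        (a ^ ((2 * i + 1 + 1) / 2) * b ^ ((2 * i + 1) / 2)) =
      (a * (b - 1) / Real.sqrt (a * b) * Real.sin (i * θ) +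
        (a - 1) * Real.sin ((i + 1) * θ)) ^ 2 / (a * Real.sin θ ^ 2) :=
    fun i => h6_term_odd a b θ ha hb hs i
  have hO2 : ∀ i : ℕ, (chi b a (2 * (Real.sqrt (a * b) * Real.cos θ)) (2 * i + 1)) ^ 2 /
        (b ^ ((2 * i + 1 + 1) / 2) * a ^ ((2 * i + 1) / 2)) =
      (b * (a - 1) / Real.sqrt (a * b) * Real.sin (i * θ) +
        (b - 1) * Real.sin ((i + 1) * θ)) ^ 2 / (b * Real.sin θ ^ 2) := by
    intro i
    have := h6_term_odd b a θ hb ha hs i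
    rwa [hba] at this
  simp only [hE1, hE2, hO1, hO2]
  rw [← Finset.sum_div, ← Finset.sum_div, ht2, ht3]
  have hX : ∑ x ∈ Finset.range (d' + 1), (2 * Real.cos (x * θ)) ^ 2 =
      4 * (d' : ℝ) - ∑ x ∈ Finset.Ico 1 d', (2 * Real.cos (x * θ)) ^ 2 := by
    linarith [ht1]
  rw [hX]
  obtain ⟨Y, hY⟩ : ∃ Y : ℝ, Y = ∑ x ∈ Finset.Ico 1 d', (2 * Real.cos (x * θ)) ^ 2 := ⟨_, rfl⟩
  rw [← hY]
  obtain ⟨c, hcdef⟩ : ∃ c : ℝ, c = Real.sqrt (a * b) := ⟨_, rfl⟩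
  rw [← hcdef] at hc hc2 ⊢
  have hs2 : (1 : ℝ) - Real.cos θ ^ 2 ≠ 0 := by
    rw [← Real.sin_sq θ]; exact pow_ne_zero 2 hs
  rw [Real.sin_sq θ]
  obtain ⟨C, hC⟩ : ∃ C : ℝ, C = Real.cos θ := ⟨_, rfl⟩
  rw [← hC] at hs2 ⊢
  have hden : a * b - (c * C) ^ 2 = c ^ 2 * (1 - C ^ 2) := by rw [← hc2]; ring
  rw [hden]
  have hb' : b = c ^ 2 / a := by
    rw [eq_div_iff ha.ne']; linarith [hc2]
  clear ht1 ht2 ht3 hE1 hE2 hO1 hO2 hX hden hba hab hcdef hc2 hb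
  subst hb'
  have hcne : c ≠ 0 := hc.ne'
  have hane : a ≠ 0 := ha.ne'
  have hdne : (d' : ℝ) ≠ 0 := hdpos.ne'
  field_simp
  ring

end Cfsg.Agent.Helper7.FH
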