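import Mathlib
import Cfsg.Prelude.Def_Characters
import Cfsg.Agent.Helper6.SigmaParity4
import Cfsg.Agent.Helper6.IrrCrit
import Cfsg.Agent.Helper6.CliffordOrbit

/-!
# Existence of Galois-fixed characters over a fixed character of a normal subgroup of odd index
-/

set_option autoImplicit false
set_option linter.style.haveILetI false

namespace Cfsg.Agent.Helper6

open Module
open scoped ComplexConjugate

universe u

variable {G : Type u} [Group G]

theorem indFun_comp_pow [Fintype G] (H : Subgroup G) (θ : H → ℂ) (k : ℕ)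
    (hk : k.Coprime (Nat.card G)) (g : G) :
    Cfsg.indFun H θ (g ^ k) = Cfsg.indFun H (fun h => θ (h ^ k)) g := by
  rw [indFun_apply, indFun_apply]
  congr 1
  apply Finset.sum_congr rfl
  intro x _
  have hconj : x⁻¹ * g ^ k * x = (x⁻¹ * g * x) ^ k := by
    have := conj_pow (a := x⁻¹) (b := g) (i := k)
    rw [inv_inv] at this
    exact this.symm
  rw [hconj]
  by_cases hy : x⁻¹ * g * x ∈ H
  · rw [extendByZero_mem _ _ hy, extendByZero_mem _ _ (H.pow_mem hy k)]
    rfl
  · rw [extendByZero_not_mem _ _ hy,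
      extendByZero_not_mem _ _ (pow_coprime_not_mem H _ hy k hk)]

set_option maxHeartbeats 800000 in
theorem sigma_exists_over [Fintype G] {k e : ℕ} (h : SigmaHyp G k e) (N : Subgroup G)
    [hN : N.Normal] [Fintype N] (hodd : Odd N.index) (θ : N → ℂ) (hθ : Cfsg.IsIrrCharacter N θ)
    (hθfix : ∀ n : N, θ (n ^ k) = θ n) :
    ∃ χ : G → ℂ, Cfsg.IsIrrCharacter G χ ∧ (∀ g, χ (g ^ k) = χ g) ∧
      Cfsg.classInner (fun n : N => χ n) θ ≠ 0 := by
  classical
  haveI : Finite (Cfsg.IrrCharacter G) := irr_finite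
  haveI : Fintype (Cfsg.IrrCharacter G) := Fintype.ofFinite _
  set ind := Cfsg.indFun N θ with hind
  have hindc : Cfsg.IsCharacter G ind := isCharacter_indFun N θ (IsIrrCharacter.isCharacter hθ)
  have hindcf := IsCharacter.isClassFunction hindc
  have hindfix : ∀ g, ind (g ^ k) = ind g := by
    intro g
    rw [hind, indFun_comp_pow N θ k h.cop g]
    congr 2
    funext n
    exact hθfix n
  have he : ∀ ξ : Cfsg.IrrCharacter G, ∃ m : ℕ, Cfsg.classInner ind (ξ : G → ℂ) = m :=
    fun ξ => classInner_char_char_nat hindc (IsIrrCharacter.isCharacter ξ.2)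
  choose m hm using he
  -- the norm of the induced character
  have hnorm : Cfsg.classInner ind ind = ((∑ ξ : Cfsg.IrrCharacter G, m ξ ^ 2 : ℕ) : ℂ) := by
    rw [classInner_self_expansion ind hindcf ind]
    push_cast
    apply Finset.sum_congr rfl
    intro ξ _
    rw [classInner_conj_symm ind (ξ : G → ℂ), hm, Complex.conj_natCast]
    ring
  have hT := card_mul_classInner_indFun_normal N θ hθ
  have hTcard : Nat.card {g : G // conjFun N θ g = θ} = Nat.card (conjStab N θ) := rfl
  rw [hTcard, hnorm] at hT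
  have hTnat : Nat.card N * (∑ ξ : Cfsg.IrrCharacter G, m ξ ^ 2) = Nat.card (conjStab N θ) := by
    exact_mod_cast hT
  have hsumodd : Odd (∑ ξ : Cfsg.IrrCharacter G, m ξ ^ 2) := by
    have h1 : Nat.card (conjStab N θ) * (conjStab N θ).index = Nat.card N * N.index := by
      rw [Subgroup.card_mul_index, Subgroup.card_mul_index]
    rw [← hTnat, mul_assoc] at h1
    have hN0 : 0 < Nat.card N := Nat.card_pos
    have h2 := Nat.eq_of_mul_eq_mul_left hN0 h1
    have h3 : Odd ((∑ ξ : Cfsg.IrrCharacter G, m ξ ^ 2) * (conjStab N θ).index) := by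
      rw [h2]
      exact hodd
    exact (Nat.odd_mul.mp h3).1
  set τ := sigmaPerm (G := G) k h.cop with hτ
  have hmτ : ∀ ξ, m (τ ξ) = m ξ := by
    intro ξ
    have h1 : (m (τ ξ) : ℂ) = m ξ := by
      rw [← hm, ← hm]
      have h2 : ((τ ξ : Cfsg.IrrCharacter G) : G → ℂ) = fun g => (ξ : G → ℂ) (g ^ k) := rfl
      have h3 : ind = fun g => ind (g ^ k) := by
        funext g
        exact (hindfix g).symm
      rw [h2]
      conv_lhs => rw [h3]
      exact classInner_comp_pow ind (ξ : G → ℂ) k h.cop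
    exact_mod_cast h1
  have hmod := sum_modEq_sum_fixed e τ (sigmaPerm_pow_eq_one h) (fun ξ => m ξ ^ 2)
    (fun ξ => by simp only [hmτ])
  have hex : ∃ ξ : Cfsg.IrrCharacter G, τ ξ = ξ ∧ m ξ ≠ 0 := by
    by_contra hno
    push Not at hno
    have hzero : ∑ ξ ∈ Finset.univ.filter (fun ξ => τ ξ = ξ), m ξ ^ 2 = 0 := by
      apply Finset.sum_eq_zero
      intro ξ hξ
      simp only [Finset.mem_filter, Finset.mem_univ, true_and] at hξ
      rw [hno ξ hξ]
      rfl
    rw [hzero] at hmod
    have h1 := (ZMod.natCast_eq_natCast_iff _ _ 2).mp hmod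
    have h2 : (∑ ξ : Cfsg.IrrCharacter G, m ξ ^ 2) % 2 = 0 := h1
    rw [Nat.odd_iff] at hsumodd
    omega
  obtain ⟨ξ, hξfix, hξ0⟩ := hex
  refine ⟨(ξ : G → ℂ), ξ.2, (sigmaPerm_fixed_iff k h.cop ξ).mp hξfix, ?_⟩
  have h1 := hm ξ
  rw [hind, frobenius_reciprocity N θ _
    (IsCharacter.isClassFunction (IsIrrCharacter.isCharacter ξ.2))] at h1
  rw [classInner_conj_symm, h1, Complex.conj_natCast]
  exact_mod_cast hξ0

end Cfsg.Agent.Helper6
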