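import Mathlib
import Cfsg.Prelude.Def_Characters
import Cfsg.Agent.Helper6.GaloisConj
import Cfsg.Agent.Helper6.SigmaExist
import Cfsg.Agent.Helper6.NormalInd2

/-!
# Power maps acting on complex functions of a group of bounded exponent: stabilizers
-/

set_option autoImplicit false
set_option linter.style.haveILetI false

namespace Cfsg.Agent.Helper6.FieldBnd

universe u

variable {Q : Type u} [Group Q]

theorem pow_val_one (n : ℕ) [NeZero n] (hexp : ∀ g : Q, g ^ n = 1) (g : Q) :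
    g ^ ((1 : (ZMod n)ˣ) : ZMod n).val = g := by
  rw [Units.val_one, ZMod.val_one_eq_one_mod, ← pow_eq_pow_mod 1 (hexp g), pow_one]

theorem pow_val_mul (n : ℕ) [NeZero n] (hexp : ∀ g : Q, g ^ n = 1) (k l : (ZMod n)ˣ) (g : Q) :
    g ^ ((k * l : (ZMod n)ˣ) : ZMod n).val = (g ^ (k : ZMod n).val) ^ (l : ZMod n).val := by
  rw [Units.val_mul, ZMod.val_mul, ← pow_eq_pow_mod _ (hexp g), pow_mul]

/-- the twist of a function by the power map attached to a unit -/
def gsm {n : ℕ} (k : (ZMod n)ˣ) (φ : Q → ℂ) : Q → ℂ := fun g => φ (g ^ (k : ZMod n).val)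

theorem gsm_apply {n : ℕ} (k : (ZMod n)ˣ) (φ : Q → ℂ) (g : Q) :
    gsm k φ g = φ (g ^ (k : ZMod n).val) := rfl

theorem gsm_one (n : ℕ) [NeZero n] (hexp : ∀ g : Q, g ^ n = 1) (φ : Q → ℂ) :
    gsm (1 : (ZMod n)ˣ) φ = φ := by
  funext g
  rw [gsm_apply, pow_val_one n hexp]

theorem gsm_mul (n : ℕ) [NeZero n] (hexp : ∀ g : Q, g ^ n = 1) (k l : (ZMod n)ˣ) (φ : Q → ℂ) :
    gsm (k * l) φ = gsm k (gsm l φ) := by
  funext g
  rw [gsm_apply, gsm_apply, gsm_apply, pow_val_mul n hexp]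

theorem gsm_pow (n : ℕ) [NeZero n] (hexp : ∀ g : Q, g ^ n = 1) (k : (ZMod n)ˣ) (φ : Q → ℂ)
    (i : ℕ) : gsm (k ^ i) φ = (gsm k)^[i] φ := by
  induction i with
  | zero => rw [pow_zero, gsm_one n hexp]; rfl
  | succ i ih =>
    rw [pow_succ', gsm_mul n hexp, ih, Function.iterate_succ_apply']

/-- the stabilizer of a function under the power maps -/
def powStab (n : ℕ) [NeZero n] (hexp : ∀ g : Q, g ^ n = 1) (φ : Q → ℂ) : Subgroup (ZMod n)ˣ where
  carrier := {k | gsm k φ = φ}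
  one_mem' := gsm_one n hexp φ
  mul_mem' := by
    intro k l hk hl
    change gsm (k * l) φ = φ
    rw [gsm_mul n hexp, show gsm l φ = φ from hl, show gsm k φ = φ from hk]
  inv_mem' := by
    intro k hk
    change gsm k⁻¹ φ = φ
    have h1 : gsm k⁻¹ (gsm k φ) = φ := by
      rw [← gsm_mul n hexp, inv_mul_cancel, gsm_one n hexp]
    rwa [show gsm k φ = φ from hk] at h1

theorem mem_powStab (n : ℕ) [NeZero n] (hexp : ∀ g : Q, g ^ n = 1) (φ : Q → ℂ)
    (k : (ZMod n)ˣ) : k ∈ powStab n hexp φ ↔ gsm k φ = φ := Iff.rfl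

theorem gsm_eq_iff (n : ℕ) [NeZero n] (hexp : ∀ g : Q, g ^ n = 1) (φ : Q → ℂ)
    (k l : (ZMod n)ˣ) : gsm k φ = gsm l φ ↔ k⁻¹ * l ∈ powStab n hexp φ := by
  rw [mem_powStab]
  constructor
  · intro h
    rw [gsm_mul n hexp, ← h, ← gsm_mul n hexp, inv_mul_cancel, gsm_one n hexp]
  · intro h
    have h1 : gsm l φ = gsm (k * (k⁻¹ * l)) φ := by rw [mul_inv_cancel_left]
    rw [h1, gsm_mul n hexp, h]

/-- twisting commutes with passage along a homomorphism -/
theorem gsm_comp_hom {R : Type*} [Group R] {n : ℕ} (f : Q →* R) (k : (ZMod n)ˣ) (φ : R → ℂ) :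
    gsm k (φ ∘ f) = (gsm k φ) ∘ f := by
  funext g
  simp only [gsm_apply, Function.comp_apply, map_pow]

theorem powStab_comp_surjective {R : Type*} [Group R] (n : ℕ) [NeZero n]
    (hexp : ∀ g : Q, g ^ n = 1) (hexp' : ∀ g : R, g ^ n = 1) (f : Q →* R)
    (hf : Function.Surjective f) (φ : R → ℂ) :
    powStab n hexp (φ ∘ f) = powStab n hexp' φ := by
  ext k
  rw [mem_powStab, mem_powStab, gsm_comp_hom]
  constructor
  · intro h
    funext r
    obtain ⟨q, rfl⟩ := hf r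
    exact congrFun h q
  · intro h
    rw [h]

/-- twisting commutes with conjugation -/
theorem gsm_conjFun {P : Type u} [Group P] (M : Subgroup P) [hM : M.Normal] {n : ℕ}
    (k : (ZMod n)ˣ) (ψ : M → ℂ) (x : P) :
    gsm k (conjFun M ψ x) = conjFun M (gsm k ψ) x := by
  funext h
  change ψ _ = ψ (_ ^ _)
  congr 1
  apply Subtype.ext
  simp only [Subgroup.coe_pow, conj_pow]

/-- twisting commutes with induction -/
theorem gsm_indFun {P : Type u} [Group P] [Fintype P] (M : Subgroup P) {n : ℕ}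
    (k : (ZMod n)ˣ) (hk : ((k : ZMod n).val).Coprime (Nat.card P)) (ψ : M → ℂ) :
    gsm k (Cfsg.indFun M ψ) = Cfsg.indFun M (gsm k ψ) := by
  funext g
  rw [gsm_apply, indFun_comp_pow M ψ _ hk g]
  rfl

theorem gsm_isIrr [Fintype Q] {n : ℕ} (k : (ZMod n)ˣ)
    (hk : ((k : ZMod n).val).Coprime (Nat.card Q)) {φ : Q → ℂ}
    (hφ : Cfsg.IsIrrCharacter Q φ) : Cfsg.IsIrrCharacter Q (gsm k φ) :=
  IsIrrCharacter.comp_pow hφ _ hk

/-- a unit of `ZMod (p^N)` has value coprime to any power of `p` -/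
theorem val_coprime_pow (p N a : ℕ) (_hp : p.Prime) (hN : 0 < N) (k : (ZMod (p ^ N))ˣ) :
    ((k : ZMod (p ^ N)).val).Coprime (p ^ a) := by
  have h1 : ((k : ZMod (p ^ N)).val).Coprime (p ^ N) := ZMod.val_coe_unit_coprime k
  have h2 : ((k : ZMod (p ^ N)).val).Coprime p :=
    (Nat.coprime_pow_right_iff hN _ _).mp h1
  exact Nat.Coprime.pow_right a h2

end Cfsg.Agent.Helper6.FieldBnd
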