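import Mathlib
import Cfsg.Prelude.Def_Characters
import Cfsg.Agent.Helper6.FieldBndA
import Cfsg.Agent.Helper6.Linear
import Cfsg.Agent.Helper6.PConjB

/-!
# The base case: faithful linear characters of `p`-groups
-/

set_option autoImplicit false
set_option linter.style.haveILetI false

namespace Cfsg.Agent.Helper6.FieldBnd

universe u

variable {Q : Type u} [Group Q]

/-- the index of the congruence subgroup -/
theorem index_congrSubgroup (p N a : ℕ) [hp : Fact p.Prime] (ha : 0 < a) (haN : a ≤ N) :
    (PConj.congrSubgroup (p ^ N) (p ^ a) (pow_dvd_pow p haN)).index = p ^ (a - 1) * (p - 1) := by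
  unfold PConj.congrSubgroup
  rw [Subgroup.index_ker, MonoidHom.range_eq_top.mpr (ZMod.unitsMap_surjective _),
    Nat.card_congr Subgroup.topEquiv.toEquiv, Nat.card_eq_fintype_card,
    ZMod.card_units_eq_totient, Nat.totient_prime_pow hp.out ha]

/-- the stabilizer of a faithful linear character -/
theorem base_case [Finite Q] (p N a : ℕ) [hp : Fact p.Prime] (hexp : ∀ g : Q, g ^ (p ^ N) = 1)
    (hQ : Nat.card Q = p ^ a) (χ : Q → ℂ) (hχ : Cfsg.IsIrrCharacter Q χ)
    (hfaith : ∀ g : Q, χ g = χ 1 → g = 1) (h1 : χ 1 = 1) (t : ℕ)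
    (hidx : (powStab (p ^ N) hexp χ).index ≤ (p - 1) * p ^ t) : a ≤ t + 1 := by
  obtain ⟨lam, hlam⟩ := exists_hom_of_irr_degree_one hχ h1
  have hinj : Function.Injective lam := by
    rw [injective_iff_map_eq_one]
    intro g hg
    apply hfaith
    rw [h1, hlam]
    simp only [hg, Units.val_one]
  haveI : IsCyclic Q := by
    apply isCyclic_of_injective_ringHom ((Units.coeHom ℂ).comp lam)
    intro x y hxy
    apply hinj
    exact Units.ext hxy
  obtain ⟨g, hg⟩ := IsCyclic.exists_generator (α := Q)
  have hord : orderOf g = p ^ a := by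
    rw [orderOf_eq_card_of_forall_mem_zpowers hg, hQ]
  rcases Nat.eq_zero_or_pos a with ha | ha
  · omega
  have haN : a ≤ N := by
    have : p ^ a ∣ p ^ N := by
      rw [← hord]
      exact orderOf_dvd_of_pow_eq_one (hexp g)
    exact (Nat.pow_dvd_pow_iff_le_right hp.out.one_lt).mp this
  have hstab : powStab (p ^ N) hexp χ =
      PConj.congrSubgroup (p ^ N) (p ^ a) (pow_dvd_pow p haN) := by
    ext k
    rw [mem_powStab, PConj.mem_congrSubgroup]
    constructor
    · intro h
      have h2 := congrFun h g
      rw [gsm_apply, hlam] at h2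
      have h3 : lam (g ^ (k : ZMod (p ^ N)).val) = lam g := Units.ext h2
      have h4 := hinj h3
      have h5 : g ^ (k : ZMod (p ^ N)).val = g ^ 1 := by rw [pow_one]; exact h4
      rw [pow_eq_pow_iff_modEq, hord] at h5
      exact h5
    · intro h
      funext x
      rw [gsm_apply]
      congr 1
      have h5 : x ^ (k : ZMod (p ^ N)).val = x ^ 1 := by
        rw [pow_eq_pow_iff_modEq]
        apply h.of_dvd
        rw [← hQ]
        exact orderOf_dvd_natCard x
      rw [h5, pow_one]
  rw [hstab, index_congrSubgroup p N a ha haN, mul_comm] at hidx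
  have hp1 : 0 < p - 1 := by have := hp.out.two_le; omega
  have h6 : p ^ (a - 1) ≤ p ^ t := Nat.le_of_mul_le_mul_left hidx hp1
  have h7 : a - 1 ≤ t := (Nat.pow_le_pow_iff_right hp.out.one_lt).mp h6
  omega

end Cfsg.Agent.Helper6.FieldBnd
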