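import Mathlib
import Cfsg.Prelude.Def_Characters
import Cfsg.Agent.Helper6.FieldBndA
import Cfsg.Agent.Helper6.MGroup
import Cfsg.Agent.Helper6.IndFun2
import Cfsg.Agent.Helper6.PCGroupA
import Cfsg.Agent.Helper1.PGroup

/-!
# Nonlinear irreducible characters of `p`-groups are induced from maximal subgroups
-/

set_option autoImplicit false
set_option linter.style.haveILetI false

namespace Cfsg.Agent.Helper6.FieldBnd

universe u

variable {G : Type u} [Group G]

/-- a character inducing an irreducible character is irreducible -/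
theorem irr_of_indFun_irr [Fintype G] (H : Subgroup G) (ψ : H → ℂ) (hψ : Cfsg.IsCharacter H ψ)
    (hind : Cfsg.IsIrrCharacter G (Cfsg.indFun H ψ)) : Cfsg.IsIrrCharacter H ψ := by
  classical
  haveI : Fintype H := Fintype.ofFinite H
  have hidx : (H.index : ℂ) ≠ 0 := by
    have : H.index ≠ 0 := Subgroup.index_ne_zero_of_finite
    exact_mod_cast this
  have hψ0 : ψ ≠ 0 := by
    intro h
    have h1 := IsIrrCharacter.apply_one_ne_zero hind
    rw [h, indFun_zero] at h1
    exact h1 rfl
  obtain ⟨ψ₁, hψ₁, hne⟩ := exists_irr_constituent hψ hψ0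
  have hΔ := sub_isCharacter_of_constituent hψ hψ₁ hne
  have hsum : Cfsg.indFun H ψ = Cfsg.indFun H ψ₁ + Cfsg.indFun H (ψ - ψ₁) := by
    rw [← indFun_add, add_sub_cancel]
  have hα := isCharacter_indFun H ψ₁ (IsIrrCharacter.isCharacter hψ₁)
  have hβ := isCharacter_indFun H (ψ - ψ₁) hΔ
  obtain ⟨a, ha⟩ := classInner_char_char_nat hα hα
  obtain ⟨b, hb⟩ := classInner_char_char_nat hβ hβ
  obtain ⟨c, hc⟩ := classInner_char_char_nat hα hβ
  have hc' : Cfsg.classInner (Cfsg.indFun H (ψ - ψ₁)) (Cfsg.indFun H ψ₁) = c := by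
    rw [classInner_conj_symm, hc, map_natCast]
  have h1 := classInner_irr_self hind
  rw [hsum, classInner_add_left, classInner_add_right, classInner_add_right, ha, hb, hc, hc'] at h1
  have h2 : a + c + (c + b) = 1 := by exact_mod_cast h1
  have ha0 : a ≠ 0 := by
    rintro rfl
    rw [Nat.cast_zero] at ha
    have := classInner_self_eq_zero ha
    have h3 := congrFun this 1
    rw [indFun_apply_one, Pi.zero_apply] at h3
    rcases mul_eq_zero.mp h3 with h3 | h3
    · exact hidx h3
    · exact IsIrrCharacter.apply_one_ne_zero hψ₁ h3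
  have hb0 : b = 0 := by omega
  rw [hb0, Nat.cast_zero] at hb
  have h4 := classInner_self_eq_zero hb
  have h5 := congrFun h4 1
  rw [indFun_apply_one, Pi.zero_apply] at h5
  have h5' : (ψ - ψ₁) 1 = 0 := by
    rcases mul_eq_zero.mp h5 with h5 | h5
    · exact absurd h5 hidx
    · exact h5
  have h6 := eq_zero_of_isCharacter_of_apply_one hΔ h5'
  rw [sub_eq_zero.mp h6]
  exact hψ₁

/-- a nonlinear irreducible character of a finite `p`-group is induced from a maximal subgroup -/
theorem exists_maximal_induced [Fintype G] (p : ℕ) [hp : Fact p.Prime] (hG : IsPGroup p G)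
    (χ : G → ℂ) (hχ : Cfsg.IsIrrCharacter G χ) (h1 : χ 1 ≠ 1) :
    ∃ (M : Subgroup G) (ψ : M → ℂ), M.Normal ∧ M.index = p ∧ Cfsg.IsIrrCharacter M ψ ∧
      χ = Cfsg.indFun M ψ := by
  classical
  haveI : Group.IsNilpotent G := hG.isNilpotent
  obtain ⟨H, lam, hlam⟩ := nilpotent_monomial χ hχ
  have hHtop : H ≠ ⊤ := by
    intro h
    apply h1
    have hi : H.index = 1 := by rw [h, Subgroup.index_top]
    rw [hlam, indFun_apply_one, hi]
    simp
  rcases IsCoatomic.eq_top_or_exists_le_coatom H with h | ⟨M, hM, hHM⟩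
  · exact absurd h hHtop
  have hMn : M.Normal := Cfsg.Agent.Helper1.IsPGroup.coatom_normal hG hM
  have hMi : M.index = p := Cfsg.Agent.Helper1.IsPGroup.coatom_index hG hM
  haveI : Fintype M := Fintype.ofFinite M
  set θ : H → ℂ := fun h => (lam h : ℂ) with hθ
  set ψ : M → ℂ := Cfsg.indFun (H.subgroupOf M)
    (fun x => θ ⟨(x : M), Subgroup.mem_subgroupOf.mp x.2⟩) with hψdef
  have htrans : Cfsg.indFun M ψ = Cfsg.indFun H θ := indFun_trans H M hHM θ
  have hθc : Cfsg.IsCharacter (H.subgroupOf M)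
      (fun x => θ ⟨(x : M), Subgroup.mem_subgroupOf.mp x.2⟩) := by
    have h2 : Cfsg.IsCharacter H θ := IsIrrCharacter.isCharacter (isIrrCharacter_of_hom lam)
    exact IsCharacter.comp_hom (Subgroup.subgroupOfEquivOfLe hHM).toMonoidHom h2
  have hψc : Cfsg.IsCharacter M ψ := isCharacter_indFun _ _ hθc
  refine ⟨M, ψ, hMn, hMi, ?_, ?_⟩
  · apply irr_of_indFun_irr M ψ hψc
    rw [htrans, ← hlam]
    exact hχ
  · rw [htrans, hlam]

end Cfsg.Agent.Helper6.FieldBnd
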