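import Mathlib
import Cfsg.Prelude.Def_Characters
import Cfsg.Agent.Helper6.FieldBndA
import Cfsg.Agent.Helper6.NormalInd2
import Cfsg.Agent.Helper6.CharBasic

/-!
# The inductive step: a character induced from a normal subgroup of prime index
-/

set_option autoImplicit false
set_option linter.style.haveILetI false

namespace Cfsg.Agent.Helper6.FieldBnd

universe u

variable {P : Type u} [Group P]

/-- conjugation by an element of the subgroup fixes class functions -/
theorem conjFun_of_mem (M : Subgroup P) [hM : M.Normal] (ψ : M → ℂ)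
    (hψ : Cfsg.IsClassFunction M ψ) (m : P) (hm : m ∈ M) : conjFun M ψ m = ψ := by
  funext h
  have h1 := hψ h ⟨m, hm⟩
  rw [← h1]
  rfl

/-- coset decomposition for a normal subgroup of prime index -/
theorem exists_decomp (M : Subgroup P) [hM : M.Normal] (p : ℕ) [hp : Fact p.Prime]
    (hidx : M.index = p) (x : P) (hx : x ∉ M) (y : P) :
    ∃ i < p, ∃ m ∈ M, y = m * x ^ i := by
  classical
  have hcard : Nat.card (P ⧸ M) = p := hidx
  haveI : Finite (P ⧸ M) := Nat.finite_of_card_ne_zero (by rw [hcard]; exact hp.out.ne_zero)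
  have hne : (QuotientGroup.mk x : P ⧸ M) ≠ 1 := by
    intro h
    exact hx ((QuotientGroup.eq_one_iff x).mp h)
  have hmem : (QuotientGroup.mk y : P ⧸ M) ∈ Subgroup.zpowers (QuotientGroup.mk x : P ⧸ M) :=
    mem_zpowers_of_prime_card hcard hne
  rw [mem_zpowers_iff_mem_range_orderOf] at hmem
  obtain ⟨i, hi, hiy⟩ := Finset.mem_image.mp hmem
  rw [Finset.mem_range] at hi
  have hord : orderOf (QuotientGroup.mk x : P ⧸ M) ≤ p := by
    rw [← hcard]
    exact orderOf_le_card
  refine ⟨i, lt_of_lt_of_le hi hord, y * (x ^ i)⁻¹, ?_, by group⟩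
  rw [← QuotientGroup.eq_one_iff, QuotientGroup.mk_mul, QuotientGroup.mk_inv, QuotientGroup.mk_pow]
  rw [hiy, mul_inv_cancel]

/-- iterating a twist that acts as a conjugation -/
theorem gsm_pow_eq_conjFun (M : Subgroup P) [hM : M.Normal] (n : ℕ) [NeZero n]
    (hexpM : ∀ g : M, g ^ n = 1) (ψ : M → ℂ) (k : (ZMod n)ˣ) (x : P)
    (h : gsm k ψ = conjFun M ψ x) (i : ℕ) : gsm (k ^ i) ψ = conjFun M ψ (x ^ i) := by
  induction i with
  | zero => rw [pow_zero, pow_zero, gsm_one n hexpM, conjFun_one]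
  | succ i ih =>
    rw [pow_succ', gsm_mul n hexpM, ih, gsm_conjFun, h, conjFun_mul, ← pow_succ']

/-- the kernel of a twist -/
theorem gsm_apply_eq_one_iff {Q : Type u} [Group Q] (n : ℕ) [NeZero n]
    (hexp : ∀ g : Q, g ^ n = 1) (φ : Q → ℂ) (K : Subgroup Q) (hK : ∀ g, g ∈ K ↔ φ g = φ 1)
    (k : (ZMod n)ˣ) (g : Q) : gsm k φ g = φ 1 ↔ g ∈ K := by
  rw [gsm_apply, ← hK]
  constructor
  · intro h
    have h1 := K.pow_mem h ((k⁻¹ : (ZMod n)ˣ) : ZMod n).val
    rwa [← pow_val_mul n hexp, mul_inv_cancel, pow_val_one n hexp] at h1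
  · intro h
    exact K.pow_mem h _

/-- an element all of whose conjugates lie in the kernel of `ψ` lies in the kernel of the
induced function -/
theorem indFun_apply_eq_of_conj [Fintype P] (M : Subgroup P) [hM : M.Normal] (ψ : M → ℂ)
    (h : M) (hall : ∀ y : P, conjFun M ψ y h = ψ 1) :
    Cfsg.indFun M ψ h = Cfsg.indFun M ψ 1 := by
  have h1 : ((1 : P)) = ((1 : M) : P) := rfl
  rw [h1, indFun_normal_apply, indFun_normal_apply]
  congr 1
  apply Finset.sum_congr rfl
  intro x _
  rw [hall]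
  change ψ 1 = ψ _
  congr 1
  apply Subtype.ext
  simp

section Step

variable [Fintype P] (p N a : ℕ) [hp : Fact p.Prime] (hN : 0 < N)
  (hexp : ∀ g : P, g ^ (p ^ N) = 1) (hP : Nat.card P = p ^ a)
  (M : Subgroup P) [hM : M.Normal] (hexpM : ∀ g : M, g ^ (p ^ N) = 1)
  (ψ : M → ℂ) (hψ : Cfsg.IsIrrCharacter M ψ)

omit hM in
include hN hP in
/-- the stabilizer of `ψ` stabilizes the induced character -/
theorem powStab_le_indFun :
    powStab (p ^ N) hexpM ψ ≤ powStab (p ^ N) hexp (Cfsg.indFun M ψ) := by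
  intro k hk
  rw [mem_powStab] at hk ⊢
  rw [gsm_indFun M k (by rw [hP]; exact val_coprime_pow p N a hp.out hN k), hk]

include hN hP hψ in
/-- a unit stabilizing the irreducible induced character twists `ψ` to a conjugate -/
theorem exists_conj_of_mem_powStab (hχ : Cfsg.IsIrrCharacter P (Cfsg.indFun M ψ))
    (k : (ZMod (p ^ N))ˣ) (hk : k ∈ powStab (p ^ N) hexp (Cfsg.indFun M ψ)) :
    ∃ x : P, gsm k ψ = conjFun M ψ x := by
  classical
  haveI : Fintype M := Fintype.ofFinite M
  by_contra hne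
  have hcardM : Nat.card M ∣ p ^ a := by
    rw [← hP]
    exact Subgroup.card_subgroup_dvd_card M
  obtain ⟨b, -, hb⟩ := (Nat.dvd_prime_pow hp.out).mp hcardM
  have hirr : Cfsg.IsIrrCharacter M (gsm k ψ) :=
    gsm_isIrr k (by rw [hb]; exact val_coprime_pow p N b hp.out hN k) hψ
  have h0 := classInner_indFun_of_not_conj M ψ (gsm k ψ) hψ hirr hne
  rw [mem_powStab] at hk
  rw [← gsm_indFun M k (by rw [hP]; exact val_coprime_pow p N a hp.out hN k), hk,
    classInner_irr_self hχ] at h0
  exact one_ne_zero h0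

end Step

end Cfsg.Agent.Helper6.FieldBnd
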