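import Mathlib
import Cfsg.Prelude.Def_Characters
import Cfsg.Agent.Helper6.FieldBndD
import Cfsg.Agent.Helper6.Codegree

/-!
# The two cases of the inductive step
-/

set_option autoImplicit false
set_option linter.style.haveILetI false

namespace Cfsg.Agent.Helper6.FieldBnd

universe u

variable {P : Type u} [Group P] [Fintype P] (p N a : ℕ) [hp : Fact p.Prime] (hN : 0 < N)
  (hexp : ∀ g : P, g ^ (p ^ N) = 1) (hP : Nat.card P = p ^ a)
  (M : Subgroup P) [hM : M.Normal] (hexpM : ∀ g : M, g ^ (p ^ N) = 1)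
  (ψ : M → ℂ) (hψ : Cfsg.IsIrrCharacter M ψ)

include hN hP hψ in
/-- the case in which some unit stabilizes the induced character but not `ψ` -/
theorem case_two (hχ : Cfsg.IsIrrCharacter P (Cfsg.indFun M ψ)) (hidx : M.index = p)
    (hfaith : ∀ g : P, Cfsg.indFun M ψ g = Cfsg.indFun M ψ 1 → g = 1)
    (k : (ZMod (p ^ N))ˣ) (hk : k ∈ powStab (p ^ N) hexp (Cfsg.indFun M ψ))
    (hkB : k ∉ powStab (p ^ N) hexpM ψ) :
    (∀ g : M, ψ g = ψ 1 → g = 1) ∧
      (powStab (p ^ N) hexpM ψ).index ≤ p * (powStab (p ^ N) hexp (Cfsg.indFun M ψ)).index := by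
  classical
  obtain ⟨x, hx⟩ := exists_conj_of_mem_powStab p N a hN hexp hP M ψ hψ hχ k hk
  have hψcf : Cfsg.IsClassFunction M ψ :=
    IsCharacter.isClassFunction (IsIrrCharacter.isCharacter hψ)
  have hxM : x ∉ M := by
    intro hxM
    apply hkB
    rw [mem_powStab, hx, conjFun_of_mem M ψ hψcf x hxM]
  have hpow := gsm_pow_eq_conjFun M (p ^ N) hexpM ψ k x hx
  have hall : ∀ y : P, ∃ i < p, conjFun M ψ y = gsm (k ^ i) ψ := by
    intro y
    obtain ⟨i, hi, m, hm, rfl⟩ := exists_decomp M p hidx x hxM y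
    refine ⟨i, hi, ?_⟩
    rw [← conjFun_mul, conjFun_of_mem M ψ hψcf m hm, hpow]
  set A := powStab (p ^ N) hexp (Cfsg.indFun M ψ) with hA
  set B := powStab (p ^ N) hexpM ψ with hB
  have hBA : B ≤ A := powStab_le_indFun p N a hN hexp hP M hexpM ψ
  constructor
  · obtain ⟨K, -, hK, -, -, -⟩ := exists_kernel_data hψ
    intro g hg
    have hgK : g ∈ K := (hK g).mpr hg
    apply Subtype.ext
    apply hfaith
    apply indFun_apply_eq_of_conj
    intro y
    obtain ⟨i, -, hi⟩ := hall y
    rw [hi, gsm_apply_eq_one_iff (p ^ N) hexpM ψ K hK]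
    exact hgK
  · rw [← Subgroup.relIndex_mul_index hBA]
    apply Nat.mul_le_mul_right
    -- the relative index is at most `p`
    unfold Subgroup.relIndex
    rw [Subgroup.index_eq_card]
    let f : Fin p → (↥A ⧸ B.subgroupOf A) := fun i => QuotientGroup.mk ((⟨k, hk⟩ : A) ^ (i : ℕ))
    have hf : Function.Surjective f := by
      intro q
      induction q using QuotientGroup.induction_on with
      | H l =>
        obtain ⟨y, hy⟩ := exists_conj_of_mem_powStab p N a hN hexp hP M ψ hψ hχ l.1 l.2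
        obtain ⟨i, hi, hi2⟩ := hall y
        refine ⟨⟨i, hi⟩, ?_⟩
        change (QuotientGroup.mk ((⟨k, hk⟩ : A) ^ i) : ↥A ⧸ B.subgroupOf A) = QuotientGroup.mk l
        rw [QuotientGroup.eq, Subgroup.mem_subgroupOf]
        change (k ^ i)⁻¹ * (l : (ZMod (p ^ N))ˣ) ∈ B
        rw [hB, ← gsm_eq_iff, ← hi2, hy]
    have := Nat.card_le_card_of_surjective f hf
    rwa [Nat.card_fin] at this

include hψ in
/-- the order of `M` is bounded in terms of the index of the kernel of `ψ` -/
theorem case_one (hidx : M.index = p)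
    (hfaith : ∀ g : P, Cfsg.indFun M ψ g = Cfsg.indFun M ψ 1 → g = 1)
    (K : Subgroup M) (hK : ∀ g, g ∈ K ↔ ψ g = ψ 1) : Nat.card M ≤ K.index ^ p := by
  classical
  have hψcf : Cfsg.IsClassFunction M ψ :=
    IsCharacter.isClassFunction (IsIrrCharacter.isCharacter hψ)
  have hMtop : M ≠ ⊤ := by
    intro h
    rw [h, Subgroup.index_top] at hidx
    exact hp.out.one_lt.ne hidx
  obtain ⟨x, hxM⟩ : ∃ x : P, x ∉ M := by
    by_contra hall
    push Not at hall
    exact hMtop ((Subgroup.eq_top_iff' M).mpr hall)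
  let f : Fin p → Subgroup M := fun i =>
    K.comap ((MulAut.conjNormal (x ^ (i : ℕ)) : M ≃* M) : M →* M)
  have hbot : ⨅ i, f i = ⊥ := by
    rw [eq_bot_iff]
    intro h hh
    rw [Subgroup.mem_iInf] at hh
    rw [Subgroup.mem_bot]
    apply Subtype.ext
    apply hfaith
    apply indFun_apply_eq_of_conj
    intro y
    obtain ⟨i, hi, m, hm, rfl⟩ := exists_decomp M p hidx x hxM y
    rw [← conjFun_mul, conjFun_of_mem M ψ hψcf m hm]
    have h1 := hh ⟨i, hi⟩
    change (MulAut.conjNormal (x ^ i) : M ≃* M) h ∈ K at h1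
    rw [hK] at h1
    exact h1
  have hidxf : ∀ i, (f i).index = K.index := by
    intro i
    exact Subgroup.index_comap_of_surjective K
      (MulAut.conjNormal (x ^ (i : ℕ)) : M ≃* M).surjective
  have h1 := Subgroup.index_iInf_le f
  rw [hbot, Subgroup.index_bot] at h1
  simp only [hidxf, Finset.prod_const, Finset.card_univ, Fintype.card_fin] at h1
  exact h1

end Cfsg.Agent.Helper6.FieldBnd
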