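import Mathlib
import Cfsg.Prelude.Def_Characters
import Cfsg.Agent.Helper6.FieldBndB
import Cfsg.Agent.Helper6.FieldBndC
import Cfsg.Agent.Helper6.FieldBndE
import Cfsg.Agent.Helper6.Inflation
import Cfsg.Agent.Helper6.FongReynolds3
import Cfsg.Agent.Helper6.BlockPart

/-!
# The main induction
-/

set_option autoImplicit false
set_option linter.style.haveILetI false

namespace Cfsg.Agent.Helper6.FieldBnd

universe u

theorem arith_one (q g t a a' : ℕ) (h1 : a ≤ 1 + a' * (q + 1))
    (h2 : q * a' ≤ g + q * (t + 1) * (g + 1)) :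
    q * a ≤ (q * g + q + g) + q * (t + 1) * ((q + 1) * (g + 1)) := by
  calc q * a ≤ q * (1 + a' * (q + 1)) := Nat.mul_le_mul_left _ h1
    _ = q + (q + 1) * (q * a') := by ring
    _ ≤ q + (q + 1) * (g + q * (t + 1) * (g + 1)) :=
        Nat.add_le_add_left (Nat.mul_le_mul_left _ h2) _
    _ = (q * g + q + g) + q * (t + 1) * ((q + 1) * (g + 1)) := by ring

theorem arith_two (q g t a a' : ℕ) (hq : 0 < q) (h1 : a = 1 + a')
    (h2 : q * a' ≤ g + q * (t + 1 + 1) * (g + 1)) :
    q * a ≤ (q * g + q + g) + q * (t + 1) * ((q + 1) * (g + 1)) := by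
  subst h1
  have h3 : q ≤ q * q * (t + 1) * (g + 1) := by
    calc q = q * 1 * 1 * 1 := by ring
      _ ≤ q * q * (t + 1) * (g + 1) := by
        apply Nat.mul_le_mul _ (by omega)
        apply Nat.mul_le_mul _ (by omega)
        exact Nat.mul_le_mul_left _ hq
  calc q * (1 + a') = q + q * a' := by ring
    _ ≤ q + (g + q * (t + 1 + 1) * (g + 1)) := Nat.add_le_add_left h2 _
    _ = q * g + q + g + q * (t + 1) * (g + 1) + q := by ring
    _ ≤ q * g + q + g + q * (t + 1) * (g + 1) + q * q * (t + 1) * (g + 1) :=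
        Nat.add_le_add_left h3 _
    _ = (q * g + q + g) + q * (t + 1) * ((q + 1) * (g + 1)) := by ring

theorem main_induction (p N : ℕ) [hp : Fact p.Prime] (hN : 0 < N) :
    ∀ (a : ℕ) (P : Type u) [Group P] [Finite P] (hexp : ∀ g : P, g ^ (p ^ N) = 1),
      Nat.card P = p ^ a → ∀ χ : P → ℂ, Cfsg.IsIrrCharacter P χ → (∀ g : P, χ g = χ 1 → g = 1) →
      ∀ t : ℕ, (powStab (p ^ N) hexp χ).index ≤ (p - 1) * p ^ t →
      (p - 1) * a ≤ (Cfsg.charDegree χ - 1) + (p - 1) * (t + 1) * Cfsg.charDegree χ := by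
  intro a
  induction a using Nat.strong_induction_on with
  | _ a ih =>
  intro P _ _ hexp hP χ hχ hfaith t hidx
  classical
  haveI : Fintype P := Fintype.ofFinite P
  have hχc := IsIrrCharacter.isCharacter hχ
  have hdeg : (Cfsg.charDegree χ : ℂ) = χ 1 := charDegree_cast_of_isCharacter hχc
  by_cases h1 : χ 1 = 1
  · have ha := base_case p N a hexp hP χ hχ hfaith h1 t hidx
    have hd : Cfsg.charDegree χ = 1 := by rw [h1] at hdeg; exact_mod_cast hdeg
    rw [hd, Nat.sub_self, zero_add, mul_one]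
    exact Nat.mul_le_mul_left _ ha
  · have hG : IsPGroup p P := IsPGroup.of_card hP
    obtain ⟨M, ψ, hMn, hMi, hψ, rfl⟩ := exists_maximal_induced p hG χ hχ h1
    haveI := hMn
    haveI : Fintype M := Fintype.ofFinite M
    have hexpM : ∀ g : M, g ^ (p ^ N) = 1 := by
      intro g
      apply Subtype.ext
      rw [Subgroup.coe_pow, hexp, Subgroup.coe_one]
    have hψc := IsIrrCharacter.isCharacter hψ
    have hdegχ : Cfsg.charDegree (Cfsg.indFun M ψ) = p * Cfsg.charDegree ψ := by
      rw [charDegree_indFun M ψ hψc, hMi]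
    have hapos : 0 < a := by
      rcases Nat.eq_zero_or_pos a with h | h
      · exfalso
        have h2 : M.index ∣ Nat.card P := Subgroup.index_dvd_card M
        rw [hP, h, pow_zero, hMi, Nat.dvd_one] at h2
        exact hp.out.one_lt.ne' h2
      · exact h
    have hcardM : Nat.card M = p ^ (a - 1) := by
      have h2 := Subgroup.card_mul_index M
      rw [hMi, hP] at h2
      have h3 : p ^ a = p ^ (a - 1) * p := by
        rw [← pow_succ]
        congr 1
        omega
      rw [h3] at h2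
      exact Nat.eq_of_mul_eq_mul_right hp.out.pos h2
    obtain ⟨Kψ, hKn, hK, hdpos, -, -⟩ := exists_kernel_data hψ
    obtain ⟨g, hg⟩ : ∃ g, Cfsg.charDegree ψ = g + 1 := ⟨Cfsg.charDegree ψ - 1, by omega⟩
    obtain ⟨q, hq⟩ : ∃ q, p = q + 1 := ⟨p - 1, by have := hp.out.pos; omega⟩
    have hqpos : 0 < q := by have := hp.out.one_lt; omega
    have hgoal : (p - 1) * a ≤ (q * g + q + g) + q * (t + 1) * ((q + 1) * (g + 1)) →
        (p - 1) * a ≤ Cfsg.charDegree (Cfsg.indFun M ψ) - 1 +
          (p - 1) * (t + 1) * Cfsg.charDegree (Cfsg.indFun M ψ) := by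
      intro h
      rw [hdegχ, hg]
      have e1 : p * (g + 1) - 1 = q * g + q + g := by
        rw [hq]
        apply Nat.sub_eq_of_eq_add
        ring
      have e2 : p - 1 = q := by omega
      rw [e1]
      rw [e2] at h ⊢
      rw [hq]
      exact h
    apply hgoal
    have e2 : p - 1 = q := by omega
    rw [e2]
    by_cases hAB : powStab (p ^ N) hexp (Cfsg.indFun M ψ) ≤ powStab (p ^ N) hexpM ψ
    · -- case one: the stabilizers coincide
      haveI := hKn
      have hc1 := case_one p M ψ hψ hMi hfaith Kψ hK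
      have hKdvd : Kψ.index ∣ p ^ (a - 1) := by
        rw [← hcardM]
        exact Subgroup.index_dvd_card Kψ
      obtain ⟨a', ha', hKa'⟩ := (Nat.dvd_prime_pow hp.out).mp hKdvd
      rw [hcardM, hKa', ← pow_mul] at hc1
      have h3 : a - 1 ≤ a' * p := (Nat.pow_le_pow_iff_right hp.out.one_lt).mp hc1
      obtain ⟨ψ', hψ'⟩ := exists_deflate Kψ ⟨ψ, hψ⟩ (fun n hn => (hK n).mp hn)
      change ψ = (ψ' : M ⧸ Kψ → ℂ) ∘ QuotientGroup.mk at hψ'
      have hexpQ : ∀ x : M ⧸ Kψ, x ^ (p ^ N) = 1 := by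
        intro x
        induction x using QuotientGroup.induction_on with
        | H x => rw [← QuotientGroup.mk_pow, hexpM, QuotientGroup.mk_one]
      have hstab : powStab (p ^ N) hexpQ (ψ' : M ⧸ Kψ → ℂ) = powStab (p ^ N) hexpM ψ := by
        rw [hψ']
        exact (powStab_comp_surjective (p ^ N) hexpM hexpQ (QuotientGroup.mk' Kψ)
          (QuotientGroup.mk'_surjective Kψ) _).symm
      have hfaith' : ∀ x : M ⧸ Kψ, (ψ' : M ⧸ Kψ → ℂ) x = (ψ' : M ⧸ Kψ → ℂ) 1 → x = 1 := by
        intro x hx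
        induction x using QuotientGroup.induction_on with
        | H x =>
          rw [QuotientGroup.eq_one_iff, hK, hψ']
          exact hx
      have hdeg' : Cfsg.charDegree (ψ' : M ⧸ Kψ → ℂ) = Cfsg.charDegree ψ := by
        unfold Cfsg.charDegree
        rw [hψ']
        rfl
      have hcardQ : Nat.card (M ⧸ Kψ) = p ^ a' := hKa'
      have hIH := ih a' (by omega) (M ⧸ Kψ) hexpQ hcardQ (ψ' : M ⧸ Kψ → ℂ) ψ'.2 hfaith' t (by
        rw [hstab]
        have hBA := powStab_le_indFun p N a hN hexp hP M hexpM ψ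
        rw [le_antisymm hBA hAB]
        exact hidx)
      rw [hdeg', hg, e2, Nat.add_sub_cancel] at hIH
      apply arith_one q g t a a' _ hIH
      rw [← hq]
      omega
    · -- case two
      obtain ⟨k, hkA, hkB⟩ := SetLike.not_le_iff_exists.mp hAB
      obtain ⟨hfaithM, hidx2⟩ :=
        case_two p N a hN hexp hP M hexpM ψ hψ hχ hMi hfaith k hkA hkB
      have hIH := ih (a - 1) (by omega) M hexpM hcardM ψ hψ hfaithM (t + 1) (by
        calc (powStab (p ^ N) hexpM ψ).index
            ≤ p * (powStab (p ^ N) hexp (Cfsg.indFun M ψ)).index := hidx2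
          _ ≤ p * ((p - 1) * p ^ t) := Nat.mul_le_mul_left _ hidx
          _ = (p - 1) * p ^ (t + 1) := by ring)
      rw [hg, e2, Nat.add_sub_cancel] at hIH
      exact arith_two q g t a (a - 1) hqpos (by omega) hIH

end Cfsg.Agent.Helper6.FieldBnd
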