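import Mathlib
import Cfsg.Prelude.Def_Characters
import Cfsg.Agent.Helper6.FieldBndA
import Cfsg.Agent.Helper6.GaloisChar
import Cfsg.Agent.Helper6.RepEigen

/-!
# The index of the power-map stabilizer is at most the degree of the field of values
-/

set_option autoImplicit false
set_option linter.style.haveILetI false

namespace Cfsg.Agent.Helper6.FieldBnd

open Module

universe u v

/-- automorphisms of a cyclotomic field acting as prescribed power maps on roots of unity -/
theorem exists_aut_pow (n : ℕ) [NeZero n] (K : IntermediateField ℚ ℂ)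
    [IsCyclotomicExtension {n} ℚ K] (k : (ZMod n)ˣ) :
    ∃ σ : K ≃ₐ[ℚ] K, ∀ ω : K, ω ^ n = 1 → σ ω = ω ^ (k : ZMod n).val := by
  have h := Polynomial.cyclotomic.irreducible_rat (NeZero.pos n)
  set σ := (IsCyclotomicExtension.autEquivPow K h).symm k with hσ
  have hz := IsCyclotomicExtension.zeta_spec n ℚ K
  have h1 : IsCyclotomicExtension.autEquivPow K h σ = k := MulEquiv.apply_symm_apply _ _
  have h2 := IsPrimitiveRoot.autToPow_spec ℚ hz σ
  have h3 : hz.autToPow ℚ σ = k := h1
  rw [h3] at h2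
  refine ⟨σ, fun ω hω => ?_⟩
  obtain ⟨i, -, rfl⟩ := hz.eq_pow_of_pow_eq_one hω
  rw [map_pow, ← h2, ← pow_mul, ← pow_mul, mul_comm]

/-- the cyclotomic subfield of `ℂ` -/
theorem isCyclotomicExtension_adjoin (n : ℕ) [NeZero n] {ζ : ℂ} (hζ : IsPrimitiveRoot ζ n) :
    IsCyclotomicExtension {n} ℚ (IntermediateField.adjoin ℚ {ζ}) := by
  have halg : IsAlgebraic ℚ ζ := by
    apply IsIntegral.isAlgebraic
    apply IsIntegral.of_pow (NeZero.pos n)
    rw [hζ.pow_eq_one]
    exact isIntegral_one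
  change IsCyclotomicExtension {n} ℚ (IntermediateField.adjoin ℚ {ζ}).toSubalgebra
  rw [IntermediateField.adjoin_simple_toSubalgebra_of_isAlgebraic halg]
  exact hζ.adjoin_isCyclotomicExtension ℚ

variable {G : Type u} [Group G] [Finite G] {V : Type v} [AddCommGroup V] [Module ℂ V]
  [FiniteDimensional ℂ V]

/-- character values as sums of roots of unity in a subfield containing them -/
theorem exists_sum_roots (ρ : Representation ℂ G V) (g : G) (n : ℕ) (hn : g ^ n = 1)
    (K : IntermediateField ℚ ℂ) (hK : ∀ μ : ℂ, μ ^ n = 1 → μ ∈ K) :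
    ∃ (ι : Type) (_ : Fintype ι) (ω : ι → K), (∀ i, ω i ^ n = 1) ∧
      ∀ j : ℕ, ρ.character (g ^ j) = ∑ i, ((ω i : K) : ℂ) ^ j := by
  classical
  obtain ⟨ι, hι, b, μ, h1, h2, -⟩ := exists_eigenbasis_rep ρ g
  have hμ : ∀ i, μ i ^ n = 1 := by
    intro i
    obtain ⟨c, hc⟩ := orderOf_dvd_of_pow_eq_one hn
    rw [hc, pow_mul, h2 i, one_pow]
  refine ⟨ι, hι, fun i => ⟨μ i, hK _ (hμ i)⟩, ?_, ?_⟩
  · intro i
    apply Subtype.ext
    simp only [SubmonoidClass.mk_pow, hμ i]
    rfl
  · intro j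
    exact char_pow_eq_sum ρ g b μ h1 j

/-- **the bridge**: the number of Galois conjugates of a character is at most the degree of its
field of values -/
theorem index_powStab_le_finrank (n : ℕ) [NeZero n] (hexp : ∀ g : G, g ^ n = 1) (χ : G → ℂ)
    (hχ : Cfsg.IsCharacter G χ)
    [FiniteDimensional ℚ (IntermediateField.adjoin ℚ (Set.range χ))] :
    (powStab n hexp χ).index ≤ finrank ℚ (IntermediateField.adjoin ℚ (Set.range χ)) := by
  classical
  obtain ⟨d, ρ, rfl⟩ := hχ
  have hn0 : n ≠ 0 := NeZero.ne n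
  have hζ : IsPrimitiveRoot (Complex.exp (2 * Real.pi * Complex.I / n)) n :=
    Complex.isPrimitiveRoot_exp n hn0
  set ζ := Complex.exp (2 * Real.pi * Complex.I / n) with hζdef
  set K : IntermediateField ℚ ℂ := IntermediateField.adjoin ℚ {ζ} with hKdef
  haveI : IsCyclotomicExtension {n} ℚ K := isCyclotomicExtension_adjoin n hζ
  have hζK : ζ ∈ K := IntermediateField.subset_adjoin ℚ {ζ} rfl
  have hK : ∀ μ : ℂ, μ ^ n = 1 → μ ∈ K := by
    intro μ hμ
    obtain ⟨i, -, rfl⟩ := hζ.eq_pow_of_pow_eq_one hμ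
    exact K.pow_mem hζK i
  set E : IntermediateField ℚ ℂ := IntermediateField.adjoin ℚ (Set.range ρ.character) with hE
  have hEK : E ≤ K := by
    rw [hE, IntermediateField.adjoin_le_iff]
    rintro _ ⟨g, rfl⟩
    obtain ⟨ι, hι, ω, -, hω⟩ := exists_sum_roots ρ g n (hexp g) K hK
    have h1 := hω 1
    rw [pow_one] at h1
    rw [h1]
    apply K.sum_mem
    intro i _
    rw [pow_one]
    exact (ω i).2
  have hmemE : ∀ g, ρ.character g ∈ E := fun g =>
    IntermediateField.subset_adjoin ℚ _ ⟨g, rfl⟩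
  -- the embeddings
  have hτ : ∀ k : (ZMod n)ˣ, ∃ τ : E →+* ℂ, ∀ g : G,
      τ ⟨ρ.character g, hmemE g⟩ = ρ.character (g ^ (k : ZMod n).val) := by
    intro k
    obtain ⟨σ, hσ⟩ := exists_aut_pow n K k
    refine ⟨(algebraMap K ℂ).comp (((σ : K ≃+* K) : K →+* K).comp
      (IntermediateField.inclusion hEK : E →+* K)), ?_⟩
    intro g
    obtain ⟨ι, hι, ω, hω1, hω⟩ := exists_sum_roots ρ g n (hexp g) K hK
    have h1 : IntermediateField.inclusion hEK ⟨ρ.character g, hmemE g⟩ = ∑ i, ω i := by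
      apply Subtype.ext
      have h2 := hω 1
      simp only [pow_one] at h2
      rw [IntermediateField.coe_sum]
      exact h2
    rw [RingHom.comp_apply, RingHom.comp_apply]
    change ((σ (IntermediateField.inclusion hEK ⟨ρ.character g, hmemE g⟩) : K) : ℂ) = _
    rw [h1, hω]
    rw [map_sum, IntermediateField.coe_sum]
    apply Finset.sum_congr rfl
    intro i _
    rw [hσ (ω i) (hω1 i)]
    rfl
  choose τ hτ using hτ
  let F : ((ZMod n)ˣ ⧸ powStab n hexp ρ.character) → (E →ₐ[ℚ] ℂ) :=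
    fun q => (τ q.out).toRatAlgHom
  have hF : Function.Injective F := by
    intro q q' hqq
    have h1 : gsm q.out ρ.character = gsm q'.out ρ.character := by
      funext g
      rw [gsm_apply, gsm_apply, ← hτ, ← hτ, ← RingHom.toRatAlgHom_apply,
        ← RingHom.toRatAlgHom_apply (τ q'.out)]
      exact congrFun (congrArg DFunLike.coe hqq) _
    rw [gsm_eq_iff n hexp, ← QuotientGroup.eq, QuotientGroup.out_eq', QuotientGroup.out_eq'] at h1
    exact h1
  have h2 := Nat.card_le_card_of_injective F hF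
  rw [Subgroup.index_eq_card]
  refine h2.trans (le_of_eq ?_)
  rw [Nat.card_eq_fintype_card]
  exact AlgHom.card ℚ E ℂ

end Cfsg.Agent.Helper6.FieldBnd
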