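import Mathlib
import Cfsg.Agent.Helper1.BGVd
import Cfsg.Agent.Helper1.NilpCoprime
import Cfsg.Agent.Helper1.SylowInt
import Cfsg.Agent.Helper2.Signalizer1

set_option autoImplicit false

/-!
Maximal local subgroups `H` whose Fitting subgroup `F` has at least two prime divisors: for a
self-centralizing subgroup `M ≤ F` and a solvable subgroup `R` normalized by `M` and `C_H(F)`, every
`M`-invariant `π(F)'`-subgroup of `R` lies in `O_{π(F)'}(R)` and `M` acts on it without fixed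
points (Gorenstein, *Finite Groups*, Lemma 8.6.1).  Part A: the local facts.
-/

namespace Cfsg.Agent.Helper6.FitInv

open Cfsg Cfsg.Agent.Helper1 Cfsg.Agent.Helper2 Cfsg.Agent.Helper1.BGT Cfsg.Agent.Helper1.BGU
open Cfsg.Agent.Helper1.BGV
open scoped Pointwise commutatorElement

universe u

variable {G : Type u} [Group G]

/-- The standing hypotheses: `H` is a maximal local subgroup and `M ≤ F(H)` contains its centralizer
in `F(H)`. -/
structure Ctx (H M : Subgroup G) : Prop where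
  loc : Cfsg.IsLocalSubgroup H
  max : ∀ L : Subgroup G, Cfsg.IsLocalSubgroup L → H ≤ L → L = H
  le : M ≤ Cfsg.fittingOf H
  cent : Cfsg.fittingOf H ⊓ Subgroup.centralizer (M : Set G) ≤ M

variable {H M : Subgroup G}

theorem Ctx.leH (h : Ctx H M) : M ≤ H := h.le.trans (fittingOf_le H)

/-- the normalizer of a nontrivial `r`-subgroup normalized by `H` is `H` -/
theorem Ctx.normalizer_eq (h : Ctx H M) {r : ℕ} (hr : r.Prime) {Z : Subgroup G}
    (hZ : IsPGroup r ↥Z) (hne : Z ≠ ⊥) (hHZ : H ≤ Subgroup.normalizer (Z : Set G)) :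
    Subgroup.normalizer (Z : Set G) = H :=
  h.max _ ⟨r, Z, hr, hZ, hne, rfl⟩ hHZ

variable [Finite G]

theorem Ctx.center_le (h : Ctx H M) {r : ℕ} (hr : r.Prime) :
    pcoreOf r H ⊓ Subgroup.centralizer ((pcoreOf r H : Subgroup G) : Set G) ≤ M ⊓ pcoreOf r H := by
  intro x hx
  haveI := Fact.mk hr
  refine ⟨h.cent ⟨pCoreOf_le_fittingOf r H hx.1, ?_⟩, hx.1⟩
  apply centralizer_le_of_le h.le
  apply mem_centralizer_fittingOf
  intro t ht y hy
  haveI := Fact.mk ht
  by_cases htr : t = r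
  · subst htr
    exact (Subgroup.mem_centralizer_iff.mp hx.2 y hy).symm
  · exact commute_pCoreOf (Ne.symm htr) H hx.1 hy

theorem Ctx.inf_ne_bot (h : Ctx H M) {r : ℕ} [hr : Fact r.Prime] (hne : pcoreOf r H ≠ ⊥) :
    M ⊓ pcoreOf r H ≠ ⊥ := by
  intro hb
  apply center_inf_ne_bot (pCoreOf_isPGroup r H) hne
  rw [eq_bot_iff, ← hb]
  exact h.center_le hr.out

theorem Ctx.dvd_card (h : Ctx H M) {r : ℕ} [hr : Fact r.Prime] (hne : pcoreOf r H ≠ ⊥) :
    r ∣ Nat.card M :=
  (dvd_card_of_isPGroup_ne_bot ((pCoreOf_isPGroup r H).to_le inf_le_right)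
    (h.inf_ne_bot hne)).trans (Subgroup.card_dvd_of_le inf_le_left)

theorem Ctx.dvd_card_of_dvd_fitting (h : Ctx H M) {r : ℕ} (hr : r.Prime)
    (hd : r ∣ Nat.card (Cfsg.fittingOf H)) : r ∣ Nat.card M := by
  haveI := Fact.mk hr
  exact h.dvd_card (pCoreOf_ne_bot_of_dvd hd)

/-- a number coprime to `|F(H)|` is coprime to `|M|` and conversely -/
theorem Ctx.coprime_card_iff (h : Ctx H M) (n : ℕ) :
    n.Coprime (Nat.card (Cfsg.fittingOf H)) ↔ n.Coprime (Nat.card M) := by
  constructor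
  · intro hc
    exact Nat.Coprime.coprime_dvd_right (Subgroup.card_dvd_of_le h.le) hc
  · intro hc
    by_contra hn
    obtain ⟨p, hp, h1, h2⟩ := Nat.Prime.not_coprime_iff_dvd.mp hn
    exact (Nat.Prime.not_coprime_iff_dvd.mpr ⟨p, hp, h1, h.dvd_card_of_dvd_fitting hp h2⟩) hc

/-- `C_G(M_r) ≤ H`. -/
theorem Ctx.centralizer_le (h : Ctx H M) {r : ℕ} [hr : Fact r.Prime] (hne : pcoreOf r H ≠ ⊥) :
    Subgroup.centralizer ((M ⊓ pcoreOf r H : Subgroup G) : Set G) ≤ H := by
  obtain ⟨Z, hZ⟩ : ∃ Z : Subgroup G,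
      Z = pcoreOf r H ⊓ Subgroup.centralizer ((pcoreOf r H : Subgroup G) : Set G) := ⟨_, rfl⟩
  have hHZ : H ≤ Subgroup.normalizer (Z : Set G) := by
    rw [hZ]
    exact le_normalizer_inf (le_normalizer_pCoreOf r H)
      ((le_normalizer_pCoreOf r H).trans (normalizer_le_normalizer_centralizer_aux _))
  have hZ1 : Z ≠ ⊥ := hZ ▸ center_inf_ne_bot (pCoreOf_isPGroup r H) hne
  have hZr : IsPGroup r ↥Z := hZ ▸ (pCoreOf_isPGroup r H).to_le inf_le_left
  have hN := h.normalizer_eq hr.out hZr hZ1 hHZ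
  have hZA : Z ≤ M ⊓ pcoreOf r H := hZ ▸ h.center_le hr.out
  exact ((Subgroup.centralizer_le (SetLike.coe_subset_coe.mpr hZA)).trans
    (Subgroup.centralizer_le_normalizer _)).trans (le_of_eq hN)

/-- `C_{O_r(H)}(M_r) ≤ M`. -/
theorem Ctx.cent_r (h : Ctx H M) {r : ℕ} (hr : r.Prime) :
    pcoreOf r H ⊓ Subgroup.centralizer ((M ⊓ pcoreOf r H : Subgroup G) : Set G) ≤ M := by
  intro x hx
  haveI := Fact.mk hr
  refine h.cent ⟨pCoreOf_le_fittingOf r H hx.1, ?_⟩
  show x ∈ Subgroup.centralizer (M : Set G)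
  rw [Subgroup.mem_centralizer_iff]
  intro c hc
  have hcx : c ∈ Subgroup.centralizer ({x} : Set G) := by
    apply mem_of_forall_primePow_mem
    intro y hy hyp
    have hyM : y ∈ M := (Subgroup.zpowers_le.mpr hc) hy
    rw [isPrimePow_nat_iff] at hyp
    obtain ⟨t, k, ht, hk, htk⟩ := hyp
    haveI := Fact.mk ht
    have hZy : IsPGroup t (Subgroup.zpowers y) := by
      rw [IsPGroup.iff_card]
      exact ⟨k, by rw [Nat.card_zpowers, htk]⟩
    have hyt : y ∈ pcoreOf t H :=
      le_pCoreOf_of_le_fittingOf hZy (Subgroup.zpowers_le.mpr (h.le hyM)) (Subgroup.mem_zpowers y)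
    rw [Subgroup.mem_centralizer_iff]
    intro z hz
    rw [Set.mem_singleton_iff] at hz
    subst hz
    by_cases htr : t = r
    · subst htr
      exact (Subgroup.mem_centralizer_iff.mp hx.2 y ⟨hyM, hyt⟩).symm
    · exact commute_pCoreOf (Ne.symm htr) H hx.1 hyt
  exact (Subgroup.mem_centralizer_iff.mp hcx x rfl).symm

/-- `M`-invariant subgroups of `H` of order coprime to `|M|` centralize `F(H)`. -/
theorem Ctx.le_centralizer_fitting (h : Ctx H M) {Y : Subgroup G} (hYH : Y ≤ H)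
    (hcop : (Nat.card Y).Coprime (Nat.card M)) (hMY : M ≤ Subgroup.normalizer (Y : Set G)) :
    Y ≤ Subgroup.centralizer ((Cfsg.fittingOf H : Subgroup G) : Set G) := by
  intro y hy
  apply mem_centralizer_fittingOf
  intro r hr x hx
  haveI := Fact.mk hr
  by_cases hne : pcoreOf r H = ⊥
  · rw [hne, Subgroup.mem_bot] at hx
    rw [hx, mul_one, one_mul]
  have hrA : r ∣ Nat.card M := h.dvd_card hne
  have hYr : (Nat.card Y).Coprime r := Nat.Coprime.coprime_dvd_right hrA hcop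
  have hyo : (orderOf y).Coprime r :=
    Nat.Coprime.coprime_dvd_left (Subgroup.orderOf_dvd_natCard Y hy) hYr
  have hYP : Y ⊓ pcoreOf r H = ⊥ := by
    apply (Subgroup.disjoint_of_coprime_natCard _).eq_bot
    obtain ⟨k, hk⟩ := IsPGroup.iff_card.mp (pCoreOf_isPGroup r H)
    rw [hk]; exact Nat.Coprime.pow_right k hYr
  have hyM : y ∈ Subgroup.normalizer ((pcoreOf r H : Subgroup G) : Set G) :=
    le_normalizer_pCoreOf r H (hYH hy)
  have hyB : y ∈ Subgroup.centralizer ((M ⊓ pcoreOf r H : Subgroup G) : Set G) := by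
    rw [Subgroup.mem_centralizer_iff]
    intro b hb
    exact (commute_of_mem_normalizer_of_disjoint hYP hy hb.2 hyM (hMY hb.1)).symm
  have hAxB := Cfsg.Agent.Helper5.thompson_AxB (M ⊓ pcoreOf r H)
    ((pCoreOf_isPGroup r H).to_le inf_le_right) y hyo hyB (pcoreOf r H) (pCoreOf_isPGroup r H)
    hyM (inf_le_left.trans (h.leH.trans (le_normalizer_pCoreOf r H))) ?_ x hx
  · exact hAxB
  · intro z hz hzB
    have hzA : z ∈ M := h.cent_r hr ⟨hz, hzB⟩
    exact (Subgroup.mem_centralizer_iff.mp hyB z ⟨hzA, hz⟩).symm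

/-- `H` normalizes `C_H(F(H))`. -/
theorem le_normalizer_inf_centralizer_fittingOf (H : Subgroup G) :
    H ≤ Subgroup.normalizer ((H ⊓ Subgroup.centralizer ((Cfsg.fittingOf H : Subgroup G) : Set G)
      : Subgroup G) : Set G) :=
  le_normalizer_inf Subgroup.le_normalizer
    ((le_normalizer_fittingOf H).trans (normalizer_le_normalizer_centralizer_aux _))

/-- a solvable subgroup of `C_H(F(H))` normalized by `C_H(F(H))` lies in `F(H)`. -/
theorem le_fittingOf_of_le_centralizer (H : Subgroup G) {Y : Subgroup G}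
    (hYX : Y ≤ H ⊓ Subgroup.centralizer ((Cfsg.fittingOf H : Subgroup G) : Set G))
    (hXY : H ⊓ Subgroup.centralizer ((Cfsg.fittingOf H : Subgroup G) : Set G) ≤
      Subgroup.normalizer (Y : Set G))
    (hsol : Group.IsSolvable ↥Y) : Y ≤ Cfsg.fittingOf H := by
  obtain ⟨X, hX⟩ : ∃ X : Subgroup G,
      X = H ⊓ Subgroup.centralizer ((Cfsg.fittingOf H : Subgroup G) : Set G) := ⟨_, rfl⟩
  rw [← hX] at hYX hXY
  have hXH : X ≤ H := hX ▸ inf_le_left
  have hHX : H ≤ Subgroup.normalizer (X : Set G) := hX ▸ le_normalizer_inf_centralizer_fittingOf H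
  -- `F(Y) ≤ F(H)`
  have hFY : Cfsg.fittingOf Y ≤ Cfsg.fittingOf H := by
    apply fittingOf_le_of_forall
    intro t ht
    haveI := Fact.mk ht
    have h1 : pcoreOf t Y ≤ pcoreOf t X :=
      le_pCoreOf ((pCoreOf_le t Y).trans hYX) (pCoreOf_isPGroup t Y)
        (hXY.trans (normalizer_le_normalizer_pcoreOf t Y))
    have h2 : pcoreOf t X ≤ pcoreOf t H :=
      le_pCoreOf ((pCoreOf_le t X).trans hXH) (pCoreOf_isPGroup t X)
        (hHX.trans (normalizer_le_normalizer_pcoreOf t X))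
    exact (h1.trans h2).trans (pCoreOf_le_fittingOf t H)
  have hYC : Y ≤ Subgroup.centralizer ((Cfsg.fittingOf Y : Subgroup G) : Set G) := by
    refine le_trans ?_ (centralizer_le_of_le hFY)
    exact hYX.trans (hX ▸ inf_le_right)
  have h3 := inf_centralizer_fittingOf_le Y hsol
  exact (le_trans (le_inf le_rfl hYC) h3).trans hFY

end Cfsg.Agent.Helper6.FitInv
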