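import Mathlib
import Cfsg.Agent.Helper6.FitInvA

set_option autoImplicit false

/-!
Maximal local subgroups whose Fitting subgroup has at least two prime divisors, part B: invariant
subgroups of a solvable subgroup `R` normalized by `M` and `C_H(F(H))`.
-/

namespace Cfsg.Agent.Helper6.FitInv

open Cfsg Cfsg.Agent.Helper1 Cfsg.Agent.Helper2 Cfsg.Agent.Helper1.BGT Cfsg.Agent.Helper1.BGU
open Cfsg.Agent.Helper1.BGV
open scoped Pointwise commutatorElement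

universe u

variable {G : Type u} [Group G] [Finite G] {H M : Subgroup G}

/-- `M_r` acts without fixed points on `M`-invariant `π(F)'`-subgroups of `R`. -/
theorem Ctx.fix_eq_bot (h : Ctx H M) {R : Subgroup G} (hR : Group.IsSolvable ↥R)
    (hXR : H ⊓ Subgroup.centralizer ((Cfsg.fittingOf H : Subgroup G) : Set G) ≤
      Subgroup.normalizer (R : Set G))
    {Q : Subgroup G} (hQR : Q ≤ R) (hcop : (Nat.card Q).Coprime (Nat.card (Cfsg.fittingOf H)))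
    (hMQ : M ≤ Subgroup.normalizer (Q : Set G)) {r : ℕ} [hr : Fact r.Prime]
    (hne : pcoreOf r H ≠ ⊥) :
    Q ⊓ Subgroup.centralizer ((M ⊓ pcoreOf r H : Subgroup G) : Set G) = ⊥ := by
  obtain ⟨Q₀, hQ₀⟩ : ∃ Q₀ : Subgroup G,
      Q₀ = Q ⊓ Subgroup.centralizer ((M ⊓ pcoreOf r H : Subgroup G) : Set G) := ⟨_, rfl⟩
  rw [← hQ₀]
  have hQ₀Q : Q₀ ≤ Q := hQ₀ ▸ inf_le_left
  have hQ₀H : Q₀ ≤ H := hQ₀ ▸ inf_le_right.trans (h.centralizer_le hne)
  have hMMr : M ≤ Subgroup.normalizer ((M ⊓ pcoreOf r H : Subgroup G) : Set G) :=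
    le_normalizer_inf Subgroup.le_normalizer (h.leH.trans (le_normalizer_pCoreOf r H))
  have hMQ₀ : M ≤ Subgroup.normalizer (Q₀ : Set G) := by
    rw [hQ₀]
    exact le_normalizer_inf hMQ (hMMr.trans (normalizer_le_normalizer_centralizer_aux _))
  have hcop₀ : (Nat.card Q₀).Coprime (Nat.card (Cfsg.fittingOf H)) :=
    Nat.Coprime.coprime_dvd_left (Subgroup.card_dvd_of_le hQ₀Q) hcop
  have hcopM : (Nat.card Q₀).Coprime (Nat.card M) := (h.coprime_card_iff _).mp hcop₀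
  have hQ₀C := h.le_centralizer_fitting hQ₀H hcopM hMQ₀
  obtain ⟨X, hX⟩ : ∃ X : Subgroup G,
      X = H ⊓ Subgroup.centralizer ((Cfsg.fittingOf H : Subgroup G) : Set G) := ⟨_, rfl⟩
  rw [← hX] at hXR
  have hY1 : X ⊓ R ≤ X := inf_le_left
  have hY2 : X ≤ Subgroup.normalizer ((X ⊓ R : Subgroup G) : Set G) :=
    le_normalizer_inf Subgroup.le_normalizer hXR
  have hY3 : Group.IsSolvable ↥(X ⊓ R) := isSolvable_of_le inf_le_right hR
  have hYF : X ⊓ R ≤ Cfsg.fittingOf H :=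
    le_fittingOf_of_le_centralizer H (hX ▸ hY1) (hX ▸ hY2) hY3
  have hQ₀F : Q₀ ≤ Cfsg.fittingOf H := by
    refine le_trans (le_inf ?_ (hQ₀Q.trans hQR)) hYF
    rw [hX]
    exact le_inf hQ₀H hQ₀C
  have hcard : Nat.card Q₀ = 1 :=
    Nat.eq_one_of_dvd_coprimes hcop₀ dvd_rfl (Subgroup.card_dvd_of_le hQ₀F)
  exact Subgroup.card_eq_one.mp hcard

/-- `M_r ≤ O_{q'}(S)` for `r ≠ q`, for any solvable subgroup `S` containing `M`. -/
theorem Ctx.inf_le_coreOf (h : Ctx H M) {S : Subgroup G} (hS : Group.IsSolvable ↥S)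
    (hMS : M ≤ S) {q r : ℕ} [hq : Fact q.Prime] [hr : Fact r.Prime] (hqne : pcoreOf q H ≠ ⊥)
    (hrq : r ≠ q) : M ⊓ pcoreOf r H ≤ coreOf q S := by
  have hAqS : M ⊓ pcoreOf q H ≤ S := inf_le_left.trans hMS
  have hAqp : IsPGroup q ↥(M ⊓ pcoreOf q H) := (pCoreOf_isPGroup q H).to_le inf_le_right
  have h1 : coreOf q (S ⊓ Subgroup.centralizer ((M ⊓ pcoreOf q H : Subgroup G) : Set G)) ≤
      coreOf q S := coreOf_inf_centralizer_le_coreOf q S _ hS hAqS hAqp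
  refine le_trans ?_ h1
  obtain ⟨K₀, hK₀⟩ : ∃ K₀ : Subgroup G,
      K₀ = S ⊓ Subgroup.centralizer ((M ⊓ pcoreOf q H : Subgroup G) : Set G) := ⟨_, rfl⟩
  rw [← hK₀]
  have hK₀H : K₀ ≤ H := hK₀ ▸ inf_le_right.trans (h.centralizer_le hqne)
  have h2 : pcoreOf r H ⊓ K₀ ≤ coreOf q K₀ := by
    apply le_coreOf inf_le_right
    · exact le_normalizer_inf (hK₀H.trans (le_normalizer_pCoreOf r H)) Subgroup.le_normalizer
    · exact isPGroup_card_coprime hq.out hrq ((pCoreOf_isPGroup r H).to_le inf_le_left)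
  refine le_trans ?_ h2
  intro a ha
  refine ⟨ha.2, ?_⟩
  rw [hK₀]
  refine ⟨hMS ha.1, Subgroup.mem_centralizer_iff.mpr ?_⟩
  intro b hb
  exact commute_pCoreOf hrq.symm H hb.2 ha.2

/-- `M` is solvable. -/
theorem Ctx.isSolvable (h : Ctx H M) : Group.IsSolvable ↥M := by
  haveI : Group.IsNilpotent ↥(Cfsg.fittingOf H) := fittingOf_isNilpotent H
  exact isSolvable_of_le h.le inferInstance

/-- an `M`-invariant `π(F)'`-subgroup of `R` lies in `O_{q'}(RM)` for `q ∈ π(F)`. -/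
theorem Ctx.le_coreOf_of_invariant (h : Ctx H M) {R : Subgroup G} (hR : Group.IsSolvable ↥R)
    (hMR : M ≤ Subgroup.normalizer (R : Set G))
    (hXR : H ⊓ Subgroup.centralizer ((Cfsg.fittingOf H : Subgroup G) : Set G) ≤
      Subgroup.normalizer (R : Set G))
    {Y : Subgroup G} (hYR : Y ≤ R) (hcop : (Nat.card Y).Coprime (Nat.card (Cfsg.fittingOf H)))
    (hMY : M ≤ Subgroup.normalizer (Y : Set G)) {q r : ℕ} [hq : Fact q.Prime] [hr : Fact r.Prime]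
    (hqne : pcoreOf q H ≠ ⊥) (hrne : pcoreOf r H ≠ ⊥) (hrq : r ≠ q) :
    Y ≤ coreOf q (R ⊔ M) := by
  have hSsol : Group.IsSolvable ↥(R ⊔ M) := isSolvable_sup_of_le_normalizer hR h.isSolvable hMR
  have hMrN : M ⊓ pcoreOf r H ≤ coreOf q (R ⊔ M) := h.inf_le_coreOf hSsol le_sup_right hqne hrq
  have hMrY : M ⊓ pcoreOf r H ≤ Subgroup.normalizer (Y : Set G) := inf_le_left.trans hMY
  have hcopM : (Nat.card Y).Coprime (Nat.card M) := (h.coprime_card_iff _).mp hcop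
  have hcop' : (Nat.card ↥(M ⊓ pcoreOf r H)).Coprime (Nat.card Y) :=
    (Nat.Coprime.coprime_dvd_right (Subgroup.card_dvd_of_le inf_le_left) hcopM).symm
  have hsplit := coprime_commutator_sup_centralizer (M ⊓ pcoreOf r H) Y hMrY hcop'
    (Or.inr (isSolvable_of_le hYR hR))
  rw [h.fix_eq_bot hR hXR hYR hcop hMY hrne, sup_bot_eq] at hsplit
  rw [← hsplit, Subgroup.commutator_le]
  intro y hy a ha
  rw [commutatorElement_def]
  have hyn := le_normalizer_coreOf q (R ⊔ M) ((hYR.trans le_sup_left) hy)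
  have h1 : y * a * y⁻¹ ∈ coreOf q (R ⊔ M) :=
    (Subgroup.mem_normalizer_iff.mp hyn a).mp (hMrN ha)
  exact (coreOf q (R ⊔ M)).mul_mem h1 ((coreOf q (R ⊔ M)).inv_mem (hMrN ha))

/-- an `M`-invariant `π(F)'`-subgroup of `R` lies in `O_{π(F)'}(R)`. -/
theorem Ctx.le_piCoreOf_of_invariant (h : Ctx H M) {q₀ r₀ : ℕ} (hq₀ : q₀.Prime) (hr₀ : r₀.Prime)
    (hne : q₀ ≠ r₀) (hq₀F : q₀ ∣ Nat.card (Cfsg.fittingOf H))
    (hr₀F : r₀ ∣ Nat.card (Cfsg.fittingOf H))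
    {R : Subgroup G} (hR : Group.IsSolvable ↥R)
    (hMR : M ≤ Subgroup.normalizer (R : Set G))
    (hXR : H ⊓ Subgroup.centralizer ((Cfsg.fittingOf H : Subgroup G) : Set G) ≤
      Subgroup.normalizer (R : Set G))
    {Y : Subgroup G} (hYR : Y ≤ R) (hcop : (Nat.card Y).Coprime (Nat.card (Cfsg.fittingOf H)))
    (hMY : M ≤ Subgroup.normalizer (Y : Set G)) :
    Y ≤ Cfsg.piCoreOf (Cfsg.primesNotDvd (Nat.card (Cfsg.fittingOf H))) R := by
  have hmain : ∀ q : ℕ, q.Prime → q ∣ Nat.card (Cfsg.fittingOf H) → Y ≤ coreOf q (R ⊔ M) := by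
    intro q hq hqF
    haveI := Fact.mk hq
    obtain ⟨r, hr, hrF, hrq⟩ : ∃ r : ℕ, r.Prime ∧ r ∣ Nat.card (Cfsg.fittingOf H) ∧ r ≠ q := by
      by_cases h1 : q₀ = q
      · exact ⟨r₀, hr₀, hr₀F, fun h2 => hne (h1.trans h2.symm)⟩
      · exact ⟨q₀, hq₀, hq₀F, h1⟩
    haveI := Fact.mk hr
    exact h.le_coreOf_of_invariant hR hMR hXR hYR hcop hMY (pCoreOf_ne_bot_of_dvd hqF)
      (pCoreOf_ne_bot_of_dvd hrF) hrq
  obtain ⟨N, hN⟩ : ∃ N : Subgroup G,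
      N = R ⊓ Kc {q | q.Prime ∧ q ∣ Nat.card (Cfsg.fittingOf H)} (R ⊔ M) := ⟨_, rfl⟩
  have hYN : Y ≤ N := by
    rw [hN]
    exact le_inf hYR (le_Kc (hYR.trans le_sup_left) (fun r hr => hmain r hr.1 hr.2))
  have hNR : N ≤ R := hN ▸ inf_le_left
  have hRN : R ≤ Subgroup.normalizer (N : Set G) := by
    rw [hN]
    exact le_normalizer_inf Subgroup.le_normalizer
      ((le_sup_left : R ≤ R ⊔ M).trans (le_normalizer_Kc _ _))
  refine hYN.trans (le_piCoreOf hNR hRN ?_)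
  apply pi'_of_forall_le_coreOf (X := R ⊔ M)
  intro p hp hpF
  rw [hN]
  exact inf_le_right.trans
    (Kc_le_coreOf (σ := {q | q.Prime ∧ q ∣ Nat.card (Cfsg.fittingOf H)}) ⟨hp, hpF⟩ (R ⊔ M))

end Cfsg.Agent.Helper6.FitInv
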