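import Mathlib
import Cfsg.Agent.Helper6.FitInvB

set_option autoImplicit false

/-!
Maximal local subgroups whose Fitting subgroup has at least two prime divisors, part C: the unique
maximal `M`-invariant `q`-subgroup of `R`.
-/

namespace Cfsg.Agent.Helper6.FitInv

open Cfsg Cfsg.Agent.Helper1 Cfsg.Agent.Helper2 Cfsg.Agent.Helper1.BGT Cfsg.Agent.Helper1.BGU
open Cfsg.Agent.Helper1.BGV
open scoped Pointwise commutatorElement

universe u

variable {G : Type u} [Group G] [Finite G] {H M : Subgroup G}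

theorem Ctx.unique_maxInv (h : Ctx H M)
    (hF2 : 2 ≤ (Nat.card (Cfsg.fittingOf H)).primeFactors.card)
    {R : Subgroup G} (hR : Group.IsSolvable ↥R)
    (hMR : M ≤ Subgroup.normalizer (R : Set G))
    (hXR : H ⊓ Subgroup.centralizer ((Cfsg.fittingOf H : Subgroup G) : Set G) ≤
      Subgroup.normalizer (R : Set G))
    (q : ℕ) [hq : Fact q.Prime] (hqF : ¬ q ∣ Nat.card (Cfsg.fittingOf H)) :
    ∃! Q : Subgroup G, Q ∈ Cfsg.maxInvSubgroups R M {q} ∧
      (∀ Q' : Subgroup G, Q' ∈ Cfsg.maxInvSubgroups R M {q} →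
        Q' ≤ Cfsg.piCoreOf (Cfsg.primesNotDvd (Nat.card (Cfsg.fittingOf H))) R ∧
        ¬ q ∣ Q'.relIndex (Cfsg.piCoreOf (Cfsg.primesNotDvd (Nat.card (Cfsg.fittingOf H))) R)) := by
  -- two primes
  obtain ⟨q₀, hq₀mem, r₀, hr₀mem, hne⟩ := Finset.one_lt_card.mp (by omega :
    1 < (Nat.card (Cfsg.fittingOf H)).primeFactors.card)
  have hq₀ : q₀.Prime := Nat.prime_of_mem_primeFactors hq₀mem
  have hr₀ : r₀.Prime := Nat.prime_of_mem_primeFactors hr₀mem
  have hq₀F : q₀ ∣ Nat.card (Cfsg.fittingOf H) := Nat.dvd_of_mem_primeFactors hq₀mem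
  have hr₀F : r₀ ∣ Nat.card (Cfsg.fittingOf H) := Nat.dvd_of_mem_primeFactors hr₀mem
  haveI := Fact.mk hq₀
  obtain ⟨K, hK⟩ : ∃ K : Subgroup G,
      K = Cfsg.piCoreOf (Cfsg.primesNotDvd (Nat.card (Cfsg.fittingOf H))) R := ⟨_, rfl⟩
  rw [← hK]
  have hKR : K ≤ R := hK ▸ piCoreOf_le _ R
  have hMK : M ≤ Subgroup.normalizer (K : Set G) :=
    hK ▸ hMR.trans (normalizer_le_normalizer_piCoreOf _ R)
  have hKcop : (Nat.card K).Coprime (Nat.card (Cfsg.fittingOf H)) :=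
    hK ▸ coprime_of_pi' (piCoreOf_isPi _ R)
  have hMKcop : (Nat.card M).Coprime (Nat.card K) := ((h.coprime_card_iff _).mp hKcop).symm
  have hsolv : Group.IsSolvable ↥M ∨ Group.IsSolvable ↥K := Or.inl h.isSolvable
  -- `C_K(M) = 1`
  have hfix : K ⊓ Subgroup.centralizer (M : Set G) = ⊥ := by
    rw [eq_bot_iff, ← h.fix_eq_bot hR hXR hKR hKcop hMK (pCoreOf_ne_bot_of_dvd hq₀F)]
    exact inf_le_inf_left K (centralizer_le_of_le inf_le_left)
  obtain ⟨P, hP⟩ := exists_invariant_sylow (p := q) M K hMK hMKcop hsolv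
  obtain ⟨Qs, hQs⟩ : ∃ Qs : Subgroup G, Qs = (P : Subgroup K).map K.subtype := ⟨_, rfl⟩
  rw [← hQs] at hP
  have hQsK : Qs ≤ K := hQs ▸ Subgroup.map_subtype_le _
  have hQsq : IsPGroup q ↥Qs := hQs ▸ P.2.map _
  have hqset : ∀ {Y : Subgroup G}, IsPGroup q ↥Y →
      ∀ p : ℕ, p.Prime → p ∣ Nat.card Y → p ∈ ({q} : Set ℕ) := by
    intro Y hY p hp hpd
    obtain ⟨k, hk⟩ := IsPGroup.iff_card.mp hY
    rw [hk] at hpd
    exact Set.mem_singleton_iff.mpr ((Nat.prime_dvd_prime_iff_eq hp hq.out).mp (hp.dvd_of_dvd_pow hpd))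
  have hQsinv : Qs ∈ Cfsg.invSubgroups R M {q} := ⟨hQsK.trans hKR, hqset hQsq, hP⟩
  -- every invariant `q`-subgroup lies in `Qs`
  have hall : ∀ Y ∈ Cfsg.invSubgroups R M {q}, Y ≤ Qs := by
    rintro Y ⟨hYR, hYπ, hMY⟩
    have hYq : IsPGroup q ↥Y := by
      apply IsPGroup.of_card (n := (Nat.card Y).factorization q)
      apply Nat.eq_pow_of_factorization_eq_single Nat.card_pos.ne'
      ext p
      by_cases hpq : p = q
      · subst hpq; simp
      · rw [Finsupp.single_apply, if_neg (Ne.symm hpq)]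
        by_cases hp : p.Prime
        · apply Nat.factorization_eq_zero_of_not_dvd
          intro hd
          exact hpq (Set.mem_singleton_iff.mp (hYπ p hp hd))
        · exact Nat.factorization_eq_zero_of_not_prime _ hp
    have hYcop : (Nat.card Y).Coprime (Nat.card (Cfsg.fittingOf H)) := by
      obtain ⟨k, hk⟩ := IsPGroup.iff_card.mp hYq
      rw [hk]
      exact Nat.Coprime.pow_left k ((Nat.Prime.coprime_iff_not_dvd hq.out).mpr hqF)
    have hYK : Y ≤ K := hK ▸ h.le_piCoreOf_of_invariant hq₀ hr₀ hne hq₀F hr₀F hR hMR hXR hYR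
      hYcop hMY
    obtain ⟨P', hYP', hP'⟩ := exists_invariant_sylow_ge (p := q) M K hMK hMKcop hsolv Y hYK hYq hMY
    obtain ⟨c, hc, hcP⟩ := invariant_sylow_conj (p := q) M K hMK hMKcop hsolv P P'
      (hQs ▸ hP) hP'
    have hc1 : (c : G) = 1 := by
      have : (c : G) ∈ K ⊓ Subgroup.centralizer (M : Set G) := ⟨c.2, hc⟩
      rw [hfix, Subgroup.mem_bot] at this
      exact this
    have hc1' : c = 1 := Subtype.ext hc1
    rw [hc1', map_one, one_smul] at hcP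
    rw [hQs, hcP]
    exact hYP'
  have hQsmax : Qs ∈ Cfsg.maxInvSubgroups R M {q} :=
    ⟨hQsinv, fun Y hY hle => le_antisymm (hall Y hY) hle⟩
  have huniq : ∀ Q ∈ Cfsg.maxInvSubgroups R M {q}, Q = Qs := by
    intro Q hQ
    exact (hQ.2 Qs hQsinv (hall Q hQ.1)).symm
  refine ⟨Qs, ⟨hQsmax, ?_⟩, fun Q hQ => huniq Q hQ.1⟩
  intro Q' hQ'
  rw [huniq Q' hQ']
  refine ⟨hQsK, ?_⟩
  have h1 : Qs.subgroupOf K = (P : Subgroup K) := by
    rw [hQs]
    exact Subgroup.comap_map_eq_self_of_injective K.subtype_injective _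
  unfold Subgroup.relIndex
  rw [h1]
  exact P.not_dvd_index

end Cfsg.Agent.Helper6.FitInv
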