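import Mathlib
import Cfsg.Agent.Helper1.BGVd

set_option autoImplicit false

/-!
A variant of Bender–Glauberman Theorem 8.1(a) (last step), with the weaker hypothesis
`Z(F(M)) ≤ A ≤ F(M)` and the assumption that `O_{π'}` of the relevant maximal subgroups is trivial.
The proofs follow `Cfsg.Agent.Helper1.BGV` closely.
-/

namespace Cfsg.Agent.Helper6.FitUniq

open Cfsg Cfsg.Agent.Helper1 Cfsg.Agent.Helper2 Cfsg.Agent.Helper1.BGT Cfsg.Agent.Helper1.BGU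
open Cfsg.Agent.Helper1.BGV
open scoped Pointwise commutatorElement

universe u

variable {G : Type u} [Group G]

/-- The weak standing hypotheses: `A ≤ F(M)` contains the centre of each `O_r(M)`. -/
structure WGood (M A : Subgroup G) : Prop where
  min : Cfsg.IsMinSimpleOddOrder G
  coatom : IsCoatom M
  le : A ≤ Cfsg.fittingOf M
  zle : ∀ r : ℕ, r.Prime →
    pcoreOf r M ⊓ Subgroup.centralizer ((pcoreOf r M : Subgroup G) : Set G) ≤ A

variable {M A : Subgroup G}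

theorem WGood.leM (h : WGood M A) : A ≤ M := h.le.trans (fittingOf_le M)

theorem WGood.solvable (h : WGood M A) : Group.IsSolvable ↥M := h.min.2.2.2 M h.coatom.1

theorem WGood.center_le (h : WGood M A) {r : ℕ} (hr : r.Prime) :
    pcoreOf r M ⊓ Subgroup.centralizer ((pcoreOf r M : Subgroup G) : Set G) ≤ A ⊓ pcoreOf r M :=
  fun _ hz => ⟨h.zle r hr hz, hz.1⟩

variable [Finite G]

theorem WGood.inf_ne_bot (h : WGood M A) {r : ℕ} [hr : Fact r.Prime] (hne : pcoreOf r M ≠ ⊥) :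
    A ⊓ pcoreOf r M ≠ ⊥ := by
  intro hb
  apply center_inf_ne_bot (pCoreOf_isPGroup r M) hne
  rw [eq_bot_iff, ← hb]
  exact h.center_le hr.out

theorem WGood.dvd_card (h : WGood M A) {r : ℕ} [hr : Fact r.Prime] (hne : pcoreOf r M ≠ ⊥) :
    r ∣ Nat.card A :=
  (dvd_card_of_isPGroup_ne_bot ((pCoreOf_isPGroup r M).to_le inf_le_right)
    (h.inf_ne_bot hne)).trans (Subgroup.card_dvd_of_le inf_le_left)

theorem WGood.pcoreOf_ne_bot (h : WGood M A) {r : ℕ} [hr : Fact r.Prime] (hd : r ∣ Nat.card A) :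
    pcoreOf r M ≠ ⊥ :=
  pCoreOf_ne_bot_of_dvd (hd.trans (Subgroup.card_dvd_of_le h.le))

theorem WGood.dvd_card_of_dvd_fitting (h : WGood M A) {r : ℕ} (hr : r.Prime)
    (hd : r ∣ Nat.card (Cfsg.fittingOf M)) : r ∣ Nat.card A := by
  haveI := Fact.mk hr
  exact h.dvd_card (pCoreOf_ne_bot_of_dvd hd)

/-- `C_G(A_r) ≤ M`. -/
theorem WGood.centralizer_le (h : WGood M A) {r : ℕ} [hr : Fact r.Prime]
    (hne : pcoreOf r M ≠ ⊥) :
    Subgroup.centralizer ((A ⊓ pcoreOf r M : Subgroup G) : Set G) ≤ M := by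
  obtain ⟨Z, hZ⟩ : ∃ Z : Subgroup G,
      Z = pcoreOf r M ⊓ Subgroup.centralizer ((pcoreOf r M : Subgroup G) : Set G) := ⟨_, rfl⟩
  have hMZ : M ≤ Subgroup.normalizer (Z : Set G) := by
    rw [hZ]
    exact le_normalizer_inf (le_normalizer_pCoreOf r M)
      ((le_normalizer_pCoreOf r M).trans (normalizer_le_normalizer_centralizer_aux _))
  have hZ1 : Z ≠ ⊥ := hZ ▸ center_inf_ne_bot (pCoreOf_isPGroup r M) hne
  have hZtop : Z ≠ ⊤ :=
    ne_top_of_le_ne_top h.coatom.1 (hZ ▸ inf_le_left.trans (pCoreOf_le r M))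
  have hN := normalizer_eq_of_coatom h.min h.coatom hMZ hZ1 hZtop
  have hZA : Z ≤ A ⊓ pcoreOf r M := hZ ▸ h.center_le hr.out
  exact ((Subgroup.centralizer_le (SetLike.coe_subset_coe.mpr hZA)).trans
    (Subgroup.centralizer_le_normalizer _)).trans (le_of_eq hN)

/-- `A_r ≤ O_{q'}(H)` for `r ≠ q`. -/
theorem WGood.inf_le_coreOf (h : WGood M A) {H : Subgroup G} (hH : H ≠ ⊤) (hAH : A ≤ H)
    {q r : ℕ} [hq : Fact q.Prime] [hr : Fact r.Prime] (hqne : pcoreOf q M ≠ ⊥) (hrq : r ≠ q) :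
    A ⊓ pcoreOf r M ≤ coreOf q H := by
  have hHsol : Group.IsSolvable ↥H := h.min.2.2.2 H hH
  have hAqH : A ⊓ pcoreOf q M ≤ H := inf_le_left.trans hAH
  have hAqp : IsPGroup q ↥(A ⊓ pcoreOf q M) := (pCoreOf_isPGroup q M).to_le inf_le_right
  have h1 : coreOf q (H ⊓ Subgroup.centralizer ((A ⊓ pcoreOf q M : Subgroup G) : Set G)) ≤
      coreOf q H := coreOf_inf_centralizer_le_coreOf q H _ hHsol hAqH hAqp
  refine le_trans ?_ h1
  obtain ⟨K₀, hK₀⟩ : ∃ K₀ : Subgroup G,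
      K₀ = H ⊓ Subgroup.centralizer ((A ⊓ pcoreOf q M : Subgroup G) : Set G) := ⟨_, rfl⟩
  rw [← hK₀]
  have hK₀M : K₀ ≤ M := hK₀ ▸ inf_le_right.trans (h.centralizer_le hqne)
  have h2 : pcoreOf r M ⊓ K₀ ≤ coreOf q K₀ := by
    apply le_coreOf inf_le_right
    · exact le_normalizer_inf (hK₀M.trans (le_normalizer_pCoreOf r M)) Subgroup.le_normalizer
    · exact isPGroup_card_coprime hq.out hrq ((pCoreOf_isPGroup r M).to_le inf_le_left)
  refine le_trans ?_ h2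
  intro a ha
  refine ⟨ha.2, ?_⟩
  rw [hK₀]
  refine ⟨hAH ha.1, Subgroup.mem_centralizer_iff.mpr ?_⟩
  intro b hb
  exact commute_pCoreOf hrq.symm M hb.2 ha.2

/-- `A_q ≤ O_{(π - q)'}(X)`. -/
theorem WGood.inf_le_Kc (h : WGood M A) {X : Subgroup G} (hX : X ≠ ⊤) (hAX : A ≤ X) {q : ℕ}
    [hq : Fact q.Prime] : A ⊓ pcoreOf q M ≤ Kc (sig (Nat.card A) q) X := by
  apply le_Kc (inf_le_left.trans hAX)
  rintro r ⟨hr, hrA, hrq⟩
  haveI := Fact.mk hr
  exact h.inf_le_coreOf hX hAX (h.pcoreOf_ne_bot hrA) (Ne.symm hrq)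

/-- `O_{(π - q)'}(X) ≤ M`. -/
theorem WGood.Kc_le (h : WGood M A) {X : Subgroup G} (hX : X ≠ ⊤) (hAX : A ≤ X)
    (hO : Cfsg.piCoreOf (Cfsg.primesNotDvd (Nat.card A)) X = ⊥) {q r : ℕ} [hq : Fact q.Prime]
    [hr : Fact r.Prime] (hqA : q ∣ Nat.card A) (hrA : r ∣ Nat.card A) (hrq : r ≠ q) :
    Kc (sig (Nat.card A) q) X ≤ M :=
  ((Kc_le_centralizer_coreOf hO q).trans
    (centralizer_le_of_le (h.inf_le_coreOf hX hAX (h.pcoreOf_ne_bot hqA) hrq))).trans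
    (h.centralizer_le (h.pcoreOf_ne_bot hrA))

/-- `O_r(H) ≠ 1` for `r ∈ π`. -/
theorem WGood.pcoreOf_ne_bot' (h : WGood M A) {H : Subgroup G} (hH : H ≠ ⊤) (hAH : A ≤ H)
    (hO : Cfsg.piCoreOf (Cfsg.primesNotDvd (Nat.card A)) H = ⊥) {r : ℕ} [hr : Fact r.Prime]
    (hrA : r ∣ Nat.card A) : pcoreOf r H ≠ ⊥ := by
  obtain ⟨K₁, hK₁⟩ : ∃ K₁ : Subgroup G, K₁ = Kc (sig (Nat.card A) r) H := ⟨_, rfl⟩
  have hK₁H : K₁ ≤ H := hK₁ ▸ BGV.Kc_le _ H
  have hHK₁ : H ≤ Subgroup.normalizer (K₁ : Set G) := hK₁ ▸ le_normalizer_Kc _ H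
  have hK₁ne : K₁ ≠ ⊥ := by
    intro hb
    apply h.inf_ne_bot (h.pcoreOf_ne_bot hrA)
    rw [eq_bot_iff, ← hb, hK₁]
    exact h.inf_le_Kc hH hAH
  have hK₁sol : Group.IsSolvable ↥K₁ := isSolvable_of_le hK₁H (h.min.2.2.2 H hH)
  have hcore : coreOf r K₁ = ⊥ := by
    rw [eq_bot_iff, ← hO]
    apply le_piCoreOf ((Helper2.coreOf_le r K₁).trans hK₁H)
      (hHK₁.trans (normalizer_le_normalizer_coreOf r K₁))
    apply pi'_of_forall_le_coreOf (X := H)
    intro p hp hpA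
    by_cases hpr : p = r
    · rw [hpr]
      exact le_coreOf ((Helper2.coreOf_le r K₁).trans hK₁H)
        (hHK₁.trans (normalizer_le_normalizer_coreOf r K₁)) (card_coreOf_coprime r K₁)
    · refine (Helper2.coreOf_le r K₁).trans ?_
      rw [hK₁]
      exact Kc_le_coreOf (σ := sig (Nat.card A) r) ⟨hp, hpA, hpr⟩ H
  have h1 := pcoreOf_ne_bot_of_coreOf_eq_bot hK₁sol hK₁ne hcore
  have h2 : pcoreOf r K₁ ≤ pcoreOf r H :=
    le_pCoreOf ((pCoreOf_le r K₁).trans hK₁H) (pCoreOf_isPGroup r K₁)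
      (hHK₁.trans (normalizer_le_normalizer_pcoreOf r K₁))
  intro hb
  exact h1 (le_bot_iff.mp (hb ▸ h2))

/-- `M` is the only maximal subgroup containing `A`, provided `O_{π'}` of `M` and of the other
maximal subgroup are trivial. -/
theorem WGood.eq_of_coatom (h : WGood M A) {q r₀ : ℕ} (hq : q.Prime)
    (hr₀ : r₀.Prime) (hne : r₀ ≠ q) (hqA : q ∣ Nat.card A) (hr₀A : r₀ ∣ Nat.card A)
    {H : Subgroup G} (hH : IsCoatom H) (hAH : A ≤ H)
    (hOM : Cfsg.piCoreOf (Cfsg.primesNotDvd (Nat.card A)) M = ⊥)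
    (hOH : Cfsg.piCoreOf (Cfsg.primesNotDvd (Nat.card A)) H = ⊥) : H = M := by
  haveI := Fact.mk hq
  haveI := Fact.mk hr₀
  have hMtop : M ≠ ⊤ := h.coatom.1
  have hHtop : H ≠ ⊤ := hH.1
  have hMsol : Group.IsSolvable ↥M := h.solvable
  have hHsol : Group.IsSolvable ↥H := h.min.2.2.2 H hHtop
  obtain ⟨KH, hKH⟩ : ∃ K : Subgroup G, K = Kc (sig (Nat.card A) q) H := ⟨_, rfl⟩
  obtain ⟨KM, hKM⟩ : ∃ K : Subgroup G, K = Kc (sig (Nat.card A) q) M := ⟨_, rfl⟩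
  -- `N(O_r(H)) = H`
  have hND : ∀ r : ℕ, r.Prime → r ∣ Nat.card A →
      Subgroup.centralizer ((pcoreOf r H : Subgroup G) : Set G) ≤ H := by
    intro r hr hrA
    haveI := Fact.mk hr
    have h1 := normalizer_eq_of_coatom h.min hH (le_normalizer_pCoreOf r H)
      (h.pcoreOf_ne_bot' hHtop hAH hOH hrA)
      (ne_top_of_le_ne_top hHtop (pCoreOf_le r H))
    exact (Subgroup.centralizer_le_normalizer _).trans (le_of_eq h1)
  -- `O_r(H) ≤ M`
  have hDM : ∀ r : ℕ, r.Prime → r ∣ Nat.card A → pcoreOf r H ≤ M := by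
    intro r hr hrA
    haveI := Fact.mk hr
    by_cases hrq : r = q
    · subst hrq
      exact (pcoreOf_le_Kc H (Nat.card A) r).trans (h.Kc_le hHtop hAH hOH hrA hr₀A hne)
    · exact (pcoreOf_le_Kc H (Nat.card A) r).trans
        (h.Kc_le hHtop hAH hOH hrA hqA (Ne.symm hrq))
  have hKHM : KH ≤ M := hKH ▸ h.Kc_le hHtop hAH hOH hqA hr₀A hne
  have hKHH : KH ≤ H := hKH ▸ BGV.Kc_le _ H
  have hHKH : H ≤ Subgroup.normalizer (KH : Set G) := hKH ▸ le_normalizer_Kc _ H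
  have hMKM : M ≤ Subgroup.normalizer (KM : Set G) := hKM ▸ le_normalizer_Kc _ M
  have hKHc : KH ≤ Subgroup.centralizer ((coreOf q H : Subgroup G) : Set G) :=
    hKH ▸ Kc_le_centralizer_coreOf hOH q
  have hKMc : KM ≤ Subgroup.centralizer ((coreOf q M : Subgroup G) : Set G) :=
    hKM ▸ Kc_le_centralizer_coreOf hOM q
  -- `KH ≤ KM`
  have h1 : KH ≤ KM := by
    rw [hKM]
    apply le_Kc hKHM
    rintro r ⟨hr, hrA, hrq⟩
    haveI := Fact.mk hr
    have hDr := hDM r hr hrA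
    refine le_trans ?_ (coreOf_inf_centralizer_le_coreOf r M (pcoreOf r H) hMsol hDr
      (pCoreOf_isPGroup r H))
    apply le_coreOf
    · exact le_inf hKHM (hKHc.trans (centralizer_le_of_le (pcoreOf_le_coreOf H hq hrq)))
    · exact (inf_le_right.trans (hND r hr hrA)).trans hHKH
    · have : KH ≤ coreOf r H := hKH ▸ Kc_le_coreOf (σ := sig (Nat.card A) q) ⟨hr, hrA, hrq⟩ H
      exact Nat.Coprime.coprime_dvd_left (Subgroup.card_dvd_of_le this) (card_coreOf_coprime r H)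
  -- `O_{r₀}(H) ≤ O_{q'}(M)`
  have h2 : pcoreOf r₀ H ≤ coreOf q M := by
    have hDq := hDM q hq hqA
    refine le_trans ?_ (coreOf_inf_centralizer_le_coreOf q M (pcoreOf q H) hMsol hDq
      (pCoreOf_isPGroup q H))
    apply le_coreOf
    · refine le_inf (hDM r₀ hr₀ hr₀A) ?_
      have h3 : pcoreOf q H ≤ KH := hKH ▸ pcoreOf_le_Kc H (Nat.card A) q
      have h4 : coreOf q H ≤ Subgroup.centralizer ((KH : Subgroup G) : Set G) :=
        hKH ▸ coreOf_le_centralizer_Kc hOH q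
      exact (pcoreOf_le_coreOf H hq hne).trans (h4.trans (centralizer_le_of_le h3))
    · exact (inf_le_right.trans (hND q hq hqA)).trans (le_normalizer_pCoreOf r₀ H)
    · exact isPGroup_card_coprime hq hne (pCoreOf_isPGroup r₀ H)
  -- `KM ≤ H`
  have h3 : KM ≤ H := (hKMc.trans (centralizer_le_of_le h2)).trans (hND r₀ hr₀ hr₀A)
  -- `KM ≤ KH`
  have h4 : KM ≤ KH := by
    rw [hKH]
    apply le_Kc h3
    rintro r ⟨hr, hrA, hrq⟩
    haveI := Fact.mk hr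
    have hArH : A ⊓ pcoreOf r M ≤ H := inf_le_left.trans hAH
    refine le_trans ?_ (coreOf_inf_centralizer_le_coreOf r H (A ⊓ pcoreOf r M) hHsol hArH
      ((pCoreOf_isPGroup r M).to_le inf_le_right))
    apply le_coreOf
    · refine le_inf h3 (hKMc.trans (centralizer_le_of_le ?_))
      exact h.inf_le_coreOf hMtop h.leM (h.pcoreOf_ne_bot hqA) hrq
    · exact (inf_le_right.trans (h.centralizer_le (h.pcoreOf_ne_bot hrA))).trans hMKM
    · have : KM ≤ coreOf r M := hKM ▸ Kc_le_coreOf (σ := sig (Nat.card A) q) ⟨hr, hrA, hrq⟩ M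
      exact Nat.Coprime.coprime_dvd_left (Subgroup.card_dvd_of_le this) (card_coreOf_coprime r M)
  -- conclusion
  have h5 : KH = KM := le_antisymm h1 h4
  have hKne : KH ≠ ⊥ := by
    intro hb
    apply h.inf_ne_bot (h.pcoreOf_ne_bot hqA)
    rw [eq_bot_iff, ← hb, hKH]
    exact h.inf_le_Kc hHtop hAH
  have hKtop : KH ≠ ⊤ := ne_top_of_le_ne_top hMtop hKHM
  have h6 := normalizer_eq_of_coatom h.min hH hHKH hKne hKtop
  have h7 := normalizer_eq_of_coatom h.min h.coatom (h5 ▸ hMKM) hKne hKtop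
  rw [← h6, h7]

end Cfsg.Agent.Helper6.FitUniq
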