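import Mathlib
import Cfsg.Agent.Helper6.Gallagher
import Cfsg.Agent.Helper6.CoprimeExt
import Cfsg.Agent.Helper6.Clifford
import Cfsg.Agent.Helper6.DerivedLengthBad

/-!
# Characters over an invariant character of a normal Hall subgroup with abelian quotient
-/

set_option autoImplicit false
set_option linter.style.haveILetI false

namespace Cfsg.Agent.Helper6.FongHt

open Cfsg.Agent.Helper6
open scoped ComplexConjugate

universe u

variable {H : Type u} [Group H]

/-- `N ⊴ H` with `(|N|, |H : N|) = 1` and `H / N` abelian: every irreducible character of `H`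
over an `H`-invariant `θ ∈ Irr(N)` has the degree of `θ` -/
theorem degree_eq_of_coprime_abelian [Fintype H] (N : Subgroup H) [hN : N.Normal] [Fintype N]
    (θ : N → ℂ) (hθ : Cfsg.IsIrrCharacter N θ)
    (hinv : ∀ (g : H) (n : N), θ ⟨g * n * g⁻¹, hN.conj_mem (n : H) n.2 g⟩ = θ n)
    (hcop : Nat.Coprime (Nat.card N) N.index)
    (hab : ∀ a b : H, a * b * a⁻¹ * b⁻¹ ∈ N)
    (φ : H → ℂ) (hφ : Cfsg.IsIrrCharacter H φ)
    (hne : Cfsg.classInner (fun n : N => φ n) θ ≠ 0) : φ 1 = θ 1 := by
  classical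
  obtain ⟨η, hη, hηN⟩ := extends_of_coprime_card N θ hθ hinv hcop
  have hηN' : (fun n : N => η n) = θ := funext hηN
  obtain ⟨β, hβ⟩ : ∃ β : H → ℂ, β = fun g => (Nat.card N : ℂ)⁻¹ *
      ∑ n : N, φ ((n : H) * g) * conj (η ((n : H) * g)) := ⟨_, rfl⟩
  have hG := gallagher_avg N η hη (by rw [hηN']; exact hθ) φ hφ β hβ
  rw [hηN'] at hG
  have hβirr := hG.1 hne
  have hβ1 : β 1 = Cfsg.classInner (fun n : N => φ n) θ := by
    rw [hβ, ← hηN']
    unfold Cfsg.classInner
    simp only [mul_one]
  have hker : ∀ n ∈ N, β n = β 1 := by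
    intro n hn
    rw [hβ]
    simp only [mul_one]
    congr 1
    refine Fintype.sum_equiv (Equiv.mulRight (⟨n, hn⟩ : N)) _ _ ?_
    intro m
    simp
  have hdeg := linear_of_abelian_quotient N ⟨β, hβirr⟩ hker hab
  have hβ1' : β 1 = 1 := by
    have := charDegree_cast_of_isCharacter (IsIrrCharacter.isCharacter hβirr)
    rw [← this]
    have hd : Cfsg.charDegree β = 1 := hdeg
    rw [hd, Nat.cast_one]
  have hmult : Cfsg.classInner (fun n : N => φ n) θ = 1 := by rw [← hβ1, hβ1']
  have hcl := clifford N φ hφ θ hθ hne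
  have hset : {ψ : N → ℂ | ∃ g : H, ψ = conjFun N θ g} = {θ} := by
    ext ψ
    simp only [Set.mem_ofPred_eq, Set.mem_singleton_iff]
    constructor
    · rintro ⟨g, rfl⟩
      funext n
      exact hinv g n
    · intro h
      refine ⟨1, ?_⟩
      rw [h]
      funext n
      unfold conjFun
      congr 1
      apply Subtype.ext
      simp
  rw [hset, finsum_mem_singleton, hmult, one_smul] at hcl
  have := congrFun hcl 1
  exact this

end Cfsg.Agent.Helper6.FongHt
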