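import Mathlib
import Cfsg.Agent.Helper6.FongHtA
import Cfsg.Agent.Helper6.CharTripleD
import Cfsg.Agent.Helper6.FongReynolds1
import Cfsg.Agent.Helper6.Constituent

/-!
# Degrees over an invariant character: the quotient of degrees divides the index of a larger
normal subgroup with coprime abelian quotient
-/

set_option autoImplicit false
set_option linter.style.haveILetI false

namespace Cfsg.Agent.Helper6.FongHt

open Cfsg.Agent.Helper6
open scoped ComplexConjugate

universe u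

variable {G : Type u} [Group G]

/-- `N ≤ A` normal subgroups of `G`, `(|N|, |A : N|) = 1`, `A / N` abelian, `θ ∈ Irr(N)`
invariant in `A`: for `χ ∈ Irr(G | θ)` the quotient `χ(1) / θ(1)` divides `|G : A|` -/
theorem degree_ratio_dvd_index_of_abelian [Fintype G] (N A : Subgroup G) [hN : N.Normal]
    [hA : A.Normal] (hNA : N ≤ A) [Fintype N]
    (hcop : Nat.Coprime (Nat.card N) (N.relIndex A))
    (hab : ∀ a ∈ A, ∀ b ∈ A, a * b * a⁻¹ * b⁻¹ ∈ N)
    (θ : N → ℂ) (hθ : Cfsg.IsIrrCharacter N θ)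
    (hinv : ∀ (g : G) (n : N), g ∈ A → θ ⟨g * n * g⁻¹, hN.conj_mem (n : G) n.2 g⟩ = θ n)
    (χ : G → ℂ) (hχ : Cfsg.IsIrrCharacter G χ)
    (hcon : Cfsg.classInner (fun n : N => χ n) θ ≠ 0) (c d : ℕ) (hc : χ 1 = c) (hd : θ 1 = d) :
    d ∣ c ∧ c / d ∣ A.index := by
  classical
  haveI : Fintype A := Fintype.ofFinite _
  haveI : Fintype (N.subgroupOf A) := Fintype.ofFinite _
  obtain ⟨φ, hφ1, hφ2⟩ := exists_constituent_over N A hNA χ hχ θ hcon
  haveI hN'n : (N.subgroupOf A).Normal := inferInstance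
  obtain ⟨e, he⟩ : ∃ e : N.subgroupOf A ≃* N, e = Subgroup.subgroupOfEquivOfLe hNA := ⟨_, rfl⟩
  have hecoe : ∀ x : N.subgroupOf A, ((e x : N) : G) = ((x : A) : G) := by
    intro x
    rw [he]
    rfl
  have hθ' : Cfsg.IsIrrCharacter (N.subgroupOf A) (θ ∘ e) := IsIrrCharacter.comp_mulEquiv e hθ
  have hinv' : ∀ (g : A) (n : N.subgroupOf A),
      (θ ∘ e) ⟨g * n * g⁻¹, hN'n.conj_mem (n : A) n.2 g⟩ = (θ ∘ e) n := by
    intro g n
    have h1 := hinv (g : G) (e n) g.2
    simp only [Function.comp_apply]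
    rw [← h1]
    congr 1
    apply Subtype.ext
    rw [hecoe]
    simp [hecoe]
  have hcop' : Nat.Coprime (Nat.card (N.subgroupOf A)) (N.subgroupOf A).index := by
    rw [Nat.card_congr e.toEquiv]
    exact hcop
  have hab' : ∀ a b : A, a * b * a⁻¹ * b⁻¹ ∈ N.subgroupOf A := by
    intro a b
    rw [Subgroup.mem_subgroupOf]
    exact hab a a.2 b b.2
  have hne' : Cfsg.classInner (fun n : N.subgroupOf A => (φ : A → ℂ) n) (θ ∘ e) ≠ 0 := by
    have h1 := classInner_comp_equiv' e.toEquiv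
      (fun n : N => (φ : A → ℂ) ⟨(n : G), hNA n.2⟩) θ
    have h2 : (fun n : N => (φ : A → ℂ) ⟨(n : G), hNA n.2⟩) ∘ e.toEquiv =
        fun n : N.subgroupOf A => (φ : A → ℂ) n := by
      funext n
      simp only [Function.comp_apply]
      have e1 : (⟨((e.toEquiv n : N) : G), hNA (e.toEquiv n).2⟩ : A) = (n : A) := by
        apply Subtype.ext
        exact hecoe n
      rw [e1]
    rw [h2] at h1
    have h3 : θ ∘ e.toEquiv = θ ∘ e := rfl
    rw [h3] at h1
    rw [h1]
    exact hφ2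
  have hdeg := degree_eq_of_coprime_abelian (N.subgroupOf A) (θ ∘ e) hθ' hinv' hcop' hab'
    (φ : A → ℂ) φ.2 hne'
  have hφd : (φ : A → ℂ) 1 = d := by
    rw [hdeg]
    simp only [Function.comp_apply, map_one]
    exact hd
  exact degree_ratio_dvd_index A χ hχ (φ : A → ℂ) φ.2 hφ1 c d hc hφd

end Cfsg.Agent.Helper6.FongHt
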