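import Mathlib
import Cfsg.Agent.Helper4.HallHigman
import Cfsg.Agent.Helper1.Cores
import Cfsg.Agent.Helper1.Fitting2

/-!
# A normal subgroup over `O_{p'}(G)` with abelian `p`-quotient containing the centres of the Sylow
`p`-subgroups of a `p`-solvable group
-/

set_option autoImplicit false
set_option linter.style.haveILetI false

namespace Cfsg.Agent.Helper6.FongHt

universe u

variable {G : Type u} [Group G]

/-- in a `p`-solvable group `G` with `N = O_{p'}(G)`, the preimage `A` of `Z(O_p(G/N))` is a normal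
subgroup with `A / N` an abelian `p`-group containing the centre of every Sylow `p`-subgroup -/
theorem exists_normal_abelian_over_pPrimeCore [Finite G] (p : ℕ) [hp : Fact p.Prime]
    (hsolv : Cfsg.IsPSolvable p G) (N : Subgroup G) (hNdef : N = Cfsg.pPrimeCore p G) :
    ∃ A : Subgroup G, A.Normal ∧ N ≤ A ∧ (∀ a ∈ A, ∀ b ∈ A, a * b * a⁻¹ * b⁻¹ ∈ N) ∧
      (∃ k : ℕ, N.relIndex A = p ^ k) ∧
      ∀ P : Sylow p G, ∀ z ∈ (P : Subgroup G), (∀ x ∈ (P : Subgroup G), z * x = x * z) → z ∈ A := by
  subst hNdef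
  haveI hNn : (Cfsg.pPrimeCore p G).Normal := Cfsg.Agent.Helper1.pPrimeCore_normal p
  set N := Cfsg.pPrimeCore p G with hN
  set O := Cfsg.pCore p (G ⧸ N) with hO
  have hOp : IsPGroup p O := Cfsg.Agent.Helper1.pCore_isPGroup p
  haveI hOn : O.Normal := Cfsg.pCore_normal p (G ⧸ N)
  have hHH : Subgroup.centralizer (O : Set (G ⧸ N)) ≤ O :=
    Cfsg.Agent.Helper4.centralizer_pCore_le_of_isPSolvable
      (Cfsg.Agent.Helper4.isPSolvable_quotient hsolv N)
      (Cfsg.Agent.Helper1.pPrimeCore_quotient_pPrimeCore p)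
  set Z := O ⊓ Subgroup.centralizer (O : Set (G ⧸ N)) with hZ
  haveI hZn : Z.Normal := inferInstance
  have hsurj : Function.Surjective (QuotientGroup.mk' N) := QuotientGroup.mk'_surjective N
  refine ⟨Z.comap (QuotientGroup.mk' N), inferInstance, ?_, ?_, ?_, ?_⟩
  · intro n hn
    rw [Subgroup.mem_comap]
    have : (QuotientGroup.mk' N) n = 1 := (QuotientGroup.eq_one_iff n).mpr hn
    rw [this]
    exact Z.one_mem
  · intro a ha b hb
    rw [Subgroup.mem_comap] at ha hb
    have h1 := Subgroup.mem_centralizer_iff.mp ha.2 _ hb.1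
    -- `mk b * mk a = mk a * mk b`
    rw [← QuotientGroup.eq_one_iff]
    have h2 : ((a * b * a⁻¹ * b⁻¹ : G) : G ⧸ N) =
        (QuotientGroup.mk' N a) * (QuotientGroup.mk' N b) * (QuotientGroup.mk' N a)⁻¹ *
          (QuotientGroup.mk' N b)⁻¹ := by
      simp
    rw [h2, ← h1]
    group
  · have h1 : N = (⊥ : Subgroup (G ⧸ N)).comap (QuotientGroup.mk' N) := by
      rw [MonoidHom.comap_bot, QuotientGroup.ker_mk']
    have h2 : N.relIndex (Z.comap (QuotientGroup.mk' N)) = Nat.card Z := by
      have h3 : ((⊥ : Subgroup (G ⧸ N)).comap (QuotientGroup.mk' N)).relIndex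
          (Z.comap (QuotientGroup.mk' N)) = Nat.card Z := by
        rw [Subgroup.relIndex_comap, Subgroup.map_comap_eq_self_of_surjective hsurj,
          Subgroup.relIndex_bot_left]
      rw [← h3]
      congr 1
    rw [h2]
    have hZp : IsPGroup p Z := hOp.to_le inf_le_left
    exact IsPGroup.iff_card.mp hZp
  · intro P z hz hzc
    rw [Subgroup.mem_comap]
    have hOP : O ≤ (P : Subgroup G).map (QuotientGroup.mk' N) := by
      have := Cfsg.Agent.Helper1.pCore_le_sylow (P.mapSurjective hsurj)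
      rwa [Sylow.coe_mapSurjective] at this
    have hc : (QuotientGroup.mk' N) z ∈ Subgroup.centralizer (O : Set (G ⧸ N)) := by
      rw [Subgroup.mem_centralizer_iff]
      intro o ho
      obtain ⟨x, hx, rfl⟩ := hOP ho
      rw [← map_mul, ← map_mul, hzc x hx]
    exact ⟨hHH hc, hc⟩

end Cfsg.Agent.Helper6.FongHt
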