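import Mathlib
import Cfsg.Agent.Helper6.FongHtB
import Cfsg.Agent.Helper6.FongHtC
import Cfsg.Agent.Helper6.DefectZeroBlock
import Cfsg.Agent.Helper5.PPrimeCore

/-!
# Degrees over an invariant character of `O_{p'}(G)`, `G` a `p`-solvable group
-/

set_option autoImplicit false
set_option linter.style.haveILetI false

namespace Cfsg.Agent.Helper6.FongHt

open Cfsg.Agent.Helper6
open scoped ComplexConjugate

universe u

variable {G : Type u} [Group G]

/-- `G` `p`-solvable, `θ ∈ Irr(O_{p'}(G))` invariant, `χ ∈ Irr(G | θ)`, `P` a Sylow `p`-subgroup: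
the `p`-part of `χ(1)` is at most `|P : Z(P)|` -/
theorem factorization_degree_le_of_invariant [Fintype G] (p : ℕ) [hp : Fact p.Prime]
    (hsolv : Cfsg.IsPSolvable p G) (N : Subgroup G) [hN : N.Normal] [Fintype N]
    (hNdef : N = Cfsg.pPrimeCore p G) (θ : N → ℂ) (hθ : Cfsg.IsIrrCharacter N θ)
    (hinv : ∀ (g : G) (n : N), θ ⟨g * n * g⁻¹, hN.conj_mem (n : G) n.2 g⟩ = θ n)
    (χ : G → ℂ) (hχ : Cfsg.IsIrrCharacter G χ)
    (hcon : Cfsg.classInner (fun n : N => χ n) θ ≠ 0) (P : Sylow p G) :
    (Cfsg.charDegree χ).factorization p ≤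
      ((Subgroup.center (P : Subgroup G)).index).factorization p := by
  classical
  obtain ⟨A, hAn, hNA, hab, ⟨k, hk⟩, hZ⟩ :=
    exists_normal_abelian_over_pPrimeCore p hsolv N hNdef
  haveI := hAn
  have hNp : ¬ p ∣ Nat.card N := by
    rw [hNdef]
    exact Cfsg.Agent.Helper5.not_dvd_card_pPrimeCore p
  have hcop : Nat.Coprime (Nat.card N) (N.relIndex A) := by
    rw [hk]
    exact Nat.Coprime.pow_right _ ((Nat.Prime.coprime_iff_not_dvd hp.out).mpr hNp).symm
  have hc := (charDegree_cast_of_isCharacter (IsIrrCharacter.isCharacter hχ)).symm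
  have hd := (charDegree_cast_of_isCharacter (IsIrrCharacter.isCharacter hθ)).symm
  obtain ⟨hdc, hcd⟩ := degree_ratio_dvd_index_of_abelian N A hNA hcop hab θ hθ
    (fun g n _ => hinv g n) χ hχ hcon _ _ hc hd
  set c := Cfsg.charDegree χ with hcdef
  set d := Cfsg.charDegree θ with hddef
  have hdN : d ∣ Nat.card N := charDegree_dvd_card hθ
  have hc0 : c ≠ 0 := by
    intro h0
    have : χ 1 = 0 := by rw [hc, h0, Nat.cast_zero]
    exact IsIrrCharacter.apply_one_ne_zero hχ this
  have hd0 : d ≠ 0 := by
    intro h0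
    have : θ 1 = 0 := by rw [hd, h0, Nat.cast_zero]
    exact IsIrrCharacter.apply_one_ne_zero hθ this
  have hpd : ¬ p ∣ d := fun h => hNp (h.trans hdN)
  have hcd0 : c / d ≠ 0 := by
    intro h0
    have := Nat.div_mul_cancel hdc
    rw [h0, zero_mul] at this
    exact hc0 this.symm
  have h1 : c.factorization p = (c / d).factorization p := by
    conv_lhs => rw [← Nat.div_mul_cancel hdc]
    rw [Nat.factorization_mul hcd0 hd0, Finsupp.add_apply,
      Nat.factorization_eq_zero_of_not_dvd hpd, add_zero]
  have hAi0 : A.index ≠ 0 := Subgroup.index_ne_zero_of_finite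
  have h2 : (c / d).factorization p ≤ A.index.factorization p :=
    (Nat.factorization_le_iff_dvd hcd0 hAi0).mpr hcd p
  -- `|G| = |A| * |G : A|`
  have hGA : Nat.card A * A.index = Nat.card G := Subgroup.card_mul_index A
  have hA0 : Nat.card A ≠ 0 := Nat.card_pos.ne'
  have h3 : (Nat.card G).factorization p =
      (Nat.card A).factorization p + A.index.factorization p := by
    rw [← hGA, Nat.factorization_mul hA0 hAi0, Finsupp.add_apply]
  -- the centre of `P`
  have hZA : (Subgroup.center (P : Subgroup G)).map (P : Subgroup G).subtype ≤ A := by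
    rintro _ ⟨z, hz, rfl⟩
    apply hZ P _ z.2
    intro x hx
    have := Subgroup.mem_center_iff.mp hz ⟨x, hx⟩
    have h' := congrArg Subtype.val this
    simp only [Subgroup.coe_mul] at h'
    exact h'.symm
  have h4 : Nat.card (Subgroup.center (P : Subgroup G)) ∣ Nat.card A := by
    have := Subgroup.card_dvd_of_le hZA
    rwa [Subgroup.card_map_of_injective (Subgroup.subtype_injective _)] at this
  have hZ0 : Nat.card (Subgroup.center (P : Subgroup G)) ≠ 0 := Nat.card_pos.ne'
  have h5 : (Nat.card (Subgroup.center (P : Subgroup G))).factorization p ≤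
      (Nat.card A).factorization p := (Nat.factorization_le_iff_dvd hZ0 hA0).mpr h4 p
  have hPZ : Nat.card (Subgroup.center (P : Subgroup G)) *
      (Subgroup.center (P : Subgroup G)).index = Nat.card (P : Subgroup G) :=
    Subgroup.card_mul_index _
  have hZi0 : (Subgroup.center (P : Subgroup G)).index ≠ 0 := Subgroup.index_ne_zero_of_finite
  have h6 : (Nat.card (P : Subgroup G)).factorization p =
      (Nat.card (Subgroup.center (P : Subgroup G))).factorization p +
        ((Subgroup.center (P : Subgroup G)).index).factorization p := by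
    rw [← hPZ, Nat.factorization_mul hZ0 hZi0, Finsupp.add_apply]
  have h7 : (Nat.card (P : Subgroup G)).factorization p = (Nat.card G).factorization p := by
    rw [P.card_eq_multiplicity, Nat.factorization_pow, Finsupp.smul_apply,
      Nat.Prime.factorization_self hp.out, smul_eq_mul, mul_one]
  rw [h1]
  omega

end Cfsg.Agent.Helper6.FongHt
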