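import Mathlib
import Cfsg.Agent.Helper6.KnG
import Cfsg.Agent.Helper6.QuotDefA
import Cfsg.Agent.Helper6.DefectCenter
import Cfsg.Agent.Helper6.DefectOrder

/-!
# Knörr's theorem for a stable block
-/

set_option autoImplicit false
set_option linter.style.haveILetI false

namespace Cfsg.Agent.Helper6.Kn

open Cfsg.Agent.Helper6

universe u

variable {G : Type u} [Group G] {M : Ideal Cfsg.AlgInt}

/-- **Knörr's theorem, stable case**: if the block `B` of `G` covers the `G`-stable block `c` of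
the normal subgroup `N` and `P` is a defect group of `B`, then `P ∩ N` is a defect group of `c`. -/
theorem stable_knorr [Fintype G] {p : ℕ} [hp : Fact p.Prime]
    (hM : Cfsg.IsPModular p M) (N : Subgroup G) [hN : N.Normal] [Fintype N]
    (c : Set (Cfsg.IrrCharacter N)) (hc : Cfsg.IsPBlock M c)
    (hst : ∀ x : G, Cfsg.StabilizesBlock N c x)
    (B : Set (Cfsg.IrrCharacter G)) (hB : Cfsg.IsPBlock M B)
    (hcov : ∃ χ ∈ B, ∃ θ ∈ c, Cfsg.classInner (fun n : N => (χ : G → ℂ) n) (θ : N → ℂ) ≠ 0)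
    (P : Subgroup G) (hP : Cfsg.IsDefectGroup p M B P) :
    Cfsg.IsDefectGroup p M c ((P ⊓ N).subgroupOf N) := by
  classical
  have hMm := hM.2.1
  have hO := stable_of_stabilizesBlock N c hst
  have hBc : B ⊆ lyingOver N c := by
    intro χ hχ
    obtain ⟨θ, hθ, h⟩ := cover_all hMm N c hc B hB hcov χ hχ
    exact ⟨θ, hθ, h⟩
  have hPp : IsPGroup p P := IsDefectGroup.isPGroup hM B hB P hP
  obtain ⟨g₁, hg₁⟩ := exists_defectClass hMm c hc
  obtain ⟨S₁⟩ : Nonempty (Sylow p (Subgroup.centralizer ({g₁} : Set N))) := inferInstance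
  set D' : Subgroup N := (S₁ : Subgroup (Subgroup.centralizer ({g₁} : Set N))).map
    (Subgroup.centralizer ({g₁} : Set N)).subtype with hD'
  have hD'def : Cfsg.IsDefectGroup p M c D' := ⟨g₁, hg₁, S₁, rfl⟩
  have hcardD' : Nat.card D' = p ^ Cfsg.blockDefect p c :=
    card_defectGroup hMm p hM.2.2 c hc D' hD'def
  obtain ⟨e₁, s, hs, hcomm⟩ :=
    exists_coeff_not_mem_centralizing hM N c hc hO B hB hBc g₁ hg₁ S₁
  obtain ⟨g₀, hg₀, S₀, hPdef⟩ := hP
  -- the conjugated defect group of `c`, inside `G`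
  set D : Subgroup G := (D'.map (MulAut.conj e₁).toMonoidHom).map N.subtype with hD
  have hDcard : Nat.card D = p ^ Cfsg.blockDefect p c := by
    rw [hD, Subgroup.card_map_of_injective N.subtype_injective,
      Subgroup.card_map_of_injective (MulAut.conj e₁).injective, hcardD']
  have hDp : IsPGroup p D := IsPGroup.of_card hDcard
  have hDs : D ≤ Subgroup.centralizer ({s} : Set G) := by
    intro d hd
    rw [hD] at hd
    obtain ⟨d', hd', rfl⟩ := Subgroup.mem_map.mp hd
    obtain ⟨d'', hd'', rfl⟩ := Subgroup.mem_map.mp hd'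
    obtain ⟨u, hu, rfl⟩ := Subgroup.mem_map.mp hd''
    rw [Subgroup.mem_centralizer_singleton_iff]
    exact hcomm u hu
  have hDN : D ≤ N := by
    intro d hd
    rw [hD] at hd
    obtain ⟨d', -, rfl⟩ := Subgroup.mem_map.mp hd
    exact d'.2
  -- `D` is contained in a conjugate of `P`
  obtain ⟨Q, hQ⟩ := IsPGroup.exists_le_sylow
    (hDp.comap_of_injective (Subgroup.centralizer ({s} : Set G)).subtype
      (Subgroup.centralizer ({s} : Set G)).subtype_injective :
      IsPGroup p (D.subgroupOf (Subgroup.centralizer ({s} : Set G))))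
  obtain ⟨e₂, he₂⟩ := exists_conj_sylow_le_defectGroup hM B hB g₀ hg₀ S₀ s hs Q
  have hle1 : D.map (MulAut.conj e₂⁻¹).toMonoidHom ≤ P ⊓ N := by
    rintro _ ⟨d, hd, rfl⟩
    have hdQ : (⟨d, hDs hd⟩ : Subgroup.centralizer ({s} : Set G)) ∈ Q := by
      apply hQ
      exact hd
    obtain ⟨u, hu, hud⟩ := he₂ _ hdQ
    simp only [MulEquiv.coe_toMonoidHom, MulAut.conj_apply, inv_inv]
    refine ⟨?_, ?_⟩
    · show e₂⁻¹ * d * e₂ ∈ P
      rw [hPdef]
      refine Subgroup.mem_map.mpr ⟨u, hu, ?_⟩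
      change (u : G) = e₂⁻¹ * d * e₂
      have : (d : G) = e₂ * (u : G) * e₂⁻¹ := hud.symm
      rw [this]
      group
    · have := hN.conj_mem d (hDN hd) e₂⁻¹
      rwa [inv_inv] at this
  have hcard1 : p ^ Cfsg.blockDefect p c ≤ Nat.card (P ⊓ N : Subgroup G) := by
    have h : Nat.card (D.map (MulAut.conj e₂⁻¹).toMonoidHom) = Nat.card D :=
      Subgroup.card_map_of_injective (MulAut.conj e₂⁻¹).injective
    rw [← hDcard, ← h]
    exact Subgroup.card_le_of_le hle1
  -- `P ∩ N` centralizes an element of `N` at which the idempotent of `c` does not vanish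
  set R : Subgroup G := P ⊓ N with hR
  have hRp : IsPGroup p R := hPp.to_le inf_le_left
  set e : MonoidAlgebra ℂ G := gaOfFun (Cfsg.blockCoeff B) with he
  set Ec : MonoidAlgebra ℂ G := gaIncl N (gaOfFun (Cfsg.blockCoeff c)) with hEc
  have hEce : Ec * e = e := by
    rw [hEc, gaIncl_blockCoeff_eq N c hO]
    exact gaOfFun_blockCoeff_mul_of_subset (lyingOver N c) B hBc
  have hEcloc : GaLoc M Ec := GaLoc.incl hMm N (GaLoc.ofFun (fun n => osima hMm c hc n))
  have heloc : GaLoc M e := GaLoc.ofFun (fun g => osima hMm B hB g)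
  have hg₀P : g₀ ∈ Subgroup.centralizer (P : Set G) := by
    rw [Subgroup.mem_centralizer_iff]
    intro x hx
    rw [hPdef] at hx
    obtain ⟨u, -, rfl⟩ := Subgroup.mem_map.mp hx
    exact (Subgroup.mem_centralizer_singleton_iff.mp u.2)
  have hg₀R : g₀ ∈ Subgroup.centralizer (R : Set G) :=
    Subgroup.centralizer_le (by exact_mod_cast (inf_le_left : R ≤ P)) hg₀P
  have hβ : ConjInv R (fun t => e.coeff t) :=
    conjInv_of_isClassFunction R _ (isClassFunction_coeff_of_commute e
      (gaOfFun_commute_single (blockCoeff_isClassFunction B)))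
  have hγ : ConjInv R (fun t => Ec.coeff t) := by
    have h1 : Ec = gaOfFun (Cfsg.blockCoeff (lyingOver N c)) := gaIncl_blockCoeff_eq N c hO
    rw [h1]
    exact conjInv_of_isClassFunction R _ (isClassFunction_coeff_of_commute _
      (gaOfFun_commute_single (blockCoeff_isClassFunction _)))
  have hbr := cnv_sub_sum_centralizer hM R hRp (fun t => e.coeff t) (fun t => Ec.coeff t) hβ hγ
    (fun t => heloc t) (fun t => hEcloc t) g₀ hg₀R
  rw [← coeff_mul_eq_cnv Ec e g₀, hEce] at hbr
  have hex : ∃ t ∈ Subgroup.centralizer (R : Set G),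
      ¬ Cfsg.MemLocalIdeal M (Ec.coeff (g₀ * t⁻¹)) := by
    by_contra hcon
    push Not at hcon
    apply hg₀.2.1
    have hsum : Cfsg.MemLocalIdeal M
        (∑ t ∈ (Finset.univ : Finset G).filter (· ∈ Subgroup.centralizer (R : Set G)),
          e.coeff t * Ec.coeff (g₀ * t⁻¹)) := by
      apply MemLocalIdeal.sum hMm
      intro t ht
      rw [Finset.mem_filter] at ht
      exact MemLocalIdeal.mul_left hMm (heloc t) (hcon t ht.2)
    have := MemLocalIdeal.add hMm hbr hsum
    rw [sub_add_cancel, he, gaOfFun_coeff] at this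
    exact this
  obtain ⟨t, htR, htne⟩ := hex
  have hy₀R : g₀ * t⁻¹ ∈ Subgroup.centralizer (R : Set G) :=
    (Subgroup.centralizer (R : Set G)).mul_mem hg₀R
      ((Subgroup.centralizer (R : Set G)).inv_mem htR)
  have hy₀N : g₀ * t⁻¹ ∈ N := by
    by_contra hnot
    apply htne
    rw [hEc, gaIncl_coeff_of_not_mem N _ hnot]
    exact memLocalIdeal_zero hMm
  set y : N := ⟨g₀ * t⁻¹, hy₀N⟩ with hy
  have hyne : ¬ Cfsg.MemLocalIdeal M (Cfsg.blockCoeff c y) := by
    intro h
    apply htne
    rw [hEc, gaIncl_coeff_of_mem N _ hy₀N, gaOfFun_coeff]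
    exact h
  -- `P ∩ N` is contained in a conjugate of `D'`
  have hRy : R.subgroupOf N ≤ Subgroup.centralizer ({y} : Set N) := by
    intro x hx
    rw [Subgroup.mem_subgroupOf] at hx
    rw [Subgroup.mem_centralizer_singleton_iff]
    apply Subtype.ext
    have := Subgroup.mem_centralizer_iff.mp hy₀R (x : G) hx
    simp only [Subgroup.coe_mul]
    exact this
  obtain ⟨Q', hQ'⟩ := IsPGroup.exists_le_sylow
    (((hRp.comap_of_injective N.subtype N.subtype_injective :
      IsPGroup p (R.subgroupOf N)).comap_of_injective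
      (Subgroup.centralizer ({y} : Set N)).subtype
      (Subgroup.centralizer ({y} : Set N)).subtype_injective) :
      IsPGroup p ((R.subgroupOf N).subgroupOf (Subgroup.centralizer ({y} : Set N))))
  obtain ⟨e₃, he₃⟩ := exists_conj_sylow_le_defectGroup hM c hc g₁ hg₁ S₁ y hyne Q'
  have hle2 : R.subgroupOf N ≤ D'.map (MulAut.conj e₃).toMonoidHom := by
    intro x hx
    have hxQ : (⟨x, hRy hx⟩ : Subgroup.centralizer ({y} : Set N)) ∈ Q' := by
      apply hQ'
      exact hx
    obtain ⟨u, hu, hux⟩ := he₃ _ hxQ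
    rw [Subgroup.mem_map]
    refine ⟨(u : N), Subgroup.mem_map.mpr ⟨u, hu, rfl⟩, ?_⟩
    simp only [MulEquiv.coe_toMonoidHom, MulAut.conj_apply]
    exact hux
  have hcardR : Nat.card (R.subgroupOf N) = Nat.card R :=
    Nat.card_congr (Subgroup.subgroupOfEquivOfLe (inf_le_right : R ≤ N)).toEquiv
  have heq : R.subgroupOf N = D'.map (MulAut.conj e₃).toMonoidHom := by
    apply Subgroup.eq_of_le_of_card_ge hle2
    rw [Subgroup.card_map_of_injective (MulAut.conj e₃).injective, hcardD', hcardR]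
    exact hcard1
  rw [heq]
  exact isDefectGroup_conj c D' hD'def e₃

end Cfsg.Agent.Helper6.Kn
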