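import Mathlib
import Cfsg.Agent.Helper6.KnH
import Cfsg.Agent.Helper6.StabilizerIndex
import Cfsg.Agent.Helper6.CentDefect
import Cfsg.Agent.Helper6.PairConj2
import Cfsg.Agent.Helper6.FongReynolds3
import Cfsg.Agent.Helper6.BrCorrD

/-!
# Knörr's theorem: the general case, through the Fong–Reynolds correspondence
-/

set_option autoImplicit false
set_option linter.style.haveILetI false

namespace Cfsg.Agent.Helper6.Kn

open Cfsg.Agent.Helper6

universe u

variable {G : Type u} [Group G] {M : Ideal Cfsg.AlgInt}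

/-- the stabilizer of a set of irreducible characters of a normal subgroup -/
noncomputable def blkStab (N : Subgroup G) [N.Normal] (b : Set (Cfsg.IrrCharacter N)) :
    Subgroup G where
  carrier := {x | nact N x b = b}
  one_mem' := nact_one N b
  mul_mem' := by
    intro x y hx hy
    show nact N (x * y) b = b
    rw [nact_mul]
    have hy' : nact N y b = b := hy
    rw [hy']
    exact hx
  inv_mem' := by
    intro x hx
    show nact N x⁻¹ b = b
    have hx' : nact N x b = b := hx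
    conv_lhs => rw [← hx']
    rw [← nact_mul, inv_mul_cancel, nact_one]

theorem mem_blkStab_iff [Finite G] (N : Subgroup G) [N.Normal] (b : Set (Cfsg.IrrCharacter N))
    (x : G) : x ∈ blkStab N b ↔ Cfsg.StabilizesBlock N b x :=
  nact_eq_self_iff N x b

theorem isBlockStab_blkStab [Finite G] (N : Subgroup G) [N.Normal]
    (b : Set (Cfsg.IrrCharacter N)) : IsBlockStab N b (blkStab N b) :=
  isBlockStab_of_stabilizesBlock N b _ (fun g => mem_blkStab_iff N b g)

theorem le_blkStab [Finite G] (N : Subgroup G) [N.Normal] (b : Set (Cfsg.IrrCharacter N)) :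
    N ≤ blkStab N b := by
  intro x hx
  rw [mem_blkStab_iff]
  exact stabilizesBlock_of_mem_self N b x hx

/-- **Knörr's theorem, stable case, inside an intermediate subgroup** -/
theorem stable_knorr_sub [Fintype G] {p : ℕ} [hp : Fact p.Prime]
    (hM : Cfsg.IsPModular p M) (N T : Subgroup G) [hN : N.Normal] [Fintype N] [Fintype T]
    (hNT : N ≤ T) (b : Set (Cfsg.IrrCharacter N)) (hb : Cfsg.IsPBlock M b)
    (hst : ∀ x ∈ T, Cfsg.StabilizesBlock N b x)
    (B' : Set (Cfsg.IrrCharacter T)) (hB' : Cfsg.IsPBlock M B')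
    (hcov : ∃ ψ ∈ B', ∃ θ ∈ b,
      Cfsg.classInner (fun n : N => (ψ : T → ℂ) ⟨(n : G), hNT n.2⟩) (θ : N → ℂ) ≠ 0)
    (D : Subgroup T) (hD : Cfsg.IsDefectGroup p M B' D) :
    Cfsg.IsDefectGroup p M b ((D.map T.subtype ⊓ N).subgroupOf N) := by
  classical
  haveI : Fintype (N.subgroupOf T) := Fintype.ofFinite _
  obtain ⟨e, he⟩ : ∃ e : N.subgroupOf T ≃* N, e = Subgroup.subgroupOfEquivOfLe hNT := ⟨_, rfl⟩
  have hb₂ : Cfsg.IsPBlock M (irrComp e '' b) := isPBlock_image_irrComp e b hb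
  have hst₂ : ∀ x : T, Cfsg.StabilizesBlock (N.subgroupOf T) (irrComp e '' b) x := by
    intro x
    rw [he]
    exact (stabilizesBlock_subgroupOf_iff T N hNT b x).mpr (hst x x.2)
  have hinner : ∀ (ψ : T → ℂ) (θ : Cfsg.IrrCharacter N),
      Cfsg.classInner (fun n : N.subgroupOf T => ψ n) (irrComp e θ : N.subgroupOf T → ℂ) =
        Cfsg.classInner (fun n : N => ψ ⟨(n : G), hNT n.2⟩) (θ : N → ℂ) := by
    intro ψ θ
    have hres : (fun n : N.subgroupOf T => ψ n) = (fun n : N => ψ ⟨(n : G), hNT n.2⟩) ∘ e := by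
      rw [he]
      rfl
    have hθ' : (irrComp e θ : N.subgroupOf T → ℂ) = (θ : N → ℂ) ∘ e := rfl
    rw [hres, hθ']
    exact classInner_comp_equiv' e.toEquiv _ _
  have hcov₂ : ∃ χ ∈ B', ∃ θ ∈ irrComp e '' b,
      Cfsg.classInner (fun n : N.subgroupOf T => (χ : T → ℂ) n) (θ : N.subgroupOf T → ℂ) ≠ 0 := by
    obtain ⟨ψ, hψ, θ, hθ, hne⟩ := hcov
    exact ⟨ψ, hψ, irrComp e θ, ⟨θ, hθ, rfl⟩, by rw [hinner]; exact hne⟩
  have h1 := stable_knorr hM (N.subgroupOf T) (irrComp e '' b) hb₂ hst₂ B' hB' hcov₂ D hD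
  have h2 := isDefectGroup_comap_mulEquiv (M := M) (p := p) e.symm (irrComp e '' b) _ h1
  have h3 : irrComp e.symm '' (irrComp e '' b) = b := by
    have := image_irrComp_symm_cancel e.symm b
    rwa [MulEquiv.symm_symm] at this
  rw [h3] at h2
  convert h2 using 1
  ext x
  rw [Subgroup.mem_subgroupOf, Subgroup.mem_comap, Subgroup.mem_subgroupOf, Subgroup.mem_inf]
  have hx : ((e.symm x : N.subgroupOf T) : T) = ⟨(x : G), hNT x.2⟩ := by
    rw [he]
    rfl
  simp only [MulEquiv.coe_toMonoidHom]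
  rw [hx, Subgroup.mem_inf, Subgroup.mem_subgroupOf]
  constructor
  · rintro ⟨⟨d, hd, hdx⟩, hxN⟩
    refine ⟨?_, hxN⟩
    have : d = ⟨(x : G), hNT x.2⟩ := Subtype.ext hdx
    rw [← this]
    exact hd
  · rintro ⟨hd, hxN⟩
    exact ⟨⟨_, hd, rfl⟩, hxN⟩

/-- **Knörr's theorem** for a given covered block: some defect group of `B` stabilizes `b` and
meets `N` in a defect group of `b`. -/
theorem knorr_given [Fintype G] {p : ℕ} [hp : Fact p.Prime]
    (hM : Cfsg.IsPModular p M) (N : Subgroup G) [hN : N.Normal] [Fintype N]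
    (b : Set (Cfsg.IrrCharacter N)) (hb : Cfsg.IsPBlock M b)
    (B : Set (Cfsg.IrrCharacter G)) (hB : Cfsg.IsPBlock M B)
    (hcov : ∃ χ ∈ B, ∃ θ ∈ b, Cfsg.classInner (fun n : N => (χ : G → ℂ) n) (θ : N → ℂ) ≠ 0) :
    ∃ P₀ : Subgroup G, Cfsg.IsDefectGroup p M B P₀ ∧
      (∀ x ∈ P₀, Cfsg.StabilizesBlock N b x) ∧
      Cfsg.IsDefectGroup p M b ((P₀ ⊓ N).subgroupOf N) := by
  classical
  obtain ⟨T, hTdef⟩ : ∃ T : Subgroup G, T = blkStab N b := ⟨_, rfl⟩
  haveI : Fintype T := Fintype.ofFinite _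
  have hT : IsBlockStab N b T := by rw [hTdef]; exact isBlockStab_blkStab N b
  have hNT : N ≤ T := by rw [hTdef]; exact le_blkStab N b
  have hTst : ∀ x ∈ T, Cfsg.StabilizesBlock N b x := by
    intro x hx
    rw [hTdef] at hx
    exact (mem_blkStab_iff N b x).mp hx
  obtain ⟨B', hB', hcov', hind⟩ := fr_block_surj hM.2.1 N b hb T hT hNT B hB hcov
  obtain ⟨D, hD⟩ := exists_isDefectGroup hM.2.1 p B' hB'
  have h1 := (fr_defect_height hM N b hb T hT hNT B' hB' hcov' B hind).1 D hD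
  refine ⟨D.map T.subtype, h1, ?_, ?_⟩
  · rintro x ⟨d, -, rfl⟩
    exact hTst _ d.2
  · exact stable_knorr_sub hM N T hNT b hb hTst B' hB' hcov' D hD

/-- **Knörr's theorem**: every defect group of a covered block is the intersection with `N` of a
defect group of the covering block. -/
theorem knorr_meet [Fintype G] {p : ℕ} [hp : Fact p.Prime]
    (hM : Cfsg.IsPModular p M) (N : Subgroup G) [hN : N.Normal] [Fintype N]
    (b : Set (Cfsg.IrrCharacter N)) (hb : Cfsg.IsPBlock M b)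
    (Q : Subgroup G) (hQN : Q ≤ N) (hQ : Cfsg.IsDefectGroup p M b (Q.subgroupOf N))
    (B : Set (Cfsg.IrrCharacter G)) (hB : Cfsg.IsPBlock M B)
    (hcov : ∃ χ ∈ B, ∃ θ ∈ b, Cfsg.classInner (fun n : N => (χ : G → ℂ) n) (θ : N → ℂ) ≠ 0) :
    ∃ P : Subgroup G, Cfsg.IsDefectGroup p M B P ∧ P ⊓ N = Q := by
  classical
  obtain ⟨P₀, hP₀, -, hPN⟩ := knorr_given hM N b hb B hB hcov
  obtain ⟨n, hn⟩ := exists_conj_eq_of_isDefectGroup hM b hb (Q.subgroupOf N)
    ((P₀ ⊓ N).subgroupOf N) hQ hPN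
  refine ⟨P₀.map (MulAut.conj (n : G)).toMonoidHom, isDefectGroup_conj B P₀ hP₀ n, ?_⟩
  ext x
  constructor
  · rintro ⟨⟨y, hy, rfl⟩, hxN⟩
    simp only [MulEquiv.coe_toMonoidHom, MulAut.conj_apply] at hxN ⊢
    have hyN : y ∈ N := by
      have h1 : (n : G)⁻¹ * ((n : G) * y * (n : G)⁻¹) * (n : G) ∈ N :=
        N.mul_mem (N.mul_mem (N.inv_mem n.2) hxN) n.2
      have e1 : (n : G)⁻¹ * ((n : G) * y * (n : G)⁻¹) * (n : G) = y := by group
      rwa [e1] at h1
    have hmem : (MulAut.conj n).toMonoidHom (⟨y, hyN⟩ : N) ∈ Q.subgroupOf N := by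
      rw [← hn]
      refine Subgroup.mem_map_of_mem _ ?_
      rw [Subgroup.mem_subgroupOf]
      exact ⟨hy, hyN⟩
    rw [Subgroup.mem_subgroupOf] at hmem
    exact hmem
  · intro hxQ
    have hmem : (⟨x, hQN hxQ⟩ : N) ∈ Q.subgroupOf N := by
      rw [Subgroup.mem_subgroupOf]
      exact hxQ
    rw [← hn] at hmem
    obtain ⟨y, hy, hyx⟩ := hmem
    rw [SetLike.mem_coe, Subgroup.mem_subgroupOf] at hy
    have hx : x = (n : G) * (y : G) * (n : G)⁻¹ := by
      have := congrArg Subtype.val hyx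
      exact this.symm
    refine ⟨⟨(y : G), hy.1, ?_⟩, hQN hxQ⟩
    simp only [MulEquiv.coe_toMonoidHom, MulAut.conj_apply]
    exact hx.symm

end Cfsg.Agent.Helper6.Kn
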