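import Mathlib
import Cfsg.Agent.Helper6.KnI
import Cfsg.Agent.Helper6.NormalComplementBlock2

/-!
# Knörr's theorem: the version starting from a defect group of the covering block
-/

set_option autoImplicit false
set_option linter.style.haveILetI false

namespace Cfsg.Agent.Helper6.Kn

open Cfsg.Agent.Helper6

universe u

variable {G : Type u} [Group G] {M : Ideal Cfsg.AlgInt}

/-- conjugating a "Knörr pair" `(b, P₀)` by an element of `G` -/
theorem knorr_conj [Fintype G] {p : ℕ} [hp : Fact p.Prime]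
    (N : Subgroup G) [hN : N.Normal] [Fintype N]
    (b : Set (Cfsg.IrrCharacter N)) (hb : Cfsg.IsPBlock M b)
    (B : Set (Cfsg.IrrCharacter G))
    (hcov : ∃ χ ∈ B, ∃ θ ∈ b, Cfsg.classInner (fun n : N => (χ : G → ℂ) n) (θ : N → ℂ) ≠ 0)
    (P₀ : Subgroup G) (hst : ∀ x ∈ P₀, Cfsg.StabilizesBlock N b x)
    (hdef : Cfsg.IsDefectGroup p M b ((P₀ ⊓ N).subgroupOf N)) (g : G) :
    Cfsg.IsPBlock M (nact N g b) ∧
      (∀ x ∈ P₀.map (MulAut.conj g).toMonoidHom, Cfsg.StabilizesBlock N (nact N g b) x) ∧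
      (∃ χ ∈ B, ∃ θ ∈ nact N g b,
        Cfsg.classInner (fun n : N => (χ : G → ℂ) n) (θ : N → ℂ) ≠ 0) ∧
      Cfsg.IsDefectGroup p M (nact N g b)
        ((P₀.map (MulAut.conj g).toMonoidHom ⊓ N).subgroupOf N) := by
  classical
  refine ⟨isPBlock_nact N g b hb, ?_, ?_, ?_⟩
  · rintro _ ⟨y, hy, rfl⟩
    rw [← nact_eq_self_iff]
    have hyb : nact N y b = b := (nact_eq_self_iff N y b).mpr (hst y hy)
    simp only [MulEquiv.coe_toMonoidHom, MulAut.conj_apply]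
    rw [← nact_mul]
    have e : g * y * g⁻¹ * g = g * y := by group
    rw [e, nact_mul, hyb]
  · obtain ⟨χ, hχ, θ, hθ, hne⟩ := hcov
    refine ⟨χ, hχ, conjIrr N g⁻¹ θ, ?_, ?_⟩
    · rw [mem_nact_iff, conjIrr_conjIrr, inv_mul_cancel, conjIrr_one]
      exact hθ
    · have hcf := IsCharacter.isClassFunction (IsIrrCharacter.isCharacter χ.2)
      have h1 := classInner_conjFun N (fun n : N => (χ : G → ℂ) n) (θ : N → ℂ) g⁻¹
      rw [conjFun_restrict N (χ : G → ℂ) hcf g⁻¹] at h1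
      change Cfsg.classInner (fun n : N => (χ : G → ℂ) n) (conjFun N (θ : N → ℂ) g⁻¹) ≠ 0
      rw [h1]
      exact hne
  · obtain ⟨φ, hφ⟩ : ∃ φ : N ≃* N, φ = MulEquiv.ofBijective
        (nconjHom N g (mem_normalizer_of_normal N g))
        (nconjHom_bijective N g (mem_normalizer_of_normal N g)) := ⟨_, rfl⟩
    have hφa : ∀ n : N, ((φ n : N) : G) = g⁻¹ * (n : G) * g := by
      intro n
      rw [hφ]
      rfl
    have h1 := isDefectGroup_comap_mulEquiv (M := M) (p := p) φ b _ hdef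
    have h2 : irrComp φ '' b = nact N g b := by
      unfold nact
      apply Set.image_congr
      intro χ _
      apply Subtype.ext
      funext n
      rw [irrComp_apply, nconjIrr_apply, hφ]
      rfl
    rw [h2] at h1
    convert h1 using 1
    ext n
    rw [Subgroup.mem_subgroupOf, Subgroup.mem_comap, Subgroup.mem_subgroupOf]
    simp only [MulEquiv.coe_toMonoidHom]
    rw [hφa, Subgroup.mem_inf, Subgroup.mem_inf]
    constructor
    · rintro ⟨⟨y, hy, hyn⟩, hnN⟩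
      simp only [MulEquiv.coe_toMonoidHom, MulAut.conj_apply] at hyn
      have e : g⁻¹ * (n : G) * g = y := by
        rw [← hyn]
        group
      rw [e]
      refine ⟨hy, ?_⟩
      rw [← e]
      have := hN.conj_mem (n : G) hnN g⁻¹
      rwa [inv_inv] at this
    · rintro ⟨hy, -⟩
      refine ⟨⟨g⁻¹ * (n : G) * g, hy, ?_⟩, n.2⟩
      simp only [MulEquiv.coe_toMonoidHom, MulAut.conj_apply]
      group

/-- **Knörr's theorem** (the version starting from a defect group of the covering block) -/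
theorem knorr_defect [Fintype G] {p : ℕ} [hp : Fact p.Prime]
    (hM : Cfsg.IsPModular p M) (N : Subgroup G) [hN : N.Normal] [Fintype N]
    (B : Set (Cfsg.IrrCharacter G)) (hB : Cfsg.IsPBlock M B)
    (P : Subgroup G) (hP : Cfsg.IsDefectGroup p M B P) :
    ∃ c : Set (Cfsg.IrrCharacter N), Cfsg.IsPBlock M c ∧
      (∀ x ∈ P, Cfsg.StabilizesBlock N c x) ∧
      (∃ χ ∈ B, ∃ θ ∈ c, Cfsg.classInner (fun n : N => (χ : G → ℂ) n) (θ : N → ℂ) ≠ 0) ∧
      Cfsg.IsDefectGroup p M c ((P ⊓ N).subgroupOf N) := by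
  classical
  obtain ⟨χ₀, hχ₀⟩ := hB
  have hχ₀B : χ₀ ∈ B := by rw [hχ₀]; exact mem_blockOf_self hM.2.1 χ₀
  obtain ⟨θ₀, hθ₀⟩ := exists_constituent_restrict N χ₀
  have hcov : ∃ χ ∈ B, ∃ θ ∈ Cfsg.blockOf M (θ₀ : N → ℂ),
      Cfsg.classInner (fun n : N => (χ : G → ℂ) n) (θ : N → ℂ) ≠ 0 :=
    ⟨χ₀, hχ₀B, θ₀, mem_blockOf_self hM.2.1 θ₀, hθ₀⟩
  have hB : Cfsg.IsPBlock M B := ⟨χ₀, hχ₀⟩
  obtain ⟨P₀, hP₀, hst, hdef⟩ := knorr_given hM N _ ⟨θ₀, rfl⟩ B hB hcov
  obtain ⟨g, hg⟩ := exists_conj_eq_of_isDefectGroup hM B hB P P₀ hP hP₀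
  obtain ⟨h1, h2, h3, h4⟩ := knorr_conj (p := p) N _ ⟨θ₀, rfl⟩ B hcov P₀ hst hdef g
  rw [hg] at h2 h4
  exact ⟨_, h1, h2, h3, h4⟩

end Cfsg.Agent.Helper6.Kn
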