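import Mathlib
import Cfsg.Agent.Helper6.KnJ
import Cfsg.Agent.Helper6.BlockCover4
import Cfsg.Agent.S4672

/-!
# Stabilizers of covered blocks and `p`-power overgroups
-/

set_option autoImplicit false
set_option linter.style.haveILetI false

namespace Cfsg.Agent.Helper6.Kn

open Cfsg.Agent.Helper6

universe u

variable {G : Type u} [Group G] {M : Ideal Cfsg.AlgInt}

/-- inner products on `N.subgroupOf T` and on `N` -/
theorem classInner_subgroupOf (N T : Subgroup G) [Fintype N] [Fintype (N.subgroupOf T)]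
    (hNT : N ≤ T) (ψ : T → ℂ) (θ : Cfsg.IrrCharacter N) :
    Cfsg.classInner (fun n : N.subgroupOf T => ψ n)
        (irrComp (Subgroup.subgroupOfEquivOfLe hNT) θ : N.subgroupOf T → ℂ) =
      Cfsg.classInner (fun n : N => ψ ⟨(n : G), hNT n.2⟩) (θ : N → ℂ) := by
  obtain ⟨e, he⟩ : ∃ e : N.subgroupOf T ≃* N, e = Subgroup.subgroupOfEquivOfLe hNT := ⟨_, rfl⟩
  rw [← he]
  have hres : (fun n : N.subgroupOf T => ψ n) = (fun n : N => ψ ⟨(n : G), hNT n.2⟩) ∘ e := by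
    rw [he]
    rfl
  have hθ' : (irrComp e θ : N.subgroupOf T → ℂ) = (θ : N → ℂ) ∘ e := rfl
  rw [hres, hθ']
  exact classInner_comp_equiv' e.toEquiv _ _

/-- **Knörr's theorem, stable case, inside an intermediate subgroup** (only normality in the
intermediate subgroup is required) -/
theorem stable_knorr_sub' [Fintype G] {p : ℕ} [hp : Fact p.Prime]
    (hM : Cfsg.IsPModular p M) (N T : Subgroup G) [Fintype N] [Fintype T]
    (hNT : N ≤ T) [hNn : (N.subgroupOf T).Normal]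
    (b : Set (Cfsg.IrrCharacter N)) (hb : Cfsg.IsPBlock M b)
    (hst : ∀ x ∈ T, Cfsg.StabilizesBlock N b x)
    (B' : Set (Cfsg.IrrCharacter T)) (hB' : Cfsg.IsPBlock M B')
    (hcov : ∃ ψ ∈ B', ∃ θ ∈ b,
      Cfsg.classInner (fun n : N => (ψ : T → ℂ) ⟨(n : G), hNT n.2⟩) (θ : N → ℂ) ≠ 0)
    (D : Subgroup T) (hD : Cfsg.IsDefectGroup p M B' D) :
    Cfsg.IsDefectGroup p M b ((D.map T.subtype ⊓ N).subgroupOf N) := by
  classical
  haveI : Fintype (N.subgroupOf T) := Fintype.ofFinite _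
  obtain ⟨e, he⟩ : ∃ e : N.subgroupOf T ≃* N, e = Subgroup.subgroupOfEquivOfLe hNT := ⟨_, rfl⟩
  have hb₂ : Cfsg.IsPBlock M (irrComp e '' b) := isPBlock_image_irrComp e b hb
  have hst₂ : ∀ x : T, Cfsg.StabilizesBlock (N.subgroupOf T) (irrComp e '' b) x := by
    intro x
    rw [he]
    exact (stabilizesBlock_subgroupOf_iff T N hNT b x).mpr (hst x x.2)
  have hcov₂ : ∃ χ ∈ B', ∃ θ ∈ irrComp e '' b,
      Cfsg.classInner (fun n : N.subgroupOf T => (χ : T → ℂ) n) (θ : N.subgroupOf T → ℂ) ≠ 0 := by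
    obtain ⟨ψ, hψ, θ, hθ, hne⟩ := hcov
    refine ⟨ψ, hψ, irrComp e θ, ⟨θ, hθ, rfl⟩, ?_⟩
    rw [he, classInner_subgroupOf N T hNT]
    exact hne
  have h1 := stable_knorr hM (N.subgroupOf T) (irrComp e '' b) hb₂ hst₂ B' hB' hcov₂ D hD
  have h2 := isDefectGroup_comap_mulEquiv (M := M) (p := p) e.symm (irrComp e '' b) _ h1
  have h3 : irrComp e.symm '' (irrComp e '' b) = b := by
    have := image_irrComp_symm_cancel e.symm b
    rwa [MulEquiv.symm_symm] at this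
  rw [h3] at h2
  convert h2 using 1
  ext x
  rw [Subgroup.mem_subgroupOf, Subgroup.mem_comap, Subgroup.mem_subgroupOf, Subgroup.mem_inf]
  have hx : ((e.symm x : N.subgroupOf T) : T) = ⟨(x : G), hNT x.2⟩ := by
    rw [he]
    rfl
  simp only [MulEquiv.coe_toMonoidHom]
  rw [hx, Subgroup.mem_inf, Subgroup.mem_subgroupOf]
  constructor
  · rintro ⟨⟨d, hd, hdx⟩, hxN⟩
    refine ⟨?_, hxN⟩
    have : d = ⟨(x : G), hNT x.2⟩ := Subtype.ext hdx
    rw [← this]
    exact hd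
  · rintro ⟨hd, hxN⟩
    exact ⟨⟨_, hd, rfl⟩, hxN⟩

/-- over a stable block of a normal subgroup of `p`-power index lies exactly one block, consisting
of all the characters lying over it; its defect groups cover the quotient -/
theorem pquot_cover [Fintype G] {p : ℕ} [hp : Fact p.Prime]
    (hM : Cfsg.IsPModular p M) (N : Subgroup G) [hN : N.Normal] [Fintype N]
    (hidx : ∃ k : ℕ, N.index = p ^ k)
    (c : Set (Cfsg.IrrCharacter N)) (hc : Cfsg.IsPBlock M c)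
    (hst : ∀ x : G, Cfsg.StabilizesBlock N c x) :
    Cfsg.IsPBlock M (lyingOver N c) ∧
      ∀ P : Subgroup G, Cfsg.IsDefectGroup p M (lyingOver N c) P → N ⊔ P = ⊤ := by
  classical
  have hMm := hM.2.1
  have hO := stable_of_stabilizesBlock N c hst
  obtain ⟨B, ⟨hB, χ₀, hχ₀, θ₀, hθ₀, hcon₀⟩, huniq⟩ := covering_unique hMm p hM.2.2 N hidx c hc
  have hBL : B = lyingOver N c := by
    apply Set.Subset.antisymm
    · intro χ' hχ'
      have hcong := (covering_iff hMm N B hB c hc).mp ⟨χ₀, hχ₀, θ₀, hθ₀, hcon₀⟩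
      obtain ⟨θ', hθ', hcon'⟩ := exists_constituent_in_block hMm N c hc χ' θ₀ hθ₀
        (fun n => hcong χ' hχ' θ₀ hθ₀ n)
      exact ⟨θ', hθ', hcon'⟩
    · rintro χ' ⟨θ', hθ', hcon'⟩
      have h1 := huniq (Cfsg.blockOf M (χ' : G → ℂ))
        ⟨⟨χ', rfl⟩, χ', mem_blockOf_self hMm χ', θ', hθ', hcon'⟩
      rw [← h1]
      exact mem_blockOf_self hMm χ'
  rw [← hBL]
  refine ⟨hB, ?_⟩
  have hcoef : ∀ g : G, Cfsg.blockCoeff B g = Cfsg.subgroupBlockCoeff N c g := by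
    intro g
    rw [hBL, blockCoeff_lyingOver N c hO g]
    by_cases hg : g ∈ N
    · rw [subgroupBlockCoeff_of_mem N c g hg, extendByZero_mem N _ hg]
    · rw [subgroupBlockCoeff_of_not_mem N c g hg, extendByZero_not_mem N _ hg]
  intro P hP
  exact ((Cfsg.Agent.S4672.result p M hM N hidx c hc hst).2 B hB hcoef P hP).1

/-- the same inside an intermediate subgroup -/
theorem pquot_cover_sub [Fintype G] {p : ℕ} [hp : Fact p.Prime]
    (hM : Cfsg.IsPModular p M) (N H : Subgroup G) [Fintype N] [Fintype H]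
    (hNH : N ≤ H) [hNn : (N.subgroupOf H).Normal]
    (hidx : ∃ k : ℕ, (N.subgroupOf H).index = p ^ k)
    (c : Set (Cfsg.IrrCharacter N)) (hc : Cfsg.IsPBlock M c)
    (hst : ∀ x ∈ H, Cfsg.StabilizesBlock N c x) :
    ∃ c' : Set (Cfsg.IrrCharacter H), Cfsg.IsPBlock M c' ∧
      (∀ ξ : Cfsg.IrrCharacter H, ξ ∈ c' ↔ ∃ θ ∈ c,
        Cfsg.classInner (fun n : N => (ξ : H → ℂ) ⟨(n : G), hNH n.2⟩) (θ : N → ℂ) ≠ 0) ∧
      ∀ P : Subgroup H, Cfsg.IsDefectGroup p M c' P → N.subgroupOf H ⊔ P = ⊤ := by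
  classical
  haveI : Fintype (N.subgroupOf H) := Fintype.ofFinite _
  obtain ⟨e, he⟩ : ∃ e : N.subgroupOf H ≃* N, e = Subgroup.subgroupOfEquivOfLe hNH := ⟨_, rfl⟩
  have hc₂ : Cfsg.IsPBlock M (irrComp e '' c) := isPBlock_image_irrComp e c hc
  have hst₂ : ∀ x : H, Cfsg.StabilizesBlock (N.subgroupOf H) (irrComp e '' c) x := by
    intro x
    rw [he]
    exact (stabilizesBlock_subgroupOf_iff H N hNH c x).mpr (hst x x.2)
  obtain ⟨h1, h2⟩ := pquot_cover hM (N.subgroupOf H) hidx (irrComp e '' c) hc₂ hst₂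
  refine ⟨lyingOver (N.subgroupOf H) (irrComp e '' c), h1, ?_, h2⟩
  intro ξ
  constructor
  · rintro ⟨_, ⟨θ, hθ, rfl⟩, hne⟩
    refine ⟨θ, hθ, ?_⟩
    rw [he, classInner_subgroupOf N H hNH] at hne
    exact hne
  · rintro ⟨θ, hθ, hne⟩
    refine ⟨irrComp e θ, ⟨θ, hθ, rfl⟩, ?_⟩
    rw [he, classInner_subgroupOf N H hNH]
    exact hne

end Cfsg.Agent.Helper6.Kn
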