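import Mathlib
import Cfsg.Agent.Helper6.KnK

/-!
# The stabilizer of a covered block meets a `p`-power overgroup in the normal subgroup
-/

set_option autoImplicit false
set_option linter.style.haveILetI false

namespace Cfsg.Agent.Helper6.Kn

open Cfsg.Agent.Helper6

universe u

variable {G : Type u} [Group G] {M : Ideal Cfsg.AlgInt}

/-- a character of `T` lying over `θ` has an irreducible constituent on an intermediate subgroup
lying over `θ` -/
theorem exists_constituent_between (N H T : Subgroup G) [Fintype N] [Fintype H]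
    (hNH : N ≤ H) (hHT : H ≤ T) (ψ : T → ℂ) (hψ : Cfsg.IsCharacter T ψ) (θ : N → ℂ)
    (hcon : Cfsg.classInner (fun n : N => ψ ⟨(n : G), hHT (hNH n.2)⟩) θ ≠ 0) :
    ∃ ξ : Cfsg.IrrCharacter H,
      Cfsg.classInner (fun h : H => ψ ⟨(h : G), hHT h.2⟩) (ξ : H → ℂ) ≠ 0 ∧
      Cfsg.classInner (fun n : N => (ξ : H → ℂ) ⟨(n : G), hNH n.2⟩) θ ≠ 0 := by
  classical
  haveI : Finite (Cfsg.IrrCharacter H) := irr_finite
  haveI : Fintype (Cfsg.IrrCharacter H) := Fintype.ofFinite _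
  have hψH : Cfsg.IsCharacter H (fun h : H => ψ ⟨(h : G), hHT h.2⟩) :=
    IsCharacter.comp_hom (Subgroup.inclusion hHT) hψ
  by_contra hno
  push Not at hno
  apply hcon
  have hexp := classFunction_expansion (fun h : H => ψ ⟨(h : G), hHT h.2⟩)
    (IsCharacter.isClassFunction hψH)
  have hres : (fun n : N => ψ ⟨(n : G), hHT (hNH n.2)⟩) = ∑ ξ : Cfsg.IrrCharacter H,
      Cfsg.classInner (fun h : H => ψ ⟨(h : G), hHT h.2⟩) (ξ : H → ℂ) •
        (fun n : N => (ξ : H → ℂ) ⟨(n : G), hNH n.2⟩) := by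
    funext n
    have := congrFun hexp ⟨(n : G), hNH n.2⟩
    rw [Finset.sum_apply] at this
    rw [Finset.sum_apply]
    exact this
  rw [hres, classInner_sum_left]
  apply Finset.sum_eq_zero
  intro ξ _
  rw [classInner_smul_left]
  by_cases h : Cfsg.classInner (fun h : H => ψ ⟨(h : G), hHT h.2⟩) (ξ : H → ℂ) = 0
  · rw [h, zero_mul]
  · rw [hno ξ h, mul_zero]

/-- conjugation by a normalizing element preserves "lying over" -/
theorem classInner_nconjIrr_restrict (N H : Subgroup G) [Fintype N] (hNH : N ≤ H) (x : G)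
    (hxN : x ∈ Subgroup.normalizer (N : Set G)) (hxH : x ∈ Subgroup.normalizer (H : Set G))
    (ξ : Cfsg.IrrCharacter H) (θ : Cfsg.IrrCharacter N) :
    Cfsg.classInner (fun n : N => (nconjIrr H x hxH ξ : H → ℂ) ⟨(n : G), hNH n.2⟩)
        (nconjIrr N x hxN θ : N → ℂ) =
      Cfsg.classInner (fun n : N => (ξ : H → ℂ) ⟨(n : G), hNH n.2⟩) (θ : N → ℂ) := by
  have h1 : (fun n : N => (nconjIrr H x hxH ξ : H → ℂ) ⟨(n : G), hNH n.2⟩) =
      (fun n : N => (ξ : H → ℂ) ⟨(n : G), hNH n.2⟩) ∘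
        (Equiv.ofBijective (nconjHom N x hxN) (nconjHom_bijective N x hxN)) := by
    funext n
    rw [nconjIrr_apply]
    rfl
  have h2 : (nconjIrr N x hxN θ : N → ℂ) = (θ : N → ℂ) ∘
      (Equiv.ofBijective (nconjHom N x hxN) (nconjHom_bijective N x hxN)) := by
    funext n
    rw [nconjIrr_apply]
    rfl
  rw [h1, h2]
  exact classInner_comp_equiv _ _ _

/-- **The stabilizer of a covered block and `p`-power overgroups**: if `N ≤ L` are normal in `G`
with `L/N` a `p`-group, the block `B` of `G` covers the block `c` of `N`, and `N` contains a defect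
group of `B`, then the stabilizer of `c` meets `L` in `N`. -/
theorem stab_inf_eq [Fintype G] {p : ℕ} [hp : Fact p.Prime]
    (hM : Cfsg.IsPModular p M) (N L : Subgroup G) [hN : N.Normal] [hL : L.Normal] [Fintype N]
    (hNL : N ≤ L) (hLN : ∃ k : ℕ, (N.subgroupOf L).index = p ^ k)
    (B : Set (Cfsg.IrrCharacter G)) (hB : Cfsg.IsPBlock M B)
    (c : Set (Cfsg.IrrCharacter N)) (hc : Cfsg.IsPBlock M c)
    (hcov : ∃ χ ∈ B, ∃ θ ∈ c, Cfsg.classInner (fun n : N => (χ : G → ℂ) n) (θ : N → ℂ) ≠ 0)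
    (hD : ∃ D : Subgroup G, Cfsg.IsDefectGroup p M B D ∧ D ≤ N)
    (T : Subgroup G) (hT : ∀ x : G, x ∈ T ↔ Cfsg.StabilizesBlock N c x) : T ⊓ L = N := by
  classical
  haveI : Fintype T := Fintype.ofFinite _
  have hTs : IsBlockStab N c T := isBlockStab_of_stabilizesBlock N c T hT
  have hNT : N ≤ T := fun x hx => (hT x).mpr (stabilizesBlock_of_mem_self N c x hx)
  obtain ⟨B', hB', hcov', hind⟩ := fr_block_surj hM.2.1 N c hc T hTs hNT B hB hcov
  obtain ⟨D', hD'⟩ := exists_isDefectGroup hM.2.1 p B' hB'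
  have h1 := (fr_defect_height hM N c hc T hTs hNT B' hB' hcov' B hind).1 D' hD'
  obtain ⟨D, hDdef, hDN⟩ := hD
  have hD'N : D'.map T.subtype ≤ N := by
    obtain ⟨x, hx⟩ := exists_conj_eq_of_isDefectGroup hM B hB (D'.map T.subtype) D h1 hDdef
    rw [← hx]
    rintro _ ⟨d, hd, rfl⟩
    exact hN.conj_mem d (hDN hd) x
  obtain ⟨H, hHdef⟩ : ∃ H : Subgroup G, H = T ⊓ L := ⟨_, rfl⟩
  have hNH : N ≤ H := by rw [hHdef]; exact le_inf hNT hNL
  have hHT : H ≤ T := by rw [hHdef]; exact inf_le_left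
  have hHL : H ≤ L := by rw [hHdef]; exact inf_le_right
  haveI : Fintype H := Fintype.ofFinite _
  haveI hHn : (H.subgroupOf T).Normal := by
    have : H.subgroupOf T = L.subgroupOf T := by
      rw [hHdef]
      exact Subgroup.inf_subgroupOf_left L T
    rw [this]
    infer_instance
  haveI hNn : (N.subgroupOf H).Normal := inferInstance
  have hidx : ∃ k : ℕ, (N.subgroupOf H).index = p ^ k := by
    obtain ⟨k, hk⟩ := hLN
    have h2 := Subgroup.relIndex_mul_relIndex (H := N) (K := H) (L := L) hNH hHL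
    have h3 : N.relIndex H ∣ p ^ k := by
      rw [← hk]
      exact Dvd.intro _ h2
    obtain ⟨j, -, hj⟩ := (Nat.dvd_prime_pow hp.out).mp h3
    exact ⟨j, hj⟩
  have hstH : ∀ x ∈ H, Cfsg.StabilizesBlock N c x := fun x hx => (hT x).mp (hHT hx)
  obtain ⟨c', hc', hmem, hdefc'⟩ := pquot_cover_sub hM N H hNH hidx c hc hstH
  have hcov'' : ∃ ψ ∈ B', ∃ ξ ∈ c',
      Cfsg.classInner (fun h : H => (ψ : T → ℂ) ⟨(h : G), hHT h.2⟩) (ξ : H → ℂ) ≠ 0 := by
    obtain ⟨ψ, hψ, θ, hθ, hne⟩ := hcov'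
    obtain ⟨ξ, hξ1, hξ2⟩ := exists_constituent_between N H T hNH hHT (ψ : T → ℂ)
      (IsIrrCharacter.isCharacter ψ.2) (θ : N → ℂ) hne
    exact ⟨ψ, hψ, ξ, (hmem ξ).mpr ⟨θ, hθ, hξ2⟩, hξ1⟩
  have hstc' : ∀ x ∈ T, Cfsg.StabilizesBlock H c' x := by
    intro x hx
    have hxn : x ∈ Subgroup.normalizer (H : Set G) := by
      rw [Subgroup.mem_normalizer_iff]
      intro h
      rw [hHdef, Subgroup.mem_inf, Subgroup.mem_inf]
      constructor
      · rintro ⟨h1, h2⟩
        exact ⟨T.mul_mem (T.mul_mem hx h1) (T.inv_mem hx), hL.conj_mem h h2 x⟩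
      · rintro ⟨h1, h2⟩
        constructor
        · have := T.mul_mem (T.mul_mem (T.inv_mem hx) h1) hx
          have e : x⁻¹ * (x * h * x⁻¹) * x = h := by group
          rwa [e] at this
        · have := hL.conj_mem _ h2 x⁻¹
          have e : x⁻¹ * (x * h * x⁻¹) * x⁻¹⁻¹ = h := by group
          rwa [e] at this
    refine ⟨hxn, fun ξ hξ => ⟨nconjIrr H x hxn ξ, ?_, isConjCharOf_nconjIrr H x hxn ξ⟩⟩
    rw [hmem] at hξ ⊢
    obtain ⟨θ, hθ, hne⟩ := hξ
    refine ⟨nconjIrr N x (mem_normalizer_of_normal N x) θ,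
      nconjIrr_mem_of_stabilizes N c x ((hT x).mp hx) θ hθ, ?_⟩
    rw [classInner_nconjIrr_restrict N H hNH x]
    exact hne
  have h2 := stable_knorr_sub' hM H T hHT c' hc' hstc' B' hB' hcov'' D' hD'
  have h3 := hdefc' _ h2
  have h4 : (D'.map T.subtype ⊓ H).subgroupOf H ≤ N.subgroupOf H := by
    intro x hx
    rw [Subgroup.mem_subgroupOf] at hx ⊢
    exact hD'N hx.1
  rw [sup_eq_left.mpr h4] at h3
  rw [← hHdef]
  apply le_antisymm _ hNH
  intro x hx
  have : (⟨x, hx⟩ : H) ∈ N.subgroupOf H := by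
    rw [h3]
    trivial
  exact this

end Cfsg.Agent.Helper6.Kn
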