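import Mathlib
import Cfsg.Agent.Helper6.KnL
import Cfsg.Agent.Helper6.IrrOver

/-!
# Blocks covering a block whose defect group has its centralizer inside the normal subgroup
-/

set_option autoImplicit false
set_option linter.style.haveILetI false

namespace Cfsg.Agent.Helper6.Kn

open Cfsg.Agent.Helper6

universe u

variable {G : Type u} [Group G] {M : Ideal Cfsg.AlgInt}

/-- Min-Max, first half, in terms of a defect group -/
theorem exists_conj_le_centralizer_of_isDefectGroup [Finite G] {p : ℕ} [hp : Fact p.Prime]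
    (hM : Cfsg.IsPModular p M) (B : Set (Cfsg.IrrCharacter G)) (hB : Cfsg.IsPBlock M B)
    (P : Subgroup G) (hP : Cfsg.IsDefectGroup p M B P) (χ : Cfsg.IrrCharacter G) (hχ : χ ∈ B)
    (h : G) (hh : ¬ Cfsg.MemLocalIdeal M (Cfsg.centralChar (χ : G → ℂ) h)) :
    ∃ e : G, ∀ u ∈ P, e * u * e⁻¹ ∈ Subgroup.centralizer ({h} : Set G) := by
  obtain ⟨g₀, hg₀, S₀, rfl⟩ := hP
  obtain ⟨e, he⟩ := exists_conj_defectGroup_le_centralizer hM B hB g₀ hg₀ S₀ χ hχ h hh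
  refine ⟨e, ?_⟩
  rintro _ ⟨u, hu, rfl⟩
  exact he u hu

/-- **regularity**: a block covering a block `b` of the normal subgroup `K`, where the centralizer
of a defect group of `b` lies in `K`, has central characters vanishing (mod `M`) off `K` -/
theorem centralChar_memLocalIdeal_of_cover [Fintype G] {p : ℕ} [hp : Fact p.Prime]
    (hM : Cfsg.IsPModular p M) (K : Subgroup G) [hK : K.Normal] [Fintype K]
    (b : Set (Cfsg.IrrCharacter K)) (hb : Cfsg.IsPBlock M b)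
    (D : Subgroup K) (hD : Cfsg.IsDefectGroup p M b D)
    (hC : Subgroup.centralizer ((D.map K.subtype : Subgroup G) : Set G) ≤ K)
    (B : Set (Cfsg.IrrCharacter G)) (hB : Cfsg.IsPBlock M B)
    (hcov : ∃ χ ∈ B, ∃ θ ∈ b, Cfsg.classInner (fun n : K => (χ : G → ℂ) n) (θ : K → ℂ) ≠ 0)
    (χ : Cfsg.IrrCharacter G) (hχ : χ ∈ B) (g : G) (hg : g ∉ K) :
    Cfsg.MemLocalIdeal M (Cfsg.centralChar (χ : G → ℂ) g) := by
  classical
  by_contra hne
  obtain ⟨P₀, hP₀, -, hPK⟩ := knorr_given hM K b hb B hB hcov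
  obtain ⟨k, hk⟩ := exists_conj_eq_of_isDefectGroup hM b hb ((P₀ ⊓ K).subgroupOf K) D hPK hD
  obtain ⟨e, he⟩ := exists_conj_le_centralizer_of_isDefectGroup hM B hB P₀ hP₀ χ hχ g hne
  -- `e⁻¹ g e` centralizes `P₀ ∩ K`
  have h1 : ∀ u ∈ P₀, u * (e⁻¹ * g * e) = (e⁻¹ * g * e) * u := by
    intro u hu
    have := Subgroup.mem_centralizer_singleton_iff.mp (he u hu)
    calc u * (e⁻¹ * g * e) = e⁻¹ * (e * u * e⁻¹ * g) * e := by group
      _ = e⁻¹ * (g * (e * u * e⁻¹)) * e := by rw [this]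
      _ = (e⁻¹ * g * e) * u := by group
  -- hence `k⁻¹ (e⁻¹ g e) k` centralizes `D`
  have h2 : (k : G)⁻¹ * (e⁻¹ * g * e) * (k : G) ∈
      Subgroup.centralizer ((D.map K.subtype : Subgroup G) : Set G) := by
    rw [Subgroup.mem_centralizer_iff]
    rintro _ ⟨d, hd, rfl⟩
    have hmem : (MulAut.conj k).toMonoidHom d ∈ (P₀ ⊓ K).subgroupOf K := by
      rw [← hk]
      exact Subgroup.mem_map_of_mem _ hd
    rw [Subgroup.mem_subgroupOf] at hmem
    simp only [MulEquiv.coe_toMonoidHom, MulAut.conj_apply, Subgroup.coe_mul,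
      Subgroup.coe_inv] at hmem
    have h3 := h1 _ hmem.1
    simp only [Subgroup.coe_subtype]
    calc (d : G) * ((k : G)⁻¹ * (e⁻¹ * g * e) * (k : G))
        = (k : G)⁻¹ * ((k : G) * (d : G) * (k : G)⁻¹ * (e⁻¹ * g * e)) * (k : G) := by group
      _ = (k : G)⁻¹ * ((e⁻¹ * g * e) * ((k : G) * (d : G) * (k : G)⁻¹)) * (k : G) := by rw [h3]
      _ = (k : G)⁻¹ * (e⁻¹ * g * e) * (k : G) * (d : G) := by group
  have h4 := hC h2
  apply hg
  have h5 : e⁻¹ * g * e ∈ K := by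
    have := K.mul_mem (K.mul_mem k.2 h4) (K.inv_mem k.2)
    have e1 : (k : G) * ((k : G)⁻¹ * (e⁻¹ * g * e) * (k : G)) * (k : G)⁻¹ = e⁻¹ * g * e := by
      group
    rwa [e1] at this
  have := hK.conj_mem _ h5 e
  have e2 : e * (e⁻¹ * g * e) * e⁻¹ = g := by group
  rwa [e2] at this

/-- **uniqueness of the covering block** when the centralizer of a defect group lies in the normal
subgroup -/
theorem cover_unique_of_centralizer_le [Fintype G] {p : ℕ} [hp : Fact p.Prime]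
    (hM : Cfsg.IsPModular p M) (K : Subgroup G) [hK : K.Normal] [Fintype K]
    (b : Set (Cfsg.IrrCharacter K)) (hb : Cfsg.IsPBlock M b)
    (D : Subgroup K) (hD : Cfsg.IsDefectGroup p M b D)
    (hC : Subgroup.centralizer ((D.map K.subtype : Subgroup G) : Set G) ≤ K)
    (B₁ B₂ : Set (Cfsg.IrrCharacter G)) (hB₁ : Cfsg.IsPBlock M B₁) (hB₂ : Cfsg.IsPBlock M B₂)
    (hcov₁ : ∃ χ ∈ B₁, ∃ θ ∈ b, Cfsg.classInner (fun n : K => (χ : G → ℂ) n) (θ : K → ℂ) ≠ 0)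
    (hcov₂ : ∃ χ ∈ B₂, ∃ θ ∈ b, Cfsg.classInner (fun n : K => (χ : G → ℂ) n) (θ : K → ℂ) ≠ 0) :
    B₁ = B₂ := by
  classical
  have hMm := hM.2.1
  obtain ⟨χ₁, hχ₁⟩ := hB₁
  obtain ⟨χ₂, hχ₂⟩ := hB₂
  have hB₁ : Cfsg.IsPBlock M B₁ := ⟨χ₁, hχ₁⟩
  have hB₂ : Cfsg.IsPBlock M B₂ := ⟨χ₂, hχ₂⟩
  have hm₁ : χ₁ ∈ B₁ := by rw [hχ₁]; exact mem_blockOf_self hMm χ₁
  have hm₂ : χ₂ ∈ B₂ := by rw [hχ₂]; exact mem_blockOf_self hMm χ₂
  obtain ⟨θ, hθ⟩ : ∃ θ, θ ∈ b := by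
    obtain ⟨_, _, θ, hθ, _⟩ := hcov₁
    exact ⟨θ, hθ⟩
  have hc₁ := (covering_iff hMm K B₁ hB₁ b hb).mp hcov₁
  have hc₂ := (covering_iff hMm K B₂ hB₂ b hb).mp hcov₂
  have hs : Cfsg.SameBlock M (χ₁ : G → ℂ) (χ₂ : G → ℂ) := by
    intro g
    by_cases hg : g ∈ K
    · have h1 := hc₁ χ₁ hm₁ θ hθ ⟨g, hg⟩
      have h2 := hc₂ χ₂ hm₂ θ hθ ⟨g, hg⟩
      have := MemLocalIdeal.sub hMm h1 h2
      convert this using 1
      ring
    · exact MemLocalIdeal.sub hMm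
        (centralChar_memLocalIdeal_of_cover hM K b hb D hD hC B₁ hB₁ hcov₁ χ₁ hm₁ g hg)
        (centralChar_memLocalIdeal_of_cover hM K b hb D hD hC B₂ hB₂ hcov₂ χ₂ hm₂ g hg)
  rw [hχ₁, hχ₂]
  exact blockOf_eq_of_sameBlock hMm hs

end Cfsg.Agent.Helper6.Kn
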