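import Mathlib
import Cfsg.Agent.Helper6.FongHtD
import Cfsg.Agent.Helper6.KnN
import Cfsg.Agent.Helper6.KnI
import Cfsg.Agent.Helper6.FongReynolds3
import Cfsg.Agent.Helper6.PairConj2
import Cfsg.Agent.Helper6.MaximalPairDefect
import Cfsg.Agent.Helper6.NormalComplementBlock2
import Cfsg.Agent.Helper4.OrbitSpanA

/-!
# Fong: heights in blocks of `p`-solvable groups are bounded by `|P : Z(P)|`
-/

set_option autoImplicit false
set_option linter.style.haveILetI false

namespace Cfsg.Agent.Helper6.FongHt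

open Cfsg.Agent.Helper6 Cfsg.Agent.Helper6.Kn
open scoped ComplexConjugate

universe u

/-- the index of the centre is an isomorphism invariant -/
theorem index_center_congr {A B : Type*} [Group A] [Group B] [Finite A] (e : A ≃* B) :
    (Subgroup.center A).index = (Subgroup.center B).index := by
  haveI : Finite B := Finite.of_equiv A e.toEquiv
  have h1 : Nat.card (Subgroup.center A) = Nat.card (Subgroup.center B) :=
    Nat.card_congr (Subgroup.centerCongr e).toEquiv
  have h2 : Nat.card A = Nat.card B := Nat.card_congr e.toEquiv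
  have h3 := Subgroup.card_mul_index (Subgroup.center A)
  have h4 := Subgroup.card_mul_index (Subgroup.center B)
  have h5 : Nat.card (Subgroup.center A) ≠ 0 := Nat.card_pos.ne'
  rw [← h2, ← h1, ← h3] at h4
  exact (Nat.eq_of_mul_eq_mul_left (Nat.pos_of_ne_zero h5) h4).symm

variable {M : Ideal Cfsg.AlgInt}

/-- **Fong**: in a `p`-solvable group the height of a character in a block with defect group `P`
is at most the exponent of `p` in `|P : Z(P)|` -/
theorem height_le_of_isPSolvable {p : ℕ} [hp : Fact p.Prime] (hM : Cfsg.IsPModular p M) :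
    ∀ (n : ℕ) (G : Type u) [Group G] [Finite G], Nat.card G = n → Cfsg.IsPSolvable p G →
      ∀ (B : Set (Cfsg.IrrCharacter G)), Cfsg.IsPBlock M B → ∀ P : Subgroup G,
        Cfsg.IsDefectGroup p M B P → ∀ χ : Cfsg.IrrCharacter G, χ ∈ B →
          Cfsg.blockHeight p B (χ : G → ℂ) ≤ ((Subgroup.center P).index).factorization p := by
  intro n
  induction n using Nat.strong_induction_on with
  | _ n ih =>
  intro G _ _ hcard hsolv B hB P hP χ hχ
  classical
  haveI : Fintype G := Fintype.ofFinite G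
  obtain ⟨N, hNdef⟩ : ∃ N : Subgroup G, N = Cfsg.pPrimeCore p G := ⟨_, rfl⟩
  haveI hN : N.Normal := by rw [hNdef]; exact Cfsg.Agent.Helper1.pPrimeCore_normal p
  haveI : Fintype N := Fintype.ofFinite N
  have hMm := hM.2.1
  have hNp : ¬ p ∣ Nat.card N := by
    rw [hNdef]
    exact Cfsg.Agent.Helper5.not_dvd_card_pPrimeCore p
  obtain ⟨θ, hθ⟩ := exists_constituent_restrict N χ
  have hbs : Cfsg.blockOf M (θ : N → ℂ) = {θ} := by
    apply blockOf_eq_singleton_of_not_dvd hMm p hp.out hM.2.2 θ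
    intro h
    exact hNp (h.trans (Nat.div_dvd_of_dvd (charDegree_dvd_card θ.2)))
  have hb : Cfsg.IsPBlock M ({θ} : Set (Cfsg.IrrCharacter N)) := ⟨θ, hbs.symm⟩
  obtain ⟨T, hTdef⟩ : ∃ T : Subgroup G, T = blkStab N ({θ} : Set (Cfsg.IrrCharacter N)) :=
    ⟨_, rfl⟩
  have hT : IsBlockStab N ({θ} : Set (Cfsg.IrrCharacter N)) T := by
    rw [hTdef]; exact isBlockStab_blkStab N _
  have hNT : N ≤ T := by rw [hTdef]; exact le_blkStab N _
  have hcov : ∃ χ ∈ B, ∃ θ' ∈ ({θ} : Set (Cfsg.IrrCharacter N)),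
      Cfsg.classInner (fun n : N => (χ : G → ℂ) n) (θ' : N → ℂ) ≠ 0 :=
    ⟨χ, hχ, θ, rfl, hθ⟩
  by_cases hTtop : T = ⊤
  · -- `θ` is invariant
    have hinv : ∀ (g : G) (n : N),
        (θ : N → ℂ) ⟨g * n * g⁻¹, hN.conj_mem n n.2 g⟩ = (θ : N → ℂ) n := by
      intro g n
      have hg : g ∈ T := by rw [hTtop]; trivial
      rw [hTdef, mem_blkStab_iff] at hg
      obtain ⟨χ', hχ', hconj⟩ := hg.2 θ rfl
      rw [Set.mem_singleton_iff] at hχ'
      rw [hχ'] at hconj
      exact hconj n ⟨g * n * g⁻¹, hN.conj_mem n n.2 g⟩ rfl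
    obtain ⟨B₀, hB₀, hB₀mem, -, hsyl⟩ := fong_pprime hM hsolv N hNdef θ hinv
    have hχB₀ : χ ∈ B₀ := (hB₀mem χ).mpr hθ
    have hBB : B = B₀ := by
      rw [eq_blockOf_of_mem hMm B hB χ hχ, eq_blockOf_of_mem hMm B₀ hB₀ χ hχB₀]
    rw [hBB] at hP
    obtain ⟨S, hS⟩ := hsyl P hP
    subst hS
    have h1 := factorization_degree_le_of_invariant p hsolv N hNdef (θ : N → ℂ) θ.2 hinv
      (χ : G → ℂ) χ.2 hθ S
    refine le_trans ?_ h1
    unfold Cfsg.blockHeight
    exact Nat.sub_le _ _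
  · -- Fong–Reynolds
    haveI : Fintype T := Fintype.ofFinite T
    have hlt : Nat.card T < n := by
      rw [← hcard]
      have hle : Nat.card T ≤ Nat.card G := Subgroup.card_le_card_group T
      rcases lt_or_eq_of_le hle with h | h
      · exact h
      · exact absurd (Subgroup.card_eq_iff_eq_top T |>.mp h) hTtop
    obtain ⟨B', hB', hcov', hind⟩ := fr_block_surj hMm N _ hb T hT hNT B hB hcov
    obtain ⟨B₁, hind₁, -, -, hmem₁⟩ := fr_block_exists hMm N _ hb T hT hNT B' hB' hcov'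
    have hB₁B : B₁ = B := isInducedBlock_unique hMm T B' B₁ B hind₁ hind
    obtain ⟨ψ, hψ, hχψ⟩ := (hmem₁ χ).mp (by rw [hB₁B]; exact hχ)
    obtain ⟨hdef, hht⟩ := fr_defect_height hM N _ hb T hT hNT B' hB' hcov' B hind
    obtain ⟨χ', hχ'B, hχ'ψ, hheight⟩ := hht ψ hψ
    have hχχ' : χ' = χ := Subtype.ext (hχ'ψ.trans hχψ.symm)
    rw [hχχ'] at hheight
    rw [hheight]
    obtain ⟨D', hD'⟩ := exists_isDefectGroup hMm p B' hB'
    have hIH := ih (Nat.card T) hlt (↥T) rfl (Cfsg.Agent.Helper4.isPSolvable_subgroup hsolv T)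
      B' hB' D' hD' ψ hψ
    refine le_trans hIH (le_of_eq ?_)
    have hD'' := hdef D' hD'
    obtain ⟨x, hx⟩ := exists_conj_eq_of_isDefectGroup hM B hB P (D'.map T.subtype) hP hD''
    have e1 : D' ≃* D'.map T.subtype :=
      Subgroup.equivMapOfInjective D' T.subtype T.subtype_injective
    have e2 : (D'.map T.subtype) ≃*
        ((D'.map T.subtype).map (MulAut.conj x).toMonoidHom : Subgroup G) :=
      Subgroup.equivMapOfInjective _ _ (MulAut.conj x).injective
    have e3 : ((D'.map T.subtype).map (MulAut.conj x).toMonoidHom : Subgroup G) ≃* P :=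
      MulEquiv.subgroupCongr hx
    rw [index_center_congr ((e1.trans e2).trans e3)]

end Cfsg.Agent.Helper6.FongHt
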