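import Mathlib
import Cfsg.Agent.Helper6.KnN

/-!
# Fong's theorem for `p`-constrained groups
-/

set_option autoImplicit false
set_option linter.style.haveILetI false

namespace Cfsg.Agent.Helper6.FongPC

open Cfsg.Agent.Helper6 Cfsg.Agent.Helper6.Kn

universe u

variable {G : Type u} [Group G] {M : Ideal Cfsg.AlgInt}

/-- a Sylow `p`-subgroup of `O_{p',p}(G)` containing its centralizer in `O_{p',p}(G)` makes `G`
`p`-constrained -/
theorem isPConstrained_of_centralizer_le [Finite G] (p : ℕ) [hp : Fact p.Prime]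
    (Q : Subgroup G) (hQL : Q ≤ Cfsg.pPrimePCore p G) (hQp : IsPGroup p Q)
    (hQS : ¬ p ∣ Q.relIndex (Cfsg.pPrimePCore p G))
    (hCQ : Subgroup.centralizer (Q : Set G) ≤ Cfsg.pPrimePCore p G) :
    Cfsg.IsPConstrained p G := by
  intro P
  haveI hLn : (Cfsg.pPrimePCore p G).Normal := Cfsg.Agent.Helper1.AG.pPrimePCore_normal'
  have hQ'p : IsPGroup p (Q.subgroupOf (Cfsg.pPrimePCore p G)) := hQp.comap_subtype
  obtain ⟨l, hl⟩ := MulAction.exists_smul_eq (Cfsg.pPrimePCore p G) (hQ'p.toSylow hQS) P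
  intro x hx
  have hx1 : (l : G)⁻¹ * x * (l : G) ∈ Subgroup.centralizer (Q : Set G) := by
    rw [Subgroup.mem_centralizer_iff]
    intro q hq
    have hq' : q ∈ Q := hq
    have hqL : q ∈ Cfsg.pPrimePCore p G := hQL hq'
    have h1 : l * ⟨q, hqL⟩ * l⁻¹ ∈ (P : Subgroup (Cfsg.pPrimePCore p G)) := by
      rw [← hl, Sylow.coe_subgroup_smul]
      refine ⟨⟨q, hqL⟩, ?_, rfl⟩
      show (⟨q, hqL⟩ : Cfsg.pPrimePCore p G) ∈ Q.subgroupOf (Cfsg.pPrimePCore p G)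
      rw [Subgroup.mem_subgroupOf]
      exact hq'
    have h2 : (l : G) * q * (l : G)⁻¹ ∈
        (((P : Subgroup (Cfsg.pPrimePCore p G)).map (Cfsg.pPrimePCore p G).subtype :
          Subgroup G) : Set G) := ⟨_, h1, rfl⟩
    have h3 := Subgroup.mem_centralizer_iff.mp hx _ h2
    calc q * ((l : G)⁻¹ * x * (l : G))
        = (l : G)⁻¹ * ((l : G) * q * (l : G)⁻¹ * x) * (l : G) := by group
      _ = (l : G)⁻¹ * (x * ((l : G) * q * (l : G)⁻¹)) * (l : G) := by rw [h3]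
      _ = (l : G)⁻¹ * x * (l : G) * q := by group
  have hx2 := hCQ hx1
  have hx3 := hLn.conj_mem _ hx2 (l : G)
  have e : (l : G) * ((l : G)⁻¹ * x * (l : G)) * (l : G)⁻¹ = x := by group
  rw [e] at hx3
  exact hx3

/-- **Fong's theorem**: over a `G`-invariant irreducible character of `O_{p'}(G)`, `G` a
`p`-constrained group, lies exactly one block, and it has the Sylow `p`-subgroups as defect groups. -/
theorem fong_pconstrained [Fintype G] {p : ℕ} [hp : Fact p.Prime]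
    (hM : Cfsg.IsPModular p M) (hcon : Cfsg.IsPConstrained p G)
    (N : Subgroup G) [hN : N.Normal] [Fintype N] (hNdef : N = Cfsg.pPrimeCore p G)
    (θ : Cfsg.IrrCharacter N)
    (hinv : ∀ (g : G) (n : N),
      (θ : N → ℂ) ⟨g * n * g⁻¹, hN.conj_mem n n.2 g⟩ = (θ : N → ℂ) n) :
    ∃ B : Set (Cfsg.IrrCharacter G), Cfsg.IsPBlock M B ∧
      (∀ χ : Cfsg.IrrCharacter G, χ ∈ B ↔
        Cfsg.classInner (fun n : N => (χ : G → ℂ) n) (θ : N → ℂ) ≠ 0) ∧
      (∀ P : Sylow p G, Cfsg.IsDefectGroup p M B (P : Subgroup G)) ∧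
      (∀ D : Subgroup G, Cfsg.IsDefectGroup p M B D → ∃ P : Sylow p G, D = (P : Subgroup G)) ∧
      ∀ g : G, Cfsg.blockCoeff B g =
        Cfsg.subgroupBlockCoeff N ({θ} : Set (Cfsg.IrrCharacter N)) g := by
  classical
  have hMm := hM.2.1
  have hNp : ¬ p ∣ Nat.card N := by
    rw [hNdef]
    exact Cfsg.Agent.Helper5.not_dvd_card_pPrimeCore p
  -- `{θ}` is a block of `N`
  have hbs : Cfsg.blockOf M (θ : N → ℂ) = {θ} := by
    apply blockOf_eq_singleton_of_not_dvd hMm p hp.out hM.2.2 θ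
    intro h
    exact hNp (h.trans (Nat.div_dvd_of_dvd (charDegree_dvd_card θ.2)))
  have hb : Cfsg.IsPBlock M ({θ} : Set (Cfsg.IrrCharacter N)) := ⟨θ, hbs.symm⟩
  have hst : ∀ x : G, Cfsg.StabilizesBlock N ({θ} : Set (Cfsg.IrrCharacter N)) x := by
    intro x
    refine ⟨mem_normalizer_of_normal N x, ?_⟩
    intro χ hχ
    rw [Set.mem_singleton_iff] at hχ
    refine ⟨θ, rfl, ?_⟩
    rw [hχ]
    intro k k' hk
    have := hinv x k
    have e : k' = ⟨x * (k : G) * x⁻¹, hN.conj_mem k k.2 x⟩ := Subtype.ext hk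
    rw [e]
    exact this
  -- the subgroup `K = O_{p',p}(G)`
  obtain ⟨K, hKdef⟩ : ∃ K : Subgroup G, K = Cfsg.pPrimePCore p G := ⟨_, rfl⟩
  haveI hKn : K.Normal := by rw [hKdef]; exact Cfsg.Agent.Helper1.AG.pPrimePCore_normal'
  have hNK : N ≤ K := by
    rw [hKdef, hNdef]
    exact Cfsg.Agent.Helper1.AG.pPrimeCore_le_pPrimePCore'
  haveI : Fintype K := Fintype.ofFinite _
  haveI hNn : (N.subgroupOf K).Normal := inferInstance
  have hidx : ∃ k : ℕ, (N.subgroupOf K).index = p ^ k := by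
    rw [hKdef, hNdef]
    exact index_pPrimeCore_subgroupOf_pPrimePCore p
  obtain ⟨c', hc', hmem, hdefc'⟩ := pquot_cover_sub hM N K hNK hidx {θ} hb (fun x _ => hst x)
  obtain ⟨D₁, hD₁⟩ := exists_isDefectGroup hMm p c' hc'
  have hD₁p : IsPGroup p D₁ := IsDefectGroup.isPGroup hM c' hc' D₁ hD₁
  -- `D₁` is a Sylow subgroup of `K`
  have hNKp : ¬ p ∣ Nat.card (N.subgroupOf K) := by
    rw [Nat.card_congr (Subgroup.subgroupOfEquivOfLe hNK).toEquiv]
    exact hNp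
  have hcardD₁ : Nat.card D₁ = p ^ (Nat.card K).factorization p := by
    apply card_eq_of_not_dvd_index_sup p (N.subgroupOf K) D₁ hNKp hD₁p
    rw [hdefc' D₁ hD₁, Subgroup.index_top]
    exact hp.out.one_lt.ne' ∘ Nat.dvd_one.mp
  -- the centralizer of `D₁` lies in `K`
  have hC : Subgroup.centralizer ((D₁.map K.subtype : Subgroup G) : Set G) ≤ K := by
    subst hKdef
    have := hcon (Sylow.ofCard D₁ hcardD₁)
    rwa [Sylow.coe_ofCard] at this
  -- every block covering `{θ}` covers `c'`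
  have hcovc' : ∀ B' : Set (Cfsg.IrrCharacter G),
      (∃ χ ∈ B', ∃ θ' ∈ ({θ} : Set (Cfsg.IrrCharacter N)),
        Cfsg.classInner (fun n : N => (χ : G → ℂ) n) (θ' : N → ℂ) ≠ 0) →
      ∃ χ ∈ B', ∃ ψ ∈ c', Cfsg.classInner (fun n : K => (χ : G → ℂ) n) (ψ : K → ℂ) ≠ 0 := by
    rintro B' ⟨χ, hχ, θ', hθ', hne⟩
    rw [Set.mem_singleton_iff] at hθ'
    subst hθ'
    obtain ⟨ψ, hψ1, hψ2⟩ := exists_constituent_over N K hNK (χ : G → ℂ) χ.2 (θ' : N → ℂ) hne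
    exact ⟨χ, hχ, ψ, (hmem ψ).mpr ⟨θ', rfl, hψ2⟩, hψ1⟩
  have huniq : ∀ B₁ B₂ : Set (Cfsg.IrrCharacter G), Cfsg.IsPBlock M B₁ → Cfsg.IsPBlock M B₂ →
      (∃ χ ∈ B₁, ∃ θ' ∈ ({θ} : Set (Cfsg.IrrCharacter N)),
        Cfsg.classInner (fun n : N => (χ : G → ℂ) n) (θ' : N → ℂ) ≠ 0) →
      (∃ χ ∈ B₂, ∃ θ' ∈ ({θ} : Set (Cfsg.IrrCharacter N)),
        Cfsg.classInner (fun n : N => (χ : G → ℂ) n) (θ' : N → ℂ) ≠ 0) → B₁ = B₂ := by
    intro B₁ B₂ hB₁ hB₂ h1 h2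
    exact cover_unique_of_centralizer_le hM K c' hc' D₁ hD₁ hC B₁ B₂ hB₁ hB₂
      (hcovc' B₁ h1) (hcovc' B₂ h2)
  -- the block
  obtain ⟨χ₀, hχ₀⟩ := exists_irr_over N θ
  have hB : Cfsg.IsPBlock M (Cfsg.blockOf M (χ₀ : G → ℂ)) := ⟨χ₀, rfl⟩
  have hcov : ∃ χ ∈ Cfsg.blockOf M (χ₀ : G → ℂ), ∃ θ' ∈ ({θ} : Set (Cfsg.IrrCharacter N)),
      Cfsg.classInner (fun n : N => (χ : G → ℂ) n) (θ' : N → ℂ) ≠ 0 :=
    ⟨χ₀, mem_blockOf_self hMm χ₀, θ, rfl, hχ₀⟩
  have hBmem : ∀ χ : Cfsg.IrrCharacter G, χ ∈ Cfsg.blockOf M (χ₀ : G → ℂ) ↔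
      Cfsg.classInner (fun n : N => (χ : G → ℂ) n) (θ : N → ℂ) ≠ 0 := by
    intro χ
    constructor
    · intro hχ
      obtain ⟨θ', hθ', hne⟩ := cover_all hMm N {θ} hb _ hB hcov χ hχ
      rw [Set.mem_singleton_iff] at hθ'
      rw [← hθ']
      exact hne
    · intro hne
      have h1 := huniq (Cfsg.blockOf M (χ : G → ℂ)) _ ⟨χ, rfl⟩ hB
        ⟨χ, mem_blockOf_self hMm χ, θ, rfl, hne⟩ hcov
      rw [← h1]
      exact mem_blockOf_self hMm χ
  have hBL : Cfsg.blockOf M (χ₀ : G → ℂ) = lyingOver N ({θ} : Set (Cfsg.IrrCharacter N)) := by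
    ext χ
    rw [hBmem]
    constructor
    · intro h
      exact ⟨θ, rfl, h⟩
    · rintro ⟨θ', hθ', h⟩
      rw [Set.mem_singleton_iff] at hθ'
      rw [← hθ']
      exact h
  have hO := stable_of_stabilizesBlock N ({θ} : Set (Cfsg.IrrCharacter N)) hst
  have hcoef : ∀ g : G, Cfsg.blockCoeff (Cfsg.blockOf M (χ₀ : G → ℂ)) g =
      Cfsg.subgroupBlockCoeff N ({θ} : Set (Cfsg.IrrCharacter N)) g := by
    intro g
    rw [hBL, blockCoeff_lyingOver N _ hO g]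
    by_cases hg : g ∈ N
    · rw [subgroupBlockCoeff_of_mem N _ g hg, extendByZero_mem N _ hg]
    · rw [subgroupBlockCoeff_of_not_mem N _ g hg, extendByZero_not_mem N _ hg]
  have hsyl : ∀ D : Subgroup G, Cfsg.IsDefectGroup p M (Cfsg.blockOf M (χ₀ : G → ℂ)) D →
      Nat.card D = p ^ (Nat.card G).factorization p := by
    intro D hD
    have h1 := (defectGroup_of_stable_gen hM N {θ} hb hst _ hcoef D hD).1
    exact card_eq_of_not_dvd_index_sup p N D hNp (IsDefectGroup.isPGroup hM _ hB D hD) h1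
  refine ⟨Cfsg.blockOf M (χ₀ : G → ℂ), hB, hBmem, ?_, ?_, hcoef⟩
  · intro P
    obtain ⟨D₀, hD₀⟩ := exists_isDefectGroup hMm p _ hB
    obtain ⟨g, hg⟩ := MulAction.exists_smul_eq G (Sylow.ofCard D₀ (hsyl D₀ hD₀)) P
    have h1 := isDefectGroup_conj (M := M) (p := p) _ D₀ hD₀ g
    have h2 : (P : Subgroup G) = D₀.map (MulAut.conj g).toMonoidHom := by
      rw [← hg, Sylow.coe_subgroup_smul, Sylow.coe_ofCard]
      rfl
    rw [h2]
    exact h1
  · intro D hD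
    exact ⟨Sylow.ofCard D (hsyl D hD), (Sylow.coe_ofCard D (hsyl D hD)).symm⟩

end Cfsg.Agent.Helper6.FongPC
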