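import Mathlib
import Cfsg.Agent.Helper6.FongPC
import Cfsg.Agent.Helper2.PComp5

/-!
# `O_{p'}` of the centralizer of a `p`-subgroup of a `p`-constrained group
-/

set_option autoImplicit false
set_option linter.style.haveILetI false

namespace Cfsg.Agent.Helper6.FongPC

open Cfsg.Agent.Helper6

universe u

variable {G : Type u} [Group G]

/-- in a `p`-constrained group, `O_{p'}(C_G(R)) = O_{p'}(G) ∩ C_G(R)` for a `p`-subgroup `R` -/
theorem pPrimeCore_centralizer_eq [Finite G] (p : ℕ) [hp : Fact p.Prime]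
    (hG : Cfsg.IsPConstrained p G) (R : Subgroup G) (hR : IsPGroup p R) :
    Cfsg.pPrimeCore p ↥(Subgroup.centralizer (R : Set G)) =
      (Cfsg.pPrimeCore p G).subgroupOf (Subgroup.centralizer (R : Set G)) := by
  haveI hKn : (Cfsg.pPrimeCore p G).Normal := Cfsg.Agent.Helper1.pPrimeCore_normal p
  apply le_antisymm
  · -- `≤`
    have hG' := (Cfsg.Agent.Helper2.isPConstrained_iff p).mp hG
    have h1 := (Cfsg.Agent.Helper2.pLayer_normalizer_eq_bot p hG' R hR).2
    have hCN : Subgroup.centralizer (R : Set G) ≤ Subgroup.normalizer (R : Set G) :=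
      Subgroup.centralizer_le_normalizer _
    haveI hn : ((Subgroup.centralizer (R : Set G)).subgroupOf
        (Subgroup.normalizer (R : Set G))).Normal :=
      (Subgroup.normal_subgroupOf_iff_le_normalizer hCN).mpr
        (Cfsg.Agent.Helper5.normalizer_le_normalizer_centralizer R)
    have h2 := Cfsg.Agent.Helper2.pPrimeCore_normal_le p
      ((Subgroup.centralizer (R : Set G)).subgroupOf (Subgroup.normalizer (R : Set G)))
    have h3 := Cfsg.Agent.Helper2.pPrimeCore_map_equiv p
      (Subgroup.subgroupOfEquivOfLe hCN).symm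
    intro c hc
    rw [Subgroup.mem_subgroupOf]
    apply h1
    have hc' : (Subgroup.subgroupOfEquivOfLe hCN).symm c ∈
        Cfsg.pPrimeCore p ↥((Subgroup.centralizer (R : Set G)).subgroupOf
          (Subgroup.normalizer (R : Set G))) := by
      rw [← h3]
      exact ⟨c, hc, rfl⟩
    have h4 := h2 ⟨_, hc', rfl⟩
    exact ⟨_, h4, rfl⟩
  · apply Cfsg.Agent.Helper5.le_pPrimeCore inferInstance
    rw [Cfsg.Agent.Helper1.card_subgroupOf]
    exact Nat.Coprime.coprime_dvd_left (Subgroup.card_dvd_of_le inf_le_left)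
      (Cfsg.Agent.Helper1.card_pPrimeCore_coprime p)

end Cfsg.Agent.Helper6.FongPC
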