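import Mathlib
import Cfsg.Agent.Helper6.FongPD
import Cfsg.Agent.Helper6.BlockCover1

/-!
# Weighted sums of an irreducible character over a normal subgroup
-/

set_option autoImplicit false
set_option linter.style.haveILetI false

namespace Cfsg.Agent.Helper6.FongPC

open Cfsg.Agent.Helper6

universe u

variable {H : Type u} [Group H]

/-- Clifford: an invariant weighted sum of `ξ / ξ 1` over a normal subgroup only sees one
constituent of the restriction -/
theorem sum_weight_div_degree [Fintype H] (A : Subgroup H) [hA : A.Normal] [Fintype A]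
    (ξ : Cfsg.IrrCharacter H) (η : Cfsg.IrrCharacter A)
    (hconst : Cfsg.classInner (fun a : A => (ξ : H → ℂ) a) (η : A → ℂ) ≠ 0)
    (β : A → ℂ) (hβ : ∀ (h : H) (a : A), β ⟨h * a * h⁻¹, hA.conj_mem a a.2 h⟩ = β a) :
    ∑ a : A, β a * (ξ : H → ℂ) a / (ξ : H → ℂ) 1 =
      ∑ a : A, β a * (η : A → ℂ) a / (η : A → ℂ) 1 := by
  classical
  obtain ⟨c, hc⟩ := clifford_functional A (ξ : H → ℂ) ξ.2 (η : A → ℂ) η.2 hconst
  -- evaluation at `1`
  let L₁ : (A → ℂ) →ₗ[ℂ] ℂ := LinearMap.proj (1 : A)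
  have h1 := hc L₁ (fun g => by
    show conjFun A (η : A → ℂ) g 1 = (η : A → ℂ) 1
    unfold conjFun
    have e : (⟨g * ((1 : A) : H) * g⁻¹, hA.conj_mem _ (1 : A).2 g⟩ : A) = 1 := by
      apply Subtype.ext
      simp
    rw [e])
  have h1' : (ξ : H → ℂ) 1 = c * (η : A → ℂ) 1 := h1
  -- the weighted sum
  let L₂ : (A → ℂ) →ₗ[ℂ] ℂ := ∑ a : A, β a • LinearMap.proj a
  have hL₂ : ∀ φ : A → ℂ, L₂ φ = ∑ a : A, β a * φ a := by
    intro φ
    simp [L₂, LinearMap.sum_apply]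
  have h2 := hc L₂ (fun g => by
    rw [hL₂, hL₂]
    unfold conjFun
    refine Fintype.sum_equiv (MulAut.conjNormal g : A ≃* A).toEquiv _ _ ?_
    intro a
    have e : ((MulAut.conjNormal g : A ≃* A).toEquiv a) =
        ⟨g * a * g⁻¹, hA.conj_mem a a.2 g⟩ := by
      apply Subtype.ext
      simp [MulAut.conjNormal_apply]
    rw [e, hβ g a])
  rw [hL₂, hL₂] at h2
  have hξ1 : (ξ : H → ℂ) 1 ≠ 0 := IsIrrCharacter.apply_one_ne_zero ξ.2
  have hc0 : c ≠ 0 := by
    intro h0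
    rw [h0, zero_mul] at h1'
    exact hξ1 h1'
  have hη1 : (η : A → ℂ) 1 ≠ 0 := by
    intro h0
    rw [h0, mul_zero] at h1'
    exact hξ1 h1'
  simp_rw [div_eq_mul_inv]
  rw [← Finset.sum_mul, ← Finset.sum_mul]
  have h2' : ∑ a : A, β a * (ξ : H → ℂ) (a : H) = c * ∑ a : A, β a * (η : A → ℂ) a := h2
  rw [h2', h1']
  field_simp

end Cfsg.Agent.Helper6.FongPC
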