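import Mathlib
import Cfsg.Agent.Helper6.FongPE

/-!
# The Brauer-map value of the idempotent of an invariant character of a normal subgroup
-/

set_option autoImplicit false
set_option linter.style.haveILetI false

namespace Cfsg.Agent.Helper6.FongPC

open Cfsg.Agent.Helper6
open scoped ComplexConjugate

universe u

variable {G : Type u} [Group G]

/-- sum over a group of a function vanishing off a subgroup -/
theorem sum_eq_sum_subgroup {H : Type*} [Group H] [Fintype H] (A : Subgroup H) [Fintype A]
    (F : H → ℂ) (hF : ∀ x : H, x ∉ A → F x = 0) : ∑ x : H, F x = ∑ a : A, F a := by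
  classical
  rw [← Finset.sum_filter_of_ne (p := fun x => x ∈ A) (s := Finset.univ) (f := F)]
  · refine Finset.sum_subtype (Finset.univ.filter (fun x => x ∈ A)) ?_ F
    intro x
    simp
  · intro x _ hx
    by_contra hcon
    exact hx (hF x hcon)

/-- the value of `brauerOmega` at the idempotent of an invariant irreducible character `θ` of a
normal subgroup `K`, in terms of a constituent of the restriction to `K ∩ C_G(R)` -/
theorem brauerOmega_eq_of_constituent [Fintype G] (K : Subgroup G) [hK : K.Normal] [Fintype K]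
    (θ : Cfsg.IrrCharacter K)
    (hinv : ∀ (g : G) (n : K),
      (θ : K → ℂ) ⟨g * n * g⁻¹, hK.conj_mem n n.2 g⟩ = (θ : K → ℂ) n)
    (R : Subgroup G) [Fintype (Subgroup.centralizer (R : Set G))]
    [Fintype (K.subgroupOf (Subgroup.centralizer (R : Set G)))]
    (βf : G → ℂ) (hβ : ∀ g, βf g = Cfsg.subgroupBlockCoeff K ({θ} : Set (Cfsg.IrrCharacter K)) g)
    (ξ : Cfsg.IrrCharacter (Subgroup.centralizer (R : Set G)))
    (η : Cfsg.IrrCharacter (K.subgroupOf (Subgroup.centralizer (R : Set G))))
    (hconst : Cfsg.classInner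
      (fun a : K.subgroupOf (Subgroup.centralizer (R : Set G)) =>
        (ξ : Subgroup.centralizer (R : Set G) → ℂ) a)
      (η : K.subgroupOf (Subgroup.centralizer (R : Set G)) → ℂ) ≠ 0) :
    Cfsg.brauerOmega R βf (ξ : Subgroup.centralizer (R : Set G) → ℂ) =
      (Nat.card K : ℂ)⁻¹ * (θ : K → ℂ) 1 *
        (Nat.card (K.subgroupOf (Subgroup.centralizer (R : Set G))) : ℂ) *
        Cfsg.classInner (η : K.subgroupOf (Subgroup.centralizer (R : Set G)) → ℂ)
          (fun a => (θ : K → ℂ) ⟨((a : Subgroup.centralizer (R : Set G)) : G),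
            Subgroup.mem_subgroupOf.mp a.2⟩) /
        (η : K.subgroupOf (Subgroup.centralizer (R : Set G)) → ℂ) 1 := by
  classical
  unfold Cfsg.brauerOmega
  rw [finsum_eq_sum_of_fintype]
  rw [sum_eq_sum_subgroup (K.subgroupOf (Subgroup.centralizer (R : Set G)))
    (fun x : Subgroup.centralizer (R : Set G) => βf x *
      (ξ : Subgroup.centralizer (R : Set G) → ℂ) x /
      (ξ : Subgroup.centralizer (R : Set G) → ℂ) 1)]
  swap
  · intro x hx
    have hxK : (x : G) ∉ K := fun h => hx (Subgroup.mem_subgroupOf.mpr h)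
    show βf x * _ / _ = 0
    rw [hβ, subgroupBlockCoeff_of_not_mem K _ _ hxK, zero_mul, zero_div]
  have hA : (K.subgroupOf (Subgroup.centralizer (R : Set G))).Normal := inferInstance
  have e1 : ∀ a : K.subgroupOf (Subgroup.centralizer (R : Set G)),
      βf ((a : Subgroup.centralizer (R : Set G)) : G) =
        (Nat.card K : ℂ)⁻¹ * ((θ : K → ℂ) 1 * conj ((θ : K → ℂ)
          ⟨((a : Subgroup.centralizer (R : Set G)) : G), Subgroup.mem_subgroupOf.mp a.2⟩)) := by
    intro a
    rw [hβ, subgroupBlockCoeff_of_mem K _ _ (Subgroup.mem_subgroupOf.mp a.2), blockCoeff_singleton]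
  have h1 := sum_weight_div_degree (K.subgroupOf (Subgroup.centralizer (R : Set G))) ξ η hconst
    (fun a => βf ((a : Subgroup.centralizer (R : Set G)) : G)) (fun h a => by
      rw [e1, e1]
      congr 3
      exact hinv (h : G) ⟨((a : Subgroup.centralizer (R : Set G)) : G),
        Subgroup.mem_subgroupOf.mp a.2⟩)
  rw [h1]
  simp_rw [e1]
  unfold Cfsg.classInner
  have hcard : (Nat.card (K.subgroupOf (Subgroup.centralizer (R : Set G))) : ℂ) ≠ 0 := by
    exact_mod_cast Nat.card_pos.ne'
  rw [Finset.mul_sum, Finset.mul_sum, Finset.sum_div]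
  apply Finset.sum_congr rfl
  intro a _
  field_simp

end Cfsg.Agent.Helper6.FongPC
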