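import Mathlib
import Cfsg.Agent.Helper6.FongPF
import Cfsg.Agent.Helper6.LocalTransport
import Cfsg.Agent.Helper6.Constituent
import Cfsg.Agent.S4444

/-!
# The Glauberman correspondent inside the centralizer of a `p`-subgroup
-/

set_option autoImplicit false
set_option linter.style.haveILetI false

namespace Cfsg.Agent.Helper6.FongPC

open Cfsg.Agent.Helper6
open scoped ComplexConjugate

universe u

variable {G : Type u} [Group G]

/-- `K.subgroupOf C ≃* K ⊓ C` -/
def subgroupOfInfEquiv (K C : Subgroup G) : K.subgroupOf C ≃* (K ⊓ C : Subgroup G) where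
  toFun a := ⟨((a : C) : G), ⟨Subgroup.mem_subgroupOf.mp a.2, (a : C).2⟩⟩
  invFun c := ⟨⟨(c : G), c.2.2⟩, Subgroup.mem_subgroupOf.mpr c.2.1⟩
  left_inv a := by
    apply Subtype.ext
    apply Subtype.ext
    rfl
  right_inv c := by
    apply Subtype.ext
    rfl
  map_mul' a b := by
    apply Subtype.ext
    rfl

theorem coe_subgroupOfInfEquiv (K C : Subgroup G) (a : K.subgroupOf C) :
    ((subgroupOfInfEquiv K C a : (K ⊓ C : Subgroup G)) : G) = ((a : C) : G) := rfl

/-- the Glauberman correspondent of an `R`-invariant irreducible character of the normal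
`p'`-subgroup `K`, as a character of `K.subgroupOf (C_G(R))` -/
theorem exists_glauberman_subgroupOf [Fintype G] {p : ℕ} [hp : Fact p.Prime]
    (K : Subgroup G) [hK : K.Normal] [Fintype K] (hKp : ¬ p ∣ Nat.card K)
    (R : Subgroup G) (hR : IsPGroup p R)
    [Fintype (K.subgroupOf (Subgroup.centralizer (R : Set G)))]
    (θ : Cfsg.IrrCharacter K)
    (hinv : ∀ (g : G) (n : K),
      (θ : K → ℂ) ⟨g * n * g⁻¹, hK.conj_mem n n.2 g⟩ = (θ : K → ℂ) n) :
    ∃ θ' : Cfsg.IrrCharacter (K.subgroupOf (Subgroup.centralizer (R : Set G))),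
      (∃ m : ℕ, Cfsg.classInner
        (fun a : K.subgroupOf (Subgroup.centralizer (R : Set G)) =>
          (θ : K → ℂ) ⟨((a : Subgroup.centralizer (R : Set G)) : G),
            Subgroup.mem_subgroupOf.mp a.2⟩)
        (θ' : K.subgroupOf (Subgroup.centralizer (R : Set G)) → ℂ) = (m : ℂ) ∧ ¬ p ∣ m) ∧
      ∀ η : Cfsg.IrrCharacter (K.subgroupOf (Subgroup.centralizer (R : Set G))), ∀ m : ℕ,
        Cfsg.classInner
          (fun a : K.subgroupOf (Subgroup.centralizer (R : Set G)) =>
            (θ : K → ℂ) ⟨((a : Subgroup.centralizer (R : Set G)) : G),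
              Subgroup.mem_subgroupOf.mp a.2⟩)
          (η : K.subgroupOf (Subgroup.centralizer (R : Set G)) → ℂ) = (m : ℂ) → ¬ p ∣ m →
        η = θ' := by
  classical
  haveI : Fintype (K ⊓ Subgroup.centralizer (R : Set G) : Subgroup G) := Fintype.ofFinite _
  have hCG : K ⊓ Subgroup.centralizer (R : Set G) ≤ K := inf_le_left
  have hcop : (Nat.card K).Coprime (Nat.card R) := by
    obtain ⟨n, hn⟩ := IsPGroup.iff_card.mp hR
    rw [hn]
    exact Nat.Coprime.pow_right _
      ((Nat.Prime.coprime_iff_not_dvd hp.out).mpr hKp).symm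
  have S := (Cfsg.Agent.S4444.result K R (fun s _ g hg => hK.conj_mem g hg s) hcop p hp.out hR
    (K ⊓ Subgroup.centralizer (R : Set G)) rfl hCG).1 θ (fun s _ g g' hgg' => by
      have := hinv s g
      have e : g' = ⟨s * (g : G) * s⁻¹, hK.conj_mem g g.2 s⟩ := Subtype.ext hgg'
      rw [e]
      exact this)
  obtain ⟨β, ⟨m, hm, hpm⟩, huniq⟩ := S
  set φ := subgroupOfInfEquiv K (Subgroup.centralizer (R : Set G)) with hφ
  have key : ∀ η : Cfsg.IrrCharacter (K ⊓ Subgroup.centralizer (R : Set G) : Subgroup G),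
      Cfsg.classInner
        (fun a : K.subgroupOf (Subgroup.centralizer (R : Set G)) =>
          (θ : K → ℂ) ⟨((a : Subgroup.centralizer (R : Set G)) : G),
            Subgroup.mem_subgroupOf.mp a.2⟩)
        (irrComp φ η : K.subgroupOf (Subgroup.centralizer (R : Set G)) → ℂ) =
      Cfsg.classInner (fun c : (K ⊓ Subgroup.centralizer (R : Set G) : Subgroup G) =>
        (θ : K → ℂ) ⟨c, hCG c.2⟩) (η : _ → ℂ) := by
    intro η
    rw [← classInner_comp_equiv' φ.toEquiv]
    rfl
  refine ⟨irrComp φ β, ⟨m, ?_, hpm⟩, ?_⟩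
  · rw [key]
    exact hm
  · intro η m' hm' hpm'
    have h1 : irrComp φ.symm η = β := by
      apply huniq
      refine ⟨m', ?_, hpm'⟩
      rw [← key, irrComp_symm_cancel]
      exact hm'
    rw [← h1, irrComp_symm_cancel]

end Cfsg.Agent.Helper6.FongPC
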