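import Mathlib
import Cfsg.Agent.Helper6.FongPG
import Cfsg.Agent.Helper6.FreeActionNilpotent
import Cfsg.Agent.Helper6.NormalComplementBlock2
import Cfsg.Agent.Helper6.DefectOrder
import Cfsg.Agent.Helper6.Induced
import Cfsg.Agent.Helper6.BlockPart

/-!
# Blocks of principal type over an invariant character of `O_{p'}` of a `p`-constrained group
-/

set_option autoImplicit false
set_option linter.style.haveILetI false

namespace Cfsg.Agent.Helper6.FongPC

open Cfsg.Agent.Helper6
open scoped ComplexConjugate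

universe u

variable {G : Type u} [Group G] {M : Ideal Cfsg.AlgInt}

/-- uniqueness of the block of `C_G(R)` inducing the block over an invariant character of
`O_{p'}(G)`, `G` a `p`-constrained group -/
theorem induced_unique_of_pconstrained [Fintype G] {p : ℕ} [hp : Fact p.Prime]
    (hM : Cfsg.IsPModular p M) (hcon : Cfsg.IsPConstrained p G)
    (K : Subgroup G) [hK : K.Normal] [Fintype K] (hKdef : K = Cfsg.pPrimeCore p G)
    (θ : Cfsg.IrrCharacter K)
    (hinv : ∀ (g : G) (n : K),
      (θ : K → ℂ) ⟨g * n * g⁻¹, hK.conj_mem n n.2 g⟩ = (θ : K → ℂ) n)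
    (B : Set (Cfsg.IrrCharacter G))
    (hcoef : ∀ g : G, Cfsg.blockCoeff B g =
      Cfsg.subgroupBlockCoeff K ({θ} : Set (Cfsg.IrrCharacter K)) g)
    (R : Subgroup G) (hR : IsPGroup p R) :
    ∃ B' : Set (Cfsg.IrrCharacter (Subgroup.centralizer (R : Set G))),
      ∀ f : Set (Cfsg.IrrCharacter (Subgroup.centralizer (R : Set G))),
        Cfsg.IsInducedBlock M (Subgroup.centralizer (R : Set G)) f B → f = B' := by
  classical
  haveI : Fintype (Subgroup.centralizer (R : Set G)) := Fintype.ofFinite _
  haveI : Fintype (K.subgroupOf (Subgroup.centralizer (R : Set G))) := Fintype.ofFinite _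
  have hKp : ¬ p ∣ Nat.card K := by
    rw [hKdef]
    exact Cfsg.Agent.Helper5.not_dvd_card_pPrimeCore p
  obtain ⟨θ', ⟨m, hm, hpm⟩, huniq⟩ := exists_glauberman_subgroupOf K hKp R hR θ hinv
  haveI hAn : (K.subgroupOf (Subgroup.centralizer (R : Set G))).Normal := inferInstance
  -- `θ'` is invariant
  have hinv' : ∀ (c : Subgroup.centralizer (R : Set G))
      (a : K.subgroupOf (Subgroup.centralizer (R : Set G))),
      (θ' : K.subgroupOf (Subgroup.centralizer (R : Set G)) → ℂ)
        ⟨c * a * c⁻¹, hAn.conj_mem a a.2 c⟩ =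
      (θ' : K.subgroupOf (Subgroup.centralizer (R : Set G)) → ℂ) a := by
    intro c a
    have hirr := conjFun_isIrr (K.subgroupOf (Subgroup.centralizer (R : Set G))) θ'.2 c
    have h1 : Cfsg.classInner
        (fun a : K.subgroupOf (Subgroup.centralizer (R : Set G)) =>
          (θ : K → ℂ) ⟨((a : Subgroup.centralizer (R : Set G)) : G),
            Subgroup.mem_subgroupOf.mp a.2⟩)
        (conjFun (K.subgroupOf (Subgroup.centralizer (R : Set G)))
          (θ' : K.subgroupOf (Subgroup.centralizer (R : Set G)) → ℂ) c) = (m : ℂ) := by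
      have h2 := classInner_conjFun (K.subgroupOf (Subgroup.centralizer (R : Set G)))
        (fun a : K.subgroupOf (Subgroup.centralizer (R : Set G)) =>
          (θ : K → ℂ) ⟨((a : Subgroup.centralizer (R : Set G)) : G),
            Subgroup.mem_subgroupOf.mp a.2⟩)
        (θ' : K.subgroupOf (Subgroup.centralizer (R : Set G)) → ℂ) c
      have e : conjFun (K.subgroupOf (Subgroup.centralizer (R : Set G)))
          (fun a : K.subgroupOf (Subgroup.centralizer (R : Set G)) =>
            (θ : K → ℂ) ⟨((a : Subgroup.centralizer (R : Set G)) : G),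
              Subgroup.mem_subgroupOf.mp a.2⟩) c =
          (fun a : K.subgroupOf (Subgroup.centralizer (R : Set G)) =>
            (θ : K → ℂ) ⟨((a : Subgroup.centralizer (R : Set G)) : G),
              Subgroup.mem_subgroupOf.mp a.2⟩) := by
        funext a
        exact hinv (c : G) ⟨((a : Subgroup.centralizer (R : Set G)) : G),
          Subgroup.mem_subgroupOf.mp a.2⟩
      rw [e] at h2
      rw [h2]
      exact hm
    have h3 := huniq ⟨_, hirr⟩ m h1 hpm
    exact congrFun (congrArg Subtype.val h3) a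
  have hconC : Cfsg.IsPConstrained p ↥(Subgroup.centralizer (R : Set G)) :=
    (Cfsg.Agent.Helper2.isPConstrained_local p hcon R hR).2
  have hAdef : K.subgroupOf (Subgroup.centralizer (R : Set G)) =
      Cfsg.pPrimeCore p ↥(Subgroup.centralizer (R : Set G)) := by
    rw [hKdef]
    exact (pPrimeCore_centralizer_eq p hcon R hR).symm
  obtain ⟨B', hB', hB'mem, -, -, -⟩ := fong_pconstrained hM hconC
    (K.subgroupOf (Subgroup.centralizer (R : Set G))) hAdef θ' hinv'
  refine ⟨B', fun f hf => ?_⟩
  have hpair := isBrauerPairOf_of_isInducedBlock hM B R hR f hf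
  obtain ⟨ξ₀, hξ₀⟩ := hf.1
  have hξ₀f : ξ₀ ∈ f := by rw [hξ₀]; exact mem_blockOf_self hM.2.1 ξ₀
  have hξ₀B' : ξ₀ ∈ B' := by
    rw [hB'mem]
    obtain ⟨η, hη⟩ := exists_constituent_restrict
      (K.subgroupOf (Subgroup.centralizer (R : Set G))) ξ₀
    have hom := hpair.2.2 ξ₀ hξ₀f
    rw [brauerOmega_eq_of_constituent K θ hinv R (Cfsg.blockCoeff B) hcoef ξ₀ η hη] at hom
    have hθA : Cfsg.IsCharacter (K.subgroupOf (Subgroup.centralizer (R : Set G)))
        (fun a : K.subgroupOf (Subgroup.centralizer (R : Set G)) =>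
          (θ : K → ℂ) ⟨((a : Subgroup.centralizer (R : Set G)) : G),
            Subgroup.mem_subgroupOf.mp a.2⟩) := by
      have h1 := IsCharacter.comp_hom
        ((Subgroup.inclusion (inf_le_left : K ⊓ Subgroup.centralizer (R : Set G) ≤ K)).comp
          (subgroupOfInfEquiv K (Subgroup.centralizer (R : Set G))).toMonoidHom)
        (IsIrrCharacter.isCharacter θ.2)
      exact h1
    obtain ⟨m', hm'⟩ := classInner_char_char_nat hθA (IsIrrCharacter.isCharacter η.2)
    by_cases hpm' : p ∣ m'
    · exfalso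
      have hsym := classInner_conj_symm
        (fun a : K.subgroupOf (Subgroup.centralizer (R : Set G)) =>
          (θ : K → ℂ) ⟨((a : Subgroup.centralizer (R : Set G)) : G),
            Subgroup.mem_subgroupOf.mp a.2⟩)
        (η : K.subgroupOf (Subgroup.centralizer (R : Set G)) → ℂ)
      rw [hm', Complex.conj_natCast] at hsym
      rw [hsym] at hom
      obtain ⟨k, rfl⟩ := hpm'
      obtain ⟨e, he⟩ := charDegree_dvd_card η.2
      have hη1 := charDegree_cast_of_isCharacter (IsIrrCharacter.isCharacter η.2)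
      have hθ1 := charDegree_cast_of_isCharacter (IsIrrCharacter.isCharacter θ.2)
      have hd0 : (Cfsg.charDegree (η : K.subgroupOf (Subgroup.centralizer (R : Set G)) → ℂ) : ℂ)
          ≠ 0 := by
        rw [hη1]
        exact IsIrrCharacter.apply_one_ne_zero η.2
      have hval := memLocalIdeal_prime_mul_div hM.2.1 p hp.out hM.2.2 (e * k) (Nat.card K) hKp
        ((θ : K → ℂ) 1) (by rw [← hθ1]; exact (isIntegral_natCast (R := ℤ) (B := ℂ) _))
      have heq : (Nat.card K : ℂ)⁻¹ * (θ : K → ℂ) 1 *
          (Nat.card (K.subgroupOf (Subgroup.centralizer (R : Set G))) : ℂ) *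
          ((p * k : ℕ) : ℂ) /
          (η : K.subgroupOf (Subgroup.centralizer (R : Set G)) → ℂ) 1 =
          (p : ℂ) * ((e * k : ℕ) : ℂ) * (θ : K → ℂ) 1 / (Nat.card K : ℂ) := by
        rw [he, ← hη1]
        push_cast
        field_simp
      rw [heq] at hom
      have := MemLocalIdeal.sub hM.2.1 hval hom
      rw [sub_sub_cancel] at this
      exact not_memLocalIdeal_one this
    · have h4 := huniq η m' hm' hpm'
      rw [← h4]
      exact hη
  rw [hξ₀, eq_blockOf_of_mem hM.2.1 B' hB' ξ₀ hξ₀B']

end Cfsg.Agent.Helper6.FongPC
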