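import Mathlib
import Cfsg.Prelude.Def_Characters
import Cfsg.Agent.Helper6.FourTrD
import Cfsg.Agent.Helper6.NormOne

/-!
# Three irreducible characters of a 4-transitive group

For a finite group `G` acting 4-transitively on a set `α` with at least four points, with
`f(g)` the number of fixed points and `s(g)` the number of points in 2-cycles, the class functions
`f - 1`, `(f² - 3f + s)/2` and `(f² - 3f + 2 - s)/2` are irreducible characters of `G`.
-/

set_option autoImplicit false
set_option linter.style.haveILetI false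

namespace Cfsg.Agent.Helper6.FourTr

open Finset
open scoped Pointwise ComplexConjugate

universe u v

variable {G : Type u} [Group G] [Fintype G] {α : Type v} [Fintype α] [DecidableEq α]
  [MulAction G α]

/-- `f - 1` -/
noncomputable def stdF (α : Type v) [Fintype α] [DecidableEq α] [MulAction G α] : G → ℂ :=
  fun g => fN α g - 1

/-- `(f² - 3f + s)/2` -/
noncomputable def aF (α : Type v) [Fintype α] [DecidableEq α] [MulAction G α] : G → ℂ :=
  fun g => (fN α g * fN α g - 3 * fN α g + sN α g) / 2

/-- `(f² - 3f + 2 - s)/2` -/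
noncomputable def bF (α : Type v) [Fintype α] [DecidableEq α] [MulAction G α] : G → ℂ :=
  fun g => (fN α g * fN α g - 3 * fN α g + 2 - sN α g) / 2

theorem isCharacter_fN : Cfsg.IsCharacter G (fun g : G => fN α g) := by
  have h := isCharacter_permChar (G := G) α
  have : (fun g : G => (Nat.card (MulAction.fixedBy α g) : ℂ)) = fun g : G => fN α g := by
    funext g
    rw [card_fixedBy_eq]
    rfl
  rwa [this] at h

/-- the permutation character on 2-subsets -/
noncomputable def p2F (α : Type v) [Fintype α] [DecidableEq α] [MulAction G α] : G → ℂ :=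
  fun g => ((pairS (α := α) g).card : ℂ)

theorem isCharacter_p2F : Cfsg.IsCharacter G (p2F (G := G) α) := by
  have h := isCharacter_permChar (G := G) (Set.powersetCard α 2)
  have : (fun g : G => (Nat.card (MulAction.fixedBy (Set.powersetCard α 2) g) : ℂ))
      = p2F (G := G) α := by
    funext g
    rw [card_fixedBy_pairs_eq]
    rfl
  rwa [this] at h

theorem two_mul_p2F (g : G) :
    2 * p2F α g = fN α g * fN α g - fN α g + sN α g := by
  have h := two_mul_card_pairS (α := α) g
  have h2 := congrArg (fun n : ℕ => (n : ℂ)) h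
  simp only [Nat.cast_mul, Nat.cast_add, Nat.cast_ofNat] at h2
  rw [offDiag_card, Nat.cast_sub (Nat.le_mul_self _), Nat.cast_mul] at h2
  exact h2

theorem isGeneralizedCharacter_stdF : Cfsg.IsGeneralizedCharacter G (stdF (G := G) α) :=
  ⟨fun g => fN α g, fun _ => 1, isCharacter_fN, Cfsg.Agent.Helper6.isCharacter_one, rfl⟩

theorem isGeneralizedCharacter_aF : Cfsg.IsGeneralizedCharacter G (aF (G := G) α) := by
  refine ⟨p2F α, fun g => fN α g, isCharacter_p2F, isCharacter_fN, ?_⟩
  funext g
  have h := two_mul_p2F (α := α) g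
  show aF α g = p2F α g - fN α g
  unfold aF
  linear_combination (-1 / 2 : ℂ) * h

theorem isGeneralizedCharacter_bF : Cfsg.IsGeneralizedCharacter G (bF (G := G) α) := by
  refine ⟨(fun g => fN α g) * (fun g => fN α g) + fun _ => 1,
    ((fun g => fN α g) + fun g => fN α g) + p2F α, ?_, ?_, ?_⟩
  · exact Cfsg.Agent.Helper6.IsCharacter.add
      (Cfsg.Agent.Helper6.IsCharacter.mul isCharacter_fN isCharacter_fN)
      Cfsg.Agent.Helper6.isCharacter_one
  · exact Cfsg.Agent.Helper6.IsCharacter.add
      (Cfsg.Agent.Helper6.IsCharacter.add isCharacter_fN isCharacter_fN) isCharacter_p2F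
  · funext g
    have h := two_mul_p2F (α := α) g
    show bF α g = (fN α g * fN α g + 1) - ((fN α g + fN α g) + p2F α g)
    unfold bF
    linear_combination (1 / 2 : ℂ) * h

theorem conj_fN (g : G) : conj (fN α g) = fN α g := by
  unfold fN
  exact Complex.conj_natCast _

theorem conj_sN (g : G) : conj (sN α g) = sN α g := by
  unfold sN
  exact Complex.conj_natCast _

theorem classInner_of_sum {θ : G → ℂ} (hreal : ∀ g, conj (θ g) = θ g)
    (hsum : ∑ g : G, θ g * θ g = Fintype.card G) : Cfsg.classInner θ θ = 1 := by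
  unfold Cfsg.classInner
  simp only [hreal]
  rw [hsum, Nat.card_eq_fintype_card]
  have : (Fintype.card G : ℂ) ≠ 0 := by
    exact_mod_cast Fintype.card_ne_zero
  field_simp

section norms

variable [h4t : MulAction.IsMultiplyPretransitive G α 4]

theorem classInner_stdF (h4 : 4 ≤ Fintype.card α) :
    Cfsg.classInner (stdF (G := G) α) (stdF (G := G) α) = 1 := by
  apply classInner_of_sum
  · intro g
    unfold stdF
    rw [map_sub, conj_fN, map_one]
  · have m1 := mom1 (G := G) (α := α) h4
    have m2 := mom2 (G := G) (α := α) h4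
    have : ∀ g : G, stdF α g * stdF α g
        = fN α g * (fN α g - 1) - fN α g + 1 := by
      intro g; unfold stdF; ring
    simp only [this, sum_add_distrib, sum_sub_distrib, m1, m2]
    simp

theorem classInner_aF (h4 : 4 ≤ Fintype.card α) :
    Cfsg.classInner (aF (G := G) α) (aF (G := G) α) = 1 := by
  apply classInner_of_sum
  · intro g
    unfold aF
    simp only [map_div₀, map_add, map_sub, map_mul, conj_fN, conj_sN, map_ofNat]
  · have m1 := mom1 (G := G) (α := α) h4
    have m2 := mom2 (G := G) (α := α) h4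
    have m4 := mom4 (G := G) (α := α) h4
    have t1 := tw1 (G := G) (α := α) h4
    have t2 := tw2 (G := G) (α := α) h4
    have t3 := tw3 (G := G) (α := α) h4
    have t4 := tw4 (G := G) (α := α) h4
    have : ∀ g : G, aF α g * aF α g
        = (1 / 4 : ℂ) * (fN α g * (fN α g - 1) * (fN α g - 2) * (fN α g - 3))
          - (1 / 2 : ℂ) * (fN α g * (fN α g - 1)) + fN α g
          + (1 / 2 : ℂ) * (fN α g * (fN α g - 1) * sN α g) - (fN α g * sN α g)
          + (1 / 4 : ℂ) * (sN α g * sN α g - 2 * sN α g) + (1 / 2 : ℂ) * sN α g := by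
      intro g; unfold aF; ring
    simp only [this, sum_add_distrib, sum_sub_distrib, ← mul_sum, m1, m2, m4, t1, t2, t3, t4]
    ring

theorem classInner_bF (h4 : 4 ≤ Fintype.card α) :
    Cfsg.classInner (bF (G := G) α) (bF (G := G) α) = 1 := by
  apply classInner_of_sum
  · intro g
    unfold bF
    simp only [map_div₀, map_add, map_sub, map_mul, conj_fN, conj_sN, map_ofNat]
  · have m1 := mom1 (G := G) (α := α) h4
    have m2 := mom2 (G := G) (α := α) h4
    have m4 := mom4 (G := G) (α := α) h4
    have t1 := tw1 (G := G) (α := α) h4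
    have t2 := tw2 (G := G) (α := α) h4
    have t3 := tw3 (G := G) (α := α) h4
    have t4 := tw4 (G := G) (α := α) h4
    have : ∀ g : G, bF α g * bF α g
        = (1 / 4 : ℂ) * (fN α g * (fN α g - 1) * (fN α g - 2) * (fN α g - 3))
          + (1 / 2 : ℂ) * (fN α g * (fN α g - 1)) - fN α g + 1
          - (1 / 2 : ℂ) * (fN α g * (fN α g - 1) * sN α g) + (fN α g * sN α g)
          + (1 / 4 : ℂ) * (sN α g * sN α g - 2 * sN α g) - (1 / 2 : ℂ) * sN α g := by
      intro g; unfold bF; ring
    simp only [this, sum_add_distrib, sum_sub_distrib, ← mul_sum, m1, m2, m4, t1, t2, t3, t4]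
    simp
    ring

end norms

theorem fN_one : fN (G := G) α 1 = Fintype.card α := by
  unfold fN fixS
  simp

theorem sN_one : sN (G := G) α 1 = 0 := by
  unfold sN swS
  simp

omit [Fintype G] in
/-- A generalized character of norm one and positive degree is irreducible. -/
theorem isIrr_of_genchar_norm_one [Fintype G] {θ : G → ℂ}
    (hθ : Cfsg.IsGeneralizedCharacter G θ)
    (hn : Cfsg.classInner θ θ = 1) (c k : ℕ) (hk : 0 < k) (h1 : (c : ℂ) * θ 1 = k) :
    Cfsg.IsIrrCharacter G θ := by
  obtain ⟨χ, hχ, h | h⟩ := Cfsg.Agent.Helper6.exists_signed_irr_of_norm_one hθ hn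
  · rw [h]; exact hχ
  · exfalso
    obtain ⟨m, hm⟩ := Cfsg.Agent.Helper6.IsCharacter.apply_one
      (Cfsg.Agent.Helper6.IsIrrCharacter.isCharacter hχ)
    have h2 : θ 1 = -(m : ℂ) := by rw [h]; simp [hm]
    rw [h2] at h1
    have h3 : ((c * m + k : ℕ) : ℂ) = 0 := by
      push_cast
      linear_combination -h1
    have h4 : c * m + k = 0 := by exact_mod_cast h3
    omega

section irr

variable [h4t : MulAction.IsMultiplyPretransitive G α 4]

theorem isIrr_stdF (h4 : 4 ≤ Fintype.card α) : Cfsg.IsIrrCharacter G (stdF (G := G) α) := by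
  apply isIrr_of_genchar_norm_one isGeneralizedCharacter_stdF (classInner_stdF h4) 1
    (Fintype.card α - 1) (by omega)
  unfold stdF
  rw [fN_one, Nat.cast_sub (by omega)]
  simp

theorem isIrr_aF (h4 : 4 ≤ Fintype.card α) : Cfsg.IsIrrCharacter G (aF (G := G) α) := by
  apply isIrr_of_genchar_norm_one isGeneralizedCharacter_aF (classInner_aF h4) 2
    (Fintype.card α * (Fintype.card α - 3)) (Nat.mul_pos (by omega) (by omega))
  unfold aF
  rw [fN_one, sN_one, Nat.cast_mul, Nat.cast_sub (by omega)]
  push_cast
  ring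

theorem isIrr_bF (h4 : 4 ≤ Fintype.card α) : Cfsg.IsIrrCharacter G (bF (G := G) α) := by
  apply isIrr_of_genchar_norm_one isGeneralizedCharacter_bF (classInner_bF h4) 2
    ((Fintype.card α - 1) * (Fintype.card α - 2)) (Nat.mul_pos (by omega) (by omega))
  unfold bF
  rw [fN_one, sN_one, Nat.cast_mul, Nat.cast_sub (by omega), Nat.cast_sub (by omega)]
  push_cast
  ring

end irr

end Cfsg.Agent.Helper6.FourTr
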