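import Mathlib
import Cfsg.Prelude.Def_Characters
import Cfsg.Agent.Helper6.FourTrE

/-!
# Fixed points and swapped points of permutations via the cycle type; elements of the
alternating group with prescribed cycle type
-/

set_option autoImplicit false
set_option linter.style.haveILetI false

namespace Cfsg.Agent.Helper6.FourTr

open Finset
open scoped Pointwise ComplexConjugate

universe v

variable {α : Type v} [Fintype α] [DecidableEq α]

theorem fixS_card_perm (g : Equiv.Perm α) :
    (fixS (G := Equiv.Perm α) (α := α) g).card = Fintype.card α - g.cycleType.sum := by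
  have h : fixS (G := Equiv.Perm α) (α := α) g = g.supportᶜ := by
    ext x
    simp [fixS, Equiv.Perm.mem_support]
  rw [h, card_compl, Equiv.Perm.sum_cycleType]

theorem swS_eq_empty (g : Equiv.Perm α) (h2 : 2 ∉ g.cycleType) :
    swS (G := Equiv.Perm α) (α := α) g = ∅ := by
  rw [eq_empty_iff_forall_notMem]
  intro x hx
  rw [mem_swS] at hx
  simp only [Equiv.Perm.smul_def] at hx
  apply h2
  have hmem : orderOf (g.cycleOf x) ∈ g.cycleType := by
    rw [Equiv.Perm.cycleType, Multiset.mem_map]
    refine ⟨g.cycleOf x, ?_, ?_⟩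
    · rw [← Finset.mem_def, Equiv.Perm.cycleOf_mem_cycleFactorsFinset_iff, Equiv.Perm.mem_support]
      exact hx.1
    · simp [(Equiv.Perm.isCycle_cycleOf _ hx.1).orderOf]
  have hcyc := Equiv.Perm.isCycle_cycleOf g hx.1
  have hpow : (g.cycleOf x) ^ 2 = 1 := by
    rw [hcyc.pow_eq_one_iff]
    refine ⟨x, ?_, ?_⟩
    · rw [Equiv.Perm.cycleOf_apply_self]; exact hx.1
    · rw [Equiv.Perm.cycleOf_pow_apply_self, pow_two, Equiv.Perm.mul_apply]; exact hx.2
  have hdvd : orderOf (g.cycleOf x) ∣ 2 := orderOf_dvd_of_pow_eq_one hpow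
  have hne1 : orderOf (g.cycleOf x) ≠ 1 := by
    intro h
    rw [orderOf_eq_one_iff] at h
    have := Equiv.Perm.cycleOf_apply_self g x
    rw [h] at this
    exact hx.1 this.symm
  have : orderOf (g.cycleOf x) = 2 := by
    rcases (Nat.dvd_prime Nat.prime_two).mp hdvd with h | h
    · exact absurd h hne1
    · exact h
  rwa [this] at hmem

/-- Even permutations with a prescribed cycle type. -/
theorem exists_alt_cycleType (m : Multiset ℕ) (hsum : m.sum ≤ Fintype.card α)
    (h2 : ∀ a ∈ m, 2 ≤ a) (hev : Even (m.sum + Multiset.card m)) :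
    ∃ g : alternatingGroup α, (g : Equiv.Perm α).cycleType = m := by
  obtain ⟨g, hg⟩ := (Equiv.Perm.exists_with_cycleType_iff α).mpr ⟨hsum, h2⟩
  refine ⟨⟨g, ?_⟩, hg⟩
  rw [Equiv.Perm.mem_alternatingGroup, Equiv.Perm.sign_of_cycleType, hg]
  exact Even.neg_one_pow hev

theorem fN_alt (g : alternatingGroup α) :
    fN (G := alternatingGroup α) α g = fN (G := Equiv.Perm α) α (g : Equiv.Perm α) := rfl

theorem sN_alt (g : alternatingGroup α) :
    sN (G := alternatingGroup α) α g = sN (G := Equiv.Perm α) α (g : Equiv.Perm α) := rfl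

theorem fN_perm (g : Equiv.Perm α) :
    fN (G := Equiv.Perm α) α g = ((Fintype.card α - g.cycleType.sum : ℕ) : ℂ) := by
  unfold fN
  rw [fixS_card_perm]

theorem sN_perm (g : Equiv.Perm α) (h2 : 2 ∉ g.cycleType) :
    sN (G := Equiv.Perm α) α g = 0 := by
  unfold sN
  rw [swS_eq_empty g h2]
  simp

end Cfsg.Agent.Helper6.FourTr
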