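import Mathlib
import Cfsg.Prelude.Def_Characters
import Cfsg.Agent.Helper6.FourTrF

/-!
# Elements of 2-power order and of order 3 in alternating groups with prescribed numbers of
fixed points and no 2-cycles
-/

set_option autoImplicit false
set_option linter.style.haveILetI false

namespace Cfsg.Agent.Helper6.FourTr

open Finset
open scoped Pointwise ComplexConjugate

theorem orderOf_alt_dvd {α : Type*} [Fintype α] [DecidableEq α] (g : alternatingGroup α) (N : ℕ)
    (h : ∀ a ∈ (g : Equiv.Perm α).cycleType, a ∣ N) : orderOf g ∣ N := by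
  rw [← Subgroup.orderOf_coe, ← Equiv.Perm.lcm_cycleType]
  exact Multiset.lcm_dvd.mpr h

/-- An even permutation of 2-power order moving exactly `4k` points, without 2-cycles. -/
theorem exists_two_elt (n k : ℕ) (hk : 2 ≤ k) (hkn : 4 * k ≤ n) :
    ∃ x : alternatingGroup (Fin n), (∃ j : ℕ, orderOf x = 2 ^ j) ∧
      fN (G := alternatingGroup (Fin n)) (Fin n) x = ((n - 4 * k : ℕ) : ℂ) ∧
      sN (G := alternatingGroup (Fin n)) (Fin n) x = 0 := by
  obtain ⟨m, hsum, hparts, hev⟩ : ∃ m : Multiset ℕ, m.sum = 4 * k ∧ (∀ a ∈ m, a = 4 ∨ a = 8) ∧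
      Even (m.sum + Multiset.card m) := by
    rcases Nat.even_or_odd k with he | ho
    · refine ⟨Multiset.replicate k 4, ?_, ?_, ?_⟩
      · simp [Multiset.sum_replicate, mul_comm]
      · intro a ha
        left
        exact Multiset.eq_of_mem_replicate ha
      · rw [Multiset.sum_replicate, Multiset.card_replicate, smul_eq_mul]
        obtain ⟨j, rfl⟩ := he
        exact ⟨5 * j, by ring⟩
    · obtain ⟨j, rfl⟩ := ho
      have hj : 1 ≤ j := by omega
      refine ⟨8 ::ₘ Multiset.replicate (2 * j + 1 - 2) 4, ?_, ?_, ?_⟩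
      · rw [Multiset.sum_cons, Multiset.sum_replicate, smul_eq_mul]
        omega
      · intro a ha
        rw [Multiset.mem_cons] at ha
        rcases ha with rfl | ha
        · right; rfl
        · left; exact Multiset.eq_of_mem_replicate ha
      · rw [Multiset.sum_cons, Multiset.sum_replicate, Multiset.card_cons,
          Multiset.card_replicate, smul_eq_mul]
        exact ⟨5 * j + 2, by omega⟩
  obtain ⟨x, hx⟩ := exists_alt_cycleType (α := Fin n) m
    (by rw [hsum, Fintype.card_fin]; exact hkn)
    (by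
      intro a ha
      rcases hparts a ha with rfl | rfl <;> norm_num) hev
  refine ⟨x, ?_, ?_, ?_⟩
  · have hdvd : orderOf x ∣ 2 ^ 3 := by
      apply orderOf_alt_dvd
      intro a ha
      rw [hx] at ha
      rcases hparts a ha with rfl | rfl <;> norm_num
    obtain ⟨j, -, hj⟩ := (Nat.dvd_prime_pow Nat.prime_two).mp hdvd
    exact ⟨j, hj⟩
  · rw [fN_alt, fN_perm, hx, hsum, Fintype.card_fin]
  · rw [sN_alt]
    apply sN_perm
    rw [hx]
    intro h2
    rcases hparts 2 h2 with h | h <;> omega

/-- An even permutation of 2-power order with exactly one fixed point, when `n ≡ 3 mod 4`. -/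
theorem exists_two_elt_one_fixed (n : ℕ) (hn : 7 ≤ n) (h3 : n % 4 = 3) :
    ∃ x : alternatingGroup (Fin n), (∃ j : ℕ, orderOf x = 2 ^ j) ∧
      fN (G := alternatingGroup (Fin n)) (Fin n) x = 1 := by
  obtain ⟨j, rfl⟩ : ∃ j, n = 4 * j + 3 := ⟨n / 4, by omega⟩
  have hj : 1 ≤ j := by omega
  obtain ⟨x, hx⟩ := exists_alt_cycleType (α := Fin (4 * j + 3))
    (4 ::ₘ Multiset.replicate (2 * j - 1) 2)
    (by
      rw [Multiset.sum_cons, Multiset.sum_replicate, smul_eq_mul, Fintype.card_fin]
      omega)
    (by
      intro a ha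
      rw [Multiset.mem_cons] at ha
      rcases ha with rfl | ha
      · norm_num
      · rw [Multiset.eq_of_mem_replicate ha])
    (by
      rw [Multiset.sum_cons, Multiset.sum_replicate, Multiset.card_cons,
        Multiset.card_replicate, smul_eq_mul]
      exact ⟨3 * j + 1, by omega⟩)
  refine ⟨x, ?_, ?_⟩
  · have hdvd : orderOf x ∣ 2 ^ 2 := by
      apply orderOf_alt_dvd
      intro a ha
      rw [hx, Multiset.mem_cons] at ha
      rcases ha with rfl | ha
      · norm_num
      · rw [Multiset.eq_of_mem_replicate ha]; norm_num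
    obtain ⟨i, -, hi⟩ := (Nat.dvd_prime_pow Nat.prime_two).mp hdvd
    exact ⟨i, hi⟩
  · rw [fN_alt, fN_perm, hx, Multiset.sum_cons, Multiset.sum_replicate, smul_eq_mul,
      Fintype.card_fin]
    have : 4 * j + 3 - (4 + (2 * j - 1) * 2) = 1 := by omega
    rw [this]
    simp

/-- An even permutation of order 3 moving exactly `3k` points. -/
theorem exists_three_elt (n k : ℕ) (hk : 1 ≤ k) (hkn : 3 * k ≤ n) :
    ∃ x : alternatingGroup (Fin n), orderOf x = 3 ∧
      fN (G := alternatingGroup (Fin n)) (Fin n) x = ((n - 3 * k : ℕ) : ℂ) ∧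
      sN (G := alternatingGroup (Fin n)) (Fin n) x = 0 := by
  obtain ⟨x, hx⟩ := exists_alt_cycleType (α := Fin n) (Multiset.replicate k 3)
    (by rw [Multiset.sum_replicate, smul_eq_mul, Fintype.card_fin]; omega)
    (by
      intro a ha
      rw [Multiset.eq_of_mem_replicate ha]; norm_num)
    (by
      rw [Multiset.sum_replicate, Multiset.card_replicate, smul_eq_mul]
      exact ⟨2 * k, by ring⟩)
  refine ⟨x, ?_, ?_, ?_⟩
  · have hdvd : orderOf x ∣ 3 := by
      apply orderOf_alt_dvd
      intro a ha
      rw [hx] at ha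
      rw [Multiset.eq_of_mem_replicate ha]
    rcases (Nat.dvd_prime Nat.prime_three).mp hdvd with h | h
    · exfalso
      rw [orderOf_eq_one_iff] at h
      have h1 : (x : Equiv.Perm (Fin n)).cycleType = 0 := by
        rw [h]; simp
      rw [hx] at h1
      have := congrArg Multiset.card h1
      rw [Multiset.card_replicate] at this
      simp at this
      omega
    · exact h
  · rw [fN_alt, fN_perm, hx, Multiset.sum_replicate, smul_eq_mul, Fintype.card_fin, mul_comm k 3]
  · rw [sN_alt]
    apply sN_perm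
    rw [hx]
    intro h2
    have := Multiset.eq_of_mem_replicate h2
    omega

end Cfsg.Agent.Helper6.FourTr
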