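import Mathlib
import Cfsg.Prelude.Def_LocalStructure
import Cfsg.Agent.Helper5.Basic
import Cfsg.Agent.Helper5.Cores
import Cfsg.Agent.Helper5.CharP2
import Cfsg.Agent.Helper5.PReducedRel
import Cfsg.Agent.S2845

/-!
helper6: basic facts about members of `𝔐_G(S)` (the basic property), relative form.
-/

set_option autoImplicit false

namespace Cfsg.Agent.Helper6.FrakM

open Cfsg Cfsg.Agent.Helper5

variable {G : Type*} [Group G]

/-- Every member of `𝓛_G` lies in a maximal member. -/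
theorem exists_max_charP_ge [Finite G] {p : ℕ} (L : Subgroup G) (hL : L ∈ Cfsg.charPSubgroups p G) :
    ∃ X ∈ Cfsg.maxCharPSubgroups p G, L ≤ X := by
  classical
  have hfin : (Cfsg.charPSubgroups p G).Finite := Set.toFinite _
  obtain ⟨X, hLX, hX⟩ := hfin.exists_le_maximal hL
  refine ⟨X, ⟨hX.prop, ?_⟩, hLX⟩
  intro L' hL' hXL'
  exact le_antisymm (hX.le_of_ge hL' hXL') hXL'

/-- A member of `𝓛_G` containing `M ∈ 𝔐_G` lies in `M†`. -/
theorem le_dagger_of_mem_charP [Finite G] {p : ℕ} {M : Subgroup G} (hM : Cfsg.IsInFrakM p M)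
    (L : Subgroup G) (hL : L ∈ Cfsg.charPSubgroups p G) (hML : M ≤ L) :
    L ≤ M ⊔ Subgroup.centralizer (Cfsg.largestPReducedOf p M : Set G) := by
  obtain ⟨X, hX, hLX⟩ := exists_max_charP_ge L hL
  have := hM.2.2.1 X hX (hML.trans hLX)
  rw [← this]; exact hLX

/-- With a large subgroup: a parabolic subgroup with nontrivial `p`-core lies in `𝓛_G`. -/
theorem mem_charP_of_parabolic [Finite G] {p : ℕ} [Fact p.Prime] (Q : Subgroup G) (hQp : IsPGroup p ↥Q)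
    (hQ1 : Q ≠ ⊥) (hQ : Cfsg.IsLarge Q) (R : Subgroup G) (hR : Cfsg.IsParabolic p R)
    (hR1 : Cfsg.pCore p ↥R ≠ ⊥) : R ∈ Cfsg.charPSubgroups p G :=
  ⟨hR1, (Cfsg.Agent.S2845.result Q hQp hQ1 hQ).2.1 R hR hR1⟩

/-- `O_p(R) ≠ 1` when `R` normalizes a nontrivial `p`-subgroup of itself. -/
theorem pCore_ne_bot_of_normal_pSubgroup {p : ℕ} (R I : Subgroup G) (hI1 : I ≠ ⊥) (hIp : IsPGroup p ↥I)
    (hIR : I ≤ R) (hRI : R ≤ Subgroup.normalizer (I : Set G)) : Cfsg.pCore p ↥R ≠ ⊥ := by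
  intro h
  have h1 := le_pCore_map_subtype R I hIR hIp hRI
  rw [h, Subgroup.map_bot] at h1
  exact hI1 (le_bot_iff.mp h1)

/-- With a large subgroup `Q ≤ S ≤ M`, `M ∈ 𝔐_G(S)`: any subgroup containing `M` that normalizes a
nontrivial `p`-subgroup of itself lies in `M†`. -/
theorem le_dagger_of_normalizes [Finite G] {p : ℕ} [Fact p.Prime] (S : Sylow p G) (Q : Subgroup G)
    (hQp : IsPGroup p ↥Q) (hQ1 : Q ≠ ⊥) (hQ : Cfsg.IsLarge Q) {M : Subgroup G}
    (hSM : (S : Subgroup G) ≤ M) (hM : Cfsg.IsInFrakM p M) (X I : Subgroup G) (hMX : M ≤ X)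
    (hI1 : I ≠ ⊥) (hIp : IsPGroup p ↥I) (hIX : I ≤ X) (hXI : X ≤ Subgroup.normalizer (I : Set G)) :
    X ≤ M ⊔ Subgroup.centralizer (Cfsg.largestPReducedOf p M : Set G) := by
  apply le_dagger_of_mem_charP hM X _ hMX
  exact mem_charP_of_parabolic Q hQp hQ1 hQ X ⟨S, hSM.trans hMX⟩
    (pCore_ne_bot_of_normal_pSubgroup X I hI1 hIp hIX hXI)

/-- `N_G(I) ≤ M†` for a nontrivial `p`-subgroup `I` of `M` normalized by `M`. -/
theorem normalizer_le_dagger [Finite G] {p : ℕ} [Fact p.Prime] (S : Sylow p G) (Q : Subgroup G)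
    (hQp : IsPGroup p ↥Q) (hQ1 : Q ≠ ⊥) (hQ : Cfsg.IsLarge Q) {M : Subgroup G}
    (hSM : (S : Subgroup G) ≤ M) (hM : Cfsg.IsInFrakM p M) (I : Subgroup G)
    (hI1 : I ≠ ⊥) (hIp : IsPGroup p ↥I) (hMI : M ≤ Subgroup.normalizer (I : Set G)) :
    Subgroup.normalizer (I : Set G) ≤ M ⊔ Subgroup.centralizer (Cfsg.largestPReducedOf p M : Set G) :=
  le_dagger_of_normalizes S Q hQp hQ1 hQ hSM hM _ I hMI hI1 hIp Subgroup.le_normalizer le_rfl

end Cfsg.Agent.Helper6.FrakM
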