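import Mathlib
import Cfsg.Prelude.Def_LocalStructure
import Cfsg.Agent.Helper1.Coprime
import Cfsg.Agent.Helper1.PQLemma
import Cfsg.Agent.Helper1.PGroup
import Cfsg.Agent.Helper5.Misc
import Cfsg.Agent.Helper5.PResidual
import Cfsg.Agent.Helper5.SylowSub
import Cfsg.Agent.Helper6.FrakMA

/-!
helper6: coprime action lemma (acting trivially modulo the derived subgroup) and a criterion for a normal
Sylow subgroup; used for the local-structure statements.
-/

set_option autoImplicit false

namespace Cfsg.Agent.Helper6.FrakM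

open Cfsg Cfsg.Agent.Helper5
open scoped commutatorElement

variable {G : Type*} [Group G]

/-- A `p'`-group `Z` acting on the `p`-group `A` trivially modulo `A'` centralizes `A`. -/
theorem le_centralizer_of_coprime_of_commutator_le_derived [Finite G] {p : ℕ} [Fact p.Prime]
    (Z A : Subgroup G) (hA : IsPGroup p ↥A) (hZA : Z ≤ Subgroup.normalizer (A : Set G))
    (hcop : (Nat.card ↥Z).Coprime p) (h : ⁅A, Z⁆ ≤ ⁅A, A⁆) :
    Z ≤ Subgroup.centralizer (A : Set G) := by
  classical
  haveI : Group.IsNilpotent ↥A := hA.isNilpotent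
  have hcop' : (Nat.card ↥Z).Coprime (Nat.card ↥A) := by
    obtain ⟨n, hn⟩ := IsPGroup.iff_card.mp hA
    rw [hn]; exact Nat.Coprime.pow_right n hcop
  have hNK : ⁅A, A⁆ ≤ A := by
    rw [Subgroup.commutator_le]
    intro a ha b hb
    exact A.mul_mem (A.mul_mem (A.mul_mem ha hb) (A.inv_mem ha)) (A.inv_mem hb)
  have hAN : A ≤ Subgroup.normalizer ((⁅A, A⁆ : Subgroup G) : Set G) :=
    Cfsg.Agent.Helper1.le_normalizer_commutator Subgroup.le_normalizer Subgroup.le_normalizer
  have hZN : Z ≤ Subgroup.normalizer ((⁅A, A⁆ : Subgroup G) : Set G) :=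
    Cfsg.Agent.Helper1.le_normalizer_commutator hZA hZA
  have hdec : ∀ k ∈ A, ∃ c ∈ A ⊓ Subgroup.centralizer (Z : Set G), k⁻¹ * c ∈ ⁅A, A⁆ := by
    intro k hk
    apply Cfsg.Agent.Helper1.coprime_fixed_coset Z A hZA hcop' (Or.inr inferInstance) ⁅A, A⁆ hNK hAN hZN k hk
    intro a ha
    have h1 : ⁅a, k⁆ ∈ ⁅Z, A⁆ := Subgroup.commutator_mem_commutator ha hk
    rw [Subgroup.commutator_comm] at h1
    have h2 := h h1
    rwa [commutatorElement_def] at h2
  -- work inside `A`
  have hfr : ((A ⊓ Subgroup.centralizer (Z : Set G)).subgroupOf A) ⊔ frattini ↥A = ⊤ := by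
    rw [eq_top_iff]
    intro a _
    obtain ⟨c, hc, hd⟩ := hdec (a : G) a.2
    have hd' : (a : G)⁻¹ * c ∈ (_root_.commutator ↥A).map A.subtype := by
      rw [Subgroup.map_subtype_commutator]; exact hd
    obtain ⟨d, hdc, hdeq⟩ := hd'
    have hcA : c ∈ A := hc.1
    have ha : a = ⟨c, hcA⟩ * d⁻¹ := by
      apply Subtype.ext
      rw [Subgroup.coe_mul, Subgroup.coe_inv]
      have : (d : G) = (a : G)⁻¹ * c := hdeq
      rw [this]; group
    rw [ha]
    apply Subgroup.mul_mem
    · apply Subgroup.mem_sup_left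
      rw [Subgroup.mem_subgroupOf]; exact hc
    · apply Subgroup.mem_sup_right
      apply Subgroup.inv_mem
      exact Cfsg.Agent.Helper1.IsPGroup.commutator_le_frattini (show IsPGroup p ↥A from hA) hdc
  have htop := frattini_nongenerating hfr
  intro z hz
  rw [Subgroup.mem_centralizer_iff]
  intro a ha
  have h1 : (⟨a, ha⟩ : ↥A) ∈ (A ⊓ Subgroup.centralizer (Z : Set G)).subgroupOf A := by
    rw [htop]; trivial
  rw [Subgroup.mem_subgroupOf] at h1
  exact (Subgroup.mem_centralizer_iff.mp h1.2 z hz).symm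

/-- If the `p'`-elements of the finite group `X` are central modulo a normal `p`-subgroup `O`,
then the Sylow `p`-subgroups of `X` are normal. -/
theorem sylow_normal_of_pprime_central_mod {X : Type*} [Group X] [Finite X] {p : ℕ} [Fact p.Prime]
    (O : Subgroup X) [hOn : O.Normal] (hO : IsPGroup p ↥O)
    (h : ∀ x : X, (orderOf x).Coprime p → ∀ y : X, x * y * x⁻¹ * y⁻¹ ∈ O) (P : Sylow p X) :
    (P : Subgroup X).Normal := by
  have hOP : O ≤ (P : Subgroup X) := (le_pCore hOn hO).trans (pCore_le_sylow P)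
  have hres : Cfsg.pResidual p X ≤ Subgroup.normalizer ((P : Subgroup X) : Set X) := by
    unfold Cfsg.pResidual
    rw [Subgroup.closure_le]
    intro x hx
    have hx' : (orderOf x).Coprime p := hx
    apply mem_normalizer_of_conj_mem
    intro t ht
    have h1 := hOP (h x hx' t)
    have h2 : x * t * x⁻¹ = (x * t * x⁻¹ * t⁻¹) * t := by group
    rw [h2]
    exact Subgroup.mul_mem _ h1 ht
  have htop : (⊤ : Subgroup X) ≤ Subgroup.normalizer ((P : Subgroup X) : Set X) := by
    rw [← pResidual_sup_sylow P]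
    exact sup_le hres Subgroup.le_normalizer
  exact Subgroup.normalizer_eq_top_iff.mp (top_le_iff.mp htop)

end Cfsg.Agent.Helper6.FrakM
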