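import Mathlib
import Cfsg.Prelude.Def_LocalStructure
import Cfsg.Agent.Helper5.StrongEmb
import Cfsg.Agent.Helper6.FrakMB

/-!
helper6: normalizers act on `p`-cores; a criterion `Y ≤ O_p(L)`.
-/

set_option autoImplicit false

namespace Cfsg.Agent.Helper6.FrakM

open Cfsg Cfsg.Agent.Helper5
open scoped commutatorElement

variable {G : Type*} [Group G]

/-- `N_G(D)` normalizes `O_p(D)`. -/
theorem normalizer_le_normalizer_pCoreOf [Finite G] (p : ℕ) (D : Subgroup G) :
    Subgroup.normalizer (D : Set G) ≤ Subgroup.normalizer ((Cfsg.pCoreOf p D : Subgroup G) : Set G) := by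
  intro g hg
  apply mem_normalizer_of_conj_mem
  have hOD : Cfsg.pCoreOf p D ≤ D := pCore_map_subtype_le p D
  set N := (Cfsg.pCoreOf p D).map (MulAut.conj g).toMonoidHom with hN
  have hND : N ≤ D := by
    rw [hN, map_conj_le_iff]
    intro x hx
    exact (Subgroup.mem_normalizer_iff.mp hg x).mp (hOD hx)
  have hNp : IsPGroup p ↥N := (isPGroup_pCore_map_subtype p D).map _
  have hDN : D ≤ Subgroup.normalizer (N : Set G) := by
    rw [hN, normalizer_map_conj]
    intro d hd
    rw [mem_map_conj_iff]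
    apply le_normalizer_pCore_map_subtype p D
    have := (Subgroup.mem_normalizer_iff.mp (Subgroup.inv_mem _ hg) d).mp hd
    simpa using this
  have h1 := le_pCore_map_subtype D N hND hNp hDN
  intro x hx
  exact h1 (conj_mem_map_conj _ g x hx)

/-- Criterion: a `p`-subgroup `Y` of a normal subgroup `X` of `L` lies in `O_p(L)` if the `p'`-elements of `X`
are central in `X` modulo a `p`-subgroup `O` normalized by `X`. -/
theorem le_pCoreOf_of_pprime_central_mod [Finite G] {p : ℕ} [Fact p.Prime] (L X O Y : Subgroup G)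
    (hXL : X ≤ L) (hLX : L ≤ Subgroup.normalizer (X : Set G)) (hO : IsPGroup p ↥O)
    (hXO : X ≤ Subgroup.normalizer (O : Set G))
    (h : ∀ x ∈ X, (orderOf x).Coprime p → ∀ y ∈ X, x * y * x⁻¹ * y⁻¹ ∈ O)
    (hYX : Y ≤ X) (hY : IsPGroup p ↥Y) : Y ≤ Cfsg.pCoreOf p L := by
  classical
  -- the normal `p`-subgroup `O ⊓ X` of `X`
  have hOn : ((O ⊓ X).subgroupOf X).Normal := by
    apply (Subgroup.normal_subgroupOf_iff_le_normalizer inf_le_right).mpr
    intro x hx
    exact mem_normalizer_inf O X x (hXO hx) (Subgroup.le_normalizer hx)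
  have hOp : IsPGroup p ↥((O ⊓ X).subgroupOf X) := (hO.to_le inf_le_left).comap_subtype
  obtain ⟨P, hYP⟩ := (show IsPGroup p ↥(Y.subgroupOf X) from hY.comap_subtype).exists_le_sylow
  have hPn : (P : Subgroup ↥X).Normal := by
    apply @sylow_normal_of_pprime_central_mod ↥X _ _ p _ ((O ⊓ X).subgroupOf X) hOn hOp _ P
    intro x hx y
    rw [Subgroup.mem_subgroupOf]
    have hx' : (orderOf (x : G)).Coprime p := by rwa [Subgroup.orderOf_coe]
    refine ⟨?_, ?_⟩
    · have := h (x : G) x.2 hx' (y : G) y.2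
      simpa using this
    · exact (x * y * x⁻¹ * y⁻¹).2
  set T : Subgroup G := (P : Subgroup ↥X).map X.subtype with hT
  have hTX : T ≤ X := by rintro _ ⟨t, -, rfl⟩; exact t.2
  have hTp : IsPGroup p ↥T := P.2.map _
  have hXT : X ≤ Subgroup.normalizer (T : Set G) := le_normalizer_map_subtype_of_normal X _ hPn
  have hYT : Y ≤ T := by
    intro y hy
    exact ⟨⟨y, hYX hy⟩, hYP (Subgroup.mem_subgroupOf.mpr hy), rfl⟩
  exact hYT.trans (le_pCore_of_normal_in_normal L X T hXL hLX hTX hTp hXT)

end Cfsg.Agent.Helper6.FrakM
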