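import Mathlib
import Cfsg.Prelude.Def_LocalStructure
import Cfsg.Agent.Helper5.CharP
import Cfsg.Agent.Helper5.CharP2
import Cfsg.Agent.Helper5.PReducedRel
import Cfsg.Agent.Helper6.FrakMC

/-!
helper6: groups of parabolic characteristic `p`: parabolic subgroups with nontrivial `p`-core lie in `𝓛_H`.
-/

set_option autoImplicit false

namespace Cfsg.Agent.Helper6.FrakM

open Cfsg Cfsg.Agent.Helper5

variable {H : Type*} [Group H]

/-- Characteristic `p` of a subgroup in relative terms. -/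
theorem hasCharP_iff_rel (p : ℕ) (L : Subgroup H) :
    (Subgroup.centralizer (Cfsg.pCore p ↥L : Set ↥L) ≤ Cfsg.pCore p ↥L) ↔
      L ⊓ Subgroup.centralizer ((Cfsg.pCoreOf p L : Subgroup H) : Set H) ≤ Cfsg.pCoreOf p L := by
  constructor
  · intro h x hx
    have h1 : (⟨x, hx.1⟩ : ↥L) ∈ Subgroup.centralizer (Cfsg.pCore p ↥L : Set ↥L) :=
      (mem_centralizer_pCore_iff p L ⟨x, hx.1⟩).mpr hx.2
    exact ⟨⟨x, hx.1⟩, h h1, rfl⟩
  · intro h c hc
    have h1 := (mem_centralizer_pCore_iff p L c).mp hc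
    obtain ⟨y, hy, hyc⟩ := h ⟨c.2, h1⟩
    have : y = c := Subtype.ext hyc
    rwa [this] at hy

/-- A member of `𝓛_H` has characteristic `p`. -/
theorem hasCharP_of_mem_charP {p : ℕ} {L : Subgroup H} (hL : L ∈ Cfsg.charPSubgroups p H) :
    Subgroup.centralizer (Cfsg.pCore p ↥L : Set ↥L) ≤ Cfsg.pCore p ↥L :=
  (hasCharP_iff_rel p L).mpr (inf_le_right.trans hL.2)

theorem pCoreOf_ne_bot {p : ℕ} {L : Subgroup H} (hL : Cfsg.pCore p ↥L ≠ ⊥) : Cfsg.pCoreOf p L ≠ ⊥ := by
  intro h
  apply hL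
  have := (Subgroup.map_eq_bot_iff_of_injective _ L.subtype_injective).mp h
  exact this

/-- In a group of parabolic characteristic `p`, a parabolic subgroup with `O_p ≠ 1` lies in `𝓛_H`. -/
theorem mem_charP_of_parabolicChar [Finite H] {p : ℕ} [Fact p.Prime]
    (hH : Cfsg.IsOfParabolicCharacteristic p H) (R : Subgroup H) (hR : Cfsg.IsParabolic p R)
    (hR1 : Cfsg.pCore p ↥R ≠ ⊥) : R ∈ Cfsg.charPSubgroups p H := by
  classical
  obtain ⟨T, hTR⟩ := hR
  set O := Cfsg.pCoreOf p R with hO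
  have hOp : IsPGroup p ↥O := isPGroup_pCore_map_subtype p R
  have hO1 : O ≠ ⊥ := pCoreOf_ne_bot hR1
  set N := Subgroup.normalizer (O : Set H) with hN
  have hRN : R ≤ N := le_normalizer_pCore_map_subtype p R
  have hTN : (T : Subgroup H) ≤ N := hTR.trans hRN
  have hNchar := hH O hOp hO1 ⟨T, hTN⟩
  have hNrel := (hasCharP_iff_rel p N).mp hNchar
  set ON := Cfsg.pCoreOf p N with hON
  have hONp : IsPGroup p ↥ON := isPGroup_pCore_map_subtype p N
  have hNON : N ≤ Subgroup.normalizer (ON : Set H) := le_normalizer_pCore_map_subtype p N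
  have hONT : ON ≤ (T : Subgroup H) := pCoreOf_le_sylow T hTN
  set K := Subgroup.centralizer (O : Set H) with hK
  have hKN : K ≤ N := Subgroup.centralizer_le_normalizer _
  have hNK : N ≤ Subgroup.normalizer (K : Set H) :=
    Cfsg.Agent.Helper5.normalizer_le_normalizer_centralizer O
  -- O_p(K) ≤ O
  have hOK : Cfsg.pCoreOf p K ≤ O := by
    have h1 : Cfsg.pCoreOf p K ≤ ON :=
      le_pCore_map_subtype N _ ((pCore_map_subtype_le p K).trans hKN) (isPGroup_pCore_map_subtype p K)
        (hNK.trans (normalizer_le_normalizer_pCoreOf p K))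
    exact le_pCore_map_subtype R _ ((h1.trans hONT).trans hTR) (isPGroup_pCore_map_subtype p K)
      ((hRN.trans hNK).trans (normalizer_le_normalizer_pCoreOf p K))
  have hKON : K ⊓ ON ≤ O := by
    refine le_trans ?_ hOK
    apply le_pCore_map_subtype K _ inf_le_left (hONp.to_le inf_le_right)
    intro k hk
    exact mem_normalizer_inf K ON k (Subgroup.le_normalizer hk) (hNON (hKN hk))
  have hKp : IsPGroup p ↥K := by
    apply isPGroup_of_pprime_elements
    intro c hc hcp
    have hcst : c ∈ stabMod ON O := by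
      refine ⟨hKN hc, hNON (hKN hc), ?_⟩
      intro r hr
      apply hKON
      refine ⟨?_, ?_⟩
      · have h1 : r⁻¹ * c * r⁻¹⁻¹ ∈ K :=
          (Subgroup.mem_normalizer_iff.mp (hNK (Subgroup.inv_mem _ ((pCore_map_subtype_le p N) hr))) c).mp hc
        have h2 : r⁻¹ * (c * r * c⁻¹) = (r⁻¹ * c * r⁻¹⁻¹) * c⁻¹ := by group
        rw [h2]
        exact K.mul_mem h1 (K.inv_mem hc)
      · exact ON.mul_mem (ON.inv_mem hr) ((Subgroup.mem_normalizer_iff.mp (hNON (hKN hc)) r).mp hr)
    have hcomm := commute_of_mem_stabMod ON O hOp c hcst hcp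
      (fun a ha => ((Subgroup.mem_centralizer_iff.mp hc) a ha).symm)
    have hcON : c ∈ ON := by
      apply hNrel
      refine ⟨hKN hc, Subgroup.mem_centralizer_iff.mpr ?_⟩
      intro r hr
      exact (hcomm r hr).symm
    exact eq_one_of_coprime_of_mem_pgroup ON hONp c hcON hcp
  have hKON' : K ≤ ON := le_pCore_map_subtype N K hKN hKp hNK
  have hKO : K ≤ O :=
    le_pCore_map_subtype R K ((hKON'.trans hONT).trans hTR) hKp (hRN.trans hNK)
  exact ⟨hR1, hKO⟩

end Cfsg.Agent.Helper6.FrakM
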