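import Mathlib
import Cfsg.Prelude.Def_LocalStructure
import Cfsg.Agent.Helper1.PGroup
import Cfsg.Agent.Helper1.Subnormal
import Cfsg.Agent.Helper5.Cores
import Cfsg.Agent.Helper5.Basic

/-!
helper6: a normal subgroup without proper supplements containing a Sylow subgroup maps into the Frattini
subgroup modulo `O_p`.
-/

set_option autoImplicit false

namespace Cfsg.Agent.Helper6.FrakN

open Cfsg Cfsg.Agent.Helper5

theorem isCoatom_comap_of_surjective {A B : Type*} [Group A] [Group B] (φ : A →* B)
    (hφ : Function.Surjective φ) (X : Subgroup B) (hX : IsCoatom X) : IsCoatom (X.comap φ) := by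
  constructor
  · intro h
    apply hX.1
    rw [← Subgroup.map_comap_eq_self_of_surjective hφ X, h, Subgroup.map_top_of_surjective φ hφ]
  · intro K hK
    have hker : φ.ker ≤ K := (Subgroup.comap_mono bot_le : (⊥ : Subgroup B).comap φ ≤ X.comap φ).trans hK.le
    have h1 : X < K.map φ := by
      refine lt_of_le_of_ne ?_ ?_
      · rw [← Subgroup.map_comap_eq_self_of_surjective hφ X]
        exact Subgroup.map_mono hK.le
      · intro h
        apply hK.not_ge
        rw [h, Subgroup.comap_map_eq, sup_eq_left.mpr hker]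
    have h2 := hX.2 _ h1
    have h3 : (K.map φ).comap φ = K := by rw [Subgroup.comap_map_eq, sup_eq_left.mpr hker]
    rw [← h3, h2, Subgroup.comap_top]

/-- A subgroup of index prime to `p` contains a Sylow `p`-subgroup. -/
theorem exists_sylow_le_of_not_dvd_index' {P : Type*} [Group P] [Finite P] {p : ℕ} [Fact p.Prime]
    (N : Subgroup P) (h : ¬ p ∣ N.index) : ∃ T : Sylow p P, (T : Subgroup P) ≤ N := by
  obtain ⟨T0⟩ : Nonempty (Sylow p ↥N) := inferInstance
  have hT1p : IsPGroup p ((T0 : Subgroup ↥N).map N.subtype) := T0.2.map _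
  have hT1idx : ¬ p ∣ ((T0 : Subgroup ↥N).map N.subtype).index := by
    rw [Subgroup.index_map_subtype]
    intro hd
    rcases (Nat.Prime.dvd_mul (Fact.out : p.Prime)).mp hd with h1 | h1
    · exact T0.not_dvd_index h1
    · exact h h1
  refine ⟨hT1p.toSylow hT1idx, ?_⟩
  rw [IsPGroup.toSylow_coe]
  exact Subgroup.map_subtype_le _

/-- Let `D` be a normal subgroup of `M` whose Sylow subgroup `T ∩ D` lies in `O_p(M)`, and suppose no proper
subgroup of `M` containing `T` supplements `D`. Then the image of `D` in `M / O_p(M)` lies in the Frattini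
subgroup. -/
theorem map_le_frattini_of_no_supplement {M : Type*} [Group M] [Finite M] {p : ℕ} [Fact p.Prime]
    (T : Sylow p M) (D : Subgroup M) [hDn : D.Normal]
    (hD : (T : Subgroup M) ⊓ D ≤ Cfsg.pCore p M)
    (hmin : ∀ X : Subgroup M, (T : Subgroup M) ≤ X → X ⊔ D = ⊤ → X = ⊤) :
    D.map (QuotientGroup.mk' (Cfsg.pCore p M)) ≤ frattini (M ⧸ Cfsg.pCore p M) := by
  classical
  rw [Cfsg.Agent.Helper1.le_frattini_iff]
  intro Xb hXb
  by_contra hnot
  set φ := QuotientGroup.mk' (Cfsg.pCore p M) with hφ
  have hφs : Function.Surjective φ := QuotientGroup.mk'_surjective _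
  set X := Xb.comap φ with hX
  have hXc : IsCoatom X := isCoatom_comap_of_surjective φ hφs Xb hXb
  have hOX : Cfsg.pCore p M ≤ X := by
    intro x hx
    show φ x ∈ Xb
    have : φ x = 1 := by
      rw [hφ, QuotientGroup.mk'_apply, QuotientGroup.eq_one_iff]; exact hx
    rw [this]; exact Subgroup.one_mem _
  have hDX : ¬ D ≤ X := by
    intro h
    apply hnot
    rw [Subgroup.map_le_iff_le_comap]
    exact h
  have hsup : X ⊔ D = ⊤ := by
    by_contra hne
    have hlt : X < X ⊔ D := by
      refine lt_of_le_of_ne le_sup_left ?_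
      intro h
      apply hDX
      rw [h]; exact le_sup_right
    exact hne (hXc.2 _ hlt)
  -- `p ∤ |M : X|`
  have hidx : ¬ p ∣ X.index := by
    obtain ⟨Q, hQ⟩ := Cfsg.Agent.Helper1.sylow_inf_subnormal p D (Subgroup.Normal.isSubnormal hDn) T
    have h1 : ¬ p ∣ ((T : Subgroup M).subgroupOf D).index := by
      rw [← hQ]; exact Q.not_dvd_index
    have h2 : ((T : Subgroup M).subgroupOf D).index = ((T : Subgroup M) ⊓ D).relIndex D := by
      rw [Subgroup.inf_relIndex_right]; rfl
    have h3 : (X ⊓ D).relIndex D ∣ ((T : Subgroup M) ⊓ D).relIndex D :=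
      Subgroup.relIndex_dvd_of_le_left D (le_inf (hD.trans hOX) inf_le_right)
    have h4 : X.index = (X ⊓ D).relIndex D := by
      rw [Subgroup.inf_relIndex_right]
      have e1 : D.relIndex X = D.index := by
        rw [← Subgroup.relIndex_sup_right (H := X) (K := D), hsup, Subgroup.relIndex_top_right]
      have e2 : (X ⊓ D).relIndex X * X.index = (X ⊓ D).index :=
        Subgroup.relIndex_mul_index inf_le_left
      have e3 : (X ⊓ D).relIndex D * D.index = (X ⊓ D).index :=
        Subgroup.relIndex_mul_index inf_le_right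
      rw [Subgroup.inf_relIndex_left, e1] at e2
      rw [Subgroup.inf_relIndex_right] at e3
      have hD0 : D.index ≠ 0 := Subgroup.index_ne_zero_of_finite
      have : D.index * X.index = D.index * X.relIndex D := by
        rw [e2, ← e3, mul_comm]
      exact Nat.eq_of_mul_eq_mul_left (Nat.pos_of_ne_zero hD0) this
    intro hdvd
    apply h1
    rw [h2]
    exact dvd_trans (h4 ▸ hdvd) h3
  obtain ⟨T', hT'X⟩ := exists_sylow_le_of_not_dvd_index' X hidx
  obtain ⟨g, hg⟩ := sylow_exists_map_conj_eq T T'
  -- write `g = x * d`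
  have hg' : g ∈ X ⊔ D := by rw [hsup]; trivial
  obtain ⟨x, hx, d, hd, rfl⟩ := Subgroup.mem_sup_of_normal_right.mp hg'
  have hTdX : (T : Subgroup M).map (MulAut.conj d).toMonoidHom ≤ X := by
    rw [map_conj_le_iff]
    intro t ht
    have h1 : (x * d) * t * (x * d)⁻¹ ∈ (T' : Subgroup M) := by
      rw [← hg]; exact conj_mem_map_conj _ _ t ht
    have h2 := X.mul_mem (X.mul_mem (X.inv_mem hx) (hT'X h1)) hx
    have h3 : x⁻¹ * ((x * d) * t * (x * d)⁻¹) * x = d * t * d⁻¹ := by group
    rwa [h3] at h2
  -- the conjugate `d⁻¹ X d` contains `T` and supplements `D`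
  set X' := X.map (MulAut.conj d⁻¹).toMonoidHom with hX'
  have hTX' : (T : Subgroup M) ≤ X' := by
    intro t ht
    rw [hX', mem_map_conj_iff]
    have := hTdX (conj_mem_map_conj _ d t ht)
    simpa using this
  have hsup' : X' ⊔ D = ⊤ := by
    have h1 : (X ⊔ D).map (MulAut.conj d⁻¹).toMonoidHom = X' ⊔ D := by
      rw [Subgroup.map_sup]
      congr 1
      exact map_conj_eq_self_of_mem D d⁻¹ (D.inv_mem hd) |> fun h => by
        simpa using h
    rw [← h1, hsup]
    exact Subgroup.map_top_of_surjective _ (MulAut.conj d⁻¹).surjective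
  have htop := hmin X' hTX' hsup'
  apply hXc.1
  have h5 : X'.map (MulAut.conj d).toMonoidHom = X := by
    rw [hX', map_conj_map_conj, mul_inv_cancel, map_conj_one]
  rw [← h5, htop]
  exact Subgroup.map_top_of_surjective _ (MulAut.conj d).surjective

end Cfsg.Agent.Helper6.FrakN
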