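import Mathlib
import Cfsg.Prelude.Def_LocalStructure
import Cfsg.Agent.Helper1.Coprime
import Cfsg.Agent.Helper5.PClosedQuot
import Cfsg.Agent.Helper6.FrakNC
import Cfsg.Agent.Helper6.FrakND

/-!
helper6: existence of members of `𝔐_H` above a given parabolic subgroup of characteristic `p`
(generic pieces).
-/

set_option autoImplicit false

namespace Cfsg.Agent.Helper6.FrakN

open Cfsg Cfsg.Agent.Helper5

variable {H : Type*} [Group H]

/-- A minimal supplement: for `T ≤ Mt` normalizing `C ≤ Mt` there is `M` with `T ≤ M ≤ N_{Mt}(T ∩ C)`,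
`M C = Mt`, minimal with these properties. -/
theorem exists_min_supplement [Finite H] {p : ℕ} [Fact p.Prime] (T : Sylow p H) (Mt C : Subgroup H)
    (hTMt : (T : Subgroup H) ≤ Mt) (hMtC : Mt ≤ Subgroup.normalizer (C : Set H)) (hCMt : C ≤ Mt) :
    ∃ M : Subgroup H, (T : Subgroup H) ≤ M ∧ M ≤ Mt ∧
      M ≤ Subgroup.normalizer ((((T : Subgroup H) ⊓ C : Subgroup H)) : Set H) ∧ M ⊔ C = Mt ∧
      ∀ X : Subgroup H, (T : Subgroup H) ≤ X → X ≤ M → M ≤ X ⊔ C → X = M := by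
  classical
  set M₁ := Mt ⊓ Subgroup.normalizer ((((T : Subgroup H) ⊓ C : Subgroup H)) : Set H) with hM₁
  have hfr : Mt ≤ M₁ ⊔ C := frattini_rel T Mt C hTMt hMtC
  have hTM₁ : (T : Subgroup H) ≤ M₁ := by
    refine le_inf hTMt ?_
    intro t ht
    exact mem_normalizer_inf _ C t (Subgroup.le_normalizer ht) (hMtC (hTMt ht))
  set 𝒯 : Set (Subgroup H) := {X | (T : Subgroup H) ≤ X ∧ X ≤ M₁ ∧ Mt ≤ X ⊔ C} with h𝒯
  have hfin : 𝒯.Finite := Set.toFinite _
  have hM₁mem : M₁ ∈ 𝒯 := ⟨hTM₁, le_rfl, hfr⟩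
  obtain ⟨M, -, hM⟩ := hfin.exists_le_minimal hM₁mem
  obtain ⟨hTM, hMM₁, hMtM⟩ := hM.prop
  have hMMt : M ≤ Mt := hMM₁.trans inf_le_left
  refine ⟨M, hTM, hMMt, hMM₁.trans inf_le_right, le_antisymm (sup_le hMMt hCMt) hMtM, ?_⟩
  intro X hTX hXM hMX
  have hXmem : X ∈ 𝒯 := by
    refine ⟨hTX, hXM.trans hMM₁, hMtM.trans ?_⟩
    exact sup_le hMX le_sup_right
  exact le_antisymm hXM (hM.le_of_le hXmem hXM)

/-- `M ∩ C` is `p`-closed when `M ≥ T` normalizes `C` and `T ∩ C`. -/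
theorem isPClosed_inf_of_normalizes [Finite H] {p : ℕ} [Fact p.Prime] (T : Sylow p H) (M C : Subgroup H)
    (hTM : (T : Subgroup H) ≤ M) (hMC : M ≤ Subgroup.normalizer (C : Set H))
    (hMT₀ : M ≤ Subgroup.normalizer ((((T : Subgroup H) ⊓ C : Subgroup H)) : Set H)) :
    Cfsg.IsPClosed p ↥(M ⊓ C) := by
  apply isPClosed_of_pClosedSub
  refine ⟨(T : Subgroup H) ⊓ C, ?_, T.2.to_le inf_le_left, inf_le_left.trans hMT₀, ?_⟩
  · exact le_inf (inf_le_left.trans hTM) inf_le_right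
  · intro Y hY hYp
    obtain ⟨k, hk, hkT⟩ := exists_conj_le_sylow_of_le T M hTM Y (hY.trans inf_le_left) hYp
    intro x hx
    have h1 : k * x * k⁻¹ ∈ (T : Subgroup H) ⊓ C :=
      ⟨hkT x hx, (Subgroup.mem_normalizer_iff.mp (hMC hk) x).mp (hY hx).2⟩
    exact (Subgroup.mem_normalizer_iff.mp (hMT₀ hk) x).mpr h1

/-- The Frattini clause of the basic property, from minimality of `M` as a supplement of `C`. -/
theorem frattini_clause [Finite H] {p : ℕ} [Fact p.Prime] (T : Sylow p H) (M C : Subgroup H)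
    (hTM : (T : Subgroup H) ≤ M) (hMC : M ≤ Subgroup.normalizer (C : Set H))
    (hMT₀ : M ≤ Subgroup.normalizer ((((T : Subgroup H) ⊓ C : Subgroup H)) : Set H))
    (hmin : ∀ X : Subgroup H, (T : Subgroup H) ≤ X → X ≤ M → M ≤ X ⊔ C → X = M) :
    ((M ⊓ C).subgroupOf M).map (QuotientGroup.mk' (Cfsg.pCore p ↥M)) ≤
      frattini (↥M ⧸ Cfsg.pCore p ↥M) := by
  classical
  have hn : ((M ⊓ C).subgroupOf M).Normal := by
    rw [Subgroup.normal_subgroupOf_iff_le_normalizer inf_le_left]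
    intro m hm
    exact mem_normalizer_inf M C m (Subgroup.le_normalizer hm) (hMC hm)
  apply @map_le_frattini_of_no_supplement ↥M _ _ p _ (T.subtype hTM) ((M ⊓ C).subgroupOf M) hn
  · intro x hx
    have hxT : (x : H) ∈ (T : Subgroup H) := by
      have h0 : x ∈ ((T.subtype hTM : Sylow p ↥M) : Subgroup ↥M) := hx.1
      rw [Sylow.coe_subtype] at h0
      exact Subgroup.mem_subgroupOf.mp h0
    have hxC : (x : H) ∈ C := (Subgroup.mem_subgroupOf.mp hx.2).2
    have h1 : (T : Subgroup H) ⊓ C ≤ Cfsg.pCoreOf p M :=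
      le_pCore_map_subtype M _ (inf_le_left.trans hTM) (T.2.to_le inf_le_left) hMT₀
    obtain ⟨y, hy, hyx⟩ := h1 ⟨hxT, hxC⟩
    have : y = x := Subtype.ext hyx
    rwa [this] at hy
  · intro X' hTX' hsup
    set X := X'.map M.subtype with hX
    have hXM : X ≤ M := Subgroup.map_subtype_le X'
    have hTX : (T : Subgroup H) ≤ X := by
      intro t ht
      refine ⟨⟨t, hTM ht⟩, hTX' ?_, rfl⟩
      show (⟨t, hTM ht⟩ : ↥M) ∈ ((T.subtype hTM : Sylow p ↥M) : Subgroup ↥M)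
      rw [Sylow.coe_subtype]
      exact Subgroup.mem_subgroupOf.mpr ht
    have hMX : M ≤ X ⊔ C := by
      intro m hm
      have h1 : (⟨m, hm⟩ : ↥M) ∈ X' ⊔ (M ⊓ C).subgroupOf M := by rw [hsup]; trivial
      have h2 : m ∈ (X' ⊔ (M ⊓ C).subgroupOf M).map M.subtype := ⟨⟨m, hm⟩, h1, rfl⟩
      rw [Subgroup.map_sup, Subgroup.subgroupOf_map_subtype] at h2
      exact (sup_le_sup_left (inf_le_left.trans inf_le_right) X) h2
    have hXeq := hmin X hTX hXM hMX
    apply Subgroup.map_injective M.subtype_injective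
    rw [← hX, hXeq, ← MonoidHom.range_eq_map, Subgroup.range_subtype]

end Cfsg.Agent.Helper6.FrakN
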