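import Mathlib
import Cfsg.Prelude.Def_LocalStructure
import Cfsg.Agent.Helper6.FrakNE

/-!
helper6: existence of members of `𝔐_H` above a given parabolic subgroup of characteristic `p`.
-/

set_option autoImplicit false

namespace Cfsg.Agent.Helper6.FrakN

open Cfsg Cfsg.Agent.Helper5

variable {H : Type*} [Group H]

/-- Among the parabolic members `X` of `𝓛_H` with `L ≪ X`, one with `|Y_X|` maximal may be taken of the form
`N_H(Y)`. -/
theorem exists_maxY [Finite H] {p : ℕ} [Fact p.Prime] (T : Sylow p H)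
    (hpar : ∀ R : Subgroup H, (T : Subgroup H) ≤ R → Cfsg.pCore p ↥R ≠ ⊥ → R ∈ Cfsg.charPSubgroups p H)
    (L : Subgroup H) (hTL : (T : Subgroup H) ≤ L) (hL : L ∈ Cfsg.charPSubgroups p H) :
    ∃ Mt : Subgroup H, (T : Subgroup H) ≤ Mt ∧ Mt ∈ Cfsg.charPSubgroups p H ∧ LL p L Mt ∧
      Mt = Subgroup.normalizer ((Cfsg.largestPReducedOf p Mt : Subgroup H) : Set H) ∧
      Cfsg.largestPReducedOf p Mt ≠ ⊥ ∧
      ∀ X : Subgroup H, (T : Subgroup H) ≤ X → X ∈ Cfsg.charPSubgroups p H → LL p L X →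
        Cfsg.largestPReducedOf p Mt ≤ Cfsg.largestPReducedOf p X →
        Cfsg.largestPReducedOf p X = Cfsg.largestPReducedOf p Mt := by
  classical
  have hT1 : (T : Subgroup H) ≠ ⊥ := sylow_ne_bot_of_pCore_ne_bot T hTL hL.1
  set 𝒮 : Set (Subgroup H) := {X | (T : Subgroup H) ≤ X ∧ X ∈ Cfsg.charPSubgroups p H ∧ LL p L X} with h𝒮
  have hfin : 𝒮.Finite := Set.toFinite _
  have hne : 𝒮.Nonempty := ⟨L, hTL, hL, LL.of_le le_rfl⟩
  obtain ⟨X₀, hX₀, hmax⟩ := Set.exists_max_image 𝒮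
    (fun X => Nat.card ↥(Cfsg.largestPReducedOf p X)) hfin hne
  obtain ⟨hTX₀, hX₀L, hLLX₀⟩ := hX₀
  set Y₀ := Cfsg.largestPReducedOf p X₀ with hY₀
  have hY₀1 : Y₀ ≠ ⊥ := largestPReducedOf_ne_bot T hTX₀ (hasCharP_of_mem_charP hX₀L) hT1
  set Mt := Subgroup.normalizer ((Y₀ : Subgroup H) : Set H) with hMt
  have hX₀Mt : X₀ ≤ Mt := (pRedIn_largestPReducedOf p X₀).2.1
  have hTMt : (T : Subgroup H) ≤ Mt := hTX₀.trans hX₀Mt
  have hMt1 : Cfsg.pCore p ↥Mt ≠ ⊥ := pCore_ne_bot_of_normalizes_Y T hTX₀ hTMt hY₀1 le_rfl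
  have hMtL : Mt ∈ Cfsg.charPSubgroups p H := hpar Mt hTMt hMt1
  have hLLMt : LL p L Mt := hLLX₀.mono_right hX₀Mt
  have hY₀le : Y₀ ≤ Cfsg.largestPReducedOf p Mt :=
    largestPReducedOf_mono T hTX₀ hX₀Mt (hasCharP_of_mem_charP hMtL)
  have hYeq : Cfsg.largestPReducedOf p Mt = Y₀ :=
    (Subgroup.eq_of_le_of_card_ge hY₀le (hmax Mt ⟨hTMt, hMtL, hLLMt⟩)).symm
  refine ⟨Mt, hTMt, hMtL, hLLMt, ?_, ?_, ?_⟩
  · rw [hYeq]
  · rw [hYeq]; exact hY₀1
  · intro X hTX hXL hLLX hle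
    rw [hYeq] at hle ⊢
    exact (Subgroup.eq_of_le_of_card_ge hle (hmax X ⟨hTX, hXL, hLLX⟩)).symm

/-- Existence of `M ∈ 𝔐_H` with `T ≤ M` and `L ≪ M`. -/
theorem exists_frakM [Finite H] {p : ℕ} [Fact p.Prime] (T : Sylow p H)
    (hpar : ∀ R : Subgroup H, (T : Subgroup H) ≤ R → Cfsg.pCore p ↥R ≠ ⊥ → R ∈ Cfsg.charPSubgroups p H)
    (L : Subgroup H) (hTL : (T : Subgroup H) ≤ L) (hL : L ∈ Cfsg.charPSubgroups p H) :
    ∃ M : Subgroup H, (T : Subgroup H) ≤ M ∧ Cfsg.IsInFrakM p M ∧ LL p L M := by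
  classical
  obtain ⟨Mt, hTMt, hMtL, hLLMt, hMtN, hY1, hmaxY⟩ := exists_maxY T hpar L hTL hL
  have hMtchar := hasCharP_of_mem_charP hMtL
  set Y := Cfsg.largestPReducedOf p Mt with hY
  set C := Subgroup.centralizer ((Y : Subgroup H) : Set H) with hC
  have hMtNY : Mt ≤ Subgroup.normalizer ((Y : Subgroup H) : Set H) := hMtN.le
  have hNYMt : Subgroup.normalizer ((Y : Subgroup H) : Set H) ≤ Mt := hMtN.ge
  have hMtC : Mt ≤ Subgroup.normalizer (C : Set H) :=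
    hMtNY.trans (Cfsg.Agent.Helper5.normalizer_le_normalizer_centralizer Y)
  have hCMt : C ≤ Mt := (Subgroup.centralizer_le_normalizer _).trans hNYMt
  obtain ⟨M, hTM, hMMt, hMT₀, hsup, hminM⟩ := exists_min_supplement T Mt C hTMt hMtC hCMt
  have hMC : M ≤ Subgroup.normalizer (C : Set H) := hMMt.trans hMtC
  have hYM : Y ≤ M := (largestPReducedOf_le_sylow T hTMt).trans hTM
  have hM1 : Cfsg.pCore p ↥M ≠ ⊥ :=
    pCore_ne_bot_of_normalizes_Y T hTMt hTM hY1 (hMMt.trans hMtNY)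
  have hML : M ∈ Cfsg.charPSubgroups p H := hpar M hTM hM1
  have hPRed : PRedIn p M Y := by
    apply (pRedIn_largestPReducedOf p Mt).transfer hYM
    show M ⊔ C = Mt ⊔ C
    rw [hsup, sup_eq_left.mpr hCMt]
  have hYM_eq : Cfsg.largestPReducedOf p M = Y :=
    le_antisymm (largestPReducedOf_mono T hTM hMMt hMtchar) hPRed.le_largestPReducedOf
  -- `Mt ≪ M` and `L ≪ M`
  have hLLMtM : LL p Mt M := by
    intro x hx
    have hx' : x ∈ ((M ⊔ C : Subgroup H) : Set H) := by rw [hsup]; exact hx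
    rw [Subgroup.coe_mul_of_left_le_normalizer_right M C hMC] at hx'
    obtain ⟨m, hm, c, hc, rfl⟩ := hx'
    exact ⟨m, hm, c, hc, rfl⟩
  have hYLMt : Cfsg.largestPReducedOf p L ≤ Cfsg.largestPReducedOf p Mt :=
    hLLMt.Y_le T hTL hTMt hMtchar
  have hLLM : LL p L M := hLLMt.trans' hLLMtM hYLMt
  -- members of `𝓛_H` above `M` lie in `Mt`
  have habove : ∀ X : Subgroup H, X ∈ Cfsg.charPSubgroups p H → M ≤ X → X ≤ Mt := by
    intro X hXL hMX
    have hTX : (T : Subgroup H) ≤ X := hTM.trans hMX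
    have hle : Y ≤ Cfsg.largestPReducedOf p X := by
      rw [← hYM_eq]
      exact largestPReducedOf_mono T hTM hMX (hasCharP_of_mem_charP hXL)
    have heq := hmaxY X hTX hXL (hLLM.mono_right hMX) hle
    refine le_trans ?_ hNYMt
    rw [← heq]
    exact (pRedIn_largestPReducedOf p X).2.1
  have hMtmax : Mt ∈ Cfsg.maxCharPSubgroups p H := by
    refine ⟨hMtL, ?_⟩
    intro X hXL hMtX
    exact le_antisymm (habove X hXL (hMMt.trans hMtX)) hMtX
  refine ⟨M, hTM, ?_, hLLM⟩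
  unfold Cfsg.IsInFrakM
  rw [hYM_eq]
  refine ⟨hML, ?_, ?_, ?_, ?_, ?_⟩
  · rw [hsup]; exact hMtmax
  · intro X hX hMX
    rw [hsup]
    have h1 : X ≤ Mt := habove X hX.1 hMX
    exact (hX.2 Mt hMtL h1).symm
  · rw [hsup]
  · exact isPClosed_inf_of_normalizes T M C hTM hMC hMT₀
  · exact frattini_clause T M C hTM hMC hMT₀ hminM

/-- The subgroup `L*` attached to `L ≪ M`. -/
theorem exists_Ls [Finite H] {p : ℕ} [Fact p.Prime] (T : Sylow p H)
    (hpar : ∀ R : Subgroup H, (T : Subgroup H) ≤ R → Cfsg.pCore p ↥R ≠ ⊥ → R ∈ Cfsg.charPSubgroups p H)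
    (L M : Subgroup H) (hTL : (T : Subgroup H) ≤ L) (hL : L ∈ Cfsg.charPSubgroups p H)
    (hTM : (T : Subgroup H) ≤ M) (hLLM : LL p L M) :
    ∃ Ls : Subgroup H, (T : Subgroup H) ≤ Ls ∧ Ls ≤ M ∧ Ls ∈ Cfsg.charPSubgroups p H ∧
      Cfsg.largestPReducedOf p Ls = Cfsg.largestPReducedOf p L ∧
      L ⊔ Subgroup.centralizer ((Cfsg.largestPReducedOf p L : Subgroup H) : Set H) =
        Ls ⊔ Subgroup.centralizer ((Cfsg.largestPReducedOf p L : Subgroup H) : Set H) ∧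
      Ls ≤ Subgroup.normalizer ((Cfsg.largestPReducedOf p L : Subgroup H) : Set H) := by
  classical
  have hT1 : (T : Subgroup H) ≠ ⊥ := sylow_ne_bot_of_pCore_ne_bot T hTL hL.1
  have hLchar := hasCharP_of_mem_charP hL
  set Y := Cfsg.largestPReducedOf p L with hY
  have hY1 : Y ≠ ⊥ := largestPReducedOf_ne_bot T hTL hLchar hT1
  set C := Subgroup.centralizer ((Y : Subgroup H) : Set H) with hC
  have hLNY : L ≤ Subgroup.normalizer ((Y : Subgroup H) : Set H) := (pRedIn_largestPReducedOf p L).2.1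
  have hLCN : L ⊔ C ≤ Subgroup.normalizer ((Y : Subgroup H) : Set H) :=
    sup_le hLNY (Subgroup.centralizer_le_normalizer _)
  set L1 := M ⊓ (L ⊔ C) with hL1
  have hfac : L1 ⊔ C = L ⊔ C := hLLM.sup_eq
  have hTL1 : (T : Subgroup H) ≤ L1 := le_inf hTM (hTL.trans le_sup_left)
  have hL1N : L1 ≤ Subgroup.normalizer ((Y : Subgroup H) : Set H) := inf_le_right.trans hLCN
  have hL1L : L1 ∈ Cfsg.charPSubgroups p H :=
    hpar L1 hTL1 (pCore_ne_bot_of_normalizes_Y T hTL hTL1 hY1 hL1N)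
  set T₀ := (T : Subgroup H) ⊓ C with hT₀
  set Ls := L1 ⊓ Subgroup.normalizer ((T₀ : Subgroup H) : Set H) with hLs
  have h24 := Cfsg.Agent.S2824.result T L L1 hTL hTL1 hLchar (hasCharP_of_mem_charP hL1L) T₀ rfl hfac Ls rfl
  have hTLs : (T : Subgroup H) ≤ Ls := by
    refine le_inf hTL1 ?_
    intro t ht
    exact mem_normalizer_inf _ C t (Subgroup.le_normalizer ht)
      (Cfsg.Agent.Helper5.normalizer_le_normalizer_centralizer Y (hLNY (hTL ht)))
  have hLsN : Ls ≤ Subgroup.normalizer ((Y : Subgroup H) : Set H) := inf_le_left.trans hL1N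
  have hLsL : Ls ∈ Cfsg.charPSubgroups p H :=
    hpar Ls hTLs (pCore_ne_bot_of_normalizes_Y T hTL hTLs hY1 hLsN)
  exact ⟨Ls, hTLs, inf_le_left.trans inf_le_left, hLsL, h24.1, h24.2, hLsN⟩

end Cfsg.Agent.Helper6.FrakN
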