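import Mathlib
import Cfsg.Prelude.Def_LocalStructure
import Cfsg.Agent.Helper5.WeaklyClosed
import Cfsg.Agent.Helper5.Basic
import Cfsg.Agent.Helper5.Misc

/-!
helper6: elementary facts on weak closures `L° = ⟨Q^g | Q^g ≤ L⟩`.
-/

set_option autoImplicit false

namespace Cfsg.Agent.Helper6.FrakN

open Cfsg Cfsg.Agent.Helper5

variable {H : Type*} [Group H]

theorem weakClosure_mono (Q : Subgroup H) {L M : Subgroup H} (h : L ≤ M) :
    Cfsg.weakClosure Q L ≤ Cfsg.weakClosure Q M := by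
  unfold Cfsg.weakClosure
  apply iSup_le
  intro g
  exact le_iSup (fun g : {g : H // Q.map (MulAut.conj g).toMonoidHom ≤ M} =>
    Q.map (MulAut.conj (g : H)).toMonoidHom) ⟨g.1, g.2.trans h⟩

theorem le_weakClosure (Q : Subgroup H) {L : Subgroup H} (hQL : Q ≤ L) : Q ≤ Cfsg.weakClosure Q L := by
  unfold Cfsg.weakClosure
  have h1 : Q.map (MulAut.conj (1 : H)).toMonoidHom = Q := map_conj_one Q
  have h0 := le_iSup (fun g : {g : H // Q.map (MulAut.conj g).toMonoidHom ≤ L} =>
    Q.map (MulAut.conj (g : H)).toMonoidHom) ⟨1, by rw [h1]; exact hQL⟩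
  simp only [h1] at h0
  exact h0

theorem le_normalizer_weakClosure [Finite H] (Q L : Subgroup H) :
    L ≤ Subgroup.normalizer ((Cfsg.weakClosure Q L : Subgroup H) : Set H) := by
  have hmap : ∀ m ∈ L, (Cfsg.weakClosure Q L).map (MulAut.conj m).toMonoidHom ≤ Cfsg.weakClosure Q L := by
    intro m hm
    unfold Cfsg.weakClosure
    rw [Subgroup.map_iSup]
    apply iSup_le
    intro g
    rw [map_conj_map_conj]
    have hg : Q.map (MulAut.conj (m * g.1)).toMonoidHom ≤ L := by
      rw [← map_conj_map_conj, map_conj_le_iff]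
      intro x hx
      exact L.mul_mem (L.mul_mem hm (g.2 hx)) (L.inv_mem hm)
    exact le_iSup (fun g : {g : H // Q.map (MulAut.conj g).toMonoidHom ≤ L} =>
      Q.map (MulAut.conj (g : H)).toMonoidHom) ⟨m * g.1, hg⟩
  intro m hm
  apply mem_normalizer_of_conj_mem
  intro x hx
  exact hmap m hm (conj_mem_map_conj _ m x hx)

/-- If the weakly closed subgroup `Q` is normal in `L`, then `L° = Q`. -/
theorem weakClosure_eq_of_le_normalizer [Finite H] {p : ℕ} [Fact p.Prime] {Q : Subgroup H}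
    (hwc : Cfsg.IsWeaklyClosedSubgroup p Q) (hQp : IsPGroup p ↥Q) {L : Subgroup H} (hQL : Q ≤ L)
    (hLN : L ≤ Subgroup.normalizer (Q : Set H)) : Cfsg.weakClosure Q L = Q := by
  apply le_antisymm _ (le_weakClosure Q hQL)
  unfold Cfsg.weakClosure
  apply iSup_le
  intro g
  obtain ⟨k, hk, hgk⟩ := IsWeaklyClosedSubgroup.exists_conj_in hwc hQp L hQL g.1 g.2
  rw [hgk, (mem_normalizer_iff_map_conj Q k).mp (hLN hk)]

/-- `Q` is normal in `L` iff `L° = Q` (for weakly closed `Q ≤ L`). -/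
theorem le_normalizer_of_weakClosure_eq [Finite H] {Q L : Subgroup H}
    (h : Cfsg.weakClosure Q L = Q) : L ≤ Subgroup.normalizer (Q : Set H) := by
  have := le_normalizer_weakClosure Q L
  rwa [h] at this

end Cfsg.Agent.Helper6.FrakN
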