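import Mathlib

/-!
# 2-groups: a dichotomy (cyclic self-centralizing normal subgroup, or an involution which is
central modulo a central involution)
-/

set_option autoImplicit false
set_option linter.style.haveILetI false

namespace Cfsg.Agent.Helper6.FratBnd

universe u

/-- A nontrivial normal subgroup of a finite `p`-group contains a nontrivial central element. -/
theorem exists_central_of_normal_ne_bot {G : Type u} [Group G] [Finite G] (p : ℕ) [Fact p.Prime]
    (hG : IsPGroup p G) (N : Subgroup G) [N.Normal] (hN : N ≠ ⊥) :
    ∃ b ∈ N, b ∈ Subgroup.center G ∧ b ≠ 1 := by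
  have hNp : IsPGroup p N := hG.to_subgroup N
  haveI : Nontrivial N := (Subgroup.nontrivial_iff_ne_bot N).mpr hN
  obtain ⟨n, hn, hcard⟩ := hNp.nontrivial_iff_card.mp inferInstance
  have hdvd : p ∣ Nat.card N := by rw [hcard]; exact dvd_pow_self p hn.ne'
  have hfix : (1 : N) ∈ MulAction.fixedPoints (ConjAct G) N := by
    intro g
    exact smul_one g
  obtain ⟨b, hb, hb1⟩ :=
    (hG.of_equiv ConjAct.toConjAct).exists_fixed_point_of_prime_dvd_card_of_fixed_point N hdvd hfix
  refine ⟨(b : G), b.2, ?_, ?_⟩
  · rw [Subgroup.mem_center_iff]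
    intro g
    have := hb (ConjAct.toConjAct g)
    have h2 := congrArg (fun t : N => (t : G)) this
    simp only [ConjAct.Subgroup.val_conj_smul, ConjAct.toConjAct_smul] at h2
    exact (eq_mul_of_mul_inv_eq h2)
  · intro h
    apply hb1
    apply Subtype.ext
    exact h.symm

theorem orderOf_eq_two_pow {A : Type*} [Group A] (hA : IsPGroup 2 A) (a : A) :
    ∃ j : ℕ, orderOf a = 2 ^ j := by
  obtain ⟨k, hk⟩ := hA a
  obtain ⟨j, -, hj⟩ := (Nat.dvd_prime_pow Nat.prime_two).mp (orderOf_dvd_of_pow_eq_one hk)
  exact ⟨j, hj⟩

theorem mem_zpowers_involution {P : Type*} [Group P] (z : P) (hzz : z * z = 1) (x : P)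
    (hx : x ∈ Subgroup.zpowers z) : x = 1 ∨ x = z := by
  obtain ⟨k, rfl⟩ := Subgroup.mem_zpowers_iff.mp hx
  have h2 : z ^ (2 : ℤ) = 1 := by
    rw [zpow_two]; exact hzz
  have hk : k = k % 2 + 2 * (k / 2) := (Int.emod_add_mul_ediv k 2).symm
  rw [hk, zpow_add, zpow_mul, h2, one_zpow, mul_one]
  rcases Int.emod_two_eq_zero_or_one k with h | h
  · left; rw [h, zpow_zero]
  · right; rw [h, zpow_one]

/-- A finite abelian 2-group with at most one involution is cyclic. -/
theorem isCyclic_of_unique_involution : ∀ (n : ℕ) (A : Type u) [CommGroup A] [Finite A],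
    Nat.card A = n → IsPGroup 2 A → (∃ z : A, ∀ a : A, a ^ 2 = 1 → a = 1 ∨ a = z) →
    IsCyclic A := by
  intro n
  induction n using Nat.strong_induction_on with
  | _ n ih =>
    intro A _ _ hn hA ⟨z, hz⟩
    classical
    by_cases hsub : Subsingleton A
    · exact isCyclic_of_subsingleton
    rw [not_subsingleton_iff_nontrivial] at hsub
    haveI : Fact (Nat.Prime 2) := ⟨Nat.prime_two⟩
    -- z is an involution
    obtain ⟨k, hk0, hcard⟩ := hA.nontrivial_iff_card.mp hsub
    have hdvd : 2 ∣ Nat.card A := by rw [hcard]; exact dvd_pow_self 2 hk0.ne'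
    obtain ⟨t, ht⟩ := exists_prime_orderOf_dvd_card' 2 hdvd
    have ht2 : t ^ 2 = 1 := by rw [← ht]; exact pow_orderOf_eq_one t
    have ht1 : t ≠ 1 := by
      intro h
      rw [h, orderOf_one] at ht
      omega
    have htz : t = z := (hz t ht2).resolve_left ht1
    subst htz
    -- the squaring map
    let s : A →* A := powMonoidHom 2
    have hker : s.ker = Subgroup.zpowers t := by
      ext a
      rw [MonoidHom.mem_ker]
      constructor
      · intro h
        rcases hz a h with h1 | h1
        · rw [h1]; exact Subgroup.one_mem _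
        · rw [h1]; exact Subgroup.mem_zpowers t
      · intro h
        rcases mem_zpowers_involution t (by rw [← pow_two]; exact ht2) a h with h1 | h1
        · rw [h1]; exact map_one s
        · rw [h1]; exact ht2
    have hkcard : Nat.card s.ker = 2 := by rw [hker, Nat.card_zpowers, ht]
    have hAcard : Nat.card A = Nat.card s.range * 2 := by
      rw [Subgroup.card_eq_card_quotient_mul_card_subgroup s.ker, hkcard,
        Nat.card_congr (QuotientGroup.quotientKerEquivRange s).toEquiv]
    have hlt : Nat.card s.range < n := by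
      rw [← hn, hAcard]
      have : 0 < Nat.card s.range := Nat.card_pos
      omega
    -- the range has at most one involution
    have hB : ∃ z' : s.range, ∀ b : s.range, b ^ 2 = 1 → b = 1 ∨ b = z' := by
      by_cases htB : t ∈ s.range
      · refine ⟨⟨t, htB⟩, ?_⟩
        intro b hb
        have hb' : (b : A) ^ 2 = 1 := by
          have := congrArg Subtype.val hb
          simpa using this
        rcases hz b hb' with h1 | h1
        · left; exact Subtype.ext h1
        · right; exact Subtype.ext h1
      · refine ⟨1, ?_⟩
        intro b hb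
        have hb' : (b : A) ^ 2 = 1 := by
          have := congrArg Subtype.val hb
          simpa using this
        rcases hz b hb' with h1 | h1
        · left; exact Subtype.ext h1
        · exfalso
          apply htB
          rw [← h1]
          exact b.2
    have hBcyc : IsCyclic s.range :=
      ih (Nat.card s.range) hlt s.range rfl (hA.to_subgroup s.range) hB
    by_cases hr : Nat.card s.range = 1
    · rw [hr, one_mul] at hAcard
      exact isCyclic_of_prime_card hAcard
    obtain ⟨c, hc⟩ := hBcyc.exists_generator
    obtain ⟨a, ha⟩ := c.2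
    have hordc : orderOf (c : A) = Nat.card s.range := by
      rw [Subgroup.orderOf_coe]
      exact orderOf_eq_card_of_forall_mem_zpowers hc
    obtain ⟨j, hj⟩ := orderOf_eq_two_pow hA a
    have ha2 : a ^ 2 = (c : A) := ha
    apply isCyclic_of_card_le_orderOf a
    rw [hAcard, ← hordc, ← ha2, orderOf_pow' a (by norm_num), hj]
    rcases Nat.eq_zero_or_pos j with h0 | hpos
    · exfalso
      rw [h0, pow_zero, orderOf_eq_one_iff] at hj
      rw [hj, one_pow] at ha2
      rw [← ha2, orderOf_one] at hordc
      exact hr hordc.symm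
    · have h2 : (2 ^ j).gcd 2 = 2 := by
        apply Nat.gcd_eq_right
        exact dvd_pow_self 2 hpos.ne'
      rw [h2]
      have h3 : 2 ∣ 2 ^ j := dvd_pow_self 2 hpos.ne'
      rw [Nat.div_mul_cancel h3]

end Cfsg.Agent.Helper6.FratBnd
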