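import Mathlib
import Cfsg.Agent.Helper6.FratBndA

/-!
# The dichotomy for 2-groups
-/

set_option autoImplicit false
set_option linter.style.haveILetI false

namespace Cfsg.Agent.Helper6.FratBnd

universe u

variable {P : Type u} [Group P]

/-- A maximal normal abelian subgroup of a finite `p`-group is self-centralizing. -/
theorem centralizer_le_of_maximal [Finite P] (p : ℕ) [Fact p.Prime] (hP : IsPGroup p P)
    (A : Subgroup P)
    (hA : Maximal (fun A : Subgroup P => A.Normal ∧ ∀ x ∈ A, ∀ y ∈ A, x * y = y * x) A) :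
    Subgroup.centralizer (A : Set P) ≤ A := by
  haveI hAn : A.Normal := hA.1.1
  have hAc := hA.1.2
  by_contra hnot
  obtain ⟨x, hxC, hxA⟩ := SetLike.not_le_iff_exists.mp hnot
  set C : Subgroup P := Subgroup.centralizer (A : Set P) with hC
  have hQ : IsPGroup p (P ⧸ A) := hP.to_quotient A
  have hne : C.map (QuotientGroup.mk' A) ≠ ⊥ := by
    intro h
    have h1 : (QuotientGroup.mk' A) x ∈ C.map (QuotientGroup.mk' A) :=
      Subgroup.mem_map_of_mem _ hxC
    rw [h, Subgroup.mem_bot] at h1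
    exact hxA ((QuotientGroup.eq_one_iff x).mp h1)
  haveI : (C.map (QuotientGroup.mk' A)).Normal :=
    Subgroup.Normal.map inferInstance _ (QuotientGroup.mk'_surjective A)
  obtain ⟨b, hbC, hbcen, hb1⟩ :=
    exists_central_of_normal_ne_bot p hQ (C.map (QuotientGroup.mk' A)) hne
  obtain ⟨y, hyC, rfl⟩ := Subgroup.mem_map.mp hbC
  have hyA : y ∉ A := fun h => hb1 ((QuotientGroup.eq_one_iff y).mpr h)
  -- the bigger subgroup
  haveI hzn : (Subgroup.zpowers ((QuotientGroup.mk' A) y)).Normal := by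
    constructor
    intro n hn g
    obtain ⟨k, rfl⟩ := Subgroup.mem_zpowers_iff.mp hn
    have h1 : g * (QuotientGroup.mk' A) y ^ k * g⁻¹ = (QuotientGroup.mk' A) y ^ k := by
      have h2 : g * (QuotientGroup.mk' A) y ^ k = (QuotientGroup.mk' A) y ^ k * g :=
        (Subgroup.mem_center_iff.mp (Subgroup.zpow_mem _ hbcen k) g)
      rw [h2, mul_assoc, mul_inv_cancel, mul_one]
    rw [h1]
    exact Subgroup.zpow_mem _ (Subgroup.mem_zpowers _) k
  set A' : Subgroup P := (Subgroup.zpowers ((QuotientGroup.mk' A) y)).comap (QuotientGroup.mk' A)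
    with hA'
  have hdecomp : ∀ w ∈ A', ∃ (k : ℤ) (a : P), a ∈ A ∧ w = y ^ k * a := by
    intro w hw
    rw [hA', Subgroup.mem_comap] at hw
    obtain ⟨k, hk⟩ := Subgroup.mem_zpowers_iff.mp hw
    refine ⟨k, (y ^ k)⁻¹ * w, ?_, by group⟩
    rw [← map_zpow] at hk
    have := QuotientGroup.eq.mp hk
    exact this
  have hycomm : ∀ a ∈ A, y * a = a * y := by
    intro a ha
    exact (Subgroup.mem_centralizer_iff.mp hyC a ha).symm
  have hykcomm : ∀ (k : ℤ), ∀ a ∈ A, y ^ k * a = a * y ^ k := by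
    intro k a ha
    exact ((Commute.zpow_left (hycomm a ha) k)).eq
  have hp' : A'.Normal ∧ ∀ x ∈ A', ∀ y ∈ A', x * y = y * x := by
    refine ⟨inferInstance, ?_⟩
    intro w₁ hw₁ w₂ hw₂
    obtain ⟨k₁, a₁, ha₁, rfl⟩ := hdecomp w₁ hw₁
    obtain ⟨k₂, a₂, ha₂, rfl⟩ := hdecomp w₂ hw₂
    have e1 := hykcomm k₁ a₂ ha₂
    have e2 := hykcomm k₂ a₁ ha₁
    have e3 := hAc a₁ ha₁ a₂ ha₂
    have e4 : y ^ k₁ * y ^ k₂ = y ^ k₂ * y ^ k₁ := by
      rw [← zpow_add, ← zpow_add, add_comm]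
    calc y ^ k₁ * a₁ * (y ^ k₂ * a₂) = y ^ k₁ * (a₁ * y ^ k₂) * a₂ := by group
      _ = y ^ k₁ * (y ^ k₂ * a₁) * a₂ := by rw [e2]
      _ = (y ^ k₁ * y ^ k₂) * (a₁ * a₂) := by group
      _ = (y ^ k₂ * y ^ k₁) * (a₂ * a₁) := by rw [e4, e3]
      _ = y ^ k₂ * (y ^ k₁ * a₂) * a₁ := by group
      _ = y ^ k₂ * (a₂ * y ^ k₁) * a₁ := by rw [e1]
      _ = y ^ k₂ * a₂ * (y ^ k₁ * a₁) := by group
  have hAA' : A ≤ A' := by
    intro a ha
    rw [hA', Subgroup.mem_comap]
    have : (QuotientGroup.mk' A) a = 1 := (QuotientGroup.eq_one_iff a).mpr ha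
    rw [this]
    exact Subgroup.one_mem _
  have hyA' : y ∈ A' := by
    rw [hA', Subgroup.mem_comap]
    exact Subgroup.mem_zpowers _
  exact hyA (hA.2 hp' hAA' hyA')

/-- The dichotomy. -/
theorem dichotomy [Finite P] (hP : IsPGroup 2 P) (z : P) (hzc : ∀ g, z * g = g * z)
    (hzz : z * z = 1) :
    (∃ A : Subgroup P, A.Normal ∧ IsCyclic A ∧ Subgroup.centralizer (A : Set P) ≤ A ∧ z ∈ A) ∨
    (∃ b : P, b * b = 1 ∧ b ≠ 1 ∧ b ≠ z ∧ ∀ g, g * b * g⁻¹ = b ∨ g * b * g⁻¹ = z * b) := by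
  classical
  haveI : Fact (Nat.Prime 2) := ⟨Nat.prime_two⟩
  have hbot : (fun A : Subgroup P => A.Normal ∧ ∀ x ∈ A, ∀ y ∈ A, x * y = y * x) ⊥ := by
    refine ⟨inferInstance, ?_⟩
    intro x hx y hy
    rw [Subgroup.mem_bot] at hx hy
    rw [hx, hy]
  obtain ⟨A, -, hA⟩ := Finite.exists_le_maximal
    (p := fun A : Subgroup P => A.Normal ∧ ∀ x ∈ A, ∀ y ∈ A, x * y = y * x) (a := ⊥) hbot
  haveI hAn : A.Normal := hA.1.1
  have hAc := hA.1.2
  have hCA := centralizer_le_of_maximal 2 hP A hA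
  have hzA : z ∈ A := by
    apply hCA
    rw [Subgroup.mem_centralizer_iff]
    intro a _
    exact (hzc a).symm
  by_cases hcyc : IsCyclic A
  · exact Or.inl ⟨A, hAn, hcyc, hCA, hzA⟩
  right
  -- a second involution in A
  letI : CommGroup A :=
    { (inferInstance : Group A) with
      mul_comm := fun a b => Subtype.ext (hAc a a.2 b b.2) }
  have hno : ¬ ∃ z' : A, ∀ a : A, a ^ 2 = 1 → a = 1 ∨ a = z' := by
    intro h
    exact hcyc (isCyclic_of_unique_involution _ A rfl (hP.to_subgroup A) h)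
  push Not at hno
  obtain ⟨a₀, ha₀2, ha₀1, ha₀z⟩ := hno ⟨z, hzA⟩
  -- Ω
  let Ω : Subgroup P :=
    { carrier := {a | a ∈ A ∧ a * a = 1}
      one_mem' := ⟨A.one_mem, mul_one 1⟩
      mul_mem' := by
        rintro a b ⟨ha, ha2⟩ ⟨hb, hb2⟩
        refine ⟨A.mul_mem ha hb, ?_⟩
        calc a * b * (a * b) = a * (b * a) * b := by group
          _ = a * (a * b) * b := by rw [hAc b hb a ha]
          _ = (a * a) * (b * b) := by group
          _ = 1 := by rw [ha2, hb2, mul_one]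
      inv_mem' := by
        rintro a ⟨ha, ha2⟩
        refine ⟨A.inv_mem ha, ?_⟩
        rw [← mul_inv_rev, ha2, inv_one] }
  haveI hΩn : Ω.Normal := by
    constructor
    rintro a ⟨ha, ha2⟩ g
    refine ⟨hAn.conj_mem a ha g, ?_⟩
    calc g * a * g⁻¹ * (g * a * g⁻¹) = g * (a * a) * g⁻¹ := by group
      _ = 1 := by rw [ha2, mul_one, mul_inv_cancel]
  haveI hZn : (Subgroup.zpowers z).Normal := by
    constructor
    intro n hn g
    obtain ⟨k, rfl⟩ := Subgroup.mem_zpowers_iff.mp hn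
    have h1 : g * z ^ k * g⁻¹ = z ^ k := by
      have h2 : z ^ k * g = g * z ^ k := ((Commute.zpow_left (show Commute z g from hzc g) k)).eq
      rw [← h2, mul_assoc, mul_inv_cancel, mul_one]
    rw [h1]
    exact Subgroup.zpow_mem _ (Subgroup.mem_zpowers _) k
  have hQ : IsPGroup 2 (P ⧸ Subgroup.zpowers z) := hP.to_quotient _
  have ha₀Ω : (a₀ : P) ∈ Ω := by
    refine ⟨a₀.2, ?_⟩
    have := congrArg Subtype.val ha₀2
    rw [pow_two] at this
    exact this
  have ha₀Z : (a₀ : P) ∉ Subgroup.zpowers z := by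
    intro h
    rcases mem_zpowers_involution z hzz _ h with h1 | h1
    · exact ha₀1 (Subtype.ext h1)
    · exact ha₀z (Subtype.ext h1)
  have hne : Ω.map (QuotientGroup.mk' (Subgroup.zpowers z)) ≠ ⊥ := by
    intro h
    have h1 : (QuotientGroup.mk' (Subgroup.zpowers z)) (a₀ : P) ∈
        Ω.map (QuotientGroup.mk' (Subgroup.zpowers z)) := Subgroup.mem_map_of_mem _ ha₀Ω
    rw [h, Subgroup.mem_bot] at h1
    exact ha₀Z ((QuotientGroup.eq_one_iff _).mp h1)
  haveI : (Ω.map (QuotientGroup.mk' (Subgroup.zpowers z))).Normal :=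
    Subgroup.Normal.map inferInstance _ (QuotientGroup.mk'_surjective _)
  obtain ⟨b', hb'Ω, hb'cen, hb'1⟩ :=
    exists_central_of_normal_ne_bot 2 hQ (Ω.map (QuotientGroup.mk' (Subgroup.zpowers z))) hne
  obtain ⟨b, hbΩ, rfl⟩ := Subgroup.mem_map.mp hb'Ω
  have hbZ : b ∉ Subgroup.zpowers z := fun h => hb'1 ((QuotientGroup.eq_one_iff b).mpr h)
  refine ⟨b, hbΩ.2, ?_, ?_, ?_⟩
  · intro h
    apply hbZ
    rw [h]
    exact Subgroup.one_mem _
  · intro h
    apply hbZ
    rw [h]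
    exact Subgroup.mem_zpowers z
  · intro g
    have h1 := Subgroup.mem_center_iff.mp hb'cen ((QuotientGroup.mk' (Subgroup.zpowers z)) g)
    -- mk (b * g) = mk (g * b)
    rw [← map_mul, ← map_mul] at h1
    have h2 : (b * g)⁻¹ * (g * b) ∈ Subgroup.zpowers z := QuotientGroup.eq.mp h1.symm
    rcases mem_zpowers_involution z hzz _ h2 with h3 | h3
    · left
      have h4 : g * b = b * g := by
        calc g * b = (b * g) * ((b * g)⁻¹ * (g * b)) := by group
          _ = b * g := by rw [h3, mul_one]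
      rw [h4, mul_assoc, mul_inv_cancel, mul_one]
    · right
      have h4 : g * b = b * g * z := by
        calc g * b = (b * g) * ((b * g)⁻¹ * (g * b)) := by group
          _ = b * g * z := by rw [h3]
      rw [h4, mul_assoc, mul_assoc, ← mul_assoc g z, ← hzc g, mul_assoc, mul_inv_cancel, mul_one,
        ← hzc b]

end Cfsg.Agent.Helper6.FratBnd
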