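import Mathlib
import Cfsg.Agent.Helper6.FratBndA
import Cfsg.Agent.Helper6.FaithfulIrr
import Cfsg.Agent.Helper1.PGroup

/-!
# The Frattini bound: the case of a cyclic self-centralizing normal subgroup
-/

set_option autoImplicit false
set_option linter.style.haveILetI false

namespace Cfsg.Agent.Helper6.FratBnd

universe u

variable {P : Type u} [Group P]

/-- In a cyclic group with an involution `z`, the elements of square one are `1` and `z`. -/
theorem eq_one_or_eq_of_sq_eq_one {C : Type*} [Group C] [Finite C] [IsCyclic C] (z : C)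
    (hzz : z * z = 1) (hz1 : z ≠ 1) (a : C) (ha : a * a = 1) : a = 1 ∨ a = z := by
  have hcard : Nat.card (Subgroup.zpowers z) = 2 := by
    rw [Nat.card_zpowers]
    have : z ^ 2 = 1 := by rw [pow_two]; exact hzz
    exact orderOf_eq_prime this hz1
  have := Cfsg.Agent.Helper6.mem_of_pow_eq_one_of_card_eq (Subgroup.zpowers z) 2 (by norm_num) hcard a
    (by rw [pow_two]; exact ha)
  exact mem_zpowers_involution z hzz a this

/-- In a cyclic 2-group with involution `z`, each nontrivial element has `z` as a power. -/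
theorem exists_pow_eq_involution {C : Type*} [Group C] [Finite C] [IsCyclic C] (hC : IsPGroup 2 C)
    (z : C) (hzz : z * z = 1) (hz1 : z ≠ 1) (w : C) (hw : w ≠ 1) : ∃ m : ℕ, w ^ m = z := by
  obtain ⟨j, hj⟩ := orderOf_eq_two_pow hC w
  have hj0 : j ≠ 0 := by
    rintro rfl
    rw [pow_zero, orderOf_eq_one_iff] at hj
    exact hw hj
  obtain ⟨i, rfl⟩ := Nat.exists_eq_succ_of_ne_zero hj0
  refine ⟨2 ^ i, ?_⟩
  have h1 : w ^ 2 ^ i * w ^ 2 ^ i = 1 := by
    rw [← pow_add, ← two_mul, ← pow_succ', ← hj]
    exact pow_orderOf_eq_one w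
  have h2 : w ^ 2 ^ i ≠ 1 := by
    intro h
    have := orderOf_dvd_of_pow_eq_one h
    rw [hj] at this
    have h3 := Nat.le_of_dvd (by positivity) this
    have : 2 ^ i < 2 ^ (i + 1) := Nat.pow_lt_pow_right (by norm_num) (by omega)
    omega
  exact (eq_one_or_eq_of_sq_eq_one z hzz hz1 _ h1).resolve_left h2

variable [Finite P]

/-- The order of a nontrivial cyclic 2-group is `2 ^ (k+1)`, and its automorphism group has order
`2 ^ k`. -/
theorem card_and_card_mulAut {C : Type*} [Group C] [Finite C] [IsCyclic C] (hC : IsPGroup 2 C)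
    (z : C) (hz1 : z ≠ 1) :
    ∃ k : ℕ, Nat.card C = 2 ^ (k + 1) ∧ Nat.card (MulAut C) = 2 ^ k := by
  haveI : Fact (Nat.Prime 2) := ⟨Nat.prime_two⟩
  haveI : Nontrivial C := ⟨⟨z, 1, hz1⟩⟩
  obtain ⟨n, hn, hcard⟩ := hC.nontrivial_iff_card.mp inferInstance
  obtain ⟨k, rfl⟩ := Nat.exists_eq_succ_of_ne_zero hn.ne'
  refine ⟨k, hcard, ?_⟩
  rw [IsCyclic.card_mulAut, hcard, Nat.totient_prime_pow Nat.prime_two (Nat.succ_pos k)]
  simp

/-- Case (a): the three numerical consequences. -/
theorem case_cyclic {V : Type u} [CommGroup V] [Finite V] (φ : P →* MulAut V)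
    (hP : IsPGroup 2 P) (hodd : Odd (Nat.card V)) (hV : Nat.card V ≠ 1)
    (z : P) (hzz : z * z = 1) (hzinv : ∀ v, φ z v = v⁻¹)
    (A : Subgroup P) [hAn : A.Normal] (hAc : IsCyclic A)
    (hCA : Subgroup.centralizer (A : Set P) ≤ A) (hzA : z ∈ A) :
    Nat.card A + 1 ≤ Nat.card V ∧ 2 * Nat.card P ≤ Nat.card A ^ 2 ∧
      (frattini P).index ≤ Nat.card A := by
  classical
  haveI : Fact (Nat.Prime 2) := ⟨Nat.prime_two⟩
  -- a nontrivial element of V
  have hnt : Nontrivial V := by
    by_contra h
    rw [not_nontrivial_iff_subsingleton] at h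
    exact hV (Nat.card_eq_one_iff_unique.mpr ⟨h, ⟨1⟩⟩)
  obtain ⟨v₀, hv₀⟩ := exists_ne (1 : V)
  have hsq : ∀ v : V, v⁻¹ = v → v = 1 := by
    intro v hv
    have h2 : v ^ 2 = 1 := by
      rw [pow_two]
      nth_rewrite 1 [← hv]
      exact inv_mul_cancel v
    have h3 : orderOf v ∣ 2 := orderOf_dvd_of_pow_eq_one h2
    have h4 : orderOf v ∣ Nat.card V := orderOf_dvd_natCard v
    have h5 : orderOf v ∣ Nat.gcd 2 (Nat.card V) := Nat.dvd_gcd h3 h4
    have h6 : Nat.gcd 2 (Nat.card V) = 1 := Nat.coprime_two_left.mpr hodd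
    rw [h6, Nat.dvd_one, orderOf_eq_one_iff] at h5
    exact h5
  have hz1 : z ≠ 1 := by
    intro h
    have := hzinv v₀
    rw [h, map_one, MulAut.one_apply] at this
    exact hv₀ (hsq v₀ this.symm)
  have hAP : IsPGroup 2 A := hP.to_subgroup A
  set zA : A := ⟨z, hzA⟩ with hzAdef
  have hzA1 : zA ≠ 1 := fun h => hz1 (congrArg Subtype.val h)
  have hzAzA : zA * zA = 1 := Subtype.ext hzz
  obtain ⟨k, hk, hkaut⟩ := card_and_card_mulAut hAP zA hzA1
  -- (1)
  have h1 : Nat.card A + 1 ≤ Nat.card V := by
    let f : A → V := fun x => φ (x : P) v₀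
    have hf : Function.Injective f := by
      intro x y hxy
      by_contra hne
      have hw : y⁻¹ * x ≠ 1 := by
        intro h
        apply hne
        have := eq_of_inv_mul_eq_one h
        exact this.symm
      obtain ⟨m, hm⟩ := exists_pow_eq_involution hAP zA hzAzA hzA1 (y⁻¹ * x) hw
      have hfix : φ ((y⁻¹ * x : A) : P) v₀ = v₀ := by
        have : φ (y : P) (φ ((y⁻¹ * x : A) : P) v₀) = φ (y : P) v₀ := by
          rw [← MulAut.mul_apply, ← map_mul]
          have : (y : P) * ((y⁻¹ * x : A) : P) = (x : P) := by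
            push_cast
            group
          rw [this]
          exact hxy
        exact (φ (y : P)).injective this
      have hpow : ∀ m : ℕ, φ (((y⁻¹ * x) ^ m : A) : P) v₀ = v₀ := by
        intro m
        induction m with
        | zero => simp
        | succ m ih =>
          rw [pow_succ, Subgroup.coe_mul, map_mul, MulAut.mul_apply, hfix, ih]
      have := hpow m
      rw [hm] at this
      have h2 : φ z v₀ = v₀ := this
      rw [hzinv] at h2
      exact hv₀ (hsq v₀ h2)
    have hf1 : ∀ x, f x ≠ 1 := by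
      intro x hx
      have : φ (x : P) v₀ = φ (x : P) 1 := by rw [map_one]; exact hx
      exact hv₀ ((φ (x : P)).injective this)
    let f' : Option A → V := fun o => o.elim 1 f
    have hf' : Function.Injective f' := by
      intro a b hab
      cases a with
      | none =>
        cases b with
        | none => rfl
        | some b => exact absurd hab.symm (hf1 b)
      | some a =>
        cases b with
        | none => exact absurd hab (hf1 a)
        | some b => exact congrArg some (hf hab)
    haveI : Fintype A := Fintype.ofFinite A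
    have hcc := Nat.card_le_card_of_injective f' hf'
    rw [Nat.card_eq_fintype_card, Fintype.card_option, ← Nat.card_eq_fintype_card] at hcc
    exact hcc
  -- (2)
  have h2 : 2 * Nat.card P ≤ Nat.card A ^ 2 := by
    let c : P →* MulAut A := MulAut.conjNormal
    have hker : c.ker ≤ A := by
      intro g hg
      apply hCA
      rw [Subgroup.mem_centralizer_iff]
      intro a ha
      have : c g ⟨a, ha⟩ = ⟨a, ha⟩ := by
        rw [MonoidHom.mem_ker.mp hg]
        rfl
      have h3 := congrArg Subtype.val this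
      rw [MulAut.conjNormal_apply] at h3
      -- g * a * g⁻¹ = a
      calc a * g = (g * a * g⁻¹) * g := by rw [h3]
        _ = g * a := by group
    have hc1 : Nat.card c.ker * Nat.card c.range = Nat.card P := by
      rw [← Subgroup.index_ker]
      exact Subgroup.card_mul_index _
    have hc2 : Nat.card c.ker ≤ Nat.card A := Subgroup.card_le_of_le hker
    have hc3 : Nat.card c.range ≤ 2 ^ k := by
      rw [← hkaut]
      exact Subgroup.card_le_card_group _
    calc 2 * Nat.card P = 2 * (Nat.card c.ker * Nat.card c.range) := by rw [hc1]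
      _ ≤ 2 * (Nat.card A * 2 ^ k) := by
        apply Nat.mul_le_mul_left
        exact Nat.mul_le_mul hc2 hc3
      _ = Nat.card A ^ 2 := by
        rw [hk]
        ring
  refine ⟨h1, h2, ?_⟩
  -- (3)
  letI : CommGroup A := IsCyclic.commGroup
  let ψ : A →* P := A.subtype.comp (powMonoidHom 2)
  have hψ : ∀ x : A, ψ x = (x : P) ^ 2 := by
    intro x
    rfl
  have hrange : ψ.range ≤ frattini P := by
    rintro _ ⟨x, rfl⟩
    rw [hψ]
    exact Helper1.IsPGroup.pow_mem_frattini hP _
  have hkerψ : Nat.card ψ.ker ≤ 2 := by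
    let g : ψ.ker → Subgroup.zpowers zA := fun x => ⟨x.1, by
      have hx := MonoidHom.mem_ker.mp x.2
      rw [hψ, pow_two] at hx
      have hx' : (x.1 : A) * x.1 = 1 := Subtype.ext hx
      rcases eq_one_or_eq_of_sq_eq_one zA hzAzA hzA1 _ hx' with h | h
      · rw [h]; exact Subgroup.one_mem _
      · rw [h]; exact Subgroup.mem_zpowers _⟩
    have hg : Function.Injective g := by
      intro x y hxy
      apply Subtype.ext
      exact congrArg (fun t : Subgroup.zpowers zA => (t : A)) hxy
    have := Nat.card_le_card_of_injective g hg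
    have hcard : Nat.card (Subgroup.zpowers zA) = 2 := by
      rw [Nat.card_zpowers]
      have : zA ^ 2 = 1 := by rw [pow_two]; exact hzAzA
      exact orderOf_eq_prime this hzA1
    omega
  have hψ1 : Nat.card ψ.ker * Nat.card ψ.range = Nat.card A := by
    rw [← Subgroup.index_ker]
    exact Subgroup.card_mul_index _
  have hψ2 : Nat.card ψ.range ≤ Nat.card (frattini P) := Subgroup.card_le_of_le hrange
  have hA2 : Nat.card A ≤ 2 * Nat.card (frattini P) := by
    rw [← hψ1]
    exact Nat.mul_le_mul hkerψ hψ2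
  have hidx : Nat.card (frattini P) * (frattini P).index = Nat.card P := Subgroup.card_mul_index _
  have hApos : 0 < Nat.card A := Nat.card_pos
  -- index * a ≤ index * 2 |Φ| = 2 |P| ≤ a^2
  have h3 : (frattini P).index * Nat.card A ≤ Nat.card A * Nat.card A := by
    calc (frattini P).index * Nat.card A ≤ (frattini P).index * (2 * Nat.card (frattini P)) :=
          Nat.mul_le_mul_left _ hA2
      _ = 2 * Nat.card P := by rw [← hidx]; ring
      _ ≤ Nat.card A ^ 2 := h2
      _ = Nat.card A * Nat.card A := by ring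
  exact Nat.le_of_mul_le_mul_right h3 hApos

end Cfsg.Agent.Helper6.FratBnd
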