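import Mathlib
import Cfsg.Agent.Helper6.FratBndA
import Cfsg.Agent.Helper1.PGroup

/-!
# The Frattini bound: the case of a non-central involution which is central modulo `z`
-/

set_option autoImplicit false
set_option linter.style.haveILetI false

namespace Cfsg.Agent.Helper6.FratBnd

universe u

/-- Irreducibility of an action by automorphisms on an abelian group. -/
def Irred {V : Type u} [CommGroup V] {P : Type u} [Group P] (φ : P →* MulAut V) : Prop :=
  ∀ U : Subgroup V, (∀ g, ∀ u ∈ U, φ g u ∈ U) → U = ⊥ ∨ U = ⊤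

/-- Restriction of an action by automorphisms to an invariant subgroup (acting group also
restricted). -/
def restrictHom {V : Type u} [CommGroup V] {P : Type u} [Group P] (φ : P →* MulAut V)
    (M : Subgroup P) (U : Subgroup V) (h : ∀ m ∈ M, ∀ u ∈ U, φ m u ∈ U) : ↥M →* MulAut ↥U where
  toFun m :=
    { toFun := fun u => ⟨φ (m : P) u, h m m.2 u u.2⟩
      invFun := fun u => ⟨φ ((m⁻¹ : M) : P) u, h _ (m⁻¹).2 u u.2⟩
      left_inv := fun u => by
        apply Subtype.ext
        simp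
      right_inv := fun u => by
        apply Subtype.ext
        simp
      map_mul' := fun u v => Subtype.ext (map_mul _ _ _) }
  map_one' := by
    ext u
    simp
  map_mul' := fun m m' => by
    ext u
    simp

@[simp] theorem restrictHom_apply_coe {V : Type u} [CommGroup V] {P : Type u} [Group P]
    (φ : P →* MulAut V) (M : Subgroup P) (U : Subgroup V) (h : ∀ m ∈ M, ∀ u ∈ U, φ m u ∈ U)
    (m : M) (u : U) : ((restrictHom φ M U h m u : U) : V) = φ (m : P) (u : V) := rfl

theorem eq_one_of_inv_eq_self {V : Type*} [Group V] [Finite V] (hodd : Odd (Nat.card V)) (v : V)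
    (hv : v⁻¹ = v) : v = 1 := by
  have h2 : v ^ 2 = 1 := by
    rw [pow_two]
    nth_rewrite 1 [← hv]
    exact inv_mul_cancel v
  have h3 : orderOf v ∣ 2 := orderOf_dvd_of_pow_eq_one h2
  have h4 : orderOf v ∣ Nat.card V := orderOf_dvd_natCard v
  have h5 : orderOf v ∣ Nat.gcd 2 (Nat.card V) := Nat.dvd_gcd h3 h4
  have h6 : Nat.gcd 2 (Nat.card V) = 1 := Nat.coprime_two_left.mpr hodd
  rw [h6, Nat.dvd_one, orderOf_eq_one_iff] at h5
  exact h5

/-- In an abelian group of odd order, every element is a product of a fixed vector and an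
inverted vector of an involutory automorphism. -/
theorem exists_decomp {V : Type*} [CommGroup V] [Finite V] (hodd : Odd (Nat.card V))
    (β : MulAut V) (hββ : ∀ v, β (β v) = v) (v : V) :
    ∃ u₁ u₂ : V, β u₁ = u₁ ∧ β u₂ = u₂⁻¹ ∧ v = u₁ * u₂ := by
  obtain ⟨m, hm⟩ := hodd
  refine ⟨(v * β v) ^ (m + 1), (v * (β v)⁻¹) ^ (m + 1), ?_, ?_, ?_⟩
  · rw [map_pow, map_mul, hββ, mul_comm]
  · rw [map_pow, map_mul, map_inv, hββ, ← inv_pow, mul_inv, inv_inv, mul_comm]
  · rw [← mul_pow]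
    have : v * β v * (v * (β v)⁻¹) = v ^ 2 := by
      rw [pow_two]
      calc v * β v * (v * (β v)⁻¹) = v * v * (β v * (β v)⁻¹) := by
            rw [mul_mul_mul_comm]
        _ = v * v := by rw [mul_inv_cancel, mul_one]
    rw [this, ← pow_mul]
    have h2 : 2 * (m + 1) = Nat.card V + 1 := by omega
    rw [h2, pow_succ, pow_card_eq_one', one_mul]


set_option maxHeartbeats 1600000 in
/-- Case (b): reduction to a smaller configuration. -/
theorem case_involution {V : Type u} [CommGroup V] [Finite V] {P : Type u} [Group P] [Finite P]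
    (φ : P →* MulAut V) (hφ : Function.Injective φ) (hP : IsPGroup 2 P)
    (hodd : Odd (Nat.card V)) (hV : Nat.card V ≠ 1) (hirr : Irred φ)
    (z : P) (hzc : ∀ g, z * g = g * z) (hzz : z * z = 1) (hzinv : ∀ v, φ z v = v⁻¹)
    (b : P) (hbb : b * b = 1) (hb1 : b ≠ 1) (hbz : b ≠ z)
    (hconj : ∀ g, g * b * g⁻¹ = b ∨ g * b * g⁻¹ = z * b) :
    ∃ (V₁ : Type u) (_ : CommGroup V₁) (_ : Finite V₁) (P₁ : Type u) (_ : Group P₁)
      (_ : Finite P₁) (φ₁ : P₁ →* MulAut V₁), Function.Injective φ₁ ∧ IsPGroup 2 P₁ ∧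
      Odd (Nat.card V₁) ∧ Nat.card V₁ ≠ 1 ∧ Irred φ₁ ∧ Nat.card V₁ ^ 2 ≤ Nat.card V ∧
      Nat.card P ≤ 2 * Nat.card P₁ ^ 2 ∧ (frattini P).index ≤ 2 * Nat.card P₁ := by
  classical
  haveI : Fact (Nat.Prime 2) := ⟨Nat.prime_two⟩
  have hsq : ∀ v : V, v⁻¹ = v → v = 1 := eq_one_of_inv_eq_self hodd
  have hnt : Nontrivial V := by
    by_contra h
    rw [not_nontrivial_iff_subsingleton] at h
    exact hV (Nat.card_eq_one_iff_unique.mpr ⟨h, ⟨1⟩⟩)
  obtain ⟨v₀, hv₀⟩ := exists_ne (1 : V)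
  have hz1 : z ≠ 1 := by
    intro h
    have := hzinv v₀
    rw [h, map_one, MulAut.one_apply] at this
    exact hv₀ (hsq v₀ this.symm)
  have hzinv' : z⁻¹ = z := inv_eq_of_mul_eq_one_left hzz
  -- β
  have hββ : ∀ v, φ b (φ b v) = v := by
    intro v
    rw [← MulAut.mul_apply, ← map_mul, hbb, map_one, MulAut.one_apply]
  -- the two conjugation types
  have hc_mul : ∀ g h : P, (g * h) * b * (g * h)⁻¹ = g * (h * b * h⁻¹) * g⁻¹ := by
    intro g h; group
  have hc_z : ∀ g : P, g * (z * b) * g⁻¹ = z * (g * b * g⁻¹) := by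
    intro g
    rw [← mul_assoc g z b, ← hzc g]
    group
  have hcc : ∀ g h : P, g * b * g⁻¹ = b → h * b * h⁻¹ = b → (g * h) * b * (g * h)⁻¹ = b := by
    intro g h hg hh
    rw [hc_mul, hh, hg]
  have hcs : ∀ g h : P, g * b * g⁻¹ = b → h * b * h⁻¹ = z * b →
      (g * h) * b * (g * h)⁻¹ = z * b := by
    intro g h hg hh
    rw [hc_mul, hh, hc_z, hg]
  have hsc : ∀ g h : P, g * b * g⁻¹ = z * b → h * b * h⁻¹ = b →
      (g * h) * b * (g * h)⁻¹ = z * b := by
    intro g h hg hh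
    rw [hc_mul, hh, hg]
  have hss : ∀ g h : P, g * b * g⁻¹ = z * b → h * b * h⁻¹ = z * b →
      (g * h) * b * (g * h)⁻¹ = b := by
    intro g h hg hh
    rw [hc_mul, hh, hc_z, hg, ← mul_assoc, hzz, one_mul]
  have hcinv : ∀ g : P, g * b * g⁻¹ = b → g⁻¹ * b * g⁻¹⁻¹ = b := by
    intro g hg
    nth_rewrite 1 [← hg]
    group
  have hsinv : ∀ g : P, g * b * g⁻¹ = z * b → g⁻¹ * b * g⁻¹⁻¹ = z * b := by
    intro g hg
    have h1 : b = z * (g * b * g⁻¹) := by
      rw [hg, ← mul_assoc, hzz, one_mul]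
    have h2 : g⁻¹ * b * g⁻¹⁻¹ = g⁻¹ * (z * (g * b * g⁻¹)) * g⁻¹⁻¹ := by rw [← h1]
    rw [h2, ← mul_assoc g⁻¹ z, ← hzc g⁻¹]
    group
  have hne_types : ∀ g : P, g * b * g⁻¹ = b → g * b * g⁻¹ = z * b → False := by
    intro g h1 h2
    rw [h1] at h2
    have : z = 1 := by
      have := congrArg (fun t => t * b⁻¹) h2
      simp only [mul_inv_cancel, mul_assoc, mul_one] at this
      exact this.symm
    exact hz1 this
  -- action of the two types
  have hcomm : ∀ g : P, g * b * g⁻¹ = b → ∀ v, φ b (φ g v) = φ g (φ b v) := by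
    intro g hg v
    have h1 : b * g = g * b := by
      nth_rewrite 1 [← hg]
      group
    rw [← MulAut.mul_apply, ← map_mul, h1, map_mul, MulAut.mul_apply]
  have hanti : ∀ g : P, g * b * g⁻¹ = z * b → ∀ v, φ b (φ g v) = (φ g (φ b v))⁻¹ := by
    intro g hg v
    have h1 : b * g = z * (g * b) := by
      have : g * b = z * b * g := by
        rw [← hg]; group
      rw [this, ← mul_assoc, ← mul_assoc, hzz, one_mul]
    rw [← MulAut.mul_apply, ← map_mul, h1, map_mul, MulAut.mul_apply, hzinv, map_mul,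
      MulAut.mul_apply]
  -- the two subgroups
  let U₁ : Subgroup V :=
    { carrier := {v | φ b v = v}
      one_mem' := map_one _
      mul_mem' := by
        intro x y hx hy
        simp only [Set.mem_setOf_eq] at hx hy ⊢
        rw [map_mul, hx, hy]
      inv_mem' := by
        intro x hx
        simp only [Set.mem_setOf_eq] at hx ⊢
        rw [map_inv, hx] }
  let U₂ : Subgroup V :=
    { carrier := {v | φ b v = v⁻¹}
      one_mem' := by simp
      mul_mem' := by
        intro x y hx hy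
        simp only [Set.mem_setOf_eq] at hx hy ⊢
        rw [map_mul, hx, hy, mul_inv]
      inv_mem' := by
        intro x hx
        simp only [Set.mem_setOf_eq] at hx ⊢
        rw [map_inv, hx] }
  have hU₁ : ∀ v, v ∈ U₁ ↔ φ b v = v := fun v => Iff.rfl
  have hU₂ : ∀ v, v ∈ U₂ ↔ φ b v = v⁻¹ := fun v => Iff.rfl
  have hdisj : ∀ v, v ∈ U₁ → v ∈ U₂ → v = 1 := by
    intro v h1 h2
    rw [hU₁] at h1
    rw [hU₂, h1] at h2
    exact hsq v h2.symm
  have hdec : ∀ v : V, ∃ u₁ ∈ U₁, ∃ u₂ ∈ U₂, v = u₁ * u₂ := by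
    intro v
    obtain ⟨u₁, u₂, h1, h2, h3⟩ := exists_decomp hodd (φ b) hββ v
    exact ⟨u₁, h1, u₂, h2, h3⟩
  have hC11 : ∀ g : P, g * b * g⁻¹ = b → ∀ u ∈ U₁, φ g u ∈ U₁ := by
    intro g hg u hu
    rw [hU₁] at hu ⊢
    rw [hcomm g hg, hu]
  have hS12 : ∀ g : P, g * b * g⁻¹ = z * b → ∀ u ∈ U₁, φ g u ∈ U₂ := by
    intro g hg u hu
    rw [hU₁] at hu
    rw [hU₂, hanti g hg, hu]
  have hS21 : ∀ g : P, g * b * g⁻¹ = z * b → ∀ u ∈ U₂, φ g u ∈ U₁ := by
    intro g hg u hu
    rw [hU₂] at hu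
    rw [hU₁, hanti g hg, hu, map_inv, inv_inv]
  -- existence of a swapping element
  have hex : ∃ g₀ : P, g₀ * b * g₀⁻¹ = z * b := by
    by_contra hno
    push Not at hno
    have hall : ∀ g : P, g * b * g⁻¹ = b := fun g => (hconj g).resolve_right (hno g)
    rcases hirr U₁ (fun g u hu => hC11 g (hall g) u hu) with h | h
    · -- U₁ = ⊥: then β inverts everything
      apply hbz
      apply hφ
      ext v
      rw [hzinv]
      have : v * φ b v ∈ U₁ := by
        rw [hU₁, map_mul, hββ, mul_comm]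
      rw [h, Subgroup.mem_bot] at this
      exact (eq_inv_of_mul_eq_one_right this)
    · apply hb1
      apply hφ
      ext v
      rw [map_one, MulAut.one_apply]
      have : v ∈ U₁ := by rw [h]; exact Subgroup.mem_top v
      exact this
  obtain ⟨g₀, hg₀⟩ := hex
  have hg₀' : g₀⁻¹ * b * g₀⁻¹⁻¹ = z * b := hsinv g₀ hg₀
  -- U₁ is nontrivial
  have hU₁bot : U₁ ≠ ⊥ := by
    intro h
    apply hv₀
    obtain ⟨u₁, h1, u₂, h2, h3⟩ := hdec v₀
    have e1 : u₁ = 1 := by
      rw [h, Subgroup.mem_bot] at h1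
      exact h1
    have e2 : u₂ = 1 := by
      have : φ g₀ u₂ ∈ U₁ := hS21 g₀ hg₀ u₂ h2
      rw [h, Subgroup.mem_bot] at this
      have h4 : φ g₀ u₂ = φ g₀ 1 := by rw [map_one]; exact this
      exact (φ g₀).injective h4
    rw [h3, e1, e2, mul_one]
  -- the centralizer of b
  let M : Subgroup P :=
    { carrier := {g | g * b * g⁻¹ = b}
      one_mem' := by simp
      mul_mem' := fun {g h} hg hh => hcc g h hg hh
      inv_mem' := fun {g} hg => hcinv g hg }
  have hM : ∀ g, g ∈ M ↔ g * b * g⁻¹ = b := fun g => Iff.rfl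
  have hnM : ∀ g, g ∉ M → g * b * g⁻¹ = z * b := fun g hg => (hconj g).resolve_left hg
  have hMidx : M.index = 2 := by
    rw [Subgroup.index_eq_two_iff]
    refine ⟨g₀, fun g => ?_⟩
    by_cases hg : g ∈ M
    · right
      refine ⟨hg, ?_⟩
      intro h
      exact hne_types _ h (hcs g g₀ hg hg₀)
    · left
      exact ⟨hss g g₀ (hnM g hg) hg₀, hg⟩
  have hPM : Nat.card P = 2 * Nat.card M := by
    rw [← Subgroup.card_mul_index M, hMidx, mul_comm]
  -- ρ
  let ρ : ↥M →* MulAut ↥U₁ := restrictHom φ M U₁ (fun m hm u hu => hC11 m hm u hu)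
  have hρ : ∀ (m : M) (u : U₁), ((ρ m u : U₁) : V) = φ (m : P) (u : V) := fun m u => rfl
  -- the key lemma
  have hKL : ∀ h : P, (∀ u ∈ U₁, φ h u = u) → (∀ u ∈ U₁, φ (g₀⁻¹ * h * g₀) u = u) → h = 1 := by
    intro h h1 h2
    apply hφ
    ext v
    rw [map_one, MulAut.one_apply]
    have h3 : ∀ u ∈ U₂, φ h u = u := by
      intro u hu
      have h4 := h2 (φ g₀⁻¹ u) (hS21 g₀⁻¹ hg₀' u hu)
      rw [← MulAut.mul_apply, ← map_mul] at h4
      have h5 : g₀⁻¹ * h * g₀ * g₀⁻¹ = g₀⁻¹ * h := by group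
      rw [h5, map_mul, MulAut.mul_apply] at h4
      exact (φ g₀⁻¹).injective h4
    obtain ⟨u₁, hu₁, u₂, hu₂, rfl⟩ := hdec v
    rw [map_mul, h1 u₁ hu₁, h3 u₂ hu₂]
  -- the smaller configuration
  refine ⟨↥U₁, inferInstance, inferInstance, ↥ρ.range, inferInstance, inferInstance,
    ρ.range.subtype, Subgroup.subtype_injective _, ?_, ?_, ?_, ?_, ?_, ?_, ?_⟩
  · exact (hP.to_subgroup M).of_surjective ρ.rangeRestrict ρ.rangeRestrict_surjective
  · exact hodd.of_dvd_nat (Subgroup.card_subgroup_dvd_card U₁)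
  · intro h
    exact hU₁bot (Subgroup.card_eq_one.mp h)
  · -- irreducibility
    intro W₁ hW₁
    let W : Subgroup V := W₁.map U₁.subtype
    have hWU : W ≤ U₁ := by
      intro w hw
      obtain ⟨w₁, -, rfl⟩ := Subgroup.mem_map.mp hw
      exact w₁.2
    have hWM : ∀ m ∈ M, ∀ w ∈ W, φ m w ∈ W := by
      intro m hm w hw
      obtain ⟨w₁, hw₁, rfl⟩ := Subgroup.mem_map.mp hw
      have := hW₁ ⟨ρ ⟨m, hm⟩, ⟨⟨m, hm⟩, rfl⟩⟩ w₁ hw₁
      exact Subgroup.mem_map.mpr ⟨_, this, rfl⟩
    let W₂ : Subgroup V := W.map (φ g₀).toMonoidHom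
    have hW₂ : ∀ v, v ∈ W₂ ↔ ∃ w ∈ W, φ g₀ w = v := by
      intro v
      exact Subgroup.mem_map
    have hW₂U : W₂ ≤ U₂ := by
      intro v hv
      obtain ⟨w, hw, rfl⟩ := (hW₂ v).mp hv
      exact hS12 g₀ hg₀ w (hWU hw)
    have hinv : ∀ g, ∀ u ∈ W ⊔ W₂, φ g u ∈ W ⊔ W₂ := by
      intro g u hu
      obtain ⟨y, hy, y', hy', rfl⟩ := Subgroup.mem_sup.mp hu
      obtain ⟨w, hw, rfl⟩ := (hW₂ y').mp hy'
      rw [map_mul]
      by_cases hg : g ∈ M
      · apply Subgroup.mul_mem
        · exact Subgroup.mem_sup_left (hWM g hg y hy)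
        · apply Subgroup.mem_sup_right
          rw [hW₂]
          refine ⟨φ (g₀⁻¹ * g * g₀) w, hWM _ ?_ w hw, ?_⟩
          · rw [hM]
            exact hss _ _ (hsc _ _ hg₀' hg) hg₀
          · rw [← MulAut.mul_apply, ← map_mul, ← MulAut.mul_apply, ← map_mul]
            congr 2
            group
      · have hg' := hnM g hg
        apply Subgroup.mul_mem
        · apply Subgroup.mem_sup_right
          rw [hW₂]
          refine ⟨φ (g₀⁻¹ * g) y, hWM _ ?_ y hy, ?_⟩
          · rw [hM]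
            exact hss _ _ hg₀' hg'
          · rw [← MulAut.mul_apply, ← map_mul]
            congr 2
            group
        · apply Subgroup.mem_sup_left
          rw [← MulAut.mul_apply, ← map_mul]
          apply hWM _ ?_ w hw
          rw [hM]
          exact hss _ _ hg' hg₀
    rcases hirr (W ⊔ W₂) hinv with h | h
    · left
      have hWbot : W = ⊥ := by
        rw [eq_bot_iff, ← h]
        exact le_sup_left
      exact (Subgroup.map_eq_bot_iff_of_injective W₁ U₁.subtype_injective).mp hWbot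
    · right
      rw [Subgroup.eq_top_iff']
      intro u₁
      have hu : (u₁ : V) ∈ W ⊔ W₂ := by rw [h]; exact Subgroup.mem_top _
      obtain ⟨y, hy, y', hy', hyy'⟩ := Subgroup.mem_sup.mp hu
      have hy'1 : y' = 1 := by
        apply hdisj y' ?_ (hW₂U hy')
        have : y' = y⁻¹ * (u₁ : V) := by rw [← hyy']; group
        rw [this]
        exact U₁.mul_mem (U₁.inv_mem (hWU hy)) u₁.2
      rw [hy'1, mul_one] at hyy'
      obtain ⟨w₁, hw₁, e⟩ := Subgroup.mem_map.mp hy
      have : w₁ = u₁ := Subtype.ext (e.trans hyy')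
      rw [← this]
      exact hw₁
  · -- |U₁|² ≤ |V|
    let F : U₁ × U₁ → V := fun p => (p.1 : V) * φ g₀ (p.2 : V)
    have hF : Function.Injective F := by
      rintro ⟨u, u'⟩ ⟨w, w'⟩ huw
      simp only [F] at huw
      have h1 : (w : V)⁻¹ * u = φ g₀ ((w' : V) * (u' : V)⁻¹) := by
        rw [map_mul, map_inv]
        calc (w : V)⁻¹ * u = (w : V)⁻¹ * (u * φ g₀ (u' : V)) * (φ g₀ (u' : V))⁻¹ := by group
          _ = (w : V)⁻¹ * (w * φ g₀ (w' : V)) * (φ g₀ (u' : V))⁻¹ := by rw [huw]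
          _ = φ g₀ (w' : V) * (φ g₀ (u' : V))⁻¹ := by group
      have h2 : (w : V)⁻¹ * u = 1 := by
        apply hdisj
        · exact U₁.mul_mem (U₁.inv_mem w.2) u.2
        · rw [h1]
          exact hS12 g₀ hg₀ _ (U₁.mul_mem w'.2 (U₁.inv_mem u'.2))
      have h3 : (u : V) = w := by
        have := eq_of_inv_mul_eq_one h2
        exact this.symm
      have h4 : (w' : V) * (u' : V)⁻¹ = 1 := by
        rw [h2] at h1
        have : φ g₀ ((w' : V) * (u' : V)⁻¹) = φ g₀ 1 := by rw [map_one]; exact h1.symm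
        exact (φ g₀).injective this
      have h5 : (w' : V) = u' := by
        exact mul_inv_eq_one.mp h4
      exact Prod.ext (Subtype.ext h3) (Subtype.ext h5.symm)
    have := Nat.card_le_card_of_injective F hF
    rw [Nat.card_prod] at this
    rw [pow_two]
    exact this
  · -- |P| ≤ 2 |P₁|²
    rw [hPM]
    apply Nat.mul_le_mul_left
    have hconjM : ∀ m : M, g₀ * (m : P) * g₀⁻¹ ∈ M := by
      intro m
      rw [hM]
      have := hss _ _ (hsc _ _ hg₀ m.2) hg₀'
      exact this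
    let F : M → ρ.range × ρ.range := fun m =>
      (⟨ρ m, ⟨m, rfl⟩⟩, ⟨ρ ⟨g₀ * (m : P) * g₀⁻¹, hconjM m⟩, ⟨_, rfl⟩⟩)
    have hF : Function.Injective F := by
      intro m m' hmm
      have e1 : ρ m = ρ m' := congrArg (fun t => (t.1 : MulAut U₁)) hmm
      have e2 : ρ ⟨g₀ * (m : P) * g₀⁻¹, hconjM m⟩ = ρ ⟨g₀ * (m' : P) * g₀⁻¹, hconjM m'⟩ :=
        congrArg (fun t => (t.2 : MulAut U₁)) hmm
      have e1' : ∀ u ∈ U₁, φ (m : P) u = φ (m' : P) u := by
        intro u hu
        have := congrArg (fun t : MulAut U₁ => ((t ⟨u, hu⟩ : U₁) : V)) e1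
        exact this
      have e2' : ∀ u ∈ U₁, φ (g₀ * (m : P) * g₀⁻¹) u = φ (g₀ * (m' : P) * g₀⁻¹) u := by
        intro u hu
        have := congrArg (fun t : MulAut U₁ => ((t ⟨u, hu⟩ : U₁) : V)) e2
        exact this
      have hkl := hKL (g₀ * ((m : P)⁻¹ * (m' : P)) * g₀⁻¹) ?_ ?_
      · have : (m : P)⁻¹ * (m' : P) = 1 := by
          calc (m : P)⁻¹ * (m' : P) = g₀⁻¹ * (g₀ * ((m : P)⁻¹ * (m' : P)) * g₀⁻¹) * g₀ := by group
            _ = 1 := by rw [hkl]; group
        apply Subtype.ext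
        have := eq_of_inv_mul_eq_one this
        exact this
      · intro u hu
        have : g₀ * ((m : P)⁻¹ * (m' : P)) * g₀⁻¹ =
            (g₀ * (m : P) * g₀⁻¹)⁻¹ * (g₀ * (m' : P) * g₀⁻¹) := by group
        rw [this, map_mul, MulAut.mul_apply, ← e2' u hu, ← MulAut.mul_apply, ← map_mul,
          inv_mul_cancel, map_one, MulAut.one_apply]
      · intro u hu
        have : g₀⁻¹ * (g₀ * ((m : P)⁻¹ * (m' : P)) * g₀⁻¹) * g₀ = (m : P)⁻¹ * (m' : P) := by group
        rw [this, map_mul, MulAut.mul_apply, ← e1' u hu, ← MulAut.mul_apply, ← map_mul,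
          inv_mul_cancel, map_one, MulAut.one_apply]
    have := Nat.card_le_card_of_injective F hF
    rw [Nat.card_prod] at this
    rw [pow_two]
    exact this
  · -- the Frattini index
    have hker : ∀ k ∈ ρ.ker, ∀ u ∈ U₁, φ (k : P) u = u := by
      intro k hk u hu
      have := congrArg (fun t : MulAut U₁ => ((t ⟨u, hu⟩ : U₁) : V)) (MonoidHom.mem_ker.mp hk)
      exact this
    have hmemΦ : ∀ k : P, k⁻¹ * g₀ * k * g₀⁻¹ ∈ frattini P := by
      intro k
      apply Helper1.IsPGroup.commutator_le_frattini hP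
      rw [commutator_def]
      have := Subgroup.commutator_mem_commutator (Subgroup.mem_top k⁻¹) (Subgroup.mem_top g₀)
      rw [commutatorElement_def, inv_inv] at this
      exact this
    let F : ρ.ker → frattini P := fun k => ⟨((k : M) : P)⁻¹ * g₀ * ((k : M) : P) * g₀⁻¹, hmemΦ _⟩
    have hF : Function.Injective F := by
      intro k k' hkk
      have e : ((k : M) : P)⁻¹ * g₀ * ((k : M) : P) * g₀⁻¹ =
          ((k' : M) : P)⁻¹ * g₀ * ((k' : M) : P) * g₀⁻¹ := congrArg Subtype.val hkk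
      set x : P := ((k : M) : P) with hx
      set x' : P := ((k' : M) : P) with hx'
      have hfix : x' * x⁻¹ = g₀ * (x' * x⁻¹) * g₀⁻¹ := by
        calc x' * x⁻¹ = x' * (x⁻¹ * g₀ * x * g₀⁻¹) * (g₀ * x⁻¹ * g₀⁻¹) := by group
          _ = x' * (x'⁻¹ * g₀ * x' * g₀⁻¹) * (g₀ * x⁻¹ * g₀⁻¹) := by rw [e]
          _ = g₀ * (x' * x⁻¹) * g₀⁻¹ := by group
      have hfix' : g₀⁻¹ * (x' * x⁻¹) * g₀ = x' * x⁻¹ := by
        nth_rewrite 1 [hfix]
        group
      have h1 : ∀ u ∈ U₁, φ (x' * x⁻¹) u = u := by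
        intro u hu
        have a1 := hker k k.2 u hu
        have a2 := hker k' k'.2 u hu
        rw [map_mul, MulAut.mul_apply]
        have : φ x⁻¹ u = u := by
          nth_rewrite 1 [← a1]
          rw [← MulAut.mul_apply, ← map_mul, inv_mul_cancel, map_one, MulAut.one_apply]
        rw [this]
        exact a2
      have hkl := hKL (x' * x⁻¹) h1 (by rw [hfix']; exact h1)
      have hxx : x' = x := mul_inv_eq_one.mp hkl
      apply Subtype.ext
      apply Subtype.ext
      exact hxx.symm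
    have hKΦ : Nat.card ρ.ker ≤ Nat.card (frattini P) := Nat.card_le_card_of_injective F hF
    have hKR : Nat.card ρ.ker * Nat.card ρ.range = Nat.card M := by
      rw [← Subgroup.index_ker]
      exact Subgroup.card_mul_index _
    have hidx : Nat.card (frattini P) * (frattini P).index = Nat.card P :=
      Subgroup.card_mul_index _
    have hKpos : 0 < Nat.card ρ.ker := Nat.card_pos
    have h3 : (frattini P).index * Nat.card ρ.ker ≤ 2 * Nat.card ρ.range * Nat.card ρ.ker := by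
      calc (frattini P).index * Nat.card ρ.ker ≤ (frattini P).index * Nat.card (frattini P) :=
            Nat.mul_le_mul_left _ hKΦ
        _ = Nat.card P := by rw [mul_comm]; exact hidx
        _ = 2 * Nat.card ρ.range * Nat.card ρ.ker := by
          rw [hPM, ← hKR]; ring
    exact Nat.le_of_mul_le_mul_right h3 hKpos

end Cfsg.Agent.Helper6.FratBnd
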