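import Mathlib
import Cfsg.Agent.Helper6.FratBndB
import Cfsg.Agent.Helper6.FratBndC
import Cfsg.Agent.Helper6.FratBndD

/-!
# The Frattini bound for irreducible 2-groups of automorphisms of abelian groups of odd order
-/

set_option autoImplicit false
set_option linter.style.haveILetI false

namespace Cfsg.Agent.Helper6.FratBnd

universe u

/-- A nontrivial irreducible faithful 2-group of automorphisms of an abelian group of odd order
contains a central involution acting as inversion. -/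
theorem exists_central_inversion {V : Type u} [CommGroup V] [Finite V] {P : Type u} [Group P]
    [Finite P] (φ : P →* MulAut V) (hφ : Function.Injective φ) (hP : IsPGroup 2 P)
    (hirr : Irred φ) (hnt : Nontrivial P) :
    ∃ z : P, (∀ g, z * g = g * z) ∧ z * z = 1 ∧ ∀ v, φ z v = v⁻¹ := by
  classical
  haveI : Fact (Nat.Prime 2) := ⟨Nat.prime_two⟩
  haveI := hnt
  haveI : Nontrivial (Subgroup.center P) := hP.center_nontrivial
  have hZ : IsPGroup 2 (Subgroup.center P) := hP.to_subgroup _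
  obtain ⟨k, hk0, hcard⟩ := hZ.nontrivial_iff_card.mp inferInstance
  have hdvd : 2 ∣ Nat.card (Subgroup.center P) := by rw [hcard]; exact dvd_pow_self 2 hk0.ne'
  obtain ⟨t, ht⟩ := exists_prime_orderOf_dvd_card' 2 hdvd
  have ht2 : t ^ 2 = 1 := by rw [← ht]; exact pow_orderOf_eq_one t
  have ht1 : t ≠ 1 := by
    intro h
    rw [h, orderOf_one] at ht
    omega
  set z : P := (t : P) with hz
  have hzc : ∀ g, z * g = g * z := fun g => (Subgroup.mem_center_iff.mp t.2 g).symm
  have hzz : z * z = 1 := by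
    have := congrArg Subtype.val ht2
    rw [pow_two] at this
    exact this
  have hz1 : z ≠ 1 := fun h => ht1 (Subtype.ext h)
  refine ⟨z, hzc, hzz, ?_⟩
  have hζζ : ∀ v, φ z (φ z v) = v := by
    intro v
    rw [← MulAut.mul_apply, ← map_mul, hzz, map_one, MulAut.one_apply]
  let F : Subgroup V :=
    { carrier := {v | φ z v = v}
      one_mem' := map_one _
      mul_mem' := by
        intro x y hx hy
        simp only [Set.mem_ofPred_eq] at hx hy ⊢
        rw [map_mul, hx, hy]
      inv_mem' := by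
        intro x hx
        simp only [Set.mem_ofPred_eq] at hx ⊢
        rw [map_inv, hx] }
  have hF : ∀ v, v ∈ F ↔ φ z v = v := fun v => Iff.rfl
  have hFinv : ∀ g, ∀ u ∈ F, φ g u ∈ F := by
    intro g u hu
    rw [hF] at hu ⊢
    rw [← MulAut.mul_apply, ← map_mul, hzc g, map_mul, MulAut.mul_apply, hu]
  rcases hirr F hFinv with h | h
  · intro v
    have : v * φ z v ∈ F := by
      rw [hF, map_mul, hζζ, mul_comm]
    rw [h, Subgroup.mem_bot] at this
    exact (eq_inv_of_mul_eq_one_right this)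
  · exfalso
    apply hz1
    apply hφ
    ext v
    rw [map_one, MulAut.one_apply]
    have : v ∈ F := by rw [h]; exact Subgroup.mem_top v
    exact this

theorem three_le_of_odd_ne_one {n : ℕ} (hodd : Odd n) (h1 : n ≠ 1) : 3 ≤ n := by
  obtain ⟨m, rfl⟩ := hodd
  omega

/-- Theorem A: `2 |P| + 1 ≤ |V|²`. -/
theorem two_mul_card_add_one_le : ∀ (n : ℕ) (V : Type u) [CommGroup V] [Finite V] (P : Type u)
    [Group P] [Finite P] (φ : P →* MulAut V), Nat.card V = n → Function.Injective φ →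
    IsPGroup 2 P → Odd (Nat.card V) → Nat.card V ≠ 1 → Irred φ →
    2 * Nat.card P + 1 ≤ Nat.card V ^ 2 := by
  intro n
  induction n using Nat.strong_induction_on with
  | _ n ih =>
    intro V _ _ P _ _ φ hn hφ hP hodd hV hirr
    have hn3 : 3 ≤ Nat.card V := three_le_of_odd_ne_one hodd hV
    by_cases hnt : Nontrivial P
    · obtain ⟨z, hzc, hzz, hzinv⟩ := exists_central_inversion φ hφ hP hirr hnt
      rcases dichotomy hP z hzc hzz with ⟨A, hAn, hAc, hCA, hzA⟩ | ⟨b, hbb, hb1, hbz, hconj⟩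
      · haveI := hAn
        obtain ⟨h1, h2, -⟩ := case_cyclic φ hP hodd hV z hzz hzinv A hAc hCA hzA
        nlinarith
      · obtain ⟨V₁, iV₁, fV₁, P₁, iP₁, fP₁, φ₁, hφ₁, hP₁, hodd₁, hV₁, hirr₁, hsq, hcard, -⟩ :=
          case_involution φ hφ hP hodd hV hirr z hzc hzz hzinv b hbb hb1 hbz hconj
        have hx3 : 3 ≤ Nat.card V₁ := three_le_of_odd_ne_one hodd₁ hV₁
        have hlt : Nat.card V₁ < n := by
          rw [← hn]
          nlinarith
        have hIH := ih (Nat.card V₁) hlt V₁ P₁ φ₁ rfl hφ₁ hP₁ hodd₁ hV₁ hirr₁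
        have hp1 : 1 ≤ Nat.card P₁ := Nat.card_pos
        -- 2|P| + 1 ≤ 4 |P₁|² + 1 ≤ (x² - 1)² + 1 ≤ (n-1)² + 1 ≤ n²
        have h4 : 2 * Nat.card P₁ ≤ Nat.card V - 1 := by omega
        have h5 : (2 * Nat.card P₁) ^ 2 ≤ (Nat.card V - 1) ^ 2 := Nat.pow_le_pow_left h4 2
        obtain ⟨m, hm⟩ : ∃ m, Nat.card V = m + 1 := ⟨Nat.card V - 1, by omega⟩
        rw [hm] at h5 ⊢
        simp only [Nat.add_sub_cancel] at h5
        nlinarith
    · rw [not_nontrivial_iff_subsingleton] at hnt
      have : Nat.card P = 1 := Nat.card_eq_one_iff_unique.mpr ⟨hnt, ⟨1⟩⟩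
      rw [this]
      nlinarith

/-- Theorem B: the index of the Frattini subgroup is at most `|V| - 1`. -/
theorem frattini_index_le {V : Type u} [CommGroup V] [Finite V] {P : Type u}
    [Group P] [Finite P] (φ : P →* MulAut V) (hφ : Function.Injective φ)
    (hP : IsPGroup 2 P) (hodd : Odd (Nat.card V)) (hV : Nat.card V ≠ 1) (hirr : Irred φ) :
    (frattini P).index ≤ Nat.card V - 1 := by
  have hn3 : 3 ≤ Nat.card V := three_le_of_odd_ne_one hodd hV
  by_cases hnt : Nontrivial P
  · obtain ⟨z, hzc, hzz, hzinv⟩ := exists_central_inversion φ hφ hP hirr hnt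
    rcases dichotomy hP z hzc hzz with ⟨A, hAn, hAc, hCA, hzA⟩ | ⟨b, hbb, hb1, hbz, hconj⟩
    · haveI := hAn
      obtain ⟨h1, -, h3⟩ := case_cyclic φ hP hodd hV z hzz hzinv A hAc hCA hzA
      omega
    · obtain ⟨V₁, iV₁, fV₁, P₁, iP₁, fP₁, φ₁, hφ₁, hP₁, hodd₁, hV₁, hirr₁, hsq, -, hidx⟩ :=
        case_involution φ hφ hP hodd hV hirr z hzc hzz hzinv b hbb hb1 hbz hconj
      have hA := two_mul_card_add_one_le (Nat.card V₁) V₁ P₁ φ₁ rfl hφ₁ hP₁ hodd₁ hV₁ hirr₁
      omega
  · rw [not_nontrivial_iff_subsingleton] at hnt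
    have h1 : (frattini P).index ≤ 1 := by
      have : (frattini P).index ∣ Nat.card P := Subgroup.index_dvd_card _
      have hc : Nat.card P = 1 := Nat.card_eq_one_iff_unique.mpr ⟨hnt, ⟨1⟩⟩
      rw [hc] at this
      exact Nat.le_of_dvd one_pos this
    omega

end Cfsg.Agent.Helper6.FratBnd
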