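import Mathlib
import Cfsg.Agent.Helper6.FratBndE

/-!
# The Frattini bound: transport to a semidirect product inside a group
-/

set_option autoImplicit false
set_option linter.style.haveILetI false

namespace Cfsg.Agent.Helper6.FratBnd

universe u

theorem frattini_index_le_of_unique_minimal {G : Type u} [Group G] [Finite G] (N P : Subgroup G)
    (hN : N.Normal) (hNab : IsMulCommutative ↥N) (hNodd : Odd (Nat.card ↥N))
    (hP : IsPGroup 2 ↥P) (hdisj : N ⊓ P = ⊥) (hprod : N ⊔ P = ⊤)
    (hmin : N ≠ ⊥ ∧ ∀ M : Subgroup G, M.Normal → M ≠ ⊥ → N ≤ M) :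
    (frattini ↥P).index ≤ Nat.card ↥N - 1 := by
  classical
  haveI := hN
  have hcomm : ∀ a ∈ N, ∀ b ∈ N, a * b = b * a := by
    intro a ha b hb
    have := hNab.is_comm.comm ⟨a, ha⟩ ⟨b, hb⟩
    exact congrArg Subtype.val this
  letI : CommGroup ↥N :=
    { (inferInstance : Group ↥N) with
      mul_comm := fun a b => hNab.is_comm.comm a b }
  have hdec : ∀ g : G, ∃ n ∈ N, ∃ p ∈ P, n * p = g := by
    intro g
    have : g ∈ N ⊔ P := by rw [hprod]; exact Subgroup.mem_top g
    exact Subgroup.mem_sup_of_normal_left.mp this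
  let φ : ↥P →* MulAut ↥N := (MulAut.conjNormal (H := N)).comp P.subtype
  have hφ_apply : ∀ (p : P) (n : N), ((φ p n : N) : G) = (p : G) * (n : G) * (p : G)⁻¹ := by
    intro p n
    exact MulAut.conjNormal_apply (H := N) (p : G) n
  -- injectivity
  have hφ : Function.Injective φ := by
    rw [injective_iff_map_eq_one]
    intro p hp
    -- D := elements of P centralizing N
    let D : Subgroup G :=
      { carrier := {d | d ∈ P ∧ ∀ n ∈ N, d * n = n * d}
        one_mem' := ⟨P.one_mem, fun n _ => by rw [one_mul, mul_one]⟩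
        mul_mem' := by
          rintro a b ⟨ha, ha'⟩ ⟨hb, hb'⟩
          refine ⟨P.mul_mem ha hb, fun n hn => ?_⟩
          rw [mul_assoc, hb' n hn, ← mul_assoc, ha' n hn, mul_assoc]
        inv_mem' := by
          rintro a ⟨ha, ha'⟩
          refine ⟨P.inv_mem ha, fun n hn => ?_⟩
          have := ha' n hn
          calc a⁻¹ * n = a⁻¹ * (n * a) * a⁻¹ := by group
            _ = a⁻¹ * (a * n) * a⁻¹ := by rw [this]
            _ = n * a⁻¹ := by group }
    have hDmem : ∀ d, d ∈ D ↔ d ∈ P ∧ ∀ n ∈ N, d * n = n * d := fun d => Iff.rfl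
    have hDn : D.Normal := by
      constructor
      intro d hd g
      obtain ⟨hdP, hdc⟩ := (hDmem d).mp hd
      obtain ⟨n, hn, q, hq, rfl⟩ := hdec g
      -- q d q⁻¹ ∈ D
      have h1 : q * d * q⁻¹ ∈ D := by
        rw [hDmem]
        refine ⟨P.mul_mem (P.mul_mem hq hdP) (P.inv_mem hq), fun m hm => ?_⟩
        have hm' : q⁻¹ * m * q ∈ N := by
          have := hN.conj_mem m hm q⁻¹
          rw [inv_inv] at this
          exact this
        have := hdc _ hm'
        calc q * d * q⁻¹ * m = q * (d * (q⁻¹ * m * q)) * q⁻¹ := by group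
          _ = q * ((q⁻¹ * m * q) * d) * q⁻¹ := by rw [this]
          _ = m * (q * d * q⁻¹) := by group
      have h2 : n * q * d * (n * q)⁻¹ = q * d * q⁻¹ := by
        have := ((hDmem _).mp h1).2 n hn
        calc n * q * d * (n * q)⁻¹ = n * (q * d * q⁻¹) * n⁻¹ := by group
          _ = (q * d * q⁻¹) * n * n⁻¹ := by rw [this]
          _ = q * d * q⁻¹ := by group
      rw [h2]
      exact h1
    have hDbot : D = ⊥ := by
      by_contra hne
      have hND : N ≤ D := hmin.2 D hDn hne
      apply hmin.1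
      rw [eq_bot_iff, ← hdisj]
      intro n hn
      exact ⟨hn, ((hDmem n).mp (hND hn)).1⟩
    have hpD : (p : G) ∈ D := by
      rw [hDmem]
      refine ⟨p.2, fun n hn => ?_⟩
      have h1 : φ p ⟨n, hn⟩ = ⟨n, hn⟩ := by rw [hp]; rfl
      have h2 := congrArg Subtype.val h1
      rw [hφ_apply] at h2
      calc (p : G) * n = ((p : G) * n * (p : G)⁻¹) * p := by group
        _ = n * p := by rw [h2]
    rw [hDbot, Subgroup.mem_bot] at hpD
    exact Subtype.ext hpD
  -- irreducibility
  have hirr : Irred φ := by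
    intro U hU
    let U' : Subgroup G := U.map N.subtype
    have hU'N : U' ≤ N := by
      intro x hx
      obtain ⟨u, -, rfl⟩ := Subgroup.mem_map.mp hx
      exact u.2
    have hU'n : U'.Normal := by
      constructor
      intro x hx g
      obtain ⟨u, hu, rfl⟩ := Subgroup.mem_map.mp hx
      obtain ⟨n, hn, q, hq, rfl⟩ := hdec g
      have h1 := hU ⟨q, hq⟩ u hu
      have h2 : n * q * (N.subtype u) * (n * q)⁻¹ = ((φ ⟨q, hq⟩ u : N) : G) := by
        rw [hφ_apply]
        have hm : q * (u : G) * q⁻¹ ∈ N := hN.conj_mem _ u.2 q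
        have := hcomm n hn _ hm
        calc n * q * (N.subtype u) * (n * q)⁻¹ = n * (q * (u : G) * q⁻¹) * n⁻¹ := by
              simp only [Subgroup.subtype_apply]
              group
          _ = (q * (u : G) * q⁻¹) * n * n⁻¹ := by rw [this]
          _ = q * (u : G) * q⁻¹ := by group
      rw [h2]
      exact Subgroup.mem_map.mpr ⟨_, h1, rfl⟩
    by_cases hbot : U' = ⊥
    · left
      exact (Subgroup.map_eq_bot_iff_of_injective U N.subtype_injective).mp hbot
    · right
      have hNU' : N ≤ U' := hmin.2 U' hU'n hbot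
      rw [Subgroup.eq_top_iff']
      intro x
      obtain ⟨u, hu, e⟩ := Subgroup.mem_map.mp (hNU' x.2)
      have : u = x := Subtype.ext e
      rw [← this]
      exact hu
  have hV : Nat.card ↥N ≠ 1 := fun h => hmin.1 (Subgroup.card_eq_one.mp h)
  exact frattini_index_le φ hφ hP hNodd hV hirr

end Cfsg.Agent.Helper6.FratBnd
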