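import Mathlib
import Cfsg.Prelude.Def_Characters
import Cfsg.Agent.Helper6.Gallagher

/-!
# Coset norms of an extended character in a Frobenius-type situation (for S4454)
-/

set_option autoImplicit false
set_option linter.style.haveILetI false

namespace Cfsg.Agent.Helper6

open scoped ComplexConjugate

universe u

variable {Γ : Type u} [Group Γ]

/-- in a group `Γ` with `Γ / N` Frobenius with kernel `G / N`, every element of a coset `G γ`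
outside `G` is conjugate under `G`, modulo `N`, to `γ` -/
theorem frobenius_coset_conj [Finite Γ] (G N : Subgroup Γ) [hG : G.Normal] [hN : N.Normal]
    (hfrob : ∀ x : Γ, x ∉ G → ∀ g : Γ, g ∈ G → x * g * x⁻¹ * g⁻¹ ∈ N → g ∈ N)
    (γ : Γ) (hγ : γ ∉ G) (g : Γ) (hg : g ∈ G) :
    ∃ y ∈ G, ∃ n ∈ N, g * γ = n * (y * γ * y⁻¹) := by
  classical
  obtain ⟨Gb, hGb⟩ : ∃ Gb : Subgroup (Γ ⧸ N), Gb = G.map (QuotientGroup.mk' N) := ⟨_, rfl⟩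
  haveI hGbn : Gb.Normal := by
    rw [hGb]
    exact hG.map _ (QuotientGroup.mk'_surjective N)
  have hlift : ∀ q : Γ ⧸ N, q ∈ Gb → ∃ y ∈ G, (QuotientGroup.mk' N) y = q := by
    intro q hq
    rw [hGb] at hq
    exact Subgroup.mem_map.mp hq
  have hmemc : ∀ yb : Gb, (yb : Γ ⧸ N) * (γ : Γ ⧸ N) * (yb : Γ ⧸ N)⁻¹ * (γ : Γ ⧸ N)⁻¹ ∈ Gb := by
    intro yb
    have h1 : (γ : Γ ⧸ N) * (yb : Γ ⧸ N)⁻¹ * (γ : Γ ⧸ N)⁻¹ ∈ Gb :=
      hGbn.conj_mem _ (Gb.inv_mem yb.2) _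
    have h2 := Gb.mul_mem yb.2 h1
    have e : (yb : Γ ⧸ N) * ((γ : Γ ⧸ N) * (yb : Γ ⧸ N)⁻¹ * (γ : Γ ⧸ N)⁻¹) =
        (yb : Γ ⧸ N) * (γ : Γ ⧸ N) * (yb : Γ ⧸ N)⁻¹ * (γ : Γ ⧸ N)⁻¹ := by group
    rw [e] at h2
    exact h2
  have hinj : Function.Injective (fun yb : Gb =>
      (⟨(yb : Γ ⧸ N) * (γ : Γ ⧸ N) * (yb : Γ ⧸ N)⁻¹ * (γ : Γ ⧸ N)⁻¹, hmemc yb⟩ : Gb)) := by
    intro a b hab
    have h1 : (a : Γ ⧸ N) * (γ : Γ ⧸ N) * (a : Γ ⧸ N)⁻¹ * (γ : Γ ⧸ N)⁻¹ =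
        (b : Γ ⧸ N) * (γ : Γ ⧸ N) * (b : Γ ⧸ N)⁻¹ * (γ : Γ ⧸ N)⁻¹ := congrArg Subtype.val hab
    obtain ⟨ya, hya, hya'⟩ := hlift _ a.2
    obtain ⟨yb, hyb, hyb'⟩ := hlift _ b.2
    apply Subtype.ext
    rw [← hya', ← hyb'] at h1 ⊢
    -- z = yb⁻¹ ya commutes with γ modulo N
    have h2 : ((yb⁻¹ * ya) * γ * (yb⁻¹ * ya)⁻¹ * γ⁻¹ : Γ) ∈ N := by
      rw [← QuotientGroup.eq_one_iff]
      have e : (((yb⁻¹ * ya) * γ * (yb⁻¹ * ya)⁻¹ * γ⁻¹ : Γ) : Γ ⧸ N) =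
          ((QuotientGroup.mk' N) yb)⁻¹ * ((QuotientGroup.mk' N) ya * (γ : Γ ⧸ N) *
            ((QuotientGroup.mk' N) ya)⁻¹ * (γ : Γ ⧸ N)⁻¹) *
            ((γ : Γ ⧸ N) * (QuotientGroup.mk' N) yb * (γ : Γ ⧸ N)⁻¹) := by
        simp only [QuotientGroup.mk'_apply, QuotientGroup.mk_mul, QuotientGroup.mk_inv]
        group
      rw [e, h1]
      group
    have hz : yb⁻¹ * ya ∈ G := G.mul_mem (G.inv_mem hyb) hya
    have h3 : γ * (yb⁻¹ * ya)⁻¹ * γ⁻¹ * ((yb⁻¹ * ya)⁻¹)⁻¹ ∈ N := by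
      have := hN.conj_mem _ h2 (yb⁻¹ * ya)⁻¹
      have e : (yb⁻¹ * ya)⁻¹ * ((yb⁻¹ * ya) * γ * (yb⁻¹ * ya)⁻¹ * γ⁻¹) * ((yb⁻¹ * ya)⁻¹)⁻¹ =
          γ * (yb⁻¹ * ya)⁻¹ * γ⁻¹ * ((yb⁻¹ * ya)⁻¹)⁻¹ := by group
      rw [e] at this
      exact this
    have h4 := hfrob γ hγ _ (G.inv_mem hz) h3
    have h5 : yb⁻¹ * ya ∈ N := by
      have := N.inv_mem h4
      rwa [inv_inv] at this
    show (QuotientGroup.mk' N) ya = (QuotientGroup.mk' N) yb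
    symm
    exact QuotientGroup.eq.mpr h5
  have hsurj := Finite.injective_iff_surjective.mp hinj
  have hgb : ((g : Γ) : Γ ⧸ N) ∈ Gb := by
    rw [hGb]
    exact Subgroup.mem_map_of_mem _ hg
  obtain ⟨yb, hyb⟩ := hsurj ⟨_, hgb⟩
  obtain ⟨y, hy, hy'⟩ := hlift _ yb.2
  have h1 : (yb : Γ ⧸ N) * (γ : Γ ⧸ N) * (yb : Γ ⧸ N)⁻¹ * (γ : Γ ⧸ N)⁻¹ = ((g : Γ) : Γ ⧸ N) :=
    congrArg Subtype.val hyb
  rw [← hy'] at h1
  refine ⟨y, hy, g * (y * γ * y⁻¹ * γ⁻¹)⁻¹, ?_, by group⟩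
  rw [← QuotientGroup.eq_one_iff]
  have e : ((g * (y * γ * y⁻¹ * γ⁻¹)⁻¹ : Γ) : Γ ⧸ N) = ((g : Γ) : Γ ⧸ N) *
      ((QuotientGroup.mk' N) y * (γ : Γ ⧸ N) * ((QuotientGroup.mk' N) y)⁻¹ * (γ : Γ ⧸ N)⁻¹)⁻¹ := by
    simp only [QuotientGroup.mk'_apply, QuotientGroup.mk_mul, QuotientGroup.mk_inv]
  rw [e, h1, mul_inv_cancel]

/-- the squared absolute values of an extension of an irreducible character of `G` sum to `|N|` on
the `N`-cosets outside `G` -/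
theorem coset_norm_of_frobenius [Fintype Γ] (G N : Subgroup Γ) [hG : G.Normal] [hN : N.Normal]
    [Fintype G] [Fintype N] (hNG : N ≤ G)
    (hfrob : ∀ x : Γ, x ∉ G → ∀ g : Γ, g ∈ G → x * g * x⁻¹ * g⁻¹ ∈ N → g ∈ N)
    (χ₀ : Γ → ℂ) (hχ₀ : Cfsg.IsIrrCharacter Γ χ₀)
    (hχ₀G : Cfsg.IsIrrCharacter G (fun g : G => χ₀ g)) (γ : Γ) (hγ : γ ∉ G) :
    ∑ n : N, χ₀ ((n : Γ) * γ) * conj (χ₀ ((n : Γ) * γ)) = (Nat.card N : ℂ) := by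
  classical
  have hcf := IsCharacter.isClassFunction (IsIrrCharacter.isCharacter hχ₀)
  have hN0 : (Nat.card N : ℂ) ≠ 0 := by
    have : 0 < Nat.card N := Nat.card_pos
    exact_mod_cast this.ne'
  have hG0 : (Nat.card G : ℂ) ≠ 0 := by
    have : 0 < Nat.card G := Nat.card_pos
    exact_mod_cast this.ne'
  obtain ⟨F, hFdef⟩ : ∃ F : Γ → ℂ,
      F = fun x => ∑ n : N, χ₀ ((n : Γ) * x) * conj (χ₀ ((n : Γ) * x)) := ⟨_, rfl⟩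
  have hFN : ∀ (n' : Γ) (hn' : n' ∈ N) (x : Γ), F (n' * x) = F x := by
    intro n' hn' x
    rw [hFdef]
    simp only
    exact Fintype.sum_equiv (Equiv.mulRight (⟨n', hn'⟩ : N))
      (fun n : N => χ₀ ((n : Γ) * (n' * x)) * conj (χ₀ ((n : Γ) * (n' * x))))
      (fun n : N => χ₀ ((n : Γ) * x) * conj (χ₀ ((n : Γ) * x)))
      (fun n => by
        simp only [Equiv.coe_mulRight, Subgroup.coe_mul, mul_assoc])
  have hFconj : ∀ (y x : Γ), F (y * x * y⁻¹) = F x := by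
    intro y x
    rw [hFdef]
    simp only
    refine Fintype.sum_equiv (MulAut.conjNormal y⁻¹ : N ≃* N).toEquiv
      (fun n : N => χ₀ ((n : Γ) * (y * x * y⁻¹)) * conj (χ₀ ((n : Γ) * (y * x * y⁻¹))))
      (fun n : N => χ₀ ((n : Γ) * x) * conj (χ₀ ((n : Γ) * x))) (fun n => ?_)
    have e : ((MulAut.conjNormal y⁻¹ : N ≃* N).toEquiv n : Γ) * x =
        y⁻¹ * ((n : Γ) * (y * x * y⁻¹)) * (y⁻¹)⁻¹ := by
      show ((MulAut.conjNormal y⁻¹ n : N) : Γ) * x = _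
      rw [MulAut.conjNormal_apply]
      group
    rw [e, hcf]
  have hFG : ∀ g : Γ, g ∈ G → F (g * γ) = F γ := by
    intro g hg
    obtain ⟨y, -, n, hn, h⟩ := frobenius_coset_conj G N hfrob γ hγ g hg
    rw [h, hFN n hn, hFconj]
  have hsumG : ∑ g : G, χ₀ ((g : Γ) * γ) * conj (χ₀ ((g : Γ) * γ)) = (Nat.card G : ℂ) := by
    have h1 := (gallagher_avg G χ₀ hχ₀ hχ₀G χ₀ hχ₀ _ rfl).2.2 rfl
    have h2 := congrFun h1 γ
    field_simp at h2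
    exact h2
  have htrans : ∑ g : G, χ₀ ((g : Γ) * γ) * conj (χ₀ ((g : Γ) * γ)) =
      (Nat.card N : ℂ)⁻¹ * ∑ g : G, F ((g : Γ) * γ) := by
    rw [hFdef]
    simp only
    rw [Finset.sum_comm]
    have : ∀ n : N, ∑ g : G, χ₀ ((n : Γ) * ((g : Γ) * γ)) * conj (χ₀ ((n : Γ) * ((g : Γ) * γ))) =
        ∑ g : G, χ₀ ((g : Γ) * γ) * conj (χ₀ ((g : Γ) * γ)) := by
      intro n
      exact Fintype.sum_equiv (Equiv.mulLeft (⟨(n : Γ), hNG n.2⟩ : G))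
        (fun g : G => χ₀ ((n : Γ) * ((g : Γ) * γ)) * conj (χ₀ ((n : Γ) * ((g : Γ) * γ))))
        (fun g : G => χ₀ ((g : Γ) * γ) * conj (χ₀ ((g : Γ) * γ)))
        (fun g => by
          simp only [Equiv.coe_mulLeft, Subgroup.coe_mul, mul_assoc])
    rw [Finset.sum_congr rfl (fun n _ => this n), Finset.sum_const, Finset.card_univ,
      nsmul_eq_mul, ← Nat.card_eq_fintype_card, ← mul_assoc, inv_mul_cancel₀ hN0, one_mul]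
  rw [hsumG, Finset.sum_congr rfl (fun (g : G) _ => hFG (g : Γ) g.2), Finset.sum_const,
    Finset.card_univ, nsmul_eq_mul, ← Nat.card_eq_fintype_card] at htrans
  have hFγ : F γ = (Nat.card N : ℂ) := by
    have h1 : (Nat.card G : ℂ) * (Nat.card N : ℂ) = (Nat.card G : ℂ) * F γ := by
      calc (Nat.card G : ℂ) * (Nat.card N : ℂ)
          = ((Nat.card N : ℂ)⁻¹ * ((Nat.card G : ℂ) * F γ)) * (Nat.card N : ℂ) := by
            rw [← htrans]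
        _ = (Nat.card G : ℂ) * F γ := by field_simp
    exact (mul_left_cancel₀ hG0 h1).symm
  rw [hFdef] at hFγ
  exact hFγ

end Cfsg.Agent.Helper6
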