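import Mathlib
import Cfsg.Prelude.Def_Characters
import Cfsg.Agent.Helper6.FrobRamB
import Cfsg.Agent.Helper6.FrobRamC
import Cfsg.Agent.Helper6.FullyRamified
import Cfsg.Agent.Helper6.BrauerPerm2
import Cfsg.Agent.S0886

/-!
# Fully ramified characters under a Frobenius action with cyclic complement (S4454)
-/

set_option autoImplicit false
set_option linter.style.haveILetI false

namespace Cfsg.Agent.Helper6

open scoped ComplexConjugate

universe u

variable {Γ : Type u} [Group Γ]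

set_option maxHeartbeats 1000000 in
/-- a fully ramified invariant character: the character above it extends to `Γ` when `Γ / G` is
cyclic -/
theorem exists_extension_fully_ramified [Fintype Γ] (G N : Subgroup Γ) [hG : G.Normal]
    [hN : N.Normal] [Fintype G] [Fintype N] (hNG : N ≤ G) (hcyc : IsCyclic (Γ ⧸ G))
    (θ : N → ℂ) (hθ : Cfsg.IsIrrCharacter N θ)
    (hinv : ∀ (x : Γ) (n : N), θ ⟨x * n * x⁻¹, hN.conj_mem n n.2 x⟩ = θ n)
    (χ : G → ℂ) (hχ : Cfsg.IsIrrCharacter G χ) (e : ℕ)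
    (hram : Cfsg.indFun (N.subgroupOf G) (fun n : N.subgroupOf G => θ ⟨(n : G), n.2⟩) =
      fun g => (e : ℂ) * χ g) :
    ∃ χ₀ : Γ → ℂ, Cfsg.IsIrrCharacter Γ χ₀ ∧ (∀ g : G, χ₀ g = χ g) ∧
      ∀ n : N, χ₀ n = (e : ℂ) * θ n := by
  classical
  haveI : Fintype (N.subgroupOf G) := Fintype.ofFinite _
  obtain ⟨θ', hθ'def⟩ : ∃ θ' : N.subgroupOf G → ℂ,
      θ' = fun n : N.subgroupOf G => θ ⟨(n : G), n.2⟩ := ⟨_, rfl⟩
  rw [← hθ'def] at hram
  have hθ' : Cfsg.IsIrrCharacter (N.subgroupOf G) θ' := by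
    have : θ' = θ ∘ (Subgroup.subgroupOfEquivOfLe hNG) := by
      rw [hθ'def]
      rfl
    rw [this]
    exact IsIrrCharacter.comp_mulEquiv _ hθ
  have hinv' : ∀ g : G, conjFun (N.subgroupOf G) θ' g = θ' := by
    intro g
    ext n
    rw [hθ'def]
    unfold conjFun
    simp only
    exact hinv (g : Γ) ⟨((n : G) : Γ), n.2⟩
  have hχcf := IsCharacter.isClassFunction (IsIrrCharacter.isCharacter hχ)
  have hχχ := classInner_irr_self hχ
  -- e ≠ 0
  have he0 : (e : ℂ) ≠ 0 := by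
    intro h0
    have h1 := congrFun (indFun_restrict_of_invariant (N.subgroupOf G) θ' hinv') 1
    simp only [Pi.smul_apply, smul_eq_mul] at h1
    rw [hram, h0] at h1
    simp only [zero_mul] at h1
    have hidx : ((N.subgroupOf G).index : ℂ) ≠ 0 := by
      have : (N.subgroupOf G).index ≠ 0 := Subgroup.index_ne_zero_of_finite
      exact_mod_cast this
    rcases mul_eq_zero.mp h1.symm with h | h
    · exact hidx h
    · exact IsIrrCharacter.apply_one_ne_zero hθ' h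
  -- restriction of χ to N
  have hrec := frobenius_reciprocity (N.subgroupOf G) θ' χ hχcf
  have hinner : Cfsg.classInner (fun n : N.subgroupOf G => χ n) θ' = (e : ℂ) := by
    rw [classInner_conj_symm, ← hrec, hram]
    have : (fun g : G => (e : ℂ) * χ g) = (e : ℂ) • χ := rfl
    rw [this, classInner_smul_left, hχχ, mul_one, Complex.conj_natCast]
  have hres := restrict_eq_smul_of_invariant (N.subgroupOf G) χ hχ θ' hθ'
    (by rw [hinner]; exact he0) hinv'
  rw [hinner] at hres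
  -- invariance of χ
  have hextinv : ∀ (x : Γ) (z : G),
      Cfsg.extendByZero (N.subgroupOf G) θ' (MulAut.conjNormal x z : G) =
        Cfsg.extendByZero (N.subgroupOf G) θ' z := by
    intro x z
    by_cases hz : z ∈ N.subgroupOf G
    · have hz' : (MulAut.conjNormal x z : G) ∈ N.subgroupOf G := by
        rw [Subgroup.mem_subgroupOf, MulAut.conjNormal_apply]
        exact hN.conj_mem _ hz x
      rw [extendByZero_mem _ _ hz, extendByZero_mem _ _ hz', hθ'def]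
      simp only
      have := hinv x ⟨(z : Γ), hz⟩
      rw [← this]
      congr 1
    · have hz' : (MulAut.conjNormal x z : G) ∉ N.subgroupOf G := by
        intro h
        apply hz
        rw [Subgroup.mem_subgroupOf, MulAut.conjNormal_apply] at h
        rw [Subgroup.mem_subgroupOf]
        have := hN.conj_mem _ h x⁻¹
        have e1 : x⁻¹ * (x * (z : Γ) * x⁻¹) * x⁻¹⁻¹ = (z : Γ) := by group
        rwa [e1] at this
      rw [extendByZero_not_mem _ _ hz, extendByZero_not_mem _ _ hz']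
  have hindinv : ∀ (x : Γ) (g : G), Cfsg.indFun (N.subgroupOf G) θ' (MulAut.conjNormal x g : G) =
      Cfsg.indFun (N.subgroupOf G) θ' g := by
    intro x g
    rw [indFun_apply, indFun_apply]
    congr 1
    rw [← Equiv.sum_comp (MulAut.conjNormal x : G ≃* G).toEquiv]
    apply Finset.sum_congr rfl
    intro y _
    have : ((MulAut.conjNormal x : G ≃* G).toEquiv y)⁻¹ * (MulAut.conjNormal x g : G) *
        ((MulAut.conjNormal x : G ≃* G).toEquiv y) = (MulAut.conjNormal x (y⁻¹ * g * y) : G) := by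
      show (MulAut.conjNormal x y : G)⁻¹ * (MulAut.conjNormal x g : G) *
        (MulAut.conjNormal x y : G) = _
      rw [map_mul, map_mul, map_inv]
    rw [this, hextinv]
  have hχinv : ∀ (x : Γ) (g : G), χ ⟨x * g * x⁻¹, hG.conj_mem g g.2 x⟩ = χ g := by
    intro x g
    have h1 := hindinv x g
    rw [hram] at h1
    simp only at h1
    have h2 : (MulAut.conjNormal x g : G) = ⟨x * g * x⁻¹, hG.conj_mem g g.2 x⟩ := by
      apply Subtype.ext
      rw [MulAut.conjNormal_apply]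
    rw [h2] at h1
    exact mul_left_cancel₀ he0 h1
  obtain ⟨χ₀, hχ₀, hχ₀G⟩ := Cfsg.Agent.S0886.result G hcyc χ hχ hχinv
  refine ⟨χ₀, hχ₀, hχ₀G, ?_⟩
  intro n
  have h1 := hχ₀G ⟨(n : Γ), hNG n.2⟩
  simp only at h1
  rw [h1]
  have h2 := congrFun hres ⟨⟨(n : Γ), hNG n.2⟩, n.2⟩
  simp only [Pi.smul_apply, smul_eq_mul] at h2
  rw [h2, hθ'def]

set_option maxHeartbeats 2000000 in
/-- **S4454**: `Γ / N` Frobenius with kernel `G / N` and cyclic complement, `θ` invariant and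
fully ramified in `G` with ramification `e`: then `|Γ : G|` divides `e - 1` or `e + 1`. -/
theorem fully_ramified_frobenius_dvd [Fintype Γ] (G N : Subgroup Γ) [hG : G.Normal]
    [hN : N.Normal] [Fintype G] [Fintype N] (hNG : N ≤ G) (hGlt : G ≠ ⊤)
    (hcyc : IsCyclic (Γ ⧸ G))
    (hfrob : ∀ x : Γ, x ∉ G → ∀ g : Γ, g ∈ G → x * g * x⁻¹ * g⁻¹ ∈ N → g ∈ N)
    (θ : N → ℂ) (hθ : Cfsg.IsIrrCharacter N θ)
    (hinv : ∀ (x : Γ) (n : N), θ ⟨x * n * x⁻¹, hN.conj_mem n n.2 x⟩ = θ n)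
    (χ : G → ℂ) (hχ : Cfsg.IsIrrCharacter G χ) (e : ℕ)
    (hram : Cfsg.indFun (N.subgroupOf G) (fun n : N.subgroupOf G => θ ⟨(n : G), n.2⟩) =
      fun g => (e : ℂ) * χ g) :
    (G.index : ℤ) ∣ (e : ℤ) - 1 ∨ (G.index : ℤ) ∣ (e : ℤ) + 1 := by
  classical
  obtain ⟨χ₀, hχ₀, hχ₀G, hχ₀N⟩ :=
    exists_extension_fully_ramified G N hNG hcyc θ hθ hinv χ hχ e hram
  have hχ₀Girr : Cfsg.IsIrrCharacter G (fun g : G => χ₀ g) := by
    have : (fun g : G => χ₀ g) = χ := funext hχ₀G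
    rw [this]
    exact hχ
  obtain ⟨q₀, hq₀⟩ := hcyc.exists_generator
  obtain ⟨x, rfl⟩ := QuotientGroup.mk_surjective q₀
  have hxG : x ∉ G := by
    intro hx
    apply hGlt
    rw [eq_top_iff]
    intro γ _
    obtain ⟨j, hj⟩ := Subgroup.mem_zpowers_iff.mp (hq₀ (γ : Γ ⧸ G))
    have h1 : ((x : Γ) : Γ ⧸ G) = 1 := (QuotientGroup.eq_one_iff x).mpr hx
    rw [h1, one_zpow] at hj
    exact (QuotientGroup.eq_one_iff γ).mp hj.symm
  have hgen : ∀ γ : Γ, ∃ j : ℤ, (x ^ j)⁻¹ * γ ∈ G := by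
    intro γ
    obtain ⟨j, hj⟩ := Subgroup.mem_zpowers_iff.mp (hq₀ (γ : Γ ⧸ G))
    refine ⟨j, ?_⟩
    rw [← QuotientGroup.eq_one_iff, QuotientGroup.mk_mul, QuotientGroup.mk_inv,
      QuotientGroup.mk_zpow, hj, inv_mul_cancel]
  have hpowN : ∀ j : ℤ, x ^ j ∈ G → x ^ j ∈ N := by
    intro j hj
    apply hfrob x hxG (x ^ j) hj
    have : x * x ^ j * x⁻¹ * (x ^ j)⁻¹ = 1 := by group
    rw [this]
    exact N.one_mem
  obtain ⟨Hs, hHs⟩ : ∃ Hs : Subgroup Γ,
      Hs = (Subgroup.zpowers ((x : Γ) : Γ ⧸ N)).comap (QuotientGroup.mk' N) := ⟨_, rfl⟩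
  have hHmem : ∀ γ : Γ, γ ∈ Hs ↔ ∃ j : ℤ, (x ^ j)⁻¹ * γ ∈ N := by
    intro γ
    rw [hHs, Subgroup.mem_comap, Subgroup.mem_zpowers_iff]
    constructor
    · rintro ⟨j, hj⟩
      refine ⟨j, ?_⟩
      rw [QuotientGroup.mk'_apply] at hj
      rw [← QuotientGroup.eq_one_iff, QuotientGroup.mk_mul, QuotientGroup.mk_inv,
        QuotientGroup.mk_zpow, hj, inv_mul_cancel]
    · rintro ⟨j, hj⟩
      refine ⟨j, ?_⟩
      rw [QuotientGroup.mk'_apply, ← QuotientGroup.mk_zpow]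
      exact QuotientGroup.eq.mpr hj
  have hNH : N ≤ Hs := by
    intro n hn
    rw [hHmem]
    refine ⟨0, ?_⟩
    rw [zpow_zero, inv_one, one_mul]
    exact hn
  have hxH : ∀ j : ℤ, x ^ j ∈ Hs := by
    intro j
    rw [hHmem]
    refine ⟨j, ?_⟩
    rw [inv_mul_cancel]
    exact N.one_mem
  have hHG : ∀ h : Γ, h ∈ Hs → h ∈ G → h ∈ N := by
    intro h hh hhG
    obtain ⟨j, hj⟩ := (hHmem h).mp hh
    have h1 : x ^ j ∈ G := by
      have h2 := G.mul_mem hhG (G.inv_mem (hNG hj))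
      have e1 : h * ((x ^ j)⁻¹ * h)⁻¹ = x ^ j := by group
      rwa [e1] at h2
    have h3 := N.mul_mem (hpowN j h1) hj
    have e2 : x ^ j * ((x ^ j)⁻¹ * h) = h := by group
    rwa [e2] at h3
  have hsup : Hs ⊔ G = ⊤ := by
    rw [eq_top_iff]
    intro γ _
    obtain ⟨j, hj⟩ := hgen γ
    have e1 : γ = x ^ j * ((x ^ j)⁻¹ * γ) := by group
    rw [e1]
    exact Subgroup.mul_mem_sup (hxH j) hj
  have hindex : (N.subgroupOf Hs).index = G.index := by
    have h1 : N = G ⊓ Hs := by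
      apply le_antisymm
      · exact le_inf hNG hNH
      · intro h hh
        exact hHG h hh.2 hh.1
    have h2 : (N.subgroupOf Hs).index = N.relIndex Hs := rfl
    rw [h2, h1, Subgroup.inf_relIndex_right, ← Subgroup.relIndex_sup_right, hsup,
      Subgroup.relIndex_top_right]
  haveI : Fintype Hs := Fintype.ofFinite _
  haveI : Fintype (N.subgroupOf Hs) := Fintype.ofFinite _
  have hcycH : IsCyclic (Hs ⧸ N.subgroupOf Hs) := by
    refine ⟨⟨((⟨x, by simpa using hxH 1⟩ : Hs) : Hs ⧸ N.subgroupOf Hs), ?_⟩⟩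
    intro q
    obtain ⟨h, rfl⟩ := QuotientGroup.mk_surjective q
    obtain ⟨j, hj⟩ := (hHmem (h : Γ)).mp h.2
    refine ⟨j, ?_⟩
    simp only
    rw [← QuotientGroup.mk_zpow]
    apply QuotientGroup.eq.mpr
    rw [Subgroup.mem_subgroupOf]
    simpa using hj
  obtain ⟨θ'', hθ''def⟩ : ∃ θ'' : N.subgroupOf Hs → ℂ,
      θ'' = fun n : N.subgroupOf Hs => θ ⟨((n : Hs) : Γ), n.2⟩ := ⟨_, rfl⟩
  have hθ'' : Cfsg.IsIrrCharacter (N.subgroupOf Hs) θ'' := by
    have : θ'' = θ ∘ (Subgroup.subgroupOfEquivOfLe hNH) := by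
      rw [hθ''def]
      rfl
    rw [this]
    exact IsIrrCharacter.comp_mulEquiv _ hθ
  have hinv'' : ∀ (h : Hs) (n : N.subgroupOf Hs),
      θ'' ⟨h * n * h⁻¹, (inferInstance : (N.subgroupOf Hs).Normal).conj_mem (n : Hs) n.2 h⟩ =
        θ'' n := by
    intro h n
    rw [hθ''def]
    simp only
    exact hinv (h : Γ) ⟨((n : Hs) : Γ), n.2⟩
  have hΨ : Cfsg.IsCharacter Hs (fun h : Hs => χ₀ h) :=
    IsCharacter.restrict Hs (IsIrrCharacter.isCharacter hχ₀)
  have hres : ∀ n : N.subgroupOf Hs, (fun h : Hs => χ₀ h) (n : Hs) = (e : ℂ) * θ'' n := by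
    intro n
    rw [hθ''def]
    exact hχ₀N ⟨((n : Hs) : Γ), n.2⟩
  have hcardN : Nat.card (N.subgroupOf Hs) = Nat.card N :=
    Nat.card_congr (Subgroup.subgroupOfEquivOfLe hNH).toEquiv
  have hF : ∀ h : Hs, h ∉ N.subgroupOf Hs →
      ∑ n : N.subgroupOf Hs, (fun h : Hs => χ₀ h) ((n : Hs) * h) *
        conj ((fun h : Hs => χ₀ h) ((n : Hs) * h)) = (Nat.card (N.subgroupOf Hs) : ℂ) := by
    intro h hh
    have hhN : (h : Γ) ∉ N := fun h1 => hh (Subgroup.mem_subgroupOf.mpr h1)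
    have hhG : (h : Γ) ∉ G := fun h1 => hhN (hHG h h.2 h1)
    rw [hcardN, ← coset_norm_of_frobenius G N hNG hfrob χ₀ hχ₀ hχ₀Girr (h : Γ) hhG]
    exact Fintype.sum_equiv (Subgroup.subgroupOfEquivOfLe hNH).toEquiv _
      (fun n : N => χ₀ ((n : Γ) * (h : Γ)) * conj (χ₀ ((n : Γ) * (h : Γ)))) (fun n => rfl)
  have key := dvd_of_ramified_cyclic_section (N.subgroupOf Hs) hcycH θ'' hθ'' hinv''
    (fun h : Hs => χ₀ h) hΨ e hres hF
  rw [hindex] at key
  exact key

end Cfsg.Agent.Helper6
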