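import Mathlib

/-!
# A twisted extension `(K × B) ⋊ Q`

Given a group `K` with an action `σ` of `Q`, and a pairing `β : Q × B → Z(K)` with `σ`-fixed
values, the set `K × B × Q` is a group under
`(k, b, q) (k', b', q') = (k σ_q(k') β(q, b'), b b', q q')`.
-/

set_option autoImplicit false

namespace Cfsg.Agent.Helper6.GagEmb

universe u v w

/-- Data for the twisted extension. -/
structure TwData (K : Type u) (Q : Type v) (B : Type w) [Group K] [Group Q] [CommGroup B] where
  σ : Q →* MulAut K
  β : Q → B → K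
  β_mul_left : ∀ q q' b, β (q * q') b = β q b * β q' b
  β_mul_right : ∀ q b b', β q (b * b') = β q b * β q b'
  β_central : ∀ q b k, β q b * k = k * β q b
  β_fixed : ∀ q' q b, σ q' (β q b) = β q b

/-- The twisted extension. -/
@[ext]
structure TwExt {K : Type u} {Q : Type v} {B : Type w} [Group K] [Group Q] [CommGroup B]
    (d : TwData K Q B) where
  k : K
  b : B
  q : Q

namespace TwData

variable {K : Type u} {Q : Type v} {B : Type w} [Group K] [Group Q] [CommGroup B]
  (d : TwData K Q B)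

theorem β_one_left (b : B) : d.β 1 b = 1 := by
  have h := d.β_mul_left 1 1 b
  rw [mul_one] at h
  exact (mul_eq_left.mp h.symm)

theorem β_one_right (q : Q) : d.β q 1 = 1 := by
  have h := d.β_mul_right q 1 1
  rw [mul_one] at h
  exact (mul_eq_left.mp h.symm)

theorem β_inv_left (q : Q) (b : B) : d.β q⁻¹ b = (d.β q b)⁻¹ := by
  apply eq_inv_of_mul_eq_one_left
  rw [← d.β_mul_left, inv_mul_cancel, d.β_one_left]

theorem β_inv_right (q : Q) (b : B) : d.β q b⁻¹ = (d.β q b)⁻¹ := by
  apply eq_inv_of_mul_eq_one_left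
  rw [← d.β_mul_right, inv_mul_cancel, d.β_one_right]

end TwData

namespace TwExt

variable {K : Type u} {Q : Type v} {B : Type w} [Group K] [Group Q] [CommGroup B]
  {d : TwData K Q B}

instance : Mul (TwExt d) where
  mul x y := ⟨x.k * d.σ x.q y.k * d.β x.q y.b, x.b * y.b, x.q * y.q⟩

instance : One (TwExt d) where
  one := ⟨1, 1, 1⟩

instance : Inv (TwExt d) where
  inv x := ⟨d.σ x.q⁻¹ x.k⁻¹ * d.β x.q x.b, x.b⁻¹, x.q⁻¹⟩

@[simp] theorem mul_k (x y : TwExt d) : (x * y).k = x.k * d.σ x.q y.k * d.β x.q y.b := rfl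
@[simp] theorem mul_b (x y : TwExt d) : (x * y).b = x.b * y.b := rfl
@[simp] theorem mul_q (x y : TwExt d) : (x * y).q = x.q * y.q := rfl
@[simp] theorem one_k : (1 : TwExt d).k = 1 := rfl
@[simp] theorem one_b : (1 : TwExt d).b = 1 := rfl
@[simp] theorem one_q : (1 : TwExt d).q = 1 := rfl
@[simp] theorem inv_k (x : TwExt d) : x⁻¹.k = d.σ x.q⁻¹ x.k⁻¹ * d.β x.q x.b := rfl
@[simp] theorem inv_b (x : TwExt d) : x⁻¹.b = x.b⁻¹ := rfl
@[simp] theorem inv_q (x : TwExt d) : x⁻¹.q = x.q⁻¹ := rfl

theorem assoc_aux (a b c u v w : K) (hu : ∀ k, u * k = k * u) (hv : ∀ k, v * k = k * v)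
    (_hw : ∀ k, w * k = k * w) : a * b * u * c * (v * w) = a * (b * c * w) * (u * v) := by
  calc a * b * u * c * (v * w) = a * b * (u * c) * (v * w) := by simp only [mul_assoc]
    _ = a * b * (c * u) * (w * v) := by rw [hu c, hv w]
    _ = a * b * c * (u * w) * v := by simp only [mul_assoc]
    _ = a * b * c * (w * u) * v := by rw [hu w]
    _ = a * (b * c * w) * (u * v) := by simp only [mul_assoc]

instance : Group (TwExt d) where
  mul_assoc x y z := by
    ext
    · simp only [mul_k, mul_b, mul_q, map_mul, MulAut.mul_apply, d.β_fixed, d.β_mul_left,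
        d.β_mul_right]
      exact assoc_aux _ _ _ _ _ _ (d.β_central x.q y.b) (d.β_central x.q z.b)
        (d.β_central y.q z.b)
    · simp only [mul_b, mul_assoc]
    · simp only [mul_q, mul_assoc]
  one_mul x := by
    ext
    · simp [d.β_one_left]
    · simp
    · simp
  mul_one x := by
    ext
    · simp [d.β_one_right]
    · simp
    · simp
  inv_mul_cancel x := by
    ext
    · simp only [mul_k, inv_k, inv_q, one_k]
      rw [d.β_inv_left, mul_assoc, mul_assoc, ← mul_assoc (d.β x.q x.b), d.β_central, mul_assoc,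
        mul_inv_cancel, mul_one, ← map_mul, inv_mul_cancel, map_one]
    · simp
    · simp

theorem mul_def (x y : TwExt d) :
    x * y = ⟨x.k * d.σ x.q y.k * d.β x.q y.b, x.b * y.b, x.q * y.q⟩ := rfl

theorem inv_def (x : TwExt d) : x⁻¹ = ⟨d.σ x.q⁻¹ x.k⁻¹ * d.β x.q x.b, x.b⁻¹, x.q⁻¹⟩ := rfl

/-- The underlying equivalence with a product. -/
def equivProd (d : TwData K Q B) : TwExt d ≃ K × B × Q where
  toFun x := (x.k, x.b, x.q)
  invFun y := ⟨y.1, y.2.1, y.2.2⟩
  left_inv _ := rfl
  right_inv _ := rfl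

instance [Finite K] [Finite Q] [Finite B] : Finite (TwExt d) :=
  Finite.of_equiv _ (equivProd d).symm

theorem card_eq [Finite K] [Finite Q] [Finite B] :
    Nat.card (TwExt d) = Nat.card K * (Nat.card B * Nat.card Q) := by
  rw [Nat.card_congr (equivProd d), Nat.card_prod, Nat.card_prod]

end TwExt

end Cfsg.Agent.Helper6.GagEmb
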