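import Mathlib
import Cfsg.Agent.Helper6.GagEmbA

/-!
# The commutator condition for the twisted extension, and its central quotient
-/

set_option autoImplicit false

namespace Cfsg.Agent.Helper6.GagEmb

universe u v w

/-- Every element outside `Z` is conjugate to a nontrivial `Z`-multiple of itself. -/
def CommCond (H : Type*) [Group H] (Z : Subgroup H) : Prop :=
  ∀ x : H, x ∉ Z → ∃ y c : H, c ∈ Z ∧ c ≠ 1 ∧ y * x * y⁻¹ = c * x

theorem center_eq_of_commCond {H : Type*} [Group H] (Z : Subgroup H)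
    (hZ : Z ≤ Subgroup.center H) (h : CommCond H Z) : Subgroup.center H = Z := by
  apply le_antisymm _ hZ
  intro x hx
  by_contra hxZ
  obtain ⟨y, c, -, hc1, hyx⟩ := h x hxZ
  apply hc1
  have h1 : y * x * y⁻¹ = x := by
    rw [Subgroup.mem_center_iff] at hx
    rw [hx y, mul_assoc, mul_inv_cancel, mul_one]
  rw [h1] at hyx
  exact (mul_eq_right.mp hyx.symm)

namespace TwExt

variable {K : Type u} {Q : Type v} {B : Type w} [Group K] [Group Q] [CommGroup B]
  {d : TwData K Q B}

/-- The inclusion of `K`. -/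
def inK (d : TwData K Q B) : K →* TwExt d where
  toFun k := ⟨k, 1, 1⟩
  map_one' := rfl
  map_mul' k k' := by
    ext
    · simp [d.β_one_left]
    · simp
    · simp

@[simp] theorem inK_k (k : K) : (inK d k).k = k := rfl
@[simp] theorem inK_b (k : K) : (inK d k).b = 1 := rfl
@[simp] theorem inK_q (k : K) : (inK d k).q = 1 := rfl

theorem inK_injective : Function.Injective (inK d) := by
  intro a b h
  exact congrArg TwExt.k h

theorem mem_map_inK (Z₁ : Subgroup K) (x : TwExt d) :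
    x ∈ Z₁.map (inK d) ↔ x.k ∈ Z₁ ∧ x.b = 1 ∧ x.q = 1 := by
  constructor
  · rintro ⟨z, hz, rfl⟩
    exact ⟨hz, rfl, rfl⟩
  · rintro ⟨h1, h2, h3⟩
    refine ⟨x.k, h1, ?_⟩
    ext
    · rfl
    · exact h2.symm
    · exact h3.symm

theorem inK_mul (c : K) (x : TwExt d) : inK d c * x = ⟨c * x.k, x.b, x.q⟩ := by
  ext
  · simp [d.β_one_left]
  · simp
  · simp

theorem map_inK_le_center (Z₁ : Subgroup K) (hZc : ∀ z ∈ Z₁, ∀ k, z * k = k * z)
    (hσZ : ∀ q, ∀ z ∈ Z₁, d.σ q z = z) :
    Z₁.map (inK d) ≤ Subgroup.center (TwExt d) := by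
  rintro _ ⟨z, hz, rfl⟩
  rw [Subgroup.mem_center_iff]
  intro x
  rw [inK_mul]
  ext
  · simp only [mul_k, inK_k, inK_b, hσZ x.q z hz, d.β_one_right, mul_one]
    exact (hZc z hz x.k).symm
  · simp
  · simp

theorem commCond (Z₁ : Subgroup K) (hZc : ∀ z ∈ Z₁, ∀ k, z * k = k * z)
    (hσZ : ∀ q, ∀ z ∈ Z₁, d.σ q z = z) (hβZ : ∀ q b, d.β q b ∈ Z₁)
    (hK : CommCond K Z₁) (hnd1 : ∀ q : Q, q ≠ 1 → ∃ b, d.β q b ≠ 1)
    (hnd2 : ∀ b : B, b ≠ 1 → ∃ q, d.β q b ≠ 1) :
    CommCond (TwExt d) (Z₁.map (inK d)) := by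
  intro x hx
  rw [mem_map_inK] at hx
  by_cases hq : x.q = 1
  · by_cases hk : x.k ∈ Z₁
    · -- b ≠ 1
      have hb : x.b ≠ 1 := fun hb => hx ⟨hk, hb, hq⟩
      obtain ⟨q', hq'⟩ := hnd2 x.b hb
      refine ⟨⟨1, 1, q'⟩, inK d (d.β q' x.b), Subgroup.mem_map_of_mem _ (hβZ _ _), ?_, ?_⟩
      · intro h
        exact hq' (inK_injective (h.trans (map_one _).symm))
      · rw [inK_mul]
        ext
        · simp only [mul_k, mul_q, mul_b, inv_k, inv_q, inv_b, inv_one, map_one, one_mul,
            d.β_one_right, mul_one, hσZ q' x.k hk, hq, d.β_fixed]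
          exact (hZc _ (hβZ _ _) x.k).symm
        · simp
        · simp [hq]
    · obtain ⟨y, c, hc, hc1, hyk⟩ := hK x.k hk
      refine ⟨inK d y, inK d c, Subgroup.mem_map_of_mem _ hc, ?_, ?_⟩
      · intro h
        exact hc1 (inK_injective (h.trans (map_one _).symm))
      · rw [inK_mul, inK_mul]
        ext
        · simp only [mul_k, inv_k, inK_k, inK_b, inK_q, inv_one, map_one, d.β_one_right,
            mul_one, hq, MulAut.one_apply, d.β_one_left]
          exact hyk
        · simp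
        · simp
  · obtain ⟨b', hb'⟩ := hnd1 x.q hq
    refine ⟨⟨1, b'⁻¹, 1⟩, inK d (d.β x.q b'), Subgroup.mem_map_of_mem _ (hβZ _ _), ?_, ?_⟩
    · intro h
      exact hb' (inK_injective (h.trans (map_one _).symm))
    · rw [inK_mul]
      ext
      · simp only [mul_k, mul_q, mul_b, inv_k, inv_q, inv_b, inv_one, map_one, one_mul,
          d.β_one_left, mul_one, MulAut.one_apply, inv_inv]
        exact (hZc _ (hβZ _ _) x.k).symm
      · simp
      · simp

section theta

variable {M : Type*} [Group M]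

/-- The map to `(M ≀ᵣ Q) × B`. -/
def theta (d : TwData K Q B) (bar : K →* (Q → M))
    (hbarσ : ∀ q k x, bar (d.σ q k) x = bar k (q⁻¹ * x)) (hbarβ : ∀ q b, bar (d.β q b) = 1) :
    TwExt d →* (M ≀ᵣ Q) × B where
  toFun x := (⟨bar x.k, x.q⟩, x.b)
  map_one' := by
    apply Prod.ext
    · apply RegularWreathProduct.ext
      · show bar 1 = 1
        exact map_one bar
      · rfl
    · rfl
  map_mul' x y := by
    apply Prod.ext
    · apply RegularWreathProduct.ext
      · show bar (x.k * d.σ x.q y.k * d.β x.q y.b) = bar x.k * fun z => bar y.k (x.q⁻¹ * z)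
        rw [map_mul, map_mul, hbarβ, mul_one]
        congr 1
        funext z
        exact hbarσ _ _ _
      · rfl
    · rfl

theorem theta_surjective (bar : K →* (Q → M))
    (hbarσ : ∀ q k x, bar (d.σ q k) x = bar k (q⁻¹ * x)) (hbarβ : ∀ q b, bar (d.β q b) = 1)
    (hs : Function.Surjective bar) : Function.Surjective (theta d bar hbarσ hbarβ) := by
  rintro ⟨⟨f, q⟩, b⟩
  obtain ⟨k, hk⟩ := hs f
  refine ⟨⟨k, b, q⟩, ?_⟩
  show ((⟨bar k, q⟩ : M ≀ᵣ Q), b) = _
  rw [hk]

theorem theta_ker (bar : K →* (Q → M))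
    (hbarσ : ∀ q k x, bar (d.σ q k) x = bar k (q⁻¹ * x)) (hbarβ : ∀ q b, bar (d.β q b) = 1) :
    (theta d bar hbarσ hbarβ).ker = bar.ker.map (inK d) := by
  ext x
  rw [MonoidHom.mem_ker, mem_map_inK, MonoidHom.mem_ker]
  constructor
  · intro h
    have h1 := congrArg Prod.fst h
    have h2 := congrArg Prod.snd h
    exact ⟨congrArg RegularWreathProduct.left h1, h2, congrArg RegularWreathProduct.right h1⟩
  · rintro ⟨h1, h2, h3⟩
    apply Prod.ext
    · apply RegularWreathProduct.ext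
      · exact h1
      · exact h3
    · exact h2

/-- The wreath product embeds in the central quotient. -/
theorem exists_embedding (bar : K →* (Q → M))
    (hbarσ : ∀ q k x, bar (d.σ q k) x = bar k (q⁻¹ * x)) (hbarβ : ∀ q b, bar (d.β q b) = 1)
    (hs : Function.Surjective bar)
    (hcen : Subgroup.center (TwExt d) = bar.ker.map (inK d)) :
    ∃ f : M ≀ᵣ Q →* TwExt d ⧸ Subgroup.center (TwExt d), Function.Injective f := by
  have hk : (theta d bar hbarσ hbarβ).ker = Subgroup.center (TwExt d) := by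
    rw [theta_ker, hcen]
  let e1 := QuotientGroup.quotientKerEquivOfSurjective (theta d bar hbarσ hbarβ)
    (theta_surjective bar hbarσ hbarβ hs)
  let e2 := QuotientGroup.quotientMulEquivOfEq hk
  refine ⟨e2.toMonoidHom.comp (e1.symm.toMonoidHom.comp (MonoidHom.inl (M ≀ᵣ Q) B)), ?_⟩
  intro a b hab
  have hab' : e2 (e1.symm (a, 1)) = e2 (e1.symm (b, 1)) := hab
  have h1 := e2.injective hab'
  have h2 := e1.symm.injective h1
  exact congrArg Prod.fst h2

end theta

end TwExt

end Cfsg.Agent.Helper6.GagEmb
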