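import Mathlib
import Cfsg.Agent.Helper6.GagEmbB

/-!
# The central product of copies of `H₀` indexed by `Q`
-/

set_option autoImplicit false

namespace Cfsg.Agent.Helper6.GagEmb

open scoped IsMulCommutative

universe u

variable (H₀ : Type u) [Group H₀] (Q : Type u) [Group Q] [Fintype Q] [DecidableEq Q]

/-- The product map on central tuples. -/
def prodHom : (Q → Subgroup.center H₀) →* Subgroup.center H₀ where
  toFun f := ∏ q, f q
  map_one' := by simp
  map_mul' f g := by
    simp only [Pi.mul_apply]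
    exact Finset.prod_mul_distrib

/-- The inclusion of central tuples. -/
def incl : (Q → Subgroup.center H₀) →* (Q → H₀) where
  toFun f q := (f q : H₀)
  map_one' := rfl
  map_mul' _ _ := rfl

theorem incl_injective : Function.Injective (incl H₀ Q) := by
  intro f g h
  funext q
  exact Subtype.ext (congrFun h q)

theorem incl_central (f : Q → Subgroup.center H₀) (g : Q → H₀) :
    incl H₀ Q f * g = g * incl H₀ Q f := by
  funext q
  exact ((Subgroup.mem_center_iff.mp (f q).2) (g q)).symm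

theorem mem_range_incl (g : Q → H₀) :
    g ∈ (incl H₀ Q).range ↔ ∀ q, g q ∈ Subgroup.center H₀ := by
  constructor
  · rintro ⟨f, rfl⟩ q
    exact (f q).2
  · intro h
    exact ⟨fun q => ⟨g q, h q⟩, rfl⟩

/-- The amalgamated subgroup. -/
def dSub : Subgroup (Q → H₀) := (prodHom H₀ Q).ker.map (incl H₀ Q)

instance dSub_normal : (dSub H₀ Q).Normal := by
  constructor
  intro n hn g
  obtain ⟨f, hf, rfl⟩ := Subgroup.mem_map.mp hn
  rw [← incl_central, mul_assoc, mul_inv_cancel, mul_one]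
  exact Subgroup.mem_map.mpr ⟨f, hf, rfl⟩

/-- The central product. -/
abbrev CProd : Type u := (Q → H₀) ⧸ dSub H₀ Q

/-- The shift action on tuples. -/
def shiftAut : Q →* MulAut (Q → H₀) where
  toFun q :=
    { toFun := fun f x => f (q⁻¹ * x)
      invFun := fun f x => f (q * x)
      left_inv := fun f => by funext x; simp
      right_inv := fun f => by funext x; simp
      map_mul' := fun _ _ => rfl }
  map_one' := by
    ext f x
    simp
  map_mul' q q' := by
    ext f x
    show f ((q * q')⁻¹ * x) = f (q'⁻¹ * (q⁻¹ * x))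
    rw [mul_inv_rev, mul_assoc]

theorem shiftAut_apply (q : Q) (f : Q → H₀) (x : Q) : shiftAut H₀ Q q f x = f (q⁻¹ * x) := rfl

theorem shift_incl (q : Q) (f : Q → Subgroup.center H₀) :
    shiftAut H₀ Q q (incl H₀ Q f) = incl H₀ Q (fun x => f (q⁻¹ * x)) := rfl

theorem prodHom_shift (q : Q) (f : Q → Subgroup.center H₀) :
    prodHom H₀ Q (fun x => f (q⁻¹ * x)) = prodHom H₀ Q f := by
  show ∏ x, f (q⁻¹ * x) = ∏ x, f x
  exact Fintype.prod_equiv (Equiv.mulLeft q⁻¹) _ _ (fun _ => rfl)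

theorem map_shift_dSub (q : Q) :
    (dSub H₀ Q).map ((shiftAut H₀ Q q : (Q → H₀) ≃* (Q → H₀)) : (Q → H₀) →* (Q → H₀)) =
      dSub H₀ Q := by
  apply le_antisymm
  · intro n hn
    obtain ⟨m, hm, rfl⟩ := Subgroup.mem_map.mp hn
    obtain ⟨f, hf, rfl⟩ := Subgroup.mem_map.mp hm
    refine Subgroup.mem_map.mpr ⟨fun x => f (q⁻¹ * x), ?_, rfl⟩
    rw [MonoidHom.mem_ker, prodHom_shift]
    exact MonoidHom.mem_ker.mp hf
  · intro n hn
    obtain ⟨f, hf, rfl⟩ := Subgroup.mem_map.mp hn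
    refine Subgroup.mem_map.mpr ⟨incl H₀ Q (fun x => f (q * x)),
      Subgroup.mem_map.mpr ⟨fun x => f (q * x), ?_, rfl⟩, ?_⟩
    · rw [MonoidHom.mem_ker]
      have := prodHom_shift H₀ Q q⁻¹ f
      rw [inv_inv] at this
      rw [this]
      exact MonoidHom.mem_ker.mp hf
    · funext x
      show (f (q * (q⁻¹ * x)) : H₀) = f x
      rw [mul_inv_cancel_left]

/-- The shift action on the central product. -/
def sigmaK : Q →* MulAut (CProd H₀ Q) where
  toFun q := QuotientGroup.congr (dSub H₀ Q) (dSub H₀ Q) (shiftAut H₀ Q q) (map_shift_dSub H₀ Q q)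
  map_one' := by
    ext x
    induction x using QuotientGroup.induction_on with
    | H f =>
      rw [QuotientGroup.congr_mk, map_one]
      rfl
  map_mul' q q' := by
    ext x
    induction x using QuotientGroup.induction_on with
    | H f =>
      rw [MulAut.mul_apply, QuotientGroup.congr_mk, QuotientGroup.congr_mk, QuotientGroup.congr_mk,
        map_mul]
      rfl

theorem sigmaK_mk (q : Q) (f : Q → H₀) :
    sigmaK H₀ Q q (QuotientGroup.mk f : CProd H₀ Q) =
      QuotientGroup.mk (shiftAut H₀ Q q f) :=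
  QuotientGroup.congr_mk (dSub H₀ Q) (dSub H₀ Q) (shiftAut H₀ Q q) (map_shift_dSub H₀ Q q) f

/-- The central embedding of `Z(H₀)`. -/
def zK : Subgroup.center H₀ →* CProd H₀ Q :=
  (QuotientGroup.mk' (dSub H₀ Q)).comp
    ((incl H₀ Q).comp (MonoidHom.mulSingle (fun _ : Q => Subgroup.center H₀) 1))

theorem prodHom_mulSingle (q : Q) (z : Subgroup.center H₀) :
    prodHom H₀ Q (Pi.mulSingle q z) = z :=
  Fintype.prod_pi_mulSingle' q z

theorem mk_incl (f : Q → Subgroup.center H₀) :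
    (QuotientGroup.mk (incl H₀ Q f) : CProd H₀ Q) = zK H₀ Q (prodHom H₀ Q f) := by
  show (QuotientGroup.mk (incl H₀ Q f) : CProd H₀ Q) =
    QuotientGroup.mk (incl H₀ Q (Pi.mulSingle 1 (prodHom H₀ Q f)))
  rw [QuotientGroup.eq]
  refine Subgroup.mem_map.mpr ⟨f⁻¹ * Pi.mulSingle 1 (prodHom H₀ Q f), ?_, ?_⟩
  · rw [MonoidHom.mem_ker, map_mul, map_inv, prodHom_mulSingle, inv_mul_cancel]
  · rw [map_mul, map_inv]

theorem zK_injective : Function.Injective (zK H₀ Q) := by
  rw [injective_iff_map_eq_one]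
  intro z hz
  have h1 : incl H₀ Q (Pi.mulSingle 1 z) ∈ dSub H₀ Q := by
    rw [← QuotientGroup.eq_one_iff]
    exact hz
  obtain ⟨f, hf, hfe⟩ := Subgroup.mem_map.mp h1
  have h2 := incl_injective H₀ Q hfe
  rw [h2, MonoidHom.mem_ker, prodHom_mulSingle] at hf
  exact hf

theorem zK_central (z : Subgroup.center H₀) (k : CProd H₀ Q) : zK H₀ Q z * k = k * zK H₀ Q z := by
  induction k using QuotientGroup.induction_on with
  | H f =>
    show (QuotientGroup.mk (incl H₀ Q (Pi.mulSingle 1 z) * f) : CProd H₀ Q) =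
      QuotientGroup.mk (f * incl H₀ Q (Pi.mulSingle 1 z))
    rw [incl_central]

theorem sigmaK_zK (q : Q) (z : Subgroup.center H₀) : sigmaK H₀ Q q (zK H₀ Q z) = zK H₀ Q z := by
  show sigmaK H₀ Q q (QuotientGroup.mk (incl H₀ Q (Pi.mulSingle 1 z))) = _
  rw [sigmaK_mk, shift_incl, mk_incl, prodHom_shift, prodHom_mulSingle]

/-- The image of the central tuples. -/
def z₁ : Subgroup (CProd H₀ Q) := (zK H₀ Q).range

theorem mk_mem_z₁ (f : Q → H₀) :
    (QuotientGroup.mk f : CProd H₀ Q) ∈ z₁ H₀ Q ↔ ∀ q, f q ∈ Subgroup.center H₀ := by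
  constructor
  · rintro ⟨z, hz⟩
    have h1 : (incl H₀ Q (Pi.mulSingle 1 z))⁻¹ * f ∈ dSub H₀ Q := by
      rw [← QuotientGroup.eq]
      exact hz
    obtain ⟨g, -, hg⟩ := Subgroup.mem_map.mp h1
    intro q
    have h2 : f = incl H₀ Q (Pi.mulSingle 1 z) * incl H₀ Q g := by
      rw [hg, mul_inv_cancel_left]
    rw [h2, ← map_mul]
    exact ((Pi.mulSingle 1 z * g : Q → Subgroup.center H₀) q).2
  · intro h
    obtain ⟨g, rfl⟩ := (mem_range_incl H₀ Q f).mpr h
    rw [mk_incl]
    exact ⟨_, rfl⟩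

theorem commCond_cprod (h₀ : CommCond H₀ (Subgroup.center H₀)) :
    CommCond (CProd H₀ Q) (z₁ H₀ Q) := by
  intro x hx
  induction x using QuotientGroup.induction_on with
  | H f =>
    rw [mk_mem_z₁] at hx
    push Not at hx
    obtain ⟨q₀, hq₀⟩ := hx
    obtain ⟨y₀, c₀, hc₀, hc1, hyc⟩ := h₀ (f q₀) hq₀
    refine ⟨QuotientGroup.mk (Pi.mulSingle q₀ y₀), zK H₀ Q ⟨c₀, hc₀⟩, ⟨_, rfl⟩, ?_, ?_⟩
    · intro h
      have := zK_injective H₀ Q (h.trans (map_one _).symm)
      exact hc1 (congrArg Subtype.val this)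
    · have h1 : zK H₀ Q ⟨c₀, hc₀⟩ =
          (QuotientGroup.mk (incl H₀ Q (Pi.mulSingle q₀ ⟨c₀, hc₀⟩)) : CProd H₀ Q) := by
        rw [mk_incl, prodHom_mulSingle]
      rw [h1]
      show (QuotientGroup.mk (Pi.mulSingle q₀ y₀ * f * (Pi.mulSingle q₀ y₀)⁻¹) : CProd H₀ Q) =
        QuotientGroup.mk (incl H₀ Q (Pi.mulSingle q₀ ⟨c₀, hc₀⟩) * f)
      congr 1
      funext q
      by_cases hq : q = q₀
      · subst hq
        show (Pi.mulSingle q y₀ : Q → H₀) q * f q * ((Pi.mulSingle q y₀ : Q → H₀) q)⁻¹ =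
          (((Pi.mulSingle q (⟨c₀, hc₀⟩ : Subgroup.center H₀) : Q → Subgroup.center H₀) q :
            Subgroup.center H₀) : H₀) * f q
        rw [Pi.mulSingle_eq_same, Pi.mulSingle_eq_same]
        exact hyc
      · show (Pi.mulSingle q₀ y₀ : Q → H₀) q * f q * ((Pi.mulSingle q₀ y₀ : Q → H₀) q)⁻¹ =
          (((Pi.mulSingle q₀ (⟨c₀, hc₀⟩ : Subgroup.center H₀) : Q → Subgroup.center H₀) q :
            Subgroup.center H₀) : H₀) * f q
        rw [Pi.mulSingle_eq_of_ne hq, Pi.mulSingle_eq_of_ne hq]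
        simp

/-- The map to tuples modulo the centre. -/
def barK : CProd H₀ Q →* (Q → H₀ ⧸ Subgroup.center H₀) :=
  QuotientGroup.lift (dSub H₀ Q)
    { toFun := fun f q => (f q : H₀ ⧸ Subgroup.center H₀)
      map_one' := rfl
      map_mul' := fun _ _ => rfl }
    (by
      rintro _ ⟨f, -, rfl⟩
      rw [MonoidHom.mem_ker]
      funext q
      show ((f q : H₀) : H₀ ⧸ Subgroup.center H₀) = 1
      rw [QuotientGroup.eq_one_iff]
      exact (f q).2)

theorem barK_mk (f : Q → H₀) (q : Q) :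
    barK H₀ Q (QuotientGroup.mk f) q = (f q : H₀ ⧸ Subgroup.center H₀) := rfl

theorem barK_sigmaK (q : Q) (k : CProd H₀ Q) (x : Q) :
    barK H₀ Q (sigmaK H₀ Q q k) x = barK H₀ Q k (q⁻¹ * x) := by
  induction k using QuotientGroup.induction_on with
  | H f => rw [sigmaK_mk]; rfl

theorem barK_zK (z : Subgroup.center H₀) : barK H₀ Q (zK H₀ Q z) = 1 := by
  funext q
  show ((incl H₀ Q (Pi.mulSingle 1 z) q : H₀) : H₀ ⧸ Subgroup.center H₀) = 1
  rw [QuotientGroup.eq_one_iff]
  exact ((Pi.mulSingle 1 z : Q → Subgroup.center H₀) q).2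

theorem barK_surjective : Function.Surjective (barK H₀ Q) := by
  intro g
  refine ⟨QuotientGroup.mk (fun q => (g q).out), ?_⟩
  funext q
  rw [barK_mk]
  exact QuotientGroup.out_eq' (g q)

theorem barK_ker : (barK H₀ Q).ker = z₁ H₀ Q := by
  ext x
  induction x using QuotientGroup.induction_on with
  | H f =>
    rw [MonoidHom.mem_ker, mk_mem_z₁]
    constructor
    · intro h q
      have := congrFun h q
      rw [barK_mk] at this
      exact (QuotientGroup.eq_one_iff _).mp this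
    · intro h
      funext q
      rw [barK_mk]
      exact (QuotientGroup.eq_one_iff _).mpr (h q)

end Cfsg.Agent.Helper6.GagEmb
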