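import Mathlib
import Cfsg.Agent.Helper6.GagEmbC

/-!
# The inductive step of the Gagola embedding
-/

set_option autoImplicit false

namespace Cfsg.Agent.Helper6.GagEmb

universe u

section defs

open scoped IsMulCommutative

variable (H₀ : Type u) [Group H₀] (Q : Type u) [Group Q]

/-- The dual group `Hom(Q, Z(H₀))`. -/
def BGrp : Type u := Q →* Subgroup.center H₀

instance : CommGroup (BGrp H₀ Q) := inferInstanceAs (CommGroup (Q →* Subgroup.center H₀))

instance [Finite H₀] [Finite Q] : Finite (BGrp H₀ Q) :=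
  show Finite (Q →* Subgroup.center H₀) from
    Finite.of_injective (fun f : Q →* Subgroup.center H₀ => (f : Q → Subgroup.center H₀))
      DFunLike.coe_injective

/-- evaluation -/
def BGrp.ev {H₀ : Type u} [Group H₀] {Q : Type u} [Group Q] (φ : BGrp H₀ Q) (q : Q) :
    Subgroup.center H₀ := (show Q →* Subgroup.center H₀ from φ) q

theorem BGrp.ev_mul_left {H₀ : Type u} [Group H₀] {Q : Type u} [Group Q] (φ : BGrp H₀ Q)
    (q q' : Q) : φ.ev (q * q') = φ.ev q * φ.ev q' :=
  map_mul (show Q →* Subgroup.center H₀ from φ) q q'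

theorem BGrp.ev_mul_right {H₀ : Type u} [Group H₀] {Q : Type u} [Group Q] (φ φ' : BGrp H₀ Q)
    (q : Q) : (φ * φ').ev q = φ.ev q * φ'.ev q := rfl

theorem BGrp.ev_one {H₀ : Type u} [Group H₀] {Q : Type u} [Group Q] (q : Q) :
    (1 : BGrp H₀ Q).ev q = 1 := rfl

theorem BGrp.ext' {H₀ : Type u} [Group H₀] {Q : Type u} [Group Q] (φ φ' : BGrp H₀ Q)
    (h : ∀ q, φ.ev q = φ'.ev q) : φ = φ' :=
  MonoidHom.ext h

theorem BGrp.pow_ev {H₀ : Type u} [Group H₀] {Q : Type u} [Group Q] (φ : BGrp H₀ Q) (n : ℕ)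
    (q : Q) : (φ ^ n).ev q = φ.ev (q ^ n) := by
  induction n with
  | zero =>
    rw [pow_zero, pow_zero, BGrp.ev_one]
    exact (map_one (show Q →* Subgroup.center H₀ from φ)).symm
  | succ n ih => rw [pow_succ, pow_succ, BGrp.ev_mul_right, ih, BGrp.ev_mul_left]

variable [Fintype Q] [DecidableEq Q]

/-- The twisting data. -/
def twData : TwData (CProd H₀ Q) Q (BGrp H₀ Q) where
  σ := sigmaK H₀ Q
  β q φ := zK H₀ Q (φ.ev q)
  β_mul_left q q' φ := by rw [BGrp.ev_mul_left, map_mul]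
  β_mul_right q φ φ' := by rw [BGrp.ev_mul_right, map_mul]
  β_central q φ k := zK_central H₀ Q _ k
  β_fixed q' q φ := sigmaK_zK H₀ Q q' _

end defs

/-- The inductive step. -/
theorem step (H₀ : Type u) [Group H₀] [Finite H₀] (Q : Type u) [Group Q] [Finite Q] (p : ℕ)
    (hp : p.Prime) (hQ : Nat.card Q = p) (hpZ : p ∣ Nat.card (Subgroup.center H₀))
    (hcyc : IsCyclic (Subgroup.center H₀)) (h₀ : CommCond H₀ (Subgroup.center H₀))
    (m : ℕ) (hm : Nat.card (Subgroup.center H₀) = m)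
    (hprimes : ∀ r : ℕ, r.Prime → r ∣ Nat.card H₀ → r ∣ m) :
    ∃ (H : Type u) (_ : Group H) (_ : Finite H), IsCyclic (Subgroup.center H) ∧
      CommCond H (Subgroup.center H) ∧ Nat.card (Subgroup.center H) = m ∧
      (∀ r : ℕ, r.Prime → r ∣ Nat.card H → r ∣ m) ∧
      ∃ f : (H₀ ⧸ Subgroup.center H₀) ≀ᵣ Q →* H ⧸ Subgroup.center H, Function.Injective f := by
  classical
  haveI : Fact p.Prime := ⟨hp⟩
  haveI : Fintype Q := Fintype.ofFinite Q
  set d := twData H₀ Q with hd
  set Z : Subgroup (TwExt d) := (z₁ H₀ Q).map (TwExt.inK d) with hZ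
  have hZc : ∀ z ∈ z₁ H₀ Q, ∀ k, z * k = k * z := by
    rintro _ ⟨z, rfl⟩ k
    exact zK_central H₀ Q z k
  have hσZ : ∀ q, ∀ z ∈ z₁ H₀ Q, d.σ q z = z := by
    rintro q _ ⟨z, rfl⟩
    exact sigmaK_zK H₀ Q q z
  have hβZ : ∀ q b, d.β q b ∈ z₁ H₀ Q := fun q b => ⟨_, rfl⟩
  have hK := commCond_cprod H₀ Q h₀
  have hzK1 : ∀ z : Subgroup.center H₀, z ≠ 1 → zK H₀ Q z ≠ 1 := by
    intro z hz h
    exact hz (zK_injective H₀ Q (h.trans (map_one _).symm))
  have hnd1 : ∀ q : Q, q ≠ 1 → ∃ b, d.β q b ≠ 1 := by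
    intro q hq
    obtain ⟨z₀, hz₀⟩ := exists_prime_orderOf_dvd_card' p hpZ
    have hcz : Nat.card (Subgroup.zpowers z₀) = p := by rw [Nat.card_zpowers, hz₀]
    let e : Q ≃* Subgroup.zpowers z₀ := mulEquivOfPrimeCardEq hQ hcz
    let φ : BGrp H₀ Q := (Subgroup.zpowers z₀).subtype.comp e.toMonoidHom
    refine ⟨φ, hzK1 _ ?_⟩
    intro h
    have h1 : ((e q : Subgroup.zpowers z₀) : Subgroup.center H₀) = 1 := h
    have h2 : e q = 1 := Subtype.ext h1
    exact hq (e.injective (h2.trans (map_one e).symm))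
  have hnd2 : ∀ b : BGrp H₀ Q, b ≠ 1 → ∃ q, d.β q b ≠ 1 := by
    intro b hb
    by_contra hno
    push Not at hno
    apply hb
    apply BGrp.ext'
    intro q
    rw [BGrp.ev_one]
    by_contra hne
    exact hzK1 _ hne (hno q)
  have hcc : CommCond (TwExt d) Z := TwExt.commCond (z₁ H₀ Q) hZc hσZ hβZ hK hnd1 hnd2
  have hle : Z ≤ Subgroup.center (TwExt d) := TwExt.map_inK_le_center (z₁ H₀ Q) hZc hσZ
  have hcen : Subgroup.center (TwExt d) = Z := center_eq_of_commCond Z hle hcc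
  -- Z as a range
  have hZr : Z = ((TwExt.inK d).comp (zK H₀ Q)).range := by
    rw [hZ, z₁, MonoidHom.map_range]
  have hinj : Function.Injective ((TwExt.inK d).comp (zK H₀ Q)) :=
    TwExt.inK_injective.comp (zK_injective H₀ Q)
  refine ⟨TwExt d, inferInstance, inferInstance, ?_, ?_, ?_, ?_, ?_⟩
  · rw [hcen, hZr]
    haveI := hcyc
    exact isCyclic_of_surjective _ (MonoidHom.rangeRestrict_surjective _)
  · rw [hcen]
    exact hcc
  · rw [hcen, hZr, ← hm]
    exact (Nat.card_congr (MonoidHom.ofInjective hinj).toEquiv).symm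
  · intro r hr hdvd
    rw [TwExt.card_eq] at hdvd
    rcases (Nat.Prime.dvd_mul hr).mp hdvd with h1 | h1
    · apply hprimes r hr
      have h2 : Nat.card (CProd H₀ Q) ∣ Nat.card (Q → H₀) :=
        Subgroup.card_quotient_dvd_card _
      rw [Nat.card_fun] at h2
      exact hr.dvd_of_dvd_pow (h1.trans h2)
    · have hrp : r = p := by
        rcases (Nat.Prime.dvd_mul hr).mp h1 with h2 | h2
        · have hB : IsPGroup p (BGrp H₀ Q) := by
            intro φ
            refine ⟨1, ?_⟩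
            rw [pow_one]
            apply BGrp.ext'
            intro q
            rw [BGrp.pow_ev, BGrp.ev_one, ← hQ, pow_card_eq_one']
            exact map_one (show Q →* Subgroup.center H₀ from φ)
          obtain ⟨n, hn⟩ := IsPGroup.iff_card.mp hB
          rw [hn] at h2
          exact (Nat.prime_dvd_prime_iff_eq hr hp).mp (hr.dvd_of_dvd_pow h2)
        · rw [hQ] at h2
          exact (Nat.prime_dvd_prime_iff_eq hr hp).mp h2
      rw [hrp, ← hm]
      exact hpZ
  · apply TwExt.exists_embedding (barK H₀ Q)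
    · intro q k x
      exact barK_sigmaK H₀ Q q k x
    · intro q b
      exact barK_zK H₀ Q _
    · exact barK_surjective H₀ Q
    · rw [barK_ker]
      exact hcen

end Cfsg.Agent.Helper6.GagEmb
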