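import Mathlib
import Cfsg.Prelude.Def_Characters
import Cfsg.Agent.Helper6.GagEmbB
import Cfsg.Agent.Helper6.Extraspecial
import Cfsg.Agent.Helper6.GaloisChar
import Cfsg.Agent.Helper6.Degrees
import Cfsg.Agent.Helper6.Linear
import Cfsg.Agent.Helper6.Induced
import Cfsg.Agent.Helper6.IndFun
import Cfsg.Agent.Helper6.BlockPart

/-!
# A faithful fully ramified character from the commutator condition
-/

set_option autoImplicit false
set_option linter.style.haveILetI false

namespace Cfsg.Agent.Helper6.GagEmb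

open Cfsg.Agent.Helper6
open scoped ComplexConjugate
open Module

universe u

/-- A finite cyclic group has a faithful linear character. -/
theorem exists_injective_hom_of_isCyclic (Z : Type*) [Group Z] [Finite Z] [IsCyclic Z] :
    ∃ lam : Z →* ℂˣ, Function.Injective lam := by
  obtain ⟨g, hg⟩ := IsCyclic.exists_generator (α := Z)
  have hn0 : Nat.card Z ≠ 0 := Nat.card_pos.ne'
  have hord : orderOf g = Nat.card Z := orderOf_eq_card_of_forall_mem_zpowers hg
  have hζ := Complex.isPrimitiveRoot_exp (Nat.card Z) hn0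
  set ζu : ℂˣ := (hζ.isUnit hn0).unit with hζu
  have hζu' : IsPrimitiveRoot ζu (Nat.card Z) := by
    rw [← IsPrimitiveRoot.coe_units_iff]
    exact hζ
  have hordζ : orderOf ζu = Nat.card Z := hζu'.eq_orderOf.symm
  have hdvd : orderOf ζu ∣ orderOf g := by rw [hord, hordζ]
  refine ⟨monoidHomOfForallMemZpowers hg hdvd, ?_⟩
  rw [injective_iff_map_eq_one]
  intro x hx
  obtain ⟨k, rfl⟩ := Subgroup.mem_zpowers_iff.mp (hg x)
  rw [map_zpow, monoidHomOfForallMemZpowers_apply_gen] at hx
  rw [← orderOf_dvd_iff_zpow_eq_one, hordζ, ← hord] at hx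
  exact orderOf_dvd_iff_zpow_eq_one.mp hx

variable {H : Type u} [Group H]

theorem center_mul_char [Finite H] {χ : H → ℂ} (hχ : Cfsg.IsIrrCharacter H χ) (z : H)
    (hz : z ∈ Subgroup.center H) (g : H) : χ (z * g) = χ z / χ 1 * χ g := by
  have hχ1 : χ 1 ≠ 0 := IsIrrCharacter.apply_one_ne_zero hχ
  obtain ⟨n, ρ, hirr, rfl⟩ := hχ
  haveI := hirr
  obtain ⟨ω, hω⟩ := exists_scalar_of_mem_center ρ z hz
  have h3 : ∀ g : H, ρ.character (z * g) = ω * ρ.character g := by
    intro g
    unfold Representation.character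
    rw [map_mul, hω]
    change LinearMap.trace ℂ _ ((ω • (1 : Module.End ℂ (Fin n → ℂ))) * ρ g) = _
    rw [smul_mul_assoc, one_mul, map_smul, smul_eq_mul]
  have h4 := h3 1
  rw [mul_one] at h4
  rw [h3 g, h4]
  field_simp

/-- The criterion. -/
theorem exists_faithful_fully_ramified [Finite H] (hcyc : IsCyclic (Subgroup.center H))
    (hcc : CommCond H (Subgroup.center H)) :
    ∃ χ : Cfsg.IrrCharacter H, (∀ h : H, (χ : H → ℂ) h = (χ : H → ℂ) 1 → h = 1) ∧
      Cfsg.charDegree (χ : H → ℂ) ^ 2 = (Subgroup.center H).index := by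
  classical
  haveI := Fintype.ofFinite H
  haveI : Fintype (Subgroup.center H) := Fintype.ofFinite _
  haveI := hcyc
  obtain ⟨lam, hlam⟩ := exists_injective_hom_of_isCyclic (Subgroup.center H)
  have hlamirr := isIrrCharacter_of_hom lam
  -- an irreducible constituent of the induced character
  have hψ : Cfsg.IsCharacter H (Cfsg.indFun (Subgroup.center H)
      (fun z => ((lam z : ℂˣ) : ℂ))) :=
    isCharacter_indFun _ _ (IsIrrCharacter.isCharacter hlamirr)
  have hψ0 : Cfsg.indFun (Subgroup.center H) (fun z => ((lam z : ℂˣ) : ℂ)) ≠ 0 := by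
    intro h0
    have h1 := congrFun h0 1
    rw [indFun_apply_one, map_one, Units.val_one, mul_one, Pi.zero_apply] at h1
    have : (Subgroup.center H).index ≠ 0 := Subgroup.index_ne_zero_of_finite
    exact this (by exact_mod_cast h1)
  obtain ⟨χ, hχ, hne⟩ := exists_irr_constituent hψ hψ0
  rw [frobenius_reciprocity _ _ _ (IsCharacter.isClassFunction (IsIrrCharacter.isCharacter hχ))]
    at hne
  have hχ1 : χ 1 ≠ 0 := IsIrrCharacter.apply_one_ne_zero hχ
  set c : Subgroup.center H → ℂ := fun z => χ z / χ 1 with hc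
  have hmul : ∀ (z : Subgroup.center H) (g : H), χ (z * g) = c z * χ g := fun z g =>
    center_mul_char hχ z z.2 g
  have hcm : ∀ z z' : Subgroup.center H, c (z * z') = c z * c z' := by
    intro z z'
    show χ ((z * z' : Subgroup.center H) : H) / χ 1 = c z * (χ z' / χ 1)
    rw [Subgroup.coe_mul, hmul z z', mul_div_assoc]
  have hnorm : ∀ z : Subgroup.center H, conj ((lam z : ℂˣ) : ℂ) * ((lam z : ℂˣ) : ℂ) = 1 := by
    intro z
    have h1 : ‖((lam z : ℂˣ) : ℂ)‖ = 1 := by
      apply Complex.norm_eq_one_of_pow_eq_one (n := orderOf z)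
      · rw [← Units.val_pow_eq_pow_val, ← map_pow, pow_orderOf_eq_one, map_one, Units.val_one]
      · exact (orderOf_pos z).ne'
    rw [mul_comm, Complex.mul_conj, Complex.normSq_eq_norm_sq, h1]
    simp
  -- the sum
  set F : Subgroup.center H → ℂ := fun z => ((lam z : ℂˣ) : ℂ) * conj (c z) with hF
  have hFm : ∀ z z' : Subgroup.center H, F (z * z') = F z * F z' := by
    intro z z'
    show ((lam (z * z') : ℂˣ) : ℂ) * conj (c (z * z')) = _
    rw [map_mul, Units.val_mul, hcm, map_mul]
    ring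
  have hS : ∑ z : Subgroup.center H, F z ≠ 0 := by
    intro h0
    apply hne
    rw [classInner_def]
    have h1 : ∀ z : Subgroup.center H, ((lam z : ℂˣ) : ℂ) * conj (χ z) = F z * conj (χ 1) := by
      intro z
      have h2 : χ z = c z * χ 1 := by
        have := hmul z 1
        rwa [mul_one] at this
      rw [h2, map_mul]
      ring
    rw [Finset.sum_congr rfl (fun z _ => h1 z), ← Finset.sum_mul, h0, zero_mul, mul_zero]
  have hF1 : ∀ z₀ : Subgroup.center H, F z₀ = 1 := by
    intro z₀
    have h1 : ∑ z : Subgroup.center H, F z = F z₀ * ∑ z : Subgroup.center H, F z := by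
      rw [Finset.mul_sum, ← Equiv.sum_comp (Equiv.mulLeft z₀) F]
      apply Finset.sum_congr rfl
      intro z _
      exact hFm z₀ z
    have h2 : (F z₀ - 1) * ∑ z : Subgroup.center H, F z = 0 := by
      rw [sub_mul, ← h1, one_mul, sub_self]
    rcases mul_eq_zero.mp h2 with h3 | h3
    · exact sub_eq_zero.mp h3
    · exact absurd h3 hS
  have hclam : ∀ z : Subgroup.center H, c z = ((lam z : ℂˣ) : ℂ) := by
    intro z
    have h1 := hF1 z
    have h2 : conj (c z) = conj ((lam z : ℂˣ) : ℂ) := by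
      calc conj (c z) = (conj ((lam z : ℂˣ) : ℂ) * ((lam z : ℂˣ) : ℂ)) * conj (c z) := by
            rw [hnorm, one_mul]
        _ = conj ((lam z : ℂˣ) : ℂ) * F z := by rw [hF]; ring
        _ = conj ((lam z : ℂˣ) : ℂ) := by rw [h1, mul_one]
    exact (starRingEnd ℂ).injective h2
  -- vanishing off the centre
  have hcf := IsCharacter.isClassFunction (IsIrrCharacter.isCharacter hχ)
  have hvanish : ∀ x : H, x ∉ Subgroup.center H → χ x = 0 := by
    intro x hx
    obtain ⟨y, c₀, hc₀, hc1, hyx⟩ := hcc x hx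
    have h1 : χ (y * x * y⁻¹) = χ x := hcf x y
    rw [hyx] at h1
    have h2 := hmul ⟨c₀, hc₀⟩ x
    rw [hclam] at h2
    change χ (c₀ * x) = _ at h2
    rw [h2] at h1
    have h3 : ((lam ⟨c₀, hc₀⟩ : ℂˣ) : ℂ) ≠ 1 := by
      intro h
      have h4 : lam ⟨c₀, hc₀⟩ = 1 := Units.ext h
      have h5 := hlam (h4.trans (map_one lam).symm)
      exact hc1 (congrArg Subtype.val h5)
    have h4 : (((lam ⟨c₀, hc₀⟩ : ℂˣ) : ℂ) - 1) * χ x = 0 := by
      rw [sub_mul, h1, one_mul, sub_self]
    rcases mul_eq_zero.mp h4 with h5 | h5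
    · exact absurd (sub_eq_zero.mp h5) h3
    · exact h5
  have hvalZ : ∀ z : Subgroup.center H, χ z = ((lam z : ℂˣ) : ℂ) * χ 1 := by
    intro z
    have := hmul z 1
    rw [mul_one, hclam] at this
    exact this
  refine ⟨⟨χ, hχ⟩, ?_, ?_⟩
  · intro h hh
    change χ h = χ 1 at hh
    by_cases hhZ : h ∈ Subgroup.center H
    · have h1 := hvalZ ⟨h, hhZ⟩
      change χ h = _ at h1
      rw [hh] at h1
      have h2 : ((lam ⟨h, hhZ⟩ : ℂˣ) : ℂ) = 1 := by
        have h3 : (((lam ⟨h, hhZ⟩ : ℂˣ) : ℂ) - 1) * χ 1 = 0 := by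
          rw [sub_mul, ← h1, one_mul, sub_self]
        rcases mul_eq_zero.mp h3 with h5 | h5
        · exact sub_eq_zero.mp h5
        · exact absurd h5 hχ1
      have h4 : lam ⟨h, hhZ⟩ = 1 := Units.ext h2
      have h5 := hlam (h4.trans (map_one lam).symm)
      exact congrArg Subtype.val h5
    · rw [hvanish h hhZ] at hh
      exact absurd hh.symm hχ1
  · change Cfsg.charDegree χ ^ 2 = _
    have hdeg := charDegree_cast_of_isCharacter (IsIrrCharacter.isCharacter hχ)
    have h1 := sum_norm_sq_irr hχ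
    have h2 : ∑ g : H, ‖χ g‖ ^ 2 =
        ∑ g ∈ Finset.univ.filter (fun g : H => g ∈ Subgroup.center H),
          ((Cfsg.charDegree χ : ℝ)) ^ 2 := by
      rw [Finset.sum_filter]
      apply Finset.sum_congr rfl
      intro g _
      split_ifs with hg
      · have h3 := hvalZ ⟨g, hg⟩
        change χ g = _ at h3
        rw [h3, norm_mul, ← hdeg]
        have h4 : ‖((lam ⟨g, hg⟩ : ℂˣ) : ℂ)‖ = 1 := by
          apply Complex.norm_eq_one_of_pow_eq_one (n := orderOf (⟨g, hg⟩ : Subgroup.center H))
          · rw [← Units.val_pow_eq_pow_val, ← map_pow, pow_orderOf_eq_one, map_one,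
              Units.val_one]
          · exact (orderOf_pos _).ne'
        rw [h4, one_mul]
        simp
      · rw [hvanish g hg]
        simp
    rw [h2, Finset.sum_const, nsmul_eq_mul] at h1
    have h3 : (Finset.univ.filter (fun g : H => g ∈ Subgroup.center H)).card =
        Nat.card (Subgroup.center H) := by
      rw [Nat.card_eq_fintype_card, Fintype.card_subtype]
    rw [h3] at h1
    have h4 : Nat.card (Subgroup.center H) * Cfsg.charDegree χ ^ 2 = Nat.card H := by
      exact_mod_cast h1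
    have h5 := Subgroup.card_mul_index (Subgroup.center H)
    rw [← h4] at h5
    have hpos : 0 < Nat.card (Subgroup.center H) := Nat.card_pos
    exact (Nat.eq_of_mul_eq_mul_left hpos h5).symm

end Cfsg.Agent.Helper6.GagEmb
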