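import Mathlib
import Cfsg.Prelude.Def_Characters
import Cfsg.Agent.Helper6.CharBasic
import Cfsg.Agent.Helper6.Induced
import Cfsg.Agent.Helper6.IrrCrit
import Cfsg.Agent.Helper6.IrrDegree
import Cfsg.Agent.Helper6.Regular
import Cfsg.Agent.Helper6.IrrBasis

/-!
# Irreducible characters of a finite power `Q → M` of a finite group
-/

set_option autoImplicit false
set_option linter.style.haveILetI false

namespace Cfsg.Agent.Helper6

open scoped ComplexConjugate

universe u v

variable {M : Type u} [Group M] {Q : Type v} [Fintype Q]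

/-- The "outer tensor product" of a family of class functions. -/
noncomputable def piChar (φ : Q → (M → ℂ)) : (Q → M) → ℂ := fun f => ∏ q, φ q (f q)

theorem piChar_apply (φ : Q → (M → ℂ)) (f : Q → M) : piChar φ f = ∏ q, φ q (f q) := rfl

theorem isCharacter_piChar (φ : Q → (M → ℂ)) (h : ∀ q, Cfsg.IsCharacter M (φ q)) :
    Cfsg.IsCharacter (Q → M) (piChar φ) := by
  classical
  have key : ∀ s : Finset Q, Cfsg.IsCharacter (Q → M) (fun f => ∏ q ∈ s, φ q (f q)) := by
    intro s
    induction s using Finset.induction_on with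
    | empty =>
      simp only [Finset.prod_empty]
      exact isCharacter_one
    | insert a s ha ih =>
      have h1 : Cfsg.IsCharacter (Q → M) (fun f => φ a (f a)) :=
        IsCharacter.comp_hom (Pi.evalMonoidHom (fun _ : Q => M) a) (h a)
      have h2 := IsCharacter.mul h1 ih
      convert h2 using 1
      funext f
      rw [Finset.prod_insert ha]
      rfl
  exact key Finset.univ

theorem classInner_piChar [DecidableEq Q] [Fintype M] (φ φ' : Q → (M → ℂ)) :
    Cfsg.classInner (piChar φ) (piChar φ') = ∏ q, Cfsg.classInner (φ q) (φ' q) := by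
  simp only [classInner_def]
  rw [Finset.prod_mul_distrib, Finset.prod_const, Finset.card_univ, Fintype.prod_sum]
  congr 1
  · rw [Nat.card_eq_fintype_card, Nat.card_eq_fintype_card, Fintype.card_pi, Finset.prod_const,
      Finset.card_univ, Nat.cast_pow, inv_pow]
  · apply Finset.sum_congr rfl
    intro f _
    rw [piChar_apply, piChar_apply, map_prod, Finset.prod_mul_distrib]

theorem isIrrCharacter_piChar [Finite M] (φ : Q → (M → ℂ))
    (h : ∀ q, Cfsg.IsIrrCharacter M (φ q)) : Cfsg.IsIrrCharacter (Q → M) (piChar φ) := by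
  classical
  haveI := Fintype.ofFinite M
  apply isIrrCharacter_of_classInner_self
  · exact isCharacter_piChar φ (fun q => IsIrrCharacter.isCharacter (h q))
  · rw [classInner_piChar]
    apply Finset.prod_eq_one
    intro q _
    exact classInner_irr_self (h q)

/-- Every irreducible character of `Q → M` is an outer tensor product of irreducible
characters of `M`. -/
theorem exists_piChar_of_irr [Finite M] {θ : (Q → M) → ℂ}
    (hθ : Cfsg.IsIrrCharacter (Q → M) θ) :
    ∃ φ : Q → (M → ℂ), (∀ q, Cfsg.IsIrrCharacter M (φ q)) ∧ θ = piChar φ := by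
  classical
  haveI := Fintype.ofFinite M
  haveI : Finite (Cfsg.IrrCharacter M) := irr_finite
  haveI := Fintype.ofFinite (Cfsg.IrrCharacter M)
  -- the regular character of the power
  obtain ⟨R, hR⟩ : ∃ R : (Q → M) → ℂ,
      R = fun f => if f = 1 then (Nat.card (Q → M) : ℂ) else 0 := ⟨_, rfl⟩
  have hR2 : R = ∑ φ : Q → Cfsg.IrrCharacter M,
      (piChar (fun q => ((φ q : Cfsg.IrrCharacter M) : M → ℂ)) 1) •
        piChar (fun q => ((φ q : Cfsg.IrrCharacter M) : M → ℂ)) := by
    funext f
    rw [Finset.sum_apply]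
    simp only [Pi.smul_apply, smul_eq_mul, piChar_apply, Pi.one_apply]
    have h1 : ∀ φ : Q → Cfsg.IrrCharacter M,
        (∏ q, ((φ q : Cfsg.IrrCharacter M) : M → ℂ) 1) *
          ∏ q, ((φ q : Cfsg.IrrCharacter M) : M → ℂ) (f q) =
        ∏ q, (((φ q : Cfsg.IrrCharacter M) : M → ℂ) 1 *
          ((φ q : Cfsg.IrrCharacter M) : M → ℂ) (f q)) := by
      intro φ
      rw [Finset.prod_mul_distrib]
    rw [Finset.sum_congr rfl (fun φ _ => h1 φ)]
    rw [← Fintype.prod_sum (fun (q : Q) (χ : Cfsg.IrrCharacter M) =>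
      (χ : M → ℂ) 1 * (χ : M → ℂ) (f q))]
    rw [Finset.prod_congr rfl (fun q _ => sum_degree_mul_irr (f q))]
    rw [hR]
    beta_reduce
    by_cases hf : f = 1
    · rw [if_pos hf]
      subst hf
      simp only [Pi.one_apply, if_true, Finset.prod_const, Finset.card_univ]
      rw [Nat.card_eq_fintype_card, Nat.card_eq_fintype_card, Fintype.card_pi, Finset.prod_const,
        Finset.card_univ, Nat.cast_pow]
    · rw [if_neg hf]
      have : ∃ q, f q ≠ 1 := by
        by_contra hcon
        push Not at hcon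
        exact hf (funext hcon)
      obtain ⟨q, hq⟩ := this
      symm
      apply Finset.prod_eq_zero (Finset.mem_univ q)
      rw [if_neg hq]
  -- ⟨θ, R⟩ = θ 1 ≠ 0
  have h1 : Cfsg.classInner θ R = θ 1 := by
    rw [classInner_def, hR]
    beta_reduce
    rw [Finset.sum_eq_single (1 : Q → M)]
    · rw [if_pos rfl, Complex.conj_natCast, mul_comm (θ 1), ← mul_assoc, inv_mul_cancel₀, one_mul]
      have : 0 < Nat.card (Q → M) := Nat.card_pos
      exact_mod_cast this.ne'
    · intro f _ hf
      rw [if_neg hf, map_zero, mul_zero]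
    · intro h; exact absurd (Finset.mem_univ _) h
  have h2 : Cfsg.classInner θ R ≠ 0 := by
    rw [h1]; exact IsIrrCharacter.apply_one_ne_zero hθ
  rw [hR2, classInner_sum_right] at h2
  obtain ⟨φ, -, hφ⟩ := Finset.exists_ne_zero_of_sum_ne_zero h2
  rw [classInner_smul_right] at hφ
  have hφ' : Cfsg.classInner θ (piChar (fun q => ((φ q : Cfsg.IrrCharacter M) : M → ℂ))) ≠ 0 :=
    right_ne_zero_of_mul hφ
  have hirr := isIrrCharacter_piChar (fun q => ((φ q : Cfsg.IrrCharacter M) : M → ℂ))
    (fun q => (φ q).2)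
  refine ⟨fun q => ((φ q : Cfsg.IrrCharacter M) : M → ℂ), fun q => (φ q).2, ?_⟩
  by_contra hne
  exact hφ' (classInner_irr_ne hθ hirr hne)

end Cfsg.Agent.Helper6
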