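import Mathlib
import Cfsg.Prelude.Def_Characters
import Cfsg.Agent.Helper6.IndFun
import Cfsg.Agent.Helper6.WrMA

/-!
# A finite power of an M-group is an M-group
-/

set_option autoImplicit false
set_option linter.style.haveILetI false

namespace Cfsg.Agent.Helper6

open scoped ComplexConjugate

universe u v

variable {M : Type u} [Group M] {Q : Type v} [Fintype Q]

/-- The product subgroup `∏ H q` of `Q → M`. -/
def piSub (H : Q → Subgroup M) : Subgroup (Q → M) := Subgroup.pi Set.univ H

theorem mem_piSub (H : Q → Subgroup M) (f : Q → M) : f ∈ piSub H ↔ ∀ q, f q ∈ H q := by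
  unfold piSub
  rw [Subgroup.mem_pi]
  exact ⟨fun h q => h q (Set.mem_univ q), fun h q _ => h q⟩

/-- The projection of the product subgroup to a factor. -/
def piSubProj (H : Q → Subgroup M) (q : Q) : piSub H →* H q where
  toFun h := ⟨h.1 q, (mem_piSub H h.1).mp h.2 q⟩
  map_one' := rfl
  map_mul' _ _ := rfl

theorem piSubProj_coe (H : Q → Subgroup M) (q : Q) (h : piSub H) :
    ((piSubProj H q h : H q) : M) = h.1 q := rfl

/-- The product subgroup is in bijection with the product of the factors. -/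
def piSubEquiv (H : Q → Subgroup M) : piSub H ≃ (∀ q, H q) where
  toFun h q := piSubProj H q h
  invFun x := ⟨fun q => (x q : M), (mem_piSub H _).mpr (fun q => (x q).2)⟩
  left_inv h := by apply Subtype.ext; rfl
  right_inv x := by funext q; apply Subtype.ext; rfl

theorem card_piSub (H : Q → Subgroup M) : Nat.card (piSub H) = ∏ q, Nat.card (H q) := by
  rw [Nat.card_congr (piSubEquiv H), Nat.card_pi]

theorem extendByZero_piSub (H : Q → Subgroup M) (θ : ∀ q, H q → ℂ) (y : Q → M) :
    Cfsg.extendByZero (piSub H) (fun h => ∏ q, θ q (piSubProj H q h)) y =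
      ∏ q, Cfsg.extendByZero (H q) (θ q) (y q) := by
  by_cases hy : y ∈ piSub H
  · rw [extendByZero_mem _ _ hy]
    apply Finset.prod_congr rfl
    intro q _
    rw [extendByZero_mem _ _ ((mem_piSub H y).mp hy q)]
    rfl
  · rw [extendByZero_not_mem _ _ hy]
    rw [mem_piSub] at hy
    push Not at hy
    obtain ⟨q, hq⟩ := hy
    symm
    apply Finset.prod_eq_zero (Finset.mem_univ q)
    exact extendByZero_not_mem _ _ hq

/-- Induction commutes with outer tensor products. -/
theorem indFun_piSub [DecidableEq Q] [Fintype M] (H : Q → Subgroup M) (θ : ∀ q, H q → ℂ) :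
    Cfsg.indFun (piSub H) (fun h => ∏ q, θ q (piSubProj H q h)) =
      piChar (fun q => Cfsg.indFun (H q) (θ q)) := by
  funext f
  rw [piChar_apply, indFun_apply]
  simp only [indFun_apply]
  rw [Finset.prod_mul_distrib, Fintype.prod_sum, card_piSub, Nat.cast_prod, Finset.prod_inv_distrib]
  congr 1
  apply Finset.sum_congr rfl
  intro x _
  rw [extendByZero_piSub]
  rfl

/-- A finite power of an M-group is an M-group. -/
theorem pi_monomial [DecidableEq Q] [Fintype M]
    (hM : ∀ χ : M → ℂ, Cfsg.IsIrrCharacter M χ →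
      ∃ (H : Subgroup M) (lam : H →* ℂˣ), χ = Cfsg.indFun H (fun h => ((lam h : ℂˣ) : ℂ)))
    (θ : (Q → M) → ℂ) (hθ : Cfsg.IsIrrCharacter (Q → M) θ) :
    ∃ (H : Subgroup (Q → M)) (lam : H →* ℂˣ),
      θ = Cfsg.indFun H (fun h => ((lam h : ℂˣ) : ℂ)) := by
  obtain ⟨φ, hφ, rfl⟩ := exists_piChar_of_irr hθ
  choose H lam hlam using fun q => hM (φ q) (hφ q)
  refine ⟨piSub H, ∏ q, (lam q).comp (piSubProj H q), ?_⟩
  have h1 := indFun_piSub H (fun q h => ((lam q h : ℂˣ) : ℂ))
  have h2 : (fun q => Cfsg.indFun (H q) (fun h => ((lam q h : ℂˣ) : ℂ))) = φ := by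
    funext q
    exact (hlam q).symm
  rw [h2] at h1
  rw [← h1]
  congr 1
  funext h
  rw [MonoidHom.finsetProd_apply, Units.coe_prod]
  rfl

end Cfsg.Agent.Helper6
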