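import Mathlib
import Cfsg.Prelude.Def_Characters
import Cfsg.Agent.Helper6.IndFun
import Cfsg.Agent.Helper6.Induced
import Cfsg.Agent.Helper6.NormalInd
import Cfsg.Agent.Helper6.CliffordOrbit
import Cfsg.Agent.Helper6.Gallagher
import Cfsg.Agent.Helper6.GallagherProd
import Cfsg.Agent.Helper6.MGroup
import Cfsg.Agent.Helper6.Linear
import Cfsg.Agent.Helper6.Artin
import Cfsg.Agent.Helper6.Glue2
import Cfsg.Agent.Helper6.Degrees
import Cfsg.Agent.Helper6.IrrCrit

/-!
# A criterion for M-groups: a normal M-subgroup of prime index whose invariant irreducible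
characters have monomial extensions.
-/

set_option autoImplicit false
set_option linter.style.haveILetI false

namespace Cfsg.Agent.Helper6

open scoped ComplexConjugate

universe u

variable {W : Type u} [Group W]

/-- A non-invariant irreducible character of a normal subgroup of prime index induces
irreducibly; combined with transitivity of induction this gives monomiality. -/
theorem monomial_of_stab_eq [Fintype W] (B : Subgroup W) [hB : B.Normal] [Fintype B]
    (θ : B → ℂ) (hθ : Cfsg.IsIrrCharacter B θ) (hT : conjStab B θ = B)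
    (hmono : ∃ (H : Subgroup B) (lam : H →* ℂˣ), θ = Cfsg.indFun H (fun h => ((lam h : ℂˣ) : ℂ)))
    (χ : W → ℂ) (hχ : Cfsg.IsIrrCharacter W χ)
    (hne : Cfsg.classInner (fun b : B => χ b) θ ≠ 0) :
    ∃ (K : Subgroup W) (μ : K →* ℂˣ), χ = Cfsg.indFun K (fun k => ((μ k : ℂˣ) : ℂ)) := by
  classical
  have hθc := IsIrrCharacter.isCharacter hθ
  have hind : Cfsg.IsCharacter W (Cfsg.indFun B θ) := isCharacter_indFun B θ hθc
  have h1 : Cfsg.classInner (Cfsg.indFun B θ) (Cfsg.indFun B θ) = 1 := by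
    have h := card_mul_classInner_indFun_normal B θ hθ
    have hc : Nat.card {g : W // conjFun B θ g = θ} = Nat.card B := by
      have : Nat.card {g : W // conjFun B θ g = θ} = Nat.card (conjStab B θ) := rfl
      rw [this, hT]
    rw [hc] at h
    have hB0 : (Nat.card B : ℂ) ≠ 0 := by
      have : 0 < Nat.card B := Nat.card_pos
      exact_mod_cast this.ne'
    apply mul_left_cancel₀ hB0
    rw [h, mul_one]
  have hirr : Cfsg.IsIrrCharacter W (Cfsg.indFun B θ) := isIrrCharacter_of_classInner_self hind h1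
  have hfr : Cfsg.classInner (Cfsg.indFun B θ) χ ≠ 0 := by
    rw [frobenius_reciprocity B θ χ (IsCharacter.isClassFunction (IsIrrCharacter.isCharacter hχ))]
    rw [classInner_conj_symm (fun b : B => χ b) θ]
    intro h0
    apply hne
    have := congrArg conj h0
    rwa [Complex.conj_conj, map_zero] at this
  have heq : Cfsg.indFun B θ = χ := by
    by_contra hcon
    exact hfr (classInner_irr_ne hirr hχ hcon)
  obtain ⟨H, lam, hlam⟩ := hmono
  refine ⟨H.map B.subtype,
    lam.comp (Subgroup.equivMapOfInjective H B.subtype B.subtype_injective).symm.toMonoidHom, ?_⟩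
  rw [← heq, hlam, indFun_indFun_subtype]
  rfl

/-- An invariant irreducible character with a monomial extension: every irreducible
character above it is monomial, provided the quotient is abelian. -/
theorem monomial_of_ext [Fintype W] (B : Subgroup W) [hB : B.Normal] [Fintype B]
    (hab : ∀ a b : W, a * b * a⁻¹ * b⁻¹ ∈ B)
    (θ : B → ℂ) (hθ : Cfsg.IsIrrCharacter B θ) (hinv : ∀ w : W, conjFun B θ w = θ)
    (K : Subgroup W) (μ : K →* ℂˣ)
    (hext : ∀ b : B, Cfsg.indFun K (fun k => ((μ k : ℂˣ) : ℂ)) b = θ b)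
    (χ : W → ℂ) (hχ : Cfsg.IsIrrCharacter W χ)
    (hne : Cfsg.classInner (fun b : B => χ b) θ ≠ 0) :
    ∃ (K' : Subgroup W) (μ' : K' →* ℂˣ), χ = Cfsg.indFun K' (fun k => ((μ' k : ℂˣ) : ℂ)) := by
  classical
  obtain ⟨χ₀, hχ₀def⟩ : ∃ χ₀ : W → ℂ, χ₀ = Cfsg.indFun K (fun k => ((μ k : ℂˣ) : ℂ)) := ⟨_, rfl⟩
  have hχ₀c : Cfsg.IsCharacter W χ₀ := by
    rw [hχ₀def]
    exact isCharacter_indFun K _ (IsIrrCharacter.isCharacter (isIrrCharacter_of_hom μ))
  have hres : (fun b : B => χ₀ b) = θ := by
    funext b; rw [hχ₀def]; exact hext b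
  have hχ₀ : Cfsg.IsIrrCharacter W χ₀ := by
    apply isIrr_of_restrict_isIrr B hχ₀c
    rw [hres]; exact hθ
  -- the trivial character of `B`
  have htriv : Cfsg.IsIrrCharacter B (fun _ : B => (1 : ℂ)) := by
    have := isIrrCharacter_of_hom (1 : B →* ℂˣ)
    simpa using this
  have hθinv : ∀ (g : W) (n : B), θ ⟨g * n * g⁻¹, hB.conj_mem (n : W) n.2 g⟩ = θ n := by
    intro g n
    have := congrFun (hinv g) n
    exact this
  have hmul : (fun _ : B => (1 : ℂ)) * θ = θ := by
    funext b; simp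
  have hbij := mul_ext_bijOn B (fun _ : B => (1 : ℂ)) θ htriv (fun _ _ => rfl) hθinv
    (by rw [hmul]; exact hθ) χ₀ hχ₀ (fun n => congrFun hres n)
  have hχmem : χ ∈ {ψ : W → ℂ | Cfsg.IsIrrCharacter W ψ ∧
      Cfsg.classInner (Cfsg.indFun B ((fun _ : B => (1 : ℂ)) * θ)) ψ ≠ 0} := by
    refine ⟨hχ, ?_⟩
    rw [hmul, frobenius_reciprocity B θ χ
      (IsCharacter.isClassFunction (IsIrrCharacter.isCharacter hχ))]
    rw [classInner_conj_symm (fun b : B => χ b) θ]
    intro h0
    apply hne
    have := congrArg conj h0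
    rwa [Complex.conj_conj, map_zero] at this
  obtain ⟨β, ⟨hβ, hβne⟩, hβχ⟩ := hbij.surjOn hχmem
  -- `β` is trivial on `B`
  have hβB : ∀ n ∈ B, β n = β 1 := by
    by_contra hcon
    have hsum := sum_coset_irr B hβ 1
    rw [if_neg hcon] at hsum
    apply hβne
    rw [frobenius_reciprocity B _ β
      (IsCharacter.isClassFunction (IsIrrCharacter.isCharacter hβ)), classInner_def]
    have : ∑ g : B, (fun _ : B => (1 : ℂ)) g * conj ((fun b : B => β b) g) =
        conj (∑ n : B, β (1 * n)) := by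
      rw [map_sum]
      apply Finset.sum_congr rfl
      intro n _
      simp
    rw [this, hsum, map_zero, mul_zero]
  have hβ1 : β 1 = 1 := by
    apply irr_degree_one_of_commutators hβ
    intro a b
    exact hβB _ (hab a b)
  obtain ⟨ν, hν⟩ := exists_hom_of_irr_degree_one hβ hβ1
  refine ⟨K, (ν.comp K.subtype) * μ, ?_⟩
  have h3 : χ = β * χ₀ := hβχ.symm
  rw [h3, hχ₀def, mul_indFun K _ β (IsCharacter.isClassFunction (IsIrrCharacter.isCharacter hβ))]
  congr 1
  funext k
  rw [hν]
  simp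

/-- The M-group criterion. -/
theorem mgroup_of_prime_index [Fintype W] (B : Subgroup W) [hB : B.Normal] [Fintype B] (p : ℕ)
    (hp : p.Prime) (hidx : B.index = p)
    (hBM : ∀ θ : B → ℂ, Cfsg.IsIrrCharacter B θ →
      ∃ (H : Subgroup B) (lam : H →* ℂˣ), θ = Cfsg.indFun H (fun h => ((lam h : ℂˣ) : ℂ)))
    (hextn : ∀ θ : B → ℂ, Cfsg.IsIrrCharacter B θ → (∀ w : W, conjFun B θ w = θ) →
      ∃ (K : Subgroup W) (μ : K →* ℂˣ),
        ∀ b : B, Cfsg.indFun K (fun k => ((μ k : ℂˣ) : ℂ)) b = θ b)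
    (χ : W → ℂ) (hχ : Cfsg.IsIrrCharacter W χ) :
    ∃ (K : Subgroup W) (μ : K →* ℂˣ), χ = Cfsg.indFun K (fun k => ((μ k : ℂˣ) : ℂ)) := by
  classical
  have hχc := IsIrrCharacter.isCharacter hχ
  have hres : Cfsg.IsCharacter B (fun b : B => χ b) := IsCharacter.restrict B hχc
  have hres0 : (fun b : B => χ b) ≠ 0 := by
    intro h
    have := congrFun h 1
    exact IsIrrCharacter.apply_one_ne_zero hχ this
  obtain ⟨θ, hθ, hne⟩ := exists_irr_constituent hres hres0
  have hle : B ≤ conjStab B θ := le_conjStab_of_isClassFunction B θ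
    (IsCharacter.isClassFunction (IsIrrCharacter.isCharacter hθ))
  have hmul := Subgroup.relIndex_mul_index hle
  rw [hidx] at hmul
  have hdvd : (conjStab B θ).index ∣ p := ⟨_, by rw [← hmul, mul_comm]⟩
  rcases (Nat.dvd_prime hp).mp hdvd with h1 | h1
  · -- invariant case
    have htop : conjStab B θ = ⊤ := Subgroup.index_eq_one.mp h1
    have hinv : ∀ w : W, conjFun B θ w = θ := by
      intro w
      have : w ∈ conjStab B θ := by rw [htop]; exact Subgroup.mem_top w
      exact (mem_conjStab B θ w).mp this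
    obtain ⟨K, μ, hKμ⟩ := hextn θ hθ hinv
    have hab : ∀ a b : W, a * b * a⁻¹ * b⁻¹ ∈ B := by
      have hcard : Nat.card (W ⧸ B) = p := by rw [← hidx]; rfl
      haveI : Fact p.Prime := ⟨hp⟩
      haveI : IsCyclic (W ⧸ B) := isCyclic_of_prime_card hcard
      intro a b
      rw [← QuotientGroup.eq_one_iff]
      simp only [QuotientGroup.mk_mul, QuotientGroup.mk_inv]
      have hcomm : ∀ x y : W ⧸ B, x * y = y * x := isMulCommutative_iff.mp IsCyclic.isMulCommutative
      rw [hcomm (a : W ⧸ B) b]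
      group
    exact monomial_of_ext B hab θ hθ hinv K μ hKμ χ hχ hne
  · -- non-invariant case
    have hrel : B.relIndex (conjStab B θ) = 1 := by
      rw [h1] at hmul
      have hp0 : 0 < p := hp.pos
      exact Nat.eq_of_mul_eq_mul_right hp0 (by rw [hmul, one_mul])
    have hle2 : conjStab B θ ≤ B := Subgroup.relIndex_eq_one.mp hrel
    exact monomial_of_stab_eq B θ hθ (le_antisymm hle2 hle) (hBM θ hθ) χ hχ hne

end Cfsg.Agent.Helper6
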