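import Mathlib
import Cfsg.Prelude.Def_Characters
import Cfsg.Agent.Helper6.IndFun
import Cfsg.Agent.Helper6.BrauerPerm2
import Cfsg.Agent.Helper6.FusionCentralized

/-!
# Transport of induced functions and of the M-group property along group isomorphisms
-/

set_option autoImplicit false
set_option linter.style.haveILetI false

namespace Cfsg.Agent.Helper6

universe u v

variable {A : Type u} [Group A] {A' : Type v} [Group A']

/-- Induction commutes with transport along an isomorphism. -/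
theorem indFun_comp_mulEquiv [Fintype A] [Fintype A'] (e : A ≃* A') (H' : Subgroup A')
    (θ' : H' → ℂ) :
    (fun a => Cfsg.indFun H' θ' (e a)) =
      Cfsg.indFun (H'.comap e.toMonoidHom) (fun h => θ' ⟨e (h : A), h.2⟩) := by
  funext a
  rw [indFun_apply, indFun_apply, card_comap_mulEquiv]
  congr 1
  symm
  apply Fintype.sum_equiv e.toEquiv
  intro x
  have hx : e (x⁻¹ * a * x) = (e x)⁻¹ * e a * e x := by
    rw [map_mul, map_mul, map_inv]
  show Cfsg.extendByZero _ _ (x⁻¹ * a * x) = Cfsg.extendByZero H' θ' ((e x)⁻¹ * e a * e x)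
  rw [← hx]
  by_cases hm : x⁻¹ * a * x ∈ H'.comap e.toMonoidHom
  · have hm' : e (x⁻¹ * a * x) ∈ H' := hm
    rw [extendByZero_mem _ _ hm, extendByZero_mem _ _ hm']
  · have hm' : e (x⁻¹ * a * x) ∉ H' := hm
    rw [extendByZero_not_mem _ _ hm, extendByZero_not_mem _ _ hm']

/-- The M-group property is invariant under isomorphism. -/
theorem monomial_of_mulEquiv [Fintype A] [Fintype A'] (e : A ≃* A')
    (hM : ∀ χ : A' → ℂ, Cfsg.IsIrrCharacter A' χ →
      ∃ (H : Subgroup A') (lam : H →* ℂˣ), χ = Cfsg.indFun H (fun h => ((lam h : ℂˣ) : ℂ)))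
    (θ : A → ℂ) (hθ : Cfsg.IsIrrCharacter A θ) :
    ∃ (H : Subgroup A) (lam : H →* ℂˣ), θ = Cfsg.indFun H (fun h => ((lam h : ℂˣ) : ℂ)) := by
  have hθ' : Cfsg.IsIrrCharacter A' (θ ∘ e.symm) := IsIrrCharacter.comp_mulEquiv e.symm hθ
  obtain ⟨H', lam', hlam'⟩ := hM _ hθ'
  let r : (H'.comap e.toMonoidHom) →* H' :=
    { toFun := fun h => ⟨e (h : A), h.2⟩
      map_one' := by apply Subtype.ext; simp
      map_mul' := by
        intro a b
        apply Subtype.ext
        show e ((a * b : H'.comap e.toMonoidHom) : A) = e (a : A) * e (b : A)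
        rw [Subgroup.coe_mul, map_mul] }
  refine ⟨H'.comap e.toMonoidHom, lam'.comp r, ?_⟩
  have h1 := indFun_comp_mulEquiv e H' (fun h => ((lam' h : ℂˣ) : ℂ))
  rw [← hlam'] at h1
  have h2 : (fun a => (θ ∘ e.symm) (e a)) = θ := by
    funext a; simp
  rw [h2] at h1
  rw [h1]
  rfl

end Cfsg.Agent.Helper6
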