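import Mathlib
import Cfsg.Prelude.Def_Characters
import Cfsg.Agent.Helper6.IndFun
import Cfsg.Agent.Helper6.WrMA

/-!
# The regular wreath product: base subgroup, the subgroup `H ≀ Q`, and the restriction of a
monomial character of `H ≀ Q` induced to `M ≀ Q` to the base group.
-/

set_option autoImplicit false
set_option linter.style.haveILetI false

namespace Cfsg.Agent.Helper6

open RegularWreathProduct

universe u v

variable {M : Type u} [Group M] {Q : Type v} [Group Q]

/-- The base subgroup of the regular wreath product. -/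
def wrBaseSub (M : Type u) [Group M] (Q : Type v) [Group Q] : Subgroup (M ≀ᵣ Q) :=
  (rightHom : M ≀ᵣ Q →* Q).ker

theorem mem_wrBaseSub (w : M ≀ᵣ Q) : w ∈ wrBaseSub M Q ↔ w.right = 1 := MonoidHom.mem_ker

instance wrBaseSub_normal : (wrBaseSub M Q).Normal := MonoidHom.normal_ker _

/-- The base subgroup is the power `Q → M`. -/
def wrBaseEquiv (M : Type u) [Group M] (Q : Type v) [Group Q] : wrBaseSub M Q ≃* (Q → M) where
  toFun b := b.1.left
  invFun f := ⟨⟨f, 1⟩, (mem_wrBaseSub _).mpr rfl⟩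
  left_inv b := by
    apply Subtype.ext
    apply RegularWreathProduct.ext
    · rfl
    · exact ((mem_wrBaseSub _).mp b.2).symm
  right_inv f := rfl
  map_mul' a b := by
    show (a.1 * b.1).left = a.1.left * b.1.left
    rw [mul_left, (mem_wrBaseSub _).mp a.2]
    simp

theorem wrBaseEquiv_apply (b : wrBaseSub M Q) : wrBaseEquiv M Q b = b.1.left := rfl

theorem wrBaseEquiv_symm_coe (f : Q → M) :
    (((wrBaseEquiv M Q).symm f : wrBaseSub M Q) : M ≀ᵣ Q) = ⟨f, 1⟩ := rfl

theorem index_wrBaseSub : (wrBaseSub M Q).index = Nat.card Q := by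
  unfold wrBaseSub
  rw [Subgroup.index_ker]
  have : (rightHom : M ≀ᵣ Q →* Q).range = ⊤ :=
    MonoidHom.range_eq_top.mpr (fun q => ⟨inl q, rfl⟩)
  rw [this, Subgroup.card_top]

/-- Conjugating a base element by `inl s` shifts the coordinates. -/
theorem inl_conj_base (s : Q) (f : Q → M) :
    (inl s : M ≀ᵣ Q) * ⟨f, 1⟩ * (inl s)⁻¹ = ⟨fun x => f (s⁻¹ * x), 1⟩ := by
  apply RegularWreathProduct.ext
  · funext q
    simp
  · simp

/-- Conjugation of a base element by an arbitrary element. -/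
theorem conj_base_left (x b : M ≀ᵣ Q) (hb : b.right = 1) (q : Q) :
    (x⁻¹ * b * x).left q =
      (x.left (x.right * q))⁻¹ * b.left (x.right * q) * x.left (x.right * q) := by
  simp [hb]

theorem conj_base_right (x b : M ≀ᵣ Q) (hb : b.right = 1) : (x⁻¹ * b * x).right = 1 := by
  simp [hb]

/-- The subgroup `H ≀ Q` of `M ≀ Q`. -/
def wrSub (H : Subgroup M) (Q : Type v) [Group Q] : Subgroup (M ≀ᵣ Q) where
  carrier := {w | ∀ q, w.left q ∈ H}
  mul_mem' := by
    intro a b ha hb q
    rw [mul_left]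
    exact H.mul_mem (ha q) (hb _)
  one_mem' := fun _ => H.one_mem
  inv_mem' := by
    intro a ha q
    rw [inv_left]
    exact H.inv_mem (ha _)

theorem mem_wrSub (H : Subgroup M) (w : M ≀ᵣ Q) : w ∈ wrSub H Q ↔ ∀ q, w.left q ∈ H := Iff.rfl

/-- Extension of a linear character of `H` to a function on `M` (value `1` off `H`). -/
noncomputable def extU (H : Subgroup M) (lam : H →* ℂˣ) (m : M) : ℂˣ := by
  classical
  exact if h : m ∈ H then lam ⟨m, h⟩ else 1

theorem extU_mem (H : Subgroup M) (lam : H →* ℂˣ) {m : M} (h : m ∈ H) :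
    extU H lam m = lam ⟨m, h⟩ := by
  unfold extU
  rw [dif_pos h]

theorem extU_mul (H : Subgroup M) (lam : H →* ℂˣ) {a b : M} (ha : a ∈ H) (hb : b ∈ H) :
    extU H lam (a * b) = extU H lam a * extU H lam b := by
  rw [extU_mem H lam ha, extU_mem H lam hb, extU_mem H lam (H.mul_mem ha hb), ← map_mul]
  rfl

theorem extU_one (H : Subgroup M) (lam : H →* ℂˣ) : extU H lam 1 = 1 := by
  rw [extU_mem H lam H.one_mem]
  exact map_one lam

theorem coe_extU (H : Subgroup M) (lam : H →* ℂˣ) {m : M} (h : m ∈ H) :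
    ((extU H lam m : ℂˣ) : ℂ) = Cfsg.extendByZero H (fun h => ((lam h : ℂˣ) : ℂ)) m := by
  rw [extU_mem H lam h, extendByZero_mem H _ h]

variable [Fintype Q]

/-- The linear character `∏ λ` of `H ≀ Q`. -/
noncomputable def wrHom (H : Subgroup M) (lam : H →* ℂˣ) : wrSub H Q →* ℂˣ where
  toFun w := ∏ q, extU H lam (w.1.left q)
  map_one' := by
    apply Finset.prod_eq_one
    intro q _
    exact extU_one H lam
  map_mul' a b := by
    show ∏ q, extU H lam ((a.1 * b.1).left q) = _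
    have h1 : ∀ q, extU H lam ((a.1 * b.1).left q) =
        extU H lam (a.1.left q) * extU H lam (b.1.left (a.1.right⁻¹ * q)) := by
      intro q
      rw [mul_left]
      exact extU_mul H lam (a.2 q) (b.2 _)
    rw [Finset.prod_congr rfl (fun q _ => h1 q), Finset.prod_mul_distrib]
    congr 1
    exact Equiv.prod_comp (Equiv.mulLeft a.1.right⁻¹) (fun q => extU H lam (b.1.left q))

theorem wrHom_apply (H : Subgroup M) (lam : H →* ℂˣ) (w : wrSub H Q) :
    wrHom H lam w = ∏ q, extU H lam (w.1.left q) := rfl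

theorem extendByZero_wrSub (H : Subgroup M) (lam : H →* ℂˣ) (y : M ≀ᵣ Q) :
    Cfsg.extendByZero (wrSub H Q) (fun k => ((wrHom H lam k : ℂˣ) : ℂ)) y =
      ∏ q, Cfsg.extendByZero H (fun h => ((lam h : ℂˣ) : ℂ)) (y.left q) := by
  by_cases hy : y ∈ wrSub H Q
  · rw [extendByZero_mem _ _ hy, wrHom_apply, Units.coe_prod]
    apply Finset.prod_congr rfl
    intro q _
    exact coe_extU H lam (hy q)
  · rw [extendByZero_not_mem _ _ hy]
    rw [mem_wrSub] at hy
    push Not at hy
    obtain ⟨q, hq⟩ := hy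
    symm
    apply Finset.prod_eq_zero (Finset.mem_univ q)
    exact extendByZero_not_mem _ _ hq

/-- `H ≀ Q` is in bijection with `(Q → H) × Q`. -/
def wrSubEquiv (H : Subgroup M) : wrSub H Q ≃ (Q → H) × Q where
  toFun w := (fun q => ⟨w.1.left q, w.2 q⟩, w.1.right)
  invFun x := ⟨⟨fun q => (x.1 q : M), x.2⟩, fun q => (x.1 q).2⟩
  left_inv _ := rfl
  right_inv _ := rfl

theorem card_wrSub (H : Subgroup M) :
    Nat.card (wrSub H Q) = Nat.card H ^ Nat.card Q * Nat.card Q := by
  rw [Nat.card_congr (wrSubEquiv H), Nat.card_prod, Nat.card_fun]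

/-- The restriction to the base group of the induced monomial character. -/
theorem indFun_wrSub_base [DecidableEq Q] [Fintype M] [Fintype (M ≀ᵣ Q)] (H : Subgroup M)
    (lam : H →* ℂˣ) (b : M ≀ᵣ Q) (hb : b.right = 1) :
    Cfsg.indFun (wrSub H Q) (fun k => ((wrHom H lam k : ℂˣ) : ℂ)) b =
      ∏ q, Cfsg.indFun H (fun h => ((lam h : ℂˣ) : ℂ)) (b.left q) := by
  rw [indFun_apply]
  simp only [indFun_apply]
  rw [Finset.prod_mul_distrib, Finset.prod_const, Finset.card_univ, Fintype.prod_sum,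
    card_wrSub]
  -- the sum over the wreath product
  have hsum : ∑ x : M ≀ᵣ Q, Cfsg.extendByZero (wrSub H Q)
      (fun k => ((wrHom H lam k : ℂˣ) : ℂ)) (x⁻¹ * b * x) =
      (Fintype.card Q : ℂ) * ∑ ℓ : Q → M, ∏ q,
        Cfsg.extendByZero H (fun h => ((lam h : ℂˣ) : ℂ)) ((ℓ q)⁻¹ * b.left q * ℓ q) := by
    have h1 : ∀ x : M ≀ᵣ Q, Cfsg.extendByZero (wrSub H Q)
        (fun k => ((wrHom H lam k : ℂˣ) : ℂ)) (x⁻¹ * b * x) =
        ∏ q, Cfsg.extendByZero H (fun h => ((lam h : ℂˣ) : ℂ))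
          ((x.left q)⁻¹ * b.left q * x.left q) := by
      intro x
      rw [extendByZero_wrSub]
      simp only [conj_base_left x b hb]
      exact Equiv.prod_comp (Equiv.mulLeft x.right) (fun q =>
        Cfsg.extendByZero H (fun h => ((lam h : ℂˣ) : ℂ)) ((x.left q)⁻¹ * b.left q * x.left q))
    rw [Finset.sum_congr rfl (fun x _ => h1 x)]
    have h2 : ∑ x : M ≀ᵣ Q, ∏ q, Cfsg.extendByZero H (fun h => ((lam h : ℂˣ) : ℂ))
          ((x.left q)⁻¹ * b.left q * x.left q) =
        ∑ p : (Q → M) × Q, ∏ q, Cfsg.extendByZero H (fun h => ((lam h : ℂˣ) : ℂ))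
          ((p.1 q)⁻¹ * b.left q * p.1 q) :=
      Fintype.sum_equiv (equivProd M Q) _ _ (fun x => rfl)
    rw [h2, Fintype.sum_prod_type]
    simp only [Finset.sum_const, Finset.card_univ, nsmul_eq_mul]
    rw [Finset.mul_sum]
  rw [hsum]
  have hH0 : (Nat.card H : ℂ) ≠ 0 := by
    have : 0 < Nat.card H := Nat.card_pos
    exact_mod_cast this.ne'
  have hQ0 : (Fintype.card Q : ℂ) ≠ 0 := by
    have : 0 < Fintype.card Q := Fintype.card_pos
    exact_mod_cast this.ne'
  rw [Nat.card_eq_fintype_card (α := Q)]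
  generalize (∑ ℓ : Q → M, ∏ q, Cfsg.extendByZero H (fun h => ((lam h : ℂˣ) : ℂ))
    ((ℓ q)⁻¹ * b.left q * ℓ q)) = S
  push_cast
  rw [mul_inv, inv_pow]
  field_simp

end Cfsg.Agent.Helper6
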