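import Mathlib
import Cfsg.Prelude.Def_Characters
import Cfsg.Agent.Helper6.WrMB
import Cfsg.Agent.Helper6.WrMC
import Cfsg.Agent.Helper6.WrMD
import Cfsg.Agent.Helper6.WrME
import Cfsg.Agent.Helper6.MGroup
import Cfsg.Agent.Helper6.DetExt2

/-!
# Dade's embedding theorem: every finite solvable group embeds in an M-group
-/

set_option autoImplicit false
set_option linter.style.haveILetI false

namespace Cfsg.Agent.Helper6

open RegularWreathProduct
open scoped ComplexConjugate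

universe u v

section tuple

variable {M : Type u} [Group M] {Q : Type v}

/-- Proportional irreducible characters are equal. -/
theorem irr_eq_of_smul_eq [Fintype M] {α β : M → ℂ} (hα : Cfsg.IsIrrCharacter M α)
    (hβ : Cfsg.IsIrrCharacter M β) (c d : ℂ) (hd : d ≠ 0) (h : c • α = d • β) : α = β := by
  by_contra hne
  have h0 := classInner_irr_ne hα hβ hne
  have h1 : Cfsg.classInner (c • α) β = Cfsg.classInner (d • β) β := by rw [h]
  rw [classInner_smul_left, classInner_smul_left, h0, classInner_irr_self hβ, mul_zero,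
    mul_one] at h1
  exact hd h1.symm

theorem piChar_mulSingle [Fintype Q] [DecidableEq Q] (φ : Q → (M → ℂ)) (q₀ : Q) (m : M) :
    piChar φ (Pi.mulSingle q₀ m) = φ q₀ m * ∏ q ∈ Finset.univ.erase q₀, φ q 1 := by
  rw [piChar_apply, ← Finset.mul_prod_erase Finset.univ _ (Finset.mem_univ q₀)]
  rw [Pi.mulSingle_eq_same]
  congr 1
  apply Finset.prod_congr rfl
  intro q hq
  rw [Pi.mulSingle_eq_of_ne (Finset.ne_of_mem_erase hq)]

/-- A shift-invariant outer tensor product of irreducible characters is a tensor power. -/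
theorem const_of_shift_invariant [Group Q] [Fintype Q] [DecidableEq Q] [Fintype M]
    (φ : Q → (M → ℂ)) (hφ : ∀ q, Cfsg.IsIrrCharacter M (φ q))
    (hinv : ∀ (s : Q) (f : Q → M), piChar φ (fun x => f (s⁻¹ * x)) = piChar φ f) :
    ∀ q, φ q = φ 1 := by
  intro s
  have hD : ∀ q₀ : Q, (∏ q ∈ Finset.univ.erase q₀, φ q 1) ≠ 0 := by
    intro q₀
    apply Finset.prod_ne_zero_iff.mpr
    intro q _
    exact IsIrrCharacter.apply_one_ne_zero (hφ q)
  apply irr_eq_of_smul_eq (hφ s) (hφ 1) (∏ q ∈ Finset.univ.erase s, φ q 1)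
    (∏ q ∈ Finset.univ.erase (1 : Q), φ q 1) (hD 1)
  funext m
  have h1 := hinv s (Pi.mulSingle 1 m)
  have h2 : (fun x => (Pi.mulSingle (1 : Q) m : Q → M) (s⁻¹ * x)) = Pi.mulSingle s m := by
    funext x
    by_cases hx : x = s
    · subst hx
      rw [inv_mul_cancel, Pi.mulSingle_eq_same, Pi.mulSingle_eq_same]
    · have : s⁻¹ * x ≠ 1 := by
        intro h
        apply hx
        have := congrArg (fun y => s * y) h
        simpa using this
      rw [Pi.mulSingle_eq_of_ne this, Pi.mulSingle_eq_of_ne hx]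
  rw [h2, piChar_mulSingle, piChar_mulSingle] at h1
  simp only [Pi.smul_apply, smul_eq_mul]
  rw [mul_comm, h1, mul_comm]

end tuple

/-- The wreath product of an M-group with a group of prime order is an M-group. -/
theorem wreath_monomial {M : Type u} [Group M] {Q : Type u} [Group Q] [Fintype M] [Fintype Q]
    [DecidableEq Q] [Fintype (M ≀ᵣ Q)] (hp : (Nat.card Q).Prime)
    (hM : ∀ χ : M → ℂ, Cfsg.IsIrrCharacter M χ →
      ∃ (H : Subgroup M) (lam : H →* ℂˣ), χ = Cfsg.indFun H (fun h => ((lam h : ℂˣ) : ℂ)))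
    (χ : M ≀ᵣ Q → ℂ) (hχ : Cfsg.IsIrrCharacter (M ≀ᵣ Q) χ) :
    ∃ (K : Subgroup (M ≀ᵣ Q)) (μ : K →* ℂˣ),
      χ = Cfsg.indFun K (fun k => ((μ k : ℂˣ) : ℂ)) := by
  classical
  haveI : Fintype (wrBaseSub M Q) := Fintype.ofFinite _
  apply mgroup_of_prime_index (wrBaseSub M Q) (Nat.card Q) hp index_wrBaseSub ?_ ?_ χ hχ
  · intro θ hθ
    exact monomial_of_mulEquiv (wrBaseEquiv M Q) (pi_monomial hM) θ hθ
  · intro θ hθ hinv
    have hθ' : Cfsg.IsIrrCharacter (Q → M) (θ ∘ (wrBaseEquiv M Q).symm) :=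
      IsIrrCharacter.comp_mulEquiv (wrBaseEquiv M Q).symm hθ
    obtain ⟨φ, hφ, hθφ⟩ := exists_piChar_of_irr hθ'
    have hshift : ∀ (s : Q) (f : Q → M), piChar φ (fun x => f (s⁻¹ * x)) = piChar φ f := by
      intro s f
      rw [← hθφ]
      show θ ((wrBaseEquiv M Q).symm (fun x => f (s⁻¹ * x))) = θ ((wrBaseEquiv M Q).symm f)
      have h1 := congrFun (hinv (inl s)) ((wrBaseEquiv M Q).symm f)
      rw [← h1]
      show _ = θ (MulAut.conjNormal (inl s) ((wrBaseEquiv M Q).symm f))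
      congr 1
      apply Subtype.ext
      rw [MulAut.conjNormal_apply, wrBaseEquiv_symm_coe, wrBaseEquiv_symm_coe, inl_conj_base]
    have hconst := const_of_shift_invariant φ hφ hshift
    obtain ⟨H, lam, hlam⟩ := hM (φ 1) (hφ 1)
    refine ⟨wrSub H Q, wrHom H lam, fun b => ?_⟩
    rw [indFun_wrSub_base H lam b.1 ((mem_wrBaseSub _).mp b.2), ← hlam]
    have h2 : θ b = (θ ∘ (wrBaseEquiv M Q).symm) (wrBaseEquiv M Q b) := by
      simp
    rw [h2, hθφ, piChar_apply]
    apply Finset.prod_congr rfl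
    intro q _
    rw [hconst q]
    rfl

/-- The Kaloujnine–Krasner embedding. -/
theorem exists_embedding_wreath {G : Type u} [Group G] (N : Subgroup G) [hN : N.Normal]
    {M₀ : Type v} [Group M₀] (f₀ : N →* M₀) (hf₀ : Function.Injective f₀) :
    ∃ F : G →* M₀ ≀ᵣ (G ⧸ N), Function.Injective F := by
  classical
  -- a transversal
  obtain ⟨t, ht⟩ : ∃ t : G ⧸ N → G, ∀ x, (t x : G ⧸ N) = x :=
    ⟨fun x => x.out, fun x => QuotientGroup.out_eq' x⟩
  have hmem : ∀ (g : G) (x : G ⧸ N), (t x)⁻¹ * g * t ((g : G ⧸ N)⁻¹ * x) ∈ N := by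
    intro g x
    rw [← QuotientGroup.eq_one_iff]
    simp only [QuotientGroup.mk_mul, QuotientGroup.mk_inv, ht]
    group
  let F : G →* M₀ ≀ᵣ (G ⧸ N) :=
    { toFun := fun g => ⟨fun x => f₀ ⟨(t x)⁻¹ * g * t ((g : G ⧸ N)⁻¹ * x), hmem g x⟩,
        (g : G ⧸ N)⟩
      map_one' := by
        apply RegularWreathProduct.ext
        · funext x
          show f₀ ⟨(t x)⁻¹ * 1 * t (((1 : G) : G ⧸ N)⁻¹ * x), _⟩ = 1
          have : (⟨(t x)⁻¹ * 1 * t (((1 : G) : G ⧸ N)⁻¹ * x), hmem 1 x⟩ : N) = 1 := by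
            apply Subtype.ext
            simp
          rw [this, map_one]
        · rfl
      map_mul' := by
        intro g h
        apply RegularWreathProduct.ext
        · funext x
          show f₀ ⟨(t x)⁻¹ * (g * h) * t (((g * h : G) : G ⧸ N)⁻¹ * x), _⟩ =
            f₀ ⟨(t x)⁻¹ * g * t ((g : G ⧸ N)⁻¹ * x), hmem g x⟩ *
              f₀ ⟨(t ((g : G ⧸ N)⁻¹ * x))⁻¹ * h * t ((h : G ⧸ N)⁻¹ * ((g : G ⧸ N)⁻¹ * x)),
                hmem h _⟩
          rw [← map_mul]
          congr 1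
          apply Subtype.ext
          show (t x)⁻¹ * (g * h) * t (((g * h : G) : G ⧸ N)⁻¹ * x) =
            (t x)⁻¹ * g * t ((g : G ⧸ N)⁻¹ * x) *
              ((t ((g : G ⧸ N)⁻¹ * x))⁻¹ * h * t ((h : G ⧸ N)⁻¹ * ((g : G ⧸ N)⁻¹ * x)))
          have : ((g * h : G) : G ⧸ N)⁻¹ * x = (h : G ⧸ N)⁻¹ * ((g : G ⧸ N)⁻¹ * x) := by
            rw [QuotientGroup.mk_mul, mul_inv_rev, mul_assoc]
          rw [this]
          group
        · rfl }
  refine ⟨F, ?_⟩
  rw [injective_iff_map_eq_one]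
  intro g hg
  have h1 : (g : G ⧸ N) = 1 := congrArg RegularWreathProduct.right hg
  have h2 : ∀ x : G ⧸ N, f₀ ⟨(t x)⁻¹ * g * t ((g : G ⧸ N)⁻¹ * x), hmem g x⟩ = 1 := by
    intro x
    exact congrFun (congrArg RegularWreathProduct.left hg) x
  have h3 := h2 1
  rw [← map_one f₀] at h3
  have h4 := congrArg Subtype.val (hf₀ h3)
  simp only [h1, inv_one, mul_one] at h4
  have h5 : (t 1)⁻¹ * g * t 1 = 1 := h4
  have : g = t 1 * ((t 1)⁻¹ * g * t 1) * (t 1)⁻¹ := by group
  rw [this, h5]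
  group

/-- **Dade's embedding theorem.** -/
theorem dade_embedding_aux : ∀ (n : ℕ) (G : Type u) [Group G] [Finite G],
    Group.IsSolvable G → Nat.card G = n →
    ∃ (M : Type u) (_ : Group M) (_ : Fintype M),
      (∀ χ : M → ℂ, Cfsg.IsIrrCharacter M χ →
        (∃ (H : Subgroup M) (lam : ↥H →* ℂˣ),
          χ = Cfsg.indFun H (fun h => ((lam h : ℂˣ) : ℂ)))) ∧
      ∃ f : G →* M, Function.Injective f := by
  intro n
  induction n using Nat.strong_induction_on with
  | _ n ih =>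
    intro G _ _ hsolv hn
    classical
    by_cases hG : Subsingleton G
    · haveI := Fintype.ofFinite G
      refine ⟨G, inferInstance, inferInstance, ?_, MonoidHom.id G, fun _ _ h => h⟩
      intro χ hχ
      exact nilpotent_monomial χ hχ
    · rw [not_subsingleton_iff_nontrivial] at hG
      have hlt := Group.IsSolvable.commutator_lt_top_of_nontrivial G
      obtain ⟨μ, p, hp, hidx⟩ := exists_hom_ker_index_prime (ne_of_lt hlt)
      have hcard : Nat.card μ.ker * p = n := by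
        rw [← hidx, ← hn]
        exact Subgroup.card_mul_index μ.ker
      have hlt' : Nat.card μ.ker < n := by
        have h2 : 2 ≤ p := hp.two_le
        have hpos : 0 < Nat.card μ.ker := Nat.card_pos
        nlinarith
      obtain ⟨M₀, hgrp, hfin, hM₀, f₀, hf₀⟩ :=
        ih (Nat.card μ.ker) hlt' μ.ker inferInstance rfl
      haveI : Fintype (G ⧸ μ.ker) := Fintype.ofFinite _
      haveI : Fintype (M₀ ≀ᵣ (G ⧸ μ.ker)) := Fintype.ofFinite _
      obtain ⟨F, hF⟩ := exists_embedding_wreath μ.ker f₀ hf₀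
      refine ⟨M₀ ≀ᵣ (G ⧸ μ.ker), inferInstance, inferInstance, ?_, F, hF⟩
      have hQ : (Nat.card (G ⧸ μ.ker)).Prime := by
        have : Nat.card (G ⧸ μ.ker) = p := by rw [← hidx]; rfl
        rw [this]; exact hp
      intro χ hχ
      exact wreath_monomial hQ hM₀ χ hχ

theorem dade_embedding {G : Type u} [Group G] [Finite G] (hsolv : Group.IsSolvable G) :
    ∃ (M : Type u) (_ : Group M) (_ : Fintype M),
      (∀ χ : M → ℂ, Cfsg.IsIrrCharacter M χ →
        (∃ (H : Subgroup M) (lam : ↥H →* ℂˣ),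
          χ = Cfsg.indFun H (fun h => ((lam h : ℂˣ) : ℂ)))) ∧
      ∃ f : G →* M, Function.Injective f :=
  dade_embedding_aux _ G hsolv rfl

end Cfsg.Agent.Helper6
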