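import Mathlib
import Cfsg.Prelude.Def_Characters
import Cfsg.Agent.Helper6.GagEmbD
import Cfsg.Agent.Helper6.GagEmbE
import Cfsg.Agent.Helper6.WrMF

/-!
# Gagola's embedding theorem
-/

set_option autoImplicit false
set_option linter.style.haveILetI false

namespace Cfsg.Agent.Helper6.GagEmb

open Cfsg.Agent.Helper6

universe u

theorem gagola_aux : ∀ (n : ℕ) (G : Type u) [Group G] [Finite G],
    Group.IsSolvable G → Nat.card G = n →
    ∀ m : ℕ, m ≠ 0 → (∀ r : ℕ, r.Prime → r ∣ Nat.card G → r ∣ m) →
    ∃ (H : Type u) (_ : Group H) (_ : Finite H), IsCyclic (Subgroup.center H) ∧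
      CommCond H (Subgroup.center H) ∧ Nat.card (Subgroup.center H) = m ∧
      (∀ r : ℕ, r.Prime → r ∣ Nat.card H → r ∣ m) ∧
      ∃ f : G →* H ⧸ Subgroup.center H, Function.Injective f := by
  intro n
  induction n using Nat.strong_induction_on with
  | _ n ih =>
    intro G _ _ hsolv hn m hm0 hmG
    classical
    by_cases hG : Subsingleton G
    · haveI : NeZero m := ⟨hm0⟩
      have hcen : Subgroup.center (ULift.{u} (Multiplicative (ZMod m))) = ⊤ :=
        CommGroup.center_eq_top
      have hcardH : Nat.card (ULift.{u} (Multiplicative (ZMod m))) = m := by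
        rw [Nat.card_congr Equiv.ulift]
        exact Nat.card_zmod m
      refine ⟨ULift.{u} (Multiplicative (ZMod m)), inferInstance, inferInstance, ?_, ?_, ?_, ?_,
        1, ?_⟩
      · rw [hcen]
        have hs : Function.Surjective
            ((Subgroup.topEquiv (G := ULift.{u} (Multiplicative (ZMod m)))).symm.toMonoidHom.comp
              (MulEquiv.ulift (α := Multiplicative (ZMod m))).symm.toMonoidHom) := by
          exact (Subgroup.topEquiv.symm.surjective).comp (MulEquiv.ulift.symm.surjective)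
        exact isCyclic_of_surjective _ hs
      · intro x hx
        rw [hcen] at hx
        exact absurd (Subgroup.mem_top x) hx
      · rw [hcen, Subgroup.card_top, hcardH]
      · intro r _ hr
        rw [hcardH] at hr
        exact hr
      · intro a b _
        exact Subsingleton.elim a b
    · rw [not_subsingleton_iff_nontrivial] at hG
      have hlt := Group.IsSolvable.commutator_lt_top_of_nontrivial G
      obtain ⟨μ, p, hp, hidx⟩ := exists_hom_ker_index_prime (ne_of_lt hlt)
      have hcard : Nat.card μ.ker * p = n := by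
        rw [← hidx, ← hn]
        exact Subgroup.card_mul_index μ.ker
      have hlt' : Nat.card μ.ker < n := by
        have h2 : 2 ≤ p := hp.two_le
        have hpos : 0 < Nat.card μ.ker := Nat.card_pos
        nlinarith
      have hmN : ∀ r : ℕ, r.Prime → r ∣ Nat.card μ.ker → r ∣ m := by
        intro r hr hdvd
        apply hmG r hr
        rw [hn, ← hcard]
        exact hdvd.mul_right p
      obtain ⟨H₀, hgrp, hfin, hcyc, hcc, hcm, hpr, f₀, hf₀⟩ :=
        ih (Nat.card μ.ker) hlt' μ.ker inferInstance rfl m hm0 hmN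
      obtain ⟨F, hF⟩ := exists_embedding_wreath μ.ker f₀ hf₀
      have hQ : Nat.card (G ⧸ μ.ker) = p := by rw [← hidx]; rfl
      have hpm : p ∣ m := by
        apply hmG p hp
        rw [hn, ← hcard]
        exact Dvd.intro_left _ rfl
      have hpZ : p ∣ Nat.card (Subgroup.center H₀) := by rw [hcm]; exact hpm
      obtain ⟨H, hgrpH, hfinH, hcycH, hccH, hcmH, hprH, ψ, hψ⟩ :=
        step H₀ (G ⧸ μ.ker) p hp hQ hpZ hcyc hcc m hcm hpr
      exact ⟨H, hgrpH, hfinH, hcycH, hccH, hcmH, hprH, ψ.comp F, hψ.comp hF⟩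

/-- The product of the primes dividing `n`. -/
theorem rad_facts (n : ℕ) (hn : n ≠ 0) :
    (∏ p ∈ n.primeFactors, p) ≠ 0 ∧ Squarefree (∏ p ∈ n.primeFactors, p) ∧
      ∀ r : ℕ, r.Prime → (r ∣ ∏ p ∈ n.primeFactors, p ↔ r ∣ n) := by
  refine ⟨?_, ?_, ?_⟩
  · rw [Finset.prod_ne_zero_iff]
    intro p hp
    exact (Nat.prime_of_mem_primeFactors hp).ne_zero
  · apply Finset.squarefree_prod_of_pairwise_isCoprime
    · intro a ha b hb hab
      show IsRelPrime a b
      rw [← Nat.coprime_iff_isRelPrime]
      exact (Nat.coprime_primes (Nat.prime_of_mem_primeFactors ha)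
        (Nat.prime_of_mem_primeFactors hb)).mpr hab
    · intro p hp
      exact (Nat.prime_of_mem_primeFactors hp).prime.irreducible.squarefree
  · intro r hr
    constructor
    · intro h
      obtain ⟨a, ha, hra⟩ := (Prime.dvd_finset_prod_iff hr.prime _).mp h
      have := (Nat.prime_dvd_prime_iff_eq hr (Nat.prime_of_mem_primeFactors ha)).mp hra
      rw [this]
      exact Nat.dvd_of_mem_primeFactors ha
    · intro h
      exact Finset.dvd_prod_of_mem _ (Nat.mem_primeFactors.mpr ⟨hr, h, hn⟩)

/-- **Gagola's theorem**: every finite solvable group embeds in `H / Z(H)` for a group `H` with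
a faithful irreducible character fully ramified over the centre. -/
theorem gagola {G : Type u} [Group G] [Finite G] (hsolv : Group.IsSolvable G) :
    ∃ (H : Type u) (_ : Group H) (_ : Finite H) (χ : Cfsg.IrrCharacter H),
      (∀ h : H, (χ : H → ℂ) h = (χ : H → ℂ) 1 → h = 1) ∧
      (Cfsg.charDegree (χ : H → ℂ)) ^ 2 = (Subgroup.center H).index ∧
      (∃ f : G →* H ⧸ Subgroup.center H, Function.Injective f) ∧
      (∀ p : ℕ, p.Prime → ((p ∣ Nat.card H ↔ p ∣ Nat.card G) ∧
        (p ∣ Nat.card (Subgroup.center H) ↔ p ∣ Nat.card G))) ∧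
      Squarefree (Nat.card (Subgroup.center H)) := by
  have hn0 : Nat.card G ≠ 0 := Nat.card_pos.ne'
  obtain ⟨hm0, hsq, hdiv⟩ := rad_facts (Nat.card G) hn0
  obtain ⟨H, hgrp, hfin, hcyc, hcc, hcm, hpr, f, hf⟩ :=
    gagola_aux _ G hsolv rfl _ hm0 (fun r hr h => (hdiv r hr).mpr h)
  obtain ⟨χ, hfaith, hdeg⟩ := exists_faithful_fully_ramified hcyc hcc
  refine ⟨H, hgrp, hfin, χ, hfaith, hdeg, ⟨f, hf⟩, ?_, ?_⟩
  · intro p hp
    constructor
    · constructor
      · intro h
        exact (hdiv p hp).mp (hpr p hp h)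
      · intro h
        have h1 : p ∣ Nat.card (Subgroup.center H) := by
          rw [hcm]; exact (hdiv p hp).mpr h
        exact h1.trans (Subgroup.card_subgroup_dvd_card _)
    · rw [hcm]
      exact hdiv p hp
  · rw [hcm]
    exact hsq

end Cfsg.Agent.Helper6.GagEmb
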