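import Mathlib
import Cfsg.Prelude.Def_Characters
import Cfsg.Prelude.Def_Blocks
import Cfsg.Prelude.Def_Transfer
import Cfsg.Agent.Helper6.Codegree
import Cfsg.Agent.Helper6.ColumnOrth
import Cfsg.Agent.Helper6.IrrDegree
import Cfsg.Agent.Helper6.OddReal

/-!
# Characters vanishing on all but two conjugacy classes
-/

set_option autoImplicit false
set_option linter.style.haveILetI false

namespace Cfsg.Agent.Helper6

open Module Representation
open scoped ComplexConjugate Pointwise

universe u v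

variable {G : Type u} [Group G]

/-- Extract a representative of the second class on which the character is nonzero. -/
theorem two_classes_extract [Finite G] (χ : Cfsg.IrrCharacter G)
    (hχ : Nat.card {C : ConjClasses G // ∃ g ∈ C.carrier, (χ : G → ℂ) g ≠ 0} = 2) :
    ∃ x : G, x ≠ 1 ∧ (χ : G → ℂ) x ≠ 0 ∧
      ∀ g : G, (χ : G → ℂ) g ≠ 0 → g = 1 ∨ IsConj x g := by
  classical
  have hχ1 : (χ : G → ℂ) 1 ≠ 0 := IsIrrCharacter.apply_one_ne_zero χ.2
  let c1 : {C : ConjClasses G // ∃ g ∈ C.carrier, (χ : G → ℂ) g ≠ 0} :=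
    ⟨ConjClasses.mk 1, 1, ConjClasses.mem_carrier_mk, hχ1⟩
  obtain ⟨c2, hc2, huniq⟩ := (Nat.card_eq_two_iff' c1).mp hχ
  obtain ⟨⟨C, x, hxC, hx0⟩, rfl⟩ : ∃ c, c = c2 := ⟨c2, rfl⟩
  have hCx : ConjClasses.mk x = C := ConjClasses.mem_carrier_iff_mk_eq.mp hxC
  refine ⟨x, ?_, hx0, ?_⟩
  · rintro rfl
    apply hc2
    apply Subtype.ext
    exact hCx.symm
  · intro g hg
    by_cases hg1 : g = 1
    · exact Or.inl hg1
    · right
      have hne : (⟨ConjClasses.mk g, g, ConjClasses.mem_carrier_mk, hg⟩ :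
          {C : ConjClasses G // ∃ g ∈ C.carrier, (χ : G → ℂ) g ≠ 0}) ≠ c1 := by
        intro h
        have h1 := congrArg Subtype.val h
        simp only [c1] at h1
        rw [ConjClasses.mk_eq_mk_iff_isConj] at h1
        exact hg1 (isConj_one_left.mp h1)
      have h2 := huniq _ hne
      have h3 := congrArg Subtype.val h2
      simp only at h3
      rw [← hCx, ConjClasses.mk_eq_mk_iff_isConj] at h3
      exact h3.symm

/-- Sum of a class function supported on the identity and one further class. -/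
theorem sum_two_classes [Fintype G] [DecidableEq G] (x : G) (hx1 : x ≠ 1) (F : G → ℂ)
    (hF : Cfsg.IsClassFunction G F) (hsupp : ∀ g, F g ≠ 0 → g = 1 ∨ IsConj x g) :
    ∑ g : G, F g = F 1 + (Nat.card {y : G // IsConj x y} : ℂ) * F x := by
  classical
  have hpt : ∀ g : G, F g = (if g = 1 then F 1 else 0) + (if IsConj x g then F x else 0) := by
    intro g
    by_cases hg1 : g = 1
    · subst hg1
      rw [if_pos rfl, if_neg, add_zero]
      intro h
      exact hx1 (isConj_one_left.mp h)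
    · rw [if_neg hg1, zero_add]
      by_cases hc : IsConj x g
      · rw [if_pos hc]
        exact (IsClassFunction.eq_of_isConj hF hc).symm
      · rw [if_neg hc]
        by_contra h
        rcases hsupp g h with h1 | h1
        · exact hg1 h1
        · exact hc h1
  rw [Finset.sum_congr rfl (fun g _ => hpt g), Finset.sum_add_distrib,
    Finset.sum_ite_eq' Finset.univ (1 : G) (fun _ => F 1), if_pos (Finset.mem_univ _),
    ← Finset.sum_filter, Finset.sum_const, nsmul_eq_mul]
  congr 2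
  rw [Nat.card_eq_fintype_card, Fintype.card_subtype]

/-- Core data of a group with an irreducible character vanishing off two classes. -/
theorem gagola_core [Finite G] (hG : 2 < Nat.card G) (χ : Cfsg.IrrCharacter G) (x : G)
    (hx1 : x ≠ 1)
    (hsupp : ∀ g : G, (χ : G → ℂ) g ≠ 0 → g = 1 ∨ IsConj x g) :
    ∃ N : Subgroup G, N.Normal ∧ x ∈ N ∧ (∀ g ∈ N, g = 1 ∨ IsConj x g) ∧
      (∀ ψ : Cfsg.IrrCharacter G, ψ ≠ χ → ∀ n ∈ N, (ψ : G → ℂ) n = (ψ : G → ℂ) 1) ∧
      ∃ d c : ℕ, 0 < d ∧ 0 < c ∧ (χ : G → ℂ) 1 = d ∧ c = Nat.card {y : G // IsConj x y} ∧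
        (c : ℂ) * (χ : G → ℂ) x = -(d : ℂ) ∧ c * Nat.card G = d ^ 2 * (c + 1) ∧
        Nat.card N = c + 1 := by
  classical
  haveI := Fintype.ofFinite G
  haveI : Finite (Cfsg.IrrCharacter G) := irr_finite
  haveI : Fintype (Cfsg.IrrCharacter G) := Fintype.ofFinite _
  obtain ⟨d, hdpos, hd⟩ := IsIrrCharacter.apply_one_pos χ.2
  have hG0 : (Nat.card G : ℂ) ≠ 0 := Nat.cast_ne_zero.mpr Nat.card_pos.ne'
  have hcc := card_conj_mul_card_centralizer x
  have hcpos : 0 < Nat.card {y : G // IsConj x y} := by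
    haveI : Nonempty {y : G // IsConj x y} := ⟨⟨x, IsConj.refl x⟩⟩
    exact Nat.card_pos
  have hχcf := IsCharacter.isClassFunction (IsIrrCharacter.isCharacter χ.2)
  -- χ is not the principal character
  have hχne1 : (χ : G → ℂ) ≠ fun _ => 1 := by
    intro h
    have hall : ∀ g : G, g ≠ 1 → IsConj x g := by
      intro g hg
      have : (χ : G → ℂ) g ≠ 0 := by rw [h]; exact one_ne_zero
      exact (hsupp g this).resolve_left hg
    have hcard : Nat.card {y : G // IsConj x y} + 1 = Nat.card G := by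
      have huniv : (Finset.univ : Finset G) =
          insert 1 (Finset.univ.filter (fun y => IsConj x y)) := by
        ext g
        simp only [Finset.mem_univ, Finset.mem_insert, Finset.mem_filter, true_and, true_iff]
        by_cases hg : g = 1
        · exact Or.inl hg
        · exact Or.inr (hall g hg)
      have hnot : (1 : G) ∉ Finset.univ.filter (fun y => IsConj x y) := by
        simp only [Finset.mem_filter, Finset.mem_univ, true_and]
        intro h1
        exact hx1 (isConj_one_left.mp h1)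
      have h1 : (Finset.univ : Finset G).card =
          (Finset.univ.filter (fun y => IsConj x y)).card + 1 := by
        conv_lhs => rw [huniv]
        exact Finset.card_insert_of_notMem hnot
      rw [Nat.card_eq_fintype_card, Fintype.card_subtype, Nat.card_eq_fintype_card,
        ← Finset.card_univ (α := G), h1]
    rw [← hcard] at hcc hG
    have hdvd : Nat.card {y : G // IsConj x y} ∣ Nat.card {y : G // IsConj x y} + 1 :=
      ⟨_, hcc.symm⟩
    have h1 : Nat.card {y : G // IsConj x y} ∣ 1 := (Nat.dvd_add_right dvd_rfl).mp hdvd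
    have := Nat.le_of_dvd Nat.one_pos h1
    omega
  -- first orthogonality with the principal character
  have hsum0 : ∑ g : G, (χ : G → ℂ) g = 0 := by
    have h1 := classInner_irr_ne χ.2 (isIrrCharacter_one (G := G)) hχne1
    rw [classInner_def] at h1
    simp only [map_one, mul_one] at h1
    rcases mul_eq_zero.mp h1 with h2 | h2
    · exact absurd (inv_eq_zero.mp h2) hG0
    · exact h2
  have hF1 : (χ : G → ℂ) 1 + (Nat.card {y : G // IsConj x y} : ℂ) * (χ : G → ℂ) x = 0 := by
    rw [← sum_two_classes x hx1 _ hχcf hsupp]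
    exact hsum0
  have hcx : (Nat.card {y : G // IsConj x y} : ℂ) * (χ : G → ℂ) x = -(d : ℂ) := by
    rw [hd] at hF1
    linear_combination hF1
  have hc0 : (Nat.card {y : G // IsConj x y} : ℂ) ≠ 0 := Nat.cast_ne_zero.mpr hcpos.ne'
  have hd0 : (d : ℂ) ≠ 0 := Nat.cast_ne_zero.mpr hdpos.ne'
  have hχx : (χ : G → ℂ) x = -(d : ℂ) / (Nat.card {y : G // IsConj x y} : ℂ) := by
    field_simp
    linear_combination hcx
  have hχxconj : conj ((χ : G → ℂ) x) = (χ : G → ℂ) x := by
    rw [hχx]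
    simp
  -- other characters have x in their kernel
  have hker : ∀ ψ : Cfsg.IrrCharacter G, ψ ≠ χ → (ψ : G → ℂ) x = (ψ : G → ℂ) 1 := by
    intro ψ hψ
    have h1 := classInner_irr_ne ψ.2 χ.2 (fun e => hψ (Subtype.ext e))
    rw [classInner_def] at h1
    have h2 : ∑ g : G, (ψ : G → ℂ) g * conj ((χ : G → ℂ) g) = 0 := by
      rcases mul_eq_zero.mp h1 with h2 | h2
      · exact absurd (inv_eq_zero.mp h2) hG0
      · exact h2
    have hψcf := IsCharacter.isClassFunction (IsIrrCharacter.isCharacter ψ.2)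
    have hFcf : Cfsg.IsClassFunction G (fun g => (ψ : G → ℂ) g * conj ((χ : G → ℂ) g)) := by
      intro g h
      simp only [hψcf g h, hχcf g h]
    rw [sum_two_classes x hx1 _ hFcf (by
      intro g hg
      apply hsupp g
      intro h0
      apply hg
      simp only [h0, map_zero, mul_zero])] at h2
    simp only [hd, map_natCast, hχxconj] at h2
    have h3 : (d : ℂ) * ((ψ : G → ℂ) 1 - (ψ : G → ℂ) x) = 0 := by
      have : (Nat.card {y : G // IsConj x y} : ℂ) * ((ψ : G → ℂ) x * (χ : G → ℂ) x) =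
          -(d : ℂ) * (ψ : G → ℂ) x := by
        rw [mul_left_comm, hcx]
        ring
      linear_combination h2 - this
    rcases mul_eq_zero.mp h3 with h4 | h4
    · exact absurd h4 hd0
    · exact (sub_eq_zero.mp h4).symm
  -- the norm equation
  have hnorm : (Nat.card {y : G // IsConj x y} : ℂ) * (Nat.card G : ℂ) =
      (d : ℂ) ^ 2 * ((Nat.card {y : G // IsConj x y} : ℂ) + 1) := by
    have h1 := classInner_irr_self χ.2
    rw [classInner_def] at h1
    have h2 : ∑ g : G, (χ : G → ℂ) g * conj ((χ : G → ℂ) g) = (Nat.card G : ℂ) := by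
      rw [inv_mul_eq_one₀ hG0] at h1
      exact h1.symm
    have hFcf : Cfsg.IsClassFunction G (fun g => (χ : G → ℂ) g * conj ((χ : G → ℂ) g)) := by
      intro g h
      simp only [hχcf g h]
    rw [sum_two_classes x hx1 _ hFcf (by
      intro g hg
      apply hsupp g
      intro h0
      apply hg
      simp only [h0, map_zero, mul_zero])] at h2
    simp only [hd, map_natCast, hχxconj] at h2
    rw [← h2, hχx]
    field_simp
  have hnorm' : Nat.card {y : G // IsConj x y} * Nat.card G =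
      d ^ 2 * (Nat.card {y : G // IsConj x y} + 1) := by
    exact_mod_cast hnorm
  -- the kernel data
  have hK : ∀ ψ : Cfsg.IrrCharacter G, ∃ K : Subgroup G, K.Normal ∧
      ∀ g, g ∈ K ↔ (ψ : G → ℂ) g = (ψ : G → ℂ) 1 := by
    intro ψ
    obtain ⟨K, hKn, hK, -⟩ := exists_kernel_data ψ.2
    exact ⟨K, hKn, hK⟩
  choose K hKn hKmem using hK
  have hNn : (⨅ ψ : {ψ : Cfsg.IrrCharacter G // ψ ≠ χ}, K ψ.1).Normal :=
    Subgroup.normal_iInf_normal (fun ψ => hKn ψ.1)
  have hxN : x ∈ ⨅ ψ : {ψ : Cfsg.IrrCharacter G // ψ ≠ χ}, K ψ.1 := by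
    rw [Subgroup.mem_iInf]
    intro ψ
    exact (hKmem ψ.1 x).mpr (hker ψ.1 ψ.2)
  have hNker : ∀ ψ : Cfsg.IrrCharacter G, ψ ≠ χ →
      ∀ n ∈ ⨅ ψ : {ψ : Cfsg.IrrCharacter G // ψ ≠ χ}, K ψ.1,
        (ψ : G → ℂ) n = (ψ : G → ℂ) 1 := by
    intro ψ hψ n hn
    exact (hKmem ψ n).mp ((Subgroup.mem_iInf.mp hn) ⟨ψ, hψ⟩)
  have hχx1 : (χ : G → ℂ) x ≠ (χ : G → ℂ) 1 := by
    intro h
    rw [h, hd] at hcx
    have h1 : ((Nat.card {y : G // IsConj x y} * d + d : ℕ) : ℂ) = 0 := by
      push_cast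
      linear_combination hcx
    have h2 : Nat.card {y : G // IsConj x y} * d + d = 0 := by exact_mod_cast h1
    omega
  -- index of N
  haveI := hNn
  have hidx : (⨅ ψ : {ψ : Cfsg.IrrCharacter G // ψ ≠ χ}, K ψ.1).index + d ^ 2 = Nat.card G := by
    have h1 := sum_sq_degrees_of_le_ker
      (⨅ ψ : {ψ : Cfsg.IrrCharacter G // ψ ≠ χ}, K ψ.1)
    have h2 := sum_sq_charDegree (G := G)
    have hfilt : Finset.univ.filter (fun ψ : Cfsg.IrrCharacter G =>
        ∀ n ∈ ⨅ ψ : {ψ : Cfsg.IrrCharacter G // ψ ≠ χ}, K ψ.1,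
          (ψ : G → ℂ) n = (ψ : G → ℂ) 1) = Finset.univ.erase χ := by
      ext ψ
      simp only [Finset.mem_filter, Finset.mem_univ, true_and, Finset.mem_erase, and_true]
      constructor
      · intro h e
        subst e
        exact hχx1 (h x hxN)
      · intro h
        exact hNker ψ h
    rw [hfilt] at h1
    rw [← Finset.add_sum_erase _ _ (Finset.mem_univ χ), h1] at h2
    have hdeg : Cfsg.charDegree (χ : G → ℂ) = d := by
      unfold Cfsg.charDegree
      rw [hd]
      simp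
    rw [hdeg] at h2
    omega
  have hNcard : Nat.card (⨅ ψ : {ψ : Cfsg.IrrCharacter G // ψ ≠ χ}, K ψ.1 : Subgroup G) =
      Nat.card {y : G // IsConj x y} + 1 := by
    have h1 := (⨅ ψ : {ψ : Cfsg.IrrCharacter G // ψ ≠ χ}, K ψ.1).index_mul_card
    have hIpos : 0 < (⨅ ψ : {ψ : Cfsg.IrrCharacter G // ψ ≠ χ}, K ψ.1).index :=
      Nat.pos_of_ne_zero Subgroup.index_ne_zero_of_finite
    generalize (⨅ ψ : {ψ : Cfsg.IrrCharacter G // ψ ≠ χ}, K ψ.1).index = I at *
    generalize Nat.card (⨅ ψ : {ψ : Cfsg.IrrCharacter G // ψ ≠ χ}, K ψ.1 : Subgroup G) = n at *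
    generalize Nat.card {y : G // IsConj x y} = c at *
    generalize Nat.card G = g at *
    -- I * n = g, I + d^2 = g, c * g = d^2 * (c+1)
    have e1 : c * I = d ^ 2 := by
      have : c * (I + d ^ 2) = d ^ 2 * (c + 1) := by rw [hidx]; exact hnorm'
      nlinarith
    have e2 : I * n = I * (c + 1) := by
      rw [h1, ← hidx]
      nlinarith
    exact Nat.eq_of_mul_eq_mul_left hIpos e2
  refine ⟨⨅ ψ : {ψ : Cfsg.IrrCharacter G // ψ ≠ χ}, K ψ.1, hNn, hxN, ?_, hNker,
    d, Nat.card {y : G // IsConj x y}, hdpos, hcpos, hd, rfl, hcx, hnorm', hNcard⟩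
  -- N = {1} ∪ class of x
  have hsub : insert 1 (Finset.univ.filter (fun y : G => IsConj x y)) ⊆
      Finset.univ.filter (fun y : G =>
        y ∈ ⨅ ψ : {ψ : Cfsg.IrrCharacter G // ψ ≠ χ}, K ψ.1) := by
    intro y hy
    rw [Finset.mem_insert] at hy
    rw [Finset.mem_filter]
    refine ⟨Finset.mem_univ _, ?_⟩
    rcases hy with rfl | hy
    · exact Subgroup.one_mem _
    · obtain ⟨c, hc⟩ := isConj_iff.mp (Finset.mem_filter.mp hy).2
      rw [← hc]
      exact hNn.conj_mem x hxN c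
  have hcardA : (insert 1 (Finset.univ.filter (fun y : G => IsConj x y))).card =
      Nat.card {y : G // IsConj x y} + 1 := by
    have hnot : (1 : G) ∉ Finset.univ.filter (fun y => IsConj x y) := by
      simp only [Finset.mem_filter, Finset.mem_univ, true_and]
      intro h1
      exact hx1 (isConj_one_left.mp h1)
    rw [Finset.card_insert_of_notMem hnot, Nat.card_eq_fintype_card, Fintype.card_subtype]
  have hcardB : (Finset.univ.filter (fun y : G =>
      y ∈ ⨅ ψ : {ψ : Cfsg.IrrCharacter G // ψ ≠ χ}, K ψ.1)).card =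
      Nat.card {y : G // IsConj x y} + 1 := by
    rw [← hNcard, Nat.card_eq_fintype_card, Fintype.card_subtype]
  have heq := Finset.eq_of_subset_of_card_le hsub (by rw [hcardA, hcardB])
  intro g hg
  have hmem : g ∈ Finset.univ.filter (fun y : G =>
      y ∈ ⨅ ψ : {ψ : Cfsg.IrrCharacter G // ψ ≠ χ}, K ψ.1) :=
    Finset.mem_filter.mpr ⟨Finset.mem_univ _, hg⟩
  rw [← heq, Finset.mem_insert] at hmem
  rcases hmem with h | h
  · exact Or.inl h
  · exact Or.inr (Finset.mem_filter.mp h).2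

/-- Gagola's lemma: the structure of the unique minimal normal subgroup. -/
theorem gagola_minimal_normal [Finite G] (hG : 2 < Nat.card G) (χ : Cfsg.IrrCharacter G)
    (hχ : Nat.card {C : ConjClasses G // ∃ g ∈ C.carrier, (χ : G → ℂ) g ≠ 0} = 2) :
    ∃ N : Subgroup G, N.Normal ∧ N ≠ ⊥ ∧ (∀ K : Subgroup G, K.Normal → K ≠ ⊥ → N ≤ K) ∧
      (∃ p : ℕ, p.Prime ∧ Cfsg.IsElementaryAbelian p N) ∧
      (∀ g : G, (χ : G → ℂ) g ≠ 0 ↔ g ∈ N) ∧
      (∀ x ∈ N, ∀ y ∈ N, x ≠ 1 → y ≠ 1 → ∃ g : G, g * x * g⁻¹ = y) := by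
  classical
  haveI := Fintype.ofFinite G
  obtain ⟨x, hx1, hx0, hsupp⟩ := two_classes_extract χ hχ
  obtain ⟨N, hNn, hxN, hNcl, hNker, d, c, hdpos, hcpos, hd, hc, hcx, hnorm, hNcard⟩ :=
    gagola_core hG χ x hx1 hsupp
  haveI := hNn
  have hχcf := IsCharacter.isClassFunction (IsIrrCharacter.isCharacter χ.2)
  have hχ1 : (χ : G → ℂ) 1 ≠ 0 := IsIrrCharacter.apply_one_ne_zero χ.2
  have hconjN : ∀ g : G, IsConj x g → g ∈ N := by
    intro g hg
    obtain ⟨c, hc⟩ := isConj_iff.mp hg
    rw [← hc]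
    exact hNn.conj_mem x hxN c
  have hχN : ∀ g : G, (χ : G → ℂ) g ≠ 0 ↔ g ∈ N := by
    intro g
    constructor
    · intro hg
      rcases hsupp g hg with rfl | h
      · exact N.one_mem
      · exact hconjN g h
    · intro hg
      rcases hNcl g hg with rfl | h
      · exact hχ1
      · rw [← IsClassFunction.eq_of_isConj hχcf h]
        exact hx0
  have hN1 : N ≠ ⊥ := by
    intro h
    rw [h, Subgroup.mem_bot] at hxN
    exact hx1 hxN
  have hmin : ∀ K : Subgroup G, K.Normal → K ≠ ⊥ → N ≤ K := by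
    intro K hK hK1
    haveI := hK
    haveI : Fintype K := Fintype.ofFinite K
    have hxK : x ∈ K := by
      by_contra hxK
      have hvan : ∀ k : K, k ≠ 1 → (χ : G → ℂ) k = 0 := by
        intro k hk
        by_contra h0
        rcases hsupp k h0 with h | h
        · exact hk (Subtype.ext h)
        · obtain ⟨c, hc⟩ := isConj_iff.mp h
          apply hxK
          have : x = c⁻¹ * (k : G) * c⁻¹⁻¹ := by rw [← hc]; group
          rw [this]
          exact hK.conj_mem _ k.2 c⁻¹
      have hsum : ∑ k : K, (χ : G → ℂ) k = (χ : G → ℂ) 1 := by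
        rw [Finset.sum_eq_single (1 : K)]
        · rw [Subgroup.coe_one]
        · intro k _ hk
          exact hvan k hk
        · intro h
          exact absurd (Finset.mem_univ _) h
      rw [sum_normal_irr K χ.2] at hsum
      split_ifs at hsum with hall
      · obtain ⟨k, hk1⟩ := (Subgroup.ne_bot_iff_exists_ne_one).mp hK1
        have h1 := hall k.1 k.2
        have h2 := hvan k hk1
        rw [h2] at h1
        exact hχ1 h1.symm
      · exact hχ1 hsum.symm
    intro g hg
    rcases hNcl g hg with rfl | h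
    · exact K.one_mem
    · obtain ⟨c, hc⟩ := isConj_iff.mp h
      rw [← hc]
      exact hK.conj_mem x hxK c
  have hconj : ∀ a ∈ N, ∀ b ∈ N, a ≠ 1 → b ≠ 1 → ∃ g : G, g * a * g⁻¹ = b := by
    intro a ha b hb ha1 hb1
    have h1 := (hNcl a ha).resolve_left ha1
    have h2 := (hNcl b hb).resolve_left hb1
    exact isConj_iff.mp (h1.symm.trans h2)
  refine ⟨N, hNn, hN1, hmin, ?_, hχN, hconj⟩
  -- elementary abelian
  have hN2 : Nat.card N ≠ 1 := by
    intro h
    exact hN1 (Subgroup.card_eq_one.mp h)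
  obtain ⟨p, hp, hpN⟩ := Nat.exists_prime_and_dvd hN2
  haveI : Fact p.Prime := ⟨hp⟩
  obtain ⟨k0, hk0⟩ := exists_prime_orderOf_dvd_card' (G := N) p hpN
  have hk0' : orderOf (k0 : G) = p := by rw [Subgroup.orderOf_coe, hk0]
  have hk0ne : (k0 : G) ≠ 1 := by
    intro h
    rw [h, orderOf_one] at hk0'
    exact hp.one_lt.ne hk0'
  have hpow : ∀ a ∈ N, a ^ p = 1 := by
    intro a ha
    by_cases ha1 : a = 1
    · rw [ha1, one_pow]
    · obtain ⟨g, hg⟩ := hconj (k0 : G) k0.2 a ha hk0ne ha1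
      rw [← hg, ← MulAut.conj_apply, ← map_pow, ← hk0', pow_orderOf_eq_one, map_one]
  have hNp : IsPGroup p N := by
    intro g
    refine ⟨1, ?_⟩
    rw [pow_one]
    apply Subtype.ext
    rw [Subgroup.coe_pow, Subgroup.coe_one]
    exact hpow g g.2
  haveI : Nontrivial N := (Subgroup.nontrivial_iff_ne_bot N).mpr hN1
  haveI hZnt : Nontrivial (Subgroup.center N) := hNp.center_nontrivial
  have hZn : ((Subgroup.center N).map N.subtype).Normal := inferInstance
  have hZ1 : (Subgroup.center N).map N.subtype ≠ ⊥ := by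
    rw [Ne, Subgroup.map_eq_bot_iff_of_injective _ N.subtype_injective]
    exact (Subgroup.nontrivial_iff_ne_bot _).mp hZnt
  have hle := hmin _ hZn hZ1
  refine ⟨p, hp, ⟨⟨fun a b => ?_⟩⟩, hpow⟩
  obtain ⟨z, hz, hza⟩ := Subgroup.mem_map.mp (hle a.2)
  have hza' : z = a := Subtype.ext hza
  rw [← hza']
  exact ((Subgroup.mem_center_iff.mp hz) b).symm

/-- A character nonzero on exactly two classes is faithful. -/
theorem gagola_faithful [Finite G] (hG : 2 < Nat.card G) (χ : Cfsg.IrrCharacter G)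
    (hχ : Nat.card {C : ConjClasses G // ∃ g ∈ C.carrier, (χ : G → ℂ) g ≠ 0} = 2) :
    ∀ g : G, (χ : G → ℂ) g = (χ : G → ℂ) 1 → g = 1 := by
  classical
  obtain ⟨x, hx1, hx0, hsupp⟩ := two_classes_extract χ hχ
  obtain ⟨N, hNn, hxN, hNcl, hNker, d, c, hdpos, hcpos, hd, hc, hcx, hnorm, hNcard⟩ :=
    gagola_core hG χ x hx1 hsupp
  have hχcf := IsCharacter.isClassFunction (IsIrrCharacter.isCharacter χ.2)
  have hχ1 : (χ : G → ℂ) 1 ≠ 0 := IsIrrCharacter.apply_one_ne_zero χ.2
  intro g hg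
  have hg0 : (χ : G → ℂ) g ≠ 0 := by rw [hg]; exact hχ1
  rcases hsupp g hg0 with h | h
  · exact h
  · exfalso
    rw [← IsClassFunction.eq_of_isConj hχcf h] at hg
    rw [hg, hd] at hcx
    have h1 : ((c * d + d : ℕ) : ℂ) = 0 := by
      push_cast
      linear_combination hcx
    have h2 : c * d + d = 0 := by exact_mod_cast h1
    omega

/-- Uniqueness statements for characters nonzero on exactly two classes. -/
theorem gagola_unique [Finite G] (hG : 2 < Nat.card G) (χ : Cfsg.IrrCharacter G)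
    (hχ : Nat.card {C : ConjClasses G // ∃ g ∈ C.carrier, (χ : G → ℂ) g ≠ 0} = 2) :
    (∀ g : G, (χ : G → ℂ) g = (χ : G → ℂ) 1 → g = 1) ∧
      (∀ ψ : Cfsg.IrrCharacter G, (∀ g : G, (ψ : G → ℂ) g = (ψ : G → ℂ) 1 → g = 1) → ψ = χ) ∧
      (∀ ψ : Cfsg.IrrCharacter G,
        Nat.card {C : ConjClasses G // ∃ g ∈ C.carrier, (ψ : G → ℂ) g ≠ 0} = 2 → ψ = χ) := by
  classical
  obtain ⟨x, hx1, hx0, hsupp⟩ := two_classes_extract χ hχ
  obtain ⟨N, hNn, hxN, hNcl, hNker, -⟩ := gagola_core hG χ x hx1 hsupp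
  have h2 : ∀ ψ : Cfsg.IrrCharacter G,
      (∀ g : G, (ψ : G → ℂ) g = (ψ : G → ℂ) 1 → g = 1) → ψ = χ := by
    intro ψ hψ
    by_contra hne
    exact hx1 (hψ x (hNker ψ hne x hxN))
  exact ⟨gagola_faithful hG χ hχ, h2, fun ψ hψ => h2 ψ (gagola_faithful hG ψ hψ)⟩

end Cfsg.Agent.Helper6
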