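import Mathlib
import Cfsg.Agent.Helper6.Gagola
import Cfsg.Agent.Helper6.NormalInd2
import Cfsg.Agent.Helper6.Linear
import Cfsg.Agent.Helper6.NormTwo

/-!
# Characters vanishing on all but two conjugacy classes: centralizers and inertia groups
-/

set_option autoImplicit false
set_option linter.style.haveILetI false

namespace Cfsg.Agent.Helper6

open Module Representation
open scoped ComplexConjugate Pointwise

universe u v

variable {G : Type u} [Group G]

theorem IsCharacter.apply_mul_of_apply_eq_one [Finite G] {ψ : G → ℂ} (hψ : Cfsg.IsCharacter G ψ) {n : G}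
    (hn : ψ n = ψ 1) (g : G) : ψ (g * n) = ψ g := by
  obtain ⟨k, ρ, rfl⟩ := hψ
  rw [Representation.char_one, char_eq_finrank_iff] at hn
  unfold Representation.character
  rw [map_mul, hn]
  rfl

theorem gagola_centralizer_card [Finite G] (hG : 2 < Nat.card G) (χ : Cfsg.IrrCharacter G) (x : G)
    (hx1 : x ≠ 1) (hsupp : ∀ g : G, (χ : G → ℂ) g ≠ 0 → g = 1 ∨ IsConj x g)
    (p : ℕ) [hp : Fact p.Prime] (N : Subgroup G) (hN : ∀ g : G, g ∈ N ↔ (χ : G → ℂ) g ≠ 0)
    (hNp : IsPGroup p N) (hxN : x ∈ N) :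
    Nat.card (Subgroup.centralizer ({x} : Set G)) = p ^ (Nat.card G).factorization p ∧
    Nat.card {y : G // IsConj x y} + 1 = Nat.card N ∧
    (∀ g ∈ N, g = 1 ∨ IsConj x g) := by
  classical
  haveI := Fintype.ofFinite G
  haveI : Finite (Cfsg.IrrCharacter G) := irr_finite
  haveI : Fintype (Cfsg.IrrCharacter G) := Fintype.ofFinite _
  obtain ⟨N', hNn, hxN', hNcl, hNker, d, c, hdpos, hcpos, hd, hc, hcx, hnorm, hNcard⟩ :=
    gagola_core hG χ x hx1 hsupp
  have hχx : (χ : G → ℂ) x ≠ 0 := (hN x).mp hxN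
  have hχcf := IsCharacter.isClassFunction (IsIrrCharacter.isCharacter χ.2)
  have hNN' : N' = N := by
    ext g
    constructor
    · intro hg
      rw [hN]
      rcases hNcl g hg with rfl | h
      · exact IsIrrCharacter.apply_one_ne_zero χ.2
      · rw [← IsClassFunction.eq_of_isConj hχcf h]
        exact hχx
    · intro hg
      rcases hsupp g ((hN g).mp hg) with rfl | h
      · exact N'.one_mem
      · obtain ⟨a, ha⟩ := isConj_iff.mp h
        rw [← ha]
        exact hNn.conj_mem x hxN' a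
  subst hNN'
  obtain ⟨k, hk⟩ := IsPGroup.iff_card.mp hNp
  have hk0 : k ≠ 0 := by
    rintro rfl
    rw [pow_zero, hNcard] at hk
    omega
  have hcc := card_conj_mul_card_centralizer x
  rw [← hc] at hcc
  have hcop : Nat.Coprime c p := by
    have h1 : c + 1 = p ^ k := by rw [← hNcard, hk]
    have hdvd : p ∣ c + 1 := by rw [h1]; exact dvd_pow_self p hk0
    rw [Nat.coprime_comm, Nat.Prime.coprime_iff_not_dvd hp.out]
    intro h
    have := (Nat.dvd_add_right h).mp hdvd
    exact hp.out.one_lt.ne' (Nat.dvd_one.mp this)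
  have hCp : ∀ q : ℕ, q.Prime → q ∣ Nat.card (Subgroup.centralizer ({x} : Set G)) → q = p := by
    intro q hq hqdvd
    by_contra hqp
    haveI := Fact.mk hq
    obtain ⟨⟨h, hhC⟩, hho⟩ := exists_prime_orderOf_dvd_card' q hqdvd
    have hho' : orderOf h = q := by
      rw [← hho, Subgroup.orderOf_mk]
    have hcomm : Commute h x := by
      have := Subgroup.mem_centralizer_iff.mp hhC x (Set.mem_singleton x)
      exact this.symm
    obtain ⟨j, hj⟩ : ∃ j, orderOf x = p ^ j := by
      obtain ⟨j, hj⟩ := (IsPGroup.iff_orderOf.mp hNp) ⟨x, hxN⟩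
      exact ⟨j, by rw [← hj, Subgroup.orderOf_mk]⟩
    have hj0 : j ≠ 0 := by
      rintro rfl
      rw [pow_zero, orderOf_eq_one_iff] at hj
      exact hx1 hj
    have hcopo : Nat.Coprime (orderOf h) (orderOf x) := by
      rw [hho', hj]
      exact Nat.Coprime.pow_right j ((Nat.coprime_primes hq hp.out).mpr hqp)
    have hohx : orderOf (h * x) = q * p ^ j := by
      rw [hcomm.orderOf_mul_eq_mul_orderOf_of_coprime hcopo, hho', hj]
    have hnc : ¬ IsConj h (h * x) := by
      intro hconj
      obtain ⟨a, ha⟩ := isConj_iff.mp hconj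
      have : orderOf (h * x) = orderOf h := by
        rw [← ha, ← MulAut.conj_apply, MulEquiv.orderOf_eq]
      rw [hohx, hho'] at this
      have h2 : 1 < p ^ j := Nat.one_lt_pow hj0 hp.out.one_lt
      have hq0 := hq.pos
      nlinarith
    have hcol := column_orthogonality_aux h (h * x)
    rw [if_neg hnc] at hcol
    have hhN : h ∉ N' := by
      intro hh
      have h1 : orderOf h ∣ Nat.card N' := by
        have := orderOf_dvd_natCard (⟨h, hh⟩ : N')
        rwa [Subgroup.orderOf_mk] at this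
      rw [hho', hk] at h1
      exact hqp ((Nat.prime_dvd_prime_iff_eq hq hp.out).mp (hq.dvd_of_dvd_pow h1))
    have hχh : (χ : G → ℂ) h = 0 := by
      by_contra h0
      exact hhN ((hN h).mpr h0)
    have hterm : ∀ ψ : Cfsg.IrrCharacter G, (ψ : G → ℂ) h * conj ((ψ : G → ℂ) (h * x)) =
        ((Complex.normSq ((ψ : G → ℂ) h) : ℝ) : ℂ) := by
      intro ψ
      by_cases hψ : ψ = χ
      · subst hψ
        rw [hχh, zero_mul, map_zero, Complex.ofReal_zero]
      · have := IsCharacter.apply_mul_of_apply_eq_one (IsIrrCharacter.isCharacter ψ.2)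
          (hNker ψ hψ x hxN') h
        rw [this, Complex.mul_conj]
    rw [Finset.sum_congr rfl (fun ψ _ => hterm ψ), ← Complex.ofReal_sum] at hcol
    have hcol' : ∑ ψ : Cfsg.IrrCharacter G, Complex.normSq ((ψ : G → ℂ) h) = 0 := by
      exact_mod_cast hcol
    have hz := (Finset.sum_eq_zero_iff_of_nonneg (fun ψ _ => Complex.normSq_nonneg _)).mp hcol'
      ⟨fun _ => 1, isIrrCharacter_one⟩ (Finset.mem_univ _)
    simp at hz
  have hCpow : Nat.card (Subgroup.centralizer ({x} : Set G)) =
      p ^ (Nat.card (Subgroup.centralizer ({x} : Set G))).primeFactorsList.length :=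
    Nat.eq_prime_pow_of_unique_prime_dvd Nat.card_pos.ne' (fun {q} hq hd => hCp q hq hd)
  set m := (Nat.card (Subgroup.centralizer ({x} : Set G))).primeFactorsList.length with hm
  refine ⟨?_, ?_, hNcl⟩
  · rw [hCpow, ← hcc, hCpow, Nat.factorization_mul hcpos.ne' (pow_ne_zero _ hp.out.ne_zero)]
    simp only [Finsupp.coe_add, Pi.add_apply]
    rw [Nat.factorization_eq_zero_of_not_dvd ((Nat.Prime.coprime_iff_not_dvd hp.out).mp hcop.symm),
      hp.out.factorization_pow]
    simp
  · rw [← hc, hNcard]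

theorem gagola_inertia_card [Finite G] (x : G) (N : Subgroup G) [hNn : N.Normal]
    (hxN : x ∈ N) (hNcl : ∀ g ∈ N, g = 1 ∨ IsConj x g)
    (hcard : Nat.card {y : G // IsConj x y} + 1 = Nat.card N)
    (hcomm : ∀ a b : N, a * b = b * a)
    (μ : Cfsg.IrrCharacter N) (hμ : (μ : N → ℂ) ≠ fun _ => 1) :
    Nat.card {g : G // conjFun N (μ : N → ℂ) g = μ} =
      Nat.card (Subgroup.centralizer ({x} : Set G)) := by
  classical
  haveI := Fintype.ofFinite G
  haveI : Fintype N := Fintype.ofFinite N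
  set F : N → ℂ := ∑ g : G, conjFun N (μ : N → ℂ) g with hF
  have hμ1 : (μ : N → ℂ) 1 = 1 := comm_iff_forall_irr_degree_one.mp hcomm μ
  have hb : Cfsg.classInner F μ = (Nat.card {g : G // conjFun N (μ : N → ℂ) g = μ} : ℂ) := by
    rw [hF, classInner_sum_left]
    rw [Finset.sum_congr rfl (fun g _ => classInner_irr_ite (conjFun_isIrr N μ.2 g) μ.2)]
    rw [Finset.sum_boole, Nat.card_eq_fintype_card, Fintype.card_subtype]
  have hsum0 : ∑ n : N, (μ : N → ℂ) n = 0 := by
    have h := classInner_irr_ne μ.2 (isIrrCharacter_one (G := N)) hμ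
    rw [classInner_def] at h
    simp only [map_one, mul_one] at h
    have hN0 : (Nat.card N : ℂ)⁻¹ ≠ 0 := inv_ne_zero (Nat.cast_ne_zero.mpr Nat.card_pos.ne')
    exact (mul_eq_zero.mp h).resolve_left hN0
  have hF1 : F 1 = (Nat.card G : ℂ) := by
    rw [hF, Finset.sum_apply]
    have : ∀ g : G, conjFun N (μ : N → ℂ) g 1 = 1 := by
      intro g
      unfold conjFun
      rw [← hμ1]
      refine congrArg (μ : N → ℂ) (Subtype.ext ?_)
      simp
    rw [Finset.sum_congr rfl (fun g _ => this g)]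
    simp [Nat.card_eq_fintype_card]
  have hFc : ∀ n : N, n ≠ 1 → F n = F ⟨x, hxN⟩ := by
    intro n hn
    have hn' : (n : G) ≠ 1 := fun h => hn (Subtype.ext h)
    obtain ⟨a, ha⟩ := isConj_iff.mp ((hNcl n n.2).resolve_left hn')
    rw [hF, Finset.sum_apply, Finset.sum_apply]
    apply Fintype.sum_equiv (Equiv.mulRight a)
    intro g
    unfold conjFun
    refine congrArg (μ : N → ℂ) (Subtype.ext ?_)
    simp only [Equiv.coe_mulRight, ← ha, mul_inv_rev]
    group
  have hFsum : ∑ n : N, F n = 0 := by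
    rw [hF]
    simp only [Finset.sum_apply]
    rw [Finset.sum_comm]
    apply Finset.sum_eq_zero
    intro g _
    rw [← hsum0]
    apply Fintype.sum_equiv (MulAut.conjNormal g : N ≃* N).toEquiv
    intro n
    rfl
  have hcc := card_conj_mul_card_centralizer x
  set c := Nat.card {y : G // IsConj x y} with hc
  set C := Nat.card (Subgroup.centralizer ({x} : Set G)) with hC
  have hcpos : 0 < c := by
    haveI : Nonempty {y : G // IsConj x y} := ⟨⟨x, IsConj.refl x⟩⟩
    exact Nat.card_pos
  have hc0 : (c : ℂ) ≠ 0 := Nat.cast_ne_zero.mpr hcpos.ne'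
  have hNc : (Nat.card N : ℂ) = (c : ℂ) + 1 := by rw [← hcard]; push_cast; rfl
  have hGc : (Nat.card G : ℂ) = (c : ℂ) * (C : ℂ) := by rw [← hcc]; push_cast; rfl
  have hsplit : ∀ f : N → ℂ, ∑ n : N, f n = f 1 + ∑ n ∈ Finset.univ.erase (1 : N), f n := by
    intro f
    rw [Finset.add_sum_erase _ _ (Finset.mem_univ _)]
  have hcarderase : ((Finset.univ.erase (1 : N)).card : ℂ) = c := by
    rw [Finset.card_erase_of_mem (Finset.mem_univ _), Finset.card_univ,
      ← Nat.card_eq_fintype_card, ← hcard]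
    simp
  have hFx : F ⟨x, hxN⟩ = -(C : ℂ) := by
    have h1 := hsplit F
    rw [hFsum, hF1, Finset.sum_congr rfl (fun n hn => hFc n (Finset.ne_of_mem_erase hn)),
      Finset.sum_const, nsmul_eq_mul, hcarderase, hGc] at h1
    have h2 : (c : ℂ) * ((C : ℂ) + F ⟨x, hxN⟩) = 0 := by rw [mul_add]; exact h1.symm
    have h3 := (mul_eq_zero.mp h2).resolve_left hc0
    exact eq_neg_of_add_eq_zero_right h3
  have hconjsum : ∑ n ∈ Finset.univ.erase (1 : N), conj ((μ : N → ℂ) n) = -1 := by
    have h1 := hsplit (fun n => conj ((μ : N → ℂ) n))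
    rw [← map_sum, hsum0, hμ1, map_zero, map_one] at h1
    exact (eq_neg_of_add_eq_zero_right h1.symm)
  have hval : Cfsg.classInner F μ = (C : ℂ) := by
    rw [classInner_def, hsplit (fun n => F n * conj ((μ : N → ℂ) n))]
    rw [hF1, hμ1, map_one, mul_one,
      Finset.sum_congr rfl (fun n hn => by rw [hFc n (Finset.ne_of_mem_erase hn)]),
      ← Finset.mul_sum, hconjsum, hFx, hNc, hGc]
    have hc1 : (c : ℂ) + 1 ≠ 0 := by
      have : ((c + 1 : ℕ) : ℂ) ≠ 0 := Nat.cast_ne_zero.mpr (Nat.succ_ne_zero c)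
      push_cast at this
      exact this
    field_simp
  rw [hb] at hval
  exact_mod_cast hval

end Cfsg.Agent.Helper6
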