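import Mathlib
import Cfsg.Agent.Helper6.Gagola2

/-!
# Characters vanishing on all but two conjugacy classes: cosets, centralizers modulo `N`,
and the upper central series of a Sylow subgroup
-/

set_option autoImplicit false
set_option linter.style.haveILetI false

namespace Cfsg.Agent.Helper6

open Module Representation
open scoped ComplexConjugate Pointwise commutatorElement

universe u v

variable {G : Type u} [Group G]

theorem conj_eq_conj_iff_comm (a b z : G) :
    a * z * a⁻¹ = b * z * b⁻¹ ↔ z * (a⁻¹ * b) = (a⁻¹ * b) * z := by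
  constructor
  · intro h
    calc z * (a⁻¹ * b) = a⁻¹ * (a * z * a⁻¹) * b := by group
      _ = a⁻¹ * (b * z * b⁻¹) * b := by rw [h]
      _ = (a⁻¹ * b) * z := by group
  · intro h
    calc a * z * a⁻¹ = a * (z * (a⁻¹ * b)) * b⁻¹ := by group
      _ = a * ((a⁻¹ * b) * z) * b⁻¹ := by rw [h]
      _ = b * z * b⁻¹ := by group

/-- The map `h ↦ h z h⁻¹ z⁻¹` on the cosets of the centralizer of `z` in `H`. -/
noncomputable def commCosetMap (H : Subgroup G) (z : G) :
    H ⧸ (Subgroup.centralizer ({z} : Set G)).subgroupOf H → G :=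
  fun q => Quotient.liftOn' q (fun h => (h : G) * z * (h : G)⁻¹ * z⁻¹) (by
    intro a b hab
    rw [QuotientGroup.leftRel_apply, Subgroup.mem_subgroupOf,
      Subgroup.mem_centralizer_singleton_iff] at hab
    have := (conj_eq_conj_iff_comm (a : G) (b : G) z).mpr (by simpa using hab.symm)
    show (a : G) * z * (a : G)⁻¹ * z⁻¹ = (b : G) * z * (b : G)⁻¹ * z⁻¹
    rw [this])

theorem commCosetMap_mk (H : Subgroup G) (z : G) (h : H) :
    commCosetMap H z (QuotientGroup.mk h) = (h : G) * z * (h : G)⁻¹ * z⁻¹ := rfl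

theorem commCosetMap_injective (H : Subgroup G) (z : G) :
    Function.Injective (commCosetMap H z) := by
  intro q1 q2
  induction q1 using QuotientGroup.induction_on with
  | H a =>
    induction q2 using QuotientGroup.induction_on with
    | H b =>
      intro h
      rw [commCosetMap_mk, commCosetMap_mk] at h
      have h1 : (a : G) * z * (a : G)⁻¹ = (b : G) * z * (b : G)⁻¹ := mul_right_cancel h
      have h2 := (conj_eq_conj_iff_comm (a : G) (b : G) z).mp h1
      rw [QuotientGroup.eq, Subgroup.mem_subgroupOf, Subgroup.mem_centralizer_singleton_iff]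
      simpa using h2.symm

/-- Basic consequences of the two-class hypothesis, phrased for the given subgroup `N`. -/
theorem gagola_setup [Finite G] (hG : 2 < Nat.card G) (χ : Cfsg.IrrCharacter G)
    (hχ : Nat.card {C : ConjClasses G // ∃ g ∈ C.carrier, (χ : G → ℂ) g ≠ 0} = 2)
    (N : Subgroup G) (hN : ∀ g : G, g ∈ N ↔ (χ : G → ℂ) g ≠ 0) :
    (∀ ψ : Cfsg.IrrCharacter G, ψ ≠ χ → ∀ n ∈ N, (ψ : G → ℂ) n = (ψ : G → ℂ) 1) ∧
    (∀ K : Subgroup G, K.Normal → K ≠ ⊥ → N ≤ K) := by
  classical
  obtain ⟨x, hx1, hx0, hsupp⟩ := two_classes_extract χ hχ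
  obtain ⟨N', hNn, hxN', hNcl, hNker, -⟩ := gagola_core hG χ x hx1 hsupp
  have hχcf := IsCharacter.isClassFunction (IsIrrCharacter.isCharacter χ.2)
  have hNN' : N' = N := by
    ext g
    constructor
    · intro hg
      rw [hN]
      rcases hNcl g hg with rfl | h
      · exact IsIrrCharacter.apply_one_ne_zero χ.2
      · rw [← IsClassFunction.eq_of_isConj hχcf h]
        exact hx0
    · intro hg
      rcases hsupp g ((hN g).mp hg) with rfl | h
      · exact N'.one_mem
      · obtain ⟨a, ha⟩ := isConj_iff.mp h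
        rw [← ha]
        exact hNn.conj_mem x hxN' a
  subst hNN'
  refine ⟨hNker, ?_⟩
  obtain ⟨M, hMn, hM1, hMmin, -, hMχ, -⟩ := gagola_minimal_normal hG χ hχ
  have hMN : M = N' := by
    ext g
    rw [hN, hMχ]
  rw [← hMN]
  exact hMmin

/-- Every element of a coset `yN` with `y ∉ N` is conjugate to `y`. -/
theorem gagola_coset_conj [Finite G] (hG : 2 < Nat.card G) (χ : Cfsg.IrrCharacter G)
    (hχ : Nat.card {C : ConjClasses G // ∃ g ∈ C.carrier, (χ : G → ℂ) g ≠ 0} = 2)
    (N : Subgroup G) (hN : ∀ g : G, g ∈ N ↔ (χ : G → ℂ) g ≠ 0)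
    (y : G) (hy : y ∉ N) (n : G) (hn : n ∈ N) : IsConj y (y * n) := by
  classical
  haveI := Fintype.ofFinite G
  haveI : Finite (Cfsg.IrrCharacter G) := irr_finite
  haveI : Fintype (Cfsg.IrrCharacter G) := Fintype.ofFinite _
  obtain ⟨hNker, -⟩ := gagola_setup hG χ hχ N hN
  by_contra hnc
  have hcol := column_orthogonality_aux y (y * n)
  rw [if_neg hnc] at hcol
  have hχy : (χ : G → ℂ) y = 0 := by
    by_contra h0
    exact hy ((hN y).mpr h0)
  have hterm : ∀ ψ : Cfsg.IrrCharacter G, (ψ : G → ℂ) y * conj ((ψ : G → ℂ) (y * n)) =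
      ((Complex.normSq ((ψ : G → ℂ) y) : ℝ) : ℂ) := by
    intro ψ
    by_cases hψ : ψ = χ
    · subst hψ
      rw [hχy, zero_mul, map_zero, Complex.ofReal_zero]
    · have := IsCharacter.apply_mul_of_apply_eq_one (IsIrrCharacter.isCharacter ψ.2)
        (hNker ψ hψ n hn) y
      rw [this, Complex.mul_conj]
  rw [Finset.sum_congr rfl (fun ψ _ => hterm ψ), ← Complex.ofReal_sum] at hcol
  have hcol' : ∑ ψ : Cfsg.IrrCharacter G, Complex.normSq ((ψ : G → ℂ) y) = 0 := by
    exact_mod_cast hcol
  have hz := (Finset.sum_eq_zero_iff_of_nonneg (fun ψ _ => Complex.normSq_nonneg _)).mp hcol'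
    ⟨fun _ => 1, isIrrCharacter_one⟩ (Finset.mem_univ _)
  simp at hz

theorem mem_comap_centralizer_mk_iff (N : Subgroup G) [N.Normal] (y g : G) :
    g ∈ (Subgroup.centralizer ({(y : G ⧸ N)} : Set (G ⧸ N))).comap (QuotientGroup.mk' N) ↔
      g * y * g⁻¹ * y⁻¹ ∈ N := by
  rw [Subgroup.mem_comap, Subgroup.mem_centralizer_singleton_iff, ← QuotientGroup.eq_one_iff]
  simp only [QuotientGroup.mk'_apply, QuotientGroup.mk_mul, QuotientGroup.mk_inv]
  rw [mul_inv_eq_one, mul_inv_eq_iff_eq_mul]

/-- The preimage of the centralizer of `yN` has order `|N| * |C_{G/N}(yN)|`. -/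
theorem card_comap_centralizer_mk [Finite G] (N : Subgroup G) [N.Normal] (y : G) :
    Nat.card ((Subgroup.centralizer ({(y : G ⧸ N)} : Set (G ⧸ N))).comap (QuotientGroup.mk' N)) =
      Nat.card (Subgroup.centralizer ({(y : G ⧸ N)} : Set (G ⧸ N))) * Nat.card N := by
  set Cb := Subgroup.centralizer ({(y : G ⧸ N)} : Set (G ⧸ N)) with hCb
  have h1 := Subgroup.index_comap_of_surjective Cb (QuotientGroup.mk'_surjective N)
  have h2 := Subgroup.card_mul_index (Cb.comap (QuotientGroup.mk' N))
  have h3 := Subgroup.card_mul_index Cb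
  have h4 := Subgroup.card_eq_card_quotient_mul_card_subgroup N
  have h5 : Cb.index ≠ 0 := Subgroup.index_ne_zero_of_finite
  rw [h1] at h2
  have h6 : Nat.card (Cb.comap (QuotientGroup.mk' N)) * Cb.index =
      (Nat.card Cb * Nat.card N) * Cb.index := by
    rw [h2, h4, ← h3]
    ring
  exact Nat.eq_of_mul_eq_mul_right (Nat.pos_of_ne_zero h5) h6

/-- (a): for `y ∉ N` the centralizers of `y` in `G` and of `yN` in `G/N` have the same order. -/
theorem gagola_centralizer_quotient [Finite G] (hG : 2 < Nat.card G) (χ : Cfsg.IrrCharacter G)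
    (hχ : Nat.card {C : ConjClasses G // ∃ g ∈ C.carrier, (χ : G → ℂ) g ≠ 0} = 2)
    (N : Subgroup G) [hNn : N.Normal] (hN : ∀ g : G, g ∈ N ↔ (χ : G → ℂ) g ≠ 0)
    (y : G) (hy : y ∉ N) :
    Nat.card (Subgroup.centralizer ({y} : Set G)) =
      Nat.card (Subgroup.centralizer ({(y : G ⧸ N)} : Set (G ⧸ N))) := by
  classical
  set D := (Subgroup.centralizer ({(y : G ⧸ N)} : Set (G ⧸ N))).comap (QuotientGroup.mk' N)
    with hD
  set C := Subgroup.centralizer ({y} : Set G) with hC
  have hCD : C ≤ D := by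
    intro g hg
    rw [hD, mem_comap_centralizer_mk_iff]
    rw [hC, Subgroup.mem_centralizer_singleton_iff] at hg
    have : g * y * g⁻¹ * y⁻¹ = 1 := by
      rw [hg]
      group
    rw [this]
    exact N.one_mem
  have hmem : ∀ q, commCosetMap D y q ∈ N := by
    intro q
    induction q using QuotientGroup.induction_on with
    | H a =>
      rw [commCosetMap_mk]
      exact (mem_comap_centralizer_mk_iff N y a).mp a.2
  let f : D ⧸ C.subgroupOf D → N := fun q => ⟨commCosetMap D y q, hmem q⟩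
  have hfinj : Function.Injective f := by
    intro q1 q2 h
    exact commCosetMap_injective D y (congrArg Subtype.val h)
  have hfsurj : Function.Surjective f := by
    rintro ⟨n, hn⟩
    have hn' : y⁻¹ * n * y ∈ N := by
      have := hNn.conj_mem n hn y⁻¹
      simpa using this
    have hconj := gagola_coset_conj hG χ hχ N hN y hy _ hn'
    obtain ⟨g, hg⟩ := isConj_iff.mp hconj
    have hg' : g * y * g⁻¹ * y⁻¹ = n := by
      rw [hg]
      group
    have hgD : g ∈ D := by
      rw [hD, mem_comap_centralizer_mk_iff, hg']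
      exact hn
    refine ⟨QuotientGroup.mk ⟨g, hgD⟩, ?_⟩
    apply Subtype.ext
    show commCosetMap D y (QuotientGroup.mk ⟨g, hgD⟩) = n
    rw [commCosetMap_mk]
    exact hg'
  have h1 : Nat.card (D ⧸ C.subgroupOf D) = Nat.card N :=
    Nat.card_congr (Equiv.ofBijective f ⟨hfinj, hfsurj⟩)
  have h2 := Subgroup.card_eq_card_quotient_mul_card_subgroup (C.subgroupOf D)
  have h3 : Nat.card (C.subgroupOf D) = Nat.card C :=
    Nat.card_congr (Subgroup.subgroupOfEquivOfLe hCD).toEquiv
  have h4 := card_comap_centralizer_mk N y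
  rw [← hD] at h4
  rw [h1, h3, h4] at h2
  have hNpos : 0 < Nat.card N := Nat.card_pos
  have h5 : Nat.card (Subgroup.centralizer ({(y : G ⧸ N)} : Set (G ⧸ N))) * Nat.card N =
      Nat.card C * Nat.card N := by
    rw [h2]
    ring
  exact (Nat.eq_of_mul_eq_mul_right hNpos h5).symm

/-- Key lemma: if `z ∈ P ∖ N` has all commutators with `P` in `N`, then every element of `N`
is such a commutator. -/
theorem gagola_sylow_comm_surj [Finite G] (hG : 2 < Nat.card G) (χ : Cfsg.IrrCharacter G)
    (hχ : Nat.card {C : ConjClasses G // ∃ g ∈ C.carrier, (χ : G → ℂ) g ≠ 0} = 2)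
    (p : ℕ) [hp : Fact p.Prime]
    (N : Subgroup G) [hNn : N.Normal] (hN : ∀ g : G, g ∈ N ↔ (χ : G → ℂ) g ≠ 0)
    (hNp : IsPGroup p N) (P : Sylow p G)
    (z : G) (hz : z ∉ N) (hcomm : ∀ g ∈ (P : Subgroup G), g * z * g⁻¹ * z⁻¹ ∈ N)
    (n : G) (hn : n ∈ N) : ∃ g ∈ (P : Subgroup G), g * z * g⁻¹ * z⁻¹ = n := by
  classical
  set D := (Subgroup.centralizer ({(z : G ⧸ N)} : Set (G ⧸ N))).comap (QuotientGroup.mk' N)
    with hD
  set C := Subgroup.centralizer ({z} : Set G) with hC
  set K := C.subgroupOf (P : Subgroup G) with hK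
  have hDcard : Nat.card D = Nat.card C * Nat.card N := by
    rw [hD, card_comap_centralizer_mk N z, ← gagola_centralizer_quotient hG χ hχ N hN z hz]
  have hDG : Nat.card D ∣ Nat.card G := Subgroup.card_subgroup_dvd_card D
  have hKC : Nat.card K ∣ Nat.card C := by
    let φ : K →* C :=
      { toFun := fun k => ⟨((k : (P : Subgroup G)) : G), Subgroup.mem_subgroupOf.mp k.2⟩
        map_one' := rfl
        map_mul' := fun _ _ => rfl }
    apply Subgroup.card_dvd_of_injective φ
    intro a b hab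
    have := congrArg (fun c : C => (c : G)) hab
    exact Subtype.ext (Subtype.ext this)
  have hKp : IsPGroup p K := P.isPGroup'.to_subgroup K
  obtain ⟨c, hc⟩ := IsPGroup.iff_card.mp hKp
  obtain ⟨a, ha⟩ := IsPGroup.iff_card.mp hNp
  have hPcard : Nat.card (P : Subgroup G) = p ^ (Nat.card G).factorization p :=
    Sylow.card_eq_multiplicity P
  have hdvd1 : p ^ (c + a) ∣ Nat.card G := by
    rw [pow_add, ← hc, ← ha]
    exact (Nat.mul_dvd_mul_right hKC _).trans (hDcard ▸ hDG)
  have hle : c + a ≤ (Nat.card G).factorization p :=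
    (hp.out.pow_dvd_iff_le_factorization Nat.card_pos.ne').mp hdvd1
  have hdvd2 : Nat.card K * Nat.card N ∣ Nat.card (P : Subgroup G) := by
    rw [hPcard, hc, ha, ← pow_add]
    exact pow_dvd_pow p hle
  have hquot := Subgroup.card_eq_card_quotient_mul_card_subgroup K
  have hKpos : 0 < Nat.card K := Nat.card_pos
  have hdvd3 : Nat.card N ∣ Nat.card ((P : Subgroup G) ⧸ K) := by
    rw [hquot, mul_comm (Nat.card K)] at hdvd2
    exact Nat.dvd_of_mul_dvd_mul_right hKpos hdvd2
  have hle2 : Nat.card N ≤ Nat.card ((P : Subgroup G) ⧸ K) :=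
    Nat.le_of_dvd Nat.card_pos hdvd3
  have hmem : ∀ q, commCosetMap (P : Subgroup G) z q ∈ N := by
    intro q
    induction q using QuotientGroup.induction_on with
    | H b =>
      rw [commCosetMap_mk]
      exact hcomm b b.2
  let f : (P : Subgroup G) ⧸ K → N := fun q => ⟨commCosetMap (P : Subgroup G) z q, hmem q⟩
  have hfinj : Function.Injective f := by
    intro q1 q2 h
    exact commCosetMap_injective (P : Subgroup G) z (congrArg Subtype.val h)
  have hfbij := hfinj.bijective_of_nat_card_le hle2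
  obtain ⟨q, hq⟩ := hfbij.2 ⟨n, hn⟩
  induction q using QuotientGroup.induction_on with
  | H b =>
    refine ⟨b, b.2, ?_⟩
    have := congrArg Subtype.val hq
    exact this

/-- (b), first half: the centre of a Sylow `p`-subgroup lies in `N`. -/
theorem gagola_center_le [Finite G] (hG : 2 < Nat.card G) (χ : Cfsg.IrrCharacter G)
    (hχ : Nat.card {C : ConjClasses G // ∃ g ∈ C.carrier, (χ : G → ℂ) g ≠ 0} = 2)
    (p : ℕ) [hp : Fact p.Prime]
    (N : Subgroup G) [hNn : N.Normal] (hN : ∀ g : G, g ∈ N ↔ (χ : G → ℂ) g ≠ 0)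
    (hNp : IsPGroup p N) (hN1 : N ≠ ⊥) (P : Sylow p G) :
    (Subgroup.center ↥(P : Subgroup G)).map (P : Subgroup G).subtype ≤ N := by
  rintro _ ⟨z, hz, rfl⟩
  by_contra hzN
  apply hN1
  rw [eq_bot_iff]
  intro n hn
  have hcomm : ∀ g ∈ (P : Subgroup G), g * (z : G) * g⁻¹ * (z : G)⁻¹ ∈ N := by
    intro g hg
    have h1 := Subgroup.mem_center_iff.mp hz ⟨g, hg⟩
    have h2 : g * (z : G) = (z : G) * g := congrArg Subtype.val h1
    have : g * (z : G) * g⁻¹ * (z : G)⁻¹ = 1 := by
      rw [h2]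
      group
    rw [this]
    exact N.one_mem
  obtain ⟨g, hg, hgn⟩ := gagola_sylow_comm_surj hG χ hχ p N hN hNp P z hzN hcomm n hn
  have h1 := Subgroup.mem_center_iff.mp hz ⟨g, hg⟩
  have h2 : g * (z : G) = (z : G) * g := congrArg Subtype.val h1
  rw [Subgroup.mem_bot, ← hgn, h2]
  group

/-- (c): `N` is a term of the upper central series of a Sylow `p`-subgroup. -/
theorem gagola_upperCentralSeries [Finite G] (hG : 2 < Nat.card G) (χ : Cfsg.IrrCharacter G)
    (hχ : Nat.card {C : ConjClasses G // ∃ g ∈ C.carrier, (χ : G → ℂ) g ≠ 0} = 2)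
    (p : ℕ) [hp : Fact p.Prime]
    (N : Subgroup G) [hNn : N.Normal] (hN : ∀ g : G, g ∈ N ↔ (χ : G → ℂ) g ≠ 0)
    (hNp : IsPGroup p N) (P : Sylow p G) :
    ∃ i : ℕ, Subgroup.upperCentralSeries ↥(P : Subgroup G) i = N.subgroupOf (P : Subgroup G) := by
  by_contra hne
  simp only [not_exists] at hne
  have key : ∀ i : ℕ, Subgroup.upperCentralSeries ↥(P : Subgroup G) i ≤
      N.subgroupOf (P : Subgroup G) := by
    intro i
    induction i with
    | zero =>
      rw [Subgroup.upperCentralSeries_zero]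
      exact bot_le
    | succ i ih =>
      intro z hz
      by_contra hzN
      rw [Subgroup.mem_subgroupOf] at hzN
      rw [Subgroup.mem_upperCentralSeries_succ_iff] at hz
      have hform : ∀ g : (P : Subgroup G),
          (g : G) * (z : G) * (g : G)⁻¹ * (z : G)⁻¹ = ((⁅z, g⁆⁻¹ : (P : Subgroup G)) : G) := by
        intro g
        rw [commutatorElement_def]
        push_cast
        group
      have hcomm : ∀ g ∈ (P : Subgroup G), g * (z : G) * g⁻¹ * (z : G)⁻¹ ∈ N := by
        intro g hg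
        have h1 := ih (inv_mem (hz ⟨g, hg⟩))
        rw [Subgroup.mem_subgroupOf, ← hform ⟨g, hg⟩] at h1
        exact h1
      apply hne i
      apply le_antisymm ih
      intro n hn
      rw [Subgroup.mem_subgroupOf] at hn
      obtain ⟨g, hg, hgn⟩ := gagola_sylow_comm_surj hG χ hχ p N hN hNp P z hzN hcomm n hn
      have h1 := inv_mem (hz ⟨g, hg⟩)
      have h2 : (⁅z, (⟨g, hg⟩ : (P : Subgroup G))⁆⁻¹ : (P : Subgroup G)) = n := by
        apply Subtype.ext
        rw [← hform ⟨g, hg⟩]
        exact hgn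
      rw [h2] at h1
      exact h1
  haveI : Group.IsNilpotent ↥(P : Subgroup G) := P.isPGroup'.isNilpotent
  obtain ⟨n, hn⟩ := Group.IsNilpotent.nilpotent' (G := ↥(P : Subgroup G))
  apply hne n
  apply le_antisymm (key n)
  rw [hn]
  exact le_top

/-- (b), second half: the centre of a Sylow `p`-subgroup equals `N` exactly when the Sylow
subgroup is normal. -/
theorem gagola_center_eq_iff [Finite G] (hG : 2 < Nat.card G) (χ : Cfsg.IrrCharacter G)
    (hχ : Nat.card {C : ConjClasses G // ∃ g ∈ C.carrier, (χ : G → ℂ) g ≠ 0} = 2)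
    (p : ℕ) [hp : Fact p.Prime]
    (N : Subgroup G) [hNn : N.Normal] (hN : ∀ g : G, g ∈ N ↔ (χ : G → ℂ) g ≠ 0)
    (hNp : IsPGroup p N) (hN1 : N ≠ ⊥) (P : Sylow p G) :
    (Subgroup.center ↥(P : Subgroup G)).map (P : Subgroup G).subtype = N ↔
      (P : Subgroup G).Normal := by
  classical
  constructor
  · intro hZ
    obtain ⟨x0, hx01, hx00, hsupp0⟩ := two_classes_extract χ hχ
    have hsuppx : ∀ x ∈ N, x ≠ 1 → ∀ g : G, (χ : G → ℂ) g ≠ 0 → g = 1 ∨ IsConj x g := by
      intro x hx hx1 g hg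
      rcases hsupp0 g hg with h | h
      · exact Or.inl h
      · right
        have hx0x : IsConj x0 x := (hsupp0 x ((hN x).mp hx)).resolve_left hx1
        exact hx0x.symm.trans h
    have hcent : ∀ x ∈ N, x ≠ 1 → Subgroup.centralizer ({x} : Set G) = (P : Subgroup G) := by
      intro x hx hx1
      obtain ⟨h1, -, -⟩ := gagola_centralizer_card hG χ x hx1 (hsuppx x hx hx1) p N hN hNp hx
      have hle : (P : Subgroup G) ≤ Subgroup.centralizer ({x} : Set G) := by
        intro g hg
        rw [← hZ] at hx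
        obtain ⟨z, hz, rfl⟩ := hx
        rw [Subgroup.mem_centralizer_singleton_iff]
        have h2 := Subgroup.mem_center_iff.mp hz ⟨g, hg⟩
        exact congrArg Subtype.val h2
      have hcard : Nat.card (Subgroup.centralizer ({x} : Set G)) ≤ Nat.card (P : Subgroup G) := by
        rw [h1, Sylow.card_eq_multiplicity P]
      exact (Subgroup.eq_of_le_of_card_ge hle hcard).symm
    obtain ⟨⟨x, hxN⟩, hx1'⟩ := (Subgroup.ne_bot_iff_exists_ne_one).mp hN1
    have hx1 : x ≠ 1 := fun h => hx1' (Subtype.ext h)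
    refine ⟨fun h hh g => ?_⟩
    have hx' : g * x * g⁻¹ ∈ N := hNn.conj_mem x hxN g
    have hx'1 : g * x * g⁻¹ ≠ 1 := by
      intro h1
      apply hx1
      have : x = g⁻¹ * (g * x * g⁻¹) * g := by group
      rw [this, h1]
      group
    rw [← hcent _ hx' hx'1, Subgroup.mem_centralizer_singleton_iff]
    rw [← hcent x hxN hx1, Subgroup.mem_centralizer_singleton_iff] at hh
    calc g * h * g⁻¹ * (g * x * g⁻¹) = g * (h * x) * g⁻¹ := by group
      _ = g * (x * h) * g⁻¹ := by rw [hh]
      _ = g * x * g⁻¹ * (g * h * g⁻¹) := by group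
  · intro hPn
    haveI := hPn
    apply le_antisymm (gagola_center_le hG χ hχ p N hN hNp hN1 P)
    obtain ⟨-, hmin⟩ := gagola_setup hG χ hχ N hN
    apply hmin _ inferInstance
    have hNP : N ≤ (P : Subgroup G) := by
      have h1 : IsPGroup p (N ⊔ (P : Subgroup G) : Subgroup G) :=
        hNp.to_sup_of_normal_left P.isPGroup'
      have h2 := P.is_maximal' h1 le_sup_right
      calc N ≤ N ⊔ (P : Subgroup G) := le_sup_left
        _ = P := h2
    haveI : Nontrivial ↥(P : Subgroup G) := by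
      obtain ⟨⟨x, hxN⟩, hx1'⟩ := (Subgroup.ne_bot_iff_exists_ne_one).mp hN1
      refine ⟨⟨⟨x, hNP hxN⟩, 1, ?_⟩⟩
      intro h
      apply hx1'
      apply Subtype.ext
      exact congrArg (fun t : ↥(P : Subgroup G) => (t : G)) h
    haveI := P.isPGroup'.center_nontrivial
    obtain ⟨⟨z, hz⟩, hz1⟩ := exists_ne (1 : Subgroup.center ↥(P : Subgroup G))
    intro hbot
    apply hz1
    have : (z : G) ∈ (Subgroup.center ↥(P : Subgroup G)).map (P : Subgroup G).subtype :=
      ⟨z, hz, rfl⟩
    rw [hbot, Subgroup.mem_bot] at this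
    apply Subtype.ext
    apply Subtype.ext
    exact this

end Cfsg.Agent.Helper6
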