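import Mathlib
import Cfsg.Prelude.Def_Characters
import Cfsg.Prelude.Def_Blocks
import Cfsg.Prelude.Def_CharExt
import Cfsg.Agent.Helper6.GalMcA
import Cfsg.Agent.Helper6.PPartBasic
import Cfsg.Agent.Helper6.PrincipalSection3
import Cfsg.Agent.Helper6.Linear
import Cfsg.Agent.Helper6.Gallagher
import Cfsg.Agent.Helper6.GallagherProd
import Cfsg.Agent.Helper6.MGroup
import Cfsg.Agent.Helper6.OddReal

/-!
# Linear characters of a cyclic `p`-quotient and the power map `g ↦ g ^ k`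
(`k ≡ 1 + p` on `p`-elements, `k ≡ 1` on `p'`-elements)
-/

set_option autoImplicit false
set_option linter.style.haveILetI false

namespace Cfsg.Agent.Helper6

open scoped ComplexConjugate

universe u

variable {G : Type u} [Group G]

/-- The exponent `k` is coprime to the group order. -/
theorem coprime_of_pow_conditions [Finite G] (p : ℕ) [hp : Fact p.Prime] (k : ℕ)
    (hk₁ : ∀ g : G, (∃ j : ℕ, orderOf g = p ^ j) → g ^ k = g ^ (1 + p))
    (hk₂ : ∀ g : G, Nat.Coprime (orderOf g) p → g ^ k = g) : k.Coprime (Nat.card G) := by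
  apply Nat.coprime_of_dvd
  intro q hq hqk hqG
  haveI : Fact q.Prime := ⟨hq⟩
  obtain ⟨g, hg⟩ := exists_prime_orderOf_dvd_card' (G := G) q hqG
  have hgk : g ^ k = 1 := by
    obtain ⟨c, rfl⟩ := hqk
    rw [pow_mul, ← hg, pow_orderOf_eq_one, one_pow]
  have hg1 : g ≠ 1 := by
    intro h
    rw [h, orderOf_one] at hg
    exact hq.one_lt.ne hg
  by_cases hqp : q = p
  · have h1 := hk₁ g ⟨1, by rw [hg, hqp, pow_one]⟩
    rw [hgk, pow_add, pow_one, ← hqp, ← hg, pow_orderOf_eq_one, mul_one] at h1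
    exact hg1 h1.symm
  · have h1 := hk₂ g (by rw [hg]; exact (Nat.coprime_primes hq hp.out).mpr hqp)
    rw [hgk] at h1
    exact hg1 h1.symm

section hom

variable [Finite G] (p : ℕ) [hp : Fact p.Prime] (N : Subgroup G) [hN : N.Normal]
  (hidx : ∃ a : ℕ, N.index = p ^ a) (k : ℕ)
  (hk₁ : ∀ g : G, (∃ j : ℕ, orderOf g = p ^ j) → g ^ k = g ^ (1 + p))
  (hk₂ : ∀ g : G, Nat.Coprime (orderOf g) p → g ^ k = g)

include hidx hk₁ hk₂ in
/-- A linear character trivial on `N` satisfies `ν (g ^ k) = ν (g_p) ^ (1 + p)`. -/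
theorem hom_pow_decomp (ν : G →* ℂˣ) (hν : N ≤ ν.ker) (g : G) :
    ∃ x : G, (∃ j : ℕ, orderOf x = p ^ j) ∧ ν g = ν x ∧ ν (g ^ k) = ν x ^ (1 + p) := by
  obtain ⟨x, y, hxy, hcomm, hx, hy⟩ := exists_isPPart p g
  have hyN : y ∈ N := mem_of_pRegular_of_index N hidx y hy
  have hνy : ν y = 1 := hν hyN
  refine ⟨x, hx, ?_, ?_⟩
  · rw [← hxy, map_mul, hνy, mul_one]
  · have hyk : y ^ k = y := hk₂ y ((Nat.Prime.coprime_iff_not_dvd hp.out).mpr hy).symm
    rw [← hxy, hcomm.mul_pow, hk₁ x hx, hyk, map_mul, hνy, mul_one, map_pow]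

include hidx hk₁ hk₂ in
theorem hom_pow_fixed_of_pow_p (ν : G →* ℂˣ) (hν : N ≤ ν.ker) (hp1 : ∀ g : G, ν g ^ p = 1)
    (g : G) : ν (g ^ k) = ν g := by
  obtain ⟨x, -, h1, h2⟩ := hom_pow_decomp p N hidx k hk₁ hk₂ ν hν g
  rw [h2, h1, pow_add, pow_one, hp1 x, mul_one]

include hidx hk₁ hk₂ in
theorem hom_pow_p_of_fixed (ν : G →* ℂˣ) (hν : N ≤ ν.ker) (hfix : ∀ g : G, ν (g ^ k) = ν g)
    (g : G) : ν g ^ p = 1 := by
  obtain ⟨x, hx, h1, -⟩ := hom_pow_decomp p N hidx k hk₁ hk₂ ν hν g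
  have h3 := hfix x
  rw [hk₁ x hx, map_pow, pow_add, pow_one] at h3
  rw [h1]
  exact mul_left_cancel (a := ν x) (by rw [h3, mul_one])

end hom

section pPowerSub

variable [Finite G] (p : ℕ) [hp : Fact p.Prime] (N : Subgroup G) [hN : N.Normal]

/-- For a cyclic quotient `G/N` of order `p ^ a` with `a ≥ 1` there is a normal subgroup `N₁ ⊇ N`
of index `p` such that a linear character trivial on `N` is trivial on `N₁` iff its `p`-th
power is trivial. -/
theorem exists_index_p_sub (hcyc : IsCyclic (G ⧸ N)) (hnt : N ≠ ⊤)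
    (hidx : ∃ a : ℕ, N.index = p ^ a) :
    ∃ N₁ : Subgroup G, N₁.Normal ∧ N ≤ N₁ ∧ N₁.index = p ∧
      ∀ ν : G →* ℂˣ, N ≤ ν.ker → (N₁ ≤ ν.ker ↔ ∀ g : G, ν g ^ p = 1) := by
  classical
  obtain ⟨a, ha⟩ := hidx
  have ha0 : a ≠ 0 := by
    intro h
    rw [h, pow_zero] at ha
    exact hnt (Subgroup.index_eq_one.mp ha)
  letI : CommGroup (G ⧸ N) := IsCyclic.commGroup
  obtain ⟨q₀, hq₀⟩ := IsCyclic.exists_generator (α := G ⧸ N)
  obtain ⟨g₀, rfl⟩ := QuotientGroup.mk_surjective q₀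
  have hcardQ : Nat.card (G ⧸ N) = p ^ a := by rw [← ha]; rfl
  have hord : orderOf (g₀ : G ⧸ N) = p ^ a := by
    rw [orderOf_eq_card_of_forall_mem_zpowers hq₀, hcardQ]
  let Z : Subgroup (G ⧸ N) := Subgroup.zpowers ((g₀ : G ⧸ N) ^ p)
  haveI : Z.Normal := Subgroup.normal_of_isMulCommutative Z
  refine ⟨Z.comap (QuotientGroup.mk' N), inferInstance, ?_, ?_, ?_⟩
  · intro n hn
    rw [Subgroup.mem_comap]
    have : (QuotientGroup.mk' N) n = 1 := (QuotientGroup.eq_one_iff n).mpr hn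
    rw [this]
    exact Z.one_mem
  · rw [Subgroup.index_comap_of_surjective _ (QuotientGroup.mk'_surjective N)]
    have h1 : Nat.card Z = p ^ (a - 1) := by
      rw [Nat.card_zpowers, orderOf_pow, hord]
      have : Nat.gcd (p ^ a) p = p := by
        apply Nat.gcd_eq_right
        exact dvd_pow_self p ha0
      rw [this]
      obtain ⟨b, rfl⟩ := Nat.exists_eq_succ_of_ne_zero ha0
      rw [pow_succ, Nat.mul_div_cancel _ hp.out.pos]
      rfl
    have h2 := Subgroup.card_mul_index Z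
    rw [h1, hcardQ] at h2
    obtain ⟨b, rfl⟩ := Nat.exists_eq_succ_of_ne_zero ha0
    have h3 : p ^ (b + 1 - 1) * Z.index = p ^ (b + 1 - 1) * p := by
      rw [h2]
      simp only [Nat.add_sub_cancel]
      rw [pow_succ]
    exact Nat.eq_of_mul_eq_mul_left (pow_pos hp.out.pos _) h3
  · intro ν hν
    -- every element is `g₀ ^ i` modulo `N`
    have hrep : ∀ g : G, ∃ i : ℤ, ν g = ν g₀ ^ i := by
      intro g
      obtain ⟨i, hi⟩ := hq₀ (g : G ⧸ N)
      refine ⟨i, ?_⟩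
      have h1 : ((g₀ ^ i : G) : G ⧸ N) = (g : G ⧸ N) := by
        rw [QuotientGroup.mk_zpow]; exact hi
      have h2 : (g₀ ^ i)⁻¹ * g ∈ N := QuotientGroup.eq.mp h1
      have h3 : ν ((g₀ ^ i)⁻¹ * g) = 1 := hν h2
      rw [map_mul, map_inv, map_zpow] at h3
      rw [← mul_one (ν g₀ ^ i), ← h3, mul_inv_cancel_left]
    constructor
    · intro hle g
      have hg₀ : ν (g₀ ^ p) = 1 := by
        apply hle
        rw [Subgroup.mem_comap]
        show ((g₀ ^ p : G) : G ⧸ N) ∈ Z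
        rw [QuotientGroup.mk_pow]
        exact Subgroup.mem_zpowers _
      rw [map_pow] at hg₀
      obtain ⟨i, hi⟩ := hrep g
      rw [hi, ← zpow_natCast, ← zpow_mul, mul_comm, zpow_mul, zpow_natCast, hg₀, one_zpow]
    · intro hall g hg
      rw [Subgroup.mem_comap] at hg
      obtain ⟨j, hj⟩ := Subgroup.mem_zpowers_iff.mp hg
      have h1 : (((g₀ ^ p) ^ j : G) : G ⧸ N) = (g : G ⧸ N) := by
        rw [QuotientGroup.mk_zpow, QuotientGroup.mk_pow]; exact hj
      have h2 : ((g₀ ^ p) ^ j)⁻¹ * g ∈ N := QuotientGroup.eq.mp h1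
      have h3 : ν (((g₀ ^ p) ^ j)⁻¹ * g) = 1 := hν h2
      rw [map_mul, map_inv, map_zpow, map_pow, hall g₀, one_zpow, inv_one, one_mul] at h3
      exact h3

end pPowerSub

end Cfsg.Agent.Helper6
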