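import Mathlib
import Cfsg.Prelude.Def_Characters
import Cfsg.Prelude.Def_Blocks
import Cfsg.Prelude.Def_CharExt
import Cfsg.Agent.Helper6.GalMcB
import Cfsg.Agent.Helper6.CycTIB

/-!
# Counting the extensions of an invariant character that are fixed by the power map
-/

set_option autoImplicit false
set_option linter.style.haveILetI false

namespace Cfsg.Agent.Helper6

open scoped ComplexConjugate

universe u

variable {G : Type u} [Group G]

/-- A linear character trivial on `N` lies over the trivial character of `N`. -/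
theorem hom_mem_over_trivial [Fintype G] (N : Subgroup G) [hN : N.Normal] [Fintype N]
    (ν : G →* ℂˣ) (hν : N ≤ ν.ker) :
    (fun g => ((ν g : ℂˣ) : ℂ)) ∈ {β : G → ℂ | Cfsg.IsIrrCharacter G β ∧
      Cfsg.classInner (Cfsg.indFun N (fun _ : N => (1 : ℂ))) β ≠ 0} := by
  refine ⟨isIrrCharacter_of_hom ν, ?_⟩
  rw [frobenius_reciprocity N _ _
    (IsCharacter.isClassFunction (IsIrrCharacter.isCharacter (isIrrCharacter_of_hom ν)))]
  have h1 : (fun h : N => ((ν (h : G) : ℂˣ) : ℂ)) = fun _ : N => (1 : ℂ) := by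
    funext n
    have : ν (n : G) = 1 := hν n.2
    rw [this, Units.val_one]
  rw [h1, classInner_irr_self isIrrCharacter_one]
  exact one_ne_zero

/-- An irreducible character over the trivial character of a normal subgroup with abelian
quotient is a linear character trivial on the subgroup. -/
theorem exists_hom_of_over_trivial [Fintype G] (N : Subgroup G) [hN : N.Normal] [Fintype N]
    (hab : ∀ a b : G, a * b * a⁻¹ * b⁻¹ ∈ N) (β : G → ℂ) (hβ : Cfsg.IsIrrCharacter G β)
    (hβne : Cfsg.classInner (Cfsg.indFun N (fun _ : N => (1 : ℂ))) β ≠ 0) :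
    ∃ ν : G →* ℂˣ, N ≤ ν.ker ∧ β = fun g => ((ν g : ℂˣ) : ℂ) := by
  classical
  have hβB : ∀ n ∈ N, β n = β 1 := by
    by_contra hcon
    have hsum := sum_coset_irr N hβ 1
    rw [if_neg hcon] at hsum
    apply hβne
    rw [frobenius_reciprocity N _ β
      (IsCharacter.isClassFunction (IsIrrCharacter.isCharacter hβ)), classInner_def]
    have : ∑ g : N, (fun _ : N => (1 : ℂ)) g * conj ((fun b : N => β b) g) =
        conj (∑ n : N, β (1 * n)) := by
      rw [map_sum]
      apply Finset.sum_congr rfl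
      intro n _
      simp
    rw [this, hsum, map_zero, mul_zero]
  have hβ1 : β 1 = 1 := by
    apply irr_degree_one_of_commutators hβ
    intro a b
    exact hβB _ (hab a b)
  obtain ⟨ν, hν⟩ := exists_hom_of_irr_degree_one hβ hβ1
  refine ⟨ν, ?_, hν⟩
  intro n hn
  rw [MonoidHom.mem_ker]
  apply Units.ext
  have h1 := hβB n hn
  rw [hβ1, hν] at h1
  rw [Units.val_one]
  exact h1

/-- **The fixed extensions.** If `G/N` is a nontrivial cyclic `p`-group and `θ` is an invariant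
irreducible character of `N` of degree and determinantal order prime to `p` fixed by the power
map, then exactly `p` extensions of `θ` to `G` are fixed by the power map. -/
theorem card_fixed_ext [Fintype G] (p : ℕ) [hp : Fact p.Prime] (N : Subgroup G) [hN : N.Normal]
    [Fintype N] (hidx : ∃ a : ℕ, N.index = p ^ a) (hcyc : IsCyclic (G ⧸ N)) (hnt : N ≠ ⊤)
    (k : ℕ) (hk₁ : ∀ g : G, (∃ j : ℕ, orderOf g = p ^ j) → g ^ k = g ^ (1 + p))
    (hk₂ : ∀ g : G, Nat.Coprime (orderOf g) p → g ^ k = g)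
    (θ : N → ℂ) (hθ : Cfsg.IsIrrCharacter N θ)
    (hinv : ∀ (g : G) (n : N), θ ⟨g * n * g⁻¹, hN.conj_mem (n : G) n.2 g⟩ = θ n)
    (hdeg : ¬ p ∣ Cfsg.charDegree θ) (hdet : ¬ p ∣ Cfsg.detOrder θ)
    (hθk : ∀ n : N, θ (n ^ k) = θ n) :
    Nat.card {χ : Cfsg.IrrCharacter G // (∀ n : N, (χ : G → ℂ) n = θ n) ∧
      ∀ g : G, (χ : G → ℂ) (g ^ k) = (χ : G → ℂ) g} = p := by
  classical
  have hk : k.Coprime (Nat.card G) := coprime_of_pow_conditions p k hk₁ hk₂
  obtain ⟨χh, hχh, hχres, -, hχk⟩ :=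
    exists_canonical_ext_pow_fixed p N hidx θ hθ hinv hdeg hdet k hk hθk
  obtain ⟨N₁, hN₁n, hNN₁, hN₁idx, hN₁⟩ := exists_index_p_sub p N hcyc hnt hidx
  haveI := hN₁n
  -- commutators lie in `N`
  have hab : ∀ a b : G, a * b * a⁻¹ * b⁻¹ ∈ N := by
    intro a b
    rw [← QuotientGroup.eq_one_iff]
    simp only [QuotientGroup.mk_mul, QuotientGroup.mk_inv]
    have hcomm : ∀ x y : G ⧸ N, x * y = y * x :=
      isMulCommutative_iff.mp IsCyclic.isMulCommutative
    rw [hcomm (a : G ⧸ N) b]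
    group
  -- Gallagher
  have hresfun : (fun n : N => χh n) = θ := funext hχres
  have hmul : (fun _ : N => (1 : ℂ)) * θ = θ := by
    funext b; simp
  have hbij := mul_ext_bijOn N (fun _ : N => (1 : ℂ)) θ isIrrCharacter_one (fun _ _ => rfl) hinv
    (by rw [hmul]; exact hθ) χh hχh hχres
  rw [hmul] at hbij
  -- the map from linear characters of `G / N₁`
  have hlin : ∀ ν' : G ⧸ N₁ →* ℂˣ, N ≤ (ν'.comp (QuotientGroup.mk' N₁)).ker ∧
      ∀ g : G, (ν'.comp (QuotientGroup.mk' N₁)) g ^ p = 1 := by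
    intro ν'
    have h1 : N₁ ≤ (ν'.comp (QuotientGroup.mk' N₁)).ker := by
      intro g hg
      rw [MonoidHom.mem_ker, MonoidHom.comp_apply]
      have : (QuotientGroup.mk' N₁) g = 1 := (QuotientGroup.eq_one_iff g).mpr hg
      rw [this, map_one]
    have h2 : N ≤ (ν'.comp (QuotientGroup.mk' N₁)).ker := le_trans hNN₁ h1
    exact ⟨h2, (hN₁ _ h2).mp h1⟩
  let Φ : (G ⧸ N₁ →* ℂˣ) → {χ : Cfsg.IrrCharacter G // (∀ n : N, (χ : G → ℂ) n = θ n) ∧
      ∀ g : G, (χ : G → ℂ) (g ^ k) = (χ : G → ℂ) g} := fun ν' =>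
    ⟨⟨(fun g => (((ν'.comp (QuotientGroup.mk' N₁)) g : ℂˣ) : ℂ)) * χh,
      (hbij.mapsTo (hom_mem_over_trivial N _ (hlin ν').1)).1⟩, by
      constructor
      · intro n
        show (((ν'.comp (QuotientGroup.mk' N₁)) (n : G) : ℂˣ) : ℂ) * χh n = θ n
        have : (ν'.comp (QuotientGroup.mk' N₁)) (n : G) = 1 := (hlin ν').1 n.2
        rw [this, Units.val_one, one_mul, hχres]
      · intro g
        show (((ν'.comp (QuotientGroup.mk' N₁)) (g ^ k) : ℂˣ) : ℂ) * χh (g ^ k) =
          (((ν'.comp (QuotientGroup.mk' N₁)) g : ℂˣ) : ℂ) * χh g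
        rw [hom_pow_fixed_of_pow_p p N hidx k hk₁ hk₂ _ (hlin ν').1 (hlin ν').2 g, hχk]⟩
  have hΦinj : Function.Injective Φ := by
    intro ν₁ ν₂ h
    have h1 : (fun g => (((ν₁.comp (QuotientGroup.mk' N₁)) g : ℂˣ) : ℂ)) * χh =
        (fun g => (((ν₂.comp (QuotientGroup.mk' N₁)) g : ℂˣ) : ℂ)) * χh :=
      congrArg (fun x => ((x.1 : Cfsg.IrrCharacter G) : G → ℂ)) h
    have h2 := hbij.injOn (hom_mem_over_trivial N _ (hlin ν₁).1)
      (hom_mem_over_trivial N _ (hlin ν₂).1) h1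
    apply MonoidHom.ext
    intro q
    obtain ⟨g, rfl⟩ := QuotientGroup.mk'_surjective N₁ q
    apply Units.ext
    exact congrFun h2 g
  have hΦsurj : Function.Surjective Φ := by
    rintro ⟨χ, hχ1, hχ2⟩
    have hχmem : (χ : G → ℂ) ∈ {ψ : G → ℂ | Cfsg.IsIrrCharacter G ψ ∧
        Cfsg.classInner (Cfsg.indFun N θ) ψ ≠ 0} := by
      refine ⟨χ.2, ?_⟩
      rw [frobenius_reciprocity N θ _
        (IsCharacter.isClassFunction (IsIrrCharacter.isCharacter χ.2))]
      have : (fun h : N => (χ : G → ℂ) h) = θ := funext hχ1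
      rw [this, classInner_irr_self hθ]
      exact one_ne_zero
    obtain ⟨β, ⟨hβ, hβne⟩, hβχ⟩ := hbij.surjOn hχmem
    obtain ⟨ν, hνN, hνβ⟩ := exists_hom_of_over_trivial N hab β hβ hβne
    -- `ν` is fixed by the power map
    have hfix : ∀ g : G, ν (g ^ k) = ν g := by
      have hνk : N ≤ (ν ^ k).ker := by
        intro n hn
        rw [MonoidHom.mem_ker, MonoidHom.pow_apply]
        have : ν n = 1 := hνN hn
        rw [this, one_pow]
      have h1 : (fun g => (((ν ^ k) g : ℂˣ) : ℂ)) * χh = (fun g => ((ν g : ℂˣ) : ℂ)) * χh := by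
        funext g
        have h2 := hχ2 g
        have h3 : (χ : G → ℂ) = β * χh := hβχ.symm
        rw [h3, hνβ] at h2
        simp only [Pi.mul_apply] at h2 ⊢
        rw [hχk] at h2
        rw [MonoidHom.pow_apply, ← map_pow]
        exact h2
      have h2 := hbij.injOn (hom_mem_over_trivial N _ hνk) (hom_mem_over_trivial N _ hνN) h1
      intro g
      apply Units.ext
      have h3 := congrFun h2 g
      rw [map_pow, ← MonoidHom.pow_apply]
      exact h3
    have hpow : ∀ g : G, ν g ^ p = 1 := hom_pow_p_of_fixed p N hidx k hk₁ hk₂ ν hνN hfix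
    have hN₁ν : N₁ ≤ ν.ker := (hN₁ ν hνN).mpr hpow
    refine ⟨QuotientGroup.lift N₁ ν hN₁ν, ?_⟩
    apply Subtype.ext
    apply Subtype.ext
    show (fun g => ((((QuotientGroup.lift N₁ ν hN₁ν).comp (QuotientGroup.mk' N₁)) g : ℂˣ) : ℂ)) *
      χh = (χ : G → ℂ)
    have h3 : (χ : G → ℂ) = β * χh := hβχ.symm
    rw [h3, hνβ]
    rfl
  rw [← Nat.card_congr (Equiv.ofBijective Φ ⟨hΦinj, hΦsurj⟩)]
  have hcardQ : Nat.card (G ⧸ N₁) = p := by rw [← hN₁idx]; rfl
  haveI : IsCyclic (G ⧸ N₁) := isCyclic_of_prime_card hcardQ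
  rw [card_hom_units_of_comm (isMulCommutative_iff.mp IsCyclic.isMulCommutative), hcardQ]

end Cfsg.Agent.Helper6
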