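import Mathlib
import Cfsg.Prelude.Def_Characters
import Cfsg.Prelude.Def_Blocks
import Cfsg.Prelude.Def_CharExt
import Cfsg.Agent.Helper6.GalMcC
import Cfsg.Agent.Helper6.PResidualChars
import Cfsg.Agent.Helper6.IrrBasis

/-!
# The count of power-map fixed characters of degree prime to `p` in the principal block, over a
cyclic `p`-quotient
-/

set_option autoImplicit false
set_option linter.style.haveILetI false

namespace Cfsg.Agent.Helper6

open scoped ComplexConjugate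

universe u

variable {G : Type u} [Group G] {M : Ideal Cfsg.AlgInt}

theorem card_principal_fixed [Fintype G] (p : ℕ) [hp : Fact p.Prime] (hM : Cfsg.IsPModular p M)
    (P : Sylow p G) (N : Subgroup G) [hN : N.Normal] [Fintype N]
    (hidx : ∃ a : ℕ, N.index = p ^ a) (hNP : N ⊔ (P : Subgroup G) = ⊤)
    (hdetN : ∀ θ : N → ℂ, Cfsg.IsCharacter N θ → ¬ p ∣ Cfsg.detOrder θ)
    (hcyc : IsCyclic (G ⧸ N)) (hnt : N ≠ ⊤) (k : ℕ)
    (hk₁ : ∀ g : G, (∃ j : ℕ, orderOf g = p ^ j) → g ^ k = g ^ (1 + p))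
    (hk₂ : ∀ g : G, Nat.Coprime (orderOf g) p → g ^ k = g) :
    Nat.card {χ : Cfsg.IrrCharacter G // χ ∈ Cfsg.principalBlock M G ∧
        ¬ p ∣ Cfsg.charDegree (χ : G → ℂ) ∧ ∀ g : G, (χ : G → ℂ) (g ^ k) = (χ : G → ℂ) g} =
      p * Nat.card {θ : Cfsg.IrrCharacter N // θ ∈ Cfsg.principalBlock M N ∧
        ¬ p ∣ Cfsg.charDegree (θ : N → ℂ) ∧
        (∀ x ∈ (P : Subgroup G), ∀ n : N,
          (θ : N → ℂ) ⟨x * n * x⁻¹, hN.conj_mem n n.2 x⟩ = (θ : N → ℂ) n) ∧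
        ∀ n : N, (θ : N → ℂ) (n ^ k) = (θ : N → ℂ) n} := by
  classical
  have hMmax := hM.2.1
  haveI : Finite (Cfsg.IrrCharacter G) := irr_finite
  haveI : Finite (Cfsg.IrrCharacter N) := irr_finite
  have hdegres : ∀ χ : G → ℂ, Cfsg.charDegree (fun n : N => χ n) = Cfsg.charDegree χ := by
    intro χ
    unfold Cfsg.charDegree
    rfl
  -- the restriction map
  have hres : ∀ χ : Cfsg.IrrCharacter G, ¬ p ∣ Cfsg.charDegree (χ : G → ℂ) →
      Cfsg.IsIrrCharacter N (fun n : N => (χ : G → ℂ) n) :=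
    fun χ hχ => restrict_isIrr_of_pgroup_quotient p N hidx (χ : G → ℂ) χ.2 hχ
  let f : {χ : Cfsg.IrrCharacter G // χ ∈ Cfsg.principalBlock M G ∧
        ¬ p ∣ Cfsg.charDegree (χ : G → ℂ) ∧ ∀ g : G, (χ : G → ℂ) (g ^ k) = (χ : G → ℂ) g} →
      {θ : Cfsg.IrrCharacter N // θ ∈ Cfsg.principalBlock M N ∧
        ¬ p ∣ Cfsg.charDegree (θ : N → ℂ) ∧
        (∀ x ∈ (P : Subgroup G), ∀ n : N,
          (θ : N → ℂ) ⟨x * n * x⁻¹, hN.conj_mem n n.2 x⟩ = (θ : N → ℂ) n) ∧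
        ∀ n : N, (θ : N → ℂ) (n ^ k) = (θ : N → ℂ) n} := fun χ =>
    ⟨⟨fun n : N => (χ.1 : G → ℂ) n, hres χ.1 χ.2.2.1⟩, by
      refine ⟨?_, ?_, ?_, ?_⟩
      · apply restrict_mem_principalBlock hMmax N χ.1 χ.2.1
        show Cfsg.classInner (fun n : N => (χ.1 : G → ℂ) n) (fun n : N => (χ.1 : G → ℂ) n) ≠ 0
        rw [classInner_irr_self (hres χ.1 χ.2.2.1)]
        exact one_ne_zero
      · show ¬ p ∣ Cfsg.charDegree (fun n : N => (χ.1 : G → ℂ) n)
        rw [hdegres]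
        exact χ.2.2.1
      · intro x _ n
        show (χ.1 : G → ℂ) (x * n * x⁻¹) = (χ.1 : G → ℂ) n
        exact IsCharacter.isClassFunction (IsIrrCharacter.isCharacter χ.1.2) n x
      · intro n
        show (χ.1 : G → ℂ) ((n ^ k : N) : G) = (χ.1 : G → ℂ) n
        rw [Subgroup.coe_pow]
        exact χ.2.2.2 n⟩
  haveI : Fintype {θ : Cfsg.IrrCharacter N // θ ∈ Cfsg.principalBlock M N ∧
        ¬ p ∣ Cfsg.charDegree (θ : N → ℂ) ∧
        (∀ x ∈ (P : Subgroup G), ∀ n : N,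
          (θ : N → ℂ) ⟨x * n * x⁻¹, hN.conj_mem n n.2 x⟩ = (θ : N → ℂ) n) ∧
        ∀ n : N, (θ : N → ℂ) (n ^ k) = (θ : N → ℂ) n} := Fintype.ofFinite _
  rw [← Nat.card_congr (Equiv.sigmaFiberEquiv f), Nat.card_sigma]
  have hfib : ∀ y, Nat.card {x // f x = y} = p := by
    rintro ⟨θ, hθB, hθdeg, hθP, hθk⟩
    -- `θ` is `G`-invariant
    have hinv : ∀ (g : G) (n : N),
        (θ : N → ℂ) ⟨g * n * g⁻¹, hN.conj_mem (n : G) n.2 g⟩ = (θ : N → ℂ) n := by
      intro g n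
      have hg : g ∈ ((N ⊔ (P : Subgroup G) : Subgroup G) : Set G) := by
        rw [hNP]; exact Set.mem_univ g
      rw [Subgroup.normal_mul] at hg
      obtain ⟨m, hm, x, hx, rfl⟩ := hg
      have h1 := hθP x hx n
      have hcf := IsCharacter.isClassFunction (IsIrrCharacter.isCharacter θ.2)
      have h2 := hcf ⟨x * n * x⁻¹, hN.conj_mem n n.2 x⟩ ⟨m, hm⟩
      rw [← h1, ← h2]
      refine congrArg (θ : N → ℂ) (Subtype.ext ?_)
      show m * x * n * (m * x)⁻¹ = m * (x * n * x⁻¹) * m⁻¹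
      group
    have hcount := card_fixed_ext p N hidx hcyc hnt k hk₁ hk₂ (θ : N → ℂ) θ.2 hinv hθdeg
      (hdetN _ (IsIrrCharacter.isCharacter θ.2)) hθk
    refine Eq.trans ?_ hcount
    apply Nat.card_congr
    refine
      { toFun := fun x => ⟨x.1.1, ?_, x.1.2.2.2⟩
        invFun := fun χ => ⟨⟨χ.1, ?_, ?_, χ.2.2⟩, ?_⟩
        left_inv := fun x => by apply Subtype.ext; apply Subtype.ext; rfl
        right_inv := fun χ => by apply Subtype.ext; rfl }
    · intro n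
      have := congrArg (fun y => ((y.1 : Cfsg.IrrCharacter N) : N → ℂ) n) x.2
      exact this
    · apply mem_principalBlock_of_over p hM N hidx χ.1 θ hθB
      have : (fun n : N => (χ.1 : G → ℂ) n) = (θ : N → ℂ) := funext χ.2.1
      rw [this, classInner_irr_self θ.2]
      exact one_ne_zero
    · have : (fun n : N => (χ.1 : G → ℂ) n) = (θ : N → ℂ) := funext χ.2.1
      rw [← hdegres, this]
      exact hθdeg
    · apply Subtype.ext
      apply Subtype.ext
      exact funext χ.2.1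
  rw [Finset.sum_congr rfl (fun y _ => hfib y), Finset.sum_const, Finset.card_univ, smul_eq_mul,
    mul_comm, Nat.card_eq_fintype_card]

end Cfsg.Agent.Helper6
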