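import Mathlib
import Cfsg.Prelude.Def_Characters
import Cfsg.Agent.Helper6.CharBasic
import Cfsg.Agent.Helper6.ClassInner
import Cfsg.Agent.Helper6.Constituent
import Cfsg.Agent.Helper6.Induced
import Cfsg.Agent.Helper6.IndFun
import Cfsg.Agent.Helper6.NormalInd
import Cfsg.Agent.Helper6.GaloisConj
import Cfsg.Agent.Helper6.GaloisChar
import Cfsg.Agent.Helper6.OddReal

/-!
# Products of a character with a Galois conjugate: the key inequality

If `|χ|²` contains a rational character `ψ` with `[ψ, ψ] ≥ 2`, then `g ↦ χ(g) χ(g^k)` is not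
irreducible.  Application: `χ` induced from a proper subgroup.
-/

set_option autoImplicit false
set_option linter.style.haveILetI false

namespace Cfsg.Agent.Helper6.GalProd

open Cfsg.Agent.Helper6
open scoped ComplexConjugate

universe u

variable {G : Type u} [Group G]

/-- A character containing the trivial character and of degree `≠ 1` has norm at least `2`. -/
theorem exists_two_le_classInner_self [Fintype G] {ψ : G → ℂ} (hψ : Cfsg.IsCharacter G ψ)
    (h1 : Cfsg.classInner ψ (fun _ => 1) ≠ 0) (hdeg : ψ 1 ≠ 1) :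
    ∃ n : ℕ, 2 ≤ n ∧ Cfsg.classInner ψ ψ = n := by
  have hone : Cfsg.IsIrrCharacter G (fun _ : G => (1 : ℂ)) := isIrrCharacter_one
  have hΔ : Cfsg.IsCharacter G (ψ - fun _ => 1) := sub_isCharacter_of_constituent hψ hone h1
  set Δ : G → ℂ := ψ - fun _ => 1 with hΔdef
  have hψeq : ψ = (fun _ => (1 : ℂ)) + Δ := by
    rw [hΔdef]; abel
  obtain ⟨n₁, hn₁⟩ := classInner_char_char_nat (IsIrrCharacter.isCharacter hone) hΔ
  obtain ⟨n₂, hn₂⟩ := classInner_char_char_nat hΔ (IsIrrCharacter.isCharacter hone)
  obtain ⟨n₃, hn₃⟩ := classInner_char_char_nat hΔ hΔ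
  have h11 : Cfsg.classInner (fun _ : G => (1 : ℂ)) (fun _ => 1) = 1 := classInner_irr_self hone
  have hn₃pos : n₃ ≠ 0 := by
    intro h0
    rw [h0, Nat.cast_zero] at hn₃
    have hz := classInner_self_eq_zero hn₃
    apply hdeg
    have : Δ 1 = 0 := by rw [hz]; rfl
    rw [hΔdef] at this
    simp only [Pi.sub_apply] at this
    exact sub_eq_zero.mp this
  refine ⟨1 + n₁ + n₂ + n₃, by omega, ?_⟩
  rw [hψeq, classInner_add_left, classInner_add_right, classInner_add_right, h11, hn₁, hn₂, hn₃]
  push_cast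
  ring

/-- The key inequality. -/
theorem classInner_mul_comp_pow_ne_one [Fintype G] {χ ψ a' : G → ℂ}
    (k : ℕ) (hk : k.Coprime (Nat.card G))
    (hψ : Cfsg.IsCharacter G ψ) (ha' : Cfsg.IsCharacter G a')
    (hsum : ∀ g, χ g * conj (χ g) = ψ g + a' g)
    (hψk : ∀ g, ψ (g ^ k) = ψ g)
    (hψ1 : Cfsg.classInner ψ (fun _ => 1) ≠ 0) (hψdeg : ψ 1 ≠ 1) :
    Cfsg.classInner (fun g => χ g * χ (g ^ k)) (fun g => χ g * χ (g ^ k)) ≠ 1 := by
  have ha'k : Cfsg.IsCharacter G (fun g => a' (g ^ k)) := IsCharacter.comp_pow ha' k hk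
  obtain ⟨n, hn2, hn⟩ := exists_two_le_classInner_self hψ hψ1 hψdeg
  obtain ⟨n₁, hn₁⟩ := classInner_char_char_nat hψ ha'k
  obtain ⟨n₂, hn₂⟩ := classInner_char_char_nat ha' hψ
  obtain ⟨n₃, hn₃⟩ := classInner_char_char_nat ha' ha'k
  have hreal : ∀ g, conj (ψ g + a' g) = ψ g + a' g := by
    intro g
    rw [← hsum g, map_mul, Complex.conj_conj, mul_comm]
  have hkey : Cfsg.classInner (fun g => χ g * χ (g ^ k)) (fun g => χ g * χ (g ^ k)) =
      Cfsg.classInner (ψ + a') (ψ + fun g => a' (g ^ k)) := by
    unfold Cfsg.classInner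
    congr 1
    apply Finset.sum_congr rfl
    intro g _
    have h1 : conj (ψ g + a' (g ^ k)) = ψ g + a' (g ^ k) := by
      have := hreal (g ^ k)
      rwa [hψk g] at this
    have h2 : ψ g + a' (g ^ k) = χ (g ^ k) * conj (χ (g ^ k)) := by
      rw [hsum (g ^ k), hψk g]
    simp only [Pi.add_apply, map_mul]
    rw [h1, h2, ← hsum g]
    ring
  rw [hkey, classInner_add_left, classInner_add_right, classInner_add_right, hn, hn₁, hn₂, hn₃]
  intro h
  have h' : n + n₁ + (n₂ + n₃) = 1 := by exact_mod_cast h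
  omega

/-- If `χ` is induced from a proper subgroup then `g ↦ χ(g) χ(g^k)` is not irreducible. -/
theorem classInner_ne_one_of_induced [Fintype G] {χ : G → ℂ} (hχ : Cfsg.IsIrrCharacter G χ)
    (T : Subgroup G) (hT : T ≠ ⊤) (θ : T → ℂ) (hθ : Cfsg.IsIrrCharacter T θ)
    (hind : Cfsg.indFun T θ = χ) (k : ℕ) (hk : k.Coprime (Nat.card G)) :
    Cfsg.classInner (fun g => χ g * χ (g ^ k)) (fun g => χ g * χ (g ^ k)) ≠ 1 := by
  classical
  haveI : Fintype T := Fintype.ofFinite T
  have honeT : Cfsg.IsIrrCharacter T (fun _ : T => (1 : ℂ)) := isIrrCharacter_one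
  set π : G → ℂ := Cfsg.indFun T (fun _ => 1) with hπdef
  have hπ : Cfsg.IsCharacter G π := isCharacter_indFun T _ (IsIrrCharacter.isCharacter honeT)
  have hχc : Cfsg.IsCharacter G χ := IsIrrCharacter.isCharacter hχ
  have hχcf : Cfsg.IsClassFunction G χ := IsCharacter.isClassFunction hχc
  have hχT : Cfsg.IsCharacter T (fun t : T => χ t) := IsCharacter.restrict T hχc
  -- χ_T = θ + γ
  have hχθ : Cfsg.classInner (fun t : T => χ t) θ ≠ 0 := by
    have h1 : Cfsg.classInner θ (fun t : T => χ t) = 1 := by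
      rw [← frobenius_reciprocity T θ χ hχcf, hind]
      exact classInner_irr_self hχ
    rw [classInner_conj_symm θ, h1, map_one]
    exact one_ne_zero
  have hγ : Cfsg.IsCharacter T ((fun t : T => χ t) - θ) :=
    sub_isCharacter_of_constituent hχT hθ hχθ
  -- θ conj θ = 1 + δ
  have hθbar : Cfsg.IsCharacter T (fun t => conj (θ t)) := IsIrrCharacter.isCharacter (conj_isIrr hθ)
  have hθθ : Cfsg.IsCharacter T (θ * fun t => conj (θ t)) := IsCharacter.mul (IsIrrCharacter.isCharacter hθ) hθbar
  have hθθ1 : Cfsg.classInner (θ * fun t => conj (θ t)) (fun _ => 1) ≠ 0 := by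
    have : Cfsg.classInner (θ * fun t => conj (θ t)) (fun _ => 1) = Cfsg.classInner θ θ := by
      unfold Cfsg.classInner
      congr 1
      apply Finset.sum_congr rfl
      intro t _
      simp
    rw [this, classInner_irr_self hθ]
    exact one_ne_zero
  have hδ : Cfsg.IsCharacter T ((θ * fun t => conj (θ t)) - fun _ => 1) :=
    sub_isCharacter_of_constituent hθθ honeT hθθ1
  -- a - π is a character
  set a : G → ℂ := fun g => χ g * conj (χ g) with hadef
  have hχbar : Cfsg.IsCharacter G (fun g => conj (χ g)) := IsIrrCharacter.isCharacter (conj_isIrr hχ)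
  have ha : Cfsg.IsCharacter G a := IsCharacter.mul hχc hχbar
  have hsub : Cfsg.IsCharacter G (a - π) := by
    apply isCharacter_of_classInner_nat
    · exact IsClassFunction.sub (IsCharacter.isClassFunction ha) (IsCharacter.isClassFunction hπ)
    · intro β hβ
      have hβc := IsIrrCharacter.isCharacter hβ
      have hβT : Cfsg.IsCharacter T (fun t : T => β t) := IsCharacter.restrict T hβc
      obtain ⟨n₁, hn₁⟩ := classInner_char_char_nat hδ hβT
      obtain ⟨n₂, hn₂⟩ := classInner_char_char_nat (IsIrrCharacter.isCharacter hθ) (IsCharacter.mul hγ hβT)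
      refine ⟨n₁ + n₂, ?_⟩
      rw [classInner_sub_left]
      have e1 : Cfsg.classInner π β = Cfsg.classInner (fun _ : T => (1 : ℂ)) (fun t : T => β t) :=
        frobenius_reciprocity T _ β (IsCharacter.isClassFunction hβc)
      have e2 : Cfsg.classInner a β = Cfsg.classInner χ (χ * β) := by
        unfold Cfsg.classInner
        congr 1
        apply Finset.sum_congr rfl
        intro g _
        simp only [hadef, Pi.mul_apply, map_mul]
        ring
      have e3 : Cfsg.classInner χ (χ * β) =
          Cfsg.classInner θ (fun t : T => (χ * β) t) := by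
        have h := frobenius_reciprocity T θ (χ * β)
          (IsCharacter.isClassFunction (IsCharacter.mul hχc hβc))
        rw [hind] at h
        exact h
      have e4 : (fun t : T => (χ * β) t) =
          θ * (fun t : T => β t) + ((fun t : T => χ t) - θ) * (fun t : T => β t) := by
        funext t
        simp only [Pi.mul_apply, Pi.add_apply, Pi.sub_apply]
        ring
      have e5 : Cfsg.classInner θ (θ * fun t : T => β t) =
          Cfsg.classInner (θ * fun t => conj (θ t)) (fun t : T => β t) := by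
        unfold Cfsg.classInner
        congr 1
        apply Finset.sum_congr rfl
        intro t _
        simp only [Pi.mul_apply, map_mul]
        ring
      have e6 : (θ * fun t => conj (θ t)) =
          (fun _ : T => (1 : ℂ)) + ((θ * fun t => conj (θ t)) - fun _ => 1) := by
        abel
      rw [e1, e2, e3, e4, classInner_add_right, e5, hn₂]
      rw [e6, classInner_add_left, hn₁]
      push_cast
      ring
  -- properties of π
  have hπk : ∀ g, π (g ^ k) = π g := by
    intro g
    rw [hπdef, indFun_apply, indFun_apply]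
    congr 1
    apply Finset.sum_congr rfl
    intro x _
    have hpow : x⁻¹ * g ^ k * x = (x⁻¹ * g * x) ^ k := by
      have : x⁻¹ * g ^ k * x = x⁻¹ * g ^ k * x⁻¹⁻¹ := by rw [inv_inv]
      rw [this, ← conj_pow, inv_inv]
    rw [hpow]
    by_cases hmem : x⁻¹ * g * x ∈ T
    · rw [extendByZero_mem T _ hmem, extendByZero_mem T _ (pow_mem hmem k)]
    · rw [extendByZero_not_mem T _ hmem,
        extendByZero_not_mem T _ (pow_coprime_not_mem T _ hmem k hk)]
  have hπ1 : Cfsg.classInner π (fun _ => 1) ≠ 0 := by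
    have hcf : Cfsg.IsClassFunction G (fun _ : G => (1 : ℂ)) := fun _ _ => rfl
    rw [hπdef, frobenius_reciprocity T _ _ hcf]
    rw [classInner_irr_self honeT]
    exact one_ne_zero
  have hπdeg : π 1 ≠ 1 := by
    intro h1
    apply hT
    rw [hπdef, indFun_apply] at h1
    have hsum : ∑ x : G, Cfsg.extendByZero T (fun _ => (1 : ℂ)) (x⁻¹ * 1 * x) =
        (Nat.card G : ℂ) := by
      have : ∀ x : G, Cfsg.extendByZero T (fun _ => (1 : ℂ)) (x⁻¹ * 1 * x) = 1 := by
        intro x
        have h1 : x⁻¹ * 1 * x = 1 := by group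
        rw [h1, extendByZero_mem T _ (one_mem T)]
      rw [Finset.sum_congr rfl (fun x _ => this x)]
      simp [Nat.card_eq_fintype_card]
    rw [hsum] at h1
    have hTpos : (Nat.card T : ℂ) ≠ 0 := by exact_mod_cast Nat.card_pos.ne'
    have hcard : (Nat.card G : ℂ) = (Nat.card T : ℂ) := by
      field_simp at h1
      exact h1.symm ▸ rfl
    have hcard' : Nat.card T = Nat.card G := by exact_mod_cast hcard.symm
    exact Subgroup.card_eq_iff_eq_top T |>.mp hcard'
  refine classInner_mul_comp_pow_ne_one k hk hπ hsub ?_ hπk hπ1 hπdeg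
  intro g
  simp only [hadef, Pi.sub_apply]
  ring

end Cfsg.Agent.Helper6.GalProd
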