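import Mathlib
import Cfsg.Prelude.Def_Characters
import Cfsg.Agent.Helper6.CentralChar
import Cfsg.Agent.Helper6.DegreeDvd

/-!
# The span of `ρ(M)` inside `End V` as a subrepresentation, and its character

For a normal subgroup `M` of `G` on whose non-central elements the character of the irreducible
representation `ρ` vanishes, the character of `G` on `span ρ(M) ⊆ End V` (conjugation action) is
`g ↦ c⁻¹ ∑_{m ∈ M} χ(g m g⁻¹ m⁻¹)`, `c = χ(1) |M ∩ Z(G)|`.
-/

set_option autoImplicit false
set_option linter.style.haveILetI false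

namespace Cfsg.Agent.Helper6.GalProd

open Cfsg.Agent.Helper6
open Module Representation

universe u v

/-- Trace of an endomorphism via a "frame" (a spanning family with dual functionals). -/
theorem trace_eq_sum_of_frame {K : Type*} [Field K] {E : Type*} [AddCommGroup E] [Module K E]
    [FiniteDimensional K E] {J : Type*} [Fintype J] (x : J → E) (φ : J → E →ₗ[K] K)
    (h : ∀ v, ∑ j, φ j v • x j = v) (T : E →ₗ[K] E) :
    LinearMap.trace K E T = ∑ j, φ j (T (x j)) := by
  have hT : T = ∑ j, (φ j).smulRight (T (x j)) := by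
    ext v
    rw [LinearMap.sum_apply]
    simp only [LinearMap.smulRight_apply]
    conv_lhs => rw [← h v]
    rw [map_sum]
    simp [map_smul]
  conv_lhs => rw [hT]
  rw [map_sum]
  simp [LinearMap.trace_smulRight]

variable {G : Type u} [Group G] {V : Type v} [AddCommGroup V] [Module ℂ V]

/-- The span of `ρ(M)` inside `End V`, as a subrepresentation of the conjugation action. -/
noncomputable def spanSub (ρ : Representation ℂ G V) (M : Subgroup G) [hM : M.Normal] :
    Subrepresentation (linHom ρ ρ) where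
  toSubmodule := Submodule.span ℂ (Set.range fun m : M => ρ (m : G))
  apply_mem_toSubmodule := by
    intro g X hX
    have hle : (Submodule.span ℂ (Set.range fun m : M => ρ (m : G))).map (linHom ρ ρ g) ≤
        Submodule.span ℂ (Set.range fun m : M => ρ (m : G)) := by
      rw [Submodule.map_span_le]
      rintro _ ⟨m, rfl⟩
      apply Submodule.subset_span
      refine ⟨⟨g * m * g⁻¹, hM.conj_mem m m.2 g⟩, ?_⟩
      rw [linHom_apply]
      simp only [map_mul]
      rfl
    exact hle (Submodule.mem_map_of_mem hX)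

theorem mem_spanSub (ρ : Representation ℂ G V) (M : Subgroup G) [hM : M.Normal] (m : M) :
    ρ (m : G) ∈ (spanSub ρ M).toSubmodule :=
  Submodule.subset_span ⟨m, rfl⟩

/-- Central elements act by scalars in an irreducible representation. -/
theorem exists_scalar_of_mem_center [FiniteDimensional ℂ V] (ρ : Representation ℂ G V)
    [ρ.IsIrreducible] {z : G} (hz : z ∈ Subgroup.center G) :
    ∃ c : ℂ, ρ z = c • (LinearMap.id : V →ₗ[ℂ] V) := by
  apply exists_scalar_of_commute ρ (ρ z)
  intro g
  have h1 : ρ z ∘ₗ ρ g = ρ (z * g) := by rw [map_mul]; rfl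
  have h2 : ρ g ∘ₗ ρ z = ρ (g * z) := by rw [map_mul]; rfl
  rw [h1, h2, Subgroup.mem_center_iff.mp hz g]

theorem character_mul_of_scalar [FiniteDimensional ℂ V] (ρ : Representation ℂ G V) {z : G} {c : ℂ}
    (hz : ρ z = c • (LinearMap.id : V →ₗ[ℂ] V)) (x : G) :
    ρ.character (x * z) = c * ρ.character x := by
  unfold Representation.character
  rw [map_mul, hz]
  have : ρ x * c • (LinearMap.id : V →ₗ[ℂ] V) = c • ρ x := by
    ext v
    simp
  rw [this, map_smul, smul_eq_mul]

section formula

variable [Fintype G] [FiniteDimensional ℂ V] (ρ : Representation ℂ G V) [hirr : ρ.IsIrreducible]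
  (M : Subgroup G) [hM : M.Normal] [Fintype M]

/-- the normalising constant `χ(1) |M ∩ Z(G)|`. -/
noncomputable def frameConst : ℂ := by
  classical
  exact (finrank ℂ V : ℂ) *
    ((Finset.univ.filter (fun u : M => (u : G) ∈ Subgroup.center G)).card : ℂ)

include hirr in
theorem frameConst_ne_zero : frameConst (V := V) M ≠ 0 := by
  have _ := ρ
  classical
  unfold frameConst
  apply mul_ne_zero
  · haveI : Nontrivial V := irr_nontrivial ρ
    exact_mod_cast (Module.finrank_pos (R := ℂ) (M := V)).ne'
  · have : (Finset.univ.filter (fun u : M => (u : G) ∈ Subgroup.center G)).card ≠ 0 := by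
      rw [Finset.card_ne_zero]
      exact ⟨1, by simp⟩
    exact_mod_cast this

/-- the frame functionals. -/
noncomputable def framePhi (m : M) : (V →ₗ[ℂ] V) →ₗ[ℂ] ℂ :=
  (frameConst (V := V) M)⁻¹ •
    ((LinearMap.trace ℂ V).comp (LinearMap.mulRight ℂ (ρ ((m : G)⁻¹) : Module.End ℂ V)))

theorem framePhi_apply (m : M) (X : V →ₗ[ℂ] V) :
    framePhi ρ M m X = (frameConst (V := V) M)⁻¹ * LinearMap.trace ℂ V (X * ρ ((m : G)⁻¹)) := by
  unfold framePhi
  simp

theorem framePhi_rho (m : M) (x : G) :
    framePhi ρ M m (ρ x) = (frameConst (V := V) M)⁻¹ * ρ.character (x * (m : G)⁻¹) := by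
  rw [framePhi_apply, ← map_mul]
  rfl

include hirr in
/-- The frame identity on generators. -/
theorem frame_sum_rho (hvan : ∀ m ∈ M, m ∉ Subgroup.center G → ρ.character m = 0) (m₀ : M) :
    ∑ m : M, framePhi ρ M m (ρ (m₀ : G)) • ρ (m : G) = ρ (m₀ : G) := by
  classical
  haveI : Nontrivial V := irr_nontrivial ρ
  -- reindex by u = m₀ m⁻¹
  let e : M ≃ M := (Equiv.inv M).trans (Equiv.mulLeft m₀)
  have he : ∀ m : M, e m = m₀ * m⁻¹ := fun m => rfl
  let H : M → (V →ₗ[ℂ] V) := fun u =>
    ((frameConst (V := V) M)⁻¹ * ρ.character (u : G)) • ρ ((u : G)⁻¹ * (m₀ : G))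
  have h1 : ∀ m : M, framePhi ρ M m (ρ (m₀ : G)) • ρ (m : G) = H (e m) := by
    intro m
    simp only [H, he, framePhi_rho]
    congr 2
    simp [mul_assoc]
  rw [Finset.sum_congr rfl (fun m _ => h1 m), Equiv.sum_comp e H]
  have h2 : ∀ u : M, H u = if (u : G) ∈ Subgroup.center G then
      ((frameConst (V := V) M)⁻¹ * (finrank ℂ V : ℂ)) • ρ (m₀ : G) else 0 := by
    intro u
    by_cases hu : (u : G) ∈ Subgroup.center G
    · rw [if_pos hu]
      obtain ⟨c, hc⟩ := exists_scalar_of_mem_center ρ hu
      obtain ⟨d, hd⟩ := exists_scalar_of_mem_center ρ (inv_mem hu)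
      have hcd : c * d = 1 := by
        have h : ρ (u : G) * ρ ((u : G)⁻¹) = 1 := by rw [← map_mul, mul_inv_cancel, map_one]
        rw [hc, hd] at h
        have h' : (c * d) • (LinearMap.id : V →ₗ[ℂ] V) = LinearMap.id := by
          have h2 : c • (LinearMap.id : V →ₗ[ℂ] V) * d • (LinearMap.id : V →ₗ[ℂ] V) =
              (c * d) • LinearMap.id := by
            ext v
            simp [mul_smul, smul_comm d c v]
          rw [← h2, h]
          rfl
        obtain ⟨v, hv⟩ := exists_ne (0 : V)
        have hv1 := LinearMap.congr_fun h' v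
        simp only [LinearMap.smul_apply, LinearMap.id_coe, id_eq] at hv1
        have h3 : (c * d) • v = (1 : ℂ) • v := by rw [one_smul]; exact hv1
        exact smul_left_injective ℂ hv h3
      have hchar : ρ.character (u : G) = c * (finrank ℂ V : ℂ) := by
        unfold Representation.character
        rw [hc, map_smul, smul_eq_mul, LinearMap.trace_id]
      simp only [H]
      rw [map_mul, hd, hchar]
      have : d • (LinearMap.id : V →ₗ[ℂ] V) * ρ (m₀ : G) = d • ρ (m₀ : G) := by
        ext v
        simp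
      rw [this, smul_smul]
      congr 1
      calc (frameConst (V := V) M)⁻¹ * (c * (finrank ℂ V : ℂ)) * d
          = (frameConst (V := V) M)⁻¹ * (finrank ℂ V : ℂ) * (c * d) := by ring
        _ = _ := by rw [hcd, mul_one]
    · rw [if_neg hu]
      simp only [H]
      rw [hvan u u.2 hu, mul_zero, zero_smul]
  rw [Finset.sum_congr rfl (fun u _ => h2 u), Finset.sum_ite, Finset.sum_const_zero, add_zero,
    Finset.sum_const, ← Nat.cast_smul_eq_nsmul ℂ, smul_smul]
  have hc := frameConst_ne_zero ρ M
  have : ((Finset.univ.filter (fun u : M => (u : G) ∈ Subgroup.center G)).card : ℂ) *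
      ((frameConst (V := V) M)⁻¹ * (finrank ℂ V : ℂ)) = 1 := by
    have hdef : frameConst (V := V) M = (finrank ℂ V : ℂ) *
        ((Finset.univ.filter (fun u : M => (u : G) ∈ Subgroup.center G)).card : ℂ) := by
      unfold frameConst
      congr 2
    rw [hdef] at hc ⊢
    have ha := left_ne_zero_of_mul hc
    have hb := right_ne_zero_of_mul hc
    field_simp
  rw [this, one_smul]

include hirr in
/-- The frame identity on the span. -/
theorem frame_sum (hvan : ∀ m ∈ M, m ∉ Subgroup.center G → ρ.character m = 0)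
    (X : V →ₗ[ℂ] V) (hX : X ∈ (spanSub ρ M).toSubmodule) :
    ∑ m : M, framePhi ρ M m X • ρ (m : G) = X := by
  let P : (V →ₗ[ℂ] V) →ₗ[ℂ] (V →ₗ[ℂ] V) := ∑ m : M, (framePhi ρ M m).smulRight (ρ (m : G))
  have hP : ∀ Y, P Y = ∑ m : M, framePhi ρ M m Y • ρ (m : G) := by
    intro Y
    simp only [P, LinearMap.sum_apply, LinearMap.smulRight_apply]
  have hEq : Set.EqOn P (LinearMap.id : (V →ₗ[ℂ] V) →ₗ[ℂ] (V →ₗ[ℂ] V))
      (Set.range fun m : M => ρ (m : G)) := by
    rintro _ ⟨m₀, rfl⟩
    rw [hP, LinearMap.id_apply]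
    exact frame_sum_rho ρ M hvan m₀
  have := LinearMap.eqOn_span hEq hX
  rw [hP, LinearMap.id_apply] at this
  exact this

include hirr in
/-- The character of `G` on `span ρ(M)`. -/
theorem spanSub_character (hvan : ∀ m ∈ M, m ∉ Subgroup.center G → ρ.character m = 0) (g : G) :
    (spanSub ρ M).toRepresentation.character g =
      (frameConst (V := V) M)⁻¹ * ∑ m : M, ρ.character (g * m * g⁻¹ * (m : G)⁻¹) := by
  unfold Representation.character
  let x : M → (spanSub ρ M).toSubmodule := fun m => ⟨ρ (m : G), mem_spanSub ρ M m⟩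
  let φ : M → (spanSub ρ M).toSubmodule →ₗ[ℂ] ℂ := fun m =>
    (framePhi ρ M m).comp (spanSub ρ M).toSubmodule.subtype
  have hframe : ∀ v : (spanSub ρ M).toSubmodule, ∑ m : M, φ m v • x m = v := by
    intro v
    apply Subtype.ext
    rw [Submodule.coe_sum]
    simp only [φ, x, LinearMap.comp_apply, Submodule.subtype_apply, Submodule.coe_smul]
    exact frame_sum ρ M hvan v.1 v.2
  rw [trace_eq_sum_of_frame x φ hframe, Finset.mul_sum]
  apply Finset.sum_congr rfl
  intro m _
  simp only [φ, x, LinearMap.comp_apply, Submodule.subtype_apply]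
  have : (((spanSub ρ M).toRepresentation g) ⟨ρ (m : G), mem_spanSub ρ M m⟩ : V →ₗ[ℂ] V) =
      ρ (g * m * g⁻¹) := by
    show (linHom ρ ρ g) (ρ (m : G)) = _
    rw [linHom_apply]
    simp only [map_mul]
    rfl
  rw [this, framePhi_rho]
  rfl

end formula

end Cfsg.Agent.Helper6.GalProd
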