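import Mathlib
import Cfsg.Prelude.Def_Characters
import Cfsg.Agent.Helper6.GalProdA
import Cfsg.Agent.Helper6.GalProdB
import Cfsg.Agent.Helper6.RepInduction
import Cfsg.Agent.Helper6.EquivOfChar
import Cfsg.Agent.Helper6.Invariants
import Cfsg.Agent.Helper6.RepEigen

/-!
# A normal subgroup of class two with centre in `Z(G)` obstructs irreducibility of `χ χ^(k)`
-/

set_option autoImplicit false
set_option linter.style.haveILetI false

namespace Cfsg.Agent.Helper6.GalProd

open Cfsg.Agent.Helper6
open Module Representation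
open scoped ComplexConjugate

universe u v

variable {G : Type u} [Group G] {V : Type v} [AddCommGroup V] [Module ℂ V]
  [FiniteDimensional ℂ V]

/-- scalar `1` forces the identity when the character is faithful. -/
theorem eq_one_of_scalar_one (ρ : Representation ℂ G V)
    (hfaith : ∀ g : G, ρ.character g = ρ.character 1 → g = 1) {z : G}
    (hz : ρ z = (1 : ℂ) • (LinearMap.id : V →ₗ[ℂ] V)) : z = 1 := by
  apply hfaith
  unfold Representation.character
  rw [hz, one_smul, map_one]
  rfl

/-- Vanishing of a faithful irreducible character on the non-central elements of a normal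
subgroup of class two whose centre is central. -/
theorem character_eq_zero_of_class_two (ρ : Representation ℂ G V) [hirr : ρ.IsIrreducible]
    (hfaith : ∀ g : G, ρ.character g = ρ.character 1 → g = 1) (M : Subgroup G)
    (hcomm : ∀ m ∈ M, ∀ m' ∈ M, m * m' * m⁻¹ * m'⁻¹ ∈ Subgroup.center G)
    (hnc : ∀ m ∈ M, m ∉ Subgroup.center G → ∃ m' ∈ M, m * m' ≠ m' * m) :
    ∀ m ∈ M, m ∉ Subgroup.center G → ρ.character m = 0 := by
  intro m hm hmc
  obtain ⟨m', hm', hne⟩ := hnc m hm hmc
  have hz : m⁻¹ * m' * m⁻¹⁻¹ * m'⁻¹ ∈ Subgroup.center G := hcomm _ (inv_mem hm) _ hm'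
  set z : G := m⁻¹ * m' * m⁻¹⁻¹ * m'⁻¹ with hzdef
  obtain ⟨c, hc⟩ := exists_scalar_of_mem_center ρ hz
  have hmz : m * z = m' * m * m'⁻¹ := by
    rw [hzdef]; group
  have hz1 : z ≠ 1 := by
    intro h1
    apply hne
    rw [h1, mul_one] at hmz
    calc m * m' = m' * m * m'⁻¹ * m' := by rw [← hmz]
      _ = m' * m := by group
  have hc1 : c ≠ 1 := by
    intro h1
    rw [h1] at hc
    exact hz1 (eq_one_of_scalar_one ρ hfaith hc)
  have h1 : ρ.character (m * z) = c * ρ.character m := character_mul_of_scalar ρ hc m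
  have h2 : ρ.character (m * z) = ρ.character m := by
    rw [hmz]
    exact Representation.char_conj ρ m m'
  rw [h2] at h1
  have h3 : (1 - c) * ρ.character m = 0 := by
    rw [sub_mul, one_mul, ← h1, sub_self]
  rcases mul_eq_zero.mp h3 with h | h
  · exact absurd (sub_eq_zero.mp h).symm hc1
  · exact h

/-- The commutator sum is `χ(1)` times a natural number. -/
theorem exists_nat_sum_commutator [Fintype G] (ρ : Representation ℂ G V)
    [hirr : ρ.IsIrreducible]
    (hfaith : ∀ g : G, ρ.character g = ρ.character 1 → g = 1) (M : Subgroup G) [hM : M.Normal]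
    [Fintype M]
    (hvan : ∀ m ∈ M, m ∉ Subgroup.center G → ρ.character m = 0) (g : G) :
    ∃ n : ℕ, ∑ m : M, ρ.character (g * m * g⁻¹ * (m : G)⁻¹) = (finrank ℂ V : ℂ) * n := by
  classical
  have hone : ρ.character 1 = (finrank ℂ V : ℂ) := by
    unfold Representation.character
    rw [map_one]
    exact LinearMap.trace_one ℂ V
  by_cases hall : ∀ m : M, g * m * g⁻¹ * (m : G)⁻¹ ∈ Subgroup.center G →
      ρ.character (g * m * g⁻¹ * (m : G)⁻¹) = ρ.character 1
  · refine ⟨(Finset.univ.filter
      (fun m : M => g * m * g⁻¹ * (m : G)⁻¹ ∈ Subgroup.center G)).card, ?_⟩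
    have h : ∀ m : M, ρ.character (g * m * g⁻¹ * (m : G)⁻¹) =
        if g * m * g⁻¹ * (m : G)⁻¹ ∈ Subgroup.center G then (finrank ℂ V : ℂ) else 0 := by
      intro m
      by_cases hm : g * m * g⁻¹ * (m : G)⁻¹ ∈ Subgroup.center G
      · rw [if_pos hm, hall m hm, hone]
      · rw [if_neg hm]
        apply hvan _ _ hm
        exact M.mul_mem (hM.conj_mem m m.2 g) (inv_mem m.2)
    rw [Finset.sum_congr rfl (fun m _ => h m), Finset.sum_ite, Finset.sum_const_zero, add_zero,
      Finset.sum_const, nsmul_eq_mul, mul_comm]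
  · push Not at hall
    obtain ⟨m', hm'c, hm'ne⟩ := hall
    refine ⟨0, ?_⟩
    rw [Nat.cast_zero, mul_zero]
    obtain ⟨c, hc⟩ := exists_scalar_of_mem_center ρ hm'c
    have hc1 : c ≠ 1 := by
      intro h1
      apply hm'ne
      rw [h1] at hc
      rw [eq_one_of_scalar_one ρ hfaith hc]
    set S : ℂ := ∑ m : M, ρ.character (g * m * g⁻¹ * (m : G)⁻¹) with hS
    have hshift : S = c * S := by
      have h1 : S = ∑ m : M, ρ.character (g * ((m * m' : M) : G) * g⁻¹ * ((m * m' : M) : G)⁻¹) :=
        (Equiv.sum_comp (Equiv.mulRight m')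
          (fun m : M => ρ.character (g * m * g⁻¹ * (m : G)⁻¹))).symm
      have h2 : ∀ m : M,
          ρ.character (g * ((m * m' : M) : G) * g⁻¹ * ((m * m' : M) : G)⁻¹) =
            c * ρ.character (g * m * g⁻¹ * (m : G)⁻¹) := by
        intro m
        rw [← character_mul_of_scalar ρ hc]
        congr 1
        have hcen := Subgroup.mem_center_iff.mp hm'c ((m : G)⁻¹)
        calc g * ((m * m' : M) : G) * g⁻¹ * ((m * m' : M) : G)⁻¹
            = g * m * g⁻¹ * ((g * m' * g⁻¹ * (m' : G)⁻¹) * (m : G)⁻¹) := by
              simp only [Subgroup.coe_mul]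
              group
          _ = g * m * g⁻¹ * ((m : G)⁻¹ * (g * m' * g⁻¹ * (m' : G)⁻¹)) := by rw [hcen]
          _ = _ := by group
      calc S = ∑ m : M,
            ρ.character (g * ((m * m' : M) : G) * g⁻¹ * ((m * m' : M) : G)⁻¹) := h1
        _ = ∑ m : M, c * ρ.character (g * m * g⁻¹ * (m : G)⁻¹) :=
            Finset.sum_congr rfl (fun m _ => h2 m)
        _ = c * S := by rw [← Finset.mul_sum]
    have h3 : (1 - c) * S = 0 := by
      rw [sub_mul, one_mul, ← hshift, sub_self]
    rcases mul_eq_zero.mp h3 with h | h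
    · exact absurd (sub_eq_zero.mp h).symm hc1
    · exact h

/-- **Case (B)**: a normal subgroup `M ≰ Z(G)` with `[M, M] ≤ Z(G)` and `Z(M) ≤ Z(G)`
prevents `g ↦ χ(g) χ(g^k)` from being irreducible, for `χ` faithful irreducible. -/
theorem classInner_ne_one_of_class_two [Fintype G] (ρ : Representation ℂ G V)
    [hirr : ρ.IsIrreducible]
    (hfaith : ∀ g : G, ρ.character g = ρ.character 1 → g = 1) (M : Subgroup G) [hM : M.Normal]
    (hcomm : ∀ m ∈ M, ∀ m' ∈ M, m * m' * m⁻¹ * m'⁻¹ ∈ Subgroup.center G)
    (hnc : ∀ m ∈ M, m ∉ Subgroup.center G → ∃ m' ∈ M, m * m' ≠ m' * m)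
    (hMnc : ¬ M ≤ Subgroup.center G) (k : ℕ) (hk : k.Coprime (Nat.card G)) :
    Cfsg.classInner (fun g => ρ.character g * ρ.character (g ^ k))
      (fun g => ρ.character g * ρ.character (g ^ k)) ≠ 1 := by
  classical
  haveI : Fintype M := Fintype.ofFinite M
  haveI : NeZero (Nat.card G : ℂ) := ⟨by exact_mod_cast Nat.card_pos.ne'⟩
  haveI : Nontrivial V := irr_nontrivial ρ
  have hvan := character_eq_zero_of_class_two ρ hfaith M hcomm hnc
  obtain ⟨C, hC⟩ := exists_isCompl (spanSub ρ M)
  have hc := isCompl_toSubmodule hC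
  have e := prodEquivOfIsCompl (spanSub ρ M) C hc
  have hchar : (linHom ρ ρ).character =
      (spanSub ρ M).toRepresentation.character + C.toRepresentation.character := by
    rw [← Representation.char_iso e, char_prod]
  set ψ : G → ℂ := (spanSub ρ M).toRepresentation.character with hψdef
  have hψ : Cfsg.IsCharacter G ψ := isCharacter_of_rep _
  have ha' : Cfsg.IsCharacter G C.toRepresentation.character := isCharacter_of_rep _
  have hfr := frameConst_ne_zero ρ M
  have hdim : (finrank ℂ V : ℂ) ≠ 0 := by
    exact_mod_cast (Module.finrank_pos (R := ℂ) (M := V)).ne'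
  refine classInner_mul_comp_pow_ne_one (χ := ρ.character) k hk hψ ha' ?_ ?_ ?_ ?_
  · intro g
    have h1 := congrFun hchar g
    rw [Representation.char_linHom, char_inv_eq_conj] at h1
    rw [mul_comm, h1]
    rfl
  · intro g
    have hq : ∃ q : ℚ, (spanSub ρ M).toRepresentation.character g = q := by
      obtain ⟨n, hn⟩ := exists_nat_sum_commutator ρ hfaith M hvan g
      rw [spanSub_character ρ M hvan g, hn]
      refine ⟨(n : ℚ) / ((Finset.univ.filter
        (fun u : M => (u : G) ∈ Subgroup.center G)).card : ℚ), ?_⟩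
      have hdef : frameConst (V := V) M = (finrank ℂ V : ℂ) *
          ((Finset.univ.filter (fun u : M => (u : G) ∈ Subgroup.center G)).card : ℂ) := by
        unfold frameConst
        congr 2
      rw [hdef] at hfr ⊢
      have hb := right_ne_zero_of_mul hfr
      push_cast
      field_simp
    exact (char_rational_iff (spanSub ρ M).toRepresentation g).mp hq k hk
  · rw [hψdef, classInner_one_eq_finrank_invariants]
    have hpos : 0 < finrank ℂ (invariants (spanSub ρ M).toRepresentation) := by
      have hmem : (⟨ρ ((1 : M) : G), mem_spanSub ρ M 1⟩ : (spanSub ρ M).toSubmodule) ∈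
          invariants (spanSub ρ M).toRepresentation := by
        rw [mem_invariants]
        intro g
        apply Subtype.ext
        show (linHom ρ ρ g) (ρ ((1 : M) : G)) = ρ ((1 : M) : G)
        rw [linHom_apply]
        simp only [OneMemClass.coe_one, map_one]
        have : ρ g ∘ₗ (1 : V →ₗ[ℂ] V) ∘ₗ ρ g⁻¹ = ρ g * ρ g⁻¹ := rfl
        rw [this, ← map_mul, mul_inv_cancel, map_one]
      have hne : invariants (spanSub ρ M).toRepresentation ≠ ⊥ := by
        intro hbot
        rw [hbot, Submodule.mem_bot] at hmem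
        have h1 : ρ ((1 : M) : G) = 0 := congrArg Subtype.val hmem
        simp only [OneMemClass.coe_one, map_one] at h1
        exact one_ne_zero h1
      exact Nat.pos_of_ne_zero (fun h => hne (Submodule.finrank_eq_zero.mp h))
    exact_mod_cast hpos.ne'
  · intro h1
    apply hMnc
    rw [hψdef, spanSub_character ρ M hvan 1] at h1
    have hterm : ∀ m : M, ρ.character (1 * m * 1⁻¹ * (m : G)⁻¹) = (finrank ℂ V : ℂ) := by
      intro m
      have : (1 : G) * m * 1⁻¹ * (m : G)⁻¹ = 1 := by group
      rw [this]
      unfold Representation.character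
      rw [map_one]
      exact LinearMap.trace_one ℂ V
    rw [Finset.sum_congr rfl (fun m _ => hterm m), Finset.sum_const, nsmul_eq_mul] at h1
    have hdef : frameConst (V := V) M = (finrank ℂ V : ℂ) *
        ((Finset.univ.filter (fun u : M => (u : G) ∈ Subgroup.center G)).card : ℂ) := by
      unfold frameConst
      congr 2
    rw [hdef] at hfr h1
    have hb := right_ne_zero_of_mul hfr
    have h2 : ((Finset.univ : Finset M).card : ℂ) =
        ((Finset.univ.filter (fun u : M => (u : G) ∈ Subgroup.center G)).card : ℂ) := by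
      field_simp at h1
      linear_combination h1
    have h3 : (Finset.univ.filter (fun u : M => (u : G) ∈ Subgroup.center G)).card =
        (Finset.univ : Finset M).card := by exact_mod_cast h2.symm
    have h4 : Finset.univ.filter (fun u : M => (u : G) ∈ Subgroup.center G) = Finset.univ :=
      Finset.eq_of_subset_of_card_le (Finset.filter_subset _ _) (le_of_eq h3.symm)
    intro m hm
    have : (⟨m, hm⟩ : M) ∈ Finset.univ.filter (fun u : M => (u : G) ∈ Subgroup.center G) := by
      rw [h4]; exact Finset.mem_univ _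
    exact (Finset.mem_filter.mp this).2

end Cfsg.Agent.Helper6.GalProd
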