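import Mathlib
import Cfsg.Prelude.Def_Characters
import Cfsg.Prelude.Def_Solvable
import Cfsg.Agent.Helper6.GalProdA
import Cfsg.Agent.Helper6.GalProdC
import Cfsg.Agent.Helper6.MGroup
import Cfsg.Agent.Helper1.Fitting

/-!
# `χ χ^(k)` irreducible with `χ` faithful forces `F(G) = Z(G)`
-/

set_option autoImplicit false
set_option linter.style.haveILetI false

namespace Cfsg.Agent.Helper6.GalProd

open Cfsg.Agent.Helper6
open Module Representation
open scoped ComplexConjugate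

universe u

variable {G : Type u} [Group G]

/-- The elements of `F` whose commutators with `F` are central in `G`. -/
def relSecondCenter (F : Subgroup G) : Subgroup G where
  carrier := {x | x ∈ F ∧ ∀ y ∈ F, x * y * x⁻¹ * y⁻¹ ∈ Subgroup.center G}
  one_mem' := by
    refine ⟨one_mem F, fun y _ => ?_⟩
    have : (1 : G) * y * 1⁻¹ * y⁻¹ = 1 := by group
    rw [this]
    exact one_mem _
  mul_mem' := by
    rintro x x' ⟨hx, hxc⟩ ⟨hx', hxc'⟩
    refine ⟨mul_mem hx hx', fun y hy => ?_⟩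
    have h1 := hxc y hy
    have h2 := hxc' y hy
    have hcen := Subgroup.mem_center_iff.mp h2 x
    have : x * x' * y * (x * x')⁻¹ * y⁻¹ = (x' * y * x'⁻¹ * y⁻¹) * (x * y * x⁻¹ * y⁻¹) := by
      calc x * x' * y * (x * x')⁻¹ * y⁻¹
          = (x * (x' * y * x'⁻¹ * y⁻¹)) * (y * x⁻¹ * y⁻¹) := by group
        _ = ((x' * y * x'⁻¹ * y⁻¹) * x) * (y * x⁻¹ * y⁻¹) := by rw [hcen]
        _ = _ := by group
    rw [this]
    exact mul_mem h2 h1
  inv_mem' := by
    rintro x ⟨hx, hxc⟩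
    refine ⟨inv_mem hx, fun y hy => ?_⟩
    have h1 := hxc y hy
    have hcen := Subgroup.mem_center_iff.mp (inv_mem h1) x⁻¹
    have : x⁻¹ * y * x⁻¹⁻¹ * y⁻¹ = (x * y * x⁻¹ * y⁻¹)⁻¹ := by
      calc x⁻¹ * y * x⁻¹⁻¹ * y⁻¹ = x⁻¹ * (x * y * x⁻¹ * y⁻¹)⁻¹ * x := by group
        _ = (x * y * x⁻¹ * y⁻¹)⁻¹ * x⁻¹ * x := by rw [hcen]
        _ = _ := by group
    rw [this]
    exact inv_mem h1

theorem mem_relSecondCenter (F : Subgroup G) (x : G) :
    x ∈ relSecondCenter F ↔ x ∈ F ∧ ∀ y ∈ F, x * y * x⁻¹ * y⁻¹ ∈ Subgroup.center G := Iff.rfl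

instance relSecondCenter_normal (F : Subgroup G) [hF : F.Normal] :
    (relSecondCenter F).Normal := by
  constructor
  rintro x ⟨hx, hxc⟩ g
  refine ⟨hF.conj_mem x hx g, fun y hy => ?_⟩
  have hy' : g⁻¹ * y * g ∈ F := by
    have := hF.conj_mem y hy g⁻¹
    rwa [inv_inv] at this
  have h1 := hxc _ hy'
  have hcen := Subgroup.mem_center_iff.mp h1 g
  have : g * x * g⁻¹ * y * (g * x * g⁻¹)⁻¹ * y⁻¹ =
      x * (g⁻¹ * y * g) * x⁻¹ * (g⁻¹ * y * g)⁻¹ := by
    calc g * x * g⁻¹ * y * (g * x * g⁻¹)⁻¹ * y⁻¹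
        = g * (x * (g⁻¹ * y * g) * x⁻¹ * (g⁻¹ * y * g)⁻¹) * g⁻¹ := by group
      _ = (x * (g⁻¹ * y * g) * x⁻¹ * (g⁻¹ * y * g)⁻¹) * g * g⁻¹ := by rw [hcen]
      _ = _ := by group
  rw [this]
  exact h1

/-- The centre of a normal subgroup, viewed in `G`, is an abelian normal subgroup. -/
theorem center_map_le_of_abelian_normal_central
    (P : ∀ A : Subgroup G, A.Normal → (∀ a ∈ A, ∀ b ∈ A, a * b = b * a) →
      A ≤ Subgroup.center G) (N : Subgroup G) [hN : N.Normal] :
    (Subgroup.center N).map N.subtype ≤ Subgroup.center G := by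
  apply P _ inferInstance
  rintro _ ⟨a, ha, rfl⟩ _ ⟨b, hb, rfl⟩
  have := Subgroup.mem_center_iff.mp ha b
  have h2 : ((b * a : N) : G) = ((a * b : N) : G) := congrArg Subtype.val this
  simpa using h2.symm

/-- **Main theorem** (`Fintype` version). -/
theorem fitting_eq_center_of_irr_mul_comp_pow [Fintype G] {χ : G → ℂ}
    (hχ : Cfsg.IsIrrCharacter G χ) (hfaith : ∀ g : G, χ g = χ 1 → g = 1) (k : ℕ)
    (hk : k.Coprime (Nat.card G))
    (hirr : Cfsg.IsIrrCharacter G (fun g => χ g * χ (g ^ k))) :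
    Cfsg.fittingSubgroup G = Subgroup.center G := by
  classical
  have hnorm : Cfsg.classInner (fun g => χ g * χ (g ^ k)) (fun g => χ g * χ (g ^ k)) = 1 :=
    classInner_irr_self hirr
  -- (P): abelian normal subgroups are central
  have P : ∀ A : Subgroup G, A.Normal → (∀ a ∈ A, ∀ b ∈ A, a * b = b * a) →
      A ≤ Subgroup.center G := by
    intro A hA hab
    by_contra hle
    obtain ⟨a, haA, hac⟩ := SetLike.not_le_iff_exists.mp hle
    rw [Subgroup.mem_center_iff] at hac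
    push Not at hac
    obtain ⟨g, hg⟩ := hac
    haveI := hA
    have h1 : ∀ a ∈ A, ∀ b ∈ A, χ (a * b * a⁻¹ * b⁻¹) = χ 1 := by
      intro a ha b hb
      have : a * b * a⁻¹ * b⁻¹ = 1 := by
        rw [hab a ha b hb]; group
      rw [this]
    have h2 : ∃ a ∈ A, ∃ g : G, χ (a * g * a⁻¹ * g⁻¹) ≠ χ 1 := by
      refine ⟨a, haA, g, fun h => ?_⟩
      have h3 := hfaith _ h
      apply hg
      calc g * a = (a * g * a⁻¹ * g⁻¹)⁻¹ * (a * g) := by group
        _ = a * g := by rw [h3, inv_one, one_mul]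
    obtain ⟨T, hT, θ, hθ, hind⟩ := monomial_step χ hχ A h1 h2
    exact classInner_ne_one_of_induced hχ T hT θ hθ hind k hk hnorm
  obtain ⟨n, ρ, hρirr, hρχ⟩ := hχ
  haveI := hρirr
  have hfaith' : ∀ g : G, ρ.character g = ρ.character 1 → g = 1 := by
    rw [hρχ]; exact hfaith
  set F := Cfsg.fittingSubgroup G with hFdef
  haveI hFn : F.Normal := Cfsg.Agent.Helper1.fittingSubgroup_normal
  haveI hFnil : Group.IsNilpotent F := Cfsg.Agent.Helper1.fittingSubgroup_isNilpotent
  apply le_antisymm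
  · -- F ≤ Z(G)
    by_contra hle
    have hFnc : ¬ ∀ a b : F, a * b = b * a := by
      intro hab
      apply hle
      apply P F hFn
      intro a ha b hb
      exact congrArg Subtype.val (hab ⟨a, ha⟩ ⟨b, hb⟩)
    obtain ⟨x, hxc, hx2⟩ := exists_second_center hFnc
    have hZF : (Subgroup.center F).map F.subtype ≤ Subgroup.center G :=
      center_map_le_of_abelian_normal_central P F
    set M := relSecondCenter F with hMdef
    have hcomm : ∀ m ∈ M, ∀ m' ∈ M, m * m' * m⁻¹ * m'⁻¹ ∈ Subgroup.center G := by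
      intro m hm m' hm'
      exact hm.2 m' hm'.1
    have hxM : (x : G) ∈ M := by
      refine ⟨x.2, fun y hy => ?_⟩
      apply hZF
      exact ⟨x * ⟨y, hy⟩ * x⁻¹ * ⟨y, hy⟩⁻¹, hx2 ⟨y, hy⟩, rfl⟩
    have hMnc : ¬ M ≤ Subgroup.center G := by
      intro hM
      apply hxc
      rw [Subgroup.mem_center_iff]
      intro y
      apply Subtype.ext
      exact Subgroup.mem_center_iff.mp (hM hxM) (y : G)
    have hZM : (Subgroup.center M).map M.subtype ≤ Subgroup.center G :=
      center_map_le_of_abelian_normal_central P M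
    have hnc : ∀ m ∈ M, m ∉ Subgroup.center G → ∃ m' ∈ M, m * m' ≠ m' * m := by
      intro m hm hmc
      by_contra hcon
      push Not at hcon
      apply hmc
      apply hZM
      refine ⟨⟨m, hm⟩, ?_, rfl⟩
      show (⟨m, hm⟩ : M) ∈ Subgroup.center M
      rw [Subgroup.mem_center_iff]
      intro m'
      apply Subtype.ext
      exact (hcon m' m'.2).symm
    have := classInner_ne_one_of_class_two ρ hfaith' M hcomm hnc hMnc k hk
    rw [hρχ] at this
    exact this hnorm
  · -- Z(G) ≤ F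
    apply Cfsg.Agent.Helper1.le_fittingSubgroup inferInstance
    open scoped IsMulCommutative in
    infer_instance

end Cfsg.Agent.Helper6.GalProd
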