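import Mathlib
import Cfsg.Prelude.Def_Characters
import Cfsg.Prelude.Def_Solvable
import Cfsg.Agent.Helper6.BrolineD

/-!
# Garrison's theorem: the nilpotent length of a solvable group is at most `|cd(G)|`
-/

set_option autoImplicit false
set_option linter.style.haveILetI false

namespace Cfsg.Agent.Helper6

open Module Representation
open scoped ComplexConjugate

universe u

/-- A normal series with nilpotent factors reaching `⊤` at step `k` (indexed by `ℕ`). -/
def NilpChain (G : Type u) [Group G] (k : ℕ) : Prop :=
  ∃ N : ℕ → Subgroup G, N 0 = ⊥ ∧ N k = ⊤ ∧ Monotone N ∧ (∀ i, (N i).Normal) ∧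
    ∀ i, ∀ _ : ((N i).subgroupOf (N (i + 1))).Normal,
      Group.IsNilpotent (↥(N (i + 1)) ⧸ (N i).subgroupOf (N (i + 1)))

theorem NilpChain.mono {G : Type u} [Group G] {k k' : ℕ} (h : NilpChain G k) (hk : k ≤ k') :
    NilpChain G k' := by
  obtain ⟨N, h0, hk1, hmono, hn, hnil⟩ := h
  refine ⟨N, h0, ?_, hmono, hn, hnil⟩
  apply top_le_iff.mp
  rw [← hk1]
  exact hmono hk

/-- a nilpotent group injects: nilpotency pulls back along injective homomorphisms -/
theorem isNilpotent_of_injective' {A B : Type*} [Group A] [Group B] (f : A →* B)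
    (hf : Function.Injective f) (hB : Group.IsNilpotent B) : Group.IsNilpotent A := by
  haveI := hB
  haveI : Group.IsNilpotent f.range := inferInstance
  exact Group.nilpotent_of_mulEquiv (MonoidHom.ofInjective hf).symm

/-- a quotient of a nilpotent subgroup is nilpotent -/
theorem nilp_step_of_nilpotent {G : Type u} [Group G] (A B : Subgroup G)
    (h : (B.subgroupOf A).Normal) (hA : Group.IsNilpotent A) :
    Group.IsNilpotent (↥A ⧸ B.subgroupOf A) := by
  haveI := hA
  infer_instance

/-- nilpotent sections pull back along homomorphisms -/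
theorem nilp_step_comap {G Q : Type u} [Group G] [Group Q] (f : G →* Q) (A B : Subgroup Q)
    (hn : (B.subgroupOf A).Normal) (hnil : Group.IsNilpotent (↥A ⧸ B.subgroupOf A))
    (hn' : ((B.comap f).subgroupOf (A.comap f)).Normal) :
    Group.IsNilpotent (↥(A.comap f) ⧸ (B.comap f).subgroupOf (A.comap f)) := by
  let g : A.comap f →* A := f.subgroupComap A
  have hle : (B.comap f).subgroupOf (A.comap f) ≤ (B.subgroupOf A).comap g := by
    intro x hx
    exact hx
  let φ := QuotientGroup.map ((B.comap f).subgroupOf (A.comap f)) (B.subgroupOf A) g hle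
  apply isNilpotent_of_injective' φ _ hnil
  rw [injective_iff_map_eq_one]
  intro x
  induction x using QuotientGroup.induction_on with
  | H x =>
    intro hx
    rw [QuotientGroup.map_mk, QuotientGroup.eq_one_iff] at hx
    rw [QuotientGroup.eq_one_iff]
    exact hx

theorem nilpChain_of_nilpotent {G : Type u} [Group G] (hG : Group.IsNilpotent G) :
    NilpChain G 1 := by
  refine ⟨fun i => match i with | 0 => ⊥ | _ + 1 => ⊤, rfl, rfl, ?_, ?_, ?_⟩
  · intro i j hij
    match i, j with
    | 0, _ => exact bot_le
    | i + 1, 0 => omega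
    | i + 1, j + 1 => exact le_rfl
  · intro i
    match i with
    | 0 => exact Subgroup.normal_bot
    | i + 1 => exact Subgroup.normal_top
  · intro i h
    apply nilp_step_of_nilpotent _ _ h
    change Group.IsNilpotent (⊤ : Subgroup G)
    haveI := hG
    exact Group.nilpotent_of_mulEquiv Subgroup.topEquiv.symm

/-- Lift a nilpotent chain of `G ⧸ F`, `F` nilpotent normal, to a chain of `G` one step longer. -/
theorem nilpChain_of_quotient {G : Type u} [Group G] (F : Subgroup G) [hF : F.Normal]
    (hFnil : Group.IsNilpotent F) {k : ℕ} (h : NilpChain (G ⧸ F) k) : NilpChain G (k + 1) := by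
  obtain ⟨N, h0, hk1, hmono, hn, hnil⟩ := h
  refine ⟨fun i => match i with | 0 => ⊥ | j + 1 => (N j).comap (QuotientGroup.mk' F), rfl, ?_,
    ?_, ?_, ?_⟩
  · change (N k).comap (QuotientGroup.mk' F) = ⊤
    rw [hk1, Subgroup.comap_top]
  · intro i j hij
    match i, j with
    | 0, _ => exact bot_le
    | i + 1, 0 => omega
    | i + 1, j + 1 => exact Subgroup.comap_mono (hmono (by omega))
  · intro i
    match i with
    | 0 => exact Subgroup.normal_bot
    | i + 1 =>
      haveI := hn i
      change ((N i).comap (QuotientGroup.mk' F)).Normal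
      infer_instance
  · intro i h
    match i with
    | 0 =>
      apply nilp_step_of_nilpotent _ _ h
      change Group.IsNilpotent ((N 0).comap (QuotientGroup.mk' F))
      rw [h0, MonoidHom.comap_bot, QuotientGroup.ker_mk']
      exact hFnil
    | i + 1 =>
      haveI := hn i
      exact nilp_step_comap (QuotientGroup.mk' F) (N (i + 1)) (N i) Subgroup.normal_subgroupOf
        (hnil i Subgroup.normal_subgroupOf) h

end Cfsg.Agent.Helper6
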