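import Mathlib
import Cfsg.Prelude.Def_Characters
import Cfsg.Prelude.Def_Solvable
import Cfsg.Agent.Helper6.GarrisonA
import Cfsg.Agent.Helper6.PrincipalDefect

/-!
# Garrison's theorem: main induction
-/

set_option autoImplicit false
set_option linter.style.haveILetI false

namespace Cfsg.Agent.Helper6

open Module Representation
open scoped ComplexConjugate

universe u

/-- The set of irreducible character degrees. -/
def cdSet (G : Type u) [Group G] : Set ℕ :=
  Set.range (fun χ : Cfsg.IrrCharacter G => Cfsg.charDegree (χ : G → ℂ))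

theorem cdSet_finite (G : Type u) [Group G] [Finite G] : (cdSet G).Finite := by
  haveI : Finite (Cfsg.IrrCharacter G) := irr_finite
  exact Set.finite_range _

theorem cdSet_nonempty (G : Type u) [Group G] : (cdSet G).Nonempty :=
  ⟨_, trivIrr G, rfl⟩

theorem garrison_aux : ∀ (m : ℕ) (G : Type u) [Group G] [Finite G] [Group.IsSolvable G],
    Nat.card G = m → NilpChain G (cdSet G).ncard := by
  intro m
  induction m using Nat.strong_induction_on with
  | _ m ih =>
  intro G _ _ _ hm
  by_cases hnil : Group.IsNilpotent G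
  · apply (nilpChain_of_nilpotent hnil).mono
    exact (Set.ncard_pos (cdSet_finite G)).mpr (cdSet_nonempty G)
  · set F := Cfsg.fittingSubgroup G with hFdef
    have hFnil : Group.IsNilpotent F := Helper1.fittingSubgroup_isNilpotent
    have hFtop : F ≠ ⊤ := by
      intro h
      apply hnil
      haveI : Group.IsNilpotent (⊤ : Subgroup G) := h ▸ hFnil
      exact Group.nilpotent_of_mulEquiv Subgroup.topEquiv
    have hFbot : F ≠ ⊥ := by
      haveI : Nontrivial G := by
        by_contra hnt
        rw [not_nontrivial_iff_subsingleton] at hnt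
        exact hnil inferInstance
      obtain ⟨p, hp, N, hNn, hNne, hNp, -, -⟩ := Helper1.exists_minimal_normal_abelian G
      haveI := hp
      intro hbot
      have : N ≤ F := Helper1.le_fittingSubgroup hNn hNp.isNilpotent
      rw [hbot] at this
      exact hNne (le_bot_iff.mp this)
    have hcard : Nat.card (G ⧸ F) < m := by
      have h1 : 1 < Nat.card F := (Subgroup.one_lt_card_iff_ne_bot F).mpr hFbot
      have h2 : 0 < Nat.card (G ⧸ F) := Nat.card_pos
      have h3 := Subgroup.card_eq_card_quotient_mul_card_subgroup F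
      rw [← hm, h3]
      nlinarith
    have hchain := ih _ hcard (G ⧸ F) rfl
    have hlift := nilpChain_of_quotient F hFnil hchain
    apply hlift.mono
    apply Nat.succ_le_of_lt
    apply Set.ncard_lt_ncard _ (cdSet_finite G)
    have hsub : cdSet (G ⧸ F) ⊆ cdSet G := by
      rintro d ⟨χ', rfl⟩
      refine ⟨⟨_, isIrrCharacter_inflate F χ'⟩, ?_⟩
      change Cfsg.charDegree ((χ' : G ⧸ F → ℂ) ∘ QuotientGroup.mk) = _
      unfold Cfsg.charDegree
      rw [Function.comp_apply, QuotientGroup.mk_one]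
    refine ⟨hsub, fun hsup => ?_⟩
    obtain ⟨d₀, ⟨χ', hχ'⟩, hmax⟩ := Set.exists_max_image (cdSet (G ⧸ F)) id
      (cdSet_finite (G ⧸ F)) (cdSet_nonempty (G ⧸ F))
    let χ : Cfsg.IrrCharacter G := ⟨_, isIrrCharacter_inflate F χ'⟩
    have hχd : Cfsg.charDegree (χ : G → ℂ) = d₀ := by
      rw [← hχ']
      change Cfsg.charDegree ((χ' : G ⧸ F → ℂ) ∘ QuotientGroup.mk) = _
      unfold Cfsg.charDegree
      rw [Function.comp_apply, QuotientGroup.mk_one]
    obtain ⟨K, hKn, hK, -⟩ := exists_kernel_data χ.2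
    haveI := hKn
    have hFK : F ≤ K := by
      intro g hg
      rw [hK]
      change (χ' : G ⧸ F → ℂ) ((g : G) : G ⧸ F) = (χ' : G ⧸ F → ℂ) ((1 : G) : G ⧸ F)
      rw [(QuotientGroup.eq_one_iff g).mpr hg, QuotientGroup.mk_one]
    have hyp : ¬ K ≤ Cfsg.fittingSubgroup G ∨
        (K = Cfsg.fittingSubgroup G ∧ Group.IsSolvable (G ⧸ K) ∧ K ≠ ⊤) := by
      by_cases hKF : K ≤ Cfsg.fittingSubgroup G
      · right
        have hKeq : K = Cfsg.fittingSubgroup G := le_antisymm hKF hFK
        refine ⟨hKeq, inferInstance, ?_⟩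
        rw [hKeq]
        exact hFtop
      · left
        exact hKF
    obtain ⟨ψ, hlt, -⟩ := broline_garrison χ K hK hyp
    have hψ : Cfsg.charDegree (ψ : G → ℂ) ∈ cdSet (G ⧸ F) := hsup ⟨ψ, rfl⟩
    have := hmax _ hψ
    simp only [id] at this
    omega

/-- **Garrison's theorem.** -/
theorem garrison {G : Type u} [Group G] [Finite G] (hsolv : Group.IsSolvable G) (n : ℕ)
    (hcd : Nat.card {d : ℕ // ∃ χ : Cfsg.IrrCharacter G, Cfsg.charDegree (χ : G → ℂ) = d} = n) :
    ∃ N : Fin (n + 1) → Subgroup G, N 0 = ⊥ ∧ N (Fin.last n) = ⊤ ∧ Monotone N ∧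
      (∀ i, (N i).Normal) ∧ ∀ i : Fin n, ∀ _ : (N i.castSucc).subgroupOf (N i.succ) |>.Normal,
        Group.IsNilpotent (↥(N i.succ) ⧸ (N i.castSucc).subgroupOf (N i.succ)) := by
  haveI := hsolv
  have hn : (cdSet G).ncard = n := by
    rw [← hcd]
    exact (Nat.card_coe_set_eq (cdSet G)).symm
  obtain ⟨N, h0, hk, hmono, hnorm, hnil⟩ := hn ▸ garrison_aux (Nat.card G) G rfl
  refine ⟨fun i => N i.val, h0, hk, fun i j hij => hmono hij, fun i => hnorm i, ?_⟩
  intro i h
  exact hnil i.val h

end Cfsg.Agent.Helper6
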