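import Mathlib
import Cfsg.Agent.Helper6.CtrG
import Cfsg.Agent.Helper1.GWi

/-!
# Generation of a fusion system by `C_F(℧¹(Z(S)))` and `N_F(J(S))`, part A

Group-theoretic factorization (Glauberman): if `C_L(O_p(L)) ≤ O_p(L)` and `P` is a Sylow
`p`-subgroup of `L`, then `L = C_L(℧¹(Z(P))) N_L(J(P))`.
-/

set_option autoImplicit false
set_option linter.style.haveILetI false
set_option maxHeartbeats 1000000

namespace Cfsg.Agent.Helper6.GlGen

open Cfsg Cfsg.Agent.Helper1 Cfsg.Agent.Helper6.Ctr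
open Cfsg.Agent.Lead Cfsg.Agent.Lead.ZJ Cfsg.Agent.Lead.GR Cfsg.Agent.Helper1.TN
open scoped commutatorElement

universe u

/-- A quadratically acting subgroup gives the commutator condition for the cyclic subgroups of its
elements. -/
theorem commutator_eq_bot_of_quad {L : Type*} [Group L] {V A : Subgroup L}
    (hq : GW.Quad V A) (a : L) (ha : a ∈ A) :
    ⁅⁅V, Subgroup.zpowers a⁆, Subgroup.zpowers a⁆ = ⊥ := by
  have hzA : Subgroup.zpowers a ≤ A := Subgroup.zpowers_le.mpr ha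
  rw [Subgroup.commutator_eq_bot_iff_le_centralizer, Subgroup.commutator_le]
  intro v hv b hb
  rw [Subgroup.mem_centralizer_iff]
  intro c hc
  have h1 := hq v hv b (hzA hb) c (hzA hc)
  -- `⁅v, b⁆ = (b v b⁻¹ v⁻¹)⁻¹`
  have h2 : ⁅v, b⁆ = (b * v * b⁻¹ * v⁻¹)⁻¹ := by
    rw [commutatorElement_def]; group
  rw [h2]
  calc c * (b * v * b⁻¹ * v⁻¹)⁻¹
      = (b * v * b⁻¹ * v⁻¹)⁻¹ * ((b * v * b⁻¹ * v⁻¹) * c) * (b * v * b⁻¹ * v⁻¹)⁻¹ := by group
    _ = (b * v * b⁻¹ * v⁻¹)⁻¹ * (c * (b * v * b⁻¹ * v⁻¹)) * (b * v * b⁻¹ * v⁻¹)⁻¹ := by rw [h1]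
    _ = (b * v * b⁻¹ * v⁻¹)⁻¹ * c := by group

/-- Glauberman's factorization `L = C_L(℧¹(Z(P))) N_L(J(P))` for groups with
`C_L(O_p(L)) ≤ O_p(L)`. -/
theorem factor (p : ℕ) [Fact p.Prime] :
    ∀ (n : ℕ) (L : Type u) [Group L] [Finite L], Nat.card L = n → ∀ (P : Sylow p L),
      Subgroup.centralizer ((pCore p L : Subgroup L) : Set L) ≤ pCore p L →
      ∀ g : L, ∃ c m : L, g = c * m ∧
        (∀ x ∈ (P : Subgroup L), (∀ t ∈ (P : Subgroup L), t * x = x * t) →
          c * x ^ p = x ^ p * c) ∧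
        m ∈ Subgroup.normalizer ((jaFunctor.of (P : Subgroup L) : Subgroup L) : Set L) := by
  intro n
  induction n using Nat.strong_induction_on with
  | _ n ih =>
  intro L _ _ hn P hcent g
  haveI hQn : (pCore p L).Normal := Cfsg.Agent.Helper4.pCore_normal
  have hQP : pCore p L ≤ P := Cfsg.Agent.Helper4.pCore_le_sylow P
  -- the subgroup `V = Z(O_p(L))`
  obtain ⟨V, hVdef⟩ : ∃ V : Subgroup L,
      V = (Subgroup.center ↥(Cfsg.pCore p L)).map (Cfsg.pCore p L).subtype := ⟨_, rfl⟩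
  haveI hVn : V.Normal := by rw [hVdef]; infer_instance
  have hVab : ∀ a ∈ V, ∀ b ∈ V, a * b = b * a := by
    rw [hVdef]
    rintro _ ⟨a, ha, rfl⟩ _ ⟨b, -, rfl⟩
    have h1 := Subgroup.mem_center_iff.mp ha b
    exact (congrArg Subtype.val h1).symm
  have hVQ : ∀ v ∈ V, ∀ q ∈ pCore p L, v * q = q * v := by
    rw [hVdef]
    rintro _ ⟨a, ha, rfl⟩ q hq
    have h1 := Subgroup.mem_center_iff.mp ha ⟨q, hq⟩
    exact (congrArg Subtype.val h1).symm
  have hVleQ : V ≤ pCore p L := by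
    rw [hVdef]
    rintro _ ⟨a, -, rfl⟩
    exact a.2
  have hVP : V ≤ (P : Subgroup L) := hVleQ.trans hQP
  have hxV : ∀ x ∈ (P : Subgroup L), (∀ t ∈ (P : Subgroup L), t * x = x * t) → x ∈ V := by
    intro x hxP hxZ
    have hxQ : x ∈ pCore p L := by
      apply hcent
      rw [Subgroup.mem_centralizer_iff]
      intro q hq
      exact hxZ q (hQP hq)
    rw [hVdef]
    refine ⟨⟨x, hxQ⟩, ?_, rfl⟩
    rw [SetLike.mem_coe, Subgroup.mem_center_iff]
    intro q
    apply Subtype.ext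
    exact hxZ q (hQP q.2)
  have hQC : pCore p L ≤ Subgroup.centralizer (V : Set L) := by
    intro q hq
    rw [Subgroup.mem_centralizer_iff]
    intro v hv
    exact hVQ v hv q hq
  by_cases hex : ∃ A ∈ (goodAb L).fam (P : Subgroup L), ¬ A ≤ Subgroup.centralizer (V : Set L)
  · -- some abelian subgroup of largest order acts nontrivially: quadratic action
    obtain ⟨A, hA, hAC, hquad⟩ := GW.exists_fam_quad P V hVab hVP hex
    obtain ⟨a, haA, haC⟩ := SetLike.not_le_iff_exists.mp hAC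
    have haP : a ∈ (P : Subgroup L) := hA.1 haA
    have hapow : ∃ m : ℕ, a ^ (p ^ m) = 1 := by
      obtain ⟨m, hm⟩ := P.isPGroup' ⟨a, haP⟩
      exact ⟨m, by simpa using congrArg Subtype.val hm⟩
    obtain ⟨k, hk1, hk2⟩ := exists_pow_not_mem p (Subgroup.centralizer (V : Set L)) a hapow haC
    have ha₁A : a ^ (p ^ k) ∈ A := Subgroup.pow_mem _ haA _
    have ha₁P : a ^ (p ^ k) ∈ (P : Subgroup L) := hA.1 ha₁A
    have hquad₁ := commutator_eq_bot_of_quad hquad (a ^ (p ^ k)) ha₁A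
    set T : Set L := (fun v => v ^ p) '' (V : Set L) with hTdef
    have hTconj : ∀ t ∈ T, ∀ l : L, l⁻¹ * t * l ∈ T := by
      rintro _ ⟨v, hv, rfl⟩ l
      refine ⟨l⁻¹ * v * l, ?_, ?_⟩
      · have := hVn.conj_mem v hv l⁻¹
        simpa using this
      · show (l⁻¹ * v * l) ^ p = l⁻¹ * v ^ p * l
        have h1 : l⁻¹ * v * l = l⁻¹ * v * (l⁻¹)⁻¹ := by rw [inv_inv]
        have h2 : l⁻¹ * v ^ p * l = l⁻¹ * v ^ p * (l⁻¹)⁻¹ := by rw [inv_inv]
        rw [h1, h2, conj_pow]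
    haveI hCn : (Subgroup.centralizer T).Normal := by
      constructor
      intro c hc l
      rw [Subgroup.mem_centralizer_iff] at hc ⊢
      intro t ht
      have h1 := hc _ (hTconj t ht l)
      calc t * (l * c * l⁻¹) = l * ((l⁻¹ * t * l) * c) * l⁻¹ := by group
        _ = l * (c * (l⁻¹ * t * l)) * l⁻¹ := by rw [h1]
        _ = l * c * l⁻¹ * t := by group
    have ha₁C : a ^ (p ^ k) ∈ Subgroup.centralizer T := by
      rw [Subgroup.mem_centralizer_iff]
      rintro _ ⟨v, hv, rfl⟩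
      refine pow_comm_of_quadratic p hVab (a ^ (p ^ k)) hquad₁ (fun v hv => ?_) v hv
      exact Subgroup.mem_centralizer_iff.mp hk2 v hv
    have hfr := GW.frattini_sylow_inf P (Subgroup.centralizer T)
    have hPD := GW.le_normalizer_inf_normal (P : Subgroup L) (Subgroup.centralizer T)
    have hDnn : Subgroup.normalizer
        (((P : Subgroup L) ⊓ Subgroup.centralizer T : Subgroup L) : Set L) ≠ ⊤ := by
      intro htop
      have hDn : ((P : Subgroup L) ⊓ Subgroup.centralizer T).Normal :=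
        Subgroup.normalizer_eq_top_iff.mp htop
      have hDp : IsPGroup p ↥((P : Subgroup L) ⊓ Subgroup.centralizer T) :=
        P.isPGroup'.to_le inf_le_left
      exact hk1 (hQC (Cfsg.Agent.Helper4.le_pCore _ hDn hDp
        (Subgroup.mem_inf.mpr ⟨ha₁P, ha₁C⟩)))
    obtain ⟨L₁, hL₁def⟩ : ∃ L₁ : Subgroup L, L₁ = Subgroup.normalizer
        (((P : Subgroup L) ⊓ Subgroup.centralizer T : Subgroup L) : Set L) := ⟨_, rfl⟩
    rw [← hL₁def] at hfr hPD hDnn
    have hlt : Nat.card L₁ < n := by rw [← hn]; exact card_lt_of_ne_top L₁ hDnn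
    have hcentH := centralizer_pCore_le_of_le p hcent L₁ (hQP.trans hPD)
    -- decompose `g`
    have hg : g ∈ (↑(Subgroup.centralizer T ⊔ L₁) : Set L) := by
      rw [sup_comm, hfr]; exact Set.mem_univ _
    rw [Subgroup.normal_mul] at hg
    obtain ⟨c₁, hc₁, h, hh, rfl⟩ := hg
    obtain ⟨c₂, m₂, hcm, hc₂, hm₂⟩ := ih (Nat.card L₁) hlt ↥L₁ rfl (P.subtype hPD) hcentH ⟨h, hh⟩
    refine ⟨c₁ * c₂, m₂, ?_, ?_, ?_⟩
    · have := congrArg Subtype.val hcm
      simp only [Subgroup.coe_mul] at this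
      show c₁ * h = c₁ * c₂ * m₂
      rw [this, mul_assoc]
    · intro x hxP hxZ
      have hxT : x ^ p ∈ T := ⟨x, hxV x hxP hxZ, rfl⟩
      have h1 : c₁ * x ^ p = x ^ p * c₁ :=
        (Subgroup.mem_centralizer_iff.mp hc₁ _ hxT).symm
      have hxH : (⟨x, hPD hxP⟩ : L₁) ∈ ((P.subtype hPD : Sylow p L₁) : Subgroup L₁) := by
        rw [Sylow.coe_subtype, Subgroup.mem_subgroupOf]; exact hxP
      have hxZH : ∀ t ∈ ((P.subtype hPD : Sylow p L₁) : Subgroup L₁),
          t * (⟨x, hPD hxP⟩ : L₁) = ⟨x, hPD hxP⟩ * t := by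
        intro t ht
        rw [Sylow.coe_subtype, Subgroup.mem_subgroupOf] at ht
        exact Subtype.ext (hxZ t ht)
      have h2 := congrArg Subtype.val (hc₂ ⟨x, hPD hxP⟩ hxH hxZH)
      simp only [Subgroup.coe_mul, Subgroup.coe_pow] at h2
      calc c₁ * (c₂ : L) * x ^ p = c₁ * ((c₂ : L) * x ^ p) := by group
        _ = c₁ * (x ^ p * (c₂ : L)) := by rw [h2]
        _ = (c₁ * x ^ p) * (c₂ : L) := by group
        _ = x ^ p * c₁ * (c₂ : L) := by rw [h1]
        _ = x ^ p * (c₁ * (c₂ : L)) := by group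
    · have h2 : (jaFunctor.of ((P : Subgroup L).subgroupOf L₁)).map L₁.subtype =
          jaFunctor.of (P : Subgroup L) := jaFunctor.of_subgroupOf hPD
      rw [← h2]
      rw [Sylow.coe_subtype] at hm₂
      exact Subgroup.le_normalizer_map L₁.subtype ⟨m₂, hm₂, rfl⟩
  · -- all abelian subgroups of largest order centralize `V`
    push Not at hex
    obtain ⟨C, hC⟩ : ∃ C, C = Subgroup.centralizer (V : Set L) := ⟨_, rfl⟩
    haveI hCn : C.Normal := by rw [hC]; infer_instance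
    rw [← hC] at hex hQC
    have hJC : Cfsg.thompsonSubgroupAOf (P : Subgroup L) ≤ (P : Subgroup L) ⊓ C := by
      rw [thompsonSubgroupAOf_eq_sSup]
      apply sSup_le
      intro A hA
      exact le_inf hA.1 (hex A hA)
    have h1 := thompsonSubgroupAOf_eq_of_le (inf_le_left : (P : Subgroup L) ⊓ C ≤ P) hJC
    have h2 := jaFunctor.normalizer_le ((P : Subgroup L) ⊓ C)
    rw [jaFunctor_of, h1] at h2
    have hfr := GW.frattini_sylow_inf P C
    have hg : g ∈ (↑(C ⊔ Subgroup.normalizer (((P : Subgroup L) ⊓ C : Subgroup L) : Set L)) :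
        Set L) := by
      rw [sup_comm, hfr]; exact Set.mem_univ _
    rw [Subgroup.normal_mul] at hg
    obtain ⟨c, hc, m, hm, rfl⟩ := hg
    refine ⟨c, m, rfl, ?_, ?_⟩
    · intro x hxP hxZ
      have hxpV : x ^ p ∈ V := Subgroup.pow_mem _ (hxV x hxP hxZ) _
      rw [SetLike.mem_coe, hC, Subgroup.mem_centralizer_iff] at hc
      exact (hc _ hxpV).symm
    · rw [jaFunctor_of]
      exact h2 hm

end Cfsg.Agent.Helper6.GlGen
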