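import Mathlib
import Cfsg.Agent.Helper6.GlGenA
import Cfsg.Agent.Helper6.CtrI

/-!
# Generation of a fusion system by `C_F(℧¹(Z(S)))` and `N_F(J(S))`, part B

In a fusion system with a model every map is the composite of a map of `N_F(J(S))` followed by a
map of `C_F(℧¹(Z(S)))`.
-/

set_option autoImplicit false
set_option linter.style.haveILetI false
set_option maxHeartbeats 1000000

namespace Cfsg.Agent.Helper6.GlGen

open Cfsg Cfsg.FusionSystem Cfsg.Agent.Lead Cfsg.Agent.Helper1 Cfsg.Agent.Helper6.Ctr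
  Cfsg.Agent.Lead.GlTh Cfsg.Agent.Lead.KL Cfsg.Agent.Helper1.TN

universe u

/-- A `p`-subgroup of a subgroup `D` containing a Sylow `p`-subgroup `T` is conjugate in `D` into
`T`. -/
theorem exists_conj_le_sylow {L : Type*} [Group L] [Finite L] {p : ℕ} [Fact p.Prime]
    (T : Sylow p L) (D : Subgroup L) (hTD : (T : Subgroup L) ≤ D) (H : Subgroup L) (hHD : H ≤ D)
    (hH : IsPGroup p H) : ∃ d ∈ D, ∀ h ∈ H, d * h * d⁻¹ ∈ (T : Subgroup L) := by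
  have hH' : IsPGroup p (H.subgroupOf D) := hH.comap_subtype
  obtain ⟨Q, hQ⟩ := hH'.exists_le_sylow
  obtain ⟨d, hd⟩ := MulAction.exists_smul_eq D Q (T.subtype hTD)
  refine ⟨d.1, d.2, fun h hh => ?_⟩
  have h1 : (⟨h, hHD hh⟩ : D) ∈ (Q : Subgroup D) := hQ (Subgroup.mem_subgroupOf.mpr hh)
  have h2 : d * ⟨h, hHD hh⟩ * d⁻¹ ∈ ((d • Q : Sylow p D) : Subgroup D) := by
    rw [Sylow.coe_subgroup_smul]
    exact ⟨_, h1, rfl⟩
  rw [hd, Sylow.coe_subtype, Subgroup.mem_subgroupOf] at h2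
  simpa using h2

variable {Ω : Type u} [Group Ω] {R : Subgroup Ω}

/-- In a realized system, conjugation by `g` on `P ⊔ Q` is a map of the system as soon as it
carries the images of `P` and `Q` into the image of `R`. -/
theorem exists_hom_conj_sup (F : FusionSystem R) {L : Type*} [Group L] (ι : R →* L)
    (hι : F.IsRealizedBy ι) {P Q : Subgroup Ω} (hP : P ≤ R) (hQ : Q ≤ R) (g : L)
    (hgP : ∀ x : P, g * ι ⟨x, hP x.2⟩ * g⁻¹ ∈ ι.range)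
    (hgQ : ∀ x : Q, g * ι ⟨x, hQ x.2⟩ * g⁻¹ ∈ ι.range) :
    ∃ ψ ∈ F.Hom (P ⊔ Q), ∃ hψ : ∀ x, ψ x ∈ R, ∀ x : ↥(P ⊔ Q),
      ι ⟨ψ x, hψ x⟩ = g * ι ⟨x, (sup_le hP hQ) x.2⟩ * g⁻¹ := by
  apply Fusion.exists_hom_of_conj_mem_range F ι hι (sup_le hP hQ) g
  set M : Subgroup Ω := ((ι.range.comap (MulAut.conj g).toMonoidHom).comap ι).map R.subtype
    with hM
  have hmem : ∀ (x : Ω) (hx : x ∈ R), x ∈ M ↔ g * ι ⟨x, hx⟩ * g⁻¹ ∈ ι.range := by
    intro x hx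
    constructor
    · rintro ⟨r, hr, hrx⟩
      have : r = ⟨x, hx⟩ := Subtype.ext hrx
      subst this
      simpa using hr
    · intro h
      exact ⟨⟨x, hx⟩, by simpa using h, rfl⟩
  have hPM : P ≤ M := fun x hx => (hmem x (hP hx)).mpr (hgP ⟨x, hx⟩)
  have hQM : Q ≤ M := fun x hx => (hmem x (hQ hx)).mpr (hgQ ⟨x, hx⟩)
  intro x
  exact (hmem x.1 ((sup_le hP hQ) x.2)).mp ((sup_le hPM hQM) x.2)

/-- Every element of `R` centralizes `℧¹(Z(R))`. -/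
theorem le_centralizer_powerClosure (p : ℕ) (R : Subgroup Ω) :
    R ≤ Subgroup.centralizer ((Cfsg.powerClosure p 1 (zS R) : Subgroup Ω) : Set Ω) := by
  intro r hr
  rw [Subgroup.mem_centralizer_iff]
  intro v hv
  have h1 : Cfsg.powerClosure p 1 (zS R) ≤ Subgroup.centralizer ({r} : Set Ω) := by
    unfold Cfsg.powerClosure
    rw [Subgroup.closure_le]
    rintro _ ⟨x, hx, rfl⟩
    rw [SetLike.mem_coe, Subgroup.mem_centralizer_singleton_iff]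
    have h2 : x * r = r * x :=
      Subgroup.mem_centralizer_iff.mp (Subgroup.mem_inf.mp hx).2 r hr |>.symm
    exact (Commute.pow_left (show Commute x r from h2) _).eq
  exact Subgroup.mem_centralizer_singleton_iff.mp (h1 hv)

/-- In a fusion system with a model, every map is a map of `N_F(J(R))` followed by a map of
`C_F(℧¹(Z(R)))`. -/
theorem factor_of_model [Finite R] (p : ℕ) [Fact p.Prime] (F : FusionSystem R)
    (L : Type u) [Group L] (ι : R →* L) (hL : F.IsModel p L ι) (P : Subgroup Ω) (φ : P →* Ω)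
    (hφ : φ ∈ F.Hom P) :
    ∃ φ₁ ∈ F.normalizerHom (Cfsg.thompsonSubgroupAOf R) P,
      ∃ φ₂ ∈ F.centralizerHom (Cfsg.powerClosure p 1 (zS R)) φ₁.range,
        ∀ x : P, φ x = φ₂ ⟨φ₁ x, ⟨x, rfl⟩⟩ := by
  obtain ⟨hfin, hreal, ⟨T, hT⟩, hcent⟩ := hL
  haveI := hfin
  have hinj := hreal.1
  have hPR : P ≤ R := Fusion.src_le F hφ
  have hφR : ∀ z, φ z ∈ R := Fusion.map_mem F hφ
  obtain ⟨g, hg⟩ := (hreal.2 P hPR φ hφR).mp hφ
  obtain ⟨c, m, hgcm, hc, hm⟩ := factor p _ L rfl T hcent g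
  have hιT : ∀ r : R, ι r ∈ (T : Subgroup L) := fun r => by rw [hT]; exact ⟨r, rfl⟩
  -- the `p`-th powers of the central elements of `T`
  obtain ⟨Z', hZ'⟩ : ∃ Z' : Set L, Z' = (fun x => x ^ p) ''
      {x | x ∈ (T : Subgroup L) ∧ ∀ t ∈ (T : Subgroup L), t * x = x * t} := ⟨_, rfl⟩
  have hcC : c ∈ Subgroup.centralizer Z' := by
    rw [Subgroup.mem_centralizer_iff, hZ']
    rintro _ ⟨x, ⟨hx1, hx2⟩, rfl⟩
    exact (hc x hx1 hx2).symm
  have hTC : (T : Subgroup L) ≤ Subgroup.centralizer Z' := by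
    intro t ht
    rw [Subgroup.mem_centralizer_iff, hZ']
    rintro _ ⟨x, ⟨-, hx2⟩, rfl⟩
    exact (Commute.pow_right (show Commute t x from hx2 t ht) _).eq.symm
  obtain ⟨J, hJ⟩ : ∃ J : Subgroup L, J = jaFunctor.of (T : Subgroup L) := ⟨_, rfl⟩
  rw [← hJ] at hm
  have hTN : (T : Subgroup L) ≤ Subgroup.normalizer (J : Set L) := by
    rw [hJ]; exact le_normalizer_of jaFunctor _
  have hJT : J ≤ (T : Subgroup L) := by rw [hJ]; exact jaFunctor.of_le _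
  obtain ⟨D, hD⟩ : ∃ D : Subgroup L, D = Subgroup.centralizer Z' ⊓
      Subgroup.normalizer (J : Set L) := ⟨_, rfl⟩
  have hTD : (T : Subgroup L) ≤ D := by rw [hD]; exact le_inf hTC hTN
  -- the conjugate of the image of `P`
  have hgx : ∀ x : P, g * ι ⟨x, hPR x.2⟩ * g⁻¹ ∈ (T : Subgroup L) := by
    intro x
    rw [← hg x]
    exact hιT _
  have hHD : ((P.subgroupOf R).map ι).map (MulAut.conj m).toMonoidHom ≤ D := by
    rintro _ ⟨_, ⟨x, hx, rfl⟩, rfl⟩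
    rw [SetLike.mem_coe, Subgroup.mem_subgroupOf] at hx
    rw [hD]
    refine Subgroup.mem_inf.mpr ⟨?_, ?_⟩
    · have h1 : (MulAut.conj m).toMonoidHom (ι x) = c⁻¹ * (g * ι x * g⁻¹) * c := by
        simp only [MulEquiv.coe_toMonoidHom, MulAut.conj_apply]
        rw [hgcm]; group
      rw [h1]
      exact Subgroup.mul_mem _ (Subgroup.mul_mem _ (Subgroup.inv_mem _ hcC)
        (hTC (hgx ⟨x.1, hx⟩))) hcC
    · simp only [MulEquiv.coe_toMonoidHom, MulAut.conj_apply]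
      exact Subgroup.mul_mem _ (Subgroup.mul_mem _ hm (hTN (hιT x))) (Subgroup.inv_mem _ hm)
  have hHp : IsPGroup p ↥(((P.subgroupOf R).map ι).map (MulAut.conj m).toMonoidHom) := by
    apply IsPGroup.map
    apply T.isPGroup'.to_le
    rintro _ ⟨x, -, rfl⟩
    exact hιT x
  obtain ⟨d, hdD, hd⟩ := exists_conj_le_sylow T D hTD _ hHD hHp
  rw [hD] at hdD
  obtain ⟨hdC, hdN⟩ := Subgroup.mem_inf.mp hdD
  have hm' : d * m ∈ Subgroup.normalizer (J : Set L) := Subgroup.mul_mem _ hdN hm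
  have hc' : c * d⁻¹ ∈ Subgroup.centralizer Z' :=
    Subgroup.mul_mem _ hcC (Subgroup.inv_mem _ hdC)
  have hgcm' : g = (c * d⁻¹) * (d * m) := by rw [hgcm]; group
  have hm'P : ∀ x : P, (d * m) * ι ⟨x, hPR x.2⟩ * (d * m)⁻¹ ∈ ι.range := by
    intro x
    rw [← hT]
    have h1 := hd (m * ι ⟨x, hPR x.2⟩ * m⁻¹) ⟨ι ⟨x, hPR x.2⟩, ⟨⟨x, hPR x.2⟩, by
      rw [SetLike.mem_coe, Subgroup.mem_subgroupOf]; exact x.2, rfl⟩, by
      simp only [MulEquiv.coe_toMonoidHom, MulAut.conj_apply]⟩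
    have h2 : d * m * ι ⟨x, hPR x.2⟩ * (d * m)⁻¹ = d * (m * ι ⟨x, hPR x.2⟩ * m⁻¹) * d⁻¹ := by
      group
    rw [h2]; exact h1
  -- the `J(R)` part
  have hJR : Cfsg.thompsonSubgroupAOf R ≤ R := jaFunctor.of_le R
  have hιJ : ((Cfsg.thompsonSubgroupAOf R).subgroupOf R).map ι = J := by
    have h1 := map_subgroupOf_of jaFunctor ι hinj
    rw [jaFunctor_of] at h1
    rw [h1, hJ, hT]
  have hm'J : ∀ x : Cfsg.thompsonSubgroupAOf R,
      (d * m) * ι ⟨x, hJR x.2⟩ * (d * m)⁻¹ ∈ J := by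
    intro x
    have h1 : ι ⟨x, hJR x.2⟩ ∈ J := by
      rw [← hιJ]
      refine ⟨⟨x, hJR x.2⟩, ?_, rfl⟩
      rw [SetLike.mem_coe, Subgroup.mem_subgroupOf]; exact x.2
    exact (Subgroup.mem_normalizer_iff.mp hm' _).mp h1
  have hm'J' : ∀ x : Cfsg.thompsonSubgroupAOf R,
      (d * m) * ι ⟨x, hJR x.2⟩ * (d * m)⁻¹ ∈ ι.range := by
    intro x
    rw [← hT]
    exact hJT (hm'J x)
  obtain ⟨ψ₁, hψ₁, hψ₁R, hψ₁g⟩ := exists_hom_conj_sup F ι hreal hPR hJR (d * m) hm'P hm'J'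
  have hsupR : P ⊔ Cfsg.thompsonSubgroupAOf R ≤ R := sup_le hPR hJR
  haveI : Finite ↥(P ⊔ Cfsg.thompsonSubgroupAOf R) := Fusion.finite_of_le hsupR
  have hRN : R ≤ Subgroup.normalizer ((Cfsg.thompsonSubgroupAOf R : Subgroup Ω) : Set Ω) :=
    le_normalizer_of jaFunctor R
  have hφ₁ : ψ₁.comp (Subgroup.inclusion le_sup_left) ∈ F.Hom P :=
    Fusion.restrict_mem F hψ₁ le_sup_left
  have hφ₁N : ψ₁.comp (Subgroup.inclusion le_sup_left) ∈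
      F.normalizerHom (Cfsg.thompsonSubgroupAOf R) P := by
    refine ⟨hφ₁, fun x hx => Subgroup.mem_inf.mpr ⟨hPR hx, hRN (hPR hx)⟩,
      fun x => Subgroup.mem_inf.mpr ⟨hψ₁R _, hRN (hψ₁R _)⟩, ψ₁, hψ₁, fun x => rfl, ?_⟩
    apply map_eq_of_le_of_injective ψ₁ (F.injective_of_mem hψ₁) _ le_sup_right
    rintro _ ⟨x, hx, rfl⟩
    rw [SetLike.mem_coe, Subgroup.mem_subgroupOf] at hx
    have h1 := hψ₁g x
    have h2 := hm'J ⟨x.1, hx⟩
    rw [← hιJ] at h2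
    obtain ⟨r, hr, hr'⟩ := h2
    rw [SetLike.mem_coe, Subgroup.mem_subgroupOf] at hr
    have h3 : ι r = ι ⟨ψ₁ x, hψ₁R x⟩ := by rw [hr', h1]
    have h4 := hinj h3
    have h5 : (r : Ω) = ψ₁ x := congrArg Subtype.val h4
    rw [← h5]; exact hr
  refine ⟨ψ₁.comp (Subgroup.inclusion le_sup_left), hφ₁N, ?_⟩
  -- the second map
  have hP₁R : (ψ₁.comp (Subgroup.inclusion le_sup_left)).range ≤ R := Fusion.range_le F hφ₁
  have hVR : Cfsg.powerClosure p 1 (zS R) ≤ R := by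
    unfold Cfsg.powerClosure
    rw [Subgroup.closure_le]
    rintro _ ⟨x, hx, rfl⟩
    exact Subgroup.pow_mem _ (Subgroup.mem_inf.mp hx).1 _
  have hφ₁g : ∀ x : P, ι ⟨ψ₁ (Subgroup.inclusion le_sup_left x), hψ₁R _⟩ =
      (d * m) * ι ⟨x, hPR x.2⟩ * (d * m)⁻¹ := fun x => hψ₁g _
  have hc'P₁ : ∀ y : (ψ₁.comp (Subgroup.inclusion le_sup_left)).range,
      (c * d⁻¹) * ι ⟨y, hP₁R y.2⟩ * (c * d⁻¹)⁻¹ ∈ ι.range := by
    rintro ⟨_, x, rfl⟩
    have h1 : ι ⟨(ψ₁.comp (Subgroup.inclusion le_sup_left)) x, hP₁R ⟨x, rfl⟩⟩ =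
        (d * m) * ι ⟨x, hPR x.2⟩ * (d * m)⁻¹ := hφ₁g x
    show (c * d⁻¹) * ι ⟨(ψ₁.comp (Subgroup.inclusion le_sup_left)) x, _⟩ * (c * d⁻¹)⁻¹ ∈ ι.range
    rw [h1]
    have h2 : c * d⁻¹ * (d * m * ι ⟨x, hPR x.2⟩ * (d * m)⁻¹) * (c * d⁻¹)⁻¹ =
        g * ι ⟨x, hPR x.2⟩ * g⁻¹ := by rw [hgcm]; group
    rw [h2, ← hT]
    exact hgx x
  -- `c'` centralizes the image of `℧¹(Z(R))`
  have hc'V : ∀ (v : Ω) (hv : v ∈ Cfsg.powerClosure p 1 (zS R)),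
      (c * d⁻¹) * ι ⟨v, hVR hv⟩ * (c * d⁻¹)⁻¹ = ι ⟨v, hVR hv⟩ := by
    have h1 : Cfsg.powerClosure p 1 (zS R) ≤
        ((Subgroup.centralizer ({c * d⁻¹} : Set L)).comap ι).map R.subtype := by
      unfold Cfsg.powerClosure
      rw [Subgroup.closure_le]
      rintro _ ⟨x, hx, rfl⟩
      obtain ⟨hxR, hxZ⟩ := Subgroup.mem_inf.mp hx
      refine ⟨⟨x, hxR⟩ ^ (p ^ 1), ?_, rfl⟩
      rw [SetLike.mem_coe, Subgroup.mem_comap, Subgroup.mem_centralizer_singleton_iff, map_pow,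
        pow_one]
      have h2 : (ι ⟨x, hxR⟩) ^ p ∈ Z' := by
        rw [hZ']
        refine ⟨ι ⟨x, hxR⟩, ⟨hιT _, ?_⟩, rfl⟩
        intro t ht
        rw [hT] at ht
        obtain ⟨r, rfl⟩ := ht
        rw [← map_mul, ← map_mul]
        congr 1
        apply Subtype.ext
        exact Subgroup.mem_centralizer_iff.mp hxZ r r.2
      exact Subgroup.mem_centralizer_iff.mp hc' _ h2
    intro v hv
    obtain ⟨r, hr, hrv⟩ := h1 hv
    have : r = ⟨v, hVR hv⟩ := Subtype.ext hrv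
    subst this
    rw [SetLike.mem_coe, Subgroup.mem_comap, Subgroup.mem_centralizer_singleton_iff] at hr
    calc c * d⁻¹ * ι ⟨v, hVR hv⟩ * (c * d⁻¹)⁻¹
        = (ι ⟨v, hVR hv⟩ * (c * d⁻¹)) * (c * d⁻¹)⁻¹ := by rw [← hr]
      _ = ι ⟨v, hVR hv⟩ := by group
  have hc'V' : ∀ v : Cfsg.powerClosure p 1 (zS R),
      (c * d⁻¹) * ι ⟨v, hVR v.2⟩ * (c * d⁻¹)⁻¹ ∈ ι.range := by
    intro v
    rw [hc'V v.1 v.2]
    exact ⟨_, rfl⟩
  obtain ⟨ψ₂, hψ₂, hψ₂R, hψ₂g⟩ := exists_hom_conj_sup F ι hreal hP₁R hVR (c * d⁻¹) hc'P₁ hc'V'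
  have hRC := le_centralizer_powerClosure p R
  have hφ₂ : ψ₂.comp (Subgroup.inclusion le_sup_left) ∈
      F.Hom (ψ₁.comp (Subgroup.inclusion le_sup_left)).range :=
    Fusion.restrict_mem F hψ₂ le_sup_left
  refine ⟨ψ₂.comp (Subgroup.inclusion le_sup_left), ⟨hφ₂,
    fun x hx => Subgroup.mem_inf.mpr ⟨hP₁R hx, hRC (hP₁R hx)⟩,
    fun x => Subgroup.mem_inf.mpr ⟨hψ₂R _, hRC (hψ₂R _)⟩, ψ₂, hψ₂, fun x => rfl, ?_⟩, ?_⟩
  · intro v
    have h1 := hψ₂g (Subgroup.inclusion le_sup_right v)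
    have h2 : ι ⟨ψ₂ (Subgroup.inclusion le_sup_right v), hψ₂R _⟩ = ι ⟨v, hVR v.2⟩ := by
      rw [h1]
      exact hc'V v.1 v.2
    exact congrArg Subtype.val (hinj h2)
  · intro x
    have h1 := hψ₂g (Subgroup.inclusion le_sup_left
      ⟨(ψ₁.comp (Subgroup.inclusion le_sup_left)) x, ⟨x, rfl⟩⟩)
    have h2 : ι ⟨(ψ₁.comp (Subgroup.inclusion le_sup_left)) x, hP₁R ⟨x, rfl⟩⟩ =
        (d * m) * ι ⟨x, hPR x.2⟩ * (d * m)⁻¹ := hφ₁g x
    have h3 : ι ⟨ψ₂ (Subgroup.inclusion le_sup_left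
        ⟨(ψ₁.comp (Subgroup.inclusion le_sup_left)) x, ⟨x, rfl⟩⟩), hψ₂R _⟩ =
        ι ⟨φ x, hφR x⟩ := by
      rw [h1, hg x]
      show c * d⁻¹ * ι ⟨(ψ₁.comp (Subgroup.inclusion le_sup_left)) x, _⟩ * (c * d⁻¹)⁻¹ = _
      rw [h2, hgcm]
      group
    exact (congrArg Subtype.val (hinj h3)).symm

end Cfsg.Agent.Helper6.GlGen
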