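import Mathlib
import Cfsg.Agent.Helper6.GlGenB
import Cfsg.Agent.Lead.LocModM

/-!
# Generation of a fusion system by `C_F(℧¹(Z(S)))` and `N_F(J(S))`, part C

Centric subgroups `U C_S(U)`, maps fixing `℧¹(Z(S))`, and the local step through the model of the
normalizer system of a fully normalized centric subgroup.
-/

set_option autoImplicit false
set_option linter.style.haveILetI false
set_option maxHeartbeats 1000000

namespace Cfsg.Agent.Helper6.GlGen

open Cfsg Cfsg.FusionSystem Cfsg.Agent.Lead Cfsg.Agent.Helper1 Cfsg.Agent.Helper6.Ctr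
  Cfsg.Agent.Lead.GlTh Cfsg.Agent.Lead.KL Cfsg.Agent.Helper1.TN

universe u

variable {Ω : Type u} [Group Ω] {S : Subgroup Ω}

/-- For a fully centralized subgroup `U`, the subgroup `U C_S(U)` is centric. -/
theorem isCentric_sup_centralizerIn_of_fc [Finite S] (F : FusionSystem S) {U : Subgroup Ω}
    (hU : F.IsFullyCentralized U) : F.IsCentric (U ⊔ centralizerIn S U) := by
  have hUS := hU.1
  have hXS : U ⊔ centralizerIn S U ≤ S := sup_le hUS inf_le_left
  haveI : Finite ↥(U ⊔ centralizerIn S U) := Fusion.finite_of_le hXS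
  refine ⟨hXS, ?_⟩
  rintro Q ⟨φ, hφ, rfl⟩
  have hinj := F.injective_of_mem hφ
  obtain ⟨U', hU'⟩ : ∃ U' : Subgroup Ω,
      U' = (U.subgroupOf (U ⊔ centralizerIn S U)).map φ := ⟨_, rfl⟩
  have hconj : F.IsConj U U' := by
    refine ⟨φ.comp (Subgroup.inclusion le_sup_left), Fusion.restrict_mem F hφ le_sup_left, ?_⟩
    rw [hU']
    ext y
    constructor
    · rintro ⟨x, rfl⟩
      refine ⟨Subgroup.inclusion le_sup_left x, ?_, rfl⟩
      rw [SetLike.mem_coe, Subgroup.mem_subgroupOf]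
      exact x.2
    · rintro ⟨x, hx, rfl⟩
      rw [SetLike.mem_coe, Subgroup.mem_subgroupOf] at hx
      exact ⟨⟨x.1, hx⟩, rfl⟩
  have hcard := hU.2 U' hconj
  have hU'S : U' ≤ S := Fusion.isConj_tgt_le F hconj
  haveI : Finite ↥(centralizerIn S U') := Fusion.finite_of_le inf_le_left
  have hC'le : ((centralizerIn S U).subgroupOf (U ⊔ centralizerIn S U)).map φ ≤
      centralizerIn S U' := by
    rintro _ ⟨c, hc, rfl⟩
    rw [SetLike.mem_coe, Subgroup.mem_subgroupOf] at hc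
    refine Subgroup.mem_inf.mpr ⟨Fusion.map_mem F hφ c, ?_⟩
    rw [Subgroup.mem_centralizer_iff, hU']
    rintro _ ⟨x, hx, rfl⟩
    rw [SetLike.mem_coe, Subgroup.mem_subgroupOf] at hx
    rw [← map_mul, ← map_mul]
    congr 1
    apply Subtype.ext
    exact Subgroup.mem_centralizer_iff.mp (Subgroup.mem_inf.mp hc).2 _ hx
  have hC'card : Nat.card ↥(((centralizerIn S U).subgroupOf (U ⊔ centralizerIn S U)).map φ) =
      Nat.card ↥(centralizerIn S U) := by
    rw [Subgroup.card_map_of_injective hinj, Cfsg.Agent.Lead.card_subgroupOf_of_le le_sup_right]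
  have hC'eq := Subgroup.eq_of_le_of_card_ge hC'le (by rw [hC'card]; exact hcard)
  intro x hx
  have hx' : x ∈ centralizerIn S U' := by
    refine Subgroup.mem_inf.mpr ⟨(Subgroup.mem_inf.mp hx).1, ?_⟩
    apply Subgroup.centralizer_le _ (Subgroup.mem_inf.mp hx).2
    rw [hU']
    rintro _ ⟨y, -, rfl⟩
    exact ⟨y, rfl⟩
  rw [← hC'eq] at hx'
  obtain ⟨y, -, rfl⟩ := hx'
  exact ⟨y, rfl⟩

/-- A conjugate of a centric subgroup is centric. -/
theorem isCentric_of_isConj (F : FusionSystem S) {T T' : Subgroup Ω} (hT : F.IsCentric T)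
    (h : F.IsConj T T') : F.IsCentric T' :=
  ⟨Fusion.isConj_tgt_le F h, fun Q hQ => hT.2 Q (Fusion.isConj_trans F h hQ)⟩

/-- The centre of `S` lies in the centre of every centric subgroup. -/
theorem zS_le_zS_of_isCentric (F : FusionSystem S) {T : Subgroup Ω} (hT : F.IsCentric T) :
    zS S ≤ zS T := by
  intro x hx
  obtain ⟨hxS, hxZ⟩ := Subgroup.mem_inf.mp hx
  have h1 : x ∈ centralizerIn S T :=
    Subgroup.mem_inf.mpr ⟨hxS, Subgroup.centralizer_le hT.1 hxZ⟩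
  exact Subgroup.mem_inf.mpr ⟨hT.2 T (Fusion.isConj_refl F hT.1) h1, (Subgroup.mem_inf.mp h1).2⟩

/-- Monotonicity of `℧¹`. -/
theorem powerClosure_mono (p : ℕ) {A B : Subgroup Ω} (h : A ≤ B) :
    Cfsg.powerClosure p 1 A ≤ Cfsg.powerClosure p 1 B := by
  unfold Cfsg.powerClosure
  apply Subgroup.closure_mono
  rintro _ ⟨x, hx, rfl⟩
  exact ⟨x, h hx, rfl⟩

theorem powerClosure_le (p : ℕ) (A : Subgroup Ω) : Cfsg.powerClosure p 1 A ≤ A := by
  unfold Cfsg.powerClosure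
  rw [Subgroup.closure_le]
  rintro _ ⟨x, hx, rfl⟩
  exact Subgroup.pow_mem _ hx _

/-- A map of `F` fixing a subgroup containing `℧¹(Z(S))` elementwise lies in every system
containing `C_F(℧¹(Z(S)))`. -/
theorem mem_of_fix (p : ℕ) (F E : FusionSystem S)
    (hC : ∀ (P : Subgroup Ω) (φ : P →* Ω),
      φ ∈ F.centralizerHom (Cfsg.powerClosure p 1 (zS S)) P → φ ∈ E.Hom P)
    {Q Y : Subgroup Ω} (hYQ : Y ≤ Q) (hVY : Cfsg.powerClosure p 1 (zS S) ≤ Y) (δ : Q →* Ω)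
    (hδ : δ ∈ F.Hom Q) (hfix : ∀ y : Q, (y : Ω) ∈ Y → δ y = y) : δ ∈ E.Hom Q := by
  apply hC
  have hQS := Fusion.src_le F hδ
  have hSC := le_centralizer_powerClosure p S
  have hle : Q ⊔ Cfsg.powerClosure p 1 (zS S) ≤ Q := sup_le le_rfl (hVY.trans hYQ)
  refine ⟨hδ, fun x hx => Subgroup.mem_inf.mpr ⟨hQS hx, hSC (hQS hx)⟩,
    fun x => Subgroup.mem_inf.mpr ⟨Fusion.map_mem F hδ x, hSC (Fusion.map_mem F hδ x)⟩,
    δ.comp (Subgroup.inclusion hle), Fusion.restrict_mem F hδ hle, fun x => rfl, fun v => ?_⟩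
  exact hfix _ (hVY v.2)

/-- The local step: the maps of the normalizer system of a fully normalized centric subgroup `T`
lie in `E` as soon as the maps of `F` normalizing `J(N_S(T))` do. -/
theorem local_mem [Finite S] (p : ℕ) [Fact p.Prime] (hS : IsPGroup p S) (F : FusionSystem S)
    (hF : F.IsSaturated p) (E : FusionSystem S)
    (hC : ∀ (P : Subgroup Ω) (φ : P →* Ω),
      φ ∈ F.centralizerHom (Cfsg.powerClosure p 1 (zS S)) P → φ ∈ E.Hom P)
    {T : Subgroup Ω} (hTfn : F.IsFullyNormalized T) (hTc : F.IsCentric T)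
    (NT : FusionSystem (normalizerIn S T)) (hNT : F.IsNormalizerSystem T NT)
    (hJN : ∀ (P₁ : Subgroup Ω) (ψ : P₁ →* Ω), ψ ∈ F.Hom P₁ →
      Cfsg.thompsonSubgroupAOf (normalizerIn S T) ≤ P₁ → P₁ ≤ normalizerIn S T →
      ((Cfsg.thompsonSubgroupAOf (normalizerIn S T)).subgroupOf P₁).map ψ =
        Cfsg.thompsonSubgroupAOf (normalizerIn S T) → ψ ∈ E.Hom P₁)
    (P : Subgroup Ω) (φ : P →* Ω) (hφ : φ ∈ NT.Hom P) : φ ∈ E.Hom P := by
  obtain ⟨L, _, ι, hL⟩ := LocMod.exists_normalizer_model p hS F hF T hTfn hTc NT hNT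
  haveI : Finite ↥(normalizerIn S T) := Fusion.finite_of_le inf_le_left
  obtain ⟨φ₁, hφ₁, φ₂, hφ₂, hcomp⟩ := factor_of_model p NT L ι hL P φ hφ
  have hNTsub : ∀ P, NT.Hom P ⊆ F.Hom P := fun P φ h => by rw [hNT P] at h; exact h.1
  -- the first map
  obtain ⟨hφ₁N, -, -, ψ₁, hψ₁, hψ₁P, hψ₁J⟩ := hφ₁
  have hPN : P ≤ normalizerIn S T := Fusion.src_le NT hφ₁N
  have hJN' : Cfsg.thompsonSubgroupAOf (normalizerIn S T) ≤ normalizerIn S T :=
    jaFunctor.of_le _
  have hψ₁E : ψ₁ ∈ E.Hom (P ⊔ Cfsg.thompsonSubgroupAOf (normalizerIn S T)) :=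
    hJN _ ψ₁ (hNTsub _ hψ₁) le_sup_right (sup_le hPN hJN') hψ₁J
  have hφ₁E : φ₁ ∈ E.Hom P := by
    have h1 := Fusion.restrict_mem E hψ₁E (le_sup_left : P ≤ _)
    have h2 : ψ₁.comp (Subgroup.inclusion le_sup_left) = φ₁ := MonoidHom.ext hψ₁P
    rw [← h2]; exact h1
  -- the second map
  obtain ⟨hφ₂N, -, -, ψ₂, hψ₂, hψ₂P, hψ₂V⟩ := hφ₂
  have hVV : Cfsg.powerClosure p 1 (zS S) ≤ Cfsg.powerClosure p 1 (zS (normalizerIn S T)) := by
    apply powerClosure_mono
    intro x hx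
    have h1 := zS_le_zS_of_isCentric F hTc hx
    have h2 : x ∈ normalizerIn S T := Fusion.le_normalizerIn hTc.1 (Subgroup.mem_inf.mp h1).1
    exact Subgroup.mem_inf.mpr ⟨h2, Subgroup.centralizer_le inf_le_left (Subgroup.mem_inf.mp hx).2⟩
  have hψ₂E : ψ₂ ∈ E.Hom (φ₁.range ⊔ Cfsg.powerClosure p 1 (zS (normalizerIn S T))) := by
    apply mem_of_fix p F E hC le_sup_right hVV ψ₂ (hNTsub _ hψ₂)
    intro y hy
    exact hψ₂V ⟨y, hy⟩
  have hφ₂E : φ₂ ∈ E.Hom φ₁.range := by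
    have h1 := Fusion.restrict_mem E hψ₂E (le_sup_left : φ₁.range ≤ _)
    have h2 : ψ₂.comp (Subgroup.inclusion le_sup_left) = φ₂ := MonoidHom.ext hψ₂P
    rw [← h2]; exact h1
  have h := E.comp_mem hφ₁E hφ₂E (fun x => ⟨x, rfl⟩)
  have h3 : φ₂.comp (φ₁.codRestrict φ₁.range (fun x => ⟨x, rfl⟩)) = φ :=
    MonoidHom.ext (fun x => (hcomp x).symm)
  rw [← h3]; exact h

end Cfsg.Agent.Helper6.GlGen
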