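import Mathlib
import Cfsg.Agent.Helper6.GlGenC

/-!
# Generation of a fusion system by `C_F(℧¹(Z(S)))` and `N_F(J(S))`, part D

Transport to a fully normalized conjugate, and the passage from a fully normalized subgroup `U`
to the centric subgroup `U C_S(U)`.
-/

set_option autoImplicit false
set_option linter.style.haveILetI false
set_option maxHeartbeats 1000000

namespace Cfsg.Agent.Helper6.GlGen

open Cfsg Cfsg.FusionSystem Cfsg.Agent.Lead Cfsg.Agent.Helper1 Cfsg.Agent.Helper6.Ctr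
  Cfsg.Agent.Lead.GlTh Cfsg.Agent.Lead.KL Cfsg.Agent.Helper1.TN

universe u

variable {Ω : Type u} [Group Ω] {S : Subgroup Ω}

/-- Transport to a fully normalized conjugate: to show that the maps of `F` normalizing `U` lie in
`E` it suffices to do so for a fully normalized conjugate `U'` reached by a map
`χ : N_S(U) → N_S(U')`, provided maps on subgroups of order `> n` lie in `E` and `|N_S(U)| > n`. -/
theorem mem_of_conj_fn [Finite S] (p : ℕ) [Fact p.Prime] (hS : IsPGroup p S) (F : FusionSystem S)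
    (hF : F.IsSaturated p) (E : FusionSystem S) (n : ℕ)
    (hn : ∀ (P : Subgroup Ω) (φ : P →* Ω), φ ∈ F.Hom P → n < Nat.card P → φ ∈ E.Hom P)
    {U : Subgroup Ω} (hUS : U ≤ S) (hnU : n < Nat.card (normalizerIn S U))
    (h : ∀ (U' : Subgroup Ω) (χ : ↥(normalizerIn S U) →* Ω), F.IsFullyNormalized U' →
      χ ∈ F.Hom (normalizerIn S U) → (∀ x, χ x ∈ normalizerIn S U') →
      (U.subgroupOf (normalizerIn S U)).map χ = U' →
      ∀ (P' : Subgroup Ω) (ψ' : P' →* Ω), ψ' ∈ F.Hom P' → U' ≤ P' → P' ≤ normalizerIn S U' →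
        (U'.subgroupOf P').map ψ' = U' → ψ' ∈ E.Hom P')
    (P₁ : Subgroup Ω) (ψ : P₁ →* Ω) (hψ : ψ ∈ F.Hom P₁) (hUP : U ≤ P₁)
    (hPN : P₁ ≤ normalizerIn S U) (hψU : (U.subgroupOf P₁).map ψ = U) : ψ ∈ E.Hom P₁ := by
  have hP₁S : P₁ ≤ S := Fusion.src_le F hψ
  haveI : Finite U := Fusion.finite_of_le hUS
  haveI : Finite P₁ := Fusion.finite_of_le hP₁S
  obtain ⟨U', hUU', hU'n⟩ := Fusion.exists_isConj_fullyNormalized F hUS
  obtain ⟨hfc, hfa⟩ := Fusion.fullyCentralized_fullyAutomized_of_fullyNormalized p hS F hF hU'n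
  have hrec := Fusion.receptive_of_fullyCentralized p hS F hF hfc
  obtain ⟨χ, hχ, hχN, hχU⟩ := Fusion.exists_hom_normalizerIn p hS F hfa hrec hUU'
  have hχE : χ ∈ E.Hom _ := hn _ χ hχ hnU
  have hψN := mem_normalizerHom_of_le F hUP hPN ψ hψ hψU
  have hψM : ∀ x : P₁, ψ x ∈ normalizerIn S U := hψN.2.2.1
  obtain ⟨ψ', hψ', hcomm⟩ := exists_transport F hPN χ hχ ψ hψ hψM
  refine mem_of_transport F E hPN χ hχE ψ hψM ψ' ?_ hcomm
  have hU'S : U' ≤ S := hU'n.1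
  haveI : Finite U' := Fusion.finite_of_le hU'S
  have hU'P : U' ≤ (P₁.subgroupOf (normalizerIn S U)).map χ := by
    rw [← hχU]
    apply Subgroup.map_mono
    intro x hx
    rw [Subgroup.mem_subgroupOf] at hx ⊢
    exact hUP hx
  have hP'N : (P₁.subgroupOf (normalizerIn S U)).map χ ≤ normalizerIn S U' := by
    rintro _ ⟨m, -, rfl⟩
    exact hχN m
  have hP'S : (P₁.subgroupOf (normalizerIn S U)).map χ ≤ S := hP'N.trans inf_le_left
  haveI : Finite ↥((P₁.subgroupOf (normalizerIn S U)).map χ) := Fusion.finite_of_le hP'S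
  have hψ'U : (U'.subgroupOf ((P₁.subgroupOf (normalizerIn S U)).map χ)).map ψ' = U' := by
    apply map_eq_of_le_of_injective ψ' (F.injective_of_mem hψ') _ hU'P
    rintro _ ⟨⟨y, hyP⟩, hy, rfl⟩
    rw [SetLike.mem_coe, Subgroup.mem_subgroupOf] at hy
    have hy' : y ∈ (U.subgroupOf (normalizerIn S U)).map χ := hχU.ge hy
    obtain ⟨m, hm, rfl⟩ := hy'
    rw [SetLike.mem_coe, Subgroup.mem_subgroupOf] at hm
    have h1 := hcomm ⟨m.1, hUP hm⟩ hyP
    have h2 : (⟨χ m, hyP⟩ : ↥((P₁.subgroupOf (normalizerIn S U)).map χ)) =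
        ⟨χ ⟨m.1, hPN (hUP hm)⟩, hyP⟩ := rfl
    rw [h2, h1]
    apply hχU.le
    refine ⟨_, ?_, rfl⟩
    rw [SetLike.mem_coe, Subgroup.mem_subgroupOf]
    apply hψU.le
    refine ⟨⟨m.1, hUP hm⟩, ?_, rfl⟩
    rw [SetLike.mem_coe, Subgroup.mem_subgroupOf]
    exact hm
  exact h U' χ hU'n hχ hχN hχU _ ψ' hψ' hU'P hP'N hψ'U

/-- `N_S(U)` normalizes `U C_S(U)`. -/
theorem normalizerIn_le_normalizerIn_sup [Finite S] {U : Subgroup Ω} (hUS : U ≤ S) :
    normalizerIn S U ≤ normalizerIn S (U ⊔ centralizerIn S U) := by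
  intro g hg
  obtain ⟨hgS, hgN⟩ := Subgroup.mem_inf.mp hg
  refine Subgroup.mem_inf.mpr ⟨hgS, ?_⟩
  haveI : Finite ↥(U ⊔ centralizerIn S U) := Fusion.finite_of_le (sup_le hUS inf_le_left)
  apply mem_normalizer_of_conj_mem_of_finite
  have hle : U ⊔ centralizerIn S U ≤
      (U ⊔ centralizerIn S U).comap (MulAut.conj g).toMonoidHom := by
    apply sup_le
    · intro y hy
      rw [Subgroup.mem_comap]
      exact le_sup_left (a := U) ((Subgroup.mem_normalizer_iff.mp hgN y).mp hy)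
    · intro c hc
      rw [Subgroup.mem_comap]
      apply le_sup_right (a := U)
      obtain ⟨hcS, hcC⟩ := Subgroup.mem_inf.mp hc
      refine Subgroup.mem_inf.mpr ⟨S.mul_mem (S.mul_mem hgS hcS) (S.inv_mem hgS), ?_⟩
      rw [Subgroup.mem_centralizer_iff] at hcC ⊢
      intro q hq
      have hq' : g⁻¹ * q * g ∈ U := by
        have := (Subgroup.mem_normalizer_iff.mp (Subgroup.inv_mem _ hgN) q).mp hq
        rwa [inv_inv] at this
      have h1 := hcC _ hq'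
      simp only [MulEquiv.coe_toMonoidHom, MulAut.conj_apply]
      calc q * (g * c * g⁻¹) = g * ((g⁻¹ * q * g) * c) * g⁻¹ := by group
        _ = g * (c * (g⁻¹ * q * g)) * g⁻¹ := by rw [h1]
        _ = g * c * g⁻¹ * q := by group
  intro y hy
  exact hle hy

/-- Passage to `U C_S(U)`: if `U` is fully normalized and contains `℧¹(Z(S))`, a map of `F`
normalizing `U` lies in `E` as soon as the maps of `F` normalizing `U C_S(U)` do. -/
theorem mem_of_sup_centralizerIn [Finite S] (p : ℕ) [Fact p.Prime] (hS : IsPGroup p S)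
    (F : FusionSystem S) (hF : F.IsSaturated p) (E : FusionSystem S)
    (hC : ∀ (P : Subgroup Ω) (φ : P →* Ω),
      φ ∈ F.centralizerHom (Cfsg.powerClosure p 1 (zS S)) P → φ ∈ E.Hom P)
    {U : Subgroup Ω} (hUfn : F.IsFullyNormalized U)
    (hVU : Cfsg.powerClosure p 1 (zS S) ≤ U)
    (hUc : ∀ (P₂ : Subgroup Ω) (β : P₂ →* Ω), β ∈ F.Hom P₂ → U ⊔ centralizerIn S U ≤ P₂ →
      P₂ ≤ normalizerIn S (U ⊔ centralizerIn S U) →
      ((U ⊔ centralizerIn S U).subgroupOf P₂).map β = U ⊔ centralizerIn S U → β ∈ E.Hom P₂)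
    (P₁ : Subgroup Ω) (ψ : P₁ →* Ω) (hψ : ψ ∈ F.Hom P₁) (hUP : U ≤ P₁)
    (hPN : P₁ ≤ normalizerIn S U) (hψU : (U.subgroupOf P₁).map ψ = U) : ψ ∈ E.Hom P₁ := by
  have hUS := hUfn.1
  have hP₁S : P₁ ≤ S := Fusion.src_le F hψ
  haveI : Finite U := Fusion.finite_of_le hUS
  haveI : Finite P₁ := Fusion.finite_of_le hP₁S
  obtain ⟨hfc, hfa⟩ := Fusion.fullyCentralized_fullyAutomized_of_fullyNormalized p hS F hF hUfn
  have hrec := Fusion.receptive_of_fullyCentralized p hS F hF hfc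
  -- the restriction of `ψ` to `U`
  have hα : ψ.comp (Subgroup.inclusion hUP) ∈ F.Hom U := Fusion.restrict_mem F hψ hUP
  have hαr : (ψ.comp (Subgroup.inclusion hUP)).range = U := by
    refine Eq.trans ?_ hψU
    ext y
    constructor
    · rintro ⟨x, rfl⟩
      refine ⟨Subgroup.inclusion hUP x, ?_, rfl⟩
      rw [SetLike.mem_coe, Subgroup.mem_subgroupOf]
      exact x.2
    · rintro ⟨x, hx, rfl⟩
      rw [SetLike.mem_coe, Subgroup.mem_subgroupOf] at hx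
      exact ⟨⟨x.1, hx⟩, rfl⟩
  obtain ⟨α', hα', hext⟩ := hrec.2 U _ hα hαr
  have hP₁ext : P₁ ≤ extender S U (ψ.comp (Subgroup.inclusion hUP)) := by
    intro g hg
    apply Subgroup.subset_closure
    refine ⟨hP₁S hg, (Subgroup.mem_inf.mp (hPN hg)).2, ψ ⟨g, hg⟩, Fusion.map_mem F hψ _, ?_⟩
    intro x hx
    have h1 : Subgroup.inclusion hUP (⟨g * x * g⁻¹, hx⟩ : U) =
        ⟨g, hg⟩ * Subgroup.inclusion hUP x * ⟨g, hg⟩⁻¹ := rfl
    show ψ (Subgroup.inclusion hUP ⟨g * x * g⁻¹, hx⟩) = _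
    rw [h1, map_mul, map_mul, map_inv]
    rfl
  have hCext : centralizerIn S U ≤ extender S U (ψ.comp (Subgroup.inclusion hUP)) :=
    Fusion.centralizerIn_le_extender U _
  have hP₂ext : P₁ ⊔ centralizerIn S U ≤ extender S U (ψ.comp (Subgroup.inclusion hUP)) :=
    sup_le hP₁ext hCext
  have hP₂S : P₁ ⊔ centralizerIn S U ≤ S := sup_le hP₁S inf_le_left
  haveI : Finite ↥(P₁ ⊔ centralizerIn S U) := Fusion.finite_of_le hP₂S
  have hβ : α'.comp (Subgroup.inclusion hP₂ext) ∈ F.Hom (P₁ ⊔ centralizerIn S U) :=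
    Fusion.restrict_mem F hα' hP₂ext
  have hUP₂ : U ≤ P₁ ⊔ centralizerIn S U := hUP.trans le_sup_left
  have hCP₂ : centralizerIn S U ≤ P₁ ⊔ centralizerIn S U := le_sup_right
  have hβU : ∀ u : U, (α'.comp (Subgroup.inclusion hP₂ext)) ⟨u, hUP₂ u.2⟩ =
      ψ ⟨u, hUP u.2⟩ := fun u => hext u.1 u.2 (hP₂ext (hUP₂ u.2))
  -- `β` maps `U C_S(U)` onto itself
  have himg_le : ((U ⊔ centralizerIn S U).subgroupOf (P₁ ⊔ centralizerIn S U)).map
      (α'.comp (Subgroup.inclusion hP₂ext)) ≤ U ⊔ centralizerIn S U := by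
    rw [Subgroup.subgroupOf_sup hUP₂ hCP₂, Subgroup.map_sup]
    apply sup_le
    · refine le_trans ?_ le_sup_left
      rintro _ ⟨t, ht, rfl⟩
      rw [SetLike.mem_coe, Subgroup.mem_subgroupOf] at ht
      have h1 := hβU ⟨t, ht⟩
      have h2 : (⟨((⟨(t : Ω), ht⟩ : U) : Ω), hUP₂ ht⟩ : ↥(P₁ ⊔ centralizerIn S U)) = t := rfl
      rw [h2] at h1
      rw [h1]
      exact hαr.le ⟨⟨t.1, ht⟩, rfl⟩
    · refine le_trans ?_ le_sup_right
      rintro _ ⟨d, hd, rfl⟩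
      rw [SetLike.mem_coe, Subgroup.mem_subgroupOf] at hd
      obtain ⟨-, hdC⟩ := Subgroup.mem_inf.mp hd
      refine Subgroup.mem_inf.mpr ⟨Fusion.map_mem F hβ d, ?_⟩
      rw [Subgroup.mem_centralizer_iff] at hdC ⊢
      intro q hq
      have hq' : q ∈ (ψ.comp (Subgroup.inclusion hUP)).range := hαr.ge hq
      obtain ⟨q₀, rfl⟩ := hq'
      have h3 : (ψ.comp (Subgroup.inclusion hUP)) q₀ =
          (α'.comp (Subgroup.inclusion hP₂ext)) ⟨q₀, hUP₂ q₀.2⟩ := (hβU q₀).symm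
      rw [h3, ← map_mul, ← map_mul]
      congr 1
      apply Subtype.ext
      exact hdC _ q₀.2
  have himg := map_eq_of_le_of_injective _ (F.injective_of_mem hβ) himg_le
    (sup_le hUP₂ hCP₂)
  have hP₂N : P₁ ⊔ centralizerIn S U ≤ normalizerIn S (U ⊔ centralizerIn S U) :=
    sup_le (hPN.trans (normalizerIn_le_normalizerIn_sup hUS))
      ((le_sup_right : centralizerIn S U ≤ U ⊔ centralizerIn S U).trans
        (Fusion.le_normalizerIn (sup_le hUS inf_le_left)))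
  have hβE : α'.comp (Subgroup.inclusion hP₂ext) ∈ E.Hom (P₁ ⊔ centralizerIn S U) :=
    hUc _ _ hβ (sup_le hUP₂ hCP₂) hP₂N himg
  -- the restriction `β₁` of `β` to `P₁`
  obtain ⟨β₁, hβ₁def⟩ : ∃ β₁ : P₁ →* Ω, β₁ = (α'.comp (Subgroup.inclusion hP₂ext)).comp
      (Subgroup.inclusion (le_sup_left : P₁ ≤ P₁ ⊔ centralizerIn S U)) := ⟨_, rfl⟩
  have hβ₁ : β₁ ∈ F.Hom P₁ := by rw [hβ₁def]; exact Fusion.restrict_mem F hβ le_sup_left
  have hβ₁E : β₁ ∈ E.Hom P₁ := by rw [hβ₁def]; exact Fusion.restrict_mem E hβE le_sup_left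
  have hβ₁U : ∀ u : U, β₁ ⟨u, hUP u.2⟩ = ψ ⟨u, hUP u.2⟩ := by
    intro u; rw [hβ₁def]; exact hβU u
  have hβ₁inj := F.injective_of_mem hβ₁
  obtain ⟨γ, hγ, hγinv, -⟩ := Fusion.exists_inv F hβ₁ rfl
  have hγP : ∀ y : β₁.range, γ y ∈ P₁ := by
    rintro ⟨_, x, rfl⟩
    rw [hγinv x ⟨x, rfl⟩]; exact x.2
  obtain ⟨δ, hδ, hδdef⟩ := Fusion.comp_mem' F hγ hψ hγP
  -- `U ≤ β₁(P₁)`
  have hUr : U ≤ β₁.range := by
    intro y hy
    obtain ⟨u, rfl⟩ := hαr.ge hy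
    exact ⟨⟨u, hUP u.2⟩, hβ₁U u⟩
  have hδfix : ∀ y : β₁.range, (y : Ω) ∈ U → δ y = y := by
    rintro ⟨_, x, rfl⟩ hy
    obtain ⟨u, hu⟩ := hαr.ge hy
    have h1 : β₁ ⟨u, hUP u.2⟩ = β₁ x := by rw [hβ₁U u]; exact hu
    have h2 : (⟨u, hUP u.2⟩ : P₁) = x := hβ₁inj h1
    rw [hδdef]
    have h3 : (⟨γ ⟨β₁ x, ⟨x, rfl⟩⟩, hγP ⟨β₁ x, ⟨x, rfl⟩⟩⟩ : P₁) = x :=
      Subtype.ext (hγinv x ⟨x, rfl⟩)
    rw [h3, ← h2, ← hβ₁U u]
  have hδE : δ ∈ E.Hom β₁.range := mem_of_fix p F E hC hUr hVU δ hδ hδfix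
  have h := E.comp_mem hβ₁E hδE (fun x => ⟨x, rfl⟩)
  have h3 : δ.comp (β₁.codRestrict β₁.range (fun x => ⟨x, rfl⟩)) = ψ := by
    apply MonoidHom.ext
    intro x
    show δ ⟨β₁ x, ⟨x, rfl⟩⟩ = ψ x
    rw [hδdef]
    congr 1
    exact Subtype.ext (hγinv x ⟨x, rfl⟩)
  rw [← h3]; exact h

end Cfsg.Agent.Helper6.GlGen
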