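import Mathlib
import Cfsg.Agent.Helper6.GlGenD
import Cfsg.Agent.Helper6.CtrJ
import Cfsg.Agent.Lead.FusionAlperin2

/-!
# Generation of a fusion system by `C_F(℧¹(Z(S)))` and `N_F(J(S))`, part E

The climbing argument and the main theorem.
-/

set_option autoImplicit false
set_option linter.style.haveILetI false
set_option maxHeartbeats 1000000

namespace Cfsg.Agent.Helper6.GlGen

open Cfsg Cfsg.FusionSystem Cfsg.Agent.Lead Cfsg.Agent.Helper1 Cfsg.Agent.Helper6.Ctr
  Cfsg.Agent.Lead.GlTh Cfsg.Agent.Lead.KL Cfsg.Agent.Helper1.TN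

universe u

variable {Ω : Type u} [Group Ω] {S : Subgroup Ω}

/-- The image of a subgroup under a map of the system is a conjugate. -/
theorem isConj_of_map_eq (F : FusionSystem S) {M Q Q' : Subgroup Ω} {φ : M →* Ω}
    (hφ : φ ∈ F.Hom M) (hQM : Q ≤ M) (h : (Q.subgroupOf M).map φ = Q') : F.IsConj Q Q' := by
  refine ⟨φ.comp (Subgroup.inclusion hQM), Fusion.restrict_mem F hφ hQM, ?_⟩
  refine Eq.trans ?_ h
  ext y
  constructor
  · rintro ⟨x, rfl⟩
    refine ⟨Subgroup.inclusion hQM x, ?_, rfl⟩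
    rw [SetLike.mem_coe, Subgroup.mem_subgroupOf]
    exact x.2
  · rintro ⟨x, hx, rfl⟩
    rw [SetLike.mem_coe, Subgroup.mem_subgroupOf] at hx
    exact ⟨⟨x.1, hx⟩, rfl⟩

/-- The centre of a finite `p`-subgroup lies in its Thompson subgroup. -/
theorem zS_le_thompsonSubgroupAOf (p : ℕ) (R : Subgroup Ω) [Finite R] (hR : IsPGroup p R) :
    zS R ≤ Cfsg.thompsonSubgroupAOf R :=
  center_le_of p jaFunctor (fun R _ _ _ => center_le_thompsonSubgroupA R) R hR

/-- The climbing argument: maps of `F` normalizing a subgroup `U ⊇ Z(T)`, `T` centric, with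
`|N_S(U)| > n`, lie in `E`. -/
theorem climbJ [Finite S] (p : ℕ) [Fact p.Prime] (hS : IsPGroup p S) (F : FusionSystem S)
    (hF : F.IsSaturated p) (E : FusionSystem S)
    (hC : ∀ (P : Subgroup Ω) (φ : P →* Ω),
      φ ∈ F.centralizerHom (Cfsg.powerClosure p 1 (zS S)) P → φ ∈ E.Hom P)
    (hNJ : ∀ (P : Subgroup Ω) (φ : P →* Ω),
      φ ∈ F.normalizerHom (Cfsg.thompsonSubgroupAOf S) P → φ ∈ E.Hom P)
    (n : ℕ)
    (hn : ∀ (P : Subgroup Ω) (φ : P →* Ω), φ ∈ F.Hom P → n < Nat.card P → φ ∈ E.Hom P) :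
    ∀ (d : ℕ) (U : Subgroup Ω),
      (∃ T : Subgroup Ω, F.IsCentric T ∧ zS T ≤ U ∧ T ≤ normalizerIn S U) → U ≤ S →
      Nat.card S - Nat.card (normalizerIn S U) = d → n < Nat.card (normalizerIn S U) →
      ∀ (P₁ : Subgroup Ω) (ψ : P₁ →* Ω), ψ ∈ F.Hom P₁ → U ≤ P₁ → P₁ ≤ normalizerIn S U →
        (U.subgroupOf P₁).map ψ = U → ψ ∈ E.Hom P₁ := by
  intro d
  induction d using Nat.strong_induction_on with
  | _ d ih =>
  rintro U ⟨T, hTc, hZTU, hTN⟩ hUS hd hnU
  apply mem_of_conj_fn p hS F hF E n hn hUS hnU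
  intro U' χ hU'fn hχ hχN hχU
  have hUN : U ≤ normalizerIn S U := Fusion.le_normalizerIn hUS
  have hUU' : F.IsConj U U' := isConj_of_map_eq F hχ hUN hχU
  have hU'S : U' ≤ S := hU'fn.1
  haveI : Finite ↥(normalizerIn S U) := Fusion.finite_of_le inf_le_left
  haveI : Finite ↥(normalizerIn S U') := Fusion.finite_of_le inf_le_left
  have hcard1 : Nat.card ↥(normalizerIn S U) ≤ Nat.card ↥(normalizerIn S U') :=
    hU'fn.2 U (Fusion.isConj_symm F hUU')
  -- the centric subgroup `T' = χ(T)`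
  have hTT' : F.IsConj T ((T.subgroupOf (normalizerIn S U)).map χ) :=
    isConj_of_map_eq F hχ hTN rfl
  have hT'c := isCentric_of_isConj F hTc hTT'
  have hinjχ := F.injective_of_mem hχ
  have hZT'U' : zS ((T.subgroupOf (normalizerIn S U)).map χ) ≤ U' := by
    intro z hz
    obtain ⟨hzT', hzC⟩ := Subgroup.mem_inf.mp hz
    obtain ⟨t, ht, rfl⟩ := hzT'
    rw [SetLike.mem_coe, Subgroup.mem_subgroupOf] at ht
    have htZ : (t : Ω) ∈ zS T := by
      refine Subgroup.mem_inf.mpr ⟨ht, ?_⟩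
      rw [Subgroup.mem_centralizer_iff]
      intro t' ht'
      have h1 : χ ⟨t', hTN ht'⟩ ∈ (T.subgroupOf (normalizerIn S U)).map χ := by
        refine ⟨⟨t', hTN ht'⟩, ?_, rfl⟩
        rw [SetLike.mem_coe, Subgroup.mem_subgroupOf]; exact ht'
      have h2 := Subgroup.mem_centralizer_iff.mp hzC _ h1
      rw [← map_mul, ← map_mul] at h2
      exact congrArg Subtype.val (hinjχ h2)
    rw [← hχU]
    refine ⟨t, ?_, rfl⟩
    rw [SetLike.mem_coe, Subgroup.mem_subgroupOf]
    exact hZTU htZ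
  have hVU' : Cfsg.powerClosure p 1 (zS S) ≤ U' :=
    (powerClosure_le p _).trans ((zS_le_zS_of_isCentric F hT'c).trans hZT'U')
  -- pass to `X = U' C_S(U')`
  apply mem_of_sup_centralizerIn p hS F hF E hC hU'fn hVU'
  obtain ⟨hfc', -⟩ := Fusion.fullyCentralized_fullyAutomized_of_fullyNormalized p hS F hF hU'fn
  have hXc := isCentric_sup_centralizerIn_of_fc F hfc'
  obtain ⟨X, hXdef⟩ : ∃ X : Subgroup Ω, X = U' ⊔ centralizerIn S U' := ⟨_, rfl⟩
  rw [← hXdef] at hXc ⊢
  have hXS : X ≤ S := hXc.1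
  have hNN : normalizerIn S U' ≤ normalizerIn S X := by
    rw [hXdef]; exact normalizerIn_le_normalizerIn_sup hU'S
  haveI : Finite ↥(normalizerIn S X) := Fusion.finite_of_le inf_le_left
  have hcard2 : Nat.card ↥(normalizerIn S U') ≤ Nat.card ↥(normalizerIn S X) :=
    Subgroup.card_le_of_le hNN
  have hnX : n < Nat.card ↥(normalizerIn S X) := by omega
  apply mem_of_conj_fn p hS F hF E n hn hXS hnX
  intro X' χ₂ hX'fn hχ₂ hχ₂N hχ₂X
  have hXN : X ≤ normalizerIn S X := Fusion.le_normalizerIn hXS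
  have hXX' : F.IsConj X X' := isConj_of_map_eq F hχ₂ hXN hχ₂X
  have hX'c := isCentric_of_isConj F hXc hXX'
  have hX'S : X' ≤ S := hX'fn.1
  haveI : Finite ↥(normalizerIn S X') := Fusion.finite_of_le inf_le_left
  have hcard3 : Nat.card ↥(normalizerIn S X) ≤ Nat.card ↥(normalizerIn S X') :=
    hX'fn.2 X (Fusion.isConj_symm F hXX')
  intro P₃ β₃ hβ₃ hX'P₃ hP₃N hβ₃X'
  obtain ⟨NT, hNT⟩ := Cfsg.Agent.S5096.result F X' hX'S
  have hβ₃NT : β₃ ∈ NT.Hom P₃ := by
    rw [hNT]; exact mem_normalizerHom_of_le F hX'P₃ hP₃N β₃ hβ₃ hβ₃X'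
  apply local_mem p hS F hF E hC hX'fn hX'c NT hNT ?_ P₃ β₃ hβ₃NT
  intro P₄ ψ₄ hψ₄ hJP₄ hP₄S₃ hψ₄J
  have hS₃S : normalizerIn S X' ≤ S := inf_le_left
  have hS₃p : IsPGroup p ↥(normalizerIn S X') := hS.to_le hS₃S
  by_cases hS₃ : normalizerIn S X' = S
  · rw [hS₃] at hJP₄ hψ₄J hP₄S₃
    apply hNJ
    exact mem_normalizerHom_of_le F hJP₄ (hP₄S₃.trans (normalizerIn_of_eq jaFunctor S).ge) ψ₄
      hψ₄ hψ₄J
  · have hX'S₃ : X' ≤ normalizerIn S X' := Fusion.le_normalizerIn hX'S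
    have hS₃c : F.IsCentric (normalizerIn S X') := Fusion.isCentric_of_le F hX'S₃ hS₃S hX'c
    have hJS : Cfsg.thompsonSubgroupAOf (normalizerIn S X') ≤ S :=
      (jaFunctor.of_le _).trans hS₃S
    have hS₃N : normalizerIn S X' ≤ normalizerIn S (Cfsg.thompsonSubgroupAOf (normalizerIn S X')) :=
      le_inf hS₃S (le_normalizer_of jaFunctor _)
    have h2 : Nat.card ↥(normalizerIn S X') < Nat.card ↥(normalizerIn S (normalizerIn S X')) :=
      Fusion.card_lt_card_normalizerIn hS hS₃S hS₃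
    have h3 : normalizerIn S (normalizerIn S X') ≤
        normalizerIn S (Cfsg.thompsonSubgroupAOf (normalizerIn S X')) :=
      inf_le_inf_left S (jaFunctor.normalizer_le _)
    haveI : Finite ↥(normalizerIn S (Cfsg.thompsonSubgroupAOf (normalizerIn S X'))) :=
      Fusion.finite_of_le inf_le_left
    have h4 : Nat.card ↥(normalizerIn S (normalizerIn S X')) ≤
        Nat.card ↥(normalizerIn S (Cfsg.thompsonSubgroupAOf (normalizerIn S X'))) :=
      Subgroup.card_le_of_le h3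
    have h5 : Nat.card ↥(normalizerIn S (Cfsg.thompsonSubgroupAOf (normalizerIn S X'))) ≤
        Nat.card S := Subgroup.card_le_of_le inf_le_left
    have hlt : Nat.card S -
        Nat.card ↥(normalizerIn S (Cfsg.thompsonSubgroupAOf (normalizerIn S X'))) < d := by omega
    exact ih _ hlt (Cfsg.thompsonSubgroupAOf (normalizerIn S X'))
      ⟨normalizerIn S X', hS₃c, zS_le_thompsonSubgroupAOf p _ hS₃p, hS₃N⟩ hJS rfl (by omega)
      P₄ ψ₄ hψ₄ hJP₄ (hP₄S₃.trans hS₃N) hψ₄J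

/-- A saturated fusion system is generated by `C_F(℧¹(Z(S)))` and `N_F(J(S))`. -/
theorem main [Finite S] (p : ℕ) [Fact p.Prime] (hS : IsPGroup p S) (F : FusionSystem S)
    (hF : F.IsSaturated p) (E : FusionSystem S)
    (hC : ∀ (P : Subgroup Ω) (φ : P →* Ω),
      φ ∈ F.centralizerHom (Cfsg.powerClosure p 1 (zS S)) P → φ ∈ E.Hom P)
    (hNJ : ∀ (P : Subgroup Ω) (φ : P →* Ω),
      φ ∈ F.normalizerHom (Cfsg.thompsonSubgroupAOf S) P → φ ∈ E.Hom P) : F ≤ E := by
  apply Fusion.alperin_ind p hS F hF E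
  intro P hP hbig α hα
  have hPS : P ≤ S := by
    rcases hP with rfl | hess
    · exact le_rfl
    · exact hess.1.1
  haveI : Finite P := Fusion.finite_of_le hPS
  rw [Fusion.mem_autGroup_iff E hPS]
  have hφ := (Fusion.mem_autGroup_iff F hPS α).mp hα
  by_cases hPeq : P = S
  · subst hPeq
    apply hNJ
    have hSN : P ≤ normalizerIn P (jaFunctor.of P) := (normalizerIn_of_eq jaFunctor P).ge
    apply mem_normalizerHom_of_le F (jaFunctor.of_le P) hSN _ hφ
    have h1 := of_subgroupOf_map_aut jaFunctor P α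
    rw [← Subgroup.map_map, h1]
    exact Subgroup.subgroupOf_map_subtype _ _ |>.trans (inf_of_le_left (jaFunctor.of_le P))
  · have hess : F.IsEssential p P := by
      rcases hP with h | h
      · exact absurd h hPeq
      · exact h
    have hPc : F.IsCentric P := hess.1
    have hPfn : F.IsFullyNormalized P := hess.2.1
    obtain ⟨NT, hNT⟩ := Cfsg.Agent.S5096.result F P hPS
    have hPN : P ≤ normalizerIn S P := Fusion.le_normalizerIn hPS
    have hφNT : P.subtype.comp α.toMonoidHom ∈ NT.Hom P := by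
      rw [hNT]; exact mem_normalizerHom_of_le F le_rfl hPN _ hφ (map_aut_top α)
    apply local_mem p hS F hF E hC hPfn hPc NT hNT ?_ P _ hφNT
    intro P₁ ψ hψ hJP₁ hP₁N hψJ
    have hNS : normalizerIn S P ≤ S := inf_le_left
    haveI : Finite ↥(normalizerIn S P) := Fusion.finite_of_le hNS
    have hNp : IsPGroup p ↥(normalizerIn S P) := hS.to_le hNS
    have hNc : F.IsCentric (normalizerIn S P) := Fusion.isCentric_of_le F hPN hNS hPc
    have hJS : Cfsg.thompsonSubgroupAOf (normalizerIn S P) ≤ S := (jaFunctor.of_le _).trans hNS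
    have hNN : normalizerIn S P ≤ normalizerIn S (Cfsg.thompsonSubgroupAOf (normalizerIn S P)) :=
      le_inf hNS (le_normalizer_of jaFunctor _)
    have hlt : Nat.card P < Nat.card ↥(normalizerIn S P) :=
      Fusion.card_lt_card_normalizerIn hS hPS hPeq
    haveI : Finite ↥(normalizerIn S (Cfsg.thompsonSubgroupAOf (normalizerIn S P))) :=
      Fusion.finite_of_le inf_le_left
    have hle : Nat.card ↥(normalizerIn S P) ≤
        Nat.card ↥(normalizerIn S (Cfsg.thompsonSubgroupAOf (normalizerIn S P))) :=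
      Subgroup.card_le_of_le hNN
    exact climbJ p hS F hF E hC hNJ (Nat.card P) hbig _
      (Cfsg.thompsonSubgroupAOf (normalizerIn S P))
      ⟨normalizerIn S P, hNc, zS_le_thompsonSubgroupAOf p _ hNp, hNN⟩ hJS rfl (by omega)
      P₁ ψ hψ hJP₁ (hP₁N.trans hNN) hψJ

end Cfsg.Agent.Helper6.GlGen
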