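import Mathlib
import Cfsg.Prelude.Def_Characters
import Cfsg.Agent.Helper6.GlaubS

/-!
# Real invariant characters and real invariant classes under a coprime `p`-group
-/

set_option autoImplicit false
set_option linter.style.haveILetI false
set_option linter.unusedSimpArgs false

namespace Cfsg.Agent.Helper6

open scoped ComplexConjugate

universe u

variable {K : Type u} [Group K] [Fintype K]

omit [Fintype K] in
theorem real_iff_comp_inv [Finite K] {θ : K → ℂ} (hθ : Cfsg.IsCharacter K θ) :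
    (∀ k : K, (θ k).im = 0) ↔ θ ∘ (Equiv.inv K) = θ := by
  constructor
  · intro h
    funext k
    simp only [Function.comp_apply, Equiv.inv_apply]
    rw [IsCharacter.inv_eq_conj hθ k, Complex.conj_eq_iff_im]
    exact h k
  · intro h k
    have h1 := congrFun h k
    simp only [Function.comp_apply, Equiv.inv_apply] at h1
    rw [IsCharacter.inv_eq_conj hθ k, Complex.conj_eq_iff_im] at h1
    exact h1

/-- the real invariant irreducible characters correspond to the real irreducible characters of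
the fixed subgroup -/
theorem card_real_invariant_irr {p : ℕ} [hp : Fact p.Prime] (A : Subgroup (MulAut K))
    (hA : IsPGroup p A) (hcop : (Nat.card K).Coprime (Nat.card A)) (C : Subgroup K) [Fintype C]
    (hC : ∀ g : K, g ∈ C ↔ ∀ a ∈ A, a g = g) :
    Nat.card {θ : Cfsg.IrrCharacter K // (∀ k : K, ((θ : K → ℂ) k).im = 0) ∧
        InvUnder (A : Set (MulAut K)) (θ : K → ℂ)} =
      Nat.card {β : Cfsg.IrrCharacter C // ∀ c : C, ((β : C → ℂ) c).im = 0} := by
  classical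
  have hrange : ∀ g : K, g ∈ C.subtype.range ↔ ∀ a ∈ A, a g = g := by
    intro g
    rw [Subgroup.range_subtype]
    exact hC g
  have St : GlaubStatement p (A : Set (MulAut K)) C.subtype :=
    glaubStatement_pgroup_coprime A hA hcop C.subtype Subtype.val_injective hrange
  -- inversion and the Glauberman relation
  have hrelinv : ∀ (θ : K → ℂ) (β : C → ℂ), GlaubRelHom p C.subtype θ β →
      GlaubRelHom p C.subtype (θ ∘ (Equiv.inv K)) (β ∘ (Equiv.inv C)) := by
    rintro θ β ⟨m, hm, hnd⟩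
    refine ⟨m, ?_, hnd⟩
    have key : Cfsg.classInner ((θ ∘ C.subtype) ∘ (Equiv.inv C)) (β ∘ (Equiv.inv C)) =
        Cfsg.classInner (θ ∘ C.subtype) β :=
      classInner_comp_equiv' (Equiv.inv C) (θ ∘ C.subtype) β
    rw [← hm, ← key]
    congr 1
  have hinvinv : ∀ θ : K → ℂ, InvUnder (A : Set (MulAut K)) θ →
      InvUnder (A : Set (MulAut K)) (θ ∘ (Equiv.inv K)) := by
    intro θ h a ha g
    simp only [Function.comp_apply, Equiv.inv_apply]
    rw [← map_inv]
    exact h a ha g⁻¹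
  have huniq : ∀ (χ : K → ℂ), Cfsg.IsIrrCharacter K χ → InvUnder (A : Set (MulAut K)) χ →
      ∀ ψ ψ' : Cfsg.IrrCharacter C, GlaubRelHom p C.subtype χ (ψ : C → ℂ) →
        GlaubRelHom p C.subtype χ (ψ' : C → ℂ) → ψ = ψ' := by
    intro χ hχ hinv ψ ψ' h h'
    obtain ⟨ψ₁, -, hoth⟩ := St.1 χ hχ hinv
    exact (glaubRel_unique C.subtype ψ₁ hoth ψ h).trans
      (glaubRel_unique C.subtype ψ₁ hoth ψ' h').symm
  have hF1 : ∀ θ : {θ : Cfsg.IrrCharacter K // (∀ k : K, ((θ : K → ℂ) k).im = 0) ∧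
        InvUnder (A : Set (MulAut K)) (θ : K → ℂ)},
      ∃ β : Cfsg.IrrCharacter C, GlaubRelHom p C.subtype (θ.1 : K → ℂ) (β : C → ℂ) ∧
        ∀ c : C, ((β : C → ℂ) c).im = 0 := by
    rintro ⟨θ, hreal, hinv⟩
    obtain ⟨β₀, ⟨m, hm, hpm⟩, -⟩ := St.1 θ θ.2 hinv
    have hrel : GlaubRelHom p C.subtype (θ : K → ℂ) (β₀ : C → ℂ) :=
      ⟨m, hm, not_dvd_of_modEq_pm hp.out hpm⟩
    refine ⟨β₀, hrel, ?_⟩
    rw [real_iff_comp_inv (IsIrrCharacter.isCharacter β₀.2)]
    have h1 := hrelinv _ _ hrel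
    rw [(real_iff_comp_inv (IsIrrCharacter.isCharacter θ.2)).mp hreal] at h1
    have := huniq θ θ.2 hinv ⟨_, IsIrrCharacter.comp_inv β₀.2⟩ β₀ h1 hrel
    exact congrArg Subtype.val this
  choose f hf1 hf2 using hF1
  apply Nat.card_congr
  refine Equiv.ofBijective (fun θ => ⟨f θ, hf2 θ⟩) ⟨?_, ?_⟩
  · intro θ θ' h
    have h1 : f θ = f θ' := congrArg Subtype.val h
    have h2 := hf1 θ
    rw [h1] at h2
    have := St.2.1 _ _ θ.1.2 θ.2.2 θ'.1.2 θ'.2.2 (f θ') h2 (hf1 θ')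
    exact Subtype.ext (Subtype.ext this)
  · rintro ⟨β, hβ⟩
    obtain ⟨θ, hθ, hinv, hrel⟩ := St.2.2 β
    have hreal : ∀ k : K, (θ k).im = 0 := by
      rw [real_iff_comp_inv (IsIrrCharacter.isCharacter hθ)]
      have h1 := hrelinv _ _ hrel
      rw [(real_iff_comp_inv (IsIrrCharacter.isCharacter β.2)).mp hβ] at h1
      exact St.2.1 _ _ (IsIrrCharacter.comp_inv hθ) (hinvinv θ hinv) hθ hinv β h1 hrel
    refine ⟨⟨⟨θ, hθ⟩, hreal, hinv⟩, ?_⟩
    apply Subtype.ext
    exact huniq θ hθ hinv _ _ (hf1 ⟨⟨θ, hθ⟩, hreal, hinv⟩) hrel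

omit [Fintype K] in
/-- the real invariant classes correspond to the real classes of the fixed subgroup -/
theorem card_real_invariant_classes [Finite K] {p : ℕ} [hp : Fact p.Prime]
    (A : Subgroup (MulAut K)) (hA : IsPGroup p A) (hcop : ¬ p ∣ Nat.card K) (C : Subgroup K)
    (hC : ∀ g : K, g ∈ C ↔ ∀ a ∈ A, a g = g) :
    Nat.card {c : ConjClasses K // (∀ k : K, ConjClasses.mk k = c → IsConj k k⁻¹) ∧
        ∀ a ∈ A, ConjClasses.map (a : K ≃* K).toMonoidHom c = c} =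
      Nat.card {L : ConjClasses C // ∀ c : C, ConjClasses.mk c = L → IsConj c c⁻¹} := by
  classical
  have hconjC : ∀ x y : C, IsConj (x : K) (y : K) → IsConj x y := by
    intro x y hxy
    obtain ⟨z, hz, hzc⟩ := exists_fixed_conj A hA hcop ((hC x.1).mp x.2) ((hC y.1).mp y.2) hxy
    rw [isConj_iff]
    exact ⟨⟨z, (hC z).mpr hz⟩, Subtype.ext hzc⟩
  symm
  apply Nat.card_congr
  refine Equiv.ofBijective (fun L => ⟨ConjClasses.map C.subtype L.1, ?_, ?_⟩) ⟨?_, ?_⟩
  · obtain ⟨L, hL⟩ := L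
    obtain ⟨c, rfl⟩ := ConjClasses.exists_rep L
    intro k hk
    rw [conjClasses_map_mk', ConjClasses.mk_eq_mk_iff_isConj] at hk
    have h1 : IsConj c c⁻¹ := hL c rfl
    have h2 : IsConj (c : K) ((c : K)⁻¹) := by
      obtain ⟨z, hz⟩ := isConj_iff.mp h1
      rw [isConj_iff]
      refine ⟨z.1, ?_⟩
      have := congrArg Subtype.val hz
      simpa using this
    have h3 : IsConj k⁻¹ ((c : K)⁻¹) := by
      obtain ⟨z, hz⟩ := isConj_iff.mp hk
      have hz' : z * k * z⁻¹ = (c : K) := hz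
      rw [isConj_iff]
      refine ⟨z, ?_⟩
      rw [← hz']
      group
    exact (hk.trans h2).trans h3.symm
  · obtain ⟨L, hL⟩ := L
    obtain ⟨c, rfl⟩ := ConjClasses.exists_rep L
    intro a ha
    rw [conjClasses_map_mk', conjClasses_map_mk']
    congr 1
    exact (hC c.1).mp c.2 a ha
  · rintro ⟨L, hL⟩ ⟨L', hL'⟩ hLL
    obtain ⟨c, rfl⟩ := ConjClasses.exists_rep L
    obtain ⟨c', rfl⟩ := ConjClasses.exists_rep L'
    have h1 := congrArg Subtype.val hLL
    simp only [conjClasses_map_mk'] at h1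
    apply Subtype.ext
    simp only
    rw [ConjClasses.mk_eq_mk_iff_isConj] at h1 ⊢
    exact hconjC c c' h1
  · rintro ⟨c, hreal, hinv⟩
    obtain ⟨g₀, hg₀, hg₀c⟩ := exists_fixed_in_class A hA hcop c hinv
    have hg₀C : g₀ ∈ C := (hC g₀).mpr hg₀
    refine ⟨⟨ConjClasses.mk ⟨g₀, hg₀C⟩, ?_⟩, ?_⟩
    · intro x hx
      rw [ConjClasses.mk_eq_mk_iff_isConj] at hx
      have h1 : IsConj (⟨g₀, hg₀C⟩ : C) (⟨g₀, hg₀C⟩ : C)⁻¹ := by
        apply hconjC
        exact hreal g₀ hg₀c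
      have h2 : IsConj x⁻¹ (⟨g₀, hg₀C⟩ : C)⁻¹ := by
        obtain ⟨z, hz⟩ := isConj_iff.mp hx
        rw [isConj_iff]
        refine ⟨z, ?_⟩
        rw [← hz]
        group
      exact (hx.trans h1).trans h2.symm
    · apply Subtype.ext
      simp only [conjClasses_map_mk']
      exact hg₀c

end Cfsg.Agent.Helper6
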