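import Mathlib
import Cfsg.Prelude.Def_Amalgam

/-!
# S2858 piece `GoldSpe`: the hypotheses of S2858 give `Cfsg.IsSpeAmalgamPair 2 P₁ P₂`.
-/

set_option autoImplicit false

namespace Cfsg.Agent.Helper6.Gold

open Cfsg

/-- `O_p(X)` is a `p`-group. -/
theorem pCore_isPGroup (p : ℕ) (X : Type*) [Group X] : IsPGroup p (Cfsg.pCore p X) := by
  unfold Cfsg.pCore
  exact Sylow.sSup_of_normal _ (fun H hH => hH.2) (fun H hH => hH.1)

/-- A normal `p`-subgroup lies in `O_p(X)`. -/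
theorem le_pCore_of_normal {p : ℕ} {X : Type*} [Group X] (N : Subgroup X) (hn : N.Normal)
    (hp : IsPGroup p N) : N ≤ Cfsg.pCore p X :=
  le_sSup ⟨hn, hp⟩

/-- In a group of order `2 ^ k * 3`, a Sylow `2`-subgroup has order `2 ^ k`. -/
theorem card_sylow_two {X : Type*} [Group X] [Finite X] (k : ℕ) (hX : Nat.card X = 2 ^ k * 3)
    (S : Sylow 2 X) : Nat.card (S : Subgroup X) = 2 ^ k := by
  have : Fact (Nat.Prime 2) := ⟨Nat.prime_two⟩
  have h1 : 2 ^ k ∣ Nat.card (S : Subgroup X) :=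
    S.pow_dvd_card_of_pow_dvd_card (by rw [hX]; exact dvd_mul_right _ _)
  obtain ⟨a, ha⟩ := IsPGroup.iff_card.mp S.isPGroup'
  have h2 : Nat.card (S : Subgroup X) ∣ Nat.card X := Subgroup.card_subgroup_dvd_card _
  rw [ha, hX] at h2
  have h3 : 2 ^ a ∣ 2 ^ k :=
    (Nat.Coprime.pow_left a (by norm_num : Nat.Coprime 2 3)).dvd_of_dvd_mul_right h2
  rw [ha] at h1 ⊢
  exact Nat.dvd_antisymm h3 h1

section S3quot

variable {X : Type*} [Group X]

theorem card_perm_fin_three : Nat.card (Equiv.Perm (Fin 3)) = 6 := by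
  rw [Nat.card_eq_fintype_card, Fintype.card_perm, Fintype.card_fin]
  rfl

/-- `|X| = 6 |O_2(X)|` when `X / O_2(X) ≅ S₃`. -/
theorem card_of_quot (e : X ⧸ Cfsg.pCore 2 X ≃* Equiv.Perm (Fin 3)) :
    Nat.card X = 6 * Nat.card (Cfsg.pCore 2 X) := by
  have h1 := Subgroup.card_eq_card_quotient_mul_card_subgroup (Cfsg.pCore 2 X)
  have h2 : Nat.card (X ⧸ Cfsg.pCore 2 X) = 6 := by
    rw [Nat.card_congr e.toEquiv, card_perm_fin_three]
  rw [h1, h2]

theorem three_dvd_card (e : X ⧸ Cfsg.pCore 2 X ≃* Equiv.Perm (Fin 3)) : 3 ∣ Nat.card X := by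
  rw [card_of_quot e]
  exact Dvd.dvd.mul_right (by norm_num) _

theorem two_dvd_card (e : X ⧸ Cfsg.pCore 2 X ≃* Equiv.Perm (Fin 3)) : 2 ∣ Nat.card X := by
  rw [card_of_quot e]
  exact Dvd.dvd.mul_right (by norm_num) _

variable [Finite X]

/-- A Sylow `2`-subgroup of `X` has order `2 |O_2(X)|` when `X / O_2(X) ≅ S₃`. -/
theorem card_sylow_of_quot (e : X ⧸ Cfsg.pCore 2 X ≃* Equiv.Perm (Fin 3)) (S : Sylow 2 X) :
    Nat.card (S : Subgroup X) = 2 * Nat.card (Cfsg.pCore 2 X) := by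
  obtain ⟨k, hk⟩ := IsPGroup.iff_card.mp (pCore_isPGroup 2 X)
  have hX : Nat.card X = 2 ^ (k + 1) * 3 := by
    rw [card_of_quot e, hk, pow_succ]; ring
  rw [card_sylow_two (k + 1) hX S, hk, pow_succ]; ring

/-- A Sylow `2`-subgroup of `X` is self-normalizing when `X / O_2(X) ≅ S₃`. -/
theorem normalizer_sylow_of_quot (e : X ⧸ Cfsg.pCore 2 X ≃* Equiv.Perm (Fin 3)) (S : Sylow 2 X) :
    Subgroup.normalizer ((S : Subgroup X) : Set X) = (S : Subgroup X) := by
  have hle : (S : Subgroup X) ≤ Subgroup.normalizer ((S : Subgroup X) : Set X) :=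
    Subgroup.le_normalizer
  have hS := card_sylow_of_quot e S
  have hX := card_of_quot e
  have hpos : 0 < Nat.card (Cfsg.pCore 2 X) := Nat.card_pos
  obtain ⟨m, hm⟩ := Subgroup.card_dvd_of_le hle
  obtain ⟨n, hn⟩ := Subgroup.card_subgroup_dvd_card
    (Subgroup.normalizer ((S : Subgroup X) : Set X))
  have hmn : m * n = 3 := by
    have h1 : Nat.card (S : Subgroup X) * (m * n) = Nat.card (S : Subgroup X) * 3 := by
      rw [← mul_assoc, ← hm, ← hn, hX, hS]; ring
    have hSpos : 0 < Nat.card (S : Subgroup X) := Nat.card_pos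
    exact Nat.eq_of_mul_eq_mul_left hSpos h1
  have hm3 : m ∣ 3 := ⟨n, hmn.symm⟩
  rcases (Nat.dvd_prime Nat.prime_three).mp hm3 with h | h
  · -- m = 1
    symm
    apply Subgroup.eq_of_le_of_card_ge hle
    rw [hm, h, mul_one]
  · -- m = 3 : the normalizer is everything
    exfalso
    have htop : Subgroup.normalizer ((S : Subgroup X) : Set X) = ⊤ := by
      apply (Subgroup.card_eq_iff_eq_top _).mp
      rw [hm, h, hX, hS]; ring
    have hnorm : (S : Subgroup X).Normal := Subgroup.normalizer_eq_top_iff.mp htop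
    have h2 := Subgroup.card_le_of_le (le_pCore_of_normal (S : Subgroup X) hnorm S.isPGroup')
    omega

end S3quot

section residue

/-- The centre of `S₃` is trivial. -/
theorem perm_three_central_eq_one :
    ∀ t : Equiv.Perm (Fin 3), (∀ g : Equiv.Perm (Fin 3), g * t * g⁻¹ = t) → t = 1 := by
  decide

/-- The trivial subgroup has `p`-rank `≤ 0`. -/
theorem pRankLE_zero_bot {Y : Type*} [Group Y] (p : ℕ) : PRankLE p 0 (⊥ : Subgroup Y) := by
  intro A _ _
  rw [pow_zero]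
  have : Subsingleton (⊥ : Subgroup Y) := inferInstance
  have h2 : Subsingleton A := inferInstance
  exact le_of_eq (Nat.card_unique)

/-- A group isomorphic to `S₃` satisfies the residual condition `HasSpeResidue 2`. -/
theorem hasSpeResidue_of_equiv {Y : Type*} [Group Y] (e : Y ≃* Equiv.Perm (Fin 3)) :
    Cfsg.HasSpeResidue 2 Y := by
  have : Finite Y := Finite.of_equiv _ e.symm.toEquiv
  have : Fact (Nat.Prime 2) := ⟨Nat.prime_two⟩
  have hcard : Nat.card Y = 6 := by rw [Nat.card_congr e.toEquiv, card_perm_fin_three]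
  have key : ∀ T : Sylow 2 Y,
      IsStronglyPEmbedded 2 (Subgroup.normalizer ((T : Subgroup Y) : Set Y)) := by
    intro T
    have hT2 : Nat.card (T : Subgroup Y) = 2 := by
      have := card_sylow_two 1 (by rw [hcard]; norm_num) T
      simpa using this
    refine ⟨by rw [hcard]; norm_num, ?_, T, ?_⟩
    · intro htop
      have hn : (T : Subgroup Y).Normal := Subgroup.normalizer_eq_top_iff.mp htop
      have hTne : (T : Subgroup Y) ≠ ⊥ := by
        intro hb
        rw [hb, Subgroup.card_bot] at hT2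
        omega
      obtain ⟨⟨t, htT⟩, ht1⟩ := (Subgroup.ne_bot_iff_exists_ne_one).mp hTne
      have ht1' : t ≠ 1 := fun h => ht1 (Subtype.ext h)
      obtain ⟨y, -, hy⟩ := (Nat.card_eq_two_iff' (1 : (T : Subgroup Y))).mp hT2
      have hc : ∀ g : Y, g * t * g⁻¹ = t := by
        intro g
        have h1 : g * t * g⁻¹ ∈ (T : Subgroup Y) := hn.conj_mem t htT g
        have h2 : (⟨g * t * g⁻¹, h1⟩ : (T : Subgroup Y)) ≠ 1 := by
          intro h
          have h3 : g * t * g⁻¹ = 1 := congrArg Subtype.val h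
          apply ht1'
          have h4 : g * t = g := by
            have := congrArg (· * g) h3
            simpa using this
          exact mul_left_cancel (a := g) (by rw [h4, mul_one])
        have h5 := hy _ h2
        have h6 := hy _ ht1
        exact congrArg Subtype.val (h5.trans h6.symm)
      have h7 : e t = 1 := by
        apply perm_three_central_eq_one
        intro g'
        have := hc (e.symm g')
        have h8 := congrArg e this
        simpa using h8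
      apply ht1'
      have := congrArg e.symm h7
      simpa using this
    · unfold kGeneratedCore
      apply iSup_le
      rintro ⟨Q, hQT, hQr⟩
      show Subgroup.normalizer (Q : Set Y) ≤ _
      have hQ : Q = (T : Subgroup Y) := by
        by_contra hne
        apply hQr
        have hQbot : Q = ⊥ := by
          have hd : Nat.card Q ∣ 2 := hT2 ▸ Subgroup.card_dvd_of_le hQT
          rcases (Nat.dvd_prime Nat.prime_two).mp hd with h | h
          · exact Subgroup.card_eq_one.mp h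
          · exact absurd (Subgroup.eq_of_le_of_card_ge hQT (by rw [h, hT2])) hne
        subst hQbot
        exact pRankLE_zero_bot 2
      subst hQ
      exact le_refl _
  exact ⟨⟨_, key default⟩, fun T _ => key T⟩

end residue

section main

variable {G : Type*} [Group G]

/-- The facts about one of the two subgroups. -/
theorem side (P T : Subgroup G) [Finite P] (hTP : T ≤ P)
    (hS : ∃ S : Sylow 2 P, (S : Subgroup P) = T.subgroupOf P)
    (he : Nonempty (P ⧸ Cfsg.pCore 2 P ≃* Equiv.Perm (Fin 3))) :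
    IsPGroup 2 T ∧ 3 ∣ Nat.card P ∧ 2 ∣ Nat.card P ∧
      P ⊓ Subgroup.normalizer (T : Set G) ≤ T ∧
      (∀ Q : Sylow 2 P, Nat.card T = Nat.card (Q : Subgroup P)) := by
  obtain ⟨S, hS⟩ := hS
  obtain ⟨e⟩ := he
  have hTp : IsPGroup 2 T := by
    have h1 : IsPGroup 2 (T.subgroupOf P) := hS ▸ S.isPGroup'
    exact h1.of_equiv (Subgroup.subgroupOfEquivOfLe hTP)
  refine ⟨hTp, three_dvd_card e, two_dvd_card e, ?_, ?_⟩
  · intro x hx
    obtain ⟨hxP, hxN⟩ := Subgroup.mem_inf.mp hx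
    have h1 : (⟨x, hxP⟩ : P) ∈ Subgroup.normalizer ((S : Subgroup P) : Set P) := by
      rw [hS, Subgroup.mem_normalizer_iff]
      intro h
      rw [Subgroup.mem_subgroupOf, Subgroup.mem_subgroupOf]
      exact (Subgroup.mem_normalizer_iff.mp hxN) h
    rw [normalizer_sylow_of_quot e S, hS, Subgroup.mem_subgroupOf] at h1
    exact h1
  · intro Q
    have h1 : Nat.card T = Nat.card (T.subgroupOf P) :=
      (Nat.card_congr (Subgroup.subgroupOfEquivOfLe hTP).toEquiv).symm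
    rw [h1, ← hS, card_sylow_of_quot e S, card_sylow_of_quot e Q]

/-- Characteristic `2`, transported from the ambient group to the subgroup. -/
theorem centralizer_pCore_le (P : Subgroup G)
    (h : P ⊓ Subgroup.centralizer (Cfsg.pCoreOf 2 P : Set G) ≤ Cfsg.pCoreOf 2 P) :
    Subgroup.centralizer (Cfsg.pCore 2 P : Set P) ≤ Cfsg.pCore 2 P := by
  intro x hx
  have h1 : (x : G) ∈ P ⊓ Subgroup.centralizer (Cfsg.pCoreOf 2 P : Set G) := by
    refine Subgroup.mem_inf.mpr ⟨x.2, ?_⟩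
    rw [Subgroup.mem_centralizer_iff]
    rintro y hy
    obtain ⟨z, hz, rfl⟩ := hy
    have := Subgroup.mem_centralizer_iff.mp hx z hz
    exact congrArg Subtype.val this
  obtain ⟨z, hz, hzx⟩ := h h1
  have : z = x := Subtype.ext hzx
  exact this ▸ hz

/-- A proper-ness lemma: a `2`-group has order prime to `3`. -/
theorem not_three_dvd_of_isPGroup {X : Type*} [Group X] [Finite X] (h : IsPGroup 2 X) :
    ¬ 3 ∣ Nat.card X := by
  have : Fact (Nat.Prime 2) := ⟨Nat.prime_two⟩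
  obtain ⟨k, hk⟩ := IsPGroup.iff_card.mp h
  rw [hk]
  intro h3
  have := Nat.Prime.dvd_of_dvd_pow Nat.prime_three h3
  omega

/-- **S2858 piece `GoldSpe`.** The hypotheses of S2858 give the standing hypothesis
`IsSpeAmalgamPair 2 P₁ P₂` of the amalgam method (hypothesis `h₅` is not needed). -/
theorem isSpeAmalgamPair {G : Type*} [Group G] (P₁ P₂ : Subgroup G) [Finite ↥P₁] [Finite ↥P₂] (hgen : P₁ ⊔ P₂ = ⊤) (T : Subgroup G) (hT : T = P₁ ⊓ P₂) (h₁ : ∀ P ∈ ({P₁, P₂} : Set (Subgroup G)), P ⊓ Subgroup.centralizer (Cfsg.pCoreOf 2 P : Set G) ≤ Cfsg.pCoreOf 2 P) (h₂ : ∀ P ∈ ({P₁, P₂} : Set (Subgroup G)), ∃ S : Sylow 2 ↥P, (S : Subgroup ↥P) = T.subgroupOf P) (h₃ : ∀ N : Subgroup G, N.Normal → N ≤ T → N = ⊥) (h₄ : ∀ P ∈ ({P₁, P₂} : Set (Subgroup G)), Nonempty (↥P ⧸ Cfsg.pCore 2 ↥P ≃* Equiv.Perm (Fin 3))) (h₅ : ∀ P ∈ ({P₁, P₂} : Set (Subgroup G)), ¬ P ≤ Subgroup.centralizer (Cfsg.omegaOne 2 (T ⊓ Subgroup.centralizer (T : Set G)) : Set G)) : Cfsg.IsSpeAmalgamPair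 2 P₁ P₂ := by
  have m1 : P₁ ∈ ({P₁, P₂} : Set (Subgroup G)) := Set.mem_insert _ _
  have m2 : P₂ ∈ ({P₁, P₂} : Set (Subgroup G)) := Set.mem_insert_of_mem _ (Set.mem_singleton _)
  have hT1 : T ≤ P₁ := hT ▸ inf_le_left
  have hT2 : T ≤ P₂ := hT ▸ inf_le_right
  obtain ⟨hTp, h3a, h2a, hNa, hCa⟩ := side P₁ T hT1 (h₂ P₁ m1) (h₄ P₁ m1)
  obtain ⟨-, h3b, h2b, hNb, hCb⟩ := side P₂ T hT2 (h₂ P₂ m2) (h₄ P₂ m2)
  obtain ⟨e₁⟩ := h₄ P₁ m1
  obtain ⟨e₂⟩ := h₄ P₂ m2
  have hne1 : P₁ ≠ ⊤ := by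
    intro htop
    have h : T = P₂ := by rw [hT, htop, top_inf_eq]
    exact not_three_dvd_of_isPGroup (h ▸ hTp) h3b
  have hne2 : P₂ ≠ ⊤ := by
    intro htop
    have h : T = P₁ := by rw [hT, htop, inf_top_eq]
    exact not_three_dvd_of_isPGroup (h ▸ hTp) h3a
  subst hT
  -- Sylow subgroups of `P₁ ⊓ P₂`
  have hStop : ∀ S : Sylow 2 ↥(P₁ ⊓ P₂), (S : Subgroup ↥(P₁ ⊓ P₂)) = ⊤ := by
    intro S
    have h : IsPGroup 2 (⊤ : Subgroup ↥(P₁ ⊓ P₂)) := hTp.of_equiv Subgroup.topEquiv.symm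
    exact (S.is_maximal' h le_top).symm
  have hSmap : ∀ S : Sylow 2 ↥(P₁ ⊓ P₂),
      (S : Subgroup ↥(P₁ ⊓ P₂)).map (P₁ ⊓ P₂).subtype = P₁ ⊓ P₂ := by
    intro S
    rw [hStop S, ← MonoidHom.range_eq_map, Subgroup.range_subtype]
  refine ⟨⟨⟨hgen, hne1, hne2, fun N hN hn => h₃ N hn hN⟩, inferInstance, inferInstance, h2a, h2b,
    ?_, centralizer_pCore_le P₁ (h₁ P₁ m1), centralizer_pCore_le P₂ (h₁ P₂ m2)⟩, ?_,
    hasSpeResidue_of_equiv e₁, hasSpeResidue_of_equiv e₂⟩
  · intro S Q₁ Q₂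
    have h : Nat.card (S : Subgroup ↥(P₁ ⊓ P₂)) = Nat.card ↥(P₁ ⊓ P₂) := by
      rw [hStop S, Subgroup.card_top]
    rw [h]
    exact ⟨hCa Q₁, hCb Q₂⟩
  · intro S
    rw [hSmap S]
    have hle : P₁ ⊓ P₂ ≤ Subgroup.normalizer ((P₁ ⊓ P₂ : Subgroup G) : Set G) :=
      Subgroup.le_normalizer
    refine ⟨le_antisymm ?_ ?_, hNa⟩
    · exact le_inf ((hNa).trans inf_le_right) inf_le_right
    · exact le_inf ((hNb).trans inf_le_left) inf_le_right

end main

end Cfsg.Agent.Helper6.Gold
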