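import Mathlib

/-!
# Algebraic core for the `3² : D₈` situation, part 2: the generic branch lemma

`u₁ = Y₁ ℓ₁`, `v₂ = u₂ - u₁ = y₂ ℓ₂`, `v₄ = y₄ ℓ₄`, `v₅ = y₅ ℓ₅` with `ℓ = (l, 1)`; four symmetric
bilinear forms `Qa Qb Qc Qd` (coefficients `a11 a12 a22` etc.).  From nine dual relations we get the
compatibility `A B = C Dd` and the four pair relations.
-/

set_option autoImplicit false

namespace Cfsg.Agent.Helper6.H72

/-- value of the form with coefficients `(m11, m12, m22)` at the directions `(l,1)`, `(l',1)` -/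
def qv (m11 m12 m22 l l' : ℂ) : ℂ := m11 * l * l' + m12 * (l + l') + m22

theorem core_generic
    (η D1 D2 D4 D5 X1 Y1 x2 y2 x4 y4 x5 y5 : ℂ)
    (a11 a12 a22 b11 b12 b22 c11 c12 c22 d11 d12 d22 l1 l2 l4 l5 : ℂ)
    (hη : η ≠ 0) (hD1 : D1 ≠ 0)
    (dir1 : X1 = l1 * Y1) (dir2 : x2 = l2 * y2) (dir4 : x4 = l4 * y4) (dir5 : x5 = l5 * y5)
    (iso1 : qv a11 a12 a22 l1 l1 + qv c11 c12 c22 l1 l1 = 0)
    (Ha11 : D1 * (a11 * X1 * X1 + a12 * (X1 * Y1 + Y1 * X1) + a22 * Y1 * Y1) = η * (1 - D1))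
    (Ha12 : (a11 * X1 * X1 + a12 * (X1 * Y1 + Y1 * X1) + a22 * Y1 * Y1) +
      (a11 * X1 * x2 + a12 * (X1 * y2 + Y1 * x2) + a22 * Y1 * y2) = -η)
    (Ha22 : D1 * D2 * (a11 * x2 * x2 + a12 * (x2 * y2 + y2 * x2) + a22 * y2 * y2) = η * (D1 + D2))
    (Hc14 : (c11 * X1 * X1 + c12 * (X1 * Y1 + Y1 * X1) + c22 * Y1 * Y1) +
      (c11 * X1 * x4 + c12 * (X1 * y4 + Y1 * x4) + c22 * Y1 * y4) = η)
    (Hc44 : D1 * D4 * (c11 * x4 * x4 + c12 * (x4 * y4 + y4 * x4) + c22 * y4 * y4) = -(η * (D1 + D4)))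
    (Hb45 : D1 * (b11 * x4 * x5 + b12 * (x4 * y5 + y4 * x5) + b22 * y4 * y5) = η)
    (Hb55 : D1 * D5 * (b11 * x5 * x5 + b12 * (x5 * y5 + y5 * x5) + b22 * y5 * y5) = η * (D1 + D5))
    (Hd25 : D1 * (d11 * x2 * x5 + d12 * (x2 * y5 + y2 * x5) + d22 * y2 * y5) = -η) :
    qv a11 a12 a22 l1 l2 * qv b11 b12 b22 l4 l5 = qv c11 c12 c22 l1 l4 * qv d11 d12 d22 l2 l5 ∧
    (1 - D1) * (D1 + D2) * (qv a11 a12 a22 l1 l2) ^ 2 =
      qv a11 a12 a22 l1 l1 * qv a11 a12 a22 l2 l2 * D2 ∧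
    (1 - D1) * (D1 + D4) * (qv c11 c12 c22 l1 l4) ^ 2 =
      -(qv a11 a12 a22 l1 l1 * qv c11 c12 c22 l4 l4 * D4) ∧
    (D1 + D4) * (D1 + D5) * (qv b11 b12 b22 l4 l5) ^ 2 =
      -(qv c11 c12 c22 l4 l4 * qv b11 b12 b22 l5 l5 * (D4 * D5)) ∧
    (D1 + D2) * (D1 + D5) * (qv d11 d12 d22 l2 l5) ^ 2 =
      qv a11 a12 a22 l2 l2 * qv b11 b12 b22 l5 l5 * (D2 * D5) := by
  subst dir1 dir2 dir4 dir5
  unfold qv at *
  -- abbreviations
  set t := Y1 with ht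
  set r := y2 with hr
  set s := y4 with hs
  set p := y5 with hp
  -- the E-equations
  have E1 : D1 * (t ^ 2 * (a11 * l1 * l1 + a12 * (l1 + l1) + a22)) = η * (1 - D1) := by
    linear_combination Ha11
  have E2 : D1 * (t * r * (a11 * l1 * l2 + a12 * (l1 + l2) + a22)) = -η := by
    linear_combination D1 * Ha12 - Ha11
  have E3 : D1 * D2 * (r ^ 2 * (a11 * l2 * l2 + a12 * (l2 + l2) + a22)) = η * (D1 + D2) := by
    linear_combination Ha22
  have E4 : D1 * (t * s * (c11 * l1 * l4 + c12 * (l1 + l4) + c22)) = η := by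
    linear_combination D1 * Hc14 + Ha11 - D1 * t ^ 2 * iso1
  have E5 : D1 * D4 * (s ^ 2 * (c11 * l4 * l4 + c12 * (l4 + l4) + c22)) = -(η * (D1 + D4)) := by
    linear_combination Hc44
  have E6 : D1 * (s * p * (b11 * l4 * l5 + b12 * (l4 + l5) + b22)) = η := by
    linear_combination Hb45
  have E7 : D1 * D5 * (p ^ 2 * (b11 * l5 * l5 + b12 * (l5 + l5) + b22)) = η * (D1 + D5) := by
    linear_combination Hb55
  have E8 : D1 * (r * p * (d11 * l2 * l5 + d12 * (l2 + l5) + d22)) = -η := by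
    linear_combination Hd25
  have hη2 : η ^ 2 ≠ 0 := pow_ne_zero 2 hη
  set A := a11 * l1 * l2 + a12 * (l1 + l2) + a22 with hA
  set B := b11 * l4 * l5 + b12 * (l4 + l5) + b22 with hB
  set C := c11 * l1 * l4 + c12 * (l1 + l4) + c22 with hC
  set Dd := d11 * l2 * l5 + d12 * (l2 + l5) + d22 with hDd
  set qa1 := a11 * l1 * l1 + a12 * (l1 + l1) + a22 with hqa1
  set qa2 := a11 * l2 * l2 + a12 * (l2 + l2) + a22 with hqa2
  set qc4 := c11 * l4 * l4 + c12 * (l4 + l4) + c22 with hqc4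
  set qb5 := b11 * l5 * l5 + b12 * (l5 + l5) + b22 with hqb5
  refine ⟨?_, ?_, ?_, ?_, ?_⟩
  · -- compatibility
    have h1 : D1 ^ 2 * (t * r * s * p) * (A * B) = -(η ^ 2) := by
      linear_combination (D1 * (s * p * B)) * E2 - η * E6
    have h2 : D1 ^ 2 * (t * r * s * p) * (C * Dd) = -(η ^ 2) := by
      linear_combination (D1 * (r * p * Dd)) * E4 + η * E8
    have h3 : D1 ^ 2 * (t * r * s * p) ≠ 0 := by
      intro h0
      rw [h0, zero_mul] at h1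
      exact hη2 (by linear_combination h1)
    have h4 : D1 ^ 2 * (t * r * s * p) * (A * B - C * Dd) = 0 := by
      linear_combination h1 - h2
    have h5 := (mul_eq_zero.mp h4).resolve_left h3
    linear_combination h5
  · have h1 : η ^ 2 * ((1 - D1) * (D1 + D2) * A ^ 2 - qa1 * qa2 * D2) = 0 := by
      linear_combination (-(A ^ 2) * (D1 * D2 * (r ^ 2 * qa2))) * E1 + (-(A ^ 2) * (η * (1 - D1))) * E3
        + (qa1 * qa2 * D2 * (D1 * (t * r * A) + (-η))) * E2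
    have h2 := (mul_eq_zero.mp h1).resolve_left hη2
    linear_combination h2
  · have h1 : η ^ 2 * ((1 - D1) * (D1 + D4) * C ^ 2 + qa1 * qc4 * D4) = 0 := by
      linear_combination (C ^ 2 * (D1 * D4 * (s ^ 2 * qc4))) * E1 + (C ^ 2 * (η * (1 - D1))) * E5
        - (qa1 * qc4 * D4 * (D1 * (t * s * C) + η)) * E4
    have h2 := (mul_eq_zero.mp h1).resolve_left hη2
    linear_combination h2
  · have h1 : η ^ 2 * ((D1 + D4) * (D1 + D5) * B ^ 2 + qc4 * qb5 * (D4 * D5)) = 0 := by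
      linear_combination (B ^ 2 * (D1 * D5 * (p ^ 2 * qb5))) * E5 + (B ^ 2 * (-(η * (D1 + D4)))) * E7
        - (qc4 * qb5 * (D4 * D5) * (D1 * (s * p * B) + η)) * E6
    have h2 := (mul_eq_zero.mp h1).resolve_left hη2
    linear_combination h2
  · have h1 : η ^ 2 * ((D1 + D2) * (D1 + D5) * Dd ^ 2 - qa2 * qb5 * (D2 * D5)) = 0 := by
      linear_combination (-(Dd ^ 2) * (D1 * D5 * (p ^ 2 * qb5))) * E3 + (-(Dd ^ 2) * (η * (D1 + D2))) * E7
        + (qa2 * qb5 * (D2 * D5) * (D1 * (r * p * Dd) + (-η))) * E8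
    have h2 := (mul_eq_zero.mp h1).resolve_left hη2
    linear_combination h2

end Cfsg.Agent.Helper6.H72
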