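import Cfsg.Agent.Helper6.H72P
import Cfsg.Agent.Helper6.H72Q

/-!
# Algebraic core for the `3² : D₈` situation, part 3: the coherent case, fusion pattern `Ft`

From the 24 moment equations of the coherent embedding we derive that `D5 = -1` or one of the
exotic pair relations holds (these are excluded afterwards by congruences modulo 9).
Generated by a script; all constants were computed exactly.
-/

set_option autoImplicit false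
set_option linter.unusedVariables false

namespace Cfsg.Agent.Helper6.H72

set_option maxHeartbeats 4000000 in
theorem core_Ft (η D1 D2 D3 D4 D5 D6 D7 D8 X1 X2 X3 X4 X5 X6 X7 X8 Y1 Y2 Y3 Y4 Y5 Y6 Y7 Y8 : ℂ)
    (hη : η ≠ 0) (hD1 : D1 ≠ 0) (hD2 : D2 ≠ 0) (hD4 : D4 ≠ 0) (hD5 : D5 ≠ 0)
    (a0 : -1 + D1 + D2 + D3 = 0)
    (a1 : D1 * X1 + D2 * X2 + D3 * X3 = 0)
    (a2 : D1 * Y1 + D2 * Y2 + D3 * Y3 = 0)
    (a3 : D1 * X1 * X1 + D2 * X2 * X2 + D3 * X3 * X3 = η * (-36))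
    (a4 : D1 * X1 * Y1 + D2 * X2 * Y2 + D3 * X3 * Y3 = η * (-108))
    (a5 : D1 * Y1 * Y1 + D2 * Y2 * Y2 + D3 * Y3 * Y3 = η * (-396))
    (b0 : D1 + D4 + D5 + D6 = 0)
    (b1 : D1 * X1 + D4 * X4 + D5 * X5 + D6 * X6 = 0)
    (b2 : D1 * Y1 + D4 * Y4 + D5 * Y5 + D6 * Y6 = 0)
    (b3 : D1 * X1 * X1 + D4 * X4 * X4 + D5 * X5 * X5 + D6 * X6 * X6 = η * (-36))
    (b4 : D1 * X1 * Y1 + D4 * X4 * Y4 + D5 * X5 * Y5 + D6 * X6 * Y6 = η * 108)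
    (b5 : D1 * Y1 * Y1 + D4 * Y4 * Y4 + D5 * Y5 * Y5 + D6 * Y6 * Y6 = η * (-396))
    (c0 : 1 + -D1 + -D4 + D7 = 0)
    (c1 : -D1 * X1 + -D4 * X4 + D7 * X7 = 0)
    (c2 : -D1 * Y1 + -D4 * Y4 + D7 * Y7 = 0)
    (c3 : -D1 * X1 * X1 + -D4 * X4 * X4 + D7 * X7 * X7 = η * 72)
    (c4 : -D1 * X1 * Y1 + -D4 * X4 * Y4 + D7 * X7 * Y7 = η * 0)
    (c5 : -D1 * Y1 * Y1 + -D4 * Y4 * Y4 + D7 * Y7 * Y7 = η * 576)
    (d0 : -D1 + -D2 + -D5 + D8 = 0)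
    (d1 : -D1 * X1 + -D2 * X2 + -D5 * X5 + D8 * X8 = 0)
    (d2 : -D1 * Y1 + -D2 * Y2 + -D5 * Y5 + D8 * Y8 = 0)
    (d3 : -D1 * X1 * X1 + -D2 * X2 * X2 + -D5 * X5 * X5 + D8 * X8 * X8 = η * 72)
    (d4 : -D1 * X1 * Y1 + -D2 * X2 * Y2 + -D5 * X5 * Y5 + D8 * X8 * Y8 = η * 0)
    (d5 : -D1 * Y1 * Y1 + -D2 * Y2 * Y2 + -D5 * Y5 * Y5 + D8 * Y8 * Y8 = η * 144)
    : D5 = -1 ∨ 9 * ((1 - D1) * (D1 + D2)) = 17 * D2 ∨ 9 * ((1 - D1) * (D1 + D4)) = 17 * D4 ∨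
      9 * ((D1 + D4) * (D1 + D5)) = 17 * (D4 * D5) ∨ (1 - D1) * (D1 + D2) = 9801 * D2 ∨
      (1 - D1) * (D1 + D4) = 9801 * D4 := by
  -- `a` : origin `e0` (weight -1), points u1 u2 u3
  have Ha11' := dual_diag (-1) D1 D2 D3 X1 Y1 X2 Y2 X3 Y3 (-36) (-108) (-396) η hη a0 a1 a2 a3 a4 a5
  have Ha22' := dual_diag (-1) D2 D1 D3 X2 Y2 X1 Y1 X3 Y3 (-36) (-108) (-396) η hη (by linear_combination a0)
    (by linear_combination a1) (by linear_combination a2) (by linear_combination a3)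
    (by linear_combination a4) (by linear_combination a5)
  have Ha12' := dual_cross (-1) D1 D2 D3 X1 Y1 X2 Y2 X3 Y3 (-36) (-108) (-396) η hη a0 a1 a2 a3 a4 a5
  -- `c` : origin `e0` (weight 1), points u1 u4 u7
  have Hc11' := dual_diag 1 (-D1) (-D4) D7 X1 Y1 X4 Y4 X7 Y7 72 0 576 η hη c0 c1 c2 c3 c4 c5
  have Hc44' := dual_diag 1 (-D4) (-D1) D7 X4 Y4 X1 Y1 X7 Y7 72 0 576 η hη (by linear_combination c0)
    (by linear_combination c1) (by linear_combination c2) (by linear_combination c3)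
    (by linear_combination c4) (by linear_combination c5)
  have Hc14' := dual_cross 1 (-D1) (-D4) D7 X1 Y1 X4 Y4 X7 Y7 72 0 576 η hη c0 c1 c2 c3 c4 c5
  -- `b` : translate by u1: origin u1 (weight D1), points v4 v5 v6
  have tb1 : D4 * (X4 - X1) + D5 * (X5 - X1) + D6 * (X6 - X1) = 0 := by linear_combination b1 - X1 * b0
  have tb2 : D4 * (Y4 - Y1) + D5 * (Y5 - Y1) + D6 * (Y6 - Y1) = 0 := by linear_combination b2 - Y1 * b0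
  have tb3 : D4 * (X4 - X1) * (X4 - X1) + D5 * (X5 - X1) * (X5 - X1) + D6 * (X6 - X1) * (X6 - X1) = η * (-36) := by
    linear_combination b3 - 2 * X1 * b1 + X1 ^ 2 * b0
  have tb4 : D4 * (X4 - X1) * (Y4 - Y1) + D5 * (X5 - X1) * (Y5 - Y1) + D6 * (X6 - X1) * (Y6 - Y1) = η * 108 := by
    linear_combination b4 - X1 * b2 - Y1 * b1 + X1 * Y1 * b0
  have tb5 : D4 * (Y4 - Y1) * (Y4 - Y1) + D5 * (Y5 - Y1) * (Y5 - Y1) + D6 * (Y6 - Y1) * (Y6 - Y1) = η * (-396) := by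
    linear_combination b5 - 2 * Y1 * b2 + Y1 ^ 2 * b0
  have Hb44' := dual_diag D1 D4 D5 D6 (X4 - X1) (Y4 - Y1) (X5 - X1) (Y5 - Y1) (X6 - X1) (Y6 - Y1) (-36) 108 (-396) η hη b0 tb1 tb2 tb3 tb4 tb5
  have Hb55' := dual_diag D1 D5 D4 D6 (X5 - X1) (Y5 - Y1) (X4 - X1) (Y4 - Y1) (X6 - X1) (Y6 - Y1) (-36) 108 (-396) η hη (by linear_combination b0)
    (by linear_combination tb1) (by linear_combination tb2) (by linear_combination tb3)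
    (by linear_combination tb4) (by linear_combination tb5)
  have Hb45' := dual_cross D1 D4 D5 D6 (X4 - X1) (Y4 - Y1) (X5 - X1) (Y5 - Y1) (X6 - X1) (Y6 - Y1) (-36) 108 (-396) η hη b0 tb1 tb2 tb3 tb4 tb5
  -- `d` : translate by u1: origin u1 (weight -D1), points v2 v5 v8
  have td1 : -D2 * (X2 - X1) + -D5 * (X5 - X1) + D8 * (X8 - X1) = 0 := by linear_combination d1 - X1 * d0
  have td2 : -D2 * (Y2 - Y1) + -D5 * (Y5 - Y1) + D8 * (Y8 - Y1) = 0 := by linear_combination d2 - Y1 * d0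
  have td3 : -D2 * (X2 - X1) * (X2 - X1) + -D5 * (X5 - X1) * (X5 - X1) + D8 * (X8 - X1) * (X8 - X1) = η * 72 := by
    linear_combination d3 - 2 * X1 * d1 + X1 ^ 2 * d0
  have td4 : -D2 * (X2 - X1) * (Y2 - Y1) + -D5 * (X5 - X1) * (Y5 - Y1) + D8 * (X8 - X1) * (Y8 - Y1) = η * 0 := by
    linear_combination d4 - X1 * d2 - Y1 * d1 + X1 * Y1 * d0
  have td5 : -D2 * (Y2 - Y1) * (Y2 - Y1) + -D5 * (Y5 - Y1) * (Y5 - Y1) + D8 * (Y8 - Y1) * (Y8 - Y1) = η * 144 := by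
    linear_combination d5 - 2 * Y1 * d2 + Y1 ^ 2 * d0
  have Hd22' := dual_diag (-D1) (-D2) (-D5) D8 (X2 - X1) (Y2 - Y1) (X5 - X1) (Y5 - Y1) (X8 - X1) (Y8 - Y1) 72 0 144 η hη d0 td1 td2 td3 td4 td5
  have Hd55' := dual_diag (-D1) (-D5) (-D2) D8 (X5 - X1) (Y5 - Y1) (X2 - X1) (Y2 - Y1) (X8 - X1) (Y8 - Y1) 72 0 144 η hη (by linear_combination d0)
    (by linear_combination td1) (by linear_combination td2) (by linear_combination td3)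
    (by linear_combination td4) (by linear_combination td5)
  have Hd25' := dual_cross (-D1) (-D2) (-D5) D8 (X2 - X1) (Y2 - Y1) (X5 - X1) (Y5 - Y1) (X8 - X1) (Y8 - Y1) 72 0 144 η hη d0 td1 td2 td3 td4 td5
  -- the nine dual relations in the form needed by `core_generic`
  have Ha11 : D1 * ((-11 / 72) * X1 * X1 + (1 / 24) * (X1 * Y1 + Y1 * X1) + (-1 / 72) * Y1 * Y1) = η * (1 - D1) := by
    linear_combination (-1 / 2592) * Ha11'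
  have Ha12 : ((-11 / 72) * X1 * X1 + (1 / 24) * (X1 * Y1 + Y1 * X1) + (-1 / 72) * Y1 * Y1) + ((-11 / 72) * X1 * (X2 - X1) + (1 / 24) * (X1 * (Y2 - Y1) + Y1 * (X2 - X1)) + (-1 / 72) * Y1 * (Y2 - Y1)) = -η := by
    linear_combination (-1 / 2592) * Ha12'
  have Ha22 : D1 * D2 * ((-11 / 72) * (X2 - X1) * (X2 - X1) + (1 / 24) * ((X2 - X1) * (Y2 - Y1) + (Y2 - Y1) * (X2 - X1)) + (-1 / 72) * (Y2 - Y1) * (Y2 - Y1)) = η * (D1 + D2) := by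
    linear_combination ((-1 / 2592) * D1) * Ha22' + ((1 / 1296) * D1 * D2) * Ha12' + ((-1 / 2592) * D2) * Ha11'
  have Hc14 : ((1 / 72) * X1 * X1 + 0 * (X1 * Y1 + Y1 * X1) + (1 / 576) * Y1 * Y1) + ((1 / 72) * X1 * (X4 - X1) + 0 * (X1 * (Y4 - Y1) + Y1 * (X4 - X1)) + (1 / 576) * Y1 * (Y4 - Y1)) = η := by
    linear_combination (1 / 41472) * Hc14'
  have Hc44 : D1 * D4 * ((1 / 72) * (X4 - X1) * (X4 - X1) + 0 * ((X4 - X1) * (Y4 - Y1) + (Y4 - Y1) * (X4 - X1)) + (1 / 576) * (Y4 - Y1) * (Y4 - Y1)) = -(η * (D1 + D4)) := by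
    linear_combination ((-1 / 41472) * D1) * Hc44' + ((-1 / 20736) * D1 * D4) * Hc14' + ((-1 / 41472) * D4) * Hc11'
  have Hb45 : D1 * ((-11 / 72) * (X4 - X1) * (X5 - X1) + (-1 / 24) * ((X4 - X1) * (Y5 - Y1) + (Y4 - Y1) * (X5 - X1)) + (-1 / 72) * (Y4 - Y1) * (Y5 - Y1)) = η := by
    linear_combination (1 / 2592) * Hb45'
  have Hb55 : D1 * D5 * ((-11 / 72) * (X5 - X1) * (X5 - X1) + (-1 / 24) * ((X5 - X1) * (Y5 - Y1) + (Y5 - Y1) * (X5 - X1)) + (-1 / 72) * (Y5 - Y1) * (Y5 - Y1)) = η * (D1 + D5) := by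
    linear_combination (1 / 2592) * Hb55'
  have Hd25 : D1 * ((1 / 72) * (X2 - X1) * (X5 - X1) + 0 * ((X2 - X1) * (Y5 - Y1) + (Y2 - Y1) * (X5 - X1)) + (1 / 144) * (Y2 - Y1) * (Y5 - Y1)) = -η := by
    linear_combination (-1 / 10368) * Hd25'
  -- isotropy
  have iso1 : D1 * ((X1 - (1 / 4) * Y1) * (X1 - (7 / 20) * Y1)) = 0 := by
    linear_combination (-36 / 5) * Ha11 + (1 / 5760) * Hc11'
  have iso2 : D1 * D2 * (((X2 - X1) - (1 / 10) * (Y2 - Y1)) * ((X2 - X1) - (1 / 2) * (Y2 - Y1))) = 0 := by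
    linear_combination (-36 / 5) * Ha22 + (-1 / 1440) * Hd22'
  have iso4 : D1 * D4 * (((X4 - X1) - (-7 / 20) * (Y4 - Y1)) * ((X4 - X1) - (-1 / 4) * (Y4 - Y1))) = 0 := by
    linear_combination (-1 / 360) * Hb44' + (-36 / 5) * Hc44
  have iso5 : D1 * D5 * (((X5 - X1) - (-1 / 2) * (Y5 - Y1)) * ((X5 - X1) - (-1 / 10) * (Y5 - Y1))) = 0 := by
    linear_combination (-1 / 360) * Hb55' + (-1 / 1440) * Hd55'
  have i1 := (mul_eq_zero.mp iso1).resolve_left hD1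
  have i2 := (mul_eq_zero.mp iso2).resolve_left (mul_ne_zero hD1 hD2)
  have i4 := (mul_eq_zero.mp iso4).resolve_left (mul_ne_zero hD1 hD4)
  have i5 := (mul_eq_zero.mp iso5).resolve_left (mul_ne_zero hD1 hD5)
  clear iso1 iso2 iso4 iso5 Ha11' Ha22' Ha12' Hc11' Hc44' Hc14' Hb44' Hb55' Hb45' Hd22' Hd55' Hd25'
  clear tb1 tb2 tb3 tb4 tb5 td1 td2 td3 td4 td5 a0 a1 a2 a3 a4 a5 b0 b1 b2 b3 b4 b5 c0 c1 c2 c3 c4 c5 d0 d1 d2 d3 d4 d5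
  rcases mul_eq_zero.mp i1 with h1 | h1 <;> rcases mul_eq_zero.mp i2 with h2 | h2 <;>
    rcases mul_eq_zero.mp i4 with h4 | h4 <;> rcases mul_eq_zero.mp i5 with h5 | h5
  · -- branch (0, 0, 0, 0) : directions 1/4 1/10 -7/20 -1/2
    obtain ⟨hc, h12, h14, h45, h25⟩ := core_generic η D1 D2 D4 D5 X1 Y1 (X2 - X1) (Y2 - Y1) (X4 - X1) (Y4 - Y1) (X5 - X1) (Y5 - Y1)
      (-11 / 72) (1 / 24) (-1 / 72) (-11 / 72) (-1 / 24) (-1 / 72) (1 / 72) 0 (1 / 576) (1 / 72) 0 (1 / 144) (1 / 4) (1 / 10) (-7 / 20) (-1 / 2) hη hD1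
      (sub_eq_zero.mp h1) (sub_eq_zero.mp h2) (sub_eq_zero.mp h4) (sub_eq_zero.mp h5) (by norm_num [qv])
      Ha11 Ha12 Ha22 Hc14 Hc44 Hb45 Hb55 Hd25
    exfalso
    norm_num [qv] at hc
  · -- branch (0, 0, 0, 1) : directions 1/4 1/10 -7/20 -1/10
    obtain ⟨hc, h12, h14, h45, h25⟩ := core_generic η D1 D2 D4 D5 X1 Y1 (X2 - X1) (Y2 - Y1) (X4 - X1) (Y4 - Y1) (X5 - X1) (Y5 - Y1)
      (-11 / 72) (1 / 24) (-1 / 72) (-11 / 72) (-1 / 24) (-1 / 72) (1 / 72) 0 (1 / 576) (1 / 72) 0 (1 / 144) (1 / 4) (1 / 10) (-7 / 20) (-1 / 10) hη hD1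
      (sub_eq_zero.mp h1) (sub_eq_zero.mp h2) (sub_eq_zero.mp h4) (sub_eq_zero.mp h5) (by norm_num [qv])
      Ha11 Ha12 Ha22 Hc14 Hc44 Hb45 Hb55 Hd25
    exfalso
    norm_num [qv] at hc
  · -- branch (0, 0, 1, 0) : directions 1/4 1/10 -1/4 -1/2  (compatible)
    obtain ⟨hc, h12, h14, h45, h25⟩ := core_generic η D1 D2 D4 D5 X1 Y1 (X2 - X1) (Y2 - Y1) (X4 - X1) (Y4 - Y1) (X5 - X1) (Y5 - Y1)
      (-11 / 72) (1 / 24) (-1 / 72) (-11 / 72) (-1 / 24) (-1 / 72) (1 / 72) 0 (1 / 576) (1 / 72) 0 (1 / 144) (1 / 4) (1 / 10) (-1 / 4) (-1 / 2) hη hD1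
      (sub_eq_zero.mp h1) (sub_eq_zero.mp h2) (sub_eq_zero.mp h4) (sub_eq_zero.mp h5) (by norm_num [qv])
      Ha11 Ha12 Ha22 Hc14 Hc44 Hb45 Hb55 Hd25
    -- pair constants k12 = 17/9, k14 = 9, k45 = 9, k25 = 17/9
    simp only [qv] at h12 h14 h45 h25
    right; left
    linear_combination 921600 * h12
  · -- branch (0, 0, 1, 1) : directions 1/4 1/10 -1/4 -1/10
    obtain ⟨hc, h12, h14, h45, h25⟩ := core_generic η D1 D2 D4 D5 X1 Y1 (X2 - X1) (Y2 - Y1) (X4 - X1) (Y4 - Y1) (X5 - X1) (Y5 - Y1)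
      (-11 / 72) (1 / 24) (-1 / 72) (-11 / 72) (-1 / 24) (-1 / 72) (1 / 72) 0 (1 / 576) (1 / 72) 0 (1 / 144) (1 / 4) (1 / 10) (-1 / 4) (-1 / 10) hη hD1
      (sub_eq_zero.mp h1) (sub_eq_zero.mp h2) (sub_eq_zero.mp h4) (sub_eq_zero.mp h5) (by norm_num [qv])
      Ha11 Ha12 Ha22 Hc14 Hc44 Hb45 Hb55 Hd25
    exfalso
    norm_num [qv] at hc
  · -- branch (0, 1, 0, 0) : directions 1/4 1/2 -7/20 -1/2
    obtain ⟨hc, h12, h14, h45, h25⟩ := core_generic η D1 D2 D4 D5 X1 Y1 (X2 - X1) (Y2 - Y1) (X4 - X1) (Y4 - Y1) (X5 - X1) (Y5 - Y1)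
      (-11 / 72) (1 / 24) (-1 / 72) (-11 / 72) (-1 / 24) (-1 / 72) (1 / 72) 0 (1 / 576) (1 / 72) 0 (1 / 144) (1 / 4) (1 / 2) (-7 / 20) (-1 / 2) hη hD1
      (sub_eq_zero.mp h1) (sub_eq_zero.mp h2) (sub_eq_zero.mp h4) (sub_eq_zero.mp h5) (by norm_num [qv])
      Ha11 Ha12 Ha22 Hc14 Hc44 Hb45 Hb55 Hd25
    exfalso
    norm_num [qv] at hc
  · -- branch (0, 1, 0, 1) : directions 1/4 1/2 -7/20 -1/10
    obtain ⟨hc, h12, h14, h45, h25⟩ := core_generic η D1 D2 D4 D5 X1 Y1 (X2 - X1) (Y2 - Y1) (X4 - X1) (Y4 - Y1) (X5 - X1) (Y5 - Y1)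
      (-11 / 72) (1 / 24) (-1 / 72) (-11 / 72) (-1 / 24) (-1 / 72) (1 / 72) 0 (1 / 576) (1 / 72) 0 (1 / 144) (1 / 4) (1 / 2) (-7 / 20) (-1 / 10) hη hD1
      (sub_eq_zero.mp h1) (sub_eq_zero.mp h2) (sub_eq_zero.mp h4) (sub_eq_zero.mp h5) (by norm_num [qv])
      Ha11 Ha12 Ha22 Hc14 Hc44 Hb45 Hb55 Hd25
    exfalso
    norm_num [qv] at hc
  · -- branch (0, 1, 1, 0) : directions 1/4 1/2 -1/4 -1/2  (compatible)
    obtain ⟨hc, h12, h14, h45, h25⟩ := core_generic η D1 D2 D4 D5 X1 Y1 (X2 - X1) (Y2 - Y1) (X4 - X1) (Y4 - Y1) (X5 - X1) (Y5 - Y1)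
      (-11 / 72) (1 / 24) (-1 / 72) (-11 / 72) (-1 / 24) (-1 / 72) (1 / 72) 0 (1 / 576) (1 / 72) 0 (1 / 144) (1 / 4) (1 / 2) (-1 / 4) (-1 / 2) hη hD1
      (sub_eq_zero.mp h1) (sub_eq_zero.mp h2) (sub_eq_zero.mp h4) (sub_eq_zero.mp h5) (by norm_num [qv])
      Ha11 Ha12 Ha22 Hc14 Hc44 Hb45 Hb55 Hd25
    -- pair constants k12 = 9, k14 = 9, k45 = 9, k25 = 9
    simp only [qv] at h12 h14 h45 h25
    have e14 : (1 - D1) * (D1 + D4) = 9 * D4 := by linear_combination 1327104 * h14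
    have e45 : (D1 + D4) * (D1 + D5) = 9 * (D4 * D5) := by linear_combination 331776 * h45
    have hne : D1 + D4 ≠ 0 := by
      intro h0
      rw [h0, mul_zero] at e14
      exact hD4 (by linear_combination (-1 / 9 : ℂ) * e14)
    have hz : D1 * (D1 + D4) * (1 + D5) = 0 := by linear_combination e45 - D5 * e14
    left
    have := (mul_eq_zero.mp hz).resolve_left (mul_ne_zero hD1 hne)
    linear_combination this
  · -- branch (0, 1, 1, 1) : directions 1/4 1/2 -1/4 -1/10  (compatible)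
    obtain ⟨hc, h12, h14, h45, h25⟩ := core_generic η D1 D2 D4 D5 X1 Y1 (X2 - X1) (Y2 - Y1) (X4 - X1) (Y4 - Y1) (X5 - X1) (Y5 - Y1)
      (-11 / 72) (1 / 24) (-1 / 72) (-11 / 72) (-1 / 24) (-1 / 72) (1 / 72) 0 (1 / 576) (1 / 72) 0 (1 / 144) (1 / 4) (1 / 2) (-1 / 4) (-1 / 10) hη hD1
      (sub_eq_zero.mp h1) (sub_eq_zero.mp h2) (sub_eq_zero.mp h4) (sub_eq_zero.mp h5) (by norm_num [qv])
      Ha11 Ha12 Ha22 Hc14 Hc44 Hb45 Hb55 Hd25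
    -- pair constants k12 = 9, k14 = 9, k45 = 17/9, k25 = 17/9
    simp only [qv] at h12 h14 h45 h25
    right; right; right; left
    linear_combination 921600 * h45
  · -- branch (1, 0, 0, 0) : directions 7/20 1/10 -7/20 -1/2
    obtain ⟨hc, h12, h14, h45, h25⟩ := core_generic η D1 D2 D4 D5 X1 Y1 (X2 - X1) (Y2 - Y1) (X4 - X1) (Y4 - Y1) (X5 - X1) (Y5 - Y1)
      (-11 / 72) (1 / 24) (-1 / 72) (-11 / 72) (-1 / 24) (-1 / 72) (1 / 72) 0 (1 / 576) (1 / 72) 0 (1 / 144) (7 / 20) (1 / 10) (-7 / 20) (-1 / 2) hη hD1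
      (sub_eq_zero.mp h1) (sub_eq_zero.mp h2) (sub_eq_zero.mp h4) (sub_eq_zero.mp h5) (by norm_num [qv])
      Ha11 Ha12 Ha22 Hc14 Hc44 Hb45 Hb55 Hd25
    exfalso
    norm_num [qv] at hc
  · -- branch (1, 0, 0, 1) : directions 7/20 1/10 -7/20 -1/10  (compatible)
    obtain ⟨hc, h12, h14, h45, h25⟩ := core_generic η D1 D2 D4 D5 X1 Y1 (X2 - X1) (Y2 - Y1) (X4 - X1) (Y4 - Y1) (X5 - X1) (Y5 - Y1)
      (-11 / 72) (1 / 24) (-1 / 72) (-11 / 72) (-1 / 24) (-1 / 72) (1 / 72) 0 (1 / 576) (1 / 72) 0 (1 / 144) (7 / 20) (1 / 10) (-7 / 20) (-1 / 10) hη hD1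
      (sub_eq_zero.mp h1) (sub_eq_zero.mp h2) (sub_eq_zero.mp h4) (sub_eq_zero.mp h5) (by norm_num [qv])
      Ha11 Ha12 Ha22 Hc14 Hc44 Hb45 Hb55 Hd25
    -- pair constants k12 = 5049/49, k14 = 9801, k45 = 5049/49, k25 = 2601/2401
    simp only [qv] at h12 h14 h45 h25
    right; right; right; right; right
    linear_combination 829440000 * h14
  · -- branch (1, 0, 1, 0) : directions 7/20 1/10 -1/4 -1/2
    obtain ⟨hc, h12, h14, h45, h25⟩ := core_generic η D1 D2 D4 D5 X1 Y1 (X2 - X1) (Y2 - Y1) (X4 - X1) (Y4 - Y1) (X5 - X1) (Y5 - Y1)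
      (-11 / 72) (1 / 24) (-1 / 72) (-11 / 72) (-1 / 24) (-1 / 72) (1 / 72) 0 (1 / 576) (1 / 72) 0 (1 / 144) (7 / 20) (1 / 10) (-1 / 4) (-1 / 2) hη hD1
      (sub_eq_zero.mp h1) (sub_eq_zero.mp h2) (sub_eq_zero.mp h4) (sub_eq_zero.mp h5) (by norm_num [qv])
      Ha11 Ha12 Ha22 Hc14 Hc44 Hb45 Hb55 Hd25
    exfalso
    norm_num [qv] at hc
  · -- branch (1, 0, 1, 1) : directions 7/20 1/10 -1/4 -1/10
    obtain ⟨hc, h12, h14, h45, h25⟩ := core_generic η D1 D2 D4 D5 X1 Y1 (X2 - X1) (Y2 - Y1) (X4 - X1) (Y4 - Y1) (X5 - X1) (Y5 - Y1)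
      (-11 / 72) (1 / 24) (-1 / 72) (-11 / 72) (-1 / 24) (-1 / 72) (1 / 72) 0 (1 / 576) (1 / 72) 0 (1 / 144) (7 / 20) (1 / 10) (-1 / 4) (-1 / 10) hη hD1
      (sub_eq_zero.mp h1) (sub_eq_zero.mp h2) (sub_eq_zero.mp h4) (sub_eq_zero.mp h5) (by norm_num [qv])
      Ha11 Ha12 Ha22 Hc14 Hc44 Hb45 Hb55 Hd25
    exfalso
    norm_num [qv] at hc
  · -- branch (1, 1, 0, 0) : directions 7/20 1/2 -7/20 -1/2
    obtain ⟨hc, h12, h14, h45, h25⟩ := core_generic η D1 D2 D4 D5 X1 Y1 (X2 - X1) (Y2 - Y1) (X4 - X1) (Y4 - Y1) (X5 - X1) (Y5 - Y1)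
      (-11 / 72) (1 / 24) (-1 / 72) (-11 / 72) (-1 / 24) (-1 / 72) (1 / 72) 0 (1 / 576) (1 / 72) 0 (1 / 144) (7 / 20) (1 / 2) (-7 / 20) (-1 / 2) hη hD1
      (sub_eq_zero.mp h1) (sub_eq_zero.mp h2) (sub_eq_zero.mp h4) (sub_eq_zero.mp h5) (by norm_num [qv])
      Ha11 Ha12 Ha22 Hc14 Hc44 Hb45 Hb55 Hd25
    exfalso
    norm_num [qv] at hc
  · -- branch (1, 1, 0, 1) : directions 7/20 1/2 -7/20 -1/10
    obtain ⟨hc, h12, h14, h45, h25⟩ := core_generic η D1 D2 D4 D5 X1 Y1 (X2 - X1) (Y2 - Y1) (X4 - X1) (Y4 - Y1) (X5 - X1) (Y5 - Y1)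
      (-11 / 72) (1 / 24) (-1 / 72) (-11 / 72) (-1 / 24) (-1 / 72) (1 / 72) 0 (1 / 576) (1 / 72) 0 (1 / 144) (7 / 20) (1 / 2) (-7 / 20) (-1 / 10) hη hD1
      (sub_eq_zero.mp h1) (sub_eq_zero.mp h2) (sub_eq_zero.mp h4) (sub_eq_zero.mp h5) (by norm_num [qv])
      Ha11 Ha12 Ha22 Hc14 Hc44 Hb45 Hb55 Hd25
    exfalso
    norm_num [qv] at hc
  · -- branch (1, 1, 1, 0) : directions 7/20 1/2 -1/4 -1/2
    obtain ⟨hc, h12, h14, h45, h25⟩ := core_generic η D1 D2 D4 D5 X1 Y1 (X2 - X1) (Y2 - Y1) (X4 - X1) (Y4 - Y1) (X5 - X1) (Y5 - Y1)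
      (-11 / 72) (1 / 24) (-1 / 72) (-11 / 72) (-1 / 24) (-1 / 72) (1 / 72) 0 (1 / 576) (1 / 72) 0 (1 / 144) (7 / 20) (1 / 2) (-1 / 4) (-1 / 2) hη hD1
      (sub_eq_zero.mp h1) (sub_eq_zero.mp h2) (sub_eq_zero.mp h4) (sub_eq_zero.mp h5) (by norm_num [qv])
      Ha11 Ha12 Ha22 Hc14 Hc44 Hb45 Hb55 Hd25
    exfalso
    norm_num [qv] at hc
  · -- branch (1, 1, 1, 1) : directions 7/20 1/2 -1/4 -1/10
    obtain ⟨hc, h12, h14, h45, h25⟩ := core_generic η D1 D2 D4 D5 X1 Y1 (X2 - X1) (Y2 - Y1) (X4 - X1) (Y4 - Y1) (X5 - X1) (Y5 - Y1)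
      (-11 / 72) (1 / 24) (-1 / 72) (-11 / 72) (-1 / 24) (-1 / 72) (1 / 72) 0 (1 / 576) (1 / 72) 0 (1 / 144) (7 / 20) (1 / 2) (-1 / 4) (-1 / 10) hη hD1
      (sub_eq_zero.mp h1) (sub_eq_zero.mp h2) (sub_eq_zero.mp h4) (sub_eq_zero.mp h5) (by norm_num [qv])
      Ha11 Ha12 Ha22 Hc14 Hc44 Hb45 Hb55 Hd25
    exfalso
    norm_num [qv] at hc

end Cfsg.Agent.Helper6.H72
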