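import Cfsg.Agent.H72.H9_RankApp
import Cfsg.Agent.Helper6.H72F1
import Cfsg.Agent.Helper6.H72Ft

/-!
# The coherent case of the `3² : D₈` situation, on `ClassData`

From the four `ClassData` (for `a b c d`) and the coherent decomposition of the four coefficient
vectors we derive the 24 moment equations and apply `core_F1` / `core_Ft`.
-/

set_option autoImplicit false

namespace Cfsg.Agent.Helper6.H72

variable {ι : Type*} [Fintype ι] [DecidableEq ι]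

/-- a sum against an integer vector supported on four points -/
theorem sum_four (v : ι → ℤ) (x0 x1 x2 x3 : ι) (g0 g1 g2 g3 : ℤ)
    (hv : ∀ x, v x = g0 * (if x = x0 then 1 else 0) + g1 * (if x = x1 then 1 else 0) +
      g2 * (if x = x2 then 1 else 0) + g3 * (if x = x3 then 1 else 0)) (F : ι → ℂ) :
    ∑ x, (v x : ℂ) * F x =
      (g0 : ℂ) * F x0 + (g1 : ℂ) * F x1 + (g2 : ℂ) * F x2 + (g3 : ℂ) * F x3 := by
  have h1 : ∀ x, (v x : ℂ) * F x = (if x = x0 then (g0 : ℂ) * F x else 0) +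
      (if x = x1 then (g1 : ℂ) * F x else 0) + (if x = x2 then (g2 : ℂ) * F x else 0) +
      (if x = x3 then (g3 : ℂ) * F x else 0) := by
    intro x
    rw [hv x]
    push_cast
    split_ifs <;> ring
  simp_rw [h1]
  rw [Finset.sum_add_distrib, Finset.sum_add_distrib, Finset.sum_add_distrib,
    Finset.sum_ite_eq', Finset.sum_ite_eq', Finset.sum_ite_eq', Finset.sum_ite_eq']
  simp

/-- the shifted, scaled class value `ν χ(u)/χ(1) - ν` -/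
noncomputable def shiftP (nu : ℂ) (a deg : ι → ℂ) (x : ι) : ℂ := nu * (a x / deg x) - nu

omit [Fintype ι] [DecidableEq ι] in
theorem shiftP_triv (nu : ℂ) (a deg : ι → ℂ) (x : ι) (hd : deg x = 1) (ha : a x = 1) :
    shiftP nu a deg x = 0 := by
  unfold shiftP
  rw [hd, ha]
  ring

/-- the six moment equations of a vector supported on four points -/
theorem ClassData.moments4 {c : ι → ℤ} {deg a b : ι → ℂ} {K nu nv : ℂ} {suu suv svv : ℤ}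
    (h : ClassData c deg a b K nu nv suu suv svv) (hdeg : ∀ x, deg x ≠ 0)
    (x0 x1 x2 x3 : ι) (g0 g1 g2 g3 : ℤ)
    (hc : ∀ x, c x = g0 * (if x = x0 then 1 else 0) + g1 * (if x = x1 then 1 else 0) +
      g2 * (if x = x2 then 1 else 0) + g3 * (if x = x3 then 1 else 0)) :
    ((g0 : ℂ) * deg x0 + (g1 : ℂ) * deg x1 + (g2 : ℂ) * deg x2 + (g3 : ℂ) * deg x3 = 0) ∧
    ((g0 : ℂ) * deg x0 * shiftP nu a deg x0 + (g1 : ℂ) * deg x1 * shiftP nu a deg x1 +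
      (g2 : ℂ) * deg x2 * shiftP nu a deg x2 + (g3 : ℂ) * deg x3 * shiftP nu a deg x3 = 0) ∧
    ((g0 : ℂ) * deg x0 * shiftP nv b deg x0 + (g1 : ℂ) * deg x1 * shiftP nv b deg x1 +
      (g2 : ℂ) * deg x2 * shiftP nv b deg x2 + (g3 : ℂ) * deg x3 * shiftP nv b deg x3 = 0) ∧
    ((g0 : ℂ) * deg x0 * shiftP nu a deg x0 * shiftP nu a deg x0 +
      (g1 : ℂ) * deg x1 * shiftP nu a deg x1 * shiftP nu a deg x1 +
      (g2 : ℂ) * deg x2 * shiftP nu a deg x2 * shiftP nu a deg x2 +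
      (g3 : ℂ) * deg x3 * shiftP nu a deg x3 * shiftP nu a deg x3 = K * (suu : ℂ)) ∧
    ((g0 : ℂ) * deg x0 * shiftP nu a deg x0 * shiftP nv b deg x0 +
      (g1 : ℂ) * deg x1 * shiftP nu a deg x1 * shiftP nv b deg x1 +
      (g2 : ℂ) * deg x2 * shiftP nu a deg x2 * shiftP nv b deg x2 +
      (g3 : ℂ) * deg x3 * shiftP nu a deg x3 * shiftP nv b deg x3 = K * (suv : ℂ)) ∧
    ((g0 : ℂ) * deg x0 * shiftP nv b deg x0 * shiftP nv b deg x0 +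
      (g1 : ℂ) * deg x1 * shiftP nv b deg x1 * shiftP nv b deg x1 +
      (g2 : ℂ) * deg x2 * shiftP nv b deg x2 * shiftP nv b deg x2 +
      (g3 : ℂ) * deg x3 * shiftP nv b deg x3 * shiftP nv b deg x3 = K * (svv : ℂ)) := by
  have e0 := h.h0
  have ea := h.ha
  have eb := h.hb
  have euu := h.huu
  have euv := h.huv
  have evv := h.hvv
  rw [sum_four c x0 x1 x2 x3 g0 g1 g2 g3 hc] at e0 ea eb euu euv evv
  have ra : ∀ x, a x = deg x * (a x / deg x) := fun x => (mul_div_cancel₀ _ (hdeg x)).symm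
  have rb : ∀ x, b x = deg x * (b x / deg x) := fun x => (mul_div_cancel₀ _ (hdeg x)).symm
  have qaa : ∀ x, a x * a x / deg x = deg x * (a x / deg x) * (a x / deg x) := by
    intro x
    have := hdeg x
    field_simp
  have qab : ∀ x, a x * b x / deg x = deg x * (a x / deg x) * (b x / deg x) := by
    intro x
    have := hdeg x
    field_simp
  have qbb : ∀ x, b x * b x / deg x = deg x * (b x / deg x) * (b x / deg x) := by
    intro x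
    have := hdeg x
    field_simp
  rw [qaa x0, qaa x1, qaa x2, qaa x3] at euu
  rw [qab x0, qab x1, qab x2, qab x3] at euv
  rw [qbb x0, qbb x1, qbb x2, qbb x3] at evv
  have ra0 := ra x0
  have ra1 := ra x1
  have ra2 := ra x2
  have ra3 := ra x3
  have rb0 := rb x0
  have rb1 := rb x1
  have rb2 := rb x2
  have rb3 := rb x3
  unfold shiftP
  set A0 := a x0 / deg x0
  set A1 := a x1 / deg x1
  set A2 := a x2 / deg x2
  set A3 := a x3 / deg x3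
  set B0 := b x0 / deg x0
  set B1 := b x1 / deg x1
  set B2 := b x2 / deg x2
  set B3 := b x3 / deg x3
  refine ⟨e0, ?_, ?_, ?_, ?_, ?_⟩
  · linear_combination nu * ea - nu * e0 - nu * (g0 : ℂ) * ra0 - nu * (g1 : ℂ) * ra1 -
      nu * (g2 : ℂ) * ra2 - nu * (g3 : ℂ) * ra3
  · linear_combination nv * eb - nv * e0 - nv * (g0 : ℂ) * rb0 - nv * (g1 : ℂ) * rb1 -
      nv * (g2 : ℂ) * rb2 - nv * (g3 : ℂ) * rb3
  · linear_combination euu - 2 * nu * nu * ea + nu * nu * e0 +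
      2 * nu * nu * ((g0 : ℂ) * ra0 + (g1 : ℂ) * ra1 + (g2 : ℂ) * ra2 + (g3 : ℂ) * ra3)
  · linear_combination euv - nu * nv * ea - nu * nv * eb + nu * nv * e0 +
      nu * nv * ((g0 : ℂ) * ra0 + (g1 : ℂ) * ra1 + (g2 : ℂ) * ra2 + (g3 : ℂ) * ra3) +
      nu * nv * ((g0 : ℂ) * rb0 + (g1 : ℂ) * rb1 + (g2 : ℂ) * rb2 + (g3 : ℂ) * rb3)
  · linear_combination evv - 2 * nv * nv * eb + nv * nv * e0 +
      2 * nv * nv * ((g0 : ℂ) * rb0 + (g1 : ℂ) * rb1 + (g2 : ℂ) * rb2 + (g3 : ℂ) * rb3)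

/-- the 24 moment equations of the coherent decomposition, in the shape used by `core_F1` and
`core_Ft` -/
theorem coherent_moments {cA cB cC cD : ι → ℤ} {deg a b : ι → ℂ} {K nu nv : ℂ}
    {pA qA rA pB qB rB pC qC rC pD qD rD : ℤ}
    (hA : ClassData cA deg a b K nu nv pA qA rA) (hB : ClassData cB deg a b K nu nv pB qB rB)
    (hC : ClassData cC deg a b K nu nv pC qC rC) (hD : ClassData cD deg a b K nu nv pD qD rD)
    (hdeg : ∀ x, deg x ≠ 0) (e0 e1 e2 e3 e4 e5 e6 e7 e8 : ι) (s1 s2 s3 s4 s5 s6 s7 s8 : ℤ)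
    (h0d : deg e0 = 1) (h0a : a e0 = 1) (h0b : b e0 = 1)
    (hcA : ∀ x, cA x = (-1) * (if x = e0 then 1 else 0) + s1 * (if x = e1 then 1 else 0) + s2 * (if x = e2 then 1 else 0) + s3 * (if x = e3 then 1 else 0))
    (hcB : ∀ x, cB x = s1 * (if x = e1 then 1 else 0) + s4 * (if x = e4 then 1 else 0) + s5 * (if x = e5 then 1 else 0) + s6 * (if x = e6 then 1 else 0))
    (hcC : ∀ x, cC x = 1 * (if x = e0 then 1 else 0) + (-s1) * (if x = e1 then 1 else 0) + (-s4) * (if x = e4 then 1 else 0) + s7 * (if x = e7 then 1 else 0))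
    (hcD : ∀ x, cD x = (-s1) * (if x = e1 then 1 else 0) + (-s2) * (if x = e2 then 1 else 0) + (-s5) * (if x = e5 then 1 else 0) + s8 * (if x = e8 then 1 else 0)) :
    (-1 + ((s1 : ℂ) * deg e1) + ((s2 : ℂ) * deg e2) + ((s3 : ℂ) * deg e3) = 0) ∧
    (((s1 : ℂ) * deg e1) * shiftP nu a deg e1 + ((s2 : ℂ) * deg e2) * shiftP nu a deg e2 + ((s3 : ℂ) * deg e3) * shiftP nu a deg e3 = 0) ∧
    (((s1 : ℂ) * deg e1) * shiftP nv b deg e1 + ((s2 : ℂ) * deg e2) * shiftP nv b deg e2 + ((s3 : ℂ) * deg e3) * shiftP nv b deg e3 = 0) ∧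
    (((s1 : ℂ) * deg e1) * shiftP nu a deg e1 * shiftP nu a deg e1 + ((s2 : ℂ) * deg e2) * shiftP nu a deg e2 * shiftP nu a deg e2 + ((s3 : ℂ) * deg e3) * shiftP nu a deg e3 * shiftP nu a deg e3 = K * (pA : ℂ)) ∧
    (((s1 : ℂ) * deg e1) * shiftP nu a deg e1 * shiftP nv b deg e1 + ((s2 : ℂ) * deg e2) * shiftP nu a deg e2 * shiftP nv b deg e2 + ((s3 : ℂ) * deg e3) * shiftP nu a deg e3 * shiftP nv b deg e3 = K * (qA : ℂ)) ∧
    (((s1 : ℂ) * deg e1) * shiftP nv b deg e1 * shiftP nv b deg e1 + ((s2 : ℂ) * deg e2) * shiftP nv b deg e2 * shiftP nv b deg e2 + ((s3 : ℂ) * deg e3) * shiftP nv b deg e3 * shiftP nv b deg e3 = K * (rA : ℂ)) ∧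
    (((s1 : ℂ) * deg e1) + ((s4 : ℂ) * deg e4) + ((s5 : ℂ) * deg e5) + ((s6 : ℂ) * deg e6) = 0) ∧
    (((s1 : ℂ) * deg e1) * shiftP nu a deg e1 + ((s4 : ℂ) * deg e4) * shiftP nu a deg e4 + ((s5 : ℂ) * deg e5) * shiftP nu a deg e5 + ((s6 : ℂ) * deg e6) * shiftP nu a deg e6 = 0) ∧
    (((s1 : ℂ) * deg e1) * shiftP nv b deg e1 + ((s4 : ℂ) * deg e4) * shiftP nv b deg e4 + ((s5 : ℂ) * deg e5) * shiftP nv b deg e5 + ((s6 : ℂ) * deg e6) * shiftP nv b deg e6 = 0) ∧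
    (((s1 : ℂ) * deg e1) * shiftP nu a deg e1 * shiftP nu a deg e1 + ((s4 : ℂ) * deg e4) * shiftP nu a deg e4 * shiftP nu a deg e4 + ((s5 : ℂ) * deg e5) * shiftP nu a deg e5 * shiftP nu a deg e5 + ((s6 : ℂ) * deg e6) * shiftP nu a deg e6 * shiftP nu a deg e6 = K * (pB : ℂ)) ∧
    (((s1 : ℂ) * deg e1) * shiftP nu a deg e1 * shiftP nv b deg e1 + ((s4 : ℂ) * deg e4) * shiftP nu a deg e4 * shiftP nv b deg e4 + ((s5 : ℂ) * deg e5) * shiftP nu a deg e5 * shiftP nv b deg e5 + ((s6 : ℂ) * deg e6) * shiftP nu a deg e6 * shiftP nv b deg e6 = K * (qB : ℂ)) ∧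
    (((s1 : ℂ) * deg e1) * shiftP nv b deg e1 * shiftP nv b deg e1 + ((s4 : ℂ) * deg e4) * shiftP nv b deg e4 * shiftP nv b deg e4 + ((s5 : ℂ) * deg e5) * shiftP nv b deg e5 * shiftP nv b deg e5 + ((s6 : ℂ) * deg e6) * shiftP nv b deg e6 * shiftP nv b deg e6 = K * (rB : ℂ)) ∧
    (1 + -((s1 : ℂ) * deg e1) + -((s4 : ℂ) * deg e4) + ((s7 : ℂ) * deg e7) = 0) ∧
    (-((s1 : ℂ) * deg e1) * shiftP nu a deg e1 + -((s4 : ℂ) * deg e4) * shiftP nu a deg e4 + ((s7 : ℂ) * deg e7) * shiftP nu a deg e7 = 0) ∧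
    (-((s1 : ℂ) * deg e1) * shiftP nv b deg e1 + -((s4 : ℂ) * deg e4) * shiftP nv b deg e4 + ((s7 : ℂ) * deg e7) * shiftP nv b deg e7 = 0) ∧
    (-((s1 : ℂ) * deg e1) * shiftP nu a deg e1 * shiftP nu a deg e1 + -((s4 : ℂ) * deg e4) * shiftP nu a deg e4 * shiftP nu a deg e4 + ((s7 : ℂ) * deg e7) * shiftP nu a deg e7 * shiftP nu a deg e7 = K * (pC : ℂ)) ∧
    (-((s1 : ℂ) * deg e1) * shiftP nu a deg e1 * shiftP nv b deg e1 + -((s4 : ℂ) * deg e4) * shiftP nu a deg e4 * shiftP nv b deg e4 + ((s7 : ℂ) * deg e7) * shiftP nu a deg e7 * shiftP nv b deg e7 = K * (qC : ℂ)) ∧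
    (-((s1 : ℂ) * deg e1) * shiftP nv b deg e1 * shiftP nv b deg e1 + -((s4 : ℂ) * deg e4) * shiftP nv b deg e4 * shiftP nv b deg e4 + ((s7 : ℂ) * deg e7) * shiftP nv b deg e7 * shiftP nv b deg e7 = K * (rC : ℂ)) ∧
    (-((s1 : ℂ) * deg e1) + -((s2 : ℂ) * deg e2) + -((s5 : ℂ) * deg e5) + ((s8 : ℂ) * deg e8) = 0) ∧
    (-((s1 : ℂ) * deg e1) * shiftP nu a deg e1 + -((s2 : ℂ) * deg e2) * shiftP nu a deg e2 + -((s5 : ℂ) * deg e5) * shiftP nu a deg e5 + ((s8 : ℂ) * deg e8) * shiftP nu a deg e8 = 0) ∧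
    (-((s1 : ℂ) * deg e1) * shiftP nv b deg e1 + -((s2 : ℂ) * deg e2) * shiftP nv b deg e2 + -((s5 : ℂ) * deg e5) * shiftP nv b deg e5 + ((s8 : ℂ) * deg e8) * shiftP nv b deg e8 = 0) ∧
    (-((s1 : ℂ) * deg e1) * shiftP nu a deg e1 * shiftP nu a deg e1 + -((s2 : ℂ) * deg e2) * shiftP nu a deg e2 * shiftP nu a deg e2 + -((s5 : ℂ) * deg e5) * shiftP nu a deg e5 * shiftP nu a deg e5 + ((s8 : ℂ) * deg e8) * shiftP nu a deg e8 * shiftP nu a deg e8 = K * (pD : ℂ)) ∧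
    (-((s1 : ℂ) * deg e1) * shiftP nu a deg e1 * shiftP nv b deg e1 + -((s2 : ℂ) * deg e2) * shiftP nu a deg e2 * shiftP nv b deg e2 + -((s5 : ℂ) * deg e5) * shiftP nu a deg e5 * shiftP nv b deg e5 + ((s8 : ℂ) * deg e8) * shiftP nu a deg e8 * shiftP nv b deg e8 = K * (qD : ℂ)) ∧
    (-((s1 : ℂ) * deg e1) * shiftP nv b deg e1 * shiftP nv b deg e1 + -((s2 : ℂ) * deg e2) * shiftP nv b deg e2 * shiftP nv b deg e2 + -((s5 : ℂ) * deg e5) * shiftP nv b deg e5 * shiftP nv b deg e5 + ((s8 : ℂ) * deg e8) * shiftP nv b deg e8 * shiftP nv b deg e8 = K * (rD : ℂ)) := by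
  have hP0 : shiftP nu a deg e0 = 0 := shiftP_triv nu a deg e0 h0d h0a
  have hQ0 : shiftP nv b deg e0 = 0 := shiftP_triv nv b deg e0 h0d h0b
  obtain ⟨a0, a1, a2, a3, a4, a5⟩ := hA.moments4 hdeg e0 e1 e2 e3 (-1) s1 s2 s3 hcA
  obtain ⟨b0, b1, b2, b3, b4, b5⟩ := hB.moments4 hdeg e1 e4 e5 e6 s1 s4 s5 s6 hcB
  obtain ⟨c0, c1, c2, c3, c4, c5⟩ := hC.moments4 hdeg e0 e1 e4 e7 1 (-s1) (-s4) s7 hcC
  obtain ⟨d0, d1, d2, d3, d4, d5⟩ := hD.moments4 hdeg e1 e2 e5 e8 (-s1) (-s2) (-s5) s8 hcD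
  simp only [hP0, hQ0, h0d] at a0 a1 a2 a3 a4 a5 c0 c1 c2 c3 c4 c5
  push_cast at a0 a1 a2 a3 a4 a5 b0 b1 b2 b3 b4 b5 c0 c1 c2 c3 c4 c5 d0 d1 d2 d3 d4 d5
  refine ⟨?_, ?_, ?_, ?_, ?_, ?_, ?_, ?_, ?_, ?_, ?_, ?_, ?_, ?_, ?_, ?_, ?_, ?_, ?_, ?_, ?_, ?_, ?_, ?_⟩
  · linear_combination a0
  · linear_combination a1
  · linear_combination a2
  · linear_combination a3
  · linear_combination a4
  · linear_combination a5
  · linear_combination b0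
  · linear_combination b1
  · linear_combination b2
  · linear_combination b3
  · linear_combination b4
  · linear_combination b5
  · linear_combination c0
  · linear_combination c1
  · linear_combination c2
  · linear_combination c3
  · linear_combination c4
  · linear_combination c5
  · linear_combination d0
  · linear_combination d1
  · linear_combination d2
  · linear_combination d3
  · linear_combination d4
  · linear_combination d5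

/-- the coherent case in the fusion pattern `F1` -/
theorem coherent_F1 {cA cB cC cD : ι → ℤ} {deg a b : ι → ℂ} {K nu nv : ℂ}
    (hA : ClassData cA deg a b K nu nv (-576) 0 (-72)) (hB : ClassData cB deg a b K nu nv (-144) 0 (-72))
    (hC : ClassData cC deg a b K nu nv 396 108 36) (hD : ClassData cD deg a b K nu nv 396 (-108) 36)
    (hdeg : ∀ x, deg x ≠ 0) (hK : K ≠ 0) (e0 e1 e2 e3 e4 e5 e6 e7 e8 : ι)
    (s1 s2 s3 s4 s5 s6 s7 s8 : ℤ) (hs1 : s1 ≠ 0) (hs2 : s2 ≠ 0) (hs4 : s4 ≠ 0) (hs5 : s5 ≠ 0)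
    (h0d : deg e0 = 1) (h0a : a e0 = 1) (h0b : b e0 = 1)
    (hcA : ∀ x, cA x = (-1) * (if x = e0 then 1 else 0) + s1 * (if x = e1 then 1 else 0) + s2 * (if x = e2 then 1 else 0) + s3 * (if x = e3 then 1 else 0))
    (hcB : ∀ x, cB x = s1 * (if x = e1 then 1 else 0) + s4 * (if x = e4 then 1 else 0) + s5 * (if x = e5 then 1 else 0) + s6 * (if x = e6 then 1 else 0))
    (hcC : ∀ x, cC x = 1 * (if x = e0 then 1 else 0) + (-s1) * (if x = e1 then 1 else 0) + (-s4) * (if x = e4 then 1 else 0) + s7 * (if x = e7 then 1 else 0))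
    (hcD : ∀ x, cD x = (-s1) * (if x = e1 then 1 else 0) + (-s2) * (if x = e2 then 1 else 0) + (-s5) * (if x = e5 then 1 else 0) + s8 * (if x = e8 then 1 else 0)) :
    ((s5 : ℂ) * deg e5) = -1 ∨ 9 * ((1 - ((s1 : ℂ) * deg e1)) * (((s1 : ℂ) * deg e1) + ((s2 : ℂ) * deg e2))) = 17 * ((s2 : ℂ) * deg e2) ∨
      9 * ((1 - ((s1 : ℂ) * deg e1)) * (((s1 : ℂ) * deg e1) + ((s4 : ℂ) * deg e4))) = 17 * ((s4 : ℂ) * deg e4) ∨
      9 * ((((s1 : ℂ) * deg e1) + ((s4 : ℂ) * deg e4)) * (((s1 : ℂ) * deg e1) + ((s5 : ℂ) * deg e5))) = 17 * (((s4 : ℂ) * deg e4) * ((s5 : ℂ) * deg e5)) ∨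
      (1 - ((s1 : ℂ) * deg e1)) * (((s1 : ℂ) * deg e1) + ((s2 : ℂ) * deg e2)) = 9801 * ((s2 : ℂ) * deg e2) ∨
      (1 - ((s1 : ℂ) * deg e1)) * (((s1 : ℂ) * deg e1) + ((s4 : ℂ) * deg e4)) = 9801 * ((s4 : ℂ) * deg e4) := by
  obtain ⟨a0, a1, a2, a3, a4, a5, b0, b1, b2, b3, b4, b5, c0, c1, c2, c3, c4, c5, d0, d1, d2, d3, d4, d5⟩ :=
    coherent_moments hA hB hC hD hdeg e0 e1 e2 e3 e4 e5 e6 e7 e8 s1 s2 s3 s4 s5 s6 s7 s8 h0d h0a h0b
      hcA hcB hcC hcD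
  push_cast at a0 a1 a2 a3 a4 a5 b0 b1 b2 b3 b4 b5 c0 c1 c2 c3 c4 c5 d0 d1 d2 d3 d4 d5
  have hne : ∀ (s : ℤ) (x : ι), s ≠ 0 → (s : ℂ) * deg x ≠ 0 := fun s x hs =>
    mul_ne_zero (Int.cast_ne_zero.mpr hs) (hdeg x)
  exact core_F1 K ((s1 : ℂ) * deg e1) ((s2 : ℂ) * deg e2) ((s3 : ℂ) * deg e3) ((s4 : ℂ) * deg e4) ((s5 : ℂ) * deg e5) ((s6 : ℂ) * deg e6) ((s7 : ℂ) * deg e7) ((s8 : ℂ) * deg e8)
    (shiftP nu a deg e1) (shiftP nu a deg e2) (shiftP nu a deg e3) (shiftP nu a deg e4) (shiftP nu a deg e5) (shiftP nu a deg e6) (shiftP nu a deg e7) (shiftP nu a deg e8)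
    (shiftP nv b deg e1) (shiftP nv b deg e2) (shiftP nv b deg e3) (shiftP nv b deg e4) (shiftP nv b deg e5) (shiftP nv b deg e6) (shiftP nv b deg e7) (shiftP nv b deg e8)
    hK (hne s1 e1 hs1) (hne s2 e2 hs2) (hne s4 e4 hs4) (hne s5 e5 hs5)
    a0 a1 a2 a3 a4 a5 b0 b1 b2 b3 b4 b5 c0 c1 c2 c3 c4 c5 d0 d1 d2 d3 d4 d5

/-- the coherent case in the fusion pattern `Ft` -/
theorem coherent_Ft {cA cB cC cD : ι → ℤ} {deg a b : ι → ℂ} {K nu nv : ℂ}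
    (hA : ClassData cA deg a b K nu nv (-36) (-108) (-396)) (hB : ClassData cB deg a b K nu nv (-36) 108 (-396))
    (hC : ClassData cC deg a b K nu nv 72 0 576) (hD : ClassData cD deg a b K nu nv 72 0 144)
    (hdeg : ∀ x, deg x ≠ 0) (hK : K ≠ 0) (e0 e1 e2 e3 e4 e5 e6 e7 e8 : ι)
    (s1 s2 s3 s4 s5 s6 s7 s8 : ℤ) (hs1 : s1 ≠ 0) (hs2 : s2 ≠ 0) (hs4 : s4 ≠ 0) (hs5 : s5 ≠ 0)
    (h0d : deg e0 = 1) (h0a : a e0 = 1) (h0b : b e0 = 1)
    (hcA : ∀ x, cA x = (-1) * (if x = e0 then 1 else 0) + s1 * (if x = e1 then 1 else 0) + s2 * (if x = e2 then 1 else 0) + s3 * (if x = e3 then 1 else 0))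
    (hcB : ∀ x, cB x = s1 * (if x = e1 then 1 else 0) + s4 * (if x = e4 then 1 else 0) + s5 * (if x = e5 then 1 else 0) + s6 * (if x = e6 then 1 else 0))
    (hcC : ∀ x, cC x = 1 * (if x = e0 then 1 else 0) + (-s1) * (if x = e1 then 1 else 0) + (-s4) * (if x = e4 then 1 else 0) + s7 * (if x = e7 then 1 else 0))
    (hcD : ∀ x, cD x = (-s1) * (if x = e1 then 1 else 0) + (-s2) * (if x = e2 then 1 else 0) + (-s5) * (if x = e5 then 1 else 0) + s8 * (if x = e8 then 1 else 0)) :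
    ((s5 : ℂ) * deg e5) = -1 ∨ 9 * ((1 - ((s1 : ℂ) * deg e1)) * (((s1 : ℂ) * deg e1) + ((s2 : ℂ) * deg e2))) = 17 * ((s2 : ℂ) * deg e2) ∨
      9 * ((1 - ((s1 : ℂ) * deg e1)) * (((s1 : ℂ) * deg e1) + ((s4 : ℂ) * deg e4))) = 17 * ((s4 : ℂ) * deg e4) ∨
      9 * ((((s1 : ℂ) * deg e1) + ((s4 : ℂ) * deg e4)) * (((s1 : ℂ) * deg e1) + ((s5 : ℂ) * deg e5))) = 17 * (((s4 : ℂ) * deg e4) * ((s5 : ℂ) * deg e5)) ∨
      (1 - ((s1 : ℂ) * deg e1)) * (((s1 : ℂ) * deg e1) + ((s2 : ℂ) * deg e2)) = 9801 * ((s2 : ℂ) * deg e2) ∨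
      (1 - ((s1 : ℂ) * deg e1)) * (((s1 : ℂ) * deg e1) + ((s4 : ℂ) * deg e4)) = 9801 * ((s4 : ℂ) * deg e4) := by
  obtain ⟨a0, a1, a2, a3, a4, a5, b0, b1, b2, b3, b4, b5, c0, c1, c2, c3, c4, c5, d0, d1, d2, d3, d4, d5⟩ :=
    coherent_moments hA hB hC hD hdeg e0 e1 e2 e3 e4 e5 e6 e7 e8 s1 s2 s3 s4 s5 s6 s7 s8 h0d h0a h0b
      hcA hcB hcC hcD
  push_cast at a0 a1 a2 a3 a4 a5 b0 b1 b2 b3 b4 b5 c0 c1 c2 c3 c4 c5 d0 d1 d2 d3 d4 d5
  have hne : ∀ (s : ℤ) (x : ι), s ≠ 0 → (s : ℂ) * deg x ≠ 0 := fun s x hs =>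
    mul_ne_zero (Int.cast_ne_zero.mpr hs) (hdeg x)
  exact core_Ft K ((s1 : ℂ) * deg e1) ((s2 : ℂ) * deg e2) ((s3 : ℂ) * deg e3) ((s4 : ℂ) * deg e4) ((s5 : ℂ) * deg e5) ((s6 : ℂ) * deg e6) ((s7 : ℂ) * deg e7) ((s8 : ℂ) * deg e8)
    (shiftP nu a deg e1) (shiftP nu a deg e2) (shiftP nu a deg e3) (shiftP nu a deg e4) (shiftP nu a deg e5) (shiftP nu a deg e6) (shiftP nu a deg e7) (shiftP nu a deg e8)
    (shiftP nv b deg e1) (shiftP nv b deg e2) (shiftP nv b deg e3) (shiftP nv b deg e4) (shiftP nv b deg e5) (shiftP nv b deg e6) (shiftP nv b deg e7) (shiftP nv b deg e8)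
    hK (hne s1 e1 hs1) (hne s2 e2 hs2) (hne s4 e4 hs4) (hne s5 e5 hs5)
    a0 a1 a2 a3 a4 a5 b0 b1 b2 b3 b4 b5 c0 c1 c2 c3 c4 c5 d0 d1 d2 d3 d4 d5

end Cfsg.Agent.Helper6.H72
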