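import Cfsg.Agent.Helper6.H72Coh
import Cfsg.Agent.H72.H3_P4
import Cfsg.Agent.H72.H1_CohFinish

/-!
# The `3² : D₈` situation: from the four `ClassData` to a nontrivial linear character

Index-type generic: given the embedding cases (`embedding_cases`), the congruences modulo `9` and
the four `ClassData` with the pair sums of the fusion pattern, there is a nontrivial index of
degree `1`.
-/

set_option autoImplicit false

namespace Cfsg.Agent.Helper6.H72

variable {ι : Type*} [Fintype ι] [DecidableEq ι]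

omit [Fintype ι] in
theorem coll_supp3 {v : ι → ℤ} (h : Coll v) : Supp3 v := by
  obtain ⟨x1, x2, x3, -, -, -, s1, s2, s3, -, -, -, hv⟩ := h
  exact ⟨x1, x2, x3, s1, s2, 2 * s3, hv⟩

omit [Fintype ι] [DecidableEq ι] in
theorem sign_ne_zero {s : ℤ} (h : s = 1 ∨ s = -1) : s ≠ 0 := by
  rcases h with h | h <;> rw [h] <;> norm_num

/-- pattern `F1` (also used for the unfused pattern after merging the first two classes) -/
theorem final_F1 (triv : ι) (cA cB cC cD degZ : ι → ℤ) (hdegZ : ∀ x, 0 < degZ x)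
    (hcong : ∀ x, (9 : ℤ) ∣ degZ x - 4 * (cA x + cB x - cC x - cD x))
    (hcases : Coherent triv cA cB cC cD ∨
      ((Coll (cC - cD) ∨ Coll (cA + cB + cD) ∨ Coll (cA + cB + cC)) ∧
        (Coll (cA - cB) ∨ Coll (cA + cC + cD) ∨ Coll (cB + cC + cD))))
    (deg a b : ι → ℂ) (K nu nv : ℂ) (hdeg : ∀ x, deg x = (degZ x : ℂ))
    (hd1 : degZ triv = 1) (ha1 : a triv = 1) (hb1 : b triv = 1) (hK : K ≠ 0)
    (hA : ClassData cA deg a b K nu nv (pairSum (finCl2 1 2) (finCl2 1 2) fa)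
      (pairSum (finCl2 1 2) (finCl 3) fa) (pairSum (finCl 3) (finCl 3) fa))
    (hB : ClassData cB deg a b K nu nv (pairSum (finCl2 1 2) (finCl2 1 2) fb)
      (pairSum (finCl2 1 2) (finCl 3) fb) (pairSum (finCl 3) (finCl 3) fb))
    (hC : ClassData cC deg a b K nu nv (pairSum (finCl2 1 2) (finCl2 1 2) fc)
      (pairSum (finCl2 1 2) (finCl 3) fc) (pairSum (finCl 3) (finCl 3) fc))
    (hD : ClassData cD deg a b K nu nv (pairSum (finCl2 1 2) (finCl2 1 2) fd)
      (pairSum (finCl2 1 2) (finCl 3) fd) (pairSum (finCl 3) (finCl 3) fd)) :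
    ∃ x, x ≠ triv ∧ degZ x = 1 := by
  have hdeg0 : ∀ x, deg x ≠ 0 := by
    intro x
    rw [hdeg]
    exact_mod_cast (hdegZ x).ne'
  rcases hcases with hcoh | ⟨h1, -⟩
  · apply exists_linear_of_coherent triv cA cB cC cD degZ hdegZ hcong hcoh
    intro e1 e2 e3 e4 e5 e6 e7 e8 _ s1 s2 s3 s4 s5 s6 s7 s8 h1 h2 _ h4 h5 _ _ _ hform
    rw [psF1_PP_a, psF1_Pt_a, ps_33_a] at hA
    rw [psF1_PP_b, psF1_Pt_b, ps_33_b] at hB
    rw [psF1_PP_c, psF1_Pt_c, ps_33_c] at hC
    rw [psF1_PP_d, psF1_Pt_d, ps_33_d] at hD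
    have hd1' : deg triv = 1 := by rw [hdeg, hd1]; norm_num
    have key := coherent_F1 hA hB hC hD hdeg0 hK triv e1 e2 e3 e4 e5 e6 e7 e8 s1 s2 s3 s4 s5 s6 s7 s8
      (sign_ne_zero h1) (sign_ne_zero h2) (sign_ne_zero h4) (sign_ne_zero h5) hd1' ha1 hb1
      (fun x => by rw [(hform x).1]; ring) (fun x => by rw [(hform x).2.1])
      (fun x => by rw [(hform x).2.2.1]; ring) (fun x => by rw [(hform x).2.2.2]; ring)
    have e : ∀ (s : ℤ) (x : ι), ((s * degZ x : ℤ) : ℂ) = (s : ℂ) * deg x := by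
      intro s x
      rw [hdeg]
      push_cast
      ring
    simp only [e]
    exact key
  · obtain ⟨n1, n2, n3⟩ := not_supp3_F1 hA hB hC hD hdeg0 hK
    rcases h1 with h | h | h
    · exact absurd (coll_supp3 h) n1
    · exact absurd (coll_supp3 h) n2
    · exact absurd (coll_supp3 h) n3

/-- pattern `Ft` -/
theorem final_Ft (triv : ι) (cA cB cC cD degZ : ι → ℤ) (hdegZ : ∀ x, 0 < degZ x)
    (hcong : ∀ x, (9 : ℤ) ∣ degZ x - 4 * (cA x + cB x - cC x - cD x))
    (hcases : Coherent triv cA cB cC cD ∨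
      ((Coll (cC - cD) ∨ Coll (cA + cB + cD) ∨ Coll (cA + cB + cC)) ∧
        (Coll (cA - cB) ∨ Coll (cA + cC + cD) ∨ Coll (cB + cC + cD))))
    (deg a b : ι → ℂ) (K nu nv : ℂ) (hdeg : ∀ x, deg x = (degZ x : ℂ))
    (hd1 : degZ triv = 1) (ha1 : a triv = 1) (hb1 : b triv = 1) (hK : K ≠ 0)
    (hA : ClassData cA deg a b K nu nv (pairSum (finCl 1) (finCl 1) fa)
      (pairSum (finCl 1) (finCl2 2 3) fa) (pairSum (finCl2 2 3) (finCl2 2 3) fa))
    (hB : ClassData cB deg a b K nu nv (pairSum (finCl 1) (finCl 1) fb)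
      (pairSum (finCl 1) (finCl2 2 3) fb) (pairSum (finCl2 2 3) (finCl2 2 3) fb))
    (hC : ClassData cC deg a b K nu nv (pairSum (finCl 1) (finCl 1) fc)
      (pairSum (finCl 1) (finCl2 2 3) fc) (pairSum (finCl2 2 3) (finCl2 2 3) fc))
    (hD : ClassData cD deg a b K nu nv (pairSum (finCl 1) (finCl 1) fd)
      (pairSum (finCl 1) (finCl2 2 3) fd) (pairSum (finCl2 2 3) (finCl2 2 3) fd)) :
    ∃ x, x ≠ triv ∧ degZ x = 1 := by
  have hdeg0 : ∀ x, deg x ≠ 0 := by
    intro x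
    rw [hdeg]
    exact_mod_cast (hdegZ x).ne'
  rcases hcases with hcoh | ⟨-, h2⟩
  · apply exists_linear_of_coherent triv cA cB cC cD degZ hdegZ hcong hcoh
    intro e1 e2 e3 e4 e5 e6 e7 e8 _ s1 s2 s3 s4 s5 s6 s7 s8 h1 h2 _ h4 h5 _ _ _ hform
    rw [ps_11_a, psFt_1P_a, psFt_PP_a] at hA
    rw [ps_11_b, psFt_1P_b, psFt_PP_b] at hB
    rw [ps_11_c, psFt_1P_c, psFt_PP_c] at hC
    rw [ps_11_d, psFt_1P_d, psFt_PP_d] at hD
    have hd1' : deg triv = 1 := by rw [hdeg, hd1]; norm_num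
    have key := coherent_Ft hA hB hC hD hdeg0 hK triv e1 e2 e3 e4 e5 e6 e7 e8 s1 s2 s3 s4 s5 s6 s7 s8
      (sign_ne_zero h1) (sign_ne_zero h2) (sign_ne_zero h4) (sign_ne_zero h5) hd1' ha1 hb1
      (fun x => by rw [(hform x).1]; ring) (fun x => by rw [(hform x).2.1])
      (fun x => by rw [(hform x).2.2.1]; ring) (fun x => by rw [(hform x).2.2.2]; ring)
    have e : ∀ (s : ℤ) (x : ι), ((s * degZ x : ℤ) : ℂ) = (s : ℂ) * deg x := by
      intro s x
      rw [hdeg]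
      push_cast
      ring
    simp only [e]
    exact key
  · obtain ⟨n1, n2, n3⟩ := not_supp3_Ft hA hB hC hD hdeg0 hK
    rcases h2 with h | h | h
    · exact absurd (coll_supp3 h) n1
    · exact absurd (coll_supp3 h) n2
    · exact absurd (coll_supp3 h) n3

end Cfsg.Agent.Helper6.H72
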