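import Cfsg.Agent.H72.H9_Setup72
import Cfsg.Agent.H72.H9_ClassData
import Cfsg.Agent.H72.H3_Gram
import Cfsg.Agent.H72.H4_P7a
import Cfsg.Agent.H72.H1_Finish
import Cfsg.Agent.Helper6.H72Fin
import Cfsg.Agent.Helper6.IrrBasis
import Cfsg.Agent.Helper6.OddReal

/-!
# The `3² : D₈` situation: a group with such a strongly embedded-like normalizer is not simple

Assembly of the pieces of the `H72` project.
-/

set_option autoImplicit false
set_option linter.style.haveILetI false

namespace Cfsg.Agent.Helper6.H72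

open Cfsg.Agent.Helper6

universe u

variable {G : Type u} [Group G]

theorem not_simple_of_setup72 [Finite G] (S : GSetupT G M72 sing rr72 3)
    (hcard : Nat.card ↥S.N = 72) : ¬ IsSimpleGroup G := by
  classical
  haveI : Fintype G := Fintype.ofFinite G
  haveI : Finite (Cfsg.IrrCharacter G) := irr_finite
  haveI : Fintype (Cfsg.IrrCharacter G) := Fintype.ofFinite _
  -- the integer coefficients
  have hex : ∀ f : M72 → ℤ, Cfsg.IsGeneralizedCharacter M72 (fun m => (f m : ℂ)) →
      ∀ χ : Cfsg.IrrCharacter G, ∃ c : ℤ,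
        Cfsg.classInner (S.Theta f) (χ : G → ℂ) = (c : ℂ) :=
    fun f hf χ => h4_exists_int S.N S.e f hf (χ : G → ℂ) χ.2
  choose cA hA using hex fa isGenChar_fa
  choose cB hB using hex fb isGenChar_fb
  choose cC hC using hex fc isGenChar_fc
  choose cD hD using hex fd isGenChar_fd
  obtain ⟨deg, hdeg, hpos⟩ := h3_exists_deg (G := G)
  let triv : Cfsg.IrrCharacter G := ⟨fun _ => (1 : ℂ), isIrrCharacter_one⟩
  have htriv : (triv : G → ℂ) = fun _ => (1 : ℂ) := rfl
  have hcases := embedding_of_setup S.toGSetup triv htriv cA cB cC cD deg hA hB hC hD hdeg hpos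
  have hcong : ∀ χ : Cfsg.IrrCharacter G,
      (9 : ℤ) ∣ deg χ - 4 * (cA χ + cB χ - cC χ - cD χ) := fun χ =>
    h4_congr S.N S.e (χ : G → ℂ) (IsIrrCharacter.isCharacter χ.2) (deg χ) (cA χ) (cB χ) (cC χ)
      (cD χ) (hdeg χ).symm (hA χ) (hB χ) (hC χ) (hD χ)
  have hd1 : deg triv = 1 := by
    have h : ((deg triv : ℤ) : ℂ) = 1 := hdeg triv
    exact_mod_cast h
  have key : ∃ χ : Cfsg.IrrCharacter G, χ ≠ triv ∧ deg χ = 1 := by
    rcases h1_trichotomy S with hp | hp | hp
    · obtain ⟨a, b, K, nu, nv, hK, h1, dA, dB, dC, dD⟩ :=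
        classData_pack_U S cA cB cC cD hp hA hB hC hD
      exact final_F1 triv cA cB cC cD deg hpos hcong hcases (fun χ => (χ : G → ℂ) 1) a b K nu nv
        (fun χ => (hdeg χ).symm) hd1 (h1 triv htriv).1 (h1 triv htriv).2 hK dA dB dC dD
    · obtain ⟨a, b, K, nu, nv, hK, h1, dA, dB, dC, dD⟩ :=
        classData_pack_F1 S cA cB cC cD hp hA hB hC hD
      exact final_F1 triv cA cB cC cD deg hpos hcong hcases (fun χ => (χ : G → ℂ) 1) a b K nu nv
        (fun χ => (hdeg χ).symm) hd1 (h1 triv htriv).1 (h1 triv htriv).2 hK dA dB dC dD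
    · obtain ⟨a, b, K, nu, nv, hK, h1, dA, dB, dC, dD⟩ :=
        classData_pack_Ft S cA cB cC cD hp hA hB hC hD
      exact final_Ft triv cA cB cC cD deg hpos hcong hcases (fun χ => (χ : G → ℂ) 1) a b K nu nv
        (fun χ => (hdeg χ).symm) hd1 (h1 triv htriv).1 (h1 triv htriv).2 hK dA dB dC dD
  obtain ⟨χ, hne, hχ1⟩ := key
  refine not_simple_of_linear χ ?_ ?_ S.N hcard
  · rw [← hdeg χ, hχ1]
    norm_num
  · intro h
    exact hne (Subtype.ext h)

end Cfsg.Agent.Helper6.H72
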