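import Mathlib

/-!
# Algebraic core for the `3² : D₈` situation, part 1: weighted points in the plane

Four weighted points `0, u₁, u₂, u₃` (weights `w₀, D₁, D₂, D₃`) with total weight zero, vanishing first
moment and second moment `η S`: then `w₀ q(u₁,u₂) = η det S` and `w₀ D₁ q(u₁,u₁) = η det S (w₀ + D₁)`,
where `q` is the adjugate form of `S`.  Certificates found by a Gröbner basis computation.
-/

set_option autoImplicit false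

namespace Cfsg.Agent.Helper6.H72

set_option maxHeartbeats 1000000 in
theorem dual_cross (w0 D1 D2 D3 x1 y1 x2 y2 x3 y3 S11 S12 S22 eta : ℂ) (he : eta ≠ 0)
    (h0 : w0 + D1 + D2 + D3 = 0)
    (h1 : D1 * x1 + D2 * x2 + D3 * x3 = 0)
    (h2 : D1 * y1 + D2 * y2 + D3 * y3 = 0)
    (h3 : D1 * x1 * x1 + D2 * x2 * x2 + D3 * x3 * x3 = eta * S11)
    (h4 : D1 * x1 * y1 + D2 * x2 * y2 + D3 * x3 * y3 = eta * S12)
    (h5 : D1 * y1 * y1 + D2 * y2 * y2 + D3 * y3 * y3 = eta * S22) :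
    w0 * (S22 * x1 * x2 - S12 * (x1 * y2 + y1 * x2) + S11 * y1 * y2) =
      eta * (S11 * S22 - S12 ^ 2) := by
  have key : eta * (w0 * (S22 * x1 * x2 - S12 * (x1 * y2 + y1 * x2) + S11 * y1 * y2) -
      eta * (S11 * S22 - S12 ^ 2)) = 0 := by
    linear_combination (y1 * y2 * S11 * eta - y1 * x2 * S12 * eta - x1 * y2 * S12 * eta + x1 * x2 * S22 * eta) * h0 + ((1 / 2) * y3 * S12 * eta - (1 / 2) * x3 * S22 * eta + (1 / 2) * y2 * S12 * eta - (1 / 2) * x2 * S22 * eta + (1 / 2) * y1 * S12 * eta - (1 / 2) * x1 * S22 * eta - D3 * y1 * y2 * x3 + (1 / 2) * D3 * y1 * x2 * y3 + (1 / 2) * D3 * x1 * y2 * y3 - (1 / 2) * D2 * y1 * y2 * x3 + (1 / 2) * D2 * x1 * y2 * y3 - (1 / 2) * D1 * y1 * y2 * x3 + (1 / 2) * D1 * y1 * x2 * y3) * h1 + (-(1 / 2) * y3 * S11 * eta + (1 / 2) * x3 * S12 * eta - (1 / 2) * y2 * S11 * eta + (1 / 2)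 * x2 * S12 * eta - (1 / 2) * y1 * S11 * eta + (1 / 2) * x1 * S12 * eta + (1 / 2) * D3 * y1 * x2 * x3 + (1 / 2) * D3 * x1 * y2 * x3 - D3 * x1 * x2 * y3 + (1 / 2) * D2 * y1 * x2 * x3 - (1 / 2) * D2 * x1 * x2 * y3 + (1 / 2) * D1 * x1 * y2 * x3 - (1 / 2) * D1 * x1 * x2 * y3) * h2 + ((1 / 2) * S22 * eta - (1 / 2) * D3 * y2 * y3 - (1 / 2) * D3 * y1 * y3 + D3 * y1 * y2 - (1 / 2) * D2 * y2 * y3 + (1 / 2) * D2 * y1 * y2 - (1 / 2) * D1 * y1 * y3 + (1 / 2) * D1 * y1 * y2) * h3 + (-S12 * eta + (1 / 2) * D3 * y2 * x3 + (1 / 2) * D3 * x2 * y3 + (1 / 2) * D3 * y1 * x3 - D3 * y1 * x2 + (1 / 2) * D3 * x1 * y3 - D3 * x1 * y2 + (1 / 2) * D2 * y2 * x3 + (1 / 2) * D2 * x2 * y3 - (1 / 2) * D2 * y1 * x2 - (1 / 2) * D2 * x1 * y2 + (1 / 2) * D1 * y1 * x3 - (1 / 2) * D1 * y1 * x2 + (1 / 2) * D1 * x1 * y3 - (1 / 2) * D1 * x1 * y2) * h4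 + ((1 / 2) * S11 * eta - (1 / 2) * D3 * x2 * x3 - (1 / 2) * D3 * x1 * x3 + D3 * x1 * x2 - (1 / 2) * D2 * x2 * x3 + (1 / 2) * D2 * x1 * x2 - (1 / 2) * D1 * x1 * x3 + (1 / 2) * D1 * x1 * x2) * h5
  have h := (mul_eq_zero.mp key).resolve_left he
  linear_combination h

set_option maxHeartbeats 1000000 in
theorem dual_diag (w0 D1 D2 D3 x1 y1 x2 y2 x3 y3 S11 S12 S22 eta : ℂ) (he : eta ≠ 0)
    (h0 : w0 + D1 + D2 + D3 = 0)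
    (h1 : D1 * x1 + D2 * x2 + D3 * x3 = 0)
    (h2 : D1 * y1 + D2 * y2 + D3 * y3 = 0)
    (h3 : D1 * x1 * x1 + D2 * x2 * x2 + D3 * x3 * x3 = eta * S11)
    (h4 : D1 * x1 * y1 + D2 * x2 * y2 + D3 * x3 * y3 = eta * S12)
    (h5 : D1 * y1 * y1 + D2 * y2 * y2 + D3 * y3 * y3 = eta * S22) :
    w0 * D1 * (S22 * x1 * x1 - S12 * (x1 * y1 + y1 * x1) + S11 * y1 * y1) =
      eta * (S11 * S22 - S12 ^ 2) * (w0 + D1) := by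
  have key : eta * (w0 * D1 * (S22 * x1 * x1 - S12 * (x1 * y1 + y1 * x1) + S11 * y1 * y1) -
      eta * (S11 * S22 - S12 ^ 2) * (w0 + D1)) = 0 := by
    linear_combination (S12^2 * eta^2 - S11 * S22 * eta^2 + D1 * y1^2 * S11 * eta - 2 * D1 * x1 * y1 * S12 * eta + D1 * x1^2 * S22 * eta) * h0 + (-(3 / 2) * D3 * y3 * S12 * eta + (1 / 2) * D3 * x3 * S22 * eta - (1 / 2) * D3 * y2 * S12 * eta + (1 / 2) * D3 * x2 * S22 * eta + (1 / 2) * D3 * y1 * S12 * eta - (1 / 2) * D3 * x1 * S22 * eta + (1 / 2) * D3^2 * y1 * x2 * y3 - (1 / 2) * D3^2 * x1 * y2 * y3 - (1 / 2) * D2 * y3 * S12 * eta + (1 / 2) * D2 * x3 * S22 * eta - (3 / 2) * D2 * y2 * S12 * eta + (1 / 2) * D2 * x2 * S22 * eta + (1 / 2) * D2 * y1 * S12 * eta - (1 / 2) * D2 * x1 * S22 * eta + (1 / 2) * D2 * D3 * y1 * y2 * x3 + (1 / 2) * D2 * D3 * y1 * x2 * y3 - D2 * D3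 * x1 * y2 * y3 + (1 / 2) * D2^2 * y1 * y2 * x3 - (1 / 2) * D2^2 * x1 * y2 * y3 - D1 * x1 * S22 * eta - (1 / 2) * D1 * D3 * y1 * y2 * x3 + (1 / 2) * D1 * D3 * y1 * x2 * y3 + (1 / 2) * D1 * D2 * y1 * y2 * x3 - (1 / 2) * D1 * D2 * y1 * x2 * y3) * h1 + ((1 / 2) * D3 * y3 * S11 * eta + (1 / 2) * D3 * x3 * S12 * eta + (1 / 2) * D3 * y2 * S11 * eta - (1 / 2) * D3 * x2 * S12 * eta - (1 / 2) * D3 * y1 * S11 * eta + (1 / 2) * D3 * x1 * S12 * eta - (1 / 2) * D3^2 * y1 * x2 * x3 + (1 / 2) * D3^2 * x1 * y2 * x3 + (1 / 2) * D2 * y3 * S11 * eta - (1 / 2) * D2 * x3 * S12 * eta + (1 / 2) * D2 * y2 * S11 * eta + (1 / 2) * D2 * x2 * S12 * eta - (1 / 2) * D2 * y1 * S11 * eta + (1 / 2) * D2 * x1 * S12 * eta - D2 * D3 * y1 * x2 * x3 + (1 / 2) * D2 * D3 * x1 * y2 * x3 + (1 / 2) * D2 * D3 * x1 * x2 * y3 - (1 / 2) * D2^2 * y1 * x2 *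 x3 + (1 / 2) * D2^2 * x1 * x2 * y3 - D1 * y1 * S11 * eta + 2 * D1 * x1 * S12 * eta + (1 / 2) * D1 * D3 * x1 * y2 * x3 - (1 / 2) * D1 * D3 * x1 * x2 * y3 - (1 / 2) * D1 * D2 * x1 * y2 * x3 + (1 / 2) * D1 * D2 * x1 * x2 * y3) * h2 + (-(1 / 2) * D3 * S22 * eta + (1 / 2) * D3^2 * y2 * y3 - (1 / 2) * D3^2 * y1 * y3 - (1 / 2) * D2 * S22 * eta + D2 * D3 * y2 * y3 - (1 / 2) * D2 * D3 * y1 * y3 - (1 / 2) * D2 * D3 * y1 * y2 + (1 / 2) * D2^2 * y2 * y3 - (1 / 2) * D2^2 * y1 * y2 - (1 / 2) * D1 * D3 * y1 * y3 + (1 / 2) * D1 * D3 * y1 * y2 + (1 / 2) * D1 * D2 * y1 * y3 - (1 / 2) * D1 * D2 * y1 * y2) * h3 + (D3 * S12 * eta - (1 / 2) * D3^2 * y2 * x3 - (1 / 2) * D3^2 * x2 * y3 + (1 / 2) * D3^2 * y1 * x3 + (1 / 2) * D3^2 * x1 * y3 + D2 * S12 * eta - D2 * D3 * y2 * x3 - D2 * D3 * x2 * y3 + (1 / 2) * D2 * D3 * y1 * x3 + (1 / 2)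 * D2 * D3 * y1 * x2 + (1 / 2) * D2 * D3 * x1 * y3 + (1 / 2) * D2 * D3 * x1 * y2 - (1 / 2) * D2^2 * y2 * x3 - (1 / 2) * D2^2 * x2 * y3 + (1 / 2) * D2^2 * y1 * x2 + (1 / 2) * D2^2 * x1 * y2 + (1 / 2) * D1 * D3 * y1 * x3 - (1 / 2) * D1 * D3 * y1 * x2 + (1 / 2) * D1 * D3 * x1 * y3 - (1 / 2) * D1 * D3 * x1 * y2 - (1 / 2) * D1 * D2 * y1 * x3 + (1 / 2) * D1 * D2 * y1 * x2 - (1 / 2) * D1 * D2 * x1 * y3 + (1 / 2) * D1 * D2 * x1 * y2) * h4 + (-(1 / 2) * D3 * S11 * eta + (1 / 2) * D3^2 * x2 * x3 - (1 / 2) * D3^2 * x1 * x3 - (1 / 2) * D2 * S11 * eta + D2 * D3 * x2 * x3 - (1 / 2) * D2 * D3 * x1 * x3 - (1 / 2) * D2 * D3 * x1 * x2 + (1 / 2) * D2^2 * x2 * x3 - (1 / 2) * D2^2 * x1 * x2 - (1 / 2) * D1 * D3 * x1 * x3 + (1 / 2) * D1 * D3 * x1 * x2 + (1 / 2) * D1 * D2 * x1 * x3 - (1 / 2) * D1 * D2 * x1 * x2) * h5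
  have h := (mul_eq_zero.mp key).resolve_left he
  linear_combination h

end Cfsg.Agent.Helper6.H72
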