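import Mathlib
import Cfsg.Agent.Helper6.BlkNestA

/-!
# Harris–Knörr, part A: transitivity of induced central characters on a single class, and the
comparison of induction inside a subgroup with induction in the subgroup as a group
-/

set_option autoImplicit false
set_option linter.style.haveILetI false

namespace Cfsg.Agent.Helper6.HK

open Cfsg.Agent.Helper6

open scoped ComplexConjugate

universe u

variable {G : Type u} [Group G] {M : Ideal Cfsg.AlgInt}

/-- transitivity of induced central characters at a single element `g`: the congruence between the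
central character of `ψ` on `H` and the central character induced from `ξ'` on `K' ≤ H` is only
required at the elements of `H` conjugate in `G` to `g`. -/
theorem inducedCentralChar_trans_at [Finite G] (hM : M.IsMaximal) (H : Subgroup G)
    (K' : Subgroup H) (K : Subgroup G) (φ : K' ≃* K)
    (hφ : ∀ c : K', ((φ c : K) : G) = ((c : H) : G))
    (ξ' : K' → ℂ) (ψ : H → ℂ) (hψ : Cfsg.IsClassFunction H ψ) (g : G)
    (h1 : ∀ h : H, IsConj g (h : G) → Cfsg.MemLocalIdeal M
      (Cfsg.inducedCentralChar K' ξ' h - Cfsg.centralChar ψ h)) :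
    Cfsg.MemLocalIdeal M
      (Cfsg.inducedCentralChar H ψ g - Cfsg.inducedCentralChar K (ξ' ∘ φ.symm) g) := by
  classical
  haveI := Fintype.ofFinite G
  haveI : Fintype H := Fintype.ofFinite H
  haveI : Fintype K' := Fintype.ofFinite K'
  haveI : Fintype K := Fintype.ofFinite K
  set F : K' → ℂ := fun c => ξ' c / ξ' 1 with hF
  set f₀ : H → ℂ := fun h => ψ h / ψ 1 - Cfsg.extendByZero K' F h with hf₀
  set f : H → ℂ := fun h => if IsConj g (h : G) then f₀ h else 0 with hf
  set T : Finset H := Finset.univ.filter (fun h : H => IsConj g (h : G)) with hT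
  have hclosed : ∀ h ∈ T, ∀ x : H, x * h * x⁻¹ ∈ T := by
    intro h hh x
    rw [hT, Finset.mem_filter] at hh ⊢
    refine ⟨Finset.mem_univ _, ?_⟩
    exact hh.2.trans (isConj_iff.mpr ⟨(x : G), by simp⟩)
  have hclass₀ : ∀ h : H, IsConj g (h : G) → Cfsg.MemLocalIdeal M (∑ x ∈ classFinset h, f₀ x) := by
    intro h hgh
    have e1 : ∑ x ∈ classFinset h, f₀ x =
        Cfsg.centralChar ψ h - Cfsg.inducedCentralChar K' ξ' h := by
      simp only [hf₀]
      rw [Finset.sum_sub_distrib]
      congr 1
      · have hcf : Cfsg.IsClassFunction H (fun x => ψ x / ψ 1) := by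
          intro x y
          simp only [hψ x y]
        rw [sum_classFinset_classFunction _ hcf h]
        unfold Cfsg.centralChar
        ring
      · rw [inducedCentralChar_eq_sum K' ξ' h]
        have e2 : ∑ x ∈ classFinset h, Cfsg.extendByZero K' F x =
            ∑ x : H, Cfsg.extendByZero K' F x * (if IsConj h x then 1 else 0) := by
          unfold classFinset
          rw [Finset.sum_filter]
          apply Finset.sum_congr rfl
          intro x _
          split_ifs <;> simp
        rw [e2, sum_extendByZero_mul K' F (fun x => if IsConj h x then 1 else 0),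
          Finset.sum_filter]
        apply Finset.sum_congr rfl
        intro c _
        split_ifs <;> simp [hF]
    rw [e1]
    have := MemLocalIdeal.neg (h1 h hgh)
    rwa [neg_sub] at this
  have hclass : ∀ h : H, Cfsg.MemLocalIdeal M (∑ x ∈ classFinset h, f x) := by
    intro h
    by_cases hgh : IsConj g (h : G)
    · have e : ∑ x ∈ classFinset h, f x = ∑ x ∈ classFinset h, f₀ x := by
        apply Finset.sum_congr rfl
        intro x hx
        rw [mem_classFinset] at hx
        obtain ⟨c, hc⟩ := isConj_iff.mp hx
        have hgx : IsConj g (x : G) := by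
          refine hgh.trans (isConj_iff.mpr ⟨(c : G), ?_⟩)
          rw [← hc]
          rfl
        simp only [hf, if_pos hgx]
      rw [e]
      exact hclass₀ h hgh
    · have e : ∑ x ∈ classFinset h, f x = 0 := by
        apply Finset.sum_eq_zero
        intro x hx
        rw [mem_classFinset] at hx
        obtain ⟨c, hc⟩ := isConj_iff.mp hx
        have hgx : ¬ IsConj g (x : G) := by
          intro hcon
          apply hgh
          refine hcon.trans (isConj_iff.mpr ⟨(c⁻¹ : H), ?_⟩)
          rw [← hc]
          simp only [Subgroup.coe_inv, Subgroup.coe_mul, inv_inv]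
          group
        simp only [hf, if_neg hgx]
      rw [e]
      exact memLocalIdeal_zero hM
  have hsum := sum_mem_of_class_sums (fun z => Cfsg.MemLocalIdeal M z) (memLocalIdeal_zero hM)
    (fun x y hx hy => MemLocalIdeal.add hM hx hy) f hclass T.card T rfl hclosed
  have e3 : ∑ h ∈ T, f h = Cfsg.inducedCentralChar H ψ g -
      Cfsg.inducedCentralChar K (ξ' ∘ φ.symm) g := by
    have e0 : ∑ h ∈ T, f h = ∑ h ∈ T, f₀ h := by
      apply Finset.sum_congr rfl
      intro h hh
      rw [hT, Finset.mem_filter] at hh
      simp only [hf, if_pos hh.2]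
    rw [e0]
    simp only [hf₀]
    rw [Finset.sum_sub_distrib, inducedCentralChar_eq_sum H ψ g,
      inducedCentralChar_eq_sum K (ξ' ∘ φ.symm) g]
    congr 1
    have e4 : ∑ x ∈ T, Cfsg.extendByZero K' F x =
        ∑ x : H, Cfsg.extendByZero K' F x * (if IsConj g (x : G) then 1 else 0) := by
      rw [hT, Finset.sum_filter]
      apply Finset.sum_congr rfl
      intro x _
      split_ifs <;> simp
    rw [e4, sum_extendByZero_mul K' F (fun x => if IsConj g (x : G) then 1 else 0)]
    rw [Finset.sum_filter]
    rw [← Equiv.sum_comp φ.toEquiv]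
    apply Finset.sum_congr rfl
    intro c _
    have hc : ((φ.toEquiv c : K) : G) = ((c : H) : G) := hφ c
    rw [hc]
    have h1' : (ξ' ∘ φ.symm) (φ.toEquiv c) = ξ' c := by
      simp
    have h2' : (ξ' ∘ φ.symm) 1 = ξ' 1 := by simp
    rw [h1', h2']
    split_ifs <;> simp [hF]
  rw [← e3]
  exact hsum

/-- induction of central characters inside a subgroup `X`, read in the group `X` -/
theorem inducedCentralChar_eq_inducedCentralCharIn (X : Subgroup G) (K' : Subgroup X)
    (K : Subgroup G) (φ : K' ≃* K) (hφ : ∀ c : K', ((φ c : K) : G) = ((c : X) : G))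
    (ξ : K → ℂ) (m : X) :
    Cfsg.inducedCentralChar K' (fun c => ξ (φ c)) m = Cfsg.inducedCentralCharIn X K ξ (m : G) := by
  unfold Cfsg.inducedCentralChar Cfsg.inducedCentralCharIn
  symm
  refine finsum_mem_eq_of_bijOn φ.symm ?_ ?_
  · refine ⟨?_, φ.symm.injective.injOn, ?_⟩
    · rintro k ⟨x, hx⟩
      show IsConj m ((φ.symm k : K') : X)
      rw [isConj_iff]
      refine ⟨x⁻¹, ?_⟩
      apply Subtype.ext
      have h1 : (((φ.symm k : K') : X) : G) = (k : G) := by
        have := hφ (φ.symm k)
        rw [φ.apply_symm_apply] at this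
        exact this.symm
      show ((x⁻¹ : X) : G) * (m : G) * (((x⁻¹)⁻¹ : X) : G) = (((φ.symm k : K') : X) : G)
      rw [h1, ← hx]
      simp only [Subgroup.coe_inv, inv_inv]
      group
    · intro k' hk'
      have hk'' : IsConj m (k' : X) := hk'
      obtain ⟨a, ha⟩ := isConj_iff.mp hk''
      refine ⟨φ k', ⟨a⁻¹, ?_⟩, φ.symm_apply_apply k'⟩
      rw [hφ, ← ha]
      simp only [Subgroup.coe_inv, Subgroup.coe_mul, inv_inv]
      group
  · intro k _
    simp only [φ.apply_symm_apply, map_one]

end Cfsg.Agent.Helper6.HK
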