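import Mathlib
import Cfsg.Agent.Helper6.HKA
import Cfsg.Agent.Helper6.BrCorrD

/-!
# Harris–Knörr, part B: the extended first main theorem, in terms of induced blocks
-/

set_option autoImplicit false
set_option linter.style.haveILetI false

namespace Cfsg.Agent.Helper6.HK

open Cfsg.Agent.Helper6

universe u

variable {G : Type u} [Group G] {M : Ideal Cfsg.AlgInt}

theorem isPBlock_nonempty {K : Type u} [Group K] (hM : M.IsMaximal)
    (b : Set (Cfsg.IrrCharacter K)) (hb : Cfsg.IsPBlock M b) : ∃ ψ, ψ ∈ b := by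
  obtain ⟨ψ, rfl⟩ := hb
  exact ⟨ψ, mem_blockOf_self hM ψ⟩

/-- **transitivity of block induction**, the other way round: if `e'` induces `b` and `b` induces
`B`, then (the copy of) `e'` induces `B` -/
theorem isInducedBlock_of_trans [Finite G] (hM : M.IsMaximal) (H : Subgroup G)
    (K' : Subgroup H) (K : Subgroup G) (φ : K' ≃* K)
    (hφ : ∀ c : K', ((φ c : K) : G) = ((c : H) : G))
    (e' : Set (Cfsg.IrrCharacter K')) (b : Set (Cfsg.IrrCharacter H))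
    (B : Set (Cfsg.IrrCharacter G))
    (h1 : Cfsg.IsInducedBlock M K' e' b) (h2 : Cfsg.IsInducedBlock M H b B) :
    Cfsg.IsInducedBlock M K (irrComp φ.symm '' e') B := by
  refine ⟨isPBlock_image_irrComp φ.symm e' h1.1, h2.2.1, ?_⟩
  rintro _ ⟨ξ', hξ', rfl⟩ χ hχ g
  obtain ⟨ψ, hψ⟩ := isPBlock_nonempty hM b h1.2.1
  have t1 := inducedCentralChar_trans hM H K' K φ hφ (ξ' : K' → ℂ) (ψ : H → ℂ)
    (IsCharacter.isClassFunction (IsIrrCharacter.isCharacter ψ.2))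
    (fun h => h1.2.2 ξ' hξ' ψ hψ h) g
  have t2 := h2.2.2 ψ hψ χ hχ g
  have e1 : ((irrComp φ.symm ξ' : Cfsg.IrrCharacter K) : K → ℂ) = (ξ' : K' → ℂ) ∘ φ.symm := rfl
  rw [e1]
  have := MemLocalIdeal.sub hM t2 t1
  convert this using 1
  ring

section Main

variable [Finite G] {p : ℕ} [hp : Fact p.Prime]

/-- **extended first main theorem, from `G` to `H ⊇ N_G(P)`** -/
theorem extFirstMain_down (hM : Cfsg.IsPModular p M) (P H : Subgroup G)
    (hP : IsPGroup p P) (hH : Subgroup.normalizer (P : Set G) ≤ H)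
    (B : Set (Cfsg.IrrCharacter G)) (hB : Cfsg.IsPBlock M B)
    (hDB : Cfsg.IsDefectGroup p M B P) :
    ∃ c : Set (Cfsg.IrrCharacter H), Cfsg.IsPBlock M c ∧
      Cfsg.IsDefectGroup p M c (P.subgroupOf H) ∧ Cfsg.IsInducedBlock M H c B := by
  classical
  have hPH' : IsPGroup p (P.subgroupOf H) := hP.comap_subtype
  obtain ⟨b₁, hb₁, hDb₁, hind₁⟩ := firstMain_ii_exists hM P hP B hB hDB
  obtain ⟨φ, hφ⟩ : ∃ φ, φ = normSubEquiv P H hH := ⟨_, rfl⟩
  obtain ⟨b₂, hb₂def⟩ : ∃ b₂, b₂ = irrComp φ '' b₁ := ⟨_, rfl⟩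
  have hb₂ : Cfsg.IsPBlock M b₂ := by rw [hb₂def]; exact isPBlock_image_irrComp φ b₁ hb₁
  have hDb₂ : Cfsg.IsDefectGroup p M b₂ ((P.subgroupOf H).subgroupOf
      (Subgroup.normalizer ((P.subgroupOf H : Subgroup H) : Set H))) := by
    have := isDefectGroup_comap_mulEquiv (M := M) φ b₁ _ hDb₁
    rwa [hφ, comap_normSubEquiv, ← hφ, ← hb₂def] at this
  obtain ⟨c, hc, hDc, hind₂⟩ := firstMain_i hM (P.subgroupOf H) hPH' b₂ hb₂ hDb₂
  refine ⟨c, hc, hDc, ?_⟩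
  apply isInducedBlock_trans_of_equiv hM.2.1 H _ _ φ
    (fun n => by rw [hφ]; exact coe_normSubEquiv P H hH n) b₂ c B hind₂
  have : irrComp φ.symm '' b₂ = b₁ := by
    rw [hb₂def]
    have := image_irrComp_symm_cancel φ.symm b₁
    rwa [MulEquiv.symm_symm] at this
  rw [this]
  exact hind₁

/-- **extended first main theorem, from `H ⊇ N_G(P)` to `G`** -/
theorem extFirstMain_up (hM : Cfsg.IsPModular p M) (P H : Subgroup G)
    (hP : IsPGroup p P) (hH : Subgroup.normalizer (P : Set G) ≤ H)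
    (c : Set (Cfsg.IrrCharacter H)) (hc : Cfsg.IsPBlock M c)
    (hDc : Cfsg.IsDefectGroup p M c (P.subgroupOf H)) :
    ∃ B : Set (Cfsg.IrrCharacter G), Cfsg.IsPBlock M B ∧ Cfsg.IsDefectGroup p M B P ∧
      Cfsg.IsInducedBlock M H c B := by
  classical
  have hPH' : IsPGroup p (P.subgroupOf H) := hP.comap_subtype
  obtain ⟨b₂, hb₂, hDb₂, hind₂⟩ := firstMain_ii_exists hM (P.subgroupOf H) hPH' c hc hDc
  obtain ⟨φ, hφ⟩ : ∃ φ, φ = normSubEquiv P H hH := ⟨_, rfl⟩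
  obtain ⟨b₁, hb₁def⟩ : ∃ b₁, b₁ = irrComp φ.symm '' b₂ := ⟨_, rfl⟩
  have hb₁ : Cfsg.IsPBlock M b₁ := by rw [hb₁def]; exact isPBlock_image_irrComp φ.symm b₂ hb₂
  have hDb₁ : Cfsg.IsDefectGroup p M b₁ (P.subgroupOf (Subgroup.normalizer (P : Set G))) := by
    have := isDefectGroup_comap_mulEquiv (M := M) φ.symm b₂ _ hDb₂
    rwa [hφ, comap_normSubEquiv_symm, ← hφ, ← hb₁def] at this
  obtain ⟨B, hB, hDB, hind₁⟩ := firstMain_i hM P hP b₁ hb₁ hDb₁
  refine ⟨B, hB, hDB, ?_⟩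
  apply isInducedBlock_trans_of_equiv hM.2.1 H _ _ φ
    (fun n => by rw [hφ]; exact coe_normSubEquiv P H hH n) b₂ c B hind₂
  rw [← hb₁def]
  exact hind₁

/-- **extended first main theorem, uniqueness** -/
theorem extFirstMain_unique (hM : Cfsg.IsPModular p M) (P H : Subgroup G)
    (hP : IsPGroup p P) (hH : Subgroup.normalizer (P : Set G) ≤ H)
    (c₁ c₂ : Set (Cfsg.IrrCharacter H))
    (hD₁ : Cfsg.IsDefectGroup p M c₁ (P.subgroupOf H))
    (hD₂ : Cfsg.IsDefectGroup p M c₂ (P.subgroupOf H))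
    (B : Set (Cfsg.IrrCharacter G))
    (hind₁ : Cfsg.IsInducedBlock M H c₁ B) (hind₂ : Cfsg.IsInducedBlock M H c₂ B) :
    c₁ = c₂ := by
  classical
  have hPH' : IsPGroup p (P.subgroupOf H) := hP.comap_subtype
  obtain ⟨φ, hφ⟩ : ∃ φ, φ = normSubEquiv P H hH := ⟨_, rfl⟩
  obtain ⟨b₁, hb₁, hDb₁, hi₁⟩ := firstMain_ii_exists hM (P.subgroupOf H) hPH' c₁ hind₁.1 hD₁
  obtain ⟨b₂, hb₂, hDb₂, hi₂⟩ := firstMain_ii_exists hM (P.subgroupOf H) hPH' c₂ hind₂.1 hD₂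
  have hcoe : ∀ n, ((φ n : Subgroup.normalizer (P : Set G)) : G) = ((n : H) : G) := by
    intro n
    rw [hφ]
    exact coe_normSubEquiv P H hH n
  have k₁ := isInducedBlock_of_trans hM.2.1 H _ _ φ hcoe b₁ c₁ B hi₁ hind₁
  have k₂ := isInducedBlock_of_trans hM.2.1 H _ _ φ hcoe b₂ c₂ B hi₂ hind₂
  have hd₁ : Cfsg.IsDefectGroup p M (irrComp φ.symm '' b₁)
      (P.subgroupOf (Subgroup.normalizer (P : Set G))) := by
    have := isDefectGroup_comap_mulEquiv (M := M) φ.symm b₁ _ hDb₁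
    rwa [hφ, comap_normSubEquiv_symm, ← hφ] at this
  have hd₂ : Cfsg.IsDefectGroup p M (irrComp φ.symm '' b₂)
      (P.subgroupOf (Subgroup.normalizer (P : Set G))) := by
    have := isDefectGroup_comap_mulEquiv (M := M) φ.symm b₂ _ hDb₂
    rwa [hφ, comap_normSubEquiv_symm, ← hφ] at this
  have heq := firstMain_ii_unique hM P hP B _ _ hd₁ hd₂ k₁ k₂
  have hb : b₁ = b₂ := Set.image_injective.mpr (irrComp_injective φ.symm) heq
  rw [hb] at hi₁
  exact isInducedBlock_unique hM.2.1 _ b₂ _ _ hi₁ hi₂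

end Main

end Cfsg.Agent.Helper6.HK
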