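import Mathlib
import Cfsg.Agent.Helper6.KnK

/-!
# Harris–Knörr, part C: Knörr's theorem inside an intermediate subgroup
-/

set_option autoImplicit false
set_option linter.style.haveILetI false

namespace Cfsg.Agent.Helper6.HK

open Cfsg.Agent.Helper6 Cfsg.Agent.Helper6.Kn

universe u

variable {G : Type u} [Group G] {M : Ideal Cfsg.AlgInt}

/-- **Knörr's theorem inside an intermediate subgroup**, from a defect group of the covered block -/
theorem knorr_meet_sub [Fintype G] {p : ℕ} [hp : Fact p.Prime]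
    (hM : Cfsg.IsPModular p M) (N T : Subgroup G) [Fintype N] [Fintype T]
    (hNT : N ≤ T) [hNn : (N.subgroupOf T).Normal]
    (b : Set (Cfsg.IrrCharacter N)) (hb : Cfsg.IsPBlock M b)
    (Q : Subgroup G) (hQN : Q ≤ N) (hQ : Cfsg.IsDefectGroup p M b (Q.subgroupOf N))
    (B' : Set (Cfsg.IrrCharacter T)) (hB' : Cfsg.IsPBlock M B')
    (hcov : ∃ ψ ∈ B', ∃ θ ∈ b,
      Cfsg.classInner (fun n : N => (ψ : T → ℂ) ⟨(n : G), hNT n.2⟩) (θ : N → ℂ) ≠ 0) :
    ∃ P : Subgroup T, Cfsg.IsDefectGroup p M B' P ∧ P.map T.subtype ⊓ N = Q := by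
  classical
  haveI : Fintype (N.subgroupOf T) := Fintype.ofFinite _
  obtain ⟨e, he⟩ : ∃ e : N.subgroupOf T ≃* N, e = Subgroup.subgroupOfEquivOfLe hNT := ⟨_, rfl⟩
  have hb₂ : Cfsg.IsPBlock M (irrComp e '' b) := isPBlock_image_irrComp e b hb
  have hcov₂ : ∃ χ ∈ B', ∃ θ ∈ irrComp e '' b,
      Cfsg.classInner (fun n : N.subgroupOf T => (χ : T → ℂ) n) (θ : N.subgroupOf T → ℂ) ≠ 0 := by
    obtain ⟨ψ, hψ, θ, hθ, hne⟩ := hcov
    refine ⟨ψ, hψ, irrComp e θ, ⟨θ, hθ, rfl⟩, ?_⟩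
    rw [he, classInner_subgroupOf N T hNT]
    exact hne
  have hQ₂ : Cfsg.IsDefectGroup p M (irrComp e '' b)
      ((Q.subgroupOf T).subgroupOf (N.subgroupOf T)) := by
    have h1 := isDefectGroup_comap_mulEquiv (M := M) (p := p) e b _ hQ
    convert h1 using 1
    ext x
    rw [Subgroup.mem_subgroupOf, Subgroup.mem_subgroupOf, Subgroup.mem_comap,
      Subgroup.mem_subgroupOf]
    rw [he]
    rfl
  have hQNT : Q.subgroupOf T ≤ N.subgroupOf T := by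
    intro x hx
    rw [Subgroup.mem_subgroupOf] at hx ⊢
    exact hQN hx
  obtain ⟨P, hP, hPQ⟩ := knorr_meet hM (N.subgroupOf T) (irrComp e '' b) hb₂ (Q.subgroupOf T)
    hQNT hQ₂ B' hB' hcov₂
  refine ⟨P, hP, ?_⟩
  ext x
  constructor
  · rintro ⟨⟨y, hy, rfl⟩, hxN⟩
    have : y ∈ P ⊓ N.subgroupOf T := ⟨hy, Subgroup.mem_subgroupOf.mpr hxN⟩
    rw [hPQ, Subgroup.mem_subgroupOf] at this
    exact this
  · intro hxQ
    have hxT : x ∈ T := hNT (hQN hxQ)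
    have : (⟨x, hxT⟩ : T) ∈ Q.subgroupOf T := Subgroup.mem_subgroupOf.mpr hxQ
    rw [← hPQ] at this
    exact ⟨⟨⟨x, hxT⟩, this.1, rfl⟩, hQN hxQ⟩

/-- **Knörr's theorem inside an intermediate subgroup**, from a defect group of the covering
block -/
theorem knorr_defect_sub [Fintype G] {p : ℕ} [hp : Fact p.Prime]
    (hM : Cfsg.IsPModular p M) (N T : Subgroup G) [Fintype N] [Fintype T]
    (hNT : N ≤ T) [hNn : (N.subgroupOf T).Normal]
    (B' : Set (Cfsg.IrrCharacter T)) (hB' : Cfsg.IsPBlock M B')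
    (P : Subgroup T) (hP : Cfsg.IsDefectGroup p M B' P) :
    ∃ c : Set (Cfsg.IrrCharacter N), Cfsg.IsPBlock M c ∧
      (∃ ψ ∈ B', ∃ θ ∈ c,
        Cfsg.classInner (fun n : N => (ψ : T → ℂ) ⟨(n : G), hNT n.2⟩) (θ : N → ℂ) ≠ 0) ∧
      Cfsg.IsDefectGroup p M c ((P.map T.subtype ⊓ N).subgroupOf N) := by
  classical
  haveI : Fintype (N.subgroupOf T) := Fintype.ofFinite _
  obtain ⟨e, he⟩ : ∃ e : N.subgroupOf T ≃* N, e = Subgroup.subgroupOfEquivOfLe hNT := ⟨_, rfl⟩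
  obtain ⟨c₂, hc₂, -, hcov₂, hdef₂⟩ := knorr_defect hM (N.subgroupOf T) B' hB' P hP
  refine ⟨irrComp e.symm '' c₂, isPBlock_image_irrComp e.symm c₂ hc₂, ?_, ?_⟩
  · obtain ⟨ψ, hψ, θ, hθ, hne⟩ := hcov₂
    refine ⟨ψ, hψ, irrComp e.symm θ, ⟨θ, hθ, rfl⟩, ?_⟩
    have h1 := classInner_subgroupOf N T hNT (ψ : T → ℂ) (irrComp e.symm θ)
    rw [← he, irrComp_symm_cancel] at h1
    rw [← h1]
    exact hne
  · have h2 := isDefectGroup_comap_mulEquiv (M := M) (p := p) e.symm c₂ _ hdef₂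
    convert h2 using 1
    ext x
    rw [Subgroup.mem_subgroupOf, Subgroup.mem_comap, Subgroup.mem_subgroupOf, Subgroup.mem_inf]
    have hx : ((e.symm x : N.subgroupOf T) : T) = ⟨(x : G), hNT x.2⟩ := by
      rw [he]
      rfl
    simp only [MulEquiv.coe_toMonoidHom]
    rw [hx, Subgroup.mem_inf, Subgroup.mem_subgroupOf]
    constructor
    · rintro ⟨⟨d, hd, hdx⟩, hxN⟩
      refine ⟨?_, hxN⟩
      have : d = ⟨(x : G), hNT x.2⟩ := Subtype.ext hdx
      rw [← this]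
      exact hd
    · rintro ⟨hd, hxN⟩
      exact ⟨⟨_, hd, rfl⟩, hxN⟩

end Cfsg.Agent.Helper6.HK
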