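import Mathlib
import Cfsg.Agent.Helper6.HKA
import Cfsg.Agent.Helper6.KnK

/-!
# Harris–Knörr, part D: the induced block covers the induced block
-/

set_option autoImplicit false
set_option linter.style.haveILetI false

namespace Cfsg.Agent.Helper6.HK

open Cfsg.Agent.Helper6 Cfsg.Agent.Helper6.Kn

universe u

variable {G : Type u} [Group G] {M : Ideal Cfsg.AlgInt}

/-- If the block `c` of `H` covers the block `e` of `L = H ∩ N`, `e` induces (inside `N`) the block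
`d` of the normal subgroup `N`, and `c` induces the block `B` of `G`, then `B` covers `d`. -/
theorem induced_covers [Fintype G] (hM : M.IsMaximal) (N H L : Subgroup G) [hN : N.Normal]
    [Fintype N] [Fintype H] [Fintype L]
    (hLH : L ≤ H) (hLN : L ≤ N) (hHN : H ⊓ N ≤ L) [hLn : (L.subgroupOf H).Normal]
    (c : Set (Cfsg.IrrCharacter H)) (hc : Cfsg.IsPBlock M c)
    (e : Set (Cfsg.IrrCharacter L)) (he : Cfsg.IsPBlock M e)
    (hcov : ∃ ψ ∈ c, ∃ ξ ∈ e,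
      Cfsg.classInner (fun l : L => (ψ : H → ℂ) ⟨(l : G), hLH l.2⟩) (ξ : L → ℂ) ≠ 0)
    (d : Set (Cfsg.IrrCharacter N)) (hed : Cfsg.IsInducedBlockIn M N L e d)
    (B : Set (Cfsg.IrrCharacter G)) (hind : Cfsg.IsInducedBlock M H c B) :
    ∃ χ ∈ B, ∃ θ ∈ d, Cfsg.classInner (fun n : N => (χ : G → ℂ) n) (θ : N → ℂ) ≠ 0 := by
  classical
  haveI : Fintype (L.subgroupOf H) := Fintype.ofFinite _
  obtain ⟨φH, hφH⟩ : ∃ φ : L.subgroupOf H ≃* L, φ = Subgroup.subgroupOfEquivOfLe hLH := ⟨_, rfl⟩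
  obtain ⟨φN, hφN⟩ : ∃ φ : L.subgroupOf N ≃* L, φ = Subgroup.subgroupOfEquivOfLe hLN := ⟨_, rfl⟩
  have hcoeH : ∀ x : L.subgroupOf H, ((φH x : L) : G) = ((x : H) : G) := by
    intro x
    rw [hφH]
    rfl
  have hcoeN : ∀ x : L.subgroupOf N, ((φN x : L) : G) = ((x : N) : G) := by
    intro x
    rw [hφN]
    rfl
  have he₂ : Cfsg.IsPBlock M (irrComp φH '' e) := isPBlock_image_irrComp φH e he
  have hcov₂ : ∃ χ ∈ c, ∃ θ ∈ irrComp φH '' e,
      Cfsg.classInner (fun n : L.subgroupOf H => (χ : H → ℂ) n)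
        (θ : L.subgroupOf H → ℂ) ≠ 0 := by
    obtain ⟨ψ, hψ, ξ, hξ, hne⟩ := hcov
    refine ⟨ψ, hψ, irrComp φH ξ, ⟨ξ, hξ, rfl⟩, ?_⟩
    rw [hφH, classInner_subgroupOf L H hLH]
    exact hne
  have hcovH := (covering_iff hM (L.subgroupOf H) c hc (irrComp φH '' e) he₂).mp hcov₂
  have hB := hind.2.1
  have hd := hed.2.1
  rw [covering_iff hM N B hB d hd]
  intro χ hχ θ hθ n
  obtain ⟨ψ, hψ⟩ : ∃ ψ, ψ ∈ c := by
    obtain ⟨ψ, hψ, -⟩ := hcov
    exact ⟨ψ, hψ⟩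
  obtain ⟨ξ, hξ⟩ : ∃ ξ, ξ ∈ e := by
    obtain ⟨_, _, ξ, hξ, -⟩ := hcov
    exact ⟨ξ, hξ⟩
  have t0 := hind.2.2 ψ hψ χ hχ (n : G)
  have t1 := inducedCentralChar_trans_at hM H (L.subgroupOf H) L φH hcoeH
    (irrComp φH ξ : L.subgroupOf H → ℂ) (ψ : H → ℂ)
    (IsCharacter.isClassFunction (IsIrrCharacter.isCharacter ψ.2)) (n : G) (by
      intro h hconj
      have hhN : (h : G) ∈ N := by
        obtain ⟨x, hx⟩ := isConj_iff.mp hconj
        rw [← hx]
        exact hN.conj_mem _ n.2 x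
      have hhL : (h : G) ∈ L := hHN ⟨h.2, hhN⟩
      have := hcovH ψ hψ (irrComp φH ξ) ⟨ξ, hξ, rfl⟩ ⟨h, Subgroup.mem_subgroupOf.mpr hhL⟩
      have := MemLocalIdeal.neg this
      rwa [neg_sub] at this)
  have e1 : (irrComp φH ξ : L.subgroupOf H → ℂ) ∘ φH.symm = (ξ : L → ℂ) := by
    funext x
    simp only [Function.comp_apply, irrComp_apply, φH.apply_symm_apply]
  rw [e1] at t1
  have t2 := inducedCentralChar_trans hM N (L.subgroupOf N) L φN hcoeN
    (irrComp φN ξ : L.subgroupOf N → ℂ) (θ : N → ℂ)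
    (IsCharacter.isClassFunction (IsIrrCharacter.isCharacter θ.2)) (by
      intro m
      have h1 := hed.2.2 ξ hξ θ hθ m
      rw [← inducedCentralChar_eq_inducedCentralCharIn N (L.subgroupOf N) L φN hcoeN
        (ξ : L → ℂ) m] at h1
      exact h1) (n : G)
  have e2 : (irrComp φN ξ : L.subgroupOf N → ℂ) ∘ φN.symm = (ξ : L → ℂ) := by
    funext x
    simp only [Function.comp_apply, irrComp_apply, φN.apply_symm_apply]
  rw [e2] at t2
  have := MemLocalIdeal.sub hM (MemLocalIdeal.sub hM t1 t0) t2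
  convert this using 1
  ring

end Cfsg.Agent.Helper6.HK
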