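import Mathlib
import Cfsg.Agent.Helper6.HKB
import Cfsg.Agent.Helper6.KnL

/-!
# Harris–Knörr, part E: conjugation of blocks and the first main theorem inside a normal subgroup
-/

set_option autoImplicit false
set_option linter.style.haveILetI false

namespace Cfsg.Agent.Helper6.HK

open Cfsg.Agent.Helper6 Cfsg.Agent.Helper6.Kn

universe u

variable {G : Type u} [Group G] {M : Ideal Cfsg.AlgInt}

/-- blocks of a normal subgroup covered by the same block are conjugate -/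
theorem covered_conj [Fintype G] (hM : M.IsMaximal) (N : Subgroup G) [hN : N.Normal]
    [Fintype N] (B : Set (Cfsg.IrrCharacter G)) (hB : Cfsg.IsPBlock M B)
    (d d' : Set (Cfsg.IrrCharacter N)) (hd : Cfsg.IsPBlock M d) (hd' : Cfsg.IsPBlock M d')
    (hcov : ∃ χ ∈ B, ∃ θ ∈ d, Cfsg.classInner (fun n : N => (χ : G → ℂ) n) (θ : N → ℂ) ≠ 0)
    (hcov' : ∃ χ ∈ B, ∃ θ ∈ d', Cfsg.classInner (fun n : N => (χ : G → ℂ) n) (θ : N → ℂ) ≠ 0) :
    ∃ g : G, d' = nact N g d := by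
  obtain ⟨χ, hχ, θ, hθ, hne⟩ := hcov
  obtain ⟨χ', hχ', ψ, hψ, hne'⟩ := hcov'
  obtain ⟨g, θ', hθ', hg⟩ := covering_conj hM N B hB d hd χ hχ θ hθ hne χ' hχ' ψ hne'
  refine ⟨g⁻¹, ?_⟩
  have h1 : ψ ∈ nact N g⁻¹ d := by
    rw [mem_nact_iff]
    have e : conjIrr N g⁻¹ ψ = θ' := by
      apply Subtype.ext
      funext n
      change (ψ : N → ℂ) ⟨g⁻¹ * n * g⁻¹⁻¹, _⟩ = _
      rw [hg]
      refine congrArg (θ' : N → ℂ) ?_
      apply Subtype.ext
      simp only [inv_inv]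
      group
    rw [e]
    exact hθ'
  rw [eq_blockOf_of_mem hM d' hd' ψ hψ,
    eq_blockOf_of_mem hM _ (isPBlock_nact N g⁻¹ d hd) ψ h1]

/-- induced central characters inside `N` and conjugation by an element normalizing `L` -/
theorem inducedCentralCharIn_nconjIrr (N L : Subgroup G) [hN : N.Normal] (h : G)
    (hhL : h ∈ Subgroup.normalizer (L : Set G)) (ξ : Cfsg.IrrCharacter L) (m : G) :
    Cfsg.inducedCentralCharIn N L (nconjIrr L h hhL ξ : L → ℂ) m =
      Cfsg.inducedCentralCharIn N L (ξ : L → ℂ) (h⁻¹ * m * h) := by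
  unfold Cfsg.inducedCentralCharIn
  refine finsum_mem_eq_of_bijOn (nconjHom L h hhL) ?_ ?_
  · refine ⟨?_, (nconjHom_bijective L h hhL).1.injOn, ?_⟩
    · rintro k ⟨x, hx⟩
      refine ⟨⟨h⁻¹ * (x : G) * h, ?_⟩, ?_⟩
      · have := hN.conj_mem (x : G) x.2 h⁻¹
        rwa [inv_inv] at this
      · rw [coe_nconjHom, ← hx]
        simp only
        group
    · rintro k' ⟨x, hx⟩
      obtain ⟨k, rfl⟩ := (nconjHom_bijective L h hhL).2 k'
      refine ⟨k, ⟨⟨h * (x : G) * h⁻¹, hN.conj_mem (x : G) x.2 h⟩, ?_⟩, rfl⟩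
      rw [coe_nconjHom] at hx
      simp only
      have : (x : G) * (h⁻¹ * (k : G) * h) * (x : G)⁻¹ = h⁻¹ * m * h := hx
      calc h * (x : G) * h⁻¹ * (k : G) * (h * (x : G) * h⁻¹)⁻¹
          = h * ((x : G) * (h⁻¹ * (k : G) * h) * (x : G)⁻¹) * h⁻¹ := by group
        _ = h * (h⁻¹ * m * h) * h⁻¹ := by rw [this]
        _ = m := by group
  · intro k _
    rw [nconjIrr_apply, nconjIrr_apply, map_one]

/-- block induction inside `N` commutes with conjugation by an element normalizing `L` -/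
theorem isInducedBlockIn_conj [Finite G] (N L : Subgroup G) [hN : N.Normal] (h : G)
    (hhL : h ∈ Subgroup.normalizer (L : Set G))
    (e : Set (Cfsg.IrrCharacter L)) (d : Set (Cfsg.IrrCharacter N))
    (hed : Cfsg.IsInducedBlockIn M N L e d) :
    Cfsg.IsInducedBlockIn M N L (nconjIrr L h hhL '' e) (nact N h d) := by
  obtain ⟨he, hd, hcong⟩ := hed
  refine ⟨?_, isPBlock_nact N h d hd, ?_⟩
  · obtain ⟨ζ, rfl⟩ := he
    exact ⟨_, image_nconjIrr_blockOf L h hhL ζ⟩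
  · rintro _ ⟨ξ, hξ, rfl⟩ _ ⟨θ, hθ, rfl⟩ m
    rw [inducedCentralCharIn_nconjIrr]
    have h1 := hcong ξ hξ θ hθ (nconjHom N h (mem_normalizer_of_normal N h) m)
    rw [coe_nconjHom] at h1
    have h2 : Cfsg.centralChar (nconjIrr N h (mem_normalizer_of_normal N h) θ : N → ℂ) m =
        Cfsg.centralChar (θ : N → ℂ) (nconjHom N h (mem_normalizer_of_normal N h) m) :=
      centralChar_comp_of_bijective _ (nconjHom_bijective N h _) (θ : N → ℂ) m
    rw [h2]
    exact h1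

/-- the conjugate of a block by an element normalizing a defect group `Q` has `Q` as a defect
group -/
theorem isDefectGroup_nconjIrr [Finite G] {p : ℕ} [hp : Fact p.Prime] (L Q : Subgroup G) (h : G)
    (hhL : h ∈ Subgroup.normalizer (L : Set G)) (hhQ : h ∈ Subgroup.normalizer (Q : Set G))
    (e : Set (Cfsg.IrrCharacter L)) (hQ : Cfsg.IsDefectGroup p M e (Q.subgroupOf L)) :
    Cfsg.IsDefectGroup p M (nconjIrr L h hhL '' e) (Q.subgroupOf L) := by
  haveI : Finite L := inferInstance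
  obtain ⟨φ, hφ⟩ : ∃ φ : L ≃* L, φ = MulEquiv.ofBijective (nconjHom L h hhL)
      (nconjHom_bijective L h hhL) := ⟨_, rfl⟩
  have hφa : ∀ n : L, ((φ n : L) : G) = h⁻¹ * (n : G) * h := by
    intro n
    rw [hφ]
    rfl
  have h1 := isDefectGroup_comap_mulEquiv (M := M) (p := p) φ e _ hQ
  have h2 : irrComp φ '' e = nconjIrr L h hhL '' e := by
    apply Set.image_congr
    intro χ _
    apply Subtype.ext
    funext n
    rw [irrComp_apply, nconjIrr_apply, hφ]
    rfl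
  rw [h2] at h1
  convert h1 using 1
  ext n
  rw [Subgroup.mem_subgroupOf, Subgroup.mem_comap, Subgroup.mem_subgroupOf]
  simp only [MulEquiv.coe_toMonoidHom]
  rw [hφa]
  have := (Subgroup.mem_normalizer_iff''.mp hhQ (n : G))
  exact this

/-- a block of `H` covering a block of `L ≤ H` covers its conjugates under `H` -/
theorem cover_nconjIrr [Fintype G] (H L : Subgroup G) [Fintype L] (hLH : L ≤ H) (h : G)
    (hh : h ∈ H) (hhL : h ∈ Subgroup.normalizer (L : Set G))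
    (c : Set (Cfsg.IrrCharacter H)) (e : Set (Cfsg.IrrCharacter L))
    (hcov : ∃ ψ ∈ c, ∃ ξ ∈ e,
      Cfsg.classInner (fun l : L => (ψ : H → ℂ) ⟨(l : G), hLH l.2⟩) (ξ : L → ℂ) ≠ 0) :
    ∃ ψ ∈ c, ∃ ξ ∈ nconjIrr L h hhL '' e,
      Cfsg.classInner (fun l : L => (ψ : H → ℂ) ⟨(l : G), hLH l.2⟩) (ξ : L → ℂ) ≠ 0 := by
  obtain ⟨ψ, hψ, ξ, hξ, hne⟩ := hcov
  refine ⟨ψ, hψ, nconjIrr L h hhL ξ, ⟨ξ, hξ, rfl⟩, ?_⟩
  have hcf := IsCharacter.isClassFunction (IsIrrCharacter.isCharacter ψ.2)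
  have h1 : (fun l : L => (ψ : H → ℂ) ⟨(l : G), hLH l.2⟩) =
      (fun l : L => (ψ : H → ℂ) ⟨(l : G), hLH l.2⟩) ∘
        (Equiv.ofBijective (nconjHom L h hhL) (nconjHom_bijective L h hhL)) := by
    funext l
    simp only [Function.comp_apply, Equiv.ofBijective_apply]
    have e1 : (⟨((nconjHom L h hhL l : L) : G), hLH (nconjHom L h hhL l).2⟩ : H) =
        (⟨h, hh⟩ : H)⁻¹ * ⟨(l : G), hLH l.2⟩ * (⟨h, hh⟩ : H)⁻¹⁻¹ := by
      apply Subtype.ext
      rw [coe_nconjHom]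
      simp
    rw [e1, hcf]
  have h2 : (nconjIrr L h hhL ξ : L → ℂ) = (ξ : L → ℂ) ∘
      (Equiv.ofBijective (nconjHom L h hhL) (nconjHom_bijective L h hhL)) := by
    funext n
    rw [nconjIrr_apply]
    rfl
  rw [h1, h2, classInner_comp_equiv]
  exact hne

end Cfsg.Agent.Helper6.HK
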