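import Mathlib
import Cfsg.Agent.Helper6.HKE

/-!
# Harris–Knörr, part F: the first main theorem inside a subgroup `N`, for `N_G(Q) ∩ N`
-/

set_option autoImplicit false
set_option linter.style.haveILetI false

namespace Cfsg.Agent.Helper6.HK

open Cfsg.Agent.Helper6 Cfsg.Agent.Helper6.Kn

universe u

variable {G : Type u} [Group G] {M : Ideal Cfsg.AlgInt}

/-- `A ∩ N`, as a subgroup of `N` and as a subgroup of `G` -/
def subgroupOfInfEquiv (A N : Subgroup G) : ↥(A.subgroupOf N) ≃* ↥(A ⊓ N) where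
  toFun x := ⟨((x : N) : G), ⟨Subgroup.mem_subgroupOf.mp x.2, (x : N).2⟩⟩
  invFun y := ⟨⟨(y : G), y.2.2⟩, Subgroup.mem_subgroupOf.mpr y.2.1⟩
  left_inv _ := rfl
  right_inv _ := rfl
  map_mul' _ _ := rfl

/-- the normalizer of `Q` in `N`, as a subgroup of `N` and as a subgroup of `G` -/
noncomputable def normInEquiv (N Q : Subgroup G) (hQN : Q ≤ N) :
    ↥(Subgroup.normalizer ((Q.subgroupOf N : Subgroup N) : Set N)) ≃*
      ↥(Subgroup.normalizer (Q : Set G) ⊓ N) :=
  (MulEquiv.subgroupCongr (Subgroup.subgroupOf_normalizer_eq hQN).symm).trans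
    (subgroupOfInfEquiv (Subgroup.normalizer (Q : Set G)) N)

theorem coe_normInEquiv (N Q : Subgroup G) (hQN : Q ≤ N)
    (n : Subgroup.normalizer ((Q.subgroupOf N : Subgroup N) : Set N)) :
    ((normInEquiv N Q hQN n : ↥(Subgroup.normalizer (Q : Set G) ⊓ N)) : G) = ((n : N) : G) := rfl

theorem comap_normInEquiv (N Q : Subgroup G) (hQN : Q ≤ N) :
    (Q.subgroupOf (Subgroup.normalizer (Q : Set G) ⊓ N)).comap (normInEquiv N Q hQN).toMonoidHom =
      (Q.subgroupOf N).subgroupOf (Subgroup.normalizer ((Q.subgroupOf N : Subgroup N) : Set N)) := by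
  ext n
  rw [Subgroup.mem_comap, Subgroup.mem_subgroupOf, Subgroup.mem_subgroupOf,
    Subgroup.mem_subgroupOf]
  rfl

/-- induction inside `N` from `N_G(Q) ∩ N`, read in the group `N` -/
theorem isInducedBlock_of_isInducedBlockIn (N Q : Subgroup G) (hQN : Q ≤ N)
    (e : Set (Cfsg.IrrCharacter ↥(Subgroup.normalizer (Q : Set G) ⊓ N)))
    (d : Set (Cfsg.IrrCharacter N))
    (h : Cfsg.IsInducedBlockIn M N (Subgroup.normalizer (Q : Set G) ⊓ N) e d) :
    Cfsg.IsInducedBlock M (Subgroup.normalizer ((Q.subgroupOf N : Subgroup N) : Set N))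
      (irrComp (normInEquiv N Q hQN) '' e) d := by
  obtain ⟨he, hd, hc⟩ := h
  refine ⟨isPBlock_image_irrComp _ e he, hd, ?_⟩
  rintro _ ⟨ξ, hξ, rfl⟩ θ hθ m
  have e1 : (irrComp (normInEquiv N Q hQN) ξ : _ → ℂ) =
      fun c => (ξ : ↥(Subgroup.normalizer (Q : Set G) ⊓ N) → ℂ) (normInEquiv N Q hQN c) := rfl
  rw [e1, inducedCentralChar_eq_inducedCentralCharIn N _ _ (normInEquiv N Q hQN)
    (coe_normInEquiv N Q hQN)]
  exact hc ξ hξ θ hθ m

theorem isInducedBlockIn_of_isInducedBlock (N Q : Subgroup G) (hQN : Q ≤ N)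
    (e : Set (Cfsg.IrrCharacter ↥(Subgroup.normalizer (Q : Set G) ⊓ N)))
    (he : Cfsg.IsPBlock M e) (d : Set (Cfsg.IrrCharacter N))
    (h : Cfsg.IsInducedBlock M (Subgroup.normalizer ((Q.subgroupOf N : Subgroup N) : Set N))
      (irrComp (normInEquiv N Q hQN) '' e) d) :
    Cfsg.IsInducedBlockIn M N (Subgroup.normalizer (Q : Set G) ⊓ N) e d := by
  obtain ⟨-, hd, hc⟩ := h
  refine ⟨he, hd, ?_⟩
  intro ξ hξ θ hθ m
  have h1 := hc (irrComp (normInEquiv N Q hQN) ξ) ⟨ξ, hξ, rfl⟩ θ hθ m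
  have e1 : (irrComp (normInEquiv N Q hQN) ξ : _ → ℂ) =
      fun c => (ξ : ↥(Subgroup.normalizer (Q : Set G) ⊓ N) → ℂ) (normInEquiv N Q hQN c) := rfl
  rw [e1, inducedCentralChar_eq_inducedCentralCharIn N _ _ (normInEquiv N Q hQN)
    (coe_normInEquiv N Q hQN)] at h1
  exact h1

section Main

variable [Finite G] {p : ℕ} [hp : Fact p.Prime]

/-- **first main theorem inside `N`**: existence of the induced block -/
theorem firstMainIn_exists (hM : Cfsg.IsPModular p M) (N Q : Subgroup G)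
    (hQ : IsPGroup p Q) (hQN : Q ≤ N)
    (e : Set (Cfsg.IrrCharacter ↥(Subgroup.normalizer (Q : Set G) ⊓ N)))
    (he : Cfsg.IsPBlock M e)
    (heQ : Cfsg.IsDefectGroup p M e (Q.subgroupOf (Subgroup.normalizer (Q : Set G) ⊓ N))) :
    ∃ d : Set (Cfsg.IrrCharacter N), Cfsg.IsPBlock M d ∧
      Cfsg.IsDefectGroup p M d (Q.subgroupOf N) ∧
      Cfsg.IsInducedBlockIn M N (Subgroup.normalizer (Q : Set G) ⊓ N) e d := by
  have hQ' : IsPGroup p (Q.subgroupOf N) := hQ.comap_subtype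
  have hdef : Cfsg.IsDefectGroup p M (irrComp (normInEquiv N Q hQN) '' e)
      ((Q.subgroupOf N).subgroupOf
        (Subgroup.normalizer ((Q.subgroupOf N : Subgroup N) : Set N))) := by
    have := isDefectGroup_comap_mulEquiv (M := M) (p := p) (normInEquiv N Q hQN) e _ heQ
    rwa [comap_normInEquiv] at this
  obtain ⟨d, hd, hDd, hind⟩ := firstMain_i hM (Q.subgroupOf N) hQ' _
    (isPBlock_image_irrComp _ e he) hdef
  exact ⟨d, hd, hDd, isInducedBlockIn_of_isInducedBlock N Q hQN e he d hind⟩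

/-- **first main theorem inside `N`**: uniqueness of the correspondent -/
theorem firstMainIn_unique (hM : Cfsg.IsPModular p M) (N Q : Subgroup G)
    (hQ : IsPGroup p Q) (hQN : Q ≤ N)
    (e₁ e₂ : Set (Cfsg.IrrCharacter ↥(Subgroup.normalizer (Q : Set G) ⊓ N)))
    (h₁ : Cfsg.IsDefectGroup p M e₁ (Q.subgroupOf (Subgroup.normalizer (Q : Set G) ⊓ N)))
    (h₂ : Cfsg.IsDefectGroup p M e₂ (Q.subgroupOf (Subgroup.normalizer (Q : Set G) ⊓ N)))
    (d : Set (Cfsg.IrrCharacter N))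
    (hi₁ : Cfsg.IsInducedBlockIn M N (Subgroup.normalizer (Q : Set G) ⊓ N) e₁ d)
    (hi₂ : Cfsg.IsInducedBlockIn M N (Subgroup.normalizer (Q : Set G) ⊓ N) e₂ d) :
    e₁ = e₂ := by
  have hQ' : IsPGroup p (Q.subgroupOf N) := hQ.comap_subtype
  have hd₁ : Cfsg.IsDefectGroup p M (irrComp (normInEquiv N Q hQN) '' e₁)
      ((Q.subgroupOf N).subgroupOf
        (Subgroup.normalizer ((Q.subgroupOf N : Subgroup N) : Set N))) := by
    have := isDefectGroup_comap_mulEquiv (M := M) (p := p) (normInEquiv N Q hQN) e₁ _ h₁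
    rwa [comap_normInEquiv] at this
  have hd₂ : Cfsg.IsDefectGroup p M (irrComp (normInEquiv N Q hQN) '' e₂)
      ((Q.subgroupOf N).subgroupOf
        (Subgroup.normalizer ((Q.subgroupOf N : Subgroup N) : Set N))) := by
    have := isDefectGroup_comap_mulEquiv (M := M) (p := p) (normInEquiv N Q hQN) e₂ _ h₂
    rwa [comap_normInEquiv] at this
  have k₁ := isInducedBlock_of_isInducedBlockIn N Q hQN e₁ d hi₁
  have k₂ := isInducedBlock_of_isInducedBlockIn N Q hQN e₂ d hi₂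
  have heq := firstMain_ii_unique hM (Q.subgroupOf N) hQ' d _ _ hd₁ hd₂ k₁ k₂
  exact Set.image_injective.mpr (irrComp_injective (normInEquiv N Q hQN)) heq

end Main

end Cfsg.Agent.Helper6.HK
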