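import Mathlib
import Cfsg.Agent.Helper6.HKC
import Cfsg.Agent.Helper6.HKD
import Cfsg.Agent.Helper6.HKF
import Cfsg.Agent.Helper6.BlkNestB

/-!
# Harris–Knörr, part G: the two halves of the correspondence
-/

set_option autoImplicit false
set_option linter.style.haveILetI false

namespace Cfsg.Agent.Helper6.HK

open Cfsg.Agent.Helper6 Cfsg.Agent.Helper6.Kn

universe u

variable {G : Type u} [Group G] {M : Ideal Cfsg.AlgInt}

/-- elements of `N` fix every set of irreducible characters of `N` -/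
theorem nact_of_mem [Finite G] (N : Subgroup G) [hN : N.Normal] (n : G) (hn : n ∈ N)
    (b : Set (Cfsg.IrrCharacter N)) : nact N n b = b :=
  (nact_eq_self_iff N n b).mpr (stabilizesBlock_of_mem_self N b n hn)

/-- defect groups of a conjugate block of a normal subgroup -/
theorem isDefectGroup_nact [Finite G] {p : ℕ} [hp : Fact p.Prime] (N : Subgroup G)
    [hN : N.Normal] (b : Set (Cfsg.IrrCharacter N)) (R : Subgroup G)
    (hdef : Cfsg.IsDefectGroup p M b (R.subgroupOf N)) (g : G) :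
    Cfsg.IsDefectGroup p M (nact N g b) ((R.map (MulAut.conj g).toMonoidHom).subgroupOf N) := by
  obtain ⟨φ, hφ⟩ : ∃ φ : N ≃* N, φ = MulEquiv.ofBijective
      (nconjHom N g (mem_normalizer_of_normal N g))
      (nconjHom_bijective N g (mem_normalizer_of_normal N g)) := ⟨_, rfl⟩
  have hφa : ∀ n : N, ((φ n : N) : G) = g⁻¹ * (n : G) * g := by
    intro n
    rw [hφ]
    rfl
  have h1 := isDefectGroup_comap_mulEquiv (M := M) (p := p) φ b _ hdef
  have h2 : irrComp φ '' b = nact N g b := by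
    unfold nact
    apply Set.image_congr
    intro χ _
    apply Subtype.ext
    funext n
    rw [irrComp_apply, nconjIrr_apply, hφ]
    rfl
  rw [h2] at h1
  convert h1 using 1
  ext n
  rw [Subgroup.mem_subgroupOf, Subgroup.mem_comap, Subgroup.mem_subgroupOf]
  simp only [MulEquiv.coe_toMonoidHom]
  rw [hφa]
  constructor
  · rintro ⟨y, hy, hyn⟩
    simp only [MulEquiv.coe_toMonoidHom, MulAut.conj_apply] at hyn
    have e : g⁻¹ * (n : G) * g = y := by
      rw [← hyn]
      group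
    rw [e]
    exact hy
  · intro hy
    refine ⟨g⁻¹ * (n : G) * g, hy, ?_⟩
    simp only [MulEquiv.coe_toMonoidHom, MulAut.conj_apply]
    group

/-- the normalizer of `P` normalizes `P ∩ N` -/
theorem normalizer_le_normalizer_inf (P N : Subgroup G) [hN : N.Normal] :
    Subgroup.normalizer (P : Set G) ≤ Subgroup.normalizer ((P ⊓ N : Subgroup G) : Set G) := by
  intro x hx
  rw [Subgroup.mem_normalizer_iff] at hx ⊢
  intro y
  rw [Subgroup.mem_inf, Subgroup.mem_inf, ← hx y]
  constructor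
  · rintro ⟨h1, h2⟩
    exact ⟨h1, hN.conj_mem y h2 x⟩
  · rintro ⟨h1, h2⟩
    refine ⟨h1, ?_⟩
    have := hN.conj_mem _ h2 x⁻¹
    have e : x⁻¹ * (x * y * x⁻¹) * x⁻¹⁻¹ = y := by group
    rwa [e] at this

section Main

variable [Fintype G] {p : ℕ} [hp : Fact p.Prime]

/-- **Harris–Knörr, first half**: a block of `N_G(Q)` covering the Brauer correspondent `e` of `d`
induces a block of `G`, which covers `d`. -/
theorem harris_knorr_up (hM : Cfsg.IsPModular p M) (N : Subgroup G) [hN : N.Normal] [Fintype N]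
    (Q : Subgroup G) (hQN : Q ≤ N)
    [Fintype ↥(Subgroup.normalizer (Q : Set G) ⊓ N)]
    (d : Set (Cfsg.IrrCharacter N))
    (e : Set (Cfsg.IrrCharacter ↥(Subgroup.normalizer (Q : Set G) ⊓ N)))
    (he : Cfsg.IsPBlock M e)
    (heQ : Cfsg.IsDefectGroup p M e (Q.subgroupOf (Subgroup.normalizer (Q : Set G) ⊓ N)))
    (hed : Cfsg.IsInducedBlockIn M N (Subgroup.normalizer (Q : Set G) ⊓ N) e d)
    (c : Set (Cfsg.IrrCharacter ↥(Subgroup.normalizer (Q : Set G)))) (hc : Cfsg.IsPBlock M c)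
    (hcov : ∃ ψ ∈ c, ∃ ξ ∈ e,
      Cfsg.classInner (fun l : ↥(Subgroup.normalizer (Q : Set G) ⊓ N) =>
        (ψ : ↥(Subgroup.normalizer (Q : Set G)) → ℂ) ⟨(l : G), l.2.1⟩)
        (ξ : ↥(Subgroup.normalizer (Q : Set G) ⊓ N) → ℂ) ≠ 0) :
    ∃ B : Set (Cfsg.IrrCharacter G),
      Cfsg.IsInducedBlock M (Subgroup.normalizer (Q : Set G)) c B ∧
      ∃ χ ∈ B, ∃ θ ∈ d, Cfsg.classInner (fun n : N => (χ : G → ℂ) n) (θ : N → ℂ) ≠ 0 := by
  classical
  obtain ⟨H, hH⟩ : ∃ H : Subgroup G, H = Subgroup.normalizer (Q : Set G) := ⟨_, rfl⟩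
  subst hH
  haveI : Fintype ↥(Subgroup.normalizer (Q : Set G)) := Fintype.ofFinite _
  have hLH : Subgroup.normalizer (Q : Set G) ⊓ N ≤ Subgroup.normalizer (Q : Set G) := inf_le_left
  have hLN : Subgroup.normalizer (Q : Set G) ⊓ N ≤ N := inf_le_right
  haveI hLn : ((Subgroup.normalizer (Q : Set G) ⊓ N).subgroupOf
      (Subgroup.normalizer (Q : Set G))).Normal := by
    rw [Subgroup.inf_subgroupOf_left]
    infer_instance
  have hQL : Q ≤ Subgroup.normalizer (Q : Set G) ⊓ N := le_inf Subgroup.le_normalizer hQN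
  obtain ⟨D, hD, hDQ⟩ := knorr_meet_sub hM (Subgroup.normalizer (Q : Set G) ⊓ N)
    (Subgroup.normalizer (Q : Set G)) hLH e he Q hQL heQ c hc hcov
  have hQD : Q ≤ D.map (Subgroup.normalizer (Q : Set G)).subtype :=
    (le_of_eq hDQ.symm).trans inf_le_left
  have hC : Subgroup.centralizer ((D.map (Subgroup.normalizer (Q : Set G)).subtype :
      Subgroup G) : Set G) ≤ Subgroup.normalizer (Q : Set G) :=
    (Subgroup.centralizer_le (by exact_mod_cast hQD)).trans (Subgroup.centralizer_le_normalizer _)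
  obtain ⟨B₀, P, hind, -, -, -⟩ := induced_of_centralizer_le_aux hM _ c hc D hD hC
  exact ⟨B₀, hind, induced_covers hM.2.1 N (Subgroup.normalizer (Q : Set G))
    (Subgroup.normalizer (Q : Set G) ⊓ N) hLH hLN le_rfl c hc e he hcov d hed B₀ hind⟩

end Main

end Cfsg.Agent.Helper6.HK
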