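import Mathlib
import Cfsg.Agent.Helper6.HKG

/-!
# Harris–Knörr, part H: from `G` down to `N_G(Q)`
-/

set_option autoImplicit false
set_option linter.style.haveILetI false

namespace Cfsg.Agent.Helper6.HK

open Cfsg.Agent.Helper6 Cfsg.Agent.Helper6.Kn

universe u

variable {G : Type u} [Group G] {M : Ideal Cfsg.AlgInt}

variable [Fintype G] {p : ℕ} [hp : Fact p.Prime]

/-- **Harris–Knörr, second half, existence**: a block of `G` covering `d` is induced from a block of
`N_G(Q)` covering the Brauer correspondent `e` of `d`. -/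
theorem harris_knorr_down_exists (hM : Cfsg.IsPModular p M) (N : Subgroup G) [hN : N.Normal]
    [Fintype N] (Q : Subgroup G) (hQ : IsPGroup p Q) (hQN : Q ≤ N)
    [Fintype ↥(Subgroup.normalizer (Q : Set G) ⊓ N)]
    (d : Set (Cfsg.IrrCharacter N)) (hd : Cfsg.IsPBlock M d)
    (hdQ : Cfsg.IsDefectGroup p M d (Q.subgroupOf N))
    (e : Set (Cfsg.IrrCharacter ↥(Subgroup.normalizer (Q : Set G) ⊓ N)))
    (he : Cfsg.IsPBlock M e)
    (heQ : Cfsg.IsDefectGroup p M e (Q.subgroupOf (Subgroup.normalizer (Q : Set G) ⊓ N)))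
    (hed : Cfsg.IsInducedBlockIn M N (Subgroup.normalizer (Q : Set G) ⊓ N) e d)
    (B : Set (Cfsg.IrrCharacter G)) (hB : Cfsg.IsPBlock M B)
    (hcovD : ∃ χ ∈ B, ∃ θ ∈ d,
      Cfsg.classInner (fun n : N => (χ : G → ℂ) n) (θ : N → ℂ) ≠ 0) :
    ∃ c : Set (Cfsg.IrrCharacter ↥(Subgroup.normalizer (Q : Set G))), Cfsg.IsPBlock M c ∧
      (∃ ψ ∈ c, ∃ ξ ∈ e,
        Cfsg.classInner (fun l : ↥(Subgroup.normalizer (Q : Set G) ⊓ N) =>
          (ψ : ↥(Subgroup.normalizer (Q : Set G)) → ℂ) ⟨(l : G), l.2.1⟩)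
          (ξ : ↥(Subgroup.normalizer (Q : Set G) ⊓ N) → ℂ) ≠ 0) ∧
      Cfsg.IsInducedBlock M (Subgroup.normalizer (Q : Set G)) c B := by
  classical
  haveI : Fintype ↥(Subgroup.normalizer (Q : Set G)) := Fintype.ofFinite _
  have hMm := hM.2.1
  have hLH : Subgroup.normalizer (Q : Set G) ⊓ N ≤ Subgroup.normalizer (Q : Set G) := inf_le_left
  have hLN : Subgroup.normalizer (Q : Set G) ⊓ N ≤ N := inf_le_right
  haveI hLn : ((Subgroup.normalizer (Q : Set G) ⊓ N).subgroupOf
      (Subgroup.normalizer (Q : Set G))).Normal := by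
    rw [Subgroup.inf_subgroupOf_left]
    infer_instance
  -- a defect group of `B` meeting `N` in `Q`
  obtain ⟨P, hP, hPN⟩ := knorr_meet hM N d hd Q hQN hdQ B hB hcovD
  have hPp : IsPGroup p P := IsDefectGroup.isPGroup hM B hB P hP
  have hNP : Subgroup.normalizer (P : Set G) ≤ Subgroup.normalizer (Q : Set G) := by
    have := normalizer_le_normalizer_inf P N
    rwa [hPN] at this
  have hPH : P ≤ Subgroup.normalizer (Q : Set G) := Subgroup.le_normalizer.trans hNP
  -- the correspondent in `N_G(Q)`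
  obtain ⟨c, hc, hDc, hind⟩ := extFirstMain_down hM P _ hPp hNP B hB hP
  -- a block of `L` covered by `c` with defect group `Q`
  obtain ⟨e₂, he₂, hcov₂, hdef₂⟩ := knorr_defect_sub hM (Subgroup.normalizer (Q : Set G) ⊓ N)
    (Subgroup.normalizer (Q : Set G)) hLH c hc _ hDc
  have hPL : (P.subgroupOf (Subgroup.normalizer (Q : Set G))).map
      (Subgroup.normalizer (Q : Set G)).subtype ⊓ (Subgroup.normalizer (Q : Set G) ⊓ N) = Q := by
    rw [Subgroup.map_subgroupOf_eq_of_le hPH]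
    apply le_antisymm
    · intro x hx
      have : x ∈ P ⊓ N := ⟨hx.1, hx.2.2⟩
      rwa [hPN] at this
    · intro x hx
      have h1 : x ∈ P ⊓ N := by rw [hPN]; exact hx
      exact ⟨h1.1, Subgroup.le_normalizer hx, h1.2⟩
  rw [hPL] at hdef₂
  -- its induced block
  obtain ⟨d₂, hd₂, hDd₂, hed₂⟩ := firstMainIn_exists hM N Q hQ hQN e₂ he₂ hdef₂
  have hcovD₂ := induced_covers hMm N (Subgroup.normalizer (Q : Set G))
    (Subgroup.normalizer (Q : Set G) ⊓ N) hLH hLN le_rfl c hc e₂ he₂ hcov₂ d₂ hed₂ B hind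
  -- `d₂` is a conjugate of `d` by an element of `N_G(Q)`
  obtain ⟨g, hg⟩ := covered_conj hMm N B hB d d₂ hd hd₂ hcovD hcovD₂
  have hdefg := isDefectGroup_nact (M := M) (p := p) N d Q hdQ g
  rw [← hg] at hdefg
  obtain ⟨n, hn⟩ := exists_conj_eq_of_isDefectGroup hM d₂ hd₂ (Q.subgroupOf N) _ hDd₂ hdefg
  obtain ⟨h, hhdef⟩ : ∃ h : G, h = (n : G) * g := ⟨_, rfl⟩
  have hconj : ∀ q ∈ Q, h * q * h⁻¹ ∈ Q := by
    intro q hq
    have h1 : g * q * g⁻¹ ∈ Q.map (MulAut.conj g).toMonoidHom := ⟨q, hq, rfl⟩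
    have h1N : g * q * g⁻¹ ∈ N := hN.conj_mem q (hQN hq) g
    have h2 : (MulAut.conj n).toMonoidHom (⟨g * q * g⁻¹, h1N⟩ : N) ∈ Q.subgroupOf N := by
      rw [← hn]
      exact Subgroup.mem_map_of_mem _ (Subgroup.mem_subgroupOf.mpr h1)
    rw [Subgroup.mem_subgroupOf] at h2
    have e1 : ((MulAut.conj n).toMonoidHom (⟨g * q * g⁻¹, h1N⟩ : N) : G) = h * q * h⁻¹ := by
      rw [hhdef]
      simp only [MulEquiv.coe_toMonoidHom, MulAut.conj_apply, Subgroup.coe_mul,
        Subgroup.coe_inv]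
      group
    rwa [e1] at h2
  have hhQ : h ∈ Subgroup.normalizer (Q : Set G) := by
    haveI : Finite Q := inferInstance
    rw [Subgroup.mem_normalizer_iff]
    have hinj : Function.Injective (fun q : Q => (⟨h * q * h⁻¹, hconj q q.2⟩ : Q)) := by
      intro a b hab
      have := congrArg Subtype.val hab
      simp only at this
      exact Subtype.ext (mul_left_cancel (mul_right_cancel this))
    have hsurj := Finite.surjective_of_injective hinj
    intro y
    constructor
    · intro hy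
      exact hconj y hy
    · intro hy
      obtain ⟨q, hq⟩ := hsurj ⟨_, hy⟩
      have h3 := congrArg Subtype.val hq
      simp only at h3
      have : (q : G) = y := mul_left_cancel (mul_right_cancel h3)
      rw [← this]
      exact q.2
  have hhL : h ∈ Subgroup.normalizer
      ((Subgroup.normalizer (Q : Set G) ⊓ N : Subgroup G) : Set G) :=
    normalizer_le_normalizer_inf _ N (Subgroup.le_normalizer hhQ)
  have hd₂h : nact N h d = d₂ := by
    rw [hhdef, nact_mul, ← hg]
    exact nact_of_mem N n n.2 d₂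
  -- the conjugate of `e` induces `d₂` and has defect group `Q`
  have hed_h := isInducedBlockIn_conj (M := M) N _ h hhL e d hed
  rw [hd₂h] at hed_h
  have hdef_h := isDefectGroup_nconjIrr (M := M) (p := p) _ Q h hhL hhQ e heQ
  have heq := firstMainIn_unique hM N Q hQ hQN e₂ _ hdef₂ hdef_h d₂ hed₂ hed_h
  -- so `c` covers `e`
  have hh' : h⁻¹ ∈ Subgroup.normalizer (Q : Set G) := Subgroup.inv_mem _ hhQ
  have hhL' : h⁻¹ ∈ Subgroup.normalizer
      ((Subgroup.normalizer (Q : Set G) ⊓ N : Subgroup G) : Set G) := Subgroup.inv_mem _ hhL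
  have hcov₃ := cover_nconjIrr (Subgroup.normalizer (Q : Set G))
    (Subgroup.normalizer (Q : Set G) ⊓ N) hLH h⁻¹ hh' hhL' c e₂ hcov₂
  have hback : nconjIrr _ h⁻¹ hhL' '' e₂ = e := by
    rw [heq, Set.image_image]
    have : (fun x => nconjIrr _ h⁻¹ hhL' (nconjIrr
        (Subgroup.normalizer (Q : Set G) ⊓ N) h hhL x)) = id := by
      funext x
      exact nconjIrr_inv_cancel' _ h hhL hhL' x
    rw [this, Set.image_id]
  rw [hback] at hcov₃
  exact ⟨c, hc, hcov₃, hind⟩

end Cfsg.Agent.Helper6.HK
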