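import Mathlib
import Cfsg.Agent.Helper6.HKH

/-!
# Harris–Knörr, part I: uniqueness, and the theorem
-/

set_option autoImplicit false
set_option linter.style.haveILetI false

namespace Cfsg.Agent.Helper6.HK

open Cfsg.Agent.Helper6 Cfsg.Agent.Helper6.Kn

universe u

variable {G : Type u} [Group G] {M : Ideal Cfsg.AlgInt}

variable [Fintype G] {p : ℕ} [hp : Fact p.Prime]

/-- a block of `N_G(Q)` covering `e` has a defect group `D` with `D ∩ N = Q`; such a `D` has its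
normalizer inside `N_G(Q)` -/
theorem exists_defectGroup_of_cover (hM : Cfsg.IsPModular p M) (N : Subgroup G) [hN : N.Normal]
    [Fintype N] (Q : Subgroup G) (hQN : Q ≤ N)
    [Fintype ↥(Subgroup.normalizer (Q : Set G) ⊓ N)]
    (e : Set (Cfsg.IrrCharacter ↥(Subgroup.normalizer (Q : Set G) ⊓ N)))
    (he : Cfsg.IsPBlock M e)
    (heQ : Cfsg.IsDefectGroup p M e (Q.subgroupOf (Subgroup.normalizer (Q : Set G) ⊓ N)))
    (c : Set (Cfsg.IrrCharacter ↥(Subgroup.normalizer (Q : Set G)))) (hc : Cfsg.IsPBlock M c)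
    (hcov : ∃ ψ ∈ c, ∃ ξ ∈ e,
      Cfsg.classInner (fun l : ↥(Subgroup.normalizer (Q : Set G) ⊓ N) =>
        (ψ : ↥(Subgroup.normalizer (Q : Set G)) → ℂ) ⟨(l : G), l.2.1⟩)
        (ξ : ↥(Subgroup.normalizer (Q : Set G) ⊓ N) → ℂ) ≠ 0) :
    ∃ P : Subgroup G, P ≤ Subgroup.normalizer (Q : Set G) ∧ P ⊓ N = Q ∧
      Cfsg.IsDefectGroup p M c (P.subgroupOf (Subgroup.normalizer (Q : Set G))) := by
  classical
  haveI : Fintype ↥(Subgroup.normalizer (Q : Set G)) := Fintype.ofFinite _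
  have hLH : Subgroup.normalizer (Q : Set G) ⊓ N ≤ Subgroup.normalizer (Q : Set G) := inf_le_left
  haveI hLn : ((Subgroup.normalizer (Q : Set G) ⊓ N).subgroupOf
      (Subgroup.normalizer (Q : Set G))).Normal := by
    rw [Subgroup.inf_subgroupOf_left]
    infer_instance
  have hQL : Q ≤ Subgroup.normalizer (Q : Set G) ⊓ N := le_inf Subgroup.le_normalizer hQN
  obtain ⟨D, hD, hDQ⟩ := knorr_meet_sub hM (Subgroup.normalizer (Q : Set G) ⊓ N)
    (Subgroup.normalizer (Q : Set G)) hLH e he Q hQL heQ c hc hcov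
  refine ⟨D.map (Subgroup.normalizer (Q : Set G)).subtype, ?_, ?_, ?_⟩
  · rintro _ ⟨y, -, rfl⟩
    exact y.2
  · apply le_antisymm
    · intro x hx
      have hxH : x ∈ Subgroup.normalizer (Q : Set G) := by
        obtain ⟨y, -, rfl⟩ := hx.1
        exact y.2
      have : x ∈ D.map (Subgroup.normalizer (Q : Set G)).subtype ⊓
          (Subgroup.normalizer (Q : Set G) ⊓ N) := ⟨hx.1, hxH, hx.2⟩
      exact (le_of_eq hDQ) this
    · intro x hx
      have := (le_of_eq hDQ.symm) hx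
      exact ⟨this.1, this.2.2⟩
  · have : (D.map (Subgroup.normalizer (Q : Set G)).subtype).subgroupOf
        (Subgroup.normalizer (Q : Set G)) = D :=
      Subgroup.comap_map_eq_self_of_injective (Subgroup.subtype_injective _) D
    rw [this]
    exact hD

/-- **Harris–Knörr, second half, uniqueness** -/
theorem harris_knorr_down_unique (hM : Cfsg.IsPModular p M) (N : Subgroup G) [hN : N.Normal]
    [Fintype N] (Q : Subgroup G) (hQN : Q ≤ N)
    [Fintype ↥(Subgroup.normalizer (Q : Set G) ⊓ N)]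
    (e : Set (Cfsg.IrrCharacter ↥(Subgroup.normalizer (Q : Set G) ⊓ N)))
    (he : Cfsg.IsPBlock M e)
    (heQ : Cfsg.IsDefectGroup p M e (Q.subgroupOf (Subgroup.normalizer (Q : Set G) ⊓ N)))
    (B : Set (Cfsg.IrrCharacter G))
    (c₁ c₂ : Set (Cfsg.IrrCharacter ↥(Subgroup.normalizer (Q : Set G))))
    (hc₁ : Cfsg.IsPBlock M c₁) (hc₂ : Cfsg.IsPBlock M c₂)
    (hcov₁ : ∃ ψ ∈ c₁, ∃ ξ ∈ e,
      Cfsg.classInner (fun l : ↥(Subgroup.normalizer (Q : Set G) ⊓ N) =>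
        (ψ : ↥(Subgroup.normalizer (Q : Set G)) → ℂ) ⟨(l : G), l.2.1⟩)
        (ξ : ↥(Subgroup.normalizer (Q : Set G) ⊓ N) → ℂ) ≠ 0)
    (hcov₂ : ∃ ψ ∈ c₂, ∃ ξ ∈ e,
      Cfsg.classInner (fun l : ↥(Subgroup.normalizer (Q : Set G) ⊓ N) =>
        (ψ : ↥(Subgroup.normalizer (Q : Set G)) → ℂ) ⟨(l : G), l.2.1⟩)
        (ξ : ↥(Subgroup.normalizer (Q : Set G) ⊓ N) → ℂ) ≠ 0)
    (hind₁ : Cfsg.IsInducedBlock M (Subgroup.normalizer (Q : Set G)) c₁ B)
    (hind₂ : Cfsg.IsInducedBlock M (Subgroup.normalizer (Q : Set G)) c₂ B) : c₁ = c₂ := by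
  classical
  have hMm := hM.2.1
  have hB := hind₁.2.1
  obtain ⟨P₁, hP₁H, hP₁N, hD₁⟩ := exists_defectGroup_of_cover hM N Q hQN e he heQ c₁ hc₁ hcov₁
  obtain ⟨P₂, hP₂H, hP₂N, hD₂⟩ := exists_defectGroup_of_cover hM N Q hQN e he heQ c₂ hc₂ hcov₂
  have hNP₁ : Subgroup.normalizer (P₁ : Set G) ≤ Subgroup.normalizer (Q : Set G) := by
    have := normalizer_le_normalizer_inf P₁ N
    rwa [hP₁N] at this
  have hNP₂ : Subgroup.normalizer (P₂ : Set G) ≤ Subgroup.normalizer (Q : Set G) := by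
    have := normalizer_le_normalizer_inf P₂ N
    rwa [hP₂N] at this
  have hP₁p : IsPGroup p P₁ := by
    have h1 := IsDefectGroup.isPGroup hM c₁ hc₁ _ hD₁
    have h2 : IsPGroup p ((P₁.subgroupOf (Subgroup.normalizer (Q : Set G))).map
        (Subgroup.normalizer (Q : Set G)).subtype) := h1.map _
    rwa [Subgroup.map_subgroupOf_eq_of_le hP₁H] at h2
  have hP₂p : IsPGroup p P₂ := by
    have h1 := IsDefectGroup.isPGroup hM c₂ hc₂ _ hD₂
    have h2 : IsPGroup p ((P₂.subgroupOf (Subgroup.normalizer (Q : Set G))).map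
        (Subgroup.normalizer (Q : Set G)).subtype) := h1.map _
    rwa [Subgroup.map_subgroupOf_eq_of_le hP₂H] at h2
  -- `P₁` and `P₂` are defect groups of `B`
  obtain ⟨B₁, -, hDB₁, hi₁⟩ := extFirstMain_up hM P₁ _ hP₁p hNP₁ c₁ hc₁ hD₁
  obtain ⟨B₂, -, hDB₂, hi₂⟩ := extFirstMain_up hM P₂ _ hP₂p hNP₂ c₂ hc₂ hD₂
  have e₁ : B₁ = B := isInducedBlock_unique hMm _ c₁ B₁ B hi₁ hind₁
  have e₂ : B₂ = B := isInducedBlock_unique hMm _ c₂ B₂ B hi₂ hind₂
  rw [e₁] at hDB₁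
  rw [e₂] at hDB₂
  obtain ⟨g, hg⟩ := exists_conj_eq_of_isDefectGroup hM B hB P₁ P₂ hDB₁ hDB₂
  -- `g` normalizes `Q`
  have hconj : ∀ q ∈ Q, g * q * g⁻¹ ∈ Q := by
    intro q hq
    have hq2 : q ∈ P₂ ⊓ N := by rw [hP₂N]; exact hq
    have h1 : g * q * g⁻¹ ∈ P₁ := by
      rw [← hg]
      exact ⟨q, hq2.1, rfl⟩
    have : g * q * g⁻¹ ∈ P₁ ⊓ N := ⟨h1, hN.conj_mem q hq2.2 g⟩
    rwa [hP₁N] at this
  have hgQ : g ∈ Subgroup.normalizer (Q : Set G) := by
    rw [Subgroup.mem_normalizer_iff]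
    intro y
    constructor
    · intro hy
      exact hconj y hy
    · intro hy
      -- `g y g⁻¹ ∈ Q ≤ P₁ = g P₂ g⁻¹`, so `y ∈ P₂`; and `y ∈ N`
      have hy1 : g * y * g⁻¹ ∈ P₁ ⊓ N := by rw [hP₁N]; exact hy
      have hyP : y ∈ P₂ := by
        have := hy1.1
        rw [← hg] at this
        obtain ⟨z, hz, hzy⟩ := this
        simp only [MulEquiv.coe_toMonoidHom, MulAut.conj_apply] at hzy
        have : z = y := mul_left_cancel (mul_right_cancel hzy)
        rwa [← this]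
      have hyN : y ∈ N := by
        have := hN.conj_mem _ hy1.2 g⁻¹
        have e : g⁻¹ * (g * y * g⁻¹) * g⁻¹⁻¹ = y := by group
        rwa [e] at this
      have : y ∈ P₂ ⊓ N := ⟨hyP, hyN⟩
      rwa [hP₂N] at this
  -- `c₂` has defect group `P₁` as well
  have hD₂' : Cfsg.IsDefectGroup p M c₂ (P₁.subgroupOf (Subgroup.normalizer (Q : Set G))) := by
    have h1 := isDefectGroup_conj (M := M) (p := p) c₂ _ hD₂
      (⟨g, hgQ⟩ : ↥(Subgroup.normalizer (Q : Set G)))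
    convert h1 using 1
    ext x
    rw [Subgroup.mem_subgroupOf, ← hg]
    constructor
    · rintro ⟨z, hz, hzx⟩
      refine ⟨⟨z, hP₂H hz⟩, Subgroup.mem_subgroupOf.mpr hz, ?_⟩
      apply Subtype.ext
      exact hzx
    · rintro ⟨z, hz, hzx⟩
      refine ⟨(z : G), Subgroup.mem_subgroupOf.mp hz, ?_⟩
      have := congrArg Subtype.val hzx
      exact this
  exact extFirstMain_unique hM P₁ _ hP₁p hNP₁ c₁ c₂ hD₁ hD₂' B hind₁ hind₂

end Cfsg.Agent.Helper6.HK
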