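import Mathlib
import Cfsg.Prelude.Def_Characters
import Cfsg.Prelude.Def_Blocks
import Cfsg.Prelude.Def_Local
import Cfsg.Agent.Helper6.ItoMichler
import Cfsg.Agent.Helper6.PrincipalSolv
import Cfsg.Agent.Helper6.PrincipalDefect
import Cfsg.Agent.Helper4.HallHigman

/-!
# Brauer's height zero conjecture for the principal block of a `p`-solvable group
-/

set_option autoImplicit false
set_option linter.style.haveILetI false

namespace Cfsg.Agent.Helper6

open scoped ComplexConjugate

universe u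

variable {G : Type u} [Group G] {M : Ideal Cfsg.AlgInt}

/-- In a `p`-solvable group with trivial `p'`-core and abelian Sylow `p`-subgroups all degrees are
prime to `p`. -/
theorem degrees_of_abelian_sylow_core_free [Finite G] (p : ℕ) [hp : Fact p.Prime]
    (hsolv : Cfsg.IsPSolvable p G) (hO : Cfsg.pPrimeCore p G = ⊥) (A : Subgroup G)
    (hAp : IsPGroup p A) (hAidx : ¬ p ∣ A.index) (hAab : ∀ x ∈ A, ∀ y ∈ A, x * y = y * x)
    (χ : Cfsg.IrrCharacter G) : ¬ p ∣ Cfsg.charDegree (χ : G → ℂ) := by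
  have hle : Cfsg.pCore p G ≤ A := Helper1.pCore_le_sylow (hAp.toSylow hAidx)
  have hcen := Helper4.centralizer_pCore_le_of_isPSolvable hsolv hO
  have hAle : A ≤ Cfsg.pCore p G := by
    refine le_trans ?_ hcen
    intro x hx
    rw [Subgroup.mem_centralizer_iff]
    intro y hy
    exact hAab y (hle hy) x hx
  have hAeq : A = Cfsg.pCore p G := le_antisymm hAle hle
  haveI : A.Normal := by rw [hAeq]; infer_instance
  exact not_dvd_degree_of_abelian_normal p A hAab hAidx χ

theorem charDegree_trivIrr : Cfsg.charDegree ((trivIrr G : Cfsg.IrrCharacter G) : G → ℂ) = 1 := by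
  unfold Cfsg.charDegree trivIrr
  simp

/-- In the principal block, height zero means degree prime to `p`. -/
theorem principal_height_zero_iff (hM : M.IsMaximal) (p : ℕ) [hp : Fact p.Prime]
    (χ : Cfsg.IrrCharacter G) :
    Cfsg.blockHeight p (Cfsg.principalBlock M G) (χ : G → ℂ) = 0 ↔
      ¬ p ∣ Cfsg.charDegree (χ : G → ℂ) := by
  have hinf : sInf ((fun ψ : Cfsg.IrrCharacter G => (Cfsg.charDegree (ψ : G → ℂ)).factorization p) ''
      Cfsg.principalBlock M G) = 0 := by
    apply Nat.eq_zero_of_le_zero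
    apply Nat.sInf_le
    refine ⟨trivIrr G, trivIrr_mem_principalBlock hM, ?_⟩
    simp only
    rw [charDegree_trivIrr, Nat.factorization_one]
    rfl
  unfold Cfsg.blockHeight
  rw [hinf, Nat.sub_zero]
  have hd0 : Cfsg.charDegree (χ : G → ℂ) ≠ 0 := by
    intro h0
    have h1 := charDegree_cast_of_isCharacter (IsIrrCharacter.isCharacter χ.2)
    rw [h0, Nat.cast_zero] at h1
    exact IsIrrCharacter.apply_one_ne_zero χ.2 h1.symm
  rw [Nat.factorization_eq_zero_iff]
  constructor
  · rintro (h | h | h)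
    · exact absurd hp.out h
    · exact h
    · exact absurd h hd0
  · intro h
    exact Or.inr (Or.inl h)

/-- **Height zero for the principal block of a `p`-solvable group.** -/
theorem height_zero_principal_psolvable [Finite G] (p : ℕ) [hp : Fact p.Prime]
    (hM : Cfsg.IsPModular p M) (hsolv : Cfsg.IsPSolvable p G) (P : Sylow p G) :
    (∀ x ∈ (P : Subgroup G), ∀ y ∈ (P : Subgroup G), x * y = y * x) ↔
      ∀ χ ∈ Cfsg.principalBlock M G,
        Cfsg.blockHeight p (Cfsg.principalBlock M G) (χ : G → ℂ) = 0 := by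
  classical
  obtain ⟨K, hK⟩ : ∃ K : Subgroup G, K = Cfsg.pPrimeCore p G := ⟨_, rfl⟩
  haveI hKn : K.Normal := by rw [hK]; infer_instance
  have hKcop : (Nat.card K).Coprime p := by rw [hK]; exact Helper1.card_pPrimeCore_coprime p
  have hsolvQ : Cfsg.IsPSolvable p (G ⧸ K) := Helper4.isPSolvable_quotient hsolv K
  have hOQ : Cfsg.pPrimeCore p (G ⧸ K) = ⊥ := by
    subst hK
    exact Helper1.pPrimeCore_quotient_pPrimeCore p
  have hblock : ∀ χ : Cfsg.IrrCharacter G, χ ∈ Cfsg.principalBlock M G ↔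
      ∀ n ∈ K, (χ : G → ℂ) n = (χ : G → ℂ) 1 := by
    intro χ
    rw [principalBlock_eq_of_isPSolvable p hM hsolv, hK]
    rfl
  have hdegInfl : ∀ χ' : Cfsg.IrrCharacter (G ⧸ K),
      Cfsg.charDegree ((χ' : G ⧸ K → ℂ) ∘ QuotientGroup.mk) =
        Cfsg.charDegree (χ' : G ⧸ K → ℂ) := by
    intro χ'
    unfold Cfsg.charDegree
    rfl
  constructor
  · intro hab χ hχ
    rw [principal_height_zero_iff hM.2.1 p χ]
    obtain ⟨χ', hχ'⟩ := exists_deflate K χ ((hblock χ).mp hχ)
    rw [hχ', hdegInfl]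
    apply degrees_of_abelian_sylow_core_free p hsolvQ hOQ
      ((P : Subgroup G).map (QuotientGroup.mk' K)) (P.isPGroup'.map _)
    · intro hdvd
      exact P.not_dvd_index
        (hdvd.trans (Subgroup.index_map_dvd _ (QuotientGroup.mk'_surjective K)))
    · rintro _ ⟨x, hx, rfl⟩ _ ⟨y, hy, rfl⟩
      rw [← map_mul, ← map_mul, hab x hx y hy]
  · intro hall
    have hdegQ : ∀ χ' : Cfsg.IrrCharacter (G ⧸ K),
        ¬ p ∣ Cfsg.charDegree (χ' : G ⧸ K → ℂ) := by
      intro χ'
      have hmem : (⟨_, isIrrCharacter_inflate K χ'⟩ : Cfsg.IrrCharacter G) ∈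
          Cfsg.principalBlock M G := by
        rw [hblock]
        intro n hn
        change (χ' : G ⧸ K → ℂ) ((n : G) : G ⧸ K) = (χ' : G ⧸ K → ℂ) ((1 : G) : G ⧸ K)
        rw [(QuotientGroup.eq_one_iff n).mpr hn, QuotientGroup.mk_one]
      have h1 := (principal_height_zero_iff hM.2.1 p _).mp (hall _ hmem)
      rw [← hdegInfl]
      exact h1
    obtain ⟨Q, hQn, hQab, hQp, hQidx⟩ := ito_michler_psolvable p hsolvQ hdegQ
    -- the image of `P` lies in `Q`
    have hQS : ((hQp.toSylow hQidx : Sylow p (G ⧸ K)) : Subgroup (G ⧸ K)).Normal := hQn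
    haveI : Unique (Sylow p (G ⧸ K)) := Sylow.unique_of_normal _ hQS
    have himg : (P : Subgroup G).map (QuotientGroup.mk' K) ≤ Q := by
      obtain ⟨S, hS⟩ := (P.isPGroup'.map (QuotientGroup.mk' K)).exists_le_sylow
      have hSQ : S = hQp.toSylow hQidx := Subsingleton.elim _ _
      rw [hSQ] at hS
      exact hS
    intro x hx y hy
    have h1 : ((x * y : G) : G ⧸ K) = ((y * x : G) : G ⧸ K) := by
      rw [QuotientGroup.mk_mul, QuotientGroup.mk_mul]
      exact hQab _ (himg ⟨x, hx, rfl⟩) _ (himg ⟨y, hy, rfl⟩)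
    have h2 : (y * x)⁻¹ * (x * y) ∈ K := QuotientGroup.eq.mp h1.symm
    have h3 : (y * x)⁻¹ * (x * y) ∈ (P : Subgroup G) :=
      (P : Subgroup G).mul_mem ((P : Subgroup G).inv_mem ((P : Subgroup G).mul_mem hy hx))
        ((P : Subgroup G).mul_mem hx hy)
    -- an element of `K ⊓ P` is trivial
    have h4 : (y * x)⁻¹ * (x * y) = 1 := by
      obtain ⟨z, hz⟩ : ∃ z : G, z = (y * x)⁻¹ * (x * y) := ⟨_, rfl⟩
      rw [← hz] at h2 h3 ⊢
      obtain ⟨j, hj⟩ := P.isPGroup' ⟨z, h3⟩
      have hzj : z ^ p ^ j = 1 := by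
        have := congrArg Subtype.val hj
        simpa using this
      have ho1 : orderOf z ∣ p ^ j := orderOf_dvd_of_pow_eq_one hzj
      have ho2 : orderOf z ∣ Nat.card K := by
        have h5 : orderOf (⟨z, h2⟩ : K) ∣ Nat.card K := orderOf_dvd_natCard _
        rwa [← Subgroup.orderOf_coe] at h5
      have hcop : Nat.Coprime (p ^ j) (Nat.card K) := Nat.Coprime.pow_left _ hKcop.symm
      have := Nat.eq_one_of_dvd_coprimes hcop ho1 ho2
      exact orderOf_eq_one_iff.mp this
    calc x * y = (y * x) * ((y * x)⁻¹ * (x * y)) := by group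
      _ = y * x := by rw [h4, mul_one]

end Cfsg.Agent.Helper6
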