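import Mathlib
import Cfsg.Prelude.Def_Characters
import Cfsg.Prelude.Def_Blocks
import Cfsg.Prelude.Def_BlockRank
import Cfsg.Agent.Helper6.MajK

/-!
# The contributions of two characters of height zero at a subsection are local units
-/

set_option autoImplicit false
set_option linter.style.haveILetI false

namespace Cfsg.Agent.Helper6.Hks

open Module
open scoped ComplexConjugate
open Cfsg.Agent.Helper6.Maj

universe u

variable {G : Type u} [Group G] {M : Ideal Cfsg.AlgInt}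

open Classical in
/-- **the contributions are units**: for two characters of height zero of `B`, a
subsection `(y, e)` of `B` and a character `θ₀` of height zero of `e`, the scaled contribution
`|H| / θ₀(1) * m_{χψ}^{(y,e)}` is a local unit -/
theorem scaled_contribution_not_mem [Fintype G] {p : ℕ} [hp : Fact p.Prime]
    (hM : Cfsg.IsPModular p M)
    (B : Set (Cfsg.IrrCharacter G)) (χ ψ : Cfsg.IrrCharacter G) (hχ : χ ∈ B) (hψ : ψ ∈ B)
    (h0χ : Cfsg.blockHeight p B (χ : G → ℂ) = 0) (h0ψ : Cfsg.blockHeight p B (ψ : G → ℂ) = 0)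
    (y : G) (hy : ∃ k : ℕ, orderOf y = p ^ k) (H : Subgroup G) [Fintype H]
    [Fintype (Cfsg.IrrCharacter H)] (hyH : y ∈ H)
    (hcomm : ∀ t : H, y * (t : G) = (t : G) * y)
    (e : Set (Cfsg.IrrCharacter H)) (he : Cfsg.IsInducedBlock M H e B)
    (θ₀ : Cfsg.IrrCharacter H) (hθ₀ : θ₀ ∈ e)
    (hmin : ∀ θ ∈ e, (Cfsg.charDegree (θ₀ : H → ℂ)).factorization p ≤
      (Cfsg.charDegree (θ : H → ℂ)).factorization p) :
    ¬ Cfsg.MemLocalIdeal M ((Nat.card H : ℂ) / (θ₀ : H → ℂ) 1 *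
      Cfsg.classInner (secPart p H e (χ : G → ℂ) y) (secPart p H e (ψ : G → ℂ) y)) := by
  have hχc := IsIrrCharacter.isCharacter χ.2
  have hχcf := IsCharacter.isClassFunction hχc
  have hψc := IsIrrCharacter.isCharacter ψ.2
  have hψcf := IsCharacter.isClassFunction hψc
  have hθ01 : (θ₀ : H → ℂ) 1 ≠ 0 := IsIrrCharacter.apply_one_ne_zero θ₀.2
  have hc0 : (Nat.card H : ℂ) ≠ 0 := by
    have : 0 < Nat.card H := Nat.card_pos
    exact_mod_cast this.ne'
  -- the twists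
  have hz : (⟨y, hyH⟩ : H) ∈ Subgroup.center H := by
    rw [Subgroup.mem_center_iff]
    intro t
    apply Subtype.ext
    simp only [Subgroup.coe_mul]
    exact (hcomm t).symm
  choose ε hεn hε1 hε using fun θ : Cfsg.IrrCharacter H => exists_center_twist θ ⟨y, hyH⟩ hz
  obtain ⟨k, hk⟩ := hy
  have hzo : orderOf (⟨y, hyH⟩ : H) = p ^ k := by
    rw [← hk]
    exact Subgroup.orderOf_mk y hyH
  have hcoef : ∀ θ' : Cfsg.IrrCharacter H,
      Cfsg.classInner (fun c : H => (ψ : G → ℂ) (y * (c : G))) (θ' : H → ℂ) =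
        ε θ' * Cfsg.classInner (fun c : H => (ψ : G → ℂ) (c : G)) (θ' : H → ℂ) := by
    intro θ'
    have h1 := classInner_twist H (ψ : G → ℂ) y hyH θ' (ε θ') (hε1 θ') (hε θ') 1
    simp only [pow_one] at h1
    exact h1
  have hnat : ∀ θ' : Cfsg.IrrCharacter H, ∃ n : ℕ,
      Cfsg.classInner (fun c : H => (ψ : G → ℂ) (c : G)) (θ' : H → ℂ) = n := fun θ' =>
    classInner_char_char_nat (IsCharacter.restrict H hψc) (IsIrrCharacter.isCharacter θ'.2)
  have hεc : ∀ θ' : Cfsg.IrrCharacter H, conj (ε θ') ^ p ^ k = 1 := by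
    intro θ'
    rw [← map_pow, ← hzo, hεn, map_one]
  -- the coefficients are local and congruent to the multiplicities
  have hdloc : ∀ θ' : Cfsg.IrrCharacter H, Cfsg.MemLocalRing M
      (conj (Cfsg.classInner (fun c : H => (ψ : G → ℂ) (y * (c : G))) (θ' : H → ℂ))) := by
    intro θ'
    obtain ⟨n, hn⟩ := hnat θ'
    rw [hcoef, hn, map_mul, Complex.conj_natCast]
    apply MemLocalRing.mul hM.2.1 _ (memLocalRing_natCast hM.2.1 n)
    apply memLocalRing_of_isIntegral hM.2.1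
    apply IsIntegral.of_pow (n := p ^ k) (pow_pos hp.out.pos k)
    rw [hεc]
    exact isIntegral_one
  have hdcong : ∀ θ' : Cfsg.IrrCharacter H, Cfsg.MemLocalIdeal M
      (conj (Cfsg.classInner (fun c : H => (ψ : G → ℂ) (y * (c : G))) (θ' : H → ℂ)) -
        Cfsg.classInner (fun c : H => (ψ : G → ℂ) (c : G)) (θ' : H → ℂ)) := by
    intro θ'
    obtain ⟨n, hn⟩ := hnat θ'
    rw [hcoef, hn, map_mul, Complex.conj_natCast]
    have h1 : conj (ε θ') * (n : ℂ) - (n : ℂ) = (n : ℂ) * (conj (ε θ') - 1) := by ring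
    rw [h1]
    exact MemLocalIdeal.mul_left hM.2.1 (memLocalRing_natCast hM.2.1 n)
      (memLocalIdeal_sub_one_of_pow hM.2.1 p hp.out hM.2.2 _ k (hεc θ'))
  -- the main formula
  have hfcf := twistRes_isClassFunction H hχcf y hcomm
  have hfint : ∀ t : H, IsIntegral ℤ ((χ : G → ℂ) (y * (t : G))) := fun t =>
    IsCharacter.isIntegral_value hχc _
  have hform : (Nat.card H : ℂ) / (θ₀ : H → ℂ) 1 *
      Cfsg.classInner (secPart p H e (χ : G → ℂ) y) (secPart p H e (ψ : G → ℂ) y) =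
      ∑ θ' : Cfsg.IrrCharacter H, if θ' ∈ e then
        conj (Cfsg.classInner (fun c : H => (ψ : G → ℂ) (y * (c : G))) (θ' : H → ℂ)) *
          (Sinv p (fun c : H => (χ : G → ℂ) (y * (c : G))) (θ' : H → ℂ) / (θ₀ : H → ℂ) 1)
        else 0 := by
    rw [secPart_eq_sum p H e (ψ : G → ℂ) y, classInner_sum_right, Finset.mul_sum]
    apply Finset.sum_congr rfl
    intro θ' _
    by_cases hθ' : θ' ∈ e
    · rw [if_pos hθ', if_pos hθ', classInner_smul_right]
      have h1 : Cfsg.classInner (secPart p H e (χ : G → ℂ) y)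
          (Cfsg.pRegularPart p (θ' : H → ℂ)) =
          (Nat.card H : ℂ)⁻¹ *
            Sinv p (fun c : H => (χ : G → ℂ) (y * (c : G))) (θ' : H → ℂ) := by
        unfold secPart
        rw [← classInner_pRegularPart_left, classInner_pRegularPart_eq_Sinv p _
          (IsIrrCharacter.isCharacter θ'.2),
          Sinv_blockPart hM.2.1 p hM.2.2 e he.1 hfcf θ' hθ']
      rw [h1]
      field_simp
    · rw [if_neg hθ', if_neg hθ', classInner_zero_right, mul_zero]
  -- the congruences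
  have hcong1 := sum_Sinv_congr hM e he.1 θ₀ hθ₀ hmin hfcf hfint _ hdloc
  have hQ := Sinv_twist_not_mem hM B χ hχ h0χ y ⟨k, hk⟩ H hcomm e he θ₀ hθ₀
  have hQloc := Sinv_div_memLocalRing (M := M) hM.2.1 p hfcf hfint θ₀
  have hZ' := blockDegree_ratio_not_mem hM B ψ hψ h0ψ H e he θ₀ hθ₀ hmin
  have hZ'loc : Cfsg.MemLocalRing M (∑ θ : Cfsg.IrrCharacter H,
      if θ ∈ e then Cfsg.classInner (fun c : H => (ψ : G → ℂ) (c : G)) (θ : H → ℂ) *
        ((θ : H → ℂ) 1 / (θ₀ : H → ℂ) 1) else 0) := by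
    apply MemLocalRing.sum hM.2.1
    intro θ _
    split_ifs with hθ
    · obtain ⟨n, hn⟩ := hnat θ
      rw [hn]
      exact MemLocalRing.mul hM.2.1 (memLocalRing_natCast hM.2.1 n)
        (degree_ratio_memLocalRing hM θ θ₀ (hmin θ hθ))
    · exact memLocalRing_zero hM.2.1
  have hZdiff : Cfsg.MemLocalIdeal M
      ((∑ θ : Cfsg.IrrCharacter H, if θ ∈ e then
        conj (Cfsg.classInner (fun c : H => (ψ : G → ℂ) (y * (c : G))) (θ : H → ℂ)) *
          ((θ : H → ℂ) 1 / (θ₀ : H → ℂ) 1) else 0) -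
      ∑ θ : Cfsg.IrrCharacter H,
        if θ ∈ e then Cfsg.classInner (fun c : H => (ψ : G → ℂ) (c : G)) (θ : H → ℂ) *
          ((θ : H → ℂ) 1 / (θ₀ : H → ℂ) 1) else 0) := by
    rw [← Finset.sum_sub_distrib]
    apply MemLocalIdeal.sum hM.2.1
    intro θ _
    split_ifs with hθ
    · rw [← sub_mul, mul_comm]
      exact MemLocalIdeal.mul_left hM.2.1 (degree_ratio_memLocalRing hM θ θ₀ (hmin θ hθ))
        (hdcong θ)
    · rw [sub_zero]
      exact memLocalIdeal_zero hM.2.1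
  intro hmem
  rw [hform] at hmem
  -- `Q * Z ∈ M`
  have h1 := MemLocalIdeal.sub hM.2.1 hmem hcong1
  rw [sub_sub_cancel] at h1
  -- hence `Q * Z' ∈ M`
  have h2 := MemLocalIdeal.sub hM.2.1 h1 (MemLocalIdeal.mul_left hM.2.1 hQloc hZdiff)
  rw [← mul_sub, sub_sub_cancel] at h2
  rcases MemLocalIdeal.of_mul hM.2.1 hQloc hZ'loc h2 with h3 | h3
  · exact hQ h3
  · exact hZ' h3

/-- the least `p`-adic valuation of a degree in `e`, in terms of the defect -/
theorem factorization_add_blockDefect {K : Type u} [Group K] [Finite K] (p : ℕ) [hp : Fact p.Prime]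
    (e : Set (Cfsg.IrrCharacter K)) (θ₀ : Cfsg.IrrCharacter K) (hθ₀ : θ₀ ∈ e)
    (hmin : ∀ θ ∈ e, (Cfsg.charDegree (θ₀ : K → ℂ)).factorization p ≤
      (Cfsg.charDegree (θ : K → ℂ)).factorization p) :
    (Cfsg.charDegree (θ₀ : K → ℂ)).factorization p + Cfsg.blockDefect p e =
      (Nat.card K).factorization p := by
  have hle : (Cfsg.charDegree (θ₀ : K → ℂ)).factorization p ≤ (Nat.card K).factorization p := by
    have hdvd := charDegree_dvd_card θ₀.2
    have hpos : Nat.card K ≠ 0 := Nat.card_pos.ne'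
    exact (Nat.factorization_le_iff_dvd (fun h0 => by
      rw [h0] at hdvd
      exact hpos (Nat.eq_zero_of_zero_dvd hdvd)) hpos).mpr hdvd p
  have hinf : sInf ((fun χ : Cfsg.IrrCharacter K =>
      (Cfsg.charDegree (χ : K → ℂ)).factorization p) '' e) =
      (Cfsg.charDegree (θ₀ : K → ℂ)).factorization p := by
    apply le_antisymm
    · exact Nat.sInf_le ⟨θ₀, hθ₀, rfl⟩
    · apply le_csInf
      · exact ⟨_, θ₀, hθ₀, rfl⟩
      · rintro _ ⟨θ, hθ, rfl⟩
        exact hmin θ hθ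
  unfold Cfsg.blockDefect
  rw [hinf]
  omega

open Classical in
/-- **the contributions are units**, scaled by the order of a defect group of `e` -/
theorem pow_defect_contribution_not_mem [Fintype G] {p : ℕ} [hp : Fact p.Prime]
    (hM : Cfsg.IsPModular p M)
    (B : Set (Cfsg.IrrCharacter G)) (χ ψ : Cfsg.IrrCharacter G) (hχ : χ ∈ B) (hψ : ψ ∈ B)
    (h0χ : Cfsg.blockHeight p B (χ : G → ℂ) = 0) (h0ψ : Cfsg.blockHeight p B (ψ : G → ℂ) = 0)
    (y : G) (hy : ∃ k : ℕ, orderOf y = p ^ k) (H : Subgroup G) [Fintype H]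
    [Fintype (Cfsg.IrrCharacter H)] (hyH : y ∈ H)
    (hcomm : ∀ t : H, y * (t : G) = (t : G) * y)
    (e : Set (Cfsg.IrrCharacter H)) (he : Cfsg.IsInducedBlock M H e B) :
    ¬ Cfsg.MemLocalIdeal M ((p : ℂ) ^ Cfsg.blockDefect p e *
      Cfsg.classInner (secPart p H e (χ : G → ℂ) y) (secPart p H e (ψ : G → ℂ) y)) := by
  obtain ⟨θ₁, hθ₁⟩ : ∃ θ₁ : Cfsg.IrrCharacter H, θ₁ ∈ e := by
    obtain ⟨θ₁, hb1⟩ := he.1
    exact ⟨θ₁, hb1 ▸ mem_blockOf_self hM.2.1 θ₁⟩
  obtain ⟨θ₀, hθ₀, hθ₀h⟩ := exists_height_zero p e ⟨θ₁, hθ₁⟩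
  have hmin := (blockHeight_eq_zero_iff e θ₀ hθ₀).mp hθ₀h
  have hunit := scaled_contribution_not_mem hM B χ ψ hχ hψ h0χ h0ψ y hy H hyH hcomm e he θ₀ hθ₀ hmin
  intro hmem
  apply hunit
  have hval := factorization_add_blockDefect p e θ₀ hθ₀ hmin
  set d := Cfsg.blockDefect p e with hd
  have hdeg : ((Cfsg.charDegree (θ₀ : H → ℂ) : ℕ) : ℂ) = (θ₀ : H → ℂ) 1 :=
    charDegree_cast_of_isCharacter (IsIrrCharacter.isCharacter θ₀.2)
  have hdeg0 : Cfsg.charDegree (θ₀ : H → ℂ) ≠ 0 := by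
    intro h0
    have h1 : (θ₀ : H → ℂ) 1 = 0 := by rw [← hdeg, h0, Nat.cast_zero]
    exact IsIrrCharacter.apply_one_ne_zero θ₀.2 h1
  have hp0 : (p : ℂ) ≠ 0 := by exact_mod_cast hp.out.ne_zero
  have hring : Cfsg.MemLocalRing M ((Nat.card H : ℂ) /
      ((Cfsg.charDegree (θ₀ : H → ℂ) * p ^ d : ℕ) : ℂ)) := by
    rw [memLocalRing_natCast_div_iff hM _ _ Nat.card_pos.ne'
      (mul_ne_zero hdeg0 (pow_ne_zero _ hp.out.ne_zero))]
    rw [Nat.factorization_mul hdeg0 (pow_ne_zero _ hp.out.ne_zero), Finsupp.add_apply,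
      Nat.Prime.factorization_pow hp.out, Finsupp.single_eq_same, hval]
  have heq : (Nat.card H : ℂ) / (θ₀ : H → ℂ) 1 *
      Cfsg.classInner (secPart p H e (χ : G → ℂ) y) (secPart p H e (ψ : G → ℂ) y) =
      (Nat.card H : ℂ) / ((Cfsg.charDegree (θ₀ : H → ℂ) * p ^ d : ℕ) : ℂ) *
        ((p : ℂ) ^ d *
          Cfsg.classInner (secPart p H e (χ : G → ℂ) y) (secPart p H e (ψ : G → ℂ) y)) := by
    rw [Nat.cast_mul, Nat.cast_pow, hdeg]
    have h1 : (θ₀ : H → ℂ) 1 ≠ 0 := IsIrrCharacter.apply_one_ne_zero θ₀.2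
    field_simp
  rw [heq]
  exact MemLocalIdeal.mul_left hM.2.1 hring hmem

end Cfsg.Agent.Helper6.Hks
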