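import Mathlib

/-!
# Sums of powers of a `2`-power root of unity over the units of `ZMod (2 ^ j)`, and a parity lemma
-/

set_option autoImplicit false
set_option linter.style.haveILetI false

namespace Cfsg.Agent.Helper6.Hks

open scoped ComplexConjugate

/-- powers of a root of unity only depend on the exponent modulo the order -/
theorem pow_mod_of_pow_eq_one {μ : ℂ} {n : ℕ} (hμ : μ ^ n = 1) (m : ℕ) : μ ^ (m % n) = μ ^ m := by
  conv_rhs => rw [← Nat.div_add_mod m n, pow_add, pow_mul, hμ, one_pow, one_mul]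

/-- the value of a unit of `ZMod n`, `n` even, is odd -/
theorem odd_val_of_unit {n : ℕ} [NeZero n] (hn : Even n) (k : (ZMod n)ˣ) :
    Odd (k : ZMod n).val := by
  have hcop : Nat.Coprime (k : ZMod n).val n := ZMod.val_coe_unit_coprime k
  rcases Nat.even_or_odd (k : ZMod n).val with h | h
  · exfalso
    have h2 : 2 ∣ Nat.gcd (k : ZMod n).val n := Nat.dvd_gcd h.two_dvd hn.two_dvd
    rw [hcop] at h2
    omega
  · exact h

/-- the sum of the Galois conjugates of a `2`-power root of unity -/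
theorem sum_units_pow (n : ℕ) [NeZero n] (hn : ∃ j : ℕ, n = 2 ^ j) (μ : ℂ) (hμ : μ ^ n = 1) :
    ∑ k : (ZMod n)ˣ, μ ^ (k : ZMod n).val =
      (Fintype.card (ZMod n)ˣ : ℂ) *
        (if μ = 1 then 1 else if μ = -1 then -1 else 0) := by
  obtain ⟨j, hj⟩ := hn
  by_cases h1 : μ = 1
  · rw [if_pos h1, h1]
    simp
  rw [if_neg h1]
  by_cases h2 : μ = -1
  · rw [if_pos h2, h2]
    have hj1 : j ≠ 0 := by
      intro h0
      rw [hj, h0, pow_zero, pow_one, h2] at hμ
      norm_num at hμ
    have hev : Even n := by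
      rw [hj]
      exact (Nat.even_pow.mpr ⟨even_two, hj1⟩)
    have : ∀ k : (ZMod n)ˣ, (-1 : ℂ) ^ (k : ZMod n).val = -1 := fun k =>
      (odd_val_of_unit hev k).neg_one_pow
    rw [Finset.sum_congr rfl (fun k _ => this k)]
    simp
  rw [if_neg h2, mul_zero]
  -- the least `t` with `μ ^ (2 ^ t) = 1`
  have hex : ∃ t : ℕ, μ ^ (2 ^ t) = 1 := ⟨j, hj ▸ hμ⟩
  classical
  set t := Nat.find hex with ht
  have htspec : μ ^ (2 ^ t) = 1 := Nat.find_spec hex
  have ht0 : t ≠ 0 := by
    intro h0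
    rw [h0, pow_zero, pow_one] at htspec
    exact h1 htspec
  obtain ⟨s, hs⟩ := Nat.exists_eq_succ_of_ne_zero ht0
  have hsne : μ ^ (2 ^ s) ≠ 1 := by
    intro h
    have := Nat.find_min' hex h
    omega
  have hsq : (μ ^ (2 ^ s)) ^ 2 = 1 := by
    rw [← pow_mul, ← pow_succ, ← Nat.succ_eq_add_one, ← hs]
    exact htspec
  have hneg : μ ^ (2 ^ s) = -1 := by
    rcases sq_eq_one_iff.mp hsq with h | h
    · exact absurd h hsne
    · exact h
  have hs0 : s ≠ 0 := by
    intro h0
    rw [h0, pow_zero, pow_one] at hneg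
    exact h2 hneg
  have htj : t ≤ j := Nat.find_min' hex (hj ▸ hμ)
  have hev : Even n := by
    rw [hj]
    exact (Nat.even_pow.mpr ⟨even_two, by omega⟩)
  -- the unit `1 + 2 ^ s`
  have hcop : Nat.Coprime (1 + 2 ^ s) n := by
    rw [hj]
    apply Nat.Coprime.pow_right
    rw [Nat.coprime_two_right]
    exact (Nat.even_pow.mpr ⟨even_two, hs0⟩).one_add
  set a : (ZMod n)ˣ := ZMod.unitOfCoprime (1 + 2 ^ s) hcop with ha
  have hterm : ∀ k : (ZMod n)ˣ, μ ^ ((a * k : (ZMod n)ˣ) : ZMod n).val = -μ ^ (k : ZMod n).val := by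
    intro k
    have h3 : ((a * k : (ZMod n)ˣ) : ZMod n) = ((1 + 2 ^ s : ℕ) : ZMod n) * (k : ZMod n) := by
      rw [Units.val_mul, ha, ZMod.coe_unitOfCoprime]
    rw [h3, ZMod.val_mul, pow_mod_of_pow_eq_one hμ, ZMod.val_natCast, pow_mul,
      pow_mod_of_pow_eq_one hμ, pow_add, pow_one, hneg, mul_pow,
      (odd_val_of_unit hev k).neg_one_pow]
    ring
  have hre : ∑ k : (ZMod n)ˣ, μ ^ ((a * k : (ZMod n)ˣ) : ZMod n).val =
      ∑ k : (ZMod n)ˣ, μ ^ (k : ZMod n).val :=
    Fintype.sum_bijective (fun k => a * k) (Group.mulLeft_bijective a) _ _ (fun _ => rfl)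
  rw [Finset.sum_congr rfl (fun k _ => hterm k), Finset.sum_neg_distrib] at hre
  have : (2 : ℂ) * ∑ k : (ZMod n)ˣ, μ ^ (k : ZMod n).val = 0 := by
    rw [two_mul]
    nth_rewrite 1 [← hre]
    exact neg_add_cancel _
  rcases mul_eq_zero.mp this with h | h
  · norm_num at h
  · exact h

/-- the averaged weight of a root of unity -/
noncomputable def avgWeight (μ : ℂ) : ℤ :=
  by classical exact if μ = 1 then 1 else if μ = -1 then -1 else 0

theorem sum_units_pow' (n : ℕ) [NeZero n] (hn : ∃ j : ℕ, n = 2 ^ j) (μ : ℂ) (hμ : μ ^ n = 1) :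
    ∑ k : (ZMod n)ˣ, μ ^ (k : ZMod n).val =
      (Fintype.card (ZMod n)ˣ : ℂ) * (avgWeight μ : ℂ) := by
  rw [sum_units_pow n hn μ hμ]
  unfold avgWeight
  congr 1
  split_ifs <;> simp

/-- the sum over the Galois conjugates of an integral combination of `2`-power roots of unity -/
theorem sum_units_wpow (n : ℕ) [NeZero n] (hn : ∃ j : ℕ, n = 2 ^ j) {ι : Type*} [Fintype ι]
    (w : ι → ℤ) (μ : ι → ℂ) (hμ : ∀ i, μ i ^ n = 1) :
    ∑ k : (ZMod n)ˣ, ∑ i, (w i : ℂ) * μ i ^ (k : ZMod n).val =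
      (Fintype.card (ZMod n)ˣ : ℂ) * ((∑ i, w i * avgWeight (μ i) : ℤ) : ℂ) := by
  rw [Finset.sum_comm]
  push_cast
  rw [Finset.mul_sum]
  apply Finset.sum_congr rfl
  intro i _
  rw [← Finset.mul_sum, sum_units_pow' n hn (μ i) (hμ i)]
  ring

/-- **parity of the averaged sum** for a symmetric system of weights -/
theorem avg_parity {κ : Type*} [Fintype κ] (w : κ × κ → ℤ) (μ : κ × κ → ℂ)
    (hw : ∀ a b, w (a, b) = w (b, a)) (hμ : ∀ a b, μ (b, a) = conj (μ (a, b)))
    (hμd : ∀ a, μ (a, a) = 1) :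
    Even ((∑ i, w i) - ∑ i, w i * avgWeight (μ i)) := by
  classical
  rw [← Finset.sum_sub_distrib]
  have hZ : ((∑ i, (w i - w i * avgWeight (μ i)) : ℤ) : ZMod 2) = 0 := by
    push_cast
    have h1 : ∀ i : κ × κ, ((w i : ZMod 2) - (w i : ZMod 2) * ((avgWeight (μ i) : ℤ) : ZMod 2)) =
        if (μ i ≠ 1 ∧ μ i ≠ -1) then (w i : ZMod 2) else 0 := by
      intro i
      unfold avgWeight
      by_cases h1 : μ i = 1
      · simp [h1]
      · by_cases h2 : μ i = -1
        · simp only [h1, h2, if_false, if_true, ne_eq, not_true_eq_false, and_false]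
          push_cast
          ring_nf
          have : (2 : ZMod 2) = 0 := rfl
          rw [mul_comm]
          simp [this]
        · simp [h1, h2]
    rw [Finset.sum_congr rfl (fun i _ => h1 i)]
    apply Finset.sum_involution (fun i _ => Prod.swap i)
    · intro i _
      have hc : μ i.swap = conj (μ i) := hμ i.1 i.2
      have hiff : (μ i.swap ≠ 1 ∧ μ i.swap ≠ -1) ↔ (μ i ≠ 1 ∧ μ i ≠ -1) := by
        rw [hc]
        constructor
        · rintro ⟨h1, h2⟩
          refine ⟨fun h => h1 (by rw [h, map_one]), fun h => h2 (by rw [h, map_neg, map_one])⟩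
        · rintro ⟨h1, h2⟩
          refine ⟨fun h => h1 ?_, fun h => h2 ?_⟩
          · have := congrArg conj h
            rwa [Complex.conj_conj, map_one] at this
          · have := congrArg conj h
            rwa [Complex.conj_conj, map_neg, map_one] at this
      have hws : w i.swap = w i := (hw i.1 i.2).symm
      by_cases hS : (μ i ≠ 1 ∧ μ i ≠ -1)
      · rw [if_pos hS, if_pos (hiff.mpr hS), hws]
        exact CharTwo.add_self_eq_zero _
      · rw [if_neg hS, if_neg (fun h => hS (hiff.mp h)), add_zero]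
    · intro i _ hne heq
      apply hne
      have : i.1 = i.2 := by
        have := congrArg Prod.fst heq
        simpa using this.symm
      have hi : i = (i.1, i.1) := by
        ext
        · rfl
        · exact this.symm
      rw [hi, hμd]
      simp
    · intro i _
      exact Finset.mem_univ _
    · intro i _
      exact Prod.swap_swap i
  have := (ZMod.intCast_zmod_eq_zero_iff_dvd _ 2).mp hZ
  exact even_iff_two_dvd.mpr (by exact_mod_cast this)

end Cfsg.Agent.Helper6.Hks
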