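import Mathlib
import Cfsg.Prelude.Def_Characters
import Cfsg.Prelude.Def_Blocks
import Cfsg.Prelude.Def_BlockRank
import Cfsg.Agent.Helper6.HksA
import Cfsg.Agent.Helper6.HksB

/-!
# Averaged diagonal contributions of a `2`-block at a subsection
-/

set_option autoImplicit false
set_option linter.style.haveILetI false
set_option maxHeartbeats 1600000

namespace Cfsg.Agent.Helper6.Hks

open Module
open scoped ComplexConjugate
open Cfsg.Agent.Helper6.Maj

universe u

variable {G : Type u} [Group G] {M : Ideal Cfsg.AlgInt}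

open Classical in
/-- **the averaged diagonal contributions**: for a subsection `(y, b)` of the `2`-block `B`, with
`b` of defect `d` and `2`-regular rank `l`, there are integers `m χ ≥ 0` (`χ ∈ B`), odd for `χ` of
height zero, adding up to `2 ^ d * l`, with `m χ ^ 2 + (k₀ - 1) ≤ 2 ^ d * m χ` for `χ` of height
zero, `k₀` being the number of characters of height zero of `B`. -/
theorem exists_avg_weights [Finite G] [Fintype (Cfsg.IrrCharacter G)]
    (hM : Cfsg.IsPModular 2 M)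
    (B : Set (Cfsg.IrrCharacter G))
    (y : G) (hy : ∃ k : ℕ, orderOf y = 2 ^ k)
    (H : Subgroup G) (hHdef : H = Subgroup.centralizer ({y} : Set G))
    (b : Set (Cfsg.IrrCharacter H))
    (hind : Cfsg.IsInducedBlock M H b B) :
    ∃ m : Cfsg.IrrCharacter G → ℤ,
      (∀ χ, 0 ≤ m χ) ∧
      (∑ χ ∈ Finset.univ.filter (fun χ : Cfsg.IrrCharacter G => χ ∈ B), m χ =
        2 ^ Cfsg.blockDefect 2 b * (Cfsg.blockRank 2 b : ℤ)) ∧
      ∀ χ ∈ B, Cfsg.blockHeight 2 B (χ : G → ℂ) = 0 → Odd (m χ) ∧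
        m χ ^ 2 + (((Finset.univ.filter (fun χ : Cfsg.IrrCharacter G =>
          χ ∈ B ∧ Cfsg.blockHeight 2 B (χ : G → ℂ) = 0)).card : ℤ) - 1) ≤
          2 ^ Cfsg.blockDefect 2 b * m χ := by
  haveI hp : Fact (Nat.Prime 2) := ⟨Nat.prime_two⟩
  have memLocalRing_intCast : ∀ t : ℤ, Cfsg.MemLocalRing M (t : ℂ) := by
    intro t
    apply memLocalRing_of_isIntegral hM.2.1
    exact isIntegral_algebraMap (R := ℤ) (A := ℂ) (x := t) |> fun h => by simpa using h
  haveI : Fintype G := Fintype.ofFinite G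
  haveI : Fintype H := Fintype.ofFinite H
  haveI : Finite (Cfsg.IrrCharacter H) := irr_finite
  haveI : Fintype (Cfsg.IrrCharacter H) := Fintype.ofFinite _
  set n := orderOf y with hn
  haveI : NeZero n := ⟨(orderOf_pos y).ne'⟩
  have hn2 : ∃ j : ℕ, n = 2 ^ j := hy
  set d := Cfsg.blockDefect 2 b with hd
  have hyH : y ∈ H := by
    rw [hHdef, Subgroup.mem_centralizer_singleton_iff]
  have hcomm : ∀ t : H, y * (t : G) = (t : G) * y := fun t =>
    Subgroup.mem_centralizer_iff.mp (hHdef ▸ t.2) y (Set.mem_singleton y)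
  have hz : (⟨y, hyH⟩ : H) ∈ Subgroup.center H := by
    rw [Subgroup.mem_center_iff]
    intro t
    apply Subtype.ext
    simp only [Subgroup.coe_mul]
    exact (hcomm t).symm
  have hzo : orderOf (⟨y, hyH⟩ : H) = n := Subgroup.orderOf_mk y hyH
  choose ε hεn hε1 hε using fun θ : Cfsg.IrrCharacter H => exists_center_twist θ ⟨y, hyH⟩ hz
  set μ : Cfsg.IrrCharacter H × Cfsg.IrrCharacter H → ℂ :=
    fun i => ε i.1 * conj (ε i.2) with hμdef
  have hμ : ∀ i, μ i ^ n = 1 := by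
    intro i
    rw [hμdef]
    simp only
    rw [mul_pow, ← map_pow, ← hzo, hεn, hεn, map_one, one_mul]
  have hW : ∀ χ ψ : Cfsg.IrrCharacter G,
      ∃ W : Cfsg.IrrCharacter H × Cfsg.IrrCharacter H → ℤ, ∀ i,
      (((2 : ℕ) : ℂ) ^ Cfsg.blockDefect 2 b) * (if i.1 ∈ b ∧ i.2 ∈ b then
        Cfsg.classInner (fun c : H => (χ : G → ℂ) (c : G)) (i.1 : H → ℂ) *
        conj (Cfsg.classInner (fun c : H => (ψ : G → ℂ) (c : G)) (i.2 : H → ℂ)) *
        Cfsg.classInner (Cfsg.pRegularPart 2 (i.1 : H → ℂ))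
          (Cfsg.pRegularPart 2 (i.2 : H → ℂ)) else 0) = (W i : ℂ) := fun χ ψ =>
    exists_int_weights hM H b (IsIrrCharacter.isCharacter χ.2) (IsIrrCharacter.isCharacter ψ.2)
  choose W hW using hW
  have hAform : ∀ (j : ℕ) (χ ψ : Cfsg.IrrCharacter G),
      ((2 : ℕ) : ℂ) ^ d * Cfsg.classInner (secPart 2 H b (χ : G → ℂ) (y ^ j))
        (secPart 2 H b (ψ : G → ℂ) (y ^ j)) = ∑ i, (W χ ψ i : ℂ) * μ i ^ j := by
    intro j χ ψ
    rw [classInner_secPart_pow 2 H b _ _ y hyH ε hε1 hε j, Finset.mul_sum]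
    apply Finset.sum_congr rfl
    intro i _
    rw [← mul_assoc, hW χ ψ i]
  set FB := Finset.univ.filter (fun χ : Cfsg.IrrCharacter G => χ ∈ B) with hFB
  set F0 := Finset.univ.filter (fun χ : Cfsg.IrrCharacter G =>
    χ ∈ B ∧ Cfsg.blockHeight 2 B (χ : G → ℂ) = 0) with hF0
  have hF0B : F0 ⊆ FB := by
    intro χ hχ
    rw [hF0, Finset.mem_filter] at hχ
    rw [hFB, Finset.mem_filter]
    exact ⟨hχ.1, hχ.2.1⟩
  have h2d : (0 : ℝ) < (2 : ℝ) ^ d := pow_pos (by norm_num) d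
  -- the real contributions
  set c : (ZMod n)ˣ → Cfsg.IrrCharacter G → Cfsg.IrrCharacter G → ℝ := fun k χ ψ =>
    ‖Cfsg.classInner (secPart 2 H b (χ : G → ℂ) (y ^ (k : ZMod n).val))
      (secPart 2 H b (ψ : G → ℂ) (y ^ (k : ZMod n).val))‖ with hc
  set r : (ZMod n)ˣ → Cfsg.IrrCharacter G → ℝ := fun k χ => ∑ ψ ∈ FB, c k χ ψ ^ 2 with hr
  have hkfacts : ∀ k : (ZMod n)ˣ, H = Subgroup.centralizer ({y ^ (k : ZMod n).val} : Set G) ∧
      ∃ m : ℕ, orderOf (y ^ (k : ZMod n).val) = 2 ^ m := by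
    intro k
    have hcop : Nat.Coprime (k : ZMod n).val n := ZMod.val_coe_unit_coprime k
    refine ⟨hHdef.trans (centralizer_pow_eq y _ hcop), ?_⟩
    obtain ⟨m, hm⟩ := hy
    have h1 : orderOf (y ^ (k : ZMod n).val) ∣ 2 ^ m := hm ▸ orderOf_pow_dvd _
    obtain ⟨m', _, hm'⟩ := (Nat.dvd_prime_pow Nat.prime_two).mp h1
    exact ⟨m', hm'⟩
  -- the diagonal contributions are the row sums
  have hdiag : ∀ (k : (ZMod n)ˣ) (χ : Cfsg.IrrCharacter G),
      Cfsg.classInner (secPart 2 H b (χ : G → ℂ) (y ^ (k : ZMod n).val))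
        (secPart 2 H b (χ : G → ℂ) (y ^ (k : ZMod n).val)) = ((r k χ : ℝ) : ℂ) := by
    intro k χ
    obtain ⟨hHk, hyk⟩ := hkfacts k
    rw [← sum_secPart_sq hM B _ hyk H hHk b hind (χ : G → ℂ), ← Finset.sum_filter]
    rw [hr]
    push_cast
    apply Finset.sum_congr rfl
    intro ψ _
    rw [Complex.mul_conj, Complex.normSq_eq_norm_sq]
    push_cast
    rfl
  have hr0 : ∀ k χ, 0 ≤ r k χ := fun k χ => Finset.sum_nonneg fun ψ _ => sq_nonneg _
  have hcdiag : ∀ k χ, c k χ χ = r k χ := by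
    intro k χ
    rw [hc]
    simp only
    rw [hdiag k χ, Complex.norm_real, Real.norm_of_nonneg (hr0 k χ)]
  -- the sum of the diagonal contributions
  have hsumr : ∀ k : (ZMod n)ˣ, ∑ χ ∈ FB, r k χ = (Cfsg.blockRank 2 b : ℝ) := by
    intro k
    obtain ⟨hHk, hyk⟩ := hkfacts k
    have h1 := sum_secPart_self hM B _ hyk H hHk b hind
    rw [finsum_mem_eq_sum_ite, ← Finset.sum_filter] at h1
    have h3 : ((∑ χ ∈ FB, r k χ : ℝ) : ℂ) = ((Cfsg.blockRank 2 b : ℝ) : ℂ) := by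
      rw [Complex.ofReal_sum, ← Finset.sum_congr rfl (fun χ _ => hdiag k χ), h1]
      simp
    exact Complex.ofReal_injective h3
  -- the averaged weights
  set m : Cfsg.IrrCharacter G → ℤ := fun χ => ∑ i, W χ χ i * avgWeight (μ i) with hm
  have hφ : (0 : ℝ) < (Fintype.card (ZMod n)ˣ : ℝ) := by
    exact_mod_cast Fintype.card_pos
  have hgal : ∀ χ : Cfsg.IrrCharacter G,
      ∑ k : (ZMod n)ˣ, (2 : ℝ) ^ d * r k χ = (Fintype.card (ZMod n)ˣ : ℝ) * (m χ : ℝ) := by
    intro χ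
    have h1 := sum_units_wpow n hn2 (W χ χ) μ hμ
    have h2 : ∀ k : (ZMod n)ˣ, ∑ i, (W χ χ i : ℂ) * μ i ^ (k : ZMod n).val =
        (((2 : ℝ) ^ d * r k χ : ℝ) : ℂ) := by
      intro k
      rw [← hAform, hdiag k χ]
      push_cast
      rfl
    rw [Finset.sum_congr rfl (fun k _ => h2 k)] at h1
    have h3 : ((∑ k : (ZMod n)ˣ, (2 : ℝ) ^ d * r k χ : ℝ) : ℂ) =
        (((Fintype.card (ZMod n)ˣ : ℝ) * (m χ : ℝ) : ℝ) : ℂ) := by
      rw [Complex.ofReal_sum, h1, hm]
      push_cast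
      rfl
    exact Complex.ofReal_injective h3
  have hm0 : ∀ χ, 0 ≤ m χ := by
    intro χ
    have h1 : (0 : ℝ) ≤ (Fintype.card (ZMod n)ˣ : ℝ) * (m χ : ℝ) := by
      rw [← hgal χ]
      exact Finset.sum_nonneg fun k _ => mul_nonneg h2d.le (hr0 k χ)
    have h2 : (0 : ℝ) ≤ (m χ : ℝ) := by
      by_contra hneg
      push Not at hneg
      have := mul_neg_of_pos_of_neg hφ hneg
      linarith
    exact_mod_cast h2
  have hsumm : ∑ χ ∈ FB, m χ = 2 ^ d * (Cfsg.blockRank 2 b : ℤ) := by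
    have h1 : (Fintype.card (ZMod n)ˣ : ℝ) * ((∑ χ ∈ FB, m χ : ℤ) : ℝ) =
        (Fintype.card (ZMod n)ˣ : ℝ) * ((2 : ℝ) ^ d * (Cfsg.blockRank 2 b : ℝ)) := by
      push_cast
      rw [Finset.mul_sum, ← Finset.sum_congr rfl (fun χ _ => hgal χ), Finset.sum_comm]
      have h2 : ∀ k : (ZMod n)ˣ, ∑ χ ∈ FB, (2 : ℝ) ^ d * r k χ =
          (2 : ℝ) ^ d * (Cfsg.blockRank 2 b : ℝ) := by
        intro k
        rw [← Finset.mul_sum, hsumr k]
      rw [Finset.sum_congr rfl (fun k _ => h2 k)]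
      simp only [Finset.sum_const, nsmul_eq_mul, Finset.card_univ]
    have h3 := mul_left_cancel₀ hφ.ne' h1
    exact_mod_cast h3
  refine ⟨m, hm0, hsumm, ?_⟩
  intro χ hχB hχ0
  have hχF0 : χ ∈ F0 := by
    rw [hF0, Finset.mem_filter]
    exact ⟨Finset.mem_univ _, hχB, hχ0⟩
  constructor
  · -- parity
    have hpar := avg_parity (W χ χ) μ (by
      intro a a'
      have h1 := hW χ χ (a, a')
      have h2 := hW χ χ (a', a)
      simp only at h1 h2
      have hint : ((W χ χ (a, a') : ℤ) : ℂ) = ((W χ χ (a', a) : ℤ) : ℂ) := by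
        rw [← h1, ← h2]
        congr 1
        by_cases hab : a ∈ b ∧ a' ∈ b
        · rw [if_pos hab, if_pos hab.symm]
          obtain ⟨na, hna⟩ := classInner_char_char_nat (IsCharacter.restrict H
            (IsIrrCharacter.isCharacter χ.2)) (IsIrrCharacter.isCharacter a.2)
          obtain ⟨na', hna'⟩ := classInner_char_char_nat (IsCharacter.restrict H
            (IsIrrCharacter.isCharacter χ.2)) (IsIrrCharacter.isCharacter a'.2)
          have hna2 : Cfsg.classInner (fun c : H => (χ : G → ℂ) (c : G)) (a : H → ℂ) = na := hna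
          have hna2' : Cfsg.classInner (fun c : H => (χ : G → ℂ) (c : G)) (a' : H → ℂ) = na' :=
            hna'
          rw [hna2, hna2', Complex.conj_natCast, Complex.conj_natCast]
          obtain ⟨t, ht⟩ := pow_defect_mul_inner_int hM b a a' hab.2
          have hp0 : ((2 : ℕ) : ℂ) ^ Cfsg.blockDefect 2 b ≠ 0 :=
            pow_ne_zero _ (by norm_num)
          have hreal : conj (Cfsg.classInner (Cfsg.pRegularPart 2 (a : H → ℂ))
              (Cfsg.pRegularPart 2 (a' : H → ℂ))) =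
              Cfsg.classInner (Cfsg.pRegularPart 2 (a : H → ℂ))
                (Cfsg.pRegularPart 2 (a' : H → ℂ)) := by
            have h5 : Cfsg.classInner (Cfsg.pRegularPart 2 (a : H → ℂ))
                (Cfsg.pRegularPart 2 (a' : H → ℂ)) =
                (t : ℂ) / ((2 : ℕ) : ℂ) ^ Cfsg.blockDefect 2 b := by
              rw [eq_div_iff hp0, mul_comm]
              exact ht
            rw [h5, map_div₀, map_pow, Complex.conj_natCast, map_intCast]
          rw [classInner_conj_symm (Cfsg.pRegularPart 2 (a : H → ℂ))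
            (Cfsg.pRegularPart 2 (a' : H → ℂ)), hreal]
          ring
        · rw [if_neg hab, if_neg (fun h => hab h.symm)]
      exact_mod_cast hint) (by
      intro a a'
      rw [hμdef]
      simp only
      rw [map_mul, Complex.conj_conj, mul_comm]) (by
      intro a
      rw [hμdef]
      simp only
      exact hε1 a)
    by_contra hodd
    rw [Int.not_odd_iff_even] at hodd
    have hevW : Even (∑ i, W χ χ i) := by
      have := hpar.add hodd
      rwa [sub_add_cancel] at this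
    obtain ⟨t, ht⟩ := hevW
    -- the contribution is congruent to the sum of the weights
    have hunit := pow_defect_contribution_not_mem hM B χ χ hχB hχB hχ0 hχ0 y hy H hyH hcomm b hind
    apply hunit
    have h1 := hAform 1 χ χ
    simp only [pow_one] at h1
    have h2 : ((2 : ℂ) ^ Cfsg.blockDefect 2 b *
        Cfsg.classInner (secPart 2 H b (χ : G → ℂ) y) (secPart 2 H b (χ : G → ℂ) y)) =
        ∑ i, (W χ χ i : ℂ) * (μ i - 1) + ((∑ i, W χ χ i : ℤ) : ℂ) := by
      have : ((2 : ℂ) ^ Cfsg.blockDefect 2 b) = ((2 : ℕ) : ℂ) ^ d := by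
        rw [hd]
        norm_num
      rw [this, h1]
      push_cast
      rw [← Finset.sum_add_distrib]
      apply Finset.sum_congr rfl
      intro i _
      ring
    have hcast : (((2 : ℕ) : ℂ)) = (2 : ℂ) := by norm_num
    rw [show ((2 : ℕ) : ℂ) ^ Cfsg.blockDefect 2 b = (2 : ℂ) ^ Cfsg.blockDefect 2 b by
      rw [hcast]]
    rw [h2]
    apply MemLocalIdeal.add hM.2.1
    · apply MemLocalIdeal.sum hM.2.1
      intro i _
      apply MemLocalIdeal.mul_left hM.2.1 (memLocalRing_intCast _)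
      obtain ⟨j, hj⟩ := hn2
      exact memLocalIdeal_sub_one_of_pow hM.2.1 2 Nat.prime_two hM.2.2 _ j (hj ▸ hμ i)
    · rw [ht]
      push_cast
      rw [← two_mul, mul_comm]
      apply MemLocalIdeal.mul_left hM.2.1 (memLocalRing_intCast _)
      have := memLocalIdeal_prime (p := 2) hM
      exact_mod_cast this
  · -- the quadratic inequality
    have hge : ∀ ψ ∈ F0, (Fintype.card (ZMod n)ˣ : ℝ) ≤
        ∑ k : (ZMod n)ˣ, ((2 : ℝ) ^ d * c k χ ψ) ^ 2 := by
      intro ψ hψ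
      rw [hF0, Finset.mem_filter] at hψ
      have h1 := sum_norm_sq_wpowSum_ge n (W χ ψ) μ hμ (by
        have h1 := hAform 1 χ ψ
        simp only [pow_one] at h1
        rw [← h1]
        apply mul_ne_zero
        · exact pow_ne_zero _ (by norm_num)
        · exact contribution_ne_zero hM B χ ψ hχB hψ.2.1 hχ0 hψ.2.2 y hy H hyH hcomm b hind)
      refine h1.trans (le_of_eq ?_)
      apply Finset.sum_congr rfl
      intro k _
      rw [← hAform, norm_mul, norm_pow, Complex.norm_natCast]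
      norm_num
      rfl
    have hdiagge : (Fintype.card (ZMod n)ˣ : ℝ) * (m χ : ℝ) ^ 2 ≤
        ∑ k : (ZMod n)ˣ, ((2 : ℝ) ^ d * c k χ χ) ^ 2 := by
      have h1 := sq_sum_le_card_mul_sum_sq (s := (Finset.univ : Finset (ZMod n)ˣ))
        (f := fun k => (2 : ℝ) ^ d * c k χ χ)
      have h2 : ∑ k : (ZMod n)ˣ, (2 : ℝ) ^ d * c k χ χ =
          (Fintype.card (ZMod n)ˣ : ℝ) * (m χ : ℝ) := by
        rw [← hgal χ]
        apply Finset.sum_congr rfl
        intro k _
        rw [hcdiag]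
      rw [h2, Finset.card_univ] at h1
      have h3 : (Fintype.card (ZMod n)ˣ : ℝ) * ((Fintype.card (ZMod n)ˣ : ℝ) * (m χ : ℝ) ^ 2) ≤
          (Fintype.card (ZMod n)ˣ : ℝ) * ∑ k : (ZMod n)ˣ, ((2 : ℝ) ^ d * c k χ χ) ^ 2 := by
        calc (Fintype.card (ZMod n)ˣ : ℝ) * ((Fintype.card (ZMod n)ˣ : ℝ) * (m χ : ℝ) ^ 2)
            = ((Fintype.card (ZMod n)ˣ : ℝ) * (m χ : ℝ)) ^ 2 := by ring
          _ ≤ _ := h1
      exact le_of_mul_le_mul_left h3 hφ
    -- the total
    have htotal : ∑ k : (ZMod n)ˣ, ∑ ψ ∈ FB, ((2 : ℝ) ^ d * c k χ ψ) ^ 2 =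
        (2 : ℝ) ^ d * ((Fintype.card (ZMod n)ˣ : ℝ) * (m χ : ℝ)) := by
      rw [← hgal χ, Finset.mul_sum]
      apply Finset.sum_congr rfl
      intro k _
      rw [hr]
      simp only
      rw [Finset.mul_sum, Finset.mul_sum]
      apply Finset.sum_congr rfl
      intro ψ _
      ring
    have hlow : ((F0.card : ℝ) - 1) * (Fintype.card (ZMod n)ˣ : ℝ) +
        (Fintype.card (ZMod n)ˣ : ℝ) * (m χ : ℝ) ^ 2 ≤
        ∑ k : (ZMod n)ˣ, ∑ ψ ∈ FB, ((2 : ℝ) ^ d * c k χ ψ) ^ 2 := by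
      calc ((F0.card : ℝ) - 1) * (Fintype.card (ZMod n)ˣ : ℝ) +
          (Fintype.card (ZMod n)ˣ : ℝ) * (m χ : ℝ) ^ 2
          ≤ ∑ ψ ∈ F0.erase χ, ∑ k : (ZMod n)ˣ, ((2 : ℝ) ^ d * c k χ ψ) ^ 2 +
            ∑ k : (ZMod n)ˣ, ((2 : ℝ) ^ d * c k χ χ) ^ 2 := by
            apply add_le_add _ hdiagge
            have h1 : ((F0.card : ℝ) - 1) * (Fintype.card (ZMod n)ˣ : ℝ) =
                ∑ ψ ∈ F0.erase χ, (Fintype.card (ZMod n)ˣ : ℝ) := by
              rw [Finset.sum_const, Finset.card_erase_of_mem hχF0, nsmul_eq_mul,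
                Nat.cast_sub (Finset.card_pos.mpr ⟨χ, hχF0⟩)]
              simp
            rw [h1]
            apply Finset.sum_le_sum
            intro ψ hψ
            exact hge ψ (Finset.mem_of_mem_erase hψ)
        _ = ∑ ψ ∈ F0, ∑ k : (ZMod n)ˣ, ((2 : ℝ) ^ d * c k χ ψ) ^ 2 := by
            rw [add_comm]
            exact Finset.add_sum_erase F0
              (fun ψ => ∑ k : (ZMod n)ˣ, ((2 : ℝ) ^ d * c k χ ψ) ^ 2) hχF0
        _ ≤ ∑ ψ ∈ FB, ∑ k : (ZMod n)ˣ, ((2 : ℝ) ^ d * c k χ ψ) ^ 2 := by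
            apply Finset.sum_le_sum_of_subset_of_nonneg hF0B
            intro ψ _ _
            exact Finset.sum_nonneg fun k _ => sq_nonneg _
        _ = _ := Finset.sum_comm
    rw [htotal] at hlow
    have hfin : ((F0.card : ℝ) - 1) + (m χ : ℝ) ^ 2 ≤ (2 : ℝ) ^ d * (m χ : ℝ) := by
      have h1 : (Fintype.card (ZMod n)ˣ : ℝ) * (((F0.card : ℝ) - 1) + (m χ : ℝ) ^ 2) ≤
          (Fintype.card (ZMod n)ˣ : ℝ) * ((2 : ℝ) ^ d * (m χ : ℝ)) := by
        calc (Fintype.card (ZMod n)ˣ : ℝ) * (((F0.card : ℝ) - 1) + (m χ : ℝ) ^ 2)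
            = ((F0.card : ℝ) - 1) * (Fintype.card (ZMod n)ˣ : ℝ) +
              (Fintype.card (ZMod n)ˣ : ℝ) * (m χ : ℝ) ^ 2 := by ring
          _ ≤ _ := hlow
          _ = _ := by ring
      exact le_of_mul_le_mul_left h1 hφ
    have hfin2 : (((m χ ^ 2 + ((F0.card : ℤ) - 1) : ℤ)) : ℝ) ≤ ((2 ^ d * m χ : ℤ) : ℝ) := by
      push_cast
      linarith
    exact_mod_cast hfin2

end Cfsg.Agent.Helper6.Hks
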