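import Mathlib
import Cfsg.Prelude.Def_Characters
import Cfsg.Prelude.Def_Blocks
import Cfsg.Prelude.Def_BlockRank
import Cfsg.Agent.Helper6.HksC

/-!
# The number of characters of height zero of a `2`-block and a subsection
-/

set_option autoImplicit false
set_option linter.style.haveILetI false

namespace Cfsg.Agent.Helper6.Hks

open Module
open scoped ComplexConjugate

universe u

/-- the arithmetic behind the bound -/
theorem card_bound_of_weights {ι : Type*} (F0 : Finset ι) (m : ι → ℤ) (Q l : ℕ)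
    (hodd : ∀ χ ∈ F0, Odd (m χ)) (hpos : ∀ χ ∈ F0, 0 ≤ m χ)
    (hq : ∀ χ ∈ F0, m χ ^ 2 + ((F0.card : ℤ) - 1) ≤ (Q : ℤ) * m χ)
    (hsum : ∑ χ ∈ F0, m χ ≤ (Q : ℤ) * l) :
    (Odd (Nat.sqrt l) → F0.card ≤ Nat.sqrt l * Q) ∧
      (¬ Odd (Nat.sqrt l) → (Nat.sqrt l + 1) * F0.card ≤ l * Q) := by
  rcases F0.eq_empty_or_nonempty with hemp | hne
  · subst hemp
    simp
  obtain ⟨χ₀, hχ₀, hmin⟩ := Finset.exists_min_image F0 m hne
  set a := m χ₀ with ha
  set k : ℤ := (F0.card : ℤ) with hk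
  set s := Nat.sqrt l with hs
  have hs1 : (s : ℤ) ^ 2 ≤ l := by
    have := Nat.sqrt_le' l
    exact_mod_cast this
  have hs2 : (l : ℤ) + 1 ≤ ((s : ℤ) + 1) ^ 2 := by
    have := Nat.lt_succ_sqrt' l
    have h2 : l + 1 ≤ (s + 1) ^ 2 := this
    exact_mod_cast h2
  have haodd : Odd a := hodd χ₀ hχ₀
  have ha0 : 0 ≤ a := hpos χ₀ hχ₀
  have ha1 : 1 ≤ a := by
    obtain ⟨t, ht⟩ := haodd
    omega
  have hqa : a ^ 2 + (k - 1) ≤ (Q : ℤ) * a := hq χ₀ hχ₀
  have hka : k * a ≤ (Q : ℤ) * l := by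
    calc k * a = ∑ χ ∈ F0, a := by
          rw [Finset.sum_const, nsmul_eq_mul]
      _ ≤ ∑ χ ∈ F0, m χ := Finset.sum_le_sum fun χ hχ => hmin χ hχ
      _ ≤ _ := hsum
  have hk0 : 0 ≤ k := by positivity
  have hQ0 : (0 : ℤ) ≤ Q := by positivity
  have hs0 : (0 : ℤ) ≤ s := by positivity
  constructor
  · intro hsodd
    have hsodd' : Odd (s : ℤ) := by exact_mod_cast hsodd
    have hgoal : k ≤ (s : ℤ) * Q := by
      by_cases hbig : (s : ℤ) + 2 ≤ a
      · -- `(s + 2) k ≤ a k ≤ Q l ≤ Q s (s + 2)`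
        have h1 : ((s : ℤ) + 2) * k ≤ (Q : ℤ) * (s * (s + 2)) := by
          calc ((s : ℤ) + 2) * k ≤ a * k := by nlinarith
            _ = k * a := by ring
            _ ≤ (Q : ℤ) * l := hka
            _ ≤ (Q : ℤ) * (s * (s + 2)) := by nlinarith
        have h2 : ((s : ℤ) + 2) * k ≤ ((s : ℤ) + 2) * (s * Q) := by nlinarith
        exact le_of_mul_le_mul_left h2 (by linarith)
      · push Not at hbig
        have hne : a ≠ (s : ℤ) + 1 := by
          intro h
          have : Odd ((s : ℤ) + 1) := h ▸ haodd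
          obtain ⟨t, ht⟩ := this
          obtain ⟨t', ht'⟩ := hsodd'
          omega
        have hle : a ≤ s := by omega
        nlinarith
    rw [hk] at hgoal
    exact_mod_cast hgoal
  · intro hsev
    have hsev' : Even (s : ℤ) := by
      rw [Nat.not_odd_iff_even] at hsev
      exact_mod_cast hsev
    have hgoal : ((s : ℤ) + 1) * k ≤ (l : ℤ) * Q := by
      by_cases hbig : (s : ℤ) + 1 ≤ a
      · calc ((s : ℤ) + 1) * k ≤ a * k := by nlinarith
          _ = k * a := by ring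
          _ ≤ (Q : ℤ) * l := hka
          _ = _ := by ring
      · push Not at hbig
        have hne : a ≠ (s : ℤ) := by
          intro h
          have : Odd (s : ℤ) := h ▸ haodd
          exact (Int.not_odd_iff_even.mpr hsev') this
        have hle : a ≤ (s : ℤ) - 1 := by omega
        -- `k ≤ 1 + Q a - a ^ 2`
        have h1 : k ≤ 1 + (Q : ℤ) * a - a ^ 2 := by linarith
        have h2 : ((s : ℤ) + 1) * k ≤ ((s : ℤ) + 1) * (1 + (Q : ℤ) * a - a ^ 2) := by
          nlinarith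
        have h3 : ((s : ℤ) + 1) * (1 + (Q : ℤ) * a - a ^ 2) ≤ ((s : ℤ) ^ 2 - 1) * Q := by
          have h4 : ((s : ℤ) + 1) * ((Q : ℤ) * a) ≤ ((s : ℤ) + 1) * ((Q : ℤ) * (s - 1)) := by
            apply mul_le_mul_of_nonneg_left _ (by linarith)
            exact mul_le_mul_of_nonneg_left hle hQ0
          have h5 : ((s : ℤ) + 1) * (1 - a ^ 2) ≤ 0 := by
            apply mul_nonpos_of_nonneg_of_nonpos (by linarith)
            nlinarith
          nlinarith
        nlinarith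
    rw [hk] at hgoal
    exact_mod_cast hgoal

variable {G : Type u} [Group G] {M : Ideal Cfsg.AlgInt}

open Classical in
/-- **the number of characters of height zero of a `2`-block**, bounded through a subsection -/
theorem card_height_zero_le [Finite G] (hM : Cfsg.IsPModular 2 M)
    (B : Set (Cfsg.IrrCharacter G)) (u : G) (hu : ∃ j : ℕ, orderOf u = 2 ^ j)
    (b : Set (Cfsg.IrrCharacter ↥(Subgroup.centralizer ({u} : Set G))))
    (hb : Cfsg.IsInducedBlock M (Subgroup.centralizer ({u} : Set G)) b B) :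
    (Odd (Nat.sqrt (Cfsg.blockRank 2 b)) →
      Nat.card {χ : Cfsg.IrrCharacter G // χ ∈ B ∧ Cfsg.blockHeight 2 B (χ : G → ℂ) = 0} ≤
        Nat.sqrt (Cfsg.blockRank 2 b) * 2 ^ Cfsg.blockDefect 2 b) ∧
    (¬ Odd (Nat.sqrt (Cfsg.blockRank 2 b)) →
      (Nat.sqrt (Cfsg.blockRank 2 b) + 1) *
        Nat.card {χ : Cfsg.IrrCharacter G // χ ∈ B ∧ Cfsg.blockHeight 2 B (χ : G → ℂ) = 0} ≤
        Cfsg.blockRank 2 b * 2 ^ Cfsg.blockDefect 2 b) := by
  haveI : Finite (Cfsg.IrrCharacter G) := irr_finite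
  haveI : Fintype (Cfsg.IrrCharacter G) := Fintype.ofFinite _
  obtain ⟨m, hm0, hsum, hrest⟩ := exists_avg_weights hM B u hu _ rfl b hb
  set F0 := Finset.univ.filter (fun χ : Cfsg.IrrCharacter G =>
    χ ∈ B ∧ Cfsg.blockHeight 2 B (χ : G → ℂ) = 0) with hF0
  set FB := Finset.univ.filter (fun χ : Cfsg.IrrCharacter G => χ ∈ B) with hFB
  have hcard : Nat.card {χ : Cfsg.IrrCharacter G // χ ∈ B ∧
      Cfsg.blockHeight 2 B (χ : G → ℂ) = 0} = F0.card := by
    rw [Nat.card_eq_fintype_card, Fintype.card_subtype]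
  have hF0B : F0 ⊆ FB := by
    intro χ hχ
    rw [hF0, Finset.mem_filter] at hχ
    rw [hFB, Finset.mem_filter]
    exact ⟨hχ.1, hχ.2.1⟩
  have hmem : ∀ χ ∈ F0, χ ∈ B ∧ Cfsg.blockHeight 2 B (χ : G → ℂ) = 0 := by
    intro χ hχ
    rw [hF0, Finset.mem_filter] at hχ
    exact hχ.2
  have hsum0 : ∑ χ ∈ F0, m χ ≤ ((2 ^ Cfsg.blockDefect 2 b : ℕ) : ℤ) * (Cfsg.blockRank 2 b : ℕ) := by
    calc ∑ χ ∈ F0, m χ ≤ ∑ χ ∈ FB, m χ :=
          Finset.sum_le_sum_of_subset_of_nonneg hF0B fun χ _ _ => hm0 χ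
      _ = _ := by
          rw [hsum]
          push_cast
          rfl
  have := card_bound_of_weights F0 m (2 ^ Cfsg.blockDefect 2 b) (Cfsg.blockRank 2 b)
    (fun χ hχ => (hrest χ (hmem χ hχ).1 (hmem χ hχ).2).1) (fun χ _ => hm0 χ)
    (fun χ hχ => by
      have h1 := (hrest χ (hmem χ hχ).1 (hmem χ hχ).2).2
      push_cast
      exact h1) hsum0
  rw [hcard]
  exact this

end Cfsg.Agent.Helper6.Hks
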