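import Mathlib
import Cfsg.Agent.Helper6.Homocyclic3
import Cfsg.Agent.Helper6.BLeoG

/-!
# Abelian Sylow `2`-subgroups with four solutions of `x ^ 2 = 1`: the action of the normalizer
-/

set_option autoImplicit false
set_option linter.style.haveILetI false

namespace Cfsg.Agent.Helper6.HomoSyl

universe u

variable {G : Type u} [Group G]

/-- An element normalizing `P`, with an odd power in the centralizer, and centralizing the
involutions of `P`, centralizes `P`. -/
theorem mem_centralizer_of_fix_involutions' (P : Subgroup G)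
    (hcomm : ∀ a ∈ P, ∀ b ∈ P, a * b = b * a) (m : ℕ) (hm : 1 ≤ m)
    (hexp : ∀ x ∈ P, x ^ (2 ^ m) = 1) (g : G) (hg : g ∈ Subgroup.normalizer (P : Set G))
    (r : ℕ) (hr : Odd r) (hgr : g ^ r ∈ Subgroup.centralizer (P : Set G))
    (hfix : ∀ x ∈ P, x ^ 2 = 1 → g * x * g⁻¹ = x) :
    g ∈ Subgroup.centralizer (P : Set G) := by
  obtain ⟨j, rfl⟩ : ∃ j, m = j + 1 := ⟨m - 1, by omega⟩
  have h1 : g ^ (2 ^ j) ∈ Subgroup.centralizer (P : Set G) := by
    rw [Subgroup.mem_centralizer_iff]
    intro x hx
    have := conj_pow_fix_of_fix_omega P hcomm g hg hfix j x hx (hexp x hx)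
    rw [mul_inv_eq_iff_eq_mul] at this
    exact this.symm
  apply mem_of_pow_mem_of_coprime _ g _ h1 hgr
  apply Nat.Coprime.pow_left
  exact Nat.coprime_two_left.mpr hr

/-- In a finite group a power of an element of the normalizer by the index of the centralizer
lies in the centralizer. -/
theorem pow_relIndex_mem [Finite G] (P : Subgroup G) (n : G)
    (hn : n ∈ Subgroup.normalizer (P : Set G)) :
    n ^ (Subgroup.centralizer (P : Set G)).relIndex (Subgroup.normalizer (P : Set G)) ∈
      Subgroup.centralizer (P : Set G) := by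
  haveI : ((Subgroup.centralizer (P : Set G)).subgroupOf
      (Subgroup.normalizer (P : Set G))).Normal := by
    constructor
    intro c hc g
    rw [Subgroup.mem_subgroupOf] at hc ⊢
    rw [Subgroup.mem_centralizer_iff] at hc ⊢
    intro x hx
    have hx' : (g : G)⁻¹ * x * (g : G) ∈ P := by
      have := (Subgroup.mem_normalizer_iff.mp (Subgroup.inv_mem _ g.2) x).mp hx
      simpa using this
    have h1 := hc _ hx'
    simp only [Subgroup.coe_mul, Subgroup.coe_inv]
    calc x * ((g : G) * (c : G) * (g : G)⁻¹)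
        = (g : G) * (((g : G)⁻¹ * x * (g : G)) * (c : G)) * (g : G)⁻¹ := by group
      _ = (g : G) * ((c : G) * ((g : G)⁻¹ * x * (g : G))) * (g : G)⁻¹ := by rw [h1]
      _ = (g : G) * (c : G) * (g : G)⁻¹ * x := by group
  have := Subgroup.pow_index_mem ((Subgroup.centralizer (P : Set G)).subgroupOf
    (Subgroup.normalizer (P : Set G))) (⟨n, hn⟩ : Subgroup.normalizer (P : Set G))
  rw [Subgroup.mem_subgroupOf] at this
  exact this

/-- If the abelian `2`-subgroup `P` has at most four solutions of `x ^ 2 = 1` and the index of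
the centralizer in the normalizer is odd, an element of the normalizer fixing one involution of
`P` centralizes `P`. -/
theorem mem_centralizer_of_fix_one_involution [Finite G] (P : Subgroup G)
    (hcomm : ∀ a ∈ P, ∀ b ∈ P, a * b = b * a) (m : ℕ) (hm : 1 ≤ m)
    (hexp : ∀ x ∈ P, x ^ (2 ^ m) = 1) (hcard : Nat.card {x : ↥P // x ^ 2 = 1} ≤ 4)
    (hodd : Odd ((Subgroup.centralizer (P : Set G)).relIndex (Subgroup.normalizer (P : Set G))))
    (n : G) (hn : n ∈ Subgroup.normalizer (P : Set G)) (t : G) (htP : t ∈ P) (ht1 : t ≠ 1)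
    (ht2 : t ^ 2 = 1) (hfix : n * t * n⁻¹ = t) :
    n ∈ Subgroup.centralizer (P : Set G) := by
  have hnr := pow_relIndex_mem P n hn
  have conjP : ∀ x ∈ P, n * x * n⁻¹ ∈ P := fun x hx => (Subgroup.mem_normalizer_iff.mp hn x).mp hx
  -- `n ^ 2` fixes every involution
  have h2fix : ∀ x ∈ P, x ^ 2 = 1 → n ^ 2 * x * (n ^ 2)⁻¹ = x := by
    intro x hx hx2
    have hsq : n ^ 2 * x * (n ^ 2)⁻¹ = n * (n * x * n⁻¹) * n⁻¹ := by
      rw [pow_two, _root_.mul_inv_rev]
      simp only [mul_assoc]
    by_cases hx1 : x = 1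
    · rw [hx1]; group
    by_cases hxt : x = t
    · rw [hsq, hxt, hfix, hfix]
    -- the fourth element
    have htxP : t * x ∈ P := P.mul_mem htP hx
    have htx2 : (t * x) ^ 2 = 1 := by
      have hc : Commute t x := hcomm t htP x hx
      rw [hc.mul_pow, ht2, hx2, one_mul]
    have htx1 : t * x ≠ 1 := by
      intro h
      apply hxt
      have h3 : x = t⁻¹ := by
        rw [eq_inv_iff_mul_eq_one, ← h, hcomm t htP x hx]
      have h4 : t⁻¹ = t := by
        rw [inv_eq_iff_mul_eq_one, ← pow_two, ht2]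
      rw [h3, h4]
    have hd1 : t ≠ x := fun h => hxt h.symm
    have hd2 : t ≠ t * x := by
      intro h
      apply hx1
      have : t * 1 = t * x := by rw [mul_one]; exact h
      exact (mul_left_cancel this).symm
    have hd3 : x ≠ t * x := by
      intro h
      apply ht1
      have : 1 * x = t * x := by rw [one_mul]; exact h
      exact (mul_right_cancel this).symm
    have hy2 : (n * x * n⁻¹) ^ 2 = 1 := by
      rw [conj_pow, hx2]; group
    have hy1 : n * x * n⁻¹ ≠ 1 := by
      intro h
      apply hx1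
      have : x = n⁻¹ * (n * x * n⁻¹) * n := by group
      rw [this, h]; group
    have hyt : n * x * n⁻¹ ≠ t := by
      intro h
      apply hxt
      have h5 : n * x * n⁻¹ = n * t * n⁻¹ := by rw [h, hfix]
      have hx' : x = n⁻¹ * (n * x * n⁻¹) * n := by group
      have ht' : t = n⁻¹ * (n * t * n⁻¹) * n := by group
      rw [hx', ht', h5]
    have hmem := involution_mem_of_three hcard ⟨t, htP⟩ ⟨x, hx⟩ ⟨t * x, htxP⟩
      ⟨n * x * n⁻¹, conjP x hx⟩
      (Subtype.ext ht2) (Subtype.ext hx2) (Subtype.ext htx2) (Subtype.ext hy2)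
      (fun h => ht1 (congrArg Subtype.val h)) (fun h => hx1 (congrArg Subtype.val h))
      (fun h => htx1 (congrArg Subtype.val h)) (fun h => hy1 (congrArg Subtype.val h))
      (fun h => hd1 (congrArg Subtype.val h)) (fun h => hd2 (congrArg Subtype.val h))
      (fun h => hd3 (congrArg Subtype.val h))
    rcases hmem with h | h | h
    · exact absurd (congrArg Subtype.val h) hyt
    · have h' : n * x * n⁻¹ = x := congrArg Subtype.val h
      rw [hsq, h', h']
    · have h' : n * x * n⁻¹ = t * x := congrArg Subtype.val h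
      rw [hsq, h']
      calc n * (t * x) * n⁻¹ = (n * t * n⁻¹) * (n * x * n⁻¹) := by group
        _ = t * (t * x) := by rw [hfix, h']
        _ = t ^ 2 * x := by rw [pow_two, mul_assoc]
        _ = x := by rw [ht2, one_mul]
  have hn2 : n ^ 2 ∈ Subgroup.centralizer (P : Set G) := by
    apply mem_centralizer_of_fix_involutions' P hcomm m hm hexp (n ^ 2)
      (Subgroup.pow_mem _ hn 2) _ hodd _ h2fix
    rw [← pow_mul, mul_comm, pow_mul]
    exact Subgroup.pow_mem _ hnr 2
  exact mem_of_pow_mem_of_coprime _ n (Nat.coprime_two_left.mpr hodd) hn2 hnr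

/-- The index of the centralizer in the normalizer of a Sylow `2`-subgroup is odd. -/
theorem odd_relIndex_of_sylow_two [Finite G] (P : Sylow 2 G)
    (hcomm : ∀ a ∈ (P : Subgroup G), ∀ b ∈ (P : Subgroup G), a * b = b * a) :
    Odd ((Subgroup.centralizer ((P : Subgroup G) : Set G)).relIndex
      (Subgroup.normalizer ((P : Subgroup G) : Set G))) := by
  have hPC : (P : Subgroup G) ≤ Subgroup.centralizer ((P : Subgroup G) : Set G) := by
    intro u hu
    rw [Subgroup.mem_centralizer_iff]
    intro w hw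
    exact hcomm w hw u hu
  have h1 := BLeo.card_normalizer_eq (P : Subgroup G)
  obtain ⟨c, hc⟩ := Subgroup.card_dvd_of_le hPC
  have h2 : Nat.card (Subgroup.normalizer ((P : Subgroup G) : Set G)) ∣ Nat.card G :=
    Subgroup.card_subgroup_dvd_card _
  have h3 : Nat.card ↥(P : Subgroup G) * (P : Subgroup G).index = Nat.card G :=
    (P : Subgroup G).card_mul_index
  have h4 : ¬ 2 ∣ (P : Subgroup G).index := P.not_dvd_index
  rw [← Nat.not_even_iff_odd, even_iff_two_dvd]
  intro h5
  apply h4
  rw [h1, hc, ← h3] at h2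
  have hP0 : 0 < Nat.card ↥(P : Subgroup G) := Nat.card_pos
  have h6 : c * (Subgroup.centralizer ((P : Subgroup G) : Set G)).relIndex
      (Subgroup.normalizer ((P : Subgroup G) : Set G)) ∣ (P : Subgroup G).index := by
    apply Nat.dvd_of_mul_dvd_mul_left hP0
    rw [← mul_assoc]
    exact h2
  exact dvd_trans (dvd_trans h5 (Dvd.intro_left c rfl)) h6

/-- For an abelian Sylow `2`-subgroup with at most four solutions of `x ^ 2 = 1`, the centralizer
has index `1` or `3` in the normalizer, and the normalizer acts freely modulo the centralizer. -/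
theorem relIndex_one_or_three [Finite G] (P : Sylow 2 G)
    (hcomm : ∀ a ∈ (P : Subgroup G), ∀ b ∈ (P : Subgroup G), a * b = b * a) (m : ℕ) (hm : 1 ≤ m)
    (hexp : ∀ x ∈ (P : Subgroup G), x ^ (2 ^ m) = 1)
    (hcard : Nat.card {x : ↥(P : Subgroup G) // x ^ 2 = 1} ≤ 4)
    (t₀ : G) (ht₀P : t₀ ∈ (P : Subgroup G)) (ht₀1 : t₀ ≠ 1) (ht₀2 : t₀ ^ 2 = 1) :
    ((Subgroup.centralizer ((P : Subgroup G) : Set G)).relIndex
        (Subgroup.normalizer ((P : Subgroup G) : Set G)) = 1 ∨
      (Subgroup.centralizer ((P : Subgroup G) : Set G)).relIndex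
        (Subgroup.normalizer ((P : Subgroup G) : Set G)) = 3) ∧
    ∀ n ∈ Subgroup.normalizer ((P : Subgroup G) : Set G),
      n ∉ Subgroup.centralizer ((P : Subgroup G) : Set G) →
      ∀ y ∈ (P : Subgroup G), y ≠ 1 → n * y * n⁻¹ ≠ y := by
  have hodd := odd_relIndex_of_sylow_two P hcomm
  have hK := mem_centralizer_of_fix_one_involution (P : Subgroup G) hcomm m hm hexp hcard hodd
  have hCN : Subgroup.centralizer ((P : Subgroup G) : Set G) ≤
      Subgroup.normalizer ((P : Subgroup G) : Set G) := Subgroup.centralizer_le_normalizer _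
  constructor
  · -- the counting
    have conjP : ∀ n ∈ Subgroup.normalizer ((P : Subgroup G) : Set G),
        ∀ x ∈ (P : Subgroup G), n * x * n⁻¹ ∈ (P : Subgroup G) :=
      fun n hn x hx => (Subgroup.mem_normalizer_iff.mp hn x).mp hx
    let f : ↥(Subgroup.normalizer ((P : Subgroup G) : Set G)) →
        {x : ↥(P : Subgroup G) // x ^ 2 = 1} := fun n =>
      ⟨⟨(n : G) * t₀ * (n : G)⁻¹, conjP n n.2 t₀ ht₀P⟩, by
        apply Subtype.ext
        simp only [Subgroup.coe_pow, Subgroup.coe_one]
        rw [conj_pow, ht₀2]; group⟩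
    have hfib : ∀ n : ↥(Subgroup.normalizer ((P : Subgroup G) : Set G)),
        Nat.card {n' : ↥(Subgroup.normalizer ((P : Subgroup G) : Set G)) // f n' = f n} =
          Nat.card ↥(Subgroup.centralizer ((P : Subgroup G) : Set G)) := by
      intro n
      apply Nat.card_congr
      exact
        { toFun := fun n' => ⟨(n : G)⁻¹ * (n'.1 : G), by
            apply hK _ (Subgroup.mul_mem _ (Subgroup.inv_mem _ n.2) n'.1.2) t₀ ht₀P ht₀1 ht₀2
            have h1 : (n'.1 : G) * t₀ * (n'.1 : G)⁻¹ = (n : G) * t₀ * (n : G)⁻¹ := by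
              have := n'.2
              exact congrArg (fun z : {x : ↥(P : Subgroup G) // x ^ 2 = 1} => ((z : ↥(P : Subgroup G)) : G)) this
            calc (n : G)⁻¹ * (n'.1 : G) * t₀ * ((n : G)⁻¹ * (n'.1 : G))⁻¹
                = (n : G)⁻¹ * ((n'.1 : G) * t₀ * (n'.1 : G)⁻¹) * (n : G) := by group
              _ = (n : G)⁻¹ * ((n : G) * t₀ * (n : G)⁻¹) * (n : G) := by rw [h1]
              _ = t₀ := by group⟩
          invFun := fun c => ⟨⟨(n : G) * (c : G), Subgroup.mul_mem _ n.2 (hCN c.2)⟩, by
            apply Subtype.ext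
            apply Subtype.ext
            change (n : G) * (c : G) * t₀ * ((n : G) * (c : G))⁻¹ = (n : G) * t₀ * (n : G)⁻¹
            have h1 := Subgroup.mem_centralizer_iff.mp c.2 t₀ ht₀P
            calc (n : G) * (c : G) * t₀ * ((n : G) * (c : G))⁻¹
                = (n : G) * ((c : G) * t₀) * (c : G)⁻¹ * (n : G)⁻¹ := by group
              _ = (n : G) * (t₀ * (c : G)) * (c : G)⁻¹ * (n : G)⁻¹ := by rw [h1]
              _ = (n : G) * t₀ * (n : G)⁻¹ := by group⟩
          left_inv := fun n' => by
            apply Subtype.ext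
            apply Subtype.ext
            simp
          right_inv := fun c => by
            apply Subtype.ext
            simp }
    have h1 := BLeo.card_eq_mul_card_range f _ hfib
    rw [BLeo.card_normalizer_eq (P : Subgroup G)] at h1
    have hC0 : 0 < Nat.card ↥(Subgroup.centralizer ((P : Subgroup G) : Set G)) := Nat.card_pos
    have h2 := Nat.eq_of_mul_eq_mul_left hC0 h1
    -- the range has at most three elements
    have h3 : Nat.card (Set.range f) ≤ 3 := by
      have hsub : Set.range f ⊆ {x : {x : ↥(P : Subgroup G) // x ^ 2 = 1} | x ≠ ⟨1, one_pow 2⟩} := by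
        rintro _ ⟨n, rfl⟩ h
        apply ht₀1
        have h4 : (n : G) * t₀ * (n : G)⁻¹ = 1 :=
          congrArg (fun z : {x : ↥(P : Subgroup G) // x ^ 2 = 1} => ((z : ↥(P : Subgroup G)) : G)) h
        have : t₀ = (n : G)⁻¹ * ((n : G) * t₀ * (n : G)⁻¹) * (n : G) := by group
        rw [this, h4]; group
      have h5 : Nat.card (Set.range f) ≤
          Nat.card {x : {x : ↥(P : Subgroup G) // x ^ 2 = 1} | x ≠ ⟨1, one_pow 2⟩} :=
        Nat.card_mono (Set.toFinite _) hsub
      have h6 : Nat.card {x : {x : ↥(P : Subgroup G) // x ^ 2 = 1} | x ≠ ⟨1, one_pow 2⟩} + 1 =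
          Nat.card {x : ↥(P : Subgroup G) // x ^ 2 = 1} := by
        classical
        haveI : Fintype {x : ↥(P : Subgroup G) // x ^ 2 = 1} := Fintype.ofFinite _
        rw [Nat.card_eq_fintype_card, Nat.card_eq_fintype_card]
        have := Fintype.card_subtype_compl
          (fun x : {x : ↥(P : Subgroup G) // x ^ 2 = 1} => x = ⟨1, one_pow 2⟩)
        rw [Fintype.card_subtype_eq] at this
        have hpos : 0 < Fintype.card {x : ↥(P : Subgroup G) // x ^ 2 = 1} :=
          Fintype.card_pos_iff.mpr ⟨⟨1, one_pow 2⟩⟩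
        have h7 : Fintype.card ↥{x : {x : ↥(P : Subgroup G) // x ^ 2 = 1} | x ≠ ⟨1, one_pow 2⟩} =
            Fintype.card {x : {x : ↥(P : Subgroup G) // x ^ 2 = 1} // ¬ x = ⟨1, one_pow 2⟩} :=
          Fintype.card_congr (Equiv.refl _)
        omega
      omega
    obtain ⟨k, hk⟩ := hodd
    omega
  · intro n hn hnC y hy hy1 hfix
    apply hnC
    -- an involution in the powers of `y`
    obtain ⟨k, hk⟩ := (IsPGroup.iff_orderOf.mp P.2) ⟨y, hy⟩
    rw [Subgroup.orderOf_mk] at hk
    have hk0 : k ≠ 0 := by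
      intro h
      rw [h, pow_zero, orderOf_eq_one_iff] at hk
      exact hy1 hk
    obtain ⟨j, rfl⟩ : ∃ j, k = j + 1 := ⟨k - 1, by omega⟩
    apply hK n hn (y ^ (2 ^ j)) (Subgroup.pow_mem _ hy _)
    · intro h
      have h1 := orderOf_dvd_of_pow_eq_one h
      rw [hk] at h1
      have h2 := Nat.le_of_dvd (by positivity) h1
      rw [pow_succ] at h2
      have : 0 < 2 ^ j := by positivity
      omega
    · rw [← pow_mul, ← pow_succ, ← hk, pow_orderOf_eq_one]
    · rw [← conj_pow, hfix]

end Cfsg.Agent.Helper6.HomoSyl
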