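import Mathlib
import Cfsg.Agent.Helper6.HomoSylA
import Cfsg.Agent.Helper6.BLeoC

/-!
# Abelian Sylow `2`-subgroups with a free action of order three: inversion and orbit sums
-/

set_option autoImplicit false
set_option linter.style.haveILetI false

namespace Cfsg.Agent.Helper6.HomoSyl

universe u

variable {G : Type u} [Group G]

/-- When the normalizer acts freely through a group of order three, no element of `P` whose
square is not `1` is inverted in `G`. -/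
theorem not_inverted [Finite G] (P : Sylow 2 G)
    (hcomm : ∀ a ∈ (P : Subgroup G), ∀ b ∈ (P : Subgroup G), a * b = b * a)
    (h3 : (Subgroup.centralizer ((P : Subgroup G) : Set G)).relIndex
      (Subgroup.normalizer ((P : Subgroup G) : Set G)) = 3)
    (hfree : ∀ n ∈ Subgroup.normalizer ((P : Subgroup G) : Set G),
      n ∉ Subgroup.centralizer ((P : Subgroup G) : Set G) →
      ∀ y ∈ (P : Subgroup G), y ≠ 1 → n * y * n⁻¹ ≠ y)
    (y : G) (hy : y ∈ (P : Subgroup G)) (hy2 : y ^ 2 ≠ 1) (v : G) : v * y * v⁻¹ ≠ y⁻¹ := by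
  haveI : Fact (Nat.Prime 2) := ⟨Nat.prime_two⟩
  intro hv
  have hy1 : y ≠ 1 := by
    intro h
    apply hy2
    rw [h, one_pow]
  have hyinv : v * y * v⁻¹ ∈ (P : Subgroup G) := by
    rw [hv]
    exact Subgroup.inv_mem _ hy
  obtain ⟨n, hn, hn2⟩ := BLeo.fusion_in_normalizer P hcomm y hy v hyinv
  rw [hv] at hn2
  have hnC : n ∉ Subgroup.centralizer ((P : Subgroup G) : Set G) := by
    intro hc
    have h1 := Subgroup.mem_centralizer_iff.mp hc y hy
    apply hy2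
    have h2 : n * y * n⁻¹ = y := by
      rw [← h1]
      group
    rw [h2] at hn2
    rw [pow_two]
    nth_rewrite 1 [hn2]
    exact inv_mul_cancel y
  have hn2fix : n ^ 2 * y * (n ^ 2)⁻¹ = y := by
    calc n ^ 2 * y * (n ^ 2)⁻¹ = n * (n * y * n⁻¹) * n⁻¹ := by
          rw [pow_two, _root_.mul_inv_rev]
          simp only [mul_assoc]
      _ = n * y⁻¹ * n⁻¹ := by rw [hn2]
      _ = (n * y * n⁻¹)⁻¹ := by group
      _ = y := by rw [hn2, inv_inv]
  have hn2C : n ^ 2 ∈ Subgroup.centralizer ((P : Subgroup G) : Set G) := by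
    by_contra h
    exact hfree (n ^ 2) (Subgroup.pow_mem _ hn 2) h y hy hy1 hn2fix
  have hn3C : n ^ 3 ∈ Subgroup.centralizer ((P : Subgroup G) : Set G) := by
    have := pow_relIndex_mem (P : Subgroup G) n hn
    rwa [h3] at this
  apply hnC
  have : n = n ^ 3 * (n ^ 2)⁻¹ := by
    rw [pow_succ' n 2, mul_assoc, mul_inv_cancel, mul_one]
  rw [this]
  exact Subgroup.mul_mem _ hn3C (Subgroup.inv_mem _ hn2C)

/-- The orbit of a non-principal linear character of `P` under a free action of order three. -/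
theorem finsum_rel_eq [Finite G] (P : Subgroup G)
    (hfree : ∀ n ∈ Subgroup.normalizer (P : Set G), n ∉ Subgroup.centralizer (P : Set G) →
      ∀ y ∈ P, y ≠ 1 → n * y * n⁻¹ ≠ y)
    (h3 : (Subgroup.centralizer (P : Set G)).relIndex (Subgroup.normalizer (P : Set G)) = 3)
    (n₀ : G) (hn₀ : n₀ ∈ Subgroup.normalizer (P : Set G))
    (hn₀C : n₀ ∉ Subgroup.centralizer (P : Set G)) (ψ : ↥P →* ℂˣ) (hψ : ψ ≠ 1)
    (f : (↥P →* ℂˣ) → ℂ) :
    letI := BLeo.dualAction P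
    ∑ᶠ ψ' ∈ {ψ' : ↥P →* ℂˣ | ∃ n : G, n ∈ Subgroup.normalizer (P : Set G) ∧
        ∀ w w' : ↥P, (w' : G) = n * w * n⁻¹ → ψ' w' = ψ w}, f ψ' =
      f ψ + f ((⟨n₀, hn₀⟩ : Subgroup.normalizer (P : Set G)) • ψ) +
        f ((⟨n₀, hn₀⟩ : Subgroup.normalizer (P : Set G)) ^ 2 • ψ) := by
  classical
  letI := BLeo.dualAction P
  set x₀ : Subgroup.normalizer (P : Set G) := ⟨n₀, hn₀⟩ with hx₀
  have hx₀3 : ((x₀ ^ 3 : Subgroup.normalizer (P : Set G)) : G) ∈
      Subgroup.centralizer (P : Set G) := by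
    have := pow_relIndex_mem P n₀ hn₀
    rw [h3] at this
    simpa [hx₀] using this
  have hx₀2 : ((x₀ ^ 2 : Subgroup.normalizer (P : Set G)) : G) ∉
      Subgroup.centralizer (P : Set G) := by
    intro h
    apply hn₀C
    have h1 : n₀ = ((x₀ ^ 3 : Subgroup.normalizer (P : Set G)) : G) *
        (((x₀ ^ 2 : Subgroup.normalizer (P : Set G)) : G))⁻¹ := by
      simp only [hx₀, Subgroup.coe_pow]
      group
    rw [h1]
    exact Subgroup.mul_mem _ hx₀3 (Subgroup.inv_mem _ h)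
  have hd1 : ψ ≠ x₀ • ψ := by
    intro h
    exact hn₀C ((BLeo.smul_eq_self_iff P hfree ψ hψ x₀).mp h.symm)
  have hd2 : ψ ≠ x₀ ^ 2 • ψ := by
    intro h
    exact hx₀2 ((BLeo.smul_eq_self_iff P hfree ψ hψ (x₀ ^ 2)).mp h.symm)
  have hd3 : x₀ • ψ ≠ x₀ ^ 2 • ψ := by
    intro h
    apply hd1
    have h1 : x₀ ^ 2 • ψ = x₀ • (x₀ • ψ) := by rw [pow_two, mul_smul]
    rw [h1] at h
    exact smul_left_cancel x₀ h
  have hset : {ψ' : ↥P →* ℂˣ | ∃ n : G, n ∈ Subgroup.normalizer (P : Set G) ∧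
        ∀ w w' : ↥P, (w' : G) = n * w * n⁻¹ → ψ' w' = ψ w} =
      (({ψ, x₀ • ψ, x₀ ^ 2 • ψ} : Finset (↥P →* ℂˣ)) : Set (↥P →* ℂˣ)) := by
    symm
    have hfin : {ψ' : ↥P →* ℂˣ | ∃ n : G, n ∈ Subgroup.normalizer (P : Set G) ∧
        ∀ w w' : ↥P, (w' : G) = n * w * n⁻¹ → ψ' w' = ψ w}.Finite := Set.toFinite _
    apply Set.eq_of_subset_of_ncard_le _ _ hfin
    · intro ψ' hψ'
      simp only [Finset.coe_insert, Finset.coe_singleton, Set.mem_insert_iff,
        Set.mem_singleton_iff] at hψ'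
      rw [Set.mem_ofPred_eq, BLeo.rel_iff]
      rcases hψ' with h | h | h
      · exact ⟨1, by rw [one_smul, h]⟩
      · exact ⟨x₀, h.symm⟩
      · exact ⟨x₀ ^ 2, h.symm⟩
    · rw [Set.ncard_coe_finset, Finset.card_insert_of_notMem, Finset.card_insert_of_notMem,
        Finset.card_singleton]
      · have h1 := BLeo.card_orbit P hfree ψ hψ
        rw [h3] at h1
        rw [← Nat.card_coe_set_eq]
        have h2 : Nat.card ↥{ψ' : ↥P →* ℂˣ | ∃ n : G, n ∈ Subgroup.normalizer (P : Set G) ∧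
            ∀ w w' : ↥P, (w' : G) = n * w * n⁻¹ → ψ' w' = ψ w} =
            Nat.card {ψ' : ↥P →* ℂˣ // ∃ x : Subgroup.normalizer (P : Set G), x • ψ = ψ'} := by
          apply Nat.card_congr
          exact Equiv.subtypeEquivRight (fun ψ' => by rw [Set.mem_ofPred_eq, BLeo.rel_iff])
        rw [h2, h1]
      · simpa using hd3
      · simp only [Finset.mem_insert, Finset.mem_singleton, not_or]
        exact ⟨hd1, hd2⟩
  rw [hset, finsum_mem_coe_finset, Finset.sum_insert, Finset.sum_insert, Finset.sum_singleton]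
  · ring
  · simpa using hd3
  · simp only [Finset.mem_insert, Finset.mem_singleton, not_or]
    exact ⟨hd1, hd2⟩

/-- For a free action of order three on an abelian `P`, the orbit sum `S` of a non-principal linear
character at an element of order at most two satisfies `S ^ 2 = 3 + 2 * S`. -/
theorem finsum_rel_involution [Finite G] (P : Subgroup G)
    (hcomm : ∀ a ∈ P, ∀ b ∈ P, a * b = b * a)
    (hfree : ∀ n ∈ Subgroup.normalizer (P : Set G), n ∉ Subgroup.centralizer (P : Set G) →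
      ∀ y ∈ P, y ≠ 1 → n * y * n⁻¹ ≠ y)
    (h3 : (Subgroup.centralizer (P : Set G)).relIndex (Subgroup.normalizer (P : Set G)) = 3)
    (ψ : ↥P →* ℂˣ) (hψ : ψ ≠ 1) (t : ↥P) (ht : t ^ 2 = 1) :
    (∑ᶠ ψ' ∈ {ψ' : ↥P →* ℂˣ | ∃ n : G, n ∈ Subgroup.normalizer (P : Set G) ∧
        ∀ w w' : ↥P, (w' : G) = n * w * n⁻¹ → ψ' w' = ψ w}, ((ψ' t : ℂˣ) : ℂ)) ^ 2 =
      3 + 2 * ∑ᶠ ψ' ∈ {ψ' : ↥P →* ℂˣ | ∃ n : G, n ∈ Subgroup.normalizer (P : Set G) ∧
        ∀ w w' : ↥P, (w' : G) = n * w * n⁻¹ → ψ' w' = ψ w}, ((ψ' t : ℂˣ) : ℂ) := by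
  classical
  letI := BLeo.dualAction P
  -- an element outside the centralizer
  obtain ⟨n₀, hn₀, hn₀C⟩ : ∃ n₀ ∈ Subgroup.normalizer (P : Set G),
      n₀ ∉ Subgroup.centralizer (P : Set G) := by
    by_contra hcon
    have hle : Subgroup.normalizer (P : Set G) ≤ Subgroup.centralizer (P : Set G) := by
      intro n hn
      by_contra h
      exact hcon ⟨n, hn, h⟩
    have := Subgroup.relIndex_eq_one.mpr hle
    rw [h3] at this
    omega
  rw [finsum_rel_eq P hfree h3 n₀ hn₀ hn₀C ψ hψ (fun ψ' => ((ψ' t : ℂˣ) : ℂ))]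
  set x₀ : Subgroup.normalizer (P : Set G) := ⟨n₀, hn₀⟩ with hx₀
  set c := normConjEquiv P x₀ with hc
  have hn₀3 : n₀ ^ 3 ∈ Subgroup.centralizer (P : Set G) := by
    have := pow_relIndex_mem P n₀ hn₀
    rwa [h3] at this
  have e1 : (x₀ • ψ) t = ψ (c t) := BLeo.dualAction_smul_apply P x₀ ψ t
  have e2 : (x₀ ^ 2 • ψ) t = ψ (c (c t)) := by
    rw [BLeo.dualAction_smul_apply]
    congr 1
    apply Subtype.ext
    rw [hc, normConjEquiv_apply_coe, normConjEquiv_apply_coe,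
      normConjEquiv_apply_coe]
    simp only [pow_two, Subgroup.coe_mul, _root_.mul_inv_rev, mul_assoc]
  have hccc : c (c (c t)) = t := by
    apply Subtype.ext
    rw [hc, normConjEquiv_apply_coe, normConjEquiv_apply_coe,
      normConjEquiv_apply_coe]
    have h1 := Subgroup.mem_centralizer_iff.mp hn₀3 (t : G) t.2
    have h2 : (x₀ : G) = n₀ := rfl
    rw [h2]
    calc n₀⁻¹ * (n₀⁻¹ * (n₀⁻¹ * (t : G) * n₀) * n₀) * n₀
        = (n₀ ^ 3)⁻¹ * ((t : G) * n₀ ^ 3) := by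
          simp only [pow_succ, pow_zero, one_mul, _root_.mul_inv_rev, mul_assoc]
      _ = (n₀ ^ 3)⁻¹ * (n₀ ^ 3 * (t : G)) := by rw [h1]
      _ = (t : G) := by rw [inv_mul_cancel_left]
  -- the product of the orbit of `t` is fixed, hence trivial
  have hw : t * c t * c (c t) = 1 := by
    obtain ⟨w, hwdef⟩ : ∃ w : ↥P, w = t * c t * c (c t) := ⟨_, rfl⟩
    rw [← hwdef]
    have hfix : c w = w := by
      rw [hwdef, map_mul, map_mul, hccc]
      have h1 : ∀ a b : ↥P, a * b = b * a := fun a b =>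
        Subtype.ext (hcomm (a : G) a.2 (b : G) b.2)
      rw [h1 (c t * c (c t)) t, mul_assoc]
    have hfix' : n₀ * (w : G) * n₀⁻¹ = (w : G) := by
      have h1 : ((c w : ↥P) : G) = (w : G) := congrArg (fun z : ↥P => (z : G)) hfix
      rw [hc, normConjEquiv_apply_coe] at h1
      have h2 : (x₀ : G) = n₀ := rfl
      rw [h2] at h1
      nth_rewrite 1 [← h1]
      group
    by_contra hne
    apply hfree n₀ hn₀ hn₀C _ w.2 _ hfix'
    intro h
    apply hne
    exact Subtype.ext h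
  have hsq : ∀ z : ↥P, z ^ 2 = 1 → (((ψ z : ℂˣ) : ℂ)) ^ 2 = 1 := by
    intro z hz
    rw [← Units.val_pow_eq_pow_val, ← map_pow, hz, map_one, Units.val_one]
  have hA := hsq t ht
  have hB := hsq (c t) (by rw [← map_pow, ht, map_one])
  have hD := hsq (c (c t)) (by rw [← map_pow, ← map_pow, ht, map_one, map_one])
  have hABD : ((ψ t : ℂˣ) : ℂ) * ((ψ (c t) : ℂˣ) : ℂ) * ((ψ (c (c t)) : ℂˣ) : ℂ) = 1 := by
    rw [← Units.val_mul, ← Units.val_mul, ← map_mul, ← map_mul, hw, map_one, Units.val_one]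
  simp only [e1, e2]
  linear_combination (1 - 2 * ((ψ (c t) : ℂˣ) : ℂ) * ((ψ (c (c t)) : ℂˣ) : ℂ)) * hA +
    (1 - 2 * ((ψ t : ℂˣ) : ℂ) * ((ψ (c (c t)) : ℂˣ) : ℂ)) * hB +
    (1 - 2 * ((ψ t : ℂˣ) : ℂ) * ((ψ (c t) : ℂˣ) : ℂ)) * hD +
    2 * (((ψ t : ℂˣ) : ℂ) + ((ψ (c t) : ℂˣ) : ℂ) + ((ψ (c (c t)) : ℂˣ) : ℂ)) * hABD

end Cfsg.Agent.Helper6.HomoSyl
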