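import Mathlib

/-!
# The arithmetic of the degrees in the principal `2`-block for a homocyclic Sylow subgroup
-/

set_option autoImplicit false

namespace Cfsg.Agent.Helper6.HomoSyl

/-- The mixed sign case is impossible. -/
theorem arith_mixed (A B : ℤ) (hA : 1 ≤ A) (hB : 15 ≤ B)
    (h : (A * B + B - A) * (1 + A - B) = 9 * A * B) : False := by
  obtain ⟨k, hk⟩ : ∃ k : ℤ, k = A - B := ⟨_, rfl⟩
  have hAk : A = B + k := by rw [hk]; ring
  have hAB : 15 ≤ A * B := by nlinarith
  have h1 : A * B * (k - 8) = k * (k + 1) := by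
    rw [hAk] at h ⊢
    linear_combination h
  rcases le_or_gt k 8 with hk8 | hk8
  · have hkk : 0 ≤ k * (k + 1) := by
      rcases le_or_gt 0 k with h0 | h0
      · exact mul_nonneg h0 (by linarith)
      · have : 0 ≤ (-k) * (-(k + 1)) := mul_nonneg (by linarith) (by linarith)
        linarith
    rcases eq_or_lt_of_le hk8 with h8 | h8
    · rw [h8] at h1
      omega
    · have : A * B * (k - 8) ≤ -(A * B) := by nlinarith
      linarith
  · have hA' : 15 + k ≤ A := by linarith
    have h2 : 15 * (15 + k) ≤ A * B := by nlinarith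
    have h3 : 15 * (15 + k) * (k - 8) ≤ A * B * (k - 8) := by
      apply mul_le_mul_of_nonneg_right h2
      linarith
    nlinarith

/-- The degrees and signs in the principal block. -/
theorem arith_main (A B a₂ a₃ : ℤ) (hA : 1 ≤ A) (hB : 1 ≤ B) (ha₂ : a₂ = 1 ∨ a₂ = -1)
    (ha₃ : a₃ = 1 ∨ a₃ = -1) (hA15 : a₂ = -1 → 15 ≤ A) (hB15 : a₃ = -1 → 15 ≤ B)
    (h : (A * B + a₂ * B + a₃ * A) * (1 + a₂ * A + a₃ * B) = 9 * A * B) :
    a₂ = 1 ∧ A = 1 ∧ a₃ = 1 ∧ B = 1 := by
  rcases ha₂ with h2 | h2 <;> rcases ha₃ with h3 | h3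
  · rw [h2, h3] at h
    have h0 : A * (B - 1) ^ 2 + B * (A - 1) ^ 2 + (A - B) ^ 2 = 0 := by
      linear_combination h
    have h1 : 0 ≤ A * (B - 1) ^ 2 := mul_nonneg (by linarith) (sq_nonneg _)
    have h1' : 0 ≤ B * (A - 1) ^ 2 := mul_nonneg (by linarith) (sq_nonneg _)
    have h1'' : 0 ≤ (A - B) ^ 2 := sq_nonneg _
    have hB1 : (B - 1) ^ 2 ≤ 0 := by nlinarith [sq_nonneg (B - 1)]
    have hA1 : (A - 1) ^ 2 ≤ 0 := by nlinarith [sq_nonneg (A - 1)]
    have hB1' : B - 1 = 0 := by
      have := le_antisymm hB1 (sq_nonneg _)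
      exact pow_eq_zero_iff (two_ne_zero) |>.mp this
    have hA1' : A - 1 = 0 := by
      have := le_antisymm hA1 (sq_nonneg _)
      exact pow_eq_zero_iff (two_ne_zero) |>.mp this
    exact ⟨h2, by linarith, h3, by linarith⟩
  · exfalso
    rw [h2, h3] at h
    apply arith_mixed A B hA (hB15 h3)
    linear_combination h
  · exfalso
    rw [h2, h3] at h
    apply arith_mixed B A hB (hA15 h2)
    linear_combination h
  · exfalso
    rw [h2, h3] at h
    have hA' := hA15 h2
    have hB' := hB15 h3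
    have h1 : 0 < A * B - B - A := by nlinarith
    have h2 : 1 - A - B < 0 := by linarith
    have h3 : (A * B - B - A) * (1 - A - B) < 0 := mul_neg_of_pos_of_neg h1 h2
    have h4 : 0 < 9 * A * B := by nlinarith
    have h5 : (A * B + -1 * B + -1 * A) * (1 + -1 * A + -1 * B) =
        (A * B - B - A) * (1 - A - B) := by ring
    rw [h5] at h
    linarith

end Cfsg.Agent.Helper6.HomoSyl
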