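import Mathlib
import Cfsg.Agent.Helper6.BLdA

/-!
# Auxiliary lemmas for the principal `2`-block of a group with a homocyclic Sylow `2`-subgroup
-/

set_option autoImplicit false
set_option linter.style.haveILetI false

namespace Cfsg.Agent.Helper6.HomoSyl

open scoped ComplexConjugate

universe u

/-- Consequences of the norm equation `(d - δ)² + (T - 1) d² + ∑ a² = 4` with `T ≥ 5`. -/
theorem norm_eq_consequences {ι : Type*} (X : Set ι) (hXfin : X.Finite) (a : ι → ℤ) (d δ T : ℤ)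
    (hδ : δ = 1 ∨ δ = -1) (hT : 5 ≤ T) (hne : X.Nonempty) (ha : ∀ χ ∈ X, a χ ≠ 0)
    (hnorm : (d - δ) ^ 2 + (T - 1) * d ^ 2 + ∑ᶠ χ ∈ X, a χ ^ 2 = 4) :
    d = 0 ∧ Nat.card X = 3 ∧ ∀ χ ∈ X, a χ = 1 ∨ a χ = -1 := by
  classical
  rw [finsum_mem_eq_finite_toFinset_sum _ hXfin] at hnorm
  set F := hXfin.toFinset with hF
  have hFcard : Nat.card X = F.card := by
    rw [Nat.card_coe_set_eq, Set.ncard_eq_toFinset_card X hXfin]
  have hge1 : ∀ χ ∈ F, 1 ≤ a χ ^ 2 := by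
    intro χ hχ
    have h0 : a χ ≠ 0 := ha χ ((Set.Finite.mem_toFinset hXfin).mp hχ)
    have : 0 < a χ ^ 2 := by positivity
    linarith
  have hsum_ge : (F.card : ℤ) ≤ ∑ χ ∈ F, a χ ^ 2 := by
    have := Finset.card_nsmul_le_sum F (fun χ => a χ ^ 2) 1 hge1
    simpa using this
  have hFpos : 1 ≤ (F.card : ℤ) := by
    obtain ⟨χ, hχ⟩ := hne
    have : 0 < F.card := Finset.card_pos.mpr ⟨χ, (Set.Finite.mem_toFinset hXfin).mpr hχ⟩
    exact_mod_cast this
  have hd : d = 0 := by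
    by_contra hd
    have hd2 : 1 ≤ d ^ 2 := by
      have : 0 < d ^ 2 := by positivity
      linarith
    have h1 : 4 ≤ (T - 1) * d ^ 2 := by nlinarith
    have h2 : 0 ≤ (d - δ) ^ 2 := sq_nonneg _
    linarith
  have hδ2 : δ ^ 2 = 1 := by
    rcases hδ with h | h <;> rw [h] <;> norm_num
  have hsum3 : ∑ χ ∈ F, a χ ^ 2 = 3 := by
    rw [hd] at hnorm
    have : (0 - δ) ^ 2 = δ ^ 2 := by ring
    rw [this, hδ2] at hnorm
    linarith
  have hpm : ∀ χ ∈ F, a χ = 1 ∨ a χ = -1 := by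
    intro χ hχ
    have h1 : a χ ^ 2 ≤ ∑ χ ∈ F, a χ ^ 2 :=
      Finset.single_le_sum (f := fun χ => a χ ^ 2) (fun i _ => sq_nonneg _) hχ
    rw [hsum3] at h1
    have h0 : a χ ≠ 0 := ha χ ((Set.Finite.mem_toFinset hXfin).mp hχ)
    have h2 : a χ ≤ 1 := by nlinarith
    have h3 : -1 ≤ a χ := by nlinarith
    omega
  refine ⟨hd, ?_, fun χ hχ => hpm χ ((Set.Finite.mem_toFinset hXfin).mpr hχ)⟩
  have h4 : ∑ χ ∈ F, a χ ^ 2 = ∑ χ ∈ F, (1 : ℤ) := by
    apply Finset.sum_congr rfl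
    intro χ hχ
    rcases hpm χ hχ with h | h <;> rw [h] <;> norm_num
  rw [hsum3, Finset.sum_const, nsmul_eq_mul, mul_one] at h4
  rw [hFcard]
  exact_mod_cast h4.symm

/-- A set with three elements, one of them given. -/
theorem three_set {ι : Type*} (X : Set ι) (h : Nat.card X = 3) (χ₁ : ι) (h₁ : χ₁ ∈ X) :
    ∃ χ₂ χ₃ : ι, χ₂ ∈ X ∧ χ₃ ∈ X ∧ χ₂ ≠ χ₁ ∧ χ₃ ≠ χ₁ ∧ χ₂ ≠ χ₃ ∧
      ∀ f : ι → ℂ, ∑ᶠ χ ∈ X, f χ = f χ₁ + f χ₂ + f χ₃ := by
  classical
  have hfin : Finite X := Nat.finite_of_card_ne_zero (by rw [h]; norm_num)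
  have hXfin : X.Finite := Set.toFinite X
  set F := hXfin.toFinset with hF
  have hFcard : F.card = 3 := by
    rw [← h, Nat.card_coe_set_eq, Set.ncard_eq_toFinset_card X hXfin]
  have h1F : χ₁ ∈ F := (Set.Finite.mem_toFinset hXfin).mpr h₁
  have he : (F.erase χ₁).card = 2 := by
    rw [Finset.card_erase_of_mem h1F, hFcard]
  obtain ⟨x, y, hxy, hE⟩ := Finset.card_eq_two.mp he
  have hx : x ∈ F.erase χ₁ := by rw [hE]; simp
  have hy : y ∈ F.erase χ₁ := by rw [hE]; simp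
  rw [Finset.mem_erase] at hx hy
  refine ⟨x, y, (Set.Finite.mem_toFinset hXfin).mp hx.2, (Set.Finite.mem_toFinset hXfin).mp hy.2,
    hx.1, hy.1, hxy, ?_⟩
  intro f
  rw [finsum_mem_eq_finite_toFinset_sum _ hXfin, ← Finset.add_sum_erase F f h1F, hE,
    Finset.sum_pair hxy, add_assoc]

variable {G : Type u} [Group G]

open Classical in
/-- The coefficient attached to the indicator function of `y₀⁻¹`. -/
theorem coeff_indicator (P : Subgroup G) (y₀ : G) (hy₀ : y₀ ∈ P) (χ : G → ℂ) :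
    ∑ᶠ w : ↥P, χ (w : G) *
      (fun v : ↥P => if (v : G) = y₀⁻¹ then (1 : ℂ) else 0) w⁻¹ = χ y₀ := by
  rw [finsum_eq_single _ (⟨y₀, hy₀⟩ : ↥P)]
  · simp
  · intro w hw
    have : ((w⁻¹ : ↥P) : G) ≠ y₀⁻¹ := by
      intro h
      apply hw
      apply Subtype.ext
      rw [Subgroup.coe_inv, inv_inj] at h
      exact h
    simp only [this, if_false, mul_zero]

/-- A character with value `-1` on the non-identity elements of a subgroup `P` has degree at
least `|P| - 1`. -/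
theorem degree_bound [Finite G] (P : Subgroup G) (χ : G → ℂ) (hχ : Cfsg.IsCharacter G χ) (A : ℕ)
    (hA : χ 1 = A) (hval : ∀ z ∈ P, z ≠ 1 → χ z = -1) : Nat.card P ≤ A + 1 := by
  classical
  haveI : Fintype ↥P := Fintype.ofFinite _
  obtain ⟨μ, hμ⟩ := BLd.exists_mult P χ hχ
  have h1 := hμ 1
  unfold Cfsg.classInner at h1
  have h2 : ∑ w : ↥P, χ (w : G) * conj ((((1 : ↥P →* ℂˣ) w : ℂˣ) : ℂ)) =
      (A : ℂ) - ((Nat.card P : ℂ) - 1) := by
    have h3 : ∀ w : ↥P, χ (w : G) * conj ((((1 : ↥P →* ℂˣ) w : ℂˣ) : ℂ)) =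
        (if w = 1 then (A : ℂ) + 1 else 0) - 1 := by
      intro w
      simp only [MonoidHom.one_apply, Units.val_one, map_one, mul_one]
      by_cases hw : w = 1
      · rw [if_pos hw, hw, Subgroup.coe_one, hA]
        ring
      · rw [if_neg hw, hval (w : G) w.2 (fun h => hw (Subtype.ext h))]
        ring
    rw [Finset.sum_congr rfl (fun w _ => h3 w), Finset.sum_sub_distrib, Finset.sum_ite_eq'
      ]
    simp only [Finset.mem_univ, if_true, Finset.sum_const, Finset.card_univ, nsmul_eq_mul, mul_one]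
    rw [Nat.card_eq_fintype_card]
    ring
  rw [h2] at h1
  have hP0 : (Nat.card P : ℂ) ≠ 0 := by
    have : Nat.card P ≠ 0 := Nat.card_pos.ne'
    exact_mod_cast this
  have h4 : (A : ℂ) + 1 = (Nat.card P : ℂ) * ((μ 1 : ℂ) + 1) := by
    field_simp at h1
    linear_combination h1
  have h5 : A + 1 = Nat.card P * (μ 1 + 1) := by exact_mod_cast h4
  rw [h5]
  exact Nat.le_mul_of_pos_right _ (Nat.succ_pos _)

end Cfsg.Agent.Helper6.HomoSyl
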