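import Mathlib
import Cfsg.Agent.Helper6.HomoSylB
import Cfsg.Agent.Helper6.HomoSylC
import Cfsg.Agent.Helper6.HomoSylD
import Cfsg.Agent.Helper6.BLeoJ
import Cfsg.Agent.Helper6.BrauerAppB
import Cfsg.Agent.Helper6.BlockKernel
import Cfsg.Agent.Helper6.PowCongr

/-!
# A proper normal subgroup containing a homocyclic Sylow `2`-subgroup with `|N : C| = 3`
-/

set_option autoImplicit false
set_option linter.style.haveILetI false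

namespace Cfsg.Agent.Helper6.HomoSyl

open scoped ComplexConjugate

universe u

variable {G : Type u} [Group G]

set_option maxHeartbeats 1600000 in
/-- Brauer's argument: if the abelian Sylow `2`-subgroup `P` (of order at least `16`, with an
involution and an element of order four) has `|N(P) : C(P)| = 3` with a free action, then `P` lies
in a proper normal subgroup. -/
theorem exists_proper_normal [Finite G] (P : Sylow 2 G)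
    (hcomm : ∀ a ∈ (P : Subgroup G), ∀ b ∈ (P : Subgroup G), a * b = b * a)
    (hcard : 16 ≤ Nat.card ↥(P : Subgroup G))
    (h3 : (Subgroup.centralizer ((P : Subgroup G) : Set G)).relIndex
      (Subgroup.normalizer ((P : Subgroup G) : Set G)) = 3)
    (hfree : ∀ n ∈ Subgroup.normalizer ((P : Subgroup G) : Set G),
      n ∉ Subgroup.centralizer ((P : Subgroup G) : Set G) →
      ∀ y ∈ (P : Subgroup G), y ≠ 1 → n * y * n⁻¹ ≠ y)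
    (t₀ : G) (ht₀P : t₀ ∈ (P : Subgroup G)) (ht₀ : orderOf t₀ = 2)
    (y₀ : G) (hy₀P : y₀ ∈ (P : Subgroup G)) (hy₀ : orderOf y₀ = 4) :
    ∃ K : Subgroup G, K.Normal ∧ K ≠ ⊤ ∧ (P : Subgroup G) ≤ K := by
  classical
  haveI : Fact (Nat.Prime 2) := ⟨Nat.prime_two⟩
  obtain ⟨M, hM⟩ := exists_isPModular 2 Nat.prime_two
  haveI : Finite (Cfsg.IrrCharacter G) := irr_finite
  have hfrob : ∀ y : G, y ∈ (P : Subgroup G) → y ≠ 1 →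
      Subgroup.centralizer ({y} : Set G) ⊓ Subgroup.normalizer ((P : Subgroup G) : Set G) =
        Subgroup.centralizer ((P : Subgroup G) : Set G) := by
    intro y hy hy1
    apply le_antisymm
    · intro n hn
      rw [Subgroup.mem_inf] at hn
      by_contra hnC
      apply hfree n hn.2 hnC y hy hy1
      have := Subgroup.mem_centralizer_iff.mp hn.1 y (Set.mem_singleton y)
      rw [← this]
      group
    · intro c hc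
      rw [Subgroup.mem_inf]
      refine ⟨?_, Subgroup.centralizer_le_normalizer _ hc⟩
      rw [Subgroup.mem_centralizer_iff]
      intro z hz
      rw [Set.mem_singleton_iff] at hz
      rw [hz]
      exact Subgroup.mem_centralizer_iff.mp hc y hy
  have hP1 : Nat.card ↥(P : Subgroup G) ≠ 1 := by omega
  obtain ⟨s, X, Y, hs, hB₀, hdisj, hcardX, hcardY, ⟨χ₁, hχ₁X, hχ₁⟩, a, d, δ, ζ, hδ, hX, hζY, hYζ,
    hζrel, hζval, hnorm, hYreg, hreg2⟩ :=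
    BLeo.brauer_leonard 2 M hM P hcomm hP1 3 (by norm_num) (by omega) h3 hfrob
  obtain ⟨q, hq⟩ : ∃ q : ℕ, q = Nat.card ↥(P : Subgroup G) := ⟨_, rfl⟩
  rw [← hq] at hcard hcardY hnorm hreg2
  have hXfin : X.Finite := Set.toFinite X
  have hYfin : Y.Finite := Set.toFinite Y
  have hT : (5 : ℤ) ≤ ((q : ℤ) - 1) / 3 := by omega
  have hnorm' : (d - δ) ^ 2 + (((q : ℤ) - 1) / 3 - 1) * d ^ 2 + ∑ᶠ χ ∈ X, a χ ^ 2 = 4 := by
    have := hnorm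
    push_cast at this
    linarith
  obtain ⟨hd0, hX3, hapm⟩ := norm_eq_consequences X hXfin a d δ (((q : ℤ) - 1) / 3) hδ hT
    ⟨χ₁, hχ₁X⟩ (fun χ hχ => (hX χ hχ).1) hnorm'
  obtain ⟨χ₂, χ₃, hχ₂X, hχ₃X, h21, h31, h23, hsumX⟩ := three_set X hX3 χ₁ hχ₁X
  -- the `2`-parts
  have hPpart : ∀ z ∈ (P : Subgroup G), Cfsg.IsPPart 2 z z := by
    intro z hz
    obtain ⟨k, hk⟩ := P.isPGroup' ⟨z, hz⟩
    have h1 : z ^ 2 ^ k = 1 := by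
      have := congrArg (fun w : ↥(P : Subgroup G) => (w : G)) hk
      simpa using this
    obtain ⟨j, -, hj⟩ := (Nat.dvd_prime_pow Nat.prime_two).mp (orderOf_dvd_of_pow_eq_one h1)
    exact isPPart_self z j hj
  have ht₀1 : t₀ ≠ 1 := by
    intro h
    rw [h, orderOf_one] at ht₀
    omega
  have hy₀1 : y₀ ≠ 1 := by
    intro h
    rw [h, orderOf_one] at hy₀
    omega
  have hXval : ∀ χ ∈ X, ∀ z ∈ (P : Subgroup G), z ≠ 1 → (χ : G → ℂ) z = (a χ : ℂ) :=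
    fun χ hχ z hz hz1 => (hX χ hχ).2 z z (hPpart z hz) hz hz1
  have ha1 : a χ₁ = 1 := by
    have h := hXval χ₁ hχ₁X t₀ ht₀P ht₀1
    rw [hχ₁] at h
    have h' : (1 : ℂ) = (a χ₁ : ℂ) := h
    exact_mod_cast h'.symm
  -- the degrees
  obtain ⟨A, hApos, hA⟩ := IsIrrCharacter.apply_one_pos χ₂.2
  obtain ⟨B, hBpos, hB⟩ := IsIrrCharacter.apply_one_pos χ₃.2
  have hχ₁1 : (χ₁ : G → ℂ) 1 = 1 := by rw [hχ₁]
  -- `Y`
  have hYne : Y.Nonempty := by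
    by_contra h
    rw [Set.not_nonempty_iff_eq_empty] at h
    rw [h] at hcardY
    have h0 : Nat.card (∅ : Set (Cfsg.IrrCharacter G)) = 0 := by simp
    omega
  obtain ⟨η₀, hη₀⟩ := hYne
  obtain ⟨Y₀, hY₀pos, hY₀⟩ := IsIrrCharacter.apply_one_pos η₀.2
  have h2reg1 : ¬ 2 ∣ orderOf (1 : G) := by
    rw [orderOf_one]
    norm_num
  have hYdeg : ∀ η ∈ Y, (η : G → ℂ) 1 = (Y₀ : ℂ) := fun η hη => by
    rw [hYreg η hη η₀ hη₀ 1 h2reg1, hY₀]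
  have hδ2 : (δ : ℂ) ^ 2 = 1 := by
    rcases hδ with h | h <;> rw [h] <;> norm_num
  have hYt : ∀ η ∈ Y, (η : G → ℂ) t₀ ^ 2 = 3 + 2 * (δ : ℂ) * (η : G → ℂ) t₀ := by
    intro η hη
    obtain ⟨ψ, hψ, rfl⟩ := hYζ η hη
    have h1 := hζval ψ hψ t₀ ⟨t₀, ht₀P⟩ (hPpart t₀ ht₀P) ht₀1
    have ht₀sq : (⟨t₀, ht₀P⟩ : ↥(P : Subgroup G)) ^ 2 = 1 := by
      apply Subtype.ext
      have := pow_orderOf_eq_one t₀
      rw [ht₀] at this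
      simpa using this
    have h2 := finsum_rel_involution (P : Subgroup G) hcomm hfree h3 ψ hψ ⟨t₀, ht₀P⟩ ht₀sq
    rw [hd0] at h1
    rw [h1]
    push_cast
    linear_combination h2 + ((∑ᶠ ψ' ∈ {ψ' : ↥(P : Subgroup G) →* ℂˣ |
      ∃ n : G, n ∈ Subgroup.normalizer ((P : Subgroup G) : Set G) ∧
        ∀ w w' : ↥(P : Subgroup G), (w' : G) = n * w * n⁻¹ → ψ' w' = ψ w},
      ((ψ' (⟨t₀, ht₀P⟩ : ↥(P : Subgroup G)) : ℂˣ) : ℂ)) ^ 2 -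
      2 * ∑ᶠ ψ' ∈ {ψ' : ↥(P : Subgroup G) →* ℂˣ |
      ∃ n : G, n ∈ Subgroup.normalizer ((P : Subgroup G) : Set G) ∧
        ∀ w w' : ↥(P : Subgroup G), (w' : G) = n * w * n⁻¹ → ψ' w' = ψ w},
      ((ψ' (⟨t₀, ht₀P⟩ : ↥(P : Subgroup G)) : ℂˣ) : ℂ)) * hδ2
  -- Brauer's identities
  have hy₀sq : (y₀⁻¹) ^ 2 ≠ 1 := by
    rw [inv_pow, ne_eq, inv_eq_one]
    intro h
    have := orderOf_dvd_of_pow_eq_one h
    rw [hy₀] at this
    omega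
  obtain ⟨θ, hθdef⟩ : ∃ θ : ↥(P : Subgroup G) → ℂ,
      θ = fun v : ↥(P : Subgroup G) => if (v : G) = y₀⁻¹ then (1 : ℂ) else 0 := ⟨_, rfl⟩
  obtain ⟨I1, I2, I3⟩ := brauer_involution_identities hM (P : Subgroup G) P.isPGroup'
    ({y₀⁻¹} : Set G) t₀ ht₀
    (by
      intro u hu g
      rw [Set.mem_singleton_iff] at hu
      rw [hu]
      exact not_inverted P hcomm h3 hfree y₀⁻¹ (Subgroup.inv_mem _ hy₀P) hy₀sq _)
    θ
    (by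
      intro v hv
      rw [Set.mem_singleton_iff] at hv
      rw [hθdef]
      exact if_neg hv)
  have hcoef : ∀ χ : Cfsg.IrrCharacter G,
      ∑ᶠ w : ↥(P : Subgroup G), (χ : G → ℂ) (w : G) * θ w⁻¹ = (χ : G → ℂ) y₀ := by
    intro χ
    rw [hθdef]
    exact coeff_indicator (P : Subgroup G) y₀ hy₀P (χ : G → ℂ)
  simp_rw [hcoef, ← hq] at I1 I2 I3
  rw [hB₀, finsum_mem_union hdisj hXfin hYfin] at I1 I2 I3
  rw [hsumX] at I1 I2 I3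
  rw [finsum_mem_eq_finite_toFinset_sum _ hYfin] at I1 I2 I3
  have hq0 : (q : ℂ) ≠ 0 := by
    have : q ≠ 0 := by omega
    exact_mod_cast this
  have hY₀0 : (Y₀ : ℂ) ≠ 0 := by exact_mod_cast hY₀pos.ne'
  have hA0 : (A : ℂ) ≠ 0 := by exact_mod_cast hApos.ne'
  have hB0 : (B : ℂ) ≠ 0 := by exact_mod_cast hBpos.ne'
  obtain ⟨S1, hS1⟩ : ∃ S1 : ℂ, S1 = ∑ η ∈ hYfin.toFinset, (η : G → ℂ) y₀ := ⟨_, rfl⟩
  obtain ⟨S2, hS2⟩ : ∃ S2 : ℂ, S2 = ∑ η ∈ hYfin.toFinset, (η : G → ℂ) y₀ * (η : G → ℂ) t₀ :=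
    ⟨_, rfl⟩
  have hJ2 : ∑ η ∈ hYfin.toFinset, (q : ℂ)⁻¹ * (η : G → ℂ) y₀ * (η : G → ℂ) 1 =
      (q : ℂ)⁻¹ * (Y₀ : ℂ) * S1 := by
    rw [hS1, Finset.mul_sum]
    apply Finset.sum_congr rfl
    intro η hη
    rw [hYdeg η ((Set.Finite.mem_toFinset hYfin).mp hη)]
    ring
  have hJ3 : ∑ η ∈ hYfin.toFinset, (q : ℂ)⁻¹ * (η : G → ℂ) y₀ * (η : G → ℂ) t₀ =
      (q : ℂ)⁻¹ * S2 := by
    rw [hS2, Finset.mul_sum]
    apply Finset.sum_congr rfl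
    intro η hη
    ring
  have hJ1 : ∑ η ∈ hYfin.toFinset,
      (q : ℂ)⁻¹ * (η : G → ℂ) y₀ * (η : G → ℂ) t₀ ^ 2 / (η : G → ℂ) 1 =
      (q : ℂ)⁻¹ * (Y₀ : ℂ)⁻¹ * (3 * S1 + 2 * (δ : ℂ) * S2) := by
    rw [hS1, hS2, Finset.mul_sum, Finset.mul_sum, ← Finset.sum_add_distrib, Finset.mul_sum]
    apply Finset.sum_congr rfl
    intro η hη
    rw [hYdeg η ((Set.Finite.mem_toFinset hYfin).mp hη),
      hYt η ((Set.Finite.mem_toFinset hYfin).mp hη)]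
    field_simp
  rw [hJ1] at I1
  rw [hJ2] at I2
  rw [hJ3] at I3
  rw [hXval χ₁ hχ₁X y₀ hy₀P hy₀1, hXval χ₂ hχ₂X y₀ hy₀P hy₀1, hXval χ₃ hχ₃X y₀ hy₀P hy₀1]
    at I1 I2 I3
  rw [hXval χ₁ hχ₁X t₀ ht₀P ht₀1, hXval χ₂ hχ₂X t₀ ht₀P ht₀1, hXval χ₃ hχ₃X t₀ ht₀P ht₀1]
    at I1 I3
  rw [hχ₁1, hA, hB, ha1] at I1 I2
  rw [ha1] at I3
  -- the relation among the degrees
  have hR := hreg2 η₀ hη₀ 1 h2reg1
  rw [hsumX, hχ₁1, hA, hB, ha1, hY₀, hd0] at hR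
  push_cast at hR I1 I2 I3
  have ha2sq : ((a χ₂ : ℤ) : ℂ) ^ 2 = 1 := by
    rcases hapm χ₂ hχ₂X with h | h <;> rw [h] <;> norm_num
  have ha3sq : ((a χ₃ : ℤ) : ℂ) ^ 2 = 1 := by
    rcases hapm χ₃ hχ₃X with h | h <;> rw [h] <;> norm_num
  -- `hR : (t * 0 - δ) * Y₀ + (1 * 1 + a₂ * A + a₃ * B) = 0`
  have e1 : 1 + (a χ₂ : ℂ) * A + (a χ₃ : ℂ) * B = (δ : ℂ) * Y₀ := by
    linear_combination hR
  have hqinv : ((q : ℂ))⁻¹ ≠ 0 := inv_ne_zero hq0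
  have I2' : 1 + (a χ₂ : ℂ) * A + (a χ₃ : ℂ) * B + (Y₀ : ℂ) * S1 = 0 := by
    have h : (q : ℂ)⁻¹ * (1 + (a χ₂ : ℂ) * A + (a χ₃ : ℂ) * B + (Y₀ : ℂ) * S1) = 0 := by
      linear_combination I2
    rcases mul_eq_zero.mp h with h | h
    · exact absurd h hqinv
    · exact h
  have I3' : 1 + (a χ₂ : ℂ) * (a χ₂ : ℂ) + (a χ₃ : ℂ) * (a χ₃ : ℂ) + S2 = 0 := by
    have h : (q : ℂ)⁻¹ * (1 + (a χ₂ : ℂ) * (a χ₂ : ℂ) + (a χ₃ : ℂ) * (a χ₃ : ℂ) + S2) = 0 := by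
      linear_combination I3
    rcases mul_eq_zero.mp h with h | h
    · exact absurd h hqinv
    · exact h
  have I1' : 1 + (a χ₂ : ℂ) * (a χ₂ : ℂ) ^ 2 / A + (a χ₃ : ℂ) * (a χ₃ : ℂ) ^ 2 / B +
      (Y₀ : ℂ)⁻¹ * (3 * S1 + 2 * (δ : ℂ) * S2) = 0 := by
    have h : (q : ℂ)⁻¹ * (1 + (a χ₂ : ℂ) * (a χ₂ : ℂ) ^ 2 / A + (a χ₃ : ℂ) * (a χ₃ : ℂ) ^ 2 / B +
        (Y₀ : ℂ)⁻¹ * (3 * S1 + 2 * (δ : ℂ) * S2)) = 0 := by
      linear_combination I1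
    rcases mul_eq_zero.mp h with h | h
    · exact absurd h hqinv
    · exact h
  have e2 : S1 = -(δ : ℂ) := by
    have h1 : (Y₀ : ℂ) * (S1 + (δ : ℂ)) = 0 := by
      linear_combination I2' - e1
    rcases mul_eq_zero.mp h1 with h | h
    · exact absurd h hY₀0
    · linear_combination h
  have e3 : S2 = -3 := by
    linear_combination I3' - ha2sq - ha3sq
  have ha2cu : ((a χ₂ : ℤ) : ℂ) ^ 3 = (a χ₂ : ℂ) := by
    rw [pow_succ, ha2sq, one_mul]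
  have ha3cu : ((a χ₃ : ℤ) : ℂ) ^ 3 = (a χ₃ : ℂ) := by
    rw [pow_succ, ha3sq, one_mul]
  have K0 : (A : ℂ) * B * Y₀ + (a χ₂ : ℂ) ^ 3 * B * Y₀ + (a χ₃ : ℂ) ^ 3 * A * Y₀ +
      (A : ℂ) * B * (3 * S1 + 2 * (δ : ℂ) * S2) = 0 := by
    have key : ((A : ℂ) * B * Y₀) * (1 + (a χ₂ : ℂ) * (a χ₂ : ℂ) ^ 2 / A +
        (a χ₃ : ℂ) * (a χ₃ : ℂ) ^ 2 / B + (Y₀ : ℂ)⁻¹ * (3 * S1 + 2 * (δ : ℂ) * S2)) =
        (A : ℂ) * B * Y₀ + (a χ₂ : ℂ) ^ 3 * B * Y₀ + (a χ₃ : ℂ) ^ 3 * A * Y₀ +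
          (A : ℂ) * B * (3 * S1 + 2 * (δ : ℂ) * S2) := by
      field_simp
    rw [I1', mul_zero] at key
    exact key.symm
  have e4 : ((A : ℂ) * B + (a χ₂ : ℂ) * B + (a χ₃ : ℂ) * A) * ((δ : ℂ) * Y₀) = 9 * A * B := by
    linear_combination (δ : ℂ) * K0 - (δ : ℂ) * B * Y₀ * ha2cu - (δ : ℂ) * A * Y₀ * ha3cu -
      3 * (δ : ℂ) * A * B * e2 - 2 * (δ : ℂ) ^ 2 * A * B * e3 + 9 * A * B * hδ2
  rw [← e1] at e4
  have hint : ((A : ℤ) * B + a χ₂ * B + a χ₃ * A) * (1 + a χ₂ * A + a χ₃ * B) = 9 * A * B := by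
    have hC : ((((A : ℤ) * B + a χ₂ * B + a χ₃ * A) * (1 + a χ₂ * A + a χ₃ * B) : ℤ) : ℂ) =
        ((9 * A * B : ℤ) : ℂ) := by
      push_cast
      exact e4
    exact_mod_cast hC
  have hbound : ∀ χ ∈ X, ∀ D : ℕ, (χ : G → ℂ) 1 = D → a χ = -1 → (15 : ℤ) ≤ D := by
    intro χ hχ D hD hneg
    have h1 := degree_bound (P : Subgroup G) (χ : G → ℂ) (IsIrrCharacter.isCharacter χ.2) D hD
      (by
        intro z hz hz1
        rw [hXval χ hχ z hz hz1, hneg]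
        norm_num)
    rw [← hq] at h1
    have : 15 ≤ D := by omega
    exact_mod_cast this
  obtain ⟨ha2, hA1, -, -⟩ := arith_main (A : ℤ) (B : ℤ) (a χ₂) (a χ₃) (by exact_mod_cast hApos)
    (by exact_mod_cast hBpos) (hapm χ₂ hχ₂X) (hapm χ₃ hχ₃X) (hbound χ₂ hχ₂X A hA)
    (hbound χ₃ hχ₃X B hB) hint
  have hA1' : A = 1 := by exact_mod_cast hA1
  refine ⟨kerSub χ₂, kerSub_normal χ₂, ?_, ?_⟩
  · intro h
    apply h21
    apply Subtype.ext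
    rw [hχ₁]
    funext g
    have hg : g ∈ kerSub χ₂ := by
      rw [h]
      exact Subgroup.mem_top g
    rw [mem_kerSub] at hg
    rw [hg, hA, hA1']
    simp
  · intro z hz
    rw [mem_kerSub]
    by_cases hz1 : z = 1
    · rw [hz1]
    · rw [hXval χ₂ hχ₂X z hz hz1, hA, hA1', ha2]
      simp

end Cfsg.Agent.Helper6.HomoSyl
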