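import Mathlib
import Cfsg.Agent.Helper6.HomoSylE
import Cfsg.Agent.Helper1.Fitting

/-!
# Groups with a homocyclic Sylow `2`-subgroup of rank two and trivial core
-/

set_option autoImplicit false
set_option linter.style.haveILetI false

namespace Cfsg.Agent.Helper6.HomoSyl

universe u

/-- An element of order four in `ℤ/2^m × ℤ/2^m`. -/
theorem exists_orderOf_four (m : ℕ) (hm : 2 ≤ m) :
    ∃ z : Multiplicative (ZMod (2 ^ m) × ZMod (2 ^ m)), orderOf z = 4 := by
  obtain ⟨j, rfl⟩ : ∃ j, m = j + 2 := ⟨m - 2, by omega⟩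
  refine ⟨Multiplicative.ofAdd (((2 ^ j : ℕ) : ZMod (2 ^ (j + 2))), 0), ?_⟩
  have h4 : (4 : ℕ) = 2 ^ (1 + 1) := by norm_num
  rw [h4]
  have key : ∀ k : ℕ, (Multiplicative.ofAdd
      ((((2 ^ j : ℕ) : ZMod (2 ^ (j + 2))), (0 : ZMod (2 ^ (j + 2)))))) ^ k = 1 ↔
      2 ^ (j + 2) ∣ k * 2 ^ j := by
    intro k
    rw [← ofAdd_nsmul, ofAdd_eq_one, Prod.smul_mk, smul_zero, Prod.mk_eq_zero, nsmul_eq_mul,
      ← Nat.cast_mul, ZMod.natCast_eq_zero_iff]
    simp
  apply orderOf_eq_prime_pow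
  · rw [key]
    intro h
    have h1 : 2 ^ (j + 2) ≤ 2 ^ 1 * 2 ^ j := Nat.le_of_dvd (by positivity) h
    rw [pow_add] at h1
    have : 0 < 2 ^ j := by positivity
    nlinarith
  · rw [key]
    refine ⟨1, ?_⟩
    ring

variable {G : Type u} [Group G]

/-- The basic facts on a Sylow `2`-subgroup isomorphic to `ℤ/2^m × ℤ/2^m`. -/
theorem setup_of_equiv [Finite G] (P : Sylow 2 G) (m : ℕ) (hm : 2 ≤ m)
    (e : (P : Subgroup G) ≃* Multiplicative (ZMod (2 ^ m) × ZMod (2 ^ m))) :
    (∀ a ∈ (P : Subgroup G), ∀ b ∈ (P : Subgroup G), a * b = b * a) ∧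
    (∀ x ∈ (P : Subgroup G), x ^ (2 ^ m) = 1) ∧
    Nat.card {x : ↥(P : Subgroup G) // x ^ 2 = 1} ≤ 4 ∧
    16 ≤ Nat.card ↥(P : Subgroup G) ∧
    (∃ t₀ ∈ (P : Subgroup G), orderOf t₀ = 2) ∧ (∃ y₀ ∈ (P : Subgroup G), orderOf y₀ = 4) := by
  have hcommP : ∀ a b : (P : Subgroup G), a * b = b * a := by
    intro a b
    apply e.injective
    rw [map_mul, map_mul, mul_comm]
  have hcomm : ∀ a ∈ (P : Subgroup G), ∀ b ∈ (P : Subgroup G), a * b = b * a := by
    intro a ha b hb
    exact congrArg Subtype.val (hcommP ⟨a, ha⟩ ⟨b, hb⟩)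
  have hexp : ∀ x ∈ (P : Subgroup G), x ^ (2 ^ m) = 1 := by
    intro x hx
    have h1 : (⟨x, hx⟩ : (P : Subgroup G)) ^ (2 ^ m) = 1 := by
      apply e.injective
      rw [map_pow, map_one]
      exact pow_two_pow_eq_one m _
    exact congrArg Subtype.val h1
  have hcard : Nat.card {x : (P : Subgroup G) // x ^ 2 = 1} ≤ 4 := by
    have h1 : Nat.card {x : (P : Subgroup G) // x ^ 2 = 1} =
        Nat.card {y : Multiplicative (ZMod (2 ^ m) × ZMod (2 ^ m)) // y ^ 2 = 1} := by
      apply Nat.card_congr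
      apply Equiv.subtypeEquiv e.toEquiv
      intro x
      constructor
      · intro h
        change (e x) ^ 2 = 1
        rw [← map_pow, h, map_one]
      · intro h
        change (e x) ^ 2 = 1 at h
        apply e.injective
        rw [map_pow, h, map_one]
    rw [h1]
    exact card_sq_eq_one_le_four m (by omega)
  have h16 : 16 ≤ Nat.card ↥(P : Subgroup G) := by
    rw [Nat.card_congr e.toEquiv]
    have h1 : Nat.card (Multiplicative (ZMod (2 ^ m) × ZMod (2 ^ m))) =
        Nat.card (ZMod (2 ^ m) × ZMod (2 ^ m)) := Nat.card_congr Multiplicative.toAdd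
    rw [h1, Nat.card_prod, Nat.card_zmod]
    have h2 : 2 ^ 2 ≤ 2 ^ m := Nat.pow_le_pow_right (by norm_num) hm
    nlinarith
  obtain ⟨z, hz⟩ := exists_orderOf_four m hm
  have hy : orderOf ((e.symm z : ↥(P : Subgroup G)) : G) = 4 := by
    rw [Subgroup.orderOf_coe, MulEquiv.orderOf_eq, hz]
  refine ⟨hcomm, hexp, hcard, h16, ⟨((e.symm z : ↥(P : Subgroup G)) : G) ^ 2,
    Subgroup.pow_mem _ (e.symm z).2 2, ?_⟩, ⟨((e.symm z : ↥(P : Subgroup G)) : G), (e.symm z).2, hy⟩⟩
  rw [orderOf_pow' _ (by norm_num : (2 : ℕ) ≠ 0), hy]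
  norm_num

/-- The core of a normal subgroup of a group with trivial core is trivial. -/
theorem odd_normal_eq_bot_of_normal [Finite G]
    (hO : ∀ N : Subgroup G, N.Normal → Odd (Nat.card N) → N = ⊥) (K : Subgroup G) [hK : K.Normal]
    (L : Subgroup ↥K) (hL : L.Normal) (hodd : Odd (Nat.card L)) : L = ⊥ := by
  haveI hchar : (Cfsg.pPrimeCore 2 ↥K).Characteristic := by
    rw [Subgroup.characteristic_iff_map_le]
    intro φ
    unfold Cfsg.pPrimeCore
    rw [(Subgroup.gc_map_comap φ.toMonoidHom).l_sSup]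
    apply iSup₂_le
    rintro N ⟨hN, hcop⟩
    apply le_sSup
    refine ⟨hN.map φ.toMonoidHom φ.surjective, ?_⟩
    rwa [Subgroup.card_map_of_injective φ.injective]
  have h1 : L ≤ Cfsg.pPrimeCore 2 ↥K :=
    Cfsg.Agent.Helper1.le_pPrimeCore hL (Nat.coprime_two_right.mpr hodd)
  have h2 : ((Cfsg.pPrimeCore 2 ↥K).map K.subtype).Normal :=
    ConjAct.normal_of_characteristic_of_normal
  have h3 : Odd (Nat.card ((Cfsg.pPrimeCore 2 ↥K).map K.subtype)) := by
    rw [Subgroup.card_map_of_injective K.subtype_injective]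
    exact Nat.coprime_two_right.mp (Cfsg.Agent.Helper1.card_pPrimeCore_coprime 2)
  have h4 := hO _ h2 h3
  rw [Subgroup.map_eq_bot_iff_of_injective _ K.subtype_injective] at h4
  rw [h4] at h1
  exact le_bot_iff.mp h1

/-- The inductive statement: the Sylow `2`-subgroup is normal. -/
theorem normal_aux (m : ℕ) (hm : 2 ≤ m) :
    ∀ (n : ℕ) (G : Type u) [Group G] [Finite G], Nat.card G = n → ∀ P : Sylow 2 G,
      Nonempty ((P : Subgroup G) ≃* Multiplicative (ZMod (2 ^ m) × ZMod (2 ^ m))) →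
      (∀ N : Subgroup G, N.Normal → Odd (Nat.card N) → N = ⊥) → (P : Subgroup G).Normal := by
  intro n
  induction n using Nat.strong_induction_on with
  | _ n ih =>
  intro G _ _ hn P ⟨e⟩ hO
  haveI : Fact (Nat.Prime 2) := ⟨Nat.prime_two⟩
  obtain ⟨hcomm, hexp, hcard4, hcard16, ⟨t₀, ht₀P, ht₀⟩, ⟨y₀, hy₀P, hy₀⟩⟩ := setup_of_equiv P m hm e
  have ht₀1 : t₀ ≠ 1 := by
    intro h
    rw [h, orderOf_one] at ht₀
    omega
  have ht₀2 : t₀ ^ 2 = 1 := by
    rw [← ht₀]
    exact pow_orderOf_eq_one t₀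
  obtain ⟨h13, hfree⟩ := relIndex_one_or_three P hcomm m (by omega) hexp hcard4 t₀ ht₀P ht₀1 ht₀2
  rcases h13 with h1 | h3
  · have hNC : Subgroup.normalizer ((P : Subgroup G) : Set G) ≤
        Subgroup.centralizer ((P : Subgroup G) : Set G) := Subgroup.relIndex_eq_one.mp h1
    have hK := MonoidHom.ker_transferSylow_isComplement' P hNC
    have hKodd : Odd (Nat.card (MonoidHom.transferSylow P hNC).ker) := by
      rw [← Nat.not_even_iff_odd, even_iff_two_dvd]
      exact MonoidHom.not_dvd_card_ker_transferSylow P hNC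
    have hKbot := hO _ (MonoidHom.normal_ker _) hKodd
    have htop : (P : Subgroup G) = ⊤ := by
      have h2 := hK.card_mul_card
      rw [hKbot, Subgroup.card_bot, one_mul] at h2
      exact Subgroup.eq_top_of_card_eq _ h2
    rw [htop]
    infer_instance
  · obtain ⟨K, hKn, hKtop, hPK⟩ :=
      exists_proper_normal P hcomm hcard16 h3 hfree t₀ ht₀P ht₀ y₀ hy₀P hy₀
    haveI := hKn
    have hlt : Nat.card ↥K < n := by
      rw [← hn]
      by_contra hge
      apply hKtop
      apply Subgroup.eq_top_of_card_eq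
      exact le_antisymm (Subgroup.card_le_card_group K) (not_lt.mp hge)
    have hIH := ih (Nat.card ↥K) hlt ↥K rfl (P.subtype hPK)
      ⟨(Subgroup.subgroupOfEquivOfLe hPK).trans e⟩
      (fun L hL hodd => odd_normal_eq_bot_of_normal hO K L hL hodd)
    haveI : ((P.subtype hPK : Sylow 2 ↥K) : Subgroup ↥K).Normal := hIH
    haveI hchar : ((P.subtype hPK : Sylow 2 ↥K) : Subgroup ↥K).Characteristic :=
      Sylow.characteristic_of_normal _ hIH
    have h5 : (((P.subtype hPK : Sylow 2 ↥K) : Subgroup ↥K).map K.subtype).Normal :=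
      ConjAct.normal_of_characteristic_of_normal
    have h6 : ((P.subtype hPK : Sylow 2 ↥K) : Subgroup ↥K).map K.subtype = (P : Subgroup G) := by
      rw [Sylow.coe_subtype, Subgroup.subgroupOf_map_subtype]
      exact inf_eq_left.mpr hPK
    rw [h6] at h5
    exact h5

/-- A group with Sylow `2`-subgroup `ℤ/2^m × ℤ/2^m` (`m ≥ 2`) and trivial core is `P` or an
extension of `P` by a group of order three acting faithfully. -/
theorem main [Finite G] (P : Sylow 2 G) (m : ℕ) (hm : 2 ≤ m)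
    (e : (P : Subgroup G) ≃* Multiplicative (ZMod (2 ^ m) × ZMod (2 ^ m)))
    (hO : ∀ N : Subgroup G, N.Normal → Odd (Nat.card N) → N = ⊥) :
    (P : Subgroup G).Normal ∧ Subgroup.centralizer (P : Set G) = (P : Subgroup G) ∧
      ((P : Subgroup G).index = 1 ∨ (P : Subgroup G).index = 3) := by
  haveI : Fact (Nat.Prime 2) := ⟨Nat.prime_two⟩
  have hPn : (P : Subgroup G).Normal := normal_aux m hm (Nat.card G) G rfl P ⟨e⟩ hO
  haveI := hPn
  obtain ⟨hcomm, hexp, hcard4, hcard16, ⟨t₀, ht₀P, ht₀⟩, -⟩ := setup_of_equiv P m hm e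
  have ht₀1 : t₀ ≠ 1 := by
    intro h
    rw [h, orderOf_one] at ht₀
    omega
  have ht₀2 : t₀ ^ 2 = 1 := by
    rw [← ht₀]
    exact pow_orderOf_eq_one t₀
  obtain ⟨h13, -⟩ := relIndex_one_or_three P hcomm m (by omega) hexp hcard4 t₀ ht₀P ht₀1 ht₀2
  have hPC : (P : Subgroup G) ≤ Subgroup.centralizer ((P : Subgroup G) : Set G) := by
    intro u hu
    rw [Subgroup.mem_centralizer_iff]
    intro w hw
    exact hcomm w hw u hu
  haveI hCn : (Subgroup.centralizer ((P : Subgroup G) : Set G)).Normal :=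
    Subgroup.normal_centralizer
  -- the centralizer is a `2`-group
  have hC : Subgroup.centralizer ((P : Subgroup G) : Set G) = (P : Subgroup G) := by
    obtain ⟨C, hCdef⟩ : ∃ C : Subgroup G, C = Subgroup.centralizer ((P : Subgroup G) : Set G) :=
      ⟨_, rfl⟩
    rw [← hCdef] at hPC hCn ⊢
    haveI := hCn
    have hcent : Subgroup.normalizer (((P.subtype hPC : Sylow 2 ↥C) : Subgroup ↥C) : Set ↥C) ≤
        Subgroup.centralizer (((P.subtype hPC : Sylow 2 ↥C) : Subgroup ↥C) : Set ↥C) := by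
      intro c _
      rw [Subgroup.mem_centralizer_iff]
      intro w hw
      rw [SetLike.mem_coe, Sylow.coe_subtype, Subgroup.mem_subgroupOf] at hw
      apply Subtype.ext
      have hc : (c : G) ∈ Subgroup.centralizer ((P : Subgroup G) : Set G) := by
        rw [← hCdef]
        exact c.2
      exact Subgroup.mem_centralizer_iff.mp hc (w : G) hw
    obtain ⟨k, hk⟩ := BLeo.pPrimeCore_index_of_normalizer_le_centralizer (P.subtype hPC) hcent
    have hbot : Cfsg.pPrimeCore 2 ↥C = ⊥ :=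
      odd_normal_eq_bot_of_normal hO C _ inferInstance
        (Nat.coprime_two_right.mp (Cfsg.Agent.Helper1.card_pPrimeCore_coprime 2))
    rw [hbot, Subgroup.index_bot] at hk
    have hCp : IsPGroup 2 ↥C := IsPGroup.of_card hk
    exact P.is_maximal' hCp hPC
  refine ⟨hPn, hC, ?_⟩
  rw [hC, Subgroup.normalizer_eq_top, Subgroup.relIndex_top_right] at h13
  exact h13

end Cfsg.Agent.Helper6.HomoSyl
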