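import Mathlib
import Cfsg.Prelude.Def_Characters
import Cfsg.Prelude.Def_Blocks
import Cfsg.Prelude.Def_BlockLocal
import Cfsg.Prelude.Def_BlockRank
import Cfsg.Prelude.Def_BrauerPairs
import Cfsg.Agent.Helper6.HtCenI

/-!
# Brauer's bound `h + c ≤ n + d` for the heights in a block: the proof
-/

set_option autoImplicit false
set_option linter.style.haveILetI false

namespace Cfsg.Agent.Helper6.HtCen

open Cfsg.Agent.Helper6 Cfsg.Agent.Helper6.Maj Cfsg.Agent.Helper6.K4 Cfsg.Agent.Blk47

open scoped ComplexConjugate IsMulCommutative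

universe u

variable {G : Type u} [Group G] {M : Ideal Cfsg.AlgInt}

set_option maxHeartbeats 4000000 in
/-- **Brauer**: `h + c ≤ n + d` -/
theorem height_add_center_le [Finite G] {p : ℕ} [hp : Fact p.Prime]
    (hM : Cfsg.IsPModular p M) (B : Set (Cfsg.IrrCharacter G)) (hB : Cfsg.IsPBlock M B)
    (D : Subgroup G) (hBD : Cfsg.IsDefectGroup p M B D) (d : ℕ) (hDd : Nat.card D = p ^ d)
    (b : Set (Cfsg.IrrCharacter ↥(D ⊔ Subgroup.centralizer (D : Set G))))
    (hind : Cfsg.IsInducedBlock M (D ⊔ Subgroup.centralizer (D : Set G)) b B) (T : Subgroup G)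
    (hT : ∀ g : G, g ∈ T ↔ g ∈ Subgroup.normalizer (D : Set G) ∧
      Cfsg.StabilizesBlock (D ⊔ Subgroup.centralizer (D : Set G)) b g)
    (e : ℕ) (he : (D ⊔ Subgroup.centralizer (D : Set G)).relIndex T = e) (n : ℕ)
    (hn : e < p ^ (n + 1)) (c : ℕ) (hc : Nat.card (Subgroup.center D) = p ^ c)
    (χ : Cfsg.IrrCharacter G) (hχ : χ ∈ B) :
    Cfsg.blockHeight p B (χ : G → ℂ) + c ≤ n + d := by
  classical
  haveI : Fintype G := Fintype.ofFinite G
  have hLN : D ⊔ Subgroup.centralizer (D : Set G) ≤ Subgroup.normalizer (D : Set G) :=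
    sup_le Subgroup.le_normalizer (Subgroup.centralizer_le_normalizer _)
  obtain ⟨cD, hmax, hstT⟩ := exists_maxPair_of_root_aux hM B hB D hBD _ rfl b hind
  have hPe : Cfsg.IsBrauerPair p M D cD := hmax.1.1
  have hPp : IsPGroup p D := hPe.1
  have hcardD := card_defectGroup hM.2.1 p hM.2.2 B hB D hBD
  have hd : Cfsg.blockDefect p B = d := by
    rw [hDd] at hcardD
    exact (Nat.pow_right_injective hp.out.two_le hcardD).symm
  obtain ⟨ψ, hψ, h0ψ⟩ := exists_height_zero p B ⟨χ, hχ⟩
  -- the centre of `D`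
  set uz : ↥(Subgroup.center ↥D) → G := fun z => ((z : ↥D) : G) with huz
  have huzD : ∀ z, uz z ∈ D := fun z => (z : ↥D).2
  have hzD : ∀ z, Subgroup.zpowers (uz z) ≤ D := fun z => by
    rw [Subgroup.zpowers_le]; exact huzD z
  have huzpow : ∀ (z : ↥(Subgroup.center ↥D)) (j : ℕ), uz (z ^ j) = uz z ^ j := by
    intro z j
    rw [huz]
    simp only [Subgroup.coe_pow]
  have hord : ∀ z : ↥(Subgroup.center ↥D), orderOf (uz z) = orderOf z := by
    intro z
    rw [huz]
    simp only [Subgroup.orderOf_coe]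
  have hcen : ∀ (z : ↥(Subgroup.center ↥D)) (x : G), x ∈ D → x * uz z = uz z * x := by
    intro z x hx
    have h1 := Subgroup.mem_center_iff.mp z.2 ⟨x, hx⟩
    exact congrArg Subtype.val h1
  have hDC : ∀ z, D ≤ Subgroup.centralizer (Subgroup.zpowers (uz z) : Set G) := by
    intro z x hx
    rw [centralizer_zpowers_eq', Subgroup.mem_centralizer_singleton_iff]
    exact hcen z x hx
  have hup : ∀ z, ∃ k : ℕ, orderOf (uz z) = p ^ k := by
    intro z
    obtain ⟨k, hk⟩ := hPp ⟨uz z, huzD z⟩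
    have h1 : uz z ^ p ^ k = 1 := by
      have := congrArg (fun w : D => (w : G)) hk
      simpa using this
    obtain ⟨j, -, hj⟩ := (Nat.dvd_prime_pow hp.out).mp (orderOf_dvd_of_pow_eq_one h1)
    exact ⟨j, hj⟩
  -- the subpairs
  have hfu : ∀ z : ↥(Subgroup.center ↥D), ∃ f : Set (Cfsg.IrrCharacter
      (Subgroup.centralizer (Subgroup.zpowers (uz z) : Set G))),
      Cfsg.IsPBlock M f ∧ Cfsg.SubpairLE p M (Subgroup.zpowers (uz z)) f D cD := fun z =>
    (existsUnique_subpairLE hM D (Subgroup.zpowers (uz z)) cD hPe (hzD z)).exists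
  choose f hfB hfle using hfu
  set pair : ↥(Subgroup.center ↥D) → Cfsg.BrauerPairIdx G :=
    fun z => ⟨Subgroup.zpowers (uz z), f z⟩ with hpair
  have hBf : ∀ z, Cfsg.IsBrauerPairOf p M B (Subgroup.zpowers (uz z)) (f z) := fun z =>
    isBrauerPairOf_of_subpairLE hM D _ cD (f z) (hfle z) B hmax.1
  have hindz : ∀ z, Cfsg.IsInducedBlock M
      (Subgroup.centralizer (Subgroup.zpowers (uz z) : Set G)) (f z) B := fun z =>
    isInducedBlock_of_isBrauerPairOf hM B _ (zpowers_le_centralizer_zpowers (uz z)) (f z) (hBf z)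
  have hmaj : ∀ z, Cfsg.blockDefect p (f z) = Cfsg.blockDefect p B := by
    intro z
    have h1 := card_eq_of_le_centralizer hM B D (Subgroup.zpowers (uz z)) cD (f z) hmax (hzD z)
      (hfB z) (hfle z) (hDC z)
    rw [hcardD] at h1
    exact (Nat.pow_right_injective hp.out.two_le h1).symm
  -- the function to be summed
  set h := Cfsg.blockHeight p B (χ : G → ℂ) with hh
  set Fz : ↥(Subgroup.center ↥D) → ℝ := fun z =>
    ‖(p : ℂ) ^ Cfsg.blockDefect p B * contribP p (pair z) (χ : G → ℂ) (ψ : G → ℂ) (uz z)‖ with hFz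
  haveI hne : ∀ z : ↥(Subgroup.center ↥D), NeZero (orderOf z) := fun z => ⟨(orderOf_pos z).ne'⟩
  haveI : Fintype ↥(Subgroup.center ↥D) := Fintype.ofFinite _
  -- lower bound
  have hlow : (Fintype.card ↥(Subgroup.center ↥D) : ℝ) * (p : ℝ) ^ h ≤ ∑ z, Fz z := by
    apply b47_P Fz ((p : ℝ) ^ h)
    intro z
    haveI : Fintype (Subgroup.centralizer (Subgroup.zpowers (uz z) : Set G)) :=
      Fintype.ofFinite _
    haveI : Finite (Cfsg.IrrCharacter (Subgroup.centralizer (Subgroup.zpowers (uz z) : Set G))) :=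
      irr_finite
    haveI : Fintype (Cfsg.IrrCharacter
      (Subgroup.centralizer (Subgroup.zpowers (uz z) : Set G))) := Fintype.ofFinite _
    have hyH : uz z ∈ Subgroup.centralizer (Subgroup.zpowers (uz z) : Set G) :=
      zpowers_le_centralizer_zpowers (uz z) (Subgroup.mem_zpowers _)
    have hcomm : ∀ t : Subgroup.centralizer (Subgroup.zpowers (uz z) : Set G),
        uz z * (t : G) = (t : G) * uz z := by
      intro t
      exact Subgroup.mem_centralizer_iff.mp t.2 (uz z) (Subgroup.mem_zpowers _)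
    have h1 := sum_norm_contribution_ge hM B hB χ ψ hχ hψ h0ψ (uz z) (hup z) (orderOf z) (hord z)
      (Subgroup.centralizer (Subgroup.zpowers (uz z) : Set G)) hyH hcomm (f z) (hindz z) (hmaj z)
    rw [ZMod.card_units_eq_totient] at h1
    refine h1.trans (le_of_eq ?_)
    apply Finset.sum_congr rfl
    intro k _
    rw [hFz]
    simp only
    have hcop : (orderOf (uz z)).Coprime (k : ZMod (orderOf z)).val := by
      rw [hord z]
      exact (ZMod.val_coe_unit_coprime k).symm
    have hzp : Subgroup.zpowers (uz z ^ (k : ZMod (orderOf z)).val) = Subgroup.zpowers (uz z) :=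
      b47_p_zpowers_pow hcop
    have hpe : pair (z ^ (k : ZMod (orderOf z)).val) = pair z := by
      rw [hpair]
      simp only
      apply pair_eq_of_subpairLE hM D cD hPe _ _ _ (hzD _) _ _ (hfle _) (hfle z)
      rw [huzpow, hzp]
    rw [hpe, huzpow, hpair]
    simp only
    rw [contribP_eq]
  -- the fusion classes
  have hHT : D ⊔ Subgroup.centralizer (D : Set G) ≤ T := fun x hx =>
    (hT x).mpr ⟨hLN hx, stabilizesBlock_of_mem_self' _ b x hx⟩
  have hfus : ∀ z₀ : ↥(Subgroup.center ↥D), (Finset.univ.filter (fun z =>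
      ∃ g : G, g * uz z₀ * g⁻¹ = uz z ∧ conjPair g (pair z₀) = pair z)).card ≤ e := by
    intro z₀
    set Zset : Set G := Set.range uz with hZset
    have hfix : ∀ x ∈ D ⊔ Subgroup.centralizer (D : Set G), ∀ w ∈ Zset, x * w * x⁻¹ = w := by
      intro x hx w hw
      obtain ⟨z, rfl⟩ := hw
      have h1 : D ⊔ Subgroup.centralizer (D : Set G) ≤
          Subgroup.centralizer ({uz z} : Set G) := by
        apply sup_le
        · intro y hy
          rw [Subgroup.mem_centralizer_singleton_iff]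
          exact hcen z y hy
        · intro y hy
          rw [Subgroup.mem_centralizer_singleton_iff]
          exact (Subgroup.mem_centralizer_iff.mp hy (uz z) (huzD z)).symm
      have h2 := Subgroup.mem_centralizer_singleton_iff.mp (h1 hx)
      rw [h2, mul_inv_cancel_right]
    have horb := b47_orbit_card_le T (D ⊔ Subgroup.centralizer (D : Set G)) hHT Zset hfix (uz z₀)
      ⟨z₀, rfl⟩
    rw [he] at horb
    refine le_trans ?_ horb
    rw [← Fintype.card_coe, ← Nat.card_eq_fintype_card]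
    have huzinj : Function.Injective uz := by
      intro z z' hzz
      exact Subtype.ext (Subtype.ext hzz)
    refine Nat.card_le_card_of_injective
      (fun z : {z // z ∈ Finset.univ.filter (fun z =>
        ∃ g : G, g * uz z₀ * g⁻¹ = uz z ∧ conjPair g (pair z₀) = pair z)} =>
        (⟨uz z.1, ⟨z.1, rfl⟩, ?_⟩ : {w : G // w ∈ Zset ∧ ∃ t ∈ T, t * uz z₀ * t⁻¹ = w})) ?_
    · obtain ⟨g, hg, hconj⟩ := (Finset.mem_filter.mp z.2).2
      have hmapz : (Subgroup.zpowers (uz z₀)).map (MulAut.conj g).toMonoidHom =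
          Subgroup.zpowers (uz z.1) := by rw [map_conj_zpowers, hg]
      have hle' : Cfsg.SubpairLE p M ((Subgroup.zpowers (uz z₀)).map (MulAut.conj g).toMonoidHom)
          (Cfsg.conjBlock (Subgroup.zpowers (uz z₀)) g (f z₀)) D cD := by
        change Relation.ReflTransGen (Cfsg.NormalSubpairRel p M)
          (conjPair g ⟨Subgroup.zpowers (uz z₀), f z₀⟩) ⟨D, cD⟩
        have : conjPair g ⟨Subgroup.zpowers (uz z₀), f z₀⟩ = pair z.1 := hconj
        rw [this]
        exact hfle z.1
      have hPH' : D ≤ Subgroup.centralizer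
          (((Subgroup.zpowers (uz z₀)).map (MulAut.conj g).toMonoidHom : Subgroup G) : Set G) := by
        rw [hmapz]; exact hDC z.1
      obtain ⟨c', hc', hyN, hyst⟩ := exists_mul_of_conj_central hM B D cD hmax
        (Subgroup.zpowers (uz z₀)) (f z₀) (hfB z₀) (hfle z₀) (hDC z₀) g hle' hPH'
      refine ⟨c' * g, (hT _).mpr ⟨hyN, hstT _ hyN hyst⟩, ?_⟩
      rw [hmapz, centralizer_zpowers_eq', Subgroup.mem_centralizer_singleton_iff] at hc'
      have e1 : c' * g * uz z₀ * (c' * g)⁻¹ = c' * (g * uz z₀ * g⁻¹) * c'⁻¹ := by group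
      rw [e1, hg, hc', mul_inv_cancel_right]
    · intro z z' hzz
      have h1 := congrArg Subtype.val hzz
      exact Subtype.ext (huzinj h1)
  -- upper bound
  have hpair1 : ∀ z, (pair z).1 = Subgroup.zpowers (uz z) := fun z => rfl
  have hpair2 : ∀ z, Cfsg.IsPBlock M (pair z).2 := fun z => hfB z
  have hupχ := sum_contribP_le_of_fusion hM χ uz hup pair hpair1 hpair2 e
    (fun i₀ => by convert hfus i₀)
  have hupψ := sum_contribP_le_of_fusion hM ψ uz hup pair hpair1 hpair2 e
    (fun i₀ => by convert hfus i₀)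
  have hupp : ∑ z, Fz z ≤ (p : ℝ) ^ d * (e : ℝ) := by
    have h1 : ∀ z, Fz z ≤ (p : ℝ) ^ d *
        (((contribP p (pair z) (χ : G → ℂ) (χ : G → ℂ) (uz z)).re +
          (contribP p (pair z) (ψ : G → ℂ) (ψ : G → ℂ) (uz z)).re) / 2) := by
      intro z
      rw [hFz]
      simp only
      rw [norm_mul, norm_pow, Complex.norm_natCast, hd]
      exact mul_le_mul_of_nonneg_left (norm_contribP_le p (pair z) _ _ (uz z))
        (pow_nonneg (Nat.cast_nonneg p) d)
    refine (Finset.sum_le_sum (fun z _ => h1 z)).trans ?_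
    rw [← Finset.mul_sum]
    apply mul_le_mul_of_nonneg_left _ (pow_nonneg (Nat.cast_nonneg p) d)
    rw [← Finset.sum_div, Finset.sum_add_distrib]
    linarith
  -- conclusion
  have hcardZ : Fintype.card ↥(Subgroup.center ↥D) = p ^ c := by
    rw [← Nat.card_eq_fintype_card]; exact hc
  have hfin : p ^ (h + c) ≤ p ^ d * e := by
    have h1 := hlow.trans hupp
    rw [hcardZ, Nat.cast_pow] at h1
    have h2 : ((p ^ (h + c) : ℕ) : ℝ) ≤ ((p ^ d * e : ℕ) : ℝ) := by
      push_cast
      rw [pow_add, mul_comm]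
      exact h1
    exact_mod_cast h2
  exact b47_arith p h c d e n hp.out hfin hn

end Cfsg.Agent.Helper6.HtCen
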