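import Mathlib
import Cfsg.Prelude.Def_Characters
import Cfsg.Prelude.Def_Blocks
import Cfsg.Agent.S4430
import Cfsg.Agent.Helper6.FongReynolds3
import Cfsg.Agent.Helper6.DefectZeroBlock

/-!
# Height zero constituents of characters induced from a block with the same defect
-/

set_option autoImplicit false
set_option linter.style.haveILetI false

namespace Cfsg.Agent.Helper6

open scoped ComplexConjugate

universe u

variable {G : Type u} [Group G] {M : Ideal Cfsg.AlgInt}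

theorem induced_height_zero [Fintype G] (p : ℕ) [hp : Fact p.Prime]
    (hM : Cfsg.IsPModular p M) (H : Subgroup G) (b : Set (Cfsg.IrrCharacter H))
    (B : Set (Cfsg.IrrCharacter G)) (hind : Cfsg.IsInducedBlock M H b B)
    (hdef : Cfsg.blockDefect p b = Cfsg.blockDefect p B) (ζ : Cfsg.IrrCharacter H) (hζ : ζ ∈ b)
    (hζ0 : Cfsg.blockHeight p b (ζ : H → ℂ) = 0) :
    ∃ χ ∈ B, Cfsg.blockHeight p B (χ : G → ℂ) = 0 ∧
      ∃ a : ℕ, Cfsg.classInner (Cfsg.indFun H (ζ : H → ℂ)) (χ : G → ℂ) = (a : ℂ) ∧ ¬ p ∣ a := by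
  classical
  haveI : Fintype H := Fintype.ofFinite _
  haveI : Finite (Cfsg.IrrCharacter G) := irr_finite
  haveI : Fintype (Cfsg.IrrCharacter G) := Fintype.ofFinite _
  obtain ⟨⟨n, hn1, hn0, hnfac⟩, -⟩ := Cfsg.Agent.S4430.result p M hM H b B hind ζ hζ
  obtain ⟨φ, hφdef⟩ : ∃ φ : G → ℂ, φ = Cfsg.indFun H (ζ : H → ℂ) := ⟨_, rfl⟩
  rw [← hφdef] at hn1 hnfac ⊢
  have hζchar : Cfsg.IsCharacter H (ζ : H → ℂ) := IsIrrCharacter.isCharacter ζ.2
  have hφchar : Cfsg.IsCharacter G φ := by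
    rw [hφdef]
    exact isCharacter_indFun H _ hζchar
  have ha : ∀ χ : Cfsg.IrrCharacter G, ∃ a : ℕ, Cfsg.classInner φ (χ : G → ℂ) = a := fun χ =>
    classInner_char_char_nat hφchar (IsIrrCharacter.isCharacter χ.2)
  choose a ha using ha
  have hd : ∀ χ : Cfsg.IrrCharacter G, (Cfsg.charDegree (χ : G → ℂ) : ℂ) = (χ : G → ℂ) 1 :=
    fun χ => charDegree_cast_of_isCharacter (IsIrrCharacter.isCharacter χ.2)
  have hn : n = ∑ χ : Cfsg.IrrCharacter G,
      if χ ∈ B then a χ * Cfsg.charDegree (χ : G → ℂ) else 0 := by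
    have h1 : (n : ℂ) = ((∑ χ : Cfsg.IrrCharacter G,
        if χ ∈ B then a χ * Cfsg.charDegree (χ : G → ℂ) else 0 : ℕ) : ℂ) := by
      rw [← hn1, blockPart_apply, finsum_mem_eq_sum_ite]
      push_cast
      apply Finset.sum_congr rfl
      intro χ _
      by_cases hχ : χ ∈ B
      · rw [if_pos hχ, if_pos hχ, ha χ, hd χ]
      · rw [if_neg hχ, if_neg hχ]
    exact_mod_cast h1
  -- valuations
  obtain ⟨fB, hfB⟩ : ∃ f : Cfsg.IrrCharacter G → ℕ,
      f = fun χ : Cfsg.IrrCharacter G => (Cfsg.charDegree (χ : G → ℂ)).factorization p := ⟨_, rfl⟩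
  obtain ⟨fb, hfb⟩ : ∃ f : Cfsg.IrrCharacter H → ℕ,
      f = fun χ : Cfsg.IrrCharacter H => (Cfsg.charDegree (χ : H → ℂ)).factorization p := ⟨_, rfl⟩
  obtain ⟨dB, hdB⟩ : ∃ d : ℕ, d = sInf (fB '' B) := ⟨_, rfl⟩
  obtain ⟨db, hdb⟩ : ∃ d : ℕ, d = sInf (fb '' b) := ⟨_, rfl⟩
  have hidx0 : H.index ≠ 0 := Subgroup.index_ne_zero_of_finite
  have hdegH0 : ∀ ψ : Cfsg.IrrCharacter H, Cfsg.charDegree (ψ : H → ℂ) ≠ 0 := by
    intro ψ h0
    have h1 := charDegree_cast_of_isCharacter (IsIrrCharacter.isCharacter ψ.2)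
    rw [h0, Nat.cast_zero] at h1
    exact IsIrrCharacter.apply_one_ne_zero ψ.2 h1.symm
  have hdegG0 : ∀ χ : Cfsg.IrrCharacter G, Cfsg.charDegree (χ : G → ℂ) ≠ 0 := by
    intro χ h0
    have h1 := hd χ
    rw [h0, Nat.cast_zero] at h1
    exact IsIrrCharacter.apply_one_ne_zero χ.2 h1.symm
  have hfbH : ∀ ψ : Cfsg.IrrCharacter H, fb ψ ≤ (Nat.card H).factorization p := by
    intro ψ
    rw [hfb]
    exact (Nat.factorization_le_iff_dvd (hdegH0 ψ) Nat.card_pos.ne').mpr
      (charDegree_dvd_card ψ.2) p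
  have hfBG : ∀ χ : Cfsg.IrrCharacter G, fB χ ≤ (Nat.card G).factorization p := by
    intro χ
    rw [hfB]
    exact (Nat.factorization_le_iff_dvd (hdegG0 χ) Nat.card_pos.ne').mpr
      (charDegree_dvd_card χ.2) p
  have hdb_le : ∀ ψ ∈ b, db ≤ fb ψ := by
    intro ψ hψ
    rw [hdb]
    exact Nat.sInf_le ⟨ψ, hψ, rfl⟩
  have hdB_le : ∀ χ ∈ B, dB ≤ fB χ := by
    intro χ hχ
    rw [hdB]
    exact Nat.sInf_le ⟨χ, hχ, rfl⟩
  obtain ⟨χ₀, hχ₀def⟩ := hind.2.1
  have hχ₀ : χ₀ ∈ B := by rw [hχ₀def]; exact mem_blockOf_self hM.2.1 χ₀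
  have hcard : (Nat.card G).factorization p =
      H.index.factorization p + (Nat.card H).factorization p := by
    rw [← H.index_mul_card, Nat.factorization_mul hidx0 Nat.card_pos.ne']
    rfl
  have hφfac : (Cfsg.charDegree φ).factorization p = H.index.factorization p + fb ζ := by
    rw [hφdef, charDegree_indFun H (ζ : H → ℂ) hζchar, Nat.factorization_mul hidx0 (hdegH0 ζ), hfb]
    rfl
  have hζ0' : fb ζ - db = 0 := by
    have := hζ0
    unfold Cfsg.blockHeight at this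
    rw [hdb, hfb]
    exact this
  have hdef' : (Nat.card H).factorization p - db = (Nat.card G).factorization p - dB := by
    have := hdef
    unfold Cfsg.blockDefect at this
    rw [hdb, hdB, hfb, hfB]
    exact this
  have hkey : (Cfsg.charDegree φ).factorization p = dB := by
    have h1 := hdb_le ζ hζ
    have h2 := hfbH ζ
    have h3 := hdB_le χ₀ hχ₀
    have h4 := hfBG χ₀
    omega
  by_contra hcon
  push Not at hcon
  have hdvd : p ^ (dB + 1) ∣ n := by
    rw [hn]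
    apply Finset.dvd_sum
    intro χ _
    by_cases hχ : χ ∈ B
    · rw [if_pos hχ]
      have hpow : p ^ fB χ ∣ Cfsg.charDegree (χ : G → ℂ) := by
        rw [hfB]
        exact Nat.ordProj_dvd _ p
      by_cases hh : Cfsg.blockHeight p B (χ : G → ℂ) = 0
      · have h1 := hcon χ hχ hh (a χ) (ha χ)
        have h2 : p ^ dB ∣ Cfsg.charDegree (χ : G → ℂ) :=
          (pow_dvd_pow p (hdB_le χ hχ)).trans hpow
        rw [pow_succ, mul_comm (p ^ dB) p]
        exact mul_dvd_mul h1 h2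
      · have h1 : dB + 1 ≤ fB χ := by
          have : fB χ - dB ≠ 0 := by
            intro h0
            apply hh
            unfold Cfsg.blockHeight
            rw [hdB, hfB] at h0
            exact h0
          omega
        exact Dvd.dvd.mul_left ((pow_dvd_pow p h1).trans hpow) _
    · rw [if_neg hχ]
      exact dvd_zero _
  have hle := (Nat.Prime.pow_dvd_iff_le_factorization hp.out hn0).mp hdvd
  omega

end Cfsg.Agent.Helper6
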