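import Mathlib
import Cfsg.Prelude.Def_Characters
import Cfsg.Prelude.Def_Blocks
import Cfsg.Agent.Helper6.ClassMult
import Cfsg.Agent.Helper6.ColumnOrth
import Cfsg.Agent.Helper6.SmallDegree
import Cfsg.Agent.Helper6.OddReal
import Cfsg.Agent.Helper6.DegreeDvd
import Cfsg.Agent.Helper6.IrrDegree

/-!
# Involutions inverting no element of a `p`-subgroup force large character degrees
-/

set_option autoImplicit false
set_option linter.style.haveILetI false

namespace Cfsg.Agent.Helper6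

open Module Representation
open scoped ComplexConjugate Pointwise

universe u v

variable {G : Type u} [Group G]

theorem IsIrrCharacter.isIntegral_apply [Finite G] {χ : G → ℂ} (hχ : Cfsg.IsIrrCharacter G χ)
    (g : G) : IsIntegral ℤ (χ g) := by
  obtain ⟨n, ρ, -, rfl⟩ := hχ
  exact isIntegral_char ρ g

theorem involution_not_inverting_degree [Fintype G] (p : ℕ) [hp : Fact p.Prime] (x : G)
    (hx : orderOf x = 2) (P : Subgroup G) (c : ℕ) (hP : Nat.card P = p ^ c)
    (hinv : ∀ g : G, IsConj x g → ∀ z ∈ P, z ≠ 1 → g * z * g⁻¹ ≠ z⁻¹) (a : ℕ)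
    (ha : (Nat.card (Subgroup.centralizer ({x} : Set G))).factorization p = a) :
    ∃ χ : Cfsg.IrrCharacter G, p ^ (c - a) ∣ Cfsg.charDegree (χ : G → ℂ) := by
  classical
  haveI : Finite (Cfsg.IrrCharacter G) := irr_finite
  haveI : Fintype (Cfsg.IrrCharacter G) := Fintype.ofFinite _
  haveI : Fintype P := Fintype.ofFinite _
  by_contra hcon
  push Not at hcon
  have hca : a < c := by
    by_contra h
    push Not at h
    have h0 : c - a = 0 := Nat.sub_eq_zero_of_le h
    exact hcon ⟨fun _ => 1, isIrrCharacter_one⟩ (by rw [h0, pow_zero]; exact one_dvd _)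
  obtain ⟨e, rfl⟩ : ∃ e, c = a + e + 1 := ⟨c - a - 1, by omega⟩
  have hcae : a + e + 1 - a = e + 1 := by omega
  rw [hcae] at hcon
  have hdeg : ∀ χ : Cfsg.IrrCharacter G, ∃ d : ℕ, (χ : G → ℂ) 1 = d ∧ d ∣ Nat.card G ∧ 0 < d ∧
      Cfsg.charDegree (χ : G → ℂ) = d := by
    intro χ
    obtain ⟨d, h1, h2, h3⟩ := IsIrrCharacter.degree_dvd_card χ.2
    refine ⟨d, h1, h2, h3, ?_⟩
    unfold Cfsg.charDegree
    rw [h1]
    simp
  choose d hd1 hddvd hdpos hdcd using hdeg
  have hG0 : Nat.card G ≠ 0 := Nat.card_pos.ne'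
  set D := ordCompl[p] (Nat.card G) * p ^ e with hD
  have hdD : ∀ χ, d χ ∣ D := by
    intro χ
    have h1 : ¬ p ^ (e + 1) ∣ d χ := by rw [← hdcd]; exact hcon χ
    have h2 : (d χ).factorization p ≤ e := by
      by_contra hlt
      push Not at hlt
      exact h1 ((hp.out.pow_dvd_iff_le_factorization (hdpos χ).ne').mpr hlt)
    rw [← Nat.ordProj_mul_ordCompl_eq_self (d χ) p, hD, mul_comm]
    exact Nat.mul_dvd_mul (Nat.ordCompl_dvd_ordCompl_of_dvd (hddvd χ) p) (pow_dvd_pow p h2)
  choose k hk using hdD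
  have hn : ∀ χ : Cfsg.IrrCharacter G, ∃ n : ℕ,
      Cfsg.classInner (fun z : P => (χ : G → ℂ) z) (fun _ => (1 : ℂ)) = n := fun χ =>
    classInner_char_char_nat (IsCharacter.restrict P (IsIrrCharacter.isCharacter χ.2))
      isCharacter_one
  choose n hn using hn
  have hP0 : (Nat.card P : ℂ) ≠ 0 := Nat.cast_ne_zero.mpr Nat.card_pos.ne'
  have hsumP : ∀ χ : Cfsg.IrrCharacter G,
      ∑ z : P, conj ((χ : G → ℂ) z) = (Nat.card P : ℂ) * n χ := by
    intro χ
    have h := hn χ
    rw [classInner_def] at h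
    simp only [map_one, mul_one] at h
    have h2 : ∑ z : P, (χ : G → ℂ) z = (Nat.card P : ℂ) * n χ := by
      rw [← h, ← mul_assoc, mul_inv_cancel₀ hP0, one_mul]
    rw [← map_sum, h2]
    simp
  have hxx : x * x = 1 := by
    rw [← pow_two, ← hx, pow_orderOf_eq_one]
  have hxinv : x⁻¹ = x := inv_eq_of_mul_eq_one_right hxx
  set φ : G → ℂ := fun z => ∑ χ : Cfsg.IrrCharacter G,
    (χ : G → ℂ) x * (χ : G → ℂ) x * conj ((χ : G → ℂ) z) / (χ : G → ℂ) 1 with hφ
  have hφ0 : ∀ z ∈ P, z ≠ 1 → φ z = 0 := by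
    intro z hz hz1
    have hcount := class_mult_count x x z
    have hzero : ∑ g ∈ classFinset x, ∑ h ∈ classFinset x,
        (if g * h = z then (1 : ℂ) else 0) = 0 := by
      apply Finset.sum_eq_zero
      intro g hg
      apply Finset.sum_eq_zero
      intro h hh
      rw [if_neg]
      intro hgh
      rw [mem_classFinset] at hg hh
      have hinvol : ∀ y : G, IsConj x y → y * y = 1 := by
        intro y hy
        obtain ⟨b, hb⟩ := isConj_iff.mp hy
        rw [← hb]
        calc b * x * b⁻¹ * (b * x * b⁻¹) = b * (x * x) * b⁻¹ := by group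
          _ = 1 := by rw [hxx]; group
      have hg2 := hinvol g hg
      have hh2 := hinvol h hh
      have hginv : g⁻¹ = g := inv_eq_of_mul_eq_one_right hg2
      have hhinv : h⁻¹ = h := inv_eq_of_mul_eq_one_right hh2
      apply hinv g hg z hz hz1
      rw [← hgh, mul_inv_rev, hginv, hhinv]
      calc g * (g * h) * g = (g * g) * h * g := by group
        _ = h * g := by rw [hg2, one_mul]
    rw [hzero] at hcount
    have hK : ((classFinset x).card : ℂ) ≠ 0 := by
      have : x ∈ classFinset x := (mem_classFinset x x).mpr (IsConj.refl x)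
      exact Nat.cast_ne_zero.mpr (Finset.card_ne_zero_of_mem this)
    have hGc : (Nat.card G : ℂ) ≠ 0 := Nat.cast_ne_zero.mpr hG0
    have h3 := (mul_eq_zero.mp hcount.symm).resolve_left (by
      apply div_ne_zero (mul_ne_zero hK hK) hGc)
    exact h3
  have hφ1 : φ 1 = (Nat.card (Subgroup.centralizer ({x} : Set G)) : ℂ) := by
    have hcol := column_orthogonality_aux x x
    rw [if_pos (IsConj.refl x)] at hcol
    rw [← hcol]
    apply Finset.sum_congr rfl
    intro χ _
    have hreal : conj ((χ : G → ℂ) x) = (χ : G → ℂ) x := by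
      rw [← IsCharacter.inv_eq_conj (IsIrrCharacter.isCharacter χ.2) x, hxinv]
    rw [hreal]
    have h1 : conj ((χ : G → ℂ) 1) = (χ : G → ℂ) 1 := by rw [hd1]; simp
    rw [h1]
    have h10 : (χ : G → ℂ) 1 ≠ 0 := IsIrrCharacter.apply_one_ne_zero χ.2
    field_simp
  have hsum1 : ∑ z : P, φ z = (Nat.card (Subgroup.centralizer ({x} : Set G)) : ℂ) := by
    rw [← hφ1]
    rw [Finset.sum_eq_single (1 : P)]
    · rfl
    · intro z _ hz
      exact hφ0 z z.2 (fun h => hz (Subtype.ext h))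
    · intro h
      exact absurd (Finset.mem_univ _) h
  have hsum2 : ∑ z : P, φ z = (Nat.card P : ℂ) * ∑ χ : Cfsg.IrrCharacter G,
      (χ : G → ℂ) x * (χ : G → ℂ) x * (n χ : ℂ) / (d χ : ℂ) := by
    simp only [hφ]
    rw [Finset.sum_comm, Finset.mul_sum]
    apply Finset.sum_congr rfl
    intro χ _
    have : ∀ z : P, (χ : G → ℂ) x * (χ : G → ℂ) x * conj ((χ : G → ℂ) z) / (χ : G → ℂ) 1 =
        ((χ : G → ℂ) x * (χ : G → ℂ) x / (χ : G → ℂ) 1) * conj ((χ : G → ℂ) z) := by
      intro z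
      ring
    rw [Finset.sum_congr rfl (fun z _ => this z), ← Finset.mul_sum, hsumP, hd1]
    ring
  -- the integrality argument
  set A : ℂ := ∑ χ : Cfsg.IrrCharacter G,
    (χ : G → ℂ) x * (χ : G → ℂ) x * ((n χ * k χ : ℕ) : ℂ) with hA
  have hAint : IsIntegral ℤ A := by
    apply IsIntegral.sum
    intro χ _
    exact IsIntegral.mul (IsIntegral.mul (IsIrrCharacter.isIntegral_apply χ.2 x)
      (IsIrrCharacter.isIntegral_apply χ.2 x)) (isIntegral_natCast _)
  have hmain : ((D * Nat.card (Subgroup.centralizer ({x} : Set G)) : ℕ) : ℂ) =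
      ((p ^ (a + e + 1) : ℕ) : ℂ) * A := by
    rw [Nat.cast_mul, ← hsum1, hsum2, ← hP, hA, Finset.mul_sum, Finset.mul_sum, Finset.mul_sum]
    apply Finset.sum_congr rfl
    intro χ _
    have hd0 : (d χ : ℂ) ≠ 0 := Nat.cast_ne_zero.mpr (hdpos χ).ne'
    have hDk : (D : ℂ) = (d χ : ℂ) * (k χ : ℂ) := by rw [hk χ]; push_cast; ring
    rw [hDk]
    push_cast
    field_simp
  have hdvd := nat_dvd_of_isIntegral _ _ (pow_ne_zero _ hp.out.ne_zero) A hAint hmain
  have hcop : Nat.Coprime (p ^ (a + e + 1)) (ordCompl[p] (Nat.card G)) :=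
    Nat.Coprime.pow_left _ (Nat.coprime_ordCompl hp.out hG0)
  rw [hD, mul_assoc] at hdvd
  have h2 := hcop.dvd_of_dvd_mul_left hdvd
  have h3 : p ^ (a + 1) ∣ Nat.card (Subgroup.centralizer ({x} : Set G)) := by
    have : p ^ (a + e + 1) = p ^ e * p ^ (a + 1) := by rw [← pow_add]; congr 1; omega
    rw [this] at h2
    exact Nat.dvd_of_mul_dvd_mul_left (pow_pos hp.out.pos e) h2
  have h4 := (hp.out.pow_dvd_iff_le_factorization Nat.card_pos.ne').mp h3
  omega

end Cfsg.Agent.Helper6
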