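import Mathlib
import Cfsg.Prelude.Def_Transfer
import Cfsg.Agent.Helper1.Tate
import Cfsg.Agent.Helper1.PGroup

/-!
# Isaacs–Smith, group-theoretic part (for S4888)

If every linear character of a Sylow `p`-subgroup extends to the whole group, the group has a
normal `p`-complement (via Tate's theorem).
-/

set_option autoImplicit false
set_option linter.style.haveILetI false

namespace Cfsg.Agent.Helper6

universe u

variable {G : Type u} [Group G]

/-- if every linear character of a Sylow `p`-subgroup extends to `G`, then `G` has a normal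
`p`-complement -/
theorem hasNormalPComplement_of_linear_extend [Finite G] {p : ℕ} [hp : Fact p.Prime]
    (P : Sylow p G)
    (hext : ∀ μ : (P : Subgroup G) →* ℂˣ, ∃ lam : G →* ℂˣ,
      ∀ x : (P : Subgroup G), lam (x : G) = μ x) :
    Cfsg.HasNormalPComplement p G := by
  classical
  obtain ⟨a, ha⟩ := IsPGroup.iff_card.1 P.2
  obtain ⟨N, hN⟩ : ∃ N : Subgroup G, N =
      ⨅ lam : {lam : G →* ℂˣ // ∀ g, lam g ^ (p ^ a) = 1}, (lam : G →* ℂˣ).ker := ⟨_, rfl⟩
  haveI hNn : N.Normal := by
    rw [hN]
    exact Subgroup.normal_iInf_normal (fun lam => inferInstance)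
  have hmemN : ∀ g, g ∈ N ↔ ∀ lam : G →* ℂˣ, (∀ g, lam g ^ (p ^ a) = 1) → lam g = 1 := by
    intro g
    rw [hN, Subgroup.mem_iInf]
    constructor
    · intro h lam hlam
      exact MonoidHom.mem_ker.mp (h ⟨lam, hlam⟩)
    · intro h lam
      exact MonoidHom.mem_ker.mpr (h lam.1 lam.2)
  have hq : IsPGroup p (G ⧸ N) := by
    intro y
    obtain ⟨g, rfl⟩ := QuotientGroup.mk_surjective y
    refine ⟨a, ?_⟩
    rw [← QuotientGroup.mk_pow, QuotientGroup.eq_one_iff, hmemN]
    intro lam hlam
    rw [map_pow]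
    exact hlam g
  obtain ⟨k, hk⟩ := IsPGroup.iff_card.1 hq
  have hidx : N.index = p ^ k := by
    rw [Subgroup.index_eq_card]
    exact hk
  have hcop : Nat.Coprime (p ^ a) (P : Subgroup G).index :=
    Nat.Coprime.pow_left a ((Nat.Prime.coprime_iff_not_dvd hp.out).2 P.not_dvd_index)
  have hcard : p ^ a * (P : Subgroup G).index = Nat.card G := by
    rw [← ha]
    exact (P : Subgroup G).card_mul_index
  have hNP : N ⊓ (P : Subgroup G) ≤
      (frattini (P : Subgroup G)).map (P : Subgroup G).subtype := by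
    intro x hx
    obtain ⟨hxN, hxP⟩ := Subgroup.mem_inf.mp hx
    refine ⟨⟨x, hxP⟩, ?_, rfl⟩
    apply Helper1.IsPGroup.commutator_le_frattini P.2
    by_contra hnot
    have hne : (Abelianization.of (⟨x, hxP⟩ : (P : Subgroup G)) :
        Abelianization (P : Subgroup G)) ≠ 1 := by
      intro h1
      apply hnot
      exact (QuotientGroup.eq_one_iff _).mp h1
    haveI : NeZero ((Monoid.exponent (Abelianization (P : Subgroup G)) : ℕ) : ℂ) := by
      constructor
      have : Monoid.exponent (Abelianization (P : Subgroup G)) ≠ 0 :=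
        Monoid.exponent_ne_zero_of_finite
      exact_mod_cast this
    obtain ⟨φ, hφ⟩ := CommGroup.exists_apply_ne_one_of_hasEnoughRootsOfUnity
      (Abelianization (P : Subgroup G)) ℂ hne
    obtain ⟨lam, hlam⟩ := hext (φ.comp Abelianization.of)
    obtain ⟨t, ht1, ht0⟩ := Nat.chineseRemainder hcop 1 0
    have hmt : (P : Subgroup G).index ∣ t := (Nat.modEq_zero_iff_dvd).mp ht0
    have hGt : Nat.card G ∣ t * p ^ a := by
      rw [← hcard, mul_comm]
      exact Nat.mul_dvd_mul hmt (dvd_refl _)
    have hlam' : ∀ g, (lam ^ t) g ^ (p ^ a) = 1 := by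
      intro g
      rw [MonoidHom.pow_apply, ← pow_mul]
      obtain ⟨c, hc⟩ := hGt
      rw [hc, pow_mul, ← map_pow, pow_card_eq_one', map_one, one_pow]
    have h1 := (hmemN x).mp hxN (lam ^ t) hlam'
    rw [MonoidHom.pow_apply] at h1
    have h2 := hlam ⟨x, hxP⟩
    simp only at h2
    rw [h2] at h1
    have hxa : ((φ.comp Abelianization.of) (⟨x, hxP⟩ : (P : Subgroup G))) ^ (p ^ a) = 1 := by
      rw [← map_pow, ← ha, pow_card_eq_one', map_one]
    have hdvd := orderOf_dvd_of_pow_eq_one hxa
    have h3 : ((φ.comp Abelianization.of) (⟨x, hxP⟩ : (P : Subgroup G))) ^ t =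
        ((φ.comp Abelianization.of) (⟨x, hxP⟩ : (P : Subgroup G))) ^ 1 :=
      (pow_eq_pow_iff_modEq).mpr (Nat.ModEq.of_dvd hdvd ht1)
    rw [h3, pow_one] at h1
    exact hφ h1
  exact Helper1.hasNormalPComplement_of_normal_ppow_index N hidx
    (Helper1.tate_normal_pcomplement P N hNP)

end Cfsg.Agent.Helper6
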