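import Mathlib
import Cfsg.Prelude.Def_Characters
import Cfsg.Prelude.Def_Blocks
import Cfsg.Agent.Helper6.BlockEquiv
import Cfsg.Agent.Helper6.BlockUnion
import Cfsg.Agent.Helper6.Osima1
import Cfsg.Agent.Helper6.Linear

/-!
# Isaacs–Smith, linear characters of the principal block (for S4888)

The linear characters of the principal block that are trivial on a Sylow `p`-subgroup form a group
of order prime to `p`.
-/

set_option autoImplicit false
set_option linter.style.haveILetI false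

namespace Cfsg.Agent.Helper6

open scoped ComplexConjugate

universe u

variable {G : Type u} [Group G] {M : Ideal Cfsg.AlgInt}

theorem isIntegral_hom_units_apply [Finite G] (lam : G →* ℂˣ) (g : G) :
    IsIntegral ℤ ((lam g : ℂˣ) : ℂ) := by
  apply IsIntegral.of_pow (n := Nat.card G) Nat.card_pos
  rw [← Units.val_pow_eq_pow_val, ← map_pow, pow_card_eq_one', map_one, Units.val_one]
  exact isIntegral_one

/-- being in the principal block, for a linear character -/
theorem sameBlock_one_hom_iff (lam : G →* ℂˣ) :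
    Cfsg.SameBlock M (fun _ : G => (1 : ℂ)) (fun g => ((lam g : ℂˣ) : ℂ)) ↔
      ∀ g : G, Cfsg.MemLocalIdeal M
        (((Subgroup.centralizer ({g} : Set G)).index : ℂ) * (1 - ((lam g : ℂˣ) : ℂ))) := by
  unfold Cfsg.SameBlock Cfsg.centralChar
  apply forall_congr'
  intro g
  have e : ((Subgroup.centralizer ({g} : Set G)).index : ℂ) * 1 / 1 -
      ((Subgroup.centralizer ({g} : Set G)).index : ℂ) * ((lam g : ℂˣ) : ℂ) /
        ((lam 1 : ℂˣ) : ℂ) =
      ((Subgroup.centralizer ({g} : Set G)).index : ℂ) * (1 - ((lam g : ℂˣ) : ℂ)) := by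
    rw [map_one, Units.val_one]
    ring
  rw [e]

theorem sameBlock_one_hom_mul [Finite G] (hM : M.IsMaximal) (lam₁ lam₂ : G →* ℂˣ)
    (h₁ : Cfsg.SameBlock M (fun _ : G => (1 : ℂ)) (fun g => ((lam₁ g : ℂˣ) : ℂ)))
    (h₂ : Cfsg.SameBlock M (fun _ : G => (1 : ℂ)) (fun g => ((lam₂ g : ℂˣ) : ℂ))) :
    Cfsg.SameBlock M (fun _ : G => (1 : ℂ)) (fun g => (((lam₁ * lam₂) g : ℂˣ) : ℂ)) := by
  rw [sameBlock_one_hom_iff] at h₁ h₂ ⊢
  intro g
  have e : ((Subgroup.centralizer ({g} : Set G)).index : ℂ) *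
      (1 - (((lam₁ * lam₂) g : ℂˣ) : ℂ)) =
      ((Subgroup.centralizer ({g} : Set G)).index : ℂ) * (1 - ((lam₁ g : ℂˣ) : ℂ)) +
      ((lam₁ g : ℂˣ) : ℂ) *
        (((Subgroup.centralizer ({g} : Set G)).index : ℂ) * (1 - ((lam₂ g : ℂˣ) : ℂ))) := by
    rw [MonoidHom.mul_apply, Units.val_mul]
    ring
  rw [e]
  exact MemLocalIdeal.add hM (h₁ g)
    (MemLocalIdeal.mul_left hM (memLocalRing_of_isIntegral hM (isIntegral_hom_units_apply lam₁ g))
      (h₂ g))

theorem sameBlock_one_hom_inv [Finite G] (hM : M.IsMaximal) (lam : G →* ℂˣ)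
    (h : Cfsg.SameBlock M (fun _ : G => (1 : ℂ)) (fun g => ((lam g : ℂˣ) : ℂ))) :
    Cfsg.SameBlock M (fun _ : G => (1 : ℂ)) (fun g => (((lam⁻¹) g : ℂˣ) : ℂ)) := by
  rw [sameBlock_one_hom_iff] at h ⊢
  intro g
  have e : ((Subgroup.centralizer ({g} : Set G)).index : ℂ) *
      (1 - (((lam⁻¹) g : ℂˣ) : ℂ)) =
      (-(((lam⁻¹) g : ℂˣ) : ℂ)) *
        (((Subgroup.centralizer ({g} : Set G)).index : ℂ) * (1 - ((lam g : ℂˣ) : ℂ))) := by
    have h1 : (((lam⁻¹) g : ℂˣ) : ℂ) * ((lam g : ℂˣ) : ℂ) = 1 := by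
      rw [MonoidHom.inv_apply, ← Units.val_mul, inv_mul_cancel, Units.val_one]
    linear_combination (-((Subgroup.centralizer ({g} : Set G)).index : ℂ)) * h1
  rw [e]
  apply MemLocalIdeal.mul_left hM _ (h g)
  apply memLocalRing_of_isIntegral hM
  exact (isIntegral_hom_units_apply lam⁻¹ g).neg

/-- the linear characters of the principal block that are trivial on `P` -/
noncomputable def principalLinearKer [Finite G] (hM : M.IsMaximal) (P : Subgroup G) :
    Subgroup (G →* ℂˣ) where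
  carrier := {lam | Cfsg.SameBlock M (fun _ : G => (1 : ℂ)) (fun g => ((lam g : ℂˣ) : ℂ)) ∧
    ∀ x ∈ P, lam x = 1}
  one_mem' := by
    refine ⟨?_, fun x _ => rfl⟩
    have : (fun g : G => (((1 : G →* ℂˣ) g : ℂˣ) : ℂ)) = fun _ : G => (1 : ℂ) := by
      ext g
      rw [MonoidHom.one_apply, Units.val_one]
    rw [this]
    exact sameBlock_refl hM _
  mul_mem' := by
    rintro a b ⟨ha, ha'⟩ ⟨hb, hb'⟩
    refine ⟨sameBlock_one_hom_mul hM a b ha hb, ?_⟩
    intro x hx
    rw [MonoidHom.mul_apply, ha' x hx, hb' x hx, one_mul]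
  inv_mem' := by
    rintro a ⟨ha, ha'⟩
    refine ⟨sameBlock_one_hom_inv hM a ha, ?_⟩
    intro x hx
    rw [MonoidHom.inv_apply, ha' x hx, inv_one]

theorem mem_principalLinearKer [Finite G] (hM : M.IsMaximal) (P : Subgroup G) (lam : G →* ℂˣ) :
    lam ∈ principalLinearKer hM P ↔
      Cfsg.SameBlock M (fun _ : G => (1 : ℂ)) (fun g => ((lam g : ℂˣ) : ℂ)) ∧
        ∀ x ∈ P, lam x = 1 := Iff.rfl

theorem finite_hom_units [Finite G] : Finite (G →* ℂˣ) := by
  apply Nat.finite_of_card_ne_zero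
  rw [card_hom_units]
  exact Subgroup.index_ne_zero_of_finite

/-- a homomorphism to `ℂˣ` of order dividing `p` that is trivial on a Sylow `p`-subgroup is
trivial -/
theorem hom_eq_one_of_pow_of_sylow [Finite G] {p : ℕ} [hp : Fact p.Prime] (P : Sylow p G)
    (lam : G →* ℂˣ) (hpow : lam ^ p = 1) (hP : ∀ x ∈ (P : Subgroup G), lam x = 1) : lam = 1 := by
  have hq : IsPGroup p (G ⧸ lam.ker) := by
    intro y
    obtain ⟨g, rfl⟩ := QuotientGroup.mk_surjective y
    refine ⟨1, ?_⟩
    rw [pow_one, ← QuotientGroup.mk_pow, QuotientGroup.eq_one_iff, MonoidHom.mem_ker, map_pow,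
      ← MonoidHom.pow_apply, hpow, MonoidHom.one_apply]
  obtain ⟨k, hk⟩ := IsPGroup.iff_card.1 hq
  have hidx : lam.ker.index = p ^ k := by
    rw [Subgroup.index_eq_card]
    exact hk
  have hle : (P : Subgroup G) ≤ lam.ker := fun x hx => MonoidHom.mem_ker.mpr (hP x hx)
  have hdvd : lam.ker.index ∣ (P : Subgroup G).index := Subgroup.index_dvd_of_le hle
  have hk0 : k = 0 := by
    by_contra hk0
    apply P.not_dvd_index
    apply dvd_trans _ hdvd
    rw [hidx]
    exact dvd_pow_self p hk0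
  rw [hk0, pow_zero, Subgroup.index_eq_one] at hidx
  exact MonoidHom.ker_eq_top_iff.mp hidx

/-- the group of linear characters of the principal block trivial on a Sylow `p`-subgroup has
order prime to `p` -/
theorem not_dvd_card_principalLinearKer [Finite G] {p : ℕ} [hp : Fact p.Prime]
    (hM : M.IsMaximal) (P : Sylow p G) :
    ¬ p ∣ Nat.card (principalLinearKer hM (P : Subgroup G)) := by
  intro hdvd
  haveI : Finite (G →* ℂˣ) := finite_hom_units
  obtain ⟨x, hx⟩ := exists_prime_orderOf_dvd_card' p hdvd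
  have hxp : x ^ p = 1 := by
    have := pow_orderOf_eq_one x
    rwa [hx] at this
  have hlam : (x : G →* ℂˣ) ^ p = 1 := by
    have := congrArg (fun y : principalLinearKer hM (P : Subgroup G) => (y : G →* ℂˣ)) hxp
    simpa using this
  have h1 : (x : G →* ℂˣ) = 1 :=
    hom_eq_one_of_pow_of_sylow P (x : G →* ℂˣ) hlam ((mem_principalLinearKer hM _ _).mp x.2).2
  have hx1 : x = 1 := Subtype.ext h1
  rw [hx1, orderOf_one] at hx
  exact hp.out.one_lt.ne hx

end Cfsg.Agent.Helper6
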