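import Mathlib
import Cfsg.Prelude.Def_Characters
import Cfsg.Prelude.Def_Blocks
import Cfsg.Agent.Helper6.IsaacsSmithB
import Cfsg.Agent.Helper6.BlockOrth
import Cfsg.Agent.Helper6.Induced
import Cfsg.Agent.Helper6.BlockPart
import Cfsg.Agent.Helper6.PrincipalDefect

/-!
# Isaacs–Smith, the counting argument (for S4888)

If all characters of `p'`-degree in the principal block are linear, every linear character of a
Sylow `p`-subgroup extends to the group.
-/

set_option autoImplicit false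
set_option linter.style.haveILetI false

namespace Cfsg.Agent.Helper6

open scoped ComplexConjugate

universe u

variable {G : Type u} [Group G] {M : Ideal Cfsg.AlgInt}

set_option maxHeartbeats 1000000 in
/-- if the `p'`-degree characters of the principal block are all linear, every linear character of
a Sylow `p`-subgroup extends to `G` -/
theorem exists_linear_extension_of_principal_linear [Finite G] {p : ℕ} [hp : Fact p.Prime]
    (hM : Cfsg.IsPModular p M) (P : Sylow p G)
    (hlin : ∀ χ : Cfsg.IrrCharacter G, χ ∈ Cfsg.principalBlock M G →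
      ¬ p ∣ Cfsg.charDegree (χ : G → ℂ) → Cfsg.charDegree (χ : G → ℂ) = 1)
    (μ : (P : Subgroup G) →* ℂˣ) :
    ∃ lam : G →* ℂˣ, ∀ x : (P : Subgroup G), lam (x : G) = μ x := by
  classical
  haveI := Fintype.ofFinite G
  haveI : Finite (Cfsg.IrrCharacter G) := irr_finite
  haveI : Fintype (Cfsg.IrrCharacter G) := Fintype.ofFinite _
  haveI : Fintype (P : Subgroup G) := Fintype.ofFinite _
  obtain ⟨B, hBdef⟩ : ∃ B : Set (Cfsg.IrrCharacter G), B = Cfsg.principalBlock M G := ⟨_, rfl⟩
  have hB : Cfsg.IsPBlock M B := by rw [hBdef]; exact isPBlock_principalBlock G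
  have hconj : ∀ χ : Cfsg.IrrCharacter G, conj ((χ : G → ℂ) 1) = (χ : G → ℂ) 1 := by
    intro χ
    obtain ⟨n, hn⟩ := IsCharacter.apply_one (IsIrrCharacter.isCharacter χ.2)
    rw [hn, Complex.conj_natCast]
  have hker0 : ∀ x : (P : Subgroup G), x ≠ 1 → blockKernelFun B (x : G) 1 = 0 := by
    intro x hx
    apply blockKernelFun_eq_zero hM.2.1 p hM.2.2 B hB
    left
    constructor
    · have h := IsPGroup.dvd_orderOf P.2 hx
      rwa [← Subgroup.orderOf_coe] at h
    · rw [orderOf_one]
      exact fun h => hp.out.one_lt.ne' (Nat.dvd_one.mp h)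
  -- the inner product of the block kernel with a linear character of `P`
  have hT : ∀ ν : (P : Subgroup G) →* ℂˣ,
      ∑ χ : Cfsg.IrrCharacter G, (if χ ∈ B then (χ : G → ℂ) 1 *
        Cfsg.classInner (fun x : (P : Subgroup G) => (χ : G → ℂ) x)
          (fun x => ((ν x : ℂˣ) : ℂ)) else 0) =
      (Nat.card (P : Subgroup G) : ℂ)⁻¹ * blockKernelFun B 1 1 := by
    intro ν
    unfold Cfsg.classInner
    have e1 : ∀ χ : Cfsg.IrrCharacter G, (if χ ∈ B then (χ : G → ℂ) 1 *
        ((Nat.card (P : Subgroup G) : ℂ)⁻¹ * ∑ x : (P : Subgroup G),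
          (χ : G → ℂ) x * conj (((ν x : ℂˣ) : ℂ))) else 0) =
        ∑ x : (P : Subgroup G), (Nat.card (P : Subgroup G) : ℂ)⁻¹ *
          (conj (((ν x : ℂˣ) : ℂ)) *
            (if χ ∈ B then (χ : G → ℂ) x * conj ((χ : G → ℂ) 1) else 0)) := by
      intro χ
      split_ifs
      · rw [Finset.mul_sum, Finset.mul_sum]
        apply Finset.sum_congr rfl
        intro x _
        rw [hconj χ]
        ring
      · simp
    rw [Finset.sum_congr rfl (fun χ _ => e1 χ), Finset.sum_comm]
    have e2 : ∀ x : (P : Subgroup G), ∑ χ : Cfsg.IrrCharacter G,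
        (Nat.card (P : Subgroup G) : ℂ)⁻¹ * (conj (((ν x : ℂˣ) : ℂ)) *
          (if χ ∈ B then (χ : G → ℂ) x * conj ((χ : G → ℂ) 1) else 0)) =
        (Nat.card (P : Subgroup G) : ℂ)⁻¹ *
          (conj (((ν x : ℂˣ) : ℂ)) * blockKernelFun B (x : G) 1) := by
      intro x
      rw [← Finset.mul_sum, ← Finset.mul_sum]
      rfl
    rw [Finset.sum_congr rfl (fun x _ => e2 x), ← Finset.mul_sum]
    congr 1
    rw [Finset.sum_eq_single (1 : (P : Subgroup G))]
    · rw [map_one, Units.val_one, map_one, one_mul, Subgroup.coe_one]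
    · intro x _ hx
      rw [hker0 x hx, mul_zero]
    · intro h
      exact absurd (Finset.mem_univ _) h
  -- decomposition modulo `p`
  have hdecomp : ∀ ν : (P : Subgroup G) →* ℂˣ, ∃ z : ℕ,
      ∑ χ : Cfsg.IrrCharacter G, (if χ ∈ B then (χ : G → ℂ) 1 *
        Cfsg.classInner (fun x : (P : Subgroup G) => (χ : G → ℂ) x)
          (fun x => ((ν x : ℂˣ) : ℂ)) else 0) =
      ((p * z + (Finset.univ.filter (fun χ : Cfsg.IrrCharacter G => χ ∈ B ∧
        ¬ p ∣ Cfsg.charDegree (χ : G → ℂ) ∧
        ∀ x : (P : Subgroup G), (χ : G → ℂ) x = ((ν x : ℂˣ) : ℂ))).card : ℕ) : ℂ) := by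
    intro ν
    have hterm : ∀ χ : Cfsg.IrrCharacter G, ∃ k : ℕ, (if χ ∈ B then (χ : G → ℂ) 1 *
        Cfsg.classInner (fun x : (P : Subgroup G) => (χ : G → ℂ) x)
          (fun x => ((ν x : ℂˣ) : ℂ)) else 0) =
        ((p * k + (if (χ ∈ B ∧ ¬ p ∣ Cfsg.charDegree (χ : G → ℂ) ∧
          ∀ x : (P : Subgroup G), (χ : G → ℂ) x = ((ν x : ℂˣ) : ℂ)) then 1 else 0) : ℕ) : ℂ) := by
      intro χ
      by_cases hχB : χ ∈ B
      · rw [if_pos hχB]
        have hdeg := charDegree_cast_of_isCharacter (IsIrrCharacter.isCharacter χ.2)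
        by_cases hpd : p ∣ Cfsg.charDegree (χ : G → ℂ)
        · obtain ⟨k', hk'⟩ := hpd
          obtain ⟨n, hn⟩ := classInner_char_char_nat
            (IsCharacter.restrict (P : Subgroup G) (IsIrrCharacter.isCharacter χ.2))
            (IsIrrCharacter.isCharacter (isIrrCharacter_of_hom ν))
          refine ⟨k' * n, ?_⟩
          have hneg : ¬ (χ ∈ B ∧ ¬ p ∣ Cfsg.charDegree (χ : G → ℂ) ∧
              ∀ x : (P : Subgroup G), (χ : G → ℂ) x = ((ν x : ℂˣ) : ℂ)) := by
            rintro ⟨_, h2, _⟩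
            exact h2 ⟨k', hk'⟩
          rw [if_neg hneg, hn, ← hdeg, hk']
          push_cast
          ring
        · have h1 := hlin χ (by rw [← hBdef]; exact hχB) hpd
          have hχ1 : (χ : G → ℂ) 1 = 1 := by rw [← hdeg, h1, Nat.cast_one]
          obtain ⟨lam, hlam⟩ := exists_hom_of_irr_degree_one χ.2 hχ1
          refine ⟨0, ?_⟩
          rw [hχ1, one_mul]
          have hres : (fun x : (P : Subgroup G) => (χ : G → ℂ) x) =
              fun x => (((lam.comp (P : Subgroup G).subtype) x : ℂˣ) : ℂ) := by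
            ext x
            rw [hlam]
            rfl
          by_cases heq : ∀ x : (P : Subgroup G), (χ : G → ℂ) x = ((ν x : ℂˣ) : ℂ)
          · rw [if_pos ⟨hχB, hpd, heq⟩]
            have hfe : (fun x : (P : Subgroup G) => (χ : G → ℂ) x) =
                fun x => ((ν x : ℂˣ) : ℂ) := funext heq
            rw [hfe, classInner_irr_self (isIrrCharacter_of_hom ν)]
            simp
          · rw [if_neg (fun h => heq h.2.2)]
            rw [classInner_irr_ne (by rw [hres]; exact isIrrCharacter_of_hom _)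
              (isIrrCharacter_of_hom ν) (fun h => heq (congrFun h))]
            simp
      · refine ⟨0, ?_⟩
        rw [if_neg hχB, if_neg (fun h => hχB h.1)]
        simp
    choose f hf using hterm
    refine ⟨∑ χ, f χ, ?_⟩
    rw [Finset.sum_congr rfl (fun χ _ => hf χ), Finset.card_filter]
    push_cast
    rw [Finset.sum_add_distrib, Finset.mul_sum]
  -- the count for the trivial character
  have hS1 : (Finset.univ.filter (fun χ : Cfsg.IrrCharacter G => χ ∈ B ∧
        ¬ p ∣ Cfsg.charDegree (χ : G → ℂ) ∧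
        ∀ x : (P : Subgroup G), (χ : G → ℂ) x =
          ((((1 : (P : Subgroup G) →* ℂˣ)) x : ℂˣ) : ℂ))).card =
      Nat.card (principalLinearKer hM.2.1 (P : Subgroup G)) := by
    rw [← Fintype.card_subtype, ← Nat.card_eq_fintype_card]
    symm
    have hmem : ∀ lam : principalLinearKer hM.2.1 (P : Subgroup G),
        ((⟨fun g => (((lam : G →* ℂˣ) g : ℂˣ) : ℂ), isIrrCharacter_of_hom (lam : G →* ℂˣ)⟩ :
          Cfsg.IrrCharacter G) ∈ B ∧
        ¬ p ∣ Cfsg.charDegree (fun g => (((lam : G →* ℂˣ) g : ℂˣ) : ℂ)) ∧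
        ∀ x : (P : Subgroup G), (fun g => (((lam : G →* ℂˣ) g : ℂˣ) : ℂ)) x =
          ((((1 : (P : Subgroup G) →* ℂˣ)) x : ℂˣ) : ℂ)) := by
      intro lam
      obtain ⟨h1, h2⟩ := (mem_principalLinearKer hM.2.1 _ _).mp lam.2
      refine ⟨?_, ?_, ?_⟩
      · rw [hBdef]
        exact h1
      · have : Cfsg.charDegree (fun g => (((lam : G →* ℂˣ) g : ℂˣ) : ℂ)) = 1 := by
          unfold Cfsg.charDegree
          simp
        rw [this]
        exact fun h => hp.out.one_lt.ne' (Nat.dvd_one.mp h)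
      · intro x
        simp only
        rw [h2 x x.2, MonoidHom.one_apply]
    apply Nat.card_eq_of_bijective
      (fun lam : principalLinearKer hM.2.1 (P : Subgroup G) =>
        (⟨⟨fun g => (((lam : G →* ℂˣ) g : ℂˣ) : ℂ), isIrrCharacter_of_hom (lam : G →* ℂˣ)⟩,
          hmem lam⟩ : {χ : Cfsg.IrrCharacter G // χ ∈ B ∧
            ¬ p ∣ Cfsg.charDegree (χ : G → ℂ) ∧
            ∀ x : (P : Subgroup G), (χ : G → ℂ) x =
              ((((1 : (P : Subgroup G) →* ℂˣ)) x : ℂˣ) : ℂ)}))
    constructor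
    · intro a b hab
      have h1 : (fun g => (((a : G →* ℂˣ) g : ℂˣ) : ℂ)) =
          fun g => (((b : G →* ℂˣ) g : ℂˣ) : ℂ) :=
        congrArg (fun y : {χ : Cfsg.IrrCharacter G // χ ∈ B ∧
            ¬ p ∣ Cfsg.charDegree (χ : G → ℂ) ∧
            ∀ x : (P : Subgroup G), (χ : G → ℂ) x =
              ((((1 : (P : Subgroup G) →* ℂˣ)) x : ℂˣ) : ℂ)} => ((y : Cfsg.IrrCharacter G) : G → ℂ))
          hab
      apply Subtype.ext
      ext g
      exact congrFun h1 g
    · rintro ⟨χ, hχB, hpd, hχP⟩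
      have hdeg := charDegree_cast_of_isCharacter (IsIrrCharacter.isCharacter χ.2)
      have h1 := hlin χ (by rw [← hBdef]; exact hχB) hpd
      have hχ1 : (χ : G → ℂ) 1 = 1 := by rw [← hdeg, h1, Nat.cast_one]
      obtain ⟨lam, hlam⟩ := exists_hom_of_irr_degree_one χ.2 hχ1
      have hlmem : lam ∈ principalLinearKer hM.2.1 (P : Subgroup G) := by
        rw [mem_principalLinearKer]
        constructor
        · rw [← hlam]
          rw [hBdef] at hχB
          exact hχB
        · intro x hx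
          have := hχP ⟨x, hx⟩
          rw [hlam, MonoidHom.one_apply] at this
          simp only at this
          exact Units.ext this
      refine ⟨⟨lam, hlmem⟩, ?_⟩
      apply Subtype.ext
      apply Subtype.ext
      exact hlam.symm
  obtain ⟨z, hz⟩ := hdecomp μ
  obtain ⟨z', hz'⟩ := hdecomp 1
  rw [hT μ] at hz
  rw [hT 1, hz] at hz'
  have hnat := Nat.cast_injective hz'
  have hne : (Finset.univ.filter (fun χ : Cfsg.IrrCharacter G => χ ∈ B ∧
        ¬ p ∣ Cfsg.charDegree (χ : G → ℂ) ∧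
        ∀ x : (P : Subgroup G), (χ : G → ℂ) x = ((μ x : ℂˣ) : ℂ))).card ≠ 0 := by
    intro h0
    rw [h0, add_zero, hS1] at hnat
    apply not_dvd_card_principalLinearKer hM.2.1 P
    have : p ∣ p * z' + Nat.card (principalLinearKer hM.2.1 (P : Subgroup G)) := by
      rw [← hnat]
      exact dvd_mul_right p z
    exact (Nat.dvd_add_right (dvd_mul_right p z')).mp this
  obtain ⟨χ, hχ⟩ := Finset.card_pos.mp (Nat.pos_of_ne_zero hne)
  obtain ⟨hχB, hpd, hχP⟩ := (Finset.mem_filter.mp hχ).2
  have hdeg := charDegree_cast_of_isCharacter (IsIrrCharacter.isCharacter χ.2)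
  have h1 := hlin χ (by rw [← hBdef]; exact hχB) hpd
  have hχ1 : (χ : G → ℂ) 1 = 1 := by rw [← hdeg, h1, Nat.cast_one]
  obtain ⟨lam, hlam⟩ := exists_hom_of_irr_degree_one χ.2 hχ1
  refine ⟨lam, ?_⟩
  intro x
  have := hχP x
  rw [hlam] at this
  exact Units.ext this

end Cfsg.Agent.Helper6
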