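import Mathlib
import Cfsg.Prelude.Def_Solvable
import Cfsg.Prelude.Def_Local

/-!
# Coprime action of a cyclic `p`-group: invariant Sylow subgroups
-/

set_option autoImplicit false
set_option linter.style.haveILetI false

namespace Cfsg.Agent.Helper6

open scoped Pointwise

universe u

variable {G : Type u} [Group G]

/-- a `p`-element normalizing the normal `p'`-subgroup `H` normalizes a Sylow `q`-subgroup -/
theorem exists_invariant_sylow [Finite G] (H : Subgroup G) [hH : H.Normal] {p : ℕ}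
    [hp : Fact p.Prime] (hcop : ¬ p ∣ Nat.card H) (y : G)
    (hy : IsPGroup p (Subgroup.zpowers y)) (q : ℕ) [hq : Fact q.Prime] :
    ∃ R : Subgroup G, R ≤ H ∧ (∀ r ∈ R, y * r * y⁻¹ ∈ R) ∧ IsPGroup q R ∧
      Nat.card R = q ^ (Nat.card H).factorization q := by
  classical
  let f : Subgroup.zpowers y →* MulAut H :=
    (MulAut.conjNormal (H := H)).comp (Subgroup.zpowers y).subtype
  letI : MulAction (Subgroup.zpowers y) (Sylow q H) := MulAction.compHom _ f
  have hnd : ¬ p ∣ Nat.card (Sylow q H) := by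
    intro hdvd
    apply hcop
    obtain ⟨P0⟩ : Nonempty (Sylow q H) := inferInstance
    exact (hdvd.trans (Sylow.card_dvd_index P0)).trans (Subgroup.index_dvd_card _)
  obtain ⟨R0, hR0⟩ := hy.nonempty_fixed_point_of_prime_not_dvd_card (Sylow q H) hnd
  rw [MulAction.mem_fixedPoints] at hR0
  have hfix : (MulAut.conjNormal (H := H) y) • R0 = R0 :=
    hR0 ⟨y, Subgroup.mem_zpowers y⟩
  refine ⟨(R0 : Subgroup H).map H.subtype, Subgroup.map_subtype_le _, ?_, ?_, ?_⟩
  · rintro r ⟨r0, hr0, rfl⟩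
    have h1 : (MulAut.conjNormal (H := H) y) • r0 ∈
        ((MulAut.conjNormal (H := H) y) • R0 : Sylow q H) := by
      rw [← SetLike.mem_coe, ← Sylow.coe_coe, Sylow.pointwise_smul_def]
      exact Subgroup.smul_mem_pointwise_smul r0 _ _ hr0
    rw [hfix] at h1
    refine ⟨_, h1, ?_⟩
    rfl
  · exact R0.2.map _
  · rw [Nat.card_congr ((R0 : Subgroup H).equivMapOfInjective H.subtype
      H.subtype_injective).symm.toEquiv]
    exact Sylow.card_eq_multiplicity R0

/-- if `y` centralizes some Sylow `q`-subgroup of `H` for each prime `q`, it centralizes `H` -/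
theorem centralizes_of_sylows [Finite G] (H : Subgroup G) (y : G)
    (hall : ∀ q : ℕ, q.Prime → ∃ R : Subgroup G, R ≤ H ∧ (∀ r ∈ R, y * r = r * y) ∧
      Nat.card R = q ^ (Nat.card H).factorization q) :
    ∀ h ∈ H, y * h = h * y := by
  classical
  set C : Subgroup G := Subgroup.centralizer {y} ⊓ H with hC
  have hCH : C ≤ H := inf_le_right
  have hdvd : Nat.card H ∣ Nat.card C := by
    rw [← Nat.factorization_prime_le_iff_dvd Nat.card_pos.ne' Nat.card_pos.ne']
    intro q hq
    obtain ⟨R, hRH, hRc, hRcard⟩ := hall q hq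
    have hRC : R ≤ C := by
      intro r hr
      refine Subgroup.mem_inf.mpr ⟨Subgroup.mem_centralizer_iff.mpr ?_, hRH hr⟩
      intro z hz
      rw [Set.mem_singleton_iff] at hz
      rw [hz]
      exact hRc r hr
    have h1 : q ^ (Nat.card H).factorization q ∣ Nat.card C := by
      rw [← hRcard]
      exact Subgroup.card_dvd_of_le hRC
    exact (Nat.Prime.pow_dvd_iff_le_factorization hq Nat.card_pos.ne').mp h1
  have hCeq : C = H := by
    apply Subgroup.eq_of_le_of_card_ge hCH
    exact Nat.le_of_dvd Nat.card_pos hdvd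
  intro h hh
  rw [← hCeq] at hh
  have := Subgroup.mem_centralizer_iff.mp (Subgroup.mem_inf.mp hh).1 y (Set.mem_singleton y)
  exact this

/-- a `p`-element acting nontrivially on a normal `p'`-subgroup acts nontrivially on an invariant
Sylow subgroup -/
theorem exists_invariant_sylow_noncentral [Finite G] (H : Subgroup G) [hH : H.Normal] {p : ℕ}
    [hp : Fact p.Prime] (hcop : ¬ p ∣ Nat.card H) (y : G)
    (hy : IsPGroup p (Subgroup.zpowers y)) (hnc : ∃ h ∈ H, y * h ≠ h * y) :
    ∃ (q : ℕ) (_ : q.Prime) (R : Subgroup G), R ≤ H ∧ (∀ r ∈ R, y * r * y⁻¹ ∈ R) ∧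
      IsPGroup q R ∧ ∃ r ∈ R, y * r ≠ r * y := by
  classical
  by_contra hcon
  obtain ⟨h, hh, hne⟩ := hnc
  apply hne
  apply centralizes_of_sylows H y _ h hh
  intro q hq
  haveI : Fact q.Prime := ⟨hq⟩
  obtain ⟨R, hRH, hRn, hRq, hRcard⟩ := exists_invariant_sylow H hcop y hy q
  refine ⟨R, hRH, ?_, hRcard⟩
  intro r hr
  by_contra hr'
  exact hcon ⟨q, hq, R, hRH, hRn, hRq, r, hr, hr'⟩

end Cfsg.Agent.Helper6
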