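import Mathlib
import Cfsg.Prelude.Def_Solvable
import Cfsg.Prelude.Def_Local
import Cfsg.Agent.Helper1.HallHigmanDual
import Cfsg.Agent.Helper5.Cores
import Cfsg.Agent.Helper5.PPrimeCore

/-!
# `p`-solvable groups with non-normal abelian Sylow `p`-subgroups
-/

set_option autoImplicit false
set_option linter.style.haveILetI false

namespace Cfsg.Agent.Helper6

universe u

variable {G : Type u} [Group G]

/-- in a `p`-solvable group with abelian Sylow `p`-subgroup `P`, `P O_{p'}(G)` is normal -/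
theorem sup_pPrimeCore_normal_of_abelian_sylow [Finite G] {p : ℕ} [hp : Fact p.Prime]
    (hsolv : Cfsg.IsPSolvable p G) (P : Sylow p G)
    (hab : ∀ a ∈ P, ∀ b ∈ P, a * b = b * a) :
    ((P : Subgroup G) ⊔ Cfsg.pPrimeCore p G).Normal := by
  classical
  set H := Cfsg.pPrimeCore p G with hH
  haveI hHn : H.Normal := Cfsg.Agent.Helper1.pPrimeCore_normal p
  set π := QuotientGroup.mk' H with hπdef
  have hπ : Function.Surjective π := QuotientGroup.mk'_surjective H
  have hsolv' : Cfsg.IsPSolvable p (G ⧸ H) := Cfsg.Agent.Helper4.isPSolvable_quotient hsolv H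
  have hO : Cfsg.pPrimeCore p (G ⧸ H) = ⊥ := Cfsg.Agent.Helper4.pPrimeCore_quotient_eq_bot p
  have hHH := Cfsg.Agent.Helper4.centralizer_pCore_le_of_isPSolvable hsolv' hO
  set Pb : Sylow p (G ⧸ H) := P.mapSurjective hπ with hPb
  have h1 : Cfsg.pCore p (G ⧸ H) ≤ Pb := Cfsg.Agent.Helper5.pCore_le_sylow Pb
  have h2 : (Pb : Subgroup (G ⧸ H)) ≤
      Subgroup.centralizer (Cfsg.pCore p (G ⧸ H) : Set (G ⧸ H)) := by
    intro x hx
    rw [Subgroup.mem_centralizer_iff]
    intro z hz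
    obtain ⟨a, ha, rfl⟩ := hx
    obtain ⟨b, hb, rfl⟩ := h1 hz
    rw [← map_mul, ← map_mul, hab b hb a ha]
  have h3 : (P : Subgroup G).map π = Cfsg.pCore p (G ⧸ H) := le_antisymm (h2.trans hHH) h1
  have h4 : ((P : Subgroup G).map π).comap π = (P : Subgroup G) ⊔ H := by
    rw [Subgroup.comap_map_eq, QuotientGroup.ker_mk']
  rw [← h4, h3]
  exact Subgroup.Normal.comap (Cfsg.Agent.Helper4.pCore_normal) π

/-- if `P H` is normal, `H` a normal `p'`-subgroup centralized by the Sylow `p`-subgroup `P`,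
then `P` is normal -/
theorem sylow_normal_of_sup_normal_of_centralizes [Finite G] {p : ℕ} [hp : Fact p.Prime]
    (P : Sylow p G) (H : Subgroup G) [hHn : H.Normal] (hcop : ¬ p ∣ Nat.card H)
    (hN : ((P : Subgroup G) ⊔ H).Normal)
    (hc : ∀ y ∈ P, ∀ h ∈ H, y * h = h * y) : (P : Subgroup G).Normal := by
  classical
  constructor
  intro x hx g
  have h1 : g * x * g⁻¹ ∈ (P : Subgroup G) ⊔ H := hN.conj_mem x (le_sup_left (a := (P : Subgroup G)) hx) g
  obtain ⟨a, ha, h, hh, hah⟩ := Subgroup.mem_sup_of_normal_right.mp h1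
  obtain ⟨k, hk⟩ := IsPGroup.exists_card_eq P.2
  have hxk : x ^ (p ^ k) = 1 := by
    have := pow_card_eq_one' (G := (P : Subgroup G)) (x := ⟨x, hx⟩)
    rw [hk] at this
    exact congrArg Subtype.val this
  have hak : a ^ (p ^ k) = 1 := by
    have := pow_card_eq_one' (G := (P : Subgroup G)) (x := ⟨a, ha⟩)
    rw [hk] at this
    exact congrArg Subtype.val this
  have hcomm : Commute a h := hc a ha h hh
  have h2 : h ^ (p ^ k) = 1 := by
    have h3 : (a * h) ^ (p ^ k) = 1 := by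
      rw [hah, conj_pow, hxk, mul_one, mul_inv_cancel]
    rw [hcomm.mul_pow, hak, one_mul] at h3
    exact h3
  have h4 : orderOf h ∣ p ^ k := orderOf_dvd_of_pow_eq_one h2
  have h5 : orderOf h ∣ Nat.card H := Subgroup.orderOf_dvd_natCard H hh
  have h6 : Nat.Coprime (p ^ k) (Nat.card H) :=
    Nat.Coprime.pow_left k ((Nat.Prime.coprime_iff_not_dvd hp.out).mpr hcop)
  have h7 : orderOf h = 1 := Nat.eq_one_of_dvd_coprimes h6 h4 h5
  have h8 : h = 1 := orderOf_eq_one_iff.mp h7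
  rw [h8, mul_one] at hah
  rw [← hah]
  exact ha

/-- in a `p`-solvable group with non-normal abelian Sylow `p`-subgroup `P` there is `y ∈ P` not
centralizing `O_{p'}(G)` with `y ^ p` centralizing it -/
theorem exists_noncentralizing_pelt [Finite G] {p : ℕ} [hp : Fact p.Prime]
    (hsolv : Cfsg.IsPSolvable p G) (P : Sylow p G)
    (hab : ∀ a ∈ P, ∀ b ∈ P, a * b = b * a) (hP : ¬ (P : Subgroup G).Normal) :
    ∃ y ∈ P, (∃ h ∈ Cfsg.pPrimeCore p G, y * h ≠ h * y) ∧
      ∀ h ∈ Cfsg.pPrimeCore p G, y ^ p * h = h * y ^ p := by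
  classical
  set H := Cfsg.pPrimeCore p G with hH
  haveI hHn : H.Normal := Cfsg.Agent.Helper1.pPrimeCore_normal p
  have hcop : ¬ p ∣ Nat.card H := Cfsg.Agent.Helper5.not_dvd_card_pPrimeCore p
  have hN := sup_pPrimeCore_normal_of_abelian_sylow hsolv P hab
  have hex0 : ∃ y ∈ P, ∃ h ∈ H, y * h ≠ h * y := by
    by_contra hcon
    apply hP
    apply sylow_normal_of_sup_normal_of_centralizes P H hcop hN
    intro y hy h hh
    by_contra hne
    exact hcon ⟨y, hy, h, hh, hne⟩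
  have hex : ∃ k : ℕ, ∃ y ∈ P, orderOf y = k ∧ ∃ h ∈ H, y * h ≠ h * y := by
    obtain ⟨y, hy, hnc⟩ := hex0
    exact ⟨orderOf y, y, hy, rfl, hnc⟩
  obtain ⟨y, hyP, hyk, hync⟩ := Nat.find_spec hex
  refine ⟨y, hyP, hync, ?_⟩
  by_contra hcon
  push Not at hcon
  obtain ⟨h, hh, hne⟩ := hcon
  have hlt : orderOf (y ^ p) < Nat.find hex := by
    rw [← hyk, orderOf_pow]
    obtain ⟨k, hk⟩ := IsPGroup.exists_card_eq P.2
    have hyk' : y ^ (p ^ k) = 1 := by
      have := pow_card_eq_one' (G := (P : Subgroup G)) (x := ⟨y, hyP⟩)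
      rw [hk] at this
      exact congrArg Subtype.val this
    obtain ⟨j, -, hj⟩ := (Nat.dvd_prime_pow hp.out).mp (orderOf_dvd_of_pow_eq_one hyk')
    have hj0 : j ≠ 0 := by
      intro h0
      rw [h0, pow_zero, orderOf_eq_one_iff] at hj
      obtain ⟨h', hh', hne'⟩ := hync
      apply hne'
      rw [hj, one_mul, mul_one]
    rw [hj]
    have hg : Nat.gcd (p ^ j) p = p := Nat.gcd_eq_right (dvd_pow_self p hj0)
    rw [hg]
    exact Nat.div_lt_self (Nat.pos_of_ne_zero (pow_ne_zero _ hp.out.ne_zero)) hp.out.one_lt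
  exact Nat.find_min hex hlt ⟨y ^ p, (P : Subgroup G).pow_mem hyP p, rfl, h, hh, hne⟩

end Cfsg.Agent.Helper6
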