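import Mathlib
import Cfsg.Prelude.Def_Characters
import Cfsg.Prelude.Def_CharExt
import Cfsg.Prelude.Def_Blocks
import Cfsg.Prelude.Def_Local
import Cfsg.Agent.Helper6.ItoCycC
import Cfsg.Agent.Helper6.ItoCycD
import Cfsg.Agent.Helper6.ItoCycE
import Cfsg.Agent.Helper6.ItoCycF
import Cfsg.Agent.Helper6.Glue2

/-!
# Itô's theorem for `p`-solvable groups with a faithful character of degree `≤ p - 1`
-/

set_option autoImplicit false
set_option linter.style.haveILetI false

namespace Cfsg.Agent.Helper6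

universe u

variable {G : Type u} [Group G]

theorem ito_psolvable [Finite G] (χ : G → ℂ) (hχ : Cfsg.IsCharacter G χ)
    (hfaith : ∀ g : G, χ g = χ 1 → g = 1) (n : ℕ) (hn : Cfsg.charDegree χ = n) (p : ℕ)
    (hp : p.Prime) (hsolv : Cfsg.IsPSolvable p G) (hnp : n + 1 ≤ p) (P : Sylow p G)
    (hP : ¬ (P : Subgroup G).Normal) :
    n + 1 = p ∧ (∃ k : ℕ, n = 2 ^ k) ∧ Cfsg.IsIrrCharacter G χ := by
  classical
  haveI : Fact p.Prime := ⟨hp⟩
  have hab : ∀ a ∈ P, ∀ b ∈ P, a * b = b * a := by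
    have hc := comm_of_faithful_deg_lt_prime (G := ↥(P : Subgroup G)) P.2
      (fun g : (P : Subgroup G) => χ g) (IsCharacter.restrict _ hχ)
      (fun g hg => Subtype.ext (hfaith (g : G) hg))
      (by
        have : Cfsg.charDegree (fun g : (P : Subgroup G) => χ g) = Cfsg.charDegree χ := rfl
        rw [this, hn]
        omega)
    intro a ha b hb
    exact congrArg Subtype.val (hc ⟨a, ha⟩ ⟨b, hb⟩)
  obtain ⟨y, hyP, hync, hyp⟩ := exists_noncentralizing_pelt hsolv P hab hP
  set H := Cfsg.pPrimeCore p G with hH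
  haveI hHn : H.Normal := Cfsg.Agent.Helper1.pPrimeCore_normal p
  have hcop : ¬ p ∣ Nat.card H := Cfsg.Agent.Helper5.not_dvd_card_pPrimeCore p
  have hypg : IsPGroup p (Subgroup.zpowers y) :=
    P.2.to_le (Subgroup.zpowers_le.mpr hyP)
  obtain ⟨q, hq, R, hRH, hRn, hRq, r, hr, hrne⟩ :=
    exists_invariant_sylow_noncentral H hcop y hypg hync
  haveI : Fact q.Prime := ⟨hq⟩
  have hcopR : ¬ p ∣ Nat.card R := fun h => hcop (h.trans (Subgroup.card_dvd_of_le hRH))
  rcases ito_apply R hcopR y hypg hRn (fun h hh => hyp h (hRH hh)) χ hχ hfaith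
    (by rw [hn]; exact hnp) with h | ⟨h1, h2⟩
  · exact absurd (h r hr) hrne
  · have hirr := isIrr_of_restrict_isIrr R hχ h2
    rw [hn] at h1
    refine ⟨h1, ?_, hirr⟩
    obtain ⟨d, hd, hddvd, -⟩ := IsIrrCharacter.degree_dvd_card h2
    have hdn : d = n := by
      have h3 : (Cfsg.charDegree χ : ℂ) = χ 1 := charDegree_cast_of_isCharacter hχ
      have : (d : ℂ) = n := by
        rw [← hd]
        change χ ((1 : R) : G) = n
        rw [Subgroup.coe_one, ← h3, hn]
      exact_mod_cast this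
    obtain ⟨a, ha⟩ := IsPGroup.exists_card_eq hRq
    rw [ha, hdn] at hddvd
    obtain ⟨j, -, hj⟩ := (Nat.dvd_prime_pow hq).mp hddvd
    by_cases hq2 : q = 2
    · exact ⟨j, by rw [hj, hq2]⟩
    · have hqodd : Odd q := hq.odd_of_ne_two hq2
      have hnodd : Odd n := by
        rw [hj]
        exact hqodd.pow
      have hpeven : Even p := by
        rw [← h1]
        exact hnodd.add_one
      have hp2 : p = 2 := (Nat.Prime.even_iff hp).mp hpeven
      exact ⟨0, by omega⟩

end Cfsg.Agent.Helper6
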