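import Mathlib
import Cfsg.Prelude.Def_Solvable
import Cfsg.Prelude.Def_Local

/-!
# Subgroups with a normal Sylow `p`-subgroup, and transfer into an abelian Sylow subgroup
-/

set_option autoImplicit false
set_option linter.style.haveILetI false

namespace Cfsg.Agent.Helper6

open scoped Pointwise

universe u

variable {G : Type u} [Group G]

/-- the subgroup `L` has a normal Sylow `p`-subgroup -/
def PClosedSub (p : ℕ) (L : Subgroup G) : Prop :=
  ∀ S : Sylow p L, (S : Subgroup L).Normal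

theorem PClosedSub.sylow_eq [Finite G] {p : ℕ} [Fact p.Prime] {L : Subgroup G}
    (hL : PClosedSub p L) (P₁ P₂ : Sylow p G) (h1 : (P₁ : Subgroup G) ≤ L)
    (h2 : (P₂ : Subgroup G) ≤ L) : P₁ = P₂ := by
  haveI := Sylow.unique_of_normal (P₁.subtype h1) (hL _)
  exact Sylow.subtype_injective (Subsingleton.elim (P₁.subtype h1) (P₂.subtype h2))

theorem mem_sylow_smul_iff {p : ℕ} (P : Sylow p G) (g x : G) :
    x ∈ ((g • P : Sylow p G) : Subgroup G) ↔ ∃ s ∈ P, g * s * g⁻¹ = x := by
  have : ((g • P : Sylow p G) : Subgroup G) = MulAut.conj g • (P : Subgroup G) := rfl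
  rw [this, Subgroup.mem_smul_pointwise_iff_exists]
  constructor
  · rintro ⟨s, hs, rfl⟩
    exact ⟨s, hs, rfl⟩
  · rintro ⟨s, hs, rfl⟩
    exact ⟨s, hs, rfl⟩

theorem PClosedSub.sylow_normal [Finite G] {p : ℕ} [Fact p.Prime] {L : Subgroup G}
    (hL : PClosedSub p L) [hLn : L.Normal] (P : Sylow p G) (hP : (P : Subgroup G) ≤ L) :
    (P : Subgroup G).Normal := by
  rw [← Subgroup.normalizer_eq_top_iff, eq_top_iff]
  intro g _
  refine (Sylow.smul_eq_iff_mem_normalizer (g := g) (P := P)).mp ?_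
  apply hL.sylow_eq (g • P) P _ hP
  intro x hx
  obtain ⟨s, hs, rfl⟩ := (mem_sylow_smul_iff P g x).mp hx
  exact hLn.conj_mem s (hP hs) g

theorem PClosedSub.exists_sylow_ge [Finite G] {p : ℕ} [Fact p.Prime] {L : Subgroup G}
    (hL : PClosedSub p L) :
    ∃ P₁ : Sylow p G, ∀ T : Subgroup G, T ≤ L → IsPGroup p T → T ≤ P₁ := by
  obtain ⟨S⟩ : Nonempty (Sylow p L) := inferInstance
  haveI := Sylow.unique_of_normal S (hL S)
  obtain ⟨P₁, hP₁⟩ := S.exists_comap_subtype_eq
  refine ⟨P₁, ?_⟩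
  intro T hTL hT
  have hT' : IsPGroup p (T.subgroupOf L) :=
    hT.of_equiv (Subgroup.subgroupOfEquivOfLe hTL).symm
  obtain ⟨S', hS'⟩ := hT'.exists_le_sylow
  have hSS : S' = S := Subsingleton.elim _ _
  rw [hSS] at hS'
  intro t ht
  have h1 : (⟨t, hTL ht⟩ : L) ∈ T.subgroupOf L := Subgroup.mem_subgroupOf.mpr ht
  have h2 := hS' h1
  rw [← hP₁] at h2
  exact h2

theorem PClosedSub.exists_normal_sylow [Finite G] {p : ℕ} [Fact p.Prime] {L : Subgroup G}
    (hL : PClosedSub p L) [hLn : L.Normal] :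
    ∃ S : Subgroup G, S ≤ L ∧ S.Normal ∧ IsPGroup p S ∧ (S.relIndex L).Coprime p := by
  obtain ⟨S⟩ : Nonempty (Sylow p L) := inferInstance
  haveI hSn : (S : Subgroup L).Normal := hL S
  haveI hSc : (S : Subgroup L).Characteristic := Sylow.characteristic_of_normal S hSn
  refine ⟨(S : Subgroup L).map L.subtype, Subgroup.map_subtype_le _, inferInstance,
    S.2.map _, ?_⟩
  have h1 : ((S : Subgroup L).map L.subtype).relIndex L = (S : Subgroup L).index := by
    unfold Subgroup.relIndex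
    congr 1
    ext x
    rw [Subgroup.mem_subgroupOf]
    constructor
    · rintro ⟨s, hs, hsx⟩
      have : s = x := Subtype.ext hsx
      rw [← this]
      exact hs
    · intro hx
      exact ⟨x, hx, rfl⟩
  rw [h1, Nat.coprime_comm]
  exact (Nat.Prime.coprime_iff_not_dvd (Fact.out : p.Prime)).mpr S.not_dvd_index

open scoped IsMulCommutative in
/-- a nontrivial central element of an abelian Sylow `p`-subgroup gives a normal subgroup of
index `p` -/
theorem exists_normal_index_prime_of_central [Finite G] {p : ℕ} [hp : Fact p.Prime]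
    (P : Sylow p G) (hab : ∀ a ∈ P, ∀ b ∈ P, a * b = b * a) (z : G) (hzP : z ∈ P)
    (hzc : z ∈ Subgroup.center G) (hz1 : z ≠ 1) :
    ∃ M : Subgroup G, M.Normal ∧ M.index = p := by
  classical
  haveI : IsMulCommutative (P : Subgroup G) :=
    ⟨⟨fun a b => Subtype.ext (hab a a.2 b b.2)⟩⟩
  let V : G →* (P : Subgroup G) := MonoidHom.transfer (MonoidHom.id (P : Subgroup G))
  have key : ∀ (k : ℕ) (g₀ : G), g₀⁻¹ * z ^ k * g₀ ∈ (P : Subgroup G) →
      g₀⁻¹ * z ^ k * g₀ = z ^ k := by
    intro k g₀ _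
    have hzk : z ^ k ∈ Subgroup.center G := (Subgroup.center G).pow_mem hzc k
    rw [Subgroup.mem_center_iff] at hzk
    rw [mul_assoc, ← hzk g₀, inv_mul_cancel_left]
  have hV : V z = ⟨z ^ (P : Subgroup G).index, MonoidHom.transfer_eq_pow_aux z key⟩ :=
    MonoidHom.transfer_eq_pow (MonoidHom.id (P : Subgroup G)) z key
  have hVne : V z ≠ 1 := by
    rw [hV]
    intro h1
    have h2 : z ^ (P : Subgroup G).index = 1 := congrArg Subtype.val h1
    have h3 : orderOf z ∣ (P : Subgroup G).index := orderOf_dvd_of_pow_eq_one h2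
    obtain ⟨k, hk⟩ := IsPGroup.exists_card_eq P.2
    have hzk : z ^ (p ^ k) = 1 := by
      have := pow_card_eq_one' (G := (P : Subgroup G)) (x := ⟨z, hzP⟩)
      rw [hk] at this
      exact congrArg Subtype.val this
    obtain ⟨j, -, hj⟩ := (Nat.dvd_prime_pow hp.out).mp (orderOf_dvd_of_pow_eq_one hzk)
    have hj0 : j ≠ 0 := by
      intro h0
      rw [h0, pow_zero, orderOf_eq_one_iff] at hj
      exact hz1 hj
    apply P.not_dvd_index
    exact (dvd_pow_self p hj0).trans (hj ▸ h3)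
  -- the range of `V`
  set A : Subgroup (P : Subgroup G) := V.range with hA
  have hAp : IsPGroup p A := P.2.to_subgroup A
  obtain ⟨a, ha⟩ := IsPGroup.exists_card_eq hAp
  have ha0 : a ≠ 0 := by
    intro h0
    rw [h0, pow_zero] at ha
    have hsub : Subsingleton A := (Nat.card_eq_one_iff_unique.mp ha).1
    have h1 : (⟨V z, ⟨z, rfl⟩⟩ : A) = 1 := Subsingleton.elim _ _
    exact hVne (congrArg Subtype.val h1)
  obtain ⟨M₀, hM₀⟩ := Sylow.exists_subgroup_card_pow_prime (G := A) p (n := a - 1)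
    (by rw [ha]; exact pow_dvd_pow p (Nat.sub_le a 1))
  haveI hM₀n : M₀.Normal := by
    constructor
    intro x hx g
    have : g * x * g⁻¹ = x := by
      rw [mul_comm g x, mul_inv_cancel_right]
    rw [this]
    exact hx
  refine ⟨M₀.comap V.rangeRestrict, Subgroup.Normal.comap hM₀n _, ?_⟩
  rw [Subgroup.index_comap_of_surjective M₀ V.rangeRestrict_surjective]
  have h1 := Subgroup.card_mul_index M₀
  rw [hM₀, ha] at h1
  have h2 : p ^ a = p ^ (a - 1) * p := by
    rw [← pow_succ]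
    congr 1
    omega
  rw [h2] at h1
  exact Nat.eq_of_mul_eq_mul_left (pow_pos hp.out.pos _) h1

end Cfsg.Agent.Helper6
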