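import Mathlib
import Cfsg.Prelude.Def_Characters
import Cfsg.Prelude.Def_CharExt
import Cfsg.Prelude.Def_Blocks
import Cfsg.Prelude.Def_Local
import Cfsg.Agent.Helper6.ItoCycG
import Cfsg.Agent.Helper6.ItoFTA
import Cfsg.Agent.Helper6.FTLemF

/-!
# The Feit–Thompson small degree theorem: the minimal configuration
-/

set_option autoImplicit false
set_option linter.style.haveILetI false

namespace Cfsg.Agent.Helper6

open scoped Pointwise

universe u

variable {G : Type u} [Group G]

/-- A group with a normal series `1 ≤ U ≤ K ≤ G` of type `p`, `p'`, `p` is `p`-soluble. -/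
theorem isPSolvable_of_chain_p_p'_p {p : ℕ} (U K : Subgroup G) (hUn : U.Normal) (hKn : K.Normal)
    (hUK : U ≤ K) (hU : ∃ a : ℕ, Nat.card U = p ^ a) (hK : (U.relIndex K).Coprime p)
    (hG : ∃ k : ℕ, K.index = p ^ k) : Cfsg.IsPSolvable p G := by
  refine ⟨3, ![⊥, U, K, ⊤], rfl, rfl, ?_, ?_, ?_⟩
  · rw [Fin.monotone_iff_le_succ]
    intro i
    fin_cases i
    · show (⊥ : Subgroup G) ≤ U
      exact bot_le
    · show U ≤ K
      exact hUK
    · show K ≤ (⊤ : Subgroup G)
      exact le_top
  · intro i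
    fin_cases i
    · exact (inferInstance : (⊥ : Subgroup G).Normal)
    · exact hUn
    · exact hKn
    · exact (inferInstance : (⊤ : Subgroup G).Normal)
  · intro i
    fin_cases i
    · left
      obtain ⟨a, ha⟩ := hU
      refine ⟨a, ?_⟩
      show (⊥ : Subgroup G).relIndex U = p ^ a
      rw [Subgroup.relIndex_bot_left, ha]
    · right
      exact hK
    · left
      obtain ⟨k, hk⟩ := hG
      refine ⟨k, ?_⟩
      show K.relIndex ⊤ = p ^ k
      rw [Subgroup.relIndex_top_right, hk]

/-- a group with a faithful character is abelian or the character has a nonlinear irreducible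
constituent -/
theorem comm_or_exists_nonlinear_constituent [Finite G] (χ : G → ℂ)
    (hχ : Cfsg.IsCharacter G χ) (hfaith : ∀ g, χ g = χ 1 → g = 1) :
    (∀ a b : G, a * b = b * a) ∨
      ∃ (θ : Cfsg.IrrCharacter G) (d : ℕ), (θ : G → ℂ) 1 = d ∧ d ≠ 1 ∧ d ≤ Cfsg.charDegree χ := by
  classical
  haveI := Fintype.ofFinite G
  haveI : Finite (Cfsg.IrrCharacter G) := irr_finite
  haveI : Fintype (Cfsg.IrrCharacter G) := Fintype.ofFinite _
  obtain ⟨m, hm, hval⟩ := char_expansion_nat hχ
  have hDc : (Cfsg.charDegree χ : ℂ) = χ 1 := charDegree_cast_of_isCharacter hχ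
  have h2 : ∀ φ : Cfsg.IrrCharacter G, ∃ e : ℕ, (φ : G → ℂ) 1 = e := by
    intro φ
    obtain ⟨e, he, -, -⟩ := IsIrrCharacter.degree_dvd_card φ.2
    exact ⟨e, he⟩
  choose e he using h2
  have h4 : Cfsg.charDegree χ = ∑ φ : Cfsg.IrrCharacter G, m φ * e φ := by
    have h1 := hval 1
    rw [← hDc] at h1
    have h3 : (Cfsg.charDegree χ : ℂ) = ((∑ φ : Cfsg.IrrCharacter G, m φ * e φ : ℕ) : ℂ) := by
      rw [h1]
      push_cast
      apply Finset.sum_congr rfl
      intro φ _
      rw [he]
    exact_mod_cast h3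
  by_cases hall : ∀ θ : Cfsg.IrrCharacter G, m θ ≠ 0 → e θ = 1
  · left
    intro a b
    have hc : a * b * a⁻¹ * b⁻¹ = 1 := by
      apply hfaith
      rw [hval, hval 1]
      apply Finset.sum_congr rfl
      intro θ _
      by_cases hθ : m θ = 0
      · rw [hθ]
        simp
      · congr 1
        have hθ1 : (θ : G → ℂ) 1 = 1 := by
          rw [he, hall θ hθ]
          simp
        obtain ⟨lam, hlam⟩ := exists_hom_of_irr_degree_one θ.2 hθ1
        rw [hlam]
        simp only [map_mul, map_inv, map_one]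
        have : lam a * lam b * (lam a)⁻¹ * (lam b)⁻¹ = 1 := by
          rw [mul_comm (lam a) (lam b), mul_assoc (lam b), mul_inv_cancel, mul_one,
            mul_inv_cancel]
        rw [this]
    calc a * b = (a * b * a⁻¹ * b⁻¹) * (b * a) := by group
      _ = b * a := by rw [hc, one_mul]
  · right
    push Not at hall
    obtain ⟨θ, hθ, hne⟩ := hall
    refine ⟨θ, e θ, he θ, hne, ?_⟩
    rw [h4]
    calc e θ ≤ m θ * e θ := Nat.le_mul_of_pos_left _ (Nat.pos_of_ne_zero hθ)
      _ ≤ _ := Finset.single_le_sum (f := fun φ => m φ * e φ) (fun _ _ => Nat.zero_le _)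
        (Finset.mem_univ θ)

set_option maxHeartbeats 1600000 in
/-- the minimal configuration in the Feit–Thompson theorem -/
theorem ft_core [Finite G] (χ : G → ℂ) (hχ : Cfsg.IsCharacter G χ)
    (hfaith : ∀ g : G, χ g = χ 1 → g = 1) (n : ℕ) (hn : Cfsg.charDegree χ = n) {p : ℕ}
    [hp : Fact p.Prime] (hnp : n + 1 < p) (hbig : (n + 1) ^ 2 ≤ p ∨ p ^ 2 ∣ Nat.card G)
    (hmin : ∀ L : Subgroup G, L ≠ ⊤ → PClosedSub p L) (P : Sylow p G) :
    (P : Subgroup G).Normal := by
  classical
  by_contra hP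
  have hpp := hp.out
  -- all Sylow subgroups are abelian
  have hab : ∀ P₁ : Sylow p G, ∀ a ∈ P₁, ∀ b ∈ P₁, a * b = b * a := by
    intro P₁
    have hc := comm_of_faithful_deg_lt_prime (G := ↥(P₁ : Subgroup G)) P₁.2
      (fun g : (P₁ : Subgroup G) => χ g) (IsCharacter.restrict _ hχ)
      (fun g hg => Subtype.ext (hfaith (g : G) hg))
      (by
        have : Cfsg.charDegree (fun g : (P₁ : Subgroup G) => χ g) = Cfsg.charDegree χ := rfl
        rw [this, hn]
        omega)
    intro a ha b hb
    exact congrArg Subtype.val (hc ⟨a, ha⟩ ⟨b, hb⟩)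
  -- no normal subgroup of index `p`
  have hnoidx : ∀ M : Subgroup G, M.Normal → M.index ≠ p := by
    intro M hMn hMidx
    have hMtop : M ≠ ⊤ := by
      intro h
      rw [h, Subgroup.index_top] at hMidx
      exact hpp.one_lt.ne hMidx
    haveI := hMn
    obtain ⟨S, hSM, hSn, hSp, hScop⟩ := (hmin M hMtop).exists_normal_sylow
    have hsolv : Cfsg.IsPSolvable p G :=
      isPSolvable_of_chain_p_p'_p S M hSn hMn hSM (IsPGroup.exists_card_eq hSp) hScop
        ⟨1, by rw [hMidx, pow_one]⟩
    have := (ito_psolvable χ hχ hfaith n hn p hpp hsolv hnp.le P hP).1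
    omega
  -- Sylow subgroups meet the center trivially
  have hZ : ∀ P₁ : Sylow p G, (P₁ : Subgroup G) ⊓ Subgroup.center G = ⊥ := by
    intro P₁
    rw [eq_bot_iff]
    intro z hz
    rw [Subgroup.mem_bot]
    by_contra hz1
    obtain ⟨M, hMn, hMidx⟩ := exists_normal_index_prime_of_central P₁ (hab P₁) z
      (Subgroup.mem_inf.mp hz).1 (Subgroup.mem_inf.mp hz).2 hz1
    exact hnoidx M hMn hMidx
  -- a normal proper subgroup does not contain `P`
  have hnormal : ∀ M : Subgroup G, M.Normal → (P : Subgroup G) ≤ M → M = ⊤ := by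
    intro M hMn hPM
    by_contra hMtop
    haveI := hMn
    exact hP ((hmin M hMtop).sylow_normal P hPM)
  -- TI
  have hTI : ∀ P₁ P₂ : Sylow p G, (P₁ : Subgroup G) ⊓ (P₂ : Subgroup G) ≠ ⊥ → P₁ = P₂ := by
    intro P₁ P₂ hne
    set D : Subgroup G := (P₁ : Subgroup G) ⊓ (P₂ : Subgroup G) with hD
    set C : Subgroup G := Subgroup.centralizer (D : Set G) with hC
    have h1 : (P₁ : Subgroup G) ≤ C := by
      intro x hx
      rw [hC, Subgroup.mem_centralizer_iff]
      intro d hd
      exact hab P₁ d (Subgroup.mem_inf.mp hd).1 x hx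
    have h2 : (P₂ : Subgroup G) ≤ C := by
      intro x hx
      rw [hC, Subgroup.mem_centralizer_iff]
      intro d hd
      exact hab P₂ d (Subgroup.mem_inf.mp hd).2 x hx
    by_cases hCtop : C = ⊤
    · exfalso
      apply hne
      rw [eq_bot_iff, ← hZ P₁]
      intro d hd
      refine Subgroup.mem_inf.mpr ⟨(Subgroup.mem_inf.mp hd).1, ?_⟩
      rw [Subgroup.mem_center_iff]
      intro g
      have hg : g ∈ C := by rw [hCtop]; exact Subgroup.mem_top g
      rw [hC, Subgroup.mem_centralizer_iff] at hg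
      exact (hg d hd).symm
    · exact (hmin C hCtop).sylow_eq P₁ P₂ h1 h2
  -- the hypothesis on centralizers
  have hconj : ∀ a : G, (P : Subgroup G).map (MulAut.conj a).toMonoidHom =
      ((a • P : Sylow p G) : Subgroup G) := by
    intro a
    ext x
    rw [mem_sylow_smul_iff, Subgroup.mem_map]
    constructor
    · rintro ⟨s, hs, rfl⟩
      exact ⟨s, hs, rfl⟩
    · rintro ⟨s, hs, rfl⟩
      exact ⟨s, hs, rfl⟩
  have hone : ∀ g : G, g ∉ Subgroup.center G → ∀ a b : G,
      Subgroup.centralizer ({g} : Set G) ⊓ (P : Subgroup G).map (MulAut.conj a).toMonoidHom ≠ ⊥ →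
      Subgroup.centralizer ({g} : Set G) ⊓ (P : Subgroup G).map (MulAut.conj b).toMonoidHom ≠ ⊥ →
      (P : Subgroup G).map (MulAut.conj a).toMonoidHom =
        (P : Subgroup G).map (MulAut.conj b).toMonoidHom := by
    intro g hg a b ha hb
    set L : Subgroup G := Subgroup.centralizer ({g} : Set G) with hL
    have hLtop : L ≠ ⊤ := by
      intro h
      apply hg
      rw [Subgroup.mem_center_iff]
      intro x
      have hx : x ∈ L := by rw [h]; exact Subgroup.mem_top x
      rw [hL, Subgroup.mem_centralizer_iff] at hx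
      exact (hx g (Set.mem_singleton g)).symm
    obtain ⟨P₀, hP₀⟩ := (hmin L hLtop).exists_sylow_ge
    have key : ∀ c : G, L ⊓ (P : Subgroup G).map (MulAut.conj c).toMonoidHom ≠ ⊥ →
        P₀ = (c • P : Sylow p G) := by
      intro c hc
      apply hTI
      intro hbot
      apply hc
      rw [eq_bot_iff, ← hbot]
      intro x hx
      refine Subgroup.mem_inf.mpr ⟨?_, ?_⟩
      · refine hP₀ _ inf_le_left ?_ hx
        rw [hconj c]
        exact (c • P : Sylow p G).2.to_le inf_le_right
      · rw [← hconj c]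
        exact (Subgroup.mem_inf.mp hx).2
    rw [hconj a, hconj b, ← key a ha, ← key b hb]
  -- nonlinear constituent
  rcases comm_or_exists_nonlinear_constituent χ hχ hfaith with hcomm | ⟨θ, d, hθd, hd1, hdn⟩
  · apply hP
    constructor
    intro x hx g
    rw [hcomm g x, mul_inv_cancel_right]
    exact hx
  · haveI := Fintype.ofFinite G
    have hlt := ft_part_two (P : Subgroup G) (hab P) (hZ P) hone (θ : G → ℂ) θ.2 d hθd hd1
      hnormal
    rw [hn] at hdn
    have hle : (1 + d) ^ 2 ≤ (n + 1) ^ 2 := Nat.pow_le_pow_left (by omega) 2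
    obtain ⟨k, hk⟩ := IsPGroup.exists_card_eq P.2
    have hk0 : k ≠ 0 := by
      intro h0
      rw [h0, pow_zero] at hk
      apply hP
      have : (P : Subgroup G) = ⊥ := Subgroup.card_eq_one.mp hk
      rw [this]
      exact Subgroup.normal_bot
    rcases hbig with hA | hB
    · have : p ≤ p ^ k := by
        calc p = p ^ 1 := (pow_one p).symm
          _ ≤ p ^ k := Nat.pow_le_pow_right hpp.pos (Nat.one_le_iff_ne_zero.mpr hk0)
      omega
    · have hk2 : 2 ≤ k := by
        have h1 : p ^ 2 ∣ Nat.card (P : Subgroup G) := by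
          rw [Sylow.card_eq_multiplicity]
          apply pow_dvd_pow
          exact (Nat.Prime.pow_dvd_iff_le_factorization hpp Nat.card_pos.ne').mp hB
        rw [hk] at h1
        exact (Nat.pow_dvd_pow_iff_le_right hpp.one_lt).mp h1
      have h3 : p ^ 2 ≤ p ^ k := Nat.pow_le_pow_right hpp.pos hk2
      have h4 : (n + 1) ^ 2 < p ^ 2 := Nat.pow_lt_pow_left hnp (by norm_num)
      omega

end Cfsg.Agent.Helper6
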