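import Mathlib
import Cfsg.Prelude.Def_Characters
import Cfsg.Prelude.Def_CharExt
import Cfsg.Prelude.Def_Blocks
import Cfsg.Prelude.Def_Local
import Cfsg.Agent.Helper6.ItoFTB
import Cfsg.Agent.Helper6.RepEigen
import Cfsg.Agent.Helper6.Codegree

/-!
# The Feit–Thompson small degree theorem (modulo the case of a Sylow subgroup of order `p`)
-/

set_option autoImplicit false
set_option linter.style.haveILetI false

namespace Cfsg.Agent.Helper6

open Module

universe u

/-- groups of order not divisible by `p ^ 2` have normal Sylow `p`-subgroups -/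
def SmallPClosed (p : ℕ) (K : Type u) [Group K] : Prop :=
  ¬ p ^ 2 ∣ Nat.card K → ∀ Q : Sylow p K, (Q : Subgroup K).Normal

theorem SmallPClosed.of_equiv {p : ℕ} [Fact p.Prime] {K K' : Type u} [Group K] [Group K']
    [Finite K'] (e : K' ≃* K) (h : SmallPClosed p K) : SmallPClosed p K' := by
  intro hcard Q'
  have hc : Nat.card K' = Nat.card K := Nat.card_congr e.toEquiv
  rw [hc] at hcard
  have h1 : ((Q' : Subgroup K').map e.toMonoidHom).Normal :=
    h hcard (Q'.mapSurjective (f := e.toMonoidHom) e.surjective)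
  have h2 : ((Q' : Subgroup K').map e.toMonoidHom).comap e.toMonoidHom = (Q' : Subgroup K') :=
    Subgroup.comap_map_eq_self_of_injective e.injective _
  rw [← h2]
  exact Subgroup.Normal.comap h1 _

theorem ft_small_aux (p : ℕ) [hp : Fact p.Prime] :
    ∀ (N : ℕ) (G : Type u) [Group G] [Finite G], Nat.card G = N →
      ∀ (χ : G → ℂ), Cfsg.IsCharacter G χ → (∀ g : G, χ g = χ 1 → g = 1) →
      ∀ (n : ℕ), Cfsg.charDegree χ = n →
      ((n + 1) ^ 2 ≤ p ∨ (n + 1 < p ∧ ∀ K : Subgroup G, SmallPClosed p K)) →
      ∀ P : Sylow p G, (P : Subgroup G).Normal := by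
  intro N
  induction N using Nat.strong_induction_on with
  | _ N ih =>
    intro G _ _ hN χ hχ hfaith n hn h P
    have hpp := hp.out
    have hnp : n + 1 < p := by
      rcases h with hA | hB
      · rcases Nat.eq_zero_or_pos n with h0 | h0
        · have := hpp.two_le
          omega
        · have : n + 1 < (n + 1) ^ 2 := by nlinarith
          omega
      · exact hB.1
    by_cases hB2 : (n + 1) ^ 2 ≤ p ∨ p ^ 2 ∣ Nat.card G
    · apply ft_core χ hχ hfaith n hn hnp hB2 _ P
      intro L hL S
      have hlt : Nat.card L < N := by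
        rw [← hN]
        exact lt_of_le_of_ne (Subgroup.card_le_card_group L)
          (fun h => hL ((Subgroup.card_eq_iff_eq_top L).mp h))
      refine ih (Nat.card L) hlt L rfl (fun g : L => χ g) (IsCharacter.restrict L hχ)
        (fun g hg => Subtype.ext (hfaith (g : G) hg)) n hn ?_ S
      rcases h with hA | ⟨h1, h2⟩
      · exact Or.inl hA
      · refine Or.inr ⟨h1, ?_⟩
        intro K'
        exact (h2 (K'.map L.subtype)).of_equiv
          (K'.equivMapOfInjective L.subtype L.subtype_injective)
    · push Not at hB2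
      rcases h with hA | ⟨_, hB⟩
      · exact absurd hA (not_le.mpr hB2.1)
      · have h1 : SmallPClosed p G :=
          (hB ⊤).of_equiv (Subgroup.topEquiv (G := G)).symm
        exact h1 hB2.2 P

/-- Feit–Thompson: a faithful representation of degree `n` with `(n + 1) ^ 2 ≤ p`, or with
`n + 1 < p` and the theorem known for subgroups of order not divisible by `p ^ 2`, forces a normal
Sylow `p`-subgroup. -/
theorem ft_small {G : Type u} [Group G] [Finite G] (n : ℕ)
    (ρ : Representation ℂ G (Fin n → ℂ)) (hρ : Function.Injective ρ) (p : ℕ) [Fact p.Prime]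
    (h : (n + 1) ^ 2 ≤ p ∨ (n + 1 < p ∧ ∀ K : Subgroup G, ¬ p ^ 2 ∣ Nat.card K →
      ∀ Q : Sylow p K, (Q : Subgroup K).Normal)) (P : Sylow p G) :
    (P : Subgroup G).Normal := by
  refine ft_small_aux p (Nat.card G) G rfl ρ.character ⟨n, ρ, rfl⟩ ?_ n (charDegree_rep ρ) ?_ P
  · intro g hg
    rw [Representation.char_one] at hg
    have h1 : ρ g = LinearMap.id := (char_eq_finrank_iff ρ g).mp hg
    apply hρ
    rw [h1, map_one]
    rfl
  · rcases h with hA | ⟨h1, h2⟩
    · exact Or.inl hA
    · exact Or.inr ⟨h1, fun K => h2 K⟩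

end Cfsg.Agent.Helper6
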