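import Mathlib

/-!
# The Hilbert–Schmidt sum of an operator on a finite-dimensional complex inner product space
-/

set_option autoImplicit false
set_option linter.style.haveILetI false

namespace Cfsg.Agent.Helper6

open Module
open scoped InnerProductSpace

variable {E : Type*} [NormedAddCommGroup E] [InnerProductSpace ℂ E] [FiniteDimensional ℂ E]

/-- the sum of the squared norms of the images of an orthonormal basis -/
noncomputable def hsSum (X : E →ₗ[ℂ] E) : ℝ :=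
  ∑ i, ‖X (stdOrthonormalBasis ℂ E i)‖ ^ 2

theorem sum_sq_norm_apply_eq_adjoint {ι₁ ι₂ : Type*} [Fintype ι₁] [Fintype ι₂]
    (e : OrthonormalBasis ι₁ ℂ E) (f : OrthonormalBasis ι₂ ℂ E) (X : E →ₗ[ℂ] E) :
    ∑ i, ‖X (f i)‖ ^ 2 = ∑ j, ‖LinearMap.adjoint X (e j)‖ ^ 2 := by
  calc ∑ i, ‖X (f i)‖ ^ 2 = ∑ i, ∑ j, ‖⟪e j, X (f i)⟫_ℂ‖ ^ 2 := by
        apply Finset.sum_congr rfl
        intro i _
        rw [e.sum_sq_norm_inner_right]
    _ = ∑ j, ∑ i, ‖⟪e j, X (f i)⟫_ℂ‖ ^ 2 := Finset.sum_comm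
    _ = ∑ j, ∑ i, ‖⟪LinearMap.adjoint X (e j), f i⟫_ℂ‖ ^ 2 := by
        apply Finset.sum_congr rfl
        intro j _
        apply Finset.sum_congr rfl
        intro i _
        rw [LinearMap.adjoint_inner_left]
    _ = ∑ j, ‖LinearMap.adjoint X (e j)‖ ^ 2 := by
        apply Finset.sum_congr rfl
        intro j _
        rw [f.sum_sq_norm_inner_left]

/-- the Hilbert–Schmidt sum may be computed in any orthonormal basis -/
theorem hsSum_eq {ι : Type*} [Fintype ι] (f : OrthonormalBasis ι ℂ E) (X : E →ₗ[ℂ] E) :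
    hsSum X = ∑ i, ‖X (f i)‖ ^ 2 := by
  unfold hsSum
  rw [sum_sq_norm_apply_eq_adjoint (stdOrthonormalBasis ℂ E) (stdOrthonormalBasis ℂ E) X,
    sum_sq_norm_apply_eq_adjoint (stdOrthonormalBasis ℂ E) f X]

/-- the Hilbert–Schmidt sum in terms of matrix entries -/
theorem hsSum_eq_entries {ι : Type*} [Fintype ι] (f : OrthonormalBasis ι ℂ E)
    (X : E →ₗ[ℂ] E) : hsSum X = ∑ i, ∑ j, ‖⟪f j, X (f i)⟫_ℂ‖ ^ 2 := by
  rw [hsSum_eq f]
  apply Finset.sum_congr rfl
  intro i _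
  rw [f.sum_sq_norm_inner_right]

theorem hsSum_nonneg (X : E →ₗ[ℂ] E) : 0 ≤ hsSum X := by
  unfold hsSum
  apply Finset.sum_nonneg
  intro i _
  positivity

theorem hsSum_eq_zero {X : E →ₗ[ℂ] E} (h : hsSum X = 0) : X = 0 := by
  unfold hsSum at h
  have h1 := (Finset.sum_eq_zero_iff_of_nonneg (fun i _ => by positivity)).mp h
  apply (stdOrthonormalBasis ℂ E).toBasis.ext
  intro i
  have h2 := h1 i (Finset.mem_univ i)
  rw [OrthonormalBasis.coe_toBasis, LinearMap.zero_apply]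
  exact norm_eq_zero.mp ((pow_eq_zero_iff (two_ne_zero)).mp h2)

theorem hsSum_neg (X : E →ₗ[ℂ] E) : hsSum (-X) = hsSum X := by
  unfold hsSum
  apply Finset.sum_congr rfl
  intro i _
  rw [LinearMap.neg_apply, norm_neg]

/-- invariance under left multiplication by an isometry -/
theorem hsSum_isometry_comp (u X : E →ₗ[ℂ] E) (hu : ∀ x, ‖u x‖ = ‖x‖) :
    hsSum (u ∘ₗ X) = hsSum X := by
  unfold hsSum
  apply Finset.sum_congr rfl
  intro i _
  rw [LinearMap.comp_apply, hu]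

/-- invariance under right multiplication by an isometry -/
theorem hsSum_comp_isometry (u X : E →ₗ[ℂ] E) (hu : ∀ x, ‖u x‖ = ‖x‖) :
    hsSum (X ∘ₗ u) = hsSum X := by
  let li : E →ₗᵢ[ℂ] E := ⟨u, hu⟩
  let L : E ≃ₗᵢ[ℂ] E := li.toLinearIsometryEquiv rfl
  let f : OrthonormalBasis (Fin (finrank ℂ E)) ℂ E := (stdOrthonormalBasis ℂ E).map L
  have hf : ∀ i, f i = u (stdOrthonormalBasis ℂ E i) := by
    intro i
    simp [f, L, li]
  rw [hsSum_eq f X]
  unfold hsSum
  apply Finset.sum_congr rfl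
  intro i _
  rw [hf, LinearMap.comp_apply]

end Cfsg.Agent.Helper6
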