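import Mathlib
import Cfsg.Agent.Helper6.JordanA

/-!
# Orthonormal eigenbases for diagonalisable unitary operators with spectrum in the right half plane
-/

set_option autoImplicit false
set_option linter.style.haveILetI false

namespace Cfsg.Agent.Helper6

open Module
open scoped InnerProductSpace

variable {E : Type*} [NormedAddCommGroup E] [InnerProductSpace ℂ E]

/-- coefficients of an eigenvector with respect to an eigenbasis -/
theorem eigen_coeff {ι : Type*} [Fintype ι] (b : Basis ι ℂ E) (T : E →ₗ[ℂ] E) (τ : ι → ℂ)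
    (hT : ∀ k, T (b k) = τ k • b k) (v : E) (t : ℂ) (hv : T v = t • v) (k : ι)
    (hk : b.repr v k ≠ 0) : τ k = t := by
  have h1 : T v = ∑ j, (b.repr v j * τ j) • b j := by
    conv_lhs => rw [← b.sum_repr v]
    rw [map_sum]
    apply Finset.sum_congr rfl
    intro j _
    rw [map_smul, hT, smul_smul]
  have h2 : t • v = ∑ j, (t * b.repr v j) • b j := by
    conv_lhs => rw [← b.sum_repr v]
    rw [Finset.smul_sum]
    apply Finset.sum_congr rfl
    intro j _
    rw [smul_smul]
  rw [h1, h2] at hv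
  have h3 := congrArg (fun x => b.repr x k) hv
  simp only [Basis.repr_sum_self] at h3
  have h4 : b.repr v k * (τ k - t) = 0 := by
    rw [mul_sub, h3]
    ring
  rcases mul_eq_zero.mp h4 with h5 | h5
  · exact absurd h5 hk
  · exact sub_eq_zero.mp h5

theorem norm_eigenvalue_of_isometry (u : E →ₗ[ℂ] E) (hu : ∀ x y, ⟪u x, u y⟫_ℂ = ⟪x, y⟫_ℂ)
    {v : E} (hv : v ≠ 0) {μ : ℂ} (h : u v = μ • v) : ‖μ‖ = 1 := by
  have h1 : ‖u v‖ = ‖v‖ := by
    have := hu v v
    rw [inner_self_eq_norm_sq_to_K, inner_self_eq_norm_sq_to_K] at this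
    have h2 : ‖u v‖ ^ 2 = ‖v‖ ^ 2 := by exact_mod_cast this
    exact (sq_eq_sq₀ (norm_nonneg _) (norm_nonneg _)).mp h2
  rw [h, norm_smul] at h1
  have hv' : ‖v‖ ≠ 0 := norm_ne_zero_iff.mpr hv
  exact mul_right_cancel₀ hv' (by rw [h1, one_mul])

variable [FiniteDimensional ℂ E]

/-- a unitary operator with an eigenbasis whose eigenvalues have positive real part has an
orthonormal eigenbasis -/
theorem exists_orthonormal_eigenbasis (u : E →ₗ[ℂ] E) (hu : ∀ x y, ⟪u x, u y⟫_ℂ = ⟪x, y⟫_ℂ)
    {ι : Type*} [Fintype ι] (b : Basis ι ℂ E) (μ : ι → ℂ) (hb : ∀ k, u (b k) = μ k • b k)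
    (hpos : ∀ k, 0 < (μ k).re) :
    ∃ (f : OrthonormalBasis (Fin (finrank ℂ E)) ℂ E) (β : Fin (finrank ℂ E) → ℂ),
      (∀ i, u (f i) = β i • f i) ∧ ∀ i, ∃ k, β i = μ k := by
  classical
  have hμn : ∀ k, ‖μ k‖ = 1 := fun k => norm_eigenvalue_of_isometry u hu (b.ne_zero k) (hb k)
  have hμ0 : ∀ k, μ k ≠ 0 := fun k h => by
    have := hμn k
    rw [h, norm_zero] at this
    exact zero_ne_one this
  set w := LinearMap.adjoint u with hw
  have hwu : ∀ x, w (u x) = x := by
    intro x
    apply ext_inner_right ℂ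
    intro y
    rw [hw, LinearMap.adjoint_inner_left, hu]
  have hwb : ∀ k, w (b k) = (μ k)⁻¹ • b k := by
    intro k
    have h1 : b k = (μ k)⁻¹ • u (b k) := by
      rw [hb, smul_smul, inv_mul_cancel₀ (hμ0 k), one_smul]
    conv_lhs => rw [h1]
    rw [map_smul, hwu]
  set T : E →ₗ[ℂ] E := Complex.I • (u - w) with hT
  have hTsym : T.IsSymmetric := by
    intro x y
    rw [hT, LinearMap.smul_apply, LinearMap.smul_apply, LinearMap.sub_apply,
      LinearMap.sub_apply, inner_smul_left, inner_smul_right, inner_sub_left, inner_sub_right,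
      hw, LinearMap.adjoint_inner_left, ← LinearMap.adjoint_inner_right u x y]
    simp only [Complex.conj_I]
    ring
  set τ : ι → ℂ := fun k => Complex.I * (μ k - (μ k)⁻¹) with hτ
  have hTb : ∀ k, T (b k) = τ k • b k := by
    intro k
    rw [hT, LinearMap.smul_apply, LinearMap.sub_apply, hb, hwb, ← sub_smul, smul_smul]
  have hsep : ∀ k l, τ k = τ l → μ k = μ l := by
    intro k l hkl
    have h1 : μ k - (μ k)⁻¹ = μ l - (μ l)⁻¹ := by
      have hI : Complex.I ≠ 0 := Complex.I_ne_zero
      exact mul_left_cancel₀ hI hkl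
    have hinv : ∀ j, (μ j)⁻¹ = (starRingEnd ℂ) (μ j) := by
      intro j
      exact Complex.inv_eq_conj (hμn j)
    rw [hinv k, hinv l] at h1
    have him : (μ k).im = (μ l).im := by
      have h2 := congrArg Complex.im h1
      simp only [Complex.sub_im, Complex.conj_im] at h2
      linarith
    have hsq : ∀ j, (μ j).re * (μ j).re + (μ j).im * (μ j).im = 1 := by
      intro j
      have h3 : ‖μ j‖ ^ 2 = 1 := by rw [hμn j]; norm_num
      rw [Complex.sq_norm, Complex.normSq_apply] at h3
      exact h3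
    have hre : (μ k).re = (μ l).re := by
      have h4 := hsq k
      have h5 := hsq l
      rw [him] at h4
      have h6 : ((μ k).re - (μ l).re) * ((μ k).re + (μ l).re) = 0 := by
        nlinarith
      rcases mul_eq_zero.mp h6 with h7 | h7
      · linarith
      · have := hpos k
        have := hpos l
        linarith
    exact Complex.ext hre him
  have hn : finrank ℂ E = finrank ℂ E := rfl
  set f := hTsym.eigenvectorBasis hn with hf
  have hfT : ∀ i, T (f i) = ((hTsym.eigenvalues hn i : ℝ) : ℂ) • f i :=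
    fun i => hTsym.apply_eigenvectorBasis hn i
  have hex : ∀ i, ∃ k, b.repr (f i) k ≠ 0 := by
    intro i
    by_contra hcon
    push Not at hcon
    have h0 : f i = 0 := by
      rw [← b.sum_repr (f i)]
      apply Finset.sum_eq_zero
      intro k _
      rw [hcon k, zero_smul]
    have h1 := f.orthonormal.ne_zero i
    exact h1 h0
  choose k₀ hk₀ using hex
  refine ⟨f, fun i => μ (k₀ i), ?_, fun i => ⟨k₀ i, rfl⟩⟩
  intro i
  have hτk : ∀ k, b.repr (f i) k ≠ 0 → μ k = μ (k₀ i) := by
    intro k hk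
    apply hsep
    rw [eigen_coeff b T τ hTb (f i) _ (hfT i) k hk,
      eigen_coeff b T τ hTb (f i) _ (hfT i) (k₀ i) (hk₀ i)]
  conv_lhs => rw [← b.sum_repr (f i)]
  conv_rhs => rw [← b.sum_repr (f i)]
  rw [map_sum, Finset.smul_sum]
  apply Finset.sum_congr rfl
  intro k _
  rw [map_smul, hb, smul_smul, smul_smul]
  by_cases hk : b.repr (f i) k = 0
  · rw [hk]
    simp
  · rw [hτk k hk, mul_comm]

end Cfsg.Agent.Helper6
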