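import Mathlib
import Cfsg.Agent.Helper6.JordanB
import Cfsg.Agent.Helper6.RepEigen

/-!
# The commutator inequality and Frobenius' lemma for unitary operators
-/

set_option autoImplicit false
set_option linter.style.haveILetI false

namespace Cfsg.Agent.Helper6

open Module
open scoped InnerProductSpace

variable {E : Type*} [NormedAddCommGroup E] [InnerProductSpace ℂ E]

theorem inner_left_eigen (u : E →ₗ[ℂ] E) (hu : ∀ x y, ⟪u x, u y⟫_ℂ = ⟪x, y⟫_ℂ) {w : E} {β : ℂ}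
    (hw : u w = β • w) (hβ : ‖β‖ = 1) (y : E) : ⟪w, u y⟫_ℂ = β * ⟪w, y⟫_ℂ := by
  have hβ0 : β ≠ 0 := by
    intro h
    rw [h, norm_zero] at hβ
    exact zero_ne_one hβ
  have h1 : w = β⁻¹ • u w := by
    rw [hw, smul_smul, inv_mul_cancel₀ hβ0, one_smul]
  conv_lhs => rw [h1]
  rw [inner_smul_left, hu, Complex.inv_eq_conj hβ]
  simp

variable [FiniteDimensional ℂ E]

/-- the commutator inequality -/
theorem hsSum_commutator_le (u X : E →ₗ[ℂ] E) (hu : ∀ x y, ⟪u x, u y⟫_ℂ = ⟪x, y⟫_ℂ)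
    {n : ℕ} (f : OrthonormalBasis (Fin n) ℂ E) (β : Fin n → ℂ) (hf : ∀ i, u (f i) = β i • f i)
    (c : ℝ) (hc : ∀ i j, ‖β j - β i‖ ^ 2 ≤ c) :
    hsSum (u ∘ₗ X - X ∘ₗ u) ≤ c * hsSum X := by
  have hβn : ∀ i, ‖β i‖ = 1 := fun i =>
    norm_eigenvalue_of_isometry u hu (f.orthonormal.ne_zero i) (hf i)
  rw [hsSum_eq_entries f, hsSum_eq_entries f, Finset.mul_sum]
  apply Finset.sum_le_sum
  intro i _
  rw [Finset.mul_sum]
  apply Finset.sum_le_sum
  intro j _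
  have h1 : ⟪f j, (u ∘ₗ X - X ∘ₗ u) (f i)⟫_ℂ = (β j - β i) * ⟪f j, X (f i)⟫_ℂ := by
    rw [LinearMap.sub_apply, LinearMap.comp_apply, LinearMap.comp_apply, inner_sub_right,
      inner_left_eigen u hu (hf j) (hβn j), hf i, map_smul, inner_smul_right]
    ring
  rw [h1, norm_mul, mul_pow]
  exact mul_le_mul_of_nonneg_right (hc i j) (by positivity)

/-- positivity of the numerical range -/
theorem re_inner_pos (u : E →ₗ[ℂ] E) (hu : ∀ x y, ⟪u x, u y⟫_ℂ = ⟪x, y⟫_ℂ)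
    {n : ℕ} (f : OrthonormalBasis (Fin n) ℂ E) (β : Fin n → ℂ) (hf : ∀ i, u (f i) = β i • f i)
    (hpos : ∀ i, 0 < (β i).re) (v : E) (hv : v ≠ 0) : 0 < (⟪v, u v⟫_ℂ).re := by
  have hβn : ∀ i, ‖β i‖ = 1 := fun i =>
    norm_eigenvalue_of_isometry u hu (f.orthonormal.ne_zero i) (hf i)
  have h1 : ⟪v, u v⟫_ℂ = ∑ i, β i * ((‖⟪f i, v⟫_ℂ‖ ^ 2 : ℝ) : ℂ) := by
    rw [← f.sum_inner_mul_inner v (u v)]
    apply Finset.sum_congr rfl
    intro i _
    rw [inner_left_eigen u hu (hf i) (hβn i), ← inner_conj_symm v (f i)]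
    rw [mul_comm ((starRingEnd ℂ) ⟪f i, v⟫_ℂ), mul_assoc, Complex.mul_conj]
    push_cast
    rw [Complex.normSq_eq_norm_sq]
    push_cast
    rfl
  rw [h1, Complex.re_sum]
  have h2 : ∀ i, (β i * ((‖⟪f i, v⟫_ℂ‖ ^ 2 : ℝ) : ℂ)).re = (β i).re * ‖⟪f i, v⟫_ℂ‖ ^ 2 := by
    intro i
    rw [Complex.re_mul_ofReal]
  simp_rw [h2]
  have h3 : ∃ i, ⟪f i, v⟫_ℂ ≠ 0 := by
    by_contra hcon
    push Not at hcon
    apply hv
    rw [← f.sum_repr' v]
    apply Finset.sum_eq_zero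
    intro i _
    rw [hcon i, zero_smul]
  obtain ⟨i₀, hi₀⟩ := h3
  apply Finset.sum_pos'
  · intro i _
    exact mul_nonneg (hpos i).le (by positivity)
  · exact ⟨i₀, Finset.mem_univ _, mul_pos (hpos i₀) (by positivity)⟩

/-- **Frobenius' lemma**: if `a` commutes with `[a, b]` and the numerical range of `b` avoids `0`
then `a` and `b` commute -/
theorem frobenius_commute {G : Type*} [Group G] [Finite G] (ρ : Representation ℂ G E)
    (hunit : ∀ g x y, ⟪ρ g x, ρ g y⟫_ℂ = ⟪x, y⟫_ℂ) (a b : G)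
    (hcomm : a * (a * b * a⁻¹ * b⁻¹) = (a * b * a⁻¹ * b⁻¹) * a)
    (hb : ∀ v : E, v ≠ 0 → 0 < (⟪v, ρ b v⟫_ℂ).re) :
    ρ (a * b * a⁻¹ * b⁻¹) = 1 := by
  classical
  set c := a * b * a⁻¹ * b⁻¹ with hc
  obtain ⟨ι, hι, bc, γ, h1, h2, -⟩ := exists_eigenbasis_rep ρ c
  by_contra hne
  have hex : ∃ k, γ k ≠ 1 := by
    by_contra hcon
    push Not at hcon
    apply hne
    apply bc.ext
    intro k
    rw [h1 k, hcon k, one_smul]
    rfl
  obtain ⟨k, hk⟩ := hex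
  set W := Module.End.eigenspace (ρ c) (γ k) with hW
  have hmaps : ∀ x ∈ W, ρ a x ∈ W := by
    intro x hx
    rw [hW, Module.End.mem_eigenspace_iff] at hx ⊢
    have h3 : ρ c (ρ a x) = ρ a (ρ c x) := by
      have h4 : ρ c * ρ a = ρ a * ρ c := by
        rw [← map_mul, ← map_mul, hcomm]
      exact congrFun (congrArg DFunLike.coe h4) x
    rw [h3, hx, map_smul]
  have hbk : bc k ∈ W := by
    rw [hW, Module.End.mem_eigenspace_iff]
    exact h1 k
  haveI : Nontrivial W := ⟨⟨⟨bc k, hbk⟩, 0, fun h => bc.ne_zero k (congrArg Subtype.val h)⟩⟩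
  obtain ⟨α, hα⟩ := Module.End.exists_eigenvalue ((ρ a).restrict hmaps)
  obtain ⟨v', hv'⟩ := hα.exists_hasEigenvector
  have hv'0 : (v' : E) ≠ 0 := fun h => hv'.2 (Subtype.ext h)
  have hav : ρ a (v' : E) = α • (v' : E) := by
    have := Module.End.mem_eigenspace_iff.mp hv'.1
    exact congrArg Subtype.val this
  have hcv : ρ c (v' : E) = γ k • (v' : E) := Module.End.mem_eigenspace_iff.mp v'.2
  set v : E := (v' : E) with hv
  have hαn : ‖α‖ = 1 := norm_eigenvalue_of_isometry (ρ a) (hunit a) hv'0 hav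
  have hγn : ‖γ k‖ = 1 := norm_eigenvalue_of_isometry (ρ c) (hunit c) hv'0 hcv
  have hα0 : α ≠ 0 := by
    intro h
    rw [h, norm_zero] at hαn
    exact zero_ne_one hαn
  have hainv : ρ a⁻¹ v = α⁻¹ • v := by
    have h3 : ρ a⁻¹ (ρ a v) = v := by
      rw [← Module.End.mul_apply, ← map_mul, inv_mul_cancel, map_one]
      rfl
    rw [hav, map_smul] at h3
    have h3' : α⁻¹ • (α • (ρ a⁻¹) v) = α⁻¹ • v := by rw [h3]
    rw [smul_smul, inv_mul_cancel₀ hα0, one_smul] at h3'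
    exact h3'
  have hid : ρ (a * b * a⁻¹) = ρ (c * b) := by
    congr 1
    rw [hc]
    group
  have hL : ⟪v, ρ (a * b * a⁻¹) v⟫_ℂ = ⟪v, ρ b v⟫_ℂ := by
    rw [map_mul, map_mul, Module.End.mul_apply, Module.End.mul_apply, hainv, map_smul, map_smul,
      inner_smul_right, inner_left_eigen (ρ a) (hunit a) hav hαn]
    rw [← mul_assoc, inv_mul_cancel₀ hα0, one_mul]
  have hR : ⟪v, ρ (c * b) v⟫_ℂ = γ k * ⟪v, ρ b v⟫_ℂ := by
    rw [map_mul, Module.End.mul_apply, inner_left_eigen (ρ c) (hunit c) hcv hγn]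
  rw [hid, hR] at hL
  have h4 : (γ k - 1) * ⟪v, ρ b v⟫_ℂ = 0 := by
    rw [sub_mul, hL, one_mul, sub_self]
  rcases mul_eq_zero.mp h4 with h5 | h5
  · exact hk (sub_eq_zero.mp h5)
  · have := hb v hv'0
    rw [h5] at this
    simp at this

end Cfsg.Agent.Helper6
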