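import Mathlib
import Cfsg.Agent.Helper6.JordanC

/-!
# Elements close to the identity in a finite unitary group commute
-/

set_option autoImplicit false
set_option linter.style.haveILetI false
set_option linter.unusedSectionVars false

namespace Cfsg.Agent.Helper6

open Module
open scoped InnerProductSpace

variable {E : Type*} [NormedAddCommGroup E] [InnerProductSpace ℂ E]
variable {G : Type*} [Group G]

/-- all eigenvalues of `ρ g` have real part exceeding `√3 / 2` -/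
def NearOne (ρ : Representation ℂ G E) (g : G) : Prop :=
  ∀ (v : E) (μ : ℂ), v ≠ 0 → ρ g v = μ • v → Real.sqrt 3 / 2 < μ.re

theorem sqrt_three_div_two_lt_one : Real.sqrt 3 / 2 < 1 := by
  have h1 : Real.sqrt 3 < 2 := by
    rw [Real.sqrt_lt' (by norm_num)]
    norm_num
  linarith

theorem sqrt_three_div_two_pos : 0 < Real.sqrt 3 / 2 := by
  have : 0 < Real.sqrt 3 := Real.sqrt_pos.mpr (by norm_num)
  linarith

theorem sqrt_three_div_two_sq : (Real.sqrt 3 / 2) ^ 2 = 3 / 4 := by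
  rw [div_pow, Real.sq_sqrt (by norm_num)]
  norm_num

theorem nearOne_one (ρ : Representation ℂ G E) : NearOne ρ 1 := by
  intro v μ hv h
  rw [map_one, Module.End.one_apply] at h
  have h1 : (μ - 1) • v = 0 := by
    rw [sub_smul, one_smul, ← h, sub_self]
  rcases smul_eq_zero.mp h1 with h2 | h2
  · have : μ = 1 := sub_eq_zero.mp h2
    rw [this, Complex.one_re]
    exact sqrt_three_div_two_lt_one
  · exact absurd h2 hv

theorem rep_inv_apply_apply (ρ : Representation ℂ G E) (h : G) (v : E) :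
    ρ h⁻¹ (ρ h v) = v := by
  rw [← Module.End.mul_apply, ← map_mul, inv_mul_cancel, map_one, Module.End.one_apply]

theorem rep_apply_inv_apply (ρ : Representation ℂ G E) (h : G) (v : E) :
    ρ h (ρ h⁻¹ v) = v := by
  rw [← Module.End.mul_apply, ← map_mul, mul_inv_cancel, map_one, Module.End.one_apply]

theorem nearOne_conj (ρ : Representation ℂ G E) {g : G} (hg : NearOne ρ g) (h : G) :
    NearOne ρ (h * g * h⁻¹) := by
  intro v μ hv hev
  apply hg (ρ h⁻¹ v) μ
  · intro h0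
    apply hv
    rw [← rep_apply_inv_apply ρ h v, h0, map_zero]
  · have h1 : ρ h⁻¹ (ρ (h * g * h⁻¹) v) = ρ g (ρ h⁻¹ v) := by
      rw [← Module.End.mul_apply, ← Module.End.mul_apply, ← map_mul, ← map_mul]
      congr 2
      group
    rw [← h1, hev, map_smul]

/-- two unit complex numbers with real part exceeding `√3/2` are at distance less than one -/
theorem norm_sub_sq_lt_one {β β' : ℂ} (h1 : ‖β‖ = 1) (h2 : ‖β'‖ = 1)
    (h3 : Real.sqrt 3 / 2 < β.re) (h4 : Real.sqrt 3 / 2 < β'.re) : ‖β - β'‖ ^ 2 < 1 := by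
  have hs := sqrt_three_div_two_sq
  have hs0 := sqrt_three_div_two_pos
  set s := Real.sqrt 3 / 2 with hsdef
  have e1 : β.re ^ 2 + β.im ^ 2 = 1 := by
    have := Complex.sq_norm β
    rw [h1, Complex.normSq_apply] at this
    nlinarith
  have e2 : β'.re ^ 2 + β'.im ^ 2 = 1 := by
    have := Complex.sq_norm β'
    rw [h2, Complex.normSq_apply] at this
    nlinarith
  have e3 : ‖β - β'‖ ^ 2 = (β.re - β'.re) ^ 2 + (β.im - β'.im) ^ 2 := by
    rw [Complex.sq_norm, Complex.normSq_apply, Complex.sub_re, Complex.sub_im]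
    ring
  rw [e3]
  have e4 : s * s < β.re * β'.re := mul_lt_mul'' h3 h4 hs0.le hs0.le
  have e5 : s ^ 2 < β.re ^ 2 := pow_lt_pow_left₀ h3 hs0.le two_ne_zero
  have e6 : s ^ 2 < β'.re ^ 2 := pow_lt_pow_left₀ h4 hs0.le two_ne_zero
  nlinarith [sq_nonneg (β.im + β'.im)]

variable [FiniteDimensional ℂ E] [Finite G]

/-- orthonormal eigenbasis for elements close to the identity -/
theorem exists_onb_of_nearOne (ρ : Representation ℂ G E)
    (hunit : ∀ g x y, ⟪ρ g x, ρ g y⟫_ℂ = ⟪x, y⟫_ℂ) {g : G} (hg : NearOne ρ g) :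
    ∃ (f : OrthonormalBasis (Fin (finrank ℂ E)) ℂ E) (β : Fin (finrank ℂ E) → ℂ),
      (∀ i, ρ g (f i) = β i • f i) ∧ (∀ i, Real.sqrt 3 / 2 < (β i).re) ∧ ∀ i, ‖β i‖ = 1 := by
  obtain ⟨ι, hι, b, μ, h1, -, -⟩ := exists_eigenbasis_rep ρ g
  have hμ : ∀ k, Real.sqrt 3 / 2 < (μ k).re := fun k => hg (b k) (μ k) (b.ne_zero k) (h1 k)
  obtain ⟨f, β, hf, hβ⟩ := exists_orthonormal_eigenbasis (ρ g) (hunit g) b μ h1
    (fun k => lt_trans sqrt_three_div_two_pos (hμ k))
  refine ⟨f, β, hf, ?_, ?_⟩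
  · intro i
    obtain ⟨k, hk⟩ := hβ i
    rw [hk]
    exact hμ k
  · intro i
    exact norm_eigenvalue_of_isometry (ρ g) (hunit g) (f.orthonormal.ne_zero i) (hf i)

theorem norm_rep_apply (ρ : Representation ℂ G E)
    (hunit : ∀ g x y, ⟪ρ g x, ρ g y⟫_ℂ = ⟪x, y⟫_ℂ) (g : G) (x : E) : ‖ρ g x‖ = ‖x‖ := by
  have := hunit g x x
  rw [inner_self_eq_norm_sq_to_K, inner_self_eq_norm_sq_to_K] at this
  have h2 : ‖ρ g x‖ ^ 2 = ‖x‖ ^ 2 := by exact_mod_cast this
  exact (sq_eq_sq₀ (norm_nonneg _) (norm_nonneg _)).mp h2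

/-- any two elements close to the identity commute -/
theorem nearOne_commute (ρ : Representation ℂ G E)
    (hunit : ∀ g x y, ⟪ρ g x, ρ g y⟫_ℂ = ⟪x, y⟫_ℂ) (hinj : Function.Injective ρ)
    {a b : G} (ha : NearOne ρ a) (hb : NearOne ρ b) : a * b = b * a := by
  classical
  by_contra hab
  let T := {p : G × G // NearOne ρ p.1 ∧ NearOne ρ p.2 ∧ p.1 * p.2 ≠ p.2 * p.1}
  haveI : Nonempty T := ⟨⟨(a, b), ha, hb, hab⟩⟩
  haveI : Finite T := Subtype.finite
  obtain ⟨⟨⟨a₀, b₀⟩, ha₀, hb₀, hne⟩, hmin⟩ :=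
    Finite.exists_min (fun p : T => hsSum (ρ p.1.1 - ρ p.1.2))
  simp only at ha₀ hb₀ hne hmin
  obtain ⟨f, β, hf, hβ, hβn⟩ := exists_onb_of_nearOne ρ hunit hb₀
  -- the contraction constant
  obtain ⟨c, hc0, hc1, hc⟩ : ∃ c : ℝ, 0 ≤ c ∧ c < 1 ∧ ∀ i j, ‖β j - β i‖ ^ 2 ≤ c := by
    let F : Option (Fin (finrank ℂ E) × Fin (finrank ℂ E)) → ℝ := fun o =>
      match o with
      | none => 0
      | some p => ‖β p.2 - β p.1‖ ^ 2
    obtain ⟨o, ho⟩ := Finite.exists_max F
    refine ⟨F o, ?_, ?_, ?_⟩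
    · exact ho none
    · cases o with
      | none => exact zero_lt_one
      | some p => exact norm_sub_sq_lt_one (hβn _) (hβn _) (hβ _) (hβ _)
    · intro i j
      exact ho (some (i, j))
  have hd : 0 < hsSum (ρ a₀ - ρ b₀) := by
    rcases (hsSum_nonneg (ρ a₀ - ρ b₀)).lt_or_eq with h | h
    · exact h
    · exfalso
      have h1 := hsSum_eq_zero h.symm
      have h2 : a₀ = b₀ := hinj (sub_eq_zero.mp h1)
      apply hne
      rw [h2]
  set b' := b₀ * a₀ * b₀⁻¹ with hb'def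
  have hb' : NearOne ρ b' := nearOne_conj ρ ha₀ b₀
  have hlt : hsSum (ρ a₀ - ρ b') < hsSum (ρ a₀ - ρ b₀) := by
    have e0 : ρ b' * ρ b₀ = ρ b₀ * ρ a₀ := by
      rw [← map_mul, ← map_mul]
      congr 1
      rw [hb'def]
      group
    have e1 : (ρ a₀ - ρ b') * ρ b₀ = -(ρ b₀ * (ρ a₀ - ρ b₀) - (ρ a₀ - ρ b₀) * ρ b₀) := by
      rw [sub_mul, e0]
      noncomm_ring
    have e2 : hsSum (ρ a₀ - ρ b') = hsSum ((ρ a₀ - ρ b') * ρ b₀) :=
      (hsSum_comp_isometry (ρ b₀) (ρ a₀ - ρ b') (norm_rep_apply ρ hunit b₀)).symm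
    rw [e2, e1, hsSum_neg]
    have e3 : hsSum (ρ b₀ * (ρ a₀ - ρ b₀) - (ρ a₀ - ρ b₀) * ρ b₀) ≤ c * hsSum (ρ a₀ - ρ b₀) :=
      hsSum_commutator_le (ρ b₀) (ρ a₀ - ρ b₀) (hunit b₀) f β hf c hc
    nlinarith
  have hcomm' : a₀ * b' = b' * a₀ := by
    by_contra h
    have := hmin ⟨(a₀, b'), ha₀, hb', h⟩
    exact absurd hlt (not_lt.mpr this)
  have hc1' : Commute a₀ b' := hcomm'
  have hc2 : Commute a₀ (a₀ * b'⁻¹) := (Commute.refl a₀).mul_right hc1'.inv_right
  have e : a₀ * b'⁻¹ = a₀ * b₀ * a₀⁻¹ * b₀⁻¹ := by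
    rw [hb'def]
    group
  rw [e] at hc2
  have h5 := frobenius_commute ρ hunit a₀ b₀ hc2.eq
    (re_inner_pos (ρ b₀) (hunit b₀) f β hf (fun i => lt_trans sqrt_three_div_two_pos (hβ i)))
  have h6 : a₀ * b₀ * a₀⁻¹ * b₀⁻¹ = 1 := hinj (by rw [h5, map_one])
  apply hne
  have h7 := mul_inv_eq_one.mp h6
  exact mul_inv_eq_iff_eq_mul.mp h7

/-- the subgroup generated by the elements close to the identity -/
def nearSub (ρ : Representation ℂ G E) : Subgroup G :=
  Subgroup.closure {g | NearOne ρ g}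

theorem nearSub_normal (ρ : Representation ℂ G E) : (nearSub ρ).Normal := by
  constructor
  intro n hn g
  unfold nearSub at hn ⊢
  induction hn using Subgroup.closure_induction with
  | mem x hx => exact Subgroup.subset_closure (nearOne_conj ρ hx g)
  | one => simp
  | mul x y _ _ hx hy =>
    have : g * (x * y) * g⁻¹ = (g * x * g⁻¹) * (g * y * g⁻¹) := by group
    rw [this]
    exact mul_mem hx hy
  | inv x _ hx =>
    have : g * x⁻¹ * g⁻¹ = (g * x * g⁻¹)⁻¹ := by group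
    rw [this]
    exact inv_mem hx

theorem nearSub_comm (ρ : Representation ℂ G E)
    (hunit : ∀ g x y, ⟪ρ g x, ρ g y⟫_ℂ = ⟪x, y⟫_ℂ) (hinj : Function.Injective ρ) :
    ∀ x ∈ nearSub ρ, ∀ y ∈ nearSub ρ, x * y = y * x := by
  intro x hx y hy
  have hle : nearSub ρ ≤ Subgroup.centralizer ((nearSub ρ : Subgroup G) : Set G) := by
    unfold nearSub
    rw [Subgroup.closure_le]
    intro a ha
    rw [SetLike.mem_coe, Subgroup.mem_centralizer_iff]
    intro z hz
    have hle2 : Subgroup.closure {g | NearOne ρ g} ≤ Subgroup.centralizer {a} := by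
      rw [Subgroup.closure_le]
      intro b hb
      rw [SetLike.mem_coe, Subgroup.mem_centralizer_iff]
      intro a' ha'
      rw [Set.mem_singleton_iff] at ha'
      rw [ha']
      exact nearOne_commute ρ hunit hinj ha hb
    have := Subgroup.mem_centralizer_iff.mp (hle2 hz) a (Set.mem_singleton a)
    exact this.symm
  have := Subgroup.mem_centralizer_iff.mp (hle hx) y hy
  exact this.symm

end Cfsg.Agent.Helper6
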