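import Mathlib
import Cfsg.Agent.Helper6.JordanD

/-!
# Abelian subgroups of finite unitary groups: joint eigenbases and the pigeonhole argument
-/

set_option autoImplicit false
set_option linter.style.haveILetI false
set_option linter.unusedSectionVars false

namespace Cfsg.Agent.Helper6

open Module Polynomial
open scoped InnerProductSpace

/-- a representation of a finite abelian group has a basis of joint eigenvectors -/
theorem exists_joint_eigenbasis {K : Type*} [Group K] [Finite K] (hK : ∀ a b : K, a * b = b * a)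
    {E : Type*} [AddCommGroup E] [Module ℂ E] [FiniteDimensional ℂ E]
    (σ : Representation ℂ K E) :
    ∃ (s : Set E) (b : Basis s ℂ E) (lam : s → K → ℂ), ∀ k j, σ k (b j) = lam j k • b j := by
  have hss : ∀ k, Module.End.IsSemisimple (σ k) := by
    intro k
    apply Module.End.isSemisimple_of_squarefree_aeval_eq_zero (p := (X ^ orderOf k - C 1 : ℂ[X]))
    · exact (Polynomial.separable_X_pow_sub_C (1 : ℂ)
        (by exact_mod_cast (orderOf_pos k).ne') one_ne_zero).squarefree
    · rw [map_sub, map_pow, aeval_X, aeval_C, ← map_pow, pow_orderOf_eq_one, map_one, map_one,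
        sub_self]
  have htop :=
    Module.End.iSup_iInf_maxGenEigenspace_eq_top_of_iSup_maxGenEigenspace_eq_top_of_commute
      (fun k => σ k)
      (fun i j _ => by
        show σ i * σ j = σ j * σ i
        rw [← map_mul, ← map_mul, hK])
      (fun k => Module.End.iSup_maxGenEigenspace_eq_top (σ k))
  set S : Set E := {v | ∀ k, ∃ μ : ℂ, σ k v = μ • v} with hS
  have hspan : ⊤ ≤ Submodule.span ℂ S := by
    rw [← htop]
    apply iSup_le
    intro χ v hv
    apply Submodule.subset_span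
    intro k
    refine ⟨χ k, ?_⟩
    have hv' : v ∈ Module.End.maxGenEigenspace (σ k) (χ k) := (Submodule.mem_iInf _).mp hv k
    rw [(hss k).isFinitelySemisimple.maxGenEigenspace_eq_eigenspace] at hv'
    exact Module.End.mem_eigenspace_iff.mp hv'
  have hj : ∀ j, Basis.ofSpan hspan j ∈ S := fun j => Basis.ofSpan_subset hspan ⟨j, rfl⟩
  choose lam hlam using fun j k => hj j k
  exact ⟨_, Basis.ofSpan hspan, lam, fun k j => hlam j k⟩

/-- the box (among twelve arcs of the circle) containing the argument of `z` -/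
noncomputable def argBox (z : ℂ) : ℕ := ⌈(Complex.arg z + Real.pi) * 6 / Real.pi⌉₊ - 1

theorem argBox_aux (z : ℂ) : 0 < (Complex.arg z + Real.pi) * 6 / Real.pi ∧
    (Complex.arg z + Real.pi) * 6 / Real.pi ≤ 12 := by
  have hpi := Real.pi_pos
  have h1 := Complex.neg_pi_lt_arg z
  have h2 := Complex.arg_le_pi z
  constructor
  · apply div_pos _ hpi
    nlinarith
  · rw [div_le_iff₀ hpi]
    nlinarith

theorem argBox_lt (z : ℂ) : argBox z < 12 := by
  unfold argBox
  obtain ⟨h1, h2⟩ := argBox_aux z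
  have h3 : ⌈(Complex.arg z + Real.pi) * 6 / Real.pi⌉₊ ≤ 12 := by
    apply Nat.ceil_le.mpr
    exact_mod_cast h2
  have h4 : 0 < ⌈(Complex.arg z + Real.pi) * 6 / Real.pi⌉₊ := Nat.ceil_pos.mpr h1
  omega

theorem abs_arg_sub_lt_of_argBox_eq {z w : ℂ} (h : argBox z = argBox w) :
    |Complex.arg z - Complex.arg w| < Real.pi / 6 := by
  have hpi := Real.pi_pos
  unfold argBox at h
  obtain ⟨h1, -⟩ := argBox_aux z
  obtain ⟨h1', -⟩ := argBox_aux w
  set t := (Complex.arg z + Real.pi) * 6 / Real.pi with ht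
  set t' := (Complex.arg w + Real.pi) * 6 / Real.pi with ht'
  have h4 : 0 < ⌈t⌉₊ := Nat.ceil_pos.mpr h1
  have h4' : 0 < ⌈t'⌉₊ := Nat.ceil_pos.mpr h1'
  have h5 : ⌈t⌉₊ = ⌈t'⌉₊ := by omega
  have h6 : ((⌈t⌉₊ - 1 : ℕ) : ℝ) < t := Nat.lt_ceil.mp (by omega)
  have h6' : ((⌈t'⌉₊ - 1 : ℕ) : ℝ) < t' := Nat.lt_ceil.mp (by omega)
  have h7 : t ≤ (⌈t⌉₊ : ℝ) := Nat.le_ceil t
  have h7' : t' ≤ (⌈t'⌉₊ : ℝ) := Nat.le_ceil t'
  have h8 : ((⌈t⌉₊ - 1 : ℕ) : ℝ) = (⌈t⌉₊ : ℝ) - 1 := by
    rw [Nat.cast_sub h4]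
    simp
  have h8' : ((⌈t'⌉₊ - 1 : ℕ) : ℝ) = (⌈t'⌉₊ : ℝ) - 1 := by
    rw [Nat.cast_sub h4']
    simp
  rw [h8] at h6
  rw [h8'] at h6'
  have h9 : (⌈t⌉₊ : ℝ) = (⌈t'⌉₊ : ℝ) := by rw [h5]
  have h10 : |t - t'| < 1 := by
    rw [abs_lt]
    constructor <;> linarith
  have h11 : t - t' = (Complex.arg z - Complex.arg w) * (6 / Real.pi) := by
    rw [ht, ht']
    field_simp
    ring
  rw [h11, abs_mul, abs_of_pos (div_pos (by norm_num : (0 : ℝ) < 6) hpi)] at h10
  rw [← lt_div_iff₀ (div_pos (by norm_num : (0 : ℝ) < 6) hpi)] at h10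
  calc |Complex.arg z - Complex.arg w| < 1 / (6 / Real.pi) := h10
    _ = Real.pi / 6 := by field_simp

/-- unit complex numbers whose arguments differ by less than `π/6` have quotient close to one -/
theorem re_inv_mul_gt {z w : ℂ} (hz : ‖z‖ = 1) (hw : ‖w‖ = 1)
    (h : |Complex.arg z - Complex.arg w| < Real.pi / 6) : Real.sqrt 3 / 2 < (z⁻¹ * w).re := by
  have e1 : z = Complex.exp (Complex.arg z * Complex.I) := by
    have := Complex.norm_mul_exp_arg_mul_I z
    rw [hz] at this
    simpa using this.symm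
  have e2 : w = Complex.exp (Complex.arg w * Complex.I) := by
    have := Complex.norm_mul_exp_arg_mul_I w
    rw [hw] at this
    simpa using this.symm
  have e3 : z⁻¹ * w = Complex.exp (((Complex.arg w - Complex.arg z : ℝ) : ℂ) * Complex.I) := by
    conv_lhs => rw [e1, e2]
    rw [← Complex.exp_neg, ← Complex.exp_add]
    congr 1
    push_cast
    ring
  rw [e3, Complex.exp_ofReal_mul_I_re, ← Real.cos_abs, ← Real.cos_pi_div_six, abs_sub_comm]
  apply Real.cos_lt_cos_of_nonneg_of_le_pi (abs_nonneg _) _ h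
  linarith [Real.pi_pos]

/-- bounding an index by mapping to a finite set -/
theorem index_le_of_map {H : Type*} [Group H] (K : Subgroup H) {T : Type*} [Finite T]
    (Φ : H → T) (hΦ : ∀ x y, Φ x = Φ y → x⁻¹ * y ∈ K) : K.index ≤ Nat.card T := by
  unfold Subgroup.index
  apply Nat.card_le_card_of_injective (fun q : H ⧸ K => Φ q.out)
  intro q q' h
  have h1 := hΦ _ _ h
  rw [← QuotientGroup.eq] at h1
  simpa using h1

variable {E : Type*} [NormedAddCommGroup E] [InnerProductSpace ℂ E] [FiniteDimensional ℂ E]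
variable {G : Type*} [Group G] [Finite G]

/-- **Jordan's theorem with the bound `12^n` for abelian subgroups**, abstract form -/
theorem jordan_abstract (ρ : Representation ℂ G E)
    (hunit : ∀ g x y, ⟪ρ g x, ρ g y⟫_ℂ = ⟪x, y⟫_ℂ) (hinj : Function.Injective ρ) :
    ∃ A : Subgroup G, A.Normal ∧ (∀ x ∈ A, ∀ y ∈ A, x * y = y * x) ∧
      ∀ H : Subgroup G, (∀ x ∈ H, ∀ y ∈ H, x * y = y * x) →
        (A.subgroupOf H).index ≤ 12 ^ finrank ℂ E := by
  classical
  refine ⟨nearSub ρ, nearSub_normal ρ, nearSub_comm ρ hunit hinj, ?_⟩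
  intro H hH
  let σ : Representation ℂ H E := ρ.comp H.subtype
  obtain ⟨s, b, lam, hlam⟩ := exists_joint_eigenbasis (K := H)
    (by
      intro a b
      ext
      exact hH a a.2 b b.2) σ
  haveI : Finite s := Module.Finite.finite_basis b
  haveI : Fintype s := Fintype.ofFinite s
  have hcard : Fintype.card s = finrank ℂ E := (Module.finrank_eq_card_basis b).symm
  have hlam' : ∀ (k : H) (j : s), ρ (k : G) (b j) = lam j k • b j := fun k j => hlam k j
  let Φ : H → (s → Fin 12) := fun h j => ⟨argBox (lam j h), argBox_lt _⟩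
  have key : ∀ x y : H, Φ x = Φ y → x⁻¹ * y ∈ (nearSub ρ).subgroupOf H := by
    intro x y hxy
    rw [Subgroup.mem_subgroupOf]
    apply Subgroup.subset_closure
    intro v μ hv hev
    obtain ⟨j, hj⟩ : ∃ j, b.repr v j ≠ 0 := by
      by_contra hcon
      push Not at hcon
      apply hv
      rw [← b.sum_repr v]
      apply Finset.sum_eq_zero
      intro j _
      rw [hcon j, zero_smul]
    have n1 : ‖lam j x‖ = 1 :=
      norm_eigenvalue_of_isometry (ρ x) (hunit x) (b.ne_zero j) (hlam' x j)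
    have n2 : ‖lam j y‖ = 1 :=
      norm_eigenvalue_of_isometry (ρ y) (hunit y) (b.ne_zero j) (hlam' y j)
    have hx0 : ∀ i, lam i x ≠ 0 := by
      intro i h0
      have := norm_eigenvalue_of_isometry (ρ x) (hunit x) (b.ne_zero i) (hlam' x i)
      rw [h0, norm_zero] at this
      exact zero_ne_one this
    have h1 : ∀ i, ρ ((x⁻¹ * y : H) : G) (b i) = ((lam i x)⁻¹ * lam i y) • b i := by
      intro i
      have h2 : ρ ((x : G)⁻¹) (b i) = (lam i x)⁻¹ • b i := by
        have h3 := rep_inv_apply_apply ρ (x : G) (b i)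
        rw [hlam' x i, map_smul] at h3
        have h4 : (lam i x)⁻¹ • (lam i x • ρ ((x : G)⁻¹) (b i)) = (lam i x)⁻¹ • b i := by rw [h3]
        rw [smul_smul, inv_mul_cancel₀ (hx0 i), one_smul] at h4
        exact h4
      rw [Subgroup.coe_mul, Subgroup.coe_inv, map_mul, Module.End.mul_apply, hlam' y i, map_smul,
        h2, smul_smul, mul_comm]
    have h5 := eigen_coeff b (ρ ((x⁻¹ * y : H) : G)) (fun i => (lam i x)⁻¹ * lam i y) h1 v μ hev j hj
    rw [← h5]
    apply re_inv_mul_gt n1 n2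
    apply abs_arg_sub_lt_of_argBox_eq
    have := congrFun hxy j
    exact congrArg Fin.val this
  calc ((nearSub ρ).subgroupOf H).index ≤ Nat.card (s → Fin 12) := index_le_of_map _ Φ key
    _ = 12 ^ finrank ℂ E := by
      rw [Nat.card_eq_fintype_card, Fintype.card_fun, Fintype.card_fin, hcard]

end Cfsg.Agent.Helper6
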