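import Mathlib
import Cfsg.Agent.Helper6.JordanE

/-!
# The averaged inner product and Jordan's theorem for coordinate representations
-/

set_option autoImplicit false
set_option linter.style.haveILetI false
set_option linter.unusedSectionVars false

namespace Cfsg.Agent.Helper6

open Module
open scoped InnerProductSpace ComplexConjugate

variable {G : Type*} [Group G] {n : ℕ}

/-- a copy of `Fin n → ℂ` carrying the averaged inner product -/
def AvgSp (_ρ : Representation ℂ G (Fin n → ℂ)) : Type := Fin n → ℂ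

instance avgSpAddCommGroup (ρ : Representation ℂ G (Fin n → ℂ)) : AddCommGroup (AvgSp ρ) :=
  inferInstanceAs (AddCommGroup (Fin n → ℂ))

instance avgSpModule (ρ : Representation ℂ G (Fin n → ℂ)) : Module ℂ (AvgSp ρ) :=
  inferInstanceAs (Module ℂ (Fin n → ℂ))

/-- the identification of the copy with the coordinate space -/
def avgEquiv (ρ : Representation ℂ G (Fin n → ℂ)) : AvgSp ρ ≃ₗ[ℂ] (Fin n → ℂ) :=
  LinearEquiv.refl ℂ (Fin n → ℂ)

/-- the representation on the copy -/
def avgRep (ρ : Representation ℂ G (Fin n → ℂ)) : Representation ℂ G (AvgSp ρ) := ρ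

theorem avgEquiv_avgRep (ρ : Representation ℂ G (Fin n → ℂ)) (g : G) (x : AvgSp ρ) :
    avgEquiv ρ (avgRep ρ g x) = ρ g (avgEquiv ρ x) := rfl

variable [Fintype G]

/-- the averaged inner product -/
noncomputable def avgInner (ρ : Representation ℂ G (Fin n → ℂ)) (x y : AvgSp ρ) : ℂ :=
  ∑ g : G, ∑ i : Fin n, conj (ρ g (avgEquiv ρ x) i) * ρ g (avgEquiv ρ y) i

theorem avgInner_self (ρ : Representation ℂ G (Fin n → ℂ)) (x : AvgSp ρ) :
    avgInner ρ x x =
      ((∑ g : G, ∑ i : Fin n, Complex.normSq (ρ g (avgEquiv ρ x) i) : ℝ) : ℂ) := by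
  unfold avgInner
  push_cast
  apply Finset.sum_congr rfl
  intro g _
  apply Finset.sum_congr rfl
  intro i _
  rw [Complex.normSq_eq_conj_mul_self]

noncomputable instance avgSpCore (ρ : Representation ℂ G (Fin n → ℂ)) :
    InnerProductSpace.Core ℂ (AvgSp ρ) where
  inner x y := avgInner ρ x y
  conj_inner_symm x y := by
    unfold avgInner
    rw [map_sum]
    apply Finset.sum_congr rfl
    intro g _
    rw [map_sum]
    apply Finset.sum_congr rfl
    intro i _
    rw [map_mul, Complex.conj_conj, mul_comm]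
  re_inner_nonneg x := by
    rw [avgInner_self]
    rw [RCLike.re_to_complex, Complex.ofReal_re]
    apply Finset.sum_nonneg
    intro g _
    apply Finset.sum_nonneg
    intro i _
    exact Complex.normSq_nonneg _
  add_left x y z := by
    unfold avgInner
    rw [← Finset.sum_add_distrib]
    apply Finset.sum_congr rfl
    intro g _
    rw [← Finset.sum_add_distrib]
    apply Finset.sum_congr rfl
    intro i _
    rw [map_add, map_add, Pi.add_apply, map_add, add_mul]
  smul_left x y r := by
    unfold avgInner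
    rw [Finset.mul_sum]
    apply Finset.sum_congr rfl
    intro g _
    rw [Finset.mul_sum]
    apply Finset.sum_congr rfl
    intro i _
    rw [map_smul, map_smul, Pi.smul_apply, smul_eq_mul, map_mul, mul_assoc]
  definite x h := by
    rw [avgInner_self] at h
    have h1 : (∑ g : G, ∑ i : Fin n, Complex.normSq (ρ g (avgEquiv ρ x) i)) = 0 := by
      exact_mod_cast h
    have h2 := (Finset.sum_eq_zero_iff_of_nonneg (fun g _ =>
      Finset.sum_nonneg (fun i _ => Complex.normSq_nonneg _))).mp h1 1 (Finset.mem_univ _)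
    have h3 := (Finset.sum_eq_zero_iff_of_nonneg (fun i _ => Complex.normSq_nonneg _)).mp h2
    apply (avgEquiv ρ).injective
    rw [map_zero]
    funext i
    have h4 := h3 i (Finset.mem_univ _)
    rw [map_one, Module.End.one_apply] at h4
    exact Complex.normSq_eq_zero.mp h4

noncomputable instance avgSpNormedAddCommGroup (ρ : Representation ℂ G (Fin n → ℂ)) :
    NormedAddCommGroup (AvgSp ρ) :=
  InnerProductSpace.Core.toNormedAddCommGroup (𝕜 := ℂ)

noncomputable instance avgSpInnerProductSpace (ρ : Representation ℂ G (Fin n → ℂ)) :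
    InnerProductSpace ℂ (AvgSp ρ) :=
  InnerProductSpace.ofCore _

instance avgSpFiniteDimensional (ρ : Representation ℂ G (Fin n → ℂ)) :
    FiniteDimensional ℂ (AvgSp ρ) :=
  inferInstanceAs (FiniteDimensional ℂ (Fin n → ℂ))

theorem finrank_avgSp (ρ : Representation ℂ G (Fin n → ℂ)) : finrank ℂ (AvgSp ρ) = n := by
  have := Module.finrank_fin_fun ℂ (n := n)
  exact this

theorem avg_inner_def (ρ : Representation ℂ G (Fin n → ℂ)) (x y : AvgSp ρ) :
    ⟪x, y⟫_ℂ = avgInner ρ x y := rfl

theorem avg_unit (ρ : Representation ℂ G (Fin n → ℂ)) (h : G) (x y : AvgSp ρ) :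
    ⟪avgRep ρ h x, avgRep ρ h y⟫_ℂ = ⟪x, y⟫_ℂ := by
  rw [avg_inner_def, avg_inner_def]
  unfold avgInner
  have hre := Equiv.sum_comp (Equiv.mulRight h)
    (fun g => ∑ i : Fin n, conj (ρ g (avgEquiv ρ x) i) * ρ g (avgEquiv ρ y) i)
  rw [← hre]
  apply Finset.sum_congr rfl
  intro g _
  apply Finset.sum_congr rfl
  intro i _
  rw [avgEquiv_avgRep, avgEquiv_avgRep, Equiv.coe_mulRight, map_mul, Module.End.mul_apply,
    Module.End.mul_apply]

omit [Fintype G] in
/-- **Jordan's theorem with the bound `12^n` for abelian subgroups**, for coordinate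
representations -/
theorem jordan_of_rep [Finite G] (ρ : Representation ℂ G (Fin n → ℂ))
    (hfaith : ∀ g : G, ρ.character g = ρ.character 1 → g = 1) :
    ∃ A : Subgroup G, A.Normal ∧ (∀ x ∈ A, ∀ y ∈ A, x * y = y * x) ∧
      ∀ H : Subgroup G, (∀ x ∈ H, ∀ y ∈ H, x * y = y * x) →
        (A.subgroupOf H).index ≤ 12 ^ n := by
  classical
  haveI := Fintype.ofFinite G
  have hinj : Function.Injective (avgRep ρ) := by
    intro g h hgh
    have hgh' : ρ g = ρ h := hgh
    have h1 : ρ (g * h⁻¹) = ρ 1 := by
      rw [map_mul, hgh', ← map_mul, mul_inv_cancel]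
    have h2 : ρ.character (g * h⁻¹) = ρ.character 1 := by
      unfold Representation.character
      rw [h1]
    have h3 := hfaith _ h2
    exact mul_inv_eq_one.mp h3
  have := jordan_abstract (avgRep ρ) (avg_unit ρ) hinj
  rwa [finrank_avgSp] at this

end Cfsg.Agent.Helper6
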