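import Mathlib
import Cfsg.Agent.Helper6.MGroup
import Cfsg.Agent.Helper6.IrrBasis
import Cfsg.Agent.Helper6.BlockPart
import Cfsg.Agent.Helper6.IndFun

/-!
# Nilpotent linear groups of degree `n` have an abelian subgroup of index dividing `n!`

Every irreducible character of a nilpotent group is monomial; the normal core of the inducing
subgroup has index dividing `(degree)!` and acts diagonally.
-/

set_option autoImplicit false
set_option linter.style.haveILetI false

namespace Cfsg.Agent.Helper6.JordanX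

open Cfsg.Agent.Helper6

universe u

variable {G : Type u} [Group G]

theorem indFun_lin_one [Fintype G] (H : Subgroup G) (lam : H →* ℂˣ) :
    Cfsg.indFun H (fun h => (lam h : ℂ)) 1 = (H.index : ℂ) := by
  unfold Cfsg.indFun
  have h1 : ∀ x : G, Cfsg.extendByZero H (fun h => (lam h : ℂ)) (x⁻¹ * 1 * x) = 1 := by
    intro x
    have : x⁻¹ * 1 * x = ((1 : H) : G) := by simp
    rw [this, extendByZero_coe]
    simp
  rw [Finset.sum_congr rfl (fun x _ => h1 x)]
  simp only [Finset.sum_const, Finset.card_univ, nsmul_eq_mul, mul_one]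
  rw [← Nat.card_eq_fintype_card, ← Subgroup.card_mul_index H]
  have hne : (Nat.card H : ℂ) ≠ 0 := by
    exact_mod_cast (Nat.card_pos (α := H)).ne'
  push_cast
  field_simp

theorem indFun_lin_commutator [Fintype G] (H : Subgroup G) (lam : H →* ℂˣ) (a b : G)
    (ha : a ∈ H.normalCore) (hb : b ∈ H.normalCore) :
    Cfsg.indFun H (fun h => (lam h : ℂ)) (a * b * a⁻¹ * b⁻¹) =
      Cfsg.indFun H (fun h => (lam h : ℂ)) 1 := by
  unfold Cfsg.indFun
  congr 1
  apply Finset.sum_congr rfl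
  intro x _
  have hxa : x⁻¹ * a * x ∈ H := by
    have := H.normalCore_normal.conj_mem a ha x⁻¹
    rw [inv_inv] at this
    exact H.normalCore_le this
  have hxb : x⁻¹ * b * x ∈ H := by
    have := H.normalCore_normal.conj_mem b hb x⁻¹
    rw [inv_inv] at this
    exact H.normalCore_le this
  have h1 : x⁻¹ * (a * b * a⁻¹ * b⁻¹) * x =
      (((⟨x⁻¹ * a * x, hxa⟩ : H) * ⟨x⁻¹ * b * x, hxb⟩ * (⟨x⁻¹ * a * x, hxa⟩ : H)⁻¹ *
        (⟨x⁻¹ * b * x, hxb⟩ : H)⁻¹ : H) : G) := by
    simp only [Subgroup.coe_mul, Subgroup.coe_inv]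
    group
  have h2 : x⁻¹ * 1 * x = ((1 : H) : G) := by simp
  rw [h1, h2, extendByZero_coe, extendByZero_coe]
  rw [map_mul, map_mul, map_mul, map_inv, map_inv,
    mul_right_comm (lam ⟨x⁻¹ * a * x, hxa⟩) (lam ⟨x⁻¹ * b * x, hxb⟩), mul_inv_cancel, one_mul,
    mul_inv_cancel, map_one]

theorem index_normalCore_dvd_factorial [Finite G] (H : Subgroup G) :
    H.normalCore.index ∣ H.index.factorial := by
  rw [Subgroup.normalCore_eq_ker, Subgroup.index_ker, Subgroup.index_eq_card, ← Nat.card_perm]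
  exact Subgroup.card_subgroup_dvd_card (MulAction.toPermHom G (G ⧸ H)).range

theorem index_inf_dvd_mul (N₁ N₂ : Subgroup G) [N₂.Normal] :
    (N₁ ⊓ N₂).index ∣ N₁.index * N₂.index := by
  rw [← Subgroup.relIndex_mul_index (inf_le_left : N₁ ⊓ N₂ ≤ N₁), Subgroup.inf_relIndex_left,
    mul_comm]
  exact Nat.mul_dvd_mul_left _ (Subgroup.relIndex_dvd_index_of_normal N₂ N₁)

/-- a character of a nilpotent group is "diagonal" on a normal subgroup of index dividing
`(degree)!` -/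
theorem exists_normal_commutator_trivial [Finite G] [Group.IsNilpotent G] {ψ : G → ℂ}
    (hψ : Cfsg.IsCharacter G ψ) :
    ∃ N : Subgroup G, N.Normal ∧ N.index ∣ (Cfsg.charDegree ψ).factorial ∧
      ∀ a ∈ N, ∀ b ∈ N, ψ (a * b * a⁻¹ * b⁻¹) = ψ 1 := by
  haveI : Fintype G := Fintype.ofFinite G
  have key : ∀ φ : G → ℂ, φ ∈ AddSubmonoid.closure {φ : G → ℂ | Cfsg.IsIrrCharacter G φ} →
      ∃ d : ℕ, φ 1 = d ∧ ∃ N : Subgroup G, N.Normal ∧ N.index ∣ d.factorial ∧
        ∀ a ∈ N, ∀ b ∈ N, φ (a * b * a⁻¹ * b⁻¹) = φ 1 := by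
    intro φ hφ
    induction hφ using AddSubmonoid.closure_induction with
    | mem φ hφ =>
      have hφ' : Cfsg.IsIrrCharacter G φ := hφ
      obtain ⟨H, lam, rfl⟩ := nilpotent_monomial φ hφ'
      refine ⟨H.index, indFun_lin_one H lam, H.normalCore, H.normalCore_normal,
        index_normalCore_dvd_factorial H, fun a ha b hb => ?_⟩
      exact indFun_lin_commutator H lam a b ha hb
    | zero =>
      exact ⟨0, by simp, ⊤, inferInstance, by simp, fun _ _ _ _ => by simp⟩
    | add φ₁ φ₂ _ _ ih₁ ih₂ =>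
      obtain ⟨d₁, hd₁, N₁, hN₁, hi₁, hc₁⟩ := ih₁
      obtain ⟨d₂, hd₂, N₂, hN₂, hi₂, hc₂⟩ := ih₂
      haveI := hN₁
      haveI := hN₂
      refine ⟨d₁ + d₂, by simp [hd₁, hd₂], N₁ ⊓ N₂, inferInstance, ?_, fun a ha b hb => ?_⟩
      · exact ((index_inf_dvd_mul N₁ N₂).trans (Nat.mul_dvd_mul hi₁ hi₂)).trans
          (Nat.factorial_mul_factorial_dvd_factorial_add d₁ d₂)
      · simp only [Pi.add_apply]
        rw [hc₁ a ha.1 b hb.1, hc₂ a ha.2 b hb.2]
  obtain ⟨d, hd, N, hN, hi, hc⟩ := key ψ ((isCharacter_iff_mem_closure ψ).mp hψ)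
  have hd' : Cfsg.charDegree ψ = d := by
    have h1 := charDegree_cast_of_isCharacter hψ
    rw [hd] at h1
    exact_mod_cast h1
  exact ⟨N, hN, hd' ▸ hi, hc⟩

/-- **Nilpotent linear groups**: an abelian normal subgroup of index dividing `n!`. -/
theorem exists_abelian_index_dvd_factorial [Finite G] [Group.IsNilpotent G] {χ : G → ℂ}
    (hχ : Cfsg.IsCharacter G χ) (hfaith : ∀ g : G, χ g = χ 1 → g = 1) :
    ∃ Q : Subgroup G, (∀ a ∈ Q, ∀ b ∈ Q, a * b = b * a) ∧
      Q.index ∣ (Cfsg.charDegree χ).factorial := by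
  obtain ⟨N, -, hi, hc⟩ := exists_normal_commutator_trivial hχ
  refine ⟨N, fun a ha b hb => ?_, hi⟩
  have h1 := hfaith _ (hc a ha b hb)
  have : a * b = (a * b * a⁻¹ * b⁻¹) * (b * a) := by group
  rw [this, h1, one_mul]

end Cfsg.Agent.Helper6.JordanX
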