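import Mathlib
import Cfsg.Agent.Helper6.JordanG
import Cfsg.Agent.Helper6.BlichC
import Cfsg.Agent.Helper6.Induced
import Cfsg.Agent.Helper6.JordanF
import Cfsg.Agent.Helper6.Codegree

/-!
# Jordan's theorem with the explicit bound `n! * 12 ^ (n * (π (n + 1) + 1))`

Combine the abelian normal subgroup `A` with `[H : H ∩ A] ≤ 12 ^ n` for abelian `H`,
Blichfeldt's abelian Hall subgroup for the primes exceeding `n + 1`, and the abelian subgroups of
index dividing `n!` of the Sylow subgroups.
-/

set_option autoImplicit false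
set_option linter.style.haveILetI false

namespace Cfsg.Agent.Helper6.JordanX

open Cfsg.Agent.Helper6

universe u

variable {G : Type u} [Group G]

theorem relIndex_ne_zero' [Finite G] (A H : Subgroup G) : A.relIndex H ≠ 0 := by
  change (A.subgroupOf H).index ≠ 0
  exact Subgroup.index_ne_zero_of_finite

/-- the `p`-part of the index of a normal subgroup is seen in any subgroup of index prime to `p` -/
theorem factorization_index_le [Finite G] (A H : Subgroup G) [A.Normal] {p : ℕ}
    (hpH : ¬ p ∣ H.index) : A.index.factorization p ≤ (A.relIndex H).factorization p := by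
  have h1 : A.relIndex H * (H ⊔ A).index = A.index := by
    rw [← Subgroup.relIndex_sup_right H A]
    exact Subgroup.relIndex_mul_index le_sup_right
  have h2 : ¬ p ∣ (H ⊔ A).index := fun h => hpH (h.trans (Subgroup.index_dvd_of_le le_sup_left))
  have h3 : A.relIndex H ≠ 0 := relIndex_ne_zero' A H
  have h4 : (H ⊔ A).index ≠ 0 := Subgroup.index_ne_zero_of_finite
  rw [← h1, Nat.factorization_mul h3 h4, Finsupp.add_apply,
    Nat.factorization_eq_zero_of_not_dvd h2, add_zero]

theorem relIndex_le_mul [Finite G] (A Q P : Subgroup G) (hQP : Q ≤ P) :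
    A.relIndex P ≤ A.relIndex Q * Q.relIndex P := by
  have h1 : (A ⊓ Q).relIndex P = A.relIndex Q * Q.relIndex P := by
    rw [← Subgroup.relIndex_mul_relIndex (A ⊓ Q) Q P inf_le_right hQP,
      Subgroup.inf_relIndex_right]
  have h2 : A.relIndex P ∣ (A ⊓ Q).relIndex P :=
    Subgroup.relIndex_dvd_of_le_left P inf_le_left
  rw [← h1]
  exact Nat.le_of_dvd (Nat.pos_of_ne_zero (relIndex_ne_zero' _ _)) h2

/-- Sylow subgroups: `[P : P ∩ A] ≤ 12 ^ n * (n!)_p`. -/
theorem relIndex_sylow_le [Finite G] {χ : G → ℂ} (hχ : Cfsg.IsCharacter G χ)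
    (hfaith : ∀ g : G, χ g = χ 1 → g = 1) (A : Subgroup G)
    (hA : ∀ H : Subgroup G, (∀ x ∈ H, ∀ y ∈ H, x * y = y * x) →
      (A.subgroupOf H).index ≤ 12 ^ Cfsg.charDegree χ)
    {p : ℕ} (hp : p.Prime) (P : Sylow p G) :
    A.relIndex (P : Subgroup G) ≤
      12 ^ Cfsg.charDegree χ * p ^ ((Cfsg.charDegree χ).factorial.factorization p) := by
  haveI : Fact p.Prime := ⟨hp⟩
  haveI : Group.IsNilpotent (P : Subgroup G) := P.isPGroup'.isNilpotent
  obtain ⟨Q', hQ'ab, hQ'idx⟩ := exists_abelian_index_dvd_factorial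
    (IsCharacter.restrict (P : Subgroup G) hχ) (fun g hg => Subtype.ext (hfaith g hg))
  have hdeg : Cfsg.charDegree (fun u : (P : Subgroup G) => χ u) = Cfsg.charDegree χ := rfl
  rw [hdeg] at hQ'idx
  have hQP : Q'.map (P : Subgroup G).subtype ≤ P := Subgroup.map_subtype_le Q'
  have hQab : ∀ x ∈ Q'.map (P : Subgroup G).subtype, ∀ y ∈ Q'.map (P : Subgroup G).subtype,
      x * y = y * x := by
    rintro x ⟨x', hx', rfl⟩ y ⟨y', hy', rfl⟩
    exact congrArg Subtype.val (hQ'ab x' hx' y' hy')
  have hrel : (Q'.map (P : Subgroup G).subtype).relIndex P = Q'.index := by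
    rw [Subgroup.relIndex, Subgroup.subgroupOf,
      Subgroup.comap_map_eq_self_of_injective (Subgroup.subtype_injective _)]
  have h1 := relIndex_le_mul A _ _ hQP
  have h2 : A.relIndex (Q'.map (P : Subgroup G).subtype) ≤ 12 ^ Cfsg.charDegree χ := hA _ hQab
  have h3 : Q'.index ≤ p ^ ((Cfsg.charDegree χ).factorial.factorization p) := by
    obtain ⟨k, hk⟩ := IsPGroup.iff_card.mp P.isPGroup'
    have h4 : Q'.index ∣ p ^ k := hk ▸ Subgroup.index_dvd_card Q'
    obtain ⟨j, -, hj⟩ := (Nat.dvd_prime_pow hp).mp h4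
    rw [hj] at hQ'idx ⊢
    exact Nat.pow_le_pow_right hp.pos
      ((hp.pow_dvd_iff_le_factorization (Nat.factorial_ne_zero _)).mp hQ'idx)
  calc A.relIndex (P : Subgroup G)
      ≤ A.relIndex (Q'.map (P : Subgroup G).subtype) *
        (Q'.map (P : Subgroup G).subtype).relIndex P := h1
    _ ≤ 12 ^ Cfsg.charDegree χ * p ^ ((Cfsg.charDegree χ).factorial.factorization p) := by
        rw [hrel]
        exact Nat.mul_le_mul h2 h3

theorem prod_primesBelow_factorial (n : ℕ) :
    ∏ p ∈ Nat.primesBelow (n + 2), p ^ (n.factorial.factorization p) = n.factorial := by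
  have h1 := Nat.prod_factorization_pow_eq_self (Nat.factorial_ne_zero n)
  rw [Finsupp.prod_of_support_subset (s := Nat.primesBelow (n + 2))] at h1
  · exact h1
  · intro p hp
    rw [Nat.support_factorization, Nat.mem_primeFactors] at hp
    rw [Nat.mem_primesBelow]
    have := (Nat.Prime.dvd_factorial hp.1).mp hp.2.1
    exact ⟨by omega, hp.1⟩
  · intro i _
    exact pow_zero i

/-- **Jordan's theorem, explicit bound**, from the three ingredients. -/
theorem jordan_explicit [Finite G] {χ : G → ℂ} (hχ : Cfsg.IsCharacter G χ)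
    (hfaith : ∀ g : G, χ g = χ 1 → g = 1) (A : Subgroup G) [A.Normal]
    (hA : ∀ H : Subgroup G, (∀ x ∈ H, ∀ y ∈ H, x * y = y * x) →
      (A.subgroupOf H).index ≤ 12 ^ Cfsg.charDegree χ) :
    A.index ≤ (Cfsg.charDegree χ).factorial *
      12 ^ (Cfsg.charDegree χ * (Nat.primeCounting (Cfsg.charDegree χ + 1) + 1)) := by
  classical
  set n := Cfsg.charDegree χ with hn
  obtain ⟨H, hHab, -, hHidx⟩ := Blich.blichfeldt χ hχ hfaith n hn.symm
  -- a Sylow subgroup for every number
  let S : ℕ → Subgroup G := fun p => ((Classical.arbitrary (Sylow p G) : Sylow p G) : Subgroup G)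
  set X := A.relIndex H * ∏ p ∈ Nat.primesBelow (n + 2), A.relIndex (S p) with hX
  have hX0 : X ≠ 0 := by
    rw [hX]
    refine mul_ne_zero (relIndex_ne_zero' _ _) (Finset.prod_ne_zero_iff.mpr fun p _ => ?_)
    exact relIndex_ne_zero' _ _
  have hdvd : A.index ∣ X := by
    rw [← Nat.factorization_prime_le_iff_dvd Subgroup.index_ne_zero_of_finite hX0]
    intro p hp
    haveI : Fact p.Prime := ⟨hp⟩
    by_cases hpn : p ≤ n + 1
    · have hmem : p ∈ Nat.primesBelow (n + 2) := Nat.mem_primesBelow.mpr ⟨by omega, hp⟩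
      have h1 : A.index.factorization p ≤ (A.relIndex (S p)).factorization p :=
        factorization_index_le A (S p) (Sylow.not_dvd_index _)
      have h2 : A.relIndex (S p) ∣ X := by
        rw [hX]
        exact (Finset.dvd_prod_of_mem (fun p => A.relIndex (S p)) hmem).trans (dvd_mul_left _ _)
      exact h1.trans ((Nat.factorization_le_iff_dvd (relIndex_ne_zero' _ _) hX0).mpr h2 p)
    · have h1 : A.index.factorization p ≤ (A.relIndex H).factorization p :=
        factorization_index_le A H (fun h => hpn (hHidx p hp h))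
      have h2 : A.relIndex H ∣ X := by
        rw [hX]
        exact dvd_mul_right _ _
      exact h1.trans ((Nat.factorization_le_iff_dvd (relIndex_ne_zero' _ _) hX0).mpr h2 p)
  have hle : A.index ≤ X := Nat.le_of_dvd (Nat.pos_of_ne_zero hX0) hdvd
  have hXle : X ≤ 12 ^ n * ∏ p ∈ Nat.primesBelow (n + 2),
      (12 ^ n * p ^ (n.factorial.factorization p)) := by
    rw [hX]
    refine Nat.mul_le_mul (hA H hHab) (Finset.prod_le_prod (fun _ _ => Nat.zero_le _) ?_)
    intro p hp
    exact relIndex_sylow_le hχ hfaith A hA (Nat.prime_of_mem_primesBelow hp) _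
  rw [Finset.prod_mul_distrib, Finset.prod_const, prod_primesBelow_factorial,
    Nat.primesBelow_card_eq_primeCounting'] at hXle
  have hpc : Nat.primeCounting' (n + 2) = Nat.primeCounting (n + 1) := rfl
  rw [hpc] at hXle
  calc A.index ≤ X := hle
    _ ≤ 12 ^ n * ((12 ^ n) ^ Nat.primeCounting (n + 1) * n.factorial) := hXle
    _ = n.factorial * 12 ^ (n * (Nat.primeCounting (n + 1) + 1)) := by
        rw [pow_mul, pow_succ]
        ring

/-- **Jordan's theorem with the explicit classical bound.** -/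
theorem jordan_explicit_char [Finite G] (χ : G → ℂ) (hχ : Cfsg.IsCharacter G χ)
    (hfaith : ∀ g : G, χ g = χ 1 → g = 1) (n : ℕ) (hn : Cfsg.charDegree χ = n) :
    ∃ A : Subgroup G, A.Normal ∧ (∀ x ∈ A, ∀ y ∈ A, x * y = y * x) ∧
      A.index ≤ Nat.factorial n * 12 ^ (n * (Nat.primeCounting (n + 1) + 1)) := by
  have hex : ∃ A : Subgroup G, A.Normal ∧ (∀ x ∈ A, ∀ y ∈ A, x * y = y * x) ∧
      ∀ H : Subgroup G, (∀ x ∈ H, ∀ y ∈ H, x * y = y * x) →
        (A.subgroupOf H).index ≤ 12 ^ n := by
    obtain ⟨m, ρ, hρ⟩ := hχ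
    subst hρ
    rw [charDegree_rep] at hn
    subst hn
    exact jordan_of_rep ρ hfaith
  obtain ⟨A, hAn, hAab, hA⟩ := hex
  haveI := hAn
  refine ⟨A, hAn, hAab, ?_⟩
  have h := jordan_explicit hχ hfaith A (by rw [hn]; exact hA)
  rw [hn] at h
  exact h

end Cfsg.Agent.Helper6.JordanX
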