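import Mathlib
import Cfsg.Prelude.Def_Characters
import Cfsg.Prelude.Def_Blocks
import Cfsg.Agent.Helper6.FixedTrace
import Cfsg.Agent.Helper6.DefectClassValues
import Cfsg.Agent.Helper6.Osima1

/-!
# Local combinations of characters vanishing on the `p`-singular elements

If `F = ∑ a_i χ_i` with local integers `a_i` and characters `χ_i` vanishes on all `p`-singular
elements, then `F(s) / |C_G(s)|` is a local integer for every `p`-regular `s`.
-/

set_option autoImplicit false
set_option linter.style.haveILetI false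

namespace Cfsg.Agent.Helper6.K4

open Cfsg.Agent.Helper6

open scoped ComplexConjugate

universe u

variable {G : Type u} [Group G] {M : Ideal Cfsg.AlgInt}

/-- a local-integral combination of characters vanishing on `p`-singular elements has values
divisible by the centralizer orders -/
theorem div_card_centralizer_memLocalRing [Finite G] {p : ℕ} [hp : Fact p.Prime]
    (hM : Cfsg.IsPModular p M) {ι : Type*} (S : Finset ι) (a : ι → ℂ) (χ : ι → G → ℂ)
    (ha : ∀ i ∈ S, Cfsg.MemLocalRing M (a i)) (hχ : ∀ i ∈ S, Cfsg.IsCharacter G (χ i))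
    (hvan : ∀ g : G, p ∣ orderOf g → ∑ i ∈ S, a i * χ i g = 0)
    (s : G) (hs : ¬ p ∣ orderOf s) :
    Cfsg.MemLocalRing M ((∑ i ∈ S, a i * χ i s) /
      (Nat.card (Subgroup.centralizer ({s} : Set G)) : ℂ)) := by
  classical
  haveI := Fintype.ofFinite G
  set C := Subgroup.centralizer ({s} : Set G) with hC
  obtain ⟨Q₀⟩ : Nonempty (Sylow p C) := inferInstance
  set Q : Subgroup G := (Q₀ : Subgroup C).map C.subtype with hQ
  haveI : Fintype Q := Fintype.ofFinite Q
  have hQcard : Nat.card Q = p ^ (Nat.card C).factorization p := by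
    rw [hQ, Subgroup.card_map_of_injective (Subgroup.subtype_injective C)]
    exact Sylow.card_eq_multiplicity Q₀
  have hQp : IsPGroup p Q := by
    rw [hQ]
    exact IsPGroup.map Q₀.isPGroup' _
  have hcomm : ∀ q ∈ Q, s * q = q * s := by
    intro q hq
    rw [hQ] at hq
    obtain ⟨q', -, rfl⟩ := hq
    have := Subgroup.mem_centralizer_iff.mp q'.2 s (Set.mem_singleton s)
    exact this
  -- singularity of `s q`
  have hsing : ∀ q : Q, q ≠ 1 → p ∣ orderOf (s * (q : G)) := by
    intro q hq1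
    obtain ⟨k, hk⟩ := (IsPGroup.iff_orderOf.mp hQp) q
    have hk' : orderOf (q : G) = p ^ k := by rw [← hk]; exact (Subgroup.orderOf_coe q)
    have hk0 : k ≠ 0 := by
      intro h0
      rw [h0, pow_zero, orderOf_eq_one_iff] at hk
      exact hq1 hk
    have hcop : Nat.Coprime (orderOf s) (orderOf (q : G)) := by
      rw [hk']
      exact Nat.Coprime.pow_right k ((Nat.Prime.coprime_iff_not_dvd hp.1).mpr hs).symm
    have hcm : Commute s (q : G) := hcomm q q.2
    rw [hcm.orderOf_mul_eq_mul_orderOf_of_coprime hcop, hk']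
    exact Dvd.dvd.mul_left (dvd_pow_self p hk0) _
  -- integrality of the averages
  have hβ : ∀ i ∈ S, ∃ β : ℂ, IsIntegral ℤ β ∧
      ∑ q : Q, χ i (s * (q : G)) = (Nat.card Q : ℂ) * β := by
    intro i hi
    obtain ⟨n, ρ, hρ⟩ := hχ i hi
    obtain ⟨β, hβ1, hβ2⟩ := isIntegral_avg_char_mul ρ Q s hcomm
    refine ⟨β, hβ1, ?_⟩
    rw [← hρ]
    exact hβ2
  choose! β hβ1 hβ2 using hβ
  have hsum : ∑ q : Q, ∑ i ∈ S, a i * χ i (s * (q : G)) = ∑ i ∈ S, a i * χ i s := by
    rw [Finset.sum_eq_single (1 : Q)]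
    · simp
    · intro q _ hq1
      exact hvan _ (hsing q hq1)
    · intro h; exact absurd (Finset.mem_univ _) h
  have hsum2 : ∑ q : Q, ∑ i ∈ S, a i * χ i (s * (q : G)) =
      (Nat.card Q : ℂ) * ∑ i ∈ S, a i * β i := by
    rw [Finset.sum_comm, Finset.mul_sum]
    apply Finset.sum_congr rfl
    intro i hi
    rw [← Finset.mul_sum, hβ2 i hi]
    ring
  rw [← hsum, hsum2]
  have hCpos : Nat.card C ≠ 0 := Nat.card_pos.ne'
  obtain ⟨m, hmdef⟩ : ∃ m : ℕ, m = Nat.card C / p ^ (Nat.card C).factorization p := ⟨_, rfl⟩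
  have hm : Nat.card C = p ^ (Nat.card C).factorization p * m := by
    rw [hmdef]; exact (Nat.ordProj_mul_ordCompl_eq_self (Nat.card C) p).symm
  have hmp : ¬ p ∣ m := by
    rw [hmdef]; exact Nat.not_dvd_ordCompl hp.1 hCpos
  have hm0 : (m : ℂ) ≠ 0 := by
    intro h0
    have h00 : m = 0 := by exact_mod_cast h0
    apply hCpos
    rw [hm, h00, mul_zero]
  have hQ0 : (Nat.card Q : ℂ) ≠ 0 := by
    have : 0 < Nat.card Q := Nat.card_pos
    exact_mod_cast this.ne'
  have hrew : ((Nat.card Q : ℂ) * ∑ i ∈ S, a i * β i) / (Nat.card C : ℂ) =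
      ((1 : ℕ) : ℂ) / (m : ℂ) * ∑ i ∈ S, a i * β i := by
    have h1 : (Nat.card C : ℂ) = (Nat.card Q : ℂ) * (m : ℂ) := by
      rw [hQcard]
      exact_mod_cast hm
    rw [h1]
    field_simp
    simp
  rw [hrew]
  apply MemLocalRing.mul hM.2.1
  · exact memLocalRing_natCast_div hM.2.1 p hp.1 hM.2.2 1 m hmp
  · apply MemLocalRing.sum hM.2.1
    intro i hi
    exact MemLocalRing.mul hM.2.1 (ha i hi) (memLocalRing_of_isIntegral hM.2.1 (hβ1 i hi))

end Cfsg.Agent.Helper6.K4
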