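import Mathlib
import Cfsg.Prelude.Def_Characters
import Cfsg.Prelude.Def_Blocks
import Cfsg.Prelude.Def_BlockRank
import Cfsg.Agent.Helper6.K4L
import Cfsg.Agent.Helper6.DegSqC
import Cfsg.Agent.Helper6.WeakOrth
import Cfsg.Agent.Helper6.NilpPrincipal
import Cfsg.Agent.Helper6.DefectOneTwoA

/-!
# Blocks of rank one: proportionality of the `p`-regular parts and the projective-type
divisibility `p^d θ₀(y) / |C(y)| ∈ O`
-/

set_option autoImplicit false
set_option linter.style.haveILetI false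

namespace Cfsg.Agent.Helper6.K4

open Cfsg.Agent.Helper6 Cfsg.Agent.Helper6.DegSq

open Module
open scoped ComplexConjugate

universe u

variable {K : Type u} [Group K] {M : Ideal Cfsg.AlgInt}

/-- in a set of rank one, every element of the span of the `p`-regular parts is a multiple of
the `p`-regular part of a given member -/
theorem exists_smul_of_rank_one (p : ℕ) [hp : Fact p.Prime]
    (β : Set (Cfsg.IrrCharacter K)) (hl : Cfsg.blockRank p β = 1)
    (θ₀ : Cfsg.IrrCharacter K) (hθ₀ : θ₀ ∈ β) (f : K → ℂ)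
    (hf : f ∈ Submodule.span ℂ
      ((fun χ : Cfsg.IrrCharacter K => Cfsg.pRegularPart p (χ : K → ℂ)) '' β)) :
    ∃ a : ℂ, f = a • Cfsg.pRegularPart p (θ₀ : K → ℂ) := by
  set W := Submodule.span ℂ
    ((fun χ : Cfsg.IrrCharacter K => Cfsg.pRegularPart p (χ : K → ℂ)) '' β) with hW
  have hv₀ : Cfsg.pRegularPart p (θ₀ : K → ℂ) ∈ W :=
    Submodule.subset_span ⟨θ₀, hθ₀, rfl⟩
  have hreg1 : Cfsg.IsPRegular p (1 : K) := by
    unfold Cfsg.IsPRegular
    rw [orderOf_one]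
    exact hp.1.not_dvd_one
  have hne : (⟨Cfsg.pRegularPart p (θ₀ : K → ℂ), hv₀⟩ : W) ≠ 0 := by
    intro h0
    have h1 := congrArg (fun w : W => (w : K → ℂ) 1) h0
    simp only [ZeroMemClass.coe_zero, Pi.zero_apply] at h1
    rw [pRegularPart_of_isPRegular _ _ hreg1] at h1
    exact IsIrrCharacter.apply_one_ne_zero θ₀.2 h1
  have hl' : finrank ℂ W = 1 := hl
  obtain ⟨a, ha⟩ := (finrank_eq_one_iff_of_nonzero' _ hne).mp hl' ⟨f, hf⟩
  refine ⟨a, ?_⟩
  have := congrArg (fun w : W => (w : K → ℂ)) ha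
  simpa using this.symm

/-- in a set of rank one the `p`-regular parts are proportional, with the ratio of degrees -/
theorem pRegularPart_eq_smul_of_rank_one (p : ℕ) [hp : Fact p.Prime]
    (β : Set (Cfsg.IrrCharacter K)) (hl : Cfsg.blockRank p β = 1)
    (θ₀ θ : Cfsg.IrrCharacter K) (hθ₀ : θ₀ ∈ β) (hθ : θ ∈ β) :
    Cfsg.pRegularPart p (θ : K → ℂ) =
      ((θ : K → ℂ) 1 / (θ₀ : K → ℂ) 1) • Cfsg.pRegularPart p (θ₀ : K → ℂ) := by
  obtain ⟨a, ha⟩ := exists_smul_of_rank_one p β hl θ₀ hθ₀ (Cfsg.pRegularPart p (θ : K → ℂ))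
    (Submodule.subset_span ⟨θ, hθ, rfl⟩)
  have hreg1 : Cfsg.IsPRegular p (1 : K) := by
    unfold Cfsg.IsPRegular
    rw [orderOf_one]
    exact hp.1.not_dvd_one
  have h1 := congrFun ha 1
  rw [Pi.smul_apply, pRegularPart_of_isPRegular _ _ hreg1,
    pRegularPart_of_isPRegular _ _ hreg1, smul_eq_mul] at h1
  have h0 := IsIrrCharacter.apply_one_ne_zero θ₀.2
  have ha' : a = (θ : K → ℂ) 1 / (θ₀ : K → ℂ) 1 := by
    rw [h1]; field_simp
  rw [ha, ha']

open Classical in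
/-- **projective-type divisibility**: in a `p`-block `β` of rank one with a member `θ₀` of
height zero, `p^d θ₀(y) / |C(y)|` is a local integer for every `p`-regular `y` -/
theorem pow_defect_mul_div_centralizer [Finite K] {p : ℕ} [hp : Fact p.Prime]
    (hM : Cfsg.IsPModular p M) (β : Set (Cfsg.IrrCharacter K)) (hβ : Cfsg.IsPBlock M β)
    (hl : Cfsg.blockRank p β = 1) (θ₀ : Cfsg.IrrCharacter K) (hθ₀ : θ₀ ∈ β)
    (h0 : Cfsg.blockHeight p β (θ₀ : K → ℂ) = 0) (y : K) (hy : ¬ p ∣ orderOf y) :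
    Cfsg.MemLocalRing M ((p : ℂ) ^ Cfsg.blockDefect p β * (θ₀ : K → ℂ) y /
      (Nat.card (Subgroup.centralizer ({y} : Set K)) : ℂ)) := by
  haveI : Fintype K := Fintype.ofFinite K
  haveI : Finite (Cfsg.IrrCharacter K) := irr_finite
  haveI : Fintype (Cfsg.IrrCharacter K) := Fintype.ofFinite _
  set a := (Nat.card K).factorization p with ha
  set j := sInf ((fun χ : Cfsg.IrrCharacter K =>
    (Cfsg.charDegree (χ : K → ℂ)).factorization p) '' β) with hj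
  obtain ⟨X, hX, hpX⟩ := exists_sum_sq_eq hM β hβ
  rw [← ha, ← hj] at hX
  have hjle : ∀ θ ∈ β, j ≤ (Cfsg.charDegree (θ : K → ℂ)).factorization p := fun θ hθ =>
    Nat.sInf_le ⟨θ, hθ, rfl⟩
  have hj0 : (Cfsg.charDegree (θ₀ : K → ℂ)).factorization p = j := by
    have h1 := hjle θ₀ hθ₀
    unfold Cfsg.blockHeight at h0
    rw [← hj] at h0
    omega
  have hdeg0 : ∀ θ : Cfsg.IrrCharacter K, Cfsg.charDegree (θ : K → ℂ) ≠ 0 := fun θ =>
    charDegree_ne_zero_of_irr θ.2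
  have hja : j ≤ a := by
    rw [← hj0]
    exact (Nat.factorization_le_iff_dvd (hdeg0 θ₀) Nat.card_pos.ne').mpr
      (charDegree_dvd_card θ₀.2) p
  have hd : Cfsg.blockDefect p β = a - j := rfl
  -- the degrees divided by `p^j`
  have hdiv : ∀ θ ∈ β, p ^ j ∣ Cfsg.charDegree (θ : K → ℂ) := fun θ hθ =>
    (Nat.Prime.pow_dvd_iff_le_factorization hp.1 (hdeg0 θ)).mpr (hjle θ hθ)
  set FB := Finset.univ.filter (fun φ : Cfsg.IrrCharacter K => φ ∈ β) with hFB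
  have hmemFB : ∀ φ, φ ∈ FB ↔ φ ∈ β := fun φ => by rw [hFB]; simp
  set c : Cfsg.IrrCharacter K → ℂ := fun θ =>
    ((Cfsg.charDegree (θ : K → ℂ) / p ^ j : ℕ) : ℂ) with hc
  have hp0 : (p : ℂ) ≠ 0 := by exact_mod_cast hp.1.ne_zero
  have hpj0 : ((p : ℂ) ^ j) ≠ 0 := pow_ne_zero _ hp0
  have hcθ : ∀ θ ∈ β, c θ = (θ : K → ℂ) 1 / (p : ℂ) ^ j := by
    intro θ hθ
    rw [hc]
    simp only
    rw [← charDegree_cast_of_isCharacter (IsIrrCharacter.isCharacter θ.2)]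
    obtain ⟨m, hm⟩ := hdiv θ hθ
    rw [hm, Nat.mul_div_cancel_left m (pow_pos hp.1.pos j)]
    push_cast
    field_simp
  -- vanishing on singular elements
  have hvan : ∀ g : K, p ∣ orderOf g → ∑ θ ∈ FB, c θ * (θ : K → ℂ) g = 0 := by
    intro g hg
    have hreg1 : ¬ p ∣ orderOf (1 : K) := by
      rw [orderOf_one]; exact hp.1.not_dvd_one
    have h1 := weak_block_orthogonality hM.2.1 p hM.2.2 β hβ 1 g hreg1 hg
    rw [finsum_mem_eq_sum_ite] at h1
    have h2 := congrArg conj h1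
    rw [map_sum, map_zero] at h2
    have h3 : ∑ θ ∈ FB, c θ * (θ : K → ℂ) g =
        ((p : ℂ) ^ j)⁻¹ * ∑ θ : Cfsg.IrrCharacter K,
          conj (if θ ∈ β then (θ : K → ℂ) 1 * conj ((θ : K → ℂ) g) else 0) := by
      rw [hFB, Finset.sum_filter, Finset.mul_sum]
      apply Finset.sum_congr rfl
      intro θ _
      split_ifs with hθ
      · rw [hcθ θ hθ, map_mul, Complex.conj_conj,
          ← charDegree_cast_of_isCharacter (IsIrrCharacter.isCharacter θ.2), Complex.conj_natCast]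
        field_simp
      · rw [map_zero, mul_zero]
    rw [h3, h2, mul_zero]
  have hA1 := div_card_centralizer_memLocalRing hM FB c (fun θ => (θ : K → ℂ))
    (fun θ _ => memLocalRing_natCast hM.2.1 _)
    (fun θ _ => IsIrrCharacter.isCharacter θ.2) hvan y hy
  -- evaluate at `y`
  have hregy : Cfsg.IsPRegular p y := hy
  have hprop : ∀ θ ∈ β, (θ : K → ℂ) y =
      (θ : K → ℂ) 1 / (θ₀ : K → ℂ) 1 * (θ₀ : K → ℂ) y := by
    intro θ hθ
    have h1 := congrFun (pRegularPart_eq_smul_of_rank_one p β hl θ₀ θ hθ₀ hθ) y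
    rw [Pi.smul_apply, pRegularPart_of_isPRegular _ _ hregy,
      pRegularPart_of_isPRegular _ _ hregy, smul_eq_mul] at h1
    exact h1
  have hθ₀1 : (θ₀ : K → ℂ) 1 ≠ 0 := IsIrrCharacter.apply_one_ne_zero θ₀.2
  -- `θ₀(1) = p^j Y`
  obtain ⟨Y, hYdef⟩ : ∃ Y : ℕ, Y = Cfsg.charDegree (θ₀ : K → ℂ) / p ^ j := ⟨_, rfl⟩
  have hY : Cfsg.charDegree (θ₀ : K → ℂ) = p ^ j * Y := by
    rw [hYdef, ← hj0]
    exact (Nat.ordProj_mul_ordCompl_eq_self _ p).symm
  have hY0 : (Y : ℂ) ≠ 0 := by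
    intro h
    have h00 : Y = 0 := by exact_mod_cast h
    rw [h00, mul_zero] at hY
    exact hdeg0 θ₀ hY
  have hX0 : (X : ℂ) ≠ 0 := by
    intro h
    have h00 : X = 0 := by exact_mod_cast h
    rw [h00] at hpX
    exact hpX (dvd_zero p)
  have hsumsq : ∑ θ ∈ FB, (θ : K → ℂ) 1 * (θ : K → ℂ) 1 = (p : ℂ) ^ (a + j) * (X : ℂ) := by
    have h1 : ∑ᶠ χ ∈ β, Cfsg.charDegree (χ : K → ℂ) ^ 2 =
        ∑ χ ∈ FB, Cfsg.charDegree (χ : K → ℂ) ^ 2 := by
      have hBFB : β = ((FB : Finset (Cfsg.IrrCharacter K)) : Set (Cfsg.IrrCharacter K)) := by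
        ext φ
        rw [Finset.mem_coe, hmemFB]
      conv_lhs => rw [hBFB]
      rw [finsum_mem_coe_finset]
    rw [h1] at hX
    have h2 : ((∑ χ ∈ FB, Cfsg.charDegree (χ : K → ℂ) ^ 2 : ℕ) : ℂ) =
        ((p ^ (a + j) * X : ℕ) : ℂ) := by rw [hX]
    push_cast at h2
    rw [← h2]
    apply Finset.sum_congr rfl
    intro θ _
    rw [← charDegree_cast_of_isCharacter (IsIrrCharacter.isCharacter θ.2)]
    ring
  have hval : ∑ θ ∈ FB, c θ * (θ : K → ℂ) y =
      (p : ℂ) ^ (a - j) * ((X : ℂ) / (Y : ℂ)) * (θ₀ : K → ℂ) y := by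
    have h1 : ∑ θ ∈ FB, c θ * (θ : K → ℂ) y =
        (∑ θ ∈ FB, (θ : K → ℂ) 1 * (θ : K → ℂ) 1) /
          ((p : ℂ) ^ j * (θ₀ : K → ℂ) 1) * (θ₀ : K → ℂ) y := by
      rw [Finset.sum_div, Finset.sum_mul]
      apply Finset.sum_congr rfl
      intro θ hθ
      have hθβ := (hmemFB θ).mp hθ
      rw [hcθ θ hθβ, hprop θ hθβ]
      field_simp
    rw [h1, hsumsq, ← charDegree_cast_of_isCharacter (IsIrrCharacter.isCharacter θ₀.2), hY]
    push_cast
    have hpow : (p : ℂ) ^ (a + j) = (p : ℂ) ^ (a - j) * (p : ℂ) ^ j * (p : ℂ) ^ j := by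
      rw [← pow_add, ← pow_add]
      congr 1
      omega
    rw [hpow]
    field_simp
  rw [hval] at hA1
  have hfinal : (p : ℂ) ^ Cfsg.blockDefect p β * (θ₀ : K → ℂ) y /
      (Nat.card (Subgroup.centralizer ({y} : Set K)) : ℂ) =
      (Y : ℂ) / (X : ℂ) * ((p : ℂ) ^ (a - j) * ((X : ℂ) / (Y : ℂ)) * (θ₀ : K → ℂ) y /
        (Nat.card (Subgroup.centralizer ({y} : Set K)) : ℂ)) := by
    rw [hd]
    field_simp
  rw [hfinal]
  exact MemLocalRing.mul hM.2.1 (memLocalRing_natCast_div hM.2.1 p hp.1 hM.2.2 Y X hpX) hA1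

end Cfsg.Agent.Helper6.K4
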