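import Mathlib
import Cfsg.Prelude.Def_Characters
import Cfsg.Prelude.Def_Blocks
import Cfsg.Prelude.Def_BlockRank
import Cfsg.Agent.Helper6.K4D
import Cfsg.Agent.Helper6.K4M

/-!
# The sign vector attached to a subsection `(y, b)` of a `2`-block with four characters

For a `2`-block `B` with four characters, all of height zero, and a subsection `(y, b)` with
`y^2 = 1`, `b` of defect two and rank one: the `(y, b)`-parts of the members `χ` of `B` are
`± a θ₀°` for a fixed local integer `a ≠ 0`.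
-/

set_option autoImplicit false
set_option linter.style.haveILetI false

namespace Cfsg.Agent.Helper6.K4

open Cfsg.Agent.Helper6 Cfsg.Agent.Helper6.Maj

open Module
open scoped ComplexConjugate

universe u

variable {G : Type u} [Group G] {M : Ideal Cfsg.AlgInt}

/-- a matrix as in `card_eq_four_of_odd_matrix` on a set of four elements has diagonal entries `1`
and all entries `± 1` -/
theorem entries_of_odd_matrix {ι : Type*} (F : Finset ι) (A : ι → ι → ℤ)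
    (hodd : ∀ χ ∈ F, ∀ ψ ∈ F, Odd (A χ ψ))
    (hsq : ∀ χ ∈ F, ∑ ψ ∈ F, A χ ψ ^ 2 = 4 * A χ χ)
    (htr : ∑ χ ∈ F, A χ χ = 4) (hcard : F.card = 4) :
    ∀ χ ∈ F, A χ χ = 1 ∧ ∀ ψ ∈ F, A χ ψ = 1 ∨ A χ ψ = -1 := by
  have hpos : ∀ χ ∈ F, 1 ≤ A χ χ := by
    intro χ hχ
    have h1 : A χ χ ^ 2 ≤ ∑ ψ ∈ F, A χ ψ ^ 2 :=
      Finset.single_le_sum (f := fun ψ => A χ ψ ^ 2) (fun ψ _ => sq_nonneg _) hχ
    rw [hsq χ hχ] at h1
    obtain ⟨m, hm⟩ := hodd χ hχ χ hχ
    have h2 : A χ χ ≠ 0 := by omega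
    by_contra hlt
    push Not at hlt
    have h3 : A χ χ ≤ -1 := by omega
    nlinarith
  have hdiag : ∀ χ ∈ F, A χ χ = 1 := by
    have h0 : ∑ χ ∈ F, (A χ χ - 1) = 0 := by
      rw [Finset.sum_sub_distrib, htr]
      simp [hcard]
    have h1 := (Finset.sum_eq_zero_iff_of_nonneg (fun χ hχ => by linarith [hpos χ hχ])).mp h0
    intro χ hχ
    linarith [h1 χ hχ]
  intro χ hχ
  refine ⟨hdiag χ hχ, ?_⟩
  have hsq1 : ∀ ψ ∈ F, 1 ≤ A χ ψ ^ 2 := by
    intro ψ hψ
    obtain ⟨m, hm⟩ := hodd χ hχ ψ hψ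
    have h2 : A χ ψ ≠ 0 := by omega
    have : 0 < A χ ψ ^ 2 := by positivity
    linarith
  have h0 : ∑ ψ ∈ F, (A χ ψ ^ 2 - 1) = 0 := by
    rw [Finset.sum_sub_distrib, hsq χ hχ, hdiag χ hχ]
    simp [hcard]
  have h1 := (Finset.sum_eq_zero_iff_of_nonneg (fun ψ hψ => by linarith [hsq1 ψ hψ])).mp h0
  intro ψ hψ
  have h2 : A χ ψ ^ 2 = 1 := by linarith [h1 ψ hψ]
  have h3 : (A χ ψ - 1) * (A χ ψ + 1) = 0 := by ring_nf; linarith
  rcases mul_eq_zero.mp h3 with h | h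
  · left; linarith
  · right; linarith

open Classical in
/-- **the sign vector of a subsection** -/
theorem subsection_signs [Finite G] (hM : Cfsg.IsPModular 2 M)
    (B : Set (Cfsg.IrrCharacter G)) (hB4 : Nat.card B = 4)
    (hh : ∀ χ ∈ B, Cfsg.blockHeight 2 B (χ : G → ℂ) = 0)
    (y : G) (hy2 : y ^ 2 = 1)
    (H : Subgroup G) (hHdef : H = Subgroup.centralizer ({y} : Set G))
    (b : Set (Cfsg.IrrCharacter H))
    (hind : Cfsg.IsInducedBlock M H b B)
    (hd : Cfsg.blockDefect 2 b = 2) (hl : Cfsg.blockRank 2 b = 1)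
    (χ₀ : Cfsg.IrrCharacter G) (hχ₀ : χ₀ ∈ B)
    (θ₀ : Cfsg.IrrCharacter H) (hθ₀ : θ₀ ∈ b) (h0 : Cfsg.blockHeight 2 b (θ₀ : H → ℂ) = 0) :
    ∃ (a : ℂ) (s : Cfsg.IrrCharacter G → ℤ), a ≠ 0 ∧ Cfsg.MemLocalRing M a ∧ s χ₀ = 1 ∧
      (∀ χ ∈ B, s χ = 1 ∨ s χ = -1) ∧
      ∀ χ ∈ B, secPart 2 H b (χ : G → ℂ) y =
        ((s χ : ℂ) * a) • Cfsg.pRegularPart 2 (θ₀ : H → ℂ) := by
  haveI hp : Fact (Nat.Prime 2) := ⟨Nat.prime_two⟩
  haveI : Fintype G := Fintype.ofFinite G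
  haveI : Fintype H := Fintype.ofFinite H
  haveI : Finite (Cfsg.IrrCharacter G) := irr_finite
  haveI : Finite (Cfsg.IrrCharacter H) := irr_finite
  haveI : Fintype (Cfsg.IrrCharacter G) := Fintype.ofFinite _
  haveI : Fintype (Cfsg.IrrCharacter H) := Fintype.ofFinite _
  have hy : ∃ k : ℕ, orderOf y = 2 ^ k := by
    have h1 : orderOf y ∣ 2 ^ 1 := by rw [pow_one]; exact orderOf_dvd_of_pow_eq_one hy2
    obtain ⟨m', _, hm'⟩ := (Nat.dvd_prime_pow Nat.prime_two).mp h1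
    exact ⟨m', hm'⟩
  have hyH : y ∈ H := by
    rw [hHdef, Subgroup.mem_centralizer_singleton_iff]
  have hcomm : ∀ t : H, y * (t : G) = (t : G) * y := fun t =>
    Subgroup.mem_centralizer_iff.mp (hHdef ▸ t.2) y (Set.mem_singleton y)
  have hz : (⟨y, hyH⟩ : H) ∈ Subgroup.center H := by
    rw [Subgroup.mem_center_iff]
    intro t
    apply Subtype.ext
    simp only [Subgroup.coe_mul]
    exact (hcomm t).symm
  have hzo : orderOf (⟨y, hyH⟩ : H) = orderOf y := Subgroup.orderOf_mk y hyH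
  choose ε hεn hε1 hε using fun θ : Cfsg.IrrCharacter H => exists_center_twist θ ⟨y, hyH⟩ hz
  have hεsq : ∀ θ, ε θ = 1 ∨ ε θ = -1 := by
    intro θ
    have h1 : ε θ ^ 2 = 1 := by
      obtain ⟨c, hc⟩ := orderOf_dvd_of_pow_eq_one hy2
      rw [hc, ← hzo, pow_mul, hεn, one_pow]
    rw [sq] at h1
    exact mul_self_eq_one_iff.mp h1
  set s' : Cfsg.IrrCharacter H → ℤ := fun θ => if ε θ = 1 then 1 else -1 with hsdef
  have hs : ∀ θ, ((s' θ : ℤ) : ℂ) = ε θ := by
    intro θ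
    rw [hsdef]
    simp only
    rcases hεsq θ with h | h
    · rw [if_pos h, h]; norm_num
    · have hne : ε θ ≠ 1 := by rw [h]; norm_num
      rw [if_neg hne, h]; norm_num
  have hconj : ∀ θ, conj (ε θ) = ε θ := by
    intro θ
    rw [← hs θ, map_intCast]
  have hW : ∀ χ ψ : Cfsg.IrrCharacter G,
      ∃ W : Cfsg.IrrCharacter H × Cfsg.IrrCharacter H → ℤ, ∀ i,
      (((2 : ℕ) : ℂ) ^ Cfsg.blockDefect 2 b) * (if i.1 ∈ b ∧ i.2 ∈ b then
        Cfsg.classInner (fun c : H => (χ : G → ℂ) (c : G)) (i.1 : H → ℂ) *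
        conj (Cfsg.classInner (fun c : H => (ψ : G → ℂ) (c : G)) (i.2 : H → ℂ)) *
        Cfsg.classInner (Cfsg.pRegularPart 2 (i.1 : H → ℂ))
          (Cfsg.pRegularPart 2 (i.2 : H → ℂ)) else 0) = (W i : ℂ) := fun χ ψ =>
    exists_int_weights hM H b (IsIrrCharacter.isCharacter χ.2) (IsIrrCharacter.isCharacter ψ.2)
  choose W hW using hW
  set m : Cfsg.IrrCharacter G → Cfsg.IrrCharacter G → ℂ := fun χ ψ =>
    Cfsg.classInner (secPart 2 H b (χ : G → ℂ) y) (secPart 2 H b (ψ : G → ℂ) y) with hmdef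
  set A : Cfsg.IrrCharacter G → Cfsg.IrrCharacter G → ℤ := fun χ ψ =>
    ∑ i, W χ ψ i * (s' i.1 * s' i.2) with hAdef
  have hA : ∀ χ ψ : Cfsg.IrrCharacter G, (4 : ℂ) * m χ ψ = (A χ ψ : ℂ) := by
    intro χ ψ
    have h1 := classInner_secPart_pow 2 H b (χ : G → ℂ) (ψ : G → ℂ) y hyH ε hε1 hε 1
    simp only [pow_one] at h1
    rw [hmdef, hAdef]
    simp only
    rw [h1, Finset.mul_sum]
    push_cast
    apply Finset.sum_congr rfl
    intro i _
    rw [← mul_assoc, ← hW χ ψ i, hd, hs, hs, hconj]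
    norm_num
  have hmreal : ∀ χ ψ : Cfsg.IrrCharacter G, conj (m χ ψ) = m χ ψ := by
    intro χ ψ
    have h1 : m χ ψ = (A χ ψ : ℂ) / 4 := by rw [← hA]; ring
    rw [h1, map_div₀, map_intCast]
    congr 1
    exact Complex.conj_ofNat 4
  set FB := Finset.univ.filter (fun χ : Cfsg.IrrCharacter G => χ ∈ B) with hFB
  have hmemFB : ∀ φ, φ ∈ FB ↔ φ ∈ B := fun φ => by rw [hFB]; simp
  have hcard : FB.card = 4 := by
    rw [← hB4, Nat.card_eq_fintype_card, Fintype.card_subtype]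
  have hodd : ∀ χ ∈ FB, ∀ ψ ∈ FB, Odd (A χ ψ) := by
    intro χ hχ ψ hψ
    have hχB : χ ∈ B := (Finset.mem_filter.mp hχ).2
    have hψB : ψ ∈ B := (Finset.mem_filter.mp hψ).2
    obtain ⟨θ₁, hθ₁, hθ₁h, hnot⟩ := contribution_not_memLocalIdeal hM B χ ψ hχB hψB
      (hh χ hχB) (hh ψ hψB) y hy H hyH hcomm b hind
    rw [← Int.not_even_iff_odd]
    rintro ⟨A', hA'⟩
    apply hnot
    have hdeg := charDegree_cast_of_isCharacter (IsIrrCharacter.isCharacter θ₁.2)
    have hfac := factorization_charDegree_eq 2 b θ₁ hθ₁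
    rw [hθ₁h, hd, add_zero] at hfac
    have hdle := blockDefect_le_factorization 2 b
    rw [hd] at hdle
    have hD0 : Cfsg.charDegree (θ₁ : H → ℂ) ≠ 0 := charDegree_ne_zero_of_irr θ₁.2
    have hmm : m χ ψ = (A χ ψ : ℂ) / 4 := by rw [← hA]; ring
    have hrew : (Nat.card H : ℂ) / (θ₁ : H → ℂ) 1 *
        Cfsg.classInner (secPart 2 H b (χ : G → ℂ) y) (secPart 2 H b (ψ : G → ℂ) y) =
        (A' : ℂ) * (((Nat.card H : ℕ) : ℂ) / ((2 * Cfsg.charDegree (θ₁ : H → ℂ) : ℕ) : ℂ)) := by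
      have : Cfsg.classInner (secPart 2 H b (χ : G → ℂ) y) (secPart 2 H b (ψ : G → ℂ) y) =
          m χ ψ := rfl
      rw [this, hmm, hA', ← hdeg]
      have hD0' : (Cfsg.charDegree (θ₁ : H → ℂ) : ℂ) ≠ 0 := by exact_mod_cast hD0
      push_cast
      field_simp
      ring
    rw [hrew]
    apply MemLocalIdeal.mul_left hM.2.1 (memLocalRing_of_isIntegral hM.2.1 (isIntegral_algebraMap (R := ℤ) (A := ℂ) (x := A') |> fun h => by simpa using h))
    rw [memLocalIdeal_natCast_div_iff hM _ _ Nat.card_pos.ne' (by omega)]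
    rw [Nat.factorization_mul (by norm_num) hD0]
    simp only [Finsupp.coe_add, Pi.add_apply, Nat.Prime.factorization_self Nat.prime_two]
    omega
  have hsq : ∀ χ ∈ FB, ∑ ψ ∈ FB, A χ ψ ^ 2 = 4 * A χ χ := by
    intro χ hχ
    have h1 := sum_secPart_sq hM B y hy H hHdef b hind (χ : G → ℂ)
    have h2 : ∑ ψ ∈ FB, ((A χ ψ : ℂ)) ^ 2 = 4 * (A χ χ : ℂ) := by
      rw [← hA χ χ]
      have h3 : m χ χ = Cfsg.classInner (secPart 2 H b (χ : G → ℂ) y)
          (secPart 2 H b (χ : G → ℂ) y) := rfl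
      rw [h3, ← h1, hFB, Finset.sum_filter, Finset.mul_sum, Finset.mul_sum]
      apply Finset.sum_congr rfl
      intro ψ _
      split_ifs with hψ
      · have h4 : Cfsg.classInner (secPart 2 H b (χ : G → ℂ) y)
            (secPart 2 H b (ψ : G → ℂ) y) = m χ ψ := rfl
        rw [h4, hmreal, ← hA]
        ring
      · ring
    exact_mod_cast h2
  have htr : ∑ χ ∈ FB, A χ χ = 4 := by
    have h1 := sum_secPart_self hM B y hy H hHdef b hind
    rw [hl, finsum_mem_eq_sum_ite] at h1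
    have h2 : ∑ χ ∈ FB, (A χ χ : ℂ) = 4 := by
      rw [hFB, Finset.sum_filter]
      have h3 : (4 : ℂ) = 4 * ((1 : ℕ) : ℂ) := by norm_num
      rw [h3, ← h1, Finset.mul_sum]
      apply Finset.sum_congr rfl
      intro χ _
      split_ifs with hχ
      · rw [← hA]
      · ring
    exact_mod_cast h2
  have hent := entries_of_odd_matrix FB A hodd hsq htr hcard
  -- proportionality
  have hspan : ∀ χ : Cfsg.IrrCharacter G, ∃ a : ℂ, secPart 2 H b (χ : G → ℂ) y =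
      a • Cfsg.pRegularPart 2 (θ₀ : H → ℂ) := by
    intro χ
    apply exists_smul_of_rank_one 2 b hl θ₀ hθ₀
    rw [secPart_eq_sum]
    apply Submodule.sum_mem
    intro θ _
    split_ifs with hθ
    · exact Submodule.smul_mem _ _ (Submodule.subset_span ⟨θ, hθ, rfl⟩)
    · exact Submodule.zero_mem _
  choose av hav using hspan
  set r := Cfsg.classInner (Cfsg.pRegularPart 2 (θ₀ : H → ℂ))
    (Cfsg.pRegularPart 2 (θ₀ : H → ℂ)) with hr
  have hmav : ∀ χ ψ : Cfsg.IrrCharacter G, m χ ψ = av χ * conj (av ψ) * r := by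
    intro χ ψ
    rw [hmdef]
    simp only
    rw [hav χ, hav ψ, hr]
    unfold Cfsg.classInner
    rw [Finset.mul_sum, Finset.mul_sum, Finset.mul_sum]
    apply Finset.sum_congr rfl
    intro g _
    simp only [Pi.smul_apply, smul_eq_mul, map_mul]
    ring
  have hχ₀F : χ₀ ∈ FB := (hmemFB χ₀).mpr hχ₀
  have h00 : (4 : ℂ) * (av χ₀ * conj (av χ₀) * r) = 1 := by
    rw [← hmav, hA, (hent χ₀ hχ₀F).1]
    norm_num
  refine ⟨av χ₀, fun χ => A χ χ₀, ?_, ?_, (hent χ₀ hχ₀F).1, ?_, ?_⟩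
  · intro h
    rw [h, zero_mul, zero_mul, mul_zero] at h00
    exact zero_ne_one h00
  · -- locality of `a`
    have hreg1 : Cfsg.IsPRegular 2 (1 : H) := by
      unfold Cfsg.IsPRegular
      rw [orderOf_one]
      norm_num
    have h1 := congrFun (hav χ₀) 1
    rw [secPart_eq_sum, Pi.smul_apply, pRegularPart_of_isPRegular _ _ hreg1, smul_eq_mul,
      Finset.sum_apply] at h1
    have hθ₀1 : (θ₀ : H → ℂ) 1 ≠ 0 := IsIrrCharacter.apply_one_ne_zero θ₀.2
    have h2 : av χ₀ = ∑ θ : Cfsg.IrrCharacter H, (if θ ∈ b then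
        Cfsg.classInner (fun c : H => (χ₀ : G → ℂ) (y * (c : G))) (θ : H → ℂ) *
          ((θ : H → ℂ) 1 / (θ₀ : H → ℂ) 1) else 0) := by
      have h3 : av χ₀ = (∑ θ : Cfsg.IrrCharacter H, (if θ ∈ b then
          Cfsg.classInner (fun c : H => (χ₀ : G → ℂ) (y * (c : G))) (θ : H → ℂ) •
            Cfsg.pRegularPart 2 (θ : H → ℂ) else 0) 1) / (θ₀ : H → ℂ) 1 := by
        rw [h1]; field_simp
      rw [h3, Finset.sum_div]
      apply Finset.sum_congr rfl
      intro θ _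
      split_ifs with hθ
      · rw [Pi.smul_apply, pRegularPart_of_isPRegular _ _ hreg1, smul_eq_mul]
        ring
      · simp
    rw [h2]
    apply MemLocalRing.sum hM.2.1
    intro θ _
    split_ifs with hθ
    · apply MemLocalRing.mul hM.2.1
      · have h4 := classInner_twist H (χ₀ : G → ℂ) y hyH θ (ε θ) (hε1 θ) (hε θ) 1
        simp only [pow_one] at h4
        rw [h4]
        obtain ⟨n, hn⟩ := classInner_char_char_nat
          (IsCharacter.restrict H (IsIrrCharacter.isCharacter χ₀.2))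
          (IsIrrCharacter.isCharacter θ.2)
        rw [hn]
        apply MemLocalRing.mul hM.2.1 _ (memLocalRing_natCast hM.2.1 n)
        rcases hεsq θ with h | h
        · rw [h]; exact memLocalRing_one hM.2.1
        · rw [h]; exact MemLocalRing.neg (memLocalRing_one hM.2.1)
      · apply degree_ratio_memLocalRing hM θ θ₀
        exact (blockHeight_eq_zero_iff b θ₀ hθ₀).mp h0 θ hθ
    · exact memLocalRing_zero hM.2.1
  · intro χ hχ
    exact (hent χ ((hmemFB χ).mpr hχ)).2 χ₀ hχ₀F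
  · intro χ hχ
    rw [hav χ]
    congr 1
    have h1 : ((A χ χ₀ : ℤ) : ℂ) = 4 * (av χ * conj (av χ₀) * r) := by
      rw [← hmav, hA]
    rw [h1]
    calc av χ = av χ * 1 := (mul_one _).symm
      _ = av χ * (4 * (av χ₀ * conj (av χ₀) * r)) := by rw [h00]
      _ = 4 * (av χ * conj (av χ₀) * r) * av χ₀ := by ring

end Cfsg.Agent.Helper6.K4
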