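import Mathlib
import Cfsg.Prelude.Def_Characters
import Cfsg.Prelude.Def_Blocks
import Cfsg.Prelude.Def_BlockRank
import Cfsg.Agent.Helper6.K4N
import Cfsg.Agent.Helper6.SecondMainE
import Cfsg.Agent.Helper6.OsimaSupport
import Cfsg.Agent.Helper6.PrincipalSection2

/-!
# The data attached to a subsection `(y, b)` of a `2`-block with four characters

sign vector `s`, value function `v` on `C_G(y)`, with `χ^{(y,b)}(k) = s_χ v(k)`,
the integrality of `v`, and the relation `∑ s_χ χ = 0` on the `2`-regular elements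
-/

set_option autoImplicit false
set_option linter.style.haveILetI false

namespace Cfsg.Agent.Helper6.K4

open Cfsg.Agent.Helper6 Cfsg.Agent.Helper6.Maj

open Module
open scoped ComplexConjugate

universe u

variable {G : Type u} [Group G] {M : Ideal Cfsg.AlgInt}

open Classical in
/-- **subsection data** -/
theorem subsection_data [Finite G] (hM : Cfsg.IsPModular 2 M)
    (B : Set (Cfsg.IrrCharacter G)) (hB : Cfsg.IsPBlock M B) (hB4 : Nat.card B = 4)
    (hh : ∀ χ ∈ B, Cfsg.blockHeight 2 B (χ : G → ℂ) = 0)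
    (y : G) (hy2 : y ^ 2 = 1) (hy1 : y ≠ 1)
    (H : Subgroup G) (hHdef : H = Subgroup.centralizer ({y} : Set G))
    (b : Set (Cfsg.IrrCharacter H))
    (hind : Cfsg.IsInducedBlock M H b B)
    (hd : Cfsg.blockDefect 2 b = 2) (hl : Cfsg.blockRank 2 b = 1)
    (χ₀ : Cfsg.IrrCharacter G) (hχ₀ : χ₀ ∈ B) :
    ∃ (s : Cfsg.IrrCharacter G → ℤ) (v : H → ℂ),
      s χ₀ = 1 ∧ (∀ χ ∈ B, s χ = 1 ∨ s χ = -1) ∧
      (∀ χ ∈ B, ∀ k : H, ¬ 2 ∣ orderOf k →
        Cfsg.blockPart b (fun c : H => (χ : G → ℂ) (y * (c : G))) k = (s χ : ℂ) * v k) ∧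
      (∀ k : H, ¬ 2 ∣ orderOf k →
        Cfsg.MemLocalRing M (v k) ∧
        Cfsg.MemLocalRing M (4 * v k /
          (Nat.card (Subgroup.centralizer ({y * (k : G)} : Set G)) : ℂ))) ∧
      (∀ g : G, ¬ 2 ∣ orderOf g → ∑ᶠ χ ∈ B, (s χ : ℂ) * (χ : G → ℂ) g = 0) := by
  haveI hp : Fact (Nat.Prime 2) := ⟨Nat.prime_two⟩
  haveI : Fintype G := Fintype.ofFinite G
  haveI : Fintype H := Fintype.ofFinite H
  haveI : Finite (Cfsg.IrrCharacter G) := irr_finite
  haveI : Finite (Cfsg.IrrCharacter H) := irr_finite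
  haveI : Fintype (Cfsg.IrrCharacter G) := Fintype.ofFinite _
  haveI : Fintype (Cfsg.IrrCharacter H) := Fintype.ofFinite _
  have hb : Cfsg.IsPBlock M b := hind.1
  have hbne : b.Nonempty := by
    obtain ⟨ξ₀, rfl⟩ := hb
    exact ⟨ξ₀, mem_blockOf_self hM.2.1 ξ₀⟩
  obtain ⟨θ₀, hθ₀, h0⟩ := exists_height_zero 2 b hbne
  obtain ⟨a, s, ha0, haloc, hs0, hs1, hsec⟩ := subsection_signs hM B hB4 hh y hy2 H hHdef b hind hd hl
    χ₀ hχ₀ θ₀ hθ₀ h0
  have hyo : ∃ k : ℕ, orderOf y = 2 ^ k := by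
    have h1 : orderOf y ∣ 2 ^ 1 := by rw [pow_one]; exact orderOf_dvd_of_pow_eq_one hy2
    obtain ⟨m', _, hm'⟩ := (Nat.dvd_prime_pow Nat.prime_two).mp h1
    exact ⟨m', hm'⟩
  have hcomm : ∀ t : H, y * (t : G) = (t : G) * y := fun t =>
    Subgroup.mem_centralizer_iff.mp (hHdef ▸ t.2) y (Set.mem_singleton y)
  have hcardC : ∀ k : H, ¬ 2 ∣ orderOf k →
      Nat.card (Subgroup.centralizer ({y * (k : G)} : Set G)) =
        Nat.card (Subgroup.centralizer ({k} : Set H)) := by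
    subst hHdef
    exact fun k hk => card_centralizer_section 2 y hyo k hk
  have hθ₀1 : (θ₀ : H → ℂ) 1 ≠ 0 := IsIrrCharacter.apply_one_ne_zero θ₀.2
  -- the block part at regular elements
  have hpart : ∀ χ ∈ B, ∀ k : H, ¬ 2 ∣ orderOf k →
      Cfsg.blockPart b (fun c : H => (χ : G → ℂ) (y * (c : G))) k =
        (s χ : ℂ) * (a * (θ₀ : H → ℂ) k) := by
    intro χ hχ k hk
    have h1 := congrFun (hsec χ hχ) k
    rw [secPart_apply, if_neg hk, Pi.smul_apply, pRegularPart_of_isPRegular _ _ hk,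
      smul_eq_mul] at h1
    rw [h1]; ring
  refine ⟨s, fun k => a * (θ₀ : H → ℂ) k, hs0, hs1, hpart, ?_, ?_⟩
  · intro k hk
    have hint : IsIntegral ℤ ((θ₀ : H → ℂ) k) := by
      obtain ⟨n, ρ, -, hρ⟩ := θ₀.2
      rw [← hρ]
      exact isIntegral_char ρ k
    refine ⟨MemLocalRing.mul hM.2.1 haloc (memLocalRing_of_isIntegral hM.2.1 hint), ?_⟩
    have h1 := pow_defect_mul_div_centralizer hM b hb hl θ₀ hθ₀ h0 k hk
    rw [hd] at h1
    rw [hcardC k hk]
    have h3 : 4 * (a * (θ₀ : H → ℂ) k) /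
        (Nat.card (Subgroup.centralizer ({k} : Set H)) : ℂ) =
        a * (((2 : ℕ) : ℂ) ^ 2 * (θ₀ : H → ℂ) k /
          (Nat.card (Subgroup.centralizer ({k} : Set H)) : ℂ)) := by
      push_cast
      ring
    rw [h3]
    exact MemLocalRing.mul hM.2.1 haloc h1
  · intro g hg
    -- evaluate the parts at `1`
    have hreg1 : ¬ 2 ∣ orderOf (1 : H) := by rw [orderOf_one]; norm_num
    have hval : ∀ χ ∈ B, (s χ : ℂ) * (a * (θ₀ : H → ℂ) 1) =
        ∑ k : H, Cfsg.blockCoeff b k * (χ : G → ℂ) (y * (k : G)) := by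
      intro χ hχ
      rw [← hpart χ hχ 1 hreg1, blockPart_eq_sum_translate b _
        (twistRes_isClassFunction H (IsCharacter.isClassFunction
          (IsIrrCharacter.isCharacter χ.2)) y hcomm) 1]
      apply Finset.sum_congr rfl
      intro k _
      rw [mul_one]
    have hne : a * (θ₀ : H → ℂ) 1 ≠ 0 := mul_ne_zero ha0 hθ₀1
    have hmain : (a * (θ₀ : H → ℂ) 1) * ∑ᶠ χ ∈ B, (s χ : ℂ) * (χ : G → ℂ) g = 0 := by
      rw [finsum_mem_eq_sum_ite, Finset.mul_sum]
      have h1 : ∀ χ : Cfsg.IrrCharacter G,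
          (a * (θ₀ : H → ℂ) 1) * (if χ ∈ B then (s χ : ℂ) * (χ : G → ℂ) g else 0) =
          ∑ k : H, Cfsg.blockCoeff b k *
            (if χ ∈ B then (χ : G → ℂ) (y * (k : G)) * (χ : G → ℂ) g else 0) := by
        intro χ
        split_ifs with hχ
        · have := hval χ hχ
          calc (a * (θ₀ : H → ℂ) 1) * ((s χ : ℂ) * (χ : G → ℂ) g)
              = ((s χ : ℂ) * (a * (θ₀ : H → ℂ) 1)) * (χ : G → ℂ) g := by ring
            _ = (∑ k : H, Cfsg.blockCoeff b k * (χ : G → ℂ) (y * (k : G))) *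
                (χ : G → ℂ) g := by rw [this]
            _ = _ := by
                rw [Finset.sum_mul]
                apply Finset.sum_congr rfl
                intro k _
                ring
        · simp
      rw [Finset.sum_congr rfl (fun χ _ => h1 χ), Finset.sum_comm]
      apply Finset.sum_eq_zero
      intro k _
      rw [← Finset.mul_sum]
      by_cases hk : 2 ∣ orderOf k
      · rw [blockCoeff_eq_zero_of_singular hM.2.1 2 hM.2.2 b hb k hk, zero_mul]
      · have hkG : ¬ 2 ∣ orderOf (k : G) := by rwa [Subgroup.orderOf_coe]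
        have hx : Cfsg.IsPPart 2 (y * (k : G)) y :=
          ⟨(k : G), rfl, hcomm k, hyo, hkG⟩
        have hy' : Cfsg.IsPPart 2 g⁻¹ 1 :=
          ⟨g⁻¹, one_mul _, Commute.one_left _, ⟨0, by rw [orderOf_one, pow_zero]⟩,
            by rwa [orderOf_inv]⟩
        have hnc : ¬ IsConj y 1 := by
          intro hc
          exact hy1 (isConj_one_left.mp hc)
        have h2 := block_orthogonality hM (y * (k : G)) g⁻¹ y 1 hx hy' hnc B hB
        rw [inv_inv, finsum_mem_eq_sum_ite] at h2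
        rw [h2, mul_zero]
    rcases mul_eq_zero.mp hmain with h | h
    · exact absurd h hne
    · exact h

end Cfsg.Agent.Helper6.K4
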