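import Mathlib
import Cfsg.Prelude.Def_Characters
import Cfsg.Prelude.Def_Blocks
import Cfsg.Prelude.Def_BlockRank
import Cfsg.Agent.Helper6.NilpPrincipal
import Cfsg.Agent.Helper6.IrrBasis

/-!
# Sign structures on a set of four irreducible characters: definitions and the two
orthogonality lemmas
-/

set_option autoImplicit false
set_option linter.style.haveILetI false

namespace Cfsg.Agent.Helper6.K4

open Cfsg.Agent.Helper6

open Module
open scoped ComplexConjugate

universe u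

variable {G : Type u} [Group G] {M : Ideal Cfsg.AlgInt}

/-- A **sign structure** of size `n` on the set `B` of irreducible characters: `n` pairwise
orthogonal sign vectors `s_i` on `B` such that the generalized characters `θ_i = ∑ s_i(χ) χ`
vanish on the `2`-regular elements, span the restrictions of the members of `B` to the `2`-singular
elements, and have values divisible by `4` and by the centralizer orders there. -/
def HasSignStructure (M : Ideal Cfsg.AlgInt) (B : Set (Cfsg.IrrCharacter G)) (n : ℕ) : Prop :=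
  ∃ s : Fin n → Cfsg.IrrCharacter G → ℤ,
    (∀ i, ∀ χ ∈ B, s i χ = 1 ∨ s i χ = -1) ∧
    (∀ i j, i ≠ j → ∑ᶠ χ ∈ B, s i χ * s j χ = 0) ∧
    (∀ i, ∀ g : G, ¬ 2 ∣ orderOf g → ∑ᶠ χ ∈ B, (s i χ : ℂ) * (χ : G → ℂ) g = 0) ∧
    (∀ g : G, 2 ∣ orderOf g → ∀ χ ∈ B,
      4 * (χ : G → ℂ) g = ∑ i, (s i χ : ℂ) * ∑ᶠ ψ ∈ B, (s i ψ : ℂ) * (ψ : G → ℂ) g) ∧
    (∀ i, ∀ g : G, 2 ∣ orderOf g →
      Cfsg.MemLocalRing M ((∑ᶠ ψ ∈ B, (s i ψ : ℂ) * (ψ : G → ℂ) g) / 4) ∧
      Cfsg.MemLocalRing M ((∑ᶠ ψ ∈ B, (s i ψ : ℂ) * (ψ : G → ℂ) g) /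
        (Nat.card (Subgroup.centralizer ({g} : Set G)) : ℂ)))

/-- two sign vectors on a set of four elements, both orthogonal to a positive vector and agreeing
at one point, are equal or orthogonal -/
theorem orth_or_eq_of_pos {ι : Type*} [DecidableEq ι] (F : Finset ι) (hF : F.card = 4)
    (s t D : ι → ℤ)
    (hs : ∀ χ ∈ F, s χ = 1 ∨ s χ = -1) (ht : ∀ χ ∈ F, t χ = 1 ∨ t χ = -1)
    (hD : ∀ χ ∈ F, 0 < D χ) (hsD : ∑ χ ∈ F, s χ * D χ = 0) (htD : ∑ χ ∈ F, t χ * D χ = 0)
    (χ₀ : ι) (hχ₀ : χ₀ ∈ F) (hs0 : s χ₀ = 1) (ht0 : t χ₀ = 1) :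
    (∀ χ ∈ F, s χ = t χ) ∨ ∑ χ ∈ F, s χ * t χ = 0 := by
  classical
  set A := F.filter (fun χ => s χ = t χ) with hA
  set A' := F.filter (fun χ => ¬ s χ = t χ) with hA'
  have hcard : A.card + A'.card = 4 := by
    rw [hA, hA', Finset.card_filter_add_card_filter_not, hF]
  have hsplit : ∀ f : ι → ℤ, ∑ χ ∈ F, f χ = ∑ χ ∈ A, f χ + ∑ χ ∈ A', f χ := fun f =>
    (Finset.sum_filter_add_sum_filter_not F _ f).symm
  -- on `A'` we have `t = -s`
  have hneg : ∀ χ ∈ A', t χ = -s χ := by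
    intro χ hχ
    rw [hA', Finset.mem_filter] at hχ
    rcases hs χ hχ.1 with h1 | h1 <;> rcases ht χ hχ.1 with h2 | h2
    · exact absurd (h1.trans h2.symm) hχ.2
    · rw [h1, h2]
    · rw [h1, h2]; ring
    · exact absurd (h1.trans h2.symm) hχ.2
  have heq : ∀ χ ∈ A, t χ = s χ := by
    intro χ hχ
    rw [hA, Finset.mem_filter] at hχ
    exact hχ.2.symm
  have h1 := hsplit (fun χ => s χ * D χ)
  have h2 := hsplit (fun χ => t χ * D χ)
  rw [hsD] at h1
  rw [htD] at h2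
  have h3 : ∑ χ ∈ A, t χ * D χ = ∑ χ ∈ A, s χ * D χ :=
    Finset.sum_congr rfl (fun χ hχ => by rw [heq χ hχ])
  have h4 : ∑ χ ∈ A', t χ * D χ = -∑ χ ∈ A', s χ * D χ := by
    rw [← Finset.sum_neg_distrib]
    exact Finset.sum_congr rfl (fun χ hχ => by rw [hneg χ hχ]; ring)
  rw [h3, h4] at h2
  have hAsum : ∑ χ ∈ A, s χ * D χ = 0 := by linarith
  have hA'sum : ∑ χ ∈ A', s χ * D χ = 0 := by linarith
  have hone : ∀ T : Finset ι, T ⊆ F → ∑ χ ∈ T, s χ * D χ = 0 → T.card ≠ 1 := by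
    intro T hT hsum hc
    obtain ⟨a, ha⟩ := Finset.card_eq_one.mp hc
    rw [ha, Finset.sum_singleton] at hsum
    have haF : a ∈ F := hT (by rw [ha]; exact Finset.mem_singleton_self a)
    have := hD a haF
    rcases hs a haF with h | h <;> rw [h] at hsum <;> linarith
  have hAF : A ⊆ F := Finset.filter_subset _ _
  have hA'F : A' ⊆ F := Finset.filter_subset _ _
  have hA1 := hone A hAF hAsum
  have hA'1 := hone A' hA'F hA'sum
  have hχ₀A : χ₀ ∈ A := by
    rw [hA, Finset.mem_filter]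
    exact ⟨hχ₀, hs0.trans ht0.symm⟩
  have hApos : 0 < A.card := Finset.card_pos.mpr ⟨χ₀, hχ₀A⟩
  have hst : ∑ χ ∈ F, s χ * t χ = (A.card : ℤ) - (A'.card : ℤ) := by
    rw [hsplit (fun χ => s χ * t χ)]
    have e1 : ∑ χ ∈ A, s χ * t χ = ∑ χ ∈ A, (1 : ℤ) := by
      apply Finset.sum_congr rfl
      intro χ hχ
      rw [heq χ hχ]
      rcases hs χ (hAF hχ) with h | h <;> rw [h] <;> norm_num
    have e2 : ∑ χ ∈ A', s χ * t χ = ∑ χ ∈ A', (-1 : ℤ) := by
      apply Finset.sum_congr rfl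
      intro χ hχ
      rw [hneg χ hχ]
      rcases hs χ (hA'F hχ) with h | h <;> rw [h] <;> norm_num
    rw [e1, e2]
    simp
    ring
  have hcases : A.card = 2 ∨ A.card = 4 := by omega
  rcases hcases with h | h
  · right
    rw [hst]
    have : A'.card = 2 := by omega
    rw [h, this]; norm_num
  · left
    have h0 : A'.card = 0 := by omega
    have hempty : A' = ∅ := Finset.card_eq_zero.mp h0
    intro χ hχ
    by_contra hne
    have : χ ∈ A' := by
      rw [hA', Finset.mem_filter]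
      exact ⟨hχ, hne⟩
    rw [hempty] at this
    exact absurd this (Finset.notMem_empty χ)

/-- if `B` has four members and rank three, a linear relation among the `2`-regular parts of
the members of `B` is determined by one coefficient -/
theorem eq_of_rel_of_rank_three [Finite G] (B : Set (Cfsg.IrrCharacter G))
    (hB4 : Nat.card B = 4) (hl : Cfsg.blockRank 2 B = 3) (χ₀ : Cfsg.IrrCharacter G)
    (hχ₀ : χ₀ ∈ B) (s t : Cfsg.IrrCharacter G → ℂ)
    (hs : ∀ g : G, ¬ 2 ∣ orderOf g → ∑ᶠ χ ∈ B, s χ * (χ : G → ℂ) g = 0)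
    (ht : ∀ g : G, ¬ 2 ∣ orderOf g → ∑ᶠ χ ∈ B, t χ * (χ : G → ℂ) g = 0)
    (hs0 : s χ₀ = 1) (ht0 : t χ₀ = 1) : ∀ χ ∈ B, s χ = t χ := by
  classical
  haveI : Finite (Cfsg.IrrCharacter G) := irr_finite
  haveI : Fintype B := Fintype.ofFinite B
  set v : B → (G → ℂ) := fun χ => Cfsg.pRegularPart 2 ((χ : Cfsg.IrrCharacter G) : G → ℂ) with hv
  set L : (B → ℂ) →ₗ[ℂ] (G → ℂ) := Fintype.linearCombination ℂ v with hL
  have hrange : LinearMap.range L = Submodule.span ℂ
      ((fun χ : Cfsg.IrrCharacter G => Cfsg.pRegularPart 2 (χ : G → ℂ)) '' B) := by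
    rw [hL, Fintype.range_linearCombination]
    congr 1
    ext f
    constructor
    · rintro ⟨χ, rfl⟩
      exact ⟨χ.1, χ.2, rfl⟩
    · rintro ⟨χ, hχ, rfl⟩
      exact ⟨⟨χ, hχ⟩, rfl⟩
  have hfr : finrank ℂ (LinearMap.range L) = 3 := by
    rw [hrange]; exact hl
  have hdom : finrank ℂ (B → ℂ) = 4 := by
    rw [Module.finrank_fintype_fun_eq_card, ← Nat.card_eq_fintype_card, hB4]
  have hker : finrank ℂ (LinearMap.ker L) = 1 := by
    have := LinearMap.finrank_range_add_finrank_ker L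
    omega
  have hmem : ∀ w : Cfsg.IrrCharacter G → ℂ,
      (∀ g : G, ¬ 2 ∣ orderOf g → ∑ᶠ χ ∈ B, w χ * (χ : G → ℂ) g = 0) →
      (fun χ : B => w χ) ∈ LinearMap.ker L := by
    intro w hw
    rw [LinearMap.mem_ker, hL, Fintype.linearCombination_apply]
    funext g
    rw [Finset.sum_apply, Pi.zero_apply]
    by_cases hg : 2 ∣ orderOf g
    · apply Finset.sum_eq_zero
      intro χ _
      rw [Pi.smul_apply, hv]
      simp only
      rw [pRegularPart_of_not_isPRegular _ _ (by unfold Cfsg.IsPRegular; exact not_not.mpr hg),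
        smul_zero]
    · have h1 := hw g hg
      rw [← finsum_set_coe_eq_finsum_mem, finsum_eq_sum_of_fintype] at h1
      rw [← h1]
      apply Finset.sum_congr rfl
      intro χ _
      rw [Pi.smul_apply, hv]
      simp only
      rw [pRegularPart_of_isPRegular _ _ hg, smul_eq_mul]
  have hsk := hmem s hs
  have htk := hmem t ht
  have hne : (⟨fun χ : B => s χ, hsk⟩ : LinearMap.ker L) ≠ 0 := by
    intro h0
    have h1 := congrArg (fun w : LinearMap.ker L => (w : B → ℂ) ⟨χ₀, hχ₀⟩) h0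
    simp only [ZeroMemClass.coe_zero, Pi.zero_apply] at h1
    rw [hs0] at h1
    exact one_ne_zero h1
  obtain ⟨c, hc⟩ := (finrank_eq_one_iff_of_nonzero' _ hne).mp hker ⟨fun χ : B => t χ, htk⟩
  have hc' : ∀ χ : B, c * s χ = t χ := by
    intro χ
    have := congrArg (fun w : LinearMap.ker L => (w : B → ℂ) χ) hc
    simpa using this
  have hc1 : c = 1 := by
    have := hc' ⟨χ₀, hχ₀⟩
    simp only at this
    rw [hs0, ht0, mul_one] at this
    exact this
  intro χ hχ
  have := hc' ⟨χ, hχ⟩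
  simp only at this
  rw [hc1, one_mul] at this
  exact this

end Cfsg.Agent.Helper6.K4
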