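import Mathlib
import Cfsg.Prelude.Def_Characters
import Cfsg.Prelude.Def_Blocks
import Cfsg.Prelude.Def_BlockRank
import Cfsg.Agent.Helper6.K4P
import Cfsg.Agent.Helper6.RankTrace
import Cfsg.Agent.Helper6.NormTwo
import Cfsg.Agent.Helper6.Osima1
import Cfsg.Agent.Helper6.BlockPart
import Cfsg.Agent.Helper6.HeightZeroTrunc

/-!
# From a family of normalized sign vectors to a sign structure
-/

set_option autoImplicit false
set_option linter.style.haveILetI false

namespace Cfsg.Agent.Helper6.K4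

open Cfsg.Agent.Helper6

open Module
open scoped ComplexConjugate

universe u

variable {G : Type u} [Group G] {M : Ideal Cfsg.AlgInt}

open Classical in
set_option maxHeartbeats 1600000 in
/-- **sign structure from a family**: a finite family of sign vectors on a block `B` with four
members (rank `1` or `3`), normalized at `χ₀`, whose generalized characters vanish on the
`2`-regular elements and which expand the members of `B` on each `2`-singular element with
coefficients that are local integers divisible by `|C(x)|/4`, yields a sign structure of size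
`4 - l(B)`. -/
theorem hasSignStructure_of_family [Finite G] (hM : Cfsg.IsPModular 2 M)
    (B : Set (Cfsg.IrrCharacter G)) (hB : Cfsg.IsPBlock M B) (hB4 : Nat.card B = 4)
    (hl : Cfsg.blockRank 2 B = 1 ∨ Cfsg.blockRank 2 B = 3)
    (χ₀ : Cfsg.IrrCharacter G) (hχ₀ : χ₀ ∈ B)
    {Idx : Type*} [Fintype Idx] (sg : Idx → Cfsg.IrrCharacter G → ℤ)
    (h0 : ∀ σ, sg σ χ₀ = 1) (h1 : ∀ σ, ∀ χ ∈ B, sg σ χ = 1 ∨ sg σ χ = -1)
    (hrel : ∀ σ, ∀ g : G, ¬ 2 ∣ orderOf g → ∑ᶠ χ ∈ B, (sg σ χ : ℂ) * (χ : G → ℂ) g = 0)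
    (hexp : ∀ x : G, 2 ∣ orderOf x → ∃ (J : Finset Idx) (w : Idx → ℂ),
      (∀ χ ∈ B, (χ : G → ℂ) x = ∑ σ ∈ J, (sg σ χ : ℂ) * w σ) ∧
      ∀ σ ∈ J, Cfsg.MemLocalRing M (w σ) ∧
        Cfsg.MemLocalRing M (4 * w σ / (Nat.card (Subgroup.centralizer ({x} : Set G)) : ℂ))) :
    HasSignStructure M B (4 - Cfsg.blockRank 2 B) := by
  haveI hp : Fact (Nat.Prime 2) := ⟨Nat.prime_two⟩
  haveI : Fintype G := Fintype.ofFinite G
  haveI : Finite (Cfsg.IrrCharacter G) := irr_finite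
  haveI : Fintype (Cfsg.IrrCharacter G) := Fintype.ofFinite _
  set FB := Finset.univ.filter (fun χ : Cfsg.IrrCharacter G => χ ∈ B) with hFB
  have hmemFB : ∀ φ, φ ∈ FB ↔ φ ∈ B := fun φ => by rw [hFB]; simp
  have hcard : FB.card = 4 := by
    rw [← hB4, Nat.card_eq_fintype_card, Fintype.card_subtype]
  have hBFB : B = ((FB : Finset (Cfsg.IrrCharacter G)) : Set (Cfsg.IrrCharacter G)) := by
    ext φ
    rw [Finset.mem_coe, hmemFB]
  have hfs : ∀ f : Cfsg.IrrCharacter G → ℂ, ∑ᶠ χ ∈ B, f χ = ∑ χ ∈ FB, f χ := by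
    intro f
    conv_lhs => rw [hBFB]
    rw [finsum_mem_coe_finset]
  have hfsZ : ∀ f : Cfsg.IrrCharacter G → ℤ, ∑ᶠ χ ∈ B, f χ = ∑ χ ∈ FB, f χ := by
    intro f
    conv_lhs => rw [hBFB]
    rw [finsum_mem_coe_finset]
  have hsq1 : ∀ σ, ∀ χ ∈ FB, sg σ χ * sg σ χ = 1 := by
    intro σ χ hχ
    rcases h1 σ χ ((hmemFB χ).mp hχ) with h | h <;> rw [h] <;> norm_num
  -- the normalized vectors
  obtain ⟨s', hs'⟩ : ∃ s' : Idx → Cfsg.IrrCharacter G → ℤ,
      ∀ σ χ, s' σ χ = if χ ∈ B then sg σ χ else 0 := ⟨fun σ χ => if χ ∈ B then sg σ χ else 0,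
    fun _ _ => rfl⟩
  have hs'B : ∀ σ, ∀ χ ∈ FB, s' σ χ = sg σ χ := fun σ χ hχ => by
    rw [hs', if_pos ((hmemFB χ).mp hχ)]
  -- orthogonality
  have hO : ∀ σ τ, s' σ ≠ s' τ → ∑ χ ∈ FB, sg σ χ * sg τ χ = 0 := by
    intro σ τ hne
    have key : (∀ χ ∈ FB, sg σ χ = sg τ χ) ∨ ∑ χ ∈ FB, sg σ χ * sg τ χ = 0 := by
      rcases hl with hl1 | hl3
      · have hD : ∀ σ', ∑ χ ∈ FB, sg σ' χ * (Cfsg.charDegree (χ : G → ℂ) : ℤ) = 0 := by
          intro σ'
          have h2 := hrel σ' 1 (by rw [orderOf_one]; norm_num)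
          rw [hfs] at h2
          have h3 : ((∑ χ ∈ FB, sg σ' χ * (Cfsg.charDegree (χ : G → ℂ) : ℤ) : ℤ) : ℂ) = 0 := by
            rw [← h2]
            push_cast
            apply Finset.sum_congr rfl
            intro χ _
            rw [charDegree_cast_of_isCharacter (IsIrrCharacter.isCharacter χ.2)]
          exact_mod_cast h3
        exact orth_or_eq_of_pos FB hcard (sg σ) (sg τ)
          (fun χ => (Cfsg.charDegree (χ : G → ℂ) : ℤ))
          (fun χ hχ => h1 σ χ ((hmemFB χ).mp hχ)) (fun χ hχ => h1 τ χ ((hmemFB χ).mp hχ))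
          (fun χ _ => by
            have := charDegree_ne_zero_of_irr χ.2
            exact_mod_cast Nat.pos_of_ne_zero this)
          (hD σ) (hD τ) χ₀ ((hmemFB χ₀).mpr hχ₀) (h0 σ) (h0 τ)
      · left
        intro χ hχ
        have := eq_of_rel_of_rank_three B hB4 hl3 χ₀ hχ₀ (fun χ => (sg σ χ : ℂ))
          (fun χ => (sg τ χ : ℂ)) (hrel σ) (hrel τ) (by simp [h0 σ]) (by simp [h0 τ]) χ
          ((hmemFB χ).mp hχ)
        exact_mod_cast this
    rcases key with h | h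
    · exfalso
      apply hne
      funext χ
      rw [hs', hs']
      split_ifs with hχ
      · exact h χ ((hmemFB χ).mpr hχ)
      · rfl
    · exact h
  -- the set of distinct vectors and its enumeration
  obtain ⟨S, hS⟩ : ∃ S : Finset (Cfsg.IrrCharacter G → ℤ), S = Finset.univ.image s' := ⟨_, rfl⟩
  obtain ⟨n, hn⟩ : ∃ n : ℕ, n = S.card := ⟨_, rfl⟩
  obtain ⟨f⟩ : Nonempty (Fin n ≃ S) := by
    rw [hn]
    exact ⟨S.equivFin.symm⟩
  obtain ⟨s, hsdef⟩ : ∃ s : Fin n → Cfsg.IrrCharacter G → ℤ, ∀ i, s i = (f i).1 :=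
    ⟨fun i => (f i).1, fun _ => rfl⟩
  have hsσ : ∀ i, ∃ σ, s' σ = s i := by
    intro i
    obtain ⟨⟨val, hval⟩, hfi⟩ : ∃ v : S, f i = v := ⟨_, rfl⟩
    rw [hS, Finset.mem_image] at hval
    obtain ⟨σ, -, h3⟩ := hval
    exact ⟨σ, by rw [hsdef, hfi, h3]⟩
  choose rep hrep using hsσ
  have hidx : ∀ σ, ∃ i, s i = s' σ := by
    intro σ
    have hmem : s' σ ∈ S := by rw [hS]; exact Finset.mem_image_of_mem _ (Finset.mem_univ σ)
    refine ⟨f.symm ⟨s' σ, hmem⟩, ?_⟩
    rw [hsdef, Equiv.apply_symm_apply]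
  choose ix hix using hidx
  have hsinj : Function.Injective s := by
    intro i j h
    apply f.injective
    apply Subtype.ext
    rw [← hsdef, ← hsdef, h]
  have hsB : ∀ i, ∀ χ ∈ FB, s i χ = sg (rep i) χ := fun i χ hχ => by
    rw [← hrep i, hs'B _ χ hχ]
  have hspm : ∀ i, ∀ χ ∈ B, s i χ = 1 ∨ s i χ = -1 := fun i χ hχ => by
    rw [hsB i χ ((hmemFB χ).mpr hχ)]
    exact h1 _ χ hχ
  have hssq : ∀ i, ∀ χ ∈ FB, s i χ * s i χ = 1 := fun i χ hχ => by
    rw [hsB i χ hχ]; exact hsq1 _ χ hχ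
  -- inner products
  have hinner : ∀ i σ, ∑ ψ ∈ FB, s i ψ * sg σ ψ = if s i = s' σ then 4 else 0 := by
    intro i σ
    split_ifs with h
    · have h2 : ∀ ψ ∈ FB, s i ψ * sg σ ψ = 1 := by
        intro ψ hψ
        rw [h, hs'B σ ψ hψ]
        exact hsq1 σ ψ hψ
      rw [Finset.sum_congr rfl h2]
      simp [hcard]
    · have h2 : s' (rep i) ≠ s' σ := by rw [hrep i]; exact h
      have h3 := hO (rep i) σ h2
      rw [← h3]
      apply Finset.sum_congr rfl
      intro ψ hψ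
      rw [hsB i ψ hψ]
  have hinnerC : ∀ i σ, ∑ ψ ∈ FB, (s i ψ : ℂ) * (sg σ ψ : ℂ) = if s i = s' σ then 4 else 0 := by
    intro i σ
    have := hinner i σ
    have h2 : ((∑ ψ ∈ FB, s i ψ * sg σ ψ : ℤ) : ℂ) = ((if s i = s' σ then 4 else 0 : ℤ) : ℂ) := by
      rw [this]
    push_cast at h2
    rw [h2]
  -- relations
  have hsrel : ∀ i, ∀ g : G, ¬ 2 ∣ orderOf g → ∑ χ ∈ FB, (s i χ : ℂ) * (χ : G → ℂ) g = 0 := by
    intro i g hg
    have h2 := hrel (rep i) g hg
    rw [hfs] at h2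
    rw [← h2]
    apply Finset.sum_congr rfl
    intro χ hχ
    rw [hsB i χ hχ]
  -- theta on singular elements
  have htheta : ∀ x : G, 2 ∣ orderOf x → ∃ (J : Finset Idx) (w : Idx → ℂ),
      (∀ χ ∈ B, (χ : G → ℂ) x = ∑ σ ∈ J, (sg σ χ : ℂ) * w σ) ∧
      (∀ σ ∈ J, Cfsg.MemLocalRing M (w σ) ∧
        Cfsg.MemLocalRing M (4 * w σ / (Nat.card (Subgroup.centralizer ({x} : Set G)) : ℂ))) ∧
      ∀ i, ∑ ψ ∈ FB, (s i ψ : ℂ) * (ψ : G → ℂ) x =
        4 * ∑ σ ∈ J.filter (fun σ => s i = s' σ), w σ := by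
    intro x hx
    obtain ⟨J, w, hw1, hw2⟩ := hexp x hx
    refine ⟨J, w, hw1, hw2, ?_⟩
    intro i
    have h2 : ∑ ψ ∈ FB, (s i ψ : ℂ) * (ψ : G → ℂ) x =
        ∑ σ ∈ J, w σ * ∑ ψ ∈ FB, (s i ψ : ℂ) * (sg σ ψ : ℂ) := by
      have h3 : ∀ ψ ∈ FB, (s i ψ : ℂ) * (ψ : G → ℂ) x =
          ∑ σ ∈ J, w σ * ((s i ψ : ℂ) * (sg σ ψ : ℂ)) := by
        intro ψ hψ
        rw [hw1 ψ ((hmemFB ψ).mp hψ), Finset.mul_sum]
        apply Finset.sum_congr rfl
        intro σ _
        ring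
      rw [Finset.sum_congr rfl h3, Finset.sum_comm]
      apply Finset.sum_congr rfl
      intro σ _
      rw [Finset.mul_sum]
    rw [h2, Finset.mul_sum, Finset.sum_filter]
    apply Finset.sum_congr rfl
    intro σ _
    rw [hinnerC]
    split_ifs <;> ring
  -- the structure
  have hstruct : HasSignStructure M B n := by
    refine ⟨s, hspm, ?_, ?_, ?_, ?_⟩
    · intro i j hij
      rw [hfsZ]
      have h2 := hinner i (rep j)
      rw [hrep j, if_neg (fun h => hij (hsinj h))] at h2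
      rw [← h2]
      apply Finset.sum_congr rfl
      intro χ hχ
      rw [hsB j χ hχ]
    · intro i g hg
      rw [hfs]
      exact hsrel i g hg
    · intro g hg χ hχ
      obtain ⟨J, w, hw1, -, hw3⟩ := htheta g hg
      have h2 : ∀ i, (s i χ : ℂ) * ∑ᶠ ψ ∈ B, (s i ψ : ℂ) * (ψ : G → ℂ) g =
          4 * ∑ σ ∈ J, if s i = s' σ then (sg σ χ : ℂ) * w σ else 0 := by
        intro i
        rw [hfs, hw3 i, Finset.sum_filter, Finset.mul_sum, Finset.mul_sum, Finset.mul_sum]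
        apply Finset.sum_congr rfl
        intro σ _
        split_ifs with h
        · rw [h, hs'B σ χ ((hmemFB χ).mpr hχ)]
          ring
        · ring
      rw [Finset.sum_congr rfl (fun i _ => h2 i), ← Finset.mul_sum, Finset.sum_comm, hw1 χ hχ]
      congr 1
      apply Finset.sum_congr rfl
      intro σ _
      rw [Finset.sum_eq_single (ix σ)]
      · rw [if_pos (hix σ)]
      · intro i _ hi
        rw [if_neg]
        intro h
        apply hi
        apply hsinj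
        rw [h, hix σ]
      · intro h; exact absurd (Finset.mem_univ _) h
    · intro i g hg
      obtain ⟨J, w, -, hw2, hw3⟩ := htheta g hg
      rw [hfs, hw3 i]
      constructor
      · have h2 : (4 * ∑ σ ∈ J.filter (fun σ => s i = s' σ), w σ) / 4 =
            ∑ σ ∈ J.filter (fun σ => s i = s' σ), w σ := by
          rw [mul_div_assoc, mul_comm, div_mul_cancel₀]
          norm_num
        rw [h2]
        apply MemLocalRing.sum hM.2.1
        intro σ hσ
        exact (hw2 σ (Finset.mem_filter.mp hσ).1).1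
      · rw [Finset.mul_sum, Finset.sum_div]
        apply MemLocalRing.sum hM.2.1
        intro σ hσ
        exact (hw2 σ (Finset.mem_filter.mp hσ).1).2
  -- the count
  have hcount : n = 4 - Cfsg.blockRank 2 B := by
    obtain ⟨s₁, hs₁, -, hs₃, hs₄, -⟩ := hstruct
    have hG0 : (Nat.card G : ℂ) ≠ 0 := by
      have : 0 < Nat.card G := Nat.card_pos
      exact_mod_cast this.ne'
    have hrank := card_mul_blockRank hM.2.1 2 hM.2.2 B hB
    obtain ⟨T, hT⟩ : ∃ T : G → ℂ, ∀ x, T x = ∑ χ ∈ FB, (χ : G → ℂ) x * (χ : G → ℂ) x⁻¹ :=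
      ⟨_, fun _ => rfl⟩
    obtain ⟨θ, hθ⟩ : ∃ θ : Fin n → G → ℂ,
        ∀ i x, θ i x = ∑ ψ ∈ FB, (s₁ i ψ : ℂ) * (ψ : G → ℂ) x := ⟨_, fun _ _ => rfl⟩
    have horth : ∀ χ ψ : Cfsg.IrrCharacter G,
        ∑ x : G, (χ : G → ℂ) x * (ψ : G → ℂ) x⁻¹ = if χ = ψ then (Nat.card G : ℂ) else 0 := by
      intro χ ψ
      have h2 := classInner_irr_ite χ.2 ψ.2
      unfold Cfsg.classInner at h2
      have h3 : ∑ x : G, (χ : G → ℂ) x * (ψ : G → ℂ) x⁻¹ =
          ∑ g : G, (χ : G → ℂ) g * conj ((ψ : G → ℂ) g) := by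
        apply Finset.sum_congr rfl
        intro g _
        rw [IsCharacter.inv_eq_conj (IsIrrCharacter.isCharacter ψ.2)]
      rw [h3]
      have h4 : ∑ g : G, (χ : G → ℂ) g * conj ((ψ : G → ℂ) g) =
          (Nat.card G : ℂ) * if (χ : G → ℂ) = (ψ : G → ℂ) then 1 else 0 := by
        rw [← h2]; field_simp
      rw [h4]
      by_cases hχψ : χ = ψ
      · rw [if_pos hχψ, if_pos (by rw [hχψ]), mul_one]
      · rw [if_neg hχψ, if_neg (fun h => hχψ (Subtype.ext h)), mul_zero]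
    have hA : ∑ x : G, T x = 4 * (Nat.card G : ℂ) := by
      simp_rw [hT]
      rw [Finset.sum_comm]
      simp_rw [horth, if_pos]
      simp [hcard]
    have hBx : ∀ x : G, ∑ᶠ χ ∈ B, Cfsg.pRegularPart 2 (χ : G → ℂ) x * (χ : G → ℂ) x⁻¹ =
        if 2 ∣ orderOf x then 0 else T x := by
      intro x
      rw [hfs, hT]
      split_ifs with hx
      · apply Finset.sum_eq_zero
        intro χ _
        rw [pRegularPart_of_not_isPRegular _ _ (by unfold Cfsg.IsPRegular; exact not_not.mpr hx),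
          zero_mul]
      · apply Finset.sum_congr rfl
        intro χ _
        rw [pRegularPart_of_isPRegular _ _ hx]
    have hs₁sq : ∀ i, ∀ χ ∈ FB, (s₁ i χ : ℂ) * (s₁ i χ : ℂ) = 1 := by
      intro i χ hχ
      rcases hs₁ i χ ((hmemFB χ).mp hχ) with h | h <;> rw [h] <;> norm_num
    have hC : ∀ x : G, 2 ∣ orderOf x → T x = (1 / 4) * ∑ i, θ i x * θ i x⁻¹ := by
      intro x hx
      have h2 : ∀ χ ∈ FB, (χ : G → ℂ) x * (χ : G → ℂ) x⁻¹ =
          (1 / 4) * ∑ i, θ i x * ((s₁ i χ : ℂ) * (χ : G → ℂ) x⁻¹) := by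
        intro χ hχ
        have h3 := hs₄ x hx χ ((hmemFB χ).mp hχ)
        have h4 : (χ : G → ℂ) x = (1 / 4) * ∑ i, (s₁ i χ : ℂ) * θ i x := by
          have : ∑ i, (s₁ i χ : ℂ) * θ i x = 4 * (χ : G → ℂ) x := by
            rw [h3]
            apply Finset.sum_congr rfl
            intro i _
            rw [hθ, hfs]
          rw [this]; ring
        rw [h4, mul_assoc, Finset.sum_mul]
        congr 1
        apply Finset.sum_congr rfl
        intro i _
        ring
      rw [hT, Finset.sum_congr rfl h2, ← Finset.mul_sum, Finset.sum_comm]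
      congr 1
      apply Finset.sum_congr rfl
      intro i _
      rw [← Finset.mul_sum, hθ i x⁻¹]
    have hθreg : ∀ i, ∀ x : G, ¬ 2 ∣ orderOf x → θ i x = 0 := by
      intro i x hx
      rw [hθ, ← hfs]
      exact hs₃ i x hx
    have hD : ∀ i, ∑ x : G, θ i x * θ i x⁻¹ = 4 * (Nat.card G : ℂ) := by
      intro i
      have h2 : ∀ x : G, θ i x * θ i x⁻¹ = ∑ χ ∈ FB, ∑ ψ ∈ FB,
          (s₁ i χ : ℂ) * (s₁ i ψ : ℂ) * ((χ : G → ℂ) x * (ψ : G → ℂ) x⁻¹) := by
        intro x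
        rw [hθ, hθ, Finset.sum_mul_sum]
        apply Finset.sum_congr rfl
        intro χ _
        apply Finset.sum_congr rfl
        intro ψ _
        ring
      simp_rw [h2]
      rw [Finset.sum_comm]
      have h3 : ∀ χ ∈ FB, ∑ x : G, ∑ ψ ∈ FB,
          (s₁ i χ : ℂ) * (s₁ i ψ : ℂ) * ((χ : G → ℂ) x * (ψ : G → ℂ) x⁻¹) = (Nat.card G : ℂ) := by
        intro χ hχ
        rw [Finset.sum_comm]
        simp_rw [← Finset.mul_sum, horth]
        rw [Finset.sum_eq_single χ]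
        · rw [if_pos rfl, hs₁sq i χ hχ, one_mul]
        · intro ψ _ hψ
          rw [if_neg (Ne.symm hψ), mul_zero]
        · intro h; exact absurd hχ h
      rw [Finset.sum_congr rfl h3]
      simp [hcard]
    have hE : ∑ x : G, (if 2 ∣ orderOf x then T x else 0) = (n : ℂ) * (Nat.card G : ℂ) := by
      have h2 : ∀ x : G, (if 2 ∣ orderOf x then T x else 0) =
          (1 / 4) * ∑ i, θ i x * θ i x⁻¹ := by
        intro x
        split_ifs with hx
        · exact hC x hx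
        · symm
          rw [mul_eq_zero]
          right
          apply Finset.sum_eq_zero
          intro i _
          rw [hθreg i x hx, zero_mul]
      rw [Finset.sum_congr rfl (fun x _ => h2 x), ← Finset.mul_sum, Finset.sum_comm]
      simp_rw [hD]
      simp
      ring
    have hF : ∑ x : G, (if 2 ∣ orderOf x then 0 else T x) =
        4 * (Nat.card G : ℂ) - (n : ℂ) * (Nat.card G : ℂ) := by
      rw [← hA, ← hE, ← Finset.sum_sub_distrib]
      apply Finset.sum_congr rfl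
      intro x _
      split_ifs <;> ring
    rw [Finset.sum_congr rfl (fun x _ => hBx x), hF] at hrank
    have h5 : (Cfsg.blockRank 2 B : ℂ) = 4 - (n : ℂ) := by
      have h6 : (Nat.card G : ℂ) * (Cfsg.blockRank 2 B : ℂ) =
          (Nat.card G : ℂ) * (4 - (n : ℂ)) := by rw [hrank]; ring
      exact mul_left_cancel₀ hG0 h6
    have h7 : ((Cfsg.blockRank 2 B + n : ℕ) : ℂ) = ((4 : ℕ) : ℂ) := by
      push_cast
      rw [h5]; ring
    have h8 : Cfsg.blockRank 2 B + n = 4 := by exact_mod_cast h7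
    omega
  rw [← hcount]
  exact hstruct

end Cfsg.Agent.Helper6.K4
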