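import Mathlib
import Cfsg.Prelude.Def_Characters
import Cfsg.Prelude.Def_Blocks
import Cfsg.Prelude.Def_BlockRank
import Cfsg.Agent.Helper6.K4J
import Cfsg.Agent.Helper6.SecondMainD
import Cfsg.Agent.Helper6.InducedPart

/-!
# The second main theorem, summed over the subsections with a given first component
-/

set_option autoImplicit false
set_option linter.style.haveILetI false

namespace Cfsg.Agent.Helper6.K4

open Cfsg.Agent.Helper6

open Module
open scoped ComplexConjugate

universe u

variable {G : Type u} [Group G] {M : Ideal Cfsg.AlgInt}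

open Classical in
/-- **second main theorem** in block form -/
theorem second_main_blocks [Finite G] {p : ℕ} [hp : Fact p.Prime] (hM : Cfsg.IsPModular p M)
    (x : G) (hx : ∃ k : ℕ, orderOf x = p ^ k) (B : Set (Cfsg.IrrCharacter G))
    (hB : Cfsg.IsPBlock M B) (χ : Cfsg.IrrCharacter G) (hχ : χ ∈ B)
    (y : Subgroup.centralizer ({x} : Set G)) (hy : ¬ p ∣ orderOf y) :
    ∑ᶠ β ∈ subsecSet M B x, Cfsg.blockPart β
      (fun c : Subgroup.centralizer ({x} : Set G) => (χ : G → ℂ) (x * (c : G))) y =
      (χ : G → ℂ) (x * (y : G)) := by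
  haveI : Fintype G := Fintype.ofFinite G
  haveI : Fintype (Subgroup.centralizer ({x} : Set G)) := Fintype.ofFinite _
  haveI : Finite (Cfsg.IrrCharacter (Subgroup.centralizer ({x} : Set G))) := irr_finite
  have h1 := second_main_sum hM x hx B hB χ y hy
  rw [if_pos hχ] at h1
  rw [← h1]
  have hset : {ψ : Cfsg.IrrCharacter (Subgroup.centralizer ({x} : Set G)) |
      Cfsg.IsInducedBlock M (Subgroup.centralizer ({x} : Set G))
        (Cfsg.blockOf M (ψ : Subgroup.centralizer ({x} : Set G) → ℂ)) B} =
      ⋃ β ∈ subsecSet M B x, β := by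
    ext ψ
    simp only [Set.mem_ofPred_eq, Set.mem_iUnion, exists_prop]
    constructor
    · intro h
      exact ⟨_, h, mem_blockOf_self hM.2.1 ψ⟩
    · rintro ⟨β, hβ, hψ⟩
      have : β = Cfsg.blockOf M (ψ : Subgroup.centralizer ({x} : Set G) → ℂ) :=
        eq_blockOf_of_mem hM.2.1 β hβ.1 ψ hψ
      rw [← this]
      exact hβ
  rw [hset, finsum_mem_biUnion]
  · apply finsum_mem_congr rfl
    intro β _
    rw [blockPart_apply]
  · intro β hβ β' hβ' hne
    rw [Function.onFun, Set.disjoint_left]
    intro ψ hψ hψ'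
    apply hne
    rw [eq_blockOf_of_mem hM.2.1 β hβ.1 ψ hψ, eq_blockOf_of_mem hM.2.1 β' hβ'.1 ψ hψ']
  · exact Set.toFinite _
  · intro β _
    exact Set.toFinite _

end Cfsg.Agent.Helper6.K4
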