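import Mathlib
import Cfsg.Prelude.Def_Characters
import Cfsg.Prelude.Def_Blocks
import Cfsg.Prelude.Def_BlockLocal
import Cfsg.Prelude.Def_BlockRank
import Cfsg.Prelude.Def_BrauerPairs
import Cfsg.Agent.Helper6.K4K
import Cfsg.Agent.Helper6.K4O
import Cfsg.Agent.Helper6.K4Q
import Cfsg.Agent.Helper6.K4R
import Cfsg.Agent.Helper6.InducedTrans
import Cfsg.Agent.Helper6.InertialTrivial
import Cfsg.Agent.Helper6.PPartBasic

/-!
# The sign structure of a block with a Klein four defect group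
-/

set_option autoImplicit false
set_option linter.style.haveILetI false

namespace Cfsg.Agent.Helper6.K4

open Cfsg.Agent.Helper6

open Module
open scoped ComplexConjugate

universe u

variable {G : Type u} [Group G] {M : Ideal Cfsg.AlgInt}

/-- the index type of all non-trivial subsections -/
def AllSubsecIdx (M : Ideal Cfsg.AlgInt) (B : Set (Cfsg.IrrCharacter G)) : Type u :=
  Σ x : {x : G // x ≠ 1 ∧ ∃ k : ℕ, orderOf x = 2 ^ k}, ↥(subsecSet M B x.1)

instance [Finite G] (B : Set (Cfsg.IrrCharacter G)) : Finite (AllSubsecIdx M B) := by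
  unfold AllSubsecIdx
  haveI : ∀ x : G, Finite (Cfsg.IrrCharacter (Subgroup.centralizer ({x} : Set G))) :=
    fun x => irr_finite
  infer_instance

open Classical in
set_option maxHeartbeats 1000000 in
/-- **structure theorem** for blocks with a Klein four defect group -/
theorem klein_hasSignStructure [Finite G] (hM : Cfsg.IsPModular 2 M)
    (B : Set (Cfsg.IrrCharacter G)) (hB : Cfsg.IsPBlock M B) (P : Subgroup G)
    (hPD : Cfsg.IsDefectGroup 2 M B P) (hV : IsKleinFour P) :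
    Nat.card B = 4 ∧ (Cfsg.blockRank 2 B = 1 ∨ Cfsg.blockRank 2 B = 3) ∧
      HasSignStructure M B (4 - Cfsg.blockRank 2 B) := by
  haveI := Fintype.ofFinite G
  haveI hp2 : Fact (Nat.Prime 2) := ⟨Nat.prime_two⟩
  obtain ⟨hsq, hcomm, -⟩ := klein_facts P hV
  have hPp : IsPGroup 2 P := by
    apply IsPGroup.of_card (n := 2)
    rw [hV.card_four]
    norm_num
  have hPC : P ≤ Subgroup.centralizer (P : Set G) := by
    intro x hx
    rw [Subgroup.mem_centralizer_iff]
    intro y hy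
    exact hcomm y hy x hx
  obtain ⟨c, hc⟩ := exists_block_inducing_local hM P (Subgroup.centralizer (P : Set G)) hPp hPC
    le_rfl (Subgroup.centralizer_le_normalizer _) B hB hPD
  obtain ⟨he, hB4, hrank⟩ := klein_four_main hM B hB P hPD hV c hc (pairStabilizer P c)
    (fun g => mem_pairStabilizer P c g) _ rfl
  have hl : Cfsg.blockRank 2 B = 1 ∨ Cfsg.blockRank 2 B = 3 := by
    rw [hrank]; exact he
  refine ⟨hB4, hl, ?_⟩
  have hmax := isMaximalBrauerPair_of_root hM B P hPD c hc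
  have hdB : Cfsg.blockDefect 2 B = 2 := by
    have h1 := card_defectGroup hM.2.1 2 hM.2.2 B hB P hPD
    rw [hV.card_four] at h1
    have h4 : (2 : ℕ) ^ Cfsg.blockDefect 2 B = 2 ^ 2 := by rw [← h1]; norm_num
    exact Nat.pow_right_injective (le_refl 2) h4
  have hh : ∀ χ ∈ B, Cfsg.blockHeight 2 B (χ : G → ℂ) = 0 := by
    intro χ hχ
    have := (blockHeight_le_sub_two hM B hB χ hχ).2 (by omega)
    omega
  obtain ⟨χ₀, hχ₀⟩ := isPBlock_nonempty' hM.2.1 B hB
  -- the data of the subsections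
  haveI : Fintype (AllSubsecIdx M B) := Fintype.ofFinite _
  have hdata : ∀ σ : AllSubsecIdx M B,
      ∃ (s : Cfsg.IrrCharacter G → ℤ) (v : Subgroup.centralizer ({σ.1.1} : Set G) → ℂ),
      s χ₀ = 1 ∧ (∀ χ ∈ B, s χ = 1 ∨ s χ = -1) ∧
      (∀ χ ∈ B, ∀ k : Subgroup.centralizer ({σ.1.1} : Set G), ¬ 2 ∣ orderOf k →
        Cfsg.blockPart σ.2.1 (fun c : Subgroup.centralizer ({σ.1.1} : Set G) =>
          (χ : G → ℂ) (σ.1.1 * (c : G))) k = (s χ : ℂ) * v k) ∧
      (∀ k : Subgroup.centralizer ({σ.1.1} : Set G), ¬ 2 ∣ orderOf k →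
        Cfsg.MemLocalRing M (v k) ∧
        Cfsg.MemLocalRing M (4 * v k /
          (Nat.card (Subgroup.centralizer ({σ.1.1 * (k : G)} : Set G)) : ℂ))) ∧
      (∀ g : G, ¬ 2 ∣ orderOf g → ∑ᶠ χ ∈ B, (s χ : ℂ) * (χ : G → ℂ) g = 0) := by
    rintro ⟨⟨x, hx1, hxp⟩, ⟨β, hβ⟩⟩
    obtain ⟨hox, hdβ⟩ := subsection_defect hM B P c hmax hV x hxp hx1 β hβ
    have hlβ := subsection_rank_one hM B P c hmax hV x hxp hx1 β hβ
    have hx2 : x ^ 2 = 1 := by rw [← hox]; exact pow_orderOf_eq_one x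
    exact subsection_data hM B hB hB4 hh x hx2 hx1 _ rfl β hβ hdβ hlβ χ₀ hχ₀
  choose sg vv hs0 hs1 hpart hint hrel using hdata
  apply hasSignStructure_of_family hM B hB hB4 hl χ₀ hχ₀ sg hs0 hs1 hrel
  intro x hx
  obtain ⟨u, y, huy, hcommuy, hup, hyreg⟩ := exists_isPPart 2 x
  have hu1 : u ≠ 1 := by
    intro h
    rw [h, one_mul] at huy
    rw [← huy] at hx
    exact hyreg hx
  have hyC : y ∈ Subgroup.centralizer ({u} : Set G) := by
    rw [Subgroup.mem_centralizer_singleton_iff]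
    exact hcommuy.eq.symm
  have hkreg : ¬ 2 ∣ orderOf (⟨y, hyC⟩ : Subgroup.centralizer ({u} : Set G)) := by
    rw [Subgroup.orderOf_mk]; exact hyreg
  haveI : Finite (Cfsg.IrrCharacter (Subgroup.centralizer ({u} : Set G))) := irr_finite
  haveI : Fintype ↥(subsecSet M B u) := Fintype.ofFinite _
  set emb : ↥(subsecSet M B u) → AllSubsecIdx M B := fun β => ⟨⟨u, hu1, hup⟩, β⟩ with hemb
  have hembinj : Function.Injective emb := by
    intro β β' h
    rw [hemb] at h
    simp only at h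
    exact eq_of_heq (Sigma.mk.inj h).2
  refine ⟨Finset.univ.image emb, fun σ => if h : y ∈ Subgroup.centralizer ({σ.1.1} : Set G)
    then vv σ ⟨y, h⟩ else 0, ?_, ?_⟩
  · intro χ hχ
    rw [Finset.sum_image (fun a _ b _ h => hembinj h)]
    have h1 := second_main_blocks hM u hup B hB χ hχ ⟨y, hyC⟩ hkreg
    simp only at h1
    rw [huy] at h1
    rw [← h1, ← finsum_set_coe_eq_finsum_mem, finsum_eq_sum_of_fintype]
    apply Finset.sum_congr rfl
    intro β _
    beta_reduce
    rw [dif_pos (show y ∈ Subgroup.centralizer ({(emb β).1.1} : Set G) from hyC)]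
    exact hpart (emb β) χ hχ ⟨y, hyC⟩ hkreg
  · intro σ hσ
    rw [Finset.mem_image] at hσ
    obtain ⟨β, -, rfl⟩ := hσ
    beta_reduce
    rw [dif_pos (show y ∈ Subgroup.centralizer ({(emb β).1.1} : Set G) from hyC)]
    have h1 := hint (emb β) ⟨y, hyC⟩ hkreg
    have h2 : (emb β).1.1 * ((⟨y, hyC⟩ : Subgroup.centralizer ({u} : Set G)) : G) = x := huy
    rw [h2] at h1
    exact h1

end Cfsg.Agent.Helper6.K4
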