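import Mathlib
import Cfsg.Prelude.Def_Characters
import Cfsg.Prelude.Def_Blocks
import Cfsg.Prelude.Def_BlockLocal
import Cfsg.Prelude.Def_BlockRank
import Cfsg.Prelude.Def_BrauerPairs
import Cfsg.Agent.Helper6.K4K
import Cfsg.Agent.Helper6.MaximalPairNormalizer
import Cfsg.Agent.Helper6.FirstMain
import Cfsg.Agent.Helper6.LocalTransport
import Cfsg.Agent.Helper6.SectionOrthD
import Cfsg.Agent.Helper6.InducedTrans
import Cfsg.Agent.Helper6.InertialTrivial

/-!
# A block with a Klein four defect group and its Brauer correspondent have the same rank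
-/

set_option autoImplicit false
set_option linter.style.haveILetI false

namespace Cfsg.Agent.Helper6.K4

open Cfsg.Agent.Helper6

open Module
open scoped ComplexConjugate

universe u

variable {G : Type u} [Group G] {M : Ideal Cfsg.AlgInt}

/-- being a Klein four group is invariant under isomorphism -/
theorem isKleinFour_of_mulEquiv {A A' : Type*} [Group A] [Group A'] (φ : A ≃* A')
    (h : IsKleinFour A') : IsKleinFour A where
  card_four := by rw [Nat.card_congr φ.toEquiv]; exact h.card_four
  exponent_two := by rw [Monoid.exponent_eq_of_mulEquiv φ]; exact h.exponent_two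

set_option maxHeartbeats 1000000 in
/-- the Brauer correspondent of a block with a Klein four defect group has the same rank -/
theorem blockRank_correspondent [Finite G] (hM : Cfsg.IsPModular 2 M)
    (B : Set (Cfsg.IrrCharacter G)) (hB : Cfsg.IsPBlock M B) (P : Subgroup G)
    (hPD : Cfsg.IsDefectGroup 2 M B P) (hV : IsKleinFour P)
    (c : Set (Cfsg.IrrCharacter (Subgroup.normalizer (P : Set G))))
    (hcD : Cfsg.IsDefectGroup 2 M c (P.subgroupOf (Subgroup.normalizer (P : Set G))))
    (hc : Cfsg.IsInducedBlock M (Subgroup.normalizer (P : Set G)) c B) :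
    Cfsg.blockRank 2 c = Cfsg.blockRank 2 B := by
  classical
  haveI := Fintype.ofFinite G
  haveI hp2 : Fact (Nat.Prime 2) := ⟨Nat.prime_two⟩
  obtain ⟨hsq, hcomm, -⟩ := klein_facts P hV
  have hPp : IsPGroup 2 P := by
    apply IsPGroup.of_card (n := 2)
    rw [hV.card_four]
    norm_num
  have hPC : P ≤ Subgroup.centralizer (P : Set G) := by
    intro x hx
    rw [Subgroup.mem_centralizer_iff]
    intro y hy
    exact hcomm y hy x hx
  obtain ⟨e, he⟩ := exists_block_inducing_local hM P (Subgroup.centralizer (P : Set G)) hPp hPC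
    le_rfl (Subgroup.centralizer_le_normalizer _) B hB hPD
  obtain ⟨-, -, hrankB⟩ := klein_four_main hM B hB P hPD hV e he (pairStabilizer P e)
    (fun g => mem_pairStabilizer P e g) _ rfl
  have hmax := isMaximalBrauerPair_of_root hM B P hPD e he
  obtain ⟨b, hbpair, hbD, hbind⟩ := normalizer_block_of_isMaximalBrauerPair hM B P e hmax
  have hbc : b = c := firstMain_ii_unique hM P hPp B b c hbD hcD hbind hc
  rw [hbc] at hbpair
  have hPN : P ≤ Subgroup.normalizer (P : Set G) := Subgroup.le_normalizer
  have hCN : Subgroup.centralizer (P : Set G) ≤ Subgroup.normalizer (P : Set G) :=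
    Subgroup.centralizer_le_normalizer _
  have hV' : IsKleinFour (P.subgroupOf (Subgroup.normalizer (P : Set G))) :=
    isKleinFour_of_mulEquiv (Subgroup.subgroupOfEquivOfLe hPN) hV
  have hP'C : P.subgroupOf (Subgroup.normalizer (P : Set G)) ≤
      Subgroup.centralizer ((P.subgroupOf (Subgroup.normalizer (P : Set G)) :
        Subgroup (Subgroup.normalizer (P : Set G))) : Set (Subgroup.normalizer (P : Set G))) := by
    intro x hx
    rw [mem_centralizer_subgroupOf_iff _ P hPN]
    exact hPC hx
  haveI : Fintype (Subgroup.normalizer (P : Set G)) := Fintype.ofFinite _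
  have hc' := isInducedBlock_of_isBrauerPairOf hM c _ hP'C _ hbpair
  obtain ⟨-, -, hrankc⟩ := klein_four_main hM c hc.1 _ hcD hV' _ hc' (pairStabilizer _ _)
    (fun g => mem_pairStabilizer _ _ g) _ rfl
  rw [hrankc, hrankB]
  have h1 : Subgroup.centralizer ((P.subgroupOf (Subgroup.normalizer (P : Set G)) :
        Subgroup (Subgroup.normalizer (P : Set G))) : Set (Subgroup.normalizer (P : Set G))) =
      (Subgroup.centralizer (P : Set G)).subgroupOf (Subgroup.normalizer (P : Set G)) := by
    ext k
    rw [mem_centralizer_subgroupOf_iff _ P hPN, Subgroup.mem_subgroupOf]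
  have h2 : pairStabilizer (P.subgroupOf (Subgroup.normalizer (P : Set G)))
      (localBlock (Subgroup.normalizer (P : Set G)) P hPN hCN e) =
      (pairStabilizer P e).subgroupOf (Subgroup.normalizer (P : Set G)) := by
    ext k
    rw [mem_pairStabilizer, Subgroup.mem_subgroupOf, mem_pairStabilizer,
      stabilizesBlock_localBlock_iff _ P hPN hCN le_rfl e k]
    constructor
    · rintro ⟨-, h⟩
      exact ⟨k.2, h⟩
    · rintro ⟨-, h⟩
      refine ⟨?_, h⟩
      rw [Subgroup.mem_normalizer_iff]
      intro h'
      rw [Subgroup.mem_subgroupOf, Subgroup.mem_subgroupOf]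
      exact Subgroup.mem_normalizer_iff.mp k.2 (h' : G)
  rw [h1, h2]
  apply Subgroup.relIndex_subgroupOf
  intro g hg
  exact hg.1

end Cfsg.Agent.Helper6.K4
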