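import Mathlib

/-!
# Combinatorics of `4 × 3` sign matrices with orthogonal columns, and matchings
-/

set_option autoImplicit false
set_option linter.style.haveILetI false

namespace Cfsg.Agent.Helper6.K4

/-- **rows of a `4 × 3` sign matrix** with pairwise orthogonal columns, all orthogonal to a
positive vector: the product of the entries of a row is a constant sign `e`, the rows are
distinct, and every sign row with product `e` occurs. -/
theorem hadamard_rows {ι : Type*} [DecidableEq ι] (F : Finset ι) (hF : F.card = 4)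
    (s : Fin 3 → ι → ℤ) (d : ι → ℤ)
    (hs : ∀ i, ∀ χ ∈ F, s i χ = 1 ∨ s i χ = -1)
    (hso : ∀ i j, i ≠ j → ∑ χ ∈ F, s i χ * s j χ = 0)
    (hd : ∀ χ ∈ F, 0 < d χ) (hsd : ∀ i, ∑ χ ∈ F, s i χ * d χ = 0) :
    ∃ e : ℤ, (e = 1 ∨ e = -1) ∧ (∀ χ ∈ F, s 0 χ * s 1 χ * s 2 χ = e) ∧
      (∀ χ ∈ F, ∀ ψ ∈ F, (∀ i, s i χ = s i ψ) → χ = ψ) ∧
      (∀ r : Fin 3 → ℤ, (∀ i, r i = 1 ∨ r i = -1) → r 0 * r 1 * r 2 = e →
        ∃ χ ∈ F, ∀ i, s i χ = r i) := by
  have hsq : ∀ i, ∀ χ ∈ F, s i χ ^ 2 = 1 := by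
    intro i χ hχ
    rcases hs i χ hχ with h | h <;> rw [h] <;> norm_num
  set h : ι → ℤ := fun χ => s 0 χ * s 1 χ * s 2 χ with hh
  have hhsq : ∀ χ ∈ F, h χ ^ 2 = 1 := by
    intro χ hχ
    rw [hh]
    simp only
    have h0 := hsq 0 χ hχ
    have h1 := hsq 1 χ hχ
    have h2 := hsq 2 χ hχ
    calc (s 0 χ * s 1 χ * s 2 χ) ^ 2 = s 0 χ ^ 2 * s 1 χ ^ 2 * s 2 χ ^ 2 := by ring
      _ = 1 := by rw [h0, h1, h2]; norm_num
  have h01 := hso 0 1 (by decide)
  have h02 := hso 0 2 (by decide)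
  have h12 := hso 1 2 (by decide)
  -- `h` is orthogonal to the columns
  have hh0 : ∑ χ ∈ F, h χ * s 0 χ = 0 := by
    rw [← h12]
    apply Finset.sum_congr rfl
    intro χ hχ
    have := hsq 0 χ hχ
    rw [hh]
    simp only
    linear_combination (s 1 χ * s 2 χ) * this
  have hh1 : ∑ χ ∈ F, h χ * s 1 χ = 0 := by
    rw [← h02]
    apply Finset.sum_congr rfl
    intro χ hχ
    have := hsq 1 χ hχ
    rw [hh]
    simp only
    linear_combination (s 0 χ * s 2 χ) * this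
  have hh2 : ∑ χ ∈ F, h χ * s 2 χ = 0 := by
    rw [← h01]
    apply Finset.sum_congr rfl
    intro χ hχ
    have := hsq 2 χ hχ
    rw [hh]
    simp only
    linear_combination (s 0 χ * s 1 χ) * this
  -- row orthogonality
  set K : ι → ι → ℤ := fun χ ψ => h χ * h ψ + s 0 χ * s 0 ψ + s 1 χ * s 1 ψ + s 2 χ * s 2 ψ
    with hK
  have hKdiag : ∀ χ ∈ F, K χ χ = 4 := by
    intro χ hχ
    rw [hK]
    simp only
    have := hhsq χ hχ
    have h0 := hsq 0 χ hχ
    have h1 := hsq 1 χ hχ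
    have h2 := hsq 2 χ hχ
    nlinarith
  have hKsq : ∀ χ ∈ F, ∑ ψ ∈ F, K χ ψ ^ 2 = 16 := by
    intro χ hχ
    have ha := hhsq χ hχ
    have hb := hsq 0 χ hχ
    have hc := hsq 1 χ hχ
    have hd' := hsq 2 χ hχ
    have key : ∀ ψ ∈ F, K χ ψ ^ 2 = 4 + 2 * (h χ * s 0 χ * (h ψ * s 0 ψ) +
        h χ * s 1 χ * (h ψ * s 1 ψ) + h χ * s 2 χ * (h ψ * s 2 ψ) +
        s 0 χ * s 1 χ * (s 0 ψ * s 1 ψ) + s 0 χ * s 2 χ * (s 0 ψ * s 2 ψ) +
        s 1 χ * s 2 χ * (s 1 ψ * s 2 ψ)) := by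
      intro ψ hψ
      have hA := hhsq ψ hψ
      have hB := hsq 0 ψ hψ
      have hC := hsq 1 ψ hψ
      have hD := hsq 2 ψ hψ
      rw [hK]
      simp only
      linear_combination (h ψ) ^ 2 * ha + hA + (s 0 ψ) ^ 2 * hb + hB + (s 1 ψ) ^ 2 * hc + hC +
        (s 2 ψ) ^ 2 * hd' + hD
    rw [Finset.sum_congr rfl key, Finset.sum_add_distrib, ← Finset.mul_sum]
    simp only [Finset.sum_add_distrib, ← Finset.mul_sum]
    rw [hh0, hh1, hh2, h01, h02, h12]
    simp [hF]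
  have hKoff : ∀ χ ∈ F, ∀ ψ ∈ F, χ ≠ ψ → K χ ψ = 0 := by
    intro χ hχ ψ hψ hne
    have h1 := hKsq χ hχ
    rw [← Finset.add_sum_erase F _ hχ, hKdiag χ hχ] at h1
    have h2 : ∑ ψ' ∈ F.erase χ, K χ ψ' ^ 2 = 0 := by linarith
    have h3 := (Finset.sum_eq_zero_iff_of_nonneg (fun ψ' _ => sq_nonneg (K χ ψ'))).mp h2 ψ
      (Finset.mem_erase.mpr ⟨hne.symm, hψ⟩)
    exact pow_eq_zero_iff (by norm_num) |>.mp h3
  -- `4 d = h * H`
  set H : ℤ := ∑ ψ ∈ F, h ψ * d ψ with hH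
  have h4d : ∀ χ ∈ F, 4 * d χ = h χ * H := by
    intro χ hχ
    have h1 : ∑ ψ ∈ F, K χ ψ * d ψ = 4 * d χ := by
      rw [← Finset.add_sum_erase F _ hχ, hKdiag χ hχ]
      have : ∑ ψ ∈ F.erase χ, K χ ψ * d ψ = 0 := by
        apply Finset.sum_eq_zero
        intro ψ hψ
        rw [hKoff χ hχ ψ (Finset.mem_of_mem_erase hψ) (Finset.ne_of_mem_erase hψ).symm, zero_mul]
      rw [this, add_zero]
    rw [← h1, hK]
    simp only
    have e1 : ∀ ψ ∈ F, (h χ * h ψ + s 0 χ * s 0 ψ + s 1 χ * s 1 ψ + s 2 χ * s 2 ψ) * d ψ =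
        h χ * (h ψ * d ψ) + s 0 χ * (s 0 ψ * d ψ) + s 1 χ * (s 1 ψ * d ψ) +
          s 2 χ * (s 2 ψ * d ψ) := fun ψ _ => by ring
    rw [Finset.sum_congr rfl e1]
    simp only [Finset.sum_add_distrib, ← Finset.mul_sum]
    rw [hsd 0, hsd 1, hsd 2]
    ring
  obtain ⟨χ₁, hχ₁⟩ : F.Nonempty := Finset.card_pos.mp (by rw [hF]; norm_num)
  have hH0 : H ≠ 0 := by
    intro h0
    have := h4d χ₁ hχ₁
    rw [h0, mul_zero] at this
    have := hd χ₁ hχ₁
    linarith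
  -- the sign `e`
  have hconst : ∀ χ ∈ F, h χ = h χ₁ := by
    intro χ hχ
    have e1 := h4d χ hχ
    have e2 := h4d χ₁ hχ₁
    have p1 := hd χ hχ
    have p2 := hd χ₁ hχ₁
    have q1 := hhsq χ hχ
    have q2 := hhsq χ₁ hχ₁
    have c1 : h χ = 1 ∨ h χ = -1 := by
      have : (h χ - 1) * (h χ + 1) = 0 := by ring_nf; linarith
      rcases mul_eq_zero.mp this with h' | h'
      · left; linarith
      · right; linarith
    have c2 : h χ₁ = 1 ∨ h χ₁ = -1 := by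
      have : (h χ₁ - 1) * (h χ₁ + 1) = 0 := by ring_nf; linarith
      rcases mul_eq_zero.mp this with h' | h'
      · left; linarith
      · right; linarith
    rcases c1 with a | a <;> rcases c2 with b | b
    · rw [a, b]
    · rw [a] at e1; rw [b] at e2; linarith
    · rw [a] at e1; rw [b] at e2; linarith
    · rw [a, b]
  have he : h χ₁ = 1 ∨ h χ₁ = -1 := by
    have q2 := hhsq χ₁ hχ₁
    have : (h χ₁ - 1) * (h χ₁ + 1) = 0 := by ring_nf; linarith
    rcases mul_eq_zero.mp this with h' | h'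
    · left; linarith
    · right; linarith
  -- constant degree and column sums
  have hdconst : ∀ χ ∈ F, d χ = d χ₁ := by
    intro χ hχ
    have e1 := h4d χ hχ
    have e2 := h4d χ₁ hχ₁
    rw [hconst χ hχ] at e1
    linarith
  have hcol : ∀ i, ∑ χ ∈ F, s i χ = 0 := by
    intro i
    have h1 := hsd i
    have h2 : ∑ χ ∈ F, s i χ * d χ = (∑ χ ∈ F, s i χ) * d χ₁ := by
      rw [Finset.sum_mul]
      apply Finset.sum_congr rfl
      intro χ hχ
      rw [hdconst χ hχ]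
    rw [h2] at h1
    rcases mul_eq_zero.mp h1 with h' | h'
    · exact h'
    · have := hd χ₁ hχ₁
      linarith
  refine ⟨h χ₁, he, fun χ hχ => hconst χ hχ, ?_, ?_⟩
  · intro χ hχ ψ hψ hrow
    by_contra hne
    have h1 := hKoff χ hχ ψ hψ hne
    rw [hK] at h1
    simp only at h1
    rw [hconst χ hχ, hconst ψ hψ, hrow 0, hrow 1, hrow 2] at h1
    have q2 := hhsq χ₁ hχ₁
    have h0 := hsq 0 ψ hψ
    have h1' := hsq 1 ψ hψ
    have h2 := hsq 2 ψ hψ
    nlinarith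
  · intro r hr hre
    have hrsq : ∀ i, r i ^ 2 = 1 := by
      intro i
      rcases hr i with h' | h' <;> rw [h'] <;> norm_num
    have hsum : ∑ χ ∈ F, (1 + r 0 * s 0 χ) * (1 + r 1 * s 1 χ) * (1 + r 2 * s 2 χ) = 8 := by
      have e1 : ∀ χ ∈ F, (1 + r 0 * s 0 χ) * (1 + r 1 * s 1 χ) * (1 + r 2 * s 2 χ) =
          1 + r 0 * s 0 χ + r 1 * s 1 χ + r 2 * s 2 χ + r 0 * r 1 * (s 0 χ * s 1 χ) +
            r 0 * r 2 * (s 0 χ * s 2 χ) + r 1 * r 2 * (s 1 χ * s 2 χ) +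
            r 0 * r 1 * r 2 * h χ := by
        intro χ _
        rw [hh]
        ring
      rw [Finset.sum_congr rfl e1]
      simp only [Finset.sum_add_distrib, ← Finset.mul_sum]
      rw [hcol 0, hcol 1, hcol 2, h01, h02, h12]
      have e2 : ∑ χ ∈ F, h χ = 4 * h χ₁ := by
        rw [Finset.sum_congr rfl hconst]
        simp [hF]
      rw [e2, hre]
      have q2 := hhsq χ₁ hχ₁
      simp [hF]
      nlinarith
    have hex : ∃ χ ∈ F, (1 + r 0 * s 0 χ) * (1 + r 1 * s 1 χ) * (1 + r 2 * s 2 χ) ≠ 0 := by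
      by_contra hcon
      push Not at hcon
      rw [Finset.sum_eq_zero hcon] at hsum
      norm_num at hsum
    obtain ⟨χ, hχ, hne⟩ := hex
    refine ⟨χ, hχ, ?_⟩
    have hf : ∀ i : Fin 3, 1 + r i * s i χ ≠ 0 → s i χ = r i := by
      intro i hi
      rcases hr i with a | a <;> rcases hs i χ hχ with b | b
      · rw [a, b]
      · rw [a, b] at hi; norm_num at hi
      · rw [a, b] at hi; norm_num at hi
      · rw [a, b]
    intro i
    apply hf
    intro h0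
    apply hne
    fin_cases i
    · simp only [Fin.zero_eta] at h0
      rw [h0]; ring
    · simp only [Fin.mk_one] at h0
      rw [h0]; ring
    · simp only [Fin.reduceFinMk] at h0
      rw [h0]; ring

/-- **matching, three columns** -/
theorem exists_matching_three {ι κ : Type*} [DecidableEq ι] [DecidableEq κ]
    (F : Finset ι) (F' : Finset κ) (hF : F.card = 4) (hF' : F'.card = 4)
    (s : Fin 3 → ι → ℤ) (t : Fin 3 → κ → ℤ) (d : ι → ℤ) (d' : κ → ℤ)
    (hs : ∀ i, ∀ χ ∈ F, s i χ = 1 ∨ s i χ = -1)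
    (ht : ∀ i, ∀ η ∈ F', t i η = 1 ∨ t i η = -1)
    (hso : ∀ i j, i ≠ j → ∑ χ ∈ F, s i χ * s j χ = 0)
    (hto : ∀ i j, i ≠ j → ∑ η ∈ F', t i η * t j η = 0)
    (hd : ∀ χ ∈ F, 0 < d χ) (hd' : ∀ η ∈ F', 0 < d' η)
    (hsd : ∀ i, ∑ χ ∈ F, s i χ * d χ = 0) (htd : ∀ i, ∑ η ∈ F', t i η * d' η = 0) :
    ∃ (I : κ → ι) (ε : κ → ℤ) (δ : Fin 3 → ℤ), (∀ η ∈ F', ε η = 1 ∨ ε η = -1) ∧
      (∀ i, δ i = 1 ∨ δ i = -1) ∧ (∀ η ∈ F', I η ∈ F) ∧
      (∀ η ∈ F', ∀ η' ∈ F', I η = I η' → η = η') ∧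
      ∀ η ∈ F', ∀ i, ε η * s i (I η) = δ i * t i η := by
  classical
  obtain ⟨e, he, hprod, -, hsurj⟩ := hadamard_rows F hF s d hs hso hd hsd
  obtain ⟨e', he', hprod', hinj', -⟩ := hadamard_rows F' hF' t d' ht hto hd' htd
  obtain ⟨χ₁, hχ₁⟩ : F.Nonempty := Finset.card_pos.mp (by rw [hF]; norm_num)
  set δ : Fin 3 → ℤ := fun i => if i = 0 then e * e' else 1 with hδ
  have hδpm : ∀ i, δ i = 1 ∨ δ i = -1 := by
    intro i
    rw [hδ]
    simp only
    split_ifs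
    · rcases he with a | a <;> rcases he' with b | b <;> rw [a, b] <;> norm_num
    · left; rfl
  have hrow : ∀ η ∈ F', ∃ χ ∈ F, ∀ i, s i χ = δ i * t i η := by
    intro η hη
    apply hsurj (fun i => δ i * t i η)
    · intro i
      rcases hδpm i with a | a <;> rcases ht i η hη with b | b <;> rw [a, b] <;> norm_num
    · have h1 := hprod' η hη
      have h2 : δ 0 = e * e' := by rw [hδ]; simp
      have h3 : δ 1 = 1 := by rw [hδ]; simp
      have h4 : δ 2 = 1 := by rw [hδ]; simp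
      rw [h2, h3, h4]
      have : e' * e' = 1 := by rcases he' with b | b <;> rw [b] <;> norm_num
      calc e * e' * t 0 η * (1 * t 1 η) * (1 * t 2 η) = e * e' * (t 0 η * t 1 η * t 2 η) := by ring
        _ = e * (e' * e') := by rw [h1]; ring
        _ = e := by rw [this, mul_one]
  set I : κ → ι := fun η => if hη : η ∈ F' then (hrow η hη).choose else χ₁ with hI
  have hIF : ∀ η ∈ F', I η ∈ F := by
    intro η hη
    rw [hI]
    simp only
    rw [dif_pos hη]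
    exact (hrow η hη).choose_spec.1
  have hIrow : ∀ η ∈ F', ∀ i, s i (I η) = δ i * t i η := by
    intro η hη
    rw [hI]
    simp only
    rw [dif_pos hη]
    exact (hrow η hη).choose_spec.2
  refine ⟨I, fun _ => 1, δ, fun _ _ => Or.inl rfl, hδpm, hIF, ?_, ?_⟩
  · intro η hη η' hη' hII
    apply hinj' η hη η' hη'
    intro i
    have h1 := hIrow η hη i
    have h2 := hIrow η' hη' i
    rw [hII, h2] at h1
    have : δ i * δ i = 1 := by rcases hδpm i with a | a <;> rw [a] <;> norm_num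
    calc t i η = δ i * δ i * t i η := by rw [this, one_mul]
      _ = δ i * (δ i * t i η) := by ring
      _ = δ i * (δ i * t i η') := by rw [h1]
      _ = δ i * δ i * t i η' := by ring
      _ = t i η' := by rw [this, one_mul]
  · intro η hη i
    rw [one_mul]
    exact hIrow η hη i

/-- **matching, one column** -/
theorem exists_matching_one {ι κ : Type*} [DecidableEq ι] [DecidableEq κ]
    (F : Finset ι) (F' : Finset κ) (hFF' : F.card = F'.card) (hF0 : F.Nonempty)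
    (s : Fin 1 → ι → ℤ) (t : Fin 1 → κ → ℤ)
    (hs : ∀ i, ∀ χ ∈ F, s i χ = 1 ∨ s i χ = -1)
    (ht : ∀ i, ∀ η ∈ F', t i η = 1 ∨ t i η = -1) :
    ∃ (I : κ → ι) (ε : κ → ℤ) (δ : Fin 1 → ℤ), (∀ η ∈ F', ε η = 1 ∨ ε η = -1) ∧
      (∀ i, δ i = 1 ∨ δ i = -1) ∧ (∀ η ∈ F', I η ∈ F) ∧
      (∀ η ∈ F', ∀ η' ∈ F', I η = I η' → η = η') ∧
      ∀ η ∈ F', ∀ i, ε η * s i (I η) = δ i * t i η := by
  classical
  obtain ⟨χ₁, hχ₁⟩ := hF0
  obtain ⟨φ⟩ : Nonempty (F' ≃ F) := by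
    apply Fintype.card_eq.mp
    rw [Fintype.card_coe, Fintype.card_coe, hFF']
  set I : κ → ι := fun η => if hη : η ∈ F' then (φ ⟨η, hη⟩ : ι) else χ₁ with hI
  have hIF : ∀ η ∈ F', I η ∈ F := by
    intro η hη
    rw [hI]
    simp only
    rw [dif_pos hη]
    exact (φ ⟨η, hη⟩).2
  refine ⟨I, fun η => s 0 (I η) * t 0 η, fun _ => 1, ?_, fun _ => Or.inl rfl, hIF, ?_, ?_⟩
  · intro η hη
    simp only
    rcases hs 0 (I η) (hIF η hη) with a | a <;> rcases ht 0 η hη with b | b <;>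
      rw [a, b] <;> norm_num
  · intro η hη η' hη' hII
    rw [hI] at hII
    simp only at hII
    rw [dif_pos hη, dif_pos hη'] at hII
    have := φ.injective (Subtype.ext hII)
    exact congrArg Subtype.val this
  · intro η hη i
    have hi : i = 0 := Subsingleton.elim _ _
    subst hi
    simp only
    have : s 0 (I η) * s 0 (I η) = 1 := by
      rcases hs 0 (I η) (hIF η hη) with a | a <;> rw [a] <;> norm_num
    calc s 0 (I η) * t 0 η * s 0 (I η) = s 0 (I η) * s 0 (I η) * t 0 η := by ring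
      _ = 1 * t 0 η := by rw [this]

end Cfsg.Agent.Helper6.K4
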