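import Mathlib
import Cfsg.Prelude.Def_Characters
import Cfsg.Prelude.Def_Blocks
import Cfsg.Prelude.Def_BlockLocal
import Cfsg.Prelude.Def_BlockRank
import Cfsg.Agent.Helper6.K4L
import Cfsg.Agent.Helper6.K4P
import Cfsg.Agent.Helper6.K4U
import Cfsg.Agent.Helper6.RepEigen
import Cfsg.Agent.Helper6.HeightZeroTrunc

/-!
# Matching sign structures give a perfect isometry
-/

set_option autoImplicit false
set_option linter.style.haveILetI false

namespace Cfsg.Agent.Helper6.K4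

open Cfsg.Agent.Helper6

open Module
open scoped ComplexConjugate

universe u v

variable {G : Type u} [Group G] {H : Type v} [Group H] {M : Ideal Cfsg.AlgInt}

theorem isIntegral_irr_apply [Finite G] (χ : Cfsg.IrrCharacter G) (g : G) :
    IsIntegral ℤ ((χ : G → ℂ) g) := by
  obtain ⟨n, ρ, -, hρ⟩ := χ.2
  rw [← hρ]
  exact isIntegral_char ρ g

open Classical in
set_option maxHeartbeats 1600000 in
/-- **the analytic part**: matched sign structures give a perfect isometry -/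
theorem isPerfectIsometry_of_matching [Finite G] [Finite H] (hM : Cfsg.IsPModular 2 M)
    (B : Set (Cfsg.IrrCharacter G)) (c : Set (Cfsg.IrrCharacter H)) (n : ℕ)
    (s : Fin n → Cfsg.IrrCharacter G → ℤ) (t : Fin n → Cfsg.IrrCharacter H → ℤ)
    (hs_rel : ∀ i, ∀ g : G, ¬ 2 ∣ orderOf g → ∑ᶠ χ ∈ B, (s i χ : ℂ) * (χ : G → ℂ) g = 0)
    (hs_exp : ∀ g : G, 2 ∣ orderOf g → ∀ χ ∈ B,
      4 * (χ : G → ℂ) g = ∑ i, (s i χ : ℂ) * ∑ᶠ ψ ∈ B, (s i ψ : ℂ) * (ψ : G → ℂ) g)
    (hs_int : ∀ i, ∀ g : G, 2 ∣ orderOf g →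
      Cfsg.MemLocalRing M ((∑ᶠ ψ ∈ B, (s i ψ : ℂ) * (ψ : G → ℂ) g) / 4) ∧
      Cfsg.MemLocalRing M ((∑ᶠ ψ ∈ B, (s i ψ : ℂ) * (ψ : G → ℂ) g) /
        (Nat.card (Subgroup.centralizer ({g} : Set G)) : ℂ)))
    (ht_rel : ∀ i, ∀ g : H, ¬ 2 ∣ orderOf g → ∑ᶠ χ ∈ c, (t i χ : ℂ) * (χ : H → ℂ) g = 0)
    (ht_exp : ∀ g : H, 2 ∣ orderOf g → ∀ χ ∈ c,
      4 * (χ : H → ℂ) g = ∑ i, (t i χ : ℂ) * ∑ᶠ ψ ∈ c, (t i ψ : ℂ) * (ψ : H → ℂ) g)
    (ht_int : ∀ i, ∀ g : H, 2 ∣ orderOf g →
      Cfsg.MemLocalRing M ((∑ᶠ ψ ∈ c, (t i ψ : ℂ) * (ψ : H → ℂ) g) / 4) ∧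
      Cfsg.MemLocalRing M ((∑ᶠ ψ ∈ c, (t i ψ : ℂ) * (ψ : H → ℂ) g) /
        (Nat.card (Subgroup.centralizer ({g} : Set H)) : ℂ)))
    (I : Cfsg.IrrCharacter H → Cfsg.IrrCharacter G) (ε : Cfsg.IrrCharacter H → ℤ)
    (δ : Fin n → ℤ)
    (hε : ∀ η ∈ c, ε η = 1 ∨ ε η = -1) (hδ : ∀ i, δ i = 1 ∨ δ i = -1)
    (hI : Set.BijOn I c B) (hmatch : ∀ η ∈ c, ∀ i, ε η * s i (I η) = δ i * t i η) :
    Cfsg.IsPerfectIsometry 2 M c B I ε := by
  haveI hp : Fact (Nat.Prime 2) := ⟨Nat.prime_two⟩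
  haveI : Finite (Cfsg.IrrCharacter G) := irr_finite
  haveI : Fintype (Cfsg.IrrCharacter G) := Fintype.ofFinite _
  haveI : Finite (Cfsg.IrrCharacter H) := irr_finite
  haveI : Fintype (Cfsg.IrrCharacter H) := Fintype.ofFinite _
  refine ⟨hI, hε, ?_⟩
  -- notation
  obtain ⟨θ, hθ⟩ : ∃ θ : Fin n → G → ℂ,
      ∀ i x, θ i x = ∑ᶠ ψ ∈ B, (s i ψ : ℂ) * (ψ : G → ℂ) x := ⟨_, fun _ _ => rfl⟩
  obtain ⟨θ', hθ'⟩ : ∃ θ' : Fin n → H → ℂ,
      ∀ i y, θ' i y = ∑ᶠ ψ ∈ c, (t i ψ : ℂ) * (ψ : H → ℂ) y := ⟨_, fun _ _ => rfl⟩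
  simp_rw [← hθ] at hs_rel hs_exp hs_int
  simp_rw [← hθ'] at ht_rel ht_exp ht_int
  set Fc := Finset.univ.filter (fun η : Cfsg.IrrCharacter H => η ∈ c) with hFc
  have hmemFc : ∀ η, η ∈ Fc ↔ η ∈ c := fun η => by rw [hFc]; simp
  have hcFc : c = ((Fc : Finset (Cfsg.IrrCharacter H)) : Set (Cfsg.IrrCharacter H)) := by
    ext η
    rw [Finset.mem_coe, hmemFc]
  have hfs : ∀ f : Cfsg.IrrCharacter H → ℂ, ∑ᶠ η ∈ c, f η = ∑ η ∈ Fc, f η := by
    intro f
    conv_lhs => rw [hcFc]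
    rw [finsum_mem_coe_finset]
  have hμ : ∀ x y, Cfsg.signedBijectionKernel c I ε x y =
      ∑ η ∈ Fc, (ε η : ℂ) * (I η : G → ℂ) x * (η : H → ℂ) y := by
    intro x y
    unfold Cfsg.signedBijectionKernel
    rw [hfs]
  have hεsq : ∀ η ∈ c, (ε η : ℂ) * (ε η : ℂ) = 1 := by
    intro η hη
    rcases hε η hη with h | h <;> rw [h] <;> norm_num
  have hδsq : ∀ i, (δ i : ℂ) * (δ i : ℂ) = 1 := by
    intro i
    rcases hδ i with h | h <;> rw [h] <;> norm_num
  have hmatchC : ∀ η ∈ c, ∀ i, (ε η : ℂ) * (s i (I η) : ℂ) = (δ i : ℂ) * (t i η : ℂ) := by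
    intro η hη i
    exact_mod_cast hmatch η hη i
  have hmatchC' : ∀ η ∈ c, ∀ i, (ε η : ℂ) * (t i η : ℂ) = (δ i : ℂ) * (s i (I η) : ℂ) := by
    intro η hη i
    have h1 := hmatchC η hη i
    calc (ε η : ℂ) * (t i η : ℂ) = (ε η : ℂ) * ((δ i : ℂ) * (δ i : ℂ)) * (t i η : ℂ) := by
          rw [hδsq, mul_one]
      _ = (ε η : ℂ) * (δ i : ℂ) * ((δ i : ℂ) * (t i η : ℂ)) := by ring
      _ = (ε η : ℂ) * (δ i : ℂ) * ((ε η : ℂ) * (s i (I η) : ℂ)) := by rw [h1]
      _ = ((ε η : ℂ) * (ε η : ℂ)) * ((δ i : ℂ) * (s i (I η) : ℂ)) := by ring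
      _ = (δ i : ℂ) * (s i (I η) : ℂ) := by rw [hεsq η hη, one_mul]
  -- the key formula
  have hKL : ∀ x y, (2 ∣ orderOf x ∨ 2 ∣ orderOf y) →
      Cfsg.signedBijectionKernel c I ε x y = (1 / 4) * ∑ i, (δ i : ℂ) * θ i x * θ' i y := by
    intro x y hxy
    rw [hμ]
    rcases hxy with hx | hy
    · have h1 : ∀ η ∈ Fc, (ε η : ℂ) * (I η : G → ℂ) x * (η : H → ℂ) y =
          (1 / 4) * ∑ i, θ i x * ((δ i : ℂ) * ((t i η : ℂ) * (η : H → ℂ) y)) := by
        intro η hη
        have hηc := (hmemFc η).mp hη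
        have h2 := hs_exp x hx (I η) (hI.mapsTo hηc)
        have h3 : (I η : G → ℂ) x = (1 / 4) * ∑ i, (s i (I η) : ℂ) * θ i x := by
          rw [← h2]; ring
        rw [h3, Finset.mul_sum, Finset.mul_sum, Finset.mul_sum, Finset.sum_mul]
        apply Finset.sum_congr rfl
        intro i _
        have h4 := hmatchC η hηc i
        calc (ε η : ℂ) * (1 / 4 * ((s i (I η) : ℂ) * θ i x)) * (η : H → ℂ) y
            = 1 / 4 * (((ε η : ℂ) * (s i (I η) : ℂ)) * θ i x * (η : H → ℂ) y) := by ring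
          _ = 1 / 4 * (θ i x * ((δ i : ℂ) * ((t i η : ℂ) * (η : H → ℂ) y))) := by rw [h4]; ring
      rw [Finset.sum_congr rfl h1, ← Finset.mul_sum, Finset.sum_comm]
      congr 1
      apply Finset.sum_congr rfl
      intro i _
      rw [← Finset.mul_sum, ← Finset.mul_sum, hθ' i y, hfs]
      ring
    · have h1 : ∀ η ∈ Fc, (ε η : ℂ) * (I η : G → ℂ) x * (η : H → ℂ) y =
          (1 / 4) * ∑ i, θ' i y * ((δ i : ℂ) * ((s i (I η) : ℂ) * (I η : G → ℂ) x)) := by
        intro η hη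
        have hηc := (hmemFc η).mp hη
        have h2 := ht_exp y hy η hηc
        have h3 : (η : H → ℂ) y = (1 / 4) * ∑ i, (t i η : ℂ) * θ' i y := by
          rw [← h2]; ring
        rw [h3, Finset.mul_sum, Finset.mul_sum, Finset.mul_sum]
        apply Finset.sum_congr rfl
        intro i _
        have h4 := hmatchC' η hηc i
        calc (ε η : ℂ) * (I η : G → ℂ) x * (1 / 4 * ((t i η : ℂ) * θ' i y))
            = 1 / 4 * (((ε η : ℂ) * (t i η : ℂ)) * θ' i y * (I η : G → ℂ) x) := by ring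
          _ = 1 / 4 * (θ' i y * ((δ i : ℂ) * ((s i (I η) : ℂ) * (I η : G → ℂ) x))) := by
              rw [h4]; ring
      rw [Finset.sum_congr rfl h1, ← Finset.mul_sum, Finset.sum_comm]
      congr 1
      apply Finset.sum_congr rfl
      intro i _
      rw [← Finset.mul_sum, ← Finset.mul_sum, ← hfs]
      have h5 : ∑ᶠ η ∈ c, (s i (I η) : ℂ) * (I η : G → ℂ) x = θ i x := by
        rw [hθ i x]
        exact finsum_mem_eq_of_bijOn I hI (fun η _ => rfl)
      rw [h5]
      ring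
  -- vanishing
  have hzero : ∀ x y, (2 ∣ orderOf x ∧ ¬ 2 ∣ orderOf y) ∨ (¬ 2 ∣ orderOf x ∧ 2 ∣ orderOf y) →
      Cfsg.signedBijectionKernel c I ε x y = 0 := by
    intro x y hxy
    rcases hxy with ⟨hx, hy⟩ | ⟨hx, hy⟩
    · rw [hKL x y (Or.inl hx)]
      rw [mul_eq_zero]; right
      apply Finset.sum_eq_zero
      intro i _
      rw [ht_rel i y hy, mul_zero]
    · rw [hKL x y (Or.inr hy)]
      rw [mul_eq_zero]; right
      apply Finset.sum_eq_zero
      intro i _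
      rw [hs_rel i x hx, mul_zero, zero_mul]
  have hδloc : ∀ i, Cfsg.MemLocalRing M (δ i : ℂ) := by
    intro i
    rcases hδ i with h | h <;> rw [h]
    · simpa using memLocalRing_one hM.2.1
    · simpa using MemLocalRing.neg (memLocalRing_one hM.2.1)
  have hεloc : ∀ η ∈ c, Cfsg.MemLocalRing M (ε η : ℂ) := by
    intro η hη
    rcases hε η hη with h | h <;> rw [h]
    · simpa using memLocalRing_one hM.2.1
    · simpa using MemLocalRing.neg (memLocalRing_one hM.2.1)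
  intro x y
  refine ⟨?_, ?_, ?_⟩
  · -- division by `|C_G(x)|`
    by_cases hx : 2 ∣ orderOf x
    · by_cases hy : 2 ∣ orderOf y
      · rw [hKL x y (Or.inl hx)]
        have h1 : ((1 / 4) * ∑ i, (δ i : ℂ) * θ i x * θ' i y) /
            (Nat.card (Subgroup.centralizer ({x} : Set G)) : ℂ) =
            ∑ i, (δ i : ℂ) * (θ i x / (Nat.card (Subgroup.centralizer ({x} : Set G)) : ℂ)) *
              (θ' i y / 4) := by
          rw [Finset.mul_sum, Finset.sum_div]
          apply Finset.sum_congr rfl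
          intro i _
          ring
        rw [h1]
        apply MemLocalRing.sum hM.2.1
        intro i _
        exact MemLocalRing.mul hM.2.1 (MemLocalRing.mul hM.2.1 (hδloc i) (hs_int i x hx).2)
          (ht_int i y hy).1
      · rw [hzero x y (Or.inl ⟨hx, hy⟩), zero_div]
        exact memLocalRing_zero hM.2.1
    · by_cases hy : 2 ∣ orderOf y
      · rw [hzero x y (Or.inr ⟨hx, hy⟩), zero_div]
        exact memLocalRing_zero hM.2.1
      · have h1 := div_card_centralizer_memLocalRing hM Fc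
          (fun η => (ε η : ℂ) * (η : H → ℂ) y) (fun η => (I η : G → ℂ))
          (fun η hη => MemLocalRing.mul hM.2.1 (hεloc η ((hmemFc η).mp hη))
            (memLocalRing_of_isIntegral hM.2.1 (isIntegral_irr_apply η y)))
          (fun η _ => IsIrrCharacter.isCharacter (I η).2)
          (fun g hg => by
            have := hzero g y (Or.inl ⟨hg, hy⟩)
            rw [hμ] at this
            rw [← this]
            apply Finset.sum_congr rfl
            intro η _
            ring) x hx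
        rw [hμ]
        have h2 : ∑ η ∈ Fc, (ε η : ℂ) * (I η : G → ℂ) x * (η : H → ℂ) y =
            ∑ η ∈ Fc, (ε η : ℂ) * (η : H → ℂ) y * (I η : G → ℂ) x := by
          apply Finset.sum_congr rfl
          intro η _
          ring
        rw [h2]
        exact h1
  · -- division by `|C_H(y)|`
    by_cases hx : 2 ∣ orderOf x
    · by_cases hy : 2 ∣ orderOf y
      · rw [hKL x y (Or.inl hx)]
        have h1 : ((1 / 4) * ∑ i, (δ i : ℂ) * θ i x * θ' i y) /
            (Nat.card (Subgroup.centralizer ({y} : Set H)) : ℂ) =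
            ∑ i, (δ i : ℂ) * (θ i x / 4) *
              (θ' i y / (Nat.card (Subgroup.centralizer ({y} : Set H)) : ℂ)) := by
          rw [Finset.mul_sum, Finset.sum_div]
          apply Finset.sum_congr rfl
          intro i _
          ring
        rw [h1]
        apply MemLocalRing.sum hM.2.1
        intro i _
        exact MemLocalRing.mul hM.2.1 (MemLocalRing.mul hM.2.1 (hδloc i) (hs_int i x hx).1)
          (ht_int i y hy).2
      · rw [hzero x y (Or.inl ⟨hx, hy⟩), zero_div]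
        exact memLocalRing_zero hM.2.1
    · by_cases hy : 2 ∣ orderOf y
      · rw [hzero x y (Or.inr ⟨hx, hy⟩), zero_div]
        exact memLocalRing_zero hM.2.1
      · have h1 := div_card_centralizer_memLocalRing hM Fc
          (fun η => (ε η : ℂ) * (I η : G → ℂ) x) (fun η => (η : H → ℂ))
          (fun η hη => MemLocalRing.mul hM.2.1 (hεloc η ((hmemFc η).mp hη))
            (memLocalRing_of_isIntegral hM.2.1 (isIntegral_irr_apply (I η) x)))
          (fun η _ => IsIrrCharacter.isCharacter η.2)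
          (fun g hg => by
            have := hzero x g (Or.inr ⟨hx, hg⟩)
            rw [hμ] at this
            exact this) y hy
        rw [hμ]
        exact h1
  · -- separation
    by_cases hx : 2 ∣ orderOf x
    · by_cases hy : 2 ∣ orderOf y
      · left
        unfold Cfsg.IsPRegular
        exact ⟨fun h => absurd hx h, fun h => absurd hy h⟩
      · right
        exact hzero x y (Or.inl ⟨hx, hy⟩)
    · by_cases hy : 2 ∣ orderOf y
      · right
        exact hzero x y (Or.inr ⟨hx, hy⟩)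
      · left
        unfold Cfsg.IsPRegular
        exact ⟨fun _ => hy, fun _ => hx⟩

end Cfsg.Agent.Helper6.K4
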