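import Mathlib
import Cfsg.Prelude.Def_Characters
import Cfsg.Prelude.Def_Blocks
import Cfsg.Prelude.Def_BlockLocal
import Cfsg.Prelude.Def_BlockRank
import Cfsg.Agent.Helper6.K4P
import Cfsg.Agent.Helper6.K4U
import Cfsg.Agent.Helper6.K4V

/-!
# Two sign structures of the same size on two sets of four characters give a perfect isometry
-/

set_option autoImplicit false
set_option linter.style.haveILetI false

namespace Cfsg.Agent.Helper6.K4

open Cfsg.Agent.Helper6

open Module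
open scoped ComplexConjugate

universe u v

variable {G : Type u} [Group G] {H : Type v} [Group H] {M : Ideal Cfsg.AlgInt}

open Classical in
/-- the finset form of the combinatorial data of a sign structure -/
theorem signStructure_finset_data [Finite G] [Fintype (Cfsg.IrrCharacter G)]
    (B : Set (Cfsg.IrrCharacter G)) (n : ℕ)
    (s : Fin n → Cfsg.IrrCharacter G → ℤ)
    (hso : ∀ i j, i ≠ j → ∑ᶠ χ ∈ B, s i χ * s j χ = 0)
    (hs_rel : ∀ i, ∀ g : G, ¬ 2 ∣ orderOf g → ∑ᶠ χ ∈ B, (s i χ : ℂ) * (χ : G → ℂ) g = 0) :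
    (∀ i j, i ≠ j →
      ∑ χ ∈ Finset.univ.filter (fun χ : Cfsg.IrrCharacter G => χ ∈ B), s i χ * s j χ = 0) ∧
    (∀ χ ∈ Finset.univ.filter (fun χ : Cfsg.IrrCharacter G => χ ∈ B),
      0 < (Cfsg.charDegree (χ : G → ℂ) : ℤ)) ∧
    (∀ i, ∑ χ ∈ Finset.univ.filter (fun χ : Cfsg.IrrCharacter G => χ ∈ B),
      s i χ * (Cfsg.charDegree (χ : G → ℂ) : ℤ) = 0) := by
  set FB := Finset.univ.filter (fun χ : Cfsg.IrrCharacter G => χ ∈ B) with hFB
  have hmemFB : ∀ φ, φ ∈ FB ↔ φ ∈ B := fun φ => by rw [hFB]; simp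
  have hBFB : B = ((FB : Finset (Cfsg.IrrCharacter G)) : Set (Cfsg.IrrCharacter G)) := by
    ext φ
    rw [Finset.mem_coe, hmemFB]
  have hfs : ∀ f : Cfsg.IrrCharacter G → ℂ, ∑ᶠ χ ∈ B, f χ = ∑ χ ∈ FB, f χ := by
    intro f
    conv_lhs => rw [hBFB]
    rw [finsum_mem_coe_finset]
  have hfsZ : ∀ f : Cfsg.IrrCharacter G → ℤ, ∑ᶠ χ ∈ B, f χ = ∑ χ ∈ FB, f χ := by
    intro f
    conv_lhs => rw [hBFB]
    rw [finsum_mem_coe_finset]
  refine ⟨?_, ?_, ?_⟩
  · intro i j hij
    rw [← hfsZ]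
    exact hso i j hij
  · intro χ _
    have := charDegree_ne_zero_of_irr χ.2
    exact_mod_cast Nat.pos_of_ne_zero this
  · intro i
    have h2 := hs_rel i 1 (by rw [orderOf_one]; norm_num)
    rw [hfs] at h2
    have h3 : ((∑ χ ∈ FB, s i χ * (Cfsg.charDegree (χ : G → ℂ) : ℤ) : ℤ) : ℂ) = 0 := by
      rw [← h2]
      push_cast
      apply Finset.sum_congr rfl
      intro χ _
      rw [charDegree_cast_of_isCharacter (IsIrrCharacter.isCharacter χ.2)]
    exact_mod_cast h3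

open Classical in
set_option maxHeartbeats 1600000 in
/-- two sign structures of the same size `1` or `3` on sets of four characters give a perfect
isometry -/
theorem exists_perfectIsometry [Finite G] [Finite H] (hM : Cfsg.IsPModular 2 M)
    (B : Set (Cfsg.IrrCharacter G)) (c : Set (Cfsg.IrrCharacter H)) (n : ℕ)
    (hB4 : Nat.card B = 4) (hc4 : Nat.card c = 4) (hn : n = 1 ∨ n = 3)
    (hSB : HasSignStructure M B n) (hSc : HasSignStructure M c n) :
    ∃ (I : Cfsg.IrrCharacter H → Cfsg.IrrCharacter G) (ε : Cfsg.IrrCharacter H → ℤ),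
      Cfsg.IsPerfectIsometry 2 M c B I ε := by
  haveI : Finite (Cfsg.IrrCharacter G) := irr_finite
  haveI : Fintype (Cfsg.IrrCharacter G) := Fintype.ofFinite _
  haveI : Finite (Cfsg.IrrCharacter H) := irr_finite
  haveI : Fintype (Cfsg.IrrCharacter H) := Fintype.ofFinite _
  obtain ⟨s, hs1, hso, hs_rel, hs_exp, hs_int⟩ := hSB
  obtain ⟨t, ht1, hto, ht_rel, ht_exp, ht_int⟩ := hSc
  obtain ⟨hsoF, hdF, hsdF⟩ := signStructure_finset_data B n s hso hs_rel
  obtain ⟨htoF, hdF', htdF⟩ := signStructure_finset_data c n t hto ht_rel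
  set FB := Finset.univ.filter (fun χ : Cfsg.IrrCharacter G => χ ∈ B) with hFB
  set Fc := Finset.univ.filter (fun χ : Cfsg.IrrCharacter H => χ ∈ c) with hFc
  have hmemFB : ∀ φ, φ ∈ FB ↔ φ ∈ B := fun φ => by rw [hFB]; simp
  have hmemFc : ∀ φ, φ ∈ Fc ↔ φ ∈ c := fun φ => by rw [hFc]; simp
  have hcardB : FB.card = 4 := by
    rw [← hB4, Nat.card_eq_fintype_card, Fintype.card_subtype]
  have hcardc : Fc.card = 4 := by
    rw [← hc4, Nat.card_eq_fintype_card, Fintype.card_subtype]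
  -- the matching
  have hmatch : ∃ (I : Cfsg.IrrCharacter H → Cfsg.IrrCharacter G)
      (ε : Cfsg.IrrCharacter H → ℤ) (δ : Fin n → ℤ), (∀ η ∈ Fc, ε η = 1 ∨ ε η = -1) ∧
      (∀ i, δ i = 1 ∨ δ i = -1) ∧ (∀ η ∈ Fc, I η ∈ FB) ∧
      (∀ η ∈ Fc, ∀ η' ∈ Fc, I η = I η' → η = η') ∧
      ∀ η ∈ Fc, ∀ i, ε η * s i (I η) = δ i * t i η := by
    rcases hn with hn | hn
    · subst hn
      exact exists_matching_one FB Fc (by rw [hcardB, hcardc])
        (Finset.card_pos.mp (by rw [hcardB]; norm_num)) s t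
        (fun i χ hχ => hs1 i χ ((hmemFB χ).mp hχ)) (fun i η hη => ht1 i η ((hmemFc η).mp hη))
    · subst hn
      exact exists_matching_three FB Fc hcardB hcardc s t
        (fun χ => (Cfsg.charDegree (χ : G → ℂ) : ℤ)) (fun η => (Cfsg.charDegree (η : H → ℂ) : ℤ))
        (fun i χ hχ => hs1 i χ ((hmemFB χ).mp hχ)) (fun i η hη => ht1 i η ((hmemFc η).mp hη))
        hsoF htoF hdF hdF' hsdF htdF
  obtain ⟨I, ε, δ, hε, hδ, hImap, hIinj, hIm⟩ := hmatch
  refine ⟨I, ε, ?_⟩
  have hmaps : Set.MapsTo I c B := fun η hη => (hmemFB _).mp (hImap η ((hmemFc η).mpr hη))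
  have hinj : Set.InjOn I c := fun η hη η' hη' h =>
    hIinj η ((hmemFc η).mpr hη) η' ((hmemFc η').mpr hη') h
  have hbij : Set.BijOn I c B := by
    refine ⟨hmaps, hinj, ?_⟩
    -- surjectivity by counting
    have himg : Fc.image I = FB := by
      apply Finset.eq_of_subset_of_card_le
      · intro χ hχ
        obtain ⟨η, hη, rfl⟩ := Finset.mem_image.mp hχ
        exact hImap η hη
      · rw [Finset.card_image_of_injOn (fun η hη η' hη' h =>
          hIinj η (Finset.mem_coe.mp hη) η' (Finset.mem_coe.mp hη') h), hcardB, hcardc]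
    intro χ hχ
    have : χ ∈ Fc.image I := by rw [himg]; exact (hmemFB χ).mpr hχ
    obtain ⟨η, hη, rfl⟩ := Finset.mem_image.mp this
    exact ⟨η, (hmemFc η).mp hη, rfl⟩
  exact isPerfectIsometry_of_matching hM B c n s t hs_rel hs_exp hs_int ht_rel ht_exp ht_int I ε δ
    (fun η hη => hε η ((hmemFc η).mpr hη)) hδ hbij
    (fun η hη i => hIm η ((hmemFc η).mpr hη) i)

end Cfsg.Agent.Helper6.K4
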