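import Mathlib
import Cfsg.Prelude.Def_Characters
import Cfsg.Prelude.Def_Blocks
import Cfsg.Prelude.Def_BlockLocal
import Cfsg.Prelude.Def_BlockRank
import Cfsg.Prelude.Def_BrauerPairs
import Cfsg.Agent.Helper6.K4S
import Cfsg.Agent.Helper6.K4T
import Cfsg.Agent.Helper6.K4W

/-!
# A block with a Klein four defect group is perfectly isometric to its Brauer correspondent
-/

set_option autoImplicit false
set_option linter.style.haveILetI false

namespace Cfsg.Agent.Helper6.K4

open Cfsg.Agent.Helper6

open Module
open scoped ComplexConjugate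

universe u

variable {G : Type u} [Group G] {M : Ideal Cfsg.AlgInt}

set_option maxHeartbeats 1000000 in
/-- **Klein four defect groups**: there is a perfect isometry between the block and its Brauer
correspondent -/
theorem klein_perfectIsometry [Finite G] (hM : Cfsg.IsPModular 2 M)
    (B : Set (Cfsg.IrrCharacter G)) (hB : Cfsg.IsPBlock M B) (P : Subgroup G)
    (hPD : Cfsg.IsDefectGroup 2 M B P) (hV : IsKleinFour P)
    (c : Set (Cfsg.IrrCharacter (Subgroup.normalizer (P : Set G))))
    (hcD : Cfsg.IsDefectGroup 2 M c (P.subgroupOf (Subgroup.normalizer (P : Set G))))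
    (hc : Cfsg.IsInducedBlock M (Subgroup.normalizer (P : Set G)) c B) :
    ∃ (I : Cfsg.IrrCharacter (Subgroup.normalizer (P : Set G)) → Cfsg.IrrCharacter G)
      (ε : Cfsg.IrrCharacter (Subgroup.normalizer (P : Set G)) → ℤ),
      Cfsg.IsPerfectIsometry 2 M c B I ε := by
  have hPN : P ≤ Subgroup.normalizer (P : Set G) := Subgroup.le_normalizer
  have hV' : IsKleinFour (P.subgroupOf (Subgroup.normalizer (P : Set G))) :=
    isKleinFour_of_mulEquiv (Subgroup.subgroupOfEquivOfLe hPN) hV
  obtain ⟨hB4, hlB, hSB⟩ := klein_hasSignStructure hM B hB P hPD hV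
  obtain ⟨hc4, hlc, hSc⟩ := klein_hasSignStructure hM c hc.1 _ hcD hV'
  have hrank := blockRank_correspondent hM B hB P hPD hV c hcD hc
  rw [hrank] at hSc
  refine exists_perfectIsometry hM B c (4 - Cfsg.blockRank 2 B) hB4 hc4 ?_ hSB hSc
  rcases hlB with h | h <;> rw [h]
  · right; rfl
  · left; rfl

end Cfsg.Agent.Helper6.K4
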