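import Mathlib
import Cfsg.Agent.Helper3.PiClasses
import Cfsg.Agent.S3897

set_option autoImplicit false

/-!
Orbit-counting bound for the classes of `p`-elements (a sharpening of helper3's
`S3897.two_p_mul_card_le`, whose proof is adapted here): with `m` the index of
`C_G(P) ∩ N_G(P)` in `N_G(P)`, one has `p * m * k_p(G) + |P| ≤ (p + m) * |P|`.
For groups of odd order this yields `15 * k_p(G) ≤ 7 * |P|` unless `N_G(P) ≤ C_G(P)`.
-/

namespace Cfsg.Agent.Helper6.KPiTwo

open Cfsg.Agent.S3897

universe u

variable {G : Type u} [Group G]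

/-- the centralizer of `P`, inside the normalizer of `P` -/
abbrev cenIn (P : Subgroup G) : Subgroup (Subgroup.normalizer (P : Set G)) :=
  (Subgroup.centralizer (P : Set G)).subgroupOf (Subgroup.normalizer (P : Set G))

theorem cenIn_normal (P : Subgroup G) : (cenIn P).Normal := by
  constructor
  intro d hd n
  rw [Subgroup.mem_subgroupOf] at hd ⊢
  rw [Subgroup.mem_centralizer_iff] at hd ⊢
  intro y hy
  have hn : (n : G)⁻¹ * y * (n : G) ∈ P := by
    have h1 := (Subgroup.mem_normalizer_iff.1 (Subgroup.inv_mem _ n.2) y).1 hy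
    simpa using h1
  have h2 := hd _ hn
  simp only [Subgroup.coe_mul, Subgroup.coe_inv]
  calc y * ((n : G) * d * (n : G)⁻¹)
      = (n : G) * (((n : G)⁻¹ * y * (n : G)) * d) * (n : G)⁻¹ := by group
    _ = (n : G) * ((d : G) * ((n : G)⁻¹ * y * (n : G))) * (n : G)⁻¹ := by rw [h2]
    _ = (n : G) * d * (n : G)⁻¹ * y := by group

theorem orbit_bound [Finite G] {p : ℕ} [hp : Fact p.Prime] (P : Sylow p G) :
    p * (cenIn (P : Subgroup G)).index *
      Nat.card {c : ConjClasses G // ∀ x ∈ c.carrier, ∃ k : ℕ, orderOf x = p ^ k} +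
      Nat.card (P : Subgroup G) ≤
    (p + (cenIn (P : Subgroup G)).index) * Nat.card (P : Subgroup G) := by
  classical
  letI := conjActN (P : Subgroup G)
  haveI : Fintype (Subgroup.normalizer ((P : Subgroup G) : Set G)) := Fintype.ofFinite _
  have hsmul : ∀ (n : Subgroup.normalizer ((P : Subgroup G) : Set G)) (x : (P : Subgroup G)),
      ((n • x : (P : Subgroup G)) : G) = (n : G) * x * (n : G)⁻¹ := fun n x => rfl
  -- Step A: the classes of `p`-elements are images of the orbits
  have hA : Nat.card {c : ConjClasses G // ∀ x ∈ c.carrier, ∃ k : ℕ, orderOf x = p ^ k} ≤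
      Nat.card (MulAction.orbitRel.Quotient (Subgroup.normalizer ((P : Subgroup G) : Set G))
        (P : Subgroup G)) := by
    apply Nat.card_le_card_of_surjective
      (Quotient.lift (fun x : (P : Subgroup G) =>
        (⟨ConjClasses.mk (x : G), isPElt_of_mem_sylow P x x.2⟩ :
          {c : ConjClasses G // ∀ x ∈ c.carrier, ∃ k : ℕ, orderOf x = p ^ k})) ?_)
    · rintro ⟨c, hc⟩
      obtain ⟨x, hx, hxc⟩ := exists_mem_sylow P c hc
      refine ⟨Quotient.mk'' ⟨x, hx⟩, ?_⟩
      exact Subtype.ext hxc
    · intro a b hab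
      obtain ⟨n, hn⟩ := hab
      apply Subtype.ext
      change ConjClasses.mk (a : G) = ConjClasses.mk (b : G)
      rw [ConjClasses.mk_eq_mk_iff_isConj, isConj_iff]
      refine ⟨(n : G)⁻¹, ?_⟩
      have h1 : (a : G) = (n : G) * b * (n : G)⁻¹ := by
        rw [← hsmul]; exact congrArg Subtype.val hn.symm
      rw [h1]; group
  -- Step B: Burnside's lemma
  have hB : ∑ n : Subgroup.normalizer ((P : Subgroup G) : Set G),
      Nat.card (MulAction.fixedBy (P : Subgroup G) n) =
      Nat.card (MulAction.orbitRel.Quotient (Subgroup.normalizer ((P : Subgroup G) : Set G))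
        (P : Subgroup G)) * Nat.card (Subgroup.normalizer ((P : Subgroup G) : Set G)) := by
    rw [← Nat.card_sigma, ← Nat.card_prod]
    exact Nat.card_congr (MulAction.sigmaFixedByEquivOrbitsProdGroup _ _)
  -- Step C: bounding the fixed points
  have hC : ∀ n : Subgroup.normalizer ((P : Subgroup G) : Set G),
      p * Nat.card (MulAction.fixedBy (P : Subgroup G) n) ≤
        (if (n : G) ∈ Subgroup.centralizer ((P : Subgroup G) : Set G) then p else 1) *
          Nat.card (P : Subgroup G) := by
    intro n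
    split_ifs with h
    · exact Nat.mul_le_mul_left p (Finite.card_subtype_le _)
    · rw [one_mul]
      obtain ⟨F, hF⟩ : ∃ F : Subgroup (P : Subgroup G),
          F = (Subgroup.centralizer ({(n : G)} : Set G)).subgroupOf (P : Subgroup G) := ⟨_, rfl⟩
      have hmem : ∀ x : (P : Subgroup G), x ∈ MulAction.fixedBy (P : Subgroup G) n ↔ x ∈ F := by
        intro x
        rw [MulAction.mem_fixedBy, hF, Subgroup.mem_subgroupOf, Subgroup.mem_centralizer_iff]
        constructor
        · intro hx y hy
          rw [Set.mem_singleton_iff] at hy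
          rw [hy]
          have h1 := congrArg Subtype.val hx
          rw [hsmul] at h1
          calc (n : G) * x = ((n : G) * x * (n : G)⁻¹) * n := by group
            _ = x * n := by rw [h1]
        · intro hx
          apply Subtype.ext
          rw [hsmul, hx (n : G) rfl]
          group
      have hcard : Nat.card (MulAction.fixedBy (P : Subgroup G) n) = Nat.card F :=
        Nat.card_congr (Equiv.subtypeEquivRight hmem)
      rw [hcard]
      have hFtop : F ≠ ⊤ := by
        intro htop
        apply h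
        rw [Subgroup.mem_centralizer_iff]
        intro y hy
        have h1 : (⟨y, hy⟩ : (P : Subgroup G)) ∈ F := by rw [htop]; trivial
        rw [hF, Subgroup.mem_subgroupOf, Subgroup.mem_centralizer_iff] at h1
        exact (h1 (n : G) rfl).symm
      have hidx : p ≤ F.index := by
        obtain ⟨a, ha⟩ := IsPGroup.iff_card.1 P.isPGroup'
        have h1 : F.index ∣ p ^ a := ha ▸ Subgroup.index_dvd_card F
        obtain ⟨j, -, hj⟩ := (Nat.dvd_prime_pow hp.out).1 h1
        have hj0 : j ≠ 0 := by
          rintro rfl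
          rw [pow_zero] at hj
          exact hFtop (Subgroup.index_eq_one.1 hj)
        rw [hj]
        calc p = p ^ 1 := (pow_one p).symm
          _ ≤ p ^ j := Nat.pow_le_pow_right hp.out.pos (Nat.one_le_iff_ne_zero.2 hj0)
      calc p * Nat.card F ≤ F.index * Nat.card F := Nat.mul_le_mul_right _ hidx
        _ = Nat.card (P : Subgroup G) := F.index_mul_card
  -- Step D: evaluating the sum
  obtain ⟨D, hD⟩ : ∃ D : Subgroup (Subgroup.normalizer ((P : Subgroup G) : Set G)),
      D = cenIn (P : Subgroup G) := ⟨_, rfl⟩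
  have hDmem : ∀ n : Subgroup.normalizer ((P : Subgroup G) : Set G),
      n ∈ D ↔ (n : G) ∈ Subgroup.centralizer ((P : Subgroup G) : Set G) := by
    intro n; rw [hD, Subgroup.mem_subgroupOf]
  obtain ⟨c, hc⟩ : ∃ c : ℕ, c = (Finset.univ.filter
    (fun n : Subgroup.normalizer ((P : Subgroup G) : Set G) =>
      (n : G) ∈ Subgroup.centralizer ((P : Subgroup G) : Set G))).card := ⟨_, rfl⟩
  obtain ⟨c', hc'⟩ : ∃ c' : ℕ, c' = (Finset.univ.filter
    (fun n : Subgroup.normalizer ((P : Subgroup G) : Set G) =>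
      ¬ (n : G) ∈ Subgroup.centralizer ((P : Subgroup G) : Set G))).card := ⟨_, rfl⟩
  have hcc' : c + c' = Nat.card (Subgroup.normalizer ((P : Subgroup G) : Set G)) := by
    rw [hc, hc', Finset.card_filter_add_card_filter_not, Finset.card_univ,
      Nat.card_eq_fintype_card]
  have hcD : c = Nat.card D := by
    rw [Nat.card_eq_fintype_card, hc]
    symm
    apply Fintype.card_of_subtype
    intro n
    rw [Finset.mem_filter]
    simp [hDmem]
  have hsum : ∑ n : Subgroup.normalizer ((P : Subgroup G) : Set G),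
      (if (n : G) ∈ Subgroup.centralizer ((P : Subgroup G) : Set G) then p else 1) *
        Nat.card (P : Subgroup G) = (c * p + c') * Nat.card (P : Subgroup G) := by
    rw [← Finset.sum_mul, Finset.sum_ite, Finset.sum_const, Finset.sum_const, smul_eq_mul,
      smul_eq_mul, mul_one, ← hc, ← hc']
  have hmain : p * (Nat.card (MulAction.orbitRel.Quotient
      (Subgroup.normalizer ((P : Subgroup G) : Set G)) (P : Subgroup G)) *
        Nat.card (Subgroup.normalizer ((P : Subgroup G) : Set G))) ≤
      (c * p + c') * Nat.card (P : Subgroup G) := by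
    rw [← hB, Finset.mul_sum, ← hsum]
    exact Finset.sum_le_sum (fun n _ => hC n)
  -- arithmetic
  obtain ⟨ω, hω⟩ : ∃ ω : ℕ, ω = Nat.card (MulAction.orbitRel.Quotient
      (Subgroup.normalizer ((P : Subgroup G) : Set G)) (P : Subgroup G)) := ⟨_, rfl⟩
  obtain ⟨a, ha⟩ : ∃ a : ℕ, a = Nat.card (P : Subgroup G) := ⟨_, rfl⟩
  obtain ⟨k, hk⟩ : ∃ k : ℕ, k = Nat.card
      {c : ConjClasses G // ∀ x ∈ c.carrier, ∃ k : ℕ, orderOf x = p ^ k} := ⟨_, rfl⟩
  have hM : Nat.card (Subgroup.normalizer ((P : Subgroup G) : Set G)) = D.index * c := by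
    rw [hcD]; exact D.index_mul_card.symm
  rw [← hD]
  obtain ⟨m, hm⟩ : ∃ m : ℕ, m = D.index := ⟨_, rfl⟩
  have hm0 : m ≠ 0 := by rw [hm]; exact Subgroup.index_ne_zero_of_finite
  have hcpos : 0 < c := by rw [hcD]; exact Nat.card_pos
  rw [← hω, hM, ← ha, ← hm] at hmain
  rw [hM, ← hm] at hcc'
  rw [← hω, ← hk] at hA
  rw [← hk, ← ha, ← hm]
  obtain ⟨m', rfl⟩ : ∃ m' : ℕ, m = m' + 1 := ⟨m - 1, by omega⟩
  have hc'eq : c' = m' * c := by
    have : c + c' = m' * c + c := by rw [hcc']; ring
    omega
  rw [hc'eq] at hmain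
  have h1 : (p * (m' + 1) * ω) * c ≤ ((p + m') * a) * c := by
    calc (p * (m' + 1) * ω) * c = p * (ω * ((m' + 1) * c)) := by ring
      _ ≤ (c * p + m' * c) * a := hmain
      _ = ((p + m') * a) * c := by ring
  have h2 : p * (m' + 1) * ω ≤ (p + m') * a := Nat.le_of_mul_le_mul_right h1 hcpos
  calc p * (m' + 1) * k + a ≤ p * (m' + 1) * ω + a :=
        Nat.add_le_add_right (Nat.mul_le_mul_left _ hA) a
    _ ≤ (p + m') * a + a := Nat.add_le_add_right h2 a
    _ = (p + (m' + 1)) * a := by ring

end Cfsg.Agent.Helper6.KPiTwo
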