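import Mathlib
import Cfsg.Agent.Helper6.KPiTwoA

set_option autoImplicit false

/-!
Groups of odd order: if `N_G(P) ≰ C_G(P)` for a Sylow `p`-subgroup `P` then
`15 * k_p(G) ≤ 7 * |P|`; hence `|P| < 2 * k_p(G)` forces a normal `p`-complement and `P` abelian.
-/

namespace Cfsg.Agent.Helper6.KPiTwo

open Cfsg.Agent.S3897

universe u

variable {G : Type u} [Group G]

theorem cenIn_index_ne_one {P : Subgroup G}
    (hNC : ¬ Subgroup.normalizer (P : Set G) ≤ Subgroup.centralizer (P : Set G)) :
    (cenIn P).index ≠ 1 := by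
  intro h
  apply hNC
  intro g hg
  have h1 : (⟨g, hg⟩ : Subgroup.normalizer (P : Set G)) ∈ cenIn P := by
    rw [Subgroup.index_eq_one.1 h]; trivial
  exact Subgroup.mem_subgroupOf.1 h1

/-- if `P` is commutative then `p` does not divide the index of `C(P) ∩ N(P)` in `N(P)` -/
theorem not_dvd_cenIn_index [Finite G] {p : ℕ} [hp : Fact p.Prime] (P : Sylow p G)
    (hcomm : ∀ a b : (P : Subgroup G), a * b = b * a) :
    ¬ p ∣ (cenIn (P : Subgroup G)).index := by
  intro hdvd
  have hle : (P : Subgroup G).subgroupOf (Subgroup.normalizer ((P : Subgroup G) : Set G)) ≤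
      cenIn (P : Subgroup G) := by
    intro n hn
    rw [Subgroup.mem_subgroupOf] at hn ⊢
    rw [Subgroup.mem_centralizer_iff]
    intro y hy
    have h1 := hcomm ⟨y, hy⟩ ⟨n, hn⟩
    exact congrArg Subtype.val h1
  have h1 : (cenIn (P : Subgroup G)).index ∣
      ((P : Subgroup G).subgroupOf (Subgroup.normalizer ((P : Subgroup G) : Set G))).index :=
    Subgroup.index_dvd_of_le hle
  have h2 : ((P : Subgroup G).subgroupOf
      (Subgroup.normalizer ((P : Subgroup G) : Set G))).index ∣ (P : Subgroup G).index :=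
    Subgroup.relIndex_dvd_index_of_le Subgroup.le_normalizer
  exact P.not_dvd_index (hdvd.trans (h1.trans h2))

/-- the index of `C(P) ∩ N(P)` in `N(P)` is never `p` -/
theorem cenIn_index_ne_prime [Finite G] {p : ℕ} [hp : Fact p.Prime] (P : Sylow p G) :
    (cenIn (P : Subgroup G)).index ≠ p := by
  intro hidx
  haveI := cenIn_normal (P : Subgroup G)
  have hcard : Nat.card (Subgroup.normalizer ((P : Subgroup G) : Set G) ⧸
      cenIn (P : Subgroup G)) = p := by
    rw [← Subgroup.index_eq_card]; exact hidx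
  haveI : IsCyclic (Subgroup.normalizer ((P : Subgroup G) : Set G) ⧸ cenIn (P : Subgroup G)) :=
    isCyclic_of_prime_card hcard
  let f : (P : Subgroup G) →* (Subgroup.normalizer ((P : Subgroup G) : Set G) ⧸
      cenIn (P : Subgroup G)) :=
    (QuotientGroup.mk' (cenIn (P : Subgroup G))).comp
      (Subgroup.inclusion (Subgroup.le_normalizer (H := (P : Subgroup G))))
  have hker : f.ker ≤ Subgroup.center (P : Subgroup G) := by
    intro x hx
    rw [MonoidHom.mem_ker] at hx
    have h1 : Subgroup.inclusion (Subgroup.le_normalizer (H := (P : Subgroup G))) x ∈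
        cenIn (P : Subgroup G) := by
      rw [← QuotientGroup.eq_one_iff]; exact hx
    rw [Subgroup.mem_subgroupOf, Subgroup.mem_centralizer_iff] at h1
    rw [Subgroup.mem_center_iff]
    intro y
    apply Subtype.ext
    rw [Subgroup.coe_mul, Subgroup.coe_mul]
    exact h1 y y.2
  have hcomm : ∀ a b : (P : Subgroup G), a * b = b * a :=
    (MonoidHom.isMulCommutative_of_isCyclic_of_ker_le_center f hker).is_comm.comm
  have h1 := not_dvd_cenIn_index P hcomm
  rw [hidx] at h1
  exact h1 dvd_rfl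

theorem odd_bound [Finite G] (hodd : Odd (Nat.card G)) {p : ℕ} [hp : Fact p.Prime] (hp2 : p ≠ 2)
    (P : Sylow p G)
    (hNC : ¬ Subgroup.normalizer ((P : Subgroup G) : Set G) ≤
      Subgroup.centralizer ((P : Subgroup G) : Set G)) :
    15 * Nat.card {c : ConjClasses G // ∀ x ∈ c.carrier, ∃ k : ℕ, orderOf x = p ^ k} ≤
      7 * Nat.card (P : Subgroup G) := by
  have hb := orbit_bound P
  obtain ⟨m, hm⟩ : ∃ m : ℕ, m = (cenIn (P : Subgroup G)).index := ⟨_, rfl⟩
  have hm1 : m ≠ 1 := by rw [hm]; exact cenIn_index_ne_one hNC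
  have hmp : m ≠ p := by rw [hm]; exact cenIn_index_ne_prime P
  have hmodd : Odd m := by
    have h1 : m ∣ Nat.card (Subgroup.normalizer ((P : Subgroup G) : Set G)) := by
      rw [hm]; exact Subgroup.index_dvd_card _
    have h2 : Nat.card (Subgroup.normalizer ((P : Subgroup G) : Set G)) ∣ Nat.card G :=
      Subgroup.card_subgroup_dvd_card _
    exact Odd.of_dvd_nat hodd (h1.trans h2)
  have hpodd : Odd p := hp.out.odd_of_ne_two hp2
  have hp3 : 3 ≤ p := by
    have := hp.out.two_le
    omega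
  obtain ⟨k, hk⟩ : ∃ k : ℕ, k = Nat.card
      {c : ConjClasses G // ∀ x ∈ c.carrier, ∃ k : ℕ, orderOf x = p ^ k} := ⟨_, rfl⟩
  obtain ⟨a, ha⟩ : ∃ a : ℕ, a = Nat.card (P : Subgroup G) := ⟨_, rfl⟩
  rw [← hm, ← hk, ← ha] at hb
  rw [← hk, ← ha]
  -- `15 * (p + m - 1) ≤ 7 * p * m`
  have hm3 : 3 ≤ m := by
    obtain ⟨j, hj⟩ := hmodd
    have : m ≠ 0 := by omega
    omega
  have key : 15 * (p + m) ≤ 7 * p * m + 15 := by
    by_cases h3 : p = 3
    · subst h3
      have hm5 : 5 ≤ m := by
        obtain ⟨j, hj⟩ := hmodd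
        omega
      omega
    · have hp5 : 5 ≤ p := by
        have h4 : p ≠ 4 := by
          rintro rfl
          obtain ⟨j, hj⟩ := hpodd
          omega
        omega
      obtain ⟨q, rfl⟩ : ∃ q : ℕ, p = q + 5 := ⟨p - 5, by omega⟩
      obtain ⟨n, rfl⟩ : ∃ n : ℕ, m = n + 3 := ⟨m - 3, by omega⟩
      nlinarith [Nat.zero_le (q * n)]
  have hpm : 0 < p * m := Nat.mul_pos (by omega) (by omega)
  have h1 : (15 * k) * (p * m) + 15 * a ≤ (7 * a) * (p * m) + 15 * a := by
    calc (15 * k) * (p * m) + 15 * a = 15 * (p * m * k + a) := by ring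
      _ ≤ 15 * ((p + m) * a) := Nat.mul_le_mul_left _ hb
      _ = (15 * (p + m)) * a := by ring
      _ ≤ (7 * p * m + 15) * a := Nat.mul_le_mul_right _ key
      _ = (7 * a) * (p * m) + 15 * a := by ring
  have h2 : (15 * k) * (p * m) ≤ (7 * a) * (p * m) := Nat.le_of_add_le_add_right h1
  exact Nat.le_of_mul_le_mul_right h2 hpm

/-- in a group of odd order, many classes of `p`-elements force a normal `p`-complement and an
abelian Sylow `p`-subgroup -/
theorem odd_normal_complement [Finite G] (hodd : Odd (Nat.card G)) {p : ℕ} [hp : Fact p.Prime]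
    (hp2 : p ≠ 2) (P : Sylow p G)
    (hlt : Nat.card (P : Subgroup G) <
      2 * Nat.card {c : ConjClasses G // ∀ x ∈ c.carrier, ∃ k : ℕ, orderOf x = p ^ k}) :
    ∃ K : Subgroup G, K.Normal ∧ ∃ R : Sylow p G, K.IsComplement' (R : Subgroup G) ∧
      IsMulCommutative (R : Subgroup G) := by
  have hNC : Subgroup.normalizer ((P : Subgroup G) : Set G) ≤
      Subgroup.centralizer ((P : Subgroup G) : Set G) := by
    by_contra hNC
    have h1 := odd_bound hodd hp2 P hNC
    omega
  refine ⟨_, inferInstance, P, MonoidHom.ker_transferSylow_isComplement' P hNC, ?_⟩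
  refine ⟨⟨fun a b => ?_⟩⟩
  apply Subtype.ext
  have h1 := hNC (Subgroup.le_normalizer a.2)
  rw [Subgroup.mem_centralizer_iff] at h1
  exact (h1 b b.2).symm

end Cfsg.Agent.Helper6.KPiTwo
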