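import Mathlib
import Cfsg.Agent.Helper6.KPiTwoB
import Cfsg.Agent.S3899
import Cfsg.Agent.S3895

set_option autoImplicit false

/-!
`k_π(G) > |G|_π / 2` with `2 ∈ π`: normal `π`-complement and abelian Hall `π ∖ {2}`-subgroup.
Uses helper1's S3895 (normal 2-complement), helper3's `PiClasses` and `S3899.assemble`, and the
odd-order bound of `KPiTwoB`.
-/

namespace Cfsg.Agent.Helper6.KPiTwo

open Cfsg.Agent.Helper3.PiCl

universe u

variable {G : Type u} [Group G]

/-- if all `σ`-elements lie in the subgroup `K` then `k_σ(G) ≤ k_σ(K)` -/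
theorem kPi_le_of_mem (σ : Finset ℕ) [Finite G] (K : Subgroup G)
    (hK : ∀ x : G, IsPiElt σ x → x ∈ K) : kPi σ G ≤ kPi σ K := by
  rw [kPi_eq, kPi_eq]
  apply Nat.card_le_card_of_surjective (fun c : PiClass σ K =>
    (⟨ConjClasses.mk ((rep c.1 : K) : G),
      (forall_carrier_iff σ _).2 ((isPiElt_coe_iff _).2 (isPiElt_rep c))⟩ : PiClass σ G))
  rintro ⟨c, hc⟩
  obtain ⟨g, rfl⟩ := ConjClasses.mk_surjective c
  have hg : IsPiElt σ g := (forall_carrier_iff σ g).1 hc
  have hgK : g ∈ K := hK g hg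
  refine ⟨⟨ConjClasses.mk (⟨g, hgK⟩ : K),
    (forall_carrier_iff σ _).2 ((isPiElt_coe_iff (⟨g, hgK⟩ : K)).1 hg)⟩, ?_⟩
  apply Subtype.ext
  change ConjClasses.mk ((rep (ConjClasses.mk (⟨g, hgK⟩ : K)) : K) : G) = ConjClasses.mk g
  have h1 := mk_rep (ConjClasses.mk (⟨g, hgK⟩ : K))
  obtain ⟨c, hc⟩ := isConj_iff.1 (ConjClasses.mk_eq_mk_iff_isConj.1 h1)
  rw [ConjClasses.mk_eq_mk_iff_isConj, isConj_iff]
  refine ⟨(c : G), ?_⟩
  have h2 := congrArg Subtype.val hc
  simpa using h2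

theorem main [Finite G] (π : Finset ℕ) (hπ : ∀ r ∈ π, r.Prime) (h2 : 2 ∈ π)
    (hk : π.prod (fun r => r ^ (Nat.card G).factorization r) < 2 * kPi π G) :
    (∃ N : Subgroup G, N.Normal ∧ (∀ r : ℕ, r.Prime → r ∣ Nat.card ↥N → r ∉ π) ∧
      ∀ r : ℕ, r.Prime → r ∣ N.index → r ∈ π) ∧
    ∃ H : Subgroup G, Cfsg.IsPiHall ((↑π : Set ℕ) \ {2}) H ∧ IsMulCommutative ↥H := by
  classical
  -- a general consequence: `|G|_r < 2 k_r(G)` for every `r ∈ π`
  have hr_lt : ∀ r ∈ π, r ^ (Nat.card G).factorization r < 2 * kPi {r} G := by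
    intro r hr
    have h1 := kPi_le_mul (G := G) π hπ hr
    have hk' := hk
    rw [← Finset.mul_prod_erase π _ hr] at hk'
    obtain ⟨E, hE⟩ : ∃ E : ℕ, E = (π.erase r).prod (fun q => q ^ (Nat.card G).factorization q) :=
      ⟨_, rfl⟩
    rw [← hE] at hk' h1
    have h4 : r ^ (Nat.card G).factorization r * E < 2 * kPi {r} G * E := by
      calc r ^ (Nat.card G).factorization r * E < 2 * kPi π G := hk'
        _ ≤ 2 * (kPi {r} G * E) := Nat.mul_le_mul_left _ h1
        _ = 2 * kPi {r} G * E := by ring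
    exact Nat.lt_of_mul_lt_mul_right h4
  -- Step 1: the normal 2-complement
  haveI : Fact (Nat.Prime 2) := ⟨Nat.prime_two⟩
  obtain ⟨P2⟩ := (inferInstance : Nonempty (Sylow 2 G))
  have h2lt : Nat.card (P2 : Subgroup G) <
      2 * Nat.card {c : ConjClasses G // ∀ x ∈ c.carrier, ∃ k : ℕ, orderOf x = 2 ^ k} := by
    rw [Sylow.card_eq_multiplicity P2, ← kPi_singleton_eq Nat.prime_two]
    exact hr_lt 2 h2
  obtain ⟨⟨P', K, hKn, hK⟩, -⟩ := (Cfsg.Agent.S3895.result P2).1 h2lt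
  haveI := hKn
  have hKcard : Nat.card K = (P' : Subgroup G).index := hK.index_eq_card.symm
  have hKodd : Odd (Nat.card K) := by
    rw [hKcard, ← Nat.not_even_iff_odd, even_iff_two_dvd]
    exact P'.not_dvd_index
  obtain ⟨v, hv⟩ : ∃ v : ℕ, K.index = 2 ^ v := by
    have h1 : K.index = Nat.card (P' : Subgroup G) := hK.symm.index_eq_card
    rw [h1]
    exact IsPGroup.iff_card.1 P'.isPGroup'
  -- odd-order elements lie in `K`
  have hmemK : ∀ x : G, Odd (orderOf x) → x ∈ K := by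
    intro x hx
    rw [← QuotientGroup.eq_one_iff, ← orderOf_eq_one_iff]
    have h1 : orderOf (QuotientGroup.mk x : G ⧸ K) ∣ orderOf x :=
      orderOf_map_dvd (QuotientGroup.mk' K) x
    have h3 : orderOf (QuotientGroup.mk x : G ⧸ K) ∣ 2 ^ v := by
      rw [← hv, Subgroup.index_eq_card]
      exact orderOf_dvd_natCard _
    have hcop : Nat.Coprime (orderOf x) (2 ^ v) :=
      Nat.Coprime.pow_right _ (Nat.coprime_two_right.2 hx)
    exact Nat.eq_one_of_dvd_coprimes hcop h1 h3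
  -- Step 2: in `K`, normal `r`-complements with abelian Sylow subgroups for `r ∈ π ∖ {2}`
  have hρ : ∀ r ∈ π.erase 2, r.Prime := fun r hr => hπ r (Finset.mem_of_mem_erase hr)
  have hstep : ∀ r ∈ π.erase 2, ∃ L : Subgroup K, L.Normal ∧ ∃ R : Sylow r K,
      L.IsComplement' (R : Subgroup K) ∧ IsMulCommutative (R : Subgroup K) := by
    intro r hr
    have hrπ : r ∈ π := Finset.mem_of_mem_erase hr
    have hr2 : r ≠ 2 := Finset.ne_of_mem_erase hr
    have hrp : r.Prime := hπ r hrπ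
    haveI : Fact r.Prime := ⟨hrp⟩
    obtain ⟨R⟩ := (inferInstance : Nonempty (Sylow r K))
    apply odd_normal_complement hKodd hr2 R
    rw [← kPi_singleton_eq hrp, Sylow.card_eq_multiplicity R]
    have h1 : kPi {r} G ≤ kPi {r} K := by
      apply kPi_le_of_mem
      intro x hx
      apply hmemK
      obtain ⟨j, hj⟩ := (isPiElt_singleton_iff hrp x).1 hx
      rw [hj]
      exact (hrp.odd_of_ne_two hr2).pow
    have h3 : r ^ (Nat.card K).factorization r ≤ r ^ (Nat.card G).factorization r := by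
      apply Nat.pow_le_pow_right hrp.pos
      have hdvd : Nat.card K ∣ Nat.card G := Subgroup.card_subgroup_dvd_card _
      exact (Nat.factorization_le_iff_dvd Nat.card_pos.ne' Nat.card_pos.ne').2 hdvd r
    calc r ^ (Nat.card K).factorization r ≤ r ^ (Nat.card G).factorization r := h3
      _ < 2 * kPi {r} G := hr_lt r hrπ
      _ ≤ 2 * kPi {r} K := Nat.mul_le_mul_left _ h1
  obtain ⟨⟨N', hN'n, hN'card, hN'idx⟩, H', ⟨hH'1, hH'2⟩, hH'c⟩ :=
    Cfsg.Agent.S3899.assemble (G := K) (π.erase 2) hρ hstep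
  -- Step 3: transfer to `G`
  have hcopN : (Nat.card N').Coprime N'.index := by
    apply Nat.Coprime.symm
    apply Nat.coprime_of_dvd
    intro q hq hq1 hq2
    exact hN'card q hq hq2 (hN'idx q hq hq1)
  have hNnormal : (N'.map K.subtype).Normal := by
    constructor
    rintro n ⟨n', hn', rfl⟩ g
    have hxK : g * (n' : G) * g⁻¹ ∈ K := hKn.conj_mem _ n'.2 g
    refine ⟨⟨g * (n' : G) * g⁻¹, hxK⟩, ?_, rfl⟩
    have hmem : (⟨g * (n' : G) * g⁻¹, hxK⟩ : K) ∈ N' := by
      rw [← QuotientGroup.eq_one_iff, ← orderOf_eq_one_iff]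
      have h1 : orderOf (QuotientGroup.mk (⟨g * (n' : G) * g⁻¹, hxK⟩ : K) : K ⧸ N') ∣
          orderOf (⟨g * (n' : G) * g⁻¹, hxK⟩ : K) :=
        orderOf_map_dvd (QuotientGroup.mk' N') _
      have h3 : orderOf (⟨g * (n' : G) * g⁻¹, hxK⟩ : K) = orderOf n' := by
        rw [← Subgroup.orderOf_coe, ← Subgroup.orderOf_coe n']
        exact orderOf_conj g (n' : G)
      have h4 : orderOf n' ∣ Nat.card N' := by
        have h5 : orderOf (⟨n', hn'⟩ : N') ∣ Nat.card N' := orderOf_dvd_natCard _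
        rwa [Subgroup.orderOf_mk] at h5
      have h6 : orderOf (QuotientGroup.mk (⟨g * (n' : G) * g⁻¹, hxK⟩ : K) : K ⧸ N') ∣
          N'.index := by
        rw [Subgroup.index_eq_card]
        exact orderOf_dvd_natCard _
      rw [h3] at h1
      exact Nat.eq_one_of_dvd_coprimes hcopN (h1.trans h4) h6
    exact hmem
  refine ⟨⟨N'.map K.subtype, hNnormal, ?_, ?_⟩, H'.map K.subtype, ⟨?_, ?_⟩, ?_⟩
  · intro q hq hqd hqπ
    rw [Subgroup.card_map_of_injective K.subtype_injective] at hqd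
    have hq2 : q ≠ 2 := by
      rintro rfl
      have h1 : 2 ∣ Nat.card K := hqd.trans (Subgroup.card_subgroup_dvd_card N')
      exact (Nat.not_even_iff_odd.2 hKodd) (even_iff_two_dvd.2 h1)
    exact hN'card q hq hqd (Finset.mem_erase.2 ⟨hq2, hqπ⟩)
  · intro q hq hqd
    rw [Subgroup.index_map_subtype, hv] at hqd
    rcases (Nat.Prime.dvd_mul hq).1 hqd with h | h
    · exact Finset.mem_of_mem_erase (hN'idx q hq h)
    · have : q = 2 := (Nat.prime_dvd_prime_iff_eq hq Nat.prime_two).1 (hq.dvd_of_dvd_pow h)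
      rw [this]; exact h2
  · intro q hq hqd
    rw [Subgroup.card_map_of_injective K.subtype_injective] at hqd
    have h1 := hH'1 q hq hqd
    rw [Finset.coe_erase] at h1
    exact h1
  · intro q hq hqmem hqd
    rw [Subgroup.index_map_subtype, hv] at hqd
    rcases (Nat.Prime.dvd_mul hq).1 hqd with h | h
    · apply hH'2 q hq _ h
      rw [Finset.coe_erase]
      exact hqmem
    · have : q = 2 := (Nat.prime_dvd_prime_iff_eq hq Nat.prime_two).1 (hq.dvd_of_dvd_pow h)
      exact hqmem.2 (by rw [this]; rfl)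
  · refine ⟨⟨?_⟩⟩
    rintro ⟨a, a', ha', rfl⟩ ⟨b, b', hb', rfl⟩
    apply Subtype.ext
    have h1 : (⟨a', ha'⟩ : H') * ⟨b', hb'⟩ = ⟨b', hb'⟩ * ⟨a', ha'⟩ := hH'c.is_comm.comm _ _
    have h3 : a' * b' = b' * a' := congrArg Subtype.val h1
    have h4 := congrArg Subtype.val h3
    simpa using h4

end Cfsg.Agent.Helper6.KPiTwo
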