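import Mathlib
import Cfsg.Prelude.Def_Characters
import Cfsg.Prelude.Def_Blocks
import Cfsg.Prelude.Def_BlockRank
import Cfsg.Agent.Helper6.KRa
import Cfsg.Agent.Helper6.SectionCountB
import Cfsg.Agent.Helper6.K4J

/-!
# The weighted count `|G| (k(B) - l(B))` over the non-trivial `p`-elements (towards S4651)
-/

set_option autoImplicit false
set_option linter.style.haveILetI false

namespace Cfsg.Agent.Helper6.KR

open Module
open scoped ComplexConjugate
open Cfsg.Agent.Helper6

universe u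

variable {G : Type u} [Group G] {M : Ideal Cfsg.AlgInt}

open Classical in
/-- `|G| k(B)` as a sum over all `p`-elements `x` of `|C_G(x)|` times the ranks of the
subsections at `x` -/
theorem card_mul_card_block [Fintype G] {p : ℕ} [hp : Fact p.Prime]
    (hM : Cfsg.IsPModular p M) (B : Set (Cfsg.IrrCharacter G)) (hB : Cfsg.IsPBlock M B) :
    (Nat.card G : ℂ) * (Nat.card B : ℂ) = ∑ x : G,
      if (∃ k : ℕ, orderOf x = p ^ k) then
        (Nat.card (Subgroup.centralizer ({x} : Set G)) : ℂ) *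
          ∑ᶠ b ∈ K4.subsecSet M B x, (Cfsg.blockRank p b : ℂ)
      else 0 := by
  classical
  haveI : Finite (Cfsg.IrrCharacter G) := irr_finite
  haveI : Fintype (Cfsg.IrrCharacter G) := Fintype.ofFinite _
  have hG0 : (Nat.card G : ℂ) ≠ 0 := by
    have : 0 < Nat.card G := Nat.card_pos
    exact_mod_cast this.ne'
  obtain ⟨Λ, hΛ⟩ : ∃ Λ : G → ℂ, ∀ g, Λ g =
      ∑ᶠ χ ∈ B, (χ : G → ℂ) g * conj ((χ : G → ℂ) g) := ⟨_, fun _ => rfl⟩
  have hleft : ∑ g : G, Λ g = (Nat.card G : ℂ) * (Nat.card B : ℂ) := by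
    simp_rw [hΛ, finsum_mem_eq_sum_ite]
    rw [Finset.sum_comm]
    have h1 : ∀ χ : Cfsg.IrrCharacter G, ∑ g : G,
        (if χ ∈ B then (χ : G → ℂ) g * conj ((χ : G → ℂ) g) else 0) =
        if χ ∈ B then (Nat.card G : ℂ) else 0 := by
      intro χ
      split_ifs
      · have h2 := classInner_irr_self χ.2
        rw [classInner_def] at h2
        rw [← mul_one (Nat.card G : ℂ), ← h2, ← mul_assoc, mul_inv_cancel₀ hG0, one_mul]
      · rw [Finset.sum_const_zero]
    simp_rw [h1]
    rw [← Finset.sum_filter, Finset.sum_const, nsmul_eq_mul, mul_comm]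
    congr 2
    rw [Nat.card_eq_fintype_card, Fintype.card_subtype]
  rw [← hleft, sum_eq_sum_isPPart p Λ]
  apply Finset.sum_congr rfl
  intro x _
  by_cases hx : ∃ k : ℕ, orderOf x = p ^ k
  · rw [if_pos hx]
    haveI : Fintype (Subgroup.centralizer ({x} : Set G)) := Fintype.ofFinite _
    rw [sum_isPPart_eq x hx Λ]
    simp_rw [hΛ]
    rw [sum_section_eq_card_mul_ranks hM B hB x hx]
    rfl
  · rw [if_neg hx]
    apply Finset.sum_eq_zero
    intro g _
    rw [if_neg]
    rintro ⟨w, -, -, h, -⟩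
    exact hx h

open Classical in
/-- **`|G| (k(B) - l(B))`** as a sum over the non-trivial `p`-elements -/
theorem card_mul_card_sub_rank [Fintype G] {p : ℕ} [hp : Fact p.Prime]
    (hM : Cfsg.IsPModular p M) (B : Set (Cfsg.IrrCharacter G)) (hB : Cfsg.IsPBlock M B) :
    (Nat.card G : ℂ) * ((Nat.card B : ℂ) - (Cfsg.blockRank p B : ℂ)) = ∑ x : G,
      if (x ≠ 1 ∧ ∃ k : ℕ, orderOf x = p ^ k) then
        (Nat.card (Subgroup.centralizer ({x} : Set G)) : ℂ) *
          ∑ᶠ b ∈ K4.subsecSet M B x, (Cfsg.blockRank p b : ℂ)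
      else 0 := by
  classical
  rw [mul_sub, card_mul_card_block hM B hB]
  rw [← Finset.add_sum_erase _ _ (Finset.mem_univ (1 : G))]
  have h1 : (∃ k : ℕ, orderOf (1 : G) = p ^ k) := ⟨0, by simp⟩
  rw [if_pos h1]
  have hK : Subgroup.centralizer ({(1 : G)} : Set G) = ⊤ := by
    rw [Subgroup.centralizer_eq_top_iff_subset]
    intro y hy
    rw [Set.mem_singleton_iff] at hy
    rw [hy]
    exact Subgroup.one_mem _
  have hcard : Nat.card (Subgroup.centralizer ({(1 : G)} : Set G)) = Nat.card G := by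
    rw [hK]
    exact Nat.card_congr Subgroup.topEquiv.toEquiv
  have hfin : (K4.subsecSet M B (1 : G)).Finite := by
    haveI : Finite (Cfsg.IrrCharacter (Subgroup.centralizer ({(1 : G)} : Set G))) := irr_finite
    exact Set.toFinite _
  have h2 : ∑ᶠ b ∈ K4.subsecSet M B (1 : G), (Cfsg.blockRank p b : ℂ) =
      (Cfsg.blockRank p B : ℂ) := by
    rw [← Nat.cast_finsum_mem hfin, K4.finsum_subsec_one hM B hB]
  rw [h2, hcard, add_sub_cancel_left]
  rw [← Finset.sum_erase (Finset.univ : Finset G) (a := (1 : G))]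
  · apply Finset.sum_congr rfl
    intro x hx
    have hx1 : x ≠ 1 := Finset.ne_of_mem_erase hx
    by_cases hxp : ∃ k : ℕ, orderOf x = p ^ k
    · rw [if_pos hxp, if_pos ⟨hx1, hxp⟩]
    · rw [if_neg hxp, if_neg (fun h => hxp h.2)]
  · rw [if_neg]
    intro h
    exact h.1 rfl

end Cfsg.Agent.Helper6.KR
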