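import Mathlib
import Cfsg.Prelude.Def_Characters
import Cfsg.Prelude.Def_Blocks
import Cfsg.Prelude.Def_BlockRank
import Cfsg.Agent.Helper6.KRb
import Cfsg.Agent.Helper6.BlkNestA
import Cfsg.Agent.Helper6.InducedTrans
import Cfsg.Agent.Helper6.MaximalPairDefect
import Cfsg.Agent.Helper6.K4G

/-!
# Characters of a subgroup lying in blocks that induce a given block; the sections of a subgroup
(towards S4651)
-/

set_option autoImplicit false
set_option linter.style.haveILetI false

namespace Cfsg.Agent.Helper6.KR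

open Module
open scoped ComplexConjugate
open Cfsg.Agent.Helper6

universe u

variable {G : Type u} [Group G] {M : Ideal Cfsg.AlgInt}

/-- the irreducible characters of the subgroup `K` lying in blocks of `K` that induce `b` -/
def indChars (M : Ideal Cfsg.AlgInt) (K : Subgroup G) (b : Set (Cfsg.IrrCharacter G)) :
    Set (Cfsg.IrrCharacter K) :=
  {ψ | ∃ β : Set (Cfsg.IrrCharacter K), ψ ∈ β ∧ Cfsg.IsInducedBlock M K β b}

theorem indChars_eq (hM : M.IsMaximal) (K : Subgroup G) (b : Set (Cfsg.IrrCharacter G)) :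
    indChars M K b = {ψ : Cfsg.IrrCharacter K |
      Cfsg.IsInducedBlock M K (Cfsg.blockOf M (ψ : K → ℂ)) b} := by
  ext ψ
  constructor
  · rintro ⟨β, hψ, hβ⟩
    have := eq_blockOf_of_mem hM β hβ.1 ψ hψ
    rw [Set.mem_ofPred_eq, ← this]
    exact hβ
  · intro h
    exact ⟨_, mem_blockOf_self hM ψ, h⟩

/-- the centralizer in `H` of an element of `H`, as a subgroup of `G` -/
def centInEquiv (H : Subgroup G) (y : H) :
    Subgroup.centralizer ({y} : Set H) ≃* (H ⊓ Subgroup.centralizer ({(y : G)} : Set G) : Subgroup G) where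
  toFun c := ⟨((c : H) : G), by
    refine Subgroup.mem_inf.mpr ⟨(c : H).2, ?_⟩
    apply Subgroup.mem_centralizer_singleton_iff.mpr
    have := Subgroup.mem_centralizer_singleton_iff.mp c.2
    exact_mod_cast congrArg (Subtype.val) this⟩
  invFun c := ⟨⟨(c : G), (Subgroup.mem_inf.mp c.2).1⟩, by
    apply Subgroup.mem_centralizer_singleton_iff.mpr
    have := Subgroup.mem_centralizer_singleton_iff.mp (Subgroup.mem_inf.mp c.2).2
    exact Subtype.ext this⟩
  left_inv c := rfl
  right_inv c := rfl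
  map_mul' c d := rfl

theorem coe_centInEquiv (H : Subgroup G) (y : H) (c : Subgroup.centralizer ({y} : Set H)) :
    ((centInEquiv H y c : (H ⊓ Subgroup.centralizer ({(y : G)} : Set G) : Subgroup G)) : G) =
      ((c : H) : G) := rfl

/-- the second half of the transitivity of block induction -/
theorem isInducedBlock_of_trans_of_equiv [Finite G] (hM : M.IsMaximal) (H : Subgroup G)
    (K' : Subgroup H) (K : Subgroup G) (φ : K' ≃* K)
    (hφ : ∀ c : K', ((φ c : K) : G) = ((c : H) : G))
    (e' : Set (Cfsg.IrrCharacter K')) (β : Set (Cfsg.IrrCharacter H))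
    (B : Set (Cfsg.IrrCharacter G))
    (h1 : Cfsg.IsInducedBlock M K' e' β)
    (h3 : Cfsg.IsInducedBlock M H β B) :
    Cfsg.IsInducedBlock M K (irrComp φ.symm '' e') B := by
  obtain ⟨ξ₀, he'⟩ := h1.1
  have hblk : Cfsg.IsPBlock M (irrComp φ.symm '' e') := by
    rw [he', image_irrComp_blockOf]
    exact ⟨_, rfl⟩
  refine ⟨hblk, h3.2.1, ?_⟩
  rintro ξ ⟨ξ', hξ', rfl⟩ χ hχ g
  obtain ⟨ψ, hψ⟩ := K4.isPBlock_nonempty' hM β h1.2.1
  have t1 := inducedCentralChar_trans hM H K' K φ hφ (ξ' : K' → ℂ) (ψ : H → ℂ)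
    (IsCharacter.isClassFunction (IsIrrCharacter.isCharacter ψ.2))
    (fun h => h1.2.2 ξ' hξ' ψ hψ h) g
  have t3 := h3.2.2 ψ hψ χ hχ g
  have e1 : ((irrComp φ.symm ξ' : Cfsg.IrrCharacter K) : K → ℂ) = (ξ' : K' → ℂ) ∘ φ.symm := rfl
  rw [e1]
  have := MemLocalIdeal.sub hM t3 t1
  rwa [sub_sub_sub_cancel_left] at this

/-- every block of the centralizer of a `p`-element induces a block -/
theorem exists_induced_of_centralizer [Finite G] {p : ℕ} [hp : Fact p.Prime]
    (hM : Cfsg.IsPModular p M) (y : G) (hy : ∃ k : ℕ, orderOf y = p ^ k)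
    (β' : Set (Cfsg.IrrCharacter (Subgroup.centralizer ({y} : Set G))))
    (hβ' : Cfsg.IsPBlock M β') :
    ∃ β : Set (Cfsg.IrrCharacter G),
      Cfsg.IsInducedBlock M (Subgroup.centralizer ({y} : Set G)) β' β := by
  have hD : IsPGroup p (Subgroup.zpowers y) := by
    obtain ⟨k, hk⟩ := hy
    apply IsPGroup.of_card (n := k)
    rw [Nat.card_zpowers, hk]
  have hcomm : ∀ c ∈ Subgroup.centralizer ({y} : Set G), ∀ z ∈ Subgroup.zpowers y,
      z * c = c * z := by
    intro c hc z hz
    rw [Subgroup.mem_centralizer_singleton_iff] at hc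
    obtain ⟨n, rfl⟩ := Subgroup.mem_zpowers_iff.mp hz
    have : Commute c y := hc
    exact ((this.zpow_right n).eq).symm
  refine exists_induced_of_local hM (Subgroup.zpowers y) _ hD ?_ ?_ ?_ β' hβ'
  · intro z hz
    rw [Subgroup.mem_centralizer_singleton_iff]
    obtain ⟨n, rfl⟩ := Subgroup.mem_zpowers_iff.mp hz
    exact ((Commute.refl y).zpow_left n).eq
  · intro c hc
    rw [Subgroup.mem_centralizer_singleton_iff]
    rw [Subgroup.mem_centralizer_iff] at hc
    exact (hc y (Subgroup.mem_zpowers y)).symm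
  · intro c hc
    rw [Subgroup.mem_normalizer_iff]
    intro z
    constructor
    · intro hz
      have := hcomm c hc z hz
      have e : c * z * c⁻¹ = z := by rw [← this]; group
      rw [e]; exact hz
    · intro hz
      have := hcomm c hc _ hz
      have e : c * z * c⁻¹ = z := by
        have h2 : c * z * c⁻¹ * c = c * (c * z * c⁻¹) := by rw [this]
        have h3 : c * z * c⁻¹ * c = c * z := by group
        rw [h3] at h2
        exact (mul_left_cancel h2).symm
      rw [← e]; exact hz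

/-- **the subsections of the blocks of `H` inducing `b`, at a `p`-element `y` of `H`**: their
ranks add up to the rank of the characters of `H ∩ C_G(y)` in blocks inducing `b` -/
theorem finsum_subsec_indChars [Finite G] {p : ℕ} [hp : Fact p.Prime]
    (hM : Cfsg.IsPModular p M) (b : Set (Cfsg.IrrCharacter G)) (H : Subgroup G) (y : H)
    (hy : ∃ k : ℕ, orderOf y = p ^ k) :
    ∑ᶠ β ∈ {β : Set (Cfsg.IrrCharacter H) | Cfsg.IsInducedBlock M H β b},
      ∑ᶠ β' ∈ K4.subsecSet M β y, Cfsg.blockRank p β' =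
    Cfsg.blockRank p
      (indChars M (H ⊓ Subgroup.centralizer ({(y : G)} : Set G) : Subgroup G) b) := by
  classical
  haveI : Finite (Cfsg.IrrCharacter H) := irr_finite
  haveI : Finite (Cfsg.IrrCharacter (Subgroup.centralizer ({y} : Set H))) := irr_finite
  set φ := centInEquiv H y with hφdef
  have hφ : ∀ c : Subgroup.centralizer ({y} : Set H),
      ((φ c : (H ⊓ Subgroup.centralizer ({(y : G)} : Set G) : Subgroup G)) : G) =
        ((c : H) : G) := fun c => rfl
  obtain ⟨Q', hQ'⟩ : ∃ Q' : Set (Cfsg.IrrCharacter (Subgroup.centralizer ({y} : Set H))) → Prop,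
      ∀ β', Q' β' ↔ ∃ β : Set (Cfsg.IrrCharacter H), Cfsg.IsInducedBlock M H β b ∧
        Cfsg.IsInducedBlock M (Subgroup.centralizer ({y} : Set H)) β' β := ⟨_, fun _ => Iff.rfl⟩
  have hQ'blk : ∀ β', Q' β' → Cfsg.IsPBlock M β' := by
    intro β' h
    obtain ⟨β, -, h2⟩ := (hQ' β').mp h
    exact h2.1
  have hQ'iff : ∀ β', Cfsg.IsPBlock M β' → (Q' β' ↔ Cfsg.IsInducedBlock M
      (H ⊓ Subgroup.centralizer ({(y : G)} : Set G) : Subgroup G) (irrComp φ.symm '' β') b) := by
    intro β' hβ'
    rw [hQ']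
    constructor
    · rintro ⟨β, h1, h2⟩
      exact isInducedBlock_of_trans_of_equiv hM.2.1 H _ _ φ hφ β' β b h2 h1
    · intro h
      obtain ⟨β, hβ⟩ := exists_induced_of_centralizer hM y hy β' hβ'
      exact ⟨β, isInducedBlock_trans_of_equiv hM.2.1 H _ _ φ hφ β' β b hβ h, hβ⟩
  -- flatten the double sum
  have hunion : {β' : Set (Cfsg.IrrCharacter (Subgroup.centralizer ({y} : Set H))) | Q' β'} =
      ⋃ β ∈ {β : Set (Cfsg.IrrCharacter H) | Cfsg.IsInducedBlock M H β b},
        K4.subsecSet M β y := by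
    ext β'
    simp only [Set.mem_ofPred_eq, Set.mem_iUnion, exists_prop, hQ']
    rfl
  have hdisj : ({β : Set (Cfsg.IrrCharacter H) | Cfsg.IsInducedBlock M H β b}).PairwiseDisjoint
      (fun β => K4.subsecSet M β y) := by
    intro β₁ _ β₂ _ hne
    rw [Function.onFun, Set.disjoint_left]
    intro β' h1 h2
    exact hne (isInducedBlock_unique hM.2.1 _ β' β₁ β₂ h1 h2)
  rw [← finsum_mem_biUnion hdisj (Set.toFinite _) (fun β _ => Set.toFinite _), ← hunion,
    ← blockRank_blocks hM Q' hQ'blk]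
  have hset : {ψ : Cfsg.IrrCharacter (Subgroup.centralizer ({y} : Set H)) |
      Q' (Cfsg.blockOf M (ψ : Subgroup.centralizer ({y} : Set H) → ℂ))} =
      irrComp φ '' indChars M (H ⊓ Subgroup.centralizer ({(y : G)} : Set G) : Subgroup G) b := by
    rw [indChars_eq hM.2.1]
    ext ψ'
    rw [Set.mem_ofPred_eq, hQ'iff _ ⟨ψ', rfl⟩, image_irrComp_blockOf]
    constructor
    · intro h
      exact ⟨irrComp φ.symm ψ', h, irrComp_symm_cancel φ ψ'⟩
    · rintro ⟨ψ, hψ, rfl⟩
      rw [Set.mem_ofPred_eq] at hψ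
      have : irrComp φ.symm (irrComp φ ψ) = ψ := by
        have h0 := irrComp_symm_cancel φ.symm ψ
        rwa [MulEquiv.symm_symm] at h0
      rw [this]
      exact hψ
  rw [hset, K4.blockRank_image_irrComp]

end Cfsg.Agent.Helper6.KR
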