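import Mathlib
import Cfsg.Prelude.Def_Characters
import Cfsg.Prelude.Def_Blocks
import Cfsg.Prelude.Def_BlockRank
import Cfsg.Agent.Helper6.KRc

/-!
# `|H| (k - l)` for the characters of a subgroup `H` in blocks inducing `b`, over the non-trivial
`p`-elements of `H` (towards S4651)
-/

set_option autoImplicit false
set_option linter.style.haveILetI false

namespace Cfsg.Agent.Helper6.KR

open Module
open scoped ComplexConjugate
open Cfsg.Agent.Helper6

universe u

variable {G : Type u} [Group G] {M : Ideal Cfsg.AlgInt}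

open Classical in
/-- **the count `|H| (k - l)` of a subgroup over its non-trivial `p`-elements** -/
theorem card_mul_indChars_sub_rank [Fintype G] {p : ℕ} [hp : Fact p.Prime]
    (hM : Cfsg.IsPModular p M) (b : Set (Cfsg.IrrCharacter G)) (H : Subgroup G) :
    (Nat.card H : ℂ) * ((Nat.card (indChars M H b) : ℂ) -
        (Cfsg.blockRank p (indChars M H b) : ℂ)) =
      ∑ x : G, if (x ∈ H ∧ x ≠ 1 ∧ ∃ k : ℕ, orderOf x = p ^ k) then
        (Nat.card (H ⊓ Subgroup.centralizer ({x} : Set G) : Subgroup G) : ℂ) *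
          (Cfsg.blockRank p
            (indChars M (H ⊓ Subgroup.centralizer ({x} : Set G) : Subgroup G) b) : ℂ)
      else 0 := by
  classical
  haveI : Fintype H := Fintype.ofFinite H
  haveI : Finite (Cfsg.IrrCharacter H) := irr_finite
  obtain ⟨Q, hQdef⟩ : ∃ Q : Set (Cfsg.IrrCharacter H) → Prop,
      ∀ β, Q β ↔ Cfsg.IsInducedBlock M H β b := ⟨_, fun _ => Iff.rfl⟩
  have hQ : ∀ β, Q β → Cfsg.IsPBlock M β := fun β h => ((hQdef β).mp h).1
  have hfin : {β : Set (Cfsg.IrrCharacter H) | Q β}.Finite := Set.toFinite _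
  have hQset : {β : Set (Cfsg.IrrCharacter H) | Q β} =
      {β : Set (Cfsg.IrrCharacter H) | Cfsg.IsInducedBlock M H β b} := by
    ext β
    exact hQdef β
  have hU : indChars M H b = {ψ : Cfsg.IrrCharacter H | Q (Cfsg.blockOf M (ψ : H → ℂ))} := by
    rw [indChars_eq hM.2.1]
    ext ψ
    exact (hQdef _).symm
  rw [hU, card_blocks hM.2.1 Q hQ, blockRank_blocks hM Q hQ, Nat.cast_finsum_mem hfin,
    Nat.cast_finsum_mem hfin, finsum_mem_eq_finite_toFinset_sum _ hfin,
    finsum_mem_eq_finite_toFinset_sum _ hfin, ← Finset.sum_sub_distrib, Finset.mul_sum]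
  have step : ∀ β ∈ hfin.toFinset, (Nat.card H : ℂ) * ((Nat.card β : ℂ) -
      (Cfsg.blockRank p β : ℂ)) = ∑ y : H,
      if (y ≠ 1 ∧ ∃ k : ℕ, orderOf y = p ^ k) then
        (Nat.card (Subgroup.centralizer ({y} : Set H)) : ℂ) *
          ∑ᶠ β' ∈ K4.subsecSet M β y, (Cfsg.blockRank p β' : ℂ)
      else 0 := by
    intro β hβ
    rw [Set.Finite.mem_toFinset] at hβ
    rw [card_mul_card_sub_rank hM β (hQ β hβ)]
    apply Finset.sum_congr rfl
    intro y _
    by_cases h : (y ≠ 1 ∧ ∃ k : ℕ, orderOf y = p ^ k)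
    · rw [if_pos h, if_pos h]
    · rw [if_neg h, if_neg h]
  rw [Finset.sum_congr rfl step, Finset.sum_comm]
  -- the right hand side as a sum over `H`
  have hR : ∀ F' : G → ℂ, ∑ x : G, (if x ∈ H then F' x else 0) = ∑ y : H, F' (y : G) := by
    intro F'
    rw [← Finset.sum_filter]
    exact Finset.sum_subtype _ (by simp) _
  have hR2 : ∀ x : G, (if (x ∈ H ∧ x ≠ 1 ∧ ∃ k : ℕ, orderOf x = p ^ k) then
        (Nat.card (H ⊓ Subgroup.centralizer ({x} : Set G) : Subgroup G) : ℂ) *
          (Cfsg.blockRank p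
            (indChars M (H ⊓ Subgroup.centralizer ({x} : Set G) : Subgroup G) b) : ℂ)
      else 0) = if x ∈ H then (if (x ≠ 1 ∧ ∃ k : ℕ, orderOf x = p ^ k) then
        (Nat.card (H ⊓ Subgroup.centralizer ({x} : Set G) : Subgroup G) : ℂ) *
          (Cfsg.blockRank p
            (indChars M (H ⊓ Subgroup.centralizer ({x} : Set G) : Subgroup G) b) : ℂ)
      else 0) else 0 := by
    intro x
    rw [ite_and]
  simp_rw [hR2]
  rw [hR]
  apply Finset.sum_congr rfl
  intro y _
  have hcond : (y ≠ 1 ∧ ∃ k : ℕ, orderOf y = p ^ k) ↔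
      ((y : G) ≠ 1 ∧ ∃ k : ℕ, orderOf (y : G) = p ^ k) := by
    rw [Subgroup.orderOf_coe]
    constructor
    · rintro ⟨h1, h2⟩
      refine ⟨fun h => h1 ?_, h2⟩
      exact Subtype.ext h
    · rintro ⟨h1, h2⟩
      refine ⟨fun h => h1 ?_, h2⟩
      rw [h]; rfl
  by_cases hy : (y ≠ 1 ∧ ∃ k : ℕ, orderOf y = p ^ k)
  · rw [if_pos (hcond.mp hy)]
    simp_rw [if_pos hy]
    rw [← Finset.mul_sum]
    have hcard : Nat.card (Subgroup.centralizer ({y} : Set H)) =
        Nat.card (H ⊓ Subgroup.centralizer ({(y : G)} : Set G) : Subgroup G) :=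
      Nat.card_congr (centInEquiv H y).toEquiv
    rw [hcard]
    congr 1
    have hkey := finsum_subsec_indChars hM b H y hy.2
    rw [← hkey, ← hQset, Nat.cast_finsum_mem hfin, finsum_mem_eq_finite_toFinset_sum _ hfin]
    apply Finset.sum_congr rfl
    intro β _
    haveI : Finite (Cfsg.IrrCharacter (Subgroup.centralizer ({y} : Set H))) := irr_finite
    rw [Nat.cast_finsum_mem (Set.toFinite _)]
  · rw [if_neg (fun h => hy (hcond.mpr h))]
    simp_rw [if_neg hy]
    rw [Finset.sum_const_zero]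

open Classical in
/-- **the count `|G| (k(b) - l(b))`** over the non-trivial `p`-elements, through the characters of
the centralizers in blocks inducing `b` -/
theorem card_mul_block_sub_rank [Fintype G] {p : ℕ} [hp : Fact p.Prime]
    (hM : Cfsg.IsPModular p M) (b : Set (Cfsg.IrrCharacter G)) (hb : Cfsg.IsPBlock M b) :
    (Nat.card G : ℂ) * ((Nat.card b : ℂ) - (Cfsg.blockRank p b : ℂ)) =
      ∑ x : G, if (x ≠ 1 ∧ ∃ k : ℕ, orderOf x = p ^ k) then
        (Nat.card (Subgroup.centralizer ({x} : Set G)) : ℂ) *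
          (Cfsg.blockRank p (indChars M (Subgroup.centralizer ({x} : Set G)) b) : ℂ)
      else 0 := by
  classical
  rw [card_mul_card_sub_rank hM b hb]
  apply Finset.sum_congr rfl
  intro x _
  by_cases h : (x ≠ 1 ∧ ∃ k : ℕ, orderOf x = p ^ k)
  · rw [if_pos h, if_pos h]
    congr 1
    haveI : Finite (Cfsg.IrrCharacter (Subgroup.centralizer ({x} : Set G))) := irr_finite
    rw [indChars_eq hM.2.1, blockRank_blocks hM
      (fun β => Cfsg.IsInducedBlock M (Subgroup.centralizer ({x} : Set G)) β b)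
      (fun β h => h.1), Nat.cast_finsum_mem (Set.toFinite _)]
    rfl
  · rw [if_neg h, if_neg h]

end Cfsg.Agent.Helper6.KR
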