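import Mathlib
import Cfsg.Agent.Helper6.KRe

/-!
# The first involution: inserting the cyclic group of a `p`-element into a chain (towards S4651)
-/

set_option autoImplicit false
set_option linter.style.haveILetI false

namespace Cfsg.Agent.Helper6.KR

universe u

variable {G : Type u} [Group G]

open Classical in
/-- the member to be toggled: the join of `⟨x⟩` with the largest member not containing `x` -/
noncomputable def mA (x : G) (s : Finset (Subgroup G)) : Subgroup G :=
  (s.filter (fun Q => ¬ Subgroup.zpowers x ≤ Q)).sup id ⊔ Subgroup.zpowers x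

theorem zpowers_le_mA (x : G) (s : Finset (Subgroup G)) : Subgroup.zpowers x ≤ mA x s :=
  le_sup_right

theorem mA_tog (x : G) (s : Finset (Subgroup G)) : mA x (tog (mA x s) s) = mA x s := by
  classical
  unfold mA
  rw [filter_tog _ s (fun Q => ¬ Subgroup.zpowers x ≤ Q)]
  rw [not_not]
  exact le_sup_right

theorem mA_empty (x : G) : mA x ∅ = Subgroup.zpowers x := by
  classical
  unfold mA
  rw [Finset.filter_empty, Finset.sup_empty, bot_sup_eq]

theorem mA_singleton (x : G) : mA x {Subgroup.zpowers x} = Subgroup.zpowers x := by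
  classical
  unfold mA
  have : ({Subgroup.zpowers x} : Finset (Subgroup G)).filter
      (fun Q => ¬ Subgroup.zpowers x ≤ Q) = ∅ := by
    rw [Finset.filter_eq_empty_iff]
    intro Q hQ
    rw [Finset.mem_singleton] at hQ
    rw [hQ, not_not]
  rw [this, Finset.sup_empty, bot_sup_eq]

/-- the structure of the largest member not containing `x` -/
theorem mA_aux (x : G) (s : Finset (Subgroup G))
    (hch : ∀ Q ∈ s, ∀ R ∈ s, Q ≤ R ∨ R ≤ Q) :
    ∃ Qs : Subgroup G, mA x s = Qs ⊔ Subgroup.zpowers x ∧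
      (Qs = ⊥ ∨ (Qs ∈ s ∧ ¬ Subgroup.zpowers x ≤ Qs)) ∧
      (∀ Q ∈ s, ¬ Subgroup.zpowers x ≤ Q → Q ≤ Qs) ∧
      (∀ Q ∈ s, Subgroup.zpowers x ≤ Q → Qs ≤ Q) := by
  classical
  refine ⟨(s.filter (fun Q => ¬ Subgroup.zpowers x ≤ Q)).sup id, rfl, ?_, ?_, ?_⟩
  · by_cases ht : (s.filter (fun Q => ¬ Subgroup.zpowers x ≤ Q)).Nonempty
    · right
      have hmem := sup_mem_of_chain _ ht (fun Q hQ R hR =>
        hch Q (Finset.mem_filter.mp hQ).1 R (Finset.mem_filter.mp hR).1)
      exact Finset.mem_filter.mp hmem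
    · left
      rw [Finset.not_nonempty_iff_eq_empty] at ht
      rw [ht, Finset.sup_empty]
  · intro Q hQ hXQ
    exact Finset.le_sup (f := id) (Finset.mem_filter.mpr ⟨hQ, hXQ⟩)
  · intro Q hQ hXQ
    apply Finset.sup_le
    intro Q' hQ'
    rw [Finset.mem_filter] at hQ'
    rcases hch Q' hQ'.1 Q hQ with h | h
    · exact h
    · exact absurd (hXQ.trans h) hQ'.2

/-- the properties of the toggled member -/
theorem mA_props {p : ℕ} (x : G) (hxp : IsPGroup p (Subgroup.zpowers x))
    (hx1 : Subgroup.zpowers x ≠ ⊥) (s : Finset (Subgroup G))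
    (hch : ∀ Q ∈ s, ∀ R ∈ s, Q ≤ R ∨ R ≤ Q) (hp : ∀ Q ∈ s, Q ≠ ⊥ ∧ IsPGroup p Q)
    (hx : x ∈ nrm s) :
    mA x s ≠ ⊥ ∧ IsPGroup p (mA x s) ∧ (∀ Q ∈ s, Q ≤ mA x s ∨ mA x s ≤ Q) ∧
      x ∈ Subgroup.normalizer ((mA x s : Subgroup G) : Set G) ∧
      (∀ g : G, (∀ Q ∈ s, Q ≠ mA x s → g ∈ Subgroup.normalizer ((Q : Subgroup G) : Set G)) →
        g ∈ Subgroup.centralizer ({x} : Set G) →
        g ∈ Subgroup.normalizer ((mA x s : Subgroup G) : Set G)) := by
  obtain ⟨Qs, hM, hQs, hle, hge⟩ := mA_aux x s hch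
  have hXM : Subgroup.zpowers x ≤ mA x s := zpowers_le_mA x s
  have hQsne : Qs ≠ mA x s := by
    rcases hQs with h | h
    · rw [h]
      intro h2
      rw [← h2] at hXM
      exact hx1 (le_bot_iff.mp hXM)
    · intro h2
      rw [← h2] at hXM
      exact h.2 hXM
  have hnormQs : ∀ g : G, (∀ Q ∈ s, Q ≠ mA x s →
      g ∈ Subgroup.normalizer ((Q : Subgroup G) : Set G)) →
      g ∈ Subgroup.normalizer ((Qs : Subgroup G) : Set G) := by
    intro g hg
    rcases hQs with h | h
    · rw [h]
      have : Subgroup.normalizer (((⊥ : Subgroup G) : Subgroup G) : Set G) = ⊤ :=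
        Subgroup.normalizer_eq_top _
      rw [this]
      exact Subgroup.mem_top g
    · exact hg Qs h.1 hQsne
  have hxQs : x ∈ Subgroup.normalizer ((Qs : Subgroup G) : Set G) :=
    hnormQs x (fun Q hQ _ => (mem_nrm s x).mp hx Q hQ)
  have hnormX : ∀ g : G, g ∈ Subgroup.centralizer ({x} : Set G) →
      g ∈ Subgroup.normalizer ((Subgroup.zpowers x : Subgroup G) : Set G) := by
    intro g hg
    rw [Subgroup.mem_normalizer_iff_map_conj_eq, MonoidHom.map_zpowers]
    congr 1
    rw [Subgroup.mem_centralizer_singleton_iff] at hg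
    simp only [MonoidHom.coe_coe, MulAut.conj_apply]
    rw [hg]; group
  have hxX : x ∈ Subgroup.centralizer ({x} : Set G) :=
    Subgroup.mem_centralizer_singleton_iff.mpr rfl
  have hQsp : IsPGroup p Qs := by
    rcases hQs with h | h
    · rw [h]; exact IsPGroup.of_bot
    · exact (hp Qs h.1).2
  refine ⟨?_, ?_, ?_, ?_, ?_⟩
  · intro h
    rw [h] at hXM
    exact hx1 (le_bot_iff.mp hXM)
  · rw [hM]
    apply IsPGroup.to_sup_of_normal_left' hQsp hxp
    rw [Subgroup.zpowers_le]
    exact hxQs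
  · intro Q hQ
    by_cases hXQ : Subgroup.zpowers x ≤ Q
    · right
      rw [hM]
      exact sup_le (hge Q hQ hXQ) hXQ
    · left
      rw [hM]
      exact (hle Q hQ hXQ).trans le_sup_left
  · rw [hM]
    exact Subgroup.normalizer_inf_normalizer_le_normalizer_sup _ _ ⟨hxQs, hnormX x hxX⟩
  · intro g hg hgC
    rw [hM]
    rw [hM] at hg
    exact Subgroup.normalizer_inf_normalizer_le_normalizer_sup _ _
      ⟨hnormQs g (by rw [hM]; exact hg), hnormX g hgC⟩

/-- **the alternating sum over all chains stabilized by the `p`-element `x`** -/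
theorem sumA {p : ℕ} (x : G) (hx1 : x ≠ 1) (hxp : ∃ k : ℕ, orderOf x = p ^ k)
    (S : Finset (Finset (Subgroup G))) (hS : ∀ s, s ∈ S ↔ IsCh p s ∧ x ∈ nrm s)
    (F : Subgroup G → ℤ) :
    ∑ s ∈ S, sgn s * F (nrm s ⊓ Subgroup.centralizer ({x} : Set G)) =
      F (Subgroup.centralizer ({x} : Set G)) := by
  classical
  have hXp : IsPGroup p (Subgroup.zpowers x) := by
    obtain ⟨k, hk⟩ := hxp
    apply IsPGroup.of_card (n := k)
    rw [Nat.card_zpowers, hk]
  have hX1 : Subgroup.zpowers x ≠ ⊥ := by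
    intro h
    rw [Subgroup.zpowers_eq_bot] at h
    exact hx1 h
  have hnormX : ∀ g : G, g ∈ Subgroup.centralizer ({x} : Set G) →
      g ∈ Subgroup.normalizer ((Subgroup.zpowers x : Subgroup G) : Set G) := by
    intro g hg
    rw [Subgroup.mem_normalizer_iff_map_conj_eq, MonoidHom.map_zpowers]
    congr 1
    rw [Subgroup.mem_centralizer_singleton_iff] at hg
    simp only [MonoidHom.coe_coe, MulAut.conj_apply]
    rw [hg]; group
  have hxX : x ∈ Subgroup.centralizer ({x} : Set G) :=
    Subgroup.mem_centralizer_singleton_iff.mpr rfl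
  have hs0 : ({Subgroup.zpowers x} : Finset (Subgroup G)) ∈ S := by
    rw [hS]
    refine ⟨⟨Finset.singleton_nonempty _, ?_, ?_⟩, ?_⟩
    · intro Q hQ R hR
      rw [Finset.mem_singleton] at hQ hR
      rw [hQ, hR]; exact Or.inl le_rfl
    · intro Q hQ
      rw [Finset.mem_singleton] at hQ
      rw [hQ]; exact ⟨hX1, hXp⟩
    · rw [mem_nrm]
      intro Q hQ
      rw [Finset.mem_singleton] at hQ
      rw [hQ]; exact hnormX x hxX
  rw [← Finset.add_sum_erase S _ hs0]
  have hfirst : sgn ({Subgroup.zpowers x} : Finset (Subgroup G)) *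
      F (nrm {Subgroup.zpowers x} ⊓ Subgroup.centralizer ({x} : Set G)) =
      F (Subgroup.centralizer ({x} : Set G)) := by
    have h1 : nrm ({Subgroup.zpowers x} : Finset (Subgroup G)) ⊓
        Subgroup.centralizer ({x} : Set G) = Subgroup.centralizer ({x} : Set G) := by
      apply inf_eq_right.mpr
      intro g hg
      rw [mem_nrm]
      intro Q hQ
      rw [Finset.mem_singleton] at hQ
      rw [hQ]; exact hnormX g hg
    rw [h1]
    unfold sgn
    simp
  rw [hfirst]
  have hrest : ∑ s ∈ S.erase {Subgroup.zpowers x},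
      sgn s * F (nrm s ⊓ Subgroup.centralizer ({x} : Set G)) = 0 := by
    have hmem : ∀ s ∈ S.erase {Subgroup.zpowers x},
        tog (mA x s) s ∈ S.erase {Subgroup.zpowers x} ∧ (tog (mA x s) s).Nonempty ∧
        nrm (tog (mA x s) s) ⊓ Subgroup.centralizer ({x} : Set G) =
          nrm s ⊓ Subgroup.centralizer ({x} : Set G) := by
      intro s hs
      rw [Finset.mem_erase, hS] at hs
      obtain ⟨hne, hch, hxs⟩ := hs
      obtain ⟨hM1, hMp, hcomp, hxM, hnorm⟩ := mA_props x hXp hX1 s hch.2.1 hch.2.2 hxs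
      have hnonempty : (tog (mA x s) s).Nonempty := by
        rw [Finset.nonempty_iff_ne_empty]
        intro h
        have h1 := mA_tog x s
        rw [h, mA_empty] at h1
        have h2 := tog_tog (mA x s) s
        rw [h, ← h1] at h2
        apply hne
        rw [← h2]
        unfold tog
        rw [if_neg (Finset.notMem_empty _)]
        rfl
      have hne' : tog (mA x s) s ≠ {Subgroup.zpowers x} := by
        intro h
        have h1 := mA_tog x s
        rw [h, mA_singleton] at h1
        have h2 := tog_tog (mA x s) s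
        rw [h, ← h1] at h2
        have h3 : tog (Subgroup.zpowers x) ({Subgroup.zpowers x} : Finset (Subgroup G)) = ∅ := by
          unfold tog
          rw [if_pos (Finset.mem_singleton_self _)]
          simp
        rw [h3] at h2
        exact Finset.nonempty_iff_ne_empty.mp hch.1 h2.symm
      have hnrm := nrm_tog_inf (mA x s) s (Subgroup.centralizer ({x} : Set G)) hnorm
      refine ⟨?_, hnonempty, hnrm⟩
      rw [Finset.mem_erase, hS]
      refine ⟨hne', isCh_tog _ s hch hnonempty hM1 hMp hcomp, ?_⟩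
      have : x ∈ nrm (tog (mA x s) s) ⊓ Subgroup.centralizer ({x} : Set G) := by
        rw [hnrm]
        exact ⟨hxs, hxX⟩
      exact this.1
    apply Finset.sum_involution (fun s _ => tog (mA x s) s)
    · intro s hs
      obtain ⟨-, hne, hnrm⟩ := hmem s hs
      rw [Finset.mem_erase, hS] at hs
      rw [hnrm, sgn_tog _ s hs.2.1.1 hne]
      ring
    · intro s _ _
      exact tog_ne _ s
    · intro s hs
      exact (hmem s hs).1
    · intro s _
      rw [mA_tog, tog_tog]
  rw [hrest, add_zero]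

end Cfsg.Agent.Helper6.KR
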