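import Mathlib
import Cfsg.Prelude.Def_Characters
import Cfsg.Prelude.Def_Blocks
import Cfsg.Prelude.Def_BlockRank
import Cfsg.Agent.Helper6.KRd
import Cfsg.Agent.Helper6.KRf
import Cfsg.Agent.Helper6.KRg

/-!
# The alternating sum of `k - l` over the normal chains of `p`-subgroups (S4651)
-/

set_option autoImplicit false
set_option linter.style.haveILetI false

namespace Cfsg.Agent.Helper6.KR

open Cfsg.Agent.Helper6

universe u

variable {G : Type u} [Group G] {M : Ideal Cfsg.AlgInt}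

/-- **the alternating sum over the normal chains stabilized by the `p`-element `x`** -/
theorem sumN [Finite G] {p : ℕ} [hp : Fact p.Prime] (x : G) (hx1 : x ≠ 1)
    (hxp : ∃ k : ℕ, orderOf x = p ^ k)
    (S : Finset (Finset (Subgroup G)))
    (hS : ∀ s, s ∈ S ↔ IsCh p s ∧ IsNrmCh s ∧ x ∈ nrm s) (F : Subgroup G → ℤ) :
    ∑ s ∈ S, sgn s * F (nrm s ⊓ Subgroup.centralizer ({x} : Set G)) =
      F (Subgroup.centralizer ({x} : Set G)) := by
  classical
  haveI : Fintype (Subgroup G) := Fintype.ofFinite _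
  have hA := sumA x hx1 hxp
    ((Finset.univ : Finset (Finset (Subgroup G))).filter (fun s => IsCh p s ∧ x ∈ nrm s))
    (fun s => by rw [Finset.mem_filter]; simp) F
  have hB := sumB (p := p) (Subgroup.centralizer ({x} : Set G)) x
    (((Finset.univ : Finset (Finset (Subgroup G))).filter
      (fun s => IsCh p s ∧ x ∈ nrm s)).filter (fun s => ¬ IsNrmCh s))
    (fun s => by
      rw [Finset.mem_filter, Finset.mem_filter]
      constructor
      · rintro ⟨⟨-, h1, h2⟩, h3⟩
        exact ⟨h1, h3, h2⟩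
      · rintro ⟨h1, h3, h2⟩
        exact ⟨⟨Finset.mem_univ _, h1, h2⟩, h3⟩) F
  have hsplit := Finset.sum_filter_add_sum_filter_not
    ((Finset.univ : Finset (Finset (Subgroup G))).filter (fun s => IsCh p s ∧ x ∈ nrm s))
    (fun s => IsNrmCh s)
    (fun s => sgn s * F (nrm s ⊓ Subgroup.centralizer ({x} : Set G)))
  rw [hB, add_zero, hA] at hsplit
  rw [← hsplit]
  apply Finset.sum_congr
  · ext s
    rw [hS, Finset.mem_filter, Finset.mem_filter]
    constructor
    · rintro ⟨h1, h3, h2⟩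
      exact ⟨⟨Finset.mem_univ _, h1, h2⟩, h3⟩
    · rintro ⟨⟨-, h1, h2⟩, h3⟩
      exact ⟨h1, h3, h2⟩
  · intro s _
    rfl

/-- **Knörr–Robinson: the alternating sum of `k - l` over the normal chains** -/
theorem alternating_sum_k_sub_l [Finite G] {p : ℕ} [hp : Fact p.Prime]
    (hM : Cfsg.IsPModular p M) (b : Set (Cfsg.IrrCharacter G)) (hb : Cfsg.IsPBlock M b) :
    (Nat.card G : ℤ) * ((Nat.card b : ℤ) - (Cfsg.blockRank p b : ℤ)) =
      ∑ᶠ s ∈ {s : Finset (Subgroup G) | IsCh p s ∧ IsNrmCh s},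
        sgn s * (Nat.card (nrm s) : ℤ) * ((Nat.card (indChars M (nrm s) b) : ℤ) -
          (Cfsg.blockRank p (indChars M (nrm s) b) : ℤ)) := by
  classical
  haveI : Fintype G := Fintype.ofFinite G
  haveI : Fintype (Subgroup G) := Fintype.ofFinite _
  obtain ⟨F, hF⟩ : ∃ F : Subgroup G → ℤ, ∀ K : Subgroup G, F K =
      (Nat.card K : ℤ) * (Cfsg.blockRank p (indChars M K b) : ℤ) := ⟨_, fun _ => rfl⟩
  have psi : ∀ H : Subgroup G, (Nat.card H : ℤ) * ((Nat.card (indChars M H b) : ℤ) -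
      (Cfsg.blockRank p (indChars M H b) : ℤ)) =
      ∑ x : G, if (x ∈ H ∧ x ≠ 1 ∧ ∃ k : ℕ, orderOf x = p ^ k) then
        F (H ⊓ Subgroup.centralizer ({x} : Set G)) else 0 := by
    intro H
    have h1 := card_mul_indChars_sub_rank hM b H
    simp_rw [hF]
    apply Int.cast_injective (α := ℂ)
    push_cast
    rw [h1]
  have psiG : (Nat.card G : ℤ) * ((Nat.card b : ℤ) - (Cfsg.blockRank p b : ℤ)) =
      ∑ x : G, if (x ≠ 1 ∧ ∃ k : ℕ, orderOf x = p ^ k) then
        F (Subgroup.centralizer ({x} : Set G)) else 0 := by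
    have h1 := card_mul_block_sub_rank hM b hb
    simp_rw [hF]
    apply Int.cast_injective (α := ℂ)
    push_cast
    rw [h1]
  have hfin : {s : Finset (Subgroup G) | IsCh p s ∧ IsNrmCh s}.Finite := Set.toFinite _
  rw [finsum_mem_eq_finite_toFinset_sum _ hfin, psiG]
  have h2 : ∀ s ∈ hfin.toFinset,
      sgn s * (Nat.card (nrm s) : ℤ) * ((Nat.card (indChars M (nrm s) b) : ℤ) -
          (Cfsg.blockRank p (indChars M (nrm s) b) : ℤ)) =
      ∑ x : G, if (x ≠ 1 ∧ ∃ k : ℕ, orderOf x = p ^ k) then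
        (if x ∈ nrm s then sgn s * F (nrm s ⊓ Subgroup.centralizer ({x} : Set G)) else 0)
        else 0 := by
    intro s _
    rw [mul_assoc, psi (nrm s), Finset.mul_sum]
    apply Finset.sum_congr rfl
    intro x _
    by_cases h1 : (x ≠ 1 ∧ ∃ k : ℕ, orderOf x = p ^ k)
    · rw [if_pos h1]
      by_cases h2 : x ∈ nrm s
      · rw [if_pos h2, if_pos ⟨h2, h1⟩]
      · rw [if_neg h2, if_neg (fun h => h2 h.1), mul_zero]
    · rw [if_neg h1, if_neg (fun h => h1 h.2), mul_zero]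
  rw [Finset.sum_congr rfl h2, Finset.sum_comm]
  apply Finset.sum_congr rfl
  intro x _
  by_cases h1 : (x ≠ 1 ∧ ∃ k : ℕ, orderOf x = p ^ k)
  · simp_rw [if_pos h1]
    rw [← Finset.sum_filter]
    symm
    apply sumN x h1.1 h1.2
    intro s
    rw [Finset.mem_filter, Set.Finite.mem_toFinset]
    constructor
    · rintro ⟨⟨h3, h4⟩, h5⟩
      exact ⟨h3, h4, h5⟩
    · rintro ⟨h3, h4, h5⟩
      exact ⟨⟨h3, h4⟩, h5⟩
  · simp_rw [if_neg h1]
    rw [Finset.sum_const_zero]

end Cfsg.Agent.Helper6.KR
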