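import Mathlib
import Cfsg.Prelude.Def_Characters
import Cfsg.Prelude.Def_Blocks
import Cfsg.Prelude.Def_Local
import Cfsg.Prelude.Def_BlockRank
import Cfsg.Agent.Helper6.KleinFourC
import Cfsg.Agent.Helper6.RankDefect
import Cfsg.Agent.Helper6.NormTwo

/-!
# The 2-regular rank of the principal block for Klein four Sylow 2-subgroups (S4512)
-/

set_option autoImplicit false
set_option linter.style.haveILetI false

namespace Cfsg.Agent.Helper6

open Module
open scoped ComplexConjugate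

universe u

variable {G : Type u} [Group G] {M : Ideal Cfsg.AlgInt}

/-- values of the principal block characters at `2`-singular elements are values at involutions -/
theorem klein_principal_singular [Finite G] (hM : Cfsg.IsPModular 2 M) (P : Sylow 2 G)
    (hP : IsKleinFour (P : Subgroup G)) (ζ : Cfsg.IrrCharacter G)
    (hζ : ζ ∈ Cfsg.principalBlock M G) (g : G) (hg : 2 ∣ orderOf g) :
    ∃ z : G, orderOf z = 2 ∧ (ζ : G → ℂ) g = (ζ : G → ℂ) z := by
  haveI : Fact (Nat.Prime 2) := ⟨Nat.prime_two⟩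
  obtain ⟨x, y, hxy, hcomm, hxord, hyord⟩ := exists_isPPart 2 g
  have hx1 : x ≠ 1 := by
    rintro rfl
    rw [one_mul] at hxy
    rw [hxy] at hyord
    exact hyord hg
  have hx2 := orderOf_eq_two_of_klein P hP x hxord hx1
  refine ⟨x, hx2, ?_⟩
  have hyC : y ∈ Subgroup.centralizer ({x} : Set G) := by
    rw [Subgroup.mem_centralizer_singleton_iff]
    exact hcomm.eq.symm
  rw [← hxy]
  exact principal_section_const hM x ⟨1, by rw [hx2, pow_one]⟩
    (exists_index_pPrimeCore_of_klein P hP x hx2).1 ζ hζ ⟨y, hyC⟩ (by rwa [Subgroup.orderOf_mk])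

/-- **S4512** -/
theorem klein_blockRank [Finite G] (hM : Cfsg.IsPModular 2 M) (P : Sylow 2 G)
    (hP : IsKleinFour (P : Subgroup G))
    (hone : ∀ s t : G, orderOf s = 2 → orderOf t = 2 → IsConj s t) :
    Cfsg.blockRank 2 (Cfsg.principalBlock M G) = 3 := by
  classical
  haveI := Fintype.ofFinite G
  haveI : Fact (Nat.Prime 2) := ⟨Nat.prime_two⟩
  obtain ⟨ζ₂, ζ₃, ζ₄, ε, hε, h2t, h3t, h23, h24, h34, hB, hvals, -, -, -, hrel⟩ :=
    klein_principal_block hM P hP hone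
  have hMm := hM.2.1
  have hmem : ∀ χ : Cfsg.IrrCharacter G, χ ∈ Cfsg.principalBlock M G ↔
      ((χ : G → ℂ) = (fun _ => 1) ∨ χ = ζ₂ ∨ χ = ζ₃ ∨ χ = ζ₄) := by
    intro χ
    rw [hB]
    rfl
  have hζ₂B : ζ₂ ∈ Cfsg.principalBlock M G := (hmem ζ₂).mpr (Or.inr (Or.inl rfl))
  have hζ₃B : ζ₃ ∈ Cfsg.principalBlock M G := (hmem ζ₃).mpr (Or.inr (Or.inr (Or.inl rfl)))
  have hζ₄B : ζ₄ ∈ Cfsg.principalBlock M G := (hmem ζ₄).mpr (Or.inr (Or.inr (Or.inr rfl)))
  obtain ⟨triv, htriv⟩ : ∃ t : Cfsg.IrrCharacter G, t = ⟨fun _ => 1, isIrrCharacter_one⟩ :=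
    ⟨_, rfl⟩
  have htrivf : (triv : G → ℂ) = fun _ => 1 := by rw [htriv]
  have htrivB : triv ∈ Cfsg.principalBlock M G := (hmem triv).mpr (Or.inl htrivf)
  have h4t : (ζ₄ : G → ℂ) ≠ (fun _ => 1) := by
    intro h
    obtain ⟨z₀, -, hz₀⟩ := exists_involution_of_klein _ hP
    have := (hvals z₀ hz₀).2.2
    rw [h] at this
    norm_num at this
  have hε2 : (ε : ℂ) * (ε : ℂ) = 1 := by
    rcases hε with h | h <;> rw [h] <;> norm_num
  -- values at singular elements
  have hsing : ∀ g : G, 2 ∣ orderOf g → (ζ₂ : G → ℂ) g = 1 ∧ (ζ₃ : G → ℂ) g = (ε : ℂ) ∧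
      (ζ₄ : G → ℂ) g = -1 := by
    intro g hg
    obtain ⟨z₂, hz₂, h2⟩ := klein_principal_singular hM P hP ζ₂ hζ₂B g hg
    obtain ⟨z₃, hz₃, h3⟩ := klein_principal_singular hM P hP ζ₃ hζ₃B g hg
    obtain ⟨z₄, hz₄, h4⟩ := klein_principal_singular hM P hP ζ₄ hζ₄B g hg
    exact ⟨h2.trans (hvals z₂ hz₂).1, h3.trans (hvals z₃ hz₃).2.1, h4.trans (hvals z₄ hz₄).2.2⟩
  have hreg : ∀ g : G, ¬ 2 ∣ orderOf g →
      1 + (ζ₂ : G → ℂ) g + (ε : ℂ) * (ζ₃ : G → ℂ) g - (ζ₄ : G → ℂ) g = 0 := by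
    intro g hg
    apply hrel g
    rwa [← Nat.not_even_iff_odd, even_iff_two_dvd]
  -- the three spanning vectors
  obtain ⟨b, hb⟩ : ∃ b : Fin 3 → (G → ℂ), b = ![Cfsg.pRegularPart 2 (fun _ : G => (1 : ℂ)),
      Cfsg.pRegularPart 2 (ζ₂ : G → ℂ), Cfsg.pRegularPart 2 (ζ₃ : G → ℂ)] := ⟨_, rfl⟩
  have hb0 : b 0 = Cfsg.pRegularPart 2 (fun _ : G => (1 : ℂ)) := by rw [hb]; rfl
  have hb1 : b 1 = Cfsg.pRegularPart 2 (ζ₂ : G → ℂ) := by rw [hb]; rfl
  have hb2 : b 2 = Cfsg.pRegularPart 2 (ζ₃ : G → ℂ) := by rw [hb]; rfl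
  have hr4 : Cfsg.pRegularPart 2 (ζ₄ : G → ℂ) = b 0 + b 1 + (ε : ℂ) • b 2 := by
    funext g
    rw [hb0, hb1, hb2]
    simp only [Pi.add_apply, Pi.smul_apply, smul_eq_mul, pRegularPart_apply]
    by_cases hg : 2 ∣ orderOf g
    · simp [hg]
    · simp only [if_neg hg]
      linear_combination -(hreg g hg)
  have hspan : Submodule.span ℂ
      ((fun χ : Cfsg.IrrCharacter G => Cfsg.pRegularPart 2 (χ : G → ℂ)) ''
        Cfsg.principalBlock M G) = Submodule.span ℂ (Set.range b) := by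
    apply le_antisymm
    · rw [Submodule.span_le]
      rintro f ⟨χ, hχ, rfl⟩
      have hb0m : b 0 ∈ Submodule.span ℂ (Set.range b) := Submodule.subset_span ⟨0, rfl⟩
      have hb1m : b 1 ∈ Submodule.span ℂ (Set.range b) := Submodule.subset_span ⟨1, rfl⟩
      have hb2m : b 2 ∈ Submodule.span ℂ (Set.range b) := Submodule.subset_span ⟨2, rfl⟩
      rcases (hmem χ).mp hχ with h | h | h | h
      · simp only [h]
        rw [← hb0]
        exact hb0m
      · simp only [h]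
        rw [← hb1]
        exact hb1m
      · simp only [h]
        rw [← hb2]
        exact hb2m
      · simp only [h]
        rw [hr4]
        exact Submodule.add_mem _ (Submodule.add_mem _ hb0m hb1m) (Submodule.smul_mem _ _ hb2m)
    · rw [Submodule.span_le]
      rintro f ⟨i, rfl⟩
      apply Submodule.subset_span
      fin_cases i
      · refine ⟨triv, htrivB, ?_⟩
        show Cfsg.pRegularPart 2 (triv : G → ℂ) = b 0
        rw [htrivf]
        exact hb0.symm
      · exact ⟨ζ₂, hζ₂B, hb1.symm⟩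
      · exact ⟨ζ₃, hζ₃B, hb2.symm⟩
  have hli : LinearIndependent ℂ b := by
    rw [Fintype.linearIndependent_iff]
    intro c hc
    rw [Fin.sum_univ_three, hb0, hb1, hb2] at hc
    obtain ⟨κ, hκ⟩ : ∃ κ : ℂ, κ = c 0 + c 1 + c 2 * (ε : ℂ) := ⟨_, rfl⟩
    -- the class function
    have hθ : (4 * c 0 - κ) • (triv : G → ℂ) + (4 * c 1 - κ) • (ζ₂ : G → ℂ) +
        (4 * c 2 - κ * (ε : ℂ)) • (ζ₃ : G → ℂ) + κ • (ζ₄ : G → ℂ) = 0 := by
      funext g
      have hcg := congrFun hc g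
      simp only [Pi.add_apply, Pi.smul_apply, smul_eq_mul, pRegularPart_apply, Pi.zero_apply]
        at hcg ⊢
      have ht : (triv : G → ℂ) g = 1 := by rw [htrivf]
      rw [ht]
      by_cases hg : 2 ∣ orderOf g
      · obtain ⟨e2, e3, e4⟩ := hsing g hg
        rw [e2, e3, e4, hκ]
        linear_combination (-(c 0) - c 1 - c 2 * (ε : ℂ)) * hε2
      · simp only [if_neg hg] at hcg
        linear_combination 4 * hcg - κ * (hreg g hg)
    have hne : ∀ {χ ψ : Cfsg.IrrCharacter G}, χ ≠ ψ → (χ : G → ℂ) ≠ (ψ : G → ℂ) :=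
      fun h h' => h (Subtype.ext h')
    have ht2 : triv ≠ ζ₂ := by
      intro h; apply h2t; rw [← h, htrivf]
    have ht3 : triv ≠ ζ₃ := by
      intro h; apply h3t; rw [← h, htrivf]
    have ht4 : triv ≠ ζ₄ := by
      intro h; apply h4t; rw [← h, htrivf]
    have hin : ∀ ψ : Cfsg.IrrCharacter G,
        (4 * c 0 - κ) * (if triv = ψ then 1 else 0) + (4 * c 1 - κ) * (if ζ₂ = ψ then 1 else 0) +
        (4 * c 2 - κ * (ε : ℂ)) * (if ζ₃ = ψ then 1 else 0) +
        κ * (if ζ₄ = ψ then 1 else 0) = 0 := by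
      intro ψ
      have h := congrArg (fun f => Cfsg.classInner f (ψ : G → ℂ)) hθ
      simp only [classInner_add_left, classInner_smul_left, classInner_zero_left,
        classInner_irr_ite triv.2 ψ.2, classInner_irr_ite ζ₂.2 ψ.2,
        classInner_irr_ite ζ₃.2 ψ.2, classInner_irr_ite ζ₄.2 ψ.2] at h
      have e : ∀ χ : Cfsg.IrrCharacter G, ((χ : G → ℂ) = (ψ : G → ℂ)) ↔ χ = ψ :=
        fun χ => ⟨fun h => Subtype.ext h, fun h => by rw [h]⟩
      simp only [e] at h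
      exact h
    have hk := hin ζ₄
    rw [if_neg ht4, if_neg h24, if_neg h34, if_pos rfl] at hk
    have hκ0 : κ = 0 := by linear_combination hk
    have h0 := hin triv
    rw [if_pos rfl, if_neg ht2.symm, if_neg ht3.symm, if_neg ht4.symm, hκ0] at h0
    have h1 := hin ζ₂
    rw [if_neg ht2, if_pos rfl, if_neg h23.symm, if_neg h24.symm, hκ0] at h1
    have h2 := hin ζ₃
    rw [if_neg ht3, if_neg h23, if_pos rfl, if_neg h34.symm, hκ0] at h2
    intro i
    fin_cases i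
    · show c 0 = 0
      linear_combination (1 / 4 : ℂ) * h0
    · show c 1 = 0
      linear_combination (1 / 4 : ℂ) * h1
    · show c 2 = 0
      linear_combination (1 / 4 : ℂ) * h2
  unfold Cfsg.blockRank
  rw [hspan, finrank_span_eq_card hli, Fintype.card_fin]

end Cfsg.Agent.Helper6
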