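import Mathlib
import Cfsg.Agent.Helper6.GaloisSum

/-!
# Signed sums of roots of unity and their Galois conjugates

For `n`-th roots of unity `μ i`, integers `s i` and `k` a unit modulo `n`, the signed power sums
`∑ s i * μ i ^ k` are the Galois conjugates of `∑ s i * μ i`.  If one of them is non-zero then the
squared norms add up to at least `φ(n)` (AM-GM on the norm).
-/

set_option autoImplicit false
set_option linter.style.haveILetI false

namespace Cfsg.Agent.Helper6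

open Polynomial

section

variable (n : ℕ) [NeZero n]

theorem galois_core_signed {L : Type*} [Field L] [Algebra ℚ L] [IsCyclotomicExtension {n} ℚ L]
    {ι : Type*} [Fintype ι] (μ : ι → ℂ) (s : ι → ℤ) (hμ : ∀ i, μ i ^ n = 1) :
    ∃ (φ : L →ₐ[ℚ] ℂ) (α : L), IsIntegral ℤ α ∧
      ∀ σ : Gal(L/ℚ), φ (σ α) = ∑ i, (s i : ℂ) * μ i ^
        ((IsCyclotomicExtension.autEquivPow L (cyclotomic.irreducible_rat (NeZero.pos n)) σ :
          (ZMod n)ˣ) : ZMod n).val := by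
  classical
  haveI : FiniteDimensional ℚ L := IsCyclotomicExtension.finiteDimensional {n} ℚ L
  haveI : Algebra.IsAlgebraic ℚ L := Algebra.IsAlgebraic.of_finite ℚ L
  let φ : L →ₐ[ℚ] ℂ := IsAlgClosed.lift
  have hφinj : Function.Injective φ := φ.toRingHom.injective
  set ζL := IsCyclotomicExtension.zeta n ℚ L with hζL
  have hζLprim : IsPrimitiveRoot ζL n := IsCyclotomicExtension.zeta_spec n ℚ L
  have hζ : IsPrimitiveRoot (φ ζL) n := hζLprim.map_of_injective hφinj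
  have hex : ∀ i, ∃ a : ℕ, (φ ζL) ^ a = μ i := by
    intro i
    obtain ⟨a, _, ha⟩ := hζ.eq_pow_of_pow_eq_one (hμ i)
    exact ⟨a, ha⟩
  choose a ha using hex
  refine ⟨φ, ∑ i, (s i : L) * ζL ^ a i, ?_, ?_⟩
  · apply IsIntegral.sum
    intro i _
    have h1 : IsIntegral ℤ ((s i : ℤ) : L) := by
      have := isIntegral_algebraMap (R := ℤ) (A := L) (x := s i)
      simpa using this
    exact h1.mul ((hζLprim.isIntegral (NeZero.pos n)).pow _)
  · intro σ
    have hspec := hζLprim.autToPow_spec ℚ σ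
    rw [map_sum, map_sum]
    apply Finset.sum_congr rfl
    intro i _
    rw [map_mul, map_mul, map_intCast, map_intCast, map_pow, map_pow, ← ha i, ← pow_mul, mul_comm (a i),
      pow_mul]
    congr 2
    rw [IsCyclotomicExtension.autEquivPow_apply, ← map_pow]
    congr 1
    exact hspec.symm

/-- AM-GM for the Galois conjugates of a signed sum of roots of unity. -/
theorem sum_norm_sq_signedSum_ge_aux {L : Type*} [Field L] [Algebra ℚ L]
    [IsCyclotomicExtension {n} ℚ L]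
    {ι : Type*} [Fintype ι] (μ : ι → ℂ) (s : ι → ℤ) (hμ : ∀ i, μ i ^ n = 1)
    (hne : ∃ k : (ZMod n)ˣ, ∑ i, (s i : ℂ) * μ i ^ (k : ZMod n).val ≠ 0) :
    (Fintype.card (ZMod n)ˣ : ℝ) ≤
      ∑ k : (ZMod n)ˣ, ‖∑ i, (s i : ℂ) * μ i ^ (k : ZMod n).val‖ ^ 2 := by
  classical
  haveI : FiniteDimensional ℚ L := IsCyclotomicExtension.finiteDimensional {n} ℚ L
  haveI : IsGalois ℚ L := IsCyclotomicExtension.isGalois {n} ℚ L
  obtain ⟨φ, α, hαint, hσ⟩ := galois_core_signed n (L := L) μ s hμ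
  have hφinj : Function.Injective φ := φ.toRingHom.injective
  set e := IsCyclotomicExtension.autEquivPow L (cyclotomic.irreducible_rat (NeZero.pos n)) with he
  set t : (ZMod n)ˣ → ℂ := fun k => ∑ i, (s i : ℂ) * μ i ^ (k : ZMod n).val with ht
  have hk : ∀ k : (ZMod n)ˣ, t k = φ ((e.symm k) α) := by
    intro k
    rw [hσ (e.symm k), MulEquiv.apply_symm_apply]
  -- `α ≠ 0`
  have hα0 : α ≠ 0 := by
    rintro rfl
    obtain ⟨k, hk0⟩ := hne
    apply hk0
    have := hk k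
    rw [map_zero, map_zero] at this
    exact this
  have hnz : ∀ k : (ZMod n)ˣ, t k ≠ 0 := by
    intro k hzero
    rw [hk k] at hzero
    have h1 : (e.symm k) α = 0 := hφinj (by rw [hzero, map_zero])
    apply hα0
    have := congrArg (e.symm k).symm h1
    rwa [AlgEquiv.symm_apply_apply, map_zero] at this
  -- the product is a non-zero integer
  obtain ⟨m, hm⟩ : ∃ m : ℤ, ∏ k : (ZMod n)ˣ, t k = m := by
    have hnorm := Algebra.norm_eq_prod_automorphisms ℚ α
    have hprod : ∏ k : (ZMod n)ˣ, t k = φ (∏ σ : Gal(L/ℚ), σ α) := by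
      rw [map_prod]
      symm
      apply Fintype.prod_equiv e.toEquiv
      intro σ
      rw [hσ σ]
      rfl
    rw [hprod, ← hnorm, AlgHom.commutes]
    have hint : IsIntegral ℤ (Algebra.norm ℚ α) := Algebra.isIntegral_norm ℚ hαint
    obtain ⟨m, hm⟩ := IsIntegrallyClosed.isIntegral_iff.mp hint
    refine ⟨m, ?_⟩
    rw [← hm]
    simp
  have hm0 : m ≠ 0 := by
    intro h0
    rw [h0, Int.cast_zero] at hm
    obtain ⟨k, _, hk⟩ := Finset.prod_eq_zero_iff.mp hm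
    exact hnz k hk
  have hprod : (1 : ℝ) ≤ ∏ k : (ZMod n)ˣ, ‖t k‖ ^ 2 := by
    rw [Finset.prod_pow, ← norm_prod, hm, Complex.norm_intCast]
    have h1 : (1 : ℝ) ≤ |(m : ℝ)| := by
      have : (1 : ℤ) ≤ |m| := Int.one_le_abs hm0
      exact_mod_cast this
    nlinarith
  have hpos : ∀ k : (ZMod n)ˣ, 0 < ‖t k‖ ^ 2 := fun k => by
    have : 0 < ‖t k‖ := norm_pos_iff.mpr (hnz k)
    positivity
  have hlog : 0 ≤ ∑ k : (ZMod n)ˣ, Real.log (‖t k‖ ^ 2) := by
    rw [← Real.log_prod (fun k _ => (hpos k).ne')]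
    exact Real.log_nonneg hprod
  have hle : ∑ k : (ZMod n)ˣ, Real.log (‖t k‖ ^ 2) ≤ ∑ k : (ZMod n)ˣ, (‖t k‖ ^ 2 - 1) :=
    Finset.sum_le_sum (fun k _ => Real.log_le_sub_one_of_pos (hpos k))
  rw [Finset.sum_sub_distrib, Finset.sum_const, Finset.card_univ, nsmul_eq_mul, mul_one] at hle
  linarith

/-- AM-GM for the Galois conjugates of a signed sum of roots of unity, purely over `ℂ`. -/
theorem sum_norm_sq_signedSum_ge {ι : Type*} [Fintype ι] (μ : ι → ℂ) (s : ι → ℤ)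
    (hμ : ∀ i, μ i ^ n = 1)
    (hne : ∃ k : (ZMod n)ˣ, ∑ i, (s i : ℂ) * μ i ^ (k : ZMod n).val ≠ 0) :
    (Fintype.card (ZMod n)ˣ : ℝ) ≤
      ∑ k : (ZMod n)ˣ, ‖∑ i, (s i : ℂ) * μ i ^ (k : ZMod n).val‖ ^ 2 :=
  @sum_norm_sq_signedSum_ge_aux n _ (CyclotomicField n ℚ) _ (CyclotomicField.algebra n ℚ)
    (CyclotomicField.isCyclotomicExtension n ℚ) ι _ μ s hμ hne

/-- A *conjugate family*: the family of Galois conjugates of an integral combination of `n`-th
roots of unity. -/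
def IsConjFam (a : (ZMod n)ˣ → ℂ) : Prop :=
  ∃ (ι : Type) (_ : Fintype ι) (μ : ι → ℂ) (s : ι → ℤ), (∀ i, μ i ^ n = 1) ∧
    ∀ k : (ZMod n)ˣ, a k = ∑ i, (s i : ℂ) * μ i ^ (k : ZMod n).val

omit [NeZero n] in
theorem IsConjFam.zero : IsConjFam n (fun _ => 0) :=
  ⟨PEmpty, inferInstance, fun i => i.elim, fun i => i.elim, fun i => i.elim, fun k => by simp⟩

omit [NeZero n] in
theorem IsConjFam.sub {a b : (ZMod n)ˣ → ℂ} (ha : IsConjFam n a) (hb : IsConjFam n b) :
    IsConjFam n (fun k => a k - b k) := by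
  obtain ⟨ι, _, μ, s, hμ, ha⟩ := ha
  obtain ⟨ι', _, μ', s', hμ', hb⟩ := hb
  refine ⟨ι ⊕ ι', inferInstance, Sum.elim μ μ', Sum.elim s (fun i => - s' i), ?_, ?_⟩
  · rintro (i | i)
    · exact hμ i
    · exact hμ' i
  · intro k
    show a k - b k = _
    rw [ha k, hb k, Fintype.sum_sum_type]
    simp only [Sum.elim_inl, Sum.elim_inr, Int.cast_neg, neg_mul, Finset.sum_neg_distrib]
    ring

omit [NeZero n] in
theorem IsConjFam.add {a b : (ZMod n)ˣ → ℂ} (ha : IsConjFam n a) (hb : IsConjFam n b) :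
    IsConjFam n (fun k => a k + b k) := by
  obtain ⟨ι, _, μ, s, hμ, ha⟩ := ha
  obtain ⟨ι', _, μ', s', hμ', hb⟩ := hb
  refine ⟨ι ⊕ ι', inferInstance, Sum.elim μ μ', Sum.elim s s', ?_, ?_⟩
  · rintro (i | i)
    · exact hμ i
    · exact hμ' i
  · intro k
    show a k + b k = _
    rw [ha k, hb k, Fintype.sum_sum_type]
    simp only [Sum.elim_inl, Sum.elim_inr]

omit [NeZero n] in
theorem IsConjFam.single {μ : ℂ} (hμ : μ ^ n = 1) :
    IsConjFam n (fun k => μ ^ (k : ZMod n).val) := by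
  refine ⟨Unit, inferInstance, fun _ => μ, fun _ => 1, fun _ => hμ, ?_⟩
  intro k
  simp

theorem IsConjFam.sum_norm_sq_ge {a : (ZMod n)ˣ → ℂ} (ha : IsConjFam n a)
    (hne : ∃ k, a k ≠ 0) :
    (Fintype.card (ZMod n)ˣ : ℝ) ≤ ∑ k : (ZMod n)ˣ, ‖a k‖ ^ 2 := by
  obtain ⟨ι, _, μ, s, hμ, ha⟩ := ha
  have h := sum_norm_sq_signedSum_ge n μ s hμ (by
    obtain ⟨k, hk⟩ := hne
    exact ⟨k, by rwa [← ha k]⟩)
  simp_rw [ha]
  exact h

end

end Cfsg.Agent.Helper6
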