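import Mathlib
import Cfsg.Agent.Helper6.KnorrA

/-!
# Fourier analysis on a finite abelian group: Parseval and the shift identity

Preparations for Knörr's abelian-stabilizer criterion.
-/

set_option autoImplicit false
set_option linter.style.haveILetI false

namespace Cfsg.Agent.Helper6.Knorr

open scoped ComplexConjugate

variable {C : Type*} [CommGroup C] [Fintype C]

/-- the dual group of a finite abelian group is finite -/
noncomputable instance dualFintype : Fintype (C →* ℂˣ) := Fintype.ofFinite _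

theorem norm_dual_apply (φ : C →* ℂˣ) (c : C) : ‖((φ c : ℂˣ) : ℂ)‖ = 1 := by
  apply Complex.norm_eq_one_of_pow_eq_one (n := Fintype.card C)
  · rw [← Units.val_pow_eq_pow_val, ← map_pow, pow_card_eq_one, map_one, Units.val_one]
  · exact Fintype.card_ne_zero

theorem conj_dual_apply (φ : C →* ℂˣ) (c : C) :
    conj ((φ c : ℂˣ) : ℂ) = (((φ⁻¹) c : ℂˣ) : ℂ) := by
  rw [MonoidHom.inv_apply, Units.val_inv_eq_inv_val, Complex.inv_eq_conj (norm_dual_apply φ c)]

/-- orthogonality of characters -/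
theorem sum_dual_mul_conj (φ φ' : C →* ℂˣ) :
    ∑ c : C, ((φ c : ℂˣ) : ℂ) * conj ((φ' c : ℂˣ) : ℂ) =
      if φ = φ' then (Fintype.card C : ℂ) else 0 := by
  classical
  have h1 : ∀ c : C, ((φ c : ℂˣ) : ℂ) * conj ((φ' c : ℂˣ) : ℂ) =
      ((Units.coeHom ℂ).comp (φ * φ'⁻¹)) c := by
    intro c
    rw [conj_dual_apply]
    simp
  simp_rw [h1]
  rw [sum_hom_units]
  have h2 : ((Units.coeHom ℂ).comp (φ * φ'⁻¹) = 1) ↔ φ = φ' := by
    constructor
    · intro h
      have h3 : φ * φ'⁻¹ = 1 := by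
        ext c
        have := DFunLike.congr_fun h c
        simpa using this
      exact mul_inv_eq_one.mp h3
    · rintro rfl
      have : φ * φ⁻¹ = 1 := mul_inv_cancel φ
      rw [this]
      ext c
      simp
  by_cases h : φ = φ'
  · rw [if_pos h, if_pos (h2.mpr h)]
  · rw [if_neg h, if_neg (fun h' => h (h2.mp h'))]
    simp

/-- evaluation of Fourier data -/
noncomputable def ev (a : (C →* ℂˣ) → ℂ) (c : C) : ℂ := ∑ φ : C →* ℂˣ, a φ * ((φ c : ℂˣ) : ℂ)

/-- Parseval -/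
theorem sum_norm_sq_ev (a : (C →* ℂˣ) → ℂ) :
    ∑ c : C, ‖ev a c‖ ^ 2 = (Fintype.card C : ℝ) * ∑ φ : C →* ℂˣ, ‖a φ‖ ^ 2 := by
  classical
  have h : ((∑ c : C, ‖ev a c‖ ^ 2 : ℝ) : ℂ) =
      (((Fintype.card C : ℝ) * ∑ φ : C →* ℂˣ, ‖a φ‖ ^ 2 : ℝ) : ℂ) := by
    push_cast
    have h1 : ∀ c : C, ((‖ev a c‖ : ℂ)) ^ 2 = ev a c * conj (ev a c) := by
      intro c
      rw [Complex.mul_conj, Complex.normSq_eq_norm_sq]
      push_cast
      rfl
    simp_rw [h1]
    unfold ev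
    simp_rw [map_sum, Finset.sum_mul, Finset.mul_sum]
    rw [Finset.sum_comm]
    have h2 : ∀ φ : C →* ℂˣ, ∑ c : C, ∑ φ' : C →* ℂˣ,
        a φ * ((φ c : ℂˣ) : ℂ) * conj (a φ' * ((φ' c : ℂˣ) : ℂ)) =
        (Fintype.card C : ℂ) * ((‖a φ‖ : ℂ)) ^ 2 := by
      intro φ
      rw [Finset.sum_comm]
      have h3 : ∀ φ' : C →* ℂˣ, ∑ c : C,
          a φ * ((φ c : ℂˣ) : ℂ) * conj (a φ' * ((φ' c : ℂˣ) : ℂ)) =
          a φ * conj (a φ') * (if φ = φ' then (Fintype.card C : ℂ) else 0) := by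
        intro φ'
        rw [← sum_dual_mul_conj, Finset.mul_sum]
        apply Finset.sum_congr rfl
        intro c _
        rw [map_mul]
        ring
      simp_rw [h3]
      rw [Finset.sum_eq_single φ]
      · rw [if_pos rfl, Complex.mul_conj, Complex.normSq_eq_norm_sq]
        push_cast
        ring
      · intro φ' _ hne
        rw [if_neg (Ne.symm hne), mul_zero]
      · intro h
        exact absurd (Finset.mem_univ φ) h
    simp_rw [h2]
  exact_mod_cast h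

theorem ev_sub (a b : (C →* ℂˣ) → ℂ) (c : C) :
    ev (fun φ => a φ - b φ) c = ev a c - ev b c := by
  unfold ev
  rw [← Finset.sum_sub_distrib]
  apply Finset.sum_congr rfl
  intro φ _
  ring

/-- shifting the Fourier data multiplies the function by a character -/
theorem ev_shift (a : (C →* ℂˣ) → ℂ) (ψ : C →* ℂˣ) (c : C) :
    ev (fun φ => a (ψ⁻¹ * φ)) c = ((ψ c : ℂˣ) : ℂ) * ev a c := by
  unfold ev
  rw [Finset.mul_sum]
  apply Fintype.sum_equiv (Equiv.mulLeft ψ⁻¹)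
  intro φ
  simp only [Equiv.coe_mulLeft]
  have : ((φ c : ℂˣ) : ℂ) = ((ψ c : ℂˣ) : ℂ) * (((ψ⁻¹ * φ) c : ℂˣ) : ℂ) := by
    rw [MonoidHom.mul_apply, MonoidHom.inv_apply, Units.val_mul, Units.val_inv_eq_inv_val,
      ← mul_assoc, mul_inv_cancel₀ (Units.ne_zero _), one_mul]
  rw [this]
  ring

open Classical in
/-- the character sum over a subgroup of the dual -/
theorem sum_subgroup_apply (Z : Subgroup (C →* ℂˣ)) [Fintype Z] (c : C) :
    ∑ ψ : Z, (((ψ : C →* ℂˣ) c : ℂˣ) : ℂ) =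
      if ∀ ψ ∈ Z, ψ c = 1 then (Fintype.card Z : ℂ) else 0 := by
  classical
  let f : Z →* ℂ := (Units.coeHom ℂ).comp ((MonoidHom.eval c).comp Z.subtype)
  have hf : ∀ ψ : Z, f ψ = (((ψ : C →* ℂˣ) c : ℂˣ) : ℂ) := fun ψ => rfl
  simp_rw [← hf]
  rw [sum_hom_units]
  have h2 : (f = 1) ↔ ∀ ψ ∈ Z, ψ c = 1 := by
    constructor
    · intro h ψ hψ
      have := DFunLike.congr_fun h ⟨ψ, hψ⟩
      rw [hf] at this
      simpa using this
    · intro h
      ext ψ
      rw [hf, h ψ ψ.2]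
      simp
  by_cases h : ∀ ψ ∈ Z, ψ c = 1
  · rw [if_pos h, if_pos (h2.mpr h)]
  · rw [if_neg h, if_neg (fun h' => h (h2.mp h'))]
    simp

open Classical in
/-- the key pointwise identity -/
theorem sum_norm_sq_sub_shift (Z : Subgroup (C →* ℂˣ)) [Fintype Z] (c : C) (z : ℂ) :
    ∑ ψ : Z, ‖z - (((ψ : C →* ℂˣ) c : ℂˣ) : ℂ) * z‖ ^ 2 =
      2 * ((Fintype.card Z : ℝ) * (if ∀ ψ ∈ Z, ψ c = 1 then 0 else 1)) * ‖z‖ ^ 2 := by
  classical
  have h1 : ∀ ψ : Z, ‖z - (((ψ : C →* ℂˣ) c : ℂˣ) : ℂ) * z‖ ^ 2 =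
      (2 - 2 * ((((ψ : C →* ℂˣ) c : ℂˣ) : ℂ)).re) * ‖z‖ ^ 2 := by
    intro ψ
    have h2 : z - (((ψ : C →* ℂˣ) c : ℂˣ) : ℂ) * z = (1 - (((ψ : C →* ℂˣ) c : ℂˣ) : ℂ)) * z := by
      ring
    rw [h2, norm_mul, mul_pow]
    congr 1
    set u : ℂ := (((ψ : C →* ℂˣ) c : ℂˣ) : ℂ) with hu
    have hn : ‖u‖ = 1 := norm_dual_apply _ c
    rw [← Complex.normSq_eq_norm_sq, Complex.normSq_apply]
    have h3 : u.re * u.re + u.im * u.im = 1 := by
      rw [← Complex.normSq_apply, Complex.normSq_eq_norm_sq, hn, one_pow]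
    simp only [Complex.sub_re, Complex.one_re, Complex.sub_im, Complex.one_im, zero_sub]
    nlinarith
  simp_rw [h1]
  rw [← Finset.sum_mul]
  congr 1
  rw [Finset.sum_sub_distrib, Finset.sum_const, Finset.card_univ, nsmul_eq_mul, ← Finset.mul_sum,
    ← Complex.re_sum, sum_subgroup_apply]
  by_cases h : ∀ ψ ∈ Z, ψ c = 1
  · rw [if_pos h, if_pos h]
    simp
    ring
  · rw [if_neg h, if_neg h]
    simp
    ring

end Cfsg.Agent.Helper6.Knorr
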