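import Mathlib
import Cfsg.Agent.Helper6.KnorrB

/-!
# The inductive Fourier inequality behind Knörr's abelian-stabilizer criterion
-/

set_option autoImplicit false
set_option linter.style.haveILetI false
set_option linter.unusedSectionVars false

namespace Cfsg.Agent.Helper6.Knorr

open scoped ComplexConjugate
open Classical

section generic

variable {A : Type*} [CommGroup A] [Fintype A] [DecidableEq A] {U : Type*}

/-- the support of the Fourier data -/
noncomputable def supp (d : A → U → ℂ) : Finset A :=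
  Finset.univ.filter (fun φ => ∃ k, d φ k ≠ 0)

theorem mem_supp {d : A → U → ℂ} {φ : A} : φ ∈ supp d ↔ ∃ k, d φ k ≠ 0 := by
  unfold supp
  rw [Finset.mem_filter]
  simp

/-- saturation of a set under a subgroup -/
noncomputable def sat (Z : Subgroup A) (S : Finset A) : Finset A :=
  Finset.univ.filter (fun a => ∃ s ∈ S, s⁻¹ * a ∈ Z)

theorem mem_sat {Z : Subgroup A} {S : Finset A} {a : A} :
    a ∈ sat Z S ↔ ∃ s ∈ S, s⁻¹ * a ∈ Z := by
  unfold sat
  rw [Finset.mem_filter]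
  simp

theorem sat_bot (S : Finset A) : sat ⊥ S = S := by
  ext a
  rw [mem_sat]
  constructor
  · rintro ⟨s, hs, h⟩
    rw [Subgroup.mem_bot, inv_mul_eq_one] at h
    rwa [← h]
  · intro h
    exact ⟨a, h, by rw [inv_mul_cancel]; exact one_mem _⟩

theorem sat_top {S : Finset A} (hS : S.Nonempty) : sat ⊤ S = Finset.univ := by
  ext a
  rw [mem_sat]
  obtain ⟨s, hs⟩ := hS
  simp only [Finset.mem_univ, iff_true]
  exact ⟨s, hs, Subgroup.mem_top _⟩

/-- the shifted difference of the Fourier data -/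
def dshift (d : A → U → ℂ) (ψ : A) : A → U → ℂ :=
  fun φ k => d φ k - d (ψ⁻¹ * φ) k

theorem card_image_mulLeft (ψ : A) (T : Finset A) :
    (T.image (fun a => ψ * a)).card = T.card :=
  Finset.card_image_of_injective _ (mul_right_injective ψ)

theorem card_sdiff_shift_symm (ψ : A) (T : Finset A) :
    ((T.image (fun a => ψ * a)) \ T).card = (T \ T.image (fun a => ψ * a)).card := by
  have h1 := Finset.card_sdiff_add_card_inter (T.image (fun a => ψ * a)) T
  have h2 := Finset.card_sdiff_add_card_inter T (T.image (fun a => ψ * a))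
  rw [card_image_mulLeft] at h1
  rw [Finset.inter_comm] at h2
  omega

theorem sat_supp_dshift (Z : Subgroup A) (d : A → U → ℂ) (ψ : A) :
    (sat Z (supp d) \ (sat Z (supp d)).image (fun a => ψ * a)) ∪
      ((sat Z (supp d)).image (fun a => ψ * a) \ sat Z (supp d)) ⊆
      sat Z (supp (dshift d ψ)) := by
  intro a ha
  rw [Finset.mem_union] at ha
  rw [mem_sat]
  rcases ha with ha | ha
  · rw [Finset.mem_sdiff, mem_sat] at ha
    obtain ⟨⟨s, hs, hsa⟩, hna⟩ := ha
    refine ⟨s, ?_, hsa⟩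
    rw [mem_supp]
    obtain ⟨k, hk⟩ := mem_supp.mp hs
    refine ⟨k, ?_⟩
    unfold dshift
    have h0 : d (ψ⁻¹ * s) k = 0 := by
      by_contra hne
      apply hna
      rw [Finset.mem_image]
      refine ⟨ψ⁻¹ * a, ?_, ?_⟩
      · rw [mem_sat]
        refine ⟨ψ⁻¹ * s, mem_supp.mpr ⟨k, hne⟩, ?_⟩
        have : (ψ⁻¹ * s)⁻¹ * (ψ⁻¹ * a) = s⁻¹ * a := by
          rw [mul_inv_rev, inv_inv, mul_assoc, mul_inv_cancel_left]
        rw [this]
        exact hsa
      · exact mul_inv_cancel_left ψ a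
    rw [h0, sub_zero]
    exact hk
  · rw [Finset.mem_sdiff, Finset.mem_image] at ha
    obtain ⟨⟨b, hb, rfl⟩, hna⟩ := ha
    rw [mem_sat] at hb
    obtain ⟨s, hs, hsb⟩ := hb
    have hid : (ψ * s)⁻¹ * (ψ * b) = s⁻¹ * b := by
      rw [mul_inv_rev, mul_assoc, inv_mul_cancel_left]
    refine ⟨ψ * s, ?_, ?_⟩
    · rw [mem_supp]
      obtain ⟨k, hk⟩ := mem_supp.mp hs
      refine ⟨k, ?_⟩
      unfold dshift
      have h0 : d (ψ * s) k = 0 := by
        by_contra hne
        apply hna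
        rw [mem_sat]
        refine ⟨ψ * s, mem_supp.mpr ⟨k, hne⟩, ?_⟩
        rw [hid]
        exact hsb
      have h1 : ψ⁻¹ * (ψ * s) = s := inv_mul_cancel_left ψ s
      rw [h0, h1, zero_sub]
      exact neg_ne_zero.mpr hk
    · rw [hid]
      exact hsb

theorem card_sat_dshift_ge (Z : Subgroup A) (d : A → U → ℂ) (ψ : A) :
    2 * (sat Z (supp d) \ (sat Z (supp d)).image (fun a => ψ * a)).card ≤
      (sat Z (supp (dshift d ψ))).card := by
  refine le_trans ?_ (Finset.card_le_card (sat_supp_dshift Z d ψ))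
  rw [Finset.card_union_of_disjoint, card_sdiff_shift_symm]
  · omega
  · rw [Finset.disjoint_left]
    intro a ha hb
    rw [Finset.mem_sdiff] at ha hb
    exact hb.2 ha.1

theorem sat_sup_subset (Z Z' : Subgroup A) (S : Finset A) :
    sat (Z ⊔ Z') S ⊆ sat Z' (sat Z S) := by
  intro a ha
  rw [mem_sat] at ha ⊢
  obtain ⟨s, hs, hsa⟩ := ha
  obtain ⟨z, hz, z', hz', hzz⟩ := Subgroup.mem_sup.mp hsa
  refine ⟨s * z, ?_, ?_⟩
  · rw [mem_sat]
    refine ⟨s, hs, ?_⟩
    rw [inv_mul_cancel_left]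
    exact hz
  · have : (s * z)⁻¹ * a = z' := by
      have h1 : a = s * (z * z') := by
        rw [hzz, mul_inv_cancel_left]
      rw [h1, mul_inv_rev, mul_assoc, inv_mul_cancel_left, inv_mul_cancel_left]
    rw [this]
    exact hz'

theorem card_sat_le (Z' : Subgroup A) (T : Finset A) :
    (sat Z' T).card ≤ T.card +
      ∑ ψ : Z', (T \ T.image (fun a => (ψ : A) * a)).card := by
  have hsub : sat Z' T ⊆ T ∪ (Finset.univ : Finset Z').biUnion
      (fun ψ => (T \ T.image (fun a => (ψ : A) * a)).image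
        (fun a => ((ψ : A))⁻¹ * a)) := by
    intro a ha
    rw [mem_sat] at ha
    obtain ⟨x, hx, hxa⟩ := ha
    rw [Finset.mem_union]
    by_cases haT : a ∈ T
    · exact Or.inl haT
    · right
      rw [Finset.mem_biUnion]
      refine ⟨⟨(x⁻¹ * a)⁻¹, inv_mem hxa⟩, Finset.mem_univ _, ?_⟩
      rw [Finset.mem_image]
      refine ⟨x, ?_, ?_⟩
      · rw [Finset.mem_sdiff]
        refine ⟨hx, ?_⟩
        rw [Finset.mem_image]
        rintro ⟨b, hb, hbx⟩
        apply haT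
        have : b = a := by
          have h1 : (x⁻¹ * a)⁻¹ * b = x := hbx
          have h2 : b = (x⁻¹ * a) * x :=
            calc b = (x⁻¹ * a) * ((x⁻¹ * a)⁻¹ * b) := (mul_inv_cancel_left _ _).symm
              _ = (x⁻¹ * a) * x := by rw [h1]
          rw [h2, mul_comm x⁻¹ a, mul_assoc, inv_mul_cancel, mul_one]
        rwa [← this]
      · show ((x⁻¹ * a)⁻¹)⁻¹ * x = a
        rw [inv_inv, mul_comm x⁻¹ a, mul_assoc, inv_mul_cancel, mul_one]
  refine (Finset.card_le_card hsub).trans ?_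
  refine (Finset.card_union_le _ _).trans ?_
  apply Nat.add_le_add_left
  refine Finset.card_biUnion_le.trans ?_
  apply Finset.sum_le_sum
  intro ψ _
  exact Finset.card_image_le

end generic

variable {C : Type*} [CommGroup C] [Fintype C]
variable (n : ℕ) [NeZero n]

/-- all coefficient families are conjugate families -/
def GoodFam (d : (C →* ℂˣ) → (ZMod n)ˣ → ℂ) : Prop := ∀ φ, IsConjFam n (d φ)

/-- the weighted quadratic form -/
noncomputable def Q (w : C → ℝ) (d : (C →* ℂˣ) → (ZMod n)ˣ → ℂ) : ℝ :=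
  ∑ k : (ZMod n)ˣ, ∑ c : C, w c * ‖ev (fun φ => d φ k) c‖ ^ 2

/-- the inductive property -/
def PP (w : C → ℝ) (Z : Subgroup (C →* ℂˣ)) : Prop :=
  ∀ d : (C →* ℂˣ) → (ZMod n)ˣ → ℂ, GoodFam n d →
    (Fintype.card (ZMod n)ˣ : ℝ) * (Fintype.card C : ℝ) * ((sat Z (supp d)).card : ℝ) ≤ Q n w d

/-- the base case -/
theorem PP_base : PP n (fun _ : C => (1 : ℝ)) ⊥ := by
  intro d hd
  rw [sat_bot]
  unfold Q
  simp_rw [one_mul, sum_norm_sq_ev]
  rw [← Finset.mul_sum, Finset.sum_comm]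
  have h1 : ((supp d).card : ℝ) * (Fintype.card (ZMod n)ˣ : ℝ) ≤
      ∑ φ : C →* ℂˣ, ∑ k : (ZMod n)ˣ, ‖d φ k‖ ^ 2 := by
    have h2 : ∑ φ ∈ supp d, (Fintype.card (ZMod n)ˣ : ℝ) ≤
        ∑ φ ∈ supp d, ∑ k : (ZMod n)ˣ, ‖d φ k‖ ^ 2 := by
      apply Finset.sum_le_sum
      intro φ hφ
      exact (hd φ).sum_norm_sq_ge n (mem_supp.mp hφ)
    rw [Finset.sum_const, nsmul_eq_mul] at h2
    refine h2.trans ?_
    apply Finset.sum_le_sum_of_subset_of_nonneg (Finset.subset_univ _)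
    intro φ _ _
    positivity
  have hC : (0 : ℝ) ≤ (Fintype.card C : ℝ) := by positivity
  nlinarith [mul_le_mul_of_nonneg_left h1 hC]

/-- monotonicity in the weight -/
theorem Q_mono {w w' : C → ℝ} (h : ∀ c, w c ≤ w' c) (d : (C →* ℂˣ) → (ZMod n)ˣ → ℂ) :
    Q n w d ≤ Q n w' d := by
  unfold Q
  apply Finset.sum_le_sum
  intro k _
  apply Finset.sum_le_sum
  intro c _
  apply mul_le_mul_of_nonneg_right (h c)
  positivity

theorem goodFam_dshift {d : (C →* ℂˣ) → (ZMod n)ˣ → ℂ} (hd : GoodFam n d) (ψ : C →* ℂˣ) :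
    GoodFam n (dshift d ψ) := by
  intro φ
  exact (hd φ).sub n (hd (ψ⁻¹ * φ))

theorem ev_dshift (d : (C →* ℂˣ) → (ZMod n)ˣ → ℂ) (ψ : C →* ℂˣ) (k : (ZMod n)ˣ) (c : C) :
    ev (fun φ => dshift d ψ φ k) c =
      ev (fun φ => d φ k) c - ((ψ c : ℂˣ) : ℂ) * ev (fun φ => d φ k) c := by
  unfold dshift
  rw [ev_sub, ev_shift (fun φ => d φ k) ψ c]

/-- the recursion for the quadratic form -/
theorem Q_step (w : C → ℝ) (Z' : Subgroup (C →* ℂˣ)) (d : (C →* ℂˣ) → (ZMod n)ˣ → ℂ) :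
    Q n (fun c => w c * (1 + (Fintype.card Z' : ℝ) * (if ∀ ψ ∈ Z', ψ c = 1 then 0 else 1))) d =
      Q n w d + (1 / 2 : ℝ) * ∑ ψ : Z', Q n w (dshift d (ψ : C →* ℂˣ)) := by
  unfold Q
  simp_rw [ev_dshift]
  rw [Finset.sum_comm (s := (Finset.univ : Finset Z')), Finset.mul_sum, ← Finset.sum_add_distrib]
  apply Finset.sum_congr rfl
  intro k _
  rw [Finset.sum_comm (s := (Finset.univ : Finset Z')), Finset.mul_sum, ← Finset.sum_add_distrib]
  apply Finset.sum_congr rfl
  intro c _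
  rw [← Finset.mul_sum, sum_norm_sq_sub_shift Z' c]
  ring

/-- the inductive step -/
theorem PP_step {w : C → ℝ} {Z : Subgroup (C →* ℂˣ)} (h : PP n w Z)
    (Z' : Subgroup (C →* ℂˣ)) :
    PP n (fun c => w c * (1 + (Fintype.card Z' : ℝ) * (if ∀ ψ ∈ Z', ψ c = 1 then 0 else 1)))
      (Z ⊔ Z') := by
  intro d hd
  rw [Q_step]
  set N : ℝ := (Fintype.card (ZMod n)ˣ : ℝ) * (Fintype.card C : ℝ) with hN
  have hN0 : 0 ≤ N := by positivity
  have h0 := h d hd
  have h1 : ∀ ψ : Z', N * (2 * ((sat Z (supp d) \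
      (sat Z (supp d)).image (fun a => (ψ : C →* ℂˣ) * a)).card : ℝ)) ≤
      Q n w (dshift d (ψ : C →* ℂˣ)) := by
    intro ψ
    refine le_trans ?_ (h _ (goodFam_dshift n hd ψ))
    apply mul_le_mul_of_nonneg_left _ hN0
    have := card_sat_dshift_ge Z d (ψ : C →* ℂˣ)
    exact_mod_cast this
  have h2 : N * (2 * ∑ ψ : Z', ((sat Z (supp d) \
      (sat Z (supp d)).image (fun a => (ψ : C →* ℂˣ) * a)).card : ℝ)) ≤
      ∑ ψ : Z', Q n w (dshift d (ψ : C →* ℂˣ)) := by
    rw [Finset.mul_sum, Finset.mul_sum]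
    apply Finset.sum_le_sum
    intro ψ _
    exact h1 ψ
  have h3 : ((sat (Z ⊔ Z') (supp d)).card : ℝ) ≤ ((sat Z (supp d)).card : ℝ) +
      ∑ ψ : Z', ((sat Z (supp d) \
        (sat Z (supp d)).image (fun a => (ψ : C →* ℂˣ) * a)).card : ℝ) := by
    have := (Finset.card_le_card (sat_sup_subset Z Z' (supp d))).trans
      (card_sat_le Z' (sat Z (supp d)))
    exact_mod_cast this
  have h4 := mul_le_mul_of_nonneg_left h3 hN0
  nlinarith

end Cfsg.Agent.Helper6.Knorr
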