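import Mathlib
import Cfsg.Agent.Helper6.KnorrC

/-!
# The Fourier inequality for a list of subgroups with trivial intersection
-/

set_option autoImplicit false
set_option linter.style.haveILetI false
set_option linter.unusedSectionVars false

namespace Cfsg.Agent.Helper6.Knorr

open Classical

variable {C : Type*} [CommGroup C] [Fintype C]

/-- the annihilator of a subgroup in the dual group -/
def dualSub (K : Subgroup C) : Subgroup (C →* ℂˣ) where
  carrier := {φ | ∀ y ∈ K, φ y = 1}
  one_mem' := fun y _ => rfl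
  mul_mem' := by
    intro a b ha hb y hy
    rw [MonoidHom.mul_apply, ha y hy, hb y hy, one_mul]
  inv_mem' := by
    intro a ha y hy
    rw [MonoidHom.inv_apply, ha y hy, inv_one]

theorem mem_dualSub {K : Subgroup C} {φ : C →* ℂˣ} : φ ∈ dualSub K ↔ ∀ y ∈ K, φ y = 1 :=
  Iff.rfl

theorem dualSub_eq (K : Subgroup C) :
    dualSub K = OrderDual.ofDual (CommGroup.subgroupOrderIsoSubgroupMonoidHom C ℂ K) := by
  ext φ
  rw [CommGroup.mem_subgroupOrderIsoSubgroupMonoidHom_iff]
  rfl

theorem card_dualSub (K : Subgroup C) : Fintype.card (dualSub K) = K.index := by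
  rw [← Nat.card_eq_fintype_card, dualSub_eq,
    CommGroup.card_subgroupOrderIsoSubgroupMonoidHom]
  rfl

theorem mem_iff_forall_dualSub (K : Subgroup C) (c : C) :
    (∀ φ ∈ dualSub K, φ c = 1) ↔ c ∈ K :=
  CommGroup.forall_monoidHom_apply_eq_one_iff ℂ K c

theorem dualSub_inf (N K : Subgroup C) : dualSub (N ⊓ K) = dualSub N ⊔ dualSub K := by
  rw [dualSub_eq, dualSub_eq, dualSub_eq, OrderIso.map_inf]
  rfl

theorem dualSub_bot : dualSub (⊥ : Subgroup C) = ⊤ := by
  ext φ
  simp only [Subgroup.mem_top, iff_true]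
  intro y hy
  rw [Subgroup.mem_bot] at hy
  rw [hy, map_one]

/-- the weight attached to a subgroup -/
noncomputable def wt (K : Subgroup C) (c : C) : ℝ := if c ∈ K then 1 else 1 + (K.index : ℝ)

theorem wt_eq (K : Subgroup C) (c : C) :
    (1 + (Fintype.card (dualSub K) : ℝ) * (if ∀ ψ ∈ dualSub K, ψ c = 1 then 0 else 1)) =
      wt K c := by
  unfold wt
  rw [card_dualSub]
  by_cases h : c ∈ K
  · rw [if_pos h, if_pos ((mem_iff_forall_dualSub K c).mpr h)]
    ring
  · rw [if_neg h, if_neg (fun h' => h ((mem_iff_forall_dualSub K c).mp h'))]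
    ring

theorem wt_pos (K : Subgroup C) (c : C) : 0 < wt K c := by
  unfold wt
  split_ifs
  · exact one_pos
  · positivity

/-- the product of the weights along a list -/
noncomputable def wprod : List (Subgroup C) → C → ℝ
  | [], _ => 1
  | K :: Ks, c => wprod Ks c * wt K c

/-- the intersection along a list -/
def kinf : List (Subgroup C) → Subgroup C
  | [] => ⊤
  | K :: Ks => kinf Ks ⊓ K

theorem wprod_nonneg (Ks : List (Subgroup C)) (c : C) : 0 ≤ wprod Ks c := by
  induction Ks with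
  | nil => exact zero_le_one
  | cons K Ks ih => exact mul_nonneg ih (wt_pos K c).le

variable (n : ℕ) [NeZero n]

theorem PP_list (Ks : List (Subgroup C)) : ∃ Z : Subgroup (C →* ℂˣ),
    dualSub (kinf Ks) ≤ Z ∧ PP n (wprod Ks) Z := by
  induction Ks with
  | nil =>
    refine ⟨⊥, ?_, PP_base n⟩
    intro φ hφ
    rw [Subgroup.mem_bot]
    ext c
    have := hφ c (Subgroup.mem_top c)
    rw [this]
    rfl
  | cons K Ks ih =>
    obtain ⟨Z, hZ, hPP⟩ := ih
    refine ⟨Z ⊔ dualSub K, ?_, ?_⟩
    · show dualSub (kinf Ks ⊓ K) ≤ _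
      rw [dualSub_inf]
      exact sup_le_sup_right hZ _
    · have h := PP_step n hPP (dualSub K)
      have heq : (fun c => wprod Ks c * (1 + (Fintype.card (dualSub K) : ℝ) *
          (if ∀ ψ ∈ dualSub K, ψ c = 1 then 0 else 1))) = wprod (K :: Ks) := by
        funext c
        rw [wt_eq]
        rfl
      rwa [heq] at h

/-- **the Fourier inequality** -/
theorem fourier_main (Ks : List (Subgroup C)) (hK : kinf Ks = ⊥) (w : C → ℝ)
    (hw : ∀ c, wprod Ks c ≤ w c) (d : (C →* ℂˣ) → (ZMod n)ˣ → ℂ) (hd : GoodFam n d)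
    (hne : ∃ φ k, d φ k ≠ 0) :
    (Fintype.card (ZMod n)ˣ : ℝ) * (Fintype.card C : ℝ) * (Fintype.card C : ℝ) ≤ Q n w d := by
  obtain ⟨Z, hZ, hPP⟩ := PP_list n Ks
  rw [hK, dualSub_bot, top_le_iff] at hZ
  subst hZ
  have h1 := hPP d hd
  have hS : (supp d).Nonempty := by
    obtain ⟨φ, k, hk⟩ := hne
    exact ⟨φ, mem_supp.mpr ⟨k, hk⟩⟩
  rw [sat_top hS, Finset.card_univ] at h1
  have hcard : Fintype.card (C →* ℂˣ) = Fintype.card C := by
    have := CommGroup.card_monoidHom_of_hasEnoughRootsOfUnity C ℂ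
    rwa [Nat.card_eq_fintype_card, Nat.card_eq_fintype_card] at this
  rw [hcard] at h1
  exact h1.trans (Q_mono n hw d)

end Cfsg.Agent.Helper6.Knorr
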