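import Mathlib
import Cfsg.Agent.Helper6.KnorrD

/-!
# A chain of invariant subgroups and the fixed-point weights

For a finite abelian group `C` acting coprimely on a finite abelian group `V`, we produce a list of
subgroups of `C` whose intersection is the kernel of the action and whose weights bound the index
of the fixed points of each element.
-/

set_option autoImplicit false
set_option linter.style.haveILetI false
set_option linter.unusedSectionVars false

namespace Cfsg.Agent.Helper6.Knorr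

open Classical

variable {C V : Type*} [CommGroup C] [Fintype C] [CommGroup V] [Finite V]
  [MulDistribMulAction C V]

/-- the fixed points of an element -/
def fixSub (c : C) : Subgroup V where
  carrier := {u | c • u = u}
  one_mem' := smul_one c
  mul_mem' := by
    intro a b ha hb
    show c • (a * b) = a * b
    rw [smul_mul', ha, hb]
  inv_mem' := by
    intro a ha
    show c • a⁻¹ = a⁻¹
    rw [smul_inv', ha]

theorem mem_fixSub {c : C} {u : V} : u ∈ fixSub c ↔ c • u = u := Iff.rfl

/-- the kernel of the action on a subgroup -/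
def kerOn (W : Subgroup V) : Subgroup C where
  carrier := {c | ∀ u ∈ W, c • u = u}
  one_mem' := fun u _ => one_smul _ u
  mul_mem' := by
    intro a b ha hb u hu
    rw [mul_smul, hb u hu, ha u hu]
  inv_mem' := by
    intro a ha u hu
    rw [inv_smul_eq_iff]
    exact (ha u hu).symm

theorem mem_kerOn {W : Subgroup V} {c : C} : c ∈ kerOn W ↔ ∀ u ∈ W, c • u = u := Iff.rfl

theorem smul_smul_comm' (a b : C) (u : V) : a • b • u = b • a • u := by
  rw [← mul_smul, ← mul_smul, mul_comm]

/-- invariance of a subgroup -/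
def Inv (C : Type*) {V : Type*} [CommGroup C] [CommGroup V] [MulDistribMulAction C V]
    (W : Subgroup V) : Prop := ∀ c : C, ∀ u ∈ W, c • u ∈ W

theorem exists_relKer {W W₀ : Subgroup V} (hW : Inv C W) (hW₀ : Inv C W₀) :
    ∃ K : Subgroup C, ∀ c, c ∈ K ↔ ∀ u ∈ W, c • u * u⁻¹ ∈ W₀ := by
  refine ⟨{ carrier := {c | ∀ u ∈ W, c • u * u⁻¹ ∈ W₀}
            one_mem' := ?_
            mul_mem' := ?_
            inv_mem' := ?_ }, fun c => Iff.rfl⟩
  · intro a b ha hb u hu
    have h1 : (a * b) • u * u⁻¹ = (a • (b • u) * (b • u)⁻¹) * (b • u * u⁻¹) := by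
      rw [mul_smul, mul_assoc, inv_mul_cancel_left]
    rw [h1]
    exact mul_mem (ha _ (hW b u hu)) (hb u hu)
  · intro u _
    rw [one_smul, mul_inv_cancel]
    exact one_mem _
  · intro a ha u hu
    have h1 := ha (a⁻¹ • u) (hW a⁻¹ u hu)
    rw [smul_inv_smul] at h1
    have h2 : a⁻¹ • u * u⁻¹ = (u * (a⁻¹ • u)⁻¹)⁻¹ := by
      rw [mul_inv_rev, inv_inv]
    rw [h2]
    exact inv_mem h1

theorem smul_pow_eq {c : C} {u t : V} (h1 : c • u = u * t) (h2 : c • t = t) (j : ℕ) :
    c ^ j • u = u * t ^ j := by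
  induction j with
  | zero => rw [pow_zero, one_smul, pow_zero, mul_one]
  | succ j ih =>
    rw [pow_succ', mul_smul, ih, smul_mul', h1, smul_pow', h2, pow_succ', mul_assoc]

theorem kerOn_inf {W W₀ : Subgroup V} {K : Subgroup C}
    (hcop : (Fintype.card C).Coprime (Nat.card V)) (hle : W₀ ≤ W)
    (hK : ∀ c, c ∈ K ↔ ∀ u ∈ W, c • u * u⁻¹ ∈ W₀) :
    kerOn W₀ ⊓ K = kerOn W := by
  ext c
  rw [Subgroup.mem_inf, mem_kerOn, mem_kerOn, hK]
  constructor
  · rintro ⟨h0, h1⟩ u hu
    set t := c • u * u⁻¹ with ht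
    have htW : t ∈ W₀ := h1 u hu
    have hcu : c • u = u * t := by
      rw [ht, mul_comm (c • u), mul_inv_cancel_left]
    have hct : c • t = t := h0 t htW
    have hpow := smul_pow_eq hcu hct (Fintype.card C)
    rw [pow_card_eq_one, one_smul] at hpow
    have ht1 : t ^ Fintype.card C = 1 := by
      have := hpow.symm
      rwa [mul_eq_left] at this
    have ht2 : t ^ Nat.card V = 1 := pow_card_eq_one'
    have hord : orderOf t ∣ Nat.gcd (Fintype.card C) (Nat.card V) :=
      Nat.dvd_gcd (orderOf_dvd_of_pow_eq_one ht1) (orderOf_dvd_of_pow_eq_one ht2)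
    rw [hcop, Nat.dvd_one, orderOf_eq_one_iff] at hord
    rw [hcu, hord, mul_one]
  · intro h
    refine ⟨fun u hu => h u (hle hu), fun u hu => ?_⟩
    rw [h u hu, mul_inv_cancel]
    exact one_mem _

theorem card_eq_card_mul_relIndex {H K : Subgroup V} (h : H ≤ K) :
    Nat.card K = Nat.card H * H.relIndex K := by
  have h1 := Subgroup.card_mul_index (H.subgroupOf K)
  rw [Nat.card_congr (Subgroup.subgroupOfEquivOfLe h).toEquiv] at h1
  exact h1.symm

theorem card_second_iso {F W₀ W : Subgroup V} (hF : F ≤ W) (hW₀ : W₀ ≤ W) :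
    Nat.card F * Nat.card W₀ ≤ Nat.card W * Nat.card (W₀ ⊓ F : Subgroup V) := by
  have h1 : Nat.card F = Nat.card (W₀ ⊓ F : Subgroup V) * W₀.relIndex F := by
    rw [card_eq_card_mul_relIndex (inf_le_right : W₀ ⊓ F ≤ F), Subgroup.inf_relIndex_right]
  have h2 : Nat.card W = Nat.card W₀ * W₀.relIndex W := card_eq_card_mul_relIndex hW₀
  have h3 : W₀.relIndex F ∣ W₀.relIndex W := by
    have h4 : W₀.relIndex (F ⊔ W₀) = W₀.relIndex F := Subgroup.relIndex_sup_right F W₀
    have h5 := Subgroup.relIndex_mul_relIndex W₀ (F ⊔ W₀) W le_sup_right (sup_le hF hW₀)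
    rw [h4] at h5
    exact Dvd.intro _ h5
  have h6 : W₀.relIndex W ≠ 0 := by
    intro h0
    rw [h0, mul_zero] at h2
    exact (Nat.card_pos (α := W)).ne' h2
  have h7 : W₀.relIndex F ≤ W₀.relIndex W := Nat.le_of_dvd (Nat.pos_of_ne_zero h6) h3
  rw [h1, h2]
  calc Nat.card (W₀ ⊓ F : Subgroup V) * W₀.relIndex F * Nat.card W₀
      ≤ Nat.card (W₀ ⊓ F : Subgroup V) * W₀.relIndex W * Nat.card W₀ := by
        gcongr
    _ = Nat.card W₀ * W₀.relIndex W * Nat.card (W₀ ⊓ F : Subgroup V) := by ring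

/-- `W₀` is a maximal proper invariant subgroup of `W` -/
structure IsMaxInv (C : Type*) {V : Type*} [CommGroup C] [CommGroup V] [MulDistribMulAction C V]
    (W₀ W : Subgroup V) : Prop where
  lt : W₀ < W
  inv : Inv C W₀
  max : ∀ W' : Subgroup V, Inv C W' → W₀ ≤ W' → W' ≤ W → W' = W₀ ∨ W' = W

theorem exists_isMaxInv {W : Subgroup V} (hW : W ≠ ⊥) :
    ∃ W₀ : Subgroup V, IsMaxInv C W₀ W := by
  have h0 : (⊥ : Subgroup V) < W ∧ Inv C (⊥ : Subgroup V) := by
    refine ⟨bot_lt_iff_ne_bot.mpr hW, ?_⟩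
    intro c u hu
    rw [Subgroup.mem_bot] at hu ⊢
    rw [hu, smul_one]
  obtain ⟨W₀, -, hmax⟩ := Finite.exists_le_maximal (p := fun W' : Subgroup V => W' < W ∧ Inv C W') h0
  refine ⟨W₀, hmax.prop.1, hmax.prop.2, ?_⟩
  intro W' hinv hle hle'
  by_cases h : W' = W
  · exact Or.inr h
  · left
    exact le_antisymm (hmax.le_of_ge ⟨lt_of_le_of_ne hle' h, hinv⟩ hle) hle

theorem fix_le_of_not_mem {W W₀ : Subgroup V} (hW : Inv C W) (hmax : IsMaxInv C W₀ W)
    {K : Subgroup C} (hK : ∀ c, c ∈ K ↔ ∀ u ∈ W, c • u * u⁻¹ ∈ W₀) {c : C} (hc : c ∉ K) :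
    W ⊓ fixSub c ≤ W₀ := by
  have hinv : Inv C (W₀ ⊔ (W ⊓ fixSub c)) := by
    intro c' x hx
    obtain ⟨a, ha, b, hb, rfl⟩ := Subgroup.mem_sup.mp hx
    rw [smul_mul']
    apply Subgroup.mul_mem_sup (hmax.inv c' a ha)
    rw [Subgroup.mem_inf] at hb ⊢
    refine ⟨hW c' b hb.1, ?_⟩
    rw [mem_fixSub, smul_smul_comm', mem_fixSub.mp hb.2]
  rcases hmax.max _ hinv le_sup_left (sup_le hmax.lt.le inf_le_left) with h | h
  · rw [← h]
    exact le_sup_right
  · exfalso
    apply hc
    rw [hK]
    intro x hx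
    rw [← h] at hx
    obtain ⟨a, ha, b, hb, rfl⟩ := Subgroup.mem_sup.mp hx
    rw [Subgroup.mem_inf] at hb
    rw [smul_mul', mem_fixSub.mp hb.2]
    have : c • a * b * (a * b)⁻¹ = c • a * a⁻¹ := by
      rw [mul_inv_rev, mul_assoc, mul_inv_cancel_left]
    rw [this]
    exact mul_mem (hmax.inv c a ha) (inv_mem ha)

theorem mem_relKer_of_one {W W₀ : Subgroup V} (hW : Inv C W) (hmax : IsMaxInv C W₀ W)
    {K : Subgroup C} (hK : ∀ c, c ∈ K ↔ ∀ u ∈ W, c • u * u⁻¹ ∈ W₀) {u : V} (hu : u ∈ W)
    (hu0 : u ∉ W₀) {g : C} (hg : g • u * u⁻¹ ∈ W₀) : g ∈ K := by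
  let W'' : Subgroup V :=
    { carrier := {x | x ∈ W ∧ g • x * x⁻¹ ∈ W₀}
      mul_mem' := by
        rintro a b ⟨ha, ha'⟩ ⟨hb, hb'⟩
        refine ⟨mul_mem ha hb, ?_⟩
        have : g • (a * b) * (a * b)⁻¹ = (g • a * a⁻¹) * (g • b * b⁻¹) := by
          rw [smul_mul', mul_inv, mul_mul_mul_comm]
        rw [this]
        exact mul_mem ha' hb'
      one_mem' := by
        refine ⟨one_mem _, ?_⟩
        rw [smul_one, inv_one, mul_one]
        exact one_mem _
      inv_mem' := by
        rintro a ⟨ha, ha'⟩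
        refine ⟨inv_mem ha, ?_⟩
        have : g • a⁻¹ * a⁻¹⁻¹ = (g • a * a⁻¹)⁻¹ := by
          rw [smul_inv', mul_inv]
        rw [this]
        exact inv_mem ha' }
  have hmem : ∀ x, x ∈ W'' ↔ x ∈ W ∧ g • x * x⁻¹ ∈ W₀ := fun x => Iff.rfl
  have hinv : Inv C W'' := by
    intro c x hx
    rw [hmem] at hx ⊢
    refine ⟨hW c x hx.1, ?_⟩
    have : g • c • x * (c • x)⁻¹ = c • (g • x * x⁻¹) := by
      rw [smul_mul', smul_inv', smul_smul_comm']
    rw [this]
    exact hmax.inv c _ hx.2
  have hle : W₀ ≤ W'' := by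
    intro x hx
    rw [hmem]
    exact ⟨hmax.lt.le hx, mul_mem (hmax.inv g x hx) (inv_mem hx)⟩
  have hle' : W'' ≤ W := fun x hx => ((hmem x).mp hx).1
  rcases hmax.max _ hinv hle hle' with h | h
  · exfalso
    apply hu0
    rw [← h, hmem]
    exact ⟨hu, hg⟩
  · rw [hK]
    intro x hx
    rw [← h, hmem] at hx
    exact hx.2

theorem card_ge_of_maxInv {W W₀ : Subgroup V} (hW : Inv C W) (hmax : IsMaxInv C W₀ W)
    {K : Subgroup C} (hK : ∀ c, c ∈ K ↔ ∀ u ∈ W, c • u * u⁻¹ ∈ W₀) :
    Nat.card W₀ * (1 + K.index) ≤ Nat.card W := by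
  obtain ⟨u, hu, hu0⟩ := SetLike.exists_of_lt hmax.lt
  let f : Option (C ⧸ K) × W₀ → W := fun x =>
    match x.1 with
    | none => ⟨x.2, hmax.lt.le x.2.2⟩
    | some q => ⟨(Quotient.out q : C) • u * x.2, mul_mem (hW _ u hu) (hmax.lt.le x.2.2)⟩
  have hnone : ∀ w : W₀, ((f (none, w) : W) : V) = w := fun w => rfl
  have hsome : ∀ (q : C ⧸ K) (w : W₀), ((f (some q, w) : W) : V) = (Quotient.out q : C) • u * w :=
    fun q w => rfl
  have hnotin : ∀ r : C, r • u ∉ W₀ := by
    intro r hr
    apply hu0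
    have := hmax.inv r⁻¹ _ hr
    rwa [inv_smul_smul] at this
  have hinj : Function.Injective f := by
    rintro ⟨a, w⟩ ⟨a', w'⟩ h
    have hV : ((f (a, w) : W) : V) = f (a', w') := by rw [h]
    cases a with
    | none =>
      cases a' with
      | none =>
        rw [hnone, hnone] at hV
        rw [Subtype.ext hV]
      | some q' =>
        exfalso
        rw [hnone, hsome] at hV
        apply hnotin (Quotient.out q')
        have : (Quotient.out q' : C) • u = w * (w' : V)⁻¹ := by
          rw [hV, mul_inv_cancel_right]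
        rw [this]
        exact mul_mem w.2 (inv_mem w'.2)
    | some q =>
      cases a' with
      | none =>
        exfalso
        rw [hnone, hsome] at hV
        apply hnotin (Quotient.out q)
        have : (Quotient.out q : C) • u = w' * (w : V)⁻¹ := by
          rw [← hV, mul_inv_cancel_right]
        rw [this]
        exact mul_mem w'.2 (inv_mem w.2)
      | some q' =>
        rw [hsome, hsome] at hV
        set r := (Quotient.out q : C) with hr
        set r' := (Quotient.out q' : C) with hr'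
        have h1 : r • u * (r' • u)⁻¹ ∈ W₀ := by
          have : r • u * (r' • u)⁻¹ = (w' : V) * (w : V)⁻¹ := by
            have h2 : r • u = r' • u * w' * (w : V)⁻¹ := by
              rw [← hV, mul_inv_cancel_right]
            rw [h2]
            rw [mul_comm (r' • u * (w' : V) * (w : V)⁻¹), mul_assoc, inv_mul_cancel_left]
          rw [this]
          exact mul_mem w'.2 (inv_mem w.2)
        have h3 : (r'⁻¹ * r) • u * u⁻¹ ∈ W₀ := by
          have := hmax.inv r'⁻¹ _ h1
          rwa [smul_mul', smul_inv', inv_smul_smul, ← mul_smul] at this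
        have h4 : r'⁻¹ * r ∈ K := mem_relKer_of_one hW hmax hK hu hu0 h3
        have hq : q' = q := by
          rw [← QuotientGroup.out_eq' q, ← QuotientGroup.out_eq' q']
          exact QuotientGroup.eq.mpr h4
        subst hq
        have hw : (w : V) = w' := mul_left_cancel hV
        rw [Subtype.ext hw]
  have hcard := Nat.card_le_card_of_injective f hinj
  rw [Nat.card_prod] at hcard
  have hopt : Nat.card (Option (C ⧸ K)) = 1 + K.index := by
    rw [Nat.card_eq_fintype_card, Fintype.card_option, ← Nat.card_eq_fintype_card, add_comm]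
    rfl
  rw [hopt, mul_comm] at hcard
  exact hcard

theorem wprod_cons (K : Subgroup C) (Ks : List (Subgroup C)) (c : C) :
    wprod (K :: Ks) c = wprod Ks c * wt K c := rfl

theorem kinf_cons (K : Subgroup C) (Ks : List (Subgroup C)) :
    kinf (K :: Ks) = kinf Ks ⊓ K := rfl

/-- **the chain lemma** -/
theorem chain_exists (hcop : (Fintype.card C).Coprime (Nat.card V)) :
    ∀ (m : ℕ) (W : Subgroup V), Nat.card W = m → Inv C W →
      ∃ Ks : List (Subgroup C), kinf Ks = kerOn W ∧
        ∀ c : C, (Nat.card (W ⊓ fixSub c : Subgroup V) : ℝ) * wprod Ks c ≤ (Nat.card W : ℝ) := by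
  intro m
  induction m using Nat.strong_induction_on with
  | _ m ih =>
    intro W hm hW
    by_cases hbot : W = ⊥
    · subst hbot
      refine ⟨[], ?_, ?_⟩
      · ext c
        simp only [kinf, Subgroup.mem_top, true_iff, mem_kerOn]
        intro u hu
        rw [Subgroup.mem_bot] at hu
        rw [hu, smul_one]
      · intro c
        rw [bot_inf_eq]
        simp [wprod]
    · obtain ⟨W₀, hmax⟩ := exists_isMaxInv (C := C) hbot
      obtain ⟨K, hK⟩ := exists_relKer hW hmax.inv
      have hlt : Nat.card W₀ < m := by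
        rw [← hm]
        have h1 : Nat.card W₀ ∣ Nat.card W := Subgroup.card_dvd_of_le hmax.lt.le
        have h2 : Nat.card W₀ ≤ Nat.card W := Nat.le_of_dvd Nat.card_pos h1
        rcases h2.lt_or_eq with h | h
        · exact h
        · exfalso
          have : W₀ = W := Subgroup.eq_of_le_of_card_ge hmax.lt.le h.ge
          exact hmax.lt.ne this
      obtain ⟨Ks₀, hKs₀, hineq⟩ := ih _ hlt W₀ rfl hmax.inv
      refine ⟨K :: Ks₀, ?_, ?_⟩
      · rw [kinf_cons, hKs₀]
        exact kerOn_inf hcop hmax.lt.le hK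
      · intro c
        rw [wprod_cons]
        have hP : 0 ≤ wprod Ks₀ c := wprod_nonneg Ks₀ c
        have h0 := hineq c
        have ha₀ : (0 : ℝ) < (Nat.card (W₀ ⊓ fixSub c : Subgroup V) : ℝ) := by
          have : 0 < Nat.card (W₀ ⊓ fixSub c : Subgroup V) := Nat.card_pos
          exact_mod_cast this
        by_cases hc : c ∈ K
        · have hwt : wt K c = 1 := by
            unfold wt
            rw [if_pos hc]
          rw [hwt, mul_one]
          have h2 := card_second_iso (inf_le_left : W ⊓ fixSub c ≤ W) hmax.lt.le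
          have h3 : W₀ ⊓ (W ⊓ fixSub c) = W₀ ⊓ fixSub c := by
            rw [← inf_assoc, inf_of_le_left hmax.lt.le]
          rw [h3] at h2
          have h2' : (Nat.card (W ⊓ fixSub c : Subgroup V) : ℝ) * (Nat.card W₀ : ℝ) ≤
              (Nat.card W : ℝ) * (Nat.card (W₀ ⊓ fixSub c : Subgroup V) : ℝ) := by
            exact_mod_cast h2
          have ha : (0 : ℝ) ≤ (Nat.card (W ⊓ fixSub c : Subgroup V) : ℝ) := by positivity
          have h4 : (Nat.card (W ⊓ fixSub c : Subgroup V) : ℝ) * wprod Ks₀ c *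
              (Nat.card (W₀ ⊓ fixSub c : Subgroup V) : ℝ) ≤
              (Nat.card W : ℝ) * (Nat.card (W₀ ⊓ fixSub c : Subgroup V) : ℝ) := by
            have h5 := mul_le_mul_of_nonneg_left h0 ha
            nlinarith
          exact le_of_mul_le_mul_right h4 ha₀
        · have hwt : wt K c = 1 + (K.index : ℝ) := by
            unfold wt
            rw [if_neg hc]
          rw [hwt]
          have h2 : W ⊓ fixSub c = W₀ ⊓ fixSub c := by
            apply le_antisymm
            · exact le_inf (fix_le_of_not_mem hW hmax hK hc) inf_le_right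
            · exact inf_le_inf_right _ hmax.lt.le
          rw [h2]
          have h3 := card_ge_of_maxInv hW hmax hK
          have h3' : (Nat.card W₀ : ℝ) * (1 + (K.index : ℝ)) ≤ (Nat.card W : ℝ) := by
            exact_mod_cast h3
          have h4 : (0 : ℝ) ≤ 1 + (K.index : ℝ) := by positivity
          have h5 := mul_le_mul_of_nonneg_right h0 h4
          nlinarith

end Cfsg.Agent.Helper6.Knorr
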