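import Mathlib
import Cfsg.Prelude.Def_Characters
import Cfsg.Agent.Helper6.KnorrD
import Cfsg.Agent.Helper6.Linear
import Cfsg.Agent.Helper6.IrrBasis

/-!
# Fourier data of a character of an abelian group along a subgroup and an element
-/

set_option autoImplicit false
set_option linter.style.haveILetI false
set_option linter.unusedSectionVars false

namespace Cfsg.Agent.Helper6.Knorr

open Classical

variable {P : Type*} [CommGroup P] [Finite P] {C : Type*} [CommGroup C] [Fintype C]
variable (n : ℕ) [NeZero n]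

theorem fourier_data_of_character (ι : C →* P) (g₀ : P) (hg : g₀ ^ n = 1) (ψ : P → ℂ)
    (hψ : Cfsg.IsCharacter P ψ) :
    ∃ d : (C →* ℂˣ) → (ZMod n)ˣ → ℂ, GoodFam n d ∧
      ∀ (k : (ZMod n)ˣ) (c : C), ψ (g₀ ^ (k : ZMod n).val * ι c) = ev (fun φ => d φ k) c := by
  rw [isCharacter_iff_mem_closure] at hψ
  induction hψ using AddSubmonoid.closure_induction with
  | mem ξ hξ =>
    have hξ' : Cfsg.IsIrrCharacter P ξ := hξ
    have hdeg : ξ 1 = 1 :=
      (comm_iff_forall_irr_degree_one.mp (fun a b : P => mul_comm a b)) ⟨ξ, hξ'⟩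
    obtain ⟨lam, hlam⟩ := exists_hom_of_irr_degree_one hξ' hdeg
    refine ⟨fun φ k => if φ = lam.comp ι then ((lam g₀ : ℂˣ) : ℂ) ^ (k : ZMod n).val else 0, ?_, ?_⟩
    · intro φ
      by_cases h : φ = lam.comp ι
      · simp only [if_pos h]
        apply IsConjFam.single
        rw [← Units.val_pow_eq_pow_val, ← map_pow, hg, map_one, Units.val_one]
      · simp only [if_neg h]
        exact IsConjFam.zero n
    · intro k c
      unfold ev
      rw [Finset.sum_eq_single (lam.comp ι)]
      · beta_reduce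
        rw [if_pos rfl, hlam]
        simp only [MonoidHom.comp_apply, map_mul, map_pow, Units.val_mul, Units.val_pow_eq_pow_val]
      · intro φ _ hne
        beta_reduce
        rw [if_neg hne, zero_mul]
      · intro h
        exact absurd (Finset.mem_univ _) h
  | zero =>
    refine ⟨fun _ _ => 0, fun _ => IsConjFam.zero n, ?_⟩
    intro k c
    unfold ev
    simp
  | add ψ₁ ψ₂ _ _ h₁ h₂ =>
    obtain ⟨d₁, hd₁, he₁⟩ := h₁
    obtain ⟨d₂, hd₂, he₂⟩ := h₂
    refine ⟨fun φ k => d₁ φ k + d₂ φ k, fun φ => (hd₁ φ).add n (hd₂ φ), ?_⟩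
    intro k c
    rw [Pi.add_apply, he₁, he₂]
    unfold ev
    rw [← Finset.sum_add_distrib]
    apply Finset.sum_congr rfl
    intro φ _
    ring

end Cfsg.Agent.Helper6.Knorr
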