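import Mathlib
import Cfsg.Prelude.Def_Characters
import Cfsg.Agent.Helper6.KnorrE
import Cfsg.Agent.Helper6.KnorrF
import Cfsg.Agent.Helper6.KGVBoundB
import Cfsg.Agent.Helper6.Induced
import Cfsg.Agent.Helper6.CharBasic

/-!
# The abelian-stabilizer criterion for the `k(GV)` problem: assembly
-/

set_option autoImplicit false
set_option linter.style.haveILetI false
set_option linter.unusedSectionVars false

namespace Cfsg.Agent.Helper6.Knorr

open Classical
open scoped IsMulCommutative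

section PerChar

variable {X : Type*} [Group X] [Finite X] {C : Type*} [CommGroup C] [Fintype C]
variable (n : ℕ) [NeZero n]

/-- the per-character weighted lower bound -/
theorem per_character (j : C →* X) (v : X) (hv : v ^ n = 1) (hcomm : ∀ c, Commute v (j c))
    (χ : X → ℂ) (hχ : Cfsg.IsCharacter X χ)
    (hne : ∃ k : (ZMod n)ˣ, χ (v ^ (k : ZMod n).val) ≠ 0)
    (Ks : List (Subgroup C)) (hK : kinf Ks = ⊥) :
    (Fintype.card (ZMod n)ˣ : ℝ) * (Fintype.card C : ℝ) * (Fintype.card C : ℝ) ≤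
      ∑ k : (ZMod n)ˣ, ∑ c : C, wprod Ks c * ‖χ (v ^ (k : ZMod n).val * j c)‖ ^ 2 := by
  have hcm : ∀ (z : ↥(Subgroup.zpowers v)) (c : C),
      Commute ((Subgroup.zpowers v).subtype z) (j c) := by
    intro z c
    obtain ⟨z, hz⟩ := z
    obtain ⟨i, rfl⟩ := Subgroup.mem_zpowers_iff.mp hz
    exact (hcomm c).zpow_left i
  obtain ⟨f, hf⟩ : ∃ f : ↥(Subgroup.zpowers v) × C →* X,
      ∀ z c, f (z, c) = (z : X) * j c :=
    ⟨MonoidHom.noncommCoprod (Subgroup.zpowers v).subtype j hcm, fun z c => rfl⟩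
  have hψ : Cfsg.IsCharacter (↥(Subgroup.zpowers v) × C) (fun x => χ (f x)) :=
    IsCharacter.comp_hom f hχ
  obtain ⟨g₀, hg₀⟩ : ∃ g₀ : ↥(Subgroup.zpowers v) × C,
      g₀ = (⟨v, Subgroup.mem_zpowers v⟩, 1) := ⟨_, rfl⟩
  have hg₀n : g₀ ^ n = 1 := by
    rw [hg₀]
    apply Prod.ext
    · apply Subtype.ext
      simp [hv]
    · simp
  obtain ⟨d, hd, hev⟩ := fourier_data_of_character n
    (MonoidHom.inr ↥(Subgroup.zpowers v) C) g₀ hg₀n _ hψ
  have hval : ∀ (k : (ZMod n)ˣ) (c : C),
      f (g₀ ^ (k : ZMod n).val * MonoidHom.inr ↥(Subgroup.zpowers v) C c) =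
        v ^ (k : ZMod n).val * j c := by
    intro k c
    have : g₀ ^ (k : ZMod n).val * MonoidHom.inr ↥(Subgroup.zpowers v) C c =
        ((⟨v, Subgroup.mem_zpowers v⟩ : ↥(Subgroup.zpowers v)) ^ (k : ZMod n).val, c) := by
      rw [hg₀]
      apply Prod.ext
      · simp
      · simp
    rw [this, hf]
    simp
  have hne' : ∃ φ k, d φ k ≠ 0 := by
    by_contra hcon
    push Not at hcon
    obtain ⟨k, hk⟩ := hne
    apply hk
    have h1 := hev k 1
    rw [hval k 1, map_one, mul_one] at h1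
    rw [h1]
    unfold ev
    apply Finset.sum_eq_zero
    intro φ _
    beta_reduce
    rw [hcon φ k, zero_mul]
  have hmain := fourier_main n Ks hK (wprod Ks) (fun c => le_refl _) d hd hne'
  refine hmain.trans (le_of_eq ?_)
  unfold Q
  apply Finset.sum_congr rfl
  intro k _
  apply Finset.sum_congr rfl
  intro c _
  rw [← hev k c, hval k c]

end PerChar

section Concrete

variable {X : Type*} [Group X]

/-- conjugation action of a subgroup on a normal subgroup -/
@[reducible] def conjAct (C V : Subgroup X) [V.Normal] : MulDistribMulAction C V :=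
  MulDistribMulAction.compHom V ((MulAut.conjNormal (H := V)).comp C.subtype)

attribute [local instance] conjAct

theorem conjAct_smul_coe (C V : Subgroup X) [V.Normal] (c : C) (u : V) :
    ((c • u : V) : X) = (c : X) * u * (c : X)⁻¹ := rfl

/-- an element commuting with a product of commuting elements of coprime orders commutes with
the factors -/
theorem commute_of_commute_mul {a c x : X} (p m : ℕ) (hpm : Nat.Coprime m p) (hp1 : 1 < p)
    (hap : a ^ p = 1) (hcm : c ^ m = 1) (hac : Commute a c) (hx : Commute x (a * c)) :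
    Commute x a ∧ Commute x c := by
  obtain ⟨s, -, hs⟩ := Nat.exists_mul_mod_eq_one_of_coprime hpm hp1
  have h1 : (a * c) ^ (m * s) = a := by
    rw [hac.mul_pow, pow_mul c, hcm, one_pow, mul_one]
    conv_lhs => rw [← Nat.div_add_mod (m * s) p, hs, pow_add, pow_mul, hap, one_pow, one_mul,
      pow_one]
  have hxa : Commute x a := by
    have := hx.pow_right (m * s)
    rwa [h1] at this
  refine ⟨hxa, ?_⟩
  have h2 : c = a⁻¹ * (a * c) := by group
  rw [h2]
  exact hxa.inv_right.mul_right hx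

/-- decomposition of an element centralizing `v` and `c` -/
theorem exists_decomp (V G : Subgroup X) (habV : ∀ a ∈ V, ∀ b ∈ V, a * b = b * a)
    (hGV : Subgroup.IsComplement' V G) (v : X) (hv : v ∈ V)
    (hab : ∀ a ∈ G ⊓ Subgroup.centralizer ({v} : Set X),
      ∀ b ∈ G ⊓ Subgroup.centralizer ({v} : Set X), a * b = b * a)
    (c : X) (hc : c ∈ G ⊓ Subgroup.centralizer ({v} : Set X))
    (x : X) (hxv : Commute x v) (hxc : Commute x c) :
    ∃ u ∈ V, ∃ h ∈ G ⊓ Subgroup.centralizer ({v} : Set X), u * h = x ∧ c * u * c⁻¹ = u := by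
  obtain ⟨⟨u, h⟩, huh⟩ := hGV.2 x
  have huh' : (u : X) * (h : X) = x := huh
  have huv : Commute (u : X) v := habV u u.2 v hv
  have hh : (h : X) = (u : X)⁻¹ * x := by rw [← huh']; group
  have hhv : Commute (h : X) v := by
    rw [hh]
    exact huv.inv_left.mul_left hxv
  have hhC : (h : X) ∈ G ⊓ Subgroup.centralizer ({v} : Set X) := by
    refine ⟨h.2, ?_⟩
    show (h : X) ∈ Subgroup.centralizer ({v} : Set X)
    rw [Subgroup.mem_centralizer_singleton_iff]
    exact hhv.eq
  have hhc : Commute (h : X) c := hab _ hhC _ hc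
  have hu : (u : X) = x * (h : X)⁻¹ := by rw [← huh']; group
  have huc : Commute (u : X) c := by
    rw [hu]
    exact hxc.mul_left hhc.inv_left
  refine ⟨u, u.2, h, hhC, huh', ?_⟩
  rw [← huc.eq, mul_inv_cancel_right]

variable [Finite X]

/-- the centralizer bound -/
theorem card_centralizer_le (p : ℕ) [hp : Fact p.Prime] (V G : Subgroup X) [V.Normal]
    [IsMulCommutative V] (hGV : Subgroup.IsComplement' V G)
    (hcop : (Nat.card G).Coprime p) (hVexp : ∀ v ∈ V, v ^ p = 1) (v : X) (hv : v ∈ V)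
    [IsMulCommutative ↥(G ⊓ Subgroup.centralizer ({v} : Set X))]
    [Fintype ↥(G ⊓ Subgroup.centralizer ({v} : Set X))]
    (c : ↥(G ⊓ Subgroup.centralizer ({v} : Set X))) (k : ℕ) (hk : k.Coprime (Nat.card X)) :
    Nat.card (Subgroup.centralizer ({v ^ k * (c : X)} : Set X)) ≤
      Nat.card ↥(G ⊓ Subgroup.centralizer ({v} : Set X)) *
        Nat.card ↥(fixSub (V := ↥V) c) := by
  have habV : ∀ a ∈ V, ∀ b ∈ V, a * b = b * a := by
    intro a ha b hb
    exact congrArg Subtype.val (mul_comm (⟨a, ha⟩ : V) ⟨b, hb⟩)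
  have hab : ∀ a ∈ G ⊓ Subgroup.centralizer ({v} : Set X),
      ∀ b ∈ G ⊓ Subgroup.centralizer ({v} : Set X), a * b = b * a := by
    intro a ha b hb
    exact congrArg Subtype.val
      (mul_comm (⟨a, ha⟩ : ↥(G ⊓ Subgroup.centralizer ({v} : Set X))) ⟨b, hb⟩)
  have hcv : Commute (v ^ k) (c : X) := by
    have h1 : (c : X) ∈ Subgroup.centralizer ({v} : Set X) := c.2.2
    rw [Subgroup.mem_centralizer_singleton_iff] at h1
    exact (Commute.pow_right (show Commute (c : X) v from h1) k).symm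
  have hcm : (c : X) ^ Nat.card G = 1 := by
    have : ((⟨(c : X), c.2.1⟩ : G) ^ Nat.card G : G) = 1 := pow_card_eq_one'
    exact congrArg Subtype.val this
  have key : ∀ x : ↥(Subgroup.centralizer ({v ^ k * (c : X)} : Set X)),
      ∃ hu : ↥(G ⊓ Subgroup.centralizer ({v} : Set X)) × ↥(fixSub (V := ↥V) c),
        ((hu.2 : ↥V) : X) * (hu.1 : X) = (x : X) := by
    intro x
    have hx : Commute (x : X) (v ^ k * (c : X)) := by
      have := x.2
      rw [Subgroup.mem_centralizer_singleton_iff] at this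
      exact this
    obtain ⟨hxa, hxc⟩ := commute_of_commute_mul p (Nat.card G) hcop hp.out.one_lt
      (by rw [← pow_mul, mul_comm, pow_mul, hVexp v hv, one_pow]) hcm hcv hx
    have hxv : Commute (x : X) v := by
      have h1 : (x : X) ∈ Subgroup.centralizer ({v ^ k} : Set X) := by
        rw [Subgroup.mem_centralizer_singleton_iff]
        exact hxa.eq
      rw [centralizer_pow_of_coprime v k hk, Subgroup.mem_centralizer_singleton_iff] at h1
      exact h1
    obtain ⟨u, hu, h, hh, huh, hfix⟩ := exists_decomp V G habV hGV v hv hab (c : X) c.2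
      (x : X) hxv hxc
    refine ⟨(⟨h, hh⟩, ⟨⟨u, hu⟩, ?_⟩), huh⟩
    rw [mem_fixSub]
    apply Subtype.ext
    rw [conjAct_smul_coe]
    exact hfix
  choose F hF using key
  have hinj : Function.Injective F := by
    intro x y hxy
    apply Subtype.ext
    rw [← hF x, ← hF y, hxy]
  have := Nat.card_le_card_of_injective F hinj
  rwa [Nat.card_prod] at this

/-- the per-character bound, concretely -/
theorem per_character_concrete (G : Subgroup X) (v : X) (n : ℕ) [NeZero n] (hvn : v ^ n = 1)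
    [IsMulCommutative ↥(G ⊓ Subgroup.centralizer ({v} : Set X))]
    [Fintype ↥(G ⊓ Subgroup.centralizer ({v} : Set X))]
    (Ks : List (Subgroup ↥(G ⊓ Subgroup.centralizer ({v} : Set X)))) (hK : kinf Ks = ⊥)
    (χ : X → ℂ) (hχ : Cfsg.IsCharacter X χ)
    (hne : ∃ k : (ZMod n)ˣ, χ (v ^ (k : ZMod n).val) ≠ 0) :
      (Fintype.card (ZMod n)ˣ : ℝ) *
        (Fintype.card ↥(G ⊓ Subgroup.centralizer ({v} : Set X)) : ℝ) *
        (Fintype.card ↥(G ⊓ Subgroup.centralizer ({v} : Set X)) : ℝ) ≤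
      ∑ k : (ZMod n)ˣ, ∑ c : ↥(G ⊓ Subgroup.centralizer ({v} : Set X)),
        wprod Ks c * ‖χ (v ^ (k : ZMod n).val * (c : X))‖ ^ 2 := by
  have hcomm : ∀ c : ↥(G ⊓ Subgroup.centralizer ({v} : Set X)),
      Commute v ((G ⊓ Subgroup.centralizer ({v} : Set X)).subtype c) := by
    intro c
    have h1 : (c : X) ∈ Subgroup.centralizer ({v} : Set X) := c.2.2
    rw [Subgroup.mem_centralizer_singleton_iff] at h1
    exact (show Commute (c : X) v from h1).symm
  exact per_character n (G ⊓ Subgroup.centralizer ({v} : Set X)).subtype v hvn hcomm χ hχ hne Ks hK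

set_option maxHeartbeats 1600000 in
/-- **the abelian-stabilizer criterion for the `k(GV)` problem** -/
theorem knorr_bound (p : ℕ) [hp : Fact p.Prime] (V : Subgroup X) [V.Normal]
    (hVexp : ∀ v ∈ V, v ^ p = 1) (hidx : ¬ p ∣ V.index)
    (hself : Subgroup.centralizer (V : Set X) = V) (G : Subgroup X)
    (hGV : Subgroup.IsComplement' V G) (v : X) (hv : v ∈ V)
    (hab : ∀ a ∈ G ⊓ Subgroup.centralizer ({v} : Set X),
      ∀ b ∈ G ⊓ Subgroup.centralizer ({v} : Set X), a * b = b * a) :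
    Nat.card (ConjClasses X) ≤ Nat.card V := by
  haveI := Fintype.ofFinite X
  haveI : Finite (Cfsg.IrrCharacter X) := irr_finite
  haveI : Fintype (Cfsg.IrrCharacter X) := Fintype.ofFinite _
  obtain ⟨n, hn⟩ : ∃ n : ℕ, n = Nat.card X := ⟨_, rfl⟩
  haveI : NeZero n := by rw [hn]; exact ⟨Nat.card_pos.ne'⟩
  have habV : ∀ a ∈ V, ∀ b ∈ V, a * b = b * a := by
    intro a ha b hb
    have : a ∈ Subgroup.centralizer (V : Set X) := by rw [hself]; exact ha
    exact (Subgroup.mem_centralizer_iff.mp this b hb).symm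
  haveI : IsMulCommutative ↥V := ⟨⟨fun a b => Subtype.ext (habV a a.2 b b.2)⟩⟩
  haveI : IsMulCommutative ↥(G ⊓ Subgroup.centralizer ({v} : Set X)) :=
    ⟨⟨fun a b => Subtype.ext (hab a a.2 b b.2)⟩⟩
  haveI : Fintype ↥(G ⊓ Subgroup.centralizer ({v} : Set X)) := Fintype.ofFinite _
  have hVp : IsPGroup p V := fun g => ⟨1, by rw [pow_one]; exact Subtype.ext (hVexp g g.2)⟩
  have hGcard : Nat.card G = V.index := hGV.symm.index_eq_card.symm
  have hcopG : (Nat.card G).Coprime p := by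
    rw [hGcard, Nat.coprime_comm]
    exact (Nat.Prime.coprime_iff_not_dvd hp.out).mpr hidx
  have hcop : (Fintype.card ↥(G ⊓ Subgroup.centralizer ({v} : Set X))).Coprime
      (Nat.card ↥V) := by
    obtain ⟨m, hm⟩ := IsPGroup.iff_card.mp hVp
    rw [hm, ← Nat.card_eq_fintype_card]
    apply Nat.Coprime.pow_right
    exact Nat.Coprime.coprime_dvd_left (Subgroup.card_dvd_of_le inf_le_left) hcopG
  -- the kernel of the action is trivial
  have hker : kerOn (C := ↥(G ⊓ Subgroup.centralizer ({v} : Set X))) (⊤ : Subgroup ↥V) = ⊥ := by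
    rw [eq_bot_iff]
    intro c hc
    rw [mem_kerOn] at hc
    rw [Subgroup.mem_bot]
    have h1 : (c : X) ∈ Subgroup.centralizer (V : Set X) := by
      rw [Subgroup.mem_centralizer_iff]
      intro u hu
      have h2 := congrArg Subtype.val (hc ⟨u, hu⟩ (Subgroup.mem_top _))
      rw [conjAct_smul_coe] at h2
      calc u * (c : X) = ((c : X) * u * (c : X)⁻¹) * (c : X) := by rw [h2]
        _ = (c : X) * u := by group
    rw [hself] at h1
    have h3 : (c : X) ∈ V ⊓ G := ⟨h1, c.2.1⟩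
    rw [hGV.disjoint.eq_bot] at h3
    exact Subtype.ext (Subgroup.mem_bot.mp h3)
  have hInv : Inv ↥(G ⊓ Subgroup.centralizer ({v} : Set X)) (⊤ : Subgroup ↥V) :=
    fun _ _ _ => Subgroup.mem_top _
  obtain ⟨Ks, hKs, hw⟩ := chain_exists hcop _ (⊤ : Subgroup ↥V) rfl hInv
  have hK : kinf Ks = ⊥ := hKs.trans hker
  have hvn : v ^ n = 1 := by rw [hn]; exact pow_card_eq_one'
  -- the per-character bound
  have hper : ∀ χ : Cfsg.IrrCharacter X,
      (Fintype.card (ZMod n)ˣ : ℝ) *
        (Fintype.card ↥(G ⊓ Subgroup.centralizer ({v} : Set X)) : ℝ) *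
        (Fintype.card ↥(G ⊓ Subgroup.centralizer ({v} : Set X)) : ℝ) ≤
      ∑ k : (ZMod n)ˣ, ∑ c : ↥(G ⊓ Subgroup.centralizer ({v} : Set X)),
        wprod Ks c * ‖(χ : X → ℂ) (v ^ (k : ZMod n).val * (c : X))‖ ^ 2 := by
    intro χ
    have hne : ∃ k : (ZMod n)ˣ, (χ : X → ℂ) (v ^ (k : ZMod n).val) ≠ 0 :=
      ⟨1, irr_apply_ne_zero_of_abelian_sylow p V hVp hidx habV χ _ (V.pow_mem hv _)⟩
    exact per_character_concrete G v n hvn Ks hK (χ : X → ℂ) (IsIrrCharacter.isCharacter χ.2) hne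
  -- column orthogonality
  have hcol : ∀ y : X, ∑ χ : Cfsg.IrrCharacter X, ‖(χ : X → ℂ) y‖ ^ 2 =
      (Nat.card (Subgroup.centralizer ({y} : Set X)) : ℝ) := by
    intro y
    have h1 := column_orthogonality_aux y y
    rw [if_pos (IsConj.refl _)] at h1
    have h2 : ((∑ χ : Cfsg.IrrCharacter X, ‖(χ : X → ℂ) y‖ ^ 2 : ℝ) : ℂ) =
        ((Nat.card (Subgroup.centralizer ({y} : Set X)) : ℝ) : ℂ) := by
      rw [Complex.ofReal_natCast, ← h1, Complex.ofReal_sum]
      apply Finset.sum_congr rfl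
      intro χ _
      rw [Complex.mul_conj, Complex.normSq_eq_norm_sq]
    exact_mod_cast h2
  -- the bound for each term
  have hterm : ∀ (k : (ZMod n)ˣ) (c : ↥(G ⊓ Subgroup.centralizer ({v} : Set X))),
      wprod Ks c *
        (Nat.card (Subgroup.centralizer ({v ^ (k : ZMod n).val * (c : X)} : Set X)) : ℝ) ≤
      (Fintype.card ↥(G ⊓ Subgroup.centralizer ({v} : Set X)) : ℝ) * (Nat.card ↥V : ℝ) := by
    intro k c
    have hkc : Nat.Coprime (k : ZMod n).val (Nat.card X) := by
      rw [← hn]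
      exact ZMod.val_coe_unit_coprime k
    have h1 := card_centralizer_le p V G hGV hcopG hVexp v hv c _ hkc
    have h2 := hw c
    rw [top_inf_eq, Subgroup.card_top] at h2
    have h3 : (Nat.card (Subgroup.centralizer
        ({v ^ (k : ZMod n).val * (c : X)} : Set X)) : ℝ) ≤
        (Fintype.card ↥(G ⊓ Subgroup.centralizer ({v} : Set X)) : ℝ) *
          (Nat.card ↥(fixSub (V := ↥V) c) : ℝ) := by
      rw [Nat.card_eq_fintype_card (α := ↥(G ⊓ Subgroup.centralizer ({v} : Set X)))] at h1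
      exact_mod_cast h1
    calc wprod Ks c * (Nat.card (Subgroup.centralizer
          ({v ^ (k : ZMod n).val * (c : X)} : Set X)) : ℝ)
        ≤ wprod Ks c * ((Fintype.card ↥(G ⊓ Subgroup.centralizer ({v} : Set X)) : ℝ) *
          (Nat.card ↥(fixSub (V := ↥V) c) : ℝ)) :=
          mul_le_mul_of_nonneg_left h3 (wprod_nonneg Ks c)
      _ = (Fintype.card ↥(G ⊓ Subgroup.centralizer ({v} : Set X)) : ℝ) *
          ((Nat.card ↥(fixSub (V := ↥V) c) : ℝ) * wprod Ks c) := by ring
      _ ≤ (Fintype.card ↥(G ⊓ Subgroup.centralizer ({v} : Set X)) : ℝ) * (Nat.card ↥V : ℝ) :=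
          mul_le_mul_of_nonneg_left h2 (Nat.cast_nonneg _)
  -- the total
  have htot : (Fintype.card (Cfsg.IrrCharacter X) : ℝ) *
      ((Fintype.card (ZMod n)ˣ : ℝ) *
        (Fintype.card ↥(G ⊓ Subgroup.centralizer ({v} : Set X)) : ℝ) *
        (Fintype.card ↥(G ⊓ Subgroup.centralizer ({v} : Set X)) : ℝ)) ≤
      (Nat.card ↥V : ℝ) * ((Fintype.card (ZMod n)ˣ : ℝ) *
        (Fintype.card ↥(G ⊓ Subgroup.centralizer ({v} : Set X)) : ℝ) *
        (Fintype.card ↥(G ⊓ Subgroup.centralizer ({v} : Set X)) : ℝ)) := by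
    calc (Fintype.card (Cfsg.IrrCharacter X) : ℝ) *
      ((Fintype.card (ZMod n)ˣ : ℝ) *
        (Fintype.card ↥(G ⊓ Subgroup.centralizer ({v} : Set X)) : ℝ) *
        (Fintype.card ↥(G ⊓ Subgroup.centralizer ({v} : Set X)) : ℝ))
        = ∑ _χ : Cfsg.IrrCharacter X, ((Fintype.card (ZMod n)ˣ : ℝ) *
        (Fintype.card ↥(G ⊓ Subgroup.centralizer ({v} : Set X)) : ℝ) *
        (Fintype.card ↥(G ⊓ Subgroup.centralizer ({v} : Set X)) : ℝ)) := by
          rw [Finset.sum_const, Finset.card_univ, nsmul_eq_mul]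
      _ ≤ ∑ χ : Cfsg.IrrCharacter X, ∑ k : (ZMod n)ˣ,
          ∑ c : ↥(G ⊓ Subgroup.centralizer ({v} : Set X)),
            wprod Ks c * ‖(χ : X → ℂ) (v ^ (k : ZMod n).val * (c : X))‖ ^ 2 :=
          Finset.sum_le_sum (fun χ _ => hper χ)
      _ = ∑ k : (ZMod n)ˣ, ∑ c : ↥(G ⊓ Subgroup.centralizer ({v} : Set X)),
            wprod Ks c * ∑ χ : Cfsg.IrrCharacter X,
              ‖(χ : X → ℂ) (v ^ (k : ZMod n).val * (c : X))‖ ^ 2 := by
          rw [Finset.sum_comm]
          apply Finset.sum_congr rfl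
          intro k _
          rw [Finset.sum_comm]
          apply Finset.sum_congr rfl
          intro c _
          rw [Finset.mul_sum]
      _ = ∑ k : (ZMod n)ˣ, ∑ c : ↥(G ⊓ Subgroup.centralizer ({v} : Set X)),
            wprod Ks c * (Nat.card (Subgroup.centralizer
              ({v ^ (k : ZMod n).val * (c : X)} : Set X)) : ℝ) := by
          apply Finset.sum_congr rfl
          intro k _
          apply Finset.sum_congr rfl
          intro c _
          rw [hcol]
      _ ≤ ∑ _k : (ZMod n)ˣ, ∑ _c : ↥(G ⊓ Subgroup.centralizer ({v} : Set X)),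
            (Fintype.card ↥(G ⊓ Subgroup.centralizer ({v} : Set X)) : ℝ) * (Nat.card ↥V : ℝ) :=
          Finset.sum_le_sum (fun k _ => Finset.sum_le_sum (fun c _ => hterm k c))
      _ = (Nat.card ↥V : ℝ) * ((Fintype.card (ZMod n)ˣ : ℝ) *
        (Fintype.card ↥(G ⊓ Subgroup.centralizer ({v} : Set X)) : ℝ) *
        (Fintype.card ↥(G ⊓ Subgroup.centralizer ({v} : Set X)) : ℝ)) := by
          simp only [Finset.sum_const, Finset.card_univ, nsmul_eq_mul]
          ring
  have hpos : (0 : ℝ) < (Fintype.card (ZMod n)ˣ : ℝ) *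
        (Fintype.card ↥(G ⊓ Subgroup.centralizer ({v} : Set X)) : ℝ) *
        (Fintype.card ↥(G ⊓ Subgroup.centralizer ({v} : Set X)) : ℝ) := by
    have h1 : 0 < Fintype.card (ZMod n)ˣ := Fintype.card_pos
    have h2 : 0 < Fintype.card ↥(G ⊓ Subgroup.centralizer ({v} : Set X)) := Fintype.card_pos
    have h1' : (0 : ℝ) < (Fintype.card (ZMod n)ˣ : ℝ) := by exact_mod_cast h1
    have h2' : (0 : ℝ) < (Fintype.card ↥(G ⊓ Subgroup.centralizer ({v} : Set X)) : ℝ) := by
      exact_mod_cast h2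
    positivity
  have hfin : (Fintype.card (Cfsg.IrrCharacter X) : ℝ) ≤ (Nat.card ↥V : ℝ) :=
    le_of_mul_le_mul_right htot hpos
  rw [← card_irr_eq_card_conjClasses, Nat.card_eq_fintype_card]
  exact_mod_cast hfin

end Concrete

end Cfsg.Agent.Helper6.Knorr
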