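import Mathlib
import Cfsg.Agent.Helper6.KuDefs

/-!
# K6: a local symmetric corner with centre of dimension at most two has dimension at most two
-/

set_option autoImplicit false

namespace Cfsg.Agent.Helper6.Ku

variable {F : Type*} [Field F] {A : Type*} [Ring A] [Algebra F A]

/-- the radical part of the corner -/
def h6_J0 (J : Ideal A) (i : A) : Submodule F A := corner F i ⊓ J.restrictScalars F

theorem h6_mem_J0 {J : Ideal A} {i a : A} :
    a ∈ h6_J0 (F := F) J i ↔ (i * a = a ∧ a * i = a) ∧ a ∈ J := by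
  unfold h6_J0
  rw [Submodule.mem_inf, mem_corner, Submodule.restrictScalars_mem]

/-- the corner decomposes as `F i + J0` -/
theorem h6_decomp (J : Ideal A) (i : A) (hi : IsIdempotentElem i)
    (hloc : ∀ x : A, ∃ t : F, i * x * i - t • i ∈ J) {a : A} (ha : a ∈ corner F i) :
    ∃ t : F, ∃ y ∈ h6_J0 (F := F) J i, a = t • i + y := by
  obtain ⟨t, ht⟩ := hloc a
  have hai : i * a * i = a := by rw [ha.1, ha.2]
  rw [hai] at ht
  refine ⟨t, a - t • i, ?_, by abel⟩
  rw [h6_mem_J0]
  refine ⟨⟨?_, ?_⟩, ht⟩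
  · rw [mul_sub, ha.1, mul_smul_comm, hi.eq]
  · rw [sub_mul, ha.2, smul_mul_assoc, hi.eq]

/-- if `J0` is commutative then the corner is commutative -/
theorem h6_corner_le_center (J : Ideal A) (i : A) (hi : IsIdempotentElem i)
    (hloc : ∀ x : A, ∃ t : F, i * x * i - t • i ∈ J)
    (hcomm : ∀ y ∈ h6_J0 (F := F) J i, ∀ y' ∈ h6_J0 (F := F) J i, y * y' = y' * y) :
    corner F i ≤ cornerCenter F i := by
  intro a ha
  rw [mem_cornerCenter]
  refine ⟨ha, ?_⟩
  intro x hx1 hx2
  obtain ⟨t, y, hy, rfl⟩ := h6_decomp J i hi hloc ha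
  obtain ⟨s, y', hy', rfl⟩ := h6_decomp J i hi hloc (a := x) ⟨hx1, hx2⟩
  rw [h6_mem_J0] at hy hy'
  have h1 := hcomm y (h6_mem_J0.mpr hy) y' (h6_mem_J0.mpr hy')
  simp only [add_mul, mul_add, smul_mul_assoc, mul_smul_comm, hi.eq, hy.1.1, hy.1.2, hy'.1.1,
    hy'.1.2, h1, smul_add, smul_smul]
  rw [mul_comm s t]
  abel

/-- the span of the commutators of the corner -/
def h6_C (i : A) : Submodule F A :=
  Submodule.span F {c | ∃ a ∈ corner F i, ∃ b ∈ corner F i, c = a * b - b * a}

/-- key dimension inequality from the symmetrizing form -/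
theorem h6_finrank_corner_le [FiniteDimensional F A] (lam : A →ₗ[F] F) (hlam : IsSymForm F lam)
    (i : A) (hi : IsIdempotentElem i) :
    Module.finrank F (corner F i) ≤
      Module.finrank F (cornerCenter F i) + Module.finrank F (h6_C (F := F) i) := by
  -- the map a ↦ (c ↦ lam (a * c)) from the corner to the dual of C
  let Φ : corner F i →ₗ[F] Module.Dual F (h6_C (F := F) i) :=
    { toFun := fun a =>
        { toFun := fun c => lam ((a : A) * (c : A))
          map_add' := fun c c' => by simp [mul_add]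
          map_smul' := fun r c => by simp }
      map_add' := fun a a' => by
        ext c
        simp [add_mul]
      map_smul' := fun r a => by
        ext c
        simp }
  have hker : ∀ a : corner F i, Φ a = 0 → (a : A) ∈ cornerCenter F i := by
    intro a ha
    rw [mem_cornerCenter]
    refine ⟨a.2, ?_⟩
    intro x hx1 hx2
    have hxA : x ∈ corner F i := ⟨hx1, hx2⟩
    have hd : (a : A) * x - x * a = 0 := by
      apply hlam.nondeg
      intro b
      -- reduce to b in the corner
      have hda1 : i * ((a : A) * x - x * a) = (a : A) * x - x * a := by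
        rw [mul_sub, ← mul_assoc, ← mul_assoc, a.2.1, hx1]
      have h1 : lam (((a : A) * x - x * a) * b) = lam (((a : A) * x - x * a) * (i * b * i)) := by
        have e1 : ((a : A) * x - x * a) * (i * b * i) = (((a : A) * x - x * a) * i * b) * i := by
          simp only [mul_assoc]
        have e2 : ((a : A) * x - x * a) * i = (a : A) * x - x * a := by
          rw [sub_mul, mul_assoc, mul_assoc, hx2, a.2.2]
        rw [e1, e2, hlam.symm (((a : A) * x - x * a) * b) i, ← mul_assoc, hda1]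
      rw [h1]
      set b' := i * b * i with hb'
      have hb'c : b' ∈ corner F i := by
        constructor
        · rw [hb', ← mul_assoc, ← mul_assoc, hi.eq]
        · rw [hb', mul_assoc, hi.eq]
      have hc : x * b' - b' * x ∈ h6_C (F := F) i :=
        Submodule.subset_span ⟨x, hxA, b', hb'c, rfl⟩
      have h2 : Φ a ⟨_, hc⟩ = 0 := by rw [ha]; rfl
      change lam ((a : A) * (x * b' - b' * x)) = 0 at h2
      have h3 : lam ((x * (a : A)) * b') = lam ((a : A) * (b' * x)) := by
        rw [mul_assoc, hlam.symm, mul_assoc]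
      rw [sub_mul, map_sub, h3, ← map_sub, mul_assoc, ← mul_sub]
      exact h2
    exact sub_eq_zero.mp hd
  -- rank-nullity
  have h1 := LinearMap.finrank_range_add_finrank_ker Φ
  have h2 : Module.finrank F (LinearMap.range Φ) ≤ Module.finrank F (h6_C (F := F) i) := by
    calc Module.finrank F (LinearMap.range Φ) ≤ Module.finrank F (Module.Dual F (h6_C (F := F) i)) :=
          Submodule.finrank_le _
      _ = Module.finrank F (h6_C (F := F) i) := Subspace.dual_finrank_eq
  have h3 : Module.finrank F (LinearMap.ker Φ) ≤ Module.finrank F (cornerCenter F i) := by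
    let Ψ : LinearMap.ker Φ →ₗ[F] cornerCenter F i :=
      { toFun := fun a => ⟨((a : corner F i) : A), hker a.1 a.2⟩
        map_add' := fun a a' => rfl
        map_smul' := fun r a => rfl }
    apply LinearMap.finrank_le_finrank_of_injective (f := Ψ)
    intro a a' haa
    apply Subtype.ext
    apply Subtype.ext
    exact congrArg (fun z : cornerCenter F i => (z : A)) haa
  omega


/-- `J0` is closed under multiplication -/
theorem h6_J0_mul_le (J : Ideal A) [J.IsTwoSided] (i : A) :
    h6_J0 (F := F) J i * h6_J0 (F := F) J i ≤ h6_J0 (F := F) J i := by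
  rw [Submodule.mul_le]
  intro a ha b hb
  rw [h6_mem_J0] at ha hb ⊢
  refine ⟨⟨?_, ?_⟩, J.mul_mem_left a hb.2⟩
  · rw [← mul_assoc, ha.1.1]
  · rw [mul_assoc, hb.1.2]

/-- the commutators of the corner lie in `J0 * J0` -/
theorem h6_C_le (J : Ideal A) (i : A) (hi : IsIdempotentElem i)
    (hloc : ∀ x : A, ∃ t : F, i * x * i - t • i ∈ J) :
    h6_C (F := F) i ≤ h6_J0 (F := F) J i * h6_J0 (F := F) J i := by
  unfold h6_C
  rw [Submodule.span_le]
  rintro c ⟨a, ha, b, hb, rfl⟩
  obtain ⟨t, y, hy, rfl⟩ := h6_decomp J i hi hloc ha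
  obtain ⟨s, y', hy', rfl⟩ := h6_decomp J i hi hloc hb
  have hy0 := h6_mem_J0.mp hy
  have hy0' := h6_mem_J0.mp hy'
  have e : (t • i + y) * (s • i + y') - (s • i + y') * (t • i + y) = y * y' - y' * y := by
    simp only [add_mul, mul_add, smul_mul_assoc, mul_smul_comm, hi.eq, hy0.1.1, hy0.1.2,
      hy0'.1.1, hy0'.1.2, smul_add, smul_smul]
    rw [mul_comm s t]
    abel
  rw [e]
  exact Submodule.sub_mem _ (Submodule.mul_mem_mul hy hy') (Submodule.mul_mem_mul hy' hy)

/-- powers of `J0` decrease -/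
theorem h6_pow_succ_le (J : Ideal A) [J.IsTwoSided] (i : A) (m : ℕ) (hm : 1 ≤ m) :
    h6_J0 (F := F) J i ^ (m + 1) ≤ h6_J0 (F := F) J i ^ m := by
  obtain ⟨k, rfl⟩ : ∃ k, m = k + 1 := ⟨m - 1, by omega⟩
  rw [pow_succ (h6_J0 (F := F) J i) (k + 1), pow_succ (h6_J0 (F := F) J i) k, mul_assoc]
  exact mul_le_mul' le_rfl (h6_J0_mul_le J i)

/-- the key induction: `J0 ^ m ≤ X ^ m ⊔ J0 ^ (m+1)` -/
theorem h6_pow_le (J : Ideal A) [J.IsTwoSided] (i x : A) (hx : x ∈ h6_J0 (F := F) J i)
    (h : h6_J0 (F := F) J i ≤ Submodule.span F {x} ⊔ h6_J0 (F := F) J i ^ 2) (m : ℕ) (hm : 1 ≤ m) :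
    h6_J0 (F := F) J i ^ m ≤ Submodule.span F {x} ^ m ⊔ h6_J0 (F := F) J i ^ (m + 1) := by
  set 𝔍 := h6_J0 (F := F) J i with h𝔍
  set X : Submodule F A := Submodule.span F {x} with hX
  have hXJ : X ≤ 𝔍 := by
    rw [hX, Submodule.span_le]
    intro z hz
    rw [Set.mem_singleton_iff.mp hz]
    exact hx
  induction m, hm using Nat.le_induction with
  | base => simpa using h
  | succ m hm ih =>
    have hXm : X ^ m ≤ 𝔍 ^ m := pow_le_pow_left' hXJ m
    calc 𝔍 ^ (m + 1) = 𝔍 ^ m * 𝔍 := pow_succ _ _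
      _ ≤ (X ^ m ⊔ 𝔍 ^ (m + 1)) * (X ⊔ 𝔍 ^ 2) := mul_le_mul' ih h
      _ = X ^ m * X ⊔ X ^ m * 𝔍 ^ 2 ⊔ (𝔍 ^ (m + 1) * X ⊔ 𝔍 ^ (m + 1) * 𝔍 ^ 2) := by
          rw [Submodule.sup_mul, Submodule.mul_sup, Submodule.mul_sup]
      _ ≤ X ^ (m + 1) ⊔ 𝔍 ^ (m + 1 + 1) := by
          apply sup_le
          · apply sup_le
            · rw [← pow_succ]
              exact le_sup_left
            · refine le_trans ?_ le_sup_right
              calc X ^ m * 𝔍 ^ 2 ≤ 𝔍 ^ m * 𝔍 ^ 2 := mul_le_mul' hXm le_rfl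
                _ = 𝔍 ^ (m + 1 + 1) := by rw [← pow_add]
          · apply sup_le
            · refine le_trans ?_ le_sup_right
              calc 𝔍 ^ (m + 1) * X ≤ 𝔍 ^ (m + 1) * 𝔍 := mul_le_mul' le_rfl hXJ
                _ = 𝔍 ^ (m + 1 + 1) := (pow_succ _ _).symm
            · refine le_trans ?_ le_sup_right
              calc 𝔍 ^ (m + 1) * 𝔍 ^ 2 = 𝔍 ^ (m + 1 + 1 + 1) := by rw [← pow_add]
                _ ≤ 𝔍 ^ (m + 1 + 1) := h6_pow_succ_le J i (m + 1 + 1) (by omega)

/-- consequently `J0 ≤ P ⊔ J0 ^ m` for the subalgebra `P` generated by `x` -/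
theorem h6_le_adjoin_sup (J : Ideal A) [J.IsTwoSided] (i x : A) (hx : x ∈ h6_J0 (F := F) J i)
    (h : h6_J0 (F := F) J i ≤ Submodule.span F {x} ⊔ h6_J0 (F := F) J i ^ 2) (m : ℕ) (hm : 1 ≤ m) :
    h6_J0 (F := F) J i ≤
      Subalgebra.toSubmodule (Algebra.adjoin F {x}) ⊔ h6_J0 (F := F) J i ^ m := by
  set 𝔍 := h6_J0 (F := F) J i with h𝔍
  set X : Submodule F A := Submodule.span F {x} with hX
  set P : Submodule F A := Subalgebra.toSubmodule (Algebra.adjoin F {x}) with hP
  have hXP : ∀ k : ℕ, X ^ k ≤ P := by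
    intro k
    have hXP1 : X ≤ P := by
      rw [hX, Submodule.span_le]
      intro z hz
      rw [Set.mem_singleton_iff.mp hz]
      exact Algebra.subset_adjoin (Set.mem_singleton x)
    calc X ^ k ≤ P ^ k := pow_le_pow_left' hXP1 k
      _ ≤ P := by
          rw [hP]
          induction k with
          | zero =>
            rw [pow_zero, Submodule.one_le]
            exact (Algebra.adjoin F {x}).one_mem
          | succ k ihk =>
            rw [pow_succ]
            calc Subalgebra.toSubmodule (Algebra.adjoin F {x}) ^ k *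
                  Subalgebra.toSubmodule (Algebra.adjoin F {x})
                ≤ Subalgebra.toSubmodule (Algebra.adjoin F {x}) *
                  Subalgebra.toSubmodule (Algebra.adjoin F {x}) := mul_le_mul' ihk le_rfl
              _ ≤ Subalgebra.toSubmodule (Algebra.adjoin F {x}) := by
                  rw [Submodule.mul_le]
                  intro a ha b hb
                  exact (Algebra.adjoin F {x}).mul_mem ha hb
  induction m, hm using Nat.le_induction with
  | base =>
    rw [pow_one]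
    exact le_sup_right
  | succ m hm ih =>
    calc 𝔍 ≤ P ⊔ 𝔍 ^ m := ih
      _ ≤ P ⊔ (X ^ m ⊔ 𝔍 ^ (m + 1)) := sup_le_sup_left (h6_pow_le J i x hx h m hm) _
      _ ≤ P ⊔ 𝔍 ^ (m + 1) := by
          apply sup_le le_sup_left
          exact sup_le (le_trans (hXP m) le_sup_left) le_sup_right


/-- elements of the subalgebra generated by one element commute -/
theorem h6_adjoin_comm (x : A) {a b : A} (ha : a ∈ Algebra.adjoin F {x})
    (hb : b ∈ Algebra.adjoin F {x}) : a * b = b * a := by
  have : IsMulCommutative (Algebra.adjoin F ({x} : Set A)) :=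
    Algebra.isMulCommutative_adjoin F (by
      intro y hy z hz
      rw [Set.mem_singleton_iff.mp hy, Set.mem_singleton_iff.mp hz])
  have h := mul_comm' (⟨a, ha⟩ : Algebra.adjoin F ({x} : Set A)) ⟨b, hb⟩
  exact congrArg Subtype.val h

/-- **K6**: a local symmetric corner whose centre has dimension at most two has dimension at most
two -/
theorem finrank_corner_le_two [FiniteDimensional F A] (lam : A →ₗ[F] F) (hlam : IsSymForm F lam)
    (J : Ideal A) [J.IsTwoSided]
    (hJ : ∃ N : ℕ, ∀ f : Fin N → A, (∀ k, f k ∈ J) → (List.ofFn f).prod = 0)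
    (i : A) (hi : IsIdempotentElem i) (hloc : ∀ x : A, ∃ t : F, i * x * i - t • i ∈ J)
    (hZ : Module.finrank F (cornerCenter F i) ≤ 2) :
    Module.finrank F (corner F i) ≤ 2 := by
  classical
  set 𝔍 := h6_J0 (F := F) J i with h𝔍
  obtain ⟨N, hN⟩ := hJ
  -- nilpotency of `J0`
  have hpowN : 𝔍 ^ N = ⊥ := by
    rw [Submodule.pow_eq_span_pow_set, Submodule.span_eq_bot]
    intro z hz
    rw [Set.mem_pow] at hz
    obtain ⟨f, rfl⟩ := hz
    apply hN
    intro k
    exact (h6_mem_J0.mp (f k).2).2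
  have hpow : 𝔍 ^ (N + 1) = ⊥ := by rw [pow_succ, hpowN, Submodule.bot_mul]
  by_cases hi0 : i = 0
  · have : corner F i = ⊥ := by
      rw [eq_bot_iff]
      intro a ha
      rw [Submodule.mem_bot, ← ha.1, hi0, zero_mul]
    rw [this, finrank_bot]
    omega
  -- `i ∉ J`
  have hiJ : i ∉ J := by
    intro hiJ
    have h1 := hN (fun _ => i) (fun _ => hiJ)
    rw [List.ofFn_const, List.prod_replicate] at h1
    rcases Nat.eq_zero_or_pos N with rfl | hNpos
    · rw [pow_zero] at h1
      apply hi0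
      rw [← mul_one i, h1, mul_zero]
    · obtain ⟨k, rfl⟩ : ∃ k, N = k + 1 := ⟨N - 1, by omega⟩
      rw [hi.pow_succ_eq] at h1
      exact hi0 h1
  -- dimension of the corner
  have hicorner : i ∈ corner F i := ⟨hi.eq, hi.eq⟩
  have hJ0corner : 𝔍 ≤ corner F i := inf_le_left
  have hdisj : Submodule.span F {i} ⊓ 𝔍 = ⊥ := by
    rw [eq_bot_iff]
    intro z hz
    rw [Submodule.mem_inf, Submodule.mem_span_singleton] at hz
    obtain ⟨⟨t, rfl⟩, h2⟩ := hz
    rw [Submodule.mem_bot]
    by_contra hne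
    have ht : t ≠ 0 := by
      rintro rfl
      exact hne (zero_smul _ _)
    apply hiJ
    have := J.smul_mem (algebraMap F A t⁻¹) (h6_mem_J0.mp h2).2
    rwa [smul_eq_mul, ← Algebra.smul_def, smul_smul, inv_mul_cancel₀ ht, one_smul] at this
  have hdim1 : 1 + Module.finrank F 𝔍 ≤ Module.finrank F (corner F i) := by
    have h1 := Submodule.finrank_sup_add_finrank_inf_eq (Submodule.span F {i}) 𝔍
    rw [hdisj, finrank_bot, add_zero, finrank_span_singleton hi0] at h1
    have h2 : Submodule.span F {i} ⊔ 𝔍 ≤ corner F i := by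
      apply sup_le _ hJ0corner
      rw [Submodule.span_le]
      intro z hz
      rw [Set.mem_singleton_iff.mp hz]
      exact hicorner
    have h3 := Submodule.finrank_mono h2
    omega
  have hdim2 := h6_finrank_corner_le lam hlam i hi
  have hdim3 : Module.finrank F (h6_C (F := F) i) ≤ Module.finrank F ↥(𝔍 ^ 2) := by
    apply Submodule.finrank_mono
    rw [pow_two]
    exact h6_C_le J i hi hloc
  have hsq_le : 𝔍 ^ 2 ≤ 𝔍 := by
    rw [pow_two]
    exact h6_J0_mul_le J i
  have hcodim : Module.finrank F 𝔍 ≤ Module.finrank F ↥(𝔍 ^ 2) + 1 := by omega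
  -- choice of `x`
  obtain ⟨x, hx, hxgen⟩ : ∃ x ∈ 𝔍, 𝔍 ≤ Submodule.span F {x} ⊔ 𝔍 ^ 2 := by
    by_cases hle : 𝔍 ≤ 𝔍 ^ 2
    · exact ⟨0, 𝔍.zero_mem, le_trans hle le_sup_right⟩
    · obtain ⟨x, hx, hx2⟩ := SetLike.not_le_iff_exists.mp hle
      refine ⟨x, hx, ?_⟩
      have hx0 : x ≠ 0 := by
        rintro rfl
        exact hx2 (Submodule.zero_mem _)
      have hd : Submodule.span F {x} ⊓ 𝔍 ^ 2 = ⊥ := by
        rw [eq_bot_iff]
        intro z hz
        rw [Submodule.mem_inf, Submodule.mem_span_singleton] at hz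
        obtain ⟨⟨t, rfl⟩, h2⟩ := hz
        rw [Submodule.mem_bot]
        by_contra hne
        have ht : t ≠ 0 := by
          rintro rfl
          exact hne (zero_smul _ _)
        apply hx2
        have := (𝔍 ^ 2).smul_mem t⁻¹ h2
        rwa [smul_smul, inv_mul_cancel₀ ht, one_smul] at this
      have h1 := Submodule.finrank_sup_add_finrank_inf_eq (Submodule.span F {x}) (𝔍 ^ 2)
      rw [hd, finrank_bot, add_zero, finrank_span_singleton hx0] at h1
      have h2 : Submodule.span F {x} ⊔ 𝔍 ^ 2 ≤ 𝔍 := by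
        apply sup_le _ hsq_le
        rw [Submodule.span_le]
        intro z hz
        rw [Set.mem_singleton_iff.mp hz]
        exact hx
      have h3 : Submodule.span F {x} ⊔ 𝔍 ^ 2 = 𝔍 :=
        Submodule.eq_of_le_of_finrank_le h2 (by omega)
      rw [h3]
  -- `J0` lies in the subalgebra generated by `x`
  have hJP : 𝔍 ≤ Subalgebra.toSubmodule (Algebra.adjoin F {x}) := by
    have := h6_le_adjoin_sup J i x hx hxgen (N + 1) (by omega)
    rwa [hpow, sup_bot_eq] at this
  -- commutativity
  have hcomm : ∀ y ∈ 𝔍, ∀ y' ∈ 𝔍, y * y' = y' * y := by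
    intro y hy y' hy'
    exact h6_adjoin_comm x (hJP hy) (hJP hy')
  have hle := h6_corner_le_center J i hi hloc hcomm
  exact le_trans (Submodule.finrank_mono hle) hZ

end Cfsg.Agent.Helper6.Ku
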