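import Mathlib
import Cfsg.Agent.Helper6.KuDefs
import Cfsg.Agent.Helper6.CovPrim
import Cfsg.Agent.Helper6.CovFinal
import Cfsg.Agent.Helper6.DegSqC
import Cfsg.Agent.Helper6.DefectOneTwoD
import Cfsg.Agent.Helper6.RankDefect
import Cfsg.Agent.Helper6.DefectOrder
import Cfsg.Agent.Helper6.Ku_CornerLe
import Cfsg.Agent.Lead.Ku_FinrankEq
import Cfsg.Agent.Lead.Ku_Fres
import Cfsg.Agent.Helper8.Ku_MatrixQuotient
import Cfsg.Agent.Helper8.Ku_LeftIdealRed
import Cfsg.Agent.Helper9.Ku_MatUnits
import Cfsg.Agent.Helper9.Ku_Under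
import Cfsg.Agent.Helper3.Ku_CornerCenter
import Cfsg.Agent.Helper3.Ku_CenterUnder
import Cfsg.Agent.Helper1.Ku_G2b
import Cfsg.Agent.Helper5.Ku_G4

/-!
# S4607: a block has exactly two irreducible characters iff its defect groups have order two

Assembly of the pieces (see `notes/S4607_blueprint_helper6.md`).
-/

set_option autoImplicit false
set_option linter.style.haveILetI false

namespace Cfsg.Agent.Helper6.Ku

open Cfsg.Agent.Helper6 Cfsg.Agent.Helper6.Cov

section pure

variable {F : Type*} [Field F] {A : Type*} [Ring A] [Algebra F A]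

theorem h6_prod_mem_pow (J : Ideal A) [J.IsTwoSided] : ∀ (N : ℕ) (f : Fin N → A),
    (∀ k, f k ∈ J) → (List.ofFn f).prod ∈ J ^ N := by
  intro N
  induction N with
  | zero =>
    intro f _
    rw [Submodule.pow_zero, Ideal.one_eq_top]
    exact Submodule.mem_top
  | succ n ih =>
    intro f hf
    rw [List.ofFn_succ, List.prod_cons, Ideal.IsTwoSided.pow_succ]
    exact Ideal.mul_mem_mul (hf 0) (ih (fun k => f k.succ) (fun k => hf k.succ))

/-- K0: nilpotency of the radical in elementary form -/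
theorem jacobson_prod_eq_zero [FiniteDimensional F A] :
    (∀ x ∈ Ring.jacobson A, IsNilpotent x) ∧
    ∃ N : ℕ, ∀ f : Fin N → A, (∀ k, f k ∈ Ring.jacobson A) → (List.ofFn f).prod = 0 := by
  have : IsArtinianRing A := IsArtinianRing.of_finite F A
  obtain ⟨N, hN⟩ := IsSemiprimaryRing.isNilpotent (R := A)
  have key : ∀ f : Fin N → A, (∀ k, f k ∈ Ring.jacobson A) → (List.ofFn f).prod = 0 := by
    intro f hf
    have := h6_prod_mem_pow (Ring.jacobson A) N f hf
    rw [hN] at this
    exact this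
  refine ⟨?_, N, key⟩
  intro x hx
  refine ⟨N, ?_⟩
  have := key (fun _ => x) (fun _ => hx)
  rwa [List.ofFn_const, List.prod_replicate] at this

/-- K7: structure of a symmetric algebra with small centre -/
theorem ku_structure [IsAlgClosed F] [FiniteDimensional F A] [Nontrivial A]
    (lam : A →ₗ[F] F) (hlam : IsSymForm F lam)
    (hprim : ∀ e : A, IsIdempotentElem e → (∀ x : A, e * x = x * e) → e = 0 ∨ e = 1)
    (hZ : Module.finrank F (Subalgebra.center F A) ≤ 2) :
    ∃ (n c : ℕ) (i : A), IsIdempotentElem i ∧ c ≤ 2 ∧ Module.finrank F A = n ^ 2 * c ∧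
      Module.finrank F (leftIdeal F i) = n * c := by
  obtain ⟨n, hn, ⟨φ⟩⟩ := exists_matrix_quotient lam hlam hprim hZ
  obtain ⟨hnil, hprod⟩ := jacobson_prod_eq_zero (F := F) (A := A)
  obtain ⟨i, e, u, v, hmu⟩ := exists_matUnits (Ring.jacobson A) hnil n hn φ
  obtain ⟨h1, h2⟩ := hmu.finrank_eq
  have h3 := hmu.finrank_cornerCenter_le
  have h4 := finrank_corner_le_two lam hlam (Ring.jacobson A) hprod i hmu.idem hmu.loc
    (h3.trans hZ)
  exact ⟨n, _, i, hmu.idem, h4, h1, h2⟩

end pure

section ga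

/-- the coefficient-at-one form on a group algebra -/
noncomputable def gaLam (F : Type*) [Field F] (G : Type*) [Group G] :
    MonoidAlgebra F G →ₗ[F] F where
  toFun x := x.coeff 1
  map_add' x y := by simp
  map_smul' c x := by simp

theorem gaLam_apply (F : Type*) [Field F] (G : Type*) [Group G] (x : MonoidAlgebra F G) :
    gaLam F G x = x.coeff 1 := rfl

/-- G1 -/
theorem gaLam_isSymForm (F : Type*) [Field F] (G : Type*) [Group G] :
    IsSymForm F (gaLam F G) := by
  classical
  constructor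
  · intro a b
    rw [gaLam_apply, gaLam_apply, MonoidAlgebra.coeff_mul_apply_left,
      MonoidAlgebra.coeff_mul_apply_right]
    simp only [mul_one, one_mul]
    -- both sides are `∑ g, a g * b g⁻¹`
    rw [Finsupp.sum, Finsupp.sum]
    have h1 : ∑ g ∈ a.coeff.support, a.coeff g * b.coeff g⁻¹ =
        ∑ g ∈ a.coeff.support ∪ b.coeff.support.image (fun g => g⁻¹),
          a.coeff g * b.coeff g⁻¹ := by
      apply Finset.sum_subset Finset.subset_union_left
      intro g _ hg
      rw [Finsupp.notMem_support_iff.mp hg, zero_mul]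
    have h2 : ∑ g ∈ a.coeff.support, b.coeff g⁻¹ * a.coeff g =
        ∑ g ∈ a.coeff.support ∪ b.coeff.support.image (fun g => g⁻¹),
          b.coeff g⁻¹ * a.coeff g := by
      apply Finset.sum_subset Finset.subset_union_left
      intro g _ hg
      rw [Finsupp.notMem_support_iff.mp hg, mul_zero]
    rw [h1, h2]
    apply Finset.sum_congr rfl
    intro g _
    rw [mul_comm]
  · intro a ha
    apply cov_ext
    intro g
    have := ha (MonoidAlgebra.single g⁻¹ 1)
    rw [gaLam_apply, MonoidAlgebra.coeff_mul_single_apply, mul_one, inv_inv, one_mul] at this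
    rw [this]
    simp


universe u
variable {G : Type u} [Group G] {M : Ideal Cfsg.AlgInt}

/-- the reduced block idempotent is not zero -/
theorem gaRed_blockIdem_ne_zero [Fintype G] (hM : M.IsMaximal) (B : Set (Cfsg.IrrCharacter G))
    (hB : Cfsg.IsPBlock M B) (E : MonoidAlgebra (Rloc hM) G)
    (hE : gaEmb hM G E = gaOfFun (Cfsg.blockCoeff B)) : gaRed hM G E ≠ 0 := by
  classical
  intro h0
  obtain ⟨χ₀, hχ₀⟩ := hB
  have hχ₀B : χ₀ ∈ B := by rw [hχ₀]; exact mem_blockOf_self hM χ₀
  have h1 := (gaRed_eq_zero_iff hM E).mp h0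
  have hcf : Cfsg.IsClassFunction G (fun h => (gaEmb hM G E).coeff h) := by
    rw [hE]
    intro k g
    simp only [gaOfFun_coeff]
    exact blockCoeff_isClassFunction B k g
  have h2 := classVec_memLocalIdeal hM _ hcf h1 χ₀
  rw [← gaPair_div_eq_classVec, hE, gaPair_blockIdem, if_pos hχ₀B,
    div_self (IsIrrCharacter.apply_one_ne_zero χ₀.2)] at h2
  exact not_memLocalIdeal_one h2

/-- numeric core -/
theorem numeric_core {p a d n c S : ℕ} (hp : p.Prime) (hd : 0 < d) (hda : d ≤ 2 * a)
    (hc : c ≤ 2) (hS : S = n ^ 2 * c) (hS0 : S ≠ 0) (hval : S.factorization p = 2 * a - d)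
    (hdvd : p ^ a ∣ n * c) : p = 2 ∧ d = 1 := by
  have hn0 : n ≠ 0 := by
    rintro rfl
    apply hS0
    rw [hS]
    simp
  have hc0 : c ≠ 0 := by
    rintro rfl
    apply hS0
    rw [hS]
    simp
  have h1 : a ≤ (n * c).factorization p :=
    (hp.pow_dvd_iff_le_factorization (Nat.mul_ne_zero hn0 hc0)).mp hdvd
  rw [Nat.factorization_mul hn0 hc0, Finsupp.add_apply] at h1
  have h2 : S.factorization p = 2 * n.factorization p + c.factorization p := by
    rw [hS, Nat.factorization_mul (pow_ne_zero 2 hn0) hc0, Nat.factorization_pow]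
    simp
  have hc12 : c = 1 ∨ c = 2 := by omega
  rcases hc12 with rfl | rfl
  · simp at h1 h2
    omega
  · by_cases hp2 : p = 2
    · subst hp2
      have : (2 : ℕ).factorization 2 = 1 := by
        simpa using Nat.Prime.factorization_self Nat.prime_two
      rw [this] at h1 h2
      refine ⟨rfl, ?_⟩
      omega
    · have : (2 : ℕ).factorization p = 0 := by
        apply Nat.factorization_eq_zero_of_not_dvd
        intro h
        exact hp2 ((Nat.prime_dvd_prime_iff_eq hp Nat.prime_two).mp h)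
      rw [this] at h1 h2
      omega

/-- **Brandt**: a block with exactly two irreducible characters is a `2`-block of defect one -/
theorem defect_of_card_two [Fintype G] {p : ℕ} [hp : Fact p.Prime] (hM : Cfsg.IsPModular p M)
    (B : Set (Cfsg.IrrCharacter G)) (hB : Cfsg.IsPBlock M B) (h2 : Nat.card B = 2) :
    p = 2 ∧ Cfsg.blockDefect p B = 1 := by
  classical
  have hMm : M.IsMaximal := hM.2.1
  haveI : Finite (Cfsg.IrrCharacter G) := irr_finite
  -- the idempotent
  set eB : MonoidAlgebra ℂ G := gaOfFun (Cfsg.blockCoeff B) with heB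
  have hBloc : GaLoc M eB := fun g => by
    rw [heB, gaOfFun_coeff]
    exact memLocalRing_blockCoeff_of_closed hMm B (isPBlock_closed hMm B hB) g
  have heBc : ∀ w : MonoidAlgebra ℂ G, Commute eB w :=
    gaOfFun_commute (blockCoeff_isClassFunction B)
  have heBi : eB * eB = eB := gaOfFun_blockCoeff_idem B
  set EB : MonoidAlgebra (Rloc hMm) G := gaLift hMm eB hBloc with hEB
  have hEBe : gaEmb hMm G EB = eB := gaEmb_gaLift hMm eB hBloc
  have hEBi : EB * EB = EB := by
    apply gaEmb_injective hMm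
    rw [map_mul, hEBe, heBi]
  have hEBc : ∀ w : MonoidAlgebra (Rloc hMm) G, Commute EB w := by
    intro w
    apply gaEmb_injective hMm
    rw [map_mul, map_mul, hEBe]
    exact (heBc _).eq
  set ε : MonoidAlgebra (Fres hMm) G := gaRed hMm G EB with hε
  have h1 : IsIdempotentElem ε := by
    unfold IsIdempotentElem
    rw [hε, ← map_mul, hEBi]
  have h2' : ∀ z, ε * z = z * ε := by
    intro z
    obtain ⟨z', rfl⟩ := gaRed_surjective hMm z
    exact ((hEBc z').map (gaRed hMm G)).eq
  have h3 : ε ≠ 0 := gaRed_blockIdem_ne_zero hMm B hB EB hEBe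
  have h4 : ∀ f : MonoidAlgebra (Fres hMm) G, IsIdempotentElem f → (∀ x, f * x = x * f) →
      f * ε = f → f = 0 ∨ f = ε := by
    intro f hf hfc hfe
    exact blockIdem_red_primitive hMm B hB EB hEBe f hf (fun a => hfc a) hfe
  have h5 : Module.finrank (Fres hMm) (centerUnder (Fres hMm) ε) ≤ 2 := by
    have := finrank_centerUnder_le hMm B hB EB hEBe
    rwa [h2] at this
  haveI := isAlgClosed_Fres hMm
  haveI : CharP (Fres hMm) p := charP_Fres hM
  obtain ⟨n, c, i, hi, hie, hc, hdim, hdimi⟩ :=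
    h9_under_of_K7 (fun _ _ _ _ _ lam' k1 k2 k3 => ku_structure lam' k1 k2 k3)
      (gaLam (Fres hMm) G) (gaLam_isSymForm _ _) ε h1 h2' h3 h4 h5
  have hA := finrank_leftIdeal_red hMm EB hEBi
  rw [hEBe, heB, finrank_leftIdeal_blockIdem B, ← hε, hdim] at hA
  have hD := pow_dvd_finrank_leftIdeal p i hi.eq
  rw [hdimi] at hD
  have hval := DegSq.factorization_sum_sq hM B hB
  rw [← hA] at hval
  -- the defect is positive
  have hd : 0 < Cfsg.blockDefect p B := by
    by_contra hd0
    have hd0' : Cfsg.blockDefect p B = 0 := by omega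
    obtain ⟨χ₀, rfl⟩ := hB
    have := eq_singleton_of_blockDefect_eq_zero hMm p hM.2.2 _ ⟨χ₀, rfl⟩ hd0' χ₀
      (mem_blockOf_self hMm χ₀)
    rw [this] at h2
    simp at h2
  -- the defect is at most `a`
  obtain ⟨χ₁, hχ₁⟩ : ∃ χ₁ : Cfsg.IrrCharacter G, χ₁ ∈ B := by
    obtain ⟨χ₀, rfl⟩ := hB
    exact ⟨χ₀, mem_blockOf_self hMm χ₀⟩
  have hda : Cfsg.blockDefect p B ≤ 2 * (Nat.card G).factorization p := by
    have := blockDefect_le_factorization p B
    omega
  -- the dimension is not zero
  have hS0 : n ^ 2 * c ≠ 0 := by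
    rw [← hdim]
    intro h0
    have hsub : leftIdeal (Fres hMm) ε = ⊥ := by
      apply Submodule.finrank_eq_zero.mp h0
    apply h3
    have hmem : ε ∈ leftIdeal (Fres hMm) ε := (mem_leftIdeal (Fres hMm)).mpr ⟨ε, h1.eq⟩
    rw [hsub, Submodule.mem_bot] at hmem
    exact hmem
  exact numeric_core hp.out hd hda hc rfl hS0 hval hD

end ga

end Cfsg.Agent.Helper6.Ku
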