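import Mathlib
import Cfsg.Agent.Lead.GlThH
import Cfsg.Agent.Lead.GlThI
import Cfsg.Agent.Lead.FusionRestrict
import Cfsg.Agent.Lead.FusionSolvable

/-!
# Lifting normal subgroups from a factor system

If `E = F/Q` with `Aut_F(Q)` a `p`-group and `R'` is normal in `E`, then the full preimage of `R'`
is normal in `F`.
-/

set_option autoImplicit false
set_option linter.style.haveILetI false
set_option maxHeartbeats 1000000

namespace Cfsg.Agent.Helper6.LiftNormal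

open Cfsg Cfsg.FusionSystem Cfsg.Agent.Lead Cfsg.Agent.Lead.GlTh

variable {Ω : Type*} [Group Ω] {S : Subgroup Ω} {Ω' : Type*} [Group Ω'] {S' : Subgroup Ω'}

/-- `a` induces on the image of `P` the conjugation by `r'`. -/
def Ind (θ : S →* Ω') {P : Subgroup Ω} (hPS : P ≤ S) (a : MulAut P) (r' : Ω') : Prop :=
  ∀ x : P, (θ.comp (Subgroup.inclusion hPS)) (a x) =
    r' * (θ.comp (Subgroup.inclusion hPS)) x * r'⁻¹

theorem ind_one (θ : S →* Ω') {P : Subgroup Ω} (hPS : P ≤ S) : Ind θ hPS 1 1 := by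
  intro x
  simp

theorem ind_mul (θ : S →* Ω') {P : Subgroup Ω} (hPS : P ≤ S) {a b : MulAut P} {r s : Ω'}
    (ha : Ind θ hPS a r) (hb : Ind θ hPS b s) : Ind θ hPS (a * b) (r * s) := by
  intro x
  rw [MulAut.mul_apply, ha (b x), hb x]
  group

theorem ind_inv (θ : S →* Ω') {P : Subgroup Ω} (hPS : P ≤ S) {a : MulAut P} {r : Ω'}
    (ha : Ind θ hPS a r) : Ind θ hPS a⁻¹ r⁻¹ := by
  intro x
  have h := ha (a⁻¹ x)
  rw [MulAut.apply_inv_self] at h
  rw [h]
  group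

theorem ind_pow (θ : S →* Ω') {P : Subgroup Ω} (hPS : P ≤ S) {a : MulAut P} {r : Ω'}
    (ha : Ind θ hPS a r) (n : ℕ) : Ind θ hPS (a ^ n) (r ^ n) := by
  induction n with
  | zero => simpa using ind_one θ hPS
  | succ n ih =>
    rw [pow_succ, pow_succ]
    exact ind_mul θ hPS ih ha

theorem ind_apply (θ : S →* Ω') {P : Subgroup Ω} (hPS : P ≤ S) {a : MulAut P} {r : Ω'}
    (ha : Ind θ hPS a r) (x : P) :
    θ ⟨(a x : P), hPS (a x).2⟩ = r * θ ⟨x, hPS x.2⟩ * r⁻¹ := ha x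

theorem lift_isNormal_of_morphism [Finite S] (p : ℕ) [Fact p.Prime] (hS : IsPGroup p S)
    (F : FusionSystem S) (hF : F.IsSaturated p) {Q : Subgroup Ω} (hQ : F.IsNormal Q)
    (hAut : IsPGroup p (F.autGroup Q)) (θ : S →* Ω') (E : FusionSystem S')
    (hθ : F.IsSurjectiveMorphism E θ) (hker : Fusion.kerAlong θ = Q) {R' : Subgroup Ω'}
    (hR' : E.IsNormal R') : F.IsNormal (preimageAlong θ R') := by
  have hRsc : F.StronglyClosed (preimageAlong θ R') :=
    Fusion.preimageAlong_stronglyClosed F θ E hθ.1 (Fusion.stronglyClosed_of_isNormal E hR')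
  have hRS : preimageAlong θ R' ≤ S := hRsc.1
  have hSnR : S ≤ Subgroup.normalizer ((preimageAlong θ R' : Subgroup Ω) : Set Ω) :=
    le_normalizer_of_stronglyClosed F hRsc
  have hR'S' : R' ≤ S' := hR'.1
  have hS'p : IsPGroup p S' := by
    have h1 : IsPGroup p θ.range := hS.of_surjective θ.rangeRestrict θ.rangeRestrict_surjective
    rwa [hθ.2.1] at h1
  apply Fusion.isNormal_of_forall_essential p hS F hF
  intro P hP
  have hPS : P ≤ S := by
    rcases hP with rfl | hess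
    · exact le_rfl
    · exact hess.1.1
  haveI : Finite P := Fusion.finite_of_le hPS
  have hinv : preimageAlong θ R' ≤ P → ∀ α ∈ F.autGroup P,
      ((preimageAlong θ R').subgroupOf P).map α.toMonoidHom =
        (preimageAlong θ R').subgroupOf P := by
    intro hRP α hα
    apply Fusion.map_aut_eq_of_le
    rintro _ ⟨x, hx, rfl⟩
    rw [SetLike.mem_coe, Subgroup.mem_subgroupOf] at hx
    rw [Subgroup.mem_subgroupOf]
    have hα' := (Fusion.mem_autGroup_iff F hPS α).mp hα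
    have h1 := Fusion.restrict_mem F hα' hRP
    exact hRsc.2 _ le_rfl _ h1 ⟨x, hx⟩
  suffices hRP : preimageAlong θ R' ≤ P from ⟨hRP, hinv hRP⟩
  rcases hP with rfl | hess
  · exact hRS
  have hc := hess.1
  have hrad := Fusion.isRadical_of_isEssential p hS F hess
  have hQP : Q ≤ P := Fusion.le_of_isNormal_of_centric_radical p hS F hQ hc hrad
  haveI : Finite Q := Fusion.finite_of_le hQ.1
  -- the subgroup of automorphisms inducing conjugation by elements of `R'`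
  let K₂ : Subgroup ↥(F.autGroup P) :=
    { carrier := {a | ∃ r' ∈ R', Ind θ hPS (a : MulAut P) r'}
      one_mem' := ⟨1, R'.one_mem, ind_one θ hPS⟩
      mul_mem' := by
        rintro a b ⟨r, hr, har⟩ ⟨s, hs, hbs⟩
        exact ⟨r * s, R'.mul_mem hr hs, ind_mul θ hPS har hbs⟩
      inv_mem' := by
        rintro a ⟨r, hr, har⟩
        exact ⟨r⁻¹, R'.inv_mem hr, ind_inv θ hPS har⟩ }
  have hK₂n : K₂.Normal := by
    constructor
    rintro a ⟨r', hr', har⟩ b
    have hb' := (Fusion.mem_autGroup_iff F hPS (b : MulAut P)).mp b.2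
    obtain ⟨φ', hφ', hPS₂, hφS, hPP', hind⟩ := hθ.1.2 P _ hb'
    obtain ⟨ψ', hψ', hψ'P, hψ'R⟩ := hR'.2 _ φ' hφ'
    have hr'sup : r' ∈ imageAlong θ P ⊔ R' := (le_sup_right : R' ≤ _) hr'
    have hr'' : ψ' ⟨r', hr'sup⟩ ∈ R' := by
      have h0 : ψ' ⟨r', hr'sup⟩ ∈ (R'.subgroupOf (imageAlong θ P ⊔ R')).map ψ' := by
        refine ⟨⟨r', hr'sup⟩, ?_, rfl⟩
        rw [SetLike.mem_coe, Subgroup.mem_subgroupOf]
        exact hr'
      rw [hψ'R] at h0
      exact h0
    refine ⟨ψ' ⟨r', hr'sup⟩, hr'', ?_⟩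
    intro x
    show θ ⟨(((b : MulAut P) * (a : MulAut P) * (b : MulAut P)⁻¹) x : P), _⟩ = _
    set y : P := (b : MulAut P)⁻¹ x with hy
    have hby : (b : MulAut P) y = x := MulAut.apply_inv_self _ _ _
    have h1 : (((b : MulAut P) * (a : MulAut P) * (b : MulAut P)⁻¹) x : P) =
        (b : MulAut P) ((a : MulAut P) y) := rfl
    have h2 := hind ((a : MulAut P) y)
    have h3 : θ ⟨(((b : MulAut P) ((a : MulAut P) y) : P) : Ω), hPS ((b : MulAut P) ((a : MulAut P) y)).2⟩ =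
        φ' ⟨θ ⟨((a : MulAut P) y : P), hPS₂ ((a : MulAut P) y).2⟩, hPP' _⟩ := h2.symm
    have h4 : θ ⟨((a : MulAut P) y : P), hPS₂ ((a : MulAut P) y).2⟩ =
        r' * θ ⟨y, hPS y.2⟩ * r'⁻¹ := ind_apply θ hPS har y
    have hysup : θ ⟨y, hPS₂ y.2⟩ ∈ imageAlong θ P ⊔ R' := (le_sup_left : imageAlong θ P ≤ _) (hPP' y)
    have h5 : (Subgroup.inclusion le_sup_left
        (⟨θ ⟨((a : MulAut P) y : P), hPS₂ ((a : MulAut P) y).2⟩, hPP' _⟩ : imageAlong θ P) :
          ↥(imageAlong θ P ⊔ R')) =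
        ⟨r', hr'sup⟩ * ⟨θ ⟨y, hPS₂ y.2⟩, hysup⟩ * ⟨r', hr'sup⟩⁻¹ := by
      apply Subtype.ext
      exact h4
    have h6 := hψ'P ⟨θ ⟨((a : MulAut P) y : P), hPS₂ ((a : MulAut P) y).2⟩, hPP' _⟩
    have h7 : ψ' ⟨θ ⟨y, hPS₂ y.2⟩, hysup⟩ = θ ⟨x, hPS x.2⟩ := by
      have h8 := hψ'P ⟨θ ⟨y, hPS₂ y.2⟩, hPP' y⟩
      have h9 := hind y
      have h10 : (Subgroup.inclusion le_sup_left (⟨θ ⟨y, hPS₂ y.2⟩, hPP' y⟩ : imageAlong θ P) :
          ↥(imageAlong θ P ⊔ R')) = ⟨θ ⟨y, hPS₂ y.2⟩, hysup⟩ := rfl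
      rw [h10] at h8
      rw [h8, h9]
      congr 1
      apply Subtype.ext
      show (((b : MulAut P) y : P) : Ω) = x
      rw [hby]
    have hfin : θ ⟨(((b : MulAut P) ((a : MulAut P) y) : P) : Ω),
        hPS ((b : MulAut P) ((a : MulAut P) y)).2⟩ =
        ψ' ⟨r', hr'sup⟩ * θ ⟨x, hPS x.2⟩ * (ψ' ⟨r', hr'sup⟩)⁻¹ := by
      rw [h3, ← h6, h5, map_mul, map_mul, map_inv, h7]
    exact hfin
  have hK₂p : IsPGroup p K₂ := by
    rintro ⟨a, r', hr', har⟩
    obtain ⟨k, hk⟩ := (hS'p.to_le hR'S') ⟨r', hr'⟩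
    have hk' : r' ^ p ^ k = 1 := by
      have := congrArg Subtype.val hk
      rwa [Subgroup.coe_pow] at this
    have hinvQ : ∀ x : P, (x : Ω) ∈ Q → (((a : MulAut P) x : P) : Ω) ∈ Q := by
      intro x hx
      have h1 := Fusion.map_aut_eq_of_isNormal F hQ hQP hPS (a : MulAut P) a.2
      have h2 : (a : MulAut P) x ∈ (Q.subgroupOf P).map (a : MulAut P).toMonoidHom :=
        ⟨x, by rw [SetLike.mem_coe, Subgroup.mem_subgroupOf]; exact hx, rfl⟩
      rw [h1, Subgroup.mem_subgroupOf] at h2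
      exact h2
    obtain ⟨j, hj⟩ := Fusion.exists_pow_fix_of_isPGroup F p hPS hQP hAut (a : MulAut P) a.2 hinvQ
    set c : MulAut P := ((a : MulAut P) ^ p ^ j) ^ p ^ k with hc
    have hc1 : ∀ x ∈ Q.subgroupOf P, c x = x := by
      intro x hx
      exact pow_apply_of_fix _ x (hj x (Subgroup.mem_subgroupOf.mp hx)) _
    have hcind : Ind θ hPS c 1 := by
      have h1 := ind_pow θ hPS har (p ^ j * p ^ k)
      rw [pow_mul, mul_comm, pow_mul, hk', one_pow] at h1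
      exact h1
    have hc2 : ∀ x : P, x⁻¹ * c x ∈ Q.subgroupOf P := by
      intro x
      rw [Subgroup.mem_subgroupOf]
      have h1 := ind_apply θ hPS hcind x
      rw [one_mul, inv_one, mul_one] at h1
      have h := Fusion.inv_mul_mem_kerAlong θ (hPS x.2) (hPS (c x).2) h1.symm
      rw [hker] at h
      exact h
    have h1 := stab_pow_card (Q.subgroupOf P) c hc1 hc2
    have hQp : IsPGroup p ↥(Q.subgroupOf P) := (hS.to_le hPS).to_subgroup _
    obtain ⟨m, hm⟩ := IsPGroup.iff_card.mp hQp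
    refine ⟨j + k + m, ?_⟩
    apply Subtype.ext
    apply Subtype.ext
    rw [Subgroup.coe_pow, Subgroup.coe_pow]
    show (a : MulAut P) ^ p ^ (j + k + m) = 1
    rw [pow_add, pow_add, pow_mul, pow_mul, ← hm]
    exact h1
  have hK₂le : K₂ ≤ pCore p (F.autGroup P) := le_sSup ⟨hK₂n, hK₂p⟩
  -- elements of `R` normalizing `P` lie in `P`
  have key : ∀ c ∈ preimageAlong θ R', c ∈ Subgroup.normalizer (P : Set Ω) → c ∈ P := by
    intro c hcR hcN
    have hcS : c ∈ S := hRS hcR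
    have hcA : conjAutHom P ⟨c, hcN⟩ ∈ F.autGroup P :=
      Fusion.autInducedBy_le_autGroup F hPS (Fusion.conjAutHom_mem_autInducedBy P ⟨c, hcN⟩ hcS)
    obtain ⟨_, hθc⟩ := (Fusion.mem_preimageAlong θ R' c).mp hcR
    have hcK : (⟨_, hcA⟩ : F.autGroup P) ∈ K₂ := by
      refine ⟨θ ⟨c, hcS⟩, hθc, ?_⟩
      intro x
      have h1 : (⟨((conjAutHom P ⟨c, hcN⟩ x : P) : Ω), hPS (conjAutHom P ⟨c, hcN⟩ x).2⟩ : S) =
          ⟨c, hcS⟩ * ⟨x, hPS x.2⟩ * ⟨c, hcS⟩⁻¹ := by
        apply Subtype.ext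
        rfl
      show θ ⟨((conjAutHom P ⟨c, hcN⟩ x : P) : Ω), hPS (conjAutHom P ⟨c, hcN⟩ x).2⟩ = _
      rw [h1, map_mul, map_mul, map_inv]
      rfl
    have hInn : conjAutHom P ⟨c, hcN⟩ ∈ Inn P := by
      rw [← hrad.2]
      exact ⟨⟨_, hcA⟩, hK₂le hcK, rfl⟩
    exact Fusion.mem_of_conjAutHom_mem_inn F hc c hcS hcN hInn
  -- normalizer growth
  by_contra hDE
  set D := preimageAlong θ R' with hD
  have hEDS : P ⊔ D ≤ S := sup_le hPS hRS
  have hne : P ≠ P ⊔ D := by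
    intro h
    apply hDE
    rw [h]
    exact le_sup_right
  haveI : Finite ↥(P ⊔ D) := Fusion.finite_of_le hEDS
  obtain ⟨g, hgT, hgE⟩ := Fusion.exists_mem_normalizerIn_not_mem (S := P ⊔ D) (hS.to_le hEDS)
    le_sup_left hne
  obtain ⟨hgED, hgN⟩ := Subgroup.mem_inf.mp hgT
  have hEnD : P ≤ Subgroup.normalizer (D : Set Ω) := hPS.trans hSnR
  have hmul := Subgroup.coe_mul_of_left_le_normalizer_right P D hEnD
  have hg' : g ∈ ((P ⊔ D : Subgroup Ω) : Set Ω) := hgED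
  rw [hmul] at hg'
  obtain ⟨e, he, d, hd, hed⟩ := Set.mem_mul.mp hg'
  have hdN : d ∈ Subgroup.normalizer (P : Set Ω) := by
    have h1 : d = e⁻¹ * g := by rw [← hed]; group
    rw [h1]
    exact Subgroup.mul_mem _ (Subgroup.inv_mem _ (Subgroup.le_normalizer he)) hgN
  have hdE := key d hd hdN
  apply hgE
  rw [← hed]
  exact P.mul_mem he hdE

/-- Lifting normal subgroups from a factor system modulo a normal subgroup with `p`-group automizer. -/
theorem lift_isNormal [Finite S] (p : ℕ) [Fact p.Prime] (hS : IsPGroup p S)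
    (F : FusionSystem S) (hF : F.IsSaturated p) {Q : Subgroup Ω} (hQ : F.IsNormal Q)
    (hAut : IsPGroup p (F.autGroup Q)) (θ : S →* Ω') (E : FusionSystem S')
    (hE : F.IsFactorSystem Q θ E) {R' : Subgroup Ω'} (hR' : E.IsNormal R') :
    F.IsNormal (preimageAlong θ R') := by
  have hQsc := Fusion.stronglyClosed_of_isNormal F hQ
  have hθ := Fusion.isSurjectiveMorphism_of_isFactorSystem p hS F hF Q hQsc θ E hE
  have hker : Fusion.kerAlong θ = Q := by
    ext s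
    rw [Fusion.mem_kerAlong]
    constructor
    · rintro ⟨hs, h⟩
      exact (hE.2.1 _).mp h
    · intro hs
      exact ⟨hQ.1 hs, (hE.2.1 _).mpr hs⟩
  exact lift_isNormal_of_morphism p hS F hF hQ hAut θ E hθ hker hR'

end Cfsg.Agent.Helper6.LiftNormal
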