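import Mathlib
import Cfsg.Prelude.Def_Characters
import Cfsg.Prelude.Def_Blocks
import Cfsg.Agent.Helper6.HeightZeroSection
import Cfsg.Agent.Helper6.FongReynolds2
import Cfsg.Agent.Helper6.BrauerPair
import Cfsg.Agent.Helper6.IndFun

/-!
# Major subsections: every member of the block is visible (Brauer, *On blocks and sections II*, (4C))

Let `B` be a `p`-block of `G`, `x` a `p`-element, `C` a subgroup containing `x` and centralised by
`x`, `f` a block of `C` with `f^G = B`, and `ψ₀ ∈ f`, `χ₀ ∈ B` with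
`ν_p |G| + ν_p ψ₀(1) = ν_p χ₀(1) + ν_p |C|` and `χ₀` of height zero (so `f` has the same defect as
`B` and `ψ₀` has height zero).  Then for EVERY `χ ∈ B`
`∑_{c ∈ C, p-regular} χ(x c) conj ψ₀(c) ≠ 0`.
-/

set_option autoImplicit false
set_option linter.style.haveILetI false

namespace Cfsg.Agent.Helper6.MajSec

open Cfsg.Agent.Helper6
open scoped ComplexConjugate

universe u

variable {G : Type u} [Group G] {M : Ideal Cfsg.AlgInt}

/-- the class function `x c ↦ conj ψ(c)` (`c` `p`-regular) on `C` -/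
noncomputable def majPhi (p : ℕ) (C : Subgroup G) (x : C) (ψ : C → ℂ) : C → ℂ :=
  fun y => if p ∣ orderOf (x⁻¹ * y) then (0 : ℂ) else conj (ψ (x⁻¹ * y))

theorem majPhi_isClassFunction (p : ℕ) (C : Subgroup G) (x : C) (hx : ∀ t : C, x * t = t * x)
    (ψ : C → ℂ) (hψ : Cfsg.IsClassFunction C ψ) : Cfsg.IsClassFunction C (majPhi p C x ψ) := by
  intro g t
  unfold majPhi
  have h1 : x⁻¹ * (t * g * t⁻¹) = t * (x⁻¹ * g) * t⁻¹ := by
    have h2 : x⁻¹ * t = t * x⁻¹ := by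
      have := hx t
      calc x⁻¹ * t = x⁻¹ * (t * x) * x⁻¹ := by group
        _ = x⁻¹ * (x * t) * x⁻¹ := by rw [this]
        _ = t * x⁻¹ := by group
    calc x⁻¹ * (t * g * t⁻¹) = (x⁻¹ * t) * g * t⁻¹ := by group
      _ = (t * x⁻¹) * g * t⁻¹ := by rw [h2]
      _ = t * (x⁻¹ * g) * t⁻¹ := by group
  have ho : orderOf (t * (x⁻¹ * g) * t⁻¹) = orderOf (x⁻¹ * g) := by
    have := MulEquiv.orderOf_eq (MulAut.conj t) (x⁻¹ * g)
    simpa using this
  rw [h1, ho, hψ]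

theorem majPhi_memLocalRing [Finite G] (hM : M.IsMaximal) (p : ℕ) (C : Subgroup G) (x : C)
    (ψ : C → ℂ) (hψ : Cfsg.IsCharacter C ψ) (y : C) :
    Cfsg.MemLocalRing M (majPhi p C x ψ y) := by
  unfold majPhi
  split_ifs
  · exact memLocalRing_of_isIntegral hM isIntegral_zero
  · apply memLocalRing_of_isIntegral hM
    exact (IsCharacter.conj_isIntegral hψ (x⁻¹ * y))

/-- reindexing: the pairing of `majPhi` with `χ` on `C` -/
theorem sum_majPhi_mul [Fintype G] (p : ℕ) (C : Subgroup G) [Fintype C] (x : C) (ψ : C → ℂ)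
    (χ : G → ℂ) :
    ∑ y : C, majPhi p C x ψ y * χ (y : G) =
      ∑ c : C, (if p ∣ orderOf c then (0 : ℂ) else χ ((x : G) * (c : G)) * conj (ψ c)) := by
  classical
  rw [← Equiv.sum_comp (Equiv.mulLeft x)]
  apply Finset.sum_congr rfl
  intro c _
  unfold majPhi
  simp only [Equiv.coe_mulLeft, inv_mul_cancel_left, Subgroup.coe_mul]
  split_ifs
  · rw [zero_mul]
  · rw [mul_comm]


/-- pairing the induced class function with a class function of `G` -/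
theorem sum_indFun_majPhi_mul [Fintype G] (p : ℕ) (C : Subgroup G) [Fintype C] (x : C)
    (ψ : C → ℂ) (ξ : G → ℂ) (hξ : Cfsg.IsClassFunction G ξ) :
    ∑ t : G, Cfsg.indFun C (majPhi p C x ψ) t * ξ t =
      ((Nat.card G : ℂ) / (Nat.card C : ℂ)) *
        ∑ c : C, (if p ∣ orderOf c then (0 : ℂ) else ξ ((x : G) * (c : G)) * conj (ψ c)) := by
  classical
  have hcf : Cfsg.IsClassFunction G (fun g => conj (ξ g)) := by
    intro g y
    simp only
    rw [hξ]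
  have h1 := frobenius_reciprocity C (majPhi p C x ψ) (fun g => conj (ξ g)) hcf
  rw [classInner_def, classInner_def] at h1
  simp only [Complex.conj_conj] at h1
  rw [sum_majPhi_mul] at h1
  have hG : (Nat.card G : ℂ) ≠ 0 := by
    have : 0 < Nat.card G := Nat.card_pos
    exact_mod_cast this.ne'
  have hC : (Nat.card C : ℂ) ≠ 0 := by
    have : 0 < Nat.card C := Nat.card_pos
    exact_mod_cast this.ne'
  field_simp at h1 ⊢
  linear_combination h1


/-- **Major subsections see every member of the block.** -/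
theorem major_section_ne_zero [Fintype G] (p : ℕ) [hp : Fact p.Prime]
    (hM : Cfsg.IsPModular p M) (B : Set (Cfsg.IrrCharacter G)) (hB : Cfsg.IsPBlock M B)
    (χ χ₀ : Cfsg.IrrCharacter G) (hχ : χ ∈ B) (hχ₀ : χ₀ ∈ B)
    (h0 : Cfsg.blockHeight p B (χ₀ : G → ℂ) = 0)
    (x : G) (hx : ∃ k : ℕ, orderOf x = p ^ k) (C : Subgroup G) [Fintype C] (hxC : x ∈ C)
    (hcomm : ∀ t : C, x * (t : G) = (t : G) * x)
    (f : Set (Cfsg.IrrCharacter C)) (hf : Cfsg.IsInducedBlock M C f B)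
    (ψ₀ : Cfsg.IrrCharacter C) (hψ₀ : ψ₀ ∈ f)
    (hdeg : (Nat.card G).factorization p + (Cfsg.charDegree (ψ₀ : C → ℂ)).factorization p =
      (Cfsg.charDegree (χ₀ : G → ℂ)).factorization p + (Nat.card C).factorization p) :
    ∑ c : C, (if p ∣ orderOf c then (0 : ℂ) else
      (χ : G → ℂ) (x * (c : G)) * conj ((ψ₀ : C → ℂ) c)) ≠ 0 := by
  classical
  intro hS
  have hM' := hM.2.1
  set xC : C := ⟨x, hxC⟩ with hxCdef
  have hxcen : ∀ t : C, xC * t = t * xC := by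
    intro t
    apply Subtype.ext
    exact hcomm t
  have hψc := IsIrrCharacter.isCharacter ψ₀.2
  have hψcf := IsCharacter.isClassFunction hψc
  have hχc := IsIrrCharacter.isCharacter χ.2
  have hχcf := IsCharacter.isClassFunction hχc
  have hχ₀c := IsIrrCharacter.isCharacter χ₀.2
  have hχ₀cf := IsCharacter.isClassFunction hχ₀c
  set Θ : G → ℂ := Cfsg.indFun C (majPhi p C xC (ψ₀ : C → ℂ)) with hΘ
  have hΘcf : Cfsg.IsClassFunction G Θ := indFun_isClassFunction C _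
  have hΘloc : ∀ t, Cfsg.MemLocalRing M (Θ t) := fun t =>
    indFun_memLocalRing hM' C _ (majPhi_isClassFunction p C xC hxcen _ hψcf)
      (fun y => majPhi_memLocalRing hM' p C xC _ hψc y) t
  have hsb := sum_mul_sub_of_sameBlock hM' Θ hΘcf hΘloc (χ : G → ℂ) (χ₀ : G → ℂ) hχcf hχ₀cf
    (sameBlock_of_mem_block hM' B hB hχ hχ₀)
  have hkχ := sum_indFun_majPhi_mul p C xC (ψ₀ : C → ℂ) (χ : G → ℂ) hχcf
  have hkχ₀ := sum_indFun_majPhi_mul p C xC (ψ₀ : C → ℂ) (χ₀ : G → ℂ) hχ₀cf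
  rw [← hΘ] at hkχ hkχ₀
  have hxCcoe : ((xC : C) : G) = x := rfl
  rw [hxCcoe] at hkχ hkχ₀
  rw [hS, mul_zero] at hkχ
  -- notation
  set S₀ : ℂ := ∑ c : C, (if p ∣ orderOf c then (0 : ℂ) else
      (χ₀ : G → ℂ) (x * (c : G)) * conj ((ψ₀ : C → ℂ) c)) with hS₀
  have hχ1 : (χ : G → ℂ) 1 ≠ 0 := IsIrrCharacter.apply_one_ne_zero χ.2
  have hχ₀1 : (χ₀ : G → ℂ) 1 ≠ 0 := IsIrrCharacter.apply_one_ne_zero χ₀.2
  have hψ1 : (ψ₀ : C → ℂ) 1 ≠ 0 := IsIrrCharacter.apply_one_ne_zero ψ₀.2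
  have hA₀ : Cfsg.MemLocalIdeal M
      (((Nat.card G : ℂ) / (Nat.card C : ℂ)) * S₀ / (χ₀ : G → ℂ) 1) := by
    have h1 : ∑ t, Θ t * ((χ : G → ℂ) t / (χ : G → ℂ) 1 - (χ₀ : G → ℂ) t / (χ₀ : G → ℂ) 1) =
        -(((Nat.card G : ℂ) / (Nat.card C : ℂ)) * S₀ / (χ₀ : G → ℂ) 1) := by
      have h2 : ∀ t, Θ t * ((χ : G → ℂ) t / (χ : G → ℂ) 1 - (χ₀ : G → ℂ) t / (χ₀ : G → ℂ) 1) =
          (Θ t * (χ : G → ℂ) t) / (χ : G → ℂ) 1 - (Θ t * (χ₀ : G → ℂ) t) / (χ₀ : G → ℂ) 1 := by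
        intro t
        ring
      rw [Finset.sum_congr rfl (fun t _ => h2 t), Finset.sum_sub_distrib, ← Finset.sum_div,
        ← Finset.sum_div, hkχ, hkχ₀, zero_div, zero_sub]
    rw [h1] at hsb
    have := MemLocalIdeal.neg hsb
    rwa [neg_neg] at this
  -- the height-zero computation
  have hX := (induced_trunc_statement hM C f B hf χ₀ ψ₀ hψ₀).2 hχ₀ h0
  apply hX
  -- the difference function
  set u : C → ℂ := fun c => if p ∣ orderOf c then (0 : ℂ) else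
    ((χ₀ : G → ℂ) (x * (c : G)) - (χ₀ : G → ℂ) (c : G)) with hu
  have hucf : Cfsg.IsClassFunction C u := by
    intro g t
    have ho : orderOf (t * g * t⁻¹) = orderOf g := by
      have := MulEquiv.orderOf_eq (MulAut.conj t) g
      simpa using this
    rw [hu]
    simp only [ho]
    have h1 : x * ((t : G) * (g : G) * (t : G)⁻¹) = (t : G) * (x * (g : G)) * (t : G)⁻¹ := by
      rw [← mul_assoc, ← mul_assoc, hcomm t]
      group
    simp only [Subgroup.coe_mul, Subgroup.coe_inv]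
    rw [h1, hχ₀cf, hχ₀cf (g : G) (t : G)]
  have huloc : ∀ t : C, Cfsg.MemLocalIdeal M (u t) := by
    intro t
    rw [hu]
    simp only
    by_cases ht : p ∣ orderOf t
    · rw [if_pos ht]
      exact memLocalIdeal_zero hM'
    · rw [if_neg ht]
      apply char_mul_sub_memLocalIdeal hM' p hp.out hM.2.2 hχ₀c x (t : G) (hcomm t) hx
      rwa [Subgroup.orderOf_coe]
  set ψc : Cfsg.IrrCharacter C := ⟨fun c => conj ((ψ₀ : C → ℂ) c), conj_isIrr ψ₀.2⟩ with hψcdef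
  have hψ1r : conj ((ψ₀ : C → ℂ) 1) = (ψ₀ : C → ℂ) 1 := by
    rw [← charDegree_cast_of_isCharacter hψc]
    simp
  have hD := sum_ideal_mul_div_mem hM' u hucf huloc ψc
  -- `S'`
  set S' : ℂ := ∑ c : C, (if p ∣ orderOf c then (0 : ℂ) else
      (χ₀ : G → ℂ) (c : G) * conj ((ψ₀ : C → ℂ) c)) with hS'
  have hD2 : ∑ t : C, u t * ((ψc : C → ℂ) t / (ψc : C → ℂ) 1) = (S₀ - S') / (ψ₀ : C → ℂ) 1 := by
    have h1 : ∀ t : C, u t * ((ψc : C → ℂ) t / (ψc : C → ℂ) 1) =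
        ((if p ∣ orderOf t then (0 : ℂ) else
          (χ₀ : G → ℂ) (x * (t : G)) * conj ((ψ₀ : C → ℂ) t)) -
          (if p ∣ orderOf t then (0 : ℂ) else
            (χ₀ : G → ℂ) (t : G) * conj ((ψ₀ : C → ℂ) t))) / (ψ₀ : C → ℂ) 1 := by
      intro t
      rw [hψcdef, hu]
      simp only
      rw [hψ1r]
      split_ifs
      · simp
      · ring
    rw [Finset.sum_congr rfl (fun t _ => h1 t), ← Finset.sum_div, Finset.sum_sub_distrib]
  rw [hD2] at hD
  -- arithmetic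
  have hG0 : Nat.card G ≠ 0 := Nat.card_pos.ne'
  have hC0 : Nat.card C ≠ 0 := Nat.card_pos.ne'
  have hGc : (Nat.card G : ℂ) ≠ 0 := by exact_mod_cast hG0
  have hCc : (Nat.card C : ℂ) ≠ 0 := by exact_mod_cast hC0
  set aC := (Nat.card C).factorization p with haC
  have hmp : ¬ p ∣ Nat.card C / p ^ aC := Nat.not_dvd_ordCompl hp.out hC0
  have hm : p ^ aC * (Nat.card C / p ^ aC) = Nat.card C := Nat.ordProj_mul_ordCompl_eq_self _ p
  have hpa0 : ((p ^ aC : ℕ) : ℂ) ≠ 0 := by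
    have : 0 < p ^ aC := pow_pos hp.out.pos _
    exact_mod_cast this.ne'
  have hm0 : ((Nat.card C / p ^ aC : ℕ) : ℂ) ≠ 0 := by
    intro h0'
    have : Nat.card C / p ^ aC = 0 := by exact_mod_cast h0'
    rw [this, mul_zero] at hm
    exact hC0 hm.symm
  have hCC : (Nat.card C : ℂ) = ((p ^ aC : ℕ) : ℂ) * ((Nat.card C / p ^ aC : ℕ) : ℂ) := by
    rw [← Nat.cast_mul, hm]
  -- degrees
  set dχ := Cfsg.charDegree (χ₀ : G → ℂ) with hdχ
  set dψ := Cfsg.charDegree (ψ₀ : C → ℂ) with hdψ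
  have hdχ0 : dχ ≠ 0 := charDegree_ne_zero_of_irr χ₀.2
  have hdψ0 : dψ ≠ 0 := charDegree_ne_zero_of_irr ψ₀.2
  have hdχc : (dχ : ℂ) = (χ₀ : G → ℂ) 1 := charDegree_cast_of_isCharacter hχ₀c
  have hdψc : (dψ : ℂ) = (ψ₀ : C → ℂ) 1 := charDegree_cast_of_isCharacter hψc
  -- `r⁻¹` is local
  have hr : Cfsg.MemLocalRing M (((dχ * p ^ aC : ℕ) : ℂ) / ((Nat.card G * dψ : ℕ) : ℂ)) := by
    rw [memLocalRing_natCast_div_iff hM _ _ (Nat.mul_ne_zero hdχ0 (pow_pos hp.out.pos _).ne')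
      (Nat.mul_ne_zero hG0 hdψ0)]
    rw [Nat.factorization_mul hG0 hdψ0, Nat.factorization_mul hdχ0 (pow_pos hp.out.pos _).ne',
      Finsupp.add_apply, Finsupp.add_apply, Nat.Prime.factorization_pow hp.out,
      Finsupp.single_eq_same]
    omega
  have h1m : Cfsg.MemLocalRing M ((1 : ℂ) / ((Nat.card C / p ^ aC : ℕ) : ℂ)) := by
    have := memLocalRing_natCast_div hM' p hp.out hM.2.2 1 _ hmp
    simpa using this
  -- combine
  have hfin : Cfsg.classInner (fun h : C => if p ∣ orderOf h then (0 : ℂ) else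
        ((p ^ (Nat.card C).factorization p : ℕ) : ℂ) * (χ₀ : G → ℂ) h) (ψ₀ : C → ℂ) /
          (ψ₀ : C → ℂ) 1 =
      (((dχ * p ^ aC : ℕ) : ℂ) / ((Nat.card G * dψ : ℕ) : ℂ)) *
        (((Nat.card G : ℂ) / (Nat.card C : ℂ)) * S₀ / (χ₀ : G → ℂ) 1) -
      ((1 : ℂ) / ((Nat.card C / p ^ aC : ℕ) : ℂ)) * ((S₀ - S') / (ψ₀ : C → ℂ) 1) := by
    rw [classInner_def]
    have h1 : ∑ g : C, (if p ∣ orderOf g then (0 : ℂ) else
        ((p ^ (Nat.card C).factorization p : ℕ) : ℂ) * (χ₀ : G → ℂ) g) *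
          conj ((ψ₀ : C → ℂ) g) = ((p ^ aC : ℕ) : ℂ) * S' := by
      rw [hS', Finset.mul_sum]
      apply Finset.sum_congr rfl
      intro g _
      split_ifs
      · rw [zero_mul, mul_zero]
      · ring
    rw [h1]
    have hpc : (p : ℂ) ≠ 0 := by exact_mod_cast hp.out.ne_zero
    have hχ₀1 : (χ₀ : G → ℂ) 1 ≠ 0 := by
      rw [← hdχc]
      exact_mod_cast hdχ0
    have hψ₀1 : (ψ₀ : C → ℂ) 1 ≠ 0 := by
      rw [← hdψc]
      exact_mod_cast hdψ0
    have hm0' : ((Nat.card C / p ^ aC : ℕ) : ℂ) ≠ 0 := hm0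
    push_cast
    rw [hdχc, hdψc]
    rw [hCC]
    push_cast at hm0' ⊢
    field_simp
    ring
  rw [hfin]
  exact MemLocalIdeal.sub hM' (MemLocalIdeal.mul_left hM' hr hA₀)
    (MemLocalIdeal.mul_left hM' h1m hD)

end Cfsg.Agent.Helper6.MajSec
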