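import Mathlib
import Cfsg.Prelude.Def_Characters
import Cfsg.Prelude.Def_Blocks
import Cfsg.Prelude.Def_BlockLocal
import Cfsg.Prelude.Def_BrauerPairs
import Cfsg.Agent.Helper6.MajSecA
import Cfsg.Agent.Helper6.PiKerH
import Cfsg.Agent.Helper6.SubpairUnique
import Cfsg.Agent.Helper6.SubpairBlock
import Cfsg.Agent.Helper6.CentDefect
import Cfsg.Agent.Helper6.DeficiencyClassB

/-!
# Major subsections exist for elements of an abelian defect group

`B` a block of `G` with abelian defect group `P`, `Q ≤ P`: some block `f` of `C_G(Q)` has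
`f^G = B` and the same defect as `B`.  Consequently (Brauer's (4C), `MajSecA`), for `x ∈ P` every
`χ ∈ B` is nonzero at some `x c` with `c ∈ C_G(x)` `p`-regular.
-/

set_option autoImplicit false
set_option linter.style.haveILetI false

namespace Cfsg.Agent.Helper6.MajSec

open Cfsg.Agent.Helper6
open scoped ComplexConjugate

universe u

variable {G : Type u} [Group G] {M : Ideal Cfsg.AlgInt}

/-- the least `p`-adic valuation of a degree in `e`, in terms of the defect -/
theorem factorization_add_blockDefect' {K : Type u} [Group K] [Finite K] (p : ℕ)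
    (e : Set (Cfsg.IrrCharacter K)) (θ₀ : Cfsg.IrrCharacter K) (hθ₀ : θ₀ ∈ e)
    (hmin : ∀ θ ∈ e, (Cfsg.charDegree (θ₀ : K → ℂ)).factorization p ≤
      (Cfsg.charDegree (θ : K → ℂ)).factorization p) :
    (Cfsg.charDegree (θ₀ : K → ℂ)).factorization p + Cfsg.blockDefect p e =
      (Nat.card K).factorization p := by
  have hle : (Cfsg.charDegree (θ₀ : K → ℂ)).factorization p ≤ (Nat.card K).factorization p := by
    have hdvd := charDegree_dvd_card θ₀.2
    have hpos : Nat.card K ≠ 0 := Nat.card_pos.ne'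
    exact (Nat.factorization_le_iff_dvd (fun h0 => by
      rw [h0] at hdvd
      exact hpos (Nat.eq_zero_of_zero_dvd hdvd)) hpos).mpr hdvd p
  have hinf : sInf ((fun χ : Cfsg.IrrCharacter K =>
      (Cfsg.charDegree (χ : K → ℂ)).factorization p) '' e) =
      (Cfsg.charDegree (θ₀ : K → ℂ)).factorization p := by
    apply le_antisymm
    · exact Nat.sInf_le ⟨θ₀, hθ₀, rfl⟩
    · apply le_csInf
      · exact ⟨_, θ₀, hθ₀, rfl⟩
      · rintro _ ⟨θ, hθ, rfl⟩
        exact hmin θ hθ
  unfold Cfsg.blockDefect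
  rw [hinf]
  omega

/-- a block of `C_G(Q)`, `Q` inside an abelian defect group of `B`, inducing `B` with the same
defect -/
theorem exists_major_block [Fintype G] {p : ℕ} [hp : Fact p.Prime] (hM : Cfsg.IsPModular p M)
    (B : Set (Cfsg.IrrCharacter G)) (hB : Cfsg.IsPBlock M B) (P : Subgroup G)
    (hPD : Cfsg.IsDefectGroup p M B P) (hPab : ∀ x ∈ P, ∀ y ∈ P, x * y = y * x)
    (Q : Subgroup G) (hQP : Q ≤ P) :
    ∃ f : Set (Cfsg.IrrCharacter (Subgroup.centralizer (Q : Set G))),
      Cfsg.IsInducedBlock M (Subgroup.centralizer (Q : Set G)) f B ∧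
        Cfsg.blockDefect p f = Cfsg.blockDefect p B := by
  classical
  obtain ⟨e, hmax⟩ := exists_isBrauerPairOf_of_isDefectGroup hM B hB P hPD
  have hPe : Cfsg.IsBrauerPair p M P e := hmax.1.1
  obtain ⟨f, ⟨hf, hle⟩, -⟩ := existsUnique_subpairLE hM P Q e hPe hQP
  have hBQ := isBrauerPairOf_of_subpairLE hM P Q e f hle B hmax.1
  have hind := isInducedBlock_of_isBrauerPairOf hM B Q f hBQ
  refine ⟨f, hind, le_antisymm (blockDefect_le_of_induced hM _ f B hind) ?_⟩
  obtain ⟨⟨D, hD, hle2⟩, -⟩ := centralizer_defectGroup hM B P Q e f hmax hQP hle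
  have hPC : P ≤ Subgroup.centralizer (Q : Set G) := by
    intro x hx
    rw [Subgroup.mem_centralizer_iff]
    intro y hy
    exact hPab y (hQP hy) x hx
  have h1 : Nat.card P = p ^ Cfsg.blockDefect p B :=
    card_defectGroup hM.2.1 p hM.2.2 B hB P hPD
  have h2 : Nat.card D = p ^ Cfsg.blockDefect p f :=
    card_defectGroup hM.2.1 p hM.2.2 f hf D hD
  have h3 : Nat.card P ≤ Nat.card D := by
    have h4 : Nat.card ((P ⊓ Subgroup.centralizer (Q : Set G)).subgroupOf
        (Subgroup.centralizer (Q : Set G))) = Nat.card P := by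
      rw [inf_eq_left.mpr hPC]
      exact Nat.card_congr (Subgroup.subgroupOfEquivOfLe hPC).toEquiv
    rw [← h4]
    exact Subgroup.card_le_of_le hle2
  rw [h1, h2] at h3
  exact (Nat.pow_le_pow_iff_right hp.out.one_lt).mp h3

/-- **every member of a block with abelian defect group `P` is visible on the `p`-section of every
element of `P`** -/
theorem exists_pRegular_apply_ne_zero [Fintype G] {p : ℕ} [hp : Fact p.Prime]
    (hM : Cfsg.IsPModular p M)
    (B : Set (Cfsg.IrrCharacter G)) (hB : Cfsg.IsPBlock M B) (P : Subgroup G)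
    (hPD : Cfsg.IsDefectGroup p M B P) (hPab : ∀ x ∈ P, ∀ y ∈ P, x * y = y * x)
    (x : G) (hx : x ∈ P) (χ : Cfsg.IrrCharacter G) (hχ : χ ∈ B) :
    ∃ c : G, x * c = c * x ∧ ¬ p ∣ orderOf c ∧ (χ : G → ℂ) (x * c) ≠ 0 := by
  classical
  have hQP : Subgroup.zpowers x ≤ P := (Subgroup.zpowers_le).mpr hx
  obtain ⟨f, hind, hdef⟩ := exists_major_block hM B hB P hPD hPab (Subgroup.zpowers x) hQP
  haveI : Fintype (Subgroup.centralizer ((Subgroup.zpowers x : Subgroup G) : Set G)) :=
    Fintype.ofFinite _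
  obtain ⟨θ₁, hθ₁⟩ : ∃ θ₁ : Cfsg.IrrCharacter
      (Subgroup.centralizer ((Subgroup.zpowers x : Subgroup G) : Set G)), θ₁ ∈ f := by
    obtain ⟨θ₁, hb1⟩ := hind.1
    exact ⟨θ₁, hb1 ▸ mem_blockOf_self hM.2.1 θ₁⟩
  obtain ⟨ψ₀, hψ₀, hψ₀h⟩ := exists_height_zero p f ⟨θ₁, hθ₁⟩
  obtain ⟨χ₀, hχ₀, hχ₀h⟩ := exists_height_zero p B ⟨χ, hχ⟩
  have hminψ := (blockHeight_eq_zero_iff f ψ₀ hψ₀).mp hψ₀h
  have hminχ := (blockHeight_eq_zero_iff B χ₀ hχ₀).mp hχ₀h
  have h1 := factorization_add_blockDefect' p f ψ₀ hψ₀ hminψ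
  have h2 := factorization_add_blockDefect' p B χ₀ hχ₀ hminχ
  have hdeg : (Nat.card G).factorization p +
      (Cfsg.charDegree (ψ₀ : Subgroup.centralizer ((Subgroup.zpowers x : Subgroup G) : Set G) →
        ℂ)).factorization p =
      (Cfsg.charDegree (χ₀ : G → ℂ)).factorization p +
        (Nat.card (Subgroup.centralizer ((Subgroup.zpowers x : Subgroup G) : Set G))).factorization
          p := by
    omega
  have hPp : IsPGroup p P := IsDefectGroup.isPGroup hM B hB P hPD
  have hxp : ∃ k : ℕ, orderOf x = p ^ k := by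
    obtain ⟨k, hk⟩ := hPp ⟨x, hx⟩
    have h3 : x ^ p ^ k = 1 := by
      have := congrArg Subtype.val hk
      simpa using this
    obtain ⟨j, -, hj⟩ := (Nat.dvd_prime_pow hp.out).mp (orderOf_dvd_of_pow_eq_one h3)
    exact ⟨j, hj⟩
  have hxC : x ∈ Subgroup.centralizer ((Subgroup.zpowers x : Subgroup G) : Set G) := by
    rw [Subgroup.mem_centralizer_iff]
    intro y hy
    obtain ⟨n, rfl⟩ := Subgroup.mem_zpowers_iff.mp hy
    exact (Commute.zpow_self x n).eq
  have hcomm : ∀ t : Subgroup.centralizer ((Subgroup.zpowers x : Subgroup G) : Set G),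
      x * (t : G) = (t : G) * x := by
    intro t
    have := Subgroup.mem_centralizer_iff.mp t.2 x (Subgroup.mem_zpowers x)
    exact this
  have hne := major_section_ne_zero p hM B hB χ χ₀ hχ hχ₀ hχ₀h x hxp _ hxC hcomm f hind ψ₀ hψ₀ hdeg
  obtain ⟨c, -, hc⟩ := Finset.exists_ne_zero_of_sum_ne_zero hne
  by_cases hpc : p ∣ orderOf c
  · rw [if_pos hpc] at hc
    exact absurd rfl hc
  · rw [if_neg hpc] at hc
    refine ⟨(c : G), hcomm c, ?_, ?_⟩
    · rwa [Subgroup.orderOf_coe]
    · intro h0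
      apply hc
      rw [h0, zero_mul]

end Cfsg.Agent.Helper6.MajSec
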