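import Mathlib
import Cfsg.Prelude.Def_Characters
import Cfsg.Agent.Helper6.SmallDegree
import Cfsg.Agent.Helper6.BurnsideSimple

/-!
# Simple groups with many conjugacy classes have abelian Sylow subgroups
-/

set_option autoImplicit false
set_option linter.style.haveILetI false

namespace Cfsg.Agent.Helper6

open Module Representation
open scoped ComplexConjugate

universe u v

variable {G : Type u} [Group G]

/-- A non-principal irreducible representation of a finite simple group is faithful. -/
theorem faithful_of_simple [Finite G] [IsSimpleGroup G] {n : ℕ}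
    (ρ : Representation ℂ G (Fin n → ℂ)) (hirr : ρ.IsIrreducible)
    (hne : ρ.character ≠ fun _ => 1) : Function.Injective ρ := by
  let N : Subgroup G := (Representation.asGroupHom ρ).ker
  have hNmem : ∀ x : G, x ∈ N ↔ ρ x = 1 := by
    intro x
    rw [MonoidHom.mem_ker]
    constructor
    · intro h
      have := congrArg Units.val h
      rwa [Representation.asGroupHom_apply] at this
    · intro h
      apply Units.ext
      rw [Representation.asGroupHom_apply]
      exact h
  rcases (inferInstance : N.Normal).eq_bot_or_eq_top with hN | hN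
  · intro a b hab
    have h1 : ρ (a * b⁻¹) = 1 := by
      rw [map_mul, hab, ← map_mul, mul_inv_cancel, map_one]
    have h2 : a * b⁻¹ ∈ N := (hNmem _).mpr h1
    rw [hN, Subgroup.mem_bot] at h2
    exact mul_inv_eq_one.mp h2
  · exfalso
    apply hne
    apply char_eq_one_of_trivial ρ hirr
    intro x
    apply (hNmem x).mp
    rw [hN]
    trivial

/-- If a finite simple group of order `n` has more than `n / p^2` classes, its Sylow
`p`-subgroups are abelian. -/
theorem sylow_comm_of_many_classes [Finite G] [IsSimpleGroup G] (p : ℕ) [hp : Fact p.Prime]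
    (hpn : p ∣ Nat.card G) (hmany : Nat.card G < p ^ 2 * Nat.card (ConjClasses G)) (P : Sylow p G)
    (a b : G) (ha : a ∈ P) (hb : b ∈ P) : a * b = b * a := by
  classical
  by_cases hcomm : ∀ a b : G, a * b = b * a
  · exact hcomm a b
  haveI := Fintype.ofFinite G
  haveI : Finite (Cfsg.IrrCharacter G) := irr_finite
  haveI : Fintype (Cfsg.IrrCharacter G) := Fintype.ofFinite _
  have hPcard := P.card_eq_multiplicity
  by_cases hp2 : p ^ 2 ∣ Nat.card G
  · -- there is a non-principal irreducible character of degree < p
    have hex : ∃ χ : Cfsg.IrrCharacter G, (χ : G → ℂ) ≠ (fun _ => 1) ∧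
        ∃ d : ℕ, (χ : G → ℂ) 1 = d ∧ d < p := by
      by_contra hcon
      push Not at hcon
      have hd : ∀ χ : Cfsg.IrrCharacter G, ∃ d : ℕ, (χ : G → ℂ) 1 = d := fun χ =>
        IsCharacter.apply_one (IsIrrCharacter.isCharacter χ.2)
      choose d hd using hd
      have hsum : ∑ χ : Cfsg.IrrCharacter G, d χ ^ 2 = Nat.card G := by
        have := sum_sq_degrees (G := G)
        simp_rw [hd] at this
        exact_mod_cast this
      let χ₁ : Cfsg.IrrCharacter G := ⟨fun _ => 1, isIrrCharacter_one⟩
      have hd1 : d χ₁ = 1 := by
        have := hd χ₁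
        simp only [χ₁] at this
        exact_mod_cast this.symm
      rw [← Finset.add_sum_erase Finset.univ _ (Finset.mem_univ χ₁), hd1] at hsum
      have hge : (Finset.univ.erase χ₁).card • p ^ 2 ≤
          ∑ χ ∈ Finset.univ.erase χ₁, d χ ^ 2 := by
        apply Finset.card_nsmul_le_sum
        intro χ hχ
        have hne : (χ : G → ℂ) ≠ fun _ => 1 := by
          intro h
          apply (Finset.mem_erase.mp hχ).1
          exact Subtype.ext h
        have := hcon χ hne (d χ) (hd χ)
        exact Nat.pow_le_pow_left this 2
      rw [Finset.card_erase_of_mem (Finset.mem_univ _), Finset.card_univ,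
        ← Nat.card_eq_fintype_card, card_irr_eq_card_conjClasses, smul_eq_mul] at hge
      obtain ⟨t, ht⟩ := hp2
      rw [ht] at hsum hmany
      have hp2pos : 0 < p ^ 2 := pow_pos hp.out.pos 2
      have htk : t < Nat.card (ConjClasses G) := lt_of_mul_lt_mul_left hmany (Nat.zero_le _)
      have h1 : p ^ 2 * t ≤ p ^ 2 * (Nat.card (ConjClasses G) - 1) :=
        Nat.mul_le_mul_left _ (by omega)
      have h2 : (Nat.card (ConjClasses G) - 1) * p ^ 2 = p ^ 2 * (Nat.card (ConjClasses G) - 1) :=
        mul_comm _ _
      omega
    obtain ⟨χ, hχ1, d, hd, hdp⟩ := hex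
    obtain ⟨n, ρ, hirr, hρ⟩ := χ.2
    have hnd : n = d := by
      have h1 : ρ.character 1 = (n : ℂ) := by rw [char_one]; simp
      rw [hρ, hd] at h1
      exact_mod_cast h1.symm
    have hfaith : Function.Injective ρ := faithful_of_simple ρ hirr (by rw [hρ]; exact hχ1)
    -- restrict to P
    let ρP : Representation ℂ (P : Subgroup G) (Fin n → ℂ) := ρ.comp (P : Subgroup G).subtype
    have hfaithP : Function.Injective ρP := by
      intro x y hxy
      exact Subtype.ext (hfaith hxy)
    have hdegP : ∀ q : ℕ, q.Prime → q ∣ Nat.card (P : Subgroup G) →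
        finrank ℂ (Fin n → ℂ) < q := by
      intro q hq hqdvd
      rw [hPcard] at hqdvd
      have := (Nat.prime_dvd_prime_iff_eq hq hp.out).mp (hq.dvd_of_dvd_pow hqdvd)
      rw [this]
      simp only [Module.finrank_fintype_fun_eq_card, Fintype.card_fin]
      omega
    have := comm_of_faithful_small_degree ρP hfaithP hdegP ⟨a, ha⟩ ⟨b, hb⟩
    exact congrArg Subtype.val this
  · -- |P| = p
    have hfac : (Nat.card G).factorization p = 1 := by
      have h1 : 1 ≤ (Nat.card G).factorization p :=
        (hp.out.dvd_iff_one_le_factorization Nat.card_pos.ne').mp hpn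
      have h2 : ¬ 2 ≤ (Nat.card G).factorization p := by
        intro h
        apply hp2
        exact (hp.out.pow_dvd_iff_le_factorization Nat.card_pos.ne').mpr h
      omega
    rw [hfac, pow_one] at hPcard
    haveI : IsCyclic (P : Subgroup G) := isCyclic_of_prime_card hPcard
    have := IsCyclic.commGroup.mul_comm (⟨a, ha⟩ : (P : Subgroup G)) ⟨b, hb⟩
    exact congrArg Subtype.val this

end Cfsg.Agent.Helper6
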