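import Mathlib
import Cfsg.Prelude.Def_Characters
import Cfsg.Prelude.Def_Blocks
import Cfsg.Prelude.Def_BrauerPairs
import Cfsg.Agent.Helper6.NormalPairBlock
import Cfsg.Agent.Helper6.StableDefect
import Cfsg.Agent.Helper6.BrauerIdem
import Cfsg.Agent.Helper6.BlockFusionRec1
import Cfsg.Agent.Helper6.DefectOrder

/-!
# Brauer pairs on a normal `p`-subgroup whose centralizer block is stable: idempotents and
defect groups
-/

set_option autoImplicit false
set_option linter.style.haveILetI false

namespace Cfsg.Agent.Helper6

open scoped ComplexConjugate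

universe u

variable {G : Type u} [Group G] {M : Ideal Cfsg.AlgInt}

/-- the block of a Brauer pair `(P, e)` with `P` normal and `e` stable has the idempotent of
`e` -/
theorem blockCoeff_of_stable_pair [Fintype G] {p : ℕ} [hp : Fact p.Prime]
    (hM : Cfsg.IsPModular p M) (P : Subgroup G) [hPn : P.Normal]
    (b : Set (Cfsg.IrrCharacter G))
    (e : Set (Cfsg.IrrCharacter (Subgroup.centralizer (P : Set G))))
    (hbe : Cfsg.IsBrauerPairOf p M b P e)
    (hst : ∀ x : G, Cfsg.StabilizesBlock (Subgroup.centralizer (P : Set G)) e x) (g : G) :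
    Cfsg.blockCoeff b g = Cfsg.subgroupBlockCoeff (Subgroup.centralizer (P : Set G)) e g := by
  classical
  have h1 := blockCoeff_eq_sum_conj hM P b e hbe ⊤
    (fun x => ⟨fun _ => hst x, fun _ => Subgroup.mem_top x⟩) g
  have h2 : ∀ x : G, Cfsg.subgroupBlockCoeff (Subgroup.centralizer (P : Set G)) e (x⁻¹ * g * x) =
      Cfsg.subgroupBlockCoeff (Subgroup.centralizer (P : Set G)) e g := by
    intro x
    rw [← subgroupBlockCoeff_nact, (nact_eq_self_iff _ x e).mpr (hst x)]
  rw [h1, Finset.sum_congr rfl (fun x _ => h2 x), Finset.sum_const, Finset.card_univ,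
    nsmul_eq_mul]
  have hc : Nat.card (⊤ : Subgroup G) = Fintype.card G := by
    rw [Subgroup.card_top, Nat.card_eq_fintype_card]
  rw [hc, ← mul_assoc, inv_mul_cancel₀, one_mul]
  have : 0 < Fintype.card G := Fintype.card_pos
  exact_mod_cast this.ne'

/-- **defect groups of a stable Brauer pair on a normal `p`-subgroup `P` with `G = P C_G(P)`**:
the block has defect group `P` iff the block of the centralizer has defect group `Z(P)` -/
theorem isDefectGroup_pair_iff [Fintype G] {p : ℕ} [hp : Fact p.Prime]
    (hM : Cfsg.IsPModular p M) (P : Subgroup G) [hPn : P.Normal]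
    (htop : P ⊔ Subgroup.centralizer (P : Set G) = ⊤)
    (b : Set (Cfsg.IrrCharacter G))
    (e : Set (Cfsg.IrrCharacter (Subgroup.centralizer (P : Set G))))
    (hbe : Cfsg.IsBrauerPairOf p M b P e)
    (hst : ∀ x : G, Cfsg.StabilizesBlock (Subgroup.centralizer (P : Set G)) e x) :
    Cfsg.IsDefectGroup p M b P ↔
      Cfsg.IsDefectGroup p M e
        ((P ⊓ Subgroup.centralizer (P : Set G)).subgroupOf (Subgroup.centralizer (P : Set G))) := by
  classical
  have hpp := hp.1
  have hP := hbe.1.1
  have he := hbe.1.2
  have hb := hbe.2.1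
  have hBc := blockCoeff_of_stable_pair hM P b e hbe hst
  constructor
  · intro hD
    exact (defectGroup_of_stable_gen hM _ e he hst b hBc P hD).2
  · intro hZ
    obtain ⟨D, hD⟩ := exists_isDefectGroup hM.2.1 p b hb
    obtain ⟨hidx, hDC⟩ := defectGroup_of_stable_gen hM _ e he hst b hBc D hD
    have hPD : P ≤ D := normal_pSubgroup_le_defectGroup hM P hP b hb D hD
    -- cardinalities of the intersections
    have hc1 := card_defectGroup hM.2.1 p hM.2.2 e he _ hZ
    have hc2 := card_defectGroup hM.2.1 p hM.2.2 e he _ hDC
    have hcard_inf : Nat.card (P ⊓ Subgroup.centralizer (P : Set G) : Subgroup G) =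
        Nat.card (D ⊓ Subgroup.centralizer (P : Set G) : Subgroup G) := by
      rw [← Nat.card_congr (Subgroup.subgroupOfEquivOfLe
        (inf_le_right : P ⊓ Subgroup.centralizer (P : Set G) ≤ _)).toEquiv, hc1, ← hc2,
        Nat.card_congr (Subgroup.subgroupOfEquivOfLe
        (inf_le_right : D ⊓ Subgroup.centralizer (P : Set G) ≤ _)).toEquiv]
    -- the index of the centralizer is a power of `p`
    have hrelP : (Subgroup.centralizer (P : Set G)).relIndex P =
        (Subgroup.centralizer (P : Set G)).index := by
      have h1 := Subgroup.relIndex_sup_right P (Subgroup.centralizer (P : Set G))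
      rw [htop, Subgroup.relIndex_top_right] at h1
      exact h1.symm
    have cP : Nat.card (P ⊓ Subgroup.centralizer (P : Set G) : Subgroup G) *
        (Subgroup.centralizer (P : Set G)).relIndex P = Nat.card P := by
      have h1 := Subgroup.relIndex_mul_relIndex (⊥ : Subgroup G)
        (P ⊓ Subgroup.centralizer (P : Set G)) P bot_le inf_le_left
      rw [Subgroup.relIndex_bot_left, Subgroup.relIndex_bot_left,
        Subgroup.inf_relIndex_left] at h1
      exact h1
    have cD : Nat.card (D ⊓ Subgroup.centralizer (P : Set G) : Subgroup G) *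
        (Subgroup.centralizer (P : Set G)).relIndex D = Nat.card D := by
      have h1 := Subgroup.relIndex_mul_relIndex (⊥ : Subgroup G)
        (D ⊓ Subgroup.centralizer (P : Set G)) D bot_le inf_le_left
      rw [Subgroup.relIndex_bot_left, Subgroup.relIndex_bot_left,
        Subgroup.inf_relIndex_left] at h1
      exact h1
    have hidxpow : ∃ k, (Subgroup.centralizer (P : Set G)).index = p ^ k := by
      have h1 : (Subgroup.centralizer (P : Set G)).index ∣ Nat.card P := by
        rw [← hrelP, ← cP]
        exact Dvd.intro_left _ rfl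
      obtain ⟨n, hn⟩ := IsPGroup.iff_card.mp hP
      rw [hn] at h1
      obtain ⟨k, -, hk⟩ := (Nat.dvd_prime_pow hpp).mp h1
      exact ⟨k, hk⟩
    have hsup : (Subgroup.centralizer (P : Set G) ⊔ D).index = 1 := by
      obtain ⟨k, hk⟩ := hidxpow
      have h1 : (Subgroup.centralizer (P : Set G) ⊔ D).index ∣ p ^ k := by
        rw [← hk]
        exact Subgroup.index_dvd_of_le le_sup_left
      obtain ⟨j, -, hj⟩ := (Nat.dvd_prime_pow hpp).mp h1
      rcases Nat.eq_zero_or_pos j with rfl | hjpos
      · rw [hj, pow_zero]
      · exfalso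
        apply hidx
        rw [hj]
        exact dvd_pow_self p hjpos.ne'
    have hrelD : (Subgroup.centralizer (P : Set G)).relIndex D =
        (Subgroup.centralizer (P : Set G)).index := by
      have h1 := Subgroup.relIndex_sup_right D (Subgroup.centralizer (P : Set G))
      have h2 : D ⊔ Subgroup.centralizer (P : Set G) = ⊤ := by
        rw [sup_comm]
        exact Subgroup.index_eq_one.mp hsup
      rw [h2, Subgroup.relIndex_top_right] at h1
      exact h1.symm
    have hcardDP : Nat.card D ≤ Nat.card P := by
      rw [← cP, ← cD, hrelP, hrelD, hcard_inf]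
    have := Subgroup.eq_of_le_of_card_ge hPD hcardDP
    rw [this]
    exact hD

end Cfsg.Agent.Helper6
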