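import Mathlib
import Cfsg.Prelude.Def_Characters
import Cfsg.Prelude.Def_Blocks
import Cfsg.Prelude.Def_BrauerPairs
import Cfsg.Agent.Helper6.CanonicalChar
import Cfsg.Agent.Helper6.PairLocalDefect
import Cfsg.Agent.Helper6.StabilizerCoeff
import Cfsg.Agent.Helper6.StabilizerIndex
import Cfsg.Agent.Helper6.CentralDefectB
import Cfsg.Agent.Helper6.CentDefect
import Cfsg.Agent.Helper6.LocalTransport
import Cfsg.Agent.Helper6.NormalizerBlock
import Cfsg.Agent.Helper6.MaximalPairDefect
import Cfsg.Agent.Helper6.MaximalPairNormalizer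
import Cfsg.Agent.Helper6.BrauerPair
import Cfsg.Agent.Helper6.LocalBlockConj
import Cfsg.Agent.Helper6.InducedTrans

/-!
# A criterion for a Brauer pair to be a maximal Brauer pair of some block
-/

set_option autoImplicit false
set_option linter.style.haveILetI false

namespace Cfsg.Agent.Helper6

open scoped ComplexConjugate

universe u

variable {G : Type u} [Group G] {M : Ideal Cfsg.AlgInt}

/-- for a normal subgroup `P`, every element of `P C_G(P)` stabilizes every set of irreducible
characters of `C_G(P)` -/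
theorem stabilizesBlock_of_mem_sup_centralizer [Finite G] (P : Subgroup G) [hPn : P.Normal]
    (e : Set (Cfsg.IrrCharacter (Subgroup.centralizer (P : Set G)))) (x : G)
    (hx : x ∈ P ⊔ Subgroup.centralizer (P : Set G)) :
    Cfsg.StabilizesBlock (Subgroup.centralizer (P : Set G)) e x := by
  have hx' : x ∈ ((P ⊔ Subgroup.centralizer (P : Set G) : Subgroup G) : Set G) := hx
  rw [Subgroup.normal_mul] at hx'
  obtain ⟨q, hq, c, hc, rfl⟩ := Set.mem_mul.mp hx'
  refine ⟨mem_normalizer_of_normal _ _, fun χ hχ => ⟨χ, hχ, ?_⟩⟩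
  intro k k' hk
  have hcf := IsCharacter.isClassFunction (IsIrrCharacter.isCharacter χ.2)
  have e1 : k' = (⟨c, hc⟩ : Subgroup.centralizer (P : Set G)) * k *
      (⟨c, hc⟩ : Subgroup.centralizer (P : Set G))⁻¹ := by
    apply Subtype.ext
    rw [hk]
    have hm : c * (k : G) * c⁻¹ ∈ Subgroup.centralizer (P : Set G) :=
      Subgroup.mul_mem _ (Subgroup.mul_mem _ hc k.2) (Subgroup.inv_mem _ hc)
    have h2 := Subgroup.mem_centralizer_iff.mp hm q hq
    show q * c * (k : G) * (q * c)⁻¹ = c * (k : G) * c⁻¹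
    have e2 : q * c * (k : G) * (q * c)⁻¹ = q * (c * (k : G) * c⁻¹) * q⁻¹ := by group
    rw [e2, h2]
    group
  rw [e1]
  exact hcf k _

/-- defect groups of a block of `C_G(P)` and of its transport into a local subgroup -/
theorem isDefectGroup_localBlock_iff [Finite G] {p : ℕ} [hp : Fact p.Prime] (K P : Subgroup G)
    (hPK : P ≤ K) (hCK : Subgroup.centralizer (P : Set G) ≤ K)
    (e : Set (Cfsg.IrrCharacter (Subgroup.centralizer (P : Set G))))
    (D : Subgroup (Subgroup.centralizer (P : Set G))) :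
    Cfsg.IsDefectGroup p M (localBlock K P hPK hCK e)
      (D.comap (centSubEquiv K P hPK hCK).toMonoidHom) ↔ Cfsg.IsDefectGroup p M e D := by
  constructor
  · intro h
    have h1 := isDefectGroup_comap_mulEquiv (M := M) (centSubEquiv K P hPK hCK).symm _ _ h
    have hcancel : ∀ χ : Cfsg.IrrCharacter (Subgroup.centralizer (P : Set G)),
        irrComp (centSubEquiv K P hPK hCK).symm (irrComp (centSubEquiv K P hPK hCK) χ) = χ := by
      intro χ
      have := irrComp_symm_cancel (centSubEquiv K P hPK hCK).symm χ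
      rwa [MulEquiv.symm_symm] at this
    have e1 : irrComp (centSubEquiv K P hPK hCK).symm '' (localBlock K P hPK hCK e) = e := by
      unfold localBlock
      rw [Set.image_image]
      simp only [hcancel]
      exact Set.image_id' e
    have e2 : (D.comap (centSubEquiv K P hPK hCK).toMonoidHom).comap
        (centSubEquiv K P hPK hCK).symm.toMonoidHom = D := by
      ext x
      simp only [Subgroup.mem_comap, MulEquiv.coe_toMonoidHom, MulEquiv.apply_symm_apply]
    rw [e1, e2] at h1
    exact h1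
  · intro h
    exact isDefectGroup_comap_mulEquiv (M := M) (centSubEquiv K P hPK hCK) e D h

set_option maxHeartbeats 1600000 in
/-- the block of `L = Q C_G(Q)` attached to a Brauer pair `(Q, e)`: its idempotent is that of `e`,
and it has defect group `Q` iff `e` has defect group `Z(Q)` -/
theorem pair_local_data [Fintype G] {p : ℕ} [hp : Fact p.Prime] (hM : Cfsg.IsPModular p M)
    (Q : Subgroup G) (e : Set (Cfsg.IrrCharacter (Subgroup.centralizer (Q : Set G))))
    (he : Cfsg.IsBrauerPair p M Q e) (L : Subgroup G) (hQL : Q ≤ L)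
    (hCL : Subgroup.centralizer (Q : Set G) ≤ L)
    (hLsup : L ≤ Q ⊔ Subgroup.centralizer (Q : Set G)) :
    ∃ b : Set (Cfsg.IrrCharacter L),
      Cfsg.IsBrauerPairOf p M b (Q.subgroupOf L) (localBlock L Q hQL hCL e) ∧
      (∀ x : G, Cfsg.subgroupBlockCoeff L b x =
        Cfsg.subgroupBlockCoeff (Subgroup.centralizer (Q : Set G)) e x) ∧
      (Cfsg.IsDefectGroup p M b (Q.subgroupOf L) ↔
        Cfsg.IsDefectGroup p M e ((Q ⊓ Subgroup.centralizer (Q : Set G)).subgroupOf
          (Subgroup.centralizer (Q : Set G)))) := by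
  classical
  have hQ := he.1
  have heb := he.2
  have hLN : L ≤ Subgroup.normalizer (Q : Set G) :=
    hLsup.trans (sup_le Subgroup.le_normalizer (Subgroup.centralizer_le_normalizer _))
  haveI hQn : (Q.subgroupOf L).Normal := Subgroup.normal_subgroupOf_of_le_normalizer hLN
  haveI : Fintype L := Fintype.ofFinite _
  have hQ₁ : IsPGroup p (Q.subgroupOf L) := hQ.comap_subtype
  have he₁ := isPBlock_localBlock (M := M) L Q hQL hCL e heb
  obtain ⟨b, hb, -⟩ := existsUnique_isBrauerPairOf hM (Q.subgroupOf L)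
    (localBlock L Q hQL hCL e) ⟨hQ₁, he₁⟩
  have htop : Q.subgroupOf L ⊔ Subgroup.centralizer ((Q.subgroupOf L : Subgroup L) : Set L) =
      ⊤ := by
    rw [eq_top_iff]
    intro x _
    have hx : (x : G) ∈ ((Q ⊔ Subgroup.centralizer (Q : Set G) : Subgroup G) : Set G) :=
      hLsup x.2
    rw [Subgroup.coe_mul_of_right_le_normalizer_left Q _
      (Subgroup.centralizer_le_normalizer _)] at hx
    obtain ⟨q, hq, c, hc, hqc⟩ := Set.mem_mul.mp hx
    have hxe : x = (⟨q, hQL hq⟩ : L) * (⟨c, hCL hc⟩ : L) := Subtype.ext hqc.symm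
    rw [hxe]
    exact Subgroup.mul_mem _ (Subgroup.mem_sup_left (Subgroup.mem_subgroupOf.mpr hq))
      (Subgroup.mem_sup_right ((mem_centralizer_subgroupOf_iff L Q hQL _).mpr hc))
  have hst : ∀ x : L, Cfsg.StabilizesBlock
      (Subgroup.centralizer ((Q.subgroupOf L : Subgroup L) : Set L))
      (localBlock L Q hQL hCL e) x := fun x =>
    stabilizesBlock_of_mem_sup_centralizer _ _ x (by rw [htop]; exact Subgroup.mem_top x)
  have hBc := blockCoeff_of_stable_pair hM (Q.subgroupOf L) b _ hb hst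
  refine ⟨b, hb, ?_, ?_⟩
  · intro x
    by_cases hx : x ∈ L
    · rw [subgroupBlockCoeff_of_mem _ _ _ hx, hBc ⟨x, hx⟩, subgroupBlockCoeff_localBlock]
    · have hx' : x ∉ Subgroup.centralizer (Q : Set G) := fun h => hx (hCL h)
      rw [subgroupBlockCoeff_of_not_mem _ _ _ hx, subgroupBlockCoeff_of_not_mem _ _ _ hx']
  · rw [isDefectGroup_pair_iff hM (Q.subgroupOf L) htop b _ hb hst]
    have hcomap : ((Q.subgroupOf L ⊓
        Subgroup.centralizer ((Q.subgroupOf L : Subgroup L) : Set L)).subgroupOf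
        (Subgroup.centralizer ((Q.subgroupOf L : Subgroup L) : Set L))) =
        ((Q ⊓ Subgroup.centralizer (Q : Set G)).subgroupOf
          (Subgroup.centralizer (Q : Set G))).comap
          (centSubEquiv L Q hQL hCL).toMonoidHom := by
      ext x
      simp only [Subgroup.mem_subgroupOf, Subgroup.mem_inf, Subgroup.mem_comap,
        MulEquiv.coe_toMonoidHom]
      constructor
      · rintro ⟨h1, -⟩
        exact ⟨h1, (centSubEquiv L Q hQL hCL x).2⟩
      · rintro ⟨h1, -⟩
        exact ⟨h1, x.2⟩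
    rw [hcomap]
    exact isDefectGroup_localBlock_iff L Q hQL hCL e _

set_option maxHeartbeats 1600000 in
/-- the common setup: the block `b` of `L = Q C_G(Q)`, the block `B` of `G`, and the stabilizer
`T` attached to a Brauer pair `(Q, e)` -/
theorem pair_setup [Fintype G] {p : ℕ} [hp : Fact p.Prime] (hM : Cfsg.IsPModular p M)
    (Q : Subgroup G) (e : Set (Cfsg.IrrCharacter (Subgroup.centralizer (Q : Set G))))
    (he : Cfsg.IsBrauerPair p M Q e) :
    ∃ (b : Set (Cfsg.IrrCharacter (Q ⊔ Subgroup.centralizer (Q : Set G) : Subgroup G)))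
      (B : Set (Cfsg.IrrCharacter G)) (T : Subgroup G),
      Cfsg.IsBrauerPairOf p M B Q e ∧
      (∀ B' : Set (Cfsg.IrrCharacter G), Cfsg.IsBrauerPairOf p M B' Q e → B' = B) ∧
      Cfsg.IsInducedBlock M (Q ⊔ Subgroup.centralizer (Q : Set G)) b B ∧
      (Cfsg.IsDefectGroup p M b (Q.subgroupOf (Q ⊔ Subgroup.centralizer (Q : Set G))) ↔
        Cfsg.IsDefectGroup p M e ((Q ⊓ Subgroup.centralizer (Q : Set G)).subgroupOf
          (Subgroup.centralizer (Q : Set G)))) ∧
      T ≤ Subgroup.normalizer (Q : Set G) ∧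
      (∀ g ∈ Subgroup.normalizer (Q : Set G),
        g ∈ T ↔ Cfsg.StabilizesBlock (Subgroup.centralizer (Q : Set G)) e g) ∧
      (Cfsg.IsDefectGroup p M b (Q.subgroupOf (Q ⊔ Subgroup.centralizer (Q : Set G))) →
        (Cfsg.IsDefectGroup p M B Q ↔
          ¬ p ∣ (Q ⊔ Subgroup.centralizer (Q : Set G)).relIndex T)) := by
  classical
  have hQ := he.1
  obtain ⟨L, hL⟩ : ∃ L : Subgroup G, L = Q ⊔ Subgroup.centralizer (Q : Set G) := ⟨_, rfl⟩
  rw [← hL]
  have hQL : Q ≤ L := hL ▸ le_sup_left
  have hCL : Subgroup.centralizer (Q : Set G) ≤ L := hL ▸ le_sup_right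
  have hLN : L ≤ Subgroup.normalizer (Q : Set G) :=
    hL ▸ sup_le Subgroup.le_normalizer (Subgroup.centralizer_le_normalizer _)
  have hNL : Subgroup.normalizer (Q : Set G) ≤ Subgroup.normalizer (L : Set G) :=
    hL ▸ normalizer_le_normalizer_sup_centralizer Q
  obtain ⟨b, hb, hcoef, hdef⟩ := pair_local_data hM Q e he L hQL hCL hL.le
  obtain ⟨B, hB, huniq⟩ := existsUnique_isBrauerPairOf hM Q e he
  have hind := isInducedBlock_of_localBlock hM Q L hQL hCL hLN B e hB b hb
  obtain ⟨T, hTdef⟩ : ∃ T : Subgroup G, T =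
      fnConjStab (Cfsg.subgroupBlockCoeff (Subgroup.centralizer (Q : Set G)) e) ⊓
        Subgroup.normalizer (Q : Set G) := ⟨_, rfl⟩
  have hTN : T ≤ Subgroup.normalizer (Q : Set G) := hTdef ▸ inf_le_right
  have hTe : ∀ g ∈ Subgroup.normalizer (Q : Set G),
      g ∈ T ↔ Cfsg.StabilizesBlock (Subgroup.centralizer (Q : Set G)) e g := by
    intro g hg
    rw [hTdef, Subgroup.mem_inf, stabilizesBlock_iff_subgroupBlockCoeff _ g
      (normalizer_le_normalizer_centralizer Q hg) e, mem_fnConjStab]
    exact and_iff_left hg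
  have hT : ∀ g : G, g ∈ T ↔
      g ∈ Subgroup.normalizer (Q : Set G) ∧ Cfsg.StabilizesBlock L b g := by
    intro g
    constructor
    · intro hg
      have hgN := hTN hg
      refine ⟨hgN, ?_⟩
      rw [stabilizesBlock_iff_subgroupBlockCoeff L g (hNL hgN) b]
      intro x
      rw [hcoef, hcoef]
      rw [hTdef, Subgroup.mem_inf, mem_fnConjStab] at hg
      exact hg.1 x
    · rintro ⟨hgN, hst⟩
      rw [hTdef, Subgroup.mem_inf, mem_fnConjStab]
      refine ⟨?_, hgN⟩
      intro x
      rw [← hcoef, ← hcoef]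
      exact (stabilizesBlock_iff_subgroupBlockCoeff L g (hNL hgN) b).mp hst x
  refine ⟨b, B, T, hB, fun B' hB' => huniq B' hB', hind, hdef, hTN, hTe, ?_⟩
  intro hDb
  exact defect_iff_stabilizer_index hM Q L hQ hQL hCL hLN hNL b hDb B hind T hT

end Cfsg.Agent.Helper6
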