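import Mathlib
import Cfsg.Agent.Helper6.MaxPairCriterion

/-!
# A criterion for a Brauer pair to be a maximal Brauer pair of some block: the statement
-/

set_option autoImplicit false
set_option linter.style.haveILetI false

namespace Cfsg.Agent.Helper6

open scoped ComplexConjugate

universe u

variable {G : Type u} [Group G] {M : Ideal Cfsg.AlgInt}

/-- a `p`-element of `T` lies in the normal subgroup `L` of `T` of index prime to `p` -/
theorem mem_of_pElement_of_relIndex [Finite G] {p : ℕ} [hp : Fact p.Prime] (L T : Subgroup G)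
    (hTL : T ≤ Subgroup.normalizer (L : Set G)) (hidx : ¬ p ∣ L.relIndex T) (g : G) (hg : g ∈ T)
    (k : ℕ) (hk : orderOf g = p ^ k) : g ∈ L := by
  haveI : (L.subgroupOf T).Normal := Subgroup.normal_subgroupOf_of_le_normalizer hTL
  have h1 := Subgroup.pow_index_mem (L.subgroupOf T) (⟨g, hg⟩ : T)
  have h2 : g ^ L.relIndex T ∈ L := by
    rw [Subgroup.mem_subgroupOf] at h1
    exact h1
  have hcop : Nat.Coprime (L.relIndex T) (orderOf g) := by
    rw [hk]
    exact ((Nat.Prime.coprime_iff_not_dvd hp.1).mpr hidx).symm.pow_right k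
  obtain ⟨m, hm⟩ := exists_pow_eq_self_of_coprime hcop
  rw [← hm]
  exact Subgroup.pow_mem _ h2 m

/-- if `p` divides the index of the normal subgroup `L` of `T`, some `p`-element of `T` lies
outside `L` -/
theorem exists_pElement_not_mem [Finite G] {p : ℕ} [hp : Fact p.Prime] (L T : Subgroup G)
    (hTL : T ≤ Subgroup.normalizer (L : Set G)) (hidx : p ∣ L.relIndex T) :
    ∃ u ∈ T, (∃ k : ℕ, orderOf u = p ^ k) ∧ u ∉ L := by
  haveI : (L.subgroupOf T).Normal := Subgroup.normal_subgroupOf_of_le_normalizer hTL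
  have hcard : p ∣ Nat.card (T ⧸ L.subgroupOf T) := by
    rw [← Subgroup.index_eq_card]
    exact hidx
  obtain ⟨x, hx⟩ := exists_prime_orderOf_dvd_card' (G := T ⧸ L.subgroupOf T) p hcard
  obtain ⟨t, rfl⟩ := QuotientGroup.mk_surjective x
  have hn0 : orderOf t ≠ 0 := (orderOf_pos t).ne'
  obtain ⟨a, m, hpm, hn⟩ := Nat.exists_eq_pow_mul_and_not_dvd hn0 p hp.1.ne_one
  refine ⟨((t ^ m : T) : G), (t ^ m).2, ?_, ?_⟩
  · have h1 : (t ^ m) ^ (p ^ a) = 1 := by
      rw [← pow_mul, mul_comm, ← hn, pow_orderOf_eq_one]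
    have h2 : orderOf (t ^ m) ∣ p ^ a := orderOf_dvd_of_pow_eq_one h1
    obtain ⟨j, -, hj⟩ := (Nat.dvd_prime_pow hp.1).mp h2
    exact ⟨j, by rw [Subgroup.orderOf_coe, hj]⟩
  · intro hmem
    have h1 : (t ^ m : T) ∈ L.subgroupOf T := Subgroup.mem_subgroupOf.mpr hmem
    have h2 : ((t ^ m : T) : T ⧸ L.subgroupOf T) = 1 := (QuotientGroup.eq_one_iff _).mpr h1
    rw [QuotientGroup.mk_pow] at h2
    have h3 := orderOf_dvd_of_pow_eq_one h2
    rw [hx] at h3
    exact hpm h3

set_option maxHeartbeats 1600000 in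
/-- **S4828**: `(Q, e)` is a maximal Brauer pair of some block iff `e` contains a character
trivial on `Z(Q)` of defect zero modulo `Z(Q)` and the stabilizer of `e` in `N_G(Q)` has no
`p`-elements outside `Q C_G(Q)` -/
theorem maximal_pair_criterion [Fintype G] {p : ℕ} [hp : Fact p.Prime]
    (hM : Cfsg.IsPModular p M) (Q : Subgroup G)
    (e : Set (Cfsg.IrrCharacter (Subgroup.centralizer (Q : Set G))))
    (he : Cfsg.IsBrauerPair p M Q e) :
    (∃ B : Set (Cfsg.IrrCharacter G), Cfsg.IsMaximalBrauerPair p M B Q e) ↔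
      ∃ θ ∈ e, (∀ z : Subgroup.centralizer (Q : Set G), (z : G) ∈ Q →
          (θ : Subgroup.centralizer (Q : Set G) → ℂ) z =
            (θ : Subgroup.centralizer (Q : Set G) → ℂ) 1) ∧
        (Cfsg.charDegree (θ : Subgroup.centralizer (Q : Set G) → ℂ)).factorization p +
          (Nat.card ↥(Q ⊓ Subgroup.centralizer (Q : Set G))).factorization p =
          (Nat.card (Subgroup.centralizer (Q : Set G))).factorization p ∧
        (∀ g : G, g ∈ Subgroup.normalizer (Q : Set G) →
          Cfsg.StabilizesBlock (Subgroup.centralizer (Q : Set G)) e g →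
          (∃ k : ℕ, orderOf g = p ^ k) → g ∈ Q ⊔ Subgroup.centralizer (Q : Set G)) := by
  classical
  haveI : Fintype (Subgroup.centralizer (Q : Set G)) := Fintype.ofFinite _
  have hQ := he.1
  have heb := he.2
  obtain ⟨b, B, T, hB, huniq, hind, hdef, hTN, hTe, hS⟩ := pair_setup hM Q e he
  have hNL := normalizer_le_normalizer_sup_centralizer Q
  have hQL : Q ≤ Q ⊔ Subgroup.centralizer (Q : Set G) := le_sup_left
  have hLN : Q ⊔ Subgroup.centralizer (Q : Set G) ≤ Subgroup.normalizer (Q : Set G) :=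
    sup_le Subgroup.le_normalizer (Subgroup.centralizer_le_normalizer _)
  obtain ⟨Z, hZdef⟩ : ∃ Z : Subgroup (Subgroup.centralizer (Q : Set G)),
      Z = (Q ⊓ Subgroup.centralizer (Q : Set G)).subgroupOf (Subgroup.centralizer (Q : Set G)) :=
    ⟨_, rfl⟩
  rw [← hZdef] at hdef
  have hZmem : ∀ z : Subgroup.centralizer (Q : Set G), z ∈ Z ↔ (z : G) ∈ Q := by
    intro z
    rw [hZdef, Subgroup.mem_subgroupOf, Subgroup.mem_inf]
    exact and_iff_left z.2
  have hZc : Z ≤ Subgroup.center (Subgroup.centralizer (Q : Set G)) := by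
    intro z hz
    rw [Subgroup.mem_center_iff]
    intro c
    apply Subtype.ext
    exact (Subgroup.mem_centralizer_iff.mp c.2 (z : G) ((hZmem z).mp hz)).symm
  have hZp : IsPGroup p Z := by
    rw [hZdef]
    exact (hQ.to_le inf_le_left).comap_subtype
  have hZcard : Nat.card Z = Nat.card ↥(Q ⊓ Subgroup.centralizer (Q : Set G)) := by
    rw [hZdef]
    exact Nat.card_congr (Subgroup.subgroupOfEquivOfLe inf_le_right).toEquiv
  constructor
  · rintro ⟨B', hmax⟩
    have hBB' := huniq B' hmax.1
    subst hBB'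
    have hDB := isDefectGroup_of_isMaximalBrauerPair hM B' Q e hmax
    have hDb := isDefectGroup_of_induced_local hM Q _ hQ hQL hLN B' hDB b hind
    have hZ := hdef.mp hDb
    obtain ⟨θ, hθe, hker, hdeg⟩ := exists_canonical_char hM e heb Z hZ hZc
    refine ⟨θ, hθe, fun z hz => hker z ((hZmem z).mpr hz), ?_, ?_⟩
    · rw [← hZcard]
      exact hdeg
    · rintro g hgN hgst ⟨k, hk⟩
      have hgT := (hTe g hgN).mpr hgst
      have hidx := (hS hDb).mp hDB
      exact mem_of_pElement_of_relIndex _ T (hTN.trans hNL) hidx g hgT k hk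
  · rintro ⟨θ, hθe, hker, hdeg, hstab⟩
    have hdeg' : (Cfsg.charDegree (θ : Subgroup.centralizer (Q : Set G) → ℂ)).factorization p =
        Z.index.factorization p := by
      have h1 : (Nat.card Z).factorization p + Z.index.factorization p =
          (Nat.card (Subgroup.centralizer (Q : Set G))).factorization p := by
        rw [← Subgroup.card_mul_index Z, Nat.factorization_mul Nat.card_pos.ne'
          Subgroup.index_ne_zero_of_finite]
        rfl
      rw [hZcard] at h1
      omega
    have hZ' := (central_full_degree hM Z hZp hZc θ hdeg').1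
    rw [← eq_blockOf_of_mem hM.2.1 e heb θ hθe] at hZ'
    have hDb := hdef.mpr hZ'
    have hidx : ¬ p ∣ (Q ⊔ Subgroup.centralizer (Q : Set G)).relIndex T := by
      intro hdvd
      obtain ⟨u, huT, hupow, huL⟩ := exists_pElement_not_mem _ T (hTN.trans hNL) hdvd
      exact huL (hstab u (hTN huT) ((hTe u (hTN huT)).mp huT) hupow)
    have hDB := (hS hDb).mpr hidx
    have hcard := card_defectGroup hM.2.1 p hM.2.2 B hB.2.1 Q hDB
    exact ⟨B, isMaximalBrauerPair_of_card_eq hM B Q e hB hcard⟩

end Cfsg.Agent.Helper6
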