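import Mathlib

/-!
# Recognising the symmetric group of degree four

A group of order `24` with a self-centralising normal subgroup of order `4` is isomorphic to
`Equiv.Perm (Fin 4)` (via its action on its four Sylow `3`-subgroups).
-/

set_option autoImplicit false
set_option linter.style.haveILetI false

namespace Cfsg.Agent.Helper6.RootU

universe u

section Recognise

variable {H : Type u} [Group H]

theorem factorization_24_3 : (24 : ℕ).factorization 3 = 1 := by
  have h : (24 : ℕ) = 3 ^ 1 * 8 := by norm_num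
  rw [h, Nat.factorization_mul (by norm_num) (by norm_num), Nat.Prime.factorization_pow Nat.prime_three]
  simp [Nat.factorization_eq_zero_of_not_dvd (show ¬ 3 ∣ 8 by norm_num)]

/-- A Sylow `3`-subgroup of a group of order `24` has order `3`. -/
theorem sylow3_card [Finite H] (hH : Nat.card H = 24) (T : Sylow 3 H) :
    Nat.card (T : Subgroup H) = 3 := by
  haveI : Fact (Nat.Prime 3) := ⟨Nat.prime_three⟩
  rw [Sylow.card_eq_multiplicity, hH, factorization_24_3, pow_one]

/-- A subgroup of order `3` does not centralise a self-centralising normal subgroup of order 4. -/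
theorem not_le_of_card_three [Finite H] (P : Subgroup H) (hP : Nat.card P = 4)
    (hC : Subgroup.centralizer (P : Set H) ≤ P) (T : Subgroup H) (hT : Nat.card T = 3) :
    ¬ T ≤ Subgroup.centralizer (P : Set H) := by
  intro hle
  have h1 : T ≤ P := hle.trans hC
  have h2 : Nat.card T ∣ Nat.card P := Subgroup.card_dvd_of_le h1
  rw [hT, hP] at h2
  omega

theorem inf_eq_bot_of_card [Finite H] (P : Subgroup H) (hP : Nat.card P = 4)
    (T : Subgroup H) (hT : Nat.card T = 3) : T ⊓ P = ⊥ := by
  apply disjoint_iff.mp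
  apply Subgroup.disjoint_of_coprime_natCard
  rw [hP, hT]
  norm_num

/-- A subgroup of order `3` has no nontrivial fixed point on a self-centralising normal subgroup
of order `4`. -/
theorem fixed_eq_one [Finite H] (P : Subgroup H) [hPn : P.Normal] (hP : Nat.card P = 4)
    (hC : Subgroup.centralizer (P : Set H) ≤ P) (T : Subgroup H) (hT : Nat.card T = 3)
    (x : H) (hx : x ∈ P) (hfix : ∀ t ∈ T, t * x * t⁻¹ = x) : x = 1 := by
  haveI : Fact (Nat.Prime 3) := ⟨Nat.prime_three⟩
  have hT3 : IsPGroup 3 T := IsPGroup.of_card (n := 1) (by rw [hT, pow_one])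
  letI act : MulAction T P := MulAction.compHom P ((MulAut.conjNormal (H := P)).comp T.subtype)
  have hsmul : ∀ (t : T) (y : P), ((t • y : P) : H) = (t : H) * y * (t : H)⁻¹ := by
    intro t y
    rfl
  have hmod := hT3.card_modEq_card_fixedPoints P
  rw [hP] at hmod
  have h1' : (1 : P) ∈ MulAction.fixedPoints T P := by
    intro t
    apply Subtype.ext
    rw [hsmul]
    simp
  have hx' : (⟨x, hx⟩ : P) ∈ MulAction.fixedPoints T P := by
    intro t
    apply Subtype.ext
    rw [hsmul]
    exact hfix t t.2
  have hle : Nat.card (MulAction.fixedPoints T P) ≤ 4 := by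
    rw [← hP]
    exact Nat.card_le_card_of_injective _ Subtype.val_injective
  haveI : Nonempty (MulAction.fixedPoints T P) := ⟨⟨1, h1'⟩⟩
  have hpos : 0 < Nat.card (MulAction.fixedPoints T P) := Nat.card_pos
  have hcases : Nat.card (MulAction.fixedPoints T P) = 1 ∨
      Nat.card (MulAction.fixedPoints T P) = 4 := by
    unfold Nat.ModEq at hmod
    omega
  rcases hcases with h1 | h4
  · have hu := (Nat.card_eq_one_iff_unique.mp h1).1
    have heq : (⟨⟨x, hx⟩, hx'⟩ : MulAction.fixedPoints T P) = ⟨1, h1'⟩ := hu.elim _ _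
    have := congrArg (fun z : MulAction.fixedPoints T P => ((z : P) : H)) heq
    simpa using this
  · exfalso
    apply not_le_of_card_three P hP hC T hT
    have hbij : Function.Bijective (Subtype.val : MulAction.fixedPoints T P → P) := by
      apply Function.Injective.bijective_of_nat_card_le Subtype.val_injective
      rw [h4, hP]
    intro t ht
    rw [Subgroup.mem_centralizer_iff]
    intro y hy
    obtain ⟨⟨y', hy'⟩, hyy⟩ := hbij.2 ⟨y, hy⟩
    have h2 := hy' ⟨t, ht⟩
    have h3 := congrArg (fun z : P => (z : H)) h2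
    simp only [hsmul] at h3
    simp only at hyy
    rw [hyy] at h3
    simp only at h3
    rw [← h3]
    simp only [inv_mul_cancel_right]
    rw [h3]

/-- A group of order `24` with a self-centralising normal subgroup of order `4` is isomorphic to
the symmetric group of degree `4`. -/
theorem perm_four_of_card [Finite H] (hH : Nat.card H = 24) (P : Subgroup H) [hPn : P.Normal]
    (hP : Nat.card P = 4) (hC : Subgroup.centralizer (P : Set H) ≤ P) :
    Nonempty (H ≃* Equiv.Perm (Fin 4)) := by
  haveI : Fact (Nat.Prime 3) := ⟨Nat.prime_three⟩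
  obtain ⟨T⟩ := (inferInstance : Nonempty (Sylow 3 H))
  have hT := sylow3_card hH T
  have hTP := inf_eq_bot_of_card P hP (T : Subgroup H) hT
  have hidx : (T : Subgroup H).index = 8 := by
    have := Subgroup.card_mul_index (T : Subgroup H)
    rw [hT, hH] at this
    omega
  have hdvd : Nat.card (Sylow 3 H) ∣ 8 := hidx ▸ T.card_dvd_index
  have hmod : Nat.card (Sylow 3 H) ≡ 1 [MOD 3] := card_sylow_modEq_one 3 H
  have hn : Nat.card (Sylow 3 H) = 1 ∨ Nat.card (Sylow 3 H) = 4 := by
    have hle := Nat.le_of_dvd (by norm_num) hdvd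
    unfold Nat.ModEq at hmod
    generalize Nat.card (Sylow 3 H) = n at *
    interval_cases n <;> omega
  have hn4 : Nat.card (Sylow 3 H) = 4 := by
    rcases hn with h1 | h4
    · exfalso
      have hnorm : Subgroup.normalizer ((T : Subgroup H) : Set H) = ⊤ := by
        have h2 := T.card_eq_index_normalizer
        rw [h1] at h2
        exact Subgroup.index_eq_one.mp h2.symm
      have hTn : (T : Subgroup H).Normal := Subgroup.normalizer_eq_top_iff.mp hnorm
      apply not_le_of_card_three P hP hC T hT
      intro t ht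
      rw [Subgroup.mem_centralizer_iff]
      intro y hy
      exact (Subgroup.commute_of_normal_of_disjoint _ _ hTn hPn (disjoint_iff.mpr hTP)
        t y ht hy).eq.symm
    · exact h4
  let ρ : H →* Equiv.Perm (Sylow 3 H) := MulAction.toPermHom H (Sylow 3 H)
  have hker : ρ.ker = ⊥ := by
    have hXnorm : ∀ x ∈ ρ.ker, ∀ Q : Sylow 3 H, x ∈ Subgroup.normalizer ((Q : Subgroup H) : Set H) := by
      intro x hx Q
      have h1 : ρ x = 1 := hx
      have h2 := congrArg (fun σ => σ Q) h1
      have h3 : x • Q = Q := by simpa [ρ] using h2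
      exact Sylow.smul_eq_iff_mem_normalizer.mp h3
    have hXP : ρ.ker ⊓ P = ⊥ := by
      rw [eq_bot_iff]
      rintro x ⟨hxX, hxP⟩
      rw [Subgroup.mem_bot]
      apply fixed_eq_one P hP hC T hT x hxP
      intro t ht
      have hxN := hXnorm x hxX T
      have h1 : x * t * x⁻¹ ∈ (T : Subgroup H) := (Subgroup.mem_normalizer_iff.mp hxN t).mp ht
      have h2 : x * t * x⁻¹ * t⁻¹ ∈ (T : Subgroup H) :=
        Subgroup.mul_mem _ h1 (Subgroup.inv_mem _ ht)
      have h3 : x * t * x⁻¹ * t⁻¹ ∈ P := by
        have : x * t * x⁻¹ * t⁻¹ = x * (t * x⁻¹ * t⁻¹) := by group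
        rw [this]
        exact Subgroup.mul_mem _ hxP (hPn.conj_mem _ (Subgroup.inv_mem _ hxP) t)
      have h4 : x * t * x⁻¹ * t⁻¹ ∈ (T : Subgroup H) ⊓ P := ⟨h2, h3⟩
      rw [hTP, Subgroup.mem_bot] at h4
      have h5 : x * t = t * x := by
        have := congrArg (fun z => z * t * x) h4
        simpa [mul_assoc] using this
      rw [← h5]
      simp
    have hXc : ρ.ker ≤ Subgroup.centralizer (P : Set H) := by
      intro x hx
      rw [Subgroup.mem_centralizer_iff]
      intro y hy
      exact (Subgroup.commute_of_normal_of_disjoint _ _ (inferInstance : ρ.ker.Normal) hPn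
        (disjoint_iff.mpr hXP) x y hx hy).eq.symm
    rw [eq_bot_iff]
    intro x hx
    have : x ∈ ρ.ker ⊓ P := ⟨hx, hC (hXc hx)⟩
    rwa [hXP] at this
  have hinj : Function.Injective ρ := (MonoidHom.ker_eq_bot_iff ρ).mp hker
  let e : Sylow 3 H ≃ Fin 4 := Finite.equivFinOfCardEq hn4
  let ρ' : H →* Equiv.Perm (Fin 4) := (e.permCongrHom).toMonoidHom.comp ρ
  have hinj' : Function.Injective ρ' := e.permCongrHom.injective.comp hinj
  have hbij : Function.Bijective ρ' := by
    apply hinj'.bijective_of_nat_card_le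
    rw [hH, Nat.card_eq_fintype_card, Fintype.card_perm, Fintype.card_fin]
    decide
  exact ⟨MulEquiv.ofBijective ρ' hbij⟩

end Recognise

section Transfer

variable {G : Type u} [Group G]

theorem card_sup_eq_mul_relIndex [Finite G] (H K : Subgroup G) [K.Normal] :
    Nat.card ↥(H ⊔ K) = Nat.card K * K.relIndex H := by
  have h1 : Nat.card ↥(K.subgroupOf (H ⊔ K)) * (K.subgroupOf (H ⊔ K)).index =
      Nat.card ↥(H ⊔ K) := Subgroup.card_mul_index _
  have h2 : Nat.card ↥(K.subgroupOf (H ⊔ K)) = Nat.card K :=
    Nat.card_congr (Subgroup.subgroupOfEquivOfLe (le_sup_right : K ≤ H ⊔ K)).toEquiv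
  have h3 : (K.subgroupOf (H ⊔ K)).index = K.relIndex H := Subgroup.relIndex_sup_right H K
  rw [← h1, h2, h3]

theorem card_sup_of_inf_bot [Finite G] (H K : Subgroup G) [K.Normal] (h : H ⊓ K = ⊥) :
    Nat.card ↥(H ⊔ K) = Nat.card H * Nat.card K := by
  rw [card_sup_eq_mul_relIndex, ← Subgroup.inf_relIndex_right, inf_comm, h,
    Subgroup.relIndex_bot_left, mul_comm]

open scoped IsMulCommutative in
/-- The transfer into an abelian subgroup `A` raises central elements to the power `|G : A|`. -/
theorem transfer_central [Finite G] (A : Subgroup G) [IsMulCommutative A] (z : G)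
    (hz : z ∈ Subgroup.center G) :
    ((MonoidHom.transfer (MonoidHom.id A) z : A) : G) = z ^ A.index := by
  have key : ∀ (k : ℕ) (g₀ : G), g₀⁻¹ * z ^ k * g₀ ∈ A → g₀⁻¹ * z ^ k * g₀ = z ^ k := by
    intro k g₀ _
    have hc : z ^ k ∈ Subgroup.center G := Subgroup.pow_mem _ hz k
    rw [Subgroup.mem_center_iff] at hc
    rw [mul_assoc, ← hc g₀, inv_mul_cancel_left]
  rw [MonoidHom.transfer_eq_pow (MonoidHom.id A) z key]
  rfl

open scoped IsMulCommutative in
/-- The kernel of the transfer into an abelian subgroup containing the centre, of index coprime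
to the order of the centre. -/
theorem exists_transfer_kernel [Finite G] (A : Subgroup G)
    (hA : ∀ a ∈ A, ∀ b ∈ A, a * b = b * a)
    (hcop : (A.index).Coprime (Nat.card (Subgroup.center G))) :
    ∃ K : Subgroup G, K.Normal ∧ K ⊓ Subgroup.center G = ⊥ ∧
      Nat.card (Subgroup.center G) ∣ K.index ∧ K.index ∣ Nat.card A ∧
      ∀ x : G, (orderOf x).Coprime (Nat.card A) → x ∈ K := by
  haveI : IsMulCommutative A := ⟨⟨fun a b => Subtype.ext (hA a a.2 b b.2)⟩⟩
  let W : G →* A := MonoidHom.transfer (MonoidHom.id A)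
  have hinf : W.ker ⊓ Subgroup.center G = ⊥ := by
    rw [eq_bot_iff]
    rintro z ⟨hzK, hzZ⟩
    rw [Subgroup.mem_bot]
    have h1 : W z = 1 := hzK
    have h2 : ((W z : A) : G) = z ^ A.index := transfer_central A z hzZ
    rw [h1] at h2
    have h3 : orderOf z ∣ A.index := orderOf_dvd_of_pow_eq_one h2.symm
    have h4 : orderOf z ∣ Nat.card (Subgroup.center G) := by
      have : orderOf (⟨z, hzZ⟩ : Subgroup.center G) ∣ Nat.card (Subgroup.center G) :=
        orderOf_dvd_natCard _
      rwa [Subgroup.orderOf_mk] at this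
    have h5 : orderOf z ∣ 1 := by
      have := Nat.dvd_gcd h3 h4
      rwa [hcop] at this
    exact orderOf_eq_one_iff.mp (Nat.dvd_one.mp h5)
  refine ⟨W.ker, inferInstance, hinf, ?_, ?_, ?_⟩
  · rw [Subgroup.index_ker]
    have h1 : W.ker.relIndex (Subgroup.center G) = Nat.card ((Subgroup.center G).map W) :=
      Subgroup.relIndex_ker _ W
    have h2 : W.ker.relIndex (Subgroup.center G) = Nat.card (Subgroup.center G) := by
      rw [← Subgroup.inf_relIndex_right, hinf, Subgroup.relIndex_bot_left]
    rw [← h2, h1]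
    exact Subgroup.card_dvd_of_le (Subgroup.map_le_range W _)
  · rw [Subgroup.index_ker]
    exact Subgroup.card_subgroup_dvd_card _
  · intro x hx
    rw [MonoidHom.mem_ker]
    have h1 : orderOf (W x) ∣ orderOf x := orderOf_map_dvd W x
    have h2 : orderOf (W x) ∣ Nat.card A := orderOf_dvd_natCard _
    have h3 : orderOf (W x) ∣ 1 := by
      have := Nat.dvd_gcd h1 h2
      rwa [hx] at this
    exact orderOf_eq_one_iff.mp (Nat.dvd_one.mp h3)

end Transfer

end Cfsg.Agent.Helper6.RootU
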