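import Mathlib
import Cfsg.Prelude.Def_Characters
import Cfsg.Agent.Helper6.MultChA
import Cfsg.Agent.Helper6.RootUE

/-!
# Characters multiplicative on pairs of elements of coprime prime-power orders:
the structure implies vanishing off the normal Sylow subgroup
-/

set_option autoImplicit false
set_option linter.style.haveILetI false

namespace Cfsg.Agent.Helper6.MultCh

open scoped ComplexConjugate
open scoped commutatorElement

universe u

variable {G : Type u} [Group G]

/-- The structural hypothesis of the third alternative. -/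
structure Struct (p : ℕ) (P A : Subgroup G) : Prop where
  pgroup : IsPGroup p P
  comm : ∀ a ∈ A, ∀ b ∈ A, a * b = b * a
  coprime : (Nat.card A).Coprime p
  sup : A ⊔ P = ⊤
  commC : ∀ x ∈ P ⊓ Subgroup.centralizer (A : Set G),
    ∀ y ∈ P ⊓ Subgroup.centralizer (A : Set G), x * y = y * x
  supCD : (P ⊓ Subgroup.centralizer (A : Set G)) ⊔ ⁅A, P⁆ = P
  fpf : ∀ a ∈ A, a ≠ 1 → ∀ d ∈ ⁅A, P⁆, a * d = d * a → d = 1

namespace Struct

variable {p : ℕ} [hp : Fact p.Prime] {P A : Subgroup G} [hPn : P.Normal]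
  [hDn : (⁅A, P⁆ : Subgroup G).Normal]

omit hp hDn hPn in
theorem top_eq (h : Struct p P A) :
    A ⊔ (P ⊓ Subgroup.centralizer (A : Set G)) ⊔ ⁅A, P⁆ = ⊤ := by
  rw [sup_assoc, h.supCD, h.sup]

omit hp hPn in
/-- The quotient by `[A, P]` is abelian. -/
theorem commutator_le (h : Struct p P A) : commutator G ≤ ⁅A, P⁆ := by
  set D : Subgroup G := ⁅A, P⁆ with hD
  set C : Subgroup G := P ⊓ Subgroup.centralizer (A : Set G) with hC
  let π := QuotientGroup.mk' D
  have hπD : ∀ d ∈ D, π d = 1 := fun d hd => (QuotientGroup.eq_one_iff d).mpr hd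
  -- elements of `A` are central modulo `D`
  have hAc : ∀ a ∈ A, ∀ g : G, π g * π a = π a * π g := by
    intro a ha
    have hK : (⊤ : Subgroup G) ≤ (Subgroup.centralizer ({π a} : Set (G ⧸ D))).comap π := by
      rw [← h.top_eq]
      refine sup_le (sup_le ?_ ?_) ?_
      · intro b hb
        rw [Subgroup.mem_comap, Subgroup.mem_centralizer_singleton_iff]
        rw [← map_mul, ← map_mul, h.comm b hb a ha]
      · intro c hc
        rw [Subgroup.mem_comap, Subgroup.mem_centralizer_singleton_iff]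
        rw [← map_mul, ← map_mul]
        have := Subgroup.mem_centralizer_iff.mp hc.2 a ha
        rw [this]
      · intro d hd
        rw [Subgroup.mem_comap, Subgroup.mem_centralizer_singleton_iff, hπD d hd, one_mul, mul_one]
    intro g
    have := hK (Subgroup.mem_top g)
    rw [Subgroup.mem_comap, Subgroup.mem_centralizer_singleton_iff] at this
    exact this
  have hCc : ∀ c ∈ C, ∀ g : G, π g * π c = π c * π g := by
    intro c hc
    have hK : (⊤ : Subgroup G) ≤ (Subgroup.centralizer ({π c} : Set (G ⧸ D))).comap π := by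
      rw [← h.top_eq]
      refine sup_le (sup_le ?_ ?_) ?_
      · intro b hb
        rw [Subgroup.mem_comap, Subgroup.mem_centralizer_singleton_iff]
        exact (hAc b hb c).symm
      · intro c' hc'
        rw [Subgroup.mem_comap, Subgroup.mem_centralizer_singleton_iff]
        rw [← map_mul, ← map_mul, h.commC c' hc' c hc]
      · intro d hd
        rw [Subgroup.mem_comap, Subgroup.mem_centralizer_singleton_iff, hπD d hd, one_mul, mul_one]
    intro g
    have := hK (Subgroup.mem_top g)
    rw [Subgroup.mem_comap, Subgroup.mem_centralizer_singleton_iff] at this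
    exact this
  have hcen : (⊤ : Subgroup G) ≤ (Subgroup.center (G ⧸ D)).comap π := by
    rw [← h.top_eq]
    refine sup_le (sup_le ?_ ?_) ?_
    · intro a ha
      rw [Subgroup.mem_comap, Subgroup.mem_center_iff]
      intro q
      obtain ⟨g, rfl⟩ := QuotientGroup.mk'_surjective D q
      exact hAc a ha g
    · intro c hc
      rw [Subgroup.mem_comap, Subgroup.mem_center_iff]
      intro q
      obtain ⟨g, rfl⟩ := QuotientGroup.mk'_surjective D q
      exact hCc c hc g
    · intro d hd
      rw [Subgroup.mem_comap, hπD d hd]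
      exact Subgroup.one_mem _
  rw [commutator_def, Subgroup.commutator_le]
  intro g _ k _
  have hg := hcen (Subgroup.mem_top g)
  rw [Subgroup.mem_comap, Subgroup.mem_center_iff] at hg
  have h1 : π ⁅g, k⁆ = 1 := by
    rw [commutatorElement_def, map_mul, map_mul, map_mul, map_inv, map_inv, ← hg (π k)]
    group
  exact (QuotientGroup.eq_one_iff _).mp h1

include hPn hDn in
/-- For `g ∉ P`, the centraliser of `g` meets `[A, P]` trivially. -/
theorem centralizer_inf [Finite G] (h : Struct p P A) (g : G) (hg : g ∉ P) :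
    Subgroup.centralizer ({g} : Set G) ⊓ ⁅A, P⁆ = ⊥ := by
  set D : Subgroup G := ⁅A, P⁆ with hD
  have hgtop : g ∈ A ⊔ P := h.sup ▸ Subgroup.mem_top g
  obtain ⟨a, ha, x, hx, rfl⟩ := Subgroup.mem_sup_of_normal_right.mp hgtop
  have ha1 : a ≠ 1 := by
    rintro rfl
    rw [one_mul] at hg
    exact hg hx
  have hxCD : x ∈ (P ⊓ Subgroup.centralizer (A : Set G)) ⊔ D := by
    rw [h.supCD]
    exact hx
  obtain ⟨c, hc, d', hd', rfl⟩ := Subgroup.mem_sup_of_normal_right.mp hxCD
  have hac : Commute a c := Subgroup.mem_centralizer_iff.mp hc.2 a ha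
  set n := Nat.card P with hn
  have hcn : c ^ n = 1 := by
    have : orderOf c ∣ n := Subgroup.orderOf_dvd_natCard P hc.1
    exact orderOf_dvd_iff_pow_eq_one.mp this
  have hbn : (a * c) ^ n = a ^ n := by
    rw [hac.mul_pow, hcn, mul_one]
  have han : a ^ n ≠ 1 := by
    intro hh
    have h1 : orderOf a ∣ n := orderOf_dvd_of_pow_eq_one hh
    have h2 : orderOf a ∣ Nat.card A := Subgroup.orderOf_dvd_natCard A ha
    obtain ⟨k, hk⟩ := IsPGroup.iff_card.mp h.pgroup
    have h3 : Nat.Coprime (Nat.card A) n := by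
      rw [hn, hk]
      exact Nat.Coprime.pow_right k h.coprime
    have h4 : orderOf a ∣ 1 := by
      have := Nat.dvd_gcd h2 h1
      rwa [h3] at this
    exact ha1 (orderOf_eq_one_iff.mp (Nat.dvd_one.mp h4))
  have hCDb : ∀ d ∈ D, d * (a * c) = (a * c) * d → d = 1 := by
    intro d hd hcomm
    apply h.fpf (a ^ n) (A.pow_mem ha n) han d hd
    rw [← hbn]
    exact ((show Commute d (a * c) from hcomm).pow_right n).eq.symm
  let f : D → D := fun u => ⟨(a * c)⁻¹ * (u : G)⁻¹ * (a * c) * u, by
    refine D.mul_mem ?_ u.2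
    have := hDn.conj_mem (u : G)⁻¹ (D.inv_mem u.2) (a * c)⁻¹
    simpa [mul_assoc] using this⟩
  have hf : Function.Injective f := by
    intro u v huv
    have h1 : (a * c)⁻¹ * (u : G)⁻¹ * (a * c) * u = (a * c)⁻¹ * (v : G)⁻¹ * (a * c) * v :=
      congrArg Subtype.val huv
    have h2 : ((v : G) * (u : G)⁻¹) * (a * c) = (a * c) * ((v : G) * (u : G)⁻¹) := by
      have h3 : (u : G)⁻¹ * (a * c) * u = (v : G)⁻¹ * (a * c) * v := by
        have := congrArg (fun z => (a * c) * z) h1
        simpa [mul_assoc] using this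
      calc ((v : G) * (u : G)⁻¹) * (a * c)
          = (v : G) * ((u : G)⁻¹ * (a * c) * u) * (u : G)⁻¹ := by group
        _ = (v : G) * ((v : G)⁻¹ * (a * c) * v) * (u : G)⁻¹ := by rw [h3]
        _ = (a * c) * ((v : G) * (u : G)⁻¹) := by group
    have h4 := hCDb _ (D.mul_mem v.2 (D.inv_mem u.2)) h2
    apply Subtype.ext
    have h5 : (v : G) = u := by
      have := congrArg (fun z => z * (u : G)) h4
      simpa using this
    exact h5.symm
  have hsurj := Finite.surjective_of_injective hf
  obtain ⟨u, hu⟩ := hsurj ⟨d', hd'⟩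
  have hu' : (a * c)⁻¹ * (u : G)⁻¹ * (a * c) * u = d' := congrArg Subtype.val hu
  have hg' : a * (c * d') = (u : G)⁻¹ * (a * c) * u := by
    rw [← hu']
    group
  rw [eq_bot_iff]
  rintro d ⟨hdc, hdD⟩
  rw [Subgroup.mem_bot]
  have h1 : d * (a * (c * d')) = a * (c * d') * d :=
    Subgroup.mem_centralizer_singleton_iff.mp hdc
  have h2 : ((u : G) * d * (u : G)⁻¹) * (a * c) = (a * c) * ((u : G) * d * (u : G)⁻¹) := by
    rw [hg'] at h1
    calc ((u : G) * d * (u : G)⁻¹) * (a * c)
        = (u : G) * (d * ((u : G)⁻¹ * (a * c) * u)) * (u : G)⁻¹ := by group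
      _ = (u : G) * (((u : G)⁻¹ * (a * c) * u) * d) * (u : G)⁻¹ := by rw [h1]
      _ = (a * c) * ((u : G) * d * (u : G)⁻¹) := by group
  have h3 := hCDb _ (hDn.conj_mem d hdD u) h2
  have h4 := congrArg (fun z => (u : G)⁻¹ * z * u) h3
  simpa [mul_assoc] using h4

include hPn hDn in
/-- For `g ∉ P`, `|C_G(g)| ≤ |G : G'|`. -/
theorem card_centralizer_le [Finite G] (h : Struct p P A) (g : G) (hg : g ∉ P) :
    Nat.card (Subgroup.centralizer ({g} : Set G)) ≤ (commutator G).index := by
  have h1 := Cfsg.Agent.Helper6.RootU.card_sup_of_inf_bot _ _ (h.centralizer_inf g hg)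
  have h2 : Nat.card ↥(Subgroup.centralizer ({g} : Set G) ⊔ ⁅A, P⁆) ≤ Nat.card G :=
    Nat.card_le_card_of_injective _ Subtype.val_injective
  have h3 := Subgroup.card_mul_index (⁅A, P⁆ : Subgroup G)
  have hpos : 0 < Nat.card (⁅A, P⁆ : Subgroup G) := Nat.card_pos
  have h4 : Nat.card (Subgroup.centralizer ({g} : Set G)) ≤ (⁅A, P⁆ : Subgroup G).index := by
    rw [h1, ← h3, mul_comm] at h2
    exact Nat.le_of_mul_le_mul_left h2 hpos
  have h5 : (⁅A, P⁆ : Subgroup G).index ∣ (commutator G).index :=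
    Subgroup.index_dvd_of_le h.commutator_le
  have h6 : (commutator G).index ≠ 0 := Subgroup.index_ne_zero_of_finite
  exact h4.trans (Nat.le_of_dvd (Nat.pos_of_ne_zero h6) h5)

include hPn hDn in
/-- Every non-linear irreducible character vanishes off `P`. -/
theorem vanish_off [Finite G] (h : Struct p P A) (g : G) (hg : g ∉ P)
    (χ : Cfsg.IrrCharacter G) (hnl : (χ : G → ℂ) 1 ≠ 1) : (χ : G → ℂ) g = 0 :=
  vanish_of_card_centralizer_le g (h.card_centralizer_le g hg) χ hnl

omit hPn hDn in
/-- A non-identity element of `P` of prime-power order has order a power of `p`. -/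
theorem prime_eq_of_mem (h : Struct p P A) {x : G} (hxP : x ∈ P) (hx : x ≠ 1) {p₁ a : ℕ}
    (hp₁ : p₁.Prime) (hox : orderOf x = p₁ ^ a) : p₁ = p := by
  obtain ⟨k, hk⟩ := h.pgroup ⟨x, hxP⟩
  have hk' : x ^ p ^ k = 1 := congrArg Subtype.val hk
  have h1 : orderOf x ∣ p ^ k := orderOf_dvd_of_pow_eq_one hk'
  have ha : a ≠ 0 := by
    rintro rfl
    rw [pow_zero, orderOf_eq_one_iff] at hox
    exact hx hox
  have h2 : p₁ ∣ p ^ k := by
    rw [hox] at h1
    exact (dvd_pow_self p₁ ha).trans h1
  exact (Nat.prime_dvd_prime_iff_eq hp₁ hp.out).mp (hp₁.dvd_of_dvd_pow h2)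

include hPn hDn in
/-- The structure implies multiplicativity of irreducible characters on pairs of non-identity
elements of prime-power orders for different primes. -/
theorem mult [Finite G] (h : Struct p P A) (x y : G) (hx : x ≠ 1) (hy : y ≠ 1)
    {p₁ q₁ a b : ℕ} (hp₁ : p₁.Prime) (hq₁ : q₁.Prime) (hne : p₁ ≠ q₁)
    (hox : orderOf x = p₁ ^ a) (hoy : orderOf y = q₁ ^ b) (χ : Cfsg.IrrCharacter G) :
    (χ : G → ℂ) (x * y) = (χ : G → ℂ) x * (χ : G → ℂ) y := by
  by_cases hlin : (χ : G → ℂ) 1 = 1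
  · obtain ⟨lam, hlam⟩ := exists_hom_of_irr_degree_one χ.2 hlin
    rw [hlam]
    simp only [map_mul, Units.val_mul]
  · have hnot : ¬ (x ∈ P ∧ y ∈ P) := by
      rintro ⟨hxP, hyP⟩
      have h1 := h.prime_eq_of_mem hxP hx hp₁ hox
      have h2 := h.prime_eq_of_mem hyP hy hq₁ hoy
      exact hne (h1.trans h2.symm)
    have hxy : x * y ∉ P := by
      intro hxyP
      by_cases hxP : x ∈ P
      · apply hnot
        refine ⟨hxP, ?_⟩
        have : y = x⁻¹ * (x * y) := by group
        rw [this]
        exact P.mul_mem (P.inv_mem hxP) hxyP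
      · by_cases hyP : y ∈ P
        · apply hxP
          have : x = (x * y) * y⁻¹ := by group
          rw [this]
          exact P.mul_mem hxyP (P.inv_mem hyP)
        · apply hxP
          let π := QuotientGroup.mk' P
          have h1 : π x * π y = 1 := by
            rw [← map_mul]
            exact (QuotientGroup.eq_one_iff _).mpr hxyP
          have h2 : π x = (π y)⁻¹ := eq_inv_of_mul_eq_one_left h1
          have h3 : (π x) ^ (p₁ ^ a) = 1 := by
            rw [← map_pow, ← hox, pow_orderOf_eq_one, map_one]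
          have h4 : (π x) ^ (q₁ ^ b) = 1 := by
            rw [h2, inv_pow, ← map_pow, ← hoy, pow_orderOf_eq_one, map_one, inv_one]
          have h5 : orderOf (π x) ∣ Nat.gcd (p₁ ^ a) (q₁ ^ b) :=
            Nat.dvd_gcd (orderOf_dvd_of_pow_eq_one h3) (orderOf_dvd_of_pow_eq_one h4)
          have h6 : Nat.gcd (p₁ ^ a) (q₁ ^ b) = 1 :=
            Nat.Coprime.pow a b ((Nat.coprime_primes hp₁ hq₁).mpr hne)
          rw [h6] at h5
          have h7 : π x = 1 := orderOf_eq_one_iff.mp (Nat.dvd_one.mp h5)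
          exact (QuotientGroup.eq_one_iff _).mp h7
    rw [h.vanish_off (x * y) hxy χ hlin]
    by_cases hxP : x ∈ P
    · have hyP : y ∉ P := fun hyP => hnot ⟨hxP, hyP⟩
      rw [h.vanish_off y hyP χ hlin, mul_zero]
    · rw [h.vanish_off x hxP χ hlin, zero_mul]

end Struct

end Cfsg.Agent.Helper6.MultCh
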