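import Mathlib
import Cfsg.Prelude.Def_Characters
import Cfsg.Agent.Helper6.MultChA
import Cfsg.Agent.Helper6.Degrees
import Cfsg.Agent.Helper6.CharBasic

/-!
# Characters multiplicative on pairs of elements of coprime prime-power orders:
consequences of multiplicativity
-/

set_option autoImplicit false
set_option linter.style.haveILetI false

namespace Cfsg.Agent.Helper6.MultCh

open scoped ComplexConjugate
open scoped commutatorElement

universe u

variable {G : Type u} [Group G]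

/-- The multiplicativity hypothesis. -/
def MultHyp (G : Type u) [Group G] : Prop :=
  ∀ (x y : G) (χ : Cfsg.IrrCharacter G), x ≠ 1 → y ≠ 1 →
    (∃ p q a b : ℕ, p.Prime ∧ q.Prime ∧ p ≠ q ∧ orderOf x = p ^ a ∧ orderOf y = q ^ b) →
    (χ : G → ℂ) (x * y) = (χ : G → ℂ) x * (χ : G → ℂ) y

/-- `χ` vanishes at all non-identity `r`-elements. -/
def VanishAt (χ : G → ℂ) (r : ℕ) : Prop :=
  ∀ x : G, x ≠ 1 → (∃ k : ℕ, orderOf x = r ^ k) → χ x = 0

theorem isIrrCharacter_of_hom_one : Cfsg.IsIrrCharacter G (fun _ => (1 : ℂ)) := by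
  have := isIrrCharacter_of_hom (1 : G →* ℂˣ)
  simpa using this

theorem orderOf_conj' (g x : G) : orderOf (g * x * g⁻¹) = orderOf x := by
  have := orderOf_injective (MulAut.conj g).toMonoidHom (MulAut.conj g).injective x
  simpa using this

/-- Under the multiplicativity hypothesis, a non-linear irreducible character vanishes at all
non-identity `p₁`-elements or at all non-identity `q₁`-elements, for distinct primes. -/
theorem vanishAt_or [Finite G] (hM : MultHyp G) (χ : Cfsg.IrrCharacter G)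
    (hnl : (χ : G → ℂ) 1 ≠ 1) {p₁ q₁ : ℕ} (hp₁ : p₁.Prime) (hq₁ : q₁.Prime) (hne : p₁ ≠ q₁) :
    VanishAt (χ : G → ℂ) p₁ ∨ VanishAt (χ : G → ℂ) q₁ := by
  classical
  haveI := Fintype.ofFinite G
  by_contra hcon
  rw [not_or] at hcon
  obtain ⟨h1, h2⟩ := hcon
  unfold VanishAt at h1 h2
  push Not at h1 h2
  obtain ⟨x, hx1, ⟨a, hxa⟩, hχx⟩ := h1
  obtain ⟨y, hy1, ⟨b, hyb⟩, hχy⟩ := h2
  have hcf := IsCharacter.isClassFunction (IsIrrCharacter.isCharacter χ.2)
  have h3 := mul_eq_zero_of_mult χ.2 x y (fun g => by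
    have hgx : g * x * g⁻¹ ≠ 1 := by
      intro h
      apply hx1
      have := congrArg (fun z => g⁻¹ * z * g) h
      simpa [mul_assoc] using this
    have := hM (g * x * g⁻¹) y χ hgx hy1
      ⟨p₁, q₁, a, b, hp₁, hq₁, hne, by rw [orderOf_conj', hxa], hyb⟩
    rw [this, hcf x g]) hnl
  rcases mul_eq_zero.mp h3 with h | h
  · exact hχx h
  · exact hχy h

/-- If `χ` vanishes at the non-identity `r`-elements, the order of a Sylow `r`-subgroup divides
the degree. -/
theorem sylow_dvd_degree [Finite G] {χ : G → ℂ} (hχ : Cfsg.IsCharacter G χ) {r : ℕ}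
    [Fact r.Prime] (hv : VanishAt χ r) (R : Sylow r G) {d : ℕ} (hd : χ 1 = d) :
    Nat.card R ∣ d := by
  obtain ⟨k, hk⟩ := card_dvd_degree_of_vanishing (R : Subgroup G) χ hχ (by
    intro g hg hg1
    apply hv g hg1
    obtain ⟨j, hj⟩ := R.isPGroup' ⟨g, hg⟩
    have hj' : g ^ r ^ j = 1 := congrArg Subtype.val hj
    obtain ⟨i, -, hi⟩ := (Nat.dvd_prime_pow Fact.out).mp (orderOf_dvd_of_pow_eq_one hj')
    exact ⟨i, hi⟩)
  refine ⟨k, ?_⟩
  have : ((d : ℕ) : ℂ) = ((Nat.card R * k : ℕ) : ℂ) := by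
    rw [← hd, hk]
    push_cast
    rfl
  exact_mod_cast this

/-- The degree of a non-linear irreducible character satisfies `d² < |G|`. -/
theorem degree_sq_lt [Finite G] (χ : Cfsg.IrrCharacter G) (hnl : (χ : G → ℂ) 1 ≠ 1) {d : ℕ}
    (hd : (χ : G → ℂ) 1 = d) : d * d < Nat.card G := by
  classical
  haveI := Fintype.ofFinite G
  haveI : Finite (Cfsg.IrrCharacter G) := irr_finite
  haveI : Fintype (Cfsg.IrrCharacter G) := Fintype.ofFinite _
  have hdeg : ∀ ψ : Cfsg.IrrCharacter G, ∃ n : ℕ, (ψ : G → ℂ) 1 = n :=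
    fun ψ => IsCharacter.apply_one (IsIrrCharacter.isCharacter ψ.2)
  choose deg hdeg' using hdeg
  have hsum : ∑ ψ : Cfsg.IrrCharacter G, deg ψ ^ 2 = Nat.card G := by
    have h := sum_sq_degrees (G := G)
    have h2 : ∑ ψ : Cfsg.IrrCharacter G, (ψ : G → ℂ) 1 ^ 2 =
        ((∑ ψ : Cfsg.IrrCharacter G, deg ψ ^ 2 : ℕ) : ℂ) := by
      push_cast
      apply Finset.sum_congr rfl
      intro ψ _
      rw [hdeg' ψ]
    rw [h2] at h
    exact_mod_cast h
  let triv : Cfsg.IrrCharacter G := ⟨fun _ => (1 : ℂ), isIrrCharacter_of_hom_one⟩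
  have hne : χ ≠ triv := by
    intro h
    apply hnl
    rw [h]
  have hsub : ({χ, triv} : Finset (Cfsg.IrrCharacter G)) ⊆ Finset.univ := Finset.subset_univ _
  have hle := Finset.sum_le_sum_of_subset (f := fun ψ => deg ψ ^ 2) hsub
  rw [Finset.sum_pair hne, hsum] at hle
  have hdχ : deg χ = d := by
    have := (hdeg' χ).symm.trans hd
    exact_mod_cast this
  have hdt : deg triv = 1 := by
    have h1 := hdeg' triv
    have h2 : (triv : G → ℂ) 1 = 1 := rfl
    rw [h2] at h1
    exact_mod_cast h1.symm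
  rw [hdχ, hdt] at hle
  nlinarith

/-- If `χ` vanishes at the non-identity `s`-elements for all primes `s ≠ p`, the index of a Sylow
`p`-subgroup divides the degree. -/
theorem index_dvd_degree [Finite G] {χ : G → ℂ} (hχ : Cfsg.IsCharacter G χ) {p : ℕ}
    [hp : Fact p.Prime] (hv : ∀ s : ℕ, s.Prime → s ≠ p → VanishAt χ s) (P : Sylow p G) {d : ℕ}
    (hd : χ 1 = d) (hd0 : d ≠ 0) : (P : Subgroup G).index ∣ d := by
  have hidx0 : (P : Subgroup G).index ≠ 0 := Subgroup.index_ne_zero_of_finite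
  rw [← Nat.factorization_prime_le_iff_dvd hidx0 hd0]
  intro s hs
  by_cases hsp : s = p
  · subst hsp
    rw [Nat.factorization_eq_zero_of_not_dvd P.not_dvd_index]
    exact Nat.zero_le _
  · haveI : Fact s.Prime := ⟨hs⟩
    obtain ⟨S⟩ := (inferInstance : Nonempty (Sylow s G))
    have h1 := sylow_dvd_degree hχ (hv s hs hsp) S hd
    rw [Sylow.card_eq_multiplicity] at h1
    have h2 : (Nat.card G).factorization s ≤ d.factorization s :=
      (hs.pow_dvd_iff_le_factorization hd0).mp h1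
    have hG0 : Nat.card G ≠ 0 := Nat.card_pos.ne'
    have h3 : (P : Subgroup G).index.factorization s ≤ (Nat.card G).factorization s :=
      (Nat.factorization_le_iff_dvd hidx0 hG0).mpr (Subgroup.index_dvd_card _) s
    exact h3.trans h2

/-- The degree of an irreducible character is a positive natural number. -/
theorem exists_degree (χ : Cfsg.IrrCharacter G) : ∃ d : ℕ, (χ : G → ℂ) 1 = d ∧ d ≠ 0 := by
  obtain ⟨d, hd⟩ := IsCharacter.apply_one (IsIrrCharacter.isCharacter χ.2)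
  refine ⟨d, hd, ?_⟩
  rintro rfl
  obtain ⟨n, ρ, hirr, hρ⟩ := χ.2
  haveI := hirr
  have h2 : ρ.character 1 = (Module.finrank ℂ (Fin n → ℂ) : ℂ) := Representation.char_one ρ
  haveI : Nontrivial (Fin n → ℂ) := irr_nontrivial ρ
  have h3 : Module.finrank ℂ (Fin n → ℂ) ≠ 0 := Module.finrank_pos.ne'
  rw [hρ, hd] at h2
  apply h3
  exact_mod_cast h2.symm

/-- If `χ` vanishes at the non-identity `s`-elements for all primes `s ≠ p`, then the degree is
less than the order of a Sylow `p`-subgroup. -/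
theorem degree_lt_sylow [Finite G] (χ : Cfsg.IrrCharacter G) (hnl : (χ : G → ℂ) 1 ≠ 1) {p : ℕ}
    [hp : Fact p.Prime] (hv : ∀ s : ℕ, s.Prime → s ≠ p → VanishAt (χ : G → ℂ) s) (P : Sylow p G)
    {d : ℕ} (hd : (χ : G → ℂ) 1 = d) (hd0 : d ≠ 0) : d < Nat.card P := by
  have h1 := index_dvd_degree (IsIrrCharacter.isCharacter χ.2) hv P hd hd0
  have h2 := degree_sq_lt χ hnl hd
  have h3 := Subgroup.card_mul_index (P : Subgroup G)
  have h4 : (P : Subgroup G).index ≤ d := Nat.le_of_dvd (Nat.pos_of_ne_zero hd0) h1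
  have h5 : d * d < Nat.card P * d := by
    calc d * d < Nat.card G := h2
      _ = Nat.card P * (P : Subgroup G).index := h3.symm
      _ ≤ Nat.card P * d := Nat.mul_le_mul_left _ h4
  exact Nat.lt_of_mul_lt_mul_right h5

/-- Under the multiplicativity hypothesis there is one prime `p` such that every non-linear
irreducible character vanishes at all non-identity elements of prime-power order for the other
primes. -/
theorem exists_common_prime [Finite G] (hM : MultHyp G) :
    ∃ p : ℕ, p.Prime ∧ ∀ χ : Cfsg.IrrCharacter G, (χ : G → ℂ) 1 ≠ 1 →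
      ∀ r : ℕ, r.Prime → r ≠ p → VanishAt (χ : G → ℂ) r := by
  by_cases hex : ∃ χ₀ : Cfsg.IrrCharacter G, (χ₀ : G → ℂ) 1 ≠ 1 ∧
      ∃ p : ℕ, p.Prime ∧ ¬ VanishAt (χ₀ : G → ℂ) p
  · obtain ⟨χ₀, hnl₀, p, hp, hnv₀⟩ := hex
    refine ⟨p, hp, ?_⟩
    intro χ hnl r hr hrp
    by_contra hnv
    haveI : Fact p.Prime := ⟨hp⟩
    haveI : Fact r.Prime := ⟨hr⟩
    have hv₀ : ∀ s : ℕ, s.Prime → s ≠ p → VanishAt (χ₀ : G → ℂ) s := by
      intro s hs hsp
      rcases vanishAt_or hM χ₀ hnl₀ hs hp hsp with h | h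
      · exact h
      · exact absurd h hnv₀
    have hv : ∀ s : ℕ, s.Prime → s ≠ r → VanishAt (χ : G → ℂ) s := by
      intro s hs hsr
      rcases vanishAt_or hM χ hnl hs hr hsr with h | h
      · exact h
      · exact absurd h hnv
    obtain ⟨P⟩ := (inferInstance : Nonempty (Sylow p G))
    obtain ⟨R⟩ := (inferInstance : Nonempty (Sylow r G))
    obtain ⟨d₀, hd₀, hd₀0⟩ := exists_degree χ₀
    obtain ⟨d, hd, hd0⟩ := exists_degree χ
    have h1 := degree_lt_sylow χ₀ hnl₀ hv₀ P hd₀ hd₀0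
    have h2 := degree_lt_sylow χ hnl hv R hd hd0
    have h3 : Nat.card R ≤ d₀ := Nat.le_of_dvd (Nat.pos_of_ne_zero hd₀0)
      (sylow_dvd_degree (IsIrrCharacter.isCharacter χ₀.2) (hv₀ r hr hrp) R hd₀)
    have h4 : Nat.card P ≤ d := Nat.le_of_dvd (Nat.pos_of_ne_zero hd0)
      (sylow_dvd_degree (IsIrrCharacter.isCharacter χ.2) (hv p hp (Ne.symm hrp)) P hd)
    omega
  · refine ⟨2, Nat.prime_two, ?_⟩
    intro χ hnl r hr _
    by_contra hnv
    exact hex ⟨χ, hnl, r, hr, hnv⟩

end Cfsg.Agent.Helper6.MultCh
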