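import Mathlib
import Cfsg.Agent.Helper4.PCore
import Cfsg.Agent.Helper6.ColumnOrth

/-!
# Groups in which non-identity elements of prime-power order for primes `≠ p` have centralisers
of order `|G : G'|`: group theory
-/

set_option autoImplicit false
set_option linter.style.haveILetI false

namespace Cfsg.Agent.Helper6.MultCh

open scoped commutatorElement

universe u

variable {G : Type u} [Group G]

/-- Every non-identity element of prime-power order for a prime `≠ p` has centraliser of order
`|G : G'|`. -/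
def CentHyp (G : Type u) [Group G] (p : ℕ) : Prop :=
  ∀ y : G, y ≠ 1 → (∃ q k : ℕ, q.Prime ∧ q ≠ p ∧ orderOf y = q ^ k) →
    Nat.card (Subgroup.centralizer ({y} : Set G)) = (commutator G).index

namespace CentHyp

variable {p : ℕ}

theorem sylow_dvd_index [Finite G] (hV : CentHyp G p) {q : ℕ} [hq : Fact q.Prime] (hqp : q ≠ p)
    (Q : Sylow q G) : Nat.card Q ∣ (commutator G).index := by
  by_cases hQ : Nontrivial Q
  · haveI := hQ
    haveI := Q.isPGroup'.center_nontrivial
    obtain ⟨z, hz⟩ := exists_ne (1 : Subgroup.center Q)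
    have hz1 : ((z : Q) : G) ≠ 1 := by
      intro h
      apply hz
      apply Subtype.ext
      apply Subtype.ext
      exact h
    obtain ⟨k, hk⟩ := Q.isPGroup' (z : Q)
    have hk' : ((z : Q) : G) ^ q ^ k = 1 := congrArg Subtype.val hk
    obtain ⟨j, -, hj⟩ := (Nat.dvd_prime_pow hq.out).mp (orderOf_dvd_of_pow_eq_one hk')
    have hcard := hV _ hz1 ⟨q, j, hq.out, hqp, hj⟩
    rw [← hcard]
    apply Subgroup.card_dvd_of_le
    intro x hx
    rw [Subgroup.mem_centralizer_singleton_iff]
    have := Subgroup.mem_center_iff.mp z.2 ⟨x, hx⟩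
    exact congrArg Subtype.val this
  · rw [not_nontrivial_iff_subsingleton] at hQ
    haveI := hQ
    rw [Nat.card_unique]
    exact one_dvd _

theorem commutator_isPGroup [Finite G] (hV : CentHyp G p) [Fact p.Prime] :
    IsPGroup p (commutator G) := by
  have hn0 : Nat.card (commutator G) ≠ 0 := Nat.card_pos.ne'
  have h := Nat.eq_prime_pow_of_unique_prime_dvd hn0 (p := p) (by
    intro q hq hqn
    by_contra hqp
    haveI : Fact q.Prime := ⟨hq⟩
    obtain ⟨Q⟩ := (inferInstance : Nonempty (Sylow q G))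
    have h1 := hV.sylow_dvd_index hqp Q
    have h2 : q * Nat.card Q ∣ Nat.card (commutator G) * (commutator G).index :=
      Nat.mul_dvd_mul hqn h1
    rw [Subgroup.card_mul_index, Sylow.card_eq_multiplicity, ← pow_succ'] at h2
    exact Nat.pow_succ_factorization_not_dvd Nat.card_pos.ne' hq h2)
  exact IsPGroup.of_card h

/-- A non-identity element of prime-power order for a prime `≠ p` centralises no non-identity
element of the derived subgroup. -/
theorem centralizer_inf_commutator [Finite G] (hV : CentHyp G p) [hp : Fact p.Prime] (y : G)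
    (hy : y ≠ 1) {q k : ℕ} (hq : q.Prime) (hqp : q ≠ p) (hyo : orderOf y = q ^ k) (d : G)
    (hd : d ∈ commutator G) (hdy : d * y = y * d) : d = 1 := by
  classical
  have hcard := hV y hy ⟨q, k, hq, hqp, hyo⟩
  have h1 := card_conj_mul_card_centralizer y
  have h2 := Subgroup.card_mul_index (commutator G)
  have hpos : 0 < (commutator G).index := Nat.pos_of_ne_zero Subgroup.index_ne_zero_of_finite
  have h3 : Nat.card {x : G // IsConj y x} = Nat.card (commutator G) := by
    rw [hcard, ← h2] at h1
    exact Nat.eq_of_mul_eq_mul_right hpos h1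
  let φ : {x : G // IsConj y x} → commutator G := fun x => ⟨(x : G) * y⁻¹, by
    obtain ⟨g, hg⟩ := isConj_iff.mp x.2
    rw [← hg, commutator_def]
    have : g * y * g⁻¹ * y⁻¹ = ⁅g, y⁆ := rfl
    rw [this]
    exact Subgroup.commutator_mem_commutator (Subgroup.mem_top g) (Subgroup.mem_top y)⟩
  have hφ : Function.Injective φ := by
    intro x x' hxx'
    have := congrArg Subtype.val hxx'
    simp only [φ] at this
    exact Subtype.ext (mul_right_cancel this)
  have hbij : Function.Bijective φ :=
    hφ.bijective_of_nat_card_le (le_of_eq h3.symm)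
  obtain ⟨x, hx⟩ := hbij.2 ⟨d, hd⟩
  have hx' : (x : G) * y⁻¹ = d := congrArg Subtype.val hx
  have hxd : (x : G) = d * y := by
    rw [← hx']
    group
  have hconj : IsConj y (d * y) := hxd ▸ x.2
  obtain ⟨g, hg⟩ := isConj_iff.mp hconj
  have hord : orderOf (d * y) = orderOf y := by
    rw [← hg]
    have := orderOf_injective (MulAut.conj g).toMonoidHom (MulAut.conj g).injective y
    simpa using this
  obtain ⟨j, hj⟩ := (hV.commutator_isPGroup) ⟨d, hd⟩
  have hj' : d ^ p ^ j = 1 := congrArg Subtype.val hj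
  obtain ⟨i, -, hi⟩ := (Nat.dvd_prime_pow hp.out).mp (orderOf_dvd_of_pow_eq_one hj')
  have hcop : Nat.Coprime (orderOf d) (orderOf y) := by
    rw [hi, hyo]
    exact Nat.Coprime.pow i k ((Nat.coprime_primes hp.out hq).mpr (Ne.symm hqp))
  have hmul := (show Commute d y from hdy).orderOf_mul_eq_mul_orderOf_of_coprime hcop
  rw [hord] at hmul
  have hy0 : 0 < orderOf y := by
    rw [hyo]
    exact pow_pos hq.pos k
  have h4 : orderOf d = 1 := by
    have : 1 * orderOf y = orderOf d * orderOf y := by rw [one_mul]; exact hmul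
    exact (Nat.eq_of_mul_eq_mul_right hy0 this).symm
  exact orderOf_eq_one_iff.mp h4

end CentHyp

/-- If `G = A P` with `P` normal, then `[A, P]` is normal in `G`. -/
theorem commutator_normal_of_sup_eq_top (A P : Subgroup G) [hPn : P.Normal] (h : A ⊔ P = ⊤) :
    (⁅A, P⁆ : Subgroup G).Normal := by
  rw [← Subgroup.normalizer_eq_top_iff, eq_top_iff, ← h]
  apply sup_le
  · rw [Subgroup.le_normalizer_iff]
    intro a' ha' k hk
    have hle : ⁅A, P⁆ ≤ (⁅A, P⁆ : Subgroup G).comap (MulAut.conj a').toMonoidHom := by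
      rw [Subgroup.commutator_le]
      intro a ha x hx
      rw [Subgroup.mem_comap, map_commutatorElement]
      apply Subgroup.commutator_mem_commutator
      · simp only [MulEquiv.coe_toMonoidHom, MulAut.conj_apply]
        exact A.mul_mem (A.mul_mem ha' ha) (A.inv_mem ha')
      · simp only [MulEquiv.coe_toMonoidHom, MulAut.conj_apply]
        exact hPn.conj_mem x hx a'
    have := hle hk
    simpa using this
  · rw [Subgroup.le_normalizer_iff]
    intro y hy k hk
    have hle : ⁅A, P⁆ ≤ (⁅A, P⁆ : Subgroup G).comap (MulAut.conj y).toMonoidHom := by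
      rw [Subgroup.commutator_le]
      intro a ha x hx
      rw [Subgroup.mem_comap]
      simp only [MulEquiv.coe_toMonoidHom, MulAut.conj_apply]
      have : y * ⁅a, x⁆ * y⁻¹ = ⁅a, y⁆⁻¹ * ⁅a, y * x⁆ := by
        simp only [commutatorElement_def]
        group
      rw [this]
      exact Subgroup.mul_mem _ (Subgroup.inv_mem _ (Subgroup.commutator_mem_commutator ha hy))
        (Subgroup.commutator_mem_commutator ha (P.mul_mem hy hx))
    have := hle hk
    simpa using this

namespace CentHyp

variable {p : ℕ}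

theorem commutator_le_sylow [Finite G] (hV : CentHyp G p) [hp : Fact p.Prime] (P : Sylow p G) :
    commutator G ≤ (P : Subgroup G) :=
  Cfsg.Agent.Helper4.normal_pgroup_le_sylow (commutator G) hV.commutator_isPGroup P

theorem sylow_normal [Finite G] (hV : CentHyp G p) [hp : Fact p.Prime] (P : Sylow p G) :
    (P : Subgroup G).Normal := by
  constructor
  intro n hn g
  have h1 : g * n * g⁻¹ = ⁅g, n⁆ * n := by
    simp only [commutatorElement_def]
    group
  rw [h1]
  apply Subgroup.mul_mem _ _ hn
  apply hV.commutator_le_sylow P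
  rw [commutator_def]
  exact Subgroup.commutator_mem_commutator (Subgroup.mem_top g) (Subgroup.mem_top n)

/-- An element `≠ 1` of order prime to `p` has a power of prime order `q ≠ p`. -/
theorem exists_prime_order_pow [Finite G] [hp : Fact p.Prime] (a : G) (ha : a ≠ 1)
    (hcop : (orderOf a).Coprime p) :
    ∃ (q m : ℕ), q.Prime ∧ q ≠ p ∧ orderOf (a ^ m) = q ^ 1 ∧ a ^ m ≠ 1 := by
  have ho1 : orderOf a ≠ 1 := fun h => ha (orderOf_eq_one_iff.mp h)
  have ho0 : orderOf a ≠ 0 := (orderOf_pos a).ne'
  set q := (orderOf a).minFac with hq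
  have hqp : q.Prime := Nat.minFac_prime ho1
  have hqd : q ∣ orderOf a := Nat.minFac_dvd _
  have hqne : q ≠ p := by
    intro h
    have h1 : p ∣ Nat.gcd (orderOf a) p := Nat.dvd_gcd (h ▸ hqd) dvd_rfl
    rw [hcop] at h1
    exact hp.out.one_lt.ne' (Nat.dvd_one.mp h1)
  have hord : orderOf (a ^ (orderOf a / q)) = q := orderOf_pow_orderOf_div ho0 hqd
  refine ⟨q, orderOf a / q, hqp, hqne, by rw [hord, pow_one], ?_⟩
  intro h
  rw [h, orderOf_one] at hord
  exact hqp.one_lt.ne hord

/-- Elements of order prime to `p` act fixed-point-freely on the derived subgroup. -/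
theorem fpf [Finite G] (hV : CentHyp G p) [hp : Fact p.Prime] (a : G) (ha : a ≠ 1)
    (hcop : (orderOf a).Coprime p) (d : G) (hd : d ∈ commutator G) (hda : a * d = d * a) :
    d = 1 := by
  obtain ⟨q, m, hq, hqp, hord, hne⟩ := exists_prime_order_pow a ha hcop
  apply hV.centralizer_inf_commutator (a ^ m) hne hq hqp hord d hd
  exact ((show Commute a d from hda).pow_left m).eq.symm

/-- The structure forced by the centraliser hypothesis. -/
theorem structure_thm [Finite G] (hV : CentHyp G p) [hp : Fact p.Prime] (hnotp : ¬ IsPGroup p G)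
    (P : Sylow p G) :
    (P : Subgroup G).Normal ∧ ∃ A : Subgroup G, (∀ a ∈ A, ∀ b ∈ A, a * b = b * a) ∧ A ≠ ⊥ ∧
      (Nat.card A).Coprime p ∧ A ⊔ (P : Subgroup G) = ⊤ ∧
      (∀ x ∈ (P : Subgroup G) ⊓ Subgroup.centralizer (A : Set G),
        ∀ y ∈ (P : Subgroup G) ⊓ Subgroup.centralizer (A : Set G), x * y = y * x) ∧
      (⁅A, (P : Subgroup G)⁆ : Subgroup G).Normal ∧
      ((P : Subgroup G) ⊓ Subgroup.centralizer (A : Set G)) ⊔ ⁅A, (P : Subgroup G)⁆ =
        (P : Subgroup G) ∧
      ((P : Subgroup G) ⊓ Subgroup.centralizer (A : Set G)) ⊓ ⁅A, (P : Subgroup G)⁆ = ⊥ ∧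
      (∀ a ∈ A, a ≠ 1 → ∀ d ∈ commutator G, a * d = d * a → d = 1) := by
  haveI hPn : (P : Subgroup G).Normal := hV.sylow_normal P
  refine ⟨hPn, ?_⟩
  obtain ⟨A, hA⟩ := Subgroup.exists_right_complement'_of_coprime P.card_coprime_index
  have hcardA : Nat.card A = (P : Subgroup G).index := hA.symm.index_eq_card.symm
  have hdisj : (P : Subgroup G) ⊓ A = ⊥ := disjoint_iff.mp hA.disjoint
  have hsup : A ⊔ (P : Subgroup G) = ⊤ := by
    rw [sup_comm]
    exact hA.sup_eq_top
  have hcop : (Nat.card A).Coprime p := by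
    rw [hcardA]
    exact ((Nat.Prime.coprime_iff_not_dvd hp.out).mpr P.not_dvd_index).symm
  have hGP : commutator G ≤ (P : Subgroup G) := hV.commutator_le_sylow P
  have hcomm : ∀ a ∈ A, ∀ b ∈ A, a * b = b * a := by
    intro a ha b hb
    have h1 : ⁅a, b⁆ ∈ (P : Subgroup G) ⊓ A := by
      refine ⟨hGP ?_, ?_⟩
      · rw [commutator_def]
        exact Subgroup.commutator_mem_commutator (Subgroup.mem_top a) (Subgroup.mem_top b)
      · rw [commutatorElement_def]
        exact A.mul_mem (A.mul_mem (A.mul_mem ha hb) (A.inv_mem ha)) (A.inv_mem hb)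
    rw [hdisj, Subgroup.mem_bot, commutatorElement_eq_one_iff_mul_comm] at h1
    exact h1
  have hAne : A ≠ ⊥ := by
    rintro rfl
    apply hnotp
    have h1 : (P : Subgroup G).index = 1 := by
      rw [← hcardA]
      exact Subgroup.card_bot
    have h2 : (P : Subgroup G) = ⊤ := Subgroup.index_eq_one.mp h1
    have h3 : IsPGroup p (⊤ : Subgroup G) := h2 ▸ P.isPGroup'
    exact h3.of_equiv Subgroup.topEquiv
  have hordcop : ∀ a ∈ A, (orderOf a).Coprime p := by
    intro a ha
    exact Nat.Coprime.coprime_dvd_left (Subgroup.orderOf_dvd_natCard A ha) hcop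
  have hfpf : ∀ a ∈ A, a ≠ 1 → ∀ d ∈ commutator G, a * d = d * a → d = 1 :=
    fun a ha ha1 d hd hda => hV.fpf a ha1 (hordcop a ha) d hd hda
  haveI hDn : (⁅A, (P : Subgroup G)⁆ : Subgroup G).Normal :=
    commutator_normal_of_sup_eq_top A P hsup
  have hDG : ⁅A, (P : Subgroup G)⁆ ≤ commutator G := by
    rw [commutator_def]
    exact Subgroup.commutator_mono le_top le_top
  have hDP : ⁅A, (P : Subgroup G)⁆ ≤ (P : Subgroup G) := hDG.trans hGP
  -- a non-identity element of `A`
  obtain ⟨y, hyA', hy1'⟩ := (A.bot_or_exists_ne_one).resolve_left hAne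
  -- elements commuting with `y` in the derived subgroup are trivial
  have hkey : ∀ d ∈ commutator G, y * d = d * y → d = 1 := hfpf y hyA' hy1'
  refine ⟨A, hcomm, hAne, hcop, hsup, ?_, hDn, ?_, ?_, hfpf⟩
  · intro x hx z hz
    have hxy : y * x = x * y := Subgroup.mem_centralizer_iff.mp hx.2 y hyA'
    have hzy : y * z = z * y := Subgroup.mem_centralizer_iff.mp hz.2 y hyA'
    have h1 : ⁅x, z⁆ ∈ commutator G := by
      rw [commutator_def]
      exact Subgroup.commutator_mem_commutator (Subgroup.mem_top x) (Subgroup.mem_top z)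
    have h2 : y * ⁅x, z⁆ = ⁅x, z⁆ * y := by
      have hxi : y * x⁻¹ = x⁻¹ * y := by
        have := congrArg (fun t => x⁻¹ * t * x⁻¹) hxy
        simp only [mul_assoc, mul_inv_cancel, mul_one, inv_mul_cancel_left] at this
        exact this.symm
      have hzi : y * z⁻¹ = z⁻¹ * y := by
        have := congrArg (fun t => z⁻¹ * t * z⁻¹) hzy
        simp only [mul_assoc, mul_inv_cancel, mul_one, inv_mul_cancel_left] at this
        exact this.symm
      rw [commutatorElement_def]
      calc y * (x * z * x⁻¹ * z⁻¹) = (y * x) * z * x⁻¹ * z⁻¹ := by group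
        _ = x * (y * z) * x⁻¹ * z⁻¹ := by rw [hxy]; group
        _ = x * z * (y * x⁻¹) * z⁻¹ := by rw [hzy]; group
        _ = x * z * x⁻¹ * (y * z⁻¹) := by rw [hxi]; group
        _ = x * z * x⁻¹ * z⁻¹ * y := by rw [hzi]; group
    have h3 := hkey _ h1 h2
    rwa [commutatorElement_eq_one_iff_mul_comm] at h3
  · apply le_antisymm
    · exact sup_le inf_le_left hDP
    · intro x hx
      -- the map `u ↦ y⁻¹ u⁻¹ y u` on `D`
      let D : Subgroup G := ⁅A, (P : Subgroup G)⁆
      let f : D → D := fun u => ⟨y⁻¹ * (u : G)⁻¹ * y * u, by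
        refine D.mul_mem ?_ u.2
        have := hDn.conj_mem (u : G)⁻¹ (D.inv_mem u.2) y⁻¹
        simpa [mul_assoc] using this⟩
      have hf : Function.Injective f := by
        intro u v huv
        have h1 : y⁻¹ * (u : G)⁻¹ * y * u = y⁻¹ * (v : G)⁻¹ * y * v :=
          congrArg Subtype.val huv
        have h3 : (u : G)⁻¹ * y * u = (v : G)⁻¹ * y * v := by
          have := congrArg (fun z => y * z) h1
          simpa [mul_assoc] using this
        have h2 : y * ((v : G) * (u : G)⁻¹) = ((v : G) * (u : G)⁻¹) * y := by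
          calc y * ((v : G) * (u : G)⁻¹)
              = (v : G) * ((v : G)⁻¹ * y * v) * (u : G)⁻¹ := by group
            _ = (v : G) * ((u : G)⁻¹ * y * u) * (u : G)⁻¹ := by rw [h3]
            _ = ((v : G) * (u : G)⁻¹) * y := by group
        have h4 := hkey _ (hDG (D.mul_mem v.2 (D.inv_mem u.2))) h2
        apply Subtype.ext
        have h5 : (v : G) = u := by
          have := congrArg (fun z => z * (u : G)) h4
          simpa using this
        exact h5.symm
      have hsurj := Finite.surjective_of_injective hf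
      have htarget : y⁻¹ * x⁻¹ * y * x ∈ D := by
        have : y⁻¹ * x⁻¹ * y * x = ⁅y⁻¹, x⁻¹⁆ := by
          simp [commutatorElement_def]
        rw [this]
        exact Subgroup.commutator_mem_commutator (A.inv_mem hyA') ((P : Subgroup G).inv_mem hx)
      obtain ⟨u, hu⟩ := hsurj ⟨_, htarget⟩
      have hu' : y⁻¹ * (u : G)⁻¹ * y * u = y⁻¹ * x⁻¹ * y * x := congrArg Subtype.val hu
      have hu'' : (u : G)⁻¹ * y * u = x⁻¹ * y * x := by
        have := congrArg (fun z => y * z) hu'
        simpa [mul_assoc] using this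
      -- `w = x u⁻¹` commutes with `y`
      have hwy : y * (x * (u : G)⁻¹) = (x * (u : G)⁻¹) * y := by
        calc y * (x * (u : G)⁻¹) = x * (x⁻¹ * y * x) * (u : G)⁻¹ := by group
          _ = x * ((u : G)⁻¹ * y * u) * (u : G)⁻¹ := by rw [hu'']
          _ = (x * (u : G)⁻¹) * y := by group
      have hwP : x * (u : G)⁻¹ ∈ (P : Subgroup G) :=
        (P : Subgroup G).mul_mem hx ((P : Subgroup G).inv_mem (hDP u.2))
      have hwC : x * (u : G)⁻¹ ∈ Subgroup.centralizer (A : Set G) := by
        rw [Subgroup.mem_centralizer_iff]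
        intro a ha
        set w := x * (u : G)⁻¹ with hw
        have h1 : ⁅a, w⁆ ∈ commutator G :=
          hDG (Subgroup.commutator_mem_commutator ha hwP)
        have hay : y * a = a * y := hcomm y hyA' a ha
        have hai : y * a⁻¹ = a⁻¹ * y := hcomm y hyA' a⁻¹ (A.inv_mem ha)
        have hwi : y * w⁻¹ = w⁻¹ * y := by
          have := congrArg (fun t => w⁻¹ * t * w⁻¹) hwy
          simp only [mul_assoc, mul_inv_cancel, mul_one, inv_mul_cancel_left] at this
          exact this.symm
        have h2 : y * ⁅a, w⁆ = ⁅a, w⁆ * y := by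
          rw [commutatorElement_def]
          calc y * (a * w * a⁻¹ * w⁻¹) = (y * a) * w * a⁻¹ * w⁻¹ := by group
            _ = a * (y * w) * a⁻¹ * w⁻¹ := by rw [hay]; group
            _ = a * w * (y * a⁻¹) * w⁻¹ := by rw [hwy]; group
            _ = a * w * a⁻¹ * (y * w⁻¹) := by rw [hai]; group
            _ = a * w * a⁻¹ * w⁻¹ * y := by rw [hwi]; group
        have h3 := hkey _ h1 h2
        rwa [commutatorElement_eq_one_iff_mul_comm] at h3
      have hx' : x = (x * (u : G)⁻¹) * u := by group
      rw [hx']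
      exact Subgroup.mul_mem_sup ⟨hwP, hwC⟩ u.2
  · rw [eq_bot_iff]
    rintro x ⟨hxC, hxD⟩
    rw [Subgroup.mem_bot]
    apply hkey x (hDG hxD)
    exact Subgroup.mem_centralizer_iff.mp hxC.2 y hyA'

end CentHyp

end Cfsg.Agent.Helper6.MultCh
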