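import Mathlib

/-!
# A criterion for an abelian group to be cyclic, and fixed-point-free pairs of automorphisms
-/

set_option autoImplicit false
set_option linter.style.haveILetI false

namespace Cfsg.Agent.Helper6.MultCh

universe u

section Criterion

variable {A : Type u} [Group A]

/-- In a finite abelian group without subgroups of type `(q, q)`, the equation `a ^ q = 1` has at
most `q` solutions. -/
theorem card_pow_prime_le [Fintype A] [DecidableEq A]
    (hN : ∀ q : ℕ, q.Prime → ∀ a b : A, a ≠ 1 → a ^ q = 1 → b ^ q = 1 →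
      b ∈ Subgroup.zpowers a) (q : ℕ) (hq : q.Prime) :
    (Finset.univ.filter (fun a : A => a ^ q = 1)).card ≤ q := by
  classical
  by_cases hex : ∃ a : A, a ≠ 1 ∧ a ^ q = 1
  · obtain ⟨a, ha1, haq⟩ := hex
    haveI : Fact q.Prime := ⟨hq⟩
    have hord : orderOf a = q := orderOf_eq_prime haq ha1
    have hsub : Finset.univ.filter (fun b : A => b ^ q = 1) ⊆
        (Finset.range q).image (fun i => a ^ i) := by
      intro b hb
      rw [Finset.mem_filter] at hb
      have hbz := hN q hq a b ha1 haq hb.2
      have h1 := mem_zpowers_iff_mem_range_orderOf.mp hbz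
      rwa [hord] at h1
    calc (Finset.univ.filter (fun b : A => b ^ q = 1)).card
        ≤ ((Finset.range q).image (fun i => a ^ i)).card := Finset.card_le_card hsub
      _ ≤ (Finset.range q).card := Finset.card_image_le
      _ = q := Finset.card_range q
  · push Not at hex
    have hsub : Finset.univ.filter (fun b : A => b ^ q = 1) ⊆ {1} := by
      intro b hb
      rw [Finset.mem_filter] at hb
      rw [Finset.mem_singleton]
      by_contra hb1
      exact hex b hb1 hb.2
    calc (Finset.univ.filter (fun b : A => b ^ q = 1)).card ≤ ({1} : Finset A).card :=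
          Finset.card_le_card hsub
      _ = 1 := Finset.card_singleton 1
      _ ≤ q := hq.one_lt.le

/-- In a finite abelian group without subgroups of type `(q, q)`, the equation `a ^ n = 1` has at
most `n` solutions. -/
theorem card_pow_le [Fintype A] [DecidableEq A] (hcomm : ∀ a b : A, a * b = b * a)
    (hN : ∀ q : ℕ, q.Prime → ∀ a b : A, a ≠ 1 → a ^ q = 1 → b ^ q = 1 →
      b ∈ Subgroup.zpowers a) :
    ∀ n : ℕ, 0 < n → (Finset.univ.filter (fun a : A => a ^ n = 1)).card ≤ n := by
  intro n
  induction n using Nat.strong_induction_on with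
  | _ n ih =>
    intro hn
    by_cases h1 : n = 1
    · subst h1
      have hsub : Finset.univ.filter (fun a : A => a ^ 1 = 1) ⊆ {1} := by
        intro b hb
        rw [Finset.mem_filter, pow_one] at hb
        rw [Finset.mem_singleton]
        exact hb.2
      exact (Finset.card_le_card hsub).trans (Finset.card_singleton (1 : A)).le
    · set q := n.minFac with hqdef
      have hq : q.Prime := Nat.minFac_prime h1
      obtain ⟨m, hm⟩ := Nat.minFac_dvd n
      rw [← hqdef] at hm
      have hm0 : 0 < m := by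
        rcases Nat.eq_zero_or_pos m with h | h
        · rw [h, mul_zero] at hm
          omega
        · exact h
      have hmn : m < n := by
        rw [hm]
        have := hq.one_lt
        nlinarith
      have ihm := ih m hmn hm0
      have hmaps : ∀ a ∈ Finset.univ.filter (fun a : A => a ^ n = 1),
          a ^ q ∈ Finset.univ.filter (fun a : A => a ^ m = 1) := by
        intro a ha
        rw [Finset.mem_filter] at ha ⊢
        refine ⟨Finset.mem_univ _, ?_⟩
        rw [← pow_mul, ← hm]
        exact ha.2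
      have hfib : ∀ c ∈ Finset.univ.filter (fun a : A => a ^ m = 1),
          ((Finset.univ.filter (fun a : A => a ^ n = 1)).filter (fun a => a ^ q = c)).card ≤ q := by
        intro c _
        by_cases hne : ((Finset.univ.filter (fun a : A => a ^ n = 1)).filter
            (fun a => a ^ q = c)).Nonempty
        · obtain ⟨x₀, hx₀⟩ := hne
          rw [Finset.mem_filter] at hx₀
          have hle : ((Finset.univ.filter (fun a : A => a ^ n = 1)).filter
              (fun a => a ^ q = c)).card ≤ (Finset.univ.filter (fun a : A => a ^ q = 1)).card := by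
            apply Finset.card_le_card_of_injOn (fun x => x * x₀⁻¹)
            · intro x hx
              rw [Finset.mem_coe, Finset.mem_filter] at hx
              rw [Finset.mem_coe, Finset.mem_filter]
              refine ⟨Finset.mem_univ _, ?_⟩
              rw [(show Commute x x₀⁻¹ from hcomm x x₀⁻¹).mul_pow, inv_pow, hx.2, hx₀.2,
                mul_inv_cancel]
            · intro x _ y _ hxy
              exact mul_right_cancel hxy
          exact hle.trans (card_pow_prime_le hN q hq)
        · rw [Finset.not_nonempty_iff_eq_empty] at hne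
          rw [hne]
          simp
      calc (Finset.univ.filter (fun a : A => a ^ n = 1)).card
          ≤ q * (Finset.univ.filter (fun a : A => a ^ m = 1)).card :=
            Finset.card_le_mul_card_image_of_maps_to hmaps q hfib
        _ ≤ q * m := Nat.mul_le_mul_left q ihm
        _ = n := hm.symm

/-- A finite abelian group without subgroups of type `(q, q)` is cyclic. -/
theorem isCyclic_of_no_rank_two [Finite A] (hcomm : ∀ a b : A, a * b = b * a)
    (hN : ∀ q : ℕ, q.Prime → ∀ a b : A, a ≠ 1 → a ^ q = 1 → b ^ q = 1 →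
      b ∈ Subgroup.zpowers a) : IsCyclic A := by
  classical
  haveI := Fintype.ofFinite A
  exact isCyclic_of_card_pow_eq_one_le (card_pow_le hcomm hN)

end Criterion

section FixedPointFree

variable {W : Type u} [CommGroup W]

/-- The product of the images of `w` under the powers `γ ^ k`, `k < q`. -/
def autNorm (q : ℕ) (γ : MulAut W) (w : W) : W := ∏ k ∈ Finset.range q, (γ ^ k) w

theorem autNorm_fixed (q : ℕ) (γ : MulAut W) (hγ : γ ^ q = 1) (w : W) :
    γ (autNorm q γ w) = autNorm q γ w := by
  unfold autNorm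
  rw [map_prod]
  have h1 : ∀ k : ℕ, γ ((γ ^ k) w) = (γ ^ (k + 1)) w := by
    intro k
    rw [pow_succ']
    rfl
  simp_rw [h1]
  have h2 := Finset.prod_range_succ' (fun k => (γ ^ k) w) q
  have h3 := Finset.prod_range_succ (fun k => (γ ^ k) w) q
  rw [h3] at h2
  simp only [hγ, pow_zero] at h2
  exact (mul_right_cancel h2).symm

/-- If `α`, `β` are commuting automorphisms of exponent `q` of a commutative group such that `α`
and all `α ^ i * β` are fixed-point-free, then the group has exponent `q`. -/
theorem pow_eq_one_of_fpf_pair (q : ℕ) (hq : q.Prime) (α β : MulAut W) (hαβ : Commute α β)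
    (hα : α ^ q = 1) (hβ : β ^ q = 1) (hfixα : ∀ w : W, α w = w → w = 1)
    (hfix : ∀ i : ℕ, ∀ w : W, (α ^ i * β) w = w → w = 1) (w : W) : w ^ q = 1 := by
  have hNα : ∀ w, autNorm q α w = 1 := fun w => hfixα _ (autNorm_fixed q α hα w)
  have hpow : ∀ i : ℕ, (α ^ i * β) ^ q = 1 := by
    intro i
    rw [(hαβ.pow_left i).mul_pow, ← pow_mul, mul_comm i q, pow_mul, hα, one_pow, hβ, mul_one]
  have hNi : ∀ i w, autNorm q (α ^ i * β) w = 1 :=
    fun i w => hfix i _ (autNorm_fixed q _ (hpow i) w)
  have h1 : ∏ i ∈ Finset.range q, autNorm q (α ^ i * β) w = 1 :=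
    Finset.prod_eq_one (fun i _ => hNi i w)
  unfold autNorm at h1
  have h2 : ∀ i k : ℕ, ((α ^ i * β) ^ k) w = (α ^ (i * k)) ((β ^ k) w) := by
    intro i k
    rw [(hαβ.pow_left i).mul_pow, ← pow_mul]
    rfl
  simp_rw [h2] at h1
  rw [Finset.prod_comm] at h1
  have hq0 : 0 ∈ Finset.range q := Finset.mem_range.mpr hq.pos
  have hgk : ∀ k ∈ Finset.range q, k ≠ 0 →
      ∏ i ∈ Finset.range q, (α ^ (i * k)) ((β ^ k) w) = 1 := by
    intro k hk hk0
    rw [← hNα ((β ^ k) w)]
    unfold autNorm
    have hkq : Nat.Coprime q k := by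
      rw [Nat.Prime.coprime_iff_not_dvd hq]
      intro hdvd
      have := Nat.le_of_dvd (Nat.pos_of_ne_zero hk0) hdvd
      rw [Finset.mem_range] at hk
      omega
    have hmaps : ∀ i ∈ Finset.range q, (i * k) % q ∈ Finset.range q := by
      intro i _
      exact Finset.mem_range.mpr (Nat.mod_lt _ hq.pos)
    have hinj : ∀ i₁ i₂ (h₁ : i₁ ∈ Finset.range q) (h₂ : i₂ ∈ Finset.range q),
        (i₁ * k) % q = (i₂ * k) % q → i₁ = i₂ := by
      intro i₁ i₂ h₁ h₂ h
      have h' : i₁ * k ≡ i₂ * k [MOD q] := h
      have h'' := Nat.ModEq.cancel_right_of_coprime hkq h'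
      rw [Finset.mem_range] at h₁ h₂
      exact Nat.ModEq.eq_of_lt_of_lt h'' h₁ h₂
    apply Finset.prod_bij (fun i _ => (i * k) % q) hmaps
    · intro i₁ h₁ i₂ h₂ h
      exact hinj i₁ i₂ h₁ h₂ h
    · intro j hj
      obtain ⟨i, hi, hij⟩ := Finset.surj_on_of_inj_on_of_card_le (fun i _ => (i * k) % q) hmaps
        hinj le_rfl j hj
      exact ⟨i, hi, hij.symm⟩
    · intro i _
      rw [pow_eq_pow_mod (i * k) hα]
  rw [Finset.prod_eq_single_of_mem 0 hq0 hgk] at h1
  simpa using h1

end FixedPointFree

section Apply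

variable {G : Type u} [Group G]

/-- An abelian subgroup `A` of order prime to `p` acting fixed-point-freely by conjugation on a
non-trivial abelian normal `p`-subgroup is cyclic. -/
theorem isCyclic_of_fpf [Finite G] {p : ℕ} [hp : Fact p.Prime] (A Z : Subgroup G)
    [hZn : Z.Normal] (hAcomm : ∀ a ∈ A, ∀ b ∈ A, a * b = b * a)
    (hZcomm : ∀ x ∈ Z, ∀ y ∈ Z, x * y = y * x) (hZp : IsPGroup p Z) (hZne : Z ≠ ⊥)
    (hcop : (Nat.card A).Coprime p)
    (hfpf : ∀ a ∈ A, a ≠ 1 → ∀ z ∈ Z, a * z = z * a → z = 1) : IsCyclic A := by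
  apply isCyclic_of_no_rank_two (A := ↥A)
    (fun a b => Subtype.ext (hAcomm a a.2 b b.2))
  intro q hq a b ha1 haq hbq
  by_contra hb
  have ha1' : (a : G) ≠ 1 := fun h => ha1 (Subtype.ext h)
  have haq' : (a : G) ^ q = 1 := congrArg Subtype.val haq
  have hbq' : (b : G) ^ q = 1 := congrArg Subtype.val hbq
  have hqp : q ≠ p := by
    rintro rfl
    have h1 : orderOf (a : G) ∣ q := orderOf_dvd_of_pow_eq_one haq'
    have h2 : orderOf (a : G) ∣ Nat.card A := Subgroup.orderOf_dvd_natCard A a.2
    have h3 : orderOf (a : G) ∣ 1 := by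
      have := Nat.dvd_gcd h2 h1
      rwa [hcop] at this
    exact ha1' (orderOf_eq_one_iff.mp (Nat.dvd_one.mp h3))
  letI : CommGroup ↥Z :=
    { (inferInstance : Group ↥Z) with mul_comm := fun x y => Subtype.ext (hZcomm x x.2 y y.2) }
  let α : MulAut ↥Z := MulAut.conjNormal (a : G)
  let β : MulAut ↥Z := MulAut.conjNormal (b : G)
  have hαβ : Commute α β := by
    change MulAut.conjNormal (a : G) * MulAut.conjNormal (b : G) =
      MulAut.conjNormal (b : G) * MulAut.conjNormal (a : G)
    rw [← map_mul, ← map_mul, hAcomm a a.2 b b.2]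
  have hα : α ^ q = 1 := by
    change (MulAut.conjNormal (a : G) : MulAut ↥Z) ^ q = 1
    rw [← map_pow, haq', map_one]
  have hβ : β ^ q = 1 := by
    change (MulAut.conjNormal (b : G) : MulAut ↥Z) ^ q = 1
    rw [← map_pow, hbq', map_one]
  have hfixgen : ∀ c : G, c ∈ A → c ≠ 1 → ∀ w : ↥Z,
      (MulAut.conjNormal c : MulAut ↥Z) w = w → w = 1 := by
    intro c hc hc1 w hw
    have h1 : c * (w : G) * c⁻¹ = w := by
      have := congrArg Subtype.val hw
      rwa [MulAut.conjNormal_apply] at this
    have h2 : c * (w : G) = w * c := by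
      rw [← h1]
      simp only [inv_mul_cancel_right]
      rw [h1]
    exact Subtype.ext (hfpf c hc hc1 w w.2 h2)
  have hfixα : ∀ w : ↥Z, α w = w → w = 1 := hfixgen a a.2 ha1'
  have hfix : ∀ i : ℕ, ∀ w : ↥Z, (α ^ i * β) w = w → w = 1 := by
    intro i w hw
    have hc : (a : G) ^ i * b ∈ A := A.mul_mem (A.pow_mem a.2 i) b.2
    have hc1 : (a : G) ^ i * b ≠ 1 := by
      intro h
      apply hb
      have hb' : b = (a ^ i)⁻¹ := by
        apply Subtype.ext
        have := eq_inv_of_mul_eq_one_right h
        simpa using this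
      rw [hb']
      exact Subgroup.inv_mem _ (Subgroup.pow_mem _ (Subgroup.mem_zpowers a) i)
    apply hfixgen _ hc hc1 w
    have : (MulAut.conjNormal ((a : G) ^ i * b) : MulAut ↥Z) = α ^ i * β := by
      rw [map_mul, map_pow]
    rw [this]
    exact hw
  have hexp : ∀ w : ↥Z, w ^ q = 1 := pow_eq_one_of_fpf_pair q hq α β hαβ hα hβ hfixα hfix
  obtain ⟨z, hzZ, hz1⟩ := (Z.bot_or_exists_ne_one).resolve_left hZne
  have h1 : z ^ q = 1 := congrArg Subtype.val (hexp ⟨z, hzZ⟩)
  haveI : Fact q.Prime := ⟨hq⟩
  have h2 : orderOf z = q := orderOf_eq_prime h1 hz1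
  obtain ⟨k, hk⟩ := hZp ⟨z, hzZ⟩
  have hk' : z ^ p ^ k = 1 := congrArg Subtype.val hk
  have h3 : q ∣ p ^ k := h2 ▸ orderOf_dvd_of_pow_eq_one hk'
  exact hqp ((Nat.prime_dvd_prime_iff_eq hq hp.out).mp (hq.dvd_of_dvd_pow h3))

end Apply

end Cfsg.Agent.Helper6.MultCh
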