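import Mathlib
import Cfsg.Prelude.Def_Characters
import Cfsg.Agent.Helper6.MultChB
import Cfsg.Agent.Helper6.MultChC
import Cfsg.Agent.Helper6.MultChD
import Cfsg.Agent.Helper6.MultChE

/-!
# Characters multiplicative on pairs of elements of coprime prime-power orders: the equivalence
-/

set_option autoImplicit false
set_option linter.style.haveILetI false

namespace Cfsg.Agent.Helper6.MultCh

open scoped ComplexConjugate
open scoped commutatorElement

universe u

variable {G : Type u} [Group G]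

/-- Under the multiplicativity hypothesis the centraliser hypothesis holds for some prime. -/
theorem exists_centHyp [Finite G] (hM : MultHyp G) : ∃ p : ℕ, p.Prime ∧ CentHyp G p := by
  obtain ⟨p, hp, hv⟩ := exists_common_prime hM
  refine ⟨p, hp, ?_⟩
  intro y hy hq
  obtain ⟨q, k, hq, hqp, hyo⟩ := hq
  apply card_centralizer_of_vanish
  intro χ hnl
  exact hv χ hnl q hq hqp y hy ⟨k, hyo⟩

theorem forward [Finite G] (hM : MultHyp G) :
    (∃ p : ℕ, p.Prime ∧ IsPGroup p G) ∨ IsMulCommutative G ∨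
      ∃ (p : ℕ) (_ : Fact p.Prime) (P : Sylow p G) (A : Subgroup G),
        (P : Subgroup G).Normal ∧ IsCyclic ↥A ∧ A ≠ ⊥ ∧ (Nat.card ↥A).Coprime p ∧
        A ⊔ (P : Subgroup G) = ⊤ ∧
        IsMulCommutative ↥((P : Subgroup G) ⊓ Subgroup.centralizer (A : Set G)) ∧
        (⁅A, (P : Subgroup G)⁆).Normal ∧
        ((P : Subgroup G) ⊓ Subgroup.centralizer (A : Set G)) ⊔ ⁅A, (P : Subgroup G)⁆ =
          (P : Subgroup G) ∧
        ((P : Subgroup G) ⊓ Subgroup.centralizer (A : Set G)) ⊓ ⁅A, (P : Subgroup G)⁆ = ⊥ ∧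
        ∀ a ∈ A, a ≠ 1 → ∀ d ∈ ⁅A, (P : Subgroup G)⁆, a * d = d * a → d = 1 := by
  by_cases hcomm : ∀ a b : G, a * b = b * a
  · right; left
    exact ⟨⟨fun a b => hcomm a b⟩⟩
  · obtain ⟨p, hp, hV⟩ := exists_centHyp hM
    haveI : Fact p.Prime := ⟨hp⟩
    by_cases hpG : IsPGroup p G
    · left
      exact ⟨p, hp, hpG⟩
    · right; right
      obtain ⟨P⟩ := (inferInstance : Nonempty (Sylow p G))
      obtain ⟨hPn, A, hAcomm, hAne, hcop, hsup, hCcomm, hDn, hsupCD, hinfCD, hfpf⟩ :=
        hV.structure_thm hpG P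
      refine ⟨p, ⟨hp⟩, P, A, hPn, ?_, hAne, hcop, hsup,
        ⟨⟨fun x y => Subtype.ext (hCcomm x x.2 y y.2)⟩⟩, hDn, hsupCD, hinfCD, ?_⟩
      · -- cyclicity
        have hGp : IsPGroup p (commutator G) := hV.commutator_isPGroup
        have hGne : Nontrivial (commutator G) := by
          by_contra hnt
          rw [not_nontrivial_iff_subsingleton] at hnt
          apply hcomm
          intro a b
          have h1 : (⟨⁅a, b⁆, by
            rw [commutator_def]
            exact Subgroup.commutator_mem_commutator (Subgroup.mem_top a)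
              (Subgroup.mem_top b)⟩ : commutator G) = 1 := Subsingleton.elim _ _
          have h2 : ⁅a, b⁆ = 1 := congrArg Subtype.val h1
          rwa [commutatorElement_eq_one_iff_mul_comm] at h2
        haveI := hGne
        haveI : Nontrivial (Subgroup.center (commutator G)) := hGp.center_nontrivial
        set Z : Subgroup G := (Subgroup.center (commutator G)).map (commutator G).subtype with hZ
        have hZle : Z ≤ commutator G := by
          rw [hZ]
          exact Subgroup.map_subtype_le _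
        haveI hZn : Z.Normal := by
          rw [hZ]
          infer_instance
        have hZcomm : ∀ x ∈ Z, ∀ y ∈ Z, x * y = y * x := by
          intro x hx y hy
          rw [hZ, Subgroup.mem_map] at hx hy
          obtain ⟨x', hx', rfl⟩ := hx
          obtain ⟨y', hy', rfl⟩ := hy
          have := Subgroup.mem_center_iff.mp hx' y'
          have h2 := congrArg Subtype.val this
          simpa using h2.symm
        have hZne : Z ≠ ⊥ := by
          obtain ⟨z, hz⟩ := exists_ne (1 : Subgroup.center (commutator G))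
          intro hbot
          apply hz
          have h1 : ((z : commutator G) : G) ∈ Z := by
            rw [hZ, Subgroup.mem_map]
            exact ⟨z, z.2, rfl⟩
          rw [hbot, Subgroup.mem_bot] at h1
          apply Subtype.ext
          apply Subtype.ext
          exact h1
        exact isCyclic_of_fpf A Z hAcomm hZcomm (hGp.to_le hZle) hZne hcop
          (fun a ha ha1 z hz hza => hfpf a ha ha1 z (hZle hz) hza)
      · intro a ha ha1 d hd hda
        have hDG : ⁅A, (P : Subgroup G)⁆ ≤ commutator G := by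
          rw [commutator_def]
          exact Subgroup.commutator_mono le_top le_top
        exact hfpf a ha ha1 d (hDG hd) hda

theorem backward [Finite G]
    (h : (∃ p : ℕ, p.Prime ∧ IsPGroup p G) ∨ IsMulCommutative G ∨
      ∃ (p : ℕ) (_ : Fact p.Prime) (P : Sylow p G) (A : Subgroup G),
        (P : Subgroup G).Normal ∧ IsCyclic ↥A ∧ A ≠ ⊥ ∧ (Nat.card ↥A).Coprime p ∧
        A ⊔ (P : Subgroup G) = ⊤ ∧
        IsMulCommutative ↥((P : Subgroup G) ⊓ Subgroup.centralizer (A : Set G)) ∧
        (⁅A, (P : Subgroup G)⁆).Normal ∧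
        ((P : Subgroup G) ⊓ Subgroup.centralizer (A : Set G)) ⊔ ⁅A, (P : Subgroup G)⁆ =
          (P : Subgroup G) ∧
        ((P : Subgroup G) ⊓ Subgroup.centralizer (A : Set G)) ⊓ ⁅A, (P : Subgroup G)⁆ = ⊥ ∧
        ∀ a ∈ A, a ≠ 1 → ∀ d ∈ ⁅A, (P : Subgroup G)⁆, a * d = d * a → d = 1) :
    MultHyp G := by
  intro x y χ hx hy hxy
  obtain ⟨p₁, q₁, a, b, hp₁, hq₁, hne, hox, hoy⟩ := hxy
  rcases h with ⟨p, hp, hpG⟩ | hcomm | ⟨p, hp, P, A, hPn, hcyc, hAne, hcop, hsup, hCcomm, hDn,
    hsupCD, hinfCD, hfpf⟩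
  · -- `G` is a `p`-group: impossible
    exfalso
    haveI : Fact p.Prime := ⟨hp⟩
    have key : ∀ (z : G) (r c : ℕ), z ≠ 1 → r.Prime → orderOf z = r ^ c → r = p := by
      intro z r c hz hr hzo
      obtain ⟨k, hk⟩ := hpG z
      have h1 : orderOf z ∣ p ^ k := orderOf_dvd_of_pow_eq_one hk
      have hc : c ≠ 0 := by
        rintro rfl
        rw [pow_zero, orderOf_eq_one_iff] at hzo
        exact hz hzo
      have h2 : r ∣ p ^ k := by
        rw [hzo] at h1
        exact (dvd_pow_self r hc).trans h1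
      exact (Nat.prime_dvd_prime_iff_eq hr hp).mp (hr.dvd_of_dvd_pow h2)
    exact hne ((key x p₁ a hx hp₁ hox).trans (key y q₁ b hy hq₁ hoy).symm)
  · -- abelian
    have hlin : (χ : G → ℂ) 1 = 1 :=
      (comm_iff_forall_irr_degree_one.mp (fun a b => hcomm.is_comm.comm a b)) χ
    obtain ⟨lam, hlam⟩ := exists_hom_of_irr_degree_one χ.2 hlin
    rw [hlam]
    simp only [map_mul, Units.val_mul]
  · haveI := hp
    haveI := hPn
    haveI := hDn
    have hS : Struct p (P : Subgroup G) A :=
      { pgroup := P.isPGroup'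
        comm := by
          intro a ha b hb
          haveI := hcyc
          have := (IsCyclic.isMulCommutative (α := ↥A)).is_comm.comm ⟨a, ha⟩ ⟨b, hb⟩
          exact congrArg Subtype.val this
        coprime := hcop
        sup := hsup
        commC := by
          intro x hx y hy
          have := hCcomm.is_comm.comm ⟨x, hx⟩ ⟨y, hy⟩
          exact congrArg Subtype.val this
        supCD := hsupCD
        fpf := hfpf }
    exact hS.mult x y hx hy hp₁ hq₁ hne hox hoy χ

theorem main [Finite G] :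
    MultHyp G ↔ ((∃ p : ℕ, p.Prime ∧ IsPGroup p G) ∨ IsMulCommutative G ∨
      ∃ (p : ℕ) (_ : Fact p.Prime) (P : Sylow p G) (A : Subgroup G),
        (P : Subgroup G).Normal ∧ IsCyclic ↥A ∧ A ≠ ⊥ ∧ (Nat.card ↥A).Coprime p ∧
        A ⊔ (P : Subgroup G) = ⊤ ∧
        IsMulCommutative ↥((P : Subgroup G) ⊓ Subgroup.centralizer (A : Set G)) ∧
        (⁅A, (P : Subgroup G)⁆).Normal ∧
        ((P : Subgroup G) ⊓ Subgroup.centralizer (A : Set G)) ⊔ ⁅A, (P : Subgroup G)⁆ =
          (P : Subgroup G) ∧
        ((P : Subgroup G) ⊓ Subgroup.centralizer (A : Set G)) ⊓ ⁅A, (P : Subgroup G)⁆ = ⊥ ∧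
        ∀ a ∈ A, a ≠ 1 → ∀ d ∈ ⁅A, (P : Subgroup G)⁆, a * d = d * a → d = 1) :=
  ⟨forward, backward⟩

end Cfsg.Agent.Helper6.MultCh
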