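import Mathlib
import Cfsg.Prelude.Def_Characters
import Cfsg.Agent.Helper6.RepEigen
import Cfsg.Agent.Helper6.CharBasic
import Cfsg.Agent.Helper6.IrrCount
import Cfsg.Agent.D1C.GalA

/-!
# S4923 (Sylow 2-subgroups of maximal class and fields of values), part A: characters

* `mxc_eig` : the values of a character on the powers of `g` are power sums of `o(g)`-th roots of
  unity.
* `mxc_gal_apply` : a field automorphism acting on the `o(g)`-th roots of unity as the `k`-th power
  map sends `χ(g)` to `χ(g^k)`.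
* `mxc_mult` : the multiplicity of an eigenvalue as a Fourier coefficient.
* `mxc_sum_mult` : `∑_χ a_χ χ(g) · m = |C_G(g)| · ∑_{i < m, g^i ∼ g} ξ^i` with natural numbers
  `a_χ`.
-/

set_option autoImplicit false
set_option linter.style.haveILetI false
set_option linter.unusedSectionVars false

namespace Cfsg.Agent.Helper6

open scoped ComplexConjugate

universe u

variable {G : Type u} [Group G]

/-- values of a character on the powers of `g` as power sums of `o(g)`-th roots of unity -/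
theorem mxc_eig [Finite G] {χ : G → ℂ} (hχ : Cfsg.IsCharacter G χ) (g : G) :
    ∃ (ι : Type) (_ : Fintype ι) (μ : ι → ℂ), (∀ i, μ i ^ orderOf g = 1) ∧
      ∀ k : ℕ, χ (g ^ k) = ∑ i, μ i ^ k := by
  obtain ⟨n, ρ, rfl⟩ := hχ
  obtain ⟨ι, hι, b, μ, h1, h2, -⟩ := exists_eigenbasis_rep ρ g
  refine ⟨ι, hι, μ, h2, fun k => ?_⟩
  show LinearMap.trace ℂ _ (ρ (g ^ k)) = _
  exact trace_eq_sum_of_eigenbasis b (ρ (g ^ k)) (fun i => μ i ^ k)
    (fun i => eigen_pow ρ g b μ h1 k i)

/-- a field automorphism acting on the `o(g)`-th roots of unity as the `k`-th power map sends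
`χ(g)` to `χ(g^k)` -/
theorem mxc_gal_apply [Finite G] {χ : G → ℂ} (hχ : Cfsg.IsCharacter G χ) (g : G) (σ : ℂ ≃+* ℂ)
    (k : ℕ) (hσ : ∀ μ : ℂ, μ ^ orderOf g = 1 → σ μ = μ ^ k) : σ (χ g) = χ (g ^ k) := by
  obtain ⟨ι, hι, μ, h1, h2⟩ := mxc_eig hχ g
  have e1 : χ g = ∑ i, μ i := by
    have := h2 1
    simpa using this
  rw [e1, h2 k, map_sum]
  exact Finset.sum_congr rfl (fun i _ => hσ (μ i) (h1 i))

/-- the geometric sum of an `m`-th root of unity -/
theorem mxc_geom (m : ℕ) (z : ℂ) (hz : z ^ m = 1) :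
    ∑ i ∈ Finset.range m, z ^ i = if z = 1 then (m : ℂ) else 0 := by
  split_ifs with h
  · rw [h]; simp
  · have h1 : (z - 1) * ∑ i ∈ Finset.range m, z ^ i = 0 := by
      rw [mul_comm, geom_sum_mul, hz, sub_self]
    rcases mul_eq_zero.mp h1 with h2 | h2
    · exact absurd (sub_eq_zero.mp h2) h
    · exact h2

open Classical in
/-- the multiplicity of the eigenvalue `ξ` of `g` in a character, as a Fourier coefficient -/
theorem mxc_mult [Finite G] {χ : G → ℂ} (hχ : Cfsg.IsCharacter G χ) (g : G) (m : ℕ)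
    (hg : g ^ m = 1) (ξ : ℂ) (hξ : ξ ^ m = 1) :
    ∃ a : ℕ, ∑ i ∈ Finset.range m, conj (χ (g ^ i)) * ξ ^ i = (m : ℂ) * a := by
  obtain ⟨ι, hι, μ, h1, h2⟩ := mxc_eig hχ g
  have hdvd : orderOf g ∣ m := orderOf_dvd_of_pow_eq_one hg
  have hμm : ∀ l, μ l ^ m = 1 := by
    intro l
    obtain ⟨c, rfl⟩ := hdvd
    rw [pow_mul, h1 l, one_pow]
  have hpos : 0 < orderOf g := orderOf_pos g
  have hconj : ∀ l, conj (μ l) = (μ l)⁻¹ := fun l =>
    (inv_eq_conj_of_pow_eq_one hpos (h1 l)).symm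
  refine ⟨(Finset.univ.filter (fun l => μ l = ξ)).card, ?_⟩
  have e1 : ∀ i ∈ Finset.range m, conj (χ (g ^ i)) * ξ ^ i = ∑ l, ((μ l)⁻¹ * ξ) ^ i := by
    intro i _
    rw [h2 i, map_sum, Finset.sum_mul]
    apply Finset.sum_congr rfl
    intro l _
    rw [map_pow, hconj l, mul_pow]
  rw [Finset.sum_congr rfl e1, Finset.sum_comm]
  have e2 : ∀ l, ∑ i ∈ Finset.range m, ((μ l)⁻¹ * ξ) ^ i = if μ l = ξ then (m : ℂ) else 0 := by
    intro l
    have hne : μ l ≠ 0 := by
      intro h0
      have := h1 l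
      rw [h0, zero_pow hpos.ne'] at this
      exact zero_ne_one this
    rw [mxc_geom m _ (by rw [mul_pow, inv_pow, hμm l, hξ, inv_one, one_mul])]
    have hiff : (μ l)⁻¹ * ξ = 1 ↔ μ l = ξ := by
      constructor
      · intro h
        have := congrArg (fun w => μ l * w) h
        simp only [mul_one] at this
        rw [← mul_assoc, mul_inv_cancel₀ hne, one_mul] at this
        exact this.symm
      · intro h
        rw [← h, inv_mul_cancel₀ hne]
    by_cases h : μ l = ξ
    · rw [if_pos h, if_pos (hiff.mpr h)]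
    · rw [if_neg h, if_neg (fun h' => h (hiff.mp h'))]
  rw [Finset.sum_congr rfl (fun l _ => e2 l), Finset.sum_ite, Finset.sum_const_zero, add_zero,
    Finset.sum_const, nsmul_eq_mul, mul_comm]

open Classical in
/-- **The multiplicity identity.** For `g` with `g ^ m = 1` and an `m`-th root of unity `ξ` there
are natural numbers `a χ` with `m · ∑_χ a_χ χ(g) = |C_G(g)| · ∑_{i < m, g ∼ g^i} ξ^i`. -/
theorem mxc_sum_mult [Finite G] [Fintype (Cfsg.IrrCharacter G)] (g : G) (m : ℕ)
    (hg : g ^ m = 1) (ξ : ℂ) (hξ : ξ ^ m = 1) :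
    ∃ a : Cfsg.IrrCharacter G → ℕ,
      (m : ℂ) * ∑ χ : Cfsg.IrrCharacter G, (a χ : ℂ) * (χ : G → ℂ) g =
        (Nat.card (Subgroup.centralizer ({g} : Set G)) : ℂ) *
          ∑ i ∈ (Finset.range m).filter (fun i => IsConj g (g ^ i)), ξ ^ i := by
  haveI := Fintype.ofFinite G
  have hex : ∀ χ : Cfsg.IrrCharacter G, ∃ a : ℕ,
      ∑ i ∈ Finset.range m, conj ((χ : G → ℂ) (g ^ i)) * ξ ^ i = (m : ℂ) * a :=
    fun χ => mxc_mult (IsIrrCharacter.isCharacter χ.2) g m hg ξ hξ
  choose a ha using hex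
  refine ⟨a, ?_⟩
  calc (m : ℂ) * ∑ χ : Cfsg.IrrCharacter G, (a χ : ℂ) * (χ : G → ℂ) g
      = ∑ χ : Cfsg.IrrCharacter G,
          (∑ i ∈ Finset.range m, conj ((χ : G → ℂ) (g ^ i)) * ξ ^ i) * (χ : G → ℂ) g := by
        rw [Finset.mul_sum]
        apply Finset.sum_congr rfl
        intro χ _
        rw [ha χ]; ring
    _ = ∑ i ∈ Finset.range m, ξ ^ i *
          ∑ χ : Cfsg.IrrCharacter G, (χ : G → ℂ) g * conj ((χ : G → ℂ) (g ^ i)) := by
        rw [Finset.sum_congr rfl (fun χ _ => Finset.sum_mul _ _ _), Finset.sum_comm]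
        apply Finset.sum_congr rfl
        intro i _
        rw [Finset.mul_sum]
        apply Finset.sum_congr rfl
        intro χ _
        ring
    _ = ∑ i ∈ Finset.range m, ξ ^ i *
          (if IsConj g (g ^ i) then (Nat.card (Subgroup.centralizer ({g} : Set G)) : ℂ)
            else 0) := by
        apply Finset.sum_congr rfl
        intro i _
        rw [column_orthogonality_aux g (g ^ i)]
    _ = _ := by
        rw [Finset.mul_sum, Finset.sum_filter]
        apply Finset.sum_congr rfl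
        intro i _
        split_ifs <;> ring

end Cfsg.Agent.Helper6
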