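import Mathlib
import Cfsg.Agent.Helper1.PGroup
import Cfsg.Agent.Helper1.MaxClassKlein

/-!
# S4923, part B: `2`-groups whose commutator quotient has order `4`

* `mxc_zpowers_eq_top`, `mxc_comm_of_index_le_two` : a finite `p`-group with cyclic commutator
  quotient is cyclic.
* `mxc_sq_mem` : if `|X| = 2 ^ n ≥ 8` and `|X : X'| = 4` then squares lie in `X'`.
* `mxc_arith` : `k² ≡ 1 (mod 2^(n-1))` and `k ≡ 3 (mod 4)` force `k ≡ -1` or `k ≡ -1 + 2^(n-2)`.
* `mxc_structure` : `|X : X'| = 4` gives a cyclic subgroup `⟨c⟩` of index `2` and `t ∉ ⟨c⟩` with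
  `t c t⁻¹ = c^k`, `k = 2^(n-1) - 1` or `k = 2^(n-2) - 1`, and the centre has exponent `2`.
-/

set_option autoImplicit false
set_option linter.style.haveILetI false
set_option linter.unusedSectionVars false

namespace Cfsg.Agent.Helper6

universe u

variable {X : Type u} [Group X]

/-- a finite `p`-group generated by `x` modulo its commutator subgroup is generated by `x` -/
theorem mxc_zpowers_eq_top [Finite X] {p : ℕ} [Fact p.Prime] (hX : IsPGroup p X) (x : X)
    (h : Subgroup.zpowers x ⊔ commutator X = ⊤) : Subgroup.zpowers x = ⊤ := by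
  apply frattini_nongenerating
  apply top_le_iff.mp
  rw [← h]
  exact sup_le_sup_left (Cfsg.Agent.Helper1.IsPGroup.commutator_le_frattini hX) _

/-- elements of a cyclic group commute -/
theorem mxc_comm_of_zpowers_eq_top (x : X) (h : Subgroup.zpowers x = ⊤) (a b : X) :
    a * b = b * a := by
  have ha : a ∈ Subgroup.zpowers x := h ▸ Subgroup.mem_top a
  have hb : b ∈ Subgroup.zpowers x := h ▸ Subgroup.mem_top b
  obtain ⟨i, rfl⟩ := Subgroup.mem_zpowers_iff.mp ha
  obtain ⟨j, rfl⟩ := Subgroup.mem_zpowers_iff.mp hb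
  rw [← zpow_add, ← zpow_add, add_comm]

/-- a finite `p`-group whose commutator subgroup has index at most `2` is abelian -/
theorem mxc_comm_of_index_le_two [Finite X] {p : ℕ} [Fact p.Prime] (hX : IsPGroup p X)
    (h : (commutator X).index ≤ 2) (a b : X) : a * b = b * a := by
  have hne : (commutator X).index ≠ 0 := Subgroup.index_ne_zero_of_finite
  obtain ⟨x, hx⟩ : ∃ x : X, Subgroup.zpowers x ⊔ commutator X = ⊤ := by
    rcases (by omega : (commutator X).index = 1 ∨ (commutator X).index = 2) with h1 | h2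
    · refine ⟨1, ?_⟩
      rw [Subgroup.index_eq_one.mp h1]
      simp
    · have hne' : commutator X ≠ ⊤ := by
        intro h'
        rw [h', Subgroup.index_top] at h2
        omega
      obtain ⟨x, -, hx⟩ := SetLike.exists_of_lt (lt_top_iff_ne_top.mpr hne')
      refine ⟨x, eq_top_iff.mpr fun y _ => ?_⟩
      by_cases hy : y ∈ commutator X
      · exact Subgroup.mem_sup_right hy
      · have hmem : y * x⁻¹ ∈ commutator X :=
          (Subgroup.mul_mem_iff_of_index_two h2).mpr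
            ⟨fun h => absurd h hy, fun h => absurd (inv_mem_iff.mp h) hx⟩
        have e : y = (y * x⁻¹) * x := by group
        rw [e]
        exact Subgroup.mul_mem _ (Subgroup.mem_sup_right hmem)
          (Subgroup.mem_sup_left (Subgroup.mem_zpowers x))
  exact mxc_comm_of_zpowers_eq_top x (mxc_zpowers_eq_top hX x hx) a b

/-- if `|X| = 2 ^ n ≥ 8` and `|X : X'| = 4` then squares lie in `X'` -/
theorem mxc_sq_mem [Finite X] (n : ℕ) (hn : 3 ≤ n) (hX : Nat.card X = 2 ^ n)
    (h4 : (commutator X).index = 4) (x : X) : x ^ 2 ∈ commutator X := by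
  haveI : Fact (Nat.Prime 2) := ⟨Nat.prime_two⟩
  have hXp : IsPGroup 2 X := IsPGroup.of_card hX
  by_contra hx
  have hcardQ : Nat.card (X ⧸ commutator X) = 4 := by
    rw [← Subgroup.index_eq_card, h4]
  have hx2 : (QuotientGroup.mk x : X ⧸ commutator X) ^ 2 ≠ 1 := by
    rw [← QuotientGroup.mk_pow, Ne, QuotientGroup.eq_one_iff]
    exact hx
  have hord : orderOf (QuotientGroup.mk x : X ⧸ commutator X) = 4 := by
    have hdvd : orderOf (QuotientGroup.mk x : X ⧸ commutator X) ∣ 4 := by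
      rw [← hcardQ]; exact orderOf_dvd_natCard _
    have hle : orderOf (QuotientGroup.mk x : X ⧸ commutator X) ≤ 4 := Nat.le_of_dvd (by norm_num) hdvd
    have hnd : ¬ orderOf (QuotientGroup.mk x : X ⧸ commutator X) ∣ 2 := fun h =>
      hx2 (orderOf_dvd_iff_pow_eq_one.mp h)
    have hpos : 0 < orderOf (QuotientGroup.mk x : X ⧸ commutator X) := orderOf_pos _
    interval_cases h : orderOf (QuotientGroup.mk x : X ⧸ commutator X)
    · exact absurd (one_dvd 2) hnd
    · exact absurd dvd_rfl hnd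
    · norm_num at hdvd
    · rfl
  have htopQ : Subgroup.zpowers (QuotientGroup.mk x : X ⧸ commutator X) = ⊤ := by
    apply Subgroup.eq_top_of_card_eq
    rw [Nat.card_zpowers, hord, hcardQ]
  have hsup : Subgroup.zpowers x ⊔ commutator X = ⊤ := by
    refine eq_top_iff.mpr fun y _ => ?_
    have hy : (QuotientGroup.mk y : X ⧸ commutator X) ∈
        Subgroup.zpowers (QuotientGroup.mk x : X ⧸ commutator X) := htopQ ▸ Subgroup.mem_top _
    obtain ⟨i, hi⟩ := Subgroup.mem_zpowers_iff.mp hy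
    rw [← QuotientGroup.mk_zpow, QuotientGroup.eq] at hi
    have e : y = x ^ i * ((x ^ i)⁻¹ * y) := by group
    rw [e]
    exact Subgroup.mul_mem _ (Subgroup.mem_sup_left (Subgroup.zpow_mem_zpowers x i))
      (Subgroup.mem_sup_right hi)
  have hcomm := mxc_comm_of_zpowers_eq_top x (mxc_zpowers_eq_top hXp x hsup)
  have hbot : commutator X = ⊥ := Cfsg.Agent.Helper1.commutator_eq_bot_of_comm hcomm
  rw [hbot, Subgroup.index_bot, hX] at h4
  have : 2 ^ 3 ≤ 2 ^ n := Nat.pow_le_pow_right (by norm_num) hn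
  omega

/-- `k² ≡ 1 (mod 2^(n-1))` and `k ≡ 3 (mod 4)` force `k ≡ -1` or `k ≡ -1 + 2^(n-2)` -/
theorem mxc_arith (n k : ℕ) (hn : 3 ≤ n) (h1 : k * k ≡ 1 [MOD 2 ^ (n - 1)]) (h3 : k % 4 = 3) :
    k % 2 ^ (n - 1) = 2 ^ (n - 1) - 1 ∨ (4 ≤ n ∧ k % 2 ^ (n - 1) = 2 ^ (n - 2) - 1) := by
  obtain ⟨M, hM⟩ : ∃ M : ℕ, M = 2 ^ (n - 2) := ⟨_, rfl⟩
  have hM2 : 2 ^ (n - 1) = 2 * M := by
    rw [hM, ← pow_succ']
    congr 1
    omega
  have hMpos : 2 ≤ M := by
    rw [hM]
    calc 2 = 2 ^ 1 := by norm_num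
      _ ≤ 2 ^ (n - 2) := Nat.pow_le_pow_right (by norm_num) (by omega)
  obtain ⟨q, hq⟩ : ∃ q, k = 4 * q + 3 := ⟨k / 4, by omega⟩
  have hk1 : 1 ≤ k * k := by rw [hq]; nlinarith
  have hdvd : 2 * M ∣ k * k - 1 := by
    rw [← hM2]
    exact (Nat.modEq_iff_dvd' hk1).mp h1.symm
  have hfac : k * k - 1 = 2 * ((2 * q + 1) * (k + 1)) := by
    rw [hq]
    have : (4 * q + 3) * (4 * q + 3) = 2 * ((2 * q + 1) * (4 * q + 3 + 1)) + 1 := by ring
    omega
  rw [hfac] at hdvd
  have hdvd2 : M ∣ (2 * q + 1) * (k + 1) := Nat.dvd_of_mul_dvd_mul_left (by norm_num) hdvd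
  have hcop : Nat.Coprime M (2 * q + 1) := by
    rw [hM]
    apply Nat.Coprime.pow_left
    rw [Nat.coprime_two_left]
    exact ⟨q, rfl⟩
  obtain ⟨s, hs⟩ := hcop.dvd_of_dvd_mul_left hdvd2
  rw [hM2]
  rcases Nat.even_or_odd' s with ⟨s', hs' | hs'⟩
  · left
    have hs'pos : 1 ≤ s' := by
      by_contra hcon
      have : s' = 0 := by omega
      rw [hs', this] at hs
      simp at hs
    obtain ⟨s'', rfl⟩ : ∃ s'', s' = s'' + 1 := ⟨s' - 1, by omega⟩
    have hk : k = 2 * M * s'' + (2 * M - 1) := by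
      have : k + 1 = 2 * M * s'' + 2 * M := by rw [hs, hs']; ring
      omega
    rw [hk, Nat.mul_add_mod, Nat.mod_eq_of_lt (by omega)]
  · right
    have hk : k = 2 * M * s' + (M - 1) := by
      have : k + 1 = 2 * M * s' + M := by rw [hs, hs']; ring
      omega
    have hmod : k % (2 * M) = M - 1 := by
      rw [hk, Nat.mul_add_mod, Nat.mod_eq_of_lt (by omega)]
    refine ⟨?_, hM ▸ hmod⟩
    by_contra hn4
    have hn3 : n = 3 := by omega
    have hM2' : M = 2 := by rw [hM, hn3]; norm_num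
    rw [hM2'] at hmod
    omega

set_option maxHeartbeats 800000 in
open Classical in
/-- **Structure of a `2`-group with commutator quotient of order `4`**: a cyclic subgroup `⟨c⟩` of
index `2`, an element `t ∉ ⟨c⟩` with `t c t⁻¹ = c ^ k`, `k = 2^(n-1) - 1` or `k = 2^(n-2) - 1`, and
the centre has exponent `2`. -/
theorem mxc_structure [Finite X] (n : ℕ) (hn : 3 ≤ n) (hX : Nat.card X = 2 ^ n)
    (h4 : (commutator X).index = 4) :
    ∃ (c t : X) (k : ℕ), orderOf c = 2 ^ (n - 1) ∧ (Subgroup.zpowers c).index = 2 ∧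
      t ∉ Subgroup.zpowers c ∧ t * c * t⁻¹ = c ^ k ∧
      (k = 2 ^ (n - 1) - 1 ∨ (4 ≤ n ∧ k = 2 ^ (n - 2) - 1)) ∧
      (∀ z : X, (∀ y : X, y * z = z * y) → z ^ 2 = 1) := by
  haveI : Fact (Nat.Prime 2) := ⟨Nat.prime_two⟩
  have hsq := mxc_sq_mem n hn hX h4
  have hc : Group.nilpotencyClass X = n - 1 :=
    Cfsg.Agent.Helper1.maxClass_of_kleinFour n hn X hX h4 hsq
  obtain ⟨C, hCc, hCi⟩ := Cfsg.Agent.Helper1.exists_cyclic_index_two n hn X hX hc
  obtain ⟨hZ, -, -⟩ := Cfsg.Agent.Helper1.maxClass_center (p := 2) n hn hX hc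
  haveI := hCc
  obtain ⟨c', hc'⟩ := IsCyclic.exists_generator (α := C)
  obtain ⟨c, hCz⟩ : ∃ c : X, C = Subgroup.zpowers c := by
    refine ⟨c'.1, ?_⟩
    ext y
    constructor
    · intro hy
      obtain ⟨i, hi⟩ := Subgroup.mem_zpowers_iff.mp (hc' ⟨y, hy⟩)
      refine Subgroup.mem_zpowers_iff.mpr ⟨i, ?_⟩
      have := congrArg Subtype.val hi
      simpa using this
    · intro hy
      obtain ⟨i, rfl⟩ := Subgroup.mem_zpowers_iff.mp hy
      exact Subgroup.zpow_mem C c'.2 i
  subst hCz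
  obtain ⟨m, hm⟩ : ∃ m : ℕ, m = 2 ^ (n - 1) := ⟨_, rfl⟩
  obtain ⟨w, hw⟩ : ∃ w : ℕ, w = 2 ^ (n - 3) := ⟨_, rfl⟩
  have hwpos : 1 ≤ w := by rw [hw]; exact Nat.one_le_two_pow
  have hm4 : m = 4 * w := by
    rw [hm, hw, show (4 : ℕ) = 2 ^ 2 by norm_num, ← pow_add]
    congr 1
    omega
  have hmn : 2 ^ n = m * 2 := by
    rw [hm, ← pow_succ]
    congr 1
    omega
  have hord : orderOf c = m := by
    have h1 := Subgroup.card_mul_index (Subgroup.zpowers c)
    rw [Nat.card_zpowers, hCi, hX, hmn] at h1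
    exact Nat.eq_of_mul_eq_mul_right (by norm_num) h1
  have hcm : c ^ m = 1 := by rw [← hord]; exact pow_orderOf_eq_one c
  have hN : (Subgroup.zpowers c).Normal := Subgroup.normal_of_index_eq_two hCi
  -- an element outside `⟨c⟩`
  have hne : Subgroup.zpowers c ≠ ⊤ := by
    intro h
    rw [h, Subgroup.index_top] at hCi
    omega
  obtain ⟨t, -, ht⟩ := SetLike.exists_of_lt (lt_top_iff_ne_top.mpr hne)
  have htct : t * c * t⁻¹ ∈ Subgroup.zpowers c := hN.conj_mem c (Subgroup.mem_zpowers c) t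
  obtain ⟨k, hk_lt, hk⟩ : ∃ k, k < m ∧ c ^ k = t * c * t⁻¹ := by
    have := mem_zpowers_iff_mem_range_orderOf.mp htct
    obtain ⟨k, hk1, hk2⟩ := Finset.mem_image.mp this
    exact ⟨k, by rw [← hord]; exact Finset.mem_range.mp hk1, hk2⟩
  -- `k² ≡ 1`
  have hk2 : k * k ≡ 1 [MOD m] := by
    have ht2 : t ^ 2 ∈ Subgroup.zpowers c := Subgroup.sq_mem_of_index_two hCi t
    obtain ⟨j, hj⟩ := Subgroup.mem_zpowers_iff.mp ht2
    have hcomm : t ^ 2 * c * (t ^ 2)⁻¹ = c := by
      rw [← hj]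
      have e : c ^ j * c = c * c ^ j := by
        rw [← zpow_add_one, ← zpow_one_add, add_comm]
      rw [e, mul_assoc, mul_inv_cancel, mul_one]
    have h1 : t ^ 2 * c * (t ^ 2)⁻¹ = c ^ (k * k) := by
      calc t ^ 2 * c * (t ^ 2)⁻¹ = t * (t * c * t⁻¹) * t⁻¹ := by
            rw [pow_two, mul_inv_rev]; simp only [mul_assoc]
        _ = t * c ^ k * t⁻¹ := by rw [hk]
        _ = (t * c * t⁻¹) ^ k := (conj_pow).symm
        _ = (c ^ k) ^ k := by rw [hk]
        _ = c ^ (k * k) := (pow_mul c k k).symm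
    have h2 : c ^ (k * k) = c ^ 1 := by rw [← h1, hcomm, pow_one]
    have := pow_eq_pow_iff_modEq.mp h2
    rwa [hord] at this
  -- the centre has exponent `2`
  have hcenter : ∀ z : X, (∀ y : X, y * z = z * y) → z ^ 2 = 1 := by
    intro z hz
    have hzc : z ∈ Subgroup.center X := Subgroup.mem_center_iff.mpr hz
    have h1 : (⟨z, hzc⟩ : Subgroup.center X) ^ 2 = 1 := by
      rw [← hZ]; exact pow_card_eq_one'
    have := congrArg Subtype.val h1
    simpa using this
  -- `k ≡ 3 (mod 4)`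
  have hk3 : k % 4 = 3 := by
    have h2m : 2 ∣ m := ⟨2 * w, by rw [hm4]; ring⟩
    have hodd : k * k % 2 = 1 := by
      have := hk2.of_dvd h2m
      exact this
    have hk_odd : k % 2 = 1 := by
      rcases Nat.even_or_odd k with he | ho
      · exfalso
        obtain ⟨r, hr⟩ := he
        rw [hr] at hodd
        have : (r + r) * (r + r) = 2 * (2 * r * r) := by ring
        omega
      · exact Nat.odd_iff.mp ho
    by_contra hk3
    have hk1 : k % 4 = 1 := by omega
    obtain ⟨q, hq⟩ : ∃ q, k = 4 * q + 1 := ⟨k / 4, by omega⟩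
    -- the element `z = c ^ w` is central
    have hzt : t * c ^ w * t⁻¹ = c ^ w := by
      calc t * c ^ w * t⁻¹ = (t * c * t⁻¹) ^ w := (conj_pow).symm
        _ = (c ^ k) ^ w := by rw [hk]
        _ = c ^ (m * q + w) := by
            rw [← pow_mul, hq, hm4]; congr 1; ring
        _ = c ^ w := by rw [pow_add, pow_mul, hcm, one_pow, one_mul]
    have hzt' : t * c ^ w = c ^ w * t := by
      have := congrArg (fun x => x * t) hzt
      simpa [mul_assoc] using this
    have hzC : ∀ y ∈ Subgroup.zpowers c, y * c ^ w = c ^ w * y := by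
      intro y hy
      obtain ⟨i, rfl⟩ := Subgroup.mem_zpowers_iff.mp hy
      rw [← zpow_natCast, ← zpow_add, ← zpow_add, add_comm]
    have hzall : ∀ y : X, y * c ^ w = c ^ w * y := by
      intro y
      by_cases hy : y ∈ Subgroup.zpowers c
      · exact hzC y hy
      · have hmem : y * t⁻¹ ∈ Subgroup.zpowers c :=
          (Subgroup.mul_mem_iff_of_index_two hCi).mpr
            ⟨fun h => absurd h hy, fun h => absurd (inv_mem_iff.mp h) ht⟩
        have e : y = (y * t⁻¹) * t := by group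
        rw [e, mul_assoc, hzt', ← mul_assoc, hzC _ hmem, mul_assoc]
    have hz2 := hcenter (c ^ w) hzall
    rw [← pow_mul] at hz2
    have hdvd : m ∣ w * 2 := by
      rw [← hord]; exact orderOf_dvd_of_pow_eq_one hz2
    rw [hm4] at hdvd
    have := Nat.le_of_dvd (by omega) hdvd
    omega
  have harith := mxc_arith n k hn (hm ▸ hk2) hk3
  rw [← hm, Nat.mod_eq_of_lt hk_lt] at harith
  exact ⟨c, t, k, hm ▸ hord, hCi, ht, hk.symm, hm ▸ harith, hcenter⟩

end Cfsg.Agent.Helper6
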