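import Mathlib
import Cfsg.Agent.Helper6.ColumnOrth

/-!
# S4923, part C: fusion of a cyclic `2`-subgroup, class sizes, and two field lemmas

* `mxc_fusion` : if the Sylow `2`-subgroup `P` normalizes the cyclic `2`-group `⟨g⟩`, every
  `G`-conjugate `g ^ j` of `g` is already a `P`-conjugate.
* `mxc_two_dvd_index` : a `2`-element whose square is not `1`, in a group whose Sylow
  `2`-subgroups have centre of exponent `2`, has even class size.
* `mxc_odd_index_of_comm` : in a group with abelian Sylow `2`-subgroup `P` the elements of `P` have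
  odd class size.
* `mxc_w_mem` : `z ^ i + a ^ i` lies in any subfield containing `z + a` and `z * a`.
* `mxc_fixed_adjoin` : an automorphism fixing generators fixes the generated field.
-/

set_option autoImplicit false
set_option linter.style.haveILetI false
set_option linter.unusedSectionVars false

namespace Cfsg.Agent.Helper6

universe u

variable {G : Type u} [Group G]

set_option maxHeartbeats 800000 in
/-- if the Sylow `2`-subgroup `P` normalizes the cyclic `2`-group `⟨g⟩`, every `G`-conjugate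
`g ^ j` of `g` is a `P`-conjugate -/
theorem mxc_fusion [Finite G] (P : Sylow 2 G) (g x : G)
    (hnorm : (P : Subgroup G) ≤ Subgroup.normalizer ((Subgroup.zpowers g : Subgroup G) : Set G))
    (hord : ∃ a : ℕ, orderOf g = 2 ^ a) (j : ℕ) (hx : x * g * x⁻¹ = g ^ j) :
    ∃ y ∈ (P : Subgroup G), y * g * y⁻¹ = g ^ j := by
  classical
  haveI : Fact (Nat.Prime 2) := ⟨Nat.prime_two⟩
  -- `x` normalizes `⟨g⟩`
  have hxN : x ∈ Subgroup.normalizer ((Subgroup.zpowers g : Subgroup G) : Set G) := by
    apply Subgroup.mem_normalizer_fintype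
    intro h hh
    obtain ⟨i, rfl⟩ := Subgroup.mem_zpowers_iff.mp hh
    have : x * g ^ i * x⁻¹ = (g ^ j) ^ i := by
      rw [← hx, conj_zpow]
    rw [this]
    exact Subgroup.zpow_mem _ (Subgroup.pow_mem _ (Subgroup.mem_zpowers g) j) i
  obtain ⟨K, hK⟩ : ∃ K : Subgroup ↥(Subgroup.normalizer ((Subgroup.zpowers g : Subgroup G) : Set G)),
      K = (Subgroup.zpowers g).normalizerMonoidHom.ker := ⟨_, rfl⟩
  haveI hKn : K.Normal := by rw [hK]; infer_instance
  obtain ⟨Q, hQ⟩ : ∃ Q : Subgroup ↥(Subgroup.normalizer ((Subgroup.zpowers g : Subgroup G) : Set G)),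
      Q = (P : Subgroup G).subgroupOf
        (Subgroup.normalizer ((Subgroup.zpowers g : Subgroup G) : Set G)) := ⟨_, rfl⟩
  -- the index of `K` is a power of `2`
  have hKidx : ∃ b : ℕ, K.index = 2 ^ b := by
    have h1 : K.index = Nat.card (Subgroup.zpowers g).normalizerMonoidHom.range := by
      rw [hK]; exact Subgroup.index_ker _
    have h2 : Nat.card (Subgroup.zpowers g).normalizerMonoidHom.range ∣
        Nat.card (MulAut ↥(Subgroup.zpowers g)) := Subgroup.card_subgroup_dvd_card _
    rw [IsCyclic.card_mulAut, Nat.card_zpowers] at h2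
    obtain ⟨a, ha⟩ := hord
    rw [ha] at h2
    rcases Nat.eq_zero_or_pos a with h0 | h0
    · rw [h0, pow_zero, Nat.totient_one] at h2
      exact ⟨0, by rw [h1, pow_zero]; exact Nat.dvd_one.mp h2⟩
    · rw [Nat.totient_prime_pow Nat.prime_two h0, show 2 - 1 = 1 by norm_num, mul_one] at h2
      obtain ⟨b, -, hb⟩ := (Nat.dvd_prime_pow Nat.prime_two).mp h2
      exact ⟨b, by rw [h1, hb]⟩
  -- the index of `Q` is odd
  have hQidx : ¬ 2 ∣ Q.index := by
    have h1 : Q.index = (P : Subgroup G).relIndex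
        (Subgroup.normalizer ((Subgroup.zpowers g : Subgroup G) : Set G)) := by rw [hQ]; rfl
    rw [h1]
    intro h2
    exact P.not_dvd_index (dvd_trans h2 (Subgroup.relIndex_dvd_index_of_le hnorm))
  have hsup : K ⊔ Q = ⊤ := by
    have h1 : (K ⊔ Q).index ∣ K.index := Subgroup.index_dvd_of_le le_sup_left
    have h2 : (K ⊔ Q).index ∣ Q.index := Subgroup.index_dvd_of_le le_sup_right
    obtain ⟨b, hb⟩ := hKidx
    rw [hb] at h1
    obtain ⟨e, -, he⟩ := (Nat.dvd_prime_pow Nat.prime_two).mp h1
    rcases Nat.eq_zero_or_pos e with h0 | h0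
    · rw [h0, pow_zero] at he
      exact Subgroup.index_eq_one.mp he
    · exfalso
      apply hQidx
      refine dvd_trans ?_ h2
      rw [he]
      exact dvd_pow_self 2 h0.ne'
  have hxmem : (⟨x, hxN⟩ :
      ↥(Subgroup.normalizer ((Subgroup.zpowers g : Subgroup G) : Set G))) ∈
      ((K ⊔ Q : Subgroup _) : Set _) := by
    rw [hsup]; exact Subgroup.mem_top _
  rw [Subgroup.normal_mul] at hxmem
  obtain ⟨κ, hκ, q, hq, hκq⟩ := Set.mem_mul.mp hxmem
  have hqP : (q : G) ∈ (P : Subgroup G) := by
    rw [SetLike.mem_coe, hQ] at hq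
    exact Subgroup.mem_subgroupOf.mp hq
  refine ⟨(q : G), hqP, ?_⟩
  have hκc : (κ : G) ∈ Subgroup.centralizer ((Subgroup.zpowers g : Subgroup G) : Set G) := by
    rw [SetLike.mem_coe, hK, Subgroup.normalizerMonoidHom_ker] at hκ
    exact Subgroup.mem_subgroupOf.mp hκ
  have hqg : (q : G) * g * (q : G)⁻¹ ∈ Subgroup.zpowers g :=
    (Subgroup.mem_normalizer_iff.mp q.2 g).mp (Subgroup.mem_zpowers g)
  have hx' : x = (κ : G) * (q : G) := by
    have := congrArg Subtype.val hκq
    simpa using this.symm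
  have hcomm := Subgroup.mem_centralizer_iff.mp hκc _ hqg
  calc (q : G) * g * (q : G)⁻¹
      = ((q : G) * g * (q : G)⁻¹) * (κ : G) * (κ : G)⁻¹ := by rw [mul_assoc _ (κ : G), mul_inv_cancel, mul_one]
    _ = (κ : G) * ((q : G) * g * (q : G)⁻¹) * (κ : G)⁻¹ := by rw [hcomm]
    _ = x * g * x⁻¹ := by rw [hx', mul_inv_rev]; simp only [mul_assoc]
    _ = g ^ j := hx

/-- the conjugation action of a subgroup on a conjugacy class -/
@[instance_reducible]
noncomputable def mxc_conjAction (P : Subgroup G) (g : G) : MulAction ↥P {h : G // IsConj g h} where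
  smul y h := ⟨(y : G) * h.1 * (y : G)⁻¹, h.2.trans (isConj_iff.mpr ⟨(y : G), rfl⟩)⟩
  one_smul h := by
    apply Subtype.ext
    show ((1 : ↥P) : G) * h.1 * ((1 : ↥P) : G)⁻¹ = h.1
    simp
  mul_smul y y' h := by
    apply Subtype.ext
    show ((y * y' : ↥P) : G) * h.1 * ((y * y' : ↥P) : G)⁻¹ =
      (y : G) * ((y' : G) * h.1 * (y' : G)⁻¹) * (y : G)⁻¹
    rw [Subgroup.coe_mul, mul_inv_rev]
    simp only [mul_assoc]

/-- a `2`-element whose square is not `1`, in a group whose Sylow `2`-subgroup has centre of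
exponent `2`, has even class size -/
theorem mxc_two_dvd_index [Finite G] (P : Sylow 2 G) (g : G) (h2 : ∃ a : ℕ, orderOf g = 2 ^ a)
    (hz : ∀ z ∈ (P : Subgroup G), (∀ y ∈ (P : Subgroup G), y * z = z * y) → z ^ 2 = 1)
    (hg2 : g ^ 2 ≠ 1) : 2 ∣ (Subgroup.centralizer ({g} : Set G)).index := by
  haveI : Fact (Nat.Prime 2) := ⟨Nat.prime_two⟩
  by_contra hodd
  rw [index_centralizer_eq_card_conj] at hodd
  letI := mxc_conjAction (P : Subgroup G) g
  obtain ⟨⟨g', hg'⟩, hfix⟩ :=
    IsPGroup.nonempty_fixed_point_of_prime_not_dvd_card P.2 {h : G // IsConj g h} hodd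
  have hfix' : ∀ y ∈ (P : Subgroup G), y * g' * y⁻¹ = g' := by
    intro y hy
    have := MulAction.mem_fixedPoints.mp hfix ⟨y, hy⟩
    exact congrArg Subtype.val this
  obtain ⟨x, hx⟩ := isConj_iff.mp hg'
  -- `g'` is a `2`-element centralizing `P`, so it lies in `P`
  have hg'ord : orderOf g' = orderOf g := by
    rw [← hx, ← MulAut.conj_apply]
    exact (MulAut.conj x).orderOf_eq g
  have hpg : IsPGroup 2 ↥(Subgroup.zpowers g') := by
    obtain ⟨a, ha⟩ := h2
    apply IsPGroup.of_card (n := a)
    rw [Nat.card_zpowers, hg'ord, ha]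
  have hle : Subgroup.zpowers g' ≤ Subgroup.normalizer ((P : Subgroup G) : Set G) := by
    rw [Subgroup.zpowers_le]
    apply Subgroup.mem_normalizer_fintype
    intro n hn
    have h1 := hfix' n hn
    have h2 : g' * n * g'⁻¹ = n := by
      have : n * g' = g' * n := by
        have := congrArg (fun w => w * n) h1
        simpa [mul_assoc] using this
      rw [← this, mul_assoc, mul_inv_cancel, mul_one]
    rw [h2]; exact hn
  have hg'P : g' ∈ (P : Subgroup G) := by
    have h1 := hpg.inf_normalizer_sylow P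
    have h3 : g' ∈ Subgroup.zpowers g' ⊓ (P : Subgroup G) := by
      rw [← h1]
      exact ⟨Subgroup.mem_zpowers g', hle (Subgroup.mem_zpowers g')⟩
    exact h3.2
  have hg'2 : g' ^ 2 = 1 := by
    apply hz g' hg'P
    intro y hy
    have h1 := hfix' y hy
    have := congrArg (fun w => w * y) h1
    simpa [mul_assoc] using this
  apply hg2
  have : x * g ^ 2 * x⁻¹ = 1 := by
    rw [← conj_pow, hx, hg'2]
  have h3 := congrArg (fun w => x⁻¹ * w * x) this
  simpa [mul_assoc] using h3

/-- in a group with abelian Sylow `2`-subgroup `P` the elements of `P` have odd class size -/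
theorem mxc_odd_index_of_comm [Finite G] (P : Sylow 2 G) (g : G) (hg : g ∈ (P : Subgroup G))
    (hab : ∀ a ∈ (P : Subgroup G), ∀ b ∈ (P : Subgroup G), a * b = b * a) :
    ¬ 2 ∣ (Subgroup.centralizer ({g} : Set G)).index := by
  haveI : Fact (Nat.Prime 2) := ⟨Nat.prime_two⟩
  have hle : (P : Subgroup G) ≤ Subgroup.centralizer ({g} : Set G) := by
    intro y hy
    rw [Subgroup.mem_centralizer_iff]
    intro h hh
    rw [Set.mem_singleton_iff] at hh
    rw [hh]
    exact hab g hg y hy
  intro h2
  exact P.not_dvd_index (dvd_trans h2 (Subgroup.index_dvd_of_le hle))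

/-- `z ^ i + a ^ i` lies in any subfield containing `z + a` and `z * a` -/
theorem mxc_w_mem (F : IntermediateField ℚ ℂ) (z a : ℂ) (hu : z + a ∈ F) (he : z * a ∈ F) :
    ∀ i : ℕ, z ^ i + a ^ i ∈ F := by
  intro i
  induction i using Nat.strong_induction_on with
  | _ i ih =>
    match i, ih with
    | 0, _ => simpa using F.add_mem F.one_mem F.one_mem
    | 1, _ => simpa using hu
    | (i + 2), ih =>
      have h1 := ih (i + 1) (by omega)
      have h0 := ih i (by omega)
      have e : z ^ (i + 2) + a ^ (i + 2) =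
          (z + a) * (z ^ (i + 1) + a ^ (i + 1)) - (z * a) * (z ^ i + a ^ i) := by ring
      rw [e]
      exact F.sub_mem (F.mul_mem hu h1) (F.mul_mem he h0)

/-- a ring automorphism of `ℂ` fixing a set pointwise fixes the subfield it generates -/
theorem mxc_fixed_adjoin (σ : ℂ ≃+* ℂ) (S : Set ℂ) (hS : ∀ z ∈ S, σ z = z) :
    ∀ z ∈ IntermediateField.adjoin ℚ S, σ z = z := by
  intro z hz
  induction hz using IntermediateField.adjoin_induction with
  | mem x hx => exact hS x hx
  | algebraMap q => exact map_ratCast σ q   -- placeholder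
  | add x y _ _ hx hy => rw [map_add, hx, hy]
  | inv x _ hx => rw [map_inv₀, hx]
  | mul x y _ _ hx hy => rw [map_mul, hx, hy]

end Cfsg.Agent.Helper6
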