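import Mathlib
import Cfsg.Prelude.Def_Characters
import Cfsg.Agent.Helper6.MxcA
import Cfsg.Agent.Helper6.MxcB
import Cfsg.Agent.Helper6.MxcC
import Cfsg.Agent.Helper6.IrrBasis

/-!
# S4923, part D: the field of values of an element fused only to one other power

* `mxc_field_eq` : if `g ^ i ∼ g` (for `i < m`, `g ^ m = 1`) exactly for `i = 1, k`, and
  `ζ · ζ ^ k` is rational, then `ℚ(χ(g) : χ ∈ Irr G) = ℚ(ζ + ζ ^ k)`.
* `mxc_forward` : the implication `|P : P'| = 4 ⇒ ...` of S4923.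
-/

set_option autoImplicit false
set_option linter.style.haveILetI false
set_option linter.unusedSectionVars false

namespace Cfsg.Agent.Helper6

open scoped ComplexConjugate

universe u

variable {G : Type u} [Group G]

set_option maxHeartbeats 800000 in
open Classical in
/-- the field of values of `g` when `g` is fused exactly to `g` and `g ^ k` -/
theorem mxc_field_eq [Finite G] (g : G) (m : ℕ) (hm1 : 1 < m) (hgm : g ^ m = 1) (ζ : ℂ)
    (hζ : IsPrimitiveRoot ζ m) (k : ℕ) (hk1 : k ≠ 1) (hkm : k < m)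
    (hconj : ∀ i, i < m → (IsConj g (g ^ i) ↔ i = 1 ∨ i = k))
    (s : ℚ) (hs : ζ * ζ ^ k = (s : ℂ)) :
    IntermediateField.adjoin ℚ {z : ℂ | ∃ χ : Cfsg.IrrCharacter G, (χ : G → ℂ) g = z} =
      IntermediateField.adjoin ℚ ({ζ + ζ ^ k} : Set ℂ) := by
  haveI : NeZero m := ⟨by omega⟩
  haveI : Finite (Cfsg.IrrCharacter G) := irr_finite
  haveI : Fintype (Cfsg.IrrCharacter G) := Fintype.ofFinite _
  apply le_antisymm
  · rw [IntermediateField.adjoin_le_iff]
    rintro z ⟨χ, rfl⟩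
    obtain ⟨F', hF'⟩ : ∃ F' : IntermediateField ℚ ℂ,
        F' = IntermediateField.adjoin ℚ ({ζ + ζ ^ k} : Set ℂ) := ⟨_, rfl⟩
    rw [← hF']
    have hu : ζ + ζ ^ k ∈ F' := by
      rw [hF']; exact IntermediateField.mem_adjoin_simple_self ℚ _
    have he : ζ * ζ ^ k ∈ F' := by
      rw [hs]; exact F'.algebraMap_mem s
    have hw := mxc_w_mem F' ζ (ζ ^ k) hu he
    obtain ⟨ι, hι, μ, h1, h2⟩ := mxc_eig (IsIrrCharacter.isCharacter χ.2) g
    have hdvd : orderOf g ∣ m := orderOf_dvd_of_pow_eq_one hgm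
    have hμm : ∀ l, μ l ^ m = 1 := by
      intro l
      obtain ⟨c, rfl⟩ := hdvd
      rw [pow_mul, h1 l, one_pow]
    have hχk : (χ : G → ℂ) (g ^ k) = (χ : G → ℂ) g :=
      (IsClassFunction.eq_of_isConj
        (IsCharacter.isClassFunction (IsIrrCharacter.isCharacter χ.2))
        ((hconj k hkm).mpr (Or.inr rfl))).symm
    have e1 : (χ : G → ℂ) g = ∑ l, μ l := by
      have := h2 1
      simpa using this
    have e : (χ : G → ℂ) g = 2⁻¹ * ∑ l, (μ l + μ l ^ k) := by
      rw [Finset.sum_add_distrib, ← e1, ← h2 k, hχk]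
      ring
    have hmem : ∀ l, μ l + μ l ^ k ∈ F' := by
      intro l
      obtain ⟨i, -, hi⟩ := hζ.eq_pow_of_pow_eq_one (hμm l)
      rw [← hi, ← pow_mul, mul_comm i k, pow_mul]
      exact hw i
    show (χ : G → ℂ) g ∈ F'
    rw [e]
    exact F'.mul_mem (F'.inv_mem (by exact_mod_cast natCast_mem F' 2))
      (F'.sum_mem (fun l _ => hmem l))
  · rw [IntermediateField.adjoin_simple_le_iff]
    obtain ⟨F, hF⟩ : ∃ F : IntermediateField ℚ ℂ, F = IntermediateField.adjoin ℚ
        {z : ℂ | ∃ χ : Cfsg.IrrCharacter G, (χ : G → ℂ) g = z} := ⟨_, rfl⟩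
    rw [← hF]
    obtain ⟨a, ha⟩ := mxc_sum_mult g m hgm ζ hζ.pow_eq_one
    have hfilter : (Finset.range m).filter (fun i => IsConj g (g ^ i)) = {1, k} := by
      ext i
      simp only [Finset.mem_filter, Finset.mem_range, Finset.mem_insert, Finset.mem_singleton]
      constructor
      · rintro ⟨hi, hc⟩
        exact (hconj i hi).mp hc
      · rintro (rfl | rfl)
        · exact ⟨hm1, (hconj 1 hm1).mpr (Or.inl rfl)⟩
        · exact ⟨hkm, (hconj i hkm).mpr (Or.inr rfl)⟩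
    rw [hfilter, Finset.sum_pair (Ne.symm hk1), pow_one] at ha
    have hC : (Nat.card (Subgroup.centralizer ({g} : Set G)) : ℂ) ≠ 0 :=
      Nat.cast_ne_zero.mpr Nat.card_pos.ne'
    have hval : ζ + ζ ^ k = (Nat.card (Subgroup.centralizer ({g} : Set G)) : ℂ)⁻¹ *
        ((m : ℂ) * ∑ χ : Cfsg.IrrCharacter G, (a χ : ℂ) * (χ : G → ℂ) g) := by
      rw [ha, ← mul_assoc, inv_mul_cancel₀ hC, one_mul]
    rw [hval]
    have hgen : ∀ χ : Cfsg.IrrCharacter G, (χ : G → ℂ) g ∈ F := by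
      intro χ
      rw [hF]
      exact IntermediateField.subset_adjoin ℚ _ ⟨χ, rfl⟩
    exact F.mul_mem (F.inv_mem (natCast_mem F _)) (F.mul_mem (natCast_mem F m)
      (F.sum_mem (fun χ _ => F.mul_mem (natCast_mem F _) (hgen χ))))

end Cfsg.Agent.Helper6
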