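import Mathlib
import Cfsg.Prelude.Def_Characters
import Cfsg.Agent.Helper6.MxcD

/-!
# S4923, part E: the forward implication

* `mxc_zeta_half` : a primitive `2 ^ (n - 1)`-th root of unity has `ζ ^ (2 ^ (n - 2)) = -1`.
* `mxc_forward` : the implication `|P : P'| = 4 ⇒ ...` of S4923.
-/

set_option autoImplicit false
set_option linter.style.haveILetI false
set_option linter.unusedSectionVars false

namespace Cfsg.Agent.Helper6

universe u

variable {G : Type u} [Group G]

/-- a primitive `2 ^ (n - 1)`-th root of unity has `ζ ^ (2 ^ (n - 2)) = -1` -/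
theorem mxc_zeta_half (n : ℕ) (hn : 2 ≤ n) (ζ : ℂ) (hζ : IsPrimitiveRoot ζ (2 ^ (n - 1))) :
    ζ ^ (2 ^ (n - 2)) = -1 := by
  have e : 2 ^ (n - 1) = 2 ^ (n - 2) * 2 := by
    rw [← pow_succ]
    congr 1
    omega
  have h := hζ.pow_of_dvd (p := 2 ^ (n - 2)) (by positivity) ⟨2, e⟩
  have e2 : 2 ^ (n - 1) / 2 ^ (n - 2) = 2 := by
    rw [e]
    exact Nat.mul_div_cancel_left 2 (by positivity)
  rw [e2] at h
  exact h.eq_neg_one_of_two_right

set_option maxHeartbeats 1600000 in
open Classical in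
/-- the forward implication of S4923 -/
theorem mxc_forward [Finite G] (P : Sylow 2 G) (n : ℕ) (hn : 3 ≤ n) (hP : Nat.card P = 2 ^ n)
    (ζ : ℂ) (hζ : IsPrimitiveRoot ζ (2 ^ (n - 1))) (h4 : (commutator ↥P).index = 4) :
    ∃ g : G, g ∈ (P : Subgroup G) ∧ 2 ∣ (Subgroup.centralizer ({g} : Set G)).index ∧
      (IntermediateField.adjoin ℚ {z : ℂ | ∃ χ : Cfsg.IrrCharacter G, (χ : G → ℂ) g = z} =
          IntermediateField.adjoin ℚ ({ζ + ζ⁻¹} : Set ℂ) ∨
        IntermediateField.adjoin ℚ {z : ℂ | ∃ χ : Cfsg.IrrCharacter G, (χ : G → ℂ) g = z} =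
          IntermediateField.adjoin ℚ ({ζ - ζ⁻¹} : Set ℂ)) := by
  obtain ⟨c, t, k, hc, hci, ht, htc, hk, hz⟩ :=
    mxc_structure (X := ↥(P : Subgroup G)) n hn hP h4
  obtain ⟨m, hm⟩ : ∃ m : ℕ, m = 2 ^ (n - 1) := ⟨_, rfl⟩
  have hm4 : 4 ≤ m := by
    rw [hm]
    calc 4 = 2 ^ 2 := by norm_num
      _ ≤ 2 ^ (n - 1) := Nat.pow_le_pow_right (by norm_num) (by omega)
  have hmm : m = 2 * 2 ^ (n - 2) := by
    rw [hm, ← pow_succ']
    congr 1
    omega
  have hζ0 : ζ ≠ 0 := hζ.ne_zero (by positivity)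
  have hog : orderOf (c : G) = m := by
    rw [Subgroup.orderOf_coe, hc, hm]
  have hgm : (c : G) ^ m = 1 := by
    rw [← hog]
    exact pow_orderOf_eq_one _
  haveI hnormal : (Subgroup.zpowers c).Normal := Subgroup.normal_of_index_eq_two hci
  have hnorm : (P : Subgroup G) ≤
      Subgroup.normalizer ((Subgroup.zpowers (c : G) : Subgroup G) : Set G) := by
    intro y hy
    apply Subgroup.mem_normalizer_fintype
    intro h hh
    obtain ⟨i, rfl⟩ := Subgroup.mem_zpowers_iff.mp hh
    have h1 : (⟨y, hy⟩ : ↥(P : Subgroup G)) * c ^ i * (⟨y, hy⟩ : ↥(P : Subgroup G))⁻¹ ∈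
        Subgroup.zpowers c :=
      hnormal.conj_mem _ (zpow_mem (Subgroup.mem_zpowers c) i) _
    obtain ⟨j, hj⟩ := Subgroup.mem_zpowers_iff.mp h1
    refine Subgroup.mem_zpowers_iff.mpr ⟨j, ?_⟩
    have h2 := congrArg (Subtype.val) hj
    simpa using h2
  have hkm : k < m := by
    rcases hk with rfl | ⟨-, rfl⟩
    · rw [hm]
      have : 0 < 2 ^ (n - 1) := by positivity
      omega
    · rw [hmm]
      have : 0 < 2 ^ (n - 2) := by positivity
      omega
  have hk1 : k ≠ 1 := by
    rcases hk with rfl | ⟨h4n, rfl⟩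
    · rw [← hm]
      omega
    · have : 4 ≤ 2 ^ (n - 2) := by
        calc 4 = 2 ^ 2 := by norm_num
          _ ≤ 2 ^ (n - 2) := Nat.pow_le_pow_right (by norm_num) (by omega)
      omega
  have htc' : (t : G) * (c : G) * (t : G)⁻¹ = (c : G) ^ k := by
    have h2 := congrArg (Subtype.val) htc
    simpa using h2
  have hconj : ∀ i, i < m → (IsConj (c : G) ((c : G) ^ i) ↔ i = 1 ∨ i = k) := by
    intro i hi
    constructor
    · intro h
      obtain ⟨x, hx⟩ := isConj_iff.mp h
      obtain ⟨y, hy, hyc⟩ := mxc_fusion P (c : G) x hnorm ⟨n - 1, by rw [hog, hm]⟩ i hx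
      have hyc' : (⟨y, hy⟩ : ↥(P : Subgroup G)) * c * (⟨y, hy⟩ : ↥(P : Subgroup G))⁻¹ = c ^ i := by
        apply Subtype.ext
        simpa using hyc
      by_cases hyz : (⟨y, hy⟩ : ↥(P : Subgroup G)) ∈ Subgroup.zpowers c
      · left
        obtain ⟨e, he⟩ := Subgroup.mem_zpowers_iff.mp hyz
        rw [← he] at hyc'
        have h3 : c ^ i = c ^ 1 := by
          rw [← hyc', pow_one]
          have : c ^ e * c = c * c ^ e := by
            rw [← zpow_add_one, ← zpow_one_add, add_comm]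
          rw [this, mul_assoc, mul_inv_cancel, mul_one]
        have h4' := pow_eq_pow_iff_modEq.mp h3
        rw [hc, ← hm] at h4'
        exact h4'.eq_of_lt_of_lt hi (by omega)
      · right
        have h5 : (⟨y, hy⟩ : ↥(P : Subgroup G)) * t⁻¹ ∈ Subgroup.zpowers c := by
          rw [Subgroup.mul_mem_iff_of_index_two hci]
          constructor
          · intro h; exact absurd h hyz
          · intro h; exact absurd ((Subgroup.inv_mem_iff _).mp h) ht
        obtain ⟨e, he⟩ := Subgroup.mem_zpowers_iff.mp h5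
        have h6 : (⟨y, hy⟩ : ↥(P : Subgroup G)) = c ^ e * t := by
          rw [he, mul_assoc, inv_mul_cancel, mul_one]
        rw [h6] at hyc'
        have h3 : c ^ i = c ^ k := by
          rw [← hyc', mul_inv_rev]
          have : c ^ e * t * c * (t⁻¹ * (c ^ e)⁻¹) = c ^ e * (t * c * t⁻¹) * (c ^ e)⁻¹ := by
            group
          rw [this, htc]
          have : c ^ e * c ^ k = c ^ k * c ^ e := by
            rw [← zpow_natCast c k, ← zpow_add, ← zpow_add, add_comm]
          rw [this, mul_assoc, mul_inv_cancel, mul_one]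
        have h4' := pow_eq_pow_iff_modEq.mp h3
        rw [hc, ← hm] at h4'
        exact h4'.eq_of_lt_of_lt hi hkm
    · rintro (rfl | rfl)
      · rw [pow_one]
      · exact isConj_iff.mpr ⟨(t : G), htc'⟩
  have hz' : ∀ z ∈ (P : Subgroup G), (∀ y ∈ (P : Subgroup G), y * z = z * y) → z ^ 2 = 1 := by
    intro z hzP hcomm
    have h1 := hz ⟨z, hzP⟩ (fun y => by
      apply Subtype.ext
      simpa using hcomm (y : G) y.2)
    have h2 := congrArg (Subtype.val) h1
    simpa using h2
  have hg2 : (c : G) ^ 2 ≠ 1 := by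
    intro h
    have h1 := orderOf_dvd_of_pow_eq_one h
    rw [hog] at h1
    have := Nat.le_of_dvd (by norm_num) h1
    omega
  have heven : 2 ∣ (Subgroup.centralizer ({(c : G)} : Set G)).index :=
    mxc_two_dvd_index P (c : G) ⟨n - 1, by rw [hog, hm]⟩ hz' hg2
  have hζm : IsPrimitiveRoot ζ m := by rw [hm]; exact hζ
  refine ⟨(c : G), c.2, heven, ?_⟩
  rcases hk with hk | ⟨h4n, hk⟩
  · left
    have hζk : ζ ^ k = ζ⁻¹ := by
      apply eq_inv_of_mul_eq_one_left
      rw [← pow_succ, hk, ← hm]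
      have : m - 1 + 1 = m := by omega
      rw [this]
      exact hζm.pow_eq_one
    have h := mxc_field_eq (c : G) m (by omega) hgm ζ hζm k hk1 hkm hconj 1 (by
      rw [hζk, mul_inv_cancel₀ hζ0]; simp)
    rw [h, hζk]
  · right
    have hhalf := mxc_zeta_half n (by omega) ζ hζ
    have hζk : ζ ^ k = -ζ⁻¹ := by
      have h1 : ζ ^ k * ζ = -1 := by
        rw [← pow_succ, hk]
        have : 2 ^ (n - 2) - 1 + 1 = 2 ^ (n - 2) := by
          have : 0 < 2 ^ (n - 2) := by positivity
          omega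
        rw [this]
        exact hhalf
      field_simp
      linear_combination h1
    have h := mxc_field_eq (c : G) m (by omega) hgm ζ hζm k hk1 hkm hconj (-1) (by
      rw [hζk]
      field_simp
      simp)
    rw [h, hζk, sub_eq_add_neg]

end Cfsg.Agent.Helper6
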