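import Mathlib
import Cfsg.Prelude.Def_Characters
import Cfsg.Agent.Helper6.MxcE

/-!
# S4923, part F: the backward implication

* `mxc_gal_pow` : a field automorphism of `ℂ` acting as the `k`-th power on `N`-th roots of unity.
* `mxc_pow_ne_one` : if `ℚ(χ(g) : χ) = ℚ(ζ ± ζ⁻¹)` with `ζ` a primitive `2^(n-1)`-th root of
  unity, `n ≥ 4`, then `g ^ (2 ^ (n - 2)) ≠ 1`.
* `mxc_conj_pow` : then `g` (of order `2 ^ (n - 1)`) is conjugate to `g⁻¹` resp. `g ^ (2^(n-2) - 1)`.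
* `mxc_backward` : the backward implication of S4923.
-/

set_option autoImplicit false
set_option linter.style.haveILetI false
set_option linter.unusedSectionVars false

namespace Cfsg.Agent.Helper6

open scoped commutatorElement

universe u

variable {G : Type u} [Group G]

/-- a field automorphism of `ℂ` acting as the `k`-th power on `N`-th roots of unity -/
theorem mxc_gal_pow (N k : ℕ) (hk : Nat.Coprime k N) (hkN : k < N) :
    ∃ σ : ℂ ≃+* ℂ, ∀ μ : ℂ, μ ^ N = 1 → σ μ = μ ^ k := by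
  haveI : NeZero N := ⟨by omega⟩
  obtain ⟨σ, hσ⟩ := Cfsg.Agent.D1.d1_gal_exists_pow N (ZMod.unitOfCoprime k hk)
  refine ⟨σ, fun μ hμ => ?_⟩
  rw [hσ μ hμ, ZMod.coe_unitOfCoprime, ZMod.val_cast_of_lt hkN]

/-- the order of `g ^ (2 j)`, `j` odd, when `g` has order `2 · 2 ^ a` -/
theorem mxc_order_pow {X : Type u} [Group X] (g : X) (a j : ℕ) (hog : orderOf g = 2 * 2 ^ a)
    (hj : Odd j) : orderOf (g ^ (2 * j)) = 2 ^ a := by
  have hj0 : j ≠ 0 := by
    rintro rfl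
    simp at hj
  rw [orderOf_pow' g (by omega : 2 * j ≠ 0), hog, Nat.gcd_mul_left]
  have hco : Nat.Coprime (2 ^ a) j := Nat.Coprime.pow_left a (Nat.coprime_two_left.mpr hj)
  rw [Nat.Coprime.gcd_eq_one hco, mul_one]
  exact Nat.mul_div_cancel_left _ (by norm_num)

/-- a Sylow subgroup normalizes the cyclic subgroups of index `2` in it -/
theorem mxc_norm_of_index_two (P : Subgroup G) (c : ↥P)
    (hci : (Subgroup.zpowers c).index = 2) :
    P ≤ Subgroup.normalizer ((Subgroup.zpowers (c : G) : Subgroup G) : Set G) := by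
  haveI hnormal : (Subgroup.zpowers c).Normal := Subgroup.normal_of_index_eq_two hci
  intro y hy
  rw [Subgroup.mem_normalizer_iff]
  intro h
  have key : ∀ (z : ↥P) (h : G), h ∈ Subgroup.zpowers (c : G) →
      (z : G) * h * (z : G)⁻¹ ∈ Subgroup.zpowers (c : G) := by
    intro z h hh
    obtain ⟨i, rfl⟩ := Subgroup.mem_zpowers_iff.mp hh
    have h1 : z * c ^ i * z⁻¹ ∈ Subgroup.zpowers c :=
      hnormal.conj_mem _ (zpow_mem (Subgroup.mem_zpowers c) i) _
    obtain ⟨j, hj⟩ := Subgroup.mem_zpowers_iff.mp h1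
    refine Subgroup.mem_zpowers_iff.mpr ⟨j, ?_⟩
    have h2 := congrArg (Subtype.val) hj
    simpa using h2
  constructor
  · intro hh
    exact key ⟨y, hy⟩ h hh
  · intro hh
    have := key (⟨y, hy⟩⁻¹ : ↥P) _ hh
    simpa [mul_assoc] using this

set_option maxHeartbeats 800000 in
/-- if the field of values of `g` is `ℚ(ζ ± ζ⁻¹)`, `ζ` a primitive `2^(n-1)`-th root of unity,
`n ≥ 4`, then the order of `g` does not divide `2 ^ (n - 2)` -/
theorem mxc_pow_ne_one [Finite G] (n : ℕ) (hn : 4 ≤ n) (ζ : ℂ)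
    (hζ : IsPrimitiveRoot ζ (2 ^ (n - 1))) (g : G) (s : ℂ) (hs : s = 1 ∨ s = -1)
    (hF : IntermediateField.adjoin ℚ {z : ℂ | ∃ χ : Cfsg.IrrCharacter G, (χ : G → ℂ) g = z} =
      IntermediateField.adjoin ℚ ({ζ + s * ζ⁻¹} : Set ℂ)) :
    g ^ (2 ^ (n - 2)) ≠ 1 := by
  intro h
  obtain ⟨A, hA⟩ : ∃ A : ℕ, A = 2 ^ (n - 2) := ⟨_, rfl⟩
  have hA4 : 4 ≤ A := by
    rw [hA]
    calc 4 = 2 ^ 2 := by norm_num
      _ ≤ 2 ^ (n - 2) := Nat.pow_le_pow_right (by norm_num) (by omega)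
  have hAev : Even A := by
    rw [hA]
    exact (Nat.even_pow' (by omega)).mpr even_two
  have hm : 2 ^ (n - 1) = 2 * A := by
    rw [hA, ← pow_succ']
    congr 1
    omega
  have hodd : Odd (1 + A) := by
    rw [add_comm]
    exact hAev.add_one
  have hco : Nat.Coprime (1 + A) (2 ^ (n - 1)) :=
    Nat.Coprime.pow_right (n - 1) (Nat.coprime_two_left.mpr hodd).symm
  obtain ⟨σ, hσ⟩ := mxc_gal_pow (2 ^ (n - 1)) (1 + A) hco (by rw [hm]; omega)
  have hζ0 : ζ ≠ 0 := hζ.ne_zero (by positivity)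
  have hhalf := mxc_zeta_half n (by omega) ζ hζ
  rw [← hA] at hhalf h
  -- `σ` fixes all `χ(g)`
  have hfix : ∀ z ∈ {z : ℂ | ∃ χ : Cfsg.IrrCharacter G, (χ : G → ℂ) g = z}, σ z = z := by
    rintro z ⟨χ, rfl⟩
    have h1 := mxc_gal_apply (IsIrrCharacter.isCharacter χ.2) g σ 1 (fun μ hμ => by
      have hμA : μ ^ A = 1 := by
        obtain ⟨d, hd⟩ := orderOf_dvd_of_pow_eq_one h
        rw [hd, pow_mul, hμ, one_pow]
      have hμm : μ ^ (2 ^ (n - 1)) = 1 := by
        rw [hm, mul_comm, pow_mul, hμA, one_pow]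
      rw [hσ μ hμm, pow_add, hμA, mul_one])
    rw [h1, pow_one]
  have hu := mxc_fixed_adjoin σ _ hfix (ζ + s * ζ⁻¹) (by
    rw [hF]
    exact IntermediateField.mem_adjoin_simple_self ℚ _)
  have hσζ : σ ζ = -ζ := by
    rw [hσ ζ hζ.pow_eq_one, pow_add, hhalf, pow_one]
    ring
  have hσs : σ s = s := by
    rcases hs with rfl | rfl
    · exact map_one σ
    · rw [map_neg, map_one]
  rw [map_add, map_mul, map_inv₀, hσζ, hσs] at hu
  have hu0 : ζ + s * ζ⁻¹ = 0 := by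
    have : -ζ + s * (-ζ)⁻¹ = -(ζ + s * ζ⁻¹) := by
      rw [inv_neg]
      ring
    rw [this] at hu
    have h2 : (2 : ℂ) * (ζ + s * ζ⁻¹) = 0 := by linear_combination -hu
    rcases mul_eq_zero.mp h2 with h3 | h3
    · norm_num at h3
    · exact h3
  have hζ2 : ζ ^ 2 = -s := by
    have h2 : (ζ + s * ζ⁻¹) * ζ = 0 := by rw [hu0, zero_mul]
    rw [add_mul, mul_assoc, inv_mul_cancel₀ hζ0, mul_one] at h2
    linear_combination h2
  have hζ4 : ζ ^ 4 = 1 := by
    have : ζ ^ 4 = (ζ ^ 2) ^ 2 := by ring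
    rw [this, hζ2]
    rcases hs with rfl | rfl <;> norm_num
  have hdvd := hζ.dvd_of_pow_eq_one 4 hζ4
  rw [hm] at hdvd
  have := Nat.le_of_dvd (by norm_num) hdvd
  omega

set_option maxHeartbeats 800000 in
/-- if the field of values of `g` (of order `2 ^ (n - 1)`) is `ℚ(ζ + ζ⁻¹)` resp. `ℚ(ζ - ζ⁻¹)`,
then `g` is conjugate to `g ^ (2^(n-1) - 1)` resp. `g ^ (2^(n-2) - 1)` -/
theorem mxc_conj_pow [Finite G] (n : ℕ) (hn : 4 ≤ n) (ζ : ℂ)
    (hζ : IsPrimitiveRoot ζ (2 ^ (n - 1))) (g : G) (hog : orderOf g = 2 ^ (n - 1))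
    (s : ℂ) (k' : ℕ)
    (hs : (s = 1 ∧ k' = 2 ^ (n - 1) - 1) ∨ (s = -1 ∧ k' = 2 ^ (n - 2) - 1))
    (hF : IntermediateField.adjoin ℚ {z : ℂ | ∃ χ : Cfsg.IrrCharacter G, (χ : G → ℂ) g = z} =
      IntermediateField.adjoin ℚ ({ζ + s * ζ⁻¹} : Set ℂ)) :
    IsConj g (g ^ k') := by
  obtain ⟨A, hA⟩ : ∃ A : ℕ, A = 2 ^ (n - 2) := ⟨_, rfl⟩
  have hA4 : 4 ≤ A := by
    rw [hA]
    calc 4 = 2 ^ 2 := by norm_num
      _ ≤ 2 ^ (n - 2) := Nat.pow_le_pow_right (by norm_num) (by omega)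
  have hAev : Even A := by
    rw [hA]
    exact (Nat.even_pow' (by omega)).mpr even_two
  have hm : 2 ^ (n - 1) = 2 * A := by
    rw [hA, ← pow_succ']
    congr 1
    omega
  rw [← hA, hm] at hs
  have hk'm : k' < 2 ^ (n - 1) := by
    rw [hm]
    rcases hs with ⟨-, rfl⟩ | ⟨-, rfl⟩ <;> omega
  have hodd : Odd k' := by
    obtain ⟨B, hB⟩ := hAev
    rcases hs with ⟨-, rfl⟩ | ⟨-, rfl⟩
    · exact ⟨A - 1, by omega⟩
    · exact ⟨B - 1, by omega⟩
  have hco : Nat.Coprime k' (2 ^ (n - 1)) :=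
    Nat.Coprime.pow_right (n - 1) (Nat.coprime_two_left.mpr hodd).symm
  obtain ⟨σ, hσ⟩ := mxc_gal_pow (2 ^ (n - 1)) k' hco hk'm
  have hζ0 : ζ ≠ 0 := hζ.ne_zero (by positivity)
  have hhalf := mxc_zeta_half n (by omega) ζ hζ
  rw [← hA] at hhalf
  have hζm : ζ ^ (2 * A) = 1 := by rw [← hm]; exact hζ.pow_eq_one
  -- `σ` fixes `u`
  have hσu : σ (ζ + s * ζ⁻¹) = ζ + s * ζ⁻¹ := by
    rw [map_add, map_mul, map_inv₀, hσ ζ hζ.pow_eq_one]
    rcases hs with ⟨rfl, rfl⟩ | ⟨rfl, rfl⟩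
    · have hζk : ζ ^ (2 * A - 1) = ζ⁻¹ := by
        apply eq_inv_of_mul_eq_one_left
        rw [← pow_succ]
        have : 2 * A - 1 + 1 = 2 * A := by omega
        rw [this, hζm]
      rw [hζk, map_one, inv_inv]
      ring
    · have hζk : ζ ^ (A - 1) = -ζ⁻¹ := by
        have h1 : ζ ^ (A - 1) * ζ = -1 := by
          rw [← pow_succ]
          have : A - 1 + 1 = A := by omega
          rw [this, hhalf]
        field_simp
        linear_combination h1
      rw [hζk, map_neg, map_one, inv_neg, inv_inv]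
      ring
  have hfix := mxc_fixed_adjoin σ ({ζ + s * ζ⁻¹} : Set ℂ) (by
    intro z hz
    rw [Set.mem_singleton_iff] at hz
    rw [hz, hσu])
  rw [isConj_iff_forall_irr]
  intro χ
  have h1 := mxc_gal_apply (IsIrrCharacter.isCharacter χ.2) g σ k' (fun μ hμ => by
    rw [hog] at hμ
    exact hσ μ hμ)
  rw [← h1]
  symm
  apply hfix
  rw [← hF]
  exact IntermediateField.subset_adjoin ℚ _ ⟨χ, rfl⟩

set_option maxHeartbeats 1600000 in
open Classical in
/-- the backward implication of S4923 -/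
theorem mxc_backward [Finite G] (P : Sylow 2 G) (n : ℕ) (hn : 3 ≤ n) (hP : Nat.card P = 2 ^ n)
    (ζ : ℂ) (hζ : IsPrimitiveRoot ζ (2 ^ (n - 1))) (g : G) (hg : g ∈ (P : Subgroup G))
    (h2 : 2 ∣ (Subgroup.centralizer ({g} : Set G)).index)
    (hF : IntermediateField.adjoin ℚ {z : ℂ | ∃ χ : Cfsg.IrrCharacter G, (χ : G → ℂ) g = z} =
          IntermediateField.adjoin ℚ ({ζ + ζ⁻¹} : Set ℂ) ∨
        IntermediateField.adjoin ℚ {z : ℂ | ∃ χ : Cfsg.IrrCharacter G, (χ : G → ℂ) g = z} =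
          IntermediateField.adjoin ℚ ({ζ - ζ⁻¹} : Set ℂ)) :
    (commutator ↥P).index = 4 := by
  haveI : Fact (Nat.Prime 2) := ⟨Nat.prime_two⟩
  have hP' : Nat.card ↥(P : Subgroup G) = 2 ^ n := hP
  have hnab : ¬ ∀ a b : ↥(P : Subgroup G), a * b = b * a := by
    intro hab
    exact mxc_odd_index_of_comm P g hg (fun a ha b hb => by
      have := congrArg Subtype.val (hab ⟨a, ha⟩ ⟨b, hb⟩)
      simpa using this) h2
  have hmemc : ∀ a b : ↥(P : Subgroup G), ⁅a, b⁆ ∈ commutator ↥(P : Subgroup G) := by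
    intro a b
    rw [commutator_def]
    exact Subgroup.commutator_mem_commutator (Subgroup.mem_top a) (Subgroup.mem_top b)
  have hidx : (commutator ↥(P : Subgroup G)).index ∣ 2 ^ n := by
    rw [← hP']
    exact Subgroup.index_dvd_card _
  obtain ⟨e, hen, he⟩ := (Nat.dvd_prime_pow Nat.prime_two).mp hidx
  have he2 : 2 ≤ e := by
    by_contra hlt
    rw [not_le] at hlt
    apply hnab
    intro a b
    refine mxc_comm_of_index_le_two (p := 2) P.2 ?_ a b
    rw [he]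
    interval_cases e <;> norm_num
  show (commutator ↥(P : Subgroup G)).index = 4
  suffices hdvd : 2 ^ (n - 2) ∣ Nat.card (commutator ↥(P : Subgroup G)) by
    obtain ⟨q, hq⟩ := hdvd
    have h1 := Subgroup.card_mul_index (commutator ↥(P : Subgroup G))
    rw [hq, he, hP'] at h1
    have h3 : 2 ^ n = 2 ^ (n - 2) * 4 := by
      rw [show (4 : ℕ) = 2 ^ 2 by norm_num, ← pow_add]
      congr 1
      omega
    rw [h3, mul_assoc] at h1
    have h5 := Nat.eq_of_mul_eq_mul_left (by positivity) h1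
    have h6 : 2 ^ e ∣ 4 := ⟨q, by rw [← h5, mul_comm]⟩
    have h7 : 2 ^ e ≤ 4 := Nat.le_of_dvd (by norm_num) h6
    have h8 : e ≤ 2 := by
      by_contra hlt
      rw [not_le] at hlt
      have : 2 ^ 3 ≤ 2 ^ e := Nat.pow_le_pow_right (by norm_num) hlt
      omega
    have : e = 2 := le_antisymm h8 he2
    rw [he, this]
    norm_num
  rcases Nat.lt_or_ge n 4 with hn3 | hn4
  · -- `n = 3`
    have hn3' : n = 3 := by omega
    subst hn3'
    have hne : Nat.card (commutator ↥(P : Subgroup G)) ≠ 1 := by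
      intro h1
      apply hnab
      have hbot : commutator ↥(P : Subgroup G) = ⊥ := Subgroup.card_eq_one.mp h1
      intro a b
      have hmem := hmemc a b
      rw [hbot, Subgroup.mem_bot, commutatorElement_eq_one_iff_mul_comm] at hmem
      exact hmem
    have hcd : Nat.card (commutator ↥(P : Subgroup G)) ∣ 2 ^ 3 := by
      rw [← hP']
      exact Subgroup.card_subgroup_dvd_card _
    obtain ⟨j, hj3, hj⟩ := (Nat.dvd_prime_pow Nat.prime_two).mp hcd
    rw [hj]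
    have hj0 : j ≠ 0 := by
      rintro rfl
      exact hne (by rw [hj]; rfl)
    exact pow_dvd_pow 2 (by omega)
  · -- `n ≥ 4`
    obtain ⟨s, k', hs, hF'⟩ : ∃ (s : ℂ) (k' : ℕ),
        ((s = 1 ∧ k' = 2 ^ (n - 1) - 1) ∨ (s = -1 ∧ k' = 2 ^ (n - 2) - 1)) ∧
        IntermediateField.adjoin ℚ {z : ℂ | ∃ χ : Cfsg.IrrCharacter G, (χ : G → ℂ) g = z} =
          IntermediateField.adjoin ℚ ({ζ + s * ζ⁻¹} : Set ℂ) := by
      rcases hF with h | h
      · exact ⟨1, _, Or.inl ⟨rfl, rfl⟩, by rw [h, one_mul]⟩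
      · exact ⟨-1, _, Or.inr ⟨rfl, rfl⟩, by rw [h, neg_one_mul, ← sub_eq_add_neg]⟩
    have hs' : s = 1 ∨ s = -1 := by
      rcases hs with ⟨h, -⟩ | ⟨h, -⟩
      · exact Or.inl h
      · exact Or.inr h
    have hne := mxc_pow_ne_one n hn4 ζ hζ g s hs' hF'
    obtain ⟨b, hb⟩ := (IsPGroup.iff_orderOf.mp P.2) ⟨g, hg⟩
    have hbn : b ≤ n := by
      have h1 : orderOf (⟨g, hg⟩ : ↥(P : Subgroup G)) ∣ 2 ^ n := by
        rw [← hP']
        exact orderOf_dvd_natCard _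
      rw [hb] at h1
      exact (Nat.pow_dvd_pow_iff_le_right (by norm_num)).mp h1
    have hbg : orderOf g = 2 ^ b := by
      rw [← hb]
      exact Subgroup.orderOf_coe (⟨g, hg⟩ : ↥(P : Subgroup G))
    have hb1 : n - 1 ≤ b := by
      by_contra hlt
      rw [not_le] at hlt
      apply hne
      have h1 : 2 ^ b ∣ 2 ^ (n - 2) := pow_dvd_pow 2 (by omega)
      obtain ⟨d, hd⟩ := h1
      rw [hd, pow_mul, ← hbg, pow_orderOf_eq_one, one_pow]
    have hb2 : b ≠ n := by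
      intro hbn'
      apply hnab
      have h1 : Nat.card (Subgroup.zpowers (⟨g, hg⟩ : ↥(P : Subgroup G))) =
          Nat.card ↥(P : Subgroup G) := by
        rw [Nat.card_zpowers, hb, hbn', hP']
      exact mxc_comm_of_zpowers_eq_top _ (Subgroup.eq_top_of_card_eq _ h1)
    have hbeq : b = n - 1 := by omega
    have hog : orderOf g = 2 ^ (n - 1) := by rw [hbg, hbeq]
    have hconj := mxc_conj_pow n hn4 ζ hζ g hog s k' hs hF'
    obtain ⟨x, hx⟩ := isConj_iff.mp hconj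
    have hci : (Subgroup.zpowers (⟨g, hg⟩ : ↥(P : Subgroup G))).index = 2 := by
      have h1 := Subgroup.card_mul_index (Subgroup.zpowers (⟨g, hg⟩ : ↥(P : Subgroup G)))
      rw [Nat.card_zpowers, hb, hbeq, hP'] at h1
      have h3 : 2 ^ n = 2 ^ (n - 1) * 2 := by
        rw [← pow_succ]
        congr 1
        omega
      rw [h3] at h1
      exact Nat.eq_of_mul_eq_mul_left (by positivity) h1
    have hnorm := mxc_norm_of_index_two (P : Subgroup G) ⟨g, hg⟩ hci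
    obtain ⟨y, hy, hyg⟩ := mxc_fusion P g x hnorm ⟨n - 1, hog⟩ k' hx
    -- arithmetic on `k'`
    obtain ⟨A, hA⟩ : ∃ A : ℕ, A = 2 ^ (n - 2) := ⟨_, rfl⟩
    obtain ⟨B, hB⟩ : ∃ B : ℕ, B = 2 ^ (n - 3) := ⟨_, rfl⟩
    have hB2 : 2 ≤ B := by
      rw [hB]
      calc 2 = 2 ^ 1 := by norm_num
        _ ≤ 2 ^ (n - 3) := Nat.pow_le_pow_right (by norm_num) (by omega)
    have hBev : Even B := by
      rw [hB]
      exact (Nat.even_pow' (by omega)).mpr even_two
    have hAB : A = 2 * B := by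
      rw [hA, hB, ← pow_succ']
      congr 1
      omega
    have hm : 2 ^ (n - 1) = 2 * A := by
      rw [hA, ← pow_succ']
      congr 1
      omega
    rw [← hA, hm] at hs
    obtain ⟨j, hjodd, hj⟩ : ∃ j : ℕ, Odd j ∧ k' = 2 * j + 1 := by
      obtain ⟨C, hC⟩ := hBev
      rcases hs with ⟨-, rfl⟩ | ⟨-, rfl⟩
      · exact ⟨A - 1, ⟨B - 1, by omega⟩, by omega⟩
      · exact ⟨B - 1, ⟨C - 1, by omega⟩, by omega⟩
    have hmem : (⟨g, hg⟩ : ↥(P : Subgroup G)) ^ (2 * j) ∈ commutator ↥(P : Subgroup G) := by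
      have h1 := hmemc ⟨y, hy⟩ ⟨g, hg⟩
      have h2' : ⁅(⟨y, hy⟩ : ↥(P : Subgroup G)), (⟨g, hg⟩ : ↥(P : Subgroup G))⁆ =
          (⟨g, hg⟩ : ↥(P : Subgroup G)) ^ (2 * j) := by
        apply Subtype.ext
        rw [commutatorElement_def]
        have : y * g * y⁻¹ * g⁻¹ = g ^ (2 * j) := by
          rw [hyg, hj, pow_succ, mul_inv_cancel_right]
        simpa using this
      rwa [h2'] at h1
    have hord : orderOf ((⟨g, hg⟩ : ↥(P : Subgroup G)) ^ (2 * j)) = 2 ^ (n - 2) := by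
      rw [← hA]
      apply mxc_order_pow _ (n - 2) j _ hjodd |>.trans
      · exact hA.symm
      · rw [hb, hbeq, hm, hA]
    rw [← hord]
    exact Subgroup.orderOf_dvd_natCard _ hmem

end Cfsg.Agent.Helper6
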