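import Mathlib
import Cfsg.Prelude.Def_Characters
import Cfsg.Prelude.Def_Blocks
import Cfsg.Prelude.Def_BlockLocal
import Cfsg.Prelude.Def_BrauerPairs
import Cfsg.Agent.Helper6.BlockCover4
import Cfsg.Agent.Helper6.LocalTransport

/-!
# Nilpotent blocks and normal subgroups of `p`-power index, part A: generic lemmas

* `sum_normal_ratio_eq`: if `ξ ∈ Irr K` lies over `θ ∈ Irr K₀` (`K₀` normal in `K`) and `β₀` is a
  `K`-invariant function on `K₀`, then `∑ β₀ y (ξ y / ξ 1) = ∑ β₀ y (θ y / θ 1)`.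
* `classInner_irrComp_restrict`: compatibility of the multiplicity with transport along a pair
  of compatible automorphisms.
-/

set_option autoImplicit false
set_option linter.style.haveILetI false

namespace Cfsg.Agent.Helper6

open scoped ComplexConjugate

universe u

/-- **Exact Clifford formula for weighted sums**: if `θ` is a constituent of the restriction of
`ξ` to the normal subgroup `K₀` and `β₀` is invariant under conjugation by `K`, then the two
normalised weighted sums agree. -/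
theorem sum_normal_ratio_eq {K : Type u} [Group K] [Fintype K] (K₀ : Subgroup K)
    [hK₀ : K₀.Normal] [Fintype K₀] (β₀ : K₀ → ℂ) (hβ : ∀ g : K, conjFun K₀ β₀ g = β₀)
    (ξ : Cfsg.IrrCharacter K) (θ : Cfsg.IrrCharacter K₀)
    (hconst : Cfsg.classInner (fun n : K₀ => (ξ : K → ℂ) n) (θ : K₀ → ℂ) ≠ 0) :
    ∑ y : K₀, β₀ y * ((ξ : K → ℂ) (y : K) / (ξ : K → ℂ) 1) =
      ∑ y : K₀, β₀ y * ((θ : K₀ → ℂ) y / (θ : K₀ → ℂ) 1) := by
  classical
  obtain ⟨c, hc⟩ := clifford_functional K₀ (ξ : K → ℂ) ξ.2 (θ : K₀ → ℂ) θ.2 hconst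
  have hξ1 : (ξ : K → ℂ) 1 ≠ 0 := IsIrrCharacter.apply_one_ne_zero ξ.2
  have hθ1 : (θ : K₀ → ℂ) 1 ≠ 0 := IsIrrCharacter.apply_one_ne_zero θ.2
  -- evaluation at one
  have h1 := hc (LinearMap.proj (1 : K₀)) (by
    intro g
    simp only [LinearMap.proj_apply]
    unfold conjFun
    exact congrArg _ (Subtype.ext (by simp)))
  simp only [LinearMap.proj_apply] at h1
  have h1' : (ξ : K → ℂ) 1 = c * (θ : K₀ → ℂ) 1 := h1
  have hc0 : c ≠ 0 := by
    intro h
    rw [h, zero_mul] at h1'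
    exact hξ1 h1'
  -- the weighted sum
  have h2 := hc (∑ y : K₀, β₀ y • LinearMap.proj y) (by
    intro g
    simp only [LinearMap.coe_sum, Finset.sum_apply, LinearMap.smul_apply, LinearMap.proj_apply,
      smul_eq_mul]
    have e1 : ∀ y : K₀, β₀ y * conjFun K₀ (θ : K₀ → ℂ) g y =
        (fun z : K₀ => β₀ z * (θ : K₀ → ℂ) z) ((MulAut.conjNormal g : K₀ ≃* K₀) y) := by
      intro y
      have hb := congrFun (hβ g) y
      show β₀ y * _ = β₀ _ * _
      rw [← hb]
      rfl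
    rw [Finset.sum_congr rfl (fun y _ => e1 y)]
    exact Equiv.sum_comp (MulAut.conjNormal g : K₀ ≃* K₀).toEquiv
      (fun z : K₀ => β₀ z * (θ : K₀ → ℂ) z))
  simp only [LinearMap.coe_sum, Finset.sum_apply, LinearMap.smul_apply, LinearMap.proj_apply,
    smul_eq_mul] at h2
  have e2 : ∀ y : K₀, β₀ y * ((ξ : K → ℂ) (y : K) / (ξ : K → ℂ) 1) =
      (β₀ y * (ξ : K → ℂ) (y : K)) / (ξ : K → ℂ) 1 := fun y => by ring
  have e3 : ∀ y : K₀, β₀ y * ((θ : K₀ → ℂ) y / (θ : K₀ → ℂ) 1) =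
      (β₀ y * (θ : K₀ → ℂ) y) / (θ : K₀ → ℂ) 1 := fun y => by ring
  rw [Finset.sum_congr rfl (fun y _ => e2 y), Finset.sum_congr rfl (fun y _ => e3 y),
    ← Finset.sum_div, ← Finset.sum_div, h2, h1']
  field_simp

/-- Transport along compatible automorphisms of `K` and of `K₀` preserves multiplicities. -/
theorem classInner_irrComp_restrict {K : Type u} [Group K] (K₀ : Subgroup K) [Fintype K₀]
    (τ : K ≃* K) (σ : K₀ ≃* K₀) (hστ : ∀ y : K₀, ((σ y : K₀) : K) = τ (y : K))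
    (ξ : Cfsg.IrrCharacter K) (θ : Cfsg.IrrCharacter K₀) :
    Cfsg.classInner (fun n : K₀ => (irrComp τ ξ : K → ℂ) n) (irrComp σ θ : K₀ → ℂ) =
      Cfsg.classInner (fun n : K₀ => (ξ : K → ℂ) n) (θ : K₀ → ℂ) := by
  unfold Cfsg.classInner
  congr 1
  have e : ∀ n : K₀, (irrComp τ ξ : K → ℂ) n * conj ((irrComp σ θ : K₀ → ℂ) n) =
      (fun z : K₀ => (ξ : K → ℂ) z * conj ((θ : K₀ → ℂ) z)) (σ n) := by
    intro n
    show _ = (ξ : K → ℂ) ((σ n : K₀) : K) * conj ((θ : K₀ → ℂ) (σ n))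
    rw [irrComp_apply, irrComp_apply, hστ]
  rw [Finset.sum_congr rfl (fun n _ => e n)]
  exact Equiv.sum_comp σ.toEquiv (fun z : K₀ => (ξ : K → ℂ) z * conj ((θ : K₀ → ℂ) z))

/-- `irrComp` along a composite. -/
theorem irrComp_trans {K₁ K₂ K₃ : Type u} [Group K₁] [Group K₂] [Group K₃] (φ : K₁ ≃* K₂)
    (ψ : K₂ ≃* K₃) (θ : Cfsg.IrrCharacter K₃) :
    irrComp (φ.trans ψ) θ = irrComp φ (irrComp ψ θ) := by
  apply Subtype.ext
  funext k
  rfl

/-- `irrComp` cancellation, the other way round. -/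
theorem irrComp_symm_cancel' {K₁ K₂ : Type u} [Group K₁] [Group K₂] (φ : K₁ ≃* K₂)
    (θ : Cfsg.IrrCharacter K₂) : irrComp φ.symm (irrComp φ θ) = θ := by
  apply Subtype.ext
  funext k
  rw [irrComp_apply, irrComp_apply, φ.apply_symm_apply]

/-- An element of order prime to `p` lies in every normal subgroup of `p`-power index. -/
theorem mem_of_isPRegular_of_index_pow {G : Type u} [Group G] [Finite G] (p : ℕ)
    [hp : Fact p.Prime] (N : Subgroup G) [hN : N.Normal] (hidx : ∃ k : ℕ, N.index = p ^ k)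
    (x : G) (hx : Cfsg.IsPRegular p x) : x ∈ N := by
  obtain ⟨k, hk⟩ := hidx
  have h1 : x ^ (p ^ k) ∈ N := by
    rw [← hk]
    have : ((x : G ⧸ N)) ^ N.index = 1 := by
      rw [Subgroup.index_eq_card]
      exact pow_card_eq_one'
    rw [← QuotientGroup.eq_one_iff]
    simpa using this
  have hcop : (p ^ k).Coprime (orderOf x) := by
    apply Nat.Coprime.pow_left
    exact (Nat.Prime.coprime_iff_not_dvd hp.out).mpr hx
  obtain ⟨m, hm⟩ := exists_pow_eq_self_of_coprime hcop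
  rw [← hm]
  exact N.pow_mem h1 m

end Cfsg.Agent.Helper6
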