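import Mathlib
import Cfsg.Prelude.Def_Characters
import Cfsg.Prelude.Def_Blocks
import Cfsg.Prelude.Def_BlockLocal
import Cfsg.Prelude.Def_BrauerPairs
import Cfsg.Agent.Helper6.NilPA
import Cfsg.Agent.Helper6.BrauerPair
import Cfsg.Agent.Helper6.FongCount
import Cfsg.Agent.Helper6.IrrOver
import Cfsg.Agent.Helper6.NilpotentInner

/-!
# Nilpotent blocks and normal subgroups of `p`-power index, part B: the local setting

For `N` normal in `G`, `Q ≤ N` and the corresponding subgroup `Q'` of `N` (as a group), we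
identify `C_N(Q')` with `C_G(Q) ∩ N` (as a subgroup of `C_G(Q)`), define the conjugation
automorphisms, and prove that Brauer pairs of `B` and of `c` at `Q` correspond under covering.
-/

set_option autoImplicit false
set_option linter.style.haveILetI false

namespace Cfsg.Agent.Helper6

open scoped ComplexConjugate

universe u

variable {G : Type u} [Group G] {M : Ideal Cfsg.AlgInt}

/-- The isomorphism between `C_N(Q')` and `C_G(Q) ∩ N` (inside `C_G(Q)`). -/
def centNormEquiv (N Q : Subgroup G) (Q' : Subgroup N) (hQN : Q ≤ N)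
    (hQQ' : ∀ n : N, n ∈ Q' ↔ (n : G) ∈ Q) :
    Subgroup.centralizer (Q' : Set N) ≃*
      (N.subgroupOf (Subgroup.centralizer (Q : Set G)) :
        Subgroup (Subgroup.centralizer (Q : Set G))) where
  toFun c := ⟨⟨((c : N) : G), by
    rw [Subgroup.mem_centralizer_iff]
    intro h hh
    have h1 : (⟨h, hQN hh⟩ : N) ∈ Q' := (hQQ' _).mpr hh
    have h2 := (Subgroup.mem_centralizer_iff.mp c.2) _ h1
    exact congrArg Subtype.val h2⟩, by
    rw [Subgroup.mem_subgroupOf]
    exact (c : N).2⟩
  invFun k := ⟨⟨((k : Subgroup.centralizer (Q : Set G)) : G), Subgroup.mem_subgroupOf.mp k.2⟩, by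
    rw [Subgroup.mem_centralizer_iff]
    intro h hh
    have h1 : ((h : N) : G) ∈ Q := (hQQ' _).mp hh
    have h2 := (Subgroup.mem_centralizer_iff.mp (k : Subgroup.centralizer (Q : Set G)).2) _ h1
    exact Subtype.ext h2⟩
  left_inv _ := rfl
  right_inv _ := rfl
  map_mul' _ _ := rfl

theorem coe_centNormEquiv (N Q : Subgroup G) (Q' : Subgroup N) (hQN : Q ≤ N)
    (hQQ' : ∀ n : N, n ∈ Q' ↔ (n : G) ∈ Q) (c : Subgroup.centralizer (Q' : Set N)) :
    (((centNormEquiv N Q Q' hQN hQQ' c :
      (N.subgroupOf (Subgroup.centralizer (Q : Set G)) :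
        Subgroup (Subgroup.centralizer (Q : Set G)))) :
      Subgroup.centralizer (Q : Set G)) : G) = ((c : N) : G) := rfl

theorem coe_centNormEquiv_symm (N Q : Subgroup G) (Q' : Subgroup N) (hQN : Q ≤ N)
    (hQQ' : ∀ n : N, n ∈ Q' ↔ (n : G) ∈ Q)
    (k : (N.subgroupOf (Subgroup.centralizer (Q : Set G)) :
        Subgroup (Subgroup.centralizer (Q : Set G)))) :
    ((((centNormEquiv N Q Q' hQN hQQ').symm k : Subgroup.centralizer (Q' : Set N)) : N) : G) =
      ((k : Subgroup.centralizer (Q : Set G)) : G) := rfl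

/-- Conjugation by an element of `N_G(Q)` as an automorphism of `C_G(Q)`: `k ↦ z⁻¹ k z`. -/
def centAut (Q : Subgroup G) (z : G) (hz : z ∈ Subgroup.normalizer (Q : Set G)) :
    Subgroup.centralizer (Q : Set G) ≃* Subgroup.centralizer (Q : Set G) where
  toFun k := ⟨z⁻¹ * (k : G) * z,
    (Subgroup.mem_normalizer_iff''.mp (normalizer_le_normalizer_centralizer Q hz) _).mp k.2⟩
  invFun k := ⟨z * (k : G) * z⁻¹,
    (Subgroup.mem_normalizer_iff.mp (normalizer_le_normalizer_centralizer Q hz) _).mp k.2⟩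
  left_inv k := Subtype.ext (by simp [mul_assoc])
  right_inv k := Subtype.ext (by simp [mul_assoc])
  map_mul' a b := Subtype.ext (by simp [mul_assoc])

theorem coe_centAut (Q : Subgroup G) (z : G) (hz : z ∈ Subgroup.normalizer (Q : Set G))
    (k : Subgroup.centralizer (Q : Set G)) :
    ((centAut Q z hz k : Subgroup.centralizer (Q : Set G)) : G) = z⁻¹ * (k : G) * z := rfl

/-- Conjugation by an element of `N_G(Q)` as an automorphism of `C_G(Q) ∩ N`. -/
def centNormAut (N Q : Subgroup G) [hN : N.Normal] (z : G)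
    (hz : z ∈ Subgroup.normalizer (Q : Set G)) :
    (N.subgroupOf (Subgroup.centralizer (Q : Set G)) :
        Subgroup (Subgroup.centralizer (Q : Set G))) ≃*
      (N.subgroupOf (Subgroup.centralizer (Q : Set G)) :
        Subgroup (Subgroup.centralizer (Q : Set G))) where
  toFun y := ⟨centAut Q z hz (y : Subgroup.centralizer (Q : Set G)), by
    rw [Subgroup.mem_subgroupOf, coe_centAut]
    have := hN.conj_mem _ (Subgroup.mem_subgroupOf.mp y.2) z⁻¹
    simpa using this⟩
  invFun y := ⟨(centAut Q z hz).symm (y : Subgroup.centralizer (Q : Set G)), by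
    rw [Subgroup.mem_subgroupOf]
    show z * ((y : Subgroup.centralizer (Q : Set G)) : G) * z⁻¹ ∈ N
    exact hN.conj_mem _ (Subgroup.mem_subgroupOf.mp y.2) z⟩
  left_inv y := Subtype.ext ((centAut Q z hz).symm_apply_apply _)
  right_inv y := Subtype.ext ((centAut Q z hz).apply_symm_apply _)
  map_mul' a b := Subtype.ext ((centAut Q z hz).map_mul _ _)

theorem coe_centNormAut (N Q : Subgroup G) [hN : N.Normal] (z : G)
    (hz : z ∈ Subgroup.normalizer (Q : Set G))
    (y : (N.subgroupOf (Subgroup.centralizer (Q : Set G)) :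
        Subgroup (Subgroup.centralizer (Q : Set G)))) :
    ((centNormAut N Q z hz y : (N.subgroupOf (Subgroup.centralizer (Q : Set G)) :
        Subgroup (Subgroup.centralizer (Q : Set G)))) : Subgroup.centralizer (Q : Set G)) =
      centAut Q z hz (y : Subgroup.centralizer (Q : Set G)) := rfl

theorem irrComp_centAut (Q : Subgroup G) (z : G) (hz : z ∈ Subgroup.normalizer (Q : Set G))
    (ξ : Cfsg.IrrCharacter (Subgroup.centralizer (Q : Set G))) :
    irrComp (centAut Q z hz) ξ =
      nconjIrr (Subgroup.centralizer (Q : Set G)) z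
        (normalizer_le_normalizer_centralizer Q hz) ξ := by
  apply Subtype.ext
  funext k
  rfl

theorem irrComp_centNormAut_mul (N Q : Subgroup G) [hN : N.Normal] (z w : G)
    (hz : z ∈ Subgroup.normalizer (Q : Set G)) (hw : w ∈ Subgroup.normalizer (Q : Set G))
    (hzw : z * w ∈ Subgroup.normalizer (Q : Set G))
    (θ : Cfsg.IrrCharacter (N.subgroupOf (Subgroup.centralizer (Q : Set G)) :
        Subgroup (Subgroup.centralizer (Q : Set G)))) :
    irrComp (centNormAut N Q (z * w) hzw) θ =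
      irrComp (centNormAut N Q z hz) (irrComp (centNormAut N Q w hw) θ) := by
  apply Subtype.ext
  funext y
  rw [irrComp_apply, irrComp_apply, irrComp_apply]
  refine congrArg _ ?_
  apply Subtype.ext
  apply Subtype.ext
  show (z * w)⁻¹ * _ * (z * w) = w⁻¹ * (z⁻¹ * _ * z) * w
  simp [mul_assoc]

theorem irrComp_centNormAut_one (N Q : Subgroup G) [hN : N.Normal]
    (h1 : (1 : G) ∈ Subgroup.normalizer (Q : Set G))
    (θ : Cfsg.IrrCharacter (N.subgroupOf (Subgroup.centralizer (Q : Set G)) :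
        Subgroup (Subgroup.centralizer (Q : Set G)))) :
    irrComp (centNormAut N Q 1 h1) θ = θ := by
  apply Subtype.ext
  funext y
  rw [irrComp_apply]
  refine congrArg _ ?_
  apply Subtype.ext
  apply Subtype.ext
  show (1 : G)⁻¹ * _ * 1 = _
  simp

theorem sameBlock_of_mem_isPBlock {K : Type u} [Group K] (hM : M.IsMaximal)
    (B : Set (Cfsg.IrrCharacter K)) (hB : Cfsg.IsPBlock M B) {ξ ξ' : Cfsg.IrrCharacter K}
    (hξ : ξ ∈ B) (hξ' : ξ' ∈ B) : Cfsg.SameBlock M (ξ : K → ℂ) (ξ' : K → ℂ) := by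
  obtain ⟨χ₀, rfl⟩ := hB
  exact sameBlock_trans hM (sameBlock_symm hξ) hξ'

/-- **Exact equality of the two Brauer central values**, when `ξ` lies over the transport of
`ξ'`. -/
theorem brauerOmega_eq_of_over [Fintype G] (N Q : Subgroup G) [hN : N.Normal] (Q' : Subgroup N)
    (hQN : Q ≤ N) (hQQ' : ∀ n : N, n ∈ Q' ↔ (n : G) ∈ Q)
    [Fintype (N.subgroupOf (Subgroup.centralizer (Q : Set G)) :
        Subgroup (Subgroup.centralizer (Q : Set G)))]
    (c : Set (Cfsg.IrrCharacter N))
    (hcinv : ∀ g : G, conjFun N (Cfsg.blockCoeff c) g = Cfsg.blockCoeff c)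
    (B : Set (Cfsg.IrrCharacter G))
    (hBc : ∀ g : G, Cfsg.blockCoeff B g = Cfsg.subgroupBlockCoeff N c g)
    (ξ : Cfsg.IrrCharacter (Subgroup.centralizer (Q : Set G)))
    (ξ' : Cfsg.IrrCharacter (Subgroup.centralizer (Q' : Set N)))
    (hconst : Cfsg.classInner
      (fun n : (N.subgroupOf (Subgroup.centralizer (Q : Set G)) :
        Subgroup (Subgroup.centralizer (Q : Set G))) =>
        (ξ : Subgroup.centralizer (Q : Set G) → ℂ) n)
      (irrComp (centNormEquiv N Q Q' hQN hQQ').symm ξ' :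
        (N.subgroupOf (Subgroup.centralizer (Q : Set G)) :
          Subgroup (Subgroup.centralizer (Q : Set G))) → ℂ) ≠ 0) :
    Cfsg.brauerOmega Q (Cfsg.blockCoeff B) (ξ : Subgroup.centralizer (Q : Set G) → ℂ) =
      Cfsg.brauerOmega Q' (Cfsg.blockCoeff c)
        (ξ' : Subgroup.centralizer (Q' : Set N) → ℂ) := by
  classical
  haveI : Fintype (Subgroup.centralizer (Q : Set G)) := Fintype.ofFinite _
  haveI : Fintype N := Fintype.ofFinite _
  haveI : Fintype (Subgroup.centralizer (Q' : Set N)) := Fintype.ofFinite _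
  set β₀ : (N.subgroupOf (Subgroup.centralizer (Q : Set G)) :
        Subgroup (Subgroup.centralizer (Q : Set G))) → ℂ :=
    fun y => Cfsg.blockCoeff c
      ⟨((y : Subgroup.centralizer (Q : Set G)) : G), Subgroup.mem_subgroupOf.mp y.2⟩ with hβ₀
  have hβinv : ∀ g : Subgroup.centralizer (Q : Set G),
      conjFun (N.subgroupOf (Subgroup.centralizer (Q : Set G)) :
        Subgroup (Subgroup.centralizer (Q : Set G))) β₀ g = β₀ := by
    intro g
    funext y
    exact congrFun (hcinv (g : G))
      ⟨((y : Subgroup.centralizer (Q : Set G)) : G), Subgroup.mem_subgroupOf.mp y.2⟩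
  have hA := sum_normal_ratio_eq (N.subgroupOf (Subgroup.centralizer (Q : Set G)) :
        Subgroup (Subgroup.centralizer (Q : Set G))) β₀ hβinv ξ
      (irrComp (centNormEquiv N Q Q' hQN hQQ').symm ξ') hconst
  rw [brauerOmega_eq_sum_subtype, brauerOmega_eq_sum_subtype]
  have hL : ∑ x : Subgroup.centralizer (Q : Set G), Cfsg.blockCoeff B (x : G) *
        ((ξ : Subgroup.centralizer (Q : Set G) → ℂ) x /
          (ξ : Subgroup.centralizer (Q : Set G) → ℂ) 1) =
      ∑ y : (N.subgroupOf (Subgroup.centralizer (Q : Set G)) :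
        Subgroup (Subgroup.centralizer (Q : Set G))), β₀ y *
        ((ξ : Subgroup.centralizer (Q : Set G) → ℂ) (y : Subgroup.centralizer (Q : Set G)) /
          (ξ : Subgroup.centralizer (Q : Set G) → ℂ) 1) := by
    rw [← Finset.sum_filter_of_ne (p := fun x : Subgroup.centralizer (Q : Set G) =>
      x ∈ (N.subgroupOf (Subgroup.centralizer (Q : Set G)) :
        Subgroup (Subgroup.centralizer (Q : Set G))))]
    · rw [Finset.sum_subtype (Finset.univ.filter (fun x : Subgroup.centralizer (Q : Set G) =>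
        x ∈ (N.subgroupOf (Subgroup.centralizer (Q : Set G)) :
          Subgroup (Subgroup.centralizer (Q : Set G)))))
        (p := fun x : Subgroup.centralizer (Q : Set G) =>
          x ∈ (N.subgroupOf (Subgroup.centralizer (Q : Set G)) :
            Subgroup (Subgroup.centralizer (Q : Set G)))) (by intro x; simp)
        (fun x : Subgroup.centralizer (Q : Set G) => Cfsg.blockCoeff B (x : G) *
        ((ξ : Subgroup.centralizer (Q : Set G) → ℂ) x /
          (ξ : Subgroup.centralizer (Q : Set G) → ℂ) 1))]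
      apply Finset.sum_congr rfl
      intro y _
      rw [hBc, subgroupBlockCoeff_of_mem N c _ (Subgroup.mem_subgroupOf.mp y.2)]
    · intro x _ hx
      rw [Subgroup.mem_subgroupOf]
      by_contra hxN
      apply hx
      rw [hBc, subgroupBlockCoeff_of_not_mem N c _ hxN, zero_mul]
  have hR : ∑ x : Subgroup.centralizer (Q' : Set N), Cfsg.blockCoeff c (x : N) *
        ((ξ' : Subgroup.centralizer (Q' : Set N) → ℂ) x /
          (ξ' : Subgroup.centralizer (Q' : Set N) → ℂ) 1) =
      ∑ y : (N.subgroupOf (Subgroup.centralizer (Q : Set G)) :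
        Subgroup (Subgroup.centralizer (Q : Set G))), β₀ y *
        ((irrComp (centNormEquiv N Q Q' hQN hQQ').symm ξ' :
          (N.subgroupOf (Subgroup.centralizer (Q : Set G)) :
            Subgroup (Subgroup.centralizer (Q : Set G))) → ℂ) y /
          (irrComp (centNormEquiv N Q Q' hQN hQQ').symm ξ' :
          (N.subgroupOf (Subgroup.centralizer (Q : Set G)) :
            Subgroup (Subgroup.centralizer (Q : Set G))) → ℂ) 1) := by
    rw [← Equiv.sum_comp (centNormEquiv N Q Q' hQN hQQ').toEquiv]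
    apply Finset.sum_congr rfl
    intro x _
    rw [irrComp_apply, irrComp_apply, map_one]
    have e1 : (centNormEquiv N Q Q' hQN hQQ').symm
        ((centNormEquiv N Q Q' hQN hQQ').toEquiv x) = x :=
      (centNormEquiv N Q Q' hQN hQQ').symm_apply_apply x
    rw [e1]
    rfl
  rw [hL, hA, hR]

/-- The transported subgroup is a `p`-group. -/
theorem isPGroup_of_corr (N Q : Subgroup G) (Q' : Subgroup N)
    (hQQ' : ∀ n : N, n ∈ Q' ↔ (n : G) ∈ Q) {p : ℕ} (hQ : IsPGroup p Q) : IsPGroup p Q' := by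
  let f : Q' →* Q :=
    { toFun := fun q => ⟨((q : N) : G), (hQQ' _).mp q.2⟩
      map_one' := rfl
      map_mul' := fun _ _ => rfl }
  have hf : Function.Injective f := by
    intro a b hab
    apply Subtype.ext
    apply Subtype.ext
    exact congrArg (fun q : Q => (q : G)) hab
  exact hQ.of_injective f hf

/-- **Brauer pairs correspond under covering.** -/
theorem isBrauerPairOf_iff_of_cover [Fintype G] {p : ℕ} [hp : Fact p.Prime]
    (hM : Cfsg.IsPModular p M) (N Q : Subgroup G) [hN : N.Normal] (Q' : Subgroup N)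
    (hQN : Q ≤ N) (hQQ' : ∀ n : N, n ∈ Q' ↔ (n : G) ∈ Q) (hQ : IsPGroup p Q)
    [Fintype (N.subgroupOf (Subgroup.centralizer (Q : Set G)) :
        Subgroup (Subgroup.centralizer (Q : Set G)))]
    (c : Set (Cfsg.IrrCharacter N)) (hc : Cfsg.IsPBlock M c)
    (hcinv : ∀ g : G, conjFun N (Cfsg.blockCoeff c) g = Cfsg.blockCoeff c)
    (B : Set (Cfsg.IrrCharacter G)) (hB : Cfsg.IsPBlock M B)
    (hBc : ∀ g : G, Cfsg.blockCoeff B g = Cfsg.subgroupBlockCoeff N c g)
    (e : Set (Cfsg.IrrCharacter (Subgroup.centralizer (Q : Set G)))) (he : Cfsg.IsPBlock M e)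
    (e' : Set (Cfsg.IrrCharacter (Subgroup.centralizer (Q' : Set N))))
    (he' : Cfsg.IsPBlock M e')
    (hcov : ∃ ξ ∈ e, ∃ ξ' ∈ e', Cfsg.classInner
      (fun n : (N.subgroupOf (Subgroup.centralizer (Q : Set G)) :
        Subgroup (Subgroup.centralizer (Q : Set G))) =>
        (ξ : Subgroup.centralizer (Q : Set G) → ℂ) n)
      (irrComp (centNormEquiv N Q Q' hQN hQQ').symm ξ' :
        (N.subgroupOf (Subgroup.centralizer (Q : Set G)) :
          Subgroup (Subgroup.centralizer (Q : Set G))) → ℂ) ≠ 0) :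
    Cfsg.IsBrauerPairOf p M B Q e ↔ Cfsg.IsBrauerPairOf p M c Q' e' := by
  classical
  have hMm : M.IsMaximal := hM.2.1
  obtain ⟨ξ₁, hξ₁, ξ'₁, hξ'₁, hconst⟩ := hcov
  have hE := brauerOmega_eq_of_over N Q Q' hQN hQQ' c hcinv B hBc ξ₁ ξ'₁ hconst
  haveI : Fintype N := Fintype.ofFinite _
  constructor
  · rintro ⟨_, _, h3⟩
    refine ⟨⟨isPGroup_of_corr N Q Q' hQQ' hQ, he'⟩, hc, ?_⟩
    intro ξ' hξ'
    have h1 := brauerOmega_sub_of_sameBlock hMm Q' (Cfsg.blockCoeff c)
      (fun x y => blockCoeff_isClassFunction c _ _)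
      (fun x => osima hMm c hc _) ξ' ξ'₁ (sameBlock_of_mem_isPBlock hMm e' he' hξ' hξ'₁)
    have h2 := h3 ξ₁ hξ₁
    rw [hE] at h2
    have := MemLocalIdeal.add hMm h1 h2
    rwa [sub_add_sub_cancel] at this
  · rintro ⟨_, _, h3⟩
    refine ⟨⟨hQ, he⟩, hB, ?_⟩
    intro ξ hξ
    have h1 := brauerOmega_sub_of_sameBlock hMm Q (Cfsg.blockCoeff B)
      (fun x y => blockCoeff_isClassFunction B _ _)
      (fun x => osima hMm B hB _) ξ ξ₁ (sameBlock_of_mem_isPBlock hMm e he hξ hξ₁)
    have h2 := h3 ξ'₁ hξ'₁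
    rw [← hE] at h2
    have := MemLocalIdeal.add hMm h1 h2
    rwa [sub_add_sub_cancel] at this

end Cfsg.Agent.Helper6
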