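import Mathlib
import Cfsg.Prelude.Def_Characters
import Cfsg.Prelude.Def_Blocks
import Cfsg.Prelude.Def_BlockLocal
import Cfsg.Prelude.Def_BrauerPairs
import Cfsg.Agent.Helper6.NilPB

/-!
# Nilpotent blocks and normal subgroups of `p`-power index, part C: going down

If the block `B` of `G` with the same idempotent as the `G`-stable block `c` of `N` is nilpotent,
then `c` is nilpotent.
-/

set_option autoImplicit false
set_option linter.style.haveILetI false

namespace Cfsg.Agent.Helper6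

open scoped ComplexConjugate

universe u

variable {G : Type u} [Group G] {M : Ideal Cfsg.AlgInt}

theorem mem_normalizer_corr (N Q : Subgroup G) [hN : N.Normal] (Q' : Subgroup N) (hQN : Q ≤ N)
    (hQQ' : ∀ n : N, n ∈ Q' ↔ (n : G) ∈ Q) (x' : N) :
    x' ∈ Subgroup.normalizer (Q' : Set N) ↔ (x' : G) ∈ Subgroup.normalizer (Q : Set G) := by
  rw [Subgroup.mem_normalizer_iff, Subgroup.mem_normalizer_iff]
  constructor
  · intro h g
    constructor
    · intro hg
      have h1 := (h ⟨g, hQN hg⟩).mp ((hQQ' _).mpr hg)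
      exact (hQQ' _).mp h1
    · intro hg
      have hgN : g ∈ N := by
        have h1 := hN.conj_mem _ (hQN hg) (x' : G)⁻¹
        have e : (x' : G)⁻¹ * ((x' : G) * g * (x' : G)⁻¹) * ((x' : G)⁻¹)⁻¹ = g := by group
        rwa [e] at h1
      have h1 : x' * ⟨g, hgN⟩ * x'⁻¹ ∈ Q' := (hQQ' _).mpr hg
      exact (hQQ' _).mp ((h ⟨g, hgN⟩).mpr h1)
  · intro h n
    rw [hQQ', hQQ']
    exact h (n : G)

theorem mem_centralizer_corr (N Q : Subgroup G) (Q' : Subgroup N) (hQN : Q ≤ N)
    (hQQ' : ∀ n : N, n ∈ Q' ↔ (n : G) ∈ Q) (x' : N) :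
    x' ∈ Subgroup.centralizer (Q' : Set N) ↔ (x' : G) ∈ Subgroup.centralizer (Q : Set G) := by
  rw [Subgroup.mem_centralizer_iff, Subgroup.mem_centralizer_iff]
  constructor
  · intro h g hg
    have h1 := h ⟨g, hQN hg⟩ ((hQQ' _).mpr hg)
    exact congrArg Subtype.val h1
  · intro h n hn
    apply Subtype.ext
    exact h (n : G) ((hQQ' _).mp hn)

/-- `C_G(Q) ∩ N` has `p`-power index in `C_G(Q)`. -/
theorem index_subgroupOf_pow [Finite G] (p : ℕ) [hp : Fact p.Prime] (N : Subgroup G)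
    [hN : N.Normal] (hidx : ∃ k : ℕ, N.index = p ^ k) (H : Subgroup G) :
    ∃ k : ℕ, (N.subgroupOf H).index = p ^ k := by
  obtain ⟨k, hk⟩ := hidx
  have h1 : N.relIndex H ∣ N.index := Subgroup.relIndex_dvd_index_of_normal N H
  rw [hk] at h1
  obtain ⟨j, _, hj⟩ := (Nat.dvd_prime_pow hp.out).mp h1
  exact ⟨j, hj⟩

/-- Transport of a conjugate character: the `x`-conjugate in `C_N(Q')` corresponds to the
conjugate by `centNormAut`. -/
theorem irrComp_centNormAut_of_isConjCharOf (N Q : Subgroup G) [hN : N.Normal] (Q' : Subgroup N)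
    (hQN : Q ≤ N) (hQQ' : ∀ n : N, n ∈ Q' ↔ (n : G) ∈ Q) (x' : N)
    (hx : (x' : G) ∈ Subgroup.normalizer (Q : Set G))
    (χ χ' : Cfsg.IrrCharacter (Subgroup.centralizer (Q' : Set N)))
    (hconj : Cfsg.IsConjCharOf (Subgroup.centralizer (Q' : Set N)) x'
      (χ : Subgroup.centralizer (Q' : Set N) → ℂ) (χ' : Subgroup.centralizer (Q' : Set N) → ℂ)) :
    irrComp (centNormAut N Q (x' : G) hx) (irrComp (centNormEquiv N Q Q' hQN hQQ').symm χ) =
      irrComp (centNormEquiv N Q Q' hQN hQQ').symm χ' := by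
  apply Subtype.ext
  funext y
  rw [irrComp_apply, irrComp_apply, irrComp_apply]
  symm
  apply hconj
  apply Subtype.ext
  show ((y : Subgroup.centralizer (Q : Set G)) : G) =
    (x' : G) * ((x' : G)⁻¹ * ((y : Subgroup.centralizer (Q : Set G)) : G) * (x' : G)) * (x' : G)⁻¹
  group

/-- **Going down**: if `B` is nilpotent then so is `c`. -/
theorem isNilpotentBlock_down [Fintype G] {p : ℕ} [hp : Fact p.Prime]
    (hM : Cfsg.IsPModular p M) (N : Subgroup G) [hN : N.Normal]
    (hidx : ∃ k : ℕ, N.index = p ^ k) (c : Set (Cfsg.IrrCharacter N)) (hc : Cfsg.IsPBlock M c)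
    (hst : ∀ x : G, Cfsg.StabilizesBlock N c x) (B : Set (Cfsg.IrrCharacter G))
    (hB : Cfsg.IsPBlock M B)
    (hBc : ∀ g : G, Cfsg.blockCoeff B g = Cfsg.subgroupBlockCoeff N c g)
    (hnil : Cfsg.IsNilpotentBlock p M B) : Cfsg.IsNilpotentBlock p M c := by
  classical
  have hMm : M.IsMaximal := hM.2.1
  refine ⟨hc, ?_⟩
  intro Q' e' hpair x' hx'n hx'st hx'reg
  have hQN : Q'.map N.subtype ≤ N := Subgroup.map_subtype_le Q'
  have hQQ' : ∀ n : N, n ∈ Q' ↔ (n : G) ∈ Q'.map N.subtype := fun n =>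
    (Subgroup.mem_map_iff_mem N.subtype_injective).symm
  have hQ : IsPGroup p (Q'.map N.subtype) := hpair.1.1.map N.subtype
  have hcinv : ∀ g : G, conjFun N (Cfsg.blockCoeff c) g = Cfsg.blockCoeff c :=
    blockCoeff_conj_of_stable N c (stable_of_stabilizesBlock N c hst)
  have he' : Cfsg.IsPBlock M e' := hpair.1.2
  obtain ⟨ξ'₀, hξ'₀⟩ : ∃ ξ'₀, ξ'₀ ∈ e' := by
    obtain ⟨χ, rfl⟩ := he'
    exact ⟨χ, mem_blockOf_self hMm χ⟩
  haveI : Fintype (Subgroup.centralizer ((Q'.map N.subtype : Subgroup G) : Set G)) :=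
    Fintype.ofFinite _
  haveI : Fintype (N.subgroupOf (Subgroup.centralizer ((Q'.map N.subtype : Subgroup G) : Set G)) :
      Subgroup (Subgroup.centralizer ((Q'.map N.subtype : Subgroup G) : Set G))) :=
    Fintype.ofFinite _
  obtain ⟨ξ, hξ⟩ := exists_irr_over
    (N.subgroupOf (Subgroup.centralizer ((Q'.map N.subtype : Subgroup G) : Set G)) :
      Subgroup (Subgroup.centralizer ((Q'.map N.subtype : Subgroup G) : Set G)))
    (irrComp (centNormEquiv N (Q'.map N.subtype) Q' hQN hQQ').symm ξ'₀)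
  have hBpair : Cfsg.IsBrauerPairOf p M B (Q'.map N.subtype)
      (Cfsg.blockOf M (ξ : Subgroup.centralizer ((Q'.map N.subtype : Subgroup G) : Set G) → ℂ)) :=
    (isBrauerPairOf_iff_of_cover hM N (Q'.map N.subtype) Q' hQN hQQ' hQ c hc hcinv B hB hBc
      _ ⟨ξ, rfl⟩ e' he' ⟨ξ, mem_blockOf_self hMm ξ, ξ'₀, hξ'₀, hξ⟩).mpr hpair
  have hxn : (x' : G) ∈ Subgroup.normalizer ((Q'.map N.subtype : Subgroup G) : Set G) :=
    (mem_normalizer_corr N _ Q' hQN hQQ' x').mp hx'n
  have hxreg : Cfsg.IsPRegular p (x' : G) := by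
    unfold Cfsg.IsPRegular at hx'reg ⊢
    rwa [Subgroup.orderOf_coe]
  -- the key: the conjugate of `ξ` lies in the block of `ξ`
  have hkey : Cfsg.SameBlock M
      (ξ : Subgroup.centralizer ((Q'.map N.subtype : Subgroup G) : Set G) → ℂ)
      (nconjIrr (Subgroup.centralizer ((Q'.map N.subtype : Subgroup G) : Set G)) (x' : G)
        (normalizer_le_normalizer_centralizer _ hxn) ξ :
        Subgroup.centralizer ((Q'.map N.subtype : Subgroup G) : Set G) → ℂ) := by
    obtain ⟨χ'', hχ'', hconj⟩ := hx'st.2 ξ'₀ hξ'₀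
    have h1 := irrComp_centNormAut_of_isConjCharOf N (Q'.map N.subtype) Q' hQN hQQ' x' hxn
      ξ'₀ χ'' hconj
    have h2 : Cfsg.SameBlock M
        (irrComp (centNormEquiv N (Q'.map N.subtype) Q' hQN hQQ').symm ξ'₀ :
          (N.subgroupOf (Subgroup.centralizer ((Q'.map N.subtype : Subgroup G) : Set G)) :
            Subgroup (Subgroup.centralizer ((Q'.map N.subtype : Subgroup G) : Set G))) → ℂ)
        (irrComp (centNormEquiv N (Q'.map N.subtype) Q' hQN hQQ').symm χ'' :
          (N.subgroupOf (Subgroup.centralizer ((Q'.map N.subtype : Subgroup G) : Set G)) :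
            Subgroup (Subgroup.centralizer ((Q'.map N.subtype : Subgroup G) : Set G))) → ℂ) :=
      sameBlock_comp_mulEquiv _ _ _ (sameBlock_of_mem_isPBlock hMm e' he' hξ'₀ hχ'')
    obtain ⟨B₀, _, huniq⟩ := covering_unique hMm p hM.2.2
      (N.subgroupOf (Subgroup.centralizer ((Q'.map N.subtype : Subgroup G) : Set G)) :
        Subgroup (Subgroup.centralizer ((Q'.map N.subtype : Subgroup G) : Set G)))
      (index_subgroupOf_pow p N hidx _)
      (Cfsg.blockOf M (irrComp (centNormEquiv N (Q'.map N.subtype) Q' hQN hQQ').symm ξ'₀ :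
          (N.subgroupOf (Subgroup.centralizer ((Q'.map N.subtype : Subgroup G) : Set G)) :
            Subgroup (Subgroup.centralizer ((Q'.map N.subtype : Subgroup G) : Set G))) → ℂ))
      ⟨_, rfl⟩
    have e1 := huniq (Cfsg.blockOf M
        (ξ : Subgroup.centralizer ((Q'.map N.subtype : Subgroup G) : Set G) → ℂ))
      ⟨⟨ξ, rfl⟩, ξ, mem_blockOf_self hMm ξ, _, mem_blockOf_self hMm _, hξ⟩
    have e2 := huniq (Cfsg.blockOf M
        (nconjIrr (Subgroup.centralizer ((Q'.map N.subtype : Subgroup G) : Set G)) (x' : G)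
          (normalizer_le_normalizer_centralizer _ hxn) ξ :
          Subgroup.centralizer ((Q'.map N.subtype : Subgroup G) : Set G) → ℂ))
      ⟨⟨_, rfl⟩, _, mem_blockOf_self hMm _,
        irrComp (centNormEquiv N (Q'.map N.subtype) Q' hQN hQQ').symm χ'', h2, by
          rw [← h1, ← irrComp_centAut _ _ hxn]
          rw [classInner_irrComp_restrict _ (centAut (Q'.map N.subtype) (x' : G) hxn)
            (centNormAut N (Q'.map N.subtype) (x' : G) hxn) (fun y => rfl)]
          exact hξ⟩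
    have e3 : nconjIrr (Subgroup.centralizer ((Q'.map N.subtype : Subgroup G) : Set G)) (x' : G)
        (normalizer_le_normalizer_centralizer _ hxn) ξ ∈ Cfsg.blockOf M
        (ξ : Subgroup.centralizer ((Q'.map N.subtype : Subgroup G) : Set G) → ℂ) := by
      rw [e1, ← e2]
      exact mem_blockOf_self hMm _
    exact e3
  have hxst : Cfsg.StabilizesBlock (Subgroup.centralizer ((Q'.map N.subtype : Subgroup G) : Set G))
      (Cfsg.blockOf M (ξ : Subgroup.centralizer ((Q'.map N.subtype : Subgroup G) : Set G) → ℂ))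
      (x' : G) := by
    refine ⟨normalizer_le_normalizer_centralizer _ hxn, ?_⟩
    intro χ hχ
    refine ⟨nconjIrr _ (x' : G) (normalizer_le_normalizer_centralizer _ hxn) χ, ?_,
      isConjCharOf_nconjIrr _ _ _ χ⟩
    exact sameBlock_trans hMm hkey (sameBlock_nconjIrr _ _ _ ξ χ hχ)
  have := hnil.2 (Q'.map N.subtype) _ hBpair (x' : G) hxn hxst hxreg
  exact (mem_centralizer_corr N _ Q' hQN hQQ' x').mpr this

end Cfsg.Agent.Helper6
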