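import Mathlib
import Cfsg.Prelude.Def_Characters
import Cfsg.Prelude.Def_Blocks
import Cfsg.Prelude.Def_BlockLocal
import Cfsg.Prelude.Def_BrauerPairs
import Cfsg.Agent.Helper6.NilPC

/-!
# Nilpotent blocks and normal subgroups of `p`-power index, part D: group-theoretic lemmas
-/

set_option autoImplicit false
set_option linter.style.haveILetI false

namespace Cfsg.Agent.Helper6

open scoped ComplexConjugate

universe u

variable {G : Type u} [Group G] {M : Ideal Cfsg.AlgInt}

/-- Coprime action: a `p`-regular element of the normal subgroup `N` normalizing the `p`-group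
`Q` and centralizing `Q ∩ N` centralizes `Q`. -/
theorem mem_centralizer_of_centralizes_inf {p : ℕ} [hp : Fact p.Prime] (N Q : Subgroup G)
    [hN : N.Normal] (hQ : IsPGroup p Q) (x : G) (hxN : x ∈ N)
    (hxn : x ∈ Subgroup.normalizer (Q : Set G))
    (hx₀ : x ∈ Subgroup.centralizer ((Q ⊓ N : Subgroup G) : Set G))
    (hxreg : Cfsg.IsPRegular p x) : x ∈ Subgroup.centralizer (Q : Set G) := by
  rw [Subgroup.mem_centralizer_iff]
  intro q hq
  have hq' : x * q * x⁻¹ ∈ Q := (Subgroup.mem_normalizer_iff.mp hxn q).mp hq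
  set z : G := q⁻¹ * (x * q * x⁻¹) with hz
  have hzQ : z ∈ Q := Q.mul_mem (Q.inv_mem hq) hq'
  have hzN : z ∈ N := by
    have h1 : q⁻¹ * x * q ∈ N := by
      have := hN.conj_mem x hxN q⁻¹
      simpa using this
    have h2 : z = (q⁻¹ * x * q) * x⁻¹ := by rw [hz]; group
    rw [h2]
    exact N.mul_mem h1 (N.inv_mem hxN)
  have hzx : z * x = x * z :=
    (Subgroup.mem_centralizer_iff.mp hx₀) z (Subgroup.mem_inf.mpr ⟨hzQ, hzN⟩)
  have hzpow : ∀ n : ℕ, z ^ n * x = x * z ^ n := by
    intro n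
    exact (Commute.pow_left (show Commute z x from hzx) n)
  have hxq : x * q = q * z * x := by rw [hz]; group
  have key : ∀ n : ℕ, x ^ n * q = q * z ^ n * x ^ n := by
    intro n
    induction n with
    | zero => simp
    | succ n ih =>
      calc x ^ (n + 1) * q = x * (x ^ n * q) := by rw [pow_succ']; group
        _ = x * (q * z ^ n * x ^ n) := by rw [ih]
        _ = (x * q) * z ^ n * x ^ n := by group
        _ = q * z * x * z ^ n * x ^ n := by rw [hxq]
        _ = q * z * (x * z ^ n) * x ^ n := by group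
        _ = q * z * (z ^ n * x) * x ^ n := by rw [hzpow n]
        _ = q * z ^ (n + 1) * x ^ (n + 1) := by rw [pow_succ' z, pow_succ' x]; group
  have h1 := key (orderOf x)
  rw [pow_orderOf_eq_one, one_mul, mul_one] at h1
  have hz1 : z ^ orderOf x = 1 := by
    have : q * 1 = q * z ^ orderOf x := by rw [mul_one]; exact h1
    exact (mul_left_cancel this).symm
  obtain ⟨k, hk⟩ := hQ ⟨z, hzQ⟩
  have hk' : z ^ (p ^ k) = 1 := by
    have := congrArg Subtype.val hk
    simpa using this
  have hd1 : orderOf z ∣ orderOf x := orderOf_dvd_of_pow_eq_one hz1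
  have hd2 : orderOf z ∣ p ^ k := orderOf_dvd_of_pow_eq_one hk'
  have hcop : (p ^ k).Coprime (orderOf x) :=
    Nat.Coprime.pow_left _ ((Nat.Prime.coprime_iff_not_dvd hp.out).mpr hxreg)
  have h3 : orderOf z = 1 := Nat.eq_one_of_dvd_coprimes hcop hd2 hd1
  have hz0 : z = 1 := orderOf_eq_one_iff.mp h3
  rw [hz0, mul_one] at hxq
  exact hxq.symm

/-- If `g` centralizes `Q`, `x` normalizes `Q` and a power of `g x` centralizes `Q`, then the
same power of `x` centralizes `Q`. -/
theorem pow_mem_centralizer_of_mul_pow (Q : Subgroup G) (g x : G)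
    (hg : g ∈ Subgroup.centralizer (Q : Set G)) (hx : x ∈ Subgroup.normalizer (Q : Set G))
    (n : ℕ) (h : (g * x) ^ n ∈ Subgroup.centralizer (Q : Set G)) :
    x ^ n ∈ Subgroup.centralizer (Q : Set G) := by
  have hxC : x ∈ Subgroup.normalizer
      ((Subgroup.centralizer (Q : Set G) : Subgroup G) : Set G) :=
    normalizer_le_normalizer_centralizer Q hx
  have key : ∀ n : ℕ, ∃ c ∈ Subgroup.centralizer (Q : Set G), (g * x) ^ n = c * x ^ n := by
    intro n
    induction n with
    | zero => exact ⟨1, Subgroup.one_mem _, by simp⟩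
    | succ n ih =>
      obtain ⟨c, hc, hcn⟩ := ih
      have hxn : x ^ n ∈ Subgroup.normalizer
          ((Subgroup.centralizer (Q : Set G) : Subgroup G) : Set G) := Subgroup.pow_mem _ hxC n
      have h1 : x ^ n * g * (x ^ n)⁻¹ ∈ Subgroup.centralizer (Q : Set G) :=
        (Subgroup.mem_normalizer_iff.mp hxn g).mp hg
      refine ⟨c * (x ^ n * g * (x ^ n)⁻¹), Subgroup.mul_mem _ hc h1, ?_⟩
      rw [pow_succ, hcn, pow_succ]
      group
  obtain ⟨c, hc, hcn⟩ := key n
  have : x ^ n = c⁻¹ * (g * x) ^ n := by rw [hcn]; group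
  rw [this]
  exact Subgroup.mul_mem _ (Subgroup.inv_mem _ hc) h

/-- A `p`-regular element lies in the centralizer as soon as a `p`-power of it does. -/
theorem mem_centralizer_of_pow_mem {p : ℕ} [hp : Fact p.Prime] (Q : Subgroup G) (x : G)
    (hxreg : Cfsg.IsPRegular p x) (a : ℕ)
    (h : x ^ (p ^ a) ∈ Subgroup.centralizer (Q : Set G)) :
    x ∈ Subgroup.centralizer (Q : Set G) := by
  have hcop : (p ^ a).Coprime (orderOf x) :=
    Nat.Coprime.pow_left _ ((Nat.Prime.coprime_iff_not_dvd hp.out).mpr hxreg)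
  obtain ⟨m, hm⟩ := exists_pow_eq_self_of_coprime hcop
  rw [← hm]
  exact Subgroup.pow_mem _ h m

/-- The set of elements of `N_G(Q)` whose conjugation action on `Irr(C_G(Q) ∩ N)` fixes the
set `ω`. -/
def FixesK0 (N Q : Subgroup G) [hN : N.Normal]
    (ω : Set (Cfsg.IrrCharacter (N.subgroupOf (Subgroup.centralizer (Q : Set G)) :
        Subgroup (Subgroup.centralizer (Q : Set G))))) (z : G) : Prop :=
  ∃ hz : z ∈ Subgroup.normalizer (Q : Set G), irrComp (centNormAut N Q z hz) '' ω = ω

theorem fixesK0_one (N Q : Subgroup G) [hN : N.Normal]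
    (ω : Set (Cfsg.IrrCharacter (N.subgroupOf (Subgroup.centralizer (Q : Set G)) :
        Subgroup (Subgroup.centralizer (Q : Set G))))) : FixesK0 N Q ω 1 := by
  refine ⟨Subgroup.one_mem _, ?_⟩
  ext θ
  constructor
  · rintro ⟨θ', hθ', rfl⟩
    rwa [irrComp_centNormAut_one]
  · intro hθ
    exact ⟨θ, hθ, irrComp_centNormAut_one N Q _ θ⟩

theorem fixesK0_mul (N Q : Subgroup G) [hN : N.Normal]
    (ω : Set (Cfsg.IrrCharacter (N.subgroupOf (Subgroup.centralizer (Q : Set G)) :
        Subgroup (Subgroup.centralizer (Q : Set G))))) (z w : G)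
    (hz : FixesK0 N Q ω z) (hw : FixesK0 N Q ω w) : FixesK0 N Q ω (z * w) := by
  obtain ⟨hz1, hz2⟩ := hz
  obtain ⟨hw1, hw2⟩ := hw
  refine ⟨Subgroup.mul_mem _ hz1 hw1, ?_⟩
  have e : irrComp (centNormAut N Q (z * w) (Subgroup.mul_mem _ hz1 hw1)) =
      fun θ => irrComp (centNormAut N Q z hz1) (irrComp (centNormAut N Q w hw1) θ) := by
    funext θ
    exact irrComp_centNormAut_mul N Q z w hz1 hw1 _ θ
  rw [e, ← Set.image_image (irrComp (centNormAut N Q z hz1)) (irrComp (centNormAut N Q w hw1)),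
    hw2, hz2]

theorem fixesK0_pow (N Q : Subgroup G) [hN : N.Normal]
    (ω : Set (Cfsg.IrrCharacter (N.subgroupOf (Subgroup.centralizer (Q : Set G)) :
        Subgroup (Subgroup.centralizer (Q : Set G))))) (z : G)
    (hz : FixesK0 N Q ω z) (n : ℕ) : FixesK0 N Q ω (z ^ n) := by
  induction n with
  | zero => rw [pow_zero]; exact fixesK0_one N Q ω
  | succ n ih => rw [pow_succ]; exact fixesK0_mul N Q ω _ _ ih hz

end Cfsg.Agent.Helper6
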