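import Mathlib
import Cfsg.Prelude.Def_Characters
import Cfsg.Prelude.Def_Blocks
import Cfsg.Prelude.Def_BlockLocal
import Cfsg.Prelude.Def_BrauerPairs
import Cfsg.Agent.Helper6.NilPD

/-!
# Nilpotent blocks and normal subgroups of `p`-power index, part E: going up

If the `G`-stable block `c` of `N` is nilpotent then so is the block `B` of `G` with the same
idempotent.
-/

set_option autoImplicit false
set_option linter.style.haveILetI false

namespace Cfsg.Agent.Helper6

open scoped ComplexConjugate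

universe u

variable {G : Type u} [Group G] {M : Ideal Cfsg.AlgInt}

/-- The case of a subgroup `Q` contained in `N`. -/
theorem mem_centralizer_of_le_of_nilpotent [Fintype G] {p : ℕ} [hp : Fact p.Prime]
    (hM : Cfsg.IsPModular p M) (N : Subgroup G) [hN : N.Normal]
    (hidx : ∃ k : ℕ, N.index = p ^ k) (c : Set (Cfsg.IrrCharacter N)) (hc : Cfsg.IsPBlock M c)
    (hst : ∀ x : G, Cfsg.StabilizesBlock N c x) (B : Set (Cfsg.IrrCharacter G))
    (hB : Cfsg.IsPBlock M B)
    (hBc : ∀ g : G, Cfsg.blockCoeff B g = Cfsg.subgroupBlockCoeff N c g)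
    (hnil : Cfsg.IsNilpotentBlock p M c) (Q : Subgroup G) (hQN : Q ≤ N)
    (e : Set (Cfsg.IrrCharacter (Subgroup.centralizer (Q : Set G))))
    (hpair : Cfsg.IsBrauerPairOf p M B Q e) (x : G)
    (hxn : x ∈ Subgroup.normalizer (Q : Set G))
    (hxst : Cfsg.StabilizesBlock (Subgroup.centralizer (Q : Set G)) e x)
    (hxreg : Cfsg.IsPRegular p x) : x ∈ Subgroup.centralizer (Q : Set G) := by
  classical
  have hMm : M.IsMaximal := hM.2.1
  have hQQ' : ∀ n : N, n ∈ Q.subgroupOf N ↔ (n : G) ∈ Q := fun n => Subgroup.mem_subgroupOf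
  have hQ : IsPGroup p Q := hpair.1.1
  have he : Cfsg.IsPBlock M e := hpair.1.2
  have hcinv : ∀ g : G, conjFun N (Cfsg.blockCoeff c) g = Cfsg.blockCoeff c :=
    blockCoeff_conj_of_stable N c (stable_of_stabilizesBlock N c hst)
  haveI : Fintype (Subgroup.centralizer (Q : Set G)) := Fintype.ofFinite _
  haveI : Fintype (N.subgroupOf (Subgroup.centralizer (Q : Set G)) :
      Subgroup (Subgroup.centralizer (Q : Set G))) := Fintype.ofFinite _
  obtain ⟨ξ, hξ⟩ : ∃ ξ, ξ ∈ e := by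
    obtain ⟨χ, rfl⟩ := he
    exact ⟨χ, mem_blockOf_self hMm χ⟩
  obtain ⟨ξ'', hξ''⟩ := exists_constituent_restrict
    (N.subgroupOf (Subgroup.centralizer (Q : Set G)) :
      Subgroup (Subgroup.centralizer (Q : Set G))) ξ
  -- the pair of `c`
  have hcov : Cfsg.classInner
      (fun n : (N.subgroupOf (Subgroup.centralizer (Q : Set G)) :
        Subgroup (Subgroup.centralizer (Q : Set G))) =>
        (ξ : Subgroup.centralizer (Q : Set G) → ℂ) n)
      (irrComp (centNormEquiv N Q (Q.subgroupOf N) hQN hQQ').symm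
        (irrComp (centNormEquiv N Q (Q.subgroupOf N) hQN hQQ') ξ'') :
        (N.subgroupOf (Subgroup.centralizer (Q : Set G)) :
          Subgroup (Subgroup.centralizer (Q : Set G))) → ℂ) ≠ 0 := by
    rw [irrComp_symm_cancel']
    exact hξ''
  have hpair' : Cfsg.IsBrauerPairOf p M c (Q.subgroupOf N)
      (Cfsg.blockOf M (irrComp (centNormEquiv N Q (Q.subgroupOf N) hQN hQQ') ξ'' :
        Subgroup.centralizer ((Q.subgroupOf N : Subgroup N) : Set N) → ℂ)) :=
    (isBrauerPairOf_iff_of_cover hM N Q (Q.subgroupOf N) hQN hQQ' hQ c hc hcinv B hB hBc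
      e he _ ⟨_, rfl⟩ ⟨ξ, hξ, _, mem_blockOf_self hMm _, hcov⟩).mp hpair
  -- the conjugate of `ξ` lies in `e` and over the conjugate of `ξ''`
  have hξx : nconjIrr (Subgroup.centralizer (Q : Set G)) x
      (normalizer_le_normalizer_centralizer Q hxn) ξ ∈ e :=
    nconjIrr_mem_of_stabilizes _ e x hxst ξ hξ
  have hover : Cfsg.classInner
      (fun n : (N.subgroupOf (Subgroup.centralizer (Q : Set G)) :
        Subgroup (Subgroup.centralizer (Q : Set G))) =>
        (nconjIrr (Subgroup.centralizer (Q : Set G)) x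
          (normalizer_le_normalizer_centralizer Q hxn) ξ :
          Subgroup.centralizer (Q : Set G) → ℂ) n)
      (irrComp (centNormAut N Q x hxn) ξ'' :
        (N.subgroupOf (Subgroup.centralizer (Q : Set G)) :
          Subgroup (Subgroup.centralizer (Q : Set G))) → ℂ) ≠ 0 := by
    rw [← irrComp_centAut _ _ hxn]
    rw [classInner_irrComp_restrict _ (centAut Q x hxn) (centNormAut N Q x hxn) (fun y => rfl)]
    exact hξ''
  obtain ⟨g, θ', hθ', hgθ⟩ := covering_conj hMm
    (N.subgroupOf (Subgroup.centralizer (Q : Set G)) :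
      Subgroup (Subgroup.centralizer (Q : Set G))) e he
    (Cfsg.blockOf M (ξ'' : (N.subgroupOf (Subgroup.centralizer (Q : Set G)) :
        Subgroup (Subgroup.centralizer (Q : Set G))) → ℂ)) ⟨ξ'', rfl⟩
    ξ hξ ξ'' (mem_blockOf_self hMm ξ'') hξ'' _ hξx _ hover
  -- the element `x₁ = g x`
  have hgC : (g : G) ∈ Subgroup.centralizer (Q : Set G) := g.2
  have hgn : (g : G) ∈ Subgroup.normalizer (Q : Set G) :=
    Subgroup.centralizer_le_normalizer (Q : Set G) hgC
  have hx₁n : (g : G) * x ∈ Subgroup.normalizer (Q : Set G) := Subgroup.mul_mem _ hgn hxn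
  have hθ'eq : irrComp (centNormAut N Q ((g : G) * x) hx₁n) ξ'' = θ' := by
    apply Subtype.ext
    funext m
    rw [irrComp_apply]
    have hm' : g⁻¹ * (m : Subgroup.centralizer (Q : Set G)) * g ∈
        (N.subgroupOf (Subgroup.centralizer (Q : Set G)) :
          Subgroup (Subgroup.centralizer (Q : Set G))) := by
      have := (Subgroup.normal_subgroupOf (H := Subgroup.centralizer (Q : Set G))
        (N := N)).conj_mem _ m.2 g⁻¹
      simpa using this
    have h1 := hgθ ⟨g⁻¹ * (m : Subgroup.centralizer (Q : Set G)) * g, hm'⟩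
    rw [irrComp_apply] at h1
    refine Eq.trans ?_ (Eq.trans h1 ?_)
    · refine congrArg _ ?_
      apply Subtype.ext
      apply Subtype.ext
      show ((g : G) * x)⁻¹ * _ * ((g : G) * x) = x⁻¹ * ((g : G)⁻¹ * _ * (g : G)) * x
      simp [mul_assoc]
    · refine congrArg _ ?_
      apply Subtype.ext
      simp [mul_assoc]
  have hfix : FixesK0 N Q
      (Cfsg.blockOf M (ξ'' : (N.subgroupOf (Subgroup.centralizer (Q : Set G)) :
        Subgroup (Subgroup.centralizer (Q : Set G))) → ℂ)) ((g : G) * x) := by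
    refine ⟨hx₁n, ?_⟩
    rw [image_irrComp_blockOf, hθ'eq]
    exact (eq_blockOf_of_mem hMm _ ⟨ξ'', rfl⟩ θ' hθ').symm
  -- the `p`-regular power
  obtain ⟨a, ha⟩ := exists_pow_isPRegular p ((g : G) * x)
  have hfix₂ := fixesK0_pow N Q _ _ hfix (p ^ a)
  obtain ⟨hx₂n, hx₂fix⟩ := hfix₂
  have hx₂N : ((g : G) * x) ^ (p ^ a) ∈ N := mem_of_isPRegular_of_index_pow p N hidx _ ha
  have hx₂n' : (⟨((g : G) * x) ^ (p ^ a), hx₂N⟩ : N) ∈
      Subgroup.normalizer ((Q.subgroupOf N : Subgroup N) : Set N) :=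
    (mem_normalizer_corr N Q (Q.subgroupOf N) hQN hQQ' _).mpr hx₂n
  have hx₂reg' : Cfsg.IsPRegular p (⟨((g : G) * x) ^ (p ^ a), hx₂N⟩ : N) := by
    unfold Cfsg.IsPRegular at ha ⊢
    rwa [← Subgroup.orderOf_coe]
  have hx₂st' : Cfsg.StabilizesBlock
      (Subgroup.centralizer ((Q.subgroupOf N : Subgroup N) : Set N))
      (Cfsg.blockOf M (irrComp (centNormEquiv N Q (Q.subgroupOf N) hQN hQQ') ξ'' :
        Subgroup.centralizer ((Q.subgroupOf N : Subgroup N) : Set N) → ℂ))
      (⟨((g : G) * x) ^ (p ^ a), hx₂N⟩ : N) := by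
    refine ⟨normalizer_le_normalizer_centralizer _ hx₂n', ?_⟩
    intro χ hχ
    rw [← image_irrComp_blockOf] at hχ
    obtain ⟨θ, hθ, rfl⟩ := hχ
    have hθ₂ : irrComp (centNormAut N Q (((g : G) * x) ^ (p ^ a)) hx₂n) θ ∈
        Cfsg.blockOf M (ξ'' : (N.subgroupOf (Subgroup.centralizer (Q : Set G)) :
          Subgroup (Subgroup.centralizer (Q : Set G))) → ℂ) := by
      rw [← hx₂fix]
      exact ⟨θ, hθ, rfl⟩
    refine ⟨irrComp (centNormEquiv N Q (Q.subgroupOf N) hQN hQQ')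
      (irrComp (centNormAut N Q (((g : G) * x) ^ (p ^ a)) hx₂n) θ), ?_, ?_⟩
    · rw [← image_irrComp_blockOf]
      exact ⟨_, hθ₂, rfl⟩
    · intro k k' hkk'
      rw [irrComp_apply, irrComp_apply, irrComp_apply]
      refine congrArg _ ?_
      apply Subtype.ext
      apply Subtype.ext
      show (((g : G) * x) ^ (p ^ a))⁻¹ * (((k' : N)) : G) * (((g : G) * x) ^ (p ^ a)) =
        ((k : N) : G)
      have h2 : ((k' : N) : G) = (((g : G) * x) ^ (p ^ a)) * ((k : N) : G) *
          (((g : G) * x) ^ (p ^ a))⁻¹ := by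
        have := congrArg Subtype.val hkk'
        exact this
      rw [h2]
      group
  have h3 := hnil.2 (Q.subgroupOf N) _ hpair' _ hx₂n' hx₂st' hx₂reg'
  have h4 : ((g : G) * x) ^ (p ^ a) ∈ Subgroup.centralizer (Q : Set G) :=
    (mem_centralizer_corr N Q (Q.subgroupOf N) hQN hQQ' _).mp h3
  have h5 := pow_mem_centralizer_of_mul_pow Q (g : G) x hgC hxn (p ^ a) h4
  exact mem_centralizer_of_pow_mem Q x hxreg a h5

/-- **Going up**: if `c` is nilpotent then so is `B`. -/
theorem isNilpotentBlock_up [Fintype G] {p : ℕ} [hp : Fact p.Prime]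
    (hM : Cfsg.IsPModular p M) (N : Subgroup G) [hN : N.Normal]
    (hidx : ∃ k : ℕ, N.index = p ^ k) (c : Set (Cfsg.IrrCharacter N)) (hc : Cfsg.IsPBlock M c)
    (hst : ∀ x : G, Cfsg.StabilizesBlock N c x) (B : Set (Cfsg.IrrCharacter G))
    (hB : Cfsg.IsPBlock M B)
    (hBc : ∀ g : G, Cfsg.blockCoeff B g = Cfsg.subgroupBlockCoeff N c g)
    (hnil : Cfsg.IsNilpotentBlock p M c) : Cfsg.IsNilpotentBlock p M B := by
  classical
  refine ⟨hB, ?_⟩
  intro Q e hpair x hxn hxst hxreg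
  have hxN : x ∈ N := mem_of_isPRegular_of_index_pow p N hidx x hxreg
  have hQ : IsPGroup p Q := hpair.1.1
  have hQ₀Q : Q ⊓ N ≤ Q := inf_le_left
  have hQ₀N : Q ⊓ N ≤ N := inf_le_right
  obtain ⟨e₀, ⟨he₀, hle⟩, _⟩ := existsUnique_subpairLE hM Q (Q ⊓ N) e hpair.1 hQ₀Q
  have hpair₀ : Cfsg.IsBrauerPairOf p M B (Q ⊓ N) e₀ :=
    isBrauerPairOf_of_subpairLE hM Q (Q ⊓ N) e e₀ hle B hpair
  have hxn₀ : x ∈ Subgroup.normalizer ((Q ⊓ N : Subgroup G) : Set G) := by
    rw [Subgroup.mem_normalizer_iff]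
    intro h
    rw [Subgroup.mem_inf, Subgroup.mem_inf, ← Subgroup.mem_normalizer_iff.mp hxn h]
    have : h ∈ N ↔ x * h * x⁻¹ ∈ N := by
      constructor
      · intro hh
        exact hN.conj_mem h hh x
      · intro hh
        have := hN.conj_mem _ hh x⁻¹
        have e : x⁻¹ * (x * h * x⁻¹) * x⁻¹⁻¹ = h := by group
        rwa [e] at this
    rw [this]
  have hxst₀ : Cfsg.StabilizesBlock (Subgroup.centralizer ((Q ⊓ N : Subgroup G) : Set G)) e₀ x :=
    stabilizesBlock_of_subpairLE' hM Q (Q ⊓ N) e e₀ hpair.1 hQ₀Q hle x hxn hxst hxn₀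
  have hx₀ : x ∈ Subgroup.centralizer ((Q ⊓ N : Subgroup G) : Set G) :=
    mem_centralizer_of_le_of_nilpotent hM N hidx c hc hst B hB hBc hnil (Q ⊓ N) hQ₀N e₀ hpair₀
      x hxn₀ hxst₀ hxreg
  exact mem_centralizer_of_centralizes_inf N Q hQ x hxN hxn hx₀ hxreg

end Cfsg.Agent.Helper6
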