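import Mathlib
import Cfsg.Prelude.Def_Characters
import Cfsg.Prelude.Def_Blocks
import Cfsg.Agent.Helper6.LinConstA
import Cfsg.Agent.Helper6.BlockCover1
import Cfsg.Agent.Helper6.Gagola2
import Cfsg.Agent.Helper6.Ito
import Cfsg.Agent.Helper6.OsimaSupport
import Cfsg.Agent.Helper6.DefectOrder

/-!
# Blocks with a normal defect group: abelian defect group iff all heights are zero
-/

namespace Cfsg.Agent.Helper6

open scoped ComplexConjugate
open Module

universe u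

variable {G : Type u} [Group G] {M : Ideal Cfsg.AlgInt}

/-- A member of height zero of a block with a normal defect group `P` has the commutators of
`P` in its kernel. -/
theorem height_zero_commutator_ker [Finite G] {p : ℕ} [hp : Fact p.Prime]
    (hM : Cfsg.IsPModular p M) (B : Set (Cfsg.IrrCharacter G)) (hB : Cfsg.IsPBlock M B)
    (P : Subgroup G) [hPn : P.Normal] (hP : Cfsg.IsDefectGroup p M B P)
    (χ : Cfsg.IrrCharacter G) (hχ : χ ∈ B) (h0 : Cfsg.blockHeight p B (χ : G → ℂ) = 0)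
    (a c : G) (ha : a ∈ P) (hc : c ∈ P) :
    (χ : G → ℂ) (a * c * a⁻¹ * c⁻¹) = (χ : G → ℂ) 1 := by
  classical
  haveI := Fintype.ofFinite G
  haveI : Fintype P := Fintype.ofFinite _
  obtain ⟨hpp, hMmax, hpM⟩ := hM
  obtain ⟨y, hcls, S, hPS⟩ := hP
  have hDcent : ∀ d ∈ P, d * y = y * d := by
    intro d hd
    rw [hPS] at hd
    obtain ⟨k, -, rfl⟩ := Subgroup.mem_map.mp hd
    exact Subgroup.mem_centralizer_singleton_iff.mp k.2
  have hDp : IsPGroup p P := by
    rw [hPS]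
    exact S.isPGroup'.map _
  have hval : ¬ Cfsg.MemLocalIdeal M ((χ : G → ℂ) y) := by
    have := not_memLocalIdeal_apply_mul hMmax p hpM B hB y hcls 1 (by simp)
      ⟨0, by simp⟩ χ hχ h0
    rwa [one_mul] at this
  obtain ⟨φ, hφ, hφ1, hΔ⟩ := exists_linear_constituent_of_value hMmax p hpM
    (IsIrrCharacter.isCharacter χ.2) P hDp y hDcent hval
  obtain ⟨μ, hμ⟩ := exists_hom_of_irr_degree_one hφ hφ1
  -- φ is a constituent of the restriction
  have hconst : Cfsg.classInner (fun n : P => (χ : G → ℂ) n) φ ≠ 0 := by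
    obtain ⟨n, hn⟩ := classInner_char_char_nat hΔ (IsIrrCharacter.isCharacter hφ)
    have hsplit : (fun n : P => (χ : G → ℂ) n) = ((fun n : P => (χ : G → ℂ) n) - φ) + φ := by
      rw [sub_add_cancel]
    rw [hsplit, classInner_add_left, hn, classInner_irr_self hφ]
    have : ((n : ℂ) + 1) = ((n + 1 : ℕ) : ℂ) := by push_cast; ring
    rw [this]
    exact_mod_cast Nat.succ_ne_zero n
  obtain ⟨k, hk⟩ := clifford_functional P (χ : G → ℂ) χ.2 φ hφ hconst
  have hzP : a * c * a⁻¹ * c⁻¹ ∈ P :=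
    P.mul_mem (P.mul_mem (P.mul_mem ha hc) (P.inv_mem ha)) (P.inv_mem hc)
  let z : P := ⟨a * c * a⁻¹ * c⁻¹, hzP⟩
  let L : (P → ℂ) →ₗ[ℂ] ℂ :=
    (LinearMap.proj (R := ℂ) (φ := fun _ : P => ℂ) z) -
      (LinearMap.proj (R := ℂ) (φ := fun _ : P => ℂ) (1 : P))
  have hL : ∀ f : P → ℂ, L f = f z - f 1 := fun f => rfl
  -- all conjugates of φ are trivial on z
  have hconj : ∀ g : G, conjFun P φ g z = 1 := by
    intro g
    have ha' : g * a * g⁻¹ ∈ P := hPn.conj_mem a ha g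
    have hc' : g * c * g⁻¹ ∈ P := hPn.conj_mem c hc g
    have hz' : (⟨g * (z : G) * g⁻¹, hPn.conj_mem z z.2 g⟩ : P) =
        (⟨g * a * g⁻¹, ha'⟩ : P) * ⟨g * c * g⁻¹, hc'⟩ * (⟨g * a * g⁻¹, ha'⟩ : P)⁻¹ *
          (⟨g * c * g⁻¹, hc'⟩ : P)⁻¹ := by
      apply Subtype.ext
      show g * (a * c * a⁻¹ * c⁻¹) * g⁻¹ = _
      simp only [Subgroup.coe_mul, Subgroup.coe_inv]
      group
    show φ ⟨g * (z : G) * g⁻¹, hPn.conj_mem z z.2 g⟩ = 1
    rw [hz', hμ]
    simp only [map_mul, map_inv]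
    rw [mul_comm (μ ⟨g * a * g⁻¹, ha'⟩) (μ ⟨g * c * g⁻¹, hc'⟩), mul_inv_cancel_right,
      mul_inv_cancel]
    rfl
  have hconj1 : ∀ g : G, conjFun P φ g 1 = 1 := by
    intro g
    show φ ⟨g * ((1 : P) : G) * g⁻¹, _⟩ = 1
    have : (⟨g * ((1 : P) : G) * g⁻¹, hPn.conj_mem 1 (1 : P).2 g⟩ : P) = 1 := by
      apply Subtype.ext
      simp
    rw [this, hφ1]
  have hφz : φ z = 1 := by
    have := hconj 1
    have h1 : conjFun P φ 1 = φ := conjFun_one P φ
    rwa [h1] at this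
  have hinv : ∀ g : G, L (conjFun P φ g) = L φ := by
    intro g
    rw [hL, hL, hconj g, hconj1 g, hφz, hφ1]
  have := hk L hinv
  rw [hL, hL, hφz, hφ1, sub_self, mul_zero, sub_eq_zero] at this
  simpa using this

end Cfsg.Agent.Helper6
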