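import Mathlib
import Cfsg.Agent.Helper7.OFxA
import Cfsg.Agent.Helper7.SpOrdA
import Cfsg.Agent.Helper8.Reflections

/-!
# Adapted orthogonal structures (piece X of S5977/S5978), part A

Endomorphisms supported on a nondegenerate subspace, the model on a plane with an orthogonal
basis, and gluing.
-/

set_option autoImplicit false
set_option linter.style.haveILetI false
set_option linter.unusedSectionVars false

namespace Cfsg.Agent.Helper6.OFx

open Module Cfsg.Agent.Helper7.SpOrd Cfsg.Agent.Helper7.OFx Cfsg.Agent.Helper8.Reflections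

universe u

variable {F : Type u} [Field F] {V : Type u} [AddCommGroup V] [Module F V]

/-- an endomorphism with image in `W`, vanishing on the orthogonal of `W`, self-adjoint, with
square `ζ` on `W`. -/
structure Supp (Q : QuadraticForm F V) (δ : Module.End F V) (ζ : F) (W : Submodule F V) :
    Prop where
  mem : ∀ v, δ v ∈ W
  perp : ∀ v, (∀ w ∈ W, QuadraticMap.polar Q w v = 0) → δ v = 0
  sq : ∀ v ∈ W, δ (δ v) = ζ • v
  sa : ∀ u v, QuadraticMap.polar Q (δ u) v = QuadraticMap.polar Q u (δ v)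

variable {Q : QuadraticForm F V} {ζ : F}

theorem Supp.toOS {δ : Module.End F V} (h : Supp Q δ ζ ⊤) (hζ : ¬ IsSquare ζ) : OS Q δ ζ :=
  ⟨fun v => h.sq v Submodule.mem_top, hζ, h.sa⟩

theorem Supp.zero : Supp Q (0 : Module.End F V) ζ ⊥ := by
  refine ⟨fun v => ?_, fun v _ => rfl, fun v hv => ?_, fun u v => ?_⟩
  · simp
  · rw [(Submodule.mem_bot F).mp hv]; simp
  · simp

/-- gluing along an orthogonal sum -/
theorem Supp.add {δ₁ δ₂ : Module.End F V} {W₁ W₂ : Submodule F V} (h₁ : Supp Q δ₁ ζ W₁)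
    (h₂ : Supp Q δ₂ ζ W₂) (hperp : ∀ w₁ ∈ W₁, ∀ w₂ ∈ W₂, QuadraticMap.polar Q w₁ w₂ = 0) :
    Supp Q (δ₁ + δ₂) ζ (W₁ ⊔ W₂) := by
  have h12 : ∀ w₂ ∈ W₂, δ₁ w₂ = 0 := fun w₂ hw₂ => h₁.perp w₂ (fun w hw => hperp w hw w₂ hw₂)
  have h21 : ∀ w₁ ∈ W₁, δ₂ w₁ = 0 := fun w₁ hw₁ => h₂.perp w₁ (fun w hw => by
    rw [QuadraticMap.polar_comm]; exact hperp w₁ hw₁ w hw)
  refine ⟨fun v => ?_, fun v hv => ?_, fun v hv => ?_, fun u v => ?_⟩
  · rw [LinearMap.add_apply]
    exact add_mem (Submodule.mem_sup_left (h₁.mem v)) (Submodule.mem_sup_right (h₂.mem v))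
  · rw [LinearMap.add_apply, h₁.perp v (fun w hw => hv w (Submodule.mem_sup_left hw)),
      h₂.perp v (fun w hw => hv w (Submodule.mem_sup_right hw)), add_zero]
  · obtain ⟨w₁, hw₁, w₂, hw₂, rfl⟩ := Submodule.mem_sup.mp hv
    have e1 : (δ₁ + δ₂) (w₁ + w₂) = δ₁ w₁ + δ₂ w₂ := by
      rw [LinearMap.add_apply, map_add, map_add, h12 w₂ hw₂, h21 w₁ hw₁, add_zero, zero_add]
    rw [e1, LinearMap.add_apply, map_add, map_add, h12 _ (h₂.mem w₂), h21 _ (h₁.mem w₁),
      h₁.sq w₁ hw₁, h₂.sq w₂ hw₂, add_zero, zero_add, smul_add]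
  · rw [LinearMap.add_apply, LinearMap.add_apply, QuadraticMap.polar_add_left,
      QuadraticMap.polar_add_right, h₁.sa, h₂.sa]

/-! ### the model on a plane -/

/-- the endomorphism with matrix `[[a, t g_f], [t g_e, -a]]` on the plane `⟨e, f⟩`, zero on its
orthogonal complement. -/
noncomputable def pl (Q : QuadraticForm F V) (e f : V) (a t : F) : Module.End F V :=
  (a / QuadraticMap.polar Q e e) • (QuadraticMap.polarBilin Q e).smulRight e
    + t • (QuadraticMap.polarBilin Q f).smulRight e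
    + t • (QuadraticMap.polarBilin Q e).smulRight f
    - (a / QuadraticMap.polar Q f f) • (QuadraticMap.polarBilin Q f).smulRight f

theorem pl_apply (e f : V) (a t : F) (v : V) :
    pl Q e f a t v =
      (a / QuadraticMap.polar Q e e * QuadraticMap.polar Q e v + t * QuadraticMap.polar Q f v) • e
      + (t * QuadraticMap.polar Q e v - a / QuadraticMap.polar Q f f * QuadraticMap.polar Q f v)
        • f := by
  unfold pl
  simp only [LinearMap.add_apply, LinearMap.sub_apply, LinearMap.smul_apply,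
    LinearMap.smulRight_apply, QuadraticMap.polarBilin_apply_apply, smul_smul, add_smul, sub_smul]
  abel

theorem pl_mem (e f : V) (a t : F) (v : V) : pl Q e f a t v ∈ Submodule.span F {e, f} := by
  rw [pl_apply]
  apply add_mem
  · exact Submodule.smul_mem _ _ (Submodule.subset_span (by simp))
  · exact Submodule.smul_mem _ _ (Submodule.subset_span (by simp))

theorem pl_perp (e f : V) (a t : F) (v : V) (he : QuadraticMap.polar Q e v = 0)
    (hf : QuadraticMap.polar Q f v = 0) : pl Q e f a t v = 0 := by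
  rw [pl_apply, he, hf]
  simp

theorem pl_e {e f : V} (a t : F) (hef : QuadraticMap.polar Q e f = 0)
    (he : QuadraticMap.polar Q e e ≠ 0) :
    pl Q e f a t e = a • e + (t * QuadraticMap.polar Q e e) • f := by
  rw [pl_apply, QuadraticMap.polar_comm Q f e, hef, div_mul_cancel₀ _ he]
  module

theorem pl_f {e f : V} (a t : F) (hef : QuadraticMap.polar Q e f = 0)
    (hf : QuadraticMap.polar Q f f ≠ 0) :
    pl Q e f a t f = (t * QuadraticMap.polar Q f f) • e - a • f := by
  rw [pl_apply, hef, div_mul_cancel₀ _ hf]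
  module

theorem pl_sa (e f : V) (a t : F) (u v : V) :
    QuadraticMap.polar Q (pl Q e f a t u) v = QuadraticMap.polar Q u (pl Q e f a t v) := by
  rw [pl_apply, pl_apply]
  simp only [QuadraticMap.polar_add_left, QuadraticMap.polar_add_right,
    QuadraticMap.polar_smul_left, QuadraticMap.polar_smul_right, smul_eq_mul]
  rw [QuadraticMap.polar_comm Q u e, QuadraticMap.polar_comm Q u f]
  ring

theorem pl_sq {e f : V} (a t : F) (hef : QuadraticMap.polar Q e f = 0)
    (he : QuadraticMap.polar Q e e ≠ 0) (hf : QuadraticMap.polar Q f f ≠ 0) (v : V)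
    (hv : v ∈ Submodule.span F {e, f}) :
    pl Q e f a t (pl Q e f a t v) =
      (a ^ 2 + t ^ 2 * (QuadraticMap.polar Q e e * QuadraticMap.polar Q f f)) • v := by
  obtain ⟨x, y, rfl⟩ := Submodule.mem_span_pair.mp hv
  simp only [map_add, map_sub, map_smul, pl_e a t hef he, pl_f a t hef hf]
  module

theorem supp_pl {e f : V} {a t : F} (hef : QuadraticMap.polar Q e f = 0)
    (he : QuadraticMap.polar Q e e ≠ 0) (hf : QuadraticMap.polar Q f f ≠ 0)
    (hat : a ^ 2 + t ^ 2 * (QuadraticMap.polar Q e e * QuadraticMap.polar Q f f) = ζ) :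
    Supp Q (pl Q e f a t) ζ (Submodule.span F {e, f}) := by
  refine ⟨pl_mem e f a t, fun v hv => ?_, fun v hv => ?_, pl_sa e f a t⟩
  · exact pl_perp e f a t v (hv e (Submodule.subset_span (by simp)))
      (hv f (Submodule.subset_span (by simp)))
  · rw [pl_sq a t hef he hf v hv, hat]

end Cfsg.Agent.Helper6.OFx
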