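import Mathlib
import Cfsg.Agent.Helper6.OFxXA

/-!
# Adapted orthogonal structures (piece X of S5977/S5978), part B

Peeling off planes: the inductive construction of supported endomorphisms.
-/

set_option autoImplicit false
set_option linter.style.haveILetI false
set_option linter.unusedSectionVars false

namespace Cfsg.Agent.Helper6.OFx

open Module Cfsg.Agent.Helper7.SpOrd Cfsg.Agent.Helper7.OFx Cfsg.Agent.Helper8.Reflections

universe u

variable {F : Type u} [Field F] {V : Type u} [AddCommGroup V] [Module F V]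
variable {Q : QuadraticForm F V} {ζ : F}

theorem polarBilin_isRefl (Q : QuadraticForm F V) : (QuadraticMap.polarBilin Q).IsRefl := by
  intro x y h
  rw [QuadraticMap.polarBilin_apply_apply] at *
  rw [QuadraticMap.polar_comm]
  exact h

/-- a nondegenerate nonzero subspace contains an anisotropic vector -/
theorem exists_aniso {W : Submodule F V} (hW : ND (QuadraticMap.polarBilin Q) W) (hne : W ≠ ⊥) :
    ∃ e ∈ W, Q e ≠ 0 := by
  by_contra hcon
  have hall : ∀ e ∈ W, Q e = 0 := by
    intro e he
    by_contra h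
    exact hcon ⟨e, he, h⟩
  obtain ⟨u, hu, hu0⟩ := (Submodule.ne_bot_iff W).mp hne
  obtain ⟨v, hv, huv⟩ := hW u hu hu0
  apply huv
  rw [QuadraticMap.polarBilin_apply_apply]
  unfold QuadraticMap.polar
  rw [hall _ (add_mem hu hv), hall u hu, hall v hv]
  simp

theorem polar_self_ne_zero (h2 : (2 : F) ≠ 0) {e : V} (he : Q e ≠ 0) :
    QuadraticMap.polar Q e e ≠ 0 := by
  have : QuadraticMap.polar Q e e = 2 * Q e := by
    unfold QuadraticMap.polar
    rw [← two_smul F e, QuadraticMap.map_smul, smul_eq_mul]
    ring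
  rw [this]
  exact mul_ne_zero h2 he

/-- a plane with an orthogonal basis of anisotropic vectors is nondegenerate -/
theorem nd_span_pair {e f : V} (hef : QuadraticMap.polar Q e f = 0)
    (he : QuadraticMap.polar Q e e ≠ 0) (hf : QuadraticMap.polar Q f f ≠ 0) :
    ND (QuadraticMap.polarBilin Q) (Submodule.span F {e, f}) := by
  intro u hu hu0
  obtain ⟨x, y, rfl⟩ := Submodule.mem_span_pair.mp hu
  by_cases hx : x = 0
  · have hy : y ≠ 0 := by
      rintro rfl
      apply hu0
      rw [hx]
      simp
    refine ⟨f, Submodule.subset_span (by simp), ?_⟩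
    rw [QuadraticMap.polarBilin_apply_apply, QuadraticMap.polar_add_left,
      QuadraticMap.polar_smul_left, QuadraticMap.polar_smul_left, hef, hx]
    simp only [smul_eq_mul, mul_zero, zero_add]
    exact mul_ne_zero hy hf
  · refine ⟨e, Submodule.subset_span (by simp), ?_⟩
    rw [QuadraticMap.polarBilin_apply_apply, QuadraticMap.polar_add_left,
      QuadraticMap.polar_smul_left, QuadraticMap.polar_smul_left, QuadraticMap.polar_comm Q f e,
      hef]
    simp only [smul_eq_mul, mul_zero, add_zero]
    exact mul_ne_zero hx he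

/-- solving `a² + c t² = ζ` over a finite field of odd characteristic -/
theorem exists_sq_add [Fintype F] (h2 : (2 : F) ≠ 0) {c : F} (hc : c ≠ 0) (ζ : F) :
    ∃ a t : F, a ^ 2 + t ^ 2 * c = ζ := by
  classical
  have hchar : ringChar F ≠ 2 := by
    intro h
    have := ringChar.Nat.cast_ringChar (R := F)
    rw [h] at this
    exact h2 (by exact_mod_cast this)
  have hodd := FiniteField.odd_card_of_char_ne_two hchar
  have hf2 : (Polynomial.X ^ 2 : Polynomial F).degree = 2 := by
    rw [Polynomial.degree_X_pow]; rfl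
  have hg2 : (Polynomial.C c * Polynomial.X ^ 2 - Polynomial.C ζ : Polynomial F).degree = 2 := by
    rw [Polynomial.degree_sub_eq_left_of_degree_lt]
    · rw [Polynomial.degree_C_mul_X_pow 2 hc]; rfl
    · rw [Polynomial.degree_C_mul_X_pow 2 hc]
      exact lt_of_le_of_lt Polynomial.degree_C_le (by norm_num)
  obtain ⟨a, t, hat⟩ := FiniteField.exists_root_sum_quadratic hf2 hg2 hodd
  refine ⟨a, t, ?_⟩
  simp only [Polynomial.eval_pow, Polynomial.eval_X, Polynomial.eval_sub, Polynomial.eval_mul,
    Polynomial.eval_C] at hat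
  linear_combination hat

/-- **peeling off planes** -/
theorem exists_supp_of_step [FiniteDimensional F V] (Q : QuadraticForm F V) (ζ : F)
    (C : Submodule F V → Prop) (R : Module.End F V → Prop) (hR0 : R 0)
    (hRadd : ∀ x y, R x → R y → R (x + y))
    (hstep : ∀ W, C W → W ≠ ⊥ → ∃ e ∈ W, ∃ f ∈ W, QuadraticMap.polar Q e f = 0 ∧
      QuadraticMap.polar Q e e ≠ 0 ∧ QuadraticMap.polar Q f f ≠ 0 ∧
      (∃ a t : F, a ^ 2 + t ^ 2 * (QuadraticMap.polar Q e e * QuadraticMap.polar Q f f) = ζ ∧
        R (pl Q e f a t)) ∧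
      C (LinearMap.BilinForm.orthogonal (QuadraticMap.polarBilin Q) (Submodule.span F {e, f}) ⊓ W)) :
    ∀ W, C W → ∃ δ : Module.End F V, Supp Q δ ζ W ∧ R δ := by
  have hB := polarBilin_isRefl Q
  intro W
  induction' hn : finrank F W using Nat.strong_induction_on with n ih generalizing W
  intro hCW
  by_cases hW : W = ⊥
  · subst hW
    exact ⟨0, Supp.zero, hR0⟩
  · obtain ⟨e, heW, f, hfW, hef, he, hf, ⟨a, t, hat, hR⟩, hC'⟩ := hstep W hCW hW
    set P := Submodule.span F {e, f} with hP
    have hPW : P ≤ W := by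
      rw [hP, Submodule.span_le]
      intro x hx
      rcases hx with rfl | rfl
      · exact heW
      · exact hfW
    have hPnd : ND (QuadraticMap.polarBilin Q) P := nd_span_pair hef he hf
    have hdim := finrank_perp_inf hB hPnd hPW
    have hPpos : 0 < finrank F P := by
      rw [Module.finrank_pos_iff_exists_ne_zero]
      refine ⟨⟨e, Submodule.subset_span (by simp)⟩, ?_⟩
      intro h0
      apply he
      have : e = 0 := congrArg Subtype.val h0
      rw [this]
      simp
    obtain ⟨δ', hδ', hR'⟩ := ih _ (by omega) _ rfl hC'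
    refine ⟨pl Q e f a t + δ', ?_, hRadd _ _ hR hR'⟩
    have := Supp.add (supp_pl (ζ := ζ) hef he hf hat) hδ' (fun w₁ hw₁ w₂ hw₂ => hw₂.1 w₁ hw₁)
    rwa [sup_perp_inf hB hPnd hPW] at this

end Cfsg.Agent.Helper6.OFx
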