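import Mathlib
import Cfsg.Agent.Helper6.OFxXB

/-!
# Adapted orthogonal structures (piece X of S5977/S5978), part C

Conjugation of the plane model by a reflection; the case `X² = -1`.
-/

set_option autoImplicit false
set_option linter.style.haveILetI false
set_option linter.unusedSectionVars false

namespace Cfsg.Agent.Helper6.OFx

open Module Cfsg.Agent.Helper7.SpOrd Cfsg.Agent.Helper7.OFx Cfsg.Agent.Helper8.Reflections

universe u

variable {F : Type u} [Field F] {V : Type u} [AddCommGroup V] [Module F V]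
variable {Q : QuadraticForm F V} {ζ : F}

theorem polar_self_eq (Q : QuadraticForm F V) (e : V) : QuadraticMap.polar Q e e = 2 * Q e := by
  unfold QuadraticMap.polar
  rw [← two_smul F e, QuadraticMap.map_smul, smul_eq_mul]
  ring

/-- conjugating the plane model by the reflection in its first basis vector changes the sign of
`t`. -/
theorem refl_pl_refl {e f : V} (a t : F)
    (hef : QuadraticMap.polar Q e f = 0) (he : Q e ≠ 0) (v : V) :
    refl Q e (pl Q e f a t (refl Q e v)) = pl Q e f a (-t) v := by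
  have hfe : QuadraticMap.polar Q f e = 0 := by rw [QuadraticMap.polar_comm]; exact hef
  have h1 : QuadraticMap.polar Q e (refl Q e v) = - QuadraticMap.polar Q e v := by
    rw [refl_apply, QuadraticMap.polar_sub_right, QuadraticMap.polar_smul_right, polar_self_eq,
      smul_eq_mul]
    field_simp
    ring
  have h2' : QuadraticMap.polar Q f (refl Q e v) = QuadraticMap.polar Q f v := by
    rw [refl_apply, QuadraticMap.polar_sub_right, QuadraticMap.polar_smul_right, hfe]
    simp
  rw [pl_apply, h1, h2', map_add, map_smul, map_smul, refl_self Q he, refl_of_perp Q hef, pl_apply]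
  module

/-- a supported endomorphism is unchanged by conjugation with a reflection in a vector orthogonal
to its support. -/
theorem refl_supp_refl {δ : Module.End F V} {W : Submodule F V} (h : Supp Q δ ζ W) {z : V}
    (hz : ∀ w ∈ W, QuadraticMap.polar Q w z = 0) (v : V) :
    refl Q z (δ (refl Q z v)) = δ v := by
  have h1 : δ z = 0 := h.perp z hz
  rw [refl_apply Q z v, map_sub, map_smul, h1, smul_zero, sub_zero]
  apply refl_of_perp
  rw [QuadraticMap.polar_comm]
  exact hz _ (h.mem v)

section neg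

variable (X : V ≃ₗ[F] V) (hX : ∀ v, Q (X v) = Q v)

include hX in
theorem polar_isom (u v : V) : QuadraticMap.polar Q (X u) (X v) = QuadraticMap.polar Q u v := by
  unfold QuadraticMap.polar
  rw [← map_add, hX, hX, hX]

variable (hsq : ∀ v, X (X v) = -v)

include hX hsq in
theorem polar_neg_adj (u v : V) :
    QuadraticMap.polar Q (X u) v = - QuadraticMap.polar Q u (X v) := by
  have := polar_isom X hX (X u) v
  rw [hsq, QuadraticMap.polar_neg_left] at this
  exact this.symm

include hX hsq in
theorem polar_self_X (h2 : (2 : F) ≠ 0) (e : V) : QuadraticMap.polar Q e (X e) = 0 := by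
  have h1 := polar_neg_adj X hX hsq e e
  rw [QuadraticMap.polar_comm] at h1
  have h3 : (2 : F) * QuadraticMap.polar Q e (X e) = 0 := by
    rw [two_mul]
    nth_rewrite 1 [h1]
    exact neg_add_cancel _
  exact (mul_eq_zero.mp h3).resolve_left h2

include hX hsq in
/-- the plane model on `⟨e, X e⟩` anticommutes with `X`. -/
theorem pl_anticomm (e : V) (a t : F) (v : V) :
    X (pl Q e (X e) a t v) = - pl Q e (X e) a t (X v) := by
  have hg : QuadraticMap.polar Q (X e) (X e) = QuadraticMap.polar Q e e := polar_isom X hX e e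
  have h1 : QuadraticMap.polar Q e (X v) = - QuadraticMap.polar Q (X e) v := by
    rw [polar_neg_adj X hX hsq, neg_neg]
  have h3 : QuadraticMap.polar Q (X e) (X v) = QuadraticMap.polar Q e v := polar_isom X hX e v
  rw [pl_apply, pl_apply, map_add, map_smul, map_smul, hsq, hg, h1, h3]
  module

end neg

/-- **the case `X² = -1`** -/
theorem exists_adapted_neg [Fintype F] [FiniteDimensional F V] (h2 : (2 : F) ≠ 0)
    (hV : ND (QuadraticMap.polarBilin Q) ⊤) (hpos : 0 < finrank F V) (hζ : ¬ IsSquare ζ)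
    (X : V ≃ₗ[F] V) (hX : ∀ v, Q (X v) = Q v) (hsq : ∀ v, X (X v) = -v) :
    ∃ (δ₁ : Module.End F V) (z : V), OS Q δ₁ ζ ∧ Q z ≠ 0 ∧
      (∀ v, X (δ₁ v) = -δ₁ (X v)) ∧
      (∀ v, X (refl Q z (δ₁ (refl Q z v))) = -refl Q z (δ₁ (refl Q z (X v)))) := by
  have hB := polarBilin_isRefl Q
  -- the inductive construction on `X`-invariant nondegenerate subspaces
  have hstep : ∀ W : Submodule F V,
      (ND (QuadraticMap.polarBilin Q) W ∧ ∀ w ∈ W, X w ∈ W) → W ≠ ⊥ →
      ∃ e ∈ W, ∃ f ∈ W, QuadraticMap.polar Q e f = 0 ∧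
      QuadraticMap.polar Q e e ≠ 0 ∧ QuadraticMap.polar Q f f ≠ 0 ∧
      (∃ a t : F, a ^ 2 + t ^ 2 * (QuadraticMap.polar Q e e * QuadraticMap.polar Q f f) = ζ ∧
        (∀ v, X (pl Q e f a t v) = - pl Q e f a t (X v))) ∧
      (ND (QuadraticMap.polarBilin Q)
          (LinearMap.BilinForm.orthogonal (QuadraticMap.polarBilin Q) (Submodule.span F {e, f}) ⊓ W)
        ∧ ∀ w ∈ LinearMap.BilinForm.orthogonal (QuadraticMap.polarBilin Q)
            (Submodule.span F {e, f}) ⊓ W,
          X w ∈ LinearMap.BilinForm.orthogonal (QuadraticMap.polarBilin Q)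
            (Submodule.span F {e, f}) ⊓ W) := by
    rintro W ⟨hWnd, hWX⟩ hW0
    obtain ⟨e, heW, he⟩ := exists_aniso hWnd hW0
    have hge : QuadraticMap.polar Q e e ≠ 0 := polar_self_ne_zero h2 he
    have hgf : QuadraticMap.polar Q (X e) (X e) ≠ 0 := by
      rw [polar_isom X hX]; exact hge
    have hef : QuadraticMap.polar Q e (X e) = 0 := polar_self_X X hX hsq h2 e
    obtain ⟨a, t, hat⟩ := exists_sq_add h2 (mul_ne_zero hge hgf) ζ
    refine ⟨e, heW, X e, hWX e heW, hef, hge, hgf, ⟨a, t, hat, pl_anticomm X hX hsq e a t⟩, ?_, ?_⟩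
    · apply nd_perp_inf hB (nd_span_pair hef hge hgf) hWnd
      rw [Submodule.span_le]
      intro x hx
      rcases hx with rfl | rfl
      · exact heW
      · exact hWX e heW
    · rintro w ⟨hw1, hw2⟩
      refine ⟨?_, hWX w hw2⟩
      show X w ∈ LinearMap.BilinForm.orthogonal _ _
      rw [mem_perp]
      intro p hp
      obtain ⟨x, y, rfl⟩ := Submodule.mem_span_pair.mp hp
      rw [QuadraticMap.polarBilin_apply_apply]
      have hXp : X (x • e + y • X e) ∈ Submodule.span F {e, X e} := by
        rw [map_add, map_smul, map_smul, hsq]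
        apply add_mem
        · exact Submodule.smul_mem _ _ (Submodule.subset_span (by simp))
        · exact Submodule.smul_mem _ _ (neg_mem (Submodule.subset_span (by simp)))
      have h0 := mem_perp.mp hw1 _ hXp
      rw [QuadraticMap.polarBilin_apply_apply, polar_neg_adj X hX hsq, neg_eq_zero] at h0
      exact h0
  have hind := exists_supp_of_step Q ζ
    (fun W => ND (QuadraticMap.polarBilin Q) W ∧ ∀ w ∈ W, X w ∈ W)
    (fun δ => ∀ v, X (δ v) = - δ (X v)) (fun v => by simp)
    (fun x y hx hy v => by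
      rw [LinearMap.add_apply, LinearMap.add_apply, map_add, hx, hy, neg_add]) hstep
  -- the first plane
  have htop : (⊤ : Submodule F V) ≠ ⊥ := by
    intro h
    have := finrank_top F V
    rw [h, finrank_bot] at this
    omega
  obtain ⟨z, -, hz⟩ := exists_aniso hV htop
  have hge : QuadraticMap.polar Q z z ≠ 0 := polar_self_ne_zero h2 hz
  have hgf : QuadraticMap.polar Q (X z) (X z) ≠ 0 := by
    rw [polar_isom X hX]; exact hge
  have hef : QuadraticMap.polar Q z (X z) = 0 := polar_self_X X hX hsq h2 z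
  obtain ⟨a, t, hat⟩ := exists_sq_add h2 (mul_ne_zero hge hgf) ζ
  have hat' : a ^ 2 + (-t) ^ 2 * (QuadraticMap.polar Q z z * QuadraticMap.polar Q (X z) (X z)) = ζ := by
    rw [neg_sq]; exact hat
  obtain ⟨e, -, f, -, -, -, -, -, hC'⟩ := hstep ⊤ ⟨hV, fun _ _ => Submodule.mem_top⟩ htop
  clear hC' e f
  set P := Submodule.span F {z, X z} with hP
  have hPnd : ND (QuadraticMap.polarBilin Q) P := nd_span_pair hef hge hgf
  have hW' : ND (QuadraticMap.polarBilin Q)
      (LinearMap.BilinForm.orthogonal (QuadraticMap.polarBilin Q) P ⊓ ⊤) ∧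
      ∀ w ∈ LinearMap.BilinForm.orthogonal (QuadraticMap.polarBilin Q) P ⊓ ⊤,
        X w ∈ LinearMap.BilinForm.orthogonal (QuadraticMap.polarBilin Q) P ⊓ ⊤ := by
    refine ⟨nd_perp_inf hB hPnd hV le_top, ?_⟩
    rintro w ⟨hw1, -⟩
    refine ⟨?_, Submodule.mem_top⟩
    show X w ∈ LinearMap.BilinForm.orthogonal _ _
    rw [mem_perp]
    intro p hp
    obtain ⟨x, y, rfl⟩ := Submodule.mem_span_pair.mp hp
    rw [QuadraticMap.polarBilin_apply_apply]
    have hXp : X (x • z + y • X z) ∈ Submodule.span F {z, X z} := by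
      rw [map_add, map_smul, map_smul, hsq]
      apply add_mem
      · exact Submodule.smul_mem _ _ (Submodule.subset_span (by simp))
      · exact Submodule.smul_mem _ _ (neg_mem (Submodule.subset_span (by simp)))
    have h0 := mem_perp.mp hw1 _ hXp
    rw [QuadraticMap.polarBilin_apply_apply, polar_neg_adj X hX hsq, neg_eq_zero] at h0
    exact h0
  obtain ⟨δ', hδ', hR'⟩ := hind _ hW'
  have hperp : ∀ w₁ ∈ P, ∀ w₂ ∈ LinearMap.BilinForm.orthogonal (QuadraticMap.polarBilin Q) P ⊓ ⊤,
      QuadraticMap.polar Q w₁ w₂ = 0 := fun w₁ hw₁ w₂ hw₂ => hw₂.1 w₁ hw₁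
  have hsup : P ⊔ (LinearMap.BilinForm.orthogonal (QuadraticMap.polarBilin Q) P ⊓ ⊤) = ⊤ :=
    sup_perp_inf hB hPnd le_top
  have hS1 := Supp.add (supp_pl (ζ := ζ) hef hge hgf hat) hδ' hperp
  rw [hsup] at hS1
  have hzperp : ∀ w ∈ LinearMap.BilinForm.orthogonal (QuadraticMap.polarBilin Q) P ⊓ ⊤,
      QuadraticMap.polar Q w z = 0 := by
    intro w hw
    rw [QuadraticMap.polar_comm]
    exact hw.1 z (Submodule.subset_span (by simp))
  have hconj : ∀ v, refl Q z ((pl Q z (X z) a t + δ') (refl Q z v)) =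
      (pl Q z (X z) a (-t) + δ') v := by
    intro v
    rw [LinearMap.add_apply, map_add, refl_pl_refl a t hef hz, refl_supp_refl hδ' hzperp,
      LinearMap.add_apply]
  refine ⟨pl Q z (X z) a t + δ', z, hS1.toOS hζ, hz, ?_, ?_⟩
  · intro v
    rw [LinearMap.add_apply, LinearMap.add_apply, map_add, pl_anticomm X hX hsq, hR', neg_add]
  · intro v
    rw [hconj, hconj, LinearMap.add_apply, LinearMap.add_apply, map_add, pl_anticomm X hX hsq, hR',
      neg_add]

end Cfsg.Agent.Helper6.OFx
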