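import Mathlib
import Cfsg.Agent.Helper6.OFxXC

/-!
# Adapted orthogonal structures (piece X of S5977/S5978), part D

Even-dimensional nondegenerate subspaces carry supported structures; the case `X² = 1`.
-/

set_option autoImplicit false
set_option linter.style.haveILetI false
set_option linter.unusedSectionVars false

namespace Cfsg.Agent.Helper6.OFx

open Module Cfsg.Agent.Helper7.SpOrd Cfsg.Agent.Helper7.OFx Cfsg.Agent.Helper8.Reflections

universe u

variable {F : Type u} [Field F] {V : Type u} [AddCommGroup V] [Module F V]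
variable {Q : QuadraticForm F V} {ζ : F}

theorem nd_span_singleton {e : V} (he : QuadraticMap.polar Q e e ≠ 0) :
    ND (QuadraticMap.polarBilin Q) (Submodule.span F {e}) := by
  intro u hu hu0
  obtain ⟨x, rfl⟩ := Submodule.mem_span_singleton.mp hu
  have hx : x ≠ 0 := by
    rintro rfl
    apply hu0
    simp
  refine ⟨e, Submodule.mem_span_singleton_self e, ?_⟩
  rw [QuadraticMap.polarBilin_apply_apply, QuadraticMap.polar_smul_left, smul_eq_mul]
  exact mul_ne_zero hx he

/-- **every nondegenerate subspace of even dimension carries a supported structure** -/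
theorem exists_supp_even [Fintype F] [FiniteDimensional F V] (h2 : (2 : F) ≠ 0) (ζ : F)
    (W : Submodule F V) (hW : ND (QuadraticMap.polarBilin Q) W) (hev : Even (finrank F W)) :
    ∃ δ : Module.End F V, Supp Q δ ζ W := by
  have hB := polarBilin_isRefl Q
  have hstep : ∀ W : Submodule F V,
      (ND (QuadraticMap.polarBilin Q) W ∧ Even (finrank F W)) → W ≠ ⊥ →
      ∃ e ∈ W, ∃ f ∈ W, QuadraticMap.polar Q e f = 0 ∧
      QuadraticMap.polar Q e e ≠ 0 ∧ QuadraticMap.polar Q f f ≠ 0 ∧
      (∃ a t : F, a ^ 2 + t ^ 2 * (QuadraticMap.polar Q e e * QuadraticMap.polar Q f f) = ζ ∧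
        True) ∧
      (ND (QuadraticMap.polarBilin Q)
          (LinearMap.BilinForm.orthogonal (QuadraticMap.polarBilin Q) (Submodule.span F {e, f}) ⊓ W)
        ∧ Even (finrank F ↥(LinearMap.BilinForm.orthogonal (QuadraticMap.polarBilin Q)
            (Submodule.span F {e, f}) ⊓ W))) := by
    rintro W ⟨hWnd, hWev⟩ hW0
    obtain ⟨e, heW, he⟩ := exists_aniso hWnd hW0
    have hge : QuadraticMap.polar Q e e ≠ 0 := polar_self_ne_zero h2 he
    have he0 : e ≠ 0 := by
      rintro rfl
      apply he
      simp
    have hEnd := nd_span_singleton hge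
    have hEW : Submodule.span F {e} ≤ W := by
      rw [Submodule.span_singleton_le_iff_mem]; exact heW
    have hdim1 := finrank_perp_inf hB hEnd hEW
    rw [finrank_span_singleton he0] at hdim1
    have hW1nd := nd_perp_inf hB hEnd hWnd hEW
    have hW1ne : LinearMap.BilinForm.orthogonal (QuadraticMap.polarBilin Q) (Submodule.span F {e}) ⊓ W
        ≠ ⊥ := by
      intro h
      rw [h, finrank_bot] at hdim1
      rw [← hdim1] at hWev
      exact absurd hWev (by decide)
    obtain ⟨f, hfW1, hf⟩ := exists_aniso hW1nd hW1ne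
    have hgf : QuadraticMap.polar Q f f ≠ 0 := polar_self_ne_zero h2 hf
    have hf0 : f ≠ 0 := by
      rintro rfl
      apply hf
      simp
    have hef : QuadraticMap.polar Q e f = 0 :=
      mem_perp.mp hfW1.1 e (Submodule.mem_span_singleton_self e)
    obtain ⟨a, t, hat⟩ := exists_sq_add h2 (mul_ne_zero hge hgf) ζ
    have hPW : Submodule.span F {e, f} ≤ W := by
      rw [Submodule.span_le]
      intro x hx
      rcases hx with rfl | rfl
      · exact heW
      · exact hfW1.2
    have hPnd := nd_span_pair hef hge hgf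
    have hdimP : finrank F ↥(Submodule.span F {e, f}) = 2 := by
      have : Submodule.span F {e, f} = Submodule.span F {e} ⊔ Submodule.span F {f} := by
        rw [← Submodule.span_insert]
      rw [this, finrank_sup_of_le_perp hB hEnd, finrank_span_singleton he0,
        finrank_span_singleton hf0]
      rw [Submodule.span_singleton_le_iff_mem]
      exact hfW1.1
    have hdim2 := finrank_perp_inf hB hPnd hPW
    rw [hdimP] at hdim2
    refine ⟨e, heW, f, hfW1.2, hef, hge, hgf, ⟨a, t, hat, trivial⟩,
      nd_perp_inf hB hPnd hWnd hPW, ?_⟩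
    rw [← hdim2] at hWev
    rcases hWev with ⟨k, hk⟩
    exact ⟨k - 1, by omega⟩
  obtain ⟨δ, hδ, -⟩ := exists_supp_of_step Q ζ
    (fun W => ND (QuadraticMap.polarBilin Q) W ∧ Even (finrank F W))
    (fun _ => True) trivial (fun _ _ _ _ => trivial) hstep W ⟨hW, hev⟩
  exact ⟨δ, hδ⟩

/-- two vectors with the same polar form against everything are equal -/
theorem eq_of_polar_eq (hV : ND (QuadraticMap.polarBilin Q) ⊤) {x y : V}
    (h : ∀ u, QuadraticMap.polar Q x u = QuadraticMap.polar Q y u) : x = y := by
  by_contra hne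
  obtain ⟨u, -, hu⟩ := hV (x - y) Submodule.mem_top (sub_ne_zero.mpr hne)
  apply hu
  rw [QuadraticMap.polarBilin_apply_apply, QuadraticMap.polar_sub_left, h u, sub_self]

section invol

variable (X : V ≃ₗ[F] V) (hX : ∀ v, Q (X v) = Q v) (hsq : ∀ v, X (X v) = v)

include hX hsq in
theorem polar_adj (u v : V) : QuadraticMap.polar Q (X u) v = QuadraticMap.polar Q u (X v) := by
  have := polar_isom X hX u (X v)
  rw [hsq] at this
  exact this

include hX hsq in
/-- a supported endomorphism commutes with an isometric involution acting as a scalar on the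
support. -/
theorem supp_comm (hV : ND (QuadraticMap.polarBilin Q) ⊤) {δ : Module.End F V}
    {W : Submodule F V} (h : Supp Q δ ζ W) (ε : F) (hε : ∀ w ∈ W, X w = ε • w) (v : V) :
    X (δ v) = δ (X v) := by
  apply eq_of_polar_eq hV
  intro u
  rw [hε _ (h.mem v), h.sa, polar_adj X hX hsq, hε _ (h.mem u), QuadraticMap.polar_smul_left,
    QuadraticMap.polar_smul_right, h.sa]

include hX hsq in
/-- the reflection in an eigenvector commutes with `X`. -/
theorem refl_comm {z : V} (ε : F) (hz : X z = ε • z) (v : V) :
    X (refl Q z v) = refl Q z (X v) := by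
  have h1 : QuadraticMap.polar Q z (X v) = ε * QuadraticMap.polar Q z v := by
    rw [← polar_adj X hX hsq, hz, QuadraticMap.polar_smul_left, smul_eq_mul]
  rw [refl_apply, refl_apply, map_sub, map_smul, hz, h1, smul_smul]
  congr 2
  by_cases hQ : Q z = 0
  · rw [hQ]; simp
  · field_simp

end invol

end Cfsg.Agent.Helper6.OFx
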