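import Mathlib
import Cfsg.Agent.Helper6.OFxXD

/-!
# Adapted orthogonal structures (piece X of S5977/S5978), part E

The case `X² = 1` and the final statement `exists_adapted`.
-/

set_option autoImplicit false
set_option linter.style.haveILetI false
set_option linter.unusedSectionVars false

namespace Cfsg.Agent.Helper6.OFx

open Module Cfsg.Agent.Helper7.SpOrd Cfsg.Agent.Helper7.OFx Cfsg.Agent.Helper8.Reflections

universe u

variable {F : Type u} [Field F] {V : Type u} [AddCommGroup V] [Module F V]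
variable {Q : QuadraticForm F V} {ζ : F}

/-- the `-1`-eigenspace -/
def negSpace (X : V ≃ₗ[F] V) : Submodule F V :=
  LinearMap.ker ((X : V →ₗ[F] V) + LinearMap.id)

theorem mem_negSpace (X : V ≃ₗ[F] V) (v : V) : v ∈ negSpace X ↔ X v = -v := by
  unfold negSpace
  rw [LinearMap.mem_ker, LinearMap.add_apply, LinearMap.id_apply, LinearEquiv.coe_coe,
    add_eq_zero_iff_eq_neg]

/-- the determinant of an involution -/
theorem det_invol [FiniteDimensional F V] (X : V ≃ₗ[F] V) (hsq : ∀ v, X (X v) = v) :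
    LinearMap.det (X : V →ₗ[F] V) = (-1) ^ finrank F (negSpace X) := by
  have he : negSpace X ≤ (negSpace X).comap (X : V →ₗ[F] V) := by
    intro w hw
    rw [Submodule.mem_comap, LinearEquiv.coe_coe, mem_negSpace, hsq]
    rw [mem_negSpace] at hw
    rw [hw, neg_neg]
  rw [LinearMap.det_eq_det_mul_det (negSpace X) (X : V →ₗ[F] V) he]
  have h1 : LinearMap.restrict (X : V →ₗ[F] V) (p := negSpace X) (q := negSpace X) he
      = (-1 : F) • LinearMap.id := by
    apply LinearMap.ext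
    intro w
    apply Subtype.ext
    rw [LinearMap.coe_restrict_apply, LinearMap.smul_apply, LinearMap.id_apply, LinearEquiv.coe_coe,
      (mem_negSpace X w).mp w.2]
    simp
  have h2 : (negSpace X).mapQ (negSpace X) (X : V →ₗ[F] V) he = LinearMap.id := by
    apply LinearMap.ext
    intro w
    induction w using Submodule.Quotient.induction_on with
    | H v =>
      rw [Submodule.mapQ_apply, LinearMap.id_apply, Submodule.Quotient.eq, mem_negSpace,
        LinearEquiv.coe_coe, map_sub, hsq]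
      abel
  rw [h1, h2, LinearMap.det_smul, LinearMap.det_id, LinearMap.det_id, mul_one, mul_one]

/-- **the case `X² = 1`** -/
theorem exists_adapted_invol [Fintype F] [FiniteDimensional F V] (h2 : (2 : F) ≠ 0)
    (hV : ND (QuadraticMap.polarBilin Q) ⊤) (hev : Even (finrank F V)) (hζ : ¬ IsSquare ζ)
    (X : V ≃ₗ[F] V) (hX : ∀ v, Q (X v) = Q v)
    (hdet : LinearMap.det (X : V →ₗ[F] V) = 1) (hsq : ∀ v, X (X v) = v)
    (hne : ∃ v, X v ≠ v) :
    ∃ (δ₁ : Module.End F V) (z : V), OS Q δ₁ ζ ∧ Q z ≠ 0 ∧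
      (∀ v, X (δ₁ v) = δ₁ (X v)) ∧
      (∀ v, X (refl Q z (δ₁ (refl Q z v))) = refl Q z (δ₁ (refl Q z (X v)))) := by
  have hB := polarBilin_isRefl Q
  set Wm := negSpace X with hWm
  -- `Wm` is nondegenerate
  have hWmnd : ND (QuadraticMap.polarBilin Q) Wm := by
    intro v hv hv0
    obtain ⟨u, -, hu⟩ := hV v Submodule.mem_top hv0
    have hXv := (mem_negSpace X v).mp hv
    refine ⟨u - X u, ?_, ?_⟩
    · rw [hWm, mem_negSpace, map_sub, hsq]
      abel
    · rw [QuadraticMap.polarBilin_apply_apply] at *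
      rw [QuadraticMap.polar_sub_right, ← polar_adj X hX hsq, hXv, QuadraticMap.polar_neg_left,
        sub_neg_eq_add, ← two_mul]
      exact mul_ne_zero h2 hu
  set Wp := LinearMap.BilinForm.orthogonal (QuadraticMap.polarBilin Q) Wm ⊓ ⊤ with hWp
  have hWpnd : ND (QuadraticMap.polarBilin Q) Wp := nd_perp_inf hB hWmnd hV le_top
  -- `X` is the identity on `Wp`
  have hWpX : ∀ u ∈ Wp, X u = (1 : F) • u := by
    intro u hu
    rw [one_smul]
    have h1 : X u - u ∈ Wm := by
      rw [hWm, mem_negSpace, map_sub, hsq]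
      abel
    have h3 : X u - u ∈ LinearMap.BilinForm.orthogonal (QuadraticMap.polarBilin Q) Wm := by
      rw [mem_perp]
      intro w hw
      have hXw := (mem_negSpace X w).mp hw
      have hwu : QuadraticMap.polar Q w u = 0 := mem_perp.mp hu.1 w hw
      rw [QuadraticMap.polarBilin_apply_apply, QuadraticMap.polar_sub_right,
        ← polar_adj X hX hsq, hXw, QuadraticMap.polar_neg_left, hwu]
      simp
    have h4 := (Submodule.disjoint_def.mp ((nd_iff_disjoint hB).mp hWmnd)) _ h1 h3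
    exact sub_eq_zero.mp h4
  have hWmX : ∀ w ∈ Wm, X w = (-1 : F) • w := by
    intro w hw
    rw [(mem_negSpace X w).mp hw]
    simp
  -- dimensions
  have hdimm : Even (finrank F Wm) := by
    have := det_invol X hsq
    rw [hdet] at this
    have hne1 : (-1 : F) ≠ 1 := by
      intro h
      apply h2
      have : (1 : F) + 1 = 0 := by
        nth_rewrite 1 [← h]
        exact neg_add_cancel 1
      rw [← one_add_one_eq_two]
      exact this
    exact (neg_one_pow_eq_one_iff_even hne1).mp this.symm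
  have hdimp : Even (finrank F Wp) := by
    have h := finrank_perp_inf hB hWmnd (le_top : Wm ≤ ⊤)
    rw [finrank_top] at h
    rcases hdimm with ⟨k, hk⟩
    rcases hev with ⟨l, hl⟩
    rw [← hWp] at h
    exact ⟨l - k, by omega⟩
  obtain ⟨δm, hδm⟩ := exists_supp_even h2 ζ Wm hWmnd hdimm
  obtain ⟨δp, hδp⟩ := exists_supp_even h2 ζ Wp hWpnd hdimp
  have hsup : Wm ⊔ Wp = ⊤ := sup_perp_inf hB hWmnd le_top
  have hS := Supp.add hδm hδp (fun w₁ hw₁ w₂ hw₂ => hw₂.1 w₁ hw₁)
  rw [hsup] at hS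
  -- the vector `z`
  have hWm0 : Wm ≠ ⊥ := by
    obtain ⟨v, hv⟩ := hne
    intro h
    have hmem : v - X v ∈ Wm := by
      rw [hWm, mem_negSpace, map_sub, hsq]
      abel
    rw [h, Submodule.mem_bot, sub_eq_zero] at hmem
    exact hv hmem.symm
  obtain ⟨z, hzW, hz⟩ := exists_aniso hWmnd hWm0
  have hcomm : ∀ v, X ((δm + δp) v) = (δm + δp) (X v) := by
    intro v
    rw [LinearMap.add_apply, LinearMap.add_apply, map_add,
      supp_comm X hX hsq hV hδm (-1) hWmX, supp_comm X hX hsq hV hδp 1 hWpX]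
  have hr := refl_comm X hX hsq (-1 : F) (hWmX z hzW)
  refine ⟨δm + δp, z, hS.toOS hζ, hz, hcomm, ?_⟩
  intro v
  rw [hr, hcomm, hr]

/-- **piece X: adapted structures.**  (The hypothesis `hpos` is needed: for `V = 0` no `z`
exists.) -/
theorem exists_adapted [Fintype F] [FiniteDimensional F V] (h2 : (2 : F) ≠ 0)
    {Q : QuadraticForm F V} (hV : ND (QuadraticMap.polarBilin Q) ⊤)
    (hev : Even (finrank F V)) (hpos : 0 < finrank F V) {ζ : F} (hζ : ¬ IsSquare ζ)
    (X : V ≃ₗ[F] V) (hX : ∀ v, Q (X v) = Q v) (hdet : LinearMap.det (X : V →ₗ[F] V) = 1)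
    (hcase : ((∀ v, X (X v) = v) ∧ (∃ v, X v ≠ v) ∧ (∃ v, X v ≠ -v)) ∨ (∀ v, X (X v) = -v)) :
    ∃ (δ₁ : Module.End F V) (z : V), OS Q δ₁ ζ ∧ Q z ≠ 0 ∧
      ((∀ v, X (δ₁ v) = δ₁ (X v)) ∨ (∀ v, X (δ₁ v) = -δ₁ (X v))) ∧
      ((∀ v, X (refl Q z (δ₁ (refl Q z v))) = refl Q z (δ₁ (refl Q z (X v)))) ∨
        (∀ v, X (refl Q z (δ₁ (refl Q z v))) = -refl Q z (δ₁ (refl Q z (X v))))) := by
  rcases hcase with ⟨hsq, hne, -⟩ | hsq
  · obtain ⟨δ₁, z, h1, h2', h3, h4⟩ := exists_adapted_invol h2 hV hev hζ X hX hdet hsq hne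
    exact ⟨δ₁, z, h1, h2', Or.inl h3, Or.inl h4⟩
  · obtain ⟨δ₁, z, h1, h2', h3, h4⟩ := exists_adapted_neg h2 hV hpos hζ X hX hsq
    exact ⟨δ₁, z, h1, h2', Or.inr h3, Or.inr h4⟩

end Cfsg.Agent.Helper6.OFx
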