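import Mathlib

set_option autoImplicit false

namespace Cfsg.Agent.Helper6.OddAut

/-- If `x^2 = u * b^2` with `b ≠ 0` then `u` is a square, with root `x / b`. -/
theorem exists_sq_of_sq_eq_mul_sq {x u b : ℤ} (hb : b ≠ 0) (h : x ^ 2 = u * b ^ 2) :
    ∃ s : ℤ, s ^ 2 = u ∧ x = b * s := by
  have hdvd : b ^ 2 ∣ x ^ 2 := ⟨u, by rw [h]; ring⟩
  have hb' : b ∣ x := (Int.pow_dvd_pow_iff (by norm_num)).1 hdvd
  obtain ⟨s, rfl⟩ := hb'
  refine ⟨s, ?_, rfl⟩
  have hb2 : b ^ 2 ≠ 0 := pow_ne_zero _ hb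
  have : b ^ 2 * s ^ 2 = b ^ 2 * u := by
    have : (b * s) ^ 2 = b ^ 2 * s ^ 2 := by ring
    rw [← this, h]; ring
  exact mul_left_cancel₀ hb2 this

/-- Integer version of the arithmetic core. -/
theorem arith_core_int {K N : ℤ} {h : ℕ} {u v x y : ℤ}
    (h1 : u + v = K) (h2 : u + N * v = K ^ 2)
    (h3 : x ^ 2 = u ^ (2 * h + 1)) (h4 : x + N * y = K ^ (2 * h + 1))
    (hKN' : IsCoprime K N) (hK1 : 1 ≤ K) (hKN : K + 1 ≤ N) :
    K = 1 ∨ K = N - 1 := by
  -- v (N - 1) = K (K - 1)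
  have hv : v * (N - 1) = K * (K - 1) := by
    have : u = K - v := by linarith
    rw [this] at h2
    nlinarith
  have hv0 : 0 ≤ v := by
    by_contra hneg
    push Not at hneg
    have : v * (N - 1) < 0 := mul_neg_of_neg_of_pos hneg (by linarith)
    nlinarith
  have hvK : v ≤ K - 1 := by
    by_contra hneg
    push Not at hneg
    have : K * (N - 1) ≤ v * (N - 1) := by
      apply mul_le_mul_of_nonneg_right (by linarith) (by linarith)
    nlinarith
  have hu1 : 1 ≤ u := by linarith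
  have huK : u ≤ K := by linarith
  -- u ≤ N - K
  have huNK : u ≤ N - K := by
    by_contra hneg
    push Not at hneg
    -- v < 2K - N
    have hv2 : v + 1 ≤ 2 * K - N := by linarith
    have : (v + 1) * (N - 1) ≤ (2 * K - N) * (N - 1) :=
      mul_le_mul_of_nonneg_right hv2 (by linarith)
    nlinarith [mul_nonneg (show (0 : ℤ) ≤ N - K - 1 by linarith) (show (0 : ℤ) ≤ N - K by linarith)]
  -- u is a square
  have hu0 : u ≠ 0 := by linarith
  have h3' : x ^ 2 = u * (u ^ h) ^ 2 := by rw [h3]; ring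
  obtain ⟨s, hs, hxs⟩ := exists_sq_of_sq_eq_mul_sq (pow_ne_zero h hu0) h3'
  -- coprimality of u and N
  have hcop : IsCoprime u N := by
    have : IsCoprime (K ^ 2) N := hKN'.pow_left
    have hu_eq : u = K ^ 2 + N * (-v) := by linarith
    rw [hu_eq]
    exact (IsCoprime.add_mul_left_left_iff).2 this
  have hcoph : IsCoprime (u ^ h) N := hcop.pow_left
  -- N ∣ u^h * (K - s)
  have hdvd : N ∣ u ^ h * (K - s) := by
    have hK2 : (K ^ 2) ≡ u [ZMOD N] := by
      have : K ^ 2 = u + N * v := by linarith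
      rw [this]
      exact (Int.modEq_iff_dvd.2 ⟨-v, by ring⟩)
    have hpow : (K ^ 2) ^ h ≡ u ^ h [ZMOD N] := hK2.pow h
    have hKm : K ^ (2 * h + 1) ≡ u ^ h * K [ZMOD N] := by
      have : K ^ (2 * h + 1) = (K ^ 2) ^ h * K := by ring
      rw [this]
      exact hpow.mul_right K
    have hx : K ^ (2 * h + 1) ≡ x [ZMOD N] := by
      rw [← h4]
      exact (Int.modEq_iff_dvd.2 ⟨-y, by ring⟩)
    have : u ^ h * K ≡ u ^ h * s [ZMOD N] := by
      rw [← hxs]
      exact hKm.symm.trans hx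
    have := (Int.modEq_iff_dvd.1 this.symm)
    have heq : u ^ h * K - u ^ h * s = u ^ h * (K - s) := by ring
    rwa [heq] at this
  have hdvd' : N ∣ K - s := (hcoph.symm).dvd_of_dvd_mul_left hdvd
  -- bounds on s
  have hsK : s ^ 2 ≤ K := by rw [hs]; exact huK
  have hsabs : -K ≤ s ∧ s ≤ K := by
    constructor <;> nlinarith [sq_nonneg (s - 1), sq_nonneg (s + 1)]
  obtain ⟨c, hc'⟩ := hdvd'
  have hNpos : 0 < N := by linarith
  rcases lt_trichotomy c 0 with hc0 | hc0 | hc0
  · exfalso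
    have : N * c ≤ N * (-1) := mul_le_mul_of_nonneg_left (by linarith) hNpos.le
    linarith [hsabs.1, hsabs.2]
  · -- K = s
    left
    have hKs : K = s := by rw [hc0] at hc'; linarith
    have : K ^ 2 ≤ K := by rw [hKs]; rw [hKs] at hsK; exact hsK
    nlinarith
  · right
    have h1c : N * 1 ≤ N * c := mul_le_mul_of_nonneg_left (by linarith) hNpos.le
    have hs_neg : s ≤ -(N - K) := by linarith
    have hNK0 : 0 ≤ N - K := by linarith
    have hsq : (N - K) ^ 2 ≤ s ^ 2 := by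
      have : (N - K) ^ 2 ≤ (-s) ^ 2 := pow_le_pow_left₀ hNK0 (by linarith) 2
      simpa using this
    have hle : (N - K) ^ 2 ≤ N - K := by rw [hs] at hsq; linarith
    have hNK1 : N - K ≤ 1 := by nlinarith
    linarith

/-- The arithmetic core: the parameters of a "symmetric design with an odd-order correlation"
with block size coprime to the number of points are trivial. -/
theorem arith_core {k n m : ℕ} {u v x y : ℤ}
    (h1 : u + v = k) (h2 : u + n * v = (k : ℤ) ^ 2)
    (h3 : x ^ 2 = u ^ m) (h4 : x + n * y = (k : ℤ) ^ m)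
    (hm : Odd m) (hc : Nat.Coprime k n) (hk1 : 1 ≤ k) (hkn : k ≤ n) (hn : 2 ≤ n) :
    k = 1 ∨ k = n - 1 := by
  obtain ⟨h, rfl⟩ := hm
  -- k ≠ n
  have hkn' : k ≠ n := by
    rintro rfl
    rw [Nat.coprime_self] at hc
    omega
  have hkn1 : k + 1 ≤ n := by omega
  have hK1 : (1 : ℤ) ≤ (k : ℤ) := by exact_mod_cast hk1
  have hKN : (k : ℤ) + 1 ≤ (n : ℤ) := by exact_mod_cast hkn1
  have hcop : IsCoprime (k : ℤ) (n : ℤ) := Nat.isCoprime_iff_coprime.2 hc
  rcases arith_core_int h1 h2 h3 h4 hcop hK1 hKN with h | h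
  · left; exact_mod_cast h
  · right; omega

end Cfsg.Agent.Helper6.OddAut
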