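import Mathlib

set_option autoImplicit false

namespace Cfsg.Agent.Helper6.OddAut

open Matrix

/-- The all-ones integer matrix. -/
def onesMat (Ω : Type*) : Matrix Ω Ω ℤ := Matrix.of fun _ _ => 1

@[simp] theorem onesMat_apply {Ω : Type*} (a b : Ω) : onesMat Ω a b = 1 := rfl

theorem onesMat_transpose {Ω : Type*} : (onesMat Ω)ᵀ = onesMat Ω := by
  ext a b; simp [Matrix.transpose_apply]

variable {Ω : Type*} [Fintype Ω]

theorem onesMat_mul_onesMat :
    onesMat Ω * onesMat Ω = (Fintype.card Ω : ℤ) • onesMat Ω := by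
  ext a b
  simp [Matrix.mul_apply]

theorem mul_onesMat_apply (A : Matrix Ω Ω ℤ) (a b : Ω) :
    (A * onesMat Ω) a b = ∑ c, A a c := by
  simp [Matrix.mul_apply]

theorem onesMat_mul_apply (A : Matrix Ω Ω ℤ) (a b : Ω) :
    (onesMat Ω * A) a b = ∑ c, A c b := by
  simp [Matrix.mul_apply]

variable [DecidableEq Ω]

/-- Matrix core: from `A J = k J`, `A Aᵀ = u I + v J`, `A^m = x I + y J`
we get `x^2 = u^m` and `x + n y = k^m`. -/
theorem mat_core (A : Matrix Ω Ω ℤ) {a b : Ω} (hab : a ≠ b) {k u v x y : ℤ} {m : ℕ}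
    (hAJ : A * onesMat Ω = k • onesMat Ω)
    (hAAt : A * Aᵀ = u • (1 : Matrix Ω Ω ℤ) + v • onesMat Ω)
    (hAm : A ^ m = x • (1 : Matrix Ω Ω ℤ) + y • onesMat Ω) :
    x ^ 2 = u ^ m ∧ x + (Fintype.card Ω : ℤ) * y = k ^ m := by
  have hJt := onesMat_transpose (Ω := Ω)
  have hJAt : onesMat Ω * Aᵀ = k • onesMat Ω := by
    have : (A * onesMat Ω)ᵀ = (k • onesMat Ω)ᵀ := by rw [hAJ]
    rw [Matrix.transpose_mul, Matrix.transpose_smul, hJt] at this
    exact this
  -- A^j (Aᵀ)^j = u^j I + c J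
  have hind : ∀ j : ℕ, ∃ c : ℤ, A ^ j * Aᵀ ^ j = (u ^ j) • (1 : Matrix Ω Ω ℤ) + c • onesMat Ω := by
    intro j
    induction j with
    | zero => exact ⟨0, by simp⟩
    | succ j ih =>
      obtain ⟨c, hc⟩ := ih
      refine ⟨u ^ j * v + c * k * k, ?_⟩
      have h1 : A ^ (j + 1) * Aᵀ ^ (j + 1) = A * (A ^ j * Aᵀ ^ j) * Aᵀ := by
        rw [pow_succ' A j, pow_succ Aᵀ j]
        simp only [Matrix.mul_assoc]
      rw [h1, hc]
      rw [Matrix.mul_add, Matrix.add_mul, Matrix.mul_smul, Matrix.smul_mul, Matrix.mul_one,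
        Matrix.mul_smul, Matrix.smul_mul, hAAt, hAJ, Matrix.smul_mul, hJAt]
      rw [pow_succ]
      module
  have hrow : ∀ j : ℕ, A ^ j * onesMat Ω = (k ^ j) • onesMat Ω := by
    intro j
    induction j with
    | zero => simp
    | succ j ih =>
      rw [pow_succ' A j, Matrix.mul_assoc, ih, Matrix.mul_smul, hAJ, pow_succ]
      module
  obtain ⟨c, hc⟩ := hind m
  have hAtm : Aᵀ ^ m = x • (1 : Matrix Ω Ω ℤ) + y • onesMat Ω := by
    rw [← Matrix.transpose_pow, hAm, Matrix.transpose_add, Matrix.transpose_smul,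
      Matrix.transpose_smul, Matrix.transpose_one, hJt]
  rw [hAm, hAtm] at hc
  have hexp : (x • (1 : Matrix Ω Ω ℤ) + y • onesMat Ω) * (x • (1 : Matrix Ω Ω ℤ) + y • onesMat Ω)
      = (x ^ 2) • (1 : Matrix Ω Ω ℤ) + (2 * x * y + y ^ 2 * (Fintype.card Ω : ℤ)) • onesMat Ω := by
    rw [Matrix.mul_add, Matrix.add_mul, Matrix.add_mul]
    simp only [Matrix.mul_smul, Matrix.smul_mul, Matrix.mul_one, Matrix.one_mul,
      onesMat_mul_onesMat]
    module
  rw [hexp] at hc
  have haa := congrFun (congrFun hc a) a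
  have hab' := congrFun (congrFun hc a) b
  simp only [Matrix.add_apply, Matrix.smul_apply, Matrix.one_apply_eq, Matrix.one_apply_ne hab,
    onesMat_apply, smul_eq_mul, mul_one, mul_zero, zero_add] at haa hab'
  constructor
  · linarith
  · have hr := hrow m
    rw [hAm, Matrix.add_mul, Matrix.smul_mul, Matrix.one_mul, Matrix.smul_mul,
      onesMat_mul_onesMat] at hr
    have := congrFun (congrFun hr a) a
    simp only [Matrix.add_apply, Matrix.smul_apply, onesMat_apply, smul_eq_mul, mul_one] at this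
    linarith

end Cfsg.Agent.Helper6.OddAut
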