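import Cfsg.Agent.Helper6.OddAutA
import Cfsg.Agent.Helper6.OddAutB

set_option autoImplicit false

namespace Cfsg.Agent.Helper6.OddAut

open Matrix

variable {G : Type*} [Group G] {Ω : Type*} [MulAction G Ω]

/-- `M` is invariant under the `φ`-twisted diagonal action. -/
def IsTw (φ : MulAut G) (M : Matrix Ω Ω ℤ) : Prop :=
  ∀ (g : G) (a b : Ω), M (φ g • a) (g • b) = M a b

theorem IsTw.transpose {φ : MulAut G} {M : Matrix Ω Ω ℤ} (h : IsTw φ M) :
    IsTw φ⁻¹ Mᵀ := by
  intro g a b
  rw [Matrix.transpose_apply, Matrix.transpose_apply]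
  have := h (φ⁻¹ g) b a
  rw [MulAut.apply_inv_self] at this
  exact this

theorem isTw_one [DecidableEq Ω] : IsTw (1 : MulAut G) (1 : Matrix Ω Ω ℤ) := by
  intro g a b
  show (1 : Matrix Ω Ω ℤ) (g • a) (g • b) = _
  by_cases hab : a = b
  · subst hab; simp
  · rw [Matrix.one_apply_ne hab, Matrix.one_apply_ne]
    intro h
    exact hab (MulAction.injective g h)

variable [Fintype Ω]

theorem IsTw.mul {φ ψ : MulAut G} {M M' : Matrix Ω Ω ℤ} (h : IsTw φ M) (h' : IsTw ψ M') :
    IsTw (φ * ψ) (M * M') := by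
  intro g a b
  rw [Matrix.mul_apply, Matrix.mul_apply, MulAut.mul_apply]
  rw [← Equiv.sum_comp (MulAction.toPerm (ψ g))]
  apply Finset.sum_congr rfl
  intro c _
  rw [MulAction.toPerm_apply, h (ψ g) a c, h' g c b]

theorem IsTw.pow [DecidableEq Ω] {φ : MulAut G} {M : Matrix Ω Ω ℤ} (h : IsTw φ M) (j : ℕ) :
    IsTw (φ ^ j) (M ^ j) := by
  induction j with
  | zero => simpa using isTw_one
  | succ j ih =>
    rw [pow_succ, pow_succ]
    exact ih.mul h

/-- A matrix invariant under a 2-transitive group is `x I + y J`. -/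
theorem IsTw.eq_of_two_trans [DecidableEq Ω] {M : Matrix Ω Ω ℤ} (h : IsTw (1 : MulAut G) M)
    (h2 : MulAction.IsMultiplyPretransitive G Ω 2) {a b : Ω} (hab : a ≠ b) :
    M = (M a a - M a b) • (1 : Matrix Ω Ω ℤ) + (M a b) • onesMat Ω := by
  haveI : MulAction.IsPretransitive G Ω := MulAction.isPretransitive_of_is_two_pretransitive
  rw [MulAction.is_two_pretransitive_iff] at h2
  ext c d
  simp only [Matrix.add_apply, Matrix.smul_apply, onesMat_apply, smul_eq_mul, mul_one]
  by_cases hcd : c = d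
  · subst hcd
    obtain ⟨g, hg⟩ := MulAction.exists_smul_eq G a c
    have := h g a a
    simp only [MulAut.one_apply, hg] at this
    rw [Matrix.one_apply_eq, this]; ring
  · obtain ⟨g, hg1, hg2⟩ := h2 hab hcd
    have := h g a b
    simp only [MulAut.one_apply, hg1, hg2] at this
    rw [Matrix.one_apply_ne hcd, this]; ring

/-- Row sums of a twisted-invariant matrix are constant (transitive action). -/
theorem IsTw.row_sum_eq [MulAction.IsPretransitive G Ω] {φ : MulAut G} {M : Matrix Ω Ω ℤ}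
    (h : IsTw φ M) (a a' : Ω) : ∑ c, M a c = ∑ c, M a' c := by
  obtain ⟨g', hg'⟩ := MulAction.exists_smul_eq G a a'
  have hg : φ (φ⁻¹ g') = g' := MulAut.apply_inv_self _ φ g'
  rw [← hg', ← hg]
  rw [← Equiv.sum_comp (MulAction.toPerm (φ⁻¹ g')) (fun c => M (φ (φ⁻¹ g') • a) c)]
  apply Finset.sum_congr rfl
  intro c _
  rw [MulAction.toPerm_apply, h]

end Cfsg.Agent.Helper6.OddAut
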