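import Cfsg.Agent.Helper6.OddAutC

set_option autoImplicit false

namespace Cfsg.Agent.Helper6.OddAut

open Matrix

variable {G : Type*} [Group G] {Ω : Type*} [MulAction G Ω]

/-- invariance of `Δ` under `α (stabilizer o)` as an iff -/
theorem mem_iff_of_inv {α : MulAut G} {o : Ω} {Δ : Finset Ω}
    (hΔ : ∀ h ∈ MulAction.stabilizer G o, ∀ a ∈ Δ, α h • a ∈ Δ)
    {h : G} (hh : h ∈ MulAction.stabilizer G o) (a : Ω) : α h • a ∈ Δ ↔ a ∈ Δ := by
  constructor
  · intro ha
    have := hΔ h⁻¹ (inv_mem hh) _ ha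
    rwa [map_inv, inv_smul_smul] at this
  · exact hΔ h hh a

variable [MulAction.IsPretransitive G Ω] [DecidableEq Ω]

/-- the incidence matrix of the "design" with blocks `α(g) Δ`, indexed by `g • o`. -/
noncomputable def incMat (α : MulAut G) (o : Ω) (Δ : Finset Ω) : Matrix Ω Ω ℤ :=
  Matrix.of fun a b =>
    if (α (Classical.choose (MulAction.exists_smul_eq G o b)))⁻¹ • a ∈ Δ then 1 else 0

theorem incMat_apply_of_smul_eq {α : MulAut G} {o : Ω} {Δ : Finset Ω}
    (hΔ : ∀ h ∈ MulAction.stabilizer G o, ∀ a ∈ Δ, α h • a ∈ Δ)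
    {g : G} {b : Ω} (hg : g • o = b) (a : Ω) :
    incMat α o Δ a b = if (α g)⁻¹ • a ∈ Δ then 1 else 0 := by
  unfold incMat
  rw [Matrix.of_apply]
  set g0 := Classical.choose (MulAction.exists_smul_eq G o b) with hg0def
  have hg0 : g0 • o = b := Classical.choose_spec (MulAction.exists_smul_eq G o b)
  have hh : g0⁻¹ * g ∈ MulAction.stabilizer G o := by
    rw [MulAction.mem_stabilizer_iff, mul_smul, hg, ← hg0, inv_smul_smul]
  have hiff : (α g0)⁻¹ • a ∈ Δ ↔ (α g)⁻¹ • a ∈ Δ := by
    rw [← mem_iff_of_inv hΔ hh ((α g)⁻¹ • a)]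
    rw [map_mul, map_inv, mul_smul, smul_inv_smul]
  simp only [hiff]

theorem incMat_isTw {α : MulAut G} {o : Ω} {Δ : Finset Ω}
    (hΔ : ∀ h ∈ MulAction.stabilizer G o, ∀ a ∈ Δ, α h • a ∈ Δ) :
    IsTw α (incMat α o Δ) := by
  intro g a b
  obtain ⟨g2, hg2⟩ := MulAction.exists_smul_eq G o b
  have h1 : (g * g2) • o = g • b := by rw [mul_smul, hg2]
  rw [incMat_apply_of_smul_eq hΔ h1, incMat_apply_of_smul_eq hΔ hg2]
  have : (α (g * g2))⁻¹ • α g • a = (α g2)⁻¹ • a := by
    rw [map_mul, _root_.mul_inv_rev, mul_smul, inv_smul_smul]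
  rw [this]

theorem incMat_mul_self {α : MulAut G} {o : Ω} {Δ : Finset Ω} (a b : Ω) :
    incMat α o Δ a b * incMat α o Δ a b = incMat α o Δ a b := by
  unfold incMat
  rw [Matrix.of_apply]
  split_ifs <;> simp

variable [Fintype Ω]

theorem incMat_col_sum {α : MulAut G} {o : Ω} {Δ : Finset Ω} (b : Ω) :
    ∑ a, incMat α o Δ a b = (Δ.card : ℤ) := by
  unfold incMat
  simp only [Matrix.of_apply]
  set g0 := Classical.choose (MulAction.exists_smul_eq G o b)
  have := Equiv.sum_comp (MulAction.toPerm (α g0)⁻¹) (fun a => if a ∈ Δ then (1 : ℤ) else 0)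
  simp only [MulAction.toPerm_apply] at this
  rw [this, Finset.sum_ite_mem, Finset.univ_inter]
  simp

/-- Main combinatorial theorem: a subset invariant under `α(G_o)` whose size is coprime to
`|Ω|` has size `1` or `|Ω| - 1`, when `G` is 2-transitive and `α` has odd order. -/
theorem card_eq_one_or (h2 : MulAction.IsMultiplyPretransitive G Ω 2) (o : Ω) (α : MulAut G)
    (hα : Odd (orderOf α)) (Δ : Finset Ω)
    (hΔ : ∀ h ∈ MulAction.stabilizer G o, ∀ a ∈ Δ, α h • a ∈ Δ)
    (hk : Nat.Coprime Δ.card (Fintype.card Ω)) (hn : 2 ≤ Fintype.card Ω) :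
    Δ.card = 1 ∨ Δ.card = Fintype.card Ω - 1 := by
  obtain ⟨a, b, hab⟩ := Fintype.one_lt_card_iff.1 (show 1 < Fintype.card Ω by omega)
  set A := incMat α o Δ with hAdef
  have hA : IsTw α A := incMat_isTw hΔ
  set k : ℤ := (Δ.card : ℤ) with hkdef
  set n : ℤ := (Fintype.card Ω : ℤ) with hndef
  have hcol : ∀ b, ∑ c, A c b = k := fun b => incMat_col_sum b
  -- row sums
  have hrow : ∀ a', ∑ c, A a' c = k := by
    intro a'
    have hconst : ∀ a'', ∑ c, A a'' c = ∑ c, A a' c := fun a'' => hA.row_sum_eq a'' a'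
    have htot : ∑ a'', ∑ c, A a'' c = n * ∑ c, A a' c := by
      rw [Finset.sum_congr rfl (fun a'' _ => hconst a'')]
      simp [hndef]
    have htot' : ∑ a'', ∑ c, A a'' c = n * k := by
      rw [Finset.sum_comm (f := fun a'' c => A a'' c),
        Finset.sum_congr rfl (fun c _ => hcol c)]
      simp [hndef]
    have hn0 : n ≠ 0 := by
      rw [hndef]; exact_mod_cast (by omega : Fintype.card Ω ≠ 0)
    have := htot.symm.trans htot'
    exact mul_left_cancel₀ hn0 this
  have hAJ : A * onesMat Ω = k • onesMat Ω := by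
    ext c d
    rw [mul_onesMat_apply, hrow]
    simp
  have hJA : onesMat Ω * A = k • onesMat Ω := by
    ext c d
    rw [onesMat_mul_apply, hcol]
    simp
  -- A Aᵀ
  have hAAtw : IsTw (1 : MulAut G) (A * Aᵀ) := by
    have := hA.mul hA.transpose
    rwa [mul_inv_cancel] at this
  have hAAt := hAAtw.eq_of_two_trans h2 hab
  set u := (A * Aᵀ) a a - (A * Aᵀ) a b with hu
  set v := (A * Aᵀ) a b with hv
  have h1 : u + v = k := by
    have : (A * Aᵀ) a a = k := by
      rw [Matrix.mul_apply]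
      simp only [Matrix.transpose_apply]
      rw [Finset.sum_congr rfl (fun c _ => incMat_mul_self a c)]
      exact hrow a
    rw [hu, this]; ring
  have hJt := onesMat_transpose (Ω := Ω)
  have h2' : u + n * v = k ^ 2 := by
    have hAtJ : Aᵀ * onesMat Ω = k • onesMat Ω := by
      have : (onesMat Ω * A)ᵀ = (k • onesMat Ω)ᵀ := by rw [hJA]
      rw [Matrix.transpose_mul, Matrix.transpose_smul, hJt] at this
      exact this
    have e1 : (A * Aᵀ) * onesMat Ω = (k * k) • onesMat Ω := by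
      rw [Matrix.mul_assoc, hAtJ, Matrix.mul_smul, hAJ, smul_smul]
    rw [hAAt, Matrix.add_mul, Matrix.smul_mul, Matrix.one_mul, Matrix.smul_mul,
      onesMat_mul_onesMat] at e1
    have := congrFun (congrFun e1 a) a
    simp only [Matrix.add_apply, Matrix.smul_apply, onesMat_apply, smul_eq_mul, mul_one] at this
    rw [hndef]; linarith
  -- A^m
  set m := orderOf α with hm
  have hAmtw : IsTw (1 : MulAut G) (A ^ m) := by
    have := hA.pow m
    rwa [hm, pow_orderOf_eq_one] at this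
  have hAm := hAmtw.eq_of_two_trans h2 hab
  obtain ⟨h3, h4⟩ := mat_core A hab hAJ hAAt hAm
  have hk1 : 1 ≤ Δ.card := by
    by_contra hneg
    have h0 : Δ.card = 0 := by omega
    rw [h0, Nat.coprime_zero_left] at hk
    omega
  exact arith_core (k := Δ.card) (n := Fintype.card Ω) h1 h2' h3 h4 hα hk hk1
    (Finset.card_le_univ Δ) hn

end Cfsg.Agent.Helper6.OddAut
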