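import Cfsg.Agent.Helper6.OddAutD

set_option autoImplicit false

namespace Cfsg.Agent.Helper6.OddAut

variable {G : Type*} [Group G] {Ω : Type*} [MulAction G Ω] [MulAction.IsPretransitive G Ω]

/-- If `α (G_o)` fixes a point then `α` is induced by a permutation of `Ω`. -/
theorem exists_perm_of_fixed [Finite Ω] (o : Ω) (α : MulAut G) (w : Ω)
    (hfix : ∀ h ∈ MulAction.stabilizer G o, α h • w = w) :
    ∃ σ : Equiv.Perm Ω, ∀ (g : G) (a : Ω), σ (g • a) = α g • σ a := by
  classical
  let rep : Ω → G := fun a => Classical.choose (MulAction.exists_smul_eq G o a)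
  have hrep : ∀ a, rep a • o = a := fun a => Classical.choose_spec (MulAction.exists_smul_eq G o a)
  let f : Ω → Ω := fun a => α (rep a) • w
  have hf : ∀ (g : G) (a : Ω), g • o = a → f a = α g • w := by
    intro g a hg
    have hh : (rep a)⁻¹ * g ∈ MulAction.stabilizer G o := by
      rw [MulAction.mem_stabilizer_iff, mul_smul, hg]
      exact inv_smul_eq_iff.2 (hrep a).symm
    have := hfix _ hh
    rw [map_mul, map_inv, mul_smul] at this
    show α (rep a) • w = α g • w
    exact (inv_smul_eq_iff.1 this).symm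
  have hfg : ∀ (g : G) (a : Ω), f (g • a) = α g • f a := by
    intro g a
    have h1 : (g * rep a) • o = g • a := by rw [mul_smul, hrep]
    rw [hf _ _ h1, map_mul, mul_smul]
  have hsurj : Function.Surjective f := by
    intro b
    obtain ⟨g', hg'⟩ := MulAction.exists_smul_eq G w b
    refine ⟨(α⁻¹ g') • o, ?_⟩
    rw [hf (α⁻¹ g') _ rfl, MulAut.apply_inv_self, hg']
  have hbij : Function.Bijective f := ⟨Finite.injective_iff_surjective.2 hsurj, hsurj⟩
  exact ⟨Equiv.ofBijective f hbij, fun g a => hfg g a⟩

end Cfsg.Agent.Helper6.OddAut
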