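import Cfsg.Agent.Helper6.OddAutE

set_option autoImplicit false

namespace Cfsg.Agent.Helper6.OddAut

/-- From a twisted-equivariant permutation we get the conjugation statement. -/
theorem conj_of_equivariant {Ω : Type*} (G : Subgroup (Equiv.Perm Ω)) (α : MulAut G)
    (σ : Equiv.Perm Ω) (hσ : ∀ (g : G) (a : Ω), σ (g • a) = α g • σ a) :
    σ ∈ Subgroup.normalizer (G : Set (Equiv.Perm Ω)) ∧
      ∀ g : G, ((α g : G) : Equiv.Perm Ω) = σ * (g : Equiv.Perm Ω) * σ⁻¹ := by
  have hconj : ∀ g : G, ((α g : G) : Equiv.Perm Ω) = σ * (g : Equiv.Perm Ω) * σ⁻¹ := by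
    intro g
    ext a
    have := hσ g (σ⁻¹ a)
    simp only [Equiv.Perm.coe_mul, Function.comp_apply]
    have h1 : σ ((g : Equiv.Perm Ω) (σ⁻¹ a)) = σ (g • (σ⁻¹ a)) := rfl
    have h3 : σ (σ⁻¹ a) = a := by simp
    rw [h1, this, h3]
    rfl
  refine ⟨?_, hconj⟩
  rw [Subgroup.mem_normalizer_iff]
  intro h
  constructor
  · intro hh
    have := hconj ⟨h, hh⟩
    simp only at this
    rw [← this]
    exact (α ⟨h, hh⟩).2
  · intro hh
    -- σ h σ⁻¹ = g' ∈ G, g' = α g'' = σ g'' σ⁻¹
    have := hconj (α⁻¹ ⟨σ * h * σ⁻¹, hh⟩)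
    rw [MulAut.apply_inv_self] at this
    simp only at this
    have h2 : h = ((α⁻¹ ⟨σ * h * σ⁻¹, hh⟩ : G) : Equiv.Perm Ω) := by
      have := congrArg (fun t => σ⁻¹ * t * σ) this
      simp only [mul_assoc, inv_mul_cancel_left, inv_mul_cancel, mul_one] at this
      exact this
    rw [h2]
    exact (α⁻¹ ⟨σ * h * σ⁻¹, hh⟩).2

/-- S4276: doubly transitive group, automorphism of odd order. -/
theorem odd_order_aut_permutational {Ω : Type*} [Fintype Ω] (G : Subgroup (Equiv.Perm Ω))
    (h2 : MulAction.IsMultiplyPretransitive G Ω 2) (o : Ω) (α : MulAut G)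
    (hα : Odd (orderOf α)) (ω : Ω)
    (hk : (Nat.card (MulAction.orbit ((MulAction.stabilizer G o).map α.toMonoidHom) ω)).Coprime
      (Fintype.card Ω)) :
    (∃ σ : Equiv.Perm Ω, σ ∈ Subgroup.normalizer (G : Set (Equiv.Perm Ω)) ∧
      ∀ g : G, ((α g : G) : Equiv.Perm Ω) = σ * (g : Equiv.Perm Ω) * σ⁻¹) ∧
    (Nat.card (MulAction.orbit ((MulAction.stabilizer G o).map α.toMonoidHom) ω) = 1 ∨
      Nat.card (MulAction.orbit ((MulAction.stabilizer G o).map α.toMonoidHom) ω)
        = Fintype.card Ω - 1) := by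
  classical
  set K := (MulAction.stabilizer G o).map α.toMonoidHom with hK
  by_cases hn : 2 ≤ Fintype.card Ω
  · haveI : MulAction.IsPretransitive G Ω := MulAction.isPretransitive_of_is_two_pretransitive
    set Δ : Finset Ω := Finset.univ.filter (fun a => a ∈ MulAction.orbit K ω) with hΔdef
    have hmemΔ : ∀ a, a ∈ Δ ↔ a ∈ MulAction.orbit K ω := by
      intro a; simp [hΔdef]
    have hcardΔ : Nat.card (MulAction.orbit K ω) = Δ.card := by
      rw [Nat.card_eq_fintype_card]
      exact Fintype.card_of_subtype Δ hmemΔ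
    have hαK : ∀ h ∈ MulAction.stabilizer G o, α h ∈ K := by
      intro h hh
      exact Subgroup.mem_map_of_mem _ hh
    have hΔ : ∀ h ∈ MulAction.stabilizer G o, ∀ a ∈ Δ, α h • a ∈ Δ := by
      intro h hh a ha
      rw [hmemΔ] at ha ⊢
      obtain ⟨κ, rfl⟩ := ha
      refine ⟨⟨α h, hαK h hh⟩ * κ, ?_⟩
      show (⟨α h, hαK h hh⟩ * κ) • ω = α h • (κ • ω)
      rw [mul_smul]; rfl
    rw [hcardΔ] at hk ⊢
    have hcard := card_eq_one_or h2 o α hα Δ hΔ hk hn
    refine ⟨?_, hcard⟩
    -- a fixed point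
    have hω : ω ∈ Δ := (hmemΔ ω).2 (MulAction.mem_orbit_self ω)
    have hfix : ∃ w : Ω, ∀ h ∈ MulAction.stabilizer G o, α h • w = w := by
      rcases hcard with h1 | h1
      · obtain ⟨w', hw'⟩ := Finset.card_eq_one.1 h1
        refine ⟨ω, fun h hh => ?_⟩
        have h3 := hΔ h hh ω hω
        rw [hw', Finset.mem_singleton] at h3 hω
        rw [h3, hω]
      · have hc : Δᶜ.card = 1 := by
          rw [Finset.card_compl, h1]; omega
        obtain ⟨w, hw⟩ := Finset.card_eq_one.1 hc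
        refine ⟨w, fun h hh => ?_⟩
        have hwc : w ∈ Δᶜ := by rw [hw]; exact Finset.mem_singleton_self w
        have : α h • w ∈ Δᶜ := by
          rw [Finset.mem_compl] at hwc ⊢
          intro hcon
          apply hwc
          have := hΔ h⁻¹ (inv_mem hh) _ hcon
          rwa [map_inv, inv_smul_smul] at this
        rw [hw, Finset.mem_singleton] at this
        exact this
    obtain ⟨w, hw⟩ := hfix
    obtain ⟨σ, hσ⟩ := exists_perm_of_fixed o α w hw
    exact ⟨σ, conj_of_equivariant G α σ hσ⟩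
  · -- Ω has exactly one element
    have hpos : 0 < Fintype.card Ω := Fintype.card_pos_iff.2 ⟨o⟩
    have h1 : Fintype.card Ω = 1 := by omega
    haveI : Subsingleton Ω := Fintype.card_le_one_iff_subsingleton.1 (by omega)
    refine ⟨⟨1, Subgroup.one_mem _, fun g => Subsingleton.elim _ _⟩, Or.inl ?_⟩
    haveI : Nonempty (MulAction.orbit K ω) := ⟨⟨ω, MulAction.mem_orbit_self ω⟩⟩
    haveI : Subsingleton (MulAction.orbit K ω) := inferInstance
    exact Nat.card_unique

end Cfsg.Agent.Helper6.OddAut
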