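import Cfsg.Agent.Helper6.OddAutF

set_option autoImplicit false

namespace Cfsg.Agent.Helper6.OddAut

/-- S4290: Hall point stabilizer. -/
theorem hall_stabilizer_odd_aut_permutational {Ω : Type*} [Fintype Ω]
    (G : Subgroup (Equiv.Perm Ω))
    (h2 : MulAction.IsMultiplyPretransitive G Ω 2) (o : Ω)
    (hHall : (Nat.card (MulAction.stabilizer G o)).Coprime (MulAction.stabilizer G o).index)
    (α : MulAut G) (hα : Odd (orderOf α)) :
    ∃ σ : Equiv.Perm Ω, σ ∈ Subgroup.normalizer (G : Set (Equiv.Perm Ω)) ∧
      ∀ g : G, ((α g : G) : Equiv.Perm Ω) = σ * (g : Equiv.Perm Ω) * σ⁻¹ := by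
  classical
  haveI : MulAction.IsPretransitive G Ω := MulAction.isPretransitive_of_is_two_pretransitive
  have hidx : (MulAction.stabilizer G o).index = Fintype.card Ω := by
    rw [MulAction.index_stabilizer_of_transitive G o, Nat.card_eq_fintype_card]
  set K := (MulAction.stabilizer G o).map α.toMonoidHom with hK
  have hcardK : Nat.card K = Nat.card (MulAction.stabilizer G o) :=
    Subgroup.card_map_of_injective α.injective
  have hdvd : Nat.card (MulAction.orbit K o) ∣ Nat.card K := by
    rw [Nat.card_coe_set_eq, ← MulAction.index_stabilizer K o]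
    exact Subgroup.index_dvd_card _
  have hk : (Nat.card (MulAction.orbit K o)).Coprime (Fintype.card Ω) := by
    rw [← hidx]
    rw [hcardK] at hdvd
    exact Nat.Coprime.coprime_dvd_left hdvd hHall
  exact (odd_order_aut_permutational G h2 o α hα o hk).1

end Cfsg.Agent.Helper6.OddAut
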