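import Mathlib
import Cfsg.Prelude.Def_Characters
import Cfsg.Agent.Helper6.NormalInd
import Cfsg.Agent.Helper6.SmallDegree

/-!
# `|G| ≡ k(G) mod 16` for groups of odd order
-/

set_option autoImplicit false
set_option linter.style.haveILetI false

namespace Cfsg.Agent.Helper6

open Module Representation
open scoped ComplexConjugate

universe u v

variable {G : Type u} [Group G]

theorem odd_sq_eq (d : ℕ) (hd : Odd d) : d ^ 2 = 8 * ((d ^ 2 - 1) / 8) + 1 := by
  obtain ⟨m, rfl⟩ := hd
  have h1 : (2 * m + 1) ^ 2 - 1 = 4 * (m * (m + 1)) := by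
    have : (2 * m + 1) ^ 2 = 4 * (m * (m + 1)) + 1 := by ring
    omega
  have h2 : 2 ∣ m * (m + 1) := (Nat.even_mul_succ_self m).two_dvd
  obtain ⟨t, ht⟩ := h2
  rw [h1, ht]
  have : 4 * (2 * t) / 8 = t := by omega
  rw [this]
  have : (2 * m + 1) ^ 2 = 4 * (m * (m + 1)) + 1 := by ring
  rw [this, ht]
  ring

/-- For a group of odd order, `|G| ≡ k(G) mod 16`. -/
theorem card_modEq_card_conjClasses_of_odd [Finite G] (hodd : Odd (Nat.card G)) :
    Nat.card G ≡ Nat.card (ConjClasses G) [MOD 16] := by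
  classical
  haveI := Fintype.ofFinite G
  haveI : Finite (Cfsg.IrrCharacter G) := irr_finite
  haveI : Fintype (Cfsg.IrrCharacter G) := Fintype.ofFinite _
  -- degrees
  have hdeg : ∀ χ : Cfsg.IrrCharacter G, ∃ d : ℕ, (χ : G → ℂ) 1 = d ∧ d ∣ Nat.card G ∧ 0 < d :=
    fun χ => IsIrrCharacter.degree_dvd_card χ.2
  choose d hd hddvd hdpos using hdeg
  have hdodd : ∀ χ, Odd (d χ) := fun χ => Odd.of_dvd_nat hodd (hddvd χ)
  have hsum : ∑ χ : Cfsg.IrrCharacter G, d χ ^ 2 = Nat.card G := by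
    have := sum_sq_degrees (G := G)
    simp_rw [hd] at this
    exact_mod_cast this
  -- the conjugation involution
  let σ : Cfsg.IrrCharacter G → Cfsg.IrrCharacter G := fun χ =>
    ⟨fun g => conj ((χ : G → ℂ) g), conj_isIrr χ.2⟩
  have hσσ : ∀ χ, σ (σ χ) = χ := by
    intro χ
    apply Subtype.ext
    ext g
    simp [σ]
  have hdσ : ∀ χ, d (σ χ) = d χ := by
    intro χ
    have h1 := hd (σ χ)
    have h2 : ((σ χ : Cfsg.IrrCharacter G) : G → ℂ) 1 = conj ((χ : G → ℂ) 1) := rfl
    rw [h2, hd χ, Complex.conj_natCast] at h1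
    exact_mod_cast h1.symm
  have hfix : ∀ χ, σ χ = χ → d χ = 1 := by
    intro χ hχ
    have hreal : ∀ g : G, ((χ : G → ℂ) g).im = 0 := by
      intro g
      have := congrArg (fun x : Cfsg.IrrCharacter G => (x : G → ℂ) g) hχ
      exact Complex.conj_eq_iff_im.mp this
    have h1 := eq_one_of_real_of_odd hodd χ hreal
    have h2 := hd χ
    rw [h1] at h2
    have h3 : (1 : ℂ) = (d χ : ℂ) := h2
    exact_mod_cast h3.symm
  -- the sum of the m's is even
  let m : Cfsg.IrrCharacter G → ℕ := fun χ => (d χ ^ 2 - 1) / 8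
  have hm : ∀ χ, d χ ^ 2 = 8 * m χ + 1 := fun χ => odd_sq_eq (d χ) (hdodd χ)
  have hmσ : ∀ χ, m (σ χ) = m χ := by
    intro χ
    simp only [m, hdσ]
  have heven : (∑ χ : Cfsg.IrrCharacter G, (m χ : ZMod 2)) = 0 := by
    apply Finset.sum_ninvolution σ
    · intro χ
      rw [hmσ]
      exact CharTwo.add_self_eq_zero _
    · intro χ hne hfixed
      apply hne
      have h1 := hfix χ hfixed
      simp only [m, h1]
      norm_num
    · intro χ
      exact Finset.mem_univ _
    · exact hσσ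
  have heven2 : 2 ∣ ∑ χ : Cfsg.IrrCharacter G, m χ := by
    rw [← ZMod.natCast_eq_zero_iff]
    push_cast
    exact heven
  obtain ⟨s, hs⟩ := heven2
  have hk : Fintype.card (Cfsg.IrrCharacter G) = Nat.card (ConjClasses G) := by
    rw [← Nat.card_eq_fintype_card, card_irr_eq_card_conjClasses]
  have htotal : Nat.card G = Nat.card (ConjClasses G) + 16 * s := by
    rw [← hsum, Finset.sum_congr rfl (fun χ _ => hm χ), Finset.sum_add_distrib, ← Finset.mul_sum,
      hs, Finset.sum_const, Finset.card_univ, hk]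
    simp
    ring
  rw [htotal]
  exact (Nat.ModEq.refl _).symm.trans (by
    unfold Nat.ModEq
    omega)

end Cfsg.Agent.Helper6
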