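import Mathlib
import Cfsg.Prelude.Def_Characters
import Cfsg.Agent.Helper6.Linear
import Cfsg.Agent.Helper6.IrrOver
import Cfsg.Agent.Helper6.IrrCount
import Cfsg.Agent.Helper6.Inflation
import Cfsg.Agent.Helper6.DefectZeroBlock
import Cfsg.Agent.Helper6.BlockPart
import Cfsg.Agent.Helper6.CopA
import Cfsg.Agent.Helper6.CoprimeExt
import Cfsg.Agent.Helper6.Gallagher
import Cfsg.Agent.Helper6.Codegree
import Cfsg.Agent.Helper6.OddReal
import Cfsg.Agent.Helper6.PrincipalPPrime
import Cfsg.Agent.Helper6.ClassInner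

/-!
# Groups with a normal `p`-complement and exactly one character of degree divisible by `p`:
the quotient by the complement is abelian
-/

set_option autoImplicit false
set_option linter.style.haveILetI false

namespace Cfsg.Agent.Helper6

universe u

variable {G : Type u} [Group G]

set_option maxHeartbeats 1600000 in
/-- If a non-nilpotent group `G` has a normal `p`-complement `N` and at most one irreducible
character of degree divisible by `p`, then `G ⧸ N` is abelian. -/
theorem quotient_comm_of_unique_degree [Finite G] (p : ℕ) [hp : Fact p.Prime]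
    (hnil : ¬ Group.IsNilpotent G) (N : Subgroup G) [hN : N.Normal]
    (hcop : (Nat.card N).Coprime p) (k : ℕ) (hidx : N.index = p ^ k)
    (hone : ∀ χ χ' : Cfsg.IrrCharacter G, p ∣ Cfsg.charDegree (χ : G → ℂ) →
      p ∣ Cfsg.charDegree (χ' : G → ℂ) → χ = χ') :
    ∀ a b : G ⧸ N, a * b = b * a := by
  classical
  haveI := Fintype.ofFinite G
  haveI : Fintype N := Fintype.ofFinite _
  rw [comm_iff_forall_irr_degree_one]
  intro ψ₀
  by_contra h1
  -- the degree of `ψ₀` is a positive power of `p`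
  have hdvd := charDegree_dvd_card ψ₀.2
  have hcardQ : Nat.card (G ⧸ N) = p ^ k := by
    rw [← hidx]
    rfl
  rw [hcardQ] at hdvd
  obtain ⟨i, -, hi⟩ := (Nat.dvd_prime_pow hp.out).mp hdvd
  have hi0 : i ≠ 0 := by
    intro h0
    apply h1
    have h3 := charDegree_cast_of_isCharacter (IsIrrCharacter.isCharacter ψ₀.2)
    rw [← h3, hi, h0, pow_zero, Nat.cast_one]
  have hpψ : p ∣ Cfsg.charDegree (ψ₀ : G ⧸ N → ℂ) := by
    rw [hi]
    exact dvd_pow_self p hi0
  -- the inflation
  obtain ⟨χ₀, hχ₀⟩ : ∃ χ₀ : Cfsg.IrrCharacter G,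
      (χ₀ : G → ℂ) = (ψ₀ : G ⧸ N → ℂ) ∘ QuotientGroup.mk :=
    ⟨⟨_, isIrrCharacter_inflate N ψ₀⟩, rfl⟩
  have hdeg₀ : Cfsg.charDegree (χ₀ : G → ℂ) = Cfsg.charDegree (ψ₀ : G ⧸ N → ℂ) := by
    rw [hχ₀]
    unfold Cfsg.charDegree
    simp
  have hpχ₀ : p ∣ Cfsg.charDegree (χ₀ : G → ℂ) := by rw [hdeg₀]; exact hpψ
  have hker₀ : ∀ n ∈ N, (χ₀ : G → ℂ) n = (χ₀ : G → ℂ) 1 := by
    intro n hn
    rw [hχ₀, Function.comp_apply, Function.comp_apply]
    have h2 : ((n : G) : G ⧸ N) = ((1 : G) : G ⧸ N) := by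
      rw [QuotientGroup.mk_one]
      exact (QuotientGroup.eq_one_iff n).mpr hn
    rw [h2]
  have hχ₀1 : (χ₀ : G → ℂ) 1 ≠ 0 := IsIrrCharacter.apply_one_ne_zero χ₀.2
  have hcop' : (Nat.card N).Coprime N.index := by
    rw [hidx]
    exact Nat.Coprime.pow_right k hcop
  -- every irreducible character of `N` is trivial
  have hall : ∀ θ : Cfsg.IrrCharacter N, (θ : N → ℂ) = fun _ => 1 := by
    intro θ
    by_cases hinv : ∀ (g : G) (n : N),
        (θ : N → ℂ) ⟨g * n * g⁻¹, hN.conj_mem (n : G) n.2 g⟩ = (θ : N → ℂ) n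
    · obtain ⟨E, hE, hEN⟩ := extends_of_coprime_card N (θ : N → ℂ) θ.2 hinv hcop'
      have hEN' : Cfsg.IsIrrCharacter N (fun n : N => E n) := by
        have : (fun n : N => E n) = (θ : N → ℂ) := funext hEN
        rw [this]
        exact θ.2
      have hgal := gallagher_irr N hE hEN' χ₀ hker₀
      have hdegm : Cfsg.charDegree ((χ₀ : G → ℂ) * E) =
          Cfsg.charDegree (χ₀ : G → ℂ) * Cfsg.charDegree E := by
        have h1 := charDegree_cast_of_isCharacter (IsIrrCharacter.isCharacter hgal)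
        have h2 := charDegree_cast_of_isCharacter (IsIrrCharacter.isCharacter χ₀.2)
        have h3 := charDegree_cast_of_isCharacter (IsIrrCharacter.isCharacter hE)
        have : ((Cfsg.charDegree ((χ₀ : G → ℂ) * E) : ℕ) : ℂ) =
            ((Cfsg.charDegree (χ₀ : G → ℂ) * Cfsg.charDegree E : ℕ) : ℂ) := by
          rw [h1, Nat.cast_mul, h2, h3, Pi.mul_apply]
        exact_mod_cast this
      have hpm : p ∣ Cfsg.charDegree ((χ₀ : G → ℂ) * E) := by
        rw [hdegm]
        exact Dvd.dvd.mul_right hpχ₀ _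
      have heq := hone ⟨_, hgal⟩ χ₀ hpm hpχ₀
      have heq' : (χ₀ : G → ℂ) * E = (χ₀ : G → ℂ) := congrArg Subtype.val heq
      funext n
      have h2 := congrFun heq' (n : G)
      rw [Pi.mul_apply, hker₀ n n.2, hEN n] at h2
      have h3 : (χ₀ : G → ℂ) 1 * (θ : N → ℂ) n = (χ₀ : G → ℂ) 1 * 1 := by rw [h2, mul_one]
      exact mul_left_cancel₀ hχ₀1 h3
    · exfalso
      apply hinv
      obtain ⟨χ, hne⟩ := exists_irr_over N θ
      by_cases hpχ : p ∣ Cfsg.charDegree (χ : G → ℂ)
      · have hχeq := hone χ χ₀ hpχ hpχ₀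
        rw [hχeq] at hne
        have hfun : (fun n : N => (χ₀ : G → ℂ) n) = (χ₀ : G → ℂ) 1 • (fun _ : N => (1 : ℂ)) := by
          funext n
          rw [Pi.smul_apply, smul_eq_mul, mul_one]
          exact hker₀ n n.2
        rw [hfun, classInner_smul_left] at hne
        have hθ1 : (θ : N → ℂ) = fun _ => 1 := by
          by_contra hcon
          apply hne
          rw [classInner_irr_ne isIrrCharacter_one θ.2 (fun h => hcon h.symm), mul_zero]
        intro g n
        rw [hθ1]
      · have hdeg : (Cfsg.charDegree (χ : G → ℂ)).Coprime N.index := by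
          rw [hidx]
          apply Nat.Coprime.pow_right
          exact ((Nat.Prime.coprime_iff_not_dvd hp.out).mpr hpχ).symm
        exact invariant_of_coprime_degree N (χ : G → ℂ) χ.2 hdeg (θ : N → ℂ) θ.2 hne
  -- hence `N` is trivial
  haveI : Finite (Cfsg.IrrCharacter N) := irr_finite
  haveI : Fintype (Cfsg.IrrCharacter N) := Fintype.ofFinite _
  have hsum := sum_sq_charDegree (G := N)
  have hsub : ∀ θ θ' : Cfsg.IrrCharacter N, θ = θ' := by
    intro θ θ'
    apply Subtype.ext
    rw [hall θ, hall θ']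
  have hcardN : Nat.card N = 1 := by
    rw [← hsum]
    have huniv : (Finset.univ : Finset (Cfsg.IrrCharacter N)) =
        {⟨fun _ => 1, isIrrCharacter_one⟩} := by
      ext θ
      simp only [Finset.mem_univ, Finset.mem_singleton, true_iff]
      exact hsub _ _
    rw [huniv, Finset.sum_singleton]
    show Cfsg.charDegree (fun _ : N => (1 : ℂ)) ^ 2 = 1
    rw [charDegree_one_fun, one_pow]
  -- so `G` is a `p`-group
  have hcardG : Nat.card G = p ^ k := by
    rw [← Subgroup.card_mul_index N, hcardN, one_mul, hidx]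
  apply hnil
  exact (IsPGroup.of_card hcardG).isNilpotent

end Cfsg.Agent.Helper6
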