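import Mathlib
import Cfsg.Prelude.Def_Characters
import Cfsg.Agent.Helper6.CopD
import Cfsg.Agent.Helper6.CenterDvd
import Cfsg.Agent.Helper6.Codegree

/-!
# Structure of a group with a normal `p`-complement and abelian Sylow `p`-subgroup
-/

set_option autoImplicit false
set_option linter.style.haveILetI false

namespace Cfsg.Agent.Helper6

universe u

variable {G : Type u} [Group G]

/-- the order of a Sylow `p`-subgroup when there is a normal `p`-complement of index `p ^ k` -/
theorem sylow_card_of_complement [Finite G] (p : ℕ) [hp : Fact p.Prime] (N : Subgroup G)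
    (hcop : (Nat.card N).Coprime p) (k : ℕ) (hidx : N.index = p ^ k) (P : Sylow p G) :
    Nat.card P = p ^ k ∧ (P : Subgroup G).index = Nat.card N := by
  obtain ⟨j, hj⟩ := IsPGroup.iff_card.mp P.2
  have h1 : Nat.card P * (P : Subgroup G).index = Nat.card N * p ^ k := by
    rw [Subgroup.card_mul_index, ← hidx, Subgroup.card_mul_index]
  have h2 : ((P : Subgroup G).index).Coprime p :=
    ((Nat.Prime.coprime_iff_not_dvd hp.out).mpr P.not_dvd_index).symm
  rw [hj] at h1
  have h3 : p ^ j ∣ p ^ k := by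
    have : p ^ j ∣ Nat.card N * p ^ k := Dvd.intro _ h1
    exact (Nat.Coprime.pow_left j hcop.symm).dvd_of_dvd_mul_left this
  have h4 : p ^ k ∣ p ^ j := by
    have : p ^ k ∣ p ^ j * (P : Subgroup G).index := Dvd.intro_left _ h1.symm
    exact (Nat.Coprime.pow_left k h2.symm).dvd_of_dvd_mul_right this
  have h5 : p ^ j = p ^ k := Nat.dvd_antisymm h3 h4
  refine ⟨by rw [hj, h5], ?_⟩
  rw [h5, mul_comm] at h1
  exact Nat.eq_of_mul_eq_mul_right (pow_pos hp.out.pos k) h1

/-- a Sylow `p`-subgroup complements a normal `p`-complement -/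
theorem sylow_isComplement' [Finite G] (p : ℕ) [hp : Fact p.Prime] (N : Subgroup G)
    (hcop : (Nat.card N).Coprime p) (k : ℕ) (hidx : N.index = p ^ k) (P : Sylow p G) :
    N ⊓ (P : Subgroup G) = ⊥ ∧ N ⊔ (P : Subgroup G) = ⊤ := by
  obtain ⟨hP, -⟩ := sylow_card_of_complement p N hcop k hidx P
  have h1 : Nat.card N * Nat.card (P : Subgroup G) = Nat.card G := by
    rw [hP, ← hidx, Subgroup.card_mul_index]
  have h2 : (Nat.card N).Coprime (Nat.card (P : Subgroup G)) := by
    rw [hP]
    exact Nat.Coprime.pow_right k hcop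
  have hc := Subgroup.isComplement'_of_coprime h1 h2
  exact ⟨hc.disjoint.eq_bot, hc.sup_eq_top⟩

/-- with `G ⧸ N` abelian, the Sylow `p`-subgroup is abelian -/
theorem sylow_comm_of_quotient_comm (N : Subgroup G) [hN : N.Normal] (P : Subgroup G)
    (hint : N ⊓ P = ⊥) (hab : ∀ a b : G ⧸ N, a * b = b * a) :
    ∀ a ∈ P, ∀ b ∈ P, a * b = b * a := by
  intro a ha b hb
  have h1 : ((a * b : G) : G ⧸ N) = ((b * a : G) : G ⧸ N) := by
    rw [QuotientGroup.mk_mul, QuotientGroup.mk_mul]
    exact hab _ _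
  have h2 : (b * a)⁻¹ * (a * b) ∈ N := QuotientGroup.eq.mp h1.symm
  have h3 : (b * a)⁻¹ * (a * b) ∈ P :=
    P.mul_mem (P.inv_mem (P.mul_mem hb ha)) (P.mul_mem ha hb)
  have h4 : (b * a)⁻¹ * (a * b) ∈ N ⊓ P := ⟨h2, h3⟩
  rw [hint, Subgroup.mem_bot] at h4
  have : a * b = (b * a) * ((b * a)⁻¹ * (a * b)) := by group
  rw [this, h4, mul_one]

/-- the normalizer of an abelian complement of a normal subgroup centralizes it -/
theorem normalizer_le_centralizer_of_comm (N : Subgroup G) [hN : N.Normal] (P : Subgroup G)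
    (hint : N ⊓ P = ⊥) (hsup : N ⊔ P = ⊤) (hab : ∀ a ∈ P, ∀ b ∈ P, a * b = b * a) :
    Subgroup.normalizer (P : Set G) ≤ Subgroup.centralizer (P : Set G) := by
  intro g hg
  have hgtop : g ∈ N ⊔ P := by rw [hsup]; exact Subgroup.mem_top g
  obtain ⟨n, hn, y, hy, rfl⟩ := Subgroup.mem_sup_of_normal_left.mp hgtop
  have hnnorm : n ∈ Subgroup.normalizer (P : Set G) := by
    have : n = (n * y) * y⁻¹ := by group
    rw [this]
    exact Subgroup.mul_mem _ hg (Subgroup.inv_mem _ (Subgroup.le_normalizer hy))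
  rw [Subgroup.mem_centralizer_iff]
  intro h hh
  have h1 := commute_of_mem_normalizer N P hint n hn hnnorm h hh
  have h2 := hab h hh y hy
  calc h * (n * y) = (h * n * h⁻¹) * (h * y) := by group
    _ = n * (y * h) := by rw [h1, h2]
    _ = n * y * h := by group

/-- the irreducible characters of a group with a central subgroup of index prime to `p` have
degree prime to `p` -/
theorem charDegree_coprime_of_central [Finite G] (p : ℕ) [hp : Fact p.Prime] (P : Subgroup G)
    (hPc : P ≤ Subgroup.center G) (hidx : (P.index).Coprime p) (η : Cfsg.IrrCharacter G) :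
    ¬ p ∣ Cfsg.charDegree (η : G → ℂ) := by
  obtain ⟨n, ρ, hirr, hρ⟩ := η.2
  haveI := hirr
  have h1 := finrank_dvd_index_center ρ
  rw [Module.finrank_fin_fun] at h1
  have h2 : (Subgroup.center G).index ∣ P.index := Subgroup.index_dvd_of_le hPc
  rw [← hρ, charDegree_rep]
  intro h3
  have h4 : p ∣ P.index := h3.trans (h1.trans h2)
  have h5 : p ∣ Nat.gcd P.index p := Nat.dvd_gcd h4 dvd_rfl
  rw [hidx] at h5
  exact hp.out.one_lt.ne' (Nat.dvd_one.mp h5)

end Cfsg.Agent.Helper6
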