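import Mathlib
import Cfsg.Prelude.Def_Characters
import Cfsg.Agent.Helper6.LandauA

/-!
# Conjugacy classes of size prime to `p` when the normalizer of a Sylow `p`-subgroup centralizes it
-/

set_option autoImplicit false
set_option linter.style.haveILetI false

namespace Cfsg.Agent.Helper6

universe u

variable {G : Type u} [Group G]

/-- the conjugation action of a subgroup on a conjugacy class -/
@[instance_reducible]
def conjActOnClass (P : Subgroup G) (C : ConjClasses G) : MulAction P C.carrier where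
  smul y c := ⟨(y : G) * c * (y : G)⁻¹, by
    have h := ConjClasses.mem_carrier_iff_mk_eq.mp c.2
    rw [ConjClasses.mem_carrier_iff_mk_eq]
    refine Eq.trans ?_ h
    exact ConjClasses.mk_eq_mk_iff_isConj.mpr (isConj_iff.mpr ⟨(y : G)⁻¹, by group⟩)⟩
  one_smul c := by
    apply Subtype.ext
    show ((1 : P) : G) * c * ((1 : P) : G)⁻¹ = c
    simp
  mul_smul a b c := by
    apply Subtype.ext
    show ((a * b : P) : G) * c * ((a * b : P) : G)⁻¹ =
      (a : G) * ((b : G) * c * (b : G)⁻¹) * (a : G)⁻¹
    rw [Subgroup.coe_mul]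
    group

/-- the size of a conjugacy class is the index of the centralizer -/
theorem card_carrier_eq_index [Finite G] (g : G) :
    Nat.card (ConjClasses.mk g).carrier = (Subgroup.centralizer ({g} : Set G)).index := by
  have h1 := ncard_carrier_mk g
  have h2 := Subgroup.card_mul_index (Subgroup.centralizer ({g} : Set G))
  rw [Nat.card_coe_set_eq]
  rw [mul_comm] at h2
  exact Nat.eq_of_mul_eq_mul_right Nat.card_pos (h1.trans h2.symm)

set_option maxHeartbeats 1600000 in
/-- When the normalizer of a Sylow `p`-subgroup `P` centralizes `P`, the conjugacy classes of `G`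
of size prime to `p` correspond to the conjugacy classes of the normalizer. -/
theorem card_classes_not_dvd [Finite G] (p : ℕ) [hp : Fact p.Prime] (P : Sylow p G)
    (hNC : Subgroup.normalizer ((P : Subgroup G) : Set G) ≤
      Subgroup.centralizer ((P : Subgroup G) : Set G)) :
    Nat.card {C : ConjClasses G // ¬ p ∣ Nat.card C.carrier} =
      Nat.card (ConjClasses ↥(Subgroup.normalizer ((P : Subgroup G) : Set G))) := by
  classical
  set H₁ := Subgroup.normalizer ((P : Subgroup G) : Set G) with hH₁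
  have hcent : ∀ h : H₁, ∀ y ∈ (P : Subgroup G), y * (h : G) = (h : G) * y := by
    intro h y hy
    exact Subgroup.mem_centralizer_iff.mp (hNC h.2) y hy
  have hmem : ∀ c : ConjClasses H₁, ¬ p ∣ Nat.card (ConjClasses.map H₁.subtype c).carrier := by
    intro c
    obtain ⟨h, rfl⟩ := ConjClasses.mk_surjective c
    show ¬ p ∣ Nat.card (ConjClasses.mk (h : G)).carrier
    rw [card_carrier_eq_index]
    have hle : (P : Subgroup G) ≤ Subgroup.centralizer ({(h : G)} : Set G) := by
      intro y hy
      rw [Subgroup.mem_centralizer_iff]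
      intro z hz
      rw [Set.mem_singleton_iff] at hz
      rw [hz]
      exact (hcent h y hy).symm
    intro hdvd
    exact P.not_dvd_index (hdvd.trans (Subgroup.index_dvd_of_le hle))
  symm
  apply Nat.card_congr
  refine Equiv.ofBijective (fun c => ⟨ConjClasses.map H₁.subtype c, hmem c⟩) ⟨?_, ?_⟩
  · intro c c' hcc
    obtain ⟨h, rfl⟩ := ConjClasses.mk_surjective c
    obtain ⟨h', rfl⟩ := ConjClasses.mk_surjective c'
    have h1 : ConjClasses.mk (h : G) = ConjClasses.mk (h' : G) := congrArg Subtype.val hcc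
    rw [ConjClasses.mk_eq_mk_iff_isConj, isConj_iff] at h1
    obtain ⟨x, hx⟩ := h1
    have hhc : (h : G) ∈ Subgroup.centralizer ((P : Subgroup G) : Set G) := hNC h.2
    have hh'c : x⁻¹⁻¹ * (h : G) * x⁻¹ ∈ Subgroup.centralizer ((P : Subgroup G) : Set G) := by
      rw [inv_inv, hx]
      exact hNC h'.2
    obtain ⟨n, hn, hn2⟩ := Sylow.conj_eq_normalizer_conj_of_mem_centralizer P (h : G) x⁻¹ hhc hh'c
    rw [inv_inv, hx] at hn2
    rw [ConjClasses.mk_eq_mk_iff_isConj, isConj_iff]
    refine ⟨⟨n⁻¹, Subgroup.inv_mem _ hn⟩, ?_⟩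
    apply Subtype.ext
    show n⁻¹ * (h : G) * n⁻¹⁻¹ = (h' : G)
    rw [inv_inv, hn2]
  · rintro ⟨C, hC⟩
    letI := conjActOnClass (P : Subgroup G) C
    obtain ⟨c₀, hc₀⟩ := IsPGroup.nonempty_fixed_point_of_prime_not_dvd_card P.2 C.carrier hC
    have hc₀c : (c₀ : G) ∈ Subgroup.centralizer ((P : Subgroup G) : Set G) := by
      rw [Subgroup.mem_centralizer_iff]
      intro y hy
      have h1 := hc₀ ⟨y, hy⟩
      have h2 : y * (c₀ : G) * y⁻¹ = c₀ := congrArg Subtype.val h1
      calc y * (c₀ : G) = (y * (c₀ : G) * y⁻¹) * y := by group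
        _ = (c₀ : G) * y := by rw [h2]
    have hc₀n : (c₀ : G) ∈ H₁ := by
      rw [hH₁, Subgroup.mem_normalizer_iff]
      intro y
      have hcomm : ∀ z ∈ (P : Subgroup G), (c₀ : G) * z * (c₀ : G)⁻¹ = z := by
        intro z hz
        have := Subgroup.mem_centralizer_iff.mp hc₀c z hz
        rw [← this]
        group
      constructor
      · intro hy
        rw [hcomm y hy]
        exact hy
      · intro hy
        have h3 : y = (c₀ : G)⁻¹ * ((c₀ : G) * y * (c₀ : G)⁻¹) * (c₀ : G) := by group
        have h4 := hcomm _ hy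
        have h5 : (c₀ : G) * y * (c₀ : G)⁻¹ = (c₀ : G)⁻¹ * ((c₀ : G) * ((c₀ : G) * y * (c₀ : G)⁻¹) *
            (c₀ : G)⁻¹) * (c₀ : G) := by group
        rw [h4] at h5
        have h6 : (c₀ : G)⁻¹ * ((c₀ : G) * y * (c₀ : G)⁻¹) * (c₀ : G) = y := by group
        rw [← h6, ← h5]
        exact hy
    refine ⟨ConjClasses.mk ⟨c₀, hc₀n⟩, ?_⟩
    apply Subtype.ext
    show ConjClasses.mk (c₀ : G) = C
    exact ConjClasses.mem_carrier_iff_mk_eq.mp c₀.2

end Cfsg.Agent.Helper6
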