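import Mathlib
import Cfsg.Prelude.Def_Characters
import Cfsg.Agent.Helper6.OneDegA
import Cfsg.Agent.Helper6.OneDegB
import Cfsg.Agent.Helper6.OneDegC
import Cfsg.Agent.Helper6.IrrCount
import Cfsg.Agent.S4452

/-!
# One character of degree divisible by `p` and one class of size divisible by `p`
-/

set_option autoImplicit false
set_option linter.style.haveILetI false

namespace Cfsg.Agent.Helper6

universe u

variable {G : Type u} [Group G]

/-- the cardinality of a finite type splits along a predicate -/
theorem card_eq_card_subtype_add {α : Type*} [Finite α] (Q : α → Prop) :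
    Nat.card α = Nat.card {a : α // Q a} + Nat.card {a : α // ¬ Q a} := by
  classical
  rw [← Nat.card_sum]
  exact Nat.card_congr (Equiv.sumCompl Q).symm

set_option maxHeartbeats 1600000 in
/-- A non-nilpotent finite group with a normal `p`-complement and exactly one irreducible
character of degree divisible by `p` has exactly one conjugacy class of size divisible by `p`. -/
theorem unique_class_of_unique_degree [Finite G] (p : ℕ) [hp : Fact p.Prime]
    (hnil : ¬ Group.IsNilpotent G) (N : Subgroup G) [hN : N.Normal]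
    (hcop : (Nat.card N).Coprime p) (hidx : ∃ k : ℕ, N.index = p ^ k)
    (hone : Nat.card {χ : Cfsg.IrrCharacter G // p ∣ Cfsg.charDegree (χ : G → ℂ)} = 1) :
    Nat.card {C : ConjClasses G // p ∣ Nat.card C.carrier} = 1 := by
  classical
  obtain ⟨k, hk⟩ := hidx
  haveI : Finite (Cfsg.IrrCharacter G) := irr_finite
  obtain ⟨hsub, hne⟩ := Nat.card_eq_one_iff_unique.mp hone
  have huniq : ∀ χ χ' : Cfsg.IrrCharacter G, p ∣ Cfsg.charDegree (χ : G → ℂ) →
      p ∣ Cfsg.charDegree (χ' : G → ℂ) → χ = χ' := by
    intro χ χ' h h'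
    have := hsub.elim ⟨χ, h⟩ ⟨χ', h'⟩
    exact congrArg Subtype.val this
  have hab := quotient_comm_of_unique_degree p hnil N hcop k hk huniq
  have hk0 : k ≠ 0 := by
    intro h0
    obtain ⟨⟨χ, hχ⟩⟩ := hne
    have h1 := charDegree_dvd_card χ.2
    rw [← Subgroup.card_mul_index N, hk, h0, pow_zero, mul_one] at h1
    have h2 : p ∣ Nat.gcd (Nat.card N) p := Nat.dvd_gcd (hχ.trans h1) dvd_rfl
    rw [hcop] at h2
    exact hp.out.one_lt.ne' (Nat.dvd_one.mp h2)
  obtain ⟨P⟩ : Nonempty (Sylow p G) := inferInstance
  obtain ⟨hint, hsup⟩ := sylow_isComplement' p N hcop k hk P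
  obtain ⟨hPcard, hPidx⟩ := sylow_card_of_complement p N hcop k hk P
  have hPab := sylow_comm_of_quotient_comm N (P : Subgroup G) hint hab
  have hNC := normalizer_le_centralizer_of_comm N (P : Subgroup G) hint hsup hPab
  have hcopNP : (Nat.card N).Coprime (Nat.card (P : Subgroup G)) := by
    rw [hPcard]
    exact Nat.Coprime.pow_right k hcop
  have hsolv : Group.IsSolvable (P : Subgroup G) := by
    haveI := (P.2).isNilpotent
    infer_instance
  have h52 := Cfsg.Agent.S4452.result N (P : Subgroup G) hsup hcopNP hsolv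
  -- coprimality to `|P|` is non-divisibility by `p`
  have hiff : ∀ d : ℕ, d.Coprime (Nat.card (P : Subgroup G)) ↔ ¬ p ∣ d := by
    intro d
    rw [hPcard, Nat.coprime_pow_right_iff (Nat.pos_of_ne_zero hk0), Nat.coprime_comm,
      Nat.Prime.coprime_iff_not_dvd hp.out]
  -- the characters of the normalizer
  have hη : ∀ η : Cfsg.IrrCharacter ↥(Subgroup.normalizer ((P : Subgroup G) : Set G)),
      (Cfsg.charDegree (η : ↥(Subgroup.normalizer ((P : Subgroup G) : Set G)) → ℂ)).Coprime
        (Nat.card (P : Subgroup G)) := by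
    intro η
    rw [hiff]
    apply charDegree_coprime_of_central p
      ((P : Subgroup G).subgroupOf (Subgroup.normalizer ((P : Subgroup G) : Set G)))
    · intro x hx
      rw [Subgroup.mem_center_iff]
      intro y
      apply Subtype.ext
      rw [Subgroup.coe_mul, Subgroup.coe_mul]
      exact (Subgroup.mem_centralizer_iff.mp (hNC y.2) (x : G)
        (Subgroup.mem_subgroupOf.mp hx)).symm
    · show ((P : Subgroup G).relIndex (Subgroup.normalizer ((P : Subgroup G) : Set G))).Coprime p
      have h1 : (P : Subgroup G).relIndex (Subgroup.normalizer ((P : Subgroup G) : Set G)) ∣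
          (P : Subgroup G).index := Subgroup.relIndex_dvd_index_of_le Subgroup.le_normalizer
      rw [hPidx] at h1
      exact Nat.Coprime.coprime_dvd_left h1 hcop
  have hR : Nat.card {η : Cfsg.IrrCharacter ↥(Subgroup.normalizer ((P : Subgroup G) : Set G)) //
      (Cfsg.charDegree (η : ↥(Subgroup.normalizer ((P : Subgroup G) : Set G)) → ℂ)).Coprime
        (Nat.card (P : Subgroup G))} =
      Nat.card (ConjClasses ↥(Subgroup.normalizer ((P : Subgroup G) : Set G))) := by
    rw [← card_irr_eq_card_conjClasses]
    exact Nat.card_congr (Equiv.subtypeUnivEquiv hη)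
  have hL : Nat.card {χ : Cfsg.IrrCharacter G //
      (Cfsg.charDegree (χ : G → ℂ)).Coprime (Nat.card (P : Subgroup G))} =
      Nat.card {χ : Cfsg.IrrCharacter G // ¬ p ∣ Cfsg.charDegree (χ : G → ℂ)} :=
    Nat.card_congr (Equiv.subtypeEquivRight (fun χ => hiff _))
  have hcls := card_classes_not_dvd p P hNC
  have e1 := card_eq_card_subtype_add
    (fun χ : Cfsg.IrrCharacter G => p ∣ Cfsg.charDegree (χ : G → ℂ))
  have e2 := card_eq_card_subtype_add (fun C : ConjClasses G => p ∣ Nat.card C.carrier)
  have e3 := card_irr_eq_card_conjClasses (G := G)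
  rw [hL, hR] at h52
  omega

end Cfsg.Agent.Helper6
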