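import Mathlib
import Cfsg.Prelude.Def_Characters
import Cfsg.Prelude.Def_Blocks
import Cfsg.Agent.Helper6.SecondMainC
import Cfsg.Agent.Helper6.OsimaSupport
import Cfsg.Agent.Helper6.IndFun
import Cfsg.Agent.Helper6.Clifford
import Cfsg.Agent.Helper6.Induced
import Cfsg.Agent.Helper6.PowCongr
import Cfsg.Agent.Helper6.BlockCover4
import Cfsg.Agent.Helper6.InducedPart
import Cfsg.Agent.Helper6.BlockPart

/-!
# Characters of a block lying over a character of a normal subgroup

If `x` is a `p`-element outside the normal subgroup `N`, the block part of an induced class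
function `Ind_N^G θ` vanishes at `x`.  Consequently `∑ χ(1)²` over the characters `χ` of a block
lying over `θ` is divisible by `p`.
-/

set_option autoImplicit false
set_option linter.style.haveILetI false

namespace Cfsg.Agent.Helper6

open scoped ComplexConjugate

universe u

variable {G : Type u} [Group G] {M : Ideal Cfsg.AlgInt}

theorem memLocalIdeal_sub_of_pow_pow (hM : M.IsMaximal) (p : ℕ) (hp : p.Prime)
    (hpM : (p : Cfsg.AlgInt) ∈ M) (k : ℕ) : ∀ {x y : ℂ}, IsIntegral ℤ x → IsIntegral ℤ y →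
    Cfsg.MemLocalIdeal M (x ^ (p ^ k) - y ^ (p ^ k)) → Cfsg.MemLocalIdeal M (x - y) := by
  induction k with
  | zero =>
    intro x y _ _ h
    simpa using h
  | succ k ih =>
    intro x y hx hy h
    apply ih hx hy
    apply memLocalIdeal_sub_of_pow hM p hp hpM (hx.pow _) (hy.pow _)
    rw [← pow_mul, ← pow_mul, ← pow_succ]
    exact h

/-- The value of a character at a `p`-element is congruent to its degree. -/
theorem char_pElement_sub_one_memLocalIdeal [Finite G] {p : ℕ} [hp : Fact p.Prime]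
    (hM : Cfsg.IsPModular p M) {χ : G → ℂ} (hχ : Cfsg.IsCharacter G χ) (x : G)
    (hx : ∃ k : ℕ, orderOf x = p ^ k) : Cfsg.MemLocalIdeal M (χ x - χ 1) := by
  obtain ⟨k, hk⟩ := hx
  have hxk : x ^ (p ^ k) = 1 := by rw [← hk]; exact pow_orderOf_eq_one x
  obtain ⟨γ, hγ⟩ := char_pow_sub_pow p hχ x 1 (Commute.one_right x) ⟨k, hk⟩
    (by rw [orderOf_one]; exact hp.out.one_lt.ne' ∘ Nat.dvd_one.mp) k hxk
  rw [mul_one] at hγ
  apply memLocalIdeal_sub_of_pow_pow hM.2.1 p hp.out hM.2.2 k
    (IsCharacter.isIntegral_value hχ _) (IsCharacter.isIntegral_value hχ _)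
  rw [hγ, mul_comm]
  exact MemLocalIdeal.mul_left hM.2.1 (memLocalRing_of_isIntegral hM.2.1
    ((mem_integralClosure_iff ℤ ℂ).mp γ.2)) (memLocalIdeal_prime hM)

/-- A function induced from a normal subgroup vanishes outside it. -/
theorem indFun_eq_zero_of_not_mem [Fintype G] (N : Subgroup G) [hN : N.Normal] (θ : N → ℂ)
    (g : G) (hg : g ∉ N) : Cfsg.indFun N θ g = 0 := by
  rw [indFun_apply]
  have : ∀ x : G, Cfsg.extendByZero N θ (x⁻¹ * g * x) = 0 := by
    intro x
    apply extendByZero_not_mem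
    intro h
    apply hg
    have := hN.conj_mem _ h x
    have e : x * (x⁻¹ * g * x) * x⁻¹ = g := by group
    rwa [e] at this
  rw [Finset.sum_eq_zero (fun x _ => this x), mul_zero]

/-- The block part of a function induced from a normal subgroup vanishes at `p`-elements
outside the subgroup. -/
theorem blockPart_indFun_eq_zero [Fintype G] {p : ℕ} [hp : Fact p.Prime]
    (hM : Cfsg.IsPModular p M) (B : Set (Cfsg.IrrCharacter G)) (hB : Cfsg.IsPBlock M B)
    (N : Subgroup G) [hN : N.Normal] (θ : N → ℂ) (x : G) (hx : ∃ k : ℕ, orderOf x = p ^ k)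
    (hxN : x ∉ N) : Cfsg.blockPart B (Cfsg.indFun N θ) x = 0 := by
  rw [blockPart_eq_sum_translate B _ (indFun_isClassFunction N θ) x]
  apply Finset.sum_eq_zero
  intro k _
  by_cases hk : p ∣ orderOf k
  · rw [blockCoeff_eq_zero_of_singular hM.2.1 p hM.2.2 B hB k hk, zero_mul]
  · rw [indFun_eq_zero_of_not_mem N θ, mul_zero]
    intro hkx
    apply hxN
    obtain ⟨j, hj⟩ := hx
    -- the image of `x` in `G ⧸ N` has order dividing both `p ^ j` and `orderOf k`
    have h1 : (QuotientGroup.mk' N) k * (QuotientGroup.mk' N) x = 1 := by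
      rw [← map_mul]
      exact (QuotientGroup.eq_one_iff _).mpr hkx
    have h2 : (QuotientGroup.mk' N) x = ((QuotientGroup.mk' N) k)⁻¹ :=
      (eq_inv_of_mul_eq_one_right h1)
    have h3 : ((QuotientGroup.mk' N) x) ^ (orderOf k) = 1 := by
      rw [h2, inv_pow, ← map_pow, pow_orderOf_eq_one, map_one, inv_one]
    have h4 : ((QuotientGroup.mk' N) x) ^ (p ^ j) = 1 := by
      rw [← map_pow, ← hj, pow_orderOf_eq_one, map_one]
    have hd1 := orderOf_dvd_of_pow_eq_one h3
    have hd2 := orderOf_dvd_of_pow_eq_one h4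
    have hcop : (p ^ j).Coprime (orderOf k) :=
      Nat.Coprime.pow_left _ ((Nat.Prime.coprime_iff_not_dvd hp.out).mpr hk)
    have h5 : orderOf ((QuotientGroup.mk' N) x) = 1 := Nat.eq_one_of_dvd_coprimes hcop hd2 hd1
    have h6 : (QuotientGroup.mk' N) x = 1 := orderOf_eq_one_iff.mp h5
    exact (QuotientGroup.eq_one_iff _).mp h6

/-- The key vanishing relation in terms of multiplicities. -/
theorem finsum_mult_mul_eq_zero [Fintype G] {p : ℕ} [hp : Fact p.Prime]
    (hM : Cfsg.IsPModular p M) (B : Set (Cfsg.IrrCharacter G)) (hB : Cfsg.IsPBlock M B)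
    (N : Subgroup G) [hN : N.Normal] [Fintype N] (θ : N → ℂ) (x : G)
    (hx : ∃ k : ℕ, orderOf x = p ^ k) (hxN : x ∉ N) :
    ∑ᶠ χ ∈ B, Cfsg.classInner θ (fun n : N => (χ : G → ℂ) n) * (χ : G → ℂ) x = 0 := by
  have h := blockPart_indFun_eq_zero hM B hB N θ x hx hxN
  rw [blockPart_apply] at h
  rw [← h]
  apply finsum_congr
  intro χ
  apply finsum_congr
  intro _
  rw [frobenius_reciprocity N θ (χ : G → ℂ)
    (IsCharacter.isClassFunction (IsIrrCharacter.isCharacter χ.2))]

end Cfsg.Agent.Helper6
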