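import Mathlib
import Cfsg.Prelude.Def_Characters
import Cfsg.Prelude.Def_Blocks
import Cfsg.Agent.Helper6.OverThetaA

/-!
# Counting characters of `p'`-degree of a block over a character of a normal subgroup
-/

set_option autoImplicit false
set_option linter.style.haveILetI false

namespace Cfsg.Agent.Helper6

open scoped ComplexConjugate

universe u

variable {G : Type u} [Group G] {M : Ideal Cfsg.AlgInt}

/-- Clifford: the degree of a character over `θ` is its multiplicity times a constant. -/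
theorem exists_degree_factor [Fintype G] (N : Subgroup G) [hN : N.Normal] [Fintype N]
    (θ : Cfsg.IrrCharacter N) :
    ∃ c₀ : ℂ, ∀ χ : Cfsg.IrrCharacter G,
      Cfsg.classInner (fun n : N => (χ : G → ℂ) n) (θ : N → ℂ) ≠ 0 →
      (χ : G → ℂ) 1 = Cfsg.classInner (fun n : N => (χ : G → ℂ) n) (θ : N → ℂ) * c₀ := by
  refine ⟨(∑ᶠ ψ ∈ {ψ : N → ℂ | ∃ g : G, ψ = conjFun N (θ : N → ℂ) g}, ψ) 1, ?_⟩
  intro χ hχ
  have h := clifford N (χ : G → ℂ) χ.2 (θ : N → ℂ) θ.2 hχ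
  have h1 := congrFun h 1
  simp only [Pi.smul_apply, smul_eq_mul] at h1
  exact h1

/-- **Main congruence**: the sum of the squares of the degrees of the characters of `B` lying
over `θ` is divisible by `p`, as soon as some `p`-element lies outside `N`. -/
theorem dvd_sum_sq_degree_over [Fintype G] {p : ℕ} [hp : Fact p.Prime]
    (hM : Cfsg.IsPModular p M) (B : Set (Cfsg.IrrCharacter G)) (hB : Cfsg.IsPBlock M B)
    (N : Subgroup G) [hN : N.Normal] [Fintype N] (θ : Cfsg.IrrCharacter N) (x : G)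
    (hx : ∃ k : ℕ, orderOf x = p ^ k) (hxN : x ∉ N) [Fintype (Cfsg.IrrCharacter G)]
    [DecidablePred (fun χ : Cfsg.IrrCharacter G => χ ∈ B ∧
      Cfsg.classInner (fun n : N => (χ : G → ℂ) n) (θ : N → ℂ) ≠ 0)] :
    p ∣ ∑ χ ∈ Finset.univ.filter (fun χ : Cfsg.IrrCharacter G => χ ∈ B ∧
      Cfsg.classInner (fun n : N => (χ : G → ℂ) n) (θ : N → ℂ) ≠ 0),
      Cfsg.charDegree (χ : G → ℂ) ^ 2 := by
  classical
  have hMm : M.IsMaximal := hM.2.1
  obtain ⟨c₀, hc₀⟩ := exists_degree_factor N θ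
  have hnat : ∀ χ : Cfsg.IrrCharacter G, ∃ n : ℕ,
      Cfsg.classInner (θ : N → ℂ) (fun n : N => (χ : G → ℂ) n) = n := fun χ =>
    classInner_irr_char_nat θ.2 (IsCharacter.restrict N (IsIrrCharacter.isCharacter χ.2))
  have hsymm : ∀ χ : Cfsg.IrrCharacter G,
      Cfsg.classInner (fun n : N => (χ : G → ℂ) n) (θ : N → ℂ) =
        Cfsg.classInner (θ : N → ℂ) (fun n : N => (χ : G → ℂ) n) := by
    intro χ
    obtain ⟨n, hn⟩ := hnat χ
    rw [classInner_conj_symm (θ : N → ℂ) (fun n : N => (χ : G → ℂ) n), hn]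
    simp
  have h0 := finsum_mult_mul_eq_zero hM B hB N (θ : N → ℂ) x hx hxN
  rw [finsum_mem_eq_sum_ite] at h0
  -- the relation with degrees
  have h1 : ∑ χ ∈ Finset.univ.filter (fun χ : Cfsg.IrrCharacter G => χ ∈ B ∧
      Cfsg.classInner (fun n : N => (χ : G → ℂ) n) (θ : N → ℂ) ≠ 0),
      (χ : G → ℂ) 1 * (χ : G → ℂ) x = 0 := by
    have : ∑ χ ∈ Finset.univ.filter (fun χ : Cfsg.IrrCharacter G => χ ∈ B ∧
        Cfsg.classInner (fun n : N => (χ : G → ℂ) n) (θ : N → ℂ) ≠ 0),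
        (χ : G → ℂ) 1 * (χ : G → ℂ) x =
        c₀ * ∑ χ : Cfsg.IrrCharacter G, (if χ ∈ B then
          Cfsg.classInner (θ : N → ℂ) (fun n : N => (χ : G → ℂ) n) * (χ : G → ℂ) x else 0) := by
      rw [Finset.mul_sum, Finset.sum_filter]
      apply Finset.sum_congr rfl
      intro χ _
      by_cases hχB : χ ∈ B
      · by_cases hm : Cfsg.classInner (fun n : N => (χ : G → ℂ) n) (θ : N → ℂ) = 0
        · rw [if_neg (fun h => h.2 hm), if_pos hχB, ← hsymm χ, hm, zero_mul, mul_zero]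
        · rw [if_pos ⟨hχB, hm⟩, if_pos hχB, hc₀ χ hm, ← hsymm χ]
          ring
      · rw [if_neg (fun h => hχB h.1), if_neg hχB, mul_zero]
    rw [this, h0, mul_zero]
  -- reduction modulo the local ideal
  have h2 : Cfsg.MemLocalIdeal M (((∑ χ ∈ Finset.univ.filter (fun χ : Cfsg.IrrCharacter G =>
      χ ∈ B ∧ Cfsg.classInner (fun n : N => (χ : G → ℂ) n) (θ : N → ℂ) ≠ 0),
      Cfsg.charDegree (χ : G → ℂ) ^ 2 : ℕ)) : ℂ) := by
    have e : (((∑ χ ∈ Finset.univ.filter (fun χ : Cfsg.IrrCharacter G =>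
        χ ∈ B ∧ Cfsg.classInner (fun n : N => (χ : G → ℂ) n) (θ : N → ℂ) ≠ 0),
        Cfsg.charDegree (χ : G → ℂ) ^ 2 : ℕ)) : ℂ) =
        - ∑ χ ∈ Finset.univ.filter (fun χ : Cfsg.IrrCharacter G =>
          χ ∈ B ∧ Cfsg.classInner (fun n : N => (χ : G → ℂ) n) (θ : N → ℂ) ≠ 0),
          (χ : G → ℂ) 1 * ((χ : G → ℂ) x - (χ : G → ℂ) 1) := by
      rw [eq_neg_iff_add_eq_zero]
      refine Eq.trans ?_ h1
      push_cast
      rw [← Finset.sum_add_distrib]
      apply Finset.sum_congr rfl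
      intro χ _
      rw [charDegree_cast_of_isCharacter (IsIrrCharacter.isCharacter χ.2)]
      ring
    rw [e]
    apply MemLocalIdeal.neg
    apply MemLocalIdeal.sum hMm
    intro χ _
    apply MemLocalIdeal.mul_left hMm
    · exact memLocalRing_of_isIntegral hMm
        (IsCharacter.isIntegral_value (IsIrrCharacter.isCharacter χ.2) 1)
    · exact char_pElement_sub_one_memLocalIdeal hM (IsIrrCharacter.isCharacter χ.2) x hx
  exact dvd_of_memLocalIdeal_natCast hM _ h2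

/-- **Counting**: the number of characters of `p'`-degree of `B` over `θ` is not one, and is
divisible by `p` when `p ≤ 3`. -/
theorem card_pprime_over [Fintype G] {p : ℕ} [hp : Fact p.Prime]
    (hM : Cfsg.IsPModular p M) (B : Set (Cfsg.IrrCharacter G)) (hB : Cfsg.IsPBlock M B)
    (N : Subgroup G) [hN : N.Normal] [Fintype N] (θ : Cfsg.IrrCharacter N) (x : G)
    (hx : ∃ k : ℕ, orderOf x = p ^ k) (hxN : x ∉ N) :
    (Nat.card {χ : Cfsg.IrrCharacter G // χ ∈ B ∧ ¬ p ∣ Cfsg.charDegree (χ : G → ℂ) ∧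
        Cfsg.classInner (fun n : N => (χ : G → ℂ) n) (θ : N → ℂ) ≠ 0} = 0 ∨
      2 ≤ Nat.card {χ : Cfsg.IrrCharacter G // χ ∈ B ∧ ¬ p ∣ Cfsg.charDegree (χ : G → ℂ) ∧
        Cfsg.classInner (fun n : N => (χ : G → ℂ) n) (θ : N → ℂ) ≠ 0}) ∧
    (p ≤ 3 → p ∣ Nat.card {χ : Cfsg.IrrCharacter G // χ ∈ B ∧
        ¬ p ∣ Cfsg.charDegree (χ : G → ℂ) ∧
        Cfsg.classInner (fun n : N => (χ : G → ℂ) n) (θ : N → ℂ) ≠ 0}) := by
  classical
  haveI : Finite (Cfsg.IrrCharacter G) := irr_finite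
  haveI : Fintype (Cfsg.IrrCharacter G) := Fintype.ofFinite _
  have hdvd := dvd_sum_sq_degree_over hM B hB N θ x hx hxN
  set S := Finset.univ.filter (fun χ : Cfsg.IrrCharacter G => χ ∈ B ∧
      Cfsg.classInner (fun n : N => (χ : G → ℂ) n) (θ : N → ℂ) ≠ 0) with hS
  set X := Finset.univ.filter (fun χ : Cfsg.IrrCharacter G => χ ∈ B ∧
      ¬ p ∣ Cfsg.charDegree (χ : G → ℂ) ∧
      Cfsg.classInner (fun n : N => (χ : G → ℂ) n) (θ : N → ℂ) ≠ 0) with hX
  have hcard : Nat.card {χ : Cfsg.IrrCharacter G // χ ∈ B ∧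
      ¬ p ∣ Cfsg.charDegree (χ : G → ℂ) ∧
      Cfsg.classInner (fun n : N => (χ : G → ℂ) n) (θ : N → ℂ) ≠ 0} = X.card := by
    rw [Nat.card_eq_fintype_card, Fintype.card_subtype]
  rw [hcard]
  -- the sum over `X`
  have hXS : X = S.filter (fun χ : Cfsg.IrrCharacter G => ¬ p ∣ Cfsg.charDegree (χ : G → ℂ)) := by
    ext χ
    simp only [hX, hS, Finset.mem_filter, Finset.mem_univ, true_and]
    tauto
  have hsplit : ∑ χ ∈ S, Cfsg.charDegree (χ : G → ℂ) ^ 2 =
      ∑ χ ∈ X, Cfsg.charDegree (χ : G → ℂ) ^ 2 +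
      ∑ χ ∈ S.filter (fun χ : Cfsg.IrrCharacter G => ¬ ¬ p ∣ Cfsg.charDegree (χ : G → ℂ)),
        Cfsg.charDegree (χ : G → ℂ) ^ 2 := by
    rw [hXS]
    exact (Finset.sum_filter_add_sum_filter_not S _ _).symm
  have hsecond : p ∣ ∑ χ ∈ S.filter (fun χ : Cfsg.IrrCharacter G => ¬ ¬ p ∣ Cfsg.charDegree (χ : G → ℂ)),
      Cfsg.charDegree (χ : G → ℂ) ^ 2 := by
    apply Finset.dvd_sum
    intro χ hχ
    have := (Finset.mem_filter.mp hχ).2
    exact Dvd.dvd.pow (not_not.mp this) (by norm_num)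
  have hXdvd : p ∣ ∑ χ ∈ X, Cfsg.charDegree (χ : G → ℂ) ^ 2 := by
    rw [hsplit] at hdvd
    exact (Nat.dvd_add_left hsecond).mp hdvd
  have hXmem : ∀ χ ∈ X, ¬ p ∣ Cfsg.charDegree (χ : G → ℂ) := by
    intro χ hχ
    rw [hX] at hχ
    exact (Finset.mem_filter.mp hχ).2.2.1
  constructor
  · by_cases h1 : X.card = 1
    · exfalso
      obtain ⟨χ₀, hχ₀⟩ := Finset.card_eq_one.mp h1
      rw [hχ₀, Finset.sum_singleton] at hXdvd
      have := hp.out.dvd_of_dvd_pow hXdvd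
      exact hXmem χ₀ (by rw [hχ₀]; exact Finset.mem_singleton_self _) this
    · omega
  · intro hp3
    have hp23 : p = 2 ∨ p = 3 := by
      have := hp.out.two_le
      interval_cases p
      · left; rfl
      · right; rfl
    have hsq : ∀ χ ∈ X, Cfsg.charDegree (χ : G → ℂ) ^ 2 % p = 1 := by
      intro χ hχ
      have hnd := hXmem χ hχ
      rcases hp23 with rfl | rfl
      · have h2 : Cfsg.charDegree (χ : G → ℂ) % 2 = 1 := by omega
        rw [Nat.pow_mod, h2]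
      · have h3 : Cfsg.charDegree (χ : G → ℂ) % 3 = 1 ∨ Cfsg.charDegree (χ : G → ℂ) % 3 = 2 := by
          omega
        rcases h3 with h3 | h3 <;> rw [Nat.pow_mod, h3]
    have hmod : (∑ χ ∈ X, Cfsg.charDegree (χ : G → ℂ) ^ 2) % p = X.card % p := by
      rw [Finset.sum_nat_mod, Finset.sum_congr rfl hsq, Finset.sum_const, smul_eq_mul, mul_one]
    rw [Nat.dvd_iff_mod_eq_zero] at hXdvd ⊢
    rw [← hmod, hXdvd]

end Cfsg.Agent.Helper6
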