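import Mathlib
import Cfsg.Prelude.Def_Characters
import Cfsg.Prelude.Def_Blocks
import Cfsg.Agent.Helper6.LinConstA
import Cfsg.Agent.Helper6.SectionCountA
import Cfsg.Agent.Helper6.SecondMainC

/-!
# Characters whose restriction to a subgroup is isotypic; sums over `p`-sections

* `char_mul_of_isotypic`: if the restriction of the character `θ` to `D` has `ζ` as its only
  irreducible constituent and `x` commutes with `D`, then `θ (y x) = ζ y * θ x / ζ 1`.
* `sum_mul_conj_of_pc_form`: the squared norm of a function of "product form" on the elements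
  whose `p`-part lies in `D`.
-/

namespace Cfsg.Agent.Helper6

open scoped ComplexConjugate

universe u

variable {G : Type u} [Group G]

/-- If `ζ` is the only irreducible constituent of the restriction of `θ` to `D` and `x` commutes
with `D`, then `θ (y x) = ζ y * θ x / ζ 1` for `y ∈ D`. -/
theorem char_mul_of_isotypic [Finite G] {θ : G → ℂ} (hθ : Cfsg.IsCharacter G θ)
    (D : Subgroup G) (x : G) (hx : ∀ d ∈ D, d * x = x * d) (ζ : D → ℂ)
    (hζ : Cfsg.IsIrrCharacter D ζ)
    (hiso : ∀ φ : D → ℂ, Cfsg.IsIrrCharacter D φ → φ ≠ ζ →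
      ¬ Cfsg.IsCharacter D ((fun d : D => θ (d : G)) - φ)) (y : D) :
    θ ((y : G) * x) = ζ y * θ x / ζ 1 := by
  classical
  haveI := Fintype.ofFinite G
  set Y : Subgroup G := Subgroup.zpowers x with hY
  have hcomm : ∀ (d : D) (h : Y), Commute (D.subtype d) (Y.subtype h) := by
    intro d h
    obtain ⟨k, hk⟩ := Subgroup.mem_zpowers_iff.mp h.2
    show Commute (d : G) (h : G)
    rw [← hk]
    exact Commute.zpow_right (hx d d.2) k
  let f : D × Y →* G := MonoidHom.noncommCoprod D.subtype Y.subtype hcomm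
  have hf : ∀ w : D × Y, f w = (w.1 : G) * (w.2 : G) := fun w => rfl
  set Θ : D × Y → ℂ := fun w => θ (f w) with hΘdef
  have hΘ : Cfsg.IsCharacter (D × Y) Θ := IsCharacter.comp_hom f hθ
  haveI : Finite (Cfsg.IrrCharacter (D × Y)) := irr_finite
  haveI : Fintype (Cfsg.IrrCharacter (D × Y)) := Fintype.ofFinite _
  have hexp := classFunction_expansion Θ (IsCharacter.isClassFunction hΘ)
  let x' : Y := ⟨x, Subgroup.mem_zpowers x⟩
  have hval : ∀ d : D, θ ((d : G) * x) = ∑ ξ : Cfsg.IrrCharacter (D × Y),
      Cfsg.classInner Θ (ξ : D × Y → ℂ) * (ξ : D × Y → ℂ) (d, x') := by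
    intro d
    have h1 := congrFun hexp (d, x')
    rw [Finset.sum_apply] at h1
    have h2 : Θ (d, x') = θ ((d : G) * x) := by
      show θ (f (d, x')) = θ ((d : G) * x)
      rw [hf]
    rw [← h2, h1]
    apply Finset.sum_congr rfl
    intro ξ _
    rfl
  have hYcomm : ∀ a b : Y, a * b = b * a := by
    intro a b
    obtain ⟨i, hi⟩ := Subgroup.mem_zpowers_iff.mp a.2
    obtain ⟨j, hj⟩ := Subgroup.mem_zpowers_iff.mp b.2
    apply Subtype.ext
    show (a : G) * (b : G) = (b : G) * (a : G)
    rw [← hi, ← hj, ← zpow_add, ← zpow_add, add_comm]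
  have hζ1 : ζ 1 ≠ 0 := IsIrrCharacter.apply_one_ne_zero hζ
  have hterm : ∀ ξ : Cfsg.IrrCharacter (D × Y),
      Cfsg.classInner Θ (ξ : D × Y → ℂ) * (ξ : D × Y → ℂ) (y, x') =
        ζ y * (Cfsg.classInner Θ (ξ : D × Y → ℂ) * (ξ : D × Y → ℂ) (1, x')) / ζ 1 := by
    intro ξ
    obtain ⟨φ, μ, hφ, hμ, hξ⟩ := (isIrrCharacter_prod_iff (ξ : D × Y → ℂ)).mp ξ.2
    obtain ⟨n, hn⟩ := classInner_char_char_nat hΘ (IsIrrCharacter.isCharacter ξ.2)
    by_cases hn0 : n = 0
    · rw [hn, hn0, Nat.cast_zero, zero_mul, zero_mul, mul_zero, zero_div]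
    have hμ1 : μ 1 = 1 := (comm_iff_forall_irr_degree_one.mp hYcomm) ⟨μ, hμ⟩
    have hφζ : φ = ζ := by
      by_contra hne
      apply hiso φ hφ hne
      have hsub := sub_isCharacter_of_constituent hΘ ξ.2 (by
        rw [hn]
        exact_mod_cast hn0)
      have hres := IsCharacter.comp_hom (MonoidHom.inl D Y) hsub
      have heq : (fun d : D => (Θ - (ξ : D × Y → ℂ)) (MonoidHom.inl D Y d)) =
          (fun d : D => θ (d : G)) - φ := by
        funext d
        show Θ (d, 1) - (ξ : D × Y → ℂ) (d, 1) = θ (d : G) - φ d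
        rw [hξ]
        show θ (f (d, 1)) - φ d * μ 1 = θ (d : G) - φ d
        rw [hμ1, mul_one, hf]
        show θ ((d : G) * ((1 : Y) : G)) - φ d = θ (d : G) - φ d
        rw [Subgroup.coe_one, mul_one]
      rwa [heq] at hres
    rw [hξ, hφζ]
    show _ * (ζ y * μ x') = ζ y * (_ * (ζ 1 * μ x')) / ζ 1
    field_simp
  have h1 := hval y
  have h2 := hval 1
  rw [Subgroup.coe_one, one_mul] at h2
  rw [h1, h2, Finset.mul_sum, Finset.sum_div]
  apply Finset.sum_congr rfl
  intro ξ _
  exact hterm ξ

open Classical in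
/-- The sum of `θ conj θ` for a function of product form on the elements with `p`-part in `D`
and vanishing elsewhere. -/
theorem sum_mul_conj_of_pc_form [Fintype G] {p : ℕ} [hp : Fact p.Prime] (D : Subgroup G)
    (hDp : IsPGroup p D)
    (hreg : ∀ g : G, ¬ p ∣ orderOf g → g ∈ Subgroup.centralizer (D : Set G))
    (θ : G → ℂ) (a : D → ℂ) (b : G → ℂ)
    (h1 : ∀ (y : D) (s : G), ¬ p ∣ orderOf s → θ ((y : G) * s) = a y * b s)
    (h2 : ∀ z : G, (∀ y : G, Cfsg.IsPPart p z y → y ∉ D) → θ z = 0) :
    ∑ g : G, θ g * conj (θ g) =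
      (∑ y : D, a y * conj (a y)) *
        ∑ g : G, (if p ∣ orderOf g then 0 else b g * conj (b g)) := by
  rw [sum_eq_sum_isPPart p (fun g => θ g * conj (θ g))]
  have hz : ∀ z : G, ∑ g : G, (if Cfsg.IsPPart p g z then θ g * conj (θ g) else 0) =
      if hz : z ∈ D then (a ⟨z, hz⟩ * conj (a ⟨z, hz⟩)) *
        ∑ g : G, (if p ∣ orderOf g then 0 else b g * conj (b g)) else 0 := by
    intro z
    by_cases hzD : z ∈ D
    · rw [dif_pos hzD]
      have hzord : ∃ k : ℕ, orderOf z = p ^ k := by
        obtain ⟨k, hk⟩ := (IsPGroup.iff_orderOf.mp hDp) ⟨z, hzD⟩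
        exact ⟨k, by rw [← hk, Subgroup.orderOf_mk]⟩
      rw [sum_isPPart_eq z hzord (fun g => θ g * conj (θ g))]
      have hterm : ∀ s : Subgroup.centralizer ({z} : Set G),
          (if p ∣ orderOf s then 0 else θ (z * (s : G)) * conj (θ (z * (s : G)))) =
          (a ⟨z, hzD⟩ * conj (a ⟨z, hzD⟩)) *
            (if p ∣ orderOf (s : G) then 0 else b (s : G) * conj (b (s : G))) := by
        intro s
        rw [Subgroup.orderOf_coe]
        by_cases hs : p ∣ orderOf s
        · rw [if_pos hs, if_pos hs, mul_zero]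
        · rw [if_neg hs, if_neg hs]
          have hs' : ¬ p ∣ orderOf (s : G) := by rwa [Subgroup.orderOf_coe]
          have := h1 ⟨z, hzD⟩ (s : G) hs'
          rw [this, map_mul]
          ring
      rw [Finset.sum_congr rfl (fun s _ => hterm s), ← Finset.mul_sum]
      congr 1
      -- reindex the sum over the centralizer
      have hsub : ∑ s : Subgroup.centralizer ({z} : Set G),
          (if p ∣ orderOf (s : G) then 0 else b (s : G) * conj (b (s : G))) =
          ∑ g ∈ Finset.univ.filter (fun g : G => g ∈ Subgroup.centralizer ({z} : Set G)),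
            (if p ∣ orderOf g then 0 else b g * conj (b g)) := by
        rw [Finset.sum_subtype (Finset.univ.filter
          (fun g : G => g ∈ Subgroup.centralizer ({z} : Set G)))
          (p := fun g => g ∈ Subgroup.centralizer ({z} : Set G))
          (fun g => by simp)
          (fun g => if p ∣ orderOf g then 0 else b g * conj (b g))]
      rw [hsub, Finset.sum_filter]
      apply Finset.sum_congr rfl
      intro g _
      by_cases hg : g ∈ Subgroup.centralizer ({z} : Set G)
      · rw [if_pos hg]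
      · rw [if_neg hg]
        by_cases hgp : p ∣ orderOf g
        · rw [if_pos hgp]
        · exfalso
          apply hg
          have := hreg g hgp
          rw [Subgroup.mem_centralizer_singleton_iff]
          exact (Subgroup.mem_centralizer_iff.mp this z hzD).symm
    · rw [dif_neg hzD]
      apply Finset.sum_eq_zero
      intro g _
      by_cases hgz : Cfsg.IsPPart p g z
      · rw [if_pos hgz]
        have : θ g = 0 := by
          apply h2
          intro y hy
          rw [isPPart_unique p hy hgz]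
          exact hzD
        rw [this, zero_mul]
      · rw [if_neg hgz]
  rw [Finset.sum_congr rfl (fun z _ => hz z), Finset.sum_mul]
  -- reindex the sum over `D`
  have hfil : ∑ z : G, (if hz : z ∈ D then (a ⟨z, hz⟩ * conj (a ⟨z, hz⟩)) *
        ∑ g : G, (if p ∣ orderOf g then 0 else b g * conj (b g)) else 0) =
      ∑ z ∈ Finset.univ.filter (fun g : G => g ∈ D),
        (if hz : z ∈ D then (a ⟨z, hz⟩ * conj (a ⟨z, hz⟩)) *
        ∑ g : G, (if p ∣ orderOf g then 0 else b g * conj (b g)) else 0) := by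
    rw [Finset.sum_filter]
    apply Finset.sum_congr rfl
    intro z _
    by_cases hzD : z ∈ D
    · rw [if_pos hzD]
    · rw [if_neg hzD, dif_neg hzD]
  rw [hfil, Finset.sum_subtype (Finset.univ.filter (fun g : G => g ∈ D)) (p := fun g => g ∈ D)
    (fun g => by simp)]
  apply Finset.sum_congr rfl
  intro i _
  rw [dif_pos i.2]

end Cfsg.Agent.Helper6
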