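import Mathlib
import Cfsg.Prelude.Def_Characters
import Cfsg.Prelude.Def_Blocks
import Cfsg.Prelude.Def_BrauerPairs
import Cfsg.Agent.Helper6.PCGroupA
import Cfsg.Agent.Helper6.MaxPairCriterion

/-!
# Groups of the form `P C_G(P)`: the structure of the blocks with defect group `P`
-/

set_option autoImplicit false
set_option linter.style.haveILetI false

namespace Cfsg.Agent.Helper6

open scoped ComplexConjugate

universe u

variable {G : Type u} [Group G] {M : Ideal Cfsg.AlgInt}

theorem pc_comm (P : Subgroup G) :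
    ∀ u ∈ P, ∀ v ∈ Subgroup.centralizer (P : Set G), u * v = v * u :=
  fun u hu v hv => Subgroup.mem_centralizer_iff.mp hv u hu

/-- in `G = P C_G(P)` the subgroup `P` is normal -/
theorem pc_normal (P : Subgroup G) (htop : P ⊔ Subgroup.centralizer (P : Set G) = ⊤) :
    P.Normal := cp_normal P _ (pc_comm P) htop

/-- an irreducible character of `G = P C_G(P)` trivial on `P` restricts irreducibly to
`C_G(P)` -/
theorem pc_restrict_irr [Finite G] (P : Subgroup G)
    (htop : P ⊔ Subgroup.centralizer (P : Set G) = ⊤) (θ : Cfsg.IrrCharacter G)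
    (hker : ∀ x ∈ P, (θ : G → ℂ) x = (θ : G → ℂ) 1) :
    Cfsg.IsIrrCharacter (Subgroup.centralizer (P : Set G))
      (fun c : Subgroup.centralizer (P : Set G) => (θ : G → ℂ) c) := by
  haveI := pc_normal P htop
  by_contra hred
  obtain ⟨x, hx⟩ := (restriction_reducible_iff_vanishes_coset
    (Subgroup.centralizer (P : Set G)) θ.2).mp hred
  obtain ⟨y, hy, c, hc, rfl⟩ := cp_exists_mul P _ (pc_comm P) htop x
  have h1 := hx ⟨c⁻¹, Subgroup.inv_mem _ hc⟩
  have hcf := IsCharacter.isClassFunction (IsIrrCharacter.isCharacter θ.2)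
  have e1 : (c⁻¹ : G) * (y * c) = c⁻¹ * y * c⁻¹⁻¹ := by group
  rw [e1, hcf y c⁻¹, hker y hy] at h1
  exact IsIrrCharacter.apply_one_ne_zero θ.2 h1

set_option maxHeartbeats 1600000 in
/-- **the structure of the block of a character trivial on `P` of the right degree**, in
`G = P C_G(P)` -/
theorem pc_structure [Fintype G] {p : ℕ} [hp : Fact p.Prime] (hM : Cfsg.IsPModular p M)
    (P : Subgroup G) (hP : IsPGroup p P) (htop : P ⊔ Subgroup.centralizer (P : Set G) = ⊤)
    (θ : Cfsg.IrrCharacter G) (hker : ∀ x ∈ P, (θ : G → ℂ) x = (θ : G → ℂ) 1)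
    (hdeg : (Cfsg.charDegree (θ : G → ℂ)).factorization p = P.index.factorization p) :
    ∃ ϑ : Cfsg.IrrCharacter (Subgroup.centralizer (P : Set G)),
      (ϑ : Subgroup.centralizer (P : Set G) → ℂ) =
        (fun c : Subgroup.centralizer (P : Set G) => (θ : G → ℂ) c) ∧
      Cfsg.IsBrauerPairOf p M (Cfsg.blockOf M (θ : G → ℂ)) P
        (Cfsg.blockOf M (ϑ : Subgroup.centralizer (P : Set G) → ℂ)) ∧
      Cfsg.IsDefectGroup p M (Cfsg.blockOf M (ϑ : Subgroup.centralizer (P : Set G) → ℂ))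
        ((P ⊓ Subgroup.centralizer (P : Set G)).subgroupOf (Subgroup.centralizer (P : Set G))) ∧
      Cfsg.IsDefectGroup p M (Cfsg.blockOf M (θ : G → ℂ)) P ∧
      (∀ x : G, Cfsg.StabilizesBlock (Subgroup.centralizer (P : Set G))
        (Cfsg.blockOf M (ϑ : Subgroup.centralizer (P : Set G) → ℂ)) x) ∧
      (∀ g x : Subgroup.centralizer (P : Set G), Cfsg.IsPPart p g x → (x : G) ∉ P →
        (ϑ : Subgroup.centralizer (P : Set G) → ℂ) g = 0) ∧
      Cfsg.blockRank p (Cfsg.blockOf M (ϑ : Subgroup.centralizer (P : Set G) → ℂ)) = 1 := by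
  classical
  haveI hPn := pc_normal P htop
  haveI : Fintype (Subgroup.centralizer (P : Set G)) := Fintype.ofFinite _
  obtain ⟨ϑ, hϑ⟩ : ∃ ϑ : Cfsg.IrrCharacter (Subgroup.centralizer (P : Set G)),
      ϑ = ⟨_, pc_restrict_irr P htop θ hker⟩ := ⟨_, rfl⟩
  have hϑfun : (ϑ : Subgroup.centralizer (P : Set G) → ℂ) =
      (fun c : Subgroup.centralizer (P : Set G) => (θ : G → ℂ) c) := by rw [hϑ]
  obtain ⟨Z, hZdef⟩ : ∃ Z : Subgroup (Subgroup.centralizer (P : Set G)),
      Z = (P ⊓ Subgroup.centralizer (P : Set G)).subgroupOf (Subgroup.centralizer (P : Set G)) :=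
    ⟨_, rfl⟩
  rw [← hZdef]
  have hZmem : ∀ z : Subgroup.centralizer (P : Set G), z ∈ Z ↔ (z : G) ∈ P := by
    intro z
    rw [hZdef, Subgroup.mem_subgroupOf, Subgroup.mem_inf]
    exact and_iff_left z.2
  have hZc : Z ≤ Subgroup.center (Subgroup.centralizer (P : Set G)) := by
    intro z hz
    rw [Subgroup.mem_center_iff]
    intro c
    apply Subtype.ext
    exact (Subgroup.mem_centralizer_iff.mp c.2 (z : G) ((hZmem z).mp hz)).symm
  have hZp : IsPGroup p Z := by
    rw [hZdef]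
    exact (hP.to_le inf_le_left).comap_subtype
  have hZidx : Z.index = P.index := by
    have h1 : Z.index = P.relIndex (Subgroup.centralizer (P : Set G)) := by
      rw [hZdef]
      exact Subgroup.inf_relIndex_right P _
    have h2 := Subgroup.relIndex_sup_right (Subgroup.centralizer (P : Set G)) P
    rw [sup_comm, htop, Subgroup.relIndex_top_right] at h2
    rw [h1, ← h2]
  have hdegϑ : (Cfsg.charDegree (ϑ : Subgroup.centralizer (P : Set G) → ℂ)).factorization p =
      Z.index.factorization p := by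
    rw [hZidx, ← hdeg, hϑfun]
    rfl
  obtain ⟨hZD, hvan⟩ := central_full_degree hM Z hZp hZc ϑ hdegϑ
  have hPe : Cfsg.IsBrauerPair p M P
      (Cfsg.blockOf M (ϑ : Subgroup.centralizer (P : Set G) → ℂ)) := ⟨hP, ϑ, rfl⟩
  obtain ⟨B', hB', -⟩ := existsUnique_isBrauerPairOf hM P _ hPe
  have hlo := eq_lyingOver_of_isBrauerPairOf hM P B' _ hB'
  have hθB' : θ ∈ B' := by
    rw [hlo]
    refine ⟨ϑ, subset_orbitUnion _ _ (mem_blockOf_self hM.2.1 ϑ), ?_⟩
    rw [← hϑfun, classInner_irr_self ϑ.2]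
    exact one_ne_zero
  have hBB' : B' = Cfsg.blockOf M (θ : G → ℂ) := eq_blockOf_of_mem hM.2.1 B' hB'.2.1 θ hθB'
  rw [hBB'] at hB'
  have hst : ∀ x : G, Cfsg.StabilizesBlock (Subgroup.centralizer (P : Set G))
      (Cfsg.blockOf M (ϑ : Subgroup.centralizer (P : Set G) → ℂ)) x := fun x =>
    stabilizesBlock_of_mem_sup_centralizer P _ x (by rw [htop]; exact Subgroup.mem_top x)
  have hDB := (isDefectGroup_pair_iff hM P htop _ _ hB' hst).mpr (hZdef ▸ hZD)
  exact ⟨ϑ, hϑfun, hB', hZD, hDB, hst, fun g x hgx hx => hvan g x hgx (fun h => hx ((hZmem x).mp h)),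
    central_defect_rank_one hM _ ⟨ϑ, rfl⟩ Z hZD hZc⟩

end Cfsg.Agent.Helper6
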