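import Mathlib
import Cfsg.Prelude.Def_Characters
import Cfsg.Prelude.Def_Blocks
import Cfsg.Prelude.Def_BlockRank
import Cfsg.Agent.Helper6.DefectOneTwoA
import Cfsg.Agent.Helper6.DefectClassValues
import Cfsg.Agent.Helper6.DefectOrder

/-!
# Blocks of `p`-regular rank one: the Cartan invariant (S4675)
-/

set_option autoImplicit false
set_option linter.style.haveILetI false

namespace Cfsg.Agent.Helper6

open Module
open scoped ComplexConjugate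

universe u

variable {G : Type u} [Group G] {M : Ideal Cfsg.AlgInt}

/-- rank one: every truncation is proportional to a fixed one -/
theorem pRegularPart_eq_smul_of_blockRank_one [Finite G] {p : ℕ} [hp : Fact p.Prime]
    (B : Set (Cfsg.IrrCharacter G)) (hl : Cfsg.blockRank p B = 1)
    (χ₁ χ : Cfsg.IrrCharacter G) (hχ₁ : χ₁ ∈ B) (hχ : χ ∈ B) :
    Cfsg.pRegularPart p (χ : G → ℂ) =
      ((χ : G → ℂ) 1 / (χ₁ : G → ℂ) 1) • Cfsg.pRegularPart p (χ₁ : G → ℂ) := by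
  classical
  obtain ⟨S, hS⟩ : ∃ S : Set (G → ℂ), S =
    (fun χ : Cfsg.IrrCharacter G => Cfsg.pRegularPart p (χ : G → ℂ)) '' B := ⟨_, rfl⟩
  obtain ⟨v, hv⟩ : ∃ v : G → ℂ, v = Cfsg.pRegularPart p (χ₁ : G → ℂ) := ⟨_, rfl⟩
  have hvS : v ∈ S := by rw [hS, hv]; exact ⟨χ₁, hχ₁, rfl⟩
  have hχ₁1 : (χ₁ : G → ℂ) 1 ≠ 0 := IsIrrCharacter.apply_one_ne_zero χ₁.2
  have hv1 : v 1 = (χ₁ : G → ℂ) 1 := by
    rw [hv]
    exact pRegularPart_of_isPRegular _ 1 isPRegular_one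
  have hv0 : v ≠ 0 := by
    intro h0
    rw [h0] at hv1
    exact hχ₁1 hv1.symm
  unfold Cfsg.blockRank at hl
  rw [← hS] at hl
  have hvmem : v ∈ Submodule.span ℂ S := Submodule.subset_span hvS
  have hv0' : (⟨v, hvmem⟩ : Submodule.span ℂ S) ≠ 0 := by
    intro h0
    exact hv0 (congrArg Subtype.val h0)
  have h1 := (finrank_eq_one_iff_of_nonzero' (⟨v, hvmem⟩ : Submodule.span ℂ S) hv0').mp hl
  have hwmem : Cfsg.pRegularPart p (χ : G → ℂ) ∈ Submodule.span ℂ S := by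
    apply Submodule.subset_span
    rw [hS]
    exact ⟨χ, hχ, rfl⟩
  obtain ⟨c, hc⟩ := h1 ⟨_, hwmem⟩
  have hc' : c • v = Cfsg.pRegularPart p (χ : G → ℂ) := congrArg Subtype.val hc
  have e1 := congrFun hc' 1
  rw [Pi.smul_apply, pRegularPart_of_isPRegular _ _ isPRegular_one, hv1, smul_eq_mul] at e1
  rw [← hv, ← hc', ← e1, mul_div_assoc, div_self hχ₁1, mul_one]

/-- **S4675: the Cartan invariant of a block of `p`-regular rank one** -/
theorem rank_one_cartan [Fintype G] {p : ℕ} [hp : Fact p.Prime] (hM : Cfsg.IsPModular p M)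
    (B : Set (Cfsg.IrrCharacter G)) (hB : Cfsg.IsPBlock M B) (P : Subgroup G)
    (hP : Cfsg.IsDefectGroup p M B P) (hl : Cfsg.blockRank p B = 1) :
    ∃ φ : G → ℂ, ∃ d : Cfsg.IrrCharacter G → ℕ,
      (∃ n : Cfsg.IrrCharacter G → ℤ, ∀ x : G, Cfsg.IsPRegular p x →
        φ x = ∑ᶠ ψ ∈ B, (n ψ : ℂ) * (ψ : G → ℂ) x) ∧
      (∀ χ ∈ B, ∀ x : G, Cfsg.IsPRegular p x → (χ : G → ℂ) x = (d χ : ℂ) * φ x) ∧
      ∑ᶠ χ ∈ B, d χ ^ 2 = Nat.card P := by
  classical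
  haveI : Finite (Cfsg.IrrCharacter G) := irr_finite
  haveI : Fintype (Cfsg.IrrCharacter G) := Fintype.ofFinite _
  obtain ⟨a, ha⟩ : ∃ a : ℕ, a = (Nat.card G).factorization p := ⟨_, rfl⟩
  obtain ⟨dd, hdd⟩ : ∃ dd : ℕ, dd = Cfsg.blockDefect p B := ⟨_, rfl⟩
  have hdda : dd ≤ a := by rw [hdd, ha]; exact blockDefect_le_factorization p B
  have hcardP : Nat.card P = p ^ dd := by
    rw [hdd]
    exact card_defectGroup hM.2.1 p hM.2.2 B hB P hP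
  have hBne : B.Nonempty := by
    obtain ⟨χ₀, h⟩ := hB
    exact ⟨χ₀, h ▸ mem_blockOf_self hM.2.1 χ₀⟩
  obtain ⟨χ₁, hχ₁B, hχ₁h⟩ := exists_height_zero p B hBne
  obtain ⟨FB, hFB⟩ : ∃ FB : Finset (Cfsg.IrrCharacter G), FB = Finset.univ.filter (· ∈ B) :=
    ⟨_, rfl⟩
  have hmemFB : ∀ χ, χ ∈ FB ↔ χ ∈ B := by
    intro χ
    rw [hFB, Finset.mem_filter]
    exact ⟨fun h => h.2, fun h => ⟨Finset.mem_univ _, h⟩⟩
  have hχ₁F : χ₁ ∈ FB := (hmemFB χ₁).mpr hχ₁B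
  obtain ⟨f, hf⟩ : ∃ f : Cfsg.IrrCharacter G → ℤ,
      ∀ χ, f χ = (Cfsg.charDegree (χ : G → ℂ) : ℤ) := ⟨_, fun _ => rfl⟩
  have hfpos : ∀ χ, 0 < f χ := by
    intro χ
    rw [hf]
    exact_mod_cast Nat.pos_of_ne_zero (charDegree_ne_zero_of_irr χ.2)
  have hfval : ∀ χ : Cfsg.IrrCharacter G, (χ : G → ℂ) 1 = (f χ : ℂ) := by
    intro χ
    rw [hf, ← charDegree_cast_of_isCharacter (IsIrrCharacter.isCharacter χ.2)]
    norm_cast
  obtain ⟨v, hv1, hv2⟩ := Finset.extract_gcd f ⟨χ₁, hχ₁F⟩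
  obtain ⟨g, hg⟩ : ∃ g : ℤ, g = FB.gcd f := ⟨_, rfl⟩
  rw [← hg] at hv1
  have hg0 : g ≠ 0 := by
    rw [hg, Ne, Finset.gcd_eq_zero_iff]
    push Not
    exact ⟨χ₁, hχ₁F, (hfpos χ₁).ne'⟩
  have hgpos : 0 < g := by
    have : 0 ≤ g := by rw [hg]; exact Finset.Int.finsetGcd_nonneg
    omega
  have hvpos : ∀ χ ∈ FB, 0 < v χ := by
    intro χ hχ
    have h1 := hfpos χ
    rw [hv1 χ hχ] at h1
    exact (mul_pos_iff_of_pos_left hgpos).mp h1
  obtain ⟨n, hn⟩ := Finset.gcd_eq_sum_mul FB v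
  rw [hv2] at hn
  have hv₁0 : (v χ₁ : ℂ) ≠ 0 := by
    have := (hvpos χ₁ hχ₁F).ne'
    exact_mod_cast this
  have hg0' : (g : ℂ) ≠ 0 := by exact_mod_cast hg0
  obtain ⟨φ, hφ⟩ : ∃ φ : G → ℂ, φ = ((v χ₁ : ℂ))⁻¹ • Cfsg.pRegularPart p (χ₁ : G → ℂ) :=
    ⟨_, rfl⟩
  -- every truncation is a multiple of `φ`
  have hmult : ∀ χ ∈ B, Cfsg.pRegularPart p (χ : G → ℂ) = (v χ : ℂ) • φ := by
    intro χ hχ
    rw [pRegularPart_eq_smul_of_blockRank_one B hl χ₁ χ hχ₁B hχ, hφ, smul_smul, hfval, hfval,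
      hv1 χ ((hmemFB χ).mpr hχ), hv1 χ₁ hχ₁F]
    congr 1
    push_cast
    field_simp
  have hval : ∀ χ ∈ B, ∀ x : G, Cfsg.IsPRegular p x → (χ : G → ℂ) x = (v χ : ℂ) * φ x := by
    intro χ hχ x hx
    have := congrFun (hmult χ hχ) x
    rwa [pRegularPart_of_isPRegular _ _ hx, Pi.smul_apply, smul_eq_mul] at this
  refine ⟨φ, fun χ => (v χ).toNat, ⟨n, ?_⟩, ?_, ?_⟩
  · intro x hx
    rw [finsum_mem_eq_sum_ite, ← Finset.sum_filter, ← hFB]
    have h1 : ∀ ψ ∈ FB, (n ψ : ℂ) * (ψ : G → ℂ) x = ((v ψ * n ψ : ℤ) : ℂ) * φ x := by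
      intro ψ hψ
      rw [hval ψ ((hmemFB ψ).mp hψ) x hx]
      push_cast
      ring
    rw [Finset.sum_congr rfl h1, ← Finset.sum_mul, ← Int.cast_sum, ← hn, Int.cast_one, one_mul]
  · intro χ hχ x hx
    rw [hval χ hχ x hx]
    congr 1
    have := (hvpos χ ((hmemFB χ).mpr hχ)).le
    have h2 : ((v χ).toNat : ℤ) = v χ := Int.toNat_of_nonneg this
    exact_mod_cast h2.symm
  · -- the sum of the squares
    obtain ⟨c, hc⟩ : ∃ c : ℂ, c = ((p ^ a : ℕ) : ℂ) * Cfsg.classInner φ φ := ⟨_, rfl⟩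
    have htr : ∀ χ ∈ B, ∀ ξ ∈ B, (truncInt p χ ξ : ℂ) = ((v χ * v ξ : ℤ) : ℂ) * c := by
      intro χ hχ ξ hξ
      rw [← classInner_pRegularPart, hmult χ hχ, hmult ξ hξ, classInner_smul_left,
        classInner_smul_right, map_intCast, hc, ← ha]
      push_cast
      ring
    obtain ⟨cI, hcI⟩ : ∃ cI : ℤ, cI = ∑ χ ∈ FB, ∑ ξ ∈ FB, n χ * n ξ * truncInt p χ ξ :=
      ⟨_, rfl⟩
    have hcIc : (cI : ℂ) = c := by
      rw [hcI]
      push_cast
      have h1 : ∀ χ ∈ FB, ∑ ξ ∈ FB, (n χ : ℂ) * (n ξ : ℂ) * (truncInt p χ ξ : ℂ) =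
          ((v χ * n χ : ℤ) : ℂ) * (((∑ ξ ∈ FB, v ξ * n ξ : ℤ) : ℂ) * c) := by
        intro χ hχ
        rw [Int.cast_sum, Finset.sum_mul, Finset.mul_sum]
        apply Finset.sum_congr rfl
        intro ξ hξ
        rw [htr χ ((hmemFB χ).mp hχ) ξ ((hmemFB ξ).mp hξ)]
        push_cast
        ring
      rw [Finset.sum_congr rfl h1, ← Finset.sum_mul, ← Int.cast_sum, ← hn]
      push_cast
      ring
    have htrI : ∀ χ ∈ B, ∀ ξ ∈ B, truncInt p χ ξ = v χ * v ξ * cI := by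
      intro χ hχ ξ hξ
      have := htr χ hχ ξ hξ
      rw [← hcIc] at this
      exact_mod_cast this
    have hv₁pos := hvpos χ₁ hχ₁F
    have hcIpos : 0 < cI := by
      have h1 := truncInt_self_pos p χ₁
      rw [htrI χ₁ hχ₁B χ₁ hχ₁B] at h1
      have h2 : 0 < v χ₁ * v χ₁ := mul_pos hv₁pos hv₁pos
      exact (mul_pos_iff_of_pos_left h2).mp h1
    obtain ⟨S, hS⟩ : ∃ S : ℤ, S = ∑ ξ ∈ FB, (v ξ) ^ 2 := ⟨_, rfl⟩
    have hpars : cI * S = (p : ℤ) ^ a := by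
      have h1 := truncInt_parseval_block hM B hB χ₁ hχ₁B
      rw [← hFB, ← ha] at h1
      have h2 : ∑ ξ ∈ FB, (truncInt p χ₁ ξ) ^ 2 = (v χ₁) ^ 2 * cI ^ 2 * S := by
        rw [hS, Finset.mul_sum]
        apply Finset.sum_congr rfl
        intro ξ hξ
        rw [htrI χ₁ hχ₁B ξ ((hmemFB ξ).mp hξ)]
        ring
      rw [h2, htrI χ₁ hχ₁B χ₁ hχ₁B] at h1
      have h3 : (v χ₁) ^ 2 * cI * (cI * S) = (v χ₁) ^ 2 * cI * (p : ℤ) ^ a := by
        linear_combination h1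
      have h4 : (v χ₁) ^ 2 * cI ≠ 0 := by positivity
      exact mul_left_cancel₀ h4 h3
    -- valuations
    obtain ⟨m, hm1, hm2⟩ := truncInt_eq_pow_mul_of_height_zero hM B hB χ₁ χ₁ hχ₁B hχ₁B hχ₁h hχ₁h
    rw [← ha, ← hdd, htrI χ₁ hχ₁B χ₁ hχ₁B] at hm2
    have hp0 : (p : ℤ) ≠ 0 := by exact_mod_cast hp.out.ne_zero
    have hpprime : Prime (p : ℤ) := Nat.prime_iff_prime_int.mp hp.out
    have hnotdvd : ¬ (p : ℤ) ∣ v χ₁ := by
      intro hdiv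
      -- `p ^ (a - dd)` divides `g`
      have h1 : (p : ℤ) ^ (a - dd) ∣ g := by
        rw [hg]
        apply Finset.dvd_gcd
        intro ξ hξ
        rw [hf]
        have h2 := sub_blockDefect_le p B ξ ((hmemFB ξ).mp hξ)
        rw [← ha, ← hdd] at h2
        have h3 : p ^ (a - dd) ∣ Cfsg.charDegree (ξ : G → ℂ) :=
          (pow_dvd_pow p h2).trans (Nat.ordProj_dvd _ _)
        exact_mod_cast h3
      have h4 : (p : ℤ) ^ (a - dd + 1) ∣ f χ₁ := by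
        rw [hv1 χ₁ hχ₁F, pow_succ]
        exact mul_dvd_mul h1 hdiv
      rw [hf] at h4
      have h5 : p ^ (a - dd + 1) ∣ Cfsg.charDegree (χ₁ : G → ℂ) := by exact_mod_cast h4
      have h6 := (Nat.Prime.pow_dvd_iff_le_factorization hp.out
        (charDegree_ne_zero_of_irr χ₁.2)).mp h5
      have h7 := factorization_charDegree_eq p B χ₁ hχ₁B
      rw [hχ₁h, add_zero, ← ha, ← hdd] at h7
      omega
    -- `cI` is a power of `p`
    have hcIdvd : cI.natAbs ∣ p ^ a := by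
      have h1 : cI ∣ (p : ℤ) ^ a := ⟨S, hpars.symm⟩
      have h2 := Int.natAbs_dvd_natAbs.mpr h1
      rwa [Int.natAbs_pow, Int.natAbs_natCast] at h2
    obtain ⟨j, hja, hj⟩ := (Nat.dvd_prime_pow hp.out).mp hcIdvd
    have hcIj : cI = (p : ℤ) ^ j := by
      have h1 : (cI.natAbs : ℤ) = cI := Int.natAbs_of_nonneg hcIpos.le
      rw [← h1, hj]
      push_cast
      rfl
    rw [hcIj] at hm2 hpars
    have hm2' : (p : ℤ) ^ j * (v χ₁ * v χ₁) = (p : ℤ) ^ (a - dd) * m := by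
      rw [← hm2]
      ring
    have hje : j = a - dd := by
      rcases Nat.lt_trichotomy j (a - dd) with hlt | heq | hgt
      · exfalso
        obtain ⟨k, hk⟩ : ∃ k, a - dd = j + (k + 1) := ⟨a - dd - j - 1, by omega⟩
        rw [hk, pow_add, mul_assoc] at hm2'
        have h2 := mul_left_cancel₀ (pow_ne_zero j hp0) hm2'
        have h3 : (p : ℤ) ∣ v χ₁ * v χ₁ := by
          rw [h2, pow_succ]
          exact ⟨(p : ℤ) ^ k * m, by ring⟩
        rcases hpprime.dvd_or_dvd h3 with h | h <;> exact hnotdvd h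
      · exact heq
      · exfalso
        obtain ⟨k, hk⟩ : ∃ k, j = a - dd + (k + 1) := ⟨j - (a - dd) - 1, by omega⟩
        rw [hk, pow_add, mul_assoc] at hm2'
        have h2 := mul_left_cancel₀ (pow_ne_zero (a - dd) hp0) hm2'
        apply hm1
        rw [← h2, pow_succ]
        exact ⟨(p : ℤ) ^ k * (v χ₁ * v χ₁), by ring⟩
    have hSval : S = (p : ℤ) ^ dd := by
      rw [hje] at hpars
      have h1 : (p : ℤ) ^ a = (p : ℤ) ^ (a - dd) * (p : ℤ) ^ dd := by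
        rw [← pow_add]
        congr 1
        omega
      rw [h1] at hpars
      exact mul_left_cancel₀ (pow_ne_zero _ hp0) hpars
    rw [hcardP]
    have hfin : (∑ᶠ χ ∈ B, (v χ).toNat ^ 2 : ℕ) = ∑ χ ∈ FB, (v χ).toNat ^ 2 := by
      have hBset : B = ↑FB := by
        ext χ
        rw [Finset.mem_coe, hmemFB]
      rw [hBset, finsum_mem_coe_finset]
    rw [hfin]
    have hcast : ((∑ χ ∈ FB, (v χ).toNat ^ 2 : ℕ) : ℤ) = ((p ^ dd : ℕ) : ℤ) := by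
      push_cast
      rw [← hSval, hS]
      apply Finset.sum_congr rfl
      intro χ hχ
      rw [Int.toNat_of_nonneg (hvpos χ hχ).le]
    exact_mod_cast hcast

end Cfsg.Agent.Helper6
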