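import Mathlib
import Cfsg.Prelude.Def_Characters
import Cfsg.Prelude.Def_Blocks
import Cfsg.Prelude.Def_BrauerPairs
import Cfsg.Prelude.Def_BlockRank
import Cfsg.Agent.Helper6.PCGroupB
import Cfsg.Agent.Helper6.RankOneA
import Cfsg.Agent.Helper6.PPartBasic
import Cfsg.Agent.Helper6.CliffordOrbit
import Cfsg.Agent.Helper6.Expansion

/-!
# Groups of the form `P C_G(P)`: uniqueness of the canonical character and the `p`-regular rank
-/

set_option autoImplicit false
set_option linter.style.haveILetI false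

namespace Cfsg.Agent.Helper6

open scoped ComplexConjugate

universe u

variable {G : Type u} [Group G] {M : Ideal Cfsg.AlgInt}

/-- in `G = P C_G(P)` with `P` a `p`-group, the `p`-regular elements lie in `C_G(P)` -/
theorem pc_pRegular_mem [Finite G] {p : ℕ} [hp : Fact p.Prime] (P : Subgroup G)
    (hP : IsPGroup p P) (htop : P ⊔ Subgroup.centralizer (P : Set G) = ⊤) (g : G)
    (hg : ¬ p ∣ orderOf g) : g ∈ Subgroup.centralizer (P : Set G) := by
  haveI := pc_normal P htop
  have hrel : (Subgroup.centralizer (P : Set G)).relIndex P =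
      (Subgroup.centralizer (P : Set G)).index := by
    have h1 := Subgroup.relIndex_sup_right P (Subgroup.centralizer (P : Set G))
    rw [htop, Subgroup.relIndex_top_right] at h1
    exact h1.symm
  have hdvd : (Subgroup.centralizer (P : Set G)).index ∣ Nat.card P := by
    rw [← hrel]
    exact Subgroup.index_dvd_card _
  obtain ⟨n, hn⟩ := IsPGroup.iff_card.mp hP
  rw [hn] at hdvd
  obtain ⟨k, -, hk⟩ := (Nat.dvd_prime_pow hp.1).mp hdvd
  have h1 := Subgroup.pow_index_mem (Subgroup.centralizer (P : Set G)) g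
  rw [hk] at h1
  have hcop : Nat.Coprime (p ^ k) (orderOf g) :=
    ((Nat.Prime.coprime_iff_not_dvd hp.1).mpr hg).pow_left k
  obtain ⟨m, hm⟩ := exists_pow_eq_self_of_coprime hcop
  rw [← hm]
  exact Subgroup.pow_mem _ h1 m

set_option maxHeartbeats 1600000 in
/-- **uniqueness of the canonical character** of a block of `G = P C_G(P)` with defect group `P` -/
theorem pc_unique [Fintype G] {p : ℕ} [hp : Fact p.Prime] (hM : Cfsg.IsPModular p M)
    (P : Subgroup G) (hP : IsPGroup p P) (htop : P ⊔ Subgroup.centralizer (P : Set G) = ⊤)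
    (B : Set (Cfsg.IrrCharacter G)) (hB : Cfsg.IsPBlock M B)
    (hD : Cfsg.IsDefectGroup p M B P) (θ θ' : Cfsg.IrrCharacter G) (hθ : θ ∈ B) (hθ' : θ' ∈ B)
    (hker : ∀ x ∈ P, (θ : G → ℂ) x = (θ : G → ℂ) 1)
    (hker' : ∀ x ∈ P, (θ' : G → ℂ) x = (θ' : G → ℂ) 1) : θ = θ' := by
  classical
  haveI hPn := pc_normal P htop
  haveI : Fintype (Subgroup.centralizer (P : Set G)) := Fintype.ofFinite _
  have hdeg := degree_of_trivial_on_defectGroup hM P B hB hD θ hθ hker
  have hdeg' := degree_of_trivial_on_defectGroup hM P B hB hD θ' hθ' hker'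
  obtain ⟨ϑ, hϑfun, hpair, -, -, hst, hvan, hrank⟩ := pc_structure hM P hP htop θ hker hdeg
  obtain ⟨ϑ', hϑ'fun, -, -, -, -, hvan', -⟩ := pc_structure hM P hP htop θ' hker' hdeg'
  have hBθ : B = Cfsg.blockOf M (θ : G → ℂ) := eq_blockOf_of_mem hM.2.1 B hB θ hθ
  rw [← hBθ] at hpair
  -- `ϑ'` lies in the block of `ϑ`
  have hlo := eq_lyingOver_of_isBrauerPairOf hM P B _ hpair
  have hϑ'e : ϑ' ∈ Cfsg.blockOf M (ϑ : Subgroup.centralizer (P : Set G) → ℂ) := by
    rw [hlo] at hθ'
    obtain ⟨ψ, hψ, hne⟩ := hθ'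
    rw [← hϑ'fun] at hne
    have hψeq : ϑ' = ψ := by
      by_contra hcon
      exact hne (classInner_irr_ne ϑ'.2 ψ.2 (fun h => hcon (Subtype.ext h)))
    rw [hψeq]
    obtain ⟨x, hx⟩ := (mem_orbitUnion_iff _ _ ψ).mp hψ
    rwa [(nact_eq_self_iff _ x _).mpr (hst x)] at hx
  have hprop := pRegularPart_eq_smul_of_blockRank_one _ hrank ϑ ϑ' (mem_blockOf_self hM.2.1 ϑ) hϑ'e
  obtain ⟨c, hc⟩ : ∃ c : ℂ, c = (ϑ' : Subgroup.centralizer (P : Set G) → ℂ) 1 /
      (ϑ : Subgroup.centralizer (P : Set G) → ℂ) 1 := ⟨_, rfl⟩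
  rw [← hc] at hprop
  have hc0 : c ≠ 0 := by
    rw [hc]
    exact div_ne_zero (IsIrrCharacter.apply_one_ne_zero ϑ'.2) (IsIrrCharacter.apply_one_ne_zero ϑ.2)
  -- pointwise proportionality
  have hpt : ∀ g : Subgroup.centralizer (P : Set G),
      (ϑ' : Subgroup.centralizer (P : Set G) → ℂ) g =
        c * (ϑ : Subgroup.centralizer (P : Set G) → ℂ) g := by
    intro g
    obtain ⟨z, hz⟩ := exists_isPPart p g
    by_cases hzP : (z : G) ∈ P
    · obtain ⟨y, hzy, -, -, hy⟩ := hz
      have hzϑ : (ϑ : Subgroup.centralizer (P : Set G) → ℂ) z =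
          (ϑ : Subgroup.centralizer (P : Set G) → ℂ) 1 := by
        rw [hϑfun]
        exact hker _ hzP
      have hzϑ' : (ϑ' : Subgroup.centralizer (P : Set G) → ℂ) z =
          (ϑ' : Subgroup.centralizer (P : Set G) → ℂ) 1 := by
        rw [hϑ'fun]
        exact hker' _ hzP
      rw [← hzy, (IsIrrCharacter.mul_ker ϑ.2 hzϑ y).2, (IsIrrCharacter.mul_ker ϑ'.2 hzϑ' y).2]
      have h1 := congrFun hprop y
      rw [Pi.smul_apply, pRegularPart_of_isPRegular _ _ hy, pRegularPart_of_isPRegular _ _ hy,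
        smul_eq_mul] at h1
      exact h1
    · rw [hvan g z hz hzP, hvan' g z hz hzP, mul_zero]
  have hfun : (ϑ' : Subgroup.centralizer (P : Set G) → ℂ) =
      c • (ϑ : Subgroup.centralizer (P : Set G) → ℂ) := by
    funext g
    rw [Pi.smul_apply, smul_eq_mul]
    exact hpt g
  have hϑeq : ϑ' = ϑ := by
    by_contra hcon
    have h1 := classInner_irr_ne ϑ'.2 ϑ.2 (fun h => hcon (Subtype.ext h))
    rw [hfun, classInner_smul_left, classInner_irr_self ϑ.2, mul_one] at h1
    exact hc0 h1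
  -- back to `G`
  apply Subtype.ext
  funext g
  obtain ⟨y, hy, c', hc', rfl⟩ := cp_exists_mul P _ (pc_comm P) htop g
  rw [(IsIrrCharacter.mul_ker θ.2 (hker y hy) c').2, (IsIrrCharacter.mul_ker θ'.2 (hker' y hy) c').2]
  have h1 := congrFun hϑfun ⟨c', hc'⟩
  have h2 := congrFun hϑ'fun ⟨c', hc'⟩
  rw [hϑeq] at h2
  rw [← h1, ← h2]

set_option maxHeartbeats 1600000 in
/-- **a block of `G = P C_G(P)` with defect group `P` has `p`-regular rank one** -/
theorem pc_blockRank [Fintype G] {p : ℕ} [hp : Fact p.Prime] (hM : Cfsg.IsPModular p M)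
    (P : Subgroup G) (hP : IsPGroup p P) (htop : P ⊔ Subgroup.centralizer (P : Set G) = ⊤)
    (B : Set (Cfsg.IrrCharacter G)) (hB : Cfsg.IsPBlock M B)
    (hD : Cfsg.IsDefectGroup p M B P) : Cfsg.blockRank p B = 1 := by
  classical
  haveI hPn := pc_normal P htop
  haveI : Fintype (Subgroup.centralizer (P : Set G)) := Fintype.ofFinite _
  haveI : Finite (Cfsg.IrrCharacter (Subgroup.centralizer (P : Set G))) := irr_finite
  haveI : Fintype (Cfsg.IrrCharacter (Subgroup.centralizer (P : Set G))) := Fintype.ofFinite _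
  obtain ⟨θ, hθ, hker⟩ := exists_mem_block_trivial_on hM P hP B hB
  have hdeg := degree_of_trivial_on_defectGroup hM P B hB hD θ hθ hker
  obtain ⟨ϑ, hϑfun, hpair, -, -, hst, -, hrank⟩ := pc_structure hM P hP htop θ hker hdeg
  have hBθ : B = Cfsg.blockOf M (θ : G → ℂ) := eq_blockOf_of_mem hM.2.1 B hB θ hθ
  rw [← hBθ] at hpair
  have hlo := eq_lyingOver_of_isBrauerPairOf hM P B _ hpair
  have hθ1 : (θ : G → ℂ) 1 ≠ 0 := IsIrrCharacter.apply_one_ne_zero θ.2
  have key : ∀ χ ∈ B, Cfsg.pRegularPart p (χ : G → ℂ) =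
      ((χ : G → ℂ) 1 / (θ : G → ℂ) 1) • Cfsg.pRegularPart p (θ : G → ℂ) := by
    intro χ hχ
    have hcons : ∀ ψ : Cfsg.IrrCharacter (Subgroup.centralizer (P : Set G)),
        Cfsg.classInner (fun c : Subgroup.centralizer (P : Set G) => (χ : G → ℂ) c)
          (ψ : Subgroup.centralizer (P : Set G) → ℂ) ≠ 0 →
        ψ ∈ Cfsg.blockOf M (ϑ : Subgroup.centralizer (P : Set G) → ℂ) := by
      intro ψ hψ
      have hχlo := hχ
      rw [hlo] at hχlo
      obtain ⟨ψ₀, hψ₀, hne₀⟩ := hχlo
      have hψ₀e : ψ₀ ∈ Cfsg.blockOf M (ϑ : Subgroup.centralizer (P : Set G) → ℂ) := by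
        obtain ⟨x, hx⟩ := (mem_orbitUnion_iff _ _ ψ₀).mp hψ₀
        rwa [(nact_eq_self_iff _ x _).mpr (hst x)] at hx
      obtain ⟨g, hg⟩ := conj_of_constituents (Subgroup.centralizer (P : Set G)) (χ : G → ℂ) χ.2
        (ψ₀ : Subgroup.centralizer (P : Set G) → ℂ) ψ₀.2 hne₀
        (ψ : Subgroup.centralizer (P : Set G) → ℂ) ψ.2 hψ
      have hψeq : ψ = conjIrr (Subgroup.centralizer (P : Set G)) g ψ₀ := Subtype.ext hg
      have h1 : conjIrr (Subgroup.centralizer (P : Set G)) g⁻¹ ψ = ψ₀ := by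
        rw [hψeq, conjIrr_conjIrr, mul_inv_cancel, conjIrr_one]
      rw [← (nact_eq_self_iff _ g⁻¹ _).mpr (hst g⁻¹), mem_nact_iff, h1]
      exact hψ₀e
    funext g
    rw [Pi.smul_apply, smul_eq_mul, pRegularPart_apply, pRegularPart_apply]
    by_cases hg : p ∣ orderOf g
    · rw [if_pos hg, if_pos hg, mul_zero]
    · rw [if_neg hg, if_neg hg]
      have hgC := pc_pRegular_mem P hP htop g hg
      have hcf : Cfsg.IsClassFunction (Subgroup.centralizer (P : Set G))
          (fun c : Subgroup.centralizer (P : Set G) => (χ : G → ℂ) c) :=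
        IsCharacter.isClassFunction (IsCharacter.restrict _ (IsIrrCharacter.isCharacter χ.2))
      have hexp := classFunction_expansion _ hcf
      have hval : (χ : G → ℂ) g = ∑ ψ : Cfsg.IrrCharacter (Subgroup.centralizer (P : Set G)),
          Cfsg.classInner (fun c : Subgroup.centralizer (P : Set G) => (χ : G → ℂ) c)
            (ψ : Subgroup.centralizer (P : Set G) → ℂ) *
            (ψ : Subgroup.centralizer (P : Set G) → ℂ) ⟨g, hgC⟩ := by
        have := congrFun hexp ⟨g, hgC⟩
        simp only [Finset.sum_apply, Pi.smul_apply, smul_eq_mul] at this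
        exact this
      have hval1 : (χ : G → ℂ) 1 = ∑ ψ : Cfsg.IrrCharacter (Subgroup.centralizer (P : Set G)),
          Cfsg.classInner (fun c : Subgroup.centralizer (P : Set G) => (χ : G → ℂ) c)
            (ψ : Subgroup.centralizer (P : Set G) → ℂ) *
            (ψ : Subgroup.centralizer (P : Set G) → ℂ) 1 := by
        have := congrFun hexp 1
        simp only [Finset.sum_apply, Pi.smul_apply, smul_eq_mul] at this
        exact this
      have hgreg : Cfsg.IsPRegular p (⟨g, hgC⟩ : Subgroup.centralizer (P : Set G)) := by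
        show ¬ p ∣ orderOf (⟨g, hgC⟩ : Subgroup.centralizer (P : Set G))
        rw [← Subgroup.orderOf_coe]
        exact hg
      have hterm : ∀ ψ : Cfsg.IrrCharacter (Subgroup.centralizer (P : Set G)),
          Cfsg.classInner (fun c : Subgroup.centralizer (P : Set G) => (χ : G → ℂ) c)
            (ψ : Subgroup.centralizer (P : Set G) → ℂ) *
            (ψ : Subgroup.centralizer (P : Set G) → ℂ) ⟨g, hgC⟩ =
          Cfsg.classInner (fun c : Subgroup.centralizer (P : Set G) => (χ : G → ℂ) c)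
            (ψ : Subgroup.centralizer (P : Set G) → ℂ) *
            (ψ : Subgroup.centralizer (P : Set G) → ℂ) 1 *
            ((ϑ : Subgroup.centralizer (P : Set G) → ℂ) ⟨g, hgC⟩ /
              (ϑ : Subgroup.centralizer (P : Set G) → ℂ) 1) := by
        intro ψ
        by_cases h0 : Cfsg.classInner (fun c : Subgroup.centralizer (P : Set G) => (χ : G → ℂ) c)
            (ψ : Subgroup.centralizer (P : Set G) → ℂ) = 0
        · rw [h0, zero_mul, zero_mul, zero_mul]
        · have hψe := hcons ψ h0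
          have hp' := pRegularPart_eq_smul_of_blockRank_one _ hrank ϑ ψ
            (mem_blockOf_self hM.2.1 ϑ) hψe
          have h1 := congrFun hp' ⟨g, hgC⟩
          rw [Pi.smul_apply, pRegularPart_of_isPRegular _ _ hgreg,
            pRegularPart_of_isPRegular _ _ hgreg, smul_eq_mul] at h1
          rw [h1]
          ring
      rw [hval, Finset.sum_congr rfl (fun ψ _ => hterm ψ), ← Finset.sum_mul, ← hval1]
      have e1 : (ϑ : Subgroup.centralizer (P : Set G) → ℂ) ⟨g, hgC⟩ = (θ : G → ℂ) g :=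
        congrFun hϑfun _
      have e2 : (ϑ : Subgroup.centralizer (P : Set G) → ℂ) 1 = (θ : G → ℂ) 1 :=
        congrFun hϑfun 1
      rw [e1, e2]
      ring
  -- the rank
  obtain ⟨v, hv⟩ : ∃ v : G → ℂ, v = Cfsg.pRegularPart p (θ : G → ℂ) := ⟨_, rfl⟩
  have hv0 : v ≠ 0 := by
    intro h0
    have h1 := congrFun h0 1
    rw [hv, pRegularPart_of_isPRegular _ _ isPRegular_one] at h1
    exact hθ1 h1
  have hspan : Submodule.span ℂ ((fun χ : Cfsg.IrrCharacter G =>
      Cfsg.pRegularPart p (χ : G → ℂ)) '' B) = Submodule.span ℂ {v} := by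
    apply le_antisymm
    · apply Submodule.span_le.mpr
      rintro _ ⟨χ, hχ, rfl⟩
      show Cfsg.pRegularPart p (χ : G → ℂ) ∈ Submodule.span ℂ {v}
      rw [key χ hχ, ← hv]
      exact Submodule.smul_mem _ _ (Submodule.subset_span rfl)
    · apply Submodule.span_le.mpr
      intro w hw
      rw [Set.mem_singleton_iff] at hw
      rw [hw, hv]
      exact Submodule.subset_span ⟨θ, hθ, rfl⟩
  unfold Cfsg.blockRank
  rw [hspan]
  exact finrank_span_singleton hv0

end Cfsg.Agent.Helper6
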