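import Mathlib
import Cfsg.Prelude.Def_Characters
import Cfsg.Prelude.Def_Blocks
import Cfsg.Prelude.Def_BrauerPairs
import Cfsg.Prelude.Def_BlockRank
import Cfsg.Agent.Helper6.PCGroupC
import Cfsg.Agent.Helper6.ThirdMain
import Cfsg.Agent.Helper6.SectionCountB
import Cfsg.Agent.Helper6.DefectOneTwoB
import Cfsg.Agent.Helper6.SecondMainC
import Cfsg.Agent.Helper6.InducedDefect

/-!
# Groups of the form `P C_G(P)`: the number of characters in a block with defect group `P`
-/

set_option autoImplicit false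
set_option linter.style.haveILetI false

namespace Cfsg.Agent.Helper6

open scoped ComplexConjugate

universe u

variable {G : Type u} [Group G] {M : Ideal Cfsg.AlgInt}

set_option maxHeartbeats 1600000 in
/-- the block of the restriction of the canonical character to the centralizer of an element of
`P` -/
theorem pc_section_block [Fintype G] {p : ℕ} [hp : Fact p.Prime] (hM : Cfsg.IsPModular p M)
    (P : Subgroup G) (hP : IsPGroup p P) (htop : P ⊔ Subgroup.centralizer (P : Set G) = ⊤)
    (θ : Cfsg.IrrCharacter G) (hker : ∀ x ∈ P, (θ : G → ℂ) x = (θ : G → ℂ) 1)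
    (hdeg : (Cfsg.charDegree (θ : G → ℂ)).factorization p = P.index.factorization p)
    (x : G) (hx : x ∈ P) :
    Cfsg.IsIrrCharacter (Subgroup.centralizer ({x} : Set G))
        (fun h : Subgroup.centralizer ({x} : Set G) => (θ : G → ℂ) h) ∧
      Cfsg.blockHeight p
        (Cfsg.blockOf M (fun h : Subgroup.centralizer ({x} : Set G) => (θ : G → ℂ) h))
        (fun h : Subgroup.centralizer ({x} : Set G) => (θ : G → ℂ) h) = 0 ∧
      Cfsg.blockRank p
        (Cfsg.blockOf M (fun h : Subgroup.centralizer ({x} : Set G) => (θ : G → ℂ) h)) = 1 := by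
  classical
  haveI hPn := pc_normal P htop
  haveI : Fintype (Subgroup.centralizer ({x} : Set G)) := Fintype.ofFinite _
  haveI : Fintype (Subgroup.centralizer (P : Set G)) := Fintype.ofFinite _
  have hCH : Subgroup.centralizer (P : Set G) ≤ Subgroup.centralizer ({x} : Set G) := by
    intro c hc
    rw [Subgroup.mem_centralizer_singleton_iff]
    exact (Subgroup.mem_centralizer_iff.mp hc x hx).symm
  have hres : Cfsg.IsIrrCharacter (Subgroup.centralizer ({x} : Set G))
      (fun h : Subgroup.centralizer ({x} : Set G) => (θ : G → ℂ) h) := by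
    apply isIrrCharacter_of_comp_irr (Subgroup.inclusion hCH)
      (IsCharacter.restrict _ (IsIrrCharacter.isCharacter θ.2))
    exact pc_restrict_irr P htop θ hker
  obtain ⟨ξ, hξ⟩ : ∃ ξ : Cfsg.IrrCharacter (Subgroup.centralizer ({x} : Set G)),
      ξ = ⟨_, hres⟩ := ⟨_, rfl⟩
  have hξfun : (ξ : Subgroup.centralizer ({x} : Set G) → ℂ) =
      (fun h : Subgroup.centralizer ({x} : Set G) => (θ : G → ℂ) h) := by rw [hξ]
  rw [← hξfun]
  obtain ⟨P', hP'def⟩ : ∃ P' : Subgroup (Subgroup.centralizer ({x} : Set G)),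
      P' = P.subgroupOf (Subgroup.centralizer ({x} : Set G)) := ⟨_, rfl⟩
  have hP' : IsPGroup p P' := by
    rw [hP'def]
    exact hP.comap_subtype
  have htop' : P' ⊔ Subgroup.centralizer (P' : Set (Subgroup.centralizer ({x} : Set G))) =
      ⊤ := by
    rw [eq_top_iff]
    intro h _
    obtain ⟨y, hy, c, hc, hyc⟩ := cp_exists_mul P _ (pc_comm P) htop (h : G)
    have hcH : c ∈ Subgroup.centralizer ({x} : Set G) := hCH hc
    have hyH : y ∈ Subgroup.centralizer ({x} : Set G) := by
      have : y = (h : G) * c⁻¹ := by rw [hyc]; group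
      rw [this]
      exact Subgroup.mul_mem _ h.2 (Subgroup.inv_mem _ hcH)
    have hhe : h = (⟨y, hyH⟩ : Subgroup.centralizer ({x} : Set G)) * ⟨c, hcH⟩ :=
      Subtype.ext hyc
    rw [hhe]
    apply Subgroup.mul_mem _ (Subgroup.mem_sup_left _) (Subgroup.mem_sup_right _)
    · rw [hP'def, Subgroup.mem_subgroupOf]
      exact hy
    · rw [Subgroup.mem_centralizer_iff]
      intro u hu
      apply Subtype.ext
      rw [hP'def] at hu
      exact Subgroup.mem_centralizer_iff.mp hc (u : G) (Subgroup.mem_subgroupOf.mp hu)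
  have hker' : ∀ u ∈ P', (ξ : Subgroup.centralizer ({x} : Set G) → ℂ) u =
      (ξ : Subgroup.centralizer ({x} : Set G) → ℂ) 1 := by
    intro u hu
    rw [hξfun]
    rw [hP'def] at hu
    exact hker (u : G) (Subgroup.mem_subgroupOf.mp hu)
  have hcd : Cfsg.charDegree (ξ : Subgroup.centralizer ({x} : Set G) → ℂ) =
      Cfsg.charDegree (θ : G → ℂ) := by
    rw [hξfun]
    rfl
  have hdeg' : (Cfsg.charDegree (ξ : Subgroup.centralizer ({x} : Set G) → ℂ)).factorization p =
      P'.index.factorization p := by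
    apply le_antisymm
    · obtain ⟨K, hKn, hKmem, hdpos, -, hdvd⟩ := exists_kernel_data ξ.2
      have hPK : P' ≤ K := fun u hu => (hKmem u).mpr (hker' u hu)
      have hdvd' := hdvd.trans (Subgroup.index_dvd_of_le hPK)
      exact (Nat.factorization_le_iff_dvd hdpos.ne' Subgroup.index_ne_zero_of_finite).mpr hdvd' p
    · rw [hcd, hdeg]
      have h1 : P'.index ∣ P.index := by
        rw [hP'def]
        exact Subgroup.relIndex_dvd_index_of_normal P _
      exact (Nat.factorization_le_iff_dvd Subgroup.index_ne_zero_of_finite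
        Subgroup.index_ne_zero_of_finite).mpr h1 p
  obtain ⟨-, -, -, -, hD', -, -, -⟩ := pc_structure hM P' hP' htop' ξ hker' hdeg'
  refine ⟨ξ.2, ?_, ?_⟩
  · exact blockHeight_eq_zero_of_degree hM P' _ ⟨ξ, rfl⟩ hD' ξ (mem_blockOf_self hM.2.1 ξ) hdeg'
  · exact pc_blockRank hM P' hP' htop' _ ⟨ξ, rfl⟩ hD'

end Cfsg.Agent.Helper6
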