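import Mathlib
import Cfsg.Prelude.Def_Characters
import Cfsg.Prelude.Def_Blocks
import Cfsg.Prelude.Def_BrauerPairs
import Cfsg.Prelude.Def_BlockRank
import Cfsg.Agent.Helper6.PCGroupD

/-!
# Groups of the form `P C_G(P)`: `k(B) = k(P)` for a block with defect group `P`
-/

set_option autoImplicit false
set_option linter.style.haveILetI false

namespace Cfsg.Agent.Helper6

open scoped ComplexConjugate

universe u

variable {G : Type u} [Group G] {M : Ideal Cfsg.AlgInt}

set_option maxHeartbeats 1600000 in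
/-- the contribution of a `p`-section to the number of characters of a block of `G = P C_G(P)`
with defect group `P` -/
theorem pc_section_sum [Fintype G] {p : ℕ} [hp : Fact p.Prime] (hM : Cfsg.IsPModular p M)
    (P : Subgroup G) (hP : IsPGroup p P) (htop : P ⊔ Subgroup.centralizer (P : Set G) = ⊤)
    (B : Set (Cfsg.IrrCharacter G)) (hB : Cfsg.IsPBlock M B)
    (hD : Cfsg.IsDefectGroup p M B P) (x : G) (hxp : ∃ k : ℕ, orderOf x = p ^ k) :
    (x ∈ P → ∑ᶠ b ∈ {b : Set (Cfsg.IrrCharacter (Subgroup.centralizer ({x} : Set G))) |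
        Cfsg.IsInducedBlock M (Subgroup.centralizer ({x} : Set G)) b B}, Cfsg.blockRank p b = 1) ∧
    (x ∉ P → ∑ᶠ b ∈ {b : Set (Cfsg.IrrCharacter (Subgroup.centralizer ({x} : Set G))) |
        Cfsg.IsInducedBlock M (Subgroup.centralizer ({x} : Set G)) b B}, Cfsg.blockRank p b = 0) := by
  classical
  haveI hPn := pc_normal P htop
  haveI : Fintype (Subgroup.centralizer ({x} : Set G)) := Fintype.ofFinite _
  refine ⟨fun hx => ?_, fun hx => ?_⟩
  · obtain ⟨θ, hθ, hker⟩ := exists_mem_block_trivial_on hM P hP B hB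
    have hdeg := degree_of_trivial_on_defectGroup hM P B hB hD θ hθ hker
    obtain ⟨hres, hh0, hrank⟩ := pc_section_block hM P hP htop θ hker hdeg x hx
    have hBθ : B = Cfsg.blockOf M (θ : G → ℂ) := eq_blockOf_of_mem hM.2.1 B hB θ hθ
    have hχ0 : Cfsg.blockHeight p (Cfsg.blockOf M (θ : G → ℂ)) (θ : G → ℂ) = 0 := by
      rw [← hBθ]
      exact blockHeight_eq_zero_of_degree hM P B hB hD θ hθ hdeg
    have hset : {b : Set (Cfsg.IrrCharacter (Subgroup.centralizer ({x} : Set G))) |
        Cfsg.IsInducedBlock M (Subgroup.centralizer ({x} : Set G)) b B} =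
        {Cfsg.blockOf M (fun h : Subgroup.centralizer ({x} : Set G) => (θ : G → ℂ) h)} := by
      ext b
      rw [Set.mem_ofPred_eq, Set.mem_singleton_iff]
      constructor
      · intro hind
        have he : Cfsg.InducedBlockDefined M _ b := ⟨B, hind⟩
        rw [hBθ] at hind
        exact (third_main_general hM _ θ hres hχ0 hh0 b he).mp hind
      · intro hb
        have hbblock : Cfsg.IsPBlock M b := by
          rw [hb]
          exact ⟨⟨_, hres⟩, rfl⟩
        have he := inducedBlockDefined_centralizer hM x hxp b hbblock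
        rw [hBθ]
        exact (third_main_general hM _ θ hres hχ0 hh0 b he).mpr hb
    rw [hset, finsum_mem_singleton, hrank]
  · have hset : {b : Set (Cfsg.IrrCharacter (Subgroup.centralizer ({x} : Set G))) |
        Cfsg.IsInducedBlock M (Subgroup.centralizer ({x} : Set G)) b B} = ∅ := by
      ext b
      simp only [Set.mem_ofPred_eq, Set.mem_empty_iff_false, iff_false]
      intro hind
      apply hx
      obtain ⟨D, hDb⟩ := exists_isDefectGroup hM.2.1 p b hind.1
      have hxH : x ∈ Subgroup.centralizer ({x} : Set G) := by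
        rw [Subgroup.mem_centralizer_singleton_iff]
      obtain ⟨Q, hQdef⟩ : ∃ Q : Subgroup (Subgroup.centralizer ({x} : Set G)),
          Q = Subgroup.zpowers ⟨x, hxH⟩ := ⟨_, rfl⟩
      have hQc : Q ≤ Subgroup.center (Subgroup.centralizer ({x} : Set G)) := by
        rw [hQdef, Subgroup.zpowers_le, Subgroup.mem_center_iff]
        intro g
        apply Subtype.ext
        exact Subgroup.mem_centralizer_singleton_iff.mp g.2
      haveI hQn : Q.Normal := by
        refine ⟨fun n hn g => ?_⟩
        have := Subgroup.mem_center_iff.mp (hQc hn) g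
        rw [this, mul_inv_cancel_right]
        exact hn
      have hQ : IsPGroup p Q := by
        obtain ⟨k, hk⟩ := hxp
        apply IsPGroup.of_card (n := k)
        rw [hQdef, Nat.card_zpowers, ← hk]
        exact Subgroup.orderOf_mk x hxH
      have hQD := normal_pSubgroup_le_defectGroup hM Q hQ b hind.1 D hDb
      obtain ⟨E, hE, hDE⟩ := exists_defectGroup_ge_of_induced hM _ b B hind D hDb
      have hPE : P ≤ E := normal_pSubgroup_le_defectGroup hM P hP B hB E hE
      have hcard : Nat.card E = Nat.card P := by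
        rw [card_defectGroup hM.2.1 p hM.2.2 B hB E hE, card_defectGroup hM.2.1 p hM.2.2 B hB P hD]
      have hEP : P = E := Subgroup.eq_of_le_of_card_ge hPE hcard.le
      rw [hEP]
      apply hDE
      refine ⟨⟨x, hxH⟩, hQD ?_, rfl⟩
      rw [hQdef]
      exact Subgroup.mem_zpowers _
    rw [hset, finsum_mem_empty]

set_option maxHeartbeats 1600000 in
/-- **`k(B) = k(P)`** for a block `B` of `G = P C_G(P)` with defect group `P` -/
theorem pc_card_block [Fintype G] {p : ℕ} [hp : Fact p.Prime] (hM : Cfsg.IsPModular p M)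
    (P : Subgroup G) (hP : IsPGroup p P) (htop : P ⊔ Subgroup.centralizer (P : Set G) = ⊤)
    (B : Set (Cfsg.IrrCharacter G)) (hB : Cfsg.IsPBlock M B)
    (hD : Cfsg.IsDefectGroup p M B P) : Nat.card B = Nat.card (ConjClasses P) := by
  classical
  haveI hPn := pc_normal P htop
  obtain ⟨X, -, hXp, hXrep⟩ := exists_section_reps p (1 : G) ⟨0, by simp⟩
  rw [card_block_eq_sum_blockRank hM B hB X hXp hXrep]
  have h1 : ∀ x ∈ X, (∑ᶠ b ∈ {b : Set (Cfsg.IrrCharacter (Subgroup.centralizer ({x} : Set G))) |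
        Cfsg.IsInducedBlock M (Subgroup.centralizer ({x} : Set G)) b B}, Cfsg.blockRank p b) =
      if x ∈ P then 1 else 0 := by
    intro x hx
    split_ifs with hxP
    · exact (pc_section_sum hM P hP htop B hB hD x (hXp x hx)).1 hxP
    · exact (pc_section_sum hM P hP htop B hB hD x (hXp x hx)).2 hxP
  rw [Finset.sum_congr rfl h1, Finset.sum_ite, Finset.sum_const_zero, add_zero, Finset.sum_const,
    smul_eq_mul, mul_one, ← Nat.card_eq_finsetCard]
  apply Nat.card_congr
  refine Equiv.ofBijective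
    (fun x => ConjClasses.mk (⟨x.1, (Finset.mem_filter.mp x.2).2⟩ : P)) ⟨?_, ?_⟩
  · intro x x' hxx
    have h2 : IsConj (⟨x.1, (Finset.mem_filter.mp x.2).2⟩ : P)
        (⟨x'.1, (Finset.mem_filter.mp x'.2).2⟩ : P) := ConjClasses.mk_eq_mk_iff_isConj.mp hxx
    have h3 : IsConj (x.1 : G) (x'.1 : G) :=
      (cp_isConj_iff P _ (pc_comm P) htop _ _).mpr h2
    obtain ⟨y, -, hy⟩ := hXrep x.1 (hXp x.1 (Finset.mem_filter.mp x.2).1)
    have e1 := hy x.1 ⟨(Finset.mem_filter.mp x.2).1, IsConj.refl _⟩
    have e2 := hy x'.1 ⟨(Finset.mem_filter.mp x'.2).1, h3⟩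
    exact Subtype.ext (e1.trans e2.symm)
  · intro c
    obtain ⟨u, rfl⟩ := ConjClasses.mk_surjective c
    have hup : ∃ k : ℕ, orderOf (u : G) = p ^ k := by
      obtain ⟨k, hk⟩ := (IsPGroup.iff_orderOf.mp hP) u
      exact ⟨k, by rw [Subgroup.orderOf_coe, hk]⟩
    obtain ⟨y, ⟨hyX, hyc⟩, -⟩ := hXrep (u : G) hup
    have hyP : y ∈ P := by
      obtain ⟨g, hg⟩ := isConj_iff.mp hyc
      rw [← hg]
      exact hPn.conj_mem _ u.2 g
    refine ⟨⟨y, Finset.mem_filter.mpr ⟨hyX, hyP⟩⟩, ?_⟩
    apply ConjClasses.mk_eq_mk_iff_isConj.mpr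
    exact (cp_isConj_iff P _ (pc_comm P) htop ⟨y, hyP⟩ u).mp hyc.symm

end Cfsg.Agent.Helper6
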