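import Mathlib
import Cfsg.Prelude.Def_Characters
import Cfsg.Prelude.Def_Blocks
import Cfsg.Prelude.Def_BlockRank
import Cfsg.Agent.Helper6.PCCharA
import Cfsg.Agent.Helper6.PCGroupE
import Cfsg.Agent.Helper6.RankOneA
import Cfsg.Agent.Helper6.SecondMainD
import Cfsg.Agent.Helper6.BrauerIdem
import Cfsg.Agent.Helper6.Gagola2
import Cfsg.Agent.Helper6.IrrCount

/-!
# The irreducible characters of a block of `G = D C_G(D)` with defect group `D`
-/

namespace Cfsg.Agent.Helper6

open scoped ComplexConjugate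

universe u

variable {G : Type u} [Group G] {M : Ideal Cfsg.AlgInt}

/-- The "product form" of a class function relative to `ζ` on `D` and `χ` on `G`. -/
def PCForm (p : ℕ) (D : Subgroup G) (χ : G → ℂ) (θ : G → ℂ) (ζ : D → ℂ) : Prop :=
  (∀ (y : D) (x : G), ¬ p ∣ orderOf x → Commute (y : G) x →
      θ ((y : G) * x) = ζ y * χ x) ∧
    (∀ z : G, (∀ y : G, Cfsg.IsPPart p z y → y ∉ D) → θ z = 0)

/-- A function of product form is determined by `ζ`. -/
theorem PCForm.ext [Finite G] {p : ℕ} [hp : Fact p.Prime] {D : Subgroup G} {χ θ θ' : G → ℂ}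
    {ζ : D → ℂ} (h : PCForm p D χ θ ζ) (h' : PCForm p D χ θ' ζ) : θ = θ' := by
  funext z
  obtain ⟨y, hy⟩ := exists_isPPart p z
  by_cases hyD : y ∈ D
  · obtain ⟨x, hyx, hc, -, hx⟩ := hy
    rw [← hyx]
    exact (h.1 ⟨y, hyD⟩ x hx hc).trans (h'.1 ⟨y, hyD⟩ x hx hc).symm
  · have hall : ∀ y' : G, Cfsg.IsPPart p z y' → y' ∉ D := by
      intro y' hy'
      rw [isPPart_unique p hy' hy]
      exact hyD
    rw [h.2 z hall, h'.2 z hall]

/-- the unique defect group of a block with a normal defect group -/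
theorem defectGroup_eq_of_normal [Finite G] {p : ℕ} [hp : Fact p.Prime]
    (hM : Cfsg.IsPModular p M) (B : Set (Cfsg.IrrCharacter G)) (hB : Cfsg.IsPBlock M B)
    (D : Subgroup G) [hDn : D.Normal] (hBD : Cfsg.IsDefectGroup p M B D) (D' : Subgroup G)
    (hD' : Cfsg.IsDefectGroup p M B D') : D' = D := by
  have hDp : IsPGroup p D := by
    obtain ⟨g, -, S, rfl⟩ := hBD
    exact S.isPGroup'.map _
  have hle := normal_pSubgroup_le_defectGroup hM D hDp B hB D' hD'
  have h1 := card_defectGroup hM.2.1 p hM.2.2 B hB D hBD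
  have h2 := card_defectGroup hM.2.1 p hM.2.2 B hB D' hD'
  exact (Subgroup.eq_of_le_of_card_ge hle (by rw [h1, h2])).symm

/-- members of a block with normal defect group `D` vanish at the elements whose `p`-part is not
in `D` -/
theorem vanish_off_normal_defect [Finite G] {p : ℕ} [hp : Fact p.Prime]
    (hM : Cfsg.IsPModular p M) (B : Set (Cfsg.IrrCharacter G)) (hB : Cfsg.IsPBlock M B)
    (D : Subgroup G) [hDn : D.Normal] (hBD : Cfsg.IsDefectGroup p M B D)
    (θ : Cfsg.IrrCharacter G) (hθ : θ ∈ B) (z : G)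
    (hz : ∀ y : G, Cfsg.IsPPart p z y → y ∉ D) : (θ : G → ℂ) z = 0 := by
  obtain ⟨y, hy⟩ := exists_isPPart p z
  apply char_vanish_off_defect hM θ z y hy
  intro D' hD'
  have hBθ : B = Cfsg.blockOf M (θ : G → ℂ) := eq_blockOf_of_mem hM.2.1 B hB θ hθ
  rw [← hBθ] at hD'
  rw [defectGroup_eq_of_normal hM B hB D hBD D' hD']
  exact hz y hy

set_option maxHeartbeats 1600000 in
/-- **the members of a block of `G = D C_G(D)` with defect group `D` have product form** -/
theorem pc_char_form [Fintype G] {p : ℕ} [hp : Fact p.Prime] (hM : Cfsg.IsPModular p M)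
    (D : Subgroup G) (hD : IsPGroup p D) (hG : D ⊔ Subgroup.centralizer (D : Set G) = ⊤)
    (B : Set (Cfsg.IrrCharacter G)) (hB : Cfsg.IsPBlock M B)
    (hBD : Cfsg.IsDefectGroup p M B D) (χ : Cfsg.IrrCharacter G) (hχ : χ ∈ B)
    (hχD : ∀ y ∈ D, (χ : G → ℂ) y = (χ : G → ℂ) 1) (θ : Cfsg.IrrCharacter G) (hθ : θ ∈ B) :
    ∃ ζ : Cfsg.IrrCharacter D, PCForm p D (χ : G → ℂ) (θ : G → ℂ) (ζ : D → ℂ) := by
  classical
  haveI hDn := pc_normal D hG
  have hθchar := IsIrrCharacter.isCharacter θ.2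
  have hχchar := IsIrrCharacter.isCharacter χ.2
  have hθ1 : (θ : G → ℂ) 1 ≠ 0 := IsIrrCharacter.apply_one_ne_zero θ.2
  have hχ1 : (χ : G → ℂ) 1 ≠ 0 := IsIrrCharacter.apply_one_ne_zero χ.2
  -- an irreducible constituent of the restriction
  have hres : Cfsg.IsCharacter D (fun d : D => (θ : G → ℂ) d) := IsCharacter.restrict D hθchar
  have hresne : (fun d : D => (θ : G → ℂ) d) ≠ 0 := by
    intro h0
    apply hθ1
    have := congrFun h0 1
    simpa using this
  obtain ⟨ζ, hζ, hconst⟩ := exists_irr_constituent hres hresne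
  -- all conjugates of ζ equal ζ
  have hconj : ∀ g : G, conjFun D ζ g = ζ := by
    intro g
    obtain ⟨d, hd, c, hc, rfl⟩ := cp_exists_mul D _ (pc_comm D) hG g
    funext y
    show ζ ⟨d * c * (y : G) * (d * c)⁻¹, _⟩ = ζ y
    have hcy : c * (y : G) = (y : G) * c :=
      ((Subgroup.mem_centralizer_iff.mp hc) (y : G) y.2).symm
    have heq : (⟨d * c * (y : G) * (d * c)⁻¹, hDn.conj_mem y y.2 (d * c)⟩ : D) =
        ⟨d, hd⟩ * y * (⟨d, hd⟩ : D)⁻¹ := by
      apply Subtype.ext
      show d * c * (y : G) * (d * c)⁻¹ = d * (y : G) * d⁻¹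
      rw [mul_inv_rev, mul_assoc d c, hcy]
      group
    rw [heq]
    exact IsCharacter.isClassFunction (IsIrrCharacter.isCharacter hζ) y ⟨d, hd⟩
  -- Clifford
  have hcl := clifford D (θ : G → ℂ) θ.2 ζ hζ hconst
  have hset : {ψ : D → ℂ | ∃ g : G, ψ = conjFun D ζ g} = {ζ} := by
    ext ψ
    simp only [Set.mem_ofPred_eq, Set.mem_singleton_iff]
    constructor
    · rintro ⟨g, rfl⟩
      exact hconj g
    · intro h
      exact ⟨1, by rw [h, hconj 1]⟩
  rw [hset, finsum_mem_singleton] at hcl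
  set e := Cfsg.classInner (fun d : D => (θ : G → ℂ) d) ζ with he
  -- isotypic
  have hiso : ∀ φ : D → ℂ, Cfsg.IsIrrCharacter D φ → φ ≠ ζ →
      ¬ Cfsg.IsCharacter D ((fun d : D => (θ : G → ℂ) (d : G)) - φ) := by
    intro φ hφ hne hchar
    obtain ⟨n, hn⟩ := classInner_char_char_nat hchar (IsIrrCharacter.isCharacter hφ)
    rw [classInner_sub_left, hcl, classInner_smul_left, classInner_irr_ne hζ hφ (Ne.symm hne),
      classInner_irr_self hφ, mul_zero, zero_sub] at hn
    have h1 : ((n : ℂ) + 1) = 0 := by rw [← hn]; ring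
    have h2 : ((n + 1 : ℕ) : ℂ) = 0 := by push_cast; exact h1
    exact Nat.succ_ne_zero n (by exact_mod_cast h2)
  have hζ1 : ζ 1 ≠ 0 := IsIrrCharacter.apply_one_ne_zero hζ
  -- the rank one relation
  have hl := pc_blockRank hM D hD hG B hB hBD
  have hrk := pRegularPart_eq_smul_of_blockRank_one B hl χ θ hχ hθ
  have hregval : ∀ x : G, ¬ p ∣ orderOf x →
      (θ : G → ℂ) x = ((θ : G → ℂ) 1 / (χ : G → ℂ) 1) * (χ : G → ℂ) x := by
    intro x hx
    have := congrFun hrk x
    unfold Cfsg.pRegularPart at this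
    simp only [Pi.smul_apply, smul_eq_mul] at this
    rw [if_pos (show Cfsg.IsPRegular p x from hx), if_pos (show Cfsg.IsPRegular p x from hx)] at this
    exact this
  set c' : ℂ := (θ : G → ℂ) 1 / ((χ : G → ℂ) 1 * ζ 1) with hc'
  -- values on products
  have hprod : ∀ (y : D) (x : G), ¬ p ∣ orderOf x →
      (θ : G → ℂ) ((y : G) * x) = (ζ y * c') * (χ : G → ℂ) x := by
    intro y x hx
    have hxC := pc_pRegular_mem D hD hG x hx
    have hxcomm : ∀ d ∈ D, d * x = x * d := fun d hd =>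
      (Subgroup.mem_centralizer_iff.mp hxC) d hd
    rw [char_mul_of_isotypic hθchar D x hxcomm ζ hζ hiso y, hregval x hx, hc']
    field_simp
  have hvanθ := vanish_off_normal_defect hM B hB D hBD θ hθ
  have hvanχ := vanish_off_normal_defect hM B hB D hBD χ hχ
  have hprodχ : ∀ (y : D) (x : G), ¬ p ∣ orderOf x →
      (χ : G → ℂ) ((y : G) * x) = (fun _ : D => (1 : ℂ)) y * (χ : G → ℂ) x := by
    intro y x hx
    have hxC := pc_pRegular_mem D hD hG x hx
    have hyx : (y : G) * x = x * (y : G) := (Subgroup.mem_centralizer_iff.mp hxC) (y : G) y.2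
    rw [hyx, IsCharacter.apply_mul_of_apply_eq_one hχchar (hχD (y : G) y.2) x, one_mul]
  have hregC : ∀ g : G, ¬ p ∣ orderOf g → g ∈ Subgroup.centralizer (D : Set G) :=
    fun g hg => pc_pRegular_mem D hD hG g hg
  have hsumθ := sum_mul_conj_of_pc_form D hD hregC (θ : G → ℂ) (fun y => ζ y * c')
    (χ : G → ℂ) hprod hvanθ
  have hsumχ := sum_mul_conj_of_pc_form D hD hregC (χ : G → ℂ) (fun _ => (1 : ℂ))
    (χ : G → ℂ) hprodχ hvanχ
  -- norms
  have hG0 : (Nat.card G : ℂ) ≠ 0 := by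
    have : 0 < Nat.card G := Nat.card_pos
    exact_mod_cast this.ne'
  have hD0 : (Nat.card D : ℂ) ≠ 0 := by
    have : 0 < Nat.card D := Nat.card_pos
    exact_mod_cast this.ne'
  have hnθ : ∑ g : G, (θ : G → ℂ) g * conj ((θ : G → ℂ) g) = (Nat.card G : ℂ) := by
    have := classInner_irr_self θ.2
    rw [classInner_def] at this
    field_simp at this
    exact this
  have hnχ : ∑ g : G, (χ : G → ℂ) g * conj ((χ : G → ℂ) g) = (Nat.card G : ℂ) := by
    have := classInner_irr_self χ.2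
    rw [classInner_def] at this
    field_simp at this
    exact this
  have hnζ : ∑ y : D, ζ y * conj (ζ y) = (Nat.card D : ℂ) := by
    have := classInner_irr_self hζ
    rw [classInner_def] at this
    field_simp at this
    exact this
  have hA : ∑ y : D, (ζ y * c') * conj (ζ y * c') = (c' * conj c') * (Nat.card D : ℂ) := by
    rw [← hnζ, Finset.mul_sum]
    apply Finset.sum_congr rfl
    intro y _
    rw [map_mul]
    ring
  have hB1 : ∑ y : D, (fun _ : D => (1 : ℂ)) y * conj ((fun _ : D => (1 : ℂ)) y) =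
      (Nat.card D : ℂ) := by
    simp
  rw [hnθ, hA] at hsumθ
  rw [hnχ, hB1] at hsumχ
  have hcc : c' * conj c' = 1 := by
    have h3 : (Nat.card G : ℂ) = (c' * conj c') * (Nat.card G : ℂ) := by
      conv_lhs => rw [hsumθ]
      conv_rhs => rw [hsumχ]
      ring
    have h4 : (c' * conj c' - 1) * (Nat.card G : ℂ) = 0 := by
      rw [sub_mul, one_mul, ← h3, sub_self]
    rcases mul_eq_zero.mp h4 with h | h
    · exact sub_eq_zero.mp h
    · exact absurd h hG0
  -- c' is a positive real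
  obtain ⟨n₁, hn₁⟩ := IsCharacter.apply_one hθchar
  obtain ⟨n₂, hn₂⟩ := IsCharacter.apply_one hχchar
  obtain ⟨n₃, hn₃⟩ := IsCharacter.apply_one (IsIrrCharacter.isCharacter hζ)
  have hc'real : c' = ((n₁ : ℝ) / ((n₂ : ℝ) * (n₃ : ℝ)) : ℝ) := by
    rw [hc', hn₁, hn₂, hn₃]
    push_cast
    rfl
  have hn₁0 : (0 : ℝ) < n₁ := by
    have : n₁ ≠ 0 := by
      rintro rfl
      exact hθ1 (by rw [hn₁]; simp)
    exact_mod_cast Nat.pos_of_ne_zero this
  have hn₂0 : (0 : ℝ) < n₂ := by
    have : n₂ ≠ 0 := by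
      rintro rfl
      exact hχ1 (by rw [hn₂]; simp)
    exact_mod_cast Nat.pos_of_ne_zero this
  have hn₃0 : (0 : ℝ) < n₃ := by
    have : n₃ ≠ 0 := by
      rintro rfl
      exact hζ1 (by rw [hn₃]; simp)
    exact_mod_cast Nat.pos_of_ne_zero this
  set r : ℝ := (n₁ : ℝ) / ((n₂ : ℝ) * (n₃ : ℝ)) with hr
  have hrpos : 0 < r := by positivity
  have hc'1 : c' = 1 := by
    rw [hc'real, Complex.conj_ofReal] at hcc
    have h5 : r * r = 1 := by exact_mod_cast hcc
    have h6 : r = 1 := by nlinarith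
    rw [hc'real, h6]
    simp
  refine ⟨⟨ζ, hζ⟩, ?_, hvanθ⟩
  intro y x hx _
  rw [hprod y x hx, hc'1, mul_one]

end Cfsg.Agent.Helper6
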