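import Mathlib
import Cfsg.Prelude.Def_Characters
import Cfsg.Agent.Helper6.PConjB
import Cfsg.Agent.Helper6.TruncBlock2
import Cfsg.Agent.Helper6.BlockPart
import Cfsg.Agent.Helper6.DegreeDvd
import Cfsg.Agent.Helper6.CharBasic

/-!
# Orbit sums and the divisibility `|orbit| · χ(1) ∣ |G|` for integral orbit averages
-/

set_option autoImplicit false
set_option linter.style.haveILetI false
set_option linter.unusedSectionVars false

namespace Cfsg.Agent.Helper6.PConj

open scoped ComplexConjugate

universe u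

/-- summing over a group acting on a point is the stabilizer order times the orbit sum -/
theorem sum_smul_eq_card_stabilizer_nsmul {L X M : Type*} [Group L] [Fintype L] [MulAction L X]
    [DecidableEq X] [AddCommMonoid M] (F : X → M) (x : X) :
    ∑ l : L, F (l • x) = Nat.card (MulAction.stabilizer L x) •
      ∑ y ∈ Finset.univ.image (fun l : L => l • x), F y := by
  classical
  rw [Finset.sum_comp F (fun l : L => l • x), Finset.smul_sum]
  apply Finset.sum_congr rfl
  intro y hy
  obtain ⟨l₀, -, rfl⟩ := Finset.mem_image.mp hy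
  congr 1
  rw [← Fintype.card_subtype, ← Nat.card_eq_fintype_card]
  apply Nat.card_congr
  refine ⟨fun l => ⟨l₀⁻¹ * l.1, ?_⟩, fun s => ⟨l₀ * s.1, ?_⟩, ?_, ?_⟩
  · rw [MulAction.mem_stabilizer_iff, mul_smul, l.2, ← mul_smul, inv_mul_cancel, one_smul]
  · have := MulAction.mem_stabilizer_iff.1 s.2
    change (l₀ * s.1) • x = l₀ • x
    rw [mul_smul, this]
  · intro l
    apply Subtype.ext
    simp
  · intro s
    apply Subtype.ext
    simp

theorem card_image_smul {L X : Type*} [Group L] [Fintype L] [MulAction L X]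
    [DecidableEq X] (x : X) :
    (Finset.univ.image (fun l : L => l • x)).card = Nat.card (MulAction.orbit L x) := by
  classical
  rw [Nat.card_coe_set_eq, ← Set.ncard_coe_finset]
  congr 1
  ext y
  simp [MulAction.mem_orbit_iff]

theorem mem_image_smul {L X : Type*} [Group L] [Fintype L] [MulAction L X]
    [DecidableEq X] (x y : X) :
    y ∈ Finset.univ.image (fun l : L => l • x) ↔ y ∈ MulAction.orbit L x := by
  simp [MulAction.mem_orbit_iff]

variable {G : Type u} [Group G] [Finite G]

theorem isClassFunction_comp_pow' {χ : G → ℂ} (hχ : Cfsg.IsClassFunction G χ) (j : ℕ) :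
    Cfsg.IsClassFunction G (fun x => χ (x ^ j)) := by
  intro g h
  change χ ((h * g * h⁻¹) ^ j) = χ (g ^ j)
  rw [conj_pow]
  exact hχ _ _

theorem classInner_galSmul [Fintype G] (χ : Cfsg.IrrCharacter G) (k : (ZMod (Nat.card G))ˣ) :
    Cfsg.classInner (χ : G → ℂ) ((k • χ : Cfsg.IrrCharacter G) : G → ℂ) =
      if k • χ = χ then 1 else 0 := by
  split_ifs with hk
  · rw [hk]
    exact classInner_irr_self χ.2
  · apply classInner_irr_ne χ.2 (k • χ).2
    intro h
    exact hk (Subtype.ext h.symm)

/-- **Part 1, abstractly**: if the average of `χ` over a subgroup `Q` of Galois conjugations is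
integral valued then `|Q • χ| · χ(1)` divides `|G|`. -/
theorem relIndex_mul_charDegree_dvd (Q : Subgroup (ZMod (Nat.card G))ˣ) [Fintype Q]
    (χ : Cfsg.IrrCharacter G)
    (hβ : ∀ x : G, ∃ β : ℂ, IsIntegral ℤ β ∧
      ∑ k : Q, (χ : G → ℂ) (x ^ ((k : (ZMod (Nat.card G))ˣ) : ZMod (Nat.card G)).val) =
        (Nat.card Q : ℂ) * β) :
    (MulAction.stabilizer (ZMod (Nat.card G))ˣ χ).relIndex Q * Cfsg.charDegree (χ : G → ℂ) ∣
      Nat.card G := by
  classical
  haveI := Fintype.ofFinite G
  haveI : NeZero (Nat.card G) := ⟨Nat.card_pos.ne'⟩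
  choose β hβint hβeq using hβ
  have hQ0 : (Nat.card Q : ℂ) ≠ 0 := by exact_mod_cast Nat.card_pos.ne'
  have hcf : Cfsg.IsClassFunction G (χ : G → ℂ) :=
    IsCharacter.isClassFunction (IsIrrCharacter.isCharacter χ.2)
  -- the averaged function
  have hβcf : Cfsg.IsClassFunction G (fun x => conj (β x)) := by
    intro g h
    have e1 : β (h * g * h⁻¹) = β g := by
      apply mul_left_cancel₀ hQ0
      rw [← hβeq, ← hβeq]
      apply Finset.sum_congr rfl
      intro k _
      exact isClassFunction_comp_pow' hcf _ g h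
    change conj (β (h * g * h⁻¹)) = conj (β g)
    rw [e1]
  have hβint' : ∀ g, IsIntegral ℤ (conj (β g)) := by
    intro g
    exact (hβint g).map (starRingEnd ℂ).toIntAlgHom
  obtain ⟨b, hbint, hb⟩ := isIntegral_sum_classFunction_mul_div (fun x => conj (β x)) hβcf hβint' χ.2
  -- compute the sum
  set t := (MulAction.stabilizer (ZMod (Nat.card G))ˣ χ).relIndex Q with ht
  have horb : Nat.card (MulAction.orbit Q χ) = t := card_orbit_subgroup Q χ
  have hcard : Nat.card Q = t * Nat.card (MulAction.stabilizer Q χ) := by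
    have h1 := (MulAction.stabilizer Q χ).index_mul_card
    rw [MulAction.index_stabilizer, ← Nat.card_coe_set_eq, horb] at h1
    exact h1.symm
  have hsum : (Nat.card Q : ℂ) * ∑ x : G, conj (β x) * (χ : G → ℂ) x =
      (Nat.card G : ℂ) * (Nat.card (MulAction.stabilizer Q χ) : ℂ) := by
    have e1 : ∀ x : G, (Nat.card Q : ℂ) * (conj (β x) * (χ : G → ℂ) x) =
        ∑ k : Q, (χ : G → ℂ) x * conj (((k.1 • χ : Cfsg.IrrCharacter G) : G → ℂ) x) := by
      intro x
      have e2 : (Nat.card Q : ℂ) * conj (β x) = conj ((Nat.card Q : ℂ) * β x) := by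
        rw [map_mul, Complex.conj_natCast]
      rw [← mul_assoc, e2, ← hβeq, map_sum, Finset.sum_mul]
      apply Finset.sum_congr rfl
      intro k _
      rw [mul_comm]
      rfl
    rw [Finset.mul_sum, Finset.sum_congr rfl (fun x _ => e1 x), Finset.sum_comm]
    have e3 : ∀ k : Q, ∑ x : G, (χ : G → ℂ) x *
        conj (((k.1 • χ : Cfsg.IrrCharacter G) : G → ℂ) x) =
        (Nat.card G : ℂ) * (if k.1 • χ = χ then 1 else 0) := by
      intro k
      rw [← classInner_galSmul χ k.1]
      unfold Cfsg.classInner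
      rw [← mul_assoc, mul_inv_cancel₀ (by exact_mod_cast Nat.card_pos.ne'), one_mul]
    rw [Finset.sum_congr rfl (fun k _ => e3 k), ← Finset.mul_sum]
    congr 1
    rw [Finset.sum_ite, Finset.sum_const_zero, add_zero, Finset.sum_const, nsmul_eq_mul, mul_one]
    norm_cast
    rw [← Fintype.card_subtype, ← Nat.card_eq_fintype_card]
    apply Nat.card_congr
    exact Equiv.subtypeEquivRight (fun k => by
      rw [MulAction.mem_stabilizer_iff]
      rfl)
  have hd : (Cfsg.charDegree (χ : G → ℂ) : ℂ) = (χ : G → ℂ) 1 :=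
    charDegree_cast_of_isCharacter (IsIrrCharacter.isCharacter χ.2)
  have hS0 : (Nat.card (MulAction.stabilizer Q χ) : ℂ) ≠ 0 := by
    exact_mod_cast Nat.card_pos.ne'
  have hfinal : ((Nat.card G : ℕ) : ℂ) = ((t * Cfsg.charDegree (χ : G → ℂ) : ℕ) : ℂ) * b := by
    rw [hb, hcard] at hsum
    push_cast at hsum ⊢
    rw [hd]
    apply mul_left_cancel₀ hS0
    linear_combination (-1 : ℂ) * hsum
  refine nat_dvd_of_isIntegral _ _ ?_ b hbint hfinal
  apply mul_ne_zero
  · rw [ht]; exact relIndex_ne_zero' _ _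
  · intro h0
    rw [h0] at hd
    obtain ⟨a, ha0, ha⟩ := IsIrrCharacter.apply_one_pos χ.2
    rw [ha] at hd
    have : (0 : ℕ) = a := by exact_mod_cast hd
    omega

end Cfsg.Agent.Helper6.PConj
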