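import Mathlib
import Cfsg.Prelude.Def_Characters
import Cfsg.Agent.Helper6.GaloisConj
import Cfsg.Agent.Helper6.Induced

/-!
# The `p'`-part power map is a homomorphism on nilpotent groups, and `x ↦ χ(x_{p'})` is a
generalized character
-/

set_option autoImplicit false
set_option linter.style.haveILetI false
set_option linter.unusedSectionVars false

namespace Cfsg.Agent.Helper6.PConj

universe u

theorem pow_mul_of_prime_pow_card {P : Type*} [Group P] [Finite P] (q : ℕ) (hq : q.Prime) (k : ℕ)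
    (hP : Nat.card P = q ^ k) (A B m₁ : ℕ) (hcop : A.Coprime B) (hAB : Nat.card P ∣ A * B)
    (h0 : A ∣ m₁) (h1 : m₁ ≡ 1 [MOD B]) (z w : P) : (z * w) ^ m₁ = z ^ m₁ * w ^ m₁ := by
  by_cases hqA : q ∣ A
  · have hqB : (q ^ k).Coprime B := by
      apply Nat.Coprime.pow_left
      exact Nat.Coprime.coprime_dvd_left hqA hcop
    have hdvd : Nat.card P ∣ m₁ := by
      rw [hP] at hAB ⊢
      exact (hqB.dvd_of_dvd_mul_right hAB).trans h0
    have hone : ∀ z : P, z ^ m₁ = 1 := by
      intro z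
      obtain ⟨c, hc⟩ := hdvd
      rw [hc, pow_mul, pow_card_eq_one', one_pow]
    rw [hone, hone, hone, one_mul]
  · have hqA' : (q ^ k).Coprime A := by
      apply Nat.Coprime.pow_left
      exact (Nat.Prime.coprime_iff_not_dvd hq).2 hqA
    have hdvd : Nat.card P ∣ B := by
      rw [hP] at hAB ⊢
      exact hqA'.dvd_of_dvd_mul_left hAB
    have hid : ∀ z : P, z ^ m₁ = z := by
      intro z
      have h2 : m₁ ≡ 1 [MOD orderOf z] := h1.of_dvd ((orderOf_dvd_natCard z).trans hdvd)
      have := (pow_eq_pow_iff_modEq (x := z)).2 h2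
      rwa [pow_one] at this
    rw [hid, hid, hid]

theorem pow_mul_of_nilpotent {E : Type*} [Group E] [Finite E] (hnil : Group.IsNilpotent E)
    (A B m₁ : ℕ) (hcop : A.Coprime B) (hAB : Nat.card E ∣ A * B) (h0 : A ∣ m₁)
    (h1 : m₁ ≡ 1 [MOD B]) (x y : E) : (x * y) ^ m₁ = x ^ m₁ * y ^ m₁ := by
  obtain ⟨e⟩ := ((Group.isNilpotent_of_finite_tfae (G := E)).out 0 4).1 hnil
  obtain ⟨f, rfl⟩ := e.surjective x
  obtain ⟨f', rfl⟩ := e.surjective y
  rw [← map_mul, ← map_pow, ← map_pow, ← map_pow, ← map_mul]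
  congr 1
  funext q P
  simp only [Pi.mul_apply, Pi.pow_apply]
  have hq : (q : ℕ).Prime := Nat.prime_of_mem_primeFactors q.2
  haveI : Fact (q : ℕ).Prime := ⟨hq⟩
  obtain ⟨k, hk⟩ := IsPGroup.iff_card.1 P.2
  exact pow_mul_of_prime_pow_card q hq k hk A B m₁ hcop
    ((Subgroup.card_subgroup_dvd_card _).trans hAB) h0 h1 _ _

/-- the power map as a homomorphism of a nilpotent group -/
noncomputable def nilpPowHom {E : Type*} [Group E] [Finite E] (hnil : Group.IsNilpotent E)
    (A B m₁ : ℕ) (hcop : A.Coprime B) (hAB : Nat.card E ∣ A * B) (h0 : A ∣ m₁)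
    (h1 : m₁ ≡ 1 [MOD B]) : E →* E where
  toFun x := x ^ m₁
  map_one' := one_pow _
  map_mul' := pow_mul_of_nilpotent hnil A B m₁ hcop hAB h0 h1

variable {G : Type u} [Group G]

/-- `x ↦ χ(x^{m₁})`, for `m₁ ≡ 0 mod A`, `≡ 1 mod B`, `|G| = AB`, is a generalized character. -/
theorem isGeneralizedCharacter_comp_pow_part [Fintype G] {χ : G → ℂ} (hχ : Cfsg.IsCharacter G χ)
    (A B m₁ : ℕ) (hcop : A.Coprime B) (hG : Nat.card G = A * B) (h0 : A ∣ m₁)
    (h1 : m₁ ≡ 1 [MOD B]) : Cfsg.IsGeneralizedCharacter G (fun g => χ (g ^ m₁)) := by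
  classical
  apply brauer_characterization
  · intro g h
    have hcf := IsCharacter.isClassFunction hχ
    change χ ((h * g * h⁻¹) ^ m₁) = χ (g ^ m₁)
    rw [conj_pow]
    exact hcf _ _
  · intro E p hp hE
    haveI : Fintype E := Fintype.ofFinite E
    have hnil := IsElementary.isNilpotent hp hE
    have hAB : Nat.card E ∣ A * B := by
      rw [← hG]
      exact Subgroup.card_subgroup_dvd_card E
    have h := IsCharacter.comp_hom (E.subtype.comp (nilpPowHom hnil A B m₁ hcop hAB h0 h1)) hχ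
    exact IsGeneralizedCharacter.of_isCharacter h

end Cfsg.Agent.Helper6.PConj
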