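import Mathlib
import Cfsg.Prelude.Def_Characters
import Cfsg.Prelude.Def_Blocks
import Cfsg.Agent.Helper6.PConjB
import Cfsg.Agent.Helper6.PConjD
import Cfsg.Agent.Helper6.PConjE
import Cfsg.Agent.Helper6.OsimaSupport
import Cfsg.Agent.Helper6.BlockUnion
import Cfsg.Agent.Helper6.PowCongr
import Cfsg.Agent.Helper6.GaloisIdeal
import Cfsg.Agent.Helper6.ClassInner
import Cfsg.Agent.Helper6.DadeIntE

/-!
# Part 2: a full `p`-part forces a trivial orbit
-/

set_option autoImplicit false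
set_option linter.style.haveILetI false
set_option linter.unusedSectionVars false

namespace Cfsg.Agent.Helper6.PConj

open scoped ComplexConjugate

universe u

variable {G : Type u} [Group G] [Finite G]

theorem card_eq_relIndex_mul_card_stabilizer (Q : Subgroup (ZMod (Nat.card G))ˣ)
    (χ : Cfsg.IrrCharacter G) :
    Nat.card Q = (MulAction.stabilizer (ZMod (Nat.card G))ˣ χ).relIndex Q *
      Nat.card (MulAction.stabilizer Q χ) := by
  have horb : Nat.card (MulAction.orbit Q χ) =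
      (MulAction.stabilizer (ZMod (Nat.card G))ˣ χ).relIndex Q := card_orbit_subgroup Q χ
  have h1 := (MulAction.stabilizer Q χ).index_mul_card
  rw [MulAction.index_stabilizer, ← Nat.card_coe_set_eq, horb] at h1
  exact h1.symm

theorem sum_ite_stab (Q : Subgroup (ZMod (Nat.card G))ˣ) [Fintype Q] (χ : Cfsg.IrrCharacter G)
    [DecidableEq (Cfsg.IrrCharacter G)] :
    ∑ k : Q, (if k.1 • χ = χ then (1 : ℂ) else 0) = (Nat.card (MulAction.stabilizer Q χ) : ℂ) := by
  classical
  rw [Finset.sum_ite, Finset.sum_const_zero, add_zero, Finset.sum_const, nsmul_eq_mul, mul_one]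
  norm_cast
  rw [← Fintype.card_subtype, ← Nat.card_eq_fintype_card]
  apply Nat.card_congr
  exact Equiv.subtypeEquivRight (fun k => by
    rw [MulAction.mem_stabilizer_iff]
    rfl)

/-- the idempotent coefficient of a Galois orbit in terms of the orbit average -/
theorem blockCoeff_orbit_eq (Q : Subgroup (ZMod (Nat.card G))ˣ) [Fintype Q]
    (χ : Cfsg.IrrCharacter G) (β : G → ℂ)
    (hβeq : ∀ x : G,
      ∑ k : Q, (χ : G → ℂ) (x ^ ((k : (ZMod (Nat.card G))ˣ) : ZMod (Nat.card G)).val) =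
        (Nat.card Q : ℂ) * β x) (x : G) :
    Cfsg.blockCoeff (MulAction.orbit Q χ) x = (Nat.card G : ℂ)⁻¹ * ((χ : G → ℂ) 1 *
      (((MulAction.stabilizer (ZMod (Nat.card G))ˣ χ).relIndex Q : ℕ) : ℂ) * conj (β x)) := by
  classical
  set O := Finset.univ.image (fun l : Q => l • χ) with hO
  have hA : (MulAction.orbit Q χ : Set (Cfsg.IrrCharacter G)) = ↑O := by
    ext y
    rw [Finset.mem_coe, hO, mem_image_smul]
  unfold Cfsg.blockCoeff
  rw [hA, finsum_mem_coe_finset]
  congr 1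
  have h1 : ∀ χ' ∈ O, (χ' : G → ℂ) 1 * conj ((χ' : G → ℂ) x) =
      (χ : G → ℂ) 1 * conj ((χ' : G → ℂ) x) := by
    intro χ' hχ'
    rw [hO] at hχ'
    obtain ⟨l, -, rfl⟩ := Finset.mem_image.mp hχ'
    congr 1
    change (χ : G → ℂ) (1 ^ _) = _
    rw [one_pow]
  rw [Finset.sum_congr rfl h1, ← Finset.mul_sum, mul_assoc]
  congr 1
  have h2 := sum_smul_eq_card_stabilizer_nsmul (L := Q)
    (fun χ' : Cfsg.IrrCharacter G => conj ((χ' : G → ℂ) x)) χ
  have h3 : ∑ l : Q, conj (((l • χ : Cfsg.IrrCharacter G) : G → ℂ) x) =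
      (Nat.card Q : ℂ) * conj (β x) := by
    have : (Nat.card Q : ℂ) * conj (β x) = conj ((Nat.card Q : ℂ) * β x) := by
      rw [map_mul, Complex.conj_natCast]
    rw [this, ← hβeq, map_sum]
    rfl
  rw [h3, card_eq_relIndex_mul_card_stabilizer Q χ, nsmul_eq_mul] at h2
  have hS0 : (Nat.card (MulAction.stabilizer Q χ) : ℂ) ≠ 0 := by
    exact_mod_cast Nat.card_pos.ne'
  apply mul_left_cancel₀ hS0
  rw [← h2]
  push_cast
  ring

/-- **Part 2, abstractly.** -/
theorem relIndex_eq_one_of_full_ppart (p : ℕ) [hp : Fact p.Prime]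
    (Q : Subgroup (ZMod (Nat.card G))ˣ) [Fintype Q] (χ : Cfsg.IrrCharacter G)
    (hβ : ∀ x : G, ∃ β : ℂ, IsIntegral ℤ β ∧
      ∑ k : Q, (χ : G → ℂ) (x ^ ((k : (ZMod (Nat.card G))ˣ) : ZMod (Nat.card G)).val) =
        (Nat.card Q : ℂ) * β)
    (hQ1 : ∀ k ∈ Q, ((k : (ZMod (Nat.card G))ˣ) : ZMod (Nat.card G)).val ≡ 1
      [MOD Nat.card G / p ^ (Nat.card G).factorization p])
    (n₀ : ℕ) (hn₀ : ¬ p ∣ n₀)
    (hg : Nat.card G = (MulAction.stabilizer (ZMod (Nat.card G))ˣ χ).relIndex Q *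
      Cfsg.charDegree (χ : G → ℂ) * n₀) :
    (MulAction.stabilizer (ZMod (Nat.card G))ˣ χ).relIndex Q = 1 := by
  classical
  haveI := Fintype.ofFinite G
  haveI : NeZero (Nat.card G) := ⟨Nat.card_pos.ne'⟩
  obtain ⟨M, hM⟩ := exists_isPModular p hp.out
  choose β hβint hβeq using hβ
  set t := (MulAction.stabilizer (ZMod (Nat.card G))ˣ χ).relIndex Q with ht
  set a := (Nat.card G).factorization p with ha
  set g' := Nat.card G / p ^ a with hg'
  have hGab : p ^ a * g' = Nat.card G := Nat.ordProj_mul_ordCompl_eq_self (Nat.card G) p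
  have hcop : (p ^ a).Coprime g' :=
    Nat.Coprime.pow_left a (Nat.coprime_ordCompl hp.out Nat.card_pos.ne')
  have hχc : Cfsg.IsCharacter G (χ : G → ℂ) := IsIrrCharacter.isCharacter χ.2
  have hd : (Cfsg.charDegree (χ : G → ℂ) : ℂ) = (χ : G → ℂ) 1 :=
    charDegree_cast_of_isCharacter hχc
  have hG0 : (Nat.card G : ℂ) ≠ 0 := by exact_mod_cast Nat.card_pos.ne'
  have ht0 : (t : ℂ) ≠ 0 := by
    have : t ≠ 0 := by
      intro h0
      rw [h0, zero_mul, zero_mul] at hg
      exact Nat.card_pos.ne' hg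
    exact_mod_cast this
  have hd0 : (χ : G → ℂ) 1 ≠ 0 := by
    rw [← hd]
    have : Cfsg.charDegree (χ : G → ℂ) ≠ 0 := by
      intro h0
      rw [h0, mul_zero, zero_mul] at hg
      exact Nat.card_pos.ne' hg
    exact_mod_cast this
  have hn0 : (n₀ : ℂ) ≠ 0 := by
    have : n₀ ≠ 0 := by
      intro h0
      rw [h0, mul_zero] at hg
      exact Nat.card_pos.ne' hg
    exact_mod_cast this
  have hQ0 : (Nat.card Q : ℂ) ≠ 0 := by exact_mod_cast Nat.card_pos.ne'
  have hgC : (Nat.card G : ℂ) = (t : ℂ) * (χ : G → ℂ) 1 * (n₀ : ℂ) := by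
    rw [← hd]
    exact_mod_cast hg
  set A : Set (Cfsg.IrrCharacter G) := MulAction.orbit Q χ with hA
  have hAx : ∀ x : G, Cfsg.blockCoeff A x = conj (β x) / (n₀ : ℂ) := by
    intro x
    rw [hA, blockCoeff_orbit_eq Q χ β hβeq x, hgC, ← ht]
    field_simp
  -- local coefficients
  have hlocal : ∀ x : G, Cfsg.MemLocalRing M (Cfsg.blockCoeff A x) := by
    intro x
    rw [hAx]
    have hint : IsIntegral ℤ (conj (β x)) := (hβint x).map (starRingEnd ℂ).toIntAlgHom
    refine ⟨⟨conj (β x), hint⟩, (n₀ : Cfsg.AlgInt), ?_, ?_⟩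
    · intro hmem
      have h1 : ((n₀ : ℤ) : Cfsg.AlgInt) ∈ M := by exact_mod_cast hmem
      have h2 := int_dvd_of_mem p M hM (n₀ : ℤ) h1
      exact hn₀ (Int.natCast_dvd_natCast.1 h2)
    · simp
  -- vanishing on p-singular elements
  have hconv : conv (Cfsg.blockCoeff A) (Cfsg.blockCoeff A) = Cfsg.blockCoeff A := by
    funext g
    exact blockCoeff_convolution A g
  have hvan : ∀ y : G, p ∣ orderOf y → β y = 0 := by
    intro y hy
    have h := sum_conj_eq_zero_of_conv_idem hM.2.1 p hM.2.2 y hy (Cfsg.blockCoeff A) hlocal hconv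
    have hcf := blockCoeff_isClassFunction A
    have h2 : ∑ g : G, Cfsg.blockCoeff A (g * y * g⁻¹) =
        (Fintype.card G : ℂ) * Cfsg.blockCoeff A y := by
      rw [Finset.sum_congr rfl (fun g _ => hcf y g), Finset.sum_const, Finset.card_univ,
        nsmul_eq_mul]
    rw [h2] at h
    have hG0' : (Fintype.card G : ℂ) ≠ 0 := by
      have : 0 < Fintype.card G := Fintype.card_pos
      exact_mod_cast this.ne'
    have h3 := (mul_eq_zero.mp h).resolve_left hG0'
    rw [hAx, div_eq_zero_iff] at h3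
    have h4 := h3.resolve_right hn0
    have h5 := congrArg conj h4
    rwa [Complex.conj_conj, map_zero] at h5
  -- order facts for p-regular elements
  have hreg : ∀ x : G, ¬ p ∣ orderOf x → orderOf x ∣ g' := by
    intro x hx
    have h1 : orderOf x ∣ p ^ a * g' := by rw [hGab]; exact orderOf_dvd_natCard x
    have h2 : (orderOf x).Coprime (p ^ a) :=
      Nat.Coprime.pow_right a ((Nat.Prime.coprime_iff_not_dvd hp.out).2 hx).symm
    exact h2.dvd_of_dvd_mul_left h1
  -- the orbit sum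
  set Ψ : G → ℂ := ∑ k : Q, ((k.1 • χ : Cfsg.IrrCharacter G) : G → ℂ) with hΨ
  have hΨx : ∀ x : G, Ψ x = (Nat.card Q : ℂ) * β x := by
    intro x
    rw [hΨ, Finset.sum_apply, ← hβeq]
    rfl
  have hΨreg : ∀ x : G, ¬ p ∣ orderOf x → Ψ x = (Nat.card Q : ℂ) * (χ : G → ℂ) x := by
    intro x hx
    rw [hΨ, Finset.sum_apply]
    have h1 : ∀ k : Q, ((k.1 • χ : Cfsg.IrrCharacter G) : G → ℂ) x = (χ : G → ℂ) x := by
      intro k
      rw [galSmul_apply]
      have h2 : ((k : (ZMod (Nat.card G))ˣ) : ZMod (Nat.card G)).val ≡ 1 [MOD orderOf x] :=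
        (hQ1 k.1 k.2).of_dvd (hreg x hx)
      have := (pow_eq_pow_iff_modEq (x := x)).2 h2
      rw [pow_one] at this
      rw [this]
    rw [Finset.sum_congr rfl (fun k _ => h1 k), Finset.sum_const, Finset.card_univ, nsmul_eq_mul,
      Nat.card_eq_fintype_card (α := ↥Q)]
  -- the p'-part character
  set m₁ : ℕ := (Nat.chineseRemainder hcop 0 1 : ℕ) with hm₁
  have hm0 : m₁ ≡ 0 [MOD p ^ a] := (Nat.chineseRemainder hcop 0 1).2.1
  have hm1 : m₁ ≡ 1 [MOD g'] := (Nat.chineseRemainder hcop 0 1).2.2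
  have hm0' : p ^ a ∣ m₁ := (Nat.modEq_zero_iff_dvd).1 hm0
  set χh : G → ℂ := fun x => (χ : G → ℂ) (x ^ m₁) with hχh
  have hgen : Cfsg.IsGeneralizedCharacter G χh :=
    isGeneralizedCharacter_comp_pow_part hχc (p ^ a) g' m₁ hcop hGab.symm hm0' hm1
  obtain ⟨z, hz⟩ := classInner_gen_char_int hgen hχc
  have hχhreg : ∀ x : G, ¬ p ∣ orderOf x → χh x = (χ : G → ℂ) x := by
    intro x hx
    rw [hχh]
    change (χ : G → ℂ) (x ^ m₁) = _
    have h2 : m₁ ≡ 1 [MOD orderOf x] := hm1.of_dvd (hreg x hx)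
    have := (pow_eq_pow_iff_modEq (x := x)).2 h2
    rw [pow_one] at this
    rw [this]
  -- Q-invariance of the p'-part character
  have hinv : ∀ k : Q, Cfsg.classInner χh ((k.1 • χ : Cfsg.IrrCharacter G) : G → ℂ) =
      Cfsg.classInner χh (χ : G → ℂ) := by
    intro k
    set j := ((k : (ZMod (Nat.card G))ˣ) : ZMod (Nat.card G)).val with hj
    have hjcop : j.Coprime (Nat.card G) := ZMod.val_coe_unit_coprime k.1
    have h1 := classInner_comp_pow χh (χ : G → ℂ) j hjcop
    have h2 : (fun g => χh (g ^ j)) = χh := by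
      funext x
      rw [hχh]
      change (χ : G → ℂ) ((x ^ j) ^ m₁) = (χ : G → ℂ) (x ^ m₁)
      have e : (x ^ j) ^ m₁ = x ^ m₁ := by
        rw [← pow_mul]
        apply pow_eq_pow_of_modEq
        rw [← hGab]
        apply (Nat.modEq_and_modEq_iff_modEq_mul hcop).1
        constructor
        · exact ((Nat.modEq_zero_iff_dvd).2 (Dvd.dvd.mul_left hm0' j)).trans hm0.symm
        · have := (hQ1 k.1 k.2).mul_right m₁
          rwa [one_mul] at this
      rw [e]
    rw [h2] at h1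
    exact h1
  -- the pointwise identity
  have hpt : ∀ x : G, χh x * conj (Ψ x) = Ψ x * conj ((χ : G → ℂ) x) := by
    intro x
    by_cases hx : p ∣ orderOf x
    · rw [hΨx, hvan x hx]
      simp
    · rw [hχhreg x hx, hΨreg x hx, map_mul, Complex.conj_natCast]
      ring
  have hinner : Cfsg.classInner χh Ψ = Cfsg.classInner Ψ (χ : G → ℂ) := by
    unfold Cfsg.classInner
    congr 1
    exact Finset.sum_congr rfl (fun x _ => hpt x)
  have hL : Cfsg.classInner χh Ψ = (Nat.card Q : ℂ) * z := by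
    rw [hΨ, classInner_sum_right, Finset.sum_congr rfl (fun k _ => hinv k), Finset.sum_const,
      Finset.card_univ, nsmul_eq_mul, hz, Nat.card_eq_fintype_card (α := ↥Q)]
  have hR : Cfsg.classInner Ψ (χ : G → ℂ) = (Nat.card (MulAction.stabilizer Q χ) : ℂ) := by
    rw [hΨ, classInner_sum_left, ← sum_ite_stab Q χ]
    apply Finset.sum_congr rfl
    intro k _
    split_ifs with hk
    · rw [hk]
      exact classInner_irr_self χ.2
    · apply classInner_irr_ne (k.1 • χ).2 χ.2
      intro h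
      exact hk (Subtype.ext h)
  rw [hL, hR, card_eq_relIndex_mul_card_stabilizer Q χ, ← ht] at hinner
  have hS0 : (Nat.card (MulAction.stabilizer Q χ) : ℂ) ≠ 0 := by
    exact_mod_cast Nat.card_pos.ne'
  have hfin : (t : ℂ) * z = 1 := by
    apply mul_left_cancel₀ hS0
    push_cast at hinner
    linear_combination hinner
  have hfin' : (t : ℤ) * z = 1 := by exact_mod_cast hfin
  have : (t : ℤ) ∣ ((1 : ℕ) : ℤ) := ⟨z, by push_cast; exact hfin'.symm⟩
  exact Nat.dvd_one.1 (Int.natCast_dvd_natCast.1 this)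

end Cfsg.Agent.Helper6.PConj
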