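import Mathlib
import Cfsg.Prelude.Def_Characters
import Cfsg.Prelude.Def_Blocks
import Cfsg.Agent.Helper6.PConjA
import Cfsg.Agent.Helper6.PConjB
import Cfsg.Agent.Helper6.PConjC
import Cfsg.Agent.Helper6.PConjD
import Cfsg.Agent.Helper6.PConjF
import Cfsg.Agent.Helper6.DefectZeroBlock

/-!
# The number of `p`-conjugates of an irreducible character: assembly
-/

set_option autoImplicit false
set_option linter.style.haveILetI false
set_option linter.unusedSectionVars false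

namespace Cfsg.Agent.Helper6.PConj

open scoped ComplexConjugate

universe u

/-- the units realised by automorphisms of `ℂ` fixing `exp(2πi/m)` -/
noncomputable def galImage (n m : ℕ) [NeZero n] : Subgroup (ZMod n)ˣ where
  carrier := {k | ∃ σ : ℂ ≃+* ℂ,
    σ (Complex.exp (2 * Real.pi * Complex.I / m)) = Complex.exp (2 * Real.pi * Complex.I / m) ∧
      ∀ μ : ℂ, μ ^ n = 1 → σ μ = μ ^ ((k : ZMod n).val)}
  one_mem' := by
    refine ⟨RingEquiv.refl ℂ, rfl, ?_⟩
    intro μ hμ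
    rw [Units.val_one, ZMod.val_one_eq_one_mod,
      pow_eq_pow_of_modEq' μ n hμ (Nat.mod_modEq 1 n), pow_one]
    rfl
  mul_mem' := by
    rintro k k' ⟨σ, hσ, hk⟩ ⟨σ', hσ', hk'⟩
    refine ⟨σ'.trans σ, ?_, ?_⟩
    · rw [RingEquiv.trans_apply, hσ', hσ]
    · intro μ hμ
      rw [RingEquiv.trans_apply, hk' μ hμ, map_pow, hk μ hμ, ← pow_mul, Units.val_mul,
        ZMod.val_mul]
      exact (pow_eq_pow_of_modEq' μ n hμ (Nat.mod_modEq _ n)).symm
  inv_mem' := by
    rintro k ⟨σ, hσ, hk⟩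
    refine ⟨σ.symm, ?_, ?_⟩
    · rw [RingEquiv.symm_apply_eq, hσ]
    · intro μ hμ
      rw [RingEquiv.symm_apply_eq, map_pow, hk μ hμ, ← pow_mul]
      have h1 : ((k : ZMod n).val * ((k⁻¹ : (ZMod n)ˣ) : ZMod n).val) % n = 1 % n := by
        rw [← ZMod.val_mul, ← Units.val_mul, mul_inv_cancel, Units.val_one,
          ZMod.val_one_eq_one_mod]
      have h2 : (k : ZMod n).val * ((k⁻¹ : (ZMod n)ˣ) : ZMod n).val ≡ 1 [MOD n] := h1
      rw [pow_eq_pow_of_modEq' μ n hμ h2, pow_one]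

theorem val_pow_modEq (n : ℕ) [NeZero n] (k : (ZMod n)ˣ) (e : ℕ) :
    ((k ^ e : (ZMod n)ˣ) : ZMod n).val ≡ ((k : ZMod n).val) ^ e [MOD n] := by
  have h1 : ((k ^ e : (ZMod n)ˣ) : ZMod n) = (((k : ZMod n).val ^ e : ℕ) : ZMod n) := by
    rw [Units.val_pow_eq_pow_val, Nat.cast_pow, ZMod.natCast_zmod_val]
  rw [h1, ZMod.val_natCast]
  exact Nat.mod_modEq _ n

variable {G : Type u} [Group G] [Finite G]

instance neZeroCard : NeZero (Nat.card G) := ⟨Nat.card_pos.ne'⟩

/-- the set of `p`-conjugates is the orbit under the Galois image -/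
theorem conj_set_eq_orbit (m : ℕ) (χ : Cfsg.IrrCharacter G) :
    {ψ : Cfsg.IrrCharacter G | ∃ σ : ℂ ≃+* ℂ,
      σ (Complex.exp (2 * Real.pi * Complex.I / m)) = Complex.exp (2 * Real.pi * Complex.I / m) ∧
        (ψ : G → ℂ) = fun g => σ ((χ : G → ℂ) g)} =
      MulAction.orbit (galImage (Nat.card G) m) χ := by
  have hχc : Cfsg.IsCharacter G (χ : G → ℂ) := IsIrrCharacter.isCharacter χ.2
  ext ψ
  constructor
  · rintro ⟨σ, hσ, hψ⟩
    obtain ⟨j, hjcop, hj⟩ := exists_pow_of_ringEquiv σ (Nat.card G) Nat.card_pos.ne'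
    have hkmem : ZMod.unitOfCoprime j hjcop ∈ galImage (Nat.card G) m := by
      refine ⟨σ, hσ, ?_⟩
      intro μ hμ
      rw [hj μ hμ, ZMod.coe_unitOfCoprime, ZMod.val_natCast]
      exact (pow_eq_pow_of_modEq' μ _ hμ (Nat.mod_modEq j _)).symm
    refine ⟨⟨ZMod.unitOfCoprime j hjcop, hkmem⟩, ?_⟩
    apply Subtype.ext
    rw [hψ]
    funext x
    change (χ : G → ℂ) (x ^ ((ZMod.unitOfCoprime j hjcop : (ZMod (Nat.card G))ˣ) :
      ZMod (Nat.card G)).val) = σ ((χ : G → ℂ) x)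
    rw [isCharacter_ringEquiv σ j hj hχc x, ZMod.coe_unitOfCoprime, ZMod.val_natCast]
    rw [pow_eq_pow_of_modEq (Nat.mod_modEq j (Nat.card G)) x]
  · rintro ⟨⟨k, σ, hσ, hk⟩, rfl⟩
    refine ⟨σ, hσ, ?_⟩
    funext x
    rw [isCharacter_ringEquiv σ _ hk hχc x]
    rfl

theorem galImage_le_congr (m : ℕ) (hm : m ≠ 0) (h : m ∣ Nat.card G) :
    galImage (Nat.card G) m ≤ congrSubgroup (Nat.card G) m h := by
  rintro k ⟨σ, hσ, hk⟩
  rw [mem_congrSubgroup]
  exact modEq_one_of_fixes σ (Nat.card G) m hm h _ hk hσ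

/-- **Assembly**, abstractly -/
theorem assembly (p : ℕ) [hp : Fact p.Prime] (H K Q : Subgroup (ZMod (Nat.card G))ˣ) [Fintype Q]
    (χ : Cfsg.IrrCharacter G) (hHK : H ≤ K) (hQK : Q ≤ K) (hcop : ¬ p ∣ Q.relIndex K)
    (hβ : ∀ x : G, ∃ β : ℂ, IsIntegral ℤ β ∧
      ∑ k : Q, (χ : G → ℂ) (x ^ ((k : (ZMod (Nat.card G))ˣ) : ZMod (Nat.card G)).val) =
        (Nat.card Q : ℂ) * β)
    (hQ1 : ∀ k ∈ Q, ((k : (ZMod (Nat.card G))ˣ) : ZMod (Nat.card G)).val ≡ 1
      [MOD Nat.card G / p ^ (Nat.card G).factorization p])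
    (r : ℕ) (hr : (MulAction.stabilizer (ZMod (Nat.card G))ˣ χ).relIndex H = r) :
    (r * Cfsg.charDegree (χ : G → ℂ)).factorization p ≤ (Nat.card G).factorization p ∧
      (p ^ (Nat.card G).factorization p ∣ r * Cfsg.charDegree (χ : G → ℂ) →
        p ^ (Nat.card G).factorization p ∣ Cfsg.charDegree (χ : G → ℂ)) := by
  set St := MulAction.stabilizer (ZMod (Nat.card G))ˣ χ with hSt
  set t := St.relIndex Q with ht
  set d := Cfsg.charDegree (χ : G → ℂ) with hd
  set a := (Nat.card G).factorization p with ha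
  have hrt : r.factorization p ≤ t.factorization p := by
    rw [← hr]
    exact factorization_relIndex_le p St H K Q hHK hQK hcop hp.out
  have hdvd : t * d ∣ Nat.card G := relIndex_mul_charDegree_dvd Q χ hβ
  have hr0 : r ≠ 0 := by rw [← hr]; exact relIndex_ne_zero' _ _
  have ht0 : t ≠ 0 := relIndex_ne_zero' _ _
  have hd0 : d ≠ 0 := by
    intro h0
    rw [h0, mul_zero] at hdvd
    exact Nat.card_pos.ne' (zero_dvd_iff.1 hdvd)
  have htd : (t * d).factorization p ≤ a :=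
    (Nat.factorization_le_iff_dvd (mul_ne_zero ht0 hd0) Nat.card_pos.ne').2 hdvd p
  have hrd : (r * d).factorization p ≤ (t * d).factorization p := by
    rw [Nat.factorization_mul hr0 hd0, Nat.factorization_mul ht0 hd0]
    simp only [Finsupp.coe_add, Pi.add_apply]
    omega
  refine ⟨hrd.trans htd, ?_⟩
  intro hpa
  have h1 : a ≤ (r * d).factorization p :=
    (hp.out.pow_dvd_iff_le_factorization (mul_ne_zero hr0 hd0)).1 hpa
  have h2 : (t * d).factorization p = a := le_antisymm htd (h1.trans hrd)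
  obtain ⟨n₀, hn₀⟩ := hdvd
  have hn0 : n₀ ≠ 0 := by
    intro h0
    rw [h0, mul_zero] at hn₀
    exact Nat.card_pos.ne' hn₀
  have hpn : ¬ p ∣ n₀ := by
    intro hpn
    have h3 : (Nat.card G).factorization p = (t * d).factorization p + n₀.factorization p := by
      rw [hn₀, Nat.factorization_mul (mul_ne_zero ht0 hd0) hn0]
      rfl
    have h4 : 1 ≤ n₀.factorization p :=
      (hp.out.dvd_iff_one_le_factorization hn0).1 hpn
    rw [← ha, h2] at h3
    omega
  have ht1 : t = 1 := relIndex_eq_one_of_full_ppart p Q χ hβ hQ1 n₀ hpn hn₀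
  have h5 : r.factorization p = 0 := by
    rw [ht1, Nat.factorization_one] at hrt
    simpa using hrt
  have h6 : a ≤ d.factorization p := by
    rw [Nat.factorization_mul hr0 hd0] at h1
    simp only [Finsupp.coe_add, Pi.add_apply] at h1
    omega
  exact (hp.out.pow_dvd_iff_le_factorization hd0).2 h6

end Cfsg.Agent.Helper6.PConj
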