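import Mathlib
import Cfsg.Prelude.Def_Characters
import Cfsg.Prelude.Def_Blocks
import Cfsg.Agent.Helper6.PConjG

/-!
# The number of `p`-conjugates of an irreducible character: the final statement
-/

set_option autoImplicit false
set_option linter.style.haveILetI false
set_option linter.unusedSectionVars false

namespace Cfsg.Agent.Helper6.PConj

universe u

variable {G : Type u} [Group G] [Finite G]

theorem pow_mem_congr_of_mem (p : ℕ) [hp : Fact p.Prime] (g' : ℕ) (hg' : g' ∣ Nat.card G)
    (hm₀ : p * g' ∣ Nat.card G) (hcop : p.Coprime g') (k : (ZMod (Nat.card G))ˣ)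
    (hk : k ∈ congrSubgroup (Nat.card G) g' hg') :
    k ^ (p - 1) ∈ congrSubgroup (Nat.card G) (p * g') hm₀ := by
  rw [mem_congrSubgroup] at hk ⊢
  set j := (k : ZMod (Nat.card G)).val with hj
  have h1 : ((k ^ (p - 1) : (ZMod (Nat.card G))ˣ) : ZMod (Nat.card G)).val ≡ j ^ (p - 1)
      [MOD p * g'] := (val_pow_modEq (Nat.card G) k (p - 1)).of_dvd hm₀
  refine h1.trans ?_
  apply (Nat.modEq_and_modEq_iff_modEq_mul hcop).1
  constructor
  · have hjcop : j.Coprime p := by
      have h2 : j.Coprime (Nat.card G) := ZMod.val_coe_unit_coprime k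
      exact Nat.Coprime.coprime_dvd_right ((dvd_mul_right p g').trans hm₀) h2
    have := Nat.ModEq.pow_totient hjcop
    rwa [Nat.totient_prime hp.out] at this
  · have := hk.pow (p - 1)
    rwa [one_pow] at this

theorem main (p : ℕ) (hp : p.Prime) (χ : Cfsg.IrrCharacter G) (r : ℕ)
    (hr : Nat.card {ψ : Cfsg.IrrCharacter G // ∃ σ : ℂ ≃+* ℂ,
      σ (Complex.exp (2 * Real.pi * Complex.I /
        ((Nat.card G / p ^ (Nat.card G).factorization p) : ℕ))) =
        Complex.exp (2 * Real.pi * Complex.I /
          ((Nat.card G / p ^ (Nat.card G).factorization p) : ℕ)) ∧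
      (ψ : G → ℂ) = fun g => σ ((χ : G → ℂ) g)} = r) :
    (r * Cfsg.charDegree (χ : G → ℂ)).factorization p ≤ (Nat.card G).factorization p ∧
      (p ^ (Nat.card G).factorization p ∣ r * Cfsg.charDegree (χ : G → ℂ) →
        p ^ (Nat.card G).factorization p ∣ Cfsg.charDegree (χ : G → ℂ)) := by
  classical
  haveI : Fact p.Prime := ⟨hp⟩
  have hχc : Cfsg.IsCharacter G (χ : G → ℂ) := IsIrrCharacter.isCharacter χ.2
  set a := (Nat.card G).factorization p with ha
  set g' := Nat.card G / p ^ a with hg'def
  have hGab : p ^ a * g' = Nat.card G := Nat.ordProj_mul_ordCompl_eq_self (Nat.card G) p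
  have hg' : g' ∣ Nat.card G := ⟨p ^ a, by rw [← hGab]; ring⟩
  have hg'0 : g' ≠ 0 := by
    intro h0
    rw [h0, mul_zero] at hGab
    exact Nat.card_pos.ne' hGab.symm
  have hcop : p.Coprime g' := Nat.coprime_ordCompl hp Nat.card_pos.ne'
  set H := galImage (Nat.card G) g' with hH
  set K := congrSubgroup (Nat.card G) g' hg' with hK
  have hHK : H ≤ K := galImage_le_congr g' hg'0 hg'
  have hrH : (MulAction.stabilizer (ZMod (Nat.card G))ˣ χ).relIndex H = r := by
    rw [← card_orbit_subgroup H χ, ← hr]
    have := conj_set_eq_orbit g' χ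
    rw [← hH] at this
    rw [← this]
    rfl
  by_cases ha0 : a = 0
  · -- p does not divide |G|
    haveI : Fintype K := Fintype.ofFinite _
    have hgg : g' = Nat.card G := by
      rw [← hGab, ha0, pow_zero, one_mul]
    refine assembly p H K K χ hHK le_rfl ?_ ?_ ?_ r hrH
    · rw [Subgroup.relIndex_self]
      exact hp.one_lt.ne' ∘ Nat.dvd_one.1
    · intro x
      apply exists_avg_char_integral g' hg' _ hχc x
      intro q _ hq
      rw [hgg]
      exact hq
    · intro k hk
      exact (mem_congrSubgroup (Nat.card G) g' hg' k).1 hk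
  · have hm₀ : p * g' ∣ Nat.card G := by
      obtain ⟨b, hb⟩ := Nat.exists_eq_succ_of_ne_zero ha0
      refine ⟨p ^ b, ?_⟩
      rw [← hGab, hb, pow_succ]
      ring
    set Q := congrSubgroup (Nat.card G) (p * g') hm₀ with hQ
    haveI : Fintype Q := Fintype.ofFinite _
    have hQK : Q ≤ K := by
      intro k hk
      rw [hQ, mem_congrSubgroup] at hk
      rw [hK, mem_congrSubgroup]
      exact hk.of_dvd (dvd_mul_left g' p)
    refine assembly p H K Q χ hHK hQK ?_ ?_ ?_ r hrH
    · apply not_dvd_relIndex_of_pow_mem p K Q (p - 1)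
      · intro hdvd
        have := Nat.le_of_dvd (Nat.sub_pos_of_lt hp.one_lt) hdvd
        have := hp.one_lt
        omega
      · intro k hk
        exact pow_mem_congr_of_mem p g' hg' hm₀ hcop k hk
    · intro x
      apply exists_avg_char_integral (p * g') hm₀ _ hχc x
      intro q hqp hq
      rw [← hGab] at hq
      rcases (Nat.Prime.dvd_mul hqp).1 hq with h1 | h1
      · exact (hqp.dvd_of_dvd_pow h1).mul_right g'
      · exact h1.mul_left p
    · intro k hk
      have := (mem_congrSubgroup (Nat.card G) (p * g') hm₀ k).1 hk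
      exact this.of_dvd (dvd_mul_left g' p)

end Cfsg.Agent.Helper6.PConj
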