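import Mathlib
import Cfsg.Prelude.Def_Characters
import Cfsg.Prelude.Def_Blocks
import Cfsg.Agent.Helper6.Brauer1
import Cfsg.Agent.Helper6.Brauer8
import Cfsg.Agent.Helper6.Brauer9
import Cfsg.Agent.Helper6.AbelianInertia
import Cfsg.Agent.Helper6.Induced
import Cfsg.Agent.Helper6.WeakOrth
import Cfsg.Agent.Helper6.ColumnOrth
import Cfsg.Agent.Helper6.PowCongr
import Cfsg.Agent.Helper6.InducedPart
import Cfsg.Agent.Helper6.BlockUnion
import Cfsg.Agent.Helper6.IrrBasis
import Cfsg.Agent.Helper6.DefectOrder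
import Cfsg.Agent.Helper6.SmallDegree
import Cfsg.Agent.Helper6.BlockPart

/-!
# Sums of characters over the `p`-elements, and a criterion of defect zero type

The function `|G|_{p'} · 1_{p-elements}` is a generalized character (Brauer).  Hence the sum of a
character over the `p`-elements is divisible by `|G|_p`.  As an application: if no irreducible
character has `p`-defect zero and `z` has centralizer of order prime to `p`, then two conjugates of
`z` have a quotient that is a nonidentity `p`-element.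
-/

set_option autoImplicit false
set_option linter.style.haveILetI false

namespace Cfsg.Agent.Helper6

open scoped ComplexConjugate

universe u

variable {G : Type u} [Group G] {M : Ideal Cfsg.AlgInt}

/-- `|G|_{p'}` on the `p`-elements, zero elsewhere. -/
noncomputable def pElemFun (p : ℕ) (G : Type u) [Group G] : G → ℂ := by
  classical
  exact fun g => if ∃ k : ℕ, orderOf g = p ^ k then
    ((Nat.card G / p ^ (Nat.card G).factorization p : ℕ) : ℂ) else 0

theorem pElemFun_isClassFunction (p : ℕ) : Cfsg.IsClassFunction G (pElemFun p G) := by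
  classical
  intro g h
  unfold pElemFun
  have : orderOf (h * g * h⁻¹) = orderOf g := by
    have := (MulAut.conj h).orderOf_eq g
    simpa using this
  simp only [this]

/-- In a nilpotent group the `p`-elements are the elements of the Sylow `p`-subgroup. -/
theorem mem_sylow_iff_of_nilpotent {E : Type u} [Group E] [Finite E] [Group.IsNilpotent E]
    (p : ℕ) [hp : Fact p.Prime] (Q : Sylow p E) (e : E) :
    e ∈ (Q : Subgroup E) ↔ ∃ k : ℕ, orderOf e = p ^ k := by
  have hQn : (Q : Subgroup E).Normal := inferInstance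
  constructor
  · intro he
    obtain ⟨k, hk⟩ := Q.2 ⟨e, he⟩
    have h1 : e ^ (p ^ k) = 1 := by
      have := congrArg Subtype.val hk
      simpa using this
    obtain ⟨j, -, hj⟩ := (Nat.dvd_prime_pow hp.out).mp (orderOf_dvd_of_pow_eq_one h1)
    exact ⟨j, hj⟩
  · rintro ⟨k, hk⟩
    have hpg : IsPGroup p (Subgroup.zpowers e) := by
      apply IsPGroup.of_card (n := k)
      rw [Nat.card_zpowers, hk]
    obtain ⟨Q', hQ'⟩ := hpg.exists_le_sylow
    haveI := Sylow.unique_of_normal Q hQn
    have : Q' = Q := Subsingleton.elim _ _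
    rw [← this]
    exact hQ' (Subgroup.mem_zpowers e)

/-- `|G|_{p'} · 1_{p-elements}` is a generalized character. -/
theorem pElemFun_isGeneralizedCharacter [Finite G] (p : ℕ) [hp : Fact p.Prime] :
    Cfsg.IsGeneralizedCharacter G (pElemFun p G) := by
  classical
  haveI := Fintype.ofFinite G
  apply brauer_characterization _ (pElemFun_isClassFunction p)
  intro E r hr hE
  haveI : Fintype E := Fintype.ofFinite E
  haveI : Group.IsNilpotent E := IsElementary.isNilpotent hr hE
  obtain Q : Sylow p E := default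
  have hQn : (Q : Subgroup E).Normal := inferInstance
  haveI := hQn
  -- the index of `Q` divides `|G|_{p'}`
  set n' := Nat.card G / p ^ (Nat.card G).factorization p with hn'
  have hG0 : Nat.card G ≠ 0 := (Nat.card_pos (α := G)).ne'
  have hGn : p ^ (Nat.card G).factorization p * n' = Nat.card G :=
    Nat.ordProj_mul_ordCompl_eq_self (Nat.card G) p
  have hidx : (Q : Subgroup E).index ∣ n' := by
    have h1 : (Q : Subgroup E).index ∣ Nat.card G :=
      dvd_trans (Subgroup.index_dvd_card _) (Subgroup.card_subgroup_dvd_card E)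
    have h2 : Nat.Coprime (Q : Subgroup E).index (p ^ (Nat.card G).factorization p) := by
      apply Nat.Coprime.pow_right
      exact ((Nat.Prime.coprime_iff_not_dvd hp.out).mpr Q.not_dvd_index).symm
    rw [← hGn] at h1
    exact h2.dvd_of_dvd_mul_left h1
  obtain ⟨m, hm⟩ := hidx
  have hfun : (fun e : E => pElemFun p G (e : G)) =
      m • Cfsg.indFun (Q : Subgroup E) (fun _ => (1 : ℂ)) := by
    funext e
    rw [Pi.smul_apply, indFun_one_normal]
    unfold pElemFun
    have hiff : (∃ k : ℕ, orderOf (e : G) = p ^ k) ↔ e ∈ (Q : Subgroup E) := by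
      rw [mem_sylow_iff_of_nilpotent p Q e, Subgroup.orderOf_coe]
    by_cases he : e ∈ (Q : Subgroup E)
    · rw [if_pos (hiff.mpr he), if_pos he, ← hn', hm]
      push_cast
      rw [nsmul_eq_mul]
      ring
    · rw [if_neg (fun h => he (hiff.mp h)), if_neg he, smul_zero]
  rw [hfun]
  apply IsGeneralizedCharacter.of_isCharacter
  apply IsCharacter.nsmul
  apply isCharacter_indFun
  exact isCharacter_one

/-- The sum of a character over the `p`-elements is an integer multiple of `|G|_p`. -/
theorem sum_pElements_char [Fintype G] (p : ℕ) [hp : Fact p.Prime] {χ : G → ℂ}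
    (hχ : Cfsg.IsCharacter G χ) [DecidablePred (fun g : G => ∃ k : ℕ, orderOf g = p ^ k)] :
    ∃ m : ℤ, ∑ g : G, (if ∃ k : ℕ, orderOf g = p ^ k then χ g else 0) =
      ((p ^ (Nat.card G).factorization p : ℕ) : ℂ) * (m : ℂ) := by
  classical
  obtain ⟨A, B, hA, hB, hAB⟩ := pElemFun_isGeneralizedCharacter (G := G) p
  obtain ⟨nA, hnA⟩ := classInner_char_char_nat hχ hA
  obtain ⟨nB, hnB⟩ := classInner_char_char_nat hχ hB
  refine ⟨(nA : ℤ) - (nB : ℤ), ?_⟩
  have h1 : Cfsg.classInner χ (pElemFun p G) = (nA : ℂ) - (nB : ℂ) := by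
    rw [hAB, classInner_sub_right, hnA, hnB]
  set n' := Nat.card G / p ^ (Nat.card G).factorization p with hn'
  have hG0 : Nat.card G ≠ 0 := (Nat.card_pos (α := G)).ne'
  have hGn : p ^ (Nat.card G).factorization p * n' = Nat.card G :=
    Nat.ordProj_mul_ordCompl_eq_self (Nat.card G) p
  have hn'0 : (n' : ℂ) ≠ 0 := by
    have : n' ≠ 0 := by
      intro h
      rw [h, mul_zero] at hGn
      exact hG0 hGn.symm
    exact_mod_cast this
  have hpa0 : ((p ^ (Nat.card G).factorization p : ℕ) : ℂ) ≠ 0 := by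
    have : p ^ (Nat.card G).factorization p ≠ 0 := pow_ne_zero _ hp.out.ne_zero
    exact_mod_cast this
  rw [classInner_def] at h1
  have h2 : ∑ g : G, χ g * conj (pElemFun p G g) =
      (n' : ℂ) * ∑ g : G, (if ∃ k : ℕ, orderOf g = p ^ k then χ g else 0) := by
    rw [Finset.mul_sum]
    apply Finset.sum_congr rfl
    intro g _
    unfold pElemFun
    by_cases hg : ∃ k : ℕ, orderOf g = p ^ k
    · rw [if_pos hg, if_pos hg, Complex.conj_natCast, mul_comm]
    · rw [if_neg hg, if_neg hg, map_zero, mul_zero, mul_zero]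
  rw [h2, ← hGn] at h1
  push_cast at h1 ⊢
  field_simp at h1
  linear_combination h1

/-- If no irreducible character has `p`-defect zero and the centralizer of `z` has order prime to
`p`, then two conjugates of `z` have a quotient that is a nonidentity `p`-element. -/
theorem exists_conj_quotient_pElement [Finite G] (p : ℕ) [hp : Fact p.Prime]
    (hno : ∀ χ : Cfsg.IrrCharacter G,
      (Cfsg.charDegree (χ : G → ℂ)).factorization p ≠ (Nat.card G).factorization p)
    (z : G) (hz : ¬ p ∣ Nat.card (Subgroup.centralizer ({z} : Set G))) :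
    ∃ g h : G, IsConj z g ∧ IsConj z h ∧ g * h⁻¹ ≠ 1 ∧ ∃ k : ℕ, orderOf (g * h⁻¹) = p ^ k := by
  classical
  haveI := Fintype.ofFinite G
  haveI : Finite (Cfsg.IrrCharacter G) := irr_finite
  haveI : Fintype (Cfsg.IrrCharacter G) := Fintype.ofFinite _
  obtain ⟨M, hM⟩ := exists_isPModular p hp.out
  by_contra hne
  push Not at hne
  have hG0 : (Nat.card G : ℂ) ≠ 0 := by
    have : 0 < Nat.card G := Nat.card_pos
    exact_mod_cast this.ne'
  -- the class multiplication coefficients vanish
  have hE : ∀ c : G, c ≠ 1 → (∃ k : ℕ, orderOf c = p ^ k) →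
      ∑ χ : Cfsg.IrrCharacter G, (χ : G → ℂ) z * conj ((χ : G → ℂ) z) *
        conj ((χ : G → ℂ) c) / (χ : G → ℂ) 1 = 0 := by
    intro c hc1 hcp
    have h1 : ∀ χ : Cfsg.IrrCharacter G, (χ : G → ℂ) z * conj ((χ : G → ℂ) z) *
        conj ((χ : G → ℂ) c) / (χ : G → ℂ) 1 =
        (Nat.card G : ℂ)⁻¹ * ∑ b : G, (χ : G → ℂ) (b * z * b⁻¹ * c⁻¹) *
          conj ((χ : G → ℂ) z) := by
      intro χ
      rw [← Finset.sum_mul, sum_conj_mul_irr χ.2,
        IsCharacter.inv_eq_conj (IsIrrCharacter.isCharacter χ.2)]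
      field_simp
    simp_rw [h1, ← Finset.mul_sum]
    rw [Finset.sum_comm]
    have h2 : ∀ b : G, ∑ χ : Cfsg.IrrCharacter G, (χ : G → ℂ) (b * z * b⁻¹ * c⁻¹) *
        conj ((χ : G → ℂ) z) = 0 := by
      intro b
      rw [column_orthogonality_aux, if_neg]
      intro hconj
      have hg : IsConj z (b * z * b⁻¹) := isConj_iff.mpr ⟨b, rfl⟩
      have hgh : b * z * b⁻¹ * (b * z * b⁻¹ * c⁻¹)⁻¹ = (b * z * b⁻¹) * c * (b * z * b⁻¹)⁻¹ := by
        group
      have hord : orderOf (b * z * b⁻¹ * (b * z * b⁻¹ * c⁻¹)⁻¹) = orderOf c := by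
        rw [hgh]
        have := (MulAut.conj (b * z * b⁻¹)).orderOf_eq c
        rw [MulAut.conj_apply] at this
        exact this
      obtain ⟨k, hk⟩ := hcp
      refine hne (b * z * b⁻¹) (b * z * b⁻¹ * c⁻¹) hg hconj.symm ?_ k ?_
      · intro h
        rw [hgh] at h
        apply hc1
        have := congrArg (fun t => (b * z * b⁻¹)⁻¹ * t * (b * z * b⁻¹)) h
        simpa [mul_assoc] using this
      · rw [hord, hk]
    simp_rw [h2]
    simp
  -- the sums over the p-elements
  have hP : ∀ χ : Cfsg.IrrCharacter G, ∃ m : ℤ,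
      ∑ c : G, (if ∃ k : ℕ, orderOf c = p ^ k then conj ((χ : G → ℂ) c) else 0) =
      ((p ^ (Nat.card G).factorization p : ℕ) : ℂ) * (m : ℂ) := by
    intro χ
    obtain ⟨m, hm⟩ := sum_pElements_char p (IsIrrCharacter.isCharacter χ.2)
    refine ⟨m, ?_⟩
    have := congrArg conj hm
    rw [map_sum, map_mul, Complex.conj_natCast, map_intCast] at this
    rw [← this]
    apply Finset.sum_congr rfl
    intro c _
    split_ifs
    · rfl
    · rw [map_zero]
  choose m hm using hP
  -- the key identity
  have hkey : (Nat.card (Subgroup.centralizer ({z} : Set G)) : ℂ) =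
      ∑ χ : Cfsg.IrrCharacter G, (χ : G → ℂ) z * conj ((χ : G → ℂ) z) *
        (((p ^ (Nat.card G).factorization p : ℕ) : ℂ) * (m χ : ℂ)) / (χ : G → ℂ) 1 := by
    have h1 : ∑ c : G, (if ∃ k : ℕ, orderOf c = p ^ k then
        ∑ χ : Cfsg.IrrCharacter G, (χ : G → ℂ) z * conj ((χ : G → ℂ) z) *
          conj ((χ : G → ℂ) c) / (χ : G → ℂ) 1 else 0) =
        (Nat.card (Subgroup.centralizer ({z} : Set G)) : ℂ) := by
      rw [Finset.sum_eq_single (1 : G)]
      · rw [if_pos ⟨0, by simp⟩]
        have h2 := column_orthogonality_aux z z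
        rw [if_pos (IsConj.refl z)] at h2
        rw [← h2]
        apply Finset.sum_congr rfl
        intro χ _
        have h1ne : (χ : G → ℂ) 1 ≠ 0 := IsIrrCharacter.apply_one_ne_zero χ.2
        obtain ⟨d, -, hd⟩ := IsIrrCharacter.apply_one_pos χ.2
        rw [hd, Complex.conj_natCast]
        rw [hd] at h1ne
        field_simp
      · intro c _ hc
        split_ifs with hcp
        · exact hE c hc hcp
        · rfl
      · intro h
        exact absurd (Finset.mem_univ _) h
    rw [← h1]
    have h3 : ∀ c : G, (if ∃ k : ℕ, orderOf c = p ^ k then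
        ∑ χ : Cfsg.IrrCharacter G, (χ : G → ℂ) z * conj ((χ : G → ℂ) z) *
          conj ((χ : G → ℂ) c) / (χ : G → ℂ) 1 else 0) =
        ∑ χ : Cfsg.IrrCharacter G, (χ : G → ℂ) z * conj ((χ : G → ℂ) z) / (χ : G → ℂ) 1 *
          (if ∃ k : ℕ, orderOf c = p ^ k then conj ((χ : G → ℂ) c) else 0) := by
      intro c
      split_ifs
      · apply Finset.sum_congr rfl
        intro χ _
        ring
      · simp
    simp_rw [h3]
    rw [Finset.sum_comm]
    apply Finset.sum_congr rfl
    intro χ _
    rw [← Finset.mul_sum, hm χ]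
    ring
  -- every term lies in the local ideal
  apply hz
  apply dvd_of_memLocalIdeal_natCast hM
  rw [hkey]
  apply MemLocalIdeal.sum hM.2.1
  intro χ _
  obtain ⟨d, hd, hddvd, hdpos⟩ := IsIrrCharacter.degree_dvd_card χ.2
  have hχc := IsIrrCharacter.isCharacter χ.2
  have hdeg : Cfsg.charDegree (χ : G → ℂ) = d := by
    have := charDegree_cast_of_isCharacter hχc
    rw [hd] at this
    exact_mod_cast this
  have hno' := hno χ
  rw [hdeg] at hno'
  set a := (Nat.card G).factorization p with ha
  have hG0' : Nat.card G ≠ 0 := (Nat.card_pos (α := G)).ne'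
  have hle : d.factorization p ≤ a :=
    (Nat.factorization_le_iff_dvd hdpos.ne' hG0').mpr hddvd p
  have hlt : d.factorization p < a := lt_of_le_of_ne hle hno'
  set v := d.factorization p with hv
  set d' := d / p ^ v with hd'
  have hdd : p ^ v * d' = d := Nat.ordProj_mul_ordCompl_eq_self d p
  have hd'nd : ¬ p ∣ d' := Nat.not_dvd_ordCompl hp.out hdpos.ne'
  have hint : IsIntegral ℤ ((χ : G → ℂ) z * conj ((χ : G → ℂ) z) * (m χ : ℂ)) := by
    apply IsIntegral.mul
    · apply IsIntegral.mul
      · exact IsCharacter.isIntegral_value hχc z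
      · exact IsCharacter.conj_isIntegral hχc z
    · exact isIntegral_algebraMap (R := ℤ) (A := ℂ) (x := m χ) |> fun h => by simpa using h
  have := memLocalIdeal_prime_mul_div hM.2.1 p hp.out hM.2.2 (p ^ (a - v - 1)) d' hd'nd _ hint
  have hd'0 : (d' : ℂ) ≠ 0 := by
    have : d' ≠ 0 := by
      intro h
      rw [h, mul_zero] at hdd
      exact hdpos.ne' hdd.symm
    exact_mod_cast this
  have hp0 : (p : ℂ) ≠ 0 := by exact_mod_cast hp.out.ne_zero
  have heq : (χ : G → ℂ) z * conj ((χ : G → ℂ) z) *
      (((p ^ a : ℕ) : ℂ) * (m χ : ℂ)) / (χ : G → ℂ) 1 =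
      (p : ℂ) * ((p ^ (a - v - 1) : ℕ) : ℂ) *
        ((χ : G → ℂ) z * conj ((χ : G → ℂ) z) * (m χ : ℂ)) / (d' : ℂ) := by
    rw [hd, ← hdd]
    have hpa : p ^ a = p ^ v * (p * p ^ (a - v - 1)) := by
      rw [← pow_succ', ← pow_add]
      congr 1
      omega
    rw [hpa]
    push_cast
    have hpv0 : (p : ℂ) ^ v ≠ 0 := pow_ne_zero _ hp0
    field_simp
  rw [heq]
  exact this

end Cfsg.Agent.Helper6
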