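import Mathlib
import Cfsg.Prelude.Def_Characters
import Cfsg.Prelude.Def_Blocks
import Cfsg.Prelude.Def_Local
import Cfsg.Agent.Helper6.PElemSumA
import Cfsg.Agent.Helper4.PSolvable

/-!
# Characters of defect zero in `p`-solvable groups without commuting `p`- and `q`-elements
-/

set_option autoImplicit false
set_option linter.style.haveILetI false

namespace Cfsg.Agent.Helper6

open scoped ComplexConjugate

universe u

variable {G : Type u} [Group G]

/-- If the centralizer of every nonidentity `p`-element has order prime to `q`, then the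
centralizer of every nonidentity `q`-element has order prime to `p`. -/
theorem not_dvd_card_centralizer_symm [Finite G] (p q : ℕ) [hp : Fact p.Prime] [hq : Fact q.Prime]
    (hC : ∀ g : G, g ≠ 1 → (∃ k : ℕ, orderOf g = p ^ k) →
      ¬ q ∣ Nat.card ↥(Subgroup.centralizer ({g} : Set G)))
    (z : G) (hz1 : z ≠ 1) (hzq : ∃ k : ℕ, orderOf z = q ^ k) :
    ¬ p ∣ Nat.card ↥(Subgroup.centralizer ({z} : Set G)) := by
  intro hdvd
  obtain ⟨x, hx⟩ := exists_prime_orderOf_dvd_card' p hdvd
  have hx1 : (x : G) ≠ 1 := by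
    intro h
    have h2 : x = 1 := Subtype.ext h
    rw [h2, orderOf_one] at hx
    exact hp.out.one_lt.ne hx
  have hxp : ∃ k : ℕ, orderOf (x : G) = p ^ k := ⟨1, by rw [Subgroup.orderOf_coe, hx, pow_one]⟩
  apply hC (x : G) hx1 hxp
  obtain ⟨k, hk⟩ := hzq
  have hk0 : k ≠ 0 := by
    rintro rfl
    rw [pow_zero, orderOf_eq_one_iff] at hk
    exact hz1 hk
  have hzmem : z ∈ Subgroup.centralizer ({(x : G)} : Set G) := by
    rw [Subgroup.mem_centralizer_iff]
    intro y hy
    rw [Set.mem_singleton_iff] at hy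
    rw [hy]
    have := Subgroup.mem_centralizer_iff.mp x.2 z rfl
    exact this.symm
  have h1 := Subgroup.orderOf_dvd_natCard _ hzmem
  rw [hk] at h1
  exact dvd_trans (dvd_pow_self q hk0) h1

/-- A normal subgroup whose order is divisible by `p` but not by `q` forces a character of
`q`-defect zero (when nonidentity `p`-elements have centralizers of order prime to `q`). -/
theorem exists_defect_zero_of_normal [Finite G] (p q : ℕ) [hp : Fact p.Prime] [hq : Fact q.Prime]
    (hC : ∀ g : G, g ≠ 1 → (∃ k : ℕ, orderOf g = p ^ k) →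
      ¬ q ∣ Nat.card ↥(Subgroup.centralizer ({g} : Set G)))
    (L : Subgroup G) [hL : L.Normal] (hpL : p ∣ Nat.card L) (hqL : ¬ q ∣ Nat.card L) :
    ∃ χ : Cfsg.IrrCharacter G,
      (Cfsg.charDegree (χ : G → ℂ)).factorization q = (Nat.card G).factorization q := by
  by_contra hno
  push Not at hno
  obtain ⟨x, hx⟩ := exists_prime_orderOf_dvd_card' p hpL
  have hx1 : (x : G) ≠ 1 := by
    intro h
    have h2 : x = 1 := Subtype.ext h
    rw [h2, orderOf_one] at hx
    exact hp.out.one_lt.ne hx
  have hxp : ∃ k : ℕ, orderOf (x : G) = p ^ k := ⟨1, by rw [Subgroup.orderOf_coe, hx, pow_one]⟩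
  obtain ⟨g, h, hg, hh, hne, k, hk⟩ :=
    exists_conj_quotient_pElement q hno (x : G) (hC (x : G) hx1 hxp)
  have hgL : g ∈ L := by
    obtain ⟨c, hc⟩ := isConj_iff.mp hg
    rw [← hc]
    exact hL.conj_mem _ x.2 c
  have hhL : h ∈ L := by
    obtain ⟨c, hc⟩ := isConj_iff.mp hh
    rw [← hc]
    exact hL.conj_mem _ x.2 c
  have hmem : g * h⁻¹ ∈ L := L.mul_mem hgL (L.inv_mem hhL)
  have hdvd := Subgroup.orderOf_dvd_natCard _ hmem
  rw [hk] at hdvd
  have hk0 : k = 0 := by
    by_contra hk0
    exact hqL (dvd_trans (dvd_pow_self q hk0) hdvd)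
  rw [hk0, pow_zero, orderOf_eq_one_iff] at hk
  exact hne hk

/-- In a `p`-solvable group of order divisible by `p` in which nonidentity `p`-elements and
`q`-elements never commute, there is a character of `p`-defect zero or of `q`-defect zero. -/
theorem exists_defect_zero_of_isPSolvable [Finite G] (p q : ℕ) [hp : Fact p.Prime]
    [hq : Fact q.Prime] (hpq : p ≠ q) (hpG : p ∣ Nat.card G)
    (hC : ∀ g : G, g ≠ 1 → (∃ k : ℕ, orderOf g = p ^ k) →
      ¬ q ∣ Nat.card ↥(Subgroup.centralizer ({g} : Set G)))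
    (hsolv : Cfsg.IsPSolvable p G) :
    (∃ χ : Cfsg.IrrCharacter G,
      (Cfsg.charDegree (χ : G → ℂ)).factorization p = (Nat.card G).factorization p) ∨
    (∃ χ : Cfsg.IrrCharacter G,
      (Cfsg.charDegree (χ : G → ℂ)).factorization q = (Nat.card G).factorization q) := by
  classical
  -- a normal `p'`-subgroup of maximal order
  haveI : Nonempty {Y : Subgroup G // Y.Normal ∧ ¬ p ∣ Nat.card Y} :=
    ⟨⟨⊥, inferInstance, by
      rw [Subgroup.card_bot]
      exact hp.out.one_lt.ne' ∘ Nat.dvd_one.mp⟩⟩
  obtain ⟨⟨Y, hYn, hYp⟩, hYmax⟩ := Finite.exists_max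
    (fun Y : {Y : Subgroup G // Y.Normal ∧ ¬ p ∣ Nat.card Y} => Nat.card (Y : Subgroup G))
  haveI := hYn
  have hYtop : Y < ⊤ := by
    rw [lt_top_iff_ne_top]
    rintro rfl
    apply hYp
    rw [Subgroup.card_top]
    exact hpG
  obtain ⟨W, hWn, hYW, -, hW⟩ :=
    Cfsg.Agent.Helper4.exists_normal_section_of_isPSolvable hsolv ⊤ Y hYtop
  haveI := hWn
  have hcard : Nat.card Y * Y.relIndex W = Nat.card W := by
    have := Subgroup.relIndex_mul_relIndex (⊥ : Subgroup G) Y W bot_le hYW.le
    rwa [Subgroup.relIndex_bot_left, Subgroup.relIndex_bot_left] at this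
  have hlt : Nat.card Y < Nat.card W := by
    have hle := Subgroup.card_le_of_le hYW.le
    rcases hle.lt_or_eq with h | h
    · exact h
    · exfalso
      have : Y = W := by
        apply Subgroup.eq_of_le_of_card_ge hYW.le
        rw [h]
      exact hYW.ne this
  rcases hW with ⟨m, hm⟩ | hcop
  · -- the section is a `p`-group
    have hm0 : m ≠ 0 := by
      rintro rfl
      rw [pow_zero] at hm
      rw [hm, mul_one] at hcard
      omega
    have hpW : p ∣ Nat.card W := by
      rw [← hcard, hm]
      exact dvd_mul_of_dvd_right (dvd_pow_self p hm0) _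
    by_cases hqY : q ∣ Nat.card Y
    · left
      exact exists_defect_zero_of_normal q p
        (fun z hz1 hzq => not_dvd_card_centralizer_symm p q hC z hz1 hzq) Y hqY hYp
    · right
      apply exists_defect_zero_of_normal p q hC W hpW
      rw [← hcard, hm]
      intro hdvd
      rcases (Nat.Prime.dvd_mul hq.out).mp hdvd with h | h
      · exact hqY h
      · have := (Nat.prime_dvd_prime_iff_eq hq.out hp.out).mp (hq.out.dvd_of_dvd_pow h)
        exact hpq this.symm
  · -- the section is a `p'`-group: contradiction with maximality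
    exfalso
    have hWp : ¬ p ∣ Nat.card W := by
      rw [← hcard]
      intro hdvd
      rcases (Nat.Prime.dvd_mul hp.out).mp hdvd with h | h
      · exact hYp h
      · exact (Nat.Prime.coprime_iff_not_dvd hp.out).mp hcop.symm h
    have := hYmax ⟨W, hWn, hWp⟩
    simp only at this
    omega

end Cfsg.Agent.Helper6
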