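import Mathlib
import Cfsg.Prelude.Def_Characters
import Cfsg.Agent.Helper6.FieldBndG

/-!
# Sums of roots of unity and relative cyclotomic fields
-/

set_option autoImplicit false
set_option linter.style.haveILetI false

namespace Cfsg.Agent.Helper6.PRat

open Polynomial

/-- setup: the `N₀`-th cyclotomic subfield of `ℂ`, its primitive root, and the primitive `r`-th
root inside it -/
theorem exists_cyclotomic_setup (N₀ r : ℕ) [NeZero N₀] [NeZero r] (hr : r ∣ N₀) :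
    ∃ (K : IntermediateField ℚ ℂ) (_ : IsCyclotomicExtension {N₀} ℚ K) (ζ η : K),
      IsPrimitiveRoot ζ N₀ ∧ IsPrimitiveRoot η r ∧
      ((η : K) : ℂ) = Complex.exp (2 * Real.pi * Complex.I / r) ∧
      (∀ μ : ℂ, μ ^ N₀ = 1 → μ ∈ K) := by
  set ζc : ℂ := Complex.exp (2 * Real.pi * Complex.I / N₀) with hζc
  have hζcprim : IsPrimitiveRoot ζc N₀ := Complex.isPrimitiveRoot_exp N₀ (NeZero.ne N₀)
  set K : IntermediateField ℚ ℂ := IntermediateField.adjoin ℚ {ζc} with hK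
  have hcyc : IsCyclotomicExtension {N₀} ℚ K := FieldBnd.isCyclotomicExtension_adjoin N₀ hζcprim
  have hζmem : ζc ∈ K := IntermediateField.subset_adjoin ℚ _ (Set.mem_singleton _)
  have hall : ∀ μ : ℂ, μ ^ N₀ = 1 → μ ∈ K := by
    intro μ hμ
    obtain ⟨a, -, ha⟩ := hζcprim.eq_pow_of_pow_eq_one hμ
    rw [← ha]
    exact K.pow_mem hζmem a
  set ηc : ℂ := Complex.exp (2 * Real.pi * Complex.I / r) with hηc
  have hηcprim : IsPrimitiveRoot ηc r := Complex.isPrimitiveRoot_exp r (NeZero.ne r)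
  have hηmem : ηc ∈ K := by
    apply hall
    obtain ⟨c, hc⟩ := hr
    rw [hc, pow_mul, hηcprim.pow_eq_one, one_pow]
  refine ⟨K, hcyc, ⟨ζc, hζmem⟩, ⟨ηc, hηmem⟩, ?_, ?_, rfl, hall⟩
  · exact IsPrimitiveRoot.of_map_of_injective (f := K.val) (by simpa using hζcprim)
      K.val.injective
  · exact IsPrimitiveRoot.of_map_of_injective (f := K.val) (by simpa using hηcprim)
      K.val.injective

/-- **(G1)** a sum of `N₀`-th roots of unity lying in the `r`-th cyclotomic field (`r ∣ N₀`) is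
fixed by the power maps `j ≡ 1 mod r` -/
theorem powSum_fixed_of_mem_adjoin (N₀ r : ℕ) [NeZero N₀] [NeZero r] (hr : r ∣ N₀)
    {ι : Type*} [Fintype ι] (μ : ι → ℂ) (hμ : ∀ i, μ i ^ N₀ = 1)
    (hs : ∑ i, μ i ∈ IntermediateField.adjoin ℚ
      ({Complex.exp (2 * Real.pi * Complex.I / r)} : Set ℂ))
    (j : ℕ) (hj : j.Coprime N₀) (hj1 : j ≡ 1 [MOD r]) : ∑ i, μ i ^ j = ∑ i, μ i := by
  classical
  obtain ⟨K, hcyc, ζ, η, hζ, hη, hηval, hall⟩ := exists_cyclotomic_setup N₀ r hr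
  obtain ⟨σ, hσ⟩ := FieldBnd.exists_aut_pow N₀ K (ZMod.unitOfCoprime j hj)
  have hval : ((ZMod.unitOfCoprime j hj : (ZMod N₀)ˣ) : ZMod N₀).val = j % N₀ := by
    rw [ZMod.coe_unitOfCoprime, ZMod.val_natCast]
  set ω : ι → K := fun i => ⟨μ i, hall _ (hμ i)⟩ with hω
  have hωN : ∀ i, ω i ^ N₀ = 1 := by
    intro i
    apply Subtype.ext
    simp only [hω, SubmonoidClass.mk_pow, hμ i]
    rfl
  have hσω : ∀ i, σ (ω i) = ω i ^ j := by
    intro i
    rw [hσ _ (hωN i), hval, ← pow_eq_pow_mod j (hωN i)]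
  set x : K := ∑ i, ω i with hx
  have hxval : ((x : K) : ℂ) = ∑ i, μ i := by
    rw [hx]
    simp [hω]
  have hσx : ((σ x : K) : ℂ) = ∑ i, μ i ^ j := by
    rw [hx, map_sum]
    simp only [hσω]
    simp [hω]
  -- `σ` fixes `η`
  have hηN : η ^ N₀ = 1 := by
    obtain ⟨c, hc⟩ := hr
    rw [hc, pow_mul, hη.pow_eq_one, one_pow]
  have hση : σ η = η := by
    rw [hσ _ hηN, hval, ← pow_eq_pow_mod j hηN, pow_eq_pow_mod j hη.pow_eq_one, hj1,
      ← pow_eq_pow_mod 1 hη.pow_eq_one, pow_one]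
  -- `x` is a polynomial in `η`
  have hηint : IsIntegral ℚ ((η : K) : ℂ) := by
    apply IsIntegral.of_pow (NeZero.pos r)
    rw [← Subsemiring.coe_pow, hη.pow_eq_one]
    exact isIntegral_one
  rw [← hηval, ← hxval] at hs
  have h3 : ((x : K) : ℂ) ∈ (IntermediateField.adjoin ℚ ({((η : K) : ℂ)} : Set ℂ)).toSubalgebra :=
    hs
  rw [IntermediateField.adjoin_simple_toSubalgebra_of_isAlgebraic hηint.isAlgebraic,
    Algebra.adjoin_singleton_eq_range_aeval] at h3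
  obtain ⟨P, hP⟩ := h3
  have hP' : Polynomial.aeval ((η : K) : ℂ) P = ((x : K) : ℂ) := hP
  set φ : K →ₐ[ℚ] ℂ := ((K.val : K →ₐ[ℚ] ℂ) : K →+* ℂ).toRatAlgHom with hφ
  have hφv : ∀ y : K, φ y = (y : ℂ) := fun y => rfl
  have hxP : x = Polynomial.aeval η P := by
    apply Subtype.ext
    rw [← hP']
    have := Polynomial.aeval_algHom_apply φ η P
    rw [hφv, hφv] at this
    exact this
  have hσfix : σ x = x := by
    rw [hxP]
    have := Polynomial.aeval_algHom_apply (σ : K →ₐ[ℚ] K) η P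
    rw [AlgEquiv.coe_toAlgHom] at this
    rw [← this, hση]
  rw [← hσx, hσfix, hxval]

/-- **(G2)** a sum of `N₀`-th roots of unity fixed by the power maps `j ≡ 1 mod r` (`r ∣ N₀`)
lies in the `r`-th cyclotomic field -/
theorem powSum_mem_adjoin_of_fixed (N₀ r : ℕ) [NeZero N₀] [NeZero r] (hr : r ∣ N₀)
    {ι : Type*} [Fintype ι] (μ : ι → ℂ) (hμ : ∀ i, μ i ^ N₀ = 1)
    (h : ∀ j : ℕ, j.Coprime N₀ → j ≡ 1 [MOD r] → ∑ i, μ i ^ j = ∑ i, μ i) :
    ∑ i, μ i ∈ IntermediateField.adjoin ℚ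
      ({Complex.exp (2 * Real.pi * Complex.I / r)} : Set ℂ) := by
  classical
  obtain ⟨K, hcyc, ζ, η, hζ, hη, hηval, hall⟩ := exists_cyclotomic_setup N₀ r hr
  haveI : FiniteDimensional ℚ K := IsCyclotomicExtension.finiteDimensional {N₀} ℚ K
  haveI : IsGalois ℚ K := IsCyclotomicExtension.isGalois {N₀} ℚ K
  set ω : ι → K := fun i => ⟨μ i, hall _ (hμ i)⟩ with hω
  have hωN : ∀ i, ω i ^ N₀ = 1 := by
    intro i
    apply Subtype.ext
    simp only [hω, SubmonoidClass.mk_pow, hμ i]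
    rfl
  set x : K := ∑ i, ω i with hx
  have hxval : ((x : K) : ℂ) = ∑ i, μ i := by
    rw [hx]
    simp [hω]
  set F : IntermediateField ℚ K := IntermediateField.adjoin ℚ {η} with hF
  have hxF : x ∈ F := by
    rw [← IsGalois.fixedField_fixingSubgroup F, IntermediateField.mem_fixedField_iff]
    intro σ hσ
    rw [IntermediateField.mem_fixingSubgroup_iff] at hσ
    have hση : σ η = η := hσ η (IntermediateField.subset_adjoin ℚ _ (Set.mem_singleton _))
    set j : ℕ := ((hζ.autToPow ℚ σ : (ZMod N₀)ˣ) : ZMod N₀).val with hj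
    have hspec : ζ ^ j = σ ζ := hζ.autToPow_spec ℚ σ
    have hjcop : j.Coprime N₀ := ZMod.val_coe_unit_coprime _
    have hσroot : ∀ u : K, u ^ N₀ = 1 → σ u = u ^ j := by
      intro u hu
      obtain ⟨a, -, rfl⟩ := hζ.eq_pow_of_pow_eq_one hu
      rw [map_pow, ← hspec, ← pow_mul, ← pow_mul, mul_comm]
    have hηN : η ^ N₀ = 1 := by
      obtain ⟨c, hc⟩ := hr
      rw [hc, pow_mul, hη.pow_eq_one, one_pow]
    have hj1 : j ≡ 1 [MOD r] := by
      have h1 : η ^ j = η ^ 1 := by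
        rw [← hσroot η hηN, hση, pow_one]
      have h2 := (hη.pow_inj (Nat.mod_lt j (NeZero.pos r)) (Nat.mod_lt 1 (NeZero.pos r)))
        (by rw [← pow_eq_pow_mod j hη.pow_eq_one, ← pow_eq_pow_mod 1 hη.pow_eq_one, h1])
      exact h2
    have hfix := h j hjcop hj1
    apply Subtype.ext
    have h3 : ((σ x : K) : ℂ) = ∑ i, μ i ^ j := by
      rw [hx, map_sum]
      simp only [fun i => hσroot (ω i) (hωN i)]
      simp [hω]
    rw [h3, hfix, hxval]
  set φ : K →ₐ[ℚ] ℂ := ((K.val : K →ₐ[ℚ] ℂ) : K →+* ℂ).toRatAlgHom with hφ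
  have hφv : ∀ y : K, φ y = (y : ℂ) := fun y => rfl
  set S' : IntermediateField ℚ ℂ := IntermediateField.adjoin ℚ ({((η : K) : ℂ)} : Set ℂ) with hS'
  have hle : F ≤ S'.comap φ := by
    rw [hF, IntermediateField.adjoin_le_iff]
    intro y hy
    rw [Set.mem_singleton_iff] at hy
    rw [hy]
    show φ η ∈ S'
    rw [hφv]
    exact IntermediateField.subset_adjoin ℚ _ (Set.mem_singleton _)
  have h4 : φ x ∈ S' := hle hxF
  rw [hφv, hxval, hS', hηval] at h4
  exact h4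

end Cfsg.Agent.Helper6.PRat
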