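import Mathlib
import Cfsg.Prelude.Def_Characters
import Cfsg.Prelude.Def_Blocks
import Cfsg.Agent.Helper6.PRatA
import Cfsg.Agent.Helper6.AlpDadeH
import Cfsg.Agent.Helper6.OsimaSupport

/-!
# `p`-rational characters via power maps; the principal block tested on `p`-regular elements
-/

set_option autoImplicit false
set_option linter.style.haveILetI false

namespace Cfsg.Agent.Helper6.PRat

open scoped ComplexConjugate
open Cfsg.Agent.Helper6.AlpDade

universe u

variable {X : Type u} [Group X]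

/-- a character with values in the `m`-th cyclotomic field is invariant under the power maps
`K ≡ 1 mod m` -/
theorem char_powInv_of_mem_adjoin [Finite X] {χ : X → ℂ} (hχ : Cfsg.IsCharacter X χ)
    (m N₀ : ℕ) [NeZero m] [NeZero N₀] (hm : m ∣ N₀) (hX : Nat.card X ∣ N₀)
    (hrat : ∀ x : X, χ x ∈ IntermediateField.adjoin ℚ
      ({Complex.exp (2 * Real.pi * Complex.I / m)} : Set ℂ))
    (K : ℕ) (hK : K.Coprime N₀) (hK1 : K ≡ 1 [MOD m]) (x : X) : χ (x ^ K) = χ x := by
  obtain ⟨n, ρ, rfl⟩ := hχ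
  have hx : x ^ N₀ = 1 := by
    obtain ⟨c, hc⟩ := hX
    rw [hc, pow_mul, pow_card_eq_one', one_pow]
  obtain ⟨ι, hι, ω, hω, hsum⟩ := FieldBnd.exists_sum_roots ρ x N₀ hx ⊤ (fun _ _ => trivial)
  have hμ : ∀ i, ((ω i : (⊤ : IntermediateField ℚ ℂ)) : ℂ) ^ N₀ = 1 := by
    intro i
    have := congrArg Subtype.val (hω i)
    simpa using this
  have h1 := hsum 1
  rw [pow_one] at h1
  simp only [pow_one] at h1
  have hs : ∑ i, ((ω i : (⊤ : IntermediateField ℚ ℂ)) : ℂ) ∈ IntermediateField.adjoin ℚ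
      ({Complex.exp (2 * Real.pi * Complex.I / m)} : Set ℂ) := by
    rw [← h1]
    exact hrat x
  have h2 := powSum_fixed_of_mem_adjoin N₀ m hm _ hμ hs K hK hK1
  rw [hsum K, h2, ← h1]

/-- a character invariant under the power maps `K ≡ 1 mod R` has values in the `R`-th cyclotomic
field -/
theorem char_mem_adjoin_of_powInv [Finite X] {χ : X → ℂ} (hχ : Cfsg.IsCharacter X χ)
    (R N₀ : ℕ) [NeZero R] [NeZero N₀] (hR : R ∣ N₀) (hX : Nat.card X ∣ N₀)
    (hinv : ∀ K : ℕ, K.Coprime N₀ → K ≡ 1 [MOD R] → ∀ x : X, χ (x ^ K) = χ x) (x : X) :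
    χ x ∈ IntermediateField.adjoin ℚ
      ({Complex.exp (2 * Real.pi * Complex.I / R)} : Set ℂ) := by
  obtain ⟨n, ρ, rfl⟩ := hχ
  have hx : x ^ N₀ = 1 := by
    obtain ⟨c, hc⟩ := hX
    rw [hc, pow_mul, pow_card_eq_one', one_pow]
  obtain ⟨ι, hι, ω, hω, hsum⟩ := FieldBnd.exists_sum_roots ρ x N₀ hx ⊤ (fun _ _ => trivial)
  have hμ : ∀ i, ((ω i : (⊤ : IntermediateField ℚ ℂ)) : ℂ) ^ N₀ = 1 := by
    intro i
    have := congrArg Subtype.val (hω i)
    simpa using this
  have h1 := hsum 1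
  rw [pow_one] at h1
  simp only [pow_one] at h1
  rw [h1]
  apply powSum_mem_adjoin_of_fixed N₀ R hR _ hμ
  intro j hj hj1
  rw [← hsum j, hinv j hj hj1 x, h1]

variable {G : Type u} [Group G] {M : Ideal Cfsg.AlgInt}

/-- **the principal block can be tested on `p`-regular elements** -/
theorem mem_principalBlock_of_regular [Fintype G] {p : ℕ} [hp : Fact p.Prime]
    (hM : Cfsg.IsPModular p M) (χ : Cfsg.IrrCharacter G)
    (h : ∀ g : G, ¬ p ∣ orderOf g →
      Cfsg.MemLocalIdeal M (Cfsg.centralChar (χ : G → ℂ) g - (cls g : ℂ))) :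
    χ ∈ Cfsg.principalBlock M G := by
  classical
  by_contra hχ
  set B := Cfsg.principalBlock M G with hB
  have hBb : Cfsg.IsPBlock M B := isPBlock_principalBlock G
  have hs1 := sum_blockCoeff_mul B χ
  rw [if_neg hχ] at hs1
  have hs2 := sum_blockCoeff_mul B (trivIrr G)
  rw [if_pos (trivIrr_mem_principalBlock hM.2.1)] at hs2
  have hχ1 : (χ : G → ℂ) 1 ≠ 0 := IsIrrCharacter.apply_one_ne_zero χ.2
  set f : G → ℂ := fun g => Cfsg.blockCoeff B g * ((χ : G → ℂ) g / (χ : G → ℂ) 1 - 1) with hf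
  have hsum : ∑ g : G, f g = -1 := by
    have e : ∀ g : G, f g = ((χ : G → ℂ) 1)⁻¹ * (Cfsg.blockCoeff B g * (χ : G → ℂ) g) -
        Cfsg.blockCoeff B g * ((trivIrr G : Cfsg.IrrCharacter G) : G → ℂ) g := by
      intro g
      rw [hf]
      show _ = ((χ : G → ℂ) 1)⁻¹ * (Cfsg.blockCoeff B g * (χ : G → ℂ) g) -
        Cfsg.blockCoeff B g * 1
      field_simp
    rw [Finset.sum_congr rfl (fun g _ => e g), Finset.sum_sub_distrib, ← Finset.mul_sum, hs1,
      hs2]
    show ((χ : G → ℂ) 1)⁻¹ * 0 - 1 = -1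
    ring
  have hχcf := IsCharacter.isClassFunction (IsIrrCharacter.isCharacter χ.2)
  have hmem : Cfsg.MemLocalIdeal M (∑ g : G, f g) := by
    apply PrinCent.memLocalIdeal_sum_of_class hM.2.1 f
    · intro g x
      rw [hf]
      simp only
      rw [blockCoeff_isClassFunction B g x, hχcf]
    · intro g
      by_cases hg : p ∣ orderOf g
      · rw [hf]
        simp only
        rw [blockCoeff_eq_zero_of_singular hM.2.1 p hM.2.2 B hBb g hg, zero_mul, mul_zero]
        exact memLocalIdeal_zero hM.2.1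
      · have h1 := h g hg
        have e : ((Subgroup.centralizer ({g} : Set G)).index : ℂ) * f g =
            Cfsg.blockCoeff B g * (Cfsg.centralChar (χ : G → ℂ) g - (cls g : ℂ)) := by
          rw [hf, centralChar_eq_cls]
          unfold cls
          ring
        rw [e]
        exact MemLocalIdeal.mul_left hM.2.1 (osima hM.2.1 B hBb g) h1
  rw [hsum] at hmem
  have := MemLocalIdeal.neg hmem
  rw [neg_neg] at this
  exact not_memLocalIdeal_one this

end Cfsg.Agent.Helper6.PRat
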