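import Mathlib
import Cfsg.Prelude.Def_Characters
import Cfsg.Prelude.Def_Blocks
import Cfsg.Agent.Helper6.PRatB

/-!
# Group-theoretic lemmas for `p`-rational extensions: relative class sizes, `p`-regular elements
-/

set_option autoImplicit false
set_option linter.style.haveILetI false

namespace Cfsg.Agent.Helper6.PRat

open scoped ComplexConjugate
open Cfsg.Agent.Helper6.AlpDade

universe u

variable {G : Type u} [Group G] {M : Ideal Cfsg.AlgInt}

/-- the size of the `N`-class of `g` -/
noncomputable def cN (N : Subgroup G) (g : G) : ℕ :=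
  (Subgroup.centralizer ({g} : Set G)).relIndex N

theorem centralizer_conj (g x : G) :
    Subgroup.centralizer ({x * g * x⁻¹} : Set G) =
      (Subgroup.centralizer ({g} : Set G)).map (MulAut.conj x).toMonoidHom := by
  ext y
  rw [Subgroup.mem_map, Subgroup.mem_centralizer_iff]
  simp only [Set.mem_singleton_iff, forall_eq]
  constructor
  · intro h
    refine ⟨x⁻¹ * y * x, ?_, ?_⟩
    · rw [Subgroup.mem_centralizer_iff]
      simp only [Set.mem_singleton_iff, forall_eq]
      calc g * (x⁻¹ * y * x) = x⁻¹ * ((x * g * x⁻¹) * y) * x := by group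
        _ = x⁻¹ * (y * (x * g * x⁻¹)) * x := by rw [h]
        _ = x⁻¹ * y * x * g := by group
    · show x * (x⁻¹ * y * x) * x⁻¹ = y
      group
  · rintro ⟨z, hz, rfl⟩
    rw [Subgroup.mem_centralizer_iff] at hz
    simp only [Set.mem_singleton_iff, forall_eq] at hz
    show x * g * x⁻¹ * (x * z * x⁻¹) = x * z * x⁻¹ * (x * g * x⁻¹)
    calc x * g * x⁻¹ * (x * z * x⁻¹) = x * (g * z) * x⁻¹ := by group
      _ = x * (z * g) * x⁻¹ := by rw [hz]
      _ = x * z * x⁻¹ * (x * g * x⁻¹) := by group

theorem cN_conj (N : Subgroup G) [hN : N.Normal] (g x : G) : cN N (x * g * x⁻¹) = cN N g := by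
  unfold cN
  rw [centralizer_conj]
  have h1 : N = N.map (MulAut.conj x).toMonoidHom := by
    ext y
    rw [Subgroup.mem_map]
    constructor
    · intro hy
      refine ⟨x⁻¹ * y * x, ?_, ?_⟩
      · have := hN.conj_mem y hy x⁻¹
        rwa [inv_inv] at this
      · show x * (x⁻¹ * y * x) * x⁻¹ = y
        group
    · rintro ⟨z, hz, rfl⟩
      exact hN.conj_mem z hz x
  conv_lhs => rw [h1]
  exact Subgroup.relIndex_map_map_of_injective _ _ (MulAut.conj x).injective

theorem centralizer_pow_coprime (g : G) (K : ℕ) (hK : (orderOf g).Coprime K) :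
    Subgroup.centralizer ({g ^ K} : Set G) = Subgroup.centralizer ({g} : Set G) := by
  apply le_antisymm
  · -- `g` is a power of `g ^ K`
    have hmem : g ∈ Subgroup.zpowers (g ^ K) := by
      have h1 : Subgroup.zpowers (g ^ K) = Subgroup.zpowers g := by
        apply le_antisymm
        · rw [Subgroup.zpowers_le]
          exact Subgroup.pow_mem _ (Subgroup.mem_zpowers g) K
        · by_cases hfin : orderOf g = 0
          · rw [hfin] at hK
            have : K = 1 := by simpa using hK
            rw [this, pow_one]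
          · have hpos : 0 < orderOf g := Nat.pos_of_ne_zero hfin
            have hfo : IsOfFinOrder g := orderOf_pos_iff.mp hpos
            have hcard : Nat.card (Subgroup.zpowers (g ^ K)) = Nat.card (Subgroup.zpowers g) := by
              rw [Nat.card_zpowers, Nat.card_zpowers, hK.orderOf_pow]
            have hle : Subgroup.zpowers (g ^ K) ≤ Subgroup.zpowers g := by
              rw [Subgroup.zpowers_le]
              exact Subgroup.pow_mem _ (Subgroup.mem_zpowers g) K
            haveI : Finite (Subgroup.zpowers g) :=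
              Nat.finite_of_card_ne_zero (by rw [Nat.card_zpowers]; exact hfin)
            exact (Subgroup.eq_of_le_of_card_ge hle hcard.ge).ge
      rw [h1]
      exact Subgroup.mem_zpowers g
    obtain ⟨i, hi⟩ := Subgroup.mem_zpowers_iff.mp hmem
    intro y hy
    rw [Subgroup.mem_centralizer_iff] at hy ⊢
    simp only [Set.mem_singleton_iff, forall_eq] at hy ⊢
    rw [← hi]
    exact ((Commute.zpow_left (show Commute (g ^ K) y from hy) i)).eq
  · intro y hy
    rw [Subgroup.mem_centralizer_iff] at hy ⊢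
    simp only [Set.mem_singleton_iff, forall_eq] at hy ⊢
    exact ((Commute.pow_left (show Commute g y from hy) K)).eq

/-- the basic index relation: `|N : C_N(g)| |H : N| = |C_H(g) : C_N(g)| |H : C_H(g)|` -/
theorem index_relation (N H : Subgroup G) [hN : N.Normal] (hNH : N ≤ H) (g : G) :
    ∃ e : ℕ, e ∣ N.relIndex H ∧
      cN N g * N.relIndex H = e * (Subgroup.centralizer ({g} : Set G)).relIndex H := by
  set A := Subgroup.centralizer ({g} : Set G) with hA
  refine ⟨N.relIndex (A ⊓ H), ?_, ?_⟩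
  · have h1 : (N.subgroupOf H).relIndex ((A ⊓ H).subgroupOf H) = N.relIndex (A ⊓ H) :=
      Subgroup.relIndex_subgroupOf inf_le_right
    rw [← h1]
    exact Subgroup.relIndex_dvd_index_of_normal _ _
  · unfold cN
    have e1 := Subgroup.relIndex_mul_relIndex (A ⊓ N) N H inf_le_right hNH
    have e2 := Subgroup.relIndex_mul_relIndex (A ⊓ N) (A ⊓ H) H
      (le_inf inf_le_left (inf_le_right.trans hNH)) inf_le_right
    rw [Subgroup.inf_relIndex_right] at e1 e2
    have e3 : A ⊓ N = N ⊓ (A ⊓ H) := by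
      apply le_antisymm
      · exact le_inf inf_le_right (le_inf inf_le_left (inf_le_right.trans hNH))
      · exact le_inf (inf_le_right.trans inf_le_left) inf_le_left
    have e4 : (A ⊓ N).relIndex (A ⊓ H) = N.relIndex (A ⊓ H) := by
      rw [e3, Subgroup.inf_relIndex_right]
    rw [e4] at e2
    rw [← hA, e1, e2]

/-- transfer of congruences between the `N`-class size and the `H`-class size when `|H : N|` is
prime to `p` -/
theorem memLocalIdeal_cN_iff {p : ℕ} [hp : Fact p.Prime] (hM : Cfsg.IsPModular p M)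
    (N H : Subgroup G) [hN : N.Normal] (hNH : N ≤ H) (hidx : ¬ p ∣ N.relIndex H) (g : G) (y : ℂ) :
    Cfsg.MemLocalIdeal M ((cN N g : ℂ) * y) ↔
      Cfsg.MemLocalIdeal M
        (((Subgroup.centralizer ({g} : Set G)).relIndex H : ℂ) * y) := by
  obtain ⟨e, he, hrel⟩ := index_relation N H hNH g
  have hep : ¬ p ∣ e := fun h => hidx (h.trans he)
  have hrel' : (cN N g : ℂ) * (N.relIndex H : ℂ) =
      (e : ℂ) * ((Subgroup.centralizer ({g} : Set G)).relIndex H : ℂ) := by exact_mod_cast hrel
  constructor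
  · intro h
    have h1 := MemLocalIdeal.mul_left hM.2.1 (memLocalRing_natCast hM.2.1 (N.relIndex H)) h
    have e1 : (N.relIndex H : ℂ) * ((cN N g : ℂ) * y) =
        (e : ℂ) * (((Subgroup.centralizer ({g} : Set G)).relIndex H : ℂ) * y) := by
      linear_combination y * hrel'
    rw [e1] at h1
    exact memLocalIdeal_of_natCast_mul hM _ hep _ h1
  · intro h
    have h1 := MemLocalIdeal.mul_left hM.2.1 (memLocalRing_natCast hM.2.1 e) h
    have e1 : (e : ℂ) * (((Subgroup.centralizer ({g} : Set G)).relIndex H : ℂ) * y) =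
        (N.relIndex H : ℂ) * ((cN N g : ℂ) * y) := by
      linear_combination (-y) * hrel'
    rw [e1] at h1
    exact memLocalIdeal_of_natCast_mul hM _ hidx _ h1

/-- the `N`-class size divides the class size -/
theorem cN_dvd_cls (N : Subgroup G) [hN : N.Normal] [Finite G] (g : G) : cN N g ∣ cls g := by
  obtain ⟨e, he, hrel⟩ := index_relation N ⊤ le_top g
  rw [Subgroup.relIndex_top_right, Subgroup.relIndex_top_right] at hrel
  rw [Subgroup.relIndex_top_right] at he
  obtain ⟨t, ht⟩ := he
  have he0 : e ≠ 0 := by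
    intro h0
    rw [h0, zero_mul] at ht
    exact Subgroup.index_ne_zero_of_finite ht
  refine ⟨t, ?_⟩
  unfold cls
  rw [ht] at hrel
  have : e * (cN N g * t) = e * (Subgroup.centralizer ({g} : Set G)).index := by
    rw [← hrel]
    ring
  exact (Nat.eq_of_mul_eq_mul_left (Nat.pos_of_ne_zero he0) this).symm

/-- elements of order prime to `p` lie in every normal subgroup of `p`-power index -/
theorem mem_of_regular_of_index_pow {p : ℕ} [hp : Fact p.Prime] (T : Subgroup G) [hT : T.Normal]
    (a : ℕ) (hidx : T.index = p ^ a) (g : G) (hg : ¬ p ∣ orderOf g) : g ∈ T := by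
  have h1 : orderOf ((g : G) : G ⧸ T) ∣ orderOf g := orderOf_dvd_of_pow_eq_one (by
    rw [← QuotientGroup.mk_pow, pow_orderOf_eq_one]
    rfl)
  have h2 : orderOf ((g : G) : G ⧸ T) ∣ p ^ a := by
    rw [← hidx, Subgroup.index_eq_card]
    exact orderOf_dvd_natCard _
  have hcop : Nat.Coprime (orderOf g) (p ^ a) :=
    (((Nat.Prime.coprime_iff_not_dvd hp.out).mpr hg).symm).pow_right a
  have h3 : orderOf ((g : G) : G ⧸ T) = 1 :=
    Nat.Coprime.eq_one_of_dvd (Nat.Coprime.coprime_dvd_left h1 hcop) h2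
  rw [orderOf_eq_one_iff] at h3
  exact (QuotientGroup.eq_one_iff g).mp h3

/-- the product of a normal subgroup `N` and the centralizer of a Sylow subgroup of `N` is normal
-/
theorem sup_centralizer_sylow_normal [Finite G] {p : ℕ} [hp : Fact p.Prime] (N : Subgroup G)
    [hN : N.Normal] (Q : Sylow p N) :
    (N ⊔ Subgroup.centralizer (((Q : Subgroup N).map N.subtype : Subgroup G) : Set G)).Normal := by
  set Q' : Subgroup G := (Q : Subgroup N).map N.subtype with hQ'
  set C := Subgroup.centralizer (Q' : Set G) with hC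
  have hfrat : Subgroup.normalizer (Q' : Set G) ⊔ N = ⊤ := Sylow.normalizer_sup_eq_top Q
  refine ⟨fun t ht g => ?_⟩
  obtain ⟨m, hm, c, hc, rfl⟩ := Subgroup.mem_sup_of_normal_left.mp ht
  have hg : g ∈ Subgroup.normalizer (Q' : Set G) ⊔ N := by
    rw [hfrat]
    exact Subgroup.mem_top g
  obtain ⟨x, hx, n, hn, rfl⟩ := Subgroup.mem_sup_of_normal_right.mp hg
  -- conjugation by `x` preserves `C`
  have hxC : ∀ c' ∈ C, x * c' * x⁻¹ ∈ C := by
    intro c' hc'
    rw [hC, Subgroup.mem_centralizer_iff] at hc' ⊢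
    intro q hq
    have hq' : x⁻¹ * q * x ∈ Q' := by
      have h1 := (Subgroup.mem_normalizer_iff.mp hx (x⁻¹ * q * x)).mpr (by
        have e : x * (x⁻¹ * q * x) * x⁻¹ = q := by group
        rw [e]
        exact hq)
      exact h1
    have h2 := hc' _ hq'
    calc q * (x * c' * x⁻¹) = x * ((x⁻¹ * q * x) * c') * x⁻¹ := by group
      _ = x * (c' * (x⁻¹ * q * x)) * x⁻¹ := by rw [h2]
      _ = x * c' * x⁻¹ * q := by group
  have e : x * n * (m * c) * (x * n)⁻¹ =
      (x * n * m * n⁻¹ * x⁻¹) * (x * (n * c * n⁻¹ * c⁻¹) * x⁻¹) * (x * c * x⁻¹) := by group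
  rw [e]
  apply Subgroup.mul_mem
  · apply Subgroup.mul_mem
    · apply Subgroup.mem_sup_left
      have h1 := hN.conj_mem m hm (x * n)
      have e2 : x * n * m * (x * n)⁻¹ = x * n * m * n⁻¹ * x⁻¹ := by group
      rwa [e2] at h1
    · apply Subgroup.mem_sup_left
      apply hN.conj_mem
      have h1 := hN.conj_mem n⁻¹ (N.inv_mem hn) c
      have h2 := N.mul_mem hn h1
      have e2 : n * (c * n⁻¹ * c⁻¹) = n * c * n⁻¹ * c⁻¹ := by group
      rwa [e2] at h2
  · exact Subgroup.mem_sup_right (hxC c hc)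

/-- the `p'`-part of an element as a representative of the same coset -/
theorem exists_regular_rep {p : ℕ} [hp : Fact p.Prime] [Finite G] (N : Subgroup G)
    [hN : N.Normal] (c g : G) (hg : ¬ p ∣ orderOf g) (hcg : c⁻¹ * g ∈ N) :
    ∃ c' ∈ Subgroup.zpowers c, ¬ p ∣ orderOf c' ∧ c'⁻¹ * g ∈ N := by
  set o := orderOf c with ho
  have ho0 : o ≠ 0 := (orderOf_pos c).ne'
  set b := o.factorization p with hb
  set m' := o / p ^ b with hm'
  have hom : p ^ b * m' = o := Nat.ordProj_mul_ordCompl_eq_self o p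
  have hm'p : ¬ p ∣ m' := by
    have := Nat.coprime_ordCompl hp.out ho0
    exact (Nat.Prime.coprime_iff_not_dvd hp.out).mp this
  have hcop : Nat.Coprime (orderOf g) (p ^ b) :=
    (((Nat.Prime.coprime_iff_not_dvd hp.out).mpr hg).symm).pow_right b
  obtain ⟨e, he0, he1⟩ := Nat.chineseRemainder hcop.symm 0 1
  -- he0 : e ≡ 0 [MOD p ^ b], he1 : e ≡ 1 [MOD orderOf g]
  refine ⟨c ^ e, Subgroup.pow_mem _ (Subgroup.mem_zpowers c) e, ?_, ?_⟩
  · have hdvd : p ^ b ∣ e := (Nat.modEq_zero_iff_dvd).mp he0
    have h1 : (c ^ e) ^ m' = 1 := by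
      obtain ⟨k, hk⟩ := hdvd
      rw [← pow_mul, hk, mul_assoc, mul_comm k m', ← mul_assoc, hom, pow_mul, ho,
        pow_orderOf_eq_one, one_pow]
    intro hp'
    exact hm'p (hp'.trans (orderOf_dvd_of_pow_eq_one h1))
  · rw [← QuotientGroup.eq]
    have h1 : ((c : G) : G ⧸ N) = ((g : G) : G ⧸ N) := QuotientGroup.eq.mpr hcg
    rw [QuotientGroup.mk_pow, h1, ← QuotientGroup.mk_pow]
    congr 1
    rw [← pow_mod_orderOf, he1, pow_mod_orderOf, pow_one]

end Cfsg.Agent.Helper6.PRat
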