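import Mathlib
import Cfsg.Prelude.Def_Characters
import Cfsg.Agent.Helper6.GlueAbs

/-!
# Gluing canonical local extensions: existence needed only over nilpotent subgroups
-/

set_option autoImplicit false
set_option linter.style.haveILetI false

namespace Cfsg.Agent.Helper6

open scoped ComplexConjugate

universe u

variable {G : Type u} [Group G]

section

variable [Finite G] (N : Subgroup G) [hN : N.Normal] (ϑ : N → ℂ)
  (hϑ : Cfsg.IsIrrCharacter N ϑ)
  (Good : (H : Subgroup G) → (H → ℂ) → Prop)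
  (hbase : ∀ (H : Subgroup G) (χ : H → ℂ), Good H χ → BaseExt N ϑ H χ)
  (hrestr : ∀ (H K : Subgroup G) (_ : N ≤ K) (hKH : K ≤ H) (χ : H → ℂ), Good H χ →
    Good K (fun k : K => χ ⟨(k : G), hKH k.2⟩))
  (hconj : ∀ (H : Subgroup G) (χ : H → ℂ) (x : G), Good H χ →
    Good (H.map (MulAut.conj x).toMonoidHom)
      (fun y => χ ((Subgroup.equivMapOfInjective H (MulAut.conj x).toMonoidHom
        (MulAut.conj x).injective).symm y)))
  (huniq : ∀ (H : Subgroup G) (_ : N ≤ H) (χ χ' : H → ℂ), Good H χ → Good H χ' → χ = χ')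
  (hex : ∀ (S : Subgroup G), Group.IsNilpotent S → ∃ χ : (N ⊔ S : Subgroup G) → ℂ,
    Good (N ⊔ S) χ)

include hϑ hbase hrestr hconj huniq hex in
set_option maxHeartbeats 1600000 in
theorem glue_abstract_nil : ∃ Ψ : G → ℂ, Cfsg.IsIrrCharacter G Ψ ∧ (∀ n : N, Ψ n = ϑ n) ∧
    ∀ (H : Subgroup G) (_ : N ≤ H) (χ : H → ℂ), Good H χ → ∀ (g : G) (hg : g ∈ H),
      Ψ g = χ ⟨g, hg⟩ := by
  classical
  haveI := Fintype.ofFinite G
  haveI : Fintype N := Fintype.ofFinite N
  have hkey := fun (H : Subgroup G) (hNH : N ≤ H) (χ : H → ℂ) (h : Good H χ) =>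
    gluedFunAbs_eq N Good hrestr huniq H hNH h
  have hzsolv : ∀ g : G, Group.IsNilpotent (Subgroup.zpowers g) := by
    intro g
    letI : CommGroup (Subgroup.zpowers g) := IsCyclic.commGroup
    exact CommGroup.isNilpotent
  have hΨN : ∀ n : N, gluedFunAbs N Good n = ϑ n := by
    intro n
    obtain ⟨χ, hχ⟩ := hex (Subgroup.zpowers (1 : G)) (hzsolv 1)
    rw [hkey _ le_sup_left χ hχ n (Subgroup.mem_sup_left n.2)]
    exact (hbase _ _ hχ).2 ⟨⟨n, Subgroup.mem_sup_left n.2⟩, Subgroup.mem_subgroupOf.mpr n.2⟩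
  refine ⟨gluedFunAbs N Good, ?_, hΨN, fun H hNH χ h g hg => hkey H hNH χ h g hg⟩
  apply glue_irr N ϑ hϑ _ ?_ ?_ ?_ hΨN
  · -- class function
    intro g x
    obtain ⟨χ, hχ⟩ := hex (Subgroup.zpowers g) (hzsolv g)
    have hg : g ∈ N ⊔ Subgroup.zpowers g := Subgroup.mem_sup_right (Subgroup.mem_zpowers g)
    rw [hkey _ le_sup_left χ hχ g hg]
    have hconj' := hconj (N ⊔ Subgroup.zpowers g) χ x hχ
    have hNle : N ≤ (N ⊔ Subgroup.zpowers g).map (MulAut.conj x).toMonoidHom := by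
      intro n hn
      refine Subgroup.mem_map.mpr ⟨x⁻¹ * n * x⁻¹⁻¹, Subgroup.mem_sup_left
        (hN.conj_mem n hn x⁻¹), ?_⟩
      change x * (x⁻¹ * n * x⁻¹⁻¹) * x⁻¹ = n
      group
    have hmem : x * g * x⁻¹ ∈ (N ⊔ Subgroup.zpowers g).map (MulAut.conj x).toMonoidHom :=
      Subgroup.mem_map.mpr ⟨g, hg, MulAut.conj_apply x g⟩
    rw [hkey _ hNle _ hconj' (x * g * x⁻¹) hmem]
    exact goodExt_conj_apply (N ⊔ Subgroup.zpowers g) χ x ⟨g, hg⟩
  · -- elementary subgroups
    intro E p hp hE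
    haveI : Group.IsNilpotent E := IsElementary.isNilpotent hp hE
    obtain ⟨χ, hχ⟩ := hex E inferInstance
    have hfun : (fun e : E => gluedFunAbs N Good e) =
        fun e : E => χ ((Subgroup.inclusion (le_sup_right : E ≤ N ⊔ E)) e) := by
      funext e
      exact hkey _ le_sup_left χ hχ e (Subgroup.mem_sup_right e.2)
    rw [hfun]
    exact IsGeneralizedCharacter.of_isCharacter
      (IsCharacter.comp_hom _ (IsIrrCharacter.isCharacter (hbase _ _ hχ).1))
  · -- coset norms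
    intro g
    set H := N ⊔ Subgroup.zpowers g with hH
    obtain ⟨χ, hχ⟩ := hex (Subgroup.zpowers g) (hzsolv g)
    have hχb := hbase _ _ hχ
    have hg : g ∈ H := Subgroup.mem_sup_right (Subgroup.mem_zpowers g)
    have hNH : N ≤ H := le_sup_left
    haveI : Fintype H := Fintype.ofFinite H
    haveI : Fintype (N.subgroupOf H) := Fintype.ofFinite _
    have hχN : Cfsg.IsIrrCharacter (N.subgroupOf H) (fun n : N.subgroupOf H => χ n) := by
      have : (fun n : N.subgroupOf H => χ n) = resSub N ϑ H := funext hχb.2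
      rw [this]
      exact resSub_isIrr hϑ H hNH
    have hgal := (gallagher_avg (N.subgroupOf H) χ hχb.1 hχN χ hχb.1 _ rfl).2.2 rfl
    have hgal' : (Nat.card (N.subgroupOf H) : ℂ)⁻¹ *
        ∑ n : N.subgroupOf H, χ ((n : H) * ⟨g, hg⟩) * conj (χ ((n : H) * ⟨g, hg⟩)) = 1 :=
      congrFun hgal ⟨g, hg⟩
    have hN0 : (Nat.card (N.subgroupOf H) : ℂ) ≠ 0 := by
      have : 0 < Nat.card (N.subgroupOf H) := Nat.card_pos
      exact_mod_cast this.ne'
    have hsum : ∑ n : N.subgroupOf H, χ ((n : H) * ⟨g, hg⟩) * conj (χ ((n : H) * ⟨g, hg⟩)) =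
        (Nat.card (N.subgroupOf H) : ℂ) := by
      have h5 : (Nat.card (N.subgroupOf H) : ℂ) * ((Nat.card (N.subgroupOf H) : ℂ)⁻¹ *
          ∑ n : N.subgroupOf H, χ ((n : H) * ⟨g, hg⟩) * conj (χ ((n : H) * ⟨g, hg⟩))) =
          (Nat.card (N.subgroupOf H) : ℂ) * 1 := by rw [hgal']
      rw [← mul_assoc, mul_inv_cancel₀ hN0, one_mul, mul_one] at h5
      exact h5
    have hcardeq : Nat.card (N.subgroupOf H) = Nat.card N :=
      Nat.card_congr (Subgroup.subgroupOfEquivOfLe hNH).toEquiv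
    rw [← hcardeq, ← hsum]
    symm
    apply Fintype.sum_equiv (Subgroup.subgroupOfEquivOfLe hNH).toEquiv
    intro n
    have hmem : ((Subgroup.subgroupOfEquivOfLe hNH n : N) : G) * g ∈ H :=
      H.mul_mem (hNH (Subgroup.subgroupOfEquivOfLe hNH n).2) hg
    have hval : gluedFunAbs N Good (((Subgroup.subgroupOfEquivOfLe hNH).toEquiv n : N) * g) =
        χ ((n : H) * ⟨g, hg⟩) := by
      change gluedFunAbs N Good (((Subgroup.subgroupOfEquivOfLe hNH n : N) : G) * g) = _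
      rw [hkey H hNH χ hχ _ hmem]
      rfl
    rw [hval]

end



end Cfsg.Agent.Helper6
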