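import Mathlib
import Cfsg.Prelude.Def_Characters
import Cfsg.Prelude.Def_Blocks
import Cfsg.Prelude.Def_CharExt
import Cfsg.Agent.Helper6.PRatC
import Cfsg.Agent.Helper6.PRatD
import Cfsg.Agent.Helper6.DetChar

/-!
# The goodness predicate for `p`-rational principal-block extensions
-/

set_option autoImplicit false
set_option linter.style.haveILetI false

namespace Cfsg.Agent.Helper6.PRat

open scoped ComplexConjugate
open Cfsg.Agent.Helper6.AlpDade

universe u v

variable {G : Type u} [Group G] {M : Ideal Cfsg.AlgInt}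

/-- the determinantal order does not grow under composition with a homomorphism -/
theorem detOrder_comp_hom_dvd [Finite G] {H : Type v} [Group H] [Finite H] (f : H →* G)
    {χ : G → ℂ} (hχ : Cfsg.IsCharacter G χ) :
    Cfsg.detOrder (fun h => χ (f h)) ∣ Cfsg.detOrder χ := by
  unfold Cfsg.detOrder
  rw [detChar_comp_hom f hχ]
  apply orderOf_dvd_of_pow_eq_one
  funext h
  have h1 := congrFun (pow_orderOf_eq_one (Cfsg.detChar χ)) (f h)
  rw [Pi.pow_apply] at h1 ⊢
  rw [h1]
  rfl

/-- the relative goodness predicate: an irreducible extension of `ϑ` of `p'`-determinantal order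
satisfying the principal-block congruences relative to `N` on `p`-regular elements -/
def PGood (p : ℕ) (M : Ideal Cfsg.AlgInt) (N : Subgroup G) (ϑ : N → ℂ) (H : Subgroup G)
    (χ : H → ℂ) : Prop :=
  BaseExt N ϑ H χ ∧ ¬ p ∣ Cfsg.detOrder χ ∧
    ∀ g : H, ¬ p ∣ orderOf (g : G) →
      Cfsg.MemLocalIdeal M ((cN N (g : G) : ℂ) * (χ g / ϑ 1 - 1))

variable [Finite G] {p : ℕ} {N : Subgroup G} [hN : N.Normal] {ϑ : N → ℂ}

omit [Finite G] hN in
theorem PGood.base {H : Subgroup G} {χ : H → ℂ} (h : PGood p M N ϑ H χ) : BaseExt N ϑ H χ := h.1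

theorem PGood.restrict (hϑ : Cfsg.IsIrrCharacter N ϑ) (H K : Subgroup G) (hNK : N ≤ K)
    (hKH : K ≤ H) {χ : H → ℂ} (h : PGood p M N ϑ H χ) :
    PGood p M N ϑ K (fun k : K => χ ⟨(k : G), hKH k.2⟩) := by
  refine ⟨baseExt_restrict hϑ H K hNK hKH h.1, ?_, ?_⟩
  · intro hdvd
    apply h.2.1
    exact hdvd.trans (detOrder_comp_hom_dvd (Subgroup.inclusion hKH)
      (IsIrrCharacter.isCharacter h.1.1))
  · intro g hg
    exact h.2.2 ⟨(g : G), hKH g.2⟩ hg

theorem PGood.conj
    (hinv : ∀ (g : G) (n : N), ϑ ⟨g * n * g⁻¹, hN.conj_mem (n : G) n.2 g⟩ = ϑ n)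
    (H : Subgroup G) {χ : H → ℂ} (h : PGood p M N ϑ H χ) (x : G) :
    PGood p M N ϑ (H.map (MulAut.conj x).toMonoidHom)
      (fun y => χ ((Subgroup.equivMapOfInjective H (MulAut.conj x).toMonoidHom
        (MulAut.conj x).injective).symm y)) := by
  refine ⟨baseExt_conj hinv H h.1 x, ?_, ?_⟩
  · intro hdvd
    apply h.2.1
    exact hdvd.trans (detOrder_comp_hom_dvd
      ((Subgroup.equivMapOfInjective H (MulAut.conj x).toMonoidHom
        (MulAut.conj x).injective).symm.toMonoidHom)
      (IsIrrCharacter.isCharacter h.1.1))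
  · set f := (MulAut.conj x).toMonoidHom with hf
    set e := Subgroup.equivMapOfInjective H f (MulAut.conj x).injective with he
    intro y hy
    have hcoe : x * ((e.symm y : H) : G) * x⁻¹ = (y : G) := by
      have h1 : ((e (e.symm y) : H.map f) : G) = f ((e.symm y : H) : G) :=
        Subgroup.coe_equivMapOfInjective_apply H f _ (e.symm y)
      rw [MulEquiv.apply_symm_apply] at h1
      rw [h1]
      rfl
    have hord : orderOf ((e.symm y : H) : G) = orderOf (y : G) := by
      rw [← hcoe]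
      exact ((MulAut.conj x).orderOf_eq ((e.symm y : H) : G)).symm
    have h2 := h.2.2 (e.symm y) (by rw [hord]; exact hy)
    rw [← hcoe, cN_conj]
    exact h2

end Cfsg.Agent.Helper6.PRat
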