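import Mathlib
import Cfsg.Prelude.Def_Characters
import Cfsg.Prelude.Def_Blocks
import Cfsg.Prelude.Def_CharExt
import Cfsg.Agent.Helper6.PRatE
import Cfsg.Agent.Helper6.RelGlaubC
import Cfsg.Agent.Helper6.Linear
import Cfsg.Agent.Helper6.FongMax

/-!
# Uniqueness of good extensions
-/

set_option autoImplicit false
set_option linter.style.haveILetI false

namespace Cfsg.Agent.Helper6.PRat

open scoped ComplexConjugate
open Cfsg.Agent.Helper6.AlpDade

universe u v

/-- a linear character of `p'`-order which is trivial on the `p`-regular elements is trivial -/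
theorem hom_eq_one_of_regular {H : Type u} [Group H] [Finite H] {p : ℕ} [hp : Fact p.Prime]
    (lam : H →* ℂˣ) (k : ℕ) (hk : ¬ p ∣ k) (hpow : ∀ h : H, lam h ^ k = 1)
    (hreg : ∀ h : H, ¬ p ∣ orderOf h → lam h = 1) (h : H) : lam h = 1 := by
  set n := orderOf h with hn
  have hn0 : n ≠ 0 := (orderOf_pos h).ne'
  set j := n.factorization p with hj
  have hpj : p ^ j ≠ 0 := pow_ne_zero _ hp.out.ne_zero
  have hord : orderOf (h ^ (p ^ j)) = n / p ^ j := by
    rw [orderOf_pow' h hpj, ← hn, Nat.gcd_eq_right (Nat.ordProj_dvd n p)]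
  have h1 : lam (h ^ (p ^ j)) = 1 := by
    apply hreg
    rw [hord]
    exact Nat.not_dvd_ordCompl hp.out hn0
  rw [map_pow] at h1
  have hcop : Nat.Coprime (p ^ j) k :=
    Nat.Coprime.pow_left j ((Nat.Prime.coprime_iff_not_dvd hp.out).mpr hk)
  have h2 := pow_gcd_eq_one.mpr ⟨h1, hpow h⟩
  rw [hcop, pow_one] at h2
  exact h2

variable {G : Type u} [Group G] {M : Ideal Cfsg.AlgInt}

/-- elements centralizing a Sylow `p`-subgroup of `N` have `N`-class size prime to `p` -/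
theorem not_dvd_cN_of_mem_centralizer [Finite G] {p : ℕ} [hp : Fact p.Prime] (N : Subgroup G)
    (Q : Sylow p N) (c : G)
    (hc : c ∈ Subgroup.centralizer (((Q : Subgroup N).map N.subtype : Subgroup G) : Set G)) :
    ¬ p ∣ cN N c := by
  have hle : (Q : Subgroup N) ≤ (Subgroup.centralizer ({c} : Set G)).subgroupOf N := by
    intro q hq
    rw [Subgroup.mem_subgroupOf, Subgroup.mem_centralizer_iff]
    intro y hy
    rw [Set.mem_singleton_iff] at hy
    rw [hy]
    have hq' : (q : G) ∈ ((Q : Subgroup N).map N.subtype : Subgroup G) :=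
      Subgroup.mem_map.mpr ⟨q, hq, rfl⟩
    exact (hc (q : G) hq').symm
  intro hdvd
  have h1 : cN N c ∣ (Q : Subgroup N).index := Subgroup.index_dvd_of_le hle
  exact Q.not_dvd_index (hdvd.trans h1)

set_option maxHeartbeats 1600000 in
/-- **uniqueness of good extensions** -/
theorem PGood.unique [Finite G] {p : ℕ} [hp : Fact p.Prime] (hM : Cfsg.IsPModular p M)
    {N : Subgroup G} [hN : N.Normal] {ϑ : N → ℂ} (hϑ : Cfsg.IsIrrCharacter N ϑ)
    (d : ℕ) (hd : ϑ 1 = d) (hpd : ¬ p ∣ d) (Q : Sylow p N) (a : ℕ)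
    (hidx : (N ⊔ Subgroup.centralizer
      (((Q : Subgroup N).map N.subtype : Subgroup G) : Set G)).index = p ^ a)
    (H : Subgroup G) (hNH : N ≤ H) {χ χ' : H → ℂ} (h : PGood p M N ϑ H χ)
    (h' : PGood p M N ϑ H χ') : χ = χ' := by
  classical
  haveI : Fintype H := Fintype.ofFinite H
  haveI : Fintype (N.subgroupOf H) := Fintype.ofFinite _
  have hMax : M.IsMaximal := hM.2.1
  have hd0 : (d : ℂ) ≠ 0 := by
    intro h0
    apply hpd
    have : d = 0 := by exact_mod_cast h0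
    rw [this]
    exact dvd_zero p
  have hχN : Cfsg.IsIrrCharacter (N.subgroupOf H) (fun n : N.subgroupOf H => χ n) := by
    have : (fun n : N.subgroupOf H => χ n) = resSub N ϑ H := funext h.1.2
    rw [this]
    exact IsIrrCharacter.comp_mulEquiv (Subgroup.subgroupOfEquivOfLe hNH) hϑ
  have hbij := RelGlaub.gallagher_bijOn_one (N.subgroupOf H) χ h.1.1 hχN
  have hmem : χ' ∈ {ψ : H → ℂ | Cfsg.IsIrrCharacter H ψ ∧
      Cfsg.classInner (fun n : N.subgroupOf H => ψ n) (fun n : N.subgroupOf H => χ n) ≠ 0} := by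
    refine ⟨h'.1.1, ?_⟩
    have e1 : (fun n : N.subgroupOf H => χ' n) = fun n : N.subgroupOf H => χ n :=
      funext (fun n => by rw [h'.1.2 n, h.1.2 n])
    rw [e1, classInner_irr_self hχN]
    exact one_ne_zero
  obtain ⟨β, ⟨hβ, hβker⟩, hβχ⟩ := hbij.surjOn hmem
  have hβχ' : ∀ g : H, β g * χ g = χ' g := fun g => congrFun hβχ g
  have hχ1 : χ 1 = d := by
    have := h.1.2 1
    rw [← hd]
    exact this
  have hχ'1 : χ' 1 = d := by
    have := h'.1.2 1
    rw [← hd]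
    exact this
  have hβ1 : β 1 = 1 := by
    have := hβχ' 1
    rw [hχ1, hχ'1] at this
    exact mul_right_cancel₀ hd0 (by rw [this, one_mul])
  obtain ⟨lam, hlam⟩ := exists_hom_of_irr_degree_one hβ hβ1
  have hlamN : ∀ n : H, (n : G) ∈ N → lam n = 1 := by
    intro n hn
    have h1 := hβker n (Subgroup.mem_subgroupOf.mpr hn)
    rw [hβ1, hlam] at h1
    exact Units.ext h1
  -- determinants
  obtain ⟨n₀, ρ, -, hρ⟩ := h.1.1
  have hn₀ : n₀ = d := by
    have h1 : ρ.character 1 = (n₀ : ℂ) := by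
      rw [Representation.char_one, Module.finrank_fin_fun]
    rw [hρ, hχ1] at h1
    exact_mod_cast h1.symm
  have hχ'eq : χ' = fun g => ρ.character g * ((lam g : ℂˣ) : ℂ) := by
    funext g
    rw [← hβχ' g, hlam, hρ, mul_comm]
  have hdet' : Cfsg.detChar χ' =
      fun g => ((detHom ρ g : ℂˣ) : ℂ) * ((lam g : ℂˣ) : ℂ) ^ n₀ := by
    rw [hχ'eq]
    exact detChar_mul_hom lam ρ
  have hdet : Cfsg.detChar χ = fun g => ((detHom ρ g : ℂˣ) : ℂ) := by
    rw [← hρ]
    exact detChar_rep ρ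
  set oa := Cfsg.detOrder χ with hoa
  set ob := Cfsg.detOrder χ' with hob
  have hA : ∀ g : H, ((detHom ρ g : ℂˣ) : ℂ) ^ oa = 1 := by
    intro g
    have h0 : Cfsg.detChar χ ^ oa = 1 := pow_orderOf_eq_one _
    have h1 := congrFun h0 g
    rw [Pi.pow_apply, Pi.one_apply, hdet] at h1
    exact h1
  have hB : ∀ g : H, (((detHom ρ g : ℂˣ) : ℂ) * ((lam g : ℂˣ) : ℂ) ^ n₀) ^ ob = 1 := by
    intro g
    have h0 : Cfsg.detChar χ' ^ ob = 1 := pow_orderOf_eq_one _
    have h1 := congrFun h0 g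
    rw [Pi.pow_apply, Pi.one_apply, hdet'] at h1
    exact h1
  have hpow : ∀ g : H, lam g ^ (n₀ * (oa * ob)) = 1 := by
    intro g
    apply Units.ext
    push_cast
    have h1 : ((((detHom ρ g : ℂˣ) : ℂ) * ((lam g : ℂˣ) : ℂ) ^ n₀) ^ ob) ^ oa = 1 := by
      rw [hB g, one_pow]
    have h2 : (((detHom ρ g : ℂˣ) : ℂ) ^ oa) ^ ob = 1 := by rw [hA g, one_pow]
    have h3 : ((((detHom ρ g : ℂˣ) : ℂ) * ((lam g : ℂˣ) : ℂ) ^ n₀) ^ ob) ^ oa =
        (((detHom ρ g : ℂˣ) : ℂ) ^ oa) ^ ob * ((lam g : ℂˣ) : ℂ) ^ (n₀ * (oa * ob)) := by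
      ring
    rw [h3, h2, one_mul] at h1
    exact h1
  have hk : ¬ p ∣ n₀ * (oa * ob) := by
    intro hdvd
    rcases (Nat.Prime.dvd_mul hp.out).mp hdvd with h1 | h1
    · exact hpd (hn₀ ▸ h1)
    · rcases (Nat.Prime.dvd_mul hp.out).mp h1 with h2 | h2
      · exact h.2.1 h2
      · exact h'.2.1 h2
  haveI hT : (N ⊔ Subgroup.centralizer
      (((Q : Subgroup N).map N.subtype : Subgroup G) : Set G)).Normal :=
    sup_centralizer_sylow_normal N Q
  -- regular elements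
  have hreg : ∀ h₀ : H, ¬ p ∣ orderOf h₀ → lam h₀ = 1 := by
    intro h₀ hreg
    have hreg' : ¬ p ∣ orderOf (h₀ : G) := by rwa [Subgroup.orderOf_coe]
    have hT' := mem_of_regular_of_index_pow _ a hidx (h₀ : G) hreg'
    rw [← SetLike.mem_coe, Subgroup.normal_mul] at hT'
    obtain ⟨n, hn, c, hc, hnc⟩ := Set.mem_mul.mp hT'
    have hcg : c⁻¹ * (h₀ : G) ∈ N := by
      rw [← hnc]
      have := hN.conj_mem n hn c⁻¹
      rw [inv_inv] at this
      rw [← mul_assoc]
      exact this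
    obtain ⟨c', hc'z, hc'reg, hc'g⟩ := exists_regular_rep N c (h₀ : G) hreg' hcg
    have hc'C : c' ∈ Subgroup.centralizer
        (((Q : Subgroup N).map N.subtype : Subgroup G) : Set G) :=
      (Subgroup.zpowers_le.mpr hc) hc'z
    have hc'H : c' ∈ H := by
      have e1 : c' = (h₀ : G) * (c'⁻¹ * (h₀ : G))⁻¹ := by group
      rw [e1]
      exact H.mul_mem h₀.2 (H.inv_mem (hNH hc'g))
    have hcN : ¬ p ∣ cN N c' := not_dvd_cN_of_mem_centralizer N Q c' hc'C
    have g1 := memLocalIdeal_of_natCast_mul hM _ hcN _ (h.2.2 ⟨c', hc'H⟩ hc'reg)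
    have g2 := memLocalIdeal_of_natCast_mul hM _ hcN _ (h'.2.2 ⟨c', hc'H⟩ hc'reg)
    rw [← hβχ' ⟨c', hc'H⟩, hlam] at g2
    set ε : ℂ := ((lam ⟨c', hc'H⟩ : ℂˣ) : ℂ) with hε
    set v : ℂ := χ ⟨c', hc'H⟩ / ϑ 1 with hv
    have hεroot : IsPRoot p ε := by
      refine ⟨orderOf c', hc'reg, ?_⟩
      rw [hε, ← Units.val_pow_eq_pow_val, ← map_pow]
      have : (⟨c', hc'H⟩ : H) ^ orderOf c' = 1 := by
        apply Subtype.ext
        rw [Subgroup.coe_pow]
        exact pow_orderOf_eq_one c'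
      rw [this, map_one]
      rfl
    have hcongr : Cfsg.MemLocalIdeal M (ε - 1) := by
      have e1 : ε - 1 = (ε * χ ⟨c', hc'H⟩ / ϑ 1 - 1) - ε * (v - 1) := by
        rw [hv]; ring
      rw [e1]
      exact MemLocalIdeal.sub hMax g2
        (MemLocalIdeal.mul_left hMax (hεroot.memLocalRing hMax) g1)
    have hε1 : ε = 1 := IsPRoot.eq_of_congr hM hεroot (IsPRoot.one p) hcongr
    have hlamc : lam ⟨c', hc'H⟩ = 1 := Units.ext hε1
    have e2 : h₀ = ⟨c', hc'H⟩ * ⟨c'⁻¹ * (h₀ : G), H.mul_mem (H.inv_mem hc'H) h₀.2⟩ := by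
      apply Subtype.ext
      show (h₀ : G) = c' * (c'⁻¹ * (h₀ : G))
      group
    rw [e2, map_mul, hlamc, one_mul]
    exact hlamN _ hc'g
  have hall := hom_eq_one_of_regular lam _ hk hpow hreg
  funext g
  rw [← hβχ' g, hlam]
  show χ g = ((lam g : ℂˣ) : ℂ) * χ g
  rw [hall g]
  simp

end Cfsg.Agent.Helper6.PRat
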