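import Mathlib
import Cfsg.Prelude.Def_Characters
import Cfsg.Prelude.Def_Blocks
import Cfsg.Prelude.Def_CharExt
import Cfsg.Agent.Helper6.PRatF

/-!
# Good extensions relative to a given global extension

For a normal subgroup `N`, an irreducible character `ϑ` of `N` and a class function `Ψ` of `G`
extending `ϑ`, an extension `χ` of `ϑ` to `H ≥ N` is *good* when it is a twist of `Ψ` by a linear
character of `H / N` of order prime to `p` and satisfies the principal block congruences relative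
to `N` at the `p`-regular elements.
-/

set_option autoImplicit false
set_option linter.style.haveILetI false

namespace Cfsg.Agent.Helper6.PExt

open scoped ComplexConjugate
open Cfsg.Agent.Helper6.AlpDade Cfsg.Agent.Helper6.PRat

universe u v

variable {G : Type u} [Group G] {M : Ideal Cfsg.AlgInt}

/-- the goodness predicate relative to a global extension `Ψ` -/
def EGood (p : ℕ) (M : Ideal Cfsg.AlgInt) (N : Subgroup G) (ϑ : N → ℂ) (Ψ : G → ℂ)
    (H : Subgroup G) (χ : H → ℂ) : Prop :=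
  BaseExt N ϑ H χ ∧
    (∃ lam : H →* ℂˣ, (∀ h : H, (h : G) ∈ N → lam h = 1) ∧
      (∃ k : ℕ, ¬ p ∣ k ∧ ∀ h : H, lam h ^ k = 1) ∧
      ∀ h : H, χ h = Ψ (h : G) * ((lam h : ℂˣ) : ℂ)) ∧
    ∀ g : H, ¬ p ∣ orderOf (g : G) →
      Cfsg.MemLocalIdeal M ((cN N (g : G) : ℂ) * (χ g / ϑ 1 - 1))

variable [Finite G] {p : ℕ} {N : Subgroup G} [hN : N.Normal] {ϑ : N → ℂ} {Ψ : G → ℂ}

theorem EGood.restrict (hϑ : Cfsg.IsIrrCharacter N ϑ) (H K : Subgroup G) (hNK : N ≤ K)
    (hKH : K ≤ H) {χ : H → ℂ} (h : EGood p M N ϑ Ψ H χ) :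
    EGood p M N ϑ Ψ K (fun k : K => χ ⟨(k : G), hKH k.2⟩) := by
  refine ⟨baseExt_restrict hϑ H K hNK hKH h.1, ?_, ?_⟩
  · obtain ⟨lam, hlamN, ⟨k, hk, hpow⟩, hχ⟩ := h.2.1
    refine ⟨lam.comp (Subgroup.inclusion hKH), ?_, ⟨k, hk, ?_⟩, ?_⟩
    · intro x hx
      exact hlamN _ hx
    · intro x
      exact hpow _
    · intro x
      exact hχ _
  · intro g hg
    exact h.2.2 ⟨(g : G), hKH g.2⟩ hg

theorem EGood.conj
    (hinv : ∀ (g : G) (n : N), ϑ ⟨g * n * g⁻¹, hN.conj_mem (n : G) n.2 g⟩ = ϑ n)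
    (hΨ : Cfsg.IsClassFunction G Ψ)
    (H : Subgroup G) {χ : H → ℂ} (h : EGood p M N ϑ Ψ H χ) (x : G) :
    EGood p M N ϑ Ψ (H.map (MulAut.conj x).toMonoidHom)
      (fun y => χ ((Subgroup.equivMapOfInjective H (MulAut.conj x).toMonoidHom
        (MulAut.conj x).injective).symm y)) := by
  set f := (MulAut.conj x).toMonoidHom with hf
  set e := Subgroup.equivMapOfInjective H f (MulAut.conj x).injective with he
  have hcoe : ∀ y : H.map f, x * ((e.symm y : H) : G) * x⁻¹ = (y : G) := by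
    intro y
    have h1 : ((e (e.symm y) : H.map f) : G) = f ((e.symm y : H) : G) :=
      Subgroup.coe_equivMapOfInjective_apply H f _ (e.symm y)
    rw [MulEquiv.apply_symm_apply] at h1
    rw [h1]
    rfl
  refine ⟨baseExt_conj hinv H h.1 x, ?_, ?_⟩
  · obtain ⟨lam, hlamN, ⟨k, hk, hpow⟩, hχ⟩ := h.2.1
    refine ⟨lam.comp e.symm.toMonoidHom, ?_, ⟨k, hk, ?_⟩, ?_⟩
    · intro y hy
      apply hlamN
      have h2 : ((e.symm y : H) : G) = x⁻¹ * (y : G) * x⁻¹⁻¹ := by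
        rw [← hcoe y]; group
      show ((e.symm y : H) : G) ∈ N
      rw [h2]
      exact hN.conj_mem _ hy x⁻¹
    · intro y
      exact hpow _
    · intro y
      show χ (e.symm y) = Ψ (y : G) * ((lam (e.symm y) : ℂˣ) : ℂ)
      rw [hχ (e.symm y), ← hcoe y, hΨ]
  · intro y hy
    have hord : orderOf ((e.symm y : H) : G) = orderOf (y : G) := by
      rw [← hcoe y]
      exact ((MulAut.conj x).orderOf_eq ((e.symm y : H) : G)).symm
    have h2 := h.2.2 (e.symm y) (by rw [hord]; exact hy)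
    rw [← hcoe y, cN_conj]
    exact h2

set_option maxHeartbeats 1600000 in
/-- **uniqueness of good extensions** when `G = N C_G(Q)` -/
theorem EGood.unique [hp : Fact p.Prime] (hM : Cfsg.IsPModular p M) (Q : Sylow p N)
    (hcov : N ⊔ Subgroup.centralizer
      (((Q : Subgroup N).map N.subtype : Subgroup G) : Set G) = ⊤)
    (H : Subgroup G) (hNH : N ≤ H) {χ χ' : H → ℂ} (h : EGood p M N ϑ Ψ H χ)
    (h' : EGood p M N ϑ Ψ H χ') : χ = χ' := by
  classical
  have hMax : M.IsMaximal := hM.2.1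
  obtain ⟨lam, hlamN, ⟨k, hk, hpow⟩, hχ⟩ := h.2.1
  obtain ⟨lam', hlamN', ⟨k', hk', hpow'⟩, hχ'⟩ := h'.2.1
  set μ : H →* ℂˣ := lam' * lam⁻¹ with hμ
  have hμN : ∀ n : H, (n : G) ∈ N → μ n = 1 := by
    intro n hn
    rw [hμ, MonoidHom.mul_apply, MonoidHom.inv_apply, hlamN n hn, hlamN' n hn]
    simp
  have hμpow : ∀ g : H, μ g ^ (k * k') = 1 := by
    intro g
    rw [hμ, MonoidHom.mul_apply, MonoidHom.inv_apply, mul_pow, inv_pow, pow_mul (lam g),
      hpow g, one_pow, inv_one, mul_one, mul_comm k k', pow_mul, hpow' g, one_pow]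
  have hkk' : ¬ p ∣ k * k' := by
    intro hdvd
    rcases (Nat.Prime.dvd_mul hp.out).mp hdvd with h1 | h1
    exacts [hk h1, hk' h1]
  have hχμ : ∀ g : H, χ' g = ((μ g : ℂˣ) : ℂ) * χ g := by
    intro g
    rw [hχ' g, hχ g, hμ, MonoidHom.mul_apply, MonoidHom.inv_apply]
    push_cast
    have : ((lam g : ℂˣ) : ℂ) ≠ 0 := Units.ne_zero _
    field_simp
  haveI hT : (N ⊔ Subgroup.centralizer
      (((Q : Subgroup N).map N.subtype : Subgroup G) : Set G)).Normal :=
    sup_centralizer_sylow_normal N Q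
  have hreg : ∀ h₀ : H, ¬ p ∣ orderOf h₀ → μ h₀ = 1 := by
    intro h₀ hreg
    have hreg' : ¬ p ∣ orderOf (h₀ : G) := by rwa [Subgroup.orderOf_coe]
    have hT' : (h₀ : G) ∈ N ⊔ Subgroup.centralizer
        (((Q : Subgroup N).map N.subtype : Subgroup G) : Set G) := by
      rw [hcov]
      exact Subgroup.mem_top _
    rw [← SetLike.mem_coe, Subgroup.normal_mul] at hT'
    obtain ⟨n, hn, c, hc, hnc⟩ := Set.mem_mul.mp hT'
    have hcg : c⁻¹ * (h₀ : G) ∈ N := by
      rw [← hnc]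
      have := hN.conj_mem n hn c⁻¹
      rw [inv_inv] at this
      rw [← mul_assoc]
      exact this
    obtain ⟨c', hc'z, hc'reg, hc'g⟩ := exists_regular_rep N c (h₀ : G) hreg' hcg
    have hc'C : c' ∈ Subgroup.centralizer
        (((Q : Subgroup N).map N.subtype : Subgroup G) : Set G) :=
      (Subgroup.zpowers_le.mpr hc) hc'z
    have hc'H : c' ∈ H := by
      have e1 : c' = (h₀ : G) * (c'⁻¹ * (h₀ : G))⁻¹ := by group
      rw [e1]
      exact H.mul_mem h₀.2 (H.inv_mem (hNH hc'g))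
    have hcN : ¬ p ∣ cN N c' := not_dvd_cN_of_mem_centralizer N Q c' hc'C
    have g1 := memLocalIdeal_of_natCast_mul hM _ hcN _ (h.2.2 ⟨c', hc'H⟩ hc'reg)
    have g2 := memLocalIdeal_of_natCast_mul hM _ hcN _ (h'.2.2 ⟨c', hc'H⟩ hc'reg)
    rw [hχμ ⟨c', hc'H⟩] at g2
    set ε : ℂ := ((μ ⟨c', hc'H⟩ : ℂˣ) : ℂ) with hε
    set v : ℂ := χ ⟨c', hc'H⟩ / ϑ 1 with hv
    have hεroot : IsPRoot p ε := by
      refine ⟨orderOf c', hc'reg, ?_⟩
      rw [hε, ← Units.val_pow_eq_pow_val, ← map_pow]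
      have : (⟨c', hc'H⟩ : H) ^ orderOf c' = 1 := by
        apply Subtype.ext
        rw [Subgroup.coe_pow]
        exact pow_orderOf_eq_one c'
      rw [this, map_one]
      rfl
    have hcongr : Cfsg.MemLocalIdeal M (ε - 1) := by
      have e1 : ε - 1 = (ε * χ ⟨c', hc'H⟩ / ϑ 1 - 1) - ε * (v - 1) := by
        rw [hv]; ring
      rw [e1]
      exact MemLocalIdeal.sub hMax g2
        (MemLocalIdeal.mul_left hMax (hεroot.memLocalRing hMax) g1)
    have hε1 : ε = 1 := IsPRoot.eq_of_congr hM hεroot (IsPRoot.one p) hcongr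
    have hμc : μ ⟨c', hc'H⟩ = 1 := Units.ext hε1
    have e2 : h₀ = ⟨c', hc'H⟩ * ⟨c'⁻¹ * (h₀ : G), H.mul_mem (H.inv_mem hc'H) h₀.2⟩ := by
      apply Subtype.ext
      show (h₀ : G) = c' * (c'⁻¹ * (h₀ : G))
      group
    rw [e2, map_mul, hμc, one_mul]
    exact hμN _ hc'g
  have hall := hom_eq_one_of_regular μ _ hkk' hμpow hreg
  funext g
  rw [hχμ g, hall g]
  simp

end Cfsg.Agent.Helper6.PExt
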