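import Mathlib
import Cfsg.Prelude.Def_Characters
import Cfsg.Prelude.Def_Blocks
import Cfsg.Prelude.Def_CharExt
import Cfsg.Agent.Helper6.PRatF
import Cfsg.Agent.Helper6.CycA

/-!
# `p`-rational characters have `p'`-determinantal order; power maps preserve goodness
-/

set_option autoImplicit false
set_option linter.style.haveILetI false

namespace Cfsg.Agent.Helper6.PRat

open scoped ComplexConjugate
open Cfsg.Agent.Helper6.AlpDade

universe u v

/-- for an odd prime `p` and `p ∤ m ∣ N₀` there is `K` prime to `N₀` with `K ≡ 1 mod m` and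
`K ≡ 2 mod p` -/
theorem exists_pow_exponent {p : ℕ} [hp : Fact p.Prime] (hp2 : p ≠ 2) (m N₀ : ℕ) (hN₀ : N₀ ≠ 0)
    (hm : m ∣ N₀) (hpm : ¬ p ∣ m) :
    ∃ K : ℕ, K.Coprime N₀ ∧ K ≡ 1 [MOD m] ∧ K ≡ 2 [MOD p] := by
  set m' := N₀ / p ^ N₀.factorization p with hm'
  have hco : Nat.Coprime p m' := Nat.coprime_ordCompl hp.out hN₀
  obtain ⟨K, hK2, hK1⟩ := Nat.chineseRemainder hco 2 1
  have hmm' : m ∣ m' := by
    have h1 : m ∣ p ^ N₀.factorization p * m' := by
      rw [hm', Nat.ordProj_mul_ordCompl_eq_self]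
      exact hm
    have h2 : Nat.Coprime m (p ^ N₀.factorization p) :=
      (Nat.Coprime.pow_left _ ((Nat.Prime.coprime_iff_not_dvd hp.out).mpr hpm)).symm
    exact h2.dvd_of_dvd_mul_left h1
  have hKp : Nat.Coprime K p := by
    have h1 : Nat.gcd K p = Nat.gcd 2 p := Nat.ModEq.gcd_eq hK2
    have h2 : Nat.gcd 2 p = 1 := by
      have : Nat.Coprime p 2 := (Nat.Prime.coprime_iff_not_dvd hp.out).mpr (by
        intro h
        exact hp2 ((Nat.prime_dvd_prime_iff_eq hp.out Nat.prime_two).mp h))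
      exact this.symm
    rw [Nat.Coprime, h1, h2]
  have hKm' : Nat.Coprime K m' := by
    have h1 : Nat.gcd K m' = Nat.gcd 1 m' := Nat.ModEq.gcd_eq hK1
    rw [Nat.Coprime, h1, Nat.gcd_one_left]
  refine ⟨K, ?_, hK1.of_dvd hmm', hK2⟩
  rw [← Nat.ordProj_mul_ordCompl_eq_self N₀ p]
  exact Nat.Coprime.mul_right (Nat.Coprime.pow_right _ hKp) hKm'

/-- a `p`-rational character has determinantal order prime to `p` (`p` odd) -/
theorem not_dvd_detOrder_of_rational {X : Type u} [Group X] [Finite X] {p : ℕ}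
    [hp : Fact p.Prime] (hp2 : p ≠ 2) {χ : X → ℂ} (hχ : Cfsg.IsIrrCharacter X χ) (m : ℕ)
    (hpm : ¬ p ∣ m)
    (hrat : ∀ x : X, χ x ∈ IntermediateField.adjoin ℚ
      ({Complex.exp (2 * Real.pi * Complex.I / m)} : Set ℂ)) : ¬ p ∣ Cfsg.detOrder χ := by
  classical
  haveI : Fintype X := Fintype.ofFinite X
  have hm0 : m ≠ 0 := by
    intro h
    apply hpm
    rw [h]
    exact dvd_zero p
  haveI : NeZero m := ⟨hm0⟩
  set N₀ := Nat.card X * m with hN₀
  have hN₀0 : N₀ ≠ 0 := Nat.mul_ne_zero Nat.card_pos.ne' hm0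
  haveI : NeZero N₀ := ⟨hN₀0⟩
  obtain ⟨K, hK, hK1, hK2⟩ := exists_pow_exponent hp2 m N₀ hN₀0 (Dvd.intro_left _ rfl) hpm
  have hχc := IsIrrCharacter.isCharacter hχ
  have hinv : ∀ x : X, χ (x ^ K) = χ x :=
    char_powInv_of_mem_adjoin hχc m N₀ (Dvd.intro_left _ rfl) (Dvd.intro _ rfl) hrat K hK hK1
  have hfun : (fun x => χ (x ^ K)) = χ := funext hinv
  have hdet := detChar_comp_pow hχc K (by rw [hfun]; exact hχc)
  rw [hfun] at hdet
  obtain ⟨δ, hδ⟩ := exists_hom_detChar hχc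
  have hK2' : 2 ≤ K := by
    have h1 : K % p = 2 % p := hK2
    have hp3 : 3 ≤ p := by
      have := hp.out.two_le
      omega
    rw [Nat.mod_eq_of_lt (by omega : 2 < p)] at h1
    have := Nat.mod_le K p
    omega
  have hpow : Cfsg.detChar χ ^ (K - 1) = 1 := by
    funext x
    have h1 := congrFun hdet x
    rw [Pi.pow_apply, Pi.one_apply]
    have hne : Cfsg.detChar χ x ≠ 0 := by
      rw [hδ]
      exact Units.ne_zero _
    have h2 : Cfsg.detChar χ x * Cfsg.detChar χ x ^ (K - 1) = Cfsg.detChar χ x * 1 := by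
      rw [← pow_succ', Nat.sub_add_cancel (by omega : 1 ≤ K), mul_one]
      exact h1.symm
    exact mul_left_cancel₀ hne h2
  have hdvd : Cfsg.detOrder χ ∣ K - 1 := orderOf_dvd_of_pow_eq_one hpow
  intro hp'
  have h1 : p ∣ K - 1 := hp'.trans hdvd
  have h2 : K ≡ 1 [MOD p] := by
    have h3 : (K - 1) + 1 ≡ 0 + 1 [MOD p] :=
      Nat.ModEq.add_right 1 ((Nat.modEq_zero_iff_dvd).mpr h1)
    rw [Nat.sub_add_cancel (by omega : 1 ≤ K)] at h3
    exact h3
  have h3 : 2 ≡ 1 [MOD p] := hK2.symm.trans h2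
  have h4 : 2 % p = 1 % p := h3
  have hp3 : 3 ≤ p := by
    have := hp.out.two_le
    omega
  rw [Nat.mod_eq_of_lt (by omega : 2 < p), Nat.mod_eq_of_lt (by omega : 1 < p)] at h4
  omega

variable {G : Type u} [Group G] {M : Ideal Cfsg.AlgInt}

/-- coprime power maps which fix `ϑ` preserve goodness -/
theorem PGood.comp_pow [Finite G] {p : ℕ} {N : Subgroup G} [hN : N.Normal] {ϑ : N → ℂ}
    (H : Subgroup G) {χ : H → ℂ} (h : PGood p M N ϑ H χ) (K : ℕ)
    (hK : K.Coprime (Nat.card G)) (hϑK : ∀ n : N, ϑ (n ^ K) = ϑ n) :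
    PGood p M N ϑ H (fun g => χ (g ^ K)) := by
  classical
  haveI : Fintype H := Fintype.ofFinite H
  have hKH : K.Coprime (Nat.card H) :=
    Nat.Coprime.coprime_dvd_right (Subgroup.card_subgroup_dvd_card H) hK
  have hirr : Cfsg.IsIrrCharacter H (fun g => χ (g ^ K)) := IsIrrCharacter.comp_pow h.1.1 K hKH
  refine ⟨⟨hirr, ?_⟩, ?_, ?_⟩
  · intro n
    have h1 := h.1.2 (n ^ K)
    have h2 : ((n ^ K : N.subgroupOf H) : H) = (n : H) ^ K := by simp
    rw [h2] at h1
    show χ ((n : H) ^ K) = _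
    rw [h1]
    exact hϑK ⟨((n : H) : G), Subgroup.mem_subgroupOf.mp n.2⟩
  · intro hdvd
    apply h.2.1
    refine hdvd.trans ?_
    have hχc := IsIrrCharacter.isCharacter h.1.1
    have hdet := detChar_comp_pow hχc K (IsIrrCharacter.isCharacter hirr)
    unfold Cfsg.detOrder
    rw [hdet]
    apply orderOf_dvd_of_pow_eq_one
    funext x
    have h1 := congrFun (pow_orderOf_eq_one (Cfsg.detChar χ)) x
    rw [Pi.pow_apply, Pi.one_apply] at h1 ⊢
    rw [← pow_mul, mul_comm, pow_mul, h1, one_pow]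
  · intro g hg
    have hord : orderOf ((g : G) ^ K) ∣ orderOf (g : G) := orderOf_pow_dvd K
    have hg' : ¬ p ∣ orderOf (((g ^ K : H) : H) : G) := by
      rw [Subgroup.coe_pow]
      exact fun hd => hg (hd.trans hord)
    have h1 := h.2.2 (g ^ K) hg'
    have hcop : (orderOf (g : G)).Coprime K :=
      (Nat.Coprime.coprime_dvd_right (orderOf_dvd_natCard (g : G)) hK).symm
    have h2 : cN N (((g ^ K : H) : H) : G) = cN N (g : G) := by
      unfold cN
      rw [Subgroup.coe_pow, centralizer_pow_coprime (g : G) K hcop]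
    rw [h2] at h1
    exact h1

end Cfsg.Agent.Helper6.PRat
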