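import Mathlib
import Cfsg.Prelude.Def_Characters
import Cfsg.Prelude.Def_Blocks
import Cfsg.Prelude.Def_CharExt
import Cfsg.Agent.Helper6.PRatG

/-!
# Group-theoretic preparation for the existence of good extensions over nilpotent sections
-/

set_option autoImplicit false
set_option linter.style.haveILetI false

namespace Cfsg.Agent.Helper6.PRat

open scoped ComplexConjugate
open Cfsg.Agent.Helper6.AlpDade

universe u v

/-- a finite nilpotent group has a normal `p`-complement -/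
theorem exists_normal_pcomplement_of_nilpotent {S : Type u} [Group S] [Finite S]
    [hS : Group.IsNilpotent S] (p : ℕ) [hp : Fact p.Prime] :
    ∃ K : Subgroup S, K.Normal ∧ ¬ p ∣ Nat.card K ∧ ∃ j : ℕ, K.index = p ^ j := by
  classical
  by_cases hpS : p ∣ Nat.card S
  · have hmem : p ∈ (Nat.card S).primeFactors :=
      Nat.mem_primeFactors.mpr ⟨hp.out, hpS, Nat.card_pos.ne'⟩
    obtain ⟨e⟩ := ((Group.isNilpotent_of_finite_tfae (G := S)).out 0 4).mp hS
    let P₀ : Sylow p S := default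
    let ev : (∀ q : (Nat.card S).primeFactors, ∀ P : Sylow q S, (↑P : Subgroup S)) →*
        (P₀ : Subgroup S) :=
      (Pi.evalMonoidHom (fun P : Sylow p S => (↑P : Subgroup S)) P₀).comp
        (Pi.evalMonoidHom
          (fun q : (Nat.card S).primeFactors => ∀ P : Sylow q S, (↑P : Subgroup S)) ⟨p, hmem⟩)
    let f : S →* (P₀ : Subgroup S) := ev.comp e.symm.toMonoidHom
    have hf : Function.Surjective f := by
      intro y
      refine ⟨e (Pi.mulSingle (⟨p, hmem⟩ : (Nat.card S).primeFactors)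
        (Pi.mulSingle (M := fun P : Sylow p S => (↑P : Subgroup S)) P₀ y)), ?_⟩
      simp [f, ev]
    have hrange : Nat.card f.range = Nat.card (P₀ : Subgroup S) := by
      rw [MonoidHom.range_eq_top.mpr hf, Subgroup.card_top]
    refine ⟨f.ker, inferInstance, ?_, ?_⟩
    · have h1 : Nat.card f.ker * Nat.card (P₀ : Subgroup S) = Nat.card S := by
        rw [← Subgroup.card_mul_index f.ker, Subgroup.index_ker, hrange]
      have h2 : Nat.card (P₀ : Subgroup S) * (P₀ : Subgroup S).index = Nat.card S :=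
        Subgroup.card_mul_index _
      have h3 : (P₀ : Subgroup S).index = Nat.card f.ker := by
        have hpos : 0 < Nat.card (P₀ : Subgroup S) := Nat.card_pos
        have : Nat.card (P₀ : Subgroup S) * (P₀ : Subgroup S).index =
            Nat.card (P₀ : Subgroup S) * Nat.card f.ker := by rw [h2, ← h1, mul_comm]
        exact Nat.eq_of_mul_eq_mul_left hpos this
      rw [← h3]
      exact P₀.not_dvd_index
    · obtain ⟨j, hj⟩ := IsPGroup.iff_card.mp P₀.isPGroup'
      exact ⟨j, by rw [Subgroup.index_ker, hrange, hj]⟩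
  · exact ⟨⊤, inferInstance, by rwa [Subgroup.card_top], 0, by simp⟩

variable {G : Type u} [Group G] {M : Ideal Cfsg.AlgInt}

/-- the subgroup form of the normal `p`-complement -/
theorem exists_pcomplement_subgroup [Finite G] (S : Subgroup G) [hS : Group.IsNilpotent S]
    (p : ℕ) [hp : Fact p.Prime] :
    ∃ K' : Subgroup G, K' ≤ S ∧ (∀ s ∈ S, ∀ k ∈ K', s * k * s⁻¹ ∈ K') ∧ ¬ p ∣ Nat.card K' ∧
      ∃ j : ℕ, K'.relIndex S = p ^ j := by
  obtain ⟨K, hKn, hKp, j, hj⟩ := exists_normal_pcomplement_of_nilpotent (S := S) p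
  refine ⟨K.map S.subtype, ?_, ?_, ?_, j, ?_⟩
  · rintro x ⟨k, -, rfl⟩
    exact k.2
  · rintro s hs x ⟨k, hk, rfl⟩
    exact ⟨⟨s, hs⟩ * k * ⟨s, hs⟩⁻¹, hKn.conj_mem k hk ⟨s, hs⟩, rfl⟩
  · rwa [Subgroup.card_map_of_injective S.subtype_injective]
  · rw [← hj, Subgroup.relIndex]
    congr 1
    ext x
    rw [Subgroup.mem_subgroupOf]
    constructor
    · rintro ⟨k, hk, hkx⟩
      have : k = x := Subtype.ext hkx
      rwa [← this]
    · intro hx
      exact ⟨x, hx, rfl⟩

/-- `N S` normalizes `N K'` when `S` normalizes `K'` -/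
theorem conj_mem_sup_of_normalizes (N S K' : Subgroup G) [hN : N.Normal]
    (hnorm : ∀ s ∈ S, ∀ k ∈ K', s * k * s⁻¹ ∈ K') :
    ∀ h ∈ N ⊔ S, ∀ x ∈ N ⊔ K', h * x * h⁻¹ ∈ N ⊔ K' := by
  intro h hh x hx
  rw [← SetLike.mem_coe, Subgroup.normal_mul] at hh hx
  obtain ⟨n, hn, s, hs, rfl⟩ := Set.mem_mul.mp hh
  obtain ⟨n', hn', k, hk, rfl⟩ := Set.mem_mul.mp hx
  have h1 : s * n' * s⁻¹ ∈ N ⊔ K' := Subgroup.mem_sup_left (hN.conj_mem n' hn' s)
  have h2 : s * k * s⁻¹ ∈ N ⊔ K' := Subgroup.mem_sup_right (hnorm s hs k hk)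
  have h3 : n ∈ N ⊔ K' := Subgroup.mem_sup_left hn
  have e : n * s * (n' * k) * (n * s)⁻¹ = n * ((s * n' * s⁻¹) * (s * k * s⁻¹)) * n⁻¹ := by
    group
  rw [e]
  exact (N ⊔ K').mul_mem ((N ⊔ K').mul_mem h3 ((N ⊔ K').mul_mem h1 h2)) ((N ⊔ K').inv_mem h3)

/-- `|N S : N K'|` is a power of `p` when `|S : K'|` is -/
theorem relIndex_sup_sup_pow [Finite G] {p : ℕ} [hp : Fact p.Prime] (N S K' : Subgroup G)
    [hN : N.Normal] (hKS : K' ≤ S) (j : ℕ) (hj : K'.relIndex S = p ^ j) :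
    ∃ j' : ℕ, (N ⊔ K').relIndex (N ⊔ S) = p ^ j' := by
  have hle : N ⊔ K' ≤ N ⊔ S := sup_le_sup_left hKS N
  have e1 : N.relIndex (N ⊔ K') * (N ⊔ K').relIndex (N ⊔ S) = N.relIndex (N ⊔ S) :=
    Subgroup.relIndex_mul_relIndex N (N ⊔ K') (N ⊔ S) le_sup_left hle
  rw [Subgroup.relIndex_sup_left, Subgroup.relIndex_sup_left] at e1
  have e2 : (N ⊓ K').relIndex K' * K'.relIndex S = (N ⊓ K').relIndex S :=
    Subgroup.relIndex_mul_relIndex (N ⊓ K') K' S inf_le_right hKS
  rw [Subgroup.inf_relIndex_right] at e2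
  have e3 : (N ⊓ K').relIndex (N ⊓ S) * (N ⊓ S).relIndex S = (N ⊓ K').relIndex S :=
    Subgroup.relIndex_mul_relIndex (N ⊓ K') (N ⊓ S) S (inf_le_inf_left N hKS) inf_le_right
  rw [Subgroup.inf_relIndex_right] at e3
  have hne : N.relIndex K' ≠ 0 := by
    unfold Subgroup.relIndex
    exact Subgroup.index_ne_zero_of_finite
  have hdvd : N.relIndex K' * (N ⊔ K').relIndex (N ⊔ S) ∣ N.relIndex K' * p ^ j := by
    rw [e1, ← hj, e2, ← e3]
    exact Dvd.intro_left _ rfl
  have hdvd' : (N ⊔ K').relIndex (N ⊔ S) ∣ p ^ j :=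
    (Nat.mul_dvd_mul_iff_left (Nat.pos_of_ne_zero hne)).mp hdvd
  obtain ⟨k, -, hk⟩ := (Nat.dvd_prime_pow hp.out).mp hdvd'
  exact ⟨k, hk⟩

/-- the homomorphism setup for a subgroup `H₁` between `N` and `N C_G(Q)` with `p ∤ |H₁ : N|` -/
theorem homSetup_of_le_sup [Finite G] {p : ℕ} [hp : Fact p.Prime] (N : Subgroup G)
    [hN : N.Normal] (Q : Sylow p N) (H₁ : Subgroup G) (hNH₁ : N ≤ H₁)
    (hidx : ¬ p ∣ N.relIndex H₁)
    (hT : H₁ ≤ N ⊔ Subgroup.centralizer
      (((Q : Subgroup N).map N.subtype : Subgroup G) : Set G)) :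
    HomSetup p (Subgroup.inclusion hNH₁)
      (((Q : Subgroup N).map N.subtype : Subgroup G).subgroupOf H₁) := by
  set Q' := ((Q : Subgroup N).map N.subtype : Subgroup G) with hQ'
  have hQN : Q' ≤ N := by
    rintro x ⟨q, -, rfl⟩
    exact q.2
  refine ⟨Subgroup.inclusion_injective hNH₁, ?_, ?_, ?_, ?_⟩
  · rw [Subgroup.inclusion_range]
    infer_instance
  · rw [Subgroup.inclusion_range]
    intro x hx
    exact Subgroup.mem_subgroupOf.mpr (hQN (Subgroup.mem_subgroupOf.mp hx))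
  · change ¬ p ∣ Q'.relIndex H₁
    rw [← Subgroup.relIndex_mul_relIndex Q' N H₁ hQN hNH₁]
    have hQrel : Q'.relIndex N = (Q : Subgroup N).index := by
      unfold Subgroup.relIndex
      congr 1
      ext x
      rw [Subgroup.mem_subgroupOf]
      constructor
      · rintro ⟨q, hq, hqx⟩
        have : q = x := Subtype.ext hqx
        rwa [← this]
      · intro hx
        exact ⟨x, hx, rfl⟩
    rw [hQrel]
    intro h
    rcases (Nat.Prime.dvd_mul hp.out).mp h with h | h
    · exact Q.not_dvd_index h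
    · exact hidx h
  · intro g
    have hg := hT g.2
    rw [← SetLike.mem_coe, Subgroup.normal_mul] at hg
    obtain ⟨n, hn, c, hc, hnc⟩ := Set.mem_mul.mp hg
    have hcH : c ∈ H₁ := by
      have : c = n⁻¹ * (g : G) := by
        rw [← hnc]
        group
      rw [this]
      exact H₁.mul_mem (H₁.inv_mem (hNH₁ hn)) g.2
    refine ⟨⟨c, hcH⟩, ?_, ?_⟩
    · rw [Subgroup.mem_centralizer_iff]
      intro x hx
      apply Subtype.ext
      exact hc (x : G) (Subgroup.mem_subgroupOf.mp hx)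
    · rw [Subgroup.inclusion_range, Subgroup.mem_subgroupOf]
      show c⁻¹ * (g : G) ∈ N
      rw [← hnc]
      have := hN.conj_mem n hn c⁻¹
      rw [inv_inv] at this
      rw [← mul_assoc]
      exact this

end Cfsg.Agent.Helper6.PRat
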