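import Mathlib
import Cfsg.Prelude.Def_Characters
import Cfsg.Prelude.Def_Blocks
import Cfsg.Prelude.Def_CharExt
import Cfsg.Agent.Helper6.PRatH
import Cfsg.Agent.Helper6.AlpDadeG
import Cfsg.Agent.S0867

/-!
# Existence of good extensions over nilpotent sections
-/

set_option autoImplicit false
set_option linter.style.haveILetI false

namespace Cfsg.Agent.Helper6.PRat

open scoped ComplexConjugate
open Cfsg.Agent.Helper6.AlpDade

universe u v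

variable {G : Type u} [Group G] {M : Ideal Cfsg.AlgInt}

/-- the principal-block extension to `N K'` for a solvable `p'`-subgroup `K'` inside `N C_G(Q)` -/
theorem exists_ext_pprime [Finite G] {p : ℕ} [hp : Fact p.Prime] (hM : Cfsg.IsPModular p M)
    (N : Subgroup G) [hN : N.Normal] (θ : Cfsg.IrrCharacter N)
    (hθ : θ ∈ Cfsg.principalBlock M N) (Q : Sylow p N) (K' : Subgroup G)
    [hK : Group.IsSolvable K'] (hidx : ¬ p ∣ N.relIndex (N ⊔ K'))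
    (hT : N ⊔ K' ≤ N ⊔ Subgroup.centralizer
      (((Q : Subgroup N).map N.subtype : Subgroup G) : Set G)) :
    ∃ ψ : Cfsg.IrrCharacter (N ⊔ K' : Subgroup G),
      ψ ∈ Cfsg.principalBlock M (N ⊔ K' : Subgroup G) ∧
      ∀ n : N, (ψ : (N ⊔ K' : Subgroup G) → ℂ)
        (Subgroup.inclusion (le_sup_left : N ≤ N ⊔ K') n) = (θ : N → ℂ) n := by
  obtain ⟨k, hk⟩ := exists_derived_le_of_solvable (N := N) K'
  exact exists_ext_solvable hM k N (Subgroup.inclusion le_sup_left) _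
    (homSetup_of_le_sup N Q (N ⊔ K') le_sup_left hidx hT) hk θ hθ

/-- the principal-block extension is invariant under every element normalizing `H₁` -/
theorem ext_pprime_invariant [Finite G] {p : ℕ} [hp : Fact p.Prime] (hM : Cfsg.IsPModular p M)
    (N : Subgroup G) [hN : N.Normal] (θ : Cfsg.IrrCharacter N)
    (hinv : ∀ (g : G) (n : N),
      (θ : N → ℂ) ⟨g * n * g⁻¹, hN.conj_mem (n : G) n.2 g⟩ = (θ : N → ℂ) n)
    (Q : Sylow p N) (H₁ : Subgroup G) (hNH₁ : N ≤ H₁) (hidx : ¬ p ∣ N.relIndex H₁)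
    (hT : H₁ ≤ N ⊔ Subgroup.centralizer
      (((Q : Subgroup N).map N.subtype : Subgroup G) : Set G))
    (ψ : Cfsg.IrrCharacter H₁) (hψB : ψ ∈ Cfsg.principalBlock M H₁)
    (hψ : ∀ n : N, (ψ : H₁ → ℂ) (Subgroup.inclusion hNH₁ n) = (θ : N → ℂ) n)
    (h : G) (h1 : ∀ x ∈ H₁, h * x * h⁻¹ ∈ H₁) (h2 : ∀ x ∈ H₁, h⁻¹ * x * h ∈ H₁) (x : H₁) :
    (ψ : H₁ → ℂ) ⟨h * x * h⁻¹, h1 x x.2⟩ = (ψ : H₁ → ℂ) x := by
  set φ := conjEquivOf H₁ H₁ h h1 h2 with hφ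
  have S := homSetup_of_le_sup N Q H₁ hNH₁ hidx hT
  have hB' : irrComp φ ψ ∈ Cfsg.principalBlock M H₁ := sameBlock_comp_mulEquiv φ _ _ hψB
  have hirr : Cfsg.IsIrrCharacter N (fun n => (ψ : H₁ → ℂ) (Subgroup.inclusion hNH₁ n)) := by
    have : (fun n => (ψ : H₁ → ℂ) (Subgroup.inclusion hNH₁ n)) = (θ : N → ℂ) := funext hψ
    rw [this]
    exact θ.2
  have hres : ∀ n : N, (irrComp φ ψ : H₁ → ℂ) (Subgroup.inclusion hNH₁ n) =
      (ψ : H₁ → ℂ) (Subgroup.inclusion hNH₁ n) := by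
    intro n
    rw [irrComp_apply, hψ n, ← hinv h n, ← hψ ⟨h * n * h⁻¹, hN.conj_mem (n : G) n.2 h⟩]
    rfl
  have heq := eq_of_ext_hom hM S ψ (irrComp φ ψ) hψB hB' hirr hres
  have h3 : (irrComp φ ψ : H₁ → ℂ) x = (ψ : H₁ → ℂ) x := by rw [heq]
  rw [irrComp_apply] at h3
  exact h3

/-- the determinantal order of an extension to a `p'`-overgroup stays prime to `p` -/
theorem not_dvd_detOrder_ext [Finite G] {p : ℕ} [hp : Fact p.Prime] (N H₁ : Subgroup G)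
    [hN : N.Normal] (hNH₁ : N ≤ H₁) (hidx : ¬ p ∣ N.relIndex H₁) (ϑ : N → ℂ)
    (hdet : ¬ p ∣ Cfsg.detOrder ϑ) (ψ : H₁ → ℂ) (hψc : Cfsg.IsCharacter H₁ ψ)
    (hres : ∀ n : N, ψ (Subgroup.inclusion hNH₁ n) = ϑ n) : ¬ p ∣ Cfsg.detOrder ψ := by
  have hcomp := detChar_comp_hom (Subgroup.inclusion hNH₁) hψc
  have hfun : (fun n => ψ (Subgroup.inclusion hNH₁ n)) = ϑ := funext hres
  rw [hfun] at hcomp
  obtain ⟨δ, hδ⟩ := exists_hom_detChar hψc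
  set o := Cfsg.detOrder ϑ with ho
  set r := N.relIndex H₁ with hr
  have hpow : Cfsg.detChar ψ ^ (r * o) = 1 := by
    funext x
    rw [Pi.pow_apply, Pi.one_apply]
    have hx : x ^ r ∈ N.subgroupOf H₁ := Subgroup.pow_index_mem (N.subgroupOf H₁) x
    have hxN : ((x ^ r : H₁) : G) ∈ N := Subgroup.mem_subgroupOf.mp hx
    have h0 : Cfsg.detChar ϑ ^ o = 1 := pow_orderOf_eq_one _
    have h1 := congrFun h0 ⟨((x ^ r : H₁) : G), hxN⟩
    rw [Pi.pow_apply, Pi.one_apply, hcomp] at h1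
    have h2 : Subgroup.inclusion hNH₁ ⟨((x ^ r : H₁) : G), hxN⟩ = x ^ r := Subtype.ext rfl
    simp only [] at h1
    rw [h2, hδ] at h1
    rw [hδ, pow_mul]
    simp only [map_pow, Units.val_pow_eq_pow_val] at h1
    exact h1
  have hdvd : Cfsg.detOrder ψ ∣ r * o := orderOf_dvd_of_pow_eq_one hpow
  intro h
  rcases (Nat.Prime.dvd_mul hp.out).mp (h.trans hdvd) with h | h
  · exact hidx h
  · exact hdet h

set_option maxHeartbeats 1600000 in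
/-- **existence of good extensions over nilpotent sections** -/
theorem exists_good_nilpotent [Finite G] {p : ℕ} [hp : Fact p.Prime] (hM : Cfsg.IsPModular p M)
    (N : Subgroup G) [hN : N.Normal] (θ : Cfsg.IrrCharacter N)
    (hθ : θ ∈ Cfsg.principalBlock M N)
    (hinv : ∀ (g : G) (n : N),
      (θ : N → ℂ) ⟨g * n * g⁻¹, hN.conj_mem (n : G) n.2 g⟩ = (θ : N → ℂ) n)
    (d : ℕ) (hd : (θ : N → ℂ) 1 = d) (hpd : ¬ p ∣ d)
    (hdet : ¬ p ∣ Cfsg.detOrder (θ : N → ℂ)) (Q : Sylow p N) (a : ℕ)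
    (hidx : (N ⊔ Subgroup.centralizer
      (((Q : Subgroup N).map N.subtype : Subgroup G) : Set G)).index = p ^ a)
    (S : Subgroup G) [hS : Group.IsNilpotent S] :
    ∃ χ : (N ⊔ S : Subgroup G) → ℂ, PGood p M N (θ : N → ℂ) (N ⊔ S) χ := by
  classical
  obtain ⟨K', hKS, hnorm, hKp, j, hj⟩ := exists_pcomplement_subgroup S p
  have hNH₁ : N ≤ N ⊔ K' := le_sup_left
  have hNH : N ≤ N ⊔ S := le_sup_left
  have hH₁H : N ⊔ K' ≤ N ⊔ S := sup_le_sup_left hKS N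
  haveI hT : (N ⊔ Subgroup.centralizer
      (((Q : Subgroup N).map N.subtype : Subgroup G) : Set G)).Normal :=
    sup_centralizer_sylow_normal N Q
  haveI : Group.IsSolvable S := inferInstance
  haveI : Group.IsSolvable K' :=
    Group.isSolvable_of_isSolvable_injective (Subgroup.inclusion_injective hKS)
  have hidx₁ : ¬ p ∣ N.relIndex (N ⊔ K') := by
    rw [Subgroup.relIndex_sup_left]
    exact fun h => hKp (h.trans (Subgroup.relIndex_dvd_card N K'))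
  have hT₁ : N ⊔ K' ≤ N ⊔ Subgroup.centralizer
      (((Q : Subgroup N).map N.subtype : Subgroup G) : Set G) := by
    apply sup_le le_sup_left
    intro k hk
    apply mem_of_regular_of_index_pow _ a hidx
    intro hdvd
    apply hKp
    have h1 : orderOf k ∣ Nat.card K' := by
      have := orderOf_dvd_natCard (⟨k, hk⟩ : K')
      rwa [Subgroup.orderOf_mk] at this
    exact hdvd.trans h1
  obtain ⟨ψ, hψB, hψ⟩ := exists_ext_pprime hM N θ hθ Q K' hidx₁ hT₁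
  have hconj := conj_mem_sup_of_normalizes N S K' hnorm
  have hconj' : ∀ h ∈ N ⊔ S, ∀ x ∈ N ⊔ K', h⁻¹ * x * h ∈ N ⊔ K' := by
    intro h hh x hx
    have := hconj h⁻¹ ((N ⊔ S).inv_mem hh) x hx
    rwa [inv_inv] at this
  haveI hnormal : ((N ⊔ K').subgroupOf (N ⊔ S)).Normal := by
    refine ⟨fun x hx h => ?_⟩
    rw [Subgroup.mem_subgroupOf] at hx ⊢
    exact hconj h h.2 x hx
  obtain ⟨j', hj'⟩ := relIndex_sup_sup_pow (p := p) N S K' hKS j hj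
  have hψinv := fun (h : G) (hh : h ∈ N ⊔ S) (x : (N ⊔ K' : Subgroup G)) =>
    ext_pprime_invariant hM N θ hinv Q (N ⊔ K') hNH₁ hidx₁ hT₁ ψ hψB hψ h (hconj h hh)
      (hconj' h hh) x
  have hψc : Cfsg.IsCharacter (N ⊔ K' : Subgroup G) (ψ : (N ⊔ K' : Subgroup G) → ℂ) :=
    IsIrrCharacter.isCharacter ψ.2
  have hψdet : ¬ p ∣ Cfsg.detOrder (ψ : (N ⊔ K' : Subgroup G) → ℂ) :=
    not_dvd_detOrder_ext N (N ⊔ K') hNH₁ hidx₁ (θ : N → ℂ) hdet _ hψc hψ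
  -- extension to `N S`
  set e := Subgroup.subgroupOfEquivOfLe hH₁H with he
  set ϑ' : (N ⊔ K').subgroupOf (N ⊔ S) → ℂ := (ψ : (N ⊔ K' : Subgroup G) → ℂ) ∘ e with hϑ'
  have hϑ'irr : Cfsg.IsIrrCharacter _ ϑ' := IsIrrCharacter.comp_mulEquiv e ψ.2
  have hϑ'inv : ∀ (g : (N ⊔ S : Subgroup G)) (n : (N ⊔ K').subgroupOf (N ⊔ S)),
      ϑ' ⟨g * n * g⁻¹, hnormal.conj_mem n n.2 g⟩ = ϑ' n := by
    intro g n
    exact hψinv (g : G) g.2 (e n)
  have hψ1 : (ψ : (N ⊔ K' : Subgroup G) → ℂ) 1 = d := by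
    rw [← hd]
    exact hψ 1
  have hϑ'1 : ϑ' 1 = d := by
    rw [← hψ1, hϑ']
    show (ψ : (N ⊔ K' : Subgroup G) → ℂ) (e 1) = _
    rw [map_one]
  have hϑ'det : ¬ p ∣ Cfsg.detOrder ϑ' := fun h =>
    hψdet (h.trans (detOrder_comp_hom_dvd e.toMonoidHom hψc))
  have hcop : Nat.Coprime ((N ⊔ K').subgroupOf (N ⊔ S)).index (Cfsg.detOrder ϑ' * d) := by
    show Nat.Coprime ((N ⊔ K').relIndex (N ⊔ S)) _
    rw [hj']
    apply Nat.Coprime.pow_left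
    rw [Nat.Prime.coprime_iff_not_dvd hp.out]
    intro h
    rcases (Nat.Prime.dvd_mul hp.out).mp h with h | h
    exacts [hϑ'det h, hpd h]
  obtain ⟨χ, ⟨hχirr, hχres, hχdet⟩, -⟩ :=
    Cfsg.Agent.S0867.result ((N ⊔ K').subgroupOf (N ⊔ S)) ϑ' hϑ'irr hϑ'inv d hϑ'1 hcop
  refine ⟨χ, ⟨hχirr, ?_⟩, ?_, ?_⟩
  · intro n
    have hn : ((n : (N ⊔ S : Subgroup G)) : G) ∈ N := Subgroup.mem_subgroupOf.mp n.2
    have hn' : (n : (N ⊔ S : Subgroup G)) ∈ (N ⊔ K').subgroupOf (N ⊔ S) :=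
      Subgroup.mem_subgroupOf.mpr (hNH₁ hn)
    have h1 := hχres ⟨(n : (N ⊔ S : Subgroup G)), hn'⟩
    rw [h1]
    exact hψ ⟨((n : (N ⊔ S : Subgroup G)) : G), hn⟩
  · rw [hχdet]
    exact hϑ'det
  · intro g hg
    have hg' : ¬ p ∣ orderOf g := by rwa [← Subgroup.orderOf_coe]
    have hgmem : g ∈ (N ⊔ K').subgroupOf (N ⊔ S) :=
      mem_of_regular_of_index_pow ((N ⊔ K').subgroupOf (N ⊔ S)) j'
        (by show (N ⊔ K').relIndex (N ⊔ S) = _; exact hj') g hg'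
    have hgH₁ : (g : G) ∈ N ⊔ K' := Subgroup.mem_subgroupOf.mp hgmem
    have h2 : χ g = (ψ : (N ⊔ K' : Subgroup G) → ℂ) ⟨(g : G), hgH₁⟩ := hχres ⟨g, hgmem⟩
    rw [h2]
    have h3 := (mem_principalBlock_iff hM.2.1 ψ).mp hψB ⟨(g : G), hgH₁⟩
    rw [centralChar_eq_cls, cls_subgroup (N ⊔ K') ⟨(g : G), hgH₁⟩, hψ1, ← hd] at h3
    rw [memLocalIdeal_cN_iff hM N (N ⊔ K') hNH₁ hidx₁]
    have e1 : (((Subgroup.centralizer ({(g : G)} : Set G)).relIndex (N ⊔ K') : ℕ) : ℂ) *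
        ((ψ : (N ⊔ K' : Subgroup G) → ℂ) ⟨(g : G), hgH₁⟩ / (θ : N → ℂ) 1 - 1) =
        (((Subgroup.centralizer ({(g : G)} : Set G)).relIndex (N ⊔ K') : ℕ) : ℂ) *
        ((ψ : (N ⊔ K' : Subgroup G) → ℂ) ⟨(g : G), hgH₁⟩ / (θ : N → ℂ) 1) -
        (((Subgroup.centralizer ({(g : G)} : Set G)).relIndex (N ⊔ K') : ℕ) : ℂ) := by ring
    rw [e1]
    exact h3

end Cfsg.Agent.Helper6.PRat
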