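import Mathlib
import Cfsg.Prelude.Def_Characters
import Cfsg.Prelude.Def_Blocks
import Cfsg.Prelude.Def_CharExt
import Cfsg.Agent.Helper6.PExtA
import Cfsg.Agent.Helper6.PRatI
import Cfsg.Agent.Helper6.LinearCoprime
import Cfsg.Agent.Helper6.AbelianInertia

/-!
# The twisting linear character over a `p'`-overgroup
-/

set_option autoImplicit false
set_option linter.style.haveILetI false

namespace Cfsg.Agent.Helper6.PExt

open scoped ComplexConjugate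
open Cfsg.Agent.Helper6.AlpDade Cfsg.Agent.Helper6.PRat

universe u v

variable {G : Type u} [Group G] {M : Ideal Cfsg.AlgInt}

set_option maxHeartbeats 1600000 in
/-- Two irreducible extensions of `θ` to `H₁` differ by a linear character of `H₁ / N`, which is
invariant under every element normalizing `H₁` and fixing both extensions. -/
theorem exists_twist [Finite G] (N : Subgroup G) [hN : N.Normal] (θ : Cfsg.IrrCharacter N)
    (H₁ : Subgroup G) (hNH₁ : N ≤ H₁) (ψ Ψ₁ : H₁ → ℂ) (hψirr : Cfsg.IsIrrCharacter H₁ ψ)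
    (hΨirr : Cfsg.IsIrrCharacter H₁ Ψ₁)
    (hψ : ∀ n : N, ψ (Subgroup.inclusion hNH₁ n) = (θ : N → ℂ) n)
    (hΨ : ∀ n : N, Ψ₁ (Subgroup.inclusion hNH₁ n) = (θ : N → ℂ) n) :
    ∃ lam : H₁ →* ℂˣ, (∀ x : H₁, (x : G) ∈ N → lam x = 1) ∧
      (∀ x : H₁, lam x ^ N.relIndex H₁ = 1) ∧ (∀ x : H₁, Ψ₁ x = ((lam x : ℂˣ) : ℂ) * ψ x) ∧
      ∀ (h : G) (h1 : ∀ x ∈ H₁, h * x * h⁻¹ ∈ H₁) (_ : ∀ x ∈ H₁, h⁻¹ * x * h ∈ H₁),
        (∀ x : H₁, ψ ⟨h * x * h⁻¹, h1 x x.2⟩ = ψ x) →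
        (∀ x : H₁, Ψ₁ ⟨h * x * h⁻¹, h1 x x.2⟩ = Ψ₁ x) →
        ∀ x : H₁, lam ⟨h * x * h⁻¹, h1 x x.2⟩ = lam x := by
  classical
  haveI : Fintype H₁ := Fintype.ofFinite H₁
  haveI : Fintype (N.subgroupOf H₁) := Fintype.ofFinite _
  haveI hNn : (N.subgroupOf H₁).Normal := Subgroup.Normal.subgroupOf hN H₁
  have hθ1 : (θ : N → ℂ) 1 ≠ 0 := IsIrrCharacter.apply_one_ne_zero θ.2
  have hresψ : (fun n : N.subgroupOf H₁ => ψ n) = resSub N (θ : N → ℂ) H₁ := by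
    funext n
    exact hψ ⟨(n : G), Subgroup.mem_subgroupOf.mp n.2⟩
  have hresΨ : (fun n : N.subgroupOf H₁ => Ψ₁ n) = resSub N (θ : N → ℂ) H₁ := by
    funext n
    exact hΨ ⟨(n : G), Subgroup.mem_subgroupOf.mp n.2⟩
  have hψN : Cfsg.IsIrrCharacter (N.subgroupOf H₁) (fun n : N.subgroupOf H₁ => ψ n) := by
    rw [hresψ]
    exact IsIrrCharacter.comp_mulEquiv (Subgroup.subgroupOfEquivOfLe hNH₁) θ.2
  have hbij := RelGlaub.gallagher_bijOn_one (N.subgroupOf H₁) ψ hψirr hψN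
  have hmem : Ψ₁ ∈ {ψ' : H₁ → ℂ | Cfsg.IsIrrCharacter H₁ ψ' ∧
      Cfsg.classInner (fun n : N.subgroupOf H₁ => ψ' n)
        (fun n : N.subgroupOf H₁ => ψ n) ≠ 0} := by
    refine ⟨hΨirr, ?_⟩
    rw [hresΨ, ← hresψ, classInner_irr_self hψN]
    exact one_ne_zero
  obtain ⟨β, ⟨hβ, hβker⟩, hβχ⟩ := hbij.surjOn hmem
  have hβχ' : ∀ g : H₁, β g * ψ g = Ψ₁ g := fun g => congrFun hβχ g
  have hψ1 : ψ 1 = (θ : N → ℂ) 1 := hψ 1
  have hΨ1 : Ψ₁ 1 = (θ : N → ℂ) 1 := hΨ 1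
  have hβ1 : β 1 = 1 := by
    have := hβχ' 1
    rw [hψ1, hΨ1] at this
    exact mul_right_cancel₀ hθ1 (by rw [this, one_mul])
  obtain ⟨lam, hlam⟩ := exists_hom_of_irr_degree_one hβ hβ1
  have hlamN : ∀ n : H₁, (n : G) ∈ N → lam n = 1 := by
    intro n hn
    have h1 := hβker n (Subgroup.mem_subgroupOf.mpr hn)
    rw [hβ1, hlam] at h1
    exact Units.ext h1
  refine ⟨lam, hlamN, ?_, ?_, ?_⟩
  · intro x
    rw [← map_pow]
    apply hlamN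
    have := Subgroup.pow_index_mem (N.subgroupOf H₁) x
    exact Subgroup.mem_subgroupOf.mp this
  · intro x
    rw [← hβχ' x, hlam]
  · intro h h1 h2 hψinv hΨinv x
    set φ := conjEquivOf H₁ H₁ h h1 h2 with hφ
    set lam' : H₁ →* ℂˣ := lam.comp φ.toMonoidHom with hlam'
    have hmem1 : (fun g : H₁ => ((lam g : ℂˣ) : ℂ)) ∈
        {β : H₁ → ℂ | Cfsg.IsIrrCharacter H₁ β ∧ ∀ n ∈ N.subgroupOf H₁, β n = β 1} := by
      rw [← hlam]
      exact ⟨hβ, hβker⟩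
    have hmem2 : (fun g : H₁ => ((lam' g : ℂˣ) : ℂ)) ∈
        {β : H₁ → ℂ | Cfsg.IsIrrCharacter H₁ β ∧ ∀ n ∈ N.subgroupOf H₁, β n = β 1} := by
      refine ⟨isIrrCharacter_of_hom lam', ?_⟩
      intro n hn
      have hn' : ((φ n : H₁) : G) ∈ N := by
        show h * (n : G) * h⁻¹ ∈ N
        exact hN.conj_mem _ (Subgroup.mem_subgroupOf.mp hn) h
      show ((lam (φ n) : ℂˣ) : ℂ) = ((lam' 1 : ℂˣ) : ℂ)
      rw [hlamN _ hn', map_one]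
    have heq : (fun β : H₁ → ℂ => β * ψ) (fun g : H₁ => ((lam g : ℂˣ) : ℂ)) =
        (fun β : H₁ → ℂ => β * ψ) (fun g : H₁ => ((lam' g : ℂˣ) : ℂ)) := by
      funext g
      show ((lam g : ℂˣ) : ℂ) * ψ g = ((lam (φ g) : ℂˣ) : ℂ) * ψ g
      have e1 : ((lam g : ℂˣ) : ℂ) * ψ g = Ψ₁ g := by rw [← hβχ' g, hlam]
      have e2 : ((lam (φ g) : ℂˣ) : ℂ) * ψ (φ g) = Ψ₁ (φ g) := by rw [← hβχ' (φ g), hlam]
      have e3 : ψ (φ g) = ψ g := hψinv g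
      have e4 : Ψ₁ (φ g) = Ψ₁ g := hΨinv g
      rw [e1, ← e4, ← e2, e3]
    have := hbij.injOn hmem1 hmem2 heq
    have h3 := congrFun this x
    exact (Units.ext h3).symm

end Cfsg.Agent.Helper6.PExt
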