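import Mathlib
import Cfsg.Prelude.Def_Characters
import Cfsg.Prelude.Def_Blocks
import Cfsg.Prelude.Def_CharExt
import Cfsg.Agent.Helper6.PExtB

/-!
# Existence of good extensions (relative to a global extension) over nilpotent sections
-/

set_option autoImplicit false
set_option linter.style.haveILetI false

namespace Cfsg.Agent.Helper6.PExt

open scoped ComplexConjugate
open Cfsg.Agent.Helper6.AlpDade Cfsg.Agent.Helper6.PRat

universe u v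

variable {G : Type u} [Group G] {M : Ideal Cfsg.AlgInt}

/-- the restriction of an irreducible character extending `θ` to an intermediate subgroup is
irreducible -/
theorem isIrr_restrict_of_ext [Finite G] (N : Subgroup G) [hN : N.Normal]
    (θ : Cfsg.IrrCharacter N)
    (Ψ : G → ℂ) (hΨ : Cfsg.IsCharacter G Ψ) (hΨN : ∀ n : N, Ψ n = (θ : N → ℂ) n)
    (H : Subgroup G) (hNH : N ≤ H) : Cfsg.IsIrrCharacter H (fun x : H => Ψ x) := by
  apply isIrr_of_restrict_isIrr (N.subgroupOf H) (IsCharacter.restrict H hΨ)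
  have : (fun n : N.subgroupOf H => (fun x : H => Ψ x) n) = resSub N (θ : N → ℂ) H := by
    funext n
    exact hΨN ⟨(n : G), Subgroup.mem_subgroupOf.mp n.2⟩
  rw [this]
  exact resSub_isIrr θ.2 H hNH

set_option maxHeartbeats 3200000 in
/-- **existence of good extensions over nilpotent sections** -/
theorem exists_egood_nilpotent [Finite G] {p : ℕ} [hp : Fact p.Prime] (hM : Cfsg.IsPModular p M)
    (N : Subgroup G) [hN : N.Normal] (θ : Cfsg.IrrCharacter N)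
    (hθ : θ ∈ Cfsg.principalBlock M N) (Ψ : G → ℂ) (hΨirr : Cfsg.IsIrrCharacter G Ψ)
    (hΨN : ∀ n : N, Ψ n = (θ : N → ℂ) n) (Q : Sylow p N)
    (hcov : N ⊔ Subgroup.centralizer
      (((Q : Subgroup N).map N.subtype : Subgroup G) : Set G) = ⊤)
    (S : Subgroup G) [hS : Group.IsNilpotent S] :
    ∃ χ : (N ⊔ S : Subgroup G) → ℂ, EGood p M N (θ : N → ℂ) Ψ (N ⊔ S) χ := by
  classical
  have hΨc : Cfsg.IsCharacter G Ψ := IsIrrCharacter.isCharacter hΨirr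
  have hΨcf := IsCharacter.isClassFunction hΨc
  have hinv : ∀ (g : G) (n : N),
      (θ : N → ℂ) ⟨g * n * g⁻¹, hN.conj_mem (n : G) n.2 g⟩ = (θ : N → ℂ) n := by
    intro g n
    rw [← hΨN, ← hΨN]
    exact hΨcf n g
  obtain ⟨K', hKS, hnorm, hKp, j, hj⟩ := exists_pcomplement_subgroup S p
  have hNH₁ : N ≤ N ⊔ K' := le_sup_left
  have hNH : N ≤ N ⊔ S := le_sup_left
  have hH₁H : N ⊔ K' ≤ N ⊔ S := sup_le_sup_left hKS N
  haveI : Group.IsSolvable S := inferInstance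
  haveI : Group.IsSolvable K' :=
    Group.isSolvable_of_isSolvable_injective (Subgroup.inclusion_injective hKS)
  have hidx₁ : ¬ p ∣ N.relIndex (N ⊔ K') := by
    rw [Subgroup.relIndex_sup_left]
    exact fun h => hKp (h.trans (Subgroup.relIndex_dvd_card N K'))
  have hT₁ : N ⊔ K' ≤ N ⊔ Subgroup.centralizer
      (((Q : Subgroup N).map N.subtype : Subgroup G) : Set G) := by
    rw [hcov]
    exact le_top
  obtain ⟨ψ, hψB, hψ⟩ := exists_ext_pprime hM N θ hθ Q K' hidx₁ hT₁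
  have hconj := conj_mem_sup_of_normalizes N S K' hnorm
  have hconj' : ∀ h ∈ N ⊔ S, ∀ x ∈ N ⊔ K', h⁻¹ * x * h ∈ N ⊔ K' := by
    intro h hh x hx
    have := hconj h⁻¹ ((N ⊔ S).inv_mem hh) x hx
    rwa [inv_inv] at this
  haveI hnormal : ((N ⊔ K').subgroupOf (N ⊔ S)).Normal := by
    refine ⟨fun x hx h => ?_⟩
    rw [Subgroup.mem_subgroupOf] at hx ⊢
    exact hconj h h.2 x hx
  obtain ⟨j', hj'⟩ := relIndex_sup_sup_pow (p := p) N S K' hKS j hj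
  have hψinv := fun (h : G) (hh : h ∈ N ⊔ S) (x : (N ⊔ K' : Subgroup G)) =>
    ext_pprime_invariant hM N θ hinv Q (N ⊔ K') hNH₁ hidx₁ hT₁ ψ hψB hψ h (hconj h hh)
      (hconj' h hh) x
  -- the restriction of `Ψ` to `H₁`
  set Ψ₁ : (N ⊔ K' : Subgroup G) → ℂ := fun x => Ψ x with hΨ₁
  have hΨ₁irr : Cfsg.IsIrrCharacter (N ⊔ K' : Subgroup G) Ψ₁ :=
    isIrr_restrict_of_ext N θ Ψ hΨc hΨN (N ⊔ K') hNH₁
  obtain ⟨lam₁, hlam₁N, hlam₁pow, hlam₁, hlam₁inv⟩ :=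
    exists_twist N θ (N ⊔ K') hNH₁ (ψ : (N ⊔ K' : Subgroup G) → ℂ) Ψ₁ ψ.2 hΨ₁irr hψ
      (fun n => hΨN n)
  set k := N.relIndex (N ⊔ K') with hk
  -- the linear character on `H₁` inside `H`
  set e := Subgroup.subgroupOfEquivOfLe hH₁H with he
  set μ' : (N ⊔ K').subgroupOf (N ⊔ S) →* ℂˣ := lam₁.comp e.toMonoidHom with hμ'
  set ϑ' : (N ⊔ K').subgroupOf (N ⊔ S) → ℂ := fun x => ((μ' x : ℂˣ) : ℂ) with hϑ'
  have hϑ'irr : Cfsg.IsIrrCharacter _ ϑ' := isIrrCharacter_of_hom μ'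
  have hϑ'inv : ∀ (g : (N ⊔ S : Subgroup G)) (n : (N ⊔ K').subgroupOf (N ⊔ S)),
      ϑ' ⟨g * n * g⁻¹, hnormal.conj_mem n n.2 g⟩ = ϑ' n := by
    intro g n
    have := hlam₁inv (g : G) (hconj g g.2) (hconj' g g.2)
      (fun x => hψinv (g : G) g.2 x) (fun x => hΨcf (x : G) (g : G)) (e n)
    show ((lam₁ (e ⟨g * n * g⁻¹, hnormal.conj_mem n n.2 g⟩) : ℂˣ) : ℂ) =
      ((lam₁ (e n) : ℂˣ) : ℂ)
    rw [← this]
    rfl
  have hϑ'1 : ϑ' 1 = ((1 : ℕ) : ℂ) := by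
    rw [hϑ']
    simp
  have hdetdvd : Cfsg.detOrder ϑ' ∣ k := by
    unfold Cfsg.detOrder
    rw [hϑ', detChar_of_hom μ']
    apply orderOf_dvd_of_pow_eq_one
    funext x
    rw [Pi.pow_apply, Pi.one_apply, ← Units.val_pow_eq_pow_val]
    show ((lam₁ (e x) ^ k : ℂˣ) : ℂ) = 1
    rw [hlam₁pow (e x)]
    rfl
  have hpdet : ¬ p ∣ Cfsg.detOrder ϑ' := fun h => hidx₁ (h.trans hdetdvd)
  have hcop : Nat.Coprime ((N ⊔ K').subgroupOf (N ⊔ S)).index (Cfsg.detOrder ϑ' * 1) := by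
    show Nat.Coprime ((N ⊔ K').relIndex (N ⊔ S)) _
    rw [hj', mul_one]
    apply Nat.Coprime.pow_left
    rw [Nat.Prime.coprime_iff_not_dvd hp.out]
    exact hpdet
  obtain ⟨χl, ⟨hχlirr, hχlres, hχldet⟩, -⟩ :=
    Cfsg.Agent.S0867.result ((N ⊔ K').subgroupOf (N ⊔ S)) ϑ' hϑ'irr hϑ'inv 1 hϑ'1 hcop
  have hχl1 : χl 1 = 1 := by
    have := hχlres 1
    rw [show (((1 : (N ⊔ K').subgroupOf (N ⊔ S)) : (N ⊔ S : Subgroup G))) = 1 from rfl] at this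
    rw [this, hϑ'1]
    simp
  obtain ⟨lam, hlam⟩ := exists_hom_of_irr_degree_one hχlirr hχl1
  set o := Cfsg.detOrder ϑ' with ho
  have hlampow : ∀ g : (N ⊔ S : Subgroup G), lam g ^ o = 1 := by
    intro g
    have h1 : Cfsg.detOrder χl = orderOf (fun g : (N ⊔ S : Subgroup G) => ((lam g : ℂˣ) : ℂ)) := by
      unfold Cfsg.detOrder
      rw [hlam, detChar_of_hom lam]
    have h2 : (fun g : (N ⊔ S : Subgroup G) => ((lam g : ℂˣ) : ℂ)) ^ o = 1 := by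
      rw [← hχldet, h1]
      exact pow_orderOf_eq_one _
    have h3 := congrFun h2 g
    rw [Pi.pow_apply, Pi.one_apply] at h3
    apply Units.ext
    rw [Units.val_pow_eq_pow_val]
    exact h3
  have hlamH₁ : ∀ (g : (N ⊔ S : Subgroup G)) (hg : (g : G) ∈ N ⊔ K'),
      lam g = lam₁ ⟨(g : G), hg⟩ := by
    intro g hg
    have hg' : g ∈ (N ⊔ K').subgroupOf (N ⊔ S) := Subgroup.mem_subgroupOf.mpr hg
    have h1 := hχlres ⟨g, hg'⟩
    rw [hlam] at h1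
    apply Units.ext
    exact h1
  have hlamN : ∀ g : (N ⊔ S : Subgroup G), (g : G) ∈ N → lam g = 1 := by
    intro g hg
    rw [hlamH₁ g (hNH₁ hg)]
    exact hlam₁N _ hg
  -- the good extension
  set ΨH : (N ⊔ S : Subgroup G) → ℂ := fun x => Ψ x with hΨH
  have hΨHirr : Cfsg.IsIrrCharacter (N ⊔ S : Subgroup G) ΨH :=
    isIrr_restrict_of_ext N θ Ψ hΨc hΨN (N ⊔ S) hNH
  haveI : Fintype (N ⊔ S : Subgroup G) := Fintype.ofFinite _
  refine ⟨ΨH * fun g => ((lam⁻¹ g : ℂˣ) : ℂ), ⟨IsIrrCharacter.mul_hom lam⁻¹ hΨHirr, ?_⟩,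
    ⟨lam⁻¹, ?_, ⟨o, hpdet, ?_⟩, ?_⟩, ?_⟩
  · intro n
    have hn : ((n : (N ⊔ S : Subgroup G)) : G) ∈ N := Subgroup.mem_subgroupOf.mp n.2
    show Ψ ((n : (N ⊔ S : Subgroup G)) : G) * ((lam⁻¹ (n : (N ⊔ S : Subgroup G)) : ℂˣ) : ℂ) = _
    rw [MonoidHom.inv_apply, hlamN _ hn]
    simp only [inv_one, Units.val_one, mul_one]
    exact hΨN ⟨_, hn⟩
  · intro g hg
    rw [MonoidHom.inv_apply, hlamN g hg, inv_one]
  · intro g
    rw [MonoidHom.inv_apply, inv_pow, hlampow g, inv_one]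
  · intro g
    rfl
  · intro g hg
    have hg' : ¬ p ∣ orderOf g := by rwa [← Subgroup.orderOf_coe]
    have hgmem : g ∈ (N ⊔ K').subgroupOf (N ⊔ S) :=
      mem_of_regular_of_index_pow ((N ⊔ K').subgroupOf (N ⊔ S)) j'
        (by show (N ⊔ K').relIndex (N ⊔ S) = _; exact hj') g hg'
    have hgH₁ : (g : G) ∈ N ⊔ K' := Subgroup.mem_subgroupOf.mp hgmem
    have h2 : (ΨH * fun g => ((lam⁻¹ g : ℂˣ) : ℂ)) g =
        (ψ : (N ⊔ K' : Subgroup G) → ℂ) ⟨(g : G), hgH₁⟩ := by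
      show Ψ (g : G) * ((lam⁻¹ g : ℂˣ) : ℂ) = _
      have h3 := hlam₁ ⟨(g : G), hgH₁⟩
      rw [hΨ₁] at h3
      simp only at h3
      rw [h3, MonoidHom.inv_apply, hlamH₁ g hgH₁]
      have hne : ((lam₁ ⟨(g : G), hgH₁⟩ : ℂˣ) : ℂ) ≠ 0 := Units.ne_zero _
      rw [Units.val_inv_eq_inv_val]
      field_simp
    rw [h2]
    have hψ1 : (ψ : (N ⊔ K' : Subgroup G) → ℂ) 1 = (θ : N → ℂ) 1 := hψ 1
    have h3 := (mem_principalBlock_iff hM.2.1 ψ).mp hψB ⟨(g : G), hgH₁⟩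
    rw [centralChar_eq_cls, cls_subgroup (N ⊔ K') ⟨(g : G), hgH₁⟩, hψ1] at h3
    rw [memLocalIdeal_cN_iff hM N (N ⊔ K') hNH₁ hidx₁]
    have e1 : (((Subgroup.centralizer ({(g : G)} : Set G)).relIndex (N ⊔ K') : ℕ) : ℂ) *
        ((ψ : (N ⊔ K' : Subgroup G) → ℂ) ⟨(g : G), hgH₁⟩ / (θ : N → ℂ) 1 - 1) =
        (((Subgroup.centralizer ({(g : G)} : Set G)).relIndex (N ⊔ K') : ℕ) : ℂ) *
        ((ψ : (N ⊔ K' : Subgroup G) → ℂ) ⟨(g : G), hgH₁⟩ / (θ : N → ℂ) 1) -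
        (((Subgroup.centralizer ({(g : G)} : Set G)).relIndex (N ⊔ K') : ℕ) : ℂ) := by ring
    rw [e1]
    exact h3

end Cfsg.Agent.Helper6.PExt
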