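import Mathlib
import Cfsg.Prelude.Def_Characters
import Cfsg.Prelude.Def_Blocks
import Cfsg.Prelude.Def_CharExt
import Cfsg.Agent.Helper6.PRatI

/-!
# `p`-rational principal-block extensions: the main theorem
-/

set_option autoImplicit false
set_option linter.style.haveILetI false

namespace Cfsg.Agent.Helper6.PRat

open scoped ComplexConjugate
open Cfsg.Agent.Helper6.AlpDade

universe u v

variable {G : Type u} [Group G] {M : Ideal Cfsg.AlgInt}

set_option maxHeartbeats 1600000 in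
/-- **`p`-rational extensions in the principal block** -/
theorem exists_prational_ext [Finite G] (p : ℕ) [hp : Fact p.Prime] (hp2 : p ≠ 2)
    (hM : Cfsg.IsPModular p M) (N : Subgroup G) [hN : N.Normal] (θ : Cfsg.IrrCharacter N)
    (hinv : ∀ (g : G) (n : N),
      (θ : N → ℂ) ⟨g * n * g⁻¹, hN.conj_mem (n : G) n.2 g⟩ = (θ : N → ℂ) n)
    (d : ℕ) (hd : (θ : N → ℂ) 1 = d) (hpd : ¬ p ∣ d) (m : ℕ) (hpm : ¬ p ∣ m)
    (hrat : ∀ n : N, (θ : N → ℂ) n ∈ IntermediateField.adjoin ℚ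
      ({Complex.exp (2 * Real.pi * Complex.I / m)} : Set ℂ))
    (hB : θ ∈ Cfsg.principalBlock M N) (Q : Sylow p N) (a : ℕ)
    (hidx : (N ⊔ Subgroup.centralizer
      (((Q : Subgroup N).map N.subtype : Subgroup G) : Set G)).index = p ^ a) :
    ∃ χ : Cfsg.IrrCharacter G, χ ∈ Cfsg.principalBlock M G ∧
      (∀ g : G, (χ : G → ℂ) g ∈ IntermediateField.adjoin ℚ
        ({Complex.exp (2 * Real.pi * Complex.I / m)} : Set ℂ)) ∧
      ∀ n : N, (χ : G → ℂ) n = (θ : N → ℂ) n := by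
  classical
  haveI : Fintype G := Fintype.ofFinite G
  have hdet : ¬ p ∣ Cfsg.detOrder (θ : N → ℂ) :=
    not_dvd_detOrder_of_rational hp2 θ.2 m hpm hrat
  set Good : (H : Subgroup G) → (H → ℂ) → Prop := PGood p M N (θ : N → ℂ) with hGood
  have hbase : ∀ (H : Subgroup G) (χ : H → ℂ), Good H χ → BaseExt N (θ : N → ℂ) H χ :=
    fun H χ h => h.1
  have hrestr : ∀ (H K : Subgroup G) (_ : N ≤ K) (hKH : K ≤ H) (χ : H → ℂ), Good H χ →
      Good K (fun k : K => χ ⟨(k : G), hKH k.2⟩) :=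
    fun H K hNK hKH χ h => PGood.restrict θ.2 H K hNK hKH h
  have hconj : ∀ (H : Subgroup G) (χ : H → ℂ) (x : G), Good H χ →
      Good (H.map (MulAut.conj x).toMonoidHom)
        (fun y => χ ((Subgroup.equivMapOfInjective H (MulAut.conj x).toMonoidHom
          (MulAut.conj x).injective).symm y)) :=
    fun H χ x h => PGood.conj hinv H h x
  have huniq : ∀ (H : Subgroup G) (_ : N ≤ H) (χ χ' : H → ℂ), Good H χ → Good H χ' → χ = χ' :=
    fun H hNH χ χ' h h' => PGood.unique hM θ.2 d hd hpd Q a hidx H hNH h h'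
  have hex : ∀ (S : Subgroup G), Group.IsNilpotent S → ∃ χ : (N ⊔ S : Subgroup G) → ℂ,
      Good (N ⊔ S) χ :=
    fun S hS => exists_good_nilpotent hM N θ hB hinv d hd hpd hdet Q a hidx S
  obtain ⟨Ψ, hΨirr, hΨN, hΨ⟩ :=
    glue_abstract_nil N (θ : N → ℂ) θ.2 Good hbase hrestr hconj huniq hex
  have hzn : ∀ g : G, Group.IsNilpotent (Subgroup.zpowers g) := by
    intro g
    letI : CommGroup (Subgroup.zpowers g) := IsCyclic.commGroup
    exact CommGroup.isNilpotent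
  have hgmem : ∀ g : G, g ∈ N ⊔ Subgroup.zpowers g := fun g =>
    Subgroup.mem_sup_right (Subgroup.mem_zpowers g)
  have hΨ1 : Ψ 1 = (θ : N → ℂ) 1 := hΨN 1
  refine ⟨⟨Ψ, hΨirr⟩, ?_, ?_, hΨN⟩
  · -- principal block
    apply mem_principalBlock_of_regular hM
    intro g hg
    obtain ⟨χ, hχ⟩ := hex (Subgroup.zpowers g) (hzn g)
    have h1 := hχ.2.2 ⟨g, hgmem g⟩ hg
    rw [← hΨ _ le_sup_left χ hχ g (hgmem g)] at h1
    obtain ⟨t, ht⟩ := cN_dvd_cls N g
    have h2 := MemLocalIdeal.mul_left hM.2.1 (memLocalRing_natCast hM.2.1 t) h1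
    rw [centralChar_eq_cls]
    show Cfsg.MemLocalIdeal M ((cls g : ℂ) * (Ψ g / Ψ 1) - (cls g : ℂ))
    have e1 : (cls g : ℂ) * (Ψ g / Ψ 1) - (cls g : ℂ) =
        (t : ℂ) * ((cN N g : ℂ) * (Ψ g / (θ : N → ℂ) 1 - 1)) := by
      rw [hΨ1, ht]
      push_cast
      ring
    rw [e1]
    exact h2
  · -- rationality
    have hm0 : m ≠ 0 := by
      intro h
      apply hpm
      rw [h]
      exact dvd_zero p
    haveI : NeZero m := ⟨hm0⟩
    set N₀ := Nat.card G * m with hN₀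
    haveI : NeZero N₀ := ⟨Nat.mul_ne_zero Nat.card_pos.ne' hm0⟩
    have hcardN : Nat.card N ∣ N₀ :=
      (Subgroup.card_subgroup_dvd_card N).trans (Dvd.intro _ rfl)
    have hθK : ∀ K : ℕ, K.Coprime N₀ → K ≡ 1 [MOD m] → ∀ n : N,
        (θ : N → ℂ) (n ^ K) = (θ : N → ℂ) n := fun K hK hK1 =>
      char_powInv_of_mem_adjoin (IsIrrCharacter.isCharacter θ.2) m N₀ (Dvd.intro_left _ rfl)
        hcardN hrat K hK hK1
    have hΨK : ∀ K : ℕ, K.Coprime N₀ → K ≡ 1 [MOD m] → ∀ g : G, Ψ (g ^ K) = Ψ g := by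
      intro K hK hK1 g
      have hKG : K.Coprime (Nat.card G) := Nat.Coprime.coprime_dvd_right (Dvd.intro _ rfl) hK
      obtain ⟨χ, hχ⟩ := hex (Subgroup.zpowers g) (hzn g)
      have hχK : Good _ (fun h => χ (h ^ K)) := PGood.comp_pow _ hχ K hKG (hθK K hK hK1)
      have heq := huniq _ le_sup_left _ _ hχK hχ
      have hgK : g ^ K ∈ N ⊔ Subgroup.zpowers g := Subgroup.pow_mem _ (hgmem g) K
      rw [hΨ _ le_sup_left χ hχ (g ^ K) hgK, hΨ _ le_sup_left χ hχ g (hgmem g)]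
      exact congrFun heq ⟨g, hgmem g⟩
    intro g
    exact char_mem_adjoin_of_powInv (IsIrrCharacter.isCharacter hΨirr) m N₀
      (Dvd.intro_left _ rfl) (Dvd.intro _ rfl) hΨK g

end Cfsg.Agent.Helper6.PRat
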