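import Mathlib
import Cfsg.Prelude.Def_Characters
import Cfsg.Prelude.Def_Blocks
import Cfsg.Prelude.Def_CharExt
import Cfsg.Agent.Helper6.PExtC
import Cfsg.Agent.Helper6.PRatJ

/-!
# Extensions in the principal block, compatible with all intermediate subgroups
-/

set_option autoImplicit false
set_option linter.style.haveILetI false

namespace Cfsg.Agent.Helper6.PExt

open scoped ComplexConjugate
open Cfsg.Agent.Helper6.AlpDade Cfsg.Agent.Helper6.PRat

universe u v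

variable {G : Type u} [Group G] {M : Ideal Cfsg.AlgInt}

/-- the `N`-class size divides the `H`-class size for `N ≤ H` -/
theorem cN_dvd_relIndex (N H : Subgroup G) [hN : N.Normal] [Finite G] (hNH : N ≤ H) (g : G) :
    cN N g ∣ (Subgroup.centralizer ({g} : Set G)).relIndex H := by
  obtain ⟨e, he, hrel⟩ := index_relation N H hNH g
  obtain ⟨t, ht⟩ := he
  have hne : N.relIndex H ≠ 0 := by
    unfold Subgroup.relIndex
    exact Subgroup.index_ne_zero_of_finite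
  have he0 : e ≠ 0 := by
    intro h0
    rw [h0, zero_mul] at ht
    exact hne ht
  refine ⟨t, ?_⟩
  rw [ht] at hrel
  have : e * (cN N g * t) = e * (Subgroup.centralizer ({g} : Set G)).relIndex H := by
    rw [← hrel]
    ring
  exact (Nat.eq_of_mul_eq_mul_left (Nat.pos_of_ne_zero he0) this).symm

set_option maxHeartbeats 1600000 in
/-- the relative congruences at the `p`-regular elements put the restriction to every
intermediate subgroup into the principal block -/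
theorem restrict_mem_principalBlock [Finite G] {p : ℕ} [hp : Fact p.Prime]
    (hM : Cfsg.IsPModular p M) (N : Subgroup G) [hN : N.Normal] (θ : Cfsg.IrrCharacter N)
    (Ψ : G → ℂ) (hΨc : Cfsg.IsCharacter G Ψ) (hΨN : ∀ n : N, Ψ n = (θ : N → ℂ) n)
    (hcong : ∀ g : G, ¬ p ∣ orderOf g →
      Cfsg.MemLocalIdeal M ((cN N g : ℂ) * (Ψ g / (θ : N → ℂ) 1 - 1)))
    (J : Subgroup G) (hNJ : N ≤ J) :
    ∃ ξ : Cfsg.IrrCharacter J, ξ ∈ Cfsg.principalBlock M J ∧ ∀ y : J, (ξ : J → ℂ) y = Ψ y := by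
  classical
  haveI : Fintype J := Fintype.ofFinite J
  have hirr : Cfsg.IsIrrCharacter J (fun y : J => Ψ y) :=
    isIrr_restrict_of_ext N θ Ψ hΨc hΨN J hNJ
  refine ⟨⟨fun y : J => Ψ y, hirr⟩, ?_, fun y => rfl⟩
  apply mem_principalBlock_of_regular hM
  intro y hy
  have hy' : ¬ p ∣ orderOf (y : G) := by rwa [Subgroup.orderOf_coe]
  have h1 := hcong (y : G) hy'
  obtain ⟨t, ht⟩ := cN_dvd_relIndex N J hNJ (y : G)
  have h2 := MemLocalIdeal.mul_left hM.2.1 (memLocalRing_natCast hM.2.1 t) h1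
  rw [centralChar_eq_cls, cls_subgroup J y]
  have hΨ1 : Ψ 1 = (θ : N → ℂ) 1 := hΨN 1
  show Cfsg.MemLocalIdeal M
    ((((Subgroup.centralizer ({(y : G)} : Set G)).relIndex J : ℕ) : ℂ) *
      (Ψ (y : G) / Ψ ((1 : J) : G)) -
      (((Subgroup.centralizer ({(y : G)} : Set G)).relIndex J : ℕ) : ℂ))
  have e1 : (((Subgroup.centralizer ({(y : G)} : Set G)).relIndex J : ℕ) : ℂ) *
      (Ψ (y : G) / Ψ ((1 : J) : G)) -
      (((Subgroup.centralizer ({(y : G)} : Set G)).relIndex J : ℕ) : ℂ) =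
      (t : ℂ) * ((cN N (y : G) : ℂ) * (Ψ (y : G) / (θ : N → ℂ) 1 - 1)) := by
    rw [Subgroup.coe_one, hΨ1, ht]
    push_cast
    ring
  rw [e1]
  exact h2

set_option maxHeartbeats 1600000 in
/-- **extensions in the principal block compatible with all intermediate subgroups** -/
theorem exists_principal_ext_all [Finite G] (p : ℕ) [hp : Fact p.Prime]
    (hM : Cfsg.IsPModular p M) (N : Subgroup G) [hN : N.Normal] (θ : Cfsg.IrrCharacter N)
    (hθ : θ ∈ Cfsg.principalBlock M N) (Q : Sylow p N)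
    (hcov : N ⊔ Subgroup.centralizer
      (((Q : Subgroup N).map N.subtype : Subgroup G) : Set G) = ⊤)
    (Ψ₀ : Cfsg.IrrCharacter G) (hΨ₀ : ∀ n : N, (Ψ₀ : G → ℂ) n = (θ : N → ℂ) n) :
    ∃ χ : Cfsg.IrrCharacter G, χ ∈ Cfsg.principalBlock M G ∧
      (∀ n : N, (χ : G → ℂ) n = (θ : N → ℂ) n) ∧
      ∀ J : Subgroup G, N ≤ J → ∃ ξ : Cfsg.IrrCharacter J, ξ ∈ Cfsg.principalBlock M J ∧
        ∀ y : J, (ξ : J → ℂ) y = (χ : G → ℂ) y := by
  classical
  haveI : Fintype G := Fintype.ofFinite G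
  have hΨ₀cf := IsCharacter.isClassFunction (IsIrrCharacter.isCharacter Ψ₀.2)
  have hinv : ∀ (g : G) (n : N),
      (θ : N → ℂ) ⟨g * n * g⁻¹, hN.conj_mem (n : G) n.2 g⟩ = (θ : N → ℂ) n := by
    intro g n
    rw [← hΨ₀, ← hΨ₀]
    exact hΨ₀cf n g
  set Good : (H : Subgroup G) → (H → ℂ) → Prop :=
    EGood p M N (θ : N → ℂ) (Ψ₀ : G → ℂ) with hGood
  have hbase : ∀ (H : Subgroup G) (χ : H → ℂ), Good H χ → BaseExt N (θ : N → ℂ) H χ :=
    fun H χ h => h.1
  have hrestr : ∀ (H K : Subgroup G) (_ : N ≤ K) (hKH : K ≤ H) (χ : H → ℂ), Good H χ →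
      Good K (fun k : K => χ ⟨(k : G), hKH k.2⟩) :=
    fun H K hNK hKH χ h => EGood.restrict θ.2 H K hNK hKH h
  have hconj : ∀ (H : Subgroup G) (χ : H → ℂ) (x : G), Good H χ →
      Good (H.map (MulAut.conj x).toMonoidHom)
        (fun y => χ ((Subgroup.equivMapOfInjective H (MulAut.conj x).toMonoidHom
          (MulAut.conj x).injective).symm y)) :=
    fun H χ x h => EGood.conj hinv hΨ₀cf H h x
  have huniq : ∀ (H : Subgroup G) (_ : N ≤ H) (χ χ' : H → ℂ), Good H χ → Good H χ' → χ = χ' :=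
    fun H hNH χ χ' h h' => EGood.unique hM Q hcov H hNH h h'
  have hex : ∀ (S : Subgroup G), Group.IsNilpotent S → ∃ χ : (N ⊔ S : Subgroup G) → ℂ,
      Good (N ⊔ S) χ :=
    fun S hS => exists_egood_nilpotent hM N θ hθ (Ψ₀ : G → ℂ) Ψ₀.2 hΨ₀ Q hcov S
  obtain ⟨Ψ, hΨirr, hΨN, hΨ⟩ :=
    glue_abstract_nil N (θ : N → ℂ) θ.2 Good hbase hrestr hconj huniq hex
  have hzn : ∀ g : G, Group.IsNilpotent (Subgroup.zpowers g) := by
    intro g
    letI : CommGroup (Subgroup.zpowers g) := IsCyclic.commGroup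
    exact CommGroup.isNilpotent
  have hgmem : ∀ g : G, g ∈ N ⊔ Subgroup.zpowers g := fun g =>
    Subgroup.mem_sup_right (Subgroup.mem_zpowers g)
  have hcong : ∀ g : G, ¬ p ∣ orderOf g →
      Cfsg.MemLocalIdeal M ((cN N g : ℂ) * (Ψ g / (θ : N → ℂ) 1 - 1)) := by
    intro g hg
    obtain ⟨χ, hχ⟩ := hex (Subgroup.zpowers g) (hzn g)
    have h1 := hχ.2.2 ⟨g, hgmem g⟩ hg
    rw [← hΨ _ le_sup_left χ hχ g (hgmem g)] at h1
    exact h1
  have hΨc : Cfsg.IsCharacter G Ψ := IsIrrCharacter.isCharacter hΨirr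
  refine ⟨⟨Ψ, hΨirr⟩, ?_, hΨN, ?_⟩
  · apply mem_principalBlock_of_regular hM
    intro g hg
    obtain ⟨t, ht⟩ := cN_dvd_cls N g
    have h2 := MemLocalIdeal.mul_left hM.2.1 (memLocalRing_natCast hM.2.1 t) (hcong g hg)
    rw [centralChar_eq_cls]
    have hΨ1 : Ψ 1 = (θ : N → ℂ) 1 := hΨN 1
    show Cfsg.MemLocalIdeal M ((cls g : ℂ) * (Ψ g / Ψ 1) - (cls g : ℂ))
    have e1 : (cls g : ℂ) * (Ψ g / Ψ 1) - (cls g : ℂ) =
        (t : ℂ) * ((cN N g : ℂ) * (Ψ g / (θ : N → ℂ) 1 - 1)) := by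
      rw [hΨ1, ht]
      push_cast
      ring
    rw [e1]
    exact h2
  · intro J hNJ
    exact restrict_mem_principalBlock hM N θ Ψ hΨc hΨN hcong J hNJ

end Cfsg.Agent.Helper6.PExt
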