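import Mathlib
import Cfsg.Prelude.Def_Characters
import Cfsg.Prelude.Def_Blocks
import Cfsg.Prelude.Def_OddOrderLocal
import Cfsg.Agent.Helper6.PiKerE
import Cfsg.Agent.Helper6.SecondMainD

/-!
# Characters of a block whose Brauer correspondent has the `π'`-core in its kernel are constant on
`π'`-sections of `p`-elements with `π'`-closed centralizers
-/

set_option autoImplicit false
set_option linter.style.haveILetI false

namespace Cfsg.Agent.Helper6

open scoped ComplexConjugate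

universe u

variable {G : Type u} [Group G] {M : Ideal Cfsg.AlgInt}

/-- **S4727** -/
theorem char_mul_piPrime_eq [Fintype G] {p : ℕ} [hp : Fact p.Prime] (hM : Cfsg.IsPModular p M)
    (π : Set ℕ) (hpπ : p ∈ π)
    (B : Set (Cfsg.IrrCharacter G)) (hB : Cfsg.IsPBlock M B) (D : Subgroup G)
    (hBD : Cfsg.IsDefectGroup p M B D)
    (B₁ : Set (Cfsg.IrrCharacter (Subgroup.normalizer (D : Set G))))
    (hB₁ : Cfsg.IsInducedBlock M (Subgroup.normalizer (D : Set G)) B₁ B)
    (hB₁D : Cfsg.IsDefectGroup p M B₁ (D.subgroupOf (Subgroup.normalizer (D : Set G))))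
    (hker : ∀ n : Subgroup.normalizer (D : Set G),
      n ∈ Cfsg.piCore {q | q ∉ π} (Subgroup.normalizer (D : Set G)) → n ∈ Cfsg.blockKer B₁)
    (y : G) (hy : ∃ k : ℕ, orderOf y = p ^ k)
    (hC : ∀ x : Subgroup.centralizer ({y} : Set G),
      (∀ q : ℕ, q.Prime → q ∣ orderOf x → q ∉ π) →
        x ∈ Cfsg.piCore {q | q ∉ π} (Subgroup.centralizer ({y} : Set G)))
    (χ : Cfsg.IrrCharacter G) (hχ : χ ∈ B) (x : G)
    (hx : x ∈ Subgroup.centralizer ({y} : Set G))
    (hxπ : ∀ q : ℕ, q.Prime → q ∣ orderOf x → q ∉ π) :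
    (χ : G → ℂ) (y * x) = (χ : G → ℂ) y := by
  classical
  haveI : Fintype (Subgroup.centralizer ({y} : Set G)) := Fintype.ofFinite _
  set C := Subgroup.centralizer ({y} : Set G) with hCdef
  set x' : C := ⟨x, hx⟩ with hx'
  have hord : orderOf x' = orderOf x := Subgroup.orderOf_mk x hx
  have hx'π : ∀ q : ℕ, q.Prime → q ∣ orderOf x' → q ∉ π := by
    intro q hq hd
    rw [hord] at hd
    exact hxπ q hq hd
  have hx'reg : ¬ p ∣ orderOf x' := fun h => hx'π p hp.1 h hpπ
  have h1reg : ¬ p ∣ orderOf (1 : C) := by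
    rw [orderOf_one]
    exact fun h => hp.1.one_lt.ne' (Nat.dvd_one.mp h)
  have hx'K := hC x' hx'π
  have s1 := second_main_sum hM y hy B hB χ x' hx'reg
  have s2 := second_main_sum hM y hy B hB χ (1 : C) h1reg
  rw [if_pos hχ] at s1 s2
  have e1 : ((1 : C) : G) = 1 := rfl
  rw [e1, mul_one] at s2
  rw [← s1, ← s2]
  apply finsum_mem_congr rfl
  intro ψ hψ
  have hψind : Cfsg.IsInducedBlock M C (Cfsg.blockOf M (ψ : C → ℂ)) B := hψ
  congr 1
  -- a defect group of the block of `ψ`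
  have hb : Cfsg.IsPBlock M (Cfsg.blockOf M (ψ : C → ℂ)) := ⟨ψ, rfl⟩
  obtain ⟨l, hl⟩ := exists_defectClass hM.2.1 _ hb
  obtain ⟨T⟩ : Nonempty (Sylow p (Subgroup.centralizer ({l} : Set C))) := inferInstance
  have hD₀ : Cfsg.IsDefectGroup p M (Cfsg.blockOf M (ψ : C → ℂ))
      ((T : Subgroup _).map (Subgroup.centralizer ({l} : Set C)).subtype) := ⟨l, hl, T, rfl⟩
  set D₀ := (T : Subgroup _).map (Subgroup.centralizer ({l} : Set C)).subtype with hD₀def
  have hyC : y ∈ C := Subgroup.mem_centralizer_singleton_iff.mpr rfl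
  have hyD₀ : (⟨y, hyC⟩ : C) ∈ D₀ := by
    apply central_pElement_mem_defectGroup hM (⟨y, hyC⟩ : C) _ _ _ hb D₀ hD₀
    · intro g
      apply Subtype.ext
      exact Subgroup.mem_centralizer_singleton_iff.mp g.2
    · obtain ⟨k, hk⟩ := hy
      exact ⟨k, by rw [Subgroup.orderOf_mk]; exact hk⟩
  have hCle : Subgroup.centralizer ((D₀.map C.subtype : Subgroup G) : Set G) ≤ C := by
    apply Subgroup.centralizer_le
    intro t ht
    rw [Set.mem_singleton_iff] at ht
    rw [ht]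
    exact ⟨⟨y, hyC⟩, hyD₀, rfl⟩
  have key := piCore_le_blockKer_of_induced hM π hpπ B hB D hBD B₁ hB₁ hB₁D hker C
    (Cfsg.blockOf M (ψ : C → ℂ)) hψind D₀ hD₀ hCle x' hx'K
  exact key ψ (mem_blockOf_self hM.2.1 ψ)

end Cfsg.Agent.Helper6
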