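import Mathlib
import Cfsg.Prelude.Def_Characters
import Cfsg.Prelude.Def_Blocks
import Cfsg.Agent.Helper6.BlockOrth

/-!
# Restriction multiplicities of a block whose members restrict irreducibly

If every member of a block `B` of `G` restricts irreducibly to the subgroup `H`, then the number
of members of `B` restricting to a given irreducible character of `H` is constant along pairs of
irreducible characters of `H` whose inner product on the `p`-regular elements does not vanish.
-/

set_option autoImplicit false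
set_option linter.style.haveILetI false

namespace Cfsg.Agent.Helper6

open scoped ComplexConjugate

universe u

variable {G : Type u} [Group G] {M : Ideal Cfsg.AlgInt}

/-- the number of members of `B` restricting to `θ` -/
noncomputable def pl1Mult (H : Subgroup G) (B : Set (Cfsg.IrrCharacter G)) (θ : H → ℂ) : ℕ :=
  Set.ncard {χ : Cfsg.IrrCharacter G | χ ∈ B ∧ (fun h : H => (χ : G → ℂ) h) = θ}

theorem pl1_sum_boole_mult [Fintype (Cfsg.IrrCharacter G)] (H : Subgroup G)
    (B : Set (Cfsg.IrrCharacter G)) (θ : H → ℂ)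
    [DecidablePred fun χ : Cfsg.IrrCharacter G => χ ∈ B ∧ (fun h : H => (χ : G → ℂ) h) = θ] :
    ∑ χ : Cfsg.IrrCharacter G,
      (if χ ∈ B ∧ (fun h : H => (χ : G → ℂ) h) = θ then (1 : ℂ) else 0) =
      (pl1Mult H B θ : ℂ) := by
  rw [Finset.sum_boole]
  unfold pl1Mult
  congr 1
  rw [← Set.ncard_coe_finset]
  congr 1
  ext χ
  simp

/-- summing the kernel of the block against an irreducible character of the subgroup -/
theorem pl1_sum_kernel_mul [Fintype G] [Fintype (Cfsg.IrrCharacter G)] (H : Subgroup G)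
    [Fintype H] (B : Set (Cfsg.IrrCharacter G)) [DecidablePred (· ∈ B)]
    (hres : ∀ χ ∈ B, Cfsg.IsIrrCharacter H (fun h : H => (χ : G → ℂ) h))
    (θ' : Cfsg.IrrCharacter H) (x : H) :
    ∑ y : H, blockKernelFun B (x : G) (y : G) * (θ' : H → ℂ) y =
      (Nat.card H : ℂ) * (pl1Mult H B (θ' : H → ℂ) : ℂ) * (θ' : H → ℂ) x := by
  classical
  have hH0 : (Nat.card H : ℂ) ≠ 0 := by
    have : 0 < Nat.card H := Nat.card_pos
    exact_mod_cast this.ne'
  unfold blockKernelFun
  simp_rw [Finset.sum_mul]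
  rw [Finset.sum_comm]
  have hterm : ∀ χ : Cfsg.IrrCharacter G,
      ∑ y : H, (if χ ∈ B then (χ : G → ℂ) (x : G) * conj ((χ : G → ℂ) (y : G)) else 0) *
        (θ' : H → ℂ) y =
      (if χ ∈ B ∧ (fun h : H => (χ : G → ℂ) h) = (θ' : H → ℂ) then (1 : ℂ) else 0) *
        ((Nat.card H : ℂ) * (θ' : H → ℂ) x) := by
    intro χ
    by_cases hχ : χ ∈ B
    · simp only [if_pos hχ]
      have h1 : ∑ y : H, (χ : G → ℂ) (x : G) * conj ((χ : G → ℂ) (y : G)) * (θ' : H → ℂ) y =
          (χ : G → ℂ) (x : G) * ((Nat.card H : ℂ) *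
            Cfsg.classInner (θ' : H → ℂ) (fun h : H => (χ : G → ℂ) h)) := by
        rw [classInner_def, ← mul_assoc (Nat.card H : ℂ), mul_inv_cancel₀ hH0, one_mul,
          Finset.mul_sum]
        apply Finset.sum_congr rfl
        intro y _
        ring
      rw [h1]
      by_cases heq : (fun h : H => (χ : G → ℂ) h) = (θ' : H → ℂ)
      · rw [if_pos ⟨hχ, heq⟩, heq, classInner_irr_self θ'.2, one_mul, mul_one]
        have : (χ : G → ℂ) (x : G) = (θ' : H → ℂ) x := congrFun heq x
        rw [this, mul_comm]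
      · rw [if_neg (fun h => heq h.2), zero_mul,
          classInner_irr_ne θ'.2 (hres χ hχ) (fun h => heq h.symm), mul_zero, mul_zero]
    · rw [if_neg (fun h => hχ h.1), zero_mul]
      simp only [if_neg hχ, zero_mul, Finset.sum_const_zero]
  simp_rw [hterm]
  rw [← Finset.sum_mul, pl1_sum_boole_mult]
  ring

/-- the same sum taken over the other variable -/
theorem pl1_sum_kernel_mul' [Fintype G] [Fintype (Cfsg.IrrCharacter G)] (H : Subgroup G)
    [Fintype H] (B : Set (Cfsg.IrrCharacter G)) [DecidablePred (· ∈ B)]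
    (hres : ∀ χ ∈ B, Cfsg.IsIrrCharacter H (fun h : H => (χ : G → ℂ) h))
    (θ : Cfsg.IrrCharacter H) (y : H) :
    ∑ x : H, conj ((θ : H → ℂ) x) * blockKernelFun B (x : G) (y : G) =
      (Nat.card H : ℂ) * (pl1Mult H B (θ : H → ℂ) : ℂ) * conj ((θ : H → ℂ) y) := by
  have h := congrArg conj (pl1_sum_kernel_mul H B hres θ y)
  rw [map_sum, map_mul, map_mul, Complex.conj_natCast, Complex.conj_natCast] at h
  rw [← h]
  apply Finset.sum_congr rfl
  intro x _
  rw [map_mul, blockKernelFun_conj, mul_comm]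

/-- **multiplicities agree along nonvanishing `p`-regular inner products** -/
theorem pl1_mult_eq [Fintype G] (hM : M.IsMaximal) (p : ℕ) [hp : Fact p.Prime]
    (hpM : (p : Cfsg.AlgInt) ∈ M) (H : Subgroup G) [Fintype H]
    (B : Set (Cfsg.IrrCharacter G)) (hB : Cfsg.IsPBlock M B)
    (hres : ∀ χ ∈ B, Cfsg.IsIrrCharacter H (fun h : H => (χ : G → ℂ) h))
    (θ θ' : Cfsg.IrrCharacter H)
    (hne : ∑ x : H, (if p ∣ orderOf x then (0 : ℂ) else
      (θ : H → ℂ) x * conj ((θ' : H → ℂ) x)) ≠ 0) :
    pl1Mult H B (θ : H → ℂ) = pl1Mult H B (θ' : H → ℂ) := by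
  classical
  haveI : Finite (Cfsg.IrrCharacter G) := irr_finite
  haveI : Fintype (Cfsg.IrrCharacter G) := Fintype.ofFinite _
  have hH0 : (Nat.card H : ℂ) ≠ 0 := by
    have : 0 < Nat.card H := Nat.card_pos
    exact_mod_cast this.ne'
  have hord : ∀ x : H, orderOf (x : G) = orderOf x := fun x => Subgroup.orderOf_coe x
  -- the double sum over the `p`-regular elements
  set D : ℂ := ∑ x : H, ∑ y : H, (if p ∣ orderOf x then (0 : ℂ) else
    (if p ∣ orderOf y then (0 : ℂ) else
      conj ((θ : H → ℂ) x) * blockKernelFun B (x : G) (y : G) * (θ' : H → ℂ) y)) with hD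
  set c : ℂ := ∑ x : H, (if p ∣ orderOf x then (0 : ℂ) else
    conj ((θ : H → ℂ) x) * (θ' : H → ℂ) x) with hc
  have hc0 : c ≠ 0 := by
    intro h0
    apply hne
    have h2 : (∑ x : H, (if p ∣ orderOf x then (0 : ℂ) else
        (θ : H → ℂ) x * conj ((θ' : H → ℂ) x))) = conj c := by
      rw [hc, map_sum]
      apply Finset.sum_congr rfl
      intro x _
      by_cases hx : p ∣ orderOf x
      · rw [if_pos hx, if_pos hx, map_zero]
      · rw [if_neg hx, if_neg hx, map_mul, Complex.conj_conj]
    rw [h2, h0, map_zero]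
  have hD1 : D = (Nat.card H : ℂ) * (pl1Mult H B (θ' : H → ℂ) : ℂ) * c := by
    rw [hD, hc, Finset.mul_sum]
    apply Finset.sum_congr rfl
    intro x _
    by_cases hx : p ∣ orderOf x
    · simp only [if_pos hx, Finset.sum_const_zero, mul_zero]
    · simp only [if_neg hx]
      have h1 : ∑ y : H, (if p ∣ orderOf y then (0 : ℂ) else
          conj ((θ : H → ℂ) x) * blockKernelFun B (x : G) (y : G) * (θ' : H → ℂ) y) =
          ∑ y : H, conj ((θ : H → ℂ) x) * (blockKernelFun B (x : G) (y : G) *
            (θ' : H → ℂ) y) := by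
        apply Finset.sum_congr rfl
        intro y _
        by_cases hy : p ∣ orderOf y
        · rw [if_pos hy, blockKernelFun_eq_zero hM p hpM B hB (x : G) (y : G)
            (Or.inr ⟨by rw [hord]; exact hx, by rw [hord]; exact hy⟩), zero_mul, mul_zero]
        · rw [if_neg hy, mul_assoc]
      rw [h1, ← Finset.mul_sum, pl1_sum_kernel_mul H B hres θ' x]
      ring
  have hD2 : D = (Nat.card H : ℂ) * (pl1Mult H B (θ : H → ℂ) : ℂ) * c := by
    rw [hD, Finset.sum_comm, hc, Finset.mul_sum]
    apply Finset.sum_congr rfl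
    intro y _
    by_cases hy : p ∣ orderOf y
    · simp only [if_pos hy, ite_self, Finset.sum_const_zero, mul_zero]
    · simp only [if_neg hy]
      have h1 : ∑ x : H, (if p ∣ orderOf x then (0 : ℂ) else
          conj ((θ : H → ℂ) x) * blockKernelFun B (x : G) (y : G) * (θ' : H → ℂ) y) =
          ∑ x : H, (conj ((θ : H → ℂ) x) * blockKernelFun B (x : G) (y : G)) *
            (θ' : H → ℂ) y := by
        apply Finset.sum_congr rfl
        intro x _
        by_cases hx : p ∣ orderOf x
        · rw [if_pos hx, blockKernelFun_eq_zero hM p hpM B hB (x : G) (y : G)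
            (Or.inl ⟨by rw [hord]; exact hx, by rw [hord]; exact hy⟩), mul_zero, zero_mul]
        · rw [if_neg hx]
      rw [h1, ← Finset.sum_mul, pl1_sum_kernel_mul' H B hres θ y]
      ring
  have h3 : ((pl1Mult H B (θ : H → ℂ) : ℕ) : ℂ) = (pl1Mult H B (θ' : H → ℂ) : ℂ) := by
    have h4 : (Nat.card H : ℂ) * (pl1Mult H B (θ : H → ℂ) : ℂ) * c =
        (Nat.card H : ℂ) * (pl1Mult H B (θ' : H → ℂ) : ℂ) * c := by
      rw [← hD1, ← hD2]
    have h5 := mul_right_cancel₀ hc0 h4
    exact mul_left_cancel₀ hH0 h5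
  exact_mod_cast h3

end Cfsg.Agent.Helper6
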