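import Mathlib
import Cfsg.Prelude.Def_Characters
import Cfsg.Prelude.Def_Blocks
import Cfsg.Prelude.Def_Local
import Cfsg.Agent.Helper6.PrincipalSolv
import Cfsg.Agent.Helper6.InflationBlocks2
import Cfsg.Agent.Helper6.ThirdMain
import Cfsg.Agent.Helper6.DefectZeroBlock
import Cfsg.Agent.Helper4.CyclicSylowC

/-!
# Groups with a normal Sylow `p`-subgroup: blocks and heights
-/

set_option autoImplicit false
set_option linter.style.haveILetI false

namespace Cfsg.Agent.Helper6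

open scoped ComplexConjugate

universe u

variable {X : Type u} [Group X] {M : Ideal Cfsg.AlgInt}

/-- a group with a normal Sylow `p`-subgroup is `p`-solvable -/
theorem pl1_isPSolvable_of_normal_sylow [Finite X] {p : ℕ} [hp : Fact p.Prime] (Q : Subgroup X)
    [hQn : Q.Normal] (hQ : IsPGroup p Q) (hidx : Q.index.Coprime p) : Cfsg.IsPSolvable p X := by
  obtain ⟨m, hm⟩ := IsPGroup.iff_card.1 hQ
  refine Helper4.isPSolvable_of_series3 (⊥ : Subgroup X) Q bot_le ?_ ⟨m, ?_⟩ hidx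
  · rw [Subgroup.card_bot]
    exact Nat.coprime_one_left p
  · rw [Subgroup.relIndex_bot_left, hm]

/-- a character with a normal Sylow `p`-subgroup in its kernel has degree prime to `p` -/
theorem pl1_not_dvd_charDegree [Finite X] {p : ℕ} [hp : Fact p.Prime] (Q : Subgroup X)
    [hQn : Q.Normal] (hidx : Q.index.Coprime p) (θ : Cfsg.IrrCharacter X)
    (hker : ∀ n ∈ Q, (θ : X → ℂ) n = (θ : X → ℂ) 1) :
    ¬ p ∣ Cfsg.charDegree (θ : X → ℂ) := by
  obtain ⟨θ', hθ'⟩ := exists_deflate Q θ hker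
  have hdeg : Cfsg.charDegree (θ : X → ℂ) = Cfsg.charDegree (θ' : X ⧸ Q → ℂ) := by
    unfold Cfsg.charDegree
    rw [hθ']
    simp
  have hdvd : Cfsg.charDegree (θ' : X ⧸ Q → ℂ) ∣ Q.index := by
    rw [Subgroup.index_eq_card]
    exact charDegree_dvd_card θ'.2
  intro h
  rw [hdeg] at h
  have h1 : p ∣ Q.index := dvd_trans h hdvd
  have h2 := Nat.Coprime.eq_one_of_dvd hidx.symm h1
  exact hp.out.one_lt.ne' h2

/-- degree prime to `p` gives height zero -/
theorem pl1_blockHeight_eq_zero (p : ℕ) (B : Set (Cfsg.IrrCharacter X)) (χ : X → ℂ)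
    (h : ¬ p ∣ Cfsg.charDegree χ) : Cfsg.blockHeight p B χ = 0 := by
  unfold Cfsg.blockHeight
  rw [Nat.factorization_eq_zero_of_not_dvd h, Nat.zero_sub]

/-- a height zero character has nonvanishing `p`-regular inner products inside its block -/
theorem pl1_sum_pregular_ne_zero [Fintype X] {p : ℕ} [hp : Fact p.Prime]
    (hM : Cfsg.IsPModular p M) (B : Set (Cfsg.IrrCharacter X)) (hB : Cfsg.IsPBlock M B)
    (ξ : Cfsg.IrrCharacter X) (hξ : ξ ∈ B) (h0 : Cfsg.blockHeight p B (ξ : X → ℂ) = 0)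
    (ψ : Cfsg.IrrCharacter X) (hψ : ψ ∈ B) :
    ∑ x : X, (if p ∣ orderOf x then (0 : ℂ) else
      (ξ : X → ℂ) x * conj ((ψ : X → ℂ) x)) ≠ 0 := by
  intro hS
  apply truncScaled_unit_of_height_zero hM B hB ξ hξ h0 ψ hψ
  have h1 : Cfsg.classInner (truncScaled p (ξ : X → ℂ)) (ψ : X → ℂ) = 0 := by
    rw [classInner_def]
    have h2 : ∑ g : X, truncScaled p (ξ : X → ℂ) g * conj ((ψ : X → ℂ) g) =
        ((p ^ (Nat.card X).factorization p : ℕ) : ℂ) *
          ∑ x : X, (if p ∣ orderOf x then (0 : ℂ) else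
            (ξ : X → ℂ) x * conj ((ψ : X → ℂ) x)) := by
      rw [Finset.mul_sum]
      apply Finset.sum_congr rfl
      intro g _
      unfold truncScaled
      split_ifs
      · rw [zero_mul, mul_zero]
      · rw [mul_assoc]
    rw [h2, hS, mul_zero, mul_zero]
  rw [h1, zero_div]
  exact memLocalIdeal_zero hM.2.1

/-- every block of a group with a normal Sylow `p`-subgroup `Q` has a member of height zero with
`Q` in its kernel -/
theorem pl1_exists_height_zero [Finite X] {p : ℕ} [hp : Fact p.Prime] (hM : Cfsg.IsPModular p M)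
    (Q : Subgroup X) [hQn : Q.Normal] (hQ : IsPGroup p Q) (hidx : Q.index.Coprime p)
    (B : Set (Cfsg.IrrCharacter X)) (hB : Cfsg.IsPBlock M B) :
    ∃ θ ∈ B, (∀ n ∈ Q, (θ : X → ℂ) n = (θ : X → ℂ) 1) ∧
      ¬ p ∣ Cfsg.charDegree (θ : X → ℂ) ∧ Cfsg.blockHeight p B (θ : X → ℂ) = 0 := by
  obtain ⟨θ, hθB, hker⟩ := exists_mem_block_kernel_general hM Q hQ B hB
  have hdeg := pl1_not_dvd_charDegree Q hidx θ hker
  exact ⟨θ, hθB, hker, hdeg, pl1_blockHeight_eq_zero p B _ hdeg⟩

/-- the principal block of a group with a normal Sylow `p`-subgroup -/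
theorem pl1_principalBlock_eq [Finite X] {p : ℕ} [hp : Fact p.Prime] (hM : Cfsg.IsPModular p M)
    (Q : Subgroup X) [hQn : Q.Normal] (hQ : IsPGroup p Q) (hidx : Q.index.Coprime p) :
    Cfsg.principalBlock M X =
      {χ : Cfsg.IrrCharacter X | ∀ n ∈ Cfsg.pPrimeCore p X, (χ : X → ℂ) n = (χ : X → ℂ) 1} :=
  principalBlock_eq_of_isPSolvable p hM (pl1_isPSolvable_of_normal_sylow Q hQ hidx)

end Cfsg.Agent.Helper6
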