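import Mathlib
import Cfsg.Prelude.Def_Characters
import Cfsg.Prelude.Def_Blocks
import Cfsg.Prelude.Def_Local
import Cfsg.Agent.Helper6.Pl1A
import Cfsg.Agent.Helper6.Pl1B
import Cfsg.Agent.Helper6.BlockKernel
import Cfsg.Agent.Helper6.PrincipalDefect
import Cfsg.Agent.S0919

/-!
# Restriction from the principal block to the Sylow normalizer

If every member of the principal block of `G` restricts irreducibly to `N = N_G(P)`, `P` a Sylow
`p`-subgroup, then restriction is a bijection from the principal block of `G` onto the principal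
block of `N`.
-/

set_option autoImplicit false
set_option linter.style.haveILetI false

namespace Cfsg.Agent.Helper6

open scoped ComplexConjugate

universe u

variable {G : Type u} [Group G] {M : Ideal Cfsg.AlgInt}

/-- the Sylow subgroup inside its normalizer -/
theorem pl1_sylow_in_normalizer [Finite G] {p : ℕ} [hp : Fact p.Prime] (P : Sylow p G)
    (N : Subgroup G) (hN : N = Subgroup.normalizer ((P : Subgroup G) : Set G)) :
    ((P : Subgroup G).subgroupOf N).Normal ∧ IsPGroup p ((P : Subgroup G).subgroupOf N) ∧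
      ((P : Subgroup G).subgroupOf N).index.Coprime p := by
  subst hN
  refine ⟨Subgroup.normal_in_normalizer, P.2.comap_subtype, ?_⟩
  have h1 : ((P : Subgroup G).subgroupOf (Subgroup.normalizer ((P : Subgroup G) : Set G))).index ∣
      (P : Subgroup G).index := by
    have := Subgroup.relIndex_mul_index (Subgroup.le_normalizer (H := (P : Subgroup G)))
    exact Dvd.intro _ this
  have h2 : ¬ p ∣ (P : Subgroup G).index := P.not_dvd_index
  rw [Nat.coprime_comm, Nat.Prime.coprime_iff_not_dvd hp.out]
  exact fun h => h2 (dvd_trans h h1)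

/-- an irreducible character that is trivial on the normalizer of a Sylow subgroup is trivial -/
theorem pl1_eq_one_of_res_eq_one [Finite G] {p : ℕ} [hp : Fact p.Prime] (P : Sylow p G)
    (N : Subgroup G) (hN : N = Subgroup.normalizer ((P : Subgroup G) : Set G))
    (χ : Cfsg.IrrCharacter G) (h1 : ∀ n ∈ N, (χ : G → ℂ) n = 1) (g : G) :
    (χ : G → ℂ) g = 1 := by
  subst hN
  have hone : (χ : G → ℂ) 1 = 1 := h1 1 (Subgroup.one_mem _)
  haveI := kerSub_normal χ
  have hNle : Subgroup.normalizer ((P : Subgroup G) : Set G) ≤ kerSub χ := by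
    intro n hn
    rw [mem_kerSub, h1 n hn, hone]
  have hPle : (P : Subgroup G) ≤ kerSub χ := le_trans Subgroup.le_normalizer hNle
  have h2 := Sylow.normalizer_sup_eq_top' P hPle
  have h3 : kerSub χ = ⊤ := by
    rw [eq_top_iff, ← h2]
    exact sup_le hNle le_rfl
  have h4 : g ∈ kerSub χ := by rw [h3]; exact Subgroup.mem_top g
  rw [mem_kerSub] at h4
  rw [h4, hone]

/-- the multiplicity of the trivial character of the normalizer is one -/
theorem pl1_mult_one [Finite G] {p : ℕ} [hp : Fact p.Prime] (hM : Cfsg.IsPModular p M)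
    (P : Sylow p G) (N : Subgroup G) (hN : N = Subgroup.normalizer ((P : Subgroup G) : Set G)) :
    pl1Mult N (Cfsg.principalBlock M G) ((trivIrr N : Cfsg.IrrCharacter N) : N → ℂ) = 1 := by
  unfold pl1Mult
  have hset : {χ : Cfsg.IrrCharacter G | χ ∈ Cfsg.principalBlock M G ∧
      (fun h : N => (χ : G → ℂ) h) = ((trivIrr N : Cfsg.IrrCharacter N) : N → ℂ)} =
      {trivIrr G} := by
    ext χ
    simp only [Set.mem_ofPred_eq, Set.mem_singleton_iff]
    constructor
    · rintro ⟨-, h2⟩
      apply Subtype.ext
      funext g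
      apply pl1_eq_one_of_res_eq_one P N hN χ
      intro n hn
      exact congrFun h2 ⟨n, hn⟩
    · rintro rfl
      refine ⟨?_, rfl⟩
      rw [principalBlock_eq]
      exact mem_blockOf_self hM.2.1 _
  rw [hset, Set.ncard_singleton]

/-- a member of the principal block of degree prime to `p` with irreducible restriction to the
Sylow normalizer restricts into the principal block -/
theorem pl1_res_mem_principal_of_not_dvd [Finite G] {p : ℕ} [hp : Fact p.Prime]
    (hM : Cfsg.IsPModular p M) (P : Sylow p G) (N : Subgroup G)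
    (hN : N = Subgroup.normalizer ((P : Subgroup G) : Set G)) (χ : Cfsg.IrrCharacter G)
    (hχ : χ ∈ Cfsg.principalBlock M G)
    (hres : Cfsg.IsIrrCharacter N (fun n : N => (χ : G → ℂ) n))
    (hdeg : ¬ p ∣ Cfsg.charDegree (χ : G → ℂ)) :
    (⟨fun n : N => (χ : G → ℂ) n, hres⟩ : Cfsg.IrrCharacter N) ∈ Cfsg.principalBlock M N := by
  classical
  haveI := Fintype.ofFinite G
  haveI : Fintype N := Fintype.ofFinite _
  have hMm := hM.2.1
  set e : Set (Cfsg.IrrCharacter N) := Cfsg.blockOf M (fun n : N => (χ : G → ℂ) n) with he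
  have hdef : Cfsg.InducedBlockDefined M N e := by
    apply Cfsg.Agent.S0919.result p M hM (P : Subgroup G) N P.2
    · rw [hN]; exact Subgroup.le_normalizer
    · rw [hN]; exact Subgroup.centralizer_le_normalizer _
    · rw [hN]
    · exact ⟨⟨fun n : N => (χ : G → ℂ) n, hres⟩, rfl⟩
  have hdeg' : ¬ p ∣ Cfsg.charDegree (fun n : N => (χ : G → ℂ) n) := hdeg
  have h1 := (third_main_general hM N χ hres (pl1_blockHeight_eq_zero p _ _ hdeg)
    (pl1_blockHeight_eq_zero p _ _ hdeg') e hdef).mpr rfl
  have h2 : Cfsg.blockOf M (χ : G → ℂ) = Cfsg.principalBlock M G :=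
    (eq_blockOf_of_mem hMm _ (isPBlock_principalBlock G) χ hχ).symm
  rw [h2] at h1
  have h3 := (third_main hM N e hdef).mp h1
  rw [← h3, he]
  exact mem_blockOf_self hMm ⟨fun n : N => (χ : G → ℂ) n, hres⟩

end Cfsg.Agent.Helper6
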