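import Mathlib
import Cfsg.Prelude.Def_Characters
import Cfsg.Prelude.Def_Blocks
import Cfsg.Prelude.Def_Local
import Cfsg.Agent.Helper6.Pl1C

/-!
# Restriction from the principal block to the Sylow normalizer is a bijection
-/

set_option autoImplicit false
set_option linter.style.haveILetI false

namespace Cfsg.Agent.Helper6

open scoped ComplexConjugate

universe u

variable {G : Type u} [Group G] {M : Ideal Cfsg.AlgInt}

/-- an irreducible character of the Sylow normalizer of positive multiplicity lies in the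
principal block -/
theorem pl1_mem_principal_of_mult_ne_zero [Finite G] {p : ℕ} [hp : Fact p.Prime]
    (hM : Cfsg.IsPModular p M) (P : Sylow p G) (N : Subgroup G)
    (hN : N = Subgroup.normalizer ((P : Subgroup G) : Set G))
    (hH : ∀ χ ∈ Cfsg.principalBlock M G,
      Cfsg.IsIrrCharacter N (fun n : N => (χ : G → ℂ) n))
    (θ : Cfsg.IrrCharacter N) (hθ : pl1Mult N (Cfsg.principalBlock M G) (θ : N → ℂ) ≠ 0) :
    θ ∈ Cfsg.principalBlock M N := by
  classical
  haveI := Fintype.ofFinite G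
  haveI : Fintype N := Fintype.ofFinite _
  have hMm := hM.2.1
  obtain ⟨hQn, hQ, hidx⟩ := pl1_sylow_in_normalizer P N hN
  haveI := hQn
  set b : Set (Cfsg.IrrCharacter N) := Cfsg.blockOf M (θ : N → ℂ) with hb
  have hbB : Cfsg.IsPBlock M b := ⟨θ, rfl⟩
  have hθb : θ ∈ b := mem_blockOf_self hMm θ
  obtain ⟨θ₁, hθ₁b, -, hdeg, hht⟩ :=
    pl1_exists_height_zero hM ((P : Subgroup G).subgroupOf N) hQ hidx b hbB
  have hne := pl1_sum_pregular_ne_zero hM b hbB θ₁ hθ₁b hht θ hθb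
  have hmult := pl1_mult_eq hMm p hM.2.2 N (Cfsg.principalBlock M G)
    (isPBlock_principalBlock G) hH θ₁ θ hne
  rw [← hmult] at hθ
  unfold pl1Mult at hθ
  obtain ⟨χ₁, hχ₁B, hχ₁res⟩ := Set.nonempty_of_ncard_ne_zero hθ
  have hdeg1 : ¬ p ∣ Cfsg.charDegree (χ₁ : G → ℂ) := by
    have : Cfsg.charDegree (χ₁ : G → ℂ) = Cfsg.charDegree (θ₁ : N → ℂ) := by
      unfold Cfsg.charDegree
      rw [← hχ₁res]
      rfl
    rw [this]
    exact hdeg
  have h1 := pl1_res_mem_principal_of_not_dvd hM P N hN χ₁ hχ₁B (hH χ₁ hχ₁B) hdeg1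
  have h2 : (⟨fun n : N => (χ₁ : G → ℂ) n, hH χ₁ hχ₁B⟩ : Cfsg.IrrCharacter N) = θ₁ :=
    Subtype.ext hχ₁res
  rw [h2] at h1
  -- `θ₁` lies in the principal block and in the block of `θ`
  have h3 : Cfsg.SameBlock M (fun _ : N => (1 : ℂ)) (θ₁ : N → ℂ) := h1
  have h4 : Cfsg.SameBlock M (θ : N → ℂ) (θ₁ : N → ℂ) := hθ₁b
  exact sameBlock_trans hMm h3 (sameBlock_symm h4)

/-- members of the principal block of the Sylow normalizer have multiplicity one -/
theorem pl1_mult_eq_one [Finite G] {p : ℕ} [hp : Fact p.Prime]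
    (hM : Cfsg.IsPModular p M) (P : Sylow p G) (N : Subgroup G)
    (hN : N = Subgroup.normalizer ((P : Subgroup G) : Set G))
    (hH : ∀ χ ∈ Cfsg.principalBlock M G,
      Cfsg.IsIrrCharacter N (fun n : N => (χ : G → ℂ) n))
    (θ : Cfsg.IrrCharacter N) (hθ : θ ∈ Cfsg.principalBlock M N) :
    pl1Mult N (Cfsg.principalBlock M G) (θ : N → ℂ) = 1 := by
  classical
  haveI := Fintype.ofFinite G
  haveI : Fintype N := Fintype.ofFinite _
  have hMm := hM.2.1
  have h1 : trivIrr N ∈ Cfsg.principalBlock M N := by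
    rw [principalBlock_eq]
    exact mem_blockOf_self hMm _
  have hne := pl1_sum_pregular_ne_zero hM (Cfsg.principalBlock M N) (isPBlock_principalBlock N)
    (trivIrr N) h1 (blockHeight_one_eq_zero p _) θ hθ
  have hmult := pl1_mult_eq hMm p hM.2.2 N (Cfsg.principalBlock M G)
    (isPBlock_principalBlock G) hH (trivIrr N) θ hne
  rw [← hmult]
  exact pl1_mult_one hM P N hN

/-- **restriction is a bijection between the principal blocks** -/
theorem pl1_restriction_bijective [Finite G] {p : ℕ} [hp : Fact p.Prime]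
    (hM : Cfsg.IsPModular p M) (P : Sylow p G) (N : Subgroup G)
    (hN : N = Subgroup.normalizer ((P : Subgroup G) : Set G))
    (hH : ∀ χ ∈ Cfsg.principalBlock M G,
      Cfsg.IsIrrCharacter N (fun n : N => (χ : G → ℂ) n)) :
    (∀ (χ : Cfsg.IrrCharacter G) (hχ : χ ∈ Cfsg.principalBlock M G),
      (⟨fun n : N => (χ : G → ℂ) n, hH χ hχ⟩ : Cfsg.IrrCharacter N) ∈
        Cfsg.principalBlock M N) ∧
    (∀ χ ∈ Cfsg.principalBlock M G, ∀ χ' ∈ Cfsg.principalBlock M G,
      (fun n : N => (χ : G → ℂ) n) = (fun n : N => (χ' : G → ℂ) n) → χ = χ') ∧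
    (∀ θ ∈ Cfsg.principalBlock M N, ∃ χ ∈ Cfsg.principalBlock M G,
      (fun n : N => (χ : G → ℂ) n) = (θ : N → ℂ)) := by
  classical
  haveI : Finite (Cfsg.IrrCharacter G) := irr_finite
  have hII : ∀ (χ : Cfsg.IrrCharacter G) (hχ : χ ∈ Cfsg.principalBlock M G),
      (⟨fun n : N => (χ : G → ℂ) n, hH χ hχ⟩ : Cfsg.IrrCharacter N) ∈
        Cfsg.principalBlock M N := by
    intro χ hχ
    apply pl1_mem_principal_of_mult_ne_zero hM P N hN hH
    unfold pl1Mult
    apply Set.ncard_ne_zero_of_mem (a := χ) _ (Set.toFinite _)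
    exact ⟨hχ, rfl⟩
  refine ⟨hII, ?_, ?_⟩
  · intro χ hχ χ' hχ' heq
    have h1 := pl1_mult_eq_one hM P N hN hH _ (hII χ hχ)
    unfold pl1Mult at h1
    obtain ⟨a, ha⟩ := Set.ncard_eq_one.mp h1
    have h2 : χ ∈ ({a} : Set (Cfsg.IrrCharacter G)) := by
      rw [← ha]
      exact ⟨hχ, rfl⟩
    have h3 : χ' ∈ ({a} : Set (Cfsg.IrrCharacter G)) := by
      rw [← ha]
      exact ⟨hχ', heq.symm⟩
    rw [Set.mem_singleton_iff] at h2 h3
    rw [h2, h3]
  · intro θ hθ
    have h1 := pl1_mult_eq_one hM P N hN hH θ hθ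
    unfold pl1Mult at h1
    have h2 : Set.ncard {χ : Cfsg.IrrCharacter G | χ ∈ Cfsg.principalBlock M G ∧
        (fun h : N => (χ : G → ℂ) h) = (θ : N → ℂ)} ≠ 0 := by
      rw [h1]; exact one_ne_zero
    obtain ⟨χ, hχB, hχres⟩ := Set.nonempty_of_ncard_ne_zero h2
    exact ⟨χ, hχB, hχres⟩

end Cfsg.Agent.Helper6
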