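import Mathlib
import Cfsg.Prelude.Def_Characters
import Cfsg.Prelude.Def_Blocks
import Cfsg.Agent.Helper6.BlockOrth

/-!
# `p`-regular inner products and injective irreducible restriction

If the members of a block `B` of `G` restrict irreducibly and injectively to a subgroup `H`, then
the inner products on `p`-regular elements of two members of `B` can be computed inside `H`.
-/

set_option autoImplicit false
set_option linter.style.haveILetI false

namespace Cfsg.Agent.Helper6

open scoped ComplexConjugate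

universe u

variable {G : Type u} [Group G] {M : Ideal Cfsg.AlgInt}

/-- the `p`-regular truncation of a member of a block expanded inside the block -/
theorem pl1_trunc_expansion [Fintype G] [Fintype (Cfsg.IrrCharacter G)] (hM : M.IsMaximal)
    (p : ℕ) [hp : Fact p.Prime] (hpM : (p : Cfsg.AlgInt) ∈ M) (B : Set (Cfsg.IrrCharacter G))
    [DecidablePred (· ∈ B)] (hB : Cfsg.IsPBlock M B) (ξ : Cfsg.IrrCharacter G) (hξ : ξ ∈ B)
    (x : G) :
    (if p ∣ orderOf x then (0 : ℂ) else (ξ : G → ℂ) x) =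
      ∑ χ : Cfsg.IrrCharacter G, (if χ ∈ B then
        ((Nat.card G : ℂ)⁻¹ * ∑ g : G, (if p ∣ orderOf g then (0 : ℂ) else
          (ξ : G → ℂ) g * conj ((χ : G → ℂ) g))) * (χ : G → ℂ) x else 0) := by
  have hG0 : (Nat.card G : ℂ) ≠ 0 := by
    have : 0 < Nat.card G := Nat.card_pos
    exact_mod_cast this.ne'
  have h1 : ∑ χ : Cfsg.IrrCharacter G, (if χ ∈ B then
        ((Nat.card G : ℂ)⁻¹ * ∑ g : G, (if p ∣ orderOf g then (0 : ℂ) else
          (ξ : G → ℂ) g * conj ((χ : G → ℂ) g))) * (χ : G → ℂ) x else 0) =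
      (Nat.card G : ℂ)⁻¹ * ∑ g : G, (if p ∣ orderOf g then (0 : ℂ) else
        (ξ : G → ℂ) g * blockKernelFun B x g) := by
    have h2 : ∀ g : G, (if p ∣ orderOf g then (0 : ℂ) else
        (ξ : G → ℂ) g * blockKernelFun B x g) =
        ∑ χ : Cfsg.IrrCharacter G, (if χ ∈ B then
          (if p ∣ orderOf g then (0 : ℂ) else (ξ : G → ℂ) g * conj ((χ : G → ℂ) g)) *
            (χ : G → ℂ) x else 0) := by
      intro g
      by_cases hg : p ∣ orderOf g
      · simp only [if_pos hg, zero_mul, ite_self, Finset.sum_const_zero]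
      · simp only [if_neg hg]
        unfold blockKernelFun
        rw [Finset.mul_sum]
        apply Finset.sum_congr rfl
        intro χ _
        split_ifs
        · ring
        · rw [mul_zero]
    simp_rw [h2]
    rw [Finset.sum_comm, Finset.mul_sum]
    apply Finset.sum_congr rfl
    intro χ _
    by_cases hχ : χ ∈ B
    · simp only [if_pos hχ]
      rw [mul_assoc, Finset.sum_mul]
    · simp only [if_neg hχ, Finset.sum_const_zero, mul_zero]
  rw [h1]
  by_cases hx : p ∣ orderOf x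
  · rw [if_pos hx]
    have h3 : ∀ g : G, (if p ∣ orderOf g then (0 : ℂ) else
        (ξ : G → ℂ) g * blockKernelFun B x g) = 0 := by
      intro g
      by_cases hg : p ∣ orderOf g
      · rw [if_pos hg]
      · rw [if_neg hg, blockKernelFun_eq_zero hM p hpM B hB x g (Or.inl ⟨hx, hg⟩), mul_zero]
    simp_rw [h3]
    rw [Finset.sum_const_zero, mul_zero]
  · rw [if_neg hx]
    have h3 : ∀ g : G, (if p ∣ orderOf g then (0 : ℂ) else
        (ξ : G → ℂ) g * blockKernelFun B x g) = (ξ : G → ℂ) g * blockKernelFun B x g := by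
      intro g
      by_cases hg : p ∣ orderOf g
      · rw [if_pos hg, blockKernelFun_eq_zero hM p hpM B hB x g (Or.inr ⟨hx, hg⟩), mul_zero]
      · rw [if_neg hg]
    simp_rw [h3]
    rw [sum_mul_blockKernelFun B ξ hξ x, ← mul_assoc, inv_mul_cancel₀ hG0, one_mul]

/-- **`p`-regular inner products can be computed in the subgroup** -/
theorem pl1_pregular_inner_restrict [Fintype G] (hM : M.IsMaximal) (p : ℕ) [hp : Fact p.Prime]
    (hpM : (p : Cfsg.AlgInt) ∈ M) (H : Subgroup G) [Fintype H]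
    (B : Set (Cfsg.IrrCharacter G)) (hB : Cfsg.IsPBlock M B)
    (hres : ∀ χ ∈ B, Cfsg.IsIrrCharacter H (fun h : H => (χ : G → ℂ) h))
    (hinj : ∀ χ ∈ B, ∀ χ' ∈ B,
      (fun h : H => (χ : G → ℂ) h) = (fun h : H => (χ' : G → ℂ) h) → χ = χ')
    (ξ χ' : Cfsg.IrrCharacter G) (hξ : ξ ∈ B) (hχ' : χ' ∈ B) :
    (Nat.card H : ℂ)⁻¹ * ∑ n : H, (if p ∣ orderOf n then (0 : ℂ) else
        (ξ : G → ℂ) n * conj ((χ' : G → ℂ) n)) =
      (Nat.card G : ℂ)⁻¹ * ∑ g : G, (if p ∣ orderOf g then (0 : ℂ) else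
        (ξ : G → ℂ) g * conj ((χ' : G → ℂ) g)) := by
  classical
  haveI : Finite (Cfsg.IrrCharacter G) := irr_finite
  haveI : Fintype (Cfsg.IrrCharacter G) := Fintype.ofFinite _
  have hord : ∀ x : H, orderOf (x : G) = orderOf x := fun x => Subgroup.orderOf_coe x
  set C : Cfsg.IrrCharacter G → ℂ := fun χ =>
    (Nat.card G : ℂ)⁻¹ * ∑ g : G, (if p ∣ orderOf g then (0 : ℂ) else
      (ξ : G → ℂ) g * conj ((χ : G → ℂ) g)) with hC
  have hexp : ∀ n : H, (if p ∣ orderOf n then (0 : ℂ) else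
      (ξ : G → ℂ) n * conj ((χ' : G → ℂ) n)) =
      ∑ χ : Cfsg.IrrCharacter G, (if χ ∈ B then
        C χ * ((χ : G → ℂ) n * conj ((χ' : G → ℂ) n)) else 0) := by
    intro n
    have h1 := pl1_trunc_expansion hM p hpM B hB ξ hξ (n : G)
    rw [hord] at h1
    have h2 : (if p ∣ orderOf n then (0 : ℂ) else
        (ξ : G → ℂ) n * conj ((χ' : G → ℂ) n)) =
        (if p ∣ orderOf n then (0 : ℂ) else (ξ : G → ℂ) n) * conj ((χ' : G → ℂ) n) := by
      split_ifs
      · rw [zero_mul]
      · rfl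
    rw [h2, h1, Finset.sum_mul]
    apply Finset.sum_congr rfl
    intro χ _
    split_ifs
    · rw [mul_assoc]
    · rw [zero_mul]
  simp_rw [hexp]
  rw [Finset.sum_comm, Finset.mul_sum]
  have hterm : ∀ χ : Cfsg.IrrCharacter G,
      (Nat.card H : ℂ)⁻¹ * ∑ n : H, (if χ ∈ B then
        C χ * ((χ : G → ℂ) n * conj ((χ' : G → ℂ) n)) else 0) =
      if χ = χ' then C χ' else 0 := by
    intro χ
    by_cases hχ : χ ∈ B
    · simp only [if_pos hχ]
      rw [← Finset.mul_sum, mul_left_comm]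
      have h3 : (Nat.card H : ℂ)⁻¹ * ∑ n : H, (χ : G → ℂ) n * conj ((χ' : G → ℂ) n) =
          Cfsg.classInner (fun h : H => (χ : G → ℂ) h) (fun h : H => (χ' : G → ℂ) h) := by
        rw [classInner_def]
      rw [h3]
      by_cases heq : χ = χ'
      · rw [if_pos heq, heq, classInner_irr_self (hres χ' hχ'), mul_one]
      · rw [if_neg heq, classInner_irr_ne (hres χ hχ) (hres χ' hχ')
          (fun h => heq (hinj χ hχ χ' hχ' h)), mul_zero]
    · simp only [if_neg hχ, Finset.sum_const_zero, mul_zero]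
      rw [if_neg]
      rintro rfl
      exact hχ hχ'
  simp_rw [hterm]
  rw [Finset.sum_ite_eq' Finset.univ χ' (fun _ => C χ'), if_pos (Finset.mem_univ _)]

end Cfsg.Agent.Helper6
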