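import Mathlib
import Cfsg.Prelude.Def_Characters
import Cfsg.Prelude.Def_Blocks
import Cfsg.Agent.Helper6.Pl1E
import Cfsg.Agent.Helper6.NormalInd2
import Cfsg.Agent.Helper6.PrincipalDefect

/-!
# The positivity argument

An abstract form of the last step of the Isaacs--Smith theorem: if a weighted sum of members of a
block is a multiple of the indicator function of a subgroup `Y` of `H` and of a subgroup `L` of
`G`, and the `p`-regular elements of `Y` lie in the kernel of the block, then so do the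
`p`-regular elements of `L`.
-/

set_option autoImplicit false
set_option linter.style.haveILetI false

namespace Cfsg.Agent.Helper6

open scoped ComplexConjugate

universe u

variable {G : Type u} [Group G] {M : Ideal Cfsg.AlgInt}

/-- a complex number of norm at most `r` with real part `r` is `r` -/
theorem pl1_eq_of_norm_le_of_re_eq (z : ℂ) (r : ℝ) (h1 : ‖z‖ ≤ r) (h2 : z.re = r) :
    z = (r : ℂ) := by
  have h0 : 0 ≤ r := le_trans (norm_nonneg z) h1
  have h3 : ‖z‖ ^ 2 ≤ r ^ 2 := by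
    apply pow_le_pow_left₀ (norm_nonneg z) h1
  rw [Complex.sq_norm, Complex.normSq_apply, h2] at h3
  have h4 : z.im * z.im ≤ 0 := by nlinarith
  have h5 : z.im = 0 := by
    have : 0 ≤ z.im * z.im := mul_self_nonneg _
    have h6 : z.im * z.im = 0 := le_antisymm h4 this
    exact mul_self_eq_zero.mp h6
  apply Complex.ext
  · rw [h2, Complex.ofReal_re]
  · rw [h5, Complex.ofReal_im]

/-- the equation obtained from comparing `p`-regular inner products -/
theorem pl1_key_equation [Fintype G] [Fintype (Cfsg.IrrCharacter G)] (hM : M.IsMaximal) (p : ℕ)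
    [hp : Fact p.Prime] (hpM : (p : Cfsg.AlgInt) ∈ M) (H : Subgroup G) [Fintype H]
    (B : Set (Cfsg.IrrCharacter G)) (hB : Cfsg.IsPBlock M B)
    (hres : ∀ χ ∈ B, Cfsg.IsIrrCharacter H (fun h : H => (χ : G → ℂ) h))
    (hinj : ∀ χ ∈ B, ∀ χ' ∈ B,
      (fun h : H => (χ : G → ℂ) h) = (fun h : H => (χ' : G → ℂ) h) → χ = χ')
    (R : Set (Cfsg.IrrCharacter G)) [DecidablePred (· ∈ R)] (hRB : R ⊆ B)
    (L : Subgroup G) [DecidablePred (· ∈ L)] (Y : Subgroup H) [DecidablePred (· ∈ Y)]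
    (c : ℂ) (hc : c ≠ 0)
    (h1 : ∀ n : H, ∑ ξ : Cfsg.IrrCharacter G,
      (if ξ ∈ R then (ξ : G → ℂ) 1 * (ξ : G → ℂ) n else 0) = if n ∈ Y then c else 0)
    (h2 : ∀ g : G, ∑ ξ : Cfsg.IrrCharacter G,
      (if ξ ∈ R then (ξ : G → ℂ) 1 * (ξ : G → ℂ) g else 0) = if g ∈ L then c else 0)
    (χ' : Cfsg.IrrCharacter G) (hχ' : χ' ∈ B)
    (h3 : ∀ n : H, n ∈ Y → ¬ p ∣ orderOf n → (χ' : G → ℂ) n = (χ' : G → ℂ) 1) :
    (Nat.card H : ℂ)⁻¹ * ((∑ n : H, (if ¬ p ∣ orderOf n ∧ n ∈ Y then (1 : ℂ) else 0)) *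
        conj ((χ' : G → ℂ) 1)) =
      (Nat.card G : ℂ)⁻¹ * ∑ g : G, (if ¬ p ∣ orderOf g ∧ g ∈ L then
        conj ((χ' : G → ℂ) g) else 0) := by
  classical
  have hmain : ∑ ξ : Cfsg.IrrCharacter G, (if ξ ∈ R then (ξ : G → ℂ) 1 *
      ((Nat.card H : ℂ)⁻¹ * ∑ n : H, (if p ∣ orderOf n then (0 : ℂ) else
        (ξ : G → ℂ) n * conj ((χ' : G → ℂ) n))) else 0) =
      ∑ ξ : Cfsg.IrrCharacter G, (if ξ ∈ R then (ξ : G → ℂ) 1 *
      ((Nat.card G : ℂ)⁻¹ * ∑ g : G, (if p ∣ orderOf g then (0 : ℂ) else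
        (ξ : G → ℂ) g * conj ((χ' : G → ℂ) g))) else 0) := by
    apply Finset.sum_congr rfl
    intro ξ _
    by_cases hξ : ξ ∈ R
    · rw [if_pos hξ, if_pos hξ,
        pl1_pregular_inner_restrict hM p hpM H B hB hres hinj ξ χ' (hRB hξ) hχ']
    · rw [if_neg hξ, if_neg hξ]
  have hL : ∑ ξ : Cfsg.IrrCharacter G, (if ξ ∈ R then (ξ : G → ℂ) 1 *
      ((Nat.card H : ℂ)⁻¹ * ∑ n : H, (if p ∣ orderOf n then (0 : ℂ) else
        (ξ : G → ℂ) n * conj ((χ' : G → ℂ) n))) else 0) =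
      c * ((Nat.card H : ℂ)⁻¹ * ((∑ n : H, (if ¬ p ∣ orderOf n ∧ n ∈ Y then (1 : ℂ) else 0)) *
        conj ((χ' : G → ℂ) 1))) := by
    have e1 : ∀ ξ : Cfsg.IrrCharacter G, (if ξ ∈ R then (ξ : G → ℂ) 1 *
        ((Nat.card H : ℂ)⁻¹ * ∑ n : H, (if p ∣ orderOf n then (0 : ℂ) else
          (ξ : G → ℂ) n * conj ((χ' : G → ℂ) n))) else 0) =
        (Nat.card H : ℂ)⁻¹ * ∑ n : H, (if p ∣ orderOf n then (0 : ℂ) else
          (if ξ ∈ R then (ξ : G → ℂ) 1 * (ξ : G → ℂ) n else 0) * conj ((χ' : G → ℂ) n)) := by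
      intro ξ
      by_cases hξ : ξ ∈ R
      · simp only [if_pos hξ]
        rw [mul_left_comm, Finset.mul_sum]
        congr 1
        apply Finset.sum_congr rfl
        intro n _
        split_ifs
        · rw [mul_zero]
        · rw [mul_assoc]
      · simp only [if_neg hξ, zero_mul, ite_self, Finset.sum_const_zero, mul_zero]
    simp_rw [e1]
    rw [← Finset.mul_sum, Finset.sum_comm]
    have e2 : ∀ n : H, ∑ ξ : Cfsg.IrrCharacter G, (if p ∣ orderOf n then (0 : ℂ) else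
        (if ξ ∈ R then (ξ : G → ℂ) 1 * (ξ : G → ℂ) n else 0) * conj ((χ' : G → ℂ) n)) =
        c * ((if ¬ p ∣ orderOf n ∧ n ∈ Y then (1 : ℂ) else 0) * conj ((χ' : G → ℂ) 1)) := by
      intro n
      by_cases hn : p ∣ orderOf n
      · simp only [if_pos hn, Finset.sum_const_zero]
        rw [if_neg (fun h => h.1 hn), zero_mul, mul_zero]
      · simp only [if_neg hn]
        rw [← Finset.sum_mul, h1 n]
        by_cases hnY : n ∈ Y
        · rw [if_pos hnY, if_pos ⟨hn, hnY⟩, one_mul, h3 n hnY hn]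
        · rw [if_neg hnY, if_neg (fun h => hnY h.2), zero_mul, zero_mul, mul_zero]
    simp_rw [e2]
    rw [← Finset.mul_sum, ← Finset.sum_mul]
    ring
  have hR : ∑ ξ : Cfsg.IrrCharacter G, (if ξ ∈ R then (ξ : G → ℂ) 1 *
      ((Nat.card G : ℂ)⁻¹ * ∑ g : G, (if p ∣ orderOf g then (0 : ℂ) else
        (ξ : G → ℂ) g * conj ((χ' : G → ℂ) g))) else 0) =
      c * ((Nat.card G : ℂ)⁻¹ * ∑ g : G, (if ¬ p ∣ orderOf g ∧ g ∈ L then
        conj ((χ' : G → ℂ) g) else 0)) := by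
    have e1 : ∀ ξ : Cfsg.IrrCharacter G, (if ξ ∈ R then (ξ : G → ℂ) 1 *
        ((Nat.card G : ℂ)⁻¹ * ∑ g : G, (if p ∣ orderOf g then (0 : ℂ) else
          (ξ : G → ℂ) g * conj ((χ' : G → ℂ) g))) else 0) =
        (Nat.card G : ℂ)⁻¹ * ∑ g : G, (if p ∣ orderOf g then (0 : ℂ) else
          (if ξ ∈ R then (ξ : G → ℂ) 1 * (ξ : G → ℂ) g else 0) * conj ((χ' : G → ℂ) g)) := by
      intro ξ
      by_cases hξ : ξ ∈ R
      · simp only [if_pos hξ]
        rw [mul_left_comm, Finset.mul_sum]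
        congr 1
        apply Finset.sum_congr rfl
        intro n _
        split_ifs
        · rw [mul_zero]
        · rw [mul_assoc]
      · simp only [if_neg hξ, zero_mul, ite_self, Finset.sum_const_zero, mul_zero]
    simp_rw [e1]
    rw [← Finset.mul_sum, Finset.sum_comm]
    have e2 : ∀ g : G, ∑ ξ : Cfsg.IrrCharacter G, (if p ∣ orderOf g then (0 : ℂ) else
        (if ξ ∈ R then (ξ : G → ℂ) 1 * (ξ : G → ℂ) g else 0) * conj ((χ' : G → ℂ) g)) =
        c * (if ¬ p ∣ orderOf g ∧ g ∈ L then conj ((χ' : G → ℂ) g) else 0) := by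
      intro g
      by_cases hg : p ∣ orderOf g
      · simp only [if_pos hg, Finset.sum_const_zero]
        rw [if_neg (fun h => h.1 hg), mul_zero]
      · simp only [if_neg hg]
        rw [← Finset.sum_mul, h2 g]
        by_cases hgL : g ∈ L
        · rw [if_pos hgL, if_pos ⟨hg, hgL⟩]
        · rw [if_neg hgL, if_neg (fun h => hgL h.2), zero_mul, mul_zero]
    simp_rw [e2]
    rw [← Finset.mul_sum]
    ring
  rw [hL, hR] at hmain
  exact mul_left_cancel₀ hc hmain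

end Cfsg.Agent.Helper6
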