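import Mathlib
import Cfsg.Prelude.Def_Characters
import Cfsg.Prelude.Def_Blocks
import Cfsg.Agent.Helper6.Pl1F

/-!
# The positivity argument, conclusion
-/

set_option autoImplicit false
set_option linter.style.haveILetI false

namespace Cfsg.Agent.Helper6

open scoped ComplexConjugate

universe u

variable {G : Type u} [Group G] {M : Ideal Cfsg.AlgInt}

/-- **the `p`-regular elements of `L` lie in the kernel of the block** -/
theorem pl1_pregular_mem_ker [Fintype G] [Fintype (Cfsg.IrrCharacter G)] (hM : M.IsMaximal)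
    (p : ℕ) [hp : Fact p.Prime] (hpM : (p : Cfsg.AlgInt) ∈ M) (H : Subgroup G) [Fintype H]
    (B : Set (Cfsg.IrrCharacter G)) (hB : Cfsg.IsPBlock M B)
    (hres : ∀ χ ∈ B, Cfsg.IsIrrCharacter H (fun h : H => (χ : G → ℂ) h))
    (hinj : ∀ χ ∈ B, ∀ χ' ∈ B,
      (fun h : H => (χ : G → ℂ) h) = (fun h : H => (χ' : G → ℂ) h) → χ = χ')
    (R : Set (Cfsg.IrrCharacter G)) [DecidablePred (· ∈ R)] (hRB : R ⊆ B)
    (L : Subgroup G) [DecidablePred (· ∈ L)] (Y : Subgroup H) [DecidablePred (· ∈ Y)]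
    (c : ℂ) (hc : c ≠ 0)
    (h1 : ∀ n : H, ∑ ξ : Cfsg.IrrCharacter G,
      (if ξ ∈ R then (ξ : G → ℂ) 1 * (ξ : G → ℂ) n else 0) = if n ∈ Y then c else 0)
    (h2 : ∀ g : G, ∑ ξ : Cfsg.IrrCharacter G,
      (if ξ ∈ R then (ξ : G → ℂ) 1 * (ξ : G → ℂ) g else 0) = if g ∈ L then c else 0)
    (h3 : ∀ χ' ∈ B, ∀ n : H, n ∈ Y → ¬ p ∣ orderOf n → (χ' : G → ℂ) n = (χ' : G → ℂ) 1)
    (h4 : trivIrr G ∈ B)
    (χ' : Cfsg.IrrCharacter G) (hχ' : χ' ∈ B) (g : G) (hgL : g ∈ L) (hg : ¬ p ∣ orderOf g) :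
    (χ' : G → ℂ) g = (χ' : G → ℂ) 1 := by
  classical
  have hG0 : (Nat.card G : ℂ) ≠ 0 := by
    have : 0 < Nat.card G := Nat.card_pos
    exact_mod_cast this.ne'
  have E1 := pl1_key_equation hM p hpM H B hB hres hinj R hRB L Y c hc h1 h2 (trivIrr G) h4
    (fun n hn hp' => h3 _ h4 n hn hp')
  have Eχ := pl1_key_equation hM p hpM H B hB hres hinj R hRB L Y c hc h1 h2 χ' hχ'
    (fun n hn hp' => h3 _ hχ' n hn hp')
  have htriv : ∀ x : G, ((trivIrr G : Cfsg.IrrCharacter G) : G → ℂ) x = 1 := fun _ => rfl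
  simp only [htriv, map_one, mul_one] at E1
  -- substitute
  have h5 : (Nat.card G : ℂ)⁻¹ * ((∑ g : G, (if ¬ p ∣ orderOf g ∧ g ∈ L then (1 : ℂ) else 0)) *
      conj ((χ' : G → ℂ) 1)) =
      (Nat.card G : ℂ)⁻¹ * ∑ g : G, (if ¬ p ∣ orderOf g ∧ g ∈ L then
        conj ((χ' : G → ℂ) g) else 0) := by
    rw [← Eχ, ← mul_assoc, ← mul_assoc, E1]
  have h6 := mul_left_cancel₀ (inv_ne_zero hG0) h5
  have h7 : ∑ g : G, (if ¬ p ∣ orderOf g ∧ g ∈ L then
      ((χ' : G → ℂ) 1).re - ((χ' : G → ℂ) g).re else 0) = 0 := by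
    have h8 : ∑ g : G, (if ¬ p ∣ orderOf g ∧ g ∈ L then
        conj ((χ' : G → ℂ) 1) - conj ((χ' : G → ℂ) g) else 0) = 0 := by
      have : ∀ g : G, (if ¬ p ∣ orderOf g ∧ g ∈ L then
          conj ((χ' : G → ℂ) 1) - conj ((χ' : G → ℂ) g) else 0) =
          (if ¬ p ∣ orderOf g ∧ g ∈ L then (1 : ℂ) else 0) * conj ((χ' : G → ℂ) 1) -
          (if ¬ p ∣ orderOf g ∧ g ∈ L then conj ((χ' : G → ℂ) g) else 0) := by
        intro g
        split_ifs
        · rw [one_mul]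
        · rw [zero_mul, sub_zero]
      simp_rw [this]
      rw [Finset.sum_sub_distrib, ← Finset.sum_mul, h6, sub_self]
    have h9 := congrArg Complex.re h8
    rw [Complex.re_sum, Complex.zero_re] at h9
    refine Eq.trans ?_ h9
    apply Finset.sum_congr rfl
    intro g _
    split_ifs
    · rw [Complex.sub_re, Complex.conj_re, Complex.conj_re]
    · rw [Complex.zero_re]
  have hchar := IsIrrCharacter.isCharacter χ'.2
  have hnonneg : ∀ g ∈ (Finset.univ : Finset G), 0 ≤ (if ¬ p ∣ orderOf g ∧ g ∈ L then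
      ((χ' : G → ℂ) 1).re - ((χ' : G → ℂ) g).re else 0) := by
    intro g _
    split_ifs
    · have := IsCharacter.norm_le hchar g
      have h10 : ((χ' : G → ℂ) g).re ≤ ‖(χ' : G → ℂ) g‖ := Complex.re_le_norm _
      linarith
    · exact le_rfl
  have h11 := (Finset.sum_eq_zero_iff_of_nonneg hnonneg).mp h7 g (Finset.mem_univ g)
  rw [if_pos ⟨hg, hgL⟩] at h11
  have h12 : ((χ' : G → ℂ) g).re = ((χ' : G → ℂ) 1).re := by linarith
  have h13 := pl1_eq_of_norm_le_of_re_eq _ _ (IsCharacter.norm_le hchar g) h12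
  obtain ⟨n, hn⟩ := IsCharacter.apply_one hchar
  rw [h13, hn]
  simp

end Cfsg.Agent.Helper6
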