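import Mathlib
import Cfsg.Prelude.Def_Characters
import Cfsg.Prelude.Def_Blocks
import Cfsg.Prelude.Def_Local
import Cfsg.Agent.Helper6.Pl1D
import Cfsg.Agent.Helper6.Pl1G
import Cfsg.Agent.Helper6.PrincipalSection
import Cfsg.Agent.Helper6.KernelSet

/-!
# Auxiliary facts for the last step
-/

set_option autoImplicit false
set_option linter.style.haveILetI false

namespace Cfsg.Agent.Helper6

open scoped ComplexConjugate

universe u

variable {G : Type u} [Group G] {M : Ideal Cfsg.AlgInt}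

/-- the regular character of a quotient, as a sum over the characters with the normal subgroup in
their kernel -/
theorem pl1_sum_kernelSet {X : Type u} [Group X] [Finite X] [Fintype (Cfsg.IrrCharacter X)]
    (Y : Subgroup X) [hY : Y.Normal] (x : X)
    [DecidablePred fun θ : Cfsg.IrrCharacter X => ∀ y ∈ Y, (θ : X → ℂ) y = (θ : X → ℂ) 1]
    [Decidable (x ∈ Y)] :
    ∑ θ : Cfsg.IrrCharacter X, (if (∀ y ∈ Y, (θ : X → ℂ) y = (θ : X → ℂ) 1) then
      (θ : X → ℂ) 1 * (θ : X → ℂ) x else 0) =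
      if x ∈ Y then (Nat.card X : ℂ) * (Nat.card Y : ℂ)⁻¹ else 0 := by
  classical
  have hX0 : (Nat.card X : ℂ) ≠ 0 := by
    have : 0 < Nat.card X := Nat.card_pos
    exact_mod_cast this.ne'
  have h := blockCoeff_kernelSet Y x
  unfold Cfsg.blockCoeff at h
  rw [finsum_mem_eq_sum_ite] at h
  have h2 : ∑ θ : Cfsg.IrrCharacter X,
      (if θ ∈ {χ : Cfsg.IrrCharacter X | ∀ n ∈ Y, (χ : X → ℂ) n = (χ : X → ℂ) 1} then
        (θ : X → ℂ) 1 * conj ((θ : X → ℂ) x) else 0) =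
      (Nat.card X : ℂ) * (if x ∈ Y then (Nat.card Y : ℂ)⁻¹ else 0) := by
    rw [← h, ← mul_assoc, mul_inv_cancel₀ hX0, one_mul]
    apply Finset.sum_congr rfl
    intro θ _
    split_ifs <;> rfl
  have h3 := congrArg conj h2
  rw [map_sum] at h3
  calc ∑ θ : Cfsg.IrrCharacter X, (if (∀ y ∈ Y, (θ : X → ℂ) y = (θ : X → ℂ) 1) then
        (θ : X → ℂ) 1 * (θ : X → ℂ) x else 0)
      = ∑ θ : Cfsg.IrrCharacter X, conj
        (if θ ∈ {χ : Cfsg.IrrCharacter X | ∀ n ∈ Y, (χ : X → ℂ) n = (χ : X → ℂ) 1} then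
          (θ : X → ℂ) 1 * conj ((θ : X → ℂ) x) else 0) := by
        apply Finset.sum_congr rfl
        intro θ _
        by_cases hθ : ∀ y ∈ Y, (θ : X → ℂ) y = (θ : X → ℂ) 1
        · rw [if_pos hθ, if_pos (show θ ∈ {χ : Cfsg.IrrCharacter X |
            ∀ n ∈ Y, (χ : X → ℂ) n = (χ : X → ℂ) 1} from hθ), map_mul, Complex.conj_conj]
          obtain ⟨n, hn⟩ := IsCharacter.apply_one (IsIrrCharacter.isCharacter θ.2)
          rw [hn, Complex.conj_natCast]
        · rw [if_neg hθ, if_neg (show θ ∉ {χ : Cfsg.IrrCharacter X |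
            ∀ n ∈ Y, (χ : X → ℂ) n = (χ : X → ℂ) 1} from hθ), map_zero]
    _ = conj ((Nat.card X : ℂ) * (if x ∈ Y then (Nat.card Y : ℂ)⁻¹ else 0)) := h3
    _ = if x ∈ Y then (Nat.card X : ℂ) * (Nat.card Y : ℂ)⁻¹ else 0 := by
        split_ifs
        · rw [map_mul, map_inv₀, Complex.conj_natCast, Complex.conj_natCast]
        · rw [mul_zero, map_zero]

/-- the `p`-regular elements of `Q Z`, `Q` a normal `p`-subgroup, lie in `Z` -/
theorem pl1_mem_of_pregular_sup {X : Type u} [Group X] [Finite X] {p : ℕ} [hp : Fact p.Prime]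
    (Q Z : Subgroup X) [hZ : Z.Normal] (hQ : IsPGroup p Q) (x : X) (hx : x ∈ Q ⊔ Z)
    (hreg : ¬ p ∣ orderOf x) : x ∈ Z := by
  have h1 : (QuotientGroup.mk' Z) x ∈ (Q ⊔ Z).map (QuotientGroup.mk' Z) :=
    Subgroup.mem_map_of_mem _ hx
  rw [Subgroup.map_sup, QuotientGroup.map_mk'_self, sup_bot_eq] at h1
  have h2 : IsPGroup p (Q.map (QuotientGroup.mk' Z)) := hQ.map _
  obtain ⟨k, hk⟩ := h2 ⟨_, h1⟩
  have hk' : ((QuotientGroup.mk' Z) x) ^ (p ^ k) = 1 := by
    have := congrArg Subtype.val hk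
    simpa using this
  have h3 : orderOf ((QuotientGroup.mk' Z) x) ∣ p ^ k := orderOf_dvd_of_pow_eq_one hk'
  have h4 : orderOf ((QuotientGroup.mk' Z) x) ∣ orderOf x := orderOf_map_dvd _ x
  have h5 : (orderOf x).Coprime (p ^ k) := by
    apply Nat.Coprime.pow_right
    rw [Nat.coprime_comm, Nat.Prime.coprime_iff_not_dvd hp.out]
    exact hreg
  have h6 : orderOf ((QuotientGroup.mk' Z) x) = 1 :=
    Nat.eq_one_of_dvd_coprimes h5 h4 h3
  rw [orderOf_eq_one_iff] at h6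
  exact (QuotientGroup.eq_one_iff x).mp h6

/-- a member of the principal block with `P` in its kernel has `P O_{p'}(N)` in its kernel -/
theorem pl1_ker_sup [Finite G] {p : ℕ} [hp : Fact p.Prime] (hM : Cfsg.IsPModular p M)
    (P : Subgroup G) (N : Subgroup G) (χ : Cfsg.IrrCharacter G)
    (hres : Cfsg.IsIrrCharacter N (fun n : N => (χ : G → ℂ) n))
    (hmem : (⟨fun n : N => (χ : G → ℂ) n, hres⟩ : Cfsg.IrrCharacter N) ∈
      Cfsg.principalBlock M N)
    (hP : ∀ u ∈ P, (χ : G → ℂ) u = (χ : G → ℂ) 1)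
    (y : N) (hy : y ∈ P.subgroupOf N ⊔ Cfsg.pPrimeCore p N) :
    (χ : G → ℂ) y = (χ : G → ℂ) 1 := by
  set θ : Cfsg.IrrCharacter N := ⟨fun n : N => (χ : G → ℂ) n, hres⟩ with hθ
  have h1 : P.subgroupOf N ≤ kerSub θ := by
    intro q hq
    rw [mem_kerSub]
    exact hP (q : G) (Subgroup.mem_subgroupOf.mp hq)
  have h2 : Cfsg.pPrimeCore p N ≤ kerSub θ := by
    intro z hz
    rw [mem_kerSub]
    exact pPrimeCore_le_ker_principalBlock hM θ hmem z hz
  have h3 := (sup_le h1 h2) hy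
  rw [mem_kerSub] at h3
  exact h3

end Cfsg.Agent.Helper6
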