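import Mathlib
import Cfsg.Prelude.Def_Characters
import Cfsg.Prelude.Def_Blocks
import Cfsg.Prelude.Def_Local
import Cfsg.Agent.Helper6.Pl1H

/-!
# The normal subgroup `L` with `L / K` a `p`-group
-/

set_option autoImplicit false
set_option linter.style.haveILetI false

namespace Cfsg.Agent.Helper6

open scoped ComplexConjugate

universe u

variable {G : Type u} [Group G] {M : Ideal Cfsg.AlgInt}

/-- **irreducible restriction of the principal block to the Sylow normalizer produces a normal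
subgroup `L ≥ P` whose `p`-regular elements lie in the kernel of the principal block** -/
theorem pl1_exists_normal [Finite G] {p : ℕ} [hp : Fact p.Prime]
    (hM : Cfsg.IsPModular p M) (P : Sylow p G) (N : Subgroup G)
    (hN : N = Subgroup.normalizer ((P : Subgroup G) : Set G))
    (hH : ∀ χ ∈ Cfsg.principalBlock M G,
      Cfsg.IsIrrCharacter N (fun n : N => (χ : G → ℂ) n)) :
    ∃ L : Subgroup G, L.Normal ∧ (P : Subgroup G) ≤ L ∧
      (∀ g : G, (∀ χ ∈ Cfsg.principalBlock M G, (χ : G → ℂ) g = (χ : G → ℂ) 1) → g ∈ L) ∧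
      ∀ χ' ∈ Cfsg.principalBlock M G, ∀ g ∈ L, ¬ p ∣ orderOf g →
        (χ' : G → ℂ) g = (χ' : G → ℂ) 1 := by
  classical
  haveI := Fintype.ofFinite G
  haveI : Fintype N := Fintype.ofFinite _
  haveI : Finite (Cfsg.IrrCharacter G) := irr_finite
  haveI : Fintype (Cfsg.IrrCharacter G) := Fintype.ofFinite _
  haveI : Finite (Cfsg.IrrCharacter N) := irr_finite
  haveI : Fintype (Cfsg.IrrCharacter N) := Fintype.ofFinite _
  have hMm := hM.2.1
  obtain ⟨hII, hI, hIII⟩ := pl1_restriction_bijective hM P N hN hH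
  obtain ⟨hQn, hQ, hidx⟩ := pl1_sylow_in_normalizer P N hN
  haveI := hQn
  haveI : (Cfsg.pPrimeCore p N).Normal := Helper1.pPrimeCore_normal p
  obtain ⟨Y, hYdef⟩ : ∃ Y : Subgroup N,
      Y = (P : Subgroup G).subgroupOf N ⊔ Cfsg.pPrimeCore p N := ⟨_, rfl⟩
  haveI hYn : Y.Normal := by rw [hYdef]; infer_instance
  obtain ⟨R, hRdef⟩ : ∃ R : Set (Cfsg.IrrCharacter G), R = {χ : Cfsg.IrrCharacter G |
      χ ∈ Cfsg.principalBlock M G ∧ ∀ u ∈ (P : Subgroup G), (χ : G → ℂ) u = (χ : G → ℂ) 1} :=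
    ⟨_, rfl⟩
  have hRmem : ∀ χ : Cfsg.IrrCharacter G, χ ∈ R ↔ (χ ∈ Cfsg.principalBlock M G ∧
      ∀ u ∈ (P : Subgroup G), (χ : G → ℂ) u = (χ : G → ℂ) 1) := by
    intro χ; rw [hRdef]; rfl
  have hRB : R ⊆ Cfsg.principalBlock M G := fun χ hχ => ((hRmem χ).mp hχ).1
  obtain ⟨L, hLdef⟩ : ∃ L : Subgroup G,
      L = ⨅ χ : Cfsg.IrrCharacter G, ⨅ _ : χ ∈ R, kerSub χ := ⟨_, rfl⟩
  have hLmem : ∀ g : G, g ∈ L ↔ ∀ χ ∈ R, (χ : G → ℂ) g = (χ : G → ℂ) 1 := by
    intro g
    rw [hLdef]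
    simp only [Subgroup.mem_iInf, mem_kerSub]
  have hLn : L.Normal := by
    rw [hLdef]
    apply Subgroup.normal_iInf_normal
    intro ψ
    apply Subgroup.normal_iInf_normal
    intro _
    exact kerSub_normal ψ
  haveI := hLn
  have hPL : (P : Subgroup G) ≤ L := fun u hu =>
    (hLmem u).mpr (fun χ hχ => ((hRmem χ).mp hχ).2 u hu)
  have hKL : ∀ g : G, (∀ χ ∈ Cfsg.principalBlock M G, (χ : G → ℂ) g = (χ : G → ℂ) 1) →
      g ∈ L := fun g hg => (hLmem g).mpr (fun χ hχ => hg χ (hRB hχ))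
  -- `Y` lies in the kernel of the members of `R`
  have hYker : ∀ χ ∈ R, ∀ y : N, y ∈ Y → (χ : G → ℂ) y = (χ : G → ℂ) 1 := by
    intro χ hχ y hy
    rw [hYdef] at hy
    obtain ⟨hχB, hχP⟩ := (hRmem χ).mp hχ
    exact pl1_ker_sup hM (P : Subgroup G) N χ (hH χ hχB) (hII χ hχB) hχP y hy
  -- the trivial character
  have htrivB : trivIrr G ∈ Cfsg.principalBlock M G := by
    rw [principalBlock_eq]
    exact mem_blockOf_self hMm _
  have htrivR : trivIrr G ∈ R := by
    rw [hRmem]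
    exact ⟨htrivB, fun _ _ => rfl⟩
  -- the constant
  obtain ⟨c, hcdef⟩ : ∃ c : ℂ, c = (Nat.card N : ℂ) * (Nat.card Y : ℂ)⁻¹ := ⟨_, rfl⟩
  have hc : c ≠ 0 := by
    rw [hcdef]
    apply mul_ne_zero
    · have : 0 < Nat.card N := Nat.card_pos
      exact_mod_cast this.ne'
    · apply inv_ne_zero
      have : 0 < Nat.card Y := Nat.card_pos
      exact_mod_cast this.ne'
  -- the weighted sum on `N`
  have h1 : ∀ n : N, ∑ ξ : Cfsg.IrrCharacter G,
      (if ξ ∈ R then (ξ : G → ℂ) 1 * (ξ : G → ℂ) n else 0) = if n ∈ Y then c else 0 := by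
    intro n
    rw [hcdef, ← pl1_sum_kernelSet Y n, ← Finset.sum_filter, ← Finset.sum_filter]
    refine Finset.sum_bij (fun ξ hξ => (⟨fun m : N => (ξ : G → ℂ) m,
      hH ξ (hRB (Finset.mem_filter.mp hξ).2)⟩ : Cfsg.IrrCharacter N)) ?_ ?_ ?_ ?_
    · intro ξ hξ
      rw [Finset.mem_filter]
      refine ⟨Finset.mem_univ _, ?_⟩
      intro y hy
      have hξR := (Finset.mem_filter.mp hξ).2
      show (ξ : G → ℂ) (y : G) = (ξ : G → ℂ) ((1 : N) : G)
      rw [hYker ξ hξR y hy, Subgroup.coe_one]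
    · intro ξ hξ ξ' hξ' heq
      have hξR := (Finset.mem_filter.mp hξ).2
      have hξ'R := (Finset.mem_filter.mp hξ').2
      exact hI ξ (hRB hξR) ξ' (hRB hξ'R) (congrArg Subtype.val heq)
    · intro θ hθ
      have hθY := (Finset.mem_filter.mp hθ).2
      have hθB : θ ∈ Cfsg.principalBlock M N := by
        rw [pl1_principalBlock_eq hM ((P : Subgroup G).subgroupOf N) hQ hidx]
        intro z hz
        apply hθY z
        rw [hYdef]
        exact Subgroup.mem_sup_right hz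
      obtain ⟨χ, hχB, hχres⟩ := hIII θ hθB
      have hχR : χ ∈ R := by
        rw [hRmem]
        refine ⟨hχB, ?_⟩
        intro u hu
        have huN : u ∈ N := by
          rw [hN]
          exact Subgroup.le_normalizer hu
        have h2 : (θ : N → ℂ) ⟨u, huN⟩ = (θ : N → ℂ) 1 := by
          apply hθY
          rw [hYdef]
          apply Subgroup.mem_sup_left
          exact Subgroup.mem_subgroupOf.mpr hu
        rw [← hχres] at h2
        exact h2
      refine ⟨χ, Finset.mem_filter.mpr ⟨Finset.mem_univ _, hχR⟩, ?_⟩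
      exact Subtype.ext hχres
    · intro ξ hξ
      rfl
  -- Frattini decomposition
  have hdecomp : ∀ g : G, ∃ n ∈ N, ∃ l ∈ L, g = n * l := by
    intro g
    have hsup := Sylow.normalizer_sup_eq_top' P hPL
    have hg : g ∈ (N ⊔ L : Subgroup G) := by
      rw [hN]
      have : g ∈ (⊤ : Subgroup G) := Subgroup.mem_top g
      rw [← hsup] at this
      exact this
    rw [← SetLike.mem_coe, Subgroup.mul_normal] at hg
    obtain ⟨n, hn, l, hl, rfl⟩ := Set.mem_mul.mp hg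
    exact ⟨n, hn, l, hl, rfl⟩
  -- the weighted sum on `G`
  have h2 : ∀ g : G, ∑ ξ : Cfsg.IrrCharacter G,
      (if ξ ∈ R then (ξ : G → ℂ) 1 * (ξ : G → ℂ) g else 0) = if g ∈ L then c else 0 := by
    intro g
    obtain ⟨n, hn, l, hl, rfl⟩ := hdecomp g
    have e1 : ∑ ξ : Cfsg.IrrCharacter G,
        (if ξ ∈ R then (ξ : G → ℂ) 1 * (ξ : G → ℂ) (n * l) else 0) =
        ∑ ξ : Cfsg.IrrCharacter G,
        (if ξ ∈ R then (ξ : G → ℂ) 1 * (ξ : G → ℂ) ((⟨n, hn⟩ : N) : G) else 0) := by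
      apply Finset.sum_congr rfl
      intro ξ _
      by_cases hξ : ξ ∈ R
      · rw [if_pos hξ, if_pos hξ, (IsIrrCharacter.mul_ker ξ.2 ((hLmem l).mp hl ξ hξ) n).1]
      · rw [if_neg hξ, if_neg hξ]
    rw [e1, h1 ⟨n, hn⟩]
    have hiff : (⟨n, hn⟩ : N) ∈ Y ↔ n * l ∈ L := by
      constructor
      · intro hY
        have hnL : n ∈ L := (hLmem n).mpr (fun χ hχ => hYker χ hχ ⟨n, hn⟩ hY)
        exact L.mul_mem hnL hl
      · intro hnl
        have hnL : n ∈ L := by
          have := L.mul_mem hnl (L.inv_mem hl)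
          rwa [mul_inv_cancel_right] at this
        by_contra hY
        have e2 := h1 ⟨n, hn⟩
        rw [if_neg hY] at e2
        have e3 := h1 1
        rw [if_pos (Subgroup.one_mem Y)] at e3
        have e4 : ∑ ξ : Cfsg.IrrCharacter G,
            (if ξ ∈ R then (ξ : G → ℂ) 1 * (ξ : G → ℂ) ((⟨n, hn⟩ : N) : G) else 0) =
            ∑ ξ : Cfsg.IrrCharacter G,
            (if ξ ∈ R then (ξ : G → ℂ) 1 * (ξ : G → ℂ) ((1 : N) : G) else 0) := by
          apply Finset.sum_congr rfl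
          intro ξ _
          by_cases hξ : ξ ∈ R
          · rw [if_pos hξ, if_pos hξ, Subgroup.coe_one]
            show (ξ : G → ℂ) 1 * (ξ : G → ℂ) n = _
            rw [(hLmem n).mp hnL ξ hξ]
          · rw [if_neg hξ, if_neg hξ]
        rw [e4, e3] at e2
        exact hc e2
    by_cases hY : (⟨n, hn⟩ : N) ∈ Y
    · rw [if_pos hY, if_pos (hiff.mp hY)]
    · rw [if_neg hY, if_neg (fun h => hY (hiff.mpr h))]
  -- the `p`-regular elements of `Y`
  have h3 : ∀ χ' ∈ Cfsg.principalBlock M G, ∀ n : N, n ∈ Y → ¬ p ∣ orderOf n →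
      (χ' : G → ℂ) n = (χ' : G → ℂ) 1 := by
    intro χ' hχ' n hnY hreg
    rw [hYdef] at hnY
    have hnZ : n ∈ Cfsg.pPrimeCore p N :=
      pl1_mem_of_pregular_sup ((P : Subgroup G).subgroupOf N) (Cfsg.pPrimeCore p N) hQ n hnY hreg
    exact pPrimeCore_le_ker_principalBlock hM
      (⟨fun m : N => (χ' : G → ℂ) m, hH χ' hχ'⟩ : Cfsg.IrrCharacter N) (hII χ' hχ') n hnZ
  refine ⟨L, hLn, hPL, hKL, ?_⟩
  intro χ' hχ' g hgL hg
  exact pl1_pregular_mem_ker hMm p hM.2.2 N (Cfsg.principalBlock M G)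
    (isPBlock_principalBlock G) hH hI R hRB L Y c hc h1 h2 h3 htrivB χ' hχ' g hgL hg

end Cfsg.Agent.Helper6
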