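import Mathlib
import Cfsg.Prelude.Def_Characters
import Cfsg.Prelude.Def_Blocks
import Cfsg.Prelude.Def_Local
import Cfsg.Agent.Helper6.Pl1I
import Cfsg.Agent.Helper6.Inflation
import Cfsg.Agent.Helper6.SylowClassBound
import Cfsg.Agent.Helper6.PrincipalSolv
import Cfsg.Agent.Helper1.PLength1
import Cfsg.Agent.Helper3.PLen
import Cfsg.Agent.Lead.T36RedB

/-!
# The theorem of Isaacs and Smith on groups of `p`-length one
-/

set_option autoImplicit false
set_option linter.style.haveILetI false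

namespace Cfsg.Agent.Helper6

open scoped ComplexConjugate

universe u

variable {G : Type u} [Group G] {M : Ideal Cfsg.AlgInt}

/-- irreducible restriction of the principal block to the Sylow normalizer forces `p`-length
one -/
theorem pl1_pLengthLE_of_restrict [Finite G] {p : ℕ} [hp : Fact p.Prime]
    (hM : Cfsg.IsPModular p M) (P : Sylow p G) (N : Subgroup G)
    (hN : N = Subgroup.normalizer ((P : Subgroup G) : Set G))
    (hH : ∀ χ ∈ Cfsg.principalBlock M G,
      Cfsg.IsIrrCharacter N (fun n : N => (χ : G → ℂ) n)) :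
    Cfsg.PLengthLE p 1 G := by
  obtain ⟨L, hLn, hPL, hKL, hreg⟩ := pl1_exists_normal hM P N hN hH
  have hMm := hM.2.1
  have htrivB : trivIrr G ∈ Cfsg.principalBlock M G := by
    rw [principalBlock_eq]
    exact mem_blockOf_self hMm _
  obtain ⟨K, hKn, hKeq, hKp, -, -⟩ := block_kernel hMm p hp.1 hM.2.2
    (Cfsg.principalBlock M G) (isPBlock_principalBlock G) (trivIrr G) htrivB
  haveI := hKn
  haveI := hLn
  have hKmem : ∀ g : G, g ∈ K ↔
      ∀ χ ∈ Cfsg.principalBlock M G, (χ : G → ℂ) g = (χ : G → ℂ) 1 := by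
    intro g
    rw [← SetLike.mem_coe, hKeq]
    rfl
  have hKcop : (Nat.card K).Coprime p := by
    rw [Nat.coprime_comm, Nat.Prime.coprime_iff_not_dvd hp.out]
    exact hKp
  apply Helper3.PLen.pLengthLE_of_quotient_coprime p K hKcop
  have hsurj : Function.Surjective (QuotientGroup.mk' K) := QuotientGroup.mk'_surjective K
  haveI hSn : (L.map (QuotientGroup.mk' K)).Normal := Subgroup.Normal.map hLn _ hsurj
  apply Lead.T36Red.pLengthLE_one_of_normal_pGroup p (L.map (QuotientGroup.mk' K))
  · -- the image of `L` is a `p`-group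
    rintro ⟨x, hx⟩
    obtain ⟨g, hgL, rfl⟩ := Subgroup.mem_map.mp hx
    refine ⟨(orderOf g).factorization p, ?_⟩
    apply Subtype.ext
    rw [Subgroup.coe_pow, Subgroup.coe_one]
    show ((QuotientGroup.mk' K) g) ^ (p ^ (orderOf g).factorization p) = 1
    rw [← map_pow]
    apply (QuotientGroup.eq_one_iff _).mpr
    rw [hKmem]
    intro χ hχ
    apply hreg χ hχ _ (L.pow_mem hgL _)
    have hpos : orderOf g ≠ 0 := (orderOf_pos g).ne'
    have hpk : p ^ (orderOf g).factorization p ≠ 0 := pow_ne_zero _ hp.out.ne_zero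
    rw [orderOf_pow' g hpk, Nat.gcd_eq_right (Nat.ordProj_dvd (orderOf g) p)]
    exact Nat.not_dvd_ordCompl hp.out hpos
  · -- the index of the image of `L` is prime to `p`
    have h1 : (L.map (QuotientGroup.mk' K)).index ∣ L.index := Subgroup.index_map_dvd L hsurj
    have h2 : L.index ∣ (P : Subgroup G).index := Subgroup.index_dvd_of_le hPL
    have h3 : ¬ p ∣ (P : Subgroup G).index := P.not_dvd_index
    rw [Nat.coprime_comm, Nat.Prime.coprime_iff_not_dvd hp.out]
    exact fun h => h3 (dvd_trans h (dvd_trans h1 h2))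

/-- in a group of `p`-length one the members of the principal block restrict irreducibly to the
Sylow normalizer -/
theorem pl1_restrict_of_pLengthLE [Finite G] {p : ℕ} [hp : Fact p.Prime]
    (hM : Cfsg.IsPModular p M) (P : Sylow p G) (N : Subgroup G)
    (hN : N = Subgroup.normalizer ((P : Subgroup G) : Set G))
    (hpl : Cfsg.PLengthLE p 1 G) (χ : Cfsg.IrrCharacter G)
    (hχ : χ ∈ Cfsg.principalBlock M G) :
    Cfsg.IsIrrCharacter N (fun n : N => (χ : G → ℂ) n) := by
  obtain ⟨K, hKn, hKcop, hKS⟩ := Helper1.exists_normal_of_pLengthLE_one p hpl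
  haveI := hKn
  haveI hKPn : (K ⊔ (P : Subgroup G)).Normal := hKS P
  have hker : ∀ k ∈ K, (χ : G → ℂ) k = (χ : G → ℂ) 1 :=
    principalBlock_subset_kernelSet p hM.2.1 hM.2.2 K hKcop hχ
  -- Frattini
  have hsup : N ⊔ K = ⊤ := by
    have h1 := Sylow.normalizer_sup_eq_top' P (le_sup_right : (P : Subgroup G) ≤ K ⊔ P)
    have hPN : (P : Subgroup G) ≤ N := by rw [hN]; exact Subgroup.le_normalizer
    have h1' : N ⊔ (K ⊔ (P : Subgroup G)) = ⊤ := by
      rw [hN]
      exact h1
    rw [eq_top_iff, ← h1']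
    apply sup_le le_sup_left
    exact sup_le le_sup_right (le_trans hPN le_sup_left)
  have hsurj : Function.Surjective ((QuotientGroup.mk' K).comp N.subtype) := by
    intro x
    obtain ⟨g, rfl⟩ := QuotientGroup.mk'_surjective K x
    have hg : g ∈ (N ⊔ K : Subgroup G) := by rw [hsup]; exact Subgroup.mem_top g
    rw [← SetLike.mem_coe, Subgroup.mul_normal] at hg
    obtain ⟨n, hn, k, hk, rfl⟩ := Set.mem_mul.mp hg
    refine ⟨⟨n, hn⟩, ?_⟩
    show (QuotientGroup.mk' K) n = (QuotientGroup.mk' K) (n * k)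
    have hk1 : (QuotientGroup.mk' K) k = 1 := (QuotientGroup.eq_one_iff k).mpr hk
    rw [map_mul, hk1, mul_one]
  obtain ⟨χ', hχ'⟩ := exists_deflate K χ hker
  obtain ⟨d, σ, hirr, hσ⟩ := χ'.2
  haveI := hirr
  refine ⟨d, σ.comp ((QuotientGroup.mk' K).comp N.subtype),
    isIrreducible_comp_surjective σ _ hsurj, ?_⟩
  funext n
  rw [hχ', ← hσ]
  rfl

end Cfsg.Agent.Helper6
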