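import Mathlib
import Cfsg.Prelude.Def_Characters
import Cfsg.Agent.Helper6.GlaubS
import Cfsg.Agent.Helper6.FaithfulIrr
import Cfsg.Agent.Helper6.IrrCount
import Cfsg.Agent.Helper6.Homocyclic3
import Cfsg.Agent.Helper6.PrincipalDefect

/-!
# Kernel of the `p'`-degree characters (S4591), part A

Group-theoretic preliminaries and the consequences of the Glauberman correspondence that are
needed: when a `p`-group `S` acts coprimely on `W` with `C_W(S) = 1`, the only `S`-invariant
irreducible character of `W` is the trivial one; when `C_W(S) ≠ 1` there is a nontrivial one.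
-/

set_option autoImplicit false
set_option linter.style.haveILetI false
set_option linter.unusedSimpArgs false

namespace Cfsg.Agent.Helper6.PpKer

open Cfsg.Agent.Helper6

universe u

variable {G : Type u} [Group G]

/-- A normal subgroup in which a Sylow `p`-subgroup has trivial centralizer has order prime to
`p`. -/
theorem not_dvd_card_of_inf_centralizer_eq_bot [Finite G] (p : ℕ) [hp : Fact p.Prime]
    (P : Sylow p G) (N : Subgroup G) [hN : N.Normal]
    (hNC : N ⊓ Subgroup.centralizer ((P : Subgroup G) : Set G) = ⊥) : ¬ p ∣ Nat.card N := by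
  intro hdvd
  obtain ⟨x, hx⟩ := exists_prime_orderOf_dvd_card' p hdvd
  have hx1 : ((x : N) : G) ^ (p ^ 1) = 1 := by
    rw [pow_one, ← Subgroup.coe_pow, ← hx, pow_orderOf_eq_one]
    rfl
  obtain ⟨y, hy⟩ := exists_conj_mem_sylow P (x : G) 1 hx1
  have hzN : y * (x : G) * y⁻¹ ∈ N := hN.conj_mem _ x.2 y
  have hz1 : y * (x : G) * y⁻¹ ≠ 1 := by
    intro h
    have h2 : (x : G) = 1 := by
      have : (x : G) = y⁻¹ * (y * (x : G) * y⁻¹) * y := by group
      rw [this, h]
      group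
    have h3 : x = 1 := Subtype.ext h2
    rw [h3, orderOf_one] at hx
    exact hp.out.one_lt.ne hx
  set T : Subgroup (P : Subgroup G) := N.subgroupOf (P : Subgroup G) with hT
  haveI : T.Normal := Subgroup.normal_subgroupOf
  have hTne : T ≠ ⊥ := by
    intro h
    have hmem : (⟨y * (x : G) * y⁻¹, hy⟩ : (P : Subgroup G)) ∈ T := by
      rw [hT, Subgroup.mem_subgroupOf]
      exact hzN
    rw [h, Subgroup.mem_bot] at hmem
    exact hz1 (congrArg Subtype.val hmem)
  obtain ⟨b, hbT, hbZ, hb1⟩ := exists_mem_center_of_normal_ne_bot p P.2 T hTne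
  have hbN : (b : G) ∈ N := by
    rw [hT, Subgroup.mem_subgroupOf] at hbT
    exact hbT
  have hbC : (b : G) ∈ Subgroup.centralizer ((P : Subgroup G) : Set G) := by
    rw [Subgroup.mem_centralizer_iff]
    intro g hg
    rw [Subgroup.mem_center_iff] at hbZ
    exact congrArg Subtype.val (hbZ ⟨g, hg⟩)
  have : (b : G) ∈ N ⊓ Subgroup.centralizer ((P : Subgroup G) : Set G) := ⟨hbN, hbC⟩
  rw [hNC, Subgroup.mem_bot] at this
  exact hb1 (Subtype.ext this)

/-- the trivial group has only one irreducible character -/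
theorem subsingleton_irr_bot : Subsingleton (Cfsg.IrrCharacter (⊥ : Subgroup G)) := by
  have h1 : Nat.card (Cfsg.IrrCharacter (⊥ : Subgroup G)) =
      Nat.card (ConjClasses (⊥ : Subgroup G)) := card_irr_eq_card_conjClasses
  haveI : Subsingleton (ConjClasses (⊥ : Subgroup G)) := by
    constructor
    intro a b
    obtain ⟨a, rfl⟩ := ConjClasses.mk_surjective a
    obtain ⟨b, rfl⟩ := ConjClasses.mk_surjective b
    rw [Subsingleton.elim a b]
  haveI : Finite (Cfsg.IrrCharacter (⊥ : Subgroup G)) := irr_finite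
  have h2 : Nat.card (ConjClasses (⊥ : Subgroup G)) ≤ 1 := Finite.card_le_one_iff_subsingleton.mpr
    inferInstance
  rw [← h1] at h2
  exact Finite.card_le_one_iff_subsingleton.mp h2

theorem not_dvd_of_modEq_pm_one {p : ℕ} (hp : p.Prime) {m : ℕ}
    (h : (m : ℤ) ≡ 1 [ZMOD p] ∨ (m : ℤ) ≡ -1 [ZMOD p]) : ¬ p ∣ m := by
  intro hd
  have hd' : (p : ℤ) ∣ (m : ℤ) := by exact_mod_cast hd
  have h0 : (m : ℤ) ≡ 0 [ZMOD p] := (Int.modEq_zero_iff_dvd).mpr hd'
  rcases h with h | h
  · have h1 : (0 : ℤ) ≡ 1 [ZMOD p] := h0.symm.trans h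
    have h2 := (Int.modEq_iff_dvd.mp h1)
    have h3 : (p : ℤ) ∣ 1 := by simpa using h2
    have h4 : p ∣ 1 := by exact_mod_cast h3
    exact hp.one_lt.ne' (Nat.dvd_one.mp h4)
  · have h1 : (0 : ℤ) ≡ -1 [ZMOD p] := h0.symm.trans h
    have h2 := (Int.modEq_iff_dvd.mp h1)
    have h3 : (p : ℤ) ∣ 1 := by
      have : (-1 : ℤ) - 0 = -1 := by ring
      rw [this] at h2
      exact (dvd_neg.mp h2)
    have h4 : p ∣ 1 := by exact_mod_cast h3
    exact hp.one_lt.ne' (Nat.dvd_one.mp h4)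

/-- If the `p`-group `S` acts coprimely on `W` with trivial fixed points, the only `S`-invariant
irreducible character of `W` is the trivial one. -/
theorem invariant_eq_one_of_centralizer_bot (W S : Subgroup G) [Fintype W]
    (hnorm : ∀ s ∈ S, ∀ g ∈ W, s * g * s⁻¹ ∈ W) (p : ℕ) [hp : Fact p.Prime] (hS : IsPGroup p S)
    (hcop : (Nat.card W).Coprime (Nat.card S))
    (hC : W ⊓ Subgroup.centralizer (S : Set G) = ⊥)
    (θ : W → ℂ) (hθ : Cfsg.IsIrrCharacter W θ)
    (hinv : ∀ s ∈ S, ∀ g g' : W, (g' : G) = s * g * s⁻¹ → θ g' = θ g) :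
    θ = fun _ => 1 := by
  classical
  haveI : Fintype (⊥ : Subgroup G) := Fintype.ofFinite _
  have St := glaubStatement_conj W S hnorm hcop p hS ⊥ hC.symm bot_le
  obtain ⟨h1, h2, -⟩ := St
  haveI := subsingleton_irr_bot (G := G)
  have hθinv := (invUnder_conj_iff W S hnorm θ).mpr hinv
  have h1inv := (invUnder_conj_iff W S hnorm (fun _ : W => (1 : ℂ))).mpr
    (fun _ _ _ _ _ => rfl)
  have hone : Cfsg.IsIrrCharacter W (fun _ : W => (1 : ℂ)) := isIrrCharacter_one
  obtain ⟨β₀, ⟨m, hm, hmod⟩, -⟩ := h1 θ hθ hθinv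
  obtain ⟨β₁, ⟨m', hm', hmod'⟩, -⟩ := h1 _ hone h1inv
  have hβ : β₁ = β₀ := Subsingleton.elim _ _
  rw [hβ] at hm'
  exact h2 θ _ hθ hθinv hone h1inv β₀ ⟨m, hm, not_dvd_of_modEq_pm_one hp.out hmod⟩
    ⟨m', hm', not_dvd_of_modEq_pm_one hp.out hmod'⟩

/-- If the `p`-group `S` acts coprimely on `W` with a nontrivial fixed point, then `W` has a
nontrivial `S`-invariant irreducible character. -/
theorem exists_invariant_ne_one (W S : Subgroup G) [Fintype W]
    (hnorm : ∀ s ∈ S, ∀ g ∈ W, s * g * s⁻¹ ∈ W) (p : ℕ) [hp : Fact p.Prime] (hS : IsPGroup p S)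
    (hcop : (Nat.card W).Coprime (Nat.card S))
    (hC : W ⊓ Subgroup.centralizer (S : Set G) ≠ ⊥) :
    ∃ θ : W → ℂ, Cfsg.IsIrrCharacter W θ ∧
      (∀ s ∈ S, ∀ g g' : W, (g' : G) = s * g * s⁻¹ → θ g' = θ g) ∧ θ ≠ fun _ => 1 := by
  classical
  set C : Subgroup G := W ⊓ Subgroup.centralizer (S : Set G) with hCdef
  haveI : Finite W := Finite.of_fintype W
  haveI : Finite C := Finite.of_injective (Subgroup.inclusion (inf_le_left : C ≤ W))
    (Subgroup.inclusion_injective _)
  haveI : Fintype C := Fintype.ofFinite _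
  have St := glaubStatement_conj W S hnorm hcop p hS C rfl inf_le_left
  obtain ⟨h1, -, h3⟩ := St
  -- two distinct irreducible characters of `C`
  obtain ⟨β, hβ⟩ : ∃ β : Cfsg.IrrCharacter C, β ≠ trivIrr C := by
    by_contra hno
    push Not at hno
    haveI : Subsingleton (Cfsg.IrrCharacter C) := ⟨fun a b => (hno a).trans (hno b).symm⟩
    haveI : Finite (Cfsg.IrrCharacter C) := irr_finite
    have hc1 : Nat.card (Cfsg.IrrCharacter C) ≤ 1 :=
      Finite.card_le_one_iff_subsingleton.mpr inferInstance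
    rw [card_irr_eq_card_conjClasses] at hc1
    haveI : Subsingleton (ConjClasses C) := Finite.card_le_one_iff_subsingleton.mp hc1
    apply hC
    rw [Subgroup.eq_bot_iff_forall]
    intro c hc
    have h2 : ConjClasses.mk (⟨c, hc⟩ : C) = ConjClasses.mk 1 := Subsingleton.elim _ _
    rw [ConjClasses.mk_eq_mk_iff_isConj, isConj_one_left] at h2
    exact congrArg Subtype.val h2
  obtain ⟨χ₁, hχ₁, hinv₁, hrel₁⟩ := h3 (trivIrr C)
  obtain ⟨χ₂, hχ₂, hinv₂, hrel₂⟩ := h3 β
  have hne : χ₁ ≠ χ₂ := by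
    intro heq
    subst heq
    obtain ⟨β₀, -, hoth⟩ := h1 χ₁ hχ₁ hinv₁
    have ha : trivIrr C = β₀ := by
      by_contra hx
      obtain ⟨m, hm, hd⟩ := hoth _ hx
      obtain ⟨m', hm', hnd⟩ := hrel₁
      have : (m : ℂ) = (m' : ℂ) := hm.symm.trans hm'
      have : m = m' := by exact_mod_cast this
      exact hnd (this ▸ hd)
    have hb : β = β₀ := by
      by_contra hx
      obtain ⟨m, hm, hd⟩ := hoth _ hx
      obtain ⟨m', hm', hnd⟩ := hrel₂
      have : (m : ℂ) = (m' : ℂ) := hm.symm.trans hm'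
      have : m = m' := by exact_mod_cast this
      exact hnd (this ▸ hd)
    exact hβ (hb.trans ha.symm)
  by_cases h : χ₁ = fun _ => 1
  · refine ⟨χ₂, hχ₂, (invUnder_conj_iff W S hnorm χ₂).mp hinv₂, ?_⟩
    intro h'
    exact hne (h.trans h'.symm)
  · exact ⟨χ₁, hχ₁, (invUnder_conj_iff W S hnorm χ₁).mp hinv₁, h⟩

end Cfsg.Agent.Helper6.PpKer
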