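import Mathlib
import Cfsg.Prelude.Def_Characters
import Cfsg.Prelude.Def_Blocks
import Cfsg.Agent.Helper6.IrrCrit
import Cfsg.Agent.Helper6.Constituent
import Cfsg.Agent.Helper6.Degrees
import Cfsg.Agent.Helper6.SmallDegree
import Cfsg.Agent.Helper6.Codegree

/-!
# Irreducible characters induced from a Sylow subgroup
-/

set_option autoImplicit false
set_option linter.style.haveILetI false

namespace Cfsg.Agent.Helper6

open Module Representation
open scoped ComplexConjugate Pointwise

universe u v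

variable {G : Type u} [Group G]

/-- A character whose degree is not divisible by `q` has an irreducible constituent whose degree
is not divisible by `q`. -/
theorem exists_constituent_degree_not_dvd [Fintype G] {ψ : G → ℂ} (hψ : Cfsg.IsCharacter G ψ)
    (q b : ℕ) (hb : ψ 1 = b) (hq : ¬ q ∣ b) :
    ∃ θ : G → ℂ, Cfsg.IsIrrCharacter G θ ∧ Cfsg.classInner ψ θ ≠ 0 ∧
      ∃ t : ℕ, θ 1 = t ∧ ¬ q ∣ t := by
  classical
  haveI : Finite (Cfsg.IrrCharacter G) := irr_finite
  haveI : Fintype (Cfsg.IrrCharacter G) := Fintype.ofFinite _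
  have hcf := IsCharacter.isClassFunction hψ
  have hn : ∀ θ : Cfsg.IrrCharacter G, ∃ n : ℕ, Cfsg.classInner ψ (θ : G → ℂ) = n := fun θ =>
    classInner_char_char_nat hψ (IsIrrCharacter.isCharacter θ.2)
  choose n hn using hn
  have hd : ∀ θ : Cfsg.IrrCharacter G, ∃ d : ℕ, (θ : G → ℂ) 1 = d := fun θ =>
    IsCharacter.apply_one (IsIrrCharacter.isCharacter θ.2)
  choose d hd using hd
  have hψ1 : ψ 1 = ((∑ θ : Cfsg.IrrCharacter G, n θ * d θ : ℕ) : ℂ) := by
    conv_lhs => rw [classFunction_expansion ψ hcf]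
    rw [Finset.sum_apply]
    push_cast
    apply Finset.sum_congr rfl
    intro θ _
    rw [Pi.smul_apply, smul_eq_mul, hn, hd]
  by_contra hcon
  push Not at hcon
  apply hq
  have hbsum : b = ∑ θ : Cfsg.IrrCharacter G, n θ * d θ := by
    rw [hb] at hψ1
    exact_mod_cast hψ1
  rw [hbsum]
  apply Finset.dvd_sum
  intro θ _
  by_cases h0 : n θ = 0
  · rw [h0, zero_mul]; exact dvd_zero _
  · have hne : Cfsg.classInner ψ (θ : G → ℂ) ≠ 0 := by
      rw [hn]; exact_mod_cast h0
    exact Dvd.dvd.mul_left (hcon θ θ.2 hne (d θ) (hd θ)) _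

/-- An irreducible character whose codegree is a power of `p` is induced from a Sylow
`p`-subgroup. -/
theorem induced_from_sylow_of_codegree_pow [Fintype G] (p : ℕ) [hp : Fact p.Prime] {χ : G → ℂ}
    (hχ : Cfsg.IsIrrCharacter G χ) (d k : ℕ) (hd : χ 1 = d) (hk : Nat.card G = p ^ k * d)
    (P : Sylow p G) :
    ∃ θ : ↥(P : Subgroup G) → ℂ, Cfsg.IsCharacter ↥(P : Subgroup G) θ ∧
      χ = Cfsg.indFun (P : Subgroup G) θ := by
  classical
  haveI : Fintype (P : Subgroup G) := Fintype.ofFinite _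
  have hχc := IsIrrCharacter.isCharacter hχ
  have hres : Cfsg.IsCharacter (P : Subgroup G) (fun a : (P : Subgroup G) => χ a) :=
    IsCharacter.restrict _ hχc
  set m := (P : Subgroup G).index with hm
  have hPm : Nat.card (P : Subgroup G) * m = Nat.card G := (P : Subgroup G).card_mul_index
  obtain ⟨a, ha⟩ := IsPGroup.iff_card.mp P.isPGroup'
  have hpm : ¬ p ∣ m := P.not_dvd_index
  have hmpos : 0 < m := Nat.pos_of_ne_zero (Subgroup.index_ne_zero_of_finite)
  have hdpos : 0 < d := by
    obtain ⟨n, hn, h1⟩ := IsIrrCharacter.apply_one_pos hχ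
    rw [hd] at h1
    have : d = n := by exact_mod_cast h1
    omega
  -- p^a * m = p^k * d
  have heq : p ^ a * m = p ^ k * d := by rw [← ha, hPm, hk]
  have hka : k ≤ a := by
    have h1 : p ^ k ∣ p ^ a * m := ⟨d, heq⟩
    have h2 : Nat.Coprime (p ^ k) m :=
      Nat.Coprime.pow_left k ((Nat.Prime.coprime_iff_not_dvd hp.out).mpr hpm)
    have h3 := h2.dvd_of_dvd_mul_right h1
    exact (Nat.pow_dvd_pow_iff_le_right hp.out.one_lt).mp h3
  obtain ⟨b, rfl⟩ := Nat.exists_eq_add_of_le hka
  have hdm : d = p ^ b * m := by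
    rw [pow_add, mul_assoc] at heq
    exact (Nat.eq_of_mul_eq_mul_left (pow_pos hp.out.pos k) heq).symm
  -- a constituent of small degree
  have hnd : ¬ p ^ (b + 1) ∣ d := by
    rw [hdm, pow_succ]
    intro h
    have := Nat.dvd_of_mul_dvd_mul_left (pow_pos hp.out.pos b) h
    exact hpm this
  obtain ⟨θ, hθ, hne, t, ht, hpt⟩ :=
    exists_constituent_degree_not_dvd hres (p ^ (b + 1)) d (by simpa using hd) hnd
  obtain ⟨t', ht', htdvd, htpos⟩ := IsIrrCharacter.degree_dvd_card hθ
  have htt' : t = t' := by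
    rw [ht] at ht'
    exact_mod_cast ht'
  subst htt'
  rw [ha] at htdvd
  obtain ⟨j, hja, rfl⟩ := (Nat.dvd_prime_pow hp.out).mp htdvd
  have hjb : j ≤ b := by
    by_contra hlt
    push Not at hlt
    exact hpt (pow_dvd_pow p hlt)
  -- the induced character
  have hind : Cfsg.IsCharacter G (Cfsg.indFun (P : Subgroup G) θ) :=
    isCharacter_indFun _ θ (IsIrrCharacter.isCharacter hθ)
  have hχcf := IsCharacter.isClassFunction hχc
  have hrec : Cfsg.classInner (Cfsg.indFun (P : Subgroup G) θ) χ ≠ 0 := by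
    rw [frobenius_reciprocity _ θ χ hχcf, classInner_conj_symm]
    intro h
    apply hne
    have := congrArg conj h
    rwa [Complex.conj_conj, map_zero] at this
  have hind1 : Cfsg.indFun (P : Subgroup G) θ 1 = ((m * p ^ j : ℕ) : ℂ) := by
    rw [indFun_apply_one, ht]
    push_cast
    rfl
  obtain ⟨a', b', ha', hb', hle⟩ := degree_le_of_classInner_ne_zero hind hχ hrec
  have e1 : a' = d := by
    rw [hd] at ha'
    exact_mod_cast ha'.symm
  have e2 : b' = m * p ^ j := by
    rw [hind1] at hb'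
    exact_mod_cast hb'.symm
  have hle2 : m * p ^ j ≤ d := by
    rw [hdm, mul_comm]
    exact Nat.mul_le_mul_right m (Nat.pow_le_pow_right hp.out.pos hjb)
  have hdeg : Cfsg.indFun (P : Subgroup G) θ 1 = χ 1 := by
    rw [hind1, hd]
    have : m * p ^ j = d := by omega
    rw [this]
  exact ⟨θ, IsIrrCharacter.isCharacter hθ,
    (eq_of_constituent_of_degree hind hχ hrec hdeg).symm⟩

end Cfsg.Agent.Helper6
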