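import Mathlib
import Cfsg.Prelude.Def_Characters
import Cfsg.Agent.Helper6.PpKerA
import Cfsg.Agent.Helper6.ItoMichler
import Cfsg.Agent.Helper6.FrakND
import Cfsg.Agent.Helper6.NormalComplementBlock2
import Cfsg.Agent.Helper6.Codegree
import Cfsg.Agent.Helper6.NilpPrincipal
import Cfsg.Agent.Helper6.SylowInd
import Cfsg.Agent.Helper6.DerivedLengthBad
import Cfsg.Agent.Helper6.CdpA
import Cfsg.Agent.Helper6.SRealE
import Cfsg.Agent.Helper6.ClassInner

/-!
# Kernel of the `p'`-degree characters (S4591), part B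

Character-theoretic steps: a `p'`-degree character has a Sylow-invariant constituent on every
normal subgroup; normal subgroups in which a Sylow subgroup has trivial centralizer lie in the
kernel of every `p'`-degree character; the common kernel of the `p'`-degree characters meets a
Sylow `p`-subgroup inside its derived subgroup.
-/

set_option autoImplicit false
set_option linter.style.haveILetI false
set_option linter.unusedSimpArgs false

namespace Cfsg.Agent.Helper6.PpKer

open Cfsg.Agent.Helper6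
open scoped ComplexConjugate

universe u

variable {G : Type u} [Group G]

/-- A character of degree prime to `p` has, on every normal subgroup, an irreducible constituent
invariant under a given Sylow `p`-subgroup. -/
theorem exists_sylow_invariant_constituent [Fintype G] (p : ℕ) [hp : Fact p.Prime] (P : Sylow p G)
    (N : Subgroup G) [hN : N.Normal] [Fintype N] (χ : Cfsg.IrrCharacter G)
    (hdeg : ¬ p ∣ Cfsg.charDegree (χ : G → ℂ)) :
    ∃ θ : Cfsg.IrrCharacter N,
      Cfsg.classInner (fun n : N => (χ : G → ℂ) n) (θ : N → ℂ) ≠ 0 ∧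
      ∀ s ∈ (P : Subgroup G), conjFun N (θ : N → ℂ) s = θ := by
  classical
  obtain ⟨θ₀, hθ₀⟩ := exists_constituent_restrict N χ
  have hd := (degree_dvd_of_over N χ θ₀ hθ₀).2
  have hidx : ¬ p ∣ (conjStab N (θ₀ : N → ℂ)).index := fun h => hdeg (dvd_trans h hd)
  obtain ⟨T, hT⟩ := FrakN.exists_sylow_le_of_not_dvd_index' (conjStab N (θ₀ : N → ℂ)) hidx
  obtain ⟨g, hg⟩ := MulAction.exists_smul_eq G T P
  refine ⟨conjIrr N g⁻¹ θ₀, ?_, ?_⟩
  · have hcf := IsCharacter.isClassFunction (IsIrrCharacter.isCharacter χ.2)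
    have h1 : Cfsg.classInner (fun n : N => (χ : G → ℂ) n) (conjFun N (θ₀ : N → ℂ) g⁻¹) =
        Cfsg.classInner (fun n : N => (χ : G → ℂ) n) (θ₀ : N → ℂ) := by
      conv_lhs => rw [← conjFun_restrict N (χ : G → ℂ) hcf g⁻¹]
      exact classInner_conjFun N _ _ g⁻¹
    change Cfsg.classInner (fun n : N => (χ : G → ℂ) n) (conjFun N (θ₀ : N → ℂ) g⁻¹) ≠ 0
    rw [h1]
    exact hθ₀
  · intro s hs
    change conjFun N (conjFun N (θ₀ : N → ℂ) g⁻¹) s = conjFun N (θ₀ : N → ℂ) g⁻¹
    rw [conjFun_mul]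
    have hs' : s ∈ ((g • T : Sylow p G) : Subgroup G) := by rw [hg]; exact hs
    rw [Sylow.coe_subgroup_smul, Subgroup.mem_pointwise_smul_iff_inv_smul_mem] at hs'
    simp only [MulAut.smul_def, MulAut.conj_inv_apply] at hs'
    have ht : conjFun N (θ₀ : N → ℂ) (g⁻¹ * s * g) = θ₀ := hT hs'
    have h2 : g⁻¹ * s = (g⁻¹ * s * g) * g⁻¹ := by group
    rw [h2, ← conjFun_mul, ht]

/-- A normal subgroup in which a Sylow `p`-subgroup has trivial centralizer lies in the kernel of
every irreducible character of degree prime to `p`. -/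
theorem le_kernel_of_inf_centralizer_eq_bot [Finite G] (p : ℕ) [hp : Fact p.Prime] (P : Sylow p G)
    (N : Subgroup G) [hN : N.Normal]
    (hNC : N ⊓ Subgroup.centralizer ((P : Subgroup G) : Set G) = ⊥) (χ : Cfsg.IrrCharacter G)
    (hdeg : ¬ p ∣ Cfsg.charDegree (χ : G → ℂ)) :
    ∀ n ∈ N, (χ : G → ℂ) n = (χ : G → ℂ) 1 := by
  classical
  haveI := Fintype.ofFinite G
  haveI : Fintype N := Fintype.ofFinite N
  obtain ⟨θ, hθ, hinv⟩ := exists_sylow_invariant_constituent p P N χ hdeg
  have hpN := not_dvd_card_of_inf_centralizer_eq_bot p P N hNC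
  obtain ⟨a, ha⟩ := IsPGroup.iff_card.1 P.2
  have hcop : (Nat.card N).Coprime (Nat.card (P : Subgroup G)) := by
    rw [ha]
    exact Nat.Coprime.pow_right a ((Nat.Prime.coprime_iff_not_dvd hp.out).mpr hpN).symm
  have hθ1 : (θ : N → ℂ) = fun _ => 1 := by
    apply invariant_eq_one_of_centralizer_bot N (P : Subgroup G)
      (fun s _ g hg => hN.conj_mem g hg s) p P.2 hcop hNC (θ : N → ℂ) θ.2
    intro s hs g g' hgg'
    have h1 := congrFun (hinv s hs) g
    unfold conjFun at h1
    rw [← h1]
    have h2 : g' = ⟨s * (g : G) * s⁻¹, hN.conj_mem g g.2 s⟩ := Subtype.ext hgg'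
    rw [h2]
  rw [hθ1, classInner_def] at hθ
  have hsum : ∑ n : N, (χ : G → ℂ) n ≠ 0 := by
    intro h
    apply hθ
    have : ∑ n : N, (χ : G → ℂ) n * conj (1 : ℂ) = 0 := by
      simp only [map_one, mul_one]
      exact h
    rw [this, mul_zero]
  rw [sum_normal_irr N χ.2] at hsum
  by_contra hcon
  rw [if_neg hcon] at hsum
  exact hsum rfl

/-- the set of irreducible characters of degree prime to `p` -/
def pPrimeIrr (p : ℕ) (G : Type u) [Group G] : Set (Cfsg.IrrCharacter G) :=
  {χ | ¬ p ∣ Cfsg.charDegree (χ : G → ℂ)}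

/-- A linear character of a Sylow `p`-subgroup is a constituent of the restriction of some
irreducible character of degree prime to `p`. -/
theorem exists_pPrime_over_linear [Fintype G] (p : ℕ) [hp : Fact p.Prime] (P : Sylow p G)
    [Fintype (P : Subgroup G)] (μ : (P : Subgroup G) →* ℂˣ) :
    ∃ θ : Cfsg.IrrCharacter G, θ ∈ pPrimeIrr p G ∧
      Cfsg.classInner (fun y : (P : Subgroup G) => (θ : G → ℂ) y)
        (fun y : (P : Subgroup G) => ((μ y : ℂˣ) : ℂ)) ≠ 0 := by
  classical
  set lam : ↥(P : Subgroup G) → ℂ := fun y => ((μ y : ℂˣ) : ℂ) with hlam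
  have hlamirr : Cfsg.IsIrrCharacter (P : Subgroup G) lam := isIrrCharacter_of_hom μ
  have hInd : Cfsg.IsCharacter G (Cfsg.indFun (P : Subgroup G) lam) :=
    isCharacter_indFun _ lam (IsIrrCharacter.isCharacter hlamirr)
  have hInd1 : Cfsg.indFun (P : Subgroup G) lam 1 = ((P : Subgroup G).index : ℂ) := by
    rw [indFun_apply_one, hlam]
    simp
  obtain ⟨θ, hθ, hne, t, ht, hpt⟩ :=
    exists_constituent_degree_not_dvd hInd p _ hInd1 P.not_dvd_index
  refine ⟨⟨θ, hθ⟩, ?_, ?_⟩
  · change ¬ p ∣ Cfsg.charDegree θ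
    rw [SReal.charDegree_eq_of_apply_one θ t ht]
    exact hpt
  · rw [frobenius_reciprocity _ lam θ
      (IsCharacter.isClassFunction (IsIrrCharacter.isCharacter hθ))] at hne
    rw [classInner_conj_symm] 
    intro h
    apply hne
    have := congrArg conj h
    rw [Complex.conj_conj, map_zero] at this
    exact this

/-- The common kernel of the irreducible characters of degree prime to `p` meets a Sylow
`p`-subgroup inside its derived subgroup. -/
theorem commonKernel_inf_sylow_le_commutator [Finite G] (p : ℕ) [hp : Fact p.Prime]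
    (P : Sylow p G) :
    commonKernel (pPrimeIrr p G) ⊓ (P : Subgroup G) ≤ ⁅(P : Subgroup G), (P : Subgroup G)⁆ := by
  classical
  haveI := Fintype.ofFinite G
  haveI : Fintype (P : Subgroup G) := Fintype.ofFinite _
  intro x hx
  obtain ⟨hxK, hxP⟩ := hx
  by_contra hnot
  have hnot' : (⟨x, hxP⟩ : (P : Subgroup G)) ∉ commutator (P : Subgroup G) := by
    intro h
    apply hnot
    rw [← Subgroup.map_subtype_commutator]
    exact ⟨⟨x, hxP⟩, h, rfl⟩
  have hab1 : (Abelianization.of (⟨x, hxP⟩ : (P : Subgroup G))) ≠ 1 := by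
    intro h
    apply hnot'
    rw [← Abelianization.ker_of]
    exact h
  obtain ⟨ν, hν⟩ := Cdp.exists_hom_ne_one (A := Abelianization (P : Subgroup G))
    (fun a b => mul_comm a b) _ hab1
  set μ : (P : Subgroup G) →* ℂˣ := ν.comp Abelianization.of with hμ
  obtain ⟨θ, hθp, hθne⟩ := exists_pPrime_over_linear p P μ
  set K' : Subgroup (P : Subgroup G) :=
    (commonKernel (pPrimeIrr p G)).subgroupOf (P : Subgroup G) with hK'
  haveI : K'.Normal := Subgroup.normal_subgroupOf
  have hker : ∀ n ∈ K', (θ : G → ℂ) ((n : (P : Subgroup G)) : G) = (θ : G → ℂ) 1 := by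
    intro n hn
    rw [hK', Subgroup.mem_subgroupOf] at hn
    exact hn θ hθp
  have h1 := ker_constituent (P : Subgroup G) K' θ hker
    ⟨fun y => ((μ y : ℂˣ) : ℂ), isIrrCharacter_of_hom μ⟩ hθne ⟨x, hxP⟩
    (by rw [hK', Subgroup.mem_subgroupOf]; exact hxK)
  simp only [map_one, Units.val_one] at h1
  apply hν
  have h2 : μ ⟨x, hxP⟩ = 1 := Units.ext h1
  exact h2

end Cfsg.Agent.Helper6.PpKer
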