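import Mathlib
import Cfsg.Prelude.Def_Characters
import Cfsg.Agent.Helper6.PpKerB
import Cfsg.Agent.Helper6.TateG
import Cfsg.Agent.Helper6.CoprimeExt
import Cfsg.Agent.Helper6.SmallDegree
import Cfsg.Agent.Helper1.Tate

/-!
# Kernel of the `p'`-degree characters (S4591), part C

A normal subgroup meeting a Sylow `p`-subgroup inside its derived subgroup has a normal Hall
`p'`-subgroup, normal in the whole group (Tate).  A normal `p'`-subgroup in the common kernel of
the `p'`-degree characters has no nontrivial fixed points under a Sylow `p`-subgroup.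
-/

set_option autoImplicit false
set_option linter.style.haveILetI false
set_option linter.unusedSimpArgs false

namespace Cfsg.Agent.Helper6.PpKer

open Cfsg.Agent.Helper6
open scoped ComplexConjugate

universe u

variable {G : Type u} [Group G]

/-- Tate's theorem, in the form needed. -/
theorem exists_normal_hall_of_inf_le_commutator [Finite G] (p : ℕ) [hp : Fact p.Prime]
    (P : Sylow p G) (K : Subgroup G) [hK : K.Normal]
    (h : K ⊓ (P : Subgroup G) ≤ ⁅(P : Subgroup G), (P : Subgroup G)⁆) :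
    ∃ W : Subgroup G, W.Normal ∧ ¬ p ∣ Nat.card W ∧ W ≤ K ∧
      ∀ k ∈ K, ∃ w ∈ W, ∃ q ∈ K ⊓ (P : Subgroup G), k = w * q := by
  classical
  have hfrat : K ⊓ (P : Subgroup G) ≤
      (frattini (P : Subgroup G)).map (P : Subgroup G).subtype :=
    h.trans (Tate.commutator_le_map_frattini p P.2)
  obtain ⟨Q, W₀, hW₀n, hcomp⟩ := Cfsg.Agent.Helper1.tate_normal_pcomplement P K hfrat
  haveI := hW₀n
  have hpW₀ : ¬ p ∣ Nat.card W₀ := not_dvd_card_of_isComplement' Q W₀ hcomp
  have hcardW : Nat.card (W₀.map K.subtype) = Nat.card W₀ :=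
    Subgroup.card_map_of_injective K.subtype_injective
  -- conjugates of elements of `W₀` stay in `W₀`
  have hconj : ∀ (w : K), w ∈ W₀ → ∀ g : G, ∀ hm : g * (w : G) * g⁻¹ ∈ K,
      (⟨g * (w : G) * g⁻¹, hm⟩ : K) ∈ W₀ := by
    intro w hw g hm
    apply mem_of_isPRegular_of_isComplement' Q W₀ hcomp
    unfold Cfsg.IsPRegular
    have h1 : orderOf (⟨g * (w : G) * g⁻¹, hm⟩ : K) = orderOf w := by
      rw [← Subgroup.orderOf_coe, ← Subgroup.orderOf_coe]
      have := (MulAut.conj g).orderOf_eq (w : G)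
      rwa [MulAut.conj_apply] at this
    rw [h1]
    intro hd
    apply hpW₀
    have h2 : orderOf (⟨w, hw⟩ : W₀) ∣ Nat.card W₀ := orderOf_dvd_natCard _
    have h3 : orderOf (⟨w, hw⟩ : W₀) = orderOf w := by
      rw [← Subgroup.orderOf_coe]
    rw [h3] at h2
    exact dvd_trans hd h2
  refine ⟨W₀.map K.subtype, ?_, ?_, Subgroup.map_subtype_le _, ?_⟩
  · constructor
    rintro _ ⟨w, hw, rfl⟩ g
    exact ⟨⟨g * (w : G) * g⁻¹, hK.conj_mem _ w.2 g⟩, hconj w hw g _, rfl⟩
  · rw [hcardW]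
    exact hpW₀
  · -- a conjugate of `Q` lies in `P`
    have hQ' : IsPGroup p ((Q : Subgroup K).map K.subtype) := Q.2.map _
    obtain ⟨R, hR⟩ := hQ'.exists_le_sylow
    obtain ⟨g, hg⟩ := MulAction.exists_smul_eq G R P
    have hgq : ∀ q : K, q ∈ (Q : Subgroup K) → g * (q : G) * g⁻¹ ∈ (P : Subgroup G) := by
      intro q hq
      rw [← hg, Sylow.coe_subgroup_smul, Subgroup.mem_pointwise_smul_iff_inv_smul_mem]
      simp only [MulAut.smul_def, MulAut.conj_inv_apply]
      have : g⁻¹ * (g * (q : G) * g⁻¹) * g = (q : G) := by group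
      rw [this]
      exact hR ⟨q, hq, rfl⟩
    intro k hk
    have hk' : g⁻¹ * k * g ∈ K := by
      have := hK.conj_mem k hk g⁻¹
      rwa [inv_inv] at this
    obtain ⟨⟨⟨w, hw⟩, ⟨q, hq⟩⟩, hwq, -⟩ :=
      (Subgroup.isComplement_iff_existsUnique.mp hcomp) ⟨g⁻¹ * k * g, hk'⟩
    simp only at hwq
    have hwq' : (w : G) * (q : G) = g⁻¹ * k * g := congrArg Subtype.val hwq
    refine ⟨g * (w : G) * g⁻¹, ⟨⟨g * (w : G) * g⁻¹, hK.conj_mem _ w.2 g⟩, hconj w hw g _, rfl⟩,
      g * (q : G) * g⁻¹, ⟨hK.conj_mem _ q.2 g, hgq q hq⟩, ?_⟩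
    have : g * (w : G) * g⁻¹ * (g * (q : G) * g⁻¹) = g * ((w : G) * (q : G)) * g⁻¹ := by group
    rw [this, hwq']
    group

/-- A normal `p'`-subgroup contained in the kernel of all irreducible characters of degree prime
to `p` has no nontrivial fixed point under a Sylow `p`-subgroup. -/
theorem inf_centralizer_eq_bot_of_le_commonKernel [Finite G] (p : ℕ) [hp : Fact p.Prime]
    (P : Sylow p G) (W : Subgroup G) [hW : W.Normal] (hpW : ¬ p ∣ Nat.card W)
    (hWK : W ≤ commonKernel (pPrimeIrr p G)) :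
    W ⊓ Subgroup.centralizer ((P : Subgroup G) : Set G) = ⊥ := by
  classical
  haveI := Fintype.ofFinite G
  haveI : Fintype W := Fintype.ofFinite W
  by_contra hne
  obtain ⟨a, ha⟩ := IsPGroup.iff_card.1 P.2
  have hcopp : (Nat.card W).Coprime p := ((Nat.Prime.coprime_iff_not_dvd hp.out).mpr hpW).symm
  have hcop : (Nat.card W).Coprime (Nat.card (P : Subgroup G)) := by
    rw [ha]
    exact Nat.Coprime.pow_right a hcopp
  obtain ⟨θ, hθ, hinv, hθ1⟩ := exists_invariant_ne_one W (P : Subgroup G)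
    (fun s _ g hg => hW.conj_mem g hg s) p P.2 hcop hne
  -- the subgroup `H = W P`
  set H : Subgroup G := W ⊔ (P : Subgroup G) with hH
  have hWH : W ≤ H := le_sup_left
  have hPH : (P : Subgroup G) ≤ H := le_sup_right
  haveI : Fintype H := Fintype.ofFinite H
  set WH : Subgroup H := W.subgroupOf H with hWHdef
  haveI : WH.Normal := Subgroup.normal_subgroupOf
  haveI : Fintype WH := Fintype.ofFinite WH
  set e : WH ≃* W := Subgroup.subgroupOfEquivOfLe hWH with he
  set θH : WH → ℂ := θ ∘ e with hθH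
  have hθHirr : Cfsg.IsIrrCharacter WH θH := IsIrrCharacter.comp_mulEquiv e hθ
  have hθcf : Cfsg.IsClassFunction W θ := IsCharacter.isClassFunction (IsIrrCharacter.isCharacter hθ)
  -- invariance
  have hinvH : ∀ (h : H) (n : WH),
      θH ⟨h * n * h⁻¹, (inferInstance : WH.Normal).conj_mem (n : H) n.2 h⟩ = θH n := by
    intro h n
    have hmem : (h : G) ∈ ((W ⊔ (P : Subgroup G) : Subgroup G) : Set G) := h.2
    rw [Subgroup.normal_mul] at hmem
    obtain ⟨w, hw, s, hs, hws⟩ := hmem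
    have hnW : ((n : H) : G) ∈ W := Subgroup.mem_subgroupOf.mp n.2
    have hsn : s * ((n : H) : G) * s⁻¹ ∈ W := hW.conj_mem _ hnW s
    have h1 : θ ⟨s * ((n : H) : G) * s⁻¹, hsn⟩ = θ ⟨((n : H) : G), hnW⟩ :=
      hinv s hs ⟨_, hnW⟩ ⟨_, hsn⟩ rfl
    have h2 : θ (⟨w, hw⟩ * ⟨s * ((n : H) : G) * s⁻¹, hsn⟩ * (⟨w, hw⟩ : W)⁻¹) =
        θ ⟨s * ((n : H) : G) * s⁻¹, hsn⟩ := by
      exact hθcf ⟨s * ((n : H) : G) * s⁻¹, hsn⟩ (⟨w, hw⟩ : W)
    change θ (e _) = θ (e n)
    have h3 : e n = ⟨((n : H) : G), hnW⟩ := Subtype.ext rfl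
    have h4 : e ⟨h * n * h⁻¹, (inferInstance : WH.Normal).conj_mem (n : H) n.2 h⟩ =
        ⟨w, hw⟩ * ⟨s * ((n : H) : G) * s⁻¹, hsn⟩ * (⟨w, hw⟩ : W)⁻¹ := by
      apply Subtype.ext
      change ((h : G) * ((n : H) : G) * (h : G)⁻¹) = w * (s * ((n : H) : G) * s⁻¹) * w⁻¹
      rw [← hws]
      group
    rw [h3, h4, h2, h1]
  -- coprimality
  have hcardWH : Nat.card WH = Nat.card W := Nat.card_congr e.toEquiv
  have hidx : ∃ b : ℕ, WH.index = p ^ b := by
    have h1 : WH.index = W.relIndex H := rfl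
    have h2 : W.relIndex H = W.relIndex (P : Subgroup G) := Subgroup.relIndex_sup_left _ _
    have h3 : W.relIndex (P : Subgroup G) ∣ Nat.card (P : Subgroup G) :=
      Subgroup.relIndex_dvd_card _ _
    rw [ha] at h3
    obtain ⟨b, -, hb⟩ := (Nat.dvd_prime_pow hp.out).mp h3
    exact ⟨b, by rw [h1, h2, hb]⟩
  obtain ⟨b, hb⟩ := hidx
  have hcopH : Nat.Coprime (Nat.card WH) WH.index := by
    rw [hcardWH, hb]
    exact Nat.Coprime.pow_right b hcopp
  obtain ⟨θhat, hθhat, hext⟩ := extends_of_coprime_card WH θH hθHirr hinvH hcopH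
  -- induce to `G`
  have hInd : Cfsg.IsCharacter G (Cfsg.indFun H θhat) :=
    isCharacter_indFun H θhat (IsIrrCharacter.isCharacter hθhat)
  obtain ⟨d, hd1, hdW, -⟩ := IsIrrCharacter.degree_dvd_card hθ
  have hθhat1 : θhat 1 = (d : ℂ) := by
    have h1 := hext 1
    rw [hθH] at h1
    simp only [Function.comp_apply, map_one] at h1
    have : ((1 : WH) : H) = 1 := rfl
    rw [this] at h1
    rw [h1, hd1]
  have hInd1 : Cfsg.indFun H θhat 1 = ((H.index * d : ℕ) : ℂ) := by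
    rw [indFun_apply_one, hθhat1]
    push_cast
    ring
  have hpd : ¬ p ∣ H.index * d := by
    intro hdvd
    rcases (Nat.Prime.dvd_mul hp.out).mp hdvd with h1 | h1
    · exact P.not_dvd_index (dvd_trans h1 (Subgroup.index_dvd_of_le hPH))
    · exact hpW (dvd_trans h1 hdW)
  obtain ⟨χ, hχ, hne', t, ht, hpt⟩ :=
    exists_constituent_degree_not_dvd hInd p _ hInd1 hpd
  have hχp : (⟨χ, hχ⟩ : Cfsg.IrrCharacter G) ∈ pPrimeIrr p G := by
    change ¬ p ∣ Cfsg.charDegree χ
    rw [SReal.charDegree_eq_of_apply_one χ t ht]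
    exact hpt
  rw [frobenius_reciprocity H θhat χ
    (IsCharacter.isClassFunction (IsIrrCharacter.isCharacter hχ))] at hne'
  have hne'' : Cfsg.classInner (fun h : H => χ h) θhat ≠ 0 := by
    rw [classInner_conj_symm]
    intro h
    apply hne'
    have := congrArg conj h
    rw [Complex.conj_conj, map_zero] at this
    exact this
  have hker : ∀ n ∈ WH, ((⟨χ, hχ⟩ : Cfsg.IrrCharacter G) : G → ℂ) ((n : H) : G) =
      ((⟨χ, hχ⟩ : Cfsg.IrrCharacter G) : G → ℂ) 1 := by
    intro n hn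
    exact hWK (Subgroup.mem_subgroupOf.mp hn) ⟨χ, hχ⟩ hχp
  have hk := ker_constituent H WH ⟨χ, hχ⟩ hker ⟨θhat, hθhat⟩ hne''
  -- so `θ` is constant
  have hconst : ∀ w : W, θ w = θ 1 := by
    intro w
    have hwH : (⟨(w : G), hWH w.2⟩ : H) ∈ WH := Subgroup.mem_subgroupOf.mpr w.2
    have h1 := hk _ hwH
    have h2 := hext ⟨_, hwH⟩
    have h3 := hext 1
    change θhat (⟨(w : G), hWH w.2⟩ : H) = θhat 1 at h1
    have h4 : ((1 : WH) : H) = 1 := rfl
    rw [h4] at h3
    have h5 : ((⟨⟨(w : G), hWH w.2⟩, hwH⟩ : WH) : H) = ⟨(w : G), hWH w.2⟩ := rfl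
    rw [h5] at h2
    rw [h2, h3, hθH] at h1
    simp only [Function.comp_apply, map_one] at h1
    have h6 : e ⟨⟨(w : G), hWH w.2⟩, hwH⟩ = w := Subtype.ext rfl
    rw [h6] at h1
    exact h1
  have horth : Cfsg.classInner θ (fun _ => (1 : ℂ)) = 0 :=
    classInner_irr_ne hθ isIrrCharacter_one hθ1
  rw [classInner_def] at horth
  have hsum : ∑ w : W, θ w * conj ((fun _ => (1 : ℂ)) w) = (Nat.card W : ℂ) * θ 1 := by
    simp only [map_one, mul_one]
    rw [Finset.sum_congr rfl (fun w _ => hconst w), Finset.sum_const, Finset.card_univ,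
      nsmul_eq_mul, Nat.card_eq_fintype_card]
  rw [hsum] at horth
  have hW0 : (Nat.card W : ℂ) ≠ 0 := by
    have : 0 < Nat.card W := Nat.card_pos
    exact_mod_cast this.ne'
  rw [← mul_assoc, inv_mul_cancel₀ hW0, one_mul] at horth
  exact IsIrrCharacter.apply_one_ne_zero hθ horth

end Cfsg.Agent.Helper6.PpKer
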