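import Mathlib
import Cfsg.Prelude.Def_Characters
import Cfsg.Agent.Helper6.PpKerC
import Cfsg.Agent.Helper6.CosetAvg
import Cfsg.Agent.Helper6.RepEigen
import Cfsg.Agent.Helper6.LinearCount
import Cfsg.Agent.Helper6.Linear

/-!
# Kernel of the `p'`-degree characters (S4591), part D

The normal core of `N P'` lies in the kernel of every `p'`-degree character, and the final
equality.
-/

set_option autoImplicit false
set_option linter.style.haveILetI false
set_option linter.unusedSimpArgs false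

namespace Cfsg.Agent.Helper6.PpKer

open Cfsg.Agent.Helper6
open scoped ComplexConjugate

universe u

variable {G : Type u} [Group G]

/-- The restriction of a character of degree prime to `p` to a Sylow `p`-subgroup has a linear
constituent. -/
theorem exists_linear_constituent_sylow [Fintype G] (p : ℕ) [hp : Fact p.Prime] (P : Sylow p G)
    [Fintype (P : Subgroup G)] (χ : Cfsg.IrrCharacter G)
    (hdeg : ¬ p ∣ Cfsg.charDegree (χ : G → ℂ)) :
    ∃ μ : (P : Subgroup G) →* ℂˣ,
      Cfsg.classInner (fun y : (P : Subgroup G) => (χ : G → ℂ) y)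
        (fun y : (P : Subgroup G) => ((μ y : ℂˣ) : ℂ)) ≠ 0 := by
  classical
  have hχc := IsIrrCharacter.isCharacter χ.2
  have hres : Cfsg.IsCharacter (P : Subgroup G) (fun y : (P : Subgroup G) => (χ : G → ℂ) y) :=
    IsCharacter.restrict _ hχc
  have h1 : (fun y : (P : Subgroup G) => (χ : G → ℂ) y) 1 =
      (Cfsg.charDegree (χ : G → ℂ) : ℂ) := by
    rw [charDegree_cast_of_isCharacter hχc]
    rfl
  obtain ⟨θ, hθ, hne, t, ht, hpt⟩ := exists_constituent_degree_not_dvd hres p _ h1 hdeg
  obtain ⟨d, hd1, hdP, -⟩ := IsIrrCharacter.degree_dvd_card hθ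
  obtain ⟨a, ha⟩ := IsPGroup.iff_card.1 P.2
  have htd : t = d := by
    have : (t : ℂ) = (d : ℂ) := ht.symm.trans hd1
    exact_mod_cast this
  rw [ha, ← htd] at hdP
  obtain ⟨b, -, hb⟩ := (Nat.dvd_prime_pow hp.out).mp hdP
  have hb0 : b = 0 := by
    by_contra hb0
    apply hpt
    rw [hb]
    exact dvd_pow_self p hb0
  rw [hb0, pow_zero] at hb
  rw [hb, Nat.cast_one] at ht
  obtain ⟨μ, hμ⟩ := exists_hom_of_irr_degree_one hθ ht
  refine ⟨μ, ?_⟩
  rw [← hμ]
  exact hne

/-- The normal core of `N P'` lies in the kernel of every irreducible character of degree prime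
to `p`, when `C_N(P) = 1`. -/
theorem normalCore_le_kernel [Finite G] (p : ℕ) [hp : Fact p.Prime] (P : Sylow p G)
    (N : Subgroup G) [hN : N.Normal]
    (hNC : N ⊓ Subgroup.centralizer ((P : Subgroup G) : Set G) = ⊥) (χ : Cfsg.IrrCharacter G)
    (hdeg : ¬ p ∣ Cfsg.charDegree (χ : G → ℂ)) :
    ∀ x ∈ (N ⊔ ⁅(P : Subgroup G), (P : Subgroup G)⁆).normalCore,
      (χ : G → ℂ) x = (χ : G → ℂ) 1 := by
  classical
  haveI := Fintype.ofFinite G
  haveI : Fintype (P : Subgroup G) := Fintype.ofFinite _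
  set L : Subgroup G := (N ⊔ ⁅(P : Subgroup G), (P : Subgroup G)⁆).normalCore with hL
  haveI : L.Normal := Subgroup.normalCore_normal _
  haveI : Fintype L := Fintype.ofFinite _
  have hNker := le_kernel_of_inf_centralizer_eq_bot p P N hNC χ hdeg
  obtain ⟨μ, hμ⟩ := exists_linear_constituent_sylow p P χ hdeg
  obtain ⟨n, ρ, hirr, hρ⟩ := χ.2
  haveI := hirr
  -- `N` acts trivially
  have hρN : ∀ m ∈ N, ρ m = LinearMap.id := by
    intro m hm
    have h1 := hNker m hm
    rw [← hρ, Representation.char_one] at h1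
    exact (char_eq_finrank_iff ρ m).mp h1
  have hmul : ∀ (g m : G), m ∈ N → (χ : G → ℂ) (g * m) = (χ : G → ℂ) g := by
    intro g m hm
    rw [← hρ]
    unfold Representation.character
    rw [map_mul, hρN m hm]
    rfl
  by_contra hnot
  have hsum0 : ∑ x : L, (χ : G → ℂ) x = 0 := by
    rw [sum_normal_irr L χ.2, if_neg hnot]
  -- the coset average vanishes
  have havg : cosetAvg L ρ.character = 0 := by
    rcases cosetAvg_irr ρ L with h | h
    · exfalso
      have h1 := congrFun h 1
      unfold cosetAvg at h1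
      simp only [one_mul] at h1
      rw [hρ, hsum0, mul_zero] at h1
      exact IsIrrCharacter.apply_one_ne_zero χ.2 h1.symm
    · exact h
  have hcos : ∀ g : G, ∑ x : L, (χ : G → ℂ) (g * x) = 0 := by
    intro g
    have h1 := congrFun havg g
    unfold cosetAvg at h1
    rw [hρ] at h1
    have hL0 : (Nat.card L : ℂ) ≠ 0 := by
      have : 0 < Nat.card L := Nat.card_pos
      exact_mod_cast this.ne'
    have h2 := mul_eq_zero.mp h1
    rcases h2 with h2 | h2
    · exact absurd (inv_eq_zero.mp h2) hL0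
    · exact h2
  -- the twisted sum
  set A : ℂ := ∑ y : (P : Subgroup G), conj ((μ y : ℂˣ) : ℂ) * (χ : G → ℂ) y with hA
  have hA0 : A ≠ 0 := by
    intro h
    apply hμ
    rw [classInner_def]
    have : ∑ y : (P : Subgroup G), (χ : G → ℂ) y * conj ((μ y : ℂˣ) : ℂ) = A := by
      rw [hA]
      apply Finset.sum_congr rfl
      intro y _
      ring
    rw [this, h, mul_zero]
  have hkey : ∀ x : L, ∑ y : (P : Subgroup G), conj ((μ y : ℂˣ) : ℂ) * (χ : G → ℂ) (y * x) = A := by
    intro x
    have hx : (x : G) ∈ ((N ⊔ ⁅(P : Subgroup G), (P : Subgroup G)⁆ : Subgroup G) : Set G) :=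
      Subgroup.normalCore_le _ x.2
    rw [Subgroup.normal_mul] at hx
    obtain ⟨m, hm, c, hc, hmc⟩ := hx
    rw [← Subgroup.map_subtype_commutator] at hc
    obtain ⟨c', hc', hcc'⟩ := hc
    have hcP : c ∈ (P : Subgroup G) := by rw [← hcc']; exact c'.2
    have hcc : (⟨c, hcP⟩ : (P : Subgroup G)) ∈ commutator (P : Subgroup G) := by
      have : c' = ⟨c, hcP⟩ := Subtype.ext hcc'
      rw [← this]
      exact hc'
    have hμc : μ ⟨c, hcP⟩ = 1 := hom_eq_one_of_mem_commutator μ hcc
    have h1 : ∀ y : (P : Subgroup G), (χ : G → ℂ) ((y : G) * (x : G)) =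
        (χ : G → ℂ) (((y * ⟨c, hcP⟩ : (P : Subgroup G)) : G)) := by
      intro y
      have h2 : (y : G) * (x : G) = ((y : G) * c) * (c⁻¹ * m * c) := by
        rw [← hmc]; group
      rw [h2, hmul _ _ (by
        have := hN.conj_mem m hm c⁻¹
        rwa [inv_inv] at this)]
      rfl
    rw [Finset.sum_congr rfl (fun y _ => by rw [h1 y])]
    rw [hA]
    apply Fintype.sum_equiv (Equiv.mulRight (⟨c, hcP⟩ : (P : Subgroup G)))
    intro y
    simp only [Equiv.coe_mulRight]
    rw [map_mul, hμc, mul_one]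
  have hS : ∑ y : (P : Subgroup G), conj ((μ y : ℂˣ) : ℂ) * ∑ x : L, (χ : G → ℂ) (y * x) = 0 := by
    apply Finset.sum_eq_zero
    intro y _
    rw [hcos, mul_zero]
  have hS' : ∑ y : (P : Subgroup G), conj ((μ y : ℂˣ) : ℂ) * ∑ x : L, (χ : G → ℂ) (y * x) =
      (Nat.card L : ℂ) * A := by
    simp_rw [Finset.mul_sum]
    rw [Finset.sum_comm]
    rw [Finset.sum_congr rfl (fun x _ => hkey x), Finset.sum_const, Finset.card_univ,
      nsmul_eq_mul, Nat.card_eq_fintype_card]
  rw [hS'] at hS
  have hL0 : (Nat.card L : ℂ) ≠ 0 := by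
    have : 0 < Nat.card L := Nat.card_pos
    exact_mod_cast this.ne'
  rcases mul_eq_zero.mp hS with h | h
  · exact hL0 h
  · exact hA0 h

/-- **S4591.**  The intersection of the kernels of the irreducible characters of degree prime to
`p` is the normal core of `N P'`, where `N` is the largest normal subgroup with `C_N(P) = 1`. -/
theorem kernel_pPrime_eq_normalCore [Finite G] (p : ℕ) [hp : Fact p.Prime] (P : Sylow p G)
    (N : Subgroup G) [hN : N.Normal]
    (hNC : N ⊓ Subgroup.centralizer ((P : Subgroup G) : Set G) = ⊥)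
    (hmax : ∀ L : Subgroup G, L.Normal →
      L ⊓ Subgroup.centralizer ((P : Subgroup G) : Set G) = ⊥ → L ≤ N) :
    {g : G | ∀ χ : Cfsg.IrrCharacter G, ¬ p ∣ Cfsg.charDegree (χ : G → ℂ) →
        (χ : G → ℂ) g = (χ : G → ℂ) 1} =
      ((N ⊔ ⁅(P : Subgroup G), (P : Subgroup G)⁆).normalCore : Set G) := by
  classical
  set K : Subgroup G := commonKernel (pPrimeIrr p G) with hK
  have hKset : {g : G | ∀ χ : Cfsg.IrrCharacter G, ¬ p ∣ Cfsg.charDegree (χ : G → ℂ) →
        (χ : G → ℂ) g = (χ : G → ℂ) 1} = (K : Set G) := by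
    ext g
    rfl
  rw [hKset]
  apply congrArg
  apply le_antisymm
  · -- `K ≤ core (N P')`
    obtain ⟨W, hWn, hpW, hWK, hdec⟩ := exists_normal_hall_of_inf_le_commutator p P K
      (commonKernel_inf_sylow_le_commutator p P)
    haveI := hWn
    have hWC := inf_centralizer_eq_bot_of_le_commonKernel p P W hpW hWK
    have hWN : W ≤ N := hmax W hWn hWC
    apply Subgroup.normal_le_normalCore.mpr
    intro k hk
    obtain ⟨w, hw, q, hq, rfl⟩ := hdec k hk
    exact Subgroup.mul_mem _ (Subgroup.mem_sup_left (hWN hw))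
      (Subgroup.mem_sup_right (commonKernel_inf_sylow_le_commutator p P hq))
  · intro x hx χ hχ
    exact normalCore_le_kernel p P N hNC χ hχ x hx

end Cfsg.Agent.Helper6.PpKer
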