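import Mathlib
import Cfsg.Prelude.Def_Characters
import Cfsg.Prelude.Def_Blocks
import Cfsg.Agent.Helper6.Osima1
import Cfsg.Agent.Helper6.BlockBasic

/-!
# The local ring at a maximal ideal of the algebraic integers, as a subring of `ℂ`

It is integrally closed in `ℂ`, and its elements outside the local ideal are units.
-/

set_option autoImplicit false
set_option linter.style.haveILetI false

namespace Cfsg.Agent.Helper6.PrCnt

open Polynomial

variable {M : Ideal Cfsg.AlgInt}

/-- The local ring at `M`, as a subring of `ℂ`. -/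
def localSubring (hM : M.IsMaximal) : Subring ℂ where
  carrier := {z | Cfsg.MemLocalRing M z}
  mul_mem' := fun hx hy => MemLocalRing.mul hM hx hy
  one_mem' := memLocalRing_one hM
  add_mem' := fun hx hy => MemLocalRing.add hM hx hy
  zero_mem' := memLocalRing_zero hM
  neg_mem' := fun hx => MemLocalRing.neg hx

theorem mem_localSubring (hM : M.IsMaximal) (z : ℂ) :
    z ∈ localSubring hM ↔ Cfsg.MemLocalRing M z := Iff.rfl

/-- Elements of the local ring outside the local ideal are invertible in the local ring. -/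
theorem memLocalRing_inv (hM : M.IsMaximal) {z : ℂ} (hz : Cfsg.MemLocalRing M z)
    (hnot : ¬ Cfsg.MemLocalIdeal M z) : Cfsg.MemLocalRing M z⁻¹ := by
  obtain ⟨a, b, hb, rfl⟩ := hz
  have ha : a ∉ M := by
    intro ha
    exact hnot ⟨a, b, ha, hb, rfl⟩
  refine ⟨b, a, ha, ?_⟩
  rw [inv_div]

/-- A unit minus a non-unit is outside the local ideal. -/
theorem not_memLocalIdeal_sub (hM : M.IsMaximal) {x y : ℂ} (hx : ¬ Cfsg.MemLocalIdeal M x)
    (hy : Cfsg.MemLocalIdeal M y) : ¬ Cfsg.MemLocalIdeal M (x - y) := by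
  intro h
  apply hx
  have := MemLocalIdeal.add hM h hy
  simpa using this

/-- `1` is not in the local ideal. -/
theorem not_memLocalIdeal_one (hM : M.IsMaximal) : ¬ Cfsg.MemLocalIdeal M 1 := by
  rintro ⟨a, b, ha, hb, h⟩
  have hb0 : (b : ℂ) ≠ 0 := algInt_coe_ne_zero hb
  have : (a : ℂ) = (b : ℂ) := by
    field_simp at h
    exact h
  have hab : a = b := Subtype.ext this
  exact hb (hab ▸ ha)

/-- The local ring is integrally closed in `ℂ`. -/
theorem mem_localSubring_of_isIntegral (hM : M.IsMaximal) {z : ℂ}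
    (hz : IsIntegral (localSubring hM) z) : Cfsg.MemLocalRing M z := by
  classical
  obtain ⟨P, hPmonic, hPz⟩ := hz
  -- common denominator of the coefficients
  have hcoef : ∀ i : ℕ, ∃ a b : Cfsg.AlgInt, b ∉ M ∧ (a : ℂ) / (b : ℂ) = ((P.coeff i : localSubring hM) : ℂ) :=
    fun i => (P.coeff i).2
  choose a b hb hab using hcoef
  set n := P.natDegree with hn
  set d : Cfsg.AlgInt := ∏ i ∈ Finset.range n, b i with hd
  have hdM : d ∉ M := by
    rw [hd]
    intro h
    obtain ⟨i, _, hi⟩ := (hM.isPrime.prod_mem_iff).mp h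
    exact hb i hi
  have hd0 : (d : ℂ) ≠ 0 := algInt_coe_ne_zero hdM
  -- each coefficient times `d` is an algebraic integer
  have hcoefd : ∀ i ∈ Finset.range n, ∃ c : Cfsg.AlgInt,
      (c : ℂ) = (d : ℂ) * ((P.coeff i : localSubring hM) : ℂ) := by
    intro i hi
    refine ⟨a i * ∏ j ∈ (Finset.range n).erase i, b j, ?_⟩
    have hbi0 : (b i : ℂ) ≠ 0 := algInt_coe_ne_zero (hb i)
    rw [← hab i, hd, ← Finset.mul_prod_erase _ _ hi]
    push_cast
    field_simp
  -- `d * z` is integral over `ℤ`
  have hint : IsIntegral ℤ ((d : ℂ) * z) := by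
    -- the polynomial relation
    have hrel : z ^ n + ∑ i ∈ Finset.range n, ((P.coeff i : localSubring hM) : ℂ) * z ^ i = 0 := by
      have h1 := hPz
      rw [Polynomial.eval₂_eq_sum_range, Finset.sum_range_succ, ← hn] at h1
      have h2 : P.coeff n = 1 := hPmonic.coeff_natDegree
      rw [h2] at h1
      simp only [map_one, one_mul] at h1
      rw [add_comm] at h1
      exact h1
    -- multiply by `d ^ n`
    have hrel2 : ((d : ℂ) * z) ^ n + ∑ i ∈ Finset.range n,
        ((d : ℂ) * ((P.coeff i : localSubring hM) : ℂ)) * (d : ℂ) ^ (n - 1 - i) * ((d : ℂ) * z) ^ i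
          = 0 := by
      have h3 : ((d : ℂ) * z) ^ n + ∑ i ∈ Finset.range n,
          ((d : ℂ) * ((P.coeff i : localSubring hM) : ℂ)) * (d : ℂ) ^ (n - 1 - i) *
            ((d : ℂ) * z) ^ i =
          (d : ℂ) ^ n * (z ^ n + ∑ i ∈ Finset.range n,
            ((P.coeff i : localSubring hM) : ℂ) * z ^ i) := by
        rw [mul_add, mul_pow, Finset.mul_sum]
        congr 1
        apply Finset.sum_congr rfl
        intro i hi
        have hi' : i < n := Finset.mem_range.mp hi
        have : (d : ℂ) ^ n = (d : ℂ) * (d : ℂ) ^ (n - 1 - i) * (d : ℂ) ^ i := by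
          rw [← pow_succ', ← pow_add]
          congr 1
          omega
        rw [this, mul_pow]
        ring
      rw [h3, hrel, mul_zero]
    -- build a monic integer-closure polynomial
    choose! c hc using hcoefd
    let Q : Polynomial Cfsg.AlgInt :=
      X ^ n + ∑ i ∈ Finset.range n, C (c i * d ^ (n - 1 - i)) * X ^ i
    have hQmonic : Q.Monic := by
      apply Polynomial.monic_X_pow_add
      apply lt_of_le_of_lt (Polynomial.degree_sum_le _ _)
      apply (Finset.sup_lt_iff (WithBot.bot_lt_coe n)).mpr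
      intro i hi
      apply lt_of_le_of_lt (Polynomial.degree_C_mul_X_pow_le _ _)
      exact WithBot.coe_lt_coe.mpr (Finset.mem_range.mp hi)
    have hQz : Polynomial.eval₂ (algebraMap Cfsg.AlgInt ℂ) ((d : ℂ) * z) Q = 0 := by
      simp only [Q, Polynomial.eval₂_add, Polynomial.eval₂_pow, Polynomial.eval₂_X,
        Polynomial.eval₂_finsetSum, Polynomial.eval₂_mul, Polynomial.eval₂_C]
      rw [← hrel2]
      congr 1
      apply Finset.sum_congr rfl
      intro i hi
      have : (algebraMap Cfsg.AlgInt ℂ) (c i * d ^ (n - 1 - i)) =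
          ((d : ℂ) * ((P.coeff i : localSubring hM) : ℂ)) * (d : ℂ) ^ (n - 1 - i) := by
        rw [← hc i hi]
        simp
      rw [this]
    have h4 : IsIntegral Cfsg.AlgInt ((d : ℂ) * z) := ⟨Q, hQmonic, hQz⟩
    exact isIntegral_trans _ h4
  refine ⟨⟨(d : ℂ) * z, hint⟩, d, hdM, ?_⟩
  simp only
  field_simp

end Cfsg.Agent.Helper6.PrCnt
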