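import Mathlib

/-!
# A spectral ("Fitting") idempotent with coefficients in an integrally closed local subring

Let `R'` be a subring of `ℂ` that is integrally closed in `ℂ`, with a predicate `J` (the maximal
ideal) such that a non-member minus a member is invertible in `R'`.  If `t` is an element of a
`ℂ`-algebra annihilated by a monic polynomial `χ'` over `R'` having `1` as a root, then some
polynomial expression `ε = t * s(t)` with coefficients in `R'` is an idempotent and is sent to `1`
by every algebra homomorphism to `ℂ` sending `t` to `1`.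
-/

set_option autoImplicit false
set_option linter.style.haveILetI false

namespace Cfsg.Agent.Helper6.PrCnt

open Polynomial

variable (R' : Subring ℂ)

/-- The product of the linear factors attached to a multiset of elements of `R'`. -/
noncomputable def pr (S : Multiset R') : Polynomial R' :=
  (S.map fun z => X - C z).prod

theorem pr_zero : pr R' 0 = 1 := by simp [pr]

theorem pr_cons (z : R') (S : Multiset R') : pr R' (z ::ₘ S) = (X - C z) * pr R' S := by
  simp [pr]

theorem pr_add (S T : Multiset R') : pr R' (S + T) = pr R' S * pr R' T := by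
  simp [pr]

theorem pr_map (S : Multiset R') :
    (pr R' S).map R'.subtype = ((S.map fun z : R' => (z : ℂ)).map fun a => X - C a).prod := by
  rw [pr, Polynomial.map_multiset_prod, Multiset.map_map, Multiset.map_map]
  congr 1
  apply Multiset.map_congr rfl
  intro z _
  simp

theorem isCoprime_linear (J : ℂ → Prop)
    (hunit : ∀ x ∈ R', ∀ y ∈ R', ¬ J x → J y → (x - y)⁻¹ ∈ R')
    (hJ0 : J 0) (μ lam : R') (hμ : J μ) (hlam : ¬ J lam) :
    IsCoprime (X - C μ : Polynomial R') (X - C lam) := by
  have hc := hunit lam lam.2 μ μ.2 hlam hμ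
  have hne : ((lam : ℂ) - μ) ≠ 0 := by
    intro h
    have : (lam : ℂ) = μ := sub_eq_zero.mp h
    rw [this] at hlam
    exact hlam hμ
  set c : R' := ⟨((lam : ℂ) - μ)⁻¹, hc⟩ with hcdef
  have hcmul : c * (lam - μ) = 1 := by
    apply Subtype.ext
    rw [hcdef]
    push_cast
    exact inv_mul_cancel₀ hne
  refine ⟨C c, -C c, ?_⟩
  have : C c * (X - C μ) + -C c * (X - C lam) = C (c * (lam - μ)) := by
    rw [C_mul, C_sub]
    ring
  rw [this, hcmul, C_1]

theorem isCoprime_pr (J : ℂ → Prop)
    (hunit : ∀ x ∈ R', ∀ y ∈ R', ¬ J x → J y → (x - y)⁻¹ ∈ R')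
    (hJ0 : J 0) (S₀ S₁ : Multiset R') (h₀ : ∀ μ ∈ S₀, J (μ : ℂ)) (h₁ : ∀ lam ∈ S₁, ¬ J (lam : ℂ)) :
    IsCoprime (pr R' S₀) (pr R' S₁) := by
  induction S₀ using Multiset.induction_on with
  | empty =>
    rw [pr_zero]
    exact isCoprime_one_left
  | cons μ S₀ ih =>
    rw [pr_cons]
    apply IsCoprime.mul_left
    · have hμ : J (μ : ℂ) := h₀ μ (Multiset.mem_cons_self _ _)
      clear ih h₀
      induction S₁ using Multiset.induction_on with
      | empty =>
        rw [pr_zero]
        exact isCoprime_one_right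
      | cons lam S₁ ih' =>
        rw [pr_cons]
        apply IsCoprime.mul_right
        · exact isCoprime_linear R' J hunit hJ0 μ lam hμ (h₁ lam (Multiset.mem_cons_self _ _))
        · exact ih' fun l hl => h₁ l (Multiset.mem_cons_of_mem hl)
    · exact ih fun m hm => h₀ m (Multiset.mem_cons_of_mem hm)

/-- The evaluation ring homomorphism `R'[X] → A` at `t`. -/
noncomputable def ev {A : Type*} [Ring A] [Algebra ℂ A] (t : A) : Polynomial R' →+* A :=
  (Polynomial.aeval t : Polynomial ℂ →ₐ[ℂ] A).toRingHom.comp (Polynomial.mapRingHom R'.subtype)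

theorem ev_apply {A : Type*} [Ring A] [Algebra ℂ A] (t : A) (f : Polynomial R') :
    ev R' t f = Polynomial.aeval t (f.map R'.subtype) := rfl

theorem ev_X {A : Type*} [Ring A] [Algebra ℂ A] (t : A) : ev R' t X = t := by
  simp [ev_apply]

/-- **The spectral idempotent.** -/
theorem exists_spectral_idem (hint : ∀ z : ℂ, IsIntegral R' z → z ∈ R') (J : ℂ → Prop)
    (hunit : ∀ x ∈ R', ∀ y ∈ R', ¬ J x → J y → (x - y)⁻¹ ∈ R')
    (hJ0 : J 0) (hJ1 : ¬ J 1)
    {A : Type*} [Ring A] [Algebra ℂ A] (t : A) (χ' : Polynomial R') (hmonic : χ'.Monic)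
    (hann : Polynomial.aeval t (χ'.map R'.subtype) = 0)
    (hroot : (χ'.map R'.subtype).IsRoot 1) :
    ∃ s' : Polynomial R',
      (t * ev R' t s') * (t * ev R' t s') = t * ev R' t s' ∧
      Polynomial.eval₂ R'.subtype 1 (X * s') = 1 := by
  classical
  set χ : Polynomial ℂ := χ'.map R'.subtype with hχ
  have hχmonic : χ.Monic := hmonic.map _
  have hsplits : χ.Splits := IsAlgClosed.splits χ
  have hprod : χ = (χ.roots.map (X - C ·)).prod := hsplits.eq_prod_roots_of_monic hχmonic
  -- the roots are in `R'`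
  have hroots : ∀ z ∈ χ.roots, z ∈ R' := by
    intro z hz
    apply hint
    refine ⟨χ', hmonic, ?_⟩
    have := (Polynomial.mem_roots hχmonic.ne_zero).mp hz
    rw [Polynomial.IsRoot.def, hχ, Polynomial.eval_map] at this
    exact this
  set S : Multiset R' := χ.roots.pmap (fun z hz => (⟨z, hz⟩ : R')) hroots with hS
  have hSmap : S.map (fun z : R' => (z : ℂ)) = χ.roots := by
    rw [hS, Multiset.map_pmap, Multiset.pmap_eq_map]
    exact Multiset.map_id' _
  have hprS : pr R' S = χ' := by
    apply Polynomial.map_injective R'.subtype Subtype.coe_injective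
    rw [pr_map, hSmap, ← hprod]
  -- split the roots
  set Sf : Multiset R' := S.filter fun z => J (z : ℂ) with hSf
  set S₁ : Multiset R' := S.filter fun z => ¬ J (z : ℂ) with hS₁
  have hsplit : Sf + S₁ = S := Multiset.filter_add_not _ _
  set S₀ : Multiset R' := (0 : R') ::ₘ Sf with hS₀
  have hcop : IsCoprime (pr R' S₀) (pr R' S₁) := by
    apply isCoprime_pr R' J hunit hJ0
    · intro μ hμ
      rw [hS₀, Multiset.mem_cons] at hμ
      rcases hμ with rfl | hμ
      · simpa using hJ0
      · exact (Multiset.mem_filter.mp hμ).2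
    · intro l hl
      exact (Multiset.mem_filter.mp hl).2
  obtain ⟨u, v, huv⟩ := hcop
  have hprS₀ : pr R' S₀ = X * pr R' Sf := by
    rw [hS₀, pr_cons]
    simp
  have hmul : pr R' S₀ * pr R' S₁ = X * χ' := by
    rw [hprS₀, mul_assoc, ← pr_add, hsplit, hprS]
  refine ⟨u * pr R' Sf, ?_, ?_⟩
  · -- idempotent
    have hε : t * ev R' t (u * pr R' Sf) = ev R' t (u * pr R' S₀) := by
      rw [hprS₀]
      have : u * (X * pr R' Sf) = X * (u * pr R' Sf) := by ring
      rw [this, map_mul (ev R' t) X (u * pr R' Sf), ev_X]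
    rw [hε]
    set ε := ev R' t (u * pr R' S₀) with hεdef
    have h1 : ε + ev R' t (v * pr R' S₁) = 1 := by
      rw [hεdef, ← map_add, huv, map_one]
    have h2 : ε * ev R' t (v * pr R' S₁) = 0 := by
      rw [hεdef, ← map_mul]
      have : u * pr R' S₀ * (v * pr R' S₁) = u * v * X * χ' := by
        calc u * pr R' S₀ * (v * pr R' S₁) = u * v * (pr R' S₀ * pr R' S₁) := by ring
          _ = u * v * X * χ' := by rw [hmul]; ring
      rw [this, map_mul, ev_apply R' t χ', hann, mul_zero]
    calc ε * ε = ε * (1 - ev R' t (v * pr R' S₁)) := by rw [← h1]; congr 1; abel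
      _ = ε := by rw [mul_sub, h2, mul_one, sub_zero]
  · -- the value at `1`
    have hev : ∀ f g : Polynomial R', Polynomial.eval₂ R'.subtype 1 (f * g) =
        Polynomial.eval₂ R'.subtype 1 f * Polynomial.eval₂ R'.subtype 1 g :=
      fun f g => Polynomial.eval₂_mul _ _
    have h1 : Polynomial.eval₂ R'.subtype 1 (u * pr R' S₀) +
        Polynomial.eval₂ R'.subtype 1 (v * pr R' S₁) = 1 := by
      rw [← Polynomial.eval₂_add, huv, Polynomial.eval₂_one]
    have h2 : Polynomial.eval₂ R'.subtype 1 (v * pr R' S₁) = 0 := by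
      rw [hev]
      have h3 : Polynomial.eval₂ R'.subtype 1 (pr R' S₁) = 0 := by
        rw [← Polynomial.eval_map, pr_map, Polynomial.eval_multiset_prod, Multiset.map_map]
        apply Multiset.prod_eq_zero
        rw [Multiset.mem_map]
        -- `1 ∈ S₁`
        have h1root : (1 : ℂ) ∈ χ.roots := (Polynomial.mem_roots hχmonic.ne_zero).mpr hroot
        rw [← hSmap, Multiset.mem_map] at h1root
        obtain ⟨z, hz, hz1⟩ := h1root
        have hzS₁ : z ∈ S₁ := by
          rw [hS₁, Multiset.mem_filter]
          refine ⟨hz, ?_⟩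
          rw [hz1]
          exact hJ1
        refine ⟨(z : ℂ), Multiset.mem_map.mpr ⟨z, hzS₁, rfl⟩, ?_⟩
        simp [hz1]
      rw [h3, mul_zero]
    rw [h2, add_zero] at h1
    have : X * (u * pr R' Sf) = u * pr R' S₀ := by
      rw [hprS₀]
      ring
    rw [this]
    exact h1

end Cfsg.Agent.Helper6.PrCnt
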