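import Mathlib
import Cfsg.Agent.Helper6.PrCntA
import Cfsg.Agent.Helper6.PrCntB
import Cfsg.Agent.Helper6.OsimaSupport

/-!
# A spectral idempotent in the group algebra with local coefficients

For a function `t` on a finite group with coefficients in the local ring at `M` and total sum `1`,
there is a function `s` with local coefficients commuting with `t` (for convolution) such that
`t * s` is an idempotent of total sum `1`.
-/

set_option autoImplicit false
set_option linter.style.haveILetI false

namespace Cfsg.Agent.Helper6.PrCnt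

open Polynomial

universe u

variable {G : Type u} [Group G] [Fintype G] [DecidableEq G] {M : Ideal Cfsg.AlgInt}

/-- The matrix of left convolution by `w`. -/
def Lmat (w : G → ℂ) : Matrix G G ℂ := Matrix.of fun i j => w (i * j⁻¹)

omit [Fintype G] [DecidableEq G] in
theorem Lmat_apply (w : G → ℂ) (i j : G) : Lmat w i j = w (i * j⁻¹) := rfl

omit [DecidableEq G] in
theorem Lmat_conv (a b : G → ℂ) : Lmat (conv a b) = Lmat a * Lmat b := by
  ext i j
  rw [Matrix.mul_apply, Lmat_apply, conv_apply]
  rw [← Equiv.sum_comp ((Equiv.inv G).trans (Equiv.mulLeft i))]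
  apply Finset.sum_congr rfl
  intro k _
  simp only [Equiv.trans_apply, Equiv.inv_apply, Equiv.coe_mulLeft, Lmat_apply]
  congr 2
  group

omit [Fintype G] [DecidableEq G] in
theorem Lmat_injective {a b : G → ℂ} (h : Lmat a = Lmat b) : a = b := by
  funext g
  have := congrFun (congrFun h g) 1
  simpa [Lmat_apply] using this

/-- The good matrices: right-invariant, with local coefficients, with constant column sums given
by a prescribed value. -/
def IsGoodMat (M : Ideal Cfsg.AlgInt) (N : Matrix G G ℂ) (α : ℂ) : Prop :=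
  (∀ c i j : G, N (i * c) (j * c) = N i j) ∧ (∀ i j : G, Cfsg.MemLocalRing M (N i j)) ∧
    ∀ j : G, ∑ i : G, N i j = α

omit [DecidableEq G] in
theorem isGoodMat_Lmat (w : G → ℂ) (hw : ∀ g, Cfsg.MemLocalRing M (w g)) :
    IsGoodMat M (Lmat w) (∑ g, w g) := by
  refine ⟨?_, ?_, ?_⟩
  · intro c i j
    rw [Lmat_apply, Lmat_apply]
    congr 1
    group
  · intro i j
    exact hw _
  · intro j
    exact Equiv.sum_comp (Equiv.mulRight j⁻¹) w

theorem isGoodMat_scalar (hM : M.IsMaximal) (a : ℂ) (ha : Cfsg.MemLocalRing M a) :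
    IsGoodMat M (algebraMap ℂ (Matrix G G ℂ) a) a := by
  refine ⟨?_, ?_, ?_⟩
  · intro c i j
    rw [Matrix.algebraMap_matrix_apply, Matrix.algebraMap_matrix_apply]
    by_cases h : i = j
    · simp [h]
    · have : i * c ≠ j * c := fun h' => h (mul_right_cancel h')
      simp [h, this]
  · intro i j
    rw [Matrix.algebraMap_matrix_apply]
    split_ifs
    · exact ha
    · exact memLocalRing_zero hM
  · intro j
    simp [Matrix.algebraMap_matrix_apply]

omit [DecidableEq G] in
theorem IsGoodMat.add (hM : M.IsMaximal) {N N' : Matrix G G ℂ} {α β : ℂ} (h : IsGoodMat M N α)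
    (h' : IsGoodMat M N' β) : IsGoodMat M (N + N') (α + β) := by
  refine ⟨?_, ?_, ?_⟩
  · intro c i j
    rw [Matrix.add_apply, Matrix.add_apply, h.1, h'.1]
  · intro i j
    exact MemLocalRing.add hM (h.2.1 i j) (h'.2.1 i j)
  · intro j
    simp only [Matrix.add_apply]
    rw [Finset.sum_add_distrib, h.2.2, h'.2.2]

omit [DecidableEq G] in
theorem IsGoodMat.mul (hM : M.IsMaximal) {N N' : Matrix G G ℂ} {α β : ℂ} (h : IsGoodMat M N α)
    (h' : IsGoodMat M N' β) : IsGoodMat M (N * N') (α * β) := by
  refine ⟨?_, ?_, ?_⟩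
  · intro c i j
    rw [Matrix.mul_apply, Matrix.mul_apply, ← Equiv.sum_comp (Equiv.mulRight c)]
    apply Finset.sum_congr rfl
    intro k _
    rw [Equiv.coe_mulRight, h.1, h'.1]
  · intro i j
    rw [Matrix.mul_apply]
    apply MemLocalRing.sum hM
    intro k _
    exact MemLocalRing.mul hM (h.2.1 i k) (h'.2.1 k j)
  · intro j
    simp only [Matrix.mul_apply]
    rw [Finset.sum_comm]
    have : ∀ k : G, ∑ i : G, N i k * N' k j = α * N' k j := by
      intro k
      rw [← Finset.sum_mul, h.2.2]
    rw [Finset.sum_congr rfl fun k _ => this k, ← Finset.mul_sum, h'.2.2]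

omit [DecidableEq G] in
theorem IsGoodMat.eq_Lmat {N : Matrix G G ℂ} {α : ℂ} (h : IsGoodMat M N α) :
    N = Lmat fun g => N g 1 := by
  ext i j
  rw [Lmat_apply]
  have := h.1 j (i * j⁻¹) 1
  rw [inv_mul_cancel_right, one_mul] at this
  exact this

/-- Polynomial expressions in a good matrix of column sum `1` are good. -/
theorem isGoodMat_ev (hM : M.IsMaximal) (T : Matrix G G ℂ) (hT : IsGoodMat M T 1)
    (f : Polynomial (localSubring hM)) :
    IsGoodMat M (ev (localSubring hM) T f)
      (Polynomial.eval₂ (localSubring hM).subtype 1 f) := by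
  induction f using Polynomial.induction_on with
  | C a =>
    rw [ev_apply, Polynomial.map_C, Polynomial.aeval_C, Polynomial.eval₂_C]
    exact isGoodMat_scalar hM _ a.2
  | add p q hp hq =>
    rw [map_add, Polynomial.eval₂_add]
    exact hp.add hM hq
  | monomial n a h =>
    have e1 : (C a * X ^ (n + 1) : Polynomial (localSubring hM)) = (C a * X ^ n) * X := by
      rw [pow_succ, mul_assoc]
    rw [e1, map_mul, ev_X, Polynomial.eval₂_mul, Polynomial.eval₂_X]
    exact h.mul hM hT

/-- **The spectral idempotent in the group algebra.** -/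
theorem exists_conv_idem (hM : M.IsMaximal) (t : G → ℂ) (ht : ∀ g, Cfsg.MemLocalRing M (t g))
    (hsum : ∑ g, t g = 1) :
    ∃ s : G → ℂ, (∀ g, Cfsg.MemLocalRing M (s g)) ∧ conv t s = conv s t ∧
      conv (conv t s) (conv t s) = conv t s ∧ (∀ g, Cfsg.MemLocalRing M (conv t s g)) ∧
      ∑ g, conv t s g = 1 := by
  classical
  set R' := localSubring hM with hR'
  set T : Matrix G G ℂ := Lmat t with hTdef
  have hT : IsGoodMat M T 1 := by
    have := isGoodMat_Lmat (M := M) t ht
    rwa [hsum] at this
  -- lift to the local ring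
  set T' : Matrix G G R' := Matrix.of fun i j => ⟨T i j, hT.2.1 i j⟩ with hT'
  have hT'map : T'.map R'.subtype = T := by
    ext i j
    rfl
  set χ' : Polynomial R' := T'.charpoly with hχ'
  have hmonic : χ'.Monic := Matrix.charpoly_monic T'
  have hχmap : χ'.map R'.subtype = T.charpoly := by
    rw [hχ', ← Matrix.charpoly_map, hT'map]
  have hann : Polynomial.aeval T (χ'.map R'.subtype) = 0 := by
    rw [hχmap]
    exact Matrix.aeval_self_charpoly T
  have hroot : (χ'.map R'.subtype).IsRoot 1 := by
    rw [hχmap, Polynomial.IsRoot.def, Matrix.eval_charpoly]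
    rw [← Matrix.exists_vecMul_eq_zero_iff]
    refine ⟨fun _ => 1, ?_, ?_⟩
    · intro h
      have := congrFun h 1
      simp at this
    · funext j
      simp only [Matrix.vecMul, dotProduct, one_mul, Pi.zero_apply]
      simp only [Matrix.sub_apply, Finset.sum_sub_distrib]
      rw [hT.2.2 j]
      simp [Matrix.scalar_apply, Matrix.diagonal_apply]
  obtain ⟨s', hidem, hval⟩ := exists_spectral_idem R'
    (fun z hz => mem_localSubring_of_isIntegral hM hz) (Cfsg.MemLocalIdeal M)
    (fun x hx y hy hnx hy' =>
      memLocalRing_inv hM (MemLocalRing.sub hM hx hy) (not_memLocalIdeal_sub hM hnx hy'))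
    (memLocalIdeal_zero hM) (not_memLocalIdeal_one hM) T χ' hmonic hann hroot
  set S : Matrix G G ℂ := ev R' T s' with hS
  have hSgood := isGoodMat_ev hM T hT s'
  rw [← hS] at hSgood
  set s : G → ℂ := fun g => S g 1 with hs
  have hSL : S = Lmat s := hSgood.eq_Lmat
  have hcomm : T * S = S * T := by
    have h1 : T * S = ev R' T (X * s') := by rw [map_mul, ev_X]
    have h2 : S * T = ev R' T (s' * X) := by rw [map_mul, ev_X]
    rw [h1, h2, mul_comm]
  have hTS : Lmat (conv t s) = T * S := by rw [Lmat_conv, ← hSL]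
  refine ⟨s, fun g => hSgood.2.1 g 1, ?_, ?_, ?_, ?_⟩
  · apply Lmat_injective
    rw [Lmat_conv, Lmat_conv, ← hSL, ← hTdef, hcomm]
  · apply Lmat_injective
    rw [Lmat_conv, hTS, hidem]
  · intro g
    have := (hT.mul hM hSgood).2.1 g 1
    rw [← hTS, Lmat_apply, inv_one, mul_one] at this
    exact this
  · have h1 := isGoodMat_ev hM T hT (X * s')
    rw [hval, map_mul, ev_X, ← hS, ← hTS] at h1
    have := h1.2.2 1
    simpa [Lmat_apply] using this

end Cfsg.Agent.Helper6.PrCnt
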