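import Mathlib
import Cfsg.Prelude.Def_Characters
import Cfsg.Agent.Helper6.OsimaSupport

/-!
# Operators of group-algebra elements in a representation, and ranks of idempotents
-/

set_option autoImplicit false
set_option linter.style.haveILetI false

namespace Cfsg.Agent.Helper6.PrCnt

open Module

universe u v

variable {G : Type u} [Group G] [Fintype G]

/-- The operator of a group-algebra element in a representation. -/
noncomputable def repOf {V : Type v} [AddCommGroup V] [Module ℂ V] (ρ : Representation ℂ G V)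
    (w : G → ℂ) : V →ₗ[ℂ] V := ∑ g, w g • ρ g

theorem repOf_conv {V : Type v} [AddCommGroup V] [Module ℂ V] (ρ : Representation ℂ G V)
    (a b : G → ℂ) : repOf ρ (conv a b) = repOf ρ a * repOf ρ b := by
  unfold repOf
  rw [Finset.sum_mul]
  simp only [Finset.mul_sum, conv_apply, Finset.sum_smul]
  rw [Finset.sum_comm]
  apply Finset.sum_congr rfl
  intro x _
  rw [← Equiv.sum_comp (Equiv.mulLeft x)]
  apply Finset.sum_congr rfl
  intro y _
  rw [Equiv.coe_mulLeft, inv_mul_cancel_left, smul_mul_smul_comm, map_mul]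

theorem trace_repOf {V : Type v} [AddCommGroup V] [Module ℂ V]
    (ρ : Representation ℂ G V) (w : G → ℂ) :
    LinearMap.trace ℂ V (repOf ρ w) = ∑ g, w g * ρ.character g := by
  unfold repOf
  rw [map_sum]
  apply Finset.sum_congr rfl
  intro g _
  rw [map_smul, smul_eq_mul]
  rfl

theorem trace_eq_finrank_range_of_idem {V : Type v} [AddCommGroup V] [Module ℂ V]
    [FiniteDimensional ℂ V] (P : V →ₗ[ℂ] V) (hP : P * P = P) :
    LinearMap.trace ℂ V P = (finrank ℂ (LinearMap.range P) : ℂ) := by
  have h : LinearMap.IsProj (LinearMap.range P) P := by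
    refine ⟨fun x => LinearMap.mem_range_self P x, ?_⟩
    rintro x ⟨y, rfl⟩
    exact congrFun (congrArg DFunLike.coe hP) y
  exact h.trace

/-- The multiplicities attached to an idempotent of the group algebra: ranks, with the two
comparison principles. -/
theorem exists_ranks {ψ : G → ℂ} (hψ : Cfsg.IsCharacter G ψ) (ε e f a b ε' : G → ℂ)
    (hε : conv ε ε = ε) (he : conv e e = e) (hf : conv f f = f) (h1 : ε = conv e ε')
    (h2 : ε = conv a (conv f b)) :
    ∃ m c d : ℕ, m ≤ c ∧ m ≤ d ∧ ∑ g, ε g * ψ g = (m : ℂ) ∧ ∑ g, e g * ψ g = (c : ℂ) ∧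
      ∑ g, f g * ψ g = (d : ℂ) := by
  obtain ⟨n, ρ, rfl⟩ := hψ
  refine ⟨finrank ℂ (LinearMap.range (repOf ρ ε)), finrank ℂ (LinearMap.range (repOf ρ e)),
    finrank ℂ (LinearMap.range (repOf ρ f)), ?_, ?_, ?_, ?_, ?_⟩
  · apply Submodule.finrank_mono
    rw [h1, repOf_conv]
    exact LinearMap.range_comp_le_range _ _
  · have h3 : LinearMap.range (repOf ρ ε) ≤
        (LinearMap.range (repOf ρ f * repOf ρ b)).map (repOf ρ a) := by
      rw [h2, repOf_conv, repOf_conv]
      rw [Module.End.mul_eq_comp (repOf ρ a), LinearMap.range_comp]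
    calc finrank ℂ (LinearMap.range (repOf ρ ε))
        ≤ finrank ℂ ((LinearMap.range (repOf ρ f * repOf ρ b)).map (repOf ρ a)) :=
          Submodule.finrank_mono h3
      _ ≤ finrank ℂ (LinearMap.range (repOf ρ f * repOf ρ b)) := Submodule.finrank_map_le _ _
      _ ≤ finrank ℂ (LinearMap.range (repOf ρ f)) := by
          apply Submodule.finrank_mono
          exact LinearMap.range_comp_le_range _ _
  · rw [← trace_repOf, trace_eq_finrank_range_of_idem]
    rw [← repOf_conv, hε]
  · rw [← trace_repOf, trace_eq_finrank_range_of_idem]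
    rw [← repOf_conv, he]
  · rw [← trace_repOf, trace_eq_finrank_range_of_idem]
    rw [← repOf_conv, hf]

end Cfsg.Agent.Helper6.PrCnt
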