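import Mathlib
import Cfsg.Prelude.Def_Characters
import Cfsg.Prelude.Def_Blocks
import Cfsg.Agent.Helper6.PrCntD
import Cfsg.Agent.Helper6.WeakOrth
import Cfsg.Agent.Helper6.Induced
import Cfsg.Agent.Helper6.IrrCrit
import Cfsg.Agent.Helper6.ColumnOrth
import Cfsg.Agent.Helper6.RepEigen

/-!
# The character afforded by an idempotent of the group algebra
-/

set_option autoImplicit false
set_option linter.style.haveILetI false

namespace Cfsg.Agent.Helper6.PrCnt

open Module
open scoped ComplexConjugate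

universe u

variable {G : Type u} [Group G] [Fintype G] {M : Ideal Cfsg.AlgInt}

/-- The character of the left ideal generated by an idempotent `ε` of the group algebra. -/
noncomputable def idemChar (ε : G → ℂ) : G → ℂ := fun g => ∑ c : G, ε (c * g⁻¹ * c⁻¹)

theorem idemChar_isClassFunction (ε : G → ℂ) : Cfsg.IsClassFunction G (idemChar ε) := by
  intro g h
  unfold idemChar
  rw [← Equiv.sum_comp (Equiv.mulRight h⁻¹)]
  apply Finset.sum_congr rfl
  intro c _
  rw [Equiv.coe_mulRight]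
  congr 1
  group

theorem sum_idemChar_mul (ε ψ : G → ℂ) (hψ : Cfsg.IsClassFunction G ψ) :
    ∑ g, idemChar ε g * ψ g⁻¹ = (Nat.card G : ℂ) * ∑ h, ε h * ψ h := by
  unfold idemChar
  simp only [Finset.sum_mul]
  rw [Finset.sum_comm]
  have : ∀ c : G, ∑ g : G, ε (c * g⁻¹ * c⁻¹) * ψ g⁻¹ = ∑ h, ε h * ψ h := by
    intro c
    rw [← Equiv.sum_comp ((Equiv.inv G).trans (MulAut.conj c).toEquiv) (fun h => ε h * ψ h)]
    apply Finset.sum_congr rfl
    intro g _
    simp only [Equiv.trans_apply, Equiv.inv_apply, MulEquiv.toEquiv_eq_coe, EquivLike.coe_coe,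
      MulAut.conj_apply]
    rw [hψ g⁻¹ c]
  rw [Finset.sum_congr rfl fun c _ => this c, Finset.sum_const, Finset.card_univ, nsmul_eq_mul,
    Nat.card_eq_fintype_card]

theorem classInner_idemChar (ε : G → ℂ) {ψ : G → ℂ} (hψ : Cfsg.IsCharacter G ψ) :
    Cfsg.classInner (idemChar ε) ψ = ∑ h, ε h * ψ h := by
  rw [classInner_def]
  have : ∀ g : G, idemChar ε g * conj (ψ g) = idemChar ε g * ψ g⁻¹ := by
    intro g
    rw [IsCharacter.inv_eq_conj hψ]
  rw [Finset.sum_congr rfl fun g _ => this g, sum_idemChar_mul ε ψ (IsCharacter.isClassFunction hψ),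
    ← mul_assoc, inv_mul_cancel₀, one_mul]
  exact_mod_cast Nat.card_pos.ne'

theorem sum_idemChar (ε : G → ℂ) : ∑ g, idemChar ε g = (Nat.card G : ℂ) * ∑ h, ε h := by
  have := sum_idemChar_mul ε (fun _ => 1) (fun _ _ => rfl)
  simpa using this

theorem idemChar_eq_zero (hM : M.IsMaximal) (p : ℕ) [hp : Fact p.Prime]
    (hpM : (p : Cfsg.AlgInt) ∈ M) (ε : G → ℂ) (hloc : ∀ g, Cfsg.MemLocalRing M (ε g))
    (hidem : conv ε ε = ε) (y : G) (hy : p ∣ orderOf y) : idemChar ε y = 0 := by
  have := sum_conj_eq_zero_of_conv_idem hM p hpM y⁻¹ (by rwa [orderOf_inv]) ε hloc hidem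
  exact this

/-- The kernel of a character is a normal subgroup. -/
theorem exists_ker_of_isCharacter {η : G → ℂ} (hη : Cfsg.IsCharacter G η) :
    ∃ K : Subgroup G, K.Normal ∧ ∀ g, g ∈ K ↔ η g = η 1 := by
  obtain ⟨n, ρ, rfl⟩ := hη
  refine ⟨MonoidHom.ker ρ, MonoidHom.normal_ker _, ?_⟩
  intro g
  rw [MonoidHom.mem_ker, Representation.char_one, char_eq_finrank_iff]
  rfl

theorem sum_conv (a b : G → ℂ) : ∑ g, conv a b g = (∑ g, a g) * ∑ g, b g := by
  simp only [conv_apply]
  rw [Finset.sum_comm, Finset.sum_mul]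
  apply Finset.sum_congr rfl
  intro x _
  rw [← Finset.mul_sum]
  congr 1
  exact Equiv.sum_comp (Equiv.mulLeft x⁻¹) b

theorem conv_memLocalRing (hM : M.IsMaximal) (a b : G → ℂ)
    (ha : ∀ g, Cfsg.MemLocalRing M (a g)) (hb : ∀ g, Cfsg.MemLocalRing M (b g)) (g : G) :
    Cfsg.MemLocalRing M (conv a b g) := by
  rw [conv_apply]
  apply MemLocalRing.sum hM
  intro x _
  exact MemLocalRing.mul hM (ha x) (hb _)

/-- Averages of the irreducible characters over two subgroups of coprime orders: the column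
orthogonality relation. -/
theorem sum_avg_mul_avg [Fintype (Cfsg.IrrCharacter G)] (Q R : Subgroup G) [Fintype Q]
    [Fintype R] (hcop : (Nat.card Q).Coprime (Nat.card R)) :
    ∑ ξ : Cfsg.IrrCharacter G, (∑ h : Q, (ξ : G → ℂ) h) * conj (∑ k : R, (ξ : G → ℂ) k) =
      (Nat.card G : ℂ) := by
  classical
  have h0 : ∀ ξ : Cfsg.IrrCharacter G,
      (∑ h : Q, (ξ : G → ℂ) h) * conj (∑ k : R, (ξ : G → ℂ) k) =
        ∑ h : Q, ∑ k : R, (ξ : G → ℂ) h * conj ((ξ : G → ℂ) k) := by
    intro ξ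
    rw [map_sum, Finset.sum_mul_sum]
  rw [Finset.sum_congr rfl fun ξ _ => h0 ξ, Finset.sum_comm]
  have h1 : ∀ h : Q, ∑ ξ : Cfsg.IrrCharacter G, ∑ k : R,
      (ξ : G → ℂ) h * conj ((ξ : G → ℂ) k) =
      if h = 1 then (Nat.card G : ℂ) else 0 := by
    intro h
    rw [Finset.sum_comm]
    have h2 : ∀ k : R, ∑ ξ : Cfsg.IrrCharacter G, (ξ : G → ℂ) h * conj ((ξ : G → ℂ) k) =
        if h = 1 ∧ k = 1 then (Nat.card G : ℂ) else 0 := by
      intro k
      rw [column_orthogonality_aux]
      by_cases hc : IsConj (h : G) (k : G)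
      · obtain ⟨c, hc'⟩ := hc
        have hord : orderOf (h : G) = orderOf (k : G) := SemiconjBy.orderOf_eq (c : G) hc'
        have hh : orderOf (h : G) ∣ Nat.card Q := by
          rw [Subgroup.orderOf_coe]
          exact orderOf_dvd_natCard h
        have hk : orderOf (h : G) ∣ Nat.card R := by
          rw [hord, Subgroup.orderOf_coe]
          exact orderOf_dvd_natCard k
        have h1' : orderOf (h : G) = 1 := Nat.eq_one_of_dvd_coprimes hcop hh hk
        have hh1 : (h : G) = 1 := orderOf_eq_one_iff.mp h1'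
        have hk1 : (k : G) = 1 := orderOf_eq_one_iff.mp (hord ▸ h1')
        have hh1' : h = 1 := Subtype.ext hh1
        have hk1' : k = 1 := Subtype.ext hk1
        have hcent : Subgroup.centralizer ({1} : Set G) = ⊤ := by
          ext x
          simp [Subgroup.mem_centralizer_iff]
        rw [if_pos ⟨c, hc'⟩, if_pos ⟨hh1', hk1'⟩, hh1, hcent, Subgroup.card_top]
      · rw [if_neg hc, if_neg]
        rintro ⟨rfl, rfl⟩
        exact hc (IsConj.refl _)
    rw [Finset.sum_congr rfl fun k _ => h2 k]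
    by_cases hh : h = 1
    · simp [hh]
    · simp [hh]
  rw [Finset.sum_congr rfl fun h _ => h1 h]
  simp

end Cfsg.Agent.Helper6.PrCnt
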