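import Mathlib
import Cfsg.Prelude.Def_Characters
import Cfsg.Prelude.Def_Blocks
import Cfsg.Agent.Helper6.PrCntC
import Cfsg.Agent.Helper6.PrCntE
import Cfsg.Agent.Helper6.PowCongr

/-!
# A counting criterion for a normal complement

If `|G| = n * |Q| * |R|` for subgroups `Q`, `R` of coprime orders prime to `p`, and `G` has exactly
`|Q| * |R|` elements of order prime to `p`, then these elements form a normal subgroup.
-/

set_option autoImplicit false
set_option linter.style.haveILetI false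

namespace Cfsg.Agent.Helper6.PrCnt

open Module
open scoped ComplexConjugate

universe u

variable {G : Type u} [Group G] [Fintype G] {M : Ideal Cfsg.AlgInt}

theorem sum_homIdem_one (A : Subgroup G) [Finite A] : ∑ g, homIdem A (1 : A →* ℂˣ) g = 1 := by
  classical
  haveI : Fintype A := Fintype.ofFinite _
  have h := sum_homIdem_mul A (1 : A →* ℂˣ) (fun _ => (1 : ℂ))
  simp only [mul_one, MonoidHom.one_apply, Units.val_one] at h
  rw [h, Finset.sum_const, Finset.card_univ, nsmul_eq_mul, ← Nat.card_eq_fintype_card]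
  have : (Nat.card A : ℂ) ≠ 0 := by exact_mod_cast Nat.card_pos.ne'
  field_simp

theorem sum_homIdem_one_mul (A : Subgroup G) [Fintype A] (f : G → ℂ) :
    ∑ g, homIdem A (1 : A →* ℂˣ) g * f g = (Nat.card A : ℂ)⁻¹ * ∑ h : A, f h := by
  rw [sum_homIdem_mul, Finset.mul_sum]
  apply Finset.sum_congr rfl
  intro h _
  simp only [MonoidHom.one_apply, Units.val_one]
  rw [one_div]

/-- The key character: it vanishes on `p`-singular elements, contains the trivial character once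
and has norm at most `n`. -/
theorem exists_key_character (hM : M.IsMaximal) (p : ℕ) [hp : Fact p.Prime]
    (hpM : (p : Cfsg.AlgInt) ∈ M) (Q R : Subgroup G) (hQ : ¬ p ∣ Nat.card Q)
    (hR : ¬ p ∣ Nat.card R) (hcop : (Nat.card Q).Coprime (Nat.card R)) (n : ℕ)
    (hG : Nat.card G = n * (Nat.card Q * Nat.card R)) :
    ∃ (η : G → ℂ) (N : ℕ), Cfsg.IsCharacter G η ∧ (∀ g, p ∣ orderOf g → η g = 0) ∧
      ∑ g, η g = (Nat.card G : ℂ) ∧ Cfsg.classInner η η = (N : ℂ) ∧ N ≤ n := by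
  classical
  haveI : Finite (Cfsg.IrrCharacter G) := irr_finite
  haveI : Fintype (Cfsg.IrrCharacter G) := Fintype.ofFinite _
  haveI : Fintype Q := Fintype.ofFinite _
  haveI : Fintype R := Fintype.ofFinite _
  set eQ : G → ℂ := homIdem Q 1 with heQdef
  set eR : G → ℂ := homIdem R 1 with heRdef
  have heQ : conv eQ eQ = eQ := homIdem_conv Q 1
  have heR : conv eR eR = eR := homIdem_conv R 1
  have hlocQ : ∀ g, Cfsg.MemLocalRing M (eQ g) := homIdem_memLocalRing hM p hp.out hpM Q hQ 1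
  have hlocR : ∀ g, Cfsg.MemLocalRing M (eR g) := homIdem_memLocalRing hM p hp.out hpM R hR 1
  have hsumQ : ∑ g, eQ g = 1 := sum_homIdem_one Q
  have hsumR : ∑ g, eR g = 1 := sum_homIdem_one R
  set t : G → ℂ := conv eQ (conv eR eQ) with ht
  have htloc : ∀ g, Cfsg.MemLocalRing M (t g) :=
    conv_memLocalRing hM _ _ hlocQ (conv_memLocalRing hM _ _ hlocR hlocQ)
  have htsum : ∑ g, t g = 1 := by
    rw [ht, sum_conv, sum_conv, hsumQ, hsumR]
    norm_num
  obtain ⟨s, hsloc, hcomm, hidem, hεloc, hεsum⟩ := exists_conv_idem hM t htloc htsum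
  set ε : G → ℂ := conv t s with hε
  have hε1 : ε = conv eQ (conv (conv eR eQ) s) := by rw [hε, ht, conv_assoc]
  have hε2 : ε = conv (conv s eQ) (conv eR eQ) := by rw [hcomm, ht, conv_assoc]
  have hrk : ∀ ξ : Cfsg.IrrCharacter G, ∃ m c d : ℕ, m ≤ c ∧ m ≤ d ∧
      ∑ g, ε g * (ξ : G → ℂ) g = (m : ℂ) ∧ ∑ g, eQ g * (ξ : G → ℂ) g = (c : ℂ) ∧
      ∑ g, eR g * (ξ : G → ℂ) g = (d : ℂ) := fun ξ =>
    exists_ranks (IsIrrCharacter.isCharacter ξ.2) ε eQ eR (conv s eQ) eQ (conv (conv eR eQ) s)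
      hidem heQ heR hε1 hε2
  choose m c d hmc hmd hm hc hd using hrk
  set η : G → ℂ := idemChar ε with hη
  have hηcf : Cfsg.IsClassFunction G η := idemChar_isClassFunction ε
  have hηξ : ∀ ξ : Cfsg.IrrCharacter G, Cfsg.classInner η (ξ : G → ℂ) = (m ξ : ℂ) := fun ξ => by
    rw [hη, classInner_idemChar ε (IsIrrCharacter.isCharacter ξ.2), hm]
  have hηchar : Cfsg.IsCharacter G η :=
    isCharacter_of_classInner_nat hηcf (fun χ hχ => ⟨m ⟨χ, hχ⟩, hηξ ⟨χ, hχ⟩⟩)
  have hnorm : Cfsg.classInner η η = ((∑ ξ : Cfsg.IrrCharacter G, m ξ ^ 2 : ℕ) : ℂ) := by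
    rw [classInner_self_expansion η hηcf η]
    push_cast
    apply Finset.sum_congr rfl
    intro ξ _
    rw [classInner_conj_symm η (ξ : G → ℂ), hηξ, Complex.conj_natCast, sq]
  -- the column orthogonality computation
  have hcd : ((∑ ξ : Cfsg.IrrCharacter G, c ξ * d ξ : ℕ) : ℂ) = (n : ℂ) := by
    have h1 : ∀ ξ : Cfsg.IrrCharacter G, ((c ξ * d ξ : ℕ) : ℂ) =
        ((Nat.card Q : ℂ)⁻¹ * (Nat.card R : ℂ)⁻¹) *
          ((∑ h : Q, (ξ : G → ℂ) h) * conj (∑ k : R, (ξ : G → ℂ) k)) := by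
      intro ξ
      have hc' := hc ξ
      have hd' := hd ξ
      rw [heQdef, sum_homIdem_one_mul] at hc'
      rw [heRdef, sum_homIdem_one_mul] at hd'
      have hd'' : conj ((Nat.card R : ℂ)⁻¹ * ∑ k : R, (ξ : G → ℂ) k) = (d ξ : ℂ) := by
        rw [hd', Complex.conj_natCast]
      rw [map_mul, map_inv₀, Complex.conj_natCast] at hd''
      push_cast
      rw [← hc', ← hd'']
      ring
    push_cast at h1 ⊢
    rw [Finset.sum_congr rfl fun ξ _ => h1 ξ, ← Finset.mul_sum, sum_avg_mul_avg Q R hcop, hG]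
    have hQ0 : (Nat.card Q : ℂ) ≠ 0 := by exact_mod_cast Nat.card_pos.ne'
    have hR0 : (Nat.card R : ℂ) ≠ 0 := by exact_mod_cast Nat.card_pos.ne'
    push_cast
    field_simp
  refine ⟨η, ∑ ξ : Cfsg.IrrCharacter G, m ξ ^ 2, hηchar, ?_, ?_, hnorm, ?_⟩
  · intro g hg
    exact idemChar_eq_zero hM p hpM ε hεloc hidem g hg
  · rw [hη, sum_idemChar, hεsum, mul_one]
  · have : (∑ ξ : Cfsg.IrrCharacter G, m ξ ^ 2) ≤ ∑ ξ : Cfsg.IrrCharacter G, c ξ * d ξ := by
      apply Finset.sum_le_sum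
      intro ξ _
      rw [sq]
      exact Nat.mul_le_mul (hmc ξ) (hmd ξ)
    have h2 : (∑ ξ : Cfsg.IrrCharacter G, c ξ * d ξ) = n := by exact_mod_cast hcd
    omega

end Cfsg.Agent.Helper6.PrCnt
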