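import Mathlib
import Cfsg.Prelude.Def_Characters
import Cfsg.Prelude.Def_Blocks
import Cfsg.Agent.Helper6.PrCntF

/-!
# A counting criterion for a normal complement: the conclusion
-/

set_option autoImplicit false
set_option linter.style.haveILetI false

namespace Cfsg.Agent.Helper6.PrCnt

open Module
open scoped ComplexConjugate

universe u

variable {G : Type u} [Group G] [Fintype G] {M : Ideal Cfsg.AlgInt}

theorem exists_normal_of_count (hM : M.IsMaximal) (p : ℕ) [hp : Fact p.Prime]
    (hpM : (p : Cfsg.AlgInt) ∈ M) (Q R : Subgroup G) (hQ : ¬ p ∣ Nat.card Q)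
    (hR : ¬ p ∣ Nat.card R) (hcop : (Nat.card Q).Coprime (Nat.card R)) (n : ℕ)
    (hG : Nat.card G = n * (Nat.card Q * Nat.card R))
    (hcount : Nat.card {g : G // ¬ p ∣ orderOf g} = Nat.card Q * Nat.card R) :
    ∃ N : Subgroup G, N.Normal ∧ Nat.card N = Nat.card Q * Nat.card R := by
  classical
  obtain ⟨η, N, hηchar, hvan, hsum, hnorm, hN⟩ :=
    exists_key_character hM p hpM Q R hQ hR hcop n hG
  set mm := Nat.card Q * Nat.card R with hmm
  have hn0 : n ≠ 0 := by
    rintro rfl
    rw [zero_mul] at hG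
    exact Nat.card_pos.ne' hG
  have hG0 : (Nat.card G : ℂ) ≠ 0 := by exact_mod_cast Nat.card_pos.ne'
  set f : G → ℂ := fun g => if p ∣ orderOf g then 0 else (n : ℂ) with hf
  -- the four sums
  have hs1 : ∑ g, η g * conj (η g) = (Nat.card G : ℂ) * (N : ℂ) := by
    rw [classInner_def] at hnorm
    rw [← hnorm, ← mul_assoc, mul_inv_cancel₀ hG0, one_mul]
  have hs2 : ∑ g, η g * conj (f g) = (n : ℂ) * (Nat.card G : ℂ) := by
    rw [← hsum, Finset.mul_sum]
    apply Finset.sum_congr rfl
    intro g _
    rw [hf]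
    by_cases hg : p ∣ orderOf g
    · simp [hg, hvan g hg]
    · simp [hg, mul_comm]
  have hs3 : ∑ g, f g * conj (η g) = (n : ℂ) * (Nat.card G : ℂ) := by
    have : ∑ g, f g * conj (η g) = conj (∑ g, η g * conj (f g)) := by
      rw [map_sum]
      apply Finset.sum_congr rfl
      intro g _
      rw [map_mul, Complex.conj_conj, mul_comm]
    rw [this, hs2, map_mul, Complex.conj_natCast, Complex.conj_natCast]
  have hs4 : ∑ g, f g * conj (f g) = (n : ℂ) * (Nat.card G : ℂ) := by
    have h1 : ∀ g : G, f g * conj (f g) = if ¬ p ∣ orderOf g then (n : ℂ) * n else 0 := by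
      intro g
      rw [hf]
      by_cases hg : p ∣ orderOf g
      · simp [hg]
      · simp [hg]
    rw [Finset.sum_congr rfl fun g _ => h1 g, ← Finset.sum_filter, Finset.sum_const,
      nsmul_eq_mul]
    have h2 : (Finset.univ.filter fun g : G => ¬ p ∣ orderOf g).card = mm := by
      rw [← hcount, Nat.card_eq_fintype_card, Fintype.card_subtype]
    rw [h2, hG]
    push_cast
    ring
  have hkey : ∑ g, (η g - f g) * conj (η g - f g) = (Nat.card G : ℂ) * ((N : ℂ) - n) := by
    have : ∀ g : G, (η g - f g) * conj (η g - f g) =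
        η g * conj (η g) - η g * conj (f g) - f g * conj (η g) + f g * conj (f g) := by
      intro g
      rw [map_sub]
      ring
    rw [Finset.sum_congr rfl fun g _ => this g, Finset.sum_add_distrib, Finset.sum_sub_distrib,
      Finset.sum_sub_distrib, hs1, hs2, hs3, hs4]
    ring
  -- pass to real numbers
  have hreal : ∑ g, Complex.normSq (η g - f g) = (Nat.card G : ℝ) * ((N : ℝ) - n) := by
    have : ((∑ g, Complex.normSq (η g - f g) : ℝ) : ℂ) =
        (((Nat.card G : ℝ) * ((N : ℝ) - n) : ℝ) : ℂ) := by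
      push_cast
      rw [← hkey]
      apply Finset.sum_congr rfl
      intro g _
      rw [Complex.mul_conj]
    exact_mod_cast this
  have hle : ∑ g, Complex.normSq (η g - f g) ≤ 0 := by
    rw [hreal]
    apply mul_nonpos_of_nonneg_of_nonpos (Nat.cast_nonneg _)
    have : (N : ℝ) ≤ n := by exact_mod_cast hN
    linarith
  have hzero : ∀ g : G, η g = f g := by
    intro g
    have h1 : ∑ g, Complex.normSq (η g - f g) = 0 :=
      le_antisymm hle (Finset.sum_nonneg fun g _ => Complex.normSq_nonneg _)
    have h2 := (Finset.sum_eq_zero_iff_of_nonneg fun g _ => Complex.normSq_nonneg _).mp h1 g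
      (Finset.mem_univ g)
    exact sub_eq_zero.mp (Complex.normSq_eq_zero.mp h2)
  obtain ⟨K, hKn, hK⟩ := exists_ker_of_isCharacter hηchar
  refine ⟨K, hKn, ?_⟩
  rw [← hcount]
  apply Nat.card_congr
  apply Equiv.subtypeEquivRight
  intro g
  rw [hK, hzero g, hzero 1, hf]
  have h1 : ¬ p ∣ orderOf (1 : G) := by
    rw [orderOf_one]
    exact hp.out.one_lt.ne' ∘ Nat.dvd_one.mp
  simp only [h1, if_false]
  by_cases hg : p ∣ orderOf g
  · simp only [hg, if_true, not_true, iff_false]
    intro h
    exact hn0 (by exact_mod_cast h.symm)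
  · simp [hg]

end Cfsg.Agent.Helper6.PrCnt
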