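import Mathlib
import Cfsg.Agent.Helper6.JordanE
import Cfsg.Agent.Helper6.Extraspecial

/-!
# Faithful irreducible representations of degree two: centralizers of non-central elements
-/

set_option autoImplicit false
set_option linter.style.haveILetI false
set_option linter.unusedSectionVars false

namespace Cfsg.Agent.Helper6

open Module

variable {G : Type*} [Group G]
variable {V : Type*} [AddCommGroup V] [Module ℂ V]

theorem rep_inv_apply_apply' (ρ : Representation ℂ G V) (h : G) (v : V) :
    ρ h⁻¹ (ρ h v) = v := by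
  rw [← Module.End.mul_apply, ← map_mul, inv_mul_cancel, map_one, Module.End.one_apply]

theorem rep_apply_inv_apply' (ρ : Representation ℂ G V) (h : G) (v : V) :
    ρ h (ρ h⁻¹ v) = v := by
  rw [← Module.End.mul_apply, ← map_mul, mul_inv_cancel, map_one, Module.End.one_apply]

theorem rep_apply_ne_zero (ρ : Representation ℂ G V) (h : G) {v : V} (hv : v ≠ 0) :
    ρ h v ≠ 0 := by
  intro h0
  apply hv
  rw [← rep_inv_apply_apply' ρ h v, h0, map_zero]

/-- coefficients of an eigenvector with respect to an eigenbasis (general modules) -/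
theorem eigen_coeff' {ι : Type*} [Fintype ι] (b : Basis ι ℂ V) (T : V →ₗ[ℂ] V) (τ : ι → ℂ)
    (hT : ∀ k, T (b k) = τ k • b k) (v : V) (t : ℂ) (hv : T v = t • v) (k : ι)
    (hk : b.repr v k ≠ 0) : τ k = t := by
  have h1 : T v = ∑ j, (b.repr v j * τ j) • b j := by
    conv_lhs => rw [← b.sum_repr v]
    rw [map_sum]
    apply Finset.sum_congr rfl
    intro j _
    rw [map_smul, hT, smul_smul]
  have h2 : t • v = ∑ j, (t * b.repr v j) • b j := by
    conv_lhs => rw [← b.sum_repr v]
    rw [Finset.smul_sum]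
    apply Finset.sum_congr rfl
    intro j _
    rw [smul_smul]
  rw [h1, h2] at hv
  have h3 := congrArg (fun x => b.repr x k) hv
  simp only [Basis.repr_sum_self] at h3
  have h4 : b.repr v k * (τ k - t) = 0 := by
    rw [mul_sub, h3]
    ring
  rcases mul_eq_zero.mp h4 with h5 | h5
  · exact absurd h5 hk
  · exact sub_eq_zero.mp h5

/-- the subgroup of elements acting diagonally with respect to a basis -/
def diagSub (ρ : Representation ℂ G V) {ι : Type*} (b : Basis ι ℂ V) : Subgroup G where
  carrier := {h | ∀ i, ∃ t : ℂ, ρ h (b i) = t • b i}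
  one_mem' := by
    intro i
    exact ⟨1, by simp⟩
  mul_mem' := by
    intro x y hx hy i
    obtain ⟨t, ht⟩ := hx i
    obtain ⟨s, hs⟩ := hy i
    refine ⟨s * t, ?_⟩
    rw [map_mul, Module.End.mul_apply, hs, map_smul, ht, smul_smul]
  inv_mem' := by
    intro x hx i
    obtain ⟨t, ht⟩ := hx i
    have ht0 : t ≠ 0 := by
      intro h0
      rw [h0, zero_smul] at ht
      exact rep_apply_ne_zero ρ x (b.ne_zero i) ht
    refine ⟨t⁻¹, ?_⟩
    have h1 := rep_inv_apply_apply' ρ x (b i)
    rw [ht, map_smul] at h1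
    have h2 : t⁻¹ • (t • ρ x⁻¹ (b i)) = t⁻¹ • b i := by rw [h1]
    rw [smul_smul, inv_mul_cancel₀ ht0, one_smul] at h2
    exact h2

theorem mem_diagSub (ρ : Representation ℂ G V) {ι : Type*} (b : Basis ι ℂ V) (h : G) :
    h ∈ diagSub ρ b ↔ ∀ i, ∃ t : ℂ, ρ h (b i) = t • b i := Iff.rfl

theorem diagSub_comm (ρ : Representation ℂ G V) (hinj : Function.Injective ρ) {ι : Type*}
    (b : Basis ι ℂ V) : ∀ x ∈ diagSub ρ b, ∀ y ∈ diagSub ρ b, x * y = y * x := by
  intro x hx y hy
  apply hinj
  apply b.ext
  intro i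
  obtain ⟨t, ht⟩ := hx i
  obtain ⟨s, hs⟩ := hy i
  rw [map_mul, map_mul, Module.End.mul_apply, Module.End.mul_apply, hs, ht, map_smul, map_smul,
    ht, hs, smul_smul, smul_smul, mul_comm]

variable [Finite G] [FiniteDimensional ℂ V]

/-- central elements are exactly those acting by scalars -/
theorem mem_center_iff_scalar (ρ : Representation ℂ G V) [ρ.IsIrreducible]
    (hinj : Function.Injective ρ) (g : G) :
    g ∈ Subgroup.center G ↔ ∃ ω : ℂ, ρ g = ω • (LinearMap.id : V →ₗ[ℂ] V) := by
  constructor
  · intro hg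
    exact exists_scalar_of_mem_center ρ g hg
  · rintro ⟨ω, hω⟩
    rw [Subgroup.mem_center_iff]
    intro h
    apply hinj
    rw [map_mul, map_mul, hω]
    ext v
    simp

/-- a non-central element has an eigenbasis with two distinct eigenvalues -/
theorem exists_eigenbasis_two (ρ : Representation ℂ G V) [ρ.IsIrreducible]
    (hinj : Function.Injective ρ) (h2 : finrank ℂ V = 2) {g : G}
    (hg : g ∉ Subgroup.center G) :
    ∃ (b : Basis (Fin 2) ℂ V) (μ : Fin 2 → ℂ), (∀ i, ρ g (b i) = μ i • b i) ∧ μ 0 ≠ μ 1 := by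
  obtain ⟨ι, hι, b, μ, h1, -, hcard⟩ := exists_eigenbasis_rep ρ g
  rw [h2] at hcard
  let e : ι ≃ Fin 2 := Fintype.equivFinOfCardEq hcard
  refine ⟨b.reindex e, fun i => μ (e.symm i), ?_, ?_⟩
  · intro i
    rw [Basis.reindex_apply]
    exact h1 _
  · intro heq
    apply hg
    rw [mem_center_iff_scalar ρ hinj]
    refine ⟨μ (e.symm 0), ?_⟩
    apply (b.reindex e).ext
    intro i
    rw [Basis.reindex_apply, h1]
    have : μ (e.symm i) = μ (e.symm 0) := by
      fin_cases i
      · rfl
      · exact heq.symm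
    rw [this]
    simp

/-- a vector which is an eigenvector of a diagonal operator with distinct eigenvalues is a
multiple of a basis vector -/
theorem eigen_mem_span_two (b : Basis (Fin 2) ℂ V) (T : V →ₗ[ℂ] V) (τ : Fin 2 → ℂ)
    (hT : ∀ k, T (b k) = τ k • b k) (hτ : τ 0 ≠ τ 1) (v : V) (i : Fin 2)
    (hv : T v = τ i • v) : v = b.repr v i • b i := by
  have hinjτ : ∀ j, τ j = τ i → j = i := by
    intro j hj
    fin_cases i <;> fin_cases j <;> first | rfl | (exfalso; simp at hj; first | exact hτ hj | exact hτ hj.symm)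
  have hz : ∀ j, j ≠ i → b.repr v j = 0 := by
    intro j hji
    by_contra hne
    exact hji (hinjτ j (eigen_coeff' b T τ hT v (τ i) hv j hne))
  conv_lhs => rw [← b.sum_repr v]
  rw [Finset.sum_eq_single i]
  · intro j _ hji
    rw [hz j hji, zero_smul]
  · intro h
    exact absurd (Finset.mem_univ i) h

/-- the centralizer of a non-central element is the diagonal subgroup of an eigenbasis -/
theorem centralizer_eq_diagSub (ρ : Representation ℂ G V) (hinj : Function.Injective ρ)
    (g : G) (b : Basis (Fin 2) ℂ V) (μ : Fin 2 → ℂ) (hb : ∀ i, ρ g (b i) = μ i • b i)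
    (hμ : μ 0 ≠ μ 1) : Subgroup.centralizer {g} = diagSub ρ b := by
  apply le_antisymm
  · intro h hh
    rw [Subgroup.mem_centralizer_iff] at hh
    have hcomm : g * h = h * g := hh g (Set.mem_singleton g)
    intro i
    refine ⟨b.repr (ρ h (b i)) i, ?_⟩
    apply eigen_mem_span_two b (ρ g) μ hb hμ
    rw [← Module.End.mul_apply, ← map_mul, hcomm, map_mul, Module.End.mul_apply, hb, map_smul]
  · intro h hh
    rw [Subgroup.mem_centralizer_iff]
    intro x hx
    rw [Set.mem_singleton_iff] at hx
    rw [hx]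
    have hgd : g ∈ diagSub ρ b := fun i => ⟨μ i, hb i⟩
    exact diagSub_comm ρ hinj b g hgd h hh

/-- centralizers of non-central elements are commutative -/
theorem centralizer_comm (ρ : Representation ℂ G V) [ρ.IsIrreducible]
    (hinj : Function.Injective ρ) (h2 : finrank ℂ V = 2) {g : G}
    (hg : g ∉ Subgroup.center G) :
    ∀ x ∈ Subgroup.centralizer {g}, ∀ y ∈ Subgroup.centralizer {g}, x * y = y * x := by
  obtain ⟨b, μ, hb, hμ⟩ := exists_eigenbasis_two ρ hinj h2 hg
  rw [centralizer_eq_diagSub ρ hinj g b μ hb hμ]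
  exact diagSub_comm ρ hinj b

/-- two non-central commuting elements have the same centralizer -/
theorem centralizer_eq_of_mem (ρ : Representation ℂ G V) [ρ.IsIrreducible]
    (hinj : Function.Injective ρ) (h2 : finrank ℂ V = 2) {g x : G}
    (hg : g ∉ Subgroup.center G) (hx : x ∉ Subgroup.center G)
    (hxg : x ∈ Subgroup.centralizer {g}) :
    Subgroup.centralizer {x} = Subgroup.centralizer {g} := by
  have hgx : g ∈ Subgroup.centralizer {x} := by
    rw [Subgroup.mem_centralizer_iff] at hxg ⊢
    intro y hy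
    rw [Set.mem_singleton_iff] at hy
    rw [hy]
    exact (hxg g (Set.mem_singleton g)).symm
  have hgg : g ∈ Subgroup.centralizer {g} := by
    rw [Subgroup.mem_centralizer_iff]
    intro y hy
    rw [Set.mem_singleton_iff] at hy
    rw [hy]
  have hxx : x ∈ Subgroup.centralizer {x} := by
    rw [Subgroup.mem_centralizer_iff]
    intro y hy
    rw [Set.mem_singleton_iff] at hy
    rw [hy]
  apply le_antisymm
  · intro y hy
    rw [Subgroup.mem_centralizer_iff]
    intro z hz
    rw [Set.mem_singleton_iff] at hz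
    rw [hz]
    exact centralizer_comm ρ hinj h2 hx g hgx y hy
  · intro y hy
    rw [Subgroup.mem_centralizer_iff]
    intro z hz
    rw [Set.mem_singleton_iff] at hz
    rw [hz]
    exact centralizer_comm ρ hinj h2 hg x hxg y hy

end Cfsg.Agent.Helper6
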