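import Mathlib
import Cfsg.Agent.Helper6.PrimTwoA

/-!
# Faithful irreducible representations of degree two: normalizers of centralizers
-/

set_option autoImplicit false
set_option linter.style.haveILetI false
set_option linter.unusedSectionVars false

namespace Cfsg.Agent.Helper6

open Module

variable {G : Type*} [Group G] [Finite G]
variable {V : Type*} [AddCommGroup V] [Module ℂ V] [FiniteDimensional ℂ V]

theorem conj_not_mem_center {g : G} (hg : g ∉ Subgroup.center G) (x : G) :
    x * g * x⁻¹ ∉ Subgroup.center G := by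
  intro h
  apply hg
  have := (Subgroup.center G).normal_of_characteristic.conj_mem _ h x⁻¹
  simpa [mul_assoc] using this

/-- an element of the normalizer of the centralizer of a non-central element either lies in
the centralizer or interchanges the two eigenlines -/
theorem normalizer_dichotomy (ρ : Representation ℂ G V) [ρ.IsIrreducible]
    (hinj : Function.Injective ρ) {g : G} (hg : g ∉ Subgroup.center G)
    (b : Basis (Fin 2) ℂ V) (μ : Fin 2 → ℂ) (hb : ∀ i, ρ g (b i) = μ i • b i)
    (hμ : μ 0 ≠ μ 1) {x : G}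
    (hx : x ∈ Subgroup.normalizer ((Subgroup.centralizer {g} : Subgroup G) : Set G)) :
    x ∈ Subgroup.centralizer {g} ∨
      ∃ t₀ t₁ : ℂ, ρ x (b 0) = t₀ • b 1 ∧ ρ x (b 1) = t₁ • b 0 := by
  have hC := centralizer_eq_diagSub ρ hinj g b μ hb hμ
  have hgC : g ∈ Subgroup.centralizer {g} := by
    rw [Subgroup.mem_centralizer_iff]
    intro y hy
    rw [Set.mem_singleton_iff] at hy
    rw [hy]
  have hg' : x * g * x⁻¹ ∈ diagSub ρ b := by
    rw [← hC]
    exact (Subgroup.mem_normalizer_iff.mp hx g).mp hgC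
  have hg'c : x * g * x⁻¹ ∉ Subgroup.center G := conj_not_mem_center hg x
  choose μ' hμ' using hg'
  have hμ'ne : μ' 0 ≠ μ' 1 := by
    intro heq
    apply hg'c
    rw [mem_center_iff_scalar ρ hinj]
    refine ⟨μ' 0, ?_⟩
    apply b.ext
    intro i
    rw [hμ' i]
    have : μ' i = μ' 0 := by
      fin_cases i
      · rfl
      · exact heq.symm
    rw [this]
    simp
  -- images of the basis vectors are eigenvectors of the conjugate
  have heig : ∀ i, ρ (x * g * x⁻¹) (ρ x (b i)) = μ i • ρ x (b i) := by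
    intro i
    rw [← Module.End.mul_apply, ← map_mul]
    have : x * g * x⁻¹ * x = x * g := by group
    rw [this, map_mul, Module.End.mul_apply, hb, map_smul]
  -- each image is a multiple of a basis vector
  have hspan : ∀ i, ∃ j, ρ x (b i) = b.repr (ρ x (b i)) j • b j := by
    intro i
    have hne : ρ x (b i) ≠ 0 := rep_apply_ne_zero ρ x (b.ne_zero i)
    obtain ⟨j, hj⟩ : ∃ j, b.repr (ρ x (b i)) j ≠ 0 := by
      by_contra hcon
      push Not at hcon
      apply hne
      rw [← b.sum_repr (ρ x (b i))]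
      apply Finset.sum_eq_zero
      intro j _
      rw [hcon j, zero_smul]
    refine ⟨j, ?_⟩
    have hτ := eigen_coeff' b (ρ (x * g * x⁻¹)) μ' hμ' (ρ x (b i)) (μ i) (heig i) j hj
    apply eigen_mem_span_two b (ρ (x * g * x⁻¹)) μ' hμ' hμ'ne
    rw [hτ]
    exact heig i
  obtain ⟨j₀, hj₀⟩ := hspan 0
  obtain ⟨j₁, hj₁⟩ := hspan 1
  -- the two images are linearly independent, so `j₀ ≠ j₁`
  have hne01 : j₀ ≠ j₁ := by
    intro heq
    rw [← heq] at hj₁
    set s₀ := b.repr (ρ x (b 0)) j₀ with hs₀
    set s₁ := b.repr (ρ x (b 1)) j₀ with hs₁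
    have h0 : ρ x (s₁ • b 0 - s₀ • b 1) = 0 := by
      rw [map_sub, map_smul, map_smul, hj₀, hj₁, smul_smul, smul_smul, mul_comm, sub_self]
    have h1 : s₁ • b 0 - s₀ • b 1 = 0 := by
      by_contra hne
      exact rep_apply_ne_zero ρ x hne h0
    have h2 := congrArg (fun v => b.repr v 0) h1
    simp only [map_sub, map_smul, Basis.repr_self, Finsupp.coe_sub, Finsupp.coe_smul, Pi.sub_apply,
      Pi.smul_apply, Finsupp.single_eq_same, smul_eq_mul, mul_one, map_zero,
      Finsupp.coe_zero, Pi.zero_apply] at h2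
    have h3 : s₁ = 0 := by
      have : (Finsupp.single (1 : Fin 2) (1 : ℂ)) 0 = 0 := by
        rw [Finsupp.single_apply]
        simp
      rw [this, mul_zero, sub_zero] at h2
      exact h2
    have hne1 : ρ x (b 1) ≠ 0 := rep_apply_ne_zero ρ x (b.ne_zero 1)
    rw [hj₁, h3, zero_smul] at hne1
    exact hne1 rfl
  by_cases hj0 : j₀ = 0
  · left
    have hj1 : j₁ = 1 := by
      rw [hj0] at hne01
      fin_cases j₁
      · exact absurd rfl hne01
      · rfl
    rw [hC]
    intro i
    fin_cases i
    · exact ⟨_, by rw [hj0] at hj₀; exact hj₀⟩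
    · exact ⟨_, by rw [hj1] at hj₁; exact hj₁⟩
  · right
    have hj0' : j₀ = 1 := by
      fin_cases j₀
      · exact absurd rfl hj0
      · rfl
    have hj1 : j₁ = 0 := by
      rw [hj0'] at hne01
      fin_cases j₁
      · rfl
      · exact absurd rfl hne01
    rw [hj0'] at hj₀
    rw [hj1] at hj₁
    exact ⟨b.repr (ρ x (b 0)) 1, b.repr (ρ x (b 1)) 0, hj₀, hj₁⟩

/-- the centralizer of a non-central element has index at most two in its normalizer -/
theorem index_centralizer_in_normalizer_le (ρ : Representation ℂ G V) [ρ.IsIrreducible]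
    (hinj : Function.Injective ρ) (h2 : finrank ℂ V = 2) {g : G}
    (hg : g ∉ Subgroup.center G) :
    ((Subgroup.centralizer {g}).subgroupOf
      (Subgroup.normalizer ((Subgroup.centralizer {g} : Subgroup G) : Set G))).index ≤ 2 := by
  classical
  obtain ⟨b, μ, hb, hμ⟩ := exists_eigenbasis_two ρ hinj h2 hg
  have hC := centralizer_eq_diagSub ρ hinj g b μ hb hμ
  set N := Subgroup.normalizer ((Subgroup.centralizer {g} : Subgroup G) : Set G) with hN
  have key : ∀ x y : N, (decide ((x : G) ∈ Subgroup.centralizer {g})) =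
      (decide ((y : G) ∈ Subgroup.centralizer {g})) →
      x⁻¹ * y ∈ (Subgroup.centralizer {g}).subgroupOf N := by
    intro x y hxy
    rw [Subgroup.mem_subgroupOf]
    by_cases hxC : (x : G) ∈ Subgroup.centralizer {g}
    · have hyC : (y : G) ∈ Subgroup.centralizer {g} := by
        have := hxy
        rw [decide_eq_true hxC] at this
        exact of_decide_eq_true this.symm
      rw [Subgroup.coe_mul, Subgroup.coe_inv]
      exact mul_mem (inv_mem hxC) hyC
    · have hyC : (y : G) ∉ Subgroup.centralizer {g} := by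
        have := hxy
        rw [decide_eq_false hxC] at this
        exact of_decide_eq_false this.symm
      rcases normalizer_dichotomy ρ hinj hg b μ hb hμ x.2 with h | ⟨t₀, t₁, ht₀, ht₁⟩
      · exact absurd h hxC
      rcases normalizer_dichotomy ρ hinj hg b μ hb hμ y.2 with h | ⟨s₀, s₁, hs₀, hs₁⟩
      · exact absurd h hyC
      have ht₀0 : t₀ ≠ 0 := by
        intro h0
        rw [h0, zero_smul] at ht₀
        exact rep_apply_ne_zero ρ _ (b.ne_zero 0) ht₀
      have ht₁0 : t₁ ≠ 0 := by
        intro h0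
        rw [h0, zero_smul] at ht₁
        exact rep_apply_ne_zero ρ _ (b.ne_zero 1) ht₁
      -- inverse of x on basis vectors
      have hx1 : ρ (x : G)⁻¹ (b 1) = t₀⁻¹ • b 0 := by
        have h1 := rep_inv_apply_apply' ρ (x : G) (b 0)
        rw [ht₀, map_smul] at h1
        have h3 : t₀⁻¹ • (t₀ • ρ (x : G)⁻¹ (b 1)) = t₀⁻¹ • b 0 := by rw [h1]
        rw [smul_smul, inv_mul_cancel₀ ht₀0, one_smul] at h3
        exact h3
      have hx0 : ρ (x : G)⁻¹ (b 0) = t₁⁻¹ • b 1 := by
        have h1 := rep_inv_apply_apply' ρ (x : G) (b 1)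
        rw [ht₁, map_smul] at h1
        have h3 : t₁⁻¹ • (t₁ • ρ (x : G)⁻¹ (b 0)) = t₁⁻¹ • b 1 := by rw [h1]
        rw [smul_smul, inv_mul_cancel₀ ht₁0, one_smul] at h3
        exact h3
      rw [Subgroup.coe_mul, Subgroup.coe_inv, hC]
      intro i
      fin_cases i
      · refine ⟨s₀ * t₀⁻¹, ?_⟩
        show ρ ((x : G)⁻¹ * (y : G)) (b 0) = _
        rw [map_mul, Module.End.mul_apply, hs₀, map_smul, hx1, smul_smul]
        rfl
      · refine ⟨s₁ * t₁⁻¹, ?_⟩
        show ρ ((x : G)⁻¹ * (y : G)) (b 1) = _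
        rw [map_mul, Module.End.mul_apply, hs₁, map_smul, hx0, smul_smul]
        rfl
  have := index_le_of_map ((Subgroup.centralizer {g}).subgroupOf N)
    (fun x : N => decide ((x : G) ∈ Subgroup.centralizer {g})) key
  rwa [Nat.card_eq_fintype_card, Fintype.card_bool] at this

end Cfsg.Agent.Helper6
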