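import Mathlib
import Cfsg.Agent.Helper6.PrimTwoB

/-!
# Faithful irreducible representations of degree two: character sums over centralizers
-/

set_option autoImplicit false
set_option linter.style.haveILetI false
set_option linter.unusedSectionVars false

namespace Cfsg.Agent.Helper6

open Module

variable {G : Type*} [Group G] [Finite G]
variable {V : Type*} [AddCommGroup V] [Module ℂ V] [FiniteDimensional ℂ V]

/-- a multiplicative function on a finite subgroup which is not identically one sums to zero -/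
theorem sum_mult_eq_zero (C : Subgroup G) [Fintype C] (f : G → ℂ)
    (hf : ∀ x ∈ C, ∀ y ∈ C, f (x * y) = f x * f y) {g : G} (hg : g ∈ C) (hfg : f g ≠ 1) :
    ∑ x : C, f (x : G) = 0 := by
  have h1 : f g * ∑ x : C, f (x : G) = ∑ x : C, f (x : G) := by
    rw [Finset.mul_sum]
    rw [← Equiv.sum_comp (Equiv.mulLeft (⟨g, hg⟩ : C)) (fun x : C => f (x : G))]
    apply Finset.sum_congr rfl
    intro x _
    rw [Equiv.coe_mulLeft, Subgroup.coe_mul, hf g hg x x.2]
  have h2 : (f g - 1) * ∑ x : C, f (x : G) = 0 := by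
    rw [sub_mul, h1, one_mul, sub_self]
  rcases mul_eq_zero.mp h2 with h | h
  · exact absurd (sub_eq_zero.mp h) hfg
  · exact h

/-- the sum of `χ(x) χ(x⁻¹)` over a diagonal subgroup containing a non-scalar element -/
theorem sum_char_diag (ρ : Representation ℂ G V) (b : Basis (Fin 2) ℂ V) (C : Subgroup G)
    [Fintype C] (hC : C = diagSub ρ b) {g : G} (μ : Fin 2 → ℂ)
    (hb : ∀ i, ρ g (b i) = μ i • b i) (hμ : μ 0 ≠ μ 1) :
    ∑ x : C, ρ.character (x : G) * ρ.character ((x : G)⁻¹) = 2 * (Fintype.card C : ℂ) := by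
  have hgC : g ∈ C := by
    rw [hC]
    exact fun i => ⟨μ i, hb i⟩
  let t : Fin 2 → G → ℂ := fun i x => b.repr (ρ x (b i)) i
  have ht : ∀ x ∈ C, ∀ i, ρ x (b i) = t i x • b i := by
    intro x hx i
    rw [hC] at hx
    obtain ⟨s, hs⟩ := hx i
    have : t i x = s := by
      show b.repr (ρ x (b i)) i = s
      rw [hs, map_smul, Basis.repr_self, Finsupp.smul_apply, Finsupp.single_eq_same, smul_eq_mul,
        mul_one]
    rw [this, hs]
  have htmul : ∀ x ∈ C, ∀ y ∈ C, ∀ i, t i (x * y) = t i x * t i y := by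
    intro x hx y hy i
    have h1 := ht (x * y) (mul_mem hx hy) i
    rw [map_mul, Module.End.mul_apply, ht y hy i, map_smul, ht x hx i, smul_smul] at h1
    have h3 := congrArg (fun v => b.repr v i) h1
    simp only [map_smul, Basis.repr_self, Finsupp.smul_apply, Finsupp.single_eq_same, smul_eq_mul,
      mul_one] at h3
    rw [← h3, mul_comm]
  have htone : ∀ i, t i 1 = 1 := by
    intro i
    show b.repr (ρ 1 (b i)) i = 1
    rw [map_one, Module.End.one_apply, Basis.repr_self, Finsupp.single_eq_same]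
  have htne : ∀ x ∈ C, ∀ i, t i x ≠ 0 := by
    intro x hx i h0
    have h1 := htmul x hx x⁻¹ (inv_mem hx) i
    rw [mul_inv_cancel, htone, h0, zero_mul] at h1
    exact one_ne_zero h1
  have htinv : ∀ x ∈ C, ∀ i, t i x⁻¹ = (t i x)⁻¹ := by
    intro x hx i
    have h1 := htmul x hx x⁻¹ (inv_mem hx) i
    rw [mul_inv_cancel, htone] at h1
    exact eq_inv_of_mul_eq_one_right h1.symm
  have hchar : ∀ x ∈ C, ρ.character x = t 0 x + t 1 x := by
    intro x hx
    unfold Representation.character
    rw [trace_eq_sum_of_eigenbasis b (ρ x) (fun i => t i x) (ht x hx), Fin.sum_univ_two]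
  have htg : ∀ i, t i g = μ i := by
    intro i
    show b.repr (ρ g (b i)) i = μ i
    rw [hb, map_smul, Basis.repr_self, Finsupp.smul_apply, Finsupp.single_eq_same, smul_eq_mul,
      mul_one]
  -- the ratio
  let lam : G → ℂ := fun x => t 0 x * (t 1 x)⁻¹
  have hlam : ∀ x ∈ C, ∀ y ∈ C, lam (x * y) = lam x * lam y := by
    intro x hx y hy
    show t 0 (x * y) * (t 1 (x * y))⁻¹ = t 0 x * (t 1 x)⁻¹ * (t 0 y * (t 1 y)⁻¹)
    rw [htmul x hx y hy, htmul x hx y hy, mul_inv]
    ring
  have hlamg : lam g ≠ 1 := by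
    show t 0 g * (t 1 g)⁻¹ ≠ 1
    rw [htg, htg]
    intro h
    apply hμ
    have h1 : μ 1 ≠ 0 := by
      rw [← htg 1]
      exact htne g hgC 1
    field_simp at h
    exact h
  have hs1 : ∑ x : C, lam (x : G) = 0 := sum_mult_eq_zero C lam hlam hgC hlamg
  have hs2 : ∑ x : C, (lam (x : G))⁻¹ = 0 := by
    have h1 : ∑ x : C, (lam (x : G))⁻¹ = ∑ x : C, lam ((x⁻¹ : C) : G) := by
      apply Finset.sum_congr rfl
      intro x _
      show (t 0 x * (t 1 x)⁻¹)⁻¹ = t 0 ((x⁻¹ : C) : G) * (t 1 ((x⁻¹ : C) : G))⁻¹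
      rw [Subgroup.coe_inv, htinv x x.2, htinv x x.2, mul_inv]
    rw [h1]
    have h2 := Equiv.sum_comp (Equiv.inv C) (fun x : C => lam (x : G))
    rw [← hs1, ← h2]
    rfl
  have hterm : ∀ x : C, ρ.character (x : G) * ρ.character ((x : G)⁻¹) =
      2 + lam (x : G) + (lam (x : G))⁻¹ := by
    intro x
    rw [hchar x x.2, hchar _ (inv_mem x.2), htinv x x.2, htinv x x.2]
    have h0 := htne x x.2 0
    have h1 := htne x x.2 1
    show _ = 2 + t 0 x * (t 1 x)⁻¹ + (t 0 x * (t 1 x)⁻¹)⁻¹
    field_simp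
    ring
  simp_rw [hterm]
  rw [Finset.sum_add_distrib, Finset.sum_add_distrib, hs1, hs2, Finset.sum_const, Finset.card_univ,
    nsmul_eq_mul]
  ring

/-- the sum of `χ(x) χ(x⁻¹)` over the centralizer of a non-central element -/
theorem sum_char_centralizer (ρ : Representation ℂ G V) [ρ.IsIrreducible]
    (hinj : Function.Injective ρ) (h2 : finrank ℂ V = 2) {g : G}
    (hg : g ∉ Subgroup.center G) [Fintype (Subgroup.centralizer ({g} : Set G))] :
    ∑ x : Subgroup.centralizer ({g} : Set G), ρ.character (x : G) * ρ.character ((x : G)⁻¹) =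
      2 * (Fintype.card (Subgroup.centralizer ({g} : Set G)) : ℂ) := by
  obtain ⟨b, μ, hb, hμ⟩ := exists_eigenbasis_two ρ hinj h2 hg
  exact sum_char_diag ρ b _ (centralizer_eq_diagSub ρ hinj g b μ hb hμ) μ hb hμ

/-- the value of `χ(z) χ(z⁻¹)` at a central element -/
theorem char_mul_char_inv_of_mem_center (ρ : Representation ℂ G V) [ρ.IsIrreducible]
    (h2 : finrank ℂ V = 2) {z : G} (hz : z ∈ Subgroup.center G) :
    ρ.character z * ρ.character z⁻¹ = 4 := by
  obtain ⟨ω, hω⟩ := exists_scalar_of_mem_center ρ z hz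
  obtain ⟨ω', hω'⟩ := exists_scalar_of_mem_center ρ z⁻¹ (inv_mem hz)
  have h1 : ω * ω' = 1 := by
    have h3 : ρ z * ρ z⁻¹ = 1 := by rw [← map_mul, mul_inv_cancel, map_one]
    rw [hω, hω'] at h3
    haveI : Nontrivial V := by
      apply Module.nontrivial_of_finrank_pos (R := ℂ)
      rw [h2]
      norm_num
    obtain ⟨v, hv⟩ := exists_ne (0 : V)
    have h4 := congrArg (fun T : V →ₗ[ℂ] V => T v) h3
    simp only [Module.End.mul_apply, LinearMap.smul_apply, LinearMap.id_apply,
      Module.End.one_apply, smul_smul] at h4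
    have h5 : (ω * ω' - 1) • v = 0 := by
      rw [sub_smul, one_smul, h4, sub_self]
    rcases smul_eq_zero.mp h5 with h | h
    · exact sub_eq_zero.mp h
    · exact absurd h hv
  unfold Representation.character
  rw [hω, hω', map_smul, map_smul, LinearMap.trace_id, h2]
  simp only [smul_eq_mul]
  push_cast
  linear_combination 4 * h1

end Cfsg.Agent.Helper6
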