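import Mathlib

/-!
# Summing an invariant function over orbits; the conjugation action on subgroups
-/

set_option autoImplicit false
set_option linter.style.haveILetI false
set_option linter.unusedSectionVars false

namespace Cfsg.Agent.Helper6

open MulAction

/-- the sum of an invariant function is the sum over orbit representatives weighted by the orbit
sizes -/
theorem sum_eq_sum_orbits {α X : Type*} [Group α] [MulAction α X] [Fintype X]
    [Fintype (orbitRel.Quotient α X)] (f : X → ℕ) (hf : ∀ (a : α) (x : X), f (a • x) = f x) :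
    ∑ x, f x = ∑ ω : orbitRel.Quotient α X, (stabilizer α ω.out).index * f ω.out := by
  classical
  rw [← Finset.sum_fiberwise (s := Finset.univ)
    (g := fun x => (Quotient.mk'' x : orbitRel.Quotient α X)) (f := f)]
  apply Finset.sum_congr rfl
  intro ω _
  have hmem : ∀ x : X, (Quotient.mk'' x : orbitRel.Quotient α X) = ω ↔ x ∈ orbit α ω.out := by
    intro x
    rw [← orbitRel.Quotient.orbit_eq_orbit_out ω Quotient.out_eq', orbitRel.Quotient.mem_orbit]
  have h1 : ∀ x ∈ Finset.univ.filter
      (fun x => (Quotient.mk'' x : orbitRel.Quotient α X) = ω), f x = f ω.out := by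
    intro x hx
    rw [Finset.mem_filter] at hx
    obtain ⟨a, ha⟩ := mem_orbit_iff.mp ((hmem x).mp hx.2)
    rw [← ha, hf]
  rw [Finset.sum_congr rfl h1, Finset.sum_const, smul_eq_mul]
  congr 1
  rw [index_stabilizer, Set.ncard_eq_toFinset_card']
  congr 1
  ext x
  simp only [Finset.mem_filter, Finset.mem_univ, true_and, Set.mem_toFinset]
  exact hmem x

variable {G : Type*} [Group G]

/-- the conjugation action of a group on its subgroups -/
@[instance_reducible]
def conjSubAction : MulAction G (Subgroup G) where
  smul g C := C.map (MulAut.conj g).toMonoidHom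
  one_smul C := by
    show C.map (MulAut.conj (1 : G)).toMonoidHom = C
    rw [map_one]
    exact Subgroup.map_id C
  mul_smul g h C := by
    show C.map (MulAut.conj (g * h)).toMonoidHom =
      (C.map (MulAut.conj h).toMonoidHom).map (MulAut.conj g).toMonoidHom
    rw [Subgroup.map_map, map_mul]
    rfl

theorem conjSub_smul_def (g : G) (C : Subgroup G) :
    (letI := conjSubAction (G := G); g • C) = C.map (MulAut.conj g).toMonoidHom := rfl

theorem mem_conjSub_smul (g x : G) (C : Subgroup G) :
    x ∈ (letI := conjSubAction (G := G); g • C) ↔ g⁻¹ * x * g ∈ C := by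
  rw [conjSub_smul_def, Subgroup.mem_map]
  constructor
  · rintro ⟨y, hy, rfl⟩
    simpa [mul_assoc] using hy
  · intro h
    refine ⟨g⁻¹ * x * g, h, ?_⟩
    simp [mul_assoc]

theorem conjSub_smul_centralizer (g x : G) :
    (letI := conjSubAction (G := G); g • Subgroup.centralizer ({x} : Set G)) =
      Subgroup.centralizer ({g * x * g⁻¹} : Set G) := by
  ext y
  rw [mem_conjSub_smul, Subgroup.mem_centralizer_iff, Subgroup.mem_centralizer_iff]
  constructor
  · intro h z hz
    rw [Set.mem_singleton_iff] at hz
    have h1 := h x (Set.mem_singleton x)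
    rw [hz]
    have h2 : g * (x * (g⁻¹ * y * g)) * g⁻¹ = g * ((g⁻¹ * y * g) * x) * g⁻¹ := by rw [h1]
    simpa [mul_assoc] using h2
  · intro h z hz
    rw [Set.mem_singleton_iff] at hz
    have h1 := h (g * x * g⁻¹) (Set.mem_singleton _)
    rw [hz]
    have h2 : g⁻¹ * (g * x * g⁻¹ * y) * g = g⁻¹ * (y * (g * x * g⁻¹)) * g := by rw [h1]
    simpa [mul_assoc] using h2

theorem stabilizer_conjSub (C : Subgroup G) :
    (letI := conjSubAction (G := G); stabilizer G C) = Subgroup.normalizer (C : Set G) := by
  ext g
  rw [Subgroup.mem_normalizer_iff_map_conj_eq]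
  rfl

theorem card_conjSub_smul [Finite G] (g : G) (C : Subgroup G) :
    Nat.card (letI := conjSubAction (G := G); g • C : Subgroup G) = Nat.card C := by
  rw [conjSub_smul_def]
  exact Subgroup.card_map_of_injective (MulAut.conj g).injective

end Cfsg.Agent.Helper6
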