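import Mathlib

/-!
# The Diophantine analysis for primitive linear groups of degree two
-/

set_option autoImplicit false
set_option linter.style.haveILetI false
set_option linter.unusedSectionVars false

namespace Cfsg.Agent.Helper6

theorem dioph_three_sorted (g c1 c2 c3 k1 k2 k3 : ℕ) (h1 : 2 * k1 * c1 = g) (h2 : 2 * k2 * c2 = g)
    (h3 : 2 * k3 * c3 = g) (hk1 : 2 ≤ k1) (hk2 : 2 ≤ k2) (hk3 : 2 ≤ k3) (hc1 : 2 ≤ c1)
    (h12 : c1 ≤ c2) (h23 : c2 ≤ c3) (hs : 2 * (k1 + k2 + k3) = g + 2) :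
    g = 12 ∨ g = 24 ∨ g = 60 := by
  have hc1' : c1 = 2 := by
    by_contra hne
    have hc13 : 3 ≤ c1 := by omega
    have a1 : 6 * k1 ≤ g := by nlinarith
    have a2 : 6 * k2 ≤ g := by nlinarith
    have a3 : 6 * k3 ≤ g := by nlinarith
    omega
  subst hc1'
  have hc2' : c2 ≤ 3 := by
    by_contra hne
    have hc24 : 4 ≤ c2 := by omega
    have a2 : 8 * k2 ≤ g := by nlinarith
    have a3 : 8 * k3 ≤ g := by nlinarith
    omega
  interval_cases c2
  · omega
  · have hc3 : c3 < 6 := by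
      by_contra hne
      have hc36 : 6 ≤ c3 := by omega
      have a3 : 12 * k3 ≤ g := by nlinarith
      omega
    interval_cases c3 <;> omega

theorem dioph_three (g c1 c2 c3 k1 k2 k3 : ℕ) (h1 : 2 * k1 * c1 = g) (h2 : 2 * k2 * c2 = g)
    (h3 : 2 * k3 * c3 = g) (hk1 : 2 ≤ k1) (hk2 : 2 ≤ k2) (hk3 : 2 ≤ k3) (hc1 : 2 ≤ c1)
    (hc2 : 2 ≤ c2) (hc3 : 2 ≤ c3) (hs : 2 * (k1 + k2 + k3) = g + 2) :
    g = 12 ∨ g = 24 ∨ g = 60 := by
  rcases le_total c1 c2 with h12 | h12 <;> rcases le_total c2 c3 with h23 | h23 <;>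
    rcases le_total c1 c3 with h13 | h13
  · exact dioph_three_sorted g c1 c2 c3 k1 k2 k3 h1 h2 h3 hk1 hk2 hk3 hc1 h12 h23 hs
  · exact dioph_three_sorted g c1 c2 c3 k1 k2 k3 h1 h2 h3 hk1 hk2 hk3 hc1 h12 h23 hs
  · exact dioph_three_sorted g c1 c3 c2 k1 k3 k2 h1 h3 h2 hk1 hk3 hk2 hc1 h13 h23 (by omega)
  · exact dioph_three_sorted g c3 c1 c2 k3 k1 k2 h3 h1 h2 hk3 hk1 hk2 hc3 h13 h12 (by omega)
  · exact dioph_three_sorted g c2 c1 c3 k2 k1 k3 h2 h1 h3 hk2 hk1 hk3 hc2 h12 h13 (by omega)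
  · exact dioph_three_sorted g c2 c3 c1 k2 k3 k1 h2 h3 h1 hk2 hk3 hk1 hc2 h23 h13 (by omega)
  · exact dioph_three_sorted g c3 c2 c1 k3 k2 k1 h3 h2 h1 hk3 hk2 hk1 hc3 h23 h12 (by omega)
  · exact dioph_three_sorted g c3 c2 c1 k3 k2 k1 h3 h2 h1 hk3 hk2 hk1 hc3 h23 h12 (by omega)

theorem dioph_two (g ca cb ka kb : ℕ) (ha : ka * ca = g) (hb : 2 * kb * cb = g) (hka : 3 ≤ ka)
    (hkb : 2 ≤ kb) (hca : 2 ≤ ca) (hcb : 2 ≤ cb) (hs : 2 * (ka + kb) = g + 2) : g = 12 := by
  have hca' : ca ≤ 3 := by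
    by_contra hne
    have hca4 : 4 ≤ ca := by omega
    have a1 : 4 * ka ≤ g := by nlinarith
    have a2 : 4 * kb ≤ g := by nlinarith
    omega
  interval_cases ca
  · omega
  · have hcb' : cb < 3 := by
      by_contra hne
      have hcb3 : 3 ≤ cb := by omega
      have a2 : 6 * kb ≤ g := by nlinarith
      omega
    interval_cases cb
    omega

/-- the main Diophantine statement -/
theorem dioph_main {Ω : Type*} (S : Finset Ω) (k c ν : Ω → ℕ) (g : ℕ) (hg : 0 < g)
    (hν : ∀ ω ∈ S, ν ω = 1 ∨ ν ω = 2) (hc : ∀ ω ∈ S, 2 ≤ c ω)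
    (hk : ∀ ω ∈ S, k ω * ν ω * c ω = g)
    (hprim : ∀ ω ∈ S, k ω * ν ω ≠ 2) (hnab : ∀ ω ∈ S, k ω * ν ω ≠ 1)
    (h1 : ∑ ω ∈ S, k ω * (c ω - 1) + 1 = g) (h2 : ∑ ω ∈ S, k ω * (2 * c ω - 4) + 4 = g) :
    g = 12 ∨ g = 24 ∨ g = 60 := by
  classical
  set A := ∑ ω ∈ S, k ω * c ω with hA
  set B := ∑ ω ∈ S, k ω with hB
  have e1 : ∑ ω ∈ S, k ω * (c ω - 1) + B = A := by
    rw [hA, hB, ← Finset.sum_add_distrib]
    apply Finset.sum_congr rfl
    intro ω hω
    have := hc ω hω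
    obtain ⟨d, hd⟩ : ∃ d, c ω = d + 1 := ⟨c ω - 1, by omega⟩
    rw [hd]
    simp only [Nat.add_sub_cancel]
    ring
  have e2 : ∑ ω ∈ S, k ω * (2 * c ω - 4) + 4 * B = 2 * A := by
    rw [hA, hB, Finset.mul_sum, Finset.mul_sum, ← Finset.sum_add_distrib]
    apply Finset.sum_congr rfl
    intro ω hω
    have := hc ω hω
    obtain ⟨d, hd⟩ : ∃ d, c ω = d + 2 := ⟨c ω - 2, by omega⟩
    rw [hd]
    have : 2 * (d + 2) - 4 = 2 * d := by omega
    rw [this]
    ring
  have hB2 : 2 * B = g + 2 := by omega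
  have hA2 : 2 * A = 3 * g := by omega
  let e : Ω → ℕ := fun ω => if ν ω = 1 then 2 else 1
  have he : ∀ ω ∈ S, 2 * (k ω * c ω) = e ω * g := by
    intro ω hω
    have h3 := hk ω hω
    rcases hν ω hω with h | h
    · simp only [e, h, if_true]
      rw [h, mul_one] at h3
      rw [h3]
    · have hne : ν ω ≠ 1 := by omega
      simp only [e, hne, if_false]
      rw [h] at h3
      rw [← h3]
      ring
  have hsum : (∑ ω ∈ S, e ω) * g = 3 * g := by
    rw [Finset.sum_mul, ← hA2, hA, Finset.mul_sum]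
    apply Finset.sum_congr rfl
    intro ω hω
    exact (he ω hω).symm
  have hsum3 : ∑ ω ∈ S, e ω = 3 := Nat.eq_of_mul_eq_mul_right hg hsum
  have hkpos : ∀ ω ∈ S, 0 < k ω := by
    intro ω hω
    have h3 := hk ω hω
    rcases Nat.eq_zero_or_pos (k ω) with h | h
    · rw [h, zero_mul, zero_mul] at h3
      omega
    · exact h
  by_cases hex : ∃ ω₁ ∈ S, ν ω₁ = 1
  · obtain ⟨ω₁, hω₁, hν₁⟩ := hex
    have he1 : e ω₁ = 2 := by simp only [e, hν₁, if_true]
    have hrest : ∑ ω ∈ S.erase ω₁, e ω = 1 := by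
      have := Finset.add_sum_erase S e hω₁
      omega
    have hepos : ∀ ω, 1 ≤ e ω := by
      intro ω
      simp only [e]
      split_ifs <;> omega
    have hcard : (S.erase ω₁).card = 1 := by
      have h3 : (S.erase ω₁).card ≤ ∑ ω ∈ S.erase ω₁, e ω := by
        have := Finset.card_nsmul_le_sum (S.erase ω₁) e 1 (fun ω _ => hepos ω)
        simpa using this
      have h4 : (S.erase ω₁).card ≠ 0 := by
        intro h0
        rw [Finset.card_eq_zero] at h0
        rw [h0, Finset.sum_empty] at hrest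
        omega
      omega
    obtain ⟨ω₂, hω₂⟩ := Finset.card_eq_one.mp hcard
    have hω₂S : ω₂ ∈ S := by
      have : ω₂ ∈ S.erase ω₁ := by rw [hω₂]; exact Finset.mem_singleton_self _
      exact Finset.mem_of_mem_erase this
    have he2 : e ω₂ = 1 := by
      rw [hω₂, Finset.sum_singleton] at hrest
      exact hrest
    have hν₂ : ν ω₂ = 2 := by
      rcases hν ω₂ hω₂S with h | h
      · simp only [e, h, if_true] at he2
        omega
      · exact h
    have hBsplit : B = k ω₁ + k ω₂ := by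
      rw [hB, ← Finset.add_sum_erase S k hω₁, hω₂, Finset.sum_singleton]
    have hk1 := hk ω₁ hω₁
    have hk2 := hk ω₂ hω₂S
    rw [hν₁, mul_one] at hk1
    rw [hν₂] at hk2
    have hp1 := hprim ω₁ hω₁
    have hn1 := hnab ω₁ hω₁
    rw [hν₁, mul_one] at hp1 hn1
    have hp2 := hprim ω₂ hω₂S
    rw [hν₂] at hp2
    have hkp1 := hkpos ω₁ hω₁
    have hkp2 := hkpos ω₂ hω₂S
    left
    apply dioph_two g (c ω₁) (c ω₂) (k ω₁) (k ω₂) hk1 (by rw [← hk2]; ring) (by omega) (by omega)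
      (hc ω₁ hω₁) (hc ω₂ hω₂S)
    rw [← hBsplit]
    exact hB2
  · push Not at hex
    have hν2 : ∀ ω ∈ S, ν ω = 2 := by
      intro ω hω
      rcases hν ω hω with h | h
      · exact absurd h (hex ω hω)
      · exact h
    have he1 : ∀ ω ∈ S, e ω = 1 := by
      intro ω hω
      have := hex ω hω
      simp only [e, this, if_false]
    have hcard : S.card = 3 := by
      rw [Finset.sum_congr rfl he1] at hsum3
      simpa using hsum3
    obtain ⟨a, b, d, hab, had, hbd, hS⟩ := Finset.card_eq_three.mp hcard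
    have haS : a ∈ S := by rw [hS]; simp
    have hbS : b ∈ S := by rw [hS]; simp
    have hdS : d ∈ S := by rw [hS]; simp
    have hBsplit : B = k a + k b + k d := by
      rw [hB, hS, Finset.sum_insert (by simp [hab, had]), Finset.sum_insert (by simp [hbd]),
        Finset.sum_singleton]
      ring
    have hka := hk a haS
    have hkb := hk b hbS
    have hkd := hk d hdS
    rw [hν2 a haS] at hka
    rw [hν2 b hbS] at hkb
    rw [hν2 d hdS] at hkd
    have hpa := hprim a haS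
    have hpb := hprim b hbS
    have hpd := hprim d hdS
    rw [hν2 a haS] at hpa
    rw [hν2 b hbS] at hpb
    rw [hν2 d hdS] at hpd
    have hkpa := hkpos a haS
    have hkpb := hkpos b hbS
    have hkpd := hkpos d hdS
    apply dioph_three g (c a) (c b) (c d) (k a) (k b) (k d) (by rw [← hka]; ring)
      (by rw [← hkb]; ring) (by rw [← hkd]; ring) (by omega) (by omega) (by omega)
      (hc a haS) (hc b hbS) (hc d hdS)
    rw [← hBsplit]
    exact hB2

end Cfsg.Agent.Helper6
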